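import Mathlib
import Cfsg.Agent.Lib.Helper44_Inv2Class
import Cfsg.Agent.Lib.Helper44_WittMat

set_option autoImplicit false
set_option linter.unusedSectionVars false

/-!
Centralisers of involutions of an orthogonal group in characteristic two (helper44), orthogonal port of
`Helper44_SpCent`: for an involution `t = 1 + N` with a Gram family `x` (`f(N x_i, x_j) = G₀ i j`), the centraliser acts
transitively on the frames of Gram families, with the same point stabiliser as the whole isometry group, whose orbit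
is the set of linearly independent, pairwise orthogonal frames with prescribed `Q`-values.  Hence
`|C(t)| · #Q-frames = |O(Q)| · |O(G₀)|`.
-/

namespace Cfsg.Agent.Lib.Helper44_OCent

open Cfsg Matrix Module Cfsg.Agent.Lib.Helper44_Refl Cfsg.Agent.Lib.Helper44_Spinor
  Cfsg.Agent.Lib.Helper14_CartanDieudonne Cfsg.Agent.Lib.Helper44_Inv2
  Cfsg.Agent.Lib.Helper44_Inv2Class Cfsg.Agent.Lib.Helper44_WittMat

section generic

variable {ι : Type} [Fintype ι] [DecidableEq ι] {F : Type*} [Field F]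
variable {κ : Type} [Fintype κ] [DecidableEq κ]

/-- **Conjugacy from Gram data**, with the action on the Gram frame. -/
theorem conj_of_gram' (Q : QuadraticForm F (ι → F))
    (hQ : (QuadraticMap.polarBilin Q).Nondegenerate) (h2 : (2 : F) = 0)
    {T S : Matrix ι ι F} (hT : IsIsom Q T) (hTT : T * T = 1) (hS : IsIsom Q S) (hSS : S * S = 1)
    (G₀ H : Matrix κ κ F) (hGH : G₀ * H = 1)
    (hrT : Fintype.card κ = (T - 1).rank) (hrS : Fintype.card κ = (S - 1).rank)
    (x x' : κ → ι → F)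
    (hx : ∀ i j, QuadraticMap.polar (⇑Q) ((T - 1) *ᵥ x i) (x j) = G₀ i j)
    (hx' : ∀ i j, QuadraticMap.polar (⇑Q) ((S - 1) *ᵥ x' i) (x' j) = G₀ i j) :
    ∃ g : ↥(Cfsg.isometryGroup F (⇑Q)),
      ((g : Matrix.GeneralLinearGroup ι F) : Matrix ι ι F) * T
        = S * ((g : Matrix.GeneralLinearGroup ι F) : Matrix ι ι F) ∧
      ∀ j, ((g : Matrix.GeneralLinearGroup ι F) : Matrix ι ι F) *ᵥ ((T - 1) *ᵥ x j)
        = (S - 1) *ᵥ x' j := by
  have hL := comb_injective Q G₀ H hGH x hx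
  have hL' := comb_injective Q G₀ H hGH x' hx'
  set φ : ↥(LinearMap.range (comb T x)) ≃ₗ[F] ↥(LinearMap.range (comb S x')) :=
    (LinearEquiv.ofInjective (comb T x) hL).symm.trans (LinearEquiv.ofInjective (comb S x') hL')
    with hφdef
  have hφ1 : ∀ a : κ → F, φ ⟨comb T x a, LinearMap.mem_range_self _ a⟩
      = ⟨comb S x' a, LinearMap.mem_range_self _ a⟩ := by
    intro a
    have h1 : (LinearEquiv.ofInjective (comb T x) hL).symm
        ⟨comb T x a, LinearMap.mem_range_self _ a⟩ = a := by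
      rw [LinearEquiv.symm_apply_eq]
      apply Subtype.ext
      rw [LinearEquiv.ofInjective_apply]
    rw [hφdef, LinearEquiv.trans_apply, h1]
    apply Subtype.ext
    rw [LinearEquiv.ofInjective_apply]
  have hφQ : ∀ y : ↥(LinearMap.range (comb T x)), Q ((φ y : ι → F)) = Q (y : ι → F) := by
    rintro ⟨_, a, rfl⟩
    rw [hφ1 a]
    show Q (comb S x' a) = Q (comb T x a)
    rw [Q_comb_gram Q h2 hT hTT G₀ x hx, Q_comb_gram Q h2 hS hSS G₀ x' hx']
  obtain ⟨g, hg1, -⟩ := witt_matrix Q hQ _ _ φ hφQ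
  set G := ((g : Matrix.GeneralLinearGroup ι F) : Matrix ι ι F) with hG
  have hGiso : IsIsom Q G := isIsom_of_mem Q g
  have hGL : ∀ a : κ → F, G *ᵥ comb T x a = comb S x' a := by
    intro a
    have := hg1 ⟨comb T x a, LinearMap.mem_range_self _ a⟩
    rw [hφ1 a] at this
    exact this
  have hGw : ∀ j, G *ᵥ ((T - 1) *ᵥ x j) = (S - 1) *ᵥ x' j := by
    intro j
    rw [← comb_single (T := T) x j, hGL, comb_single]
  refine ⟨g, ?_, hGw⟩
  have key : ∀ v, G *ᵥ ((T - 1) *ᵥ v) = (S - 1) *ᵥ (G *ᵥ v) := by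
    intro v
    have h1 : (T - 1) *ᵥ v ∈ LinearMap.range (comb T x) := by
      rw [range_comb Q G₀ H hGH x hx hrT]
      exact ⟨v, rfl⟩
    have h1' : (S - 1) *ᵥ (G *ᵥ v) ∈ LinearMap.range (comb S x') := by
      rw [range_comb Q G₀ H hGH x' hx' hrS]
      exact ⟨G *ᵥ v, rfl⟩
    obtain ⟨a, ha⟩ := h1
    obtain ⟨a', ha'⟩ := h1'
    have haa' : a = a' := by
      apply vecMul_injective G₀ H hGH
      ext j
      rw [← polar_comb Q G₀ x hx a j, ← polar_comb Q G₀ x' hx' a' j, ha, ha',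
        polar_N_left Q hT hTT, polar_N_left Q hS hSS, ← hGw j, hGiso.polar]
    rw [← ha, hGL, haa', ha']
  apply matrix_ext_mulVec
  intro v
  have hTv : T *ᵥ v = (T - 1) *ᵥ v + v := by rw [N_apply]; abel
  have hSv : S *ᵥ (G *ᵥ v) = (S - 1) *ᵥ (G *ᵥ v) + G *ᵥ v := by rw [N_apply]; abel
  rw [← Matrix.mulVec_mulVec, ← Matrix.mulVec_mulVec, hTv, hSv, Matrix.mulVec_add, key]

/-- The form `f(N ·, ·)` on combinations of a Gram family. -/
theorem polar_comb_sum (Q : QuadraticForm F (ι → F)) {T : Matrix ι ι F} (G₀ : Matrix κ κ F)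
    (x : κ → ι → F) (hx : ∀ i j, QuadraticMap.polar (⇑Q) ((T - 1) *ᵥ x i) (x j) = G₀ i j)
    (a c : κ → F) :
    QuadraticMap.polar (⇑Q) (comb T x a) (∑ l, c l • x l) = (a ᵥ* G₀) ⬝ᵥ c := by
  have : QuadraticMap.polar (⇑Q) (comb T x a) (∑ l, c l • x l)
      = QuadraticMap.polarBilin Q (comb T x a) (∑ l, c l • x l) := rfl
  rw [this, map_sum]
  simp only [dotProduct]
  apply Finset.sum_congr rfl
  intro l _
  rw [map_smul, QuadraticMap.polarBilin_apply_apply, polar_comb Q G₀ x hx a l, smul_eq_mul, mul_comm]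

end generic

section frames

variable {ι : Type} [Fintype ι] [DecidableEq ι] {F : Type*} [Field F] {s : ℕ}

/-- Frames, as a type carrying the action of an isometry group. -/
def OFr (ι : Type) (s : ℕ) (F : Type*) : Type _ := Fin s → ι → F

instance (Q : (ι → F) → F) : MulAction ↥(Cfsg.isometryGroup F Q) (OFr ι s F) where
  smul g b := fun i => ((g : Matrix.GeneralLinearGroup ι F) : Matrix ι ι F) *ᵥ b i
  one_smul b := by
    funext i
    exact Matrix.one_mulVec _
  mul_smul g h b := by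
    funext i
    show (((g : Matrix.GeneralLinearGroup ι F) : Matrix ι ι F)
      * ((h : Matrix.GeneralLinearGroup ι F) : Matrix ι ι F)) *ᵥ b i = _
    rw [← Matrix.mulVec_mulVec]
    rfl

theorem smul_apply (Q : (ι → F) → F) (g : ↥(Cfsg.isometryGroup F Q)) (b : OFr ι s F) (i : Fin s) :
    (g • b) i = ((g : Matrix.GeneralLinearGroup ι F) : Matrix ι ι F) *ᵥ b i := rfl

/-- The frames of Gram families of the involution `T`. -/
def gramFrames (Q : QuadraticForm F (ι → F)) (T : Matrix ι ι F) (G₀ : Matrix (Fin s) (Fin s) F) :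
    Set (OFr ι s F) :=
  {y | ∃ x : Fin s → (ι → F), (∀ i, y i = (T - 1) *ᵥ x i) ∧
    ∀ i j, QuadraticMap.polar (⇑Q) ((T - 1) *ᵥ x i) (x j) = G₀ i j}

/-- Linearly independent, pairwise orthogonal frames with prescribed values of `Q`. -/
def qFrames (Q : QuadraticForm F (ι → F)) (c : Fin s → F) : Set (OFr ι s F) :=
  {y | LinearIndependent F (y : Fin s → ι → F) ∧
    (∀ i j, QuadraticMap.polar (⇑Q) (y i) (y j) = 0) ∧ ∀ i, Q (y i) = c i}

variable (Q : QuadraticForm F (ι → F)) (hQ : (QuadraticMap.polarBilin Q).Nondegenerate)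
  (h2 : (2 : F) = 0) (t : ↥(Cfsg.isometryGroup F (⇑Q)))
  (htt : ((t : Matrix.GeneralLinearGroup ι F) : Matrix ι ι F)
    * ((t : Matrix.GeneralLinearGroup ι F) : Matrix ι ι F) = 1)
  (G₀ H : Matrix (Fin s) (Fin s) F) (hGH : G₀ * H = 1)
  (hr : s = (((t : Matrix.GeneralLinearGroup ι F) : Matrix ι ι F) - 1).rank)
  (x₀ : Fin s → (ι → F))
  (hx₀ : ∀ i j, QuadraticMap.polar (⇑Q)
    ((((t : Matrix.GeneralLinearGroup ι F) : Matrix ι ι F) - 1) *ᵥ x₀ i) (x₀ j) = G₀ i j)

theorem mem_centralizer_iff' (g : ↥(Cfsg.isometryGroup F (⇑Q))) :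
    g ∈ Subgroup.centralizer ({t} : Set ↥(Cfsg.isometryGroup F (⇑Q))) ↔
      ((g : Matrix.GeneralLinearGroup ι F) : Matrix ι ι F)
        * ((t : Matrix.GeneralLinearGroup ι F) : Matrix ι ι F)
      = ((t : Matrix.GeneralLinearGroup ι F) : Matrix ι ι F)
        * ((g : Matrix.GeneralLinearGroup ι F) : Matrix ι ι F) := by
  rw [Subgroup.mem_centralizer_iff]
  constructor
  · intro h
    have := h t rfl
    have h1 := congrArg (fun g : ↥(Cfsg.isometryGroup F (⇑Q)) =>
      ((g : Matrix.GeneralLinearGroup ι F) : Matrix ι ι F)) this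
    exact h1.symm
  · intro h k hk
    rw [Set.mem_singleton_iff] at hk
    subst hk
    apply Subtype.ext
    apply Units.ext
    exact h.symm

include hQ h2 htt hGH hr hx₀ in
/-- The orbit of the Gram frame under the centraliser is the set of all Gram frames. -/
theorem orbit_centralizer_eq :
    MulAction.orbit ↥(Subgroup.centralizer ({t} : Set ↥(Cfsg.isometryGroup F (⇑Q))))
      ((fun i => (((t : Matrix.GeneralLinearGroup ι F) : Matrix ι ι F) - 1) *ᵥ x₀ i) : OFr ι s F)
      = gramFrames Q ((t : Matrix.GeneralLinearGroup ι F) : Matrix ι ι F) G₀ := by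
  have hT := isIsom_of_mem Q t
  have hcard : Fintype.card (Fin s)
      = (((t : Matrix.GeneralLinearGroup ι F) : Matrix ι ι F) - 1).rank := by
    rw [Fintype.card_fin]; exact hr
  ext y
  constructor
  · rintro ⟨⟨g, hg⟩, rfl⟩
    rw [mem_centralizer_iff'] at hg
    have hgN : ∀ v, ((g : Matrix.GeneralLinearGroup ι F) : Matrix ι ι F)
        *ᵥ ((((t : Matrix.GeneralLinearGroup ι F) : Matrix ι ι F) - 1) *ᵥ v)
        = (((t : Matrix.GeneralLinearGroup ι F) : Matrix ι ι F) - 1)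
          *ᵥ (((g : Matrix.GeneralLinearGroup ι F) : Matrix ι ι F) *ᵥ v) := by
      intro v
      rw [N_apply, N_apply, Matrix.mulVec_sub, Matrix.mulVec_mulVec, hg, ← Matrix.mulVec_mulVec]
    refine ⟨fun i => ((g : Matrix.GeneralLinearGroup ι F) : Matrix ι ι F) *ᵥ x₀ i, fun i => ?_,
      fun i j => ?_⟩
    · exact hgN (x₀ i)
    · rw [← hgN, (isIsom_of_mem Q g).polar, hx₀]
  · rintro ⟨x, hyx, hx⟩
    obtain ⟨g, hgT, hgw⟩ := conj_of_gram' Q hQ h2 hT htt hT htt G₀ H hGH hcard hcard x₀ x hx₀ hx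
    refine ⟨⟨g, (mem_centralizer_iff' Q t g).mpr hgT⟩, ?_⟩
    funext i
    rw [hyx i]
    exact hgw i

include hQ h2 htt hGH hr hx₀ in
/-- The point stabiliser of the Gram frame lies in the centraliser. -/
theorem stabilizer_le_centralizer :
    MulAction.stabilizer ↥(Cfsg.isometryGroup F (⇑Q))
      ((fun i => (((t : Matrix.GeneralLinearGroup ι F) : Matrix ι ι F) - 1) *ᵥ x₀ i) : OFr ι s F)
      ≤ Subgroup.centralizer ({t} : Set ↥(Cfsg.isometryGroup F (⇑Q))) := by
  have hT := isIsom_of_mem Q t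
  have hcard : Fintype.card (Fin s)
      = (((t : Matrix.GeneralLinearGroup ι F) : Matrix ι ι F) - 1).rank := by
    rw [Fintype.card_fin]; exact hr
  intro g hg
  rw [MulAction.mem_stabilizer_iff] at hg
  set T := ((t : Matrix.GeneralLinearGroup ι F) : Matrix ι ι F) with hTdef
  set G := ((g : Matrix.GeneralLinearGroup ι F) : Matrix ι ι F) with hGdef
  have hgy : ∀ i, G *ᵥ ((T - 1) *ᵥ x₀ i) = (T - 1) *ᵥ x₀ i := fun i => congrFun hg i
  have hfix : ∀ v, G *ᵥ ((T - 1) *ᵥ v) = (T - 1) *ᵥ v := by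
    intro v
    have h1 : (T - 1) *ᵥ v ∈ LinearMap.range (comb T x₀) := by
      rw [range_comb Q G₀ H hGH x₀ hx₀ hcard]
      exact ⟨v, rfl⟩
    obtain ⟨a, ha⟩ := h1
    rw [← ha, comb_apply, Matrix.mulVec_sum]
    apply Finset.sum_congr rfl
    intro i _
    rw [Matrix.mulVec_smul, hgy]
  have hgiso := isIsom_of_mem Q g
  have hNg : ∀ v, (T - 1) *ᵥ (G *ᵥ v) = (T - 1) *ᵥ v := by
    intro v
    have h0 : (T - 1) *ᵥ (G *ᵥ v - v) = 0 := by
      apply hQ.1
      intro w
      rw [QuadraticMap.polarBilin_apply_apply, polar_N_left Q hT htt,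
        QuadraticMap.polar_sub_left]
      have := hgiso.polar v ((T - 1) *ᵥ w)
      rw [hfix] at this
      rw [this, sub_self]
    rw [Matrix.mulVec_sub, sub_eq_zero] at h0
    exact h0
  rw [mem_centralizer_iff']
  apply matrix_ext_mulVec
  intro v
  have hTv : ∀ u, T *ᵥ u = (T - 1) *ᵥ u + u := by intro u; rw [N_apply]; abel
  rw [← Matrix.mulVec_mulVec, ← Matrix.mulVec_mulVec, hTv v, hTv (G *ᵥ v), Matrix.mulVec_add, hfix,
    hNg]

include hQ h2 htt hGH hr hx₀ in
/-- The Gram frame is a `Q`-frame with the diagonal of the Gram matrix as values. -/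
theorem gram_mem_qFrames :
    ((fun i => (((t : Matrix.GeneralLinearGroup ι F) : Matrix ι ι F) - 1) *ᵥ x₀ i) : OFr ι s F)
      ∈ qFrames Q (fun i => G₀ i i) := by
  have hT := isIsom_of_mem Q t
  refine ⟨?_, fun i j => polar_N_N Q h2 hT htt _ _, fun i => ?_⟩
  · have hinj := comb_injective Q G₀ H hGH x₀ hx₀
    rw [Fintype.linearIndependent_iff]
    intro a ha i
    have h0 : comb ((t : Matrix.GeneralLinearGroup ι F) : Matrix ι ι F) x₀ a
        = comb ((t : Matrix.GeneralLinearGroup ι F) : Matrix ι ι F) x₀ 0 := by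
      rw [comb_apply, ha, map_zero]
    exact congrFun (hinj h0) i
  · rw [Q_N Q h2 hT, hx₀]

/-- `Q` of a combination of a `Q`-frame. -/
theorem Q_frame_comb {c : Fin s → F} {y : OFr ι s F} (hy : y ∈ qFrames Q c) (a : Fin s → F) :
    Q (∑ i, a i • y i) = ∑ i, a i * a i * c i := by
  rw [Q_comb Q y (fun i j _ => hy.2.1 i j) a]
  apply Finset.sum_congr rfl
  intro i _
  rw [hy.2.2 i]

include hQ in
/-- **Witt**: the isometry group is transitive on `Q`-frames with given values. -/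
theorem orbit_eq_qFrames {c : Fin s → F} (y₀ : OFr ι s F) (hy₀ : y₀ ∈ qFrames Q c) :
    MulAction.orbit ↥(Cfsg.isometryGroup F (⇑Q)) y₀ = qFrames Q c := by
  ext y
  constructor
  · rintro ⟨g, rfl⟩
    have hg := isIsom_of_mem Q g
    refine ⟨?_, fun i j => ?_, fun i => ?_⟩
    · change LinearIndependent F
        (fun i => ((g : Matrix.GeneralLinearGroup ι F) : Matrix ι ι F) *ᵥ y₀ i)
      have h1 : (fun i => ((g : Matrix.GeneralLinearGroup ι F) : Matrix ι ι F) *ᵥ y₀ i)
          = Matrix.toLin' ((g : Matrix.GeneralLinearGroup ι F) : Matrix ι ι F) ∘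
            (fun i => y₀ i) := by
        funext i
        rw [Function.comp_apply, Matrix.toLin'_apply]
      rw [h1]
      apply LinearIndependent.map' (show LinearIndependent F (fun i => y₀ i) from hy₀.1)
      rw [LinearMap.ker_eq_bot]
      intro u v h
      rw [Matrix.toLin'_apply, Matrix.toLin'_apply] at h
      have h3 := congrArg (fun z => ((g⁻¹ : ↥(Cfsg.isometryGroup F (⇑Q))) :
        Matrix.GeneralLinearGroup ι F).1 *ᵥ z) h
      simp only [Matrix.mulVec_mulVec] at h3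
      have h4 : ((g⁻¹ : ↥(Cfsg.isometryGroup F (⇑Q))) : Matrix.GeneralLinearGroup ι F).1
          * ((g : Matrix.GeneralLinearGroup ι F) : Matrix ι ι F) = 1 := by
        have : ((g⁻¹ * g : ↥(Cfsg.isometryGroup F (⇑Q))) : Matrix.GeneralLinearGroup ι F).1 = 1 := by
          rw [inv_mul_cancel]; rfl
        exact this
      rw [h4, Matrix.one_mulVec, Matrix.one_mulVec] at h3
      exact h3
    · change QuadraticMap.polar (⇑Q)
        (((g : Matrix.GeneralLinearGroup ι F) : Matrix ι ι F) *ᵥ y₀ i)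
        (((g : Matrix.GeneralLinearGroup ι F) : Matrix ι ι F) *ᵥ y₀ j) = 0
      rw [hg.polar]
      exact hy₀.2.1 i j
    · change Q (((g : Matrix.GeneralLinearGroup ι F) : Matrix ι ι F) *ᵥ y₀ i) = c i
      rw [hg]
      exact hy₀.2.2 i
  · intro hy
    set X := Submodule.span F (Set.range (y₀ : Fin s → ι → F)) with hX
    set Y := Submodule.span F (Set.range (y : Fin s → ι → F)) with hY
    let bX : Basis (Fin s) F X := Basis.span hy₀.1
    let bY : Basis (Fin s) F Y := Basis.span hy.1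
    let φ : X ≃ₗ[F] Y := bX.equiv bY (Equiv.refl _)
    have hbX : ∀ i, (bX i : ι → F) = y₀ i := fun i => congrArg Subtype.val (Basis.span_apply hy₀.1 i)
    have hbY : ∀ i, (bY i : ι → F) = y i := fun i => congrArg Subtype.val (Basis.span_apply hy.1 i)
    have hφQ : ∀ z : X, Q ((φ z : ι → F)) = Q (z : ι → F) := by
      intro z
      have hz : z = ∑ i, (bX.repr z i) • bX i := (bX.sum_repr z).symm
      have h1 : (z : ι → F) = ∑ i, (bX.repr z i) • y₀ i := by
        conv_lhs => rw [hz]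
        rw [Submodule.coe_sum]
        apply Finset.sum_congr rfl
        intro i _
        rw [Submodule.coe_smul, hbX]
      have h3 : ((φ z : Y) : ι → F) = ∑ i, (bX.repr z i) • y i := by
        conv_lhs => rw [hz]
        rw [map_sum, Submodule.coe_sum]
        apply Finset.sum_congr rfl
        intro i _
        rw [map_smul, Submodule.coe_smul]
        show (bX.repr z i) • ((bX.equiv bY (Equiv.refl _) (bX i) : Y) : ι → F) = _
        rw [Basis.equiv_apply, Equiv.refl_apply, hbY]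
      rw [h1, h3, Q_frame_comb Q hy₀, Q_frame_comb Q hy]
    obtain ⟨g, hg1, -⟩ := witt_matrix Q hQ X Y φ hφQ
    refine ⟨g, ?_⟩
    funext i
    change ((g : Matrix.GeneralLinearGroup ι F) : Matrix ι ι F) *ᵥ y₀ i = y i
    have := hg1 (bX i)
    rw [hbX] at this
    rw [this]
    show ((bX.equiv bY (Equiv.refl _) (bX i) : Y) : ι → F) = y i
    rw [Basis.equiv_apply, Equiv.refl_apply, hbY]

include hQ h2 htt hGH hr hx₀ in
/-- **Orbit counting**: `|C(t)| · #Q-frames = |O(Q)| · #Gram frames`. -/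
theorem card_centralizer_mul :
    Nat.card ↥(Subgroup.centralizer ({t} : Set ↥(Cfsg.isometryGroup F (⇑Q)))) *
      Nat.card ↥(qFrames (s := s) Q (fun i => G₀ i i)) =
    Nat.card ↥(Cfsg.isometryGroup F (⇑Q)) *
      Nat.card ↥(gramFrames Q ((t : Matrix.GeneralLinearGroup ι F) : Matrix ι ι F) G₀) := by
  classical
  set y₀ : OFr ι s F :=
    fun i => (((t : Matrix.GeneralLinearGroup ι F) : Matrix ι ι F) - 1) *ᵥ x₀ i with hy₀
  have hf₀ : y₀ ∈ qFrames Q (fun i => G₀ i i) := gram_mem_qFrames Q hQ h2 t htt G₀ H hGH hr x₀ hx₀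
  have hG : Nat.card (MulAction.orbit ↥(Cfsg.isometryGroup F (⇑Q)) y₀) *
      Nat.card (MulAction.stabilizer ↥(Cfsg.isometryGroup F (⇑Q)) y₀) =
      Nat.card ↥(Cfsg.isometryGroup F (⇑Q)) := by
    rw [← Nat.card_prod]
    exact Nat.card_congr
      (MulAction.orbitProdStabilizerEquivGroup ↥(Cfsg.isometryGroup F (⇑Q)) y₀)
  have hH : Nat.card (MulAction.orbit
        ↥(Subgroup.centralizer ({t} : Set ↥(Cfsg.isometryGroup F (⇑Q)))) y₀) *
      Nat.card (MulAction.stabilizer
        ↥(Subgroup.centralizer ({t} : Set ↥(Cfsg.isometryGroup F (⇑Q)))) y₀) =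
      Nat.card ↥(Subgroup.centralizer ({t} : Set ↥(Cfsg.isometryGroup F (⇑Q)))) := by
    rw [← Nat.card_prod]
    exact Nat.card_congr (MulAction.orbitProdStabilizerEquivGroup
      ↥(Subgroup.centralizer ({t} : Set ↥(Cfsg.isometryGroup F (⇑Q)))) y₀)
  have hle := stabilizer_le_centralizer Q hQ h2 t htt G₀ H hGH hr x₀ hx₀
  have hstab : Nat.card (MulAction.stabilizer
      ↥(Subgroup.centralizer ({t} : Set ↥(Cfsg.isometryGroup F (⇑Q)))) y₀) =
      Nat.card (MulAction.stabilizer ↥(Cfsg.isometryGroup F (⇑Q)) y₀) := by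
    have h1 : MulAction.stabilizer
        ↥(Subgroup.centralizer ({t} : Set ↥(Cfsg.isometryGroup F (⇑Q)))) y₀ =
        (MulAction.stabilizer ↥(Cfsg.isometryGroup F (⇑Q)) y₀).subgroupOf
          (Subgroup.centralizer ({t} : Set ↥(Cfsg.isometryGroup F (⇑Q)))) := by
      ext h
      rfl
    rw [h1]
    exact Nat.card_congr (Subgroup.subgroupOfEquivOfLe hle).toEquiv
  rw [hstab] at hH
  have hX : Nat.card (MulAction.orbit ↥(Cfsg.isometryGroup F (⇑Q)) y₀) =
      Nat.card ↥(qFrames (s := s) Q (fun i => G₀ i i)) := by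
    rw [orbit_eq_qFrames Q hQ y₀ hf₀]
  have hY : Nat.card (MulAction.orbit
      ↥(Subgroup.centralizer ({t} : Set ↥(Cfsg.isometryGroup F (⇑Q)))) y₀) =
      Nat.card ↥(gramFrames Q ((t : Matrix.GeneralLinearGroup ι F) : Matrix ι ι F) G₀) := by
    have := orbit_centralizer_eq Q hQ h2 t htt G₀ H hGH hr x₀ hx₀
    rw [← this]
    rfl
  rw [← hX, ← hG, ← hH, ← hY]
  ring

include hQ h2 htt hGH hr hx₀ in
/-- Gram frames correspond to the matrices preserving the Gram matrix. -/
theorem card_gramFrames :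
    Nat.card ↥(gramFrames Q ((t : Matrix.GeneralLinearGroup ι F) : Matrix ι ι F) G₀)
      = Nat.card {C : Matrix (Fin s) (Fin s) F // C * G₀ * Cᵀ = G₀} := by
  set T := ((t : Matrix.GeneralLinearGroup ι F) : Matrix ι ι F) with hTdef
  have hT : IsIsom Q T := isIsom_of_mem Q t
  have hcard : Fintype.card (Fin s) = (T - 1).rank := by rw [Fintype.card_fin]; exact hr
  have hinj := comb_injective Q G₀ H hGH x₀ hx₀
  have hentry : ∀ (C : Matrix (Fin s) (Fin s) F) (i j : Fin s),
      (C * G₀ * Cᵀ) i j = QuadraticMap.polar (⇑Q) (comb T x₀ (C i)) (∑ l, C j l • x₀ l) := by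
    intro C i j
    rw [polar_comb_sum Q G₀ x₀ hx₀, Matrix.mul_apply]
    simp only [dotProduct, Matrix.vecMul, Matrix.mul_apply, Matrix.transpose_apply]
  symm
  refine Nat.card_congr (Equiv.ofBijective
    (fun C : {C : Matrix (Fin s) (Fin s) F // C * G₀ * Cᵀ = G₀} =>
      (⟨fun i => comb T x₀ (C.1 i), fun i => ∑ l, C.1 i l • x₀ l, fun i => comb_eq_N _ _,
        fun i j => by
          rw [← comb_eq_N, ← hentry, C.2]⟩ : ↥(gramFrames Q T G₀))) ⟨?_, ?_⟩)
  · rintro ⟨C, hC⟩ ⟨C', hC'⟩ h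
    apply Subtype.ext
    have h1 : (fun i => comb T x₀ (C i)) = fun i => comb T x₀ (C' i) := congrArg Subtype.val h
    ext i j
    exact congrFun (hinj (congrFun h1 i)) j
  · rintro ⟨y, x, hyx, hx⟩
    have hmem : ∀ i, (T - 1) *ᵥ x i ∈ LinearMap.range (comb T x₀) := by
      intro i
      rw [range_comb Q G₀ H hGH x₀ hx₀ hcard]
      exact ⟨x i, rfl⟩
    choose a ha using hmem
    have hC : (Matrix.of a : Matrix (Fin s) (Fin s) F) * G₀ * (Matrix.of a)ᵀ = G₀ := by
      ext i j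
      rw [hentry]
      show QuadraticMap.polar (⇑Q) (comb T x₀ (a i)) (∑ l, a j l • x₀ l) = G₀ i j
      rw [ha i, polar_N_left Q hT htt, ← comb_eq_N, ha j, ← polar_N_left Q hT htt, hx]
    refine ⟨⟨Matrix.of a, hC⟩, ?_⟩
    apply Subtype.ext
    funext i
    show comb T x₀ (a i) = y i
    rw [ha i, hyx i]

end frames

end Cfsg.Agent.Lib.Helper44_OCent
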