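import Mathlib

set_option autoImplicit false

/-!
The number of matrices `C` with `C Cᵀ = 1` over a finite field of characteristic two (helper44): orthonormal bases of
the dot product are counted by a fibration, using `v ⬝ v = (v ⬝ 1)²`.  The count is
`∏_{d < s} (q^d - [1 ≤ d ∧ Even d])`, which is `|Sp_{s-1}(q)|` for odd `s` and `q^{s-1} |Sp_{s-2}(q)|` for even `s`.
-/

namespace Cfsg.Agent.Lib.Helper44_OrthDot

open Matrix Module

variable {F : Type*} [Field F] {s : ℕ}

theorem natCast_char_two (h2 : (2 : F) = 0) (n : ℕ) : (n : F) = if Odd n then 1 else 0 := by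
  rcases Nat.even_or_odd' n with ⟨k, hk | hk⟩
  · have : ¬ Odd n := by rw [Nat.not_odd_iff_even]; exact ⟨k, by omega⟩
    rw [if_neg this, hk]
    push_cast
    rw [h2, zero_mul]
  · have : Odd n := ⟨k, hk⟩
    rw [if_pos this, hk]
    push_cast
    rw [h2, zero_mul, zero_add]

theorem dot_self_eq (h2 : (2 : F) = 0) (v : Fin s → F) : v ⬝ᵥ v = (v ⬝ᵥ 1) * (v ⬝ᵥ 1) := by
  have : CharP F 2 := CharTwo.of_one_ne_zero_of_two_eq_zero one_ne_zero h2
  have : Fact (Nat.Prime 2) := ⟨Nat.prime_two⟩
  simp only [dotProduct, Pi.one_apply, mul_one]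
  rw [← pow_two, sum_pow_char]
  apply Finset.sum_congr rfl
  intro i _
  rw [pow_two]

theorem dot_self_eq_one_iff (h2 : (2 : F) = 0) (v : Fin s → F) : v ⬝ᵥ v = 1 ↔ v ⬝ᵥ 1 = 1 := by
  rw [dot_self_eq h2]
  constructor
  · intro h
    have h3 : (v ⬝ᵥ 1 - 1) * (v ⬝ᵥ 1 - 1) = 0 := by
      have : (v ⬝ᵥ 1 - 1) * (v ⬝ᵥ 1 - 1) = v ⬝ᵥ 1 * (v ⬝ᵥ 1) - 2 * (v ⬝ᵥ 1) + 1 := by ring
      rw [this, h, h2, zero_mul, sub_zero]
      have : (1 : F) + 1 = 2 := by norm_num
      rw [this, h2]
    have := mul_self_eq_zero.mp h3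
    exact sub_eq_zero.mp this
  · intro h
    rw [h, mul_one]

variable [Fintype F]

/-- Number of solutions of a linear system with independent rows. -/
theorem card_solutions {k : ℕ} (u : Fin k → (Fin s → F)) (hu : LinearIndependent F u) (b : Fin k → F) :
    Nat.card {w : Fin s → F // ∀ i, u i ⬝ᵥ w = b i} = Fintype.card F ^ (s - k) := by
  classical
  set L : (Fin s → F) →ₗ[F] (Fin k → F) := (Matrix.of u).mulVecLin with hL
  have hLa : ∀ w i, L w i = u i ⬝ᵥ w := fun w i => rfl
  have hrank : (Matrix.of u).rank = k := by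
    have := LinearIndependent.rank_matrix (M := Matrix.of u) hu
    rw [this, Fintype.card_fin]
  have hrange : LinearMap.range L = ⊤ := by
    apply Submodule.eq_top_of_finrank_eq
    have : finrank F ↥(LinearMap.range L) = (Matrix.of u).rank := rfl
    rw [this, hrank]
    simp
  obtain ⟨w₀, hw₀⟩ : ∃ w₀, L w₀ = b := by
    have : b ∈ LinearMap.range L := by rw [hrange]; trivial
    exact this
  have hker : finrank F ↥(LinearMap.ker L) = s - k := by
    have h1 := LinearMap.finrank_range_add_finrank_ker L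
    rw [hrange, finrank_top] at h1
    simp only [Module.finrank_fintype_fun_eq_card, Fintype.card_fin] at h1
    omega
  have hequiv : {w : Fin s → F // ∀ i, u i ⬝ᵥ w = b i} ≃ ↥(LinearMap.ker L) :=
    { toFun := fun w => ⟨w.1 - w₀, by
        rw [LinearMap.mem_ker, map_sub, hw₀]
        ext i
        rw [Pi.sub_apply, hLa, w.2 i, sub_self, Pi.zero_apply]⟩
      invFun := fun z => ⟨z.1 + w₀, fun i => by
        have := z.2
        rw [LinearMap.mem_ker] at this
        have h1 : L (z.1 + w₀) = b := by rw [map_add, this, zero_add, hw₀]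
        rw [← hLa, h1]⟩
      left_inv := fun w => by
        apply Subtype.ext
        simp
      right_inv := fun z => by
        apply Subtype.ext
        simp }
  rw [Nat.card_congr hequiv, ← hker, ← Nat.card_eq_fintype_card]
  exact Module.natCard_eq_pow_finrank (K := F) (V := ↥(LinearMap.ker L))

/-- Orthonormal `k`-tuples whose sum is not the all-ones vector (unless `k = s`). -/
def ONT (F : Type*) [Field F] (s k : ℕ) : Type _ :=
  {v : Fin k → (Fin s → F) // (∀ i j, v i ⬝ᵥ v j = if i = j then 1 else 0) ∧ (k < s → ∑ i, v i ≠ 1)}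

/-- The fibre of dropping the first vector. -/
def Fib (F : Type*) [Field F] (s k : ℕ) (τ : Fin k → (Fin s → F)) : Type _ :=
  {w : Fin s → F // (∀ i, τ i ⬝ᵥ w = 0) ∧ w ⬝ᵥ w = 1 ∧ (k + 1 < s → w + ∑ i, τ i ≠ 1)}

omit [Fintype F] in
theorem ont_dot_one (h2 : (2 : F) = 0) {k : ℕ} (τ : Fin k → (Fin s → F))
    (hτ : ∀ i j, τ i ⬝ᵥ τ j = if i = j then 1 else 0) (i : Fin k) : τ i ⬝ᵥ 1 = 1 := by
  rw [← dot_self_eq_one_iff h2]
  have := hτ i i
  rwa [if_pos rfl] at this

/-- The fibration of orthonormal tuples. -/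
def ontEquiv (h2 : (2 : F) = 0) (k : ℕ) : ONT F s (k + 1) ≃ Σ τ : ONT F s k, Fib F s k τ.1 where
  toFun := fun ⟨v, hv1, hv2⟩ => ⟨⟨Fin.tail v, fun i j => by
      have := hv1 i.succ j.succ
      simp only [Fin.succ_inj] at this
      exact this, fun hk hsum => by
      -- if the tail sums to `1`, the head is orthogonal to `1`
      have h0 : v 0 ⬝ᵥ 1 = 0 := by
        rw [← hsum, dotProduct_sum]
        apply Finset.sum_eq_zero
        intro i _
        have := hv1 0 i.succ
        rw [if_neg (Fin.succ_ne_zero i).symm] at this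
        exact this
      have h1 : v 0 ⬝ᵥ 1 = 1 := by
        rw [← dot_self_eq_one_iff h2]
        have := hv1 0 0
        rwa [if_pos rfl] at this
      rw [h0] at h1
      exact zero_ne_one h1⟩,
    ⟨v 0, fun i => by
      have := hv1 i.succ 0
      rw [if_neg (Fin.succ_ne_zero i)] at this
      exact this, by
      have := hv1 0 0
      rwa [if_pos rfl] at this, fun hk => by
      have := hv2 hk
      rw [Fin.sum_univ_succ] at this
      exact this⟩⟩
  invFun := fun ⟨⟨τ, hτ1, hτ2⟩, ⟨w, hw1, hw2, hw3⟩⟩ => ⟨Fin.cons w τ, by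
      intro i j
      refine Fin.cases ?_ (fun i => ?_) i <;> refine Fin.cases ?_ (fun j => ?_) j
      · simp only [Fin.cons_zero]
        rw [if_pos trivial]
        exact hw2
      · simp only [Fin.cons_zero, Fin.cons_succ]
        rw [if_neg (Fin.succ_ne_zero j).symm, dotProduct_comm]
        exact hw1 j
      · simp only [Fin.cons_zero, Fin.cons_succ]
        rw [if_neg (Fin.succ_ne_zero i)]
        exact hw1 i
      · simp only [Fin.cons_succ, Fin.succ_inj]
        exact hτ1 i j, fun hk => by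
      rw [Fin.sum_univ_succ]
      simp only [Fin.cons_zero, Fin.cons_succ]
      exact hw3 hk⟩
  left_inv := by
    rintro ⟨v, hv1, hv2⟩
    apply Subtype.ext
    exact Fin.cons_self_tail v
  right_inv := by
    rintro ⟨⟨τ, hτ1, hτ2⟩, ⟨w, hw1, hw2, hw3⟩⟩
    rfl

omit [Fintype F] in
theorem ont_linearIndependent {k : ℕ} (τ : Fin k → (Fin s → F))
    (hτ : ∀ i j, τ i ⬝ᵥ τ j = if i = j then 1 else 0) : LinearIndependent F τ := by
  rw [Fintype.linearIndependent_iff]
  intro a ha j
  have h1 := congrArg (fun z => τ j ⬝ᵥ z) ha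
  simp only [dotProduct_sum, dotProduct_smul, dotProduct_zero, smul_eq_mul] at h1
  rw [Finset.sum_eq_single j] at h1
  · have := hτ j j
    rw [if_pos rfl] at this
    rw [this, mul_one] at h1
    exact h1
  · intro i _ hij
    have := hτ j i
    rw [if_neg (Ne.symm hij)] at this
    rw [this, mul_zero]
  · intro h
    exact absurd (Finset.mem_univ j) h

omit [Fintype F] in
theorem one_notMem_span (h2 : (2 : F) = 0) {k : ℕ} (τ : Fin k → (Fin s → F))
    (hτ : ∀ i j, τ i ⬝ᵥ τ j = if i = j then 1 else 0) (hsum : ∑ i, τ i ≠ 1) :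
    (1 : Fin s → F) ∉ Submodule.span F (Set.range τ) := by
  intro hmem
  rw [Submodule.mem_span_range_iff_exists_fun] at hmem
  obtain ⟨a, ha⟩ := hmem
  have ha1 : ∀ j, a j = 1 := by
    intro j
    have h1 := congrArg (fun z => τ j ⬝ᵥ z) ha
    simp only [dotProduct_sum, dotProduct_smul, smul_eq_mul] at h1
    rw [Finset.sum_eq_single j, ont_dot_one h2 τ hτ j] at h1
    · have := hτ j j
      rw [if_pos rfl] at this
      rw [this, mul_one] at h1
      exact h1
    · intro i _ hij
      have := hτ j i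
      rw [if_neg (Ne.symm hij)] at this
      rw [this, mul_zero]
    · intro h
      exact absurd (Finset.mem_univ j) h
  apply hsum
  rw [← ha]
  apply Finset.sum_congr rfl
  intro i _
  rw [ha1 i, one_smul]

/-- The size of a fibre. -/
theorem card_fib (h2 : (2 : F) = 0) {k : ℕ} (hk : k < s) (τ : Fin k → (Fin s → F))
    (hτ : ∀ i j, τ i ⬝ᵥ τ j = if i = j then 1 else 0) (hsum : ∑ i, τ i ≠ 1) :
    Nat.card (Fib F s k τ) =
      Fintype.card F ^ (s - k - 1) - (if k + 1 < s ∧ Odd (s - k) then 1 else 0) := by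
  classical
  -- the affine subspace
  set u : Fin (k + 1) → (Fin s → F) := Fin.cons 1 τ with hu
  set b : Fin (k + 1) → F := Fin.cons 1 0 with hb
  have hli : LinearIndependent F u := by
    rw [hu, linearIndependent_finCons]
    exact ⟨ont_linearIndependent τ hτ, one_notMem_span h2 τ hτ hsum⟩
  have hS := card_solutions u hli b
  have hSiff : ∀ w : Fin s → F, (∀ i, u i ⬝ᵥ w = b i) ↔ ((∀ i, τ i ⬝ᵥ w = 0) ∧ w ⬝ᵥ w = 1) := by
    intro w
    rw [Fin.forall_fin_succ]
    simp only [hu, hb, Fin.cons_zero, Fin.cons_succ, Pi.zero_apply]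
    rw [dot_self_eq_one_iff h2, dotProduct_comm 1 w, and_comm]
  set wb : Fin s → F := 1 + ∑ i, τ i with hwb
  have hwb_orth : ∀ i, τ i ⬝ᵥ wb = 0 := by
    intro j
    rw [hwb, dotProduct_add, ont_dot_one h2 τ hτ j, dotProduct_sum, Finset.sum_eq_single j]
    · have := hτ j j
      rw [if_pos rfl] at this
      rw [this]
      have : (1 : F) + 1 = 2 := by norm_num
      rw [this, h2]
    · intro i _ hij
      have := hτ j i
      rw [if_neg (Ne.symm hij)] at this
      exact this
    · intro h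
      exact absurd (Finset.mem_univ j) h
  have hwb_one : wb ⬝ᵥ 1 = if Odd (s - k) then 1 else 0 := by
    rw [hwb, add_dotProduct, sum_dotProduct]
    have h1 : (1 : Fin s → F) ⬝ᵥ 1 = (s : F) := by
      simp [dotProduct]
    have h3 : ∑ i, τ i ⬝ᵥ 1 = (k : F) := by
      rw [Finset.sum_congr rfl (fun i _ => ont_dot_one h2 τ hτ i)]
      simp
    rw [h1, h3, ← Nat.cast_add, natCast_char_two h2]
    have : Odd (s + k) ↔ Odd (s - k) := by
      rw [Nat.odd_add, Nat.odd_sub hk.le]
    simp only [this]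
  have hdouble : ∑ i, τ i + ∑ i, τ i = 0 := by
    have : ∑ i, τ i + ∑ i, τ i = (2 : F) • ∑ i, τ i := by rw [two_smul]
    rw [this, h2, zero_smul]
  have hbad : ∀ w : Fin s → F, w + ∑ i, τ i = 1 ↔ w = wb := by
    intro w
    constructor
    · intro h
      have : w = (w + ∑ i, τ i) + ∑ i, τ i := by rw [add_assoc, hdouble, add_zero]
      rw [this, h]
    · intro h
      rw [h, hwb, add_assoc, hdouble, add_zero]
  by_cases hcase : k + 1 < s ∧ Odd (s - k)
  · rw [if_pos hcase]
    have hwbS : (∀ i, τ i ⬝ᵥ wb = 0) ∧ wb ⬝ᵥ wb = 1 := by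
      refine ⟨hwb_orth, ?_⟩
      rw [dot_self_eq_one_iff h2, hwb_one, if_pos hcase.2]
    have hset : Nat.card (Fib F s k τ) =
        (({w : Fin s → F | ∀ i, u i ⬝ᵥ w = b i}) \ {wb}).ncard := by
      rw [← Nat.card_coe_set_eq]
      apply Nat.card_congr
      apply Equiv.subtypeEquivRight
      intro w
      rw [Set.mem_sdiff, Set.mem_ofPred_eq, hSiff, Set.mem_singleton_iff, ← hbad]
      constructor
      · rintro ⟨h1, h3, h4⟩
        exact ⟨⟨h1, h3⟩, h4 hcase.1⟩
      · rintro ⟨⟨h1, h3⟩, h4⟩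
        exact ⟨h1, h3, fun _ => h4⟩
    have hwbmem : wb ∈ {w : Fin s → F | ∀ i, u i ⬝ᵥ w = b i} := (hSiff wb).mpr hwbS
    rw [hset, Set.ncard_sdiff_singleton_of_mem hwbmem, ← Nat.card_coe_set_eq]
    have : Nat.card ↥{w : Fin s → F | ∀ i, u i ⬝ᵥ w = b i} = Fintype.card F ^ (s - (k + 1)) := hS
    rw [this]
    congr 2
  · rw [if_neg hcase, Nat.sub_zero]
    have hset : Nat.card (Fib F s k τ) = Nat.card {w : Fin s → F // ∀ i, u i ⬝ᵥ w = b i} := by
      apply Nat.card_congr
      apply Equiv.subtypeEquivRight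
      intro w
      rw [hSiff]
      constructor
      · rintro ⟨h1, h3, -⟩
        exact ⟨h1, h3⟩
      · rintro ⟨h1, h3⟩
        refine ⟨h1, h3, fun hk1 hsum' => ?_⟩
        rw [hbad] at hsum'
        rw [hsum', dot_self_eq_one_iff h2, hwb_one] at h3
        have hodd : ¬ Odd (s - k) := fun h => hcase ⟨hk1, h⟩
        rw [if_neg hodd] at h3
        exact zero_ne_one h3
    rw [hset, hS]
    congr 1

/-- The factor `q^(d-1) - [2 ≤ d ∧ Odd d]`. -/
def cfac (q d : ℕ) : ℕ := q ^ (d - 1) - (if 2 ≤ d ∧ Odd d then 1 else 0)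

theorem card_ont (h2 : (2 : F) = 0) : ∀ k, k ≤ s →
    Nat.card (ONT F s k) = ∏ j ∈ Finset.range k, cfac (Fintype.card F) (s - j) := by
  classical
  intro k
  induction k with
  | zero =>
    intro _
    rw [Finset.prod_range_zero]
    have : Unique (ONT F s 0) :=
      { default := ⟨Fin.elim0, fun i => i.elim0, fun hs h => by
          have h1 := congrFun h ⟨0, hs⟩
          simp at h1⟩
        uniq := fun v => Subtype.ext (Subsingleton.elim _ _) }
    exact Nat.card_unique
  | succ k ih =>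
    intro hk
    have hk' : k < s := hk
    have : Finite (ONT F s k) := by
      unfold ONT
      infer_instance
    have : Fintype (ONT F s k) := Fintype.ofFinite _
    have : ∀ a : ONT F s k, Finite (Fib F s k a.1) := by
      intro a
      unfold Fib
      infer_instance
    rw [Nat.card_congr (ontEquiv h2 k), Nat.card_sigma, Finset.prod_range_succ, ← ih hk'.le]
    rw [Finset.sum_congr rfl (fun τ _ => card_fib h2 hk' τ.1 τ.2.1 (τ.2.2 hk')), Finset.sum_const,
      Finset.card_univ,
      smul_eq_mul, Nat.card_eq_fintype_card]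
    congr 1
    unfold cfac
    have h1 : s - k - 1 = s - k - 1 := rfl
    have h3 : (k + 1 < s ∧ Odd (s - k)) ↔ (2 ≤ s - k ∧ Odd (s - k)) := by
      constructor
      · rintro ⟨h, ho⟩; exact ⟨by omega, ho⟩
      · rintro ⟨h, ho⟩; exact ⟨by omega, ho⟩
    simp only [h3]

/-- **Count of orthogonal matrices for the dot product** in characteristic two. -/
theorem card_orth (h2 : (2 : F) = 0) :
    Nat.card {C : Matrix (Fin s) (Fin s) F // C * 1 * Cᵀ = 1} =
      ∏ j ∈ Finset.range s, cfac (Fintype.card F) (s - j) := by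
  rw [← card_ont h2 s le_rfl]
  apply Nat.card_congr
  refine
    { toFun := fun C => ⟨fun i => C.1 i, fun i j => ?_, fun h => absurd h (lt_irrefl s)⟩
      invFun := fun v => ⟨Matrix.of v.1, ?_⟩
      left_inv := fun C => rfl
      right_inv := fun v => rfl }
  · have := congrFun (congrFun C.2 i) j
    rw [Matrix.mul_one, Matrix.mul_apply, Matrix.one_apply] at this
    exact this
  · ext i j
    rw [Matrix.mul_one, Matrix.mul_apply, Matrix.one_apply]
    exact v.2.1 i j

/-! ### Closed forms -/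

theorem prod_cfac_reflect (q s : ℕ) :
    ∏ j ∈ Finset.range s, cfac q (s - j) = ∏ d ∈ Finset.range s, cfac q (d + 1) := by
  rw [← Finset.prod_range_reflect (fun d => cfac q (d + 1)) s]
  apply Finset.prod_congr rfl
  intro i hi
  rw [Finset.mem_range] at hi
  congr 1
  omega

theorem cfac_even (q j : ℕ) : cfac q (2 * j + 2) = q ^ (2 * j + 1) := by
  unfold cfac
  have : ¬ (2 ≤ 2 * j + 2 ∧ Odd (2 * j + 2)) := by
    rintro ⟨-, h⟩
    rw [Nat.odd_iff] at h
    omega
  rw [if_neg this, Nat.sub_zero]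
  congr 1

theorem cfac_odd (q j : ℕ) : cfac q (2 * j + 3) = q ^ (2 * (j + 1)) - 1 := by
  unfold cfac
  have : 2 ≤ 2 * j + 3 ∧ Odd (2 * j + 3) := ⟨by omega, ⟨j + 1, by ring⟩⟩
  rw [if_pos this]
  congr 2

theorem cfac_one (q : ℕ) : cfac q 1 = 1 := by
  unfold cfac
  simp

theorem prod_cfac_odd (q : ℕ) : ∀ j : ℕ, ∏ d ∈ Finset.range (2 * j + 1), cfac q (d + 1) =
    q ^ (j ^ 2) * ∏ i ∈ Finset.range j, (q ^ (2 * (i + 1)) - 1) := by
  intro j
  induction j with
  | zero => simp [cfac_one]
  | succ j ih =>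
    have : 2 * (j + 1) + 1 = (2 * j + 1) + 1 + 1 := by ring
    rw [this, Finset.prod_range_succ, Finset.prod_range_succ, ih, Finset.prod_range_succ]
    have h1 : cfac q (2 * j + 1 + 1) = q ^ (2 * j + 1) := cfac_even q j
    have h3 : cfac q (2 * j + 1 + 1 + 1) = q ^ (2 * (j + 1)) - 1 := cfac_odd q j
    rw [h1, h3]
    have : (j + 1) ^ 2 = j ^ 2 + (2 * j + 1) := by ring
    rw [this, pow_add]
    ring

theorem prod_cfac_even (q : ℕ) (j : ℕ) : ∏ d ∈ Finset.range (2 * j + 2), cfac q (d + 1) =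
    q ^ (2 * j + 1) * (q ^ (j ^ 2) * ∏ i ∈ Finset.range j, (q ^ (2 * (i + 1)) - 1)) := by
  rw [Finset.prod_range_succ, prod_cfac_odd, cfac_even]
  ring

end Cfsg.Agent.Lib.Helper44_OrthDot
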