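import Mathlib
import Cfsg.Agent.Lib.Helper44_CD2
import Cfsg.Agent.Lib.Helper44_Inv2Class
import Cfsg.Agent.Lib.Helper44_OrthDot
import Cfsg.Agent.Lib.Helper44_OCent
import Cfsg.Agent.Lib.Helper44_StdForms
import Cfsg.Agent.Lib.Helper5_QuadCount
import Cfsg.Agent.Lib.Helper44_Levi

set_option autoImplicit false
set_option linter.unusedSectionVars false

/-!
Counting pairwise orthogonal linearly independent frames of vectors with `Q = 1`, for a non-degenerate quadratic form
over a finite field of characteristic two (helper44).  The frames are fibred over shorter frames; the fibre over a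
`k`-frame (`k ≥ 1`) has `q^(n-k-1) - q^(k-1)` elements.
-/

namespace Cfsg.Agent.Lib.Helper44_OFrameCount

open Cfsg Matrix Module Cfsg.Agent.Lib.Helper44_CD2 Cfsg.Agent.Lib.Helper44_Inv2Class
  Cfsg.Agent.Lib.Helper44_OrthDot Cfsg.Agent.Lib.Helper44_OCent Cfsg.Agent.Lib.Helper44_StdForms

variable {ι : Type} [Fintype ι] [DecidableEq ι] {F : Type*} [Field F]

section generic

variable (Q : QuadraticForm F (ι → F))

/-- The vectors orthogonal to all members of a family. -/
def perpSet {k : ℕ} (τ : Fin k → (ι → F)) : Submodule F (ι → F) :=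
  orth Q (Submodule.span F (Set.range τ))

theorem mem_perpSet {k : ℕ} (τ : Fin k → (ι → F)) (w : ι → F) :
    w ∈ perpSet Q τ ↔ ∀ i, QuadraticMap.polar (⇑Q) (τ i) w = 0 := by
  rw [perpSet, mem_orth]
  constructor
  · intro h i
    exact h _ (Submodule.subset_span ⟨i, rfl⟩)
  · intro h n hn
    induction hn using Submodule.span_induction with
    | mem x hx =>
      obtain ⟨i, rfl⟩ := hx
      exact h i
    | zero => simp [QuadraticMap.polar]
    | add x y _ _ hx hy => rw [QuadraticMap.polar_add_left, hx, hy, add_zero]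
    | smul a x _ hx => rw [QuadraticMap.polar_smul_left, hx, smul_zero]

variable [Fintype F]

theorem card_perpSet (hQ : (QuadraticMap.polarBilin Q).Nondegenerate) {k : ℕ} (τ : Fin k → (ι → F))
    (hτ : LinearIndependent F τ) :
    Nat.card ↥(perpSet Q τ) = Fintype.card F ^ (Fintype.card ι - k) := by
  rw [Module.natCard_eq_pow_finrank (K := F), Nat.card_eq_fintype_card]
  congr 1
  rw [perpSet, orth, LinearMap.BilinForm.finrank_orthogonal hQ, finrank_span_eq_card hτ,
    Fintype.card_fin]
  simp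

/-- Squaring is surjective on a finite field of characteristic two. -/
theorem exists_mul_self (h2 : (2 : F) = 0) (d : F) : ∃ a : F, a * a = d := by
  have hinj : Function.Injective (fun a : F => a * a) := by
    intro a b hab
    have h3 : (a - b) * (a - b) = 0 := by
      have : (a - b) * (a - b) = a * a - 2 * (a * b) + b * b := by ring
      rw [this, h2, zero_mul, sub_zero]
      have hab' : a * a = b * b := hab
      rw [hab']
      have : b * b + b * b = 2 * (b * b) := by ring
      rw [this, h2, zero_mul]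
    exact sub_eq_zero.mp (mul_self_eq_zero.mp h3)
  exact (Finite.injective_iff_surjective.mp hinj) d

/-- The number of vectors orthogonal to a frame containing a vector with `Q = 1`, with a prescribed value of `Q`. -/
theorem card_perp_val (hQ : (QuadraticMap.polarBilin Q).Nondegenerate) (h2 : (2 : F) = 0) {k : ℕ}
    (τ : Fin k → (ι → F)) (hτ : LinearIndependent F τ)
    (horth : ∀ i j, QuadraticMap.polar (⇑Q) (τ i) (τ j) = 0) (i₀ : Fin k) (h1 : Q (τ i₀) = 1) (c : F) :
    Nat.card {w : ι → F // (∀ i, QuadraticMap.polar (⇑Q) (τ i) w = 0) ∧ Q w = c} =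
      Fintype.card F ^ (Fintype.card ι - k - 1) := by
  classical
  have hfib : ∀ d : F,
      Nat.card {w : ι → F // (∀ i, QuadraticMap.polar (⇑Q) (τ i) w = 0) ∧ Q w = d} =
      Nat.card {w : ι → F // (∀ i, QuadraticMap.polar (⇑Q) (τ i) w = 0) ∧ Q w = c} := by
    intro d
    obtain ⟨a, ha⟩ := exists_mul_self h2 (c - d)
    refine Nat.card_congr (Equiv.subtypeEquiv (Equiv.addRight (a • τ i₀)) ?_)
    intro w
    simp only [Equiv.coe_addRight]
    have hperp : (∀ i, QuadraticMap.polar (⇑Q) (τ i) (w + a • τ i₀) = 0) ↔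
        ∀ i, QuadraticMap.polar (⇑Q) (τ i) w = 0 := by
      apply forall_congr'
      intro i
      rw [QuadraticMap.polar_add_right, QuadraticMap.polar_smul_right, horth i i₀, smul_zero, add_zero]
    rw [hperp]
    have hval : (∀ i, QuadraticMap.polar (⇑Q) (τ i) w = 0) → Q (w + a • τ i₀) = Q w + (c - d) := by
      intro hp
      rw [QuadraticMap.map_add Q, QuadraticMap.map_smul, h1, QuadraticMap.polar_smul_right,
        QuadraticMap.polar_comm, hp i₀, smul_zero, add_zero, smul_eq_mul, mul_one, ha]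
    constructor
    · rintro ⟨hp, hq⟩
      refine ⟨hp, ?_⟩
      rw [hval hp, hq]
      ring
    · rintro ⟨hp, hq⟩
      refine ⟨hp, ?_⟩
      rw [hval hp] at hq
      linear_combination hq
  have e : ↥(perpSet Q τ) ≃
      Σ d : F, {w : ι → F // (∀ i, QuadraticMap.polar (⇑Q) (τ i) w = 0) ∧ Q w = d} :=
    { toFun := fun w => ⟨Q w.1, w.1, (mem_perpSet Q τ w.1).mp w.2, rfl⟩
      invFun := fun p => ⟨p.2.1, (mem_perpSet Q τ _).mpr p.2.2.1⟩
      left_inv := fun w => rfl
      right_inv := fun ⟨d, w, hw, hd⟩ => by subst hd; rfl }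
  have hsum := Nat.card_congr e
  rw [Nat.card_sigma, card_perpSet Q hQ τ hτ] at hsum
  simp only [hfib] at hsum
  rw [Finset.sum_const, Finset.card_univ, smul_eq_mul] at hsum
  -- `k ≤ n - k`, `1 ≤ k`
  have hk1 : 1 ≤ k := by
    have := i₀.2
    omega
  have hle : k ≤ Fintype.card ι - k := by
    have h3 : Submodule.span F (Set.range τ) ≤ perpSet Q τ := by
      rw [Submodule.span_le]
      rintro _ ⟨j, rfl⟩
      exact (mem_perpSet Q τ _).mpr (fun i => horth i j)
    have h4 := Submodule.finrank_mono h3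
    rw [finrank_span_eq_card hτ, Fintype.card_fin] at h4
    have h5 : finrank F ↥(perpSet Q τ) = Fintype.card ι - k := by
      rw [perpSet, orth, LinearMap.BilinForm.finrank_orthogonal hQ, finrank_span_eq_card hτ,
        Fintype.card_fin]
      simp
    omega
  have hq : 0 < Fintype.card F := Fintype.card_pos
  have : Fintype.card F ^ (Fintype.card ι - k) =
      Fintype.card F * Fintype.card F ^ (Fintype.card ι - k - 1) := by
    rw [← pow_succ']
    congr 1
    omega
  rw [this] at hsum
  exact (Nat.eq_of_mul_eq_mul_left hq hsum).symm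

/-- The number of vectors with `Q = 1` in the span of a frame of pairwise orthogonal vectors with `Q = 1`. -/
theorem card_span_val (h2 : (2 : F) = 0) {k : ℕ} (hk : 1 ≤ k)
    (τ : Fin k → (ι → F)) (hτ : LinearIndependent F τ)
    (horth : ∀ i j, QuadraticMap.polar (⇑Q) (τ i) (τ j) = 0) (h1 : ∀ i, Q (τ i) = 1) :
    Nat.card {w : ι → F // w ∈ Submodule.span F (Set.range τ) ∧ Q w = 1} =
      Fintype.card F ^ (k - 1) := by
  have h1ne : (1 : Fin k → F) ≠ 0 := by
    intro h
    have := congrFun h ⟨0, hk⟩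
    simp at this
  rw [← Cfsg.Agent.Lib.Helper5_QuadCount.card_dotProduct_eq (1 : Fin k → F) h1ne 1]
  symm
  have hQa : ∀ a : Fin k → F, Q (∑ i, a i • τ i) = a ⬝ᵥ a := by
    intro a
    rw [Q_comb Q τ (fun i j _ => horth i j) a]
    simp only [dotProduct]
    apply Finset.sum_congr rfl
    intro i _
    rw [h1 i, mul_one]
  refine Nat.card_congr (Equiv.ofBijective
    (fun a : {a : Fin k → F // (1 : Fin k → F) ⬝ᵥ a = 1} =>
      (⟨∑ i, a.1 i • τ i, ?_, ?_⟩ :
        {w : ι → F // w ∈ Submodule.span F (Set.range τ) ∧ Q w = 1})) ⟨?_, ?_⟩)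
  · exact Submodule.sum_mem _ (fun i _ => Submodule.smul_mem _ _ (Submodule.subset_span ⟨i, rfl⟩))
  · rw [hQa, dot_self_eq_one_iff h2, dotProduct_comm]
    exact a.2
  · rintro ⟨a, ha⟩ ⟨b, hb⟩ hab
    apply Subtype.ext
    have h3 : ∑ i, a i • τ i = ∑ i, b i • τ i := congrArg Subtype.val hab
    have h4 : ∑ i, (a - b) i • τ i = 0 := by
      simp only [Pi.sub_apply, sub_smul]
      rw [Finset.sum_sub_distrib, h3, sub_self]
    funext i
    have := Fintype.linearIndependent_iff.mp hτ (a - b) h4 i
    exact sub_eq_zero.mp this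
  · rintro ⟨w, hw, hQw⟩
    rw [Submodule.mem_span_range_iff_exists_fun] at hw
    obtain ⟨a, ha⟩ := hw
    refine ⟨⟨a, ?_⟩, ?_⟩
    · rw [dotProduct_comm, ← dot_self_eq_one_iff h2, ← hQa, ha]
      exact hQw
    · apply Subtype.ext
      exact ha

/-- Frames of `k` linearly independent pairwise orthogonal vectors with `Q = c`. -/
def QF (k : ℕ) (c : F) : Type _ :=
  {y : Fin k → (ι → F) // LinearIndependent F y ∧
    (∀ i j, QuadraticMap.polar (⇑Q) (y i) (y j) = 0) ∧ ∀ i, Q (y i) = c}

/-- The fibre of dropping the first vector of a frame. -/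
def QFib (k : ℕ) (c : F) (τ : Fin k → (ι → F)) : Type _ :=
  {w : ι → F // w ∉ Submodule.span F (Set.range τ) ∧
    (∀ i, QuadraticMap.polar (⇑Q) (τ i) w = 0) ∧ Q w = c}

omit [Fintype F] in
theorem polar_self_zero (h2 : (2 : F) = 0) (w : ι → F) : QuadraticMap.polar (⇑Q) w w = 0 := by
  rw [QuadraticMap.polar_self, nsmul_eq_mul, Nat.cast_ofNat, h2, zero_mul]

/-- The fibration of frames. -/
def qfEquiv (h2 : (2 : F) = 0) (k : ℕ) (c : F) :
    QF Q (k + 1) c ≃ Σ τ : QF Q k c, QFib Q k c τ.1 where
  toFun := fun v => ⟨⟨Fin.tail v.1, by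
      have h := v.2.1
      rw [← Fin.cons_self_tail v.1, linearIndependent_finCons] at h
      exact h.1, fun i j => v.2.2.1 i.succ j.succ, fun i => v.2.2.2 i.succ⟩,
    ⟨v.1 0, by
      have h := v.2.1
      rw [← Fin.cons_self_tail v.1, linearIndependent_finCons] at h
      exact h.2, fun i => v.2.2.1 i.succ 0, v.2.2.2 0⟩⟩
  invFun := fun p => ⟨Fin.cons p.2.1 p.1.1, by
      rw [linearIndependent_finCons]
      exact ⟨p.1.2.1, p.2.2.1⟩, by
      intro i j
      refine Fin.cases ?_ (fun i => ?_) i <;> refine Fin.cases ?_ (fun j => ?_) j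
      · simp only [Fin.cons_zero]
        exact polar_self_zero Q h2 _
      · simp only [Fin.cons_zero, Fin.cons_succ]
        rw [QuadraticMap.polar_comm]
        exact p.2.2.2.1 j
      · simp only [Fin.cons_zero, Fin.cons_succ]
        exact p.2.2.2.1 i
      · simp only [Fin.cons_succ]
        exact p.1.2.2.1 i j, by
      intro i
      refine Fin.cases ?_ (fun i => ?_) i
      · simp only [Fin.cons_zero]
        exact p.2.2.2.2
      · simp only [Fin.cons_succ]
        exact p.1.2.2.2 i⟩
  left_inv := by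
    rintro ⟨v, hv1, hv2, hv3⟩
    apply Subtype.ext
    exact Fin.cons_self_tail v
  right_inv := by
    rintro ⟨⟨τ, hτ1, hτ2, hτ3⟩, ⟨w, hw1, hw2, hw3⟩⟩
    rfl

/-- The size of a fibre, for `c = 1` and `k ≥ 1`. -/
theorem card_qfib_one (hQ : (QuadraticMap.polarBilin Q).Nondegenerate) (h2 : (2 : F) = 0) {k : ℕ}
    (hk : 1 ≤ k) (τ : Fin k → (ι → F)) (hτ : LinearIndependent F τ)
    (horth : ∀ i j, QuadraticMap.polar (⇑Q) (τ i) (τ j) = 0) (h1 : ∀ i, Q (τ i) = 1) :
    Nat.card (QFib Q k 1 τ) =
      Fintype.card F ^ (Fintype.card ι - k - 1) - Fintype.card F ^ (k - 1) := by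
  classical
  set A : Set (ι → F) := {w | (∀ i, QuadraticMap.polar (⇑Q) (τ i) w = 0) ∧ Q w = 1} with hA
  set B : Set (ι → F) := {w | w ∈ Submodule.span F (Set.range τ) ∧ Q w = 1} with hB
  have h3 : Submodule.span F (Set.range τ) ≤ perpSet Q τ := by
    rw [Submodule.span_le]
    rintro _ ⟨j, rfl⟩
    exact (mem_perpSet Q τ _).mpr (fun i => horth i j)
  have hBA : B ⊆ A := fun w hw => ⟨(mem_perpSet Q τ w).mp (h3 hw.1), hw.2⟩
  have hset : Nat.card (QFib Q k 1 τ) = (A \ B).ncard := by
    rw [← Nat.card_coe_set_eq]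
    apply Nat.card_congr
    apply Equiv.subtypeEquivRight
    intro w
    constructor
    · rintro ⟨hn, hp, hq⟩
      exact ⟨⟨hp, hq⟩, fun hb => hn hb.1⟩
    · rintro ⟨⟨hp, hq⟩, hnb⟩
      exact ⟨fun hs => hnb ⟨hs, hq⟩, hp, hq⟩
  rw [hset, Set.ncard_sdiff hBA, ← Nat.card_coe_set_eq, ← Nat.card_coe_set_eq]
  have hcA : Nat.card ↥A = Fintype.card F ^ (Fintype.card ι - k - 1) :=
    card_perp_val Q hQ h2 τ hτ horth ⟨0, hk⟩ (h1 _) 1
  have hcB : Nat.card ↥B = Fintype.card F ^ (k - 1) := card_span_val Q h2 hk τ hτ horth h1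
  rw [hcA, hcB]

theorem card_QF_succ (hQ : (QuadraticMap.polarBilin Q).Nondegenerate) (h2 : (2 : F) = 0) {k : ℕ}
    (hk : 1 ≤ k) :
    Nat.card (QF Q (k + 1) 1) = Nat.card (QF Q k 1) *
      (Fintype.card F ^ (Fintype.card ι - k - 1) - Fintype.card F ^ (k - 1)) := by
  classical
  have : Finite (QF Q k 1) := by
    unfold QF
    infer_instance
  have : Fintype (QF Q k 1) := Fintype.ofFinite _
  have : ∀ a : QF Q k 1, Finite (QFib Q k 1 a.1) := by
    intro a
    unfold QFib
    infer_instance
  rw [Nat.card_congr (qfEquiv Q h2 k 1), Nat.card_sigma]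
  rw [Finset.sum_congr rfl (fun τ _ => card_qfib_one Q hQ h2 hk τ.1 τ.2.1 τ.2.2.1 τ.2.2.2),
    Finset.sum_const, Finset.card_univ, smul_eq_mul, Nat.card_eq_fintype_card]

theorem card_QF_one (h2 : (2 : F) = 0) :
    Nat.card (QF Q 1 1) = Nat.card {w : ι → F // Q w = 1} := by
  apply Nat.card_congr
  refine
    { toFun := fun y => ⟨y.1 0, y.2.2.2 0⟩
      invFun := fun w => ⟨fun _ => w.1, ?_, fun _ _ => polar_self_zero Q h2 _, fun _ => w.2⟩
      left_inv := fun y => by
        apply Subtype.ext
        funext i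
        have : i = 0 := Subsingleton.elim _ _
        rw [this]
      right_inv := fun w => rfl }
  rw [linearIndependent_unique_iff]
  intro h0
  have := w.2
  rw [h0, map_zero] at this
  exact zero_ne_one this

end generic

/-! ### The hyperbolic form -/

section plus

variable {m : ℕ} [Fintype F]

theorem card_qfPlus_eq_one :
    Nat.card {w : Fin m ⊕ Fin m → F // qfPlus m F w = 1} =
      (Fintype.card F ^ m - 1) * Fintype.card F ^ (m - 1) := by
  classical
  have h := Cfsg.Agent.Lib.Helper5_QuadCount.card_pairs (F := F) m 1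
  rw [if_neg one_ne_zero, zero_add] at h
  rw [← h]
  refine Nat.card_congr (Equiv.subtypeEquiv (Equiv.sumArrowEquivProdArrow (Fin m) (Fin m) F) ?_)
  intro w
  have : qfPlus m F w = Cfsg.quadFormPlus m F w := by rw [← coe_qfPlus]
  rw [this]
  rfl

/-- The product `∏_{i<k} (q^(2(i+1)) - 1)`. -/
def P (q k : ℕ) : ℕ := ∏ i ∈ Finset.range k, (q ^ (2 * (i + 1)) - 1)

theorem P_succ (q k : ℕ) : P q (k + 1) = P q k * (q ^ (2 * (k + 1)) - 1) := by
  unfold P
  rw [Finset.prod_range_succ]

/-- **Count of orthogonal frames of vectors with `Q = 1`** for the hyperbolic form, in multiplicative form. -/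
theorem card_QF_plus (h2 : (2 : F) = 0) : ∀ s, 1 ≤ s → s ≤ m →
    Nat.card (QF (qfPlus m F) s 1) * P (Fintype.card F) (m - s) =
      (Fintype.card F ^ m - 1) * Fintype.card F ^ (m - 1) *
        Fintype.card F ^ ((s - 1) * (s - 2) / 2) * P (Fintype.card F) (m - 1) := by
  intro s hs1
  induction s, hs1 using Nat.le_induction with
  | base =>
    intro _
    rw [card_QF_one _ h2, card_qfPlus_eq_one]
    simp
  | succ s hs1 ih =>
    intro hsm
    have ih' := ih (by omega)
    have hcard : Fintype.card (Fin m ⊕ Fin m) = 2 * m := by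
      rw [Fintype.card_sum, Fintype.card_fin]
      ring
    rw [card_QF_succ _ (Cfsg.Agent.Lib.Helper44_Levi.nondegenerate_qfPlus m F) h2 hs1, hcard]
    have hP : P (Fintype.card F) (m - s) =
        P (Fintype.card F) (m - (s + 1)) * (Fintype.card F ^ (2 * (m - s)) - 1) := by
      have : m - s = (m - (s + 1)) + 1 := by omega
      conv_lhs => rw [this]
      rw [P_succ]
      congr 3
      omega
    rw [hP] at ih'
    have hfac : Fintype.card F ^ (2 * m - s - 1) - Fintype.card F ^ (s - 1) =
        Fintype.card F ^ (s - 1) * (Fintype.card F ^ (2 * (m - s)) - 1) := by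
      rw [Nat.mul_sub, mul_one, ← pow_add]
      congr 2
      omega
    rw [hfac]
    have hexp : (s + 1 - 1) * (s + 1 - 2) / 2 = (s - 1) + (s - 1) * (s - 2) / 2 := by
      obtain ⟨t, rfl⟩ : ∃ t, s = t + 1 := ⟨s - 1, by omega⟩
      have e1 : t + 1 + 1 - 1 = t + 1 := by omega
      have e2 : t + 1 + 1 - 2 = t := by omega
      have e3 : t + 1 - 1 = t := by omega
      rw [e1, e2, e3]
      have h1 : (t + 1) * t = 2 * t + t * (t + 1 - 2) := by
        rcases t with _ | u
        · rfl
        · have : u + 1 + 1 - 2 = u := by omega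
          rw [this]
          ring
      rw [h1, Nat.mul_add_div (by norm_num : 0 < 2)]
    rw [hexp, pow_add]
    by_cases hz : Fintype.card F ^ (2 * (m - s)) - 1 = 0
    · exfalso
      have hq : 1 < Fintype.card F := Fintype.one_lt_card
      have : 1 < Fintype.card F ^ (2 * (m - s)) := Nat.one_lt_pow (by omega) hq
      omega
    · apply Nat.eq_of_mul_eq_mul_right (Nat.pos_of_ne_zero hz)
      calc Nat.card (QF (qfPlus m F) s 1) *
            (Fintype.card F ^ (s - 1) * (Fintype.card F ^ (2 * (m - s)) - 1)) *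
            P (Fintype.card F) (m - (s + 1)) * (Fintype.card F ^ (2 * (m - s)) - 1)
          = Fintype.card F ^ (s - 1) * (Fintype.card F ^ (2 * (m - s)) - 1) *
            (Nat.card (QF (qfPlus m F) s 1) *
              (P (Fintype.card F) (m - (s + 1)) * (Fintype.card F ^ (2 * (m - s)) - 1))) := by ring
        _ = _ := by rw [ih']; ring

/-- The frames of `Helper44_OCent` with constant values. -/
theorem card_qFrames_const (Q : QuadraticForm F (ι → F)) (s : ℕ) (c : F) :
    Nat.card ↥(qFrames (s := s) Q (fun _ => c)) = Nat.card (QF Q s c) := rfl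

end plus

end Cfsg.Agent.Lib.Helper44_OFrameCount
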