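import Mathlib
import Cfsg.Agent.Lib.Helper44_OFrameCount

set_option autoImplicit false
set_option linter.unusedSectionVars false

/-!
Counting totally singular frames (linearly independent, pairwise orthogonal, `Q = 0`) for a non-degenerate quadratic
form over a finite field (helper44).  The number of singular vectors orthogonal to a totally singular `k`-frame is
computed by induction on `k`: passing to the hyperplane `y^⊥` removes exactly one singular vector from each line
`w + F y` with `f(y, w) ≠ 0`.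
-/

namespace Cfsg.Agent.Lib.Helper44_OFrameZero

open Cfsg Matrix Module Cfsg.Agent.Lib.Helper44_CD2 Cfsg.Agent.Lib.Helper44_Inv2Class
  Cfsg.Agent.Lib.Helper44_OrthDot Cfsg.Agent.Lib.Helper44_OCent Cfsg.Agent.Lib.Helper44_StdForms
  Cfsg.Agent.Lib.Helper44_OFrameCount

variable {ι : Type} [Fintype ι] [DecidableEq ι] {F : Type*} [Field F]

section generic

variable (Q : QuadraticForm F (ι → F))

/-- The shear `w ↦ w + (c / f(y, w)) y` along a singular vector `y`. -/
def shear (y : ι → F) (hy : Q y = 0) (c : F) : (ι → F) ≃ (ι → F) where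
  toFun := fun w => w + (c / QuadraticMap.polar (⇑Q) y w) • y
  invFun := fun w => w - (c / QuadraticMap.polar (⇑Q) y w) • y
  left_inv := fun w => by
    have hyy : QuadraticMap.polar (⇑Q) y y = 0 := by
      rw [QuadraticMap.polar_self, hy, smul_zero]
    have : QuadraticMap.polar (⇑Q) y (w + (c / QuadraticMap.polar (⇑Q) y w) • y)
        = QuadraticMap.polar (⇑Q) y w := by
      rw [QuadraticMap.polar_add_right, QuadraticMap.polar_smul_right, hyy, smul_zero, add_zero]
    simp only [this]
    abel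
  right_inv := fun w => by
    have hyy : QuadraticMap.polar (⇑Q) y y = 0 := by
      rw [QuadraticMap.polar_self, hy, smul_zero]
    have : QuadraticMap.polar (⇑Q) y (w - (c / QuadraticMap.polar (⇑Q) y w) • y)
        = QuadraticMap.polar (⇑Q) y w := by
      rw [QuadraticMap.polar_sub_right, QuadraticMap.polar_smul_right, hyy, smul_zero, sub_zero]
    simp only [this]
    abel

theorem shear_apply (y : ι → F) (hy : Q y = 0) (c : F) (w : ι → F) :
    shear Q y hy c w = w + (c / QuadraticMap.polar (⇑Q) y w) • y := rfl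

theorem polar_shear (y : ι → F) (hy : Q y = 0) (c : F) (w : ι → F) :
    QuadraticMap.polar (⇑Q) y (shear Q y hy c w) = QuadraticMap.polar (⇑Q) y w := by
  have hyy : QuadraticMap.polar (⇑Q) y y = 0 := by
    rw [QuadraticMap.polar_self, hy, smul_zero]
  rw [shear_apply, QuadraticMap.polar_add_right, QuadraticMap.polar_smul_right, hyy, smul_zero, add_zero]

theorem Q_shear (y : ι → F) (hy : Q y = 0) (c : F) (w : ι → F)
    (hw : QuadraticMap.polar (⇑Q) y w ≠ 0) : Q (shear Q y hy c w) = Q w + c := by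
  have hw' : QuadraticMap.polar (⇑Q) w y ≠ 0 := by rwa [QuadraticMap.polar_comm]
  rw [shear_apply, QuadraticMap.map_add Q, QuadraticMap.map_smul, hy, smul_zero, add_zero,
    QuadraticMap.polar_smul_right, QuadraticMap.polar_comm (⇑Q) y w, smul_eq_mul, div_mul_cancel₀ c hw']

variable [Fintype F]

/-- Passing to the hyperplane `y^⊥`: the singular vectors lost number `(q^(n-k) - q^(n-k-1)) / q`. -/
theorem card_zset_cons (hQ : (QuadraticMap.polarBilin Q).Nondegenerate) {k : ℕ}
    (τ : Fin k → (ι → F)) (y : ι → F)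
    (hli : LinearIndependent F (Fin.cons y τ : Fin (k + 1) → (ι → F)))
    (hy : ∀ i, QuadraticMap.polar (⇑Q) (τ i) y = 0) (hQy : Q y = 0) :
    Fintype.card F * Nat.card {w : ι → F // (∀ i, QuadraticMap.polar (⇑Q) (τ i) w = 0) ∧ Q w = 0} +
      Fintype.card F ^ (Fintype.card ι - (k + 1)) =
    Fintype.card F * Nat.card {w : ι → F //
      (∀ i, QuadraticMap.polar (⇑Q) ((Fin.cons y τ : Fin (k + 1) → (ι → F)) i) w = 0) ∧ Q w = 0} +
      Fintype.card F ^ (Fintype.card ι - k) := by
  classical
  have hliτ : LinearIndependent F τ := (linearIndependent_finCons.mp hli).1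
  have hcons : ∀ w : ι → F,
      (∀ i, QuadraticMap.polar (⇑Q) ((Fin.cons y τ : Fin (k + 1) → (ι → F)) i) w = 0) ↔
      (QuadraticMap.polar (⇑Q) y w = 0 ∧ ∀ i, QuadraticMap.polar (⇑Q) (τ i) w = 0) := by
    intro w
    rw [Fin.forall_fin_succ]
    simp only [Fin.cons_zero, Fin.cons_succ]
  -- the pieces with prescribed value of `Q` off the hyperplane
  have hfib : ∀ d : F,
      Nat.card {w : ι → F // (∀ i, QuadraticMap.polar (⇑Q) (τ i) w = 0) ∧
        QuadraticMap.polar (⇑Q) y w ≠ 0 ∧ Q w = d} =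
      Nat.card {w : ι → F // (∀ i, QuadraticMap.polar (⇑Q) (τ i) w = 0) ∧
        QuadraticMap.polar (⇑Q) y w ≠ 0 ∧ Q w = 0} := by
    intro d
    refine Nat.card_congr (Equiv.subtypeEquiv (shear Q y hQy (-d)) ?_)
    intro w
    have hperp : (∀ i, QuadraticMap.polar (⇑Q) (τ i) (shear Q y hQy (-d) w) = 0) ↔
        ∀ i, QuadraticMap.polar (⇑Q) (τ i) w = 0 := by
      apply forall_congr'
      intro i
      rw [shear_apply, QuadraticMap.polar_add_right, QuadraticMap.polar_smul_right, hy i, smul_zero,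
        add_zero]
    rw [hperp, polar_shear]
    constructor
    · rintro ⟨hp, hne, hq⟩
      refine ⟨hp, hne, ?_⟩
      rw [Q_shear Q y hQy _ w hne, hq, add_neg_cancel]
    · rintro ⟨hp, hne, hq⟩
      refine ⟨hp, hne, ?_⟩
      rw [Q_shear Q y hQy _ w hne] at hq
      exact add_neg_eq_zero.mp hq
  -- the complement of the hyperplane in `τ^⊥`
  have hD : Nat.card {w : ι → F // (∀ i, QuadraticMap.polar (⇑Q) (τ i) w = 0) ∧
        QuadraticMap.polar (⇑Q) y w ≠ 0} + Fintype.card F ^ (Fintype.card ι - (k + 1)) =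
      Fintype.card F ^ (Fintype.card ι - k) := by
    rw [← card_perpSet Q hQ τ hliτ, ← card_perpSet Q hQ _ hli]
    have e : ↥(perpSet Q τ) ≃
        {w : ι → F // (∀ i, QuadraticMap.polar (⇑Q) (τ i) w = 0) ∧
          QuadraticMap.polar (⇑Q) y w ≠ 0} ⊕
        ↥(perpSet Q (Fin.cons y τ : Fin (k + 1) → (ι → F))) :=
      { toFun := fun w =>
          if h : QuadraticMap.polar (⇑Q) y w.1 = 0 then
            Sum.inr ⟨w.1, (mem_perpSet Q _ w.1).mpr ((hcons w.1).mpr ⟨h, (mem_perpSet Q τ w.1).mp w.2⟩)⟩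
          else Sum.inl ⟨w.1, (mem_perpSet Q τ w.1).mp w.2, h⟩
        invFun := fun p => Sum.elim (fun w => ⟨w.1, (mem_perpSet Q τ w.1).mpr w.2.1⟩)
          (fun w => ⟨w.1, (mem_perpSet Q τ w.1).mpr ((hcons w.1).mp ((mem_perpSet Q _ w.1).mp w.2)).2⟩) p
        left_inv := fun w => by
          by_cases h : QuadraticMap.polar (⇑Q) y w.1 = 0
          · simp [h]
          · simp [h]
        right_inv := fun p => by
          rcases p with w | w
          · have h : ¬ QuadraticMap.polar (⇑Q) y w.1 = 0 := w.2.2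
            simp [h]
          · have h : QuadraticMap.polar (⇑Q) y w.1 = 0 :=
              ((hcons w.1).mp ((mem_perpSet Q _ w.1).mp w.2)).1
            simp [h] }
    rw [Nat.card_congr e, Nat.card_sum]
  have eD : {w : ι → F // (∀ i, QuadraticMap.polar (⇑Q) (τ i) w = 0) ∧
        QuadraticMap.polar (⇑Q) y w ≠ 0} ≃
      Σ d : F, {w : ι → F // (∀ i, QuadraticMap.polar (⇑Q) (τ i) w = 0) ∧
        QuadraticMap.polar (⇑Q) y w ≠ 0 ∧ Q w = d} :=
    { toFun := fun w => ⟨Q w.1, w.1, w.2.1, w.2.2, rfl⟩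
      invFun := fun p => ⟨p.2.1, p.2.2.1, p.2.2.2.1⟩
      left_inv := fun w => rfl
      right_inv := fun ⟨d, w, hw, hne, hd⟩ => by subst hd; rfl }
  have hsum := Nat.card_congr eD
  rw [Nat.card_sigma] at hsum
  simp only [hfib] at hsum
  rw [Finset.sum_const, Finset.card_univ, smul_eq_mul] at hsum
  -- splitting the singular vectors of `τ^⊥`
  have eA : {w : ι → F // (∀ i, QuadraticMap.polar (⇑Q) (τ i) w = 0) ∧ Q w = 0} ≃
      {w : ι → F // (∀ i, QuadraticMap.polar (⇑Q) ((Fin.cons y τ : Fin (k + 1) → (ι → F)) i) w = 0) ∧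
        Q w = 0} ⊕
      {w : ι → F // (∀ i, QuadraticMap.polar (⇑Q) (τ i) w = 0) ∧
        QuadraticMap.polar (⇑Q) y w ≠ 0 ∧ Q w = 0} :=
    { toFun := fun w =>
        if h : QuadraticMap.polar (⇑Q) y w.1 = 0 then
          Sum.inl ⟨w.1, (hcons w.1).mpr ⟨h, w.2.1⟩, w.2.2⟩
        else Sum.inr ⟨w.1, w.2.1, h, w.2.2⟩
      invFun := fun p => Sum.elim (fun w => ⟨w.1, ((hcons w.1).mp w.2.1).2, w.2.2⟩)
        (fun w => ⟨w.1, w.2.1, w.2.2.2⟩) p
      left_inv := fun w => by
        by_cases h : QuadraticMap.polar (⇑Q) y w.1 = 0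
        · simp [h]
        · simp [h]
      right_inv := fun p => by
        rcases p with w | w
        · have h : QuadraticMap.polar (⇑Q) y w.1 = 0 := ((hcons w.1).mp w.2.1).1
          simp [h]
        · have h : ¬ QuadraticMap.polar (⇑Q) y w.1 = 0 := w.2.2.1
          simp [h] }
  rw [Nat.card_congr eA, Nat.card_sum, Nat.mul_add, ← hsum, ← hD]
  ring

/-- **Singular vectors orthogonal to a totally singular frame.** -/
theorem card_zset (hQ : (QuadraticMap.polarBilin Q).Nondegenerate) : ∀ (k : ℕ) (τ : Fin k → (ι → F)),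
    LinearIndependent F τ → (∀ i j, QuadraticMap.polar (⇑Q) (τ i) (τ j) = 0) → (∀ i, Q (τ i) = 0) →
    Fintype.card F * Nat.card {w : ι → F // (∀ i, QuadraticMap.polar (⇑Q) (τ i) w = 0) ∧ Q w = 0} +
      Fintype.card F ^ Fintype.card ι =
    Fintype.card F * Nat.card {w : ι → F // Q w = 0} + Fintype.card F ^ (Fintype.card ι - k) := by
  intro k
  induction k with
  | zero =>
    intro τ _ _ _
    have e : {w : ι → F // (∀ i : Fin 0, QuadraticMap.polar (⇑Q) (τ i) w = 0) ∧ Q w = 0} ≃
        {w : ι → F // Q w = 0} :=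
      Equiv.subtypeEquivRight (fun w => ⟨fun h => h.2, fun h => ⟨fun i => i.elim0, h⟩⟩)
    rw [Nat.card_congr e, Nat.sub_zero]
  | succ k ih =>
    intro τ hli horth h0
    have hli' : LinearIndependent F (Fin.cons (τ 0) (Fin.tail τ) : Fin (k + 1) → (ι → F)) := by
      rw [Fin.cons_self_tail]
      exact hli
    have h1 := card_zset_cons Q hQ (Fin.tail τ) (τ 0) hli' (fun i => horth i.succ 0) (h0 0)
    rw [Fin.cons_self_tail] at h1
    have h3 := ih (Fin.tail τ) (linearIndependent_finCons.mp hli').1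
      (fun i j => horth i.succ j.succ) (fun i => h0 i.succ)
    omega

/-- The fibre over a totally singular frame: singular vectors of `τ^⊥` outside the span of `τ`. -/
theorem card_qfib_zero {k : ℕ} (τ : Fin k → (ι → F)) (hτ : LinearIndependent F τ)
    (horth : ∀ i j, QuadraticMap.polar (⇑Q) (τ i) (τ j) = 0) (h0 : ∀ i, Q (τ i) = 0) :
    Nat.card (QFib Q k 0 τ) + Fintype.card F ^ k =
      Nat.card {w : ι → F // (∀ i, QuadraticMap.polar (⇑Q) (τ i) w = 0) ∧ Q w = 0} := by
  classical
  have hspan : ∀ w ∈ Submodule.span F (Set.range τ),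
      (∀ i, QuadraticMap.polar (⇑Q) (τ i) w = 0) ∧ Q w = 0 := by
    intro w hw
    constructor
    · have h3 : Submodule.span F (Set.range τ) ≤ perpSet Q τ := by
        rw [Submodule.span_le]
        rintro _ ⟨j, rfl⟩
        exact (mem_perpSet Q τ _).mpr (fun i => horth i j)
      exact (mem_perpSet Q τ w).mp (h3 hw)
    · rw [Submodule.mem_span_range_iff_exists_fun] at hw
      obtain ⟨a, rfl⟩ := hw
      rw [Q_comb Q τ (fun i j _ => horth i j) a]
      apply Finset.sum_eq_zero
      intro i _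
      rw [h0 i, mul_zero]
  have hcs : Nat.card ↥(Submodule.span F (Set.range τ)) = Fintype.card F ^ k := by
    rw [Module.natCard_eq_pow_finrank (K := F), Nat.card_eq_fintype_card, finrank_span_eq_card hτ,
      Fintype.card_fin]
  have e : {w : ι → F // (∀ i, QuadraticMap.polar (⇑Q) (τ i) w = 0) ∧ Q w = 0} ≃
      QFib Q k 0 τ ⊕ ↥(Submodule.span F (Set.range τ)) :=
    { toFun := fun w =>
        if h : w.1 ∈ Submodule.span F (Set.range τ) then Sum.inr ⟨w.1, h⟩
        else Sum.inl ⟨w.1, h, w.2.1, w.2.2⟩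
      invFun := fun p => Sum.elim (fun w : QFib Q k 0 τ => ⟨w.1, w.2.2.1, w.2.2.2⟩)
        (fun w => ⟨w.1, hspan w.1 w.2⟩) p
      left_inv := fun w => by
        by_cases h : w.1 ∈ Submodule.span F (Set.range τ)
        · simp [h]
        · simp [h]
          rfl
      right_inv := fun p => by
        rcases p with w | w
        · have h : w.1 ∉ Submodule.span F (Set.range τ) := w.2.1
          simp [h]
          rfl
        · have h : w.1 ∈ Submodule.span F (Set.range τ) := w.2
          simp [h] }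
  have : Finite (QFib Q k 0 τ) := by
    unfold QFib
    infer_instance
  rw [Nat.card_congr e, Nat.card_sum, hcs]

/-- Recursion for the number of totally singular frames, given the fibre size. -/
theorem card_QF_succ_zero (hQ : (QuadraticMap.polarBilin Q).Nondegenerate) (h2 : (2 : F) = 0) {k : ℕ}
    (f : ℕ) (hf : Fintype.card F * (f + Fintype.card F ^ k) + Fintype.card F ^ Fintype.card ι =
      Fintype.card F * Nat.card {w : ι → F // Q w = 0} + Fintype.card F ^ (Fintype.card ι - k)) :
    Nat.card (QF Q (k + 1) 0) = Nat.card (QF Q k 0) * f := by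
  classical
  have : Finite (QF Q k 0) := by
    unfold QF
    infer_instance
  have : Fintype (QF Q k 0) := Fintype.ofFinite _
  have : ∀ a : QF Q k 0, Finite (QFib Q k 0 a.1) := by
    intro a
    unfold QFib
    infer_instance
  have hq : 0 < Fintype.card F := Fintype.card_pos
  have hfib : ∀ τ : QF Q k 0, Nat.card (QFib Q k 0 τ.1) = f := by
    intro τ
    have h1 := card_zset Q hQ k τ.1 τ.2.1 τ.2.2.1 τ.2.2.2
    rw [← card_qfib_zero Q τ.1 τ.2.1 τ.2.2.1 τ.2.2.2] at h1
    have h3 : Fintype.card F * (Nat.card (QFib Q k 0 τ.1) + Fintype.card F ^ k) =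
        Fintype.card F * (f + Fintype.card F ^ k) := by omega
    have h4 := Nat.eq_of_mul_eq_mul_left hq h3
    omega
  rw [Nat.card_congr (qfEquiv Q h2 k 0), Nat.card_sigma]
  rw [Finset.sum_congr rfl (fun τ _ => hfib τ), Finset.sum_const, Finset.card_univ, smul_eq_mul,
    Nat.card_eq_fintype_card]

theorem card_QF_zero_zero : Nat.card (QF Q 0 0) = 1 := by
  have : Unique (QF Q 0 0) :=
    { default := ⟨Fin.elim0, linearIndependent_empty_type, fun i => i.elim0, fun i => i.elim0⟩
      uniq := fun v => Subtype.ext (Subsingleton.elim _ _) }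
  exact Nat.card_unique

end generic

/-! ### The hyperbolic form -/

section plus

variable {m : ℕ} [Fintype F]

theorem card_qfPlus_eq_zero :
    Nat.card {w : Fin m ⊕ Fin m → F // qfPlus m F w = 0} =
      Fintype.card F ^ m + (Fintype.card F ^ m - 1) * Fintype.card F ^ (m - 1) := by
  classical
  have h := Cfsg.Agent.Lib.Helper5_QuadCount.card_pairs (F := F) m 0
  rw [if_pos rfl] at h
  rw [← h]
  refine Nat.card_congr (Equiv.subtypeEquiv (Equiv.sumArrowEquivProdArrow (Fin m) (Fin m) F) ?_)
  intro w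
  have : qfPlus m F w = Cfsg.quadFormPlus m F w := by rw [← coe_qfPlus]
  rw [this]
  rfl

/-- The product `∏_{i<k} (q^(i+1) - 1)(q^i + 1)`, which is `|O⁺_{2k}(q)| / q^(k(k-1))`. -/
def R (q k : ℕ) : ℕ := ∏ i ∈ Finset.range k, ((q ^ (i + 1) - 1) * (q ^ i + 1))

theorem R_succ (q k : ℕ) : R q (k + 1) = R q k * ((q ^ (k + 1) - 1) * (q ^ k + 1)) := by
  unfold R
  rw [Finset.prod_range_succ]

/-- The fibre size identity for the hyperbolic form. -/
theorem fibre_identity (q k a : ℕ) (hq : 1 ≤ q) :
    q * (q ^ k * ((q ^ (a + 1) - 1) * (q ^ a + 1)) + q ^ k) + q ^ (2 * (k + 1 + a)) =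
      q * (q ^ (k + 1 + a) + (q ^ (k + 1 + a) - 1) * q ^ (k + 1 + a - 1)) +
        q ^ (2 * (k + 1 + a) - k) := by
  have hu : 1 ≤ q ^ k := Nat.one_le_pow _ _ hq
  have hv : 1 ≤ q ^ a := Nat.one_le_pow _ _ hq
  have e1 : q ^ (a + 1) = q * q ^ a := by rw [pow_succ']
  have e2 : q ^ (k + 1 + a) = q * (q ^ k * q ^ a) := by
    rw [pow_add, pow_succ]
    ring
  have e3 : q ^ (k + 1 + a - 1) = q ^ k * q ^ a := by
    have : k + 1 + a - 1 = k + a := by omega
    rw [this, pow_add]
  have e4 : q ^ (2 * (k + 1 + a)) = (q * (q ^ k * q ^ a)) * (q * (q ^ k * q ^ a)) := by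
    rw [two_mul, pow_add, e2]
  have e5 : q ^ (2 * (k + 1 + a) - k) = q * q * q ^ k * (q ^ a * q ^ a) := by
    have : 2 * (k + 1 + a) - k = 1 + 1 + k + (a + a) := by omega
    rw [this, pow_add, pow_add, pow_add, pow_add, pow_one]
  rw [e1, e2, e3, e4, e5]
  generalize q ^ k = u at *
  generalize q ^ a = v at *
  have h1 : 1 ≤ q * v := Nat.one_le_iff_ne_zero.mpr (Nat.mul_ne_zero (by omega) (by omega))
  have h3 : 1 ≤ q * (u * v) :=
    Nat.one_le_iff_ne_zero.mpr (Nat.mul_ne_zero (by omega) (Nat.mul_ne_zero (by omega) (by omega)))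
  zify [h1, h3]
  ring

/-- **Count of totally singular frames** for the hyperbolic form, in multiplicative form. -/
theorem card_QF_zero_plus (h2 : (2 : F) = 0) : ∀ s, s ≤ m →
    Nat.card (QF (qfPlus m F) s 0) * R (Fintype.card F) (m - s) =
      Fintype.card F ^ (s * (s - 1) / 2) * R (Fintype.card F) m := by
  intro s
  induction s with
  | zero =>
    intro _
    rw [card_QF_zero_zero]
    simp
  | succ s ih =>
    intro hsm
    have ih' := ih (by omega)
    have hcard : Fintype.card (Fin m ⊕ Fin m) = 2 * m := by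
      rw [Fintype.card_sum, Fintype.card_fin]
      ring
    obtain ⟨a, ha⟩ : ∃ a, m = s + 1 + a := ⟨m - (s + 1), by omega⟩
    have hq1 : 1 ≤ Fintype.card F := Fintype.card_pos
    have hf := fibre_identity (Fintype.card F) s a hq1
    rw [← ha] at hf
    rw [card_QF_succ_zero (qfPlus m F) (Cfsg.Agent.Lib.Helper44_Levi.nondegenerate_qfPlus m F) h2
      (Fintype.card F ^ s * ((Fintype.card F ^ (a + 1) - 1) * (Fintype.card F ^ a + 1)))
      (by rw [hcard, card_qfPlus_eq_zero]; exact hf)]
    have hR : R (Fintype.card F) (m - s) = R (Fintype.card F) (m - (s + 1)) *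
        ((Fintype.card F ^ (a + 1) - 1) * (Fintype.card F ^ a + 1)) := by
      have e1 : m - s = a + 1 := by omega
      have e2 : m - (s + 1) = a := by omega
      rw [e1, e2, R_succ]
    rw [hR] at ih'
    have hexp : (s + 1) * (s + 1 - 1) / 2 = s + s * (s - 1) / 2 := by
      have e1 : s + 1 - 1 = s := by omega
      rw [e1]
      have h1 : (s + 1) * s = 2 * s + s * (s - 1) := by
        rcases s with _ | u
        · rfl
        · have : u + 1 - 1 = u := by omega
          rw [this]
          ring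
      rw [h1, Nat.mul_add_div (by norm_num : 0 < 2)]
    rw [hexp, pow_add (Fintype.card F) s (s * (s - 1) / 2)]
    calc Nat.card (QF (qfPlus m F) s 0) *
          (Fintype.card F ^ s * ((Fintype.card F ^ (a + 1) - 1) * (Fintype.card F ^ a + 1))) *
          R (Fintype.card F) (m - (s + 1))
        = Fintype.card F ^ s * (Nat.card (QF (qfPlus m F) s 0) * (R (Fintype.card F) (m - (s + 1)) *
          ((Fintype.card F ^ (a + 1) - 1) * (Fintype.card F ^ a + 1)))) := by ring
      _ = _ := by rw [ih']; ring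

end plus

end Cfsg.Agent.Lib.Helper44_OFrameZero
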