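import Mathlib
import Cfsg.Agent.S0290
import Cfsg.Agent.Lib.Helper40_QuadStd
import Cfsg.Agent.Lib.Helper44_OFrameZero

set_option autoImplicit false

/-!
Fixed-point-free isometries of prime order of the standard even-dimensional quadratic forms:
counting singular vectors modulo `r` (helper40).
-/

namespace Cfsg.Agent.Lib.Helper40_OFixedFree

open Module Cfsg.Agent.Lib.Helper40_QuadIso Cfsg.Agent.Lib.Helper44_StdForms

universe v

variable {F : Type v} [Field F]

/-- an operator of prime order `r` without nonzero fixed vectors: an invariant subset containing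
`0` has cardinality `≡ 1 mod r` -/
theorem card_modEq_one {V : Type*} [AddCommGroup V] [Module F V] [Fintype V]
    (a : Module.End F V) (r : ℕ) (hr : r.Prime) (hpow : a ^ r = 1)
    (hfix : ∀ v, a v = v → v = 0) (P : V → Prop) (hP0 : P 0) (hP : ∀ v, P v → P (a v)) :
    Nat.card {v // P v} ≡ 1 [MOD r] := by
  classical
  have : Fact r.Prime := ⟨hr⟩
  let f : Function.End {v // P v} := fun v => ⟨a v.1, hP v.1 v.2⟩
  have hf : ∀ (k : ℕ) (v : {v // P v}), ((f ^ k) v : V) = (a ^ k) (v : V) := by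
    intro k
    induction k with
    | zero => intro v; rfl
    | succ k ih =>
      intro v
      rw [pow_succ', pow_succ']
      show a ((f ^ k) v : V) = a ((a ^ k) (v : V))
      rw [ih]
  have hfr : f ^ r ^ 1 = 1 := by
    rw [pow_one]
    funext v
    apply Subtype.ext
    rw [hf, hpow]
    rfl
  have h1 := Equiv.Perm.card_fixedPoints_modEq hfr
  rw [Fintype.card_eq_nat_card, Fintype.card_eq_nat_card] at h1
  have h2 : Nat.card ↥(Function.fixedPoints f) = 1 := by
    rw [Nat.card_eq_one_iff_unique]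
    constructor
    · constructor
      rintro ⟨x, hx⟩ ⟨y, hy⟩
      apply Subtype.ext
      have hx0 : (x : V) = 0 := hfix _ (congrArg Subtype.val hx)
      have hy0 : (y : V) = 0 := hfix _ (congrArg Subtype.val hy)
      apply Subtype.ext
      rw [hx0, hy0]
    · refine ⟨⟨⟨0, hP0⟩, ?_⟩⟩
      show f ⟨0, hP0⟩ = ⟨0, hP0⟩
      apply Subtype.ext
      show a 0 = 0
      exact map_zero a
  rw [h2] at h1
  exact h1

theorem zmod_plus (r : ℕ) [Fact r.Prime] (x : ZMod r) (m : ℕ) (hm : 1 ≤ m)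
    (h2m : x ^ (2 * m) = 1) (hs : x ^ m + (x ^ m - 1) * x ^ (m - 1) = 1) (hx1 : x ≠ 1) :
    x ^ m = 1 := by
  obtain ⟨k, rfl⟩ : ∃ k, m = k + 1 := ⟨m - 1, by omega⟩
  rw [Nat.add_sub_cancel] at hs
  have h : (x ^ (k + 1) - 1) * (x - 1) = 0 := by
    linear_combination x * hs - h2m
  rcases mul_eq_zero.1 h with h | h
  · exact sub_eq_zero.1 h
  · exact absurd (sub_eq_zero.1 h) hx1

theorem zmod_minus (r : ℕ) [Fact r.Prime] (x : ZMod r) (m : ℕ) (hm : 1 ≤ m)
    (h2m : x ^ (2 * m) = 1) (hs : x ^ (2 * m - 1) + x ^ (m - 1) - x ^ m = 1) (hx1 : x ≠ 1) :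
    x ^ m = -1 := by
  obtain ⟨k, rfl⟩ : ∃ k, m = k + 1 := ⟨m - 1, by omega⟩
  rw [Nat.add_sub_cancel, show 2 * (k + 1) - 1 = 2 * k + 1 by omega] at hs
  have h : (1 - x) * (1 + x ^ (k + 1)) = 0 := by
    linear_combination x * hs - h2m
  rcases mul_eq_zero.1 h with h | h
  · exact absurd (sub_eq_zero.1 h).symm hx1
  · exact eq_neg_of_add_eq_zero_right h

theorem two_ne_zero_zmod (r : ℕ) (hr : r.Prime) (hr2 : r ≠ 2) : (2 : ZMod r) ≠ 0 := by
  intro h
  have h1 : ((2 : ℕ) : ZMod r) = 0 := by exact_mod_cast h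
  rw [ZMod.natCast_eq_zero_iff] at h1
  exact hr2 ((Nat.prime_dvd_prime_iff_eq hr Nat.prime_two).1 h1)

/-- a fixed-point-free isometry of prime order `r` of the plus form: the order of `q` mod `r`
divides `m` (or is `1`) -/
theorem plus_fixedFree [Fintype F] (m : ℕ) (hm : 1 ≤ m) (r : ℕ) (hr : r.Prime)
    (a : Module.End F (Fin m ⊕ Fin m → F)) (hiso : ∀ v, qfPlus m F (a v) = qfPlus m F v)
    (hpow : a ^ r = 1) (hfix : ∀ v, a v = v → v = 0)
    (hi1 : orderOf ((Fintype.card F : ℕ) : ZMod r) ≠ 1) :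
    orderOf ((Fintype.card F : ℕ) : ZMod r) ∣ m := by
  classical
  have : Fact r.Prime := ⟨hr⟩
  set q := Fintype.card F with hq
  set x : ZMod r := ((q : ℕ) : ZMod r) with hx
  have hq1 : 1 ≤ q := Fintype.card_pos
  have hV := card_modEq_one a r hr hpow hfix (fun _ => True) trivial (fun _ _ => trivial)
  have hcV : Nat.card {v : Fin m ⊕ Fin m → F // True} = q ^ (2 * m) := by
    rw [Nat.card_congr (Equiv.subtypeUnivEquiv (fun _ => trivial)), Nat.card_eq_fintype_card,
      Fintype.card_fun, Fintype.card_sum, Fintype.card_fin, two_mul]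
  rw [hcV] at hV
  have h2m : x ^ (2 * m) = 1 := by
    have := (ZMod.natCast_eq_natCast_iff _ _ _).2 hV
    rw [Nat.cast_pow, Nat.cast_one] at this
    exact this
  have hS := card_modEq_one a r hr hpow hfix (fun v => qfPlus m F v = 0) (map_zero _)
    (fun v hv => by rw [hiso]; exact hv)
  rw [Cfsg.Agent.Lib.Helper44_OFrameZero.card_qfPlus_eq_zero] at hS
  have hs : x ^ m + (x ^ m - 1) * x ^ (m - 1) = 1 := by
    have := (ZMod.natCast_eq_natCast_iff _ _ _).2 hS
    rw [Nat.cast_add, Nat.cast_mul, Nat.cast_sub (Nat.one_le_pow _ _ hq1), Nat.cast_pow,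
      Nat.cast_pow, Nat.cast_one] at this
    exact this
  have hx1 : x ≠ 1 := by
    intro h
    apply hi1
    rw [h, orderOf_one]
  exact orderOf_dvd_of_pow_eq_one (zmod_plus r x m hm h2m hs hx1)

/-- a fixed-point-free isometry of odd prime order `r` of the minus form: the order of `q` mod `r`
divides `2 m` but not `m` (or is `1`) -/
theorem minus_fixedFree [Fintype F] (m : ℕ) (hm : 1 ≤ m) (r : ℕ) (hr : r.Prime) (hr2 : r ≠ 2)
    (b c : F) (hbc : ∀ z₁ z₂ : F, z₁ ^ 2 + b * z₁ * z₂ + c * z₂ ^ 2 = 0 → z₁ = 0 ∧ z₂ = 0)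
    (a : Module.End F ((Fin (m - 1) ⊕ Fin (m - 1)) ⊕ Fin 2 → F))
    (hiso : ∀ v, qfMinus (m - 1) F b c (a v) = qfMinus (m - 1) F b c v)
    (hpow : a ^ r = 1) (hfix : ∀ v, a v = v → v = 0)
    (hi1 : orderOf ((Fintype.card F : ℕ) : ZMod r) ≠ 1) :
    ¬ orderOf ((Fintype.card F : ℕ) : ZMod r) ∣ m := by
  classical
  have : Fact r.Prime := ⟨hr⟩
  set q := Fintype.card F with hq
  set x : ZMod r := ((q : ℕ) : ZMod r) with hx
  have hq1 : 1 ≤ q := Fintype.card_pos
  have hV := card_modEq_one a r hr hpow hfix (fun _ => True) trivial (fun _ _ => trivial)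
  have hcV : Nat.card {v : (Fin (m - 1) ⊕ Fin (m - 1)) ⊕ Fin 2 → F // True} = q ^ (2 * m) := by
    rw [Nat.card_congr (Equiv.subtypeUnivEquiv (fun _ => trivial)), Nat.card_eq_fintype_card,
      Fintype.card_fun, Fintype.card_sum, Fintype.card_sum, Fintype.card_fin, Fintype.card_fin]
    congr 1
    omega
  rw [hcV] at hV
  have h2m : x ^ (2 * m) = 1 := by
    have := (ZMod.natCast_eq_natCast_iff _ _ _).2 hV
    rw [Nat.cast_pow, Nat.cast_one] at this
    exact this
  have hiso' : ∀ v, Cfsg.quadFormMinus (m - 1) F b c (a v) = Cfsg.quadFormMinus (m - 1) F b c v := by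
    intro v
    have := hiso v
    rw [show (qfMinus (m - 1) F b c) (a v) = (⇑(qfMinus (m - 1) F b c)) (a v) from rfl,
      show (qfMinus (m - 1) F b c) v = (⇑(qfMinus (m - 1) F b c)) v from rfl, coe_qfMinus] at this
    exact this
  have hS := card_modEq_one a r hr hpow hfix
    (fun v => Cfsg.quadFormMinus (m - 1) F b c v = 0)
    (by
      have := map_zero (qfMinus (m - 1) F b c)
      rw [show (qfMinus (m - 1) F b c) 0 = (⇑(qfMinus (m - 1) F b c)) 0 from rfl, coe_qfMinus] at this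
      exact this)
    (fun v hv => by rw [hiso']; exact hv)
  rw [Cfsg.Agent.S0290.result rfl m hm b c hbc] at hS
  have hle : q ^ m ≤ q ^ (2 * m - 1) + q ^ (m - 1) :=
    le_trans (Nat.pow_le_pow_right hq1 (by omega)) (Nat.le_add_right _ _)
  have hs : x ^ (2 * m - 1) + x ^ (m - 1) - x ^ m = 1 := by
    have := (ZMod.natCast_eq_natCast_iff _ _ _).2 hS
    rw [Nat.cast_sub hle, Nat.cast_add, Nat.cast_pow, Nat.cast_pow, Nat.cast_pow,
      Nat.cast_one] at this
    exact this
  have hx1 : x ≠ 1 := by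
    intro h
    apply hi1
    rw [h, orderOf_one]
  have hxm := zmod_minus r x m hm h2m hs hx1
  intro hdvd
  have h1 : x ^ m = 1 := orderOf_dvd_iff_pow_eq_one.1 hdvd
  rw [h1] at hxm
  apply two_ne_zero_zmod r hr hr2
  linear_combination hxm

/-- a fixed-point-free operator of prime order `r` on `F ^ n`: the order of `q` mod `r` divides
`n` -/
theorem dvd_of_fixedFree [Fintype F] {ι : Type*} [Fintype ι] [DecidableEq ι] (r : ℕ)
    (hr : r.Prime) (a : Module.End F (ι → F)) (hpow : a ^ r = 1) (hfix : ∀ v, a v = v → v = 0) :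
    orderOf ((Fintype.card F : ℕ) : ZMod r) ∣ Fintype.card ι := by
  classical
  have : Fact r.Prime := ⟨hr⟩
  have hV := card_modEq_one a r hr hpow hfix (fun _ => True) trivial (fun _ _ => trivial)
  have hcV : Nat.card {v : ι → F // True} = Fintype.card F ^ Fintype.card ι := by
    rw [Nat.card_congr (Equiv.subtypeUnivEquiv (fun _ => trivial)), Nat.card_eq_fintype_card,
      Fintype.card_fun]
  rw [hcV] at hV
  apply orderOf_dvd_of_pow_eq_one
  have := (ZMod.natCast_eq_natCast_iff _ _ _).2 hV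
  rw [Nat.cast_pow, Nat.cast_one] at this
  exact this

end Cfsg.Agent.Lib.Helper40_OFixedFree
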