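import Mathlib
import Cfsg.Agent.Lib.Helper99_PrimeOrderSL

set_option autoImplicit false

/-!
Elements of `SL_n(q)` of prime order `r` with a prescribed number of blocks, all of one type.
-/

namespace Cfsg.Agent.Lib.Helper99_PrimeOrderSL3

open Module Polynomial
open Cfsg.Agent.Lib.Helper99_InvSub
open Cfsg.Agent.Lib.Helper99_PrimeOrderSL

universe u

variable {F : Type u} [Field F] [Fintype F] {p : ℕ} [Fact p.Prime] [CharP F p]

/-- an element of order `r` with `s` blocks, all with the same irreducible factor `g`. -/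
theorem exists_elt (n : ℕ) {r : ℕ} (hr : r.Prime) (hrp : r ≠ p)
    (he2 : 2 ≤ orderOf ((Fintype.card F : ℕ) : ZMod r)) (s : ℕ)
    (hs : orderOf ((Fintype.card F : ℕ) : ZMod r) * s ≤ n) :
    ∃ y : Matrix.SpecialLinearGroup (Fin n) F,
      (y : Matrix (Fin n) (Fin n) F) ^ r = 1 ∧
      finrank F (Module.End.eigenspace
        (Matrix.toLin' (y : Matrix (Fin n) (Fin n) F) : Module.End F (Fin n → F)) 1) =
        n - orderOf ((Fintype.card F : ℕ) : ZMod r) * s ∧
      ∃ g : F[X], g.Monic ∧ g.natDegree = orderOf ((Fintype.card F : ℕ) : ZMod r) ∧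
        aeval (y : Matrix (Fin n) (Fin n) F) ((X - 1) * g) = 0 := by
  classical
  have hp : p.Prime := Fact.out
  set e := orderOf ((Fintype.card F : ℕ) : ZMod r) with he
  obtain ⟨hepos, W, hWcard, hW1, hW2⟩ :=
    Cfsg.Agent.Lib.Helper40_PrimeOrderClasses.exists_cyclotomic_factors (F := F) p r hr hrp
  rw [← he] at hWcard hW1 hepos
  have hrq : ¬ r ∣ Fintype.card F - 1 := not_dvd_card_sub_one he2
  have hq0 : ((Fintype.card F : ℕ) : ZMod r) ≠ 0 := by
    rw [Ne, ZMod.natCast_eq_zero_iff]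
    intro h
    obtain ⟨k, -, hk⟩ := FiniteField.card F p
    rw [hk] at h
    exact hrp ((Nat.prime_dvd_prime_iff_eq hr hp).1 (hr.dvd_of_dvd_pow h))
  have : Fact r.Prime := ⟨hr⟩
  have hedvd : e ∣ r - 1 := ZMod.orderOf_dvd_card_sub_one hq0
  have hWne : W.Nonempty := by
    rw [← Finset.card_pos, hWcard]
    exact Nat.div_pos (Nat.le_of_dvd (by have := hr.two_le; omega) hedvd) hepos
  obtain ⟨g, hgW⟩ := hWne
  obtain ⟨hgm, hgi, hg1, hgd, hgdeg⟩ := hW1 g hgW
  set k := n - e * s with hk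
  have hX1 : ((X : F[X]) - 1) = X - C 1 := by rw [map_one]
  have hX1m : ((X : F[X]) - 1).Monic := by rw [hX1]; exact monic_X_sub_C 1
  set c : F[X] := (X - 1) ^ k * g ^ s with hc
  have hcm : c.Monic := (hX1m.pow k).mul (hgm.pow s)
  have hcdeg : c.natDegree = n := by
    rw [hc, (hX1m.pow k).natDegree_mul (hgm.pow s), hX1m.natDegree_pow, hgm.natDegree_pow, hgdeg,
      hX1, natDegree_X_sub_C, mul_one, hk, mul_comm s e]
    omega
  obtain ⟨A, hAc, hAss, hAkill⟩ :=
    Cfsg.Agent.Lib.Helper40_PrimeOrderClasses.exists_matrix_of_monic' n c hcm hcdeg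
  have hfac : ∀ f : F[X], Irreducible f → f ∣ c → f ∣ (X - 1) ∨ f ∣ g := by
    intro f hf hfc
    rcases hf.prime.dvd_or_dvd hfc with h | h
    · exact Or.inl (hf.prime.dvd_of_dvd_pow h)
    · exact Or.inr (hf.prime.dvd_of_dvd_pow h)
  have hAr : A ^ r = 1 := by
    have h1 : aeval A ((X : F[X]) ^ r - 1) = 0 := by
      apply hAkill
      intro f hf hfc
      rcases hfac f hf hfc with h | h
      · exact h.trans (Cfsg.Agent.Lib.Helper40_PrimeOrderClasses.X_sub_one_dvd r hr)
      · exact h.trans hgd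
    rw [map_sub, map_pow, aeval_X, map_one] at h1
    exact sub_eq_zero.1 h1
  have hAg : aeval A ((X - 1) * g) = 0 := by
    apply hAkill
    intro f hf hfc
    rcases hfac f hf hfc with h | h
    · exact h.trans (dvd_mul_right _ _)
    · exact h.trans (dvd_mul_left _ _)
  have hdet : A.det = 1 := by
    apply eq_one_of_pow_eq_one hr hrq
    rw [← Matrix.det_pow, hAr, Matrix.det_one]
  refine ⟨⟨A, hdet⟩, hAr, ?_, g, hgm, hgdeg, hAg⟩
  show finrank F (Module.End.eigenspace (Matrix.toLin' A : Module.End F (Fin n → F)) 1) = k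
  have hss : Module.End.IsSemisimple (Matrix.toLin' A : Module.End F (Fin n → F)) := hAss
  have hg1' : ¬ IsRoot (g ^ s) 1 := by
    intro h
    rw [IsRoot.def, eval_pow] at h
    have hs0 : s ≠ 0 := by
      intro hs0
      rw [hs0, pow_zero] at h
      exact one_ne_zero h
    have h2 : IsRoot g 1 := (pow_eq_zero_iff hs0).1 h
    have h3 : (X - C 1) ∣ g := dvd_iff_isRoot.2 h2
    have h4 : Associated (X - C 1) g := (irreducible_X_sub_C 1).associated_of_dvd hgi h3
    have h5 := eq_of_monic_of_associated (monic_X_sub_C 1) hgm h4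
    rw [← hX1] at h5
    exact hg1 h5.symm
  rw [← hss.isFinitelySemisimple.maxGenEigenspace_eq_eigenspace 1,
    LinearMap.finrank_maxGenEigenspace_eq, Matrix.charpoly_toLin', hAc, hc,
    rootMultiplicity_mul (by rw [← hc]; exact hcm.ne_zero), rootMultiplicity_eq_zero hg1',
    add_zero, hX1, rootMultiplicity_X_sub_C_pow]

end Cfsg.Agent.Lib.Helper99_PrimeOrderSL3
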