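import Mathlib
import Cfsg.Prelude.Def_GeometricClasses
import Cfsg.Agent.Lib.Helper13_OrthC8Defs
import Cfsg.Agent.Lib.Helper99_PrimeOrderSL3
import Cfsg.Agent.Lib.Helper40_OFixedFree
import Cfsg.Agent.Lib.Helper40_QuadStd
import Cfsg.Agent.Lib.Helper14_WittType
import Cfsg.Agent.Lib.Helper40_SylowLarge

/-!
# Package DEVEN of S5981 (helper13)

For `i = ord_r(q)` even and `n = i t` there is an element of `SL_n(q)` of order `r` without non-zero
fixed vectors; every symmetric form it preserves up to a scalar is of plus type iff `t` is even.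
-/

set_option autoImplicit false

namespace Cfsg.Agent.Lib.Helper13_OrthC8_DEVEN

open Matrix Polynomial Module Cfsg.Agent.Lib.Helper13_OrthC8Defs Cfsg.Agent.Lib.Helper40_QuadIso
  Cfsg.Agent.Lib.Helper44_StdForms Cfsg.Agent.Lib.Helper14_WittType

variable {F : Type*} [Field F]

/-- the bilinear form of a matrix -/
noncomputable def bil {n : ℕ} (A : Matrix (Fin n) (Fin n) F) : LinearMap.BilinForm F (Fin n → F) :=
  Matrix.toBilin' A

theorem bil_apply {n : ℕ} (A : Matrix (Fin n) (Fin n) F) (u v : Fin n → F) :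
    bil A u v = u ⬝ᵥ A *ᵥ v := Matrix.toBilin'_apply' A u v

theorem bil_isSymm {n : ℕ} (A : Matrix (Fin n) (Fin n) F) (hA : Aᵀ = A) : (bil A).IsSymm := by
  constructor
  intro u v
  rw [bil_apply, bil_apply, Matrix.dotProduct_mulVec, dotProduct_comm,
    ← Matrix.mulVec_transpose, hA]

theorem bil_nondeg {n : ℕ} (A : Matrix (Fin n) (Fin n) F) (hAd : A.det ≠ 0) :
    (bil A).Nondegenerate := by
  unfold bil
  exact Matrix.nondegenerate_toBilin'_iff.2 (Matrix.nondegenerate_of_det_ne_zero hAd)

theorem toMatrix_bil {n : ℕ} (A : Matrix (Fin n) (Fin n) F) :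
    LinearMap.BilinForm.toMatrix (Pi.basisFun F (Fin n)) (bil A) = A := by
  unfold bil
  rw [LinearMap.BilinForm.toMatrix_basisFun, LinearMap.BilinForm.toMatrix'_toBilin']

/-- totally singular for `halfQF` is totally isotropic -/
theorem hyp_iff [Finite F] (h2 : (2 : F) ≠ 0) {n m : ℕ} (hm : 1 ≤ m) (hnm : n = 2 * m)
    (A : Matrix (Fin n) (Fin n) F) (hA : Aᵀ = A) (hAd : A.det ≠ 0) :
    IsHyp (halfQF (bil A)) ↔ IsSquare ((-1 : F) ^ m * A.det) := by
  have hS := bil_isSymm A hA
  have hN := bil_nondeg A hAd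
  have hV : finrank F (Fin n → F) = 2 * m := by rw [Module.finrank_fin_fun, hnm]
  constructor
  · rintro ⟨U, hU, hdim⟩
    have hiso : ∀ x ∈ U, ∀ y ∈ U, bil A x y = 0 := by
      intro x hx y hy
      rw [← polar_halfQF h2 (bil A) hS]
      unfold QuadraticMap.polar
      rw [hU _ (U.add_mem hx hy), hU x hx, hU y hy]
      ring
    have hle : U ≤ (bil A).orthogonal U := by
      intro x hx
      rw [LinearMap.BilinForm.mem_orthogonal_iff]
      intro y hy
      exact hiso y hy x hx
    have h1 := LinearMap.BilinForm.finrank_orthogonal hN U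
    have h3 := Submodule.finrank_mono hle
    have h4 : finrank F U ≤ finrank F (Fin n → F) := Submodule.finrank_le U
    have hUm : finrank F U = m := by omega
    have := isSquare_of_isotropic (bil A) hS hV U hUm hiso (Pi.basisFun F (Fin n))
    rwa [toMatrix_bil] at this
  · intro hsq
    obtain ⟨X, hX, hiso⟩ := exists_isotropic_of_isSquare h2 (bil A) hS hN hm hV
      (Pi.basisFun F (Fin n)) (by rw [toMatrix_bil]; exact hsq)
    refine ⟨X, fun u hu => ?_, by rw [hV, hX]⟩
    rw [halfQF_apply, hiso u hu u hu, mul_zero]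

theorem toLin'_pow' {n : ℕ} (x : Matrix (Fin n) (Fin n) F) (k : ℕ) :
    (Matrix.toLin' x : Module.End F (Fin n → F)) ^ k = Matrix.toLin' (x ^ k) :=
  (map_pow (Matrix.toLinAlgEquiv' : Matrix (Fin n) (Fin n) F ≃ₐ[F] _) x k).symm

/-- an isometry of the matrix form is an isometry of `halfQF` -/
theorem halfQF_isometry {n : ℕ} (A x : Matrix (Fin n) (Fin n) F) (hx : xᵀ * A * x = A)
    (v : Fin n → F) : halfQF (bil A) (Matrix.toLin' x v) = halfQF (bil A) v := by
  rw [halfQF_apply, halfQF_apply, bil_apply, bil_apply, Matrix.toLin'_apply, dot_conj, hx]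

section main

variable [Fintype F]

/-- DEVEN -/
theorem DEVEN (p : ℕ) [Fact p.Prime] [CharP F p] (h2 : (2 : F) ≠ 0)
    {n r t : ℕ} (hr : r.Prime) (hr2 : r ≠ 2) (hrp : r ≠ p)
    (hi : Even (orderOf ((Fintype.card F : ℕ) : ZMod r)))
    (hn : n = orderOf ((Fintype.card F : ℕ) : ZMod r) * t) (ht : 1 ≤ t) :
    ∃ x : Matrix (Fin n) (Fin n) F, x.det = 1 ∧ x ^ r = 1 ∧ (∀ z : F, x ≠ z • 1) ∧
      ∀ A : Matrix (Fin n) (Fin n) F, Aᵀ = A → A.det ≠ 0 → SimM A x →
        (IsSquare ((-1 : F) ^ (n / 2) * A.det) ↔ Even t) := by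
  classical
  have : Fact r.Prime := ⟨hr⟩
  set i := orderOf ((Fintype.card F : ℕ) : ZMod r) with hidef
  have hq1 : 1 ≤ Fintype.card F := Fintype.card_pos
  -- `i ≥ 2`
  have hrq : ¬ r ∣ Fintype.card F := by
    intro h
    obtain ⟨k, -, hk⟩ := FiniteField.card F p
    rw [hk] at h
    exact hrp ((Nat.prime_dvd_prime_iff_eq hr Fact.out).1 (hr.dvd_of_dvd_pow h))
  have hi0 : 0 < i := Cfsg.Agent.Lib.Helper40_SylowLarge.orderOf_pos_of_not_dvd r hrq
  have hi2 : 2 ≤ i := by
    obtain ⟨k, hk⟩ := hi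
    omega
  have hrq1 : ¬ r ∣ Fintype.card F - 1 := by
    intro h
    have h1 : r ∣ Fintype.card F ^ 1 - 1 := by rwa [pow_one]
    have := (Cfsg.Agent.Lib.Helper40_SylowLarge.dvd_pow_sub_one_iff r hq1 1).1 h1
    have := Nat.le_of_dvd one_pos this
    omega
  -- an `r`-th root of unity in `F` is trivial
  have hroot : ∀ c : F, c ^ r = 1 → c = 1 := by
    intro c hc
    have hc0 : c ≠ 0 := by
      rintro rfl
      rw [zero_pow hr.ne_zero] at hc
      exact zero_ne_one hc
    have h1 : orderOf c ∣ r := orderOf_dvd_of_pow_eq_one hc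
    have h3 : orderOf c ∣ Fintype.card F - 1 :=
      orderOf_dvd_of_pow_eq_one (FiniteField.pow_card_sub_one_eq_one c hc0)
    rcases (Nat.dvd_prime hr).1 h1 with h | h
    · exact orderOf_eq_one_iff.1 h
    · rw [h] at h3
      exact absurd h3 hrq1
  obtain ⟨y, hyr, hfix, -⟩ := Cfsg.Agent.Lib.Helper99_PrimeOrderSL3.exists_elt (F := F) (p := p) n hr
    hrp hi2 t (by rw [← hidef, hn])
  rw [← hidef, ← hn, Nat.sub_self] at hfix
  have hn0 : 0 < n := by rw [hn]; exact Nat.mul_pos hi0 ht
  have hfix' : ∀ v : Fin n → F, Matrix.toLin' (y : Matrix (Fin n) (Fin n) F) v = v → v = 0 := by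
    intro v hv
    have hmem : v ∈ Module.End.eigenspace
        (Matrix.toLin' (y : Matrix (Fin n) (Fin n) F) : Module.End F (Fin n → F)) 1 := by
      rw [Module.End.mem_eigenspace_iff, one_smul]
      exact hv
    have hbot := Submodule.finrank_eq_zero.1 hfix
    rw [hbot] at hmem
    exact (Submodule.mem_bot F).1 hmem
  refine ⟨(y : Matrix (Fin n) (Fin n) F), y.2, hyr, ?_, ?_⟩
  · -- non-scalar
    intro z hz
    have hz1 : z = 1 := by
      apply hroot
      have := hyr
      rw [hz, _root_.smul_pow, one_pow] at this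
      have h1 := congrFun (congrFun this ⟨0, hn0⟩) ⟨0, hn0⟩
      simpa using h1
    have hv := hfix' (Pi.single ⟨0, hn0⟩ 1) (by
      rw [hz, hz1, one_smul, Matrix.toLin'_one]
      rfl)
    have := congrFun hv ⟨0, hn0⟩
    simp at this
  · -- the type
    rintro A hA hAd ⟨c, hc0, hc⟩
    -- `c = 1`
    have hpow : ∀ k : ℕ, ((y : Matrix (Fin n) (Fin n) F) ^ k)ᵀ * A * (y : Matrix (Fin n) (Fin n) F) ^ k
        = c ^ k • A := by
      intro k
      induction k with
      | zero => simp
      | succ k ih =>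
        rw [pow_succ, Matrix.transpose_mul, pow_succ]
        calc (y : Matrix (Fin n) (Fin n) F)ᵀ * ((y : Matrix (Fin n) (Fin n) F) ^ k)ᵀ * A *
              ((y : Matrix (Fin n) (Fin n) F) ^ k * (y : Matrix (Fin n) (Fin n) F))
            = (y : Matrix (Fin n) (Fin n) F)ᵀ * (((y : Matrix (Fin n) (Fin n) F) ^ k)ᵀ * A *
              (y : Matrix (Fin n) (Fin n) F) ^ k) * (y : Matrix (Fin n) (Fin n) F) := by
              simp only [Matrix.mul_assoc]
          _ = c ^ k • ((y : Matrix (Fin n) (Fin n) F)ᵀ * A * (y : Matrix (Fin n) (Fin n) F)) := by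
              rw [ih, Matrix.mul_smul, Matrix.smul_mul]
          _ = (c ^ k * c) • A := by rw [hc, smul_smul]
    have hc1 : c = 1 := by
      apply hroot
      have h1 := hpow r
      rw [hyr, Matrix.transpose_one, Matrix.one_mul, Matrix.mul_one] at h1
      have hA0 : A ≠ 0 := by
        rintro rfl
        rw [@Matrix.det_zero (Fin n) _ _ F _ ⟨⟨0, hn0⟩⟩] at hAd
        exact hAd rfl
      by_contra hne
      apply hA0
      have : (c ^ r - 1) • A = 0 := by rw [sub_smul, one_smul, ← h1, sub_self]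
      rcases smul_eq_zero.1 this with h | h
      · exact absurd (sub_eq_zero.1 h) hne
      · exact h
    rw [hc1, one_smul] at hc
    -- the dimension is even
    obtain ⟨j, hj⟩ := hi
    set m := j * t with hmdef
    have hnm : n = 2 * m := by rw [hn, hj, hmdef]; ring
    have hm : 1 ≤ m := by
      have : 0 < j := by omega
      exact Nat.mul_pos this ht
    have hn2 : n / 2 = m := by omega
    rw [hn2, ← hyp_iff h2 hm hnm A hA hAd]
    have hS := bil_isSymm A hA
    have hN := bil_nondeg A hAd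
    have hV : finrank F (Fin n → F) = 2 * m := by rw [Module.finrank_fin_fun, hnm]
    have hQnd : (QuadraticMap.polarBilin (halfQF (bil A))).Nondegenerate := by
      rw [polarBilin_halfQF h2 (bil A) hS]
      exact hN
    obtain ⟨ζ, hζ⟩ := Cfsg.Agent.Lib.Helper40_QuadStd.exists_aniso (F := F)
    have hi1 : i ≠ 1 := by omega
    -- `i ∣ m ↔ Even t`
    have hdiv : i ∣ m ↔ Even t := by
      constructor
      · rintro ⟨s, hs⟩
        rw [hmdef, hj] at hs
        have : j * t = j * (2 * s) := by rw [hs]; ring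
        have hj0 : 0 < j := by omega
        exact ⟨s, by have := Nat.eq_of_mul_eq_mul_left hj0 this; omega⟩
      · rintro ⟨s, hs⟩
        exact ⟨s, by rw [hmdef, hj, hs]; ring⟩
    rcases Cfsg.Agent.Lib.Helper40_QuadStd.iso_plus_or_minus m hm hV (halfQF (bil A)) hQnd 1 ζ hζ
      with hiso | hiso
    · -- plus type
      have hhyp : IsHyp (halfQF (bil A)) :=
        IsHyp.of_iso hiso.symm (Cfsg.Agent.Lib.Helper40_QuadStd.isHyp_qfPlus m)
      obtain ⟨φ, hφ⟩ := hiso
      let a : Module.End F (Fin m ⊕ Fin m → F) :=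
        φ.conjRingEquiv (Matrix.toLin' (y : Matrix (Fin n) (Fin n) F))
      have har : a ^ r = 1 := by
        show (φ.conjRingEquiv (Matrix.toLin' (y : Matrix (Fin n) (Fin n) F))) ^ r = 1
        rw [← map_pow, toLin'_pow', hyr, Matrix.toLin'_one]
        exact map_one _
      have h1 := Cfsg.Agent.Lib.Helper40_OFixedFree.plus_fixedFree m hm r hr a
        (fun v => by
          show qfPlus m F (φ (Matrix.toLin' (y : Matrix (Fin n) (Fin n) F) (φ.symm v))) = _
          rw [hφ, halfQF_isometry A _ hc, ← hφ, φ.apply_symm_apply])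
        har
        (fun v hv => by
          have : Matrix.toLin' (y : Matrix (Fin n) (Fin n) F) (φ.symm v) = φ.symm v := by
            apply φ.injective
            rw [φ.apply_symm_apply]
            exact hv
          have := hfix' _ this
          rw [← φ.apply_symm_apply v, this, map_zero])
        hi1
      exact ⟨fun _ => hdiv.1 h1, fun _ => hhyp⟩
    · -- minus type
      have hnhyp : ¬ IsHyp (halfQF (bil A)) := fun hh =>
        Cfsg.Agent.Lib.Helper40_QuadStd.not_isHyp_qfMinus (m - 1) 1 ζ hζ (IsHyp.of_iso hiso hh)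
      obtain ⟨φ, hφ⟩ := hiso
      let a : Module.End F ((Fin (m - 1) ⊕ Fin (m - 1)) ⊕ Fin 2 → F) :=
        φ.conjRingEquiv (Matrix.toLin' (y : Matrix (Fin n) (Fin n) F))
      have har : a ^ r = 1 := by
        show (φ.conjRingEquiv (Matrix.toLin' (y : Matrix (Fin n) (Fin n) F))) ^ r = 1
        rw [← map_pow, toLin'_pow', hyr, Matrix.toLin'_one]
        exact map_one _
      have h1 := Cfsg.Agent.Lib.Helper40_OFixedFree.minus_fixedFree m hm r hr hr2 1 ζ hζ a
        (fun v => by
          show qfMinus (m - 1) F 1 ζ (φ (Matrix.toLin' (y : Matrix (Fin n) (Fin n) F) (φ.symm v))) = _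
          rw [hφ, halfQF_isometry A _ hc, ← hφ, φ.apply_symm_apply])
        har
        (fun v hv => by
          have : Matrix.toLin' (y : Matrix (Fin n) (Fin n) F) (φ.symm v) = φ.symm v := by
            apply φ.injective
            rw [φ.apply_symm_apply]
            exact hv
          have := hfix' _ this
          rw [← φ.apply_symm_apply v, this, map_zero])
        hi1
      exact ⟨fun hh => absurd hh hnhyp, fun he => absurd (hdiv.2 he) h1⟩

end main

end Cfsg.Agent.Lib.Helper13_OrthC8_DEVEN
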