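import Mathlib
import Cfsg.Prelude.Def_GeometricClasses
import Cfsg.Prelude.Def_Classical
import Cfsg.Agent.Lib.Helper13_OrthC2Core

/-!
S5974_two_even (helper13): the case `r = p = 2` of the row, in the frozen shape.
-/

set_option autoImplicit false
open scoped MatrixGroups
open Cfsg

namespace Cfsg.Agent.Lib.Helper13_OrthCase_S5974_two_even

open Matrix Module Cfsg.Agent.Lib.Helper13_OrthR2Defs Cfsg.Agent.Lib.Helper13_OrthR2Glue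
  Cfsg.Agent.Lib.Helper13_OrthR2Core Cfsg.Agent.Lib.Helper13_OrthC2Core
  Cfsg.Agent.Lib.Helper44_StdForms

theorem odd_iff_mod4 (d : ℕ) : Odd d ↔ (2 * d) % 4 = 2 := by
  constructor
  · rintro ⟨k, rfl⟩; omega
  · intro h
    rcases Nat.even_or_odd d with ⟨k, rfl⟩ | h'
    · omega
    · exact h'

theorem two_eq_zero_and_card_even {F : Type*} [Field F] [Fintype F] {p : ℕ} [Fact p.Prime]
    [CharP F p] (hp2 : p = 2) : (2 : F) = 0 ∧ Fintype.card F % 2 = 0 := by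
  subst hp2
  have h2 : (2 : F) = 0 := by
    have : ((2 : ℕ) : F) = 0 := CharP.cast_eq_zero F 2
    rwa [Nat.cast_ofNat] at this
  refine ⟨h2, ?_⟩
  apply FiniteField.even_card_of_char_two
  exact ringChar.eq F 2

theorem S5974_two_even {F : Type*} [Field F] [Fintype F] {p : ℕ} [Fact p.Prime] [CharP F p] {q : ℕ} (hq : Fintype.card F = q)
    (d m : ℕ) (hd : 4 ≤ d) (hm : 2 ≤ m) (hme : Even m) (hmd : m < d)
    (r : ℕ) [Fact r.Prime] (hr : r = 2 ∨ r ≠ p)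
    (hrΩ : r ∣ Nat.card {W : Submodule F (Fin d ⊕ Fin d → F) // (Module.finrank F ↥W = m ∧ (∀ u ∈ W, u ≠ 0 → ∃ v ∈ W, QuadraticMap.polar (Cfsg.quadFormPlus d F) u v ≠ 0) ∧
          ∃ U : Submodule F (Fin d ⊕ Fin d → F), U ≤ W ∧ 2 * Module.finrank F ↥U = m ∧ ∀ u ∈ U, Cfsg.quadFormPlus d F u = 0)})
    (i c : ℕ) (hi : i = orderOf (q : ZMod r)) (hc : c = if Even i then i else 2 * i)
    (hr2 : r = 2) (hp2 : p = 2) :
    (∀ x : GL (Fin d ⊕ Fin d) F, x ∈ Cfsg.Geo.omegaGL (Cfsg.quadFormPlus d F) →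
      (∃ z : F, ((x ^ r : GL (Fin d ⊕ Fin d) F) : Matrix (Fin d ⊕ Fin d) (Fin d ⊕ Fin d) F) = z • (1 : Matrix (Fin d ⊕ Fin d) (Fin d ⊕ Fin d) F)) →
      (∀ z : F, (x : Matrix (Fin d ⊕ Fin d) (Fin d ⊕ Fin d) F) ≠ z • (1 : Matrix (Fin d ⊕ Fin d) (Fin d ⊕ Fin d) F)) →
      ∃ W : Submodule F (Fin d ⊕ Fin d → F), (Module.finrank F ↥W = m ∧ (∀ u ∈ W, u ≠ 0 → ∃ v ∈ W, QuadraticMap.polar (Cfsg.quadFormPlus d F) u v ≠ 0) ∧
          ∃ U : Submodule F (Fin d ⊕ Fin d → F), U ≤ W ∧ 2 * Module.finrank F ↥U = m ∧ ∀ u ∈ U, Cfsg.quadFormPlus d F u = 0) ∧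
        W.map (Matrix.toLin' (x : Matrix (Fin d ⊕ Fin d) (Fin d ⊕ Fin d) F)) ≤ W) ↔
    ((r = 2 ∧ ((2 * d) % 4 = 2 ∨ m % 4 = 0 ∨ q % 4 = 1)) ∨
     (r ≠ p ∧ 2 < r ∧ Odd i ∧ c ≤ m ∧ m % c ≤ (2 * d) % c) ∨
     (r ≠ p ∧ 2 < r ∧ Even i ∧
       (((2 * d) % c = 0 ∧ (Odd ((2 * d) / i) ∨ (m % c = 0 ∧ Even (m / i)))) ∨
        (i ≤ m ∧ ((m % c < (2 * d) % c ∧ 0 < m % c) ∨
                  ((2 * d) % c = m % c ∧ 0 < m % c ∧ Even ((2 * d + m - 2 * ((2 * d) % c)) / i)) ∨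
                  (0 < (2 * d) % c ∧ m % c = 0 ∧ Even (m / i))))))) := by
  subst hr2
  obtain ⟨h2, heven⟩ := two_eq_zero_and_card_even (F := F) hp2
  rw [hq] at heven
  have hmain := plus_c2_iff (F := F) h2 d (by omega) m hme (by omega)
  rw [← coe_qfPlus d F]
  refine Iff.trans ⟨fun H => ?_, fun H => ?_⟩ (hmain.trans ?_)
  · intro x hx hz hns
    obtain ⟨W, ⟨h1, h3, U, hU, hUd, hUts⟩, hinv⟩ := H x hx hz hns
    exact ⟨W, ⟨h1, (nd_iff _ W).2 h3, U, hU, hUts, by omega⟩, hinv⟩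
  · intro x hx hz hns
    obtain ⟨W, ⟨h1, h3, U, hU, hUts, hUd⟩, hinv⟩ := H x hx hz hns
    exact ⟨W, ⟨h1, (nd_iff _ W).1 h3, U, hU, by omega, hUts⟩, hinv⟩
  · rw [odd_iff_mod4, Nat.dvd_iff_mod_eq_zero]
    constructor
    · rintro (h | h)
      · exact Or.inl ⟨rfl, Or.inl h⟩
      · exact Or.inl ⟨rfl, Or.inr (Or.inl h)⟩
    · rintro (⟨-, h | h | h⟩ | ⟨-, h, -⟩ | ⟨-, h, -⟩)
      · exact Or.inl h
      · exact Or.inr h
      · omega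
      · exact absurd h (lt_irrefl 2)
      · exact absurd h (lt_irrefl 2)

end Cfsg.Agent.Lib.Helper13_OrthCase_S5974_two_even
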