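import Mathlib
import Cfsg.Prelude.Def_GeometricClasses
import Cfsg.Prelude.Def_Classical
import Cfsg.Agent.Lib.Helper13_OrthR2Core

/-!
The `r = 2`, `p` odd case for the classes of nondegenerate subspaces (helper13): general statements for a
nondegenerate quadratic form on `ι → F` of dimension `2d`.
-/

set_option autoImplicit false
open scoped MatrixGroups

namespace Cfsg.Agent.Lib.Helper13_OrthR2ND

open Matrix Module Cfsg.Agent.Lib.Helper13_OrthR2Defs Cfsg.Agent.Lib.Helper13_OrthR2Glue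
  Cfsg.Agent.Lib.Helper13_OrthR2_G12 Cfsg.Agent.Lib.Helper13_OrthR2Core

variable {ι : Type} [Fintype ι] [DecidableEq ι] {F : Type*} [Field F] [Fintype F]

omit [Fintype ι] [DecidableEq ι] [Fintype F] in
theorem allFix_congr [Fintype ι] [DecidableEq ι] (Q : QuadraticForm F (ι → F))
    {C C' : Submodule F (ι → F) → Prop}
    (h : ∀ W, C W ↔ C' W) : AllFix Q C ↔ AllFix Q C' := by
  unfold AllFix
  constructor
  · intro H x hx hz hns
    obtain ⟨W, hW, hinv⟩ := H x hx hz hns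
    exact ⟨W, (h W).1 hW, hinv⟩
  · intro H x hx hz hns
    obtain ⟨W, hW, hinv⟩ := H x hx hz hns
    exact ⟨W, (h W).2 hW, hinv⟩

variable (h2 : (2 : F) ≠ 0) (Q : QuadraticForm F (ι → F))
  (hQ : (QuadraticMap.polarBilin Q).Nondegenerate) (d : ℕ) (hd : Fintype.card ι = 2 * d)

omit [Fintype ι] [DecidableEq ι] [Fintype F] in
include h2 in
/-- the existence of type B elements in `Ω`, plus type -/
theorem typeB_plus (hplus : Plus Q ⊤) :
    ((Plus Q ⊤ ↔ IsSquare ((-1 : F) ^ d)) ∧ IsSquare ((2 : F) ^ d)) ↔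
      ((Even d ∨ IsSquare (-1 : F)) ∧ (Even d ∨ IsSquare (2 : F))) := by
  rw [isSquare_neg_one_pow_iff, isSquare_two_pow_iff h2]
  constructor
  · rintro ⟨h1, h3⟩
    exact ⟨h1.1 hplus, h3⟩
  · rintro ⟨h1, h3⟩
    exact ⟨⟨fun _ => h1, fun _ => hplus⟩, h3⟩

omit [Fintype ι] [DecidableEq ι] [Fintype F] in
include h2 in
/-- the existence of type B elements in `Ω`, minus type -/
theorem typeB_minus (hminus : ¬ Plus Q ⊤) :
    ((Plus Q ⊤ ↔ IsSquare ((-1 : F) ^ d)) ∧ IsSquare ((2 : F) ^ d)) ↔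
      (Odd d ∧ ¬ IsSquare (-1 : F) ∧ IsSquare (2 : F)) := by
  rw [isSquare_neg_one_pow_iff, isSquare_two_pow_iff h2]
  constructor
  · rintro ⟨h1, h3⟩
    have h4 : ¬ (Even d ∨ IsSquare (-1 : F)) := fun h => hminus (h1.2 h)
    push Not at h4
    refine ⟨Nat.not_even_iff_odd.1 h4.1, h4.2, ?_⟩
    rcases h3 with h | h
    · exact absurd h h4.1
    · exact h
  · rintro ⟨h1, h3, h4⟩
    refine ⟨⟨fun h => absurd h hminus, ?_⟩, Or.inr h4⟩
    rintro (h | h)
    · exact absurd h (Nat.not_even_iff_odd.2 h1)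
    · exact absurd h h3

include h2 hQ hd in
/-- plus-type nondegenerate `m`-spaces in a plus-type space -/
theorem nd_plus_iff (hd2 : 1 ≤ d) (hplus : Plus Q ⊤) (m : ℕ) (hme : Even m) (h2m : 2 ≤ m)
    (hmd : m < d) :
    AllFix Q (fun W => finrank F W = m ∧ ND Q W ∧ Plus Q W) ↔
      (Odd d ∨ 4 ∣ m ∨ IsSquare (-1 : F)) := by
  have : Nonempty ι := by
    apply Fintype.card_pos_iff.1
    omega
  rw [allFix_iff h2 Q hQ]
  have hA : AFix Q (fun W => finrank F W = m ∧ ND Q W ∧ Plus Q W) := by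
    intro x hx hxx hns
    exact ((aData h2 Q hQ x hx hxx hns d hd).nd_even h2 m hme h2m hmd).1
  have hB := bFix_iff h2 Q hQ d hd (fun W => finrank F W = m ∧ ND Q W ∧ Plus Q W)
    (IsSquare (-1 : F) ∨ 4 ∣ m)
    (fun x hiso hxx => typeB_nd_plus h2 Q hQ x hiso hxx d hd m hme (by omega))
  rw [hB, typeB_plus h2 Q d hplus]
  constructor
  · rintro ⟨-, h | h | h⟩
    · by_cases hde : Even d
      · exact absurd ⟨Or.inl hde, Or.inl hde⟩ h
      · exact Or.inl (Nat.not_even_iff_odd.1 hde)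
    · exact Or.inr (Or.inr h)
    · exact Or.inr (Or.inl h)
  · intro h
    refine ⟨hA, ?_⟩
    rcases h with h | h | h
    · by_cases hm1 : IsSquare (-1 : F)
      · exact Or.inr (Or.inl hm1)
      · left
        rintro ⟨h1 | h1, -⟩
        · exact (Nat.not_even_iff_odd.2 h) h1
        · exact hm1 h1
    · exact Or.inr (Or.inr h)
    · exact Or.inr (Or.inl h)

include h2 hQ hd in
/-- minus-type nondegenerate `m`-spaces in a plus-type space -/
theorem nd_minus_iff (hd2 : 1 ≤ d) (hplus : Plus Q ⊤) (m : ℕ) (hme : Even m) (h2m : 2 ≤ m)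
    (hmd : m < d) :
    AllFix Q (fun W => finrank F W = m ∧ ND Q W ∧ ¬ Plus Q W) ↔
      ((Even d ∧ ¬ IsSquare (-1 : F) ∧ ¬ 4 ∣ m) ∨
        (Odd d ∧ ¬ (IsSquare (-1 : F) ∧ IsSquare (2 : F)))) := by
  have : Nonempty ι := by
    apply Fintype.card_pos_iff.1
    omega
  rw [allFix_iff h2 Q hQ]
  have hA : AFix Q (fun W => finrank F W = m ∧ ND Q W ∧ ¬ Plus Q W) := by
    intro x hx hxx hns
    exact ((aData h2 Q hQ x hx hxx hns d hd).nd_even h2 m hme h2m hmd).2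
  have hB := bFix_iff h2 Q hQ d hd (fun W => finrank F W = m ∧ ND Q W ∧ ¬ Plus Q W)
    (¬ IsSquare (-1 : F) ∧ ¬ 4 ∣ m)
    (fun x hiso hxx => typeB_nd_minus h2 Q hQ x hiso hxx d hd m hme (by omega))
  rw [hB, typeB_plus h2 Q d hplus]
  constructor
  · rintro ⟨-, h | h⟩
    · by_cases hde : Even d
      · exact absurd ⟨Or.inl hde, Or.inl hde⟩ h
      · right
        refine ⟨Nat.not_even_iff_odd.1 hde, ?_⟩
        rintro ⟨h1, h3⟩
        exact h ⟨Or.inr h1, Or.inr h3⟩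
    · by_cases hde : Even d
      · exact Or.inl ⟨hde, h⟩
      · right
        refine ⟨Nat.not_even_iff_odd.1 hde, ?_⟩
        rintro ⟨h1, -⟩
        exact h.1 h1
  · intro h
    refine ⟨hA, ?_⟩
    rcases h with ⟨-, h⟩ | ⟨hdo, h⟩
    · exact Or.inr h
    · left
      rintro ⟨h1 | h1, h3 | h3⟩
      · exact (Nat.not_even_iff_odd.2 hdo) h1
      · exact (Nat.not_even_iff_odd.2 hdo) h1
      · exact (Nat.not_even_iff_odd.2 hdo) h3
      · exact h ⟨h1, h3⟩

include h2 hQ hd in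
/-- minus-type nondegenerate `m`-spaces in a minus-type space -/
theorem nd_minus_minus_iff (hd2 : 1 ≤ d) (hminus : ¬ Plus Q ⊤) (m : ℕ) (hme : Even m)
    (h2m : 2 ≤ m) (hmd : m + 2 ≤ 2 * d) :
    AllFix Q (fun W => finrank F W = m ∧ ND Q W ∧ ¬ Plus Q W) ↔
      (Even d ∨ ¬ (¬ IsSquare (-1 : F) ∧ IsSquare (2 : F)) ∨ ¬ 4 ∣ m) := by
  have : Nonempty ι := by
    apply Fintype.card_pos_iff.1
    omega
  rw [allFix_iff h2 Q hQ]
  have hA : AFix Q (fun W => finrank F W = m ∧ ND Q W ∧ ¬ Plus Q W) := by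
    intro x hx hxx hns
    exact (aData h2 Q hQ x hx hxx hns d hd).nd_minus_big h2 hminus m hme h2m hmd
  have hB := bFix_iff h2 Q hQ d hd (fun W => finrank F W = m ∧ ND Q W ∧ ¬ Plus Q W)
    (¬ IsSquare (-1 : F) ∧ ¬ 4 ∣ m)
    (fun x hiso hxx => typeB_nd_minus h2 Q hQ x hiso hxx d hd m hme (by omega))
  rw [hB, typeB_minus h2 Q d hminus]
  constructor
  · rintro ⟨-, h | h⟩
    · by_cases hde : Even d
      · exact Or.inl hde
      · right; left
        rintro ⟨h1, h3⟩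
        exact h ⟨Nat.not_even_iff_odd.1 hde, h1, h3⟩
    · exact Or.inr (Or.inr h.2)
  · intro h
    refine ⟨hA, ?_⟩
    rcases h with h | h | h
    · left
      rintro ⟨h1, -⟩
      exact (Nat.not_even_iff_odd.2 h1) h
    · left
      rintro ⟨-, h1, h3⟩
      exact h ⟨h1, h3⟩
    · by_cases hm1 : IsSquare (-1 : F)
      · left
        rintro ⟨-, h1, -⟩
        exact h1 hm1
      · exact Or.inr ⟨hm1, h⟩

include h2 hQ hd in
/-- nondegenerate odd-dimensional `m`-spaces isometric to `W₀` -/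
theorem nd_iso_iff (hd2 : 1 ≤ d) (m : ℕ) (hmo : Odd m) (hmd : m < d)
    (W₀ : Submodule F (ι → F)) (hW₀m : finrank F W₀ = m) (hW₀ : ND Q W₀) :
    AllFix Q (fun W => finrank F W = m ∧ ND Q W ∧ Cfsg.Geo.AreIsometricFor (⇑Q) W W₀) ↔
      ¬ ((Plus Q ⊤ ↔ IsSquare ((-1 : F) ^ d)) ∧ IsSquare ((2 : F) ^ d)) := by
  have : Nonempty ι := by
    apply Fintype.card_pos_iff.1
    omega
  rw [allFix_iff h2 Q hQ]
  have hA : AFix Q (fun W => finrank F W = m ∧ ND Q W ∧ Cfsg.Geo.AreIsometricFor (⇑Q) W W₀) := by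
    intro x hx hxx hns
    exact (aData h2 Q hQ x hx hxx hns d hd).nd_iso h2 m hmd W₀ hW₀m hW₀
  have hB := bFix_iff h2 Q hQ d hd
    (fun W => finrank F W = m ∧ ND Q W ∧ Cfsg.Geo.AreIsometricFor (⇑Q) W W₀) False
    (fun x hiso hxx => by
      constructor
      · rintro ⟨W, ⟨h1, h3, -⟩, hinv⟩
        exact typeB_odd h2 Q hQ x hiso hxx m hmo ⟨W, ⟨h1, h3⟩, hinv⟩
      · exact False.elim)
  rw [hB]
  constructor
  · rintro ⟨-, h | h⟩
    · exact h
    · exact h.elim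
  · intro h
    exact ⟨hA, Or.inl h⟩

end Cfsg.Agent.Lib.Helper13_OrthR2ND
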