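import Mathlib
import Cfsg.Prelude.Def_GeometricClasses
import Cfsg.Prelude.Def_Classical
import Cfsg.Agent.Lib.Helper13_OrthR2ND

/-!
S5988_two_odd (helper13): the case `r = 2`, `p` odd of the row, in the frozen shape.
-/

set_option autoImplicit false
open scoped MatrixGroups
open Cfsg

namespace Cfsg.Agent.Lib.Helper13_OrthCase_S5988_two_odd

open Matrix Module Cfsg.Agent.Lib.Helper13_OrthR2Defs Cfsg.Agent.Lib.Helper13_OrthR2Glue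
  Cfsg.Agent.Lib.Helper13_OrthR2_G12 Cfsg.Agent.Lib.Helper13_OrthR2Core
  Cfsg.Agent.Lib.Helper13_OrthR2ND Cfsg.Agent.Lib.Helper44_StdForms

theorem odd_iff_mod4 (d : ℕ) : Odd d ↔ (2 * d) % 4 = 2 := by
  constructor
  · rintro ⟨k, rfl⟩; omega
  · intro h
    rcases Nat.even_or_odd d with ⟨k, rfl⟩ | h'
    · omega
    · exact h'

theorem even_iff_mod4 (d : ℕ) : Even d ↔ (2 * d) % 4 = 0 := by
  constructor
  · rintro ⟨k, rfl⟩; omega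
  · intro h
    rcases Nat.even_or_odd d with h' | ⟨k, rfl⟩
    · exact h'
    · omega

theorem S5988_two_odd {F : Type*} [Field F] [Fintype F] {p : ℕ} [Fact p.Prime] [CharP F p] {q : ℕ} (hq : Fintype.card F = q)
    (d m : ℕ) (hd : 4 ≤ d) (hm : 2 ≤ m) (hme : Even m) (hmd : m < d)
    (r : ℕ) [Fact r.Prime]
    (hrΩ : r ∣ Nat.card {W : Submodule F (Fin d ⊕ Fin d → F) // Module.finrank F ↥W = m ∧ Cfsg.Geo.IsNondegenerateOn (QuadraticMap.polar (Cfsg.quadFormPlus d F)) W ∧ ¬ Cfsg.Geo.IsPlusTypeOn (Cfsg.quadFormPlus d F) W})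
    (i c : ℕ) (hi : i = orderOf (q : ZMod r)) (hc : c = if Even i then i else 2 * i)
    (hr2 : r = 2) (hp2 : p ≠ 2) :
    (∀ x : GL (Fin d ⊕ Fin d) F, x ∈ Cfsg.Geo.omegaGL (Cfsg.quadFormPlus d F) →
      (∃ z : F, ((x ^ r : GL (Fin d ⊕ Fin d) F) : Matrix (Fin d ⊕ Fin d) (Fin d ⊕ Fin d) F) = z • (1 : Matrix (Fin d ⊕ Fin d) (Fin d ⊕ Fin d) F)) →
      (∀ z : F, (x : Matrix (Fin d ⊕ Fin d) (Fin d ⊕ Fin d) F) ≠ z • (1 : Matrix (Fin d ⊕ Fin d) (Fin d ⊕ Fin d) F)) →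
      ∃ W : Submodule F (Fin d ⊕ Fin d → F), (Module.finrank F ↥W = m ∧ Cfsg.Geo.IsNondegenerateOn (QuadraticMap.polar (Cfsg.quadFormPlus d F)) W ∧ ¬ Cfsg.Geo.IsPlusTypeOn (Cfsg.quadFormPlus d F) W) ∧ W.map (Matrix.toLin' (x : Matrix (Fin d ⊕ Fin d) (Fin d ⊕ Fin d) F)) ≤ W) ↔
    ((r = 2 ∧ p ≠ 2 ∧ ((Even d ∧ q % 4 = 3 ∧ m % 4 = 2) ∨ (Odd d ∧ q % 8 ≠ 1))) ∨
     (r ≠ p ∧ 2 < r ∧ Odd i ∧ c ≤ m ∧ 0 < m % c ∧ m % c < (2 * d) % c) ∨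
     (r ≠ p ∧ 2 < r ∧ Even i ∧
       (((2 * d) % c = 0 ∧ (Odd ((2 * d) / i) ∨ (m % c = 0 ∧ Odd (m / i)))) ∨
        (i ≤ m ∧ ((0 < m % c ∧ m % c < (2 * d) % c) ∨
                  (0 < m % c ∧ m % c = (2 * d) % c ∧ Odd ((2 * d + m - 2 * ((2 * d) % c)) / i)) ∨
                  (m % c = 0 ∧ 0 < (2 * d) % c ∧ Odd (m / i))))))) := by
  subst hr2
  have h2 : (2 : F) ≠ 0 := two_ne_zero_of_char hp2
  have hodd := card_odd h2
  rw [hq] at hodd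
  have hmain := nd_minus_iff h2 (qfPlus d F)
    (Cfsg.Agent.Lib.Helper14_POmegaSimple.nondegenerate_qfPlus d) d (card_plus d) (by omega)
    (plus_top_qfPlus d) m hme hm hmd
  rw [isSquare_neg_one_iff h2, isSquare_two_iff h2, hq] at hmain
  rw [← coe_qfPlus d F]
  refine Iff.trans ⟨fun H => ?_, fun H => ?_⟩ (hmain.trans ?_)
  · intro x hx hz hns
    exact H x hx hz hns
  · intro x hx hz hns
    exact H x hx hz hns
  · rw [Nat.dvd_iff_mod_eq_zero]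
    obtain ⟨t, ht⟩ := hme
    constructor
    · rintro (⟨h1, h3, h4⟩ | ⟨h1, h3⟩)
      · exact Or.inl ⟨rfl, hp2, Or.inl ⟨h1, by omega, by omega⟩⟩
      · exact Or.inl ⟨rfl, hp2, Or.inr ⟨h1, by omega⟩⟩
    · rintro (⟨-, -, ⟨h1, h3, h4⟩ | ⟨h1, h3⟩⟩ | ⟨-, h, -⟩ | ⟨-, h, -⟩)
      · exact Or.inl ⟨h1, by omega, by omega⟩
      · exact Or.inr ⟨h1, by omega⟩
      · exact absurd h (lt_irrefl 2)
      · exact absurd h (lt_irrefl 2)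

end Cfsg.Agent.Lib.Helper13_OrthCase_S5988_two_odd
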