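import Mathlib
import Cfsg.Prelude.Def_GeometricClasses
import Cfsg.Prelude.Def_Classical
import Cfsg.Agent.Lib.Helper13_OrthR2ND

/-!
S5989_two (helper13): the case `r = 2`, `p` odd of the row, in the frozen shape.
-/

set_option autoImplicit false
open scoped MatrixGroups
open Cfsg

namespace Cfsg.Agent.Lib.Helper13_OrthCase_S5989_two

open Matrix Module Cfsg.Agent.Lib.Helper13_OrthR2Defs Cfsg.Agent.Lib.Helper13_OrthR2Glue
  Cfsg.Agent.Lib.Helper13_OrthR2_G12 Cfsg.Agent.Lib.Helper13_OrthR2Core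
  Cfsg.Agent.Lib.Helper13_OrthR2ND Cfsg.Agent.Lib.Helper44_StdForms

theorem odd_iff_mod4 (d : ℕ) : Odd d ↔ (2 * d) % 4 = 2 := by
  constructor
  · rintro ⟨k, rfl⟩; omega
  · intro h
    rcases Nat.even_or_odd d with ⟨k, rfl⟩ | h'
    · omega
    · exact h'

theorem even_iff_mod4 (d : ℕ) : Even d ↔ (2 * d) % 4 = 0 := by
  constructor
  · rintro ⟨k, rfl⟩; omega
  · intro h
    rcases Nat.even_or_odd d with h' | ⟨k, rfl⟩
    · exact h'
    · omega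

theorem S5989_two {F : Type*} [Field F] [Fintype F] {p : ℕ} [Fact p.Prime] [CharP F p] {q : ℕ} (hq : Fintype.card F = q)
    (hodd : Odd q) (d m : ℕ) (hd : 4 ≤ d) (hm : Odd m) (hmd : m < d)
    (W₀ : Submodule F (Fin d ⊕ Fin d → F)) (hW₀ : Module.finrank F ↥W₀ = m ∧ Cfsg.Geo.IsNondegenerateOn (QuadraticMap.polar (Cfsg.quadFormPlus d F)) W₀)
    (r : ℕ) [Fact r.Prime]
    (hrΩ : r ∣ Nat.card {W : Submodule F (Fin d ⊕ Fin d → F) // Module.finrank F ↥W = m ∧ Cfsg.Geo.IsNondegenerateOn (QuadraticMap.polar (Cfsg.quadFormPlus d F)) W ∧ Cfsg.Geo.AreIsometricFor (Cfsg.quadFormPlus d F) W W₀})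
    (i c : ℕ) (hi : i = orderOf (q : ZMod r)) (hc : c = if Even i then i else 2 * i)
    (hr2 : r = 2) :
    (∀ x : GL (Fin d ⊕ Fin d) F, x ∈ Cfsg.Geo.omegaGL (Cfsg.quadFormPlus d F) →
      (∃ z : F, ((x ^ r : GL (Fin d ⊕ Fin d) F) : Matrix (Fin d ⊕ Fin d) (Fin d ⊕ Fin d) F) = z • (1 : Matrix (Fin d ⊕ Fin d) (Fin d ⊕ Fin d) F)) →
      (∀ z : F, (x : Matrix (Fin d ⊕ Fin d) (Fin d ⊕ Fin d) F) ≠ z • (1 : Matrix (Fin d ⊕ Fin d) (Fin d ⊕ Fin d) F)) →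
      ∃ W : Submodule F (Fin d ⊕ Fin d → F), (Module.finrank F ↥W = m ∧ Cfsg.Geo.IsNondegenerateOn (QuadraticMap.polar (Cfsg.quadFormPlus d F)) W ∧ Cfsg.Geo.AreIsometricFor (Cfsg.quadFormPlus d F) W W₀) ∧ W.map (Matrix.toLin' (x : Matrix (Fin d ⊕ Fin d) (Fin d ⊕ Fin d) F)) ≤ W) ↔
    ((r = 2 ∧ Odd d ∧ q % 8 ≠ 1) ∨
     (r ≠ p ∧ 2 < r ∧ Odd i ∧ c ≤ m ∧ 0 < m % c ∧ m % c < (2 * d) % c) ∨
     (r ≠ p ∧ 2 < r ∧ Even i ∧ (((2 * d) % c = 0 ∧ Odd ((2 * d) / i)) ∨ (i ≤ m ∧ 0 < m % c ∧ m % c < (2 * d) % c)))) := by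
  subst hr2
  have h2 : (2 : F) ≠ 0 := by
    intro h
    have h1 : ((Fintype.card F : ℕ) : F) = 0 := Nat.cast_card_eq_zero F
    rw [hq] at h1
    obtain ⟨k, rfl⟩ := hodd
    apply one_ne_zero (α := F)
    have : ((2 * k + 1 : ℕ) : F) = (2 : F) * (k : F) + 1 := by push_cast; ring
    rw [this, h, zero_mul, zero_add] at h1
    exact h1
  have hodd' := card_odd h2
  rw [hq] at hodd'
  rw [← coe_qfPlus d F] at hW₀ ⊢
  have hmain := nd_iso_iff h2 (qfPlus d F)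
    (Cfsg.Agent.Lib.Helper14_POmegaSimple.nondegenerate_qfPlus d) d (card_plus d) (by omega)
    m hm hmd W₀ hW₀.1 hW₀.2
  rw [typeB_plus h2 (qfPlus d F) d (plus_top_qfPlus d), isSquare_neg_one_iff h2,
    isSquare_two_iff h2, hq] at hmain
  refine Iff.trans ⟨fun H => ?_, fun H => ?_⟩ (hmain.trans ?_)
  · intro x hx hz hns
    exact H x hx hz hns
  · intro x hx hz hns
    exact H x hx hz hns
  · constructor
    · intro h
      refine Or.inl ⟨rfl, ?_, ?_⟩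
      · by_contra hde
        rw [Nat.not_odd_iff_even] at hde
        exact h ⟨Or.inl hde, Or.inl hde⟩
      · intro h8
        exact h ⟨Or.inr (by omega), Or.inr (Or.inl h8)⟩
    · rintro (⟨-, h1, h3⟩ | ⟨-, h, -⟩ | ⟨-, h, -⟩)
      · rintro ⟨h4 | h4, h5 | h5⟩
        · exact (Nat.not_even_iff_odd.2 h1) h4
        · exact (Nat.not_even_iff_odd.2 h1) h4
        · exact (Nat.not_even_iff_odd.2 h1) h5
        · omega
      · exact absurd h (lt_irrefl 2)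
      · exact absurd h (lt_irrefl 2)

end Cfsg.Agent.Lib.Helper13_OrthCase_S5989_two
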