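import Mathlib
import Cfsg.Prelude.Def_GeometricClasses
import Cfsg.Prelude.Def_Classical
import Cfsg.Agent.Lib.Helper13_OrthR2Core

/-!
R2minus (helper13, for helper99's S5987): the case `r = 2 ≠ p` of the row on totally singular `m`-spaces of
`Ω⁻_{2d}(q)`.
-/

set_option autoImplicit false
open scoped MatrixGroups
open Cfsg

namespace Cfsg.Agent.Lib.Helper13_OrthTS_R2minus

open Matrix Module Cfsg.Agent.Lib.Helper13_OrthR2Defs Cfsg.Agent.Lib.Helper13_OrthR2Glue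
  Cfsg.Agent.Lib.Helper13_OrthR2_G12 Cfsg.Agent.Lib.Helper13_OrthR2Core
  Cfsg.Agent.Lib.Helper44_StdForms

/-- the general statement: totally singular `m`-spaces, minus type -/
theorem ts_minus_iff {ι : Type} [Fintype ι] [DecidableEq ι] {F : Type*} [Field F] [Fintype F]
    (h2 : (2 : F) ≠ 0) (Q : QuadraticForm F (ι → F))
    (hQ : (QuadraticMap.polarBilin Q).Nondegenerate) (d : ℕ) (hd : Fintype.card ι = 2 * d)
    (hd2 : 1 ≤ d) (hminus : ¬ Plus Q ⊤) (m : ℕ) (hmd : m + 1 ≤ d) :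
    AllFix Q (fun W => finrank F W = m ∧ TS Q W) ↔
      (Even d ∨ Even m ∨ IsSquare (-1 : F) ∨ ¬ IsSquare (2 : F)) := by
  have : Nonempty ι := by
    apply Fintype.card_pos_iff.1
    omega
  rw [allFix_iff h2 Q hQ]
  have hA : AFix Q (fun W => finrank F W = m ∧ TS Q W) := by
    intro x hx hxx hns
    exact (aData h2 Q hQ x hx hxx hns d hd).ts_minus h2 hminus m hmd
  have hB := bFix_iff h2 Q hQ d hd (fun W => finrank F W = m ∧ TS Q W) (IsSquare (-1 : F) ∨ Even m)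
    (fun x hiso hxx => typeB_ts h2 Q hQ x hiso hxx d hd m (by omega))
  rw [hB, isSquare_neg_one_pow_iff, isSquare_two_pow_iff h2]
  constructor
  · rintro ⟨-, h | h⟩
    · by_contra hcon
      push Not at hcon
      obtain ⟨h1, h2', h3, h4⟩ := hcon
      apply h
      refine ⟨⟨fun hp => absurd hp hminus, ?_⟩, Or.inr h4⟩
      rintro (h5 | h5)
      · exact absurd h5 h1
      · exact absurd h5 h3
    · rcases h with h | h
      · exact Or.inr (Or.inr (Or.inl h))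
      · exact Or.inr (Or.inl h)
  · intro h
    refine ⟨hA, ?_⟩
    rcases h with h | h | h | h
    · left
      rintro ⟨h1, -⟩
      exact hminus (h1.2 (Or.inl h))
    · exact Or.inr (Or.inr h)
    · exact Or.inr (Or.inl h)
    · by_cases hde : Even d
      · left
        rintro ⟨h1, -⟩
        exact hminus (h1.2 (Or.inl hde))
      · left
        rintro ⟨-, h1 | h1⟩
        · exact hde h1
        · exact h h1

/-- R2minus: case `r = 2 ≠ p` of S5987. -/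
theorem R2minus {F : Type*} [Field F] [Fintype F] {p : ℕ} [Fact p.Prime] [CharP F p] {q : ℕ} (hq : Fintype.card F = q)
    (d m : ℕ) (hd : 4 ≤ d) (hm : 1 ≤ m) (hmd : m + 1 ≤ d) (a b : F) (hab : ∀ x y : F, x ^ 2 + a * x * y + b * y ^ 2 = 0 → x = 0 ∧ y = 0)
    (hp2 : p ≠ 2) :
    (∀ x : GL ((Fin (d - 1) ⊕ Fin (d - 1)) ⊕ Fin 2) F, x ∈ Cfsg.Geo.omegaGL (Cfsg.quadFormMinus (d - 1) F a b) →
      (∃ z : F, ((x ^ 2 : GL ((Fin (d - 1) ⊕ Fin (d - 1)) ⊕ Fin 2) F) : Matrix ((Fin (d - 1) ⊕ Fin (d - 1)) ⊕ Fin 2) ((Fin (d - 1) ⊕ Fin (d - 1)) ⊕ Fin 2) F) = z • (1 : Matrix ((Fin (d - 1) ⊕ Fin (d - 1)) ⊕ Fin 2) ((Fin (d - 1) ⊕ Fin (d - 1)) ⊕ Fin 2) F)) →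
      (∀ z : F, (x : Matrix ((Fin (d - 1) ⊕ Fin (d - 1)) ⊕ Fin 2) ((Fin (d - 1) ⊕ Fin (d - 1)) ⊕ Fin 2) F) ≠ z • (1 : Matrix ((Fin (d - 1) ⊕ Fin (d - 1)) ⊕ Fin 2) ((Fin (d - 1) ⊕ Fin (d - 1)) ⊕ Fin 2) F)) →
      ∃ W : Submodule F ((Fin (d - 1) ⊕ Fin (d - 1)) ⊕ Fin 2 → F), (Module.finrank F ↥W = m ∧ Cfsg.Geo.IsTotallySingularQuad (Cfsg.quadFormMinus (d - 1) F a b) W) ∧ W.map (Matrix.toLin' (x : Matrix ((Fin (d - 1) ⊕ Fin (d - 1)) ⊕ Fin 2) ((Fin (d - 1) ⊕ Fin (d - 1)) ⊕ Fin 2) F)) ≤ W) ↔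
    (Even d ∨ Even m ∨ q % 8 ≠ 7) := by
  have h2 : (2 : F) ≠ 0 := two_ne_zero_of_char hp2
  have hodd := card_odd h2
  have hmain := ts_minus_iff h2 (qfMinus (d - 1) F a b)
    (Cfsg.Agent.Lib.Helper14_POmegaSimple.nondegenerate_qfMinus (d - 1) a b hab)
    d (card_minus d (by omega)) (by omega) (not_plus_top_qfMinus (d - 1) a b hab) m hmd
  have hc := coe_qfMinus (d - 1) F a b
  unfold AllFix TS Cfsg.Agent.Lib.Helper13_OrthR2Defs.Inv at hmain
  rw [hc] at hmain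
  rw [hmain, isSquare_neg_one_iff h2, isSquare_two_iff h2, hq]
  rw [hq] at hodd
  constructor
  · rintro (h | h | h | h)
    · exact Or.inl h
    · exact Or.inr (Or.inl h)
    · right; right; omega
    · right; right; omega
  · rintro (h | h | h)
    · exact Or.inl h
    · exact Or.inr (Or.inl h)
    · right; right
      by_cases h1 : q % 4 = 1
      · exact Or.inl h1
      · right
        omega

end Cfsg.Agent.Lib.Helper13_OrthTS_R2minus
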