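import Mathlib
import Cfsg.Prelude.Def_GeometricClasses
import Cfsg.Prelude.Def_Classical
import Cfsg.Agent.Lib.Helper13_OrthR2Core

/-!
R2plus (helper13, for helper99's S5973): the case `r = 2 ≠ p` of the row on totally singular `m`-spaces of
`Ω⁺_{2d}(q)`.
-/

set_option autoImplicit false
open scoped MatrixGroups
open Cfsg

namespace Cfsg.Agent.Lib.Helper13_OrthTS_R2plus

open Matrix Module Cfsg.Agent.Lib.Helper13_OrthR2Defs Cfsg.Agent.Lib.Helper13_OrthR2Glue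
  Cfsg.Agent.Lib.Helper13_OrthR2_G12 Cfsg.Agent.Lib.Helper13_OrthR2Core
  Cfsg.Agent.Lib.Helper44_StdForms

/-- the general statement: totally singular `m`-spaces, plus type -/
theorem ts_plus_iff {ι : Type} [Fintype ι] [DecidableEq ι] {F : Type*} [Field F] [Fintype F]
    (h2 : (2 : F) ≠ 0) (Q : QuadraticForm F (ι → F))
    (hQ : (QuadraticMap.polarBilin Q).Nondegenerate) (d : ℕ) (hd : Fintype.card ι = 2 * d)
    (hd2 : 2 ≤ d) (hplus : Plus Q ⊤) (m : ℕ) (hmd : m < d) :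
    AllFix Q (fun W => finrank F W = m ∧ TS Q W) ↔
      (IsSquare (-1 : F) ∨ (m + 2 ≤ d ∧ (Even m ∨ Odd d))) := by
  have : Nonempty ι := by
    apply Fintype.card_pos_iff.1
    omega
  rw [allFix_iff h2 Q hQ]
  constructor
  · rintro ⟨hA, hB⟩
    by_cases hm1 : IsSquare (-1 : F)
    · exact Or.inl hm1
    · right
      refine ⟨?_, ?_⟩
      · obtain ⟨x, hx, hxx, hns, hbad⟩ := typeA_bad h2 hQ hplus hm1 hd hd2
        obtain ⟨W, ⟨hWm, hts⟩, hinv⟩ := hA x hx hxx hns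
        have := hbad W hts hinv
        omega
      · by_contra hcon
        push Not at hcon
        obtain ⟨hmo, hde⟩ := hcon
        rw [Nat.not_even_iff_odd] at hmo
        rw [Nat.not_odd_iff_even] at hde
        have hex : (Plus Q ⊤ ↔ IsSquare ((-1 : F) ^ d)) ∧ IsSquare ((2 : F) ^ d) :=
          ⟨⟨fun _ => (isSquare_neg_one_pow_iff d).2 (Or.inl hde), fun _ => hplus⟩,
            (isSquare_two_pow_iff h2 d).2 (Or.inl hde)⟩
        obtain ⟨x, hx, hxx⟩ := (exists_typeB_iff h2 Q hQ d hd).2 hex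
        have hz : ((x ^ 2 : GL ι F) : Matrix ι ι F) = (-1 : F) • (1 : Matrix ι ι F) := by
          rw [coe_sq, hxx, neg_smul, one_smul]
        have hiso := (Cfsg.Agent.Lib.Helper13_OrthR2Pk.CL Q hQ x hx (-1) hz).1
        rcases (typeB_ts h2 Q hQ _ hiso hxx d hd m (by omega)).1 (hB x hx hxx) with h | h
        · exact hm1 h
        · exact (Nat.not_even_iff_odd.2 hmo) h
  · intro h
    refine ⟨?_, ?_⟩
    · intro x hx hxx hns
      have hA := aData h2 Q hQ x hx hxx hns d hd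
      rcases h with hm1 | ⟨hm2, -⟩
      · exact hA.ts_plus hplus (hA.sq.2 ((isSquare_neg_one_pow_iff _).2 (Or.inr hm1))) m (by omega)
      · exact hA.ts_general h2 m hm2
    · intro x hx hxx
      have hz : ((x ^ 2 : GL ι F) : Matrix ι ι F) = (-1 : F) • (1 : Matrix ι ι F) := by
        rw [coe_sq, hxx, neg_smul, one_smul]
      have hiso := (Cfsg.Agent.Lib.Helper13_OrthR2Pk.CL Q hQ x hx (-1) hz).1
      apply (typeB_ts h2 Q hQ _ hiso hxx d hd m (by omega)).2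
      rcases h with hm1 | ⟨-, hme | hdo⟩
      · exact Or.inl hm1
      · exact Or.inr hme
      · left
        have hex := (exists_typeB_iff h2 Q hQ d hd).1 ⟨x, hx, hxx⟩
        rcases (isSquare_neg_one_pow_iff d).1 (hex.1.1 hplus) with h | h
        · exact absurd hdo (Nat.not_odd_iff_even.2 h)
        · exact h

/-- R2plus: case `r = 2 ≠ p` of S5973. -/
theorem R2plus {F : Type*} [Field F] [Fintype F] {p : ℕ} [Fact p.Prime] [CharP F p] {q : ℕ} (hq : Fintype.card F = q)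
    (d m : ℕ) (hd : 4 ≤ d) (hm : 1 ≤ m) (hmd : m < d) (hp2 : p ≠ 2) :
    (∀ x : GL (Fin d ⊕ Fin d) F, x ∈ Cfsg.Geo.omegaGL (Cfsg.quadFormPlus d F) →
      (∃ z : F, ((x ^ 2 : GL (Fin d ⊕ Fin d) F) : Matrix (Fin d ⊕ Fin d) (Fin d ⊕ Fin d) F) = z • (1 : Matrix (Fin d ⊕ Fin d) (Fin d ⊕ Fin d) F)) →
      (∀ z : F, (x : Matrix (Fin d ⊕ Fin d) (Fin d ⊕ Fin d) F) ≠ z • (1 : Matrix (Fin d ⊕ Fin d) (Fin d ⊕ Fin d) F)) →
      ∃ W : Submodule F (Fin d ⊕ Fin d → F), Module.finrank F ↥W = m ∧ (∀ w ∈ W, Cfsg.quadFormPlus d F w = 0) ∧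
        W.map (Matrix.toLin' (x : Matrix (Fin d ⊕ Fin d) (Fin d ⊕ Fin d) F)) ≤ W) ↔
    (q % 4 = 1 ∨ (q % 4 = 3 ∧ m + 2 ≤ d ∧ (Even m ∨ (2 * d) % 4 = 2))) := by
  have h2 : (2 : F) ≠ 0 := two_ne_zero_of_char hp2
  have hodd := card_odd h2
  have hmain := ts_plus_iff h2 (qfPlus d F) (Cfsg.Agent.Lib.Helper14_POmegaSimple.nondegenerate_qfPlus d)
    d (card_plus d) (by omega) (plus_top_qfPlus d) m hmd
  have hL : (∀ x : GL (Fin d ⊕ Fin d) F, x ∈ Cfsg.Geo.omegaGL (Cfsg.quadFormPlus d F) →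
      (∃ z : F, ((x ^ 2 : GL (Fin d ⊕ Fin d) F) : Matrix (Fin d ⊕ Fin d) (Fin d ⊕ Fin d) F) = z • (1 : Matrix (Fin d ⊕ Fin d) (Fin d ⊕ Fin d) F)) →
      (∀ z : F, (x : Matrix (Fin d ⊕ Fin d) (Fin d ⊕ Fin d) F) ≠ z • (1 : Matrix (Fin d ⊕ Fin d) (Fin d ⊕ Fin d) F)) →
      ∃ W : Submodule F (Fin d ⊕ Fin d → F), Module.finrank F ↥W = m ∧ (∀ w ∈ W, Cfsg.quadFormPlus d F w = 0) ∧
        W.map (Matrix.toLin' (x : Matrix (Fin d ⊕ Fin d) (Fin d ⊕ Fin d) F)) ≤ W) ↔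
      AllFix (qfPlus d F) (fun W => finrank F W = m ∧ TS (qfPlus d F) W) := by
    unfold AllFix
    have hc := coe_qfPlus d F
    constructor
    · intro h x hx hz hns
      obtain ⟨W, h1, h2', h3⟩ := h x (hc ▸ hx) hz hns
      exact ⟨W, ⟨h1, fun w hw => by rw [hc]; exact h2' w hw⟩, h3⟩
    · intro h x hx hz hns
      obtain ⟨W, ⟨h1, h2'⟩, h3⟩ := h x (hc ▸ hx) hz hns
      exact ⟨W, h1, fun w hw => by rw [← hc]; exact h2' w hw, h3⟩
  rw [hL, hmain, isSquare_neg_one_iff h2, hq]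
  rw [hq] at hodd
  have hdo : Odd d ↔ (2 * d) % 4 = 2 := by
    constructor
    · rintro ⟨k, rfl⟩; omega
    · intro h
      rcases Nat.even_or_odd d with ⟨k, rfl⟩ | h'
      · omega
      · exact h'
  rw [hdo]
  constructor
  · rintro (h | h)
    · exact Or.inl h
    · by_cases h1 : q % 4 = 1
      · exact Or.inl h1
      · exact Or.inr ⟨by omega, h⟩
  · rintro (h | ⟨-, h⟩)
    · exact Or.inl h
    · exact Or.inr h

end Cfsg.Agent.Lib.Helper13_OrthTS_R2plus
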