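import Cfsg.Agent.Lib.Helper15_ROChar
import Cfsg.Agent.Lib.Helper79_Linear

/-!
# S4581-P5 (helper15's real odd-degree characters project), formalised by helper13

A linear character of `Y`, trivial on a normal subgroup `Q` with abelian quotient, which is
non-trivial at a given element outside `Q`.
-/

set_option autoImplicit false

namespace Cfsg.Agent.Lib.Helper13_ROLin

open Cfsg
open Cfsg.Agent.Lib.Helper15_ROBasic

universe u

variable {G : Type u} [Group G] [Finite G]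

theorem exists_dual_ne_one' {A : Type*} [Group A] [Finite A] (hcomm : ∀ a b : A, a * b = b * a)
    {a : A} (ha : a ≠ 1) : ∃ c : A →* ℂˣ, c a ≠ 1 := by
  let inst : CommGroup A := { (inferInstance : Group A) with mul_comm := hcomm }
  have : NeZero (Monoid.exponent A) := ⟨Monoid.exponent_ne_zero_of_finite⟩
  exact CommGroup.exists_apply_ne_one_of_hasEnoughRootsOfUnity A ℂ ha

theorem exists_lin_nontrivial {Y Q : Subgroup G} (hQY : Q ≤ Y)
    (hn : Y ≤ Subgroup.normalizer (Q : Set G))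
    (hab : ∀ x ∈ Y, ∀ y ∈ Y, x * y * x⁻¹ * y⁻¹ ∈ Q) {k : G} (hkY : k ∈ Y) (hkQ : k ∉ Q) :
    ∃ ξ : IrrCharacter ↥Y, (ξ : ↥Y → ℂ) 1 = 1 ∧ TrivOn Q (ξ : ↥Y → ℂ) ∧
      (ξ : ↥Y → ℂ) ⟨k, hkY⟩ ≠ 1 := by
  haveI hN : (Q.subgroupOf Y).Normal := normal_sub hQY hn
  have hcomm : ∀ a b : ↥Y ⧸ Q.subgroupOf Y, a * b = b * a := by
    intro a b
    induction a using QuotientGroup.induction_on with
    | H x =>
      induction b using QuotientGroup.induction_on with
      | H y =>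
        rw [← QuotientGroup.mk_mul, ← QuotientGroup.mk_mul, QuotientGroup.eq,
          Subgroup.mem_subgroupOf]
        have := hab _ (Subgroup.inv_mem _ y.2) _ (Subgroup.inv_mem _ x.2)
        simp only [inv_inv] at this
        push_cast
        rw [mul_inv_rev, ← mul_assoc]
        exact this
  have hk1 : (QuotientGroup.mk' (Q.subgroupOf Y) ⟨k, hkY⟩ : ↥Y ⧸ Q.subgroupOf Y) ≠ 1 := by
    intro h
    rw [QuotientGroup.mk'_apply, QuotientGroup.eq_one_iff, Subgroup.mem_subgroupOf] at h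
    exact hkQ h
  obtain ⟨c, hc⟩ := exists_dual_ne_one' hcomm hk1
  let f : ↥Y →* ℂˣ := c.comp (QuotientGroup.mk' (Q.subgroupOf Y))
  refine ⟨⟨fun y => ((f y : ℂˣ) : ℂ), Cfsg.Agent.Lib.Helper79_Linear.isIrrCharacter_of_hom f⟩,
    ?_, ?_, ?_⟩
  · show ((f 1 : ℂˣ) : ℂ) = 1
    rw [map_one]
    rfl
  · intro a ha
    show ((f a : ℂˣ) : ℂ) = ((f 1 : ℂˣ) : ℂ)
    have h1 : (QuotientGroup.mk' (Q.subgroupOf Y) a : ↥Y ⧸ Q.subgroupOf Y) = 1 := by
      rw [QuotientGroup.mk'_apply, QuotientGroup.eq_one_iff, Subgroup.mem_subgroupOf]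
      exact ha
    have h2 : f a = 1 := by
      show c (QuotientGroup.mk' (Q.subgroupOf Y) a) = 1
      rw [h1, map_one]
    rw [h2, map_one]
  · show ((f ⟨k, hkY⟩ : ℂˣ) : ℂ) ≠ 1
    intro h
    apply hc
    exact Units.ext h

end Cfsg.Agent.Lib.Helper13_ROLin
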