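import Mathlib
import Cfsg.Prelude.Def_RootSubgroups
import Cfsg.Agent.Lib.Helper83_RankOne

set_option autoImplicit false

/-!
Families of abelian subgroups any two of which commute or are the unipotent subgroups of an image
of `SL₂(k)` with central kernel: such a family, when connected and generating, is a degenerate
class of abstract `k`-root subgroups.
-/

namespace Cfsg.Agent.Lib.Helper13_RootSL2

open Cfsg Matrix Cfsg.Agent.Lib.Helper83_RankOne
open scoped commutatorElement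

variable {k : Type*} [Field k]

/-! ### The unitriangular subgroups of `SL₂(k)` -/

/-- The upper unitriangular matrix with entry `s`. -/
def up (s : k) : Matrix.SpecialLinearGroup (Fin 2) k :=
  ⟨!![1, s; 0, 1], by simp [Matrix.det_fin_two_of]⟩

/-- The lower unitriangular matrix with entry `s`. -/
def lo (s : k) : Matrix.SpecialLinearGroup (Fin 2) k :=
  ⟨!![1, 0; s, 1], by simp [Matrix.det_fin_two_of]⟩

@[simp] lemma up_coe (s : k) : ((up s : Matrix.SpecialLinearGroup (Fin 2) k) :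
    Matrix (Fin 2) (Fin 2) k) = !![1, s; 0, 1] := rfl

@[simp] lemma lo_coe (s : k) : ((lo s : Matrix.SpecialLinearGroup (Fin 2) k) :
    Matrix (Fin 2) (Fin 2) k) = !![1, 0; s, 1] := rfl

lemma up_mul (s t : k) : up s * up t = up (s + t) := by
  apply Subtype.ext
  rw [Matrix.SpecialLinearGroup.coe_mul, up_coe, up_coe, up_coe, Matrix.mul_fin_two]
  simp [add_comm]

lemma lo_mul (s t : k) : lo s * lo t = lo (s + t) := by
  apply Subtype.ext
  rw [Matrix.SpecialLinearGroup.coe_mul, lo_coe, lo_coe, lo_coe, Matrix.mul_fin_two]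
  simp

lemma up_zero : up (0 : k) = 1 := by
  apply Subtype.ext
  rw [up_coe, Matrix.SpecialLinearGroup.coe_one, Matrix.one_fin_two]

lemma lo_zero : lo (0 : k) = 1 := by
  apply Subtype.ext
  rw [lo_coe, Matrix.SpecialLinearGroup.coe_one, Matrix.one_fin_two]

lemma up_inv (s : k) : (up s)⁻¹ = up (-s) := by
  apply inv_eq_of_mul_eq_one_right
  rw [up_mul, add_neg_cancel, up_zero]

lemma lo_inv (s : k) : (lo s)⁻¹ = lo (-s) := by
  apply inv_eq_of_mul_eq_one_right
  rw [lo_mul, add_neg_cancel, lo_zero]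

lemma mem_upper_iff (g : Matrix.SpecialLinearGroup (Fin 2) k) :
    g ∈ Cfsg.upperUnipotentSL2 k ↔ ∃ s, g = up s := by
  constructor
  · intro hg
    unfold Cfsg.upperUnipotentSL2 at hg
    induction hg using Subgroup.closure_induction with
    | mem x hx =>
      obtain ⟨h10, h00, h11⟩ := hx
      refine ⟨(x : Matrix (Fin 2) (Fin 2) k) 0 1, ?_⟩
      apply Subtype.ext
      rw [up_coe]
      ext i j
      fin_cases i <;> fin_cases j <;> simp [h10, h00, h11]
    | one => exact ⟨0, up_zero.symm⟩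
    | mul x y _ _ hx hy =>
      obtain ⟨s, rfl⟩ := hx
      obtain ⟨t, rfl⟩ := hy
      exact ⟨s + t, up_mul s t⟩
    | inv x _ hx =>
      obtain ⟨s, rfl⟩ := hx
      exact ⟨-s, up_inv s⟩
  · rintro ⟨s, rfl⟩
    apply Subgroup.subset_closure
    simp

lemma mem_lower_iff (g : Matrix.SpecialLinearGroup (Fin 2) k) :
    g ∈ Cfsg.lowerUnipotentSL2 k ↔ ∃ s, g = lo s := by
  constructor
  · intro hg
    unfold Cfsg.lowerUnipotentSL2 at hg
    induction hg using Subgroup.closure_induction with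
    | mem x hx =>
      obtain ⟨h01, h00, h11⟩ := hx
      refine ⟨(x : Matrix (Fin 2) (Fin 2) k) 1 0, ?_⟩
      apply Subtype.ext
      rw [lo_coe]
      ext i j
      fin_cases i <;> fin_cases j <;> simp [h01, h00, h11]
    | one => exact ⟨0, lo_zero.symm⟩
    | mul x y _ _ hx hy =>
      obtain ⟨s, rfl⟩ := hx
      obtain ⟨t, rfl⟩ := hy
      exact ⟨s + t, lo_mul s t⟩
    | inv x _ hx =>
      obtain ⟨s, rfl⟩ := hx
      exact ⟨-s, lo_inv s⟩
  · rintro ⟨s, rfl⟩
    apply Subgroup.subset_closure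
    simp

/-- The key identity: the conjugates of the upper and lower unitriangular groups by
`lo t` and `up s`, `t s = 1`, coincide. -/
lemma key_identity {s t : k} (hts : t * s = 1) (r : k) :
    lo (-t) * up r * lo t = up (-s) * lo (-(t * t * r)) * up s := by
  apply Subtype.ext
  simp only [Matrix.SpecialLinearGroup.coe_mul, up_coe, lo_coe, Matrix.mul_fin_two]
  ext i j
  fin_cases i <;> fin_cases j <;> simp
  · linear_combination (-(r * t)) * hts
  · linear_combination (-r * (t * s + 1)) * hts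
  · ring
  · linear_combination (-(t * r)) * hts

lemma off_diag_of_mem_center {z : Matrix.SpecialLinearGroup (Fin 2) k}
    (hz : z ∈ Subgroup.center (Matrix.SpecialLinearGroup (Fin 2) k)) :
    (z : Matrix (Fin 2) (Fin 2) k) 0 1 = 0 ∧ (z : Matrix (Fin 2) (Fin 2) k) 1 0 = 0 := by
  obtain ⟨r, -, hr⟩ := Matrix.SpecialLinearGroup.mem_center_iff.mp hz
  rw [← hr]
  simp


/-! ### Conjugates inside `SL₂(k)` and under a homomorphism -/

lemma conjBy_map {H G : Type*} [Group H] [Group G] (φ : H →* G) (K : Subgroup H) (g : H) :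
    Cfsg.conjBy (K.map φ) (φ g) = (Cfsg.conjBy K g).map φ := by
  ext x
  rw [mem_conjBy_iff, Subgroup.mem_map, Subgroup.mem_map]
  constructor
  · rintro ⟨y, hy, hyx⟩
    refine ⟨g * y * g⁻¹, conj_mem_conjBy hy g, ?_⟩
    rw [map_mul, map_mul, map_inv, hyx]
    group
  · rintro ⟨y, hy, rfl⟩
    rw [mem_conjBy_iff] at hy
    exact ⟨_, hy, by simp [map_mul, map_inv]⟩

lemma sl2_conj_eq {s t : k} (hts : t * s = 1) :
    Cfsg.conjBy (Cfsg.upperUnipotentSL2 k) (lo t)⁻¹
      = Cfsg.conjBy (Cfsg.lowerUnipotentSL2 k) (up s)⁻¹ := by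
  ext x
  rw [mem_conjBy_iff, mem_conjBy_iff, inv_inv, inv_inv, mem_upper_iff, mem_lower_iff]
  constructor
  · rintro ⟨r, hr⟩
    refine ⟨-(t * t * r), ?_⟩
    have hx : x = lo (-t) * up r * lo t := by
      rw [← hr, ← lo_inv]
      group
    rw [hx, key_identity hts, ← up_inv]
    group
  · rintro ⟨r, hr⟩
    have hx : x = up (-s) * lo r * up s := by
      rw [← hr, ← up_inv]
      group
    refine ⟨-(s * s * r), ?_⟩
    have hk := key_identity hts (-(s * s * r))
    have hrr : -(t * t * -(s * s * r)) = r := by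
      linear_combination (r * (t * s + 1)) * hts
    rw [hrr] at hk
    rw [hx, ← hk, ← lo_inv]
    group

variable {G : Type*} [Group G]

/-- Two elements with the same image under a homomorphism with central kernel are proportional. -/
lemma eq_smul_of_map_eq {φ : Matrix.SpecialLinearGroup (Fin 2) k →* G}
    (hker : φ.ker ≤ Subgroup.center (Matrix.SpecialLinearGroup (Fin 2) k))
    {x y : Matrix.SpecialLinearGroup (Fin 2) k} (h : φ x = φ y) :
    ∃ r : k, ∀ i j, (x : Matrix (Fin 2) (Fin 2) k) i j = r * (y : Matrix (Fin 2) (Fin 2) k) i j := by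
  have hm : x * y⁻¹ ∈ φ.ker := by
    rw [MonoidHom.mem_ker, map_mul, map_inv, h, mul_inv_cancel]
  obtain ⟨r, -, hr⟩ := Matrix.SpecialLinearGroup.mem_center_iff.mp (hker hm)
  refine ⟨r, fun i j => ?_⟩
  have hxy : (x : Matrix (Fin 2) (Fin 2) k) = (Matrix.scalar (Fin 2) r) * (y : Matrix (Fin 2) (Fin 2) k) := by
    rw [hr, ← Matrix.SpecialLinearGroup.coe_mul, inv_mul_cancel_right]
  rw [hxy]
  simp

lemma up_eq_zero_of_map_eq_one {φ : Matrix.SpecialLinearGroup (Fin 2) k →* G}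
    (hker : φ.ker ≤ Subgroup.center (Matrix.SpecialLinearGroup (Fin 2) k)) {s : k}
    (h : φ (up s) = 1) : s = 0 := by
  obtain ⟨r, hr⟩ := eq_smul_of_map_eq hker (h.trans (map_one φ).symm)
  have := hr 0 1
  simpa using this

lemma lo_eq_zero_of_map_eq_one {φ : Matrix.SpecialLinearGroup (Fin 2) k →* G}
    (hker : φ.ker ≤ Subgroup.center (Matrix.SpecialLinearGroup (Fin 2) k)) {s : k}
    (h : φ (lo s) = 1) : s = 0 := by
  obtain ⟨r, hr⟩ := eq_smul_of_map_eq hker (h.trans (map_one φ).symm)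
  have := hr 1 0
  simpa using this


/-! ### Consequences of being a `(P)SL₂(k)`-pair -/

lemma isNilpotent_of_comm {A : Subgroup G} (h : ∀ a ∈ A, ∀ b ∈ A, a * b = b * a) :
    Group.IsNilpotent A := by
  have hc : IsMulCommutative A := ⟨⟨fun a b => Subtype.ext (h a.1 a.2 b.1 b.2)⟩⟩
  exact ⟨1, Subgroup.upperCentralSeries_one_eq_top_iff.mpr hc⟩

lemma rankOneCondition_left {φ : Matrix.SpecialLinearGroup (Fin 2) k →* G}
    (hker : φ.ker ≤ Subgroup.center (Matrix.SpecialLinearGroup (Fin 2) k)) :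
    Cfsg.RankOneCondition ((Cfsg.upperUnipotentSL2 k).map φ) ((Cfsg.lowerUnipotentSL2 k).map φ) := by
  intro a ha ha1
  obtain ⟨x, hx, rfl⟩ := Subgroup.mem_map.mp ha
  obtain ⟨s, rfl⟩ := (mem_upper_iff x).mp hx
  have hs : s ≠ 0 := by
    rintro rfl
    apply ha1
    rw [up_zero, map_one]
  refine ⟨φ (lo s⁻¹), Subgroup.mem_map_of_mem φ ((mem_lower_iff _).mpr ⟨_, rfl⟩), ?_, ?_⟩
  · intro h1
    exact inv_ne_zero hs (lo_eq_zero_of_map_eq_one hker h1)
  · rw [← map_inv, ← map_inv, conjBy_map, conjBy_map, sl2_conj_eq (inv_mul_cancel₀ hs)]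

lemma rankOneCondition_right {φ : Matrix.SpecialLinearGroup (Fin 2) k →* G}
    (hker : φ.ker ≤ Subgroup.center (Matrix.SpecialLinearGroup (Fin 2) k)) :
    Cfsg.RankOneCondition ((Cfsg.lowerUnipotentSL2 k).map φ) ((Cfsg.upperUnipotentSL2 k).map φ) := by
  intro b hb hb1
  obtain ⟨x, hx, rfl⟩ := Subgroup.mem_map.mp hb
  obtain ⟨t, rfl⟩ := (mem_lower_iff x).mp hx
  have ht : t ≠ 0 := by
    rintro rfl
    apply hb1
    rw [lo_zero, map_one]
  refine ⟨φ (up t⁻¹), Subgroup.mem_map_of_mem φ ((mem_upper_iff _).mpr ⟨_, rfl⟩), ?_, ?_⟩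
  · intro h1
    exact inv_ne_zero ht (up_eq_zero_of_map_eq_one hker h1)
  · rw [← map_inv, ← map_inv, conjBy_map, conjBy_map, sl2_conj_eq (mul_inv_cancel₀ ht)]

theorem isRankOnePair_of_psl2 {A B : Subgroup G} (h : Cfsg.IsPSL2PairOver k A B) :
    Cfsg.IsRankOnePair A B := by
  obtain ⟨φ, -, hker, rfl, rfl⟩ := h
  refine ⟨?_, ?_, ?_, rankOneCondition_left hker, rankOneCondition_right hker⟩
  · intro hAB
    have h1 : φ (up 1) ∈ (Cfsg.lowerUnipotentSL2 k).map φ := by
      rw [← hAB]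
      exact Subgroup.mem_map_of_mem φ ((mem_upper_iff _).mpr ⟨_, rfl⟩)
    obtain ⟨y, hy, hyx⟩ := Subgroup.mem_map.mp h1
    obtain ⟨t, rfl⟩ := (mem_lower_iff y).mp hy
    obtain ⟨r, hr⟩ := eq_smul_of_map_eq hker hyx
    have := hr 0 1
    simp at this
    have h2 := hr 0 0
    simp at h2
    rw [← this] at h2
    exact one_ne_zero h2
  · apply isNilpotent_of_comm
    intro a ha b hb
    obtain ⟨x, hx, rfl⟩ := Subgroup.mem_map.mp ha
    obtain ⟨y, hy, rfl⟩ := Subgroup.mem_map.mp hb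
    obtain ⟨s, rfl⟩ := (mem_upper_iff x).mp hx
    obtain ⟨t, rfl⟩ := (mem_upper_iff y).mp hy
    rw [← map_mul, ← map_mul, up_mul, up_mul, add_comm]
  · apply isNilpotent_of_comm
    intro a ha b hb
    obtain ⟨x, hx, rfl⟩ := Subgroup.mem_map.mp ha
    obtain ⟨y, hy, rfl⟩ := Subgroup.mem_map.mp hb
    obtain ⟨s, rfl⟩ := (mem_lower_iff x).mp hx
    obtain ⟨t, rfl⟩ := (mem_lower_iff y).mp hy
    rw [← map_mul, ← map_mul, lo_mul, lo_mul, add_comm]

theorem exists_conj_of_psl2 {A B : Subgroup G} (h : Cfsg.IsPSL2PairOver k A B) :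
    ∃ g : G, B = Cfsg.conjBy A g := by
  have hr := isRankOnePair_of_psl2 h
  obtain ⟨a, ha, ha1⟩ := exists_ne_one_left hr
  obtain ⟨b, hb, -, hab⟩ := hr.cond_left a ha ha1
  refine ⟨a * b⁻¹, ?_⟩
  rw [← conjBy_mul, hab, conjBy_conjBy_inv]

theorem not_commutatorCase_of_psl2 {A B : Subgroup G} (S : Set (Subgroup G))
    (h : Cfsg.IsPSL2PairOver k A B) : ¬ Cfsg.RootCommutatorCase S A B := by
  obtain ⟨φ, -, hker, rfl, rfl⟩ := h
  rintro ⟨-, hcen, -, -⟩
  have hu : φ (up 1) ∈ (Cfsg.upperUnipotentSL2 k).map φ :=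
    Subgroup.mem_map_of_mem φ ((mem_upper_iff _).mpr ⟨_, rfl⟩)
  have hl : φ (lo 1) ∈ (Cfsg.lowerUnipotentSL2 k).map φ :=
    Subgroup.mem_map_of_mem φ ((mem_lower_iff _).mpr ⟨_, rfl⟩)
  have hc := hcen _ (Subgroup.commutator_mem_commutator hu hl) (φ (up 1))
    (Subgroup.mem_sup_left hu)
  rw [← map_commutatorElement, ← map_mul, ← map_mul] at hc
  obtain ⟨r, hr⟩ := eq_smul_of_map_eq hker hc
  have h10 := hr 1 0
  have h11 := hr 1 1
  rw [commutatorElement_def, up_inv, lo_inv] at h10 h11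
  simp at h10 h11


/-! ### The abstract criterion -/

/-- A generating, conjugation-closed family of abelian non-identity subgroups, any two members of
which commute or form a `(P)SL₂(k)`-pair, and which is connected through such pairs, is a degenerate
class of abstract `k`-root subgroups with connected graph of rank one pairs. -/
theorem root_class_of_pairs (k : Type*) [Field k] {S : Set (Subgroup G)} (hS : S.Nonempty)
    (hcomm : ∀ A ∈ S, ∀ a ∈ A, ∀ b ∈ A, a * b = b * a)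
    (hne : ∀ A ∈ S, A ≠ ⊥)
    (hgen : (⨆ A ∈ S, A) = ⊤)
    (hconj : ∀ A ∈ S, ∀ g : G, Cfsg.conjBy A g ∈ S)
    (hpair : ∀ A ∈ S, ∀ B ∈ S, ⁅A, B⁆ = ⊥ ∨ Cfsg.IsPSL2PairOver k A B)
    (hconn : ∀ A ∈ S, ∀ B ∈ S, Relation.ReflTransGen
      (fun A B => A ∈ S ∧ B ∈ S ∧ Cfsg.IsPSL2PairOver k A B) A B) :
    Cfsg.IsRootSubgroupClass S ∧ Cfsg.IsDegenerateRootSet S ∧ Cfsg.IsKRootSubgroupSet k S ∧
      Cfsg.IsConnectedFamily (Cfsg.FAdj S) S := by
  have hset : Cfsg.IsRootSubgroupSet S :=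
    ⟨fun A hA => ⟨⟨fun a b => Subtype.ext (hcomm A hA a.1 a.2 b.1 b.2)⟩⟩, hne, hgen, hconj,
      fun A hA B hB => (hpair A hA B hB).imp id (fun h => Or.inl (isRankOnePair_of_psl2 h))⟩
  refine ⟨⟨hset, hS, ?_⟩, ?_, ⟨hset, ?_⟩, ?_⟩
  · intro A hA B hB
    have hc := hconn A hA B hB
    induction hc with
    | refl => exact ⟨1, (conjBy_one A).symm⟩
    | tail _ hstep ih =>
      obtain ⟨hC, _, hp⟩ := hstep
      obtain ⟨g, rfl⟩ := ih hC
      obtain ⟨g', rfl⟩ := exists_conj_of_psl2 hp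
      exact ⟨g' * g, conjBy_mul A g' g⟩
  · intro A hA B hB hcase
    rcases hpair A hA B hB with h | h
    · exact hne _ hcase.1 h
    · exact not_commutatorCase_of_psl2 S h hcase
  · intro A hA B hB hr
    exact (hpair A hA B hB).resolve_left (commutator_ne_bot hr)
  · intro A hA B hB
    refine Relation.ReflTransGen.mono ?_ _ _ (hconn A hA B hB)
    intro X Y h
    exact ⟨h.1, h.2.1, isRankOnePair_of_psl2 h.2.2⟩


/-! ### `SL₂(k)` is generated by its unitriangular subgroups -/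

lemma exists_factor (M : Matrix.SpecialLinearGroup (Fin 2) k) :
    ∃ x y z w : k, M = lo x * up y * lo z * up w := by
  obtain ⟨a, ha⟩ : ∃ a, a = (M : Matrix (Fin 2) (Fin 2) k) 0 0 := ⟨_, rfl⟩
  obtain ⟨b, hb⟩ : ∃ b, b = (M : Matrix (Fin 2) (Fin 2) k) 0 1 := ⟨_, rfl⟩
  obtain ⟨c, hc⟩ : ∃ c, c = (M : Matrix (Fin 2) (Fin 2) k) 1 0 := ⟨_, rfl⟩
  obtain ⟨d, hd⟩ : ∃ d, d = (M : Matrix (Fin 2) (Fin 2) k) 1 1 := ⟨_, rfl⟩
  have hdet : a * d - b * c = 1 := by
    have := M.2
    rw [Matrix.det_fin_two] at this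
    rw [ha, hb, hc, hd]
    exact this
  have hM : (M : Matrix (Fin 2) (Fin 2) k) = !![a, b; c, d] := by
    ext i j
    fin_cases i <;> fin_cases j <;> simp [ha, hb, hc, hd]
  by_cases hc0 : c = 0
  · have ha0 : a ≠ 0 := by
      intro h
      rw [h, hc0] at hdet
      simp at hdet
    refine ⟨-1, (a - 1) / a, a, (b + d - 1) / a, ?_⟩
    apply Subtype.ext
    rw [hM]
    simp only [Matrix.SpecialLinearGroup.coe_mul, up_coe, lo_coe, Matrix.mul_fin_two]
    ext i j
    fin_cases i <;> fin_cases j <;> simp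
    · field_simp; ring
    · field_simp
      linear_combination (-1 : k) * hdet - b * hc0
    · rw [hc0]; field_simp; ring
    · field_simp
      linear_combination hdet + b * hc0
  · refine ⟨0, (a - 1) / c, c, (d - 1) / c, ?_⟩
    apply Subtype.ext
    rw [hM]
    simp only [Matrix.SpecialLinearGroup.coe_mul, up_coe, lo_coe, Matrix.mul_fin_two]
    ext i j
    fin_cases i <;> fin_cases j <;> simp
    · field_simp; ring
    · field_simp
      linear_combination (-1 : k) * hdet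
    · field_simp; ring

lemma upper_sup_lower :
    Cfsg.upperUnipotentSL2 k ⊔ Cfsg.lowerUnipotentSL2 k = ⊤ := by
  rw [eq_top_iff]
  intro M _
  obtain ⟨x, y, z, w, rfl⟩ := exists_factor M
  have hu : ∀ s : k, up s ∈ Cfsg.upperUnipotentSL2 k ⊔ Cfsg.lowerUnipotentSL2 k := fun s =>
    Subgroup.mem_sup_left ((mem_upper_iff _).mpr ⟨s, rfl⟩)
  have hl : ∀ s : k, lo s ∈ Cfsg.upperUnipotentSL2 k ⊔ Cfsg.lowerUnipotentSL2 k := fun s =>
    Subgroup.mem_sup_right ((mem_lower_iff _).mpr ⟨s, rfl⟩)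
  exact Subgroup.mul_mem _ (Subgroup.mul_mem _ (Subgroup.mul_mem _ (hl x) (hu y)) (hl z)) (hu w)

lemma range_eq_sup (φ : Matrix.SpecialLinearGroup (Fin 2) k →* G) :
    φ.range = (Cfsg.upperUnipotentSL2 k).map φ ⊔ (Cfsg.lowerUnipotentSL2 k).map φ := by
  rw [← Subgroup.map_sup, upper_sup_lower, MonoidHom.range_eq_map]

/-- A homomorphism from `SL₂(k)` with central kernel makes the images of the unitriangular
subgroups a `(P)SL₂(k)`-pair. -/
lemma isPSL2PairOver_of_hom (φ : Matrix.SpecialLinearGroup (Fin 2) k →* G)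
    (hker : φ.ker ≤ Subgroup.center (Matrix.SpecialLinearGroup (Fin 2) k)) {A B : Subgroup G}
    (hA : (Cfsg.upperUnipotentSL2 k).map φ = A) (hB : (Cfsg.lowerUnipotentSL2 k).map φ = B) :
    Cfsg.IsPSL2PairOver k A B :=
  ⟨φ, by rw [range_eq_sup, hA, hB], hker, hA, hB⟩

lemma map_upper_eq (φ : Matrix.SpecialLinearGroup (Fin 2) k →* G) (A : Subgroup G)
    (h1 : ∀ s, φ (up s) ∈ A) (h2 : ∀ a ∈ A, ∃ s, φ (up s) = a) :
    (Cfsg.upperUnipotentSL2 k).map φ = A := by
  ext x
  rw [Subgroup.mem_map]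
  constructor
  · rintro ⟨y, hy, rfl⟩
    obtain ⟨s, rfl⟩ := (mem_upper_iff y).mp hy
    exact h1 s
  · intro hx
    obtain ⟨s, rfl⟩ := h2 x hx
    exact ⟨up s, (mem_upper_iff _).mpr ⟨s, rfl⟩, rfl⟩

lemma map_lower_eq (φ : Matrix.SpecialLinearGroup (Fin 2) k →* G) (B : Subgroup G)
    (h1 : ∀ s, φ (lo s) ∈ B) (h2 : ∀ b ∈ B, ∃ s, φ (lo s) = b) :
    (Cfsg.lowerUnipotentSL2 k).map φ = B := by
  ext x
  rw [Subgroup.mem_map]
  constructor
  · rintro ⟨y, hy, rfl⟩
    obtain ⟨s, rfl⟩ := (mem_lower_iff y).mp hy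
    exact h1 s
  · intro hx
    obtain ⟨s, rfl⟩ := h2 x hx
    exact ⟨lo s, (mem_lower_iff _).mpr ⟨s, rfl⟩, rfl⟩


/-! ### Embedding `2 × 2` matrices along a plane -/

section Plane

variable {n : Type*} [Fintype n] [DecidableEq n] {R : Type*} [CommRing R]

/-- The matrix acting as `M` on a plane with basis the columns of `E` and trivially on the common
kernel of the rows of `E'`. -/
def planeMat (E : Matrix n (Fin 2) R) (E' : Matrix (Fin 2) n R) (M : Matrix (Fin 2) (Fin 2) R) :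
    Matrix n n R := 1 + E * (M - 1) * E'

omit [Fintype n] in
lemma planeMat_one (E : Matrix n (Fin 2) R) (E' : Matrix (Fin 2) n R) : planeMat E E' 1 = 1 := by
  simp [planeMat]

lemma planeMat_mul {E : Matrix n (Fin 2) R} {E' : Matrix (Fin 2) n R} (h : E' * E = 1)
    (M N : Matrix (Fin 2) (Fin 2) R) :
    planeMat E E' (M * N) = planeMat E E' M * planeMat E E' N := by
  unfold planeMat
  have h1 : E * (M - 1) * E' * (E * (N - 1) * E') = E * ((M - 1) * (N - 1)) * E' := by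
    calc E * (M - 1) * E' * (E * (N - 1) * E')
        = E * (M - 1) * (E' * E) * (N - 1) * E' := by simp only [Matrix.mul_assoc]
      _ = E * ((M - 1) * (N - 1)) * E' := by rw [h, Matrix.mul_one]; simp only [Matrix.mul_assoc]
  rw [Matrix.add_mul, Matrix.mul_add, Matrix.mul_add, Matrix.one_mul, Matrix.mul_one,
    Matrix.one_mul, h1]
  have h2 : M * N - 1 = (M - 1) + (N - 1) + (M - 1) * (N - 1) := by noncomm_ring
  rw [h2, Matrix.mul_add, Matrix.mul_add, Matrix.add_mul, Matrix.add_mul]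
  abel

lemma planeMat_injective {E : Matrix n (Fin 2) R} {E' : Matrix (Fin 2) n R} (h : E' * E = 1)
    {M N : Matrix (Fin 2) (Fin 2) R} (hMN : planeMat E E' M = planeMat E E' N) : M = N := by
  unfold planeMat at hMN
  have h1 : E * (M - 1) * E' = E * (N - 1) * E' := add_left_cancel hMN
  have h2 : E' * (E * (M - 1) * E') * E = E' * (E * (N - 1) * E') * E := by rw [h1]
  have h3 : ∀ X : Matrix (Fin 2) (Fin 2) R, E' * (E * X * E') * E = X := by
    intro X
    calc E' * (E * X * E') * E = (E' * E) * X * (E' * E) := by simp only [Matrix.mul_assoc]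
      _ = X := by rw [h, Matrix.one_mul, Matrix.mul_one]
  rw [h3, h3] at h2
  exact sub_left_injective h2

lemma det_planeMat {E : Matrix n (Fin 2) R} {E' : Matrix (Fin 2) n R} (h : E' * E = 1)
    (M : Matrix (Fin 2) (Fin 2) R) : (planeMat E E' M).det = M.det := by
  unfold planeMat
  rw [Matrix.det_one_add_mul_comm, ← Matrix.mul_assoc, h, Matrix.one_mul]
  congr 1
  abel

/-- The matrix with columns `e`, `f`. -/
def colMat (e f : n → R) : Matrix n (Fin 2) R := Matrix.of fun i => ![e i, f i]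

/-- The matrix with rows `α`, `β`. -/
def rowMat (α β : n → R) : Matrix (Fin 2) n R := Matrix.of ![α, β]

omit [DecidableEq n] in
lemma rowMat_mul_colMat {e f α β : n → R} (h1 : α ⬝ᵥ e = 1) (h2 : α ⬝ᵥ f = 0)
    (h3 : β ⬝ᵥ e = 0) (h4 : β ⬝ᵥ f = 1) : rowMat α β * colMat e f = 1 := by
  ext i j
  fin_cases i <;> fin_cases j <;>
    simp [rowMat, colMat, Matrix.mul_apply, dotProduct] at * <;> assumption

lemma planeMat_mulVec (e f α β : n → R) (M : Matrix (Fin 2) (Fin 2) R) (v : n → R) :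
    planeMat (colMat e f) (rowMat α β) M *ᵥ v
      = v + ((M 0 0 - 1) * (α ⬝ᵥ v) + M 0 1 * (β ⬝ᵥ v)) • e
        + (M 1 0 * (α ⬝ᵥ v) + (M 1 1 - 1) * (β ⬝ᵥ v)) • f := by
  unfold planeMat
  rw [Matrix.add_mulVec, Matrix.one_mulVec, ← Matrix.mulVec_mulVec, ← Matrix.mulVec_mulVec, add_assoc]
  congr 1
  ext i
  simp [rowMat, colMat, Matrix.mulVec, dotProduct, Fin.sum_univ_two]
  ring

end Plane

end Cfsg.Agent.Lib.Helper13_RootSL2
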