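import Mathlib
import Cfsg.Prelude.Def_RootSubgroups
import Cfsg.Agent.Lib.Helper13_RootSL2

set_option autoImplicit false

/-!
The criterion of `Helper13_RootSL2` for a family of subgroups viewed inside the subgroup it
generates.
-/

namespace Cfsg.Agent.Lib.Helper13_RootSub

open Cfsg Matrix Cfsg.Agent.Lib.Helper13_RootSL2 Cfsg.Agent.Lib.Helper83_RankOne
open scoped commutatorElement

section Sub

variable {G : Type*} [Group G]

lemma conjBy_subgroupOf (A K : Subgroup G) (g : K) :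
    Cfsg.conjBy (A.subgroupOf K) g = (Cfsg.conjBy A (g : G)).subgroupOf K := by
  ext x
  rw [mem_conjBy_iff, Subgroup.mem_subgroupOf, Subgroup.mem_subgroupOf, mem_conjBy_iff]
  simp

lemma psl2_subgroupOf {k : Type*} [Field k] {A B K : Subgroup G} (hA : A ≤ K) (hB : B ≤ K)
    (h : Cfsg.IsPSL2PairOver k A B) :
    Cfsg.IsPSL2PairOver k (A.subgroupOf K) (B.subgroupOf K) := by
  obtain ⟨φ, hr, hker, hUA, hUB⟩ := h
  have hK : ∀ x, φ x ∈ K := by
    intro x
    have : φ x ∈ φ.range := ⟨x, rfl⟩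
    rw [hr] at this
    exact (sup_le hA hB) this
  apply isPSL2PairOver_of_hom (φ.codRestrict K hK)
  · intro x hx
    apply hker
    rw [MonoidHom.mem_ker] at hx ⊢
    have := congrArg Subtype.val hx
    simpa using this
  · ext x
    rw [Subgroup.mem_map, Subgroup.mem_subgroupOf, ← hUA, Subgroup.mem_map]
    constructor
    · rintro ⟨y, hy, rfl⟩
      exact ⟨y, hy, rfl⟩
    · rintro ⟨y, hy, hyx⟩
      exact ⟨y, hy, Subtype.ext hyx⟩
  · ext x
    rw [Subgroup.mem_map, Subgroup.mem_subgroupOf, ← hUB, Subgroup.mem_map]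
    constructor
    · rintro ⟨y, hy, rfl⟩
      exact ⟨y, hy, rfl⟩
    · rintro ⟨y, hy, hyx⟩
      exact ⟨y, hy, Subtype.ext hyx⟩

/-- The criterion `root_class_of_pairs` for a family viewed inside the subgroup it generates. -/
theorem root_class_of_pairs_sub (k : Type*) [Field k] {S : Set (Subgroup G)} (hS : S.Nonempty)
    (hcomm : ∀ A ∈ S, ∀ a ∈ A, ∀ b ∈ A, a * b = b * a)
    (hne : ∀ A ∈ S, A ≠ ⊥)
    (hconj : ∀ A ∈ S, ∀ g : G, Cfsg.conjBy A g ∈ S)
    (hpair : ∀ A ∈ S, ∀ B ∈ S, (∀ a ∈ A, ∀ b ∈ B, a * b = b * a) ∨ Cfsg.IsPSL2PairOver k A B)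
    (hconn : ∀ A ∈ S, ∀ B ∈ S, Relation.ReflTransGen
      (fun A B => A ∈ S ∧ B ∈ S ∧ Cfsg.IsPSL2PairOver k A B) A B) :
    Cfsg.IsRootSubgroupClass ((fun A : Subgroup G => A.subgroupOf (⨆ B ∈ S, B)) '' S) ∧
    Cfsg.IsDegenerateRootSet ((fun A : Subgroup G => A.subgroupOf (⨆ B ∈ S, B)) '' S) ∧
    Cfsg.IsKRootSubgroupSet k ((fun A : Subgroup G => A.subgroupOf (⨆ B ∈ S, B)) '' S) ∧
    Cfsg.IsConnectedFamily (Cfsg.FAdj ((fun A : Subgroup G => A.subgroupOf (⨆ B ∈ S, B)) '' S))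
      ((fun A : Subgroup G => A.subgroupOf (⨆ B ∈ S, B)) '' S) := by
  have hle : ∀ A ∈ S, A ≤ ⨆ B ∈ S, B := fun A hA => le_iSup₂ (f := fun B _ => B) A hA
  apply root_class_of_pairs k
  · exact hS.image _
  · rintro _ ⟨A, hA, rfl⟩ a ha b hb
    exact Subtype.ext (hcomm A hA a.1 ha b.1 hb)
  · rintro _ ⟨A, hA, rfl⟩ h
    rw [Subgroup.subgroupOf_eq_bot, disjoint_iff, inf_eq_left.mpr (hle A hA)] at h
    exact hne A hA h
  · apply Subgroup.map_injective (Subgroup.subtype_injective (⨆ B ∈ S, B))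
    rw [iSup_image, Subgroup.map_iSup]
    simp only [Subgroup.map_iSup]
    rw [← MonoidHom.range_eq_map, Subgroup.range_subtype]
    apply le_antisymm
    · apply iSup₂_le
      intro A hA
      rw [Subgroup.map_subgroupOf_eq_of_le (hle A hA)]
      exact hle A hA
    · apply iSup₂_le
      intro A hA
      have : A = Subgroup.map (⨆ B ∈ S, B).subtype (A.subgroupOf (⨆ B ∈ S, B)) :=
        (Subgroup.map_subgroupOf_eq_of_le (hle A hA)).symm
      rw [this]
      exact le_iSup₂ (f := fun A _ => Subgroup.map (⨆ B ∈ S, B).subtype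
        (A.subgroupOf (⨆ B ∈ S, B))) A hA
  · rintro _ ⟨A, hA, rfl⟩ g
    exact ⟨_, hconj A hA g, (conjBy_subgroupOf A _ g).symm⟩
  · rintro _ ⟨A, hA, rfl⟩ _ ⟨B, hB, rfl⟩
    rcases hpair A hA B hB with h | h
    · left
      rw [Subgroup.commutator_eq_bot_iff_le_centralizer]
      intro a ha
      rw [Subgroup.mem_centralizer_iff]
      intro b hb
      exact Subtype.ext (h a.1 ha b.1 hb).symm
    · right
      exact psl2_subgroupOf (hle A hA) (hle B hB) h
  · rintro _ ⟨A, hA, rfl⟩ _ ⟨B, hB, rfl⟩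
    refine Relation.ReflTransGen.lift (fun A : Subgroup G => A.subgroupOf (⨆ B ∈ S, B)) ?_ _ _
      (hconn A hA B hB)
    intro X Y h
    exact ⟨⟨X, h.1, rfl⟩, ⟨Y, h.2.1, rfl⟩, psl2_subgroupOf (hle X h.1) (hle Y h.2.1) h.2.2⟩

end Sub

end Cfsg.Agent.Lib.Helper13_RootSub
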