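import Mathlib
import Cfsg.Prelude.Def_RootSubgroups
import Cfsg.Agent.Lib.Helper13_RootSub

set_option autoImplicit false

/-!
A criterion for sets of abstract `k`-root subgroups in which the commutator case occurs through an
explicit "Heisenberg" configuration.
-/

namespace Cfsg.Agent.Lib.Helper13_RootHeis

open Cfsg Matrix Cfsg.Agent.Lib.Helper13_RootSL2 Cfsg.Agent.Lib.Helper13_RootSub
  Cfsg.Agent.Lib.Helper83_RankOne
open scoped commutatorElement

variable {G : Type*} [Group G]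

/-- The explicit commutator configuration: all commutators of `A` and `B` lie in the member `C`,
which commutes with `A` and `B`, and every element of `C` is a commutator with any prescribed
non-identity element of `A` or of `B`. -/
structure Heis (S : Set (Subgroup G)) (A B C : Subgroup G) : Prop where
  mem : C ∈ S
  commA : ∀ c ∈ C, ∀ a ∈ A, c * a = a * c
  commB : ∀ c ∈ C, ∀ b ∈ B, c * b = b * c
  comm_mem : ∀ a ∈ A, ∀ b ∈ B, a * b * a⁻¹ * b⁻¹ ∈ C
  surjB : ∀ a ∈ A, a ≠ 1 → ∀ c ∈ C, ∃ b ∈ B, a * b * a⁻¹ * b⁻¹ = c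
  surjA : ∀ b ∈ B, b ≠ 1 → ∀ c ∈ C, ∃ a ∈ A, a * b * a⁻¹ * b⁻¹ = c

lemma exists_ne_one_of_ne_bot {A : Subgroup G} (h : A ≠ ⊥) : ∃ a ∈ A, a ≠ 1 := by
  by_contra hcon
  push Not at hcon
  apply h
  rw [Subgroup.eq_bot_iff_forall]
  exact hcon

lemma Heis.commutator_eq {S : Set (Subgroup G)} {A B C : Subgroup G} (h : Heis S A B C)
    (hA : A ≠ ⊥) : ⁅A, B⁆ = C := by
  apply le_antisymm
  · rw [Subgroup.commutator_le]
    intro a ha b hb
    rw [commutatorElement_def]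
    exact h.comm_mem a ha b hb
  · intro c hc
    obtain ⟨a, ha, ha1⟩ := exists_ne_one_of_ne_bot hA
    obtain ⟨b, hb, rfl⟩ := h.surjB a ha ha1 c hc
    rw [← commutatorElement_def]
    exact Subgroup.commutator_mem_commutator ha hb

lemma Heis.rootCommutatorCase {S : Set (Subgroup G)} {A B C : Subgroup G} (h : Heis S A B C)
    (hA : A ≠ ⊥) : Cfsg.RootCommutatorCase S A B := by
  have hC := h.commutator_eq hA
  refine ⟨by rw [hC]; exact h.mem, ?_, ?_, ?_⟩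
  · intro c hc x hx
    rw [hC] at hc
    have hle : A ⊔ B ≤ Subgroup.centralizer {c} := by
      apply sup_le
      · intro a ha
        rw [Subgroup.mem_centralizer_singleton_iff]
        exact (h.commA c hc a ha).symm
      · intro b hb
        rw [Subgroup.mem_centralizer_singleton_iff]
        exact (h.commB c hc b hb).symm
    have := hle hx
    rw [Subgroup.mem_centralizer_singleton_iff] at this
    exact this.symm
  · intro a ha ha1
    rw [hC]
    apply le_antisymm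
    · rw [Subgroup.closure_le]
      rintro _ ⟨b, hb, rfl⟩
      exact h.comm_mem a ha b hb
    · intro c hc
      obtain ⟨b, hb, rfl⟩ := h.surjB a ha ha1 c hc
      exact Subgroup.subset_closure ⟨b, hb, rfl⟩
  · intro b hb hb1
    rw [hC]
    apply le_antisymm
    · rw [Subgroup.closure_le]
      rintro _ ⟨a, ha, rfl⟩
      exact h.comm_mem a ha b hb
    · intro c hc
      obtain ⟨a, ha, rfl⟩ := h.surjA b hb hb1 c hc
      exact Subgroup.subset_closure ⟨a, ha, rfl⟩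

lemma Heis.not_rankOne {S : Set (Subgroup G)} {A B C : Subgroup G} (h : Heis S A B C)
    (hB : ∀ b ∈ B, ∀ b' ∈ B, b * b' = b' * b) (hC : C ≠ ⊥) : ¬ Cfsg.IsRankOnePair A B := by
  intro hr
  obtain ⟨a, ha, ha1⟩ := exists_ne_one_left hr
  obtain ⟨b, hb, -, hab⟩ := hr.cond_left a ha ha1
  have h1 : b⁻¹ * a * b ∈ Cfsg.conjBy A b⁻¹ := by
    have := conj_mem_conjBy ha b⁻¹
    rwa [inv_inv] at this
  rw [hab, mem_conjBy_iff, inv_inv] at h1
  -- `y = a * z` with `z ∈ C`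
  have hz : b⁻¹ * a * b * a⁻¹ ∈ C := by
    have := C.inv_mem (h.comm_mem a ha b⁻¹ (B.inv_mem hb))
    have e : (a * b⁻¹ * a⁻¹ * b⁻¹⁻¹)⁻¹ = b⁻¹ * a * b * a⁻¹ := by group
    rwa [e] at this
  have hy : a * (b⁻¹ * a * b * a⁻¹) ∈ B := by
    have e : a * (b⁻¹ * a * b) * a⁻¹ = a * (b⁻¹ * a * b * a⁻¹) := by group
    rwa [e] at h1
  -- `a` commutes with `B`
  have hcomm : ∀ b' ∈ B, a * b' * a⁻¹ * b'⁻¹ = 1 := by
    intro b' hb'
    have hzb : (b⁻¹ * a * b * a⁻¹) * b' = b' * (b⁻¹ * a * b * a⁻¹) := h.commB _ hz b' hb'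
    have hyb := hB _ hy b' hb'
    have e1 : a * b' = b' * a := by
      have e2 : a * (b⁻¹ * a * b * a⁻¹) * b' = a * b' * (b⁻¹ * a * b * a⁻¹) := by
        rw [mul_assoc, hzb, ← mul_assoc]
      rw [e2] at hyb
      have e3 : b' * (a * (b⁻¹ * a * b * a⁻¹)) = b' * a * (b⁻¹ * a * b * a⁻¹) := by
        group
      rw [e3] at hyb
      exact mul_right_cancel hyb
    rw [e1]
    group
  apply hC
  rw [Subgroup.eq_bot_iff_forall]
  intro c hc
  obtain ⟨b', hb', rfl⟩ := h.surjB a ha ha1 c hc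
  exact hcomm b' hb'

/-- A generating, conjugation-closed family of abelian non-identity subgroups any two members of
which commute, form a `(P)SL₂(k)`-pair, or form an explicit commutator configuration, is a set of
abstract `k`-root subgroups. -/
theorem kroot_of_pairs (k : Type*) [Field k] {S : Set (Subgroup G)}
    (hcomm : ∀ A ∈ S, ∀ a ∈ A, ∀ b ∈ A, a * b = b * a)
    (hne : ∀ A ∈ S, A ≠ ⊥)
    (hgen : (⨆ A ∈ S, A) = ⊤)
    (hconj : ∀ A ∈ S, ∀ g : G, Cfsg.conjBy A g ∈ S)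
    (hpair : ∀ A ∈ S, ∀ B ∈ S, (∀ a ∈ A, ∀ b ∈ B, a * b = b * a) ∨
      Cfsg.IsPSL2PairOver k A B ∨ ∃ C, Heis S A B C) :
    Cfsg.IsKRootSubgroupSet k S := by
  refine ⟨⟨fun A hA => ⟨⟨fun a b => Subtype.ext (hcomm A hA a.1 a.2 b.1 b.2)⟩⟩, hne, hgen, hconj,
    ?_⟩, ?_⟩
  · intro A hA B hB
    rcases hpair A hA B hB with h | h | ⟨C, h⟩
    · left
      rw [Subgroup.commutator_eq_bot_iff_le_centralizer]
      intro a ha
      rw [Subgroup.mem_centralizer_iff]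
      intro b hb
      exact (h a ha b hb).symm
    · right; left
      exact isRankOnePair_of_psl2 h
    · right; right
      exact h.rootCommutatorCase (hne A hA)
  · intro A hA B hB hr
    rcases hpair A hA B hB with h | h | ⟨C, h⟩
    · exact absurd h (not_commute hr)
    · exact h
    · exact absurd hr (h.not_rankOne (hcomm B hB) (hne C h.mem))

lemma heis_subgroupOf {S : Set (Subgroup G)} {A B C K : Subgroup G} (hB : B ≤ K) (hA : A ≤ K)
    (h : Heis S A B C) :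
    Heis ((fun A : Subgroup G => A.subgroupOf K) '' S) (A.subgroupOf K) (B.subgroupOf K)
      (C.subgroupOf K) := by
  refine ⟨⟨C, h.mem, rfl⟩, ?_, ?_, ?_, ?_, ?_⟩
  · intro c hc a ha
    exact Subtype.ext (h.commA c.1 hc a.1 ha)
  · intro c hc b hb
    exact Subtype.ext (h.commB c.1 hc b.1 hb)
  · intro a ha b hb
    exact h.comm_mem a.1 ha b.1 hb
  · intro a ha ha1 c hc
    have ha1' : (a : G) ≠ 1 := fun h0 => ha1 (Subtype.ext h0)
    obtain ⟨b, hb, hbc⟩ := h.surjB a.1 ha ha1' c.1 hc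
    exact ⟨⟨b, hB hb⟩, hb, Subtype.ext hbc⟩
  · intro b hb hb1 c hc
    have hb1' : (b : G) ≠ 1 := fun h0 => hb1 (Subtype.ext h0)
    obtain ⟨a, ha, hac⟩ := h.surjA b.1 hb hb1' c.1 hc
    exact ⟨⟨a, hA ha⟩, ha, Subtype.ext hac⟩

/-- The criterion `kroot_of_pairs` for a family viewed inside the subgroup it generates. -/
theorem kroot_of_pairs_sub (k : Type*) [Field k] {S : Set (Subgroup G)}
    (hcomm : ∀ A ∈ S, ∀ a ∈ A, ∀ b ∈ A, a * b = b * a)
    (hne : ∀ A ∈ S, A ≠ ⊥)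
    (hconj : ∀ A ∈ S, ∀ g : G, Cfsg.conjBy A g ∈ S)
    (hpair : ∀ A ∈ S, ∀ B ∈ S, (∀ a ∈ A, ∀ b ∈ B, a * b = b * a) ∨
      Cfsg.IsPSL2PairOver k A B ∨ ∃ C, Heis S A B C) :
    Cfsg.IsKRootSubgroupSet k ((fun A : Subgroup G => A.subgroupOf (⨆ B ∈ S, B)) '' S) := by
  have hle : ∀ A ∈ S, A ≤ ⨆ B ∈ S, B := fun A hA => le_iSup₂ (f := fun B _ => B) A hA
  apply kroot_of_pairs k
  · rintro _ ⟨A, hA, rfl⟩ a ha b hb
    exact Subtype.ext (hcomm A hA a.1 ha b.1 hb)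
  · rintro _ ⟨A, hA, rfl⟩ h
    rw [Subgroup.subgroupOf_eq_bot, disjoint_iff, inf_eq_left.mpr (hle A hA)] at h
    exact hne A hA h
  · apply Subgroup.map_injective (Subgroup.subtype_injective (⨆ B ∈ S, B))
    rw [iSup_image, Subgroup.map_iSup]
    simp only [Subgroup.map_iSup]
    rw [← MonoidHom.range_eq_map, Subgroup.range_subtype]
    apply le_antisymm
    · apply iSup₂_le
      intro A hA
      rw [Subgroup.map_subgroupOf_eq_of_le (hle A hA)]
      exact hle A hA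
    · apply iSup₂_le
      intro A hA
      have : A = Subgroup.map (⨆ B ∈ S, B).subtype (A.subgroupOf (⨆ B ∈ S, B)) :=
        (Subgroup.map_subgroupOf_eq_of_le (hle A hA)).symm
      rw [this]
      exact le_iSup₂ (f := fun A _ => Subgroup.map (⨆ B ∈ S, B).subtype
        (A.subgroupOf (⨆ B ∈ S, B))) A hA
  · rintro _ ⟨A, hA, rfl⟩ g
    exact ⟨_, hconj A hA g, (conjBy_subgroupOf A _ g).symm⟩
  · rintro _ ⟨A, hA, rfl⟩ _ ⟨B, hB, rfl⟩
    rcases hpair A hA B hB with h | h | ⟨C, h⟩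
    · left
      intro a ha b hb
      exact Subtype.ext (h a.1 ha b.1 hb)
    · right; left
      exact psl2_subgroupOf (hle A hA) (hle B hB) h
    · right; right
      exact ⟨_, heis_subgroupOf (hle B hB) (hle A hA) h⟩

/-! ### Two orthogonal planes -/

section TwoPlanes

variable {n : Type*} [Fintype n] [DecidableEq n] {R : Type*} [CommRing R]

lemma planeMat_mul_planeMat {E₁ E₂ : Matrix n (Fin 2) R} {E₁' E₂' : Matrix (Fin 2) n R}
    (h12 : E₁' * E₂ = 0) (M N : Matrix (Fin 2) (Fin 2) R) :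
    planeMat E₁ E₁' M * planeMat E₂ E₂' N
      = 1 + E₁ * (M - 1) * E₁' + E₂ * (N - 1) * E₂' := by
  unfold planeMat
  have h : E₁ * (M - 1) * E₁' * (E₂ * (N - 1) * E₂') = 0 := by
    calc E₁ * (M - 1) * E₁' * (E₂ * (N - 1) * E₂')
        = E₁ * (M - 1) * (E₁' * E₂) * (N - 1) * E₂' := by simp only [Matrix.mul_assoc]
      _ = 0 := by rw [h12]; simp
  rw [Matrix.add_mul, Matrix.mul_add, Matrix.mul_add, Matrix.one_mul, Matrix.mul_one,
    Matrix.one_mul, h, add_zero]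
  abel

lemma planeMat_comm {E₁ E₂ : Matrix n (Fin 2) R} {E₁' E₂' : Matrix (Fin 2) n R}
    (h12 : E₁' * E₂ = 0) (h21 : E₂' * E₁ = 0) (M N : Matrix (Fin 2) (Fin 2) R) :
    planeMat E₁ E₁' M * planeMat E₂ E₂' N = planeMat E₂ E₂' N * planeMat E₁ E₁' M := by
  rw [planeMat_mul_planeMat h12, planeMat_mul_planeMat h21]
  abel

/-- The matrix acting as `M` on two orthogonal planes. -/
def plane2Mat (E₁ : Matrix n (Fin 2) R) (E₁' : Matrix (Fin 2) n R) (E₂ : Matrix n (Fin 2) R)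
    (E₂' : Matrix (Fin 2) n R) (M : Matrix (Fin 2) (Fin 2) R) : Matrix n n R :=
  planeMat E₁ E₁' M * planeMat E₂ E₂' M

lemma plane2Mat_one (E₁ : Matrix n (Fin 2) R) (E₁' : Matrix (Fin 2) n R)
    (E₂ : Matrix n (Fin 2) R) (E₂' : Matrix (Fin 2) n R) :
    plane2Mat E₁ E₁' E₂ E₂' 1 = 1 := by
  unfold plane2Mat
  rw [planeMat_one, planeMat_one, Matrix.one_mul]

lemma plane2Mat_mul {E₁ E₂ : Matrix n (Fin 2) R} {E₁' E₂' : Matrix (Fin 2) n R}
    (h1 : E₁' * E₁ = 1) (h2 : E₂' * E₂ = 1) (h12 : E₁' * E₂ = 0) (h21 : E₂' * E₁ = 0)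
    (M N : Matrix (Fin 2) (Fin 2) R) :
    plane2Mat E₁ E₁' E₂ E₂' (M * N) = plane2Mat E₁ E₁' E₂ E₂' M * plane2Mat E₁ E₁' E₂ E₂' N := by
  unfold plane2Mat
  rw [planeMat_mul h1, planeMat_mul h2]
  calc planeMat E₁ E₁' M * planeMat E₁ E₁' N * (planeMat E₂ E₂' M * planeMat E₂ E₂' N)
      = planeMat E₁ E₁' M * (planeMat E₁ E₁' N * planeMat E₂ E₂' M) * planeMat E₂ E₂' N := by
        simp only [Matrix.mul_assoc]
    _ = planeMat E₁ E₁' M * (planeMat E₂ E₂' M * planeMat E₁ E₁' N) * planeMat E₂ E₂' N := by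
        rw [planeMat_comm h12 h21]
    _ = _ := by simp only [Matrix.mul_assoc]

lemma plane2Mat_injective {E₁ E₂ : Matrix n (Fin 2) R} {E₁' E₂' : Matrix (Fin 2) n R}
    (h1 : E₁' * E₁ = 1) (h12 : E₁' * E₂ = 0)
    {M N : Matrix (Fin 2) (Fin 2) R}
    (hMN : plane2Mat E₁ E₁' E₂ E₂' M = plane2Mat E₁ E₁' E₂ E₂' N) : M = N := by
  unfold plane2Mat at hMN
  rw [planeMat_mul_planeMat h12, planeMat_mul_planeMat h12] at hMN
  have e : ∀ X : Matrix (Fin 2) (Fin 2) R,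
      E₁' * (1 + E₁ * (X - 1) * E₁' + E₂ * (X - 1) * E₂') * E₁ = X := by
    intro X
    rw [Matrix.mul_add, Matrix.mul_add, Matrix.add_mul, Matrix.add_mul, Matrix.mul_one, h1]
    have e1 : E₁' * (E₁ * (X - 1) * E₁') * E₁ = X - 1 := by
      calc E₁' * (E₁ * (X - 1) * E₁') * E₁ = (E₁' * E₁) * (X - 1) * (E₁' * E₁) := by
            simp only [Matrix.mul_assoc]
        _ = X - 1 := by rw [h1, Matrix.one_mul, Matrix.mul_one]
    have e2 : E₁' * (E₂ * (X - 1) * E₂') * E₁ = 0 := by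
      calc E₁' * (E₂ * (X - 1) * E₂') * E₁ = (E₁' * E₂) * (X - 1) * (E₂' * E₁) := by
            simp only [Matrix.mul_assoc]
        _ = 0 := by rw [h12]; simp
    rw [e1, e2]
    abel
  rw [← e M, ← e N, hMN]

lemma plane2Mat_mulVec {e₁ f₁ α₁ β₁ e₂ f₂ α₂ β₂ : n → R}
    (h12 : rowMat α₁ β₁ * colMat e₂ f₂ = 0) (M : Matrix (Fin 2) (Fin 2) R) (v : n → R) :
    plane2Mat (colMat e₁ f₁) (rowMat α₁ β₁) (colMat e₂ f₂) (rowMat α₂ β₂) M *ᵥ v
      = v + ((M 0 0 - 1) * (α₁ ⬝ᵥ v) + M 0 1 * (β₁ ⬝ᵥ v)) • e₁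
        + (M 1 0 * (α₁ ⬝ᵥ v) + (M 1 1 - 1) * (β₁ ⬝ᵥ v)) • f₁
        + ((M 0 0 - 1) * (α₂ ⬝ᵥ v) + M 0 1 * (β₂ ⬝ᵥ v)) • e₂
        + (M 1 0 * (α₂ ⬝ᵥ v) + (M 1 1 - 1) * (β₂ ⬝ᵥ v)) • f₂ := by
  unfold plane2Mat
  rw [planeMat_mul_planeMat h12]
  have e1 := planeMat_mulVec e₁ f₁ α₁ β₁ M v
  have e2 := planeMat_mulVec e₂ f₂ α₂ β₂ M v
  unfold planeMat at e1 e2
  rw [Matrix.add_mulVec, Matrix.one_mulVec] at e1 e2
  rw [Matrix.add_mulVec, Matrix.add_mulVec, Matrix.one_mulVec]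
  rw [add_assoc] at e1 e2
  have e1' := add_left_cancel e1
  have e2' := add_left_cancel e2
  rw [e1', e2']
  abel

end TwoPlanes


end Cfsg.Agent.Lib.Helper13_RootHeis
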