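import Mathlib
import Cfsg.Prelude.Def_Characters
import Cfsg.Prelude.Def_Blocks
import Cfsg.Agent.Lib.Helper3_CharOrtho

/-!
# Characters of small degree and TI Sylow subgroups (helper20)

Let `P` be a TI Sylow `p`-subgroup of `G` and `H` a subgroup containing `N_G(P)`.  If `M` is a
complex `G`-module of dimension less than `|P|` without nonzero `G`-fixed vectors, then `M` has no
nonzero `H`-fixed vectors.  The proof is a lattice argument over a valuation subring of `ℂ` in
which `p` is not a unit: on a module of dimension less than `|P|`, the norm element of `P` maps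
every vector into the maximal ideal times the lattice it generates, because every nonzero left
ideal of the group algebra of a `p`-group in characteristic `p` contains the norm element.

Main results: `exists_fixed_ne_zero`, `exists_conv_eq_one`, `exists_valuationSubring`, `stepA`,
`orbit_sum_mem`, `free_of_TI`, `key`, `fixed_of_fixed`, `invariants_eq`, `classInner_restrict`.
-/

set_option autoImplicit false
set_option linter.unusedSectionVars false

open scoped Pointwise

namespace Cfsg.Agent.Lib.Helper20_TISmall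

open MulAction Representation

section FixedVector

variable {k : Type*} [Field k] {p : ℕ} [Fact p.Prime] [CharP k p]
variable {P : Type*} [Group P] [Finite P]
variable {U : Type*} [AddCommGroup U] [Module k U]

/-- A finite `p`-group acting linearly on a vector space in characteristic `p` fixes a nonzero
vector in every nonzero invariant subspace. -/
theorem exists_fixed_ne_zero (hP : IsPGroup p P) (ρ : Representation k P U)
    (I : Submodule k U) (hI : ∀ t : P, ∀ u ∈ I, ρ t u ∈ I) (hne : I ≠ ⊥) :
    ∃ u ∈ I, u ≠ 0 ∧ ∀ t : P, ρ t u = u := by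
  classical
  obtain ⟨c, hcI, hc0⟩ := (Submodule.ne_bot_iff I).1 hne
  -- the additive subgroup generated by the orbit of c
  set S : AddSubgroup U := AddSubgroup.closure (Set.range fun t : P => ρ t c) with hS
  have hSI : ∀ s ∈ S, s ∈ I := by
    intro s hs
    have : S ≤ I.toAddSubgroup := by
      rw [hS, AddSubgroup.closure_le]
      rintro _ ⟨t, rfl⟩
      exact hI t c hcI
    exact this hs
  have hpS : ∀ s : U, p • s = 0 := by
    intro s
    rw [← Nat.cast_smul_eq_nsmul k p s, CharP.cast_eq_zero, zero_smul]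
  have hstab : ∀ t : P, ∀ s ∈ S, ρ t s ∈ S := by
    intro t s hs
    induction hs using AddSubgroup.closure_induction with
    | mem x hx =>
      obtain ⟨t', rfl⟩ := hx
      apply AddSubgroup.subset_closure
      refine ⟨t * t', ?_⟩
      simp [map_mul]
    | zero => simp [S.zero_mem]
    | add x y _ _ hx hy => rw [map_add]; exact S.add_mem hx hy
    | neg x _ hx => rw [map_neg]; exact S.neg_mem hx
  have hcS : c ∈ S := by
    apply AddSubgroup.subset_closure
    exact ⟨1, by simp⟩
  -- S is finite
  haveI : AddGroup.FG S := by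
    rw [hS]
    exact AddGroup.closure_finite_fg _ |>.out |> fun h => ⟨h⟩
  haveI : Finite S := by
    apply AddCommGroup.finite_of_fg_isAddTorsion
    intro s
    rw [isOfFinAddOrder_iff_nsmul_eq_zero]
    refine ⟨p, (Fact.out : p.Prime).pos, ?_⟩
    ext
    simpa using hpS s.1
  -- the action of P on S
  let act : MulAction P S :=
    { smul := fun t s => ⟨ρ t s.1, hstab t s.1 s.2⟩
      one_smul := fun s => by ext; simp [HSMul.hSMul]
      mul_smul := fun a b s => by ext; simp [HSMul.hSMul, map_mul] }
  have hsmul : ∀ (t : P) (s : S), ((t • s : S) : U) = ρ t s.1 := fun _ _ => rfl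
  have hmod := hP.card_modEq_card_fixedPoints S
  -- |S| is divisible by p
  have hSp : IsPGroup p (Multiplicative S) := by
    intro g
    refine ⟨1, ?_⟩
    rw [pow_one]
    apply Multiplicative.toAdd.injective
    rw [toAdd_pow, toAdd_one]
    ext
    simpa using hpS (Multiplicative.toAdd g).1
  have hcardS : p ∣ Nat.card S := by
    have h1 : Nat.card (Multiplicative S) = Nat.card S := Nat.card_congr Multiplicative.toAdd
    rcases hSp.card_eq_or_dvd with h | h
    · exfalso
      rw [h1] at h
      have hsub : Subsingleton S := (Nat.card_eq_one_iff_unique.1 h).1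
      have : (⟨c, hcS⟩ : S) = 0 := Subsingleton.elim _ _
      exact hc0 (by simpa using congrArg Subtype.val this)
    · rwa [h1] at h
  have hfp : p ∣ Nat.card (fixedPoints P S) := by
    exact (Nat.modEq_zero_iff_dvd.1 (hmod.symm.trans (Nat.modEq_zero_iff_dvd.2 hcardS)))
  -- there are at least two fixed points, hence a nonzero one
  have h2 : 1 < Nat.card (fixedPoints P S) := by
    have hpos : 0 < Nat.card (fixedPoints P S) := by
      haveI : Nonempty (fixedPoints P S) := ⟨⟨0, fun t => by ext; simp [hsmul]⟩⟩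
      exact Nat.card_pos
    exact lt_of_lt_of_le (Fact.out : p.Prime).one_lt (Nat.le_of_dvd hpos hfp)
  obtain ⟨a, b, hab⟩ := (Finite.one_lt_card_iff_nontrivial.1 h2).exists_pair_ne
  have : ∃ s : fixedPoints P S, (s.1 : S) ≠ 0 := by
    by_cases ha : (a.1 : S) = 0
    · refine ⟨b, fun hb => hab ?_⟩
      ext1
      rw [ha, hb]
    · exact ⟨a, ha⟩
  obtain ⟨s, hs⟩ := this
  refine ⟨s.1.1, hSI _ s.1.2, fun h => hs (by ext; simpa using h), fun t => ?_⟩
  have := s.2 t
  rw [← hsmul t s.1, this]

end FixedVector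

section Conv

variable {k : Type*} [Field k] {p : ℕ} [Fact p.Prime] [CharP k p]
variable {P : Type*} [Group P] [Fintype P]

/-- Left translation of functions on a group, as a representation. -/
noncomputable def leftTrans (k : Type*) [Field k] (P : Type*) [Group P] :
    Representation k P (P → k) where
  toFun t := LinearMap.funLeft k k (fun z => t⁻¹ * z)
  map_one' := by
    ext c z
    simp [LinearMap.funLeft]
  map_mul' s t := by
    ext c z
    simp [LinearMap.funLeft, mul_assoc]

theorem leftTrans_apply (t : P) (c : P → k) (z : P) : leftTrans k P t c z = c (t⁻¹ * z) := rfl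

/-- Convolution with a fixed function `a` on the right. -/
noncomputable def convR (a : P → k) : (P → k) →ₗ[k] (P → k) where
  toFun b z := ∑ x, b x * a (x⁻¹ * z)
  map_add' b c := by
    ext z
    simp [add_mul, Finset.sum_add_distrib]
  map_smul' r b := by
    ext z
    simp [Finset.mul_sum, mul_assoc]

theorem convR_apply (a b : P → k) (z : P) : convR a b z = ∑ x, b x * a (x⁻¹ * z) := rfl

/-- In the group algebra of a finite `p`-group over a field of characteristic `p`, the left ideal
generated by a nonzero element contains the sum of all group elements. -/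
theorem exists_conv_eq_one (hP : IsPGroup p P) (a : P → k) (ha : a ≠ 0) :
    ∃ b : P → k, ∀ z, ∑ x, b x * a (x⁻¹ * z) = 1 := by
  classical
  have hinv : ∀ t : P, ∀ u ∈ LinearMap.range (convR a), leftTrans k P t u ∈ LinearMap.range (convR a) := by
    rintro t _ ⟨b, rfl⟩
    refine ⟨leftTrans k P t b, ?_⟩
    ext z
    rw [convR_apply, leftTrans_apply, convR_apply]
    refine Fintype.sum_equiv (Equiv.mulLeft t⁻¹) _ _ (fun x => ?_)
    simp [leftTrans_apply, mul_assoc]
  have hne : LinearMap.range (convR a) ≠ ⊥ := by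
    intro h
    apply ha
    have : convR a (Pi.single 1 1) ∈ LinearMap.range (convR a) := ⟨_, rfl⟩
    rw [h, Submodule.mem_bot] at this
    ext z
    have h2 := congrFun this z
    rw [convR_apply] at h2
    rw [Finset.sum_eq_single 1] at h2
    · simpa using h2
    · intro x _ hx
      simp [Pi.single_eq_of_ne hx]
    · simp
  obtain ⟨u, ⟨b₀, rfl⟩, hu0, hfix⟩ := exists_fixed_ne_zero hP (leftTrans k P) _ hinv hne
  have hconst : ∀ z, convR a b₀ z = convR a b₀ 1 := by
    intro z
    have := congrFun (hfix z) z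
    rw [leftTrans_apply, inv_mul_cancel] at this
    exact this.symm
  have h1 : convR a b₀ 1 ≠ 0 := by
    intro h
    apply hu0
    ext z
    rw [hconst z, h]; rfl
  refine ⟨(convR a b₀ 1)⁻¹ • b₀, fun z => ?_⟩
  have := hconst z
  rw [convR_apply] at this
  simp only [Pi.smul_apply, smul_eq_mul, mul_assoc, ← Finset.mul_sum, this]
  exact inv_mul_cancel₀ h1

end Conv

/-- A valuation subring of `ℂ` in which the prime `p` is not a unit. -/
theorem exists_valuationSubring (p : ℕ) [Fact p.Prime] :
    ∃ O : ValuationSubring ℂ, (p : ℂ) ∈ O.nonunits := by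
  classical
  set A : Subring ℂ := (Int.castRingHom ℂ).range with hA
  have hpA : (p : ℂ) ∈ A := ⟨(p : ℤ), by simp⟩
  set I : Ideal A := Ideal.span {(⟨(p : ℂ), hpA⟩ : A)} with hI
  have hne : I ≠ ⊤ := by
    intro h
    rw [Ideal.eq_top_iff_one, hI, Ideal.mem_span_singleton'] at h
    obtain ⟨⟨a, n, rfl⟩, ha⟩ := h
    have h1 : ((n : ℤ) : ℂ) * (p : ℂ) = 1 := by
      have := congrArg Subtype.val ha
      simpa using this
    have h2 : n * (p : ℤ) = 1 := by exact_mod_cast h1
    have h3 : IsUnit (p : ℤ) := IsUnit.of_mul_eq_one n (by rw [mul_comm]; exact h2)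
    have h4 : IsUnit p := Int.ofNat_isUnit.1 h3
    exact (Fact.out : p.Prime).not_isUnit h4  
  obtain ⟨B, _, hB⟩ := Ideal.image_subset_nonunits_valuationSubring I hne
  refine ⟨B, hB ⟨⟨(p : ℂ), hpA⟩, ?_, rfl⟩⟩
  exact Ideal.subset_span rfl


section StepA

variable (p : ℕ) [Fact p.Prime] (O : ValuationSubring ℂ)

theorem charP_residueField (hp : (p : ℂ) ∈ O.nonunits) :
    CharP (IsLocalRing.ResidueField O) p := by
  rw [CharP.charP_iff_prime_eq_zero (Fact.out : p.Prime)]
  have h1 : ((p : O) : ℂ) ∈ O.nonunits := by simpa using hp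
  rw [ValuationSubring.coe_mem_nonunits_iff] at h1
  have := (IsLocalRing.residue_eq_zero_iff (p : O)).2 h1
  simpa using this

variable {P : Type*} [Group P] [Fintype P]
variable {W : Type*} [AddCommGroup W] [Module ℂ W]

theorem stepA (hp : (p : ℂ) ∈ O.nonunits) (hP : IsPGroup p P) (τ : Representation ℂ P W)
    (W₀ : Submodule ℂ W) [FiniteDimensional ℂ W₀]
    (hdim : Module.finrank ℂ W₀ < Nat.card P) (w : W) (hw : ∀ x, τ x w ∈ W₀) :
    ∃ m : P → ℂ, (∀ z, O.valuation (m z) < 1) ∧ ∑ z, τ z w = ∑ z, m z • τ z w := by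
  classical
  haveI := charP_residueField p O hp
  set ν := O.valuation with hν
  -- a nontrivial linear relation
  let Φ : (P → ℂ) →ₗ[ℂ] W₀ :=
    ∑ x : P, (LinearMap.proj x : (P → ℂ) →ₗ[ℂ] ℂ).smulRight (⟨τ x w, hw x⟩ : W₀)
  have hΦ : ∀ a : P → ℂ, ((Φ a : W₀) : W) = ∑ x, a x • τ x w := by
    intro a
    simp [Φ, LinearMap.sum_apply]
  have hker : LinearMap.ker Φ ≠ ⊥ := by
    apply LinearMap.ker_ne_bot_of_finrank_lt
    rw [Module.finrank_fintype_fun_eq_card, ← Nat.card_eq_fintype_card]
    exact hdim
  obtain ⟨a, haker, ha0⟩ := (Submodule.ne_bot_iff _).1 hker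
  have hrel : ∑ x, a x • τ x w = 0 := by
    rw [← hΦ a, LinearMap.mem_ker.1 haker]; rfl
  -- normalise
  obtain ⟨x₀, -, hx₀⟩ := Finset.exists_max_image Finset.univ (fun x => ν (a x)) ⟨1, Finset.mem_univ _⟩
  have hax₀ : a x₀ ≠ 0 := by
    intro h
    apply ha0
    ext x
    have := hx₀ x (Finset.mem_univ _)
    rw [h, map_zero] at this
    exact (ν.zero_iff).1 (le_antisymm this zero_le')
  set a' : P → ℂ := fun x => a x / a x₀ with ha'
  have ha'O : ∀ x, a' x ∈ O := by
    intro x
    rw [← ValuationSubring.valuation_le_one_iff, ha']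
    simp only
    rw [map_div₀]
    have h0 : ν (a x₀) ≠ 0 := (ν.ne_zero_iff).2 hax₀
    rw [div_le_one₀ (zero_lt_iff.2 h0)]
    exact hx₀ x (Finset.mem_univ _)
  have hrel' : ∑ x, a' x • τ x w = 0 := by
    have : ∑ x, a' x • τ x w = (a x₀)⁻¹ • ∑ x, a x • τ x w := by
      rw [Finset.smul_sum]
      refine Finset.sum_congr rfl (fun x _ => ?_)
      rw [smul_smul, ha']
      congr 1
      field_simp
    rw [this, hrel, smul_zero]
  set aO : P → O := fun x => ⟨a' x, ha'O x⟩ with haO
  set abar : P → IsLocalRing.ResidueField O := fun x => IsLocalRing.residue O (aO x) with habar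
  have habar0 : abar ≠ 0 := by
    intro h
    have h1 := congrFun h x₀
    have h2 : aO x₀ = 1 := by
      ext
      simp [haO, ha', div_self hax₀]
    rw [habar] at h1
    simp only [h2, map_one, Pi.zero_apply] at h1
    exact one_ne_zero h1
  obtain ⟨bbar, hbbar⟩ := exists_conv_eq_one (p := p) hP abar habar0
  have hsurj : ∀ x, ∃ b : O, IsLocalRing.residue O b = bbar x := fun x =>
    IsLocalRing.residue_surjective (bbar x)
  choose b hb using hsurj
  set m : P → ℂ := fun z => 1 - ∑ x, (b x : ℂ) * a' (x⁻¹ * z) with hm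
  refine ⟨m, fun z => ?_, ?_⟩
  · have h1 : m z = ((1 - ∑ x, b x * aO (x⁻¹ * z) : O) : ℂ) := by
      simp [hm, haO]
    rw [h1, ← ValuationSubring.valuation_lt_one_iff, ← IsLocalRing.residue_eq_zero_iff]
    rw [map_sub, map_one, map_sum]
    simp only [map_mul, hb]
    rw [sub_eq_zero]
    exact (hbbar z).symm
  · have h2 : ∑ z, m z • τ z w = ∑ z, τ z w - ∑ z, (∑ x, (b x : ℂ) * a' (x⁻¹ * z)) • τ z w := by
      rw [← Finset.sum_sub_distrib]
      refine Finset.sum_congr rfl (fun z _ => ?_)
      rw [hm]
      simp only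
      rw [sub_smul, one_smul]
    have h3 : ∑ z, (∑ x, (b x : ℂ) * a' (x⁻¹ * z)) • τ z w = 0 := by
      simp_rw [Finset.sum_smul]
      rw [Finset.sum_comm]
      apply Finset.sum_eq_zero
      intro x _
      have : ∑ z, ((b x : ℂ) * a' (x⁻¹ * z)) • τ z w = (b x : ℂ) • τ x (∑ y, a' y • τ y w) := by
        rw [map_sum, Finset.smul_sum]
        refine Fintype.sum_equiv (Equiv.mulLeft x⁻¹) _ _ (fun z => ?_)
        simp only [Equiv.coe_mulLeft, map_smul]
        rw [mul_smul]
        congr 2
        rw [← Module.End.mul_apply, ← map_mul, mul_inv_cancel_left]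
      rw [this, hrel', map_zero, smul_zero]
    rw [h2, h3, sub_zero]

end StepA

section OrbitSum

variable {P : Type*} [Group P] [Fintype P] {X : Type*} [MulAction P X] [DecidableEq X]
variable {M : Type*} [AddCommGroup M]

/-- Summation over a stable set on which a finite group acts freely, orbit by orbit. -/
theorem orbit_sum_mem (S : AddSubgroup M) (ψ : X → M) :
    ∀ (Y : Finset X), (∀ x : P, ∀ c ∈ Y, x • c ∈ Y) → (∀ c ∈ Y, ∀ x : P, x • c = c → x = 1) →
      (∀ c ∈ Y, ∑ x : P, ψ (x • c) ∈ S) → ∑ c ∈ Y, ψ c ∈ S := by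
  classical
  intro Y
  induction Y using Finset.strongInduction with
  | H Y ih =>
    intro hstab hfree horb
    rcases Y.eq_empty_or_nonempty with rfl | ⟨c₀, hc₀⟩
    · simp [S.zero_mem]
    set O : Finset X := Finset.image (fun x : P => x • c₀) Finset.univ with hO
    have hOY : O ⊆ Y := by
      intro c hc
      obtain ⟨x, -, rfl⟩ := Finset.mem_image.1 hc
      exact hstab x c₀ hc₀
    have hinj : Function.Injective (fun x : P => x • c₀) := by
      intro x y hxy
      have h1 : (y⁻¹ * x) • c₀ = c₀ := by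
        rw [mul_smul]
        change x • c₀ = y • c₀ at hxy
        rw [hxy, inv_smul_smul]
      have := hfree c₀ hc₀ _ h1
      rw [inv_mul_eq_one] at this
      exact this.symm
    have hsumO : ∑ c ∈ O, ψ c = ∑ x : P, ψ (x • c₀) := by
      rw [hO, Finset.sum_image (fun x _ y _ h => hinj h)]
    have hlt : Y \ O ⊂ Y := by
      refine Finset.sdiff_ssubset hOY ⟨c₀, ?_⟩
      rw [hO, Finset.mem_image]
      exact ⟨1, Finset.mem_univ _, one_smul _ _⟩
    have h1 := ih (Y \ O) hlt ?_ ?_ ?_
    · rw [← Finset.sum_sdiff hOY, hsumO]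
      exact S.add_mem h1 (horb c₀ hc₀)
    · intro x c hc
      rw [Finset.mem_sdiff] at hc ⊢
      refine ⟨hstab x c hc.1, fun h => hc.2 ?_⟩
      obtain ⟨y, -, hy⟩ := Finset.mem_image.1 h
      rw [hO, Finset.mem_image]
      refine ⟨x⁻¹ * y, Finset.mem_univ _, ?_⟩
      change y • c₀ = x • c at hy
      change (x⁻¹ * y) • c₀ = c
      rw [mul_smul, hy, inv_smul_smul]
    · intro c hc
      exact hfree c (Finset.mem_sdiff.1 hc).1
    · intro c hc
      exact horb c (Finset.mem_sdiff.1 hc).1

end OrbitSum

section Free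

variable {G : Type*} [Group G] [Finite G] (p : ℕ) [Fact p.Prime] (P : Sylow p G)

/-- If `P` is a TI Sylow subgroup and `H` contains its normaliser, then `P` acts freely on the
cosets of `H` other than `H` itself. -/
theorem free_of_TI
    (hTI : ∀ g : G, g ∉ Subgroup.normalizer ((P : Subgroup G) : Set G) →
      (P : Subgroup G) ⊓ (MulAut.conj g • (P : Subgroup G)) = ⊥)
    (H : Subgroup G) (hH : Subgroup.normalizer ((P : Subgroup G) : Set G) ≤ H)
    {x g : G} (hx : x ∈ (P : Subgroup G)) (hg : g ∉ H) (h : g⁻¹ * x * g ∈ H) : x = 1 := by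
  classical
  have hPH : (P : Subgroup G) ≤ H := le_trans Subgroup.le_normalizer hH
  set y : H := ⟨g⁻¹ * x * g, h⟩ with hy
  have hyp : IsPGroup p (Subgroup.zpowers y) := by
    obtain ⟨k, hk⟩ := (IsPGroup.iff_orderOf.1 P.isPGroup') ⟨x, hx⟩
    apply IsPGroup.of_card (n := k)
    rw [Nat.card_zpowers, ← hk, ← Subgroup.orderOf_coe, ← Subgroup.orderOf_coe]
    have : ((y : H) : G) = MulAut.conj g⁻¹ x := by simp [hy]
    rw [this]
    exact (MulAut.conj g⁻¹).orderOf_eq x
  obtain ⟨Q, hQ⟩ := hyp.exists_le_sylow
  obtain ⟨h₀, rfl⟩ := MulAction.exists_smul_eq H (P.subtype hPH) Q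
  have hy' : y ∈ ((h₀ • P.subtype hPH : Sylow p H) : Subgroup H) := hQ (Subgroup.mem_zpowers y)
  rw [Sylow.smul_subtype, Sylow.coe_subtype, Subgroup.mem_subgroupOf] at hy'
  change (y : G) ∈ MulAut.conj (h₀ : G) • (P : Subgroup G) at hy'
  rw [Subgroup.mem_pointwise_smul_iff_inv_smul_mem] at hy'
  -- x lies in P and in (g h₀) P (g h₀)⁻¹
  by_contra hx1
  have hgn : g * (h₀ : G) ∉ Subgroup.normalizer ((P : Subgroup G) : Set G) := by
    intro hn
    have := hH hn
    exact hg ((H.mul_mem_cancel_right h₀.2).1 this)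
  have h2 := hTI _ hgn
  have h3 : x ∈ (P : Subgroup G) ⊓ (MulAut.conj (g * (h₀ : G)) • (P : Subgroup G)) := by
    refine Subgroup.mem_inf.2 ⟨hx, ?_⟩
    rw [Subgroup.mem_pointwise_smul_iff_inv_smul_mem]
    convert hy' using 1
    simp [hy, MulAut.smul_def, MulAut.conj_apply, mul_assoc]
  rw [h2, Subgroup.mem_bot] at h3
  exact hx1 h3

end Free

section Key

variable {G : Type*} [Group G] [Fintype G] (p : ℕ) [Fact p.Prime] (P : Sylow p G)
variable {W : Type*} [AddCommGroup W] [Module ℂ W]

/-- Sum over a group of an `H`-invariant function equals `|H|` times the sum over cosets. -/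
theorem sum_eq_card_smul_sum_quot (H : Subgroup G) [Fintype (G ⧸ H)] (F : G ⧸ H → W) :
    ∑ g : G, F (g : G ⧸ H) = Nat.card H • ∑ c : G ⧸ H, F c := by
  classical
  rw [Finset.smul_sum]
  rw [← Finset.sum_fiberwise Finset.univ (fun g : G => (g : G ⧸ H)) (fun g => F (g : G ⧸ H))]
  refine Finset.sum_congr rfl (fun c _ => ?_)
  rw [Finset.sum_congr rfl (g := fun _ => F c)
    (fun g hg => by rw [(Finset.mem_filter.1 hg).2])]
  rw [Finset.sum_const]
  congr 1
  -- the fibre has |H| elements
  induction c using QuotientGroup.induction_on with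
  | H g₁ =>
    rw [Nat.card_eq_fintype_card]
    rw [← Finset.card_univ]
    refine (Finset.card_bij (fun (h : H) _ => g₁ * (h : G)) ?_ ?_ ?_).symm
    · intro h _
      simp [QuotientGroup.eq]
    · intro a _ b _ hab
      exact Subtype.ext (mul_left_cancel hab)
    · intro g hg
      have := (Finset.mem_filter.1 hg).2
      rw [QuotientGroup.eq] at this
      refine ⟨⟨g₁⁻¹ * g, ?_⟩, Finset.mem_univ _, by simp⟩
      have h2 := H.inv_mem this
      simpa using h2


theorem key
    (hTI : ∀ g : G, g ∉ Subgroup.normalizer ((P : Subgroup G) : Set G) →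
      (P : Subgroup G) ⊓ (MulAut.conj g • (P : Subgroup G)) = ⊥)
    (H : Subgroup G) (hH : Subgroup.normalizer ((P : Subgroup G) : Set G) ≤ H)
    (τ : Representation ℂ G W) (W₀ : Submodule ℂ W) [FiniteDimensional ℂ W₀]
    (hW₀ : ∀ g : G, ∀ w ∈ W₀, τ g w ∈ W₀)
    (hdim : Module.finrank ℂ W₀ < Nat.card (P : Subgroup G))
    (v : W) (hv : v ∈ W₀) (hfix : ∀ h ∈ H, τ h v = v) (hsum : ∑ g : G, τ g v = 0) : v = 0 := by
  classical
  by_contra hv0
  obtain ⟨O, hpO⟩ := exists_valuationSubring p
  set ν := O.valuation with hν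
  obtain ⟨f, hf⟩ : ∃ f : Module.Dual ℂ W, f v ≠ 0 := by
    by_contra hcon
    push_neg at hcon
    exact hv0 ((Module.forall_dual_apply_eq_zero_iff ℂ v).1 hcon)
  set φ : G → ℂ := fun g => f (τ g v) with hφ
  obtain ⟨g₀, -, hg₀⟩ := Finset.exists_max_image Finset.univ (fun g => ν (φ g))
    ⟨1, Finset.mem_univ _⟩
  have hγ : ν (φ g₀) ≠ 0 := by
    intro h
    have h1 := hg₀ 1 (Finset.mem_univ _)
    rw [h] at h1
    have h2 : ν (φ 1) = 0 := le_antisymm h1 zero_le'
    rw [ν.zero_iff] at h2
    apply hf
    simpa [hφ] using h2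
  haveI : Fintype (G ⧸ H) := Fintype.ofFinite _
  have hPH : (P : Subgroup G) ≤ H := le_trans Subgroup.le_normalizer hH
  -- the function on cosets
  set F : G ⧸ H → W := fun c => τ c.out v with hF
  have hFmk : ∀ g : G, F (g : G ⧸ H) = τ g v := by
    intro g
    obtain ⟨h, hh⟩ := QuotientGroup.mk_out_eq_mul H g
    rw [hF]
    simp only
    rw [hh, map_mul, Module.End.mul_apply, hfix h h.2]
  have hFsmul : ∀ (y : G) (c : G ⧸ H), τ y (F c) = F (y • c) := by
    intro y c
    induction c using QuotientGroup.induction_on with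
    | H g =>
      rw [MulAction.Quotient.smul_mk, hFmk, hFmk, smul_eq_mul, map_mul, Module.End.mul_apply]
  have hsm : ∀ (x : (P : Subgroup G)) (g : G),
      x • (g : G ⧸ H) = (((x : G) * g : G) : G ⧸ H) := fun x g => rfl
  have hsumX : ∑ c : G ⧸ H, F c = 0 := by
    have h1 := sum_eq_card_smul_sum_quot H F
    simp only [hFmk] at h1
    rw [hsum] at h1
    have h2 : (Nat.card H : ℂ) • ∑ c : G ⧸ H, F c = 0 := by
      rw [Nat.cast_smul_eq_nsmul]; exact h1.symm
    rcases smul_eq_zero.1 h2 with h3 | h3
    · exfalso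
      have : Nat.card H ≠ 0 := Nat.card_pos.ne'
      exact this (by exact_mod_cast h3)
    · exact h3
  set ψ : G ⧸ H → ℂ := fun c => f (τ g₀ (F c)) with hψ
  set Y : Finset (G ⧸ H) := Finset.univ.erase ((1 : G) : G ⧸ H) with hY
  set S : AddSubgroup ℂ := Valuation.ltAddSubgroup ν (Units.mk0 _ hγ) with hS
  have hmk_ne : ∀ g : G, ((g : G ⧸ H) ≠ ((1 : G) : G ⧸ H)) ↔ g ∉ H := by
    intro g
    rw [Ne, QuotientGroup.eq, mul_one, inv_mem_iff]
  have key1 : ∑ c ∈ Y, ψ c ∈ S := by
    refine orbit_sum_mem (P := (P : Subgroup G)) S ψ Y ?_ ?_ ?_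
    · intro x c hc
      rw [hY, Finset.mem_erase] at hc ⊢
      refine ⟨?_, Finset.mem_univ _⟩
      induction c using QuotientGroup.induction_on with
      | H g =>
        rw [hsm]
        rw [hmk_ne] at hc ⊢
        intro h
        apply hc.1
        have := H.mul_mem (H.inv_mem (hPH x.2)) h
        simpa using this
    · intro c hc x hxc
      rw [hY, Finset.mem_erase] at hc
      induction c using QuotientGroup.induction_on with
      | H g =>
        rw [hsm, eq_comm, QuotientGroup.eq] at hxc
        have hg : g ∉ H := (hmk_ne g).1 hc.1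
        have := free_of_TI p P hTI H hH x.2 hg (by simpa [mul_assoc] using hxc)
        exact Subtype.ext this
    · intro c hc
      rw [hY, Finset.mem_erase] at hc
      induction c using QuotientGroup.induction_on with
      | H g =>
        have hg : g ∉ H := (hmk_ne g).1 hc.1
        set τP : Representation ℂ (P : Subgroup G) W := τ.comp (P : Subgroup G).subtype with hτP
        obtain ⟨m, hm, hmsum⟩ := stepA p O hpO P.isPGroup' τP W₀ hdim (τ g v)
          (fun x => by
            have : τP x (τ g v) = τ ((x : G) * g) v := by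
              simp [hτP, map_mul]
            rw [this]
            exact hW₀ _ v hv)
        have h1 : ∑ x : (P : Subgroup G), ψ (x • (g : G ⧸ H)) =
            ∑ z : (P : Subgroup G), m z * φ (g₀ * (z : G) * g) := by
          have h2 : ∑ x : (P : Subgroup G), ψ (x • (g : G ⧸ H)) =
              f (τ g₀ (∑ x : (P : Subgroup G), τP x (τ g v))) := by
            rw [map_sum, map_sum]
            refine Finset.sum_congr rfl (fun x _ => ?_)
            rw [hψ]
            simp only
            rw [hsm, hFmk, map_mul, Module.End.mul_apply]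
            rfl
          rw [h2, hmsum, map_sum, map_sum]
          refine Finset.sum_congr rfl (fun z _ => ?_)
          rw [map_smul, map_smul, smul_eq_mul, hφ]
          simp only
          congr 2
          simp [hτP, map_mul, mul_assoc]
        rw [h1, hS, Valuation.mem_ltAddSubgroup_iff]
        apply Valuation.map_sum_lt ν hγ
        intro z _
        rw [map_mul]
        have hle := hg₀ (g₀ * (z : G) * g) (Finset.mem_univ _)
        have hlt := hm z
        by_cases h0 : ν (φ (g₀ * (z : G) * g)) = 0
        · rw [h0, mul_zero]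
          exact zero_lt_iff.2 hγ
        · calc ν (m z) * ν (φ (g₀ * (z : G) * g)) < 1 * ν (φ (g₀ * (z : G) * g)) := by
                exact mul_lt_mul_of_pos_right hlt (zero_lt_iff.2 h0)
            _ = ν (φ (g₀ * (z : G) * g)) := one_mul _
            _ ≤ ν (φ g₀) := hle
  -- the total sum vanishes
  have htot : ψ ((1 : G) : G ⧸ H) + ∑ c ∈ Y, ψ c = 0 := by
    rw [hY, Finset.add_sum_erase _ _ (Finset.mem_univ _)]
    have : ∑ c : G ⧸ H, ψ c = f (τ g₀ (∑ c : G ⧸ H, F c)) := by
      rw [map_sum, map_sum]
    rw [this, hsumX, map_zero, map_zero]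
  have hψ1 : ψ ((1 : G) : G ⧸ H) = φ g₀ := by
    rw [hψ, hφ]
    simp only
    rw [hFmk, map_one, Module.End.one_apply]
  rw [hψ1] at htot
  have : φ g₀ = - ∑ c ∈ Y, ψ c := eq_neg_of_add_eq_zero_left htot
  rw [hS, Valuation.mem_ltAddSubgroup_iff, Units.val_mk0] at key1
  rw [this, Valuation.map_neg] at key1
  exact lt_irrefl _ key1

/-- If the kernel of the averaging operator has dimension less than `|P|`, every `H`-fixed
vector is `G`-fixed. -/
theorem fixed_of_fixed [FiniteDimensional ℂ W]
    (hTI : ∀ g : G, g ∉ Subgroup.normalizer ((P : Subgroup G) : Set G) →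
      (P : Subgroup G) ⊓ (MulAut.conj g • (P : Subgroup G)) = ⊥)
    (H : Subgroup G) (hH : Subgroup.normalizer ((P : Subgroup G) : Set G) ≤ H)
    (τ : Representation ℂ G W)
    (hdim : Module.finrank ℂ (LinearMap.ker (∑ g : G, τ g)) < Nat.card (P : Subgroup G))
    (X : W) (hX : ∀ h ∈ H, τ h X = X) (g : G) : τ g X = X := by
  classical
  set A : W := ∑ g : G, τ g X with hA
  have hAfix : ∀ y : G, τ y A = A := by
    intro y
    rw [hA, map_sum]
    refine Fintype.sum_equiv (Equiv.mulLeft y) _ _ (fun z => ?_)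
    simp [map_mul]
  have hcard : (Nat.card G : ℂ) ≠ 0 := by exact_mod_cast (Nat.card_pos (α := G)).ne'
  have hsumA : ∑ y : G, τ y A = (Nat.card G : ℂ) • A := by
    simp only [hAfix]
    rw [Finset.sum_const, Finset.card_univ, Nat.card_eq_fintype_card, Nat.cast_smul_eq_nsmul]
  set v : W := X - (Nat.card G : ℂ)⁻¹ • A with hv
  have hker : ∀ w : W, w ∈ LinearMap.ker (∑ g : G, τ g) ↔ ∑ g : G, τ g w = 0 := by
    intro w
    rw [LinearMap.mem_ker, LinearMap.sum_apply]
  have hv0 : v = 0 := by
    refine key p P hTI H hH τ (LinearMap.ker (∑ g : G, τ g)) ?_ hdim v ?_ ?_ ?_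
    · intro y w hw
      rw [hker] at hw ⊢
      rw [← hw]
      refine Fintype.sum_equiv (Equiv.mulRight y) _ _ (fun z => ?_)
      simp [map_mul]
    · rw [hker, hv]
      simp only [map_sub, map_smul, Finset.sum_sub_distrib, ← Finset.smul_sum]
      rw [hsumA, smul_smul, inv_mul_cancel₀ hcard, one_smul, sub_self]
    · intro h hh
      rw [hv, map_sub, map_smul, hX h hh, hAfix]
    · rw [hv]
      simp only [map_sub, map_smul, Finset.sum_sub_distrib, ← Finset.smul_sum]
      rw [hsumA, smul_smul, inv_mul_cancel₀ hcard, one_smul, sub_self]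
  have hXA : X = (Nat.card G : ℂ)⁻¹ • A := sub_eq_zero.1 hv0
  rw [hXA, map_smul, hAfix]

end Key

section Final

open Cfsg.Agent.Lib.Helper3_CharOrtho

variable {G : Type*} [Group G] [Fintype G] (p : ℕ) [Fact p.Prime] (P : Sylow p G)
variable {V : Type*} [AddCommGroup V] [Module ℂ V] [FiniteDimensional ℂ V]

/-- Restriction of a representation to a subgroup. -/
noncomputable abbrev resRep (ρ : Representation ℂ G V) (H : Subgroup G) : Representation ℂ H V :=
  ρ.comp H.subtype

/-- Commutant version. -/
theorem invariants_eq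
    (hTI : ∀ g : G, g ∉ Subgroup.normalizer ((P : Subgroup G) : Set G) →
      (P : Subgroup G) ⊓ (MulAut.conj g • (P : Subgroup G)) = ⊥)
    (H : Subgroup G) (hH : Subgroup.normalizer ((P : Subgroup G) : Set G) ≤ H)
    (ρ : Representation ℂ G V)
    (hdeg : Module.finrank ℂ V ^ 2 ≤ Nat.card (P : Subgroup G)) :
    (linHom ρ ρ).invariants = (linHom (resRep ρ H) (resRep ρ H)).invariants := by
  classical
  set τ := linHom ρ ρ with hτ
  have hcard : (Nat.card G : ℂ) ≠ 0 := by exact_mod_cast (Nat.card_pos (α := G)).ne'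
  have hdim : Module.finrank ℂ (LinearMap.ker (∑ g : G, τ g)) < Nat.card (P : Subgroup G) := by
    by_cases hV : Module.finrank ℂ V = 0
    · have h1 : Module.finrank ℂ (V →ₗ[ℂ] V) = 0 := by
        rw [Module.finrank_linearMap, hV, zero_mul]
      have h2 := Submodule.finrank_le (LinearMap.ker (∑ g : G, τ g))
      rw [h1] at h2
      exact lt_of_le_of_lt h2 Nat.card_pos
    · have hne : LinearMap.ker (∑ g : G, τ g) ≠ ⊤ := by
        intro h
        have h1 : (LinearMap.id : V →ₗ[ℂ] V) ∈ LinearMap.ker (∑ g : G, τ g) := by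
          rw [h]; trivial
        rw [LinearMap.mem_ker, LinearMap.sum_apply] at h1
        have h2 : ∀ g : G, τ g (LinearMap.id : V →ₗ[ℂ] V) = LinearMap.id := by
          intro g
          rw [hτ, linHom_apply, LinearMap.id_comp, ← Module.End.mul_eq_comp, ← map_mul,
            mul_inv_cancel, map_one]
          rfl
        simp only [h2, Finset.sum_const, Finset.card_univ] at h1
        rw [← Nat.card_eq_fintype_card, ← Nat.cast_smul_eq_nsmul ℂ] at h1
        rcases smul_eq_zero.1 h1 with h3 | h3
        · exact hcard h3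
        · apply hV
          have : Subsingleton V := by
            constructor
            intro a b
            have ha := LinearMap.congr_fun h3 a
            have hb := LinearMap.congr_fun h3 b
            simp only [LinearMap.id_apply, LinearMap.zero_apply] at ha hb
            rw [ha, hb]
          exact Module.finrank_zero_of_subsingleton
      have h1 := Submodule.finrank_lt hne
      rw [Module.finrank_linearMap, ← pow_two] at h1
      exact lt_of_lt_of_le h1 hdeg
  ext X
  rw [mem_invariants, mem_invariants]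
  constructor
  · intro h y
    exact h (y : G)
  · intro h g
    refine fixed_of_fixed p P hTI H hH τ hdim X ?_ g
    intro y hy
    exact h ⟨y, hy⟩

theorem classInner_restrict
    (hTI : ∀ g : G, g ∉ Subgroup.normalizer ((P : Subgroup G) : Set G) →
      (P : Subgroup G) ⊓ (MulAut.conj g • (P : Subgroup G)) = ⊥)
    (H : Subgroup G) [Fintype H] (hH : Subgroup.normalizer ((P : Subgroup G) : Set G) ≤ H)
    (ρ : Representation ℂ G V)
    (hdeg : Module.finrank ℂ V ^ 2 ≤ Nat.card (P : Subgroup G)) :
    Cfsg.classInner ρ.character ρ.character =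
      Cfsg.classInner (fun h : H => ρ.character h) (fun h : H => ρ.character h) := by
  have h1 := classInner_char_eq_finrank ρ ρ
  have h2 := classInner_char_eq_finrank (resRep ρ H) (resRep ρ H)
  have h3 : (resRep ρ H).character = fun h : H => ρ.character h := rfl
  rw [h3] at h2
  rw [h1, h2, ← (invariantsEquivIntertwiningMap ρ ρ).finrank_eq,
    ← (invariantsEquivIntertwiningMap (resRep ρ H) (resRep ρ H)).finrank_eq,
    invariants_eq p P hTI H hH ρ hdeg]

end Final

end Cfsg.Agent.Lib.Helper20_TISmall
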