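import Mathlib

/-!
# Group theory for Hall--Higman Theorem B (helper71)

A minimal `x`-invariant `q`-subgroup `P` not centralised by the `p`-element `y` (commuting with
`x`) is generated by the commutators `[y, a]`, and `C_P(y) ≤ Z(P)`.
-/

set_option autoImplicit false
set_option linter.unusedSectionVars false

namespace Cfsg.Agent.Lib.Helper71_HHBGroup

section abstract

variable {P : Type*} [Group P] [Finite P] (p q : ℕ) [Fact p.Prime] [Fact q.Prime]

omit [Finite P] in
/-- a coprime element is trivial -/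
theorem eq_one_of_pow_of_isPGroup (hpq : p ≠ q) (hP : IsPGroup q P) {d : P} (j : ℕ)
    (hd : d ^ p ^ j = 1) : d = 1 := by
  have hp : p.Prime := Fact.out
  have hq : q.Prime := Fact.out
  obtain ⟨k, hk⟩ := hP d
  have h1 : orderOf d ∣ p ^ j := orderOf_dvd_of_pow_eq_one hd
  have h2 : orderOf d ∣ q ^ k := orderOf_dvd_of_pow_eq_one hk
  have hcop : Nat.Coprime (p ^ j) (q ^ k) :=
    Nat.Coprime.pow _ _ ((Nat.coprime_primes hp hq).2 hpq)
  exact orderOf_eq_one_iff.1 (Nat.eq_one_of_dvd_coprimes hcop h1 h2)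

variable (hpq : p ≠ q) (hP : IsPGroup q P) (α β : MulAut P) (hαβ : Commute α β) (j : ℕ)
  (hβ : β ^ p ^ j = 1) (hβ1 : β ≠ 1)
  (hmin : ∀ S : Subgroup P, (∀ s ∈ S, α s ∈ S) → S ≠ ⊤ → ∀ s ∈ S, β s = s)

include hpq hP hαβ hβ hβ1 hmin in
theorem closure_comm_eq_top : Subgroup.closure {d : P | ∃ a : P, d = β a * a⁻¹} = ⊤ := by
  by_contra hne
  obtain ⟨D, hD⟩ : ∃ D : Subgroup P, D = Subgroup.closure {d : P | ∃ a : P, d = β a * a⁻¹} :=
    ⟨_, rfl⟩
  rw [← hD] at hne
  have hαβ' : ∀ a, α (β a) = β (α a) := by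
    intro a
    have := congrArg (fun f : MulAut P => f a) hαβ.eq
    simpa using this
  have hinv : ∀ s ∈ D, α s ∈ D := by
    intro s hs
    rw [hD] at hs ⊢
    induction hs using Subgroup.closure_induction with
    | mem s hs =>
      obtain ⟨a, rfl⟩ := hs
      apply Subgroup.subset_closure
      exact ⟨α a, by rw [map_mul, map_inv, hαβ']⟩
    | one => rw [map_one]; exact Subgroup.one_mem _
    | mul a b _ _ ha hb => rw [map_mul]; exact Subgroup.mul_mem _ ha hb
    | inv a _ ha => rw [map_inv]; exact Subgroup.inv_mem _ ha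
  have hfix := hmin D hinv hne
  apply hβ1
  ext a
  obtain ⟨d, hd⟩ : ∃ d, d = β a * a⁻¹ := ⟨_, rfl⟩
  have hdD : d ∈ D := by
    rw [hD]
    exact Subgroup.subset_closure ⟨a, hd⟩
  have hβa : β a = d * a := by rw [hd]; group
  have key : ∀ k : ℕ, (β ^ k) a = d ^ k * a := by
    intro k
    induction k with
    | zero => simp
    | succ k ih =>
      rw [pow_succ', MulAut.mul_apply, ih, map_mul, map_pow, hfix d hdD, hβa, pow_succ, mul_assoc]
  have h1 := key (p ^ j)
  rw [hβ, MulAut.one_apply] at h1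
  have h2 : d ^ p ^ j = 1 := by
    have := h1.symm
    rwa [mul_eq_right] at this
  have h3 : d = 1 := eq_one_of_pow_of_isPGroup p q hpq hP j h2
  rw [hβa, h3, one_mul, MulAut.one_apply]

include hpq hP hαβ hβ hβ1 hmin in
theorem fixed_mem_center {c : P} (hc : β c = c) : c ∈ Subgroup.center P := by
  have hαβ' : ∀ a, α (β a) = β (α a) := by
    intro a
    have := congrArg (fun f : MulAut P => f a) hαβ.eq
    simpa using this
  let C : Subgroup P :=
    { carrier := {c | β c = c}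
      mul_mem' := by
        intro a b ha hb
        show β (a * b) = a * b
        rw [map_mul, ha, hb]
      one_mem' := map_one β
      inv_mem' := by
        intro a ha
        show β a⁻¹ = a⁻¹
        rw [map_inv, ha] }
  have hCtop : C ≠ ⊤ := by
    intro h
    apply hβ1
    ext a
    have : a ∈ C := by rw [h]; trivial
    exact this
  obtain ⟨M, hM, hCM⟩ := (eq_top_or_exists_le_coatom C).resolve_left hCtop
  have hnil : Group.IsNilpotent P := hP.isNilpotent
  have hMn : M.Normal :=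
    Subgroup.NormalizerCondition.normal_of_coatom M Group.normalizerCondition_of_isNilpotent hM
  obtain ⟨N, hN⟩ : ∃ N : Subgroup P, N = Subgroup.normalClosure (C : Set P) := ⟨_, rfl⟩
  have hNM : N ≤ M := by
    rw [hN]
    exact Subgroup.normalClosure_le_normal hCM
  have hNtop : N ≠ ⊤ := by
    intro h
    apply hM.1
    rw [eq_top_iff, ← h]
    exact hNM
  have hNinv : ∀ s ∈ N, α s ∈ N := by
    have h1 : N ≤ N.comap α.toMonoidHom := by
      conv_lhs => rw [hN]
      have : N.Normal := by rw [hN]; infer_instance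
      apply Subgroup.normalClosure_le_normal
      intro c hc
      show α c ∈ N
      rw [hN]
      apply Subgroup.subset_normalClosure
      show β (α c) = α c
      rw [← hαβ']
      congr 1
    intro s hs
    exact h1 hs
  have hfix := hmin N hNinv hNtop
  have hgen := closure_comm_eq_top p q hpq hP α β hαβ j hβ hβ1 hmin
  have hcent : Subgroup.closure {d : P | ∃ a : P, d = β a * a⁻¹} ≤ Subgroup.centralizer {c} := by
    rw [Subgroup.closure_le]
    rintro _ ⟨a, rfl⟩
    rw [SetLike.mem_coe, Subgroup.mem_centralizer_iff]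
    intro h hh
    rw [Set.mem_singleton_iff.1 hh]
    -- `a⁻¹ c a ∈ N` is fixed by `β`
    have h1 : a⁻¹ * c * a ∈ N := by
      rw [hN]
      have := (Subgroup.normalClosure_normal (s := (C : Set P))).conj_mem c
        (Subgroup.subset_normalClosure hc) a⁻¹
      simpa using this
    have h2 := hfix _ h1
    rw [map_mul, map_mul, map_inv, hc] at h2
    -- `(β a)⁻¹ c (β a) = a⁻¹ c a`
    calc c * (β a * a⁻¹) = β a * ((β a)⁻¹ * c * β a) * a⁻¹ := by group
      _ = β a * (a⁻¹ * c * a) * a⁻¹ := by rw [h2]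
      _ = β a * a⁻¹ * c := by group
  rw [hgen] at hcent
  rw [Subgroup.mem_center_iff]
  intro g
  have : g ∈ Subgroup.centralizer {c} := hcent trivial
  rw [Subgroup.mem_centralizer_iff] at this
  exact (this c rfl).symm

end abstract

variable {G : Type*} [Group G]

/-- conjugation by `x` preserves the finite subgroup `P` in both directions -/
theorem inv_conj_mem_of_finite (P : Subgroup G) [Finite P] (x : G)
    (hx : ∀ g ∈ P, x * g * x⁻¹ ∈ P) : ∀ g ∈ P, x⁻¹ * g * x ∈ P := by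
  let f : P → P := fun g => ⟨x * g * x⁻¹, hx g g.2⟩
  have hinj : Function.Injective f := by
    intro a b hab
    have := congrArg Subtype.val hab
    simp only [f, mul_left_inj, mul_right_inj] at this
    exact Subtype.ext this
  have hsurj := Finite.surjective_of_injective hinj
  intro g hg
  obtain ⟨h, hh⟩ := hsurj ⟨g, hg⟩
  have h1 : x * h * x⁻¹ = g := congrArg Subtype.val hh
  rw [← h1]
  have : x⁻¹ * (x * ↑h * x⁻¹) * x = h := by group
  rw [this]
  exact h.2

/-- conjugation by a normalising element, as an automorphism -/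
def conjAut (P : Subgroup G) (x : G) (hx : ∀ g ∈ P, x * g * x⁻¹ ∈ P)
    (hx' : ∀ g ∈ P, x⁻¹ * g * x ∈ P) : MulAut P where
  toFun g := ⟨x * g * x⁻¹, hx g g.2⟩
  invFun g := ⟨x⁻¹ * g * x, hx' g g.2⟩
  left_inv g := Subtype.ext (by simp only []; group)
  right_inv g := Subtype.ext (by simp only []; group)
  map_mul' a b := Subtype.ext (by simp only [Subgroup.coe_mul]; group)

@[simp]
theorem conjAut_apply (P : Subgroup G) (x : G) (hx : ∀ g ∈ P, x * g * x⁻¹ ∈ P)
    (hx' : ∀ g ∈ P, x⁻¹ * g * x ∈ P) (g : P) :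
    ((conjAut P x hx hx' g : P) : G) = x * g * x⁻¹ := rfl

theorem conjAut_pow_apply (P : Subgroup G) (x : G) (hx : ∀ g ∈ P, x * g * x⁻¹ ∈ P)
    (hx' : ∀ g ∈ P, x⁻¹ * g * x ∈ P) (k : ℕ) (g : P) :
    ((((conjAut P x hx hx') ^ k) g : P) : G) = x ^ k * g * (x ^ k)⁻¹ := by
  induction k generalizing g with
  | zero => simp
  | succ k ih =>
    rw [pow_succ, MulAut.mul_apply, ih, conjAut_apply, pow_succ]
    group

/-- W1: a minimal `x`-invariant subgroup not centralised by `y` -/
theorem exists_minimal_moved (x y : G) (Q : Subgroup G) [Finite Q]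
    (hnorm : ∀ g ∈ Q, x * g * x⁻¹ ∈ Q) (hy : ∃ g ∈ Q, ¬ Commute y g) :
    ∃ Q₁ ≤ Q, (∀ g ∈ Q₁, x * g * x⁻¹ ∈ Q₁) ∧ (∃ g ∈ Q₁, ¬ Commute y g) ∧
      ∀ T ≤ Q₁, (∀ g ∈ T, x * g * x⁻¹ ∈ T) → T ≠ Q₁ → ∀ g ∈ T, Commute y g := by
  obtain ⟨m, hm⟩ : ∃ m, Nat.card Q = m := ⟨_, rfl⟩
  induction m using Nat.strong_induction_on generalizing Q with
  | _ m ih =>
    by_cases hmin : ∀ T ≤ Q, (∀ g ∈ T, x * g * x⁻¹ ∈ T) → T ≠ Q → ∀ g ∈ T, Commute y g
    · exact ⟨Q, le_rfl, hnorm, hy, hmin⟩
    · push Not at hmin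
      obtain ⟨T, hTQ, hTx, hTne, g, hgT, hg⟩ := hmin
      have hTfin : Finite T := Finite.of_injective (Subgroup.inclusion hTQ)
        (Subgroup.inclusion_injective hTQ)
      have hlt : Nat.card T < m := by
        rw [← hm]
        have hle : Nat.card T ≤ Nat.card Q := Subgroup.card_le_of_le hTQ
        rcases Nat.lt_or_ge (Nat.card T) (Nat.card Q) with h | h
        · exact h
        · exfalso
          exact hTne (Subgroup.eq_of_le_of_card_ge hTQ h)
      obtain ⟨Q₁, hQ₁T, h1, h2, h3⟩ := ih _ hlt T hTx ⟨g, hgT, hg⟩ rfl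
      exact ⟨Q₁, hQ₁T.trans hTQ, h1, h2, h3⟩

theorem minimal_moved_props (p q : ℕ) [Fact p.Prime] [Fact q.Prime] (hpq : p ≠ q)
    (x y : G) (hxy : Commute x y) (j : ℕ) (hyj : y ^ p ^ j = 1) (P : Subgroup G) [Finite P]
    (hP : IsPGroup q P) (hx : ∀ g ∈ P, x * g * x⁻¹ ∈ P) (hyP : ∀ g ∈ P, y * g * y⁻¹ ∈ P)
    (hmoved : ∃ g ∈ P, ¬ Commute y g)
    (hmin : ∀ T ≤ P, (∀ g ∈ T, x * g * x⁻¹ ∈ T) → T ≠ P → ∀ g ∈ T, Commute y g) :
    (∀ S : Subgroup G, (∀ a ∈ P, y * a * y⁻¹ * a⁻¹ ∈ S) → P ≤ S) ∧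
    (∀ c ∈ P, Commute y c → ∀ g ∈ P, Commute c g) := by
  obtain ⟨α, hα⟩ : ∃ α : MulAut P, α = conjAut P x hx (inv_conj_mem_of_finite P x hx) := ⟨_, rfl⟩
  obtain ⟨β, hβdef⟩ : ∃ β : MulAut P, β = conjAut P y hyP (inv_conj_mem_of_finite P y hyP) :=
    ⟨_, rfl⟩
  have hαa : ∀ g : P, ((α g : P) : G) = x * g * x⁻¹ := by intro g; rw [hα]; rfl
  have hβa : ∀ g : P, ((β g : P) : G) = y * g * y⁻¹ := by intro g; rw [hβdef]; rfl
  have hαβ : Commute α β := by
    show α * β = β * α
    ext g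
    rw [MulAut.mul_apply, MulAut.mul_apply, hαa, hβa, hβa, hαa]
    have h1 : x * y = y * x := hxy.eq
    calc x * (y * ↑g * y⁻¹) * x⁻¹ = (x * y) * g * (x * y)⁻¹ := by group
      _ = (y * x) * g * (y * x)⁻¹ := by rw [h1]
      _ = y * (x * ↑g * x⁻¹) * y⁻¹ := by group
  have hβj : β ^ p ^ j = 1 := by
    ext g
    rw [hβdef, conjAut_pow_apply, hyj]
    simp
  have hβ1 : β ≠ 1 := by
    intro h
    obtain ⟨g, hg, hgy⟩ := hmoved
    apply hgy
    have h1 := hβa ⟨g, hg⟩
    rw [h, MulAut.one_apply] at h1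
    show y * g = g * y
    simp only at h1
    calc y * g = (y * g * y⁻¹) * y := by group
      _ = g * y := by rw [← h1]
  have hmin' : ∀ S : Subgroup P, (∀ s ∈ S, α s ∈ S) → S ≠ ⊤ → ∀ s ∈ S, β s = s := by
    intro S hS hStop s hs
    have h1 : S.map P.subtype ≤ P := Subgroup.map_subtype_le S
    have h2 : ∀ g ∈ S.map P.subtype, x * g * x⁻¹ ∈ S.map P.subtype := by
      rintro _ ⟨s, hs, rfl⟩
      exact ⟨α s, hS s hs, hαa s⟩
    have h3 : S.map P.subtype ≠ P := by
      intro h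
      apply hStop
      rw [eq_top_iff]
      intro s _
      have : (s : G) ∈ S.map P.subtype := by rw [h]; exact s.2
      obtain ⟨s', hs', hss'⟩ := this
      have : s' = s := Subtype.ext hss'
      rw [← this]
      exact hs'
    have h4 := hmin _ h1 h2 h3 s ⟨s, hs, rfl⟩
    apply Subtype.ext
    rw [hβa]
    have h5 : y * (s : G) = s * y := h4.eq
    rw [h5]
    group
  constructor
  · intro S hS
    have hgen := closure_comm_eq_top p q hpq hP α β hαβ j hβj hβ1 hmin'
    have h1 : Subgroup.closure {d : P | ∃ a : P, d = β a * a⁻¹} ≤ S.comap P.subtype := by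
      rw [Subgroup.closure_le]
      rintro _ ⟨a, rfl⟩
      show ((β a * a⁻¹ : P) : G) ∈ S
      rw [Subgroup.coe_mul, hβa, Subgroup.coe_inv]
      exact hS a a.2
    rw [hgen] at h1
    intro g hg
    have : (⟨g, hg⟩ : P) ∈ S.comap P.subtype := h1 trivial
    exact this
  · intro c hc hyc g hg
    have h1 : β ⟨c, hc⟩ = ⟨c, hc⟩ := by
      apply Subtype.ext
      rw [hβa]
      have h5 : y * c = c * y := hyc.eq
      simp only
      rw [h5]
      group
    have h2 := fixed_mem_center p q hpq hP α β hαβ j hβj hβ1 hmin' h1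
    rw [Subgroup.mem_center_iff] at h2
    have h3 := h2 ⟨g, hg⟩
    have h4 := congrArg Subtype.val h3
    simp only [Subgroup.coe_mul] at h4
    exact h4.symm

end Cfsg.Agent.Lib.Helper71_HHBGroup
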