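import Mathlib
import Cfsg.Agent.Lib.Helper32_PGroup

/-!
# Group theory for the Hall--Higman critical case (helper71)

* `commutator_mem_center_of_abelian_normal_le_center`: if every abelian subgroup of the normal
  `q`-subgroup `Q` that is normal in `G` is central in `G`, then `[Q, Q] ≤ Z(G)`.
-/

set_option autoImplicit false
set_option linter.unusedSectionVars false

namespace Cfsg.Agent.Lib.Helper71_HHCritical

open scoped commutatorElement

variable {G : Type*} [Group G]

/-- elements of `Q` commuting with `Q` modulo the centre of `G` -/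
def secondCenter (Q : Subgroup G) [Q.Normal] : Subgroup G where
  carrier := {u | u ∈ Q ∧ ∀ g ∈ Q, ⁅u, g⁆ ∈ Subgroup.center G}
  one_mem' := by
    refine ⟨Q.one_mem, fun g _ => ?_⟩
    rw [commutatorElement_one_left]
    exact Subgroup.one_mem _
  mul_mem' := by
    rintro u v ⟨hu, hu'⟩ ⟨hv, hv'⟩
    refine ⟨Q.mul_mem hu hv, fun g hg => ?_⟩
    have e : ⁅u * v, g⁆ = u * ⁅v, g⁆ * u⁻¹ * ⁅u, g⁆ := by
      simp only [commutatorElement_def]; group
    rw [e]
    exact Subgroup.mul_mem _ ((Subgroup.center G).normal_of_characteristic.conj_mem _ (hv' g hg) u)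
      (hu' g hg)
  inv_mem' := by
    rintro u ⟨hu, hu'⟩
    refine ⟨Q.inv_mem hu, fun g hg => ?_⟩
    have e : ⁅u⁻¹, g⁆ = u⁻¹ * (⁅u, g⁆)⁻¹ * u⁻¹⁻¹ := by
      simp only [commutatorElement_def]; group
    rw [e]
    exact (Subgroup.center G).normal_of_characteristic.conj_mem _
      (Subgroup.inv_mem _ (hu' g hg)) u⁻¹

theorem mem_secondCenter {Q : Subgroup G} [Q.Normal] {u : G} :
    u ∈ secondCenter Q ↔ u ∈ Q ∧ ∀ g ∈ Q, ⁅u, g⁆ ∈ Subgroup.center G := Iff.rfl

instance secondCenter_normal (Q : Subgroup G) [hQn : Q.Normal] : (secondCenter Q).Normal := by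
  constructor
  rintro u ⟨hu, hu'⟩ x
  refine ⟨hQn.conj_mem u hu x, fun g hg => ?_⟩
  have e : ⁅x * u * x⁻¹, g⁆ = x * ⁅u, x⁻¹ * g * x⁻¹⁻¹⁆ * x⁻¹ := by
    simp only [commutatorElement_def]; group
  rw [e]
  exact (Subgroup.center G).normal_of_characteristic.conj_mem _
    (hu' _ (hQn.conj_mem g hg x⁻¹)) x

theorem commutator_mem_center_of_abelian_normal_le_center [Finite G] (q : ℕ) [Fact q.Prime]
    (Q : Subgroup G) [hQn : Q.Normal] (hQ : IsPGroup q Q)
    (hab : ∀ A : Subgroup G, A.Normal → A ≤ Q → (∀ a ∈ A, ∀ b ∈ A, a * b = b * a) →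
      A ≤ Subgroup.center G) :
    ∀ g ∈ Q, ∀ h ∈ Q, ⁅g, h⁆ ∈ Subgroup.center G := by
  classical
  set Z := Subgroup.center G with hZ
  set U := secondCenter Q with hU
  have hUQ : U ≤ Q := fun u hu => hu.1
  -- the centre of `U` is central in `G`
  have hA : U ⊓ Subgroup.centralizer (U : Set G) ≤ Z := by
    apply hab _ inferInstance (inf_le_left.trans hUQ)
    rintro a ⟨_, ha⟩ b ⟨hb, _⟩
    exact (Subgroup.mem_centralizer_iff.1 ha b hb).symm
  -- the centraliser of `U` in `Q` is central in `G`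
  have hC : Q ⊓ Subgroup.centralizer (U : Set G) ≤ Z := by
    by_contra hcon
    rw [SetLike.not_le_iff_exists] at hcon
    obtain ⟨c, hcC, hcZ⟩ := hcon
    set C := Q ⊓ Subgroup.centralizer (U : Set G) with hCdef
    have hCn : C.Normal := inferInstance
    let π : G →* G ⧸ Z := QuotientGroup.mk' Z
    have hπsurj : Function.Surjective π := QuotientGroup.mk'_surjective Z
    let Qb : Subgroup (G ⧸ Z) := Q.map π
    have hQb : IsPGroup q Qb := hQ.map π
    have hCbn : (C.map π).Normal := hCn.map π hπsurj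
    let N : Subgroup Qb := (C.map π).subgroupOf Qb
    have hNn : N.Normal := inferInstance
    have hNne : N ≠ ⊥ := by
      intro hbot
      have h1 : (⟨π c, Subgroup.mem_map_of_mem π hcC.1⟩ : Qb) ∈ N := by
        rw [Subgroup.mem_subgroupOf]
        exact Subgroup.mem_map_of_mem π hcC
      rw [hbot, Subgroup.mem_bot] at h1
      have h2 : π c = 1 := congrArg Subtype.val h1
      exact hcZ ((QuotientGroup.eq_one_iff c).1 h2)
    obtain ⟨z, hzN, hzc, hz1⟩ :=
      Cfsg.Agent.Lib.Helper32_PGroup.exists_mem_center_of_normal hQb N hNne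
    rw [Subgroup.mem_subgroupOf] at hzN
    obtain ⟨c', hc'C, hc'⟩ := hzN
    have hc'Z : c' ∉ Z := by
      intro h
      apply hz1
      apply Subtype.ext
      rw [← hc']
      exact (QuotientGroup.eq_one_iff c').2 h
    have hc'U : c' ∈ U := by
      refine ⟨hc'C.1, fun g hg => ?_⟩
      have h1 := Subgroup.mem_center_iff.1 hzc ⟨π g, Subgroup.mem_map_of_mem π hg⟩
      have h2 : π g * π c' = π c' * π g := by
        have := congrArg Subtype.val h1
        rw [Subgroup.coe_mul, Subgroup.coe_mul, ← hc'] at this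
        exact this
      have h3 : π ⁅c', g⁆ = 1 := by
        rw [map_commutatorElement, commutatorElement_def, ← h2]
        group
      exact (QuotientGroup.eq_one_iff _).1 h3
    exact hc'Z (hA ⟨hc'U, hc'C.2⟩)
  -- three subgroups lemma
  have hUQZ : ⁅U, Q⁆ ≤ Z := by
    rw [Subgroup.commutator_le]
    intro u hu g hg
    exact hu.2 g hg
  have hZQ : ∀ Z' : Subgroup G, Z' ≤ Z → ⁅Z', Q⁆ = ⊥ := by
    intro Z' hZ'
    rw [Subgroup.commutator_eq_bot_iff_le_centralizer]
    exact hZ'.trans (Subgroup.center_le_centralizer _)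
  have h1 : ⁅⁅Q, U⁆, Q⁆ = ⊥ := hZQ _ (by rw [Subgroup.commutator_comm]; exact hUQZ)
  have h2 : ⁅⁅U, Q⁆, Q⁆ = ⊥ := hZQ _ hUQZ
  have h3 : ⁅⁅Q, Q⁆, U⁆ = ⊥ := Subgroup.commutator_commutator_eq_bot_of_rotate h1 h2
  rw [Subgroup.commutator_eq_bot_iff_le_centralizer] at h3
  have h4 : ⁅Q, Q⁆ ≤ Z := (le_inf (Subgroup.commutator_le_right Q Q) h3).trans hC
  intro g hg h hh
  exact h4 (Subgroup.commutator_mem_commutator hg hh)

end Cfsg.Agent.Lib.Helper71_HHCritical
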