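import Mathlib
import Cfsg.Agent.Lib.Helper71_ESLinear
import Cfsg.Agent.Lib.Helper81_JointEigen

/-!
# Weights of an abelian normal subgroup under a cyclic `p`-group (helper71)

* `pow_mem_of_pow_mem`: in a cyclic group `⟨x₀⟩` of order `p ^ (n+1)`, a subgroup containing a
  non-trivial power of `x₀` contains `x₀ ^ p ^ n`.
* `conj_fix_of_finrank_lt`: let the abelian group `A` (order invertible in the algebraically
  closed field `K`) act on `U`, and let `x₀` of order `p ^ (n+1)` act compatibly on `A` and `U`.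
  If `dim U < p ^ (n+1)` then `x₀ ^ p ^ n` acts trivially on the image of `A`.
-/

set_option autoImplicit false
set_option linter.unusedSectionVars false

namespace Cfsg.Agent.Lib.Helper71_HHWeights

open Module Cfsg.Agent.Lib.Helper71_ESLinear Cfsg.Agent.Lib.Helper81_JointEigen

theorem pow_mem_of_pow_mem {H : Type*} [Group H] (p n : ℕ) [Fact p.Prime] (x₀ : H)
    (hord : orderOf x₀ = p ^ (n + 1)) (S : Subgroup H) (k : ℕ) (hk0 : 0 < k)
    (hk : k < p ^ (n + 1)) (hmem : x₀ ^ k ∈ S) : x₀ ^ p ^ n ∈ S := by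
  have hp : p.Prime := Fact.out
  obtain ⟨e, k', hk', rfl⟩ := Nat.exists_eq_pow_mul_and_not_dvd hk0.ne' p hp.ne_one
  have he : e ≤ n := by
    by_contra hcon
    push Not at hcon
    have h1 : p ^ (n + 1) ∣ p ^ e * k' := Dvd.dvd.mul_right (pow_dvd_pow p hcon) k'
    have := Nat.le_of_dvd hk0 h1
    omega
  -- `(x₀ ^ k) ^ p ^ (n - e) = (x₀ ^ p ^ n) ^ k'`
  have h2 : (x₀ ^ (p ^ e * k')) ^ p ^ (n - e) = (x₀ ^ p ^ n) ^ k' := by
    rw [← pow_mul, ← pow_mul]
    congr 1
    have : p ^ n = p ^ e * p ^ (n - e) := by rw [← pow_add]; congr 1; omega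
    rw [this]; ring
  have h3 : (x₀ ^ p ^ n) ^ k' ∈ S := by
    rw [← h2]
    exact S.pow_mem hmem _
  have h4 : orderOf (x₀ ^ p ^ n) = p := by
    rw [orderOf_pow' x₀ (pow_ne_zero n hp.ne_zero), hord,
      Nat.gcd_eq_right (pow_dvd_pow p (Nat.le_succ n)), Nat.pow_div (Nat.le_succ n) hp.pos]
    simp
  have h5 : x₀ ^ p ^ n ∈ Subgroup.zpowers ((x₀ ^ p ^ n) ^ k') := by
    rw [mem_zpowers_pow_iff, h4]
    exact ((Nat.Prime.coprime_iff_not_dvd hp).2 hk').symm
  exact (Subgroup.zpowers_le.2 h3) h5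

variable {K : Type*} [Field K] {U : Type*} [AddCommGroup U] [Module K U]

theorem conj_fix_of_finrank_lt [IsAlgClosed K] [FiniteDimensional K U] {A H : Type*} [Group A]
    [Finite A] [Group H] (hAcomm : ∀ a b : A, a * b = b * a)
    (ρA : Representation K A U) (τ : Representation K H U) (Φ : H →* MulAut A)
    (hAK : (Nat.card A : K) ≠ 0)
    (hcomp : ∀ h a, τ h * ρA a = ρA (Φ h a) * τ h)
    (p n : ℕ) [Fact p.Prime] (x₀ : H) (hord : orderOf x₀ = p ^ (n + 1))
    (hlt : finrank K U < p ^ (n + 1)) :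
    ∀ a, ρA (Φ (x₀ ^ p ^ n) a) = ρA a := by
  classical
  set m := Nat.card A with hm
  let 𝔄 : A → End K U := fun a => ρA a
  have hA : ∀ a, 𝔄 a ^ m = 1 := by
    intro a
    show ρA a ^ m = 1
    rw [← map_pow, hm, pow_card_eq_one', map_one]
  have hcommA : ∀ a b, Commute (𝔄 a) (𝔄 b) := by
    intro a b
    show ρA a * ρA b = ρA b * ρA a
    rw [← map_mul, ← map_mul, hAcomm]
  let twist : H → (A → K) → (A → K) := fun h χ a => χ (Φ h⁻¹ a)
  have twist_mul : ∀ h h' χ, twist h' (twist h χ) = twist (h' * h) χ := by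
    intro h h' χ
    funext a
    show χ (Φ h⁻¹ (Φ h'⁻¹ a)) = χ (Φ (h' * h)⁻¹ a)
    rw [mul_inv_rev, map_mul, MulAut.mul_apply]
  have twist_one : ∀ χ, twist 1 χ = χ := by
    intro χ
    funext a
    show χ (Φ 1⁻¹ a) = χ a
    simp
  have L1 : ∀ h χ v, v ∈ jointEigenspace 𝔄 χ → τ h v ∈ jointEigenspace 𝔄 (twist h χ) := by
    intro h χ v hv
    rw [mem_jointEigenspace] at hv ⊢
    intro a
    have e1 : ρA a * τ h = τ h * ρA (Φ h⁻¹ a) := by
      rw [hcomp, ← MulAut.mul_apply, ← map_mul, mul_inv_cancel, map_one, MulAut.one_apply]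
    show ρA a (τ h v) = χ (Φ h⁻¹ a) • τ h v
    rw [← Module.End.mul_apply, e1, Module.End.mul_apply]
    have := hv (Φ h⁻¹ a)
    rw [show 𝔄 (Φ h⁻¹ a) v = ρA (Φ h⁻¹ a) v from rfl] at this
    rw [this, map_smul]
  have L2 : ∀ h χ, jointEigenspace 𝔄 χ ≠ ⊥ → jointEigenspace 𝔄 (twist h χ) ≠ ⊥ := by
    intro h χ hne hbot
    apply hne
    rw [eq_bot_iff]
    intro v hv
    have h1 := L1 h χ v hv
    rw [hbot, Submodule.mem_bot] at h1
    have h2 : τ h⁻¹ (τ h v) = v := by
      rw [← Module.End.mul_apply, rho_inv_mul, Module.End.one_apply]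
    rw [Submodule.mem_bot, ← h2, h1, map_zero]
  let Stab : (A → K) → Subgroup H := fun χ =>
    { carrier := {h | twist h χ = χ}
      one_mem' := twist_one χ
      mul_mem' := by
        intro a b ha hb
        show twist (a * b) χ = χ
        rw [← twist_mul, hb, ha]
      inv_mem' := by
        intro a ha
        show twist a⁻¹ χ = χ
        have : twist a⁻¹ (twist a χ) = χ := by rw [twist_mul, inv_mul_cancel, twist_one]
        rwa [ha] at this }
  have hp : p.Prime := Fact.out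
  have key : ∀ χ, jointEigenspace 𝔄 χ ≠ ⊥ → x₀ ^ p ^ n ∈ Stab χ := by
    intro χ hχ
    let w : Fin (p ^ (n + 1)) → (A → K) := fun i => twist (x₀ ^ (i : ℕ)) χ
    have hninj : ¬ Function.Injective w := by
      intro hinj
      have := card_le_finrank hAK 𝔄 hA hcommA w hinj (fun i => L2 _ χ hχ)
      rw [Fintype.card_fin] at this
      omega
    rw [Function.Injective] at hninj
    push Not at hninj
    obtain ⟨i, j, hij, hne⟩ := hninj
    -- wlog i < j
    have main : ∀ i j : Fin (p ^ (n + 1)), (i : ℕ) < j → w i = w j → x₀ ^ p ^ n ∈ Stab χ := by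
      intro i j hlt hw
      have h1 : twist ((x₀ ^ (i : ℕ))⁻¹) (w i) = twist ((x₀ ^ (i : ℕ))⁻¹) (w j) := by rw [hw]
      simp only [w] at h1
      rw [twist_mul, twist_mul, inv_mul_cancel, twist_one] at h1
      have h2 : (x₀ ^ (i : ℕ))⁻¹ * x₀ ^ (j : ℕ) = x₀ ^ ((j : ℕ) - i) := by
        rw [inv_mul_eq_iff_eq_mul, ← pow_add]
        congr 1
        omega
      rw [h2] at h1
      have h3 : x₀ ^ ((j : ℕ) - i) ∈ Stab χ := h1.symm
      exact pow_mem_of_pow_mem p n x₀ hord (Stab χ) _ (by omega) (by have := j.2; omega) h3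
    rcases lt_or_gt_of_ne (fun h => hne (Fin.ext h)) with h | h
    · exact main i j h hij
    · exact main j i h hij.symm
  intro a
  have htop := iSup_jointEigenspace hAK 𝔄 hA hcommA
  have hle : ∀ χ, jointEigenspace 𝔄 χ
      ≤ LinearMap.eqLocus (ρA (Φ (x₀ ^ p ^ n) a)) (ρA a) := by
    intro χ
    by_cases hχ : jointEigenspace 𝔄 χ = ⊥
    · rw [hχ]; exact bot_le
    · intro v hv
      have h1 : (x₀ ^ p ^ n)⁻¹ ∈ Stab χ := (Stab χ).inv_mem (key χ hχ)
      have h2 : twist (x₀ ^ p ^ n)⁻¹ χ = χ := h1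
      have h3 : χ (Φ (x₀ ^ p ^ n) a) = χ a := by
        have := congrFun h2 a
        simpa [twist] using this
      rw [mem_jointEigenspace] at hv
      rw [LinearMap.mem_eqLocus]
      have e1 := hv (Φ (x₀ ^ p ^ n) a)
      have e2 := hv a
      show ρA (Φ (x₀ ^ p ^ n) a) v = ρA a v
      rw [show 𝔄 (Φ (x₀ ^ p ^ n) a) v = ρA (Φ (x₀ ^ p ^ n) a) v from rfl] at e1
      rw [show 𝔄 a v = ρA a v from rfl] at e2
      rw [e1, e2, h3]
  have hall : (⊤ : Submodule K U) ≤ LinearMap.eqLocus (ρA (Φ (x₀ ^ p ^ n) a)) (ρA a) := by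
    rw [← htop]
    exact iSup_le hle
  ext v
  exact hall (Submodule.mem_top : v ∈ (⊤ : Submodule K U))

end Cfsg.Agent.Lib.Helper71_HHWeights
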