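import Mathlib

/-!
# Commutants of nilpotent endomorphisms (helper71)

Pure linear algebra used for the Hall--Higman critical case.

* `commSub N`: the commutant of `N` as a submodule of `End K V`.
* `sq_finrank_le_mul_finrank_commSub`: if `N ^ s = 0` then `(dim V)^2 ≤ s * dim (commSub N)`.
* `succ_le_finrank_commSub`: if `N ^ s ≠ 0`, `N ^ (s+1) = 0` then `s + 1 ≤ dim (commSub N)`.
* `finrank_le_mul_finrank_inf_ker`: if `T ^ P` kills a `T`-invariant subspace `W`
  then `dim W ≤ P * dim (W ⊓ ker T)`.
* `sub_one_pow_char_pow`: `(a - 1) ^ p ^ n = a ^ p ^ n - 1` in an algebra over a field of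
  characteristic `p`.
-/

set_option autoImplicit false
set_option linter.unusedSectionVars false

namespace Cfsg.Agent.Lib.Helper71_NilpComm

open Module

variable {K : Type*} [Field K] {V : Type*} [AddCommGroup V] [Module K V]

/-- the commutant of `N` -/
def commSub (N : End K V) : Submodule K (End K V) where
  carrier := {f | N * f = f * N}
  add_mem' := by
    intro a b ha hb
    show N * (a + b) = (a + b) * N
    rw [mul_add, add_mul, ha, hb]
  zero_mem' := by
    show N * 0 = 0 * N
    simp
  smul_mem' := by
    intro c a ha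
    show N * (c • a) = (c • a) * N
    rw [mul_smul_comm, smul_mul_assoc, ha]

theorem mem_commSub {N f : End K V} : f ∈ commSub N ↔ N * f = f * N := Iff.rfl

theorem commSub_sub_one (t : End K V) : commSub (t - 1) = commSub t := by
  ext f
  simp only [mem_commSub, sub_mul, mul_sub, one_mul, mul_one]
  constructor
  · intro h
    exact sub_left_injective h
  · intro h
    rw [h]

theorem pow_mem_commSub (N : End K V) (k : ℕ) : N ^ k ∈ commSub N := by
  rw [mem_commSub, ← pow_succ', ← pow_succ]

/-- powers of a nilpotent endomorphism below the nilpotency index are linearly independent -/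
theorem linearIndependent_pow_of_nilpotent {N : End K V} {s : ℕ} (h1 : N ^ s ≠ 0)
    (h2 : N ^ (s + 1) = 0) :
    LinearIndependent K (fun i : Fin (s + 1) => N ^ (i : ℕ)) := by
  rw [Fintype.linearIndependent_iff]
  intro c hc
  have key : ∀ n, ∀ i : Fin (s + 1), (i : ℕ) = n → c i = 0 := by
    intro n
    induction n using Nat.strong_induction_on with
    | _ n ih =>
      intro i hi
      have h3 := congrArg (fun f => f * N ^ (s - n)) hc
      simp only [Finset.sum_mul, zero_mul, smul_mul_assoc, ← pow_add] at h3
      rw [Finset.sum_eq_single i] at h3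
      · have hi' : (i : ℕ) + (s - n) = s := by have := i.2; omega
        rw [hi'] at h3
        exact (smul_eq_zero.mp h3).resolve_right h1
      · intro j _ hji
        rcases lt_or_gt_of_ne (Fin.val_ne_of_ne hji) with hlt | hgt
        · rw [ih j (by omega) j rfl, zero_smul]
        · have hz : N ^ ((j : ℕ) + (s - n)) = 0 := by
            have e : (j : ℕ) + (s - n) = (s + 1) + ((j : ℕ) + (s - n) - (s + 1)) := by
              have := i.2; omega
            rw [e, pow_add, h2, zero_mul]
          rw [hz, smul_zero]
      · intro h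
        exact absurd (Finset.mem_univ i) h
  intro i
  exact key i i rfl

theorem succ_le_finrank_commSub [FiniteDimensional K V] {N : End K V} {s : ℕ} (h1 : N ^ s ≠ 0)
    (h2 : N ^ (s + 1) = 0) : s + 1 ≤ finrank K (commSub N) := by
  have hli := linearIndependent_pow_of_nilpotent h1 h2
  have h3 : finrank K (Submodule.span K (Set.range fun i : Fin (s + 1) => N ^ (i : ℕ)))
      = Fintype.card (Fin (s + 1)) := finrank_span_eq_card hli
  have h4 : Submodule.span K (Set.range fun i : Fin (s + 1) => N ^ (i : ℕ)) ≤ commSub N := by
    rw [Submodule.span_le]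
    rintro _ ⟨i, rfl⟩
    exact pow_mem_commSub N _
  have h5 := Submodule.finrank_mono h4
  rw [h3, Fintype.card_fin] at h5
  exact h5

/-- restriction of `N` to its range -/
noncomputable def rangeRestr (N : End K V) : End K (LinearMap.range N) :=
  N.restrict (fun v _ => LinearMap.mem_range_self N v)

theorem rangeRestr_apply (N : End K V) (w : LinearMap.range N) :
    ((rangeRestr N w : LinearMap.range N) : V) = N (w : V) := rfl

theorem rangeRestr_pow_eq_zero (N : End K V) (s : ℕ) (h : N ^ (s + 1) = 0) :
    (rangeRestr N) ^ s = 0 := by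
  unfold rangeRestr
  rw [Module.End.pow_restrict]
  ext ⟨w, v, rfl⟩
  simp only [LinearMap.restrict_apply, LinearMap.zero_apply, ZeroMemClass.coe_zero]
  have : (N ^ s) (N v) = (N ^ (s + 1)) v := by
    rw [pow_succ, Module.End.mul_apply]
  rw [this, h, LinearMap.zero_apply]

theorem finrank_commSub_ge [FiniteDimensional K V] (N : End K V) :
    finrank K (commSub (rangeRestr N)) + (finrank K (LinearMap.ker N)) ^ 2
      ≤ finrank K (commSub N) := by
  classical
  set V' : Submodule K V := LinearMap.range N with hV'
  set N' := rangeRestr N with hN'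
  let ι : V' →ₗ[K] V := V'.subtype
  let ν : V →ₗ[K] V' := N.rangeRestrict
  have hιν : ∀ v, ι (ν v) = N v := fun v => rfl
  have hνι : ∀ w : V', ν (ι w) = N' w := fun w => Subtype.ext rfl
  obtain ⟨P₁, hP₁⟩ := LinearMap.exists_leftInverse_of_injective ι (Submodule.ker_subtype V')
  obtain ⟨r, hr⟩ := LinearMap.exists_rightInverse_of_surjective ν (LinearMap.range_rangeRestrict N)
  have hP₁' : ∀ w : V', P₁ (ι w) = w := fun w => by
    have := congrArg (fun f => f w) hP₁
    simpa using this
  have hr' : ∀ w : V', ν (r w) = w := fun w => by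
    have := congrArg (fun f => f w) hr
    simpa using this
  have hNr : ∀ w : V', N (r w) = ι w := fun w => by rw [← hιν, hr']
  let kN : Submodule K V := LinearMap.ker N
  let J : (commSub N') × ((V ⧸ V') →ₗ[K] kN) →ₗ[K] End K V :=
    { toFun := fun y => ι ∘ₗ (y.1 : End K V') ∘ₗ P₁
        + r ∘ₗ (y.1 : End K V') ∘ₗ ν ∘ₗ (LinearMap.id - ι ∘ₗ P₁)
        + kN.subtype ∘ₗ y.2 ∘ₗ V'.mkQ
      map_add' := by
        intro y y'
        ext v
        simp only [Prod.fst_add, Submodule.coe_add, Prod.snd_add, LinearMap.add_apply,
          LinearMap.comp_apply, map_add]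
        abel
      map_smul' := by
        intro c y
        ext v
        simp only [Prod.smul_fst, Submodule.coe_smul, Prod.smul_snd, LinearMap.add_apply,
          LinearMap.comp_apply, LinearMap.smul_apply, map_smul, RingHom.id_apply, smul_add] }
  have hJapp : ∀ y v, J y v = ι ((y.1 : End K V') (P₁ v))
      + r ((y.1 : End K V') (ν (v - ι (P₁ v)))) + ((y.2 (V'.mkQ v) : kN) : V) := by
    intro y v
    rfl
  have hJmem : ∀ y, J y ∈ commSub N := by
    intro y
    rw [mem_commSub]
    ext v
    rw [Module.End.mul_apply, Module.End.mul_apply, hJapp, hJapp]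
    have hg : ∀ w, N' ((y.1 : End K V') w) = (y.1 : End K V') (N' w) := by
      intro w
      have := congrArg (fun f => f w) (mem_commSub.1 y.1.2)
      simpa using this
    have e1 : N (ι ((y.1 : End K V') (P₁ v))) = ι ((y.1 : End K V') (N' (P₁ v))) := by
      rw [← hg]; rfl
    have e2 : N (((y.2 (V'.mkQ v) : kN) : V)) = 0 := (y.2 (V'.mkQ v)).2
    have e3 : ν (v - ι (P₁ v)) = ν v - N' (P₁ v) := by rw [map_sub, hνι]
    have e4 : P₁ (N v) = ν v := by rw [← hιν, hP₁']
    have e5 : V'.mkQ (N v) = 0 := by
      rw [Submodule.mkQ_apply, Submodule.Quotient.mk_eq_zero]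
      exact LinearMap.mem_range_self N v
    have e6 : N v - ι (ν v) = 0 := by rw [hιν, sub_self]
    rw [map_add, map_add, e1, e2, hNr, e3, map_sub, map_sub, e4, e5, e6]
    simp
  have hJinj : Function.Injective J := by
    rw [injective_iff_map_eq_zero]
    intro y hy
    have h1 : ∀ w : V', (y.1 : End K V') w = 0 := by
      intro w
      have := congrArg (fun f => f (ι w)) hy
      simp only [LinearMap.zero_apply] at this
      rw [hJapp, hP₁', sub_self, map_zero, map_zero, map_zero] at this
      have e5 : V'.mkQ (ι w) = 0 := by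
        rw [Submodule.mkQ_apply, Submodule.Quotient.mk_eq_zero]
        exact w.2
      rw [e5, map_zero] at this
      rw [add_zero, ZeroMemClass.coe_zero, add_zero] at this
      exact Subtype.ext this
    have h2 : (y.1 : End K V') = 0 := LinearMap.ext h1
    have h3 : y.2 = 0 := by
      refine LinearMap.ext fun q => ?_
      obtain ⟨v, rfl⟩ := Submodule.mkQ_surjective V' q
      have := congrArg (fun f => f v) hy
      simp only [LinearMap.zero_apply] at this
      rw [hJapp, h2] at this
      simpa using this
    exact Prod.ext (Subtype.ext h2) h3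
  let J' : (commSub N') × ((V ⧸ V') →ₗ[K] kN) →ₗ[K] commSub N := J.codRestrict _ hJmem
  have hJ'inj : Function.Injective J' := by
    intro a b hab
    apply hJinj
    have := congrArg Subtype.val hab
    exact this
  have h1 := LinearMap.finrank_le_finrank_of_injective hJ'inj
  have : Module.Free K (commSub N') := Module.Free.of_divisionRing K (commSub N')
  rw [Module.finrank_prod, Module.finrank_linearMap] at h1
  have h2 : finrank K (V ⧸ V') = finrank K kN := by
    have e1 := Submodule.finrank_quotient_add_finrank V'
    have e2 := LinearMap.finrank_range_add_finrank_ker N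
    have : finrank K V' = finrank K (LinearMap.range N) := rfl
    have : finrank K kN = finrank K (LinearMap.ker N) := rfl
    omega
  rw [h2] at h1
  rw [sq]
  exact h1

/-- **A1**: if `N ^ s = 0` then `(dim V)^2 ≤ s * dim (commutant of N)` -/
theorem sq_finrank_le_mul_finrank_commSub {K : Type*} [Field K] (s : ℕ) :
    ∀ {V : Type*} [AddCommGroup V] [Module K V] [FiniteDimensional K V] (N : End K V),
      N ^ s = 0 → (finrank K V) ^ 2 ≤ s * finrank K (commSub N) := by
  induction s with
  | zero =>
    intro V _ _ _ N h
    rw [pow_zero] at h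
    have hsub : Subsingleton V := by
      constructor
      intro a b
      have ha : a = (1 : End K V) a := rfl
      have hb : b = (1 : End K V) b := rfl
      rw [ha, hb, h]
      simp
    rw [finrank_zero_of_subsingleton]
    simp
  | succ s ih =>
    intro V _ _ _ N h
    have h1 := ih (rangeRestr N) (rangeRestr_pow_eq_zero N s h)
    have h2 := finrank_commSub_ge N
    have h3 := LinearMap.finrank_range_add_finrank_ker N
    set d' := finrank K (LinearMap.range N) with hd'
    set m := finrank K (LinearMap.ker N) with hm
    set c' := finrank K (commSub (rangeRestr N)) with hc'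
    set c := finrank K (commSub N) with hc
    rw [← h3]
    -- (d' + m)^2 ≤ (s+1) * c, from d'^2 ≤ s * c' and c' + m^2 ≤ c
    have h4 : (d' + m) ^ 2 ≤ (s + 1) * (c' + m ^ 2) := by
      rcases Nat.eq_zero_or_pos s with hs | hs
      · subst hs
        have : d' = 0 := by
          have : d' ^ 2 ≤ 0 := by simpa using h1
          exact pow_eq_zero_iff (two_ne_zero) |>.1 (Nat.le_zero.1 this)
        rw [this]
        nlinarith
      · -- s * [(s+1)(c'+m²) − (d'+m)²] = (s+1)(s c' − d'²) + (d' − s m)²
        have key : s * (d' + m) ^ 2 ≤ s * ((s + 1) * (c' + m ^ 2)) := by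
          zify at h1 ⊢
          nlinarith [sq_nonneg ((d' : ℤ) - s * m), h1]
        exact Nat.le_of_mul_le_mul_left key hs
    calc (d' + m) ^ 2 ≤ (s + 1) * (c' + m ^ 2) := h4
      _ ≤ (s + 1) * c := Nat.mul_le_mul_left _ h2

/-- rank–nullity on an invariant subspace -/
theorem finrank_map_add_finrank_inf_ker {M M' : Type*} [AddCommGroup M] [Module K M]
    [FiniteDimensional K M] [AddCommGroup M'] [Module K M'] (T : M →ₗ[K] M')
    (W : Submodule K M) :
    finrank K (W.map T) + finrank K (W ⊓ LinearMap.ker T : Submodule K M) = finrank K W := by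
  have h := LinearMap.finrank_range_add_finrank_ker (T.domRestrict W)
  rw [LinearMap.range_domRestrict, LinearMap.ker_domRestrict] at h
  rw [← h, ← Submodule.finrank_map_subtype_eq W (Submodule.comap W.subtype (LinearMap.ker T)),
    Submodule.map_comap_subtype]

/-- **B**: if `T ^ P` kills the `T`-invariant subspace `W` then `dim W ≤ P * dim (W ⊓ ker T)` -/
theorem finrank_le_mul_finrank_inf_ker {M : Type*} [AddCommGroup M] [Module K M]
    [FiniteDimensional K M] (T : End K M) (P : ℕ) :
    ∀ (W : Submodule K M), (∀ w ∈ W, T w ∈ W) → (∀ w ∈ W, (T ^ P) w = 0) →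
      finrank K W ≤ P * finrank K (W ⊓ LinearMap.ker T : Submodule K M) := by
  induction P with
  | zero =>
    intro W _ h0
    have : W = ⊥ := by
      rw [eq_bot_iff]
      intro w hw
      have := h0 w hw
      simpa using this
    rw [this]
    simp
  | succ P ih =>
    intro W hW hP
    have hW' : ∀ w ∈ W.map T, T w ∈ W.map T := by
      rintro _ ⟨w, hw, rfl⟩
      exact ⟨T w, hW w hw, rfl⟩
    have hP' : ∀ w ∈ W.map T, (T ^ P) w = 0 := by
      rintro _ ⟨w, hw, rfl⟩
      have := hP w hw
      rwa [pow_succ, Module.End.mul_apply] at this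
    have h1 := ih (W.map T) hW' hP'
    have hle : W.map T ≤ W := by
      rintro _ ⟨w, hw, rfl⟩
      exact hW w hw
    have h2 : finrank K (W.map T ⊓ LinearMap.ker T : Submodule K M)
        ≤ finrank K (W ⊓ LinearMap.ker T : Submodule K M) :=
      Submodule.finrank_mono (inf_le_inf_right _ hle)
    have h3 := finrank_map_add_finrank_inf_ker T W
    calc finrank K W = finrank K (W.map T) + finrank K (W ⊓ LinearMap.ker T : Submodule K M) :=
          h3.symm
      _ ≤ P * finrank K (W ⊓ LinearMap.ker T : Submodule K M)
          + finrank K (W ⊓ LinearMap.ker T : Submodule K M) := by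
          apply Nat.add_le_add_right
          exact h1.trans (Nat.mul_le_mul_left _ h2)
      _ = (P + 1) * finrank K (W ⊓ LinearMap.ker T : Submodule K M) := by ring

/-- `(a - 1) ^ p ^ n = a ^ p ^ n - 1` in an algebra over a field of characteristic `p` -/
theorem sub_one_pow_char_pow {A : Type*} [Ring A] [Algebra K A] (p n : ℕ) [Fact p.Prime]
    [CharP K p] (a : A) : (a - 1) ^ p ^ n = a ^ p ^ n - 1 := by
  have h : ((Polynomial.X : Polynomial K) - 1) ^ p ^ n = Polynomial.X ^ p ^ n - 1 := by
    rw [sub_pow_char_pow, one_pow]
  have := congrArg (Polynomial.aeval a) h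
  simpa using this

end Cfsg.Agent.Lib.Helper71_NilpComm
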