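import Mathlib
import Cfsg.Agent.Lib.Helper71_ESLinear
import Cfsg.Agent.Lib.Helper71_NilpComm

/-!
# Schur orthogonality and the modular commutant bound (helper71)

Let `ρ` be an irreducible representation of a finite group `Q` over an algebraically closed field
`K` in which `|Q|` is invertible, and let a cyclic `p`-group `H = ⟨x₀⟩` (`p = char K`) act on `Q`
compatibly with a representation `τ` of `H` on the same space, freely on the non-trivial cosets of
the subgroup of `Q` acting by scalars.  Then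
`|H| * dim (commutant of τ x₀) ≤ |H| - 1 + (dim U)^2` (`mul_finrank_commSub_le`).

The proof is a count inside the group algebra `Q → K`, using the section
`f ↦ (u ↦ tr (f ρ(u⁻¹)))` of `φ ↦ ∑ φ(u) ρ(u)` (`pi_sig`, Schur orthogonality).
-/

set_option autoImplicit false
set_option linter.unusedSectionVars false

namespace Cfsg.Agent.Lib.Helper71_SchurOrth

open Module Cfsg.Agent.Lib.Helper71_ESLinear Cfsg.Agent.Lib.Helper71_NilpComm

variable {K : Type*} [Field K] {U : Type*} [AddCommGroup U] [Module K U]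
variable {Q : Type*} [Group Q]

/-! ### the scalar by which an element acts -/

/-- the scalar by which `g` acts (zero if `ρ g` is not a scalar) -/
noncomputable def scal (ρ : Representation K Q U) (g : Q) : K := by
  classical
  exact if h : IsSc (ρ g) then h.choose else 0

theorem scal_spec {ρ : Representation K Q U} {g : Q} (hg : g ∈ scSubgroup ρ) :
    ρ g = scal ρ g • (1 : End K U) := by
  classical
  have h : IsSc (ρ g) := hg
  unfold scal
  rw [dif_pos h]
  exact h.choose_spec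

theorem smul_one_inj [Nontrivial U] {a b : K} (h : a • (1 : End K U) = b • (1 : End K U)) :
    a = b := by
  obtain ⟨u, hu⟩ := exists_ne (0 : U)
  have := congrArg (fun f : End K U => f u) h
  simp only [LinearMap.smul_apply, Module.End.one_apply] at this
  exact smul_left_injective K hu this

theorem scal_eq [Nontrivial U] {ρ : Representation K Q U} {g : Q} {c : K}
    (h : ρ g = c • (1 : End K U)) : scal ρ g = c := by
  have hg : g ∈ scSubgroup ρ := ⟨c, h⟩
  have := scal_spec hg
  rw [h] at this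
  exact (smul_one_inj this).symm

theorem scal_one [Nontrivial U] (ρ : Representation K Q U) : scal ρ 1 = 1 := by
  apply scal_eq
  rw [map_one, one_smul]

theorem scal_mul [Nontrivial U] {ρ : Representation K Q U} {g h : Q} (hg : g ∈ scSubgroup ρ)
    (hh : h ∈ scSubgroup ρ) : scal ρ (g * h) = scal ρ g * scal ρ h := by
  apply scal_eq
  rw [map_mul, scal_spec hg, scal_spec hh]
  simp [smul_smul, mul_comm]

theorem scal_ne_zero [Nontrivial U] {ρ : Representation K Q U} {g : Q} (hg : g ∈ scSubgroup ρ) :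
    scal ρ g ≠ 0 := by
  intro h
  have := scal_spec hg
  rw [h, zero_smul] at this
  exact rho_ne_zero ρ g this

theorem scal_inv [Nontrivial U] {ρ : Representation K Q U} {g : Q} (hg : g ∈ scSubgroup ρ) :
    scal ρ g⁻¹ = (scal ρ g)⁻¹ := by
  have h1 := scal_mul hg ((scSubgroup ρ).inv_mem hg)
  rw [mul_inv_cancel, scal_one] at h1
  exact eq_inv_of_mul_eq_one_right h1.symm

/-! ### Schur orthogonality -/

theorem isIrreducible_of_irr [Nontrivial U] {ρ : Representation K Q U} (hirr : Irr ρ) :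
    ρ.IsIrreducible := by
  refine { exists_pair_ne := ⟨⊥, ⊤, ?_⟩, eq_bot_or_eq_top := ?_ }
  · intro h
    have h1 := congrArg Subrepresentation.toSubmodule h
    exact bot_ne_top h1
  · intro W
    rcases hirr W.toSubmodule (fun g w hw => W.apply_mem_toSubmodule g hw) with h | h
    · left
      exact Subrepresentation.toSubmodule_injective h
    · right
      exact Subrepresentation.toSubmodule_injective h

/-- `f ↦ (u ↦ tr (f ρ(u⁻¹)))` -/
noncomputable def sigMap (ρ : Representation K Q U) : End K U →ₗ[K] (Q → K) where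
  toFun f := fun u => LinearMap.trace K U (f * ρ u⁻¹)
  map_add' := by
    intro f g
    funext u
    simp [add_mul]
  map_smul' := by
    intro c f
    funext u
    simp

theorem sigMap_apply (ρ : Representation K Q U) (f : End K U) (u : Q) :
    sigMap ρ f u = LinearMap.trace K U (f * ρ u⁻¹) := rfl

variable [Fintype Q]

/-- `φ ↦ ∑ φ(u) ρ(u)` -/
noncomputable def piMap (ρ : Representation K Q U) : (Q → K) →ₗ[K] End K U where
  toFun φ := ∑ u, φ u • ρ u
  map_add' := by
    intro φ ψ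
    simp [add_smul, Finset.sum_add_distrib]
  map_smul' := by
    intro c φ
    simp [Finset.smul_sum, smul_smul]

theorem piMap_apply (ρ : Representation K Q U) (φ : Q → K) : piMap ρ φ = ∑ u, φ u • ρ u := rfl

theorem sum_char_mul [IsAlgClosed K] [FiniteDimensional K U] [Nontrivial U]
    {ρ : Representation K Q U} (hirr : Irr ρ) (hQK : (Nat.card Q : K) ≠ 0) :
    ∑ u : Q, LinearMap.trace K U (ρ u⁻¹) * LinearMap.trace K U (ρ u) = (Nat.card Q : K) := by
  let _ : Invertible (Nat.card Q : K) := invertibleOfNonzero hQK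
  have := isIrreducible_of_irr hirr
  have h := Representation.char_orthonormal ρ ρ
  rw [if_pos ⟨Representation.Equiv.refl ρ⟩] at h
  have h2 : ∑ g : Q, ρ.character g * ρ.character g⁻¹ = (Nat.card Q : K) := by
    rw [inv_mul_eq_iff_eq_mul₀ hQK] at h
    simpa using h
  rw [← h2]
  apply Finset.sum_congr rfl
  intro u _
  unfold Representation.character
  ring

/-- **Schur orthogonality**: `π ∘ σ` is a non-zero scalar. -/
theorem pi_sig [IsAlgClosed K] [FiniteDimensional K U] [Nontrivial U]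
    {ρ : Representation K Q U} (hirr : Irr ρ) (hQK : (Nat.card Q : K) ≠ 0) :
    ∃ θ : K, θ ≠ 0 ∧ ∀ f : End K U, piMap ρ (sigMap ρ f) = θ • f := by
  classical
  set Θ : End K U := ∑ u : Q, LinearMap.trace K U (ρ u⁻¹) • ρ u with hΘ
  -- right translation
  have h1 : ∀ w : Q, piMap ρ (sigMap ρ (ρ w)) = Θ * ρ w := by
    intro w
    rw [piMap_apply, hΘ, Finset.sum_mul]
    rw [← Equiv.sum_comp (Equiv.mulRight w)]
    apply Finset.sum_congr rfl
    intro v _
    simp only [Equiv.coe_mulRight, sigMap_apply]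
    rw [← map_mul, smul_mul_assoc, ← map_mul]
    congr 3
    group
  -- left translation
  have h2 : ∀ w : Q, piMap ρ (sigMap ρ (ρ w)) = ρ w * Θ := by
    intro w
    rw [piMap_apply, hΘ, Finset.mul_sum]
    rw [← Equiv.sum_comp (Equiv.mulLeft w)]
    apply Finset.sum_congr rfl
    intro v _
    simp only [Equiv.coe_mulLeft, sigMap_apply]
    rw [mul_smul_comm, ← map_mul ρ w v]
    congr 1
    rw [← map_mul]
    have e : w * (w * v)⁻¹ = w * v⁻¹ * w⁻¹ := by group
    rw [e, map_mul ρ, LinearMap.trace_mul_comm, ← map_mul ρ]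
    congr 2
    group
  -- Θ is central
  have h3 : commSub Θ = ⊤ := by
    rw [eq_top_iff, ← span_range_eq_top hirr, Submodule.span_le]
    rintro _ ⟨w, rfl⟩
    rw [SetLike.mem_coe, mem_commSub, ← h1, ← h2]
  have h4 : Θ ∈ Subalgebra.center K (End K U) := by
    rw [Subalgebra.mem_center_iff]
    intro f
    have : f ∈ commSub Θ := by rw [h3]; trivial
    exact (mem_commSub.1 this).symm
  rw [Algebra.IsCentral.center_eq_bot, Algebra.mem_bot] at h4
  obtain ⟨θ, hθ⟩ := h4
  rw [Algebra.algebraMap_eq_smul_one] at hθ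
  have h5 : LinearMap.trace K U Θ = (Nat.card Q : K) := by
    rw [hΘ, map_sum]
    rw [← sum_char_mul hirr hQK]
    apply Finset.sum_congr rfl
    intro u _
    rw [map_smul, smul_eq_mul]
  have h6 : θ ≠ 0 := by
    intro h0
    rw [← hθ, h0, zero_smul, map_zero] at h5
    exact hQK h5.symm
  refine ⟨θ, h6, ?_⟩
  have h7 : (piMap ρ).comp (sigMap ρ) = LinearMap.mulLeft K Θ := by
    apply LinearMap.ext_on (span_range_eq_top hirr)
    rintro _ ⟨w, rfl⟩
    simp only [LinearMap.comp_apply, LinearMap.mulLeft_apply]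
    exact h1 w
  intro f
  have := congrArg (fun L : End K U →ₗ[K] End K U => L f) h7
  simp only [LinearMap.comp_apply, LinearMap.mulLeft_apply] at this
  rw [this, ← hθ, smul_mul_assoc, one_mul]

/-! ### a group acting compatibly -/

section action

variable {H : Type*} [Group H] {ρ : Representation K Q U} {τ : Representation K H U}
  {Φ : H →* MulAut Q}

omit [Fintype Q] in
theorem rho_phi (hcomp : ∀ h g, τ h * ρ g = ρ (Φ h g) * τ h) (h : H) (g : Q) :
    ρ (Φ h g) = τ h * ρ g * τ h⁻¹ := by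
  rw [hcomp, mul_assoc, rho_mul_inv, mul_one]

omit [Fintype Q] in
theorem phi_mem_sc (hcomp : ∀ h g, τ h * ρ g = ρ (Φ h g) * τ h) (h : H) {g : Q}
    (hg : g ∈ scSubgroup ρ) : Φ h g ∈ scSubgroup ρ := by
  obtain ⟨c, hc⟩ := hg
  refine ⟨c, ?_⟩
  rw [rho_phi hcomp, hc, mul_smul_comm, mul_one, smul_mul_assoc, rho_mul_inv]

omit [Fintype Q] in
theorem scal_phi [Nontrivial U] (hcomp : ∀ h g, τ h * ρ g = ρ (Φ h g) * τ h) (h : H) {g : Q}
    (hg : g ∈ scSubgroup ρ) : scal ρ (Φ h g) = scal ρ g := by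
  apply scal_eq
  rw [rho_phi hcomp, scal_spec hg, mul_smul_comm, mul_one, smul_mul_assoc, rho_mul_inv]

omit [Fintype Q] in
theorem sc_le_comap (hcomp : ∀ h g, τ h * ρ g = ρ (Φ h g) * τ h) (h : H) :
    scSubgroup ρ ≤ (scSubgroup ρ).comap (Φ h).toMonoidHom := by
  intro g hg
  rw [Subgroup.mem_comap]
  exact phi_mem_sc hcomp h hg

/-- the induced map on cosets of the scalar subgroup -/
noncomputable def barMap (hcomp : ∀ h g, τ h * ρ g = ρ (Φ h g) * τ h) (h : H) :
    Q ⧸ scSubgroup ρ →* Q ⧸ scSubgroup ρ :=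
  QuotientGroup.map (scSubgroup ρ) (scSubgroup ρ) (Φ h).toMonoidHom (sc_le_comap hcomp h)

omit [Fintype Q] in
theorem barMap_mk (hcomp : ∀ h g, τ h * ρ g = ρ (Φ h g) * τ h) (h : H) (g : Q) :
    barMap hcomp h (g : Q ⧸ scSubgroup ρ) = ((Φ h g : Q) : Q ⧸ scSubgroup ρ) := by
  unfold barMap
  rw [QuotientGroup.map_mk]
  rfl

/-- the induced action on cosets of the scalar subgroup -/
@[reducible] noncomputable def barAction (hcomp : ∀ h g, τ h * ρ g = ρ (Φ h g) * τ h) :
    MulAction H (Q ⧸ scSubgroup ρ) where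
  smul h s := barMap hcomp h s
  one_smul := by
    intro s
    obtain ⟨g, rfl⟩ := QuotientGroup.mk_surjective s
    show barMap hcomp 1 _ = _
    rw [barMap_mk, map_one]
    rfl
  mul_smul := by
    intro h h' s
    obtain ⟨g, rfl⟩ := QuotientGroup.mk_surjective s
    show barMap hcomp (h * h') _ = barMap hcomp h (barMap hcomp h' _)
    rw [barMap_mk, barMap_mk, barMap_mk, map_mul]
    rfl


omit [Fintype Q] in
theorem card_orbits [Finite Q] [Finite H] (hcomp : ∀ h g, τ h * ρ g = ρ (Φ h g) * τ h)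
    (hfree : ∀ h : H, h ≠ 1 → ∀ g, Φ h g * g⁻¹ ∈ scSubgroup ρ → g ∈ scSubgroup ρ) {P : ℕ}
    (hcard : Nat.card H = P) :
    Nat.card (@MulAction.orbitRel.Quotient H (Q ⧸ scSubgroup ρ) _ (barAction hcomp)) * P
      = Nat.card (Q ⧸ scSubgroup ρ) + (P - 1) := by
  let _ := barAction hcomp
  apply card_orbits_mul hcard
  intro a ha
  rw [Nat.card_eq_one_iff_unique]
  constructor
  · constructor
    rintro ⟨s, hs⟩ ⟨s', hs'⟩
    have key : ∀ s : Q ⧸ scSubgroup ρ, a • s = s → s = 1 := by
      intro s hs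
      obtain ⟨g, rfl⟩ := QuotientGroup.mk_surjective s
      have h1 : barMap hcomp a (g : Q ⧸ scSubgroup ρ) = (g : Q ⧸ scSubgroup ρ) := hs
      rw [barMap_mk, QuotientGroup.eq] at h1
      have h2 : g⁻¹ * Φ a g ∈ scSubgroup ρ := by
        have := (scSubgroup ρ).inv_mem h1
        simpa using this
      have h3 : Φ a g * g⁻¹ ∈ scSubgroup ρ := by
        have := (scSubgroup_normal ρ).conj_mem _ h2 g
        simpa [mul_assoc] using this
      exact (QuotientGroup.eq_one_iff g).2 (hfree a ha g h3)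
    rw [MulAction.mem_fixedBy] at hs hs'
    exact Subtype.ext ((key s hs).trans (key s' hs').symm)
  · refine ⟨⟨1, ?_⟩⟩
    rw [MulAction.mem_fixedBy]
    show barMap hcomp a 1 = 1
    exact map_one _

end action

/-! ### the function space -/

section funspace

variable {H : Type*} [Group H] {ρ : Representation K Q U} {τ : Representation K H U}
  {Φ : H →* MulAut Q}

/-- `φ ↦ φ ∘ Φ h` -/
noncomputable def Lmap (Φ : H →* MulAut Q) (h : H) : (Q → K) →ₗ[K] (Q → K) :=
  LinearMap.funLeft K K (Φ h)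

omit [Fintype Q] in
theorem Lmap_apply (h : H) (φ : Q → K) (u : Q) : Lmap Φ h φ u = φ (Φ h u) := rfl

omit [Fintype Q] in
theorem Lmap_pow (x₀ : H) (k : ℕ) :
    (Lmap Φ x₀ : Module.End K (Q → K)) ^ k = Lmap Φ (x₀ ^ k) := by
  induction k with
  | zero =>
    ext φ u
    simp [Lmap_apply]
  | succ k ih =>
    rw [pow_succ, ih]
    ext φ u
    simp only [Module.End.mul_apply, Lmap_apply, pow_succ, map_mul, MulAut.mul_apply]
    congr 1
    rw [← MulAut.mul_apply, ← MulAut.mul_apply, ← map_mul, ← map_mul, ← pow_succ', ← pow_succ]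

/-- functions transforming by the central character -/
def Mspace (ρ : Representation K Q U) : Submodule K (Q → K) where
  carrier := {φ | ∀ z ∈ scSubgroup ρ, ∀ u, φ (u * z) = (scal ρ z)⁻¹ * φ u}
  add_mem' := by
    intro φ ψ hφ hψ z hz u
    simp only [Pi.add_apply]
    rw [hφ z hz u, hψ z hz u, mul_add]
  zero_mem' := by
    intro z _ u
    simp
  smul_mem' := by
    intro c φ hφ z hz u
    simp only [Pi.smul_apply, smul_eq_mul]
    rw [hφ z hz u]
    ring

omit [Fintype Q] in
theorem mem_Mspace {φ : Q → K} :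
    φ ∈ Mspace ρ ↔ ∀ z ∈ scSubgroup ρ, ∀ u, φ (u * z) = (scal ρ z)⁻¹ * φ u := Iff.rfl

omit [Fintype Q] in
theorem sigMap_mem_Mspace [Nontrivial U] (f : End K U) : sigMap ρ f ∈ Mspace ρ := by
  intro z hz u
  rw [sigMap_apply, sigMap_apply, mul_inv_rev, map_mul ρ, scal_spec ((scSubgroup ρ).inv_mem hz),
    scal_inv hz, smul_mul_assoc, one_mul, mul_smul_comm, map_smul, smul_eq_mul]

omit [Fintype Q] in
theorem sigMap_mem_ker (hcomp : ∀ h g, τ h * ρ g = ρ (Φ h g) * τ h) (x₀ : H) {f : End K U}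
    (hf : f ∈ commSub (τ x₀)) : sigMap ρ f ∈ LinearMap.ker (Lmap Φ x₀ - 1) := by
  rw [LinearMap.mem_ker, LinearMap.sub_apply, sub_eq_zero]
  funext u
  rw [Lmap_apply, Module.End.one_apply, sigMap_apply, sigMap_apply, ← map_inv, rho_phi hcomp]
  rw [mem_commSub] at hf
  calc LinearMap.trace K U (f * (τ x₀ * ρ u⁻¹ * τ x₀⁻¹))
      = LinearMap.trace K U ((f * τ x₀ * ρ u⁻¹) * τ x₀⁻¹) := by simp only [mul_assoc]
    _ = LinearMap.trace K U (τ x₀⁻¹ * (f * τ x₀ * ρ u⁻¹)) := LinearMap.trace_mul_comm _ _ _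
    _ = LinearMap.trace K U (τ x₀⁻¹ * (τ x₀ * f * ρ u⁻¹)) := by rw [hf]
    _ = LinearMap.trace K U ((τ x₀⁻¹ * τ x₀) * f * ρ u⁻¹) := by simp only [mul_assoc]
    _ = LinearMap.trace K U (f * ρ u⁻¹) := by rw [rho_inv_mul, one_mul]

omit [Fintype Q] in
theorem Lmap_mem_Mspace [Nontrivial U] (hcomp : ∀ h g, τ h * ρ g = ρ (Φ h g) * τ h) (h : H)
    {φ : Q → K} (hφ : φ ∈ Mspace ρ) : Lmap Φ h φ ∈ Mspace ρ := by
  intro z hz u
  rw [Lmap_apply, Lmap_apply, map_mul, hφ _ (phi_mem_sc hcomp h hz), scal_phi hcomp h hz]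

theorem tau_mul_piMap_Lmap (hcomp : ∀ h g, τ h * ρ g = ρ (Φ h g) * τ h) (h : H) (φ : Q → K) :
    τ h * piMap ρ (Lmap Φ h φ) = piMap ρ φ * τ h := by
  rw [piMap_apply, piMap_apply, Finset.mul_sum, Finset.sum_mul]
  rw [← Equiv.sum_comp (Φ h).toEquiv (fun v => φ v • ρ v * τ h)]
  apply Finset.sum_congr rfl
  intro u _
  rw [mul_smul_comm, hcomp, smul_mul_assoc, Lmap_apply]
  rfl

theorem Lmap_mem_ker_piMap (hcomp : ∀ h g, τ h * ρ g = ρ (Φ h g) * τ h) (h : H) {φ : Q → K}
    (hφ : φ ∈ LinearMap.ker (piMap ρ)) : Lmap Φ h φ ∈ LinearMap.ker (piMap ρ) := by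
  rw [LinearMap.mem_ker] at hφ ⊢
  have h1 := tau_mul_piMap_Lmap hcomp h φ
  rw [hφ, zero_mul] at h1
  have h2 := congrArg (fun f => τ h⁻¹ * f) h1
  simp only [mul_zero] at h2
  rwa [← mul_assoc, rho_inv_mul, one_mul] at h2


omit [Fintype Q] in
theorem Lmap_sub_one_pow (p n : ℕ) [Fact p.Prime] [CharP K p] (x₀ : H)
    (hx₀ : x₀ ^ p ^ n = 1) : (Lmap Φ x₀ - 1 : Module.End K (Q → K)) ^ p ^ n = 0 := by
  rw [sub_one_pow_char_pow (K := K) p n, Lmap_pow, hx₀, sub_eq_zero]
  ext φ u
  simp [Lmap_apply]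

omit [Fintype Q] in
theorem out_inv_mul_mem (ρ : Representation K Q U) (u : Q) :
    ((u : Q ⧸ scSubgroup ρ).out)⁻¹ * u ∈ scSubgroup ρ := by
  rw [← QuotientGroup.eq]
  exact QuotientGroup.out_eq' _

/-- extension of a function on cosets to an element of `Mspace` -/
noncomputable def extMap (ρ : Representation K Q U) :
    ((Q ⧸ scSubgroup ρ) → K) →ₗ[K] (Q → K) where
  toFun ψ := fun u => (scal ρ (((u : Q ⧸ scSubgroup ρ).out)⁻¹ * u))⁻¹ * ψ (u : Q ⧸ scSubgroup ρ)
  map_add' := by
    intro ψ ψ'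
    funext u
    simp [mul_add]
  map_smul' := by
    intro c ψ
    funext u
    simp only [Pi.smul_apply, smul_eq_mul, RingHom.id_apply]
    ring

omit [Fintype Q] in
theorem extMap_apply (ρ : Representation K Q U) (ψ : (Q ⧸ scSubgroup ρ) → K) (u : Q) :
    extMap ρ ψ u
      = (scal ρ (((u : Q ⧸ scSubgroup ρ).out)⁻¹ * u))⁻¹ * ψ (u : Q ⧸ scSubgroup ρ) := rfl

omit [Fintype Q] in
theorem extMap_mem_Mspace [Nontrivial U] (ψ : (Q ⧸ scSubgroup ρ) → K) :
    extMap ρ ψ ∈ Mspace ρ := by
  intro z hz u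
  rw [extMap_apply, extMap_apply, QuotientGroup.mk_mul_of_mem u hz, ← mul_assoc,
    scal_mul (out_inv_mul_mem ρ u) hz, mul_inv]
  ring

omit [Fintype Q] in
theorem extMap_out [Nontrivial U] (ψ : (Q ⧸ scSubgroup ρ) → K) (s : Q ⧸ scSubgroup ρ) :
    extMap ρ ψ s.out = ψ s := by
  rw [extMap_apply, QuotientGroup.out_eq', inv_mul_cancel, scal_one, inv_one, one_mul]

omit [Fintype Q] in
theorem card_le_finrank_Mspace [Finite Q] [Nontrivial U] (ρ : Representation K Q U) :
    Nat.card (Q ⧸ scSubgroup ρ) ≤ finrank K (Mspace ρ) := by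
  classical
  have := Fintype.ofFinite (Q ⧸ scSubgroup ρ)
  let e : ((Q ⧸ scSubgroup ρ) → K) →ₗ[K] Mspace ρ :=
    (extMap ρ).codRestrict (Mspace ρ) extMap_mem_Mspace
  have hinj : Function.Injective e := by
    intro ψ ψ' h
    funext s
    have h1 := congrArg (fun f : Mspace ρ => (f : Q → K) s.out) h
    simp only [e, LinearMap.codRestrict_apply] at h1
    rwa [extMap_out, extMap_out] at h1
  have h1 := LinearMap.finrank_le_finrank_of_injective hinj
  rwa [Module.finrank_fintype_fun_eq_card, ← Nat.card_eq_fintype_card] at h1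

omit [Fintype Q] in
theorem finrank_Mc_le [Finite Q] [Finite H] [Nontrivial U]
    (hcomp : ∀ h g, τ h * ρ g = ρ (Φ h g) * τ h) (x₀ : H)
    (hgen : ∀ h : H, h ∈ Subgroup.zpowers x₀) :
    finrank K (Mspace ρ ⊓ LinearMap.ker (Lmap Φ x₀ - 1) : Submodule K (Q → K))
      ≤ Nat.card (@MulAction.orbitRel.Quotient H (Q ⧸ scSubgroup ρ) _ (barAction hcomp)) := by
  classical
  let _ := barAction hcomp
  let Ω := MulAction.orbitRel.Quotient H (Q ⧸ scSubgroup ρ)
  have := Fintype.ofFinite Ω
  let ev : (Q → K) →ₗ[K] (Ω → K) :=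
    LinearMap.funLeft K K (fun ω : Ω => ((Quotient.out ω : Q ⧸ scSubgroup ρ)).out)
  let W : Submodule K (Q → K) := Mspace ρ ⊓ LinearMap.ker (Lmap Φ x₀ - 1)
  have hinj : Function.Injective (ev.domRestrict W) := by
    rw [injective_iff_map_eq_zero]
    rintro ⟨φ, hφM, hφT⟩ h0
    have h0' : ∀ ω : Ω, φ ((Quotient.out ω : Q ⧸ scSubgroup ρ)).out = 0 := by
      intro ω
      have := congrArg (fun f : Ω → K => f ω) h0
      exact this
    -- invariance under all of `H`
    have hinv : ∀ h : H, ∀ u, φ (Φ h u) = φ u := by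
      let S : Subgroup H :=
        { carrier := {h | ∀ u, φ (Φ h u) = φ u}
          one_mem' := by intro u; simp
          mul_mem' := by
            intro a b ha hb u
            rw [map_mul, MulAut.mul_apply, ha, hb]
          inv_mem' := by
            intro a ha u
            have := ha (Φ a⁻¹ u)
            rw [← MulAut.mul_apply, ← map_mul, mul_inv_cancel, map_one, MulAut.one_apply] at this
            exact this.symm }
      have hx : x₀ ∈ S := by
        intro u
        have hφT' : φ ∈ LinearMap.ker (Lmap Φ x₀ - 1) := hφT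
        rw [LinearMap.mem_ker, LinearMap.sub_apply, sub_eq_zero] at hφT'
        have := congrFun hφT' u
        rwa [Lmap_apply, Module.End.one_apply] at this
      intro h
      exact (Subgroup.zpowers_le.2 hx) (hgen h)
    apply Subtype.ext
    funext u
    show φ u = 0
    let s : Q ⧸ scSubgroup ρ := (u : Q ⧸ scSubgroup ρ)
    let ω : Ω := Quotient.mk'' s
    have h1 : (MulAction.orbitRel H (Q ⧸ scSubgroup ρ)) (Quotient.out ω) s :=
      Quotient.exact (Quotient.out_eq ω)
    rw [MulAction.orbitRel_apply] at h1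
    obtain ⟨h, hh⟩ := h1
    have h2 : barMap hcomp h (u : Q ⧸ scSubgroup ρ) = Quotient.out ω := hh
    rw [barMap_mk] at h2
    have h3 : ((Quotient.out ω : Q ⧸ scSubgroup ρ).out)⁻¹ * Φ h u ∈ scSubgroup ρ := by
      rw [← QuotientGroup.eq, h2]
      exact QuotientGroup.out_eq' _
    have hφM' : φ ∈ Mspace ρ := hφM
    have h4 := hφM' _ h3 ((Quotient.out ω : Q ⧸ scSubgroup ρ).out)
    rw [mul_inv_cancel_left, hinv, h0' ω, mul_zero] at h4
    exact h4
  have h1 := LinearMap.finrank_le_finrank_of_injective hinj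
  rwa [Module.finrank_fintype_fun_eq_card, ← Nat.card_eq_fintype_card] at h1

end funspace

omit [Fintype Q] in
/-- **The modular commutant bound.** -/
theorem mul_finrank_commSub_le [IsAlgClosed K] [FiniteDimensional K U] [Nontrivial U] [Finite Q]
    {H : Type*} [Group H] [Finite H]
    (ρ : Representation K Q U) (τ : Representation K H U) (Φ : H →* MulAut Q)
    (hirr : Irr ρ) (hQK : (Nat.card Q : K) ≠ 0)
    (hcomp : ∀ h g, τ h * ρ g = ρ (Φ h g) * τ h)
    (hfree : ∀ h : H, h ≠ 1 → ∀ g, Φ h g * g⁻¹ ∈ scSubgroup ρ → g ∈ scSubgroup ρ)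
    (p n : ℕ) [Fact p.Prime] [CharP K p] (hcard : Nat.card H = p ^ n)
    (x₀ : H) (hgen : ∀ h : H, h ∈ Subgroup.zpowers x₀) :
    p ^ n * finrank K (commSub (τ x₀)) ≤ p ^ n - 1 + (finrank K U) ^ 2 := by
  classical
  have := Fintype.ofFinite Q
  obtain ⟨θ, hθ0, hθ⟩ := pi_sig hirr hQK
  set P := p ^ n with hP
  set T : Module.End K (Q → K) := Lmap Φ x₀ - 1 with hT
  let A : Submodule K (Q → K) := (commSub (τ x₀)).map (sigMap ρ)
  let M₀ : Submodule K (Q → K) := Mspace ρ ⊓ LinearMap.ker (piMap ρ)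
  let B : Submodule K (Q → K) := M₀ ⊓ LinearMap.ker T
  let Mc : Submodule K (Q → K) := Mspace ρ ⊓ LinearMap.ker T
  have hsinj : Function.Injective (sigMap ρ) := by
    rw [injective_iff_map_eq_zero]
    intro f hf
    have := hθ f
    rw [hf, map_zero] at this
    exact (smul_eq_zero.1 this.symm).resolve_left hθ0
  have hA : finrank K A = finrank K (commSub (τ x₀)) :=
    (Submodule.equivMapOfInjective (sigMap ρ) hsinj (commSub (τ x₀))).finrank_eq.symm
  have hAle : A ≤ Mc := by
    rintro _ ⟨f, hf, rfl⟩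
    exact ⟨sigMap_mem_Mspace f, sigMap_mem_ker hcomp x₀ hf⟩
  have hBle : B ≤ Mc := inf_le_inf_right _ inf_le_left
  have hdisj : A ⊓ B = ⊥ := by
    rw [eq_bot_iff]
    rintro _ ⟨⟨f, hf, rfl⟩, ⟨⟨_, h2⟩, _⟩⟩
    rw [SetLike.mem_coe, LinearMap.mem_ker, hθ] at h2
    have : f = 0 := (smul_eq_zero.1 h2).resolve_left hθ0
    rw [this, map_zero]
    exact Submodule.zero_mem _
  have h1 : finrank K A + finrank K B ≤ finrank K Mc := by
    have e := Submodule.finrank_sup_add_finrank_inf_eq A B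
    rw [hdisj, finrank_bot, add_zero] at e
    rw [← e]
    exact Submodule.finrank_mono (sup_le hAle hBle)
  have hx₀ : x₀ ^ P = 1 := by
    rw [← hcard]
    exact pow_card_eq_one'
  have hTP : T ^ P = 0 := Lmap_sub_one_pow p n x₀ hx₀
  have hM₀inv : ∀ w ∈ M₀, T w ∈ M₀ := by
    intro w hw
    rw [hT, LinearMap.sub_apply, Module.End.one_apply]
    exact M₀.sub_mem ⟨Lmap_mem_Mspace hcomp x₀ hw.1, Lmap_mem_ker_piMap hcomp x₀ hw.2⟩ hw
  have h2 : finrank K M₀ ≤ P * finrank K B :=
    finrank_le_mul_finrank_inf_ker T P M₀ hM₀inv (fun w _ => by rw [hTP]; rfl)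
  have h3 : finrank K (Mspace ρ) ≤ finrank K M₀ + (finrank K U) ^ 2 := by
    have e : finrank K ((Mspace ρ).map (piMap ρ)) + finrank K M₀ = finrank K (Mspace ρ) :=
      finrank_map_add_finrank_inf_ker (piMap ρ) (Mspace ρ)
    have e2 : finrank K ((Mspace ρ).map (piMap ρ)) ≤ finrank K (End K U) :=
      Submodule.finrank_le _
    rw [Module.finrank_linearMap, ← sq] at e2
    omega
  have h4 := card_le_finrank_Mspace ρ
  have h5 := finrank_Mc_le hcomp x₀ hgen
  have h6 := card_orbits hcomp hfree hcard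
  rw [hA] at h1
  set a := finrank K (commSub (τ x₀))
  set b := finrank K B
  set mc := finrank K Mc
  set m0 := finrank K M₀
  set mm := finrank K (Mspace ρ)
  set nS := Nat.card (Q ⧸ scSubgroup ρ)
  set nΩ := Nat.card (@MulAction.orbitRel.Quotient H (Q ⧸ scSubgroup ρ) _ (barAction hcomp))
  have hPpos : 0 < P := pow_pos (Fact.out : p.Prime).pos n
  have k1 : P * a + P * b ≤ P * mc := by
    rw [← mul_add]
    exact Nat.mul_le_mul_left _ h1
  have k2 : P * mc ≤ nΩ * P := by
    rw [mul_comm]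
    exact Nat.mul_le_mul_right _ h5
  omega

end Cfsg.Agent.Lib.Helper71_SchurOrth
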