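import Mathlib
import Cfsg.Agent.Lib.Helper71_ESLinear
import Cfsg.Agent.Lib.Helper71_NilpComm
import Cfsg.Agent.Lib.Helper71_SchurOrth
import Cfsg.Agent.Lib.Helper71_HHWeights
import Cfsg.Agent.Lib.Helper71_HHCritical

/-!
# The Hall--Higman critical configuration (helper71)

`G = Q ⟨x⟩` with `Q` a normal `q`-subgroup and `⟨x⟩` a `p`-group acting so that
`C_G(y) = ⟨x⟩ Z(G)` for `1 ≠ y ∈ ⟨x⟩`, with a faithful representation `ρ` over an algebraically
closed field of characteristic `p`, irreducible on `Q`.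
-/

set_option autoImplicit false
set_option linter.unusedSectionVars false

namespace Cfsg.Agent.Lib.Helper71_HHRep

open Module Cfsg.Agent.Lib.Helper71_ESLinear Cfsg.Agent.Lib.Helper71_NilpComm
  Cfsg.Agent.Lib.Helper71_SchurOrth Cfsg.Agent.Lib.Helper71_HHWeights
  Cfsg.Agent.Lib.Helper71_HHCritical

open scoped commutatorElement

variable {G : Type*} [Group G] {K : Type*} [Field K] {V : Type*} [AddCommGroup V] [Module K V]

theorem irr_of_hirr (ρ : Representation K G V) (Q : Subgroup G)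
    (hirr : ∀ W : Submodule K V, (∀ g ∈ Q, Submodule.map (ρ g) W ≤ W) → W = ⊥ ∨ W = ⊤) :
    Irr (ρ.comp Q.subtype : Representation K Q V) := by
  intro W hW
  apply hirr W
  rintro g hg _ ⟨w, hw, rfl⟩
  exact hW ⟨g, hg⟩ w hw

/-- Schur's lemma: an endomorphism commuting with an irreducible family is a scalar -/
theorem isSc_of_commute [IsAlgClosed K] [FiniteDimensional K V] [Nontrivial V] {Q' : Type*}
    [Group Q'] {ρ' : Representation K Q' V} (hirr : Irr ρ') (f : End K V)
    (hf : ∀ g, f * ρ' g = ρ' g * f) : IsSc f := by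
  have h3 : commSub f = ⊤ := by
    rw [eq_top_iff, ← span_range_eq_top hirr, Submodule.span_le]
    rintro _ ⟨w, rfl⟩
    rw [SetLike.mem_coe, mem_commSub]
    exact hf w
  have h4 : f ∈ Subalgebra.center K (End K V) := by
    rw [Subalgebra.mem_center_iff]
    intro g
    have : g ∈ commSub f := by rw [h3]; trivial
    exact (mem_commSub.1 this).symm
  rw [Algebra.IsCentral.center_eq_bot, Algebra.mem_bot] at h4
  obtain ⟨θ, hθ⟩ := h4
  rw [Algebra.algebraMap_eq_smul_one] at hθ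
  exact ⟨θ, hθ.symm⟩

section config

variable [IsAlgClosed K] [FiniteDimensional K V] [Nontrivial V]
  (ρ : Representation K G V) (Q : Subgroup G)
  (hirr : ∀ W : Submodule K V, (∀ g ∈ Q, Submodule.map (ρ g) W ≤ W) → W = ⊥ ∨ W = ⊤)

include hirr in
theorem center_isSc {z : G} (hz : z ∈ Subgroup.center G) : IsSc (ρ z) := by
  apply isSc_of_commute (irr_of_hirr ρ Q hirr)
  intro g
  show ρ z * ρ (g : G) = ρ (g : G) * ρ z
  rw [← map_mul, ← map_mul, Subgroup.mem_center_iff.1 hz]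

theorem mem_center_of_isSc (hfaith : Function.Injective ρ) {u : G} (hu : IsSc (ρ u)) :
    u ∈ Subgroup.center G := by
  rw [Subgroup.mem_center_iff]
  intro g
  apply hfaith
  rw [map_mul, map_mul]
  exact ((hu.commute (ρ g)).eq).symm

include hirr in
/-- a central `p`-element is trivial -/
theorem eq_one_of_center_of_pow (hfaith : Function.Injective ρ) (p : ℕ) [Fact p.Prime]
    [CharP K p] {w : G} (hw : w ∈ Subgroup.center G) (k : ℕ) (hk : w ^ p ^ k = 1) : w = 1 := by
  obtain ⟨c, hc⟩ := center_isSc ρ Q hirr hw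
  have h1 : (ρ w) ^ p ^ k = 1 := by rw [← map_pow, hk, map_one]
  rw [hc, smul_pow, one_pow] at h1
  have h2 : c ^ p ^ k = 1 := by
    have : c ^ p ^ k • (1 : End K V) = (1 : K) • (1 : End K V) := by rw [h1, one_smul]
    exact smul_one_inj this
  have h3 : (c - 1) ^ p ^ k = 0 := by
    rw [sub_pow_char_pow, h2, one_pow, sub_self]
  have h4 : c = 1 := sub_eq_zero.1 (pow_eq_zero_iff (pow_ne_zero k (Fact.out : p.Prime).ne_zero) |>.1 h3)
  apply hfaith
  rw [hc, h4, one_smul, map_one]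

end config

section config2

variable [Finite G] [IsAlgClosed K] [FiniteDimensional K V] [Nontrivial V]
  (ρ : Representation K G V) (Q : Subgroup G)
  (hirr : ∀ W : Submodule K V, (∀ g ∈ Q, Submodule.map (ρ g) W ≤ W) → W = ⊥ ∨ W = ⊤)
  (hfaith : Function.Injective ρ) (p q : ℕ) [Fact p.Prime] [Fact q.Prime] [CharP K p]
  (hpq : p ≠ q) (hQ : IsPGroup q Q) (x : G) (hx : IsPGroup p (Subgroup.zpowers x))

include hirr hfaith hpq hQ hx in
/-- `Q ∩ ⟨x⟩ Z(G) ≤ Z(G)` -/
theorem mem_center_of_mem_sup {u : G} (hu : u ∈ Q)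
    (hu' : u ∈ Subgroup.zpowers x ⊔ Subgroup.center G) : u ∈ Subgroup.center G := by
  have hp : p.Prime := Fact.out
  have hq : q.Prime := Fact.out
  rw [Subgroup.mem_sup_of_normal_right] at hu'
  obtain ⟨a, ha, z, hz, rfl⟩ := hu'
  obtain ⟨e, he⟩ := IsPGroup.iff_card.1 hQ
  obtain ⟨n, hn⟩ := IsPGroup.iff_card.1 hx
  rw [Nat.card_zpowers] at hn
  have h1 : (a * z) ^ q ^ e = 1 := by
    have : (⟨a * z, hu⟩ : Q) ^ Nat.card Q = 1 := pow_card_eq_one'
    rw [he] at this
    have := congrArg Subtype.val this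
    simpa using this
  have hcomm : Commute a z := (Subgroup.mem_center_iff.1 hz) a
  rw [hcomm.mul_pow] at h1
  have h2 : a ^ q ^ e ∈ Subgroup.center G := by
    have : a ^ q ^ e = (z ^ q ^ e)⁻¹ := eq_inv_of_mul_eq_one_left h1
    rw [this]
    exact Subgroup.inv_mem _ (Subgroup.pow_mem _ hz _)
  have h3 : (a ^ q ^ e) ^ p ^ n = 1 := by
    rw [← pow_mul, mul_comm, pow_mul]
    have : a ^ p ^ n = 1 := by
      rw [← hn]
      exact orderOf_dvd_iff_pow_eq_one.1 (orderOf_dvd_of_mem_zpowers ha)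
    rw [this, one_pow]
  have h4 : a ^ q ^ e = 1 := eq_one_of_center_of_pow ρ Q hirr hfaith p h2 n h3
  have h5 : orderOf a ∣ q ^ e := orderOf_dvd_of_pow_eq_one h4
  have h6 : orderOf a ∣ p ^ n := by
    rw [← hn]
    exact orderOf_dvd_of_mem_zpowers ha
  have h7 : orderOf a = 1 := by
    have hcop : Nat.Coprime (q ^ e) (p ^ n) :=
      Nat.Coprime.pow _ _ ((Nat.coprime_primes hq hp).2 (Ne.symm hpq))
    exact Nat.eq_one_of_dvd_coprimes hcop h5 h6
  rw [orderOf_eq_one_iff] at h7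
  rw [h7, one_mul]
  exact hz

include hirr hfaith hpq hQ hx in
/-- `⟨x⟩` acts freely on `Q` modulo the centre -/
theorem free_mod_center [hQn : Q.Normal]
    (hC : ∀ y ∈ Subgroup.zpowers x, y ≠ 1 →
      Subgroup.centralizer ({y} : Set G) = Subgroup.zpowers x ⊔ Subgroup.center G)
    {y : G} (hy : y ∈ Subgroup.zpowers x) (hy1 : y ≠ 1) {u : G} (hu : u ∈ Q)
    (hsc : IsSc (ρ (y * u * y⁻¹ * u⁻¹))) : u ∈ Subgroup.center G := by
  have hp : p.Prime := Fact.out
  have hq : q.Prime := Fact.out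
  obtain ⟨e, he⟩ := IsPGroup.iff_card.1 hQ
  obtain ⟨n, hn⟩ := IsPGroup.iff_card.1 hx
  rw [Nat.card_zpowers] at hn
  obtain ⟨z₀, hz₀⟩ : ∃ z, z = y * u * y⁻¹ * u⁻¹ := ⟨_, rfl⟩
  rw [← hz₀] at hsc
  have hz₀c : z₀ ∈ Subgroup.center G := mem_center_of_isSc ρ hfaith hsc
  have hz₀Q : z₀ ∈ Q := by
    rw [hz₀]
    exact Q.mul_mem (hQn.conj_mem u hu y) (Q.inv_mem hu)
  have hyu : y * u * y⁻¹ = z₀ * u := by rw [hz₀]; group
  have key : ∀ k : ℕ, y ^ k * u * (y ^ k)⁻¹ = z₀ ^ k * u := by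
    intro k
    induction k with
    | zero => simp
    | succ k ih =>
      have hzk : z₀ ^ k ∈ Subgroup.center G := Subgroup.pow_mem _ hz₀c _
      calc y ^ (k + 1) * u * (y ^ (k + 1))⁻¹ = y * (y ^ k * u * (y ^ k)⁻¹) * y⁻¹ := by
            rw [pow_succ']; group
        _ = y * (z₀ ^ k * u) * y⁻¹ := by rw [ih]
        _ = z₀ ^ k * (y * u * y⁻¹) := by
            rw [← mul_assoc, (Subgroup.mem_center_iff.1 hzk y)]
            group
        _ = z₀ ^ (k + 1) * u := by rw [hyu, pow_succ, mul_assoc]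
  have h1 : z₀ ^ orderOf y = 1 := by
    have := key (orderOf y)
    rw [pow_orderOf_eq_one, one_mul, inv_one, mul_one] at this
    exact (mul_eq_right.1 this.symm)
  have h2 : orderOf z₀ ∣ p ^ n := by
    rw [← hn]
    exact (orderOf_dvd_of_pow_eq_one h1).trans (orderOf_dvd_of_mem_zpowers hy)
  have h3 : orderOf z₀ ∣ q ^ e := by
    apply orderOf_dvd_of_pow_eq_one
    have : (⟨z₀, hz₀Q⟩ : Q) ^ Nat.card Q = 1 := pow_card_eq_one'
    rw [he] at this
    have := congrArg Subtype.val this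
    simpa using this
  have h4 : z₀ = 1 := by
    have hcop : Nat.Coprime (q ^ e) (p ^ n) :=
      Nat.Coprime.pow _ _ ((Nat.coprime_primes hq hp).2 (Ne.symm hpq))
    exact orderOf_eq_one_iff.1 (Nat.eq_one_of_dvd_coprimes hcop h3 h2)
  have h5 : u ∈ Subgroup.centralizer ({y} : Set G) := by
    rw [Subgroup.mem_centralizer_iff]
    intro h hh
    rw [Set.mem_singleton_iff.1 hh]
    rw [h4, one_mul] at hyu
    calc y * u = (y * u * y⁻¹) * y := by group
      _ = u * y := by rw [hyu]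
  rw [hC y hy hy1] at h5
  exact mem_center_of_mem_sup ρ Q hirr hfaith p q hpq hQ x hx hu h5

include hpq hQ in
theorem card_Q_ne_zero : (Nat.card Q : K) ≠ 0 := by
  have hp : p.Prime := Fact.out
  have hq : q.Prime := Fact.out
  obtain ⟨e, he⟩ := IsPGroup.iff_card.1 hQ
  rw [he, Nat.cast_pow]
  apply pow_ne_zero
  rw [Ne, CharP.cast_eq_zero_iff K p q, Nat.prime_dvd_prime_iff_eq hp hq]
  exact hpq

include hirr hfaith hpq hQ hx in
/-- the modular commutant bound in the critical configuration -/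
theorem main_bound [hQn : Q.Normal]
    (hC : ∀ y ∈ Subgroup.zpowers x, y ≠ 1 →
      Subgroup.centralizer ({y} : Set G) = Subgroup.zpowers x ⊔ Subgroup.center G)
    (n : ℕ) (hn : orderOf x = p ^ n) :
    p ^ n * finrank K (commSub (ρ x - 1)) ≤ p ^ n - 1 + (finrank K V) ^ 2 := by
  let ρQ : Representation K Q V := ρ.comp Q.subtype
  let τ : Representation K (Subgroup.zpowers x) V := ρ.comp (Subgroup.zpowers x).subtype
  let Φ : Subgroup.zpowers x →* MulAut Q :=
    (MulAut.conjNormal (H := Q)).comp (Subgroup.zpowers x).subtype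
  have hΦ : ∀ (h : Subgroup.zpowers x) (g : Q), ((Φ h g : Q) : G) = h * g * (h : G)⁻¹ := by
    intro h g
    exact MulAut.conjNormal_apply (h : G) g
  have hcomp : ∀ h g, τ h * ρQ g = ρQ (Φ h g) * τ h := by
    intro h g
    show ρ (h : G) * ρ (g : G) = ρ ((Φ h g : Q) : G) * ρ (h : G)
    rw [hΦ, ← map_mul, ← map_mul]
    congr 1
    group
  have hfree : ∀ h : Subgroup.zpowers x, h ≠ 1 → ∀ g, Φ h g * g⁻¹ ∈ scSubgroup ρQ →
      g ∈ scSubgroup ρQ := by
    intro h hh g hg
    have h1 : IsSc (ρ ((h : G) * g * (h : G)⁻¹ * (g : G)⁻¹)) := by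
      have : IsSc (ρQ (Φ h g * g⁻¹)) := hg
      have e : ((Φ h g * g⁻¹ : Q) : G) = (h : G) * g * (h : G)⁻¹ * (g : G)⁻¹ := by
        rw [Subgroup.coe_mul, hΦ, Subgroup.coe_inv]
      rw [← e]
      exact this
    have hh' : (h : G) ≠ 1 := fun h0 => hh (Subtype.ext h0)
    have h2 := free_mod_center ρ Q hirr hfaith p q hpq hQ x hx hC h.2 hh' g.2 h1
    exact center_isSc ρ Q hirr h2
  have hcard : Nat.card (Subgroup.zpowers x) = p ^ n := by rw [Nat.card_zpowers, hn]
  let x₀ : Subgroup.zpowers x := ⟨x, Subgroup.mem_zpowers x⟩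
  have hgen : ∀ h : Subgroup.zpowers x, h ∈ Subgroup.zpowers x₀ := by
    rintro ⟨y, hy⟩
    obtain ⟨k, rfl⟩ := Subgroup.mem_zpowers_iff.1 hy
    rw [Subgroup.mem_zpowers_iff]
    exact ⟨k, Subtype.ext (by simp [x₀])⟩
  have hQfin : Finite Q := inferInstance
  have hHfin : Finite (Subgroup.zpowers x) := inferInstance
  have key := mul_finrank_commSub_le ρQ τ Φ (irr_of_hirr ρ Q hirr)
    (card_Q_ne_zero (K := K) Q p q hpq hQ) hcomp hfree p n hcard x₀ hgen
  rw [commSub_sub_one]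
  exact key

include hirr hfaith hpq hQ hx in
/-- if `dim V < |⟨x⟩|` then abelian subgroups of `Q` normal in `G` are central -/
theorem abelian_normal_le_center [Q.Normal]
    (hC : ∀ y ∈ Subgroup.zpowers x, y ≠ 1 →
      Subgroup.centralizer ({y} : Set G) = Subgroup.zpowers x ⊔ Subgroup.center G)
    (n : ℕ) (hn : orderOf x = p ^ (n + 1)) (hd : finrank K V < p ^ (n + 1))
    (A : Subgroup G) (hAn : A.Normal) (hAQ : A ≤ Q)
    (hAab : ∀ a ∈ A, ∀ b ∈ A, a * b = b * a) : A ≤ Subgroup.center G := by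
  have hp : p.Prime := Fact.out
  let ρA : Representation K A V := ρ.comp A.subtype
  let τ : Representation K (Subgroup.zpowers x) V := ρ.comp (Subgroup.zpowers x).subtype
  let Φ : Subgroup.zpowers x →* MulAut A :=
    (MulAut.conjNormal (H := A)).comp (Subgroup.zpowers x).subtype
  have hΦ : ∀ (h : Subgroup.zpowers x) (g : A), ((Φ h g : A) : G) = h * g * (h : G)⁻¹ := by
    intro h g
    exact MulAut.conjNormal_apply (h : G) g
  have hcomp : ∀ h g, τ h * ρA g = ρA (Φ h g) * τ h := by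
    intro h g
    show ρ (h : G) * ρ (g : G) = ρ ((Φ h g : A) : G) * ρ (h : G)
    rw [hΦ, ← map_mul, ← map_mul]
    congr 1
    group
  have hAq : IsPGroup q A := hQ.to_le hAQ
  have hAK : (Nat.card A : K) ≠ 0 := card_Q_ne_zero (K := K) A p q hpq hAq
  let x₀ : Subgroup.zpowers x := ⟨x, Subgroup.mem_zpowers x⟩
  have hord : orderOf x₀ = p ^ (n + 1) := by
    rw [Subgroup.orderOf_mk]
    exact hn
  have hAcomm : ∀ a b : A, a * b = b * a := by
    intro a b
    exact Subtype.ext (hAab a a.2 b b.2)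
  have key := conj_fix_of_finrank_lt hAcomm ρA τ Φ hAK hcomp p n x₀ hord hd
  have hy₀ : x ^ p ^ n ∈ Subgroup.zpowers x := Subgroup.pow_mem _ (Subgroup.mem_zpowers x) _
  have hy₀1 : x ^ p ^ n ≠ 1 := by
    intro h
    have h1 := orderOf_dvd_of_pow_eq_one h
    rw [hn] at h1
    have h2 := Nat.le_of_dvd (pow_pos hp.pos n) h1
    have h3 : p ^ n < p ^ (n + 1) := Nat.pow_lt_pow_right hp.one_lt (Nat.lt_succ_self n)
    omega
  intro a ha
  have h1 := key ⟨a, ha⟩
  have h2 : ρ ((Φ (x₀ ^ p ^ n) ⟨a, ha⟩ : A) : G) = ρ a := h1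
  rw [hΦ] at h2
  have h3 := hfaith h2
  have h4 : ((x₀ ^ p ^ n : Subgroup.zpowers x) : G) = x ^ p ^ n := by simp [x₀]
  rw [h4] at h3
  simp only at h3
  have h5 : a ∈ Subgroup.centralizer ({x ^ p ^ n} : Set G) := by
    rw [Subgroup.mem_centralizer_iff]
    intro h hh
    rw [Set.mem_singleton_iff.1 hh]
    calc x ^ p ^ n * a = (x ^ p ^ n * a * (x ^ p ^ n)⁻¹) * x ^ p ^ n := by group
      _ = a * x ^ p ^ n := by rw [h3]
  rw [hC _ hy₀ hy₀1] at h5
  exact mem_center_of_mem_sup ρ Q hirr hfaith p q hpq hQ x hx (hAQ ha) h5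

include hirr hfaith hpq hQ hx in
/-- if `dim V < |⟨x⟩|` then `dim V` is a power of `q` -/
theorem finrank_eq_prime_pow [hQn : Q.Normal]
    (hC : ∀ y ∈ Subgroup.zpowers x, y ≠ 1 →
      Subgroup.centralizer ({y} : Set G) = Subgroup.zpowers x ⊔ Subgroup.center G)
    (n : ℕ) (hn : orderOf x = p ^ (n + 1)) (hd : finrank K V < p ^ (n + 1)) :
    ∃ b : ℕ, finrank K V = q ^ b := by
  have hq : q.Prime := Fact.out
  have hcl := commutator_mem_center_of_abelian_normal_le_center q Q hQ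
    (abelian_normal_le_center ρ Q hirr hfaith p q hpq hQ x hx hC n hn hd)
  let ρQ : Representation K Q V := ρ.comp Q.subtype
  have hirr' : Irr ρQ := irr_of_hirr ρ Q hirr
  have hES : ESRep ρQ := by
    constructor
    · intro g h
      obtain ⟨c, hc⟩ := center_isSc ρ Q hirr (hcl g g.2 h h.2)
      refine ⟨c, ?_⟩
      show ρ (g : G) * ρ (h : G) = c • (ρ (h : G) * ρ (g : G))
      have e : (g : G) * h = ⁅(g : G), (h : G)⁆ * (h * g) := by
        rw [commutatorElement_def]; group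
      rw [← map_mul, e, map_mul, hc, smul_mul_assoc, one_mul, map_mul]
    · intro g hg
      apply isSc_of_commute hirr'
      intro h
      exact (hg h).eq
  have h1 := ESRep.card_quot hES hirr'
  obtain ⟨e, he⟩ := IsPGroup.iff_card.1 hQ
  have h2 : (finrank K V) ^ 2 ∣ q ^ e := by
    rw [← h1, ← he]
    exact Subgroup.card_quotient_dvd_card _
  have h3 : finrank K V ∣ q ^ e := (dvd_pow_self _ two_ne_zero).trans h2
  obtain ⟨b, _, hb⟩ := (Nat.dvd_prime_pow hq).1 h3
  exact ⟨b, hb⟩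

include hirr in
/-- if `Q` is abelian then `dim V = 1` -/
theorem finrank_eq_one_of_comm (hcomm : IsMulCommutative Q) : finrank K V = 1 := by
  let ρQ : Representation K Q V := ρ.comp Q.subtype
  have hirr' : Irr ρQ := irr_of_hirr ρ Q hirr
  have hsc : ∀ g : Q, IsSc (ρQ g) := by
    intro g
    apply isSc_of_commute hirr'
    intro h
    show ρ (g : G) * ρ (h : G) = ρ (h : G) * ρ (g : G)
    rw [← map_mul, ← map_mul]
    congr 1
    have := hcomm.is_comm.comm g h
    exact congrArg Subtype.val this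
  have hES : ESRep ρQ := by
    constructor
    · intro g h
      refine ⟨1, ?_⟩
      rw [one_smul]
      exact ((hsc g).commute (ρQ h)).eq
    · intro g _
      exact hsc g
  have h1 := ESRep.card_quot hES hirr'
  have h2 : scSubgroup ρQ = ⊤ := by
    rw [eq_top_iff]
    intro g _
    exact hsc g
  rw [h2] at h1
  have h3 : Nat.card (Q ⧸ (⊤ : Subgroup Q)) = 1 := by
    rw [← Subgroup.index_eq_card, Subgroup.index_top]
  rw [h3] at h1
  have : finrank K V ^ 2 = 1 := h1.symm
  rcases pow_eq_one_iff.1 this with h | h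
  · exact h
  · exact absurd h two_ne_zero

end config2

end Cfsg.Agent.Lib.Helper71_HHRep
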