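import Mathlib
import Cfsg.Agent.S4282
import Cfsg.Agent.Lib.Helper71_HHBGroup
import Cfsg.Agent.Lib.Helper71_HHWeights
import Cfsg.Agent.Lib.Helper71_HHRep
import Cfsg.Agent.Lib.Helper71_ESLinear
import Cfsg.Agent.Lib.Helper71_NilpComm

/-!
# The critical case of Hall--Higman Theorem B for a linear group (helper71)

`P ≤ GL(U)` an irreducible `q`-group, minimal among the `x`-invariant subgroups not centralised by
`y = x^(p^n)`, `x` of order `p^(n+1)`: the critical configuration `S4282` applies to `P⟨x⟩`.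
-/

set_option autoImplicit false

namespace Cfsg.Agent.Lib.Helper71_HHBCrit
open Cfsg.Agent.Lib.Helper71_HHBGroup Cfsg.Agent.Lib.Helper71_HHWeights
  Cfsg.Agent.Lib.Helper71_HHRep Cfsg.Agent.Lib.Helper71_ESLinear Cfsg.Agent.Lib.Helper71_NilpComm

variable {K : Type*} [Field K] {U : Type*} [AddCommGroup U] [Module K U]

theorem pow_conj_mem {G : Type*} [Group G] (P : Subgroup G) (x : G)
    (hx : ∀ g ∈ P, x * g * x⁻¹ ∈ P) (k : ℕ) : ∀ g ∈ P, x ^ k * g * (x ^ k)⁻¹ ∈ P := by
  induction k with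
  | zero => intro g hg; simpa using hg
  | succ k ih =>
    intro g hg
    have := hx _ (ih g hg)
    have e : x ^ (k + 1) * g * (x ^ (k + 1))⁻¹ = x * (x ^ k * g * (x ^ k)⁻¹) * x⁻¹ := by
      rw [pow_succ']; group
    rw [e]
    exact this

theorem critical_case [IsAlgClosed K] [FiniteDimensional K U] [Nontrivial U]
    (p q : ℕ) [Fact p.Prime] [Fact q.Prime] [CharP K p] (hpq : p ≠ q) (n : ℕ)
    (x : U ≃ₗ[K] U) (hx : x ^ p ^ (n + 1) = 1) (P : Subgroup (U ≃ₗ[K] U)) [Finite P]
    (hP : IsPGroup q P) (hnorm : ∀ g ∈ P, x * g * x⁻¹ ∈ P)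
    (hirr : ∀ W : Submodule K U, (∀ g ∈ P, ∀ w ∈ W, g w ∈ W) → W = ⊥ ∨ W = ⊤)
    (hmoved : ∃ g ∈ P, ¬ Commute (x ^ p ^ n) g)
    (hmin : ∀ T ≤ P, (∀ g ∈ T, x * g * x⁻¹ ∈ T) → T ≠ P → ∀ g ∈ T, Commute (x ^ p ^ n) g) :
    ((x : U →ₗ[K] U) - 1) ^ (p ^ (n + 1) - 1) ≠ 0 ∨
      (∃ m, 1 ≤ m ∧ p ^ (n + 1) - 1 = q ^ m ∧ ¬ IsMulCommutative P ∧
        ((x : U →ₗ[K] U) - 1) ^ (p ^ (n + 1) - 2) ≠ 0) := by
  classical
  have hp : p.Prime := Fact.out
  obtain ⟨y, hy⟩ : ∃ y, y = x ^ p ^ n := ⟨_, rfl⟩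
  rw [← hy] at hmoved hmin
  have hxy : Commute x y := by rw [hy]; exact (Commute.refl x).pow_right _
  have hyp : y ^ p ^ 1 = 1 := by rw [pow_one, hy, ← pow_mul, ← pow_succ, hx]
  have hyP : ∀ g ∈ P, y * g * y⁻¹ ∈ P := by rw [hy]; exact pow_conj_mem P x hnorm _
  obtain ⟨_, hcent⟩ := minimal_moved_props p q hpq x y hxy 1 hyp P hP hnorm hyP hmoved hmin
  have hy1 : ¬ x ^ p ^ n = 1 := by
    intro h
    obtain ⟨g, _, hg⟩ := hmoved
    apply hg
    rw [hy, h]
    exact Commute.one_left g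
  have hord : orderOf x = p ^ (n + 1) := orderOf_eq_prime_pow hy1 hx
  -- the group `G' = P ⟨x⟩`
  obtain ⟨G', hG'⟩ : ∃ G' : Subgroup (U ≃ₗ[K] U), G' = P ⊔ Subgroup.zpowers x := ⟨_, rfl⟩
  have hPG : P ≤ G' := by rw [hG']; exact le_sup_left
  have hxG : x ∈ G' := by rw [hG']; exact le_sup_right (α := Subgroup (U ≃ₗ[K] U)) (Subgroup.mem_zpowers x)
  have hnormalizer : G' ≤ Subgroup.normalizer (P : Set (U ≃ₗ[K] U)) := by
    rw [hG']
    apply sup_le Subgroup.le_normalizer
    rw [Subgroup.zpowers_le, Subgroup.mem_normalizer_iff]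
    intro h
    constructor
    · exact hnorm h
    · intro hh
      have := inv_conj_mem_of_finite P x hnorm _ hh
      have e : x⁻¹ * (x * h * x⁻¹) * x = h := by group
      rwa [e] at this
  have hQn : (P.subgroupOf G').Normal := Subgroup.normal_subgroupOf_of_le_normalizer hnormalizer
  obtain ⟨xG, hxG'⟩ : ∃ xG : G', xG = ⟨x, hxG⟩ := ⟨_, rfl⟩
  have hxGc : (xG : U ≃ₗ[K] U) = x := by rw [hxG']
  have hgen : P.subgroupOf G' ⊔ Subgroup.zpowers xG = ⊤ := by
    rw [eq_top_iff]
    have h1 : G' ≤ (P.subgroupOf G' ⊔ Subgroup.zpowers xG).map G'.subtype := by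
      have h0 : P ⊔ Subgroup.zpowers x ≤ (P.subgroupOf G' ⊔ Subgroup.zpowers xG).map G'.subtype := ?_
      · rw [← hG'] at h0; exact h0
      apply sup_le
      · intro g hg
        exact ⟨⟨g, hPG hg⟩, (le_sup_left : P.subgroupOf G' ≤ _) (Subgroup.mem_subgroupOf.2 hg), rfl⟩
      · rw [Subgroup.zpowers_le]
        exact ⟨xG, (le_sup_right : Subgroup.zpowers xG ≤ _) (Subgroup.mem_zpowers xG), hxGc⟩
    intro u _
    obtain ⟨u', hu', huu'⟩ := h1 u.2
    have : u' = u := Subtype.ext huu'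
    rw [← this]
    exact hu'
  have hordG : orderOf xG = p ^ (n + 1) := by
    rw [← hord, ← hxGc, Subgroup.orderOf_coe]
  have hZfin : Finite (Subgroup.zpowers xG) := by
    apply Nat.finite_of_card_ne_zero
    rw [Nat.card_zpowers, hordG]
    exact (pow_pos hp.pos _).ne'
  have hQfin : Finite (P.subgroupOf G') :=
    Finite.of_injective (fun g : P.subgroupOf G' => (⟨(g : G'), Subgroup.mem_subgroupOf.1 g.2⟩ : P))
      (fun a b hab => by
        have := congrArg (fun g : P => (g : U ≃ₗ[K] U)) hab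
        exact Subtype.ext (Subtype.ext this))
  have hGfin : Finite G' := by
    have hsurj : Function.Surjective
        (fun ab : (P.subgroupOf G') × (Subgroup.zpowers xG) => (ab.1 : G') * (ab.2 : G')) := by
      intro u
      have hu : u ∈ P.subgroupOf G' ⊔ Subgroup.zpowers xG := by rw [hgen]; trivial
      obtain ⟨a, ha, b, hb, hab⟩ := Subgroup.mem_sup_of_normal_left.1 hu
      exact ⟨(⟨a, ha⟩, ⟨b, hb⟩), hab⟩
    exact Finite.of_surjective _ hsurj
  let ρ : Representation K G' U :=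
    { toFun := fun g => ((g : U ≃ₗ[K] U) : U →ₗ[K] U)
      map_one' := rfl
      map_mul' := fun _ _ => rfl }
  have hρa : ∀ (g : G') (u : U), ρ g u = (g : U ≃ₗ[K] U) u := fun _ _ => rfl
  have hfaith : Function.Injective ρ := by
    intro a b hab
    apply Subtype.ext
    ext u
    have := congrArg (fun f : U →ₗ[K] U => f u) hab
    exact this
  have hirr' : ∀ W : Submodule K U, (∀ g ∈ P.subgroupOf G', Submodule.map (ρ g) W ≤ W) →
      W = ⊥ ∨ W = ⊤ := by
    intro W hW
    apply hirr W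
    intro g hg w hw
    have := hW ⟨g, hPG hg⟩ (Subgroup.mem_subgroupOf.2 hg) ⟨w, hw, rfl⟩
    exact this
  have hQG : IsPGroup q (P.subgroupOf G') := hP.comap_subtype
  have hxGpow : xG ^ p ^ (n + 1) = 1 := by
    apply Subtype.ext
    rw [Subgroup.coe_pow, hxGc, hx]
    rfl
  have hxGp : IsPGroup p (Subgroup.zpowers xG) := by
    intro g
    refine ⟨n + 1, ?_⟩
    obtain ⟨g, hg⟩ := g
    obtain ⟨k, rfl⟩ := Subgroup.mem_zpowers_iff.1 hg
    apply Subtype.ext
    rw [Subgroup.coe_pow]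
    show (xG ^ k) ^ p ^ (n + 1) = 1
    rw [← zpow_natCast, ← zpow_mul, mul_comm, zpow_mul, zpow_natCast, hxGpow, one_zpow]
  have hcard : Nat.card (Subgroup.zpowers xG) = p ^ (n + 1) := by rw [Nat.card_zpowers, hordG]
  -- the centraliser condition
  have hC : ∀ y' ∈ Subgroup.zpowers xG, y' ≠ 1 →
      Subgroup.centralizer ({y'} : Set G') = Subgroup.zpowers xG ⊔ Subgroup.center G' := by
    intro y' hy' hy'1
    apply le_antisymm
    · intro u hu
      have hu' : u ∈ P.subgroupOf G' ⊔ Subgroup.zpowers xG := by rw [hgen]; trivial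
      obtain ⟨a, ha, b, hb, hab⟩ := Subgroup.mem_sup_of_normal_left.1 hu'
      have hby' : Commute b y' := by
        obtain ⟨k, rfl⟩ := Subgroup.mem_zpowers_iff.1 hb
        obtain ⟨l, rfl⟩ := Subgroup.mem_zpowers_iff.1 hy'
        exact ((Commute.refl xG).zpow_zpow k l)
      have huy' : Commute u y' := by
        rw [Subgroup.mem_centralizer_iff] at hu
        exact (hu y' rfl).symm
      have hay' : Commute a y' := by
        have : a = u * b⁻¹ := by rw [← hab]; group
        rw [this]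
        exact huy'.mul_left hby'.inv_left
      -- `y'` is a power of `xG`
      have hfo : IsOfFinOrder xG := isOfFinOrder_iff_pow_eq_one.2 ⟨p ^ (n + 1), pow_pos hp.pos _, hxGpow⟩
      rw [hfo.mem_zpowers_iff_mem_range_orderOf, Finset.mem_image] at hy'
      obtain ⟨k, hk, rfl⟩ := hy'
      rw [Finset.mem_range, hordG] at hk
      have hk0 : 0 < k := by
        rcases Nat.eq_zero_or_pos k with h0 | h0
        · exfalso; apply hy'1; rw [h0]; exact pow_zero xG
        · exact h0
      have hmem : xG ^ k ∈ Subgroup.centralizer ({a} : Set G') := by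
        rw [Subgroup.mem_centralizer_iff]
        intro h hh
        rw [Set.mem_singleton_iff.1 hh]
        exact hay'.eq
      have h1 := pow_mem_of_pow_mem p n xG hordG (Subgroup.centralizer ({a} : Set G')) k hk0 hk hmem
      rw [Subgroup.mem_centralizer_iff] at h1
      have h2 : a * xG ^ p ^ n = xG ^ p ^ n * a := h1 a rfl
      have h3 : Commute y (a : U ≃ₗ[K] U) := by
        have := congrArg (fun g : G' => (g : U ≃ₗ[K] U)) h2
        simp only [Subgroup.coe_mul, Subgroup.coe_pow, hxGc] at this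
        rw [hy]
        exact this.symm
      have haP : (a : U ≃ₗ[K] U) ∈ P := Subgroup.mem_subgroupOf.1 ha
      have h4 := hcent _ haP h3
      -- `a` is a scalar
      have h5 : IsSc (ρ a) := by
        apply isSc_of_commute (irr_of_hirr ρ (P.subgroupOf G') hirr')
        intro g
        show ρ a * ρ (g : G') = ρ (g : G') * ρ a
        rw [← map_mul ρ, ← map_mul ρ]
        congr 1
        apply Subtype.ext
        rw [Subgroup.coe_mul, Subgroup.coe_mul]
        exact (h4 _ (Subgroup.mem_subgroupOf.1 g.2)).eq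
      have h6 : a ∈ Subgroup.center G' := mem_center_of_isSc ρ hfaith h5
      rw [← hab, sup_comm]
      exact Subgroup.mul_mem_sup h6 hb
    · apply sup_le
      · rw [Subgroup.zpowers_le, Subgroup.mem_centralizer_iff]
        intro h hh
        rw [Set.mem_singleton_iff.1 hh]
        obtain ⟨l, rfl⟩ := Subgroup.mem_zpowers_iff.1 hy'
        exact ((Commute.refl xG).zpow_left l).eq
      · exact Subgroup.center_le_centralizer _
  -- the nilpotency index
  obtain ⟨N, hN⟩ : ∃ N : Module.End K U, N = ρ xG - 1 := ⟨_, rfl⟩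
  have hNx : N = (x : U →ₗ[K] U) - 1 := by
    rw [hN]
    congr 1
    ext u
    rw [hρa, hxGc]
    rfl
  rw [← hNx]
  have hNP : N ^ p ^ (n + 1) = 0 := by
    rw [hN, sub_one_pow_char_pow (K := K) p (n + 1), ← map_pow ρ, hxGpow, map_one, sub_self]
  have hex : ∃ s, N ^ s = 0 := ⟨_, hNP⟩
  obtain ⟨s, hs⟩ : ∃ s, s = Nat.find hex := ⟨_, rfl⟩
  have hs0 : N ^ s = 0 := by rw [hs]; exact Nat.find_spec hex
  have hsmin : ∀ k < s, N ^ k ≠ 0 := by
    intro k hk
    rw [hs] at hk
    exact Nat.find_min hex hk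
  have key := Cfsg.Agent.S4282.result p q hpq (P.subgroupOf G') hQG xG hxGp hgen hC ρ hfaith hirr' s
    (by rw [← hN]; exact hs0) (by rw [← hN]; exact hsmin)
  rw [hcard] at key
  obtain ⟨k1, k2, k3⟩ := key
  have hpos : 2 ≤ p ^ (n + 1) := by
    calc 2 ≤ p := hp.two_le
      _ = p ^ 1 := (pow_one p).symm
      _ ≤ p ^ (n + 1) := Nat.pow_le_pow_right hp.pos (by omega)
  have hs1 : s ≠ 1 := by
    intro h1
    rw [h1, pow_one] at hs0
    have hx1 : x = 1 := by
      ext u
      have := congrArg (fun f : Module.End K U => f u) hs0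
      rw [hNx] at this
      simp only [LinearMap.sub_apply, LinearMap.zero_apply, sub_eq_zero] at this
      exact this
    apply hy1
    rw [hx1, one_pow]
  rcases Nat.lt_or_ge s (p ^ (n + 1)) with hlt | hge
  · right
    have hseq : s = p ^ (n + 1) - 1 := by clear k3; omega
    have hlt2 : p ^ (n + 1) - 2 < s := by clear k3; omega
    have hne2 : p ^ (n + 1) - 1 ≠ 1 := by clear k3; omega
    obtain ⟨⟨b, hb⟩, hnc⟩ := k3 hseq
    refine ⟨b, ?_, hb, ?_, ?_⟩
    · rcases Nat.eq_zero_or_pos b with h0 | h0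
      · exfalso
        rw [h0, pow_zero] at hb
        exact hne2 hb
      · exact h0
    · intro hcomm
      apply hnc
      infer_instance
    · exact hsmin _ hlt2
  · left
    have : p ^ (n + 1) - 1 < s := by clear k3; omega
    exact hsmin _ this

end Cfsg.Agent.Lib.Helper71_HHBCrit
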