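import Mathlib
import Cfsg.Agent.Lib.Helper71_HHBTwist

/-!
# An invariant simple subspace of an invariant isotypic component (helper71)

If `U₀` is a simple `Q`-subspace with `x U₀ ≅ U₀` (equivariantly), then over an algebraically
closed field some simple `Q`-subspace `U' ≅ U₀` is `x`-invariant (eigenvector of `f ↦ x ∘ f ∘ φ₀`
on the space of equivariant maps `U₀ → V`).
-/

set_option autoImplicit false

namespace Cfsg.Agent.Lib.Helper71_HHBEigen
open Cfsg.Agent.Lib.Helper71_HHBTwist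

variable {K : Type*} [Field K] {Q : Type*} [Group Q] {V : Type*} [AddCommGroup V] [Module K V]

theorem comp_symm {ρ : Representation K Q V} {x : V ≃ₗ[K] V} {φ : Q ≃* Q}
    (hcomp : ∀ g v, x (ρ g v) = ρ (φ g) (x v)) (g : Q) (v : V) :
    x.symm (ρ g v) = ρ (φ.symm g) (x.symm v) := by
  apply x.injective
  rw [hcomp, LinearEquiv.apply_symm_apply, MulEquiv.apply_symm_apply, LinearEquiv.apply_symm_apply]

/-- the image of a simple invariant subspace under a compatible automorphism is simple invariant -/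
theorem IsSimpleInv.map {ρ : Representation K Q V} {U : Submodule K V} (h : IsSimpleInv ρ U)
    (x : V ≃ₗ[K] V) (φ : Q ≃* Q) (hcomp : ∀ g v, x (ρ g v) = ρ (φ g) (x v)) :
    IsSimpleInv ρ (U.map (x : V →ₗ[K] V)) := by
  refine ⟨?_, ?_, ?_⟩
  · rintro g _ ⟨u, hu, rfl⟩
    refine ⟨ρ (φ.symm g) u, h.1 _ u hu, ?_⟩
    show x (ρ (φ.symm g) u) = ρ g (x u)
    rw [hcomp, MulEquiv.apply_symm_apply]
  · intro h0
    apply h.2.1
    rw [Submodule.eq_bot_iff] at h0 ⊢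
    intro u hu
    have := h0 (x u) ⟨u, hu, rfl⟩
    exact x.map_eq_zero_iff.1 this
  · intro U' hU' hinv
    have h1 : U'.comap (x : V →ₗ[K] V) ≤ U := by
      intro u hu
      obtain ⟨u₁, hu₁, hu₁'⟩ := hU' hu
      have : u₁ = u := x.injective hu₁'
      rw [← this]
      exact hu₁
    have h2 : ∀ g, ∀ u ∈ U'.comap (x : V →ₗ[K] V), ρ g u ∈ U'.comap (x : V →ₗ[K] V) := by
      intro g u hu
      show x (ρ g u) ∈ U'
      rw [hcomp]
      exact hinv _ _ hu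
    rcases h.2.2 _ h1 h2 with h3 | h3
    · left
      rw [Submodule.eq_bot_iff] at h3 ⊢
      intro u hu
      have := h3 (x.symm u) (by show x (x.symm u) ∈ U'; rw [LinearEquiv.apply_symm_apply]; exact hu)
      exact x.symm.map_eq_zero_iff.1 this
    · right
      apply le_antisymm hU'
      rintro _ ⟨u, hu, rfl⟩
      rw [← h3] at hu
      exact hu

theorem exists_invariant_simple [IsAlgClosed K] [FiniteDimensional K V]
    (ρ : Representation K Q V) (x : V ≃ₗ[K] V) (φ : Q ≃* Q)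
    (hcomp : ∀ g v, x (ρ g v) = ρ (φ g) (x v))
    (U₀ : Submodule K V) (hU₀ : IsSimpleInv ρ U₀)
    (hiso : EquivIso ρ U₀ (U₀.map (x : V →ₗ[K] V))) :
    ∃ U' : Submodule K V, IsSimpleInv ρ U' ∧ (∀ u ∈ U', x u ∈ U') ∧ EquivIso ρ U₀ U' := by
  obtain ⟨e, he⟩ := hiso
  -- the twisting map `φ₀`
  have hmem : ∀ u : U₀, x.symm ((e u : U₀.map (x : V →ₗ[K] V)) : V) ∈ U₀ := by
    intro u
    obtain ⟨u', hu', hu'e⟩ := (e u).2
    rw [← hu'e]
    show x.symm (x u') ∈ U₀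
    rw [LinearEquiv.symm_apply_apply]
    exact hu'
  let φ₀ : U₀ →ₗ[K] U₀ :=
    LinearMap.codRestrict U₀
      ((x.symm : V →ₗ[K] V) ∘ₗ (U₀.map (x : V →ₗ[K] V)).subtype ∘ₗ
        (e : U₀ →ₗ[K] (U₀.map (x : V →ₗ[K] V)))) hmem
  have hφ₀a : ∀ u : U₀, ((φ₀ u : U₀) : V) = x.symm ((e u : U₀.map (x : V →ₗ[K] V)) : V) := by
    intro u; rfl
  have hφ₀ : ∀ (g : Q) (u u₁ : U₀), (u₁ : V) = ρ g u →
      ((φ₀ u₁ : U₀) : V) = ρ (φ.symm g) (φ₀ u : U₀) := by
    intro g u u₁ h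
    rw [hφ₀a, hφ₀a, he g u u₁ h, comp_symm hcomp]
  have hφ₀inj : Function.Injective φ₀ := by
    rw [← LinearMap.ker_eq_bot, LinearMap.ker_eq_bot']
    intro u hu
    have h1 : ((φ₀ u : U₀) : V) = 0 := by rw [hu]; rfl
    rw [hφ₀a] at h1
    have h2 : ((e u : U₀.map (x : V →ₗ[K] V)) : V) = 0 := x.symm.map_eq_zero_iff.1 h1
    have h3 : e u = 0 := Subtype.ext h2
    exact e.map_eq_zero_iff.1 h3
  have hφ₀surj : Function.Surjective φ₀ := LinearMap.surjective_of_injective hφ₀inj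
  -- the space of equivariant maps
  let E : Submodule K (U₀ →ₗ[K] V) :=
    { carrier := {f | ∀ (g : Q) (u u₁ : U₀), (u₁ : V) = ρ g u → f u₁ = ρ g (f u)}
      add_mem' := by
        intro a b ha hb g u u₁ h
        rw [LinearMap.add_apply, LinearMap.add_apply, ha g u u₁ h, hb g u u₁ h, map_add]
      zero_mem' := by
        intro g u u₁ _
        simp
      smul_mem' := by
        intro c a ha g u u₁ h
        rw [LinearMap.smul_apply, LinearMap.smul_apply, ha g u u₁ h, map_smul] }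
  let T₀ : (U₀ →ₗ[K] V) →ₗ[K] (U₀ →ₗ[K] V) :=
    { toFun := fun f => (x : V →ₗ[K] V) ∘ₗ f ∘ₗ φ₀
      map_add' := by intro a b; ext u; simp
      map_smul' := by intro c a; ext u; simp }
  have hT₀ : ∀ f ∈ E, T₀ f ∈ E := by
    intro f hf g u u₁ h
    show x (f (φ₀ u₁)) = ρ g (x (f (φ₀ u)))
    have h1 := hφ₀ g u u₁ h
    have h2 := hf (φ.symm g) (φ₀ u) (φ₀ u₁) h1
    rw [h2, hcomp, MulEquiv.apply_symm_apply]
  let T : E →ₗ[K] E := T₀.restrict hT₀
  have hTa : ∀ (f : E) (u : U₀), ((T f : E) : U₀ →ₗ[K] V) u = x ((f : U₀ →ₗ[K] V) (φ₀ u)) := by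
    intro f u; rfl
  have hEnt : Nontrivial E := by
    have hι : U₀.subtype ∈ E := by
      intro g u u₁ h
      exact h
    refine ⟨⟨⟨U₀.subtype, hι⟩, 0, ?_⟩⟩
    intro h0
    apply hU₀.2.1
    rw [Submodule.eq_bot_iff]
    intro u hu
    have := congrArg (fun f : E => (f : U₀ →ₗ[K] V) ⟨u, hu⟩) h0
    simpa using this
  obtain ⟨μ, hμ⟩ := Module.End.exists_eigenvalue T
  obtain ⟨f, hf⟩ := hμ.exists_hasEigenvector
  have hfT : T f = μ • f := Module.End.mem_eigenspace_iff.1 hf.1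
  have hf0 : (f : U₀ →ₗ[K] V) ≠ 0 := by
    intro h0
    apply hf.2
    exact Subtype.ext h0
  have hfE := f.2
  obtain ⟨f₀, hf₀⟩ : ∃ f₀ : U₀ →ₗ[K] V, f₀ = (f : U₀ →ₗ[K] V) := ⟨_, rfl⟩
  rw [← hf₀] at hf0
  have hfeq : ∀ (g : Q) (u u₁ : U₀), (u₁ : V) = ρ g u → f₀ u₁ = ρ g (f₀ u) := by
    rw [hf₀]; exact hfE
  have hfx : ∀ u : U₀, x (f₀ (φ₀ u)) = μ • f₀ u := by
    intro u
    have := congrArg (fun h : E => (h : U₀ →ₗ[K] V) u) hfT
    simp only [hTa] at this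
    rw [hf₀, this]
    rfl
  -- `f₀` is injective
  have hker : LinearMap.ker f₀ = ⊥ := by
    have h1 : (LinearMap.ker f₀).map U₀.subtype ≤ U₀ := by
      rintro _ ⟨u, _, rfl⟩
      exact u.2
    have h2 : ∀ g, ∀ v ∈ (LinearMap.ker f₀).map U₀.subtype,
        ρ g v ∈ (LinearMap.ker f₀).map U₀.subtype := by
      rintro g _ ⟨u, hu, rfl⟩
      refine ⟨⟨ρ g u, hU₀.1 g u u.2⟩, ?_, rfl⟩
      have hu' : f₀ u = 0 := hu
      show f₀ _ = 0
      rw [hfeq g u ⟨ρ g u, hU₀.1 g u u.2⟩ rfl, hu', map_zero]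
    rcases hU₀.2.2 _ h1 h2 with h3 | h3
    · rw [Submodule.eq_bot_iff]
      intro u hu
      have : (u : V) ∈ (LinearMap.ker f₀).map U₀.subtype := ⟨u, hu, rfl⟩
      rw [h3] at this
      exact Subtype.ext ((Submodule.mem_bot K).1 this)
    · exfalso
      apply hf0
      ext u
      have : (u : V) ∈ (LinearMap.ker f₀).map U₀.subtype := by rw [h3]; exact u.2
      obtain ⟨u', hu', huu'⟩ := this
      have : u' = u := Subtype.ext huu'
      rw [this] at hu'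
      exact hu'
  have hinj : Function.Injective f₀ := LinearMap.ker_eq_bot.1 hker
  refine ⟨LinearMap.range f₀, ⟨?_, ?_, ?_⟩, ?_, ?_⟩
  · rintro g _ ⟨u, rfl⟩
    exact ⟨⟨ρ g u, hU₀.1 g u u.2⟩, hfeq g u _ rfl⟩
  · intro h0
    apply hf0
    ext u
    have : f₀ u ∈ LinearMap.range f₀ := ⟨u, rfl⟩
    rw [h0] at this
    exact (Submodule.mem_bot K).1 this
  · intro U' hU' hinv
    have h1 : (U'.comap f₀).map U₀.subtype ≤ U₀ := by
      rintro _ ⟨u, _, rfl⟩
      exact u.2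
    have h2 : ∀ g, ∀ v ∈ (U'.comap f₀).map U₀.subtype, ρ g v ∈ (U'.comap f₀).map U₀.subtype := by
      rintro g _ ⟨u, hu, rfl⟩
      refine ⟨⟨ρ g u, hU₀.1 g u u.2⟩, ?_, rfl⟩
      show f₀ _ ∈ U'
      rw [hfeq g u ⟨ρ g u, hU₀.1 g u u.2⟩ rfl]
      exact hinv g _ hu
    rcases hU₀.2.2 _ h1 h2 with h3 | h3
    · left
      rw [Submodule.eq_bot_iff]
      intro v hv
      obtain ⟨u, rfl⟩ := hU' hv
      have : (u : V) ∈ (U'.comap f₀).map U₀.subtype := ⟨u, hv, rfl⟩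
      rw [h3] at this
      have hu0 : u = 0 := Subtype.ext ((Submodule.mem_bot K).1 this)
      rw [hu0, map_zero]
    · right
      apply le_antisymm hU'
      rintro _ ⟨u, rfl⟩
      have : (u : V) ∈ (U'.comap f₀).map U₀.subtype := by rw [h3]; exact u.2
      obtain ⟨u', hu', huu'⟩ := this
      have : u' = u := Subtype.ext huu'
      rw [this] at hu'
      exact hu'
  · rintro _ ⟨u, rfl⟩
    obtain ⟨u₁, rfl⟩ := hφ₀surj u
    rw [hfx]
    exact Submodule.smul_mem _ _ ⟨u₁, rfl⟩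
  · refine ⟨LinearEquiv.ofInjective f₀ hinj, ?_⟩
    intro g u u₁ h
    show f₀ u₁ = ρ g (f₀ u)
    exact hfeq g u u₁ h

end Cfsg.Agent.Lib.Helper71_HHBEigen
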