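import Mathlib
import Cfsg.Agent.Lib.Helper71_NilpComm

/-!
# The induced bound and restriction to invariant subspaces (helper71)

If `W, aW, …, a^(t-1)W` are independent (`t = p^k`, characteristic `p`) and `a^t W ⊆ W`, then
`(a^t - 1)^j ≠ 0` on `W` forces `(a - 1)^(t j + t - 1) ≠ 0`.
-/

set_option autoImplicit false

namespace Cfsg.Agent.Lib.Helper71_HHBInd
open Cfsg.Agent.Lib.Helper71_NilpComm

variable {K : Type*} [Field K] {V : Type*} [AddCommGroup V] [Module K V]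

/-- in characteristic `p`, `(X - 1)^(p^k - 1) = ∑_{i < p^k} X^i` -/
theorem poly_sub_one_pow (p : ℕ) [Fact p.Prime] [CharP K p] (k : ℕ) :
    ((Polynomial.X : Polynomial K) - 1) ^ (p ^ k - 1) = ∑ i ∈ Finset.range (p ^ k), Polynomial.X ^ i := by
  have hp : p.Prime := Fact.out
  have hpos : 0 < p ^ k := pow_pos hp.pos k
  have h1 : ((Polynomial.X : Polynomial K) - 1) ^ (p ^ k - 1) * (Polynomial.X - 1) =
      (∑ i ∈ Finset.range (p ^ k), Polynomial.X ^ i) * (Polynomial.X - 1) := by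
    rw [geom_sum_mul, ← pow_succ, Nat.sub_add_cancel hpos, sub_pow_char_pow, one_pow]
  have h2 : (Polynomial.X : Polynomial K) - 1 ≠ 0 := Polynomial.X_sub_C_ne_zero (1 : K)
  exact mul_right_cancel₀ h2 h1

theorem end_sub_one_pow (p : ℕ) [Fact p.Prime] [CharP K p] (k : ℕ) (a : Module.End K V) :
    (a - 1) ^ (p ^ k - 1) = ∑ i ∈ Finset.range (p ^ k), a ^ i := by
  have := congrArg (Polynomial.aeval a) (poly_sub_one_pow (K := K) p k)
  simpa using this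

/-- the induced bound -/
theorem induced_bound (p : ℕ) [Fact p.Prime] [CharP K p] (k : ℕ) (a : Module.End K V)
    (W : Submodule K V)
    (hind : ∀ v : Fin (p ^ k) → V, (∀ i, v i ∈ W.map (a ^ i.val)) → ∑ i, v i = 0 → ∀ i, v i = 0)
    (hW : ∀ w ∈ W, (a ^ p ^ k) w ∈ W) (j : ℕ) (w : V) (hw : w ∈ W)
    (hj : ((a ^ p ^ k - 1) ^ j) w ≠ 0) : (a - 1) ^ (p ^ k * j + p ^ k - 1) ≠ 0 := by
  have hp : p.Prime := Fact.out
  have hpos : 0 < p ^ k := pow_pos hp.pos k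
  obtain ⟨w', hw'⟩ : ∃ w', w' = ((a ^ p ^ k - 1) ^ j) w := ⟨_, rfl⟩
  rw [← hw'] at hj
  have hW1 : ∀ w ∈ W, (a ^ p ^ k - 1) w ∈ W := by
    intro w hw
    rw [LinearMap.sub_apply]
    exact W.sub_mem (hW w hw) hw
  have hWj : ∀ j : ℕ, ∀ w ∈ W, ((a ^ p ^ k - 1) ^ j) w ∈ W := by
    intro j
    induction j with
    | zero => intro w hw; simpa using hw
    | succ j ih =>
      intro w hw
      rw [pow_succ, Module.End.mul_apply]
      exact ih _ (hW1 w hw)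
  have hw'W : w' ∈ W := by rw [hw']; exact hWj j w hw
  intro h0
  have e1 : p ^ k * j + p ^ k - 1 = (p ^ k - 1) + p ^ k * j := by omega
  have h1 : ((a - 1) ^ (p ^ k * j + p ^ k - 1)) w = ∑ i ∈ Finset.range (p ^ k), (a ^ i) w' := by
    rw [e1, pow_add, pow_mul, sub_one_pow_char_pow (K := K) p k, Module.End.mul_apply, ← hw',
      end_sub_one_pow p k, LinearMap.sum_apply]
  rw [h0, LinearMap.zero_apply] at h1
  have h2 : ∑ i : Fin (p ^ k), (a ^ i.val) w' = 0 := by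
    rw [Fin.sum_univ_eq_sum_range (fun i => (a ^ i) w') (p ^ k)]
    exact h1.symm
  have h3 := hind (fun i => (a ^ i.val) w') (fun i => ⟨w', hw'W, rfl⟩) h2 ⟨0, hpos⟩
  apply hj
  simpa using h3

/-- the stabiliser of a subspace -/
def stab (W : Submodule K V) : Subgroup (V ≃ₗ[K] V) where
  carrier := {g | W.map (g : V →ₗ[K] V) = W}
  mul_mem' := by
    intro a b ha hb
    show W.map ((a * b : V ≃ₗ[K] V) : V →ₗ[K] V) = W
    have : ((a * b : V ≃ₗ[K] V) : V →ₗ[K] V) = (a : V →ₗ[K] V) ∘ₗ (b : V →ₗ[K] V) := rfl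
    rw [this, Submodule.map_comp, hb, ha]
  one_mem' := by
    show W.map ((1 : V ≃ₗ[K] V) : V →ₗ[K] V) = W
    have : ((1 : V ≃ₗ[K] V) : V →ₗ[K] V) = LinearMap.id := rfl
    rw [this, Submodule.map_id]
  inv_mem' := by
    intro a ha
    show W.map ((a⁻¹ : V ≃ₗ[K] V) : V →ₗ[K] V) = W
    have h1 : W.map ((a⁻¹ : V ≃ₗ[K] V) : V →ₗ[K] V) =
        (W.map (a : V →ₗ[K] V)).map ((a⁻¹ : V ≃ₗ[K] V) : V →ₗ[K] V) := by rw [ha]
    rw [h1, ← Submodule.map_comp]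
    have : ((a⁻¹ : V ≃ₗ[K] V) : V →ₗ[K] V) ∘ₗ (a : V →ₗ[K] V) = LinearMap.id := by
      ext v
      show a⁻¹ (a v) = v
      exact a.symm_apply_apply v
    rw [this, Submodule.map_id]

theorem mem_stab {W : Submodule K V} {g : V ≃ₗ[K] V} :
    g ∈ stab W ↔ W.map (g : V →ₗ[K] V) = W := Iff.rfl

theorem mem_stab_of_finite_order {W : Submodule K V} {g : V ≃ₗ[K] V} (m : ℕ) (hm : 0 < m)
    (hg : g ^ m = 1) (h : ∀ w ∈ W, g w ∈ W) : g ∈ stab W := by
  rw [mem_stab]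
  apply le_antisymm
  · rintro _ ⟨w, hw, rfl⟩
    exact h w hw
  · intro w hw
    have hk : ∀ k : ℕ, (g ^ k) w ∈ W := by
      intro k
      induction k with
      | zero => simpa using hw
      | succ k ih =>
        rw [pow_succ']
        exact h _ ih
    refine ⟨(g ^ (m - 1)) w, hk _, ?_⟩
    show g ((g ^ (m - 1)) w) = w
    have : g * g ^ (m - 1) = 1 := by
      rw [← pow_succ', Nat.sub_add_cancel hm, hg]
    calc g ((g ^ (m - 1)) w) = (g * g ^ (m - 1)) w := rfl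
      _ = w := by rw [this]; rfl

theorem apply_mem_of_mem_stab {W : Submodule K V} {g : V ≃ₗ[K] V} (hg : g ∈ stab W) {w : V}
    (hw : w ∈ W) : g w ∈ W := by
  rw [mem_stab] at hg
  rw [← hg]
  exact ⟨w, hw, rfl⟩

/-- restriction to an invariant subspace -/
noncomputable def resHom (W : Submodule K V) : stab W →* (W ≃ₗ[K] W) where
  toFun g := (g : V ≃ₗ[K] V).ofSubmodules W W g.2
  map_one' := by
    ext w
    rfl
  map_mul' a b := by
    ext w
    rfl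

@[simp]
theorem resHom_apply (W : Submodule K V) (g : stab W) (w : W) :
    ((resHom W g w : W) : V) = (g : V ≃ₗ[K] V) w := rfl


theorem resHom_sub_one_pow (W : Submodule K V) (g : stab W) (j : ℕ) (w : W) :
    ((((resHom W g : W ≃ₗ[K] W) : W →ₗ[K] W) - 1) ^ j) w =
      (((((g : V ≃ₗ[K] V) : V →ₗ[K] V) - 1) ^ j) (w : V) : V) := by
  induction j generalizing w with
  | zero => simp
  | succ j ih =>
    rw [pow_succ, pow_succ, Module.End.mul_apply, Module.End.mul_apply, ih]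
    congr 1

/-- the pointwise fixer of a subspace -/
def fixer (W : Submodule K V) : Subgroup (V ≃ₗ[K] V) where
  carrier := {g | ∀ w ∈ W, g w = w}
  mul_mem' := by
    intro a b ha hb w hw
    show a (b w) = w
    rw [hb w hw, ha w hw]
  one_mem' := fun _ _ => rfl
  inv_mem' := by
    intro a ha w hw
    show a⁻¹ w = w
    conv_lhs => rw [← ha w hw]
    exact a.symm_apply_apply w

theorem mem_fixer {W : Submodule K V} {g : V ≃ₗ[K] V} : g ∈ fixer W ↔ ∀ w ∈ W, g w = w := Iff.rfl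

theorem mem_stab_of_forall {W : Submodule K V} {g : V ≃ₗ[K] V} (h : ∀ w ∈ W, g w ∈ W)
    (h' : ∀ w ∈ W, g⁻¹ w ∈ W) : g ∈ stab W := by
  rw [mem_stab]
  apply le_antisymm
  · rintro _ ⟨w, hw, rfl⟩
    exact h w hw
  · intro w hw
    refine ⟨g⁻¹ w, h' w hw, ?_⟩
    show g (g⁻¹ w) = w
    exact g.apply_symm_apply w

/-- the image of `Q₁` in `GL(W)` -/
noncomputable def resSub (W : Submodule K V) (Q₁ : Subgroup (V ≃ₗ[K] V)) : Subgroup (W ≃ₗ[K] W) :=
  (Q₁.subgroupOf (stab W)).map (resHom W)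

theorem mem_resSub {W : Submodule K V} {Q₁ : Subgroup (V ≃ₗ[K] V)} {g' : W ≃ₗ[K] W} :
    g' ∈ resSub W Q₁ ↔ ∃ s : stab W, (s : V ≃ₗ[K] V) ∈ Q₁ ∧ resHom W s = g' := by
  constructor
  · rintro ⟨s, hs, rfl⟩
    exact ⟨s, Subgroup.mem_subgroupOf.1 hs, rfl⟩
  · rintro ⟨s, hs, rfl⟩
    exact ⟨s, Subgroup.mem_subgroupOf.2 hs, rfl⟩

instance resSub_finite (W : Submodule K V) (Q₁ : Subgroup (V ≃ₗ[K] V)) [Finite Q₁] :
    Finite (resSub W Q₁) := by
  have h1 : Finite (Q₁.subgroupOf (stab W)) :=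
    Finite.of_injective (fun g : Q₁.subgroupOf (stab W) =>
      (⟨((g : stab W) : V ≃ₗ[K] V), Subgroup.mem_subgroupOf.1 g.2⟩ : Q₁))
      (fun a b hab => by
        have := congrArg (fun g : Q₁ => (g : V ≃ₗ[K] V)) hab
        exact Subtype.ext (Subtype.ext this))
  have h2 : (resSub W Q₁ : Set (W ≃ₗ[K] W)) =
      (resHom W) '' (Q₁.subgroupOf (stab W) : Set (stab W)) := Subgroup.coe_map _ _
  have h3 : (resSub W Q₁ : Set (W ≃ₗ[K] W)).Finite := by
    rw [h2]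
    exact (Set.toFinite _).image _
  exact Set.finite_coe_iff.2 h3

theorem resSub_isPGroup (W : Submodule K V) {Q₁ : Subgroup (V ≃ₗ[K] V)} (q : ℕ)
    (hQ₁ : IsPGroup q Q₁) : IsPGroup q (resSub W Q₁) :=
  (hQ₁.comap_subtype (K := stab W)).map (resHom W)

theorem resSub_conj_mem {W : Submodule K V} {Q₁ : Subgroup (V ≃ₗ[K] V)} (ξ : stab W)
    (hξ : ∀ g ∈ Q₁, (ξ : V ≃ₗ[K] V) * g * (ξ : V ≃ₗ[K] V)⁻¹ ∈ Q₁) :
    ∀ g' ∈ resSub W Q₁, resHom W ξ * g' * (resHom W ξ)⁻¹ ∈ resSub W Q₁ := by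
  intro g' hg'
  obtain ⟨s, hs, rfl⟩ := mem_resSub.1 hg'
  refine mem_resSub.2 ⟨ξ * s * ξ⁻¹, ?_, ?_⟩
  · have := hξ _ hs
    simpa using this
  · rw [map_mul, map_mul, map_inv]

theorem resSub_comm (W : Submodule K V) (Q₁ : Subgroup (V ≃ₗ[K] V)) [IsMulCommutative Q₁] :
    IsMulCommutative (resSub W Q₁) := by
  unfold resSub
  infer_instance

/-- if `η` centralises the image of `Q₁` in `GL(W)` then commutators act trivially on `W` -/
theorem comm_mem_fixer {W : Submodule K V} {Q₁ : Subgroup (V ≃ₗ[K] V)} (hQ₁ : Q₁ ≤ stab W)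
    (η : stab W) (h : ∀ g' ∈ resSub W Q₁, Commute (resHom W η) g') :
    ∀ a ∈ Q₁, (η : V ≃ₗ[K] V) * a * (η : V ≃ₗ[K] V)⁻¹ * a⁻¹ ∈ fixer W := by
  intro a ha
  rw [mem_fixer]
  intro w hw
  have h1 := h (resHom W ⟨a, hQ₁ ha⟩) (mem_resSub.2 ⟨⟨a, hQ₁ ha⟩, ha, rfl⟩)
  have h2 : resHom W η * resHom W ⟨a, hQ₁ ha⟩ * (resHom W η)⁻¹ * (resHom W ⟨a, hQ₁ ha⟩)⁻¹ = 1 := by
    rw [h1.eq]; group
  rw [← map_inv, ← map_inv, ← map_mul, ← map_mul, ← map_mul] at h2
  have h3 := congrArg (fun f : W ≃ₗ[K] W => ((f ⟨w, hw⟩ : W) : V)) h2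
  simp only [resHom_apply] at h3
  exact h3

end Cfsg.Agent.Lib.Helper71_HHBInd
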