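import Mathlib
import Cfsg.Agent.Lib.Helper71_HHBTwist
import Cfsg.Agent.Lib.Helper71_HHBGroup
import Cfsg.Agent.Lib.Helper71_HHBInd
import Cfsg.Agent.Lib.Helper71_HHBEigen
import Cfsg.Agent.Lib.Helper71_HHBCrit

/-!
# The core of Hall--Higman Theorem B (helper71)

`core`: a finite `q`-subgroup `Q` of `GL(V)` (`V` over an algebraically closed field of
characteristic `p ≠ q`) normalised by `x` with `x^(p^(n+1)) = 1` and not centralised by
`x^(p^n)` forces a lower bound for the nilpotency index of `x - 1`.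
-/

set_option autoImplicit false

namespace Cfsg.Agent.Lib.Helper71_HHB
open Cfsg.Agent.Lib.Helper71_HHBTwist Cfsg.Agent.Lib.Helper71_HHBGroup
  Cfsg.Agent.Lib.Helper71_HHBInd Cfsg.Agent.Lib.Helper71_HHBEigen Cfsg.Agent.Lib.Helper71_HHBCrit

variable {K : Type*} [Field K] {V : Type*} [AddCommGroup V] [Module K V]

theorem map_mul_eq (W : Submodule K V) (a b : V ≃ₗ[K] V) :
    W.map ((a * b : V ≃ₗ[K] V) : V →ₗ[K] V) =
      (W.map (b : V →ₗ[K] V)).map (a : V →ₗ[K] V) := by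
  have : ((a * b : V ≃ₗ[K] V) : V →ₗ[K] V) = (a : V →ₗ[K] V) ∘ₗ (b : V →ₗ[K] V) := rfl
  rw [this, Submodule.map_comp]

theorem coe_pow_eq (x : V ≃ₗ[K] V) (i : ℕ) :
    ((x ^ i : V ≃ₗ[K] V) : V →ₗ[K] V) = (x : V →ₗ[K] V) ^ i := by
  induction i with
  | zero => rfl
  | succ i ih =>
    rw [pow_succ, pow_succ, ← ih]
    rfl

/-- the tautological representation of a subgroup of `GL(V)` -/
def tautRep (Q₁ : Subgroup (V ≃ₗ[K] V)) : Representation K Q₁ V where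
  toFun g := ((g : V ≃ₗ[K] V) : V →ₗ[K] V)
  map_one' := rfl
  map_mul' _ _ := rfl

@[simp]
theorem tautRep_apply (Q₁ : Subgroup (V ≃ₗ[K] V)) (g : Q₁) (v : V) :
    tautRep Q₁ g v = (g : V ≃ₗ[K] V) v := rfl

theorem card_ne_zero_of_isPGroup (p q : ℕ) [Fact p.Prime] [Fact q.Prime] [CharP K p] (hpq : p ≠ q)
    {Q₁ : Type*} [Group Q₁] [Finite Q₁] (hQ₁ : IsPGroup q Q₁) : (Nat.card Q₁ : K) ≠ 0 := by
  have hp : p.Prime := Fact.out
  have hq : q.Prime := Fact.out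
  obtain ⟨e, he⟩ := IsPGroup.iff_card.1 hQ₁
  rw [he, Nat.cast_pow]
  apply pow_ne_zero
  rw [Ne, CharP.cast_eq_zero_iff K p q, Nat.prime_dvd_prime_iff_eq hp hq]
  exact hpq

/-- conjugation compatibility of the tautological representation -/
theorem taut_comp (Q₁ : Subgroup (V ≃ₗ[K] V)) (x : V ≃ₗ[K] V)
    (hx : ∀ g ∈ Q₁, x * g * x⁻¹ ∈ Q₁) (hx' : ∀ g ∈ Q₁, x⁻¹ * g * x ∈ Q₁) (g : Q₁) (v : V) :
    x (tautRep Q₁ g v) = tautRep Q₁ (conjAut Q₁ x hx hx' g) (x v) := by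
  rw [tautRep_apply, tautRep_apply, conjAut_apply]
  show x ((g : V ≃ₗ[K] V) v) = x ((g : V ≃ₗ[K] V) (x⁻¹ (x v)))
  congr 2
  exact (x.symm_apply_apply v).symm

theorem orbit_structure (p : ℕ) [Fact p.Prime] (N : ℕ) (x : V ≃ₗ[K] V) (hx : x ^ p ^ N = 1)
    (W : Submodule K V) :
    ∃ k ≤ N, x ^ p ^ k ∈ stab W ∧ ∀ i j, i < p ^ k → j < p ^ k →
      W.map ((x ^ i : V ≃ₗ[K] V) : V →ₗ[K] V) = W.map ((x ^ j : V ≃ₗ[K] V) : V →ₗ[K] V) →
        i = j := by
  classical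
  have hp : p.Prime := Fact.out
  have hex : ∃ t, 0 < t ∧ x ^ t ∈ stab W :=
    ⟨p ^ N, pow_pos hp.pos N, by rw [hx]; exact Subgroup.one_mem _⟩
  obtain ⟨t, ht⟩ : ∃ t, t = Nat.find hex := ⟨_, rfl⟩
  have ht0 : 0 < t := by rw [ht]; exact (Nat.find_spec hex).1
  have htW : x ^ t ∈ stab W := by rw [ht]; exact (Nat.find_spec hex).2
  have htmin : ∀ i, 0 < i → i < t → x ^ i ∉ stab W := by
    intro i hi0 hit hmem
    rw [ht] at hit
    exact Nat.find_min hex hit ⟨hi0, hmem⟩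
  have hdiv : ∀ i, x ^ i ∈ stab W → t ∣ i := by
    intro i hi
    have h1 : x ^ (i % t) ∈ stab W := by
      have e0 : x ^ i = (x ^ t) ^ (i / t) * x ^ (i % t) := by
        rw [← pow_mul, ← pow_add, Nat.div_add_mod]
      have e : x ^ (i % t) = ((x ^ t) ^ (i / t))⁻¹ * x ^ i := by
        rw [e0, inv_mul_cancel_left]
      rw [e]
      exact Subgroup.mul_mem _ (Subgroup.inv_mem _ (Subgroup.pow_mem _ htW _)) hi
    have h2 : i % t < t := Nat.mod_lt _ ht0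
    rcases Nat.eq_zero_or_pos (i % t) with h0 | h0
    · exact Nat.dvd_of_mod_eq_zero h0
    · exact absurd h1 (htmin _ h0 h2)
  have htp : t ∣ p ^ N := hdiv _ (by rw [hx]; exact Subgroup.one_mem _)
  obtain ⟨k, hkN, hk⟩ := (Nat.dvd_prime_pow hp).1 htp
  refine ⟨k, hkN, by rw [← hk]; exact htW, ?_⟩
  rw [← hk]
  have key : ∀ i j, i ≤ j → j < t →
      W.map ((x ^ i : V ≃ₗ[K] V) : V →ₗ[K] V) = W.map ((x ^ j : V ≃ₗ[K] V) : V →ₗ[K] V) →
        i = j := by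
    intro i j hij hjt h
    have h1 : x ^ (j - i) ∈ stab W := by
      rw [mem_stab]
      have e : x ^ (j - i) = (x ^ i)⁻¹ * x ^ j := by
        have : x ^ j = x ^ i * x ^ (j - i) := by rw [← pow_add, Nat.add_sub_cancel' hij]
        rw [this]; group
      rw [e, map_mul_eq, ← h, ← map_mul_eq, inv_mul_cancel]
      exact (stab W).one_mem
    rcases Nat.eq_zero_or_pos (j - i) with h0 | h0
    · omega
    · exact absurd h1 (htmin _ h0 (by omega))
  intro i j hi hj h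
  rcases le_total i j with hij | hij
  · exact key i j hij hj h
  · exact (key j i hij hi h.symm).symm

/-- the conclusion of Theorem B (for the nilpotent part `N = x - 1`) -/
def Concl (p q n : ℕ) (nonab : Prop) (N : Module.End K V) : Prop :=
  N ^ (p ^ (n + 1) - 1) ≠ 0 ∨ ∃ n₀ m, 1 ≤ n₀ ∧ n₀ ≤ n + 1 ∧ 1 ≤ m ∧ p ^ n₀ - 1 = q ^ m ∧ nonab ∧
    N ^ (p ^ (n + 1 - n₀) * (p ^ n₀ - 1) - 1) ≠ 0

theorem arith_a (p k n : ℕ) (hp : 2 ≤ p) (hk : k ≤ n) :
    p ^ k * (p ^ (n - k + 1) - 1) + p ^ k - 1 = p ^ (n + 1) - 1 := by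
  have h1 : p ^ k * p ^ (n - k + 1) = p ^ (n + 1) := by
    rw [← pow_add]; congr 1; omega
  have h2 : 1 ≤ p ^ (n - k + 1) := Nat.one_le_pow _ _ (by omega)
  obtain ⟨A, hA⟩ : ∃ A, p ^ (n - k + 1) = A + 1 := ⟨p ^ (n - k + 1) - 1, by omega⟩
  rw [hA] at h1 ⊢
  rw [← h1]
  have : A + 1 - 1 = A := by omega
  rw [this, mul_add, mul_one]

theorem arith_b (p k n n₀ : ℕ) (hp : 2 ≤ p) (hk : k ≤ n) (h1 : 1 ≤ n₀) (h2 : n₀ ≤ n - k + 1) :
    p ^ k * (p ^ (n - k + 1 - n₀) * (p ^ n₀ - 1) - 1) + p ^ k - 1 =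
      p ^ (n + 1 - n₀) * (p ^ n₀ - 1) - 1 := by
  have e1 : p ^ (n + 1 - n₀) = p ^ k * p ^ (n - k + 1 - n₀) := by
    rw [← pow_add]; congr 1; omega
  have h3 : 1 ≤ p ^ (n - k + 1 - n₀) := Nat.one_le_pow _ _ (by omega)
  have h4 : 2 ≤ p ^ n₀ := by
    calc 2 ≤ p := hp
      _ = p ^ 1 := (pow_one p).symm
      _ ≤ p ^ n₀ := Nat.pow_le_pow_right (by omega) h1
  have h5 : 1 ≤ p ^ (n - k + 1 - n₀) * (p ^ n₀ - 1) := Nat.mul_pos h3 (by omega)
  obtain ⟨A, hA⟩ : ∃ A, p ^ (n - k + 1 - n₀) * (p ^ n₀ - 1) = A + 1 :=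
    ⟨p ^ (n - k + 1 - n₀) * (p ^ n₀ - 1) - 1, by omega⟩
  rw [e1, mul_assoc, hA]
  have : A + 1 - 1 = A := by omega
  rw [this, mul_add, mul_one]

/-- transfer of the conclusion from `W` (with `x^(p^k)`) to `V` -/
theorem concl_transfer (p q : ℕ) [Fact p.Prime] [CharP K p] (k n : ℕ) (hk : k ≤ n)
    (x : V ≃ₗ[K] V) (W : Submodule K V)
    (hind : ∀ v : Fin (p ^ k) → V, (∀ i, v i ∈ W.map ((x : V →ₗ[K] V) ^ i.val)) → ∑ i, v i = 0 →
      ∀ i, v i = 0)
    (ξ : stab W) (hξ : (ξ : V ≃ₗ[K] V) = x ^ p ^ k) (nonab : Prop)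
    (h : Concl p q (n - k) nonab (((resHom W ξ : W ≃ₗ[K] W) : W →ₗ[K] W) - 1)) :
    Concl p q n nonab ((x : V →ₗ[K] V) - 1) := by
  have hp : p.Prime := Fact.out
  have hξa : ((ξ : V ≃ₗ[K] V) : V →ₗ[K] V) = (x : V →ₗ[K] V) ^ p ^ k := by
    rw [hξ, coe_pow_eq]
  have hW : ∀ w ∈ W, ((x : V →ₗ[K] V) ^ p ^ k) w ∈ W := by
    intro w hw
    rw [← hξa]
    exact apply_mem_of_mem_stab ξ.2 hw
  have key : ∀ j : ℕ, (((resHom W ξ : W ≃ₗ[K] W) : W →ₗ[K] W) - 1) ^ j ≠ 0 →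
      ((x : V →ₗ[K] V) - 1) ^ (p ^ k * j + p ^ k - 1) ≠ 0 := by
    intro j hj
    obtain ⟨w, hw⟩ : ∃ w : W, ((((resHom W ξ : W ≃ₗ[K] W) : W →ₗ[K] W) - 1) ^ j) w ≠ 0 := by
      by_contra hcon
      push Not at hcon
      apply hj
      ext w
      rw [hcon w]
      rfl
    have h1 : ((((x : V →ₗ[K] V) ^ p ^ k - 1) ^ j) (w : V)) ≠ 0 := by
      rw [← hξa, ← resHom_sub_one_pow]
      intro h0
      apply hw
      exact Subtype.ext h0
    exact induced_bound p k (x : V →ₗ[K] V) W hind hW j w w.2 h1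
  rcases h with h | ⟨n₀, m, h1, h2, h3, h4, h5, h6⟩
  · left
    have := key _ h
    rw [arith_a p k n hp.two_le hk] at this
    exact this
  · right
    refine ⟨n₀, m, h1, by omega, h3, h4, h5, ?_⟩
    have := key _ h6
    rw [arith_b p k n n₀ hp.two_le hk h1 h2] at this
    exact this


theorem core_aux.{u, v} {K : Type u} [Field K] [IsAlgClosed K] (p q : ℕ) [Fact p.Prime]
    [Fact q.Prime] [CharP K p] (hpq : p ≠ q) (n : ℕ) :
    ∀ (V : Type v) [AddCommGroup V] [Module K V] [FiniteDimensional K V] (x : V ≃ₗ[K] V)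
      (_ : x ^ p ^ (n + 1) = 1) (Q : Subgroup (V ≃ₗ[K] V)) [Finite Q] (_ : IsPGroup q Q)
      (_ : ∀ g ∈ Q, x * g * x⁻¹ ∈ Q) (_ : ∃ g ∈ Q, ¬ Commute (x ^ p ^ n) g),
      Concl p q n (¬ IsMulCommutative Q) ((x : V →ₗ[K] V) - 1) := by
  induction n using Nat.strong_induction_on with
  | _ n ih =>
  intro V _ _ _ x hx Q _ hQ hnorm hy
  classical
  have hp : p.Prime := Fact.out
  -- Step A: the minimal subgroup
  obtain ⟨y, hydef⟩ : ∃ y, y = x ^ p ^ n := ⟨_, rfl⟩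
  rw [← hydef] at hy
  have hxy : Commute x y := by rw [hydef]; exact (Commute.refl x).pow_right _
  have hyp : y ^ p ^ 1 = 1 := by rw [pow_one, hydef, ← pow_mul, ← pow_succ, hx]
  obtain ⟨Q₁, hQ₁Q, hQ₁x, hQ₁y, hQ₁min⟩ := exists_minimal_moved x y Q hnorm hy
  have hQ₁fin : Finite Q₁ :=
    Finite.of_injective (Subgroup.inclusion hQ₁Q) (Subgroup.inclusion_injective hQ₁Q)
  have hQ₁p : IsPGroup q Q₁ := hQ.to_le hQ₁Q
  have hQ₁yn : ∀ g ∈ Q₁, y * g * y⁻¹ ∈ Q₁ := by rw [hydef]; exact pow_conj_mem Q₁ x hQ₁x _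
  obtain ⟨hgen, _⟩ := minimal_moved_props p q hpq x y hxy 1 hyp Q₁ hQ₁p hQ₁x hQ₁yn hQ₁y hQ₁min
  have hnonab : ¬ IsMulCommutative Q₁ → ¬ IsMulCommutative Q := by
    intro h hc
    apply h
    exact ⟨⟨fun a b => Subtype.ext (setLike_mul_comm (hQ₁Q a.2) (hQ₁Q b.2))⟩⟩
  -- Step B: a simple subspace with nontrivial action and its isotypic component
  have hx' := inv_conj_mem_of_finite Q₁ x hQ₁x
  obtain ⟨ρ₁, hρ₁⟩ : ∃ ρ₁ : Representation K Q₁ V, ρ₁ = tautRep Q₁ := ⟨_, rfl⟩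
  have : NeZero (Nat.card Q₁ : K) := ⟨card_ne_zero_of_isPGroup p q hpq hQ₁p⟩
  have hnt : ∃ (g : Q₁) (v : V), ρ₁ g v ≠ v := by
    obtain ⟨g, hg, hgy⟩ := hQ₁y
    by_contra hcon
    push Not at hcon
    apply hgy
    have : g = 1 := by
      ext v
      have := hcon ⟨g, hg⟩ v
      rw [hρ₁] at this
      exact this
    rw [this]
    exact Commute.one_right y
  obtain ⟨U₀, hU₀, g₀, u₀, hu₀, hgu₀⟩ := exists_simple_nontrivial ρ₁ hnt
  obtain ⟨W, hW, hU₀W⟩ := exists_isIsoComp hU₀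
  -- Step C: the orbit of `W`
  have hcompi : ∀ (i : ℕ) (g : Q₁) (v : V),
      (x ^ i) (ρ₁ g v) = ρ₁ (((conjAut Q₁ x hQ₁x hx') ^ i) g) ((x ^ i) v) := by
    intro i g v
    rw [hρ₁, tautRep_apply, tautRep_apply, conjAut_pow_apply]
    show (x ^ i) ((g : V ≃ₗ[K] V) v) = (x ^ i) ((g : V ≃ₗ[K] V) ((x ^ i)⁻¹ ((x ^ i) v)))
    congr 2
    exact ((x ^ i).symm_apply_apply v).symm
  have hWi : ∀ i : ℕ, IsIsoComp ρ₁ (W.map ((x ^ i : V ≃ₗ[K] V) : V →ₗ[K] V)) :=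
    fun i => hW.map (x ^ i) _ (hcompi i)
  obtain ⟨k, hkn, hkW, hkinj⟩ := orbit_structure p (n + 1) x hx W
  have hind : ∀ v : Fin (p ^ k) → V, (∀ i, v i ∈ W.map ((x : V →ₗ[K] V) ^ i.val)) →
      ∑ i, v i = 0 → ∀ i, v i = 0 := by
    intro v hv hsum i
    refine isIsoComp_indep (ρ := ρ₁)
      (fun i : Fin (p ^ k) => W.map ((x ^ i.val : V ≃ₗ[K] V) : V →ₗ[K] V))
      (fun i => hWi i.val) ?_ v ?_ hsum i
    · intro i j hij
      exact Fin.ext (hkinj i.val j.val i.2 j.2 hij)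
    · intro i
      rw [coe_pow_eq]
      exact hv i
  have hQ₁stab : ∀ U : Submodule K V, (∀ g, ∀ u ∈ U, ρ₁ g u ∈ U) → Q₁ ≤ stab U := by
    intro U hU g hg
    apply mem_stab_of_forall
    · intro w hw
      have := hU ⟨g, hg⟩ w hw
      rw [hρ₁] at this
      exact this
    · intro w hw
      have := hU ⟨g⁻¹, Q₁.inv_mem hg⟩ w hw
      rw [hρ₁] at this
      exact this
  rcases Nat.lt_or_ge n k with hnk | hkn'
  · -- `k = n + 1`: a free orbit
    have hk : k = n + 1 := by omega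
    left
    obtain ⟨w, hw, hw0⟩ := Submodule.exists_mem_ne_zero_of_ne_bot hW.ne_bot
    have hWinv : ∀ w ∈ W, ((x : V →ₗ[K] V) ^ p ^ k) w ∈ W := by
      intro w hw
      rw [hk, ← coe_pow_eq, hx]
      exact hw
    have := induced_bound p k (x : V →ₗ[K] V) W hind hWinv 0 w hw (by simpa using hw0)
    rw [hk] at this
    simpa using this
  · rcases Nat.eq_zero_or_pos k with hk0 | hk0
    · -- `k = 0`: `W` is `x`-invariant
      subst hk0
      have hxW : x ∈ stab W := by simpa using hkW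
      have hxWmap : W.map (x : V →ₗ[K] V) = W := mem_stab.1 hxW
      have hcomp1 : ∀ (g : Q₁) (v : V), x (ρ₁ g v) = ρ₁ (conjAut Q₁ x hQ₁x hx' g) (x v) := by
        intro g v
        rw [hρ₁]
        exact taut_comp Q₁ x hQ₁x hx' g v
      have hxU₀ : IsSimpleInv ρ₁ (U₀.map (x : V →ₗ[K] V)) := Cfsg.Agent.Lib.Helper71_HHBEigen.IsSimpleInv.map hU₀ x _ hcomp1
      have hxU₀W : U₀.map (x : V →ₗ[K] V) ≤ W := by
        rw [← hxWmap]
        exact Submodule.map_mono hU₀W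
      have hiso := hW.equivIso hU₀ hxU₀ hU₀W hxU₀W
      obtain ⟨U', hU', hxU', ⟨e, he⟩⟩ := exists_invariant_simple ρ₁ x _ hcomp1 U₀ hU₀ hiso
      -- `Q₁` acts nontrivially on `U'`
      have hntU' : ¬ (Q₁ ≤ fixer U') := by
        intro hfix
        apply hgu₀
        have h1 := he g₀ ⟨u₀, hu₀⟩ ⟨ρ₁ g₀ u₀, hU₀.1 g₀ u₀ hu₀⟩ rfl
        have h2 : ρ₁ g₀ ((e ⟨u₀, hu₀⟩ : U') : V) = ((e ⟨u₀, hu₀⟩ : U') : V) := by
          rw [hρ₁]
          exact mem_fixer.1 (hfix g₀.2) _ (e ⟨u₀, hu₀⟩).2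
        rw [h2] at h1
        have h3 : e ⟨ρ₁ g₀ u₀, hU₀.1 g₀ u₀ hu₀⟩ = e ⟨u₀, hu₀⟩ := Subtype.ext h1
        have h4 := e.injective h3
        exact congrArg Subtype.val h4
      -- restriction to `U'`
      have hxS : x ∈ stab U' :=
        mem_stab_of_finite_order (p ^ (n + 1)) (pow_pos hp.pos _) hx hxU'
      have hQ₁S : Q₁ ≤ stab U' := hQ₁stab U' hU'.1
      obtain ⟨ξ, hξ⟩ : ∃ ξ : stab U', ξ = ⟨x, hxS⟩ := ⟨_, rfl⟩
      have hξc : (ξ : V ≃ₗ[K] V) = x := by rw [hξ]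
      have hxbar : (resHom U' ξ) ^ p ^ (n + 1) = 1 := by
        rw [← map_pow]
        have : ξ ^ p ^ (n + 1) = 1 := by
          apply Subtype.ext
          rw [Subgroup.coe_pow, hξc, hx]
          rfl
        rw [this, map_one]
      have hnormbar := resSub_conj_mem (Q₁ := Q₁) ξ (by rw [hξc]; exact hQ₁x)
      have hηc : ((ξ ^ p ^ n : stab U') : V ≃ₗ[K] V) = y := by
        rw [Subgroup.coe_pow, hξc, hydef]
      have hη : (resHom U' ξ) ^ p ^ n = resHom U' (ξ ^ p ^ n) := (map_pow _ _ _).symm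
      have hmovedbar : ∃ g' ∈ resSub U' Q₁, ¬ Commute ((resHom U' ξ) ^ p ^ n) g' := by
        by_contra hcon
        push Not at hcon
        rw [hη] at hcon
        have h1 := comm_mem_fixer hQ₁S (ξ ^ p ^ n) hcon
        rw [hηc] at h1
        exact hntU' (hgen (fixer U') h1)
      have hirrbar : ∀ W' : Submodule K U', (∀ g ∈ resSub U' Q₁, ∀ w ∈ W', g w ∈ W') →
          W' = ⊥ ∨ W' = ⊤ := by
        intro W' hW'
        have h1 : W'.map U'.subtype ≤ U' := by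
          rintro _ ⟨w, _, rfl⟩
          exact w.2
        have h2 : ∀ g, ∀ v ∈ W'.map U'.subtype, ρ₁ g v ∈ W'.map U'.subtype := by
          rintro g _ ⟨w, hw, rfl⟩
          have h3 := hW' (resHom U' ⟨g, hQ₁S g.2⟩) (mem_resSub.2 ⟨⟨g, hQ₁S g.2⟩, g.2, rfl⟩) w hw
          refine ⟨_, h3, ?_⟩
          rw [hρ₁]
          rfl
        rcases hU'.2.2 _ h1 h2 with h3 | h3
        · left
          rw [Submodule.eq_bot_iff]
          intro w hw
          have : (w : V) ∈ W'.map U'.subtype := ⟨w, hw, rfl⟩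
          rw [h3] at this
          exact Subtype.ext ((Submodule.mem_bot K).1 this)
        · right
          rw [eq_top_iff]
          intro w _
          have : (w : V) ∈ W'.map U'.subtype := by rw [h3]; exact w.2
          obtain ⟨w', hw', hww'⟩ := this
          have : w' = w := Subtype.ext hww'
          rw [← this]
          exact hw'
      have hminbar : ∀ T ≤ resSub U' Q₁, (∀ g ∈ T, resHom U' ξ * g * (resHom U' ξ)⁻¹ ∈ T) →
          T ≠ resSub U' Q₁ → ∀ g ∈ T, Commute ((resHom U' ξ) ^ p ^ n) g := by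
        intro T hTP hTx hTne
        obtain ⟨T₀, hT₀⟩ : ∃ T₀ : Subgroup (V ≃ₗ[K] V), T₀ =
            ((T.comap (resHom U')) ⊓ Q₁.subgroupOf (stab U')).map (stab U').subtype := ⟨_, rfl⟩
        have hmemT₀ : ∀ s : stab U', (s : V ≃ₗ[K] V) ∈ T₀ ↔
            resHom U' s ∈ T ∧ (s : V ≃ₗ[K] V) ∈ Q₁ := by
          intro s
          rw [hT₀]
          constructor
          · rintro ⟨s', ⟨hs'1, hs'2⟩, hss'⟩
            have : s' = s := Subtype.ext hss'
            rw [← this]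
            exact ⟨hs'1, Subgroup.mem_subgroupOf.1 hs'2⟩
          · rintro ⟨h1, h2⟩
            exact ⟨s, ⟨h1, Subgroup.mem_subgroupOf.2 h2⟩, rfl⟩
        have hT₀Q : T₀ ≤ Q₁ := by
          rw [hT₀]
          rintro _ ⟨s, ⟨_, hs2⟩, rfl⟩
          exact Subgroup.mem_subgroupOf.1 hs2
        have hT₀x : ∀ g ∈ T₀, x * g * x⁻¹ ∈ T₀ := by
          intro g hg
          have hgS : g ∈ stab U' := hQ₁S (hT₀Q hg)
          have h1 := (hmemT₀ ⟨g, hgS⟩).1 hg
          have h2 : x * g * x⁻¹ = ((ξ * ⟨g, hgS⟩ * ξ⁻¹ : stab U') : V ≃ₗ[K] V) := by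
            simp [hξc]
          rw [h2, hmemT₀]
          constructor
          · rw [map_mul, map_mul, map_inv]
            exact hTx _ h1.1
          · rw [← h2]
            exact hQ₁x g h1.2
        have hT₀ne : T₀ ≠ Q₁ := by
          intro h
          apply hTne
          apply le_antisymm hTP
          intro g' hg'
          obtain ⟨s, hs, rfl⟩ := mem_resSub.1 hg'
          rw [← h] at hs
          exact ((hmemT₀ s).1 hs).1
        have h1 := hQ₁min T₀ hT₀Q hT₀x hT₀ne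
        intro g' hg'
        obtain ⟨s, hs, rfl⟩ := mem_resSub.1 (hTP hg')
        have h2 : (s : V ≃ₗ[K] V) ∈ T₀ := (hmemT₀ s).2 ⟨hg', hs⟩
        have h3 := h1 _ h2
        rw [hη]
        have h4 : Commute (ξ ^ p ^ n) s := by
          show ξ ^ p ^ n * s = s * ξ ^ p ^ n
          apply Subtype.ext
          rw [Subgroup.coe_mul, Subgroup.coe_mul, hηc]
          exact h3.eq
        exact h4.map (resHom U')
      have : Nontrivial U' := Submodule.nontrivial_iff_ne_bot.2 hU'.2.1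
      have key := critical_case p q hpq n (resHom U' ξ) hxbar (resSub U' Q₁)
        (resSub_isPGroup U' q hQ₁p) hnormbar hirrbar hmovedbar hminbar
      have htr : ∀ j : ℕ, (((resHom U' ξ : U' ≃ₗ[K] U') : U' →ₗ[K] U') - 1) ^ j ≠ 0 →
          ((x : V →ₗ[K] V) - 1) ^ j ≠ 0 := by
        intro j hj h0
        apply hj
        ext w
        rw [resHom_sub_one_pow, hξc, h0]
        rfl
      rcases key with h | ⟨m, h1, h2, h3, h4⟩
      · left
        exact htr _ h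
      · right
        refine ⟨n + 1, m, by omega, le_rfl, h1, h2, ?_, ?_⟩
        · apply hnonab
          intro hc
          apply h3
          exact resSub_comm U' Q₁
        · have e : p ^ (n + 1 - (n + 1)) * (p ^ (n + 1) - 1) - 1 = p ^ (n + 1) - 2 := by
            rw [Nat.sub_self, pow_zero, one_mul]
            omega
          rw [e]
          exact htr _ h4
    · -- `1 ≤ k ≤ n`: recursion
      have hQ₁S : Q₁ ≤ stab W := hQ₁stab W (fun g _ hu => hW.invariant g hu)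
      obtain ⟨ξ, hξ⟩ : ∃ ξ : stab W, ξ = ⟨x ^ p ^ k, hkW⟩ := ⟨_, rfl⟩
      have hξc : (ξ : V ≃ₗ[K] V) = x ^ p ^ k := by rw [hξ]
      have e1 : p ^ k * p ^ (n - k + 1) = p ^ (n + 1) := by rw [← pow_add]; congr 1; omega
      have e2 : p ^ k * p ^ (n - k) = p ^ n := by rw [← pow_add]; congr 1; omega
      have hxbar : (resHom W ξ) ^ p ^ (n - k + 1) = 1 := by
        rw [← map_pow]
        have : ξ ^ p ^ (n - k + 1) = 1 := by
          apply Subtype.ext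
          rw [Subgroup.coe_pow, hξc, ← pow_mul, e1, hx]
          rfl
        rw [this, map_one]
      have hnormbar := resSub_conj_mem (Q₁ := Q₁) ξ
        (by rw [hξc]; exact pow_conj_mem Q₁ x hQ₁x _)
      have hmovedbar : ∃ g' ∈ resSub W Q₁, ¬ Commute ((resHom W ξ) ^ p ^ (n - k)) g' := by
        by_contra hcon
        push Not at hcon
        have hη : (resHom W ξ) ^ p ^ (n - k) = resHom W (ξ ^ p ^ (n - k)) := (map_pow _ _ _).symm
        rw [hη] at hcon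
        have h1 := comm_mem_fixer hQ₁S (ξ ^ p ^ (n - k)) hcon
        have hηc : ((ξ ^ p ^ (n - k) : stab W) : V ≃ₗ[K] V) = y := by
          rw [Subgroup.coe_pow, hξc, ← pow_mul, e2, hydef]
        rw [hηc] at h1
        have h2 := hgen (fixer W) h1
        apply hgu₀
        have := h2 g₀.2
        rw [hρ₁]
        exact mem_fixer.1 this u₀ (hU₀W hu₀)
      have key := ih (n - k) (by omega) W (resHom W ξ) hxbar (resSub W Q₁)
        (resSub_isPGroup W q hQ₁p) hnormbar hmovedbar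
      have key2 := concl_transfer p q k n hkn' x W hind ξ hξc _ key
      rcases key2 with h | ⟨n₀, m, h1, h2, h3, h4, h5, h6⟩
      · left; exact h
      · right
        refine ⟨n₀, m, h1, h2, h3, h4, ?_, h6⟩
        apply hnonab
        intro hc
        apply h5
        exact resSub_comm W Q₁

/-- **Core of Hall--Higman Theorem B.**  `Q` is any finite `q`-subgroup of `GL(V)` normalised by
`x` (with `x^(p^(n+1)) = 1`) and not centralised by `x^(p^n)`. -/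
theorem core {K : Type*} [Field K] [IsAlgClosed K] {V : Type*} [AddCommGroup V] [Module K V]
    [FiniteDimensional K V] (p q : ℕ) [Fact p.Prime] [Fact q.Prime] [CharP K p] (hpq : p ≠ q)
    (n : ℕ) (x : V ≃ₗ[K] V) (hx : x ^ p ^ (n + 1) = 1) (Q : Subgroup (V ≃ₗ[K] V)) [Finite Q]
    (hQ : IsPGroup q Q) (hnorm : ∀ g ∈ Q, x * g * x⁻¹ ∈ Q)
    (hy : ∃ g ∈ Q, ¬ Commute (x ^ p ^ n) g) :
    ((x : V →ₗ[K] V) - 1) ^ (p ^ (n + 1) - 1) ≠ 0 ∨ ∃ n₀ m, 1 ≤ n₀ ∧ n₀ ≤ n + 1 ∧ 1 ≤ m ∧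
      p ^ n₀ - 1 = q ^ m ∧ ¬ IsMulCommutative Q ∧
        ((x : V →ₗ[K] V) - 1) ^ (p ^ (n + 1 - n₀) * (p ^ n₀ - 1) - 1) ≠ 0 :=
  core_aux p q hpq n V x hx Q hQ hnorm hy

end Cfsg.Agent.Lib.Helper71_HHB
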