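import Mathlib

/-!
# Weight spaces of an abelian subgroup of `GL(W)` and their blocks (helper71)

Weight spaces `wt Z χ` of a subgroup `Z` of `GL(W)`, twisting of weights by normalising elements,
sums of weight spaces over sets of weights (`blk`), orbits of weights under a subgroup normalising
`Z`.  Used for Clifford-type arguments (S4305).
-/

set_option autoImplicit false

namespace Cfsg.Agent.Lib.Helper71_S3Wt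

open Module

variable {𝔽 : Type*} [Field 𝔽] {W : Type*} [AddCommGroup W] [Module 𝔽 W]

/-- an element of `GL(W)` as an endomorphism -/
def toEnd (g : W ≃ₗ[𝔽] W) : End 𝔽 W := (g : W →ₗ[𝔽] W)

theorem toEnd_apply (g : W ≃ₗ[𝔽] W) (w : W) : toEnd g w = g w := rfl

theorem toEnd_mul (g h : W ≃ₗ[𝔽] W) : toEnd (g * h) = toEnd g * toEnd h := rfl

theorem toEnd_one : toEnd (1 : W ≃ₗ[𝔽] W) = 1 := rfl

theorem toEnd_pow (g : W ≃ₗ[𝔽] W) (n : ℕ) : toEnd (g ^ n) = toEnd g ^ n := by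
  induction n with
  | zero => rfl
  | succ n ih => rw [pow_succ, pow_succ, toEnd_mul, ih]

/-- the weight space of a function `χ` on a subgroup `Z` of `GL(W)` -/
def wt (Z : Subgroup (W ≃ₗ[𝔽] W)) (χ : Z → 𝔽) : Submodule 𝔽 W :=
  ⨅ z : Z, End.eigenspace (toEnd (z : W ≃ₗ[𝔽] W)) (χ z)

theorem mem_wt {Z : Subgroup (W ≃ₗ[𝔽] W)} {χ : Z → 𝔽} {w : W} :
    w ∈ wt Z χ ↔ ∀ z : Z, (z : W ≃ₗ[𝔽] W) w = χ z • w := by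
  simp only [wt, Submodule.mem_iInf, End.mem_eigenspace_iff]
  rfl

theorem wt_indep (Z : Subgroup (W ≃ₗ[𝔽] W)) (hZc : ∀ x ∈ Z, ∀ y ∈ Z, x * y = y * x) :
    iSupIndep (wt Z) := by
  have h1 := End.independent_iInf_maxGenEigenspace_of_forall_mapsTo
    (fun z : Z => toEnd (z : W ≃ₗ[𝔽] W)) (by
      intro i j φ
      apply End.mapsTo_maxGenEigenspace_of_comm
      show toEnd (j : W ≃ₗ[𝔽] W) * toEnd (i : W ≃ₗ[𝔽] W) = toEnd (i : W ≃ₗ[𝔽] W) * toEnd (j : W ≃ₗ[𝔽] W)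
      rw [← toEnd_mul, ← toEnd_mul, hZc j j.2 i i.2])
  refine h1.mono ?_
  intro χ
  apply iInf_mono
  intro z
  exact End.eigenspace_le_maxGenEigenspace

theorem isSemisimple_of_pow_eq_one [FiniteDimensional 𝔽 W] (g : W ≃ₗ[𝔽] W) (m : ℕ) (hm : (m : 𝔽) ≠ 0)
    (hg : g ^ m = 1) : (toEnd g).IsSemisimple := by
  apply End.isSemisimple_of_squarefree_aeval_eq_zero
    ((Polynomial.X_pow_sub_one_separable_iff (F := 𝔽)).2 hm).squarefree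
  rw [map_sub, map_pow, Polynomial.aeval_X, map_one, ← toEnd_pow, hg, toEnd_one, sub_self]

theorem iSup_wt_eq_top [IsAlgClosed 𝔽] [FiniteDimensional 𝔽 W] (Z : Subgroup (W ≃ₗ[𝔽] W))
    (hZc : ∀ x ∈ Z, ∀ y ∈ Z, x * y = y * x)
    (hss : ∀ z ∈ Z, ∃ m : ℕ, (m : 𝔽) ≠ 0 ∧ z ^ m = 1) : ⨆ χ, wt Z χ = ⊤ := by
  have h1 := End.iSup_iInf_maxGenEigenspace_eq_top_of_iSup_maxGenEigenspace_eq_top_of_commute
    (fun z : Z => toEnd (z : W ≃ₗ[𝔽] W)) (by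
      intro i j _
      show toEnd (i : W ≃ₗ[𝔽] W) * toEnd (j : W ≃ₗ[𝔽] W) = toEnd (j : W ≃ₗ[𝔽] W) * toEnd (i : W ≃ₗ[𝔽] W)
      rw [← toEnd_mul, ← toEnd_mul, hZc i i.2 j j.2])
    (fun z => End.iSup_maxGenEigenspace_eq_top _)
  rw [← h1]
  apply iSup_congr
  intro χ
  apply iInf_congr
  intro z
  obtain ⟨m, hm, hz⟩ := hss z z.2
  have hs := isSemisimple_of_pow_eq_one (z : W ≃ₗ[𝔽] W) m hm hz
  exact ((End.isFinitelySemisimple_iff_isSemisimple.mpr hs).maxGenEigenspace_eq_eigenspace _).symm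


/-! ### twisting weights by normalising elements -/

/-- the weight `χ` twisted by an element `g` normalising `Z`: `z ↦ χ (g⁻¹ z g)` -/
def tw (Z : Subgroup (W ≃ₗ[𝔽] W)) (g : W ≃ₗ[𝔽] W)
    (hg : g ∈ Subgroup.normalizer (Z : Set (W ≃ₗ[𝔽] W))) (χ : Z → 𝔽) : Z → 𝔽 :=
  fun z => χ ⟨g⁻¹ * z * g, (Subgroup.mem_normalizer_iff''.1 hg z).1 z.2⟩

theorem tw_apply (Z : Subgroup (W ≃ₗ[𝔽] W)) (g : W ≃ₗ[𝔽] W)
    (hg : g ∈ Subgroup.normalizer (Z : Set (W ≃ₗ[𝔽] W))) (χ : Z → 𝔽) (z : Z) :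
    tw Z g hg χ z = χ ⟨g⁻¹ * z * g, (Subgroup.mem_normalizer_iff''.1 hg z).1 z.2⟩ := rfl

theorem tw_tw (Z : Subgroup (W ≃ₗ[𝔽] W)) (g₁ g₂ : W ≃ₗ[𝔽] W)
    (h₁ : g₁ ∈ Subgroup.normalizer (Z : Set (W ≃ₗ[𝔽] W)))
    (h₂ : g₂ ∈ Subgroup.normalizer (Z : Set (W ≃ₗ[𝔽] W))) (χ : Z → 𝔽) :
    tw Z g₁ h₁ (tw Z g₂ h₂ χ) = tw Z (g₁ * g₂) (Subgroup.mul_mem _ h₁ h₂) χ := by
  funext z
  rw [tw_apply, tw_apply, tw_apply]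
  refine congrArg χ (Subtype.ext ?_)
  show g₂⁻¹ * (g₁⁻¹ * (z : W ≃ₗ[𝔽] W) * g₁) * g₂ = (g₁ * g₂)⁻¹ * (z : W ≃ₗ[𝔽] W) * (g₁ * g₂)
  group

theorem tw_one (Z : Subgroup (W ≃ₗ[𝔽] W)) (χ : Z → 𝔽) :
    tw Z 1 (Subgroup.one_mem _) χ = χ := by
  funext z
  rw [tw_apply]
  refine congrArg χ (Subtype.ext ?_)
  show (1 : W ≃ₗ[𝔽] W)⁻¹ * (z : W ≃ₗ[𝔽] W) * 1 = z
  group

theorem tw_congr (Z : Subgroup (W ≃ₗ[𝔽] W)) {g₁ g₂ : W ≃ₗ[𝔽] W} (h : g₁ = g₂)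
    (h₁ : g₁ ∈ Subgroup.normalizer (Z : Set (W ≃ₗ[𝔽] W)))
    (h₂ : g₂ ∈ Subgroup.normalizer (Z : Set (W ≃ₗ[𝔽] W))) (χ : Z → 𝔽) :
    tw Z g₁ h₁ χ = tw Z g₂ h₂ χ := by
  subst h
  rfl

theorem map_wt (Z : Subgroup (W ≃ₗ[𝔽] W)) (g : W ≃ₗ[𝔽] W)
    (hg : g ∈ Subgroup.normalizer (Z : Set (W ≃ₗ[𝔽] W))) (χ : Z → 𝔽) :
    (wt Z χ).map (g : W →ₗ[𝔽] W) = wt Z (tw Z g hg χ) := by
  ext u
  constructor
  · rintro ⟨w, hw, rfl⟩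
    rw [mem_wt]
    intro z
    have hw' := mem_wt.1 hw ⟨g⁻¹ * z * g, (Subgroup.mem_normalizer_iff''.1 hg z).1 z.2⟩
    show (z : W ≃ₗ[𝔽] W) (g w) = tw Z g hg χ z • g w
    rw [tw_apply, ← map_smul, ← hw']
    have e : (z : W ≃ₗ[𝔽] W) * g = g * (g⁻¹ * (z : W ≃ₗ[𝔽] W) * g) := by group
    show ((z : W ≃ₗ[𝔽] W) * g) w = (g * (g⁻¹ * (z : W ≃ₗ[𝔽] W) * g)) w
    rw [← e]
  · intro hu
    refine ⟨g⁻¹ u, ?_, ?_⟩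
    · rw [SetLike.mem_coe, mem_wt]
      intro z
      have hz : g * (z : W ≃ₗ[𝔽] W) * g⁻¹ ∈ Z := (Subgroup.mem_normalizer_iff.1 hg z).1 z.2
      have hu' := mem_wt.1 hu ⟨g * z * g⁻¹, hz⟩
      rw [tw_apply] at hu'
      have e : (⟨g⁻¹ * ((⟨g * z * g⁻¹, hz⟩ : Z) : W ≃ₗ[𝔽] W) * g, (Subgroup.mem_normalizer_iff''.1 hg _).1 hz⟩ : Z) = z := by
        apply Subtype.ext
        show g⁻¹ * (g * (z : W ≃ₗ[𝔽] W) * g⁻¹) * g = z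
        group
      rw [e] at hu'
      show (z : W ≃ₗ[𝔽] W) (g⁻¹ u) = χ z • g⁻¹ u
      rw [← map_smul, ← hu']
      have e2 : (z : W ≃ₗ[𝔽] W) * g⁻¹ = g⁻¹ * (g * (z : W ≃ₗ[𝔽] W) * g⁻¹) := by group
      show ((z : W ≃ₗ[𝔽] W) * g⁻¹) u = (g⁻¹ * (g * (z : W ≃ₗ[𝔽] W) * g⁻¹)) u
      rw [← e2]
    · show (g * g⁻¹) u = u
      rw [mul_inv_cancel]
      rfl

/-! ### blocks -/

/-- the sum of the weight spaces over a set of weights -/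
def blk (Z : Subgroup (W ≃ₗ[𝔽] W)) (S : Set (Z → 𝔽)) : Submodule 𝔽 W := ⨆ χ ∈ S, wt Z χ

theorem wt_le_blk (Z : Subgroup (W ≃ₗ[𝔽] W)) {S : Set (Z → 𝔽)} {χ : Z → 𝔽} (h : χ ∈ S) :
    wt Z χ ≤ blk Z S := le_biSup (wt Z) h

theorem blk_mono (Z : Subgroup (W ≃ₗ[𝔽] W)) {S T : Set (Z → 𝔽)} (h : S ⊆ T) :
    blk Z S ≤ blk Z T := biSup_mono h

theorem map_blk (Z : Subgroup (W ≃ₗ[𝔽] W)) (g : W ≃ₗ[𝔽] W)
    (hg : g ∈ Subgroup.normalizer (Z : Set (W ≃ₗ[𝔽] W))) (S : Set (Z → 𝔽)) :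
    (blk Z S).map (g : W →ₗ[𝔽] W) = blk Z (tw Z g hg '' S) := by
  unfold blk
  rw [Submodule.map_iSup]
  simp_rw [Submodule.map_iSup, map_wt Z g hg]
  rw [iSup_image]

theorem blk_disjoint (Z : Subgroup (W ≃ₗ[𝔽] W)) (hZc : ∀ x ∈ Z, ∀ y ∈ Z, x * y = y * x)
    {S T : Set (Z → 𝔽)} (h : Disjoint S T) : Disjoint (blk Z S) (blk Z T) :=
  (wt_indep Z hZc).disjoint_biSup_biSup h

/-- elementwise independence of blocks over pairwise disjoint sets of weights -/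
theorem blk_indep (Z : Subgroup (W ≃ₗ[𝔽] W)) (hZc : ∀ x ∈ Z, ∀ y ∈ Z, x * y = y * x)
    {ι : Type*} [Fintype ι] [DecidableEq ι] (S : ι → Set (Z → 𝔽))
    (hS : ∀ i j, i ≠ j → Disjoint (S i) (S j)) (v : ι → W) (hv : ∀ i, v i ∈ blk Z (S i))
    (hsum : ∑ i, v i = 0) (i : ι) : v i = 0 := by
  have hd : Disjoint (S i) (⋃ j ∈ {j | j ≠ i}, S j) := by
    rw [Set.disjoint_iUnion₂_right]
    intro j hj
    exact hS i j (Ne.symm hj)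
  have h3 := blk_disjoint Z hZc hd
  rw [Submodule.disjoint_def] at h3
  apply h3 _ (hv i)
  have h4 : v i = - ∑ j ∈ Finset.univ.erase i, v j := by
    rw [← Finset.add_sum_erase _ _ (Finset.mem_univ i)] at hsum
    exact eq_neg_of_add_eq_zero_left hsum
  rw [h4]
  apply Submodule.neg_mem
  apply Submodule.sum_mem
  intro j hj
  have hji : j ≠ i := (Finset.mem_erase.1 hj).1
  exact blk_mono Z (Set.subset_biUnion_of_mem (u := fun j => S j) hji) (hv j)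


/-! ### orbits of weights under a subgroup normalising `Z` -/

/-- the orbit of the weight `χ` under `K` -/
def orb (Z K : Subgroup (W ≃ₗ[𝔽] W)) (hKZ : K ≤ Subgroup.normalizer (Z : Set (W ≃ₗ[𝔽] W)))
    (χ : Z → 𝔽) : Set (Z → 𝔽) :=
  {χ' | ∃ k, ∃ hk : k ∈ K, χ' = tw Z k (hKZ hk) χ}

theorem mem_orb_self (Z K : Subgroup (W ≃ₗ[𝔽] W))
    (hKZ : K ≤ Subgroup.normalizer (Z : Set (W ≃ₗ[𝔽] W))) (χ : Z → 𝔽) : χ ∈ orb Z K hKZ χ :=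
  ⟨1, K.one_mem, (tw_one Z χ).symm⟩

theorem orb_subset_of_mem (Z K : Subgroup (W ≃ₗ[𝔽] W))
    (hKZ : K ≤ Subgroup.normalizer (Z : Set (W ≃ₗ[𝔽] W))) {χ χ' : Z → 𝔽}
    (h : χ' ∈ orb Z K hKZ χ) : orb Z K hKZ χ' ⊆ orb Z K hKZ χ := by
  obtain ⟨k, hk, rfl⟩ := h
  rintro _ ⟨k', hk', rfl⟩
  exact ⟨k' * k, K.mul_mem hk' hk, tw_tw Z k' k _ _ χ⟩

theorem mem_orb_symm (Z K : Subgroup (W ≃ₗ[𝔽] W))
    (hKZ : K ≤ Subgroup.normalizer (Z : Set (W ≃ₗ[𝔽] W))) {χ χ' : Z → 𝔽}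
    (h : χ' ∈ orb Z K hKZ χ) : χ ∈ orb Z K hKZ χ' := by
  obtain ⟨k, hk, rfl⟩ := h
  refine ⟨k⁻¹, K.inv_mem hk, ?_⟩
  rw [tw_tw]
  exact (tw_one Z χ).symm.trans (tw_congr Z (inv_mul_cancel k).symm (Subgroup.one_mem _) _ χ)

theorem orb_eq_of_mem (Z K : Subgroup (W ≃ₗ[𝔽] W))
    (hKZ : K ≤ Subgroup.normalizer (Z : Set (W ≃ₗ[𝔽] W))) {χ χ' : Z → 𝔽}
    (h : χ' ∈ orb Z K hKZ χ) : orb Z K hKZ χ' = orb Z K hKZ χ :=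
  Set.Subset.antisymm (orb_subset_of_mem Z K hKZ h)
    (orb_subset_of_mem Z K hKZ (mem_orb_symm Z K hKZ h))

theorem orb_eq_or_disjoint (Z K : Subgroup (W ≃ₗ[𝔽] W))
    (hKZ : K ≤ Subgroup.normalizer (Z : Set (W ≃ₗ[𝔽] W))) (χ χ' : Z → 𝔽) :
    orb Z K hKZ χ = orb Z K hKZ χ' ∨ Disjoint (orb Z K hKZ χ) (orb Z K hKZ χ') := by
  by_cases h : ∃ ψ, ψ ∈ orb Z K hKZ χ ∧ ψ ∈ orb Z K hKZ χ'
  · left
    obtain ⟨ψ, h1, h2⟩ := h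
    rw [← orb_eq_of_mem Z K hKZ h1, orb_eq_of_mem Z K hKZ h2]
  · right
    rw [Set.disjoint_left]
    intro ψ h1 h2
    exact h ⟨ψ, h1, h2⟩

/-- an element normalising `Z` and `K` maps `K`-orbits to `K`-orbits -/
theorem tw_image_orb (Z K : Subgroup (W ≃ₗ[𝔽] W))
    (hKZ : K ≤ Subgroup.normalizer (Z : Set (W ≃ₗ[𝔽] W))) (a : W ≃ₗ[𝔽] W)
    (ha : a ∈ Subgroup.normalizer (Z : Set (W ≃ₗ[𝔽] W)))
    (haK : a ∈ Subgroup.normalizer (K : Set (W ≃ₗ[𝔽] W))) (χ : Z → 𝔽) :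
    tw Z a ha '' orb Z K hKZ χ = orb Z K hKZ (tw Z a ha χ) := by
  ext ψ
  constructor
  · rintro ⟨_, ⟨k, hk, rfl⟩, rfl⟩
    have hk' : a * k * a⁻¹ ∈ K := (Subgroup.mem_normalizer_iff.1 haK k).1 hk
    refine ⟨a * k * a⁻¹, hk', ?_⟩
    rw [tw_tw, tw_tw]
    exact tw_congr Z (by group) _ _ χ
  · rintro ⟨k, hk, rfl⟩
    have hk' : a⁻¹ * k * a ∈ K := (Subgroup.mem_normalizer_iff''.1 haK k).1 hk
    refine ⟨tw Z (a⁻¹ * k * a) (hKZ hk') χ, ⟨_, hk', rfl⟩, ?_⟩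
    rw [tw_tw, tw_tw]
    exact tw_congr Z (by group) _ _ χ

theorem tw_image_orb_of_mem (Z K : Subgroup (W ≃ₗ[𝔽] W))
    (hKZ : K ≤ Subgroup.normalizer (Z : Set (W ≃ₗ[𝔽] W))) {k : W ≃ₗ[𝔽] W} (hk : k ∈ K)
    (χ : Z → 𝔽) : tw Z k (hKZ hk) '' orb Z K hKZ χ = orb Z K hKZ χ := by
  rw [tw_image_orb Z K hKZ k (hKZ hk) (Subgroup.le_normalizer hk)]
  exact orb_eq_of_mem Z K hKZ ⟨k, hk, rfl⟩

end Cfsg.Agent.Lib.Helper71_S3Wt
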