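import Mathlib
import Cfsg.Agent.Lib.Helper71_S3Wt
import Cfsg.Agent.Lib.Helper71_HHB
import Cfsg.Agent.Lib.Helper20_TISmall

set_option autoImplicit false

namespace Cfsg.Agent.Lib.Helper71_S3LinA

open Cfsg.Agent.Lib.Helper71_S3Wt

/-! ### the symmetric group of degree 3 -/

/-- a 3-cycle -/
def c3 : Equiv.Perm (Fin 3) := finRotate 3

/-- a transposition -/
def s2 : Equiv.Perm (Fin 3) := Equiv.swap 0 1

theorem c3_pow : c3 ^ 3 = 1 := by decide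
theorem s2_pow : s2 ^ 2 = 1 := by decide
theorem s2_c3 : s2 * c3 * s2⁻¹ = c3⁻¹ := by decide
theorem c3_ne_one : c3 ≠ 1 := by decide

theorem s3_cases (a : Equiv.Perm (Fin 3)) :
    a = 1 ∨ a = c3 ∨ a = c3 * c3 ∨ a = s2 ∨ a = c3 * s2 ∨ a = c3 * c3 * s2 := by
  revert a
  decide

theorem s3_induction (P : Equiv.Perm (Fin 3) → Prop) (h1 : P 1)
    (hmul : ∀ a b, P a → P b → P (a * b)) (hc : P c3) (hs : P s2) : ∀ a, P a := by
  intro a
  rcases s3_cases a with rfl | rfl | rfl | rfl | rfl | rfl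
  · exact h1
  · exact hc
  · exact hmul _ _ hc hc
  · exact hs
  · exact hmul _ _ hc hs
  · exact hmul _ _ (hmul _ _ hc hc) hs

theorem card_s3 : Nat.card (Equiv.Perm (Fin 3)) = 6 := by
  rw [Nat.card_eq_fintype_card, Fintype.card_perm]
  rfl


/-! ### fixed vectors -/

variable {𝔽 : Type*} [Field 𝔽] {W : Type*} [AddCommGroup W] [Module 𝔽 W]

/-- the subspace of vectors fixed by a subgroup of `GL(W)` -/
def fixSp (T : Subgroup (W ≃ₗ[𝔽] W)) : Submodule 𝔽 W where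
  carrier := {w | ∀ x ∈ T, x w = w}
  add_mem' := by
    intro a b ha hb x hx
    rw [map_add, ha x hx, hb x hx]
  zero_mem' := by
    intro x _
    exact map_zero x
  smul_mem' := by
    intro r w hw x hx
    rw [map_smul, hw x hx]

theorem mem_fixSp {T : Subgroup (W ≃ₗ[𝔽] W)} {w : W} : w ∈ fixSp T ↔ ∀ x ∈ T, x w = w := Iff.rfl

theorem apply_mem_fixSp {T : Subgroup (W ≃ₗ[𝔽] W)} {g : W ≃ₗ[𝔽] W}
    (hg : g ∈ Subgroup.normalizer (T : Set (W ≃ₗ[𝔽] W))) {w : W} (hw : w ∈ fixSp T) :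
    g w ∈ fixSp T := by
  intro x hx
  have h1 : g⁻¹ * x * g ∈ T := (Subgroup.mem_normalizer_iff''.1 hg x).1 hx
  have h2 := hw _ h1
  have e : x * g = g * (g⁻¹ * x * g) := by group
  show (x * g) w = g w
  rw [e]
  show g ((g⁻¹ * x * g) w) = g w
  rw [h2]

theorem eq_bot_of_fixSp_eq_top {T : Subgroup (W ≃ₗ[𝔽] W)} (h : fixSp T = ⊤) : T = ⊥ := by
  rw [eq_bot_iff]
  intro x hx
  rw [Subgroup.mem_bot]
  ext w
  have : w ∈ fixSp T := by rw [h]; trivial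
  exact this x hx

theorem fixSp_ne_bot_of_isPGroup [Nontrivial W] (t : ℕ) [Fact t.Prime] [CharP 𝔽 t]
    (T : Subgroup (W ≃ₗ[𝔽] W)) [Finite T] (hT : IsPGroup t T) : fixSp T ≠ ⊥ := by
  obtain ⟨u, -, hu0, hu⟩ := Cfsg.Agent.Lib.Helper20_TISmall.exists_fixed_ne_zero hT
    (Cfsg.Agent.Lib.Helper71_HHB.tautRep T) ⊤ (fun _ _ _ => trivial) top_ne_bot
  intro h
  apply hu0
  have : u ∈ fixSp T := fun x hx => hu ⟨x, hx⟩
  rw [h] at this
  exact this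

/-- the hypotheses of the linear theorem -/
structure Hyp (K : Subgroup (W ≃ₗ[𝔽] W)) (α : Equiv.Perm (Fin 3) →* (W ≃ₗ[𝔽] W)) : Prop where
  norm : ∀ a, α a ∈ Subgroup.normalizer (K : Set (W ≃ₗ[𝔽] W))
  fixK : ∀ k ∈ K, (∀ a, α a * k * (α a)⁻¹ = k) → k = 1
  fixW : ∀ w : W, (∀ a, α a w = w) → w = 0
  irr : ∀ U : Submodule 𝔽 W, (∀ k ∈ K, ∀ u ∈ U, k u ∈ U) → (∀ a, ∀ u ∈ U, α a u ∈ U) →
    U = ⊥ ∨ U = ⊤

/-- a subgroup normalised by `K` and `A` with a non-zero fixed vector is trivial -/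
theorem eq_bot_of_fixSp_ne_bot {K : Subgroup (W ≃ₗ[𝔽] W)}
    {α : Equiv.Perm (Fin 3) →* (W ≃ₗ[𝔽] W)} (H : Hyp K α) (T : Subgroup (W ≃ₗ[𝔽] W))
    (hTK : K ≤ Subgroup.normalizer (T : Set (W ≃ₗ[𝔽] W)))
    (hTa : ∀ a, α a ∈ Subgroup.normalizer (T : Set (W ≃ₗ[𝔽] W))) (h : fixSp T ≠ ⊥) : T = ⊥ := by
  apply eq_bot_of_fixSp_eq_top
  rcases H.irr (fixSp T) (fun k hk u hu => apply_mem_fixSp (hTK hk) hu)
    (fun a u hu => apply_mem_fixSp (hTa a) hu) with h1 | h1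
  · exact absurd h1 h
  · exact h1

/-- normal `t`-subgroups invariant under `A` are trivial -/
theorem eq_bot_of_isPGroup {K : Subgroup (W ≃ₗ[𝔽] W)}
    {α : Equiv.Perm (Fin 3) →* (W ≃ₗ[𝔽] W)} (H : Hyp K α) (t : ℕ) [Fact t.Prime] [CharP 𝔽 t]
    (T : Subgroup (W ≃ₗ[𝔽] W)) [Finite T] (hT : IsPGroup t T)
    (hTK : K ≤ Subgroup.normalizer (T : Set (W ≃ₗ[𝔽] W)))
    (hTa : ∀ a, α a ∈ Subgroup.normalizer (T : Set (W ≃ₗ[𝔽] W))) : T = ⊥ := by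
  by_cases hW : Nontrivial W
  · exact eq_bot_of_fixSp_ne_bot H T hTK hTa (fixSp_ne_bot_of_isPGroup t T hT)
  · rw [not_nontrivial_iff_subsingleton] at hW
    rw [eq_bot_iff]
    intro x _
    rw [Subgroup.mem_bot]
    ext w
    exact Subsingleton.elim _ _

end Cfsg.Agent.Lib.Helper71_S3LinA
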