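import Mathlib
import Cfsg.Agent.Lib.Helper71_S3Wt
import Cfsg.Agent.Lib.Helper71_S3LinA

/-!
# T6 of helper71's linear theorem for S4305 (helper13)

Case `Stab_A(B) = ⟨c⟩`: the block `B` is stable under the 3-cycle but not under the transposition.
Then `C_W(f) = 0`, so (T3, taken as a hypothesis) `f` centralises `K`, the transposition acts
fixed-point-freely on `K`, and `K` is commutative.
-/

set_option autoImplicit false

namespace Cfsg.Agent.Lib.Helper13_S3T6

open Cfsg.Agent.Lib.Helper71_S3Wt Cfsg.Agent.Lib.Helper71_S3LinA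

variable {𝔽 : Type*} [Field 𝔽] {W : Type*} [AddCommGroup W] [Module 𝔽 W]

theorem map_eq_self_iff_forall {B : Submodule 𝔽 W} {g : W ≃ₗ[𝔽] W}
    (h : B.map (g : W →ₗ[𝔽] W) = B) {w : W} (hw : w ∈ B) : g w ∈ B := by
  rw [← h]
  exact ⟨w, hw, rfl⟩

/-- a normalising element of a subgroup of a group, in both directions -/
theorem mem_normalizer_of_forall_conj {G : Type*} [Group G] (T : Subgroup G) (g : G)
    (h1 : ∀ x ∈ T, g * x * g⁻¹ ∈ T) (h2 : ∀ x ∈ T, g⁻¹ * x * g⁻¹⁻¹ ∈ T) :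
    g ∈ Subgroup.normalizer (T : Set G) := by
  rw [Subgroup.mem_normalizer_iff]
  intro x
  constructor
  · exact h1 x
  · intro hx
    have := h2 _ hx
    have e : g⁻¹ * (g * x * g⁻¹) * g⁻¹⁻¹ = x := by group
    rwa [e] at this

theorem comm_of_c3_stable [IsAlgClosed 𝔽] [FiniteDimensional 𝔽 W] (t : ℕ) [Fact t.Prime]
    [CharP 𝔽 t] (ht3 : t ≠ 3)
    {K Z : Subgroup (W ≃ₗ[𝔽] W)}
    {α : Equiv.Perm (Fin 3) →* (W ≃ₗ[𝔽] W)} (H : Hyp K α) [Finite K]
    (hsolv : Group.IsSolvable K) (hcop : (Nat.card K).Coprime 6)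
    (hKZ : K ≤ Subgroup.normalizer (Z : Set (W ≃ₗ[𝔽] W)))
    (hAZ : ∀ a, α a ∈ Subgroup.normalizer (Z : Set (W ≃ₗ[𝔽] W)))
    (hZc : ∀ x ∈ Z, ∀ y ∈ Z, x * y = y * x) (χ₀ : Z → 𝔽) (hχ₀ : wt Z χ₀ ≠ ⊥)
    (hc : (blk Z (orb Z K hKZ χ₀)).map ((α c3 : W ≃ₗ[𝔽] W) : W →ₗ[𝔽] W) = blk Z (orb Z K hKZ χ₀))
    (hs : (blk Z (orb Z K hKZ χ₀)).map ((α s2 : W ≃ₗ[𝔽] W) : W →ₗ[𝔽] W) ≠ blk Z (orb Z K hKZ χ₀))
    (hT3 : ∀ (f : W ≃ₗ[𝔽] W), f ^ 3 = 1 → (∀ k ∈ K, f * k * f⁻¹ ∈ K) →
      (∀ T : Subgroup (W ≃ₗ[𝔽] W), T ≤ K → IsPGroup t T →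
        (∀ g : W ≃ₗ[𝔽] W, (∀ k ∈ K, g * k * g⁻¹ ∈ K) → ∀ x ∈ T, g * x * g⁻¹ ∈ T) → T = ⊥) →
      (∀ w : W, f w = w → w = 0) → ∀ k ∈ K, f * k = k * f) :
    ∀ x ∈ K, ∀ y ∈ K, x * y = y * x := by
  classical
  -- notation
  set B : Submodule 𝔽 W := blk Z (orb Z K hKZ χ₀) with hBdef
  set f : W ≃ₗ[𝔽] W := α c3 with hfdef
  set h : W ≃ₗ[𝔽] W := α s2 with hhdef
  have hf3 : f ^ 3 = 1 := by rw [hfdef, ← map_pow, c3_pow, map_one]
  have hh2 : h ^ 2 = 1 := by rw [hhdef, ← map_pow, s2_pow, map_one]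
  have hhf : h * f * h⁻¹ = f⁻¹ := by
    rw [hfdef, hhdef, ← map_inv, ← map_mul, ← map_inv, ← map_mul, s2_c3]
  have hhh : ∀ w : W, h (h w) = w := by
    intro w
    have : (h * h) w = w := by
      have e : h * h = 1 := by rw [← pow_two, hh2]
      rw [e]; rfl
    exact this
  have hhinv : h⁻¹ = h := by
    have e : h * h = 1 := by rw [← pow_two, hh2]
    exact inv_eq_of_mul_eq_one_right e
  -- f h = h f⁻¹
  have hfh : ∀ w : W, f (h w) = h (f⁻¹ w) := by
    intro w
    have e : f * h = h * f⁻¹ := by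
      have : h * f * h⁻¹ = f⁻¹ := hhf
      have e2 : f = h⁻¹ * f⁻¹ * h := by rw [← this]; group
      rw [hhinv] at e2
      calc f * h = (h * f⁻¹ * h) * h := by rw [← e2]
        _ = h * f⁻¹ * (h * h) := by group
        _ = h * f⁻¹ := by rw [← pow_two, hh2, mul_one]
    show (f * h) w = (h * f⁻¹) w
    rw [e]
  have hfK : ∀ k ∈ K, f * k * f⁻¹ ∈ K := fun k hk =>
    (Subgroup.mem_normalizer_iff.1 (H.norm c3) k).1 hk
  have hhK : ∀ k ∈ K, h * k * h⁻¹ ∈ K := fun k hk =>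
    (Subgroup.mem_normalizer_iff.1 (H.norm s2) k).1 hk
  have hhK' : ∀ k ∈ K, h⁻¹ * k * h ∈ K := fun k hk =>
    (Subgroup.mem_normalizer_iff''.1 (H.norm s2) k).1 hk
  -- (1) B is K-invariant
  have hBK : ∀ k ∈ K, ∀ b ∈ B, k b ∈ B := by
    intro k hk b hb
    have e : B.map ((k : W ≃ₗ[𝔽] W) : W →ₗ[𝔽] W) = B := by
      rw [hBdef, map_blk Z k (hKZ hk), tw_image_orb_of_mem Z K hKZ hk]
    exact map_eq_self_iff_forall e hb
  have hB0 : B ≠ ⊥ := by
    intro hB
    apply hχ₀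
    have := wt_le_blk Z (mem_orb_self Z K hKZ χ₀)
    rw [← hBdef, hB] at this
    exact le_bot_iff.1 this
  have hfB : ∀ b ∈ B, f b ∈ B := fun b hb => map_eq_self_iff_forall hc hb
  have hfB' : ∀ b ∈ B, f⁻¹ b ∈ B := by
    intro b hb
    have : b ∈ B.map ((f : W ≃ₗ[𝔽] W) : W →ₗ[𝔽] W) := by rw [hc]; exact hb
    obtain ⟨b', hb', rfl⟩ := this
    have : f⁻¹ (f b') = b' := by
      show (f⁻¹ * f) b' = b'
      rw [inv_mul_cancel]; rfl
    show f⁻¹ (f b') ∈ B
    rw [this]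
    exact hb'
  set hB : Submodule 𝔽 W := B.map ((h : W ≃ₗ[𝔽] W) : W →ₗ[𝔽] W) with hhBdef
  have hhB_eq : hB = blk Z (orb Z K hKZ (tw Z h (hAZ s2) χ₀)) := by
    rw [hhBdef, hBdef, map_blk Z h (hAZ s2), tw_image_orb Z K hKZ h (hAZ s2) (H.norm s2)]
  have hdisj : Disjoint B hB := by
    rw [hhB_eq, hBdef]
    apply blk_disjoint Z hZc
    rcases orb_eq_or_disjoint Z K hKZ χ₀ (tw Z h (hAZ s2) χ₀) with h1 | h1
    · exfalso
      apply hs
      rw [hhB_eq, ← h1]
    · exact h1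
  have hmem_hB : ∀ w : W, w ∈ hB ↔ h w ∈ B := by
    intro w
    constructor
    · rintro ⟨b, hb, rfl⟩
      show h (h b) ∈ B
      rw [hhh]
      exact hb
    · intro hw
      exact ⟨h w, hw, hhh w⟩
  have hfhB : ∀ c ∈ hB, f c ∈ hB := by
    intro c hc'
    rw [hmem_hB] at hc' ⊢
    -- h (f c) = f⁻¹ (h c)
    have e : h (f c) = f⁻¹ (h c) := by
      have := hfh (h c)
      rw [hhh] at this
      -- this : f c = h (f⁻¹ (h c))
      rw [this, hhh]
    rw [e]
    exact hfB' _ hc'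
  have hKhB : ∀ k ∈ K, ∀ c ∈ hB, k c ∈ hB := by
    intro k hk c hc'
    rw [hmem_hB] at hc' ⊢
    have e : h (k c) = (h * k * h⁻¹) (h c) := by
      show h (k c) = h (k (h⁻¹ (h c)))
      have : h⁻¹ (h c) = c := by
        show (h⁻¹ * h) c = c
        rw [inv_mul_cancel]; rfl
      rw [this]
    rw [e]
    exact hBK _ (hhK k hk) _ hc'
  -- U = B ⊔ hB = ⊤
  have hU : B ⊔ hB = ⊤ := by
    have hUK : ∀ k ∈ K, ∀ u ∈ B ⊔ hB, k u ∈ B ⊔ hB := by
      intro k hk u hu
      obtain ⟨b, hb, c, hc', rfl⟩ := Submodule.mem_sup.1 hu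
      rw [map_add]
      exact Submodule.add_mem_sup (hBK k hk b hb) (hKhB k hk c hc')
    have hUA : ∀ a, ∀ u ∈ B ⊔ hB, α a u ∈ B ⊔ hB := by
      apply s3_induction (fun a => ∀ u ∈ B ⊔ hB, α a u ∈ B ⊔ hB)
      · intro u hu
        rw [map_one]
        exact hu
      · intro a b ha hb u hu
        rw [map_mul]
        exact ha _ (hb u hu)
      · intro u hu
        obtain ⟨b, hb, c, hc', rfl⟩ := Submodule.mem_sup.1 hu
        rw [map_add]
        exact Submodule.add_mem_sup (hfB b hb) (hfhB c hc')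
      · intro u hu
        obtain ⟨b, hb, c, hc', rfl⟩ := Submodule.mem_sup.1 hu
        rw [map_add, add_comm]
        refine Submodule.add_mem_sup ((hmem_hB c).1 hc') ?_
        exact ⟨b, hb, rfl⟩
    rcases H.irr (B ⊔ hB) hUK hUA with h1 | h1
    · exfalso
      apply hB0
      exact le_bot_iff.1 (h1 ▸ le_sup_left)
    · exact h1
  -- vectors fixed by f are negated by h
  have hAfix : ∀ w : W, f w = w → h w = w → ∀ a, α a w = w := by
    intro w h1 h2
    apply s3_induction (fun a => α a w = w)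
    · rw [map_one]; rfl
    · intro a b ha hb
      rw [map_mul]
      show α a (α b w) = w
      rw [hb, ha]
    · exact h1
    · exact h2
  have hneg : ∀ w : W, f w = w → h w = -w := by
    intro w hw
    have hw' : f⁻¹ w = w := by
      have : f⁻¹ (f w) = w := by
        show (f⁻¹ * f) w = w
        rw [inv_mul_cancel]; rfl
      rw [hw] at this
      exact this
    have h1 : f (w + h w) = w + h w := by
      rw [map_add, hfh, hw', hw]
    have h2 : h (w + h w) = w + h w := by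
      rw [map_add, hhh, add_comm]
    have := H.fixW _ (hAfix _ h1 h2)
    exact (neg_eq_of_add_eq_zero_right this).symm
  -- (2) C_W(f) = 0
  have hCf : ∀ w : W, f w = w → w = 0 := by
    intro w hw
    have hwU : w ∈ B ⊔ hB := by rw [hU]; trivial
    obtain ⟨b, hb, c, hc', rfl⟩ := Submodule.mem_sup.1 hwU
    rw [map_add] at hw
    have h1 : f b - b = c - f c := by
      have : f b + f c - (b + f c) = b + c - (b + f c) := by rw [hw]
      calc f b - b = f b + f c - (b + f c) := by abel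
        _ = b + c - (b + f c) := this
        _ = c - f c := by abel
    have h2 : f b - b ∈ B := B.sub_mem (hfB b hb) hb
    have h3 : f b - b ∈ hB := by
      rw [h1]
      exact hB.sub_mem hc' (hfhB c hc')
    have h4 : f b - b = 0 := (Submodule.disjoint_def.1 hdisj) _ h2 h3
    have hfb : f b = b := sub_eq_zero.1 h4
    have hfc : f c = c := by
      rw [h4] at h1
      exact (sub_eq_zero.1 h1.symm).symm
    have hb0 : b = 0 := by
      have hn := hneg b hfb
      have : b ∈ hB := by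
        rw [hmem_hB, hn]
        exact B.neg_mem hb
      exact (Submodule.disjoint_def.1 hdisj) _ hb this
    have hc0 : c = 0 := by
      have hn := hneg c hfc
      have : c ∈ B := by
        have h5 : h c ∈ B := (hmem_hB c).1 hc'
        rw [hn] at h5
        have := B.neg_mem h5
        rwa [neg_neg] at this
      exact (Submodule.disjoint_def.1 hdisj) _ this hc'
    rw [hb0, hc0, add_zero]
  -- (3) f centralises K
  have hfcent : ∀ k ∈ K, f * k = k * f := by
    apply hT3 f hf3 hfK _ hCf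
    intro T hTK hT hTn
    haveI : Finite T := Finite.of_injective (Subgroup.inclusion hTK) (Subgroup.inclusion_injective hTK)
    have hnorm_of : ∀ g : W ≃ₗ[𝔽] W, g ∈ Subgroup.normalizer (K : Set (W ≃ₗ[𝔽] W)) →
        g ∈ Subgroup.normalizer (T : Set (W ≃ₗ[𝔽] W)) := by
      intro g hg
      apply mem_normalizer_of_forall_conj
      · exact hTn g (fun k hk => (Subgroup.mem_normalizer_iff.1 hg k).1 hk)
      · exact hTn g⁻¹ (fun k hk =>
          (Subgroup.mem_normalizer_iff.1 (Subgroup.inv_mem _ hg) k).1 hk)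
    exact eq_bot_of_isPGroup H t T hT (fun k hk => hnorm_of k (Subgroup.le_normalizer hk))
      (fun a => hnorm_of _ (H.norm a))
  -- (4) h acts fixed-point-freely on K
  have hfix : ∀ k ∈ K, h * k * h⁻¹ = k → k = 1 := by
    intro k hk hkh
    apply H.fixK k hk
    apply s3_induction (fun a => α a * k * (α a)⁻¹ = k)
    · rw [map_one]; group
    · intro a b ha hb
      rw [map_mul]
      calc α a * α b * k * (α a * α b)⁻¹ = α a * (α b * k * (α b)⁻¹) * (α a)⁻¹ := by group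
        _ = k := by rw [hb, ha]
    · show f * k * f⁻¹ = k
      rw [hfcent k hk]; group
    · exact hkh
  let φ : K →* K :=
    { toFun := fun k => ⟨h * k * h⁻¹, hhK k k.2⟩
      map_one' := by
        apply Subtype.ext
        show h * ((1 : K) : W ≃ₗ[𝔽] W) * h⁻¹ = 1
        rw [Subgroup.coe_one]; group
      map_mul' := by
        intro a b
        apply Subtype.ext
        show h * ((a * b : K) : W ≃ₗ[𝔽] W) * h⁻¹ = (h * a * h⁻¹) * (h * b * h⁻¹)
        rw [Subgroup.coe_mul]; group }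
  have hφ : MonoidHom.FixedPointFree φ := by
    intro k hk
    have : h * (k : W ≃ₗ[𝔽] W) * h⁻¹ = k := congrArg Subtype.val hk
    exact Subtype.ext (hfix k k.2 this)
  have hφ2 : Function.Involutive φ := by
    intro k
    apply Subtype.ext
    show h * (h * (k : W ≃ₗ[𝔽] W) * h⁻¹) * h⁻¹ = k
    rw [hhinv]
    calc h * (h * (k : W ≃ₗ[𝔽] W) * h) * h = (h * h) * k * (h * h) := by group
      _ = k := by rw [← pow_two, hh2, one_mul, mul_one]
  intro x hx y hy
  have := MonoidHom.FixedPointFree.commute_all_of_involutive hφ hφ2 ⟨x, hx⟩ ⟨y, hy⟩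
  exact congrArg Subtype.val this.eq

end Cfsg.Agent.Lib.Helper13_S3T6
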