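import Mathlib
import Cfsg.Prelude.Def_LieClassical
import Cfsg.Agent.Lib.Helper13_Herm
import Cfsg.Agent.Lib.Helper13_GU
import Cfsg.Agent.S0783

set_option autoImplicit false

namespace Cfsg.Agent.Lib.Helper13_SU

open Matrix Cfsg.Agent.Lib.Helper13_Herm Cfsg.Agent.Lib.Helper13_GU

section basic
variable {F : Type*} [Field F] {n q : ℕ}

theorem mem_SU_iff (A : Matrix.SpecialLinearGroup (Fin n) F) :
    A ∈ Cfsg.SU n F q ↔ ∀ u v : Fin n → F,
      Cfsg.hermForm n F q (A.1 *ᵥ u) (A.1 *ᵥ v) = Cfsg.hermForm n F q u v := Iff.rfl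

/-- diagonal matrix of determinant one -/
def diagSL (d : Fin n → Fˣ) (hd : ∏ i, d i = 1) : Matrix.SpecialLinearGroup (Fin n) F :=
  ⟨Matrix.diagonal (fun i => (d i : F)), by
    rw [Matrix.det_diagonal, ← Units.coe_prod, hd, Units.val_one]⟩

theorem diagSL_val (d : Fin n → Fˣ) (hd : ∏ i, d i = 1) :
    (diagSL d hd).1 = Matrix.diagonal (fun i => (d i : F)) := rfl

theorem diagSL_mem (d : Fin n → Fˣ) (hd : ∏ i, d i = 1) (hd1 : ∀ i, (d i) ^ (q + 1) = 1) :
    diagSL d hd ∈ Cfsg.SU n F q := by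
  rw [mem_SU_iff]
  exact (mem_GU_iff (diagGL d)).mp (diagGL_mem d hd1)

/-- the product `diag(.., w, .., w⁻¹, ..)` has determinant one -/
theorem prod_update_update (a b : Fin n) (hab : a ≠ b) (w : Fˣ) :
    ∏ i, Function.update (Function.update (1 : Fin n → Fˣ) a w) b w⁻¹ i = 1 := by
  rw [Finset.prod_update_of_mem (Finset.mem_univ b)]
  have h1 : ∏ x ∈ Finset.univ \ {b}, Function.update (1 : Fin n → Fˣ) a w x = w := by
    rw [Finset.prod_eq_single a]
    · rw [Function.update_self]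
    · intro c _ hc
      rw [Function.update_of_ne hc]; rfl
    · intro h
      exfalso
      apply h
      rw [Finset.mem_sdiff, Finset.mem_singleton]
      exact ⟨Finset.mem_univ a, hab⟩
  rw [h1, inv_mul_cancel]

end basic

section finite
variable {F : Type*} [Field F] [Fintype F] {n q : ℕ}

theorem neg_one_pow_q_add_one (hF : Fintype.card F = q ^ 2) : (-1 : F) ^ (q + 1) = 1 := by
  rw [pow_succ, neg_pow_q hF, one_pow]
  ring

/-- signed transposition `e_a ↦ e_b`, `e_b ↦ -e_a` -/
def swapSL (a b : Fin n) (hab : a ≠ b) : Matrix.SpecialLinearGroup (Fin n) F :=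
  ⟨Equiv.Perm.permMatrix F (Equiv.swap a b) *
      Matrix.diagonal (Function.update (1 : Fin n → F) a (-1)), by
    rw [Matrix.det_mul, Matrix.det_permutation, Equiv.Perm.sign_swap hab, Matrix.det_diagonal,
      Finset.prod_update_of_mem (Finset.mem_univ a)]
    simp⟩

omit [Fintype F] in
theorem swapSL_val (a b : Fin n) (hab : a ≠ b) :
    (swapSL a b hab : Matrix.SpecialLinearGroup (Fin n) F).1 =
      Equiv.Perm.permMatrix F (Equiv.swap a b) *
        Matrix.diagonal (Function.update (1 : Fin n → F) a (-1)) := rfl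

theorem swapSL_mem (hF : Fintype.card F = q ^ 2) (a b : Fin n) (hab : a ≠ b) :
    (swapSL a b hab : Matrix.SpecialLinearGroup (Fin n) F) ∈ Cfsg.SU n F q := by
  rw [mem_SU_iff]
  intro u v
  rw [swapSL_val, ← Matrix.mulVec_mulVec, ← Matrix.mulVec_mulVec, Matrix.permMatrix_mulVec,
    Matrix.permMatrix_mulVec]
  unfold Cfsg.hermForm
  rw [← Equiv.sum_comp (Equiv.swap a b) (fun i => u i * v i ^ q)]
  apply Finset.sum_congr rfl
  intro i _
  simp only [Function.comp_apply, Matrix.mulVec_diagonal]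
  set j := Equiv.swap a b i
  have hs : (Function.update (1 : Fin n → F) a (-1) j) ^ (q + 1) = 1 := by
    by_cases hj : j = a
    · rw [hj, Function.update_self]; exact neg_one_pow_q_add_one hF
    · rw [Function.update_of_ne hj]; simp
  calc Function.update (1 : Fin n → F) a (-1) j * u j *
        (Function.update (1 : Fin n → F) a (-1) j * v j) ^ q
      = (Function.update (1 : Fin n → F) a (-1) j) ^ (q + 1) * (u j * v j ^ q) := by
        rw [mul_pow]; ring
    _ = u j * v j ^ q := by rw [hs, one_mul]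

/-- central elements of `SU_n`, `n ≥ 2`, are scalar -/
theorem center_scalar (hF : Fintype.card F = q ^ 2) (hn : 2 ≤ n) (w : Fˣ)
    (hw1 : w ^ (q + 1) = 1) (hw2 : w ^ 2 ≠ 1)
    (z : ↥(Cfsg.SU n F q)) (hz : z ∈ Subgroup.center ↥(Cfsg.SU n F q)) :
    ∃ a : Fˣ, a ^ (q + 1) = 1 ∧ a ^ n = 1 ∧ z.1.1 = Matrix.diagonal (fun _ => (a : F)) := by
  rw [Subgroup.mem_center_iff] at hz
  have hq : q ≠ 0 := by have := two_le_q hF; omega
  have hn0 : 0 < n := by omega
  have hcomm : ∀ h : Matrix.SpecialLinearGroup (Fin n) F, h ∈ Cfsg.SU n F q →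
      z.1.1 * h.1 = h.1 * z.1.1 := by
    intro h hh
    have := hz ⟨h, hh⟩
    have h2 := congrArg (fun x : ↥(Cfsg.SU n F q) => x.1.1) this
    exact h2.symm
  have hww : (w : F) ≠ ((w⁻¹ : Fˣ) : F) := by
    intro h
    apply hw2
    have h3 : w = w⁻¹ := Units.ext h
    rw [pow_two]
    nth_rewrite 2 [h3]
    exact mul_inv_cancel w
  -- off-diagonal entries vanish
  have hoff : ∀ a b : Fin n, a ≠ b → z.1.1 a b = 0 := by
    intro a b hab
    have hD := hcomm _ (diagSL_mem (q := q) _ (prod_update_update a b hab w) (by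
      intro i
      by_cases hib : i = b
      · rw [hib, Function.update_self, inv_pow, hw1, inv_one]
      · rw [Function.update_of_ne hib]
        by_cases hia : i = a
        · rw [hia, Function.update_self]; exact hw1
        · rw [Function.update_of_ne hia]; simp))
    have h3 := congrFun (congrFun hD a) b
    rw [diagSL_val, Matrix.mul_diagonal, Matrix.diagonal_mul] at h3
    rw [Function.update_self, Function.update_of_ne hab, Function.update_self] at h3
    have h4 : z.1.1 a b * (((w⁻¹ : Fˣ) : F) - (w : F)) = 0 := by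
      rw [mul_sub, h3]; ring
    rcases mul_eq_zero.mp h4 with h5 | h5
    · exact h5
    · exact absurd (sub_eq_zero.mp h5).symm hww
  -- diagonal entries agree
  have hdiag : ∀ a b : Fin n, a ≠ b → z.1.1 a a = z.1.1 b b := by
    intro a b hab
    have hS := hcomm _ (swapSL_mem hF a b hab)
    have h3 := congrFun (congrFun hS b) a
    rw [swapSL_val, Matrix.mul_apply, Matrix.mul_apply] at h3
    rw [Finset.sum_eq_single b, Finset.sum_eq_single a] at h3
    · unfold Equiv.Perm.permMatrix at h3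
      rw [PEquiv.toMatrix_toPEquiv_mul] at h3
      simp only [Matrix.submatrix_apply, id_eq, Equiv.swap_apply_right, Matrix.diagonal_apply_eq,
        Function.update_self] at h3
      have : z.1.1 b b * (-1) = (-1) * z.1.1 a a := h3
      linear_combination this
    · intro c _ hc
      rw [hoff c a hc, mul_zero]
    · intro h; exact absurd (Finset.mem_univ a) h
    · intro c _ hc
      rw [hoff b c (Ne.symm hc), zero_mul]
    · intro h; exact absurd (Finset.mem_univ b) h
  set a := z.1.1 ⟨0, hn0⟩ ⟨0, hn0⟩ with ha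
  have hz1 : z.1.1 = Matrix.diagonal (fun _ => a) := by
    ext i j
    by_cases hij : i = j
    · subst hij
      rw [Matrix.diagonal_apply_eq]
      by_cases hi0 : i = ⟨0, hn0⟩
      · rw [hi0]
      · exact hdiag i _ hi0
    · rw [Matrix.diagonal_apply_ne _ hij, hoff i j hij]
  have h4 : a ^ (q + 1) = 1 := by
    have h5 := (mem_SU_iff z.1).mp z.2 (Pi.single ⟨0, hn0⟩ 1) (Pi.single ⟨0, hn0⟩ 1)
    have h6 : ∀ v : Fin n → F, Matrix.diagonal (fun _ : Fin n => a) *ᵥ v = a • v := by
      intro v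
      ext i
      rw [Matrix.mulVec_diagonal, Pi.smul_apply, smul_eq_mul]
    rw [hz1, h6, hermForm_smul_left, hermForm_smul_right, hermForm_single_left,
      Pi.single_eq_same, one_pow, mul_one] at h5
    rw [pow_succ']
    exact h5
  have ha0 : a ≠ 0 := by
    intro h0
    rw [h0, zero_pow (by omega)] at h4
    exact zero_ne_one h4
  have h5 : a ^ n = 1 := by
    have h6 := z.1.2
    rw [hz1, Matrix.det_diagonal, Finset.prod_const, Finset.card_univ, Fintype.card_fin] at h6
    exact h6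
  refine ⟨Units.mk0 a ha0, ?_, ?_, ?_⟩
  · apply Units.ext
    rw [Units.val_pow_eq_pow_val, Units.val_mk0, h4, Units.val_one]
  · apply Units.ext
    rw [Units.val_pow_eq_pow_val, Units.val_mk0, h5, Units.val_one]
  · rw [hz1]
    rfl


/-- scalar elements of `SU` -/
def scalarSU (a : Fˣ) (ha1 : a ^ (q + 1) = 1) (han : a ^ n = 1) : ↥(Cfsg.SU n F q) :=
  ⟨diagSL (fun _ => a) (by
      rw [Finset.prod_const, Finset.card_univ, Fintype.card_fin]; exact han),
    diagSL_mem _ _ (fun _ => ha1)⟩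

omit [Fintype F] in
theorem scalarSU_val (a : Fˣ) (ha1 : a ^ (q + 1) = 1) (han : a ^ n = 1) :
    (scalarSU a ha1 han : ↥(Cfsg.SU n F q)).1.1 = Matrix.diagonal (fun _ => (a : F)) := rfl

omit [Fintype F] in
theorem scalarSU_mem_center (a : Fˣ) (ha1 : a ^ (q + 1) = 1) (han : a ^ n = 1) :
    (scalarSU a ha1 han : ↥(Cfsg.SU n F q)) ∈ Subgroup.center ↥(Cfsg.SU n F q) := by
  rw [Subgroup.mem_center_iff]
  intro h
  apply Subtype.ext
  apply Subtype.ext
  show h.1.1 * Matrix.diagonal _ = Matrix.diagonal _ * h.1.1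
  ext i j
  rw [Matrix.mul_diagonal, Matrix.diagonal_mul, mul_comm]

/-- the centre of `SU_n(q)`, `n ≥ 2`, has order `gcd(n, q+1)` -/
theorem card_center (hF : Fintype.card F = q ^ 2) (hn : 2 ≤ n) :
    Nat.card (Subgroup.center ↥(Cfsg.SU n F q)) = Nat.gcd n (q + 1) := by
  have hq := two_le_q hF
  obtain ⟨w, hword, -, -⟩ := Cfsg.Agent.S0783.exists_omega hF
  have hw1 : w ^ (q + 1) = 1 := by rw [← hword]; exact pow_orderOf_eq_one w
  have hw2 : w ^ 2 ≠ 1 := by
    intro h
    have h1 := orderOf_dvd_of_pow_eq_one h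
    rw [hword] at h1
    have := Nat.le_of_dvd (by norm_num) h1
    omega
  set d := Nat.gcd n (q + 1) with hd
  have hK : Nat.card (powMonoidHom d : Fˣ →* Fˣ).ker = d := by
    rw [IsCyclic.card_powMonoidHom_ker, Nat.card_units, Nat.card_eq_fintype_card, hF]
    apply Nat.gcd_eq_right
    have h1 : d ∣ q + 1 := Nat.gcd_dvd_right _ _
    have h2 : q + 1 ∣ q ^ 2 - 1 := by
      have : q ^ 2 - 1 = (q + 1) * (q - 1) := by
        obtain ⟨r, rfl⟩ : ∃ r, q = r + 1 := ⟨q - 1, by omega⟩
        have : (r + 1) ^ 2 = (r + 1 + 1) * r + 1 := by ring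
        rw [this]
        simp
      rw [this]
      exact dvd_mul_right _ _
    exact h1.trans h2
  rw [← hK]
  symm
  have hmem : ∀ a : (powMonoidHom d : Fˣ →* Fˣ).ker, (a : Fˣ) ^ n = 1 ∧ (a : Fˣ) ^ (q + 1) = 1 := by
    intro a
    have h1 : (a : Fˣ) ^ d = 1 := MonoidHom.mem_ker.mp a.2
    exact pow_gcd_eq_one.mp h1
  let f : (powMonoidHom d : Fˣ →* Fˣ).ker → Subgroup.center ↥(Cfsg.SU n F q) :=
    fun a => ⟨scalarSU (a : Fˣ) (hmem a).2 (hmem a).1, scalarSU_mem_center _ _ _⟩
  have hn0 : 0 < n := by omega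
  apply Nat.card_congr (Equiv.ofBijective f ⟨?_, ?_⟩)
  · intro a b hab
    have h1 := congrArg (fun x : Subgroup.center ↥(Cfsg.SU n F q) => x.1.1.1 ⟨0, hn0⟩ ⟨0, hn0⟩) hab
    simp only [f, scalarSU_val, Matrix.diagonal_apply_eq] at h1
    exact Subtype.ext (Units.ext h1)
  · rintro ⟨z, hz⟩
    obtain ⟨a, ha1, han, hza⟩ := center_scalar hF hn w hw1 hw2 z hz
    have had : a ∈ (powMonoidHom d : Fˣ →* Fˣ).ker := by
      rw [MonoidHom.mem_ker]
      exact pow_gcd_eq_one.mpr ⟨han, ha1⟩
    refine ⟨⟨a, had⟩, ?_⟩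
    apply Subtype.ext
    apply Subtype.ext
    apply Subtype.ext
    show Matrix.diagonal (fun _ => (a : F)) = z.1.1
    exact hza.symm

end finite

end Cfsg.Agent.Lib.Helper13_SU
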