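import Mathlib
import Cfsg.Agent.Lib.Helper13_Herm
import Cfsg.Agent.Lib.Helper5_GUOrder
import Cfsg.Agent.Lib.Helper5_SUOrder
import Cfsg.Agent.Lib.Helper5_SUCenter
import Cfsg.Agent.Lib.Helper5_HermCount

set_option autoImplicit false

/-!
Involutions of `SU_3(q)`, `q` odd: they are the "reflections" `x ↦ 2 h(x,u) u - x` in the
non-isotropic points `⟨u⟩`.
-/

namespace Cfsg.Agent.Lib.Helper13_SU3Inv

open Matrix Module Cfsg.Agent.Lib.Helper13_Herm Cfsg.Agent.Lib.Helper5_GUOrder
  Cfsg.Agent.Lib.Helper5_SUOrder Cfsg.Agent.Lib.Helper5_SUCenter Cfsg.Agent.Lib.Helper5_HermCount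

variable {F : Type*} [Field F] [Fintype F] {q : ℕ} {n : ℕ}

/-! ### Field facts -/

theorem two_ne_zero_of_odd (hF : Fintype.card F = q ^ 2) (hq : Odd q) : (2 : F) ≠ 0 := by
  intro h2
  have hc : ringChar F = 2 := by
    have : (ringChar F) ∣ 2 := by
      apply ringChar.dvd
      exact_mod_cast h2
    rcases (Nat.dvd_prime Nat.prime_two).mp this with h | h
    · exfalso
      have := CharP.ringChar_ne_one (R := F)
      exact this h
    · exact h
  have := FiniteField.even_card_of_char_two hc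
  rw [hF] at this
  have hodd : Odd (q ^ 2) := hq.pow
  rcases hodd with ⟨k, hk⟩
  omega

theorem natCast_pow_q (hF : Fintype.card F = q ^ 2) (m : ℕ) : ((m : F)) ^ q = (m : F) := by
  induction m with
  | zero =>
    have := two_le_q hF
    simp [zero_pow (by omega : q ≠ 0)]
  | succ k ih => rw [Nat.cast_succ, add_pow_q hF, ih, one_pow]

theorem two_pow_q (hF : Fintype.card F = q ^ 2) : (2 : F) ^ q = 2 := by
  have := natCast_pow_q hF 2
  exact_mod_cast this

omit [Fintype F] in
theorem neg_one_pow_q (hq : Odd q) : (-1 : F) ^ q = -1 := hq.neg_one_pow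

/-! ### Reflections -/

/-- The map `x ↦ 2 h(x,u) u - x`. -/
def refl (n q : ℕ) (u : Fin n → F) : Matrix (Fin n) (Fin n) F :=
  (-1 : F) • Cfsg.unitaryTransvection n q u (-2)

omit [Fintype F] in
theorem refl_mulVec (u x : Fin n → F) :
    refl n q u *ᵥ x = (2 * Cfsg.hermForm n F q x u) • u - x := by
  rw [refl, Matrix.smul_mulVec, unitaryTransvection_mulVec]
  ext i
  simp only [Pi.smul_apply, Pi.add_apply, Pi.sub_apply, smul_eq_mul]
  ring

theorem refl_isU (hF : Fintype.card F = q ^ 2) (hq : Odd q) (u : Fin n → F)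
    (hu : Cfsg.hermForm n F q u u = 1) : IsU n q (refl n q u) := by
  have h1 : IsU n q (Cfsg.unitaryTransvection n q u (-2)) := by
    apply isU_transvection hF
    rw [hu, neg_pow_q hF, two_pow_q hF]
    ring
  intro x y
  rw [refl, Matrix.smul_mulVec, Matrix.smul_mulVec, hermForm_smul_left, hermForm_smul_right,
    neg_one_pow_q hq, h1 x y]
  ring

theorem refl_det (u : Fin 3 → F) (hu : Cfsg.hermForm 3 F q u u = 1) : (refl 3 q u).det = 1 := by
  rw [refl, Matrix.det_smul, det_unitaryTransvection, hu, Fintype.card_fin]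
  ring

omit [Fintype F] in
theorem refl_smul (l : F) (hl : l * l ^ q = 1) (u : Fin n → F) :
    refl n q (l • u) = refl n q u := by
  apply Matrix.toLin'.injective
  apply LinearMap.ext
  intro x
  rw [Matrix.toLin'_apply, Matrix.toLin'_apply, refl_mulVec, refl_mulVec, hermForm_smul_right,
    smul_smul]
  congr 2
  linear_combination (2 * Cfsg.hermForm n F q x u) * hl

omit [Fintype F] in
/-- Conjugating a reflection by an isometry. -/
theorem refl_conj {M : Matrix (Fin n) (Fin n) F} (hM : IsU n q M) (u : Fin n → F) :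
    M * refl n q u = refl n q (M *ᵥ u) * M := by
  apply Matrix.toLin'.injective
  apply LinearMap.ext
  intro x
  rw [Matrix.toLin'_apply, Matrix.toLin'_apply, ← Matrix.mulVec_mulVec, ← Matrix.mulVec_mulVec,
    refl_mulVec, refl_mulVec, hM x u, Matrix.mulVec_sub, Matrix.mulVec_smul]

omit [Fintype F] in
/-- Equality of reflections in norm-one vectors. -/
theorem refl_eq_iff (h2 : (2 : F) ≠ 0) {u u' : Fin n → F}
    (hu : Cfsg.hermForm n F q u u = 1) (hu' : Cfsg.hermForm n F q u' u' = 1) :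
    refl n q u = refl n q u' ↔ ∃ l : F, l * l ^ q = 1 ∧ u' = l • u := by
  constructor
  · intro h
    have h1 := congrArg (fun M => M *ᵥ u') h
    simp only [refl_mulVec, hu'] at h1
    have h3 : u' = Cfsg.hermForm n F q u' u • u := by
      have : (2 : F) • u' = (2 : F) • (Cfsg.hermForm n F q u' u • u) := by
        rw [smul_smul]
        have e : (2 * 1 : F) • u' - u' = u' := by
          rw [mul_one, two_smul]; abel
        rw [e] at h1
        rw [two_smul]
        nth_rewrite 1 [← h1]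
        abel
      exact smul_right_injective _ h2 this
    refine ⟨Cfsg.hermForm n F q u' u, ?_, h3⟩
    have := hu'
    nth_rewrite 1 [h3] at this
    nth_rewrite 2 [h3] at this
    rw [hermForm_smul_left, hermForm_smul_right, hu, mul_one] at this
    exact this
  · rintro ⟨l, hl, rfl⟩
    exact (refl_smul l hl u).symm

/-! ### Involutions are reflections -/

theorem eq_zero_of_hermForm_eq_zero (hF : Fintype.card F = q ^ 2) {z : Fin n → F}
    (hz : ∀ v, Cfsg.hermForm n F q z v = 0) : z = 0 := by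
  have hq0 : q ≠ 0 := by have := two_le_q hF; omega
  ext i
  have := hz (Pi.single i 1)
  rwa [hermForm_single_right n hq0] at this

theorem exists_refl_of_involution (hF : Fintype.card F = q ^ 2) (hq : Odd q)
    {A : Matrix (Fin 3) (Fin 3) F} (hAU : IsU 3 q A) (hdet : A.det = 1) (hA2 : A * A = 1)
    (hA1 : A ≠ 1) : ∃ u, Cfsg.hermForm 3 F q u u = 1 ∧ A = refl 3 q u := by
  classical
  have h2 := two_ne_zero_of_odd hF hq
  have hq0 : q ≠ 0 := by have := two_le_q hF; omega
  obtain ⟨f, hf⟩ : ∃ f : (Fin 3 → F) →ₗ[F] (Fin 3 → F), f = Matrix.toLin' A := ⟨_, rfl⟩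
  have hfA : ∀ v, f v = A *ᵥ v := fun v => by rw [hf, Matrix.toLin'_apply]
  have hff : ∀ v, f (f v) = v := by
    intro v
    rw [hfA, hfA, Matrix.mulVec_mulVec, hA2, Matrix.one_mulVec]
  have hfU : ∀ x y, Cfsg.hermForm 3 F q (f x) (f y) = Cfsg.hermForm 3 F q x y := by
    intro x y
    rw [hfA, hfA]
    exact hAU x y
  obtain ⟨W, hWdef⟩ : ∃ W : Submodule F (Fin 3 → F), W = LinearMap.ker (f - 1) := ⟨_, rfl⟩
  have hW : ∀ w, w ∈ W ↔ f w = w := by
    intro w
    rw [hWdef, LinearMap.mem_ker, LinearMap.sub_apply, Module.End.one_apply, sub_eq_zero]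
  have hWf : W ≤ W.comap f := by
    intro w hw
    rw [Submodule.mem_comap, hW, (hW w).mp hw]
    exact (hW w).mp hw
  have hdetf : LinearMap.det f = 1 := by rw [hf, LinearMap.det_toLin', hdet]
  have h1 := LinearMap.det_eq_det_mul_det W f hWf
  have hres : f.restrict hWf = LinearMap.id := by
    apply LinearMap.ext
    intro w
    apply Subtype.ext
    rw [LinearMap.coe_restrict_apply, LinearMap.id_apply]
    exact (hW w).mp w.2
  have hQ : W.mapQ W f hWf = (-1 : F) • LinearMap.id := by
    apply LinearMap.ext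
    intro x
    obtain ⟨v, rfl⟩ := Submodule.Quotient.mk_surjective W x
    rw [Submodule.mapQ_apply, LinearMap.smul_apply, LinearMap.id_apply, neg_one_smul,
      ← Submodule.Quotient.mk_neg, Submodule.Quotient.eq, sub_neg_eq_add, hW, map_add, hff,
      add_comm]
  rw [hdetf, hres, hQ, LinearMap.det_id, one_mul, LinearMap.det_smul, LinearMap.det_id,
    mul_one] at h1
  have hne : (-1 : F) ≠ 1 := by
    intro h
    apply h2
    linear_combination (-1 : F) * h
  have heven : Even (finrank F ((Fin 3 → F) ⧸ W)) := (neg_one_pow_eq_one_iff_even hne).mp h1.symm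
  have hsum := Submodule.finrank_quotient_add_finrank W
  rw [Module.finrank_fin_fun] at hsum
  have hWne : W ≠ ⊤ := by
    intro htop
    apply hA1
    apply Matrix.toLin'.injective
    apply LinearMap.ext
    intro v
    rw [← hf, Matrix.toLin'_one, LinearMap.id_apply]
    exact (hW v).mp (by rw [htop]; exact Submodule.mem_top)
  have hW1 : finrank F W = 1 := by
    have : finrank F W ≠ 3 := fun h3 => hWne
      (Submodule.eq_top_of_finrank_eq (by rw [h3, Module.finrank_fin_fun]))
    obtain ⟨k, hk⟩ := heven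
    omega
  obtain ⟨⟨u0, hu0W⟩, hu00, hspan⟩ := finrank_eq_one_iff'.mp hW1
  have hu00' : u0 ≠ 0 := fun h => hu00 (Subtype.ext h)
  have hfu0 : f u0 = u0 := (hW u0).mp hu0W
  have hWspan : ∀ w ∈ W, ∃ c : F, w = c • u0 := by
    intro w hw
    obtain ⟨c, hc⟩ := hspan ⟨w, hw⟩
    exact ⟨c, (congrArg Subtype.val hc).symm⟩
  -- `u0` is not isotropic
  have hN : Cfsg.hermForm 3 F q u0 u0 ≠ 0 := by
    intro h0
    apply hu00'
    apply eq_zero_of_hermForm_eq_zero hF
    intro v
    have hp : v + f v ∈ W := by rw [hW, map_add, hff, add_comm]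
    obtain ⟨c, hc⟩ := hWspan _ hp
    have e1 : Cfsg.hermForm 3 F q u0 (v + f v) = 0 := by
      rw [hc, hermForm_smul_right, h0, mul_zero]
    have e2 : Cfsg.hermForm 3 F q u0 (f v) = Cfsg.hermForm 3 F q u0 v := by
      have := hfU u0 (f v)
      rw [hfu0, hff] at this
      exact this.symm
    rw [hermForm_add_right 3 hF, e2] at e1
    have : (2 : F) * Cfsg.hermForm 3 F q u0 v = 0 := by linear_combination e1
    rcases mul_eq_zero.mp this with h | h
    · exact absurd h h2
    · exact h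
  -- normalise
  have hNq : (Cfsg.hermForm 3 F q u0 u0)⁻¹ ^ q = (Cfsg.hermForm 3 F q u0 u0)⁻¹ := by
    rw [inv_pow, hermForm_pow_q 3 hF]
  have hcard := card_norm_eq hF (inv_ne_zero hN) hNq
  have hpos : 0 < (Finset.univ.filter
      (fun x : F => x * x ^ q = (Cfsg.hermForm 3 F q u0 u0)⁻¹)).card := by
    rw [hcard]; omega
  obtain ⟨l, hl⟩ := Finset.card_pos.mp hpos
  have hl' : l * l ^ q = (Cfsg.hermForm 3 F q u0 u0)⁻¹ := (Finset.mem_filter.mp hl).2
  have hl0 : l ≠ 0 := by
    rintro rfl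
    rw [zero_mul] at hl'
    exact inv_ne_zero hN hl'.symm
  obtain ⟨u, hudef⟩ : ∃ u, u = l • u0 := ⟨_, rfl⟩
  have hu : Cfsg.hermForm 3 F q u u = 1 := by
    rw [hudef, hermForm_smul_left, hermForm_smul_right, ← mul_assoc, hl', inv_mul_cancel₀ hN]
  have hfu : f u = u := by rw [hudef, map_smul, hfu0]
  have hWspan' : ∀ w ∈ W, ∃ c : F, w = c • u := by
    intro w hw
    obtain ⟨c, hc⟩ := hWspan w hw
    refine ⟨c * l⁻¹, ?_⟩
    rw [hudef, smul_smul, mul_assoc, inv_mul_cancel₀ hl0, mul_one, hc]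
  refine ⟨u, hu, ?_⟩
  apply Matrix.toLin'.injective
  apply LinearMap.ext
  intro v
  rw [← hf, Matrix.toLin'_apply, refl_mulVec]
  have hp : v + f v ∈ W := by rw [hW, map_add, hff, add_comm]
  obtain ⟨c, hc⟩ := hWspan' _ hp
  have hc' : c = 2 * Cfsg.hermForm 3 F q v u := by
    have e1 : Cfsg.hermForm 3 F q (v + f v) u = c := by
      rw [hc, hermForm_smul_left, hu, mul_one]
    have e2 : Cfsg.hermForm 3 F q (f v) u = Cfsg.hermForm 3 F q v u := by
      have := hfU v u
      rw [hfu] at this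
      exact this
    rw [hermForm_add_left, e2] at e1
    linear_combination -e1
  rw [← hc', ← hc]
  abel

/-! ### Reflections as elements of `SU_3` -/

/-- The reflection in a norm-one vector, as an element of `SU_3(q)`. -/
noncomputable def reflSU (hF : Fintype.card F = q ^ 2) (hq : Odd q) (u : Fin 3 → F)
    (hu : Cfsg.hermForm 3 F q u u = 1) : ↥(Cfsg.SU 3 F q) :=
  mkSU (refl 3 q u) (refl_isU hF hq u hu) (refl_det u hu)

theorem reflSU_val (hF : Fintype.card F = q ^ 2) (hq : Odd q) (u : Fin 3 → F)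
    (hu : Cfsg.hermForm 3 F q u u = 1) :
    ((reflSU hF hq u hu).1 : Matrix (Fin 3) (Fin 3) F) = refl 3 q u := rfl

omit [Fintype F] in
theorem su_ext' {X Y : ↥(Cfsg.SU n F q)}
    (h : ((X.1 : Matrix.SpecialLinearGroup (Fin n) F) : Matrix (Fin n) (Fin n) F) =
      ((Y.1 : Matrix.SpecialLinearGroup (Fin n) F) : Matrix (Fin n) (Fin n) F)) : X = Y :=
  Subtype.ext (Subtype.ext h)

omit [Fintype F] in
theorem refl_mul_self (u : Fin n → F) (hu : Cfsg.hermForm n F q u u = 1) :
    refl n q u * refl n q u = 1 := by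
  apply Matrix.toLin'.injective
  apply LinearMap.ext
  intro x
  rw [Matrix.toLin'_apply, Matrix.toLin'_one, LinearMap.id_apply, ← Matrix.mulVec_mulVec,
    refl_mulVec, refl_mulVec]
  have : Cfsg.hermForm n F q ((2 * Cfsg.hermForm n F q x u) • u - x) u =
      Cfsg.hermForm n F q x u := by
    have e : (2 * Cfsg.hermForm n F q x u) • u - x =
        (2 * Cfsg.hermForm n F q x u) • u + (-1 : F) • x := by
      rw [neg_one_smul, sub_eq_add_neg]
    rw [e, hermForm_add_left, hermForm_smul_left, hermForm_smul_left, hu]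
    ring
  rw [this]
  abel

theorem refl_ne_one (hF : Fintype.card F = q ^ 2) (hq : Odd q) (u : Fin 3 → F)
    (hu : Cfsg.hermForm 3 F q u u = 1) : refl 3 q u ≠ 1 := by
  have h2 := two_ne_zero_of_odd hF hq
  intro h
  have h1 := congrArg Matrix.trace h
  rw [refl, Matrix.trace_smul, Cfsg.unitaryTransvection, Matrix.trace_add, Matrix.trace_smul,
    Matrix.trace_vecMulVec, Matrix.trace_one, Fintype.card_fin] at h1
  have h3 : u ⬝ᵥ (fun j => u j ^ q) = 1 := hu
  rw [h3] at h1
  simp only [smul_eq_mul, mul_one, Nat.cast_ofNat] at h1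
  have : (2 : F) * 2 = 0 := by linear_combination (-1 : F) * h1
  rcases mul_eq_zero.mp this with h | h <;> exact h2 h

/-- The involutions of `SU_3(q)`. -/
def Inv (q : ℕ) (F : Type*) [Field F] : Type _ :=
  {x : ↥(Cfsg.SU 3 F q) // x ≠ 1 ∧ x * x = 1}

/-- The involution attached to a norm-one vector. -/
noncomputable def toInv (hF : Fintype.card F = q ^ 2) (hq : Odd q) (u : X 3 q F) : Inv q F :=
  ⟨reflSU hF hq u.1 u.2, by
    intro h
    apply refl_ne_one hF hq u.1 u.2
    have := congrArg (fun g : ↥(Cfsg.SU 3 F q) =>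
      ((g.1 : Matrix.SpecialLinearGroup (Fin 3) F) : Matrix (Fin 3) (Fin 3) F)) h
    exact this, by
    apply su_ext'
    exact refl_mul_self u.1 u.2⟩

theorem toInv_val (hF : Fintype.card F = q ^ 2) (hq : Odd q) (u : X 3 q F) :
    (((toInv hF hq u).1.1 : Matrix.SpecialLinearGroup (Fin 3) F) : Matrix (Fin 3) (Fin 3) F) =
      refl 3 q u.1 := rfl

theorem toInv_surjective (hF : Fintype.card F = q ^ 2) (hq : Odd q) :
    Function.Surjective (toInv (F := F) hF hq) := by
  intro x
  have hA1 : ((x.1.1 : Matrix.SpecialLinearGroup (Fin 3) F) : Matrix (Fin 3) (Fin 3) F) ≠ 1 := by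
    intro h
    apply x.2.1
    apply su_ext'
    exact h
  have hA2 : ((x.1.1 : Matrix.SpecialLinearGroup (Fin 3) F) : Matrix (Fin 3) (Fin 3) F) *
      ((x.1.1 : Matrix.SpecialLinearGroup (Fin 3) F) : Matrix (Fin 3) (Fin 3) F) = 1 := by
    have := congrArg (fun g : ↥(Cfsg.SU 3 F q) =>
      ((g.1 : Matrix.SpecialLinearGroup (Fin 3) F) : Matrix (Fin 3) (Fin 3) F)) x.2.2
    exact this
  obtain ⟨u, hu, hAu⟩ := exists_refl_of_involution hF hq ((mem_SU_iff x.1.1).mp x.1.2) x.1.1.2
    hA2 hA1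
  refine ⟨(⟨u, hu⟩ : X 3 q F), ?_⟩
  apply Subtype.ext
  apply su_ext'
  exact hAu.symm

theorem toInv_eq_iff (hF : Fintype.card F = q ^ 2) (hq : Odd q) (u u' : X 3 q F) :
    toInv hF hq u = toInv hF hq u' ↔ ∃ l : F, l * l ^ q = 1 ∧ u'.1 = l • u.1 := by
  rw [← refl_eq_iff (two_ne_zero_of_odd hF hq) u.2 u'.2]
  constructor
  · intro h
    have := congrArg (fun g : Inv q F =>
      ((g.1.1 : Matrix.SpecialLinearGroup (Fin 3) F) : Matrix (Fin 3) (Fin 3) F)) h
    exact this
  · intro h
    apply Subtype.ext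
    apply su_ext'
    exact h

/-! ### Counting the involutions -/

/-- The norm-one scalars. -/
def U1 (q : ℕ) (F : Type*) [Field F] : Type _ := {l : F // l * l ^ q = 1}

theorem card_U1 (hF : Fintype.card F = q ^ 2) : Nat.card (U1 q F) = q + 1 := by
  classical
  have hc := card_norm_eq hF (c := (1 : F)) one_ne_zero (one_pow q)
  rw [← hc, U1, Nat.card_eq_fintype_card, Fintype.card_subtype]

omit [Fintype F] in
theorem X_ne_zero (u : X n q F) : u.1 ≠ 0 := by
  intro h
  have := u.2
  rw [h, hermForm_zero_left] at this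
  exact zero_ne_one this

theorem card_Inv (hF : Fintype.card F = q ^ 2) (hq : Odd q) :
    Nat.card (Inv q F) * (q + 1) = q ^ 2 * (q ^ 3 + 1) := by
  classical
  have hX : Nat.card (X 3 q F) = q ^ 2 * (q ^ 3 + 1) := by
    have := card_norm_one hF 3
    rw [if_neg (by decide)] at this
    exact this
  rw [← hX, ← card_U1 hF, ← Nat.card_prod]
  have hsurj := toInv_surjective (F := F) hF hq
  let rep : Inv q F → X 3 q F := fun i => Classical.choose (hsurj i)
  have hrep : ∀ i, toInv hF hq (rep i) = i := fun i => Classical.choose_spec (hsurj i)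
  let Ψ : Inv q F × U1 q F → X 3 q F := fun p =>
    ⟨p.2.1 • (rep p.1).1, by
      rw [hermForm_smul_left, hermForm_smul_right, (rep p.1).2, mul_one, p.2.2]⟩
  have hΨ : ∀ p, toInv hF hq (Ψ p) = p.1 := by
    intro p
    rw [← hrep p.1]
    symm
    rw [toInv_eq_iff]
    exact ⟨p.2.1, p.2.2, rfl⟩
  apply Nat.card_congr
  apply Equiv.ofBijective Ψ
  constructor
  · intro p p' h
    have h1 : p.1 = p'.1 := by rw [← hΨ p, ← hΨ p', h]
    have h2 : p.2.1 • (rep p.1).1 = p'.2.1 • (rep p'.1).1 := congrArg Subtype.val h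
    rw [← h1] at h2
    have h3 : p.2.1 = p'.2.1 := by
      have := sub_smul p.2.1 p'.2.1 (rep p.1).1
      rw [h2, sub_self] at this
      rcases smul_eq_zero.mp this with h | h
      · exact sub_eq_zero.mp h
      · exact absurd h (X_ne_zero _)
    exact Prod.ext h1 (Subtype.ext h3)
  · intro u
    have h1 := hrep (toInv hF hq u)
    rw [toInv_eq_iff] at h1
    obtain ⟨l, hl, hlu⟩ := h1
    exact ⟨(toInv hF hq u, ⟨l, hl⟩), Subtype.ext hlu.symm⟩

/-! ### Conjugacy -/

omit [Fintype F] in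
theorem isU_mul {M N : Matrix (Fin n) (Fin n) F} (hM : IsU n q M) (hN : IsU n q N) :
    IsU n q (M * N) := by
  intro x y
  rw [← Matrix.mulVec_mulVec, ← Matrix.mulVec_mulVec, hM, hN]

/-- For norm-one `u`, `u'` there is an element of `SU_3` conjugating `refl u` to `refl u'`. -/
theorem exists_conj (hF : Fintype.card F = q ^ 2) {u u' : Fin 3 → F}
    (hu : Cfsg.hermForm 3 F q u u = 1) (hu' : Cfsg.hermForm 3 F q u' u' = 1) :
    ∃ g : ↥(Cfsg.SU 3 F q),
      ((g.1 : Matrix.SpecialLinearGroup (Fin 3) F) : Matrix (Fin 3) (Fin 3) F) * refl 3 q u =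
        refl 3 q u' * ((g.1 : Matrix.SpecialLinearGroup (Fin 3) F) : Matrix (Fin 3) (Fin 3) F) := by
  obtain ⟨M, hM, hMu⟩ := exists_map hF u u' hu hu'
  have hd := det_mul_det_pow_of_isU hF hM
  have hd0 : M.det ≠ 0 := by
    intro h
    rw [h, zero_mul] at hd
    exact zero_ne_one hd
  have hdi : M.det⁻¹ * (M.det⁻¹) ^ q = 1 := by
    rw [inv_pow, ← mul_inv, hd, inv_one]
  have hDU : IsU 3 q (Cfsg.unitaryTransvection 3 q u (M.det⁻¹ - 1)) := by
    apply isU_transvection hF
    rw [hu, sub_pow_q hF, one_pow]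
    linear_combination hdi
  have hDdet : (Cfsg.unitaryTransvection 3 q u (M.det⁻¹ - 1)).det = M.det⁻¹ := by
    rw [det_unitaryTransvection, hu]
    ring
  have hDu : Cfsg.unitaryTransvection 3 q u (M.det⁻¹ - 1) *ᵥ u = M.det⁻¹ • u := by
    rw [unitaryTransvection_mulVec, hu, mul_one]
    rw [sub_smul, one_smul]
    abel
  have hGU := isU_mul hM hDU
  have hGdet : (M * Cfsg.unitaryTransvection 3 q u (M.det⁻¹ - 1)).det = 1 := by
    rw [Matrix.det_mul, hDdet, mul_inv_cancel₀ hd0]
  refine ⟨mkSU _ hGU hGdet, ?_⟩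
  rw [mkSU_val, refl_conj hGU, ← Matrix.mulVec_mulVec, hDu, Matrix.mulVec_smul, hMu,
    refl_smul _ hdi]

/-! ### Commuting reflections -/

omit [Fintype F] in
theorem refl_self (u : Fin n → F) (hu : Cfsg.hermForm n F q u u = 1) : refl n q u *ᵥ u = u := by
  rw [refl_mulVec, hu, mul_one, two_smul]
  abel

omit [Fintype F] in
theorem refl_perp {u x : Fin n → F} (h : Cfsg.hermForm n F q x u = 0) : refl n q u *ᵥ x = -x := by
  rw [refl_mulVec, h, mul_zero, zero_smul, zero_sub]

omit [Fintype F] in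
/-- Two different commuting reflections in norm-one vectors have orthogonal centres. -/
theorem hermForm_eq_zero_of_commute (h2 : (2 : F) ≠ 0)
    {u v : Fin n → F} (hu : Cfsg.hermForm n F q u u = 1) (hv : Cfsg.hermForm n F q v v = 1)
    (hne : refl n q u ≠ refl n q v) (hc : refl n q u * refl n q v = refl n q v * refl n q u) :
    Cfsg.hermForm n F q u v = 0 := by
  by_contra h0
  apply hne
  obtain ⟨z, hz⟩ : ∃ z, z = refl n q v *ᵥ u := ⟨_, rfl⟩
  have h1 : refl n q u *ᵥ z = z := by
    have := congrArg (fun M => M *ᵥ u) hc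
    simp only [← Matrix.mulVec_mulVec, refl_self u hu] at this
    rw [hz]
    exact this
  have h3 : z = Cfsg.hermForm n F q z u • u := by
    rw [refl_mulVec] at h1
    have : (2 : F) • z = (2 : F) • (Cfsg.hermForm n F q z u • u) := by
      rw [smul_smul, two_smul]
      nth_rewrite 1 [← h1]
      abel
    exact smul_right_injective _ h2 this
  have h4 : (2 * Cfsg.hermForm n F q u v) • v = (Cfsg.hermForm n F q z u + 1) • u := by
    have : z = (2 * Cfsg.hermForm n F q u v) • v - u := by rw [hz, refl_mulVec]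
    rw [add_smul, one_smul, ← h3, this]
    abel
  have h5 : (2 * Cfsg.hermForm n F q u v) ≠ 0 := mul_ne_zero h2 h0
  obtain ⟨c, hcdef⟩ : ∃ c, c = (2 * Cfsg.hermForm n F q u v)⁻¹ * (Cfsg.hermForm n F q z u + 1) :=
    ⟨_, rfl⟩
  have h6 : v = c • u := by
    have := congrArg (fun x => (2 * Cfsg.hermForm n F q u v)⁻¹ • x) h4
    simp only [smul_smul, inv_mul_cancel₀ h5, one_smul] at this
    rw [this, hcdef]
  have h7 : c * c ^ q = 1 := by
    have e : Cfsg.hermForm n F q (c • u) (c • u) = 1 := by rw [← h6]; exact hv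
    rw [hermForm_smul_left, hermForm_smul_right, hu, mul_one] at e
    exact e
  rw [h6, refl_smul c h7]

/-- The product of the reflections in two vectors of an orthonormal triple of `F^3` is the
reflection in the third. -/
theorem refl_mul_refl (hF : Fintype.card F = q ^ 2) {u v w : Fin 3 → F}
    (hu : Cfsg.hermForm 3 F q u u = 1) (hv : Cfsg.hermForm 3 F q v v = 1)
    (hw : Cfsg.hermForm 3 F q w w = 1) (huv : Cfsg.hermForm 3 F q u v = 0)
    (huw : Cfsg.hermForm 3 F q u w = 0) (hvw : Cfsg.hermForm 3 F q v w = 0) :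
    refl 3 q u * refl 3 q v = refl 3 q w := by
  have hvu : Cfsg.hermForm 3 F q v u = 0 := by
    rw [← hermForm_pow_q 3 hF, huv, zero_pow (by have := two_le_q hF; omega)]
  have hwu : Cfsg.hermForm 3 F q w u = 0 := by
    rw [← hermForm_pow_q 3 hF, huw, zero_pow (by have := two_le_q hF; omega)]
  have hwv : Cfsg.hermForm 3 F q w v = 0 := by
    rw [← hermForm_pow_q 3 hF, hvw, zero_pow (by have := two_le_q hF; omega)]
  have hli : LinearIndependent F ![u, v, w] := by
    rw [Fintype.linearIndependent_iff]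
    intro g hg
    have hg' : g 0 • u + g 1 • v + g 2 • w = 0 := by
      rw [Fin.sum_univ_three] at hg
      exact hg
    have e0 := congrArg (fun x => Cfsg.hermForm 3 F q x u) hg'
    have e1 := congrArg (fun x => Cfsg.hermForm 3 F q x v) hg'
    have e2 := congrArg (fun x => Cfsg.hermForm 3 F q x w) hg'
    simp only [hermForm_add_left, hermForm_smul_left, hu, hv, hw, huv, huw, hvw, hvu, hwu, hwv,
      hermForm_zero_left, mul_zero, mul_one, add_zero, zero_add] at e0 e1 e2
    intro i
    fin_cases i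
    · exact e0
    · exact e1
    · exact e2
  have hspan : Submodule.span F (Set.range ![u, v, w]) = ⊤ :=
    hli.span_eq_top_of_card_eq_finrank' (by simp)
  apply Matrix.toLin'.injective
  apply LinearMap.ext_on_range hspan
  intro i
  rw [Matrix.toLin'_apply, Matrix.toLin'_apply, ← Matrix.mulVec_mulVec]
  fin_cases i
  · show refl 3 q u *ᵥ (refl 3 q v *ᵥ u) = refl 3 q w *ᵥ u
    rw [refl_perp huv, refl_perp huw, Matrix.mulVec_neg, refl_self u hu]
  · show refl 3 q u *ᵥ (refl 3 q v *ᵥ v) = refl 3 q w *ᵥ v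
    rw [refl_self v hv, refl_perp hvu, refl_perp hvw]
  · show refl 3 q u *ᵥ (refl 3 q v *ᵥ w) = refl 3 q w *ᵥ w
    rw [refl_perp hwv, Matrix.mulVec_neg, refl_perp hwu, refl_self w hw, neg_neg]

end Cfsg.Agent.Lib.Helper13_SU3Inv
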