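import Mathlib
import Cfsg.Agent.Lib.Helper13_SU3Inv

set_option autoImplicit false

/-!
The commuting graph of the involutions of `SU_3(q)`, `q` odd, in terms of the norm-one vectors
of the reflections.
-/

namespace Cfsg.Agent.Lib.Helper13_SU3Graph

open Matrix Module Cfsg.Agent.Lib.Helper13_Herm Cfsg.Agent.Lib.Helper5_GUOrder
  Cfsg.Agent.Lib.Helper5_SUOrder Cfsg.Agent.Lib.Helper5_SUCenter Cfsg.Agent.Lib.Helper5_HermCount
  Cfsg.Agent.Lib.Helper13_SU3Inv

variable {F : Type*} [Field F] [Fintype F] {q : ℕ} {n : ℕ}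

/-! ### More on the form -/

omit [Fintype F] in
theorem hermForm_sub_left (u u' v : Fin n → F) :
    Cfsg.hermForm n F q (u - u') v = Cfsg.hermForm n F q u v - Cfsg.hermForm n F q u' v := by
  have : u - u' = u + (-1 : F) • u' := by rw [neg_one_smul, sub_eq_add_neg]
  rw [this, hermForm_add_left, hermForm_smul_left]
  ring

theorem hermForm_sub_right (hF : Fintype.card F = q ^ 2) (u v v' : Fin n → F) :
    Cfsg.hermForm n F q u (v - v') = Cfsg.hermForm n F q u v - Cfsg.hermForm n F q u v' := by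
  have : v - v' = v + (-1 : F) • v' := by rw [neg_one_smul, sub_eq_add_neg]
  rw [this, hermForm_add_right n hF, hermForm_smul_right, neg_pow_q hF, one_pow]
  ring

theorem hermForm_symm_zero (hF : Fintype.card F = q ^ 2) {u v : Fin n → F}
    (h : Cfsg.hermForm n F q u v = 0) : Cfsg.hermForm n F q v u = 0 := by
  rw [← hermForm_pow_q n hF, h, zero_pow (by have := two_le_q hF; omega)]

omit [Fintype F] in
/-- The component of `v` orthogonal to the norm-one vector `u`. -/
theorem hermForm_proj_left (u v : Fin n → F) (hu : Cfsg.hermForm n F q u u = 1) :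
    Cfsg.hermForm n F q (v - Cfsg.hermForm n F q v u • u) u = 0 := by
  rw [hermForm_sub_left, hermForm_smul_left, hu, mul_one, sub_self]

theorem hermForm_proj_self (hF : Fintype.card F = q ^ 2) (u v : Fin n → F)
    (hu : Cfsg.hermForm n F q u u = 1) (hv : Cfsg.hermForm n F q v v = 1) :
    Cfsg.hermForm n F q (v - Cfsg.hermForm n F q v u • u) (v - Cfsg.hermForm n F q v u • u) =
      1 - Cfsg.hermForm n F q v u * Cfsg.hermForm n F q v u ^ q := by
  rw [hermForm_sub_right hF, hermForm_smul_right, hermForm_proj_left u v hu, mul_zero, sub_zero,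
    hermForm_sub_left, hermForm_smul_left, hv, hermForm_pow_q n hF]

/-! ### Commuting reflections -/

theorem refl_comm_of_perp (hF : Fintype.card F = q ^ 2) {u v : Fin n → F}
    (huv : Cfsg.hermForm n F q u v = 0) : refl n q u * refl n q v = refl n q v * refl n q u := by
  have hvu := hermForm_symm_zero hF huv
  apply Matrix.toLin'.injective
  apply LinearMap.ext
  intro x
  rw [Matrix.toLin'_apply, Matrix.toLin'_apply, ← Matrix.mulVec_mulVec, ← Matrix.mulVec_mulVec,
    refl_mulVec, refl_mulVec, refl_mulVec, refl_mulVec]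
  simp only [hermForm_sub_left, hermForm_smul_left, huv, hvu, mul_zero, zero_sub]
  simp only [mul_neg, neg_smul]
  abel

/-- For norm-one `u`, `v`: the reflections commute iff `u ⟂ v` or they are equal. -/
theorem refl_comm_iff (hF : Fintype.card F = q ^ 2) (h2 : (2 : F) ≠ 0) {u v : Fin n → F}
    (hu : Cfsg.hermForm n F q u u = 1) (hv : Cfsg.hermForm n F q v v = 1) :
    refl n q u * refl n q v = refl n q v * refl n q u ↔
      Cfsg.hermForm n F q u v = 0 ∨ refl n q u = refl n q v := by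
  constructor
  · intro hc
    by_cases hne : refl n q u = refl n q v
    · exact Or.inr hne
    · exact Or.inl (hermForm_eq_zero_of_commute h2 hu hv hne hc)
  · rintro (h | h)
    · exact refl_comm_of_perp hF h
    · rw [h]

omit [Fintype F] in
/-- Orthogonal norm-one vectors have different reflections. -/
theorem refl_ne_of_perp (h2 : (2 : F) ≠ 0) {u v : Fin n → F}
    (hu : Cfsg.hermForm n F q u u = 1) (hv : Cfsg.hermForm n F q v v = 1)
    (huv : Cfsg.hermForm n F q u v = 0) : refl n q u ≠ refl n q v := by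
  intro h
  obtain ⟨l, hl, hlv⟩ := (refl_eq_iff h2 hu hv).mp h
  rw [hlv, hermForm_smul_right, hu, mul_one] at huv
  rw [huv, mul_zero] at hl
  exact zero_ne_one hl

/-- For norm-one `u`, `v`: `refl v` is a neighbour of `refl u` iff `u ⟂ v`. -/
theorem refl_adj_iff (hF : Fintype.card F = q ^ 2) (h2 : (2 : F) ≠ 0) {u v : Fin n → F}
    (hu : Cfsg.hermForm n F q u u = 1) (hv : Cfsg.hermForm n F q v v = 1) :
    (refl n q v ≠ refl n q u ∧ refl n q u * refl n q v = refl n q v * refl n q u) ↔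
      Cfsg.hermForm n F q u v = 0 := by
  constructor
  · rintro ⟨hne, hc⟩
    exact hermForm_eq_zero_of_commute h2 hu hv (fun h => hne h.symm) hc
  · intro h
    exact ⟨fun h' => refl_ne_of_perp h2 hu hv h h'.symm, refl_comm_of_perp hF h⟩

/-- The third vector of an orthonormal basis. -/
theorem exists_third (hF : Fintype.card F = q ^ 2) (hq : Odd q) {u v : Fin 3 → F}
    (hu : Cfsg.hermForm 3 F q u u = 1) (hv : Cfsg.hermForm 3 F q v v = 1)
    (huv : Cfsg.hermForm 3 F q u v = 0) :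
    ∃ w, Cfsg.hermForm 3 F q w w = 1 ∧ Cfsg.hermForm 3 F q u w = 0 ∧
      Cfsg.hermForm 3 F q v w = 0 ∧ refl 3 q u * refl 3 q v = refl 3 q w := by
  have h2 := two_ne_zero_of_odd hF hq
  have hc := refl_comm_of_perp hF huv
  have hne := refl_ne_of_perp h2 hu hv huv
  have hA2 : refl 3 q u * refl 3 q v * (refl 3 q u * refl 3 q v) = 1 := by
    rw [mul_assoc, ← mul_assoc (refl 3 q v), ← hc, mul_assoc, refl_mul_self v hv, mul_one,
      refl_mul_self u hu]
  have hA1 : refl 3 q u * refl 3 q v ≠ 1 := by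
    intro h
    apply hne
    have := congrArg (fun M => refl 3 q u * M) h
    simp only [← mul_assoc, refl_mul_self u hu, one_mul, mul_one] at this
    exact this.symm
  obtain ⟨w, hw, hAw⟩ := exists_refl_of_involution hF hq
    (isU_mul (refl_isU hF hq u hu) (refl_isU hF hq v hv))
    (by rw [Matrix.det_mul, refl_det u hu, refl_det v hv, mul_one]) hA2 hA1
  have huw' : refl 3 q u * refl 3 q w = refl 3 q v := by
    rw [← hAw, ← mul_assoc, refl_mul_self u hu, one_mul]
  have hwu' : refl 3 q w * refl 3 q u = refl 3 q v := by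
    rw [← hAw, hc, mul_assoc, refl_mul_self u hu, mul_one]
  have hvw' : refl 3 q v * refl 3 q w = refl 3 q u := by
    rw [← hAw, hc, ← mul_assoc, refl_mul_self v hv, one_mul]
  have hwv' : refl 3 q w * refl 3 q v = refl 3 q u := by
    rw [← hAw, mul_assoc, refl_mul_self v hv, mul_one]
  refine ⟨w, hw, ?_, ?_, hAw⟩
  · apply hermForm_eq_zero_of_commute h2 hu hw
    · intro h
      rw [← h, refl_mul_self u hu] at huw'
      exact refl_ne_one hF hq v hv huw'.symm
    · rw [huw', hwu']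
  · apply hermForm_eq_zero_of_commute h2 hv hw
    · intro h
      rw [← h, refl_mul_self v hv] at hvw'
      exact refl_ne_one hF hq u hu hvw'.symm
    · rw [hvw', hwv']

/-! ### Common neighbours -/

/-- Elements of the fixed field are norms. -/
theorem exists_norm_eq (hF : Fintype.card F = q ^ 2) {c : F} (hc : c ≠ 0) (hcq : c ^ q = c) :
    ∃ m : F, m * m ^ q = c := by
  classical
  have h := card_norm_eq hF hc hcq
  have hpos : 0 < (Finset.univ.filter (fun x : F => x * x ^ q = c)).card := by rw [h]; omega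
  obtain ⟨m, hm⟩ := Finset.card_pos.mp hpos
  exact ⟨m, (Finset.mem_filter.mp hm).2⟩

/-- If the plane `⟨u, v⟩` is non-degenerate, there is a norm-one vector orthogonal to it. -/
theorem exists_common_perp (hF : Fintype.card F = q ^ 2) (hq : Odd q) {u v : Fin 3 → F}
    (hu : Cfsg.hermForm 3 F q u u = 1) (hv : Cfsg.hermForm 3 F q v v = 1)
    (hN : Cfsg.hermForm 3 F q v u * Cfsg.hermForm 3 F q v u ^ q ≠ 1) :
    ∃ w, Cfsg.hermForm 3 F q w w = 1 ∧ Cfsg.hermForm 3 F q u w = 0 ∧
      Cfsg.hermForm 3 F q v w = 0 := by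
  obtain ⟨a, ha⟩ : ∃ a, a = Cfsg.hermForm 3 F q v u := ⟨_, rfl⟩
  obtain ⟨w0, hw0⟩ : ∃ w0, w0 = v - a • u := ⟨_, rfl⟩
  have h1 : Cfsg.hermForm 3 F q w0 u = 0 := by rw [hw0, ha]; exact hermForm_proj_left u v hu
  have h2 : Cfsg.hermForm 3 F q w0 w0 = 1 - a * a ^ q := by
    rw [hw0, ha]; exact hermForm_proj_self hF u v hu hv
  have hm0 : 1 - a * a ^ q ≠ 0 := by
    rw [ha]
    intro h
    apply hN
    linear_combination -h
  have hmq : (1 - a * a ^ q)⁻¹ ^ q = (1 - a * a ^ q)⁻¹ := by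
    rw [inv_pow, sub_pow_q hF, one_pow, norm_fixed hF]
  obtain ⟨m, hm⟩ := exists_norm_eq hF (inv_ne_zero hm0) hmq
  have hm1 : m ≠ 0 := by
    rintro rfl
    rw [zero_mul] at hm
    exact inv_ne_zero hm0 hm.symm
  have hv' : Cfsg.hermForm 3 F q (m • w0) (m • w0) = 1 := by
    rw [hermForm_smul_left, hermForm_smul_right, h2, ← mul_assoc, hm, inv_mul_cancel₀ hm0]
  have huv' : Cfsg.hermForm 3 F q u (m • w0) = 0 := by
    rw [hermForm_smul_right, hermForm_symm_zero hF h1, mul_zero]
  obtain ⟨w, hw, huw, hvw, -⟩ := exists_third hF hq hu hv' huv'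
  refine ⟨w, hw, huw, ?_⟩
  have e : v = m⁻¹ • (m • w0) + a • u := by
    rw [smul_smul, inv_mul_cancel₀ hm1, one_smul, hw0]
    abel
  rw [e, hermForm_add_left, hermForm_smul_left, hvw, hermForm_smul_left, huw, mul_zero, mul_zero,
    add_zero]

/-- If the plane `⟨u, v⟩` is degenerate, no norm-one vector is orthogonal to it. -/
theorem eq_smul_of_common_perp (hF : Fintype.card F = q ^ 2) (hq : Odd q) {u v w : Fin 3 → F}
    (hu : Cfsg.hermForm 3 F q u u = 1) (hv : Cfsg.hermForm 3 F q v v = 1)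
    (hw : Cfsg.hermForm 3 F q w w = 1) (huw : Cfsg.hermForm 3 F q u w = 0)
    (hvw : Cfsg.hermForm 3 F q v w = 0)
    (hN : Cfsg.hermForm 3 F q v u * Cfsg.hermForm 3 F q v u ^ q = 1) :
    v = Cfsg.hermForm 3 F q v u • u := by
  have h2' := two_ne_zero_of_odd hF hq
  obtain ⟨a, ha⟩ : ∃ a, a = Cfsg.hermForm 3 F q v u := ⟨_, rfl⟩
  obtain ⟨w0, hw0⟩ : ∃ w0, w0 = v - a • u := ⟨_, rfl⟩
  have h1 : Cfsg.hermForm 3 F q w0 u = 0 := by rw [hw0, ha]; exact hermForm_proj_left u v hu
  have h2 : Cfsg.hermForm 3 F q w0 w0 = 0 := by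
    rw [hw0, ha, hermForm_proj_self hF u v hu hv, hN, sub_self]
  have h3 : Cfsg.hermForm 3 F q w0 w = 0 := by
    rw [hw0, hermForm_sub_left, hermForm_smul_left, hvw, huw, mul_zero, sub_zero]
  obtain ⟨z, hz, -, -, hAz⟩ := exists_third hF hq hu hw huw
  have h4 : refl 3 q z *ᵥ w0 = w0 := by
    rw [← hAz, ← Matrix.mulVec_mulVec, refl_perp h3, Matrix.mulVec_neg, refl_perp h1, neg_neg]
  rw [refl_mulVec] at h4
  have h5 : w0 = Cfsg.hermForm 3 F q w0 z • z := by
    have : (2 : F) • w0 = (2 : F) • (Cfsg.hermForm 3 F q w0 z • z) := by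
      rw [smul_smul, two_smul]
      nth_rewrite 1 [← h4]
      abel
    exact smul_right_injective _ h2' this
  have h6 : Cfsg.hermForm 3 F q w0 z = 0 := by
    have h7 := h2
    rw [h5, hermForm_smul_left, hermForm_smul_right, hz, mul_one] at h7
    exact (norm_eq_zero_iff hF _).mp h7
  rw [h6, zero_smul] at h5
  rw [← ha]
  rw [hw0] at h5
  exact sub_eq_zero.mp h5

/-! ### Distance three -/

/-- `refl v` is at distance three from `refl u` iff the plane `⟨u, v⟩` is degenerate. -/
theorem far_iff (hF : Fintype.card F = q ^ 2) (hq : Odd q) {u v : Fin 3 → F}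
    (hu : Cfsg.hermForm 3 F q u u = 1) (hv : Cfsg.hermForm 3 F q v v = 1) :
    (¬ (refl 3 q u * refl 3 q v = refl 3 q v * refl 3 q u) ∧
      ∀ w, Cfsg.hermForm 3 F q w w = 1 →
        ¬ (refl 3 q u * refl 3 q w = refl 3 q w * refl 3 q u ∧
          refl 3 q w * refl 3 q v = refl 3 q v * refl 3 q w)) ↔
    (Cfsg.hermForm 3 F q v u * Cfsg.hermForm 3 F q v u ^ q = 1 ∧
      v ≠ Cfsg.hermForm 3 F q v u • u) := by
  have h2 := two_ne_zero_of_odd hF hq
  have hq0 : q ≠ 0 := by have := two_le_q hF; omega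
  constructor
  · rintro ⟨hnc, hall⟩
    have hN : Cfsg.hermForm 3 F q v u * Cfsg.hermForm 3 F q v u ^ q = 1 := by
      by_contra hN
      obtain ⟨w, hw, huw, hvw⟩ := exists_common_perp hF hq hu hv hN
      exact hall w hw ⟨refl_comm_of_perp hF huw, (refl_comm_of_perp hF hvw).symm⟩
    refine ⟨hN, ?_⟩
    intro h
    apply hnc
    have : refl 3 q v = refl 3 q u := by rw [h, refl_smul _ hN]
    rw [this]
  · rintro ⟨hN, hne⟩
    have hnc : ¬ (refl 3 q u * refl 3 q v = refl 3 q v * refl 3 q u) := by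
      intro hc
      rcases (refl_comm_iff hF h2 hu hv).mp hc with h | h
      · rw [hermForm_symm_zero hF h, zero_mul] at hN
        exact zero_ne_one hN
      · obtain ⟨l, hl, hlv⟩ := (refl_eq_iff h2 hu hv).mp h
        apply hne
        rw [hlv, hermForm_smul_left, hu, mul_one]
    refine ⟨hnc, ?_⟩
    rintro w hw ⟨hc1, hc2⟩
    rcases (refl_comm_iff hF h2 hu hw).mp hc1 with h | h
    · rcases (refl_comm_iff hF h2 hw hv).mp hc2 with h' | h'
      · exact hne (eq_smul_of_common_perp hF hq hu hv hw h (hermForm_symm_zero hF h') hN)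
      · rw [h'] at hc1
        exact hnc hc1
    · rw [← h] at hc2
      exact hnc hc2

/-- Any two reflections are joined by a path of length three in the commuting graph. -/
theorem exists_path (hF : Fintype.card F = q ^ 2) (hq : Odd q) {u v : Fin 3 → F}
    (hu : Cfsg.hermForm 3 F q u u = 1) (hv : Cfsg.hermForm 3 F q v v = 1) :
    ∃ w z, Cfsg.hermForm 3 F q w w = 1 ∧ Cfsg.hermForm 3 F q z z = 1 ∧
      refl 3 q u * refl 3 q w = refl 3 q w * refl 3 q u ∧
      refl 3 q w * refl 3 q z = refl 3 q z * refl 3 q w ∧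
      refl 3 q z * refl 3 q v = refl 3 q v * refl 3 q z := by
  have h2 := two_ne_zero_of_odd hF hq
  have hq0 : q ≠ 0 := by have := two_le_q hF; omega
  by_cases hN : Cfsg.hermForm 3 F q v u * Cfsg.hermForm 3 F q v u ^ q = 1
  · have := pretransitive (F := F) hF 3
    obtain ⟨g, hg⟩ := MulAction.exists_smul_eq (Cfsg.GU 3 F q) (x0 (F := F) hq0 2)
      (⟨u, hu⟩ : X 3 q F)
    obtain ⟨M, hMdef⟩ : ∃ M : Matrix (Fin 3) (Fin 3) F, M = (g.1 : Matrix (Fin 3) (Fin 3) F) :=
      ⟨_, rfl⟩
    have hM : IsU 3 q M := by rw [hMdef]; exact (mem_GU_iff g.1).mp g.2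
    have hMe0 : M *ᵥ (Pi.single 0 1) = u := by
      have := congrArg Subtype.val hg
      rw [smul_X_val] at this
      rw [hMdef]
      exact this
    obtain ⟨c, hc⟩ : ∃ c : Fin 3 → F, M *ᵥ c = v := by
      obtain ⟨xv, hxv⟩ : ∃ xv : X 3 q F, xv.1 = v := ⟨⟨v, hv⟩, rfl⟩
      refine ⟨(g⁻¹ • xv).1, ?_⟩
      have := congrArg Subtype.val (smul_inv_smul g xv)
      rw [smul_X_val] at this
      rw [hMdef, ← hxv]
      exact this
    have hci : ∀ i : Fin 3, Cfsg.hermForm 3 F q v (M *ᵥ Pi.single i 1) = c i := by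
      intro i
      rw [← hc, hM, hermForm_single_right 3 hq0]
    have hsum : c 0 * c 0 ^ q + c 1 * c 1 ^ q + c 2 * c 2 ^ q = 1 := by
      have := hv
      rw [← hc, hM] at this
      unfold Cfsg.hermForm at this
      rw [Fin.sum_univ_three] at this
      exact this
    have h0 : c 0 * c 0 ^ q = 1 := by
      rw [← hci 0, hMe0]
      exact hN
    have hex : ∃ i : Fin 3, i ≠ 0 ∧ c i * c i ^ q ≠ 1 := by
      by_cases h1 : c 1 * c 1 ^ q = 1
      · refine ⟨2, by decide, ?_⟩
        intro h3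
        apply h2
        rw [h0, h1, h3] at hsum
        linear_combination hsum
      · exact ⟨1, by decide, h1⟩
    obtain ⟨i, hi0, hi⟩ := hex
    have hu' : Cfsg.hermForm 3 F q (M *ᵥ Pi.single i 1) (M *ᵥ Pi.single i 1) = 1 := by
      rw [hM, hermForm_single_right 3 hq0, Pi.single_eq_same]
    have huu' : Cfsg.hermForm 3 F q u (M *ᵥ Pi.single i 1) = 0 := by
      rw [← hMe0, hM, hermForm_single_right 3 hq0, Pi.single_eq_of_ne hi0]
    have hN' : Cfsg.hermForm 3 F q v (M *ᵥ Pi.single i 1) *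
        Cfsg.hermForm 3 F q v (M *ᵥ Pi.single i 1) ^ q ≠ 1 := by
      rw [hci i]
      exact hi
    obtain ⟨z, hz, hu'z, hvz⟩ := exists_common_perp hF hq hu' hv hN'
    exact ⟨_, z, hu', hz, refl_comm_of_perp hF huu', refl_comm_of_perp hF hu'z,
      (refl_comm_of_perp hF hvz).symm⟩
  · obtain ⟨z, hz, huz, hvz⟩ := exists_common_perp hF hq hu hv hN
    exact ⟨u, z, hu, hz, rfl, refl_comm_of_perp hF huz, (refl_comm_of_perp hF hvz).symm⟩

/-! ### Counting -/

/-- Each involution is the reflection of exactly `q + 1` norm-one vectors. -/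
theorem card_fiber (hF : Fintype.card F = q ^ 2) (hq : Odd q) (P : Inv q F → Prop) :
    Nat.card {i : Inv q F // P i} * (q + 1) =
      Nat.card {v : X 3 q F // P (toInv hF hq v)} := by
  classical
  rw [← card_U1 hF, ← Nat.card_prod]
  have hsurj := toInv_surjective (F := F) hF hq
  let rep : Inv q F → X 3 q F := fun i => Classical.choose (hsurj i)
  have hrep : ∀ i, toInv hF hq (rep i) = i := fun i => Classical.choose_spec (hsurj i)
  let Ψ0 : Inv q F × U1 q F → X 3 q F := fun p =>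
    ⟨p.2.1 • (rep p.1).1, by
      rw [hermForm_smul_left, hermForm_smul_right, (rep p.1).2, mul_one, p.2.2]⟩
  have hΨ : ∀ p, toInv hF hq (Ψ0 p) = p.1 := by
    intro p
    rw [← hrep p.1]
    symm
    rw [toInv_eq_iff]
    exact ⟨p.2.1, p.2.2, rfl⟩
  let Ψ : {i : Inv q F // P i} × U1 q F → {v : X 3 q F // P (toInv hF hq v)} := fun p =>
    ⟨Ψ0 (p.1.1, p.2), by rw [hΨ]; exact p.1.2⟩
  apply Nat.card_congr
  apply Equiv.ofBijective Ψ
  constructor
  · intro p p' h
    have h0 : Ψ0 (p.1.1, p.2) = Ψ0 (p'.1.1, p'.2) := congrArg Subtype.val h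
    have h1 : p.1.1 = p'.1.1 := by
      have := congrArg (toInv hF hq) h0
      rw [hΨ, hΨ] at this
      exact this
    have h2 : p.2.1 • (rep p.1.1).1 = p'.2.1 • (rep p'.1.1).1 := congrArg Subtype.val h0
    rw [← h1] at h2
    have h3 : p.2.1 = p'.2.1 := by
      have := sub_smul p.2.1 p'.2.1 (rep p.1.1).1
      rw [h2, sub_self] at this
      rcases smul_eq_zero.mp this with h | h
      · exact sub_eq_zero.mp h
      · exact absurd h (X_ne_zero _)
    exact Prod.ext (Subtype.ext h1) (Subtype.ext h3)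
  · intro u
    have h1 := hrep (toInv hF hq u.1)
    rw [toInv_eq_iff] at h1
    obtain ⟨l, hl, hlu⟩ := h1
    exact ⟨(⟨toInv hF hq u.1, u.2⟩, ⟨l, hl⟩), Subtype.ext (Subtype.ext hlu.symm)⟩

theorem card_split {α : Type*} [Finite α] (p r : α → Prop) :
    Nat.card {x // p x ∧ r x} + Nat.card {x // p x ∧ ¬ r x} = Nat.card {x // p x} := by
  classical
  have := Fintype.ofFinite α
  simp only [Nat.card_eq_fintype_card, Fintype.card_subtype]
  rw [← Finset.card_union_of_disjoint]
  · congr 1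
    ext x
    simp only [Finset.mem_union, Finset.mem_filter, Finset.mem_univ, true_and]
    tauto
  · rw [Finset.disjoint_filter]
    intro x _ h1 h2
    exact h2.2 h1.2

/-- Move the norm-one vector `u` to the first basis vector. -/
theorem exists_frame (hF : Fintype.card F = q ^ 2) {u : Fin 3 → F}
    (hu : Cfsg.hermForm 3 F q u u = 1) :
    ∃ g : ↥(Cfsg.GU 3 F q), ∃ M : Matrix (Fin 3) (Fin 3) F, IsU 3 q M ∧
      M *ᵥ (Pi.single 0 1) = u ∧ (∀ c : X 3 q F, (g • c).1 = M *ᵥ c.1) ∧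
      Function.Injective M.mulVec := by
  have hq0 : q ≠ 0 := by have := two_le_q hF; omega
  have := pretransitive (F := F) hF 3
  obtain ⟨g, hg⟩ := MulAction.exists_smul_eq (Cfsg.GU 3 F q) (x0 (F := F) hq0 2)
    (⟨u, hu⟩ : X 3 q F)
  have hM : IsU 3 q (g.1 : Matrix (Fin 3) (Fin 3) F) := (mem_GU_iff g.1).mp g.2
  refine ⟨g, (g.1 : Matrix (Fin 3) (Fin 3) F), hM, ?_, fun c => smul_X_val 3 g c, ?_⟩
  · have := congrArg Subtype.val hg
    rw [smul_X_val] at this
    exact this
  · exact Matrix.mulVec_injective_iff_isUnit.mpr (hM.isUnit hq0)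

/-- The number of norm-one vectors orthogonal to a given one. -/
theorem card_perp (hF : Fintype.card F = q ^ 2) {u : Fin 3 → F}
    (hu : Cfsg.hermForm 3 F q u u = 1) :
    Nat.card {v : X 3 q F // Cfsg.hermForm 3 F q u v.1 = 0} = q * (q ^ 2 - 1) := by
  have hq0 : q ≠ 0 := by have := two_le_q hF; omega
  obtain ⟨g, M, hM, hMe0, hgM, -⟩ := exists_frame hF hu
  have e1 : {c : X 3 q F // c.1 0 = 0} ≃ {v : X 3 q F // Cfsg.hermForm 3 F q u v.1 = 0} := by
    apply Equiv.subtypeEquiv (MulAction.toPerm g)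
    intro c
    rw [MulAction.toPerm_apply, hgM, ← hMe0, hM, hermForm_single_left]
    exact (pow_eq_zero_iff hq0).symm
  rw [← Nat.card_congr e1]
  have h2 := card_norm_one (F := F) hF 2
  rw [if_pos (by decide)] at h2
  simp only [Nat.add_one_sub_one, pow_one] at h2
  rw [← h2]
  symm
  apply Nat.card_congr
  let φ : {w : Fin 2 → F // Cfsg.hermForm 2 F q w w = 1} → {c : X 3 q F // c.1 0 = 0} := fun w =>
    ⟨⟨Fin.cons 0 w.1, by
      rw [hermForm_cons', w.2, zero_mul, zero_add]⟩, by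
      simp⟩
  apply Equiv.ofBijective φ
  constructor
  · intro w w' h
    have h1 : (Fin.cons 0 w.1 : Fin 3 → F) = Fin.cons 0 w'.1 :=
      congrArg (fun c : {c : X 3 q F // c.1 0 = 0} => c.1.1) h
    apply Subtype.ext
    exact (Fin.cons_injective2 h1).2
  · rintro ⟨⟨c, hc1⟩, hc2⟩
    have hc2' : c 0 = 0 := hc2
    have hc : c = Fin.cons 0 (Fin.tail c) := by
      have h := (Fin.cons_self_tail c).symm
      rw [hc2'] at h
      exact h
    refine ⟨⟨Fin.tail c, ?_⟩, ?_⟩
    · have := hc1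
      rw [hc, hermForm_cons', zero_mul, zero_add] at this
      exact this
    · apply Subtype.ext
      apply Subtype.ext
      exact hc.symm

/-- The number of norm-one vectors spanning a degenerate plane with a given one. -/
theorem card_far (hF : Fintype.card F = q ^ 2) {u : Fin 3 → F}
    (hu : Cfsg.hermForm 3 F q u u = 1) :
    Nat.card {v : X 3 q F // Cfsg.hermForm 3 F q v.1 u * Cfsg.hermForm 3 F q v.1 u ^ q = 1 ∧
      v.1 ≠ Cfsg.hermForm 3 F q v.1 u • u} = (q + 1) * ((q ^ 2 - 1) * (q + 1)) := by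
  have hq0 : q ≠ 0 := by have := two_le_q hF; omega
  obtain ⟨g, M, hM, hMe0, hgM, hinj⟩ := exists_frame hF hu
  have e1 : {c : X 3 q F // c.1 0 * c.1 0 ^ q = 1 ∧ c.1 ≠ c.1 0 • Pi.single 0 1} ≃
      {v : X 3 q F // Cfsg.hermForm 3 F q v.1 u * Cfsg.hermForm 3 F q v.1 u ^ q = 1 ∧
        v.1 ≠ Cfsg.hermForm 3 F q v.1 u • u} := by
    apply Equiv.subtypeEquiv (MulAction.toPerm g)
    intro c
    rw [MulAction.toPerm_apply, hgM, ← hMe0, hM, hermForm_single_right 3 hq0,
      ← Matrix.mulVec_smul, hinj.ne_iff]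
  rw [← Nat.card_congr e1]
  have h0 : Nat.card {w : Fin 2 → F // Cfsg.hermForm 2 F q w w = 0 ∧ w ≠ 0} =
      (q ^ 2 - 1) * (q + 1) := by
    have h2 := card_norm_zero (F := F) hF 2
    rw [if_pos (by decide)] at h2
    simp only [Nat.add_one_sub_one, pow_one] at h2
    have h3 := card_split (fun w : Fin 2 → F => Cfsg.hermForm 2 F q w w = 0) (fun w => w ≠ 0)
    rw [h2] at h3
    have h4 : Nat.card {w : Fin 2 → F // Cfsg.hermForm 2 F q w w = 0 ∧ ¬ w ≠ 0} = 1 := by
      rw [Nat.card_eq_one_iff_unique]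
      constructor
      · constructor
        intro a b
        apply Subtype.ext
        rw [not_not.mp a.2.2, not_not.mp b.2.2]
      · exact ⟨⟨0, hermForm_zero_left 2 0, by simp⟩⟩
    rw [h4] at h3
    exact Nat.add_right_cancel h3
  rw [← h0, ← card_U1 hF, ← Nat.card_prod]
  symm
  apply Nat.card_congr
  let φ : U1 q F × {w : Fin 2 → F // Cfsg.hermForm 2 F q w w = 0 ∧ w ≠ 0} →
      {c : X 3 q F // c.1 0 * c.1 0 ^ q = 1 ∧ c.1 ≠ c.1 0 • Pi.single 0 1} := fun p =>
    ⟨⟨Fin.cons p.1.1 p.2.1, by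
      rw [hermForm_cons', p.2.2.1, p.1.2, add_zero]⟩, by
      refine ⟨?_, ?_⟩
      · simp only [Fin.cons_zero]
        exact p.1.2
      · intro h
        apply p.2.2.2
        ext j
        have := congrFun h j.succ
        simpa [Fin.succ_ne_zero] using this⟩
  apply Equiv.ofBijective φ
  constructor
  · intro p p' h
    have h1 : (Fin.cons p.1.1 p.2.1 : Fin 3 → F) = Fin.cons p'.1.1 p'.2.1 :=
      congrArg (fun c : {c : X 3 q F // c.1 0 * c.1 0 ^ q = 1 ∧ c.1 ≠ c.1 0 • Pi.single 0 1} =>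
        c.1.1) h
    have h2 := Fin.cons_injective2 h1
    exact Prod.ext (Subtype.ext h2.1) (Subtype.ext h2.2)
  · rintro ⟨⟨c, hc1⟩, hc2, hc3⟩
    have hc2' : c 0 * c 0 ^ q = 1 := hc2
    have hc3' : c ≠ c 0 • Pi.single 0 1 := hc3
    have hc : c = Fin.cons (c 0) (Fin.tail c) := (Fin.cons_self_tail c).symm
    have hn : Cfsg.hermForm 2 F q (Fin.tail c) (Fin.tail c) = 0 := by
      have := hc1
      rw [hc, hermForm_cons', hc2'] at this
      linear_combination this
    have hne : Fin.tail c ≠ 0 := by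
      intro h
      apply hc3'
      ext j
      refine Fin.cases ?_ (fun j' => ?_) j
      · rw [Pi.smul_apply, Pi.single_eq_same, smul_eq_mul, mul_one]
      · have := congrFun h j'
        simp only [Fin.tail, Pi.zero_apply] at this
        rw [this, Pi.smul_apply, Pi.single_eq_of_ne (Fin.succ_ne_zero j'), smul_zero]
    refine ⟨(⟨c 0, hc2'⟩, ⟨Fin.tail c, hn, hne⟩), ?_⟩
    apply Subtype.ext
    apply Subtype.ext
    exact hc.symm

end Cfsg.Agent.Lib.Helper13_SU3Graph
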