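import Mathlib
import Cfsg.Prelude.Def_Classical
import Cfsg.Agent.Lib.Helper13_RootHeis

set_option autoImplicit false

/-!
Siegel transvections of the hyperbolic quadratic form `Σ xᵢ yᵢ` and the subgroups of them attached
to singular lines.
-/

namespace Cfsg.Agent.Lib.Helper13_Siegel

open Cfsg Matrix Cfsg.Agent.Lib.Helper13_RootSL2 Cfsg.Agent.Lib.Helper13_RootSub
  Cfsg.Agent.Lib.Helper13_RootHeis Cfsg.Agent.Lib.Helper83_RankOne

variable {F : Type*} [Field F] {n : ℕ}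

/-! ### The quadratic form and its polar form -/

/-- The polar form of `quadFormPlus`, in the shape `Q (u + v) - Q u - Q v`. -/
def Bf (n : ℕ) (F : Type*) [Field F] (u v : Fin n ⊕ Fin n → F) : F :=
  Cfsg.quadFormPlus n F (u + v) - Cfsg.quadFormPlus n F u - Cfsg.quadFormPlus n F v

theorem Bf_eq (u v : Fin n ⊕ Fin n → F) :
    Bf n F u v = ∑ i : Fin n, (u (Sum.inl i) * v (Sum.inr i) + u (Sum.inr i) * v (Sum.inl i)) := by
  unfold Bf Cfsg.quadFormPlus
  rw [← Finset.sum_sub_distrib, ← Finset.sum_sub_distrib]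
  apply Finset.sum_congr rfl
  intro i _
  simp only [Pi.add_apply]
  ring

theorem Q_add (u v : Fin n ⊕ Fin n → F) :
    Cfsg.quadFormPlus n F (u + v) = Cfsg.quadFormPlus n F u + Cfsg.quadFormPlus n F v + Bf n F u v := by
  unfold Bf
  ring

theorem Q_smul (c : F) (u : Fin n ⊕ Fin n → F) :
    Cfsg.quadFormPlus n F (c • u) = c * c * Cfsg.quadFormPlus n F u := by
  unfold Cfsg.quadFormPlus
  rw [Finset.mul_sum]
  apply Finset.sum_congr rfl
  intro i _
  simp only [Pi.smul_apply, smul_eq_mul]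
  ring

@[simp] theorem Q_zero : Cfsg.quadFormPlus n F 0 = 0 := by
  unfold Cfsg.quadFormPlus
  simp

theorem Bf_comm (u v : Fin n ⊕ Fin n → F) : Bf n F u v = Bf n F v u := by
  rw [Bf_eq, Bf_eq]
  apply Finset.sum_congr rfl
  intro i _
  ring

theorem Bf_add_left (u u' v : Fin n ⊕ Fin n → F) :
    Bf n F (u + u') v = Bf n F u v + Bf n F u' v := by
  rw [Bf_eq, Bf_eq, Bf_eq, ← Finset.sum_add_distrib]
  apply Finset.sum_congr rfl
  intro i _
  simp only [Pi.add_apply]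
  ring

theorem Bf_smul_left (c : F) (u v : Fin n ⊕ Fin n → F) :
    Bf n F (c • u) v = c * Bf n F u v := by
  rw [Bf_eq, Bf_eq, Finset.mul_sum]
  apply Finset.sum_congr rfl
  intro i _
  simp only [Pi.smul_apply, smul_eq_mul]
  ring

theorem Bf_add_right (u v v' : Fin n ⊕ Fin n → F) :
    Bf n F u (v + v') = Bf n F u v + Bf n F u v' := by
  rw [Bf_comm, Bf_add_left, Bf_comm v, Bf_comm v']

theorem Bf_smul_right (c : F) (u v : Fin n ⊕ Fin n → F) :
    Bf n F u (c • v) = c * Bf n F u v := by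
  rw [Bf_comm, Bf_smul_left, Bf_comm]

theorem Bf_neg_left (u v : Fin n ⊕ Fin n → F) : Bf n F (-u) v = -Bf n F u v := by
  have := Bf_smul_left (-1 : F) u v
  simpa using this

theorem Bf_neg_right (u v : Fin n ⊕ Fin n → F) : Bf n F u (-v) = -Bf n F u v := by
  rw [Bf_comm, Bf_neg_left, Bf_comm]

theorem Bf_sub_left (u u' v : Fin n ⊕ Fin n → F) :
    Bf n F (u - u') v = Bf n F u v - Bf n F u' v := by
  rw [sub_eq_add_neg, Bf_add_left, Bf_neg_left, sub_eq_add_neg]

theorem Bf_sub_right (u v v' : Fin n ⊕ Fin n → F) :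
    Bf n F u (v - v') = Bf n F u v - Bf n F u v' := by
  rw [sub_eq_add_neg, Bf_add_right, Bf_neg_right, sub_eq_add_neg]

@[simp] theorem Bf_zero_left (v : Fin n ⊕ Fin n → F) : Bf n F 0 v = 0 := by
  have := Bf_smul_left (0 : F) 0 v
  simpa using this

@[simp] theorem Bf_zero_right (v : Fin n ⊕ Fin n → F) : Bf n F v 0 = 0 := by
  rw [Bf_comm, Bf_zero_left]

theorem Bf_self (u : Fin n ⊕ Fin n → F) : Bf n F u u = 2 * Cfsg.quadFormPlus n F u := by
  rw [Bf_eq]
  unfold Cfsg.quadFormPlus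
  rw [Finset.mul_sum]
  apply Finset.sum_congr rfl
  intro i _
  ring

theorem Bf_self_of_sing {u : Fin n ⊕ Fin n → F} (h : Cfsg.quadFormPlus n F u = 0) :
    Bf n F u u = 0 := by
  rw [Bf_self, h, mul_zero]

theorem Bf_single_inr (u : Fin n ⊕ Fin n → F) (j : Fin n) :
    Bf n F u (Pi.single (Sum.inr j) 1) = u (Sum.inl j) := by
  rw [Bf_eq, Finset.sum_eq_single j]
  · simp
  · intro b _ hb
    simp [hb]
  · intro h
    exact absurd (Finset.mem_univ j) h

theorem Bf_single_inl (u : Fin n ⊕ Fin n → F) (j : Fin n) :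
    Bf n F u (Pi.single (Sum.inl j) 1) = u (Sum.inr j) := by
  rw [Bf_eq, Finset.sum_eq_single j]
  · simp
  · intro b _ hb
    simp [hb]
  · intro h
    exact absurd (Finset.mem_univ j) h

/-- Non-degeneracy of the polar form. -/
theorem eq_zero_of_Bf {u : Fin n ⊕ Fin n → F} (h : ∀ v, Bf n F u v = 0) : u = 0 := by
  funext j
  rcases j with i | i
  · rw [← Bf_single_inr u i]
    exact h _
  · rw [← Bf_single_inl u i]
    exact h _

theorem exists_Bf_ne_zero {u : Fin n ⊕ Fin n → F} (hu : u ≠ 0) : ∃ v, Bf n F u v ≠ 0 := by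
  by_contra hcon
  push Not at hcon
  exact hu (eq_zero_of_Bf hcon)

theorem exists_Bf_eq_one {u : Fin n ⊕ Fin n → F} (hu : u ≠ 0) : ∃ v, Bf n F u v = 1 := by
  obtain ⟨v, hv⟩ := exists_Bf_ne_zero hu
  refine ⟨(Bf n F u v)⁻¹ • v, ?_⟩
  rw [Bf_smul_right, inv_mul_cancel₀ hv]

/-- A singular partner: for singular `p ≠ 0` a singular `x` with `B(p, x) = 1`. -/
theorem exists_sing_partner {p : Fin n ⊕ Fin n → F} (hp0 : p ≠ 0)
    (hp : Cfsg.quadFormPlus n F p = 0) :
    ∃ x, Cfsg.quadFormPlus n F x = 0 ∧ Bf n F p x = 1 := by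
  obtain ⟨v, hv⟩ := exists_Bf_eq_one hp0
  refine ⟨v - Cfsg.quadFormPlus n F v • p, ?_, ?_⟩
  · rw [sub_eq_add_neg, ← neg_smul, Q_add, Q_smul, hp, Bf_smul_right, Bf_comm, hv]
    ring
  · rw [Bf_sub_right, Bf_smul_right, Bf_self_of_sing hp, hv]
    ring

/-! ### Calculus in the isometry group -/

/-- The matrix of an isometry. -/
def mat (σ : ↥(Cfsg.isometryGroup F (Cfsg.quadFormPlus n F))) :
    Matrix (Fin n ⊕ Fin n) (Fin n ⊕ Fin n) F :=
  ((σ : Matrix.GeneralLinearGroup (Fin n ⊕ Fin n) F) : Matrix (Fin n ⊕ Fin n) (Fin n ⊕ Fin n) F)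

theorem iso_ext {σ τ : ↥(Cfsg.isometryGroup F (Cfsg.quadFormPlus n F))}
    (H : ∀ v, mat σ *ᵥ v = mat τ *ᵥ v) : σ = τ :=
  Subtype.ext (Units.ext (Matrix.ext_iff_mulVec.mpr H))

theorem mat_mul (σ τ : ↥(Cfsg.isometryGroup F (Cfsg.quadFormPlus n F))) (v : Fin n ⊕ Fin n → F) :
    mat (σ * τ) *ᵥ v = mat σ *ᵥ (mat τ *ᵥ v) := by
  rw [Matrix.mulVec_mulVec]
  rfl

theorem mat_one (v : Fin n ⊕ Fin n → F) :
    mat (1 : ↥(Cfsg.isometryGroup F (Cfsg.quadFormPlus n F))) *ᵥ v = v := by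
  unfold mat
  rw [Subgroup.coe_one, Units.val_one, Matrix.one_mulVec]

theorem mat_inv_mat (σ : ↥(Cfsg.isometryGroup F (Cfsg.quadFormPlus n F))) (v : Fin n ⊕ Fin n → F) :
    mat σ⁻¹ *ᵥ (mat σ *ᵥ v) = v := by
  rw [← mat_mul, inv_mul_cancel, mat_one]

theorem mat_mat_inv (σ : ↥(Cfsg.isometryGroup F (Cfsg.quadFormPlus n F))) (v : Fin n ⊕ Fin n → F) :
    mat σ *ᵥ (mat σ⁻¹ *ᵥ v) = v := by
  rw [← mat_mul, mul_inv_cancel, mat_one]

theorem Q_mat (σ : ↥(Cfsg.isometryGroup F (Cfsg.quadFormPlus n F))) (v : Fin n ⊕ Fin n → F) :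
    Cfsg.quadFormPlus n F (mat σ *ᵥ v) = Cfsg.quadFormPlus n F v := σ.2 v v

theorem Bf_mat (σ : ↥(Cfsg.isometryGroup F (Cfsg.quadFormPlus n F))) (u v : Fin n ⊕ Fin n → F) :
    Bf n F (mat σ *ᵥ u) (mat σ *ᵥ v) = Bf n F u v := by
  unfold Bf
  rw [← Matrix.mulVec_add, Q_mat, Q_mat, Q_mat]

theorem mat_ne_zero (σ : ↥(Cfsg.isometryGroup F (Cfsg.quadFormPlus n F))) {v : Fin n ⊕ Fin n → F}
    (hv : v ≠ 0) : mat σ *ᵥ v ≠ 0 := by
  intro h
  apply hv
  rw [← mat_inv_mat σ v, h, Matrix.mulVec_zero]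

/-- An isometry from a matrix with an inverse preserving the form. -/
def mkIso (M M' : Matrix (Fin n ⊕ Fin n) (Fin n ⊕ Fin n) F) (h1 : ∀ v, M *ᵥ (M' *ᵥ v) = v)
    (h2 : ∀ v, M' *ᵥ (M *ᵥ v) = v)
    (hQ : ∀ v, Cfsg.quadFormPlus n F (M *ᵥ v) = Cfsg.quadFormPlus n F v) :
    ↥(Cfsg.isometryGroup F (Cfsg.quadFormPlus n F)) :=
  ⟨⟨M, M', by
      rw [Matrix.ext_iff_mulVec]
      intro v
      rw [← Matrix.mulVec_mulVec, h1, Matrix.one_mulVec], by
      rw [Matrix.ext_iff_mulVec]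
      intro v
      rw [← Matrix.mulVec_mulVec, h2, Matrix.one_mulVec]⟩, fun u _ => hQ u⟩

theorem mat_mkIso (M M' : Matrix (Fin n ⊕ Fin n) (Fin n ⊕ Fin n) F) (h1 : ∀ v, M *ᵥ (M' *ᵥ v) = v)
    (h2 : ∀ v, M' *ᵥ (M *ᵥ v) = v)
    (hQ : ∀ v, Cfsg.quadFormPlus n F (M *ᵥ v) = Cfsg.quadFormPlus n F v) :
    mat (mkIso M M' h1 h2 hQ) = M := rfl

/-! ### Siegel transvections -/

/-- The vector representing the functional `B(·, r)`. -/
def dual (r : Fin n ⊕ Fin n → F) : Fin n ⊕ Fin n → F := fun j => r (Sum.swap j)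

theorem dual_dot (r v : Fin n ⊕ Fin n → F) : dual r ⬝ᵥ v = Bf n F v r := by
  rw [Bf_eq]
  unfold dual dotProduct
  rw [Fintype.sum_sum_type, ← Finset.sum_add_distrib]
  apply Finset.sum_congr rfl
  intro i _
  simp only [Sum.swap_inl, Sum.swap_inr]
  ring

/-- `B(v, r) p - B(v, p) r`. -/
def sw (p r v : Fin n ⊕ Fin n → F) : Fin n ⊕ Fin n → F := Bf n F v r • p - Bf n F v p • r

theorem Bf_sw_left (p r v u : Fin n ⊕ Fin n → F) :
    Bf n F (sw p r v) u = Bf n F v r * Bf n F p u - Bf n F v p * Bf n F r u := by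
  unfold sw
  rw [Bf_sub_left, Bf_smul_left, Bf_smul_left]

theorem Bf_sw_right (p r v u : Fin n ⊕ Fin n → F) :
    Bf n F u (sw p r v) = Bf n F v r * Bf n F u p - Bf n F v p * Bf n F u r := by
  rw [Bf_comm, Bf_sw_left, Bf_comm p, Bf_comm r]

theorem sw_add (p r v v' : Fin n ⊕ Fin n → F) : sw p r (v + v') = sw p r v + sw p r v' := by
  unfold sw
  rw [Bf_add_left, Bf_add_left, add_smul, add_smul]
  abel

theorem sw_smul (p r : Fin n ⊕ Fin n → F) (c : F) (v : Fin n ⊕ Fin n → F) :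
    sw p r (c • v) = c • sw p r v := by
  unfold sw
  rw [Bf_smul_left, Bf_smul_left, smul_sub, smul_smul, smul_smul]

/-- A singular line given by two spanning vectors (independence is not part of this). -/
structure SingPair (p r : Fin n ⊕ Fin n → F) : Prop where
  hp : Cfsg.quadFormPlus n F p = 0
  hr : Cfsg.quadFormPlus n F r = 0
  hpr : Bf n F p r = 0

theorem SingPair.hrp {p r : Fin n ⊕ Fin n → F} (h : SingPair p r) : Bf n F r p = 0 := by
  rw [Bf_comm, h.hpr]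

theorem SingPair.symm {p r : Fin n ⊕ Fin n → F} (h : SingPair p r) : SingPair r p :=
  ⟨h.hr, h.hp, h.hrp⟩

theorem SingPair.Q_comb {p r : Fin n ⊕ Fin n → F} (h : SingPair p r) (a b : F) :
    Cfsg.quadFormPlus n F (a • p + b • r) = 0 := by
  rw [Q_add, Q_smul, Q_smul, h.hp, h.hr, Bf_smul_left, Bf_smul_right, h.hpr]
  ring

theorem SingPair.Q_sw {p r : Fin n ⊕ Fin n → F} (h : SingPair p r) (v : Fin n ⊕ Fin n → F) :
    Cfsg.quadFormPlus n F (sw p r v) = 0 := by
  unfold sw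
  rw [sub_eq_add_neg, ← neg_smul]
  exact h.Q_comb _ _

theorem SingPair.sw_p {p r : Fin n ⊕ Fin n → F} (h : SingPair p r) (v : Fin n ⊕ Fin n → F) :
    Bf n F (sw p r v) p = 0 := by
  rw [Bf_sw_left, Bf_self_of_sing h.hp, h.hrp]
  ring

theorem SingPair.sw_r {p r : Fin n ⊕ Fin n → F} (h : SingPair p r) (v : Fin n ⊕ Fin n → F) :
    Bf n F (sw p r v) r = 0 := by
  rw [Bf_sw_left, Bf_self_of_sing h.hr, h.hpr]
  ring

theorem Bf_sw_self (p r v : Fin n ⊕ Fin n → F) : Bf n F v (sw p r v) = 0 := by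
  rw [Bf_sw_right]
  ring

/-- The matrix of a Siegel transvection. -/
def siegMat (p r : Fin n ⊕ Fin n → F) (c : F) : Matrix (Fin n ⊕ Fin n) (Fin n ⊕ Fin n) F :=
  1 + c • (Matrix.vecMulVec p (dual r) - Matrix.vecMulVec r (dual p))

theorem siegMat_mulVec (p r : Fin n ⊕ Fin n → F) (c : F) (v : Fin n ⊕ Fin n → F) :
    siegMat p r c *ᵥ v = v + c • sw p r v := by
  unfold siegMat sw
  rw [Matrix.add_mulVec, Matrix.one_mulVec, Matrix.smul_mulVec, Matrix.sub_mulVec,
    Matrix.vecMulVec_mulVec, Matrix.vecMulVec_mulVec, dual_dot, dual_dot]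
  simp only [op_smul_eq_smul]

/-- `σ` is the Siegel transvection with parameter `c` for the pair `(p, r)`. -/
def IsSieg (p r : Fin n ⊕ Fin n → F) (c : F)
    (σ : ↥(Cfsg.isometryGroup F (Cfsg.quadFormPlus n F))) : Prop :=
  ∀ v, mat σ *ᵥ v = v + c • sw p r v

theorem isSieg_unique {p r : Fin n ⊕ Fin n → F} {c : F}
    {σ τ : ↥(Cfsg.isometryGroup F (Cfsg.quadFormPlus n F))} (h : IsSieg p r c σ)
    (h' : IsSieg p r c τ) : σ = τ :=
  iso_ext fun v => (h v).trans (h' v).symm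

theorem isSieg_one (p r : Fin n ⊕ Fin n → F) :
    IsSieg p r 0 (1 : ↥(Cfsg.isometryGroup F (Cfsg.quadFormPlus n F))) := by
  intro v
  rw [mat_one, zero_smul, add_zero]

theorem SingPair.sw_sw {p r : Fin n ⊕ Fin n → F} (h : SingPair p r) (c : F)
    (v : Fin n ⊕ Fin n → F) : sw p r (v + c • sw p r v) = sw p r v := by
  rw [sw_add, sw_smul]
  have : sw p r (sw p r v) = 0 := by
    have e : sw p r (sw p r v) = Bf n F (sw p r v) r • p - Bf n F (sw p r v) p • r := rfl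
    rw [e, h.sw_r, h.sw_p, zero_smul, zero_smul, sub_zero]
  rw [this, smul_zero, add_zero]

theorem isSieg_mul {p r : Fin n ⊕ Fin n → F} (h : SingPair p r) {c c' : F}
    {σ τ : ↥(Cfsg.isometryGroup F (Cfsg.quadFormPlus n F))} (hσ : IsSieg p r c σ)
    (hτ : IsSieg p r c' τ) : IsSieg p r (c + c') (σ * τ) := by
  intro v
  rw [mat_mul, hτ v, hσ _, h.sw_sw, add_smul]
  abel

theorem isSieg_inv {p r : Fin n ⊕ Fin n → F} (h : SingPair p r) {c : F}
    {σ : ↥(Cfsg.isometryGroup F (Cfsg.quadFormPlus n F))} (hσ : IsSieg p r c σ) :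
    IsSieg p r (-c) σ⁻¹ := by
  intro v
  have h1 := hσ (v + (-c) • sw p r v)
  rw [h.sw_sw] at h1
  have h2 : v + -c • sw p r v + c • sw p r v = v := by
    rw [add_assoc, ← add_smul]
    simp
  rw [h2] at h1
  have h3 := mat_inv_mat σ (v + (-c) • sw p r v)
  rw [h1] at h3
  exact h3

theorem isSieg_conj {p r : Fin n ⊕ Fin n → F} {c : F}
    {σ : ↥(Cfsg.isometryGroup F (Cfsg.quadFormPlus n F))} (hσ : IsSieg p r c σ)
    (g : ↥(Cfsg.isometryGroup F (Cfsg.quadFormPlus n F))) :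
    IsSieg (mat g *ᵥ p) (mat g *ᵥ r) c (g * σ * g⁻¹) := by
  intro v
  rw [mat_mul, mat_mul, hσ _, Matrix.mulVec_add, Matrix.mulVec_smul, mat_mat_inv]
  congr 2
  unfold sw
  rw [Matrix.mulVec_sub, Matrix.mulVec_smul, Matrix.mulVec_smul]
  congr 2
  · rw [← Bf_mat g, mat_mat_inv]
  · rw [← Bf_mat g, mat_mat_inv]

theorem exists_sieg {p r : Fin n ⊕ Fin n → F} (h : SingPair p r) (c : F) :
    ∃ σ : ↥(Cfsg.isometryGroup F (Cfsg.quadFormPlus n F)), IsSieg p r c σ := by
  have key : ∀ c' : F, ∀ v, siegMat p r c *ᵥ (siegMat p r c' *ᵥ v) = v + (c + c') • sw p r v := by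
    intro c' v
    rw [siegMat_mulVec, siegMat_mulVec, h.sw_sw, add_smul]
    abel
  refine ⟨mkIso (siegMat p r c) (siegMat p r (-c)) ?_ ?_ ?_, ?_⟩
  · intro v
    rw [key, add_neg_cancel, zero_smul, add_zero]
  · intro v
    rw [siegMat_mulVec, siegMat_mulVec, h.sw_sw, add_assoc, ← add_smul]
    simp
  · intro v
    rw [siegMat_mulVec, Q_add, Q_smul, h.Q_sw, Bf_smul_right, Bf_sw_self]
    ring
  · intro v
    rw [mat_mkIso, siegMat_mulVec]

theorem isSieg_ne_one {p r : Fin n ⊕ Fin n → F} (hind : LinearIndependent F ![p, r]) {c : F}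
    (hc : c ≠ 0) {σ : ↥(Cfsg.isometryGroup F (Cfsg.quadFormPlus n F))} (hσ : IsSieg p r c σ) :
    σ ≠ 1 := by
  rintro rfl
  have hp0 : p ≠ 0 := by
    have := hind.ne_zero 0
    simpa using this
  obtain ⟨v, hv⟩ := exists_Bf_eq_one hp0
  have h1 := hσ v
  rw [mat_one] at h1
  have h2 : c • sw p r v = 0 := by
    have := h1.symm
    rwa [add_eq_left] at this
  have h3 : sw p r v = 0 := by
    rcases smul_eq_zero.mp h2 with h | h
    · exact absurd h hc
    · exact h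
  unfold sw at h3
  rw [sub_eq_add_neg, ← neg_smul] at h3
  have := (LinearIndependent.pair_iff.mp hind) _ _ h3
  have h4 := this.2
  rw [neg_eq_zero, Bf_comm, hv] at h4
  exact one_ne_zero h4


/-! ### The Siegel transvection subgroups -/

theorem indep_swap {p r : Fin n ⊕ Fin n → F} (hind : LinearIndependent F ![p, r]) :
    LinearIndependent F ![r, p] := by
  rw [LinearIndependent.pair_iff] at hind ⊢
  intro s t hst
  have := hind t s (by rw [add_comm]; exact hst)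
  exact ⟨this.2, this.1⟩

theorem exists_dual {p r : Fin n ⊕ Fin n → F} (hind : LinearIndependent F ![p, r]) :
    ∃ r', Bf n F r' p = 0 ∧ Bf n F r' r = 1 := by
  have hp0 : p ≠ 0 := by
    have := hind.ne_zero 0
    simpa using this
  obtain ⟨v₁, hv₁⟩ := exists_Bf_eq_one hp0
  have hr₁0 : r - Bf n F r v₁ • p ≠ 0 := by
    intro h0
    have h1 : (-Bf n F r v₁) • p + (1 : F) • r = 0 := by
      rw [neg_smul, one_smul, neg_add_eq_sub]
      exact h0
    exact one_ne_zero ((LinearIndependent.pair_iff.mp hind) _ _ h1).2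
  obtain ⟨v₂, hv₂⟩ := exists_Bf_eq_one hr₁0
  have hr₁v₁ : Bf n F (r - Bf n F r v₁ • p) v₁ = 0 := by
    rw [Bf_sub_left, Bf_smul_left, hv₁]
    ring
  refine ⟨v₂ - Bf n F v₂ p • v₁, ?_, ?_⟩
  · rw [Bf_sub_left, Bf_smul_left, Bf_comm v₁ p, hv₁]
    ring
  · have h1 : Bf n F (v₂ - Bf n F v₂ p • v₁) (r - Bf n F r v₁ • p) = 1 := by
      rw [Bf_sub_left, Bf_smul_left, Bf_comm v₂, hv₂, Bf_comm v₁, hr₁v₁]
      ring
    have h2 : Bf n F (v₂ - Bf n F v₂ p • v₁) p = 0 := by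
      rw [Bf_sub_left, Bf_smul_left, Bf_comm v₁ p, hv₁]
      ring
    rw [Bf_sub_right, Bf_smul_right, h2] at h1
    rw [← h1]
    ring

/-- Vectors perpendicular to the perpendicular space of a line lie on the line. -/
theorem double_perp {p r p' r' : Fin n ⊕ Fin n → F} (hp'p : Bf n F p' p = 1)
    (hp'r : Bf n F p' r = 0) (hr'p : Bf n F r' p = 0) (hr'r : Bf n F r' r = 1)
    {x : Fin n ⊕ Fin n → F}
    (hx : ∀ w, Bf n F w p = 0 → Bf n F w r = 0 → Bf n F x w = 0) :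
    x = Bf n F x p' • p + Bf n F x r' • r := by
  rw [← sub_eq_zero]
  apply eq_zero_of_Bf
  intro v
  have hv₀ := hx (v - Bf n F v p • p' - Bf n F v r • r')
    (by rw [Bf_sub_left, Bf_sub_left, Bf_smul_left, Bf_smul_left, hp'p, hr'p]; ring)
    (by rw [Bf_sub_left, Bf_sub_left, Bf_smul_left, Bf_smul_left, hp'r, hr'r]; ring)
  rw [Bf_sub_right, Bf_sub_right, Bf_smul_right, Bf_smul_right] at hv₀
  rw [Bf_sub_left, Bf_add_left, Bf_smul_left, Bf_smul_left, Bf_comm p v, Bf_comm r v]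
  linear_combination hv₀

theorem gen_iff {p r : Fin n ⊕ Fin n → F} (hind : LinearIndependent F ![p, r])
    (h : SingPair p r) (σ : ↥(Cfsg.isometryGroup F (Cfsg.quadFormPlus n F))) :
    (∀ v, Bf n F v p = 0 → Bf n F v r = 0 → mat σ *ᵥ v = v) ↔ ∃ c, IsSieg p r c σ := by
  constructor
  · intro H
    obtain ⟨r', hr'p, hr'r⟩ := exists_dual hind
    obtain ⟨p', hp'r, hp'p⟩ := exists_dual (indep_swap hind)
    -- images of the dual vectors
    have hperp : ∀ y : Fin n ⊕ Fin n → F, ∀ w, Bf n F w p = 0 → Bf n F w r = 0 →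
        Bf n F (mat σ *ᵥ y - y) w = 0 := by
      intro y w hwp hwr
      rw [Bf_sub_left]
      nth_rewrite 1 [← H w hwp hwr]
      rw [Bf_mat, sub_self]
    have hP := double_perp hp'p hp'r hr'p hr'r (hperp p')
    have hR := double_perp hp'p hp'r hr'p hr'r (hperp r')
    obtain ⟨a₁, ha₁⟩ : ∃ a, a = Bf n F (mat σ *ᵥ p' - p') p' := ⟨_, rfl⟩
    obtain ⟨a₂, ha₂⟩ : ∃ a, a = Bf n F (mat σ *ᵥ p' - p') r' := ⟨_, rfl⟩
    obtain ⟨b₁, hb₁⟩ : ∃ a, a = Bf n F (mat σ *ᵥ r' - r') p' := ⟨_, rfl⟩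
    obtain ⟨b₂, hb₂⟩ : ∃ a, a = Bf n F (mat σ *ᵥ r' - r') r' := ⟨_, rfl⟩
    rw [← ha₁, ← ha₂] at hP
    rw [← hb₁, ← hb₂] at hR
    have hP' : mat σ *ᵥ p' = p' + (a₁ • p + a₂ • r) := by
      rw [← hP]; abel
    have hR' : mat σ *ᵥ r' = r' + (b₁ • p + b₂ • r) := by
      rw [← hR]; abel
    have e1 : a₁ = 0 := by
      have := Q_mat σ p'
      rw [hP', Q_add, h.Q_comb, Bf_add_right, Bf_smul_right, Bf_smul_right, hp'p, hp'r] at this
      linear_combination this
    have e2 : b₂ = 0 := by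
      have := Q_mat σ r'
      rw [hR', Q_add, h.Q_comb, Bf_add_right, Bf_smul_right, Bf_smul_right, hr'p, hr'r] at this
      linear_combination this
    have e3 : b₁ = -a₂ := by
      have := Bf_mat σ p' r'
      rw [hP', hR', e1, e2, zero_smul, zero_smul, zero_add, add_zero, Bf_add_left, Bf_add_right,
        Bf_add_right, Bf_smul_left, Bf_smul_left, Bf_smul_right, Bf_smul_right, hp'p,
        Bf_comm r r', hr'r, h.hrp] at this
      linear_combination this
    refine ⟨-a₂, ?_⟩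
    intro v
    have hv₀ := H (v - Bf n F v p • p' - Bf n F v r • r')
      (by rw [Bf_sub_left, Bf_sub_left, Bf_smul_left, Bf_smul_left, hp'p, hr'p]; ring)
      (by rw [Bf_sub_left, Bf_sub_left, Bf_smul_left, Bf_smul_left, hp'r, hr'r]; ring)
    have e4 : mat σ *ᵥ v = mat σ *ᵥ (v - Bf n F v p • p' - Bf n F v r • r')
        + Bf n F v p • (mat σ *ᵥ p') + Bf n F v r • (mat σ *ᵥ r') := by
      rw [← Matrix.mulVec_smul, ← Matrix.mulVec_smul, ← Matrix.mulVec_add, ← Matrix.mulVec_add]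
      congr 1
      abel
    rw [e4, hv₀, hP', hR', e1, e2, e3]
    unfold sw
    module
  · rintro ⟨c, hc⟩ v hvp hvr
    rw [hc v]
    unfold sw
    rw [hvp, hvr, zero_smul, zero_smul, sub_zero, smul_zero, add_zero]


/-- The Siegel transvection group of the line spanned by `p` and `r`. -/
def T (n : ℕ) (F : Type*) [Field F] (p r : Fin n ⊕ Fin n → F) :
    Subgroup ↥(Cfsg.isometryGroup F (Cfsg.quadFormPlus n F)) :=
  Subgroup.closure {σ : ↥(Cfsg.isometryGroup F (Cfsg.quadFormPlus n F)) |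
    ∀ v : Fin n ⊕ Fin n → F,
      Cfsg.quadFormPlus n F (v + p) - Cfsg.quadFormPlus n F v - Cfsg.quadFormPlus n F p = 0 →
      Cfsg.quadFormPlus n F (v + r) - Cfsg.quadFormPlus n F v - Cfsg.quadFormPlus n F r = 0 →
        ((σ : Matrix.GeneralLinearGroup (Fin n ⊕ Fin n) F) :
          Matrix (Fin n ⊕ Fin n) (Fin n ⊕ Fin n) F) *ᵥ v = v}

theorem mem_T_iff {p r : Fin n ⊕ Fin n → F} (hind : LinearIndependent F ![p, r])
    (h : SingPair p r) (σ : ↥(Cfsg.isometryGroup F (Cfsg.quadFormPlus n F))) :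
    σ ∈ T n F p r ↔ ∃ c, IsSieg p r c σ := by
  constructor
  · intro hσ
    unfold T at hσ
    induction hσ using Subgroup.closure_induction with
    | mem x hx => exact (gen_iff hind h x).mp hx
    | one => exact ⟨0, isSieg_one p r⟩
    | mul x y _ _ hx hy =>
      obtain ⟨c, hc⟩ := hx
      obtain ⟨c', hc'⟩ := hy
      exact ⟨c + c', isSieg_mul h hc hc'⟩
    | inv x _ hx =>
      obtain ⟨c, hc⟩ := hx
      exact ⟨-c, isSieg_inv h hc⟩
  · intro hσ
    exact Subgroup.subset_closure ((gen_iff hind h σ).mpr hσ)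

/-- The group depends only on the perpendicular space of the line. -/
theorem T_congr {p r p₂ r₂ : Fin n ⊕ Fin n → F}
    (H : ∀ v, (Bf n F v p = 0 ∧ Bf n F v r = 0) ↔ (Bf n F v p₂ = 0 ∧ Bf n F v r₂ = 0)) :
    T n F p r = T n F p₂ r₂ := by
  unfold T
  congr 1
  ext σ
  simp only [Set.mem_ofPred_eq]
  constructor
  · intro hσ v h1 h2
    have := (H v).mpr ⟨h1, h2⟩
    exact hσ v this.1 this.2
  · intro hσ v h1 h2
    have := (H v).mp ⟨h1, h2⟩
    exact hσ v this.1 this.2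

theorem T_swap (p r : Fin n ⊕ Fin n → F) : T n F p r = T n F r p :=
  T_congr fun _ => and_comm

theorem SingPair.mat {p r : Fin n ⊕ Fin n → F} (h : SingPair p r)
    (g : ↥(Cfsg.isometryGroup F (Cfsg.quadFormPlus n F))) :
    SingPair (mat g *ᵥ p) (mat g *ᵥ r) :=
  ⟨by rw [Q_mat]; exact h.hp, by rw [Q_mat]; exact h.hr, by rw [Bf_mat]; exact h.hpr⟩

theorem indep_mat {p r : Fin n ⊕ Fin n → F} (hind : LinearIndependent F ![p, r])
    (g : ↥(Cfsg.isometryGroup F (Cfsg.quadFormPlus n F))) :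
    LinearIndependent F ![mat g *ᵥ p, mat g *ᵥ r] := by
  rw [LinearIndependent.pair_iff] at hind ⊢
  intro s t hst
  apply hind s t
  have := congrArg (fun x => mat g⁻¹ *ᵥ x) hst
  simp only [Matrix.mulVec_add, Matrix.mulVec_smul, mat_inv_mat, Matrix.mulVec_zero] at this
  exact this

theorem conjBy_T {p r : Fin n ⊕ Fin n → F} (hind : LinearIndependent F ![p, r])
    (h : SingPair p r) (g : ↥(Cfsg.isometryGroup F (Cfsg.quadFormPlus n F))) :
    Cfsg.conjBy (T n F p r) g = T n F (mat g *ᵥ p) (mat g *ᵥ r) := by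
  ext x
  rw [mem_conjBy_iff, mem_T_iff hind h, mem_T_iff (indep_mat hind g) (h.mat g)]
  constructor
  · rintro ⟨c, hc⟩
    refine ⟨c, ?_⟩
    have := isSieg_conj hc g
    have e : g * (g⁻¹ * x * g) * g⁻¹ = x := by group
    rwa [e] at this
  · rintro ⟨c, hc⟩
    refine ⟨c, ?_⟩
    have := isSieg_conj hc g⁻¹
    rwa [mat_inv_mat, mat_inv_mat, inv_inv] at this

theorem T_comm {p r : Fin n ⊕ Fin n → F} (hind : LinearIndependent F ![p, r])
    (h : SingPair p r) : ∀ a ∈ T n F p r, ∀ b ∈ T n F p r, a * b = b * a := by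
  intro a ha b hb
  obtain ⟨c, hc⟩ := (mem_T_iff hind h a).mp ha
  obtain ⟨c', hc'⟩ := (mem_T_iff hind h b).mp hb
  apply isSieg_unique (isSieg_mul h hc hc')
  rw [add_comm]
  exact isSieg_mul h hc' hc

theorem T_ne_bot {p r : Fin n ⊕ Fin n → F} (hind : LinearIndependent F ![p, r])
    (h : SingPair p r) : T n F p r ≠ ⊥ := by
  intro hbot
  obtain ⟨σ, hσ⟩ := exists_sieg h 1
  have h1 : σ ∈ T n F p r := (mem_T_iff hind h σ).mpr ⟨1, hσ⟩
  rw [hbot, Subgroup.mem_bot] at h1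
  exact isSieg_ne_one hind one_ne_zero hσ h1


/-! ### Two lines -/

theorem sw_sw (p r p' r' v : Fin n ⊕ Fin n → F) :
    sw p r (sw p' r' v)
      = (Bf n F v r' * Bf n F p' r - Bf n F v p' * Bf n F r' r) • p
        - (Bf n F v r' * Bf n F p' p - Bf n F v p' * Bf n F r' p) • r := by
  have e : sw p r (sw p' r' v) = Bf n F (sw p' r' v) r • p - Bf n F (sw p' r' v) p • r := rfl
  rw [e, Bf_sw_left, Bf_sw_left]

theorem sieg_mul_apply {p r p' r' : Fin n ⊕ Fin n → F} {c c' : F}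
    {σ τ : ↥(Cfsg.isometryGroup F (Cfsg.quadFormPlus n F))} (hσ : IsSieg p r c σ)
    (hτ : IsSieg p' r' c' τ) (v : Fin n ⊕ Fin n → F) :
    mat (σ * τ) *ᵥ v = v + c' • sw p' r' v + c • sw p r v + (c * c') • sw p r (sw p' r' v) := by
  rw [mat_mul, hτ v, hσ _, sw_add, sw_smul]
  module

theorem sieg_commute {p r p' r' : Fin n ⊕ Fin n → F}
    (hkey : ∀ v, sw p r (sw p' r' v) = sw p' r' (sw p r v)) {c c' : F}
    {σ τ : ↥(Cfsg.isometryGroup F (Cfsg.quadFormPlus n F))} (hσ : IsSieg p r c σ)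
    (hτ : IsSieg p' r' c' τ) : σ * τ = τ * σ := by
  apply iso_ext
  intro v
  rw [sieg_mul_apply hσ hτ, sieg_mul_apply hτ hσ, hkey]
  module

/-- Lines perpendicular to each other give commuting groups. -/
theorem commute_of_perp {p r p' r' : Fin n ⊕ Fin n → F} (hind : LinearIndependent F ![p, r])
    (h : SingPair p r) (hind' : LinearIndependent F ![p', r']) (h' : SingPair p' r')
    (h1 : Bf n F p p' = 0) (h2 : Bf n F p r' = 0) (h3 : Bf n F r p' = 0) (h4 : Bf n F r r' = 0) :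
    ∀ a ∈ T n F p r, ∀ b ∈ T n F p' r', a * b = b * a := by
  intro a ha b hb
  obtain ⟨c, hc⟩ := (mem_T_iff hind h a).mp ha
  obtain ⟨c', hc'⟩ := (mem_T_iff hind' h' b).mp hb
  apply sieg_commute _ hc hc'
  intro v
  rw [sw_sw, sw_sw, Bf_comm p' r, Bf_comm r' r, Bf_comm p' p, Bf_comm r' p, h1, h2, h3, h4]
  simp

/-- The normalized rank one configuration: `B(p₁, p₁') = 1` and all other products vanish. -/
structure NormalRankOne (p₀ p₁ p₀' p₁' : Fin n ⊕ Fin n → F) : Prop where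
  h00 : Bf n F p₀ p₀' = 0
  h01 : Bf n F p₀ p₁' = 0
  h10 : Bf n F p₁ p₀' = 0
  h11 : Bf n F p₁ p₁' = 1

theorem NormalRankOne.sw_sw' {p₀ p₁ p₀' p₁' : Fin n ⊕ Fin n → F}
    (hN : NormalRankOne p₀ p₁ p₀' p₁') (v : Fin n ⊕ Fin n → F) :
    sw p₀ p₁ (sw p₀' p₁' v) = -(Bf n F v p₀') • p₀ := by
  rw [sw_sw, Bf_comm p₀' p₁, Bf_comm p₁' p₁, Bf_comm p₀' p₀, Bf_comm p₁' p₀, hN.h00, hN.h01,
    hN.h10, hN.h11]
  simp

theorem NormalRankOne.sw'_sw {p₀ p₁ p₀' p₁' : Fin n ⊕ Fin n → F}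
    (hN : NormalRankOne p₀ p₁ p₀' p₁') (v : Fin n ⊕ Fin n → F) :
    sw p₀' p₁' (sw p₀ p₁ v) = -(Bf n F v p₀) • p₀' := by
  rw [sw_sw, hN.h00, hN.h01, hN.h10, hN.h11]
  simp

/-- In the normalized rank one configuration with the two lines meeting, the groups commute. -/
theorem commute_of_meet {p₀ p₁ p₀' p₁' : Fin n ⊕ Fin n → F}
    (hind : LinearIndependent F ![p₀, p₁]) (h : SingPair p₀ p₁)
    (hind' : LinearIndependent F ![p₀', p₁']) (h' : SingPair p₀' p₁')
    (hN : NormalRankOne p₀ p₁ p₀' p₁') {l : F} (hl : p₀' = l • p₀) :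
    ∀ a ∈ T n F p₀ p₁, ∀ b ∈ T n F p₀' p₁', a * b = b * a := by
  intro a ha b hb
  obtain ⟨c, hc⟩ := (mem_T_iff hind h a).mp ha
  obtain ⟨c', hc'⟩ := (mem_T_iff hind' h' b).mp hb
  apply sieg_commute _ hc hc'
  intro v
  rw [hN.sw_sw', hN.sw'_sw, hl, Bf_smul_right, smul_smul]
  congr 1
  ring

/-- The commutator relation in the normalized rank one configuration. -/
theorem heis_relation {p₀ p₁ p₀' p₁' : Fin n ⊕ Fin n → F}
    (h : SingPair p₀ p₁) (h' : SingPair p₀' p₁')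
    (hN : NormalRankOne p₀ p₁ p₀' p₁') {c c' : F}
    {σ τ ρ : ↥(Cfsg.isometryGroup F (Cfsg.quadFormPlus n F))} (hσ : IsSieg p₀ p₁ c σ)
    (hτ : IsSieg p₀' p₁' c' τ) (hρ : IsSieg p₀ p₀' (-(c * c')) ρ) :
    σ * τ * σ⁻¹ * τ⁻¹ = ρ := by
  have key : σ * τ = ρ * (τ * σ) := by
    apply iso_ext
    intro v
    rw [sieg_mul_apply hσ hτ, mat_mul, hρ _, sieg_mul_apply hτ hσ, hN.sw_sw', hN.sw'_sw]
    have e : sw p₀ p₀' (v + c • sw p₀ p₁ v + c' • sw p₀' p₁' v + (c' * c) • -Bf n F v p₀ • p₀')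
        = sw p₀ p₀' v := by
      simp only [sw_add, sw_smul]
      have e1 : sw p₀ p₀' (sw p₀ p₁ v) = 0 := by
        rw [sw_sw, hN.h00, hN.h10, Bf_self_of_sing h.hp, h.hrp]
        simp
      have e2 : sw p₀ p₀' (sw p₀' p₁' v) = 0 := by
        rw [sw_sw, Bf_self_of_sing h'.hp, h'.hrp, Bf_comm p₀' p₀, hN.h00, Bf_comm p₁' p₀, hN.h01]
        simp
      have e3 : sw p₀ p₀' p₀' = 0 := by
        unfold sw
        rw [Bf_self_of_sing h'.hp, Bf_comm p₀' p₀, hN.h00]
        simp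
      rw [e1, e2, e3]
      simp
    rw [e]
    unfold sw
    module
  rw [key]
  group


/-! ### Change of basis of a line -/

theorem basis_change {p r : Fin n ⊕ Fin n → F} (hind : LinearIndependent F ![p, r])
    (h : SingPair p r) {a b c d : F} (hdet : a * d - b * c ≠ 0) :
    LinearIndependent F ![a • p + b • r, c • p + d • r] ∧
      SingPair (a • p + b • r) (c • p + d • r) ∧
      T n F (a • p + b • r) (c • p + d • r) = T n F p r := by
  refine ⟨?_, ⟨h.Q_comb a b, h.Q_comb c d, ?_⟩, ?_⟩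
  · rw [LinearIndependent.pair_iff] at hind ⊢
    intro s t hst
    have h1 : (s * a + t * c) • p + (s * b + t * d) • r = 0 := by
      rw [← hst]
      module
    obtain ⟨h2, h3⟩ := hind _ _ h1
    constructor
    · have : s * (a * d - b * c) = 0 := by linear_combination d * h2 - c * h3
      rcases mul_eq_zero.mp this with h4 | h4
      · exact h4
      · exact absurd h4 hdet
    · have : t * (a * d - b * c) = 0 := by linear_combination a * h3 - b * h2
      rcases mul_eq_zero.mp this with h4 | h4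
      · exact h4
      · exact absurd h4 hdet
  · simp only [Bf_add_left, Bf_add_right, Bf_smul_left, Bf_smul_right, Bf_self_of_sing h.hp,
      Bf_self_of_sing h.hr, h.hpr, h.hrp]
    ring
  · apply T_congr
    intro v
    simp only [Bf_add_right, Bf_smul_right]
    constructor
    · rintro ⟨h1, h2⟩
      constructor
      · have : (a * d - b * c) * Bf n F v p = 0 := by linear_combination d * h1 - b * h2
        rcases mul_eq_zero.mp this with h4 | h4
        · exact absurd h4 hdet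
        · exact h4
      · have : (a * d - b * c) * Bf n F v r = 0 := by linear_combination a * h2 - c * h1
        rcases mul_eq_zero.mp this with h4 | h4
        · exact absurd h4 hdet
        · exact h4
    · rintro ⟨h1, h2⟩
      rw [h1, h2]
      simp

theorem normal_of_d {p r p' r' : Fin n ⊕ Fin n → F} (hind : LinearIndependent F ![p, r])
    (h : SingPair p r) (hind' : LinearIndependent F ![p', r']) (h' : SingPair p' r')
    (hdet : Bf n F p p' * Bf n F r r' - Bf n F p r' * Bf n F r p' = 0)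
    (hd : Bf n F r r' ≠ 0) :
    ∃ p₀ p₁ p₀' p₁' : Fin n ⊕ Fin n → F, LinearIndependent F ![p₀, p₁] ∧ SingPair p₀ p₁ ∧
      T n F p₀ p₁ = T n F p r ∧ LinearIndependent F ![p₀', p₁'] ∧ SingPair p₀' p₁' ∧
      T n F p₀' p₁' = T n F p' r' ∧ NormalRankOne p₀ p₁ p₀' p₁' := by
  obtain ⟨i1, s1, t1⟩ := basis_change hind h (a := 1) (b := -(Bf n F p r' / Bf n F r r'))
    (c := 0) (d := 1) (by simp)
  obtain ⟨i2, s2, t2⟩ := basis_change hind' h' (a := 1) (b := -(Bf n F r p' / Bf n F r r'))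
    (c := 0) (d := (Bf n F r r')⁻¹) (by simpa using hd)
  refine ⟨_, _, _, _, i1, s1, t1, i2, s2, t2, ?_, ?_, ?_, ?_⟩
  · simp only [Bf_add_left, Bf_add_right, Bf_smul_left, Bf_smul_right]
    field_simp
    linear_combination hdet
  · simp only [Bf_add_left, Bf_add_right, Bf_smul_left, Bf_smul_right]
    field_simp
    ring
  · simp only [Bf_add_left, Bf_add_right, Bf_smul_left, Bf_smul_right]
    field_simp
    ring
  · simp only [Bf_add_left, Bf_add_right, Bf_smul_left, Bf_smul_right]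
    field_simp
    ring

theorem exists_normal_rank_one {p r p' r' : Fin n ⊕ Fin n → F}
    (hind : LinearIndependent F ![p, r])
    (h : SingPair p r) (hind' : LinearIndependent F ![p', r']) (h' : SingPair p' r')
    (hdet : Bf n F p p' * Bf n F r r' - Bf n F p r' * Bf n F r p' = 0)
    (hne : ¬ (Bf n F p p' = 0 ∧ Bf n F p r' = 0 ∧ Bf n F r p' = 0 ∧ Bf n F r r' = 0)) :
    ∃ p₀ p₁ p₀' p₁' : Fin n ⊕ Fin n → F, LinearIndependent F ![p₀, p₁] ∧ SingPair p₀ p₁ ∧
      T n F p₀ p₁ = T n F p r ∧ LinearIndependent F ![p₀', p₁'] ∧ SingPair p₀' p₁' ∧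
      T n F p₀' p₁' = T n F p' r' ∧ NormalRankOne p₀ p₁ p₀' p₁' := by
  by_cases h4 : Bf n F r r' = 0
  · by_cases h3 : Bf n F r p' = 0
    · by_cases h2 : Bf n F p r' = 0
      · have h1 : Bf n F p p' ≠ 0 := fun h1 => hne ⟨h1, h2, h3, h4⟩
        obtain ⟨p₀, p₁, p₀', p₁', a1, a2, a3, a4, a5, a6, a7⟩ :=
          normal_of_d (indep_swap hind) h.symm (indep_swap hind') h'.symm
            (by linear_combination hdet) h1
        exact ⟨p₀, p₁, p₀', p₁', a1, a2, a3.trans (T_swap r p), a4, a5,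
          a6.trans (T_swap r' p'), a7⟩
      · obtain ⟨p₀, p₁, p₀', p₁', a1, a2, a3, a4, a5, a6, a7⟩ :=
          normal_of_d (indep_swap hind) h.symm hind' h' (by linear_combination -hdet) h2
        exact ⟨p₀, p₁, p₀', p₁', a1, a2, a3.trans (T_swap r p), a4, a5, a6, a7⟩
    · obtain ⟨p₀, p₁, p₀', p₁', a1, a2, a3, a4, a5, a6, a7⟩ :=
        normal_of_d hind h (indep_swap hind') h'.symm (by linear_combination -hdet) h3
      exact ⟨p₀, p₁, p₀', p₁', a1, a2, a3, a4, a5, a6.trans (T_swap r' p'), a7⟩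
  · exact normal_of_d hind h hind' h' hdet h4

/-! ### The commutator configuration -/

/-- The family of all Siegel transvection groups of singular lines. -/
def fam (n : ℕ) (F : Type*) [Field F] :
    Set (Subgroup ↥(Cfsg.isometryGroup F (Cfsg.quadFormPlus n F))) :=
  {A | ∃ p r : Fin n ⊕ Fin n → F, LinearIndependent F ![p, r] ∧
    Cfsg.quadFormPlus n F p = 0 ∧ Cfsg.quadFormPlus n F r = 0 ∧
    Cfsg.quadFormPlus n F (p + r) = 0 ∧ A = T n F p r}

theorem singPair_of {p r : Fin n ⊕ Fin n → F} (hp : Cfsg.quadFormPlus n F p = 0)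
    (hr : Cfsg.quadFormPlus n F r = 0) (hpr : Cfsg.quadFormPlus n F (p + r) = 0) :
    SingPair p r := by
  refine ⟨hp, hr, ?_⟩
  unfold Bf
  rw [hp, hr, hpr]
  ring

theorem mem_fam {p r : Fin n ⊕ Fin n → F} (hind : LinearIndependent F ![p, r])
    (h : SingPair p r) : T n F p r ∈ fam n F := by
  refine ⟨p, r, hind, h.hp, h.hr, ?_, rfl⟩
  rw [Q_add, h.hp, h.hr, h.hpr]
  ring

theorem isSieg_zero_of_eq_one {p r : Fin n ⊕ Fin n → F}
    {c : F} {σ : ↥(Cfsg.isometryGroup F (Cfsg.quadFormPlus n F))} (hσ : IsSieg p r c σ)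
    (h1 : σ ≠ 1) : c ≠ 0 := by
  rintro rfl
  exact h1 (isSieg_unique hσ (isSieg_one p r))

theorem heis_of_normal {p₀ p₁ p₀' p₁' : Fin n ⊕ Fin n → F}
    (hind : LinearIndependent F ![p₀, p₁]) (h : SingPair p₀ p₁)
    (hind' : LinearIndependent F ![p₀', p₁']) (h' : SingPair p₀' p₁')
    (hN : NormalRankOne p₀ p₁ p₀' p₁') (hind0 : LinearIndependent F ![p₀, p₀']) :
    Heis (fam n F) (T n F p₀ p₁) (T n F p₀' p₁') (T n F p₀ p₀') := by
  have h0 : SingPair p₀ p₀' := ⟨h.hp, h'.hp, hN.h00⟩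
  refine ⟨mem_fam hind0 h0, ?_, ?_, ?_, ?_, ?_⟩
  · exact commute_of_perp hind0 h0 hind h (Bf_self_of_sing h.hp) h.hpr
      (by rw [Bf_comm]; exact hN.h00) (by rw [Bf_comm]; exact hN.h10)
  · exact commute_of_perp hind0 h0 hind' h' hN.h00 hN.h01 (Bf_self_of_sing h'.hp) h'.hpr
  · intro a ha b hb
    obtain ⟨c, hc⟩ := (mem_T_iff hind h a).mp ha
    obtain ⟨c', hc'⟩ := (mem_T_iff hind' h' b).mp hb
    obtain ⟨ρ, hρ⟩ := exists_sieg h0 (-(c * c'))
    rw [heis_relation h h' hN hc hc' hρ]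
    exact (mem_T_iff hind0 h0 ρ).mpr ⟨_, hρ⟩
  · intro a ha ha1 x hx
    obtain ⟨c, hc⟩ := (mem_T_iff hind h a).mp ha
    obtain ⟨d, hd⟩ := (mem_T_iff hind0 h0 x).mp hx
    have hc0 := isSieg_zero_of_eq_one hc ha1
    obtain ⟨τ, hτ⟩ := exists_sieg h' (-(d / c))
    refine ⟨τ, (mem_T_iff hind' h' τ).mpr ⟨_, hτ⟩, ?_⟩
    apply heis_relation h h' hN hc hτ
    have e : -(c * -(d / c)) = d := by field_simp
    rw [e]
    exact hd
  · intro b hb hb1 x hx
    obtain ⟨c', hc'⟩ := (mem_T_iff hind' h' b).mp hb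
    obtain ⟨d, hd⟩ := (mem_T_iff hind0 h0 x).mp hx
    have hc0 := isSieg_zero_of_eq_one hc' hb1
    obtain ⟨σ, hσ⟩ := exists_sieg h (-(d / c'))
    refine ⟨σ, (mem_T_iff hind h σ).mpr ⟨_, hσ⟩, ?_⟩
    apply heis_relation h h' hN hσ hc'
    have e : -(-(d / c') * c') = d := by field_simp
    rw [e]
    exact hd


/-! ### Opposite lines give images of `SL₂(F)` -/

/-- The normalized opposite configuration. -/
structure NormalOpp (p r p' r' : Fin n ⊕ Fin n → F) : Prop where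
  h00 : Bf n F p p' = 1
  h01 : Bf n F p r' = 0
  h10 : Bf n F r p' = 0
  h11 : Bf n F r r' = 1

lemma rowMat_mul_colMat_zero {m : Type*} [Fintype m] {R : Type*} [CommRing R]
    {e f α β : m → R} (h1 : α ⬝ᵥ e = 0) (h2 : α ⬝ᵥ f = 0)
    (h3 : β ⬝ᵥ e = 0) (h4 : β ⬝ᵥ f = 0) : rowMat α β * colMat e f = 0 := by
  ext i j
  fin_cases i <;> fin_cases j <;>
    simp [rowMat, colMat, Matrix.mul_apply, dotProduct] at * <;> assumption

theorem Q_sieg {p r : Fin n ⊕ Fin n → F} (h : SingPair p r) (c : F) (v : Fin n ⊕ Fin n → F) :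
    Cfsg.quadFormPlus n F (v + c • sw p r v) = Cfsg.quadFormPlus n F v := by
  rw [Q_add, Q_smul, h.Q_sw, Bf_smul_right, Bf_sw_self]
  ring

section Opp

variable {p r p' r' : Fin n ⊕ Fin n → F}

/-- The matrix attached to `M ∈ SL₂(F)` by a pair of opposite lines. -/
def oppMat (p r p' r' : Fin n ⊕ Fin n → F) (M : Matrix (Fin 2) (Fin 2) F) :
    Matrix (Fin n ⊕ Fin n) (Fin n ⊕ Fin n) F :=
  plane2Mat (colMat p r') (rowMat (dual p') (dual r)) (colMat r (-p')) (rowMat (dual r') (-dual p)) M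

theorem opp_cond1 (h : SingPair p r) (h' : SingPair p' r') (hN : NormalOpp p r p' r') :
    rowMat (dual p') (dual r) * colMat p r' = 1 := by
  apply rowMat_mul_colMat
  · rw [dual_dot]; exact hN.h00
  · rw [dual_dot]; exact h'.hrp
  · rw [dual_dot]; exact h.hpr
  · rw [dual_dot, Bf_comm]; exact hN.h11

theorem opp_cond2 (h : SingPair p r) (h' : SingPair p' r') (hN : NormalOpp p r p' r') :
    rowMat (dual r') (-dual p) * colMat r (-p') = 1 := by
  apply rowMat_mul_colMat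
  · rw [dual_dot]; exact hN.h11
  · rw [dotProduct_neg, dual_dot, h'.hpr, neg_zero]
  · rw [neg_dotProduct, dual_dot, h.hrp, neg_zero]
  · rw [neg_dotProduct, dotProduct_neg, dual_dot, neg_neg, Bf_comm]; exact hN.h00

theorem opp_cond12 (h : SingPair p r) (h' : SingPair p' r') (hN : NormalOpp p r p' r') :
    rowMat (dual p') (dual r) * colMat r (-p') = 0 := by
  apply rowMat_mul_colMat_zero
  · rw [dual_dot]; exact hN.h10
  · rw [dotProduct_neg, dual_dot, Bf_self_of_sing h'.hp, neg_zero]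
  · rw [dual_dot]; exact Bf_self_of_sing h.hr
  · rw [dotProduct_neg, dual_dot, Bf_comm, hN.h10, neg_zero]

theorem opp_cond21 (h : SingPair p r) (h' : SingPair p' r') (hN : NormalOpp p r p' r') :
    rowMat (dual r') (-dual p) * colMat p r' = 0 := by
  apply rowMat_mul_colMat_zero
  · rw [dual_dot]; exact hN.h01
  · rw [dual_dot]; exact Bf_self_of_sing h'.hr
  · rw [neg_dotProduct, dual_dot, Bf_self_of_sing h.hp, neg_zero]
  · rw [neg_dotProduct, dual_dot, Bf_comm, hN.h01, neg_zero]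

theorem oppMat_mulVec (h : SingPair p r) (h' : SingPair p' r') (hN : NormalOpp p r p' r')
    (M : Matrix (Fin 2) (Fin 2) F) (v : Fin n ⊕ Fin n → F) :
    oppMat p r p' r' M *ᵥ v
      = v + ((M 0 0 - 1) * Bf n F v p' + M 0 1 * Bf n F v r) • p
        + (M 1 0 * Bf n F v p' + (M 1 1 - 1) * Bf n F v r) • r'
        + ((M 0 0 - 1) * Bf n F v r' - M 0 1 * Bf n F v p) • r
        - (M 1 0 * Bf n F v r' - (M 1 1 - 1) * Bf n F v p) • p' := by
  unfold oppMat
  rw [plane2Mat_mulVec (opp_cond12 h h' hN), neg_dotProduct, dual_dot, dual_dot, dual_dot,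
    dual_dot]
  module

theorem oppMat_up (h : SingPair p r) (h' : SingPair p' r') (hN : NormalOpp p r p' r') (t : F)
    (v : Fin n ⊕ Fin n → F) :
    oppMat p r p' r' ((up t : Matrix.SpecialLinearGroup (Fin 2) F) : Matrix (Fin 2) (Fin 2) F)
      *ᵥ v = v + t • sw p r v := by
  rw [oppMat_mulVec h h' hN, up_coe]
  unfold sw
  simp
  module

theorem oppMat_lo (h : SingPair p r) (h' : SingPair p' r') (hN : NormalOpp p r p' r') (t : F)
    (v : Fin n ⊕ Fin n → F) :
    oppMat p r p' r' ((lo t : Matrix.SpecialLinearGroup (Fin 2) F) : Matrix (Fin 2) (Fin 2) F)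
      *ᵥ v = v + (-t) • sw p' r' v := by
  rw [oppMat_mulVec h h' hN, lo_coe]
  unfold sw
  simp
  module

theorem oppMat_mul (h : SingPair p r) (h' : SingPair p' r') (hN : NormalOpp p r p' r')
    (M N : Matrix (Fin 2) (Fin 2) F) :
    oppMat p r p' r' (M * N) = oppMat p r p' r' M * oppMat p r p' r' N :=
  plane2Mat_mul (opp_cond1 h h' hN) (opp_cond2 h h' hN) (opp_cond12 h h' hN)
    (opp_cond21 h h' hN) M N

theorem oppMat_Q (h : SingPair p r) (h' : SingPair p' r') (hN : NormalOpp p r p' r')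
    (M : Matrix.SpecialLinearGroup (Fin 2) F) (v : Fin n ⊕ Fin n → F) :
    Cfsg.quadFormPlus n F
      (oppMat p r p' r' (M : Matrix (Fin 2) (Fin 2) F) *ᵥ v) = Cfsg.quadFormPlus n F v := by
  obtain ⟨x, y, z, w, rfl⟩ := exists_factor M
  simp only [Matrix.SpecialLinearGroup.coe_mul, oppMat_mul h h' hN, ← Matrix.mulVec_mulVec]
  rw [oppMat_lo h h' hN, Q_sieg h', oppMat_up h h' hN, Q_sieg h, oppMat_lo h h' hN, Q_sieg h',
    oppMat_up h h' hN, Q_sieg h]

theorem oppMat_inv (h : SingPair p r) (h' : SingPair p' r') (hN : NormalOpp p r p' r')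
    (M N : Matrix.SpecialLinearGroup (Fin 2) F) (hMN : M * N = 1) (v : Fin n ⊕ Fin n → F) :
    oppMat p r p' r' (M : Matrix (Fin 2) (Fin 2) F) *ᵥ
      (oppMat p r p' r' (N : Matrix (Fin 2) (Fin 2) F) *ᵥ v) = v := by
  rw [Matrix.mulVec_mulVec, ← oppMat_mul h h' hN, ← Matrix.SpecialLinearGroup.coe_mul, hMN,
    Matrix.SpecialLinearGroup.coe_one]
  unfold oppMat
  rw [plane2Mat_one, Matrix.one_mulVec]

/-- The homomorphism from `SL₂(F)` attached to a pair of opposite lines. -/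
def oppHom (h : SingPair p r) (h' : SingPair p' r') (hN : NormalOpp p r p' r') :
    Matrix.SpecialLinearGroup (Fin 2) F →* ↥(Cfsg.isometryGroup F (Cfsg.quadFormPlus n F)) where
  toFun M := mkIso (oppMat p r p' r' (M : Matrix (Fin 2) (Fin 2) F))
    (oppMat p r p' r' ((M⁻¹ : Matrix.SpecialLinearGroup (Fin 2) F) : Matrix (Fin 2) (Fin 2) F))
    (oppMat_inv h h' hN M M⁻¹ (mul_inv_cancel M)) (oppMat_inv h h' hN M⁻¹ M (inv_mul_cancel M))
    (oppMat_Q h h' hN M)
  map_one' := by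
    apply iso_ext
    intro v
    rw [mat_mkIso, mat_one, Matrix.SpecialLinearGroup.coe_one]
    unfold oppMat
    rw [plane2Mat_one, Matrix.one_mulVec]
  map_mul' M N := by
    apply iso_ext
    intro v
    rw [mat_mul, mat_mkIso, mat_mkIso, mat_mkIso, Matrix.SpecialLinearGroup.coe_mul,
      oppMat_mul h h' hN, Matrix.mulVec_mulVec]

theorem mat_oppHom (h : SingPair p r) (h' : SingPair p' r') (hN : NormalOpp p r p' r')
    (M : Matrix.SpecialLinearGroup (Fin 2) F) :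
    mat (oppHom h h' hN M) = oppMat p r p' r' (M : Matrix (Fin 2) (Fin 2) F) := rfl

theorem oppHom_up (h : SingPair p r) (h' : SingPair p' r') (hN : NormalOpp p r p' r') (t : F) :
    IsSieg p r t (oppHom h h' hN (up t)) := by
  intro v
  rw [mat_oppHom, oppMat_up h h' hN]

theorem oppHom_lo (h : SingPair p r) (h' : SingPair p' r') (hN : NormalOpp p r p' r') (t : F) :
    IsSieg p' r' (-t) (oppHom h h' hN (lo t)) := by
  intro v
  rw [mat_oppHom, oppMat_lo h h' hN]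

theorem oppHom_ker (h : SingPair p r) (h' : SingPair p' r') (hN : NormalOpp p r p' r') :
    (oppHom h h' hN).ker = ⊥ := by
  rw [Subgroup.eq_bot_iff_forall]
  intro M hM
  rw [MonoidHom.mem_ker] at hM
  have h1 : oppMat p r p' r' (M : Matrix (Fin 2) (Fin 2) F) = oppMat p r p' r' 1 := by
    rw [← mat_oppHom h h' hN, hM, Matrix.ext_iff_mulVec]
    intro v
    rw [mat_one]
    unfold oppMat
    rw [plane2Mat_one, Matrix.one_mulVec]
  exact Subtype.ext (plane2Mat_injective (opp_cond1 h h' hN) (opp_cond12 h h' hN) h1)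

theorem psl2_of_normalOpp (hind : LinearIndependent F ![p, r]) (h : SingPair p r)
    (hind' : LinearIndependent F ![p', r']) (h' : SingPair p' r') (hN : NormalOpp p r p' r') :
    Cfsg.IsPSL2PairOver F (T n F p r) (T n F p' r') := by
  apply isPSL2PairOver_of_hom (oppHom h h' hN)
  · rw [oppHom_ker]
    exact bot_le
  · apply map_upper_eq
    · intro s
      exact (mem_T_iff hind h _).mpr ⟨s, oppHom_up h h' hN s⟩
    · intro a ha
      obtain ⟨c, hc⟩ := (mem_T_iff hind h a).mp ha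
      exact ⟨c, isSieg_unique (oppHom_up h h' hN c) hc⟩
  · apply map_lower_eq
    · intro s
      exact (mem_T_iff hind' h' _).mpr ⟨-s, oppHom_lo h h' hN s⟩
    · intro a ha
      obtain ⟨c, hc⟩ := (mem_T_iff hind' h' a).mp ha
      refine ⟨-c, isSieg_unique ?_ hc⟩
      have := oppHom_lo h h' hN (-c)
      rwa [neg_neg] at this

end Opp

theorem psl2_of_det {p r p' r' : Fin n ⊕ Fin n → F} (hind : LinearIndependent F ![p, r])
    (h : SingPair p r) (hind' : LinearIndependent F ![p', r']) (h' : SingPair p' r')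
    (hdet : Bf n F p p' * Bf n F r r' - Bf n F p r' * Bf n F r p' ≠ 0) :
    Cfsg.IsPSL2PairOver F (T n F p r) (T n F p' r') := by
  obtain ⟨Δ, hΔ⟩ : ∃ Δ, Δ = Bf n F p p' * Bf n F r r' - Bf n F p r' * Bf n F r p' := ⟨_, rfl⟩
  rw [← hΔ] at hdet
  obtain ⟨i2, s2, t2⟩ := basis_change hind' h' (a := Bf n F r r' / Δ) (b := -(Bf n F r p' / Δ))
    (c := -(Bf n F p r' / Δ)) (d := Bf n F p p' / Δ) (by
      have : Bf n F r r' / Δ * (Bf n F p p' / Δ) - -(Bf n F r p' / Δ) * -(Bf n F p r' / Δ)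
          = Δ⁻¹ := by
        field_simp
        rw [hΔ]
        ring
      rw [this]
      exact inv_ne_zero hdet)
  rw [← t2]
  apply psl2_of_normalOpp hind h i2 s2
  refine ⟨?_, ?_, ?_, ?_⟩
  · simp only [Bf_add_right, Bf_smul_right]
    field_simp
    rw [hΔ]
    ring
  · simp only [Bf_add_right, Bf_smul_right]
    field_simp
    ring
  · simp only [Bf_add_right, Bf_smul_right]
    field_simp
    ring
  · simp only [Bf_add_right, Bf_smul_right]
    field_simp
    rw [hΔ]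
    ring

/-- The three cases for two singular lines. -/
theorem pair_cases {p r p' r' : Fin n ⊕ Fin n → F} (hind : LinearIndependent F ![p, r])
    (h : SingPair p r) (hind' : LinearIndependent F ![p', r']) (h' : SingPair p' r') :
    (∀ a ∈ T n F p r, ∀ b ∈ T n F p' r', a * b = b * a) ∨
      Cfsg.IsPSL2PairOver F (T n F p r) (T n F p' r') ∨
      ∃ C, Heis (fam n F) (T n F p r) (T n F p' r') C := by
  by_cases hdet : Bf n F p p' * Bf n F r r' - Bf n F p r' * Bf n F r p' = 0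
  · by_cases hall : Bf n F p p' = 0 ∧ Bf n F p r' = 0 ∧ Bf n F r p' = 0 ∧ Bf n F r r' = 0
    · left
      exact commute_of_perp hind h hind' h' hall.1 hall.2.1 hall.2.2.1 hall.2.2.2
    · obtain ⟨p₀, p₁, p₀', p₁', a1, a2, a3, a4, a5, a6, a7⟩ :=
        exists_normal_rank_one hind h hind' h' hdet hall
      rw [← a3, ← a6]
      by_cases hdep : ∃ l : F, p₀' = l • p₀
      · obtain ⟨l, hl⟩ := hdep
        left
        exact commute_of_meet a1 a2 a4 a5 a7 hl
      · right; right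
        refine ⟨_, heis_of_normal a1 a2 a4 a5 a7 ?_⟩
        rw [LinearIndependent.pair_iff]
        intro s t hst
        have hp₀ : p₀ ≠ 0 := by
          have := a1.ne_zero 0
          simpa using this
        by_cases ht : t = 0
        · subst ht
          rw [zero_smul, add_zero] at hst
          rcases smul_eq_zero.mp hst with h0 | h0
          · exact ⟨h0, rfl⟩
          · exact absurd h0 hp₀
        · exfalso
          apply hdep
          refine ⟨-(s / t), ?_⟩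
          have e : t • p₀' = -(s • p₀) := eq_neg_of_add_eq_zero_right hst
          have e2 : p₀' = t⁻¹ • (t • p₀') := by rw [smul_smul, inv_mul_cancel₀ ht, one_smul]
          rw [e2, e, smul_neg, smul_smul, neg_smul]
          congr 2
          field_simp
  · right; left
    exact psl2_of_det hind h hind' h' hdet


end Cfsg.Agent.Lib.Helper13_Siegel
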