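import Mathlib
import Cfsg.Prelude.Def_Classical
import Cfsg.Agent.Lib.Helper13_Siegel

set_option autoImplicit false

/-!
The Siegel transvection groups of the singular lines of the hyperbolic quadratic form: they are
abstract root subgroups of the group they generate, and the graph of opposite lines is connected
once the Witt index is at least three.
-/

namespace Cfsg.Agent.Lib.Helper13_SiegelConn

open Cfsg Matrix Cfsg.Agent.Lib.Helper13_RootSL2 Cfsg.Agent.Lib.Helper13_RootSub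
  Cfsg.Agent.Lib.Helper13_RootHeis Cfsg.Agent.Lib.Helper13_Siegel

variable {F : Type*} [Field F] {n : ℕ}

/-- The family is a set of abstract root subgroups inside the group it generates. -/
theorem kroot_fam :
    Cfsg.IsKRootSubgroupSet F
      ((fun A : Subgroup ↥(Cfsg.isometryGroup F (Cfsg.quadFormPlus n F)) =>
        A.subgroupOf (⨆ B ∈ fam n F, B)) '' fam n F) := by
  apply kroot_of_pairs_sub F
  · rintro A ⟨p, r, hind, hp, hr, hpr, rfl⟩
    exact T_comm hind (singPair_of hp hr hpr)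
  · rintro A ⟨p, r, hind, hp, hr, hpr, rfl⟩
    exact T_ne_bot hind (singPair_of hp hr hpr)
  · rintro A ⟨p, r, hind, hp, hr, hpr, rfl⟩ g
    rw [conjBy_T hind (singPair_of hp hr hpr)]
    exact mem_fam (indep_mat hind g) ((singPair_of hp hr hpr).mat g)
  · rintro A ⟨p, r, hind, hp, hr, hpr, rfl⟩ B ⟨p', r', hind', hp', hr', hpr', rfl⟩
    exact pair_cases hind (singPair_of hp hr hpr) hind' (singPair_of hp' hr' hpr')

/-! ### Geometry of the hyperbolic space -/

theorem exists_common_nonperp {a b : Fin n ⊕ Fin n → F} (ha : a ≠ 0) (hb : b ≠ 0) :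
    ∃ z, Bf n F a z ≠ 0 ∧ Bf n F b z ≠ 0 := by
  obtain ⟨z₁, h₁⟩ := exists_Bf_ne_zero ha
  obtain ⟨z₂, h₂⟩ := exists_Bf_ne_zero hb
  by_cases h3 : Bf n F b z₁ = 0
  · by_cases h4 : Bf n F a z₂ = 0
    · refine ⟨z₁ + z₂, ?_, ?_⟩
      · rw [Bf_add_right, h4, add_zero]
        exact h₁
      · rw [Bf_add_right, h3, zero_add]
        exact h₂
    · exact ⟨z₂, h4, h₂⟩
  · exact ⟨z₁, h₁, h3⟩

/-- A hyperbolic pair. -/
structure HypPair (p x : Fin n ⊕ Fin n → F) : Prop where
  hp : Cfsg.quadFormPlus n F p = 0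
  hx : Cfsg.quadFormPlus n F x = 0
  hpx : Bf n F p x = 1

/-- The projection to the perpendicular space of a hyperbolic pair. -/
def proj (p x z : Fin n ⊕ Fin n → F) : Fin n ⊕ Fin n → F :=
  z - Bf n F z x • p - Bf n F z p • x

theorem HypPair.proj_p {p x : Fin n ⊕ Fin n → F} (h : HypPair p x) (z : Fin n ⊕ Fin n → F) :
    Bf n F (proj p x z) p = 0 := by
  unfold proj
  rw [Bf_sub_left, Bf_sub_left, Bf_smul_left, Bf_smul_left, Bf_self_of_sing h.hp, Bf_comm x p,
    h.hpx]
  ring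

theorem HypPair.proj_x {p x : Fin n ⊕ Fin n → F} (h : HypPair p x) (z : Fin n ⊕ Fin n → F) :
    Bf n F (proj p x z) x = 0 := by
  unfold proj
  rw [Bf_sub_left, Bf_sub_left, Bf_smul_left, Bf_smul_left, Bf_self_of_sing h.hx, h.hpx]
  ring

theorem Bf_proj_of_perp {p x a : Fin n ⊕ Fin n → F} (hap : Bf n F a p = 0)
    (hax : Bf n F a x = 0) (z : Fin n ⊕ Fin n → F) :
    Bf n F a (proj p x z) = Bf n F a z := by
  unfold proj
  rw [Bf_sub_right, Bf_sub_right, Bf_smul_right, Bf_smul_right, hap, hax]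
  ring

theorem exists_not_comb (hn : 3 ≤ n) (v₁ v₂ v₃ v₄ : Fin n ⊕ Fin n → F) :
    ∃ z : Fin n ⊕ Fin n → F,
      ∀ c₁ c₂ c₃ c₄ : F, z ≠ c₁ • v₁ + c₂ • v₂ + c₃ • v₃ + c₄ • v₄ := by
  by_contra hcon
  push Not at hcon
  have htop : Submodule.span F (Set.range ![v₁, v₂, v₃, v₄]) = ⊤ := by
    rw [eq_top_iff]
    intro z _
    obtain ⟨c₁, c₂, c₃, c₄, hz⟩ := hcon z
    rw [hz]
    refine Submodule.add_mem _ (Submodule.add_mem _ (Submodule.add_mem _ ?_ ?_) ?_) ?_
    · exact Submodule.smul_mem _ _ (Submodule.subset_span ⟨0, rfl⟩)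
    · exact Submodule.smul_mem _ _ (Submodule.subset_span ⟨1, rfl⟩)
    · exact Submodule.smul_mem _ _ (Submodule.subset_span ⟨2, rfl⟩)
    · exact Submodule.smul_mem _ _ (Submodule.subset_span ⟨3, rfl⟩)
  have h1 : Module.finrank F (Submodule.span F (Set.range ![v₁, v₂, v₃, v₄])) ≤ 4 := by
    have := finrank_range_le_card (R := F) ![v₁, v₂, v₃, v₄]
    simpa [Set.finrank] using this
  rw [htop, finrank_top] at h1
  have h2 : Module.finrank F (Fin n ⊕ Fin n → F) = 2 * n := by simp [two_mul]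
  omega

/-- The projection to the perpendicular space of two perpendicular hyperbolic planes. -/
def proj2 (p x a b z : Fin n ⊕ Fin n → F) : Fin n ⊕ Fin n → F :=
  z - Bf n F z x • p - Bf n F z p • x - (Bf n F z b / Bf n F a b) • a -
    (Bf n F z a / Bf n F a b) • b

section Proj2

variable {p x a b : Fin n ⊕ Fin n → F}

theorem proj2_p (h : HypPair p x) (hap : Bf n F a p = 0) (hbp : Bf n F b p = 0)
    (z : Fin n ⊕ Fin n → F) : Bf n F (proj2 p x a b z) p = 0 := by
  unfold proj2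
  simp only [Bf_sub_left, Bf_smul_left, Bf_self_of_sing h.hp, Bf_comm x p, h.hpx, hap, hbp]
  ring

theorem proj2_x (h : HypPair p x) (hax : Bf n F a x = 0) (hbx : Bf n F b x = 0)
    (z : Fin n ⊕ Fin n → F) : Bf n F (proj2 p x a b z) x = 0 := by
  unfold proj2
  simp only [Bf_sub_left, Bf_smul_left, Bf_self_of_sing h.hx, h.hpx, hax, hbx]
  ring

theorem proj2_a (ha : Cfsg.quadFormPlus n F a = 0) (hab : Bf n F a b ≠ 0)
    (hap : Bf n F a p = 0) (hax : Bf n F a x = 0)
    (z : Fin n ⊕ Fin n → F) : Bf n F (proj2 p x a b z) a = 0 := by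
  unfold proj2
  simp only [Bf_sub_left, Bf_smul_left, Bf_self_of_sing ha, Bf_comm p a, Bf_comm x a, hap, hax,
    Bf_comm b a]
  field_simp
  ring

theorem proj2_b (hb : Cfsg.quadFormPlus n F b = 0) (hab : Bf n F a b ≠ 0)
    (hbp : Bf n F b p = 0) (hbx : Bf n F b x = 0)
    (z : Fin n ⊕ Fin n → F) : Bf n F (proj2 p x a b z) b = 0 := by
  unfold proj2
  simp only [Bf_sub_left, Bf_smul_left, Bf_self_of_sing hb, Bf_comm p b, Bf_comm x b, hbp, hbx]
  field_simp
  ring

theorem Bf_proj2_of_perp {u : Fin n ⊕ Fin n → F} (hup : Bf n F u p = 0) (hux : Bf n F u x = 0)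
    (hua : Bf n F u a = 0) (hub : Bf n F u b = 0) (z : Fin n ⊕ Fin n → F) :
    Bf n F u (proj2 p x a b z) = Bf n F u z := by
  unfold proj2
  simp only [Bf_sub_right, Bf_smul_right, hup, hux, hua, hub]
  ring

end Proj2

theorem exists_aniso_perp (hn : 3 ≤ n) {p x a b : Fin n ⊕ Fin n → F} (h : HypPair p x)
    (ha : Cfsg.quadFormPlus n F a = 0) (hb : Cfsg.quadFormPlus n F b = 0)
    (hab : Bf n F a b ≠ 0)
    (hap : Bf n F a p = 0) (hax : Bf n F a x = 0) (hbp : Bf n F b p = 0) (hbx : Bf n F b x = 0) :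
    ∃ w, Cfsg.quadFormPlus n F w ≠ 0 ∧ Bf n F w p = 0 ∧ Bf n F w x = 0 ∧ Bf n F w a = 0 ∧
      Bf n F w b = 0 := by
  obtain ⟨z, hz⟩ := exists_not_comb hn p x a b
  have hu0 : proj2 p x a b z ≠ 0 := by
    intro h0
    apply hz (Bf n F z x) (Bf n F z p) (Bf n F z b / Bf n F a b) (Bf n F z a / Bf n F a b)
    unfold proj2 at h0
    rw [sub_eq_zero, sub_eq_iff_eq_add, sub_eq_iff_eq_add, sub_eq_iff_eq_add] at h0
    refine h0.trans ?_
    module
  have hup := proj2_p h hap hbp z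
  have hux := proj2_x h hax hbx z
  have hua := proj2_a (p := p) (x := x) ha hab hap hax z
  have hub := proj2_b (p := p) (x := x) hb hab hbp hbx z
  obtain ⟨z', hz'⟩ := exists_Bf_ne_zero hu0
  have hu'p := proj2_p h hap hbp z'
  have hu'x := proj2_x h hax hbx z'
  have hu'a := proj2_a (p := p) (x := x) ha hab hap hax z'
  have hu'b := proj2_b (p := p) (x := x) hb hab hbp hbx z'
  have huu' : Bf n F (proj2 p x a b z) (proj2 p x a b z') ≠ 0 := by
    rw [Bf_proj2_of_perp hup hux hua hub]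
    exact hz'
  by_cases h1 : Cfsg.quadFormPlus n F (proj2 p x a b z) = 0
  · by_cases h2 : Cfsg.quadFormPlus n F (proj2 p x a b z') = 0
    · refine ⟨proj2 p x a b z + proj2 p x a b z', ?_, ?_, ?_, ?_, ?_⟩
      · rw [Q_add, h1, h2, zero_add, zero_add]
        exact huu'
      · rw [Bf_add_left, hup, hu'p, add_zero]
      · rw [Bf_add_left, hux, hu'x, add_zero]
      · rw [Bf_add_left, hua, hu'a, add_zero]
      · rw [Bf_add_left, hub, hu'b, add_zero]
    · exact ⟨_, h2, hu'p, hu'x, hu'a, hu'b⟩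
  · exact ⟨_, h1, hup, hux, hua, hub⟩

theorem exists_sing_nonperp (hn : 3 ≤ n) {p x a b : Fin n ⊕ Fin n → F} (h : HypPair p x)
    (ha0 : a ≠ 0) (hb0 : b ≠ 0)
    (ha : Cfsg.quadFormPlus n F a = 0) (hb : Cfsg.quadFormPlus n F b = 0)
    (hap : Bf n F a p = 0) (hax : Bf n F a x = 0) (hbp : Bf n F b p = 0) (hbx : Bf n F b x = 0) :
    ∃ y, Cfsg.quadFormPlus n F y = 0 ∧ Bf n F y p = 0 ∧ Bf n F y x = 0 ∧ Bf n F a y ≠ 0 ∧
      Bf n F b y ≠ 0 := by
  by_cases hab : Bf n F a b = 0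
  · obtain ⟨z, hza, hzb⟩ := exists_common_nonperp ha0 hb0
    have hza' : Bf n F a (proj p x z) ≠ 0 := by
      rw [Bf_proj_of_perp hap hax]
      exact hza
    have hzb' : Bf n F b (proj p x z) ≠ 0 := by
      rw [Bf_proj_of_perp hbp hbx]
      exact hzb
    obtain ⟨z₀, hz₀⟩ : ∃ z₀, z₀ = proj p x z := ⟨_, rfl⟩
    have hz₀p : Bf n F z₀ p = 0 := by rw [hz₀]; exact h.proj_p z
    have hz₀x : Bf n F z₀ x = 0 := by rw [hz₀]; exact h.proj_x z
    rw [← hz₀] at hza' hzb'
    refine ⟨z₀ - (Cfsg.quadFormPlus n F z₀ / Bf n F a z₀) • a, ?_, ?_, ?_, ?_, ?_⟩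
    · rw [sub_eq_add_neg, ← neg_smul, Q_add, Q_smul, ha, Bf_smul_right, Bf_comm z₀ a]
      field_simp
      ring
    · rw [Bf_sub_left, Bf_smul_left, hz₀p, hap]
      ring
    · rw [Bf_sub_left, Bf_smul_left, hz₀x, hax]
      ring
    · rw [Bf_sub_right, Bf_smul_right, Bf_self_of_sing ha, mul_zero, sub_zero]
      exact hza'
    · rw [Bf_sub_right, Bf_smul_right, Bf_comm b a, hab, mul_zero, sub_zero]
      exact hzb'
  · obtain ⟨w, hw, hwp, hwx, hwa, hwb⟩ := exists_aniso_perp hn h ha hb hab hap hax hbp hbx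
    refine ⟨a + (-(Cfsg.quadFormPlus n F w) / Bf n F a b) • b + w, ?_, ?_, ?_, ?_, ?_⟩
    · rw [Q_add, Q_add, Q_smul, ha, hb, Bf_smul_right, Bf_add_left, Bf_smul_left, Bf_comm a w,
        Bf_comm b w, hwa, hwb]
      field_simp
      ring
    · rw [Bf_add_left, Bf_add_left, Bf_smul_left, hap, hbp, hwp]
      ring
    · rw [Bf_add_left, Bf_add_left, Bf_smul_left, hax, hbx, hwx]
      ring
    · rw [Bf_add_right, Bf_add_right, Bf_smul_right, Bf_self_of_sing ha, Bf_comm a w, hwa]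
      field_simp
      simpa using hw
    · rw [Bf_add_right, Bf_add_right, Bf_smul_right, Bf_self_of_sing hb, Bf_comm b w, hwb,
        Bf_comm b a]
      simpa using hab

/-- Two singular lines on a common point have a common opposite line. -/
theorem exists_common_opp (hn : 3 ≤ n) {p r r₂ : Fin n ⊕ Fin n → F}
    (hind : LinearIndependent F ![p, r]) (h : SingPair p r)
    (hind₂ : LinearIndependent F ![p, r₂]) (h₂ : SingPair p r₂) :
    ∃ x y, LinearIndependent F ![x, y] ∧ SingPair x y ∧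
      Bf n F p x * Bf n F r y - Bf n F p y * Bf n F r x ≠ 0 ∧
      Bf n F p x * Bf n F r₂ y - Bf n F p y * Bf n F r₂ x ≠ 0 := by
  have hp0 : p ≠ 0 := by
    have := hind.ne_zero 0
    simpa using this
  obtain ⟨x, hx, hpx⟩ := exists_sing_partner hp0 h.hp
  have hH : HypPair p x := ⟨h.hp, hx, hpx⟩
  -- the two points of the residue
  have key : ∀ {s : Fin n ⊕ Fin n → F}, LinearIndependent F ![p, s] → SingPair p s →
      (s - Bf n F s x • p ≠ 0) ∧ Cfsg.quadFormPlus n F (s - Bf n F s x • p) = 0 ∧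
      Bf n F (s - Bf n F s x • p) p = 0 ∧ Bf n F (s - Bf n F s x • p) x = 0 := by
    intro s hs hsp
    refine ⟨?_, ?_, ?_, ?_⟩
    · intro h0
      have h1 : (-Bf n F s x) • p + (1 : F) • s = 0 := by
        rw [neg_smul, one_smul, neg_add_eq_sub]
        exact h0
      exact one_ne_zero ((LinearIndependent.pair_iff.mp hs) _ _ h1).2
    · have e : s - Bf n F s x • p = (-Bf n F s x) • p + (1 : F) • s := by module
      rw [e]
      exact hsp.Q_comb _ _
    · rw [Bf_sub_left, Bf_smul_left, Bf_self_of_sing h.hp, hsp.hrp]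
      ring
    · rw [Bf_sub_left, Bf_smul_left, hpx]
      ring
  obtain ⟨ha0, ha, hap, hax⟩ := key hind h
  obtain ⟨hb0, hb, hbp, hbx⟩ := key hind₂ h₂
  obtain ⟨y, hy, hyp, hyx, hay, hby⟩ :=
    exists_sing_nonperp hn hH ha0 hb0 ha hb hap hax hbp hbx
  have hpy : Bf n F p y = 0 := by rw [Bf_comm]; exact hyp
  have hry : Bf n F r y ≠ 0 := by
    rw [Bf_sub_left, Bf_smul_left, hpy, mul_zero, sub_zero] at hay
    exact hay
  have hr₂y : Bf n F r₂ y ≠ 0 := by
    rw [Bf_sub_left, Bf_smul_left, hpy, mul_zero, sub_zero] at hby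
    exact hby
  refine ⟨x, y, ?_, ⟨hx, hy, by rw [Bf_comm]; exact hyx⟩, ?_, ?_⟩
  · rw [LinearIndependent.pair_iff]
    intro s t hst
    have h1 : Bf n F p (s • x + t • y) = 0 := by rw [hst, Bf_zero_right]
    rw [Bf_add_right, Bf_smul_right, Bf_smul_right, hpx, hpy] at h1
    have hs : s = 0 := by linear_combination h1
    subst hs
    have h2 : Bf n F r ((0 : F) • x + t • y) = 0 := by rw [hst, Bf_zero_right]
    rw [zero_smul, zero_add, Bf_smul_right] at h2
    rcases mul_eq_zero.mp h2 with h3 | h3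
    · exact ⟨rfl, h3⟩
    · exact absurd h3 hry
  · rw [hpx, hpy]
    simpa using hry
  · rw [hpx, hpy]
    simpa using hr₂y

/-! ### Connectedness of the graph of opposite lines -/

/-- Opposite lines are adjacent. -/
theorem fadj_of_det {p r p' r' : Fin n ⊕ Fin n → F} (hind : LinearIndependent F ![p, r])
    (h : SingPair p r) (hind' : LinearIndependent F ![p', r']) (h' : SingPair p' r')
    (hdet : Bf n F p p' * Bf n F r r' - Bf n F p r' * Bf n F r p' ≠ 0) :
    Cfsg.FAdj (fam n F) (T n F p r) (T n F p' r') :=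
  ⟨mem_fam hind h, mem_fam hind' h', isRankOnePair_of_psl2 (psl2_of_det hind h hind' h' hdet)⟩

theorem fadj_symm {G : Type*} [Group G] {S : Set (Subgroup G)} {A B : Subgroup G}
    (h : Cfsg.FAdj S A B) : Cfsg.FAdj S B A :=
  ⟨h.2.1, h.1, Cfsg.RankOnePair_symm h.2.2⟩

theorem conn_of_common_first (hn : 3 ≤ n) {p r r₂ : Fin n ⊕ Fin n → F}
    (hind : LinearIndependent F ![p, r]) (h : SingPair p r)
    (hind₂ : LinearIndependent F ![p, r₂]) (h₂ : SingPair p r₂) :
    Relation.ReflTransGen (Cfsg.FAdj (fam n F)) (T n F p r) (T n F p r₂) := by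
  obtain ⟨x, y, hxy, hs, d1, d2⟩ := exists_common_opp hn hind h hind₂ h₂
  have e1 := fadj_of_det hind h hxy hs d1
  have e2 := fadj_of_det hind₂ h₂ hxy hs d2
  exact (Relation.ReflTransGen.single e1).trans (Relation.ReflTransGen.single (fadj_symm e2))

theorem exists_basis_with {p r : Fin n ⊕ Fin n → F} (hind : LinearIndependent F ![p, r])
    (h : SingPair p r) {a b : F} (hq : a • p + b • r ≠ 0) :
    ∃ q', LinearIndependent F ![a • p + b • r, q'] ∧ SingPair (a • p + b • r) q' ∧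
      T n F (a • p + b • r) q' = T n F p r := by
  by_cases ha : a = 0
  · have hb : b ≠ 0 := by
      rintro rfl
      apply hq
      rw [ha]
      simp
    obtain ⟨i, s, t⟩ := basis_change hind h (a := a) (b := b) (c := 1) (d := 0)
      (by rw [ha]; simpa using hb)
    exact ⟨_, i, s, t⟩
  · obtain ⟨i, s, t⟩ := basis_change hind h (a := a) (b := b) (c := 0) (d := 1)
      (by simpa using ha)
    exact ⟨_, i, s, t⟩

/-- Two singular lines with a common point are joined. -/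
theorem conn_of_common (hn : 3 ≤ n) {p r p' r' : Fin n ⊕ Fin n → F}
    (hind : LinearIndependent F ![p, r]) (h : SingPair p r)
    (hind' : LinearIndependent F ![p', r']) (h' : SingPair p' r') {a b a' b' : F}
    (hq : a • p + b • r ≠ 0) (heq : a • p + b • r = a' • p' + b' • r') :
    Relation.ReflTransGen (Cfsg.FAdj (fam n F)) (T n F p r) (T n F p' r') := by
  have hq' : a' • p' + b' • r' ≠ 0 := by
    rw [← heq]
    exact hq
  obtain ⟨q₁, i₁, s₁, t₁⟩ := exists_basis_with hind h hq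
  obtain ⟨q₂, i₂, s₂, t₂⟩ := exists_basis_with hind' h' hq'
  rw [← heq] at i₂ s₂ t₂
  rw [← t₁, ← t₂]
  exact conn_of_common_first hn i₁ s₁ i₂ s₂

theorem connected_fam (hn : 3 ≤ n) :
    Cfsg.IsConnectedFamily (Cfsg.FAdj (fam n F)) (fam n F) := by
  rintro A ⟨p₁, r₁, hind₁, hp₁, hr₁, hpr₁, rfl⟩ B ⟨p₂, r₂, hind₂, hp₂, hr₂, hpr₂, rfl⟩
  have h₁ := singPair_of hp₁ hr₁ hpr₁
  have h₂ := singPair_of hp₂ hr₂ hpr₂
  have hp₂0 : p₂ ≠ 0 := by
    have := hind₂.ne_zero 0
    simpa using this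
  -- a point of the first line perpendicular to `p₂`
  obtain ⟨a, b, hq0, hqp⟩ :
      ∃ a b : F, a • p₁ + b • r₁ ≠ 0 ∧ Bf n F (a • p₁ + b • r₁) p₂ = 0 := by
    by_cases h0 : Bf n F p₁ p₂ = 0
    · refine ⟨1, 0, ?_, ?_⟩
      · rw [one_smul, zero_smul, add_zero]
        have := hind₁.ne_zero 0
        simpa using this
      · rw [one_smul, zero_smul, add_zero]
        exact h0
    · refine ⟨Bf n F r₁ p₂, -Bf n F p₁ p₂, ?_, ?_⟩
      · intro hzero
        have := (LinearIndependent.pair_iff.mp hind₁) _ _ hzero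
        exact h0 (neg_eq_zero.mp this.2)
      · rw [Bf_add_left, Bf_smul_left, Bf_smul_left]
        ring
  obtain ⟨q, hq⟩ : ∃ q, q = a • p₁ + b • r₁ := ⟨_, rfl⟩
  have hq0' : q ≠ 0 := by
    rw [hq]
    exact hq0
  by_cases hdep : LinearIndependent F ![q, p₂]
  · have h₃ : SingPair q p₂ :=
      ⟨by rw [hq]; exact h₁.Q_comb a b, hp₂, by rw [hq]; exact hqp⟩
    have c1 : Relation.ReflTransGen (Cfsg.FAdj (fam n F)) (T n F p₁ r₁) (T n F q p₂) := by
      apply conn_of_common hn hind₁ h₁ hdep h₃ (a := a) (b := b) (a' := 1) (b' := 0) hq0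
      rw [one_smul, zero_smul, add_zero, hq]
    have c2 : Relation.ReflTransGen (Cfsg.FAdj (fam n F)) (T n F q p₂) (T n F p₂ r₂) := by
      apply conn_of_common hn hdep h₃ hind₂ h₂ (a := 0) (b := 1) (a' := 1) (b' := 0)
      · rw [zero_smul, one_smul, zero_add]
        exact hp₂0
      · simp
    exact c1.trans c2
  · rw [LinearIndependent.pair_iff] at hdep
    push Not at hdep
    obtain ⟨s, t, hst, hne⟩ := hdep
    have ht : t ≠ 0 := by
      intro ht
      subst ht
      rw [zero_smul, add_zero] at hst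
      rcases smul_eq_zero.mp hst with h0 | h0
      · exact hne h0 rfl
      · exact hq0' h0
    have e : p₂ = (-(s / t)) • q := by
      have e1 : t • p₂ = -(s • q) := eq_neg_of_add_eq_zero_right hst
      have e2 : p₂ = t⁻¹ • (t • p₂) := by rw [smul_smul, inv_mul_cancel₀ ht, one_smul]
      rw [e2, e1, smul_neg, smul_smul, neg_smul]
      congr 2
      field_simp
    have e3 : (-(s / t) * a) • p₁ + (-(s / t) * b) • r₁ = p₂ := by
      rw [e, hq]
      module
    apply conn_of_common hn hind₁ h₁ hind₂ h₂ (a := -(s / t) * a) (b := -(s / t) * b)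
      (a' := 1) (b' := 0)
    · rw [e3]
      exact hp₂0
    · rw [e3]
      simp

end Cfsg.Agent.Lib.Helper13_SiegelConn
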