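import Cfsg.Agent.Lib.Helper13_SimsPk

/-!
# Sims / Wong: primitive groups with a suborbit of length 3 — final assembly from the packages.
-/

set_option autoImplicit false

namespace Cfsg.Agent.Lib.Helper13_SimsMain

open MulAction Cfsg.Agent.Lib.Helper13_SimsDefs Cfsg.Agent.Lib.Helper13_SimsPk

section
variable {G Ω : Type*} [Group G] [MulAction G Ω] {a b : Ω}

theorem card_cj (g : G) (Y : Subgroup G) : Nat.card (cj g Y) = Nat.card Y := by
  unfold cj
  exact (Nat.card_congr (Y.equivMapOfInjective _ (MulAut.conj g).injective).toEquiv).symm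

theorem card_stab_six (H : Hyp G a b) (hS : ¬ A3case G a b) :
    Nat.card (stabilizer G a) = 6 * Nat.card (Kst G a b a) := by
  have h1 := card_stab H (Or.inl (arc_ab (G := G) (a := a) (b := b)) : Adj G a b a b)
  have h2 := K_index H hS (Or.inl (arc_ab (G := G) (a := a) (b := b)) : Adj G a b a b)
  omega

theorem card_Zpr_const (H : Hyp G a b) (x : Ω) :
    Nat.card (Zpr G a b x) = Nat.card (Zpr G a b a) := by
  obtain ⟨g, rfl⟩ := trans H a x
  rw [Zpr_smul, card_cj]

/-- the critical distance is `1` in the constrained case. -/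
theorem crit_one (H : Hyp G a b) (F : FF G a b) : IsCrit G a b 1 := by
  have := H.fin
  obtain ⟨bb, h1, hb⟩ := exists_crit H F
  have hle : bb ≤ 1 := by
    have hZ2 := F.cardZ a
    have hZ1 : 1 ≤ Nat.card (Zpr G a b a) := Nat.card_pos
    by_cases hZ : Nat.card (Zpr G a b a) = 1
    · exact z2 H F (fun x => by rw [card_Zpr_const H x, hZ]) hb
    · have hZ' : ∀ x, Nat.card (Zpr G a b x) = 2 := fun x => by
        rw [card_Zpr_const H x]; omega
      by_cases hs : Arc G a b b a
      · by_cases he : Rst G a b a b = Zpr G a b b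
        · exact z4b1 H F hZ' hs he hb
        · exact z4b2 H F hZ' hs he hb
      · exact z4a H F hZ' hs hb
  have : bb = 1 := le_antisymm hle h1
  subst this
  exact hb

/-- **Sims, Wong** (orders). -/
theorem main_order (H : Hyp G a b) :
    ∃ k : ℕ, k ≤ 4 ∧ Nat.card (stabilizer G a) = 2 ^ k * 3 := by
  have := H.fin
  by_cases hA : A3case G a b
  · exact ⟨0, by norm_num, by rw [a3_case H hA]; norm_num⟩
  · have h6 := card_stab_six H hA
    by_cases hc : Constrained G a b
    · have F := ff H hA hc
      rcases card_K H F (crit_one H F) with hK | hK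
      · exact ⟨3, by norm_num, by rw [h6, hK]; norm_num⟩
      · exact ⟨4, by norm_num, by rw [h6, hK]; norm_num⟩
    · have h2 := nc_card H hA hc
      have h1 : 1 ≤ Nat.card (Kst G a b a) := Nat.card_pos
      have : Nat.card (Kst G a b a) = 1 ∨ Nat.card (Kst G a b a) = 2 := by omega
      rcases this with hK | hK
      · exact ⟨1, by norm_num, by rw [h6, hK]; norm_num⟩
      · exact ⟨2, by norm_num, by rw [h6, hK]; norm_num⟩

/-- a group of order 3 is cyclic of order 3. -/
theorem iso_C3 {X : Type*} [Group X] (h : Nat.card X = 3) :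
    Nonempty (X ≃* Multiplicative (ZMod 3)) := by
  have : Fact (Nat.Prime 3) := ⟨by norm_num⟩
  have : IsCyclic X := isCyclic_of_prime_card h
  have e := zmodCyclicMulEquiv (G := X) inferInstance
  rw [h] at e
  exact ⟨e.symm⟩

/-- **Sims, Wong** (structure). -/
theorem main_iso (H : Hyp G a b) :
    Nonempty (stabilizer G a ≃* Multiplicative (ZMod 3)) ∨
    Nonempty (stabilizer G a ≃* Equiv.Perm (Fin 3)) ∨
    Nonempty (stabilizer G a ≃* DihedralGroup 6) ∨
    Nonempty (stabilizer G a ≃* Equiv.Perm (Fin 4)) ∨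
    Nonempty (stabilizer G a ≃* Equiv.Perm (Fin 4) × Multiplicative (ZMod 2)) := by
  have := H.fin
  by_cases hA : A3case G a b
  · exact Or.inl (iso_C3 (a3_case H hA))
  · by_cases hc : Constrained G a b
    · have F := ff H hA hc
      have hb1 := crit_one H F
      rcases card_K H F hb1 with hK | hK
      · exact Or.inr (Or.inr (Or.inr (Or.inl (iso_S4 H F hb1 hK))))
      · exact Or.inr (Or.inr (Or.inr (Or.inr (iso_S4C2 H F hb1 hK))))
    · have h2 := nc_card H hA hc
      have h1 : 1 ≤ Nat.card (Kst G a b a) := Nat.card_pos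
      have : Nat.card (Kst G a b a) = 1 ∨ Nat.card (Kst G a b a) = 2 := by omega
      rcases this with hK | hK
      · exact Or.inr (Or.inl (iso_S3 H hA hK))
      · exact Or.inr (Or.inr (Or.inl (iso_D12 H hA hc hK)))

end

end Cfsg.Agent.Lib.Helper13_SimsMain
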