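import Cfsg.Agent.Lib.Helper91_Sims_BASE
import Cfsg.Agent.Lib.Helper91_Sims_ARC
import Cfsg.Agent.Lib.Helper12_Sims_BEQUIV
import Cfsg.Agent.Lib.Helper99_Sims_CCONS

/-!
# Sims package C-Z4B1 (paper 4.6(b), ε = 1): the `D₁₆` argument.
-/

set_option autoImplicit false

namespace Cfsg.Agent.Lib.Helper13_Sims_CZ4B1

open MulAction Cfsg.Agent.Lib.Helper13_SimsDefs
open Cfsg.Agent.Lib.Helper91_Sims_ARC (arc_ab arc_trans adj_symm adj_smul adj_ne card_out self_paired)
open Cfsg.Agent.Lib.Helper12_Sims_BEQUIV (Vst_smul Kst_smul Rst_smul Zpr_smul Vst_sq Rst_le_Nst Nst_le_Vst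
  Kst_le_Tst mem_Kst_iff)
open Cfsg.Agent.Lib.Helper99_Sims_CCONS (Zpr_inf_Nst)

/-! ### counting helpers -/

theorem four_le_card {S : Type*} [Finite S] (p q r s : S) (h1 : p ≠ q) (h2 : p ≠ r) (h3 : p ≠ s)
    (h4 : q ≠ r) (h5 : q ≠ s) (h6 : r ≠ s) : 4 ≤ Nat.card S := by
  have hinj : Function.Injective (![p, q, r, s] : Fin 4 → S) := by
    intro i j hij
    fin_cases i <;> fin_cases j <;> simp_all
  simpa using Nat.card_le_card_of_injective _ hinj

theorem five_le_card {S : Type*} [Finite S] (p q r s t : S) (h1 : p ≠ q) (h2 : p ≠ r) (h3 : p ≠ s)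
    (h4 : q ≠ r) (h5 : q ≠ s) (h6 : r ≠ s) (h7 : p ≠ t) (h8 : q ≠ t) (h9 : r ≠ t) (h10 : s ≠ t) :
    5 ≤ Nat.card S := by
  have hinj : Function.Injective (![p, q, r, s, t] : Fin 5 → S) := by
    intro i j hij
    fin_cases i <;> fin_cases j <;> simp_all
  simpa using Nat.card_le_card_of_injective _ hinj

theorem mem_zpowers_invol {G : Type*} [Group G] {r x : G} (hr : r * r = 1)
    (hx : x ∈ Subgroup.zpowers r) : x = 1 ∨ x = r := by
  obtain ⟨k, rfl⟩ := Subgroup.mem_zpowers_iff.1 hx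
  have hr2 : r ^ (2 : ℤ) = 1 := by
    rw [zpow_ofNat, pow_two, hr]
  rcases Int.even_or_odd' k with ⟨m, hm | hm⟩
  · left
    rw [hm, zpow_mul, hr2, one_zpow]
  · right
    rw [hm, zpow_add, zpow_mul, hr2, one_zpow, one_mul, zpow_one]

theorem cj_le_cj {G : Type*} [Group G] (g : G) {A B : Subgroup G} (h : cj g A ≤ cj g B) : A ≤ B := by
  intro x hx
  have hx' : g * x * g⁻¹ ∈ cj g A := by
    unfold cj
    exact Subgroup.mem_map.2 ⟨x, hx, rfl⟩
  have := h hx'
  unfold cj at this
  obtain ⟨y, hy, hyx⟩ := Subgroup.mem_map.1 this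
  have : y = x := by
    have h' : g * y * g⁻¹ = g * x * g⁻¹ := hyx
    have := mul_right_cancel h'
    exact mul_left_cancel this
  rw [← this]
  exact hy


section
variable {G Ω : Type*} [Group G] [MulAction G Ω] {a b : Ω}

/-- the statement of package C-SYMM (paper 4.2), taken as a hypothesis until it lands. -/
def SymmCrit (G : Type*) {Ω : Type*} [Group G] [MulAction G Ω] (a b : Ω) : Prop :=
  ∀ {bb : ℕ}, IsCrit G a b bb → 1 ≤ bb → ∀ (w : ℕ → Ω), IsBad G a b w bb →
    IsBad G a b (fun i => w (bb - i)) bb ∧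
    Rst G a b (w 0) (w 1) = Rst G a b (w bb) (w (bb - 1)) ∧
    Vst G a b (w 0) ⊓ Kst G a b (w bb) = Zst G a b (w 0) (w 1) ∧
    Vst G a b (w 0) ≤ Tst G (w bb) (w (bb - 1)) ∧
    w 0 ≠ w bb ∧ (2 ≤ bb → w 0 ≠ w (bb - 1))

/-- the working context: self-paired, `|Z'_x| = 2`, type `ε = 1`, critical distance `2`. -/
structure Ctx (G : Type*) {Ω : Type*} [Group G] [MulAction G Ω] (a b : Ω) (c : Ω → G) : Prop where
  H : Hyp G a b
  F : FF G a b
  hs : Arc G a b b a
  c_ne : ∀ x, c x ≠ 1
  c_zpr : ∀ x, Zpr G a b x = Subgroup.zpowers (c x)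
  c_smul : ∀ (g : G) x, c (g • x) = g * c x * g⁻¹
  c_inj : Function.Injective c
  c_zst : ∀ x y, Adj G a b x y → (Zst G a b x y : Set G) = {1, c x, c y, c x * c y}
  c_rst : ∀ x y, Adj G a b x y → Rst G a b x y = Subgroup.zpowers (c y)
  crit2 : IsCrit G a b 2
  symm : SymmCrit G a b

variable {c : Ω → G}

theorem c_mem_Zpr (X : Ctx G a b c) (x : Ω) : c x ∈ Zpr G a b x := by
  rw [X.c_zpr x]; exact Subgroup.mem_zpowers _

theorem c_mem_Vst_self (X : Ctx G a b c) (x : Ω) : c x ∈ Vst G a b x := by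
  have h := c_mem_Zpr X x
  unfold Zpr CentIn at h
  exact h.1

theorem c_sq (X : Ctx G a b c) (x : Ω) : c x * c x = 1 := by
  have := Vst_sq (a := a) (b := b) x (c x) (c_mem_Vst_self X x)
  rwa [pow_two] at this

theorem c_inv (X : Ctx G a b c) (x : Ω) : (c x)⁻¹ = c x :=
  inv_eq_of_mul_eq_one_left (c_sq X x)

theorem c_mem_Nst (X : Ctx G a b c) {x y : Ω} (h : Adj G a b x y) : c y ∈ Nst G a b x := by
  apply Rst_le_Nst (a := a) (b := b) x y
  rw [X.c_rst x y h]; exact Subgroup.mem_zpowers _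

theorem c_mem_Vst (X : Ctx G a b c) {x y : Ω} (h : Adj G a b x y) : c y ∈ Vst G a b x :=
  Nst_le_Vst (a := a) (b := b) x (c_mem_Nst X h)

theorem adj_arc (X : Ctx G a b c) {x y : Ω} (h : Adj G a b x y) : Arc G a b x y := by
  rcases h with h | h
  · exact h
  · exact self_paired X.hs h

/-- every vertex has exactly three neighbours. -/
theorem nbr_cases (X : Ctx G a b c) {u m w w' : Ω} (hm : Adj G a b u m) (hw : Adj G a b u w)
    (hw' : Adj G a b u w') (h1 : m ≠ w) (h2 : m ≠ w') (h3 : w ≠ w') (z : Ω) (hz : Adj G a b u z) :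
    z = m ∨ z = w ∨ z = w' := by
  by_contra hcon
  simp only [not_or] at hcon
  obtain ⟨hzm, hzw, hzw'⟩ := hcon
  have hcard := card_out X.H u
  have : Finite {y : Ω // Arc G a b u y} := Nat.finite_of_card_ne_zero (by rw [hcard]; norm_num)
  have h4 := four_le_card (S := {y : Ω // Arc G a b u y}) ⟨m, adj_arc X hm⟩ ⟨w, adj_arc X hw⟩
    ⟨w', adj_arc X hw'⟩ ⟨z, adj_arc X hz⟩
    (by simpa using h1) (by simpa using h2) (by simpa using (Ne.symm hzm))
    (by simpa using h3) (by simpa using (Ne.symm hzw)) (by simpa using (Ne.symm hzw'))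
  omega

theorem exists_other (X : Ctx G a b c) {p q : Ω} (h : Adj G a b p q) :
    ∃ r, Adj G a b q r ∧ r ≠ p := by
  have hcard := card_out X.H q
  have hfin : Finite {y : Ω // Arc G a b q y} :=
    Nat.finite_of_card_ne_zero (by rw [hcard]; norm_num)
  have hnt : Nontrivial {y : Ω // Arc G a b q y} := by
    rw [← Finite.one_lt_card_iff_nontrivial, hcard]; norm_num
  obtain ⟨r, hr⟩ := exists_ne (⟨p, adj_arc X (adj_symm h)⟩ : {y : Ω // Arc G a b q y})
  refine ⟨r.1, Or.inl r.2, ?_⟩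
  intro h'
  apply hr
  exact Subtype.ext h'

/-- an element of `G_{u'}` fixing two distinct neighbours of `u'` lies in `K_{u'}`. -/
theorem mem_Kst_of_fix (X : Ctx G a b c) {u' m w : Ω} (hm : Adj G a b u' m) (hw : Adj G a b u' w)
    (hne : m ≠ w) (g : G) (hu : g • u' = u') (hgm : g • m = m) (hgw : g • w = w) :
    g ∈ Kst G a b u' := by
  rw [mem_Kst_iff]
  refine ⟨hu, fun y hy => ?_⟩
  by_cases hym : y = m
  · rw [hym]; exact hgm
  by_cases hyw : y = w
  · rw [hyw]; exact hgw
  have hadj : Adj G a b u' (g • y) := by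
    have := adj_smul (a := a) (b := b) g hy
    rwa [hu] at this
  rcases nbr_cases X hm hw hy hne (Ne.symm hym) (Ne.symm hyw) (g • y) hadj with h | h | h
  · exfalso
    apply hym
    have : g • y = g • m := by rw [h, hgm]
    exact smul_left_cancel g this
  · exfalso
    apply hyw
    have : g • y = g • w := by rw [h, hgw]
    exact smul_left_cancel g this
  · exact h

theorem no_bad_one (X : Ctx G a b c) {y v : Ω} (h : Adj G a b y v) :
    Vst G a b y ≤ Kst G a b v := by
  by_contra hcon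
  apply X.crit2.2 1 (by norm_num) (fun i => if i = 0 then y else v)
  refine ⟨?_, ?_⟩
  · intro i hi
    have : i = 0 := by omega
    subst this
    simpa using h
  · simpa using hcon

theorem bad_smul (g : G) {x z : Ω} (h : ¬ Vst G a b x ≤ Kst G a b z) :
    ¬ Vst G a b (g • x) ≤ Kst G a b (g • z) := by
  intro h'
  apply h
  rw [Vst_smul, Kst_smul] at h'
  exact cj_le_cj g h'


theorem exists_T_not_K (X : Ctx G a b c) {v y : Ω} (h : Adj G a b v y) :
    ∃ t ∈ Tst G v y, t ∉ Kst G a b v := by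
  have := X.H.fin
  by_contra hcon
  have hle : Tst G v y ≤ Kst G a b v := by
    intro t ht
    by_contra htK
    exact hcon ⟨t, ht, htK⟩
  have heq : Tst G v y = Kst G a b v := le_antisymm hle (Kst_le_Tst h)
  have h2 := X.F.idx2 v y h
  rw [heq] at h2
  have hpos : 0 < Nat.card (Kst G a b v) := Nat.card_pos
  omega

/-- `G` is transitive on 2-arcs, so every 2-arc is critical. -/
theorem two_arc_bad (X : Ctx G a b c) {y v y' : Ω} (h1 : Adj G a b y v) (h2 : Adj G a b v y')
    (hne : y ≠ y') : ¬ Vst G a b y ≤ Kst G a b y' := by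
  obtain ⟨w, hw⟩ := X.crit2.1
  have hsym := X.symm X.crit2 (by norm_num) w hw
  have hw02 : w 0 ≠ w 2 := hsym.2.2.2.2.1
  have ha01 : Adj G a b (w 0) (w 1) := hw.1 0 (by norm_num)
  have ha12 : Adj G a b (w 1) (w 2) := hw.1 1 (by norm_num)
  have hbad : ¬ Vst G a b (w 0) ≤ Kst G a b (w 2) := hw.2
  obtain ⟨g, hg1, hg0⟩ := arc_trans (adj_arc X (adj_symm ha01)) (adj_arc X (adj_symm h1))
  -- `g • w 1 = v`, `g • w 0 = y`
  have hadj'' : Adj G a b v (g • w 2) := by
    have := adj_smul (a := a) (b := b) g ha12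
    rwa [hg1] at this
  have hne'' : g • w 2 ≠ y := by
    intro h
    apply hw02
    rw [← hg0] at h
    exact (smul_left_cancel g h).symm
  by_cases hy : g • w 2 = y'
  · have := bad_smul (a := a) (b := b) g hbad
    rwa [hg0, hy] at this
  · obtain ⟨t, ht, htK⟩ := exists_T_not_K X (adj_symm h1)
    have htv : t • v = v := ht.1
    have hty : t • y = y := ht.2
    have hadj3 : Adj G a b v (t • g • w 2) := by
      have := adj_smul (a := a) (b := b) t hadj''
      rwa [htv] at this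
    have hne3 : t • g • w 2 ≠ g • w 2 := by
      intro h
      exact htK (mem_Kst_of_fix X (adj_symm h1) hadj'' (Ne.symm hne'') t htv hty h)
    have hne4 : t • g • w 2 ≠ y := by
      intro h
      apply hne''
      have : t • g • w 2 = t • y := by rw [h, hty]
      exact smul_left_cancel t this
    have h5 : t • g • w 2 = y' := by
      rcases nbr_cases X (adj_symm h1) hadj'' h2 (Ne.symm hne'') hne hy (t • g • w 2) hadj3
        with h | h | h
      · exact absurd h hne4
      · exact absurd h hne3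
      · exact h
    have := bad_smul (a := a) (b := b) t (bad_smul (a := a) (b := b) g hbad)
    rwa [hg0, hty, h5] at this

/-- the consequences of 4.2 for an arbitrary 2-arc. -/
theorem symm2 (X : Ctx G a b c) {y v y' : Ω} (h1 : Adj G a b y v) (h2 : Adj G a b v y')
    (hne : y ≠ y') :
    Vst G a b y ⊓ Kst G a b y' = Zst G a b y v ∧ Vst G a b y ≤ Tst G y' v := by
  have hbad : IsBad G a b (fun i => if i = 0 then y else if i = 1 then v else y') 2 := by
    refine ⟨?_, ?_⟩
    · intro i hi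
      have : i = 0 ∨ i = 1 := by omega
      rcases this with rfl | rfl
      · simpa using h1
      · simpa using h2
    · simpa using two_arc_bad X h1 h2 hne
  have hsym := X.symm X.crit2 (by norm_num) _ hbad
  refine ⟨?_, ?_⟩
  · simpa using hsym.2.2.1
  · simpa using hsym.2.2.2.1

/-- the swap lemma. -/
theorem swap (X : Ctx G a b c) {u m u' w : Ω} (h1 : Adj G a b u m) (h2 : Adj G a b m u')
    (hne : u ≠ u') (g : G) (hg : g ∈ Vst G a b u) (hgZ : g ∉ Zst G a b u m)
    (hw : Adj G a b u' w) (hwm : w ≠ m) :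
    g • u' = u' ∧ g • m = m ∧ g • w ≠ w ∧ Adj G a b u' (g • w) ∧ g • w ≠ m := by
  obtain ⟨hinf, hle⟩ := symm2 X h1 h2 hne
  have hgT : g ∈ Tst G u' m := hle hg
  have hgu : g • u' = u' := hgT.1
  have hgm : g • m = m := hgT.2
  have hgK : g ∉ Kst G a b u' := by
    intro hK
    apply hgZ
    rw [← hinf]
    exact ⟨hg, hK⟩
  refine ⟨hgu, hgm, ?_, ?_, ?_⟩
  · intro h
    exact hgK (mem_Kst_of_fix X (adj_symm h2) hw (Ne.symm hwm) g hgu hgm h)
  · have := adj_smul (a := a) (b := b) g hw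
    rwa [hgu] at this
  · intro h
    apply hwm
    have : g • w = g • m := by rw [h, hgm]
    exact smul_left_cancel g this


theorem c_ne_of_ne (X : Ctx G a b c) {x y : Ω} (h : x ≠ y) : c x ≠ c y :=
  fun h' => h (X.c_inj h')

/-- `c_v ∉ Z_{um} = {1, c_u, c_m, c_u c_m}` for `v ~ u`, `v ≠ m`. -/
theorem c_not_mem_Zst (X : Ctx G a b c) {u v m : Ω} (hv : Adj G a b u v) (hm : Adj G a b u m)
    (hne : v ≠ m) : c v ∉ Zst G a b u m := by
  intro h
  have h' : c v ∈ (Zst G a b u m : Set G) := h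
  rw [X.c_zst u m hm] at h'
  simp only [Set.mem_insert_iff, Set.mem_singleton_iff] at h'
  rcases h' with h' | h' | h' | h'
  · exact X.c_ne v h'
  · exact c_ne_of_ne X (adj_ne X.H hv).symm h'
  · exact c_ne_of_ne X hne h'
  · -- `c u = c v * c m ∈ N_u ∩ Z'_u = 1`
    have hcu : c u = c v * c m := by
      rw [h', mul_assoc, c_sq X m, mul_one]
    have hN : c u ∈ Nst G a b u := by
      rw [hcu]
      exact (Nst G a b u).mul_mem (c_mem_Nst X hv) (c_mem_Nst X hm)
    have hbot : c u ∈ Zpr G a b u ⊓ Nst G a b u := ⟨c_mem_Zpr X u, hN⟩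
    rw [Zpr_inf_Nst X.H X.F u] at hbot
    exact X.c_ne u (Subgroup.mem_bot.1 hbot)

/-- `N_u = {1, c_m, c_w, c_w'}` for the three neighbours of `u`. -/
theorem prod_nbrs (X : Ctx G a b c) {u m w w' : Ω} (hm : Adj G a b u m) (hw : Adj G a b u w)
    (hw' : Adj G a b u w') (h1 : m ≠ w) (h2 : m ≠ w') (h3 : w ≠ w') : c w' * c w = c m := by
  have := X.H.fin
  by_contra hcon
  have hcard := X.F.cardN u
  have hp : c w' * c w ∈ Nst G a b u := (Nst G a b u).mul_mem (c_mem_Nst X hw') (c_mem_Nst X hw)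
  have hp1 : c w' * c w ≠ 1 := by
    intro h
    have : c w' = c w := by
      have := eq_inv_of_mul_eq_one_left h
      rwa [c_inv X w] at this
    exact c_ne_of_ne X h3.symm this
  have hpw : c w' * c w ≠ c w := by
    intro h
    exact X.c_ne w' (by simpa using h)
  have hpw' : c w' * c w ≠ c w' := by
    intro h
    exact X.c_ne w (by simpa using h)
  have h5 := five_le_card (S := Nst G a b u) ⟨1, (Nst G a b u).one_mem⟩ ⟨c m, c_mem_Nst X hm⟩
    ⟨c w, c_mem_Nst X hw⟩ ⟨c w', c_mem_Nst X hw'⟩ ⟨c w' * c w, hp⟩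
    (by simpa using (X.c_ne m).symm) (by simpa using (X.c_ne w).symm)
    (by simpa using (X.c_ne w').symm)
    (by simpa using c_ne_of_ne X h1) (by simpa using c_ne_of_ne X h2)
    (by simpa using c_ne_of_ne X h3)
    (by simpa using hp1.symm) (by simpa using (Ne.symm hcon)) (by simpa using hpw.symm)
    (by simpa using hpw'.symm)
  omega

/-- the relation (R): for a non-backtracking walk `(v,u,m,u',w)`: `(c_v c_w)^2 = c_m`. -/
theorem R_rel (X : Ctx G a b c) {v u m u' w : Ω} (h1 : Adj G a b v u) (h2 : Adj G a b u m)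
    (h3 : Adj G a b m u') (h4 : Adj G a b u' w) (hvm : v ≠ m) (huu : u ≠ u') (hmw : m ≠ w) :
    (c v * c w) * (c v * c w) = c m := by
  have hcv : c v ∈ Vst G a b u := c_mem_Vst X (adj_symm h1)
  have hcvZ : c v ∉ Zst G a b u m := c_not_mem_Zst X (adj_symm h1) h2 hvm
  obtain ⟨-, -, hsw, hadj, hswm⟩ := swap X h2 h3 huu (c v) hcv hcvZ h4 (Ne.symm hmw)
  -- `w' := c v • w` is the third neighbour of `u'`
  have hprod := prod_nbrs X (adj_symm h3) h4 hadj hmw (Ne.symm hswm) (Ne.symm hsw)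
  -- `c (c v • w) * c w = c m`
  rw [X.c_smul, c_inv X v] at hprod
  calc (c v * c w) * (c v * c w) = c v * c w * c v * c w := by group
    _ = c m := hprod


theorem dihedral_inv {G : Type*} [Group G] (x z : G) (hxx : x * x = 1) (hzz : z * z = 1) :
    (z * (x * z * x)) * (z * (x * z * x)) = ((x * (z * x * z)) * (x * (z * x * z)))⁻¹ := by
  have hinv : (z * (x * z * x)) * (x * (z * x * z)) = 1 := by
    calc (z * (x * z * x)) * (x * (z * x * z)) = z * x * z * (x * x) * z * x * z := by group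
      _ = z * x * (z * z) * x * z := by rw [hxx]; group
      _ = z * (x * x) * z := by rw [hzz]; group
      _ = z * z := by rw [hxx]; group
      _ = 1 := hzz
  have h2 : z * (x * z * x) = (x * (z * x * z))⁻¹ := eq_inv_of_mul_eq_one_left hinv
  rw [h2]
  group

/-- the `D₁₆` contradiction. -/
theorem ctx_false (X : Ctx G a b c) : False := by
  -- a non-backtracking walk `(a0, u1, y1, v, y2, u2)` with `a0 = a`, `u1 = b`
  have hab : Adj G a b a b := Or.inl arc_ab
  obtain ⟨y1, hy1, hy1a⟩ := exists_other X hab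
  obtain ⟨v, hv, hvu⟩ := exists_other X hy1
  obtain ⟨y2, hy2, hy2y⟩ := exists_other X hv
  obtain ⟨u2, hu2, hu2v⟩ := exists_other X hy2
  -- Part 1: `z = c u2` on the neighbours of `y1`
  have hzV : c u2 ∈ Vst G a b y2 := c_mem_Vst X hu2
  have hzZ : c u2 ∉ Zst G a b y2 v := c_not_mem_Zst X hu2 (adj_symm hy2) hu2v
  obtain ⟨hz1, -, hz3, hz4, -⟩ :=
    swap X (adj_symm hy2) (adj_symm hv) hy2y (c u2) hzV hzZ (adj_symm hy1) (Ne.symm hvu)
  have hR1 := R_rel X (v := a) (u := b) (m := y1) (u' := c u2 • b) (w := c u2 • a) hab hy1 hz4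
    (adj_smul (c u2) (adj_symm hab)) (Ne.symm hy1a) (Ne.symm hz3)
    (by
      intro h
      apply hy1a
      have : c u2 • y1 = c u2 • a := by rw [hz1]; exact h
      exact smul_left_cancel (c u2) this)
  rw [X.c_smul, c_inv X u2] at hR1
  -- Part 2: `x = c a` on the neighbours of `v`
  have hxV : c a ∈ Vst G a b b := c_mem_Vst X (adj_symm hab)
  have hxZ : c a ∉ Zst G a b b y1 := c_not_mem_Zst X (adj_symm hab) hy1 (Ne.symm hy1a)
  obtain ⟨hx1, -, hx3, hx4, -⟩ := swap X hy1 hv (Ne.symm hvu) (c a) hxV hxZ hy2 hy2y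
  have hR2 := R_rel X (v := u2) (u := y2) (m := v) (u' := c a • y2) (w := c a • u2) (adj_symm hu2)
    (adj_symm hy2) hx4 (adj_smul (c a) hu2) hu2v (Ne.symm hx3)
    (by
      intro h
      apply hu2v
      have : c a • v = c a • u2 := by rw [hx1]; exact h
      exact (smul_left_cancel (c a) this).symm)
  rw [X.c_smul, c_inv X a] at hR2
  have hcv : c v = (c y1)⁻¹ := by
    rw [← hR1, ← hR2]
    exact dihedral_inv (c a) (c u2) (c_sq X a) (c_sq X u2)
  rw [c_inv X y1] at hcv
  exact adj_ne X.H hv (X.c_inj hcv).symm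


/-- C-Z4B1 (paper 4.6(b), ε = 1): the `D₁₆` argument; hypothesis form (C-SYMM and C-CX as hypotheses). -/
theorem z4b1_of (H : Hyp G a b) (F : FF G a b) (hsymm : SymmCrit G a b)
    (hcx : ∃ c : Ω → G, (∀ x, c x ≠ 1 ∧ Zpr G a b x = Subgroup.zpowers (c x)) ∧
      (∀ (g : G) x, c (g • x) = g * c x * g⁻¹) ∧ Function.Injective c ∧
      (∀ x y, Adj G a b x y → c x * c y = c y * c x ∧
        (Zst G a b x y : Set G) = {1, c x, c y, c x * c y}) ∧
      (∀ x y, Adj G a b x y → Rst G a b x y = Subgroup.zpowers (c y) ∨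
        Rst G a b x y = Subgroup.zpowers (c x * c y)))
    (hs : Arc G a b b a) (he : Rst G a b a b = Zpr G a b b) {bb : ℕ} (hb : IsCrit G a b bb) :
    bb ≤ 1 := by
  by_contra hbb
  have h2 : 2 ≤ bb := by omega
  obtain ⟨c, hc1, hc2, hc3, hc4, -⟩ := hcx
  -- all `R_xy = ⟨c y⟩`
  have hR : ∀ x y, Adj G a b x y → Rst G a b x y = Subgroup.zpowers (c y) := by
    intro x y hxy
    have harc : Arc G a b x y := by
      rcases hxy with h | h
      · exact h
      · exact self_paired hs h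
    obtain ⟨g, rfl, rfl⟩ := harc
    rw [Rst_smul, he, ← Zpr_smul, (hc1 _).2]
  have hsq : ∀ x, c x * c x = 1 := by
    intro x
    have hmem : c x ∈ Zpr G a b x := by
      rw [(hc1 x).2]; exact Subgroup.mem_zpowers _
    have hV : c x ∈ Vst G a b x := by
      unfold Zpr CentIn at hmem
      exact hmem.1
    have := Vst_sq (a := a) (b := b) x (c x) hV
    rwa [pow_two] at this
  -- `bb = 2`
  obtain ⟨w, hw⟩ := hb.1
  have hsym := hsymm hb (by omega) w hw
  have h01 : Adj G a b (w 0) (w 1) := hw.1 0 (by omega)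
  have hlast : Adj G a b (w (bb - 1)) (w bb) := by
    have := hw.1 (bb - 1) (by omega)
    rwa [Nat.sub_add_cancel (by omega)] at this
  have hReq := hsym.2.1
  rw [hR _ _ h01, hR _ _ (adj_symm hlast)] at hReq
  have hmem : c (w 1) ∈ Subgroup.zpowers (c (w (bb - 1))) := by
    rw [← hReq]; exact Subgroup.mem_zpowers _
  have h1eq : w 1 = w (bb - 1) := by
    rcases mem_zpowers_invol (hsq _) hmem with h | h
    · exact absurd h (hc1 _).1
    · exact hc3 h
  have hbb2 : bb = 2 := by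
    by_contra hne
    have h3 : 2 < bb := by omega
    apply hb.2 2 h3 (fun i => if i = 0 then w 0 else if i = 1 then w 1 else w bb)
    refine ⟨?_, ?_⟩
    · intro i hi
      have : i = 0 ∨ i = 1 := by omega
      rcases this with rfl | rfl
      · simpa using h01
      · simp only [one_ne_zero, if_false, if_true]
        rw [h1eq]
        simpa using hlast
    · simpa using hw.2
  subst hbb2
  exact ctx_false ⟨H, F, hs, fun x => (hc1 x).1, fun x => (hc1 x).2, hc2, hc3,
    fun x y h => (hc4 x y h).2, hR, hb, hsymm⟩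

end

end Cfsg.Agent.Lib.Helper13_Sims_CZ4B1
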