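import Cfsg.Agent.Lib.Helper13_SimsDefs
import Cfsg.Agent.Lib.Helper91_Sims_BASE
import Cfsg.Agent.Lib.Helper91_Sims_ARC
import Cfsg.Agent.Lib.Helper12_Sims_BEQUIV
import Cfsg.Agent.Lib.Helper99_Sims_CCONS
import Cfsg.Agent.Lib.Helper99_Sims_CSYMM
import Cfsg.Agent.Lib.Helper41_Sims_CBaux
import Cfsg.Agent.Lib.Helper52_Sims_CA

/-!
# Sims market, package C-Z2 (helper42, for architect helper13)

Paper 4.5: in the case `|Z'_x| = 1` the critical distance is `≤ 1`.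
With `Z'_x = 1`: `V_x` has order 4, `Z_xy = R_xy = R_yx` has order 2.  For a critical walk `x_0 .. x_b`, `b ≥ 2`, and
the shifted critical walk `δ, x_0, .., x_{b-1}` of (C-B): `R₁ := R_{x_0 x_1} = R_{x_{b-1} x_b}` and
`R₂ := R_{x_0 δ} = R_{x_{b-1} x_{b-2}}` lie in `V_{x_0} ∩ V_{x_{b-1}}`; they are different by (G3) and (C-B), so
`V_{x_0} = R₁ R₂ = V_{x_{b-1}}` is normalised by `G_{x_0}` and `G_{x_{b-1}}`, hence trivial: contradiction.
-/

set_option autoImplicit false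

namespace Cfsg.Agent.Lib.Helper42_Sims_CZ2

open MulAction Cfsg.Agent.Lib.Helper13_SimsDefs

section gen
variable {G : Type*} [Group G]

/-- two different subgroups of order 2 of a group of order 4 generate it -/
theorem sup_eq_of_card [Finite G] (V R₁ R₂ : Subgroup G) (h1 : R₁ ≤ V) (h2 : R₂ ≤ V)
    (hV : Nat.card V = 4) (hR1 : Nat.card R₁ = 2) (hR2 : Nat.card R₂ = 2) (hne : R₁ ≠ R₂) :
    R₁ ⊔ R₂ = V := by
  have hle : R₁ ⊔ R₂ ≤ V := sup_le h1 h2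
  apply Subgroup.eq_of_le_of_card_ge hle
  rw [hV]
  obtain ⟨m, hm⟩ := Subgroup.card_dvd_of_le (le_sup_left : R₁ ≤ R₁ ⊔ R₂)
  obtain ⟨m', hm'⟩ := Subgroup.card_dvd_of_le hle
  rw [hV, hm, hR1] at hm'
  have hm1 : m ≠ 1 := by
    intro hm1
    apply hne
    have hcard : Nat.card (R₁ ⊔ R₂ : Subgroup G) = Nat.card R₁ := by rw [hm, hm1, mul_one]
    have h3 : R₁ = R₁ ⊔ R₂ := Subgroup.eq_of_le_of_card_ge le_sup_left (le_of_eq hcard)
    have h4 : R₂ ≤ R₁ := by rw [h3]; exact le_sup_right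
    exact (Subgroup.eq_of_le_of_card_ge h4 (by rw [hR1, hR2])).symm
  have hm0 : m ≠ 0 := by
    rintro rfl
    omega
  rw [hm, hR1]
  have : 2 ≤ m := by omega
  omega

end gen

section PartC
variable {G Ω : Type*} [Group G] [MulAction G Ω] {a b : Ω}

/-- `R_xy = R_yx` when all `Z'_x` are trivial -/
theorem Rst_symm (H : Hyp G a b) (F : FF G a b) (hZ : ∀ x, Nat.card (Zpr G a b x) = 1)
    {x y : Ω} (h : Adj G a b x y) : Rst G a b x y = Rst G a b y x := by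
  have hfin : Finite G := H.fin
  have hbot : ∀ z, Zpr G a b z = ⊥ := fun z => Subgroup.card_eq_one.mp (hZ z)
  have h' : Adj G a b y x := Cfsg.Agent.Lib.Helper91_Sims_ARC.adj_symm h
  have e1 := Cfsg.Agent.Lib.Helper99_Sims_CCONS.Zst_eq H F h
  have e2 := Cfsg.Agent.Lib.Helper99_Sims_CCONS.Zst_eq H F h'
  rw [hbot, bot_sup_eq] at e1 e2
  rw [← e1, ← e2]
  exact F.zsymm x y h

/-- C-Z2 with the conclusion of C-B (`caseB`) as a hypothesis -/
theorem z2_aux (H : Hyp G a b) (F : FF G a b) (hZ : ∀ x, Nat.card (Zpr G a b x) = 1) {bb : ℕ}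
    (hb : IsCrit G a b bb)
    (hB : 2 ≤ bb → ∀ w : ℕ → Ω, IsBad G a b w bb →
      ∃ δ, Adj G a b δ (w 0) ∧ δ ≠ w 1 ∧
        IsBad G a b (fun i => if i = 0 then δ else w (i - 1)) bb ∧
        Tst G (w (bb - 1)) (w (bb - 2)) ≠ Tst G (w (bb - 1)) (w bb)) : bb ≤ 1 := by
  have hfin : Finite G := H.fin
  by_contra hlt
  have h2 : 2 ≤ bb := by omega
  obtain ⟨w, hw⟩ := hb.1
  obtain ⟨δ, hδ, -, hw', hT⟩ := hB h2 w hw
  obtain ⟨-, hR1, -, -, -, hne⟩ := Cfsg.Agent.Lib.Helper99_Sims_CSYMM.symm_crit H F hb (by omega) w hw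
  obtain ⟨-, hR2, -, -, -, -⟩ := Cfsg.Agent.Lib.Helper99_Sims_CSYMM.symm_crit H F hb (by omega) _ hw'
  have hbb0 : bb ≠ 0 := by omega
  have hbb1 : bb - 1 ≠ 0 := by omega
  simp only [if_pos, if_neg hbb0, if_neg hbb1, one_ne_zero, if_false, Nat.sub_self] at hR2
  have hsub : bb - 1 - 1 = bb - 2 := by omega
  rw [hsub] at hR2
  -- adjacencies
  have hA01 : Adj G a b (w 0) (w 1) := hw.1 0 (by omega)
  have hAlast : Adj G a b (w (bb - 1)) (w bb) := by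
    have := hw.1 (bb - 1) (by omega)
    rwa [show bb - 1 + 1 = bb by omega] at this
  have hAprev : Adj G a b (w (bb - 2)) (w (bb - 1)) := by
    have := hw.1 (bb - 2) (by omega)
    rwa [show bb - 2 + 1 = bb - 1 by omega] at this
  have hAprev' : Adj G a b (w (bb - 1)) (w (bb - 2)) :=
    Cfsg.Agent.Lib.Helper91_Sims_ARC.adj_symm hAprev
  have hAδ : Adj G a b (w 0) δ := Cfsg.Agent.Lib.Helper91_Sims_ARC.adj_symm hδ
  -- the two subgroups of order 2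
  have e1 : Rst G a b (w 0) (w 1) = Rst G a b (w (bb - 1)) (w bb) := by
    rw [hR1]
    exact Rst_symm H F hZ (Cfsg.Agent.Lib.Helper91_Sims_ARC.adj_symm hAlast)
  have e2 : Rst G a b (w 0) δ = Rst G a b (w (bb - 1)) (w (bb - 2)) := by
    rw [← hR2]
    exact Rst_symm H F hZ hAδ
  have hneR : Rst G a b (w 0) (w 1) ≠ Rst G a b (w 0) δ := by
    intro h
    apply hT
    apply F.g3 (w (bb - 1)) (w (bb - 2)) (w bb) hAprev' hAlast
    rw [← e2, ← e1, h]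
  have hRV : ∀ x y : Ω, Rst G a b x y ≤ Vst G a b x := fun x y =>
    le_trans (Cfsg.Agent.Lib.Helper12_Sims_BEQUIV.Rst_le_Nst x y)
      (Cfsg.Agent.Lib.Helper12_Sims_BEQUIV.Nst_le_Vst x)
  have hV4 : ∀ x, Nat.card (Vst G a b x) = 4 := by
    intro x
    rw [F.cardV x, hZ x, one_mul]
  have hV0 : Rst G a b (w 0) (w 1) ⊔ Rst G a b (w 0) δ = Vst G a b (w 0) :=
    sup_eq_of_card _ _ _ (hRV _ _) (hRV _ _) (hV4 _) (F.cardR _ _ hA01) (F.cardR _ _ hAδ) hneR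
  have hV1 : Rst G a b (w 0) (w 1) ⊔ Rst G a b (w 0) δ = Vst G a b (w (bb - 1)) := by
    apply sup_eq_of_card _ _ _ _ _ (hV4 _) (F.cardR _ _ hA01) (F.cardR _ _ hAδ) hneR
    · rw [e1]; exact hRV _ _
    · rw [e2]; exact hRV _ _
  have hVV : Vst G a b (w 0) = Vst G a b (w (bb - 1)) := by rw [← hV0, hV1]
  -- `V` is normalised by both stabilisers
  have hVst : ∀ x, Vst G a b x ≤ stabilizer G x := fun x =>
    le_trans (Cfsg.Agent.Lib.Helper12_Sims_BEQUIV.Vst_le_Kst x)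
      (Cfsg.Agent.Lib.Helper12_Sims_BEQUIV.Kst_le_stab x)
  have hbot := Cfsg.Agent.Lib.Helper91_Sims_BASE.normal_both H (hne h2) (Vst G a b (w 0))
    (le_inf (hVst _) (by rw [hVV]; exact hVst _))
    (Cfsg.Agent.Lib.Helper12_Sims_BEQUIV.Vst_normal (w 0))
    (by rw [hVV]; exact Cfsg.Agent.Lib.Helper12_Sims_BEQUIV.Vst_normal (w (bb - 1)))
  have := hV4 (w 0)
  rw [hbot, Subgroup.card_bot] at this
  omega

/-- C-Z2 with the conclusion of C-A (`caseA`) as a hypothesis (through helper41's `caseB_aux`) -/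
theorem z2_of_caseA (H : Hyp G a b) (F : FF G a b) (hZ : ∀ x, Nat.card (Zpr G a b x) = 1) {bb : ℕ}
    (hb : IsCrit G a b bb)
    (hA : 2 ≤ bb → ∀ w : ℕ → Ω, IsBad G a b w bb →
      ∃ δ, Adj G a b δ (w 0) ∧ ¬ Vst G a b δ ≤ stabilizer G (w bb)) : bb ≤ 1 :=
  z2_aux H F hZ hb (fun h2 w hw =>
    Cfsg.Agent.Lib.Helper41_Sims_CBaux.caseB_aux H F hb h2 w hw (hA h2 w hw))

/-- C-Z2 (paper 4.5). -/
theorem z2 (H : Hyp G a b) (F : FF G a b) (hZ : ∀ x, Nat.card (Zpr G a b x) = 1) {bb : ℕ}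
    (hb : IsCrit G a b bb) : bb ≤ 1 :=
  z2_of_caseA H F hZ hb (fun h2 w hw => Cfsg.Agent.Lib.Helper52_Sims_CA.caseA H F hb h2 w hw)

end PartC

end Cfsg.Agent.Lib.Helper42_Sims_CZ2
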