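import Cfsg.Agent.Lib.Helper13_SimsDefs
import Cfsg.Agent.Lib.Helper91_Sims_BASE
import Cfsg.Agent.Lib.Helper91_Sims_ARC
import Cfsg.Agent.Lib.Helper12_Sims_SK

/-!
# Sims package S-NC2 (architect helper13): `K_a = 1` gives `G_a ≅ S₃`.

`iso_S3_aux` takes the index statement `|T_ab| = 2 |K_a|` (package S-K at the base arc) as a hypothesis.
-/

set_option autoImplicit false

namespace Cfsg.Agent.Lib.Helper46_Sims_SNC2

open MulAction Cfsg.Agent.Lib.Helper13_SimsDefs
open Cfsg.Agent.Lib.Helper91_Sims_BASE Cfsg.Agent.Lib.Helper91_Sims_ARC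

section
variable {G Ω : Type*} [Group G] [MulAction G Ω] {a b : Ω}

/-- the action of `G_a` on `Δ(a)` -/
instance delAction (G : Type*) {Ω : Type*} [Group G] [MulAction G Ω] (a b : Ω) :
    MulAction (stabilizer G a) {y : Ω // Arc G a b a y} where
  smul g y := ⟨(g : G) • (y : Ω), by
    have h := arc_smul (a := a) (b := b) (g : G) y.2
    rwa [mem_stabilizer_iff.mp g.2] at h⟩
  one_smul y := Subtype.ext (one_smul G (y : Ω))
  mul_smul g k y := Subtype.ext (mul_smul (g : G) (k : G) (y : Ω))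

theorem delAction_coe (g : stabilizer G a) (y : {y : Ω // Arc G a b a y}) :
    ((g • y : {y : Ω // Arc G a b a y}) : Ω) = (g : G) • (y : Ω) := rfl

/-- **S-NC2**, with the index of `K_a` in `T_ab` as a hypothesis. -/
theorem iso_S3_aux (H : Hyp G a b) (hS : ¬ A3case G a b) (hK : Nat.card (Kst G a b a) = 1)
    (hKi : Nat.card (Tst G a b) = 2 * Nat.card (Kst G a b a)) :
    Nonempty (stabilizer G a ≃* Equiv.Perm (Fin 3)) := by
  classical
  have hfin := H.fin
  have hT2 : Nat.card (Tst G a b) = 2 := by rw [hKi, hK]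
  have hG6 : Nat.card (stabilizer G a) = 6 := by
    rw [card_stab H (Or.inl arc_ab : Adj G a b a b), hT2]
  have hD3 : Nat.card {y : Ω // Arc G a b a y} = 3 := card_out H a
  have hDfin : Finite {y : Ω // Arc G a b a y} := Nat.finite_of_card_ne_zero (by omega)
  -- an element of `T_ab` moving a point of `Δ(a)`
  obtain ⟨g₀, hg₀T, y₀, hy₀, hmove⟩ : ∃ g₀ ∈ Tst G a b, ∃ y₀, Arc G a b a y₀ ∧ g₀ • y₀ ≠ y₀ := by
    by_contra hcon
    push Not at hcon
    exact hS (fun g hg y hy => hcon g hg y hy)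
  have hg₀1 : (⟨g₀, hg₀T⟩ : Tst G a b) ≠ 1 := by
    intro h1
    have : g₀ = 1 := congrArg Subtype.val h1
    apply hmove
    rw [this, one_smul]
  obtain ⟨z, hz, huniq⟩ := (Nat.card_eq_two_iff' (1 : Tst G a b)).mp hT2
  let φ : stabilizer G a →* Equiv.Perm {y : Ω // Arc G a b a y} :=
    MulAction.toPermHom (stabilizer G a) {y : Ω // Arc G a b a y}
  have hinj : Function.Injective φ := by
    rw [injective_iff_map_eq_one]
    intro g hg
    have hfix : ∀ y : {y : Ω // Arc G a b a y}, g • y = y := by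
      intro y
      have := congrArg (fun σ : Equiv.Perm {y : Ω // Arc G a b a y} => σ y) hg
      simpa [φ] using this
    have hgb : (g : G) • b = b := by
      have := congrArg Subtype.val (hfix ⟨b, arc_ab⟩)
      simpa [delAction_coe] using this
    have hgT : (g : G) ∈ Tst G a b := ⟨g.2, mem_stabilizer_iff.mpr hgb⟩
    by_contra hne
    have hne' : (⟨(g : G), hgT⟩ : Tst G a b) ≠ 1 := by
      intro h1
      apply hne
      have h1' : (g : G) = 1 := congrArg (fun t : Tst G a b => (t : G)) h1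
      exact Subtype.ext h1'
    have e1 := huniq _ hne'
    have e2 := huniq _ hg₀1
    have heq : (g : G) = g₀ := by
      have := e1.trans e2.symm
      exact congrArg Subtype.val this
    apply hmove
    have := congrArg Subtype.val (hfix ⟨y₀, hy₀⟩)
    rw [delAction_coe, heq] at this
    exact this
  have hbij : Function.Bijective φ := by
    apply hinj.bijective_of_nat_card_le
    rw [Nat.card_perm, hD3, hG6]
    decide
  have e3 : {y : Ω // Arc G a b a y} ≃ Fin 3 := by
    have := Fintype.ofFinite {y : Ω // Arc G a b a y}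
    apply Fintype.equivFinOfCardEq
    rw [← Nat.card_eq_fintype_card, hD3]
  exact ⟨(MulEquiv.ofBijective φ hbij).trans e3.permCongrHom⟩

/-- S-NC2: `K_a = 1` gives `G_a ≅ S₃`. -/
theorem iso_S3 (H : Hyp G a b) (hS : ¬ A3case G a b) (hK : Nat.card (Kst G a b a) = 1) :
    Nonempty (stabilizer G a ≃* Equiv.Perm (Fin 3)) :=
  iso_S3_aux H hS hK
    (Cfsg.Agent.Lib.Helper12_Sims_SK.K_index H hS (Or.inl Cfsg.Agent.Lib.Helper91_Sims_ARC.arc_ab))

end

end Cfsg.Agent.Lib.Helper46_Sims_SNC2
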