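import Cfsg.Agent.Lib.Helper13_SimsDefs
import Cfsg.Agent.Lib.Helper91_Sims_ARC
import Cfsg.Agent.Lib.Helper91_Sims_BASE
import Cfsg.Agent.Lib.Helper12_Sims_BEQUIV

/-!
# Sims/Wong (architect helper13), package S-NC1, auxiliary form (proof helper63)

Paper §2: in the non-constrained `S₃`-case `|K_a| ≤ 2`.  Here with the two facts
S-K (`|T_xy| = 2 |K_x|`) and S-TWO (`T_xy` is a 2-group) as hypotheses `hK`, `h2`.

* `exists_three_cent` : `C_{G_a}(K_a) ≰ K_a` gives `d ∈ C_{G_a}(K_a)` of order 3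
  (a normal 2-subgroup `C` of `G_a` lies in every `T_ay` of index 3, hence in `K_a`).
* `nrm_of_T` : with such a `d`, every `Y ≤ K_x` normalised by `T_xy` is normalised by `G_x`.
* `nc_card_aux` : `D = K_a ∩ K_b` is normalised by `G_a` and `G_b`, so `D = 1`, and
  `|K_a| = |K_a : D| ≤ |T : K_b| = 2`.
-/

set_option autoImplicit false

namespace Cfsg.Agent.Lib.Helper63_Sims_SNC1aux

open MulAction Cfsg.Agent.Lib.Helper13_SimsDefs Cfsg.Agent.Lib.Helper91_Sims_ARC
  Cfsg.Agent.Lib.Helper91_Sims_BASE Cfsg.Agent.Lib.Helper12_Sims_BEQUIV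

section PartS
variable {G Ω : Type*} [Group G] [MulAction G Ω] {a b : Ω}

/-- a subgroup all of whose elements are `Nrm`-normalising lies in the normaliser -/
theorem le_normalizer_of_nrm (S Y : Subgroup G) (hS : ∀ g ∈ S, Nrm g Y) :
    S ≤ Subgroup.normalizer (Y : Set G) := by
  intro g hg
  rw [Subgroup.mem_normalizer_iff]
  intro u
  constructor
  · intro hu
    exact hS g hg u hu
  · intro hu
    have := hS g⁻¹ (S.inv_mem hg) _ hu
    rw [inv_inv] at this
    have e : g⁻¹ * (g * u * g⁻¹) * g = u := by group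
    rw [e] at this
    exact this

/-- a normal 2-subgroup of `G_x` lies in every 2-subgroup of index 3 -/
theorem le_of_normal_two [Finite G] (Gx C P : Subgroup G) (hC : C ≤ Gx) (hP : P ≤ Gx)
    (hC2 : IsPGroup 2 C) (hP2 : IsPGroup 2 P) (hidx : Nat.card Gx = 3 * Nat.card P)
    (hn : ∀ g ∈ Gx, Nrm g C) : C ≤ P := by
  have h2p : Fact (Nat.Prime 2) := ⟨Nat.prime_two⟩
  have hPn : P ≤ Subgroup.normalizer (C : Set G) :=
    le_normalizer_of_nrm P C (fun g hg => hn g (hP hg))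
  have hsup2 : IsPGroup 2 (C ⊔ P : Subgroup G) := IsPGroup.to_sup_of_normal_left' hC2 hP2 hPn
  have hle : C ⊔ P ≤ Gx := sup_le hC hP
  obtain ⟨i, hi⟩ := IsPGroup.iff_card.mp hsup2
  have hd1 : Nat.card P ∣ Nat.card (C ⊔ P : Subgroup G) := Subgroup.card_dvd_of_le le_sup_right
  have hd2 : Nat.card (C ⊔ P : Subgroup G) ∣ 3 * Nat.card P := by
    rw [← hidx]; exact Subgroup.card_dvd_of_le hle
  have hPpos : 0 < Nat.card P := Nat.card_pos
  obtain ⟨m, hm⟩ := hd1
  have hm3 : m ∣ 3 := by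
    rw [hm, mul_comm 3] at hd2
    exact Nat.dvd_of_mul_dvd_mul_left hPpos hd2
  have hm1 : m = 1 := by
    rcases (Nat.dvd_prime Nat.prime_three).mp hm3 with h | h
    · exact h
    · exfalso
      have h3 : 3 ∣ 2 ^ i := by
        rw [← hi, hm, h]; exact dvd_mul_left 3 _
      have := Nat.Prime.dvd_of_dvd_pow Nat.prime_three h3
      omega
  have hcard : Nat.card (C ⊔ P : Subgroup G) ≤ Nat.card P := by rw [hm, hm1, mul_one]
  have heq : P = C ⊔ P := Subgroup.eq_of_le_of_card_ge le_sup_right hcard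
  rw [heq]
  exact le_sup_left

/-- the centraliser of `K_a` in `G_a`, as a subgroup of `G` -/
def CK (G : Type*) {Ω : Type*} [Group G] [MulAction G Ω] (a b : Ω) : Subgroup G :=
  stabilizer G a ⊓ Subgroup.centralizer (Kst G a b a : Set G)

theorem mem_CK {g : G} : g ∈ CK G a b ↔ g ∈ stabilizer G a ∧ ∀ k ∈ Kst G a b a, g * k = k * g := by
  unfold CK
  rw [Subgroup.mem_inf, Subgroup.mem_centralizer_iff]
  constructor
  · rintro ⟨h1, h3⟩
    exact ⟨h1, fun k hk => (h3 k hk).symm⟩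
  · rintro ⟨h1, h3⟩
    exact ⟨h1, fun k hk => (h3 k hk).symm⟩

theorem CK_nrm : ∀ g ∈ stabilizer G a, Nrm g (CK G a b) := by
  intro g hg c hc
  rw [mem_CK] at hc ⊢
  refine ⟨(stabilizer G a).mul_mem ((stabilizer G a).mul_mem hg hc.1) (inv_mem hg), ?_⟩
  intro k hk
  have hk' : g⁻¹ * k * g⁻¹⁻¹ ∈ Kst G a b a :=
    Kst_normal (a := a) (b := b) a g⁻¹ (inv_mem hg) k hk
  rw [inv_inv] at hk'
  have h1 := hc.2 _ hk'
  calc g * c * g⁻¹ * k = g * (c * (g⁻¹ * k * g)) * g⁻¹ := by group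
    _ = g * ((g⁻¹ * k * g) * c) * g⁻¹ := by rw [h1]
    _ = k * (g * c * g⁻¹) := by group

/-- non-constrained: an element of order 3 centralising `K_a` -/
theorem exists_three_cent (H : Hyp G a b)
    (h2 : ∀ {x y : Ω}, Adj G a b x y → IsPGroup 2 (Tst G x y))
    (hnc : ¬ Constrained G a b) :
    ∃ d ∈ stabilizer G a, orderOf d = 3 ∧ ∀ k ∈ Kst G a b a, d * k = k * d := by
  have hfin : Finite G := H.fin
  have h2p : Fact (Nat.Prime 2) := ⟨Nat.prime_two⟩
  have h3p : Fact (Nat.Prime 3) := ⟨Nat.prime_three⟩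
  have hadj : Adj G a b a b := Or.inl arc_ab
  have hCle : CK G a b ≤ stabilizer G a := inf_le_left
  by_cases h3 : 3 ∣ Nat.card (CK G a b)
  · obtain ⟨x, hx⟩ := exists_prime_orderOf_dvd_card' (G := CK G a b) 3 h3
    have hx2 := mem_CK.mp x.2
    refine ⟨(x : G), hx2.1, ?_, hx2.2⟩
    rw [Subgroup.orderOf_coe]; exact hx
  · exfalso
    -- `CK` is a 2-group
    have hC2 : IsPGroup 2 (CK G a b) := by
      obtain ⟨j, hj⟩ := IsPGroup.iff_card.mp (h2 hadj)
      have hd : Nat.card (CK G a b) ∣ 3 * 2 ^ j := by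
        rw [← hj, ← card_stab H hadj]
        exact Subgroup.card_dvd_of_le hCle
      have hcop : Nat.Coprime (Nat.card (CK G a b)) 3 :=
        ((Nat.Prime.coprime_iff_not_dvd Nat.prime_three).mpr h3).symm
      have hd' : Nat.card (CK G a b) ∣ 2 ^ j := hcop.dvd_of_dvd_mul_left hd
      obtain ⟨i, -, hi⟩ := (Nat.dvd_prime_pow Nat.prime_two).mp hd'
      exact IsPGroup.of_card hi
    apply hnc
    intro g hg hgk
    have hgC : g ∈ CK G a b := mem_CK.mpr ⟨hg, hgk⟩
    rw [mem_Kst_iff]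
    refine ⟨hg, ?_⟩
    intro y hy
    have hle := le_of_normal_two (stabilizer G a) (CK G a b) (Tst G a y) hCle inf_le_left hC2
      (h2 hy) (card_stab H hy) CK_nrm
    exact (hle hgC).2

/-- with an element of order 3 centralising `K_x`, `T_xy`-invariant subgroups of `K_x` are
`G_x`-invariant -/
theorem nrm_of_T (H : Hyp G a b)
    (h2 : ∀ {x y : Ω}, Adj G a b x y → IsPGroup 2 (Tst G x y))
    {x y : Ω} (hxy : Adj G a b x y) (d : G) (hd : d ∈ stabilizer G x) (hd3 : orderOf d = 3)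
    (hdc : ∀ k ∈ Kst G a b x, d * k = k * d) (Y : Subgroup G) (hY : Y ≤ Kst G a b x)
    (hT : ∀ t ∈ Tst G x y, Nrm t Y) : ∀ g ∈ stabilizer G x, Nrm g Y := by
  have hfin : Finite G := H.fin
  set N : Subgroup G := stabilizer G x ⊓ Subgroup.normalizer (Y : Set G) with hN
  have hTN : Tst G x y ≤ N := le_inf inf_le_left (le_normalizer_of_nrm _ _ hT)
  have hdN : d ∈ N := by
    refine ⟨hd, ?_⟩
    show d ∈ Subgroup.normalizer (Y : Set G)
    rw [Subgroup.mem_normalizer_iff]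
    intro u
    constructor
    · intro hu
      have := hdc u (hY hu)
      rw [this, mul_inv_cancel_right]
      exact hu
    · intro hu
      have hw := hdc _ (hY hu)
      have hu2 : u = d * u * d⁻¹ := by
        calc u = d⁻¹ * ((d * u * d⁻¹) * d) := by group
          _ = d⁻¹ * (d * (d * u * d⁻¹)) := by rw [hw]
          _ = d * u * d⁻¹ := by group
      rw [hu2]
      exact hu
  have h2T := h2 hxy
  obtain ⟨j, hj⟩ := IsPGroup.iff_card.mp h2T
  have hd1 : Nat.card (Tst G x y) ∣ Nat.card N := Subgroup.card_dvd_of_le hTN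
  have hd3' : 3 ∣ Nat.card N := by
    rw [← hd3]
    exact Subgroup.orderOf_dvd_natCard N hdN
  have hcop : Nat.Coprime 3 (Nat.card (Tst G x y)) := by
    rw [hj]
    exact Nat.Coprime.pow_right j (by norm_num)
  have hdvd : 3 * Nat.card (Tst G x y) ∣ Nat.card N := hcop.mul_dvd_of_dvd_of_dvd hd3' hd1
  have hle : Nat.card (stabilizer G x) ≤ Nat.card N := by
    rw [card_stab H hxy]
    exact Nat.le_of_dvd Nat.card_pos hdvd
  have heq : N = stabilizer G x := Subgroup.eq_of_le_of_card_ge inf_le_left hle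
  intro g hg u hu
  have hgN : g ∈ N := heq ▸ hg
  exact (Subgroup.mem_normalizer_iff.mp hgN.2 u).mp hu

/-- S-NC1 (paper §2), with S-K and S-TWO as hypotheses. -/
theorem nc_card_aux (H : Hyp G a b)
    (hK : ∀ {x y : Ω}, Adj G a b x y → Nat.card (Tst G x y) = 2 * Nat.card (Kst G a b x))
    (h2 : ∀ {x y : Ω}, Adj G a b x y → IsPGroup 2 (Tst G x y))
    (hnc : ¬ Constrained G a b) :
    Nat.card (Kst G a b a) ≤ 2 := by
  have hfin : Finite G := H.fin
  have hadj : Adj G a b a b := Or.inl arc_ab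
  have hadj' : Adj G a b b a := adj_symm hadj
  obtain ⟨d, hd, hd3, hdc⟩ := exists_three_cent H h2 hnc
  -- transport `d` to `b`
  obtain ⟨h, hh⟩ := trans H a b
  have hd' : h * d * h⁻¹ ∈ stabilizer G b := by
    rw [← hh, stab_smul]
    exact conj_mem_cj hd
  have hd3' : orderOf (h * d * h⁻¹) = 3 := by rw [orderOf_conj_eq]; exact hd3
  have hdc' : ∀ k ∈ Kst G a b b, h * d * h⁻¹ * k = k * (h * d * h⁻¹) := by
    intro k hk
    have hk2 : k ∈ Kst G a b (h • a) := by rw [hh]; exact hk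
    rw [Kst_smul, mem_cj] at hk2
    have h1 := hdc _ hk2
    calc h * d * h⁻¹ * k = h * (d * (h⁻¹ * k * h)) * h⁻¹ := by group
      _ = h * ((h⁻¹ * k * h) * d) * h⁻¹ := by rw [h1]
      _ = k * (h * d * h⁻¹) := by group
  -- `D = K_a ⊓ K_b`
  set D : Subgroup G := Kst G a b a ⊓ Kst G a b b with hD
  have hKaT : Kst G a b a ≤ Tst G a b := Kst_le_Tst hadj
  have hKbT : Kst G a b b ≤ Tst G a b := by
    rw [Tst_comm]; exact Kst_le_Tst hadj'
  have hDT : ∀ t ∈ Tst G a b, Nrm t D := by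
    intro t ht u hu
    exact ⟨Kst_normal (a := a) (b := b) a t ht.1 u hu.1,
      Kst_normal (a := a) (b := b) b t ht.2 u hu.2⟩
  have hDa : ∀ g ∈ stabilizer G a, Nrm g D :=
    nrm_of_T H h2 hadj d hd hd3 hdc D inf_le_left hDT
  have hDb : ∀ g ∈ stabilizer G b, Nrm g D := by
    refine nrm_of_T H h2 hadj' (h * d * h⁻¹) hd' hd3' hdc' D inf_le_right ?_
    intro t ht
    exact hDT t (by rw [Tst_comm]; exact ht)
  have hDbot : D = ⊥ :=
    normal_both H (a_ne_b H) D (fun u hu => hKaT hu.1) hDa hDb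
  -- counting
  have h1 : (Kst G a b b).relIndex (Kst G a b a) = Nat.card (Kst G a b a) := by
    rw [← Subgroup.inf_relIndex_right, inf_comm, ← hD, hDbot, Subgroup.relIndex_bot_left]
  have h3 : (Kst G a b b).relIndex (Tst G a b) * Nat.card (Kst G a b b) = Nat.card (Tst G a b) := by
    have := Subgroup.index_mul_card ((Kst G a b b).subgroupOf (Tst G a b))
    rw [Nat.card_congr (Subgroup.subgroupOfEquivOfLe hKbT).toEquiv] at this
    exact this
  have h4 : Nat.card (Tst G a b) = 2 * Nat.card (Kst G a b b) := by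
    rw [Tst_comm]; exact hK hadj'
  have hpos : 0 < Nat.card (Kst G a b b) := Nat.card_pos
  have h5 : (Kst G a b b).relIndex (Tst G a b) = 2 := by
    rw [h4] at h3
    exact Nat.eq_of_mul_eq_mul_right hpos h3
  have h6 := Subgroup.relIndex_le_of_le_right (H := Kst G a b b) hKaT (by rw [h5]; norm_num)
  rw [h1, h5] at h6
  exact h6

end PartS

end Cfsg.Agent.Lib.Helper63_Sims_SNC1aux
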