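import Cfsg.Agent.Lib.Helper13_SimsDefs
import Cfsg.Agent.Lib.Helper63_Sims_SNC1aux
import Cfsg.Agent.Lib.Helper63_Sims_SP5
import Cfsg.Agent.Lib.Helper42_Sims_SP3
import Cfsg.Agent.Lib.Helper10_Sims_STWO
import Cfsg.Agent.Lib.Helper12_Sims_SK

/-!
# Sims/Wong (architect helper13), package S-NC1, verbatim form (proof helper63)

Paper §2: in the non-constrained `S₃`-case `|K_a| ≤ 2`.  Wrapper around
`Cfsg.Agent.Lib.Helper63_Sims_SNC1aux.nc_card_aux` with S-K (`K_index`, helper12) and S-TWO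
(`two_group_of`, helper10; S-P5 helper63, S-P3 helper42) plugged in.
-/

set_option autoImplicit false

namespace Cfsg.Agent.Lib.Helper63_Sims_SNC1

open MulAction Cfsg.Agent.Lib.Helper13_SimsDefs

section PartS
variable {G Ω : Type*} [Group G] [MulAction G Ω] {a b : Ω}

/-- S-NC1 (paper §2): non-constrained case, `|K_a| ≤ 2`. -/
theorem nc_card (H : Hyp G a b) (hS : ¬ A3case G a b) (hnc : ¬ Constrained G a b) :
    Nat.card (Kst G a b a) ≤ 2 := by
  have := H.fin
  exact Cfsg.Agent.Lib.Helper63_Sims_SNC1aux.nc_card_aux H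
    (fun h => Cfsg.Agent.Lib.Helper12_Sims_SK.K_index H hS h)
    (fun h => Cfsg.Agent.Lib.Helper10_Sims_STWO.two_group_of
      (Cfsg.Agent.Lib.Helper63_Sims_SP5.no_big_prime H)
      (Cfsg.Agent.Lib.Helper42_Sims_SP3.three_not_dvd H) h) hnc

end PartS

end Cfsg.Agent.Lib.Helper63_Sims_SNC1
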