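import Cfsg.Agent.Lib.Helper65_Sims_CZ4Amain
import Cfsg.Agent.Lib.Helper99_Sims_CCX
import Cfsg.Agent.Lib.Helper41_Sims_CBaux
import Cfsg.Agent.Lib.Helper52_Sims_CA

/-!
# SIMS C-Z4A (helper13 market S3385/S3685): paper 4.6(a), verbatim package statement.
-/

set_option autoImplicit false

namespace Cfsg.Agent.Lib.Helper65_Sims_CZ4A

open MulAction Cfsg.Agent.Lib.Helper13_SimsDefs

variable {G Ω : Type*} [Group G] [MulAction G Ω] {a b : Ω}

/-- C-Z4A (paper 4.6(a)): not self-paired. -/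
theorem z4a (H : Hyp G a b) (F : FF G a b) (hZ : ∀ x, Nat.card (Zpr G a b x) = 2)
    (hns : ¬ Arc G a b b a) {bb : ℕ} (hb : IsCrit G a b bb) : bb ≤ 1 :=
  Helper65_Sims_CZ4Amain.z4a_of H F hZ hns hb (Helper99_Sims_CCX.cx H F hZ)
    (fun h2 w hw => Helper41_Sims_CBaux.caseB_aux H F hb h2 w hw
      (Helper52_Sims_CA.caseA H F hb h2 w hw))

end Cfsg.Agent.Lib.Helper65_Sims_CZ4A
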