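import Cfsg.Agent.Lib.Helper13_SimsDefs
import Cfsg.Agent.Lib.Helper33_Sims_E52
import Cfsg.Agent.Lib.Helper33_Sims_E53
import Cfsg.Agent.Lib.Helper33_Sims_E54

/-!
# S3385 / S3685 market (architect helper13), package E-55 (paper 5.5):
`|K_a| ∈ {4, 8}` at critical distance 1, from `|C_a| ≤ 8`, `|T_ab| = 8 |C_a|`, `|C_a| ≠ 4, 8`.
`_aux` form: the statements of E-52, E-53, E-54 enter as hypotheses.
-/

set_option autoImplicit false
set_option linter.unusedVariables false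

namespace Cfsg.Agent.Lib.Helper82_Sims_E55

open MulAction Cfsg.Agent.Lib.Helper13_SimsDefs

section PartE
variable {G Ω : Type*} [Group G] [MulAction G Ω] {a b : Ω}

theorem adj_ab : Adj G a b a b := Or.inl ⟨1, one_smul _ _, one_smul _ _⟩

theorem Kst_le_Tst {x y : Ω} (h : Adj G a b x y) : Kst G a b x ≤ Tst G x y := by
  intro g hg
  refine ⟨hg.1, ?_⟩
  have h2 : g ∈ ⨅ y : {y : Ω // Adj G a b x y}, stabilizer G (y : Ω) := hg.2
  rw [Subgroup.mem_iInf] at h2
  exact h2 ⟨y, h⟩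

theorem Cst_le_Kst (x : Ω) : Cst G a b x ≤ Kst G a b x := inf_le_left

/-- E-55, `_aux` form: the conclusions of E-52 (second half), E-53, E-54 as hypotheses. -/
theorem card_K_aux (H : Hyp G a b) (F : FF G a b)
    (h52 : Nat.card (Cst G a b a) ≤ 8 ∧ Nat.card (Tst G a b) = 8 * Nat.card (Cst G a b a))
    (h53 : Nat.card (Cst G a b a) ≠ 4) (h54 : Nat.card (Cst G a b a) ≠ 8) :
    Nat.card (Kst G a b a) = 4 ∨ Nat.card (Kst G a b a) = 8 := by
  have := H.fin
  have : Fact (Nat.Prime 2) := ⟨Nat.prime_two⟩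
  have hadj : Adj G a b a b := adj_ab
  have hle : Cst G a b a ≤ Tst G a b := (Cst_le_Kst a).trans (Kst_le_Tst hadj)
  have hp : IsPGroup 2 (Cst G a b a) := (F.two a b hadj).to_le hle
  obtain ⟨k, hk⟩ := IsPGroup.iff_card.mp hp
  have hidx := F.idx2 a b hadj
  obtain ⟨h8, hT⟩ := h52
  rw [hk] at h8 h53 h54 hT
  have hk3 : k ≤ 3 := by
    by_contra hcon
    push Not at hcon
    have : 2 ^ 4 ≤ 2 ^ k := Nat.pow_le_pow_right (by norm_num) hcon
    omega
  interval_cases k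
  · left
    omega
  · right
    omega
  · exact absurd rfl h53
  · exact absurd rfl h54

/-- E-55 (paper 5.5). -/
theorem card_K (H : Hyp G a b) (F : FF G a b) (hb1 : IsCrit G a b 1) :
    Nat.card (Kst G a b a) = 4 ∨ Nat.card (Kst G a b a) = 8 :=
  card_K_aux H F
    ⟨(Cfsg.Agent.Lib.Helper33_Sims_E52.Cst_inf H F hb1).2.2.1,
      (Cfsg.Agent.Lib.Helper33_Sims_E52.Cst_inf H F hb1).2.2.2⟩
    (Cfsg.Agent.Lib.Helper33_Sims_E53.card_Cst_ne_four H F hb1)
    (Cfsg.Agent.Lib.Helper33_Sims_E54.card_Cst_ne_eight H F hb1)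

end PartE

end Cfsg.Agent.Lib.Helper82_Sims_E55
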