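import Cfsg.Agent.Lib.Helper13_SimsDefs
import Cfsg.Agent.Lib.Helper33_Sims_E51
import Cfsg.Agent.Lib.Helper88_Sims_IS4C2aux

/-!
# Sims package I-S4C2 (architect helper13; formalised by helper88)

Paper 5.5: `b = 1` and `|K_a| = 8` give `G_a ≅ S₄ × C₂`. Verbatim statement; the proof is
`Helper88_Sims_IS4C2aux.iso_S4C2_of` fed with package E-51 (`split_K` at `a`, helper33).
-/

set_option autoImplicit false

namespace Cfsg.Agent.Lib.Helper88_Sims_IS4C2

open MulAction Cfsg.Agent.Lib.Helper13_SimsDefs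

variable {G Ω : Type*} [Group G] [MulAction G Ω] {a b : Ω}

/-- I-S4C2. -/
theorem iso_S4C2 (H : Hyp G a b) (F : FF G a b) (hb1 : IsCrit G a b 1)
    (hK : Nat.card (Kst G a b a) = 8) :
    Nonempty (stabilizer G a ≃* Equiv.Perm (Fin 4) × Multiplicative (ZMod 2)) := by
  have s := Cfsg.Agent.Lib.Helper33_Sims_E51.split_K H F hb1 a
  exact Cfsg.Agent.Lib.Helper88_Sims_IS4C2aux.iso_S4C2_of H F hb1 hK s.1 s.2.1 s.2.2.1

end Cfsg.Agent.Lib.Helper88_Sims_IS4C2
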