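import Cfsg.Agent.Lib.Helper13_SimsDefs
import Cfsg.Agent.Lib.Helper91_Sims_JCONJ
import Cfsg.Agent.Lib.Helper91_Sims_BASE
import Cfsg.Agent.Lib.Helper91_Sims_ARC
import Cfsg.Agent.Lib.Helper12_Sims_BEQUIV

/-!
# Sims package S-FF7 (architect helper13): assembly of the interface `FF` by transport along `G`.

`ff_aux` takes the inputs (equivariance lemmas of B-EQUIV and the statements of S-TWO, S-K, S-FF1, S-FF4,
S-FF5, S-FF6 at the base vertex) as explicit hypotheses.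
-/

set_option autoImplicit false

namespace Cfsg.Agent.Lib.Helper91_Sims_FF7

open MulAction Cfsg.Agent.Lib.Helper13_SimsDefs Cfsg.Agent.Lib.Helper91_Sims_JCONJ

section PartS
variable {G Ω : Type*} [Group G] [MulAction G Ω] {a b : Ω}

/-- the equivariance statements of B-EQUIV used in the transport -/
structure Eqv (G : Type*) {Ω : Type*} [Group G] [MulAction G Ω] (a b : Ω) : Prop where
  stab_smul : ∀ (g : G) (x : Ω), stabilizer G (g • x) = cj g (stabilizer G x)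
  Tst_smul : ∀ (g : G) (x y : Ω), Tst G (g • x) (g • y) = cj g (Tst G x y)
  Kst_smul : ∀ (g : G) (x : Ω), Kst G a b (g • x) = cj g (Kst G a b x)
  Vst_smul : ∀ (g : G) (x : Ω), Vst G a b (g • x) = cj g (Vst G a b x)
  Nst_smul : ∀ (g : G) (x : Ω), Nst G a b (g • x) = cj g (Nst G a b x)
  Zpr_smul : ∀ (g : G) (x : Ω), Zpr G a b (g • x) = cj g (Zpr G a b x)
  Rst_smul : ∀ (g : G) (x y : Ω), Rst G a b (g • x) (g • y) = cj g (Rst G a b x y)
  Zst_smul : ∀ (g : G) (x y : Ω), Zst G a b (g • x) (g • y) = cj g (Zst G a b x y)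

/-- B-EQUIV (helper12) provides all of them -/
theorem eqv : Eqv G a b where
  stab_smul := Cfsg.Agent.Lib.Helper12_Sims_BEQUIV.stab_smul
  Tst_smul := Cfsg.Agent.Lib.Helper12_Sims_BEQUIV.Tst_smul
  Kst_smul := Cfsg.Agent.Lib.Helper12_Sims_BEQUIV.Kst_smul
  Vst_smul := Cfsg.Agent.Lib.Helper12_Sims_BEQUIV.Vst_smul
  Nst_smul := Cfsg.Agent.Lib.Helper12_Sims_BEQUIV.Nst_smul
  Zpr_smul := Cfsg.Agent.Lib.Helper12_Sims_BEQUIV.Zpr_smul
  Rst_smul := Cfsg.Agent.Lib.Helper12_Sims_BEQUIV.Rst_smul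
  Zst_smul := Cfsg.Agent.Lib.Helper12_Sims_BEQUIV.Zst_smul

theorem cj_injective (g : G) {H K : Subgroup G} (h : cj g H = cj g K) : H = K := by
  have := congrArg (cj g⁻¹) h
  rwa [cj_inv_cj, cj_inv_cj] at this

theorem conj_mem_cj {g : G} {H : Subgroup G} {x : G} (hx : x ∈ H) : g * x * g⁻¹ ∈ cj g H :=
  mem_cj.mpr ⟨x, hx, rfl⟩

/-- every neighbour of `k • a` is `k • y'` with `y'` a neighbour of `a` -/
theorem adj_pull (k : G) {x y : Ω} (h : Adj G a b (k • x) y) :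
    ∃ y', Adj G a b x y' ∧ y = k • y' := by
  refine ⟨k⁻¹ • y, ?_, (smul_inv_smul k y).symm⟩
  have := Cfsg.Agent.Lib.Helper91_Sims_ARC.adj_smul k⁻¹ h
  rwa [inv_smul_smul] at this

theorem ff_aux (H : Hyp G a b) (E : Eqv G a b)
    (htwo : ∀ {x y : Ω}, Adj G a b x y → IsPGroup 2 (Tst G x y))
    (hKidx : ∀ {x y : Ω}, Adj G a b x y → Nat.card (Tst G x y) = 2 * Nat.card (Kst G a b x))
    (hcent : ∀ g ∈ stabilizer G a, (∀ v ∈ Vst G a b a, g * v = v * g) → g ∈ Kst G a b a)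
    (hstruct : Nat.card (Nst G a b a) = 4 ∧
      (∀ d ∈ stabilizer G a, orderOf d = 3 → ∀ v ∈ Nst G a b a, d * v = v * d → v = 1) ∧
      Nat.card (Vst G a b a) = Nat.card (Zpr G a b a) * 4 ∧
      (∀ y, Adj G a b a y → Nat.card (Rst G a b a y) = 2 ∧
        Nat.card (Vst G a b a) = 2 * Nat.card (Zst G a b a y)))
    (hz : Zst G a b a b = Zst G a b b a ∧ Nat.card (Zpr G a b a) ≤ 2)
    (hg3 : ∀ y y' : Ω, Adj G a b a y → Adj G a b a y' → Rst G a b a y = Rst G a b a y' →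
      Tst G a y = Tst G a y') : FF G a b := by
  obtain ⟨hN4, hfpf, hV, hRZ⟩ := hstruct
  have htr := Cfsg.Agent.Lib.Helper91_Sims_BASE.trans H a
  refine
    { two := fun x y h => htwo h
      idx3 := fun x y h => Cfsg.Agent.Lib.Helper91_Sims_ARC.card_stab H h
      idx2 := fun x y h => hKidx h
      cent := ?_
      cardN := ?_
      fpf := ?_
      cardR := ?_
      zsymm := ?_
      zidx := ?_
      cardV := ?_
      cardZ := ?_
      g3 := ?_ }
  · -- cent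
    intro x g hg hcomm
    obtain ⟨k, rfl⟩ := htr x
    rw [E.stab_smul, mem_cj'] at hg
    rw [E.Kst_smul, mem_cj']
    apply hcent _ hg
    intro v hv
    have hv' : k * v * k⁻¹ ∈ Vst G a b (k • a) := by
      rw [E.Vst_smul]
      exact conj_mem_cj hv
    have h1 := hcomm _ hv'
    calc k⁻¹ * g * k * v = k⁻¹ * (g * (k * v * k⁻¹)) * k := by group
      _ = k⁻¹ * ((k * v * k⁻¹) * g) * k := by rw [h1]
      _ = v * (k⁻¹ * g * k) := by group
  · -- cardN
    intro x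
    obtain ⟨k, rfl⟩ := htr x
    rw [E.Nst_smul, card_cj, hN4]
  · -- fpf
    intro x d hd hd3 v hv hdv
    obtain ⟨k, rfl⟩ := htr x
    rw [E.stab_smul, mem_cj'] at hd
    rw [E.Nst_smul, mem_cj'] at hv
    have ho : orderOf (k⁻¹ * d * k) = 3 := by
      have := (MulAut.conj k⁻¹).orderOf_eq d
      rw [MulAut.conj_apply, inv_inv] at this
      rw [this, hd3]
    have hcomm : k⁻¹ * d * k * (k⁻¹ * v * k) = k⁻¹ * v * k * (k⁻¹ * d * k) := by
      calc k⁻¹ * d * k * (k⁻¹ * v * k) = k⁻¹ * (d * v) * k := by group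
        _ = k⁻¹ * (v * d) * k := by rw [hdv]
        _ = k⁻¹ * v * k * (k⁻¹ * d * k) := by group
    have h1 := hfpf _ hd ho _ hv hcomm
    calc v = k * (k⁻¹ * v * k) * k⁻¹ := by group
      _ = 1 := by rw [h1]; group
  · -- cardR
    intro x y h
    obtain ⟨k, rfl⟩ := htr x
    obtain ⟨y', hy', rfl⟩ := adj_pull k h
    rw [E.Rst_smul, card_cj]
    exact (hRZ y' hy').1
  · -- zsymm
    intro x y h
    rcases h with h | h
    · obtain ⟨k, rfl, rfl⟩ := h
      rw [E.Zst_smul, E.Zst_smul, hz.1]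
    · obtain ⟨k, rfl, rfl⟩ := h
      rw [E.Zst_smul, E.Zst_smul, hz.1]
  · -- zidx
    intro x y h
    obtain ⟨k, rfl⟩ := htr x
    obtain ⟨y', hy', rfl⟩ := adj_pull k h
    rw [E.Vst_smul, E.Zst_smul, card_cj, card_cj]
    exact (hRZ y' hy').2
  · -- cardV
    intro x
    obtain ⟨k, rfl⟩ := htr x
    rw [E.Vst_smul, E.Zpr_smul, card_cj, card_cj, hV]
  · -- cardZ
    intro x
    obtain ⟨k, rfl⟩ := htr x
    rw [E.Zpr_smul, card_cj]
    exact hz.2
  · -- g3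
    intro x y y' h h' hR
    obtain ⟨k, rfl⟩ := htr x
    obtain ⟨y₁, hy₁, rfl⟩ := adj_pull k h
    obtain ⟨y₂, hy₂, rfl⟩ := adj_pull k h'
    rw [E.Rst_smul, E.Rst_smul] at hR
    rw [E.Tst_smul, E.Tst_smul, hg3 y₁ y₂ hy₁ hy₂ (cj_injective k hR)]

end PartS

end Cfsg.Agent.Lib.Helper91_Sims_FF7
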