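import Cfsg.Agent.Lib.Helper13_SimsDefs
import Cfsg.Agent.Lib.Helper82_Sims_CBALL
import Cfsg.Agent.Lib.Helper63_Sims_SNC1
import Cfsg.Agent.Lib.Helper33_Sims_E51
import Cfsg.Agent.Lib.Helper33_Sims_E52
import Cfsg.Agent.Lib.Helper99_Sims_CCX
import Cfsg.Agent.Lib.Helper91_Sims_JCONJ
import Cfsg.Agent.Lib.Helper10_Sims_GJLE
import Cfsg.Agent.Lib.Helper10_Sims_GJNE
import Cfsg.Agent.Lib.Helper5_Sims_GTR
import Cfsg.Agent.Lib.Helper91_Sims_CT2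
import Cfsg.Agent.Lib.Helper27_Sims_COP
import Cfsg.Agent.Lib.Helper27_Sims_CT
import Cfsg.Agent.Lib.Helper79_Sims_CHAR
import Cfsg.Agent.Lib.Helper10_Sims_SFF2
import Cfsg.Agent.Lib.Helper42_Sims_SP3
import Cfsg.Agent.Lib.Helper33_Sims_E53
import Cfsg.Agent.Lib.Helper86_Sims_SFF1
import Cfsg.Agent.Lib.Helper33_Sims_E54
import Cfsg.Agent.Lib.Helper46_Sims_SNC2
import Cfsg.Agent.Lib.Helper91_Sims_BASE
import Cfsg.Agent.Lib.Helper86_Sims_SFF3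
import Cfsg.Agent.Lib.Helper65_Sims_CZ4A
import Cfsg.Agent.Lib.Helper88_Sims_IS4C2
import Cfsg.Agent.Lib.Helper12_Sims_SK
import Cfsg.Agent.Lib.Helper25_Sims_SFF4
import Cfsg.Agent.Lib.Helper63_Sims_SP5
import Cfsg.Agent.Lib.Helper91_Sims_ARC
import Cfsg.Agent.Lib.Helper12_Sims_BEQUIV
import Cfsg.Agent.Lib.Helper99_Sims_CCONS
import Cfsg.Agent.Lib.Helper88_Sims_SNC3
import Cfsg.Agent.Lib.Helper49_Sims_IS4
import Cfsg.Agent.Lib.Helper46_Sims_CEX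
import Cfsg.Agent.Lib.Helper99_Sims_CSYMM
import Cfsg.Agent.Lib.Helper52_Sims_CA
import Cfsg.Agent.Lib.Helper42_Sims_CZ2
import Cfsg.Agent.Lib.Helper10_Sims_STWO
import Cfsg.Agent.Lib.Helper10_Sims_SN
import Cfsg.Agent.Lib.Helper10_Sims_SA3
import Cfsg.Agent.Lib.Helper13_Sims_CZ4B1
import Cfsg.Agent.Lib.Helper41_Sims_CBaux
import Cfsg.Agent.Lib.Helper82_Sims_E55
import Cfsg.Agent.Lib.Helper42_Sims_SFF6
import Cfsg.Agent.Lib.Helper91_Sims_FF5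
import Cfsg.Agent.Lib.Helper91_Sims_FF7
import Cfsg.Agent.Lib.Helper10_Sims_CZ4B2
import Cfsg.Agent.Lib.Helper88_Sims_IS4C2aux

/-!
# Sims / Wong (S3385, S3685): the hub. Every package theorem of the paper proof
`pending/helper13/S3385_proof.md` (architect helper13), with its statement verbatim, proved from the file delivered by
the formaliser named in the proof term.
-/

set_option autoImplicit false

namespace Cfsg.Agent.Lib.Helper13_SimsPk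

open MulAction Cfsg.Agent.Lib.Helper13_SimsDefs

/-! ## Part G: generic group theory (no `Ω`) -/
section PartG
variable {G : Type*} [Group G]

/-- G-CT (paper 3.5): three elements `t_i` normalising the 2-group `W` with `|[W,t_i]| ≤ 2`, `d` of order 3 in
`<t_1,t_2,t_3>`; then `|W : C_W(d)| ∈ {1,4}`. -/
theorem ct [Finite G] (W : Subgroup G) (hW : IsPGroup 2 W) (t1 t2 t3 d : G)
    (hn1 : Nrm t1 W) (hn2 : Nrm t2 W) (hn3 : Nrm t3 W)
    (h1 : ∃ r, ∀ w ∈ W, comm t1 w = 1 ∨ comm t1 w = r)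
    (h2 : ∃ r, ∀ w ∈ W, comm t2 w = 1 ∨ comm t2 w = r)
    (h3 : ∃ r, ∀ w ∈ W, comm t3 w = 1 ∨ comm t3 w = r)
    (hd : d ∈ Subgroup.closure ({t1, t2, t3} : Set G)) (hd3 : orderOf d = 3) :
    Nat.card W = Nat.card (CentIn W (Subgroup.zpowers d)) ∨
      Nat.card W = 4 * Nat.card (CentIn W (Subgroup.zpowers d)) :=
  Cfsg.Agent.Lib.Helper27_Sims_CT.ct W hW t1 t2 t3 d hn1 hn2 hn3 h1 h2 h3 hd hd3

/-- G-CT2: if `|W : C_W(d)| ≤ 4` and `N ≤ W` is normal in `W`, of order 4, `d`-invariant with `C_N(d) = 1`, then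
`[W,d] ≤ N`, `W = N C_W(d)`, `N ∩ C_W(d) = 1`. -/
theorem ct2 [Finite G] (W N : Subgroup G) (hNW : N ≤ W) (hNn : ∀ w ∈ W, Nrm w N)
    (hN4 : Nat.card N = 4) (d : G) (hdW : Nrm d W) (hdN : Nrm d N)
    (hfpf : ∀ n ∈ N, d * n = n * d → n = 1)
    (hidx : Nat.card W ≤ 4 * Nat.card (CentIn W (Subgroup.zpowers d))) :
    (∀ w ∈ W, comm d w ∈ N) ∧ N ⊔ CentIn W (Subgroup.zpowers d) = W ∧
      N ⊓ CentIn W (Subgroup.zpowers d) = ⊥ :=
  Cfsg.Agent.Lib.Helper91_Sims_CT2.ct2 W N hNW hNn hN4 d hdW hdN hfpf hidx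

/-- G-TR (paper 3.4, naive Thompson replacement). -/
theorem thompson_repl [Finite G] (T K V A : Subgroup G) (hKT : K ≤ T)
    (hidx : Nat.card T = 2 * Nat.card K) (hV : V ≤ K) (hVc : ∀ v ∈ V, ∀ k ∈ K, k * v = v * k)
    (hV2 : ∀ v ∈ V, v ^ 2 = 1) (hA : IsMaxEA T A) (x : G) (hxA : x ∈ A) (hxK : x ∉ K) :
    Nat.card V ≤ 2 * Nat.card (CentIn V (Subgroup.zpowers x)) :=
  Cfsg.Agent.Lib.Helper5_Sims_GTR.thompson_repl T K V A hKT hidx hV hVc hV2 hA x hxA hxK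

/-- G-JCONJ: `J` is equivariant. -/
theorem JJ_conj (T : Subgroup G) (g : G) : JJ (cj g T) = cj g (JJ T) :=
  Cfsg.Agent.Lib.Helper91_Sims_JCONJ.JJ_conj T g

/-- G-JLE (paper 3.3): if all maximal elementary abelian subgroups of `T` lie in `K ≤ T` then `J(K) = J(T)`. -/
theorem JJ_eq_of_le [Finite G] (T K : Subgroup G) (hKT : K ≤ T)
    (h : ∀ A, IsMaxEA T A → A ≤ K) : JJ K = JJ T :=
  Cfsg.Agent.Lib.Helper10_Sims_GJLE.JJ_eq_of_le T K hKT h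

/-- G-JNE: `J(T) ≠ 1` for a non-trivial 2-group `T`. -/
theorem JJ_ne_bot [Finite G] (T : Subgroup G) (hT : T ≠ ⊥) (hT2 : IsPGroup 2 T) : JJ T ≠ ⊥ :=
  Cfsg.Agent.Lib.Helper10_Sims_GJNE.JJ_ne_bot T hT hT2

/-- G-COP (paper 3.6): an element of order 3 acting on an elementary abelian 2-group. -/
theorem coprime_abelian [Finite G] (V : Subgroup G) (hV2 : ∀ v ∈ V, v ^ 2 = 1)
    (hVc : ∀ v ∈ V, ∀ w ∈ V, v * w = w * v) (d : G) (hd3 : orderOf d = 3) (hdV : Nrm d V) :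
    CentIn V (Subgroup.zpowers d) ⊓ CommSub (Subgroup.zpowers d) V = ⊥ ∧
    CentIn V (Subgroup.zpowers d) ⊔ CommSub (Subgroup.zpowers d) V = V ∧
    Nat.card V = Nat.card (CentIn V (Subgroup.zpowers d)) * Nat.card (CommSub (Subgroup.zpowers d) V) ∧
    (∀ n ∈ CommSub (Subgroup.zpowers d) V, d * n = n * d → n = 1) :=
  Cfsg.Agent.Lib.Helper27_Sims_COP.coprime_abelian V hV2 hVc d hd3 hdV

end PartG


/-! ## Part B: basics on `Ω` (paper §0) -/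
section PartB
variable {G Ω : Type*} [Group G] [MulAction G Ω] {a b : Ω}

/-- B-BASE (P1)-(P3): five theorems `trans`, `stab_inj`, `gen_top`, `core_free`, `normal_both`. -/
theorem trans (H : Hyp G a b) (x y : Ω) : ∃ g : G, g • x = y :=
  Cfsg.Agent.Lib.Helper91_Sims_BASE.trans H x y

theorem stab_inj (H : Hyp G a b) {x y : Ω} (h : stabilizer G x = stabilizer G y) : x = y :=
  Cfsg.Agent.Lib.Helper91_Sims_BASE.stab_inj H h

theorem gen_top (H : Hyp G a b) {x y : Ω} (hxy : x ≠ y) : stabilizer G x ⊔ stabilizer G y = ⊤ :=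
  Cfsg.Agent.Lib.Helper91_Sims_BASE.gen_top H hxy

theorem core_free (H : Hyp G a b) (x : Ω) (Y : Subgroup G) (hY : Y ≤ stabilizer G x)
    (hn : ∀ g : G, Nrm g Y) : Y = ⊥ :=
  Cfsg.Agent.Lib.Helper91_Sims_BASE.core_free H x Y hY hn

theorem normal_both (H : Hyp G a b) {x y : Ω} (hxy : x ≠ y) (Y : Subgroup G) (hY : Y ≤ Tst G x y)
    (hx : ∀ g ∈ stabilizer G x, Nrm g Y) (hy : ∀ g ∈ stabilizer G y, Nrm g Y) : Y = ⊥ :=
  Cfsg.Agent.Lib.Helper91_Sims_BASE.normal_both H hxy Y hY hx hy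

/-- B-ARC: the orbital (di)graph; theorems `arc_ab` ... `self_paired`. -/
theorem arc_ab : Arc G a b a b :=
  Cfsg.Agent.Lib.Helper91_Sims_ARC.arc_ab

theorem arc_smul (g : G) {x y : Ω} (h : Arc G a b x y) : Arc G a b (g • x) (g • y) :=
  Cfsg.Agent.Lib.Helper91_Sims_ARC.arc_smul g h

theorem arc_trans {x y x' y' : Ω} (h : Arc G a b x y) (h' : Arc G a b x' y') :
    ∃ g : G, g • x = x' ∧ g • y = y' :=
  Cfsg.Agent.Lib.Helper91_Sims_ARC.arc_trans h h'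

theorem adj_symm {x y : Ω} (h : Adj G a b x y) : Adj G a b y x :=
  Cfsg.Agent.Lib.Helper91_Sims_ARC.adj_symm h

theorem adj_smul (g : G) {x y : Ω} (h : Adj G a b x y) : Adj G a b (g • x) (g • y) :=
  Cfsg.Agent.Lib.Helper91_Sims_ARC.adj_smul g h

theorem arc_ne (H : Hyp G a b) {x y : Ω} (h : Arc G a b x y) : x ≠ y :=
  Cfsg.Agent.Lib.Helper91_Sims_ARC.arc_ne H h

theorem adj_ne (H : Hyp G a b) {x y : Ω} (h : Adj G a b x y) : x ≠ y :=
  Cfsg.Agent.Lib.Helper91_Sims_ARC.adj_ne H h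

theorem card_out (H : Hyp G a b) (x : Ω) : Nat.card {y : Ω // Arc G a b x y} = 3 :=
  Cfsg.Agent.Lib.Helper91_Sims_ARC.card_out H x

theorem card_in (H : Hyp G a b) (y : Ω) : Nat.card {x : Ω // Arc G a b x y} = 3 :=
  Cfsg.Agent.Lib.Helper91_Sims_ARC.card_in H y

theorem card_stab (H : Hyp G a b) {x y : Ω} (h : Adj G a b x y) :
    Nat.card (stabilizer G x) = 3 * Nat.card (Tst G x y) :=
  Cfsg.Agent.Lib.Helper91_Sims_ARC.card_stab H h

theorem self_paired (h : Arc G a b b a) {x y : Ω} (hxy : Arc G a b x y) : Arc G a b y x :=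
  Cfsg.Agent.Lib.Helper91_Sims_ARC.self_paired h hxy

/-- B-EQUIV: equivariance of all the definitions, and the normality facts that follow from it. -/
theorem stab_smul (g : G) (x : Ω) : stabilizer G (g • x) = cj g (stabilizer G x) :=
  Cfsg.Agent.Lib.Helper12_Sims_BEQUIV.stab_smul g x

theorem Tst_smul (g : G) (x y : Ω) : Tst G (g • x) (g • y) = cj g (Tst G x y) :=
  Cfsg.Agent.Lib.Helper12_Sims_BEQUIV.Tst_smul g x y

theorem Kst_smul (g : G) (x : Ω) : Kst G a b (g • x) = cj g (Kst G a b x) :=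
  Cfsg.Agent.Lib.Helper12_Sims_BEQUIV.Kst_smul g x

theorem Vst_smul (g : G) (x : Ω) : Vst G a b (g • x) = cj g (Vst G a b x) :=
  Cfsg.Agent.Lib.Helper12_Sims_BEQUIV.Vst_smul g x

theorem Nst_smul (g : G) (x : Ω) : Nst G a b (g • x) = cj g (Nst G a b x) :=
  Cfsg.Agent.Lib.Helper12_Sims_BEQUIV.Nst_smul g x

theorem Zpr_smul (g : G) (x : Ω) : Zpr G a b (g • x) = cj g (Zpr G a b x) :=
  Cfsg.Agent.Lib.Helper12_Sims_BEQUIV.Zpr_smul g x

theorem Cst_smul (g : G) (x : Ω) : Cst G a b (g • x) = cj g (Cst G a b x) :=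
  Cfsg.Agent.Lib.Helper12_Sims_BEQUIV.Cst_smul g x

theorem Rst_smul (g : G) (x y : Ω) : Rst G a b (g • x) (g • y) = cj g (Rst G a b x y) :=
  Cfsg.Agent.Lib.Helper12_Sims_BEQUIV.Rst_smul g x y

theorem Zst_smul (g : G) (x y : Ω) : Zst G a b (g • x) (g • y) = cj g (Zst G a b x y) :=
  Cfsg.Agent.Lib.Helper12_Sims_BEQUIV.Zst_smul g x y

theorem Kst_normal (x : Ω) : ∀ g ∈ stabilizer G x, Nrm g (Kst G a b x) :=
  Cfsg.Agent.Lib.Helper12_Sims_BEQUIV.Kst_normal x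

theorem Vst_normal (x : Ω) : ∀ g ∈ stabilizer G x, Nrm g (Vst G a b x) :=
  Cfsg.Agent.Lib.Helper12_Sims_BEQUIV.Vst_normal x

theorem Nst_normal (x : Ω) : ∀ g ∈ stabilizer G x, Nrm g (Nst G a b x) :=
  Cfsg.Agent.Lib.Helper12_Sims_BEQUIV.Nst_normal x

theorem Cst_normal (x : Ω) : ∀ g ∈ stabilizer G x, Nrm g (Cst G a b x) :=
  Cfsg.Agent.Lib.Helper12_Sims_BEQUIV.Cst_normal x

theorem Vst_le_Kst (x : Ω) : Vst G a b x ≤ Kst G a b x :=
  Cfsg.Agent.Lib.Helper82_Sims_CBALL.Vst_le_Kst x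

theorem Nst_le_Vst (x : Ω) : Nst G a b x ≤ Vst G a b x :=
  Cfsg.Agent.Lib.Helper12_Sims_BEQUIV.Nst_le_Vst x

theorem Kst_le_Tst {x y : Ω} (h : Adj G a b x y) : Kst G a b x ≤ Tst G x y :=
  Cfsg.Agent.Lib.Helper12_Sims_BEQUIV.Kst_le_Tst h

theorem Kst_le_stab (x : Ω) : Kst G a b x ≤ stabilizer G x :=
  Cfsg.Agent.Lib.Helper82_Sims_CBALL.Kst_le_stab x

theorem Vst_comm (x : Ω) : ∀ v ∈ Vst G a b x, ∀ k ∈ Kst G a b x, k * v = v * k :=
  Cfsg.Agent.Lib.Helper12_Sims_BEQUIV.Vst_comm x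

theorem Vst_sq (x : Ω) : ∀ v ∈ Vst G a b x, v ^ 2 = 1 :=
  Cfsg.Agent.Lib.Helper12_Sims_BEQUIV.Vst_sq x

theorem Rst_le_Nst (x y : Ω) : Rst G a b x y ≤ Nst G a b x :=
  Cfsg.Agent.Lib.Helper12_Sims_BEQUIV.Rst_le_Nst x y

theorem mem_Kst_iff (x : Ω) (g : G) :
    g ∈ Kst G a b x ↔ g • x = x ∧ ∀ y, Adj G a b x y → g • y = y :=
  Cfsg.Agent.Lib.Helper12_Sims_BEQUIV.mem_Kst_iff x g

end PartB

/-! ## Part S: paper §1-§3 (structure at the base arc `(a,b)`, then the interface `FF`) -/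
section PartS
variable {G Ω : Type*} [Group G] [MulAction G Ω] {a b : Ω}

/-- S-P5 (paper 1.1). -/
theorem no_big_prime (H : Hyp G a b) (p : ℕ) (hp : p.Prime) (h5 : 5 ≤ p) :
    ¬ p ∣ Nat.card (stabilizer G a) :=
  Cfsg.Agent.Lib.Helper63_Sims_SP5.no_big_prime H p hp h5

/-- S-P3 (paper 1.2). -/
theorem three_not_dvd (H : Hyp G a b) : ¬ 3 ∣ Nat.card (Tst G a b) :=
  Cfsg.Agent.Lib.Helper42_Sims_SP3.three_not_dvd H

/-- S-TWO: `T_xy` is a 2-group for all adjacent `x,y` (from S-P5, S-P3, B-ARC, B-EQUIV). -/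
theorem two_group (H : Hyp G a b) {x y : Ω} (h : Adj G a b x y) : IsPGroup 2 (Tst G x y) :=
  Cfsg.Agent.Lib.Helper10_Sims_STWO.two_group H h

/-- S-A3 (paper 1.3). -/
theorem a3_case (H : Hyp G a b) (hA : A3case G a b) : Nat.card (stabilizer G a) = 3 :=
  Cfsg.Agent.Lib.Helper10_Sims_SA3.a3_case H hA

/-- S-K (paper 1.4): in the `S₃`-case `K_x` has index 2 in `T_xy` for ALL adjacent `x,y` (both orientations). -/
theorem K_index (H : Hyp G a b) (hS : ¬ A3case G a b) {x y : Ω} (h : Adj G a b x y) :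
    Nat.card (Tst G x y) = 2 * Nat.card (Kst G a b x) :=
  Cfsg.Agent.Lib.Helper12_Sims_SK.K_index H hS h

/-- S-N (paper 1.5): the shift element. -/
theorem exists_shift (H : Hyp G a b) : ∃ n : G, n • a = b ∧ cj n (Tst G a b) = Tst G a b :=
  Cfsg.Agent.Lib.Helper10_Sims_SN.exists_shift H

/-- S-CHAR (paper 1.5c). -/
theorem char_bot (H : Hyp G a b) (n : G) (hna : n • a = b) (Y : Subgroup G) (hY : Y ≤ Tst G a b)
    (hYn : cj n Y = Y) (hYa : ∀ g ∈ stabilizer G a, Nrm g Y) : Y = ⊥ :=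
  Cfsg.Agent.Lib.Helper79_Sims_CHAR.char_bot H n hna Y hY hYn hYa

/-- S-NC1 (paper §2): non-constrained case, `|K_a| ≤ 2`. -/
theorem nc_card (H : Hyp G a b) (hS : ¬ A3case G a b) (hnc : ¬ Constrained G a b) :
    Nat.card (Kst G a b a) ≤ 2 :=
  Cfsg.Agent.Lib.Helper63_Sims_SNC1.nc_card H hS hnc

/-- S-NC2: `K_a = 1` gives `S₃`. -/
theorem iso_S3 (H : Hyp G a b) (hS : ¬ A3case G a b) (hK : Nat.card (Kst G a b a) = 1) :
    Nonempty (stabilizer G a ≃* Equiv.Perm (Fin 3)) :=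
  Cfsg.Agent.Lib.Helper46_Sims_SNC2.iso_S3 H hS hK

/-- S-NC3 (paper §2): `|K_a| = 2`, non-constrained, gives `D₁₂`. -/
theorem iso_D12 (H : Hyp G a b) (hS : ¬ A3case G a b) (hnc : ¬ Constrained G a b)
    (hK : Nat.card (Kst G a b a) = 2) : Nonempty (stabilizer G a ≃* DihedralGroup 6) :=
  Cfsg.Agent.Lib.Helper88_Sims_SNC3.iso_D12 H hS hnc hK

/-- S-FF1 (paper 3.1, 3.2). -/
theorem cent_a (H : Hyp G a b) (hS : ¬ A3case G a b) (hc : Constrained G a b) :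
    ∀ g ∈ stabilizer G a, (∀ v ∈ Vst G a b a, g * v = v * g) → g ∈ Kst G a b a :=
  Cfsg.Agent.Lib.Helper86_Sims_SFF1.cent_a H hS hc

/-- S-FF2 (paper 3.3). -/
theorem exists_A (H : Hyp G a b) (hS : ¬ A3case G a b) (hc : Constrained G a b) :
    ∃ A, IsMaxEA (Tst G a b) A ∧ ¬ A ≤ Kst G a b a :=
  Cfsg.Agent.Lib.Helper10_Sims_SFF2.exists_A H hS hc

/-- S-FF3 (paper 3.4): every `t ∈ T_ay \ K_a` (`y` any neighbour of `a`) induces a transvection on `V_a`. -/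
theorem transvection (H : Hyp G a b) (hS : ¬ A3case G a b) (hc : Constrained G a b) (y : Ω)
    (hy : Adj G a b a y) (t : G) (ht : t ∈ Tst G a y) (htK : t ∉ Kst G a b a) :
    Nat.card (Vst G a b a) = 2 * Nat.card (CentIn (Vst G a b a) (Subgroup.zpowers t)) :=
  Cfsg.Agent.Lib.Helper86_Sims_SFF3.transvection H hS hc y hy t ht htK

/-- S-FF4 (paper 3.6): the structure of `V_a`. -/
theorem struct_a (H : Hyp G a b) (hS : ¬ A3case G a b) (hc : Constrained G a b) :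
    Nat.card (Nst G a b a) = 4 ∧
    (∀ d ∈ stabilizer G a, orderOf d = 3 → ∀ v ∈ Nst G a b a, d * v = v * d → v = 1) ∧
    Nat.card (Vst G a b a) = Nat.card (Zpr G a b a) * 4 ∧
    (∀ y, Adj G a b a y → Nat.card (Rst G a b a y) = 2 ∧
      Nat.card (Vst G a b a) = 2 * Nat.card (Zst G a b a y)) :=
  Cfsg.Agent.Lib.Helper25_Sims_SFF4.struct_a H hS hc

/-- S-FF5 (paper 3.1, 3.6): `C_{V_a}(T) = Ω₁Z(T) = C_{V_b}(T)` and `|Z'_a| ≤ 2`. -/
theorem zsymm_ab (H : Hyp G a b) (hS : ¬ A3case G a b) (hc : Constrained G a b) :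
    Zst G a b a b = Zst G a b b a ∧ Nat.card (Zpr G a b a) ≤ 2 :=
  Cfsg.Agent.Lib.Helper91_Sims_FF5.zsymm_ab_aux H hc (struct_a H hS hc)

/-- S-FF6 (paper (G3)). -/
theorem g3_a (H : Hyp G a b) (hS : ¬ A3case G a b) (hc : Constrained G a b) (y y' : Ω)
    (hy : Adj G a b a y) (hy' : Adj G a b a y') (hR : Rst G a b a y = Rst G a b a y') :
    Tst G a y = Tst G a y' :=
  Cfsg.Agent.Lib.Helper42_Sims_SFF6.g3_a_of_struct H (struct_a H hS hc) y y' hy hy' hR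

/-- S-FF7: assembly of the interface (transport along `G`, both orientations). -/
theorem ff (H : Hyp G a b) (hS : ¬ A3case G a b) (hc : Constrained G a b) : FF G a b :=
  Cfsg.Agent.Lib.Helper91_Sims_FF7.ff_aux H Cfsg.Agent.Lib.Helper91_Sims_FF7.eqv (fun h => two_group H h) (fun h => K_index H hS h) (cent_a H hS hc) (struct_a H hS hc) (zsymm_ab H hS hc) (g3_a H hS hc)

end PartS

/-! ## Part C: paper §4 (critical distance), everything from the interface `FF` -/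
section PartC
variable {G Ω : Type*} [Group G] [MulAction G Ω] {a b : Ω}

/-- C-CONS: consequences of the interface used everywhere below. -/
theorem exists_three (H : Hyp G a b) (F : FF G a b) (x : Ω) :
    ∃ d ∈ stabilizer G x, orderOf d = 3 :=
  Cfsg.Agent.Lib.Helper99_Sims_CCONS.exists_three H F x

theorem gen_Td (H : Hyp G a b) (F : FF G a b) {x y : Ω} (h : Adj G a b x y) (d : G)
    (hd : d ∈ stabilizer G x) (hd3 : orderOf d = 3) :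
    Tst G x y ⊔ Subgroup.zpowers d = stabilizer G x :=
  Cfsg.Agent.Lib.Helper99_Sims_CCONS.gen_Td H F h d hd hd3

theorem gen_TT (H : Hyp G a b) (F : FF G a b) {x y y' : Ω} (h : Adj G a b x y)
    (h' : Adj G a b x y') (hne : Tst G x y ≠ Tst G x y') :
    Tst G x y ⊔ Tst G x y' = stabilizer G x :=
  Cfsg.Agent.Lib.Helper99_Sims_CCONS.gen_TT H F h h' hne

theorem Zpr_inf_Nst (H : Hyp G a b) (F : FF G a b) (x : Ω) : Zpr G a b x ⊓ Nst G a b x = ⊥ :=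
  Cfsg.Agent.Lib.Helper99_Sims_CCONS.Zpr_inf_Nst H F x

theorem Zpr_sup_Nst (H : Hyp G a b) (F : FF G a b) (x : Ω) :
    Zpr G a b x ⊔ Nst G a b x = Vst G a b x :=
  Cfsg.Agent.Lib.Helper99_Sims_CCONS.Zpr_sup_Nst H F x

theorem Rst_le_Zst (H : Hyp G a b) (F : FF G a b) {x y : Ω} (h : Adj G a b x y) :
    Rst G a b x y ≤ Zst G a b x y :=
  Cfsg.Agent.Lib.Helper99_Sims_CCONS.Rst_le_Zst H F h

theorem Zst_eq (H : Hyp G a b) (F : FF G a b) {x y : Ω} (h : Adj G a b x y) :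
    Zst G a b x y = Zpr G a b x ⊔ Rst G a b x y :=
  Cfsg.Agent.Lib.Helper99_Sims_CCONS.Zst_eq H F h

theorem Zst_inf_Nst (H : Hyp G a b) (F : FF G a b) {x y : Ω} (h : Adj G a b x y) :
    Zst G a b x y ⊓ Nst G a b x = Rst G a b x y :=
  Cfsg.Agent.Lib.Helper99_Sims_CCONS.Zst_inf_Nst H F h

theorem K_sup_t (H : Hyp G a b) (F : FF G a b) {x y : Ω} (h : Adj G a b x y) (t : G)
    (ht : t ∈ Tst G x y) (htK : t ∉ Kst G a b x) :
    Kst G a b x ⊔ Subgroup.zpowers t = Tst G x y :=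
  Cfsg.Agent.Lib.Helper99_Sims_CCONS.K_sup_t H F h t ht htK

theorem Zst_eq_cent (H : Hyp G a b) (F : FF G a b) {x y : Ω} (h : Adj G a b x y) (t : G)
    (ht : t ∈ Tst G x y) (htK : t ∉ Kst G a b x) :
    Zst G a b x y = CentIn (Vst G a b x) (Subgroup.zpowers t) :=
  Cfsg.Agent.Lib.Helper99_Sims_CCONS.Zst_eq_cent H F h t ht htK

theorem comm_t_mem (H : Hyp G a b) (F : FF G a b) {x y : Ω} (h : Adj G a b x y) :
    ∃ r, r ≠ 1 ∧ Rst G a b x y = Subgroup.zpowers r ∧ r ^ 2 = 1 ∧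
      ∀ t ∈ Tst G x y, ∀ v ∈ Vst G a b x, comm t v = 1 ∨ comm t v = r :=
  Cfsg.Agent.Lib.Helper99_Sims_CCONS.comm_t_mem H F h

/-- C-EX (paper §4 preamble). -/
theorem exists_crit (H : Hyp G a b) (F : FF G a b) : ∃ bb, 1 ≤ bb ∧ IsCrit G a b bb :=
  Cfsg.Agent.Lib.Helper46_Sims_CEX.exists_crit H F

/-- C-BALL (paper 4.1). -/
theorem ball (H : Hyp G a b) (F : FF G a b) {bb : ℕ} (hb : IsCrit G a b bb) (w : ℕ → Ω) (j : ℕ)
    (hj : j ≤ bb) (hw : IsWalk G a b w j) : Vst G a b (w 0) ≤ stabilizer G (w j) :=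
  Cfsg.Agent.Lib.Helper82_Sims_CBALL.ball H F hb w j hj hw

/-- C-SYMM (paper 4.2). -/
theorem symm_crit (H : Hyp G a b) (F : FF G a b) {bb : ℕ} (hb : IsCrit G a b bb) (h1 : 1 ≤ bb)
    (w : ℕ → Ω) (hw : IsBad G a b w bb) :
    IsBad G a b (fun i => w (bb - i)) bb ∧
    Rst G a b (w 0) (w 1) = Rst G a b (w bb) (w (bb - 1)) ∧
    Vst G a b (w 0) ⊓ Kst G a b (w bb) = Zst G a b (w 0) (w 1) ∧
    Vst G a b (w 0) ≤ Tst G (w bb) (w (bb - 1)) ∧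
    w 0 ≠ w bb ∧ (2 ≤ bb → w 0 ≠ w (bb - 1)) :=
  Cfsg.Agent.Lib.Helper99_Sims_CSYMM.symm_crit H F hb h1 w hw

/-- C-A (paper 4.3): not all `V_δ`, `δ ~ x_0`, fix `x_b`. -/
theorem caseA (H : Hyp G a b) (F : FF G a b) {bb : ℕ} (hb : IsCrit G a b bb) (h2 : 2 ≤ bb)
    (w : ℕ → Ω) (hw : IsBad G a b w bb) :
    ∃ δ, Adj G a b δ (w 0) ∧ ¬ Vst G a b δ ≤ stabilizer G (w bb) :=
  Cfsg.Agent.Lib.Helper52_Sims_CA.caseA H F hb h2 w hw

/-- C-B (paper 4.4): the shifted critical walk. -/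
theorem caseB (H : Hyp G a b) (F : FF G a b) {bb : ℕ} (hb : IsCrit G a b bb) (h2 : 2 ≤ bb)
    (w : ℕ → Ω) (hw : IsBad G a b w bb) :
    ∃ δ, Adj G a b δ (w 0) ∧ δ ≠ w 1 ∧
      IsBad G a b (fun i => if i = 0 then δ else w (i - 1)) bb ∧
      Tst G (w (bb - 1)) (w (bb - 2)) ≠ Tst G (w (bb - 1)) (w bb) :=
  Cfsg.Agent.Lib.Helper41_Sims_CBaux.caseB_aux H F hb h2 w hw (caseA H F hb h2 w hw)

/-- C-Z2 (paper 4.5). -/
theorem z2 (H : Hyp G a b) (F : FF G a b) (hZ : ∀ x, Nat.card (Zpr G a b x) = 1) {bb : ℕ}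
    (hb : IsCrit G a b bb) : bb ≤ 1 :=
  Cfsg.Agent.Lib.Helper42_Sims_CZ2.z2 H F hZ hb

/-- C-CX (paper 3.7): the involutions `c_x`. -/
theorem cx (H : Hyp G a b) (F : FF G a b) (hZ : ∀ x, Nat.card (Zpr G a b x) = 2) :
    ∃ c : Ω → G, (∀ x, c x ≠ 1 ∧ Zpr G a b x = Subgroup.zpowers (c x)) ∧
      (∀ (g : G) x, c (g • x) = g * c x * g⁻¹) ∧ Function.Injective c ∧
      (∀ x y, Adj G a b x y → c x * c y = c y * c x ∧
        (Zst G a b x y : Set G) = {1, c x, c y, c x * c y}) ∧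
      (∀ x y, Adj G a b x y → Rst G a b x y = Subgroup.zpowers (c y) ∨
        Rst G a b x y = Subgroup.zpowers (c x * c y)) :=
  Cfsg.Agent.Lib.Helper99_Sims_CCX.cx H F hZ

/-- C-Z4A (paper 4.6(a)): not self-paired. -/
theorem z4a (H : Hyp G a b) (F : FF G a b) (hZ : ∀ x, Nat.card (Zpr G a b x) = 2)
    (hns : ¬ Arc G a b b a) {bb : ℕ} (hb : IsCrit G a b bb) : bb ≤ 1 :=
  Cfsg.Agent.Lib.Helper65_Sims_CZ4A.z4a H F hZ hns hb

/-- C-Z4B2 (paper 4.6(b), ε = 2). -/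
theorem z4b2 (H : Hyp G a b) (F : FF G a b) (hZ : ∀ x, Nat.card (Zpr G a b x) = 2)
    (hs : Arc G a b b a) (he : Rst G a b a b ≠ Zpr G a b b) {bb : ℕ} (hb : IsCrit G a b bb) :
    bb ≤ 1 :=
  Cfsg.Agent.Lib.Helper10_Sims_CZ4B2.z4b2_of_A H F hZ hs he hb (fun h2 w hw => caseA H F hb h2 w hw)

/-- C-Z4B1 (paper 4.6(b), ε = 1): the `D₁₆` argument. -/
theorem z4b1 (H : Hyp G a b) (F : FF G a b) (hZ : ∀ x, Nat.card (Zpr G a b x) = 2)
    (hs : Arc G a b b a) (he : Rst G a b a b = Zpr G a b b) {bb : ℕ} (hb : IsCrit G a b bb) :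
    bb ≤ 1 :=
  Cfsg.Agent.Lib.Helper13_Sims_CZ4B1.z4b1_of H F (fun hb h1 w hw => symm_crit H F hb h1 w hw) (cx H F hZ) hs he hb

end PartC

/-! ## Part E: paper §5 (`b = 1`) -/
section PartE
variable {G Ω : Type*} [Group G] [MulAction G Ω] {a b : Ω}

/-- E-51 (paper 5.1), at every vertex. -/
theorem split_K (H : Hyp G a b) (F : FF G a b) (hb1 : IsCrit G a b 1) (x : Ω) :
    Nst G a b x ⊔ Cst G a b x = Kst G a b x ∧ Nst G a b x ⊓ Cst G a b x = ⊥ ∧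
    Om1Z (Cst G a b x) = Zpr G a b x ∧
    (∀ y, Adj G a b x y → ∀ Y : Subgroup G, Y ≤ Cst G a b x → (∀ g ∈ Tst G x y, Nrm g Y) →
      ∀ g ∈ stabilizer G x, Nrm g Y) :=
  Cfsg.Agent.Lib.Helper33_Sims_E51.split_K H F hb1 x

/-- E-52 (paper 5.2). -/
theorem Cst_inf (H : Hyp G a b) (F : FF G a b) (hb1 : IsCrit G a b 1) :
    Cst G a b a ⊓ Cst G a b b = ⊥ ∧ (∀ u ∈ Cst G a b a, ∀ v ∈ Cst G a b b, u * v = v * u) ∧
    Nat.card (Cst G a b a) ≤ 8 ∧ Nat.card (Tst G a b) = 8 * Nat.card (Cst G a b a) :=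
  Cfsg.Agent.Lib.Helper33_Sims_E52.Cst_inf H F hb1

/-- E-53 (paper 5.3). -/
theorem card_Cst_ne_four (H : Hyp G a b) (F : FF G a b) (hb1 : IsCrit G a b 1) :
    Nat.card (Cst G a b a) ≠ 4 :=
  Cfsg.Agent.Lib.Helper33_Sims_E53.card_Cst_ne_four H F hb1

/-- E-54 (paper 5.4). -/
theorem card_Cst_ne_eight (H : Hyp G a b) (F : FF G a b) (hb1 : IsCrit G a b 1) :
    Nat.card (Cst G a b a) ≠ 8 :=
  Cfsg.Agent.Lib.Helper33_Sims_E54.card_Cst_ne_eight H F hb1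

/-- E-55 (paper 5.5). -/
theorem card_K (H : Hyp G a b) (F : FF G a b) (hb1 : IsCrit G a b 1) :
    Nat.card (Kst G a b a) = 4 ∨ Nat.card (Kst G a b a) = 8 :=
  Cfsg.Agent.Lib.Helper82_Sims_E55.card_K_aux H F ⟨(Cst_inf H F hb1).2.2.1, (Cst_inf H F hb1).2.2.2⟩ (card_Cst_ne_four H F hb1) (card_Cst_ne_eight H F hb1)

/-- I-S4. -/
theorem iso_S4 (H : Hyp G a b) (F : FF G a b) (hb1 : IsCrit G a b 1)
    (hK : Nat.card (Kst G a b a) = 4) : Nonempty (stabilizer G a ≃* Equiv.Perm (Fin 4)) :=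
  Cfsg.Agent.Lib.Helper49_Sims_IS4.iso_S4 H F hb1 hK

/-- I-S4C2. -/
theorem iso_S4C2 (H : Hyp G a b) (F : FF G a b) (hb1 : IsCrit G a b 1)
    (hK : Nat.card (Kst G a b a) = 8) :
    Nonempty (stabilizer G a ≃* Equiv.Perm (Fin 4) × Multiplicative (ZMod 2)) :=
  Cfsg.Agent.Lib.Helper88_Sims_IS4C2.iso_S4C2 H F hb1 hK

end PartE

end Cfsg.Agent.Lib.Helper13_SimsPk
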