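import Mathlib
import Cfsg.Prelude.Def_ClassicalGeometry
import Cfsg.Agent.Lib.Helper13_Blocks

set_option autoImplicit false
set_option linter.unusedSectionVars false

namespace Cfsg.Agent.Lib.Helper13_SpBlock

open Matrix Cfsg.Agent.Lib.Helper13_Blocks

variable {F : Type*} [Field F] {k l : ℕ}

/-- the coordinate subspace spanned by the first `k` symplectic pairs -/
def W0 (F : Type*) [Field F] (k l : ℕ) : Set (Fin (k + l) ⊕ Fin (k + l) → F) :=
  {v | ∀ y : Fin l ⊕ Fin l, v (eSp k l (Sum.inr y)) = 0}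

theorem blk_mem (A : Matrix (Fin k ⊕ Fin k) (Fin k ⊕ Fin k) F)
    (D : Matrix (Fin l ⊕ Fin l) (Fin l ⊕ Fin l) F)
    (hA : A ∈ Matrix.symplecticGroup (Fin k) F) (hD : D ∈ Matrix.symplecticGroup (Fin l) F) :
    gblk4 (eSp k l) A 0 0 D ∈ Matrix.symplecticGroup (Fin (k + l)) F := by
  rw [SymplecticGroup.mem_iff] at hA hD ⊢
  rw [J_eq_gblk4, gblk4_transpose, gblk4_mul, gblk4_mul]
  simp only [Matrix.transpose_zero, Matrix.mul_zero, Matrix.zero_mul, add_zero, zero_add, hA, hD]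

/-- block diagonal symplectic matrices -/
def blkSp : Matrix.symplecticGroup (Fin k) F × Matrix.symplecticGroup (Fin l) F →*
    Matrix.symplecticGroup (Fin (k + l)) F where
  toFun x := ⟨gblk4 (eSp k l) x.1.1 0 0 x.2.1, blk_mem x.1.1 x.2.1 x.1.2 x.2.2⟩
  map_one' := by
    apply Subtype.ext
    show gblk4 (eSp k l) (1 : Matrix (Fin k ⊕ Fin k) (Fin k ⊕ Fin k) F) 0 0
      (1 : Matrix (Fin l ⊕ Fin l) (Fin l ⊕ Fin l) F) = 1
    exact gblk4_one _
  map_mul' x y := by
    apply Subtype.ext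
    show gblk4 (eSp k l) (x.1.1 * y.1.1) 0 0 (x.2.1 * y.2.1) =
      gblk4 (eSp k l) x.1.1 0 0 x.2.1 * gblk4 (eSp k l) y.1.1 0 0 y.2.1
    rw [gblk4_mul]
    simp

theorem blkSp_val (x : Matrix.symplecticGroup (Fin k) F × Matrix.symplecticGroup (Fin l) F) :
    (blkSp x).1 = gblk4 (eSp k l) x.1.1 0 0 x.2.1 := rfl

theorem blkSp_injective : Function.Injective (blkSp (F := F) (k := k) (l := l)) := by
  intro x y hxy
  have h1 : (blkSp x).1 = (blkSp y).1 := by rw [hxy]
  rw [blkSp_val, blkSp_val] at h1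
  obtain ⟨hA, -, -, hD⟩ := gblk4_inj _ h1
  exact Prod.ext (Subtype.ext hA) (Subtype.ext hD)

theorem blkSp_maps (x : Matrix.symplecticGroup (Fin k) F × Matrix.symplecticGroup (Fin l) F)
    (v : Fin (k + l) ⊕ Fin (k + l) → F) (hv : v ∈ W0 F k l) : (blkSp x).1 *ᵥ v ∈ W0 F k l := by
  intro j
  rw [blkSp_val, gblk4_mulVec_inr]
  have h1 : v ∘ (eSp k l) ∘ Sum.inr = 0 := by
    funext i
    exact hv i
  rw [h1, Matrix.mulVec_zero, Matrix.zero_mulVec]
  simp

/-- a symplectic matrix mapping `W0` into itself is block diagonal -/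
theorem exists_blkSp_eq (g : Matrix.symplecticGroup (Fin (k + l)) F)
    (hmaps : ∀ v ∈ W0 F k l, g.1 *ᵥ v ∈ W0 F k l) :
    ∃ x : Matrix.symplecticGroup (Fin k) F × Matrix.symplecticGroup (Fin l) F, blkSp x = g := by
  set A := (g.1).submatrix (eSp k l ∘ Sum.inl) (eSp k l ∘ Sum.inl) with hA
  set B := (g.1).submatrix (eSp k l ∘ Sum.inl) (eSp k l ∘ Sum.inr) with hB
  set C := (g.1).submatrix (eSp k l ∘ Sum.inr) (eSp k l ∘ Sum.inl) with hC
  set D := (g.1).submatrix (eSp k l ∘ Sum.inr) (eSp k l ∘ Sum.inr) with hD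
  have hg4 : g.1 = gblk4 (eSp k l) A B C D := eq_gblk4 (eSp k l) g.1
  have hC0 : C = 0 := by
    ext i j
    have h1 : (Pi.single (eSp k l (Sum.inl j)) (1 : F) : Fin (k + l) ⊕ Fin (k + l) → F) ∈
        W0 F k l := by
      intro y
      rw [Pi.single_apply, if_neg]
      intro h
      have := (eSp k l).injective h
      exact Sum.inr_ne_inl this
    have h2 := hmaps _ h1 i
    rw [Matrix.mulVec_single_one] at h2
    exact h2
  have hsymp := (SymplecticGroup.mem_iff).mp g.2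
  rw [hg4, hC0, J_eq_gblk4, gblk4_transpose, gblk4_mul, gblk4_mul] at hsymp
  simp only [Matrix.transpose_zero, Matrix.mul_zero, Matrix.zero_mul, add_zero,
    zero_add] at hsymp
  obtain ⟨hAA, hBD, -, hDD⟩ := gblk4_inj _ hsymp
  have hDmem : D ∈ Matrix.symplecticGroup (Fin l) F := SymplecticGroup.mem_iff.mpr hDD
  have hB0 : B = 0 := by
    have hu : IsUnit (Matrix.J (Fin l) F * Dᵀ).det := by
      rw [Matrix.det_mul, Matrix.det_transpose]
      exact (SymplecticGroup.symplectic_det (SymplecticGroup.J_mem (Fin l) F)).mul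
        (SymplecticGroup.symplectic_det hDmem)
    have h1 : B * (Matrix.J (Fin l) F * Dᵀ) = 0 := by rw [← Matrix.mul_assoc]; exact hBD
    have h2 := Matrix.mul_nonsing_inv_cancel_right (Matrix.J (Fin l) F * Dᵀ) B hu
    rw [h1, Matrix.zero_mul] at h2
    exact h2.symm
  rw [hB0, Matrix.zero_mul, Matrix.zero_mul, add_zero] at hAA
  have hAmem : A ∈ Matrix.symplecticGroup (Fin k) F := SymplecticGroup.mem_iff.mpr hAA
  refine ⟨(⟨A, hAmem⟩, ⟨D, hDmem⟩), ?_⟩
  apply Subtype.ext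
  rw [blkSp_val, hg4, hC0, hB0]

end Cfsg.Agent.Lib.Helper13_SpBlock
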