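import Mathlib
import Cfsg.Prelude.Def_GeometricClasses
import Cfsg.Agent.Lib.Helper13_SpExtDefs
import Cfsg.Agent.Lib.Helper13_SympTrans
import Cfsg.Agent.Lib.Helper94_OrthUniBridge

/-!
# Field subalgebras of matrices over a general index type: basic lemmas (for S5975)

A matrix of the form `μ + (rank one)` never normalises a field subalgebra with a non-scalar
element (dimension at least three); conjugates of symplectic transvections; a self-adjoint
quadratic field is generated by a self-adjoint `θ` with non-square scalar square.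
-/

set_option autoImplicit false

namespace Cfsg.Agent.Lib.Helper13_SpExtBase

open Matrix Cfsg.Agent.Lib.Helper13_Symp Cfsg.Agent.Lib.Helper13_GUSpDefs
  Cfsg.Agent.Lib.Helper13_SpExtDefs Cfsg.Agent.Lib.Helper94_OrthUniBridge

section general

variable {F : Type*} [Field F] {ι : Type} [Fintype ι] [DecidableEq ι]

theorem eq_zero_of_mulVec_eq_zero' (K : Subalgebra F (Matrix ι ι F)) {r : ℕ}
    (hK : Cfsg.Geo.IsFieldSubalgebra r K) {k : Matrix ι ι F} (hk : k ∈ K)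
    {v : ι → F} (hv : v ≠ 0) (h : k *ᵥ v = 0) : k = 0 := by
  by_contra hk0
  obtain ⟨y, hy, hxy⟩ := hK.inv k hk hk0
  have hyx : y * k = 1 := by rw [← hK.comm k hk y hy]; exact hxy
  apply hv
  calc v = (y * k) *ᵥ v := by rw [hyx, Matrix.one_mulVec]
    _ = y *ᵥ (k *ᵥ v) := by rw [Matrix.mulVec_mulVec]
    _ = 0 := by rw [h, Matrix.mulVec_zero]

/-- a field subalgebra of degree at least two has a non-scalar element -/
theorem exists_nonscalar [Nonempty ι] {k : ℕ} (hk2 : 2 ≤ k) (K : Subalgebra F (Matrix ι ι F))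
    (hK : Cfsg.Geo.IsFieldSubalgebra k K) :
    ∃ κ ∈ K, ∀ c : F, κ ≠ c • (1 : Matrix ι ι F) := by
  by_contra hcon
  push Not at hcon
  have hle : K ≤ ⊥ := by
    intro a ha
    obtain ⟨c, hc⟩ := hcon a ha
    rw [Algebra.mem_bot]
    exact ⟨c, by rw [hc, Algebra.algebraMap_eq_smul_one]⟩
  have hKbot : K = ⊥ := le_bot_iff.1 hle
  have h1 := hK.finrank_eq
  rw [hKbot, Subalgebra.finrank_bot] at h1
  omega

/-- an invertible matrix of the form `μ + (rank one)` does not normalise a field subalgebra having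
a non-scalar element, in dimension at least three -/
theorem not_mem_normalizer_rank_one' {r : ℕ} (hn : 3 ≤ Fintype.card ι)
    (K : Subalgebra F (Matrix ι ι F))
    (hK : Cfsg.Geo.IsFieldSubalgebra r K) (κ : Matrix ι ι F) (hκ : κ ∈ K)
    (hns : ∀ c : F, κ ≠ c • (1 : Matrix ι ι F))
    (g : GL ι F) (μ : F) (hμ : μ ≠ 0) (c : (ι → F) →ₗ[F] F) (w : ι → F) (hw : w ≠ 0)
    (hc : c ≠ 0) (hg : ∀ v, (g : Matrix ι ι F) *ᵥ v = μ • v + c v • w) :
    g ∉ Cfsg.Geo.subalgebraNormalizer K := by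
  classical
  intro hmem
  set G : Matrix ι ι F := (g : Matrix ι ι F) with hG
  set Gi : Matrix ι ι F := ((g⁻¹ : GL ι F) : Matrix ι ι F) with hGi
  have hgi : Gi * G = 1 := by
    rw [hGi, hG, ← Units.val_mul, inv_mul_cancel, Units.val_one]
  have hκ1 : G * κ * Gi ∈ K := (hmem κ).1 hκ
  set κ₁ : Matrix ι ι F := G * κ * Gi with hκ₁
  have hrel : G * κ = κ₁ * G := by
    rw [hκ₁, Matrix.mul_assoc, Matrix.mul_assoc, hgi, Matrix.mul_one]
  by_cases hcase : κ₁ = κ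
  · rw [hcase] at hrel
    obtain ⟨v, hv⟩ : ∃ v, c v ≠ 0 := by
      by_contra hcon
      push Not at hcon
      exact hc (LinearMap.ext hcon)
    have h1 : G *ᵥ (κ *ᵥ v) = κ *ᵥ (G *ᵥ v) := by
      rw [Matrix.mulVec_mulVec, Matrix.mulVec_mulVec, hrel]
    rw [hg, hg, Matrix.mulVec_add, Matrix.mulVec_smul, Matrix.mulVec_smul] at h1
    have h3 : c (κ *ᵥ v) • w = c v • κ *ᵥ w := add_left_cancel h1
    have h4 : κ *ᵥ w = ((c v)⁻¹ * c (κ *ᵥ v)) • w := by
      rw [mul_smul, h3, smul_smul, inv_mul_cancel₀ hv, one_smul]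
    have h5 : (κ - ((c v)⁻¹ * c (κ *ᵥ v)) • (1 : Matrix ι ι F)) *ᵥ w = 0 := by
      rw [Matrix.sub_mulVec, Matrix.smul_mulVec, Matrix.one_mulVec, h4, sub_self]
    have h6 := eq_zero_of_mulVec_eq_zero' K hK
      (K.sub_mem hκ (K.smul_mem K.one_mem _)) hw h5
    exact hns _ (sub_eq_zero.1 h6)
  · have hker : LinearMap.ker (c.prod (c.comp (Matrix.toLin' κ))) ≠ ⊥ := by
      apply LinearMap.ker_ne_bot_of_finrank_lt
      rw [Module.finrank_prod, Module.finrank_self, Module.finrank_fintype_fun_eq_card]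
      omega
    obtain ⟨v, hvmem, hv0⟩ := Submodule.exists_mem_ne_zero_of_ne_bot hker
    have hmem' := LinearMap.mem_ker.1 hvmem
    have hcv : c v = 0 := congrArg Prod.fst hmem'
    have hcκv : c (κ *ᵥ v) = 0 := congrArg Prod.snd hmem'
    have h1 : G *ᵥ (κ *ᵥ v) = κ₁ *ᵥ (G *ᵥ v) := by
      rw [Matrix.mulVec_mulVec, Matrix.mulVec_mulVec, hrel]
    rw [hg, hg, hcv, hcκv, zero_smul, add_zero, add_zero, Matrix.mulVec_smul] at h1
    have h3 : κ *ᵥ v = κ₁ *ᵥ v := smul_right_injective (ι → F) hμ h1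
    have h5 : (κ₁ - κ) *ᵥ v = 0 := by
      rw [Matrix.sub_mulVec, h3, sub_self]
    have h6 := eq_zero_of_mulVec_eq_zero' K hK
      (K.sub_mem hκ1 hκ) hv0 h5
    exact hcase (sub_eq_zero.1 h6)

end general

section symp

variable {F : Type*} [Field F]

/-- no conjugate of a symplectic transvection normalises a field subalgebra of degree at least two
(dimension `2d ≥ 4`) -/
theorem not_conj_transvection (d : ℕ) (hd : 2 ≤ d) {k : ℕ} (hk2 : 2 ≤ k)
    (K : Subalgebra F (Matrix (Fin d ⊕ Fin d) (Fin d ⊕ Fin d) F))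
    (hK : Cfsg.Geo.IsFieldSubalgebra k K) (v : Fin d ⊕ Fin d → F) (hv : v ≠ 0)
    (t h : GL (Fin d ⊕ Fin d) F)
    (ht : (t : Matrix (Fin d ⊕ Fin d) (Fin d ⊕ Fin d) F) = Cfsg.sympTransvection d v 1) :
    h⁻¹ * t * h ∉ Cfsg.Geo.subalgebraNormalizer K := by
  classical
  have hne : Nonempty (Fin d ⊕ Fin d) := ⟨Sum.inl ⟨0, by omega⟩⟩
  obtain ⟨κ, hκK, hκns⟩ := exists_nonscalar hk2 K hK
  set H : Matrix (Fin d ⊕ Fin d) (Fin d ⊕ Fin d) F := (h : Matrix (Fin d ⊕ Fin d) (Fin d ⊕ Fin d) F)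
    with hH
  set Hi : Matrix (Fin d ⊕ Fin d) (Fin d ⊕ Fin d) F :=
    ((h⁻¹ : GL (Fin d ⊕ Fin d) F) : Matrix (Fin d ⊕ Fin d) (Fin d ⊕ Fin d) F) with hHi
  have hHHi : H * Hi = 1 := by rw [hH, hHi]; exact Units.mul_inv h
  have hHiH : Hi * H = 1 := by rw [hH, hHi]; exact Units.inv_mul h
  set w : Fin d ⊕ Fin d → F := Hi *ᵥ v with hw
  have hw0 : w ≠ 0 := by
    intro h0
    apply hv
    have h1 : H *ᵥ w = v := by rw [hw, Matrix.mulVec_mulVec, hHHi, Matrix.one_mulVec]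
    rw [← h1, h0, Matrix.mulVec_zero]
  set c : (Fin d ⊕ Fin d → F) →ₗ[F] F :=
    { toFun := fun x => Cfsg.sympForm d F (H *ᵥ x) v
      map_add' := fun x y => by rw [Matrix.mulVec_add, sympForm_add_left]
      map_smul' := fun a x => by rw [Matrix.mulVec_smul, sympForm_smul_left]; rfl } with hc
  have hcx : ∀ x, c x = Cfsg.sympForm d F (H *ᵥ x) v := fun x => rfl
  have hc0 : c ≠ 0 := by
    intro h0
    obtain ⟨y, hy⟩ := Cfsg.Agent.Lib.Helper13_SympTrans.exists_sympForm_ne_zero d hv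
    apply hy
    have h1 : c (Hi *ᵥ y) = 0 := by rw [h0]; rfl
    rw [hcx, Matrix.mulVec_mulVec, hHHi, Matrix.one_mulVec] at h1
    rw [sympForm_swap, h1, neg_zero]
  apply not_mem_normalizer_rank_one' (by rw [Fintype.card_sum, Fintype.card_fin]; omega) K hK κ hκK
    hκns _ 1 one_ne_zero c w hw0 hc0
  intro x
  rw [Units.val_mul, Units.val_mul, ht, ← Matrix.mulVec_mulVec, ← Matrix.mulVec_mulVec,
    sympTransvection_mulVec, Matrix.mulVec_add, Matrix.mulVec_smul, Matrix.mulVec_mulVec, hHiH,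
    Matrix.one_mulVec, one_smul, one_mul, hcx]

/-- a self-adjoint quadratic field of matrices is generated by a self-adjoint `θ` with non-square
scalar square -/
theorem exists_theta_sa (h2 : (2 : F) ≠ 0) (d : ℕ) (hd : 1 ≤ d)
    (K : Subalgebra F (Matrix (Fin d ⊕ Fin d) (Fin d ⊕ Fin d) F))
    (hK : Cfsg.Geo.IsFieldSubalgebra 2 K)
    (hsa : Cfsg.Geo.IsSelfAdjointFor (Cfsg.sympForm d F) K) :
    ∃ (θ : Matrix (Fin d ⊕ Fin d) (Fin d ⊕ Fin d) F) (Δ : F), θ ∈ K ∧ ¬ IsSquare Δ ∧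
      θ * θ = Δ • (1 : Matrix (Fin d ⊕ Fin d) (Fin d ⊕ Fin d) F) ∧
      (∀ k ∈ K, ∃ a b : F, k = a • (1 : Matrix (Fin d ⊕ Fin d) (Fin d ⊕ Fin d) F) + b • θ) ∧
      IsSelfAdj d θ := by
  classical
  have hne : Nonempty (Fin d ⊕ Fin d) := ⟨Sum.inl ⟨0, by omega⟩⟩
  obtain ⟨T, hTK, hTns, hgen⟩ := exists_gen K hK
  obtain ⟨a₀, τ, hTT⟩ := hgen (T * T) (K.mul_mem hTK hTK)
  set θ : Matrix (Fin d ⊕ Fin d) (Fin d ⊕ Fin d) F :=
    (2 : F) • T - τ • (1 : Matrix (Fin d ⊕ Fin d) (Fin d ⊕ Fin d) F) with hθ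
  have hθK : θ ∈ K := K.sub_mem (K.smul_mem hTK _) (K.smul_mem K.one_mem _)
  have hθθ : θ * θ = (4 * a₀ + τ * τ) • (1 : Matrix (Fin d ⊕ Fin d) (Fin d ⊕ Fin d) F) := by
    rw [hθ]
    simp only [sub_mul, mul_sub, smul_mul_assoc, mul_smul_comm, mul_one, one_mul, hTT]
    module
  have hθns : ∀ c : F, θ ≠ c • (1 : Matrix (Fin d ⊕ Fin d) (Fin d ⊕ Fin d) F) := by
    intro c hc
    apply hTns ((c + τ) / 2)
    have h3 : (2 : F) • T = (c + τ) • (1 : Matrix (Fin d ⊕ Fin d) (Fin d ⊕ Fin d) F) := by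
      rw [add_smul, ← hc, hθ]
      abel
    calc T = (2 : F)⁻¹ • ((2 : F) • T) := by rw [smul_smul, inv_mul_cancel₀ h2, one_smul]
      _ = ((c + τ) / 2) • (1 : Matrix (Fin d ⊕ Fin d) (Fin d ⊕ Fin d) F) := by
          rw [h3, smul_smul]
          congr 1
          field_simp
  refine ⟨θ, 4 * a₀ + τ * τ, hθK, ?_, hθθ, ?_, fun u v => hsa θ hθK u v⟩
  · rintro ⟨s, hs⟩
    have hprod : (θ - s • 1) * (θ + s • 1) = 0 := by
      simp only [sub_mul, mul_add, smul_mul_assoc, mul_smul_comm, mul_one, one_mul, hθθ, hs]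
      module
    have hm1 : θ - s • 1 ∈ K := K.sub_mem hθK (K.smul_mem K.one_mem _)
    by_cases h0 : θ - s • 1 = 0
    · exact hθns s (sub_eq_zero.1 h0)
    · have h5 := eq_zero_of_mul K hK hm1 h0 hprod
      apply hθns (-s)
      rw [neg_smul]
      exact eq_neg_of_add_eq_zero_left h5
  · intro k hk
    obtain ⟨a, b, rfl⟩ := hgen k hk
    refine ⟨a + b * τ / 2, b / 2, ?_⟩
    rw [hθ, smul_sub, smul_smul, smul_smul, add_smul]
    have h3 : b / 2 * 2 = b := by field_simp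
    have h4 : b / 2 * τ = b * τ / 2 := by ring
    rw [h3, h4]
    abel

end symp

end Cfsg.Agent.Lib.Helper13_SpExtBase
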