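import Mathlib
import Cfsg.Agent.S4337

/-!
# Groups generated by 3-cycles (helper13)

* `altOn O` : the even permutations supported on the finset `O`, as a subgroup of `Perm α`.
* `closure_eq_altOn` : a set of 3-cycles supported on `O` whose closure is transitive on `O`
  generates `altOn O` (Jordan).
-/

set_option autoImplicit false

open Equiv Equiv.Perm
open scoped Pointwise commutatorElement

namespace Cfsg.Agent.Lib.Helper13_ThreeCyc

variable {α : Type*} [Fintype α] [DecidableEq α]

/-- The even permutations of `α` supported on the finset `O`. -/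
def altOn (O : Finset α) : Subgroup (Perm α) :=
  (alternatingGroup {x // x ∈ O}).map (ofSubtype : Perm {x // x ∈ O} →* Perm α)

theorem mem_altOn {O : Finset α} {g : Perm α} :
    g ∈ altOn O ↔ g.support ⊆ O ∧ Perm.sign g = 1 := by
  constructor
  · rintro ⟨k, hk, rfl⟩
    refine ⟨?_, ?_⟩
    · intro x hx
      rw [support_ofSubtype] at hx
      obtain ⟨y, -, rfl⟩ := Finset.mem_map.mp hx
      exact y.2
    · rw [sign_ofSubtype]
      exact mem_alternatingGroup.mp hk
  · rintro ⟨hs, hsign⟩
    have hr : g ∈ (ofSubtype : Perm {x // x ∈ O} →* Perm α).range := by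
      rw [mem_range_ofSubtype_iff]
      intro x hx
      exact hs hx
    obtain ⟨k, rfl⟩ := hr
    refine ⟨k, ?_, rfl⟩
    show k ∈ alternatingGroup _
    rw [mem_alternatingGroup, ← sign_ofSubtype]
    exact hsign

theorem isThreeCycle_mem_altOn {O : Finset α} {g : Perm α} (hg : g.IsThreeCycle)
    (hs : g.support ⊆ O) : g ∈ altOn O :=
  mem_altOn.mpr ⟨hs, hg.sign⟩

/-- A block with two points of a group containing a 3-cycle `s` is fixed by `s`. -/
theorem smul_block_eq {β : Type*} [Fintype β] [DecidableEq β] {G : Subgroup (Perm β)}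
    {B : Set β} (hB : MulAction.IsBlock G B) {a b : β} (ha : a ∈ B) (hb : b ∈ B) (hab : a ≠ b)
    (s : G) (hs : (s : Perm β).IsThreeCycle) : s • B = B := by
  rcases hB.smul_eq_or_disjoint s with h | h
  · exact h
  · exfalso
    have hmoved : ∀ x ∈ B, (s : Perm β) x ∉ B := by
      intro x hx hx'
      have h1 : (s : Perm β) x ∈ s • B := ⟨x, hx, rfl⟩
      exact (Set.disjoint_left.mp h) h1 hx'
    have ha1 : (s : Perm β) a ≠ a := fun h' => hmoved a ha (by rw [h']; exact ha)
    have hb1 : (s : Perm β) b ≠ b := fun h' => hmoved b hb (by rw [h']; exact hb)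
    have ha2 : (s : Perm β) a ≠ b := fun h' => hmoved a ha (by rw [h']; exact hb)
    have hb2 : (s : Perm β) b ≠ a := fun h' => hmoved b hb (by rw [h']; exact ha)
    have hsub : ({a, b, (s : Perm β) a} : Finset β) ⊆ (s : Perm β).support := by
      intro x hx
      simp only [Finset.mem_insert, Finset.mem_singleton] at hx
      rcases hx with rfl | rfl | rfl
      · exact mem_support.mpr ha1
      · exact mem_support.mpr hb1
      · exact apply_mem_support.mpr (mem_support.mpr ha1)
    have hcard : ({a, b, (s : Perm β) a} : Finset β).card = 3 := by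
      rw [Finset.card_insert_of_notMem, Finset.card_insert_of_notMem, Finset.card_singleton]
      · simp only [Finset.mem_singleton]
        exact fun h' => ha2 h'.symm
      · simp only [Finset.mem_insert, Finset.mem_singleton, not_or]
        exact ⟨hab, fun h' => ha1 h'.symm⟩
    have heq : ({a, b, (s : Perm β) a} : Finset β) = (s : Perm β).support :=
      Finset.eq_of_subset_of_card_le hsub (by rw [hs.card_support, hcard])
    have hsb : (s : Perm β) b ∈ ({a, b, (s : Perm β) a} : Finset β) := by
      rw [heq]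
      exact apply_mem_support.mpr (mem_support.mpr hb1)
    simp only [Finset.mem_insert, Finset.mem_singleton] at hsb
    rcases hsb with h' | h' | h'
    · exact hb2 h'
    · exact hb1 h'
    · exact hab ((s : Perm β).injective h').symm

/-- A transitive group generated by 3-cycles is primitive. -/
theorem isPreprimitive_of_closure {β : Type*} [Fintype β] [DecidableEq β]
    (S : Set (Perm β)) (h3 : ∀ s ∈ S, s.IsThreeCycle)
    (htr : MulAction.IsPretransitive (Subgroup.closure S) β) :
    MulAction.IsPreprimitive (Subgroup.closure S) β := by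
  refine { toIsPretransitive := htr, isTrivialBlock_of_isBlock := ?_ }
  intro B hB
  by_cases hsub : B.Subsingleton
  · exact Or.inl hsub
  · right
    rw [Set.not_subsingleton_iff] at hsub
    obtain ⟨a, ha, b, hb, hab⟩ := hsub
    -- every element of the closure fixes B
    have hfix : ∀ g : Subgroup.closure S, g • B = B := by
      rintro ⟨g, hg⟩
      induction hg using Subgroup.closure_induction with
      | mem s hs =>
        exact smul_block_eq hB ha hb hab ⟨s, Subgroup.subset_closure hs⟩ (h3 s hs)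
      | one => exact one_smul _ B
      | mul x y hx hy ihx ihy =>
        have : (⟨x * y, Subgroup.mul_mem _ hx hy⟩ : Subgroup.closure S) =
            ⟨x, hx⟩ * ⟨y, hy⟩ := rfl
        rw [this, mul_smul, ihy, ihx]
      | inv x hx ihx =>
        have : (⟨x⁻¹, Subgroup.inv_mem _ hx⟩ : Subgroup.closure S) = (⟨x, hx⟩)⁻¹ := rfl
        rw [this, inv_smul_eq_iff, ihx]
    ext y
    simp only [Set.mem_univ, iff_true]
    obtain ⟨g, hg⟩ := htr.exists_smul_eq a y
    rw [← hg, ← hfix g]
    exact ⟨a, ha, rfl⟩

/-- Jordan: 3-cycles supported on `O` whose closure is transitive on `O` generate `altOn O`. -/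
theorem closure_eq_altOn (O : Finset α) (S : Set (Perm α)) (hne : S.Nonempty)
    (h3 : ∀ s ∈ S, s.IsThreeCycle) (hO : ∀ s ∈ S, s.support ⊆ O)
    (htr : ∀ x ∈ O, ∀ y ∈ O, ∃ w ∈ Subgroup.closure S, w x = y) :
    Subgroup.closure S = altOn O := by
  apply le_antisymm
  · rw [Subgroup.closure_le]
    intro s hs
    exact isThreeCycle_mem_altOn (h3 s hs) (hO s hs)
  · have hrange : ∀ s ∈ S, s ∈ (ofSubtype : Perm {x // x ∈ O} →* Perm α).range := by
      intro s hs
      rw [mem_range_ofSubtype_iff]
      intro x hx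
      exact hO s hs hx
    set S' : Set (Perm {x // x ∈ O}) := (ofSubtype : Perm {x // x ∈ O} →* Perm α) ⁻¹' S with hS'
    have hmap : (Subgroup.closure S').map (ofSubtype : Perm {x // x ∈ O} →* Perm α) =
        Subgroup.closure S := by
      rw [MonoidHom.map_closure]
      congr 1
      apply Set.image_preimage_eq_of_subset
      intro s hs
      exact hrange s hs
    have h3' : ∀ s ∈ S', s.IsThreeCycle := by
      intro s hs
      have := h3 _ hs
      rw [IsThreeCycle, cycleType_ofSubtype] at this
      exact this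
    have htr' : MulAction.IsPretransitive (Subgroup.closure S') {x // x ∈ O} := by
      constructor
      intro x y
      obtain ⟨w, hw, hwxy⟩ := htr x x.2 y y.2
      rw [← hmap] at hw
      obtain ⟨w', hw', rfl⟩ := hw
      refine ⟨⟨w', hw'⟩, ?_⟩
      apply Subtype.ext
      rw [← hwxy]
      exact (ofSubtype_apply_coe w' x).symm
    have hprim := isPreprimitive_of_closure S' h3' htr'
    obtain ⟨s, hs⟩ := hne
    obtain ⟨s', rfl⟩ := hrange s hs
    have hle := alternatingGroup_le_of_isPreprimitive_of_isThreeCycle_mem hprim (h3' s' hs)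
      (Subgroup.subset_closure hs)
    rw [altOn, ← hmap]
    exact Subgroup.map_mono hle

omit [Fintype α] [DecidableEq α] in
/-- invariance of a finset under a subgroup gives the `iff` needed by `subtypePerm` -/
theorem mem_iff_of_inv (L : Subgroup (Perm α)) (O : Finset α)
    (hinv : ∀ l ∈ L, ∀ x ∈ O, l x ∈ O) {l : Perm α} (hl : l ∈ L) (x : α) :
    l x ∈ O ↔ x ∈ O := by
  constructor
  · intro h
    have := hinv l⁻¹ (L.inv_mem hl) (l x) h
    simpa using this
  · exact hinv l hl x

/-- restriction of a subgroup of `Perm α` to an invariant finset -/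
def restrictHom (L : Subgroup (Perm α)) (O : Finset α)
    (hinv : ∀ l ∈ L, ∀ x ∈ O, l x ∈ O) : L →* Perm {x // x ∈ O} where
  toFun l := (l : Perm α).subtypePerm (fun x => mem_iff_of_inv L O hinv l.2 x)
  map_one' := rfl
  map_mul' _ _ := rfl

omit [Fintype α] [DecidableEq α] in
theorem restrictHom_apply (L : Subgroup (Perm α)) (O : Finset α)
    (hinv : ∀ l ∈ L, ∀ x ∈ O, l x ∈ O) (l : L) (x : {x // x ∈ O}) :
    ((restrictHom L O hinv l) x : α) = (l : Perm α) x := rfl

omit [Fintype α] in
/-- A perfect permutation group fixes pointwise every invariant set with at most 4 points. -/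
theorem fixes_of_perfect (L : Subgroup (Perm α)) (hperf : ⁅L, L⁆ = L) (O : Finset α)
    (hinv : ∀ l ∈ L, ∀ x ∈ O, l x ∈ O) (hcard : O.card ≤ 4) :
    ∀ l ∈ L, ∀ x ∈ O, l x = x := by
  intro l hl x hx
  have hP : Group.IsPerfect L := Subgroup.isPerfect_iff.mpr hperf
  have hsol : Group.IsSolvable (Perm {x // x ∈ O}) :=
    Cfsg.Agent.S4337.solvable_perm_of_card_le (by simpa using hcard)
  have hPr : Group.IsPerfect (restrictHom L O hinv).range := Group.IsPerfect.range _
  have hsub : Subsingleton (restrictHom L O hinv).range := by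
    by_contra hns
    rw [not_subsingleton_iff_nontrivial] at hns
    exact Group.IsPerfect.not_isSolvable (restrictHom L O hinv).range inferInstance
  have h1 : restrictHom L O hinv ⟨l, hl⟩ = 1 := by
    have := Subsingleton.elim (⟨restrictHom L O hinv ⟨l, hl⟩, ⟨_, rfl⟩⟩ :
      (restrictHom L O hinv).range) 1
    exact congrArg Subtype.val this
  have := restrictHom_apply L O hinv ⟨l, hl⟩ ⟨x, hx⟩
  rw [h1] at this
  exact this.symm

/-- `A` normalizes `⁅A, B⁆`. -/
theorem conj_mem_commutator {G : Type*} [Group G] (A B : Subgroup G) {a x : G} (ha : a ∈ A)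
    (hx : x ∈ ⁅A, B⁆) : a * x * a⁻¹ ∈ ⁅A, B⁆ := by
  rw [Subgroup.commutator_def] at hx ⊢
  induction hx using Subgroup.closure_induction with
  | mem y hy =>
    obtain ⟨a', ha', b, hb, rfl⟩ := hy
    have h1 : a * ⁅a', b⁆ * a⁻¹ = ⁅a * a', b⁆ * ⁅a, b⁆⁻¹ := by
      simp only [commutatorElement_def]; group
    rw [h1]
    exact Subgroup.mul_mem _ (Subgroup.subset_closure ⟨a * a', A.mul_mem ha ha', b, hb, rfl⟩)
      (Subgroup.inv_mem _ (Subgroup.subset_closure ⟨a, ha, b, hb, rfl⟩))
  | one => simp
  | mul y z _ _ ihy ihz =>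
    have : a * (y * z) * a⁻¹ = (a * y * a⁻¹) * (a * z * a⁻¹) := by group
    rw [this]
    exact Subgroup.mul_mem _ ihy ihz
  | inv y _ ihy =>
    have : a * y⁻¹ * a⁻¹ = (a * y * a⁻¹)⁻¹ := by group
    rw [this]
    exact Subgroup.inv_mem _ ihy

theorem isThreeCycle_conj {c : Perm α} (hc : c.IsThreeCycle) (l : Perm α) :
    (l * c * l⁻¹).IsThreeCycle := by
  rw [← card_support_eq_three_iff, support_conj, Finset.card_map, hc.card_support]

omit [Fintype α] in
theorem commute_of_fix {g h : Perm α} (hgh : ∀ x, g x ≠ x → h x = x) : g * h = h * g := by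
  have hd : Perm.Disjoint g h := by
    intro x
    by_cases hx : g x = x
    · exact Or.inl hx
    · exact Or.inr (hgh x hx)
  exact hd.commute.eq

/-- Main abstract theorem: a perfect "quasisimple-like" normal subgroup `L` of `H ≤ Perm α`
with `C_H(L) ≤ L`, where `H` contains a 3-cycle, is `altOn O` for some `O` with `|O| ≥ 5`, and
every 3-element of `H` fixes the complement of `O` pointwise. -/
theorem main (H L : Subgroup (Perm α)) (hLH : L ≤ H)
    (hnorm : ∀ h ∈ H, ∀ l ∈ L, h * l * h⁻¹ ∈ L)
    (hperf : ⁅L, L⁆ = L)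
    (hq : ∀ N : Subgroup (Perm α), N ≤ L → (∀ l ∈ L, ∀ x ∈ N, l * x * l⁻¹ ∈ N) →
        L ≤ N ∨ ∀ x ∈ N, ∀ l ∈ L, l * x = x * l)
    (hcent : ∀ x ∈ H, (∀ l ∈ L, l * x = x * l) → x ∈ L)
    (c : Perm α) (hc : c.IsThreeCycle) (hcH : c ∈ H) :
    ∃ O : Finset α, 5 ≤ O.card ∧ L = altOn O ∧
      ∀ g ∈ H, ∀ k : ℕ, g ^ (3 ^ k) = 1 → ∀ x, x ∉ O → g x = x := by
  classical
  -- Step 0: L does not fix supp c pointwise
  have h0 : ¬ ∀ l ∈ L, ∀ x ∈ c.support, l x = x := by
    intro hfix
    have hcomm : ∀ l ∈ L, l * c = c * l := by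
      intro l hl
      apply (commute_of_fix _).symm
      intro x hx
      exact hfix l hl x (mem_support.mpr hx)
    have hcL := hcent c hcH hcomm
    obtain ⟨x, hx⟩ : c.support.Nonempty := by
      rw [← Finset.card_pos, hc.card_support]; norm_num
    exact (mem_support.mp hx) (hfix c hcL x hx)
  -- Step 1: D = [L, <c>] equals L
  set Z : Subgroup (Perm α) := Subgroup.zpowers c with hZ
  have hZH : Z ≤ H := by
    rw [hZ, Subgroup.zpowers_le]; exact hcH
  have hDL : ⁅L, Z⁆ ≤ L := by
    rw [Subgroup.commutator_le]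
    intro l hl z hz
    have h1 : ⁅l, z⁆ = l * (z * l⁻¹ * z⁻¹) := by
      simp only [commutatorElement_def]; group
    rw [h1]
    exact L.mul_mem hl (hnorm z (hZH hz) l⁻¹ (L.inv_mem hl))
  have hLD : L ≤ ⁅L, Z⁆ := by
    rcases hq ⁅L, Z⁆ hDL (fun l hl x hx => conj_mem_commutator L Z hl hx) with h | hcen
    · exact h
    · exfalso
      have h1 : ⁅⁅L, Z⁆, L⁆ = ⊥ := by
        rw [Subgroup.commutator_eq_bot_iff_le_centralizer]
        intro x hx
        rw [Subgroup.mem_centralizer_iff]
        intro l hl
        exact hcen x hx l hl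
      have h2 : ⁅⁅Z, L⁆, L⁆ = ⊥ := by
        rw [Subgroup.commutator_comm Z L]; exact h1
      have h3 := Subgroup.commutator_commutator_eq_bot_of_rotate (H₁ := L) (H₂ := L) (H₃ := Z) h1 h2
      rw [hperf, Subgroup.commutator_eq_bot_iff_le_centralizer] at h3
      have hcomm : ∀ l ∈ L, c * l = l * c := by
        intro l hl
        have := h3 hl
        rw [Subgroup.mem_centralizer_iff] at this
        exact this c (Subgroup.mem_zpowers c)
      -- supp c is L-invariant
      have hinv : ∀ l ∈ L, ∀ x ∈ c.support, l x ∈ c.support := by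
        intro l hl x hx
        rw [mem_support] at hx ⊢
        intro h
        apply hx
        have h4 : (c * l) x = (l * c) x := by rw [hcomm l hl]
        simp only [Perm.mul_apply] at h4
        rw [h] at h4
        exact l.injective h4.symm
      exact h0 (fixes_of_perfect L hperf c.support hinv (by rw [hc.card_support]; norm_num))
  -- Step 2: the conjugates of c under L
  set S : Set (Perm α) := {s | ∃ l ∈ L, s = l * c * l⁻¹} with hS
  set W : Subgroup (Perm α) := Subgroup.closure S with hW
  have hcS : c ∈ S := ⟨1, L.one_mem, by simp⟩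
  have hcW : c ∈ W := Subgroup.subset_closure hcS
  have hLW : L ≤ W := by
    refine hLD.trans ?_
    rw [Subgroup.commutator_le]
    intro l hl z hz
    obtain ⟨i, rfl⟩ := Subgroup.mem_zpowers_iff.mp hz
    have h1 : ⁅l, c ^ i⁆ = (l * c * l⁻¹) ^ i * (c ^ i)⁻¹ := by
      rw [conj_zpow, commutatorElement_def]
    rw [h1]
    exact W.mul_mem (W.zpow_mem (Subgroup.subset_closure ⟨l, hl, rfl⟩) i)
      (W.inv_mem (W.zpow_mem hcW i))
  have hWH : W ≤ H := by
    rw [hW, Subgroup.closure_le]
    rintro s ⟨l, hl, rfl⟩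
    exact H.mul_mem (H.mul_mem (hLH hl) hcH) (H.inv_mem (hLH hl))
  have h3S : ∀ s ∈ S, s.IsThreeCycle := by
    rintro s ⟨l, hl, rfl⟩
    exact isThreeCycle_conj hc l
  obtain ⟨a, ha⟩ : c.support.Nonempty := by
    rw [← Finset.card_pos, hc.card_support]; norm_num
  set O : Finset α := Finset.univ.filter (fun x => ∃ w ∈ W, w a = x) with hOdef
  have hOW : ∀ w ∈ W, ∀ x ∈ O, w x ∈ O := by
    intro w hw x hx
    simp only [hOdef, Finset.mem_filter, Finset.mem_univ, true_and] at hx ⊢
    obtain ⟨w', hw', rfl⟩ := hx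
    exact ⟨w * w', W.mul_mem hw hw', rfl⟩
  have hcO : c.support ⊆ O := by
    intro x hx
    simp only [hOdef, Finset.mem_filter, Finset.mem_univ, true_and]
    obtain ⟨i, hi⟩ := hc.isCycle.exists_zpow_eq (mem_support.mp ha) (mem_support.mp hx)
    exact ⟨c ^ i, W.zpow_mem hcW i, hi⟩
  have hSO : ∀ s ∈ S, s.support ⊆ O := by
    rintro s ⟨l, hl, rfl⟩ x hx
    rw [support_conj, Finset.mem_map] at hx
    obtain ⟨y, hy, rfl⟩ := hx
    exact hOW l (hLW hl) y (hcO hy)
  have htr : ∀ x ∈ O, ∀ y ∈ O, ∃ w ∈ W, w x = y := by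
    intro x hx y hy
    simp only [hOdef, Finset.mem_filter, Finset.mem_univ, true_and] at hx hy
    obtain ⟨w1, hw1, rfl⟩ := hx
    obtain ⟨w2, hw2, rfl⟩ := hy
    exact ⟨w2 * w1⁻¹, W.mul_mem hw2 (W.inv_mem hw1), by simp⟩
  have hWalt : W = altOn O := closure_eq_altOn O S ⟨c, hcS⟩ h3S hSO htr
  -- Step 3: |O| ≥ 5
  have hO5 : 5 ≤ O.card := by
    by_contra hlt
    push Not at hlt
    have hinv : ∀ l ∈ L, ∀ x ∈ O, l x ∈ O := fun l hl => hOW l (hLW hl)
    have := fixes_of_perfect L hperf O hinv (by omega)
    exact h0 (fun l hl x hx => this l hl x (hcO hx))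
  -- Step 4: L = W
  have hsimple : IsSimpleGroup (alternatingGroup {x // x ∈ O}) :=
    alternatingGroup.isSimpleGroup (by simpa using hO5)
  have hWL : W ≤ L := by
    set φ : Perm {x // x ∈ O} →* Perm α := ofSubtype with hφ
    set N : Subgroup (alternatingGroup {x // x ∈ O}) :=
      (L.comap φ).subgroupOf (alternatingGroup {x // x ∈ O}) with hN
    have hNn : N.Normal := by
      constructor
      intro n hn g
      rw [hN, Subgroup.mem_subgroupOf, Subgroup.mem_comap] at hn ⊢
      have hg : φ (g : Perm {x // x ∈ O}) ∈ H := by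
        apply hWH
        rw [hWalt]
        exact ⟨g, g.2, rfl⟩
      have := hnorm _ hg _ hn
      simpa [map_mul, map_inv] using this
    rcases hNn.eq_bot_or_eq_top with hbot | htop
    · exfalso
      apply h0
      intro l hl x _
      have hlW := hLW hl
      rw [hWalt] at hlW
      obtain ⟨k, hk, rfl⟩ := hlW
      have hkN : (⟨k, hk⟩ : alternatingGroup {x // x ∈ O}) ∈ N := by
        rw [hN, Subgroup.mem_subgroupOf, Subgroup.mem_comap]
        exact hl
      rw [hbot, Subgroup.mem_bot] at hkN
      have : k = 1 := congrArg Subtype.val hkN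
      rw [this, map_one]
      rfl
    · rw [hWalt]
      rintro _ ⟨k, hk, rfl⟩
      have hkN : (⟨k, hk⟩ : alternatingGroup {x // x ∈ O}) ∈ N := by
        rw [htop]; exact Subgroup.mem_top _
      rw [hN, Subgroup.mem_subgroupOf, Subgroup.mem_comap] at hkN
      exact hkN
  have hL : L = altOn O := by
    rw [← hWalt]; exact le_antisymm hLW hWL
  refine ⟨O, hO5, hL, ?_⟩
  -- Step 5
  -- (5a) every element of H preserves O
  have h5a : ∀ g ∈ H, ∀ x ∈ O, g x ∈ O := by
    intro g hg x hx
    have h1 : 0 < (O.erase x).card := by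
      rw [Finset.card_erase_of_mem hx]; omega
    obtain ⟨y, hy⟩ := Finset.card_pos.mp h1
    have h2 : 0 < ((O.erase x).erase y).card := by
      rw [Finset.card_erase_of_mem hy, Finset.card_erase_of_mem hx]; omega
    obtain ⟨z, hz⟩ := Finset.card_pos.mp h2
    have hyx : y ≠ x := (Finset.mem_erase.mp hy).1
    have hyO : y ∈ O := (Finset.mem_erase.mp hy).2
    have hzy : z ≠ y := (Finset.mem_erase.mp hz).1
    have hzx : z ≠ x := (Finset.mem_erase.mp (Finset.mem_erase.mp hz).2).1
    have hzO : z ∈ O := (Finset.mem_erase.mp (Finset.mem_erase.mp hz).2).2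
    set t : Perm α := swap x y * swap x z with ht
    have ht3 : t.IsThreeCycle := isThreeCycle_swap_mul_swap_same hyx.symm hzx.symm hzy.symm
    have htx : t x = z := by
      rw [ht, Perm.mul_apply, swap_apply_left, swap_apply_of_ne_of_ne hzx hzy]
    have htsupp : t.support ⊆ O := by
      intro u hu
      have hsub : t.support ⊆ (swap x y).support ∪ (swap x z).support := support_mul_le _ _
      have := hsub hu
      rw [Finset.mem_union, support_swap hyx.symm, support_swap hzx.symm] at this
      simp only [Finset.mem_insert, Finset.mem_singleton] at this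
      rcases this with (rfl | rfl) | (rfl | rfl) <;> assumption
    have htL : t ∈ L := by
      rw [hL]; exact isThreeCycle_mem_altOn ht3 htsupp
    have hconj := hnorm g hg t htL
    rw [hL, mem_altOn] at hconj
    apply hconj.1
    rw [support_conj, Finset.mem_map]
    refine ⟨x, ?_, rfl⟩
    rw [mem_support, htx]
    exact hzx
  intro g hg k hgk x hx
  have hg' : ∀ y, g y ∈ O ↔ y ∈ O := by
    intro y
    constructor
    · intro h
      have := h5a g⁻¹ (H.inv_mem hg) (g y) h
      simpa using this
    · exact h5a g hg y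
  set g0 : Perm {x // x ∈ O} := g.subtypePerm hg' with hg0
  set g1 : Perm α := ofSubtype g0 with hg1
  have hg0pow : g0 ^ (3 ^ k) = 1 := by
    rw [hg0, subtypePerm_pow]
    ext y
    simp [hgk]
  have hsign : Perm.sign g0 = 1 := by
    have h1 : (Perm.sign g0) ^ (3 ^ k) = 1 := by
      rw [← map_pow, hg0pow, map_one]
    rcases Int.units_eq_one_or (Perm.sign g0) with h | h
    · exact h
    · exfalso
      rw [h, Odd.neg_one_pow (Odd.pow (by decide))] at h1
      exact absurd h1 (by decide)
  have hg1L : g1 ∈ L := by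
    rw [hL]
    exact ⟨g0, mem_alternatingGroup.mpr hsign, rfl⟩
  set g2 : Perm α := g1⁻¹ * g with hg2
  have hg2H : g2 ∈ H := H.mul_mem (H.inv_mem (hLH hg1L)) hg
  have hg2fix : ∀ y ∈ O, g2 y = y := by
    intro y hy
    rw [hg2, Perm.mul_apply, Perm.inv_eq_iff_eq]
    exact (ofSubtype_subtypePerm_of_mem hg' hy).symm
  have hg2L : g2 ∈ L := by
    apply hcent g2 hg2H
    intro l hl
    apply commute_of_fix
    intro y hy
    apply hg2fix
    rw [hL, mem_altOn] at hl
    exact hl.1 (mem_support.mpr hy)
  have hg2one : g2 = 1 := by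
    rw [hL, mem_altOn] at hg2L
    ext y
    by_cases hy : y ∈ O
    · simpa using hg2fix y hy
    · by_contra hne
      exact hy (hg2L.1 (mem_support.mpr hne))
  have hgg1 : g = g1 := by
    have : g1 * g2 = g := by rw [hg2]; group
    rw [← this, hg2one, mul_one]
  rw [hgg1, hg1]
  exact ofSubtype_apply_of_not_mem g0 hx

/-- A Sylow 3-subgroup of `Perm α` (`|α| ≥ 3`) contains a 3-cycle. -/
theorem exists_threeCycle_mem_sylow (P : Sylow 3 (Perm α)) (h3 : 3 ≤ Fintype.card α) :
    ∃ c ∈ (P : Subgroup (Perm α)), c.IsThreeCycle := by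
  obtain ⟨a, b, d, hab, had, hbd⟩ := Fintype.two_lt_card_iff.mp h3
  have ht := isThreeCycle_swap_mul_swap_same hab had hbd
  have hp : IsPGroup 3 (Subgroup.zpowers (swap a b * swap a d)) := by
    apply IsPGroup.of_card (n := 1)
    rw [Nat.card_zpowers, ht.orderOf]; norm_num
  obtain ⟨Q, hQ⟩ := hp.exists_le_sylow
  obtain ⟨g, hg⟩ := MulAction.exists_smul_eq (Perm α) Q P
  refine ⟨g * (swap a b * swap a d) * g⁻¹, ?_, isThreeCycle_conj ht g⟩
  rw [← hg, Sylow.coe_subgroup_smul]
  have hmem : (swap a b * swap a d) ∈ (Q : Subgroup (Perm α)) := hQ (Subgroup.mem_zpowers _)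
  have := Subgroup.smul_mem_pointwise_smul _ (MulAut.conj g) (Q : Subgroup (Perm α)) hmem
  simpa [MulAut.conj_apply] using this

/-- A Sylow 3-subgroup of `Perm α` fixes at most 2 points. -/
theorem card_fixed_sylow_le (P : Sylow 3 (Perm α)) (F : Finset α)
    (hF : ∀ x ∈ F, ∀ g ∈ (P : Subgroup (Perm α)), g x = x) : F.card ≤ 2 := by
  by_contra hlt
  push Not at hlt
  obtain ⟨a, ha, b, hb, d, hd, hab, had, hbd⟩ := Finset.two_lt_card.mp hlt
  set t : Perm α := swap a b * swap a d with ht
  have ht3 : t.IsThreeCycle := isThreeCycle_swap_mul_swap_same hab had hbd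
  have htsupp : ∀ x, t x ≠ x → x ∈ F := by
    intro x hx
    have hsub : t.support ⊆ (swap a b).support ∪ (swap a d).support := support_mul_le _ _
    have := hsub (mem_support.mpr hx)
    rw [Finset.mem_union, support_swap hab, support_swap had] at this
    simp only [Finset.mem_insert, Finset.mem_singleton] at this
    rcases this with (rfl | rfl) | (rfl | rfl) <;> assumption
  have hcomm : ∀ g ∈ (P : Subgroup (Perm α)), t * g = g * t := by
    intro g hg
    apply commute_of_fix
    intro x hx
    exact hF x (htsupp x hx) g hg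
  have htn : t ∈ Subgroup.normalizer ((P : Subgroup (Perm α)) : Set (Perm α)) := by
    rw [Subgroup.mem_normalizer_iff]
    intro h
    constructor
    · intro hh
      have : t * h * t⁻¹ = h := by rw [hcomm h hh]; group
      rw [this]; exact hh
    · intro hh
      have h1 := hcomm _ hh
      have : h = t * h * t⁻¹ := by
        have h2 : t * h * t⁻¹ = t⁻¹ * (t * (t * h * t⁻¹)) := by group
        rw [h2, h1]; group
      rw [this]; exact hh
  have hZ : IsPGroup 3 (Subgroup.zpowers t) := by
    apply IsPGroup.of_card (n := 1)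
    rw [Nat.card_zpowers, ht3.orderOf]; norm_num
  have hsup : IsPGroup 3 ((P : Subgroup (Perm α)) ⊔ Subgroup.zpowers t : Subgroup (Perm α)) :=
    IsPGroup.to_sup_of_normal_left' P.isPGroup' hZ (by rw [Subgroup.zpowers_le]; exact htn)
  have heq := P.is_maximal' hsup le_sup_left
  have htP : t ∈ (P : Subgroup (Perm α)) := by
    have : t ∈ (P : Subgroup (Perm α)) ⊔ Subgroup.zpowers t :=
      Subgroup.mem_sup_right (Subgroup.mem_zpowers t)
    rw [heq] at this
    exact this
  have hta : t a = a := hF a ha t htP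
  have : t a = d := by
    rw [ht, Perm.mul_apply, swap_apply_left, swap_apply_of_ne_of_ne had.symm hbd.symm]
  rw [this] at hta
  exact had hta.symm

end Cfsg.Agent.Lib.Helper13_ThreeCyc
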