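import Mathlib
import Cfsg.Prelude.Def_LocalEven
import Cfsg.Agent.Lib.Helper13_ThreeCyc

/-!
# Sylow 3-subgroups of symmetric groups and 3-minimality of alternating groups (helper13)
-/

set_option autoImplicit false

open Equiv Equiv.Perm
open scoped Pointwise

namespace Cfsg.Agent.Lib.Helper13_Syl3

open Cfsg.Agent.Lib.Helper13_ThreeCyc

variable {α : Type*} [Fintype α] [DecidableEq α]

instance fact_prime_three : Fact (Nat.Prime 3) := ⟨by norm_num⟩

omit [Fintype α] in
theorem sign_eq_one_of_pow (g : Perm α) [Fintype α] (k : ℕ) (h : g ^ (3 ^ k) = 1) :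
    Perm.sign g = 1 := by
  have h1 : (Perm.sign g) ^ (3 ^ k) = 1 := by rw [← map_pow, h, map_one]
  rcases Int.units_eq_one_or (Perm.sign g) with h' | h'
  · exact h'
  · rw [h'] at h1
    have hodd : Odd (3 ^ k) := Odd.pow (by decide)
    rw [hodd.neg_one_pow] at h1
    exact absurd h1 (by decide)

omit [Fintype α] [DecidableEq α] in
theorem pow_eq_one_of_mem_sylow (P : Sylow 3 (Perm α)) {g : Perm α}
    (hg : g ∈ (P : Subgroup (Perm α))) : ∃ k : ℕ, g ^ (3 ^ k) = 1 := by
  obtain ⟨k, hk⟩ := P.isPGroup' ⟨g, hg⟩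
  refine ⟨k, ?_⟩
  have := congrArg (fun t : ↥(P : Subgroup (Perm α)) => (t : Perm α)) hk
  simpa using this

theorem sylow_le_alt (P : Sylow 3 (Perm α)) :
    (P : Subgroup (Perm α)) ≤ alternatingGroup α := by
  intro g hg
  obtain ⟨k, hk⟩ := pow_eq_one_of_mem_sylow P hg
  exact mem_alternatingGroup.mpr (sign_eq_one_of_pow g k hk)

/-- The two-overgroups principle. -/
theorem false_of_two_overgroups (hmin : Cfsg.IsPMinimal 3 ↥(alternatingGroup α))
    (P : Sylow 3 (Perm α)) (H₁ H₂ : Subgroup (Perm α))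
    (h1 : (P : Subgroup (Perm α)) ≤ H₁) (h2 : (P : Subgroup (Perm α)) ≤ H₂)
    (hp1 : ¬ alternatingGroup α ≤ H₁) (hp2 : ¬ alternatingGroup α ≤ H₂)
    (hgen : ∀ K : Subgroup (Perm α), H₁ ⊓ alternatingGroup α ≤ K → H₂ ⊓ alternatingGroup α ≤ K →
      alternatingGroup α ≤ K) : False := by
  classical
  have hPA := sylow_le_alt P
  set PA : Sylow 3 ↥(alternatingGroup α) := P.subtype hPA with hPAdef
  have hPAmem : ∀ x : ↥(alternatingGroup α), x ∈ (PA : Subgroup ↥(alternatingGroup α)) ↔
      (x : Perm α) ∈ (P : Subgroup (Perm α)) := by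
    intro x
    rw [hPAdef, Sylow.coe_subtype, Subgroup.mem_subgroupOf]
  obtain ⟨-, M, ⟨hMco, hPM⟩, huniq⟩ := hmin PA
  have key : ∀ H : Subgroup (Perm α), (P : Subgroup (Perm α)) ≤ H → ¬ alternatingGroup α ≤ H →
      H.subgroupOf (alternatingGroup α) ≤ M := by
    intro H hPH hH
    have hne : H.subgroupOf (alternatingGroup α) ≠ ⊤ := by
      intro h
      exact hH (Subgroup.subgroupOf_eq_top.mp h)
    obtain ⟨M', hM', hle⟩ := (eq_top_or_exists_le_coatom _).resolve_left hne
    have hPM' : (PA : Subgroup ↥(alternatingGroup α)) ≤ M' := by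
      intro x hx
      apply hle
      rw [Subgroup.mem_subgroupOf]
      exact hPH ((hPAmem x).mp hx)
    rw [← huniq M' ⟨hM', hPM'⟩]
    exact hle
  have k1 := key H₁ h1 hp1
  have k2 := key H₂ h2 hp2
  have hK := hgen (M.map (alternatingGroup α).subtype)
    (by
      rintro x ⟨hx1, hx2⟩
      exact ⟨⟨x, hx2⟩, k1 (by rw [Subgroup.mem_subgroupOf]; exact hx1), rfl⟩)
    (by
      rintro x ⟨hx1, hx2⟩
      exact ⟨⟨x, hx2⟩, k2 (by rw [Subgroup.mem_subgroupOf]; exact hx1), rfl⟩)
  apply hMco.1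
  rw [eq_top_iff]
  intro a _
  obtain ⟨m, hm, hma⟩ := hK a.2
  have : m = a := Subtype.ext hma
  rw [← this]
  exact hm

/-! ### Lucas -/

theorem choose_pow_modEq (n a : ℕ) : n.choose (3 ^ a) ≡ n / 3 ^ a [MOD 3] := by
  have h := Choose.choose_modEq_choose_mul_prod_range_choose (n := n) (k := 3 ^ a) (p := 3) a
  rw [← Int.natCast_modEq_iff]
  have h3 : (3 : ℕ) ^ a / 3 ^ a = 1 := Nat.div_self (by positivity)
  have hprod : ∏ i ∈ Finset.range a, (n / 3 ^ i % 3).choose (3 ^ a / 3 ^ i % 3) = 1 := by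
    apply Finset.prod_eq_one
    intro i hi
    rw [Finset.mem_range] at hi
    have : 3 ^ a / 3 ^ i % 3 = 0 := by
      rw [Nat.pow_div hi.le (by norm_num)]
      obtain ⟨j, hj⟩ : ∃ j, a - i = j + 1 := ⟨a - i - 1, by omega⟩
      rw [hj, pow_succ]
      simp
    rw [this, Nat.choose_zero_right]
  rw [h3, Nat.choose_one_right] at h
  push_cast at h ⊢
  have hprod' : (∏ i ∈ Finset.range a, ((n / 3 ^ i % 3).choose (3 ^ a / 3 ^ i % 3) : ℤ)) = 1 := by
    exact_mod_cast hprod
  rw [hprod', mul_one] at h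
  exact_mod_cast h

theorem not_dvd_choose_pow (n a : ℕ) (h1 : 3 ^ a ≤ n) (h2 : n < 3 ^ (a + 1)) :
    ¬ 3 ∣ n.choose (3 ^ a) := by
  intro hd
  have h := choose_pow_modEq n a
  have hq1 : 1 ≤ n / 3 ^ a := (Nat.one_le_div_iff (by positivity)).mpr h1
  have hq2 : n / 3 ^ a < 3 := by
    rw [Nat.div_lt_iff_lt_mul (by positivity)]
    rw [pow_succ] at h2
    linarith
  have := (Nat.modEq_zero_iff_dvd.mpr hd).symm.trans h
  have h0 := Nat.ModEq.symm this
  rw [Nat.modEq_zero_iff_dvd] at h0
  omega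

/-! ### invariant subsets -/

/-- A 3-group of permutations stabilizes a `k`-subset if `3 ∤ C(n, k)`. -/
theorem exists_invariant_finset (P : Subgroup (Perm α)) (hP : IsPGroup 3 P) (k : ℕ)
    (hk : ¬ 3 ∣ (Fintype.card α).choose k) :
    ∃ s : Finset α, s.card = k ∧ ∀ g ∈ P, ∀ x ∈ s, g x ∈ s := by
  have hfix := hP.nonempty_fixed_point_of_prime_not_dvd_card (Set.powersetCard α k)
    (by rwa [Set.powersetCard.card, Nat.card_eq_fintype_card])
  obtain ⟨s, hs⟩ := hfix
  refine ⟨s.1, s.2, ?_⟩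
  intro g hg x hx
  have h1 := hs ⟨g, hg⟩
  rw [Subgroup.mk_smul] at h1
  have h2 : ((g • s : Set.powersetCard α k) : Finset α) = (s : Finset α) := by rw [h1]
  rw [Set.powersetCard.coe_smul] at h2
  have h3 : g • x ∈ g • (s : Finset α) := Finset.smul_mem_smul_finset hx
  rw [h2] at h3
  exact h3

/-- If a Sylow 3-subgroup of `Perm α` stabilizes a `k`-subset then `3 ∤ C(n,k)`. -/
theorem not_dvd_choose_of_invariant (P : Sylow 3 (Perm α)) (s : Finset α)
    (hs : ∀ g ∈ (P : Subgroup (Perm α)), ∀ x ∈ s, g x ∈ s) :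
    ¬ 3 ∣ (Fintype.card α).choose s.card := by
  set t : Set.powersetCard α s.card := ⟨s, rfl⟩ with ht
  have hle : (P : Subgroup (Perm α)) ≤ MulAction.stabilizer (Perm α) t := by
    intro g hg
    rw [MulAction.mem_stabilizer_iff]
    apply Subtype.ext
    rw [Set.powersetCard.coe_smul]
    apply Finset.eq_of_subset_of_card_le
    · intro y hy
      obtain ⟨x, hx, rfl⟩ := Finset.mem_smul_finset.mp hy
      exact hs g hg x hx
    · rw [Finset.card_smul_finset]
  have hidx : (MulAction.stabilizer (Perm α) t).index = (Fintype.card α).choose s.card := by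
    have := Set.powersetCard.isPretransitive (α := α) (n := s.card)
    rw [MulAction.index_stabilizer_of_transitive, Set.powersetCard.card, Nat.card_eq_fintype_card]
  rw [← hidx]
  intro hd
  exact P.not_dvd_index (hd.trans (Subgroup.index_dvd_of_le hle))

/-! ### Case `3 ∤ n` -/

theorem smul_alt_def (a : ↥(alternatingGroup α)) (b : α) : a • b = (a : Perm α) b := rfl

/-- If `3 ∤ n`, `n ≥ 5` and `A_n` is 3-minimal, then `n = 3^a + 1`. -/
theorem case_not_dvd (hmin : Cfsg.IsPMinimal 3 ↥(alternatingGroup α))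
    (h5 : 5 ≤ Fintype.card α) (h3 : ¬ 3 ∣ Fintype.card α) :
    ∃ a : ℕ, Fintype.card α = 3 ^ a + 1 := by
  classical
  set n := Fintype.card α with hn
  set a := Nat.log 3 n with ha
  have hlo : 3 ^ a ≤ n := Nat.pow_log_le_self 3 (by omega)
  have hhi : n < 3 ^ (a + 1) := Nat.lt_pow_succ_log_self (by norm_num) n
  by_contra hcon
  push Not at hcon
  have ha1 : 1 ≤ a := by
    by_contra h
    have : a = 0 := by omega
    rw [this] at hhi
    norm_num at hhi
    omega
  have hne : n ≠ 3 ^ a := by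
    intro h
    apply h3
    rw [h]
    exact dvd_pow_self 3 (by omega)
  have hne' : n ≠ 3 ^ a + 1 := hcon a
  have h3a : 3 ≤ 3 ^ a := by
    calc 3 = 3 ^ 1 := by norm_num
      _ ≤ 3 ^ a := Nat.pow_le_pow_right (by norm_num) ha1
  obtain ⟨P⟩ : Nonempty (Sylow 3 (Perm α)) := inferInstance
  obtain ⟨s₁, hs₁c, hs₁⟩ := exists_invariant_finset (P : Subgroup (Perm α)) P.isPGroup' 1
    (by rw [Nat.choose_one_right]; exact h3)
  obtain ⟨s₂, hs₂c, hs₂⟩ := exists_invariant_finset (P : Subgroup (Perm α)) P.isPGroup' (3 ^ a)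
    (not_dvd_choose_pow n a hlo hhi)
  obtain ⟨u, rfl⟩ := Finset.card_eq_one.mp hs₁c
  have hPA := sylow_le_alt P
  set PA : Sylow 3 ↥(alternatingGroup α) := P.subtype hPA with hPAdef
  have hPAmem : ∀ x : ↥(alternatingGroup α), x ∈ (PA : Subgroup ↥(alternatingGroup α)) ↔
      (x : Perm α) ∈ (P : Subgroup (Perm α)) := by
    intro x
    rw [hPAdef, Sylow.coe_subtype, Subgroup.mem_subgroupOf]
  obtain ⟨-, M, ⟨hMco, hPM⟩, huniq⟩ := hmin PA
  have hcardn : Nat.card α = n := Nat.card_eq_fintype_card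
  have hco1 : IsCoatom (MulAction.stabilizer (alternatingGroup α) (({u} : Finset α) : Set α)) := by
    apply alternatingGroup.isCoatom_stabilizer
    · exact ⟨u, by simp⟩
    · obtain ⟨v, hv⟩ : ∃ v, v ≠ u := by
        have : 1 < Fintype.card α := by omega
        obtain ⟨v, hv⟩ := Fintype.exists_ne_of_one_lt_card this u
        exact ⟨v, hv⟩
      exact ⟨v, by simpa using hv⟩
    · rw [hcardn, Set.ncard_coe_finset, Finset.card_singleton]; omega
  have hco2 : IsCoatom (MulAction.stabilizer (alternatingGroup α) ((s₂ : Finset α) : Set α)) := by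
    apply alternatingGroup.isCoatom_stabilizer
    · rw [Finset.coe_nonempty, ← Finset.card_pos, hs₂c]; positivity
    · rw [← Finset.coe_compl, Finset.coe_nonempty, ← Finset.card_pos, Finset.card_compl, hs₂c]
      omega
    · rw [hcardn, Set.ncard_coe_finset, hs₂c]
      intro h
      apply h3
      rw [h]
      exact Dvd.dvd.mul_left (dvd_pow_self 3 (by omega)) 2
  have hP1 : (PA : Subgroup ↥(alternatingGroup α)) ≤
      MulAction.stabilizer (alternatingGroup α) (({u} : Finset α) : Set α) := by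
    intro x hx
    rw [MulAction.mem_stabilizer_set' (Finset.finite_toSet _)]
    intro b hb
    rw [smul_alt_def]
    exact hs₁ _ ((hPAmem x).mp hx) b hb
  have hP2 : (PA : Subgroup ↥(alternatingGroup α)) ≤
      MulAction.stabilizer (alternatingGroup α) ((s₂ : Finset α) : Set α) := by
    intro x hx
    rw [MulAction.mem_stabilizer_set' (Finset.finite_toSet _)]
    intro b hb
    rw [smul_alt_def]
    exact hs₂ _ ((hPAmem x).mp hx) b hb
  have e1 := huniq _ ⟨hco1, hP1⟩
  have e2 := huniq _ ⟨hco2, hP2⟩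
  have heq : MulAction.stabilizer (alternatingGroup α) (({u} : Finset α) : Set α) =
      MulAction.stabilizer (alternatingGroup α) ((s₂ : Finset α) : Set α) := e1.trans e2.symm
  -- points x ∈ s₂ \ {u}, y ∉ s₂ ∪ {u}, z ∉ {u, x, y}
  obtain ⟨x, hx2, hxu⟩ : ∃ x ∈ s₂, x ≠ u := by
    have : 1 < s₂.card := by omega
    obtain ⟨p, hp, q, hq, hpq⟩ := Finset.one_lt_card.mp this
    by_cases h : p = u
    · exact ⟨q, hq, fun h' => hpq (h.trans h'.symm)⟩
    · exact ⟨p, hp, h⟩
  obtain ⟨y, hy2, hyu⟩ : ∃ y, y ∉ s₂ ∧ y ≠ u := by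
    have : 1 < s₂ᶜ.card := by rw [Finset.card_compl, hs₂c]; omega
    obtain ⟨p, hp, q, hq, hpq⟩ := Finset.one_lt_card.mp this
    rw [Finset.mem_compl] at hp hq
    by_cases h : p = u
    · exact ⟨q, hq, fun h' => hpq (h.trans h'.symm)⟩
    · exact ⟨p, hp, h⟩
  have hxy : x ≠ y := fun h => hy2 (h ▸ hx2)
  obtain ⟨z, hzu, hzx, hzy⟩ : ∃ z, z ≠ u ∧ z ≠ x ∧ z ≠ y := by
    have : (({u, x, y} : Finset α)ᶜ).card ≠ 0 := by
      rw [Finset.card_compl]
      have : ({u, x, y} : Finset α).card ≤ 3 := Finset.card_le_three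
      omega
    obtain ⟨z, hz⟩ := Finset.card_pos.mp (Nat.pos_of_ne_zero this)
    simp only [Finset.mem_compl, Finset.mem_insert, Finset.mem_singleton, not_or] at hz
    exact ⟨z, hz.1, hz.2.1, hz.2.2⟩
  have ht : IsThreeCycle (swap x z * swap x y) :=
    isThreeCycle_swap_mul_swap_same hzx.symm hxy (fun h => hzy h)
  set t : ↥(alternatingGroup α) := ⟨swap x z * swap x y, ht.mem_alternatingGroup⟩ with htdef
  have htu : t ∈ MulAction.stabilizer (alternatingGroup α) (({u} : Finset α) : Set α) := by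
    rw [MulAction.mem_stabilizer_set' (Finset.finite_toSet _)]
    intro b hb
    have hbu : b = u := by simpa using hb
    rw [smul_alt_def, hbu]
    have : (swap x z * swap x y) u = u := by
      rw [Perm.mul_apply, swap_apply_of_ne_of_ne hxu.symm hyu.symm,
        swap_apply_of_ne_of_ne hxu.symm hzu.symm]
    rw [htdef]
    simp only [this]
    simp
  rw [heq, MulAction.mem_stabilizer_set' (Finset.finite_toSet _)] at htu
  have := htu (Finset.mem_coe.mpr hx2)
  rw [smul_alt_def, htdef] at this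
  have hxy' : (swap x z * swap x y) x = y := by
    rw [Perm.mul_apply, swap_apply_left, swap_apply_of_ne_of_ne hxy.symm hzy.symm]
  simp only [hxy'] at this
  exact hy2 (Finset.mem_coe.mp this)

/-! ### Case `3 ∣ n`: a fixed-point-free central element of order 3 -/

omit [Fintype α] [DecidableEq α] in
/-- A 3-element commuting with a Sylow 3-subgroup lies in it. -/
theorem mem_sylow_of_commute (P : Sylow 3 (Perm α)) (t : Perm α) (k : ℕ) (ht : t ^ (3 ^ k) = 1)
    (hcomm : ∀ g ∈ (P : Subgroup (Perm α)), t * g = g * t) : t ∈ (P : Subgroup (Perm α)) := by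
  have htn : t ∈ Subgroup.normalizer ((P : Subgroup (Perm α)) : Set (Perm α)) := by
    rw [Subgroup.mem_normalizer_iff]
    intro h
    constructor
    · intro hh
      have : t * h * t⁻¹ = h := by rw [hcomm h hh]; group
      rw [this]; exact hh
    · intro hh
      have h1 := hcomm _ hh
      have : h = t * h * t⁻¹ := by
        have h2 : t * h * t⁻¹ = t⁻¹ * (t * (t * h * t⁻¹)) := by group
        rw [h2, h1]; group
      rw [this]; exact hh
  have hZ : IsPGroup 3 (Subgroup.zpowers t) := by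
    rintro ⟨z, hz⟩
    obtain ⟨i, rfl⟩ := Subgroup.mem_zpowers_iff.mp hz
    refine ⟨k, ?_⟩
    apply Subtype.ext
    simp only [Subgroup.coe_pow, Subgroup.coe_one]
    rw [← zpow_natCast, ← zpow_mul, mul_comm, zpow_mul, zpow_natCast, ht, one_zpow]
  have hsup : IsPGroup 3 ((P : Subgroup (Perm α)) ⊔ Subgroup.zpowers t : Subgroup (Perm α)) :=
    IsPGroup.to_sup_of_normal_left' P.isPGroup' hZ (by rw [Subgroup.zpowers_le]; exact htn)
  have heq := P.is_maximal' hsup le_sup_left
  have : t ∈ (P : Subgroup (Perm α)) ⊔ Subgroup.zpowers t :=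
    Subgroup.mem_sup_right (Subgroup.mem_zpowers t)
  rw [heq] at this
  exact this

theorem exists_sylow_fpf (m : ℕ) (hm0 : 0 < m) (hm : Fintype.card α = 3 * m) :
    ∃ (g : Perm α) (P : Sylow 3 (Perm α)), g ^ 3 = 1 ∧ (∀ x, g x ≠ x) ∧
      g ∈ (P : Subgroup (Perm α)) ∧ ∀ p ∈ (P : Subgroup (Perm α)), p * g = g * p := by
  classical
  obtain ⟨g, hg⟩ := (Equiv.Perm.exists_with_cycleType_iff α (m := Multiset.replicate m 3)).mpr
    ⟨by rw [Multiset.sum_replicate, smul_eq_mul, hm, mul_comm], by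
      intro a ha
      rw [Multiset.eq_of_mem_replicate ha]; norm_num⟩
  have hg3 : g ^ 3 = 1 := by
    have : orderOf g ∣ 3 := by
      rw [← lcm_cycleType, hg]
      apply Multiset.lcm_dvd.mpr
      intro a ha
      rw [Multiset.eq_of_mem_replicate ha]
    exact orderOf_dvd_iff_pow_eq_one.mp this
  have hfpf : ∀ x, g x ≠ x := by
    have h1 : g.support.card = Fintype.card α := by
      rw [← sum_cycleType, hg, Multiset.sum_replicate, smul_eq_mul, hm, mul_comm]
    have h2 : g.support = Finset.univ := Finset.eq_univ_of_card _ h1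
    intro x
    exact mem_support.mp (h2 ▸ Finset.mem_univ x)
  have hcard := Equiv.Perm.nat_card_centralizer g
  have hm0' : m ≠ 0 := by omega
  rw [hg, Multiset.sum_replicate, Multiset.prod_replicate, Multiset.toFinset_replicate,
    if_neg hm0', Finset.prod_singleton, Multiset.count_replicate_self, smul_eq_mul, hm,
    mul_comm m 3, Nat.sub_self, Nat.factorial_zero, one_mul] at hcard
  set C := Subgroup.centralizer ({g} : Set (Perm α)) with hC
  obtain ⟨Q⟩ : Nonempty (Sylow 3 ↥C) := inferInstance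
  have hQ := Q.card_eq_multiplicity
  have hval : (Nat.card ↥C).factorization 3 = (Nat.card (Perm α)).factorization 3 := by
    rw [hcard, Nat.card_eq_fintype_card, Fintype.card_perm, hm,
      Nat.factorization_def _ (by norm_num : Nat.Prime 3),
      Nat.factorization_def _ (by norm_num : Nat.Prime 3),
      padicValNat_factorial_mul, padicValNat.mul (by positivity) (Nat.factorial_ne_zero m),
      padicValNat.prime_pow, add_comm]
  set Q' : Subgroup (Perm α) := (Q : Subgroup ↥C).map C.subtype with hQ'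
  have hQ'card : Nat.card ↥Q' = 3 ^ (Nat.card (Perm α)).factorization 3 := by
    rw [hQ', Subgroup.card_map_of_injective C.subtype_injective, hQ, hval]
  set P : Sylow 3 (Perm α) := Sylow.ofCard Q' hQ'card with hP
  have hPC : ∀ p ∈ (P : Subgroup (Perm α)), p * g = g * p := by
    intro p hp
    rw [hP, Sylow.coe_ofCard] at hp
    obtain ⟨c, -, rfl⟩ := hp
    have h1 : (c : Perm α) ∈ Subgroup.centralizer ({g} : Set (Perm α)) := c.2
    rw [Subgroup.mem_centralizer_iff] at h1
    exact (h1 g (Set.mem_singleton g)).symm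
  refine ⟨g, P, hg3, hfpf, ?_, hPC⟩
  apply mem_sylow_of_commute P g 1 (by rw [pow_one]; exact hg3)
  intro p hp
  exact (hPC p hp).symm

/-! ### Generation lemmas -/

theorem altOn_univ : altOn (Finset.univ : Finset α) = alternatingGroup α := by
  ext g
  rw [mem_altOn, mem_alternatingGroup]
  exact ⟨fun h => h.2, fun h => ⟨Finset.subset_univ _, h⟩⟩

theorem altOn_mono {S T : Finset α} (h : S ⊆ T) : altOn S ≤ altOn T := by
  intro g hg
  rw [mem_altOn] at hg ⊢
  exact ⟨hg.1.trans h, hg.2⟩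

theorem exists_threeCycle_map (S : Finset α) (hS : 3 ≤ S.card) {x y : α} (hx : x ∈ S)
    (hy : y ∈ S) (hxy : x ≠ y) :
    ∃ t : Perm α, t.IsThreeCycle ∧ t.support ⊆ S ∧ t x = y := by
  obtain ⟨z, hz, hzx, hzy⟩ : ∃ z ∈ S, z ≠ x ∧ z ≠ y := by
    have : ((S.erase x).erase y).card ≠ 0 := by
      rw [Finset.card_erase_of_mem (Finset.mem_erase.mpr ⟨hxy.symm, hy⟩),
        Finset.card_erase_of_mem hx]
      omega
    obtain ⟨z, hz⟩ := Finset.card_pos.mp (Nat.pos_of_ne_zero this)
    rw [Finset.mem_erase, Finset.mem_erase] at hz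
    exact ⟨z, hz.2.2, hz.2.1, hz.1⟩
  refine ⟨swap x z * swap x y, isThreeCycle_swap_mul_swap_same hzx.symm hxy (fun h => hzy h),
    ?_, ?_⟩
  · intro w hw
    have hsub : (swap x z * swap x y).support ⊆ (swap x z).support ∪ (swap x y).support :=
      support_mul_le _ _
    have := hsub hw
    rw [Finset.mem_union, support_swap hzx.symm, support_swap hxy] at this
    simp only [Finset.mem_insert, Finset.mem_singleton] at this
    rcases this with (rfl | rfl) | (rfl | rfl) <;> assumption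
  · rw [Perm.mul_apply, swap_apply_left, swap_apply_of_ne_of_ne hxy.symm hzy.symm]

theorem altOn_union_le (K : Subgroup (Perm α)) (S T : Finset α) (hS : 3 ≤ S.card)
    (hT : 3 ≤ T.card) (hST : (S ∩ T).Nonempty) (hSK : altOn S ≤ K) (hTK : altOn T ≤ K) :
    altOn (S ∪ T) ≤ K := by
  classical
  set W : Set (Perm α) := {t | t.IsThreeCycle ∧ (t.support ⊆ S ∨ t.support ⊆ T)} with hW
  have hWK : Subgroup.closure W ≤ K := by
    rw [Subgroup.closure_le]
    rintro t ⟨ht3, hs | hs⟩
    · exact hSK (isThreeCycle_mem_altOn ht3 hs)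
    · exact hTK (isThreeCycle_mem_altOn ht3 hs)
  obtain ⟨p, hp⟩ := hST
  rw [Finset.mem_inter] at hp
  have trS : ∀ x ∈ S, ∀ y ∈ S, ∃ w ∈ Subgroup.closure W, w x = y := by
    intro x hx y hy
    by_cases hxy : x = y
    · exact ⟨1, Subgroup.one_mem _, by simpa using hxy⟩
    · obtain ⟨t, ht3, hts, htx⟩ := exists_threeCycle_map S hS hx hy hxy
      exact ⟨t, Subgroup.subset_closure ⟨ht3, Or.inl hts⟩, htx⟩
  have trT : ∀ x ∈ T, ∀ y ∈ T, ∃ w ∈ Subgroup.closure W, w x = y := by
    intro x hx y hy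
    by_cases hxy : x = y
    · exact ⟨1, Subgroup.one_mem _, by simpa using hxy⟩
    · obtain ⟨t, ht3, hts, htx⟩ := exists_threeCycle_map T hT hx hy hxy
      exact ⟨t, Subgroup.subset_closure ⟨ht3, Or.inr hts⟩, htx⟩
  have toP : ∀ x ∈ S ∪ T, ∃ w ∈ Subgroup.closure W, w x = p := by
    intro x hx
    rcases Finset.mem_union.mp hx with h | h
    · exact trS x h p hp.1
    · exact trT x h p hp.2
  obtain ⟨t0, ht0⟩ : W.Nonempty := by
    obtain ⟨q, hq, hqp⟩ : ∃ q ∈ S, q ≠ p := by
      have : 1 < S.card := by omega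
      obtain ⟨a, ha, b, hb, hab⟩ := Finset.one_lt_card.mp this
      by_cases h : a = p
      · exact ⟨b, hb, fun h' => hab (h.trans h'.symm)⟩
      · exact ⟨a, ha, h⟩
    obtain ⟨t, ht3, hts, -⟩ := exists_threeCycle_map S hS hp.1 hq hqp.symm
    exact ⟨t, ht3, Or.inl hts⟩
  have hcl := closure_eq_altOn (S ∪ T) W ⟨t0, ht0⟩ (fun t ht => ht.1)
    (fun t ht => by
      rcases ht.2 with h | h
      · exact h.trans Finset.subset_union_left
      · exact h.trans Finset.subset_union_right)
    (fun x hx y hy => by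
      obtain ⟨w1, hw1, h1⟩ := toP x hx
      obtain ⟨w2, hw2, h2⟩ := toP y hy
      refine ⟨w2⁻¹ * w1, Subgroup.mul_mem _ (Subgroup.inv_mem _ hw2) hw1, ?_⟩
      rw [Perm.mul_apply, h1, ← h2]
      simp)
  rw [← hcl]
  exact hWK

theorem altOn_image_le (K : Subgroup (Perm α)) (S : Finset α) (h : Perm α) (hK : h ∈ K)
    (hS : altOn S ≤ K) : altOn (S.image h) ≤ K := by
  intro σ hσ
  rw [mem_altOn] at hσ
  have h1 : h⁻¹ * σ * h ∈ altOn S := by
    rw [mem_altOn]
    constructor
    · intro z hz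
      rw [mem_support] at hz
      have hz' : h z ∈ σ.support := by
        rw [mem_support]
        intro e
        apply hz
        simp [Perm.mul_apply, e]
      obtain ⟨w, hw, hwz⟩ := Finset.mem_image.mp (hσ.1 hz')
      rw [h.injective hwz] at hw
      exact hw
    · simp [hσ.2]
  have h2 := K.mul_mem (K.mul_mem hK (hS h1)) (K.inv_mem hK)
  have : h * (h⁻¹ * σ * h) * h⁻¹ = σ := by group
  rw [this] at h2
  exact h2

/-- Lemma Y. -/
theorem alt_le_of_centralizer (g : Perm α) (hg3 : g ^ 3 = 1) (hfpf : ∀ x, g x ≠ x)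
    (B : Finset α) (hBg : ∀ x ∈ B, g x ∈ B) (hB : 3 < B.card) (K : Subgroup (Perm α))
    (hBK : altOn B ≤ K)
    (hCK : ∀ h : Perm α, Perm.sign h = 1 → h * g = g * h → h ∈ K) :
    alternatingGroup α ≤ K := by
  classical
  have hggg : ∀ z, g (g (g z)) = z := by
    intro z
    have := congrArg (fun f : Perm α => f z) hg3
    simpa [pow_succ, Perm.mul_apply] using this
  have hginv : ∀ z, g⁻¹ z = g (g z) := by
    intro z
    rw [Perm.inv_eq_iff_eq, hggg]
  have hgg : ∀ z, g (g z) ≠ z := by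
    intro z h
    have := hggg z
    rw [h] at this
    exact hfpf z this
  -- B is closed under g⁻¹ too
  have hBg' : ∀ z, g z ∈ B → z ∈ B := by
    intro z hz
    have := hBg _ (hBg _ hz)
    rwa [hggg] at this
  -- the extension step
  have step : ∀ B' : Finset α, B ⊆ B' → altOn B' ≤ K → ∀ y, y ∉ B' →
      ∃ B'' : Finset α, B' ⊆ B'' ∧ y ∈ B'' ∧ altOn B'' ≤ K := by
    intro B' hBB' hB'K y hy
    obtain ⟨x, hx⟩ : B.Nonempty := Finset.card_pos.mp (by omega)
    obtain ⟨x', hx'B, hx'⟩ : ∃ x' ∈ B, x' ∉ ({x, g x, g (g x)} : Finset α) := by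
      by_contra hcon
      push Not at hcon
      have : B ⊆ ({x, g x, g (g x)} : Finset α) := fun z hz => hcon z hz
      have := (Finset.card_le_card this).trans Finset.card_le_three
      omega
    simp only [Finset.mem_insert, Finset.mem_singleton, not_or] at hx'
    obtain ⟨hx'x, hx'gx, hx'ggx⟩ := hx'
    have hyB : y ∉ B := fun h => hy (hBB' h)
    have hgyB : g y ∉ B := fun h => hyB (hBg' y h)
    have hggyB : g (g y) ∉ B := fun h => hgyB (hBg' _ h)
    have hgxB : g x ∈ B := hBg x hx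
    have hggxB : g (g x) ∈ B := hBg _ hgxB
    have hgx'B : g x' ∈ B := hBg x' hx'B
    have hggx'B : g (g x') ∈ B := hBg _ hgx'B
    have hxy : x ≠ y := fun h => hyB (h ▸ hx)
    have hx'y : x' ≠ y := fun h => hyB (h ▸ hx'B)
    set c : Perm α := swap x x' * swap x y with hc
    have hc3 : c.IsThreeCycle :=
      isThreeCycle_swap_mul_swap_same (Ne.symm hx'x) hxy hx'y
    have hcfix : ∀ z, z ≠ x → z ≠ y → z ≠ x' → c z = z := by
      intro z h1 h2 h3
      rw [hc, Perm.mul_apply, swap_apply_of_ne_of_ne h1 h2, swap_apply_of_ne_of_ne h1 h3]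
    have hcx : c x = y := by
      rw [hc, Perm.mul_apply, swap_apply_left, swap_apply_of_ne_of_ne hxy.symm hx'y.symm]
    have hcx' : c x' = x := by
      rw [hc, Perm.mul_apply, swap_apply_of_ne_of_ne hx'x hx'y, swap_apply_right]
    -- images under g and g∘g of x, y, x' avoid {x, y, x'}
    have A1 : ∀ z, (z = x ∨ z = y ∨ z = x') →
        (g z ≠ x ∧ g z ≠ y ∧ g z ≠ x') ∧ (g (g z) ≠ x ∧ g (g z) ≠ y ∧ g (g z) ≠ x') := by
      intro z hz
      rcases hz with rfl | rfl | rfl
      · refine ⟨⟨hfpf _, fun h => hyB (h ▸ hgxB), fun h => hx'gx h.symm⟩,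
          ⟨hgg _, fun h => hyB (h ▸ hggxB), fun h => hx'ggx h.symm⟩⟩
      · refine ⟨⟨fun h => hgyB (h ▸ hx), hfpf _, fun h => hgyB (h ▸ hx'B)⟩,
          ⟨fun h => hggyB (h ▸ hx), hgg _, fun h => hggyB (h ▸ hx'B)⟩⟩
      · refine ⟨⟨?_, fun h => hyB (h ▸ hgx'B), hfpf _⟩, ⟨?_, fun h => hyB (h ▸ hggx'B), hgg _⟩⟩
        · intro h
          -- g x' = x ⇒ x' = g (g x)
          apply hx'ggx
          rw [← h, hggg]
        · intro h
          apply hx'gx
          rw [← h, hggg]
    set c1 : Perm α := g * c * g⁻¹ with hc1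
    set c2 : Perm α := g⁻¹ * c * g with hc2
    have hc1fix : ∀ z, (z = x ∨ z = y ∨ z = x') → c1 z = z := by
      intro z hz
      have := (A1 z hz).2
      rw [hc1, Perm.mul_apply, Perm.mul_apply, hginv, hcfix _ this.1 this.2.1 this.2.2, hggg]
    have hc2fix : ∀ z, (z = x ∨ z = y ∨ z = x') → c2 z = z := by
      intro z hz
      have := (A1 z hz).1
      rw [hc2, Perm.mul_apply, Perm.mul_apply, hcfix _ this.1 this.2.1 this.2.2]
      simp
    have hmoved : ∀ z, c z ≠ z → (z = x ∨ z = y ∨ z = x') := by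
      intro z hz
      by_contra hcon
      push Not at hcon
      exact hz (hcfix z hcon.1 hcon.2.1 hcon.2.2)
    have comm1 : c * c1 = c1 * c := commute_of_fix (fun z hz => hc1fix z (hmoved z hz))
    have comm2 : c * c2 = c2 * c := commute_of_fix (fun z hz => hc2fix z (hmoved z hz))
    set h : Perm α := c * c1 * c2 with hh
    have hsign : Perm.sign h = 1 := by
      rw [hh, hc1, hc2]
      simp [hc3.sign]
    have hginv2 : g⁻¹ = g * g := by
      ext z
      rw [hginv, Perm.mul_apply]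
    have hcomm : h * g = g * h := by
      have e1 : g * h * g⁻¹ = c1 * (g * c1 * g⁻¹) * (g * c2 * g⁻¹) := by
        rw [hh, hc1]; group
      have e2 : g * c1 * g⁻¹ = c2 := by
        rw [hc1, hc2]
        have : g * (g * c * g⁻¹) * g⁻¹ = (g * g) * c * (g⁻¹ * g⁻¹) := by group
        rw [this, ← hginv2]
        have : g⁻¹ * g⁻¹ = g := by
          rw [hginv2]
          have : g * g * (g * g) = g ^ 3 * g := by
            rw [pow_succ, pow_succ, pow_one]; simp only [mul_assoc]
          rw [this, hg3, one_mul]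
        rw [this]
      have e3 : g * c2 * g⁻¹ = c := by
        rw [hc2]; group
      rw [e2, e3] at e1
      have e4 : c1 * c2 * c = c * c1 * c2 := by
        rw [mul_assoc, ← comm2, ← mul_assoc, ← comm1]
      rw [e4] at e1
      have : g * h = (g * h * g⁻¹) * g := by group
      rw [this, e1]
    have hhK : h ∈ K := hCK h hsign hcomm
    have hhx' : h x' = x := by
      rw [hh, Perm.mul_apply, Perm.mul_apply, hc2fix x' (Or.inr (Or.inr rfl)),
        hc1fix x' (Or.inr (Or.inr rfl)), hcx']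
    have hhx : h x = y := by
      rw [hh, Perm.mul_apply, Perm.mul_apply, hc2fix x (Or.inl rfl), hc1fix x (Or.inl rfl), hcx]
    refine ⟨B' ∪ B'.image h, Finset.subset_union_left, ?_, ?_⟩
    · apply Finset.mem_union_right
      rw [← hhx]
      exact Finset.mem_image_of_mem h (hBB' hx)
    · have hB'3 : 3 ≤ B'.card := by
        have := Finset.card_le_card hBB'
        omega
      apply altOn_union_le K B' (B'.image h) hB'3
        (by rw [Finset.card_image_of_injective _ h.injective]; exact hB'3)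
      · refine ⟨x, Finset.mem_inter.mpr ⟨hBB' hx, ?_⟩⟩
        rw [← hhx']
        exact Finset.mem_image_of_mem h (hBB' hx'B)
      · exact hB'K
      · exact altOn_image_le K B' h hhK hB'K
  -- maximal B'
  set 𝒮 : Finset (Finset α) := Finset.univ.filter (fun B' => B ⊆ B' ∧ altOn B' ≤ K) with h𝒮
  have hne : 𝒮.Nonempty := ⟨B, by rw [h𝒮, Finset.mem_filter]; exact ⟨Finset.mem_univ _, subset_rfl, hBK⟩⟩
  obtain ⟨Bm, hBm, hmax⟩ := Finset.exists_max_image 𝒮 Finset.card hne
  rw [h𝒮, Finset.mem_filter] at hBm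
  have hBmu : Bm = Finset.univ := by
    by_contra hcon
    obtain ⟨y, hy⟩ : ∃ y, y ∉ Bm := by
      by_contra h
      push Not at h
      exact hcon (Finset.eq_univ_iff_forall.mpr h)
    obtain ⟨B'', h1, h2, h3⟩ := step Bm hBm.2.1 hBm.2.2 y hy
    have hB''mem : B'' ∈ 𝒮 := by
      rw [h𝒮, Finset.mem_filter]
      exact ⟨Finset.mem_univ _, hBm.2.1.trans h1, h3⟩
    have hlt : Bm.card < B''.card := by
      apply Finset.card_lt_card
      refine ⟨h1, fun hsub => hy (hsub h2)⟩
    have := hmax B'' hB''mem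
    omega
  rw [← altOn_univ, ← hBmu]
  exact hBm.2.2

/-! ### Case `3 ∣ n`, `n` not a power of 3 -/

theorem not_alt_le_centralizer (h4 : 4 ≤ Fintype.card α) (g : Perm α) (hfpf : ∀ x, g x ≠ x) :
    ¬ alternatingGroup α ≤ Subgroup.centralizer ({g} : Set (Perm α)) := by
  classical
  intro hle
  obtain ⟨x⟩ : Nonempty α := by
    rw [← Fintype.card_pos_iff]; omega
  obtain ⟨v, w, hvw, hvx, hvg, hwx, hwg⟩ :
      ∃ v w : α, v ≠ w ∧ v ≠ x ∧ v ≠ g x ∧ w ≠ x ∧ w ≠ g x := by
    have h : 1 < (({x, g x} : Finset α)ᶜ).card := by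
      rw [Finset.card_compl]
      have : ({x, g x} : Finset α).card ≤ 2 := Finset.card_le_two
      omega
    obtain ⟨c, hc, d, hd, hcd⟩ := Finset.one_lt_card.mp h
    simp only [Finset.mem_compl, Finset.mem_insert, Finset.mem_singleton, not_or] at hc hd
    exact ⟨c, d, hcd, hc.1, hc.2, hd.1, hd.2⟩
  have ht : IsThreeCycle (swap (g x) v * swap (g x) w) :=
    isThreeCycle_swap_mul_swap_same hvg.symm hwg.symm hvw
  have hmem := hle ht.mem_alternatingGroup
  rw [Subgroup.mem_centralizer_iff] at hmem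
  have h1 := hmem g (Set.mem_singleton g)
  have h2 := congrArg (fun f : Perm α => f x) h1
  simp only [Perm.mul_apply] at h2
  have hx1 : (swap (g x) w) x = x := swap_apply_of_ne_of_ne (hfpf x).symm hwx.symm
  have hx2 : (swap (g x) v) x = x := swap_apply_of_ne_of_ne (hfpf x).symm hvx.symm
  rw [hx1, hx2, swap_apply_left, swap_apply_of_ne_of_ne hwg hvw.symm] at h2
  exact hwg h2.symm

theorem not_alt_le_stabilizer (Δ : Finset α) (hne : Δ.Nonempty) (hne' : Δ ≠ Finset.univ)
    (h3 : 3 ≤ Fintype.card α) :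
    ¬ alternatingGroup α ≤ MulAction.stabilizer (Perm α) Δ := by
  classical
  intro hle
  obtain ⟨x, hx⟩ := hne
  obtain ⟨y, hy⟩ : ∃ y, y ∉ Δ := by
    by_contra h
    push Not at h
    exact hne' (Finset.eq_univ_iff_forall.mpr h)
  have hxy : x ≠ y := fun h => hy (h ▸ hx)
  obtain ⟨t, ht3, -, htx⟩ := exists_threeCycle_map (Finset.univ : Finset α)
    (by rw [Finset.card_univ]; exact h3) (Finset.mem_univ x) (Finset.mem_univ y) hxy
  have hmem := hle ht3.mem_alternatingGroup
  rw [MulAction.mem_stabilizer_finset'] at hmem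
  have := hmem hx
  rw [Perm.smul_def, htx] at this
  exact hy this

theorem case_dvd_not_pow (hmin : Cfsg.IsPMinimal 3 ↥(alternatingGroup α)) (m : ℕ)
    (hm : Fintype.card α = 3 * m) (h12 : 12 ≤ Fintype.card α)
    (hnp : ∀ a : ℕ, Fintype.card α ≠ 3 ^ a) : False := by
  classical
  set n := Fintype.card α with hn
  obtain ⟨g, P, hg3, hfpf, hgP, hcomm⟩ := exists_sylow_fpf (α := α) m (by omega) hm
  set a := Nat.log 3 n with ha
  have hlo : 3 ^ a ≤ n := Nat.pow_log_le_self 3 (by omega)
  have hhi : n < 3 ^ (a + 1) := Nat.lt_pow_succ_log_self (by norm_num) n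
  have hlt : 3 ^ a < n := lt_of_le_of_ne hlo (fun h => hnp a h.symm)
  have ha2 : 2 ≤ a := by
    by_contra h
    have : a + 1 ≤ 2 := by omega
    have : 3 ^ (a + 1) ≤ 3 ^ 2 := Nat.pow_le_pow_right (by norm_num) this
    omega
  have h9 : 9 ≤ 3 ^ a := by
    calc 9 = 3 ^ 2 := by norm_num
      _ ≤ 3 ^ a := Nat.pow_le_pow_right (by norm_num) ha2
  obtain ⟨Δ, hΔc, hΔ⟩ := exists_invariant_finset (P : Subgroup (Perm α)) P.isPGroup' (3 ^ a)
    (not_dvd_choose_pow n a hlo hhi)
  have hΔne : Δ.Nonempty := by rw [← Finset.card_pos, hΔc]; positivity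
  have hΔu : Δ ≠ Finset.univ := by
    intro h
    rw [h, Finset.card_univ] at hΔc
    omega
  apply false_of_two_overgroups hmin P (Subgroup.centralizer ({g} : Set (Perm α)))
    (MulAction.stabilizer (Perm α) Δ)
  · intro p hp
    rw [Subgroup.mem_centralizer_iff]
    intro h hh
    rw [Set.mem_singleton_iff] at hh
    rw [hh]
    exact (hcomm p hp).symm
  · intro p hp
    rw [MulAction.mem_stabilizer_finset']
    intro b hb
    exact hΔ p hp b hb
  · exact not_alt_le_centralizer (by omega) g hfpf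
  · exact not_alt_le_stabilizer Δ hΔne hΔu (by omega)
  · intro K hK1 hK2
    apply alt_le_of_centralizer g hg3 hfpf Δ (fun x hx => hΔ g hgP x hx) (by omega) K
    · intro σ hσ
      rw [mem_altOn] at hσ
      apply hK2
      refine Subgroup.mem_inf.mpr ⟨?_, mem_alternatingGroup.mpr hσ.2⟩
      rw [MulAction.mem_stabilizer_finset']
      intro b hb
      rw [Perm.smul_def]
      by_cases hfix : σ b = b
      · rw [hfix]; exact hb
      · exact hσ.1 (apply_mem_support.mpr (mem_support.mpr hfix))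
    · intro h hs hc
      apply hK1
      refine Subgroup.mem_inf.mpr ⟨?_, mem_alternatingGroup.mpr hs⟩
      rw [Subgroup.mem_centralizer_iff]
      intro k hk
      rw [Set.mem_singleton_iff] at hk
      rw [hk]
      exact hc.symm

/-! ### Case `n = 3 ^ a` -/

theorem sylow_transitive_of_pow (P : Sylow 3 (Perm α)) (a : ℕ) (hn : Fintype.card α = 3 ^ a)
    (x y : α) : ∃ p ∈ (P : Subgroup (Perm α)), p x = y := by
  classical
  set O : Finset α := Finset.univ.filter (fun z => ∃ p ∈ (P : Subgroup (Perm α)), p x = z) with hO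
  have hxO : x ∈ O := by
    rw [hO, Finset.mem_filter]
    exact ⟨Finset.mem_univ _, 1, Subgroup.one_mem _, rfl⟩
  have hinv : ∀ q ∈ (P : Subgroup (Perm α)), ∀ z ∈ O, q z ∈ O := by
    intro q hq z hz
    rw [hO, Finset.mem_filter] at hz ⊢
    obtain ⟨p, hp, rfl⟩ := hz.2
    exact ⟨Finset.mem_univ _, q * p, Subgroup.mul_mem _ hq hp, rfl⟩
  have hnd := not_dvd_choose_of_invariant P O hinv
  rw [hn] at hnd
  have hcard : O.card = 3 ^ a := by
    by_contra hne
    apply hnd
    apply Nat.Prime.dvd_choose_pow (by norm_num)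
    · exact (Finset.card_pos.mpr ⟨x, hxO⟩).ne'
    · exact hne
  have hOu : O = Finset.univ := Finset.eq_univ_of_card _ (by rw [hcard, hn])
  have : y ∈ O := by rw [hOu]; exact Finset.mem_univ y
  rw [hO, Finset.mem_filter] at this
  exact this.2

theorem exists_index_three (P : Sylow 3 (Perm α)) (a : ℕ) (ha : 2 ≤ a)
    (hn : Fintype.card α = 3 ^ a) (g : Perm α) (hg3 : g ^ 3 = 1)
    (hgP : g ∈ (P : Subgroup (Perm α)))
    (hcomm : ∀ p ∈ (P : Subgroup (Perm α)), p * g = g * p) (x : α) :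
    ∃ (K' : Subgroup (Perm α)) (B : Finset α), K' ≤ (P : Subgroup (Perm α)) ∧
      (∀ p ∈ (P : Subgroup (Perm α)), ∀ k ∈ K', p * k * p⁻¹ ∈ K') ∧
      (∀ p ∈ (P : Subgroup (Perm α)), p x = x → p ∈ K') ∧ g ∈ K' ∧
      (∃ p ∈ (P : Subgroup (Perm α)), p ∉ K') ∧
      (∀ y, y ∈ B ↔ ∃ k ∈ K', k x = y) ∧ Fintype.card α ≤ 3 * B.card := by
  classical
  have hggg : ∀ z, g (g (g z)) = z := by
    intro z
    have := congrArg (fun f : Perm α => f z) hg3
    simpa [pow_succ, Perm.mul_apply] using this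
  have hcomm' : ∀ p ∈ (P : Subgroup (Perm α)), ∀ z, p (g z) = g (p z) := by
    intro p hp z
    have := congrArg (fun f : Perm α => f z) (hcomm p hp)
    simpa [Perm.mul_apply] using this
  set G := ↥(P : Subgroup (Perm α)) with hG
  set N := (Nat.card (Perm α)).factorization 3 with hN
  have hcardG : Nat.card G = 3 ^ N := P.card_eq_multiplicity
  set S : Finset α := {x, g x, g (g x)} with hS
  set H' : Subgroup G := MulAction.stabilizer G S with hH'
  have hmemH' : ∀ q : G, q ∈ H' ↔ ∀ b ∈ S, (q : Perm α) b ∈ S := by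
    intro q
    rw [hH', MulAction.mem_stabilizer_finset']
    rfl
  -- H' is proper
  have hS3 : S.card ≤ 3 := Finset.card_le_three
  have h9 : 9 ≤ 3 ^ a := by
    calc 9 = 3 ^ 2 := by norm_num
      _ ≤ 3 ^ a := Nat.pow_le_pow_right (by norm_num) ha
  obtain ⟨y, hy⟩ : ∃ y, y ∉ S := by
    by_contra h
    push Not at h
    have : S = Finset.univ := Finset.eq_univ_iff_forall.mpr h
    rw [this, Finset.card_univ, hn] at hS3
    omega
  obtain ⟨p0, hp0, hp0x⟩ := sylow_transitive_of_pow P a hn x y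
  have hxS : x ∈ S := by rw [hS]; simp
  have hH'top : H' ≠ ⊤ := by
    intro h
    have : (⟨p0, hp0⟩ : G) ∈ H' := by rw [h]; exact Subgroup.mem_top _
    rw [hmemH'] at this
    have := this x hxS
    simp only [hp0x] at this
    exact hy this
  obtain ⟨j, hj⟩ := IsPGroup.iff_card.mp (P.isPGroup'.to_subgroup H')
  have hjN : j < N := by
    have hdvd : 3 ^ j ∣ 3 ^ N := by
      rw [← hj, ← hcardG]; exact Subgroup.card_subgroup_dvd_card H'
    have hle : j ≤ N := (Nat.pow_dvd_pow_iff_le_right (by norm_num)).mp hdvd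
    rcases Nat.lt_or_ge j N with h | h
    · exact h
    · exfalso
      have : j = N := le_antisymm hle h
      apply hH'top
      apply Subgroup.eq_top_of_card_eq
      rw [hj, hcardG, this]
  obtain ⟨K, hKcard, hHK⟩ := Sylow.exists_subgroup_card_pow_prime_le 3 (m := N - 1)
    (by rw [hcardG]; exact pow_dvd_pow 3 (by omega)) H' hj (by omega)
  have hKidx : K.index = 3 := by
    have h1 := K.card_mul_index
    rw [hKcard, hcardG] at h1
    have : 3 ^ N = 3 ^ (N - 1) * 3 := by
      rw [← pow_succ]; congr 1; omega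
    rw [this] at h1
    exact Nat.eq_of_mul_eq_mul_left (by positivity) h1
  have hKn : K.Normal := by
    apply Subgroup.normal_of_index_eq_minFac_card
    rw [hKidx, hcardG, Nat.Prime.pow_minFac (by norm_num) (by omega)]
  set K' : Subgroup (Perm α) := K.map (Subgroup.subtype _) with hK'
  have hmemK' : ∀ q : G, (q : Perm α) ∈ K' ↔ q ∈ K := by
    intro q
    constructor
    · rintro ⟨k, hk, hkq⟩
      have : k = q := Subtype.ext hkq
      rw [← this]; exact hk
    · intro h
      exact ⟨q, h, rfl⟩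
  set B : Finset α := Finset.univ.filter (fun y => ∃ k ∈ K', k x = y) with hB
  refine ⟨K', B, ?_, ?_, ?_, ?_, ?_, ?_, ?_⟩
  · rintro _ ⟨k, -, rfl⟩
    exact k.2
  · intro p hp k hk
    obtain ⟨k0, hk0, rfl⟩ := hk
    have := hKn.conj_mem k0 hk0 ⟨p, hp⟩
    exact (hmemK' _).mpr this
  · intro p hp hpx
    apply (hmemK' ⟨p, hp⟩).mpr
    apply hHK
    rw [hmemH']
    intro b hb
    rw [hS] at hb ⊢
    simp only [Finset.mem_insert, Finset.mem_singleton] at hb ⊢
    rcases hb with hb | hb | hb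
    · left; rw [hb]; exact hpx
    · right; left
      rw [hb]
      show p (g x) = g x
      rw [hcomm' p hp, hpx]
    · right; right
      rw [hb]
      show p (g (g x)) = g (g x)
      rw [hcomm' p hp, hcomm' p hp, hpx]
  · apply (hmemK' ⟨g, hgP⟩).mpr
    apply hHK
    rw [hmemH']
    intro b hb
    rw [hS] at hb ⊢
    simp only [Finset.mem_insert, Finset.mem_singleton] at hb ⊢
    rcases hb with hb | hb | hb
    · right; left; rw [hb]
    · right; right; rw [hb]
    · left; rw [hb]; exact hggg x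
  · have hKtop : K ≠ ⊤ := by
      intro h
      rw [h, Subgroup.index_top] at hKidx
      omega
    obtain ⟨q, hq⟩ : ∃ q : G, q ∉ K := by
      by_contra h
      push Not at h
      exact hKtop (eq_top_iff.mpr fun q _ => h q)
    exact ⟨q, q.2, fun h => hq ((hmemK' q).mp h)⟩
  · intro y
    rw [hB, Finset.mem_filter]
    simp only [Finset.mem_univ, true_and]
  · have : Fintype (G ⧸ K) := Fintype.ofFinite _
    have hcover : (Finset.univ : Finset α) ⊆
        (Finset.univ : Finset (G ⧸ K)).biUnion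
          (fun c => B.image (fun z => ((Quotient.out c : G) : Perm α) z)) := by
      intro z _
      obtain ⟨p, hp, hpx⟩ := sylow_transitive_of_pow P a hn x z
      set q : G := ⟨p, hp⟩ with hq
      set c : G ⧸ K := (q : G ⧸ K) with hc
      have hout : (Quotient.out c : G)⁻¹ * q ∈ K := by
        rw [← QuotientGroup.eq, hc]
        exact Quotient.out_eq _
      rw [Finset.mem_biUnion]
      refine ⟨c, Finset.mem_univ _, ?_⟩
      rw [Finset.mem_image]
      refine ⟨(((Quotient.out c : G)⁻¹ * q : G) : Perm α) x, ?_, ?_⟩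
      · rw [hB, Finset.mem_filter]
        exact ⟨Finset.mem_univ _, _, (hmemK' _).mpr hout, rfl⟩
      · show ((Quotient.out c : G) : Perm α) ((((Quotient.out c : G)⁻¹ * q : G) : Perm α) x) = z
        rw [← Perm.mul_apply, ← Subgroup.coe_mul, mul_inv_cancel_left]
        exact hpx
    have h1 := Finset.card_le_card hcover
    have h2 := Finset.card_biUnion_le (s := (Finset.univ : Finset (G ⧸ K)))
      (t := fun c => B.image (fun z => ((Quotient.out c : G) : Perm α) z))
    have h3 : ∀ c ∈ (Finset.univ : Finset (G ⧸ K)),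
        (B.image (fun z => ((Quotient.out c : G) : Perm α) z)).card ≤ B.card :=
      fun c _ => Finset.card_image_le
    have h4 := Finset.sum_le_sum h3
    rw [Finset.sum_const, smul_eq_mul, Finset.card_univ] at h4
    have h5 : Fintype.card (G ⧸ K) = 3 := by
      rw [← Nat.card_eq_fintype_card, ← Subgroup.index_eq_card, hKidx]
    rw [h5] at h4
    rw [Finset.card_univ] at h1
    omega

/-- The subgroup of permutations preserving the orbit partition of `K'`. -/
def partStab (K' : Subgroup (Perm α)) : Subgroup (Perm α) where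
  carrier := {σ | ∀ u v, (∃ k ∈ K', k u = v) ↔ (∃ k ∈ K', k (σ u) = σ v)}
  one_mem' := by intro u v; simp
  mul_mem' := by
    intro σ τ hσ hτ u v
    rw [hτ u v, hσ (τ u) (τ v)]
    simp [Perm.mul_apply]
  inv_mem' := by
    intro σ hσ u v
    rw [hσ (σ⁻¹ u) (σ⁻¹ v)]
    simp

omit [Fintype α] [DecidableEq α] in
theorem mem_partStab {K' : Subgroup (Perm α)} {σ : Perm α} :
    σ ∈ partStab K' ↔ ∀ u v, (∃ k ∈ K', k u = v) ↔ (∃ k ∈ K', k (σ u) = σ v) := Iff.rfl

theorem case_pow (hmin : Cfsg.IsPMinimal 3 ↥(alternatingGroup α)) (a : ℕ) (ha : 3 ≤ a)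
    (hn : Fintype.card α = 3 ^ a) : False := by
  classical
  have h27 : 27 ≤ Fintype.card α := by
    rw [hn]
    calc 27 = 3 ^ 3 := by norm_num
      _ ≤ 3 ^ a := Nat.pow_le_pow_right (by norm_num) ha
  have hm : Fintype.card α = 3 * 3 ^ (a - 1) := by
    rw [hn, ← pow_succ']; congr 1; omega
  obtain ⟨g, P, hg3, hfpf, hgP, hcomm⟩ := exists_sylow_fpf (α := α) (3 ^ (a - 1)) (by positivity) hm
  obtain ⟨x⟩ : Nonempty α := by
    rw [← Fintype.card_pos_iff]; omega
  obtain ⟨K', B, hK'P, hnorm, hstab, hgK', ⟨p1, hp1P, hp1K'⟩, hBmem, hcardB⟩ :=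
    exists_index_three P a (by omega) hn g hg3 hgP hcomm x
  have hB9 : 9 ≤ B.card := by omega
  -- the relation
  have rel_refl : ∀ u : α, ∃ k ∈ K', k u = u := fun u => ⟨1, K'.one_mem, rfl⟩
  have rel_symm : ∀ u v : α, (∃ k ∈ K', k u = v) → ∃ k ∈ K', k v = u := by
    rintro u v ⟨k, hk, rfl⟩
    exact ⟨k⁻¹, K'.inv_mem hk, by simp⟩
  have rel_trans : ∀ u v w : α, (∃ k ∈ K', k u = v) → (∃ k ∈ K', k v = w) →
      ∃ k ∈ K', k u = w := by
    rintro u v w ⟨k, hk, rfl⟩ ⟨k', hk', rfl⟩
    exact ⟨k' * k, K'.mul_mem hk' hk, rfl⟩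
  have hxB : x ∈ B := (hBmem x).mpr (rel_refl x)
  have hp1x : p1 x ∉ B := by
    intro h
    obtain ⟨k, hk, hkx⟩ := (hBmem _).mp h
    have h1 : k⁻¹ * p1 ∈ K' := by
      apply hstab _ (Subgroup.mul_mem _ (Subgroup.inv_mem _ (hK'P hk)) hp1P)
      rw [Perm.mul_apply, ← hkx]
      simp
    have : p1 = k * (k⁻¹ * p1) := by group
    rw [this] at hp1K'
    exact hp1K' (K'.mul_mem hk h1)
  apply false_of_two_overgroups hmin P (Subgroup.centralizer ({g} : Set (Perm α))) (partStab K')
  · intro p hp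
    rw [Subgroup.mem_centralizer_iff]
    intro h hh
    rw [Set.mem_singleton_iff] at hh
    rw [hh]
    exact (hcomm p hp).symm
  · intro p hp
    rw [mem_partStab]
    intro u v
    constructor
    · rintro ⟨k, hk, rfl⟩
      refine ⟨p * k * p⁻¹, hnorm p hp k hk, ?_⟩
      simp [Perm.mul_apply]
    · rintro ⟨k, hk, hkv⟩
      refine ⟨p⁻¹ * k * p⁻¹⁻¹, hnorm p⁻¹ (Subgroup.inv_mem _ hp) k hk, ?_⟩
      simp only [inv_inv, Perm.mul_apply, hkv]
      simp
  · exact not_alt_le_centralizer (by omega) g hfpf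
  · intro hle
    obtain ⟨x₂, hx₂B, hx₂x⟩ : ∃ x₂ ∈ B, x₂ ≠ x := by
      have : 1 < B.card := by omega
      obtain ⟨p, hp, q, hq, hpq⟩ := Finset.one_lt_card.mp this
      by_cases h : p = x
      · exact ⟨q, hq, fun h' => hpq (h.trans h'.symm)⟩
      · exact ⟨p, hp, h⟩
    set y := p1 x with hy
    have hxy : x ≠ y := fun h => hp1x (h ▸ hxB)
    have hx₂y : x₂ ≠ y := fun h => hp1x (h ▸ hx₂B)
    obtain ⟨z, hzx, hzy, hzx₂⟩ : ∃ z, z ≠ x ∧ z ≠ y ∧ z ≠ x₂ := by
      have : (({x, y, x₂} : Finset α)ᶜ).card ≠ 0 := by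
        rw [Finset.card_compl]
        have : ({x, y, x₂} : Finset α).card ≤ 3 := Finset.card_le_three
        omega
      obtain ⟨z, hz⟩ := Finset.card_pos.mp (Nat.pos_of_ne_zero this)
      simp only [Finset.mem_compl, Finset.mem_insert, Finset.mem_singleton, not_or] at hz
      exact ⟨z, hz.1, hz.2.1, hz.2.2⟩
    have ht : IsThreeCycle (swap x z * swap x y) :=
      isThreeCycle_swap_mul_swap_same hzx.symm hxy (fun h => hzy h)
    have hmem := hle ht.mem_alternatingGroup
    rw [mem_partStab] at hmem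
    have h1 := (hmem x x₂).mp ((hBmem x₂).mp hx₂B)
    have htx : (swap x z * swap x y) x = y := by
      rw [Perm.mul_apply, swap_apply_left, swap_apply_of_ne_of_ne hxy.symm hzy.symm]
    have htx₂ : (swap x z * swap x y) x₂ = x₂ := by
      rw [Perm.mul_apply, swap_apply_of_ne_of_ne hx₂x hx₂y, swap_apply_of_ne_of_ne hx₂x hzx₂.symm]
    rw [htx, htx₂] at h1
    have h2 := rel_trans x x₂ y ((hBmem x₂).mp hx₂B) (rel_symm _ _ h1)
    exact hp1x ((hBmem y).mpr h2)
  · intro K hK1 hK2
    apply alt_le_of_centralizer g hg3 hfpf B ?_ (by omega) K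
    · intro σ hσ
      rw [mem_altOn] at hσ
      apply hK2
      refine Subgroup.mem_inf.mpr ⟨?_, mem_alternatingGroup.mpr hσ.2⟩
      rw [mem_partStab]
      have hmove : ∀ u : α, ∃ k ∈ K', k u = σ u := by
        intro u
        by_cases hfix : σ u = u
        · rw [hfix]; exact rel_refl u
        · have hu : u ∈ B := hσ.1 (mem_support.mpr hfix)
          have hsu : σ u ∈ B := hσ.1 (apply_mem_support.mpr (mem_support.mpr hfix))
          exact rel_trans u x (σ u) (rel_symm _ _ ((hBmem u).mp hu)) ((hBmem _).mp hsu)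
      intro u v
      constructor
      · intro h
        exact rel_trans _ _ _ (rel_symm _ _ (hmove u)) (rel_trans _ _ _ h (hmove v))
      · intro h
        exact rel_trans _ _ _ (hmove u) (rel_trans _ _ _ h (rel_symm _ _ (hmove v)))
    · intro h hs hc
      apply hK1
      refine Subgroup.mem_inf.mpr ⟨?_, mem_alternatingGroup.mpr hs⟩
      rw [Subgroup.mem_centralizer_iff]
      intro k hk
      rw [Set.mem_singleton_iff] at hk
      rw [hk]
      exact hc.symm
    · intro u hu
      apply (hBmem _).mpr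
      exact rel_trans x u (g u) ((hBmem u).mp hu) ⟨g, hgK', rfl⟩

/-! ### Assembly -/

theorem isPMinimal_of_mulEquiv {G H : Type*} [Group G] [Group H] (e : G ≃* H) (p : ℕ)
    (hG : Cfsg.IsPMinimal p G) : Cfsg.IsPMinimal p H := by
  intro S
  have hrange : (S : Subgroup H) ≤ e.toMonoidHom.range := by
    intro x _
    exact ⟨e.symm x, by simp⟩
  set S' : Sylow p G := S.comapOfInjective e.toMonoidHom e.injective hrange with hS'
  have hS'coe : (S' : Subgroup G) = (S : Subgroup H).comap e.toMonoidHom := rfl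
  obtain ⟨hnn, M, ⟨hMco, hSM⟩, huniq⟩ := hG S'
  have hmap : ∀ M' : Subgroup G, (S' : Subgroup G) ≤ M' ↔
      (S : Subgroup H) ≤ M'.map e.toMonoidHom := by
    intro M'
    rw [hS'coe]
    constructor
    · intro h x hx
      refine ⟨e.symm x, h ?_, by simp⟩
      rw [Subgroup.mem_comap]
      simpa using hx
    · intro h x hx
      rw [Subgroup.mem_comap] at hx
      obtain ⟨y, hy, hyx⟩ := h hx
      have : y = x := e.injective hyx
      rw [← this]; exact hy
  refine ⟨?_, M.map e.toMonoidHom, ⟨?_, (hmap M).mp hSM⟩, ?_⟩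
  · intro hn
    apply hnn
    rw [hS'coe]
    exact hn.comap _
  · exact (OrderIso.isCoatom_iff e.mapSubgroup M).mpr hMco
  · rintro M₂ ⟨hM₂co, hSM₂⟩
    have h1 : M₂ = (M₂.comap e.toMonoidHom).map e.toMonoidHom := by
      rw [Subgroup.map_comap_eq_self_of_surjective]
      exact e.surjective
    have hco : IsCoatom (M₂.comap e.toMonoidHom) := by
      have := (OrderIso.isCoatom_iff e.mapSubgroup (M₂.comap e.toMonoidHom)).mp
      apply this
      show IsCoatom ((M₂.comap e.toMonoidHom).map e.toMonoidHom)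
      rw [← h1]
      exact hM₂co
    have hle : (S' : Subgroup G) ≤ M₂.comap e.toMonoidHom := by
      rw [hmap, ← h1]
      exact hSM₂
    rw [h1, huniq _ ⟨hco, hle⟩]

theorem part2 (n : ℕ) (hn : 5 ≤ n) (hmin : Cfsg.IsPMinimal 3 ↥(alternatingGroup (Fin n))) :
    n = 6 ∨ n = 9 ∨ ∃ a : ℕ, 2 ≤ a ∧ n = 3 ^ a + 1 := by
  have hc : Fintype.card (Fin n) = n := Fintype.card_fin n
  by_cases h3 : 3 ∣ n
  · by_cases h6 : n = 6
    · exact Or.inl h6
    by_cases h9 : n = 9
    · exact Or.inr (Or.inl h9)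
    exfalso
    obtain ⟨m, hm⟩ := h3
    have h12 : 12 ≤ n := by omega
    by_cases hp : ∃ a : ℕ, n = 3 ^ a
    · obtain ⟨a, ha⟩ := hp
      have ha3 : 3 ≤ a := by
        by_contra h
        have : a ≤ 2 := by omega
        have : 3 ^ a ≤ 3 ^ 2 := Nat.pow_le_pow_right (by norm_num) this
        omega
      exact case_pow (α := Fin n) hmin a ha3 (by rw [hc]; exact ha)
    · push Not at hp
      exact case_dvd_not_pow (α := Fin n) hmin m (by rw [hc]; exact hm) (by rw [hc]; exact h12)
        (fun a => by rw [hc]; exact hp a)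
  · right; right
    obtain ⟨a, ha⟩ := case_not_dvd (α := Fin n) hmin (by rw [hc]; exact hn) (by rw [hc]; exact h3)
    rw [hc] at ha
    refine ⟨a, ?_, ha⟩
    by_contra h
    have : a ≤ 1 := by omega
    have : 3 ^ a ≤ 3 ^ 1 := Nat.pow_le_pow_right (by norm_num) this
    omega

end Cfsg.Agent.Lib.Helper13_Syl3
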