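import Mathlib
import Cfsg.Agent.Lib.Helper13_FratBound

/-!
# Faithful actions of finite `2`-groups on abelian groups of odd order (helper13)

If a finite `2`-group `Q` acts faithfully on a finite abelian group `V` of odd order, then
`|Q : Φ(Q)| ≤ max 2 ((|V| - 1) / 2)`.
-/

set_option autoImplicit false

namespace Cfsg.Agent.Lib.Helper13_TwoGroupAct

open Subgroup
open Cfsg.Agent.Lib.Helper13_FratBound
open Cfsg.Agent.Lib.Helper4_NormalFour

universe u v

/-- The bounding function. -/
def gam (n : ℕ) : ℕ := max 2 ((n - 1) / 2)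

theorem two_le_gam (n : ℕ) : 2 ≤ gam n := le_max_left _ _

theorem four_le_gam {n : ℕ} (h : 9 ≤ n) : 4 ≤ gam n := by
  unfold gam
  have : 4 ≤ (n - 1) / 2 := by omega
  exact this.trans (le_max_right _ _)

theorem gam_le {n : ℕ} (h : 3 ≤ n) : gam n ≤ n - 1 := by
  unfold gam
  apply max_le <;> omega

theorem gam_mul {a b : ℕ} (ha : Odd a) (hb : Odd b) (ha3 : 3 ≤ a) (hb3 : 3 ≤ b) :
    gam a * gam b ≤ gam (a * b) := by
  obtain ⟨i, rfl⟩ := ha
  obtain ⟨j, rfl⟩ := hb
  have hi : 1 ≤ i := by omega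
  have hj : 1 ≤ j := by omega
  have e1 : gam (2 * i + 1) = max 2 i := by unfold gam; congr 1; omega
  have e2 : gam (2 * j + 1) = max 2 j := by unfold gam; congr 1; omega
  have e3 : gam ((2 * i + 1) * (2 * j + 1)) = max 2 (2 * (i * j) + i + j) := by
    unfold gam
    congr 1
    have : (2 * i + 1) * (2 * j + 1) = 2 * (2 * (i * j) + i + j) + 1 := by ring
    rw [this]
    omega
  rw [e1, e2, e3]
  rcases Nat.lt_or_ge i 2 with hi2 | hi2
  · have hi1 : i = 1 := by omega
    subst hi1
    rcases Nat.lt_or_ge j 2 with hj2 | hj2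
    · have hj1 : j = 1 := by omega
      subst hj1
      norm_num
    · rw [max_eq_left (by omega : 1 ≤ 2), max_eq_right hj2]
      refine le_trans ?_ (le_max_right _ _)
      omega
  · rcases Nat.lt_or_ge j 2 with hj2 | hj2
    · have hj1 : j = 1 := by omega
      subst hj1
      rw [max_eq_right hi2, max_eq_left (by omega : 1 ≤ 2)]
      refine le_trans ?_ (le_max_right _ _)
      omega
    · rw [max_eq_right hi2, max_eq_right hj2]
      refine le_trans ?_ (le_max_right _ _)
      nlinarith

theorem gam_sq {a : ℕ} (ha : Odd a) (ha5 : 5 ≤ a) : 2 * (gam a * gam a) ≤ gam (a * a) := by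
  obtain ⟨i, rfl⟩ := ha
  have hi : 2 ≤ i := by omega
  have e1 : gam (2 * i + 1) = i := by
    unfold gam
    rw [max_eq_right]
    · omega
    · omega
  have e3 : gam ((2 * i + 1) * (2 * i + 1)) = max 2 (2 * (i * i) + 2 * i) := by
    unfold gam
    congr 1
    have : (2 * i + 1) * (2 * i + 1) = 2 * (2 * (i * i) + 2 * i) + 1 := by ring
    rw [this]
    omega
  rw [e1, e3]
  refine le_trans ?_ (le_max_right _ _)
  omega

section Basic

variable {V : Type v} [CommGroup V]

theorem eq_one_of_pow_two_pow (hodd : Odd (Nat.card V)) (u : V) (k : ℕ) (hu : u ^ 2 ^ k = 1) :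
    u = 1 := by
  have d1 := orderOf_dvd_of_pow_eq_one hu
  have d2 := orderOf_dvd_natCard u
  have cop : Nat.Coprime (2 ^ k) (Nat.card V) := (Nat.coprime_two_left.mpr hodd).pow_left k
  have h1 : orderOf u = 1 := (cop.coprime_dvd_left d1).eq_one_of_dvd d2
  exact orderOf_eq_one_iff.mp h1

theorem eq_one_of_mul_self (hodd : Odd (Nat.card V)) (u : V) (hu : u * u = 1) : u = 1 :=
  eq_one_of_pow_two_pow hodd u 1 (by rw [pow_one, pow_two]; exact hu)

end Basic

section Defs

variable {Q : Type u} [Group Q] {V : Type v} [CommGroup V]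

/-- `U` is invariant under the action `φ`. -/
def Inv (φ : Q →* MulAut V) (U : Subgroup V) : Prop := ∀ q : Q, ∀ u ∈ U, φ q u ∈ U

theorem apply_inv_apply (φ : Q →* MulAut V) (q : Q) (v : V) : φ q⁻¹ (φ q v) = v := by
  rw [map_inv]; exact MulAut.inv_apply_self _ _ _

theorem apply_apply_inv (φ : Q →* MulAut V) (q : Q) (v : V) : φ q (φ q⁻¹ v) = v := by
  rw [map_inv]; exact MulAut.apply_inv_self _ _ _

theorem apply_mul (φ : Q →* MulAut V) (q r : Q) (v : V) : φ (q * r) v = φ q (φ r v) := by
  rw [map_mul]; rfl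

/-- The restriction of the action to an invariant subgroup. -/
def resAut (φ : Q →* MulAut V) (U : Subgroup V) (hU : Inv φ U) (q : Q) : MulAut ↥U where
  toFun u := ⟨φ q u, hU q u u.2⟩
  invFun u := ⟨φ q⁻¹ u, hU q⁻¹ u u.2⟩
  left_inv u := Subtype.ext (apply_inv_apply φ q u)
  right_inv u := Subtype.ext (apply_apply_inv φ q u)
  map_mul' a b := Subtype.ext (by simp)

/-- The restriction of the action to an invariant subgroup, as a homomorphism. -/
def resHom (φ : Q →* MulAut V) (U : Subgroup V) (hU : Inv φ U) : Q →* MulAut ↥U where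
  toFun := resAut φ U hU
  map_one' := by ext u; simp [resAut]
  map_mul' q r := by ext u; simp [resAut]

theorem resHom_apply (φ : Q →* MulAut V) (U : Subgroup V) (hU : Inv φ U) (q : Q) (u : ↥U) :
    ((resHom φ U hU q u : ↥U) : V) = φ q u := rfl

theorem Inv.le_comap {φ : Q →* MulAut V} {U : Subgroup V} (hU : Inv φ U) (q : Q) :
    U ≤ U.comap (φ q).toMonoidHom := fun u hu => hU q u hu

/-- The induced action on the quotient by an invariant subgroup. -/
def quotAut (φ : Q →* MulAut V) (U : Subgroup V) (hU : Inv φ U) (q : Q) : MulAut (V ⧸ U) where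
  toFun := QuotientGroup.map U U (φ q).toMonoidHom (hU.le_comap q)
  invFun := QuotientGroup.map U U (φ q⁻¹).toMonoidHom (hU.le_comap q⁻¹)
  left_inv x := by
    induction x using QuotientGroup.induction_on with
    | H w =>
      exact congrArg (QuotientGroup.mk : V → V ⧸ U) (apply_inv_apply φ q w)
  right_inv x := by
    induction x using QuotientGroup.induction_on with
    | H w =>
      exact congrArg (QuotientGroup.mk : V → V ⧸ U) (apply_apply_inv φ q w)
  map_mul' := map_mul _

theorem quotAut_mk (φ : Q →* MulAut V) (U : Subgroup V) (hU : Inv φ U) (q : Q) (w : V) :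
    quotAut φ U hU q (w : V ⧸ U) = ((φ q w : V) : V ⧸ U) := rfl

/-- The induced action on the quotient by an invariant subgroup, as a homomorphism. -/
def quotHom (φ : Q →* MulAut V) (U : Subgroup V) (hU : Inv φ U) : Q →* MulAut (V ⧸ U) where
  toFun := quotAut φ U hU
  map_one' := by
    ext x
    induction x using QuotientGroup.induction_on with
    | H w => rw [quotAut_mk, map_one]; rfl
  map_mul' q r := by
    ext x
    induction x using QuotientGroup.induction_on with
    | H w => rw [quotAut_mk, MulAut.mul_apply, quotAut_mk, quotAut_mk, apply_mul]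

theorem quotHom_mk (φ : Q →* MulAut V) (U : Subgroup V) (hU : Inv φ U) (q : Q) (w : V) :
    quotHom φ U hU q (w : V ⧸ U) = ((φ q w : V) : V ⧸ U) := rfl

/-- Coprime action: an element of `2`-power order acting trivially on `U` and on `V / U` acts
trivially. -/
theorem eq_one_of_res_quot [Finite V] (hodd : Odd (Nat.card V)) (φ : Q →* MulAut V)
    (U : Subgroup V) (q : Q) (k : ℕ) (hq : q ^ 2 ^ k = 1) (h1 : ∀ u ∈ U, φ q u = u)
    (h2 : ∀ w : V, w⁻¹ * φ q w ∈ U) : φ q = 1 := by
  ext w
  have hu : φ q (w⁻¹ * φ q w) = w⁻¹ * φ q w := h1 _ (h2 w)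
  have hw : φ q w = w * (w⁻¹ * φ q w) := by rw [mul_inv_cancel_left]
  have hpow : ∀ j : ℕ, (φ q ^ j) w = w * (w⁻¹ * φ q w) ^ j := by
    intro j
    induction j with
    | zero => simp
    | succ j ih =>
      rw [pow_succ', MulAut.mul_apply, ih, map_mul, map_pow, hu, pow_succ']
      rw [← mul_assoc w, mul_inv_cancel_left]
  have h3 : (φ q ^ 2 ^ k) w = w := by rw [← map_pow, hq, map_one]; rfl
  rw [hpow] at h3
  have h4 : (w⁻¹ * φ q w) ^ 2 ^ k = 1 := mul_eq_left.mp h3
  have h5 := eq_one_of_pow_two_pow hodd _ k h4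
  rw [hw, h5, mul_one]
  rfl

end Defs

section Reducible

/-- The statement proved by induction on the order of `V`. -/
def Bound (m : ℕ) : Prop :=
  ∀ (Q : Type u) [Group Q] [Finite Q] (V : Type v) [CommGroup V] [Finite V],
    IsPGroup 2 Q → Odd (Nat.card V) → Nat.card V = m →
    ∀ φ : Q →* MulAut V, Function.Injective φ → (frattini Q).index ≤ gam m

variable {Q : Type u} [Group Q] [Finite Q] {V : Type v} [CommGroup V] [Finite V]

omit [Finite Q] in
theorem eq_one_of_resHom_quotHom (hQ : IsPGroup 2 Q) (hodd : Odd (Nat.card V))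
    (φ : Q →* MulAut V) (hφ : Function.Injective φ) (U : Subgroup V) (hU : Inv φ U) (q : Q)
    (h1 : resHom φ U hU q = 1) (h2 : quotHom φ U hU q = 1) : q = 1 := by
  obtain ⟨j, hj⟩ := hQ q
  have h1' : ∀ u ∈ U, φ q u = u := by
    intro u hu
    have h := congrArg (fun f : MulAut ↥U => ((f ⟨u, hu⟩ : ↥U) : V)) h1
    exact h
  have h2' : ∀ w : V, w⁻¹ * φ q w ∈ U := by
    intro w
    have h := congrArg (fun f : MulAut (V ⧸ U) => f (w : V ⧸ U)) h2
    rw [← QuotientGroup.eq]
    exact h.symm
  have h3 := eq_one_of_res_quot hodd φ U q j hj h1' h2'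
  exact hφ (h3.trans (map_one φ).symm)

omit [Finite Q] in
theorem quot_ker_injective (hQ : IsPGroup 2 Q) (hodd : Odd (Nat.card V))
    (φ : Q →* MulAut V) (hφ : Function.Injective φ) (U : Subgroup V) (hU : Inv φ U) :
    Function.Injective ((quotHom φ U hU).comp (resHom φ U hU).ker.subtype) := by
  rw [injective_iff_map_eq_one]
  intro k hk
  have hk1 : resHom φ U hU (k : Q) = 1 := MonoidHom.mem_ker.mp k.2
  exact Subtype.ext (eq_one_of_resHom_quotHom hQ hodd φ hφ U hU (k : Q) hk1 hk)

omit [Finite Q] in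
theorem card_le_of_inv (hQ : IsPGroup 2 Q) (hodd : Odd (Nat.card V))
    (φ : Q →* MulAut V) (hφ : Function.Injective φ) (U : Subgroup V) (hU : Inv φ U) :
    Nat.card Q ≤ Nat.card (MulAut ↥U) * Nat.card (MulAut (V ⧸ U)) := by
  rw [← Nat.card_prod]
  apply Nat.card_le_card_of_injective ((resHom φ U hU).prod (quotHom φ U hU))
  rw [injective_iff_map_eq_one]
  intro q hq
  rw [MonoidHom.prod_apply, Prod.mk_eq_one] at hq
  exact eq_one_of_resHom_quotHom hQ hodd φ hφ U hU q hq.1 hq.2

theorem reducible_step {n : ℕ} (IH : ∀ m < n, Bound.{u, v} m) (hQ : IsPGroup 2 Q)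
    (hodd : Odd (Nat.card V)) (hn : Nat.card V = n) (φ : Q →* MulAut V)
    (hφ : Function.Injective φ) (U : Subgroup V) (hU : Inv φ U) (hU1 : U ≠ ⊥) (hU2 : U ≠ ⊤) :
    (frattini Q).index ≤ gam (Nat.card U) * gam (Nat.card (V ⧸ U)) := by
  have : Fact (Nat.Prime 2) := ⟨Nat.prime_two⟩
  have hcard : Nat.card V = Nat.card (V ⧸ U) * Nat.card U :=
    Subgroup.card_eq_card_quotient_mul_card_subgroup U
  have hUpos : 1 < Nat.card U := (Subgroup.one_lt_card_iff_ne_bot U).mpr hU1
  have hqpos : 1 < Nat.card (V ⧸ U) := by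
    rw [← Subgroup.index_eq_card]
    have h1 := Subgroup.index_eq_one.not.mpr hU2
    have h2 := Subgroup.index_ne_zero_of_finite (H := U)
    omega
  have hlt1 : Nat.card U < n := by rw [← hn, hcard]; nlinarith
  have hlt2 : Nat.card (V ⧸ U) < n := by rw [← hn, hcard]; nlinarith
  have hodd' := hodd
  rw [hcard, Nat.odd_mul] at hodd'
  have b1 : (frattini (Q ⧸ (resHom φ U hU).ker)).index ≤ gam (Nat.card U) :=
    IH _ hlt1 (Q ⧸ (resHom φ U hU).ker) ↥U (hQ.to_quotient _) hodd'.2 rfl
      (QuotientGroup.kerLift (resHom φ U hU)) (QuotientGroup.kerLift_injective _)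
  have b2 : (frattini ↥(resHom φ U hU).ker).index ≤ gam (Nat.card (V ⧸ U)) :=
    IH _ hlt2 ↥(resHom φ U hU).ker (V ⧸ U) (hQ.to_subgroup _) hodd'.1 rfl _
      (quot_ker_injective hQ hodd φ hφ U hU)
  exact (frattini_index_le_mul hQ (resHom φ U hU).ker).trans (Nat.mul_le_mul b1 b2)

end Reducible

section Irreducible

variable {Q : Type u} [Group Q] {V : Type v} [CommGroup V]

/-- Irreducibility of the action. -/
def Irr (φ : Q →* MulAut V) : Prop := ∀ U : Subgroup V, Inv φ U → U = ⊥ ∨ U = ⊤

/-- The subgroup of fixed points of an element. -/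
def fixSub (φ : Q →* MulAut V) (e : Q) : Subgroup V where
  carrier := {w | φ e w = w}
  one_mem' := map_one _
  mul_mem' := by
    intro a b ha hb
    simp only [Set.mem_ofPred_eq] at *
    rw [map_mul, ha, hb]
  inv_mem' := by
    intro a ha
    simp only [Set.mem_ofPred_eq] at *
    rw [map_inv, ha]

theorem mem_fixSub {φ : Q →* MulAut V} {e : Q} {w : V} : w ∈ fixSub φ e ↔ φ e w = w := Iff.rfl

theorem fixSub_inv_of_comm (φ : Q →* MulAut V) (e q : Q) (h : q * e = e * q) (w : V)
    (hw : w ∈ fixSub φ e) : φ q w ∈ fixSub φ e := by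
  rw [mem_fixSub] at *
  rw [← apply_mul, ← h, apply_mul, hw]

theorem inverts_of_fixSub_eq_bot (φ : Q →* MulAut V) (e : Q) (he : e * e = 1)
    (h : fixSub φ e = ⊥) (w : V) : φ e w = w⁻¹ := by
  have h1 : w * φ e w ∈ fixSub φ e := by
    rw [mem_fixSub, map_mul, ← apply_mul, he, map_one, MulAut.one_apply, mul_comm]
  rw [h, mem_bot] at h1
  exact eq_inv_of_mul_eq_one_right h1

theorem eq_one_of_fixSub_eq_top (φ : Q →* MulAut V) (hφ : Function.Injective φ) (e : Q)
    (h : fixSub φ e = ⊤) : e = 1 := by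
  apply hφ
  ext w
  have : w ∈ fixSub φ e := h ▸ mem_top w
  rw [map_one]
  exact this

theorem central_inverts (φ : Q →* MulAut V) (hφ : Function.Injective φ) (hirr : Irr φ) (e : Q)
    (he : e * e = 1) (he1 : e ≠ 1) (hc : ∀ q : Q, q * e = e * q) (w : V) : φ e w = w⁻¹ := by
  apply inverts_of_fixSub_eq_bot φ e he
  rcases hirr (fixSub φ e) (fun q w hw => fixSub_inv_of_comm φ e q (hc q) w hw) with h | h
  · exact h
  · exact absurd (eq_one_of_fixSub_eq_top φ hφ e h) he1

theorem card_fixSub_conj (φ : Q →* MulAut V) (t e : Q) :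
    Nat.card (fixSub φ (t * e * t⁻¹)) = Nat.card (fixSub φ e) := by
  symm
  refine Nat.card_congr
    { toFun := fun w => ⟨φ t w, ?_⟩
      invFun := fun w => ⟨φ t⁻¹ w, ?_⟩
      left_inv := fun w => Subtype.ext (apply_inv_apply φ t w)
      right_inv := fun w => Subtype.ext (apply_apply_inv φ t w) }
  · rw [mem_fixSub, apply_mul, apply_mul, apply_inv_apply, mem_fixSub.mp w.2]
  · have h := mem_fixSub.mp w.2
    rw [apply_mul, apply_mul] at h
    rw [mem_fixSub]
    have h2 := congrArg (φ t⁻¹) h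
    rw [apply_inv_apply] at h2
    exact h2

theorem index_le_two_of_comm [Finite Q] (hQ : IsPGroup 2 Q) (φ : Q →* MulAut V)
    (hφ : Function.Injective φ) (hirr : Irr φ) (hc : ∀ x y : Q, x * y = y * x) :
    (frattini Q).index ≤ 2 := by
  classical
  have : Fact (Nat.Prime 2) := ⟨Nat.prime_two⟩
  refine (frattini_index_le_of_comm hQ hc).trans ?_
  have key : ∀ a b : Q, a ^ 2 = 1 → b ^ 2 = 1 → a ≠ 1 → b ≠ 1 → a = b := by
    intro a b ha hb ha1 hb1
    apply hφ
    ext w
    rw [central_inverts φ hφ hirr a (by rw [← pow_two]; exact ha) ha1 (fun q => hc q a) w,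
      central_inverts φ hφ hirr b (by rw [← pow_two]; exact hb) hb1 (fun q => hc q b) w]
  have hinj : Function.Injective (fun h : {h : Q // h ^ 2 = 1} => decide (h.1 = 1)) := by
    intro a b hab
    simp only [decide_eq_decide] at hab
    apply Subtype.ext
    by_cases ha : a.1 = 1
    · rw [ha, hab.mp ha]
    · exact key a.1 b.1 a.2 b.2 ha (fun hb => ha (hab.mpr hb))
  have h2 := Nat.card_le_card_of_injective _ hinj
  have h3 : Nat.card Bool = 2 := by rw [Nat.card_eq_fintype_card, Fintype.card_bool]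
  rwa [h3] at h2

theorem nine_le_of_noncomm [Finite V] (hodd : Odd (Nat.card V)) (φ : Q →* MulAut V)
    (hφ : Function.Injective φ) (x y : Q) (hxy : x * y ≠ y * x) : 9 ≤ Nat.card V := by
  by_contra hlt
  push Not at hlt
  have hcyc : IsCyclic V := by
    obtain ⟨i, hi⟩ := hodd
    have h : Nat.card V = 1 ∨ Nat.card V = 3 ∨ Nat.card V = 5 ∨ Nat.card V = 7 := by omega
    rcases h with h | h | h | h
    · have : Subsingleton V := (Nat.card_eq_one_iff_unique.mp h).1
      exact isCyclic_of_subsingleton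
    · have : Fact (Nat.Prime 3) := ⟨by norm_num⟩
      exact isCyclic_of_prime_card h
    · have : Fact (Nat.Prime 5) := ⟨by norm_num⟩
      exact isCyclic_of_prime_card h
    · have : Fact (Nat.Prime 7) := ⟨by norm_num⟩
      exact isCyclic_of_prime_card h
  have hcomm : ∀ a b : MulAut V, a * b = b * a := by
    intro a b
    apply (IsCyclic.mulAutMulEquiv V).injective
    rw [map_mul, map_mul, mul_comm]
  apply hxy
  apply hφ
  rw [map_mul, map_mul, hcomm]

theorem card_mulAut_of_card_three {W : Type*} [Group W] (h : Nat.card W = 3) :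
    Nat.card (MulAut W) = 2 := by
  have : Fact (Nat.Prime 3) := ⟨by norm_num⟩
  have : Finite W := Nat.finite_of_card_ne_zero (by omega)
  have : IsCyclic W := isCyclic_of_prime_card h
  rw [IsCyclic.card_mulAut W, h, Nat.totient_prime (by norm_num)]

end Irreducible

section Main

variable {Q : Type u} [Group Q] [Finite Q] {V : Type v} [CommGroup V] [Finite V]

open scoped commutatorElement in
theorem two_mul_frattini_index_le_card (hQ : IsPGroup 2 Q) (x y : Q) (hxy : x * y ≠ y * x) :
    2 * (frattini Q).index ≤ Nat.card Q := by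
  have : Fact (Nat.Prime 2) := ⟨Nat.prime_two⟩
  have hne : frattini Q ≠ ⊥ := by
    intro h
    have h1 : ⁅x, y⁆ ∈ frattini Q := by
      apply Cfsg.Agent.Lib.Helper1_Frattini.commutator_le_frattini_of_isPGroup hQ
      rw [commutator_eq_closure]
      exact Subgroup.subset_closure ⟨x, y, rfl⟩
    rw [h, mem_bot, commutatorElement_eq_one_iff_mul_comm] at h1
    exact hxy h1
  have h2 : 1 < Nat.card (frattini Q) := (Subgroup.one_lt_card_iff_ne_bot _).mpr hne
  have h3 := (frattini Q).card_mul_index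
  rw [← h3]
  exact Nat.mul_le_mul_right _ h2

theorem bound_of_hasNormalFour {n : ℕ} (IH : ∀ m < n, Bound.{u, v} m) (hQ : IsPGroup 2 Q)
    (hodd : Odd (Nat.card V)) (hn : Nat.card V = n) (φ : Q →* MulAut V)
    (hφ : Function.Injective φ) (hirr : Irr φ) (h4 : HasNormalFour Q) :
    (frattini Q).index ≤ gam n := by
  have : Fact (Nat.Prime 2) := ⟨Nat.prime_two⟩
  obtain ⟨z, y, hzc, hz1, hz2, hy2, hy1, hyz, hconj⟩ := h4
  have hzc' : ∀ q : Q, q * z = z * q := fun q => mem_center_iff.mp hzc q
  have hzz : z * z = 1 := by rw [← pow_two]; exact hz2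
  have hyy : y * y = 1 := by rw [← pow_two]; exact hy2
  have hzinv : ∀ w : V, φ z w = w⁻¹ := central_inverts φ hφ hirr z hzz hz1 hzc'
  have hconj' : ∀ q : Q, q * y = y * q ∨ q * y = z * y * q := by
    intro q
    rcases hconj q with h | h
    · left; exact mul_inv_eq_iff_eq_mul.mp h
    · right; exact mul_inv_eq_iff_eq_mul.mp h
  -- `y` is not central
  obtain ⟨t, ht⟩ : ∃ t : Q, t * y = z * y * t := by
    by_contra hno
    push Not at hno
    have hyc : ∀ q : Q, q * y = y * q := by
      intro q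
      rcases hconj' q with h | h
      · exact h
      · exact absurd h (hno q)
    apply hyz
    apply hφ
    ext w
    rw [central_inverts φ hφ hirr y hyy hy1 hyc w, hzinv w]
  have hty : t * y ≠ y * t := by
    intro h
    rw [ht, mul_assoc, hzc' (y * t) |>.symm] at h
    exact hz1 (mul_eq_left.mp h)
  -- the centralizer of `y`
  set Q₀ : Subgroup Q := Subgroup.centralizer ({y} : Set Q) with hQ₀
  have hQ₀mem : ∀ q : Q, q ∈ Q₀ ↔ q * y = y * q := fun q => mem_centralizer_singleton_iff
  have e1 : ∀ b : Q, (b * t) * y = z * (b * y) * t := by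
    intro b
    calc (b * t) * y = b * (t * y) := mul_assoc _ _ _
      _ = b * (z * y * t) := by rw [ht]
      _ = (b * z) * (y * t) := by simp only [mul_assoc]
      _ = (z * b) * (y * t) := by rw [hzc' b]
      _ = z * (b * y) * t := by simp only [mul_assoc]
  have hidx : Q₀.index = 2 := by
    rw [index_eq_two_iff]
    refine ⟨t, fun b => ?_⟩
    by_cases hb : b ∈ Q₀
    · right
      refine ⟨hb, fun hbt => ?_⟩
      rw [hQ₀mem] at hb hbt
      rw [e1, hb] at hbt
      have h2 : z * (y * b) * t = z * (y * (b * t)) := by simp only [mul_assoc]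
      rw [h2] at hbt
      exact hz1 (mul_eq_right.mp hbt)
    · left
      refine ⟨?_, hb⟩
      rw [hQ₀mem] at hb ⊢
      have hb' : b * y = z * y * b := by
        rcases hconj' b with h | h
        · exact absurd h hb
        · exact h
      rw [e1, hb']
      calc z * (z * y * b) * t = (z * z) * (y * (b * t)) := by simp only [mul_assoc]
        _ = y * (b * t) := by rw [hzz, one_mul]
  have hQ₀n : Q₀.Normal := normal_of_index_eq_two hidx
  -- the action of `Q₀`
  set φ₀ : ↥Q₀ →* MulAut V := φ.comp Q₀.subtype with hφ₀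
  have hφ₀inj : Function.Injective φ₀ := hφ.comp Q₀.subtype_injective
  set V₁ : Subgroup V := fixSub φ y with hV₁
  have hV₁inv : Inv φ₀ V₁ := by
    intro q w hw
    exact fixSub_inv_of_comm φ y (q : Q) ((hQ₀mem _).mp q.2) w hw
  have hV₁bot : V₁ ≠ ⊥ := by
    intro h
    apply hyz
    apply hφ
    ext w
    rw [inverts_of_fixSub_eq_bot φ y hyy h w, hzinv w]
  have hV₁top : V₁ ≠ ⊤ := fun h => hy1 (eq_one_of_fixSub_eq_top φ hφ y h)
  -- cardinalities
  set V₂ : Subgroup V := fixSub φ (z * y) with hV₂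
  have hV₂mem : ∀ w : V, w ∈ V₂ ↔ φ y w = w⁻¹ := by
    intro w
    rw [hV₂, mem_fixSub, apply_mul, hzinv, inv_eq_iff_eq_inv]
  have hcard12 : Nat.card V₂ = Nat.card V₁ := by
    have h := card_fixSub_conj φ t y
    have h2 : t * y * t⁻¹ = z * y := by rw [ht, mul_inv_cancel_right]
    rwa [h2] at h
  have hdisj : Disjoint V₁ V₂ := by
    rw [disjoint_def]
    intro w h1 h2
    rw [hV₁, mem_fixSub] at h1
    rw [hV₂mem, h1] at h2
    apply eq_one_of_mul_self hodd
    nth_rewrite 1 [h2]
    exact inv_mul_cancel w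
  have hle1 : Nat.card V₁ * Nat.card V₂ ≤ Nat.card V := by
    rw [← Nat.card_prod]
    exact Nat.card_le_card_of_injective _ (mul_injective_of_disjoint hdisj)
  have hle2 : Nat.card V ≤ Nat.card V₂ * Nat.card V₁ := by
    set θ : V →* V := MonoidHom.id V * (φ y).toMonoidHom with hθ
    have hθa : ∀ w : V, θ w = w * φ y w := fun w => rfl
    have hker : θ.ker = V₂ := by
      ext w
      rw [MonoidHom.mem_ker, hθa, hV₂mem, mul_eq_one_iff_eq_inv', eq_comm]
    have hrange : θ.range ≤ V₁ := by
      rintro _ ⟨w, rfl⟩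
      rw [hV₁, mem_fixSub, hθa, map_mul, ← apply_mul, hyy, map_one, MulAut.one_apply, mul_comm]
    have h1 := θ.ker.card_mul_index
    rw [index_ker, hker] at h1
    rw [← h1]
    exact Nat.mul_le_mul_left _ (Subgroup.card_le_of_le hrange)
  have hcardV : Nat.card V = Nat.card V₁ * Nat.card V₁ := by
    rw [hcard12] at hle1 hle2
    exact le_antisymm hle2 hle1
  have hcardq : Nat.card (V ⧸ V₁) = Nat.card V₁ := by
    have h1 := Subgroup.card_eq_card_quotient_mul_card_subgroup V₁
    rw [hcardV] at h1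
    exact (Nat.eq_of_mul_eq_mul_right Nat.card_pos h1).symm
  have hodd1 : Odd (Nat.card V₁) := by
    have h := hodd
    rw [hcardV, Nat.odd_mul] at h
    exact h.1
  have hV₁pos : 1 < Nat.card V₁ := (Subgroup.one_lt_card_iff_ne_bot V₁).mpr hV₁bot
  have h3 : 3 ≤ Nat.card V₁ := by
    obtain ⟨i, hi⟩ := hodd1
    omega
  -- the bound for `Q₀`
  have hQ₀ : IsPGroup 2 ↥Q₀ := hQ.to_subgroup Q₀
  have b0 := reducible_step IH hQ₀ hodd hn φ₀ hφ₀inj V₁ hV₁inv hV₁bot hV₁top
  rw [hcardq] at b0
  have b1 := frattini_index_le_mul hQ Q₀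
  have b2 : (frattini (Q ⧸ Q₀)).index ≤ 2 := by
    rw [← hidx, Subgroup.index_eq_card Q₀]
    exact Nat.le_of_dvd Nat.card_pos (Subgroup.index_dvd_card _)
  rw [← hn, hcardV]
  rcases Nat.lt_or_ge (Nat.card V₁) 5 with h5 | h5
  · -- the case `|V₁| = 3`
    have hc3 : Nat.card V₁ = 3 := by
      obtain ⟨i, hi⟩ := hodd1
      omega
    have hcq3 : Nat.card (V ⧸ V₁) = 3 := by rw [hcardq, hc3]
    have h8 := card_le_of_inv hQ₀ hodd φ₀ hφ₀inj V₁ hV₁inv
    rw [card_mulAut_of_card_three hc3, card_mulAut_of_card_three hcq3] at h8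
    have h9 := Q₀.card_mul_index
    rw [hidx] at h9
    have h10 := two_mul_frattini_index_le_card hQ t y hty
    have h11 : (frattini Q).index ≤ 4 := by omega
    rw [hc3]
    exact h11.trans (four_le_gam (by norm_num))
  · calc (frattini Q).index ≤ (frattini (Q ⧸ Q₀)).index * (frattini ↥Q₀).index := b1
      _ ≤ 2 * (gam (Nat.card V₁) * gam (Nat.card V₁)) := Nat.mul_le_mul b2 b0
      _ ≤ gam (Nat.card V₁ * Nat.card V₁) := gam_sq hodd1 h5

/-- The main bound, by induction on the order of `V`. -/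
theorem bound_all (n : ℕ) : Bound.{u, v} n := by
  induction n using Nat.strong_induction_on with
  | _ n IH =>
    intro Q _ _ V _ _ hQ hodd hn φ hφ
    have : Fact (Nat.Prime 2) := ⟨Nat.prime_two⟩
    by_cases hred : ∃ U : Subgroup V, Inv φ U ∧ U ≠ ⊥ ∧ U ≠ ⊤
    · obtain ⟨U, hU, hU1, hU2⟩ := hred
      have h := reducible_step IH hQ hodd hn φ hφ U hU hU1 hU2
      have hcard : Nat.card V = Nat.card (V ⧸ U) * Nat.card U :=
        Subgroup.card_eq_card_quotient_mul_card_subgroup U
      have hUpos : 1 < Nat.card U := (Subgroup.one_lt_card_iff_ne_bot U).mpr hU1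
      have hqpos : 1 < Nat.card (V ⧸ U) := by
        rw [← Subgroup.index_eq_card]
        have h1 := Subgroup.index_eq_one.not.mpr hU2
        have h2 := Subgroup.index_ne_zero_of_finite (H := U)
        omega
      have hodd' := hodd
      rw [hcard, Nat.odd_mul] at hodd'
      have hU3 : 3 ≤ Nat.card U := by
        obtain ⟨i, hi⟩ := hodd'.2
        omega
      have hq3 : 3 ≤ Nat.card (V ⧸ U) := by
        obtain ⟨i, hi⟩ := hodd'.1
        omega
      refine h.trans ?_
      rw [← hn, hcard, mul_comm (Nat.card (V ⧸ U))]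
      exact gam_mul hodd'.2 hodd'.1 hU3 hq3
    · have hirr : Irr φ := by
        intro U hU
        by_contra h
        push Not at h
        exact hred ⟨U, hU, h.1, h.2⟩
      by_cases hc : ∀ x y : Q, x * y = y * x
      · exact (index_le_two_of_comm hQ φ hφ hirr hc).trans (two_le_gam n)
      · push Not at hc
        obtain ⟨x, y, hxy⟩ := hc
        have h9 : 9 ≤ n := hn ▸ nine_le_of_noncomm hodd φ hφ x y hxy
        by_cases h4 : HasNormalFour Q
        · exact bound_of_hasNormalFour IH hQ hodd hn φ hφ hirr h4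
        · exact (frattini_index_le_four hQ h4).trans (four_le_gam h9)

end Main

/-- A finite `2`-group acting faithfully on a finite abelian group `V` of odd order satisfies
`|Q : Φ(Q)| ≤ max 2 ((|V| - 1) / 2)`. -/
theorem frattini_index_le_of_faithful {Q : Type u} [Group Q] [Finite Q] {V : Type v} [Group V]
    [Finite V] (hcomm : ∀ a b : V, a * b = b * a) (hQ : IsPGroup 2 Q)
    (hodd : Odd (Nat.card V)) (φ : Q →* MulAut V) (hφ : Function.Injective φ) :
    (frattini Q).index ≤ gam (Nat.card V) := by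
  let _ : CommGroup V := { ‹Group V› with mul_comm := hcomm }
  exact bound_all (Nat.card V) Q V hQ hodd rfl φ hφ

end Cfsg.Agent.Lib.Helper13_TwoGroupAct
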