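import Mathlib
import Cfsg.Agent.Lib.Helper13_SUGen

set_option autoImplicit false

/-!
Involutions of unitary groups in characteristic two: an involution of rank `r` is a product of
`r` commuting transvections in the members of hyperbolic pairs spanning mutually orthogonal
planes, and two involutions of the same rank are conjugate in the isometry group.
Abstract form, on top of `Helper94_Herm*`.
-/

namespace Cfsg.Agent.Lib.Helper13_UInv

open Module Cfsg.Agent.Lib.Helper94_Symp Cfsg.Agent.Lib.Helper94_Herm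
  Cfsg.Agent.Lib.Helper94_HermTrans Cfsg.Agent.Lib.Helper94_HermWitt
  Cfsg.Agent.Lib.Helper13_SUGen

variable {F V : Type*} [Field F] [AddCommGroup V] [Module F V]
variable {σ : F →+* F} {B : V →ₗ[F] V →ₛₗ[σ] F}

/-! ### Isometries supported on a subspace -/

/-- The isometries fixing every vector orthogonal to `U` and moving every vector by an element
of `U`. -/
def suppG (B : V →ₗ[F] V →ₛₗ[σ] F) (U : Submodule F V) : Subgroup (V ≃ₗ[F] V) where
  carrier := {g | g ∈ uG B ∧ (∀ x, (∀ u ∈ U, B x u = 0) → g x = x) ∧ ∀ x, g x - x ∈ U}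
  mul_mem' := by
    rintro g h ⟨hg1, hg2, hg3⟩ ⟨hh1, hh2, hh3⟩
    refine ⟨(uG B).mul_mem hg1 hh1, ?_, ?_⟩
    · intro x hx
      rw [LinearEquiv.mul_apply, hh2 x hx, hg2 x hx]
    · intro x
      rw [LinearEquiv.mul_apply]
      have : g (h x) - x = (g (h x) - h x) + (h x - x) := by abel
      rw [this]
      exact U.add_mem (hg3 _) (hh3 _)
  one_mem' := ⟨(uG B).one_mem, fun x _ => rfl, fun x => by simp⟩
  inv_mem' := by
    rintro g ⟨hg1, hg2, hg3⟩
    refine ⟨(uG B).inv_mem hg1, ?_, ?_⟩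
    · intro x hx
      have h := hg2 x hx
      calc g⁻¹ x = g⁻¹ (g x) := by rw [h]
        _ = x := inv_apply_apply' g x
    · intro x
      have h := hg3 (g⁻¹ x)
      rw [apply_inv_apply'] at h
      have e : g⁻¹ x - x = -(x - g⁻¹ x) := by abel
      rw [e]
      exact U.neg_mem h

lemma mem_suppG {U : Submodule F V} {g : V ≃ₗ[F] V} :
    g ∈ suppG B U ↔ g ∈ uG B ∧ (∀ x, (∀ u ∈ U, B x u = 0) → g x = x) ∧ ∀ x, g x - x ∈ U :=
  Iff.rfl

lemma suppG_mono {U U' : Submodule F V} (h : U ≤ U') : suppG B U ≤ suppG B U' := by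
  rintro g ⟨h1, h2, h3⟩
  exact ⟨h1, fun x hx => h2 x (fun u hu => hx u (h hu)), fun x => h (h3 x)⟩

lemma suppG_map_mem {U : Submodule F V} {g : V ≃ₗ[F] V} (hg : g ∈ suppG B U) {x : V}
    (hx : x ∈ U) : g x ∈ U := by
  have := U.add_mem (hg.2.2 x) hx
  rwa [sub_add_cancel] at this

lemma tvGroup_le_suppG (hB : IsHerm B) (U : Submodule F V) : tvGroup B U ≤ suppG B U := by
  apply tvGroup_le
  intro a haU ha c hc
  refine ⟨utv_mem_uG hB a hc, fun x hx => utv_fix B a c (hx a haU), fun x => ?_⟩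
  rw [utv_apply B ha, add_sub_cancel_left]
  exact U.smul_mem _ haU

/-! ### The nilpotent part and the rank -/

/-- `g - 1` as a linear map. -/
def nm (g : V ≃ₗ[F] V) : V →ₗ[F] V := (g : V →ₗ[F] V) - LinearMap.id

@[simp] lemma nm_apply (g : V ≃ₗ[F] V) (x : V) : nm g x = g x - x := rfl

/-- The rank of `g - 1`. -/
noncomputable def rk (g : V ≃ₗ[F] V) : ℕ := finrank F (LinearMap.range (nm g))

lemma rk_conj (t a : V ≃ₗ[F] V) : rk (t * a * t⁻¹) = rk a := by
  unfold rk
  have h : LinearMap.range (nm (t * a * t⁻¹)) =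
      (LinearMap.range (nm a)).map (t : V →ₗ[F] V) := by
    ext y
    constructor
    · rintro ⟨x, rfl⟩
      refine ⟨nm a (t⁻¹ x), ⟨_, rfl⟩, ?_⟩
      rw [nm_apply, nm_apply, LinearEquiv.coe_coe, map_sub, apply_inv_apply',
        LinearEquiv.mul_apply, LinearEquiv.mul_apply]
    · rintro ⟨_, ⟨x, rfl⟩, rfl⟩
      refine ⟨t x, ?_⟩
      rw [nm_apply, nm_apply, LinearEquiv.coe_coe, map_sub, LinearEquiv.mul_apply,
        LinearEquiv.mul_apply, inv_apply_apply']
  rw [h, LinearEquiv.finrank_map_eq]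

lemma eq_one_of_rk_eq_zero [FiniteDimensional F V] {a : V ≃ₗ[F] V} (h : rk a = 0) : a = 1 := by
  unfold rk at h
  rw [Submodule.finrank_eq_zero, LinearMap.range_eq_bot] at h
  ext x
  have := LinearMap.congr_fun h x
  rw [nm_apply, LinearMap.zero_apply, sub_eq_zero] at this
  exact this

lemma rk_one : rk (1 : V ≃ₗ[F] V) = 0 := by
  unfold rk
  have : nm (1 : V ≃ₗ[F] V) = 0 := by
    ext x
    simp
  rw [this, LinearMap.range_zero, finrank_bot]

/-! ### Involutions in characteristic two -/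

lemma invol_apply {a : V ≃ₗ[F] V} (haa : a * a = 1) (x : V) : a (a x) = x := by
  rw [← LinearEquiv.mul_apply, haa]
  rfl

lemma invol_adj {a : V ≃ₗ[F] V} (ha : a ∈ uG B) (haa : a * a = 1) (x y : V) :
    B (a x) y = B x (a y) := by
  have := ha x (a y)
  rw [invol_apply haa] at this
  exact this

lemma nm_adj {a : V ≃ₗ[F] V} (ha : a ∈ uG B) (haa : a * a = 1) (x y : V) :
    B (nm a x) y = B x (nm a y) := by
  rw [nm_apply, nm_apply, map_sub, LinearMap.sub_apply, map_sub, invol_adj ha haa]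

lemma two_smul_zero (h2 : (2 : F) = 0) (v : V) : v + v = 0 := by
  rw [← two_smul F v, h2, zero_smul]

lemma nm_nm (h2 : (2 : F) = 0) {a : V ≃ₗ[F] V} (haa : a * a = 1) (x : V) :
    nm a (nm a x) = 0 := by
  rw [nm_apply, nm_apply, map_sub, invol_apply haa]
  have := two_smul_zero h2 (x - a x)
  rw [← this]
  abel

lemma add_self_zero (h2 : (2 : F) = 0) (c : F) : c + c = 0 := by
  linear_combination c * h2

lemma utv_one_mem_uG (hB : IsHerm B) (h2 : (2 : F) = 0) (e : V) : utv B e 1 ∈ uG B := by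
  apply utv_mem_uG hB
  rw [map_one]
  linear_combination h2

lemma utv_one_mul_self (h2 : (2 : F) = 0) {e : V} (he : B e e = 0) :
    utv B e 1 * utv B e 1 = 1 := by
  ext x
  rw [LinearEquiv.mul_apply, utv_apply B he, utv_apply B he, LinearEquiv.coe_one, id_eq]
  simp only [one_mul, map_add, map_smul, LinearMap.add_apply, LinearMap.smul_apply, he,
    smul_eq_mul, mul_zero, add_zero]
  rw [add_assoc, two_smul_zero h2, add_zero]

section

variable (hσ : Invol σ) (hB : IsHerm B)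

include hσ hB in
/-- A nontrivial involution supported on a nondegenerate subspace `U` has a vector `x ∈ U`
with `B ((a - 1) x) x ≠ 0`. -/
lemma exists_nm_ne_zero {U : Submodule F V} (hU : NondegOn B U) {a : V ≃ₗ[F] V}
    (ha : a ∈ suppG B U) (haa : a * a = 1) (ha1 : a ≠ 1) :
    ∃ x ∈ U, B (nm a x) x ≠ 0 := by
  by_contra hcon
  push Not at hcon
  have hnU : ∀ x, nm a x ∈ U := fun x => ha.2.2 x
  -- polarisation
  have hpol : ∀ x ∈ U, ∀ y ∈ U, B (nm a x) y = 0 := by
    intro x hx y hy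
    apply eq_zero_of_tr hσ
    intro l
    have h1 := hcon (x + l • y) (U.add_mem hx (U.smul_mem _ hy))
    simp only [map_add, map_smul, map_smulₛₗ, LinearMap.add_apply, LinearMap.smul_apply,
      smul_eq_mul, hcon x hx, hcon y hy, mul_zero, add_zero, zero_add] at h1
    have h3 : B (nm a y) x = σ (B (nm a x) y) := by
      rw [nm_adj ha.1 haa, hB]
    rw [h3] at h1
    linear_combination h1
  have hzero : ∀ y ∈ U, nm a y = 0 := by
    intro y hy
    by_contra hne
    obtain ⟨z, hzU, hz⟩ := hU _ (hnU y) hne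
    exact hz (hpol y hy z hzU)
  apply ha1
  ext v
  rw [LinearEquiv.coe_one, id_eq]
  by_contra hne
  have hne' : nm a v ≠ 0 := by
    rw [nm_apply]
    intro h
    exact hne (sub_eq_zero.mp h)
  obtain ⟨y, hyU, hy⟩ := hU _ (hnU v) hne'
  apply hy
  rw [nm_adj ha.1 haa, hzero y hyU, map_zero]

end

section

variable (hσ : Invol σ) (hB : IsHerm B)

/-- A vector orthogonal to `e`, `f` and to `U ∩ ⟨e, f⟩^⊥` is orthogonal to `U`. -/
lemma perp_of_perp_inf {U : Submodule F V} {e f : V} (heU : e ∈ U) (hfU : f ∈ U)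
    (h : HypPair B e f) {p : V} (hpe : B p e = 0) (hpf : B p f = 0)
    (hp : ∀ u ∈ U ⊓ orthV B e ⊓ orthV B f, B p u = 0) : ∀ u ∈ U, B p u = 0 := by
  intro u hu
  have hpu : perpPart B e f u ∈ U ⊓ orthV B e ⊓ orthV B f := by
    refine Submodule.mem_inf.mpr ⟨Submodule.mem_inf.mpr ⟨?_, mem_orthV.mpr (perpPart_e h u)⟩,
      mem_orthV.mpr (perpPart_f h u)⟩
    exact U.sub_mem (U.sub_mem hu (U.smul_mem _ heU)) (U.smul_mem _ hfU)
  rw [eq_add_perpPart (B := B) e f u]
  simp only [map_add, map_smulₛₗ, smul_eq_mul, hpe, hpf, mul_zero, zero_add, hp _ hpu]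

include hσ hB in
/-- Splitting off a hyperbolic plane: a nontrivial involution supported on the nondegenerate
subspace `U` is `utv B e 1 * a₁` with `(e, f)` a hyperbolic pair in `U` and `a₁` an involution
supported on `U ∩ ⟨e, f⟩^⊥`, of rank one less. -/
theorem exists_split [Finite F] [FiniteDimensional F V] (h2 : (2 : F) = 0) {U : Submodule F V}
    (hU : NondegOn B U) {a : V ≃ₗ[F] V} (ha : a ∈ suppG B U) (haa : a * a = 1) (ha1 : a ≠ 1) :
    ∃ e f, e ∈ U ∧ f ∈ U ∧ HypPair B e f ∧ ∃ a₁ : V ≃ₗ[F] V,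
      a₁ ∈ suppG B (U ⊓ orthV B e ⊓ orthV B f) ∧ a₁ * a₁ = 1 ∧ a = utv B e 1 * a₁ ∧
      rk a = rk a₁ + 1 := by
  obtain ⟨x0, hx0U, hx0⟩ := exists_nm_ne_zero hσ hB hU ha haa ha1
  have hc : σ (B (nm a x0) x0) = B (nm a x0) x0 := by
    rw [← hB, ← nm_adj ha.1 haa]
  obtain ⟨μ, hμ⟩ := norm_surj hσ (B (nm a x0) x0)⁻¹ (by rw [map_inv₀, hc])
  obtain ⟨x, hxdef⟩ : ∃ x, x = μ • x0 := ⟨_, rfl⟩
  have hxU : x ∈ U := by rw [hxdef]; exact U.smul_mem _ hx0U
  obtain ⟨e, hedef⟩ : ∃ e, e = nm a x := ⟨_, rfl⟩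
  have hex : B e x = 1 := by
    have e1 : e = μ • nm a x0 := by rw [hedef, hxdef, map_smul]
    rw [e1, hxdef]
    simp only [map_smul, map_smulₛₗ, LinearMap.smul_apply, smul_eq_mul]
    have := inv_mul_cancel₀ hx0
    rw [← hμ] at this
    linear_combination this
  have heU : e ∈ U := by rw [hedef]; exact ha.2.2 x
  have hNe : nm a e = 0 := by rw [hedef]; exact nm_nm h2 haa x
  have hee : B e e = 0 := by
    nth_rewrite 1 [hedef]
    rw [nm_adj ha.1 haa, hNe, map_zero]
  have hxe : B x e = 1 := by rw [hB e x, hex, map_one]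
  obtain ⟨l, hl⟩ := tr_surj hσ (-(B x x)) (by rw [map_neg, herm_self hB])
  obtain ⟨f, hfdef⟩ : ∃ f, f = x + l • e := ⟨_, rfl⟩
  have hfU : f ∈ U := by rw [hfdef]; exact U.add_mem hxU (U.smul_mem _ heU)
  have hff : B f f = 0 := by
    have h3 : B x (l • e) = σ l := by rw [map_smulₛₗ, smul_eq_mul, hxe, mul_one]
    rw [hfdef, self_add hB, self_smul, hee, mul_zero, add_zero, h3, hσ.invol]
    linear_combination hl
  have hef : B e f = 1 := by
    rw [hfdef, map_add, map_smulₛₗ, hee, smul_zero, add_zero, hex]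
  have h : HypPair B e f := hypPair_mk hB hee hff hef
  have hNf : nm a f = e := by
    rw [hfdef, map_add, map_smul, hNe, smul_zero, add_zero, hedef]
  have hae : a e = e := by
    have := hNe
    rw [nm_apply, sub_eq_zero] at this
    exact this
  have haf : a f = f + e := by
    have := hNf
    rw [nm_apply, sub_eq_iff_eq_add] at this
    rw [this]
    abel
  have hBae : ∀ y, B (a y) e = B y e := by
    intro y
    have := ha.1 y e
    rw [hae] at this
    exact this
  obtain ⟨a₁, ha₁def⟩ : ∃ a₁, a₁ = utv B e 1 * a := ⟨_, rfl⟩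
  have ha₁ : ∀ y, a₁ y = a y + B y e • e := by
    intro y
    rw [ha₁def, LinearEquiv.mul_apply, utv_apply B hee, one_mul, hBae]
  have ha₁e : a₁ e = e := by rw [ha₁, hae, hee, zero_smul, add_zero]
  have ha₁f : a₁ f = f := by
    rw [ha₁, haf, h.fe, one_smul, add_assoc, two_smul_zero h2, add_zero]
  have hnm₁ : ∀ y, nm a₁ y = nm a y + B y e • e := by
    intro y
    rw [nm_apply, nm_apply, ha₁]
    abel
  have hrng : ∀ y, nm a₁ y ∈ U ⊓ orthV B e ⊓ orthV B f := by
    intro y
    refine Submodule.mem_inf.mpr ⟨Submodule.mem_inf.mpr ⟨?_, mem_orthV.mpr ?_⟩,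
      mem_orthV.mpr ?_⟩
    · rw [hnm₁]
      exact U.add_mem (ha.2.2 y) (U.smul_mem _ heU)
    · rw [hnm₁, map_add, map_smul, LinearMap.add_apply, LinearMap.smul_apply, hee, smul_zero,
        add_zero, nm_adj ha.1 haa, hNe, map_zero]
    · rw [hnm₁, map_add, map_smul, LinearMap.add_apply, LinearMap.smul_apply, hef, smul_eq_mul,
        mul_one, nm_adj ha.1 haa, hNf]
      exact add_self_zero h2 _
  have hmem : a₁ ∈ suppG B (U ⊓ orthV B e ⊓ orthV B f) := by
    refine ⟨?_, ?_, fun y => hrng y⟩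
    · rw [ha₁def]
      exact (uG B).mul_mem (utv_one_mem_uG hB h2 e) ha.1
    · intro x' hx'
      have hp := perp_of_perp_inf heU hfU h (perpPart_e h x') (perpPart_f h x') (by
        intro u hu
        have hue : B u e = 0 := mem_orthV.mp (Submodule.mem_inf.mp (Submodule.mem_inf.mp hu).1).2
        have huf : B u f = 0 := mem_orthV.mp (Submodule.mem_inf.mp hu).2
        simp only [perpPart, map_sub, map_smul, LinearMap.sub_apply, LinearMap.smul_apply,
          smul_eq_mul, herm_eq_zero hB hue, herm_eq_zero hB huf, hx' u hu, mul_zero, sub_zero])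
      have hap : a₁ (perpPart B e f x') = perpPart B e f x' := by
        rw [ha₁, ha.2.1 _ hp, perpPart_e h x', zero_smul, add_zero]
      nth_rewrite 1 [eq_add_perpPart (B := B) e f x']
      rw [map_add, map_add, map_smul, map_smul, ha₁e, ha₁f, hap]
      exact (eq_add_perpPart (B := B) e f x').symm
  have hsq : a₁ * a₁ = 1 := by
    ext y
    rw [LinearEquiv.mul_apply, LinearEquiv.coe_one, id_eq, ha₁ (a₁ y), ha₁ y, map_add, map_smul,
      invol_apply haa, hae, map_add, map_smul, LinearMap.add_apply, LinearMap.smul_apply, hee,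
      smul_zero, add_zero, hBae, add_assoc, two_smul_zero h2, add_zero]
  have hprod : a = utv B e 1 * a₁ := by
    rw [ha₁def, ← mul_assoc, utv_one_mul_self h2 hee, one_mul]
  refine ⟨e, f, heU, hfU, h, a₁, hmem, hsq, hprod, ?_⟩
  -- the rank
  have he0 : e ≠ 0 := by
    rintro rfl
    simp at hef
  have hsup : LinearMap.range (nm a) = Submodule.span F {e} ⊔ LinearMap.range (nm a₁) := by
    apply le_antisymm
    · rintro _ ⟨y, rfl⟩
      have : nm a y = (-(B y e)) • e + nm a₁ y := by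
        rw [hnm₁, neg_smul]
        abel
      rw [this]
      exact Submodule.add_mem _ (Submodule.mem_sup_left (Submodule.smul_mem _ _
        (Submodule.mem_span_singleton_self e))) (Submodule.mem_sup_right ⟨y, rfl⟩)
    · rw [sup_le_iff]
      constructor
      · rw [Submodule.span_singleton_le_iff_mem]
        exact ⟨f, hNf⟩
      · rintro _ ⟨y, rfl⟩
        refine ⟨y + B y e • f, ?_⟩
        rw [map_add, map_smul, hNf, hnm₁]
  have hdisj : Submodule.span F {e} ⊓ LinearMap.range (nm a₁) = ⊥ := by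
    rw [eq_bot_iff]
    rintro z ⟨hz1, ⟨y, hy⟩⟩
    obtain ⟨c, rfl⟩ := Submodule.mem_span_singleton.mp hz1
    have h3 : B (c • e) f = 0 := by
      rw [← hy]
      exact mem_orthV.mp (Submodule.mem_inf.mp (hrng y)).2
    rw [map_smul, LinearMap.smul_apply, hef, smul_eq_mul, mul_one] at h3
    rw [h3, zero_smul]
    exact Submodule.zero_mem _
  have hfin := Submodule.finrank_sup_add_finrank_inf_eq (Submodule.span F {e})
    (LinearMap.range (nm a₁))
  rw [hdisj, finrank_bot, add_zero, finrank_span_singleton he0, ← hsup] at hfin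
  unfold rk
  omega

end

/-! ### The unitary torus of a hyperbolic plane -/

lemma tor_comp2 {e f : V} (h : HypPair B e f) {a a₁ b b₁ : F} (ha : a * a₁ = 1)
    (hb : b * b₁ = 1) : tor B e f a b ∘ₗ tor B e f a₁ b₁ = LinearMap.id := by
  apply LinearMap.ext
  intro v
  rw [LinearMap.comp_apply, LinearMap.id_apply, tor_apply, tor_apply]
  simp only [map_add, map_smul, LinearMap.add_apply, LinearMap.smul_apply, smul_eq_mul, h.ee,
    h.ff, h.ef, h.fe, mul_zero, mul_one, add_zero]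
  have h1 : (a₁ - 1) + (a - 1) * a₁ = 0 := by linear_combination ha
  have h2 : (b₁ - 1) + (b - 1) * b₁ = 0 := by linear_combination hb
  calc _ = v + (((a₁ - 1) + (a - 1) * a₁) * B v f) • e
        + (((b₁ - 1) + (b - 1) * b₁) * B v e) • f := by module
    _ = v := by rw [h1, h2]; simp

/-- The isometry `e ↦ ν e`, `f ↦ (σ ν)⁻¹ f`, identity on the orthogonal of the pair. -/
noncomputable def utor {e f : V} (h : HypPair B e f) {ν : F} (hν : ν ≠ 0) : V ≃ₗ[F] V :=
  LinearEquiv.ofLinearMap (tor B e f ν (σ ν)⁻¹) (tor B e f ν⁻¹ (σ ν))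
    (tor_comp2 h (mul_inv_cancel₀ hν) (inv_mul_cancel₀ ((map_ne_zero σ).mpr hν)))
    (tor_comp2 h (inv_mul_cancel₀ hν) (mul_inv_cancel₀ ((map_ne_zero σ).mpr hν)))

lemma utor_apply {e f : V} (h : HypPair B e f) {ν : F} (hν : ν ≠ 0) (v : V) :
    utor h hν v = v + ((ν - 1) * B v f) • e + (((σ ν)⁻¹ - 1) * B v e) • f := by
  simp [utor, tor_apply]

lemma utor_e {e f : V} (h : HypPair B e f) {ν : F} (hν : ν ≠ 0) : utor h hν e = ν • e := by
  rw [utor_apply, h.ee, h.ef]
  module

lemma utor_f {e f : V} (h : HypPair B e f) {ν : F} (hν : ν ≠ 0) :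
    utor h hν f = (σ ν)⁻¹ • f := by
  rw [utor_apply, h.ff, h.fe]
  module

lemma utor_perp {e f : V} (h : HypPair B e f) {ν : F} (hν : ν ≠ 0) {m : V} (hme : B m e = 0)
    (hmf : B m f = 0) : utor h hν m = m := by
  rw [utor_apply, hme, hmf]
  simp

lemma utor_mem_uG (hσ : Invol σ) (hB : IsHerm B) {e f : V} (h : HypPair B e f) {ν : F}
    (hν : ν ≠ 0) : utor h hν ∈ uG B := by
  intro x y
  have hσν : σ ν ≠ 0 := (map_ne_zero σ).mpr hν
  rw [utor_apply, utor_apply]
  simp only [map_add, map_smul, map_smulₛₗ, LinearMap.add_apply, LinearMap.smul_apply,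
    smul_eq_mul, h.ee, h.ff, h.ef, h.fe, mul_zero, mul_one, add_zero, map_mul, map_sub,
    map_one, map_inv₀, hσ.invol]
  rw [hB y e, hB y f]
  have h1 : σ ν * (σ ν)⁻¹ = 1 := mul_inv_cancel₀ hσν
  have h2 : ν * ν⁻¹ = 1 := mul_inv_cancel₀ hν
  linear_combination (B x e * σ (B y f)) * h1 + (B x f * σ (B y e)) * h2

lemma utor_mem_suppG (hσ : Invol σ) (hB : IsHerm B) {U : Submodule F V} {e f : V}
    (h : HypPair B e f) (heU : e ∈ U) (hfU : f ∈ U) {ν : F} (hν : ν ≠ 0) :
    utor h hν ∈ suppG B U := by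
  refine ⟨utor_mem_uG hσ hB h hν, ?_, ?_⟩
  · intro x hx
    exact utor_perp h hν (hx e heU) (hx f hfU)
  · intro x
    rw [utor_apply]
    have : x + ((ν - 1) * B x f) • e + (((σ ν)⁻¹ - 1) * B x e) • f - x =
        ((ν - 1) * B x f) • e + (((σ ν)⁻¹ - 1) * B x e) • f := by abel
    rw [this]
    exact U.add_mem (U.smul_mem _ heU) (U.smul_mem _ hfU)

/-! ### Conjugacy of involutions of equal rank -/

section

variable (hσ : Invol σ) (hB : IsHerm B)

include hσ hB in
/-- `suppG B U` is transitive on the nonzero isotropic vectors of the nondegenerate `U`. -/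
lemma exists_move {U : Submodule F V} (hU : NondegOn B U) {e e' : V} (heU : e ∈ U)
    (he'U : e' ∈ U) (he0 : e ≠ 0) (he'0 : e' ≠ 0) (he : B e e = 0) (he' : B e' e' = 0) :
    ∃ g ∈ suppG B U, g e = e' := by
  obtain ⟨t, ht, μ, hμ0, hm⟩ := exists_tv_move_point hσ hB hU heU he'U he0 he'0 he he'
  obtain ⟨f', hf'U, hf', hef'⟩ := exists_partner hσ hB hU he'U he'0 he'
  have h' : HypPair B e' f' := hypPair_mk hB he' hf' hef'
  refine ⟨utor h' (inv_ne_zero hμ0) * t,
    (suppG B U).mul_mem (utor_mem_suppG hσ hB h' he'U hf'U _) (tvGroup_le_suppG hB U ht), ?_⟩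
  rw [LinearEquiv.mul_apply, hm, map_smul, utor_e, smul_smul, mul_inv_cancel₀ hμ0, one_smul]

lemma conj_mem_suppG {U : Submodule F V} {t a₁ : V ≃ₗ[F] V} {e f e' f' : V}
    (ht : t ∈ suppG B U) (hte : t e = e') (htf : t f = f')
    (ha₁ : a₁ ∈ suppG B (U ⊓ orthV B e ⊓ orthV B f)) :
    t * a₁ * t⁻¹ ∈ suppG B (U ⊓ orthV B e' ⊓ orthV B f') := by
  have hmap : ∀ u ∈ U ⊓ orthV B e ⊓ orthV B f, t u ∈ U ⊓ orthV B e' ⊓ orthV B f' := by
    intro u hu
    have huU : u ∈ U := (Submodule.mem_inf.mp (Submodule.mem_inf.mp hu).1).1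
    have hue : B u e = 0 := mem_orthV.mp (Submodule.mem_inf.mp (Submodule.mem_inf.mp hu).1).2
    have huf : B u f = 0 := mem_orthV.mp (Submodule.mem_inf.mp hu).2
    refine Submodule.mem_inf.mpr ⟨Submodule.mem_inf.mpr ⟨suppG_map_mem ht huU,
      mem_orthV.mpr ?_⟩, mem_orthV.mpr ?_⟩
    · rw [← hte, ht.1, hue]
    · rw [← htf, ht.1, huf]
  refine ⟨(uG B).mul_mem ((uG B).mul_mem ht.1 ha₁.1) ((uG B).inv_mem ht.1), ?_, ?_⟩
  · intro x hx
    have h1 : a₁ (t⁻¹ x) = t⁻¹ x := by
      apply ha₁.2.1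
      intro u hu
      rw [uG_inv_apply B ht.1]
      exact hx _ (hmap u hu)
    rw [LinearEquiv.mul_apply, LinearEquiv.mul_apply, h1, apply_inv_apply']
  · intro x
    have h1 : (t * a₁ * t⁻¹) x - x = t (a₁ (t⁻¹ x) - t⁻¹ x) := by
      rw [LinearEquiv.mul_apply, LinearEquiv.mul_apply, map_sub, apply_inv_apply']
    rw [h1]
    exact hmap _ (ha₁.2.2 _)

include hB in
/-- A nondegenerate subspace carrying a hyperbolic pair and a nontrivial involution supported
on the orthogonal of the pair has dimension at least four. -/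
lemma four_le_finrank [FiniteDimensional F V] (h2 : (2 : F) = 0) {U : Submodule F V} {e f : V}
    (heU : e ∈ U) (hfU : f ∈ U) (h : HypPair B e f)
    (hU₁ : NondegOn B (U ⊓ orthV B e ⊓ orthV B f)) {a₁ : V ≃ₗ[F] V}
    (ha₁ : a₁ ∈ suppG B (U ⊓ orthV B e ⊓ orthV B f)) (haa₁ : a₁ * a₁ = 1) (hne : a₁ ≠ 1) :
    4 ≤ finrank F U := by
  obtain ⟨x, hx⟩ : ∃ x, nm a₁ x ≠ 0 := by
    by_contra hcon
    push Not at hcon
    apply hne
    ext x
    have := hcon x
    rw [nm_apply, sub_eq_zero] at this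
    exact this
  obtain ⟨n, hn⟩ : ∃ n, n = nm a₁ x := ⟨_, rfl⟩
  rw [← hn] at hx
  have hnU₁ : n ∈ U ⊓ orthV B e ⊓ orthV B f := by rw [hn]; exact ha₁.2.2 x
  have hnn : B n n = 0 := by
    nth_rewrite 1 [hn]
    rw [nm_adj ha₁.1 haa₁, hn, nm_nm h2 haa₁, map_zero]
  obtain ⟨y, hyU₁, hy⟩ := hU₁ n hnU₁ hx
  have hyn : B y n ≠ 0 := by
    intro h0
    exact hy (herm_eq_zero hB h0)
  have mem_U : ∀ {u}, u ∈ U ⊓ orthV B e ⊓ orthV B f → u ∈ U := fun hu =>
    (Submodule.mem_inf.mp (Submodule.mem_inf.mp hu).1).1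
  have mem_e : ∀ {u}, u ∈ U ⊓ orthV B e ⊓ orthV B f → B u e = 0 := fun hu =>
    mem_orthV.mp (Submodule.mem_inf.mp (Submodule.mem_inf.mp hu).1).2
  have mem_f : ∀ {u}, u ∈ U ⊓ orthV B e ⊓ orthV B f → B u f = 0 := fun hu =>
    mem_orthV.mp (Submodule.mem_inf.mp hu).2
  have hli : LinearIndependent F ![e, f, y, n] := by
    rw [Fintype.linearIndependent_iff]
    intro g hg
    have hg' : g 0 • e + g 1 • f + g 2 • y + g 3 • n = 0 := by
      rw [Fin.sum_univ_four] at hg
      exact hg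
    have e0 : g 0 = 0 := by
      have := congrArg (fun v => B v f) hg'
      simpa [h.ef, h.ff, mem_f hyU₁, mem_f hnU₁] using this
    have e1 : g 1 = 0 := by
      have := congrArg (fun v => B v e) hg'
      simpa [h.ee, h.fe, mem_e hyU₁, mem_e hnU₁] using this
    have e2 : g 2 = 0 := by
      have := congrArg (fun v => B v n) hg'
      simp only [map_add, map_smul, LinearMap.add_apply, LinearMap.smul_apply, smul_eq_mul, hnn,
        herm_eq_zero hB (mem_e hnU₁), herm_eq_zero hB (mem_f hnU₁), mul_zero, add_zero, zero_add,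
        map_zero, LinearMap.zero_apply] at this
      rcases mul_eq_zero.mp this with h0 | h0
      · exact h0
      · exact absurd h0 hyn
    have e3 : g 3 = 0 := by
      rw [e0, e1, e2, zero_smul, zero_smul, zero_smul, zero_add, zero_add, zero_add] at hg'
      rcases smul_eq_zero.mp hg' with h0 | h0
      · exact h0
      · exact absurd h0 hx
    intro i
    fin_cases i
    · exact e0
    · exact e1
    · exact e2
    · exact e3
  have hspan : Submodule.span F (Set.range ![e, f, y, n]) ≤ U := by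
    rw [Submodule.span_le]
    rintro _ ⟨i, rfl⟩
    fin_cases i
    · exact heU
    · exact hfU
    · exact mem_U hyU₁
    · exact mem_U hnU₁
  have h4 := finrank_span_eq_card hli
  rw [Fintype.card_fin] at h4
  have h5 := Submodule.finrank_mono hspan
  omega

include hσ hB in
/-- Two involutions of the same rank supported on a nondegenerate subspace `U` are conjugate
by an isometry supported on `U`. -/
theorem exists_conj [Finite F] [FiniteDimensional F V] (h2 : (2 : F) = 0) :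
    ∀ (k : ℕ) (U : Submodule F V), NondegOn B U → ∀ a b : V ≃ₗ[F] V, a ∈ suppG B U →
      b ∈ suppG B U → a * a = 1 → b * b = 1 → rk a = k → rk b = k →
      ∃ g ∈ suppG B U, g * a * g⁻¹ = b := by
  intro k
  induction k with
  | zero =>
    intro U _ a b _ _ _ _ hka hkb
    rw [eq_one_of_rk_eq_zero hka, eq_one_of_rk_eq_zero hkb]
    exact ⟨1, (suppG B U).one_mem, by simp⟩
  | succ k ih =>
    intro U hU a b ha hb haa hbb hka hkb
    have ha1 : a ≠ 1 := by
      rintro rfl
      rw [rk_one] at hka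
      omega
    have hb1 : b ≠ 1 := by
      rintro rfl
      rw [rk_one] at hkb
      omega
    obtain ⟨e, f, heU, hfU, h, a₁, ha₁, haa₁, hprod, hrk⟩ :=
      exists_split hσ hB h2 hU ha haa ha1
    obtain ⟨e', f', he'U, hf'U, h', b₁, hb₁, hbb₁, hprod', hrk'⟩ :=
      exists_split hσ hB h2 hU hb hbb hb1
    have hka₁ : rk a₁ = k := by omega
    have hkb₁ : rk b₁ = k := by omega
    have he0 : e ≠ 0 := by
      rintro rfl
      have := h.ef
      simp at this
    have he'0 : e' ≠ 0 := by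
      rintro rfl
      have := h'.ef
      simp at this
    by_cases hk0 : k = 0
    · rw [hk0] at hka₁ hkb₁
      rw [eq_one_of_rk_eq_zero hka₁, mul_one] at hprod
      rw [eq_one_of_rk_eq_zero hkb₁, mul_one] at hprod'
      obtain ⟨g, hg, hge⟩ := exists_move hσ hB hU heU he'U he0 he'0 h.ee h'.ee
      refine ⟨g, hg, ?_⟩
      rw [hprod, hprod', conj_utv hg.1, hge]
    · have ha₁1 : a₁ ≠ 1 := by
        rintro rfl
        rw [rk_one] at hka₁
        omega
      have hU₁ := nondegOn_pair hB hU heU hfU h.ee h.ff h.ef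
      have hU₁' := nondegOn_pair hB hU he'U hf'U h'.ee h'.ff h'.ef
      have h4 := four_le_finrank hB h2 heU hfU h hU₁ ha₁ haa₁ ha₁1
      obtain ⟨t, ht, hte, htf⟩ := pair_trans hσ hB hU h4 heU hfU he'U hf'U h.ee h.ff h.ef
        h'.ee h'.ff h'.ef
      have htS : t ∈ suppG B U := tvGroup_le_suppG hB U ht
      have hc := conj_mem_suppG htS hte htf ha₁
      have hcc : t * a₁ * t⁻¹ * (t * a₁ * t⁻¹) = 1 := by
        have : t * a₁ * t⁻¹ * (t * a₁ * t⁻¹) = t * (a₁ * a₁) * t⁻¹ := by group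
        rw [this, haa₁]
        group
      obtain ⟨g₂, hg₂, hconj⟩ := ih _ hU₁' (t * a₁ * t⁻¹) b₁ hc hb₁ hcc hbb₁
        (by rw [rk_conj]; exact hka₁) hkb₁
      have hg₂e : g₂ e' = e' := by
        apply hg₂.2.1
        intro u hu
        exact herm_eq_zero hB
          (mem_orthV.mp (Submodule.mem_inf.mp (Submodule.mem_inf.mp hu).1).2)
      have hg₂U : g₂ ∈ suppG B U :=
        suppG_mono (le_trans inf_le_left inf_le_left) hg₂
      refine ⟨g₂ * t, (suppG B U).mul_mem hg₂U htS, ?_⟩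
      have e1 : g₂ * t * a * (g₂ * t)⁻¹ =
          (g₂ * (t * utv B e 1 * t⁻¹) * g₂⁻¹) * (g₂ * (t * a₁ * t⁻¹) * g₂⁻¹) := by
        rw [hprod]
        group
      rw [e1, hconj, conj_utv htS.1, hte, conj_utv hg₂.1, hg₂e, ← hprod']

end

/-! ### Adjusting the determinant -/

lemma det_utor [FiniteDimensional F V] {e f : V} (h : HypPair B e f) {ν : F} (hν : ν ≠ 0) :
    LinearMap.det (utor h hν : V →ₗ[F] V) = ν * (σ ν)⁻¹ := by
  rw [det_eq_of_span (hypPair_linearIndependent h) (utor h hν : V →ₗ[F] V)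
    !![ν, 0; 0, (σ ν)⁻¹] ?_ ?_, Matrix.det_fin_two_of]
  · ring
  · intro j
    rw [Fin.sum_univ_two]
    fin_cases j
    · show utor h hν e = _
      rw [utor_e]
      simp
    · show utor h hν f = _
      rw [utor_f]
      simp
  · intro v
    rw [LinearEquiv.coe_coe, utor_apply]
    have : v + ((ν - 1) * B v f) • e + (((σ ν)⁻¹ - 1) * B v e) • f - v =
        ((ν - 1) * B v f) • e + (((σ ν)⁻¹ - 1) * B v e) • f := by abel
    rw [this]
    exact mem_span_pair_range _ _

section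

variable (hσ : Invol σ) (hB : IsHerm B)

include hσ hB in
/-- A conjugating isometry can be changed so that its determinant gets multiplied by the square
of any element of norm one. -/
theorem exists_conj_det [Finite F] [FiniteDimensional F V] (h2 : (2 : F) = 0)
    (hN : NondegOn B ⊤) {a b g : V ≃ₗ[F] V} (hb : b ∈ uG B) (hbb : b * b = 1) (hb1 : b ≠ 1)
    (hg : g ∈ uG B) (hgab : g * a * g⁻¹ = b) {μ : F} (hμ : μ * σ μ = 1) :
    ∃ g' ∈ uG B, g' * a * g'⁻¹ = b ∧
      LinearMap.det (g' : V →ₗ[F] V) = μ * μ * LinearMap.det (g : V →ₗ[F] V) := by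
  have hbS : b ∈ suppG B ⊤ := by
    refine ⟨hb, ?_, fun x => Submodule.mem_top⟩
    intro x hx
    have : x = 0 := by
      by_contra hne
      obtain ⟨y, hy, hxy⟩ := hN x Submodule.mem_top hne
      exact hxy (hx y hy)
    rw [this, map_zero]
  obtain ⟨e', f', -, -, h', b₁, hb₁, -, hprod', -⟩ := exists_split hσ hB h2 hN hbS hbb hb1
  have hμ0 : μ ≠ 0 := by
    rintro rfl
    rw [zero_mul] at hμ
    exact zero_ne_one hμ
  have mem_e : ∀ {u}, u ∈ (⊤ : Submodule F V) ⊓ orthV B e' ⊓ orthV B f' → B u e' = 0 :=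
    fun hu => mem_orthV.mp (Submodule.mem_inf.mp (Submodule.mem_inf.mp hu).1).2
  have mem_f : ∀ {u}, u ∈ (⊤ : Submodule F V) ⊓ orthV B e' ⊓ orthV B f' → B u f' = 0 :=
    fun hu => mem_orthV.mp (Submodule.mem_inf.mp hu).2
  have hb₁e : b₁ e' = e' := hb₁.2.1 e' (fun u hu => herm_eq_zero hB (mem_e hu))
  have hb₁f : b₁ f' = f' := hb₁.2.1 f' (fun u hu => herm_eq_zero hB (mem_f hu))
  obtain ⟨c, hc⟩ : ∃ c, c = utor h' hμ0 := ⟨_, rfl⟩
  have hce : c e' = μ • e' := by rw [hc, utor_e]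
  have hcf : c f' = (σ μ)⁻¹ • f' := by rw [hc, utor_f]
  have hcomm : c * b₁ = b₁ * c := by
    apply ext_pair h'
    · rw [LinearEquiv.mul_apply, LinearEquiv.mul_apply, hb₁e, hce, map_smul, hb₁e]
    · rw [LinearEquiv.mul_apply, LinearEquiv.mul_apply, hb₁f, hcf, map_smul, hb₁f]
    · intro m hme hmf
      have h1 : B (b₁ m) e' = 0 := by
        have := mem_e (hb₁.2.2 m)
        rw [map_sub, LinearMap.sub_apply, hme, sub_zero] at this
        exact this
      have h3 : B (b₁ m) f' = 0 := by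
        have := mem_f (hb₁.2.2 m)
        rw [map_sub, LinearMap.sub_apply, hmf, sub_zero] at this
        exact this
      rw [LinearEquiv.mul_apply, LinearEquiv.mul_apply, hc, utor_perp h' hμ0 h1 h3,
        utor_perp h' hμ0 hme hmf]
  have hcU : c ∈ uG B := by rw [hc]; exact utor_mem_uG hσ hB h' hμ0
  have hcb : c * b * c⁻¹ = b := by
    have e1 : c * b * c⁻¹ = (c * utv B e' 1 * c⁻¹) * (c * b₁ * c⁻¹) := by
      rw [hprod']
      group
    have e2 : c * b₁ * c⁻¹ = b₁ := by
      rw [hcomm]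
      group
    rw [e1, e2, conj_utv hcU, hce, utv_smul, hμ, one_mul, ← hprod']
  refine ⟨c * g, (uG B).mul_mem hcU hg, ?_, ?_⟩
  · have e1 : c * g * a * (c * g)⁻¹ = c * (g * a * g⁻¹) * c⁻¹ := by group
    rw [e1, hgab, hcb]
  · have e1 : ((c * g : V ≃ₗ[F] V) : V →ₗ[F] V) = (c : V →ₗ[F] V) ∘ₗ (g : V →ₗ[F] V) := rfl
    have e2 : (σ μ)⁻¹ = μ := by
      rw [eq_inv_of_mul_eq_one_right hμ, inv_inv]
    rw [e1, LinearMap.det_comp, hc, det_utor, e2]

end

end Cfsg.Agent.Lib.Helper13_UInv
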