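import Cfsg.Prelude.Def_LocalStructure
import Cfsg.Agent.S2750
import Cfsg.Agent.S2746
import Cfsg.Agent.Lib.Helper47_PClosed

set_option autoImplicit false

/-! Iterated closures `V_δ^{(n)}` on the coset graph: equivariance, monotonicity, and the
"no common normal subgroup" argument (for S2856, S2857). -/

namespace Cfsg.Agent.Lib.Helper13_VIter

open Cfsg Cfsg.Agent.Lib.Helper46_Amalgam Cfsg.Agent.Lib.Helper46_Amalgam2
open scoped commutatorElement

/-! ### The group acts on the coset graph by automorphisms -/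

/-- Left multiplication by `g` as a graph homomorphism of the coset graph. -/
def smulHom {X : Type*} [Group X] (M₁ M₂ : Subgroup X) (g : X) :
    (Cfsg.cosetGraph M₁ M₂) →g (Cfsg.cosetGraph M₁ M₂) where
  toFun v := g • v
  map_rel' := fun {a b} h => Cfsg.Agent.S2745.adj_smul M₁ M₂ g a b h

theorem dist_smul_le {X : Type*} [Group X] {M₁ M₂ : Subgroup X}
    (hconn : (Cfsg.cosetGraph M₁ M₂).Connected) (g : X) (a b : Cfsg.CosetVertex M₁ M₂) :
    (Cfsg.cosetGraph M₁ M₂).dist (g • a) (g • b) ≤ (Cfsg.cosetGraph M₁ M₂).dist a b := by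
  obtain ⟨w, hw⟩ := hconn.exists_walk_length_eq_dist a b
  have h1 := SimpleGraph.dist_le (w.map (smulHom M₁ M₂ g))
  rw [SimpleGraph.Walk.length_map, hw] at h1
  exact h1

theorem dist_smul {X : Type*} [Group X] {M₁ M₂ : Subgroup X}
    (hconn : (Cfsg.cosetGraph M₁ M₂).Connected) (g : X) (a b : Cfsg.CosetVertex M₁ M₂) :
    (Cfsg.cosetGraph M₁ M₂).dist (g • a) (g • b) = (Cfsg.cosetGraph M₁ M₂).dist a b := by
  apply le_antisymm (dist_smul_le hconn g a b)
  have := dist_smul_le hconn g⁻¹ (g • a) (g • b)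
  rwa [inv_smul_smul, inv_smul_smul] at this

/-! ### Conjugation helpers -/

theorem le_map_conj_of_map_conj_inv_le {X : Type*} [Group X] {A B : Subgroup X} (g : X)
    (h : A.map (MulAut.conj g⁻¹).toMonoidHom ≤ B) : A ≤ B.map (MulAut.conj g).toMonoidHom := by
  intro a ha
  refine ⟨g⁻¹ * a * g, h ⟨a, ha, by simp⟩, by simp [mul_assoc]⟩

theorem omegaOne_center_map_conj {X : Type*} [Group X] (p : ℕ) (A : Subgroup X) (g : X) :
    (Cfsg.omegaOne p (A ⊓ Subgroup.centralizer (A : Set X))).map (MulAut.conj g).toMonoidHom ≤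
      Cfsg.omegaOne p (A.map (MulAut.conj g).toMonoidHom ⊓
        Subgroup.centralizer ((A.map (MulAut.conj g).toMonoidHom : Subgroup X) : Set X)) := by
  unfold Cfsg.omegaOne
  rw [MonoidHom.map_closure]
  apply Subgroup.closure_mono
  rintro _ ⟨x, ⟨⟨hxA, hxC⟩, hxp⟩, rfl⟩
  refine ⟨⟨⟨x, hxA, rfl⟩, ?_⟩, ?_⟩
  · show _ ∈ Subgroup.centralizer _
    rw [Subgroup.mem_centralizer_iff]
    rintro _ ⟨t, ht, rfl⟩
    have hxC' : x ∈ Subgroup.centralizer (A : Set X) := hxC
    have hc : t * x = x * t := (Subgroup.mem_centralizer_iff.mp hxC') t ht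
    simp only [MulEquiv.toMonoidHom_eq_coe, MonoidHom.coe_coe, MulAut.conj_apply]
    calc g * t * g⁻¹ * (g * x * g⁻¹) = g * (t * x) * g⁻¹ := by group
      _ = g * (x * t) * g⁻¹ := by rw [hc]
      _ = g * x * g⁻¹ * (g * t * g⁻¹) := by group
  · show ((MulAut.conj g).toMonoidHom x) ^ p = 1
    rw [← map_pow, hxp, map_one]

theorem sylowCenterClosure_map_conj_le {X : Type*} [Group X] (p : ℕ) [Fact p.Prime] (H : Subgroup X)
    [Finite H] (g : X) :
    (Cfsg.sylowCenterClosure p H).map (MulAut.conj g).toMonoidHom ≤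
      Cfsg.sylowCenterClosure p (H.map (MulAut.conj g).toMonoidHom) := by
  unfold Cfsg.sylowCenterClosure
  rw [Subgroup.map_iSup]
  refine iSup_le fun S => ?_
  have e : H ≃* H.map (MulAut.conj g).toMonoidHom := (MulAut.conj g).subgroupMap H
  have : Finite ↥(H.map (MulAut.conj g).toMonoidHom) := Finite.of_equiv _ e.toEquiv
  have hcardH : Nat.card ↥(H.map (MulAut.conj g).toMonoidHom) = Nat.card H :=
    (Nat.card_congr e.toEquiv).symm
  obtain ⟨P, hP⟩ := Cfsg.Agent.S2750.exists_sylow_of_card (H.map (MulAut.conj g).toMonoidHom)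
    (((S : Subgroup H).map H.subtype).map (MulAut.conj g).toMonoidHom)
    (Subgroup.map_mono (by rintro _ ⟨s, _, rfl⟩; exact s.2))
    (by rw [Subgroup.card_map_of_injective (MulAut.conj g).injective, Subgroup.card_subtype,
      S.card_eq_multiplicity, hcardH])
  refine le_trans ?_ (le_iSup _ P)
  rw [hP]
  exact omegaOne_center_map_conj p _ g

/-! ### Finite stabilizers -/

theorem stab_finite {X : Type*} [Group X] {p : ℕ} [Fact p.Prime] {M₁ M₂ : Subgroup X}
    (h : Cfsg.IsCharPAmalgamPair p M₁ M₂) (δ : Cfsg.CosetVertex M₁ M₂) :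
    Finite (MulAction.stabilizer X δ) := by
  obtain ⟨a, g1, g2, g3⟩ := exists_goodSub h
  exact (stab_goodSub g1 g2 δ).1

/-! ### Equivariance of `Z_δ` and `V_δ^{(n)}` -/

theorem vertexZ_map_conj_le {X : Type*} [Group X] {p : ℕ} [Fact p.Prime] {M₁ M₂ : Subgroup X}
    (h : Cfsg.IsCharPAmalgamPair p M₁ M₂) (g : X) (δ : Cfsg.CosetVertex M₁ M₂) :
    (Cfsg.vertexZ p δ).map (MulAut.conj g).toMonoidHom ≤ Cfsg.vertexZ p (g • δ) := by
  have := stab_finite h δ
  show (Cfsg.sylowCenterClosure p (MulAction.stabilizer X δ)).map _ ≤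
    Cfsg.sylowCenterClosure p (MulAction.stabilizer X (g • δ))
  rw [MulAction.stabilizer_smul_eq_stabilizer_map_conj]
  exact sylowCenterClosure_map_conj_le p _ g

theorem vertexZ_smul {X : Type*} [Group X] {p : ℕ} [Fact p.Prime] {M₁ M₂ : Subgroup X}
    (h : Cfsg.IsCharPAmalgamPair p M₁ M₂) (g : X) (δ : Cfsg.CosetVertex M₁ M₂) :
    Cfsg.vertexZ p (g • δ) = (Cfsg.vertexZ p δ).map (MulAut.conj g).toMonoidHom := by
  apply le_antisymm
  · apply le_map_conj_of_map_conj_inv_le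
    have := vertexZ_map_conj_le h g⁻¹ (g • δ)
    rwa [inv_smul_smul] at this
  · exact vertexZ_map_conj_le h g δ

theorem vertexZ_le_vertexVIter {X : Type*} [Group X] {p : ℕ} {M₁ M₂ : Subgroup X} {n : ℕ}
    {δ μ : Cfsg.CosetVertex M₁ M₂} (hd : (Cfsg.cosetGraph M₁ M₂).dist δ μ ≤ n) :
    Cfsg.vertexZ p μ ≤ Cfsg.vertexVIter p M₁ M₂ n δ := by
  unfold Cfsg.vertexVIter
  exact le_iSup (fun μ : {μ : Cfsg.CosetVertex M₁ M₂ // (Cfsg.cosetGraph M₁ M₂).dist δ μ ≤ n} =>
    Cfsg.vertexZ p (μ : Cfsg.CosetVertex M₁ M₂)) ⟨μ, hd⟩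

theorem vertexVIter_le_iff {X : Type*} [Group X] {p : ℕ} {M₁ M₂ : Subgroup X} {n : ℕ}
    {δ : Cfsg.CosetVertex M₁ M₂} {Y : Subgroup X} :
    Cfsg.vertexVIter p M₁ M₂ n δ ≤ Y ↔
      ∀ μ : Cfsg.CosetVertex M₁ M₂, (Cfsg.cosetGraph M₁ M₂).dist δ μ ≤ n → Cfsg.vertexZ p μ ≤ Y := by
  unfold Cfsg.vertexVIter
  rw [iSup_le_iff]
  exact ⟨fun h μ hμ => h ⟨μ, hμ⟩, fun h μ => h μ.1 μ.2⟩

theorem vertexVIter_map_conj_le {X : Type*} [Group X] {p : ℕ} [Fact p.Prime] {M₁ M₂ : Subgroup X}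
    (h : Cfsg.IsCharPAmalgamPair p M₁ M₂) (g : X) (n : ℕ) (δ : Cfsg.CosetVertex M₁ M₂) :
    (Cfsg.vertexVIter p M₁ M₂ n δ).map (MulAut.conj g).toMonoidHom ≤
      Cfsg.vertexVIter p M₁ M₂ n (g • δ) := by
  rw [Subgroup.map_le_iff_le_comap, vertexVIter_le_iff]
  intro μ hμ
  rw [← Subgroup.map_le_iff_le_comap]
  refine (vertexZ_map_conj_le h g μ).trans (vertexZ_le_vertexVIter ?_)
  rw [dist_smul (connected h.1)]
  exact hμ

theorem stab_le_normalizer_vertexVIter {X : Type*} [Group X] {p : ℕ} [Fact p.Prime]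
    {M₁ M₂ : Subgroup X} (h : Cfsg.IsCharPAmalgamPair p M₁ M₂) (n : ℕ)
    (δ : Cfsg.CosetVertex M₁ M₂) :
    MulAction.stabilizer X δ ≤ Subgroup.normalizer (Cfsg.vertexVIter p M₁ M₂ n δ : Set X) := by
  apply Cfsg.Agent.Lib.Helper47_PClosed.le_normalizer_of_forall_map_conj_le
  intro g hg
  have := vertexVIter_map_conj_le h g n δ
  rwa [MulAction.mem_stabilizer_iff.mp hg] at this

theorem vertexVIter_mono {X : Type*} [Group X] {p : ℕ} {M₁ M₂ : Subgroup X} {k m : ℕ}
    (hkm : k ≤ m) (δ : Cfsg.CosetVertex M₁ M₂) :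
    Cfsg.vertexVIter p M₁ M₂ k δ ≤ Cfsg.vertexVIter p M₁ M₂ m δ := by
  rw [vertexVIter_le_iff]
  intro μ hμ
  exact vertexZ_le_vertexVIter (hμ.trans hkm)

theorem vertexVIter_adj_le {X : Type*} [Group X] {p : ℕ} {M₁ M₂ : Subgroup X}
    (hconn : (Cfsg.cosetGraph M₁ M₂).Connected) {δ μ : Cfsg.CosetVertex M₁ M₂}
    (hadj : (Cfsg.cosetGraph M₁ M₂).Adj δ μ) (k : ℕ) :
    Cfsg.vertexVIter p M₁ M₂ k μ ≤ Cfsg.vertexVIter p M₁ M₂ (k + 1) δ := by
  rw [vertexVIter_le_iff]
  intro ν hν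
  apply vertexZ_le_vertexVIter
  have h1 := hconn.dist_triangle (u := δ) (v := μ) (w := ν)
  have h2 : (Cfsg.cosetGraph M₁ M₂).dist δ μ = 1 := SimpleGraph.dist_eq_one_iff_adj.mpr hadj
  omega

/-! ### `Z_H` is nontrivial -/

theorem sylowCenterClosure_ne_bot {X : Type*} [Group X] (p : ℕ) [Fact p.Prime] (H : Subgroup X)
    [Finite H] (hp : p ∣ Nat.card H) : Cfsg.sylowCenterClosure p H ≠ ⊥ := by
  obtain ⟨S⟩ : Nonempty (Sylow p H) := inferInstance
  have hS : Nat.card S = p ^ (Nat.card H).factorization p := S.card_eq_multiplicity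
  have hpos : 0 < (Nat.card H).factorization p :=
    Nat.Prime.factorization_pos_of_dvd Fact.out Nat.card_pos.ne' hp
  have hnt : Nontrivial S := by
    rw [← Finite.one_lt_card_iff_nontrivial, hS]
    exact Nat.one_lt_pow hpos.ne' (Fact.out : p.Prime).one_lt
  have hcnt : Nontrivial (Subgroup.center S) := S.isPGroup'.center_nontrivial
  have hcp : IsPGroup p (Subgroup.center S) := S.isPGroup'.to_subgroup _
  obtain ⟨k, hk0, hk⟩ := hcp.nontrivial_iff_card.mp hcnt
  have hpc : p ∣ Nat.card (Subgroup.center S) := by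
    rw [hk]; exact dvd_pow_self p hk0.ne'
  obtain ⟨c, hc⟩ := exists_prime_orderOf_dvd_card' p hpc
  intro hbot
  have hmem : (((c : S) : H) : X) ∈ Cfsg.sylowCenterClosure p H := by
    apply omegaZ_le_sylowCenterClosure p S
    unfold omegaZ Cfsg.omegaOne
    apply Subgroup.subset_closure
    refine ⟨⟨⟨((c : S) : H), (c : S).2, rfl⟩, ?_⟩, ?_⟩
    · show _ ∈ Subgroup.centralizer _
      rw [Subgroup.mem_centralizer_iff]
      rintro _ ⟨t, ht, rfl⟩
      have h1 : (⟨t, ht⟩ : S) * (c : S) = (c : S) * ⟨t, ht⟩ :=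
        (Subgroup.mem_center_iff.mp c.2 ⟨t, ht⟩)
      have h2 := congrArg (fun s : S => ((s : H) : X)) h1
      simpa using h2
    · have h3 : c ^ p = 1 := by
        have := pow_orderOf_eq_one c
        rwa [hc] at this
      have h4 := congrArg (fun s : Subgroup.center S => (((s : S) : H) : X)) h3
      simpa using h4
  rw [hbot, Subgroup.mem_bot] at hmem
  have hc1 : c = 1 := by
    apply Subtype.ext; apply Subtype.ext; apply Subtype.ext
    simpa using hmem
  rw [hc1, orderOf_one] at hc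
  exact (Fact.out : p.Prime).one_lt.ne' hc.symm

theorem vertexZ_ne_bot {X : Type*} [Group X] {p : ℕ} [Fact p.Prime] {M₁ M₂ : Subgroup X}
    (h : Cfsg.IsCharPAmalgamPair p M₁ M₂) (δ : Cfsg.CosetVertex M₁ M₂) :
    Cfsg.vertexZ p δ ≠ ⊥ := by
  have := stab_finite h δ
  apply sylowCenterClosure_ne_bot
  obtain ⟨y, hy | hy⟩ := stab_eq_map δ
  · rw [hy, Subgroup.card_map_of_injective (MulAut.conj y).injective]; exact h.2.2.2.1
  · rw [hy, Subgroup.card_map_of_injective (MulAut.conj y).injective]; exact h.2.2.2.2.1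

/-! ### `O^{p'}(G) = O^p(O^{p'}(G)) T` for a Sylow subgroup `T` -/

theorem pElementClosure_le_pResidual_sup {X : Type*} [Group X] {p : ℕ} [Fact p.Prime]
    (G T : Subgroup X) [Finite G] (hTG : T ≤ G)
    (hTcard : Nat.card T = p ^ (Nat.card G).factorization p) :
    Cfsg.pElementClosure p G ≤
      (Cfsg.pResidual p ↥(Cfsg.pElementClosure p G)).map (Cfsg.pElementClosure p G).subtype ⊔ T := by
  set L := Cfsg.pElementClosure p G with hL
  have hLG : L ≤ G := Cfsg.Agent.S2749.pElementClosure_le p G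
  have hfinL : Finite L := Finite.of_injective _ (Subgroup.inclusion_injective hLG)
  have hTp : IsPGroup p T := IsPGroup.of_card hTcard
  have hTL : T ≤ L := Cfsg.Agent.S2749.mem_pElementClosure_of_isPGroup p G T hTG hTp
  have hfinT : Finite T := Finite.of_injective _ (Subgroup.inclusion_injective hTG)
  have hfac : (Nat.card L).factorization p = (Nat.card G).factorization p := by
    apply le_antisymm
    · exact (Nat.factorization_le_iff_dvd Nat.card_pos.ne' Nat.card_pos.ne').mpr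
        (Subgroup.card_dvd_of_le hLG) p
    · have h1 := (Nat.factorization_le_iff_dvd Nat.card_pos.ne' Nat.card_pos.ne').mpr
        (Subgroup.card_dvd_of_le hTL) p
      rw [hTcard, Nat.Prime.factorization_pow Fact.out, Finsupp.single_eq_same] at h1
      exact h1
  obtain ⟨P, hP⟩ := Cfsg.Agent.S2750.exists_sylow_of_card L T hTL (by rw [hTcard, hfac])
  have h1 := Cfsg.Agent.Lib.Helper47_PClosed.pResidual_sup_sylow_eq_top P
  have h2 := congrArg (Subgroup.map L.subtype) h1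
  rw [Subgroup.map_sup, hP, ← MonoidHom.range_eq_map, Subgroup.range_subtype] at h2
  exact h2.ge

/-! ### A nilpotency argument -/

theorem le_of_le_sup_commutator_top {G : Type*} [Group G] [Group.IsNilpotent G]
    (U V : Subgroup G) [U.Normal] (h : V ≤ U ⊔ ⁅V, (⊤ : Subgroup G)⁆) : V ≤ U := by
  have hsurj : Function.Surjective (QuotientGroup.mk' U) := QuotientGroup.mk'_surjective U
  have h1 : V.map (QuotientGroup.mk' U) ≤
      ⁅V.map (QuotientGroup.mk' U), (⊤ : Subgroup (G ⧸ U))⁆ := by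
    have h2 := Subgroup.map_mono (f := QuotientGroup.mk' U) h
    rw [Subgroup.map_sup, QuotientGroup.map_mk'_self, bot_sup_eq, Subgroup.map_commutator,
      Subgroup.map_top_of_surjective _ hsurj] at h2
    exact h2
  have h3 : ∀ k : ℕ, V.map (QuotientGroup.mk' U) ≤
      (⊤ : Subgroup (G ⧸ U)).lowerCentralSeries k := by
    intro k
    induction k with
    | zero => rw [Subgroup.lowerCentralSeries_zero]; exact le_top
    | succ k ih =>
      rw [Subgroup.lowerCentralSeries_succ]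
      exact h1.trans (Subgroup.commutator_mono ih le_rfl)
  obtain ⟨n, hn⟩ := Subgroup.nilpotent_iff_lowerCentralSeries.mp
    (inferInstance : Group.IsNilpotent (G ⧸ U))
  have h4 : V.map (QuotientGroup.mk' U) = ⊥ := by
    rw [eq_bot_iff, ← hn]; exact h3 n
  rw [Subgroup.map_eq_bot_iff, QuotientGroup.ker_mk'] at h4
  exact h4

theorem le_of_le_sup_commutator {X : Type*} [Group X] (Q U V : Subgroup X)
    [Group.IsNilpotent Q] (hUQ : U ≤ Q) (hVQ : V ≤ Q)
    (hN : Q ≤ Subgroup.normalizer (U : Set X)) (h : V ≤ U ⊔ ⁅V, Q⁆) : V ≤ U := by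
  have hnorm : (U.subgroupOf Q).Normal := by
    constructor
    intro n hn g
    rw [Subgroup.mem_subgroupOf] at hn ⊢
    have := (Subgroup.mem_normalizer_iff.mp (hN g.2) (n : X)).mp hn
    simpa using this
  have key : V.subgroupOf Q ≤ U.subgroupOf Q ⊔ ⁅V.subgroupOf Q, (⊤ : Subgroup Q)⁆ := by
    rw [← Subgroup.map_subtype_le_map_subtype, Subgroup.map_sup, Subgroup.map_commutator,
      Subgroup.subgroupOf_map_subtype, Subgroup.subgroupOf_map_subtype,
      ← MonoidHom.range_eq_map, Subgroup.range_subtype, inf_of_le_left hVQ, inf_of_le_left hUQ]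
    exact h
  have h5 := le_of_le_sup_commutator_top (U.subgroupOf Q) (V.subgroupOf Q) key
  intro v hv
  have : (⟨v, hVQ hv⟩ : Q) ∈ U.subgroupOf Q := h5 (by rw [Subgroup.mem_subgroupOf]; exact hv)
  rw [Subgroup.mem_subgroupOf] at this
  exact this

/-! ### Normalizers from commutators -/

theorem le_normalizer_of_commutator_le {X : Type*} [Group X] {U V O W : Subgroup X}
    (hUV : U ≤ V) (hc : ⁅V, O⁆ ≤ W) (hWU : W ≤ U) : O ≤ Subgroup.normalizer (U : Set X) := by
  apply Cfsg.Agent.Lib.Helper47_PClosed.le_normalizer_of_forall_map_conj_le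
  rintro g hg _ ⟨u, hu, rfl⟩
  show g * u * g⁻¹ ∈ U
  have h1 : ⁅g, u⁆ ∈ ⁅V, O⁆ := by
    rw [Subgroup.commutator_comm]
    exact Subgroup.commutator_mem_commutator hg (hUV hu)
  have h2 : g * u * g⁻¹ = ⁅g, u⁆ * u := by
    rw [commutatorElement_def]; group
  rw [h2]
  exact U.mul_mem (hWU (hc h1)) hu

theorem le_normalizer_sup_of_commutator_le {X : Type*} [Group X] {U V O W : Subgroup X}
    (hUV : U ≤ V) (hc : ⁅V, O⁆ ≤ W) (hOW : O ≤ Subgroup.normalizer (W : Set X)) :
    O ≤ Subgroup.normalizer ((U ⊔ W : Subgroup X) : Set X) := by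
  apply Cfsg.Agent.Lib.Helper47_PClosed.le_normalizer_of_forall_map_conj_le
  intro g hg
  rw [Subgroup.map_sup]
  apply sup_le
  · rintro _ ⟨u, hu, rfl⟩
    show g * u * g⁻¹ ∈ U ⊔ W
    have h1 : ⁅g, u⁆ ∈ ⁅V, O⁆ := by
      rw [Subgroup.commutator_comm]
      exact Subgroup.commutator_mem_commutator hg (hUV hu)
    have h2 : g * u * g⁻¹ = ⁅g, u⁆ * u := by
      rw [commutatorElement_def]; group
    rw [h2]
    exact (U ⊔ W).mul_mem (Subgroup.mem_sup_right (hc h1)) (Subgroup.mem_sup_left hu)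
  · have hW : W.map (MulAut.conj g).toMonoidHom = W :=
      Subgroup.mem_normalizer_iff_map_conj_eq.mp (hOW hg)
    rw [hW]
    exact le_sup_right

/-! ### The edge Sylow subgroup -/

theorem exists_edge_sylow {X : Type*} [Group X] {p : ℕ} [Fact p.Prime] {M₁ M₂ : Subgroup X}
    (h : Cfsg.IsSpeAmalgamPair p M₁ M₂) {lam μ : Cfsg.CosetVertex M₁ M₂}
    (hadj : (Cfsg.cosetGraph M₁ M₂).Adj lam μ) :
    ∃ (S : Sylow p ↥(Cfsg.edgeStabilizer lam μ)) (T : Subgroup X),
      T = (S : Subgroup ↥(Cfsg.edgeStabilizer lam μ)).map (Cfsg.edgeStabilizer lam μ).subtype ∧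
      T ≤ MulAction.stabilizer X lam ⊓ MulAction.stabilizer X μ ∧
      Nat.card T = p ^ (Nat.card ↥(M₁ ⊓ M₂)).factorization p ∧
      Nat.card T = p ^ (Nat.card ↥(MulAction.stabilizer X lam)).factorization p ∧
      Nat.card T = p ^ (Nat.card ↥(MulAction.stabilizer X μ)).factorization p := by
  obtain ⟨a, g1, g2, g3⟩ := exists_goodSub h.1
  have hfinl := (stab_goodSub g1 g2 lam).1
  have hfacl := (stab_goodSub g1 g2 lam).2.1
  have hfacm := (stab_goodSub g1 g2 μ).2.1
  have hfinE : Finite ↥(Cfsg.edgeStabilizer lam μ) :=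
    Finite.of_injective _ (Subgroup.inclusion_injective inf_le_left)
  obtain ⟨S⟩ : Nonempty (Sylow p ↥(Cfsg.edgeStabilizer lam μ)) := inferInstance
  have hedge : (Nat.card ↥(Cfsg.edgeStabilizer lam μ)).factorization p = a :=
    edge_factorization g3 hadj
  have hTcard : Nat.card ↥((S : Subgroup ↥(Cfsg.edgeStabilizer lam μ)).map
      (Cfsg.edgeStabilizer lam μ).subtype) = p ^ a := by
    rw [Subgroup.card_subtype, S.card_eq_multiplicity, hedge]
  refine ⟨S, _, rfl, ?_, ?_, ?_, ?_⟩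
  · rintro _ ⟨s, _, rfl⟩
    exact s.2
  · rw [hTcard, g3]
  · rw [hTcard, hfacl]
  · rw [hTcard, hfacm]

theorem vertexQ_le_of_card {X : Type*} [Group X] {p : ℕ} [Fact p.Prime] {M₁ M₂ : Subgroup X}
    (lam : Cfsg.CosetVertex M₁ M₂) [Finite (MulAction.stabilizer X lam)] (T : Subgroup X)
    (hT : T ≤ MulAction.stabilizer X lam)
    (hTcard : Nat.card T = p ^ (Nat.card ↥(MulAction.stabilizer X lam)).factorization p) :
    Cfsg.vertexQ p lam ≤ T := by
  obtain ⟨P, hP⟩ := Cfsg.Agent.S2750.exists_sylow_of_card (MulAction.stabilizer X lam) T hT hTcard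
  rw [← hP]
  unfold Cfsg.vertexQ Cfsg.pCoreOf
  exact Subgroup.map_mono (Cfsg.Agent.Lib.Helper47_PLocal.pCore_le_sylow P)

/-- If `O^p(L_λ)` and the edge stabilizer normalize `Y`, then so does `L_λ`. -/
theorem pElementClosure_le_normalizer_of {X : Type*} [Group X] {p : ℕ} [Fact p.Prime]
    {M₁ M₂ : Subgroup X} (h : Cfsg.IsSpeAmalgamPair p M₁ M₂) {lam μ : Cfsg.CosetVertex M₁ M₂}
    (hadj : (Cfsg.cosetGraph M₁ M₂).Adj lam μ) (Y : Subgroup X)
    (hO : (Cfsg.pResidual p ↥(Cfsg.pElementClosure p (MulAction.stabilizer X lam))).map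
      (Cfsg.pElementClosure p (MulAction.stabilizer X lam)).subtype ≤
        Subgroup.normalizer (Y : Set X))
    (hE : MulAction.stabilizer X lam ⊓ MulAction.stabilizer X μ ≤ Subgroup.normalizer (Y : Set X)) :
    Cfsg.pElementClosure p (MulAction.stabilizer X lam) ≤ Subgroup.normalizer (Y : Set X) := by
  obtain ⟨S, T, hT, hT_le, hc0, hc1, hc2⟩ := exists_edge_sylow h hadj
  have := stab_finite h.1 lam
  exact (pElementClosure_le_pResidual_sup _ T (hT_le.trans inf_le_left) hc1).trans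
    (sup_le hO (hT_le.trans hE))

/-- If `O^p(L_λ)` and the edge stabilizer normalize `Y`, then so does `G_λ`. -/
theorem stab_le_normalizer_of {X : Type*} [Group X] {p : ℕ} [Fact p.Prime]
    {M₁ M₂ : Subgroup X} (h : Cfsg.IsSpeAmalgamPair p M₁ M₂) {lam μ : Cfsg.CosetVertex M₁ M₂}
    (hadj : (Cfsg.cosetGraph M₁ M₂).Adj lam μ) (Y : Subgroup X)
    (hO : (Cfsg.pResidual p ↥(Cfsg.pElementClosure p (MulAction.stabilizer X lam))).map
      (Cfsg.pElementClosure p (MulAction.stabilizer X lam)).subtype ≤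
        Subgroup.normalizer (Y : Set X))
    (hE : MulAction.stabilizer X lam ⊓ MulAction.stabilizer X μ ≤ Subgroup.normalizer (Y : Set X)) :
    MulAction.stabilizer X lam ≤ Subgroup.normalizer (Y : Set X) := by
  have hL := pElementClosure_le_normalizer_of h hadj Y hO hE
  obtain ⟨S, T, hT, hT_le, hc0, hc1, hc2⟩ := exists_edge_sylow h hadj
  intro g hg
  have hadj' : (Cfsg.cosetGraph M₁ M₂).Adj lam (g • μ) := by
    have := Cfsg.Agent.S2745.adj_smul M₁ M₂ g lam μ hadj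
    rwa [MulAction.mem_stabilizer_iff.mp hg] at this
  obtain ⟨l, hl, hlμ⟩ := Cfsg.Agent.S2750.pElementClosure_transitive h hadj T hT_le hc0 (g • μ) hadj'
  have hlG : l ∈ MulAction.stabilizer X lam := Cfsg.Agent.S2749.pElementClosure_le p _ hl
  have hmem : l⁻¹ * g ∈ MulAction.stabilizer X lam ⊓ MulAction.stabilizer X μ := by
    refine Subgroup.mem_inf.mpr ⟨Subgroup.mul_mem _ (Subgroup.inv_mem _ hlG) hg, ?_⟩
    rw [MulAction.mem_stabilizer_iff, mul_smul, ← hlμ, inv_smul_smul]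
  have : g = l * (l⁻¹ * g) := by group
  rw [this]
  exact Subgroup.mul_mem _ (hL hl) (hE hmem)

/-- The final contradiction: a subgroup between `Z_μ` and `Q_λ` cannot be normalized by
`O^p(L_λ)` and `G_μ`. -/
theorem no_common_normal {X : Type*} [Group X] {p : ℕ} [Fact p.Prime]
    {M₁ M₂ : Subgroup X} (h : Cfsg.IsSpeAmalgamPair p M₁ M₂) {lam μ : Cfsg.CosetVertex M₁ M₂}
    (hadj : (Cfsg.cosetGraph M₁ M₂).Adj lam μ) (U : Subgroup X)
    (hZU : Cfsg.vertexZ p μ ≤ U) (hUQ : U ≤ Cfsg.vertexQ p lam)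
    (hO : (Cfsg.pResidual p ↥(Cfsg.pElementClosure p (MulAction.stabilizer X lam))).map
      (Cfsg.pElementClosure p (MulAction.stabilizer X lam)).subtype ≤
        Subgroup.normalizer (U : Set X))
    (hμN : MulAction.stabilizer X μ ≤ Subgroup.normalizer (U : Set X)) : False := by
  obtain ⟨S, T, hT, hT_le, hc0, hc1, hc2⟩ := exists_edge_sylow h hadj
  have := stab_finite h.1 lam
  have hQT : Cfsg.vertexQ p lam ≤ T := vertexQ_le_of_card lam T (hT_le.trans inf_le_left) hc1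
  have hL1 := pElementClosure_le_normalizer_of h hadj U hO (inf_le_right.trans hμN)
  have hL2 : Cfsg.pElementClosure p (MulAction.stabilizer X μ) ≤ Subgroup.normalizer (U : Set X) :=
    (Cfsg.Agent.S2749.pElementClosure_le p _).trans hμN
  have hU := Cfsg.Agent.S2750.result M₁ M₂ h lam μ hadj S T hT U (hUQ.trans hQT) hL1 hL2
  rw [hU] at hZU
  exact vertexZ_ne_bot h.1 μ (le_bot_iff.mp hZU)

/-! ### Generation of `V_λ^{(n+1)}` from `V_μ^{(n)}` -/

theorem vertexZ_le_of_invariant {X : Type*} [Group X] {p : ℕ} [Fact p.Prime]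
    {M₁ M₂ : Subgroup X} (h : Cfsg.IsSpeAmalgamPair p M₁ M₂) {lam μ : Cfsg.CosetVertex M₁ M₂}
    (hadj : (Cfsg.cosetGraph M₁ M₂).Adj lam μ) (Y : Subgroup X)
    (hY : MulAction.stabilizer X lam ≤ Subgroup.normalizer (Y : Set X))
    (hU : Cfsg.vertexZ p μ ≤ Y) : Cfsg.vertexZ p lam ≤ Y := by
  obtain ⟨S, T, hT, hT_le, hc0, hc1, hc2⟩ := exists_edge_sylow h hadj
  have hfl := stab_finite h.1 lam
  have hfm := stab_finite h.1 μ
  obtain ⟨P, hP⟩ := Cfsg.Agent.S2750.exists_sylow_of_card (MulAction.stabilizer X lam) T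
    (hT_le.trans inf_le_left) hc1
  obtain ⟨P', hP'⟩ := Cfsg.Agent.S2750.exists_sylow_of_card (MulAction.stabilizer X μ) T
    (hT_le.trans inf_le_right) hc2
  have h1 : omegaZ p P ≤ Y := by
    rw [omegaZ_eq_of_map_eq p P' P (hP.trans hP'.symm)]
    exact (omegaZ_le_sylowCenterClosure p P').trans hU
  show Cfsg.sylowCenterClosure p (MulAction.stabilizer X lam) ≤ Y
  unfold Cfsg.sylowCenterClosure
  refine iSup_le fun S' => ?_
  show omegaZ p S' ≤ Y
  obtain ⟨g, rfl⟩ := MulAction.exists_smul_eq (MulAction.stabilizer X lam) P S'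
  have h2 : omegaZ p (g • P) ≤ (omegaZ p P).map (MulAut.conj (g : X)).toMonoidHom := by
    apply le_map_conj_of_map_conj_inv_le
    have h3 := omegaZ_conj_le p g⁻¹ (g • P)
    rw [inv_smul_smul] at h3
    exact h3
  refine h2.trans ?_
  have hYg : Y.map (MulAut.conj (g : X)).toMonoidHom = Y :=
    Subgroup.mem_normalizer_iff_map_conj_eq.mp (hY g.2)
  rw [← hYg]
  exact Subgroup.map_mono h1

theorem vertexVIter_succ_le_of_invariant {X : Type*} [Group X] {p : ℕ} [Fact p.Prime]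
    {M₁ M₂ : Subgroup X} (h : Cfsg.IsSpeAmalgamPair p M₁ M₂) {lam μ : Cfsg.CosetVertex M₁ M₂}
    (hadj : (Cfsg.cosetGraph M₁ M₂).Adj lam μ) (n : ℕ) (Y : Subgroup X)
    (hY : MulAction.stabilizer X lam ≤ Subgroup.normalizer (Y : Set X))
    (hU : Cfsg.vertexVIter p M₁ M₂ n μ ≤ Y) : Cfsg.vertexVIter p M₁ M₂ (n + 1) lam ≤ Y := by
  have hconn := connected h.1.1
  rw [vertexVIter_le_iff]
  intro ν hν
  rcases Nat.eq_zero_or_pos ((Cfsg.cosetGraph M₁ M₂).dist lam ν) with h0 | hpos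
  · rw [hconn.dist_eq_zero_iff] at h0
    subst h0
    apply vertexZ_le_of_invariant h hadj Y hY
    refine le_trans (vertexZ_le_vertexVIter ?_) hU
    rw [SimpleGraph.dist_self]; exact Nat.zero_le _
  · obtain ⟨k, hk⟩ := Nat.exists_eq_succ_of_ne_zero hpos.ne'
    obtain ⟨w, hw, hwd⟩ := exists_adj_dist_eq _ hconn hk
    obtain ⟨g, hg, hgw⟩ := Cfsg.Agent.S2744.result M₁ M₂ lam μ w hadj hw
    have hd : (Cfsg.cosetGraph M₁ M₂).dist μ (g⁻¹ • ν) ≤ n := by
      have := dist_smul hconn g μ (g⁻¹ • ν)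
      rw [smul_inv_smul, hgw, hwd] at this
      omega
    have h1 : Cfsg.vertexZ p (g⁻¹ • ν) ≤ Y := (vertexZ_le_vertexVIter hd).trans hU
    have h2 := vertexZ_smul h.1 g (g⁻¹ • ν)
    rw [smul_inv_smul] at h2
    have hYg : Y.map (MulAut.conj g).toMonoidHom = Y :=
      Subgroup.mem_normalizer_iff_map_conj_eq.mp (hY hg)
    rw [h2, ← hYg]
    exact Subgroup.map_mono h1

end Cfsg.Agent.Lib.Helper13_VIter
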