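import Mathlib

/-!
# Definitions for S2262 (maximal element order of `Aut (PSL_d(q))`), helper14

`fixF σ` is the fixed field of a field automorphism `σ`.
-/

set_option autoImplicit false

namespace Cfsg.Agent.Lib.Helper14_AutOrdDefs

variable {F : Type*} [Field F]

/-- the fixed field of a field automorphism -/
def fixF (σ : F ≃+* F) : Subfield F where
  carrier := {x | σ x = x}
  mul_mem' := by
    intro a b ha hb
    show σ (a * b) = a * b
    rw [map_mul, ha, hb]
  one_mem' := map_one σ
  add_mem' := by
    intro a b ha hb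
    show σ (a + b) = a + b
    rw [map_add, ha, hb]
  zero_mem' := map_zero σ
  neg_mem' := by
    intro a ha
    show σ (-a) = -a
    rw [map_neg, ha]
  inv_mem' := by
    intro a ha
    show σ a⁻¹ = a⁻¹
    rw [map_inv₀, ha]

theorem mem_fixF (σ : F ≃+* F) (x : F) : x ∈ fixF σ ↔ σ x = x := Iff.rfl

end Cfsg.Agent.Lib.Helper14_AutOrdDefs
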