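import Mathlib
import Cfsg.Prelude.Def_LieTypeDatum

set_option autoImplicit false

/-!
The action of `GL_n(F)` on `PSL_n(F)` by conjugation, the inverse-transpose automorphism, the kernel of the
conjugation action (scalars), and the description of `inndiagPSL` as the range of the conjugation
homomorphism (helper14).
-/

namespace Cfsg.Agent.Lib.Helper14_PSLAut

open Matrix

variable {n : ℕ} {F : Type*} [Field F]

local notation "SLn" => Matrix.SpecialLinearGroup (Fin n) F
local notation "PSLn" => Matrix.ProjectiveSpecialLinearGroup (Fin n) F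

/-- Conjugation by `g ∈ GL_n(F)` as an automorphism of `SL_n(F)`. -/
def slConj (g : GL (Fin n) F) : SLn ≃* SLn where
  toFun s := ⟨(g : Matrix (Fin n) (Fin n) F) * (s : Matrix (Fin n) (Fin n) F) *
      ((g⁻¹ : GL (Fin n) F) : Matrix (Fin n) (Fin n) F), by
    rw [Matrix.det_units_conj]; exact s.2⟩
  invFun s := ⟨((g⁻¹ : GL (Fin n) F) : Matrix (Fin n) (Fin n) F) * (s : Matrix (Fin n) (Fin n) F) *
      (g : Matrix (Fin n) (Fin n) F), by
    rw [Matrix.det_units_conj']; exact s.2⟩
  left_inv s := by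
    apply Subtype.ext
    simp only [Matrix.mul_assoc]
    rw [← Units.val_mul, inv_mul_cancel, Units.val_one, Matrix.mul_one, ← Matrix.mul_assoc,
      ← Units.val_mul, inv_mul_cancel, Units.val_one, Matrix.one_mul]
  right_inv s := by
    apply Subtype.ext
    simp only [Matrix.mul_assoc]
    rw [← Units.val_mul, mul_inv_cancel, Units.val_one, Matrix.mul_one, ← Matrix.mul_assoc,
      ← Units.val_mul, mul_inv_cancel, Units.val_one, Matrix.one_mul]
  map_mul' s t := by
    apply Subtype.ext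
    show (g : Matrix (Fin n) (Fin n) F) * ((s * t : SLn) : Matrix (Fin n) (Fin n) F) *
        ((g⁻¹ : GL (Fin n) F) : Matrix (Fin n) (Fin n) F)
      = ((g : Matrix (Fin n) (Fin n) F) * (s : Matrix (Fin n) (Fin n) F) *
        ((g⁻¹ : GL (Fin n) F) : Matrix (Fin n) (Fin n) F)) *
        ((g : Matrix (Fin n) (Fin n) F) * (t : Matrix (Fin n) (Fin n) F) *
        ((g⁻¹ : GL (Fin n) F) : Matrix (Fin n) (Fin n) F))
    have h : ((g⁻¹ : GL (Fin n) F) : Matrix (Fin n) (Fin n) F) * (g : Matrix (Fin n) (Fin n) F) = 1 := by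
      rw [← Units.val_mul, inv_mul_cancel, Units.val_one]
    calc (g : Matrix (Fin n) (Fin n) F) * ((s * t : SLn) : Matrix (Fin n) (Fin n) F) *
        ((g⁻¹ : GL (Fin n) F) : Matrix (Fin n) (Fin n) F)
        = (g : Matrix (Fin n) (Fin n) F) * (s : Matrix (Fin n) (Fin n) F) * 1 *
          (t : Matrix (Fin n) (Fin n) F) * ((g⁻¹ : GL (Fin n) F) : Matrix (Fin n) (Fin n) F) := by
          rw [Matrix.SpecialLinearGroup.coe_mul, Matrix.mul_one]; simp only [Matrix.mul_assoc]
      _ = _ := by rw [← h]; simp only [Matrix.mul_assoc]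

theorem slConj_coe (g : GL (Fin n) F) (s : SLn) :
    ((slConj g s : SLn) : Matrix (Fin n) (Fin n) F) = (g : Matrix (Fin n) (Fin n) F) *
      (s : Matrix (Fin n) (Fin n) F) * ((g⁻¹ : GL (Fin n) F) : Matrix (Fin n) (Fin n) F) := rfl

theorem slConj_one : slConj (1 : GL (Fin n) F) = MulEquiv.refl SLn := by
  ext s : 1
  apply Subtype.ext
  simp [slConj_coe]

theorem slConj_mul (g h : GL (Fin n) F) : slConj (g * h) = (slConj h).trans (slConj g) := by
  ext s : 1
  apply Subtype.ext
  simp [slConj_coe, Matrix.mul_assoc]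

/-- An automorphism of `SL_n` descends to `PSL_n`. -/
def descend (e : SLn ≃* SLn) : PSLn ≃* PSLn :=
  QuotientGroup.congr (Subgroup.center SLn) (Subgroup.center SLn) e
    (Subgroup.characteristic_iff_map_eq.mp inferInstance e)

theorem descend_mk (e : SLn ≃* SLn) (s : SLn) :
    descend e (QuotientGroup.mk s) = QuotientGroup.mk (e s) := rfl

theorem descend_refl : descend (MulEquiv.refl SLn) = MulEquiv.refl PSLn := by
  ext x : 1
  induction x using QuotientGroup.induction_on with
  | H s => rfl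

theorem descend_trans (e e' : SLn ≃* SLn) : descend (e.trans e') = (descend e).trans (descend e') := by
  ext x : 1
  induction x using QuotientGroup.induction_on with
  | H s => rfl

/-- The conjugation action of `GL_n(F)` on `PSL_n(F)`. -/
def conjAut : GL (Fin n) F →* MulAut PSLn where
  toFun g := descend (slConj g)
  map_one' := by rw [slConj_one, descend_refl]; rfl
  map_mul' g h := by rw [slConj_mul, descend_trans]; rfl

theorem conjAut_mk (g : GL (Fin n) F) (s : SLn) :
    conjAut g (QuotientGroup.mk s) = QuotientGroup.mk (slConj g s) := rfl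


/-- Transpose on `SL_n(F)`. -/
def slT (s : SLn) : SLn := ⟨(s : Matrix (Fin n) (Fin n) F)ᵀ, by rw [Matrix.det_transpose]; exact s.2⟩

theorem slT_coe (s : SLn) : ((slT s : SLn) : Matrix (Fin n) (Fin n) F) = (s : Matrix (Fin n) (Fin n) F)ᵀ := rfl

theorem slT_mul (s t : SLn) : slT (s * t) = slT t * slT s := by
  apply Subtype.ext
  simp [slT_coe, Matrix.transpose_mul]

theorem slT_one : slT (1 : SLn) = 1 := by
  apply Subtype.ext
  simp [slT_coe]

theorem slT_slT (s : SLn) : slT (slT s) = s := by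
  apply Subtype.ext
  simp [slT_coe]

theorem slT_inv (s : SLn) : slT s⁻¹ = (slT s)⁻¹ := by
  apply eq_inv_of_mul_eq_one_left
  rw [← slT_mul, mul_inv_cancel, slT_one]

/-- The inverse-transpose automorphism of `SL_n(F)`. -/
def slIT : SLn ≃* SLn where
  toFun s := slT s⁻¹
  invFun s := slT s⁻¹
  left_inv s := by
    show slT (slT s⁻¹)⁻¹ = s
    rw [slT_inv s, inv_inv, slT_slT]
  right_inv s := by
    show slT (slT s⁻¹)⁻¹ = s
    rw [slT_inv s, inv_inv, slT_slT]
  map_mul' s t := by
    show slT (s * t)⁻¹ = slT s⁻¹ * slT t⁻¹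
    rw [_root_.mul_inv_rev, slT_mul]

theorem slIT_coe (s : SLn) :
    ((slIT s : SLn) : Matrix (Fin n) (Fin n) F) = ((s⁻¹ : SLn) : Matrix (Fin n) (Fin n) F)ᵀ := rfl

/-- The inverse-transpose automorphism of `PSL_n(F)`. -/
def itAut : MulAut PSLn := descend slIT

theorem itAut_mk (s : SLn) : itAut (QuotientGroup.mk s) = QuotientGroup.mk (slIT s) := rfl

theorem isInverseTranspose_iff (β : PSLn ≃* PSLn) :
    Cfsg.IsInverseTransposeAutPSL β ↔ β = itAut := by
  constructor
  · intro h
    ext x : 1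
    induction x using QuotientGroup.induction_on with
    | H s => exact h s (slIT s) rfl
  · rintro rfl s s' hs'
    rw [itAut_mk]
    congr 1
    apply Subtype.ext
    rw [hs']; rfl

theorem isInnerDiagonal_iff (β : PSLn ≃* PSLn) :
    Cfsg.IsInnerDiagonalAutPSL β ↔ ∃ g : GL (Fin n) F, β = conjAut g := by
  constructor
  · rintro ⟨g, h⟩
    refine ⟨g, ?_⟩
    ext x : 1
    induction x using QuotientGroup.induction_on with
    | H s => exact h s (slConj g s) rfl
  · rintro ⟨g, rfl⟩
    refine ⟨g, fun s s' hs' => ?_⟩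
    rw [conjAut_mk]
    congr 1
    apply Subtype.ext
    rw [hs']; rfl

theorem inndiagPSL_eq : Cfsg.inndiagPSL n F = (conjAut (n := n) (F := F)).range := by
  unfold Cfsg.inndiagPSL Cfsg.autSubgroupOf
  have : {β : MulAut PSLn | Cfsg.IsInnerDiagonalAutPSL β} = ((conjAut (n := n) (F := F)).range : Set (MulAut PSLn)) := by
    ext β
    simp only [Set.mem_ofPred_eq, SetLike.mem_coe, MonoidHom.mem_range]
    rw [isInnerDiagonal_iff]
    constructor
    · rintro ⟨g, rfl⟩; exact ⟨g, rfl⟩
    · rintro ⟨g, rfl⟩; exact ⟨g, rfl⟩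
  rw [this, Subgroup.closure_eq]

/-- Transpose on `GL_n(F)`. -/
def glT (g : GL (Fin n) F) : GL (Fin n) F :=
  ⟨(g : Matrix (Fin n) (Fin n) F)ᵀ, ((g⁻¹ : GL (Fin n) F) : Matrix (Fin n) (Fin n) F)ᵀ, by
    rw [← Matrix.transpose_mul, ← Units.val_mul, inv_mul_cancel, Units.val_one, Matrix.transpose_one], by
    rw [← Matrix.transpose_mul, ← Units.val_mul, mul_inv_cancel, Units.val_one, Matrix.transpose_one]⟩

theorem glT_coe (g : GL (Fin n) F) : ((glT g : GL (Fin n) F) : Matrix (Fin n) (Fin n) F) = (g : Matrix (Fin n) (Fin n) F)ᵀ := rfl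

theorem glT_inv_coe (g : GL (Fin n) F) :
    (((glT g)⁻¹ : GL (Fin n) F) : Matrix (Fin n) (Fin n) F) = ((g⁻¹ : GL (Fin n) F) : Matrix (Fin n) (Fin n) F)ᵀ := rfl

/-- Conjugating `conjAut g` by the inverse-transpose automorphism gives `conjAut (gᵀ)⁻¹`. -/
theorem itAut_conj (g : GL (Fin n) F) :
    itAut * conjAut g * itAut⁻¹ = conjAut (glT g)⁻¹ := by
  rw [mul_inv_eq_iff_eq_mul]
  ext x : 1
  induction x using QuotientGroup.induction_on with
  | H s =>
    show itAut (conjAut g (QuotientGroup.mk s)) = conjAut (glT g)⁻¹ (itAut (QuotientGroup.mk s))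
    rw [conjAut_mk, itAut_mk, itAut_mk, conjAut_mk]
    congr 1
    apply Subtype.ext
    rw [slConj_coe, slIT_coe, slIT_coe, glT_inv_coe, inv_inv, glT_coe]
    have : ((slConj g s)⁻¹ : SLn) = slConj g s⁻¹ := (map_inv (slConj g) s).symm
    rw [this, slConj_coe, Matrix.transpose_mul, Matrix.transpose_mul, Matrix.mul_assoc]


theorem conjAut_eq_one_of_mem_scalars (g : GL (Fin n) F) (hg : g ∈ Cfsg.Geo.scalars (Fin n) F) :
    conjAut g = 1 := by
  rw [Cfsg.Geo.mem_scalars_iff] at hg
  obtain ⟨c, hc⟩ := hg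
  ext x : 1
  induction x using QuotientGroup.induction_on with
  | H s =>
    rw [conjAut_mk]
    show _ = QuotientGroup.mk s
    congr 1
    apply Subtype.ext
    rw [slConj_coe]
    have h1 : (g : Matrix (Fin n) (Fin n) F) * (s : Matrix (Fin n) (Fin n) F)
        = (s : Matrix (Fin n) (Fin n) F) * (g : Matrix (Fin n) (Fin n) F) := by
      rw [hc, Matrix.smul_mul, Matrix.mul_smul, Matrix.one_mul, Matrix.mul_one]
    rw [h1, Matrix.mul_assoc, ← Units.val_mul, mul_inv_cancel, Units.val_one, Matrix.mul_one]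

/-- An element of `GL_n` centralising `PSL_n` is scalar. -/
theorem mem_scalars_of_conjAut_eq_one (g : GL (Fin n) F) (h : conjAut g = 1) :
    g ∈ Cfsg.Geo.scalars (Fin n) F := by
  have hgi : ((g⁻¹ : GL (Fin n) F) : Matrix (Fin n) (Fin n) F) * (g : Matrix (Fin n) (Fin n) F) = 1 := by
    rw [← Units.val_mul, inv_mul_cancel, Units.val_one]
  have hgi' : (g : Matrix (Fin n) (Fin n) F) * ((g⁻¹ : GL (Fin n) F) : Matrix (Fin n) (Fin n) F) = 1 := by
    rw [← Units.val_mul, mul_inv_cancel, Units.val_one]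
  have key : ∀ s : SLn, ∃ r : F, (g : Matrix (Fin n) (Fin n) F) * (s : Matrix (Fin n) (Fin n) F) *
      ((g⁻¹ : GL (Fin n) F) : Matrix (Fin n) (Fin n) F) = r • (s : Matrix (Fin n) (Fin n) F) := by
    intro s
    have h1 : conjAut g (QuotientGroup.mk s) = QuotientGroup.mk s := by rw [h]; rfl
    rw [conjAut_mk] at h1
    have h2 := QuotientGroup.eq.mp h1.symm
    obtain ⟨r, -, hrs⟩ := Matrix.SpecialLinearGroup.mem_center_iff.mp h2
    refine ⟨r, ?_⟩
    have h3 : (s : Matrix (Fin n) (Fin n) F) * ((s⁻¹ * slConj g s : SLn) : Matrix (Fin n) (Fin n) F)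
        = ((slConj g s : SLn) : Matrix (Fin n) (Fin n) F) := by
      rw [← Matrix.SpecialLinearGroup.coe_mul, mul_inv_cancel_left]
    rw [← slConj_coe, ← h3, ← hrs]
    rw [Matrix.scalar_apply, ← Matrix.smul_one_eq_diagonal, Matrix.mul_smul, Matrix.mul_one]
  have hcomm : ∀ i j : Fin n, i ≠ j → Commute (Matrix.single i j (1 : F)) (g : Matrix (Fin n) (Fin n) F) := by
    intro i j hij
    set E : Matrix (Fin n) (Fin n) F := Matrix.single i j 1 with hE
    have hEE : E * E = 0 := Matrix.single_mul_single_of_ne (c := (1:F)) i j i hij.symm (1:F)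
    obtain ⟨r, hr⟩ := key ⟨Matrix.transvection i j 1, Matrix.det_transvection_of_ne i j hij 1⟩
    simp only [Matrix.transvection] at hr
    rw [← hE] at hr
    set N : Matrix (Fin n) (Fin n) F := (g : Matrix (Fin n) (Fin n) F) * E *
      ((g⁻¹ : GL (Fin n) F) : Matrix (Fin n) (Fin n) F) with hN
    have hNN : N * N = 0 := by
      rw [hN]
      calc (g : Matrix (Fin n) (Fin n) F) * E * ((g⁻¹ : GL (Fin n) F) : Matrix (Fin n) (Fin n) F) *
          ((g : Matrix (Fin n) (Fin n) F) * E * ((g⁻¹ : GL (Fin n) F) : Matrix (Fin n) (Fin n) F))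
          = (g : Matrix (Fin n) (Fin n) F) * E * (((g⁻¹ : GL (Fin n) F) : Matrix (Fin n) (Fin n) F) *
            (g : Matrix (Fin n) (Fin n) F)) * E * ((g⁻¹ : GL (Fin n) F) : Matrix (Fin n) (Fin n) F) := by
            simp only [Matrix.mul_assoc]
        _ = 0 := by rw [hgi, Matrix.mul_one, Matrix.mul_assoc (g : Matrix (Fin n) (Fin n) F), hEE,
            Matrix.mul_zero, Matrix.zero_mul]
    have hN' : N = (r - 1) • (1 : Matrix (Fin n) (Fin n) F) + r • E := by
      have : (1 : Matrix (Fin n) (Fin n) F) + N = r • (1 + E) := by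
        rw [← hr, Matrix.mul_add, Matrix.add_mul, Matrix.mul_one, hgi']
      have h4 : N = r • (1 + E) - 1 := by rw [← this]; abel
      rw [h4, smul_add, sub_smul, one_smul]; abel
    have hr1 : r = 1 := by
      have h5 := hNN
      rw [hN'] at h5
      have h6 : ((r - 1) • (1 : Matrix (Fin n) (Fin n) F) + r • E) * ((r - 1) • (1 : Matrix (Fin n) (Fin n) F) + r • E)
          = ((r - 1) * (r - 1)) • (1 : Matrix (Fin n) (Fin n) F) + (2 * r * (r - 1)) • E := by
        simp only [Matrix.add_mul, Matrix.mul_add, Matrix.smul_mul, Matrix.mul_smul, Matrix.one_mul,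
          Matrix.mul_one, hEE, smul_zero, add_zero, smul_smul, smul_add]
        rw [add_assoc, ← add_smul]
        congr 2
        ring
      rw [h6] at h5
      have h7 := congrFun (congrFun h5 i) i
      simp only [Matrix.add_apply, Matrix.smul_apply, Matrix.one_apply_eq, smul_eq_mul, mul_one,
        Matrix.zero_apply] at h7
      have hEii : E i i = 0 := by
        rw [hE]; apply Matrix.single_apply_of_ne; intro hh; exact hij hh.2.symm
      rw [hEii, mul_zero, add_zero] at h7
      have := mul_self_eq_zero.mp h7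
      linear_combination this
    rw [hr1, one_smul] at hr
    -- g (1 + E) g⁻¹ = 1 + E ⇒ g E = E g
    have h8 : (g : Matrix (Fin n) (Fin n) F) * (1 + E) = (1 + E) * (g : Matrix (Fin n) (Fin n) F) := by
      have := congrArg (fun M => M * (g : Matrix (Fin n) (Fin n) F)) hr
      simp only [Matrix.mul_assoc, hgi, Matrix.mul_one] at this
      exact this
    rw [Matrix.mul_add, Matrix.add_mul, Matrix.mul_one, Matrix.one_mul] at h8
    exact (add_left_cancel h8).symm
  have hsc := Matrix.mem_range_scalar_iff_commute_single.mpr hcomm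
  obtain ⟨c, hc⟩ := hsc
  rw [Cfsg.Geo.mem_scalars_iff]
  rcases Nat.eq_zero_or_pos n with hn | hn
  · subst hn
    exact ⟨1, Subsingleton.elim _ _⟩
  · have hc0 : c ≠ 0 := by
      rintro rfl
      rw [map_zero] at hc
      have : (1 : Matrix (Fin n) (Fin n) F) = 0 := by rw [← hgi', ← hc, Matrix.zero_mul]
      have h9 := congrFun (congrFun this ⟨0, hn⟩) ⟨0, hn⟩
      simp at h9
    refine ⟨Units.mk0 c hc0, ?_⟩
    rw [← hc, Matrix.scalar_apply, ← Matrix.smul_one_eq_diagonal]; rfl

theorem conjAut_eq_one_iff (g : GL (Fin n) F) : conjAut g = 1 ↔ g ∈ Cfsg.Geo.scalars (Fin n) F :=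
  ⟨mem_scalars_of_conjAut_eq_one g, conjAut_eq_one_of_mem_scalars g⟩

theorem conjAut_eq_iff (g h : GL (Fin n) F) :
    conjAut g = conjAut h ↔ h⁻¹ * g ∈ Cfsg.Geo.scalars (Fin n) F := by
  rw [← conjAut_eq_one_iff, map_mul, map_inv, inv_mul_eq_one, eq_comm]


/-- `conjAut g` commutes with the graph automorphism `conjAut a * itAut` iff `gᵀ a⁻¹ g a` is scalar, that is,
`g` is a similarity of the bilinear form with Gram matrix `a⁻¹`. -/
theorem mem_centralizer_graph_iff (a g : GL (Fin n) F) :
    conjAut g ∈ Subgroup.centralizer {conjAut a * itAut}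
      ↔ glT g * a⁻¹ * g * a ∈ Cfsg.Geo.scalars (Fin n) F := by
  rw [Subgroup.mem_centralizer_iff]
  simp only [Set.mem_singleton_iff, forall_eq]
  have h1 : itAut * conjAut g = conjAut (glT g)⁻¹ * itAut := by
    rw [← itAut_conj, inv_mul_cancel_right]
  rw [mul_assoc, h1, ← mul_assoc, ← mul_assoc, mul_left_inj, ← map_mul, ← map_mul, conjAut_eq_iff]
  have : (g * a)⁻¹ * (a * (glT g)⁻¹) = (glT g * a⁻¹ * g * a)⁻¹ := by group
  rw [this, inv_mem_iff]

theorem mem_centralizer_itAut_iff (g : GL (Fin n) F) :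
    conjAut g ∈ Subgroup.centralizer {itAut}
      ↔ glT g * g ∈ Cfsg.Geo.scalars (Fin n) F := by
  have := mem_centralizer_graph_iff (1 : GL (Fin n) F) g
  rw [map_one, one_mul, inv_one, mul_one, mul_one] at this
  exact this

end Cfsg.Agent.Lib.Helper14_PSLAut
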