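import Mathlib
import Cfsg.Agent.Lib.Helper14_PSLAut

set_option autoImplicit false

/-!
The centraliser in `Inndiag(PSL_n(F))` (the image of `PGL_n(F)`) of the graph automorphism
`conjAut a * itAut`: it is the similarity group of the bilinear form with Gram matrix `a⁻¹` modulo scalars.
Similarity groups of bilinear forms given by matrices, and transport of projective similarity groups
(helper14).
-/

namespace Cfsg.Agent.Lib.Helper14_PSLCent

open Matrix Cfsg.Agent.Lib.Helper14_PSLAut

variable {F : Type*} [Field F]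

section bil

variable {ι : Type} [Fintype ι] [DecidableEq ι]

/-- The bilinear form with Gram matrix `M`, as a function. -/
def bilOf (M : Matrix ι ι F) (u v : ι → F) : F := u ⬝ᵥ (M *ᵥ v)

theorem bilOf_mulVec (M g : Matrix ι ι F) (u v : ι → F) :
    bilOf M (g *ᵥ u) (g *ᵥ v) = bilOf (gᵀ * M * g) u v := by
  unfold bilOf
  rw [← Matrix.mulVec_mulVec, ← Matrix.mulVec_mulVec, Matrix.dotProduct_mulVec u gᵀ,
    Matrix.vecMul_transpose]

theorem bilOf_single (M : Matrix ι ι F) (i j : ι) :
    bilOf M (Pi.single i 1) (Pi.single j 1) = M i j := by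
  unfold bilOf
  rw [Matrix.mulVec_single_one, single_one_dotProduct]
  rfl

theorem bilOf_ext {M N : Matrix ι ι F} (h : ∀ u v, bilOf M u v = bilOf N u v) : M = N := by
  ext i j
  rw [← bilOf_single M, ← bilOf_single N, h]

theorem bilOf_smul (c : F) (M : Matrix ι ι F) (u v : ι → F) : bilOf (c • M) u v = c * bilOf M u v := by
  unfold bilOf
  rw [Matrix.smul_mulVec, dotProduct_smul, smul_eq_mul]

theorem mem_similarityGroup_bilOf (M : Matrix ι ι F) (g : GL ι F) :
    g ∈ Cfsg.Geo.similarityGroup (bilOf M) ↔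
      ∃ c : Fˣ, (g : Matrix ι ι F)ᵀ * M * (g : Matrix ι ι F) = (c : F) • M := by
  constructor
  · rintro ⟨c, hc⟩
    refine ⟨c, bilOf_ext fun u v => ?_⟩
    rw [← bilOf_mulVec, hc, bilOf_smul]
  · rintro ⟨c, hc⟩
    refine ⟨c, fun u v => ?_⟩
    rw [bilOf_mulVec, hc, bilOf_smul]

end bil

variable {n : ℕ}

theorem mem_centralizer_iff_sim (a g : GL (Fin n) F) :
    conjAut g ∈ Subgroup.centralizer {conjAut a * itAut}
      ↔ g ∈ Cfsg.Geo.similarityGroup (bilOf ((a⁻¹ : GL (Fin n) F) : Matrix (Fin n) (Fin n) F)) := by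
  rw [mem_centralizer_graph_iff, mem_similarityGroup_bilOf, Cfsg.Geo.mem_scalars_iff]
  have hai : ((a⁻¹ : GL (Fin n) F) : Matrix (Fin n) (Fin n) F) * (a : Matrix (Fin n) (Fin n) F) = 1 := by
    rw [← Units.val_mul, inv_mul_cancel, Units.val_one]
  have hai' : (a : Matrix (Fin n) (Fin n) F) * ((a⁻¹ : GL (Fin n) F) : Matrix (Fin n) (Fin n) F) = 1 := by
    rw [← Units.val_mul, mul_inv_cancel, Units.val_one]
  constructor
  · rintro ⟨c, hc⟩
    refine ⟨c, ?_⟩
    simp only [Units.val_mul, glT_coe] at hc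
    have := congrArg (fun X => X * ((a⁻¹ : GL (Fin n) F) : Matrix (Fin n) (Fin n) F)) hc
    simp only [Matrix.mul_assoc, hai', Matrix.mul_one, Matrix.smul_mul, Matrix.one_mul] at this
    rw [Matrix.mul_assoc]; exact this
  · rintro ⟨c, hc⟩
    refine ⟨c, ?_⟩
    simp only [Units.val_mul, glT_coe]
    rw [hc, Matrix.smul_mul, hai]

/-- The centraliser of a graph automorphism in `Inndiag(PSL_n)` is the image of a similarity group. -/
theorem centralizer_eq_map (a : GL (Fin n) F) :
    Cfsg.inndiagPSL n F ⊓ Subgroup.centralizer {conjAut a * itAut}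
      = (Cfsg.Geo.similarityGroup (bilOf ((a⁻¹ : GL (Fin n) F) : Matrix (Fin n) (Fin n) F))).map
          (conjAut (n := n) (F := F)) := by
  ext β
  rw [Subgroup.mem_inf, inndiagPSL_eq, Subgroup.mem_map]
  constructor
  · rintro ⟨⟨g, rfl⟩, h2⟩
    exact ⟨g, (mem_centralizer_iff_sim a g).mp h2, rfl⟩
  · rintro ⟨g, hg, rfl⟩
    exact ⟨⟨g, rfl⟩, (mem_centralizer_iff_sim a g).mpr hg⟩

/-- A subgroup `H` of `GL_n` modulo its scalars is isomorphic to its image under `conjAut`. -/
noncomputable def projQuotEquivMap (H : Subgroup (GL (Fin n) F)) :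
    Cfsg.projQuot H ≃* ↥(H.map (conjAut (n := n) (F := F))) := by
  let φ : ↥H →* MulAut (Matrix.ProjectiveSpecialLinearGroup (Fin n) F) := (conjAut).comp H.subtype
  have hker : (Cfsg.Geo.scalars (Fin n) F).subgroupOf H = φ.ker := by
    ext x
    rw [Subgroup.mem_subgroupOf, MonoidHom.mem_ker]
    exact (conjAut_eq_one_iff (x : GL (Fin n) F)).symm
  have hrange : φ.range = H.map (conjAut (n := n) (F := F)) := by
    rw [MonoidHom.range_comp, Subgroup.range_subtype]
  exact ((QuotientGroup.quotientMulEquivOfEq hker).trans (QuotientGroup.quotientKerEquivRange φ)).trans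
    (MulEquiv.subgroupCongr hrange)

/-- The centraliser of the graph automorphism `conjAut a * itAut` in `Inndiag(PSL_n)` is the projective
similarity group of the bilinear form with Gram matrix `a⁻¹`. -/
noncomputable def centEquiv (a : GL (Fin n) F) :
    ↥(Cfsg.inndiagPSL n F ⊓ Subgroup.centralizer {conjAut a * itAut}) ≃*
      Cfsg.projQuot (Cfsg.Geo.similarityGroup
        (bilOf ((a⁻¹ : GL (Fin n) F) : Matrix (Fin n) (Fin n) F))) :=
  (MulEquiv.subgroupCongr (centralizer_eq_map a)).trans (projQuotEquivMap _).symm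

end Cfsg.Agent.Lib.Helper14_PSLCent
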