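import Mathlib
import Cfsg.Agent.Lib.Helper14_PSLCent

set_option autoImplicit false
set_option linter.unusedSectionVars false

/-!
Graph automorphisms `conjAut a * itAut` of `PSL_n(F)`: products, conjugation under `Inndiag`, the order-two
condition (`a` symmetric or skew-symmetric), and the fact that they are never trivial for `n ≥ 3`
(helper14).
-/

namespace Cfsg.Agent.Lib.Helper14_PSLGraph

open Matrix Cfsg.Agent.Lib.Helper14_PSLAut

variable {n : ℕ} {F : Type*} [Field F]

local notation "SLn" => Matrix.SpecialLinearGroup (Fin n) F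
local notation "PSLn" => Matrix.ProjectiveSpecialLinearGroup (Fin n) F
local notation "Mn" => Matrix (Fin n) (Fin n) F

/-- The graph automorphism `conjAut a * itAut`. -/
def graphAut (a : GL (Fin n) F) : MulAut PSLn := conjAut a * itAut

theorem slIT_slIT (s : SLn) : slIT (slIT s) = s := slIT.left_inv s

theorem itAut_mul_self : (itAut : MulAut PSLn) * itAut = 1 := by
  ext x : 1
  induction x using QuotientGroup.induction_on with
  | H s =>
    show itAut (itAut (QuotientGroup.mk s)) = QuotientGroup.mk s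
    rw [itAut_mk, itAut_mk, slIT_slIT]

theorem itAut_inv : (itAut : MulAut PSLn)⁻¹ = itAut :=
  inv_eq_of_mul_eq_one_left itAut_mul_self

theorem isGraph_iff (hn : 3 ≤ n) (β : MulAut PSLn) :
    Cfsg.IsGraphAutClassPSL β ↔ ∃ a : GL (Fin n) F, β = graphAut a := by
  unfold Cfsg.IsGraphAutClassPSL
  constructor
  · rintro ⟨-, δ, γ, hδ, hγ, rfl⟩
    obtain ⟨a, rfl⟩ := (isInnerDiagonal_iff δ).mp hδ
    rw [(isInverseTranspose_iff γ).mp hγ]
    exact ⟨a, rfl⟩
  · rintro ⟨a, rfl⟩
    exact ⟨hn, conjAut a, itAut, (isInnerDiagonal_iff _).mpr ⟨a, rfl⟩,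
      (isInverseTranspose_iff _).mpr rfl, rfl⟩

theorem itAut_mul_conjAut (g : GL (Fin n) F) : itAut * conjAut g = conjAut (glT g)⁻¹ * itAut := by
  rw [← itAut_conj, inv_mul_cancel_right]

theorem glT_mul (g h : GL (Fin n) F) : glT (g * h) = glT h * glT g := by
  apply Units.ext
  simp [glT_coe, Matrix.transpose_mul]

theorem glT_one : glT (1 : GL (Fin n) F) = 1 := by
  apply Units.ext
  simp [glT_coe]

theorem glT_inv (g : GL (Fin n) F) : glT g⁻¹ = (glT g)⁻¹ := by
  apply eq_inv_of_mul_eq_one_left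
  rw [← glT_mul, mul_inv_cancel, glT_one]

theorem glT_glT (g : GL (Fin n) F) : glT (glT g) = g := by
  apply Units.ext
  simp [glT_coe]

theorem graphAut_mul_graphAut (a b : GL (Fin n) F) :
    graphAut a * graphAut b = conjAut (a * (glT b)⁻¹) := by
  unfold graphAut
  rw [mul_assoc, ← mul_assoc itAut, itAut_mul_conjAut, mul_assoc, itAut_mul_self, mul_one, ← map_mul]

theorem conj_graphAut (h a : GL (Fin n) F) :
    conjAut h * graphAut a * (conjAut h)⁻¹ = graphAut (h * a * glT h) := by
  unfold graphAut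
  rw [← map_inv, mul_assoc, mul_assoc, itAut_mul_conjAut, glT_inv, inv_inv, ← mul_assoc, ← mul_assoc,
    ← map_mul, ← map_mul]

theorem graphAut_eq_iff (a b : GL (Fin n) F) :
    graphAut a = graphAut b ↔ b⁻¹ * a ∈ Cfsg.Geo.scalars (Fin n) F := by
  unfold graphAut
  rw [mul_left_inj, conjAut_eq_iff]

theorem exists_smul_of_mk_eq (s t : SLn)
    (h : (QuotientGroup.mk s : PSLn) = QuotientGroup.mk t) : ∃ r : F, (t : Mn) = r • (s : Mn) := by
  have h2 := QuotientGroup.eq.mp h
  obtain ⟨r, -, hrs⟩ := Matrix.SpecialLinearGroup.mem_center_iff.mp h2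
  refine ⟨r, ?_⟩
  have h3 : (s : Mn) * ((s⁻¹ * t : SLn) : Mn) = (t : Mn) := by
    rw [← Matrix.SpecialLinearGroup.coe_mul, mul_inv_cancel_left]
  rw [← h3, ← hrs, Matrix.scalar_apply, ← Matrix.smul_one_eq_diagonal, Matrix.mul_smul, Matrix.mul_one]

theorem scalar_add_sq_zero {c : F} {X : Mn} (hXX : X * X = 0) (i : Fin n) (hXi : X i i = 0)
    (h : (c • (1 : Mn) + X) * (c • (1 : Mn) + X) = 0) : c = 0 := by
  have h6 : (c • (1 : Mn) + X) * (c • (1 : Mn) + X) = (c * c) • (1 : Mn) + (2 * c) • X := by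
    rw [Matrix.add_mul, Matrix.mul_add, Matrix.mul_add, hXX, Matrix.smul_mul, Matrix.smul_mul,
      Matrix.mul_smul, Matrix.mul_smul, Matrix.one_mul, Matrix.one_mul, Matrix.mul_one, smul_smul]
    module
  rw [h6] at h
  have h7 := congrFun (congrFun h i) i
  simp only [Matrix.add_apply, Matrix.smul_apply, Matrix.one_apply_eq, smul_eq_mul, mul_one,
    Matrix.zero_apply, hXi, mul_zero, add_zero] at h7
  exact mul_self_eq_zero.mp h7

/-- For `n ≥ 3` the inverse-transpose automorphism is not inner-diagonal: no graph automorphism is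
trivial. -/
theorem graphAut_ne_one (hn : 3 ≤ n) (a : GL (Fin n) F) : graphAut a ≠ 1 := by
  intro h
  have hit : (itAut : MulAut PSLn) = conjAut a⁻¹ := by
    unfold graphAut at h
    rw [map_inv]
    exact (inv_eq_of_mul_eq_one_right h).symm ▸ rfl
  set c : GL (Fin n) F := a⁻¹ with hc
  have hci : ((c⁻¹ : GL (Fin n) F) : Mn) * (c : Mn) = 1 := by
    rw [← Units.val_mul, inv_mul_cancel, Units.val_one]
  have hci' : (c : Mn) * ((c⁻¹ : GL (Fin n) F) : Mn) = 1 := by
    rw [← Units.val_mul, mul_inv_cancel, Units.val_one]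
  -- key relation: c * E_ij = - E_ji * c
  have key : ∀ i j : Fin n, i ≠ j →
      (c : Mn) * Matrix.single i j (1 : F) = -(Matrix.single j i (1 : F) * (c : Mn)) := by
    intro i j hij
    set E : Mn := Matrix.single i j 1 with hE
    set E' : Mn := Matrix.single j i 1 with hE'
    have hEE : E * E = 0 := Matrix.single_mul_single_of_ne (c := (1:F)) i j i hij.symm (1:F)
    have hEE' : E' * E' = 0 := Matrix.single_mul_single_of_ne (c := (1:F)) j i j hij (1:F)
    set s : SLn := ⟨Matrix.transvection i j 1, Matrix.det_transvection_of_ne i j hij 1⟩ with hs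
    have hsinv : s⁻¹ = ⟨Matrix.transvection i j (-1), Matrix.det_transvection_of_ne i j hij (-1)⟩ := by
      apply inv_eq_of_mul_eq_one_right
      apply Subtype.ext
      show Matrix.transvection i j 1 * Matrix.transvection i j (-1) = 1
      rw [Matrix.transvection_mul_transvection_same i j hij]
      simp
    have h1 : (itAut : MulAut PSLn) (QuotientGroup.mk s) = conjAut c (QuotientGroup.mk s) := by rw [hit]
    rw [itAut_mk, conjAut_mk] at h1
    obtain ⟨r, hr⟩ := exists_smul_of_mk_eq _ _ h1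
    have hE'neg : Matrix.single j i (-1 : F) = -E' := by
      rw [hE', ← Matrix.single_neg]
    have e1 : (((slConj c) s : SLn) : Mn) = (c : Mn) * (1 + E) * ((c⁻¹ : GL (Fin n) F) : Mn) := rfl
    have e2 : ((slIT s : SLn) : Mn) = 1 + Matrix.single j i (-1 : F) := by
      rw [slIT_coe, hsinv]
      show (Matrix.transvection i j (-1 : F))ᵀ = _
      rw [Matrix.transvection, Matrix.transpose_add, Matrix.transpose_one, Matrix.transpose_single]
    rw [e1, e2] at hr
    set N : Mn := (c : Mn) * E * ((c⁻¹ : GL (Fin n) F) : Mn) with hN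
    have hNN : N * N = 0 := by
      rw [hN]
      calc (c : Mn) * E * ((c⁻¹ : GL (Fin n) F) : Mn) * ((c : Mn) * E * ((c⁻¹ : GL (Fin n) F) : Mn))
          = (c : Mn) * E * (((c⁻¹ : GL (Fin n) F) : Mn) * (c : Mn)) * E * ((c⁻¹ : GL (Fin n) F) : Mn) := by
            simp only [Matrix.mul_assoc]
        _ = 0 := by rw [hci, Matrix.mul_one, Matrix.mul_assoc (c : Mn), hEE, Matrix.mul_zero,
            Matrix.zero_mul]
    have hN' : N = (r - 1) • (1 : Mn) + (-r) • E' := by
      have : (1 : Mn) + N = r • (1 + Matrix.single j i (-1 : F)) := by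
        rw [← hr, Matrix.mul_add, Matrix.add_mul, Matrix.mul_one, hci']
      have h4 : N = r • (1 + Matrix.single j i (-1 : F)) - 1 := by rw [← this]; abel
      rw [h4, hE'neg, smul_add, sub_smul, one_smul, smul_neg, neg_smul]; abel
    have hr1 : r - 1 = 0 := by
      apply scalar_add_sq_zero (X := (-r) • E') _ j _ (by rw [← hN']; exact hNN)
      · rw [Matrix.smul_mul, Matrix.mul_smul, hEE', smul_zero, smul_zero]
      · rw [Matrix.smul_apply, hE', Matrix.single_apply_of_ne]
        · simp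
        · intro hh; exact hij hh.2
    have hr1' : r = 1 := by linear_combination hr1
    rw [hr1', one_smul, hE'neg] at hr
    -- c (1 + E) c⁻¹ = 1 - E'
    have h8 : (c : Mn) * (1 + E) = (1 + -E') * (c : Mn) := by
      have := congrArg (fun M => M * (c : Mn)) hr
      simp only [Matrix.mul_assoc, hci, Matrix.mul_one] at this
      exact this
    rw [Matrix.mul_add, Matrix.add_mul, Matrix.mul_one, Matrix.one_mul, Matrix.neg_mul] at h8
    exact add_left_cancel h8
  -- column i of c vanishes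
  have hcol : ∀ k i : Fin n, (c : Mn) k i = 0 := by
    intro k i
    -- pick j ∉ {i, k}
    obtain ⟨j, hji, hjk⟩ : ∃ j : Fin n, j ≠ i ∧ j ≠ k := by
      by_contra hcon
      push Not at hcon
      have hsub : (Finset.univ : Finset (Fin n)) ⊆ {i, k} := by
        intro j _
        by_cases hji : j = i
        · simp [hji]
        · simp [hcon j hji]
      have := Finset.card_le_card hsub
      rw [Finset.card_univ, Fintype.card_fin] at this
      have h2 : ({i, k} : Finset (Fin n)).card ≤ 2 := Finset.card_le_two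
      omega
    have h := congrFun (congrFun (key i j hji.symm) k) j
    rw [Matrix.mul_apply, Matrix.neg_apply, Matrix.mul_apply] at h
    simp only [Matrix.single_apply, mul_ite, mul_one, mul_zero, ite_mul, one_mul, zero_mul] at h
    rw [Finset.sum_eq_single i, Finset.sum_eq_zero] at h
    · simpa using h
    · intro l _
      rw [if_neg]
      intro hh; exact hjk.symm hh.1.symm
    · intro l _ hl
      rw [if_neg]
      intro hh; exact hl hh.1.symm
    · intro hh; exact absurd (Finset.mem_univ i) hh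
  have : (1 : Mn) = 0 := by
    rw [← hci']
    ext k l
    rw [Matrix.mul_apply]
    simp [hcol]
  have h9 := congrFun (congrFun this ⟨0, by omega⟩) ⟨0, by omega⟩
  simp at h9


/-- The graph automorphism whose centraliser is the similarity group of the form with Gram matrix `M`. -/
def gam (M : GL (Fin n) F) : MulAut PSLn := graphAut M⁻¹

theorem isGraph_iff_gam (hn : 3 ≤ n) (β : MulAut PSLn) :
    Cfsg.IsGraphAutClassPSL β ↔ ∃ M : GL (Fin n) F, β = gam M := by
  rw [isGraph_iff hn]
  constructor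
  · rintro ⟨a, rfl⟩; exact ⟨a⁻¹, by unfold gam; rw [inv_inv]⟩
  · rintro ⟨M, rfl⟩; exact ⟨M⁻¹, rfl⟩

theorem gam_sq (M : GL (Fin n) F) : gam M ^ 2 = conjAut (M⁻¹ * glT M) := by
  unfold gam
  rw [pow_two, graphAut_mul_graphAut, glT_inv, inv_inv]

theorem orderOf_gam_iff (hn : 3 ≤ n) (M : GL (Fin n) F) :
    orderOf (gam M) = 2 ↔ ((M : Mn)ᵀ = (M : Mn) ∨ (M : Mn)ᵀ = -(M : Mn)) := by
  have hMi : ((M⁻¹ : GL (Fin n) F) : Mn) * (M : Mn) = 1 := by
    rw [← Units.val_mul, inv_mul_cancel, Units.val_one]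
  have hMi' : (M : Mn) * ((M⁻¹ : GL (Fin n) F) : Mn) = 1 := by
    rw [← Units.val_mul, mul_inv_cancel, Units.val_one]
  rw [orderOf_eq_prime_iff, gam_sq, conjAut_eq_one_iff, Cfsg.Geo.mem_scalars_iff]
  constructor
  · rintro ⟨⟨c, hc⟩, -⟩
    rw [Units.val_mul, glT_coe] at hc
    have h1 : (M : Mn)ᵀ = (c : F) • (M : Mn) := by
      have := congrArg (fun X => (M : Mn) * X) hc
      simp only [← Matrix.mul_assoc, hMi', Matrix.one_mul, Matrix.mul_smul, Matrix.mul_one] at this
      exact this
    have h2 : (M : Mn) = ((c : F) * (c : F)) • (M : Mn) := by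
      have := congrArg Matrix.transpose h1
      rw [Matrix.transpose_transpose, Matrix.transpose_smul, h1, smul_smul] at this
      exact this
    have h3 : ((c : F) * (c : F) - 1) • (1 : Mn) = 0 := by
      have h4 : ((c : F) * (c : F) - 1) • (M : Mn) = 0 := by
        rw [sub_smul, one_smul, ← h2, sub_self]
      have := congrArg (fun X => X * ((M⁻¹ : GL (Fin n) F) : Mn)) h4
      simp only [Matrix.smul_mul, hMi', Matrix.zero_mul] at this
      exact this
    have h5 := congrFun (congrFun h3 ⟨0, by omega⟩) ⟨0, by omega⟩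
    simp only [Matrix.smul_apply, Matrix.one_apply_eq, smul_eq_mul, mul_one, Matrix.zero_apply] at h5
    have h6 : ((c : F) - 1) * ((c : F) + 1) = 0 := by linear_combination h5
    rcases mul_eq_zero.mp h6 with h | h
    · left; rw [h1, show (c : F) = 1 by linear_combination h, one_smul]
    · right; rw [h1, show (c : F) = -1 by linear_combination h, neg_smul, one_smul]
  · intro h
    refine ⟨?_, graphAut_ne_one hn _⟩
    rcases h with h | h
    · refine ⟨1, ?_⟩
      rw [Units.val_mul, glT_coe, h, hMi, Units.val_one, one_smul]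
    · refine ⟨-1, ?_⟩
      rw [Units.val_mul, glT_coe, h, Matrix.mul_neg, hMi, Units.val_neg, Units.val_one, neg_smul, one_smul]

theorem isConjUnder_gam_iff (M M' : GL (Fin n) F) :
    Cfsg.IsConjUnder (Cfsg.inndiagPSL n F) (gam M) (gam M') ↔
      ∃ (k : GL (Fin n) F) (c : Fˣ), (k : Mn)ᵀ * (M : Mn) * (k : Mn) = (c : F) • (M' : Mn) := by
  have hMi' : (M' : Mn) * ((M'⁻¹ : GL (Fin n) F) : Mn) = 1 := by
    rw [← Units.val_mul, mul_inv_cancel, Units.val_one]
  have hMi : ((M'⁻¹ : GL (Fin n) F) : Mn) * (M' : Mn) = 1 := by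
    rw [← Units.val_mul, inv_mul_cancel, Units.val_one]
  have hrew : ∀ g : GL (Fin n) F, (g * M⁻¹ * glT g)⁻¹ * M'⁻¹ = glT g⁻¹ * M * g⁻¹ * M'⁻¹ := by
    intro g; rw [glT_inv]; group
  unfold Cfsg.IsConjUnder
  constructor
  · rintro ⟨h, hh, heq⟩
    rw [inndiagPSL_eq] at hh
    obtain ⟨g, rfl⟩ := hh
    unfold gam at heq
    rw [conj_graphAut, graphAut_eq_iff, hrew, Cfsg.Geo.mem_scalars_iff] at heq
    obtain ⟨c, hc⟩ := heq
    refine ⟨g⁻¹, c, ?_⟩
    simp only [Units.val_mul, glT_coe] at hc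
    have := congrArg (fun X => X * (M' : Mn)) hc
    simp only [Matrix.mul_assoc, hMi, Matrix.mul_one, Matrix.smul_mul, Matrix.one_mul] at this
    rw [Matrix.mul_assoc]; exact this
  · rintro ⟨k, c, hk⟩
    refine ⟨conjAut k⁻¹, by rw [inndiagPSL_eq]; exact ⟨_, rfl⟩, ?_⟩
    unfold gam
    rw [conj_graphAut, graphAut_eq_iff, hrew, inv_inv, Cfsg.Geo.mem_scalars_iff]
    refine ⟨c, ?_⟩
    simp only [Units.val_mul, glT_coe]
    rw [hk, Matrix.smul_mul, hMi']

theorem nonempty_centEquiv (M : GL (Fin n) F) :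
    Nonempty (↥(Cfsg.inndiagPSL n F ⊓ Subgroup.centralizer {gam M}) ≃*
      Cfsg.projQuot (Cfsg.Geo.similarityGroup (Cfsg.Agent.Lib.Helper14_PSLCent.bilOf (M : Mn)))) := by
  have e := Cfsg.Agent.Lib.Helper14_PSLCent.centEquiv (M⁻¹ : GL (Fin n) F)
  rw [inv_inv] at e
  exact ⟨e⟩

end Cfsg.Agent.Lib.Helper14_PSLGraph
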