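import Mathlib
import Cfsg.Agent.Lib.Helper42_SL2Class2

set_option autoImplicit false

/-!
`SL₂(F) = A B A` for a finite field `F` of characteristic two, `A` the non-split torus
(centralizer of a companion matrix without eigenvalues) and `B` the upper unitriangular group.
-/

namespace Cfsg.Agent.Lib.Helper42_ABA

open Matrix Cfsg.Agent.Lib.Helper42_SL2Class

section unitriangular

variable {F : Type*} [Field F]

/-- the upper unitriangular matrices -/
def uHom : Multiplicative F →* SpecialLinearGroup (Fin 2) F where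
  toFun x := ⟨!![1, Multiplicative.toAdd x; 0, 1], by simp [Matrix.det_fin_two_of]⟩
  map_one' := by
    apply Subtype.ext
    change !![1, Multiplicative.toAdd (1 : Multiplicative F); 0, 1] = (1 : Matrix (Fin 2) (Fin 2) F)
    ext i j
    fin_cases i <;> fin_cases j <;> simp
  map_mul' x y := by
    apply Subtype.ext
    change !![1, Multiplicative.toAdd (x * y); 0, 1] =
      !![1, Multiplicative.toAdd x; 0, 1] * !![1, Multiplicative.toAdd y; 0, 1]
    ext i j
    fin_cases i <;> fin_cases j <;> simp [Matrix.mul_apply, Fin.sum_univ_two, add_comm]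

theorem uHom_coe (x : Multiplicative F) :
    (uHom x).1 = !![1, Multiplicative.toAdd x; 0, 1] := rfl

theorem uHom_injective : Function.Injective (uHom (F := F)) := by
  intro x y h
  have h1 : (uHom x).1 0 1 = (uHom y).1 0 1 := by rw [h]
  rw [uHom_coe, uHom_coe] at h1
  simpa using h1

/-- an element of `SL₂` fixing the first basis vector is upper unitriangular -/
theorem eq_uHom_of_fix (m : SpecialLinearGroup (Fin 2) F) (h00 : m.1 0 0 = 1) (h10 : m.1 1 0 = 0) :
    m = uHom (Multiplicative.ofAdd (m.1 0 1)) := by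
  have hdet := m.2
  rw [Matrix.det_fin_two, h00, h10] at hdet
  have h11 : m.1 1 1 = 1 := by linear_combination hdet
  apply Subtype.ext
  rw [uHom_coe]
  ext i j
  fin_cases i <;> fin_cases j <;> simp [h00, h10, h11]

theorem uHom_mul_self (h2 : (2 : F) = 0) (x : Multiplicative F) : uHom x * uHom x = 1 := by
  rw [← map_mul]
  have : x * x = 1 := by
    apply Multiplicative.toAdd.injective
    rw [toAdd_mul, toAdd_one]
    linear_combination (Multiplicative.toAdd x) * h2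
  rw [this, map_one]

end unitriangular

section torus

variable {F : Type*} [Field F]

/-- the norm form of `F[C]`, `C` the companion matrix of trace `τ` -/
def Q (τ x y : F) : F := x * x + τ * x * y + y * y

/-- the element `x + y C` of norm one -/
def cV (τ x y : F) (h : Q τ x y = 1) : SpecialLinearGroup (Fin 2) F :=
  ⟨!![x, -y; y, x + τ * y], by rw [Matrix.det_fin_two_of]; unfold Q at h; linear_combination h⟩

theorem cV_coe (τ x y : F) (h : Q τ x y = 1) : (cV τ x y h).1 = !![x, -y; y, x + τ * y] := rfl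

theorem cV_mem (τ x y : F) (h : Q τ x y = 1) :
    cV τ x y h ∈ Subgroup.centralizer ({compS τ} : Set (SpecialLinearGroup (Fin 2) F)) := by
  rw [Subgroup.mem_centralizer_iff]
  intro c hc
  rw [Set.mem_singleton_iff] at hc
  subst hc
  apply Subtype.ext
  change (!![0, -1; 1, τ] : Matrix (Fin 2) (Fin 2) F) * !![x, -y; y, x + τ * y] =
    !![x, -y; y, x + τ * y] * !![0, -1; 1, τ]
  ext i j
  fin_cases i <;> fin_cases j <;> simp [Matrix.mul_apply, Fin.sum_univ_two] <;> ring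

theorem Q_eq_zero (τ : F) (hτ : ∀ r : F, r * (τ - r) - 1 ≠ 0) (x y : F) (h : Q τ x y = 0) :
    x = 0 ∧ y = 0 := by
  unfold Q at h
  by_cases hy : y = 0
  · subst hy
    refine ⟨?_, rfl⟩
    have : x * x = 0 := by linear_combination h
    rcases mul_eq_zero.mp this with h | h <;> exact h
  · exfalso
    apply hτ (-x / y)
    field_simp
    linear_combination (-1 : F) * h

/-- the key point: in characteristic two every `g ∈ SL₂` maps some norm one vector to a
norm one vector -/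
theorem exists_norm_one (h2 : (2 : F) = 0) (hsq : ∀ a : F, IsSquare a) (τ : F)
    (hτ : ∀ r : F, r * (τ - r) - 1 ≠ 0) (g : SpecialLinearGroup (Fin 2) F) :
    ∃ x y : F, Q τ x y = 1 ∧ Q τ (g.1 0 0 * x + g.1 0 1 * y) (g.1 1 0 * x + g.1 1 1 * y) = 1 := by
  have hdet := g.2
  rw [Matrix.det_fin_two] at hdet
  obtain ⟨α, hα⟩ := hsq (Q τ (g.1 0 0) (g.1 1 0) + 1)
  obtain ⟨γ, hγ⟩ := hsq (Q τ (g.1 0 1) (g.1 1 1) + 1)
  -- a nonzero vector with `α x + γ y = 0`
  obtain ⟨x₀, y₀, hne, hlin⟩ : ∃ x₀ y₀ : F, ¬ (x₀ = 0 ∧ y₀ = 0) ∧ α * x₀ + γ * y₀ = 0 := by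
    by_cases hα0 : α = 0
    · by_cases hγ0 : γ = 0
      · exact ⟨1, 0, fun h => one_ne_zero h.1, by rw [hα0, hγ0]; ring⟩
      · exact ⟨1, 0, fun h => one_ne_zero h.1, by rw [hα0]; ring⟩
    · exact ⟨γ, α, fun h => hα0 h.2, by linear_combination (α * γ) * h2⟩
  have hQ : Q τ (g.1 0 0 * x₀ + g.1 0 1 * y₀) (g.1 1 0 * x₀ + g.1 1 1 * y₀) = Q τ x₀ y₀ := by
    unfold Q at hα hγ ⊢
    linear_combination (exp := 1) (α * x₀ + γ * y₀) * hlin + x₀ ^ 2 * hα + y₀ ^ 2 * hγ +
      (τ * x₀ * y₀) * hdet +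
      (x₀ * y₀ * (g.1 0 0 * g.1 0 1 + g.1 1 0 * g.1 1 1 + τ * g.1 0 1 * g.1 1 0) - x₀ ^ 2 - y₀ ^ 2
        - α * γ * x₀ * y₀) * h2
  have hn : Q τ x₀ y₀ ≠ 0 := fun h => hne (Q_eq_zero τ hτ x₀ y₀ h)
  obtain ⟨l, hl⟩ := hsq (Q τ x₀ y₀)⁻¹
  have hl' : l * l * Q τ x₀ y₀ = 1 := by rw [← hl]; exact inv_mul_cancel₀ hn
  refine ⟨l * x₀, l * y₀, ?_, ?_⟩
  · unfold Q at hl' ⊢
    linear_combination hl'
  · rw [← hQ] at hl'
    unfold Q at hl' ⊢
    linear_combination hl'

/-- `SL₂ = A B A` -/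
theorem aba (h2 : (2 : F) = 0) (hsq : ∀ a : F, IsSquare a) (τ : F)
    (hτ : ∀ r : F, r * (τ - r) - 1 ≠ 0) (g : SpecialLinearGroup (Fin 2) F) :
    ∃ a₁ ∈ Subgroup.centralizer ({compS τ} : Set (SpecialLinearGroup (Fin 2) F)),
    ∃ x : Multiplicative F,
    ∃ a₂ ∈ Subgroup.centralizer ({compS τ} : Set (SpecialLinearGroup (Fin 2) F)),
      g = a₁ * uHom x * a₂ := by
  obtain ⟨x, y, h1, h2'⟩ := exists_norm_one h2 hsq τ hτ g
  obtain ⟨a₂, ha₂⟩ : ∃ a₂ : SpecialLinearGroup (Fin 2) F, a₂ = cV τ x y h1 := ⟨_, rfl⟩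
  obtain ⟨a₁, ha₁⟩ : ∃ a₁ : SpecialLinearGroup (Fin 2) F, a₁ = cV τ _ _ h2' := ⟨_, rfl⟩
  have e1 : a₂.1 *ᵥ ![1, 0] = ![x, y] := by
    rw [ha₂, cV_coe]
    ext i
    fin_cases i <;> simp [Matrix.mulVec, dotProduct, Fin.sum_univ_two]
  have e2 : g.1 *ᵥ ![x, y] = ![g.1 0 0 * x + g.1 0 1 * y, g.1 1 0 * x + g.1 1 1 * y] := by
    ext i
    fin_cases i <;> simp [Matrix.mulVec, dotProduct, Fin.sum_univ_two]
  have e3 : a₁.1 *ᵥ ![1, 0] = ![g.1 0 0 * x + g.1 0 1 * y, g.1 1 0 * x + g.1 1 1 * y] := by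
    rw [ha₁, cV_coe]
    ext i
    fin_cases i <;> simp [Matrix.mulVec, dotProduct, Fin.sum_univ_two]
  have hinv : (a₁⁻¹).1 * a₁.1 = 1 := congrArg Subtype.val (inv_mul_cancel a₁)
  have hm : (a₁⁻¹ * g * a₂).1 *ᵥ ![1, 0] = ![1, 0] := by
    change ((a₁⁻¹).1 * g.1 * a₂.1) *ᵥ ![1, 0] = ![1, 0]
    rw [← Matrix.mulVec_mulVec, ← Matrix.mulVec_mulVec, e1, e2, ← e3, Matrix.mulVec_mulVec, hinv,
      Matrix.one_mulVec]
  have h00 : (a₁⁻¹ * g * a₂).1 0 0 = 1 := by
    have := congrFun hm 0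
    simpa [Matrix.mulVec, dotProduct, Fin.sum_univ_two] using this
  have h10 : (a₁⁻¹ * g * a₂).1 1 0 = 0 := by
    have := congrFun hm 1
    simpa [Matrix.mulVec, dotProduct, Fin.sum_univ_two] using this
  have hu := eq_uHom_of_fix _ h00 h10
  have hm₁ : a₁ ∈ Subgroup.centralizer ({compS τ} : Set (SpecialLinearGroup (Fin 2) F)) := by
    rw [ha₁]; exact cV_mem τ _ _ h2'
  have hm₂ : a₂⁻¹ ∈ Subgroup.centralizer ({compS τ} : Set (SpecialLinearGroup (Fin 2) F)) := by
    rw [ha₂]; exact inv_mem (cV_mem τ x y h1)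
  refine ⟨a₁, hm₁, Multiplicative.ofAdd ((a₁⁻¹ * g * a₂).1 0 1), a₂⁻¹, hm₂, ?_⟩
  rw [← hu]
  group

end torus

section finite

variable {F : Type*} [Field F] [Fintype F]

theorem card_torus (h2 : (2 : F) = 0) (τ : F) (hτ : ∀ r : F, r * (τ - r) - 1 ≠ 0) :
    Nat.card (Subgroup.centralizer ({compS τ} : Set (SpecialLinearGroup (Fin 2) F))) =
      Fintype.card F + 1 := by
  classical
  have hR : R τ = 0 := R_eq_zero τ hτ
  have h0 : τ ≠ 0 := by
    rintro rfl
    exact hτ 1 (by linear_combination (-1 : F) * h2)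
  have h4 : (Matrix.trace (compS τ).1) ^ 2 ≠ 4 := by
    rw [trace_compS]
    intro h
    apply h0
    have : τ ^ 2 = 0 := by rw [h]; linear_combination (2 : F) * h2
    exact pow_eq_zero_iff (two_ne_zero) |>.mp this
  have hc := class_mul_card (compS τ)
  rw [ncard_class_of_trace _ h4, trace_compS, hR, Nat.mul_zero, Nat.add_zero] at hc
  have hq : 2 ≤ Fintype.card F := Fintype.one_lt_card
  obtain ⟨k, hk⟩ : ∃ k, Fintype.card F = k + 1 := ⟨Fintype.card F - 1, by omega⟩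
  rw [hk] at hc ⊢
  have hk0 : 0 < k := by omega
  have e : (k + 1) ^ 2 - 1 = k * (k + 2) := by
    have : (k + 1) ^ 2 = k * (k + 2) + 1 := by ring
    rw [this, Nat.add_sub_cancel]
  rw [e, Nat.add_sub_cancel, mul_assoc] at hc
  have hc' := Nat.eq_of_mul_eq_mul_left (by omega : 0 < k + 1) hc
  exact Nat.eq_of_mul_eq_mul_left hk0 hc'

theorem isCyclic_torus (h2 : (2 : F) = 0) (τ : F) (hτ : ∀ r : F, r * (τ - r) - 1 ≠ 0) :
    IsCyclic (Subgroup.centralizer ({compS τ} : Set (SpecialLinearGroup (Fin 2) F))) := by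
  have : Fact (∀ r : F, r ^ 2 ≠ -1 + τ * r) :=
    ⟨fun r h => hτ r (by linear_combination (-1 : F) * h)⟩
  obtain ⟨z, hz, hord⟩ := Cfsg.Agent.Lib.Helper41_SL2.exists_norm_one_orderOf (F := F)
    (a := -1) (b := τ)
  obtain ⟨t, ht⟩ : ∃ t : SpecialLinearGroup (Fin 2) F,
      t = Cfsg.Agent.Lib.Helper41_SL2.torusElt (-1) τ z hz := ⟨_, rfl⟩
  have hto : orderOf t = orderOf z := by
    rw [orderOf_eq_orderOf_iff]
    intro n
    have hpow := Cfsg.Agent.Lib.Helper41_SL2.torusElt_pow (-1) τ z hz n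
    rw [← ht] at hpow
    constructor
    · intro h
      rw [h] at hpow
      apply Cfsg.Agent.Lib.Helper41_SL2.toMat_injective (-1) τ
      rw [← hpow, map_one]
      rfl
    · intro h
      apply Subtype.ext
      rw [hpow, h, map_one]
      rfl
  have hmem : t ∈ Subgroup.centralizer ({compS τ} : Set (SpecialLinearGroup (Fin 2) F)) := by
    have hQ : Q τ z.re z.im = 1 := by
      rw [QuadraticAlgebra.norm_def] at hz
      unfold Q
      linear_combination hz
    have : t = cV τ z.re z.im hQ := by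
      apply Subtype.ext
      rw [ht, cV_coe]
      change Cfsg.Agent.Lib.Helper41_SL2.toMat (-1) τ z = _
      rw [Cfsg.Agent.Lib.Helper41_SL2.toMat_apply]
      simp
    rw [this]
    exact cV_mem τ _ _ hQ
  have hle : Subgroup.zpowers t ≤
      Subgroup.centralizer ({compS τ} : Set (SpecialLinearGroup (Fin 2) F)) :=
    Subgroup.zpowers_le.mpr hmem
  have heq := Subgroup.eq_of_le_of_card_ge hle (by
    rw [Nat.card_zpowers, hto, hord, card_torus h2 τ hτ])
  rw [← heq]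
  infer_instance

end finite

end Cfsg.Agent.Lib.Helper42_ABA
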