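import Mathlib
import Cfsg.Agent.Lib.Helper42_SL2Class
import Cfsg.Agent.Lib.Helper42_ABA
import Cfsg.Agent.Lib.Helper5_SLGen
import Cfsg.Agent.Lib.Helper5_PSLCard

set_option autoImplicit false

/-!
Automorphisms of `PSL₂(F)`, `F` a finite field: every automorphism is
(inner) ∘ (diagonal) ∘ (field automorphism).
-/

namespace Cfsg.Agent.Lib.Helper42_AutPSL2

open Matrix Cfsg.Agent.Lib.Helper42_SL2Class Cfsg.Agent.Lib.Helper42_ABA

section elements

variable {F : Type*} [Field F]

/-- upper unitriangular element -/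
def uE (x : F) : SpecialLinearGroup (Fin 2) F := uHom (Multiplicative.ofAdd x)

theorem uE_coe (x : F) : (uE x).1 = !![1, x; 0, 1] := rfl

/-- lower unitriangular element -/
def lE (x : F) : SpecialLinearGroup (Fin 2) F :=
  ⟨!![1, 0; x, 1], by simp [Matrix.det_fin_two_of]⟩

theorem lE_coe (x : F) : (lE x).1 = !![1, 0; x, 1] := rfl

/-- diagonal element -/
def tE (a : Fˣ) : SpecialLinearGroup (Fin 2) F :=
  ⟨!![(a : F), 0; 0, ((a⁻¹ : Fˣ) : F)], by simp [Matrix.det_fin_two_of]⟩

theorem tE_coe (a : Fˣ) : (tE a).1 = !![(a : F), 0; 0, ((a⁻¹ : Fˣ) : F)] := rfl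

/-- the Weyl element -/
def wE : SpecialLinearGroup (Fin 2) F :=
  ⟨!![0, 1; -1, 0], by simp [Matrix.det_fin_two_of]⟩

theorem wE_coe : (wE : SpecialLinearGroup (Fin 2) F).1 = !![0, 1; -1, 0] := rfl

theorem sl_ext (A B : SpecialLinearGroup (Fin 2) F) (h00 : A.1 0 0 = B.1 0 0)
    (h01 : A.1 0 1 = B.1 0 1) (h10 : A.1 1 0 = B.1 1 0) (h11 : A.1 1 1 = B.1 1 1) : A = B := by
  apply Subtype.ext
  ext i j
  fin_cases i <;> fin_cases j <;> assumption

theorem mul_coe_apply (A B : SpecialLinearGroup (Fin 2) F) (i j : Fin 2) :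
    (A * B).1 i j = A.1 i 0 * B.1 0 j + A.1 i 1 * B.1 1 j := by
  change (A.1 * B.1) i j = _
  rw [Matrix.mul_apply, Fin.sum_univ_two]

theorem uE_add (x y : F) : uE (x + y) = uE x * uE y := by
  unfold uE
  rw [← map_mul]
  rfl

theorem uE_zero : uE (0 : F) = 1 := by
  unfold uE
  exact map_one _

theorem uE_neg (x : F) : uE (-x) = (uE x)⁻¹ := by
  rw [eq_inv_iff_mul_eq_one, ← uE_add, neg_add_cancel, uE_zero]

theorem lE_add (x y : F) : lE (x + y) = lE x * lE y := by
  apply sl_ext <;> simp [mul_coe_apply, lE_coe, add_comm]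

theorem lE_zero : lE (0 : F) = 1 := by
  apply sl_ext <;> simp [lE_coe]

theorem lE_neg (x : F) : lE (-x) = (lE x)⁻¹ := by
  rw [eq_inv_iff_mul_eq_one, ← lE_add, neg_add_cancel, lE_zero]

/-- lower unitriangular as a hom -/
def lHom : Multiplicative F →* SpecialLinearGroup (Fin 2) F where
  toFun x := lE (Multiplicative.toAdd x)
  map_one' := lE_zero
  map_mul' _ _ := lE_add _ _

theorem tE_mul_uE (a : Fˣ) (x : F) : tE a * uE x = uE ((a : F) ^ 2 * x) * tE a := by
  apply sl_ext <;> simp [mul_coe_apply, tE_coe, uE_coe]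
  field_simp

theorem tE_mul_lE (a : Fˣ) (x : F) : tE a * lE x = lE (((a⁻¹ : Fˣ) : F) ^ 2 * x) * tE a := by
  apply sl_ext <;> simp [mul_coe_apply, tE_coe, lE_coe]
  field_simp

theorem wE_eq : (wE : SpecialLinearGroup (Fin 2) F) = uE 1 * lE (-1) * uE 1 := by
  apply sl_ext <;> simp [mul_coe_apply, wE_coe, lE_coe, uE_coe]

theorem wE_mul_lE (x : F) : wE * lE x = uE (-x) * wE := by
  apply sl_ext <;> simp [mul_coe_apply, wE_coe, lE_coe, uE_coe]

theorem wE_mul_uE (x : F) : wE * uE x = lE (-x) * wE := by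
  apply sl_ext <;> simp [mul_coe_apply, wE_coe, lE_coe, uE_coe]

end elements


section projections

variable {F : Type*} [Field F]

/-- sign form of `proj_eq_iff` -/
theorem exists_sign (A B : SpecialLinearGroup (Fin 2) F) (h : proj A = proj B) :
    ∃ ε : F, ε ^ 2 = 1 ∧ ∀ i j, B.1 i j = ε * A.1 i j := by
  rcases (proj_eq_iff A B).mp h with h1 | h1
  · exact ⟨1, by ring, fun i j => by rw [h1, one_mul]⟩
  · refine ⟨-1, by ring, fun i j => ?_⟩
    rw [h1, negS_coe, Matrix.neg_apply]; ring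

theorem ub_injective (x y : F) (h : proj (uE x) = proj (uE y)) : x = y := by
  obtain ⟨ε, -, hε⟩ := exists_sign _ _ h
  have h00 := hε 0 0
  have h01 := hε 0 1
  simp only [uE_coe, Matrix.of_apply, Matrix.cons_val_zero, Matrix.cons_val_one,
    Matrix.cons_val', Matrix.cons_val_fin_one] at h00 h01
  have h1 : ε = 1 := by linear_combination -h00
  rw [h1, one_mul] at h01
  exact h01.symm

theorem lb_injective (x y : F) (h : proj (lE x) = proj (lE y)) : x = y := by
  obtain ⟨ε, -, hε⟩ := exists_sign _ _ h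
  have h00 := hε 0 0
  have h10 := hε 1 0
  simp only [lE_coe, Matrix.of_apply, Matrix.cons_val_zero, Matrix.cons_val_one,
    Matrix.cons_val', Matrix.cons_val_fin_one] at h00 h10
  have h1 : ε = 1 := by linear_combination -h00
  rw [h1, one_mul] at h10
  exact h10.symm

theorem upper_of_conj (g : SpecialLinearGroup (Fin 2) F) (z y : F) (hz : z ≠ 0)
    (h : proj g * proj (uE z) * (proj g)⁻¹ = proj (uE y)) : g.1 1 0 = 0 := by
  rw [mul_inv_eq_iff_eq_mul, ← map_mul, ← map_mul] at h
  obtain ⟨ε, -, hε⟩ := exists_sign _ _ h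
  have h10 := hε 1 0
  have h11 := hε 1 1
  simp only [mul_coe_apply, uE_coe, Matrix.of_apply, Matrix.cons_val_zero, Matrix.cons_val_one,
    Matrix.cons_val', Matrix.cons_val_fin_one] at h10 h11
  by_contra hc
  have h1 : ε = 1 := by
    have : (ε - 1) * g.1 1 0 = 0 := by linear_combination -h10
    rcases mul_eq_zero.mp this with h2 | h2
    · linear_combination h2
    · exact absurd h2 hc
  rw [h1] at h11
  have : g.1 1 0 * z = 0 := by linear_combination -h11
  rcases mul_eq_zero.mp this with h2 | h2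
  · exact hc h2
  · exact hz h2

theorem lower_of_conj (g : SpecialLinearGroup (Fin 2) F) (z y : F) (hz : z ≠ 0)
    (h : proj g * proj (lE z) * (proj g)⁻¹ = proj (lE y)) : g.1 0 1 = 0 := by
  rw [mul_inv_eq_iff_eq_mul, ← map_mul, ← map_mul] at h
  obtain ⟨ε, -, hε⟩ := exists_sign _ _ h
  have h01 := hε 0 1
  have h00 := hε 0 0
  simp only [mul_coe_apply, lE_coe, Matrix.of_apply, Matrix.cons_val_zero, Matrix.cons_val_one,
    Matrix.cons_val', Matrix.cons_val_fin_one] at h01 h00
  by_contra hc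
  have h1 : ε = 1 := by
    have : (ε - 1) * g.1 0 1 = 0 := by linear_combination -h01
    rcases mul_eq_zero.mp this with h2 | h2
    · linear_combination h2
    · exact absurd h2 hc
  rw [h1] at h00
  have : g.1 0 1 * z = 0 := by linear_combination -h00
  rcases mul_eq_zero.mp this with h2 | h2
  · exact hc h2
  · exact hz h2

theorem eq_tE_of_diag (g : SpecialLinearGroup (Fin 2) F) (h10 : g.1 1 0 = 0) (h01 : g.1 0 1 = 0) :
    ∃ a : Fˣ, g = tE a := by
  have hdet := g.2
  rw [Matrix.det_fin_two, h10, h01] at hdet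
  have h1 : g.1 0 0 * g.1 1 1 = 1 := by linear_combination hdet
  refine ⟨⟨g.1 0 0, g.1 1 1, h1, by rw [mul_comm]; exact h1⟩, ?_⟩
  apply sl_ext
  · simp [tE_coe]
  · simp [tE_coe, h01]
  · simp [tE_coe, h10]
  · simp [tE_coe]

theorem conj_tE_uE (a : Fˣ) (x : F) :
    proj (tE a) * proj (uE x) * (proj (tE a))⁻¹ = proj (uE ((a : F) ^ 2 * x)) := by
  rw [mul_inv_eq_iff_eq_mul, ← map_mul, ← map_mul, tE_mul_uE]

theorem conj_tE_lE (a : Fˣ) (x : F) :
    proj (tE a) * proj (lE x) * (proj (tE a))⁻¹ = proj (lE (((a⁻¹ : Fˣ) : F) ^ 2 * x)) := by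
  rw [mul_inv_eq_iff_eq_mul, ← map_mul, ← map_mul, tE_mul_lE]

theorem conj_wE_lE (x : F) :
    proj wE * proj (lE x) * (proj wE)⁻¹ = proj (uE (-x)) := by
  rw [mul_inv_eq_iff_eq_mul, ← map_mul, ← map_mul, wE_mul_lE]

theorem conj_wE_uE (x : F) :
    proj wE * proj (uE x) * (proj wE)⁻¹ = proj (lE (-x)) := by
  rw [mul_inv_eq_iff_eq_mul, ← map_mul, ← map_mul, wE_mul_uE]

/-- the constraint coming from the Weyl element -/
theorem weyl_constraint (a1 b1 : F) (hb : b1 ≠ 0)
    (h : proj (uE a1 * lE (-b1) * uE a1) * proj (lE b1) * (proj (uE a1 * lE (-b1) * uE a1))⁻¹ =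
      proj (uE (-a1))) : a1 * b1 = 1 := by
  rw [mul_inv_eq_iff_eq_mul, ← map_mul, ← map_mul] at h
  obtain ⟨ε, -, hε⟩ := exists_sign _ _ h
  have h10 := hε 1 0
  have h11 := hε 1 1
  simp only [mul_coe_apply, uE_coe, lE_coe, Matrix.of_apply, Matrix.cons_val_zero,
    Matrix.cons_val_one, Matrix.cons_val', Matrix.cons_val_fin_one] at h10 h11
  by_contra hc
  have hk : 1 - a1 * b1 ≠ 0 := fun h0 => hc (by linear_combination -h0)
  have h1 : ε = 1 := by
    have : (ε - 1) * (1 - a1 * b1) = 0 := by linear_combination -h11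
    rcases mul_eq_zero.mp this with h2 | h2
    · linear_combination h2
    · exact absurd h2 hk
  rw [h1] at h10
  have : (1 - a1 * b1) * b1 = 0 := by linear_combination -h10
  rcases mul_eq_zero.mp this with h2 | h2
  · exact hk h2
  · exact hb h2

end projections


section normalform

variable {F : Type*} [Field F] [Finite F]

theorem exists_sq_sub_sq (s : F) : ∃ e1 e2 : F, s = e1 ^ 2 - e2 ^ 2 := by
  by_cases h2 : (2 : F) = 0
  · have : CharP F 2 := CharTwo.of_one_ne_zero_of_two_eq_zero one_ne_zero h2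
    obtain ⟨e, he⟩ := isSquare_of_charTwo' s
    exact ⟨e, 0, by rw [he]; ring⟩
  · exact ⟨(s + 1) / 2, (s - 1) / 2, by field_simp; ring⟩

/-- an automorphism of `PSL₂(F)` preserving the upper and lower unitriangular subgroups acts on
them through a scalar and a field automorphism -/
theorem normal_form (α : MulAut (ProjectiveSpecialLinearGroup (Fin 2) F))
    (hU : ∀ x, ∃ y, α (proj (uE x)) = proj (uE y))
    (hL : ∀ x, ∃ y, α (proj (lE x)) = proj (lE y)) :
    ∃ (c : Fˣ) (σ : F ≃+* F), (∀ x, α (proj (uE x)) = proj (uE ((c : F) * σ x))) ∧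
      (∀ x, α (proj (lE x)) = proj (lE (((c⁻¹ : Fˣ) : F) * σ x))) := by
  choose a ha using hU
  choose b hb using hL
  have a_add : ∀ x y, a (x + y) = a x + a y := by
    intro x y
    apply ub_injective
    rw [← ha, uE_add, map_mul, map_mul, uE_add, map_mul, ha, ha]
  have b_add : ∀ x y, b (x + y) = b x + b y := by
    intro x y
    apply lb_injective
    rw [← hb, lE_add, map_mul, map_mul, lE_add, map_mul, hb, hb]
  have a_inj : Function.Injective a := by
    intro x y hxy
    apply ub_injective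
    apply α.injective
    rw [ha, ha, hxy]
  have b_inj : Function.Injective b := by
    intro x y hxy
    apply lb_injective
    apply α.injective
    rw [hb, hb, hxy]
  have a_zero : a 0 = 0 := by
    have := a_add 0 0
    rw [add_zero] at this
    linear_combination -this
  have b_zero : b 0 = 0 := by
    have := b_add 0 0
    rw [add_zero] at this
    linear_combination -this
  have a_sub : ∀ x y, a (x - y) = a x - a y := by
    intro x y
    have := a_add (x - y) y
    rw [sub_add_cancel] at this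
    linear_combination -this
  have b_sub : ∀ x y, b (x - y) = b x - b y := by
    intro x y
    have := b_add (x - y) y
    rw [sub_add_cancel] at this
    linear_combination -this
  have a_neg : ∀ x, a (-x) = -a x := by
    intro x
    have := a_sub 0 x
    rw [zero_sub, a_zero, zero_sub] at this
    exact this
  have b_neg : ∀ x, b (-x) = -b x := by
    intro x
    have := b_sub 0 x
    rw [zero_sub, b_zero, zero_sub] at this
    exact this
  have a1 : a 1 ≠ 0 := fun h => one_ne_zero (a_inj (h.trans a_zero.symm))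
  have b1 : b 1 ≠ 0 := fun h => one_ne_zero (b_inj (h.trans b_zero.symm))
  -- the torus
  have key : ∀ e : Fˣ, ∃ m : Fˣ, (∀ x, a ((e : F) ^ 2 * x) = (m : F) ^ 2 * a x) ∧
      (∀ x, b (((e⁻¹ : Fˣ) : F) ^ 2 * x) = ((m⁻¹ : Fˣ) : F) ^ 2 * b x) := by
    intro e
    obtain ⟨g, hg⟩ := proj_surjective (α (proj (tE e)))
    have hu : ∀ x, proj g * proj (uE (a x)) * (proj g)⁻¹ = proj (uE (a ((e : F) ^ 2 * x))) := by
      intro x
      rw [hg, ← ha, ← ha, ← map_inv, ← map_mul, ← map_mul, conj_tE_uE]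
    have hl : ∀ x, proj g * proj (lE (b x)) * (proj g)⁻¹ =
        proj (lE (b (((e⁻¹ : Fˣ) : F) ^ 2 * x))) := by
      intro x
      rw [hg, ← hb, ← hb, ← map_inv, ← map_mul, ← map_mul, conj_tE_lE]
    have h10 := upper_of_conj g (a 1) _ a1 (hu 1)
    have h01 := lower_of_conj g (b 1) _ b1 (hl 1)
    obtain ⟨m, rfl⟩ := eq_tE_of_diag g h10 h01
    refine ⟨m, fun x => ?_, fun x => ?_⟩
    · apply ub_injective
      rw [← hu x, conj_tE_uE]
    · apply lb_injective
      rw [← hl x, conj_tE_lE]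
  -- multiplicativity
  have s_mul_sq : ∀ e x : F, a (e ^ 2 * x) * a 1 = a (e ^ 2) * a x := by
    intro e x
    by_cases he : e = 0
    · subst he
      simp [a_zero]
    · obtain ⟨m, hm, -⟩ := key (Units.mk0 e he)
      have h1 := hm x
      have h2 := hm 1
      simp only [Units.val_mk0, mul_one] at h1 h2
      rw [h1, h2]; ring
  have s_mul : ∀ s x : F, a (s * x) * a 1 = a s * a x := by
    intro s x
    obtain ⟨e1, e2, rfl⟩ := exists_sq_sub_sq s
    rw [sub_mul, a_sub, a_sub, sub_mul, s_mul_sq, s_mul_sq]; ring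
  let σ₀ : F →+* F :=
    { toFun := fun x => a x / a 1
      map_one' := div_self a1
      map_mul' := by
        intro x y
        field_simp
        linear_combination s_mul x y
      map_zero' := by simp [a_zero]
      map_add' := by
        intro x y
        rw [a_add, add_div] }
  have hσ₀ : ∀ x, σ₀ x = a x / a 1 := fun x => rfl
  have hbij : Function.Bijective σ₀ := by
    have hinj : Function.Injective σ₀ := σ₀.injective
    exact ⟨hinj, Finite.surjective_of_injective hinj⟩
  -- the Weyl element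
  have hab : a 1 * b 1 = 1 := by
    apply weyl_constraint (a 1) (b 1) b1
    have hw : α (proj wE) = proj (uE (a 1) * lE (-b 1) * uE (a 1)) := by
      rw [wE_eq]
      simp only [map_mul]
      rw [ha, hb, b_neg]
    rw [← hw, ← hb, ← map_inv, ← map_mul, ← map_mul, conj_wE_lE, ha, a_neg]
  have b_sq : ∀ e : F, b (e ^ 2) = a (e ^ 2) / a 1 * b 1 := by
    intro e
    by_cases he : e = 0
    · subst he
      simp [a_zero, b_zero]
    · obtain ⟨m, hm1, hm2⟩ := key (Units.mk0 e he)⁻¹
      have h1 := hm1 (e ^ 2)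
      have h2 := hm2 1
      simp only [Units.val_inv_eq_inv_val, Units.val_mk0, inv_inv, mul_one] at h1 h2
      have h3 : e⁻¹ ^ 2 * e ^ 2 = 1 := by field_simp
      rw [h3] at h1
      have hm : (m : F) ≠ 0 := m.ne_zero
      have hae : a (e ^ 2) ≠ 0 := by
        intro h0
        rw [h0, mul_zero] at h1
        exact a1 h1
      rw [h2, h1]
      field_simp
  have b_eq : ∀ x, b x = a x / a 1 * b 1 := by
    intro x
    obtain ⟨e1, e2, rfl⟩ := exists_sq_sub_sq x
    rw [b_sub, a_sub, b_sq, b_sq]; ring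
  refine ⟨Units.mk0 (a 1) a1, RingEquiv.ofBijective σ₀ hbij, fun x => ?_, fun x => ?_⟩
  · rw [ha]
    congr 2
    rw [RingEquiv.ofBijective_apply, hσ₀, Units.val_mk0, mul_div_cancel₀ _ a1]
  · rw [hb]
    congr 2
    rw [RingEquiv.ofBijective_apply, hσ₀, Units.val_inv_eq_inv_val, Units.val_mk0, b_eq,
      eq_inv_of_mul_eq_one_right hab, mul_comm]

end normalform


section automorphisms

variable {F : Type*} [Field F]

/-- an automorphism of `SL₂` descends to `PSL₂` -/
noncomputable def descend (e : SpecialLinearGroup (Fin 2) F ≃* SpecialLinearGroup (Fin 2) F) :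
    MulAut (ProjectiveSpecialLinearGroup (Fin 2) F) :=
  QuotientGroup.congr (Subgroup.center (SpecialLinearGroup (Fin 2) F))
    (Subgroup.center (SpecialLinearGroup (Fin 2) F)) e
    (Subgroup.characteristic_iff_map_eq.mp inferInstance e)

theorem descend_proj (e : SpecialLinearGroup (Fin 2) F ≃* SpecialLinearGroup (Fin 2) F)
    (A : SpecialLinearGroup (Fin 2) F) : descend e (proj A) = proj (e A) := rfl

/-- entrywise field automorphism of `SL₂` -/
def fEquiv (σ : F ≃+* F) : SpecialLinearGroup (Fin 2) F ≃* SpecialLinearGroup (Fin 2) F where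
  toFun := SpecialLinearGroup.map (σ : F →+* F)
  invFun := SpecialLinearGroup.map (σ.symm : F →+* F)
  left_inv A := by
    apply Subtype.ext
    ext i j
    simp [SpecialLinearGroup.map_apply_coe]
  right_inv A := by
    apply Subtype.ext
    ext i j
    simp [SpecialLinearGroup.map_apply_coe]
  map_mul' := map_mul _

theorem fEquiv_apply (σ : F ≃+* F) (A : SpecialLinearGroup (Fin 2) F) (i j : Fin 2) :
    (fEquiv σ A).1 i j = σ (A.1 i j) := by
  change (SpecialLinearGroup.map (σ : F →+* F) A).1 i j = _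
  simp [SpecialLinearGroup.map_apply_coe]

theorem fEquiv_uE (σ : F ≃+* F) (x : F) : fEquiv σ (uE x) = uE (σ x) := by
  apply sl_ext <;> simp [fEquiv_apply, uE_coe]

theorem fEquiv_lE (σ : F ≃+* F) (x : F) : fEquiv σ (lE x) = lE (σ x) := by
  apply sl_ext <;> simp [fEquiv_apply, lE_coe]

theorem trace_fEquiv (σ : F ≃+* F) (A : SpecialLinearGroup (Fin 2) F) :
    Matrix.trace (fEquiv σ A).1 = σ (Matrix.trace A.1) := by
  rw [Matrix.trace_fin_two, Matrix.trace_fin_two, fEquiv_apply, fEquiv_apply, map_add]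

/-- conjugation by `diag(c, 1)` on `SL₂` -/
def dMap (c : Fˣ) (A : SpecialLinearGroup (Fin 2) F) : SpecialLinearGroup (Fin 2) F :=
  ⟨!![A.1 0 0, (c : F) * A.1 0 1; ((c⁻¹ : Fˣ) : F) * A.1 1 0, A.1 1 1], by
    have h := A.2
    rw [Matrix.det_fin_two] at h
    have hc : (c : F) * ((c⁻¹ : Fˣ) : F) = 1 := by simp
    rw [Matrix.det_fin_two_of]
    linear_combination h - A.1 0 1 * A.1 1 0 * hc⟩

theorem dMap_coe (c : Fˣ) (A : SpecialLinearGroup (Fin 2) F) :
    (dMap c A).1 = !![A.1 0 0, (c : F) * A.1 0 1; ((c⁻¹ : Fˣ) : F) * A.1 1 0, A.1 1 1] := rfl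

theorem dMap_mul (c : Fˣ) (A B : SpecialLinearGroup (Fin 2) F) :
    dMap c (A * B) = dMap c A * dMap c B := by
  have hc : (c : F) * ((c⁻¹ : Fˣ) : F) = 1 := by simp
  apply sl_ext
  · simp only [mul_coe_apply, dMap_coe, Matrix.of_apply, Matrix.cons_val_zero, Matrix.cons_val_one,
      Matrix.cons_val', Matrix.cons_val_fin_one]
    linear_combination (-(A.1 0 1 * B.1 1 0)) * hc
  · simp only [mul_coe_apply, dMap_coe, Matrix.of_apply, Matrix.cons_val_zero, Matrix.cons_val_one,
      Matrix.cons_val', Matrix.cons_val_fin_one]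
    ring
  · simp only [mul_coe_apply, dMap_coe, Matrix.of_apply, Matrix.cons_val_zero, Matrix.cons_val_one,
      Matrix.cons_val', Matrix.cons_val_fin_one]
    ring
  · simp only [mul_coe_apply, dMap_coe, Matrix.of_apply, Matrix.cons_val_zero, Matrix.cons_val_one,
      Matrix.cons_val', Matrix.cons_val_fin_one]
    linear_combination (-(A.1 1 0 * B.1 0 1)) * hc

theorem dMap_dMap (c d : Fˣ) (A : SpecialLinearGroup (Fin 2) F) :
    dMap c (dMap d A) = dMap (c * d) A := by
  apply sl_ext <;>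
    simp only [dMap_coe, Matrix.of_apply, Matrix.cons_val_zero, Matrix.cons_val_one,
      Matrix.cons_val', Matrix.cons_val_fin_one, Units.val_mul, _root_.mul_inv_rev, Units.val_inv_eq_inv_val]
  · ring
  · ring

theorem dMap_one (A : SpecialLinearGroup (Fin 2) F) : dMap 1 A = A := by
  apply sl_ext <;> simp [dMap_coe]

/-- conjugation by `diag(c, 1)` as an automorphism of `SL₂` -/
def dEquiv (c : Fˣ) : SpecialLinearGroup (Fin 2) F ≃* SpecialLinearGroup (Fin 2) F where
  toFun := dMap c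
  invFun := dMap c⁻¹
  left_inv A := by rw [dMap_dMap, inv_mul_cancel, dMap_one]
  right_inv A := by rw [dMap_dMap, mul_inv_cancel, dMap_one]
  map_mul' := dMap_mul c

theorem dEquiv_apply (c : Fˣ) (A : SpecialLinearGroup (Fin 2) F) : dEquiv c A = dMap c A := rfl

theorem dMap_uE (c : Fˣ) (x : F) : dMap c (uE x) = uE ((c : F) * x) := by
  apply sl_ext <;> simp [dMap_coe, uE_coe]

theorem dMap_lE (c : Fˣ) (x : F) : dMap c (lE x) = lE (((c⁻¹ : Fˣ) : F) * x) := by
  apply sl_ext <;> simp [dMap_coe, lE_coe]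

theorem trace_dMap (c : Fˣ) (A : SpecialLinearGroup (Fin 2) F) :
    Matrix.trace (dMap c A).1 = Matrix.trace A.1 := by
  rw [Matrix.trace_fin_two, Matrix.trace_fin_two, dMap_coe]
  simp

/-- automorphisms of `PSL₂` agreeing on the unitriangular elements are equal -/
theorem aut_ext (α β : MulAut (ProjectiveSpecialLinearGroup (Fin 2) F))
    (hu : ∀ x, α (proj (uE x)) = β (proj (uE x)))
    (hl : ∀ x, α (proj (lE x)) = β (proj (lE x))) : α = β := by
  ext z
  obtain ⟨A, rfl⟩ := proj_surjective z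
  refine Cfsg.Agent.Lib.Helper5_SLGen.transvection_induction
    (fun A => α (proj A) = β (proj A)) ?_ ?_ A
  · intro i j hij c
    have h01 : ∀ h : (0 : Fin 2) ≠ 1, SpecialLinearGroup.transvection h c = uE c := by
      intro h
      apply sl_ext <;> simp [SpecialLinearGroup.transvection_coe, uE_coe]
    have h10 : ∀ h : (1 : Fin 2) ≠ 0, SpecialLinearGroup.transvection h c = lE c := by
      intro h
      apply sl_ext <;> simp [SpecialLinearGroup.transvection_coe, lE_coe]
    fin_cases i <;> fin_cases j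
    · exact absurd rfl hij
    · change α (proj (SpecialLinearGroup.transvection _ c)) = _
      rw [h01]; exact hu c
    · change α (proj (SpecialLinearGroup.transvection _ c)) = _
      rw [h10]; exact hl c
    · exact absurd rfl hij
  · intro A B hA hB
    rw [map_mul, map_mul, map_mul, hA, hB]

end automorphisms


section bruhat

open Pointwise

variable {F : Type*} [Field F]

/-- image of the upper unitriangular group in `PSL₂` -/
def Ub : Subgroup (ProjectiveSpecialLinearGroup (Fin 2) F) := (proj.comp uHom).range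

/-- image of the lower unitriangular group in `PSL₂` -/
def Lb : Subgroup (ProjectiveSpecialLinearGroup (Fin 2) F) := (proj.comp lHom).range

theorem mem_Ub (z : ProjectiveSpecialLinearGroup (Fin 2) F) :
    z ∈ Ub (F := F) ↔ ∃ x : F, proj (uE x) = z := by
  constructor
  · rintro ⟨x, rfl⟩
    exact ⟨Multiplicative.toAdd x, rfl⟩
  · rintro ⟨x, rfl⟩
    exact ⟨Multiplicative.ofAdd x, rfl⟩

theorem mem_Lb (z : ProjectiveSpecialLinearGroup (Fin 2) F) :
    z ∈ Lb (F := F) ↔ ∃ x : F, proj (lE x) = z := by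
  constructor
  · rintro ⟨x, rfl⟩
    exact ⟨Multiplicative.toAdd x, rfl⟩
  · rintro ⟨x, rfl⟩
    exact ⟨Multiplicative.ofAdd x, rfl⟩

theorem smul_eq_of_forall {G : Type*} [Group G] (α : MulAut G) (H : Subgroup G)
    (h1 : ∀ z ∈ H, α z ∈ H) (h2 : ∀ z ∈ H, α⁻¹ z ∈ H) : α • H = H := by
  apply le_antisymm
  · intro x hx
    rw [Subgroup.mem_pointwise_smul_iff_inv_smul_mem] at hx
    have := h1 _ hx
    rwa [MulAut.smul_def, MulAut.apply_inv_self] at this
  · intro x hx
    rw [Subgroup.mem_pointwise_smul_iff_inv_smul_mem]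
    exact h2 x hx

theorem upper_mul_uE (g : SpecialLinearGroup (Fin 2) F) (h10 : g.1 1 0 = 0) (x : F) :
    g * uE x = uE ((g.1 0 0) ^ 2 * x) * g := by
  have hdet := g.2
  rw [Matrix.det_fin_two, h10] at hdet
  have h1 : g.1 0 0 * g.1 1 1 = 1 := by linear_combination hdet
  apply sl_ext
  · simp [mul_coe_apply, uE_coe, h10]
  · simp only [mul_coe_apply, uE_coe, Matrix.of_apply, Matrix.cons_val_zero, Matrix.cons_val_one,
      Matrix.cons_val', Matrix.cons_val_fin_one]
    linear_combination (-(g.1 0 0 * x)) * h1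
  · simp [mul_coe_apply, uE_coe, h10]
  · simp [mul_coe_apply, uE_coe, h10]

theorem conj_mem_Ub_of_upper (g : SpecialLinearGroup (Fin 2) F) (h10 : g.1 1 0 = 0)
    (z : ProjectiveSpecialLinearGroup (Fin 2) F) (hz : z ∈ Ub (F := F)) :
    MulAut.conj (proj g) z ∈ Ub (F := F) := by
  obtain ⟨x, rfl⟩ := (mem_Ub z).mp hz
  rw [mem_Ub]
  refine ⟨(g.1 0 0) ^ 2 * x, ?_⟩
  rw [MulAut.conj_apply, eq_mul_inv_iff_mul_eq, ← map_mul, ← map_mul, upper_mul_uE g h10]

theorem inv_apply_one_zero (g : SpecialLinearGroup (Fin 2) F) : (g⁻¹).1 1 0 = -g.1 1 0 := by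
  rw [Matrix.SpecialLinearGroup.coe_inv, Matrix.adjugate_fin_two]
  simp

theorem conj_Ub_of_upper (g : SpecialLinearGroup (Fin 2) F) (h10 : g.1 1 0 = 0) :
    MulAut.conj (proj g) • Ub (F := F) = Ub := by
  apply smul_eq_of_forall
  · exact conj_mem_Ub_of_upper g h10
  · intro z hz
    rw [← map_inv, ← map_inv]
    exact conj_mem_Ub_of_upper g⁻¹ (by rw [inv_apply_one_zero, h10, neg_zero]) z hz

theorem conj_wE_Ub : MulAut.conj (proj (wE (F := F))) • Ub (F := F) = Lb := by
  apply le_antisymm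
  · intro x hx
    obtain ⟨z, hz, rfl⟩ := (Subgroup.mem_smul_pointwise_iff_exists _ _ _).mp hx
    obtain ⟨y, rfl⟩ := (mem_Ub z).mp hz
    rw [mem_Lb]
    exact ⟨-y, by rw [MulAut.smul_def, MulAut.conj_apply, conj_wE_uE]⟩
  · intro x hx
    obtain ⟨y, rfl⟩ := (mem_Lb x).mp hx
    rw [Subgroup.mem_smul_pointwise_iff_exists]
    refine ⟨proj (uE (-y)), (mem_Ub _).mpr ⟨_, rfl⟩, ?_⟩
    rw [MulAut.smul_def, MulAut.conj_apply, conj_wE_uE, neg_neg]

/-- Bruhat decomposition for the big cell -/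
theorem bruhat (g : SpecialLinearGroup (Fin 2) F) (h10 : g.1 1 0 ≠ 0) :
    ∃ (x : F) (b : SpecialLinearGroup (Fin 2) F), b.1 1 0 = 0 ∧ g = uE x * wE * b := by
  refine ⟨g.1 0 0 / g.1 1 0, (uE (g.1 0 0 / g.1 1 0) * wE)⁻¹ * g, ?_, by group⟩
  rw [mul_coe_apply, Matrix.SpecialLinearGroup.coe_inv, Matrix.adjugate_fin_two]
  simp only [mul_coe_apply, uE_coe, wE_coe, Matrix.of_apply, Matrix.cons_val_zero,
    Matrix.cons_val_one, Matrix.cons_val', Matrix.cons_val_fin_one]
  field_simp
  ring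

theorem conj_Ub_cases (g : SpecialLinearGroup (Fin 2) F) :
    MulAut.conj (proj g) • Ub (F := F) = Ub ∨
      ∃ x : F, MulAut.conj (proj g) • Ub (F := F) = MulAut.conj (proj (uE x)) • Lb := by
  by_cases h10 : g.1 1 0 = 0
  · exact Or.inl (conj_Ub_of_upper g h10)
  · right
    obtain ⟨x, b, hb, rfl⟩ := bruhat g h10
    refine ⟨x, ?_⟩
    rw [map_mul, map_mul, map_mul, map_mul, mul_smul, mul_smul, conj_Ub_of_upper b hb, conj_wE_Ub]

end bruhat


section sylow

open Pointwise

variable {F : Type*} [Field F] [Fintype F]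

theorem card_Ub : Nat.card (Ub (F := F)) = Fintype.card F := by
  have hinj : Function.Injective (proj.comp (uHom (F := F))) := by
    intro x y h
    exact Multiplicative.toAdd.injective
      (ub_injective (Multiplicative.toAdd x) (Multiplicative.toAdd y) h)
  unfold Ub
  rw [Nat.card_congr (MonoidHom.ofInjective hinj).toEquiv.symm, ← Nat.card_eq_fintype_card]
  rfl

theorem card_Lb : Nat.card (Lb (F := F)) = Fintype.card F := by
  have hinj : Function.Injective (proj.comp (lHom (F := F))) := by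
    intro x y h
    exact Multiplicative.toAdd.injective
      (lb_injective (Multiplicative.toAdd x) (Multiplicative.toAdd y) h)
  unfold Lb
  rw [Nat.card_congr (MonoidHom.ofInjective hinj).toEquiv.symm, ← Nat.card_eq_fintype_card]
  rfl

theorem factorization_card_PSL {p f : ℕ} [Fact p.Prime] (hF : Fintype.card F = p ^ f) :
    (Nat.card (ProjectiveSpecialLinearGroup (Fin 2) F)).factorization p = f := by
  classical
  have hp := (Fact.out : p.Prime)
  have h1 := Cfsg.Agent.Lib.Helper5_PSLCard.card_PSL_mul (F := F) 2 (by norm_num)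
  rw [Cfsg.Agent.Lib.Helper5_PSLCard.card_SL_two, hF] at h1
  have hf : f ≠ 0 := by
    rintro rfl
    have := Fintype.one_lt_card (α := F)
    rw [hF, pow_zero] at this
    exact lt_irrefl _ this
  have hq1 : 1 ≤ p ^ f := Nat.one_le_pow _ _ hp.pos
  have hpq : p ∣ p ^ f := dvd_pow_self p hf
  have hnd1 : ¬ p ∣ (p ^ f) ^ 2 - 1 := by
    intro hd
    have h2 : (p ^ f) ^ 2 - 1 + 1 = (p ^ f) ^ 2 := Nat.sub_add_cancel (Nat.one_le_pow _ _ hq1)
    have h3 : p ∣ (p ^ f) ^ 2 - 1 + 1 := h2 ▸ dvd_pow hpq two_ne_zero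
    exact hp.one_lt.ne' (Nat.dvd_one.mp ((Nat.dvd_add_right hd).mp h3))
  have hnd2 : ¬ p ∣ Nat.gcd (p ^ f - 1) 2 := by
    intro hd
    have hd' : p ∣ p ^ f - 1 := hd.trans (Nat.gcd_dvd_left _ _)
    have h2 : p ^ f - 1 + 1 = p ^ f := Nat.sub_add_cancel hq1
    have h3 : p ∣ p ^ f - 1 + 1 := h2 ▸ hpq
    exact hp.one_lt.ne' (Nat.dvd_one.mp ((Nat.dvd_add_right hd').mp h3))
  have hPne : Nat.card (ProjectiveSpecialLinearGroup (Fin 2) F) ≠ 0 := Nat.card_pos.ne'
  have hgne : Nat.gcd (p ^ f - 1) 2 ≠ 0 := by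
    intro h0
    exact two_ne_zero (Nat.eq_zero_of_gcd_eq_zero_right h0)
  have hsne : (p ^ f) ^ 2 - 1 ≠ 0 := fun h0 => hnd1 (h0 ▸ dvd_zero p)
  have h4 := congrArg (fun n => n.factorization p) h1
  simp only [Nat.factorization_mul hPne hgne, Nat.factorization_mul (pow_ne_zero f hp.ne_zero) hsne,
    Finsupp.add_apply, Nat.factorization_eq_zero_of_not_dvd hnd1,
    Nat.factorization_eq_zero_of_not_dvd hnd2, add_zero, hp.factorization_pow,
    Finsupp.single_eq_same] at h4
  exact h4

theorem exists_conj_eq {p f : ℕ} [Fact p.Prime] (hF : Fintype.card F = p ^ f)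
    (H : Subgroup (ProjectiveSpecialLinearGroup (Fin 2) F)) (hH : Nat.card H = Fintype.card F) :
    ∃ h : ProjectiveSpecialLinearGroup (Fin 2) F, H = MulAut.conj h • Ub := by
  classical
  have hfac := factorization_card_PSL hF
  let Q1 : Sylow p (ProjectiveSpecialLinearGroup (Fin 2) F) :=
    Sylow.ofCard Ub (by rw [card_Ub, hfac, hF])
  let Q2 : Sylow p (ProjectiveSpecialLinearGroup (Fin 2) F) :=
    Sylow.ofCard H (by rw [hH, hfac, hF])
  obtain ⟨h, hh⟩ := MulAction.exists_smul_eq (ProjectiveSpecialLinearGroup (Fin 2) F) Q1 Q2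
  refine ⟨h, ?_⟩
  have := congrArg Sylow.toSubgroup hh
  exact this.symm

theorem Lb_ne_Ub : Lb (F := F) ≠ Ub := by
  intro h
  have h1 : proj (lE (1 : F)) ∈ Lb (F := F) := (mem_Lb _).mpr ⟨1, rfl⟩
  rw [h] at h1
  obtain ⟨x, hx⟩ := (mem_Ub _).mp h1
  obtain ⟨ε, hε, he⟩ := exists_sign _ _ hx
  have h10 := he 1 0
  have h00 := he 0 0
  simp only [uE_coe, lE_coe, Matrix.of_apply, Matrix.cons_val_zero, Matrix.cons_val_one,
    Matrix.cons_val', Matrix.cons_val_fin_one] at h10 h00
  rw [mul_zero] at h10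
  exact one_ne_zero h10

/-- every automorphism can be normalised by an inner one to preserve `Ub` and `Lb` -/
theorem normalize {p f : ℕ} [Fact p.Prime] (hF : Fintype.card F = p ^ f)
    (α : MulAut (ProjectiveSpecialLinearGroup (Fin 2) F)) :
    ∃ h : ProjectiveSpecialLinearGroup (Fin 2) F,
      ((MulAut.conj h)⁻¹ * α) • Ub (F := F) = Ub ∧ ((MulAut.conj h)⁻¹ * α) • Lb (F := F) = Lb := by
  obtain ⟨h₁, e1⟩ := exists_conj_eq hF (α • Ub)
    (by rw [← Nat.card_congr (Subgroup.equivSMul α Ub).toEquiv, card_Ub])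
  obtain ⟨h₂, e2⟩ := exists_conj_eq hF (α • Lb)
    (by rw [← Nat.card_congr (Subgroup.equivSMul α Lb).toEquiv, card_Lb])
  have e3 : MulAut.conj h₂ • Ub (F := F) = MulAut.conj h₁ • (MulAut.conj (h₁⁻¹ * h₂) • Ub) := by
    rw [smul_smul, ← map_mul, mul_inv_cancel_left]
  obtain ⟨g, hg⟩ := proj_surjective (h₁⁻¹ * h₂)
  rcases conj_Ub_cases g with hA | ⟨x, hB⟩
  · exfalso
    rw [hg] at hA
    rw [hA, ← e1, ← e2] at e3
    exact Lb_ne_Ub (smul_left_cancel α e3)
  · rw [hg] at hB
    refine ⟨h₁ * proj (uE x), ?_, ?_⟩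
    · rw [mul_smul, e1, inv_smul_eq_iff, map_mul, mul_smul,
        Subgroup.conj_smul_eq_self_of_mem ((mem_Ub _).mpr ⟨x, rfl⟩)]
    · rw [mul_smul, e2, inv_smul_eq_iff, e3, hB, smul_smul, ← map_mul]

end sylow


section classification

open Pointwise

variable {F : Type*} [Field F] [Fintype F]

/-- every automorphism of `PSL₂(F)` is inner ∘ diagonal ∘ field -/
theorem aut_classification {p f : ℕ} [Fact p.Prime] (hF : Fintype.card F = p ^ f)
    (α : MulAut (ProjectiveSpecialLinearGroup (Fin 2) F)) :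
    ∃ (h : ProjectiveSpecialLinearGroup (Fin 2) F) (c : Fˣ) (σ : F ≃+* F),
      α = MulAut.conj h * descend (dEquiv c) * descend (fEquiv σ) := by
  obtain ⟨h, hU, hL⟩ := normalize hF α
  have hU' : ∀ x, ∃ y, ((MulAut.conj h)⁻¹ * α) (proj (uE x)) = proj (uE y) := by
    intro x
    have h1 : ((MulAut.conj h)⁻¹ * α) • proj (uE x) ∈ ((MulAut.conj h)⁻¹ * α) • Ub (F := F) :=
      Subgroup.smul_mem_pointwise_smul _ _ _ ((mem_Ub _).mpr ⟨x, rfl⟩)
    rw [hU, mem_Ub] at h1
    obtain ⟨y, hy⟩ := h1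
    exact ⟨y, hy.symm⟩
  have hL' : ∀ x, ∃ y, ((MulAut.conj h)⁻¹ * α) (proj (lE x)) = proj (lE y) := by
    intro x
    have h1 : ((MulAut.conj h)⁻¹ * α) • proj (lE x) ∈ ((MulAut.conj h)⁻¹ * α) • Lb (F := F) :=
      Subgroup.smul_mem_pointwise_smul _ _ _ ((mem_Lb _).mpr ⟨x, rfl⟩)
    rw [hL, mem_Lb] at h1
    obtain ⟨y, hy⟩ := h1
    exact ⟨y, hy.symm⟩
  obtain ⟨c, σ, h1, h2⟩ := normal_form _ hU' hL'
  refine ⟨h, c, σ, ?_⟩
  have h3 : (MulAut.conj h)⁻¹ * α = descend (dEquiv c) * descend (fEquiv σ) := by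
    apply aut_ext
    · intro x
      rw [h1, MulAut.mul_apply, descend_proj, descend_proj, fEquiv_uE, dEquiv_apply, dMap_uE]
    · intro x
      rw [h2, MulAut.mul_apply, descend_proj, descend_proj, fEquiv_lE, dEquiv_apply, dMap_lE]
  rw [mul_assoc, ← h3, mul_inv_cancel_left]

end classification

section invariant

variable {F : Type*} [Field F]

/-- `α` induces `σ` on squares of traces -/
def Rel (α : MulAut (ProjectiveSpecialLinearGroup (Fin 2) F)) (σ : F ≃+* F) : Prop :=
  ∀ A B : SpecialLinearGroup (Fin 2) F, α (proj A) = proj B →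
    (Matrix.trace B.1) ^ 2 = σ ((Matrix.trace A.1) ^ 2)

theorem trace_sq_of_proj_eq (A B : SpecialLinearGroup (Fin 2) F) (h : proj A = proj B) :
    (Matrix.trace B.1) ^ 2 = (Matrix.trace A.1) ^ 2 := by
  obtain ⟨ε, hε, he⟩ := exists_sign _ _ h
  rw [Matrix.trace_fin_two, Matrix.trace_fin_two, he, he]
  linear_combination (A.1 0 0 + A.1 1 1) ^ 2 * hε

theorem rel_descend (e : SpecialLinearGroup (Fin 2) F ≃* SpecialLinearGroup (Fin 2) F)
    (σ : F ≃+* F) (h : ∀ A, Matrix.trace (e A).1 = σ (Matrix.trace A.1)) : Rel (descend e) σ := by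
  intro A B hAB
  rw [descend_proj] at hAB
  rw [trace_sq_of_proj_eq _ _ hAB, h, map_pow]

theorem rel_conj (h : ProjectiveSpecialLinearGroup (Fin 2) F) : Rel (MulAut.conj h) (1 : F ≃+* F) := by
  intro A B hAB
  obtain ⟨g, rfl⟩ := proj_surjective h
  rw [MulAut.conj_apply, ← map_inv, ← map_mul, ← map_mul] at hAB
  rw [trace_sq_of_proj_eq _ _ hAB]
  have h1 : (g⁻¹).1 * g.1 = 1 := congrArg Subtype.val (inv_mul_cancel g)
  have h2 : Matrix.trace (g * A * g⁻¹).1 = Matrix.trace A.1 := by
    change Matrix.trace (g.1 * A.1 * (g⁻¹).1) = Matrix.trace A.1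
    rw [Matrix.trace_mul_comm, ← Matrix.mul_assoc, h1, Matrix.one_mul]
  rw [h2]
  rfl

theorem rel_mul (α β : MulAut (ProjectiveSpecialLinearGroup (Fin 2) F)) (σ τ : F ≃+* F)
    (h1 : Rel α σ) (h2 : Rel β τ) : Rel (α * β) (σ * τ) := by
  intro A B hAB
  obtain ⟨C, hC⟩ := proj_surjective (β (proj A))
  rw [MulAut.mul_apply, ← hC] at hAB
  rw [h1 C B hAB, h2 A C hC.symm]
  rfl

theorem rel_unique [Finite F] (α : MulAut (ProjectiveSpecialLinearGroup (Fin 2) F)) (σ τ : F ≃+* F)
    (h1 : Rel α σ) (h2 : Rel α τ) : σ = τ := by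
  have hsq : ∀ s : F, σ (s ^ 2) = τ (s ^ 2) := by
    intro s
    obtain ⟨B, hB⟩ := proj_surjective (α (proj (⟨!![s, -1; 1, 0], by simp [Matrix.det_fin_two_of]⟩ :
      SpecialLinearGroup (Fin 2) F)))
    have e1 := h1 _ B hB.symm
    have e2 := h2 _ B hB.symm
    have ht : Matrix.trace (!![s, -1; 1, 0] : Matrix (Fin 2) (Fin 2) F) = s := by
      rw [Matrix.trace_fin_two]; simp
    rw [ht] at e1 e2
    rw [← e1, ← e2]
  ext x
  obtain ⟨e1, e2, rfl⟩ := exists_sq_sub_sq x
  rw [map_sub, map_sub, hsq, hsq]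

end invariant


section outer

variable {F : Type*} [Field F] [Fintype F]

theorem exists_rel {p f : ℕ} [Fact p.Prime] (hF : Fintype.card F = p ^ f)
    (α : MulAut (ProjectiveSpecialLinearGroup (Fin 2) F)) : ∃ σ : F ≃+* F, Rel α σ := by
  obtain ⟨h, c, σ, rfl⟩ := aut_classification hF α
  refine ⟨1 * 1 * σ, rel_mul _ _ _ _ (rel_mul _ _ _ _ (rel_conj h) ?_) ?_⟩
  · exact rel_descend _ _ (fun A => trace_dMap c A)
  · exact rel_descend _ _ (fun A => trace_fEquiv σ A)

/-- the field automorphism attached to an automorphism of `PSL₂(F)` -/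
noncomputable def phi0 {p f : ℕ} [Fact p.Prime] (hF : Fintype.card F = p ^ f) :
    MulAut (ProjectiveSpecialLinearGroup (Fin 2) F) →* RingAut F :=
  MonoidHom.mk' (fun α => Classical.choose (exists_rel hF α)) (fun α β =>
    rel_unique (α * β) _ _ (Classical.choose_spec (exists_rel hF (α * β)))
      (rel_mul α β _ _ (Classical.choose_spec (exists_rel hF α))
        (Classical.choose_spec (exists_rel hF β))))

theorem phi0_spec {p f : ℕ} [Fact p.Prime] (hF : Fintype.card F = p ^ f)
    (α : MulAut (ProjectiveSpecialLinearGroup (Fin 2) F)) : Rel α (phi0 hF α) :=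
  Classical.choose_spec (exists_rel hF α)

theorem phi0_eq {p f : ℕ} [Fact p.Prime] (hF : Fintype.card F = p ^ f)
    (α : MulAut (ProjectiveSpecialLinearGroup (Fin 2) F)) (σ : F ≃+* F) (h : Rel α σ) :
    phi0 hF α = σ :=
  rel_unique α _ _ (phi0_spec hF α) h

theorem phi0_conj {p f : ℕ} [Fact p.Prime] (hF : Fintype.card F = p ^ f)
    (h : ProjectiveSpecialLinearGroup (Fin 2) F) : phi0 hF (MulAut.conj h) = 1 :=
  phi0_eq hF _ _ (rel_conj h)

theorem phi0_diag {p f : ℕ} [Fact p.Prime] (hF : Fintype.card F = p ^ f) (c : Fˣ) :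
    phi0 hF (descend (dEquiv c)) = 1 :=
  phi0_eq hF _ _ (rel_descend _ _ (fun A => trace_dMap c A))

theorem phi0_field {p f : ℕ} [Fact p.Prime] (hF : Fintype.card F = p ^ f) (σ : F ≃+* F) :
    phi0 hF (descend (fEquiv σ)) = σ :=
  phi0_eq hF _ _ (rel_descend _ _ (fun A => trace_fEquiv σ A))

theorem descend_fEquiv_one : descend (fEquiv (1 : F ≃+* F)) = 1 := by
  apply aut_ext
  · intro x
    rw [descend_proj, fEquiv_uE]; rfl
  · intro x
    rw [descend_proj, fEquiv_lE]; rfl

/-- diagonal automorphisms as a homomorphism -/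
noncomputable def diagHom : Fˣ →* MulAut (ProjectiveSpecialLinearGroup (Fin 2) F) where
  toFun c := descend (dEquiv c)
  map_one' := by
    ext z
    obtain ⟨A, rfl⟩ := proj_surjective z
    rw [descend_proj, dEquiv_apply, dMap_one]; rfl
  map_mul' c d := by
    ext z
    obtain ⟨A, rfl⟩ := proj_surjective z
    rw [MulAut.mul_apply, descend_proj, descend_proj, descend_proj, dEquiv_apply, dEquiv_apply,
      dEquiv_apply, dMap_dMap]

theorem diagHom_apply (c : Fˣ) : diagHom c = descend (dEquiv (F := F) c) := rfl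

/-- the diagonal automorphism for a square is inner -/
theorem diagHom_sq (e : Fˣ) : diagHom (e ^ 2) = MulAut.conj (proj (tE e)) := by
  apply aut_ext
  · intro x
    rw [diagHom_apply, descend_proj, dEquiv_apply, dMap_uE, MulAut.conj_apply, conj_tE_uE,
      Units.val_pow_eq_pow_val]
  · intro x
    rw [diagHom_apply, descend_proj, dEquiv_apply, dMap_lE, MulAut.conj_apply, conj_tE_lE,
      ← inv_pow, Units.val_pow_eq_pow_val]

/-- a diagonal automorphism that is inner comes from a square -/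
theorem isSquare_of_diagHom_inner (c : Fˣ) (h : ProjectiveSpecialLinearGroup (Fin 2) F)
    (hc : diagHom c = MulAut.conj h) : ∃ e : Fˣ, c = e ^ 2 := by
  obtain ⟨g, rfl⟩ := proj_surjective h
  have hu : proj g * proj (uE 1) * (proj g)⁻¹ = proj (uE ((c : F) * 1)) := by
    rw [← MulAut.conj_apply, ← hc, diagHom_apply, descend_proj, dEquiv_apply, dMap_uE]
  have hl : proj g * proj (lE 1) * (proj g)⁻¹ = proj (lE (((c⁻¹ : Fˣ) : F) * 1)) := by
    rw [← MulAut.conj_apply, ← hc, diagHom_apply, descend_proj, dEquiv_apply, dMap_lE]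
  have h10 := upper_of_conj g 1 _ one_ne_zero hu
  have h01 := lower_of_conj g 1 _ one_ne_zero hl
  obtain ⟨e, rfl⟩ := eq_tE_of_diag g h10 h01
  refine ⟨e, ?_⟩
  rw [conj_tE_uE] at hu
  have := ub_injective _ _ hu
  rw [mul_one, mul_one] at this
  apply Units.ext
  rw [Units.val_pow_eq_pow_val, this]

end outer


section ringaut

variable {F : Type*} [Field F] [Fintype F]

/-- the automorphism group of a field with `p ^ f` elements is cyclic of order `f` -/
theorem ringAut_mulEquiv {p f : ℕ} [Fact p.Prime] (hF : Fintype.card F = p ^ f) :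
    Nonempty (RingAut F ≃* Multiplicative (ZMod f)) := by
  have : CharP F p := charP_of_card_eq_prime_pow hF
  let _ : Algebra (ZMod p) F := ZMod.algebra F p
  have hfin : Module.finrank (ZMod p) F = f := by
    have h1 : Fintype.card F = p ^ Module.finrank (ZMod p) F := by
      rw [Module.card_eq_pow_finrank (K := ZMod p) (V := F), ZMod.card]
    exact Nat.pow_right_injective (Fact.out : p.Prime).one_lt (h1.symm.trans hF)
  let e1 : RingAut F ≃* (F ≃ₐ[ZMod p] F) :=
    { toFun := fun σ => AlgEquiv.ofRingEquiv (f := σ) (fun x =>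
        RingHom.congr_fun (Subsingleton.elim ((σ : F →+* F).comp (algebraMap (ZMod p) F))
          (algebraMap (ZMod p) F)) x)
      invFun := fun τ => τ.toRingEquiv
      left_inv := fun σ => by ext; rfl
      right_inv := fun τ => by ext; rfl
      map_mul' := fun σ τ => by ext; rfl }
  have hcard : Nat.card (F ≃ₐ[ZMod p] F) = Nat.card (Multiplicative (ZMod f)) := by
    rw [IsGalois.card_aut_eq_finrank, hfin]
    exact (Nat.card_zmod f).symm
  exact ⟨e1.trans (mulEquivOfCyclicCardEq hcard)⟩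

end ringaut

end Cfsg.Agent.Lib.Helper42_AutPSL2
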