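import Mathlib
import Cfsg.Agent.Lib.Helper14_PSLAut
import Cfsg.Agent.Lib.Helper44_PSLnSyl

/-!
# Automorphisms of `PSL_n(F)` permute points and hyperplanes (helper44)

For `β : MulAut (PSL_{m+3}(F))`, `β • Pt v` is again a `Pt w` or an `Hp ψ`; either all points go to
points (and hyperplanes to hyperplanes) or `itAut * β` has this property; in the first case a
matrix `g ∈ GL` is found with `(conjAut g)⁻¹ * β` fixing the standard frame.
-/

set_option autoImplicit false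
set_option linter.unusedSectionVars false
set_option linter.unusedVariables false
set_option linter.unusedSimpArgs false

namespace Cfsg.Agent.Lib.Helper44_PSLnFrame

open Matrix Cfsg.Agent.Lib.Helper5_Transv Cfsg.Agent.Lib.Helper44_PSLnUT
  Cfsg.Agent.Lib.Helper44_PSLnTv Cfsg.Agent.Lib.Helper44_PSLnSyl Cfsg.Agent.Lib.Helper14_PSLAut
open scoped Pointwise

variable {F : Type*} [Field F] {m : ℕ}

local notation "Gm" => Matrix.ProjectiveSpecialLinearGroup (Fin (m + 3)) F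
local notation "Vm" => Fin (m + 3) → F

theorem hn3 : 3 ≤ m + 3 := by omega

section general

variable {G : Type*} [Group G]

theorem smul_ne_bot_iff (β : MulAut G) (A : Subgroup G) : β • A ≠ ⊥ ↔ A ≠ ⊥ := by
  constructor
  · intro h hA
    rw [hA, Subgroup.smul_bot] at h
    exact h rfl
  · intro h hA
    apply h
    have : β⁻¹ • (β • A) = β⁻¹ • (⊥ : Subgroup G) := by rw [hA]
    rwa [inv_smul_smul, Subgroup.smul_bot] at this

theorem smul_eq_iff (β : MulAut G) (A B : Subgroup G) : β • A = B ↔ A = β⁻¹ • B := by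
  constructor
  · rintro rfl
    rw [inv_smul_smul]
  · rintro rfl
    rw [smul_inv_smul]

/-- incidence is preserved -/
theorem smul_inf_ne_bot (β : MulAut G) (A B : Subgroup G) (h : A ⊓ B ≠ ⊥) :
    β • A ⊓ β • B ≠ ⊥ := by
  rw [← Subgroup.smul_inf, smul_ne_bot_iff]
  exact h

theorem smul_inf_ne_bot_iff (β : MulAut G) (A B : Subgroup G) :
    β • A ⊓ β • B ≠ ⊥ ↔ A ⊓ B ≠ ⊥ := by
  rw [← Subgroup.smul_inf, smul_ne_bot_iff]

end general

section aut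

variable [Fintype F] {p f : ℕ} [hp : Fact p.Prime] (hF : Fintype.card F = p ^ f)
include hF

theorem isTGroup_smul (β : MulAut Gm) {A : Subgroup Gm} (hA : IsTGroup A) : IsTGroup (β • A) := by
  intro t ht ht1
  obtain ⟨a, ha, rfl⟩ := (Subgroup.mem_smul_pointwise_iff_exists _ _ _).mp ht
  rw [MulAut.smul_def] at ht1 ⊢
  rw [isTv_map_iff hF]
  apply hA a ha
  rintro rfl
  exact ht1 (map_one _)

theorem smul_Pt_cases (β : MulAut Gm) {v : Vm} (hv : v ≠ 0) :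
    (∃ w : Vm, w ≠ 0 ∧ β • Pt v = Pt w) ∨ (∃ ψ : Vm, ψ ≠ 0 ∧ β • Pt v = Hp ψ) := by
  rcases (isTGroup_smul hF β (isTGroup_Pt hv)).le_Pt_or_le_Hp hn3 with ⟨w, hw, hle⟩ | ⟨ψ, hψ, hle⟩
  · left
    refine ⟨w, hw, ?_⟩
    have h1 : Pt v ≤ β⁻¹ • Pt w := by
      rw [← Subgroup.pointwise_smul_le_pointwise_smul_iff (a := β), smul_inv_smul]
      exact hle
    have h2 := eq_Pt_of_le hn3 hv (isTGroup_smul hF β⁻¹ (isTGroup_Pt hw)) h1
    rw [smul_eq_iff, h2]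
  · right
    refine ⟨ψ, hψ, ?_⟩
    have h1 : Pt v ≤ β⁻¹ • Hp ψ := by
      rw [← Subgroup.pointwise_smul_le_pointwise_smul_iff (a := β), smul_inv_smul]
      exact hle
    have h2 := eq_Pt_of_le hn3 hv (isTGroup_smul hF β⁻¹ (isTGroup_Hp hψ)) h1
    rw [smul_eq_iff, h2]

theorem smul_Hp_cases (β : MulAut Gm) {φ : Vm} (hφ : φ ≠ 0) :
    (∃ w : Vm, w ≠ 0 ∧ β • Hp φ = Pt w) ∨ (∃ ψ : Vm, ψ ≠ 0 ∧ β • Hp φ = Hp ψ) := by
  rcases (isTGroup_smul hF β (isTGroup_Hp hφ)).le_Pt_or_le_Hp hn3 with ⟨w, hw, hle⟩ | ⟨ψ, hψ, hle⟩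
  · left
    refine ⟨w, hw, ?_⟩
    have h1 : Hp φ ≤ β⁻¹ • Pt w := by
      rw [← Subgroup.pointwise_smul_le_pointwise_smul_iff (a := β), smul_inv_smul]
      exact hle
    have h2 := eq_Hp_of_le hn3 hφ (isTGroup_smul hF β⁻¹ (isTGroup_Pt hw)) h1
    rw [smul_eq_iff, h2]
  · right
    refine ⟨ψ, hψ, ?_⟩
    have h1 : Hp φ ≤ β⁻¹ • Hp ψ := by
      rw [← Subgroup.pointwise_smul_le_pointwise_smul_iff (a := β), smul_inv_smul]
      exact hle
    have h2 := eq_Hp_of_le hn3 hφ (isTGroup_smul hF β⁻¹ (isTGroup_Hp hψ)) h1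
    rw [smul_eq_iff, h2]

/-- if one point goes to a point, all points go to points -/
theorem smul_Pt_of_one (β : MulAut Gm) {v0 w0 : Vm} (hv0 : v0 ≠ 0) (hw0 : w0 ≠ 0)
    (h0 : β • Pt v0 = Pt w0) {v : Vm} (hv : v ≠ 0) : ∃ w : Vm, w ≠ 0 ∧ β • Pt v = Pt w := by
  rcases smul_Pt_cases hF β hv with h | ⟨ψ, hψ, hvψ⟩
  · exact h
  exfalso
  obtain ⟨φ, hφ, h1, h2⟩ := exists_common_zero hn3 v0 v
  rw [dotProduct_comm] at h1 h2
  have i1 : Pt v0 ⊓ Hp φ ≠ ⊥ := (Pt_inf_Hp_ne_bot_iff hn3 hv0 hφ).mpr h1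
  have i2 : Pt v ⊓ Hp φ ≠ ⊥ := (Pt_inf_Hp_ne_bot_iff hn3 hv hφ).mpr h2
  have j1 := smul_inf_ne_bot β _ _ i1
  have j2 := smul_inf_ne_bot β _ _ i2
  rw [h0] at j1
  rw [hvψ] at j2
  rcases smul_Hp_cases hF β hφ with ⟨u, hu, hC⟩ | ⟨χ, hχ, hC⟩
  · rw [hC] at j1
    have hp := par_of_Pt_inf_Pt_ne_bot hn3 hw0 j1
    rw [← Pt_eq_of_par hp, ← h0] at hC
    have := smul_left_cancel β hC
    exact Pt_ne_Hp hn3 hv0 this.symm
  · rw [hC] at j2
    have hp := par_of_Hp_inf_Hp_ne_bot hn3 hψ j2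
    rw [← Hp_eq_of_par hp, ← hvψ] at hC
    have := smul_left_cancel β hC
    exact Pt_ne_Hp hn3 hv this.symm

theorem smul_Hp_of_one (β : MulAut Gm) {v0 w0 : Vm} (hv0 : v0 ≠ 0) (hw0 : w0 ≠ 0)
    (h0 : β • Pt v0 = Pt w0) {φ : Vm} (hφ : φ ≠ 0) : ∃ ψ : Vm, ψ ≠ 0 ∧ β • Hp φ = Hp ψ := by
  rcases smul_Hp_cases hF β hφ with ⟨u, hu, hC⟩ | h
  swap
  · exact h
  exfalso
  obtain ⟨v, hv, h1, -⟩ := exists_common_zero hn3 φ φ
  obtain ⟨w, hw, hvw⟩ := smul_Pt_of_one hF β hv0 hw0 h0 hv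
  have i1 : Pt v ⊓ Hp φ ≠ ⊥ := (Pt_inf_Hp_ne_bot_iff hn3 hv hφ).mpr h1
  have j1 := smul_inf_ne_bot β _ _ i1
  rw [hvw, hC] at j1
  have hp := par_of_Pt_inf_Pt_ne_bot hn3 hw j1
  rw [← Pt_eq_of_par hp, ← hvw] at hC
  have := smul_left_cancel β hC
  exact Pt_ne_Hp hn3 hv this.symm

end aut


/-! ### the action of `conjAut g` and of `itAut` on points and hyperplanes -/

section conj

variable {n : ℕ}

local notation "Vn" => Fin n → F

theorem gl_conj_dot (g : GL (Fin n) F) (v φ : Vn) :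
    (φ ᵥ* ((g⁻¹ : GL (Fin n) F) : Matrix (Fin n) (Fin n) F)) ⬝ᵥ
      ((g : Matrix (Fin n) (Fin n) F) *ᵥ v) = φ ⬝ᵥ v := by
  rw [← dotProduct_mulVec, mulVec_mulVec, Units.inv_mul, one_mulVec]

theorem conjAut_tvP (g : GL (Fin n) F) (v φ : Vn) (h : φ ⬝ᵥ v = 0) :
    conjAut g (tvP v φ h) = tvP ((g : Matrix (Fin n) (Fin n) F) *ᵥ v)
      (φ ᵥ* ((g⁻¹ : GL (Fin n) F) : Matrix (Fin n) (Fin n) F))
      ((gl_conj_dot g v φ).trans h) := by
  unfold tvP proj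
  rw [QuotientGroup.mk'_apply, conjAut_mk, QuotientGroup.mk'_apply]
  congr 1
  apply Subtype.ext
  rw [slConj_coe]
  show (g : Matrix (Fin n) (Fin n) F) * tv v φ 1 * _ = tv _ _ 1
  unfold tv
  rw [mul_add, add_mul, mul_one, Units.mul_inv, one_smul, one_smul, mul_vecMulVec, vecMulVec_mul]

theorem conjAut_smul_Pt_le (g : GL (Fin n) F) (v : Vn) :
    conjAut g • Pt v ≤ Pt ((g : Matrix (Fin n) (Fin n) F) *ᵥ v) := by
  intro t ht
  obtain ⟨a, ha, rfl⟩ := (Subgroup.mem_smul_pointwise_iff_exists _ _ _).mp ht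
  obtain ⟨φ, h, rfl⟩ := mem_Pt.mp ha
  rw [MulAut.smul_def, conjAut_tvP]
  exact tvP_mem_Pt _ _ _

theorem conjAut_smul_Pt (g : GL (Fin n) F) (v : Vn) :
    conjAut g • Pt v = Pt ((g : Matrix (Fin n) (Fin n) F) *ᵥ v) := by
  apply le_antisymm (conjAut_smul_Pt_le g v)
  have h1 := conjAut_smul_Pt_le g⁻¹ ((g : Matrix (Fin n) (Fin n) F) *ᵥ v)
  rw [mulVec_mulVec, Units.inv_mul, one_mulVec, map_inv] at h1
  rw [← Subgroup.pointwise_smul_le_pointwise_smul_iff (a := (conjAut g)⁻¹), inv_smul_smul]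
  exact h1

theorem conjAut_smul_Hp_le (g : GL (Fin n) F) (φ : Vn) :
    conjAut g • Hp φ ≤ Hp (φ ᵥ* ((g⁻¹ : GL (Fin n) F) : Matrix (Fin n) (Fin n) F)) := by
  intro t ht
  obtain ⟨a, ha, rfl⟩ := (Subgroup.mem_smul_pointwise_iff_exists _ _ _).mp ht
  obtain ⟨v, h, rfl⟩ := mem_Hp.mp ha
  rw [MulAut.smul_def, conjAut_tvP]
  exact tvP_mem_Hp _ _ _

theorem conjAut_smul_Hp (g : GL (Fin n) F) (φ : Vn) :
    conjAut g • Hp φ = Hp (φ ᵥ* ((g⁻¹ : GL (Fin n) F) : Matrix (Fin n) (Fin n) F)) := by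
  apply le_antisymm (conjAut_smul_Hp_le g φ)
  have h1 := conjAut_smul_Hp_le g⁻¹ (φ ᵥ* ((g⁻¹ : GL (Fin n) F) : Matrix (Fin n) (Fin n) F))
  rw [vecMul_vecMul, inv_inv, Units.inv_mul, vecMul_one, map_inv] at h1
  rw [← Subgroup.pointwise_smul_le_pointwise_smul_iff (a := (conjAut g)⁻¹), inv_smul_smul]
  exact h1

theorem itAut_tvP (v φ : Vn) (h : φ ⬝ᵥ v = 0) :
    (itAut : MulAut (ProjectiveSpecialLinearGroup (Fin n) F)) (tvP v φ h)
      = tvP φ (-v) (by rw [neg_dotProduct, dotProduct_comm, h, neg_zero]) := by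
  unfold tvP proj
  rw [QuotientGroup.mk'_apply, itAut_mk, QuotientGroup.mk'_apply]
  congr 1
  apply Subtype.ext
  rw [slIT_coe, tvS_inv]
  show (tv v φ (-1))ᵀ = tv φ (-v) 1
  unfold tv
  ext i j
  simp [vecMulVec_apply, Matrix.one_apply, eq_comm]
  ring

theorem itAut_mul_self : (itAut : MulAut (ProjectiveSpecialLinearGroup (Fin n) F)) * itAut = 1 := by
  ext x
  induction x using QuotientGroup.induction_on with
  | H s =>
    show itAut (itAut (QuotientGroup.mk s)) = QuotientGroup.mk s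
    rw [itAut_mk, itAut_mk]
    congr 1
    exact slIT.left_inv s

theorem itAut_inv : (itAut : MulAut (ProjectiveSpecialLinearGroup (Fin n) F))⁻¹ = itAut :=
  inv_eq_of_mul_eq_one_left itAut_mul_self

theorem par_neg (v : Vn) : Par v (-v) := ⟨-1, by simp, by simp⟩

theorem itAut_smul_Pt_le (v : Vn) :
    (itAut : MulAut (ProjectiveSpecialLinearGroup (Fin n) F)) • Pt v ≤ Hp v := by
  intro t ht
  obtain ⟨a, ha, rfl⟩ := (Subgroup.mem_smul_pointwise_iff_exists _ _ _).mp ht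
  obtain ⟨φ, h, rfl⟩ := mem_Pt.mp ha
  rw [MulAut.smul_def, itAut_tvP, Hp_eq_of_par (par_neg v)]
  exact tvP_mem_Hp _ _ _

theorem itAut_smul_Hp_le (φ : Vn) :
    (itAut : MulAut (ProjectiveSpecialLinearGroup (Fin n) F)) • Hp φ ≤ Pt φ := by
  intro t ht
  obtain ⟨a, ha, rfl⟩ := (Subgroup.mem_smul_pointwise_iff_exists _ _ _).mp ht
  obtain ⟨v, h, rfl⟩ := mem_Hp.mp ha
  rw [MulAut.smul_def, itAut_tvP]
  exact tvP_mem_Pt _ _ _

theorem itAut_smul_Pt (v : Vn) :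
    (itAut : MulAut (ProjectiveSpecialLinearGroup (Fin n) F)) • Pt v = Hp v := by
  apply le_antisymm (itAut_smul_Pt_le v)
  have h1 := itAut_smul_Hp_le (F := F) v
  rw [← Subgroup.pointwise_smul_le_pointwise_smul_iff (a := (itAut : MulAut (ProjectiveSpecialLinearGroup (Fin n) F))⁻¹),
    inv_smul_smul, itAut_inv]
  exact h1

theorem itAut_smul_Hp (φ : Vn) :
    (itAut : MulAut (ProjectiveSpecialLinearGroup (Fin n) F)) • Hp φ = Pt φ := by
  apply le_antisymm (itAut_smul_Hp_le φ)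
  have h1 := itAut_smul_Pt_le (F := F) φ
  rw [← Subgroup.pointwise_smul_le_pointwise_smul_iff (a := (itAut : MulAut (ProjectiveSpecialLinearGroup (Fin n) F))⁻¹),
    inv_smul_smul, itAut_inv]
  exact h1

end conj


/-! ### normalising the standard frame -/

section frame

variable [Fintype F] {p f : ℕ} [hp : Fact p.Prime] (hF : Fintype.card F = p ^ f)

theorem e_dot_e_eq_zero_iff {n : ℕ} (i j : Fin n) :
    (e j : Fin n → F) ⬝ᵥ (e i : Fin n → F) = 0 ↔ i ≠ j := by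
  rw [e_dot]
  by_cases h : i = j
  · subst h
    simp [e]
  · simp [e, Pi.single_apply, h, Ne.symm h]

/-- an automorphism sending points to points and hyperplanes to hyperplanes fixes the standard
frame after composing with a suitable `conjAut g` -/
theorem exists_frame_GL (β : MulAut Gm)
    (hP : ∀ v : Vm, v ≠ 0 → ∃ w : Vm, w ≠ 0 ∧ β • Pt v = Pt w)
    (hH : ∀ φ : Vm, φ ≠ 0 → ∃ ψ : Vm, ψ ≠ 0 ∧ β • Hp φ = Hp ψ) :
    ∃ g : GL (Fin (m + 3)) F, ∀ i : Fin (m + 3),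
      ((conjAut g)⁻¹ * β) • Pt (e i : Vm) = Pt (e i) ∧
      ((conjAut g)⁻¹ * β) • Hp (e i : Vm) = Hp (e i) := by
  choose w hw hPw using fun i : Fin (m + 3) =>
    hP (e i) (Cfsg.Agent.Lib.Helper5_RootSL.e_ne_zero i)
  choose ψ hψ hHψ using fun j : Fin (m + 3) =>
    hH (e j) (Cfsg.Agent.Lib.Helper5_RootSL.e_ne_zero j)
  have hinc : ∀ i j : Fin (m + 3), ψ j ⬝ᵥ w i = 0 ↔ i ≠ j := by
    intro i j
    rw [← Pt_inf_Hp_ne_bot_iff hn3 (hw i) (hψ j), ← hPw, ← hHψ, smul_inf_ne_bot_iff,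
      Pt_inf_Hp_ne_bot_iff hn3 (Cfsg.Agent.Lib.Helper5_RootSL.e_ne_zero i)
        (Cfsg.Agent.Lib.Helper5_RootSL.e_ne_zero j), e_dot_e_eq_zero_iff]
  set P : Matrix (Fin (m + 3)) (Fin (m + 3)) F := Matrix.of fun k i => w i k with hPdef
  set Q : Matrix (Fin (m + 3)) (Fin (m + 3)) F := Matrix.of fun j k => ψ j k with hQdef
  have hQP : Q * P = Matrix.diagonal fun i => ψ i ⬝ᵥ w i := by
    ext j i
    rw [Matrix.mul_apply]
    by_cases hij : j = i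
    · subst hij
      rw [Matrix.diagonal_apply_eq]
      rfl
    · rw [Matrix.diagonal_apply_ne _ hij]
      exact (hinc i j).mpr (Ne.symm hij)
  have hdetP : P.det ≠ 0 := by
    intro h0
    have h1 : (Q * P).det = 0 := by rw [Matrix.det_mul, h0, mul_zero]
    rw [hQP, Matrix.det_diagonal] at h1
    obtain ⟨i, -, hi⟩ := Finset.prod_eq_zero_iff.mp h1
    exact ((hinc i i).mp hi) rfl
  set g : GL (Fin (m + 3)) F := Matrix.GeneralLinearGroup.mkOfDetNeZero P hdetP with hg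
  have hgP : (g : Matrix (Fin (m + 3)) (Fin (m + 3)) F) = P := rfl
  have hge : ∀ i, (g : Matrix (Fin (m + 3)) (Fin (m + 3)) F) *ᵥ (e i : Vm) = w i := by
    intro i
    rw [hgP, Matrix.mulVec_single_one]
    rfl
  have hrow : ∀ j, Par (ψ j)
      ((e j : Vm) ᵥ* ((g⁻¹ : GL (Fin (m + 3)) F) : Matrix (Fin (m + 3)) (Fin (m + 3)) F)) := by
    intro j
    have hl : ψ j ⬝ᵥ w j ≠ 0 := fun h => ((hinc j j).mp h) rfl
    refine ⟨(ψ j ⬝ᵥ w j)⁻¹, inv_ne_zero hl, ?_⟩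
    have h1 : ψ j ᵥ* P = (ψ j ⬝ᵥ w j) • (e j : Vm) := by
      have h2 : ψ j ᵥ* P = (Q * P).row j := by
        funext i
        rfl
      rw [h2, hQP]
      funext i
      by_cases hij : j = i
      · subst hij
        simp [Matrix.row, e]
      · simp [Matrix.row, e, Pi.single_apply, hij, Ne.symm hij, Matrix.diagonal_apply_ne _ hij]
    have h3 : ψ j = (ψ j ⬝ᵥ w j) •
        ((e j : Vm) ᵥ* ((g⁻¹ : GL (Fin (m + 3)) F) : Matrix (Fin (m + 3)) (Fin (m + 3)) F)) := by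
      have h4 := congrArg (fun r : Vm =>
        r ᵥ* ((g⁻¹ : GL (Fin (m + 3)) F) : Matrix (Fin (m + 3)) (Fin (m + 3)) F)) h1
      simp only [vecMul_vecMul] at h4
      rw [← hgP, Units.mul_inv, vecMul_one, smul_vecMul] at h4
      exact h4
    rw [eq_inv_smul_iff₀ hl]
    exact h3.symm
  refine ⟨g, fun i => ⟨?_, ?_⟩⟩
  · rw [mul_smul, hPw, ← hge, ← conjAut_smul_Pt, inv_smul_smul]
  · rw [mul_smul, hHψ, Hp_eq_of_par (hrow i), ← conjAut_smul_Hp, inv_smul_smul]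

end frame

end Cfsg.Agent.Lib.Helper44_PSLnFrame
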