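import Mathlib
import Cfsg.Agent.Lib.Helper5_SLGen
import Cfsg.Agent.Lib.Helper44_PSLnFrame

/-!
# Automorphisms of `PSL_n(F)` fixing the standard frame (helper44)

An automorphism `β` fixing all `Pt (e i)` and `Hp (e j)` maps the root element `xr hij a` to
`xr hij (fr a)`; the commutator relations make `fr` a diagonal twist of a field automorphism.
-/

set_option autoImplicit false
set_option linter.unusedSectionVars false
set_option linter.unusedVariables false
set_option linter.unusedSimpArgs false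

namespace Cfsg.Agent.Lib.Helper44_PSLnRoot

open Matrix Cfsg.Agent.Lib.Helper5_Transv Cfsg.Agent.Lib.Helper44_PSLnUT
  Cfsg.Agent.Lib.Helper44_PSLnTv Cfsg.Agent.Lib.Helper44_PSLnSyl Cfsg.Agent.Lib.Helper14_PSLAut
  Cfsg.Agent.Lib.Helper44_PSLnFrame
open scoped Pointwise commutatorElement

variable {F : Type*} [Field F] {n : ℕ}

local notation "Gn" => Matrix.ProjectiveSpecialLinearGroup (Fin n) F
local notation "Vn" => Fin n → F

/-- root elements of `PSL_n` -/
def xr {i j : Fin n} (hij : i ≠ j) (a : F) : Gn :=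
  proj (Matrix.SpecialLinearGroup.transvection hij a)

theorem xr_eq_tvP {i j : Fin n} (hij : i ≠ j) (a : F) :
    xr hij a = tvP (a • (e i : Vn)) (e j)
      (by rw [dotProduct_smul, Cfsg.Agent.Lib.Helper5_RootSL.e_dot_e hij, smul_zero]) := by
  unfold xr tvP
  congr 1
  rw [Cfsg.Agent.Lib.Helper5_RootSL.transvection_eq_tvS]
  apply Subtype.ext
  show tv _ _ a = tv _ _ 1
  rw [tv_smul_left, one_mul]

theorem xr_add {i j : Fin n} (hij : i ≠ j) (a b : F) :
    xr hij (a + b) = xr hij a * xr hij b := by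
  unfold xr
  rw [Matrix.SpecialLinearGroup.transvection_add, map_mul]

theorem xr_zero {i j : Fin n} (hij : i ≠ j) : xr hij (0 : F) = 1 := by
  have h := xr_add hij (0 : F) 0
  rw [add_zero] at h
  exact (mul_eq_left.mp h.symm)

theorem xr_injective (hn : 3 ≤ n) {i j : Fin n} (hij : i ≠ j) {a b : F}
    (h : xr hij a = xr hij b) : a = b := by
  rw [xr_eq_tvP, xr_eq_tvP, tvP_eq_iff hn] at h
  have := congrFun (congrFun h i) j
  simpa [vecMulVec_apply, e] using this

theorem xr_mem (i j : Fin n) (hij : i ≠ j) (a : F) :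
    xr hij a ∈ Pt (e i : Vn) ⊓ Hp (e j : Vn) := by
  rw [xr_eq_tvP]
  constructor
  · have hp : Par (e i : Vn) (a • e i) ∨ a = 0 := by
      by_cases ha : a = 0
      · exact Or.inr ha
      · exact Or.inl ⟨a, ha, rfl⟩
    rcases hp with hp | ha
    · rw [Pt_eq_of_par hp]
      exact tvP_mem_Pt _ _ _
    · subst ha
      have : tvP ((0 : F) • (e i : Vn)) (e j)
          (by rw [dotProduct_smul, Cfsg.Agent.Lib.Helper5_RootSL.e_dot_e hij, smul_zero]) = 1 := by
        rw [← xr_eq_tvP hij, xr_zero]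
      rw [this]
      exact Subgroup.one_mem _
  · exact tvP_mem_Hp _ _ _

theorem exists_xr_of_mem (hn : 3 ≤ n) {i j : Fin n} (hij : i ≠ j) {t : Gn}
    (ht : t ∈ Pt (e i : Vn) ⊓ Hp (e j : Vn)) : ∃ a : F, t = xr hij a := by
  obtain ⟨φ, h1, e1⟩ := mem_Pt.mp ht.1
  obtain ⟨v, h2, e2⟩ := mem_Hp.mp ht.2
  have h3 : vecMulVec (e i : Vn) φ = vecMulVec v (e j : Vn) := by
    rw [← tvP_eq_iff hn _ _ _ _ h1 h2, ← e1, ← e2]
  refine ⟨v i, ?_⟩
  rw [e1, xr_eq_tvP]
  apply tvP_congr
  ext k l
  have h4 := congrFun (congrFun h3 k) l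
  have h5 := congrFun (congrFun h3 i) l
  simp only [vecMulVec_apply] at h4 h5 ⊢
  by_cases hk : k = i
  · subst hk
    simp [e] at h4 h5 ⊢
    rw [h4]
  · simp [e, Pi.single_apply, hk] at h4 ⊢


/-! ### automorphisms fixing the frame -/

/-- `β` fixes every coordinate point and coordinate hyperplane -/
def FixesFrame (β : MulAut Gn) : Prop :=
  ∀ i : Fin n, β • Pt (e i : Vn) = Pt (e i) ∧ β • Hp (e i : Vn) = Hp (e i)

theorem FixesFrame.inv {β : MulAut Gn} (h : FixesFrame β) : FixesFrame β⁻¹ := by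
  intro i
  constructor
  · rw [inv_smul_eq_iff, (h i).1]
  · rw [inv_smul_eq_iff, (h i).2]

theorem FixesFrame.mul {β γ : MulAut Gn} (h : FixesFrame β) (h' : FixesFrame γ) :
    FixesFrame (β * γ) := by
  intro i
  constructor
  · rw [mul_smul, (h' i).1, (h i).1]
  · rw [mul_smul, (h' i).2, (h i).2]

theorem FixesFrame.exists_xr (hn : 3 ≤ n) {β : MulAut Gn} (h : FixesFrame β) {i j : Fin n}
    (hij : i ≠ j) (a : F) : ∃ b : F, β (xr hij a) = xr hij b := by
  apply exists_xr_of_mem hn hij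
  have h1 : β • (Pt (e i : Vn) ⊓ Hp (e j : Vn)) = Pt (e i : Vn) ⊓ Hp (e j : Vn) := by
    rw [Subgroup.smul_inf, (h i).1, (h j).2]
  rw [← h1]
  exact (Subgroup.mem_smul_pointwise_iff_exists _ _ _).mpr ⟨_, xr_mem i j hij a, rfl⟩

/-- the induced maps on root groups -/
noncomputable def fr (hn : 3 ≤ n) {β : MulAut Gn} (h : FixesFrame β) {i j : Fin n}
    (hij : i ≠ j) (a : F) : F := (h.exists_xr hn hij a).choose

theorem fr_spec (hn : 3 ≤ n) {β : MulAut Gn} (h : FixesFrame β) {i j : Fin n}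
    (hij : i ≠ j) (a : F) : β (xr hij a) = xr hij (fr hn h hij a) :=
  (h.exists_xr hn hij a).choose_spec

theorem fr_add (hn : 3 ≤ n) {β : MulAut Gn} (h : FixesFrame β) {i j : Fin n}
    (hij : i ≠ j) (a b : F) : fr hn h hij (a + b) = fr hn h hij a + fr hn h hij b := by
  apply xr_injective hn hij
  rw [← fr_spec, xr_add, map_mul, fr_spec hn h, fr_spec hn h, ← xr_add]

theorem fr_zero (hn : 3 ≤ n) {β : MulAut Gn} (h : FixesFrame β) {i j : Fin n}
    (hij : i ≠ j) : fr hn h hij (0 : F) = 0 := by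
  have := fr_add hn h hij 0 0
  rw [add_zero] at this
  exact left_eq_add.mp this

theorem fr_injective (hn : 3 ≤ n) {β : MulAut Gn} (h : FixesFrame β) {i j : Fin n}
    (hij : i ≠ j) : Function.Injective (fr hn h hij) := by
  intro a b hab
  apply xr_injective hn hij
  apply β.injective
  rw [fr_spec hn h, fr_spec hn h, hab]

theorem fr_surjective (hn : 3 ≤ n) {β : MulAut Gn} (h : FixesFrame β) {i j : Fin n}
    (hij : i ≠ j) : Function.Surjective (fr hn h hij) := by
  intro b
  refine ⟨fr hn h.inv hij b, ?_⟩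
  apply xr_injective hn hij
  rw [← fr_spec hn h, ← fr_spec hn h.inv]
  simp

theorem xr_commutator {i j k : Fin n} (hij : i ≠ j) (hik : i ≠ k) (hjk : j ≠ k) (a b : F) :
    ⁅xr hij a, xr hjk b⁆ = xr hik (a * b) := by
  unfold xr
  rw [← map_commutatorElement,
    Cfsg.Agent.Lib.Helper5_SLGen.commutator_transvection_transvection hik hij hjk]

theorem fr_mul (hn : 3 ≤ n) {β : MulAut Gn} (h : FixesFrame β) {i j k : Fin n}
    (hij : i ≠ j) (hik : i ≠ k) (hjk : j ≠ k) (a b : F) :
    fr hn h hik (a * b) = fr hn h hij a * fr hn h hjk b := by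
  apply xr_injective hn hik
  rw [← fr_spec, ← xr_commutator hij hik hjk, map_commutatorElement, fr_spec hn h, fr_spec hn h,
    xr_commutator hij hik hjk]


/-! ### field automorphisms of `PSL_n` -/

/-- the entrywise field automorphism of `SL_n` -/
def fieldSL (σ : F ≃+* F) : Matrix.SpecialLinearGroup (Fin n) F ≃* Matrix.SpecialLinearGroup (Fin n) F where
  toFun := Matrix.SpecialLinearGroup.map (σ : F →+* F)
  invFun := Matrix.SpecialLinearGroup.map (σ.symm : F →+* F)
  left_inv s := by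
    apply Subtype.ext
    ext i j
    show σ.symm (σ (s.1 i j)) = s.1 i j
    simp
  right_inv s := by
    apply Subtype.ext
    ext i j
    show σ (σ.symm (s.1 i j)) = s.1 i j
    simp
  map_mul' := map_mul _

theorem fieldSL_coe (σ : F ≃+* F) (s : Matrix.SpecialLinearGroup (Fin n) F) :
    (fieldSL σ s).1 = s.1.map σ := rfl

/-- the standard field automorphism of `PSL_n` -/
def fieldAut (σ : F ≃+* F) : MulAut Gn := descend (fieldSL σ)

theorem fieldAut_proj (σ : F ≃+* F) (s : Matrix.SpecialLinearGroup (Fin n) F) :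
    fieldAut σ (proj s) = proj (fieldSL σ s) := rfl

theorem isStdFieldAut_fieldAut (σ : F ≃+* F) : Cfsg.IsStdFieldAutPSL σ (fieldAut (n := n) σ) := by
  intro s s' hs
  show fieldAut σ (proj s) = proj s'
  rw [fieldAut_proj]
  congr 1
  apply Subtype.ext
  rw [hs]
  rfl

theorem fieldAut_xr (σ : F ≃+* F) {i j : Fin n} (hij : i ≠ j) (a : F) :
    fieldAut σ (xr hij a) = xr hij (σ a) := by
  unfold xr
  rw [fieldAut_proj]
  congr 1
  apply Subtype.ext
  rw [fieldSL_coe, Matrix.SpecialLinearGroup.transvection_coe,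
    Matrix.SpecialLinearGroup.transvection_coe]
  ext k l
  simp only [Matrix.transvection, Matrix.map_apply, Matrix.add_apply, Matrix.one_apply,
    Matrix.single_apply]
  rw [map_add, apply_ite σ, apply_ite σ, map_one, map_zero]

/-- two automorphisms agreeing on all root elements are equal -/
theorem aut_ext_xr (hn : 2 ≤ n) (β γ : MulAut Gn)
    (h : ∀ (i j : Fin n) (hij : i ≠ j) (a : F), β (xr hij a) = γ (xr hij a)) : β = γ := by
  have : Nontrivial (Fin n) := Fin.nontrivial_iff_two_le.mpr hn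
  ext x
  obtain ⟨s, rfl⟩ := proj_surjective x
  refine Cfsg.Agent.Lib.Helper5_SLGen.transvection_induction
    (fun s => β (proj s) = γ (proj s)) ?_ ?_ s
  · intro i j hij c
    exact h i j hij c
  · intro A B hA hB
    show β (proj (A * B)) = γ (proj (A * B))
    rw [map_mul, map_mul, map_mul, hA, hB]

theorem itAut_mul_fieldAut (σ : F ≃+* F) :
    (itAut : MulAut Gn) * fieldAut σ = fieldAut σ * itAut := by
  ext x
  obtain ⟨s, rfl⟩ := proj_surjective x
  show itAut (fieldAut σ (proj s)) = fieldAut σ (itAut (proj s))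
  rw [fieldAut_proj]
  unfold proj
  rw [QuotientGroup.mk'_apply, QuotientGroup.mk'_apply, itAut_mk, itAut_mk]
  show _ = fieldAut σ (proj (slIT s))
  rw [fieldAut_proj]
  unfold proj
  rw [QuotientGroup.mk'_apply]
  congr 1
  apply Subtype.ext
  rw [slIT_coe, fieldSL_coe, slIT_coe, ← map_inv, fieldSL_coe]
  rfl

end Cfsg.Agent.Lib.Helper44_PSLnRoot
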