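import Mathlib
import Cfsg.Agent.Lib.Helper44_PSLnRoot

/-!
# The automorphism theorem for `PSL_n(F)`, `n ≥ 3`, `F` finite (helper44)

`aut_PSLn`: every automorphism is `conjAut g * fieldAut σ * (itAut or 1)`.
-/

set_option autoImplicit false
set_option linter.unusedSectionVars false
set_option linter.unusedVariables false
set_option linter.unusedSimpArgs false

namespace Cfsg.Agent.Lib.Helper44_PSLnAut

open Matrix Cfsg.Agent.Lib.Helper5_Transv Cfsg.Agent.Lib.Helper44_PSLnUT
  Cfsg.Agent.Lib.Helper44_PSLnTv Cfsg.Agent.Lib.Helper44_PSLnSyl Cfsg.Agent.Lib.Helper14_PSLAut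
  Cfsg.Agent.Lib.Helper44_PSLnFrame Cfsg.Agent.Lib.Helper44_PSLnRoot
open scoped Pointwise commutatorElement

variable {F : Type*} [Field F] {n : ℕ}

local notation "Gn" => Matrix.ProjectiveSpecialLinearGroup (Fin n) F
local notation "Vn" => Fin n → F

/-- diagonal elements of `GL_n` -/
def diagGL (d : Fin n → Fˣ) : GL (Fin n) F :=
  ⟨Matrix.diagonal fun i => (d i : F), Matrix.diagonal fun i => ((d i)⁻¹ : Fˣ),
    by rw [Matrix.diagonal_mul_diagonal]; simp, by rw [Matrix.diagonal_mul_diagonal]; simp⟩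

theorem diagGL_coe (d : Fin n → Fˣ) :
    ((diagGL d : GL (Fin n) F) : Matrix (Fin n) (Fin n) F) = Matrix.diagonal fun i => (d i : F) :=
  rfl

theorem diagGL_inv_coe (d : Fin n → Fˣ) :
    (((diagGL d)⁻¹ : GL (Fin n) F) : Matrix (Fin n) (Fin n) F)
      = Matrix.diagonal fun i => (((d i)⁻¹ : Fˣ) : F) :=
  rfl

theorem conjAut_diagGL_xr (d : Fin n → Fˣ) {i j : Fin n} (hij : i ≠ j) (a : F) :
    conjAut (diagGL d) (xr hij a) = xr hij ((d i : F) * a * (((d j)⁻¹ : Fˣ) : F)) := by
  unfold xr proj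
  rw [QuotientGroup.mk'_apply, conjAut_mk, QuotientGroup.mk'_apply]
  congr 1
  apply Subtype.ext
  rw [slConj_coe, diagGL_coe, diagGL_inv_coe, Matrix.SpecialLinearGroup.transvection_coe,
    Matrix.SpecialLinearGroup.transvection_coe]
  ext k l
  rw [Matrix.mul_diagonal, Matrix.diagonal_mul]
  simp only [Matrix.transvection, Matrix.add_apply, Matrix.one_apply, Matrix.single_apply]
  by_cases h1 : k = l
  · subst h1
    by_cases h2 : i = k ∧ j = k
    · exact absurd (h2.1.trans h2.2.symm) hij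
    · simp [h2]
  · by_cases h2 : i = k ∧ j = l
    · obtain ⟨rfl, rfl⟩ := h2
      simp [h1]
    · simp [h1, h2]


/-! ### automorphisms fixing the frame are diagonal times field -/

section fixes

variable (hn : 3 ≤ n) {β : MulAut (Matrix.ProjectiveSpecialLinearGroup (Fin n) F)} (h : FixesFrame β)

/-- the constants `c_ij` -/
noncomputable def cc (i j : Fin n) : F := if hij : i ≠ j then fr hn h hij 1 else 1

theorem cc_of_ne {i j : Fin n} (hij : i ≠ j) : cc hn h i j = fr hn h hij 1 := dif_pos hij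

theorem cc_self (i : Fin n) : cc hn h i i = 1 := dif_neg (by simp)

theorem cc_ne_zero (i j : Fin n) : cc hn h i j ≠ 0 := by
  by_cases hij : i ≠ j
  · rw [cc_of_ne hn h hij]
    intro h0
    have := fr_injective hn h hij (h0.trans (fr_zero hn h hij).symm)
    exact one_ne_zero this
  · rw [not_not] at hij
    subst hij
    rw [cc_self]
    exact one_ne_zero

theorem cc_mul {i j k : Fin n} (hij : i ≠ j) (hik : i ≠ k) (hjk : j ≠ k) :
    cc hn h i k = cc hn h i j * cc hn h j k := by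
  rw [cc_of_ne hn h hij, cc_of_ne hn h hik, cc_of_ne hn h hjk, ← fr_mul hn h hij hik hjk, one_mul]

theorem cc_mul_symm {i j : Fin n} (hij : i ≠ j) : cc hn h i j * cc hn h j i = 1 := by
  obtain ⟨k, hki, hkj⟩ := Fin.exists_ne_and_ne_of_two_lt i j (by omega)
  have h1 := cc_mul hn h hij hki.symm hkj.symm
  have h2 := cc_mul hn h hij.symm hkj.symm hki.symm
  have h3 := cc_ne_zero hn h i k
  rw [h2, ← mul_assoc] at h1
  apply mul_right_cancel₀ h3
  rw [one_mul]
  exact h1.symm

/-- the normalised maps on root groups -/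
noncomputable def sg {i j : Fin n} (hij : i ≠ j) (a : F) : F :=
  fr hn h hij a * (cc hn h i j)⁻¹

theorem fr_eq {i j : Fin n} (hij : i ≠ j) (a : F) :
    fr hn h hij a = cc hn h i j * sg hn h hij a := by
  unfold sg
  rw [mul_comm (fr hn h hij a), ← mul_assoc, mul_inv_cancel₀ (cc_ne_zero hn h i j), one_mul]

theorem sg_first {i j k : Fin n} (hij : i ≠ j) (hik : i ≠ k) (hjk : j ≠ k) (a : F) :
    sg hn h hik a = sg hn h hij a := by
  unfold sg
  have h1 := fr_mul hn h hij hik hjk a 1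
  rw [mul_one, ← cc_of_ne hn h hjk] at h1
  have h2 := cc_ne_zero hn h i j
  have h3 := cc_ne_zero hn h j k
  rw [h1, cc_mul hn h hij hik hjk]
  field_simp

theorem sg_second {i j k : Fin n} (hij : i ≠ j) (hik : i ≠ k) (hjk : j ≠ k) (b : F) :
    sg hn h hik b = sg hn h hjk b := by
  unfold sg
  have h1 := fr_mul hn h hij hik hjk 1 b
  rw [one_mul, ← cc_of_ne hn h hij] at h1
  have h2 := cc_ne_zero hn h i j
  have h3 := cc_ne_zero hn h j k
  rw [h1, cc_mul hn h hij hik hjk]
  field_simp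

theorem sg_symm {i j : Fin n} (hij : i ≠ j) (a : F) : sg hn h hij a = sg hn h hij.symm a := by
  obtain ⟨t, hti, htj⟩ := Fin.exists_ne_and_ne_of_two_lt i j (by omega)
  rw [sg_first hn h hti.symm hij htj a, sg_second hn h hij hti.symm htj.symm a,
    sg_first hn h htj.symm hij.symm hti a]

theorem sg_eq {i j k l : Fin n} (hij : i ≠ j) (hkl : k ≠ l) (a : F) :
    sg hn h hij a = sg hn h hkl a := by
  by_cases hlj : l = j
  · subst hlj
    by_cases hki : k = i
    · subst hki
      rfl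
    · exact sg_second hn h (Ne.symm hki) hij hkl a
  by_cases hki : k = i
  · subst hki
    exact sg_first hn h hkl hij hlj a
  by_cases hli : l = i
  · subst hli
    rw [sg_symm hn h hij a]
    by_cases hkj : k = j
    · subst hkj
      rfl
    · exact sg_second hn h (Ne.symm hkj) hij.symm hkl a
  · rw [← sg_first hn h hij (Ne.symm hli) (Ne.symm hlj) a]
    exact sg_second hn h (Ne.symm hki) (Ne.symm hli) hkl a

theorem sg_add {i j : Fin n} (hij : i ≠ j) (a b : F) :
    sg hn h hij (a + b) = sg hn h hij a + sg hn h hij b := by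
  unfold sg
  rw [fr_add, add_mul]

theorem sg_zero {i j : Fin n} (hij : i ≠ j) : sg hn h hij 0 = 0 := by
  unfold sg
  rw [fr_zero, zero_mul]

theorem sg_one {i j : Fin n} (hij : i ≠ j) : sg hn h hij 1 = 1 := by
  unfold sg
  rw [← cc_of_ne hn h hij, mul_inv_cancel₀ (cc_ne_zero hn h i j)]

theorem sg_mul {i j : Fin n} (hij : i ≠ j) (a b : F) :
    sg hn h hij (a * b) = sg hn h hij a * sg hn h hij b := by
  obtain ⟨k, hki, hkj⟩ := Fin.exists_ne_and_ne_of_two_lt i j (by omega)
  have h1 : sg hn h hki.symm (a * b) = sg hn h hij a * sg hn h hkj.symm b := by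
    unfold sg
    have h2 := cc_ne_zero hn h i j
    have h3 := cc_ne_zero hn h j k
    rw [fr_mul hn h hij hki.symm hkj.symm a b, cc_mul hn h hij hki.symm hkj.symm]
    field_simp
  rw [sg_eq hn h hij hki.symm (a * b), h1, sg_eq hn h hkj.symm hij b]

theorem sg_bijective {i j : Fin n} (hij : i ≠ j) : Function.Bijective (sg hn h hij) := by
  constructor
  · intro a b hab
    unfold sg at hab
    exact fr_injective hn h hij (mul_right_cancel₀ (inv_ne_zero (cc_ne_zero hn h i j)) hab)
  · intro b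
    obtain ⟨a, ha⟩ := fr_surjective hn h hij (b * cc hn h i j)
    refine ⟨a, ?_⟩
    unfold sg
    rw [ha, mul_assoc, mul_inv_cancel₀ (cc_ne_zero hn h i j), mul_one]

/-- the field automorphism attached to `β` -/
noncomputable def sgEquiv {i j : Fin n} (hij : i ≠ j) : F ≃+* F :=
  RingEquiv.ofBijective
    ({ toFun := sg hn h hij
       map_one' := sg_one hn h hij
       map_mul' := sg_mul hn h hij
       map_zero' := sg_zero hn h hij
       map_add' := sg_add hn h hij } : F →+* F) (sg_bijective hn h hij)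

theorem sgEquiv_apply {i j : Fin n} (hij : i ≠ j) (a : F) :
    sgEquiv hn h hij a = sg hn h hij a := rfl

/-- the diagonal entries attached to `β` -/
noncomputable def dd (i0 : Fin n) (i : Fin n) : Fˣ := Units.mk0 (cc hn h i i0) (cc_ne_zero hn h i i0)

theorem cc_eq_dd (i0 : Fin n) (i j : Fin n) :
    cc hn h i j = (dd hn h i0 i : F) * (((dd hn h i0 j)⁻¹ : Fˣ) : F) := by
  unfold dd
  rw [Units.val_inv_eq_inv_val, Units.val_mk0, Units.val_mk0]
  rw [eq_mul_inv_iff_mul_eq₀ (cc_ne_zero hn h j i0)]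
  by_cases hij : i = j
  · subst hij
    rw [cc_self, one_mul]
  by_cases hj : j = i0
  · subst hj
    rw [cc_self, mul_one]
  by_cases hi : i = i0
  · subst hi
    rw [cc_self, cc_mul_symm hn h hij]
  · exact (cc_mul hn h hij hi hj).symm

include hn h in
theorem fixesFrame_eq : ∃ (d : Fin n → Fˣ) (σ : F ≃+* F), β = conjAut (diagGL d) * fieldAut σ := by
  have h01 : (⟨0, by omega⟩ : Fin n) ≠ ⟨1, by omega⟩ := by
    intro h'
    simpa using congrArg Fin.val h'
  refine ⟨dd hn h ⟨0, by omega⟩, sgEquiv hn h h01, ?_⟩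
  apply aut_ext_xr (by omega)
  intro i j hij a
  rw [MulAut.mul_apply, fieldAut_xr, conjAut_diagGL_xr, fr_spec hn h, fr_eq,
    cc_eq_dd hn h ⟨0, by omega⟩ i j, sgEquiv_apply, sg_eq hn h hij h01 a]
  congr 1
  ring

end fixes


/-! ### the main theorem -/

section main

variable [Fintype F] {p f : ℕ} [hp : Fact p.Prime] (hF : Fintype.card F = p ^ f) {m : ℕ}
include hF

local notation "Gm" => Matrix.ProjectiveSpecialLinearGroup (Fin (m + 3)) F
local notation "Vm" => Fin (m + 3) → F

theorem aut_of_Pt (β : MulAut (Matrix.ProjectiveSpecialLinearGroup (Fin (m + 3)) F)) {w0 : Vm}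
    (hw0 : w0 ≠ 0) (h0 : β • Pt (e 0 : Vm) = Pt w0) :
    ∃ (g : GL (Fin (m + 3)) F) (σ : F ≃+* F), β = conjAut g * fieldAut σ := by
  have hP : ∀ v : Vm, v ≠ 0 → ∃ w : Vm, w ≠ 0 ∧ β • Pt v = Pt w := fun v hv =>
    smul_Pt_of_one hF β (Cfsg.Agent.Lib.Helper5_RootSL.e_ne_zero 0) hw0 h0 hv
  have hH : ∀ φ : Vm, φ ≠ 0 → ∃ ψ : Vm, ψ ≠ 0 ∧ β • Hp φ = Hp ψ := fun φ hφ =>
    smul_Hp_of_one hF β (Cfsg.Agent.Lib.Helper5_RootSL.e_ne_zero 0) hw0 h0 hφ
  obtain ⟨g, hg⟩ := exists_frame_GL β hP hH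
  obtain ⟨d, σ, hd⟩ := fixesFrame_eq hn3 hg
  refine ⟨g * diagGL d, σ, ?_⟩
  rw [map_mul, mul_assoc, ← hd, mul_inv_cancel_left]

/-- **Automorphisms of `PSL_n(F)`**, `n ≥ 3`, `F` finite: every automorphism is a product of an
inner-diagonal one, a field one and possibly the inverse transpose. -/
theorem aut_PSLn (β : MulAut (Matrix.ProjectiveSpecialLinearGroup (Fin (m + 3)) F)) :
    ∃ (g : GL (Fin (m + 3)) F) (σ : F ≃+* F) (ε : Bool),
      β = conjAut g * fieldAut σ * (if ε then itAut else 1) := by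
  rcases smul_Pt_cases hF β (Cfsg.Agent.Lib.Helper5_RootSL.e_ne_zero (0 : Fin (m + 3)))
    with ⟨w, hw, h0⟩ | ⟨ψ, hψ, h0⟩
  · obtain ⟨g, σ, h⟩ := aut_of_Pt hF β hw h0
    exact ⟨g, σ, false, by simpa using h⟩
  · have h1 : (itAut * β) • Pt (e 0 : Vm) = Pt ψ := by rw [mul_smul, h0, itAut_smul_Hp]
    obtain ⟨g, σ, h⟩ := aut_of_Pt hF (itAut * β) hψ h1
    refine ⟨(glT g)⁻¹, σ, true, ?_⟩
    have h2 : β = itAut * (conjAut g * fieldAut σ) := by
      rw [← h, ← mul_assoc, itAut_mul_self, one_mul]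
    have h3 : (itAut : MulAut Gm) * fieldAut σ = fieldAut σ * itAut := itAut_mul_fieldAut σ
    rw [h2, if_pos rfl, ← itAut_conj, itAut_inv]
    calc itAut * (conjAut g * fieldAut σ)
        = itAut * conjAut g * (fieldAut σ * (itAut * itAut)) := by
          rw [itAut_mul_self, mul_one, mul_assoc]
      _ = itAut * conjAut g * ((fieldAut σ * itAut) * itAut) := by simp only [mul_assoc]
      _ = itAut * conjAut g * ((itAut * fieldAut σ) * itAut) := by rw [h3]
      _ = itAut * conjAut g * itAut * fieldAut σ * itAut := by simp only [mul_assoc]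

end main

end Cfsg.Agent.Lib.Helper44_PSLnAut
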