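import Mathlib
import Cfsg.Agent.Lib.Helper42_AutPSL2
import Cfsg.Agent.Lib.Helper44_PSLnAut

/-!
# The automorphism theorem for `PSL_n(F)`, all `n ≥ 2` (helper44)

Translates helper42's `aut_classification` (n = 2) into the `conjAut`/`fieldAut` language and
combines it with `aut_PSLn`.
-/

set_option autoImplicit false
set_option linter.unusedSectionVars false
set_option linter.unusedVariables false
set_option linter.unusedSimpArgs false

namespace Cfsg.Agent.Lib.Helper44_PSL2Aut

open Matrix Cfsg.Agent.Lib.Helper14_PSLAut Cfsg.Agent.Lib.Helper44_PSLnRoot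
  Cfsg.Agent.Lib.Helper44_PSLnAut

variable {F : Type*} [Field F]

/-- conjugation by the class of `s` is `conjAut` of `s` viewed in `GL` -/
theorem conj_mk_eq {n : ℕ} (s : Matrix.SpecialLinearGroup (Fin n) F) :
    (MulAut.conj (QuotientGroup.mk s : Matrix.ProjectiveSpecialLinearGroup (Fin n) F))
      = conjAut (Matrix.SpecialLinearGroup.toGL s) := by
  ext x
  induction x using QuotientGroup.induction_on with
  | H t =>
    rw [conjAut_mk, MulAut.conj_apply]
    show (QuotientGroup.mk (s * t * s⁻¹) : Matrix.ProjectiveSpecialLinearGroup (Fin n) F) = _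
    congr 1

theorem descend_dEquiv_eq (c : Fˣ) :
    Cfsg.Agent.Lib.Helper42_AutPSL2.descend (Cfsg.Agent.Lib.Helper42_AutPSL2.dEquiv c)
      = conjAut (diagGL ![c, 1]) := by
  ext x
  induction x using QuotientGroup.induction_on with
  | H t =>
    rw [conjAut_mk]
    show (QuotientGroup.mk (Cfsg.Agent.Lib.Helper42_AutPSL2.dMap c t) :
      Matrix.ProjectiveSpecialLinearGroup (Fin 2) F) = _
    congr 1
    apply Subtype.ext
    rw [slConj_coe, diagGL_coe, diagGL_inv_coe, Cfsg.Agent.Lib.Helper42_AutPSL2.dMap_coe]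
    ext i j
    rw [Matrix.mul_diagonal, Matrix.diagonal_mul]
    fin_cases i <;> fin_cases j <;> simp <;> field_simp

theorem descend_fEquiv_eq (σ : F ≃+* F) :
    Cfsg.Agent.Lib.Helper42_AutPSL2.descend (Cfsg.Agent.Lib.Helper42_AutPSL2.fEquiv σ)
      = fieldAut σ := rfl

variable [Fintype F] {p f : ℕ} [hp : Fact p.Prime] (hF : Fintype.card F = p ^ f)
include hF

theorem aut_PSL2 (β : MulAut (Matrix.ProjectiveSpecialLinearGroup (Fin 2) F)) :
    ∃ (g : GL (Fin 2) F) (σ : F ≃+* F), β = conjAut g * fieldAut σ := by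
  obtain ⟨h, c, σ, hβ⟩ := Cfsg.Agent.Lib.Helper42_AutPSL2.aut_classification hF β
  obtain ⟨s, rfl⟩ := Cfsg.Agent.Lib.Helper42_SL2Class.proj_surjective h
  refine ⟨Matrix.SpecialLinearGroup.toGL s * diagGL ![c, 1], σ, ?_⟩
  rw [hβ, descend_dEquiv_eq, descend_fEquiv_eq, map_mul]
  congr 2
  exact conj_mk_eq s

/-- **Automorphisms of `PSL_n(F)`**, `n ≥ 2`, `F` finite. -/
theorem aut_PSL {n : ℕ} (hn : 2 ≤ n) (β : MulAut (Matrix.ProjectiveSpecialLinearGroup (Fin n) F)) :
    ∃ (g : GL (Fin n) F) (σ : F ≃+* F) (ε : Bool),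
      β = conjAut g * fieldAut σ * (if ε then itAut else 1) := by
  rcases Nat.lt_or_ge n 3 with h3 | h3
  · have h2 : n = 2 := by omega
    subst h2
    obtain ⟨g, σ, h⟩ := aut_PSL2 hF β
    exact ⟨g, σ, false, by simpa using h⟩
  · obtain ⟨m, rfl⟩ : ∃ m, n = m + 3 := ⟨n - 3, by omega⟩
    exact aut_PSLn hF β

end Cfsg.Agent.Lib.Helper44_PSL2Aut
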