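import Mathlib
import Cfsg.Agent.Lib.Helper44_PSL2Aut
import Cfsg.Agent.Lib.Helper14_PSLGraph

set_option autoImplicit false
set_option linter.unusedSectionVars false

/-!
Field automorphisms of `PSL_n(F)`: interaction with `conjAut`, faithfulness, and the involution of a finite
field (helper14; `fieldAut` is helper44's).
-/

namespace Cfsg.Agent.Lib.Helper14_FieldAutPSL

open Matrix Cfsg.Agent.Lib.Helper14_PSLAut Cfsg.Agent.Lib.Helper14_PSLGraph
  Cfsg.Agent.Lib.Helper44_PSLnRoot

variable {F : Type*} [Field F] {n : ℕ}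

local notation "PSLn" => Matrix.ProjectiveSpecialLinearGroup (Fin n) F
local notation "SLn" => Matrix.SpecialLinearGroup (Fin n) F
local notation "Mn" => Matrix (Fin n) (Fin n) F

theorem fieldAut_mk (σ : F ≃+* F) (s : SLn) :
    fieldAut σ (QuotientGroup.mk s : PSLn) = QuotientGroup.mk (fieldSL σ s) := rfl

/-- Entrywise field automorphism on `GL_n`. -/
def glMap (σ : F ≃+* F) : GL (Fin n) F →* GL (Fin n) F := Matrix.GeneralLinearGroup.map (σ : F →+* F)

theorem glMap_coe (σ : F ≃+* F) (g : GL (Fin n) F) :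
    ((glMap σ g : GL (Fin n) F) : Mn) = (g : Mn).map σ := rfl

theorem fieldAut_mul_conjAut (σ : F ≃+* F) (g : GL (Fin n) F) :
    fieldAut σ * conjAut g = conjAut (glMap σ g) * fieldAut σ := by
  ext x : 1
  induction x using QuotientGroup.induction_on with
  | H s =>
    show fieldAut σ (conjAut g (QuotientGroup.mk s)) = conjAut (glMap σ g) (fieldAut σ (QuotientGroup.mk s))
    rw [conjAut_mk, fieldAut_mk, fieldAut_mk, conjAut_mk]
    congr 1
    apply Subtype.ext
    rw [fieldSL_coe, slConj_coe, slConj_coe, fieldSL_coe, ← map_inv, glMap_coe, glMap_coe]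
    have h := Matrix.map_mul (L := (g : Mn) * (s : Mn)) (M := ((g⁻¹ : GL (Fin n) F) : Mn))
      (f := (σ : F →+* F))
    have h' := Matrix.map_mul (L := (g : Mn)) (M := (s : Mn)) (f := (σ : F →+* F))
    rw [h'] at h
    exact h

theorem fieldAut_conj (σ : F ≃+* F) (g : GL (Fin n) F) :
    fieldAut σ * conjAut g * (fieldAut σ)⁻¹ = conjAut (glMap σ g) := by
  rw [fieldAut_mul_conjAut, mul_inv_cancel_right]

theorem fieldAut_mul (σ τ : F ≃+* F) : (fieldAut (σ * τ) : MulAut PSLn) = fieldAut σ * fieldAut τ := by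
  ext x : 1
  induction x using QuotientGroup.induction_on with
  | H s => rfl

theorem fieldAut_one : (fieldAut (1 : F ≃+* F) : MulAut PSLn) = 1 := by
  ext x : 1
  induction x using QuotientGroup.induction_on with
  | H s =>
    show (QuotientGroup.mk (fieldSL 1 s) : PSLn) = QuotientGroup.mk s
    congr 1

theorem fieldAut_injective (hn : 3 ≤ n) {σ τ : F ≃+* F}
    (h : (fieldAut σ : MulAut PSLn) = fieldAut τ) : σ = τ := by
  apply RingEquiv.ext
  intro a
  have h01 : (⟨0, by omega⟩ : Fin n) ≠ ⟨1, by omega⟩ := by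
    intro h'
    simpa using congrArg Fin.val h'
  have h1 := fieldAut_xr (n := n) σ h01 a
  rw [h, fieldAut_xr] at h1
  exact (xr_injective hn h01 h1).symm

theorem eq_fieldAut_of_isStd {σ : F ≃+* F} {φ : MulAut PSLn} (h : Cfsg.IsStdFieldAutPSL σ φ) :
    φ = fieldAut σ := by
  ext x : 1
  induction x using QuotientGroup.induction_on with
  | H s => exact h s (fieldSL σ s) rfl

/-- The standard graph-field automorphism attached to `σ`. -/
def gfAut (σ : F ≃+* F) : MulAut PSLn := fieldAut σ * itAut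

theorem gfAut_mul_self (σ : F ≃+* F) : (gfAut σ : MulAut PSLn) * gfAut σ = fieldAut (σ * σ) := by
  unfold gfAut
  rw [mul_assoc, ← mul_assoc itAut, itAut_mul_fieldAut, mul_assoc, itAut_mul_self, mul_one, ← fieldAut_mul]

/-- Conjugating `conjAut g` by the standard graph-field automorphism. -/
theorem gfAut_conj (σ : F ≃+* F) (g : GL (Fin n) F) :
    gfAut σ * conjAut g * (gfAut σ)⁻¹ = conjAut (glMap σ (glT g)⁻¹) := by
  unfold gfAut
  rw [_root_.mul_inv_rev, ← mul_assoc, mul_assoc (fieldAut σ), mul_assoc (fieldAut σ),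
    itAut_conj, fieldAut_conj]

section finite

variable [Fintype F] {p f : ℕ} [hp : Fact p.Prime]

/-- An involution of a finite field of order `p ^ f`: `f` is even and the involution is the
`p ^ (f / 2)`-th power map. -/
theorem involution_eq_pow (hF : Fintype.card F = p ^ f) (σ : F ≃+* F) (h1 : σ ≠ RingEquiv.refl F)
    (h2 : ∀ a, σ (σ a) = a) : Even f ∧ ∀ a, σ a = a ^ (p ^ (f / 2)) := by
  have : CharP F p := charP_of_card_eq_prime_pow hF
  let _ : Algebra (ZMod p) F := ZMod.algebra F p
  have hfin : Module.finrank (ZMod p) F = f := by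
    have h3 := Module.card_eq_pow_finrank (K := ZMod p) (V := F)
    rw [ZMod.card, hF] at h3
    exact (Nat.pow_right_injective hp.out.two_le h3).symm
  let σ' : F ≃ₐ[ZMod p] F := AlgEquiv.ofRingEquiv (f := σ) (fun x => by
    have : (σ : F →+* F).comp (algebraMap (ZMod p) F) = algebraMap (ZMod p) F := Subsingleton.elim _ _
    exact congrArg (fun φ : ZMod p →+* F => φ x) this)
  have hσ' : ∀ a, σ' a = σ a := fun a => rfl
  obtain ⟨⟨k, hk⟩, hkσ⟩ := (FiniteField.bijective_frobeniusAlgEquivOfAlgebraic_pow (ZMod p) F).2 σ'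
  rw [hfin] at hk
  have hkσ' : FiniteField.frobeniusAlgEquivOfAlgebraic (ZMod p) F ^ k = σ' := hkσ
  have hpow : ∀ a, σ a = a ^ (p ^ k) := by
    intro a
    rw [← hσ', ← hkσ', AlgEquiv.coe_pow, FiniteField.coe_frobeniusAlgEquivOfAlgebraic_iterate, ZMod.card]
  have hk0 : k ≠ 0 := by
    rintro rfl
    apply h1
    apply RingEquiv.ext
    intro a
    rw [hpow, pow_zero, pow_one]
    rfl
  have hsq : FiniteField.frobeniusAlgEquivOfAlgebraic (ZMod p) F ^ (2 * k) = 1 := by
    rw [mul_comm, pow_mul, hkσ']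
    apply AlgEquiv.ext
    intro a
    rw [pow_two, AlgEquiv.mul_apply, hσ', hσ', h2]
    rfl
  have hdvd := orderOf_dvd_of_pow_eq_one hsq
  rw [FiniteField.orderOf_frobeniusAlgEquivOfAlgebraic, hfin] at hdvd
  obtain ⟨c, hc⟩ := hdvd
  have hc1 : c = 1 := by
    rcases c with _ | _ | c
    · omega
    · rfl
    · exfalso
      have : 2 * k ≥ f * 2 := by rw [hc]; exact Nat.mul_le_mul_left _ (by omega)
      omega
  rw [hc1, mul_one] at hc
  refine ⟨⟨k, by omega⟩, fun a => ?_⟩
  rw [hpow]
  congr 2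
  omega

end finite

end Cfsg.Agent.Lib.Helper14_FieldAutPSL
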