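import Mathlib
import Cfsg.Agent.Lib.Helper44_PSL2Aut

/-!
# The structure of `Aut (PSL_n(F))` modulo the inner-diagonal automorphisms (helper44)
-/

set_option autoImplicit false
set_option linter.unusedSectionVars false
set_option linter.unusedVariables false
set_option linter.unusedSimpArgs false

namespace Cfsg.Agent.Lib.Helper44_PSLnOut

open Matrix Cfsg.Agent.Lib.Helper5_Transv Cfsg.Agent.Lib.Helper44_PSLnUT
  Cfsg.Agent.Lib.Helper44_PSLnTv Cfsg.Agent.Lib.Helper44_PSLnSyl Cfsg.Agent.Lib.Helper14_PSLAut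
  Cfsg.Agent.Lib.Helper44_PSLnFrame Cfsg.Agent.Lib.Helper44_PSLnRoot
  Cfsg.Agent.Lib.Helper44_PSLnAut Cfsg.Agent.Lib.Helper44_PSL2Aut
open scoped Pointwise

variable {F : Type*} [Field F] {n : ℕ}

local notation "Gn" => Matrix.ProjectiveSpecialLinearGroup (Fin n) F
local notation "Vn" => Fin n → F

/-! ### `fieldAut` is a homomorphism -/

theorem fieldSL_mul (σ τ : F ≃+* F) (s : Matrix.SpecialLinearGroup (Fin n) F) :
    fieldSL (σ * τ) s = fieldSL σ (fieldSL τ s) := by
  apply Subtype.ext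
  rw [fieldSL_coe, fieldSL_coe, fieldSL_coe, Matrix.map_map]
  rfl

/-- `fieldAut` as a homomorphism -/
def fieldAutHom : RingAut F →* MulAut Gn where
  toFun σ := fieldAut σ
  map_one' := by
    ext x
    obtain ⟨s, rfl⟩ := proj_surjective x
    rw [fieldAut_proj]
    show proj _ = proj s
    congr 1
  map_mul' σ τ := by
    ext x
    obtain ⟨s, rfl⟩ := proj_surjective x
    rw [MulAut.mul_apply, fieldAut_proj, fieldAut_proj, fieldAut_proj, fieldSL_mul]

theorem fieldAutHom_apply (σ : RingAut F) : fieldAutHom (n := n) σ = fieldAut σ := rfl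

theorem fieldAut_one : fieldAut (n := n) (1 : F ≃+* F) = 1 := (fieldAutHom (n := n) (F := F)).map_one

theorem fieldAut_mul (σ τ : F ≃+* F) : fieldAut (n := n) (σ * τ) = fieldAut σ * fieldAut τ :=
  (fieldAutHom (n := n) (F := F)).map_mul σ τ

theorem fieldAut_inv (σ : F ≃+* F) : (fieldAut (n := n) σ)⁻¹ = fieldAut σ⁻¹ :=
  ((fieldAutHom (n := n) (F := F)).map_inv σ).symm

theorem fieldAut_mul_conjAut (σ : F ≃+* F) (g : GL (Fin n) F) :
    fieldAut σ * conjAut g
      = conjAut (Matrix.GeneralLinearGroup.map (σ : F →+* F) g) * fieldAut σ := by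
  ext x
  obtain ⟨s, rfl⟩ := proj_surjective x
  show fieldAut σ (conjAut g (proj s)) = conjAut _ (fieldAut σ (proj s))
  rw [fieldAut_proj]
  unfold proj
  rw [QuotientGroup.mk'_apply, QuotientGroup.mk'_apply, conjAut_mk, conjAut_mk]
  show fieldAut σ (proj (slConj g s)) = _
  rw [fieldAut_proj]
  unfold proj
  rw [QuotientGroup.mk'_apply]
  congr 1
  apply Subtype.ext
  rw [fieldSL_coe, slConj_coe, slConj_coe, fieldSL_coe, ← Matrix.GeneralLinearGroup.map_inv]
  show Matrix.map (g.1 * s.1 * (g⁻¹).1) (σ : F →+* F)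
    = (g.1.map (σ : F →+* F)) * s.1.map σ * ((g⁻¹).1.map (σ : F →+* F))
  rw [Matrix.map_mul, Matrix.map_mul]
  rfl


/-! ### a field automorphism which is inner-diagonal is trivial -/

theorem eq_one_of_fieldAut_eq_conjAut (hn : 2 ≤ n) (σ : F ≃+* F) (h : GL (Fin n) F)
    (heq : fieldAut σ = conjAut h) : σ = 1 := by
  have h01 : (⟨0, by omega⟩ : Fin n) ≠ ⟨1, by omega⟩ := by
    intro h'
    simpa using congrArg Fin.val h'
  set i0 : Fin n := ⟨0, by omega⟩ with hi0
  set i1 : Fin n := ⟨1, by omega⟩ with hi1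
  have hd : (e i1 : Vn) ⬝ᵥ e i0 = 0 := Cfsg.Agent.Lib.Helper5_RootSL.e_dot_e h01
  set M : Matrix (Fin n) (Fin n) F := vecMulVec (e i0 : Vn) (e i1 : Vn) with hM
  set N : Matrix (Fin n) (Fin n) F :=
    (h : Matrix (Fin n) (Fin n) F) * M * ((h⁻¹ : GL (Fin n) F) : Matrix (Fin n) (Fin n) F) with hN
  have hconj : ∀ c : F, (h : Matrix (Fin n) (Fin n) F) * tv (e i0 : Vn) (e i1) c *
      ((h⁻¹ : GL (Fin n) F) : Matrix (Fin n) (Fin n) F) = 1 + c • N := by
    intro c
    unfold tv
    rw [mul_add, add_mul, mul_one, Units.mul_inv, Matrix.mul_smul, Matrix.smul_mul]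
  have hMM : M * M = 0 := by
    rw [hM, vecMulVec_mul_vecMulVec, hd, zero_smul]
    simp
  have key : ∀ a : F, tv (e i0 : Vn) (e i1) (σ a) = 1 + a • N := by
    intro a
    have h1 : fieldAut σ (xr h01 a) = conjAut h (xr h01 a) := by rw [heq]
    rw [fieldAut_xr] at h1
    unfold xr at h1
    rw [Cfsg.Agent.Lib.Helper5_RootSL.transvection_eq_tvS,
      Cfsg.Agent.Lib.Helper5_RootSL.transvection_eq_tvS] at h1
    have h2 : conjAut h (proj (tvS (e i0 : Vn) (e i1) hd a))
        = proj (slConj h (tvS (e i0 : Vn) (e i1) hd a)) := rfl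
    rw [h2] at h1
    have h3 := eq_of_proj_eq _ _ h1 (e i0 : Vn) (Cfsg.Agent.Lib.Helper5_RootSL.e_ne_zero i0)
      (tvS_mulVec_of_dot_zero _ _ hd _ _ hd) (by
        rw [slConj_coe, tvS_coe, hconj, add_sub_cancel_left, smul_mul_smul_comm]
        have : N * N = 0 := by
          rw [hN]
          calc (h : Matrix (Fin n) (Fin n) F) * M *
                ((h⁻¹ : GL (Fin n) F) : Matrix (Fin n) (Fin n) F) *
                ((h : Matrix (Fin n) (Fin n) F) * M *
                ((h⁻¹ : GL (Fin n) F) : Matrix (Fin n) (Fin n) F))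
              = (h : Matrix (Fin n) (Fin n) F) * M *
                (((h⁻¹ : GL (Fin n) F) : Matrix (Fin n) (Fin n) F) *
                (h : Matrix (Fin n) (Fin n) F)) * M *
                ((h⁻¹ : GL (Fin n) F) : Matrix (Fin n) (Fin n) F) := by
                simp only [Matrix.mul_assoc]
            _ = 0 := by
                rw [Units.inv_mul, Matrix.mul_one, Matrix.mul_assoc (h : Matrix (Fin n) (Fin n) F),
                  hMM, Matrix.mul_zero, Matrix.zero_mul]
        rw [this, smul_zero])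
    have h4 := congrArg Subtype.val h3
    rw [tvS_coe, slConj_coe, tvS_coe, hconj] at h4
    exact h4
  have hNM : N = M := by
    have h1 := key 1
    rw [map_one, one_smul] at h1
    unfold tv at h1
    rw [one_smul] at h1
    exact (add_left_cancel h1).symm
  ext a
  have h1 := key a
  rw [hNM] at h1
  unfold tv at h1
  have h2 := add_left_cancel h1
  have h3 := congrFun (congrFun h2 i0) i1
  simpa [hM, vecMulVec_apply, e] using h3


/-! ### the action of `fieldAut` on points and hyperplanes -/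

theorem map_dot (σ : F ≃+* F) (φ v : Vn) : (σ ∘ φ) ⬝ᵥ (σ ∘ v) = σ (φ ⬝ᵥ v) := by
  simp only [dotProduct, map_sum, map_mul, Function.comp]

theorem fieldAut_tvP (σ : F ≃+* F) (v φ : Vn) (h : φ ⬝ᵥ v = 0) :
    fieldAut σ (tvP v φ h) = tvP (σ ∘ v) (σ ∘ φ) (by rw [map_dot, h, map_zero]) := by
  unfold tvP
  rw [fieldAut_proj]
  congr 1
  apply Subtype.ext
  rw [fieldSL_coe, tvS_coe, tvS_coe]
  unfold tv
  ext k l
  simp only [Matrix.map_apply, Matrix.add_apply, Matrix.smul_apply, Matrix.one_apply,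
    vecMulVec_apply, Function.comp, smul_eq_mul, map_add, map_mul, map_one]
  rw [apply_ite σ, map_one, map_zero]

theorem fieldAut_smul_Pt_le (σ : F ≃+* F) (v : Vn) :
    (fieldAut σ : MulAut Gn) • Pt v ≤ Pt (σ ∘ v) := by
  intro t ht
  obtain ⟨a, ha, rfl⟩ := (Subgroup.mem_smul_pointwise_iff_exists _ _ _).mp ht
  obtain ⟨φ, h, rfl⟩ := mem_Pt.mp ha
  rw [MulAut.smul_def, fieldAut_tvP]
  exact tvP_mem_Pt _ _ _

theorem fieldAut_smul_Pt (σ : F ≃+* F) (v : Vn) :
    (fieldAut σ : MulAut Gn) • Pt v = Pt (σ ∘ v) := by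
  apply le_antisymm (fieldAut_smul_Pt_le σ v)
  have h1 := fieldAut_smul_Pt_le σ⁻¹ (σ ∘ v)
  have h2 : (σ⁻¹ : F ≃+* F) ∘ (σ ∘ v) = v := by
    funext i
    show σ⁻¹ (σ (v i)) = v i
    exact σ.symm_apply_apply (v i)
  rw [h2, ← fieldAut_inv] at h1
  rw [← Subgroup.pointwise_smul_le_pointwise_smul_iff (a := (fieldAut σ : MulAut Gn)⁻¹),
    inv_smul_smul]
  exact h1

theorem fieldAut_smul_Hp_le (σ : F ≃+* F) (φ : Vn) :
    (fieldAut σ : MulAut Gn) • Hp φ ≤ Hp (σ ∘ φ) := by
  intro t ht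
  obtain ⟨a, ha, rfl⟩ := (Subgroup.mem_smul_pointwise_iff_exists _ _ _).mp ht
  obtain ⟨v, h, rfl⟩ := mem_Hp.mp ha
  rw [MulAut.smul_def, fieldAut_tvP]
  exact tvP_mem_Hp _ _ _

theorem fieldAut_smul_Hp (σ : F ≃+* F) (φ : Vn) :
    (fieldAut σ : MulAut Gn) • Hp φ = Hp (σ ∘ φ) := by
  apply le_antisymm (fieldAut_smul_Hp_le σ φ)
  have h1 := fieldAut_smul_Hp_le σ⁻¹ (σ ∘ φ)
  have h2 : (σ⁻¹ : F ≃+* F) ∘ (σ ∘ φ) = φ := by
    funext i
    show σ⁻¹ (σ (φ i)) = φ i
    exact σ.symm_apply_apply (φ i)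
  rw [h2, ← fieldAut_inv] at h1
  rw [← Subgroup.pointwise_smul_le_pointwise_smul_iff (a := (fieldAut σ : MulAut Gn)⁻¹),
    inv_smul_smul]
  exact h1

/-- the graph automorphism is not in `PΓL_n`, `n ≥ 3` -/
theorem fieldAut_mul_itAut_ne (hn : 3 ≤ n) (σ : F ≃+* F) (h : GL (Fin n) F) :
    fieldAut σ * itAut ≠ conjAut h := by
  intro heq
  set i0 : Fin n := ⟨0, by omega⟩ with hi0
  have h1 : ((fieldAut σ * itAut : MulAut Gn)) • Pt (e i0 : Vn) = conjAut h • Pt (e i0 : Vn) := by
    rw [heq]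
  rw [mul_smul, itAut_smul_Pt, fieldAut_smul_Hp, conjAut_smul_Pt] at h1
  refine Pt_ne_Hp hn ?_ h1.symm
  intro h0
  have h2 : ((h⁻¹ : GL (Fin n) F) : Matrix (Fin n) (Fin n) F) *ᵥ
      ((h : Matrix (Fin n) (Fin n) F) *ᵥ (e i0 : Vn)) = 0 := by rw [h0, mulVec_zero]
  rw [mulVec_mulVec, Units.inv_mul, one_mulVec] at h2
  exact Cfsg.Agent.Lib.Helper5_RootSL.e_ne_zero i0 h2


/-! ### the inner-diagonal group is normal, and the quotient -/

/-- the group of inner-diagonal automorphisms -/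
def DD (n : ℕ) (F : Type*) [Field F] :
    Subgroup (MulAut (Matrix.ProjectiveSpecialLinearGroup (Fin n) F)) :=
  (conjAut (n := n) (F := F)).range

theorem conjAut_mem_DD (g : GL (Fin n) F) : conjAut g ∈ DD n F := ⟨g, rfl⟩

theorem DD_normal [Fintype F] {p f : ℕ} [hp : Fact p.Prime] (hF : Fintype.card F = p ^ f)
    (hn : 2 ≤ n) : (DD n F).Normal := by
  constructor
  rintro _ ⟨h, rfl⟩ β
  obtain ⟨g, σ, ε, rfl⟩ := aut_PSL hF hn β
  have h1 : ∀ k : GL (Fin n) F, ∃ k' : GL (Fin n) F,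
      (if ε then (itAut : MulAut Gn) else 1) * conjAut k * (if ε then (itAut : MulAut Gn) else 1)⁻¹
        = conjAut k' := by
    intro k
    cases ε
    · exact ⟨k, by simp⟩
    · exact ⟨(glT k)⁻¹, by simpa using itAut_conj k⟩
  obtain ⟨k1, hk1⟩ := h1 h
  have h2 : fieldAut σ * conjAut k1 * (fieldAut σ)⁻¹
      = conjAut (Matrix.GeneralLinearGroup.map (σ : F →+* F) k1) := by
    rw [fieldAut_mul_conjAut, mul_inv_cancel_right]
  refine ⟨g * Matrix.GeneralLinearGroup.map (σ : F →+* F) k1 * g⁻¹, ?_⟩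
  rw [map_mul, map_mul, map_inv, ← h2, ← hk1]
  group

/-- the graph automorphism as a function of `ZMod 2` -/
def itFun (z : ZMod 2) : MulAut Gn := if z = 0 then 1 else itAut

theorem itFun_zero : itFun (n := n) (F := F) 0 = 1 := if_pos rfl

theorem itFun_one : itFun (n := n) (F := F) 1 = itAut := if_neg (by decide)

theorem zmod2_cases (a : ZMod 2) : a = 0 ∨ a = 1 := by
  revert a
  decide

theorem itFun_add (a b : ZMod 2) : itFun (n := n) (F := F) (a + b) = itFun a * itFun b := by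
  rcases zmod2_cases a with rfl | rfl <;> rcases zmod2_cases b with rfl | rfl
  · rw [add_zero, itFun_zero, one_mul]
  · rw [zero_add, itFun_zero, one_mul]
  · rw [add_zero, itFun_zero, mul_one]
  · rw [show (1 + 1 : ZMod 2) = 0 from by decide, itFun_zero, itFun_one, itAut_mul_self]

/-- the graph automorphism as a homomorphism from the group of order 2 -/
def itHom : Multiplicative (ZMod 2) →* MulAut Gn where
  toFun z := itFun (Multiplicative.toAdd z)
  map_one' := itFun_zero
  map_mul' a b := by rw [toAdd_mul, itFun_add]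

theorem commute_fieldAut_itFun (σ : F ≃+* F) (z : ZMod 2) :
    Commute (fieldAut (n := n) σ) (itFun z) := by
  rcases zmod2_cases z with rfl | rfl
  · rw [itFun_zero]
    exact Commute.one_right _
  · rw [itFun_one]
    exact (itAut_mul_fieldAut σ).symm

section quot

variable [hN : (DD n F).Normal]

/-- field and graph automorphisms modulo inner-diagonal automorphisms -/
def Theta : RingAut F × Multiplicative (ZMod 2) →*
    MulAut (Matrix.ProjectiveSpecialLinearGroup (Fin n) F) ⧸ DD n F :=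
  MonoidHom.noncommCoprod ((QuotientGroup.mk' (DD n F)).comp fieldAutHom)
    ((QuotientGroup.mk' (DD n F)).comp itHom)
    (fun σ z => (commute_fieldAut_itFun σ (Multiplicative.toAdd z)).map (QuotientGroup.mk' (DD n F)))

theorem Theta_apply (σ : RingAut F) (z : Multiplicative (ZMod 2)) :
    Theta (n := n) (σ, z) = QuotientGroup.mk (fieldAut σ * itFun (Multiplicative.toAdd z)) := rfl

theorem Theta_surjective [Fintype F] {p f : ℕ} [hp : Fact p.Prime] (hF : Fintype.card F = p ^ f)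
    (hn : 2 ≤ n) : Function.Surjective (Theta (n := n) (F := F)) := by
  intro q
  obtain ⟨β, rfl⟩ := QuotientGroup.mk_surjective q
  obtain ⟨g, σ, ε, rfl⟩ := aut_PSL hF hn β
  refine ⟨(σ, Multiplicative.ofAdd (if ε then 1 else 0)), ?_⟩
  rw [Theta_apply, mul_assoc, QuotientGroup.mk_mul _ (conjAut g),
    (QuotientGroup.eq_one_iff (conjAut g)).mpr (conjAut_mem_DD g), one_mul]
  congr 2
  cases ε
  · exact itFun_zero
  · exact itFun_one

theorem Theta_injective (hn : 3 ≤ n) : Function.Injective (Theta (n := n) (F := F)) := by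
  rw [injective_iff_map_eq_one]
  rintro ⟨σ, z⟩ h
  rw [Theta_apply, QuotientGroup.eq_one_iff] at h
  obtain ⟨k, hk⟩ := h
  have hz : Multiplicative.toAdd z = 0 := by
    rcases zmod2_cases (Multiplicative.toAdd z) with h0 | h1
    · exact h0
    · exfalso
      rw [h1, itFun_one] at hk
      exact fieldAut_mul_itAut_ne hn σ k hk.symm
  rw [hz, itFun_zero, mul_one] at hk
  have hσ := eq_one_of_fieldAut_eq_conjAut (by omega) σ k hk.symm
  rw [Prod.mk_eq_one]
  exact ⟨hσ, hz⟩

/-- the case `n = 2` -/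
def Theta2 : RingAut F →* MulAut (Matrix.ProjectiveSpecialLinearGroup (Fin n) F) ⧸ DD n F :=
  (QuotientGroup.mk' (DD n F)).comp fieldAutHom

theorem Theta2_surjective [Fintype F] {p f : ℕ} [hp : Fact p.Prime] (hF : Fintype.card F = p ^ f)
    [hN2 : (DD 2 F).Normal] : Function.Surjective (Theta2 (n := 2) (F := F)) := by
  intro q
  obtain ⟨β, rfl⟩ := QuotientGroup.mk_surjective q
  obtain ⟨g, σ, rfl⟩ := aut_PSL2 hF β
  refine ⟨σ, ?_⟩
  show (QuotientGroup.mk (fieldAut σ) : _ ⧸ DD 2 F) = _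
  rw [QuotientGroup.mk_mul _ (conjAut g),
    (QuotientGroup.eq_one_iff (conjAut g)).mpr (conjAut_mem_DD g), one_mul]

theorem Theta2_injective (hn : 2 ≤ n) : Function.Injective (Theta2 (n := n) (F := F)) := by
  rw [injective_iff_map_eq_one]
  intro σ h
  have h' : (QuotientGroup.mk (fieldAut σ) : _ ⧸ DD n F) = 1 := h
  rw [QuotientGroup.eq_one_iff] at h'
  obtain ⟨k, hk⟩ := h'
  exact eq_one_of_fieldAut_eq_conjAut hn σ k hk.symm

end quot


/-! ### counting -/

theorem ker_conjAut : (conjAut (n := n) (F := F)).ker = Subgroup.center (GL (Fin n) F) := by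
  ext g
  rw [MonoidHom.mem_ker, conjAut_eq_one_iff, Matrix.GeneralLinearGroup.center_eq_range_scalar]
  rfl

theorem card_DD : Nat.card (DD n F) = Nat.card (Matrix.ProjGenLinGroup (Fin n) F) := by
  have e1 := QuotientGroup.quotientKerEquivRange (conjAut (n := n) (F := F))
  unfold DD
  rw [← Nat.card_congr e1.toEquiv]
  exact Nat.card_congr (QuotientGroup.quotientMulEquivOfEq ker_conjAut).toEquiv

theorem card_ringAut [Fintype F] {p f : ℕ} [hp : Fact p.Prime] (hF : Fintype.card F = p ^ f) :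
    Nat.card (RingAut F) = f := by
  obtain ⟨e⟩ := Cfsg.Agent.Lib.Helper42_AutPSL2.ringAut_mulEquiv hF
  rw [Nat.card_congr e.toEquiv]
  exact Nat.card_zmod f

/-- **Order of `Aut (PSL_n(F))`**. -/
theorem card_aut [Fintype F] {p f : ℕ} [hp : Fact p.Prime] (hF : Fintype.card F = p ^ f)
    (hn : 2 ≤ n) :
    Nat.card (MulAut (Matrix.ProjectiveSpecialLinearGroup (Fin n) F))
      = (if n = 2 then 1 else 2) * f * Nat.card (Matrix.ProjGenLinGroup (Fin n) F) := by
  have := DD_normal hF hn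
  rw [Subgroup.card_eq_card_quotient_mul_card_subgroup (DD n F), card_DD]
  congr 1
  by_cases h2 : n = 2
  · subst h2
    rw [if_pos rfl, one_mul, ← card_ringAut hF]
    exact (Nat.card_congr (Equiv.ofBijective _
      ⟨Theta2_injective (le_refl 2), Theta2_surjective hF⟩)).symm
  · rw [if_neg h2]
    have h3 : 3 ≤ n := by omega
    rw [← Nat.card_congr (Equiv.ofBijective _ ⟨Theta_injective h3, Theta_surjective hF hn⟩),
      Nat.card_prod, card_ringAut hF]
    rw [show Nat.card (Multiplicative (ZMod 2)) = 2 from Nat.card_zmod 2, mul_comm]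

end Cfsg.Agent.Lib.Helper44_PSLnOut
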