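import Mathlib
import Cfsg.Agent.Lib.Helper14_AutOrdDefs
import Cfsg.Agent.Lib.Helper14_FieldAutPSL
import Cfsg.Agent.Lib.Helper44_PSLnOut
import Cfsg.Agent.S2261

/-!
# Glue lemmas for S2262 (helper14)

* `orderOf_conjAut` : the order of `conjAut g` is the order of `g` modulo the centre of `GL`;
* `conjAut_pow_eq_one_of_dvd` : if the characteristic polynomial of `M` divides `X ^ N - C s`
  then `conjAut M ^ N = 1`;
* `graph_sq`, `graph_form` : the square of a graph-field automorphism and the sesquilinear form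
  preserved by the corresponding matrix;
* `inndiag_le`, `inndiag_exists` : the inner-diagonal case (from the landed S2261).
-/

set_option autoImplicit false

namespace Cfsg.Agent.Lib.Helper14_AutOrdGlue

open Matrix Polynomial Cfsg.Agent.Lib.Helper14_AutOrdDefs Cfsg.Agent.Lib.Helper14_PSLAut
  Cfsg.Agent.Lib.Helper14_FieldAutPSL Cfsg.Agent.Lib.Helper44_PSLnRoot
  Cfsg.Agent.Lib.Helper14_PSLGraph

variable {F : Type*} [Field F] {n : ℕ}

local notation "PSLn" => Matrix.ProjectiveSpecialLinearGroup (Fin n) F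
local notation "Mn" => Matrix (Fin n) (Fin n) F

theorem conjAut_pow_eq_one_iff (g : GL (Fin n) F) (k : ℕ) :
    (conjAut g : MulAut PSLn) ^ k = 1 ↔
      (QuotientGroup.mk g : GL (Fin n) F ⧸ Subgroup.center (GL (Fin n) F)) ^ k = 1 := by
  rw [← map_pow, ← QuotientGroup.mk_pow, QuotientGroup.eq_one_iff, ← MonoidHom.mem_ker,
    Cfsg.Agent.Lib.Helper44_PSLnOut.ker_conjAut]

theorem orderOf_conjAut (g : GL (Fin n) F) :
    orderOf (conjAut g : MulAut PSLn)
      = orderOf (QuotientGroup.mk g : GL (Fin n) F ⧸ Subgroup.center (GL (Fin n) F)) := by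
  rw [orderOf_eq_orderOf_iff]
  intro k
  exact conjAut_pow_eq_one_iff g k

theorem conjAut_pow_eq_one_of_dvd (M : GL (Fin n) F) (N : ℕ) (s : F)
    (h : (M : Mn).charpoly ∣ X ^ N - C s) : (conjAut M : MulAut PSLn) ^ N = 1 := by
  have h1 : aeval (M : Mn) (X ^ N - C s : F[X]) = 0 := by
    obtain ⟨c, hc⟩ := h
    rw [hc, map_mul, Matrix.aeval_self_charpoly, zero_mul]
  have h2 : (M : Mn) ^ N = s • (1 : Mn) := by
    have h3 : aeval (M : Mn) (X ^ N - C s : F[X]) = (M : Mn) ^ N - s • (1 : Mn) := by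
      rw [map_sub, map_pow, aeval_X, aeval_C, Algebra.algebraMap_eq_smul_one]
    rw [h3] at h1
    exact sub_eq_zero.mp h1
  rw [← map_pow, ← MonoidHom.mem_ker, Cfsg.Agent.Lib.Helper44_PSLnOut.ker_conjAut,
    Subgroup.mem_center_iff]
  intro x
  apply Units.ext
  rw [Units.val_mul, Units.val_mul, Units.val_pow_eq_pow_val, h2, Matrix.mul_smul, Matrix.smul_mul,
    Matrix.mul_one, Matrix.one_mul]

theorem orderOf_conjAut_le (M : GL (Fin n) F) (N : ℕ) (hN : 0 < N) (s : F)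
    (h : (M : Mn).charpoly ∣ X ^ N - C s) : orderOf (conjAut M : MulAut PSLn) ≤ N :=
  Nat.le_of_dvd hN (orderOf_dvd_of_pow_eq_one (conjAut_pow_eq_one_of_dvd M N s h))

/-- the square of a graph-field automorphism -/
theorem graph_sq (g : GL (Fin n) F) (σ : F ≃+* F) :
    (conjAut g * fieldAut σ * itAut : MulAut PSLn) ^ 2
      = conjAut (g * glMap σ (glT g)⁻¹) * fieldAut (σ * σ) := by
  have h1 : (conjAut g * fieldAut σ * itAut : MulAut PSLn) = conjAut g * gfAut σ := by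
    unfold gfAut
    rw [mul_assoc]
  have h2 := gfAut_conj σ g
  have h3 : gfAut σ * conjAut g = conjAut (glMap σ (glT g)⁻¹) * (gfAut σ : MulAut PSLn) := by
    rw [← h2, inv_mul_cancel_right]
  rw [h1, pow_two, map_mul, ← gfAut_mul_self]
  calc conjAut g * gfAut σ * (conjAut g * gfAut σ)
      = conjAut g * (gfAut σ * conjAut g) * gfAut σ := by group
    _ = conjAut g * (conjAut (glMap σ (glT g)⁻¹) * gfAut σ) * gfAut σ := by rw [h3]
    _ = conjAut g * conjAut (glMap σ (glT g)⁻¹) * (gfAut σ * gfAut σ) := by group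

/-- the matrix of the square of a graph-field automorphism preserves a sesquilinear form -/
theorem graph_form (g : GL (Fin n) F) (σ : F ≃+* F) (hσ : ∀ a, σ (σ a) = a) :
    (((g * glMap σ (glT g)⁻¹ : GL (Fin n) F) : Mn).map σ)ᵀ * ((g⁻¹ : GL (Fin n) F) : Mn)
        * ((g * glMap σ (glT g)⁻¹ : GL (Fin n) F) : Mn)
      = ((g⁻¹ : GL (Fin n) F) : Mn) := by
  set h : GL (Fin n) F := glMap σ (glT g)⁻¹ with hh
  -- `σ(h) = (gᵀ)⁻¹`
  have h1 : (h : Mn).map σ = (((glT g)⁻¹ : GL (Fin n) F) : Mn) := by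
    rw [hh, glMap_coe, Matrix.map_map]
    ext i j
    simp only [Matrix.map_apply, Function.comp_apply]
    exact hσ _
  have h2 : ((g * h : GL (Fin n) F) : Mn) = (g : Mn) * (h : Mn) := rfl
  have h3 : ((g : Mn) * (h : Mn)).map σ = (g : Mn).map σ * (h : Mn).map σ :=
    Matrix.map_mul (f := (σ : F →+* F))
  -- `σ(g)ᵀ = h⁻¹`
  have h4 : ((g : Mn).map σ)ᵀ * (h : Mn) = 1 := by
    have h5 : (glT g : GL (Fin n) F) * (glT g)⁻¹ = 1 := mul_inv_cancel _
    have h6 := congrArg (fun x : GL (Fin n) F => ((glMap σ x : GL (Fin n) F) : Mn)) h5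
    simp only [map_mul, map_one] at h6
    rw [Units.val_mul, glMap_coe, glT_coe] at h6
    rw [← Matrix.transpose_map]
    exact h6
  have h7 : ((((glT g)⁻¹ : GL (Fin n) F) : Mn))ᵀ = ((g⁻¹ : GL (Fin n) F) : Mn) := by
    rw [glT_inv_coe, Matrix.transpose_transpose]
  have h8 : ((g⁻¹ : GL (Fin n) F) : Mn) * (g : Mn) = 1 := by
    rw [← Units.val_mul, inv_mul_cancel]; rfl
  rw [h2, h3, h1, Matrix.transpose_mul, h7]
  calc ((g⁻¹ : GL (Fin n) F) : Mn) * ((g : Mn).map σ)ᵀ * ((g⁻¹ : GL (Fin n) F) : Mn)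
        * ((g : Mn) * (h : Mn))
      = ((g⁻¹ : GL (Fin n) F) : Mn) * ((g : Mn).map σ)ᵀ
          * ((((g⁻¹ : GL (Fin n) F) : Mn) * (g : Mn)) * (h : Mn)) := by
        simp only [Matrix.mul_assoc]
    _ = ((g⁻¹ : GL (Fin n) F) : Mn) * (((g : Mn).map σ)ᵀ * (h : Mn)) := by
        rw [h8, Matrix.one_mul, Matrix.mul_assoc]
    _ = ((g⁻¹ : GL (Fin n) F) : Mn) := by rw [h4, Matrix.mul_one]

theorem graph_det (g : GL (Fin n) F) :
    ((g * glMap (RingEquiv.refl F) (glT g)⁻¹ : GL (Fin n) F) : Mn).det = 1 := by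
  have h1 : (glMap (RingEquiv.refl F) (glT g)⁻¹ : GL (Fin n) F) = (glT g)⁻¹ := by
    apply Units.ext
    rw [glMap_coe]
    ext i j
    rfl
  rw [h1, Units.val_mul, Matrix.det_mul, glT_inv_coe, Matrix.det_transpose]
  rw [← Matrix.det_mul, ← Units.val_mul, mul_inv_cancel]
  exact Matrix.det_one

section finite

variable [Fintype F]

theorem inndiag_le (hn : 1 ≤ n) (g : GL (Fin n) F) :
    (Fintype.card F - 1) * orderOf (conjAut g : MulAut PSLn) ≤ Fintype.card F ^ n - 1 := by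
  rw [orderOf_conjAut]
  exact Cfsg.Agent.S2261.upper n hn g

theorem inndiag_exists (hn : 1 ≤ n) :
    ∃ φ : MulAut PSLn, (Fintype.card F - 1) * orderOf φ = Fintype.card F ^ n - 1 := by
  obtain ⟨gb, hgb⟩ := Cfsg.Agent.S2261.lower (F := F) n hn
  obtain ⟨g, rfl⟩ := QuotientGroup.mk_surjective gb
  exact ⟨conjAut g, by rw [orderOf_conjAut]; exact hgb⟩

theorem sq_eq_one_of_card_four (hq : Fintype.card F = 4) (σ : F ≃+* F) : σ * σ = 1 := by
  have hF : Fintype.card F = 2 ^ 2 := by rw [hq]; norm_num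
  have : Fact (Nat.Prime 2) := ⟨Nat.prime_two⟩
  have h1 := Cfsg.Agent.Lib.Helper44_PSLnOut.card_ringAut (F := F) (p := 2) (f := 2) hF
  have h2 : (σ : RingAut F) ^ Nat.card (RingAut F) = 1 := pow_card_eq_one'
  rw [h1, pow_two] at h2
  exact h2

end finite

end Cfsg.Agent.Lib.Helper14_AutOrdGlue
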