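import Mathlib
import Cfsg.Agent.Lib.Helper40_Palindromic
import Cfsg.Agent.Lib.Helper14_AutOrdGlue

set_option autoImplicit false

namespace Cfsg.Agent.Lib.Helper14_S2262_POLY34U

open Polynomial Cfsg.Agent.Lib.Helper40_Palindromic

theorem recip_coeff' {F : Type*} [Field F] (f : F[X]) (n k : ℕ) (hn : f.natDegree = n)
    (hk : k ≤ n) : (recip f).coeff k = (f.coeff 0)⁻¹ * f.coeff (n - k) := by
  unfold recip
  rw [coeff_C_mul, coeff_reverse, revAt_le (by omega), hn]

theorem eq_of_natDegree_three {F : Type*} [Field F] (f : F[X]) (hf : f.natDegree = 3) :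
    f = C (f.coeff 3) * X ^ 3 + C (f.coeff 2) * X ^ 2 + C (f.coeff 1) * X + C (f.coeff 0) := by
  ext n
  simp only [coeff_add, coeff_C_mul, coeff_X_pow, coeff_X, coeff_C]
  by_cases h3 : n = 3
  · subst h3; simp
  by_cases h2 : n = 2
  · subst h2; simp
  by_cases h1 : n = 1
  · subst h1; simp
  by_cases h0 : n = 0
  · subst h0; simp
  · have : f.coeff n = 0 := coeff_eq_zero_of_natDegree_lt (by omega)
    rw [this]
    simp [h3, h2, h0, Ne.symm h1]

theorem poly_twisted34 {F : Type*} [Field F] [Fintype F] (hq : Fintype.card F = 4) (σ : F ≃+* F)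
    (hσ1 : σ ≠ 1) (χ : F[X]) (hχm : χ.Monic) (h0 : χ.coeff 0 ≠ 0) (hdeg : χ.natDegree = 3)
    (hr : recip χ = χ.map (σ : F →+* F)) :
    ∃ (N : ℕ) (s : F), 0 < N ∧ N ≤ 10 ∧ χ ∣ X ^ N - C s := by
  -- the field
  have hF : Fintype.card F = 2 ^ 2 := by rw [hq]; norm_num
  have : Fact (Nat.Prime 2) := ⟨Nat.prime_two⟩
  have hchar : CharP F 2 := charP_of_card_eq_prime_pow hF
  have h2F : (2 : F) = 0 := by
    have := CharP.cast_eq_zero F 2
    exact_mod_cast this
  have h2 : (2 : F[X]) = 0 := by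
    have : (2 : F[X]) = C (2 : F) := (C_ofNat 2).symm
    rw [this, h2F, C_0]
  have hcube : ∀ x : F, x ≠ 0 → x ^ 3 = 1 := by
    intro x hx
    have h := FiniteField.pow_card_sub_one_eq_one x hx
    rw [hq] at h
    exact h
  have hσσ := Cfsg.Agent.Lib.Helper14_AutOrdGlue.sq_eq_one_of_card_four hq σ
  have hσsq : ∀ x : F, σ x = x ^ 2 := by
    have h1 : σ ≠ RingEquiv.refl F := hσ1
    have h2' : ∀ a, σ (σ a) = a := fun a => by
      have := congrArg (fun τ : F ≃+* F => τ a) hσσ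
      exact this
    have h := (Cfsg.Agent.Lib.Helper14_FieldAutPSL.involution_eq_pow (p := 2) (f := 2) hF σ h1 h2').2
    intro x
    rw [h x]
    norm_num
  -- the coefficients
  set a := χ.coeff 2 with ha
  set b := χ.coeff 1 with hb
  set c := χ.coeff 0 with hc
  have hc3 : χ.coeff 3 = 1 := by
    have := hχm.coeff_natDegree
    rwa [hdeg] at this
  have hχ := eq_of_natDegree_three χ hdeg
  rw [hc3, C_1, one_mul, ← ha, ← hb, ← hc] at hχ
  have e1 : c⁻¹ * a = b ^ 2 := by
    have h : (recip χ).coeff 1 = (χ.map (σ : F →+* F)).coeff 1 := by rw [hr]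
    rw [recip_coeff' χ 3 1 hdeg (by norm_num), coeff_map] at h
    rw [← hσsq]
    exact h
  have e2 : c⁻¹ * b = a ^ 2 := by
    have h : (recip χ).coeff 2 = (χ.map (σ : F →+* F)).coeff 2 := by rw [hr]
    rw [recip_coeff' χ 3 2 hdeg (by norm_num), coeff_map] at h
    rw [← hσsq]
    exact h
  have hbeq : b = a ^ 2 * c := by
    rw [← e2, mul_comm, ← mul_assoc, mul_inv_cancel₀ h0, one_mul]
  have hc3' : c ^ 3 = 1 := hcube c h0
  by_cases ha0 : a = 0
  · -- `χ = X ^ 3 + c`
    have hb0 : b = 0 := by rw [hbeq, ha0]; ring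
    refine ⟨3, c, by norm_num, by norm_num, ?_⟩
    rw [hχ, ha0, hb0]
    refine ⟨1, ?_⟩
    rw [C_0]
    linear_combination (-(C c)) * h2
  · have ha3 : a ^ 3 = 1 := hcube a ha0
    have hA : (C a : F[X]) ^ 3 = 1 := by rw [← C_pow, ha3, C_1]
    have hχ' : χ = X ^ 3 + C a * X ^ 2 + C a ^ 2 * C c * X + C c := by
      rw [hχ, hbeq, C_mul, C_pow]
    by_cases hc1 : c = 1
    · -- `χ = (X + a) ^ 3`
      refine ⟨4, a, by norm_num, by norm_num, X + C a, ?_⟩
      rw [hχ', hc1, C_1]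
      linear_combination (-(C a * X ^ 3 + C a ^ 2 * X ^ 2 + X + C a)) * h2 - X * hA
    · -- `c` is a primitive cube root of unity
      have hcc : c ^ 2 + c + 1 = 0 := by
        have h : (c - 1) * (c ^ 2 + c + 1) = 0 := by linear_combination hc3'
        rcases mul_eq_zero.mp h with h | h
        · exact absurd (sub_eq_zero.mp h) hc1
        · exact h
      have hC : (C c : F[X]) ^ 2 + C c + 1 = 0 := by
        rw [← C_pow, ← C_add, ← C_1, ← C_add, hcc, C_0]
      refine ⟨6, 1, by norm_num, by norm_num, ?_⟩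
      have id1 : χ = (X + C a) * (X + C a * C c ^ 2) ^ 2 := by
        rw [hχ']
        linear_combination (-(C a * C c ^ 2 * X ^ 2 + C a ^ 2 * C c ^ 2 * X)) * h2
          - (C a ^ 2 * C c * (C c - 1) * X + C c * (C c - 1)) * hC - C c ^ 4 * hA
      have id2 : (X + C a) * (X + C a * C c) * (X + C a * C c ^ 2) = X ^ 3 + 1 := by
        linear_combination (C a * X ^ 2 + C a ^ 2 * C c * X + C c - 1) * hC + C c ^ 3 * hA
      have id3 : (X ^ 6 - C 1 : F[X]) = (X ^ 3 + 1) ^ 2 := by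
        rw [C_1]
        linear_combination (-(X ^ 3 + 1)) * h2
      rw [id3, ← id2, id1]
      exact ⟨(X + C a) * (X + C a * C c) ^ 2, by ring⟩

end Cfsg.Agent.Lib.Helper14_S2262_POLY34U
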