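import Mathlib
import Cfsg.Agent.Lib.Helper40_OrdPoly

/-!
# S2262-POLYO (helper14): self-reciprocal polynomials of degree `d ≥ 4` over `F_q` divide
`X ^ N ∓ 1` with `2 (q - 1) N ≤ q ^ d - 1`, unless `q = 2` and `d ∈ {4, 5}`
-/

set_option autoImplicit false

namespace Cfsg.Agent.Lib.Helper14_S2262_POLYO

open Polynomial Cfsg.Agent.Lib.Helper40_Palindromic Cfsg.Agent.Lib.Helper40_OrdPoly

theorem two_mul_pow_le (q a b : ℕ) (hq : 2 ≤ q) (hab : a + 2 ≤ b) : 2 * q ^ a ≤ q ^ b - 1 := by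
  have h1 : q ^ a * q ^ 2 ≤ q ^ b := by
    rw [← pow_add]
    exact Nat.pow_le_pow_right (by omega) hab
  have h2 : 4 ≤ q ^ 2 := by nlinarith
  have h3 : 0 < q ^ a := Nat.pow_pos (by omega)
  have h4 : q ^ a * 4 ≤ q ^ a * q ^ 2 := Nat.mul_le_mul_left _ h2
  omega

theorem two_mul_pow_le' (q a : ℕ) (hq : 3 ≤ q) : 2 * q ^ a ≤ q ^ (a + 1) - 1 := by
  have h1 : q ^ (a + 1) = q ^ a * q := pow_succ q a
  have h3 : 0 < q ^ a := Nat.pow_pos (by omega)
  have h4 : q ^ a * 3 ≤ q ^ a * q := Nat.mul_le_mul_left _ hq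
  omega

theorem poly_orth {F : Type*} [Field F] [Fintype F] (d : ℕ) (hd : 4 ≤ d)
    (hex : ¬ (Fintype.card F = 2 ∧ (d = 4 ∨ d = 5)))
    (χ : F[X]) (hχm : χ.Monic) (h0 : χ.coeff 0 ≠ 0) (hdeg : χ.natDegree = d) (hr : recip χ = χ) :
    ∃ N : ℕ, 0 < N ∧ 2 * ((Fintype.card F - 1) * N) ≤ Fintype.card F ^ d - 1 ∧
      (χ ∣ X ^ N - 1 ∨ χ ∣ X ^ N + 1) := by
  have hq2 : 2 ≤ Fintype.card F := Fintype.one_lt_card
  set q := Fintype.card F with hq
  -- reduction to an inequality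
  have key : ∀ m : ℕ, 2 ≤ m → χ.natDegree ≤ 2 * m + 1 → (ringChar F = 2 → χ.natDegree ≤ 2 * m) →
      (χ.natDegree = 2 * m + 1 → 3 ≤ m) → 2 * q ^ (m + 1) ≤ q ^ d - 1 →
      ∃ N : ℕ, 0 < N ∧ 2 * ((q - 1) * N) ≤ q ^ d - 1 ∧ (χ ∣ X ^ N - 1 ∨ χ ∣ X ^ N + 1) := by
    intro m hm hn hn2 hm3 hineq
    obtain ⟨N, hN0, hN1, hN2⟩ := poly_main m hm χ hχm h0 hr hn hn2 hm3
    exact ⟨N, hN0, (Nat.mul_le_mul_left 2 hN1).trans hineq, hN2⟩
  have hodd3 : ringChar F ≠ 2 → 3 ≤ q := by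
    intro hp
    obtain ⟨n, hpp, hqn⟩ := FiniteField.card F (ringChar F)
    have hp3 : 3 ≤ ringChar F := by
      have := hpp.two_le
      omega
    rw [hq, hqn]
    calc 3 ≤ ringChar F := hp3
      _ = ringChar F ^ 1 := (pow_one _).symm
      _ ≤ ringChar F ^ (n : ℕ) := Nat.pow_le_pow_right (by omega) n.pos
  rcases Nat.even_or_odd' d with ⟨k, hk | hk⟩
  · -- `d = 2 k`
    apply key k (by omega) (by omega) (fun _ => by omega) (fun h => by omega)
    rcases Nat.lt_or_ge k 3 with h3 | h3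
    · have hk2 : k = 2 := by omega
      have hq3 : 3 ≤ q := by
        by_contra hlt
        exact hex ⟨by omega, Or.inl (by omega)⟩
      rw [hk, hk2]
      exact two_mul_pow_le' q 3 hq3
    · exact two_mul_pow_le q (k + 1) d hq2 (by omega)
  · -- `d = 2 k + 1`
    by_cases hp : ringChar F = 2
    · apply key (k + 1) (by omega) (by omega) (fun _ => by omega) (fun h => by omega)
      rcases Nat.lt_or_ge k 3 with h3 | h3
      · have hk2 : k = 2 := by omega
        have hq3 : 3 ≤ q := by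
          by_contra hlt
          exact hex ⟨by omega, Or.inr (by omega)⟩
        rw [hk, hk2]
        exact two_mul_pow_le' q 4 hq3
      · exact two_mul_pow_le q (k + 1 + 1) d hq2 (by omega)
    · have hq3 := hodd3 hp
      rcases Nat.lt_or_ge k 3 with h3 | h3
      · have hk2 : k = 2 := by omega
        apply key 3 (by omega) (by omega) (fun h => absurd h hp) (fun h => by omega)
        rw [hk, hk2]
        exact two_mul_pow_le' q 4 hq3
      · apply key k (by omega) (by omega) (fun h => absurd h hp) (fun _ => h3)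
        exact two_mul_pow_le q (k + 1) d hq2 (by omega)

end Cfsg.Agent.Lib.Helper14_S2262_POLYO
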