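import Mathlib
import Cfsg.Agent.Lib.Helper40_Palindromic

/-!
# S2262-TWRECIP (helper14): a matrix preserving a non-degenerate `σ`-sesquilinear form has a
`σ`-twisted self-reciprocal characteristic polynomial
-/

set_option autoImplicit false

namespace Cfsg.Agent.Lib.Helper14_S2262_TWRECIP

open Matrix Polynomial Cfsg.Agent.Lib.Helper40_Palindromic

theorem recip_charpoly_of_twisted_gram {F : Type*} [Field F] {ι : Type*} [Fintype ι] [DecidableEq ι]
    (σ : F ≃+* F) (M B : Matrix ι ι F) (hB : B.det ≠ 0)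
    (hM : (M.map σ)ᵀ * B * M = B) :
    recip M.charpoly = M.charpoly.map (σ : F →+* F) ∧ M.charpoly.coeff 0 ≠ 0 := by
  have hBu : IsUnit B.det := isUnit_iff_ne_zero.2 hB
  set Ms : Matrix ι ι F := M.map σ with hMs
  have h1 : (B⁻¹ * Msᵀ * B) * M = 1 := by
    rw [Matrix.mul_assoc, Matrix.mul_assoc, ← Matrix.mul_assoc Msᵀ, hM,
      Matrix.nonsing_inv_mul _ hBu]
  have h2 : M * (B⁻¹ * Msᵀ * B) = 1 := mul_eq_one_comm.1 h1
  have h3 : (B⁻¹ * Msᵀ * B).charpoly = M.charpoly.map (σ : F →+* F) := by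
    rw [Matrix.mul_assoc, Matrix.charpoly_mul_comm, Matrix.mul_assoc,
      Matrix.mul_nonsing_inv _ hBu, Matrix.mul_one, Matrix.charpoly_transpose, hMs]
    exact Matrix.charpoly_map M (σ : F →+* F)
  have h4 := reverse_charpoly_of_mul_eq_one M _ h2
  rw [h3] at h4
  have hdet : M.det ≠ 0 := by
    intro h0
    have := congrArg Matrix.det h2
    rw [Matrix.det_mul, h0, zero_mul, Matrix.det_one] at this
    exact zero_ne_one this
  have hc0 : M.charpoly.coeff 0 ≠ 0 := by
    intro h0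
    apply hdet
    rw [Matrix.det_eq_sign_charpoly_coeff, h0, mul_zero]
  refine ⟨?_, hc0⟩
  unfold recip
  rw [h4, Matrix.det_eq_sign_charpoly_coeff M]
  set c := M.charpoly.coeff 0 with hc
  have h5 : (C c⁻¹ * (C ((-1) ^ Fintype.card ι * c) * (-1) ^ Fintype.card ι) : F[X]) = 1 := by
    have h6 : ((-1 : F[X]) ^ Fintype.card ι) = C ((-1 : F) ^ Fintype.card ι) := by
      rw [C_pow, C_neg, C_1]
    rw [h6, ← C_mul, ← C_mul, ← C_1]
    congr 1
    have h7 : ((-1 : F) ^ Fintype.card ι) * ((-1 : F) ^ Fintype.card ι) = 1 := by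
      rw [← mul_pow]
      norm_num
    calc c⁻¹ * ((-1) ^ Fintype.card ι * c * (-1) ^ Fintype.card ι)
        = (c⁻¹ * c) * ((-1) ^ Fintype.card ι * (-1) ^ Fintype.card ι) := by ring
      _ = 1 := by rw [inv_mul_cancel₀ hc0, h7, one_mul]
  calc C c⁻¹ * (C ((-1) ^ Fintype.card ι * c) * (-1) ^ Fintype.card ι
        * M.charpoly.map (σ : F →+* F))
      = (C c⁻¹ * (C ((-1) ^ Fintype.card ι * c) * (-1) ^ Fintype.card ι))
          * M.charpoly.map (σ : F →+* F) := by ring
    _ = M.charpoly.map (σ : F →+* F) := by rw [h5, one_mul]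

end Cfsg.Agent.Lib.Helper14_S2262_TWRECIP
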