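import Mathlib
import Cfsg.Agent.Lib.Helper14_AutOrdDefs

/-!
# S2262 package ARTIN (helper43 for helper14): `|F| = |Fix σ| ^ (order of σ)` for a finite field.
-/

set_option autoImplicit false

namespace Cfsg.Agent.Lib.Helper43_S2262_ARTIN

open Cfsg.Agent.Lib.Helper14_AutOrdDefs

/-- every power of `σ` fixes the elements of `fixF σ` -/
theorem zpowers_fix {F : Type*} [Field F] (σ : F ≃+* F) (g : RingAut F)
    (hg : g ∈ Subgroup.zpowers (σ : RingAut F)) (x : F) (hx : x ∈ fixF σ) : g x = x := by
  have h1 : Subgroup.zpowers (σ : RingAut F) ≤ MulAction.stabilizer (RingAut F) x := by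
    rw [Subgroup.zpowers_le]
    rw [MulAction.mem_stabilizer_iff]
    exact hx
  have h2 := h1 hg
  rw [MulAction.mem_stabilizer_iff] at h2
  exact h2

/-- the fixed subfield of the cyclic group generated by `σ` is `fixF σ` -/
theorem fixedPoints_zpowers {F : Type*} [Field F] (σ : F ≃+* F) :
    FixedPoints.subfield (Subgroup.zpowers (σ : RingAut F)) F = fixF σ := by
  ext x
  constructor
  · intro hx
    have := hx ⟨σ, Subgroup.mem_zpowers _⟩
    exact this
  · intro hx g
    exact zpowers_fix σ g.1 g.2 x hx

theorem card_eq_pow {F : Type*} [Field F] [Fintype F] (σ : F ≃+* F) :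
    Fintype.card F = Nat.card (fixF σ) ^ orderOf σ := by
  classical
  have hfin : Finite (RingAut F) :=
    Finite.of_injective (fun e : RingAut F => (e : F → F)) DFunLike.coe_injective
  let _ : Fintype (Subgroup.zpowers (σ : RingAut F)) := Fintype.ofFinite _
  have h1 := FixedPoints.finrank_eq_card (Subgroup.zpowers (σ : RingAut F)) F
  rw [← Nat.card_eq_fintype_card, Nat.card_zpowers] at h1
  have h2 : Fintype.card F =
      Fintype.card (FixedPoints.subfield (Subgroup.zpowers (σ : RingAut F)) F) ^
        Module.finrank (FixedPoints.subfield (Subgroup.zpowers (σ : RingAut F)) F) F :=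
    Module.card_eq_pow_finrank
  rw [h1, ← Nat.card_eq_fintype_card (α := (FixedPoints.subfield _ F)), fixedPoints_zpowers] at h2
  exact h2

end Cfsg.Agent.Lib.Helper43_S2262_ARTIN
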