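import Mathlib
import Cfsg.Agent.Lib.Helper40_OrdPoly

/-!
# S2262 package POLYO3 (architect helper14, proof helper4)

A monic self-reciprocal cubic `χ` with `χ(0) = -1` over a finite field with `q ≥ 3` elements divides
`X ^ N - 1` for some `N > 0` with `2 (q - 1) N ≤ q ^ 3 - 1`.

`χ = (X - 1) π`, `π` monic self-reciprocal quadratic with `π(0) = 1`.  If `π` is irreducible then
`π ∣ X ^ (q + 1) - 1`; otherwise `π = (X - a)(X - b)`, `a b = 1`, and `N = q - 1` (`a ≠ b`),
`N = q` (`a = b = 1`), `N = 2 q` (`a = b = -1`).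
-/

set_option autoImplicit false

namespace Cfsg.Agent.Lib.Helper4_S2262_POLYO3

open Polynomial Cfsg.Agent.Lib.Helper40_Palindromic Cfsg.Agent.Lib.Helper40_OrdPoly

variable {F : Type*} [Field F] [Fintype F]

theorem X_sub_one_pow_card : ((X : F[X]) - 1) ^ Fintype.card F = X ^ Fintype.card F - 1 := by
  rw [← FiniteField.expand_card, map_sub, expand_X, map_one]

theorem X_add_one_pow_card : ((X : F[X]) + 1) ^ Fintype.card F = X ^ Fintype.card F + 1 := by
  rw [← FiniteField.expand_card, map_add, expand_X, map_one]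

theorem X_sub_C_dvd_of_ne_zero (c : F) (hc : c ≠ 0) :
    (X - C c : F[X]) ∣ X ^ (Fintype.card F - 1) - 1 := by
  rw [dvd_iff_isRoot, IsRoot.def, eval_sub, eval_pow, eval_X, eval_one,
    FiniteField.pow_card_sub_one_eq_one c hc, sub_self]

theorem arith1 (q : ℕ) (hq : 3 ≤ q) : 2 * ((q - 1) * (q + 1)) ≤ q ^ 3 - 1 := by
  obtain ⟨k, rfl⟩ : ∃ k, q = k + 1 := ⟨q - 1, by omega⟩
  have h3 : (k + 1) ^ 3 = k ^ 3 + 3 * k ^ 2 + 3 * k + 1 := by ring
  rw [h3]
  simp only [Nat.add_sub_cancel]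
  nlinarith [Nat.zero_le (k ^ 3), Nat.zero_le (k ^ 2)]

theorem arith2 (q : ℕ) (hq : 3 ≤ q) : 2 * ((q - 1) * q) ≤ q ^ 3 - 1 := by
  obtain ⟨k, rfl⟩ : ∃ k, q = k + 1 := ⟨q - 1, by omega⟩
  have h3 : (k + 1) ^ 3 = k ^ 3 + 3 * k ^ 2 + 3 * k + 1 := by ring
  rw [h3]
  simp only [Nat.add_sub_cancel]
  nlinarith [Nat.zero_le (k ^ 3), Nat.zero_le (k ^ 2)]

theorem arith3 (q : ℕ) (hq : 3 ≤ q) : 2 * ((q - 1) * (2 * q)) ≤ q ^ 3 - 1 := by
  obtain ⟨k, rfl⟩ : ∃ k, q = k + 3 := ⟨q - 3, by omega⟩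
  have h3 : (k + 3) ^ 3 = k ^ 3 + 9 * k ^ 2 + 27 * k + 26 + 1 := by ring
  have h4 : k + 3 - 1 = k + 2 := by omega
  rw [h3, h4]
  simp only [Nat.add_sub_cancel]
  nlinarith [Nat.zero_le (k ^ 3), Nat.zero_le (k ^ 2)]

theorem arith4 (q : ℕ) (hq : 3 ≤ q) : 2 * ((q - 1) * (q - 1)) ≤ q ^ 3 - 1 := by
  obtain ⟨k, rfl⟩ : ∃ k, q = k + 1 := ⟨q - 1, by omega⟩
  have h3 : (k + 1) ^ 3 = k ^ 3 + 3 * k ^ 2 + 3 * k + 1 := by ring
  rw [h3]
  simp only [Nat.add_sub_cancel]
  nlinarith [Nat.zero_le (k ^ 3), Nat.zero_le (k ^ 2)]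

theorem poly_orth3 {F : Type*} [Field F] [Fintype F] (hq : 3 ≤ Fintype.card F)
    (χ : F[X]) (hχm : χ.Monic) (h0 : χ.coeff 0 = -1) (hdeg : χ.natDegree = 3) (hr : recip χ = χ) :
    ∃ N : ℕ, 0 < N ∧ 2 * ((Fintype.card F - 1) * N) ≤ Fintype.card F ^ 3 - 1 ∧ χ ∣ X ^ N - 1 := by
  classical
  set q := Fintype.card F with hqdef
  -- `χ` vanishes at `1`
  have hrev : χ.reverse = C (-1 : F) * χ := by
    have h1 : recip χ = C (-1 : F) * χ.reverse := by
      unfold recip
      rw [h0]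
      norm_num
    rw [hr] at h1
    calc χ.reverse = C (-1 : F) * (C (-1 : F) * χ.reverse) := by
          rw [← mul_assoc, ← C_mul]
          norm_num
      _ = C (-1 : F) * χ := by rw [← h1]
  have hroot : χ.eval 1 = 0 :=
    eval_eq_zero_of_reverse χ 3 hdeg (by decide) (-1) 1 (by norm_num) (by norm_num) hrev
  have hdvd : (X - 1 : F[X]) ∣ χ := by
    have := dvd_iff_isRoot.mpr (show IsRoot χ 1 from hroot)
    rwa [C_1] at this
  obtain ⟨π, hπ⟩ := hdvd
  have hX1 : (X - 1 : F[X]) ≠ 0 := monic_X_sub_one.ne_zero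
  have hπm : π.Monic := by
    rw [hπ] at hχm
    exact monic_X_sub_one.of_mul_monic_left hχm
  have hπd : π.natDegree = 2 := by
    have := monic_X_sub_one.natDegree_mul hπm (R := F)
    rw [← hπ, hdeg, natDegree_X_sub_one] at this
    omega
  have hπ0 : π.coeff 0 = 1 := by
    have h1 : χ.coeff 0 = (X - 1 : F[X]).coeff 0 * π.coeff 0 := by
      rw [hπ, mul_coeff_zero]
    have h2 : (X - 1 : F[X]).coeff 0 = -1 := by
      simp
    rw [h0, h2] at h1
    have : -(π.coeff 0) = -1 := by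
      rw [h1]
      ring
    exact neg_injective this.symm ▸ rfl
  have hπ0' : π.coeff 0 ≠ 0 := by
    rw [hπ0]
    exact one_ne_zero
  have hπr : recip π = π := by
    have h1 : recip χ = (X - 1) * recip π := by
      rw [hπ, recip_mul, recip_X_sub_one]
    rw [hr] at h1
    have h2 : (X - 1 : F[X]) * π = (X - 1) * recip π := by
      rw [← hπ]
      exact h1
    exact (mul_left_cancel₀ hX1 h2).symm
  have hX1dvd : ∀ N : ℕ, (X - 1 : F[X]) ∣ X ^ N - 1 := by
    intro N
    simpa using sub_dvd_pow_sub_pow (X : F[X]) 1 N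
  by_cases hirr : Irreducible π
  · -- `π` irreducible: `N = q + 1`
    rcases self_recip_cases π hπm hirr hπ0' hπr with h | h | ⟨δ, hδ1, hδ2, hδ3⟩
    · exfalso
      rw [h, natDegree_X_sub_one] at hπd
      omega
    · exfalso
      rw [h, natDegree_X_add_one] at hπd
      omega
    · have hδ : δ = 1 := by omega
      rw [hδ, pow_one] at hδ3
      refine ⟨q + 1, Nat.succ_pos _, arith1 q hq, ?_⟩
      rw [hπ]
      have hne : (X - 1 : F[X]) ≠ π := by
        intro h
        rw [← h, natDegree_X_sub_one] at hπd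
        omega
      exact (coprime_of_ne monic_X_sub_one hπm irreducible_X_sub_one hirr hne).mul_dvd
        (hX1dvd _) hδ3
  · -- `π` has a root
    have hroots : π.roots ≠ 0 := by
      intro h
      exact hirr ((hπm.irreducible_iff_roots_eq_zero_of_degree_le_three (by omega) (by omega)).mpr h)
    obtain ⟨a, ha⟩ := Multiset.exists_mem_of_ne_zero hroots
    have haroot : IsRoot π a := (mem_roots hπm.ne_zero).mp ha
    obtain ⟨ρ, hρ⟩ := dvd_iff_isRoot.mpr haroot
    have hρm : ρ.Monic := by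
      rw [hρ] at hπm
      exact (monic_X_sub_C a).of_mul_monic_left hπm
    have hρd : ρ.natDegree = 1 := by
      have := (monic_X_sub_C a).natDegree_mul hρm
      rw [← hρ, hπd, natDegree_X_sub_C] at this
      omega
    have hρe : ρ = X - C (-ρ.coeff 0) := by
      conv_lhs => rw [hρm.eq_X_add_C hρd]
      rw [C_neg, sub_neg_eq_add]
    set b : F := -ρ.coeff 0 with hb
    have hab : a * b = 1 := by
      have h1 : π.coeff 0 = (X - C a : F[X]).coeff 0 * ρ.coeff 0 := by
        rw [hρ, mul_coeff_zero]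
      have h2 : (X - C a : F[X]).coeff 0 = -a := by
        simp
      rw [hπ0, h2] at h1
      rw [hb, h1]
      ring
    have ha0 : a ≠ 0 := left_ne_zero_of_mul_eq_one hab
    have hb0 : b ≠ 0 := right_ne_zero_of_mul_eq_one hab
    have hχ : χ = (X - 1) * ((X - C a) * (X - C b)) := by
      rw [hπ, hρ, hρe]
    by_cases hab' : a = b
    · rw [← hab'] at hχ hab
      have hcases : a = 1 ∨ a = -1 := by
        have : (a - 1) * (a + 1) = 0 := by
          have : (a - 1) * (a + 1) = a * a - 1 := by ring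
          rw [this, hab, sub_self]
        rcases mul_eq_zero.mp this with h | h
        · left
          exact sub_eq_zero.mp h
        · right
          exact eq_neg_of_add_eq_zero_left h
      rcases hcases with h1 | h1
      · -- `χ = (X - 1) ^ 3`, `N = q`
        refine ⟨q, by omega, arith2 q hq, ?_⟩
        rw [← X_sub_one_pow_card, hχ, h1, C_1]
        have : (X - 1 : F[X]) * ((X - 1) * (X - 1)) = (X - 1) ^ 3 := by ring
        rw [this]
        exact pow_dvd_pow _ hq
      · -- `χ = (X - 1) (X + 1) ^ 2`, `N = 2 q`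
        refine ⟨2 * q, by omega, arith3 q hq, ?_⟩
        have e1 : (X : F[X]) ^ (2 * q) - 1 = (X - 1) ^ q * (X + 1) ^ q := by
          rw [X_sub_one_pow_card, X_add_one_pow_card]
          ring
        rw [e1, hχ, h1, C_neg, C_1, sub_neg_eq_add]
        have : ((X : F[X]) + 1) * (X + 1) = (X + 1) ^ 2 := by ring
        rw [this]
        exact mul_dvd_mul (dvd_pow_self _ (by omega)) (pow_dvd_pow _ (by omega))
    · -- three distinct roots `1, a, b`, `N = q - 1`
      have ha1 : a ≠ 1 := by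
        intro h
        apply hab'
        rw [h, one_mul] at hab
        rw [h, hab]
      have hb1 : b ≠ 1 := by
        intro h
        apply hab'
        rw [h, mul_one] at hab
        rw [h, hab]
      refine ⟨q - 1, by omega, arith4 q hq, ?_⟩
      rw [hχ]
      have c1 : IsCoprime (X - C a : F[X]) (X - C b) :=
        isCoprime_X_sub_C_of_isUnit_sub (isUnit_iff_ne_zero.mpr (sub_ne_zero.mpr hab'))
      have c2 : IsCoprime (X - C (1 : F) : F[X]) (X - C a) :=
        isCoprime_X_sub_C_of_isUnit_sub (isUnit_iff_ne_zero.mpr (sub_ne_zero.mpr (Ne.symm ha1)))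
      have c3 : IsCoprime (X - C (1 : F) : F[X]) (X - C b) :=
        isCoprime_X_sub_C_of_isUnit_sub (isUnit_iff_ne_zero.mpr (sub_ne_zero.mpr (Ne.symm hb1)))
      have c4 : IsCoprime (X - 1 : F[X]) ((X - C a) * (X - C b)) := by
        rw [C_1] at c2 c3
        exact c2.mul_right c3
      exact c4.mul_dvd (hX1dvd _)
        (c1.mul_dvd (X_sub_C_dvd_of_ne_zero a ha0) (X_sub_C_dvd_of_ne_zero b hb0))

end Cfsg.Agent.Lib.Helper4_S2262_POLYO3
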