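import Mathlib
import Cfsg.Agent.Lib.Helper14_AutOrdDefs
import Cfsg.Agent.S2261

/-!
# S2262-FIXCOUNT (architect helper14)

If the characteristic polynomial of `N ∈ GL_d(F)` has coefficients in the fixed field `F₀` of `σ`,
then `(q₀ - 1) * ord(N mod centre) ≤ q₀ ^ d - 1` with `q₀ = |F₀|`.
-/

set_option autoImplicit false

namespace Cfsg.Agent.Lib.Helper5_S2262_FIXCOUNT

open Matrix Polynomial Cfsg.Agent.Lib.Helper14_AutOrdDefs

section

variable {F : Type*} [Field F]

/-- the span of the first `d` powers of a matrix, with coefficients in a subfield -/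
def powSpan0 (K : Subfield F) (d : ℕ) (M : Matrix (Fin d) (Fin d) F) :
    Set (Matrix (Fin d) (Fin d) F) :=
  Set.range (fun a : Fin d → K => ∑ i : Fin d, (a i : F) • M ^ (i : ℕ))

theorem smul_pow_mem_powSpan0 (K : Subfield F) (d : ℕ) (hd : 1 ≤ d)
    (M : Matrix (Fin d) (Fin d) F) (χ₀ : K[X]) (hχ₀ : χ₀.map K.subtype = M.charpoly)
    (hmon : χ₀.Monic) (c : K) (k : ℕ) : (c : F) • M ^ k ∈ powSpan0 K d M := by
  have : Nonempty (Fin d) := ⟨⟨0, hd⟩⟩
  have hdeg : χ₀.natDegree = d := by
    have h1 : (χ₀.map K.subtype).natDegree = χ₀.natDegree := hmon.natDegree_map _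
    rw [← h1, hχ₀, Matrix.charpoly_natDegree_eq_dim, Fintype.card_fin]
  have hne1 : χ₀ ≠ 1 := by
    intro h
    rw [h, natDegree_one] at hdeg
    omega
  set r := (X ^ k : K[X]) %ₘ χ₀ with hr
  have hrdeg : r.natDegree < d := by
    rw [← hdeg]; exact natDegree_modByMonic_lt _ hmon hne1
  have hrdeg' : (r.map K.subtype).natDegree < d :=
    lt_of_le_of_lt (natDegree_map_le) hrdeg
  have h1 : aeval M (r.map K.subtype) = M ^ k := by
    have h2 := congrArg (fun p : K[X] => aeval M (p.map K.subtype))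
      (modByMonic_add_div (X ^ k : K[X]) χ₀)
    simp only [Polynomial.map_add, Polynomial.map_mul, Polynomial.map_pow, Polynomial.map_X,
      map_add, map_mul, map_pow, aeval_X] at h2
    rw [hχ₀, Matrix.aeval_self_charpoly, zero_mul, add_zero] at h2
    rw [hr]; exact h2
  refine ⟨fun i => c * r.coeff (i : ℕ), ?_⟩
  change ∑ i : Fin d, ((c * r.coeff (i : ℕ) : K) : F) • M ^ (i : ℕ) = (c : F) • M ^ k
  rw [← h1, aeval_eq_sum_range' hrdeg', Finset.smul_sum, ← Fin.sum_univ_eq_sum_range
    (fun i => (c : F) • ((r.map K.subtype).coeff i • M ^ i)) d]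
  apply Finset.sum_congr rfl
  intro i _
  rw [coeff_map, Subfield.coe_mul, mul_smul]
  rfl

theorem zero_mem_powSpan0 (K : Subfield F) (d : ℕ) (M : Matrix (Fin d) (Fin d) F) :
    (0 : Matrix (Fin d) (Fin d) F) ∈ powSpan0 K d M :=
  ⟨0, by simp⟩

theorem card_powSpan0_le [Finite F] (K : Subfield F) (d : ℕ) (M : Matrix (Fin d) (Fin d) F) :
    Nat.card (powSpan0 K d M) ≤ Nat.card K ^ d := by
  classical
  have h := Finite.card_range_le (fun a : Fin d → K => ∑ i : Fin d, (a i : F) • M ^ (i : ℕ))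
  have h2 : Nat.card (Fin d → K) = Nat.card K ^ d := by
    rw [Nat.card_fun, Nat.card_eq_fintype_card (α := Fin d), Fintype.card_fin]
  rw [h2] at h
  exact h

end

section

variable {F : Type*} [Field F] [Fintype F]

omit [Fintype F] in
/-- the characteristic polynomial descends to the fixed field -/
theorem exists_descent (d : ℕ) (σ : F ≃+* F) (M : Matrix (Fin d) (Fin d) F)
    (hN : M.charpoly.map (σ : F →+* F) = M.charpoly) :
    ∃ χ₀ : (fixF σ)[X], χ₀.map (fixF σ).subtype = M.charpoly ∧ χ₀.Monic := by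
  have hl : M.charpoly ∈ Polynomial.lifts (fixF σ).subtype := by
    rw [Polynomial.lifts_iff_coeff_lifts]
    intro n
    have h1 : σ (M.charpoly.coeff n) = M.charpoly.coeff n := by
      have := congrArg (fun p : F[X] => p.coeff n) hN
      simpa [coeff_map] using this
    exact ⟨⟨M.charpoly.coeff n, h1⟩, rfl⟩
  obtain ⟨q, hq, -, hqm⟩ :=
    Polynomial.lifts_and_natDegree_eq_and_monic hl (Matrix.charpoly_monic M)
  exact ⟨q, hq, hqm⟩

theorem fix_count (d : ℕ) (hd : 1 ≤ d) (σ : F ≃+* F)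
    (N : GL (Fin d) F)
    (hN : (N : Matrix (Fin d) (Fin d) F).charpoly.map (σ : F →+* F)
      = (N : Matrix (Fin d) (Fin d) F).charpoly) :
    (Nat.card (fixF σ) - 1) *
        orderOf (QuotientGroup.mk N : GL (Fin d) F ⧸ Subgroup.center (GL (Fin d) F))
      ≤ Nat.card (fixF σ) ^ d - 1 := by
  classical
  have : Nonempty (Fin d) := ⟨⟨0, hd⟩⟩
  set K : Subfield F := fixF σ with hK
  set M : Matrix (Fin d) (Fin d) F := (N : Matrix (Fin d) (Fin d) F) with hM
  obtain ⟨χ₀, hχ₀, hmon⟩ := exists_descent d σ M hN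
  set gbar : GL (Fin d) F ⧸ Subgroup.center (GL (Fin d) F) := QuotientGroup.mk N with hgbar
  set o := orderOf gbar with ho
  -- the target set
  let T : Set (Matrix (Fin d) (Fin d) F) := powSpan0 K d M \ {0}
  have hTcard : Nat.card T ≤ Nat.card K ^ d - 1 := by
    have h1 : Nat.card T = Nat.card (powSpan0 K d M) - 1 := by
      rw [Nat.card_coe_set_eq, Nat.card_coe_set_eq]
      exact Set.ncard_sdiff_singleton_of_mem (zero_mem_powSpan0 K d M)
    rw [h1]
    exact Nat.sub_le_sub_right (card_powSpan0_le K d M) 1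
  -- the injection
  have hdet : ∀ (c : Fˣ) (k : ℕ), ((c : F) • M ^ k) ≠ 0 := by
    intro c k h0
    have h1 : ((c : F) • M ^ k).det = 0 := by rw [h0, Matrix.det_zero]
    rw [Matrix.det_smul, Matrix.det_pow] at h1
    have hdetM : M.det ≠ 0 := by
      have := Matrix.GeneralLinearGroup.det_ne_zero N
      exact this
    exact (mul_ne_zero (pow_ne_zero _ c.ne_zero) (pow_ne_zero _ hdetM)) h1
  let ι' : Kˣ →* Fˣ := Units.map (K.subtype : K →* F)
  have hι' : Function.Injective ι' := Units.map_injective Subtype.val_injective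
  have hι'c : ∀ c : Kˣ, ((ι' c : Fˣ) : F) = ((c : K) : F) := fun c => rfl
  let f : Kˣ × Fin o → T := fun v =>
    ⟨((ι' v.1 : Fˣ) : F) • M ^ (v.2 : ℕ),
      ⟨by rw [hι'c]; exact smul_pow_mem_powSpan0 K d hd M χ₀ hχ₀ hmon _ _, hdet _ _⟩⟩
  have hf : Function.Injective f := by
    rintro ⟨c0, k⟩ ⟨c0', k'⟩ h
    set c : Fˣ := ι' c0 with hc
    set c' : Fˣ := ι' c0' with hc'
    have h1 : (c : F) • M ^ (k : ℕ) = (c' : F) • M ^ (k' : ℕ) := congrArg Subtype.val h
    -- as elements of GL
    have h2 : Matrix.GeneralLinearGroup.scalar (Fin d) c * N ^ (k : ℕ) =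
        Matrix.GeneralLinearGroup.scalar (Fin d) c' * N ^ (k' : ℕ) := by
      apply Units.ext
      simp only [Units.val_mul, Units.val_pow_eq_pow_val, Matrix.GeneralLinearGroup.coe_scalar]
      rw [← hM]
      simpa [Matrix.scalar_apply, ← Matrix.smul_eq_diagonal_mul] using h1
    have h3 : gbar ^ (k : ℕ) = gbar ^ (k' : ℕ) := by
      have := congrArg
        (QuotientGroup.mk : GL (Fin d) F → GL (Fin d) F ⧸ Subgroup.center (GL (Fin d) F)) h2
      rw [QuotientGroup.mk_mul, QuotientGroup.mk_mul,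
        (QuotientGroup.eq_one_iff _).mpr (Cfsg.Agent.S2261.scalar_mem_center d c),
        (QuotientGroup.eq_one_iff _).mpr (Cfsg.Agent.S2261.scalar_mem_center d c'), one_mul,
        one_mul, QuotientGroup.mk_pow, QuotientGroup.mk_pow] at this
      exact this
    have hk : (k : ℕ) = (k' : ℕ) := by
      have hinj := pow_injOn_Iio_orderOf (x := gbar)
      exact hinj (Set.mem_Iio.mpr k.2) (Set.mem_Iio.mpr k'.2) h3
    have hk' : k = k' := Fin.ext hk
    subst hk'
    have hcc : (c : F) = (c' : F) := by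
      have hMk : IsUnit (M ^ (k : ℕ)) := by
        rw [hM, ← Units.val_pow_eq_pow_val]; exact Units.isUnit _
      obtain ⟨u, hu⟩ := hMk
      have h4 : ((c : F) - (c' : F)) • M ^ (k : ℕ) = 0 := by rw [sub_smul, h1, sub_self]
      have h5 : ((c : F) - (c' : F)) • (1 : Matrix (Fin d) (Fin d) F) = 0 := by
        have := congrArg (fun X => X * (u⁻¹ : (Matrix (Fin d) (Fin d) F)ˣ).val) h4
        simp only [Matrix.smul_mul, zero_mul] at this
        rw [← hu, Units.mul_inv] at this
        exact this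
      have h6 := congrFun (congrFun h5 ⟨0, hd⟩) ⟨0, hd⟩
      simp at h6
      exact sub_eq_zero.mp h6
    have h7 : c = c' := Units.ext hcc
    have h8 : c0 = c0' := hι' h7
    rw [h8]
  have hle := Nat.card_le_card_of_injective f hf
  rw [Nat.card_prod, Nat.card_units, Nat.card_eq_fintype_card (α := Fin o),
    Fintype.card_fin] at hle
  exact hle.trans hTcard

end

end Cfsg.Agent.Lib.Helper5_S2262_FIXCOUNT
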