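import Mathlib
import Cfsg.Agent.Lib.Helper14_AutOrdDefs
import Cfsg.Agent.Lib.Helper40_OrdPoly

/-!
# S2262-NORMTRICK (architect helper14)

`χ` monic over `F` with `recip χ = χ.map σ`, `σ² = 1`: the norm `Ψ = χ * χ.map σ` is
self-reciprocal with coefficients in the fixed field of `σ`; `poly_main` over the fixed field.
-/

set_option autoImplicit false

namespace Cfsg.Agent.Lib.Helper5_S2262_NORMTRICK

open Polynomial Cfsg.Agent.Lib.Helper14_AutOrdDefs Cfsg.Agent.Lib.Helper40_Palindromic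
  Cfsg.Agent.Lib.Helper40_OrdPoly

section

variable {R S : Type*} [Field R] [Field S]

theorem map_reverse_hom (f : R →+* S) (p : R[X]) : (p.map f).reverse = p.reverse.map f := by
  unfold reverse
  rw [natDegree_map, reflect_map]

theorem map_recip_hom (f : R →+* S) (p : R[X]) : (recip p).map f = recip (p.map f) := by
  unfold recip
  rw [Polynomial.map_mul, map_C, map_inv₀, coeff_map, map_reverse_hom]

end

theorem poly_twisted {F : Type*} [Field F] [Fintype F] (σ : F ≃+* F) (hσ2 : σ * σ = 1)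
    (d : ℕ) (hd : 2 ≤ d) (χ : F[X]) (hχm : χ.Monic) (h0 : χ.coeff 0 ≠ 0) (hdeg : χ.natDegree = d)
    (hr : recip χ = χ.map (σ : F →+* F)) :
    ∃ N : ℕ, 0 < N ∧ (Nat.card (fixF σ) - 1) * N ≤ Nat.card (fixF σ) ^ (d + 1) ∧
      (χ ∣ X ^ N - 1 ∨ χ ∣ X ^ N + 1) := by
  classical
  set K : Subfield F := fixF σ with hK
  letI : Fintype K := Fintype.ofFinite K
  set s : F →+* F := (σ : F →+* F) with hs
  have hss : ∀ c : F, s (s c) = c := by
    intro c
    have h1 : σ (σ c) = c := by
      have := congrArg (fun τ : F ≃+* F => τ c) hσ2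
      simpa using this
    exact h1
  have hmm : ∀ p : F[X], (p.map s).map s = p := by
    intro p
    rw [Polynomial.map_map]
    have : s.comp s = RingHom.id F := RingHom.ext hss
    rw [this, Polynomial.map_id]
  -- the norm
  set Ψ : F[X] := χ * χ.map s with hΨ
  have hΨσ : Ψ.map s = Ψ := by
    rw [hΨ, Polynomial.map_mul, hmm, mul_comm]
  have hχsm : (χ.map s).Monic := hχm.map s
  have hΨm : Ψ.Monic := hχm.mul hχsm
  have hΨdeg : Ψ.natDegree = 2 * d := by
    rw [hΨ, hχm.natDegree_mul hχsm, natDegree_map, hdeg]; ring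
  have hΨ0 : Ψ.coeff 0 ≠ 0 := by
    rw [hΨ, mul_coeff_zero, coeff_map]
    exact mul_ne_zero h0 ((map_ne_zero s).2 h0)
  have hΨr : recip Ψ = Ψ := by
    rw [hΨ, recip_mul, ← map_recip_hom, hr, hmm, mul_comm]
  -- descent to the fixed field
  have hl : Ψ ∈ Polynomial.lifts K.subtype := by
    rw [Polynomial.lifts_iff_coeff_lifts]
    intro n
    have h1 : σ (Ψ.coeff n) = Ψ.coeff n := by
      have h2 := congrArg (fun p : F[X] => p.coeff n) hΨσ
      simp only [coeff_map] at h2
      exact h2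
    exact ⟨⟨Ψ.coeff n, h1⟩, rfl⟩
  obtain ⟨Ψ₀, hΨ₀, hΨ₀deg, hΨ₀m⟩ := Polynomial.lifts_and_natDegree_eq_and_monic hl hΨm
  have hinj : Function.Injective (Polynomial.map K.subtype : K[X] → F[X]) :=
    Polynomial.map_injective _ K.subtype.injective
  have hΨ₀0 : Ψ₀.coeff 0 ≠ 0 := by
    intro h
    apply hΨ0
    rw [← hΨ₀, coeff_map, h, map_zero]
  have hΨ₀r : recip Ψ₀ = Ψ₀ := by
    apply hinj
    rw [map_recip_hom, hΨ₀, hΨr]
  have hdegle : Ψ₀.natDegree ≤ 2 * d + 1 := by rw [hΨ₀deg, hΨdeg]; omega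
  obtain ⟨N, hN0, hNle, hNdvd⟩ := poly_main (F := K) d hd Ψ₀ hΨ₀m hΨ₀0 hΨ₀r hdegle
    (fun _ => by rw [hΨ₀deg, hΨdeg]) (fun h => by rw [hΨ₀deg, hΨdeg] at h; omega)
  refine ⟨N, hN0, ?_, ?_⟩
  · rw [Nat.card_eq_fintype_card]; exact hNle
  · have hχΨ : χ ∣ Ψ := dvd_mul_right _ _
    rcases hNdvd with h | h
    · left
      have := Polynomial.map_dvd K.subtype h
      rw [hΨ₀] at this
      simp only [Polynomial.map_sub, Polynomial.map_pow, Polynomial.map_X, Polynomial.map_one]
        at this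
      exact hχΨ.trans this
    · right
      have := Polynomial.map_dvd K.subtype h
      rw [hΨ₀] at this
      simp only [Polynomial.map_add, Polynomial.map_pow, Polynomial.map_X, Polynomial.map_one]
        at this
      exact hχΨ.trans this

end Cfsg.Agent.Lib.Helper5_S2262_NORMTRICK
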