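import Mathlib

/-!
# S2262-ARB (helper7, for helper14's S2262 market)

Pure `ℕ` inequality of the field-automorphism case:
`(q0-1) o ≤ q0^d - 1` implies `(q0^e-1) (e o) ≤ (q0^e)^d - 1` unless `(e,d,q0) = (2,2,2)`.
With `gs x d = ∑_{i<d} x^i`: `(x-1) gs x d + 1 = x^d`, `o ≤ gs q0 d`, and `e * gs q0 d ≤ gs (q0^e) d`.
-/

set_option autoImplicit false

namespace Cfsg.Agent.Lib.Helper7_S2262_ARB

/-- geometric sum -/
def gs (x d : ℕ) : ℕ := ∑ i ∈ Finset.range d, x ^ i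

theorem gs_zero (x : ℕ) : gs x 0 = 0 := by simp [gs]

theorem gs_succ (x d : ℕ) : gs x (d + 1) = gs x d + x ^ d := Finset.sum_range_succ _ _

theorem gs_mul (x d : ℕ) (hx : 1 ≤ x) : (x - 1) * gs x d + 1 = x ^ d := by
  obtain ⟨a, rfl⟩ : ∃ a, x = a + 1 := ⟨x - 1, by omega⟩
  rw [Nat.add_sub_cancel]
  induction d with
  | zero => simp [gs_zero]
  | succ d ih =>
    rw [gs_succ, pow_succ, ← ih]
    ring

/-- `e x ≤ x^e` for `x, e ≥ 2` -/
theorem mul_le_pow (x e : ℕ) (hx : 2 ≤ x) (he : 2 ≤ e) : e * x ≤ x ^ e := by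
  induction e, he using Nat.le_induction with
  | base => nlinarith
  | succ e he ih =>
    rw [pow_succ]
    nlinarith [Nat.pow_le_pow_left hx e, Nat.one_le_two_pow (n := e)]

/-- `e (x+1) ≤ x^e + 1` for `x, e ≥ 2`, `(e,x) ≠ (2,2)` -/
theorem key (x e : ℕ) (hx : 2 ≤ x) (he : 2 ≤ e) (h : ¬ (e = 2 ∧ x = 2)) :
    e * (x + 1) ≤ x ^ e + 1 := by
  by_cases hx2 : x = 2
  · subst hx2
    have he3 : 3 ≤ e := by
      rcases Nat.lt_or_ge e 3 with h3 | h3
      · exact absurd ⟨by omega, rfl⟩ h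
      · exact h3
    clear h he
    induction e, he3 using Nat.le_induction with
    | base => norm_num
    | succ e he ih =>
      rw [pow_succ]
      omega
  · have hx3 : 3 ≤ x := by omega
    clear h
    induction e, he using Nat.le_induction with
    | base => nlinarith
    | succ e he ih =>
      rw [pow_succ]
      nlinarith [Nat.mul_le_mul_left x ih, Nat.mul_le_mul he hx3]

/-- `e * gs q0 d ≤ gs (q0^e) d` -/
theorem gs_le (e d q0 : ℕ) (he : 2 ≤ e) (hd : 2 ≤ d) (hq : 2 ≤ q0)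
    (hex : ¬ (e = 2 ∧ d = 2 ∧ q0 = 2)) : e * gs q0 d ≤ gs (q0 ^ e) d := by
  have hstep : ∀ i : ℕ, 1 ≤ i → e * q0 ^ i ≤ (q0 ^ e) ^ i := by
    intro i hi
    rw [← pow_mul, mul_comm e i, pow_mul]
    apply mul_le_pow _ _ _ he
    calc 2 ≤ q0 := hq
      _ = q0 ^ 1 := (pow_one _).symm
      _ ≤ q0 ^ i := Nat.pow_le_pow_right (by omega) hi
  by_cases h22 : e = 2 ∧ q0 = 2
  · obtain ⟨rfl, rfl⟩ := h22
    have hd3 : 3 ≤ d := by
      rcases Nat.lt_or_ge d 3 with h3 | h3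
      · exact absurd ⟨rfl, by omega, rfl⟩ hex
      · exact h3
    clear hex hd
    induction d, hd3 using Nat.le_induction with
    | base => norm_num [gs, Finset.sum_range_succ]
    | succ d hd ih =>
      rw [gs_succ, gs_succ, mul_add]
      exact add_le_add ih (hstep d (by omega))
  · clear hex
    induction d, hd using Nat.le_induction with
    | base =>
      have := key q0 e hq he (fun h => h22 h)
      simp only [gs, Finset.sum_range_succ, Finset.sum_range_zero, pow_zero, pow_one, zero_add]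
      linarith
    | succ d hd ih =>
      rw [gs_succ, gs_succ, mul_add]
      exact add_le_add ih (hstep d (by omega))

/-- from `e * gs q0 d ≤ gs Q d` to the final inequality (shared with ARC) -/
theorem final (c d q0 Q o : ℕ) (hq : 2 ≤ q0) (hQ : 1 ≤ Q) (hS : c * gs q0 d ≤ gs Q d)
    (ho : (q0 - 1) * o ≤ q0 ^ d - 1) : (Q - 1) * (c * o) ≤ Q ^ d - 1 := by
  have h1 := gs_mul q0 d (by omega)
  have h2 := gs_mul Q d hQ
  have ho' : o ≤ gs q0 d := by
    have : (q0 - 1) * o ≤ (q0 - 1) * gs q0 d := by omega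
    exact Nat.le_of_mul_le_mul_left this (by omega)
  have h3 : (Q - 1) * (c * o) ≤ (Q - 1) * gs Q d :=
    Nat.mul_le_mul_left _ ((Nat.mul_le_mul_left _ ho').trans hS)
  omega

/-- PKG S2262-ARB. -/
theorem arith_field (e d q0 o : ℕ) (he : 2 ≤ e) (hd : 2 ≤ d) (hq : 2 ≤ q0)
    (hex : ¬ (e = 2 ∧ d = 2 ∧ q0 = 2)) (ho : (q0 - 1) * o ≤ q0 ^ d - 1) :
    (q0 ^ e - 1) * (e * o) ≤ (q0 ^ e) ^ d - 1 :=
  final e d q0 (q0 ^ e) o hq (Nat.one_le_pow _ _ (by omega)) (gs_le e d q0 he hd hq hex) ho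

end Cfsg.Agent.Lib.Helper7_S2262_ARB
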