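import Mathlib
import Cfsg.Agent.Lib.Helper7_S2262_ARB

/-!
# S2262-ARC (helper7, for helper14's S2262 market)

Pure `ℕ` inequality of the graph-field case:
`(q0-1) o ≤ q0^d - 1` implies `(q0^e-1) (2 e o) ≤ (q0^e)^d - 1` for `d ≥ 3`, `(e,q0) ≠ (2,2)`.
-/

set_option autoImplicit false

namespace Cfsg.Agent.Lib.Helper7_S2262_ARC

open Cfsg.Agent.Lib.Helper7_S2262_ARB

/-- `2 e x ≤ x^e` for `x ≥ 4`, `e ≥ 2` -/
theorem two_mul_le_pow (x e : ℕ) (hx : 4 ≤ x) (he : 2 ≤ e) : 2 * e * x ≤ x ^ e := by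
  induction e, he using Nat.le_induction with
  | base => nlinarith
  | succ e he ih =>
    rw [pow_succ]
    nlinarith [Nat.pow_le_pow_left hx e, Nat.one_le_two_pow (n := e),
      Nat.pow_le_pow_right (by omega : 0 < x) he]

/-- the base case `d = 3` -/
theorem base3 (x e y : ℕ) (hx : 2 ≤ x) (he : 2 ≤ e) (hk : e * (x + 1) ≤ y + 1) :
    2 * e * (1 + x + x ^ 2) ≤ 1 + y + y ^ 2 := by
  obtain ⟨c, hc⟩ := Nat.exists_eq_add_of_le hk
  have hw : 6 ≤ e * (x + 1) := by nlinarith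
  obtain ⟨y', rfl⟩ : ∃ y', y = y' + 1 := ⟨y - 1, by omega⟩
  have hy : y' + 2 = e * (x + 1) + c := by omega
  have : 1 + (y' + 1) + (y' + 1) ^ 2 = (y' + 2) ^ 2 - (y' + 2) + 1 := by
    have : (y' + 2) ^ 2 = 1 + (y' + 1) + (y' + 1) ^ 2 + (y' + 2) - 1 := by
      ring_nf
      omega
    omega
  rw [this, hy]
  have h2 : (e * (x + 1) + c) ^ 2 = (e * (x + 1)) ^ 2 + c * (2 * (e * (x + 1)) + c) := by ring
  have h3 : e * (x + 1) + c ≤ (e * (x + 1)) ^ 2 + c * (2 * (e * (x + 1)) + c) := by nlinarith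
  have h4 : 2 * e * (1 + x + x ^ 2) + (e * (x + 1) + c) ≤
      (e * (x + 1)) ^ 2 + c * (2 * (e * (x + 1)) + c) + 1 := by
    nlinarith [Nat.mul_le_mul he hx, Nat.mul_le_mul he he]
  omega

/-- `2 e * gs q0 d ≤ gs (q0^e) d` -/
theorem gs_le2 (e d q0 : ℕ) (he : 2 ≤ e) (hd : 3 ≤ d) (hq : 2 ≤ q0)
    (hex : ¬ (e = 2 ∧ q0 = 2)) : 2 * e * gs q0 d ≤ gs (q0 ^ e) d := by
  have hstep : ∀ i : ℕ, 2 ≤ i → 2 * e * q0 ^ i ≤ (q0 ^ e) ^ i := by
    intro i hi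
    rw [← pow_mul, mul_comm e i, pow_mul]
    apply two_mul_le_pow _ _ _ he
    calc 4 = 2 ^ 2 := by norm_num
      _ ≤ q0 ^ 2 := Nat.pow_le_pow_left hq 2
      _ ≤ q0 ^ i := Nat.pow_le_pow_right (by omega) hi
  induction d, hd using Nat.le_induction with
  | base =>
    have hk := key q0 e hq he hex
    have := base3 q0 e (q0 ^ e) hq he hk
    simp only [gs, Finset.sum_range_succ, Finset.sum_range_zero, pow_zero, pow_one, zero_add]
    linarith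
  | succ d hd ih =>
    rw [gs_succ, gs_succ, mul_add]
    exact add_le_add ih (hstep d (by omega))

/-- PKG S2262-ARC. -/
theorem arith_graph_field (e d q0 o : ℕ) (he : 2 ≤ e) (hd : 3 ≤ d) (hq : 2 ≤ q0)
    (hex : ¬ (e = 2 ∧ q0 = 2)) (ho : (q0 - 1) * o ≤ q0 ^ d - 1) :
    (q0 ^ e - 1) * (2 * (e * o)) ≤ (q0 ^ e) ^ d - 1 := by
  have h := final (2 * e) d q0 (q0 ^ e) o hq (Nat.one_le_pow _ _ (by omega))
    (gs_le2 e d q0 he hd hq hex) ho
  rwa [mul_assoc 2 e o] at h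

end Cfsg.Agent.Lib.Helper7_S2262_ARC
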