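import Mathlib

/-!
# S2262-ARU (helper7, for helper14's S2262 market)

Pure `ℕ` inequality of the unitary case: `(q0-1) N ≤ q0^(d+1)` implies
`2 (q0²-1) N ≤ q0^(2d) - 1` for `d ≥ 3`, `(d,q0) ≠ (3,2)`.
-/

set_option autoImplicit false

namespace Cfsg.Agent.Lib.Helper7_S2262_ARU

/-- PKG S2262-ARU. -/
theorem arith_unitary (d q0 N : ℕ) (hq : 2 ≤ q0) (hd : 3 ≤ d) (hex : ¬ (d = 3 ∧ q0 = 2))
    (hN : (q0 - 1) * N ≤ q0 ^ (d + 1)) : 2 * ((q0 ^ 2 - 1) * N) ≤ (q0 ^ 2) ^ d - 1 := by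
  obtain ⟨a, rfl⟩ : ∃ a, q0 = a + 1 := ⟨q0 - 1, by omega⟩
  rw [Nat.add_sub_cancel] at hN
  have hsq : (a + 1) ^ 2 - 1 = a * (a + 2) := by
    have : (a + 1) ^ 2 = a * (a + 2) + 1 := by ring
    omega
  rw [hsq]
  obtain ⟨j, rfl⟩ : ∃ j, d = j + 1 := ⟨d - 1, by omega⟩
  have hpow : ((a + 1) ^ 2) ^ (j + 1) = (a + 1) ^ (j + 1 + 1) * (a + 1) ^ j := by
    rw [← pow_mul, ← pow_add]
    congr 1
    ring
  rw [hpow]
  -- `(a+1)^j ≥ 2a + 5`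
  have hY : 2 * a + 5 ≤ (a + 1) ^ j := by
    by_cases hj : j = 2
    · subst hj
      have ha : 2 ≤ a := by
        rcases Nat.lt_or_ge a 2 with h | h
        · exact absurd ⟨rfl, by omega⟩ hex
        · exact h
      nlinarith
    · have hj3 : 3 ≤ j := by omega
      calc 2 * a + 5 ≤ (a + 1) ^ 3 := by nlinarith
        _ ≤ (a + 1) ^ j := Nat.pow_le_pow_right (by omega) hj3
  have hX : 1 ≤ (a + 1) ^ (j + 1 + 1) := Nat.one_le_pow _ _ (by omega)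
  have h1 : (a + 1) ^ (j + 1 + 1) * (2 * a + 5) ≤ (a + 1) ^ (j + 1 + 1) * (a + 1) ^ j :=
    Nat.mul_le_mul_left _ hY
  have h2 : 2 * (a * (a + 2) * N) = 2 * (a + 2) * (a * N) := by ring
  have h3 : 2 * (a + 2) * (a * N) ≤ 2 * (a + 2) * (a + 1) ^ (j + 1 + 1) :=
    Nat.mul_le_mul_left _ hN
  have h4 : (a + 1) ^ (j + 1 + 1) * (2 * a + 5) =
      2 * (a + 2) * (a + 1) ^ (j + 1 + 1) + (a + 1) ^ (j + 1 + 1) := by ring
  omega

end Cfsg.Agent.Lib.Helper7_S2262_ARU
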