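import Mathlib
import Cfsg.Agent.Lib.Helper40_Palindromic

/-!
# S2262-POLYQ2B (helper7, for helper14's S2262 market)

The four self-reciprocal monic quintics over `F_2` divide `X^N - 1` with `N ≤ 12`.
-/

set_option autoImplicit false

namespace Cfsg.Agent.Lib.Helper7_S2262_POLYQ2B

open Polynomial Cfsg.Agent.Lib.Helper40_Palindromic

theorem two_eq_zero {F : Type*} [Field F] [Fintype F] (hq : Fintype.card F = 2) : (2 : F) = 0 := by
  have := Nat.cast_card_eq_zero F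
  rw [hq] at this
  exact_mod_cast this

theorem eq_zero_or_one {F : Type*} [Field F] [Fintype F] (hq : Fintype.card F = 2) (x : F) :
    x = 0 ∨ x = 1 := by
  by_cases hx : x = 0
  · left; exact hx
  · right
    have := FiniteField.pow_card_sub_one_eq_one x hx
    rwa [hq, show 2 - 1 = 1 from rfl, pow_one] at this

theorem two_X_eq_zero {F : Type*} [Field F] [Fintype F] (hq : Fintype.card F = 2) :
    (2 : F[X]) = 0 := by
  have : (2 : F[X]) = C (2 : F) := by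
    rw [show (2 : F) = 1 + 1 by norm_num, C_add, C_1]
    norm_num
  rw [this, two_eq_zero hq, C_0]

/-- PKG S2262-POLYQ2B. -/
theorem poly_orth_q2_five {F : Type*} [Field F] [Fintype F] (hq : Fintype.card F = 2)
    (χ : F[X]) (hχm : χ.Monic) (h0 : χ.coeff 0 ≠ 0) (hdeg : χ.natDegree = 5) (hr : recip χ = χ) :
    ∃ N : ℕ, 0 < N ∧ N ≤ 15 ∧ χ ∣ X ^ N - 1 := by
  have h2X : (2 : F[X]) = 0 := two_X_eq_zero hq
  have c0 : χ.coeff 0 = 1 := (eq_zero_or_one hq _).resolve_left h0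
  have c5 : χ.coeff 5 = 1 := by
    have := hχm.coeff_natDegree
    rwa [hdeg] at this
  have hrev : ∀ i, i ≤ 5 → χ.coeff i = χ.coeff (5 - i) := by
    intro i hi
    have h := congrArg (fun p => p.coeff i) hr
    simp only [recip, c0, inv_one, C_1, one_mul] at h
    rw [coeff_reverse, hdeg, revAt_le hi] at h
    exact h.symm
  have c4 : χ.coeff 4 = χ.coeff 1 := hrev 4 (by norm_num)
  have c3 : χ.coeff 3 = χ.coeff 2 := hrev 3 (by norm_num)
  have hχ : χ = X ^ 5 + C (χ.coeff 1) * X ^ 4 + C (χ.coeff 2) * X ^ 3 + C (χ.coeff 2) * X ^ 2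
      + C (χ.coeff 1) * X + 1 := by
    conv_lhs => rw [χ.as_sum_range_C_mul_X_pow, hdeg]
    simp only [Finset.sum_range_succ, Finset.sum_range_zero, c0, c5, c4, c3]
    simp only [C_1, pow_zero, pow_one, one_mul, mul_one, zero_add]
    ring
  rcases eq_zero_or_one hq (χ.coeff 1) with ha | ha <;>
    rcases eq_zero_or_one hq (χ.coeff 2) with hb | hb
  · rw [ha, hb] at hχ
    simp only [C_0, zero_mul, add_zero] at hχ
    refine ⟨5, by norm_num, by norm_num, ⟨1, ?_⟩⟩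
    rw [hχ]
    linear_combination (-1 : F[X]) * h2X
  · rw [ha, hb] at hχ
    simp only [C_0, C_1, zero_mul, one_mul, add_zero] at hχ
    refine ⟨12, by norm_num, by norm_num,
      ⟨1 + X ^ 2 + X ^ 3 + X ^ 4 + X ^ 5 + X ^ 7, ?_⟩⟩
    rw [hχ]
    linear_combination (-1 - 1 * X ^ 2 - 1 * X ^ 3 - 1 * X ^ 4 - 2 * X ^ 5 - 1 * X ^ 6 - 2 * X ^ 7
      - 1 * X ^ 8 - 1 * X ^ 9 - 1 * X ^ 10 : F[X]) * h2X
  · rw [ha, hb] at hχ
    simp only [C_0, C_1, zero_mul, one_mul, add_zero] at hχ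
    refine ⟨8, by norm_num, by norm_num, ⟨1 + X + X ^ 2 + X ^ 3, ?_⟩⟩
    rw [hχ]
    linear_combination (-1 - 1 * X - 1 * X ^ 2 - 1 * X ^ 3 - 1 * X ^ 4 - 1 * X ^ 5 - 1 * X ^ 6
      - 1 * X ^ 7 : F[X]) * h2X
  · rw [ha, hb] at hχ
    simp only [C_0, C_1, zero_mul, one_mul, add_zero] at hχ
    refine ⟨6, by norm_num, by norm_num, ⟨1 + X, ?_⟩⟩
    rw [hχ]
    linear_combination (-1 - 1 * X - 1 * X ^ 2 - 1 * X ^ 3 - 1 * X ^ 4 - 1 * X ^ 5 : F[X]) * h2X

end Cfsg.Agent.Lib.Helper7_S2262_POLYQ2B
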