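import Mathlib
import Cfsg.Agent.Lib.Helper40_Palindromic

set_option autoImplicit false

/-!
S2262-POLYQ2A: the four self-reciprocal monic quartics over the field with two elements
divide `X ^ N - 1` for some `N ≤ 7`.
-/

namespace Cfsg.Agent.Lib.Helper9_S2262_POLYQ2A

open Polynomial Cfsg.Agent.Lib.Helper40_Palindromic

/-- in a field with two elements every element is `0` or `1` -/
theorem eq_zero_or_one {F : Type*} [Field F] [Fintype F] (hq : Fintype.card F = 2) (x : F) :
    x = 0 ∨ x = 1 := by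
  by_cases hx : x = 0
  · exact Or.inl hx
  · right
    have h := FiniteField.pow_card_sub_one_eq_one x hx
    rw [hq] at h
    simp at h
    exact h

/-- in a field with two elements `2 = 0` -/
theorem two_eq_zero {F : Type*} [Field F] [Fintype F] (hq : Fintype.card F = 2) :
    (2 : F) = 0 := by
  rcases eq_zero_or_one hq (2 : F) with h | h
  · exact h
  · exfalso
    have h1 : (1 : F) = 0 := by
      have : (2 : F) = 1 + 1 := by norm_num
      rw [this] at h
      simp at h
    exact one_ne_zero h1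

/-- in the polynomial ring over a field with two elements `2 = 0` -/
theorem two_eq_zero_poly {F : Type*} [Field F] [Fintype F] (hq : Fintype.card F = 2) :
    (2 : F[X]) = 0 := by
  have h := two_eq_zero hq
  have : (2 : F[X]) = C (2 : F) := (C_ofNat 2).symm
  rw [this, h, C_0]

/-- coefficient `k` of the reciprocal polynomial of a monic polynomial of degree `n` -/
theorem recip_coeff {F : Type*} [Field F] (f : F[X]) (n k : ℕ) (hn : f.natDegree = n)
    (hk : k ≤ n) : (recip f).coeff k = (f.coeff 0)⁻¹ * f.coeff (n - k) := by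
  unfold recip
  rw [coeff_C_mul, coeff_reverse, revAt_le (by omega), hn]

/-- a polynomial of degree four written out -/
theorem eq_of_natDegree_four {F : Type*} [Field F] (f : F[X]) (hf : f.natDegree = 4) :
    f = C (f.coeff 4) * X ^ 4 + C (f.coeff 3) * X ^ 3 + C (f.coeff 2) * X ^ 2
      + C (f.coeff 1) * X + C (f.coeff 0) := by
  ext n
  simp only [coeff_add, coeff_C_mul, coeff_X_pow, coeff_X, coeff_C]
  by_cases h4 : n = 4
  · subst h4; simp
  by_cases h3 : n = 3
  · subst h3; simp
  by_cases h2 : n = 2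
  · subst h2; simp
  by_cases h1 : n = 1
  · subst h1; simp
  by_cases h0 : n = 0
  · subst h0; simp
  · have : f.coeff n = 0 := coeff_eq_zero_of_natDegree_lt (by omega)
    rw [this]
    simp [h4, h3, h2, h0, Ne.symm h1]

theorem poly_orth_q2_four {F : Type*} [Field F] [Fintype F] (hq : Fintype.card F = 2)
    (χ : F[X]) (hχm : χ.Monic) (h0 : χ.coeff 0 ≠ 0) (hdeg : χ.natDegree = 4) (hr : recip χ = χ) :
    ∃ N : ℕ, 0 < N ∧ N ≤ 7 ∧ χ ∣ X ^ N - 1 := by
  have h2 := two_eq_zero_poly hq
  have hc0 : χ.coeff 0 = 1 := (eq_zero_or_one hq _).resolve_left h0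
  have hc4 : χ.coeff 4 = 1 := by
    have := hχm.coeff_natDegree
    rwa [hdeg] at this
  have hc1 : χ.coeff 1 = χ.coeff 3 := by
    have h := recip_coeff χ 4 1 hdeg (by norm_num)
    rw [hr, hc0] at h
    simpa using h
  have hχ := eq_of_natDegree_four χ hdeg
  rw [hc4, hc0, hc1] at hχ
  rcases eq_zero_or_one hq (χ.coeff 3) with ha | ha <;>
    rcases eq_zero_or_one hq (χ.coeff 2) with hb | hb <;> rw [ha, hb] at hχ
  · refine ⟨4, by norm_num, by norm_num, ⟨1, ?_⟩⟩
    rw [hχ]
    simp only [C_0, C_1]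
    linear_combination (-1 : F[X]) * h2
  · refine ⟨6, by norm_num, by norm_num, ⟨X ^ 2 + 1, ?_⟩⟩
    rw [hχ]
    simp only [C_0, C_1]
    linear_combination (-(X ^ 4 + X ^ 2 + 1) : F[X]) * h2
  · refine ⟨6, by norm_num, by norm_num, ⟨X ^ 2 + X + 1, ?_⟩⟩
    rw [hχ]
    simp only [C_0, C_1]
    linear_combination (-(X ^ 5 + X ^ 4 + X ^ 3 + X ^ 2 + X + 1) : F[X]) * h2
  · refine ⟨5, by norm_num, by norm_num, ⟨X - 1, ?_⟩⟩
    rw [hχ]
    simp only [C_1]
    ring

end Cfsg.Agent.Lib.Helper9_S2262_POLYQ2A
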