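import Mathlib
import Cfsg.Agent.Lib.Helper7_S2262_ARB
import Cfsg.Agent.Lib.Helper7_S2262_ARC
import Cfsg.Agent.Lib.Helper43_S2262_ARTIN
import Cfsg.Agent.Lib.Helper7_S2262_ARU
import Cfsg.Agent.Lib.Helper5_S2262_FIXCOUNT
import Cfsg.Agent.Lib.Helper5_S2262_NORMTRICK
import Cfsg.Agent.Lib.Helper14_S2262_POLY34U
import Cfsg.Agent.Lib.Helper14_S2262_POLYO
import Cfsg.Agent.Lib.Helper4_S2262_POLYO3
import Cfsg.Agent.Lib.Helper9_S2262_POLYQ2A
import Cfsg.Agent.Lib.Helper7_S2262_POLYQ2B
import Cfsg.Agent.Lib.Helper43_S2262_POWER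
import Cfsg.Agent.Lib.Helper14_S2262_TWRECIP
import Cfsg.Agent.Lib.Helper14_AutOrdGlue
import Cfsg.Agent.Lib.Helper40_OrdOrth
import Cfsg.Agent.Lib.Helper44_PSL2Aut

/-!
# S2262: the maximal order of an automorphism of `PSL_d(q)` (helper14, assembly)

Every automorphism of `PSL_d(F)` is `conjAut g * fieldAut σ * itAut ^ ε` (helper44's `aut_PSL`).
* field type (`ε = 0`): `φ ^ e = conjAut N` with `charpoly N` over the fixed field of `σ`;
  counting over the fixed field (`fix_count`) and arithmetic (`arith_field`);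
* graph type (`ε = 1`): `φ ^ 2 = conjAut M * fieldAut (σ * σ)`; if `σ * σ ≠ 1` the field case
  applies to `φ ^ 2`; otherwise the characteristic polynomial of `M` is (twisted) self-reciprocal
  and helper40's `poly_main` (directly, or over the fixed field via the norm trick) bounds the
  projective order of `M`.
-/

set_option autoImplicit false

namespace Cfsg.Agent.Lib.Helper14_AutOrdMain

open Matrix Polynomial Cfsg.Agent.Lib.Helper14_AutOrdDefs Cfsg.Agent.Lib.Helper14_PSLAut
  Cfsg.Agent.Lib.Helper14_FieldAutPSL Cfsg.Agent.Lib.Helper44_PSLnRoot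
  Cfsg.Agent.Lib.Helper14_AutOrdGlue Cfsg.Agent.Lib.Helper40_Palindromic
  Cfsg.Agent.Lib.Helper7_S2262_ARB
  Cfsg.Agent.Lib.Helper7_S2262_ARC
  Cfsg.Agent.Lib.Helper43_S2262_ARTIN
  Cfsg.Agent.Lib.Helper7_S2262_ARU
  Cfsg.Agent.Lib.Helper5_S2262_FIXCOUNT
  Cfsg.Agent.Lib.Helper5_S2262_NORMTRICK
  Cfsg.Agent.Lib.Helper14_S2262_POLY34U
  Cfsg.Agent.Lib.Helper14_S2262_POLYO
  Cfsg.Agent.Lib.Helper4_S2262_POLYO3
  Cfsg.Agent.Lib.Helper9_S2262_POLYQ2A
  Cfsg.Agent.Lib.Helper7_S2262_POLYQ2B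
  Cfsg.Agent.Lib.Helper43_S2262_POWER
  Cfsg.Agent.Lib.Helper14_S2262_TWRECIP

variable {F : Type*} [Field F] [Fintype F] {n : ℕ}

local notation "PSLn" => Matrix.ProjectiveSpecialLinearGroup (Fin n) F
local notation "Mn" => Matrix (Fin n) (Fin n) F

theorem two_le_card_fixF (σ : F ≃+* F) : 2 ≤ Nat.card (fixF σ) := by
  have : Finite (fixF σ) := inferInstance
  exact Finite.one_lt_card

/-- refined bound for automorphisms of field type -/
theorem field_refined (hn : 1 ≤ n) (g : GL (Fin n) F) (σ : F ≃+* F) :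
    ∃ o : ℕ, 0 < o ∧ orderOf (conjAut g * fieldAut σ : MulAut PSLn) ∣ orderOf σ * o ∧
      (Nat.card (fixF σ) - 1) * o ≤ Nat.card (fixF σ) ^ n - 1 := by
  obtain ⟨N, hN1, hN2⟩ := field_pow g σ
  refine ⟨orderOf (conjAut N : MulAut PSLn), orderOf_pos _, ?_, ?_⟩
  · apply orderOf_dvd_of_pow_eq_one
    rw [pow_mul, hN1, pow_orderOf_eq_one]
  · rw [orderOf_conjAut]
    exact fix_count n hn σ N hN2

theorem finite_ringAut : Finite (F ≃+* F) :=
  Finite.of_injective (fun σ : F ≃+* F => (σ : F → F)) DFunLike.coe_injective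

theorem orderOf_pos_ringAut (σ : F ≃+* F) : 0 < orderOf σ := by
  have := finite_ringAut (F := F)
  exact orderOf_pos (σ : RingAut F)

/-- automorphisms of field type -/
theorem field_bound (hn : 2 ≤ n) (h24 : ¬ (n = 2 ∧ Fintype.card F = 4)) (g : GL (Fin n) F)
    (σ : F ≃+* F) :
    (Fintype.card F - 1) * orderOf (conjAut g * fieldAut σ : MulAut PSLn)
      ≤ Fintype.card F ^ n - 1 := by
  obtain ⟨o, ho0, ho1, ho2⟩ := field_refined (by omega) g σ
  have hq := card_eq_pow σ
  have hq0 := two_le_card_fixF σ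
  set q0 := Nat.card (fixF σ) with hq0def
  set e := orderOf σ with hedef
  have he0 : 0 < e := orderOf_pos_ringAut σ
  have hle : orderOf (conjAut g * fieldAut σ : MulAut PSLn) ≤ e * o :=
    Nat.le_of_dvd (Nat.mul_pos he0 ho0) ho1
  rcases Nat.lt_or_ge e 2 with he | he
  · have he1 : e = 1 := by omega
    rw [he1, pow_one] at hq
    rw [he1, one_mul] at hle
    rw [hq]
    exact (Nat.mul_le_mul_left _ hle).trans ho2
  · have hex : ¬ (e = 2 ∧ n = 2 ∧ q0 = 2) := by
      rintro ⟨h1, h2, h3⟩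
      apply h24
      refine ⟨h2, ?_⟩
      rw [hq, h1, h3]
      norm_num
    have h := arith_field e n q0 o he hn hq0 hex ho2
    rw [hq]
    exact (Nat.mul_le_mul_left _ hle).trans h

theorem orderOf_le_two_mul {G : Type*} [Group G] (x : G) (k : ℕ) (hk : 0 < k)
    (h : orderOf (x ^ 2) ∣ k) : orderOf x ≤ 2 * k := by
  apply Nat.le_of_dvd (by omega)
  apply orderOf_dvd_of_pow_eq_one
  rw [pow_mul]
  exact orderOf_dvd_iff_pow_eq_one.mp h

/-- automorphisms of graph type -/
theorem graph_bound (hn : 3 ≤ n) (h32 : ¬ (n = 3 ∧ Fintype.card F = 2)) (g : GL (Fin n) F)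
    (σ : F ≃+* F) :
    (Fintype.card F - 1) * orderOf (conjAut g * fieldAut σ * itAut : MulAut PSLn)
      ≤ Fintype.card F ^ n - 1 := by
  have hsq := graph_sq g σ
  set φ : MulAut PSLn := conjAut g * fieldAut σ * itAut with hφ
  set M : GL (Fin n) F := g * glMap σ (glT g)⁻¹ with hMdef
  have hFq : 2 ≤ Fintype.card F := Fintype.one_lt_card
  by_cases hσσ : σ * σ = 1
  · -- `φ ^ 2 = conjAut M`
    have hsq' : φ ^ 2 = conjAut M := by
      rw [hsq, hσσ, Cfsg.Agent.Lib.Helper14_FieldAutPSL.fieldAut_one, mul_one]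
    have hσa : ∀ a, σ (σ a) = a := fun a => by
      have := congrArg (fun τ : F ≃+* F => τ a) hσσ
      exact this
    have hform := graph_form g σ hσa
    have hBdet : (((g⁻¹ : GL (Fin n) F) : Mn)).det ≠ 0 := by
      have := Matrix.GeneralLinearGroup.det_ne_zero (g⁻¹)
      exact this
    have hχm : (M : Mn).charpoly.Monic := Matrix.charpoly_monic _
    have hχd : (M : Mn).charpoly.natDegree = n := by
      rw [Matrix.charpoly_natDegree_eq_dim, Fintype.card_fin]
    -- reduction: a bound `N` for the projective order of `M`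
    have key : ∀ N : ℕ, 0 < N → (∃ s : F, (M : Mn).charpoly ∣ X ^ N - C s) →
        2 * ((Fintype.card F - 1) * N) ≤ Fintype.card F ^ n - 1 →
        (Fintype.card F - 1) * orderOf φ ≤ Fintype.card F ^ n - 1 := by
      rintro N hN ⟨s, hs⟩ hb
      have h1 : (conjAut M : MulAut PSLn) ^ N = 1 := conjAut_pow_eq_one_of_dvd M N s hs
      have h2 : orderOf (φ ^ 2) ∣ N := by
        rw [hsq']
        exact orderOf_dvd_of_pow_eq_one h1
      have h3 := orderOf_le_two_mul φ N hN h2
      calc (Fintype.card F - 1) * orderOf φ ≤ (Fintype.card F - 1) * (2 * N) :=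
            Nat.mul_le_mul_left _ h3
        _ = 2 * ((Fintype.card F - 1) * N) := by ring
        _ ≤ _ := hb
    have hpm : ∀ N : ℕ, ((M : Mn).charpoly ∣ X ^ N - 1 ∨ (M : Mn).charpoly ∣ X ^ N + 1) →
        ∃ s : F, (M : Mn).charpoly ∣ X ^ N - C s := by
      rintro N (h | h)
      · exact ⟨1, by rwa [C_1]⟩
      · exact ⟨-1, by rwa [C_neg, C_1, sub_neg_eq_add]⟩
    by_cases hσ1 : σ = 1
    · -- orthogonal / symplectic type
      have hmap : (M : Mn).map σ = (M : Mn) := by
        rw [hσ1]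
        ext i j
        rfl
      rw [hmap] at hform
      obtain ⟨hrec, hc0⟩ := Cfsg.Agent.Lib.Helper40_OrdOrth.recip_charpoly_of_gram (M : Mn) _
        hBdet hform
      rcases Nat.lt_or_ge n 4 with h4 | h4
      · have hn3 : n = 3 := by omega
        have hq3 : 3 ≤ Fintype.card F := by
          by_contra hlt
          exact h32 ⟨hn3, by omega⟩
        have hdet : (M : Mn).det = 1 := by
          rw [hMdef, hσ1]
          exact graph_det g
        have hc0' : (M : Mn).charpoly.coeff 0 = -1 := by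
          have h5 := Matrix.det_eq_sign_charpoly_coeff (M : Mn)
          have hpow : ((-1 : F)) ^ n = -1 := by rw [hn3]; ring
          rw [hdet, Fintype.card_fin, hpow] at h5
          linear_combination h5
        have hχd3 : (M : Mn).charpoly.natDegree = 3 := by rw [hχd, hn3]
        obtain ⟨N, hN0, hN1, hN2⟩ := poly_orth3 hq3 _ hχm hc0' hχd3 hrec
        refine key N hN0 ⟨1, by rwa [C_1]⟩ ?_
        rw [hn3]
        exact hN1
      · by_cases hex : Fintype.card F = 2 ∧ (n = 4 ∨ n = 5)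
        · obtain ⟨hq2, h45⟩ := hex
          rcases h45 with h | h
          · have hχd4 : (M : Mn).charpoly.natDegree = 4 := by rw [hχd, h]
            obtain ⟨N, hN0, hN1, hN2⟩ := poly_orth_q2_four hq2 _ hχm hc0 hχd4 hrec
            refine key N hN0 ⟨1, by rwa [C_1]⟩ ?_
            rw [hq2, h]
            omega
          · have hχd5 : (M : Mn).charpoly.natDegree = 5 := by rw [hχd, h]
            obtain ⟨N, hN0, hN1, hN2⟩ := poly_orth_q2_five hq2 _ hχm hc0 hχd5 hrec
            refine key N hN0 ⟨1, by rwa [C_1]⟩ ?_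
            rw [hq2, h]
            omega
        · obtain ⟨N, hN0, hN1, hN2⟩ := poly_orth n h4 hex _ hχm hc0 hχd hrec
          exact key N hN0 (hpm N hN2) hN1
    · -- unitary type
      have he2 : orderOf σ = 2 := by
        have h1 : (σ : RingAut F) ^ 2 = 1 := by rw [pow_two]; exact hσσ
        exact orderOf_eq_prime h1 hσ1
      have hq := card_eq_pow σ
      rw [he2] at hq
      have hq0 := two_le_card_fixF σ
      set q0 := Nat.card (fixF σ) with hq0def
      obtain ⟨hrec, hc0⟩ := recip_charpoly_of_twisted_gram σ (M : Mn) _ hBdet hform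
      by_cases hex : n = 3 ∧ q0 = 2
      · obtain ⟨hn3, hq02⟩ := hex
        have hq4 : Fintype.card F = 4 := by rw [hq, hq02]; norm_num
        have hχd3 : (M : Mn).charpoly.natDegree = 3 := by rw [hχd, hn3]
        obtain ⟨N, s, hN0, hN1, hN2⟩ := poly_twisted34 hq4 σ hσ1 _ hχm hc0 hχd3 hrec
        refine key N hN0 ⟨s, hN2⟩ ?_
        rw [hq4, hn3]
        omega
      · obtain ⟨N, hN0, hN1, hN2⟩ := poly_twisted σ hσσ n (by omega) _ hχm hc0 hχd hrec
        refine key N hN0 (hpm N hN2) ?_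
        rw [hq]
        exact arith_unitary n q0 N hq0 hn hex hN1
  · -- `σ ^ 2 ≠ 1`: field type for `φ ^ 2`
    obtain ⟨o, ho0, ho1, ho2⟩ := field_refined (n := n) (by omega) M (σ * σ)
    rw [← hsq] at ho1
    have hq := card_eq_pow (σ * σ)
    have hq0 := two_le_card_fixF (σ * σ)
    set q0 := Nat.card (fixF (σ * σ)) with hq0def
    set e := orderOf (σ * σ) with hedef
    have he0 : 0 < e := orderOf_pos_ringAut (σ * σ)
    have he2 : 2 ≤ e := by
      by_contra hlt
      have he1 : e = 1 := by omega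
      exact hσσ (orderOf_eq_one_iff.mp he1)
    have hle := orderOf_le_two_mul φ (e * o) (Nat.mul_pos he0 ho0) ho1
    have hex : ¬ (e = 2 ∧ q0 = 2) := by
      rintro ⟨h1, h2⟩
      apply hσσ
      apply sq_eq_one_of_card_four
      rw [hq, h1, h2]
      norm_num
    have h := arith_graph_field e n q0 o he2 hn hq0 hex ho2
    rw [hq]
    exact (Nat.mul_le_mul_left _ hle).trans h

/-- **S2262**: the maximal order of an automorphism of `PSL_d(q)` -/
theorem main (d : ℕ) (hd : 2 ≤ d) (h2 : d = 2 → 4 ≤ Fintype.card F)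
    (h24 : ¬ (d = 2 ∧ Fintype.card F = 4)) (h32 : ¬ (d = 3 ∧ Fintype.card F = 2)) :
    (∀ φ : MulAut (Matrix.ProjectiveSpecialLinearGroup (Fin d) F),
      (Fintype.card F - 1) * orderOf φ ≤ Fintype.card F ^ d - 1) ∧
    (∃ φ : MulAut (Matrix.ProjectiveSpecialLinearGroup (Fin d) F),
      (Fintype.card F - 1) * orderOf φ = Fintype.card F ^ d - 1) := by
  refine ⟨?_, inndiag_exists (by omega)⟩
  intro φ
  obtain ⟨p, hpchar⟩ := CharP.exists F
  obtain ⟨k, hpp, hqk⟩ := FiniteField.card F p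
  have : Fact p.Prime := ⟨hpp⟩
  rcases Nat.lt_or_ge d 3 with h3 | h3
  · have hd2 : d = 2 := by omega
    subst hd2
    obtain ⟨g, σ, rfl⟩ := Cfsg.Agent.Lib.Helper44_PSL2Aut.aut_PSL2 hqk φ
    exact field_bound hd h24 g σ
  · obtain ⟨g, σ, ε, rfl⟩ := Cfsg.Agent.Lib.Helper44_PSL2Aut.aut_PSL hqk hd φ
    cases ε
    · simp only [Bool.false_eq_true, if_false, mul_one]
      exact field_bound hd h24 g σ
    · simp only [if_true]
      exact graph_bound h3 h32 g σ

end Cfsg.Agent.Lib.Helper14_AutOrdMain
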