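import Mathlib

/-!
# Abstract group theory for the local balance argument at an involution (helper14)

`core_trivial`: the abstract skeleton.  `A` ambient group, `I₀ ⊇ H ⊇ R i` subgroups, `N` a subgroup of
odd order; `I₀` normalises `H` and `N`, `N` normalises `I₀`, `H` normalises every `R i`; every `R i`
commutes with each odd-order subgroup which it normalises and which normalises it (`OddComm`); an
element of `N` centralising all `R i` is trivial.  Then `N = ⊥`.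

`oddComm_of_quasisimple`: `OddComm` for a perfect subgroup with simple central quotient containing an
involution.  `oddComm_of_no_odd_normal`: `OddComm` for a subgroup without non-trivial normal
subgroups of odd order.
-/

set_option autoImplicit false

namespace Cfsg.Agent.Lib.Helper14_BalAbs

open commutatorElement

variable {A : Type*} [Group A]

/-- `R` commutes elementwise with every subgroup `X` of odd order such that `R` and `X` normalise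
each other. -/
def OddComm (R : Subgroup A) : Prop :=
  ∀ X : Subgroup A, Odd (Nat.card X) → (∀ r ∈ R, ∀ x ∈ X, r * x * r⁻¹ ∈ X) →
    (∀ x ∈ X, ∀ r ∈ R, x * r * x⁻¹ ∈ R) → ∀ x ∈ X, ∀ r ∈ R, x * r = r * x

theorem comm_of_commutator_eq_one (a b : A) (h : a * b * a⁻¹ * b⁻¹ = 1) : a * b = b * a := by
  calc a * b = (a * b * a⁻¹ * b⁻¹) * (b * a) := by group
    _ = b * a := by rw [h, one_mul]

theorem odd_card_of_le [Finite A] {X Y : Subgroup A} (h : X ≤ Y) (hY : Odd (Nat.card Y)) :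
    Odd (Nat.card X) := by
  obtain ⟨k, hk⟩ := Subgroup.card_dvd_of_le h
  rw [hk] at hY
  exact (Nat.odd_mul.mp hY).1

/-- The abstract skeleton of the argument. -/
theorem core_trivial [Finite A] {κ : Type*} (I₀ H N : Subgroup A) (R : κ → Subgroup A)
    (hRH : ∀ i, R i ≤ H) (hHI : H ≤ I₀)
    (hIH : ∀ c ∈ I₀, ∀ h ∈ H, c * h * c⁻¹ ∈ H)
    (hHR : ∀ i, ∀ h ∈ H, ∀ r ∈ R i, h * r * h⁻¹ ∈ R i)
    (hNI : ∀ n ∈ N, ∀ c ∈ I₀, n * c * n⁻¹ ∈ I₀)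
    (hIN : ∀ c ∈ I₀, ∀ n ∈ N, c * n * c⁻¹ ∈ N)
    (hodd : Odd (Nat.card N))
    (hR : ∀ i, OddComm (R i))
    (hkey : ∀ y ∈ N, (∀ i, ∀ r ∈ R i, y * r = r * y) → y = 1) : N = ⊥ := by
  -- step 1: `N ⊓ H = ⊥`
  have h1 : N ⊓ H = ⊥ := by
    rw [eq_bot_iff]
    intro y hy
    rw [Subgroup.mem_bot]
    apply hkey y hy.1
    intro i
    apply hR i (N ⊓ H) (odd_card_of_le inf_le_left hodd)
    · intro r hr x hx
      have hrH := hRH i hr
      exact ⟨hIN r (hHI hrH) x hx.1, H.mul_mem (H.mul_mem hrH hx.2) (H.inv_mem hrH)⟩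
    · intro x hx r hr
      exact hHR i x hx.2 r hr
    · exact hy
  -- step 2: `N ⊓ I₀ = ⊥`
  have h2 : ∀ c ∈ N, c ∈ I₀ → c = 1 := by
    intro c hcN hcI
    apply hkey c hcN
    intro i r hr
    apply comm_of_commutator_eq_one
    have hrH := hRH i hr
    have ha : c * r * c⁻¹ * r⁻¹ ∈ N := by
      have h3 := hIN r (hHI hrH) c⁻¹ (N.inv_mem hcN)
      have h4 := N.mul_mem hcN h3
      have h5 : c * (r * c⁻¹ * r⁻¹) = c * r * c⁻¹ * r⁻¹ := by group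
      rwa [h5] at h4
    have hb : c * r * c⁻¹ * r⁻¹ ∈ H := H.mul_mem (hIH c hcI r hrH) (H.inv_mem hrH)
    have : c * r * c⁻¹ * r⁻¹ ∈ N ⊓ H := ⟨ha, hb⟩
    rw [h1] at this
    exact this
  -- step 3
  rw [eq_bot_iff]
  intro n hn
  rw [Subgroup.mem_bot]
  apply hkey n hn
  intro i r hr
  apply comm_of_commutator_eq_one
  have hrI := hHI (hRH i hr)
  apply h2
  · have h3 := hIN r hrI n⁻¹ (N.inv_mem hn)
    have h4 := N.mul_mem hn h3
    have h5 : n * (r * n⁻¹ * r⁻¹) = n * r * n⁻¹ * r⁻¹ := by group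
    rwa [h5] at h4
  · exact I₀.mul_mem (hNI n hn r hrI) (I₀.inv_mem hrI)

/-- A subgroup all of whose normal subgroups of odd order are trivial has `OddComm`. -/
theorem oddComm_of_no_odd_normal [Finite A] (R : Subgroup A)
    (h : ∀ M : Subgroup A, M ≤ R → (∀ r ∈ R, ∀ x ∈ M, r * x * r⁻¹ ∈ M) → Odd (Nat.card M) → M = ⊥) :
    OddComm R := by
  intro X hX hRX hXR x hx r hr
  apply comm_of_commutator_eq_one
  have hM : X ⊓ R = ⊥ := by
    apply h (X ⊓ R) inf_le_right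
    · intro r' hr' y hy
      exact ⟨hRX r' hr' y hy.1, R.mul_mem (R.mul_mem hr' hy.2) (R.inv_mem hr')⟩
    · exact odd_card_of_le inf_le_left hX
  have h1 : x * r * x⁻¹ * r⁻¹ ∈ X ⊓ R := by
    refine ⟨?_, R.mul_mem (hXR x hx r hr) (R.inv_mem hr)⟩
    have h3 := hRX r hr x⁻¹ (X.inv_mem hx)
    have h4 := X.mul_mem hx h3
    have h5 : x * (r * x⁻¹ * r⁻¹) = x * r * x⁻¹ * r⁻¹ := by group
    rwa [h5] at h4
  rw [hM] at h1
  exact h1

/-- A perfect subgroup, each of whose normal subgroups is central or everything, and which contains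
an involution, has `OddComm`. -/
theorem oddComm_of_quasisimple [Finite A] (R : Subgroup A)
    (hperf : ⁅R, R⁆ = R)
    (hdich : ∀ M : Subgroup A, M ≤ R → (∀ r ∈ R, ∀ x ∈ M, r * x * r⁻¹ ∈ M) →
      (∀ x ∈ M, ∀ r ∈ R, x * r = r * x) ∨ M = R)
    (hinv : ∃ t ∈ R, t ≠ 1 ∧ t * t = 1) : OddComm R := by
  intro X hX hRX hXR
  -- `X ⊓ R` is central in `R`
  have hcent : ∀ y ∈ X ⊓ R, ∀ r ∈ R, y * r = r * y := by
    rcases hdich (X ⊓ R) inf_le_right (by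
      intro r' hr' y hy
      exact ⟨hRX r' hr' y hy.1, R.mul_mem (R.mul_mem hr' hy.2) (R.inv_mem hr')⟩) with h | h
    · exact h
    · exfalso
      obtain ⟨t, ht, ht1, htt⟩ := hinv
      have htX : t ∈ X ⊓ R := by rw [h]; exact ht
      have hodd := odd_card_of_le (inf_le_left : X ⊓ R ≤ X) hX
      have h2 : orderOf t = 2 := orderOf_eq_prime (by rw [pow_two]; exact htt) ht1
      have h3 : orderOf (⟨t, htX⟩ : ↥(X ⊓ R)) = 2 := by
        rw [← h2]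
        exact (Subgroup.orderOf_mk t htX)
      have h4 := orderOf_dvd_natCard (⟨t, htX⟩ : ↥(X ⊓ R))
      rw [h3] at h4
      exact (Nat.not_even_iff_odd.mpr hodd) (even_iff_two_dvd.mpr h4)
  -- commutators `[x, r]` are central in `R`
  have hc : ∀ x ∈ X, ∀ r ∈ R, x * r * x⁻¹ * r⁻¹ ∈ X ⊓ R := by
    intro x hx r hr
    refine ⟨?_, R.mul_mem (hXR x hx r hr) (R.inv_mem hr)⟩
    have h3 := hRX r hr x⁻¹ (X.inv_mem hx)
    have h4 := X.mul_mem hx h3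
    have h5 : x * (r * x⁻¹ * r⁻¹) = x * r * x⁻¹ * r⁻¹ := by group
    rwa [h5] at h4
  -- for fixed `x`, `r ↦ [x, r]` is multiplicative on `R`, with abelian image: trivial on `⁅R, R⁆`
  intro x hx
  -- the set of `r` commuting with `x` is a subgroup containing all commutators of `R`
  let C : Subgroup A := Subgroup.centralizer {x}
  have hmemC : ∀ r, r ∈ C ↔ x * r = r * x := by
    intro r
    rw [Subgroup.mem_centralizer_iff]
    constructor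
    · intro h; exact h x rfl
    · intro h y hy
      rw [Set.mem_singleton_iff] at hy
      subst hy
      exact h
  have hcomm : ⁅R, R⁆ ≤ C := by
    rw [Subgroup.commutator_le]
    intro r₁ hr₁ r₂ hr₂
    rw [hmemC]
    -- x r₁ x⁻¹ = z₁ r₁, x r₂ x⁻¹ = z₂ r₂ with z₁ z₂ central in R
    obtain ⟨z₁, hz₁⟩ : ∃ z₁, z₁ = x * r₁ * x⁻¹ * r₁⁻¹ := ⟨_, rfl⟩
    obtain ⟨z₂, hz₂⟩ : ∃ z₂, z₂ = x * r₂ * x⁻¹ * r₂⁻¹ := ⟨_, rfl⟩
    have hz₁c := hcent z₁ (hz₁ ▸ hc x hx r₁ hr₁)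
    have hz₂c := hcent z₂ (hz₂ ▸ hc x hx r₂ hr₂)
    have e₁ : x * r₁ * x⁻¹ = z₁ * r₁ := by rw [hz₁]; group
    have e₂ : x * r₂ * x⁻¹ = z₂ * r₂ := by rw [hz₂]; group
    have e₁' : x * r₁⁻¹ * x⁻¹ = r₁⁻¹ * z₁⁻¹ := by
      have : x * r₁⁻¹ * x⁻¹ = (x * r₁ * x⁻¹)⁻¹ := by group
      rw [this, e₁, mul_inv_rev]
    have e₂' : x * r₂⁻¹ * x⁻¹ = r₂⁻¹ * z₂⁻¹ := by
      have : x * r₂⁻¹ * x⁻¹ = (x * r₂ * x⁻¹)⁻¹ := by group
      rw [this, e₂, mul_inv_rev]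
    have hconj : x * ⁅r₁, r₂⁆ * x⁻¹ = ⁅r₁, r₂⁆ := by
      rw [commutatorElement_def]
      calc x * (r₁ * r₂ * r₁⁻¹ * r₂⁻¹) * x⁻¹
          = (x * r₁ * x⁻¹) * (x * r₂ * x⁻¹) * (x * r₁⁻¹ * x⁻¹) * (x * r₂⁻¹ * x⁻¹) := by group
        _ = (z₁ * r₁) * (z₂ * r₂) * (r₁⁻¹ * z₁⁻¹) * (r₂⁻¹ * z₂⁻¹) := by rw [e₁, e₂, e₁', e₂']
        _ = z₁ * (r₁ * z₂) * r₂ * r₁⁻¹ * (z₁⁻¹ * r₂⁻¹) * z₂⁻¹ := by group
        _ = z₁ * (z₂ * r₁) * r₂ * r₁⁻¹ * (r₂⁻¹ * z₁⁻¹) * z₂⁻¹ := by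
            rw [hz₂c r₁ hr₁]
            have : z₁⁻¹ * r₂⁻¹ = r₂⁻¹ * z₁⁻¹ := by
              have := hz₁c r₂ hr₂
              calc z₁⁻¹ * r₂⁻¹ = (r₂ * z₁)⁻¹ := by rw [mul_inv_rev]
                _ = (z₁ * r₂)⁻¹ := by rw [this]
                _ = r₂⁻¹ * z₁⁻¹ := by rw [mul_inv_rev]
            rw [this]
        _ = z₁ * z₂ * (r₁ * r₂ * r₁⁻¹ * r₂⁻¹) * z₁⁻¹ * z₂⁻¹ := by group
        _ = (r₁ * r₂ * r₁⁻¹ * r₂⁻¹) := by
            have hcr : r₁ * r₂ * r₁⁻¹ * r₂⁻¹ ∈ R :=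
              R.mul_mem (R.mul_mem (R.mul_mem hr₁ hr₂) (R.inv_mem hr₁)) (R.inv_mem hr₂)
            have hz₂' := hz₂c _ hcr
            have hz₁' := hz₁c _ hcr
            have hz₁₂ := hz₁c z₂⁻¹
            calc z₁ * z₂ * (r₁ * r₂ * r₁⁻¹ * r₂⁻¹) * z₁⁻¹ * z₂⁻¹
                = z₁ * (z₂ * (r₁ * r₂ * r₁⁻¹ * r₂⁻¹)) * z₁⁻¹ * z₂⁻¹ := by group
              _ = z₁ * ((r₁ * r₂ * r₁⁻¹ * r₂⁻¹) * z₂) * z₁⁻¹ * z₂⁻¹ := by rw [hz₂']
              _ = (z₁ * (r₁ * r₂ * r₁⁻¹ * r₂⁻¹)) * z₂ * z₁⁻¹ * z₂⁻¹ := by group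
              _ = ((r₁ * r₂ * r₁⁻¹ * r₂⁻¹) * z₁) * z₂ * z₁⁻¹ * z₂⁻¹ := by rw [hz₁']
              _ = (r₁ * r₂ * r₁⁻¹ * r₂⁻¹) * (z₁ * z₂ * z₁⁻¹ * z₂⁻¹) := by group
              _ = (r₁ * r₂ * r₁⁻¹ * r₂⁻¹) := by
                  have hz₂R : z₂ ∈ R := (hz₂ ▸ hc x hx r₂ hr₂).2
                  have := hz₁c z₂ hz₂R
                  have h1 : z₁ * z₂ * z₁⁻¹ * z₂⁻¹ = 1 := by
                    rw [this]; group
                  rw [h1, mul_one]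
    calc x * ⁅r₁, r₂⁆ = (x * ⁅r₁, r₂⁆ * x⁻¹) * x := by group
      _ = ⁅r₁, r₂⁆ * x := by rw [hconj]
  intro r hr
  rw [← hmemC]
  apply hcomm
  rw [hperf]
  exact hr

end Cfsg.Agent.Lib.Helper14_BalAbs
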