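import Mathlib
import Cfsg.Agent.Lib.Helper14_BalDefs

/-!
# Extension of Eichler–Siegel transformations from an orthogonal summand (helper14)

`V = W ⊕ W'` with `W ⊥ W'`: the extension by the identity of `E (resQ Q W) u z` is `E Q u z`;
extensions of isometries are isometries; extensions from `W` and from `W'` commute.
-/

set_option autoImplicit false

namespace Cfsg.Agent.Lib.Helper14_BalExt

open Module Cfsg Cfsg.Agent.Lib.Helper94_OrthSmall Cfsg.Agent.Lib.Helper14_OmegaSimple
  Cfsg.Agent.Lib.Helper14_BalDefs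

variable {F V : Type*} [Field F] [AddCommGroup V] [Module F V] (Q : QuadraticForm F V)
  {W W' : Submodule F V} (h : IsCompl W W')
  (hperp : ∀ w ∈ W, ∀ w' ∈ W', QuadraticMap.polar (⇑Q) w w' = 0)

include h in
theorem exists_decomp (x : V) : ∃ (w : ↥W) (w' : ↥W'), x = (w : V) + (w' : V) := by
  have hx : x ∈ W ⊔ W' := by rw [h.sup_eq_top]; trivial
  obtain ⟨a, ha, b, hb, rfl⟩ := Submodule.mem_sup.mp hx
  exact ⟨⟨a, ha⟩, ⟨b, hb⟩, rfl⟩

include hperp in
theorem Q_add (w : ↥W) (w' : ↥W') : Q ((w : V) + (w' : V)) = Q (w : V) + Q (w' : V) := by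
  rw [QuadraticMap.map_add (⇑Q), hperp w w.2 w' w'.2, add_zero]

include hperp in
theorem extLin_mem_oG {t : ↥W ≃ₗ[F] ↥W} (ht : t ∈ oG (⇑(resQ Q W))) : extLin h t ∈ oG (⇑Q) := by
  intro x
  obtain ⟨w, w', rfl⟩ := exists_decomp h x
  rw [extLin_apply_add, Q_add Q hperp, Q_add Q hperp]
  have := ht w
  simp only [resQ_apply] at this
  rw [this]

include hperp in
theorem extLin_E (u z : ↥W) (hu : Q (u : V) = 0)
    (huz : QuadraticMap.polar (⇑Q) (u : V) (z : V) = 0) :
    extLin h (E (resQ Q W) u z) = E Q (u : V) (z : V) := by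
  have hu' : resQ Q W u = 0 := hu
  have huz' : QuadraticMap.polar (⇑(resQ Q W)) u z = 0 := by rw [polar_resQ]; exact huz
  apply LinearEquiv.ext
  intro x
  obtain ⟨w, w', rfl⟩ := exists_decomp h x
  rw [extLin_apply_add, E_apply (resQ Q W) hu' huz', E_apply Q hu huz]
  have h1 : QuadraticMap.polar (⇑Q) ((w : V) + (w' : V)) (u : V) =
      QuadraticMap.polar (⇑Q) (w : V) (u : V) := by
    rw [QuadraticMap.polar_add_left, QuadraticMap.polar_comm (⇑Q) (w' : V),
      hperp u u.2 w' w'.2, add_zero]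
  have h2 : QuadraticMap.polar (⇑Q) ((w : V) + (w' : V)) (z : V) =
      QuadraticMap.polar (⇑Q) (w : V) (z : V) := by
    rw [QuadraticMap.polar_add_left, QuadraticMap.polar_comm (⇑Q) (w' : V),
      hperp z z.2 w' w'.2, add_zero]
  rw [h1, h2]
  simp only [polar_resQ, resQ_apply, Submodule.coe_add, Submodule.coe_sub, Submodule.coe_smul]
  abel

/-- extensions from `W` and from `W'` commute -/
theorem extLin_comm (t : ↥W ≃ₗ[F] ↥W) (s : ↥W' ≃ₗ[F] ↥W') :
    extLin h t * extLin h.symm s = extLin h.symm s * extLin h t := by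
  apply LinearEquiv.ext
  intro x
  obtain ⟨w, w', rfl⟩ := exists_decomp h x
  simp only [LinearEquiv.mul_apply, map_add, extLin_apply_left, extLin_apply_right]

theorem extLin_map_left (t : ↥W ≃ₗ[F] ↥W) {x : V} (hx : x ∈ W) : extLin h t x ∈ W := by
  have := extLin_apply_left h t ⟨x, hx⟩
  simp only at this
  rw [this]
  exact (t ⟨x, hx⟩).2

end Cfsg.Agent.Lib.Helper14_BalExt
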