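import Mathlib

/-!
# Hilbert 90 for `GL_n` over a cyclic group of field automorphisms (helper44)

`σ : F ≃+* F` of order `r`; `PN σ g i = g σ(g) ⋯ σ^{i-1}(g)`.  If `PN σ g r = 1` then
`g * σ(h) = h` for some `h ∈ GL_n(F)` (`hilbert90_GL`).  For finite `F` the norm
`a ↦ a σ(a) ⋯ σ^{r-1}(a)` maps `Fˣ` onto the units fixed by `σ` (`exists_norm_eq`).
-/

set_option autoImplicit false
set_option linter.unusedSectionVars false
set_option linter.unusedVariables false
set_option linter.unusedSimpArgs false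

namespace Cfsg.Agent.Lib.Helper44_H90

open Matrix

variable {F : Type*} [Field F] {n : ℕ}

/-- entrywise field automorphism of `GL_n` -/
abbrev mapGL (σ : F ≃+* F) : GL (Fin n) F →* GL (Fin n) F :=
  Matrix.GeneralLinearGroup.map (σ : F →+* F)

theorem mapGL_coe (σ : F ≃+* F) (g : GL (Fin n) F) :
    ((mapGL σ g : GL (Fin n) F) : Matrix (Fin n) (Fin n) F) = g.1.map σ := rfl

theorem mapGL_one (g : GL (Fin n) F) : mapGL (1 : F ≃+* F) g = g := by
  apply Units.ext
  rw [mapGL_coe]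
  ext i j
  rfl

theorem mapGL_mul (σ τ : F ≃+* F) (g : GL (Fin n) F) :
    mapGL (σ * τ) g = mapGL σ (mapGL τ g) := by
  apply Units.ext
  rw [mapGL_coe, mapGL_coe, mapGL_coe]
  ext i j
  rfl

/-- partial norms -/
def PN (σ : F ≃+* F) (g : GL (Fin n) F) : ℕ → GL (Fin n) F
  | 0 => 1
  | (i + 1) => PN σ g i * mapGL (σ ^ i) g

theorem PN_zero (σ : F ≃+* F) (g : GL (Fin n) F) : PN σ g 0 = 1 := rfl

theorem PN_succ (σ : F ≃+* F) (g : GL (Fin n) F) (i : ℕ) :
    PN σ g (i + 1) = PN σ g i * mapGL (σ ^ i) g := rfl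

theorem PN_succ' (σ : F ≃+* F) (g : GL (Fin n) F) (i : ℕ) :
    PN σ g (i + 1) = g * mapGL σ (PN σ g i) := by
  induction i with
  | zero => rw [PN_succ, PN_zero, pow_zero, mapGL_one, map_one, one_mul, mul_one]
  | succ i ih =>
    calc PN σ g (i + 1 + 1) = PN σ g (i + 1) * mapGL (σ ^ (i + 1)) g := PN_succ σ g (i + 1)
      _ = g * mapGL σ (PN σ g i) * mapGL σ (mapGL (σ ^ i) g) := by
          rw [ih, pow_succ', mapGL_mul]
      _ = g * mapGL σ (PN σ g (i + 1)) := by
          rw [PN_succ σ g i, map_mul, mul_assoc]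

/-- the averaging operator -/
def TT (σ : F ≃+* F) (g : GL (Fin n) F) (r : ℕ) (v : Fin n → F) : Fin n → F :=
  ∑ i ∈ Finset.range r, (PN σ g i).1 *ᵥ ((σ ^ i : F ≃+* F) ∘ v)

theorem comp_mulVec (σ : F ≃+* F) (M : Matrix (Fin n) (Fin n) F) (v : Fin n → F) :
    σ ∘ (M *ᵥ v) = M.map σ *ᵥ (σ ∘ v) := by
  funext i
  exact RingHom.map_mulVec (σ : F →+* F) M v i

theorem TT_fixed (σ : F ≃+* F) (g : GL (Fin n) F) (r : ℕ) (hσ : σ ^ r = 1)
    (hg : PN σ g r = 1) (v : Fin n → F) : g.1 *ᵥ (σ ∘ TT σ g r v) = TT σ g r v := by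
  have h1 : g.1 *ᵥ (σ ∘ TT σ g r v)
      = ∑ i ∈ Finset.range r, (PN σ g (i + 1)).1 *ᵥ ((σ ^ (i + 1) : F ≃+* F) ∘ v) := by
    unfold TT
    have : σ ∘ (∑ i ∈ Finset.range r, (PN σ g i).1 *ᵥ ((σ ^ i : F ≃+* F) ∘ v))
        = ∑ i ∈ Finset.range r, σ ∘ ((PN σ g i).1 *ᵥ ((σ ^ i : F ≃+* F) ∘ v)) := by
      funext k
      simp only [Function.comp, Finset.sum_apply, map_sum]
    rw [this, Matrix.mulVec_sum]
    apply Finset.sum_congr rfl
    intro i _
    rw [comp_mulVec, Matrix.mulVec_mulVec, PN_succ', Units.val_mul, mapGL_coe]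
    congr 1
    funext k
    show σ ((σ ^ i) (v k)) = (σ ^ (i + 1)) (v k)
    rw [pow_succ']
    rfl
  rw [h1]
  unfold TT
  have h2 := Finset.sum_range_succ'
    (fun i => (PN σ g i).1 *ᵥ ((σ ^ i : F ≃+* F) ∘ v)) r
  have h3 := Finset.sum_range_succ
    (fun i => (PN σ g i).1 *ᵥ ((σ ^ i : F ≃+* F) ∘ v)) r
  rw [h3, hg, hσ, PN_zero, pow_zero] at h2
  exact (add_right_cancel h2).symm


theorem TT_smul (σ : F ≃+* F) (g : GL (Fin n) F) (r : ℕ) (a : F) (v : Fin n → F) :
    TT σ g r (a • v)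
      = ∑ i ∈ Finset.range r, (σ ^ i : F ≃+* F) a • ((PN σ g i).1 *ᵥ ((σ ^ i : F ≃+* F) ∘ v)) := by
  unfold TT
  apply Finset.sum_congr rfl
  intro i _
  rw [← Matrix.mulVec_smul]
  congr 1
  funext k
  show (σ ^ i) (a * v k) = (σ ^ i) a * (σ ^ i) (v k)
  rw [map_mul]

/-- Dedekind: a functional vanishing on all `TT v` is zero -/
theorem eq_zero_of_dot_TT (σ : F ≃+* F) (g : GL (Fin n) F) {r : ℕ} (hr : 0 < r)
    (hord : orderOf σ = r) (l : Fin n → F) (hl : ∀ v, l ⬝ᵥ TT σ g r v = 0) : l = 0 := by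
  have hli := linearIndependent_monoidHom F F
  have hinj : Function.Injective (fun i : Fin r => ((σ ^ (i : ℕ) : F ≃+* F) : F →* F)) := by
    intro i j hij
    apply Fin.ext
    apply pow_injOn_Iio_orderOf (x := σ)
    · rw [hord]; exact i.2
    · rw [hord]; exact j.2
    · ext a
      exact DFunLike.congr_fun hij a
  have hli2 := hli.comp _ hinj
  rw [Fintype.linearIndependent_iff] at hli2
  funext j
  have key : ∀ v : Fin n → F, l ⬝ᵥ v = 0 := by
    intro v
    have h1 := hli2 (fun i : Fin r => l ⬝ᵥ ((PN σ g i).1 *ᵥ ((σ ^ (i : ℕ) : F ≃+* F) ∘ v))) (by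
      funext a
      have h2 := hl (a • v)
      rw [TT_smul, dotProduct_sum] at h2
      rw [← Fin.sum_univ_eq_sum_range
        (fun i => l ⬝ᵥ ((σ ^ i : F ≃+* F) a • ((PN σ g i).1 *ᵥ ((σ ^ i : F ≃+* F) ∘ v)))) r] at h2
      simp only [Finset.sum_apply, Pi.smul_apply, Function.comp, smul_eq_mul, Pi.zero_apply]
      rw [← h2]
      apply Finset.sum_congr rfl
      intro i _
      rw [dotProduct_smul, smul_eq_mul, mul_comm]
      rfl) ⟨0, hr⟩
    simpa [PN_zero] using h1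
  have := key (Pi.single j 1)
  simpa using this

theorem span_range_TT (σ : F ≃+* F) (g : GL (Fin n) F) {r : ℕ} (hr : 0 < r)
    (hord : orderOf σ = r) : Submodule.span F (Set.range (TT σ g r)) = ⊤ := by
  by_contra hne
  obtain ⟨f, hf0, hf⟩ := Submodule.exists_le_ker_of_lt_top _ (lt_top_iff_ne_top.mpr hne)
  apply hf0
  have h1 : ∀ x : Fin n → F, f x = (fun j => f (Pi.single j 1)) ⬝ᵥ x := by
    intro x
    rw [LinearMap.pi_apply_eq_sum_univ f x]
    simp only [dotProduct, smul_eq_mul]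
    apply Finset.sum_congr rfl
    intro i _
    have : (fun j => if i = j then (1 : F) else 0) = Pi.single i 1 := by
      funext j
      simp [Pi.single_apply, eq_comm]
    rw [this, mul_comm]
  have h2 := eq_zero_of_dot_TT σ g hr hord (fun j => f (Pi.single j 1)) (by
    intro v
    rw [← h1]
    exact hf (Submodule.subset_span ⟨v, rfl⟩))
  apply LinearMap.ext
  intro x
  rw [h1, h2, zero_dotProduct]
  rfl

/-- **Hilbert 90 for `GL_n`** over the cyclic group generated by `σ`. -/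
theorem hilbert90_GL (σ : F ≃+* F) {r : ℕ} (hr : 0 < r) (hord : orderOf σ = r)
    (g : GL (Fin n) F) (hg : PN σ g r = 1) : ∃ h : GL (Fin n) F, g * mapGL σ h = h := by
  classical
  have hσ : σ ^ r = 1 := by rw [← hord]; exact pow_orderOf_eq_one σ
  obtain ⟨b, hb, hspan, hli⟩ := exists_linearIndependent F (Set.range (TT σ g r))
  rw [span_range_TT σ g hr hord] at hspan
  let B : Module.Basis b F (Fin n → F) := Module.Basis.mk hli (by
    rw [Subtype.range_coe_subtype]
    exact hspan.ge)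
  have hB : ∀ x : b, B x = x.1 := fun x => by simp [B]
  let e : b ≃ Fin n := B.indexEquiv (Pi.basisFun F (Fin n))
  let B' : Module.Basis (Fin n) F (Fin n → F) := B.reindex e
  have hB' : ∀ j, ∃ v, B' j = TT σ g r v := by
    intro j
    have : B' j = (e.symm j).1 := by simp [B', hB]
    rw [this]
    obtain ⟨v, hv⟩ := hb (e.symm j).2
    exact ⟨v, hv.symm⟩
  let M : Matrix (Fin n) (Fin n) F := (Pi.basisFun F (Fin n)).toMatrix B'
  have hMinv : Invertible M := Module.Basis.invertibleToMatrix (Pi.basisFun F (Fin n)) B'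
  have hdet : IsUnit M.det := (Matrix.isUnit_iff_isUnit_det M).mp (isUnit_of_invertible M)
  have hMcol : ∀ j, (fun i => M i j) = B' j := by
    intro j
    funext i
    simp [M, Module.Basis.toMatrix_apply]
  refine ⟨Matrix.GeneralLinearGroup.mk'' M hdet, ?_⟩
  apply Units.ext
  rw [Units.val_mul, mapGL_coe]
  show g.1 * M.map σ = M
  ext i j
  obtain ⟨v, hv⟩ := hB' j
  have h1 := TT_fixed σ g r hσ hg v
  rw [← hv, ← hMcol j] at h1
  have h2 := congrFun h1 i
  rw [← h2]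
  simp only [Matrix.mul_apply, Matrix.mulVec, dotProduct, Matrix.map_apply, Function.comp]


/-! ### the norm on units -/

/-- `σ` on units -/
abbrev sigU (σ : F ≃+* F) : Fˣ →* Fˣ := Units.map ((σ : F ≃+* F) : F →* F)

/-- the norm `a ↦ a σ(a) ⋯ σ^{r-1}(a)` -/
def Nm (σ : F ≃+* F) (r : ℕ) : Fˣ →* Fˣ := ∏ i ∈ Finset.range r, sigU (σ ^ i)

theorem Nm_apply (σ : F ≃+* F) (r : ℕ) (a : Fˣ) :
    Nm σ r a = ∏ i ∈ Finset.range r, sigU (σ ^ i) a := by
  unfold Nm
  rw [MonoidHom.finsetProd_apply]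

theorem Nm_succ (σ : F ≃+* F) (r : ℕ) (a : Fˣ) : Nm σ (r + 1) a = Nm σ r a * sigU (σ ^ r) a := by
  rw [Nm_apply, Nm_apply, Finset.prod_range_succ]

theorem Nm_zero (σ : F ≃+* F) (a : Fˣ) : Nm σ 0 a = 1 := by
  rw [Nm_apply, Finset.prod_range_zero]

theorem sigU_sigU (σ τ : F ≃+* F) (a : Fˣ) : sigU σ (sigU τ a) = sigU (σ * τ) a := by
  apply Units.ext
  rfl

theorem sigU_one (a : Fˣ) : sigU (1 : F ≃+* F) a = a := by
  apply Units.ext
  rfl

theorem PN_scalar (σ : F ≃+* F) (c : Fˣ) (i : ℕ) :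
    PN σ (Matrix.GeneralLinearGroup.scalar (Fin n) c) i
      = Matrix.GeneralLinearGroup.scalar (Fin n) (Nm σ i c) := by
  induction i with
  | zero => rw [PN_zero, Nm_zero, map_one]
  | succ i ih =>
    rw [PN_succ, ih, Nm_succ, map_mul]
    congr 1
    exact Matrix.GeneralLinearGroup.map_scalar _ _

theorem sigU_Nm (σ : F ≃+* F) {r : ℕ} (hσ : σ ^ r = 1) (a : Fˣ) : sigU σ (Nm σ r a) = Nm σ r a := by
  have h1 : sigU σ (Nm σ r a) = ∏ i ∈ Finset.range r, sigU (σ ^ (i + 1)) a := by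
    rw [Nm_apply, map_prod]
    apply Finset.prod_congr rfl
    intro i _
    rw [sigU_sigU, ← pow_succ']
  rw [h1, Nm_apply]
  have h2 := Finset.prod_range_succ' (fun i => sigU (σ ^ i) a) r
  have h3 := Finset.prod_range_succ (fun i => sigU (σ ^ i) a) r
  rw [h3, hσ, pow_zero] at h2
  exact (mul_right_cancel h2).symm

theorem Nm_sigU (σ : F ≃+* F) (r : ℕ) (a : Fˣ) : Nm σ r (sigU σ a) = sigU σ (Nm σ r a) := by
  rw [Nm_apply, Nm_apply, map_prod]
  apply Finset.prod_congr rfl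
  intro i _
  rw [sigU_sigU, sigU_sigU, ← pow_succ, ← pow_succ']

/-- **Hilbert 90** for units and the cyclic group generated by `σ`. -/
theorem hilbert90_units (σ : F ≃+* F) {r : ℕ} (hr : 0 < r) (hord : orderOf σ = r)
    (c : Fˣ) (hc : Nm σ r c = 1) : ∃ b : Fˣ, c * sigU σ b = b := by
  have h1 : PN σ (Matrix.GeneralLinearGroup.scalar (Fin 1) c) r = 1 := by
    rw [PN_scalar, hc, map_one]
  obtain ⟨h, hh⟩ := hilbert90_GL σ hr hord _ h1
  refine ⟨Matrix.GeneralLinearGroup.det h, ?_⟩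
  have h2 := congrArg Matrix.GeneralLinearGroup.det hh
  rw [map_mul, Matrix.GeneralLinearGroup.det_scalar, Fintype.card_fin, pow_one,
    Matrix.GeneralLinearGroup.map_det] at h2
  exact h2

/-- the norm is onto the fixed units, for finite fields -/
theorem exists_norm_eq [Finite F] (σ : F ≃+* F) {r : ℕ} (hr : 0 < r) (hord : orderOf σ = r)
    (c : Fˣ) (hc : sigU σ c = c) : ∃ a : Fˣ, Nm σ r a = c := by
  have hσ : σ ^ r = 1 := by rw [← hord]; exact pow_orderOf_eq_one σ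
  let L : Fˣ →* Fˣ := MonoidHom.id Fˣ / sigU σ
  have hL : ∀ a, L a = a / sigU σ a := fun a => rfl
  have hLr : L.range = (Nm σ r).ker := by
    ext x
    constructor
    · rintro ⟨a, rfl⟩
      rw [MonoidHom.mem_ker, hL, map_div, Nm_sigU, sigU_Nm σ hσ, div_self']
    · intro hx
      obtain ⟨b, hb⟩ := hilbert90_units σ hr hord x hx
      refine ⟨b, ?_⟩
      rw [hL]
      nth_rewrite 1 [← hb]
      rw [mul_div_cancel_right]
  have hle : (Nm σ r).range ≤ L.ker := by
    rintro _ ⟨a, rfl⟩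
    rw [MonoidHom.mem_ker, hL, sigU_Nm σ hσ, div_self']
  have hcard : Nat.card L.ker ≤ Nat.card (Nm σ r).range := by
    have e1 := Subgroup.card_mul_index (Nm σ r).ker
    have e2 := Subgroup.card_mul_index L.ker
    rw [Subgroup.index_ker] at e1 e2
    rw [← hLr] at e1
    have hpos : 0 < Nat.card L.range := Nat.card_pos
    have : Nat.card L.range * Nat.card (Nm σ r).range = Nat.card L.range * Nat.card L.ker := by
      rw [e1, mul_comm, e2]
    exact le_of_eq (Nat.eq_of_mul_eq_mul_left hpos this).symm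
  have heq := Subgroup.eq_of_le_of_card_ge hle hcard
  have hmem : c ∈ L.ker := by
    rw [MonoidHom.mem_ker, hL, hc, div_self']
  rw [← heq] at hmem
  exact hmem

end Cfsg.Agent.Lib.Helper44_H90
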