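import Mathlib
import Cfsg.Agent.Lib.Helper44_H90

/-!
# Hilbert 90 for `GL ι F` over a cyclic group of field automorphisms, arbitrary index type
(helper44; the `Fin n` version is `Helper44_H90`)
-/

set_option autoImplicit false
set_option linter.unusedSectionVars false
set_option linter.unusedVariables false
set_option linter.unusedSimpArgs false

namespace Cfsg.Agent.Lib.Helper44_H90i

open Matrix

variable {F : Type*} [Field F] {ι : Type*} [Fintype ι] [DecidableEq ι]

/-- entrywise field automorphism of `GL_n` -/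
abbrev mapGLi (σ : F ≃+* F) : GL ι F →* GL ι F :=
  Matrix.GeneralLinearGroup.map (σ : F →+* F)

theorem mapGLi_coe (σ : F ≃+* F) (g : GL ι F) :
    ((mapGLi σ g : GL ι F) : Matrix ι ι F) = g.1.map σ := rfl

theorem mapGLi_one (g : GL ι F) : mapGLi (1 : F ≃+* F) g = g := by
  apply Units.ext
  rw [mapGLi_coe]
  ext i j
  rfl

theorem mapGLi_mul (σ τ : F ≃+* F) (g : GL ι F) :
    mapGLi (σ * τ) g = mapGLi σ (mapGLi τ g) := by
  apply Units.ext
  rw [mapGLi_coe, mapGLi_coe, mapGLi_coe]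
  ext i j
  rfl

/-- partial norms -/
def PNi (σ : F ≃+* F) (g : GL ι F) : ℕ → GL ι F
  | 0 => 1
  | (i + 1) => PNi σ g i * mapGLi (σ ^ i) g

theorem PNi_zero (σ : F ≃+* F) (g : GL ι F) : PNi σ g 0 = 1 := rfl

theorem PNi_succ (σ : F ≃+* F) (g : GL ι F) (i : ℕ) :
    PNi σ g (i + 1) = PNi σ g i * mapGLi (σ ^ i) g := rfl

theorem PNi_succ' (σ : F ≃+* F) (g : GL ι F) (i : ℕ) :
    PNi σ g (i + 1) = g * mapGLi σ (PNi σ g i) := by
  induction i with
  | zero => rw [PNi_succ, PNi_zero, pow_zero, mapGLi_one, map_one, one_mul, mul_one]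
  | succ i ih =>
    calc PNi σ g (i + 1 + 1) = PNi σ g (i + 1) * mapGLi (σ ^ (i + 1)) g := PNi_succ σ g (i + 1)
      _ = g * mapGLi σ (PNi σ g i) * mapGLi σ (mapGLi (σ ^ i) g) := by
          rw [ih, pow_succ', mapGLi_mul]
      _ = g * mapGLi σ (PNi σ g (i + 1)) := by
          rw [PNi_succ σ g i, map_mul, mul_assoc]

/-- the averaging operator -/
def TTi (σ : F ≃+* F) (g : GL ι F) (r : ℕ) (v : ι → F) : ι → F :=
  ∑ i ∈ Finset.range r, (PNi σ g i).1 *ᵥ ((σ ^ i : F ≃+* F) ∘ v)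

theorem comp_mulVeci (σ : F ≃+* F) (M : Matrix ι ι F) (v : ι → F) :
    σ ∘ (M *ᵥ v) = M.map σ *ᵥ (σ ∘ v) := by
  funext i
  exact RingHom.map_mulVec (σ : F →+* F) M v i

theorem TTi_fixed (σ : F ≃+* F) (g : GL ι F) (r : ℕ) (hσ : σ ^ r = 1)
    (hg : PNi σ g r = 1) (v : ι → F) : g.1 *ᵥ (σ ∘ TTi σ g r v) = TTi σ g r v := by
  have h1 : g.1 *ᵥ (σ ∘ TTi σ g r v)
      = ∑ i ∈ Finset.range r, (PNi σ g (i + 1)).1 *ᵥ ((σ ^ (i + 1) : F ≃+* F) ∘ v) := by
    unfold TTi
    have : σ ∘ (∑ i ∈ Finset.range r, (PNi σ g i).1 *ᵥ ((σ ^ i : F ≃+* F) ∘ v))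
        = ∑ i ∈ Finset.range r, σ ∘ ((PNi σ g i).1 *ᵥ ((σ ^ i : F ≃+* F) ∘ v)) := by
      funext k
      simp only [Function.comp, Finset.sum_apply, map_sum]
    rw [this, Matrix.mulVec_sum]
    apply Finset.sum_congr rfl
    intro i _
    rw [comp_mulVeci, Matrix.mulVec_mulVec, PNi_succ', Units.val_mul, mapGLi_coe]
    congr 1
    funext k
    show σ ((σ ^ i) (v k)) = (σ ^ (i + 1)) (v k)
    rw [pow_succ']
    rfl
  rw [h1]
  unfold TTi
  have h2 := Finset.sum_range_succ'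
    (fun i => (PNi σ g i).1 *ᵥ ((σ ^ i : F ≃+* F) ∘ v)) r
  have h3 := Finset.sum_range_succ
    (fun i => (PNi σ g i).1 *ᵥ ((σ ^ i : F ≃+* F) ∘ v)) r
  rw [h3, hg, hσ, PNi_zero, pow_zero] at h2
  exact (add_right_cancel h2).symm


theorem TTi_smul (σ : F ≃+* F) (g : GL ι F) (r : ℕ) (a : F) (v : ι → F) :
    TTi σ g r (a • v)
      = ∑ i ∈ Finset.range r, (σ ^ i : F ≃+* F) a • ((PNi σ g i).1 *ᵥ ((σ ^ i : F ≃+* F) ∘ v)) := by
  unfold TTi
  apply Finset.sum_congr rfl
  intro i _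
  rw [← Matrix.mulVec_smul]
  congr 1
  funext k
  show (σ ^ i) (a * v k) = (σ ^ i) a * (σ ^ i) (v k)
  rw [map_mul]

/-- Dedekind: a functional vanishing on all `TTi v` is zero -/
theorem eq_zero_of_dot_TTi (σ : F ≃+* F) (g : GL ι F) {r : ℕ} (hr : 0 < r)
    (hord : orderOf σ = r) (l : ι → F) (hl : ∀ v, l ⬝ᵥ TTi σ g r v = 0) : l = 0 := by
  have hli := linearIndependent_monoidHom F F
  have hinj : Function.Injective (fun i : Fin r => ((σ ^ (i : ℕ) : F ≃+* F) : F →* F)) := by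
    intro i j hij
    apply Fin.ext
    apply pow_injOn_Iio_orderOf (x := σ)
    · rw [hord]; exact i.2
    · rw [hord]; exact j.2
    · ext a
      exact DFunLike.congr_fun hij a
  have hli2 := hli.comp _ hinj
  rw [Fintype.linearIndependent_iff] at hli2
  funext j
  have key : ∀ v : ι → F, l ⬝ᵥ v = 0 := by
    intro v
    have h1 := hli2 (fun i : Fin r => l ⬝ᵥ ((PNi σ g i).1 *ᵥ ((σ ^ (i : ℕ) : F ≃+* F) ∘ v))) (by
      funext a
      have h2 := hl (a • v)
      rw [TTi_smul, dotProduct_sum] at h2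
      rw [← Fin.sum_univ_eq_sum_range
        (fun i => l ⬝ᵥ ((σ ^ i : F ≃+* F) a • ((PNi σ g i).1 *ᵥ ((σ ^ i : F ≃+* F) ∘ v)))) r] at h2
      simp only [Finset.sum_apply, Pi.smul_apply, Function.comp, smul_eq_mul, Pi.zero_apply]
      rw [← h2]
      apply Finset.sum_congr rfl
      intro i _
      rw [dotProduct_smul, smul_eq_mul, mul_comm]
      rfl) ⟨0, hr⟩
    simpa [PNi_zero] using h1
  have := key (Pi.single j 1)
  simpa using this

theorem span_range_TTi (σ : F ≃+* F) (g : GL ι F) {r : ℕ} (hr : 0 < r)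
    (hord : orderOf σ = r) : Submodule.span F (Set.range (TTi σ g r)) = ⊤ := by
  by_contra hne
  obtain ⟨f, hf0, hf⟩ := Submodule.exists_le_ker_of_lt_top _ (lt_top_iff_ne_top.mpr hne)
  apply hf0
  have h1 : ∀ x : ι → F, f x = (fun j => f (Pi.single j 1)) ⬝ᵥ x := by
    intro x
    rw [LinearMap.pi_apply_eq_sum_univ f x]
    simp only [dotProduct, smul_eq_mul]
    apply Finset.sum_congr rfl
    intro i _
    have : (fun j => if i = j then (1 : F) else 0) = Pi.single i 1 := by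
      funext j
      simp [Pi.single_apply, eq_comm]
    rw [this, mul_comm]
  have h2 := eq_zero_of_dot_TTi σ g hr hord (fun j => f (Pi.single j 1)) (by
    intro v
    rw [← h1]
    exact hf (Submodule.subset_span ⟨v, rfl⟩))
  apply LinearMap.ext
  intro x
  rw [h1, h2, zero_dotProduct]
  rfl

/-- **Hilbert 90 for `GL_n`** over the cyclic group generated by `σ`. -/
theorem hilbert90_GLi (σ : F ≃+* F) {r : ℕ} (hr : 0 < r) (hord : orderOf σ = r)
    (g : GL ι F) (hg : PNi σ g r = 1) : ∃ h : GL ι F, g * mapGLi σ h = h := by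
  classical
  have hσ : σ ^ r = 1 := by rw [← hord]; exact pow_orderOf_eq_one σ
  obtain ⟨b, hb, hspan, hli⟩ := exists_linearIndependent F (Set.range (TTi σ g r))
  rw [span_range_TTi σ g hr hord] at hspan
  let B : Module.Basis b F (ι → F) := Module.Basis.mk hli (by
    rw [Subtype.range_coe_subtype]
    exact hspan.ge)
  have hB : ∀ x : b, B x = x.1 := fun x => by simp [B]
  let e : b ≃ ι := B.indexEquiv (Pi.basisFun F ι)
  let B' : Module.Basis ι F (ι → F) := B.reindex e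
  have hB' : ∀ j, ∃ v, B' j = TTi σ g r v := by
    intro j
    have : B' j = (e.symm j).1 := by simp [B', hB]
    rw [this]
    obtain ⟨v, hv⟩ := hb (e.symm j).2
    exact ⟨v, hv.symm⟩
  let M : Matrix ι ι F := (Pi.basisFun F ι).toMatrix B'
  have hMinv : Invertible M := Module.Basis.invertibleToMatrix (Pi.basisFun F ι) B'
  have hdet : IsUnit M.det := (Matrix.isUnit_iff_isUnit_det M).mp (isUnit_of_invertible M)
  have hMcol : ∀ j, (fun i => M i j) = B' j := by
    intro j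
    funext i
    simp [M, Module.Basis.toMatrix_apply]
  refine ⟨Matrix.GeneralLinearGroup.mk'' M hdet, ?_⟩
  apply Units.ext
  rw [Units.val_mul, mapGLi_coe]
  show g.1 * M.map σ = M
  ext i j
  obtain ⟨v, hv⟩ := hB' j
  have h1 := TTi_fixed σ g r hσ hg v
  rw [← hv, ← hMcol j] at h1
  have h2 := congrFun h1 i
  rw [← h2]
  simp only [Matrix.mul_apply, Matrix.mulVec, dotProduct, Matrix.map_apply, Function.comp]


end Cfsg.Agent.Lib.Helper44_H90i
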