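import Mathlib
import Cfsg.Prelude.Def_LieTypeDatum
import Cfsg.Agent.Lib.Helper14_AutOmega
import Cfsg.Agent.Lib.Helper44_H90i

/-!
# Field automorphisms of `PΩ(Q)` (helper44)

For a function `Q : (ι → F) → F` commuting with a group of field automorphisms (`SigInv`), the
standard field automorphisms `fieldO` of `PΩ(Q)`, their relation with helper14's
`Phi : GO(Q) →* Aut(PΩ(Q))`, and the description of the automorphisms induced by semilinear maps.
-/

set_option autoImplicit false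
set_option linter.unusedSectionVars false
set_option linter.unusedVariables false

namespace Cfsg.Agent.Lib.Helper44_OrthField

open Cfsg Matrix Cfsg.Agent.Lib.Helper44_Orth Cfsg.Agent.Lib.Helper14_AutOmega
  Cfsg.Agent.Lib.Helper44_H90i

variable {ι : Type} [Fintype ι] [DecidableEq ι] {F : Type*} [Field F] (Q : (ι → F) → F)

/-- `Q` commutes with the field automorphism `σ` -/
def SigInv (σ : F ≃+* F) : Prop := ∀ v : ι → F, Q (fun i => σ (v i)) = σ (Q v)

theorem sigInv_one : SigInv Q (1 : F ≃+* F) := fun _ => rfl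

theorem SigInv.mul {Q : (ι → F) → F} {σ τ : F ≃+* F} (hσ : SigInv Q σ) (hτ : SigInv Q τ) :
    SigInv Q (σ * τ) := by
  intro v
  have h1 := hσ (fun i => τ (v i))
  rw [hτ v] at h1
  exact h1

theorem SigInv.inv {Q : (ι → F) → F} {σ : F ≃+* F} (hσ : SigInv Q σ) : SigInv Q σ⁻¹ := by
  intro v
  have h1 := hσ (fun i => σ⁻¹ (v i))
  have h2 : (fun i => σ (σ⁻¹ (v i))) = v := by
    funext i
    exact σ.apply_symm_apply (v i)
  rw [h2] at h1
  rw [h1]
  exact (σ.symm_apply_apply _).symm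

/-- the field automorphisms commuting with `Q` -/
def invSub : Subgroup (F ≃+* F) where
  carrier := {σ | SigInv Q σ}
  mul_mem' ha hb := ha.mul hb
  one_mem' := sigInv_one Q
  inv_mem' ha := ha.inv

theorem mem_invSub (σ : F ≃+* F) : σ ∈ invSub Q ↔ SigInv Q σ := Iff.rfl

variable {Q}

theorem map_mem_isometryGroup {σ : F ≃+* F} (hσ : SigInv Q σ) {s : GL ι F}
    (hs : s ∈ isometryGroup F Q) : mapGLi σ s ∈ isometryGroup F Q := by
  rw [mem_isometryGroup_iff] at hs ⊢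
  intro v
  have hv : v = (σ : F → F) ∘ (fun i => σ⁻¹ (v i)) := by
    funext i
    exact (σ.apply_symm_apply (v i)).symm
  have h1 : Q ((mapGLi σ s : GL ι F).1 *ᵥ ((σ : F → F) ∘ (fun i => σ⁻¹ (v i)))) =
      Q ((σ : F → F) ∘ (fun i => σ⁻¹ (v i))) := by
    rw [mapGLi_coe, ← comp_mulVeci]
    have h2 := hσ (s.1 *ᵥ (fun i => σ⁻¹ (v i)))
    have h3 := hσ (fun i => σ⁻¹ (v i))
    show Q (fun i => σ ((s.1 *ᵥ (fun i => σ⁻¹ (v i))) i)) = Q (fun i => σ (σ⁻¹ (v i)))
    rw [h2, h3, hs]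
  rw [← hv] at h1
  exact h1

theorem map_mem_GO {σ : F ≃+* F} (hσ : SigInv Q σ) {g : GL ι F}
    (hg : g ∈ GO Q) : mapGLi σ g ∈ GO Q := by
  obtain ⟨c, hc⟩ := hg
  refine ⟨Units.map (σ : F →* F) c, ?_⟩
  intro v
  have hv : v = (σ : F → F) ∘ (fun i => σ⁻¹ (v i)) := by
    funext i
    exact (σ.apply_symm_apply (v i)).symm
  have h1 : Q ((mapGLi σ g : GL ι F).1 *ᵥ ((σ : F → F) ∘ (fun i => σ⁻¹ (v i)))) =
      σ c * Q ((σ : F → F) ∘ (fun i => σ⁻¹ (v i))) := by
    rw [mapGLi_coe, ← comp_mulVeci]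
    have h2 := hσ (g.1 *ᵥ (fun i => σ⁻¹ (v i)))
    have h3 := hσ (fun i => σ⁻¹ (v i))
    show Q (fun i => σ ((g.1 *ᵥ (fun i => σ⁻¹ (v i))) i)) = σ c * Q (fun i => σ (σ⁻¹ (v i)))
    rw [h2, h3, hc, map_mul]
  rw [← hv] at h1
  exact h1

variable (Q)

/-- the entrywise field automorphism of the isometry group -/
def fieldIso : ↥(invSub Q) →* MulAut ↥(isometryGroup F Q) where
  toFun σ :=
    { toFun := fun s => ⟨mapGLi σ.1 s.1, map_mem_isometryGroup σ.2 s.2⟩
      invFun := fun s => ⟨mapGLi (σ.1⁻¹) s.1, map_mem_isometryGroup (SigInv.inv σ.2) s.2⟩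
      left_inv := fun s => by
        apply Subtype.ext
        show mapGLi (σ.1⁻¹) (mapGLi σ.1 s.1) = s.1
        rw [← mapGLi_mul, inv_mul_cancel, mapGLi_one]
      right_inv := fun s => by
        apply Subtype.ext
        show mapGLi σ.1 (mapGLi (σ.1⁻¹) s.1) = s.1
        rw [← mapGLi_mul, mul_inv_cancel, mapGLi_one]
      map_mul' := fun s t => by
        apply Subtype.ext
        show mapGLi σ.1 (s.1 * t.1) = mapGLi σ.1 s.1 * mapGLi σ.1 t.1
        rw [map_mul] }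
  map_one' := by
    refine MulEquiv.ext fun s => Subtype.ext ?_
    show mapGLi (1 : F ≃+* F) s.1 = s.1
    rw [mapGLi_one]
  map_mul' σ τ := by
    refine MulEquiv.ext fun s => Subtype.ext ?_
    show mapGLi (σ.1 * τ.1) s.1 = mapGLi σ.1 (mapGLi τ.1 s.1)
    rw [mapGLi_mul]

theorem fieldIso_coe (σ : ↥(invSub Q)) (s : ↥(isometryGroup F Q)) :
    ((fieldIso Q σ s : ↥(isometryGroup F Q)) : GL ι F) = mapGLi σ.1 s.1 := rfl

/-- the entrywise field automorphism of the similarity group -/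
def mapGO (σ : ↥(invSub Q)) : ↥(GO Q) →* ↥(GO Q) where
  toFun g := ⟨mapGLi σ.1 g.1, map_mem_GO σ.2 g.2⟩
  map_one' := by
    apply Subtype.ext
    show mapGLi σ.1 1 = 1
    rw [map_one]
  map_mul' g h := by
    apply Subtype.ext
    show mapGLi σ.1 (g.1 * h.1) = mapGLi σ.1 g.1 * mapGLi σ.1 h.1
    rw [map_mul]

theorem mapGO_coe (σ : ↥(invSub Q)) (g : ↥(GO Q)) :
    ((mapGO Q σ g : ↥(GO Q)) : GL ι F) = mapGLi σ.1 g.1 := rfl

/-- descent of automorphisms of the isometry group to `PΩ(Q)` -/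
noncomputable def desc : MulAut ↥(isometryGroup F Q) →* MulAut (POmega F Q) :=
  (quotAut (Subgroup.center (Omega F Q))).comp (MulAut.characteristic (Omega F Q))

theorem Phi_eq_desc : Phi Q = (desc Q).comp (conjO Q) := rfl

theorem desc_mk (A : MulAut ↥(isometryGroup F Q)) (s : ↥(Omega F Q)) :
    desc Q A (QuotientGroup.mk s) = QuotientGroup.mk (MulAut.characteristic (Omega F Q) A s) := rfl

theorem characteristic_coe (A : MulAut ↥(isometryGroup F Q)) (s : ↥(Omega F Q)) :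
    ((MulAut.characteristic (Omega F Q) A s : ↥(Omega F Q)) : ↥(isometryGroup F Q)) = A s.1 := rfl

/-- the standard field automorphisms of `PΩ(Q)` -/
noncomputable def fieldO : ↥(invSub Q) →* MulAut (POmega F Q) := (desc Q).comp (fieldIso Q)

theorem fieldO_mk (σ : ↥(invSub Q)) (s : ↥(Omega F Q)) :
    fieldO Q σ (QuotientGroup.mk s) =
      QuotientGroup.mk (MulAut.characteristic (Omega F Q) (fieldIso Q σ) s) := rfl

theorem fieldO_mk_coe (σ : ↥(invSub Q)) (s : ↥(Omega F Q)) :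
    (((MulAut.characteristic (Omega F Q) (fieldIso Q σ) s : ↥(Omega F Q)) :
      ↥(isometryGroup F Q)) : GL ι F) = mapGLi σ.1 ((s : ↥(isometryGroup F Q)) : GL ι F) := rfl

/-- the relation between field automorphisms and conjugations, on the isometry group -/
theorem fieldIso_mul_conjO (σ : ↥(invSub Q)) (g : ↥(GO Q)) :
    fieldIso Q σ * conjO Q g = conjO Q (mapGO Q σ g) * fieldIso Q σ := by
  refine MulEquiv.ext fun s => Subtype.ext ?_
  show mapGLi σ.1 (g.1 * s.1 * g.1⁻¹) = mapGLi σ.1 g.1 * mapGLi σ.1 s.1 * (mapGLi σ.1 g.1)⁻¹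
  rw [map_mul, map_mul, map_inv]

/-- the relation between field automorphisms and conjugations -/
theorem fieldO_mul_Phi (σ : ↥(invSub Q)) (g : ↥(GO Q)) :
    fieldO Q σ * Phi Q g = Phi Q (mapGO Q σ g) * fieldO Q σ := by
  show (desc Q) (fieldIso Q σ) * (desc Q) (conjO Q g) =
    (desc Q) (conjO Q (mapGO Q σ g)) * (desc Q) (fieldIso Q σ)
  rw [← map_mul, ← map_mul, fieldIso_mul_conjO]

theorem isFieldAut_iff (σ : ↥(invSub Q)) (β : POmega F Q ≃* POmega F Q) :
    IsFieldAutPOmegaOf Q σ.1 β ↔ β = fieldO Q σ := by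
  constructor
  · intro h
    ext x
    induction x using QuotientGroup.induction_on with
    | H s =>
      rw [fieldO_mk]
      apply h
      rw [fieldO_mk_coe, mapGLi_coe]
  · rintro rfl s s' hs
    rw [fieldO_mk]
    congr 1
    apply Subtype.ext
    apply Subtype.ext
    apply Units.ext
    rw [fieldO_mk_coe, hs, mapGLi_coe]

/-- a semisimilarity with companion in `invSub` has its linear part in `GO` -/
theorem mem_GO_of_semisim {g : GL ι F} {σ : F ≃+* F} (hσ : SigInv Q σ)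
    (h : IsSemisimilarityPair Q g σ) : g ∈ GO Q := by
  obtain ⟨c, hc⟩ := h
  refine ⟨c, fun v => ?_⟩
  have hv : v = (fun i => σ (σ⁻¹ (v i))) := by
    funext i
    exact (σ.apply_symm_apply (v i)).symm
  have h1 := hc (fun i => σ⁻¹ (v i))
  rw [← hσ, ← hv] at h1
  exact h1

theorem isInduced_iff' (g : ↥(GO Q)) (σ : ↥(invSub Q)) (β : POmega F Q ≃* POmega F Q) :
    IsInducedBySemilinearPOmega Q (g : GL ι F) σ.1 β ↔ β = Phi Q g * fieldO Q σ := by
  constructor
  · intro h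
    ext x
    induction x using QuotientGroup.induction_on with
    | H s =>
      rw [MulAut.mul_apply, fieldO_mk, Phi_mk]
      apply h
      rw [Phi_mk_coe, fieldO_mk_coe, Units.val_mul, Units.val_mul, mapGLi_coe]
  · rintro rfl s s' hs
    rw [MulAut.mul_apply, fieldO_mk, Phi_mk]
    congr 1
    apply Subtype.ext
    apply Subtype.ext
    apply Units.ext
    rw [Phi_mk_coe, fieldO_mk_coe, hs, Units.val_mul, Units.val_mul, mapGLi_coe]

/-- the automorphisms `Phi g * fieldO σ` form a subgroup -/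
def stdAut : Subgroup (MulAut (POmega F Q)) where
  carrier := {β | ∃ (g : ↥(GO Q)) (σ : ↥(invSub Q)), β = Phi Q g * fieldO Q σ}
  mul_mem' := by
    rintro _ _ ⟨g, σ, rfl⟩ ⟨h, τ, rfl⟩
    refine ⟨g * mapGO Q σ h, σ * τ, ?_⟩
    rw [map_mul, map_mul]
    calc Phi Q g * fieldO Q σ * (Phi Q h * fieldO Q τ)
        = Phi Q g * (fieldO Q σ * Phi Q h) * fieldO Q τ := by group
      _ = Phi Q g * (Phi Q (mapGO Q σ h) * fieldO Q σ) * fieldO Q τ := by rw [fieldO_mul_Phi]
      _ = _ := by group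
  one_mem' := ⟨1, 1, by rw [map_one, map_one, one_mul]⟩
  inv_mem' := by
    rintro _ ⟨g, σ, rfl⟩
    refine ⟨mapGO Q σ⁻¹ g⁻¹, σ⁻¹, ?_⟩
    rw [← fieldO_mul_Phi, _root_.mul_inv_rev, map_inv, map_inv]

theorem mem_stdAut (β : MulAut (POmega F Q)) :
    β ∈ stdAut Q ↔ ∃ (g : ↥(GO Q)) (σ : ↥(invSub Q)), β = Phi Q g * fieldO Q σ := Iff.rfl

/-- if every field automorphism commutes with `Q` and `Aut(PΩ(Q))` is the image of the
semisimilarity group, then every automorphism is `Phi g * fieldO σ` -/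
theorem stdAut_eq_top (hall : ∀ σ : F ≃+* F, SigInv Q σ) (hAut : gammaPOmega F Q = ⊤) :
    stdAut Q = ⊤ := by
  rw [eq_top_iff, ← hAut, gammaPOmega, autSubgroupOf, Subgroup.closure_le]
  rintro β ⟨g, σ, hsemi, hind⟩
  have hg : g ∈ GO Q := mem_GO_of_semisim Q (hall σ) hsemi
  exact ⟨⟨g, hg⟩, ⟨σ, hall σ⟩, (isInduced_iff' Q ⟨g, hg⟩ ⟨σ, hall σ⟩ β).mp hind⟩

theorem Phi_range_normal_of_top (h : stdAut Q = ⊤) : (Phi Q).range.Normal := by
  constructor
  rintro _ ⟨k, rfl⟩ β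
  have hβ : β ∈ stdAut Q := by rw [h]; exact Subgroup.mem_top β
  obtain ⟨g, σ, rfl⟩ := hβ
  refine ⟨g * mapGO Q σ k * g⁻¹, ?_⟩
  rw [map_mul, map_mul, map_inv]
  calc Phi Q g * Phi Q (mapGO Q σ k) * (Phi Q g)⁻¹
      = Phi Q g * (Phi Q (mapGO Q σ k) * fieldO Q σ) * (fieldO Q σ)⁻¹ * (Phi Q g)⁻¹ := by group
    _ = Phi Q g * (fieldO Q σ * Phi Q k) * (fieldO Q σ)⁻¹ * (Phi Q g)⁻¹ := by
        rw [fieldO_mul_Phi]
    _ = _ := by group

end Cfsg.Agent.Lib.Helper44_OrthField
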