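import Mathlib
import Cfsg.Agent.Lib.Helper44_OrthField
import Cfsg.Agent.Lib.Helper14_CentOmega

/-!
# Faithfulness of the field automorphisms of `PΩ(Q)` modulo conjugations (helper44)

`fieldO σ = Phi g` forces `σ = 1`, given a singular orthogonal pair with `σ`-fixed coordinates.
-/

set_option autoImplicit false
set_option linter.unusedSectionVars false
set_option linter.unusedVariables false

namespace Cfsg.Agent.Lib.Helper44_OrthFaith

open Cfsg Matrix Cfsg.Agent.Lib.Helper44_Orth Cfsg.Agent.Lib.Helper14_AutOmega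
  Cfsg.Agent.Lib.Helper44_H90i Cfsg.Agent.Lib.Helper44_OrthField Cfsg.Agent.Lib.Helper14_CentOmega
  Cfsg.Agent.Lib.Helper14_Siegel

variable {ι : Type} [Fintype ι] [DecidableEq ι] {F : Type*} [Field F] [Fintype F]

/-- an automorphism of the isometry group inducing the identity on `PΩ(Q)` fixes `Ω(Q)` pointwise -/
theorem fixes_of_desc_eq_one (Q : QuadraticForm F (ι → F))
    (hQ : (QuadraticMap.polarBilin Q).Nondegenerate) (hn : 5 ≤ Fintype.card ι)
    (A : MulAut ↥(isometryGroup F (⇑Q))) (h : desc (⇑Q) A = 1) (s : ↥(Omega F (⇑Q))) :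
    A s.1 = s.1 := by
  set α := MulAut.characteristic (Cfsg.Omega F (⇑Q)) A with hα
  have hcen : ∀ s, s⁻¹ * α s ∈ Subgroup.center ↥(Cfsg.Omega F (⇑Q)) := by
    intro s
    have h1 : desc (⇑Q) A (QuotientGroup.mk s) = QuotientGroup.mk s := by rw [h]; rfl
    rw [desc_mk] at h1
    exact QuotientGroup.eq.mp h1.symm
  have hfix := fix_of_perfect (commutator_omega_eq_top Q hQ hn) α hcen s
  have := congrArg (fun t : ↥(Cfsg.Omega F (⇑Q)) => (t : ↥(Cfsg.isometryGroup F (⇑Q)))) hfix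
  exact this

omit [Fintype F] in
theorem polarVec_map (Q : (ι → F) → F) {σ : F ≃+* F} (hσ : SigInv Q σ) (u : ι → F)
    (hu : ∀ i, σ (u i) = u i) (j : ι) : σ (polarVec Q u j) = polarVec Q u j := by
  unfold polarVec QuadraticMap.polar
  rw [map_sub, map_sub, ← hσ, ← hσ, ← hσ]
  have h1 : (fun i => σ ((u + (Pi.single j 1 : ι → F)) i)) = u + (Pi.single j 1 : ι → F) := by
    funext i
    rw [Pi.add_apply, map_add, hu]
    by_cases hij : i = j
    · subst hij
      rw [Pi.single_eq_same, map_one]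
    · rw [Pi.single_eq_of_ne hij, map_zero]
  have h2 : (fun i => σ (u i)) = u := funext hu
  have h3 : (fun i => σ ((Pi.single j 1 : ι → F) i)) = Pi.single j 1 := by
    funext i
    by_cases hij : i = j
    · subst hij
      rw [Pi.single_eq_same, map_one]
    · rw [Pi.single_eq_of_ne hij, map_zero]
  rw [h1, h2, h3]

/-- the nilpotent part of a Siegel matrix -/
def siegelN (Q : (ι → F) → F) (u w : ι → F) : Matrix ι ι F :=
  Matrix.vecMulVec w (polarVec Q u) - Matrix.vecMulVec u (polarVec Q w)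

omit [Fintype F] in
theorem siegelMatrix_eq (Q : (ι → F) → F) (u w : ι → F) (c : F) :
    siegelMatrix Q u w c = 1 + c • siegelN Q u w := rfl

omit [Fintype F] in
theorem siegelN_map (Q : (ι → F) → F) {σ : F ≃+* F} (hσ : SigInv Q σ) (u w : ι → F)
    (hu : ∀ i, σ (u i) = u i) (hw : ∀ i, σ (w i) = w i) :
    (siegelN Q u w).map σ = siegelN Q u w := by
  ext i j
  simp only [siegelN, Matrix.map_apply, Matrix.sub_apply, Matrix.vecMulVec_apply, map_sub, map_mul,
    hu, hw, polarVec_map Q hσ u hu, polarVec_map Q hσ w hw]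

omit [Fintype F] in
theorem siegelMatrix_map (Q : (ι → F) → F) {σ : F ≃+* F} (hσ : SigInv Q σ) (u w : ι → F)
    (hu : ∀ i, σ (u i) = u i) (hw : ∀ i, σ (w i) = w i) (c : F) :
    (siegelMatrix Q u w c).map σ = siegelMatrix Q u w (σ c) := by
  rw [siegelMatrix_eq, siegelMatrix_eq]
  conv_rhs => rw [← siegelN_map Q hσ u w hu hw]
  ext i j
  simp only [Matrix.map_apply, Matrix.add_apply, Matrix.smul_apply, smul_eq_mul, map_add, map_mul]
  congr 1
  by_cases hij : i = j
  · subst hij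
    simp
  · simp [Matrix.one_apply_ne hij]

/-- **faithfulness**: a field automorphism of `PΩ(Q)` that is induced by a similarity is trivial -/
theorem eq_one_of_fieldO_eq_Phi (Q : QuadraticForm F (ι → F))
    (hQ : (QuadraticMap.polarBilin Q).Nondegenerate) (hn : 5 ≤ Fintype.card ι)
    (σ : ↥(invSub (⇑Q))) (g : ↥(GO (⇑Q))) (h : fieldO (⇑Q) σ = Phi (⇑Q) g)
    (u w : ι → F) (hu : Q u = 0) (hw : Q w = 0) (huw : QuadraticMap.polar (⇑Q) u w = 0)
    (hne : siegelN (⇑Q) u w ≠ 0)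
    (hfu : ∀ i, σ.1 (u i) = u i) (hfw : ∀ i, σ.1 (w i) = w i) : σ.1 = 1 := by
  have hA : desc (⇑Q) ((conjO (⇑Q) g)⁻¹ * fieldIso (⇑Q) σ) = 1 := by
    rw [map_mul, map_inv]
    show (Phi (⇑Q) g)⁻¹ * fieldO (⇑Q) σ = 1
    rw [h, inv_mul_cancel]
  have hfix := fixes_of_desc_eq_one Q hQ hn _ hA
  have key : ∀ c : F, (siegelMatrix (⇑Q) u w c).map σ.1 =
      (g : GL ι F).1 * siegelMatrix (⇑Q) u w c * ((g : GL ι F)⁻¹ : GL ι F).1 := by
    intro c
    have hmem : siegel Q u w c hu hw huw ∈ Cfsg.Omega F (⇑Q) :=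
      Cfsg.Agent.Lib.Helper14_SiegelAll.siegelGroup_le_omega' Q hQ hn (siegel_mem Q u w c hu hw huw)
    have h1 := hfix ⟨siegel Q u w c hu hw huw, hmem⟩
    have h2 : fieldIso (⇑Q) σ (siegel Q u w c hu hw huw) =
        conjO (⇑Q) g (siegel Q u w c hu hw huw) := by
      have h3 : ((conjO (⇑Q) g)⁻¹ * fieldIso (⇑Q) σ) (siegel Q u w c hu hw huw) =
          (conjO (⇑Q) g)⁻¹ (fieldIso (⇑Q) σ (siegel Q u w c hu hw huw)) := rfl
      rw [h3] at h1
      have h4 := congrArg (conjO (⇑Q) g) h1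
      rwa [MulAut.apply_inv_self] at h4
    have h5 := congrArg (fun t : ↥(isometryGroup F (⇑Q)) => ((t : GL ι F) : Matrix ι ι F)) h2
    simp only [fieldIso_coe, conjO_apply, mapGLi_coe, Units.val_mul] at h5
    exact h5
  have hσ : SigInv (⇑Q) σ.1 := σ.2
  have key2 : ∀ c : F, σ.1 c • siegelN (⇑Q) u w =
      c • ((g : GL ι F).1 * siegelN (⇑Q) u w * ((g : GL ι F)⁻¹ : GL ι F).1) := by
    intro c
    have h1 := key c
    rw [siegelMatrix_map (⇑Q) hσ u w hfu hfw, siegelMatrix_eq, siegelMatrix_eq, Matrix.mul_add,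
      Matrix.add_mul, Matrix.mul_one, ← Units.val_mul, mul_inv_cancel, Units.val_one,
      Matrix.mul_smul, Matrix.smul_mul] at h1
    exact add_left_cancel h1
  have h1 := key2 1
  rw [map_one, one_smul, one_smul] at h1
  apply RingEquiv.ext
  intro c
  have h2 := key2 c
  rw [← h1] at h2
  have h3 : (σ.1 c - c) • siegelN (⇑Q) u w = 0 := by
    rw [sub_smul, h2, sub_self]
  rcases smul_eq_zero.mp h3 with h4 | h4
  · exact sub_eq_zero.mp h4
  · exact absurd h4 hne

end Cfsg.Agent.Lib.Helper44_OrthFaith
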