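import Mathlib
import Cfsg.Prelude.Def_LieTypeDatum
import Cfsg.Agent.Lib.Helper44_Orth
import Cfsg.Agent.Lib.Helper14_AutOmega

set_option autoImplicit false

/-!
# A semisimilarity induces an automorphism of `PΩ(Q)` (helper7, package PD-c of helper14)

For a semisimilarity pair `(g, σ)` of a form `Q : (ι → F) → F` (any field `F`), the map
`s ↦ g σ(s) g⁻¹` is an automorphism of `GL ι F` which preserves the isometry group of `Q`; it
therefore induces an automorphism of the commutator subgroup `Ω(Q)` and of `PΩ(Q)`.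

* `twist g σ` : the automorphism `s ↦ g σ(s) g⁻¹` of `GL ι F`;
* `twist_mem_iff` : it preserves (and reflects) the isometry group;
* `twistO`, `twistP` : the induced automorphisms of `O(Q)` and of `PΩ(Q)`;
* `isInduced_twistP` : `IsInducedBySemilinearPOmega Q g σ (twistP Q g σ h)`;
* `exists_induced` : the package statement.
-/

namespace Cfsg.Agent.Lib.Helper7_OrthInduced

open Cfsg Matrix Cfsg.Agent.Lib.Helper44_Orth Cfsg.Agent.Lib.Helper14_AutOmega

variable {F : Type*} [Field F] {ι : Type} [Fintype ι] [DecidableEq ι]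

/-- Entrywise application of a field automorphism, as an automorphism of `GL ι F`. -/
def sigGL (σ : F ≃+* F) : GL ι F ≃* GL ι F where
  toFun := Matrix.GeneralLinearGroup.map (σ : F →+* F)
  invFun := Matrix.GeneralLinearGroup.map (σ.symm : F →+* F)
  left_inv s := by
    apply Units.ext
    ext i j
    simp [Matrix.GeneralLinearGroup.map_apply]
  right_inv s := by
    apply Units.ext
    ext i j
    simp [Matrix.GeneralLinearGroup.map_apply]
  map_mul' := map_mul _

theorem sigGL_val (σ : F ≃+* F) (s : GL ι F) :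
    ((sigGL σ s : GL ι F) : Matrix ι ι F) = (s : Matrix ι ι F).map σ := by
  ext i j
  rfl

/-- The automorphism `s ↦ g σ(s) g⁻¹` of `GL ι F`. -/
def twist (g : GL ι F) (σ : F ≃+* F) : GL ι F ≃* GL ι F :=
  (sigGL σ).trans (MulAut.conj g)

theorem twist_apply (g : GL ι F) (σ : F ≃+* F) (s : GL ι F) :
    twist g σ s = g * sigGL σ s * g⁻¹ := rfl

theorem twist_val (g : GL ι F) (σ : F ≃+* F) (s : GL ι F) :
    ((twist g σ s : GL ι F) : Matrix ι ι F) =
      (g : Matrix ι ι F) * (s : Matrix ι ι F).map σ * ((g⁻¹ : GL ι F) : Matrix ι ι F) := by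
  rw [twist_apply, Units.val_mul, Units.val_mul, sigGL_val]

omit [DecidableEq ι] in
theorem map_mulVec_sig (σ : F ≃+* F) (M : Matrix ι ι F) (u : ι → F) :
    (M.map σ) *ᵥ (fun i => σ (u i)) = fun i => σ ((M *ᵥ u) i) := by
  funext i
  simp only [Matrix.mulVec, dotProduct, Matrix.map_apply, map_sum, map_mul]

/-- The key identity: `g σ(s) g⁻¹` applied to `g σ(w)` is `g σ(s w)`. -/
theorem twist_mulVec (g : GL ι F) (σ : F ≃+* F) (s : GL ι F) (w : ι → F) :
    ((twist g σ s : GL ι F) : Matrix ι ι F) *ᵥ ((g : Matrix ι ι F) *ᵥ fun i => σ (w i)) =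
      (g : Matrix ι ι F) *ᵥ fun i => σ (((s : Matrix ι ι F) *ᵥ w) i) := by
  rw [twist_val, Matrix.mulVec_mulVec, Matrix.mul_assoc, ← Units.val_mul, inv_mul_cancel,
    Units.val_one, Matrix.mul_one, ← Matrix.mulVec_mulVec, map_mulVec_sig]

/-- Every vector is of the form `g σ(w)`. -/
theorem exists_semilinear_preimage (g : GL ι F) (σ : F ≃+* F) (u : ι → F) :
    ∃ w : ι → F, (g : Matrix ι ι F) *ᵥ (fun i => σ (w i)) = u := by
  refine ⟨fun i => σ.symm ((((g⁻¹ : GL ι F) : Matrix ι ι F) *ᵥ u) i), ?_⟩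
  have : (fun i => σ (σ.symm ((((g⁻¹ : GL ι F) : Matrix ι ι F) *ᵥ u) i))) =
      ((g⁻¹ : GL ι F) : Matrix ι ι F) *ᵥ u := by
    funext i
    simp
  rw [this, Matrix.mulVec_mulVec, ← Units.val_mul, mul_inv_cancel, Units.val_one,
    Matrix.one_mulVec]

theorem twist_mem_iff (Q : (ι → F) → F) (g : GL ι F) (σ : F ≃+* F)
    (h : IsSemisimilarityPair Q g σ) (s : GL ι F) :
    twist g σ s ∈ isometryGroup F Q ↔ s ∈ isometryGroup F Q := by
  obtain ⟨c, hc⟩ := h
  rw [mem_isometryGroup_iff, mem_isometryGroup_iff]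
  constructor
  · intro hs w
    have h1 := hs ((g : Matrix ι ι F) *ᵥ fun i => σ (w i))
    rw [twist_mulVec, hc, hc] at h1
    exact σ.injective (mul_left_cancel₀ c.ne_zero h1)
  · intro hs u
    obtain ⟨w, rfl⟩ := exists_semilinear_preimage g σ u
    rw [twist_mulVec, hc, hc, hs]

/-- The automorphism of the isometry group induced by a semisimilarity pair. -/
def twistO (Q : (ι → F) → F) (g : GL ι F) (σ : F ≃+* F) (h : IsSemisimilarityPair Q g σ) :
    MulAut ↥(isometryGroup F Q) where
  toFun s := ⟨twist g σ (s : GL ι F), (twist_mem_iff Q g σ h s).mpr s.2⟩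
  invFun s := ⟨(twist g σ).symm (s : GL ι F), by
    rw [← twist_mem_iff Q g σ h, MulEquiv.apply_symm_apply]
    exact s.2⟩
  left_inv s := Subtype.ext ((twist g σ).symm_apply_apply (s : GL ι F))
  right_inv s := Subtype.ext ((twist g σ).apply_symm_apply (s : GL ι F))
  map_mul' s t := Subtype.ext (map_mul (twist g σ) (s : GL ι F) (t : GL ι F))

theorem twistO_coe (Q : (ι → F) → F) (g : GL ι F) (σ : F ≃+* F) (h : IsSemisimilarityPair Q g σ)
    (s : ↥(isometryGroup F Q)) :
    ((twistO Q g σ h s : ↥(isometryGroup F Q)) : GL ι F) = twist g σ (s : GL ι F) := rfl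

/-- The automorphism of `PΩ(Q)` induced by a semisimilarity pair. -/
noncomputable def twistP (Q : (ι → F) → F) (g : GL ι F) (σ : F ≃+* F)
    (h : IsSemisimilarityPair Q g σ) : MulAut (POmega F Q) :=
  quotAut (Subgroup.center (Omega F Q)) (MulAut.characteristic (Omega F Q) (twistO Q g σ h))

theorem twistP_mk (Q : (ι → F) → F) (g : GL ι F) (σ : F ≃+* F) (h : IsSemisimilarityPair Q g σ)
    (s : ↥(Omega F Q)) :
    twistP Q g σ h (QuotientGroup.mk s) =
      QuotientGroup.mk (MulAut.characteristic (Omega F Q) (twistO Q g σ h) s) := rfl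

theorem twistP_mk_coe (Q : (ι → F) → F) (g : GL ι F) (σ : F ≃+* F)
    (h : IsSemisimilarityPair Q g σ) (s : ↥(Omega F Q)) :
    (((MulAut.characteristic (Omega F Q) (twistO Q g σ h) s : ↥(Omega F Q)) :
      ↥(isometryGroup F Q)) : GL ι F) = twist g σ ((s : ↥(isometryGroup F Q)) : GL ι F) := rfl

theorem isInduced_twistP (Q : (ι → F) → F) (g : GL ι F) (σ : F ≃+* F)
    (h : IsSemisimilarityPair Q g σ) :
    IsInducedBySemilinearPOmega Q g σ (twistP Q g σ h) := by
  intro s s' hs
  rw [twistP_mk]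
  congr 1
  apply Subtype.ext
  apply Subtype.ext
  apply Units.ext
  rw [twistP_mk_coe, hs, twist_val]

/-- An automorphism induced by the pair `(g, σ)` is `twistP`. -/
theorem isInduced_iff (Q : (ι → F) → F) (g : GL ι F) (σ : F ≃+* F)
    (h : IsSemisimilarityPair Q g σ) (β : POmega F Q ≃* POmega F Q) :
    IsInducedBySemilinearPOmega Q g σ β ↔ β = twistP Q g σ h := by
  constructor
  · intro hβ
    ext x
    induction x using QuotientGroup.induction_on with
    | H s =>
      rw [twistP_mk]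
      apply hβ
      rw [twistP_mk_coe, twist_val]
  · rintro rfl
    exact isInduced_twistP Q g σ h

/-- **Package PD-c.** A semisimilarity pair `(g, σ)` of any `Q : (ι → F) → F` induces an
automorphism of `PΩ(Q)`. -/
theorem exists_induced {ι : Type} [Fintype ι] [DecidableEq ι] (Q : (ι → F) → F) (g : GL ι F)
    (σ : F ≃+* F) (h : IsSemisimilarityPair Q g σ) :
    ∃ β : MulAut (POmega F Q), IsInducedBySemilinearPOmega Q g σ β :=
  ⟨twistP Q g σ h, isInduced_twistP Q g σ h⟩

end Cfsg.Agent.Lib.Helper7_OrthInduced
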