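import Mathlib
import Cfsg.Agent.Lib.Helper7_OrthInduced
import Cfsg.Agent.Lib.Helper44_OrthFaith
import Cfsg.Agent.Lib.Helper14_CentOmega

/-!
# The companion homomorphism `Aut(PΩ(Q)) → Aut(F)` (helper14)

For a quadratic form `Q` on `ι → F` with `gammaPOmega F Q = ⊤`: every automorphism of `PΩ(Q)` is
`twistP Q g σ h` for a semisimilarity pair `(g, σ)`; the field automorphism `σ` is determined by the
automorphism; `β ↦ σ` is a homomorphism onto `RingAut F` with kernel `(Phi Q).range = pgoAut F Q`.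
Consequently `|Aut(PΩ(Q))| = |pgoAut F Q| * |Aut(F)|`.
-/

set_option autoImplicit false
set_option linter.unusedSectionVars false
set_option linter.unusedVariables false

namespace Cfsg.Agent.Lib.Helper14_OrthGamma

open Cfsg Matrix Cfsg.Agent.Lib.Helper44_Orth Cfsg.Agent.Lib.Helper14_AutOmega
  Cfsg.Agent.Lib.Helper7_OrthInduced Cfsg.Agent.Lib.Helper44_OrthField
  Cfsg.Agent.Lib.Helper44_OrthFaith Cfsg.Agent.Lib.Helper14_Siegel
  Cfsg.Agent.Lib.Helper14_CentOmega

variable {ι : Type} [Fintype ι] [DecidableEq ι] {F : Type*} [Field F]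

/-! ### The algebra of semisimilarity pairs -/

section pairs

variable (Q : (ι → F) → F)

theorem sigGL_mul (σ τ : F ≃+* F) (s : GL ι F) : sigGL (σ * τ) s = sigGL σ (sigGL τ s) := by
  apply Units.ext
  ext i j
  rfl

theorem sigGL_one (s : GL ι F) : sigGL (1 : F ≃+* F) s = s := by
  apply Units.ext
  ext i j
  rfl

theorem semisim_one : IsSemisimilarityPair Q (1 : GL ι F) (1 : F ≃+* F) :=
  ⟨1, fun v => by
    rw [Units.val_one, Matrix.one_mulVec, Units.val_one, one_mul]
    rfl⟩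

variable {Q}

theorem semisim_mul {g g' : GL ι F} {σ σ' : F ≃+* F} (h : IsSemisimilarityPair Q g σ)
    (h' : IsSemisimilarityPair Q g' σ') : IsSemisimilarityPair Q (g * sigGL σ g') (σ * σ') := by
  obtain ⟨c, hc⟩ := h
  obtain ⟨c', hc'⟩ := h'
  refine ⟨c * Units.map (σ : F →* F) c', fun v => ?_⟩
  have h1 : ((g * sigGL σ g' : GL ι F) : Matrix ι ι F) *ᵥ (fun i => (σ * σ') (v i)) =
      (g : Matrix ι ι F) *ᵥ (fun i => σ (((g' : Matrix ι ι F) *ᵥ fun j => σ' (v j)) i)) := by
    rw [Units.val_mul, ← Matrix.mulVec_mulVec, sigGL_val]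
    congr 1
    exact map_mulVec_sig σ (g' : Matrix ι ι F) (fun j => σ' (v j))
  rw [h1, hc, hc', map_mul, Units.val_mul, mul_assoc]
  rfl

theorem twist_mul (g g' : GL ι F) (σ σ' : F ≃+* F) (s : GL ι F) :
    twist g σ (twist g' σ' s) = twist (g * sigGL σ g') (σ * σ') s := by
  rw [twist_apply, twist_apply, twist_apply, map_mul, map_mul, map_inv, sigGL_mul]
  group

theorem twistO_mul {g g' : GL ι F} {σ σ' : F ≃+* F} (h : IsSemisimilarityPair Q g σ)
    (h' : IsSemisimilarityPair Q g' σ') :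
    twistO Q g σ h * twistO Q g' σ' h' = twistO Q _ _ (semisim_mul h h') := by
  apply MulEquiv.ext
  intro s
  apply Subtype.ext
  show twist g σ (twist g' σ' (s : GL ι F)) = twist (g * sigGL σ g') (σ * σ') (s : GL ι F)
  exact twist_mul g g' σ σ' s

theorem twistP_eq_desc {g : GL ι F} {σ : F ≃+* F} (h : IsSemisimilarityPair Q g σ) :
    twistP Q g σ h = desc Q (twistO Q g σ h) := rfl

theorem twistP_mul {g g' : GL ι F} {σ σ' : F ≃+* F} (h : IsSemisimilarityPair Q g σ)
    (h' : IsSemisimilarityPair Q g' σ') :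
    twistP Q g σ h * twistP Q g' σ' h' = twistP Q _ _ (semisim_mul h h') := by
  rw [twistP_eq_desc, twistP_eq_desc, twistP_eq_desc, ← map_mul, twistO_mul]

theorem twistO_one : twistO Q (1 : GL ι F) (1 : F ≃+* F) (semisim_one Q) = 1 := by
  apply MulEquiv.ext
  intro s
  apply Subtype.ext
  show twist (1 : GL ι F) (1 : F ≃+* F) (s : GL ι F) = (s : GL ι F)
  rw [twist_apply, sigGL_one]
  group

theorem twistP_one : twistP Q (1 : GL ι F) (1 : F ≃+* F) (semisim_one Q) = 1 := by
  rw [twistP_eq_desc, twistO_one, map_one]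

theorem twistP_congr {g g' : GL ι F} {σ σ' : F ≃+* F} (h : IsSemisimilarityPair Q g σ)
    (h' : IsSemisimilarityPair Q g' σ') (hg : g = g') (hσ : σ = σ') :
    twistP Q g σ h = twistP Q g' σ' h' := by
  subst hg hσ
  rfl

end pairs

/-! ### The automorphisms induced by semisimilarity pairs form a subgroup -/

section gam

variable [Finite F] (Q : (ι → F) → F)

instance finite_aut : Finite (MulAut (POmega F Q)) := by
  have : Finite (GL ι F) := by
    have : Finite (Matrix ι ι F) := inferInstance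
    exact Finite.of_injective (fun g : GL ι F => (g : Matrix ι ι F)) Units.val_injective
  have : Finite (POmega F Q) := inferInstance
  exact Finite.of_injective (fun β : MulAut (POmega F Q) => (β : POmega F Q → POmega F Q))
    (fun a b hab => MulEquiv.ext (congrFun hab))

/-- The set of the automorphisms `twistP Q g σ h`, a subgroup. -/
def gam : Subgroup (MulAut (POmega F Q)) where
  carrier := {β | ∃ (g : GL ι F) (σ : F ≃+* F) (h : IsSemisimilarityPair Q g σ), β = twistP Q g σ h}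
  mul_mem' := by
    rintro _ _ ⟨g, σ, h, rfl⟩ ⟨g', σ', h', rfl⟩
    exact ⟨_, _, semisim_mul h h', twistP_mul h h'⟩
  one_mem' := ⟨1, 1, semisim_one Q, twistP_one.symm⟩
  inv_mem' := by
    intro β hβ
    have hpow : ∀ k : ℕ, β ^ k ∈ {β | ∃ (g : GL ι F) (σ : F ≃+* F)
        (h : IsSemisimilarityPair Q g σ), β = twistP Q g σ h} := by
      intro k
      induction k with
      | zero => exact ⟨1, 1, semisim_one Q, by rw [pow_zero]; exact twistP_one.symm⟩
      | succ k ih =>
        obtain ⟨g, σ, h, hk⟩ := ih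
        obtain ⟨g', σ', h', rfl⟩ := hβ
        exact ⟨_, _, semisim_mul h h', by rw [pow_succ, hk, twistP_mul h h']⟩
    have h1 : β⁻¹ ∈ Submonoid.powers β :=
      (isOfFinOrder_of_finite β).mem_powers_iff_mem_zpowers.mpr
        (Subgroup.inv_mem _ (Subgroup.mem_zpowers β))
    obtain ⟨k, hk⟩ := h1
    rw [← hk]
    exact hpow k

theorem mem_gam (β : MulAut (POmega F Q)) :
    β ∈ gam Q ↔ ∃ (g : GL ι F) (σ : F ≃+* F) (h : IsSemisimilarityPair Q g σ),
      β = twistP Q g σ h := Iff.rfl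

theorem gamma_eq_gam : gammaPOmega F Q = gam Q := by
  apply le_antisymm
  · rw [gammaPOmega, autSubgroupOf, Subgroup.closure_le]
    rintro β ⟨g, σ, h, hind⟩
    exact ⟨g, σ, h, (Cfsg.Agent.Lib.Helper7_OrthInduced.isInduced_iff Q g σ h β).mp hind⟩
  · rintro _ ⟨g, σ, h, rfl⟩
    exact Subgroup.subset_closure ⟨g, σ, h, isInduced_twistP Q g σ h⟩

end gam

/-! ### The companion field automorphism is determined by the automorphism -/

section faith

variable [Fintype F] (Q : QuadraticForm F (ι → F))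

theorem map_siegelMatrix (σ : F ≃+* F) (u w : ι → F) (c : F) :
    (siegelMatrix (⇑Q) u w c).map σ = 1 + σ c • (siegelN (⇑Q) u w).map σ := by
  rw [siegelMatrix_eq]
  ext i j
  simp only [Matrix.map_apply, Matrix.add_apply, Matrix.smul_apply, smul_eq_mul, map_add, map_mul]
  congr 1
  by_cases hij : i = j
  · subst hij
    simp
  · simp [Matrix.one_apply_ne hij]

/-- **Uniqueness of the companion automorphism.** -/
theorem companion_unique (hQ : (QuadraticMap.polarBilin Q).Nondegenerate)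
    (hn : 5 ≤ Fintype.card ι) {g g' : GL ι F} {σ σ' : F ≃+* F}
    (h : IsSemisimilarityPair (⇑Q) g σ) (h' : IsSemisimilarityPair (⇑Q) g' σ')
    (u w : ι → F) (hu : Q u = 0) (hw : Q w = 0) (huw : QuadraticMap.polar (⇑Q) u w = 0)
    (hN : siegelN (⇑Q) u w ≠ 0)
    (heq : twistP (⇑Q) g σ h = twistP (⇑Q) g' σ' h') : σ = σ' := by
  have hA : desc (⇑Q) ((twistO (⇑Q) g' σ' h')⁻¹ * twistO (⇑Q) g σ h) = 1 := by
    rw [map_mul, map_inv, ← twistP_eq_desc, ← twistP_eq_desc, heq, inv_mul_cancel]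
  have hfix := fixes_of_desc_eq_one Q hQ hn _ hA
  have key : ∀ c : F, (g : Matrix ι ι F) * (siegelMatrix (⇑Q) u w c).map σ *
      ((g⁻¹ : GL ι F) : Matrix ι ι F) = (g' : Matrix ι ι F) * (siegelMatrix (⇑Q) u w c).map σ' *
      ((g'⁻¹ : GL ι F) : Matrix ι ι F) := by
    intro c
    have hmem : siegel Q u w c hu hw huw ∈ Cfsg.Omega F (⇑Q) :=
      Cfsg.Agent.Lib.Helper14_SiegelAll.siegelGroup_le_omega' Q hQ hn (siegel_mem Q u w c hu hw huw)
    have h1 := hfix ⟨siegel Q u w c hu hw huw, hmem⟩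
    have h2 : twistO (⇑Q) g σ h (siegel Q u w c hu hw huw) =
        twistO (⇑Q) g' σ' h' (siegel Q u w c hu hw huw) := by
      have h3 : ((twistO (⇑Q) g' σ' h')⁻¹ * twistO (⇑Q) g σ h) (siegel Q u w c hu hw huw) =
          (twistO (⇑Q) g' σ' h')⁻¹ (twistO (⇑Q) g σ h (siegel Q u w c hu hw huw)) := rfl
      rw [h3] at h1
      have h4 := congrArg (twistO (⇑Q) g' σ' h') h1
      rwa [MulAut.apply_inv_self] at h4
    have h5 := congrArg (fun t : ↥(isometryGroup F (⇑Q)) => ((t : GL ι F) : Matrix ι ι F)) h2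
    simp only [twistO_coe, twist_val] at h5
    exact h5
  have key2 : ∀ c : F, σ c • ((g : Matrix ι ι F) * (siegelN (⇑Q) u w).map σ *
      ((g⁻¹ : GL ι F) : Matrix ι ι F)) = σ' c • ((g' : Matrix ι ι F) * (siegelN (⇑Q) u w).map σ' *
      ((g'⁻¹ : GL ι F) : Matrix ι ι F)) := by
    intro c
    have h1 := key c
    rw [map_siegelMatrix, map_siegelMatrix, Matrix.mul_add, Matrix.add_mul, Matrix.mul_one,
      ← Units.val_mul, mul_inv_cancel, Units.val_one, Matrix.mul_smul, Matrix.smul_mul,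
      Matrix.mul_add, Matrix.add_mul, Matrix.mul_one,
      ← Units.val_mul, mul_inv_cancel, Units.val_one, Matrix.mul_smul, Matrix.smul_mul] at h1
    exact add_left_cancel h1
  have hM := key2 1
  rw [map_one, map_one, one_smul, one_smul] at hM
  have hM0 : (g : Matrix ι ι F) * (siegelN (⇑Q) u w).map σ * ((g⁻¹ : GL ι F) : Matrix ι ι F) ≠ 0 := by
    intro h0
    apply hN
    have h1 : (siegelN (⇑Q) u w).map σ = 0 := by
      have h2 := congrArg (fun M => ((g⁻¹ : GL ι F) : Matrix ι ι F) * M * (g : Matrix ι ι F)) h0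
      simp only [Matrix.mul_zero, Matrix.zero_mul] at h2
      rw [← Matrix.mul_assoc, ← Matrix.mul_assoc, ← Units.val_mul, inv_mul_cancel, Units.val_one,
        Matrix.one_mul, Matrix.mul_assoc, ← Units.val_mul, inv_mul_cancel, Units.val_one,
        Matrix.mul_one] at h2
      exact h2
    ext i j
    have h3 := congrFun (congrFun h1 i) j
    rw [Matrix.map_apply, Matrix.zero_apply] at h3
    rw [Matrix.zero_apply]
    exact (map_eq_zero_iff σ σ.injective).mp h3
  apply RingEquiv.ext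
  intro c
  have h1 := key2 c
  rw [← hM] at h1
  have h2 : (σ c - σ' c) • ((g : Matrix ι ι F) * (siegelN (⇑Q) u w).map σ *
      ((g⁻¹ : GL ι F) : Matrix ι ι F)) = 0 := by
    rw [sub_smul, h1, sub_self]
  rcases smul_eq_zero.mp h2 with h3 | h3
  · exact sub_eq_zero.mp h3
  · exact absurd h3 hM0

end faith

/-! ### The companion homomorphism -/

section companion

variable [Fintype F]

/-- Standing hypotheses for the companion homomorphism. -/
structure Setup (Q : QuadraticForm F (ι → F)) : Prop where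
  nd : (QuadraticMap.polarBilin Q).Nondegenerate
  hn : 5 ≤ Fintype.card ι
  top : gammaPOmega F (⇑Q) = ⊤
  semi : ∀ σ : F ≃+* F, ∃ g : GL ι F, IsSemisimilarityPair (⇑Q) g σ
  ts : ∃ u w : ι → F, Q u = 0 ∧ Q w = 0 ∧ QuadraticMap.polar (⇑Q) u w = 0 ∧
    siegelN (⇑Q) u w ≠ 0

namespace Setup

variable {Q : QuadraticForm F (ι → F)} (S : Setup Q)
include S

theorem exists_pair (β : MulAut (POmega F (⇑Q))) :
    ∃ (σ : F ≃+* F) (g : GL ι F) (h : IsSemisimilarityPair (⇑Q) g σ), β = twistP (⇑Q) g σ h := by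
  have : β ∈ gam (⇑Q) := by
    rw [← gamma_eq_gam, S.top]
    exact Subgroup.mem_top β
  obtain ⟨g, σ, h, hβ⟩ := this
  exact ⟨σ, g, h, hβ⟩

/-- The companion field automorphism of an automorphism of `PΩ(Q)`. -/
noncomputable def comp (β : MulAut (POmega F (⇑Q))) : F ≃+* F := (S.exists_pair β).choose

theorem comp_eq {β : MulAut (POmega F (⇑Q))} {g : GL ι F} {σ : F ≃+* F}
    (h : IsSemisimilarityPair (⇑Q) g σ) (hβ : β = twistP (⇑Q) g σ h) : S.comp β = σ := by
  obtain ⟨g', h', hβ'⟩ := (S.exists_pair β).choose_spec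
  obtain ⟨u, w, hu, hw, huw, hN⟩ := S.ts
  exact companion_unique Q S.nd S.hn h' h u w hu hw huw hN (hβ'.symm.trans hβ)

theorem comp_twistP {g : GL ι F} {σ : F ≃+* F} (h : IsSemisimilarityPair (⇑Q) g σ) :
    S.comp (twistP (⇑Q) g σ h) = σ := S.comp_eq h rfl

/-- The companion homomorphism `Aut(PΩ(Q)) → Aut(F)`. -/
noncomputable def compHom : MulAut (POmega F (⇑Q)) →* RingAut F where
  toFun := S.comp
  map_one' := S.comp_eq (semisim_one (⇑Q)) twistP_one.symm
  map_mul' := by
    intro β β'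
    obtain ⟨σ, g, h, rfl⟩ := S.exists_pair β
    obtain ⟨σ', g', h', rfl⟩ := S.exists_pair β'
    rw [twistP_mul h h', S.comp_twistP, S.comp_twistP, S.comp_twistP]

theorem compHom_apply (β : MulAut (POmega F (⇑Q))) : S.compHom β = S.comp β := rfl

theorem compHom_surjective : Function.Surjective S.compHom := by
  intro σ
  obtain ⟨g, h⟩ := S.semi σ
  exact ⟨twistP (⇑Q) g σ h, S.comp_twistP h⟩

theorem twistP_refl_eq_Phi (g : ↥(GO (⇑Q))) (h : IsSemisimilarityPair (⇑Q) (g : GL ι F) 1) :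
    twistP (⇑Q) (g : GL ι F) 1 h = Phi (⇑Q) g :=
  (Cfsg.Agent.Lib.Helper14_AutOmega.isInduced_iff (⇑Q) g _).mp
    (isInduced_twistP (⇑Q) (g : GL ι F) 1 h)

theorem ker_compHom : S.compHom.ker = (Phi (⇑Q)).range := by
  ext β
  rw [MonoidHom.mem_ker, compHom_apply]
  constructor
  · intro hβ
    obtain ⟨σ, g, h, rfl⟩ := S.exists_pair β
    rw [S.comp_twistP] at hβ
    subst hβ
    have hg : g ∈ GO (⇑Q) := by
      obtain ⟨c, hc⟩ := h
      exact ⟨c, fun v => hc v⟩
    exact ⟨⟨g, hg⟩, (S.twistP_refl_eq_Phi ⟨g, hg⟩ h).symm⟩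
  · rintro ⟨g, rfl⟩
    have h : IsSemisimilarityPair (⇑Q) (g : GL ι F) 1 := by
      obtain ⟨c, hc⟩ := g.2
      exact ⟨c, fun v => hc v⟩
    rw [← S.twistP_refl_eq_Phi g h, S.comp_twistP]

/-- `|Aut(PΩ(Q))| = |PGO(Q)| * |Aut(F)|`. -/
theorem card_aut : Nat.card (MulAut (POmega F (⇑Q))) =
    Nat.card (Phi (⇑Q)).range * Nat.card (RingAut F) := by
  rw [Subgroup.card_eq_card_quotient_mul_card_subgroup S.compHom.ker,
    Nat.card_congr (QuotientGroup.quotientKerEquivOfSurjective S.compHom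
      S.compHom_surjective).toEquiv, S.ker_compHom, mul_comm]

end Setup

end companion

end Cfsg.Agent.Lib.Helper14_OrthGamma
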