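import Mathlib
import Cfsg.Prelude.Def_Solvable

/-!
# Group-theoretic generalities for local balance (helper44)

Transport of the `p'`-core condition along isomorphisms and conjugation, the dichotomy for normal
subgroups of a perfect group with simple central quotient, and the abstract core of the local
balance argument for field automorphisms.
-/

set_option autoImplicit false
set_option linter.unusedSectionVars false
set_option linter.unusedVariables false

namespace Cfsg.Agent.Lib.Helper44_BalanceGen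

open scoped commutatorElement

variable {G : Type*} [Group G]

theorem pPrimeCore_ne_bot_iff (p : ℕ) :
    Cfsg.pPrimeCore p G ≠ ⊥ ↔
      ∃ N : Subgroup G, N.Normal ∧ (Nat.card N).Coprime p ∧ N ≠ ⊥ := by
  unfold Cfsg.pPrimeCore
  rw [Ne, sSup_eq_bot]
  constructor
  · intro h
    push Not at h
    obtain ⟨N, ⟨h1, h2⟩, h3⟩ := h
    exact ⟨N, h1, h2, h3⟩
  · rintro ⟨N, h1, h2, h3⟩ h
    exact h3 (h N ⟨h1, h2⟩)

theorem pPrimeCore_ne_bot_of_equiv {H : Type*} [Group H] (e : G ≃* H) (p : ℕ)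
    (h : Cfsg.pPrimeCore p G ≠ ⊥) : Cfsg.pPrimeCore p H ≠ ⊥ := by
  rw [pPrimeCore_ne_bot_iff] at h ⊢
  obtain ⟨N, h1, h2, h3⟩ := h
  refine ⟨N.map e.toMonoidHom, h1.map _ e.surjective, ?_, ?_⟩
  · rw [Subgroup.card_map_of_injective e.injective]
    exact h2
  · rw [Ne, Subgroup.map_eq_bot_iff_of_injective _ e.injective]
    exact h3

theorem pPrimeCore_ne_bot_congr {H : Type*} [Group H] (e : G ≃* H) (p : ℕ) :
    Cfsg.pPrimeCore p G ≠ ⊥ ↔ Cfsg.pPrimeCore p H ≠ ⊥ :=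
  ⟨pPrimeCore_ne_bot_of_equiv e p, pPrimeCore_ne_bot_of_equiv e.symm p⟩

theorem map_centralizer_conj (x c : G) :
    (Subgroup.centralizer {x}).map (MulAut.conj c).toMonoidHom =
      Subgroup.centralizer {c * x * c⁻¹} := by
  ext y
  rw [Subgroup.mem_map, Subgroup.mem_centralizer_iff]
  constructor
  · rintro ⟨h, hh, rfl⟩ z hz
    rw [Set.mem_singleton_iff] at hz
    subst hz
    rw [Subgroup.mem_centralizer_iff] at hh
    have h1 := hh x rfl
    show c * x * c⁻¹ * (c * h * c⁻¹) = c * h * c⁻¹ * (c * x * c⁻¹)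
    calc c * x * c⁻¹ * (c * h * c⁻¹) = c * (x * h) * c⁻¹ := by group
      _ = c * (h * x) * c⁻¹ := by rw [h1]
      _ = _ := by group
  · intro h
    have h1 := h (c * x * c⁻¹) rfl
    refine ⟨c⁻¹ * y * c, ?_, ?_⟩
    · rw [Subgroup.mem_centralizer_iff]
      intro z hz
      rw [Set.mem_singleton_iff] at hz
      subst hz
      calc z * (c⁻¹ * y * c) = c⁻¹ * (c * z * c⁻¹ * y) * c := by group
        _ = c⁻¹ * (y * (c * z * c⁻¹)) * c := by rw [h1]
        _ = _ := by group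
    · show c * (c⁻¹ * y * c) * c⁻¹ = y
      group

/-- transport of the `p'`-core condition under conjugation -/
theorem pPrimeCore_conj_iff (A : Subgroup G) (x c : G) (p : ℕ) :
    Cfsg.pPrimeCore p ↥(A ⊓ Subgroup.centralizer {x}) ≠ ⊥ ↔
      Cfsg.pPrimeCore p ↥(A.map (MulAut.conj c).toMonoidHom ⊓
        Subgroup.centralizer {c * x * c⁻¹}) ≠ ⊥ := by
  have h1 : (A ⊓ Subgroup.centralizer {x}).map (MulAut.conj c).toMonoidHom =
      A.map (MulAut.conj c).toMonoidHom ⊓ Subgroup.centralizer {c * x * c⁻¹} := by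
    rw [Subgroup.map_inf_eq _ _ _ (MulAut.conj c).injective, map_centralizer_conj]
  exact pPrimeCore_ne_bot_congr
    (((MulAut.conj c).subgroupMap (A ⊓ Subgroup.centralizer {x})).trans
      (MulEquiv.subgroupCongr h1)) p

theorem conj_comm_aut' (β : MulAut G) (g : G) :
    β * MulAut.conj g = MulAut.conj (β g) * β := by
  ext x
  simp [MulAut.mul_apply, MulAut.conj_apply, map_mul, map_inv]

/-- a normal subgroup of a perfect group with simple central quotient is central or everything -/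
theorem normal_dichotomy (hperf : commutator G = ⊤)
    (hs : IsSimpleGroup (G ⧸ Subgroup.center G)) (D : Subgroup G) [hD : D.Normal] :
    D ≤ Subgroup.center G ∨ D = ⊤ := by
  have hDn : (D.map (QuotientGroup.mk' (Subgroup.center G))).Normal :=
    hD.map _ (QuotientGroup.mk'_surjective _)
  rcases hDn.eq_bot_or_eq_top with h | h
  · left
    intro d hd
    have h1 : QuotientGroup.mk' (Subgroup.center G) d ∈
        D.map (QuotientGroup.mk' (Subgroup.center G)) := Subgroup.mem_map_of_mem _ hd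
    rw [h, Subgroup.mem_bot] at h1
    exact (QuotientGroup.eq_one_iff d).mp h1
  · right
    rw [eq_top_iff, ← hperf, commutator_def, Subgroup.commutator_le]
    intro g₁ _ g₂ _
    have hg : ∀ g : G, ∃ d ∈ D, ∃ z ∈ Subgroup.center G, g = d * z := by
      intro g
      have h1 : QuotientGroup.mk' (Subgroup.center G) g ∈
          D.map (QuotientGroup.mk' (Subgroup.center G)) := by rw [h]; trivial
      obtain ⟨d, hd, hdg⟩ := h1
      refine ⟨d, hd, d⁻¹ * g, ?_, by group⟩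
      exact QuotientGroup.eq.mp hdg
    obtain ⟨d₁, hd₁, z₁, hz₁, rfl⟩ := hg g₁
    obtain ⟨d₂, hd₂, z₂, hz₂, rfl⟩ := hg g₂
    have hz₁' := Subgroup.mem_center_iff.mp hz₁
    have hz₂' := Subgroup.mem_center_iff.mp hz₂
    have h1 : ⁅d₁ * z₁, d₂ * z₂⁆ = ⁅d₁, d₂⁆ := by
      rw [commutatorElement_def, commutatorElement_def]
      have e1 : (d₁ * z₁)⁻¹ = d₁⁻¹ * z₁⁻¹ := by
        rw [mul_inv_rev]
        exact (Subgroup.mem_center_iff.mp (Subgroup.inv_mem _ hz₁) d₁⁻¹).symm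
      have e2 : (d₂ * z₂)⁻¹ = d₂⁻¹ * z₂⁻¹ := by
        rw [mul_inv_rev]
        exact (Subgroup.mem_center_iff.mp (Subgroup.inv_mem _ hz₂) d₂⁻¹).symm
      rw [e1, e2]
      calc d₁ * z₁ * (d₂ * z₂) * (d₁⁻¹ * z₁⁻¹) * (d₂⁻¹ * z₂⁻¹)
          = d₁ * (z₁ * d₂) * (z₂ * d₁⁻¹) * (z₁⁻¹ * d₂⁻¹) * z₂⁻¹ := by group
        _ = d₁ * (d₂ * z₁) * (d₁⁻¹ * z₂) * (d₂⁻¹ * z₁⁻¹) * z₂⁻¹ := by
            rw [← hz₁' d₂, ← hz₂' d₁⁻¹,
              ← Subgroup.mem_center_iff.mp (Subgroup.inv_mem _ hz₁) d₂⁻¹]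
        _ = d₁ * d₂ * (z₁ * d₁⁻¹) * (z₂ * d₂⁻¹) * z₁⁻¹ * z₂⁻¹ := by group
        _ = d₁ * d₂ * (d₁⁻¹ * z₁) * (d₂⁻¹ * z₂) * z₁⁻¹ * z₂⁻¹ := by
            rw [← hz₁' d₁⁻¹, ← hz₂' d₂⁻¹]
        _ = d₁ * d₂ * d₁⁻¹ * (z₁ * d₂⁻¹) * z₂ * z₁⁻¹ * z₂⁻¹ := by group
        _ = d₁ * d₂ * d₁⁻¹ * (d₂⁻¹ * z₁) * z₂ * z₁⁻¹ * z₂⁻¹ := by rw [← hz₁' d₂⁻¹]
        _ = d₁ * d₂ * d₁⁻¹ * d₂⁻¹ * (z₁ * z₂) * z₁⁻¹ * z₂⁻¹ := by group
        _ = d₁ * d₂ * d₁⁻¹ * d₂⁻¹ * (z₂ * z₁) * z₁⁻¹ * z₂⁻¹ := by rw [← hz₁' z₂]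
        _ = d₁ * d₂ * d₁⁻¹ * d₂⁻¹ := by group
    rw [h1]
    exact Subgroup.commutator_mem_commutator hd₁ hd₂ |> fun h =>
      (Subgroup.commutator_le_left D D) h

/-- the abstract core of the local balance argument -/
theorem core_abstract {A : Type*} [Group A] {p : ℕ} [hp : Fact p.Prime] (φ : A)
    (hφ : orderOf φ = p) (I₀ H N' : Subgroup A) (hHI : H ≤ I₀)
    (hIH : ∀ c ∈ I₀, ∀ h ∈ H, c * h * c⁻¹ ∈ H)
    (hNI : ∀ n ∈ N', ∀ c ∈ I₀, n * c * n⁻¹ ∈ I₀)
    (hIN : ∀ c ∈ I₀, ∀ n ∈ N', c * n * c⁻¹ ∈ N')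
    (hcent : ∀ n ∈ N', φ * n = n * φ)
    (hkey : ∀ y : A, φ * y = y * φ → (∀ h ∈ H, y * h = h * y) → y ∈ Subgroup.zpowers φ)
    (hNH : N' ⊓ H = ⊥) (hcop : (Nat.card N').Coprime p) : N' = ⊥ := by
  have hzp : N' ⊓ Subgroup.zpowers φ = ⊥ := by
    apply (Subgroup.disjoint_of_coprime_natCard _).eq_bot
    rw [Nat.card_zpowers, hφ]
    exact hcop
  have comm_of : ∀ a b : A, a * b * a⁻¹ * b⁻¹ = 1 → a * b = b * a := by
    intro a b h
    calc a * b = (a * b * a⁻¹ * b⁻¹) * (b * a) := by group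
      _ = b * a := by rw [h, one_mul]
  have step1 : ∀ c ∈ N', c ∈ I₀ → c = 1 := by
    intro c hcN hcI
    have hcH : ∀ h ∈ H, c * h = h * c := by
      intro h hh
      apply comm_of
      have h1 : c * h * c⁻¹ * h⁻¹ ∈ N' := by
        have h2 := hIN h (hHI hh) c⁻¹ (N'.inv_mem hcN)
        have h3 := N'.mul_mem hcN h2
        have h4 : c * (h * c⁻¹ * h⁻¹) = c * h * c⁻¹ * h⁻¹ := by group
        rwa [h4] at h3
      have h2 : c * h * c⁻¹ * h⁻¹ ∈ H := H.mul_mem (hIH c hcI h hh) (H.inv_mem hh)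
      have h3 : c * h * c⁻¹ * h⁻¹ ∈ N' ⊓ H := ⟨h1, h2⟩
      rw [hNH] at h3
      exact h3
    have hz := hkey c (hcent c hcN) hcH
    have h3 : c ∈ N' ⊓ Subgroup.zpowers φ := ⟨hcN, hz⟩
    rw [hzp] at h3
    exact h3
  rw [eq_bot_iff]
  intro n hn
  have hnI : ∀ c ∈ I₀, n * c = c * n := by
    intro c hc
    apply comm_of
    apply step1
    · have h2 := hIN c hc n⁻¹ (N'.inv_mem hn)
      have h3 := N'.mul_mem hn h2
      have h4 : n * (c * n⁻¹ * c⁻¹) = n * c * n⁻¹ * c⁻¹ := by group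
      rwa [h4] at h3
    · exact I₀.mul_mem (hNI n hn c hc) (I₀.inv_mem hc)
  have hz := hkey n (hcent n hn) (fun h hh => hnI h (hHI hh))
  have h3 : n ∈ N' ⊓ Subgroup.zpowers φ := ⟨hn, hz⟩
  rw [hzp] at h3
  exact h3

/-- the `p'`-core of `C_A(φ)` when `p` does not divide the order of the fixed points -/
theorem commute_cancel {A : Type*} [Group A] (a b c : A) (h : a * (b * c) = b * c * a)
    (hc : a * c = c * a) : a * b = b * a := by
  have h1 : a * b * c = b * a * c := by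
    calc a * b * c = a * (b * c) := by group
      _ = b * c * a := h
      _ = b * (c * a) := by group
      _ = b * (a * c) := by rw [hc]
      _ = b * a * c := by group
  exact mul_right_cancel h1

theorem twisted_cancel {A : Type*} [Group A] (a f c c' : A) (h1 : a * f * c = c * (a * f))
    (h2 : f * c = c' * f) : a * c' = c * a := by
  have h3 : a * c' * f = c * a * f := by
    calc a * c' * f = a * (c' * f) := by group
      _ = a * (f * c) := by rw [h2]
      _ = a * f * c := by group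
      _ = c * (a * f) := h1
      _ = c * a * f := by group
  exact mul_right_cancel h3

theorem conj_of_comm {A : Type*} [Group A] (a b : A) (h : a * b = b * a) : a * b * a⁻¹ = b := by
  rw [h]; group

theorem sq_pow_of_odd {A : Type*} [Group A] (a : A) {p : ℕ} (hp : Odd p) (ha : a ^ p = 1) :
    a = (a * a) ^ ((p + 1) / 2) := by
  obtain ⟨k, hk⟩ := hp
  have h1 : (p + 1) / 2 = k + 1 := by omega
  rw [h1, ← pow_two, ← pow_mul]
  have h2 : 2 * (k + 1) = p + 1 := by omega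
  rw [h2, pow_succ, ha, one_mul]

end Cfsg.Agent.Lib.Helper44_BalanceGen
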