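import Mathlib
import Cfsg.Agent.Lib.Helper14_BalDefs
import Cfsg.Agent.Lib.Helper14_CentOmega
import Cfsg.Agent.Lib.Helper14_OrthGamma
import Cfsg.Agent.Lib.Helper44_BalanceGen

set_option autoImplicit false

namespace Cfsg.Agent.Lib.Helper52_Bal_A3

open Module Cfsg Cfsg.Agent.Lib.Helper94_OrthSmall Cfsg.Agent.Lib.Helper14_OmegaSimple
  Cfsg.Agent.Lib.Helper14_BalDefs Cfsg.Agent.Lib.Helper14_AutOmega Cfsg.Agent.Lib.Helper7_OrthInduced
  Cfsg.Agent.Lib.Helper14_OrthGamma

section abstract

variable {F V : Type*} [Field F] [AddCommGroup V] [Module F V]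

variable [Fintype F] [FiniteDimensional F V]

/-- In dimension at least five the group generated by all Eichler–Siegel transformations is the
group generated by the long root elements. -/
theorem TE_eq_T (Q : QuadraticForm F V)
    (hQ : (QuadraticMap.polarBilin Q).Nondegenerate) (hdim : 5 ≤ finrank F V) : TE Q = T Q := by
  apply le_antisymm
  · rw [TE, Subgroup.closure_le]
    rintro g ⟨u, z, hu, huz, rfl⟩
    exact E_mem_T Q hQ hdim hu huz
  · rw [T, Subgroup.closure_le]
    rintro g ⟨u, s, hu, hs, hus, rfl⟩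
    exact E_mem_TE Q hu hus

omit [Fintype F] in
/-- A non-degenerate quadratic space of positive dimension has a non-singular vector. -/
theorem exists_nonsingular (Q : QuadraticForm F V)
    (hQ : (QuadraticMap.polarBilin Q).Nondegenerate) (hdim : 0 < finrank F V) :
    ∃ x : V, Q x ≠ 0 := by
  by_contra hcon
  push Not at hcon
  have : Nontrivial V := Module.finrank_pos_iff.mp hdim
  obtain ⟨v, hv⟩ := exists_ne (0 : V)
  apply hv
  apply hQ.1 v
  intro y
  rw [QuadraticMap.polarBilin_apply_apply, QuadraticMap.polar, hcon, hcon, hcon]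
  ring

/-- BAL-A3: in dimension at least five `TE Q = T Q` has no non-trivial normal subgroup of odd order. -/
theorem A3 (h2 : (2 : F) ≠ 0) (Q : QuadraticForm F V)
    (hQ : (QuadraticMap.polarBilin Q).Nondegenerate) (hdim : 5 ≤ finrank F V)
    (hinv : ∃ t ∈ T Q, t ≠ 1 ∧ t * t = 1)
    (M : Subgroup (V ≃ₗ[F] V)) (hM : M ≤ TE Q) (hnorm : ∀ t ∈ TE Q, ∀ m ∈ M, t * m * t⁻¹ ∈ M)
    (hodd : Odd (Nat.card M)) : M = ⊥ := by
  have hTE := TE_eq_T Q hQ hdim
  rw [hTE] at hM hnorm
  have hfin : Finite M := Nat.finite_of_card_ne_zero (by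
    intro h; rw [h] at hodd; exact absurd hodd (by decide))
  -- an element of `M` whose square is `1` is `1`
  have hsq : ∀ m ∈ M, m * m = 1 → m = 1 := by
    intro m hm hmm
    obtain ⟨k, hk⟩ := hodd
    have h1 : (⟨m, hm⟩ : M) ^ Nat.card M = 1 := pow_card_eq_one'
    have h3 : m ^ (2 * k + 1) = 1 := by
      have := congrArg Subtype.val h1
      rw [hk] at this
      simpa using this
    rw [pow_succ, pow_mul, pow_two, hmm, one_pow, one_mul] at h3
    exact h3
  have hnormal : (M.subgroupOf (T Q)).Normal := by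
    constructor
    intro m hm t
    rw [Subgroup.mem_subgroupOf] at hm ⊢
    exact hnorm t t.2 m hm
  rcases Cfsg.Agent.Lib.Helper44_BalanceGen.normal_dichotomy (commutator_T_eq_top Q hQ hdim)
    (isSimpleGroup_T Q hQ hdim) (M.subgroupOf (T Q)) with hc | htop
  · -- central case
    rw [Subgroup.eq_bot_iff_forall]
    intro m hm
    apply hsq m hm
    have hmT : m ∈ T Q := hM hm
    have hcen : (⟨m, hmT⟩ : ↥(T Q)) ∈ Subgroup.center ↥(T Q) :=
      hc (Subgroup.mem_subgroupOf.mpr hm)
    rw [Subgroup.mem_center_iff] at hcen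
    have hcomm : ∀ u s : V, Q u = 0 → Q s = 0 → QuadraticMap.polar (⇑Q) u s = 0 →
        m * E Q u s = E Q u s * m := by
      intro u s hu hs hus
      have := hcen ⟨E Q u s, root_mem_T Q hu hs hus⟩
      exact (congrArg Subtype.val this).symm
    obtain ⟨l, hl⟩ := Cfsg.Agent.Lib.Helper14_CentOmega.exists_scalar_of_comm Q hQ hdim hcomm
    obtain ⟨x, hx⟩ := exists_nonsingular Q hQ (by omega)
    have hmO : m ∈ oG (⇑Q) := T_le_oG Q hmT
    have hll : l * l = 1 := by
      have := hmO x
      rw [hl, QuadraticMap.map_smul, smul_eq_mul] at this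
      have h3 : (l * l - 1) * Q x = 0 := by linear_combination this
      rcases mul_eq_zero.mp h3 with h4 | h4
      · linear_combination h4
      · exact absurd h4 hx
    apply LinearEquiv.ext
    intro v
    rw [LinearEquiv.mul_apply, hl, hl, smul_smul, hll, one_smul]
    rfl
  · -- `M = T Q` contains an involution
    exfalso
    obtain ⟨t, ht, ht1, htt⟩ := hinv
    have htM : t ∈ M := by
      have : (⟨t, ht⟩ : ↥(T Q)) ∈ M.subgroupOf (T Q) := by rw [htop]; trivial
      exact Subgroup.mem_subgroupOf.mp this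
    exact ht1 (hsq t htM htt)

end abstract

end Cfsg.Agent.Lib.Helper52_Bal_A3
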