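import Mathlib
import Cfsg.Agent.Lib.Helper14_BalDefs
import Cfsg.Agent.Lib.Helper14_CentOmega
import Cfsg.Agent.Lib.Helper94_OrthSiegel2

/-!
# BAL-A3i (helper58, for helper14): an involution in `T Q`

Dimension at least five over a finite field of odd characteristic: two orthogonal hyperbolic
pairs `e₁ f₁`, `e₂ f₂`; `x = E e₁ e₂`, `y = E f₁ f₂`, `n = x y x` is a Weyl element
(`n e₁ = f₂`, `n f₂ = -e₁`, `n e₂ = -f₁`, `n f₁ = e₂`), and `t = n n` is `-1` on the hyperbolic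
four-space and `1` on its orthogonal complement.
-/

set_option autoImplicit false

namespace Cfsg.Agent.Lib.Helper58_Bal_A3i

open Module Cfsg Cfsg.Agent.Lib.Helper94_OrthSmall Cfsg.Agent.Lib.Helper14_OmegaSimple
  Cfsg.Agent.Lib.Helper44_QuadClass

variable {F V : Type*} [Field F] [AddCommGroup V] [Module F V]

/-- two orthogonal hyperbolic pairs -/
theorem exists_two_pairs [Finite F] [FiniteDimensional F V] (Q : QuadraticForm F V)
    (hQ : (QuadraticMap.polarBilin Q).Nondegenerate) (hdim : 5 ≤ finrank F V) :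
    ∃ e₁ f₁ e₂ f₂ : V, e₁ ≠ 0 ∧ Q e₁ = 0 ∧ Q f₁ = 0 ∧ Q e₂ = 0 ∧ Q f₂ = 0 ∧
      QuadraticMap.polar (⇑Q) e₁ f₁ = 1 ∧ QuadraticMap.polar (⇑Q) e₂ f₂ = 1 ∧
      QuadraticMap.polar (⇑Q) e₁ e₂ = 0 ∧ QuadraticMap.polar (⇑Q) e₁ f₂ = 0 ∧
      QuadraticMap.polar (⇑Q) f₁ e₂ = 0 ∧ QuadraticMap.polar (⇑Q) f₁ f₂ = 0 := by
  classical
  set B : LinearMap.BilinForm F V := QuadraticMap.polarBilin Q with hB
  have hBa : ∀ x y, QuadraticMap.polar (⇑Q) x y = B x y := fun x y => rfl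
  have hsymm : ∀ x y, B x y = B y x := fun x y => QuadraticMap.polar_comm _ _ _
  have hself : ∀ x, Q x = 0 → B x x = 0 := by
    intro x hx
    rw [← hBa, QuadraticMap.polar_self, hx, smul_zero]
  obtain ⟨e₁, he₁0, he₁⟩ := exists_singular Q (by omega : 3 ≤ finrank F V)
  obtain ⟨f₁, hf₁, h11⟩ := exists_hyperbolic_partner Q hQ he₁0 he₁
  rw [hBa] at h11
  obtain ⟨W, hW⟩ : ∃ W, W = Submodule.span F ({e₁, f₁} : Set V) := ⟨_, rfl⟩
  have hWle : finrank F W ≤ 2 := by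
    rw [hW]
    have := finrank_span_finset_le_card (R := F) ({e₁, f₁} : Finset V)
    rw [Finset.coe_insert, Finset.coe_singleton] at this
    exact this.trans Finset.card_le_two
  obtain ⟨K, hK⟩ : ∃ K, K = LinearMap.BilinForm.orthogonal B W := ⟨_, rfl⟩
  have hKfr : finrank F K = finrank F V - finrank F W := by
    rw [hK]; exact LinearMap.BilinForm.finrank_orthogonal hQ W
  obtain ⟨e₂, he₂K, he₂0, he₂⟩ := Cfsg.Agent.Lib.Helper94_OrthSiegel2.exists_singular_in (⇑Q) B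
    (hQs Q) (hQp Q) K (by omega)
  rw [hK, LinearMap.BilinForm.mem_orthogonal_iff] at he₂K
  have h12 : B e₁ e₂ = 0 := he₂K e₁ (hW ▸ Submodule.subset_span (by simp))
  have hf1e2 : B f₁ e₂ = 0 := he₂K f₁ (hW ▸ Submodule.subset_span (by simp))
  obtain ⟨y, hy⟩ : ∃ y, B e₂ y ≠ 0 := by
    by_contra hcon
    apply he₂0
    apply hQ.1 e₂
    intro y
    by_contra hy
    exact hcon ⟨y, hy⟩
  -- project `y` into the orthogonal complement of the first pair and normalise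
  obtain ⟨y', hy'⟩ : ∃ y', y' = (B e₂ y)⁻¹ • (y - B y f₁ • e₁ - B y e₁ • f₁) := ⟨_, rfl⟩
  have h21 : B e₂ e₁ = 0 := by rw [hsymm, h12]
  have h2f1 : B e₂ f₁ = 0 := by rw [hsymm, hf1e2]
  have hy'2 : B e₂ y' = 1 := by
    rw [hy']
    simp only [map_sub, map_smul, smul_eq_mul, h21, h2f1, mul_zero, sub_zero]
    exact inv_mul_cancel₀ hy
  have hy'e : B e₁ y' = 0 := by
    rw [hy']
    simp only [map_sub, map_smul, smul_eq_mul, hself e₁ he₁, h11, mul_zero, sub_zero, mul_one]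
    rw [hsymm e₁ y, sub_self, mul_zero]
  have hy'f : B f₁ y' = 0 := by
    rw [hy']
    simp only [map_sub, map_smul, smul_eq_mul, hself f₁ hf₁, hsymm f₁ e₁, h11, mul_zero, sub_zero,
      mul_one]
    rw [hsymm f₁ y, sub_self, mul_zero]
  refine ⟨e₁, f₁, e₂, y' - Q y' • e₂, he₁0, he₁, hf₁, he₂, ?_, ?_, ?_, ?_, ?_, ?_, ?_⟩
  · rw [Cfsg.Agent.Lib.Helper14_OmegaSimple.map_sub', hQs, he₂, mul_zero, add_zero,
      QuadraticMap.polar_smul_right, smul_eq_mul, hBa, hsymm, hy'2, mul_one, sub_self]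
  · rw [hBa, h11]
  · rw [hBa]
    simp only [map_sub, map_smul, smul_eq_mul, hy'2, hself e₂ he₂, mul_zero, sub_zero]
  · rw [hBa, h12]
  · rw [hBa]
    simp only [map_sub, map_smul, smul_eq_mul, hy'e, h12, mul_zero, sub_zero]
  · rw [hBa, hf1e2]
  · rw [hBa]
    simp only [map_sub, map_smul, smul_eq_mul, hy'f, hf1e2, mul_zero, sub_zero]

/-- BAL-A3i: an involution in `T Q` (dimension at least five, odd characteristic). -/
theorem A3i [Fintype F] [FiniteDimensional F V] (h2 : (2 : F) ≠ 0) (Q : QuadraticForm F V)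
    (hQ : (QuadraticMap.polarBilin Q).Nondegenerate) (hdim : 5 ≤ finrank F V) :
    ∃ t ∈ T Q, t ≠ 1 ∧ t * t = 1 := by
  classical
  obtain ⟨e₁, f₁, e₂, f₂, he₁0, he₁, hf₁, he₂, hf₂, h11, h22, h12, h1f2, hf1e2, hf1f2⟩ :=
    exists_two_pairs Q hQ hdim
  set B : LinearMap.BilinForm F V := QuadraticMap.polarBilin Q with hB
  have hBa : ∀ x y, QuadraticMap.polar (⇑Q) x y = B x y := fun x y => rfl
  have hsymm : ∀ x y, B x y = B y x := fun x y => QuadraticMap.polar_comm _ _ _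
  have hself : ∀ x, Q x = 0 → B x x = 0 := by
    intro x hx
    rw [← hBa, QuadraticMap.polar_self, hx, smul_zero]
  rw [hBa] at h11 h22 h12 h1f2 hf1e2 hf1f2
  -- the table of inner products
  have p11 := hself e₁ he₁
  have p22 := hself e₂ he₂
  have q11 := hself f₁ hf₁
  have q22 := hself f₂ hf₂
  have h11' : B f₁ e₁ = 1 := by rw [hsymm, h11]
  have h22' : B f₂ e₂ = 1 := by rw [hsymm, h22]
  have h12' : B e₂ e₁ = 0 := by rw [hsymm, h12]
  have h1f2' : B f₂ e₁ = 0 := by rw [hsymm, h1f2]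
  have hf1e2' : B e₂ f₁ = 0 := by rw [hsymm, hf1e2]
  have hf1f2' : B f₂ f₁ = 0 := by rw [hsymm, hf1f2]
  -- the two root elements
  set x : V ≃ₗ[F] V := E Q e₁ e₂ with hxdef
  set y : V ≃ₗ[F] V := E Q f₁ f₂ with hydef
  have hx : ∀ v, x v = v + B v e₁ • e₂ - B v e₂ • e₁ := by
    intro v
    rw [hxdef, E_apply Q he₁ h12 v, he₂, zero_mul, zero_smul, sub_zero]
    rfl
  have hy : ∀ v, y v = v + B v f₁ • f₂ - B v f₂ • f₁ := by
    intro v
    rw [hydef, E_apply Q hf₁ hf1f2 v, hf₂, zero_mul, zero_smul, sub_zero]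
    rfl
  have xe₁ : x e₁ = e₁ := by rw [hx, p11, h12]; module
  have xf₁ : x f₁ = f₁ + e₂ := by rw [hx, h11', hf1e2]; module
  have xe₂ : x e₂ = e₂ := by rw [hx, h12', p22]; module
  have xf₂ : x f₂ = f₂ - e₁ := by rw [hx, h1f2', h22']; module
  have ye₁ : y e₁ = e₁ + f₂ := by rw [hy, h11, h1f2]; module
  have yf₁ : y f₁ = f₁ := by rw [hy, q11, hf1f2]; module
  have ye₂ : y e₂ = e₂ - f₁ := by rw [hy, hf1e2', h22]; module
  have yf₂ : y f₂ = f₂ := by rw [hy, hf1f2', q22]; module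
  have xc : ∀ c, B c e₁ = 0 → B c e₂ = 0 → x c = c := by
    intro c h1 h2'
    rw [hx, h1, h2']; module
  have yc : ∀ c, B c f₁ = 0 → B c f₂ = 0 → y c = c := by
    intro c h1 h2'
    rw [hy, h1, h2']; module
  set n : V ≃ₗ[F] V := x * y * x with hndef
  have hn : ∀ v, n v = x (y (x v)) := fun v => rfl
  have ne₁ : n e₁ = f₂ := by
    rw [hn, xe₁, ye₁, map_add, xe₁, xf₂]; abel
  have nf₂ : n f₂ = -e₁ := by
    rw [hn, xf₂, map_sub, yf₂, ye₁, map_sub, map_add, xf₂, xe₁]; abel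
  have ne₂ : n e₂ = -f₁ := by
    rw [hn, xe₂, ye₂, map_sub, xe₂, xf₁]; abel
  have nf₁ : n f₁ = e₂ := by
    rw [hn, xf₁, map_add, yf₁, ye₂, map_add, map_sub, xf₁, xe₂]; abel
  have nc : ∀ c, B c e₁ = 0 → B c e₂ = 0 → B c f₁ = 0 → B c f₂ = 0 → n c = c := by
    intro c h1 h2' h3 h4
    rw [hn, xc c h1 h2', yc c h3 h4, xc c h1 h2']
  set t : V ≃ₗ[F] V := n * n with htdef
  have ht : ∀ v, t v = n (n v) := fun v => rfl
  have te₁ : t e₁ = -e₁ := by rw [ht, ne₁, nf₂]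
  have tf₂ : t f₂ = -f₂ := by rw [ht, nf₂, map_neg, ne₁]
  have te₂ : t e₂ = -e₂ := by rw [ht, ne₂, map_neg, nf₁]
  have tf₁ : t f₁ = -f₁ := by rw [ht, nf₁, ne₂]
  have tc : ∀ c, B c e₁ = 0 → B c e₂ = 0 → B c f₁ = 0 → B c f₂ = 0 → t c = c := by
    intro c h1 h2' h3 h4
    rw [ht, nc c h1 h2' h3 h4, nc c h1 h2' h3 h4]
  have hxT : x ∈ T Q := root_mem_T Q he₁ he₂ h12
  have hyT : y ∈ T Q := root_mem_T Q hf₁ hf₂ hf1f2
  have hnT : n ∈ T Q := (T Q).mul_mem ((T Q).mul_mem hxT hyT) hxT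
  refine ⟨t, (T Q).mul_mem hnT hnT, ?_, ?_⟩
  · intro h1
    have h3 : t e₁ = e₁ := by rw [h1]; rfl
    rw [te₁] at h3
    have h4 : (2 : F) • e₁ = 0 := by
      rw [two_smul]
      nth_rewrite 1 [← h3]
      exact neg_add_cancel e₁
    rcases smul_eq_zero.mp h4 with h5 | h5
    · exact h2 h5
    · exact he₁0 h5
  · apply LinearEquiv.ext
    intro v
    show t (t v) = v
    obtain ⟨h, hh⟩ : ∃ h, h = B v f₁ • e₁ + B v e₁ • f₁ + B v f₂ • e₂ + B v e₂ • f₂ := ⟨_, rfl⟩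
    obtain ⟨c, hc⟩ : ∃ c, c = v - h := ⟨_, rfl⟩
    have hv : v = h + c := by rw [hc]; abel
    have c1 : B c e₁ = 0 := by
      rw [hc, hh]
      simp only [map_sub, map_add, map_smul, LinearMap.sub_apply, LinearMap.add_apply,
        LinearMap.smul_apply, smul_eq_mul, p11, h11', h12', h1f2']
      ring
    have c2 : B c e₂ = 0 := by
      rw [hc, hh]
      simp only [map_sub, map_add, map_smul, LinearMap.sub_apply, LinearMap.add_apply,
        LinearMap.smul_apply, smul_eq_mul, h12, hf1e2, p22, h22']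
      ring
    have c3 : B c f₁ = 0 := by
      rw [hc, hh]
      simp only [map_sub, map_add, map_smul, LinearMap.sub_apply, LinearMap.add_apply,
        LinearMap.smul_apply, smul_eq_mul, h11, q11, hf1e2', hf1f2']
      ring
    have c4 : B c f₂ = 0 := by
      rw [hc, hh]
      simp only [map_sub, map_add, map_smul, LinearMap.sub_apply, LinearMap.add_apply,
        LinearMap.smul_apply, smul_eq_mul, h1f2, hf1f2, h22, q22]
      ring
    have th : t h = -h := by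
      rw [hh]
      simp only [map_add, map_smul, te₁, tf₁, te₂, tf₂]
      module
    have h6 : t v = -h + c := by
      rw [hv, map_add, th, tc c c1 c2 c3 c4]
    rw [h6, map_add, map_neg, th, tc c c1 c2 c3 c4, hv]
    abel

end Cfsg.Agent.Lib.Helper58_Bal_A3i
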