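import Mathlib
import Cfsg.Agent.Lib.Helper14_BalDefs
import Cfsg.Agent.Lib.Helper14_CentOmega
import Cfsg.Agent.Lib.Helper14_OrthGamma

/-!
# BAL-A2 (helper82 for helper14, S2733): in dimension three (odd characteristic) the group `TE Q`
generated by the Eichler–Siegel transformations has no non-trivial normal subgroup of odd order
-/

set_option autoImplicit false

namespace Cfsg.Agent.Lib.Helper82_Bal_A2

open Module Cfsg Cfsg.Agent.Lib.Helper94_OrthSmall Cfsg.Agent.Lib.Helper14_OmegaSimple
  Cfsg.Agent.Lib.Helper14_BalDefs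

variable {F V : Type*} [Field F] [AddCommGroup V] [Module F V]

/-- A hyperbolic pair `e, f` together with a vector `w` of norm `c ≠ 0` orthogonal to both, spanning `V`. -/
structure Frame (Q : QuadraticForm F V) (e f w : V) (c : F) : Prop where
  he : Q e = 0
  hf : Q f = 0
  hw : Q w = c
  hef : QuadraticMap.polar (⇑Q) e f = 1
  hew : QuadraticMap.polar (⇑Q) e w = 0
  hfw : QuadraticMap.polar (⇑Q) f w = 0
  hc : c ≠ 0
  hspan : ∀ v : V, ∃ γ : F,
    v = QuadraticMap.polar (⇑Q) v f • e + QuadraticMap.polar (⇑Q) v e • f + γ • w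

namespace Frame

variable {Q : QuadraticForm F V} {e f w : V} {c : F}

theorem hfe (h : Frame Q e f w c) : QuadraticMap.polar (⇑Q) f e = 1 := by
  rw [QuadraticMap.polar_comm, h.hef]

theorem hwe (h : Frame Q e f w c) : QuadraticMap.polar (⇑Q) w e = 0 := by
  rw [QuadraticMap.polar_comm, h.hew]

theorem hwf (h : Frame Q e f w c) : QuadraticMap.polar (⇑Q) w f = 0 := by
  rw [QuadraticMap.polar_comm, h.hfw]

theorem hee (h : Frame Q e f w c) : QuadraticMap.polar (⇑Q) e e = 0 := by
  rw [Cfsg.Agent.Lib.Helper44_QuadClass.polar_self', h.he, mul_zero]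

theorem hff (h : Frame Q e f w c) : QuadraticMap.polar (⇑Q) f f = 0 := by
  rw [Cfsg.Agent.Lib.Helper44_QuadClass.polar_self', h.hf, mul_zero]

theorem hww (h : Frame Q e f w c) : QuadraticMap.polar (⇑Q) w w = 2 * c := by
  rw [Cfsg.Agent.Lib.Helper44_QuadClass.polar_self', h.hw]

/-- the value of `Q` on a combination -/
theorem Q_comb (h : Frame Q e f w c) (α β γ : F) :
    Q (α • e + β • f + γ • w) = α * β + γ * γ * c := by
  rw [QuadraticMap.map_add (⇑Q), QuadraticMap.map_add (⇑Q), QuadraticMap.map_smul,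
    QuadraticMap.map_smul, QuadraticMap.map_smul, h.he, h.hf, h.hw,
    QuadraticMap.polar_add_left, QuadraticMap.polar_smul_left, QuadraticMap.polar_smul_left,
    QuadraticMap.polar_smul_right, QuadraticMap.polar_smul_right, QuadraticMap.polar_smul_right,
    QuadraticMap.polar_smul_left, h.hef, h.hew, h.hfw]
  simp only [smul_eq_mul]
  ring

theorem polar_comb_e (h : Frame Q e f w c) (α β γ : F) :
    QuadraticMap.polar (⇑Q) (α • e + β • f + γ • w) e = β := by
  rw [QuadraticMap.polar_add_left, QuadraticMap.polar_add_left, QuadraticMap.polar_smul_left,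
    QuadraticMap.polar_smul_left, QuadraticMap.polar_smul_left, h.hee, h.hfe, h.hwe]
  simp only [smul_eq_mul]
  ring

theorem polar_comb_f (h : Frame Q e f w c) (α β γ : F) :
    QuadraticMap.polar (⇑Q) (α • e + β • f + γ • w) f = α := by
  rw [QuadraticMap.polar_add_left, QuadraticMap.polar_add_left, QuadraticMap.polar_smul_left,
    QuadraticMap.polar_smul_left, QuadraticMap.polar_smul_left, h.hef, h.hff, h.hwf]
  simp only [smul_eq_mul]
  ring

theorem polar_comb_w (h : Frame Q e f w c) (α β γ : F) :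
    QuadraticMap.polar (⇑Q) (α • e + β • f + γ • w) w = 2 * c * γ := by
  rw [QuadraticMap.polar_add_left, QuadraticMap.polar_add_left, QuadraticMap.polar_smul_left,
    QuadraticMap.polar_smul_left, QuadraticMap.polar_smul_left, h.hew, h.hfw, h.hww]
  simp only [smul_eq_mul]
  ring

/-- uniqueness of coordinates -/
theorem comb_eq_zero (h : Frame Q e f w c) (h2 : (2 : F) ≠ 0) {α β γ : F}
    (h0 : α • e + β • f + γ • w = 0) : α = 0 ∧ β = 0 ∧ γ = 0 := by
  have h1 := h.polar_comb_f α β γ
  have h2' := h.polar_comb_e α β γ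
  have h3 := h.polar_comb_w α β γ
  rw [h0, QuadraticMap.polar_zero_left] at h1 h2' h3
  refine ⟨h1.symm, h2'.symm, ?_⟩
  have : 2 * c ≠ 0 := mul_ne_zero h2 h.hc
  exact (mul_eq_zero.mp h3.symm).resolve_left this

/-- the affine singular vectors -/
def pt (_h : Frame Q e f w c) (s : F) : V := (-(c * s * s)) • e + (1 : F) • f + s • w

theorem Q_pt (h : Frame Q e f w c) (s : F) : Q (h.pt s) = 0 := by
  rw [pt, h.Q_comb]; ring

theorem polar_pt_e (h : Frame Q e f w c) (s : F) : QuadraticMap.polar (⇑Q) (h.pt s) e = 1 := by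
  rw [pt, h.polar_comb_e]

theorem polar_pt_w (h : Frame Q e f w c) (s : F) :
    QuadraticMap.polar (⇑Q) (h.pt s) w = 2 * c * s := by
  rw [pt, h.polar_comb_w]

theorem pt_ne_zero (h : Frame Q e f w c) (s : F) : h.pt s ≠ 0 := by
  intro h0
  have := h.polar_pt_e s
  rw [h0, QuadraticMap.polar_zero_left] at this
  exact zero_ne_one this

theorem e_ne_zero (h : Frame Q e f w c) : e ≠ 0 := by
  intro h0
  have := h.hef
  rw [h0, QuadraticMap.polar_zero_left] at this
  exact zero_ne_one this

theorem polar_e_smul_w (h : Frame Q e f w c) (t : F) :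
    QuadraticMap.polar (⇑Q) e (t • w) = 0 := by
  rw [QuadraticMap.polar_smul_right, h.hew, smul_zero]

/-- the unipotent elements fix `e` -/
theorem E_e (h : Frame Q e f w c) (t : F) : E Q e (t • w) e = e := by
  rw [E_apply Q h.he (h.polar_e_smul_w t), h.hee, h.polar_e_smul_w]
  simp

/-- the unipotent elements translate the affine singular vectors -/
theorem E_pt (h : Frame Q e f w c) (s t : F) : E Q e (t • w) (h.pt s) = h.pt (s + t) := by
  rw [E_apply Q h.he (h.polar_e_smul_w t), h.polar_pt_e, QuadraticMap.polar_smul_right,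
    h.polar_pt_w, QuadraticMap.map_smul, h.hw]
  simp only [pt, smul_eq_mul]
  module

/-- classification of the singular vectors -/
theorem singular_cases (h : Frame Q e f w c) {v : V} (hv : Q v = 0) :
    (∃ a : F, v = a • e) ∨ ∃ b s : F, b ≠ 0 ∧ v = b • h.pt s := by
  obtain ⟨γ, hγ⟩ := h.hspan v
  set α := QuadraticMap.polar (⇑Q) v f with hα
  set β := QuadraticMap.polar (⇑Q) v e with hβ
  have hQ : α * β + γ * γ * c = 0 := by
    rw [← h.Q_comb, ← hγ, hv]
  by_cases hb : β = 0
  · left
    rw [hb, mul_zero, zero_add] at hQ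
    have hγ0 : γ = 0 := by
      rcases mul_eq_zero.mp hQ with h1 | h1
      · exact mul_self_eq_zero.mp h1
      · exact absurd h1 h.hc
    refine ⟨α, ?_⟩
    rw [hγ, hb, hγ0]
    simp
  · right
    refine ⟨β, γ / β, hb, ?_⟩
    have hα' : α = -(c * (γ / β) * (γ / β)) * β := by
      field_simp
      linear_combination hQ
    rw [pt, smul_add, smul_add, smul_smul, smul_smul, smul_smul, mul_one, mul_div_cancel₀ _ hb,
      mul_comm β, ← hα']
    exact hγ

end Frame

/-- existence of a frame through a given singular vector (dimension three, odd characteristic) -/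
theorem exists_frame [FiniteDimensional F V] (Q : QuadraticForm F V)
    (hQ : (QuadraticMap.polarBilin Q).Nondegenerate) (hdim : finrank F V = 3)
    {e : V} (he0 : e ≠ 0) (he : Q e = 0) : ∃ (f w : V) (c : F), Frame Q e f w c := by
  obtain ⟨f, hf, hef⟩ := Cfsg.Agent.Lib.Helper44_QuadClass.exists_hyperbolic_partner Q hQ he0 he
  have hfe : QuadraticMap.polar (⇑Q) f e = 1 := by rw [QuadraticMap.polar_comm, hef]
  have hee : QuadraticMap.polar (⇑Q) e e = 0 := by
    rw [Cfsg.Agent.Lib.Helper44_QuadClass.polar_self', he, mul_zero]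
  have hff : QuadraticMap.polar (⇑Q) f f = 0 := by
    rw [Cfsg.Agent.Lib.Helper44_QuadClass.polar_self', hf, mul_zero]
  have hfin := Cfsg.Agent.Lib.Helper44_QuadClass.finrank_perp (Q := Q) he hf hef
  have h1 : finrank F (Cfsg.Agent.Lib.Helper44_QuadClass.perp Q e f) = 1 := by omega
  obtain ⟨w', hw'0, hw'⟩ := finrank_eq_one_iff'.mp h1
  have hwmem := (Cfsg.Agent.Lib.Helper44_QuadClass.mem_perp Q e f).mp w'.2
  have hw0 : (w' : V) ≠ 0 := fun h => hw'0 (Subtype.ext h)
  have hspan : ∀ v : V, ∃ γ : F,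
      v = QuadraticMap.polar (⇑Q) v f • e + QuadraticMap.polar (⇑Q) v e • f + γ • (w' : V) := by
    intro v
    have hmem : v - QuadraticMap.polar (⇑Q) v f • e - QuadraticMap.polar (⇑Q) v e • f ∈
        Cfsg.Agent.Lib.Helper44_QuadClass.perp Q e f := by
      rw [Cfsg.Agent.Lib.Helper44_QuadClass.mem_perp]
      constructor
      · rw [QuadraticMap.polar_sub_right, QuadraticMap.polar_sub_right,
          QuadraticMap.polar_smul_right, QuadraticMap.polar_smul_right, hee, hef,
          QuadraticMap.polar_comm (⇑Q) e v]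
        simp
      · rw [QuadraticMap.polar_sub_right, QuadraticMap.polar_sub_right,
          QuadraticMap.polar_smul_right, QuadraticMap.polar_smul_right, hfe, hff,
          QuadraticMap.polar_comm (⇑Q) f v]
        simp
    obtain ⟨γ, hγ⟩ := hw' ⟨_, hmem⟩
    refine ⟨γ, ?_⟩
    have := congrArg Subtype.val hγ
    simp only [Submodule.coe_smul] at this
    rw [this]
    abel
  have hQw : Q (w' : V) ≠ 0 := by
    intro h0
    apply hw0
    apply hQ.1
    intro v
    obtain ⟨γ, hγ⟩ := hspan v
    rw [QuadraticMap.polarBilin_apply_apply, hγ, QuadraticMap.polar_add_right,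
      QuadraticMap.polar_add_right, QuadraticMap.polar_smul_right, QuadraticMap.polar_smul_right,
      QuadraticMap.polar_smul_right, QuadraticMap.polar_comm (⇑Q) (w' : V) e, hwmem.1,
      QuadraticMap.polar_comm (⇑Q) (w' : V) f, hwmem.2,
      Cfsg.Agent.Lib.Helper44_QuadClass.polar_self', h0]
    simp
  exact ⟨f, w', Q (w' : V), ⟨he, hf, rfl, hef, hwmem.1, hwmem.2, hQw, hspan⟩⟩

/-- the action of a group of linear automorphisms on the subspaces -/
@[reducible] def subAction (M : Subgroup (V ≃ₗ[F] V)) : MulAction ↥M (Submodule F V) where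
  smul m W := W.map ((m : V ≃ₗ[F] V) : V →ₗ[F] V)
  one_smul W := by
    show W.map (((1 : ↥M) : V ≃ₗ[F] V) : V →ₗ[F] V) = W
    have : (((1 : ↥M) : V ≃ₗ[F] V) : V →ₗ[F] V) = LinearMap.id := rfl
    rw [this, Submodule.map_id]
  mul_smul m n W := by
    show W.map (((m * n : ↥M) : V ≃ₗ[F] V) : V →ₗ[F] V) =
      (W.map ((n : V ≃ₗ[F] V) : V →ₗ[F] V)).map ((m : V ≃ₗ[F] V) : V →ₗ[F] V)
    rw [← Submodule.map_comp]
    rfl

theorem subAction_span (M : Subgroup (V ≃ₗ[F] V)) (m : ↥M) (v : V) :
    (subAction M).smul m (Submodule.span F {v}) = Submodule.span F {(m : V ≃ₗ[F] V) v} := by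
  show (Submodule.span F {v}).map ((m : V ≃ₗ[F] V) : V →ₗ[F] V) = _
  rw [Submodule.map_span, Set.image_singleton]
  rfl

variable [Fintype F] [FiniteDimensional F V]

/-- the key step: `M` fixes every singular point -/
theorem fix_point (h2 : (2 : F) ≠ 0) (Q : QuadraticForm F V)
    (hQ : (QuadraticMap.polarBilin Q).Nondegenerate) (hdim : finrank F V = 3)
    (M : Subgroup (V ≃ₗ[F] V)) (hM : M ≤ TE Q) (hnorm : ∀ t ∈ TE Q, ∀ m ∈ M, t * m * t⁻¹ ∈ M)
    (hodd : Odd (Nat.card M)) {e : V} (he0 : e ≠ 0) (he : Q e = 0) :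
    ∀ m ∈ M, ∃ a : F, m e = a • e := by
  obtain ⟨f, w, c, hfr⟩ := exists_frame Q hQ hdim he0 he
  by_contra hcon
  push Not at hcon
  obtain ⟨m₀, hm₀, hm₀e⟩ := hcon
  have hoG : ∀ m ∈ M, ∀ v, Q (m v) = Q v := fun m hm => TE_le_oG Q (hM hm)
  -- `m₀ e` is an affine singular vector
  obtain ⟨b, s₀, hb, hbs⟩ : ∃ b s : F, b ≠ 0 ∧ m₀ e = b • hfr.pt s := by
    rcases hfr.singular_cases (v := m₀ e) (by rw [hoG m₀ hm₀, he]) with ⟨a, ha⟩ | h
    · exact absurd ha (hm₀e a)
    · exact h
  let _ : MulAction ↥M (Submodule F V) := subAction M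
  -- the points
  let g : Option F → Submodule F V := fun o =>
    match o with
    | none => Submodule.span F {e}
    | some t => Submodule.span F {hfr.pt t}
  have hginj : Function.Injective g := by
    intro o o' hoo'
    rcases o with _ | s <;> rcases o' with _ | t
    · rfl
    · exfalso
      have hmem : hfr.pt t ∈ Submodule.span F {e} := by
        show hfr.pt t ∈ g none
        rw [hoo']
        exact Submodule.mem_span_singleton_self _
      obtain ⟨a, ha⟩ := Submodule.mem_span_singleton.mp hmem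
      have := hfr.polar_pt_e t
      rw [← ha, QuadraticMap.polar_smul_left, hfr.hee, smul_zero] at this
      exact zero_ne_one this
    · exfalso
      have hmem : hfr.pt s ∈ Submodule.span F {e} := by
        show hfr.pt s ∈ g none
        rw [← hoo']
        exact Submodule.mem_span_singleton_self _
      obtain ⟨a, ha⟩ := Submodule.mem_span_singleton.mp hmem
      have := hfr.polar_pt_e s
      rw [← ha, QuadraticMap.polar_smul_left, hfr.hee, smul_zero] at this
      exact zero_ne_one this
    · have hmem : hfr.pt s ∈ Submodule.span F {hfr.pt t} := by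
        show hfr.pt s ∈ g (some t)
        rw [← hoo']
        exact Submodule.mem_span_singleton_self _
      obtain ⟨a, ha⟩ := Submodule.mem_span_singleton.mp hmem
      have h1 := hfr.polar_pt_e s
      rw [← ha, QuadraticMap.polar_smul_left, hfr.polar_pt_e, smul_eq_mul, mul_one] at h1
      rw [h1, one_smul] at ha
      have h3 := hfr.polar_pt_w s
      rw [← ha, hfr.polar_pt_w] at h3
      have h4 : 2 * c ≠ 0 := mul_ne_zero h2 hfr.hc
      have : t = s := mul_left_cancel₀ h4 h3
      rw [this]
  have horb : MulAction.orbit ↥M (Submodule.span F {e}) = Set.range g := by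
    ext W
    constructor
    · rintro ⟨m, rfl⟩
      have hme : (fun x : ↥M => x • Submodule.span F {e}) m =
          Submodule.span F {(m : V ≃ₗ[F] V) e} := subAction_span M m e
      rw [hme]
      rcases hfr.singular_cases (v := (m : V ≃ₗ[F] V) e) (by rw [hoG m.1 m.2, he]) with
        ⟨a, ha⟩ | ⟨b', s, hb', hbs'⟩
      · have ha0 : a ≠ 0 := by
          intro h0
          rw [h0, zero_smul] at ha
          exact he0 ((LinearEquiv.map_eq_zero_iff _).mp ha)
        refine ⟨none, ?_⟩
        show Submodule.span F {e} = _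
        rw [ha, Submodule.span_singleton_smul_eq (IsUnit.mk0 a ha0)]
      · refine ⟨some s, ?_⟩
        show Submodule.span F {hfr.pt s} = _
        rw [hbs', Submodule.span_singleton_smul_eq (IsUnit.mk0 b' hb')]
    · rintro ⟨o, rfl⟩
      rcases o with _ | t
      · exact MulAction.mem_orbit_self _
      · -- conjugate `m₀` by a unipotent element
        have hxTE : E Q e ((t - s₀) • w) ∈ TE Q := E_mem_TE Q hfr.he (hfr.polar_e_smul_w _)
        refine ⟨⟨E Q e ((t - s₀) • w) * m₀ * (E Q e ((t - s₀) • w))⁻¹, hnorm _ hxTE m₀ hm₀⟩, ?_⟩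
        have hme := subAction_span M
          ⟨E Q e ((t - s₀) • w) * m₀ * (E Q e ((t - s₀) • w))⁻¹, hnorm _ hxTE m₀ hm₀⟩ e
        show (subAction M).smul _ _ = _
        rw [hme]
        show Submodule.span F {(E Q e ((t - s₀) • w) * m₀ * (E Q e ((t - s₀) • w))⁻¹) e} =
          Submodule.span F {hfr.pt t}
        have hinv : (E Q e ((t - s₀) • w))⁻¹ e = e := by
          have := hfr.E_e (t - s₀)
          calc (E Q e ((t - s₀) • w))⁻¹ e
              = (E Q e ((t - s₀) • w))⁻¹ (E Q e ((t - s₀) • w) e) := by rw [this]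
            _ = e := by
              rw [← LinearEquiv.mul_apply, inv_mul_cancel, LinearEquiv.coe_one, id_eq]
        rw [LinearEquiv.mul_apply, LinearEquiv.mul_apply, hinv, hbs, map_smul, hfr.E_pt,
          add_sub_cancel, Submodule.span_singleton_smul_eq (IsUnit.mk0 b hb)]
  -- counting
  have hcard : (MulAction.orbit ↥M (Submodule.span F {e})).ncard = Fintype.card F + 1 := by
    rw [horb, ← Nat.card_coe_set_eq, ← Nat.card_congr (Equiv.ofInjective g hginj),
      Nat.card_eq_fintype_card, Fintype.card_option]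
  have hdvd : Fintype.card F + 1 ∣ Nat.card M := by
    rw [← hcard, ← MulAction.index_stabilizer]
    exact Subgroup.index_dvd_card _
  have hFodd : Fintype.card F % 2 = 1 := by
    apply FiniteField.odd_card_of_char_ne_two
    intro h
    apply h2
    have : ((2 : ℕ) : F) = 0 := by rw [← h]; exact ringChar.Nat.cast_ringChar
    exact_mod_cast this
  have h2dvd : 2 ∣ Nat.card M := dvd_trans (by omega) hdvd
  rcases hodd with ⟨k, hk⟩
  omega

/-- BAL-A2: in dimension three `TE Q` (`≅ PSL₂(q)`, `q` odd) has no non-trivial normal subgroup of odd order. -/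
theorem A2 (h2 : (2 : F) ≠ 0) (Q : QuadraticForm F V)
    (hQ : (QuadraticMap.polarBilin Q).Nondegenerate) (hdim : finrank F V = 3)
    (M : Subgroup (V ≃ₗ[F] V)) (hM : M ≤ TE Q) (hnorm : ∀ t ∈ TE Q, ∀ m ∈ M, t * m * t⁻¹ ∈ M)
    (hodd : Odd (Nat.card M)) : M = ⊥ := by
  obtain ⟨e, he0, he⟩ := Cfsg.Agent.Lib.Helper44_QuadClass.exists_singular Q (by omega : 3 ≤ finrank F V)
  obtain ⟨f, w, c, hfr⟩ := exists_frame Q hQ hdim he0 he
  have hfix : ∀ u : V, u ≠ 0 → Q u = 0 → ∀ m ∈ M, ∃ a : F, m u = a • u :=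
    fun u hu0 hu => fix_point h2 Q hQ hdim M hM hnorm hodd hu0 hu
  have hoG : ∀ m ∈ M, ∀ v, Q (m v) = Q v := fun m hm => TE_le_oG Q (hM hm)
  rw [Subgroup.eq_bot_iff_forall]
  intro m hm
  obtain ⟨a, ha⟩ := hfix e he0 he m hm
  have hf0 : f ≠ 0 := by
    intro h0
    have := hfr.hef
    rw [h0, QuadraticMap.polar_zero_right] at this
    exact zero_ne_one this
  obtain ⟨b, hb⟩ := hfix f hf0 hfr.hf m hm
  obtain ⟨μ, hμ⟩ := hfix (hfr.pt 1) (hfr.pt_ne_zero 1) (hfr.Q_pt 1) m hm
  obtain ⟨ν, hν⟩ := hfix (hfr.pt (-1)) (hfr.pt_ne_zero (-1)) (hfr.Q_pt (-1)) m hm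
  -- `pt 1 + pt (-1) = 2 f - 2 c e`
  have hsum : hfr.pt 1 + hfr.pt (-1) = (-(2 * c)) • e + (2 : F) • f := by
    simp only [Frame.pt]
    module
  have hrel : μ • hfr.pt 1 + ν • hfr.pt (-1) = (-(2 * c) * a) • e + (2 * b) • f := by
    rw [← hμ, ← hν, ← map_add, hsum, map_add, map_smul, map_smul, ha, hb, smul_smul, smul_smul]
  have hrel' : (-(c * μ) - c * ν + 2 * c * a) • e + (μ + ν - 2 * b) • f + (μ - ν) • w = 0 := by
    have := sub_eq_zero.mpr hrel
    simp only [Frame.pt] at this
    rw [← this]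
    module
  obtain ⟨h1, h3, h4⟩ := hfr.comb_eq_zero h2 hrel'
  have hμν : μ = ν := sub_eq_zero.mp h4
  have hbμ : b = μ := by
    have : 2 * (μ - b) = 0 := by rw [hμν] at h3 ⊢; linear_combination h3
    have := (mul_eq_zero.mp this).resolve_left h2
    exact (sub_eq_zero.mp this).symm
  have haμ : a = μ := by
    have : 2 * c * (a - μ) = 0 := by rw [hμν] at h1 ⊢; linear_combination h1
    have := (mul_eq_zero.mp this).resolve_left (mul_ne_zero h2 hfr.hc)
    exact sub_eq_zero.mp this
  -- `m w = μ w`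
  have hw : m w = μ • w := by
    have hwdec : w = hfr.pt 1 + c • e - f := by
      simp only [Frame.pt]
      module
    calc m w = m (hfr.pt 1 + c • e - f) := by rw [← hwdec]
      _ = μ • hfr.pt 1 + c • (μ • e) - μ • f := by
        rw [map_sub, map_add, map_smul, hμ, ha, hb, haμ, hbμ]
      _ = μ • w := by
        simp only [Frame.pt]
        module
  -- `m` is the scalar `μ`
  have hscal : ∀ v : V, m v = μ • v := by
    intro v
    obtain ⟨γ, hγ⟩ := hfr.hspan v
    rw [hγ, map_add, map_add, map_smul, map_smul, map_smul, ha, hb, hw, haμ, hbμ]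
    module
  -- `μ² = 1`
  have hμ2 : μ * μ = 1 := by
    have := hoG m hm w
    rw [hw, QuadraticMap.map_smul, hfr.hw, smul_eq_mul] at this
    have hc := hfr.hc
    exact mul_right_cancel₀ hc (by rw [this, one_mul])
  have hμ1 : μ = 1 ∨ μ = -1 := by
    have : (μ - 1) * (μ + 1) = 0 := by linear_combination hμ2
    rcases mul_eq_zero.mp this with h | h
    · left; exact sub_eq_zero.mp h
    · right; exact eq_neg_of_add_eq_zero_left h
  rcases hμ1 with h | h
  · ext v
    rw [hscal v, h, one_smul, LinearEquiv.coe_one, id_eq]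
  · -- `m = -1` has order two
    exfalso
    have hm2 : m * m = 1 := by
      ext v
      rw [LinearEquiv.mul_apply, hscal, hscal, smul_smul, hμ2, one_smul, LinearEquiv.coe_one, id_eq]
    have hm1 : m ≠ 1 := by
      intro h1
      have := hscal e
      rw [h1, LinearEquiv.coe_one, id_eq, h] at this
      have h5 : (2 : F) • e = 0 := by
        rw [two_smul]
        nth_rewrite 1 [this]
        simp
      rcases smul_eq_zero.mp h5 with h6 | h6
      · exact h2 h6
      · exact he0 h6
    have hord : orderOf (⟨m, hm⟩ : ↥M) = 2 := by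
      apply orderOf_eq_prime
      · apply Subtype.ext
        show m ^ 2 = 1
        rw [pow_two, hm2]
      · intro h1
        exact hm1 (congrArg Subtype.val h1)
    have hdvd : 2 ∣ Nat.card M := by
      rw [← hord]
      exact orderOf_dvd_natCard _
    rcases hodd with ⟨k, hk⟩
    omega

end Cfsg.Agent.Lib.Helper82_Bal_A2
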