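import Mathlib
import Cfsg.Agent.Lib.Helper10_Bal_A1
import Cfsg.Agent.Lib.Helper10_Bal_A4
import Cfsg.Agent.Lib.Helper58_Bal_A3i
import Cfsg.Agent.Lib.Helper82_Bal_A2
import Cfsg.Agent.Lib.Helper52_Bal_A3
import Cfsg.Agent.Lib.Helper14_BalDefs

/-!
# The leaf lemmas of the balance argument (packages BAL-*), gathered (helper14)

The packages were proved by helper10 (A1, A4), helper82 (A2), helper52 (A3), helper58 (A3i).
-/

set_option autoImplicit false

namespace Cfsg.Agent.Lib.Helper14_BalLeaves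

open Module Cfsg Cfsg.Agent.Lib.Helper94_OrthSmall Cfsg.Agent.Lib.Helper14_OmegaSimple
  Cfsg.Agent.Lib.Helper14_BalDefs

section abstract

variable {F V : Type*} [Field F] [AddCommGroup V] [Module F V]

theorem TE_eq_bot_of_finrank_one (h2 : (2 : F) ≠ 0) (Q : QuadraticForm F V)
    (hQ : (QuadraticMap.polarBilin Q).Nondegenerate) (hdim : finrank F V = 1) : TE Q = ⊥ :=
  Cfsg.Agent.Lib.Helper10_Bal_A1.A1 h2 Q hQ hdim

variable [Fintype F] [FiniteDimensional F V]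

/-- `TE Q` has no non-trivial normal subgroup of odd order, in odd dimension over a finite field of
odd characteristic. -/
theorem no_odd_normal (h2 : (2 : F) ≠ 0) (Q : QuadraticForm F V)
    (hQ : (QuadraticMap.polarBilin Q).Nondegenerate) (hdim : Odd (finrank F V))
    (M : Subgroup (V ≃ₗ[F] V)) (hM : M ≤ TE Q) (hnorm : ∀ t ∈ TE Q, ∀ m ∈ M, t * m * t⁻¹ ∈ M)
    (hodd : Odd (Nat.card M)) : M = ⊥ := by
  obtain ⟨k, hk⟩ := hdim
  rcases Nat.lt_or_ge k 1 with h0 | h1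
  · have h1 : finrank F V = 1 := by omega
    rw [eq_bot_iff, ← TE_eq_bot_of_finrank_one h2 Q hQ h1]
    exact hM
  · rcases Nat.lt_or_ge k 2 with h3 | h5
    · exact Cfsg.Agent.Lib.Helper82_Bal_A2.A2 h2 Q hQ (by omega) M hM hnorm hodd
    · exact Cfsg.Agent.Lib.Helper52_Bal_A3.A3 h2 Q hQ (by omega)
        (Cfsg.Agent.Lib.Helper58_Bal_A3i.A3i h2 Q hQ (by omega)) M hM hnorm hodd

theorem scalar_of_comm (h2 : (2 : F) ≠ 0) (Q : QuadraticForm F V)
    (hQ : (QuadraticMap.polarBilin Q).Nondegenerate) (hdim : 3 ≤ finrank F V)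
    (g : V ≃ₗ[F] V) (hsim : ∃ μ : F, ∀ v, Q (g v) = μ * Q v)
    (hcomm : ∀ u z : V, Q u = 0 → QuadraticMap.polar (⇑Q) u z = 0 → g * E Q u z = E Q u z * g) :
    ∃ l : F, ∀ x, g x = l • x :=
  Cfsg.Agent.Lib.Helper10_Bal_A4.A4 h2 Q hQ hdim g hsim hcomm

end abstract

end Cfsg.Agent.Lib.Helper14_BalLeaves
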