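import Mathlib
import Cfsg.Agent.Lib.Helper14_AutOmega
import Cfsg.Agent.Lib.Helper14_CentOmega
import Cfsg.Agent.Lib.Helper14_OrthChars
import Cfsg.Agent.Lib.Helper14_NegOne

set_option autoImplicit false

/-!
Characters of the similarity group `GO(Q)` of a non-degenerate quadratic form in even dimension over a finite
field of odd order: the multiplier, the quadratic character of the multiplier, and the sign `det / μ^m`.
The joint kernel of the last two is `SO(Q)·Z` (helper14).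
-/

namespace Cfsg.Agent.Lib.Helper14_GOChars

open Cfsg Matrix Cfsg.Agent.Lib.Helper44_Orth Cfsg.Agent.Lib.Helper14_AutOmega

section mu

variable {ι : Type} [Fintype ι] [DecidableEq ι] {F : Type*} [Field F] (Q : (ι → F) → F)

/-- The multiplier of a similarity. -/
noncomputable def mu (g : ↥(GO Q)) : Fˣ := Classical.choose g.2

theorem mu_spec (g : ↥(GO Q)) (v : ι → F) :
    Q (((g : GL ι F) : Matrix ι ι F) *ᵥ v) = (mu Q g : F) * Q v :=
  Classical.choose_spec g.2 v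

theorem mu_eq (hne : ∃ v, Q v ≠ 0) (g : ↥(GO Q)) (c : Fˣ)
    (hc : ∀ v, Q (((g : GL ι F) : Matrix ι ι F) *ᵥ v) = (c : F) * Q v) : mu Q g = c := by
  obtain ⟨v, hv⟩ := hne
  have := (mu_spec Q g v).symm.trans (hc v)
  exact Units.ext (mul_right_cancel₀ hv this)

/-- The multiplier, as a homomorphism. -/
noncomputable def muHom (hne : ∃ v, Q v ≠ 0) : ↥(GO Q) →* Fˣ :=
  MonoidHom.mk' (mu Q) (by
    intro g h
    apply mu_eq Q hne
    intro v
    rw [Subgroup.coe_mul, Units.val_mul, ← Matrix.mulVec_mulVec, mu_spec Q, mu_spec Q, Units.val_mul,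
      mul_assoc])

theorem muHom_apply (hne : ∃ v, Q v ≠ 0) (g : ↥(GO Q)) : muHom Q hne g = mu Q g := rfl

theorem mu_of_isometry (hne : ∃ v, Q v ≠ 0) (g : ↥(GO Q))
    (hg : (g : GL ι F) ∈ isometryGroup F Q) : mu Q g = 1 := by
  apply mu_eq Q hne
  intro v
  rw [(mem_isometryGroup_iff Q _).mp hg v, Units.val_one, one_mul]

theorem isometry_of_mu (g : ↥(GO Q)) (hg : mu Q g = 1) : (g : GL ι F) ∈ isometryGroup F Q := by
  rw [mem_isometryGroup_iff]
  intro v
  rw [mu_spec Q, hg, Units.val_one, one_mul]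

end mu

section quad

variable {ι : Type} [Fintype ι] [DecidableEq ι] {F : Type*} [Field F] (Q : QuadraticForm F (ι → F))

theorem polar_mulVec (g : ↥(GO (⇑Q))) (u v : ι → F) :
    QuadraticMap.polar (⇑Q) (((g : GL ι F) : Matrix ι ι F) *ᵥ u)
      (((g : GL ι F) : Matrix ι ι F) *ᵥ v) = (mu (⇑Q) g : F) * QuadraticMap.polar (⇑Q) u v := by
  unfold QuadraticMap.polar
  rw [← Matrix.mulVec_add, mu_spec (⇑Q), mu_spec (⇑Q), mu_spec (⇑Q)]
  ring

/-- `det(g)² = μ(g)^n` for a similarity of a non-degenerate form. -/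
theorem det_sq (hQ : (QuadraticMap.polarBilin Q).Nondegenerate) (g : ↥(GO (⇑Q))) :
    ((g : GL ι F) : Matrix ι ι F).det ^ 2 = (mu (⇑Q) g : F) ^ Fintype.card ι := by
  set B : LinearMap.BilinForm F (ι → F) := QuadraticMap.polarBilin Q with hB
  set M : Matrix ι ι F := ((g : GL ι F) : Matrix ι ι F) with hM
  have hcomp : B.comp (Matrix.toLin' M) (Matrix.toLin' M) = (mu (⇑Q) g : F) • B := by
    refine LinearMap.ext₂ (fun u v => ?_)
    simp only [LinearMap.BilinForm.comp_apply, Matrix.toLin'_apply, LinearMap.smul_apply, smul_eq_mul]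
    exact polar_mulVec Q g _ _
  have h1 := congrArg LinearMap.BilinForm.toMatrix' hcomp
  rw [LinearMap.BilinForm.toMatrix'_comp, LinearMap.toMatrix'_toLin', map_smul] at h1
  have h2 := congrArg Matrix.det h1
  rw [Matrix.det_mul, Matrix.det_mul, Matrix.det_transpose, Matrix.det_smul] at h2
  have hdet : (LinearMap.BilinForm.toMatrix' B).det ≠ 0 := by
    rw [← Matrix.nondegenerate_iff_det_ne_zero, LinearMap.BilinForm.nondegenerate_toMatrix'_iff]
    exact hQ
  have h3 : (M.det ^ 2 - (mu (⇑Q) g : F) ^ Fintype.card ι) * (LinearMap.BilinForm.toMatrix' B).det = 0 := by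
    linear_combination h2
  rcases mul_eq_zero.mp h3 with h | h
  · exact sub_eq_zero.mp h
  · exact absurd h hdet

end quad

section chars

open Cfsg.Agent.Lib.Helper14_OrthChars Cfsg.Agent.Lib.Helper44_Refl

variable {ι : Type} [Fintype ι] [DecidableEq ι] {F : Type*} [Field F]

/-- Scalar matrices as similarities. -/
def scalarGO (Q : QuadraticForm F (ι → F)) (r : Fˣ) : ↥(GO (⇑Q)) :=
  ⟨Units.map (Matrix.scalar ι : F →+* Matrix ι ι F).toMonoidHom r, by
    refine ⟨r * r, fun v => ?_⟩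
    have : ((Units.map (Matrix.scalar ι : F →+* Matrix ι ι F).toMonoidHom r : GL ι F) :
        Matrix ι ι F) *ᵥ v = (r : F) • v := by
      ext i
      simp [Matrix.mulVec_diagonal]
    rw [this, QuadraticMap.map_smul, Units.val_mul, smul_eq_mul]⟩

theorem scalarGO_coe (Q : QuadraticForm F (ι → F)) (r : Fˣ) :
    (((scalarGO Q r : ↥(GO (⇑Q))) : GL ι F) : Matrix ι ι F) = (r : F) • (1 : Matrix ι ι F) := by
  simp [scalarGO, Matrix.smul_one_eq_diagonal]

theorem scalarGO_mem (Q : QuadraticForm F (ι → F)) (r : Fˣ) :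
    ((scalarGO Q r : ↥(GO (⇑Q))) : GL ι F) ∈ Geo.scalars ι F := ⟨r, rfl⟩

theorem mu_scalarGO (Q : QuadraticForm F (ι → F)) (hne : ∃ v, Q v ≠ 0) (r : Fˣ) :
    mu (⇑Q) (scalarGO Q r) = r * r := by
  apply mu_eq (⇑Q) hne
  intro v
  rw [scalarGO_coe, Matrix.smul_mulVec, Matrix.one_mulVec, QuadraticMap.map_smul, Units.val_mul,
    smul_eq_mul]

theorem det_scalarGO (Q : QuadraticForm F (ι → F)) (r : Fˣ) :
    (((scalarGO Q r : ↥(GO (⇑Q))) : GL ι F) : Matrix ι ι F).det = (r : F) ^ Fintype.card ι := by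
  rw [scalarGO_coe, Matrix.det_smul, Matrix.det_one, mul_one]

variable [Fintype F]

open Classical in
/-- The quadratic character of the multiplier. -/
noncomputable def chiHom (Q : QuadraticForm F (ι → F)) (hne : ∃ v, Q v ≠ 0) : ↥(GO (⇑Q)) →* ℤˣ :=
  (quadraticChar F).toUnitHom.comp (muHom (⇑Q) hne)

theorem chiHom_eq_one_iff (Q : QuadraticForm F (ι → F)) (hne : ∃ v, Q v ≠ 0) (g : ↥(GO (⇑Q))) :
    chiHom Q hne g = 1 ↔ IsSquare ((mu (⇑Q) g : Fˣ) : F) := by
  classical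
  rw [chiHom, MonoidHom.comp_apply, muHom_apply, Units.ext_iff, MulChar.coe_toUnitHom,
    Units.val_one, quadraticChar_one_iff_isSquare (Units.ne_zero _)]

theorem chiHom_eq_neg_one_iff (Q : QuadraticForm F (ι → F)) (hne : ∃ v, Q v ≠ 0) (g : ↥(GO (⇑Q))) :
    chiHom Q hne g = -1 ↔ ¬ IsSquare ((mu (⇑Q) g : Fˣ) : F) := by
  rw [← chiHom_eq_one_iff Q hne g]
  rcases Int.units_eq_one_or (chiHom Q hne g) with h | h <;> simp [h]

theorem det_eq_or (h2 : (2 : F) ≠ 0) (Q : QuadraticForm F (ι → F))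
    (hQ : (QuadraticMap.polarBilin Q).Nondegenerate) {m : ℕ} (hcard : Fintype.card ι = 2 * m)
    (g : ↥(GO (⇑Q))) :
    ((g : GL ι F) : Matrix ι ι F).det = (mu (⇑Q) g : F) ^ m ∨
      ((g : GL ι F) : Matrix ι ι F).det = -(mu (⇑Q) g : F) ^ m := by
  have h := det_sq Q hQ g
  rw [hcard, mul_comm, pow_mul] at h
  exact sq_eq_sq_iff_eq_or_eq_neg.mp h

open Classical in
/-- The sign `det(g) / μ(g)^m` of a similarity in dimension `2m`. -/
noncomputable def sgnHom (h2 : (2 : F) ≠ 0) (Q : QuadraticForm F (ι → F))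
    (hQ : (QuadraticMap.polarBilin Q).Nondegenerate) (hne : ∃ v, Q v ≠ 0) {m : ℕ}
    (hcard : Fintype.card ι = 2 * m) : ↥(GO (⇑Q)) →* ℤˣ :=
  MonoidHom.mk' (fun g => if ((g : GL ι F) : Matrix ι ι F).det = (mu (⇑Q) g : F) ^ m then 1 else -1)
    (by
      intro g h
      have hmul : (((g * h : ↥(GO (⇑Q))) : GL ι F) : Matrix ι ι F).det =
          ((g : GL ι F) : Matrix ι ι F).det * ((h : GL ι F) : Matrix ι ι F).det := by
        rw [← Matrix.det_mul]; rfl
      have hmu : mu (⇑Q) (g * h) = mu (⇑Q) g * mu (⇑Q) h := map_mul (muHom (⇑Q) hne) g h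
      simp only [hmul, hmu, Units.val_mul, mul_pow]
      have hx : ((mu (⇑Q) g : Fˣ) : F) ^ m ≠ 0 := pow_ne_zero _ (Units.ne_zero _)
      have hy : ((mu (⇑Q) h : Fˣ) : F) ^ m ≠ 0 := pow_ne_zero _ (Units.ne_zero _)
      have hxy : ((mu (⇑Q) g : Fˣ) : F) ^ m * ((mu (⇑Q) h : Fˣ) : F) ^ m ≠ 0 := mul_ne_zero hx hy
      have hneg : ∀ z : F, z ≠ 0 → -z ≠ z := by
        intro z hz h
        apply hz
        have : (2 : F) * z = 0 := by linear_combination -h
        rcases mul_eq_zero.mp this with h' | h'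
        · exact absurd h' h2
        · exact h'
      rcases det_eq_or h2 Q hQ hcard g with hg | hg <;>
        rcases det_eq_or h2 Q hQ hcard h with hh | hh
      · simp [hg, hh]
      · rw [hg, hh, if_pos rfl, if_neg (hneg _ hy), mul_neg, if_neg (hneg _ hxy)]
        rfl
      · rw [hg, hh, if_pos rfl, if_neg (hneg _ hx), neg_mul, if_neg (hneg _ hxy)]
        rfl
      · rw [hg, hh, if_neg (hneg _ hx), if_neg (hneg _ hy), neg_mul_neg, if_pos rfl]
        rfl)

open Classical in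
theorem sgnHom_apply (h2 : (2 : F) ≠ 0) (Q : QuadraticForm F (ι → F))
    (hQ : (QuadraticMap.polarBilin Q).Nondegenerate) (hne : ∃ v, Q v ≠ 0) {m : ℕ}
    (hcard : Fintype.card ι = 2 * m) (g : ↥(GO (⇑Q))) :
    sgnHom h2 Q hQ hne hcard g =
      if ((g : GL ι F) : Matrix ι ι F).det = (mu (⇑Q) g : F) ^ m then 1 else -1 := rfl

theorem sgnHom_eq_one_iff (h2 : (2 : F) ≠ 0) (Q : QuadraticForm F (ι → F))
    (hQ : (QuadraticMap.polarBilin Q).Nondegenerate) (hne : ∃ v, Q v ≠ 0) {m : ℕ}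
    (hcard : Fintype.card ι = 2 * m) (g : ↥(GO (⇑Q))) :
    sgnHom h2 Q hQ hne hcard g = 1 ↔
      ((g : GL ι F) : Matrix ι ι F).det = (mu (⇑Q) g : F) ^ m := by
  classical
  rw [sgnHom_apply]
  split_ifs with h
  · simp [h]
  · simp only [h, iff_false]
    decide

end chars

section main

open Cfsg.Agent.Lib.Helper14_OrthChars Cfsg.Agent.Lib.Helper44_Refl Cfsg.Agent.Lib.Helper14_CentOmega

variable {ι : Type} [Fintype ι] [DecidableEq ι] {F : Type*} [Field F] [Fintype F]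

/-- The pair of characters `(χ ∘ μ, det / μ^m)`. -/
noncomputable def psi (h2 : (2 : F) ≠ 0) (Q : QuadraticForm F (ι → F))
    (hQ : (QuadraticMap.polarBilin Q).Nondegenerate) (hne : ∃ v, Q v ≠ 0) {m : ℕ}
    (hcard : Fintype.card ι = 2 * m) : ↥(GO (⇑Q)) →* ℤˣ × ℤˣ :=
  (chiHom Q hne).prod (sgnHom h2 Q hQ hne hcard)

/-- The special orthogonal group inside the similarity group. -/
abbrev SO' (Q : QuadraticForm F (ι → F)) : Subgroup ↥(GO (⇑Q)) :=
  (specialIsometryGL F (⇑Q)).subgroupOf (GO (⇑Q))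

/-- The scalars inside the similarity group. -/
abbrev Z' (Q : QuadraticForm F (ι → F)) : Subgroup ↥(GO (⇑Q)) :=
  (Geo.scalars ι F).subgroupOf (GO (⇑Q))

theorem mem_SO'_iff (Q : QuadraticForm F (ι → F)) (g : ↥(GO (⇑Q))) :
    g ∈ SO' Q ↔ (g : GL ι F) ∈ isometryGroup F (⇑Q) ∧ ((g : GL ι F) : Matrix ι ι F).det = 1 := by
  rw [Subgroup.mem_subgroupOf, specialIsometryGL, Subgroup.mem_inf, Geo.specialLinear,
    MonoidHom.mem_ker]
  constructor
  · rintro ⟨h1, h2⟩
    refine ⟨h1, ?_⟩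
    have := congrArg Units.val h2
    simpa using this
  · rintro ⟨h1, h2⟩
    refine ⟨h1, ?_⟩
    apply Units.ext
    simpa using h2

theorem ker_psi (h2 : (2 : F) ≠ 0) (Q : QuadraticForm F (ι → F))
    (hQ : (QuadraticMap.polarBilin Q).Nondegenerate) (hne : ∃ v, Q v ≠ 0) {m : ℕ}
    (hcard : Fintype.card ι = 2 * m) :
    (psi h2 Q hQ hne hcard).ker = SO' Q ⊔ Z' Q := by
  apply le_antisymm
  · intro g hg
    rw [MonoidHom.mem_ker, psi, MonoidHom.prod_apply, Prod.mk_eq_one] at hg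
    obtain ⟨hchi, hsgn⟩ := hg
    rw [chiHom_eq_one_iff] at hchi
    rw [sgnHom_eq_one_iff] at hsgn
    obtain ⟨r, hr⟩ := hchi
    have hr0 : r ≠ 0 := by
      rintro rfl
      rw [mul_zero] at hr
      exact Units.ne_zero _ hr
    set z := scalarGO Q (Units.mk0 r hr0) with hz
    have hmuz : mu (⇑Q) z = mu (⇑Q) g := by
      rw [hz, mu_scalarGO Q hne]
      apply Units.ext
      rw [Units.val_mul, Units.val_mk0, hr]
    have hgz : g = (g * z⁻¹) * z := by group
    rw [hgz]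
    refine Subgroup.mul_mem_sup ?_ (Subgroup.mem_subgroupOf.mpr (scalarGO_mem Q _))
    rw [mem_SO'_iff]
    constructor
    · apply isometry_of_mu
      have : mu (⇑Q) (g * z⁻¹) = mu (⇑Q) g * (mu (⇑Q) z)⁻¹ := by
        have := map_mul (muHom (⇑Q) hne) g z⁻¹
        rw [map_inv] at this
        exact this
      rw [this, hmuz, mul_inv_cancel]
    · have hdz : (((z : ↥(GO (⇑Q))) : GL ι F) : Matrix ι ι F).det = (mu (⇑Q) g : F) ^ m := by
        rw [hz, det_scalarGO, Units.val_mk0, hcard, mul_comm, pow_mul, hr, pow_two, mul_pow]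
      have h1 : (((g * z⁻¹ : ↥(GO (⇑Q))) : GL ι F) : Matrix ι ι F).det *
          (((z : ↥(GO (⇑Q))) : GL ι F) : Matrix ι ι F).det = ((g : GL ι F) : Matrix ι ι F).det := by
        rw [← Matrix.det_mul, ← Units.val_mul, ← Subgroup.coe_mul, ← hgz]
      rw [hdz, hsgn] at h1
      have hx : ((mu (⇑Q) g : Fˣ) : F) ^ m ≠ 0 := pow_ne_zero _ (Units.ne_zero _)
      exact mul_right_cancel₀ hx (by rw [h1, one_mul])
  · rw [sup_le_iff]
    constructor
    · intro g hg
      rw [mem_SO'_iff] at hg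
      have hmu : mu (⇑Q) g = 1 := mu_of_isometry (⇑Q) hne g hg.1
      rw [MonoidHom.mem_ker, psi, MonoidHom.prod_apply, Prod.mk_eq_one, chiHom_eq_one_iff,
        sgnHom_eq_one_iff, hmu, Units.val_one, one_pow]
      exact ⟨⟨1, by simp⟩, hg.2⟩
    · intro g hg
      obtain ⟨c, hc⟩ := (Geo.mem_scalars_iff _).mp (Subgroup.mem_subgroupOf.mp hg)
      have hgc : g = scalarGO Q c := by
        apply Subtype.ext
        apply Units.ext
        rw [hc, scalarGO_coe]
      rw [MonoidHom.mem_ker, psi, MonoidHom.prod_apply, Prod.mk_eq_one, chiHom_eq_one_iff,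
        sgnHom_eq_one_iff, hgc, mu_scalarGO Q hne, det_scalarGO, Units.val_mul, hcard]
      exact ⟨⟨c, rfl⟩, by ring⟩

theorem psi_refl (h2 : (2 : F) ≠ 0) (Q : QuadraticForm F (ι → F))
    (hQ : (QuadraticMap.polarBilin Q).Nondegenerate) (hne : ∃ v, Q v ≠ 0) {m : ℕ}
    (hcard : Fintype.card ι = 2 * m) (v : ι → F) (hv : Q v ≠ 0) :
    psi h2 Q hQ hne hcard ⟨(refl Q v hv : GL ι F), isometryGroup_le_GO (⇑Q) (refl Q v hv).2⟩ =
      (1, -1) := by
  have hmu : mu (⇑Q) ⟨(refl Q v hv : GL ι F), isometryGroup_le_GO (⇑Q) (refl Q v hv).2⟩ = 1 :=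
    mu_of_isometry (⇑Q) hne _ (refl Q v hv).2
  rw [psi, MonoidHom.prod_apply, Prod.mk.injEq]
  constructor
  · rw [chiHom_eq_one_iff, hmu]
    exact ⟨1, by simp⟩
  · classical
    rw [sgnHom_apply, hmu, Units.val_one, one_pow]
    have : ((refl Q v hv : GL ι F) : Matrix ι ι F).det = -1 := by
      rw [refl_coe, det_reflectionMatrix Q hv]
    simp only [this]
    rw [if_neg (one_ne_neg_one h2).symm]

theorem psi_surjective (h2 : (2 : F) ≠ 0) (Q : QuadraticForm F (ι → F))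
    (hQ : (QuadraticMap.polarBilin Q).Nondegenerate) (hne : ∃ v, Q v ≠ 0) {m : ℕ}
    (hcard : Fintype.card ι = 2 * m)
    (hδ : ∃ g : ↥(GO (⇑Q)), ¬ IsSquare ((mu (⇑Q) g : Fˣ) : F)) :
    Function.Surjective (psi h2 Q hQ hne hcard) := by
  obtain ⟨δ, hδ⟩ := hδ
  obtain ⟨v, hv⟩ := hne
  have hρ := psi_refl h2 Q hQ ⟨v, hv⟩ hcard v hv
  set ρ : ↥(GO (⇑Q)) := ⟨(refl Q v hv : GL ι F), isometryGroup_le_GO (⇑Q) (refl Q v hv).2⟩
  have hδ1 : (psi h2 Q hQ ⟨v, hv⟩ hcard δ).1 = -1 := by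
    rw [psi, MonoidHom.prod_apply]
    exact (chiHom_eq_neg_one_iff Q ⟨v, hv⟩ δ).mpr hδ
  have key : ∀ b : ℤˣ, ∃ g, psi h2 Q hQ ⟨v, hv⟩ hcard g = (-1, b) := by
    intro b
    rcases Int.units_eq_one_or (psi h2 Q hQ ⟨v, hv⟩ hcard δ).2 with h | h <;>
      rcases Int.units_eq_one_or b with rfl | rfl
    · exact ⟨δ, Prod.ext hδ1 h⟩
    · refine ⟨δ * ρ, ?_⟩
      rw [map_mul, hρ]
      exact Prod.ext (by simp [hδ1]) (by simp [h])
    · refine ⟨δ * ρ, ?_⟩
      rw [map_mul, hρ]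
      exact Prod.ext (by simp [hδ1]) (by simp [h])
    · exact ⟨δ, Prod.ext hδ1 h⟩
  rintro ⟨a, b⟩
  rcases Int.units_eq_one_or a with rfl | rfl
  · rcases Int.units_eq_one_or b with rfl | rfl
    · exact ⟨1, map_one _⟩
    · exact ⟨ρ, hρ⟩
  · exact key b

/-- `ℤˣ × ℤˣ` is the elementary abelian group of order four. -/
def unitsEquiv : ℤˣ × ℤˣ ≃* Multiplicative (ZMod 2 × ZMod 2) where
  toFun p := Multiplicative.ofAdd (if p.1 = 1 then 0 else 1, if p.2 = 1 then 0 else 1)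
  invFun x := (if (Multiplicative.toAdd x).1 = 0 then 1 else -1,
    if (Multiplicative.toAdd x).2 = 0 then 1 else -1)
  left_inv := by decide
  right_inv := by decide
  map_mul' := by decide

/-- **`PGO / PSO` is elementary abelian of order four** (as subgroups of `Aut(PΩ)`). -/
theorem exists_hom_pgo_pso (h2 : (2 : F) ≠ 0) (Q : QuadraticForm F (ι → F))
    (hQ : (QuadraticMap.polarBilin Q).Nondegenerate) (hn : 5 ≤ Fintype.card ι) {m : ℕ}
    (hcard : Fintype.card ι = 2 * m)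
    (hδ : ∃ g : ↥(GO (⇑Q)), ¬ IsSquare ((mu (⇑Q) g : Fˣ) : F)) :
    ∃ φ : ↥(pgoAut F (⇑Q)) →* Multiplicative (ZMod 2 × ZMod 2), Function.Surjective φ ∧
      φ.ker = (psoAut F (⇑Q)).subgroupOf (pgoAut F (⇑Q)) := by
  have hne : ∃ v, Q v ≠ 0 := by
    obtain ⟨v, hv⟩ := exists_norm_eq h2 Q hQ (by omega) 1
    exact ⟨v, by rw [hv]; exact one_ne_zero⟩
  apply exists_hom_of_range (Phi (⇑Q)) (unitsEquiv.toMonoidHom.comp (psi h2 Q hQ hne hcard))
    (unitsEquiv.surjective.comp (psi_surjective h2 Q hQ hne hcard hδ)) (SO' Q) ?_ _ _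
    (pgoAut_eq (⇑Q)) (psoAut_eq (⇑Q))
  rw [ker_Phi Q hQ hn, ← ker_psi h2 Q hQ hne hcard]
  ext g
  simp only [MonoidHom.mem_ker, MonoidHom.comp_apply, MulEquiv.coe_toMonoidHom,
    EmbeddingLike.map_eq_one_iff]

end main

end Cfsg.Agent.Lib.Helper14_GOChars
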