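import Mathlib
import Cfsg.Agent.Lib.Helper14_GOChars
import Cfsg.Agent.S0787

set_option autoImplicit false

/-!
`Ω(Q) = SO(Q) ∩ ker θ` has index two in `SO(Q)` (odd characteristic), and the index of `Inn(PΩ)` in the image of
`SO(Q)` in `Aut(PΩ(Q))` (helper14).
-/

namespace Cfsg.Agent.Lib.Helper14_OmegaIndex

open Cfsg Matrix Cfsg.Agent.Lib.Helper44_Orth Cfsg.Agent.Lib.Helper44_Refl
  Cfsg.Agent.Lib.Helper44_Spinor Cfsg.Agent.Lib.Helper14_CartanDieudonne
  Cfsg.Agent.Lib.Helper14_OrthChars Cfsg.Agent.Lib.Helper14_AutOmega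
  Cfsg.Agent.Lib.Helper14_CentOmega Cfsg.Agent.Lib.Helper14_GOChars

variable {ι : Type} [Fintype ι] [DecidableEq ι] {F : Type*} [Field F] [Fintype F]

/-- `Ω = SO ∩ ker θ`. -/
theorem omega_eq_inf (h2 : (2 : F) ≠ 0) (Q : QuadraticForm F (ι → F))
    (hQ : (QuadraticMap.polarBilin Q).Nondegenerate) :
    Omega F (⇑Q) = specialIsometryGroup F (⇑Q) ⊓ (theta Q).ker := by
  classical
  apply le_antisymm
  · apply le_inf
    · intro g hg
      exact Abelianization.commutator_subset_ker _ hg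
    · intro g hg
      exact Abelianization.commutator_subset_ker (theta Q) hg
  · intro g hg
    rw [Subgroup.mem_inf] at hg
    obtain ⟨hdet, hth⟩ := hg
    obtain ⟨vs, hvs, rfl⟩ := exists_list_reflT h2 Q hQ g
    rw [mem_omega_iff Q h2 _ vs hvs (prod_reflT_coe Q vs hvs)]
    rw [Cfsg.Agent.S0787.mem_SO_iff, prod_reflT_coe Q vs hvs, det_prod Q vs hvs] at hdet
    rw [MonoidHom.mem_ker, theta_prod Q h2 vs hvs] at hth
    have hlen : Even vs.length := by
      rcases Nat.even_or_odd vs.length with h | h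
      · exact h
      · rw [h.neg_one_pow] at hdet
        exact absurd hdet.symm (one_ne_neg_one h2)
    have hsq : Even (vs.countP (fun v => IsSquare (Q v))) := by
      rcases Nat.even_or_odd (vs.countP (fun v => IsSquare (Q v))) with h | h
      · exact h
      · rw [h.neg_one_pow] at hth
        exact absurd hth (by decide)
    refine ⟨hlen, ?_⟩
    rw [isSquare_prod_iff Q vs hvs]
    have hsum := List.length_eq_countP_add_countP (fun v => decide (IsSquare (Q v))) (l := vs)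
    have hcnt : vs.countP (fun a => decide ¬(fun v => decide (IsSquare (Q v))) a = true)
        = vs.countP (fun v => ¬ IsSquare (Q v)) := by
      congr 1
      funext a
      simp
    rw [hcnt] at hsum
    have hcnt2 : vs.countP (fun v => decide (IsSquare (Q v))) =
        vs.countP (fun v => IsSquare (Q v)) := by
      congr 1
    rw [hcnt2] at hsum
    rw [hsum] at hlen
    exact (Nat.even_add.mp hlen).mp hsq

/-- `[SO : Ω] = 2`. -/
theorem relIndex_omega (h2 : (2 : F) ≠ 0) (Q : QuadraticForm F (ι → F))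
    (hQ : (QuadraticMap.polarBilin Q).Nondegenerate) (hn : 2 ≤ Fintype.card ι) :
    (Omega F (⇑Q)).relIndex (specialIsometryGroup F (⇑Q)) = 2 := by
  rw [omega_eq_inf h2 Q hQ, Subgroup.inf_relIndex_left, Subgroup.relIndex, Subgroup.subgroupOf,
    MonoidHom.comap_ker]
  obtain ⟨a, ha1⟩ := exists_norm_eq h2 Q hQ hn 1
  obtain ⟨ε, hε⟩ := FiniteField.exists_nonsquare
    (Cfsg.Agent.Lib.Helper44_FinSq.ringChar_ne_two_of_two_ne_zero h2)
  obtain ⟨b, hbε⟩ := exists_norm_eq h2 Q hQ hn ε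
  have ha : Q a ≠ 0 := by rw [ha1]; exact one_ne_zero
  have hb : Q b ≠ 0 := by
    rw [hbε]; rintro rfl; exact hε ⟨0, by simp⟩
  have hasq : IsSquare (Q a) := by rw [ha1]; exact ⟨1, by simp⟩
  have hbsq : ¬ IsSquare (Q b) := by rw [hbε]; exact hε
  apply index_ker_eq_two _ (Cfsg.Agent.S0787.pair Q a b ha hb)
  show theta Q (refl Q a ha * refl Q b hb) = -1
  rw [map_mul, (theta_refl Q h2 a ha).1 hasq, (theta_refl Q h2 b hb).2 hbsq]
  rfl

omit [Fintype F] in
theorem negOne_mem_SO (Q : QuadraticForm F (ι → F)) (heven : Even (Fintype.card ι)) :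
    negOne Q ∈ specialIsometryGroup F (⇑Q) := by
  rw [Cfsg.Agent.S0787.mem_SO_iff, negOne_coe, Matrix.det_neg, Matrix.det_one, mul_one,
    heven.neg_one_pow]

/-- If `-1 ∉ Ω` then every element of `SO` lies in `Ω` or in `-Ω`. -/
theorem mem_or_neg_mem (h2 : (2 : F) ≠ 0) (Q : QuadraticForm F (ι → F))
    (hQ : (QuadraticMap.polarBilin Q).Nondegenerate) (heven : Even (Fintype.card ι))
    (hneg : negOne Q ∉ Omega F (⇑Q)) (g : ↥(isometryGroup F (⇑Q)))
    (hg : g ∈ specialIsometryGroup F (⇑Q)) : g ∈ Omega F (⇑Q) ∨ negOne Q * g ∈ Omega F (⇑Q) := by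
  rw [omega_eq_inf h2 Q hQ] at hneg ⊢
  have hθ : theta Q (negOne Q) = -1 := by
    rcases Int.units_eq_one_or (theta Q (negOne Q)) with h | h
    · exact absurd (Subgroup.mem_inf.mpr ⟨negOne_mem_SO Q heven, MonoidHom.mem_ker.mpr h⟩) hneg
    · exact h
  rcases Int.units_eq_one_or (theta Q g) with h | h
  · exact Or.inl (Subgroup.mem_inf.mpr ⟨hg, MonoidHom.mem_ker.mpr h⟩)
  · right
    refine Subgroup.mem_inf.mpr ⟨Subgroup.mul_mem _ (negOne_mem_SO Q heven) hg, ?_⟩
    rw [MonoidHom.mem_ker, map_mul, hθ, h]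
    rfl

section PhiO

omit [Fintype F] in
/-- The restriction of `Phi` to the isometry group. -/
noncomputable def PhiO (Q : (ι → F) → F) : ↥(isometryGroup F Q) →* MulAut (POmega F Q) :=
  (Phi Q).comp (Subgroup.inclusion (isometryGroup_le_GO Q))

omit [Fintype F] in
theorem psoAut_eq_map (Q : (ι → F) → F) :
    psoAut F Q = (specialIsometryGroup F Q).map (PhiO Q) := by
  rw [psoAut_eq, PhiO, ← Subgroup.map_map]
  congr 1
  ext g
  rw [Subgroup.mem_subgroupOf, specialIsometryGL, Subgroup.mem_inf, Subgroup.mem_map]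
  constructor
  · rintro ⟨h1, h2⟩
    refine ⟨⟨g, h1⟩, ?_, Subtype.ext rfl⟩
    unfold specialIsometryGroup
    rw [MonoidHom.mem_ker, MonoidHom.comp_apply]
    exact h2
  · rintro ⟨s, hs, rfl⟩
    refine ⟨s.2, ?_⟩
    unfold specialIsometryGroup at hs
    rw [MonoidHom.mem_ker, MonoidHom.comp_apply] at hs
    exact hs

omit [Fintype F] in
theorem inn_eq_map (Q : (ι → F) → F) :
    Inn (POmega F Q) = (Omega F Q).map (PhiO Q) := by
  rw [inn_eq, PhiO, ← Subgroup.map_map]
  congr 1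
  ext g
  rw [Subgroup.mem_subgroupOf, mem_omegaGL_iff, Subgroup.mem_map]
  constructor
  · rintro ⟨h1, h2⟩
    exact ⟨⟨g, h1⟩, h2, Subtype.ext rfl⟩
  · rintro ⟨s, hs, rfl⟩
    exact ⟨s.2, hs⟩

theorem mem_ker_PhiO (h2 : (2 : F) ≠ 0) (Q : QuadraticForm F (ι → F))
    (hQ : (QuadraticMap.polarBilin Q).Nondegenerate) (hn : 5 ≤ Fintype.card ι)
    (g : ↥(isometryGroup F (⇑Q))) :
    g ∈ (PhiO (⇑Q)).ker ↔ g = 1 ∨ g = negOne Q := by
  rw [MonoidHom.mem_ker, PhiO, MonoidHom.comp_apply, ← MonoidHom.mem_ker, ker_Phi Q hQ hn,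
    Subgroup.mem_subgroupOf, Geo.mem_scalars_iff]
  constructor
  · rintro ⟨c, hc⟩
    have hc' : ((g : GL ι F) : Matrix ι ι F) = (c : F) • 1 := hc
    obtain ⟨v, hv⟩ := exists_norm_eq h2 Q hQ (by omega) 1
    have h1 := (mem_isometryGroup_iff (⇑Q) _).mp g.2 v
    rw [hc', Matrix.smul_mulVec, Matrix.one_mulVec, QuadraticMap.map_smul, hv, smul_eq_mul,
      mul_one] at h1
    rcases mul_self_eq_one_iff.mp h1 with h | h
    · left
      apply Subtype.ext
      apply Units.ext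
      rw [hc', h, one_smul]
      rfl
    · right
      apply Subtype.ext
      apply Units.ext
      rw [hc', h, negOne_coe, neg_smul, one_smul]
  · rintro (rfl | rfl)
    · exact ⟨1, by simp⟩
    · refine ⟨-1, ?_⟩
      show ((negOne Q : GL ι F) : Matrix ι ι F) = _
      rw [negOne_coe]
      simp

/-- If `-1 ∉ Ω` then the image of `SO` in `Aut(PΩ)` is the group of inner automorphisms. -/
theorem psoAut_eq_inn (h2 : (2 : F) ≠ 0) (Q : QuadraticForm F (ι → F))
    (hQ : (QuadraticMap.polarBilin Q).Nondegenerate) (hn : 5 ≤ Fintype.card ι)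
    (heven : Even (Fintype.card ι)) (hneg : negOne Q ∉ Omega F (⇑Q)) :
    psoAut F (⇑Q) = Inn (POmega F (⇑Q)) := by
  rw [psoAut_eq_map, inn_eq_map]
  apply le_antisymm
  · rintro _ ⟨s, hs, rfl⟩
    rcases mem_or_neg_mem h2 Q hQ heven hneg s hs with h | h
    · exact ⟨s, h, rfl⟩
    · refine ⟨negOne Q * s, h, ?_⟩
      rw [map_mul]
      have : PhiO (⇑Q) (negOne Q) = 1 :=
        MonoidHom.mem_ker.mp ((mem_ker_PhiO h2 Q hQ hn _).mpr (Or.inr rfl))
      rw [this, one_mul]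
  · apply Subgroup.map_mono
    rw [omega_eq_inf h2 Q hQ]
    exact inf_le_left

/-- If `-1 ∈ Ω` then `Inn(PΩ)` has index two in the image of `SO` in `Aut(PΩ)`. -/
theorem relIndex_inn_pso (h2 : (2 : F) ≠ 0) (Q : QuadraticForm F (ι → F))
    (hQ : (QuadraticMap.polarBilin Q).Nondegenerate) (hn : 5 ≤ Fintype.card ι)
    (hneg : negOne Q ∈ Omega F (⇑Q)) :
    (Inn (POmega F (⇑Q))).relIndex (psoAut F (⇑Q)) = 2 := by
  rw [psoAut_eq_map, inn_eq_map, Subgroup.relIndex_map_map]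
  have hker : (PhiO (⇑Q)).ker ≤ Omega F (⇑Q) := by
    intro g hg
    rcases (mem_ker_PhiO h2 Q hQ hn g).mp hg with rfl | rfl
    · exact Subgroup.one_mem _
    · exact hneg
  have hle : Omega F (⇑Q) ≤ specialIsometryGroup F (⇑Q) := by
    rw [omega_eq_inf h2 Q hQ]
    exact inf_le_left
  rw [sup_eq_left.mpr hker, sup_eq_left.mpr (hker.trans hle)]
  exact relIndex_omega h2 Q hQ (by omega)

end PhiO

end Cfsg.Agent.Lib.Helper14_OmegaIndex
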