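import Mathlib
import Cfsg.Prelude.Def_LieTypeDatum

set_option autoImplicit false

/-!
`splitClassCount H K x` as the index of `K · C_H(x)` in `H`, for `K` normal in `H` (helper14).
-/

namespace Cfsg.Agent.Lib.Helper14_SplitClass

open Cfsg

variable {X : Type*} [Group X]

theorem isConjUnder_equivalence (H K : Subgroup X) (x : X) :
    Equivalence (fun y z : {y : X // IsConjUnder H x y} => IsConjUnder K y.1 z.1) := by
  refine ⟨fun y => ⟨1, K.one_mem, by simp⟩, ?_, ?_⟩
  · rintro y z ⟨k, hk, hz⟩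
    refine ⟨k⁻¹, K.inv_mem hk, ?_⟩
    rw [hz]; group
  · rintro y z w ⟨k, hk, hz⟩ ⟨l, hl, hw⟩
    refine ⟨l * k, K.mul_mem hl hk, ?_⟩
    rw [hw, hz]; group

/-- The number of `K`-classes in the `H`-class of `x` is the index of `K · C_H(x)` in `H`. -/
theorem splitClassCount_eq_index (H K : Subgroup X) (hKH : K ≤ H) (hN : (K.subgroupOf H).Normal)
    (x : X) :
    splitClassCount H K x =
      ((K.subgroupOf H) ⊔ (Subgroup.centralizer {x}).subgroupOf H).index := by
  set N : Subgroup ↥H := (K.subgroupOf H) ⊔ (Subgroup.centralizer {x}).subgroupOf H with hNdef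
  set r := (fun y z : {y : X // IsConjUnder H x y} => IsConjUnder K y.1 z.1) with hr
  have hreq : Equivalence r := isConjUnder_equivalence H K x
  let f : ↥H → Quot r := fun h => Quot.mk r ⟨(h : X) * x * (h : X)⁻¹, ⟨h, h.2, rfl⟩⟩
  have hB : ∀ h h' : ↥H, f h = f h' ↔ h⁻¹ * h' ∈ N := by
    intro h h'
    rw [Quot.eq, hreq.eqvGen_iff]
    constructor
    · rintro ⟨k, hk, hkeq⟩
      simp only at hkeq
      -- c := h'⁻¹ k h centralises x
      have hc : (h' : X)⁻¹ * k * h ∈ Subgroup.centralizer {x} := by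
        rw [Subgroup.mem_centralizer_singleton_iff]
        have : (h' : X)⁻¹ * ((h' : X) * x * (h' : X)⁻¹) * (h' : X) = x := by group
        rw [hkeq] at this
        calc (h' : X)⁻¹ * k * h * x = ((h' : X)⁻¹ * (k * ((h : X) * x * (h : X)⁻¹) * k⁻¹) * (h' : X)) *
              ((h' : X)⁻¹ * k * h) := by group
          _ = x * ((h' : X)⁻¹ * k * h) := by rw [this]
      have hkH : k ∈ H := hKH hk
      -- h⁻¹ h' = (h⁻¹ k⁻¹ h) · (h'⁻¹ k h)⁻¹ ... write h⁻¹ h' = a * b with a ∈ K', b ∈ C'
      have ha : (h⁻¹ * ⟨k, hkH⟩ * h : ↥H) ∈ K.subgroupOf H := by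
        have h1 : (⟨k, hkH⟩ : ↥H) ∈ K.subgroupOf H := by
          rw [Subgroup.mem_subgroupOf]; exact hk
        have := hN.conj_mem _ h1 h⁻¹
        simpa using this
      have hb : ((h'⁻¹ * ⟨k, hkH⟩ * h)⁻¹ : ↥H) ∈ (Subgroup.centralizer {x}).subgroupOf H := by
        apply Subgroup.inv_mem
        rw [Subgroup.mem_subgroupOf]
        exact hc
      have : h⁻¹ * h' = (h⁻¹ * ⟨k, hkH⟩ * h) * (h'⁻¹ * ⟨k, hkH⟩ * h)⁻¹ := by group
      rw [this]
      exact Subgroup.mul_mem _ (Subgroup.mem_sup_left ha) (Subgroup.mem_sup_right hb)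
    · intro hmem
      rw [hNdef, Subgroup.mem_sup_of_normal_left] at hmem
      obtain ⟨a, ha, b, hb, hab⟩ := hmem
      have hh' : h' = h * a * b := by rw [mul_assoc, hab]; group
      rw [Subgroup.mem_subgroupOf] at ha hb
      rw [Subgroup.mem_centralizer_singleton_iff] at hb
      have ha' : (h * a * h⁻¹ : ↥H) ∈ K.subgroupOf H := hN.conj_mem a (Subgroup.mem_subgroupOf.mpr ha) h
      refine ⟨((h * a * h⁻¹ : ↥H) : X), Subgroup.mem_subgroupOf.mp ha', ?_⟩
      simp only
      rw [hh']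
      push_cast
      have : (b : X) * x * (b : X)⁻¹ = x := by rw [hb]; group
      calc (h : X) * a * b * x * ((h : X) * a * b)⁻¹
          = (h : X) * a * ((b : X) * x * (b : X)⁻¹) * (a : X)⁻¹ * (h : X)⁻¹ := by group
        _ = (h : X) * a * x * (a : X)⁻¹ * (h : X)⁻¹ := by rw [this]
        _ = _ := by group
  have hsurj : Function.Surjective f := by
    intro y
    induction y using Quot.ind with
    | mk y =>
      obtain ⟨y, h, hh, rfl⟩ := y
      exact ⟨⟨h, hh⟩, rfl⟩
  unfold splitClassCount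
  rw [Subgroup.index_eq_card]
  symm
  apply Nat.card_congr
  refine Equiv.ofBijective (Quotient.lift f (fun a b hab => ?_)) ⟨?_, ?_⟩
  · exact (hB a b).mpr (QuotientGroup.leftRel_apply.mp hab)
  · intro a b
    induction a using Quotient.inductionOn with
    | h a =>
      induction b using Quotient.inductionOn with
      | h b =>
        intro hab
        exact Quotient.sound (QuotientGroup.leftRel_apply.mpr ((hB a b).mp hab))
  · intro y
    obtain ⟨h, rfl⟩ := hsurj y
    exact ⟨Quotient.mk _ h, rfl⟩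

end Cfsg.Agent.Lib.Helper14_SplitClass
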