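import Mathlib
import Cfsg.Agent.Lib.Helper44_OrthField
import Cfsg.Agent.Lib.Helper44_Simil
import Cfsg.Agent.Lib.Helper44_Refl
import Cfsg.Agent.S0787

/-!
# Base change of isometry groups along a field embedding (helper44)

For `j : F₀ →+* F` and quadratic forms `Q₀`, `Q` on `ι → F₀`, `ι → F` with
`Q (j ∘ v) = j (Q₀ v)`: the embedding `O(Q₀) → O(Q)`, its compatibility with reflections and
determinants, and descent of matrices fixed by a field automorphism whose fixed field is the image
of `j`.
-/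

set_option autoImplicit false
set_option linter.unusedSectionVars false
set_option linter.unusedVariables false

namespace Cfsg.Agent.Lib.Helper44_OrthBase

open Cfsg Matrix Cfsg.Agent.Lib.Helper44_Orth Cfsg.Agent.Lib.Helper44_H90i
  Cfsg.Agent.Lib.Helper44_Simil Cfsg.Agent.Lib.Helper44_Refl

variable {ι : Type} [Fintype ι] [DecidableEq ι] {F₀ F : Type*} [Field F₀] [Field F]
  (j : F₀ →+* F)

/-- base change of vectors -/
def vmap (v : ι → F₀) : ι → F := fun i => j (v i)

theorem vmap_apply (v : ι → F₀) (i : ι) : vmap j v i = j (v i) := rfl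

theorem vmap_add (v w : ι → F₀) : vmap j (v + w) = vmap j v + vmap j w := by
  funext i
  simp [vmap]

theorem vmap_sub (v w : ι → F₀) : vmap j (v - w) = vmap j v - vmap j w := by
  funext i
  simp [vmap]

theorem vmap_smul (a : F₀) (v : ι → F₀) : vmap j (a • v) = j a • vmap j v := by
  funext i
  simp [vmap]

theorem vmap_single (k : ι) : vmap j (Pi.single k 1) = Pi.single k 1 := by
  funext i
  by_cases hik : i = k
  · subst hik
    simp [vmap]
  · simp [vmap, Pi.single_eq_of_ne hik]

theorem vmap_injective : Function.Injective (vmap j (ι := ι)) := by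
  intro v w h
  funext i
  exact j.injective (congrFun h i)

theorem vmap_mulVec (M : Matrix ι ι F₀) (v : ι → F₀) :
    vmap j (M *ᵥ v) = M.map j *ᵥ vmap j v := by
  funext i
  exact RingHom.map_mulVec j M v i

/-- quadratic forms agreeing on the base-changed vectors are equal -/
theorem ext_of_vmap (K₁ K₂ : QuadraticForm F (ι → F))
    (h : ∀ v : ι → F₀, K₁ (vmap j v) = K₂ (vmap j v)) : K₁ = K₂ := by
  apply quadraticForm_ext_basis (Pi.basisFun F ι)
  · intro k
    rw [Pi.basisFun_apply, ← vmap_single j k]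
    exact h _
  · intro k l
    rw [Pi.basisFun_apply, Pi.basisFun_apply, ← vmap_single j k, ← vmap_single j l]
    unfold QuadraticMap.polar
    rw [← vmap_add, h, h, h]

variable (Q₀ : QuadraticForm F₀ (ι → F₀)) (Q : QuadraticForm F (ι → F))

/-- the forms correspond under base change -/
def Compat : Prop := ∀ v : ι → F₀, Q (vmap j v) = j (Q₀ v)

variable {j Q₀ Q}

theorem Compat.polar (hc : Compat j Q₀ Q) (x y : ι → F₀) :
    QuadraticMap.polar (⇑Q) (vmap j x) (vmap j y) = j (QuadraticMap.polar (⇑Q₀) x y) := by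
  unfold QuadraticMap.polar
  rw [← vmap_add, hc, hc, hc, map_sub, map_sub]

theorem Compat.polarVec (hc : Compat j Q₀ Q) (v : ι → F₀) :
    Cfsg.polarVec (⇑Q) (vmap j v) = vmap j (Cfsg.polarVec (⇑Q₀) v) := by
  funext k
  unfold Cfsg.polarVec
  rw [vmap_apply, ← hc.polar, vmap_single]

theorem Compat.reflectionMatrix (hc : Compat j Q₀ Q) (v : ι → F₀) :
    Cfsg.reflectionMatrix (⇑Q) (vmap j v) = (Cfsg.reflectionMatrix (⇑Q₀) v).map j := by
  ext a b
  unfold Cfsg.reflectionMatrix
  rw [hc.polarVec, hc v]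
  simp only [Matrix.sub_apply, Matrix.smul_apply, Matrix.vecMulVec_apply, Matrix.map_apply,
    smul_eq_mul, vmap_apply, map_sub, map_mul, map_inv₀]
  congr 1
  by_cases hab : a = b
  · subst hab
    simp
  · simp [Matrix.one_apply_ne hab]

variable (j)

/-- base change of invertible matrices -/
abbrev glMap : GL ι F₀ →* GL ι F := Matrix.GeneralLinearGroup.map j

theorem glMap_coe (k : GL ι F₀) : ((glMap j k : GL ι F) : Matrix ι ι F) = k.1.map j := rfl

theorem glMap_injective : Function.Injective (glMap j (ι := ι)) := by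
  intro k l h
  apply Units.ext
  ext a b
  have h1 : k.1.map j = l.1.map j := congrArg Units.val h
  have := congrFun (congrFun h1 a) b
  exact j.injective this

variable {j}

theorem glMap_mem_isometry_iff (hc : Compat j Q₀ Q) (k : GL ι F₀) :
    glMap j k ∈ isometryGroup F (⇑Q) ↔ k ∈ isometryGroup F₀ (⇑Q₀) := by
  rw [mem_isometryGroup_iff, mem_isometryGroup_iff]
  constructor
  · intro h v
    apply j.injective
    rw [← hc, ← hc, vmap_mulVec]
    exact h _
  · intro h
    have heq : Q.comp (Matrix.toLin' (glMap j k).1) = Q := by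
      apply ext_of_vmap j
      intro v
      rw [QuadraticMap.comp_apply, Matrix.toLin'_apply, glMap_coe, ← vmap_mulVec, hc, hc, h]
    intro u
    have := congrArg (fun G : QuadraticForm F (ι → F) => G u) heq
    simp only [QuadraticMap.comp_apply, Matrix.toLin'_apply] at this
    exact this

/-- base change of isometries -/
def mapIsom (hc : Compat j Q₀ Q) : ↥(isometryGroup F₀ (⇑Q₀)) →* ↥(isometryGroup F (⇑Q)) :=
  ((glMap j).comp (isometryGroup F₀ (⇑Q₀)).subtype).codRestrict (isometryGroup F (⇑Q))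
    (fun k => (glMap_mem_isometry_iff hc k.1).mpr k.2)

theorem mapIsom_coe (hc : Compat j Q₀ Q) (s : ↥(isometryGroup F₀ (⇑Q₀))) :
    ((mapIsom hc s : ↥(isometryGroup F (⇑Q))) : GL ι F) = glMap j s.1 := rfl

theorem mapIsom_injective (hc : Compat j Q₀ Q) : Function.Injective (mapIsom hc) := by
  intro s t h
  apply Subtype.ext
  apply glMap_injective j
  exact congrArg Subtype.val h

theorem mapIsom_mem_SO_iff (hc : Compat j Q₀ Q) (s : ↥(isometryGroup F₀ (⇑Q₀))) :
    mapIsom hc s ∈ specialIsometryGroup F (⇑Q) ↔ s ∈ specialIsometryGroup F₀ (⇑Q₀) := by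
  rw [Cfsg.Agent.S0787.mem_SO_iff, Cfsg.Agent.S0787.mem_SO_iff, mapIsom_coe, glMap_coe]
  have h1 : (s.1.1.map j).det = j s.1.1.det := by
    rw [RingHom.map_det, RingHom.mapMatrix_apply]
  rw [h1]
  constructor
  · intro h
    apply j.injective
    rw [h, map_one]
  · intro h
    rw [h, map_one]

theorem mapIsom_refl (hc : Compat j Q₀ Q) (v : ι → F₀) (hv : Q₀ v ≠ 0)
    (hv' : Q (vmap j v) ≠ 0) : mapIsom hc (refl Q₀ v hv) = refl Q (vmap j v) hv' := by
  apply Subtype.ext
  apply Units.ext
  rw [mapIsom_coe, glMap_coe, refl_coe, refl_coe, hc.reflectionMatrix]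

/-! ### descent -/

section descent

variable (σ : F ≃+* F) (hι : ∀ a : F, σ a = a ↔ a ∈ Set.range j)

include hι in
theorem mapGLi_glMap (k : GL ι F₀) : mapGLi σ (glMap j k) = glMap j k := by
  apply Units.ext
  rw [mapGLi_coe, glMap_coe]
  ext a b
  exact (hι _).mpr ⟨_, rfl⟩

include hι in
theorem exists_matrix_of_fixed (M : Matrix ι ι F) (h : M.map σ = M) :
    ∃ M₀ : Matrix ι ι F₀, M₀.map j = M := by
  have h1 : ∀ a b, ∃ c : F₀, j c = M a b := by
    intro a b
    have h2 : σ (M a b) = M a b := congrFun (congrFun h a) b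
    exact (hι _).mp h2
  choose kM hkM using h1
  refine ⟨Matrix.of kM, ?_⟩
  ext a b
  exact hkM a b

include hι in
theorem exists_glMap_of_fixed (g : GL ι F) (h : mapGLi σ g = g) : ∃ k : GL ι F₀, glMap j k = g := by
  have h1 : g.1.map σ = g.1 := congrArg Units.val h
  have h2 : (g⁻¹ : GL ι F).1.map σ = (g⁻¹ : GL ι F).1 := by
    have : mapGLi σ g⁻¹ = g⁻¹ := by rw [map_inv, h]
    exact congrArg Units.val this
  obtain ⟨M, hM⟩ := exists_matrix_of_fixed σ hι g.1 h1
  obtain ⟨N, hN⟩ := exists_matrix_of_fixed σ hι (g⁻¹ : GL ι F).1 h2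
  have hinj : Function.Injective (fun A : Matrix ι ι F₀ => A.map j) := by
    intro A B hAB
    ext a b
    exact j.injective (congrFun (congrFun hAB a) b)
  have hMN : M * N = 1 := by
    apply hinj
    show (M * N).map j = (1 : Matrix ι ι F₀).map j
    rw [Matrix.map_mul, hM, hN, ← Units.val_mul, mul_inv_cancel, Units.val_one]
    exact (Matrix.map_one j (map_zero j) (map_one j)).symm
  have hNM : N * M = 1 := by
    apply hinj
    show (N * M).map j = (1 : Matrix ι ι F₀).map j
    rw [Matrix.map_mul, hM, hN, ← Units.val_mul, inv_mul_cancel, Units.val_one]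
    exact (Matrix.map_one j (map_zero j) (map_one j)).symm
  refine ⟨⟨M, N, hMN, hNM⟩, ?_⟩
  apply Units.ext
  exact hM

include hι in
theorem exists_mapIsom_of_fixed (hc : Compat j Q₀ Q) (g : ↥(isometryGroup F (⇑Q)))
    (h : mapGLi σ g.1 = g.1) : ∃ s : ↥(isometryGroup F₀ (⇑Q₀)), mapIsom hc s = g := by
  obtain ⟨k, hk⟩ := exists_glMap_of_fixed σ hι g.1 h
  have hkm : k ∈ isometryGroup F₀ (⇑Q₀) := by
    rw [← glMap_mem_isometry_iff hc, hk]
    exact g.2
  exact ⟨⟨k, hkm⟩, Subtype.ext hk⟩

end descent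

end Cfsg.Agent.Lib.Helper44_OrthBase
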