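import Mathlib

/-!
# The fixed field of an automorphism of a finite field (helper44)

`σ : F ≃+* F` of order `r`, `|F| = p ^ f`: then `r ∣ f`, the fixed points form a subfield with
`p ^ (f / r)` elements, and any field `F₀` with that many elements embeds onto it.
-/

set_option autoImplicit false
set_option linter.unusedSectionVars false
set_option linter.unusedVariables false
set_option linter.unusedSimpArgs false

namespace Cfsg.Agent.Lib.Helper44_FixField

variable {F : Type*} [Field F]

/-- the fixed subfield of `σ` -/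
def fixField (σ : F ≃+* F) : Subfield F := FixedPoints.subfield (Subgroup.zpowers σ) F

theorem mem_fixField (σ : F ≃+* F) (a : F) : a ∈ fixField σ ↔ σ a = a := by
  constructor
  · intro h
    exact h ⟨σ, Subgroup.mem_zpowers σ⟩
  · intro h g
    have h1 : σ ∈ MulAction.stabilizer (RingAut F) a := MulAction.mem_stabilizer_iff.mpr h
    have h2 := (Subgroup.zpowers_le.mpr h1) g.2
    exact MulAction.mem_stabilizer_iff.mp h2

theorem card_fixField [Fintype F] (σ : F ≃+* F) {p f r : ℕ} [hp : Fact p.Prime]
    (hF : Fintype.card F = p ^ f) (hord : orderOf σ = r) :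
    r ∣ f ∧ Nat.card (fixField σ) = p ^ (f / r) := by
  classical
  have : Finite (F ≃+* F) :=
    Finite.of_injective (fun τ : F ≃+* F => (τ : F → F)) DFunLike.coe_injective
  haveI : Fintype (Subgroup.zpowers σ) := Fintype.ofFinite _
  have hr : 0 < r := by
    rw [← hord]
    exact orderOf_pos σ
  have h1 : Module.finrank (fixField σ) F = r := by
    unfold fixField
    rw [FixedPoints.finrank_eq_card, ← Nat.card_eq_fintype_card, Nat.card_zpowers, hord]
  have h2 : Fintype.card F = Fintype.card (fixField σ) ^ Module.finrank (fixField σ) F :=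
    Module.card_eq_pow_finrank (K := fixField σ) (V := F)
  rw [h1, hF] at h2
  have h3 : Fintype.card (fixField σ) ∣ p ^ f := by
    rw [h2]
    exact dvd_pow_self _ hr.ne'
  obtain ⟨e, -, he⟩ := (Nat.dvd_prime_pow hp.out).mp h3
  rw [he, ← pow_mul] at h2
  have h4 : f = e * r := Nat.pow_right_injective hp.out.two_le h2
  refine ⟨⟨e, by rw [h4, mul_comm]⟩, ?_⟩
  rw [Nat.card_eq_fintype_card, he, h4, Nat.mul_div_cancel _ hr]

/-- an embedding of a field with `p ^ (f / r)` elements onto the fixed field -/
theorem exists_embedding [Fintype F] (σ : F ≃+* F) {p f r : ℕ} [hp : Fact p.Prime]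
    (hF : Fintype.card F = p ^ f) (hord : orderOf σ = r)
    (F₀ : Type*) [Field F₀] [Fintype F₀] (hF₀ : Fintype.card F₀ = p ^ (f / r)) :
    ∃ ι : F₀ →+* F, ∀ a : F, σ a = a ↔ a ∈ Set.range ι := by
  classical
  have h1 := (card_fixField σ hF hord).2
  rw [Nat.card_eq_fintype_card] at h1
  let e : F₀ ≃+* fixField σ := FiniteField.ringEquivOfCardEq (hF₀.trans h1.symm)
  refine ⟨(fixField σ).subtype.comp (e : F₀ →+* fixField σ), ?_⟩
  intro a
  rw [← mem_fixField]
  constructor
  · intro ha
    refine ⟨e.symm ⟨a, ha⟩, ?_⟩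
    simp
  · rintro ⟨b, rfl⟩
    exact (e b).2

end Cfsg.Agent.Lib.Helper44_FixField
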