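import Mathlib
import Cfsg.Agent.Lib.Helper44_OrthField
import Cfsg.Agent.Lib.Helper44_FixField
import Cfsg.Agent.Lib.Helper44_Simil

/-!
# Lang's theorem for similarity groups of quadratic forms: the generic part (helper44)

Descent of a `σ`-invariant quadratic form to the fixed field of `σ`, and the reduction of Lang's
theorem for `GO(Q)` to a classification statement over the fixed field.
-/

set_option autoImplicit false
set_option linter.unusedSectionVars false
set_option linter.unusedVariables false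

namespace Cfsg.Agent.Lib.Helper44_OrthLang

open Cfsg Matrix Cfsg.Agent.Lib.Helper44_Orth Cfsg.Agent.Lib.Helper14_AutOmega
  Cfsg.Agent.Lib.Helper44_H90i Cfsg.Agent.Lib.Helper44_H90 Cfsg.Agent.Lib.Helper44_OrthField
  Cfsg.Agent.Lib.Helper44_FixField Cfsg.Agent.Lib.Helper44_Simil

variable {ι : Type} [Fintype ι] [DecidableEq ι] {F : Type*} [Field F] (σ : F ≃+* F)

/-! ### descent to the fixed field -/

/-- coercion of vectors over the fixed field -/
def up (v : ι → fixField σ) : ι → F := fun i => (v i : F)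

theorem up_apply (v : ι → fixField σ) (i : ι) : up σ v i = (v i : F) := rfl

theorem up_fixed (v : ι → fixField σ) : (fun i => σ (up σ v i)) = up σ v := by
  funext i
  exact (mem_fixField σ _).mp (v i).2

theorem up_add (v w : ι → fixField σ) : up σ (v + w) = up σ v + up σ w := rfl

theorem up_smul (a : fixField σ) (v : ι → fixField σ) : up σ (a • v) = (a : F) • up σ v := rfl

theorem up_single (j : ι) : up σ (Pi.single j 1) = Pi.single j 1 := by
  funext i
  by_cases hij : i = j
  · subst hij
    simp [up]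
  · simp [up, Pi.single_eq_of_ne hij]

theorem up_injective : Function.Injective (up σ (ι := ι)) := by
  intro v w h
  funext i
  exact Subtype.ext (congrFun h i)

theorem up_mulVec (M : Matrix ι ι (fixField σ)) (v : ι → fixField σ) :
    up σ (M *ᵥ v) = M.map (fixField σ).subtype *ᵥ up σ v := by
  funext i
  exact RingHom.map_mulVec (fixField σ).subtype M v i

/-- the raw descended function -/
def descFun (K : (ι → F) → F) (hK : SigInv K σ) (v : ι → fixField σ) : fixField σ :=
  ⟨K (up σ v), by rw [mem_fixField, ← hK, up_fixed]⟩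

theorem descFun_coe (K : (ι → F) → F) (hK : SigInv K σ) (v : ι → fixField σ) :
    ((descFun σ K hK v : fixField σ) : F) = K (up σ v) := rfl

theorem coe_polar_descFun (K : (ι → F) → F) (hK : SigInv K σ) (x y : ι → fixField σ) :
    ((QuadraticMap.polar (descFun σ K hK) x y : fixField σ) : F) =
      QuadraticMap.polar K (up σ x) (up σ y) := rfl

/-- the descended quadratic form -/
def descQ (K : QuadraticForm F (ι → F)) (hK : SigInv (⇑K) σ) :
    QuadraticForm (fixField σ) (ι → fixField σ) :=
  QuadraticMap.ofPolar (descFun σ (⇑K) hK)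
    (by
      intro a x
      apply Subtype.ext
      show K (up σ (a • x)) = ((a * a : fixField σ) : F) * K (up σ x)
      rw [up_smul, QuadraticMap.map_smul]
      rfl)
    (by
      intro x x' y
      apply Subtype.ext
      show QuadraticMap.polar (⇑K) (up σ (x + x')) (up σ y) =
        QuadraticMap.polar (⇑K) (up σ x) (up σ y) + QuadraticMap.polar (⇑K) (up σ x') (up σ y)
      rw [up_add, QuadraticMap.polar_add_left])
    (by
      intro a x y
      apply Subtype.ext
      show QuadraticMap.polar (⇑K) (up σ (a • x)) (up σ y) =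
        (a : F) * QuadraticMap.polar (⇑K) (up σ x) (up σ y)
      rw [up_smul, QuadraticMap.polar_smul_left]
      rfl)

theorem descQ_coe (K : QuadraticForm F (ι → F)) (hK : SigInv (⇑K) σ) (v : ι → fixField σ) :
    ((descQ σ K hK v : fixField σ) : F) = K (up σ v) := rfl

theorem coe_polar_descQ (K : QuadraticForm F (ι → F)) (hK : SigInv (⇑K) σ)
    (x y : ι → fixField σ) :
    ((QuadraticMap.polar (⇑(descQ σ K hK)) x y : fixField σ) : F) =
      QuadraticMap.polar (⇑K) (up σ x) (up σ y) := rfl

theorem descQ_nondegenerate (K : QuadraticForm F (ι → F)) (hK : SigInv (⇑K) σ)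
    (hnd : (QuadraticMap.polarBilin K).Nondegenerate) :
    (QuadraticMap.polarBilin (descQ σ K hK)).Nondegenerate := by
  have key : ∀ x : ι → fixField σ,
      (∀ y, QuadraticMap.polar (⇑(descQ σ K hK)) x y = 0) → x = 0 := by
    intro x hx
    apply up_injective σ
    show up σ x = 0
    apply hnd.1
    intro y
    have h1 : QuadraticMap.polarBilin K (up σ x) = 0 := by
      apply LinearMap.pi_ext'
      intro j
      apply LinearMap.ext_ring
      rw [LinearMap.comp_apply, LinearMap.single_apply, QuadraticMap.polarBilin_apply_apply,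
        ← up_single σ j, ← coe_polar_descQ σ K hK, hx]
      simp
    rw [h1]
    rfl
  constructor
  · intro x hx
    exact key x hx
  · intro y hy
    apply key y
    intro x
    have := hy x
    rw [QuadraticMap.polarBilin_apply_apply] at this
    rw [QuadraticMap.polar_comm]
    exact this

/-- quadratic forms agreeing on the points over the fixed field are equal -/
theorem ext_of_up (K₁ K₂ : QuadraticForm F (ι → F))
    (h : ∀ v : ι → fixField σ, K₁ (up σ v) = K₂ (up σ v)) : K₁ = K₂ := by
  apply quadraticForm_ext_basis (Pi.basisFun F ι)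
  · intro k
    rw [Pi.basisFun_apply, ← up_single σ k]
    exact h _
  · intro k l
    rw [Pi.basisFun_apply, Pi.basisFun_apply, ← up_single σ k, ← up_single σ l]
    unfold QuadraticMap.polar
    rw [← up_add, h, h, h]

/-! ### the generic reduction of Lang's theorem -/

theorem iterate_semi (K : (ι → F) → F) (c : Fˣ)
    (hK : ∀ v : ι → F, K (fun i => σ (v i)) = (c : F) * σ (K v)) (i : ℕ) (v : ι → F) :
    K (fun j => (σ ^ i : F ≃+* F) (v j)) = ((Nm σ i c : Fˣ) : F) * (σ ^ i : F ≃+* F) (K v) := by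
  induction i generalizing v with
  | zero =>
    rw [Nm_zero, Units.val_one, one_mul, pow_zero]
    rfl
  | succ i ih =>
    have h1 : (fun j => (σ ^ (i + 1) : F ≃+* F) (v j)) =
        (fun j => (σ ^ i : F ≃+* F) ((fun l => σ (v l)) j)) := by
      funext j
      rw [pow_succ]
      rfl
    rw [h1, ih, hK, Nm_succ, Units.val_mul, map_mul, pow_succ]
    show _ = _ * ((σ ^ i : F ≃+* F) (c : F)) * (σ ^ i : F ≃+* F) (σ (K v))
    ring

/-- **Lang's theorem for `GO(Q)`, generic reduction**: it suffices to know that every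
`σ`-invariant form similar to `Q` over `F` is similar to `Q` by a `σ`-fixed matrix. -/
theorem lang_generic (Q : QuadraticForm F (ι → F)) (hQσ : SigInv (⇑Q) σ) {r : ℕ} (hr : 0 < r)
    (hord : orderOf σ = r) (hQne : ∃ v, Q v ≠ 0)
    (hclass : ∀ K : QuadraticForm F (ι → F), SigInv (⇑K) σ →
      (∃ (β : Fˣ) (h : GL ι F), ∀ v, K v = (β : F) * Q (h.1 *ᵥ v)) →
      ∃ (a : GL ι F) (d : Fˣ), mapGLi σ a = a ∧ ∀ v, K (a.1 *ᵥ v) = (d : F) * Q v)
    (g : ↥(GO (⇑Q))) (hg : PNi σ g.1 r = 1) :
    ∃ k : ↥(GO (⇑Q)), g.1 * mapGLi σ k.1 = k.1 := by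
  classical
  have hσ : σ ^ r = 1 := by rw [← hord]; exact pow_orderOf_eq_one σ
  obtain ⟨h, hh⟩ := hilbert90_GLi σ hr hord g.1 hg
  have hh' : h.1 = g.1.1 * h.1.map σ := by
    have := congrArg Units.val hh
    rw [Units.val_mul, mapGLi_coe] at this
    exact this.symm
  obtain ⟨c, hc⟩ := g.2
  -- the transported form
  set K₁ : QuadraticForm F (ι → F) := Q.comp (Matrix.toLin' h.1) with hK₁
  have hK₁v : ∀ v, K₁ v = Q (h.1 *ᵥ v) := fun v => by
    rw [hK₁, QuadraticMap.comp_apply, Matrix.toLin'_apply]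
  have hK₁σ : ∀ v : ι → F, K₁ (fun i => σ (v i)) = (c : F) * σ (K₁ v) := by
    intro v
    rw [hK₁v, hK₁v]
    conv_lhs => rw [hh']
    rw [← Matrix.mulVec_mulVec]
    have h1 : h.1.map σ *ᵥ (fun i => σ (v i)) = fun i => σ ((h.1 *ᵥ v) i) :=
      (comp_mulVeci σ h.1 v).symm
    rw [h1, hc, hQσ]
  -- the norm of the multiplier is one
  have hN : Nm σ r c = 1 := by
    obtain ⟨v, hv⟩ := hQne
    have h1 := iterate_semi σ (⇑K₁) c hK₁σ r ((h⁻¹ : GL ι F).1 *ᵥ v)
    rw [hσ] at h1
    have h2 : K₁ ((h⁻¹ : GL ι F).1 *ᵥ v) = Q v := by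
      rw [hK₁v, Matrix.mulVec_mulVec, ← Units.val_mul, mul_inv_cancel, Units.val_one,
        Matrix.one_mulVec]
    have h3 : (fun j => (1 : F ≃+* F) (((h⁻¹ : GL ι F).1 *ᵥ v) j)) = (h⁻¹ : GL ι F).1 *ᵥ v := rfl
    rw [h3, h2] at h1
    have h4 : (1 : F ≃+* F) (Q v) = Q v := rfl
    rw [h4] at h1
    apply Units.ext
    rw [Units.val_one]
    exact (mul_right_cancel₀ hv (by rw [one_mul]; exact h1)).symm
  obtain ⟨b, hb⟩ := hilbert90_units σ hr hord c hN
  have hb' : (c : F) * σ (b : F) = b := by
    have := congrArg Units.val hb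
    rw [Units.val_mul] at this
    exact this
  -- the rescaled form is `σ`-invariant
  set K : QuadraticForm F (ι → F) := ((b⁻¹ : Fˣ) : F) • K₁ with hK
  have hKv : ∀ v, K v = ((b⁻¹ : Fˣ) : F) * Q (h.1 *ᵥ v) := fun v => by
    rw [hK, _root_.smul_apply, smul_eq_mul, hK₁v]
  have hKσ : SigInv (⇑K) σ := by
    intro v
    rw [hK, _root_.smul_apply, _root_.smul_apply, smul_eq_mul, smul_eq_mul, hK₁σ,
      map_mul]
    have h2 : sigU σ b⁻¹ = b⁻¹ * c := by
      have h3 : sigU σ b = c⁻¹ * b := eq_inv_mul_of_mul_eq hb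
      rw [map_inv, h3, _root_.mul_inv_rev, inv_inv]
    have h1 : σ ((b⁻¹ : Fˣ) : F) = ((b⁻¹ : Fˣ) : F) * (c : F) := by
      have := congrArg Units.val h2
      rw [Units.val_mul] at this
      exact this
    rw [h1]
    ring
  obtain ⟨a, d, haσ, had⟩ := hclass K hKσ ⟨b⁻¹, h, hKv⟩
  have hkmem : h * a ∈ GO (⇑Q) := by
    refine ⟨b * d, fun v => ?_⟩
    have h1 := had v
    rw [hKv, Matrix.mulVec_mulVec] at h1
    have h2 : (b : F) * ((b⁻¹ : Fˣ) : F) = 1 := by
      rw [← Units.val_mul, mul_inv_cancel, Units.val_one]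
    rw [Units.val_mul, Units.val_mul, mul_assoc, ← h1, ← mul_assoc, h2, one_mul]
  refine ⟨⟨h * a, hkmem⟩, ?_⟩
  show g.1 * mapGLi σ (h * a) = h * a
  rw [map_mul, haσ, ← mul_assoc, hh]

end Cfsg.Agent.Lib.Helper44_OrthLang
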