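import Mathlib
import Cfsg.Agent.Lib.Helper44_OrthLang
import Cfsg.Agent.Lib.Helper44_OrthFaith

/-!
# Cosets of field automorphisms of `PΩ(Q)`: the generic argument (helper44)

Given Lang's theorem for `GO(Q)` and `Aut(PΩ(Q)) = PΓO(Q)`, an element `δ x` (`x` a field
automorphism of prime order, `δ` inner-diagonal) has the order of `x` iff it is conjugate to `x`
under the image of `GO(Q)`.
-/

set_option autoImplicit false
set_option linter.unusedSectionVars false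
set_option linter.unusedVariables false

namespace Cfsg.Agent.Lib.Helper44_OrthCoset

open Cfsg Matrix Cfsg.Agent.Lib.Helper44_Orth Cfsg.Agent.Lib.Helper14_AutOmega
  Cfsg.Agent.Lib.Helper44_H90i Cfsg.Agent.Lib.Helper44_H90 Cfsg.Agent.Lib.Helper44_OrthField
  Cfsg.Agent.Lib.Helper44_FixField Cfsg.Agent.Lib.Helper44_OrthLang
  Cfsg.Agent.Lib.Helper44_OrthFaith Cfsg.Agent.Lib.Helper14_CentOmega

variable {ι : Type} [Fintype ι] [DecidableEq ι] {F : Type*} [Field F]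

section norms

variable (Q : (ι → F) → F)

theorem PNi_mem_GO (σ : ↥(invSub Q)) (g : ↥(GO Q)) (i : ℕ) : PNi σ.1 g.1 i ∈ GO Q := by
  induction i with
  | zero => rw [PNi_zero]; exact (GO Q).one_mem
  | succ i ih =>
    rw [PNi_succ]
    exact (GO Q).mul_mem ih (map_mem_GO ((invSub Q).pow_mem σ.2 i) g.2)

/-- partial norms in `GO` -/
def PNO (σ : ↥(invSub Q)) (g : ↥(GO Q)) (i : ℕ) : ↥(GO Q) := ⟨PNi σ.1 g.1 i, PNi_mem_GO Q σ g i⟩

theorem PNO_coe (σ : ↥(invSub Q)) (g : ↥(GO Q)) (i : ℕ) : (PNO Q σ g i).1 = PNi σ.1 g.1 i := rfl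

theorem PNO_succ (σ : ↥(invSub Q)) (g : ↥(GO Q)) (i : ℕ) :
    PNO Q σ g (i + 1) = PNO Q σ g i * mapGO Q (σ ^ i) g := by
  apply Subtype.ext
  exact PNi_succ σ.1 g.1 i

theorem pow_Phi_mul_fieldO (σ : ↥(invSub Q)) (g : ↥(GO Q)) (i : ℕ) :
    (Phi Q g * fieldO Q σ) ^ i = Phi Q (PNO Q σ g i) * fieldO Q (σ ^ i) := by
  induction i with
  | zero =>
    have : PNO Q σ g 0 = 1 := by
      apply Subtype.ext
      exact PNi_zero σ.1 g.1
    rw [pow_zero, pow_zero, this, map_one, map_one, one_mul]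
  | succ i ih =>
    rw [pow_succ, ih, PNO_succ, map_mul, pow_succ, map_mul]
    calc Phi Q (PNO Q σ g i) * fieldO Q (σ ^ i) * (Phi Q g * fieldO Q σ)
        = Phi Q (PNO Q σ g i) * (fieldO Q (σ ^ i) * Phi Q g) * fieldO Q σ := by
          simp only [mul_assoc]
      _ = Phi Q (PNO Q σ g i) * (Phi Q (mapGO Q (σ ^ i) g) * fieldO Q (σ ^ i)) * fieldO Q σ := by
          rw [fieldO_mul_Phi]
      _ = _ := by simp only [mul_assoc]

end norms

theorem PNi_scalar_mul' (σ : F ≃+* F) (a : Fˣ) (g : GL ι F) (i : ℕ) :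
    PNi σ (Matrix.GeneralLinearGroup.scalar ι a * g) i
      = Matrix.GeneralLinearGroup.scalar ι (Nm σ i a) * PNi σ g i := by
  induction i with
  | zero => rw [PNi_zero, PNi_zero, Nm_zero, map_one, one_mul]
  | succ i ih =>
    rw [PNi_succ, ih, PNi_succ, Nm_succ, map_mul, map_mul, Matrix.GeneralLinearGroup.map_scalar]
    have hc := Matrix.GeneralLinearGroup.scalar_commute (n := ι) (sigU (σ ^ i) a) (PNi σ g i)
    calc Matrix.GeneralLinearGroup.scalar ι (Nm σ i a) * PNi σ g i *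
          (Matrix.GeneralLinearGroup.scalar ι (sigU (σ ^ i) a) * mapGLi (σ ^ i) g)
        = Matrix.GeneralLinearGroup.scalar ι (Nm σ i a) *
          (PNi σ g i * Matrix.GeneralLinearGroup.scalar ι (sigU (σ ^ i) a)) *
            mapGLi (σ ^ i) g := by simp only [mul_assoc]
      _ = _ := by
          rw [← hc]
          simp only [mul_assoc]

theorem scalarGL_injective' [Nonempty ι] {a b : Fˣ}
    (h : Matrix.GeneralLinearGroup.scalar ι a = Matrix.GeneralLinearGroup.scalar ι b) : a = b := by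
  apply Units.ext
  obtain ⟨i⟩ := ‹Nonempty ι›
  have h1 := congrArg (fun M : GL ι F => M.1 i i) h
  simpa [Matrix.GeneralLinearGroup.coe_scalar] using h1

theorem exists_scalar_of_mem_scalars' {g : GL ι F} (h : g ∈ Cfsg.Geo.scalars ι F) :
    ∃ c : Fˣ, g = Matrix.GeneralLinearGroup.scalar ι c := by
  rw [Cfsg.Geo.mem_scalars_iff] at h
  obtain ⟨c, hc⟩ := h
  refine ⟨c, ?_⟩
  apply Units.ext
  rw [hc, Matrix.GeneralLinearGroup.coe_scalar, Matrix.scalar_apply,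
    ← Matrix.smul_one_eq_diagonal]

section main

variable (Q : QuadraticForm F (ι → F))

/-- scalar similarities -/
def scalarGO (a : Fˣ) : ↥(GO (⇑Q)) :=
  ⟨Matrix.GeneralLinearGroup.scalar ι a, ⟨a * a, fun v => by
    rw [Matrix.GeneralLinearGroup.coe_scalar, Matrix.scalar_apply, ← Matrix.smul_one_eq_diagonal,
      Matrix.smul_mulVec, Matrix.one_mulVec, QuadraticMap.map_smul, Units.val_mul, smul_eq_mul]⟩⟩

theorem scalarGO_coe (a : Fˣ) :
    (scalarGO Q a).1 = Matrix.GeneralLinearGroup.scalar ι a := rfl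

theorem Phi_scalarGO (a : Fˣ) : Phi (⇑Q) (scalarGO Q a) = 1 := by
  apply Phi_eq_one_of_scalar
  rw [Cfsg.Geo.mem_scalars_iff]
  refine ⟨a, ?_⟩
  rw [scalarGO_coe, Matrix.GeneralLinearGroup.coe_scalar, Matrix.scalar_apply,
    ← Matrix.smul_one_eq_diagonal]

variable [Fintype F]

/-- **Field automorphism cosets**: if `(Phi g * fieldO σ) ^ r = 1` with `r = orderOf σ` then
`Phi g * fieldO σ` is conjugate to `fieldO σ` under some `Phi k`. -/
theorem field_coset_conj_o (hQ : (QuadraticMap.polarBilin Q).Nondegenerate)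
    (hn : 5 ≤ Fintype.card ι) (σ : ↥(invSub (⇑Q))) {r : ℕ} (hr : 0 < r)
    (hord : orderOf σ.1 = r)
    (hlang : ∀ g : ↥(GO (⇑Q)), PNi σ.1 g.1 r = 1 → ∃ k : ↥(GO (⇑Q)), g.1 * mapGLi σ.1 k.1 = k.1)
    (g : ↥(GO (⇑Q))) (h : (Phi (⇑Q) g * fieldO (⇑Q) σ) ^ r = 1) :
    ∃ k : ↥(GO (⇑Q)),
      Phi (⇑Q) g * fieldO (⇑Q) σ = Phi (⇑Q) k * fieldO (⇑Q) σ * (Phi (⇑Q) k)⁻¹ := by
  have hne : Nonempty ι := by
    rw [← Fintype.card_pos_iff]; omega
  have hσ : σ.1 ^ r = 1 := by rw [← hord]; exact pow_orderOf_eq_one σ.1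
  have hσ' : σ ^ r = 1 := Subtype.ext (by rw [Subgroup.coe_pow, hσ]; rfl)
  rw [pow_Phi_mul_fieldO, hσ', map_one, mul_one] at h
  have hker : PNO (⇑Q) σ g r ∈ (Phi (⇑Q)).ker := MonoidHom.mem_ker.mpr h
  rw [ker_Phi Q hQ hn, Subgroup.mem_subgroupOf] at hker
  obtain ⟨c, hc⟩ := exists_scalar_of_mem_scalars' hker
  rw [PNO_coe] at hc
  -- `c` is fixed by `σ`
  have hfix : sigU σ.1 c = c := by
    have h1 := PNi_succ' σ.1 g.1 r
    rw [PNi_succ, hσ, mapGLi_one, hc, Matrix.GeneralLinearGroup.map_scalar,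
      Matrix.GeneralLinearGroup.scalar_commute] at h1
    exact (scalarGL_injective' (mul_left_cancel h1)).symm
  obtain ⟨a, ha⟩ := exists_norm_eq σ.1 hr hord c hfix
  set g' : ↥(GO (⇑Q)) := scalarGO Q a⁻¹ * g with hg'
  have hPN : PNi σ.1 g'.1 r = 1 := by
    have : g'.1 = Matrix.GeneralLinearGroup.scalar ι a⁻¹ * g.1 := rfl
    rw [this, PNi_scalar_mul', hc, ← map_mul, map_inv, ha, inv_mul_cancel, map_one]
  obtain ⟨k, hk⟩ := hlang g' hPN
  refine ⟨k, ?_⟩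
  have h1 : Phi (⇑Q) g = Phi (⇑Q) g' := by
    rw [hg', map_mul, Phi_scalarGO, one_mul]
  have hk' : g' * mapGO (⇑Q) σ k = k := Subtype.ext hk
  have h2 : g' = k * (mapGO (⇑Q) σ k)⁻¹ := by
    rw [eq_mul_inv_iff_mul_eq]
    exact hk'
  rw [h1, h2, map_mul, map_inv, mul_assoc, mul_assoc]
  congr 1
  have h3 := fieldO_mul_Phi (⇑Q) σ k
  calc (Phi (⇑Q) (mapGO (⇑Q) σ k))⁻¹ * fieldO (⇑Q) σ
      = (Phi (⇑Q) (mapGO (⇑Q) σ k))⁻¹ * (fieldO (⇑Q) σ * Phi (⇑Q) k) * (Phi (⇑Q) k)⁻¹ := by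
        group
    _ = (Phi (⇑Q) (mapGO (⇑Q) σ k))⁻¹ * (Phi (⇑Q) (mapGO (⇑Q) σ k) * fieldO (⇑Q) σ) *
          (Phi (⇑Q) k)⁻¹ := by rw [h3]
    _ = fieldO (⇑Q) σ * (Phi (⇑Q) k)⁻¹ := by group

theorem isConjUnder_of_conj'' {A : Type*} [Group A] (D : Subgroup A) [hD : D.Normal] (α x δ : A)
    (H : ∃ k ∈ D, (α * δ * α⁻¹) * (α * x * α⁻¹) = k * (α * x * α⁻¹) * k⁻¹) :
    Cfsg.IsConjUnder D x (δ * x) := by
  obtain ⟨k, hk, h⟩ := H
  refine ⟨α⁻¹ * k * α, ?_, ?_⟩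
  · have := hD.conj_mem k hk α⁻¹
    rwa [inv_inv] at this
  · have h1 : δ * x = α⁻¹ * ((α * δ * α⁻¹) * (α * x * α⁻¹)) * α := by group
    rw [h1, h]
    group

/-- the data making the field automorphisms act faithfully -/
def FaithData : Prop :=
  ∃ u w : ι → F, Q u = 0 ∧ Q w = 0 ∧ QuadraticMap.polar (⇑Q) u w = 0 ∧ siegelN (⇑Q) u w ≠ 0 ∧
    (∀ (σ : F ≃+* F) (i : ι), σ (u i) = u i) ∧ (∀ (σ : F ≃+* F) (i : ι), σ (w i) = w i)

theorem fieldO_injective (hQ : (QuadraticMap.polarBilin Q).Nondegenerate)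
    (hn : 5 ≤ Fintype.card ι) (hfd : FaithData Q) : Function.Injective (fieldO (⇑Q)) := by
  rw [injective_iff_map_eq_one]
  intro σ hσ
  obtain ⟨u, w, hu, hw, huw, hN, hfu, hfw⟩ := hfd
  have h1 : fieldO (⇑Q) σ = Phi (⇑Q) 1 := by rw [hσ, map_one]
  have := eq_one_of_fieldO_eq_Phi Q hQ hn σ 1 h1 u w hu hw huw hN (hfu σ.1) (hfw σ.1)
  exact Subtype.ext this

theorem orderOf_fieldO (hQ : (QuadraticMap.polarBilin Q).Nondegenerate)
    (hn : 5 ≤ Fintype.card ι) (hfd : FaithData Q) (σ : ↥(invSub (⇑Q))) :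
    orderOf (fieldO (⇑Q) σ) = orderOf σ.1 := by
  rw [orderOf_injective (fieldO (⇑Q)) (fieldO_injective Q hQ hn hfd) σ, Subgroup.orderOf_coe]

/-- **the coset statement**, generic form -/
theorem coset_conj_generic (hQ : (QuadraticMap.polarBilin Q).Nondegenerate)
    (hn : 5 ≤ Fintype.card ι) (hfd : FaithData Q)
    (hall : ∀ σ : F ≃+* F, SigInv (⇑Q) σ) (hAut : gammaPOmega F (⇑Q) = ⊤)
    (hlang : ∀ (σ : F ≃+* F) (r : ℕ), 0 < r → orderOf σ = r → ∀ g : ↥(GO (⇑Q)),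
      PNi σ g.1 r = 1 → ∃ k : ↥(GO (⇑Q)), g.1 * mapGLi σ k.1 = k.1)
    (x δ : MulAut (POmega F (⇑Q))) (hx : IsFieldAutClassPOmega (⇑Q) x) {r : ℕ} (hr : r.Prime)
    (hxr : orderOf x = r) (hδ : δ ∈ (Phi (⇑Q)).range) :
    orderOf (δ * x) = r ↔ IsConjUnder (Phi (⇑Q)).range x (δ * x) := by
  have htop := stdAut_eq_top (⇑Q) hall hAut
  have hN : (Phi (⇑Q)).range.Normal := Phi_range_normal_of_top (⇑Q) htop
  constructor
  swap
  · rintro ⟨h, -, hh⟩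
    rw [hh, ← MulAut.conj_apply, MulEquiv.orderOf_eq]
    exact hxr
  intro hord
  obtain ⟨α, φ, σ, hσ, hstd, hαx⟩ := hx
  set σ' : ↥(invSub (⇑Q)) := ⟨σ, hall σ⟩ with hσ'
  have hφ : φ = fieldO (⇑Q) σ' := (isFieldAut_iff (⇑Q) σ' φ).mp hstd
  obtain ⟨g, hg⟩ : ∃ g : ↥(GO (⇑Q)), α * δ * α⁻¹ = Phi (⇑Q) g := by
    have := hN.conj_mem δ hδ α
    obtain ⟨g, hg⟩ := this
    exact ⟨g, hg.symm⟩
  apply isConjUnder_of_conj'' _ α
  have hordσ : orderOf σ = r := by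
    have h1 := orderOf_fieldO Q hQ hn hfd σ'
    rw [← hφ, ← hαx, ← MulAut.conj_apply, MulEquiv.orderOf_eq, hxr] at h1
    exact h1.symm
  have hpow : ((α * δ * α⁻¹) * (α * x * α⁻¹)) ^ r = α * (δ * x) ^ r * α⁻¹ := by
    have : (α * δ * α⁻¹) * (α * x * α⁻¹) = α * (δ * x) * α⁻¹ := by group
    rw [this, conj_pow]
  have h1 : (Phi (⇑Q) g * fieldO (⇑Q) σ') ^ r = 1 := by
    rw [← hg, ← hφ, ← hαx, hpow, ← hord, pow_orderOf_eq_one, mul_one, mul_inv_cancel]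
  obtain ⟨k, hk⟩ := field_coset_conj_o Q hQ hn σ' hr.pos hordσ (hlang σ r hr.pos hordσ) g h1
  refine ⟨Phi (⇑Q) k, ⟨k, rfl⟩, ?_⟩
  rw [hg, hαx, hφ]
  exact hk

end main

end Cfsg.Agent.Lib.Helper44_OrthCoset
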