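import Cfsg.Agent.Lib.Helper43_NormForm

set_option autoImplicit false

/-!
Over a finite field `K` with an involutive field automorphism `σ ≠ 1`, every invertible matrix `H`
with `(H ^ σ)ᵀ = H` is of the form `(R ^ σ)ᵀ * R` for a matrix `R` that is a polynomial in `H`; in
particular `R` commutes with every matrix commuting with `H`.
-/

namespace Cfsg.Agent.Lib.Helper43_HermRoot

open Matrix Polynomial
open Cfsg.Agent.Lib.Helper43_NormForm

section star

variable {K : Type*} [Field K] {n : Type*} [Fintype n] [DecidableEq n]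

/-- the conjugate transpose with respect to a field endomorphism -/
def starM (σ : K →+* K) (X : Matrix n n K) : Matrix n n K := (X.map σ)ᵀ

omit [Fintype n] [DecidableEq n] in
theorem starM_add (σ : K →+* K) (X Y : Matrix n n K) :
    starM σ (X + Y) = starM σ X + starM σ Y := by
  unfold starM
  ext i j
  simp

omit [DecidableEq n] in
theorem starM_mul (σ : K →+* K) (X Y : Matrix n n K) :
    starM σ (X * Y) = starM σ Y * starM σ X := by
  unfold starM
  rw [Matrix.map_mul, Matrix.transpose_mul]

omit [Fintype n] [DecidableEq n] in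
theorem starM_smul (σ : K →+* K) (c : K) (X : Matrix n n K) :
    starM σ (c • X) = σ c • starM σ X := by
  unfold starM
  ext i j
  simp

omit [Fintype n] in
theorem starM_one (σ : K →+* K) : starM σ (1 : Matrix n n K) = 1 := by
  unfold starM
  rw [Matrix.map_one σ σ.map_zero σ.map_one, Matrix.transpose_one]

omit [Fintype n] [DecidableEq n] in
theorem starM_starM (σ : K →+* K) (hσ : ∀ x, σ (σ x) = x) (X : Matrix n n K) :
    starM σ (starM σ X) = X := by
  unfold starM
  ext i j
  simp [hσ]

theorem starM_pow (σ : K →+* K) (X : Matrix n n K) (j : ℕ) :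
    starM σ (X ^ j) = (starM σ X) ^ j := by
  induction j with
  | zero => rw [pow_zero, pow_zero, starM_one]
  | succ j ih => rw [pow_succ, starM_mul, ih, pow_succ']

theorem starM_aeval (σ : K →+* K) (X : Matrix n n K) (P : K[X]) :
    starM σ (aeval X P) = aeval (starM σ X) (P.map σ) := by
  induction P using Polynomial.induction_on' with
  | add p q hp hq => rw [map_add, starM_add, hp, hq, Polynomial.map_add, map_add]
  | monomial j c =>
    rw [Polynomial.map_monomial, aeval_monomial, aeval_monomial, starM_mul, starM_pow,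
      Algebra.algebraMap_eq_smul_one, Algebra.algebraMap_eq_smul_one, starM_smul, starM_one]
    rw [smul_mul_assoc, one_mul, mul_smul_comm, mul_one]

theorem commute_aeval {X Y : Matrix n n K} (h : Y * X = X * Y) (P : K[X]) :
    Y * aeval X P = aeval X P * Y := by
  have hc : Commute Y X := h
  induction P using Polynomial.induction_on' with
  | add p q hp hq => rw [map_add, Matrix.mul_add, Matrix.add_mul, hp, hq]
  | monomial j c =>
    rw [aeval_monomial, Algebra.algebraMap_eq_smul_one, smul_mul_assoc, one_mul,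
      Matrix.mul_smul, Matrix.smul_mul, (hc.pow_right j).eq]

end star

section root

variable {K : Type*} [Field K] [Fintype K] {n : Type*} [Fintype n] [DecidableEq n]

/-- every invertible Hermitian matrix is `R* R` with `R` a polynomial in it -/
theorem exists_root (σ : K →+* K) (hσ : ∀ x, σ (σ x) = x) (hne : ∃ l, σ l ≠ l)
    (H : Matrix n n K) (hH : starM σ H = H) (hdet : H.det ≠ 0) :
    ∃ R : Matrix n n K, (∀ Y : Matrix n n K, Y * H = H * Y → Y * R = R * Y) ∧
      starM σ R * R = H := by
  classical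
  obtain ⟨l, hl⟩ := hne
  -- the fixed field
  set k : Subfield K := RingHom.eqLocusField σ (RingHom.id K) with hk
  have hmem : ∀ x : K, x ∈ k ↔ σ x = x := fun x => Iff.rfl
  let t₀ : k := ⟨l + σ l, by rw [hmem, map_add, hσ, add_comm]⟩
  let n₀ : k := ⟨l * σ l, by rw [hmem, map_mul, hσ, mul_comm]⟩
  have hdisc : t₀ ^ 2 - 4 * n₀ ≠ 0 := by
    intro h
    have h1 := congrArg k.subtype h
    rw [map_sub, map_pow, map_mul, map_zero, map_ofNat] at h1
    have h2 : (l + σ l) ^ 2 - 4 * (l * σ l) = 0 := h1
    have h3 : (l - σ l) ^ 2 = 0 := by linear_combination h2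
    have h5 : l - σ l = 0 := by simpa using h3
    exact hl (sub_eq_zero.1 h5).symm
  -- the characteristic polynomial over the fixed field
  have hcp : (H.charpoly).map σ = H.charpoly := by
    rw [← Matrix.charpoly_map, ← Matrix.charpoly_transpose]
    show (starM σ H).charpoly = _
    rw [hH]
  have hlift : H.charpoly ∈ Polynomial.lifts (algebraMap k K) := by
    rw [Polynomial.lifts_iff_coeff_lifts]
    intro j
    have : σ (H.charpoly.coeff j) = H.charpoly.coeff j := by
      conv_rhs => rw [← hcp]
      rw [Polynomial.coeff_map]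
    exact ⟨⟨H.charpoly.coeff j, this⟩, rfl⟩
  obtain ⟨m₀, hm₀⟩ := (Polynomial.mem_lifts _).1 hlift
  have hc0 : m₀.coeff 0 ≠ 0 := by
    intro h
    apply hdet
    rw [Matrix.det_eq_sign_charpoly_coeff, ← hm₀, Polynomial.coeff_map, h, map_zero, mul_zero]
  have hm₀ne : m₀ ≠ 0 := by
    rintro rfl
    exact hc0 (Polynomial.coeff_zero 0)
  have hcop : IsCoprime (X : k[X]) m₀ := by
    refine ⟨-C (m₀.coeff 0)⁻¹ * m₀.divX, C (m₀.coeff 0)⁻¹, ?_⟩
    have h1 := Polynomial.divX_mul_X_add m₀
    have h2 : C (m₀.coeff 0)⁻¹ * C (m₀.coeff 0) = (1 : k[X]) := by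
      rw [← C_mul, inv_mul_cancel₀ hc0, C_1]
    calc -C (m₀.coeff 0)⁻¹ * m₀.divX * X + C (m₀.coeff 0)⁻¹ * m₀
        = -C (m₀.coeff 0)⁻¹ * m₀.divX * X +
            C (m₀.coeff 0)⁻¹ * (m₀.divX * X + C (m₀.coeff 0)) := by rw [h1]
      _ = C (m₀.coeff 0)⁻¹ * C (m₀.coeff 0) := by ring
      _ = 1 := h2
  obtain ⟨A, B, hAB⟩ := exists_nf_dvd t₀ n₀ hdisc m₀ hm₀ne X hcop
  -- map to K[X]
  set Am : K[X] := A.map (algebraMap k K) with hAm
  set Bm : K[X] := B.map (algebraMap k K) with hBm
  have hmapσ : ∀ P : k[X], (P.map (algebraMap k K)).map σ = P.map (algebraMap k K) := by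
    intro P
    rw [Polynomial.map_map]
    congr 1
    ext x
    exact x.2
  have hdvd : H.charpoly ∣ nf (C (l + σ l)) (C (l * σ l)) Am Bm - X := by
    obtain ⟨e, he⟩ := hAB
    refine ⟨e.map (algebraMap k K), ?_⟩
    have := congrArg (Polynomial.map (algebraMap k K)) he
    rw [Polynomial.map_mul, hm₀] at this
    rw [← this]
    unfold nf
    simp only [Polynomial.map_sub, Polynomial.map_add, Polynomial.map_mul, Polynomial.map_pow,
      Polynomial.map_C, Polynomial.map_X]
    rfl
  have hzero : aeval H (nf (C (l + σ l)) (C (l * σ l)) Am Bm - X) = 0 := by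
    obtain ⟨e, he⟩ := hdvd
    rw [he, map_mul, Matrix.aeval_self_charpoly, zero_mul]
  set a : Matrix n n K := aeval H Am with ha
  set b : Matrix n n K := aeval H Bm with hb
  have hab : a * b = b * a := by
    rw [ha, hb, ← map_mul, ← map_mul, mul_comm]
  have hHeq : a ^ 2 + (l + σ l) • (a * b) + (l * σ l) • b ^ 2 = H := by
    unfold nf at hzero
    rw [map_sub, aeval_X, sub_eq_zero] at hzero
    rw [← hzero]
    generalize l + σ l = tK
    generalize l * σ l = nK
    rw [map_add, map_add, map_mul, map_mul, map_mul, map_pow, map_pow, aeval_C, aeval_C,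
      Algebra.algebraMap_eq_smul_one, Algebra.algebraMap_eq_smul_one, smul_mul_assoc,
      smul_mul_assoc, one_mul, smul_mul_assoc, one_mul]
  have hsa : starM σ a = a := by
    rw [ha, starM_aeval, hH, hAm, hmapσ]
  have hsb : starM σ b = b := by
    rw [hb, starM_aeval, hH, hBm, hmapσ]
  refine ⟨a + l • b, ?_, ?_⟩
  · intro Y hY
    rw [Matrix.mul_add, Matrix.add_mul, Matrix.mul_smul, Matrix.smul_mul, ha, hb,
      commute_aeval hY, commute_aeval hY]
  · rw [starM_add, starM_smul, hsa, hsb, ← hHeq]
    rw [Matrix.add_mul, Matrix.mul_add, Matrix.mul_add, Matrix.smul_mul, Matrix.smul_mul,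
      Matrix.mul_smul, Matrix.mul_smul, smul_smul, ← hab, sq, sq]
    rw [add_smul, mul_comm (σ l) l]
    abel

end root

end Cfsg.Agent.Lib.Helper43_HermRoot
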