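import Mathlib
import Cfsg.Agent.Lib.Helper44_H90
import Cfsg.Agent.Lib.Helper44_PSLnOut
import Cfsg.Agent.Lib.Helper43_HermRoot

/-!
# Cosets of field and graph-field automorphisms of `PSL_n(F)` (helper44)

Lang–Steinberg type statements: an element of prime order in the coset `Inndiag · x`
(`x` a standard field or graph-field automorphism) is `Inndiag`-conjugate to `x`.
-/

set_option autoImplicit false
set_option linter.unusedSectionVars false
set_option linter.unusedVariables false
set_option linter.unusedSimpArgs false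

namespace Cfsg.Agent.Lib.Helper44_PSLnLang

open Matrix Cfsg.Agent.Lib.Helper14_PSLAut Cfsg.Agent.Lib.Helper44_PSLnRoot
  Cfsg.Agent.Lib.Helper44_PSLnAut Cfsg.Agent.Lib.Helper44_PSL2Aut Cfsg.Agent.Lib.Helper44_PSLnOut
  Cfsg.Agent.Lib.Helper44_H90

variable {F : Type*} [Field F] {n : ℕ}

local notation "Gn" => Matrix.ProjectiveSpecialLinearGroup (Fin n) F

theorem pow_conjAut_mul_fieldAut (σ : F ≃+* F) (g : GL (Fin n) F) (i : ℕ) :
    (conjAut g * fieldAut σ : MulAut Gn) ^ i = conjAut (PN σ g i) * fieldAut (σ ^ i) := by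
  induction i with
  | zero => rw [pow_zero, pow_zero, PN_zero, map_one, fieldAut_one, one_mul]
  | succ i ih =>
    rw [pow_succ, ih, PN_succ, map_mul, pow_succ, fieldAut_mul]
    calc conjAut (PN σ g i) * fieldAut (σ ^ i) * (conjAut g * fieldAut σ)
        = conjAut (PN σ g i) * (fieldAut (σ ^ i) * conjAut g) * fieldAut σ := by
          simp only [mul_assoc]
      _ = conjAut (PN σ g i) * (conjAut (mapGL (σ ^ i) g) * fieldAut (σ ^ i)) * fieldAut σ := by
          rw [fieldAut_mul_conjAut]
      _ = _ := by simp only [mul_assoc]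

theorem fieldAutHom_injective (hn : 2 ≤ n) :
    Function.Injective (fieldAutHom (n := n) (F := F)) := by
  rw [injective_iff_map_eq_one]
  intro σ h
  apply eq_one_of_fieldAut_eq_conjAut hn σ 1
  rw [map_one]
  exact h

theorem orderOf_fieldAut (hn : 2 ≤ n) (σ : F ≃+* F) :
    orderOf (fieldAut (n := n) σ) = orderOf σ :=
  orderOf_injective (fieldAutHom (n := n) (F := F)) (fieldAutHom_injective hn) σ

theorem scalar_injective (hn : 1 ≤ n) {a b : Fˣ}
    (h : Matrix.GeneralLinearGroup.scalar (Fin n) a = Matrix.GeneralLinearGroup.scalar (Fin n) b) :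
    a = b := by
  apply Units.ext
  have h1 := congrArg (fun M : GL (Fin n) F => M.1 ⟨0, by omega⟩ ⟨0, by omega⟩) h
  simpa [Matrix.GeneralLinearGroup.coe_scalar] using h1

theorem PN_scalar_mul (σ : F ≃+* F) (a : Fˣ) (g : GL (Fin n) F) (i : ℕ) :
    PN σ (Matrix.GeneralLinearGroup.scalar (Fin n) a * g) i
      = Matrix.GeneralLinearGroup.scalar (Fin n) (Nm σ i a) * PN σ g i := by
  induction i with
  | zero => rw [PN_zero, PN_zero, Nm_zero, map_one, one_mul]
  | succ i ih =>
    rw [PN_succ, ih, PN_succ, Nm_succ, map_mul, map_mul, Matrix.GeneralLinearGroup.map_scalar]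
    have hc := Matrix.GeneralLinearGroup.scalar_commute (n := Fin n) (sigU (σ ^ i) a) (PN σ g i)
    calc Matrix.GeneralLinearGroup.scalar (Fin n) (Nm σ i a) * PN σ g i *
          (Matrix.GeneralLinearGroup.scalar (Fin n) (sigU (σ ^ i) a) * mapGL (σ ^ i) g)
        = Matrix.GeneralLinearGroup.scalar (Fin n) (Nm σ i a) *
          (PN σ g i * Matrix.GeneralLinearGroup.scalar (Fin n) (sigU (σ ^ i) a)) *
            mapGL (σ ^ i) g := by simp only [mul_assoc]
      _ = _ := by
          rw [← hc]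
          simp only [mul_assoc]

theorem conjAut_scalar' (a : Fˣ) :
    conjAut (Matrix.GeneralLinearGroup.scalar (Fin n) a) = (1 : MulAut Gn) := by
  rw [conjAut_eq_one_iff]
  exact ⟨a, rfl⟩

/-- **Field automorphism cosets** (standard form): if `(conjAut g * fieldAut σ) ^ r = 1` with
`r = orderOf σ` then `conjAut g * fieldAut σ` is conjugate to `fieldAut σ` under `conjAut k`. -/
theorem field_coset_conj [Finite F] (hn : 2 ≤ n) (σ : F ≃+* F) {r : ℕ} (hr : 0 < r)
    (hord : orderOf σ = r) (g : GL (Fin n) F)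
    (h : (conjAut g * fieldAut σ : MulAut Gn) ^ r = 1) :
    ∃ k : GL (Fin n) F,
      (conjAut g * fieldAut σ : MulAut Gn) = conjAut k * fieldAut σ * (conjAut k)⁻¹ := by
  have hσ : σ ^ r = 1 := by rw [← hord]; exact pow_orderOf_eq_one σ
  rw [pow_conjAut_mul_fieldAut, hσ, fieldAut_one, mul_one, conjAut_eq_one_iff] at h
  obtain ⟨c, hc⟩ := h
  have hc' : Matrix.GeneralLinearGroup.scalar (Fin n) c = PN σ g r := hc
  -- `c` is fixed by `σ`
  have hfix : sigU σ c = c := by
    have h1 := PN_succ' σ g r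
    rw [PN_succ, hσ, mapGL_one, ← hc', Matrix.GeneralLinearGroup.map_scalar,
      Matrix.GeneralLinearGroup.scalar_commute] at h1
    exact (scalar_injective (by omega) (mul_left_cancel h1)).symm
  obtain ⟨a, ha⟩ := exists_norm_eq σ hr hord c hfix
  set g' : GL (Fin n) F := Matrix.GeneralLinearGroup.scalar (Fin n) a⁻¹ * g with hg'
  have hPN : PN σ g' r = 1 := by
    rw [hg', PN_scalar_mul, ← hc', ← map_mul, map_inv, ha, inv_mul_cancel, map_one]
  obtain ⟨k, hk⟩ := hilbert90_GL σ hr hord g' hPN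
  refine ⟨k, ?_⟩
  have h1 : (conjAut g : MulAut Gn) = conjAut g' := by
    rw [hg', map_mul, conjAut_scalar', one_mul]
  have h2 : g' = k * (mapGL σ k)⁻¹ := by
    rw [eq_mul_inv_iff_mul_eq]
    exact hk
  rw [h1, h2, map_mul, ← map_inv (mapGL σ), ← map_inv conjAut k, mul_assoc, mul_assoc,
    fieldAut_mul_conjAut]


/-! ### graph-field automorphisms -/

theorem glT_inv_inv (k : GL (Fin n) F) : (glT k⁻¹)⁻¹ = glT k := by
  apply Units.ext
  rw [glT_inv_coe, inv_inv]
  rfl

theorem itAut_mul_conjAut (k : GL (Fin n) F) :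
    (itAut : MulAut Gn) * conjAut k = conjAut (glT k)⁻¹ * itAut := by
  rw [← itAut_conj, inv_mul_cancel_right]

/-- conjugating a standard graph-field automorphism by an inner-diagonal one -/
theorem conj_graphField (σ : F ≃+* F) (k : GL (Fin n) F) :
    (conjAut k * (fieldAut σ * itAut) * (conjAut k)⁻¹ : MulAut Gn)
      = conjAut (k * mapGL σ (glT k)) * (fieldAut σ * itAut) := by
  rw [← map_inv]
  calc (conjAut k * (fieldAut σ * itAut) * conjAut k⁻¹ : MulAut Gn)
      = conjAut k * fieldAut σ * (itAut * conjAut k⁻¹) := by simp only [mul_assoc]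
    _ = conjAut k * fieldAut σ * (conjAut (glT k) * itAut) := by
        rw [itAut_mul_conjAut, glT_inv_inv]
    _ = conjAut k * (fieldAut σ * conjAut (glT k)) * itAut := by simp only [mul_assoc]
    _ = conjAut k * (conjAut (mapGL σ (glT k)) * fieldAut σ) * itAut := by
        rw [fieldAut_mul_conjAut]
    _ = _ := by
        rw [map_mul]
        simp only [mul_assoc]

theorem sq_graphField (σ : F ≃+* F) (g : GL (Fin n) F) :
    (conjAut g * (fieldAut σ * itAut) : MulAut Gn) ^ 2
      = conjAut (g * (mapGL σ (glT g))⁻¹) * fieldAut (σ * σ) := by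
  rw [pow_two]
  calc (conjAut g * (fieldAut σ * itAut) * (conjAut g * (fieldAut σ * itAut)) : MulAut Gn)
      = conjAut g * fieldAut σ * (itAut * conjAut g) * (fieldAut σ * itAut) := by
        simp only [mul_assoc]
    _ = conjAut g * fieldAut σ * (conjAut (glT g)⁻¹ * itAut) * (fieldAut σ * itAut) := by
        rw [itAut_mul_conjAut]
    _ = conjAut g * (fieldAut σ * conjAut (glT g)⁻¹) * (itAut * fieldAut σ) * itAut := by
        simp only [mul_assoc]
    _ = conjAut g * (conjAut (mapGL σ (glT g)⁻¹) * fieldAut σ) * (fieldAut σ * itAut) * itAut := by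
        rw [fieldAut_mul_conjAut, itAut_mul_fieldAut]
    _ = conjAut g * conjAut (mapGL σ (glT g)⁻¹) * (fieldAut σ * fieldAut σ) * (itAut * itAut) := by
        simp only [mul_assoc]
    _ = _ := by
        rw [Cfsg.Agent.Lib.Helper44_PSLnFrame.itAut_mul_self, mul_one, ← fieldAut_mul, ← map_mul,
          map_inv]


open Cfsg.Agent.Lib.Helper43_HermRoot in
/-- **Graph-field automorphism cosets** (standard form). -/
theorem graphField_coset_conj [Fintype F] (hn : 1 ≤ n) (σ : F ≃+* F) (hσ1 : σ ≠ 1)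
    (hσ2 : σ * σ = 1) (g : GL (Fin n) F)
    (h : (conjAut g * (fieldAut σ * itAut) : MulAut Gn) ^ 2 = 1) :
    ∃ k : GL (Fin n) F, (conjAut g * (fieldAut σ * itAut) : MulAut Gn)
      = conjAut k * (fieldAut σ * itAut) * (conjAut k)⁻¹ := by
  classical
  rw [sq_graphField, hσ2, fieldAut_one, mul_one, conjAut_eq_one_iff] at h
  obtain ⟨c, hc⟩ := h
  have hc' : Matrix.GeneralLinearGroup.scalar (Fin n) c = g * (mapGL σ (glT g))⁻¹ := hc
  have hg : g = Matrix.GeneralLinearGroup.scalar (Fin n) c * mapGL σ (glT g) := by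
    rw [hc', inv_mul_cancel_right]
  set τ : F →+* F := (σ : F →+* F) with hτdef
  have hτ : ∀ x, τ (τ x) = x := by
    intro x
    have := DFunLike.congr_fun hσ2 x
    exact this
  have hM : g.1 = (c : F) • starM τ g.1 := by
    have h1 := congrArg Units.val hg
    rw [Units.val_mul, Matrix.GeneralLinearGroup.coe_scalar, mapGL_coe, glT_coe,
      Matrix.scalar_apply, ← Matrix.smul_eq_diagonal_mul] at h1
    have h2 : (g.1ᵀ).map σ = starM τ g.1 := rfl
    rw [h2] at h1
    exact h1
  have hS : starM τ g.1 = τ (c : F) • g.1 := by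
    conv_lhs => rw [hM]
    rw [starM_smul, starM_starM τ hτ]
  have hcc : (c : F) * τ (c : F) = 1 := by
    have hne : g.1 ≠ 0 := by
      intro h0
      have hd := g.det_ne_zero
      have : Nonempty (Fin n) := ⟨⟨0, by omega⟩⟩
      rw [h0, Matrix.det_zero] at hd
      exact hd rfl
    obtain ⟨i, j, hij⟩ : ∃ i j, g.1 i j ≠ 0 := by
      by_contra hcon
      push Not at hcon
      apply hne
      ext i j
      exact hcon i j
    have h1 := hM
    rw [hS, smul_smul] at h1
    have h2 := congrFun (congrFun h1 i) j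
    rw [Matrix.smul_apply, smul_eq_mul] at h2
    have h3 : ((c : F) * τ (c : F) - 1) * g.1 i j = 0 := by
      rw [sub_mul, one_mul, ← h2, sub_self]
    rcases mul_eq_zero.mp h3 with h4 | h4
    · exact sub_eq_zero.mp h4
    · exact absurd h4 hij
  have hord : orderOf σ = 2 := by
    have : Fact (Nat.Prime 2) := ⟨Nat.prime_two⟩
    apply orderOf_eq_prime
    · rw [pow_two]; exact hσ2
    · exact hσ1
  have hNm : Nm σ 2 c = 1 := by
    rw [Nm_succ, Nm_succ, Nm_zero, one_mul, pow_zero, pow_one, sigU_one]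
    apply Units.ext
    exact hcc
  obtain ⟨b, hb⟩ := hilbert90_units σ (by norm_num) hord c hNm
  have hb' : (c : F) * τ (b : F) = (b : F) := congrArg Units.val hb
  set β : Fˣ := sigU σ b with hβ
  have hβv : (β : F) = τ (b : F) := rfl
  have hτβ : τ (β : F) = (b : F) := by rw [hβv, hτ]
  have hcb : τ (c : F) * (b : F) = (β : F) := by
    have := congrArg τ hb'
    rw [map_mul, hτ] at this
    rw [hβv]
    exact this
  set H : Matrix (Fin n) (Fin n) F := (β : F) • g.1 with hHdef
  have hH : starM τ H = H := by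
    rw [hHdef, starM_smul, hS, smul_smul, hτβ, mul_comm, hcb]
  have hdet : H.det ≠ 0 := by
    rw [hHdef, Matrix.det_smul]
    exact mul_ne_zero (pow_ne_zero _ β.ne_zero) g.det_ne_zero
  have hne : ∃ l, τ l ≠ l := by
    by_contra hcon
    push Not at hcon
    apply hσ1
    ext x
    exact hcon x
  obtain ⟨R, -, hR⟩ := exists_root τ hτ hne H hH hdet
  set K : Matrix (Fin n) (Fin n) F := starM τ R with hK
  have hKdet : K.det ≠ 0 := by
    intro h0
    apply hdet
    rw [← hR, Matrix.det_mul, h0, zero_mul]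
  set k : GL (Fin n) F := Matrix.GeneralLinearGroup.mkOfDetNeZero K hKdet with hk
  have hkv : k.1 = K := rfl
  have hkk : k * mapGL σ (glT k) = Matrix.GeneralLinearGroup.scalar (Fin n) β * g := by
    apply Units.ext
    rw [Units.val_mul, Units.val_mul, Matrix.GeneralLinearGroup.coe_scalar, mapGL_coe, glT_coe,
      Matrix.scalar_apply, ← Matrix.smul_eq_diagonal_mul, hkv]
    have : (Kᵀ).map σ = starM τ K := rfl
    rw [this, hK, starM_starM τ hτ, hR]
  refine ⟨k, ?_⟩
  rw [conj_graphField, hkk, map_mul, conjAut_scalar', one_mul]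


/-! ### reduction of classes to standard form -/

theorem eq_fieldAut_of_isStd {σ : F ≃+* F} {β : MulAut Gn} (h : Cfsg.IsStdFieldAutPSL σ β) :
    β = fieldAut σ := by
  ext x
  obtain ⟨s, rfl⟩ := Cfsg.Agent.Lib.Helper44_PSLnTv.proj_surjective x
  exact h s (fieldSL σ s) rfl

theorem isConjUnder_of_conj {A : Type*} [Group A] (D : Subgroup A) [hD : D.Normal] (α x δ : A)
    (H : ∃ k ∈ D, (α * δ * α⁻¹) * (α * x * α⁻¹) = k * (α * x * α⁻¹) * k⁻¹) :
    Cfsg.IsConjUnder D x (δ * x) := by
  obtain ⟨k, hk, h⟩ := H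
  refine ⟨α⁻¹ * k * α, ?_, ?_⟩
  · have := hD.conj_mem k hk α⁻¹
    rwa [inv_inv] at this
  · have h1 : δ * x = α⁻¹ * ((α * δ * α⁻¹) * (α * x * α⁻¹)) * α := by group
    rw [h1, h]
    group

theorem itAut_pow_odd (m : ℕ) : (itAut : MulAut Gn) ^ (2 * m + 1) = itAut := by
  rw [pow_succ, pow_mul, pow_two, Cfsg.Agent.Lib.Helper44_PSLnFrame.itAut_mul_self, one_pow,
    one_mul]

/-- a standard graph-field automorphism of prime order has order 2 and comes from an involution
of the field -/
theorem graphField_order (hn : 3 ≤ n) (σ : F ≃+* F) {r : ℕ} (hr : r.Prime)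
    (h : orderOf (fieldAut σ * itAut : MulAut Gn) = r) : r = 2 ∧ σ * σ = 1 := by
  have hcomm : Commute (fieldAut (n := n) σ) itAut := (itAut_mul_fieldAut σ).symm
  have hpow : ∀ i : ℕ, (fieldAut σ * itAut : MulAut Gn) ^ i = fieldAut (σ ^ i) * itAut ^ i := by
    intro i
    rw [hcomm.mul_pow, ← fieldAutHom_apply, ← map_pow]
    rfl
  have h1 : (fieldAut σ * itAut : MulAut Gn) ^ r = 1 := by
    rw [← h]
    exact pow_orderOf_eq_one _
  have hr2 : r = 2 := by
    rcases hr.eq_two_or_odd' with h2 | ⟨m, hm⟩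
    · exact h2
    · exfalso
      rw [hpow, hm, itAut_pow_odd] at h1
      have := fieldAut_mul_itAut_ne hn (σ ^ (2 * m + 1)) 1
      rw [map_one] at this
      exact this h1
  refine ⟨hr2, ?_⟩
  rw [hr2, hpow, pow_two (itAut : MulAut Gn), Cfsg.Agent.Lib.Helper44_PSLnFrame.itAut_mul_self,
    mul_one] at h1
  have h3 := fieldAutHom_injective (n := n) (F := F) (by omega)
    (show fieldAutHom (n := n) (σ ^ 2) = fieldAutHom 1 by rw [map_one]; exact h1)
  rw [← pow_two]
  exact h3

end Cfsg.Agent.Lib.Helper44_PSLnLang
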