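import Mathlib
import Cfsg.Agent.Lib.Helper44_PSLnOut

/-!
# The outer automorphism group of `PSL_n(F)`, `n ≥ 3` (helper44)
-/

set_option autoImplicit false
set_option linter.unusedSectionVars false
set_option linter.unusedVariables false
set_option linter.unusedSimpArgs false

namespace Cfsg.Agent.Lib.Helper44_PSLnOut2

open Matrix Cfsg.Agent.Lib.Helper14_PSLAut Cfsg.Agent.Lib.Helper44_PSLnRoot
  Cfsg.Agent.Lib.Helper44_PSLnAut Cfsg.Agent.Lib.Helper44_PSL2Aut Cfsg.Agent.Lib.Helper44_PSLnOut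

variable {F : Type*} [Field F] {n : ℕ}

local notation "Gn" => Matrix.ProjectiveSpecialLinearGroup (Fin n) F

/-! ### which inner-diagonal automorphisms are inner -/

theorem exists_toGL_of_det_eq_one (g : GL (Fin n) F) (h : Matrix.GeneralLinearGroup.det g = 1) :
    ∃ s : Matrix.SpecialLinearGroup (Fin n) F, Matrix.SpecialLinearGroup.toGL s = g := by
  refine ⟨⟨g.1, ?_⟩, Units.ext rfl⟩
  have := congrArg Units.val h
  simpa using this

theorem conjAut_scalar (a : Fˣ) :
    conjAut (Matrix.GeneralLinearGroup.scalar (Fin n) a) = (1 : MulAut Gn) := by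
  rw [conjAut_eq_one_iff]
  exact ⟨a, rfl⟩

theorem conjAut_mem_Inn_of_det (g : GL (Fin n) F) (a : Fˣ)
    (h : Matrix.GeneralLinearGroup.det g = a ^ n) : conjAut g ∈ Cfsg.Inn Gn := by
  have h1 : Matrix.GeneralLinearGroup.det (g * (Matrix.GeneralLinearGroup.scalar (Fin n) a)⁻¹) = 1 := by
    rw [map_mul, map_inv, Matrix.GeneralLinearGroup.det_scalar, Fintype.card_fin, h, mul_inv_cancel]
  obtain ⟨s, hs⟩ := exists_toGL_of_det_eq_one _ h1
  have h2 : conjAut g = conjAut (Matrix.SpecialLinearGroup.toGL s) := by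
    rw [hs, map_mul, map_inv, conjAut_scalar, inv_one, mul_one]
  rw [h2, ← conj_mk_eq]
  exact ⟨_, rfl⟩

theorem det_of_conjAut_mem_Inn (g : GL (Fin n) F) (h : conjAut g ∈ Cfsg.Inn Gn) :
    ∃ a : Fˣ, Matrix.GeneralLinearGroup.det g = a ^ n := by
  obtain ⟨x, hx⟩ := h
  obtain ⟨s, rfl⟩ := QuotientGroup.mk_surjective x
  rw [conj_mk_eq, conjAut_eq_iff] at hx
  obtain ⟨a, ha⟩ := hx
  refine ⟨a⁻¹, ?_⟩
  have h1 : Matrix.GeneralLinearGroup.scalar (Fin n) a = g⁻¹ * Matrix.SpecialLinearGroup.toGL s := ha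
  have h2 := congrArg Matrix.GeneralLinearGroup.det h1
  rw [Matrix.GeneralLinearGroup.det_scalar, Fintype.card_fin, map_mul, map_inv] at h2
  have h3 : Matrix.GeneralLinearGroup.det (Matrix.SpecialLinearGroup.toGL s) = 1 := by
    apply Units.ext
    simp
  rw [h3, mul_one] at h2
  rw [inv_pow, h2, inv_inv]


/-! ### the diagonal homomorphism -/

/-- diagonal matrices as a homomorphism -/
def diagGLHom : (Fin n → Fˣ) →* GL (Fin n) F where
  toFun := diagGL
  map_one' := by
    apply Units.ext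
    rw [diagGL_coe]
    simp
  map_mul' d d' := by
    apply Units.ext
    rw [Units.val_mul, diagGL_coe, diagGL_coe, diagGL_coe, Matrix.diagonal_mul_diagonal]
    rfl

theorem det_diagGL (d : Fin n → Fˣ) : Matrix.GeneralLinearGroup.det (diagGL d) = ∏ i, d i := by
  apply Units.ext
  rw [Matrix.GeneralLinearGroup.val_det_apply, diagGL_coe, Matrix.det_diagonal]
  simp

/-- `diag(c, 1, …, 1)` -/
def dHom (i0 : Fin n) : Fˣ →* GL (Fin n) F :=
  diagGLHom.comp (MonoidHom.mulSingle (fun _ : Fin n => Fˣ) i0)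

theorem det_dHom (i0 : Fin n) (c : Fˣ) : Matrix.GeneralLinearGroup.det (dHom i0 c) = c := by
  show Matrix.GeneralLinearGroup.det (diagGL (Pi.mulSingle i0 c)) = c
  rw [det_diagGL, Fintype.prod_pi_mulSingle']

/-- the diagonal outer automorphisms -/
def deltaHom (i0 : Fin n) : Fˣ →* Cfsg.Out (Matrix.ProjectiveSpecialLinearGroup (Fin n) F) :=
  (QuotientGroup.mk' (Cfsg.Inn Gn)).comp (conjAut.comp (dHom i0))

theorem deltaHom_apply (i0 : Fin n) (c : Fˣ) :
    deltaHom i0 c = QuotientGroup.mk (conjAut (dHom i0 c)) := rfl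

theorem mk_conjAut_eq_deltaHom (i0 : Fin n) (g : GL (Fin n) F) :
    (QuotientGroup.mk (conjAut g) : Cfsg.Out Gn) = deltaHom i0 (Matrix.GeneralLinearGroup.det g) := by
  rw [deltaHom_apply, QuotientGroup.eq, ← map_inv, ← map_mul]
  apply conjAut_mem_Inn_of_det _ 1
  rw [map_mul, map_inv, det_dHom, inv_mul_cancel, one_pow]

theorem deltaHom_ker (i0 : Fin n) :
    (deltaHom (F := F) i0).ker = (powMonoidHom n : Fˣ →* Fˣ).range := by
  ext c
  rw [MonoidHom.mem_ker, deltaHom_apply, QuotientGroup.eq_one_iff]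
  constructor
  · intro h
    obtain ⟨a, ha⟩ := det_of_conjAut_mem_Inn _ h
    rw [det_dHom] at ha
    exact ⟨a, ha.symm⟩
  · rintro ⟨a, rfl⟩
    apply conjAut_mem_Inn_of_det _ a
    rw [det_dHom]
    rfl

theorem card_deltaHom_range [Fintype F] {p f : ℕ} (hF : Fintype.card F = p ^ f) (i0 : Fin n) :
    Nat.card (deltaHom (F := F) i0).range = Nat.gcd n (p ^ f - 1) := by
  rw [← Subgroup.index_ker, deltaHom_ker, IsCyclic.index_powMonoidHom_range, Nat.card_units,
    Nat.card_eq_fintype_card, hF, Nat.gcd_comm]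

/-! ### the main theorem -/

/-- **Outer automorphism group of `PSL_n(q)`, `n ≥ 3`.** -/
theorem out_structure [Fintype F] {p f : ℕ} [hp : Fact p.Prime] (hF : Fintype.card F = p ^ f)
    (hn : 3 ≤ n) :
    ∃ φ : Cfsg.Out (Matrix.ProjectiveSpecialLinearGroup (Fin n) F) →*
        Multiplicative (ZMod f × ZMod 2),
      Function.Surjective φ ∧ IsCyclic φ.ker ∧ Nat.card φ.ker = Nat.gcd n (p ^ f - 1) := by
  classical
  have hN : (DD n F).Normal := DD_normal hF (by omega)
  obtain ⟨e⟩ := Cfsg.Agent.Lib.Helper42_AutPSL2.ringAut_mulEquiv hF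
  let T : RingAut F × Multiplicative (ZMod 2) ≃*
      MulAut (Matrix.ProjectiveSpecialLinearGroup (Fin n) F) ⧸ DD n F :=
    MulEquiv.ofBijective Theta ⟨Theta_injective hn, Theta_surjective hF (by omega)⟩
  let E : RingAut F × Multiplicative (ZMod 2) ≃* Multiplicative (ZMod f × ZMod 2) :=
    (MulEquiv.prodCongr e (MulEquiv.refl _)).trans (MulEquiv.prodMultiplicative _ _).symm
  let Ψ : MulAut (Matrix.ProjectiveSpecialLinearGroup (Fin n) F) →*
      Multiplicative (ZMod f × ZMod 2) :=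
    (T.symm.trans E).toMonoidHom.comp (QuotientGroup.mk' (DD n F))
  have hΨ : ∀ β, Ψ β = 1 ↔ β ∈ DD n F := by
    intro β
    show (T.symm.trans E) (QuotientGroup.mk β) = 1 ↔ _
    rw [MulEquiv.map_eq_one_iff, QuotientGroup.eq_one_iff]
  have hΨs : Function.Surjective Ψ := by
    intro y
    obtain ⟨β, hβ⟩ := QuotientGroup.mk_surjective ((T.symm.trans E).symm y)
    refine ⟨β, ?_⟩
    show (T.symm.trans E) (QuotientGroup.mk β) = y
    rw [hβ, MulEquiv.apply_symm_apply]
  have hInn : Cfsg.Inn Gn ≤ Ψ.ker := by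
    rintro _ ⟨x, rfl⟩
    obtain ⟨s, rfl⟩ := QuotientGroup.mk_surjective x
    rw [MonoidHom.mem_ker, hΨ, conj_mk_eq]
    exact conjAut_mem_DD _
  let φ : Cfsg.Out Gn →* Multiplicative (ZMod f × ZMod 2) :=
    QuotientGroup.lift (Cfsg.Inn Gn) Ψ hInn
  have φ_mk : ∀ β : MulAut Gn, φ (QuotientGroup.mk β) = Ψ β := fun β => rfl
  set i0 : Fin n := ⟨0, by omega⟩ with hi0
  have hker : φ.ker = (deltaHom (F := F) i0).range := by
    ext x
    obtain ⟨β, rfl⟩ := QuotientGroup.mk_surjective x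
    rw [MonoidHom.mem_ker, φ_mk, hΨ]
    constructor
    · rintro ⟨g, rfl⟩
      exact ⟨_, (mk_conjAut_eq_deltaHom i0 g).symm⟩
    · rintro ⟨c, hc⟩
      rw [deltaHom_apply, QuotientGroup.eq] at hc
      obtain ⟨y, hy⟩ := hc
      obtain ⟨s, rfl⟩ := QuotientGroup.mk_surjective y
      rw [conj_mk_eq] at hy
      have : β = conjAut (dHom i0 c) * conjAut (Matrix.SpecialLinearGroup.toGL s) := by
        rw [hy, mul_inv_cancel_left]
      rw [this]
      exact Subgroup.mul_mem _ (conjAut_mem_DD _) (conjAut_mem_DD _)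
  refine ⟨φ, ?_, ?_, ?_⟩
  · intro y
    obtain ⟨β, hβ⟩ := hΨs y
    exact ⟨QuotientGroup.mk β, hβ⟩
  · rw [hker]
    exact isCyclic_of_surjective (deltaHom (F := F) i0).rangeRestrict
      (deltaHom (F := F) i0).rangeRestrict_surjective
  · rw [hker]
    exact card_deltaHom_range hF i0

end Cfsg.Agent.Lib.Helper44_PSLnOut2
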