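import Mathlib
import Cfsg.Agent.Lib.Helper44_PSLnLang
import Cfsg.Agent.Lib.Helper44_PSLnOut2
import Cfsg.Agent.Lib.Helper44_FixField

/-!
# Centralizers and class splitting of field automorphisms of `PSL_n(F)` (helper44)
-/

set_option autoImplicit false
set_option linter.unusedSectionVars false
set_option linter.unusedVariables false
set_option linter.unusedSimpArgs false
set_option linter.style.haveILetI false

namespace Cfsg.Agent.Lib.Helper44_PSLnFieldCent

open Matrix Cfsg.Agent.Lib.Helper14_PSLAut Cfsg.Agent.Lib.Helper44_PSLnRoot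
  Cfsg.Agent.Lib.Helper44_PSLnAut Cfsg.Agent.Lib.Helper44_PSL2Aut Cfsg.Agent.Lib.Helper44_PSLnOut
  Cfsg.Agent.Lib.Helper44_PSLnOut2 Cfsg.Agent.Lib.Helper44_H90 Cfsg.Agent.Lib.Helper44_PSLnLang

variable {F : Type*} [Field F] {n : ℕ}

local notation "Gn" => Matrix.ProjectiveSpecialLinearGroup (Fin n) F

section embed

variable {F₀ : Type*} [Field F₀] (σ : F ≃+* F) (ι : F₀ →+* F)
  (hι : ∀ a : F, σ a = a ↔ a ∈ Set.range ι)

include hι in
theorem mapGL_map (k : GL (Fin n) F₀) :
    mapGL σ (Matrix.GeneralLinearGroup.map ι k) = Matrix.GeneralLinearGroup.map ι k := by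
  apply Units.ext
  ext i j
  show σ (ι (k.1 i j)) = ι (k.1 i j)
  exact (hι _).mpr ⟨_, rfl⟩

include hι in
theorem exists_map_of_fixed (g : GL (Fin n) F) (h : mapGL σ g = g) :
    ∃ k : GL (Fin n) F₀, Matrix.GeneralLinearGroup.map ι k = g := by
  have h1 : ∀ i j, ∃ b : F₀, ι b = g.1 i j := by
    intro i j
    have h2 : σ (g.1 i j) = g.1 i j := by
      have := congrArg (fun M : GL (Fin n) F => M.1 i j) h
      exact this
    exact (hι _).mp h2
  choose kM hkM using h1
  have hmap : (Matrix.of kM).map ι = g.1 := by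
    ext i j
    exact hkM i j
  have hdet : (Matrix.of kM).det ≠ 0 := by
    intro h0
    have h2 : ι (Matrix.of kM).det = g.1.det := by
      rw [RingHom.map_det, RingHom.mapMatrix_apply, hmap]
    rw [h0, map_zero] at h2
    exact g.det_ne_zero h2.symm
  refine ⟨Matrix.GeneralLinearGroup.mkOfDetNeZero (Matrix.of kM) hdet, ?_⟩
  apply Units.ext
  exact hmap

end embed

/-! ### the centralizer of a standard field automorphism in the inner-diagonal group -/

theorem mapGL_pow_of_scalar (σ : F ≃+* F) (g : GL (Fin n) F) (c : Fˣ)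
    (h : mapGL σ g = Matrix.GeneralLinearGroup.scalar (Fin n) c * g) (i : ℕ) :
    mapGL (σ ^ i) g = Matrix.GeneralLinearGroup.scalar (Fin n) (Nm σ i c) * g := by
  induction i with
  | zero => rw [pow_zero, mapGL_one, Nm_zero, map_one, one_mul]
  | succ i ih =>
    rw [pow_succ, mapGL_mul, h, map_mul, ih, Matrix.GeneralLinearGroup.map_scalar, Nm_succ,
      ← mul_assoc, ← map_mul, mul_comm]
    rfl

/-- an inner-diagonal automorphism commuting with `fieldAut σ` comes from a `σ`-fixed matrix -/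
theorem fixed_of_commute (hn : 1 ≤ n) (σ : F ≃+* F) {r : ℕ} (hr : 0 < r) (hord : orderOf σ = r)
    (g : GL (Fin n) F)
    (h : (fieldAut σ * conjAut g : MulAut Gn) = conjAut g * fieldAut σ) :
    ∃ b : Fˣ, mapGL σ (Matrix.GeneralLinearGroup.scalar (Fin n) b * g)
      = Matrix.GeneralLinearGroup.scalar (Fin n) b * g := by
  have hσ : σ ^ r = 1 := by rw [← hord]; exact pow_orderOf_eq_one σ
  rw [fieldAut_mul_conjAut] at h
  have h1 := mul_right_cancel h
  rw [conjAut_eq_iff] at h1
  obtain ⟨c, hc⟩ := h1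
  have hc' : Matrix.GeneralLinearGroup.scalar (Fin n) c = g⁻¹ * mapGL σ g := hc
  have h2 : mapGL σ g = Matrix.GeneralLinearGroup.scalar (Fin n) c * g := by
    rw [Matrix.GeneralLinearGroup.scalar_commute, hc', mul_inv_cancel_left]
  have h3 := mapGL_pow_of_scalar σ g c h2 r
  rw [hσ, mapGL_one] at h3
  have h4 : Matrix.GeneralLinearGroup.scalar (Fin n) (Nm σ r c)
      = Matrix.GeneralLinearGroup.scalar (Fin n) 1 := by
    rw [map_one]
    exact (mul_eq_right.mp h3.symm)
  have h5 := scalar_injective hn h4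
  obtain ⟨b, hb⟩ := hilbert90_units σ hr hord c h5
  refine ⟨b, ?_⟩
  rw [map_mul, h2, Matrix.GeneralLinearGroup.map_scalar, ← mul_assoc, ← map_mul]
  congr 2
  rw [mul_comm]
  exact hb


section cent

variable {F₀ : Type*} [Field F₀] (σ : F ≃+* F) (ι : F₀ →+* F)
  (hι : ∀ a : F, σ a = a ↔ a ∈ Set.range ι)

/-- the centralizer of `fieldAut σ` in the inner-diagonal group -/
abbrev CD (n : ℕ) (σ : F ≃+* F) :
    Subgroup (MulAut (Matrix.ProjectiveSpecialLinearGroup (Fin n) F)) :=
  DD n F ⊓ Subgroup.centralizer {fieldAut σ}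

theorem mem_CD_iff (y : MulAut Gn) :
    y ∈ CD n σ ↔ y ∈ DD n F ∧ fieldAut σ * y = y * fieldAut σ := by
  rw [Subgroup.mem_inf, Subgroup.mem_centralizer_iff]
  simp only [Set.mem_singleton_iff, forall_eq]

/-- subfield matrices acting on `PSL_n(F)` -/
def Phi : GL (Fin n) F₀ →* MulAut (Matrix.ProjectiveSpecialLinearGroup (Fin n) F) :=
  conjAut.comp (Matrix.GeneralLinearGroup.map ι)

theorem Phi_apply (k : GL (Fin n) F₀) :
    Phi (F := F) ι k = conjAut (Matrix.GeneralLinearGroup.map ι k) := rfl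

include hι in
theorem Phi_mem (k : GL (Fin n) F₀) : Phi (F := F) ι k ∈ CD n σ := by
  rw [mem_CD_iff]
  refine ⟨conjAut_mem_DD _, ?_⟩
  rw [Phi_apply, fieldAut_mul_conjAut, mapGL_map σ ι hι]

theorem Phi_ker (hn : 1 ≤ n) : (Phi (F := F) (n := n) ι).ker = Subgroup.center (GL (Fin n) F₀) := by
  ext k
  rw [MonoidHom.mem_ker, Phi_apply, conjAut_eq_one_iff, Cfsg.Geo.mem_scalars_iff,
    Matrix.GeneralLinearGroup.center_eq_range_scalar]
  constructor
  · rintro ⟨c, hc⟩
    have hent : ∀ i j, ι (k.1 i j) = if i = j then (c : F) else 0 := by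
      intro i j
      have := congrFun (congrFun hc i) j
      rw [Matrix.smul_apply, Matrix.one_apply, smul_eq_mul, mul_ite, mul_one, mul_zero] at this
      exact this
    set i0 : Fin n := ⟨0, by omega⟩ with hi0
    have hd : ι (k.1 i0 i0) = (c : F) := by rw [hent, if_pos rfl]
    have hd0 : k.1 i0 i0 ≠ 0 := by
      intro h0
      rw [h0, map_zero] at hd
      exact c.ne_zero hd.symm
    refine ⟨Units.mk0 _ hd0, ?_⟩
    apply Units.ext
    rw [Matrix.GeneralLinearGroup.coe_scalar, Matrix.scalar_apply]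
    ext i j
    by_cases hij : i = j
    · subst hij
      rw [Matrix.diagonal_apply_eq, Units.val_mk0]
      apply ι.injective
      rw [hd, hent, if_pos rfl]
    · rw [Matrix.diagonal_apply_ne _ hij]
      apply ι.injective
      rw [hent, if_neg hij, map_zero]
  · rintro ⟨u, rfl⟩
    refine ⟨Units.map (ι : F₀ →* F) u, ?_⟩
    rw [Matrix.GeneralLinearGroup.map_scalar, Matrix.GeneralLinearGroup.coe_scalar,
      Matrix.scalar_apply, Matrix.smul_one_eq_diagonal]

include hι in
theorem Phi_range (hn : 1 ≤ n) {r : ℕ} (hr : 0 < r) (hord : orderOf σ = r)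
    (y : MulAut Gn) (hy : y ∈ CD n σ) : ∃ k : GL (Fin n) F₀, Phi (F := F) ι k = y := by
  rw [mem_CD_iff] at hy
  obtain ⟨⟨g, rfl⟩, hcomm⟩ := hy
  obtain ⟨b, hb⟩ := fixed_of_commute hn σ hr hord g hcomm
  obtain ⟨k, hk⟩ := exists_map_of_fixed σ ι hι _ hb
  refine ⟨k, ?_⟩
  rw [Phi_apply, hk, map_mul, conjAut_scalar', one_mul]

include hι in
/-- `C_{Inndiag}(field automorphism) ≅ PGL_n(F₀)` -/
theorem nonempty_centEquiv (hn : 1 ≤ n) {r : ℕ} (hr : 0 < r) (hord : orderOf σ = r) :
    Nonempty (↥(CD n σ) ≃* Matrix.ProjGenLinGroup (Fin n) F₀) := by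
  let Φ' : GL (Fin n) F₀ →* ↥(CD n σ) := (Phi (F := F) ι).codRestrict (CD n σ) (Phi_mem σ ι hι)
  have hsurj : Function.Surjective Φ' := by
    rintro ⟨y, hy⟩
    obtain ⟨k, hk⟩ := Phi_range σ ι hι hn hr hord y hy
    exact ⟨k, Subtype.ext hk⟩
  have hker : Φ'.ker = Subgroup.center (GL (Fin n) F₀) := by
    rw [← Phi_ker (F := F) ι hn]
    ext k
    rw [MonoidHom.mem_ker, MonoidHom.mem_ker]
    constructor
    · intro h
      exact congrArg Subtype.val h
    · intro h
      exact Subtype.ext h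
  let e1 := QuotientGroup.quotientKerEquivOfSurjective Φ' hsurj
  let e2 := QuotientGroup.quotientMulEquivOfEq hker
  exact ⟨(e2.symm.trans e1).symm⟩

end cent


/-! ### splitting of the class of a field automorphism -/

/-- units fixed by `σ` -/
def fixU (σ : F ≃+* F) : Subgroup Fˣ where
  carrier := {u | sigU σ u = u}
  one_mem' := map_one _
  mul_mem' := by
    intro a b ha hb
    rw [Set.mem_ofPred_eq] at *
    rw [map_mul, ha, hb]
  inv_mem' := by
    intro a ha
    rw [Set.mem_ofPred_eq] at *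
    rw [map_inv, ha]

theorem mem_fixU (σ : F ≃+* F) (u : Fˣ) : u ∈ fixU σ ↔ sigU σ u = u := Iff.rfl

/-- determinants of `Inn · C_{Inndiag}(field automorphism)` -/
def MM (n : ℕ) (σ : F ≃+* F) : Subgroup Fˣ := (powMonoidHom n : Fˣ →* Fˣ).range ⊔ fixU σ

theorem det_mem_MM_of_commute (hn : 1 ≤ n) (σ : F ≃+* F) {r : ℕ} (hr : 0 < r)
    (hord : orderOf σ = r) (t : GL (Fin n) F)
    (h : (fieldAut σ * conjAut t : MulAut Gn) = conjAut t * fieldAut σ) :
    Matrix.GeneralLinearGroup.det t ∈ MM n σ := by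
  obtain ⟨b, hb⟩ := fixed_of_commute hn σ hr hord t h
  have h1 := congrArg Matrix.GeneralLinearGroup.det hb
  rw [Matrix.GeneralLinearGroup.map_det, map_mul, Matrix.GeneralLinearGroup.det_scalar,
    Fintype.card_fin] at h1
  have h2 : Matrix.GeneralLinearGroup.det t
      = (b⁻¹) ^ n * (b ^ n * Matrix.GeneralLinearGroup.det t) := by
    rw [← mul_assoc, ← mul_pow, inv_mul_cancel, one_pow, one_mul]
  rw [h2]
  exact Subgroup.mul_mem_sup ⟨b⁻¹, rfl⟩ h1

theorem mapGL_dHom (σ : F ≃+* F) (i0 : Fin n) (b : Fˣ) (hb : b ∈ fixU σ) :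
    mapGL σ (dHom i0 b) = dHom i0 b := by
  apply Units.ext
  ext i j
  show σ ((dHom i0 b).1 i j) = (dHom i0 b).1 i j
  have h1 : (dHom i0 b).1 = Matrix.diagonal fun i => ((Pi.mulSingle i0 b : Fin n → Fˣ) i : F) := rfl
  rw [h1]
  by_cases hij : i = j
  · subst hij
    rw [Matrix.diagonal_apply_eq]
    by_cases hi : i = i0
    · subst hi
      rw [Pi.mulSingle_eq_same]
      exact congrArg Units.val ((mem_fixU σ b).mp hb)
    · rw [Pi.mulSingle_eq_of_ne hi]
      exact map_one σ
  · rw [Matrix.diagonal_apply_ne _ hij, map_zero]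

theorem commute_dHom (σ : F ≃+* F) (i0 : Fin n) (b : Fˣ) (hb : b ∈ fixU σ) :
    (fieldAut σ * conjAut (dHom i0 b) : MulAut Gn) = conjAut (dHom i0 b) * fieldAut σ := by
  rw [fieldAut_mul_conjAut, mapGL_dHom σ i0 b hb]

/-- when two `Inndiag`-conjugates of `fieldAut σ` are conjugate under `Inn` -/
theorem cls_iff (hn : 1 ≤ n) (σ : F ≃+* F) {r : ℕ} (hr : 0 < r) (hord : orderOf σ = r)
    (g g' : GL (Fin n) F) :
    Cfsg.IsConjUnder (Cfsg.Inn Gn) (conjAut g * fieldAut σ * (conjAut g)⁻¹)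
        (conjAut g' * fieldAut σ * (conjAut g')⁻¹)
      ↔ (Matrix.GeneralLinearGroup.det g')⁻¹ * Matrix.GeneralLinearGroup.det g ∈ MM n σ := by
  constructor
  · rintro ⟨k, ⟨z, rfl⟩, hk⟩
    obtain ⟨s, rfl⟩ := QuotientGroup.mk_surjective z
    rw [conj_mk_eq] at hk
    set t : GL (Fin n) F := g'⁻¹ * Matrix.SpecialLinearGroup.toGL s * g with ht
    have hcomm : (fieldAut σ * conjAut t : MulAut Gn) = conjAut t * fieldAut σ := by
      rw [ht, map_mul, map_mul, map_inv]
      set a := (conjAut g : MulAut Gn)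
      set a' := (conjAut g' : MulAut Gn)
      set k := (conjAut (Matrix.SpecialLinearGroup.toGL s) : MulAut Gn)
      set x' := (fieldAut σ : MulAut Gn)
      symm
      calc a'⁻¹ * k * a * x' = a'⁻¹ * (k * (a * x' * a⁻¹) * k⁻¹) * (k * a) := by group
        _ = a'⁻¹ * (a' * x' * a'⁻¹) * (k * a) := by rw [hk]
        _ = x' * (a'⁻¹ * k * a) := by group
    have h1 := det_mem_MM_of_commute hn σ hr hord t hcomm
    rw [ht, map_mul, map_mul, map_inv] at h1
    have h2 : Matrix.GeneralLinearGroup.det (Matrix.SpecialLinearGroup.toGL s) = 1 := by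
      apply Units.ext
      simp
    rw [h2, mul_one] at h1
    exact h1
  · intro h
    obtain ⟨_, ⟨a, rfl⟩, b, hb, hab⟩ := Subgroup.mem_sup.mp h
    rw [powMonoidHom_apply] at hab
    set i0 : Fin n := ⟨0, by omega⟩ with hi0
    set u : GL (Fin n) F := g' * dHom i0 b * g⁻¹ * Matrix.GeneralLinearGroup.scalar (Fin n) a
      with hu
    have hdet : Matrix.GeneralLinearGroup.det u = 1 := by
      rw [hu, map_mul, map_mul, map_mul, map_inv, det_dHom, Matrix.GeneralLinearGroup.det_scalar,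
        Fintype.card_fin]
      have : Matrix.GeneralLinearGroup.det g
          = Matrix.GeneralLinearGroup.det g' * (a ^ n * b) := by
        rw [hab, mul_inv_cancel_left]
      rw [this, show Matrix.GeneralLinearGroup.det g' * (a ^ n * b)
          = Matrix.GeneralLinearGroup.det g' * b * a ^ n by rw [mul_comm (a ^ n) b, mul_assoc],
        mul_right_comm, mul_inv_cancel]
    obtain ⟨s, hs⟩ := exists_toGL_of_det_eq_one u hdet
    refine ⟨MulAut.conj (QuotientGroup.mk s), ⟨_, rfl⟩, ?_⟩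
    rw [conj_mk_eq, hs, hu, map_mul, map_mul, map_mul, map_inv, conjAut_scalar', mul_one]
    have hc := commute_dHom σ i0 b hb
    set a1 := (conjAut g : MulAut Gn)
    set a' := (conjAut g' : MulAut Gn)
    set d := (conjAut (dHom i0 b) : MulAut Gn)
    set x' := (fieldAut σ : MulAut Gn)
    symm
    calc a' * d * a1⁻¹ * (a1 * x' * a1⁻¹) * (a' * d * a1⁻¹)⁻¹
        = a' * (d * x') * d⁻¹ * a'⁻¹ := by group
      _ = a' * (x' * d) * d⁻¹ * a'⁻¹ := by rw [hc]
      _ = a' * x' * a'⁻¹ := by group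


/-- the class of a standard field automorphism splits into `[Fˣ : MM]` classes -/
theorem splitClassCount_std (hn : 1 ≤ n) (σ : F ≃+* F) {r : ℕ} (hr : 0 < r)
    (hord : orderOf σ = r) :
    Cfsg.splitClassCount (DD n F) (Cfsg.Inn Gn) (fieldAut σ) = (MM n σ).index := by
  classical
  unfold Cfsg.splitClassCount
  have hex : ∀ y : {y : MulAut Gn // Cfsg.IsConjUnder (DD n F) (fieldAut σ) y},
      ∃ g : GL (Fin n) F, y.1 = conjAut g * fieldAut σ * (conjAut g)⁻¹ := by
    rintro ⟨y, h, ⟨g, rfl⟩, hy⟩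
    exact ⟨g, hy⟩
  choose gy hgy using hex
  let f : {y : MulAut Gn // Cfsg.IsConjUnder (DD n F) (fieldAut σ) y} → Fˣ ⧸ MM n σ :=
    fun y => QuotientGroup.mk (Matrix.GeneralLinearGroup.det (gy y))
  have hf : ∀ y z, f y = f z ↔ Cfsg.IsConjUnder (Cfsg.Inn Gn) y.1 z.1 := by
    intro y z
    show (QuotientGroup.mk (Matrix.GeneralLinearGroup.det (gy y)) : Fˣ ⧸ MM n σ)
      = QuotientGroup.mk (Matrix.GeneralLinearGroup.det (gy z)) ↔ _
    rw [QuotientGroup.eq, hgy y, hgy z, cls_iff hn σ hr hord, ← inv_mem_iff (x := _ * _),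
      _root_.mul_inv_rev, inv_inv, mul_comm]
  let fq : Quot (fun y z : {y : MulAut Gn // Cfsg.IsConjUnder (DD n F) (fieldAut σ) y} =>
      Cfsg.IsConjUnder (Cfsg.Inn Gn) y.1 z.1) → Fˣ ⧸ MM n σ :=
    Quot.lift f (fun y z h => (hf y z).mpr h)
  have hinj : Function.Injective fq := by
    intro a b
    induction a using Quot.ind with
    | mk y =>
      induction b using Quot.ind with
      | mk z =>
        intro h
        exact Quot.sound ((hf y z).mp h)
  have hsurj : Function.Surjective fq := by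
    intro q
    obtain ⟨c, rfl⟩ := QuotientGroup.mk_surjective q
    haveI : Nonempty (Fin n) := ⟨⟨0, by omega⟩⟩
    obtain ⟨g, hg⟩ := Matrix.GeneralLinearGroup.det_surjective (n := Fin n) (R := F) c
    let y : {y : MulAut Gn // Cfsg.IsConjUnder (DD n F) (fieldAut σ) y} :=
      ⟨conjAut g * fieldAut σ * (conjAut g)⁻¹, conjAut g, conjAut_mem_DD g, rfl⟩
    refine ⟨Quot.mk _ y, ?_⟩
    show (QuotientGroup.mk (Matrix.GeneralLinearGroup.det (gy y)) : Fˣ ⧸ MM n σ)
      = QuotientGroup.mk c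
    rw [QuotientGroup.eq, ← hg]
    have h1 : Cfsg.IsConjUnder (Cfsg.Inn Gn) (conjAut (gy y) * fieldAut σ * (conjAut (gy y))⁻¹)
        (conjAut g * fieldAut σ * (conjAut g)⁻¹) := by
      refine ⟨1, Subgroup.one_mem _, ?_⟩
      rw [one_mul, inv_one, mul_one]
      exact hgy y
    rw [cls_iff hn σ hr hord] at h1
    rw [← inv_mem_iff, _root_.mul_inv_rev, inv_inv]
    exact h1
  rw [Nat.card_congr (Equiv.ofBijective fq ⟨hinj, hsurj⟩)]
  rfl


/-! ### the index of `MM` -/

theorem card_fixU [Fintype F] (σ : F ≃+* F) {p f r : ℕ} [hp : Fact p.Prime]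
    (hF : Fintype.card F = p ^ f) (hord : orderOf σ = r) :
    Nat.card (fixU σ) = p ^ (f / r) - 1 := by
  classical
  set K := Cfsg.Agent.Lib.Helper44_FixField.fixField σ with hK
  let φ : Kˣ →* Fˣ := Units.map (K.subtype : K →* F)
  have hinj : Function.Injective φ :=
    Units.map_injective (f := (K.subtype : K →* F)) Subtype.val_injective
  have hrange : φ.range = fixU σ := by
    ext u
    constructor
    · rintro ⟨v, rfl⟩
      rw [mem_fixU]
      apply Units.ext
      exact (Cfsg.Agent.Lib.Helper44_FixField.mem_fixField σ _).mp (v : K).2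
    · intro hu
      rw [mem_fixU] at hu
      have hmem : (u : F) ∈ K :=
        (Cfsg.Agent.Lib.Helper44_FixField.mem_fixField σ _).mpr (congrArg Units.val hu)
      have hne : (⟨(u : F), hmem⟩ : K) ≠ 0 := by
        intro h0
        exact u.ne_zero (congrArg Subtype.val h0)
      refine ⟨Units.mk0 ⟨(u : F), hmem⟩ hne, ?_⟩
      apply Units.ext
      rfl
  rw [← hrange, ← Nat.card_congr (MonoidHom.ofInjective hinj).toEquiv, Nat.card_units,
    (Cfsg.Agent.Lib.Helper44_FixField.card_fixField σ hF hord).2]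

theorem index_MM [Fintype F] (σ : F ≃+* F) {p f r : ℕ} [hp : Fact p.Prime]
    (hF : Fintype.card F = p ^ f) (hord : orderOf σ = r) :
    (MM n σ).index = Nat.gcd n ((p ^ f - 1) / (p ^ (f / r) - 1)) := by
  classical
  set B := fixU σ with hB
  have hsurj : Function.Surjective (QuotientGroup.mk' B) := QuotientGroup.mk'_surjective B
  haveI : IsCyclic (Fˣ ⧸ B) := isCyclic_of_surjective (QuotientGroup.mk' B) hsurj
  have hcomap : MM n σ
      = (powMonoidHom (α := Fˣ ⧸ B) n).range.comap (QuotientGroup.mk' B) := by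
    ext u
    rw [Subgroup.mem_comap]
    constructor
    · intro hu
      obtain ⟨_, ⟨v, rfl⟩, b, hb, rfl⟩ := Subgroup.mem_sup.mp hu
      refine ⟨QuotientGroup.mk' B v, ?_⟩
      rw [powMonoidHom_apply, powMonoidHom_apply, map_mul, map_pow]
      have : QuotientGroup.mk' B b = 1 := (QuotientGroup.eq_one_iff b).mpr hb
      rw [this, mul_one]
    · rintro ⟨w, hw⟩
      obtain ⟨v, rfl⟩ := hsurj w
      rw [powMonoidHom_apply, ← map_pow] at hw
      have h1 : (v ^ n)⁻¹ * u ∈ B := QuotientGroup.eq.mp hw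
      have h2 : u = v ^ n * ((v ^ n)⁻¹ * u) := by rw [mul_inv_cancel_left]
      rw [h2]
      exact Subgroup.mul_mem_sup ⟨v, rfl⟩ h1
  rw [hcomap, Subgroup.index_comap_of_surjective _ hsurj, IsCyclic.index_powMonoidHom_range,
    Nat.gcd_comm]
  congr 1
  rw [← Subgroup.index_eq_card]
  have h1 := Subgroup.card_mul_index B
  rw [Nat.card_units, Nat.card_eq_fintype_card (α := F), hF, card_fixU σ hF hord] at h1
  have hpos : 0 < p ^ (f / r) - 1 := by
    rw [← card_fixU σ hF hord]
    exact Nat.card_pos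
  exact (Nat.div_eq_of_eq_mul_right hpos h1.symm).symm


/-! ### transport along conjugation -/

section transport

variable {X : Type*} [Group X]

theorem isConjUnder_conj_iff (H : Subgroup X) [hH : H.Normal] (α x y : X) :
    Cfsg.IsConjUnder H (α * x * α⁻¹) (α * y * α⁻¹) ↔ Cfsg.IsConjUnder H x y := by
  constructor
  · rintro ⟨h, hh, e⟩
    refine ⟨α⁻¹ * h * α, ?_, ?_⟩
    · have := hH.conj_mem h hh α⁻¹
      rwa [inv_inv] at this
    · have : y = α⁻¹ * (α * y * α⁻¹) * α := by group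
      rw [this, e]
      group
  · rintro ⟨h, hh, rfl⟩
    refine ⟨α * h * α⁻¹, hH.conj_mem h hh α, ?_⟩
    group

theorem splitClassCount_conj (H K : Subgroup X) [hH : H.Normal] [hK : K.Normal] (α x : X) :
    Cfsg.splitClassCount H K (α * x * α⁻¹) = Cfsg.splitClassCount H K x := by
  unfold Cfsg.splitClassCount
  symm
  apply Nat.card_congr
  let e : {y : X // Cfsg.IsConjUnder H x y} ≃ {y : X // Cfsg.IsConjUnder H (α * x * α⁻¹) y} :=
    Equiv.subtypeEquiv (MulAut.conj α).toEquiv (fun y => by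
      show _ ↔ Cfsg.IsConjUnder H (α * x * α⁻¹) (α * y * α⁻¹)
      rw [isConjUnder_conj_iff])
  refine Quot.congr e ?_
  intro a b
  show _ ↔ Cfsg.IsConjUnder K (α * a.1 * α⁻¹) (α * b.1 * α⁻¹)
  rw [isConjUnder_conj_iff]

theorem mem_centralizer_singleton (x y : X) :
    y ∈ Subgroup.centralizer {x} ↔ x * y = y * x := by
  rw [Subgroup.mem_centralizer_iff]
  simp only [Set.mem_singleton_iff, forall_eq]

/-- conjugation identifies centralizers in a normal subgroup -/
def centConjEquiv (D : Subgroup X) [hD : D.Normal] (α x : X) :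
    ↥(D ⊓ Subgroup.centralizer {x}) ≃* ↥(D ⊓ Subgroup.centralizer {α * x * α⁻¹}) where
  toFun y := ⟨α * y.1 * α⁻¹, by
    have hy := y.2
    rw [Subgroup.mem_inf, mem_centralizer_singleton] at hy ⊢
    refine ⟨hD.conj_mem y.1 hy.1 α, ?_⟩
    calc α * x * α⁻¹ * (α * y.1 * α⁻¹) = α * (x * y.1) * α⁻¹ := by group
      _ = α * (y.1 * x) * α⁻¹ := by rw [hy.2]
      _ = _ := by group⟩
  invFun z := ⟨α⁻¹ * z.1 * α, by
    have hz := z.2
    rw [Subgroup.mem_inf, mem_centralizer_singleton] at hz ⊢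
    refine ⟨?_, ?_⟩
    · have := hD.conj_mem z.1 hz.1 α⁻¹
      rwa [inv_inv] at this
    · calc x * (α⁻¹ * z.1 * α) = α⁻¹ * (α * x * α⁻¹ * z.1) * α := by group
        _ = α⁻¹ * (z.1 * (α * x * α⁻¹)) * α := by rw [hz.2]
        _ = _ := by group⟩
  left_inv y := by
    apply Subtype.ext
    show α⁻¹ * (α * y.1 * α⁻¹) * α = y.1
    group
  right_inv z := by
    apply Subtype.ext
    show α * (α⁻¹ * z.1 * α) * α⁻¹ = z.1
    group
  map_mul' y z := by
    apply Subtype.ext
    show α * (y.1 * z.1) * α⁻¹ = (α * y.1 * α⁻¹) * (α * z.1 * α⁻¹)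
    group

end transport

end Cfsg.Agent.Lib.Helper44_PSLnFieldCent
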