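import Mathlib

/-!
# Squares in extensions of finite fields of odd characteristic (helper44)

For `j : F₀ →+* F`: if `|F| = |F₀|²` every element of `F₀` becomes a square in `F`; if
`|F| = |F₀|^r` with `r` odd, nonsquares stay nonsquares.
-/

set_option autoImplicit false
set_option linter.unusedSectionVars false
set_option linter.unusedVariables false

namespace Cfsg.Agent.Lib.Helper44_SqExt

variable {F₀ F : Type*} [Field F₀] [Field F] [Fintype F₀] [Fintype F] (j : F₀ →+* F)

include j in
theorem ringChar_ne_two_of_map (h2 : ringChar F ≠ 2) : ringChar F₀ ≠ 2 := by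
  intro h
  apply h2
  have h1 : (2 : F₀) = 0 := by
    have : ((ringChar F₀ : ℕ) : F₀) = 0 := ringChar.Nat.cast_ringChar
    rw [h] at this
    exact_mod_cast this
  have h3 : (2 : F) = 0 := by
    have h4 : j 2 = 2 := map_ofNat j 2
    rw [← h4, h1, map_zero]
  have hc : CharP F 2 := CharTwo.of_one_ne_zero_of_two_eq_zero one_ne_zero h3
  exact ringChar.eq F 2

/-- in a quadratic extension every element of the small field is a square -/
theorem isSquare_map_of_card_sq (h2 : ringChar F ≠ 2) (hcard : Fintype.card F = Fintype.card F₀ ^ 2)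
    (a : F₀) : IsSquare (j a) := by
  by_cases ha : a = 0
  · subst ha
    exact ⟨0, by simp⟩
  have hja : j a ≠ 0 := by
    rw [Ne, map_eq_zero]; exact ha
  rw [FiniteField.isSquare_iff h2 hja]
  have h20 := ringChar_ne_two_of_map j h2
  have hodd := FiniteField.odd_card_of_char_ne_two h20
  obtain ⟨t, ht⟩ : ∃ t, Fintype.card F₀ = 2 * t + 1 := ⟨Fintype.card F₀ / 2, by omega⟩
  have h1 : Fintype.card F / 2 = (Fintype.card F₀ - 1) * (t + 1) := by
    rw [hcard, ht]
    have : (2 * t + 1) ^ 2 = 2 * ((2 * t + 1 - 1) * (t + 1)) + 1 := by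
      have : 2 * t + 1 - 1 = 2 * t := by omega
      rw [this]; ring
    rw [this]
    omega
  rw [h1, ← map_pow, pow_mul, FiniteField.pow_card_sub_one_eq_one a ha, one_pow, map_one]

theorem odd_geom_sum (q : ℕ) (hq : Odd q) (r : ℕ) :
    Odd (∑ i ∈ Finset.range r, q ^ i) ↔ Odd r := by
  induction r with
  | zero => simp
  | succ r ih =>
    rw [Finset.sum_range_succ, Nat.odd_add, ih]
    have h1 : Odd (q ^ r) := hq.pow
    have h2 : ¬ Even (q ^ r) := Nat.not_even_iff_odd.mpr h1
    rw [Nat.odd_add_one]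
    constructor
    · intro h hr
      exact h2 (h.mp hr)
    · intro h
      constructor
      · intro hr; exact absurd hr h
      · intro he; exact absurd he h2

/-- in an extension of odd degree nonsquares stay nonsquares -/
theorem not_isSquare_map_of_odd (h2 : ringChar F ≠ 2) {r : ℕ} (hr : Odd r)
    (hcard : Fintype.card F = Fintype.card F₀ ^ r) {a : F₀} (ha : ¬ IsSquare a) :
    ¬ IsSquare (j a) := by
  have ha0 : a ≠ 0 := by
    rintro rfl
    exact ha ⟨0, by simp⟩
  have hja : j a ≠ 0 := by
    rw [Ne, map_eq_zero]; exact ha0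
  have h20 := ringChar_ne_two_of_map j h2
  have hodd := FiniteField.odd_card_of_char_ne_two h20
  obtain ⟨t, ht⟩ : ∃ t, Fintype.card F₀ = 2 * t + 1 := ⟨Fintype.card F₀ / 2, by omega⟩
  have ht' : Fintype.card F₀ / 2 = t := by omega
  have hat : a ^ t = -1 := by
    rcases FiniteField.pow_dichotomy h20 ha0 with h | h
    · exact absurd ((FiniteField.isSquare_iff h20 ha0).mpr h) ha
    · rw [ht'] at h; exact h
  set S := ∑ i ∈ Finset.range r, (2 * t + 1) ^ i with hS
  have hgeo : S * (2 * t) + 1 = (2 * t + 1) ^ r := geom_sum_mul_add (2 * t) r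
  have hSodd : Odd S := (odd_geom_sum (2 * t + 1) ⟨t, rfl⟩ r).mpr hr
  have h1 : Fintype.card F / 2 = t * S := by
    rw [hcard, ht, ← hgeo]
    have : S * (2 * t) + 1 = 2 * (t * S) + 1 := by ring
    rw [this]
    omega
  rw [FiniteField.isSquare_iff h2 hja, h1, ← map_pow, pow_mul, hat, hSodd.neg_one_pow, map_neg,
    map_one]
  intro h
  have h3 : (2 : F) = 0 := by linear_combination -h
  have hc : CharP F 2 := CharTwo.of_one_ne_zero_of_two_eq_zero one_ne_zero h3
  exact h2 (ringChar.eq F 2)

end Cfsg.Agent.Lib.Helper44_SqExt
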