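import Mathlib
import Cfsg.Agent.Lib.Helper44_OrthCoset
import Cfsg.Agent.Lib.Helper44_OrthBase
import Cfsg.Agent.Lib.Helper44_SqExt
import Cfsg.Agent.Lib.Helper14_OmegaIndex
import Cfsg.Agent.Lib.Helper14_GOChars
import Cfsg.Agent.Lib.Helper14_SplitClass
import Cfsg.Agent.Lib.Helper44_PSLnFieldCent
import Cfsg.Agent.Lib.Helper44_FinSq

/-!
# Centralizers of field automorphisms in `Inndiag(Ω_{2m+1}(q))` and class splitting (helper44)
-/

set_option autoImplicit false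
set_option linter.unusedSectionVars false
set_option linter.unusedVariables false

namespace Cfsg.Agent.Lib.Helper44_OrthOddCent

open Cfsg Matrix Cfsg.Agent.Lib.Helper44_Orth Cfsg.Agent.Lib.Helper14_AutOmega
  Cfsg.Agent.Lib.Helper44_H90i Cfsg.Agent.Lib.Helper44_H90 Cfsg.Agent.Lib.Helper44_OrthField
  Cfsg.Agent.Lib.Helper44_OrthFaith Cfsg.Agent.Lib.Helper14_CentOmega
  Cfsg.Agent.Lib.Helper44_OrthCoset Cfsg.Agent.Lib.Helper44_OrthBase
  Cfsg.Agent.Lib.Helper14_OmegaIndex Cfsg.Agent.Lib.Helper44_Refl Cfsg.Agent.Lib.Helper44_Spinor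
  Cfsg.Agent.Lib.Helper14_OrthChars

section general

variable {ι : Type} [Fintype ι] [DecidableEq ι] {F : Type*} [Field F] [Fintype F]
  (Q : QuadraticForm F (ι → F))

/-- in odd dimension every similarity is a scalar times a special isometry -/
theorem exists_SO_of_GO (h2 : (2 : F) ≠ 0) (hQ : (QuadraticMap.polarBilin Q).Nondegenerate)
    (hn : 2 ≤ Fintype.card ι) (hodd : Odd (Fintype.card ι)) (g : ↥(GO (⇑Q))) :
    ∃ s : ↥(isometryGroup F (⇑Q)), s ∈ specialIsometryGroup F (⇑Q) ∧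
      Phi (⇑Q) g = PhiO (⇑Q) s := by
  obtain ⟨v1, hv1⟩ := exists_norm_eq h2 Q hQ hn 1
  have hne : ∃ v, Q v ≠ 0 := ⟨v1, by rw [hv1]; exact one_ne_zero⟩
  obtain ⟨k, hk⟩ := hodd
  set μ : Fˣ := Cfsg.Agent.Lib.Helper14_GOChars.mu (⇑Q) g with hμ
  set D : F := ((g : GL ι F) : Matrix ι ι F).det with hD
  have hDsq : D ^ 2 = (μ : F) ^ (2 * k + 1) := by
    have := Cfsg.Agent.Lib.Helper14_GOChars.det_sq Q hQ g
    rw [hk] at this
    exact this
  have hD0 : D ≠ 0 := Matrix.GeneralLinearGroup.det_ne_zero (g : GL ι F)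
  have hμ0 : (μ : F) ≠ 0 := μ.ne_zero
  set d : F := D / (μ : F) ^ k with hd
  have hd0 : d ≠ 0 := div_ne_zero hD0 (pow_ne_zero _ hμ0)
  have hdsq : d * d = μ := by
    rw [hd]
    field_simp
    rw [hDsq]
    ring
  have hdn : d ^ (2 * k + 1) = D := by
    rw [pow_succ, pow_mul, pow_two, hdsq, hd]
    field_simp
  set dU : Fˣ := Units.mk0 d hd0 with hdU
  -- the special isometry
  have hmem : Matrix.GeneralLinearGroup.scalar ι dU⁻¹ * (g : GL ι F) ∈ isometryGroup F (⇑Q) := by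
    rw [mem_isometryGroup_iff]
    intro u
    rw [Units.val_mul, Matrix.GeneralLinearGroup.coe_scalar, Matrix.scalar_apply,
      ← Matrix.smul_one_eq_diagonal, ← Matrix.mulVec_mulVec, Matrix.smul_mulVec, Matrix.one_mulVec,
      QuadraticMap.map_smul, Cfsg.Agent.Lib.Helper14_GOChars.mu_spec (⇑Q) g, smul_eq_mul,
      ← hμ, ← hdsq]
    have : ((dU⁻¹ : Fˣ) : F) = d⁻¹ := by rw [Units.val_inv_eq_inv_val, hdU, Units.val_mk0]
    rw [this]
    field_simp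
  refine ⟨⟨Matrix.GeneralLinearGroup.scalar ι dU⁻¹ * (g : GL ι F), hmem⟩, ?_, ?_⟩
  · rw [Cfsg.Agent.S0787.mem_SO_iff]
    show ((Matrix.GeneralLinearGroup.scalar ι dU⁻¹ * (g : GL ι F) : GL ι F) : Matrix ι ι F).det = 1
    rw [Units.val_mul, Matrix.det_mul, Matrix.GeneralLinearGroup.coe_scalar, Matrix.scalar_apply,
      Matrix.det_diagonal, Finset.prod_const, Finset.card_univ, hk, ← hD, ← hdn]
    have : ((dU⁻¹ : Fˣ) : F) = d⁻¹ := by rw [Units.val_inv_eq_inv_val, hdU, Units.val_mk0]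
    rw [this, inv_pow]
    exact inv_mul_cancel₀ (pow_ne_zero _ hd0)
  · have h1 : Phi (⇑Q) g = Phi (⇑Q) (scalarGO Q dU⁻¹ * g) := by
      rw [map_mul, Phi_scalarGO, one_mul]
    rw [h1]
    rfl

theorem negOne_not_mem_SO (h2 : (2 : F) ≠ 0) (hodd : Odd (Fintype.card ι)) :
    negOne Q ∉ specialIsometryGroup F (⇑Q) := by
  rw [Cfsg.Agent.S0787.mem_SO_iff, negOne_coe, Matrix.det_neg, Matrix.det_one, mul_one,
    hodd.neg_one_pow]
  intro h
  apply h2
  linear_combination -h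

/-- `PhiO` is injective on the special isometry group, in odd dimension -/
theorem PhiO_injOn_SO (h2 : (2 : F) ≠ 0) (hQ : (QuadraticMap.polarBilin Q).Nondegenerate)
    (hn : 5 ≤ Fintype.card ι) (hodd : Odd (Fintype.card ι))
    {s t : ↥(isometryGroup F (⇑Q))} (hs : s ∈ specialIsometryGroup F (⇑Q))
    (ht : t ∈ specialIsometryGroup F (⇑Q)) (h : PhiO (⇑Q) s = PhiO (⇑Q) t) : s = t := by
  have h1 : s⁻¹ * t ∈ (PhiO (⇑Q)).ker := by
    rw [MonoidHom.mem_ker, map_mul, map_inv, h, inv_mul_cancel]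
  rcases (mem_ker_PhiO h2 Q hQ hn _).mp h1 with h3 | h3
  · exact (inv_mul_eq_one.mp h3)
  · exfalso
    apply negOne_not_mem_SO Q h2 hodd
    rw [← h3]
    exact Subgroup.mul_mem _ (Subgroup.inv_mem _ hs) ht

theorem fieldIso_mem_SO (σ : ↥(invSub (⇑Q))) {s : ↥(isometryGroup F (⇑Q))}
    (hs : s ∈ specialIsometryGroup F (⇑Q)) : fieldIso (⇑Q) σ s ∈ specialIsometryGroup F (⇑Q) := by
  rw [Cfsg.Agent.S0787.mem_SO_iff] at hs ⊢
  rw [fieldIso_coe, mapGLi_coe]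
  have h1 : (s.1.1.map σ.1).det = σ.1 s.1.1.det := by
    have := RingHom.map_det (σ.1 : F →+* F) s.1.1
    rw [RingHom.mapMatrix_apply] at this
    exact this.symm
  rw [h1, hs, map_one]

theorem fieldO_mul_PhiO (σ : ↥(invSub (⇑Q))) (s : ↥(isometryGroup F (⇑Q))) :
    fieldO (⇑Q) σ * PhiO (⇑Q) s = PhiO (⇑Q) (fieldIso (⇑Q) σ s) * fieldO (⇑Q) σ := by
  have := fieldO_mul_Phi (⇑Q) σ (Subgroup.inclusion (isometryGroup_le_GO (⇑Q)) s)
  exact this

/-- an element of the image of `SO` commutes with a field automorphism iff the matrix is fixed -/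
theorem commute_iff (h2 : (2 : F) ≠ 0) (hQ : (QuadraticMap.polarBilin Q).Nondegenerate)
    (hn : 5 ≤ Fintype.card ι) (hodd : Odd (Fintype.card ι)) (σ : ↥(invSub (⇑Q)))
    {s : ↥(isometryGroup F (⇑Q))} (hs : s ∈ specialIsometryGroup F (⇑Q)) :
    fieldO (⇑Q) σ * PhiO (⇑Q) s = PhiO (⇑Q) s * fieldO (⇑Q) σ ↔ mapGLi σ.1 s.1 = s.1 := by
  rw [fieldO_mul_PhiO]
  constructor
  · intro h
    have h1 := mul_right_cancel h
    have h3 := PhiO_injOn_SO Q h2 hQ hn hodd (fieldIso_mem_SO Q σ hs) hs h1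
    exact congrArg Subtype.val h3
  · intro h
    have h1 : fieldIso (⇑Q) σ s = s := Subtype.ext h
    rw [h1]

end general

section basechange

variable {ι : Type} [Fintype ι] [DecidableEq ι] {F₀ F : Type*} [Field F₀] [Field F] [Fintype F₀]
  [Fintype F] {j : F₀ →+* F} {Q₀ : QuadraticForm F₀ (ι → F₀)} {Q : QuadraticForm F (ι → F)}
  (hc : Compat j Q₀ Q) (σ : ↥(invSub (⇑Q))) (hι : ∀ a : F, σ.1 a = a ↔ a ∈ Set.range j)

/-- the centralizer of `fieldO σ` in the image of `GO` -/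
noncomputable abbrev CDO (σ : ↥(invSub (⇑Q))) : Subgroup (MulAut (POmega F (⇑Q))) :=
  (Phi (⇑Q)).range ⊓ Subgroup.centralizer {fieldO (⇑Q) σ}

theorem mem_CDO_iff (y : MulAut (POmega F (⇑Q))) :
    y ∈ CDO σ ↔ y ∈ (Phi (⇑Q)).range ∧ fieldO (⇑Q) σ * y = y * fieldO (⇑Q) σ := by
  rw [Subgroup.mem_inf, Subgroup.mem_centralizer_iff]
  simp only [Set.mem_singleton_iff, forall_eq]

/-- special isometries over the subfield acting on `PΩ(Q)` -/
noncomputable def PsiSO : ↥(specialIsometryGroup F₀ (⇑Q₀)) →* MulAut (POmega F (⇑Q)) :=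
  (PhiO (⇑Q)).comp ((mapIsom hc).comp (Subgroup.subtype _))

theorem PsiSO_apply (s : ↥(specialIsometryGroup F₀ (⇑Q₀))) :
    PsiSO hc s = PhiO (⇑Q) (mapIsom hc s.1) := rfl

theorem PhiO_mem_range (s : ↥(isometryGroup F (⇑Q))) : PhiO (⇑Q) s ∈ (Phi (⇑Q)).range :=
  ⟨_, rfl⟩

include hι in
theorem PsiSO_mem (h2 : (2 : F) ≠ 0) (hQ : (QuadraticMap.polarBilin Q).Nondegenerate)
    (hn : 5 ≤ Fintype.card ι) (hodd : Odd (Fintype.card ι))
    (s : ↥(specialIsometryGroup F₀ (⇑Q₀))) : PsiSO hc s ∈ CDO σ := by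
  rw [mem_CDO_iff]
  refine ⟨PhiO_mem_range _, ?_⟩
  rw [PsiSO_apply, commute_iff Q h2 hQ hn hodd σ ((mapIsom_mem_SO_iff hc s.1).mpr s.2), mapIsom_coe]
  exact mapGLi_glMap σ.1 hι _

theorem PsiSO_injective (h2 : (2 : F) ≠ 0) (hQ : (QuadraticMap.polarBilin Q).Nondegenerate)
    (hn : 5 ≤ Fintype.card ι) (hodd : Odd (Fintype.card ι)) :
    Function.Injective (PsiSO hc) := by
  intro s t h
  rw [PsiSO_apply, PsiSO_apply] at h
  have h1 := PhiO_injOn_SO Q h2 hQ hn hodd ((mapIsom_mem_SO_iff hc s.1).mpr s.2)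
    ((mapIsom_mem_SO_iff hc t.1).mpr t.2) h
  exact Subtype.ext (mapIsom_injective hc h1)

include hι in
theorem PsiSO_range (h2 : (2 : F) ≠ 0) (hQ : (QuadraticMap.polarBilin Q).Nondegenerate)
    (hn : 5 ≤ Fintype.card ι) (hodd : Odd (Fintype.card ι))
    (y : MulAut (POmega F (⇑Q))) (hy : y ∈ CDO σ) :
    ∃ s : ↥(specialIsometryGroup F₀ (⇑Q₀)), PsiSO hc s = y := by
  rw [mem_CDO_iff] at hy
  obtain ⟨⟨g, rfl⟩, hcomm⟩ := hy
  obtain ⟨s, hs, hgs⟩ := exists_SO_of_GO Q h2 hQ (by omega) hodd g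
  rw [hgs] at hcomm ⊢
  have hfix := (commute_iff Q h2 hQ hn hodd σ hs).mp hcomm
  obtain ⟨s₀, hs₀⟩ := exists_mapIsom_of_fixed σ.1 hι hc s hfix
  have hs₀m : s₀ ∈ specialIsometryGroup F₀ (⇑Q₀) := by
    rw [← mapIsom_mem_SO_iff hc, hs₀]
    exact hs
  exact ⟨⟨s₀, hs₀m⟩, by rw [PsiSO_apply, hs₀]⟩

/-- `SO(Q₀)` is isomorphic to its image in `Aut(PΩ(Q₀))`, which is the image of `GO(Q₀)` -/
theorem nonempty_SO_equiv_range (h2 : (2 : F₀) ≠ 0)
    (hQ₀ : (QuadraticMap.polarBilin Q₀).Nondegenerate)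
    (hn : 5 ≤ Fintype.card ι) (hodd : Odd (Fintype.card ι)) :
    Nonempty (↥(specialIsometryGroup F₀ (⇑Q₀)) ≃* ↥((Phi (⇑Q₀)).range)) := by
  let f : ↥(specialIsometryGroup F₀ (⇑Q₀)) →* ↥((Phi (⇑Q₀)).range) :=
    ((PhiO (⇑Q₀)).comp (Subgroup.subtype _)).codRestrict _ (fun s => PhiO_mem_range _)
  have hinj : Function.Injective f := by
    intro s t h
    have h1 : PhiO (⇑Q₀) s.1 = PhiO (⇑Q₀) t.1 := congrArg Subtype.val h
    exact Subtype.ext (PhiO_injOn_SO Q₀ h2 hQ₀ hn hodd s.2 t.2 h1)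
  have hsurj : Function.Surjective f := by
    rintro ⟨y, g, rfl⟩
    obtain ⟨s, hs, hgs⟩ := exists_SO_of_GO Q₀ h2 hQ₀ (by omega) hodd g
    exact ⟨⟨s, hs⟩, Subtype.ext hgs.symm⟩
  exact ⟨MulEquiv.ofBijective f ⟨hinj, hsurj⟩⟩

include hι hc in
/-- `C_{Inndiag}(field automorphism) ≅ Inndiag` over the fixed field -/
theorem nonempty_centEquiv_o (h2 : (2 : F) ≠ 0) (hQ : (QuadraticMap.polarBilin Q).Nondegenerate)
    (h2₀ : (2 : F₀) ≠ 0) (hQ₀ : (QuadraticMap.polarBilin Q₀).Nondegenerate)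
    (hn : 5 ≤ Fintype.card ι) (hodd : Odd (Fintype.card ι)) :
    Nonempty (↥(CDO σ) ≃* ↥((Phi (⇑Q₀)).range)) := by
  let f : ↥(specialIsometryGroup F₀ (⇑Q₀)) →* ↥(CDO σ) :=
    (PsiSO hc).codRestrict _ (PsiSO_mem hc σ hι h2 hQ hn hodd)
  have hinj : Function.Injective f := by
    intro s t h
    exact PsiSO_injective hc h2 hQ hn hodd (congrArg Subtype.val h)
  have hsurj : Function.Surjective f := by
    rintro ⟨y, hy⟩
    obtain ⟨s, hs⟩ := PsiSO_range hc σ hι h2 hQ hn hodd y hy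
    exact ⟨s, Subtype.ext hs⟩
  obtain ⟨e⟩ := nonempty_SO_equiv_range (Q₀ := Q₀) h2₀ hQ₀ hn hodd
  exact ⟨(MulEquiv.ofBijective f ⟨hinj, hsurj⟩).symm.trans e⟩

end basechange

section counting

variable {ι : Type} [Fintype ι] [DecidableEq ι] {F : Type*} [Field F] [Fintype F]
  (Q : QuadraticForm F (ι → F))

theorem omega_le_SO (h2 : (2 : F) ≠ 0) (hQ : (QuadraticMap.polarBilin Q).Nondegenerate) :
    Omega F (⇑Q) ≤ specialIsometryGroup F (⇑Q) := by
  rw [omega_eq_inf h2 Q hQ]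
  exact inf_le_left

/-- the product of two special isometries outside `Ω` lies in `Ω` -/
theorem mul_mem_omega (h2 : (2 : F) ≠ 0) (hQ : (QuadraticMap.polarBilin Q).Nondegenerate)
    {s t : ↥(isometryGroup F (⇑Q))} (hs : s ∈ specialIsometryGroup F (⇑Q))
    (ht : t ∈ specialIsometryGroup F (⇑Q)) (hs' : s ∉ Omega F (⇑Q)) (ht' : t ∉ Omega F (⇑Q)) :
    s * t ∈ Omega F (⇑Q) := by
  rw [omega_eq_inf h2 Q hQ, Subgroup.mem_inf, MonoidHom.mem_ker] at hs' ht' ⊢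
  have h1 : theta Q s = -1 := by
    rcases Int.units_eq_one_or (theta Q s) with h | h
    · exact absurd ⟨hs, h⟩ hs'
    · exact h
  have h3 : theta Q t = -1 := by
    rcases Int.units_eq_one_or (theta Q t) with h | h
    · exact absurd ⟨ht, h⟩ ht'
    · exact h
  refine ⟨Subgroup.mul_mem _ hs ht, ?_⟩
  rw [map_mul, h1, h3]
  rfl

/-- the image of a special isometry is inner iff it lies in `Ω` -/
theorem PhiO_mem_inn_iff (h2 : (2 : F) ≠ 0) (hQ : (QuadraticMap.polarBilin Q).Nondegenerate)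
    (hn : 5 ≤ Fintype.card ι) (hodd : Odd (Fintype.card ι)) {s : ↥(isometryGroup F (⇑Q))}
    (hs : s ∈ specialIsometryGroup F (⇑Q)) :
    PhiO (⇑Q) s ∈ Inn (POmega F (⇑Q)) ↔ s ∈ Omega F (⇑Q) := by
  rw [inn_eq_map]
  constructor
  · rintro ⟨w, hw, hws⟩
    have := PhiO_injOn_SO Q h2 hQ hn hodd (omega_le_SO Q h2 hQ hw) hs hws
    rw [← this]
    exact hw
  · intro h
    exact ⟨s, h, rfl⟩

theorem inn_le_range : Inn (POmega F (⇑Q)) ≤ (Phi (⇑Q)).range := by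
  rw [inn_eq_map]
  rintro _ ⟨w, -, rfl⟩
  exact PhiO_mem_range w

/-- a product of two reflections with norms `1` and a nonsquare is not in `Ω` -/
theorem pair_not_mem_omega (h2 : (2 : F) ≠ 0) (hQ : (QuadraticMap.polarBilin Q).Nondegenerate)
    {a b : ι → F} (ha : Q a ≠ 0) (hb : Q b ≠ 0) (hasq : IsSquare (Q a)) (hbsq : ¬ IsSquare (Q b)) :
    refl Q a ha * refl Q b hb ∉ Omega F (⇑Q) := by
  rw [omega_eq_inf h2 Q hQ, Subgroup.mem_inf, MonoidHom.mem_ker]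
  rintro ⟨-, h⟩
  rw [map_mul, (theta_refl Q h2 a ha).1 hasq, (theta_refl Q h2 b hb).2 hbsq] at h
  exact absurd h (by decide)

/-- the index of the inner automorphisms in the image of `GO`, odd dimension -/
theorem relIndex_inn_range (h2 : (2 : F) ≠ 0) (hQ : (QuadraticMap.polarBilin Q).Nondegenerate)
    (hn : 5 ≤ Fintype.card ι) (hodd : Odd (Fintype.card ι)) :
    (Inn (POmega F (⇑Q))).relIndex (Phi (⇑Q)).range = 2 := by
  rw [Subgroup.relIndex_eq_two_iff_exists_notMem_and]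
  obtain ⟨a, ha1⟩ := exists_norm_eq h2 Q hQ (by omega) 1
  obtain ⟨ε, hε⟩ := FiniteField.exists_nonsquare
    (Cfsg.Agent.Lib.Helper44_FinSq.ringChar_ne_two_of_two_ne_zero h2)
  obtain ⟨b, hbε⟩ := exists_norm_eq h2 Q hQ (by omega) ε
  have ha : Q a ≠ 0 := by rw [ha1]; exact one_ne_zero
  have hb : Q b ≠ 0 := by
    rw [hbε]; rintro rfl; exact hε ⟨0, by simp⟩
  have hasq : IsSquare (Q a) := by rw [ha1]; exact ⟨1, by simp⟩
  have hbsq : ¬ IsSquare (Q b) := by rw [hbε]; exact hε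
  set t : ↥(isometryGroup F (⇑Q)) := refl Q a ha * refl Q b hb with ht
  have htSO : t ∈ specialIsometryGroup F (⇑Q) := (Cfsg.Agent.S0787.pair Q a b ha hb).2
  have htΩ : t ∉ Omega F (⇑Q) := pair_not_mem_omega Q h2 hQ ha hb hasq hbsq
  refine ⟨PhiO (⇑Q) t, PhiO_mem_range t, ?_, ?_⟩
  · rw [PhiO_mem_inn_iff Q h2 hQ hn hodd htSO]
    exact htΩ
  · rintro _ ⟨g, rfl⟩
    obtain ⟨s, hs, hgs⟩ := exists_SO_of_GO Q h2 hQ (by omega) hodd g
    rw [hgs]
    by_cases hsΩ : s ∈ Omega F (⇑Q)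
    · right
      exact (PhiO_mem_inn_iff Q h2 hQ hn hodd hs).mpr hsΩ
    · left
      rw [← map_mul, PhiO_mem_inn_iff Q h2 hQ hn hodd (Subgroup.mul_mem _ hs htSO)]
      exact mul_mem_omega Q h2 hQ hs htSO hsΩ htΩ

end counting

section split

open Cfsg.Agent.Lib.Helper14_SplitClass Cfsg.Agent.Lib.Helper14_CartanDieudonne

variable {ι : Type} [Fintype ι] [DecidableEq ι] {F₀ F : Type*} [Field F₀] [Field F] [Fintype F₀]
  [Fintype F] {j : F₀ →+* F} {Q₀ : QuadraticForm F₀ (ι → F₀)} {Q : QuadraticForm F (ι → F)}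
  (hc : Compat j Q₀ Q) (σ : ↥(invSub (⇑Q))) (hι : ∀ a : F, σ.1 a = a ↔ a ∈ Set.range j)

theorem splitCount_eq_index :
    splitClassCount (Phi (⇑Q)).range (Inn (POmega F (⇑Q))) (fieldO (⇑Q) σ) =
      ((Inn (POmega F (⇑Q))).subgroupOf (Phi (⇑Q)).range ⊔
        (Subgroup.centralizer {fieldO (⇑Q) σ}).subgroupOf (Phi (⇑Q)).range).index :=
  splitClassCount_eq_index _ _ (inn_le_range Q) inferInstance _

include hι hc in
/-- odd degree: the class does not split -/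
theorem split_one (h2 : (2 : F) ≠ 0) (hQ : (QuadraticMap.polarBilin Q).Nondegenerate)
    (h2₀ : (2 : F₀) ≠ 0) (hQ₀ : (QuadraticMap.polarBilin Q₀).Nondegenerate)
    (hn : 5 ≤ Fintype.card ι) (hodd : Odd (Fintype.card ι))
    (hnsq : ∀ a : F₀, ¬ IsSquare a → ¬ IsSquare (j a)) :
    splitClassCount (Phi (⇑Q)).range (Inn (POmega F (⇑Q))) (fieldO (⇑Q) σ) = 1 := by
  rw [splitCount_eq_index, Subgroup.index_eq_one, eq_top_iff]
  -- a fixed special isometry outside `Ω`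
  obtain ⟨a₀, ha1⟩ := exists_norm_eq h2₀ Q₀ hQ₀ (by omega) 1
  obtain ⟨ε, hε⟩ := FiniteField.exists_nonsquare
    (Cfsg.Agent.Lib.Helper44_FinSq.ringChar_ne_two_of_two_ne_zero h2₀)
  obtain ⟨b₀, hbε⟩ := exists_norm_eq h2₀ Q₀ hQ₀ (by omega) ε
  have ha : Q₀ a₀ ≠ 0 := by rw [ha1]; exact one_ne_zero
  have hb : Q₀ b₀ ≠ 0 := by
    rw [hbε]; rintro rfl; exact hε ⟨0, by simp⟩
  have ha' : Q (vmap j a₀) ≠ 0 := by
    rw [hc, ha1, map_one]; exact one_ne_zero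
  have hb' : Q (vmap j b₀) ≠ 0 := by
    rw [hc, Ne, map_eq_zero]; exact hb
  have hasq : IsSquare (Q (vmap j a₀)) := by
    rw [hc, ha1, map_one]; exact ⟨1, by simp⟩
  have hbsq : ¬ IsSquare (Q (vmap j b₀)) := by
    rw [hc, hbε]; exact hnsq ε hε
  set t₀ : ↥(specialIsometryGroup F₀ (⇑Q₀)) := Cfsg.Agent.S0787.pair Q₀ a₀ b₀ ha hb with ht₀
  set t : ↥(isometryGroup F (⇑Q)) := mapIsom hc t₀.1 with ht
  have htSO : t ∈ specialIsometryGroup F (⇑Q) := (mapIsom_mem_SO_iff hc t₀.1).mpr t₀.2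
  have hteq : t = refl Q (vmap j a₀) ha' * refl Q (vmap j b₀) hb' := by
    rw [ht, ht₀, Cfsg.Agent.S0787.pair_coe, map_mul, mapIsom_refl hc a₀ ha ha',
      mapIsom_refl hc b₀ hb hb']
  have htΩ : t ∉ Omega F (⇑Q) := by
    rw [hteq]
    exact pair_not_mem_omega Q h2 hQ ha' hb' hasq hbsq
  have htC : PhiO (⇑Q) t ∈ CDO σ := PsiSO_mem hc σ hι h2 hQ hn hodd t₀
  rw [mem_CDO_iff] at htC
  rintro ⟨y, hy⟩ -
  obtain ⟨g, rfl⟩ := hy
  obtain ⟨s, hs, hgs⟩ := exists_SO_of_GO Q h2 hQ (by omega) hodd g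
  by_cases hsΩ : s ∈ Omega F (⇑Q)
  · apply Subgroup.mem_sup_left
    rw [Subgroup.mem_subgroupOf]
    show Phi (⇑Q) g ∈ _
    rw [hgs]
    exact (PhiO_mem_inn_iff Q h2 hQ hn hodd hs).mpr hsΩ
  · set c : ↥((Phi (⇑Q)).range) := ⟨PhiO (⇑Q) t, PhiO_mem_range t⟩ with hcdef
    have h1 : (⟨Phi (⇑Q) g, ⟨g, rfl⟩⟩ : ↥((Phi (⇑Q)).range)) =
        (⟨Phi (⇑Q) g, ⟨g, rfl⟩⟩ * c) * c⁻¹ := by group
    rw [h1]
    apply Subgroup.mul_mem
    · apply Subgroup.mem_sup_left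
      rw [Subgroup.mem_subgroupOf]
      show Phi (⇑Q) g * PhiO (⇑Q) t ∈ _
      rw [hgs, ← map_mul, PhiO_mem_inn_iff Q h2 hQ hn hodd (Subgroup.mul_mem _ hs htSO)]
      exact mul_mem_omega Q h2 hQ hs htSO hsΩ htΩ
    · apply Subgroup.inv_mem
      apply Subgroup.mem_sup_right
      rw [Subgroup.mem_subgroupOf, Subgroup.mem_centralizer_iff]
      intro z hz
      rw [Set.mem_singleton_iff] at hz
      subst hz
      exact htC.2

theorem map_list_prod_matrix (l : List (Matrix ι ι F₀)) :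
    (l.prod).map j = (l.map (fun M => M.map j)).prod := by
  have := map_list_prod (RingHom.mapMatrix (m := ι) j) l
  simp only [RingHom.mapMatrix_apply] at this
  exact this

include hι hc in
/-- degree two: the class splits into two -/
theorem split_two (h2 : (2 : F) ≠ 0) (hQ : (QuadraticMap.polarBilin Q).Nondegenerate)
    (h2₀ : (2 : F₀) ≠ 0) (hQ₀ : (QuadraticMap.polarBilin Q₀).Nondegenerate)
    (hn : 5 ≤ Fintype.card ι) (hodd : Odd (Fintype.card ι))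
    (hsq : ∀ a : F₀, IsSquare (j a)) :
    splitClassCount (Phi (⇑Q)).range (Inn (POmega F (⇑Q))) (fieldO (⇑Q) σ) = 2 := by
  rw [splitCount_eq_index]
  have hle : (Subgroup.centralizer {fieldO (⇑Q) σ}).subgroupOf (Phi (⇑Q)).range ≤
      (Inn (POmega F (⇑Q))).subgroupOf (Phi (⇑Q)).range := by
    rintro ⟨y, hy⟩ hyC
    rw [Subgroup.mem_subgroupOf] at hyC ⊢
    have hyCD : y ∈ CDO σ := Subgroup.mem_inf.mpr ⟨hy, hyC⟩
    obtain ⟨s₀, hs₀⟩ := PsiSO_range hc σ hι h2 hQ hn hodd y hyCD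
    show y ∈ _
    rw [← hs₀, PsiSO_apply,
      PhiO_mem_inn_iff Q h2 hQ hn hodd ((mapIsom_mem_SO_iff hc s₀.1).mpr s₀.2)]
    obtain ⟨vs, hvs, hprod⟩ := exists_list_reflT h2₀ Q₀ hQ₀ s₀.1
    have hmat : ((s₀.1 : GL ι F₀) : Matrix ι ι F₀) =
        (vs.map (fun v => Cfsg.reflectionMatrix (⇑Q₀) v)).prod := by
      rw [hprod, prod_reflT_coe Q₀ vs hvs]
    have hvs' : ∀ v ∈ vs.map (vmap j), Q v ≠ 0 := by
      intro v hv
      rw [List.mem_map] at hv
      obtain ⟨w, hw, rfl⟩ := hv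
      rw [hc, Ne, map_eq_zero]
      exact hvs w hw
    have hg : (((mapIsom hc s₀.1 : ↥(isometryGroup F (⇑Q))) : GL ι F) : Matrix ι ι F) =
        ((vs.map (vmap j)).map (fun v => Cfsg.reflectionMatrix (⇑Q) v)).prod := by
      rw [mapIsom_coe, glMap_coe, hmat, map_list_prod_matrix, List.map_map, List.map_map]
      congr 1
      apply List.map_congr_left
      intro v _
      exact (hc.reflectionMatrix v).symm
    rw [mem_omega_iff Q h2 _ (vs.map (vmap j)) hvs' hg, List.length_map]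
    constructor
    · have hdet : ((s₀.1 : GL ι F₀) : Matrix ι ι F₀).det = 1 :=
        (Cfsg.Agent.S0787.mem_SO_iff Q₀ s₀.1).mp s₀.2
      rw [hmat, det_prod Q₀ vs hvs] at hdet
      rcases Nat.even_or_odd vs.length with h | h
      · exact h
      · rw [h.neg_one_pow] at hdet
        exfalso
        apply h2₀
        linear_combination -hdet
    · have : ((vs.map (vmap j)).map (fun v => Q v)).prod = j ((vs.map (fun v => Q₀ v)).prod) := by
        rw [map_list_prod, List.map_map, List.map_map]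
        congr 1
        apply List.map_congr_left
        intro v _
        exact hc v
      rw [this]
      exact hsq _
  rw [sup_eq_left.mpr hle]
  exact relIndex_inn_range Q h2 hQ hn hodd

end split

end Cfsg.Agent.Lib.Helper44_OrthOddCent
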