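import Mathlib
import Cfsg.Agent.Lib.Helper44_OrthLang
import Cfsg.Agent.Lib.Helper44_QuadClass
import Cfsg.Agent.Lib.Helper44_StdForms
import Cfsg.Agent.Lib.Helper40_QuadIso
import Cfsg.Agent.Lib.Helper14_POmegaSimple

/-!
# Lang's theorem for `GO_{2m+1}(F)` (helper44)

Every nondegenerate quadratic form of dimension `2m+1` over a finite field is similar to the
standard one; hence Lang's theorem for the similarity group of `qfOdd m F`.
-/

set_option autoImplicit false
set_option linter.unusedSectionVars false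
set_option linter.unusedVariables false

namespace Cfsg.Agent.Lib.Helper44_OrthOddLang

open Cfsg Matrix Module Cfsg.Agent.Lib.Helper44_Orth Cfsg.Agent.Lib.Helper14_AutOmega
  Cfsg.Agent.Lib.Helper44_H90i Cfsg.Agent.Lib.Helper44_H90 Cfsg.Agent.Lib.Helper44_OrthField
  Cfsg.Agent.Lib.Helper44_FixField Cfsg.Agent.Lib.Helper44_Simil Cfsg.Agent.Lib.Helper44_OrthLang
  Cfsg.Agent.Lib.Helper44_StdForms Cfsg.Agent.Lib.Helper44_QuadClass
  Cfsg.Agent.Lib.Helper40_QuadIso

/-- the index type of the odd-dimensional standard form -/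
abbrev I (m : ℕ) : Type := Unit ⊕ (Fin m ⊕ Fin m)

section single

variable {F : Type*} [Field F] (m : ℕ)

theorem qfOdd_single (k : I m) :
    qfOdd m F (Pi.single k 1) = match k with
      | Sum.inl _ => 1
      | Sum.inr _ => 0 := by
  have h := congrFun (coe_qfOdd m F) (Pi.single k 1)
  rw [h, Cfsg.quadFormOdd]
  rcases k with u | i | i <;> simp [Pi.single_apply]

theorem polar_qfOdd_single (k l : I m) :
    QuadraticMap.polar (⇑(qfOdd m F)) (Pi.single k 1) (Pi.single l 1) =
      match k, l with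
      | Sum.inl _, Sum.inl _ => 2
      | Sum.inr (Sum.inl i), Sum.inr (Sum.inr j) => if i = j then 1 else 0
      | Sum.inr (Sum.inr i), Sum.inr (Sum.inl j) => if i = j then 1 else 0
      | _, _ => 0 := by
  rw [coe_qfOdd, polar_quadFormOdd]
  rcases k with u | i | i <;> rcases l with u' | j | j <;> simp [Pi.single_apply]
  split_ifs with h1 h2 h2
  · rfl
  · exact absurd h1.symm h2
  · exact absurd h2.symm h1
  · rfl

end single

section classify

variable {F₀ : Type*} [Field F₀] [Finite F₀] (m : ℕ)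

theorem nondegenerate_smul {V : Type*} [AddCommGroup V] [Module F₀ V] (Q : QuadraticForm F₀ V)
    (hQ : (QuadraticMap.polarBilin Q).Nondegenerate) (d : F₀) (hd : d ≠ 0) :
    (QuadraticMap.polarBilin (d • Q)).Nondegenerate := by
  have key : ∀ x y, QuadraticMap.polarBilin (d • Q) x y = d * QuadraticMap.polarBilin Q x y := by
    intro x y
    rw [QuadraticMap.polarBilin_apply_apply, QuadraticMap.polarBilin_apply_apply]
    show QuadraticMap.polar (d • ⇑Q) x y = _
    rw [QuadraticMap.polar_smul, smul_eq_mul]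
  constructor
  · intro x hx
    apply hQ.1
    intro y
    have := hx y
    rw [key] at this
    exact (mul_eq_zero.mp this).resolve_left hd
  · intro y hy
    apply hQ.2
    intro x
    have := hy x
    rw [key] at this
    exact (mul_eq_zero.mp this).resolve_left hd

/-- **classification in odd dimension, up to similarity** -/
theorem similar_odd (K₀ : QuadraticForm F₀ (I m → F₀))
    (hnd : (QuadraticMap.polarBilin K₀).Nondegenerate) :
    ∃ (d : F₀ˣ) (φ : (I m → F₀) ≃ₗ[F₀] (I m → F₀)), ∀ v, K₀ (φ v) = (d : F₀) * qfOdd m F₀ v := by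
  classical
  have hdim : finrank F₀ (I m → F₀) = 2 * m + 1 := by
    rw [Module.finrank_fintype_fun_eq_card, Fintype.card_sum, Fintype.card_sum, Fintype.card_fin,
      Fintype.card_unit]
    ring
  obtain ⟨x, e, f, h2, hx, hsys, hxe, hxf⟩ := odd_standard m (I m → F₀) K₀ hdim hnd
  set d : F₀ := K₀ x with hd
  let img : I m → (I m → F₀) := fun k => match k with
    | Sum.inl _ => x
    | Sum.inr (Sum.inl i) => e i
    | Sum.inr (Sum.inr i) => d • f i
  have hiso : Iso (d • qfOdd m F₀) K₀ := by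
    apply iso_of_basis (Pi.basisFun F₀ (I m)) (d • qfOdd m F₀) K₀
      (nondegenerate_smul _ (Cfsg.Agent.Lib.Helper14_POmegaSimple.nondegenerate_qfOdd h2 m) d hx)
      rfl img
    · intro k
      rw [Pi.basisFun_apply, _root_.smul_apply, smul_eq_mul, qfOdd_single]
      rcases k with u | i | i
      · show K₀ x = d * 1
        rw [mul_one]
      · show K₀ (e i) = d * 0
        rw [mul_zero, hsys.qe]
      · show K₀ (d • f i) = d * 0
        rw [mul_zero, QuadraticMap.map_smul, hsys.qf, smul_zero]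
    · intro k l
      rw [Pi.basisFun_apply, Pi.basisFun_apply]
      have hpol : QuadraticMap.polar (⇑(d • qfOdd m F₀)) (Pi.single k 1) (Pi.single l 1) =
          d * QuadraticMap.polar (⇑(qfOdd m F₀)) (Pi.single k 1) (Pi.single l 1) := by
        show QuadraticMap.polar (d • ⇑(qfOdd m F₀)) _ _ = _
        rw [QuadraticMap.polar_smul, smul_eq_mul]
      rw [hpol, polar_qfOdd_single]
      rcases k with u | i | i <;> rcases l with u' | j | j
      · show QuadraticMap.polar (⇑K₀) x x = d * 2
        rw [polar_self', mul_comm]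
      · show QuadraticMap.polar (⇑K₀) x (e j) = d * 0
        rw [mul_zero, hxe]
      · show QuadraticMap.polar (⇑K₀) x (d • f j) = d * 0
        rw [mul_zero, QuadraticMap.polar_smul_right, hxf, smul_zero]
      · show QuadraticMap.polar (⇑K₀) (e i) x = d * 0
        rw [mul_zero, QuadraticMap.polar_comm, hxe]
      · show QuadraticMap.polar (⇑K₀) (e i) (e j) = d * 0
        rw [mul_zero, hsys.ee]
      · show QuadraticMap.polar (⇑K₀) (e i) (d • f j) = d * (if i = j then 1 else 0)
        rw [QuadraticMap.polar_smul_right, hsys.ef, smul_eq_mul]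
      · show QuadraticMap.polar (⇑K₀) (d • f i) x = d * 0
        rw [mul_zero, QuadraticMap.polar_smul_left, QuadraticMap.polar_comm, hxf, smul_zero]
      · show QuadraticMap.polar (⇑K₀) (d • f i) (e j) = d * (if i = j then 1 else 0)
        rw [QuadraticMap.polar_smul_left, QuadraticMap.polar_comm, hsys.ef, smul_eq_mul]
        congr 1
        split_ifs with h1 h3 h3
        · rfl
        · exact absurd h1.symm h3
        · exact absurd h3.symm h1
        · rfl
      · show QuadraticMap.polar (⇑K₀) (d • f i) (d • f j) = d * 0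
        rw [mul_zero, QuadraticMap.polar_smul_left, QuadraticMap.polar_smul_right, hsys.ff,
          smul_zero, smul_zero]
  obtain ⟨φ, hφ⟩ := hiso
  refine ⟨Units.mk0 d hx, φ, fun v => ?_⟩
  rw [hφ, _root_.smul_apply, smul_eq_mul, Units.val_mk0]

/-- matrix form of `similar_odd` -/
theorem similar_odd_matrix (K₀ : QuadraticForm F₀ (I m → F₀))
    (hnd : (QuadraticMap.polarBilin K₀).Nondegenerate) :
    ∃ (d : F₀ˣ) (P P' : Matrix (I m) (I m) F₀), P * P' = 1 ∧ P' * P = 1 ∧
      ∀ v, K₀ (P *ᵥ v) = (d : F₀) * qfOdd m F₀ v := by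
  obtain ⟨d, φ, hφ⟩ := similar_odd m K₀ hnd
  refine ⟨d, LinearMap.toMatrix' (φ : (I m → F₀) →ₗ[F₀] (I m → F₀)),
    LinearMap.toMatrix' (φ.symm : (I m → F₀) →ₗ[F₀] (I m → F₀)), ?_, ?_, ?_⟩
  · rw [← LinearMap.toMatrix'_comp]
    have : (φ : (I m → F₀) →ₗ[F₀] (I m → F₀)).comp
        (φ.symm : (I m → F₀) →ₗ[F₀] (I m → F₀)) = LinearMap.id := by
      ext x
      simp
    rw [this, LinearMap.toMatrix'_id]
  · rw [← LinearMap.toMatrix'_comp]
    have : (φ.symm : (I m → F₀) →ₗ[F₀] (I m → F₀)).comp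
        (φ : (I m → F₀) →ₗ[F₀] (I m → F₀)) = LinearMap.id := by
      ext x
      simp
    rw [this, LinearMap.toMatrix'_id]
  · intro v
    rw [LinearMap.toMatrix'_mulVec]
    exact hφ v

end classify

section lang

variable {F : Type*} [Field F] (m : ℕ)

theorem sigInv_qfOdd (σ : F ≃+* F) : SigInv (⇑(qfOdd m F)) σ := by
  intro v
  rw [coe_qfOdd]
  simp only [Cfsg.quadFormOdd, map_add, map_pow, map_sum, map_mul]

theorem qfOdd_up (σ : F ≃+* F) (v : I m → fixField σ) :
    qfOdd m F (up σ v) = ((qfOdd m (fixField σ) v : fixField σ) : F) := by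
  have h1 := congrFun (coe_qfOdd m F) (up σ v)
  have h2 := congrFun (coe_qfOdd m (fixField σ)) v
  rw [h1, h2]
  simp only [Cfsg.quadFormOdd, up_apply]
  push_cast
  rfl

variable [Finite F]

/-- the classification hypothesis of `lang_generic` for the odd-dimensional standard form -/
theorem hclass_odd (h2 : (2 : F) ≠ 0) (σ : F ≃+* F) (K : QuadraticForm F (I m → F))
    (hKσ : SigInv (⇑K) σ)
    (hK : ∃ (β : Fˣ) (h : GL (I m) F), ∀ v, K v = (β : F) * qfOdd m F (h.1 *ᵥ v)) :
    ∃ (a : GL (I m) F) (d : Fˣ), mapGLi σ a = a ∧ ∀ v, K (a.1 *ᵥ v) = (d : F) * qfOdd m F v := by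
  classical
  obtain ⟨β, h, hK⟩ := hK
  -- `K` is nondegenerate
  have hKnd : (QuadraticMap.polarBilin K).Nondegenerate := by
    have hQnd := Cfsg.Agent.Lib.Helper14_POmegaSimple.nondegenerate_qfOdd h2 m
    have key : ∀ x y, QuadraticMap.polarBilin K x y =
        (β : F) * QuadraticMap.polarBilin (qfOdd m F) (h.1 *ᵥ x) (h.1 *ᵥ y) := by
      intro x y
      simp only [QuadraticMap.polarBilin_apply_apply, QuadraticMap.polar]
      rw [hK, hK, hK, Matrix.mulVec_add]
      ring
    have hinj : ∀ x : I m → F, h.1 *ᵥ x = 0 → x = 0 := by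
      intro x hx
      have := congrArg (fun y => (h⁻¹ : GL (I m) F).1 *ᵥ y) hx
      simp only [Matrix.mulVec_mulVec, Matrix.mulVec_zero] at this
      rwa [← Units.val_mul, inv_mul_cancel, Units.val_one, Matrix.one_mulVec] at this
    have hsurj : ∀ y : I m → F, ∃ x, h.1 *ᵥ x = y := by
      intro y
      refine ⟨(h⁻¹ : GL (I m) F).1 *ᵥ y, ?_⟩
      rw [Matrix.mulVec_mulVec, ← Units.val_mul, mul_inv_cancel, Units.val_one, Matrix.one_mulVec]
    constructor
    · intro x hx
      apply hinj
      apply hQnd.1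
      intro y
      obtain ⟨y', rfl⟩ := hsurj y
      have := hx y'
      rw [key] at this
      exact (mul_eq_zero.mp this).resolve_left β.ne_zero
    · intro y hy
      apply hinj
      apply hQnd.2
      intro x
      obtain ⟨x', rfl⟩ := hsurj x
      have := hy x'
      rw [key] at this
      exact (mul_eq_zero.mp this).resolve_left β.ne_zero
  have hnd₀ := descQ_nondegenerate σ K hKσ hKnd
  obtain ⟨d₀, P, P', hPP', hP'P, hP⟩ := similar_odd_matrix m (descQ σ K hKσ) hnd₀
  let ι₀ : fixField σ →+* F := (fixField σ).subtype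
  have hPQ' : P.map ι₀ * P'.map ι₀ = 1 := by
    rw [← Matrix.map_mul, hPP']
    exact Matrix.map_one ι₀ (map_zero ι₀) (map_one ι₀)
  have hQP' : P'.map ι₀ * P.map ι₀ = 1 := by
    rw [← Matrix.map_mul, hP'P]
    exact Matrix.map_one ι₀ (map_zero ι₀) (map_one ι₀)
  let a : GL (I m) F := ⟨P.map ι₀, P'.map ι₀, hPQ', hQP'⟩
  have haσ : mapGLi σ a = a := by
    apply Units.ext
    rw [mapGLi_coe]
    ext i j
    exact (mem_fixField σ _).mp (P i j).2
  refine ⟨a, Units.map (ι₀ : fixField σ →* F) d₀, haσ, ?_⟩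
  have heq : K.comp (Matrix.toLin' a.1) =
      ((Units.map (ι₀ : fixField σ →* F) d₀ : Fˣ) : F) • qfOdd m F := by
    apply ext_of_up σ
    intro v
    rw [QuadraticMap.comp_apply, Matrix.toLin'_apply, _root_.smul_apply, smul_eq_mul]
    show K (P.map ι₀ *ᵥ up σ v) = ι₀ (d₀ : fixField σ) * qfOdd m F (up σ v)
    rw [← up_mulVec, ← descQ_coe σ K hKσ, hP, qfOdd_up]
    rfl
  intro v
  have := congrArg (fun G : QuadraticForm F (I m → F) => G v) heq
  simp only [QuadraticMap.comp_apply, Matrix.toLin'_apply, _root_.smul_apply, smul_eq_mul] at this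
  exact this

/-- **Lang's theorem for `GO_{2m+1}`** (cocycle form) -/
theorem lang_GO_odd (h2 : (2 : F) ≠ 0) (σ : F ≃+* F) {r : ℕ} (hr : 0 < r) (hord : orderOf σ = r)
    (g : ↥(GO (⇑(qfOdd m F)))) (hg : PNi σ g.1 r = 1) :
    ∃ k : ↥(GO (⇑(qfOdd m F))), g.1 * mapGLi σ k.1 = k.1 := by
  apply lang_generic σ (qfOdd m F) (sigInv_qfOdd m σ) hr hord ?_ ?_ g hg
  · refine ⟨Pi.single (Sum.inl ()) 1, ?_⟩
    rw [qfOdd_single]
    exact one_ne_zero
  · intro K hKσ hK
    exact hclass_odd m h2 σ K hKσ hK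

end lang

end Cfsg.Agent.Lib.Helper44_OrthOddLang
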