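import Mathlib
import Cfsg.Agent.Lib.Helper44_OrthCoset
import Cfsg.Agent.Lib.Helper44_OrthOddLang
import Cfsg.Agent.Lib.Helper44_FinSq

/-!
# Cosets of field automorphisms of `PΩ_{2m+1}(q)` (helper44)

The statement of S2735, modulo `Aut(PΩ_{2m+1}(q)) = PΓO_{2m+1}(q)` (S2694).
-/

set_option autoImplicit false
set_option linter.unusedSectionVars false
set_option linter.unusedVariables false

namespace Cfsg.Agent.Lib.Helper44_OrthOddMain

open Cfsg Matrix Cfsg.Agent.Lib.Helper44_Orth Cfsg.Agent.Lib.Helper14_AutOmega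
  Cfsg.Agent.Lib.Helper44_H90i Cfsg.Agent.Lib.Helper44_H90 Cfsg.Agent.Lib.Helper44_OrthField
  Cfsg.Agent.Lib.Helper44_FixField Cfsg.Agent.Lib.Helper44_OrthLang
  Cfsg.Agent.Lib.Helper44_OrthFaith Cfsg.Agent.Lib.Helper14_CentOmega
  Cfsg.Agent.Lib.Helper44_OrthCoset Cfsg.Agent.Lib.Helper44_OrthOddLang
  Cfsg.Agent.Lib.Helper44_StdForms

variable {F : Type*} [Field F]

theorem ringEquiv_single {κ : Type*} [DecidableEq κ] (σ : F ≃+* F) (k i : κ) :
    σ ((Pi.single k 1 : κ → F) i) = (Pi.single k 1 : κ → F) i := by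
  by_cases hik : i = k
  · subst hik
    rw [Pi.single_eq_same, map_one]
  · rw [Pi.single_eq_of_ne hik, map_zero]

theorem faithData_qfOdd {m : ℕ} (hm : 2 ≤ m) : FaithData (qfOdd m F) := by
  refine ⟨Pi.single (Sum.inr (Sum.inl ⟨0, by omega⟩)) 1, Pi.single (Sum.inr (Sum.inl ⟨1, by omega⟩)) 1,
    ?_, ?_, ?_, ?_, fun σ i => ringEquiv_single σ _ i, fun σ i => ringEquiv_single σ _ i⟩
  · rw [qfOdd_single]
  · rw [qfOdd_single]
  · rw [polar_qfOdd_single]
  · intro h0
    have h1 := congrFun (congrFun h0 (Sum.inr (Sum.inl ⟨1, by omega⟩))) (Sum.inr (Sum.inr ⟨0, by omega⟩))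
    simp only [siegelN, Matrix.sub_apply, Matrix.vecMulVec_apply, Matrix.zero_apply, polarVec] at h1
    rw [polar_qfOdd_single, polar_qfOdd_single] at h1
    simp at h1

variable [Fintype F]

/-- the coset statement for a function equal to the odd-dimensional standard form -/
theorem coset_conj_odd_aux (h2 : (2 : F) ≠ 0) {m : ℕ} (hm : 2 ≤ m) (Qf : (I m → F) → F)
    (hQf : Qf = ⇑(qfOdd m F)) (hAut : gammaPOmega F Qf = ⊤)
    (x δ : MulAut (POmega F Qf)) (hx : IsFieldAutClassPOmega Qf x) {r : ℕ} (hr : r.Prime)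
    (hxr : orderOf x = r) (hδ : δ ∈ (Phi Qf).range) :
    orderOf (δ * x) = r ↔ IsConjUnder (Phi Qf).range x (δ * x) := by
  subst hQf
  have hn : 5 ≤ Fintype.card (I m) := by
    rw [Fintype.card_sum, Fintype.card_sum, Fintype.card_fin, Fintype.card_unit]
    omega
  exact coset_conj_generic (qfOdd m F)
    (Cfsg.Agent.Lib.Helper14_POmegaSimple.nondegenerate_qfOdd h2 m) hn (faithData_qfOdd hm)
    (sigInv_qfOdd m) hAut (fun σ r hr hord g hg => lang_GO_odd m h2 σ hr hord g hg)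
    x δ hx hr hxr hδ

/-- **S2735 modulo S2694** -/
theorem coset_conj_odd (hodd : Odd (Fintype.card F)) {m : ℕ} (hm : 3 ≤ m)
    (hAut : gammaPOmega F (quadFormOdd m F) = ⊤)
    (x δ : MulAut (POmega F (quadFormOdd m F)))
    (hx : IsFieldAutClassPOmega (quadFormOdd m F) x) {r : ℕ} (hr : r.Prime)
    (hxr : orderOf x = r) (hδ : δ ∈ inndiagPOmegaOdd m F) :
    orderOf (δ * x) = r ↔ IsConjUnder (inndiagPOmegaOdd m F) x (δ * x) := by
  have h2 : (2 : F) ≠ 0 := Cfsg.Agent.Lib.Helper44_FinSq.two_ne_zero_of_odd_card hodd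
  have hD : inndiagPOmegaOdd m F = (Phi (quadFormOdd m F)).range := pgoAut_eq (quadFormOdd m F)
  rw [hD] at hδ ⊢
  exact coset_conj_odd_aux h2 (by omega) (quadFormOdd m F) (coe_qfOdd m F).symm hAut x δ hx hr
    hxr hδ

end Cfsg.Agent.Lib.Helper44_OrthOddMain
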