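import Mathlib
import Cfsg.Agent.Lib.Helper44_OrthOddCent
import Cfsg.Agent.Lib.Helper44_OrthOddMain
import Cfsg.Agent.Lib.Helper44_PSLnOut
import Cfsg.Agent.Lib.Helper42_AutPSL2

/-!
# Order of `Aut(Ω_{2m+1}(q))` and structure of `Out(Ω_{2m+1}(q))` (helper44)

The statements of S0816 and S2604, modulo `Aut(PΩ_{2m+1}(q)) = PΓO_{2m+1}(q)` (S2694).
-/

set_option autoImplicit false
set_option linter.unusedSectionVars false
set_option linter.unusedVariables false

namespace Cfsg.Agent.Lib.Helper44_OrthOddOut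

open Cfsg Matrix Cfsg.Agent.Lib.Helper44_Orth Cfsg.Agent.Lib.Helper14_AutOmega
  Cfsg.Agent.Lib.Helper44_H90i Cfsg.Agent.Lib.Helper44_H90 Cfsg.Agent.Lib.Helper44_OrthField
  Cfsg.Agent.Lib.Helper44_OrthFaith Cfsg.Agent.Lib.Helper14_CentOmega
  Cfsg.Agent.Lib.Helper44_OrthCoset Cfsg.Agent.Lib.Helper44_OrthOddCent
  Cfsg.Agent.Lib.Helper14_OmegaIndex Cfsg.Agent.Lib.Helper44_OrthOddLang
  Cfsg.Agent.Lib.Helper44_OrthOddMain Cfsg.Agent.Lib.Helper44_StdForms

section generic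

variable {ι : Type} [Fintype ι] [DecidableEq ι] {F : Type*} [Field F] [Fintype F]
  (Q : QuadraticForm F (ι → F))

/-- `PΩ(Q)` has trivial centre -/
theorem conj_injective (hQ : (QuadraticMap.polarBilin Q).Nondegenerate)
    (hn : 5 ≤ Fintype.card ι) :
    Function.Injective (MulAut.conj : POmega F (⇑Q) →* MulAut (POmega F (⇑Q))) := by
  rw [injective_iff_map_eq_one]
  intro x hx
  induction x using QuotientGroup.induction_on with
  | H s =>
    rw [← Phi_omega] at hx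
    have hsc := scalar_of_Phi_eq_one Q hQ hn _ hx
    obtain ⟨c, hc⟩ := (Cfsg.Geo.mem_scalars_iff _).mp hsc
    rw [QuotientGroup.eq_one_iff, Subgroup.mem_center_iff]
    intro t
    apply Subtype.ext
    apply Subtype.ext
    apply Units.ext
    show ((t : ↥(isometryGroup F (⇑Q))) : GL ι F).1 * ((s : ↥(isometryGroup F (⇑Q))) : GL ι F).1 =
      ((s : ↥(isometryGroup F (⇑Q))) : GL ι F).1 * ((t : ↥(isometryGroup F (⇑Q))) : GL ι F).1
    have hc' : ((s : ↥(isometryGroup F (⇑Q))) : GL ι F).1 = c • (1 : Matrix ι ι F) := hc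
    rw [hc', Matrix.mul_smul, Matrix.smul_mul, Matrix.mul_one, Matrix.one_mul]

theorem card_inn (hQ : (QuadraticMap.polarBilin Q).Nondegenerate) (hn : 5 ≤ Fintype.card ι) :
    Nat.card (Inn (POmega F (⇑Q))) = Nat.card (POmega F (⇑Q)) := by
  have e := MonoidHom.ofInjective (conj_injective Q hQ hn)
  exact (Nat.card_congr e.toEquiv).symm

theorem card_range (h2 : (2 : F) ≠ 0) (hQ : (QuadraticMap.polarBilin Q).Nondegenerate)
    (hn : 5 ≤ Fintype.card ι) (hodd : Odd (Fintype.card ι)) :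
    Nat.card (Phi (⇑Q)).range = 2 * Nat.card (POmega F (⇑Q)) := by
  have h1 := Subgroup.relIndex_mul_relIndex (⊥ : Subgroup (MulAut (POmega F (⇑Q))))
    (Inn (POmega F (⇑Q))) (Phi (⇑Q)).range bot_le (inn_le_range Q)
  rw [Subgroup.relIndex_bot_left, Subgroup.relIndex_bot_left,
    relIndex_inn_range Q h2 hQ hn hodd, card_inn Q hQ hn] at h1
  rw [← h1, mul_comm]

theorem invSub_eq_top (hall : ∀ σ : F ≃+* F, SigInv (⇑Q) σ) : invSub (⇑Q) = ⊤ := by
  rw [eq_top_iff]
  intro σ _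
  exact hall σ

theorem card_invSub {p f : ℕ} [hp : Fact p.Prime] (hF : Fintype.card F = p ^ f)
    (hall : ∀ σ : F ≃+* F, SigInv (⇑Q) σ) : Nat.card ↥(invSub (⇑Q)) = f := by
  rw [invSub_eq_top Q hall, Subgroup.card_top]
  exact Cfsg.Agent.Lib.Helper44_PSLnOut.card_ringAut hF

/-- a field automorphism in the image of `GO` is trivial -/
theorem sigma_eq_one_of_mem_range (hQ : (QuadraticMap.polarBilin Q).Nondegenerate)
    (hn : 5 ≤ Fintype.card ι) (hfd : FaithData Q) (σ : ↥(invSub (⇑Q)))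
    (h : fieldO (⇑Q) σ ∈ (Phi (⇑Q)).range) : σ = 1 := by
  obtain ⟨g, hg⟩ := h
  obtain ⟨u, w, hu, hw, huw, hN, hfu, hfw⟩ := hfd
  exact Subtype.ext
    (eq_one_of_fieldO_eq_Phi Q hQ hn σ g hg.symm u w hu hw huw hN (hfu σ.1) (hfw σ.1))

/-- **order of the automorphism group**, generic odd-dimensional form -/
theorem card_aut_generic (h2 : (2 : F) ≠ 0) (hQ : (QuadraticMap.polarBilin Q).Nondegenerate)
    (hn : 5 ≤ Fintype.card ι) (hodd : Odd (Fintype.card ι)) (hfd : FaithData Q)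
    (hall : ∀ σ : F ≃+* F, SigInv (⇑Q) σ) (hAut : gammaPOmega F (⇑Q) = ⊤)
    {p f : ℕ} [hp : Fact p.Prime] (hF : Fintype.card F = p ^ f) :
    Nat.card (MulAut (POmega F (⇑Q))) = 2 * f * Nat.card (POmega F (⇑Q)) := by
  have htop := stdAut_eq_top (⇑Q) hall hAut
  have hcard : Nat.card (MulAut (POmega F (⇑Q))) =
      Nat.card (Phi (⇑Q)).range * Nat.card ↥(invSub (⇑Q)) := by
    rw [← Nat.card_prod]
    symm
    let Φ : ↥(Phi (⇑Q)).range × ↥(invSub (⇑Q)) → MulAut (POmega F (⇑Q)) := fun x =>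
      x.1.1 * fieldO (⇑Q) x.2
    apply Nat.card_congr (Equiv.ofBijective Φ ⟨?_, ?_⟩)
    · rintro ⟨⟨d, hd⟩, σ⟩ ⟨⟨d', hd'⟩, σ'⟩ h
      have h1 : d * fieldO (⇑Q) σ = d' * fieldO (⇑Q) σ' := h
      have h2 : fieldO (⇑Q) (σ * σ'⁻¹) = d⁻¹ * d' := by
        rw [map_mul, map_inv]
        calc fieldO (⇑Q) σ * (fieldO (⇑Q) σ')⁻¹
            = d⁻¹ * (d * fieldO (⇑Q) σ) * (fieldO (⇑Q) σ')⁻¹ := by group
          _ = d⁻¹ * (d' * fieldO (⇑Q) σ') * (fieldO (⇑Q) σ')⁻¹ := by rw [h1]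
          _ = _ := by group
      have h3 : fieldO (⇑Q) (σ * σ'⁻¹) ∈ (Phi (⇑Q)).range := by
        rw [h2]
        exact Subgroup.mul_mem _ (Subgroup.inv_mem _ hd) hd'
      have h4 := sigma_eq_one_of_mem_range Q hQ hn hfd _ h3
      have h5 : σ = σ' := mul_inv_eq_one.mp h4
      subst h5
      have h6 : d = d' := mul_right_cancel h1
      subst h6
      rfl
    · intro α
      have hα : α ∈ stdAut (⇑Q) := by rw [htop]; exact Subgroup.mem_top α
      obtain ⟨g, σ, rfl⟩ := hα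
      exact ⟨⟨⟨Phi (⇑Q) g, g, rfl⟩, σ⟩, rfl⟩
  rw [hcard, card_range Q h2 hQ hn hodd, card_invSub Q hF hall]
  ring

end generic

section z2

variable {G : Type*} [Group G]

/-- the map `ZMod 2 → G` attached to an element -/
def z2Fun (u : G) (z : ZMod 2) : G := if z = 0 then 1 else u

theorem z2Fun_zero (u : G) : z2Fun u 0 = 1 := if_pos rfl

theorem z2Fun_one (u : G) : z2Fun u 1 = u := if_neg (by decide)

theorem zmod2_cases' (a : ZMod 2) : a = 0 ∨ a = 1 := by
  revert a; decide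

theorem z2Fun_add (u : G) (hu : u * u = 1) (a b : ZMod 2) :
    z2Fun u (a + b) = z2Fun u a * z2Fun u b := by
  rcases zmod2_cases' a with rfl | rfl <;> rcases zmod2_cases' b with rfl | rfl
  · rw [add_zero, z2Fun_zero, one_mul]
  · rw [zero_add, z2Fun_zero, one_mul]
  · rw [add_zero, z2Fun_zero, mul_one]
  · have : (1 : ZMod 2) + 1 = 0 := by decide
    rw [this, z2Fun_zero, z2Fun_one, hu]

/-- the homomorphism `Z/2 → G` attached to an element of square one -/
def z2Hom (u : G) (hu : u * u = 1) : Multiplicative (ZMod 2) →* G where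
  toFun z := z2Fun u (Multiplicative.toAdd z)
  map_one' := z2Fun_zero u
  map_mul' a b := z2Fun_add u hu _ _

theorem z2Hom_apply (u : G) (hu : u * u = 1) (z : Multiplicative (ZMod 2)) :
    z2Hom u hu z = z2Fun u (Multiplicative.toAdd z) := rfl

end z2

section abstractOut

variable {A C : Type*} [Group A] [Group C]

/-- abstract splitting: `A = P ⋊ φ(C)`, `I ≤ P` of index two, both normal: then
`A ⧸ I ≃ Z/2 × C` -/
theorem quotient_equiv_of_index_two (I P : Subgroup A) [hI : I.Normal] [hN : P.Normal]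
    (hIP : I ≤ P) (hidx : I.relIndex P = 2) (φ : C →* A)
    (hgen : ∀ α : A, ∃ d ∈ P, ∃ c : C, α = d * φ c)
    (hfaith : ∀ c : C, φ c ∈ P → c = 1) :
    Nonempty ((A ⧸ I) ≃* Multiplicative (ZMod 2) × C) := by
  classical
  rw [Subgroup.relIndex_eq_two_iff_exists_notMem_and] at hidx
  obtain ⟨t, htP, htI, hxor⟩ := hidx
  have htt : t * t ∈ I := by
    rcases hxor t htP with h | h
    · exact h
    · exact absurd h htI
  have hmul_of_not : ∀ b ∈ P, b ∉ I → b * t ∈ I := by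
    intro b hb hbI
    rcases hxor b hb with h | h
    · exact h
    · exact absurd h hbI
  obtain ⟨mkI, hmkI⟩ : ∃ m : A →* A ⧸ I, m = QuotientGroup.mk' I := ⟨_, rfl⟩
  have hmk_one : ∀ a, mkI a = 1 ↔ a ∈ I := fun a => by
    rw [hmkI]; exact QuotientGroup.eq_one_iff a
  have hmk_surj : Function.Surjective mkI := by
    rw [hmkI]; exact QuotientGroup.mk'_surjective _
  have hu : mkI t * mkI t = 1 := by
    rw [← map_mul, hmk_one]
    exact htt
  have hconj : ∀ α : A, mkI (α * t * α⁻¹) = mkI t := by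
    intro α
    have hc : α * t * α⁻¹ ∈ P := hN.conj_mem t htP α
    have hcI : α * t * α⁻¹ ∉ I := by
      intro h
      have := hI.conj_mem _ h α⁻¹
      apply htI
      have h3 : α⁻¹ * (α * t * α⁻¹) * α⁻¹⁻¹ = t := by group
      rwa [h3] at this
    have h1 := hmul_of_not _ hc hcI
    have h2 : mkI (α * t * α⁻¹) * mkI t = 1 := by
      rw [← map_mul, hmk_one]; exact h1
    calc mkI (α * t * α⁻¹) = mkI (α * t * α⁻¹) * (mkI t * mkI t) := by rw [hu, mul_one]
      _ = (mkI (α * t * α⁻¹) * mkI t) * mkI t := (mul_assoc _ _ _).symm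
      _ = mkI t := by rw [h2, one_mul]
  have hcomm : ∀ (z : Multiplicative (ZMod 2)) (c : C),
      Commute (z2Hom (mkI t) hu z) ((mkI.comp φ) c) := by
    intro z c
    rw [z2Hom_apply]
    rcases zmod2_cases' (Multiplicative.toAdd z) with h | h
    · rw [h, z2Fun_zero]; exact Commute.one_left _
    · rw [h, z2Fun_one]
      show mkI t * mkI (φ c) = mkI (φ c) * mkI t
      have h1 := hconj (φ c)
      rw [map_mul, map_mul, map_inv] at h1
      calc mkI t * mkI (φ c)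
          = (mkI (φ c) * mkI t * (mkI (φ c))⁻¹) * mkI (φ c) := by rw [h1]
        _ = _ := by group
  obtain ⟨Θ, hΘ⟩ : ∃ Θ : Multiplicative (ZMod 2) × C →* A ⧸ I,
      Θ = MonoidHom.noncommCoprod (z2Hom (mkI t) hu) (mkI.comp φ) hcomm := ⟨_, rfl⟩
  have hΘapp : ∀ (z : Multiplicative (ZMod 2)) (c : C),
      Θ (z, c) = z2Fun (mkI t) (Multiplicative.toAdd z) * mkI (φ c) := by
    intro z c
    rw [hΘ, MonoidHom.noncommCoprod_apply]
    rfl
  have hz2 : ∀ z : ZMod 2, z2Fun (mkI t) z = mkI (z2Fun t z) := by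
    intro z
    rcases zmod2_cases' z with rfl | rfl
    · rw [z2Fun_zero, z2Fun_zero, map_one]
    · rw [z2Fun_one, z2Fun_one]
  have hz2P : ∀ z : ZMod 2, z2Fun t z ∈ P := by
    intro z
    rcases zmod2_cases' z with rfl | rfl
    · rw [z2Fun_zero]; exact Subgroup.one_mem _
    · rw [z2Fun_one]; exact htP
  have hinj : Function.Injective Θ := by
    rw [injective_iff_map_eq_one]
    rintro ⟨z, c⟩ h
    rw [hΘapp, hz2, ← map_mul, hmk_one] at h
    have h1 : φ c ∈ P := by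
      have h3 := Subgroup.mul_mem _ (Subgroup.inv_mem _ (hz2P (Multiplicative.toAdd z))) (hIP h)
      rwa [inv_mul_cancel_left] at h3
    have hc := hfaith c h1
    subst hc
    rw [map_one, mul_one] at h
    have hz : Multiplicative.toAdd z = 0 := by
      rcases zmod2_cases' (Multiplicative.toAdd z) with h0 | h0
      · exact h0
      · rw [h0, z2Fun_one] at h
        exact absurd h htI
    have hz' : z = 1 := by
      rw [← ofAdd_toAdd z, hz]; rfl
    rw [hz']
    rfl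
  have hkey' : ∀ d : A, d ∈ P → ∀ ψ : A, ∃ z : ZMod 2, z2Fun (mkI t) z * mkI ψ = mkI (d * ψ) := by
    intro d hd ψ
    have h5 : mkI (d * ψ) = mkI d * mkI ψ := map_mul mkI d ψ
    by_cases hg : d ∈ I
    · refine ⟨0, ?_⟩
      rw [z2Fun_zero, one_mul, h5, (hmk_one _).mpr hg, one_mul]
    · refine ⟨1, ?_⟩
      rw [z2Fun_one, h5]
      congr 1
      have h1 := hmul_of_not _ hd hg
      have h2 : mkI d * mkI t = 1 := by
        rw [← map_mul, hmk_one]; exact h1
      calc mkI t = (mkI d * mkI t) * mkI t := by rw [h2, one_mul]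
        _ = mkI d * (mkI t * mkI t) := mul_assoc _ _ _
        _ = mkI d := by rw [hu, mul_one]
  have hsurj : Function.Surjective Θ := by
    intro x
    obtain ⟨α, rfl⟩ := hmk_surj x
    obtain ⟨d, hd, c, rfl⟩ := hgen α
    obtain ⟨z, hz⟩ := hkey' d hd (φ c)
    exact ⟨((Multiplicative.ofAdd z : Multiplicative (ZMod 2)), c), (hΘapp _ _).trans hz⟩
  exact ⟨(MulEquiv.ofBijective Θ ⟨hinj, hsurj⟩).symm⟩

end abstractOut

section outgeneric

variable {ι : Type} [Fintype ι] [DecidableEq ι] {F : Type*} [Field F] [Fintype F]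
  (Q : QuadraticForm F (ι → F))

/-- **structure of the outer automorphism group**, generic odd-dimensional form -/
theorem out_generic (h2 : (2 : F) ≠ 0) (hQ : (QuadraticMap.polarBilin Q).Nondegenerate)
    (hn : 5 ≤ Fintype.card ι) (hodd : Odd (Fintype.card ι)) (hfd : FaithData Q)
    (hall : ∀ σ : F ≃+* F, SigInv (⇑Q) σ) (hAut : gammaPOmega F (⇑Q) = ⊤)
    {p f : ℕ} [hp : Fact p.Prime] (hF : Fintype.card F = p ^ f) :
    Nonempty (Out (POmega F (⇑Q)) ≃* Multiplicative (ZMod 2 × ZMod f)) := by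
  classical
  have htop := stdAut_eq_top (⇑Q) hall hAut
  have hN : (Phi (⇑Q)).range.Normal := Phi_range_normal_of_top (⇑Q) htop
  have hIP : Inn (POmega F (⇑Q)) ≤ (Phi (⇑Q)).range := inn_le_range Q
  have hidx := relIndex_inn_range Q h2 hQ hn hodd
  obtain ⟨T⟩ := quotient_equiv_of_index_two (Inn (POmega F (⇑Q))) (Phi (⇑Q)).range hIP hidx
    (fieldO (⇑Q))
    (fun α => by
      have hα : α ∈ stdAut (⇑Q) := by rw [htop]; exact Subgroup.mem_top α
      obtain ⟨g, σ, rfl⟩ := hα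
      exact ⟨Phi (⇑Q) g, ⟨g, rfl⟩, σ, rfl⟩)
    (fun σ hσ => sigma_eq_one_of_mem_range Q hQ hn hfd σ hσ)
  obtain ⟨e⟩ := Cfsg.Agent.Lib.Helper42_AutPSL2.ringAut_mulEquiv hF
  let e₀ : ↥(invSub (⇑Q)) ≃* RingAut F :=
    (MulEquiv.subgroupCongr (invSub_eq_top Q hall)).trans Subgroup.topEquiv
  let E : Multiplicative (ZMod 2) × ↥(invSub (⇑Q)) ≃* Multiplicative (ZMod 2 × ZMod f) :=
    (MulEquiv.prodCongr (MulEquiv.refl _) (e₀.trans e)).trans
      (MulEquiv.prodMultiplicative _ _).symm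
  exact ⟨T.trans E⟩

end outgeneric

variable {F : Type*} [Field F] [Fintype F]

theorem card_aut_odd_aux (h2 : (2 : F) ≠ 0) {m : ℕ} (hm : 2 ≤ m) (Qf : (I m → F) → F)
    (hQf : Qf = ⇑(qfOdd m F)) (hAut : gammaPOmega F Qf = ⊤)
    {p f : ℕ} [hp : Fact p.Prime] (hF : Fintype.card F = p ^ f) :
    Nat.card (MulAut (POmega F Qf)) = 2 * f * Nat.card (POmega F Qf) ∧
      Nonempty (Out (POmega F Qf) ≃* Multiplicative (ZMod 2 × ZMod f)) := by
  subst hQf
  have hn : 5 ≤ Fintype.card (I m) := by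
    rw [Fintype.card_sum, Fintype.card_sum, Fintype.card_fin, Fintype.card_unit]
    omega
  have hoddι : Odd (Fintype.card (I m)) := by
    rw [Fintype.card_sum, Fintype.card_sum, Fintype.card_fin, Fintype.card_unit]
    exact ⟨m, by ring⟩
  have hQ := Cfsg.Agent.Lib.Helper14_POmegaSimple.nondegenerate_qfOdd h2 m
  exact ⟨card_aut_generic (qfOdd m F) h2 hQ hn hoddι (faithData_qfOdd hm) (sigInv_qfOdd m) hAut hF,
    out_generic (qfOdd m F) h2 hQ hn hoddι (faithData_qfOdd hm) (sigInv_qfOdd m) hAut hF⟩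

/-- **S0816 modulo S2694** -/
theorem card_aut_odd (h2 : (2 : F) ≠ 0) {m : ℕ} (hm : 3 ≤ m)
    (hAut : gammaPOmega F (quadFormOdd m F) = ⊤)
    {p f : ℕ} [hp : Fact p.Prime] (hF : Fintype.card F = p ^ f) :
    Nat.card (MulAut (POmega F (quadFormOdd m F))) =
      2 * f * Nat.card (POmega F (quadFormOdd m F)) :=
  (card_aut_odd_aux h2 (by omega) (quadFormOdd m F) (coe_qfOdd m F).symm hAut hF).1

/-- **S2604 modulo S2694** -/
theorem out_odd (h2 : (2 : F) ≠ 0) {m : ℕ} (hm : 3 ≤ m)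
    (hAut : gammaPOmega F (quadFormOdd m F) = ⊤)
    {p f : ℕ} [hp : Fact p.Prime] (hF : Fintype.card F = p ^ f) :
    Nonempty (Out (POmega F (quadFormOdd m F)) ≃* Multiplicative (ZMod 2 × ZMod f)) :=
  (card_aut_odd_aux h2 (by omega) (quadFormOdd m F) (coe_qfOdd m F).symm hAut hF).2

end Cfsg.Agent.Lib.Helper44_OrthOddOut
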