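import Mathlib
import Cfsg.Agent.Lib.Helper14_BalDefs
import Cfsg.Agent.Lib.Helper14_CentOmega
import Cfsg.Agent.Lib.Helper14_OrthGamma

/-!
BAL-M1 (architect helper14): an automorphism `twistP Q g σ h` of `PΩ(Q)` fixing the classes of a one-parameter
unipotent family `1 + c • N` (`N ≠ 0`, `N * N = 0`) in `Ω(Q)` has trivial companion field automorphism (helper60).

Route: `twistO (s c) = s c * z` with `z` central in `Ω(Q)`; a central element induces the trivial automorphism
`Phi`, hence is a scalar matrix `l • 1` (`Helper14_CentOmega.scalar_of_Phi_eq_one`); comparing the unipotent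
matrix `1 + σ c • N'` with `l • (1 + c • N)` gives `l = 1`, so `σ c • N' = c • N` for all `c`.
-/

set_option autoImplicit false

namespace Cfsg.Agent.Lib.Helper60_Bal_M1

open Module Cfsg Cfsg.Agent.Lib.Helper94_OrthSmall Cfsg.Agent.Lib.Helper14_OmegaSimple
  Cfsg.Agent.Lib.Helper14_BalDefs Cfsg.Agent.Lib.Helper14_AutOmega Cfsg.Agent.Lib.Helper7_OrthInduced
  Cfsg.Agent.Lib.Helper14_OrthGamma Cfsg.Agent.Lib.Helper14_CentOmega

variable {ι : Type} [Fintype ι] [DecidableEq ι] {F : Type*} [Field F] [Fintype F]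

/-- a central element of `Ω(Q)` is a scalar matrix (dimension at least five) -/
theorem scalar_of_mem_center (Q : QuadraticForm F (ι → F))
    (hQ : (QuadraticMap.polarBilin Q).Nondegenerate) (hn : 5 ≤ Fintype.card ι)
    (z : ↥(Omega F (⇑Q))) (hz : z ∈ Subgroup.center ↥(Omega F (⇑Q))) :
    ∃ l : F, (((z : ↥(isometryGroup F (⇑Q))) : GL ι F) : Matrix ι ι F) = l • (1 : Matrix ι ι F) := by
  have hzGO : ((z : ↥(isometryGroup F (⇑Q))) : GL ι F) ∈ GO (⇑Q) :=
    isometryGroup_le_GO (⇑Q) (z : ↥(isometryGroup F (⇑Q))).2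
  have hPhi : Phi (⇑Q) ⟨_, hzGO⟩ = 1 := by
    ext x
    induction x using QuotientGroup.induction_on with
    | H s' =>
      rw [Phi_mk]
      show _ = QuotientGroup.mk s'
      congr 1
      apply Subtype.ext
      apply Subtype.ext
      rw [Phi_mk_coe]
      have hc : s' * z = z * s' := Subgroup.mem_center_iff.mp hz s'
      have hc' := congrArg (fun y : ↥(Omega F (⇑Q)) => ((y : ↥(isometryGroup F (⇑Q))) : GL ι F)) hc
      simp only [Subgroup.coe_mul] at hc'
      show ((z : ↥(isometryGroup F (⇑Q))) : GL ι F) * ((s' : ↥(isometryGroup F (⇑Q))) : GL ι F) *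
        ((z : ↥(isometryGroup F (⇑Q))) : GL ι F)⁻¹ = ((s' : ↥(isometryGroup F (⇑Q))) : GL ι F)
      rw [← hc', mul_inv_cancel_right]
  have hsc := scalar_of_Phi_eq_one Q hQ hn ⟨_, hzGO⟩ hPhi
  obtain ⟨l, hl⟩ := (Cfsg.Geo.mem_scalars_iff _).mp hsc
  exact ⟨l, hl⟩

omit [Fintype ι] [Fintype F] in
theorem map_one_add_smul (σ : F ≃+* F) (N : Matrix ι ι F) (c : F) :
    (1 + c • N).map σ = 1 + σ c • N.map σ := by
  ext i j
  simp only [Matrix.map_apply, Matrix.add_apply, Matrix.smul_apply, smul_eq_mul, map_add, map_mul]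
  congr 1
  by_cases hij : i = j
  · subst hij
    simp
  · simp [Matrix.one_apply_ne hij]

/-- BAL-M1 -/
theorem M1 (h2 : (2 : F) ≠ 0) (Q : QuadraticForm F (ι → F)) (S : Setup Q) {g : GL ι F} {σ : F ≃+* F}
    (h : IsSemisimilarityPair (⇑Q) g σ) (N : Matrix ι ι F) (hN : N ≠ 0) (hNN : N * N = 0)
    (s : F → ↥(Omega F (⇑Q)))
    (hs : ∀ c : F, (((s c : ↥(isometryGroup F (⇑Q))) : GL ι F) : Matrix ι ι F) = 1 + c • N)
    (hfix : ∀ c : F, twistP (⇑Q) g σ h (QuotientGroup.mk (s c) : POmega F (⇑Q)) = QuotientGroup.mk (s c)) :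
    σ = 1 := by
  have _h2 := h2
  have hn := S.hn
  have hQ := S.nd
  set N' : Matrix ι ι F := (g : Matrix ι ι F) * N.map σ * ((g⁻¹ : GL ι F) : Matrix ι ι F) with hN'
  have hgg : ((g⁻¹ : GL ι F) : Matrix ι ι F) * (g : Matrix ι ι F) = 1 := by
    rw [← Units.val_mul, inv_mul_cancel, Units.val_one]
  have hgg' : (g : Matrix ι ι F) * ((g⁻¹ : GL ι F) : Matrix ι ι F) = 1 := by
    rw [← Units.val_mul, mul_inv_cancel, Units.val_one]
  have hN'N' : N' * N' = 0 := by
    have h1 : N.map σ * N.map σ = 0 := by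
      have := congrArg (fun M : Matrix ι ι F => M.map σ) hNN
      rw [Matrix.map_mul] at this
      rw [this]
      ext i j
      simp
    calc N' * N' = (g : Matrix ι ι F) * N.map σ * (((g⁻¹ : GL ι F) : Matrix ι ι F) * (g : Matrix ι ι F))
          * N.map σ * ((g⁻¹ : GL ι F) : Matrix ι ι F) := by
            rw [hN']; simp only [Matrix.mul_assoc]
      _ = (g : Matrix ι ι F) * (N.map σ * N.map σ) * ((g⁻¹ : GL ι F) : Matrix ι ι F) := by
            rw [hgg, Matrix.mul_one]; simp only [Matrix.mul_assoc]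
      _ = 0 := by rw [h1, Matrix.mul_zero, Matrix.zero_mul]
  -- the key matrix identity
  have key : ∀ c : F, ∃ l : F, 1 + σ c • N' = l • (1 + c • N) := by
    intro c
    set t := MulAut.characteristic (Omega F (⇑Q)) (twistO (⇑Q) g σ h) (s c) with ht
    have h1 : (QuotientGroup.mk t : POmega F (⇑Q)) = QuotientGroup.mk (s c) := by
      rw [ht, ← twistP_mk]
      exact hfix c
    have hz : (s c)⁻¹ * t ∈ Subgroup.center ↥(Omega F (⇑Q)) := QuotientGroup.eq.mp h1.symm
    obtain ⟨l, hl⟩ := scalar_of_mem_center Q hQ hn _ hz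
    refine ⟨l, ?_⟩
    have ht' : t = s c * ((s c)⁻¹ * t) := by group
    have h3 := congrArg (fun y : ↥(Omega F (⇑Q)) =>
      (((y : ↥(isometryGroup F (⇑Q))) : GL ι F) : Matrix ι ι F)) ht'
    rw [Subgroup.coe_mul, Subgroup.coe_mul, Units.val_mul, hl, hs c] at h3
    have h4 : (((t : ↥(isometryGroup F (⇑Q))) : GL ι F) : Matrix ι ι F) = 1 + σ c • N' := by
      rw [ht, twistP_mk_coe, twist_val, hs c, map_one_add_smul, Matrix.mul_add, Matrix.add_mul,
        Matrix.mul_one, hgg', Matrix.mul_smul, Matrix.smul_mul]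
    rw [h4] at h3
    rw [h3, Matrix.mul_smul, Matrix.mul_one]
  -- l = 1
  have key2 : ∀ c : F, σ c • N' = c • N := by
    intro c
    obtain ⟨l, hl⟩ := key c
    have h1 : σ c • N' = (l - 1) • (1 : Matrix ι ι F) + (l * c) • N := by
      have : σ c • N' = l • (1 + c • N) - 1 := by rw [← hl]; abel
      rw [this, smul_add, smul_smul, sub_smul, one_smul]
      abel
    have h2' : (σ c • N') * (σ c • N') = 0 := by
      rw [Matrix.smul_mul, Matrix.mul_smul, hN'N', smul_zero, smul_zero]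
    have h3 : ((l - 1) • (1 : Matrix ι ι F) + (l * c) • N) * ((l - 1) • (1 : Matrix ι ι F) + (l * c) • N) * N
        = ((l - 1) * (l - 1)) • N := by
      have e1 : ((l - 1) • (1 : Matrix ι ι F) + (l * c) • N) * N = (l - 1) • N := by
        rw [Matrix.add_mul, Matrix.smul_mul, Matrix.one_mul, Matrix.smul_mul, hNN, smul_zero, add_zero]
      rw [Matrix.mul_assoc, e1, Matrix.mul_smul, e1, smul_smul]
    rw [← h1, h2', Matrix.zero_mul] at h3
    have hl1 : l = 1 := by
      rcases smul_eq_zero.mp h3.symm with h4 | h4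
      · have : l - 1 = 0 := by
          rcases mul_eq_zero.mp h4 with h5 | h5 <;> exact h5
        exact sub_eq_zero.mp this
      · exact absurd h4 hN
    rw [h1, hl1, sub_self, zero_smul, zero_add, one_mul]
  have hNN' : N' = N := by
    have := key2 1
    rwa [map_one, one_smul, one_smul] at this
  apply RingEquiv.ext
  intro c
  have h1 := key2 c
  rw [hNN'] at h1
  have h2' : (σ c - c) • N = 0 := by rw [sub_smul, h1, sub_self]
  rcases smul_eq_zero.mp h2' with h3 | h3
  · exact sub_eq_zero.mp h3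
  · exact absurd h3 hN

end Cfsg.Agent.Lib.Helper60_Bal_M1
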