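import Mathlib
import Cfsg.Agent.Lib.Helper14_BalLeaves
import Cfsg.Agent.Lib.Helper14_BalExt
import Cfsg.Agent.Lib.Helper60_Bal_M1
import Cfsg.Agent.Lib.Helper14_OrthGamma
import Cfsg.Agent.Lib.Helper14_CentOmega
import Cfsg.Agent.Lib.Helper44_OrthOddOut

/-!
# Local balance at a graph involution: the steps common to both normal forms (helper14)

* `exists_Phi_of_comm` : an automorphism of `PΩ(Q)` centralising a one-parameter unipotent family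
  of inner automorphisms lies in `PGO(Q)`;
* `comm_sq_of_Phi_comm` : if `Phi g'` commutes with `Phi e₂`, `e₂` an isometry, then `g'` commutes
  with `e₂ * e₂`.
-/

set_option autoImplicit false
set_option linter.unusedSectionVars false

namespace Cfsg.Agent.Lib.Helper14_BalCommon

open Module Matrix Cfsg Cfsg.Agent.Lib.Helper44_Orth Cfsg.Agent.Lib.Helper14_AutOmega Cfsg.Agent.Lib.Helper7_OrthInduced
  Cfsg.Agent.Lib.Helper14_OrthGamma Cfsg.Agent.Lib.Helper14_CentOmega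

theorem eq_one_of_sq_of_odd {G : Type*} [Group G] (N : Subgroup G) (hodd : Odd (Nat.card N))
    {y : G} (hy : y ∈ N) (hyy : y * y = 1) : y = 1 := by
  have h1 : orderOf (⟨y, hy⟩ : ↥N) ∣ Nat.card N := orderOf_dvd_natCard _
  have h2 : orderOf (⟨y, hy⟩ : ↥N) ∣ 2 := by
    apply orderOf_dvd_of_pow_eq_one
    rw [pow_two]
    exact Subtype.ext hyy
  have h3 : orderOf (⟨y, hy⟩ : ↥N) = 1 := by
    rcases (Nat.dvd_prime Nat.prime_two).mp h2 with h4 | h4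
    · exact h4
    · exfalso
      rw [h4] at h1
      obtain ⟨k, hk⟩ := hodd
      omega
  have h5 := orderOf_eq_one_iff.mp h3
  exact congrArg Subtype.val h5

theorem twisted_comm_mul {G : Type*} [Group G] {g₀ a b k₁ k₂ : G} (hk₂ : ∀ t, k₂ * t = t * k₂)
    (ha : g₀ * a = k₁ * a * g₀) (hb : g₀ * b = k₂ * b * g₀) :
    g₀ * (a * b) = (k₁ * k₂) * (a * b) * g₀ := by
  calc g₀ * (a * b) = (g₀ * a) * b := by group
    _ = k₁ * a * (g₀ * b) := by rw [ha]; group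
    _ = k₁ * (a * k₂) * b * g₀ := by rw [hb]; group
    _ = (k₁ * k₂) * (a * b) * g₀ := by rw [← hk₂ a]; group

theorem twisted_comm_inv {G : Type*} [Group G] {g₀ a k₁ : G} (hk₁ : ∀ t, k₁ * t = t * k₁)
    (ha : g₀ * a = k₁ * a * g₀) : g₀ * a⁻¹ = k₁⁻¹ * a⁻¹ * g₀ := by
  have h1 : g₀ = k₁ * a * g₀ * a⁻¹ := by rw [← ha]; group
  have h2 : k₁⁻¹ * a⁻¹ * g₀ = k₁⁻¹ * a⁻¹ * (k₁ * a * g₀ * a⁻¹) := by rw [← h1]
  rw [h2, mul_assoc k₁⁻¹, ← mul_assoc a⁻¹, ← mul_assoc a⁻¹, ← mul_assoc a⁻¹, ← hk₁ a⁻¹]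
  group

theorem central_inv {G : Type*} [Group G] {k : G} (hk : ∀ t, k * t = t * k) (t : G) :
    k⁻¹ * t = t * k⁻¹ := by
  have := hk (k⁻¹ * t * k⁻¹)
  calc k⁻¹ * t = (k⁻¹ * t * k⁻¹) * k := by group
    _ = k * (k⁻¹ * t * k⁻¹) := this.symm
    _ = t * k⁻¹ := by group

/-- if `g₀ a = k₁ a g₀` and `g₀ b = k₂ b g₀` with `k₁, k₂` central, then `g₀` commutes with the
commutator of `a` and `b` -/
theorem comm_commutator {G : Type*} [Group G] (g₀ a b k₁ k₂ : G) (hk₁ : ∀ t, k₁ * t = t * k₁)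
    (hk₂ : ∀ t, k₂ * t = t * k₂) (ha : g₀ * a = k₁ * a * g₀) (hb : g₀ * b = k₂ * b * g₀) :
    g₀ * (a * b * a⁻¹ * b⁻¹) = (a * b * a⁻¹ * b⁻¹) * g₀ := by
  have ha' := twisted_comm_inv hk₁ ha
  have hb' := twisted_comm_inv hk₂ hb
  have h1 := twisted_comm_mul hk₂ ha hb
  have h2 := twisted_comm_mul (central_inv hk₁) h1 ha'
  have h3 := twisted_comm_mul (central_inv hk₂) h2 hb'
  have h4 : k₁ * k₂ * k₁⁻¹ * k₂⁻¹ = 1 := by
    rw [hk₁ k₂]
    group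
  rw [h4, one_mul] at h3
  exact h3

section abstract

open Cfsg.Agent.Lib.Helper14_OmegaSimple Cfsg.Agent.Lib.Helper14_BalDefs
  Cfsg.Agent.Lib.Helper14_BalExt Cfsg.Agent.Lib.Helper14_BalLeaves

variable {F V : Type*} [Field F] [Fintype F] [AddCommGroup V] [Module F V] [FiniteDimensional F V]

/-- a similitude preserving a non-degenerate odd-dimensional orthogonal summand and commuting
with its Eichler–Siegel transformations acts on it as a scalar -/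
theorem scalar_on_summand (h2 : (2 : F) ≠ 0) (Q : QuadraticForm F V) {W W' : Submodule F V}
    (h : IsCompl W W') (hperp : ∀ w ∈ W, ∀ w' ∈ W', QuadraticMap.polar (⇑Q) w w' = 0)
    (hnd : (QuadraticMap.polarBilin (resQ Q W)).Nondegenerate) (hodd : Odd (finrank F ↥W))
    (γ : V ≃ₗ[F] V) (hsim : ∃ μ : F, ∀ v, Q (γ v) = μ * Q v) (hmap : ∀ w ∈ W, γ w ∈ W)
    (hcomm : ∀ u z : V, u ∈ W → z ∈ W → Q u = 0 → QuadraticMap.polar (⇑Q) u z = 0 →
      γ * E Q u z = E Q u z * γ) :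
    ∃ l : F, ∀ w ∈ W, γ w = l • w := by
  obtain ⟨k, hk⟩ := hodd
  rcases Nat.lt_or_ge k 1 with h0 | h1
  · have h1 : finrank F ↥W = 1 := by omega
    obtain ⟨v, hv0, hv⟩ := finrank_eq_one_iff'.mp h1
    obtain ⟨l, hl⟩ := hv ⟨γ (v : V), hmap _ v.2⟩
    refine ⟨l, fun w hw => ?_⟩
    obtain ⟨c, hc⟩ := hv ⟨w, hw⟩
    have hc' : w = c • (v : V) := by
      have := congrArg Subtype.val hc
      simpa using this.symm
    have hl' : γ (v : V) = l • (v : V) := by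
      have := congrArg Subtype.val hl
      simpa using this.symm
    rw [hc', map_smul, hl', smul_comm]
  · obtain ⟨r, hr⟩ : ∃ r : ↥W →ₗ[F] ↥W, ∀ w : ↥W, (r w : V) = γ (w : V) :=
      ⟨(γ : V →ₗ[F] V).restrict hmap, fun w => rfl⟩
    have hinj : Function.Injective r := by
      intro a b hab
      apply Subtype.ext
      apply γ.injective
      rw [← hr, ← hr, hab]
    obtain ⟨t, ht⟩ : ∃ t : ↥W ≃ₗ[F] ↥W, ∀ w : ↥W, (t w : V) = γ (w : V) :=
      ⟨LinearEquiv.ofInjectiveEndo r hinj, fun w => by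
        rw [← hr]; rfl⟩
    obtain ⟨μ, hμ⟩ := hsim
    obtain ⟨l, hl⟩ := scalar_of_comm h2 (resQ Q W) hnd (by omega) t
      ⟨μ, fun w => by rw [resQ_apply, resQ_apply, ht, hμ]⟩ (by
        intro u z hu huz
        have hu' : Q (u : V) = 0 := hu
        have huz' : QuadraticMap.polar (⇑Q) (u : V) (z : V) = 0 := by
          rw [← polar_resQ]; exact huz
        have hE : ∀ w : ↥W, ((E (resQ Q W) u z w : ↥W) : V) = E Q (u : V) (z : V) (w : V) := by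
          intro w
          rw [← extLin_E Q h hperp u z hu' huz', extLin_apply_left]
        apply LinearEquiv.ext
        intro w
        apply Subtype.ext
        rw [LinearEquiv.mul_apply, LinearEquiv.mul_apply, ht, hE, hE, ht]
        have := congrArg (fun f : V ≃ₗ[F] V => f (w : V)) (hcomm u z u.2 z.2 hu' huz')
        simpa only [LinearEquiv.mul_apply] using this)
    refine ⟨l, fun w hw => ?_⟩
    have := congrArg Subtype.val (hl ⟨w, hw⟩)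
    rw [ht] at this
    simpa using this

end abstract

variable {ι : Type} [Fintype ι] [DecidableEq ι] {F : Type*} [Field F] [Fintype F]
  {Q : QuadraticForm F (ι → F)}

/-- an automorphism commuting with `conj p` fixes `p` -/
theorem fix_of_comm_conj (hQ : (QuadraticMap.polarBilin Q).Nondegenerate)
    (hn : 5 ≤ Fintype.card ι) (y : MulAut (POmega F (⇑Q))) (p : POmega F (⇑Q))
    (hcomm : y * MulAut.conj p = MulAut.conj p * y) : y p = p := by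
  apply Cfsg.Agent.Lib.Helper44_OrthOddOut.conj_injective Q hQ hn
  ext q
  obtain ⟨q', rfl⟩ : ∃ q', q = y q' := ⟨y⁻¹ q, by rw [MulAut.apply_inv_self]⟩
  have h1 := congrArg (fun f : MulAut (POmega F (⇑Q)) => f q') hcomm
  simp only [MulAut.mul_apply, MulAut.conj_apply, map_mul, map_inv] at h1
  rw [MulAut.conj_apply, MulAut.conj_apply]
  exact h1

theorem exists_Phi_of_comm (h2 : (2 : F) ≠ 0) (S : Setup Q) (y : MulAut (POmega F (⇑Q)))
    (N : Matrix ι ι F) (hN : N ≠ 0) (hNN : N * N = 0) (s : F → ↥(Omega F (⇑Q)))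
    (hs : ∀ c : F, (((s c : ↥(isometryGroup F (⇑Q))) : GL ι F) : Matrix ι ι F) = 1 + c • N)
    (hcomm : ∀ c : F, y * MulAut.conj (QuotientGroup.mk (s c) : POmega F (⇑Q)) =
      MulAut.conj (QuotientGroup.mk (s c) : POmega F (⇑Q)) * y) :
    ∃ g' : ↥(GO (⇑Q)), y = Phi (⇑Q) g' := by
  obtain ⟨σ, g, h, rfl⟩ := S.exists_pair y
  have hσ : σ = 1 := by
    apply Cfsg.Agent.Lib.Helper60_Bal_M1.M1 h2 Q S h N hN hNN s hs
    intro c
    exact fix_of_comm_conj S.nd S.hn _ _ (hcomm c)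
  have hker : twistP (⇑Q) g σ h ∈ S.compHom.ker := by
    rw [MonoidHom.mem_ker, S.compHom_apply, S.comp_twistP, hσ]
  rw [S.ker_compHom] at hker
  obtain ⟨g', hg'⟩ := hker
  exact ⟨g', hg'.symm⟩

theorem exists_scalar_of_Phi_comm₀ (hQ : (QuadraticMap.polarBilin Q).Nondegenerate)
    (hn : 5 ≤ Fintype.card ι) (g' e₂ : ↥(GO (⇑Q)))
    (hcomm : Phi (⇑Q) g' * Phi (⇑Q) e₂ = Phi (⇑Q) e₂ * Phi (⇑Q) g') :
    ∃ (k : ↥(GO (⇑Q))) (c : Fˣ), ((k : GL ι F) : Matrix ι ι F) = (c : F) • (1 : Matrix ι ι F) ∧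
      (∀ t : ↥(GO (⇑Q)), k * t = t * k) ∧ g' * e₂ = k * e₂ * g' := by
  obtain ⟨k, hk⟩ : ∃ k, k = g' * e₂ * g'⁻¹ * e₂⁻¹ := ⟨_, rfl⟩
  have hPk : Phi (⇑Q) k = 1 := by
    rw [hk, map_mul, map_mul, map_mul, map_inv, map_inv, hcomm]
    group
  have hsc := scalar_of_Phi_eq_one Q hQ hn k hPk
  obtain ⟨c, hc⟩ := (Cfsg.Geo.mem_scalars_iff _).mp hsc
  refine ⟨k, c, hc, ?_, by rw [hk]; group⟩
  intro t
  apply Subtype.ext
  apply Units.ext
  rw [Subgroup.coe_mul, Subgroup.coe_mul, Units.val_mul, Units.val_mul, hc, Matrix.smul_mul,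
    Matrix.one_mul, Matrix.mul_smul, Matrix.mul_one]

/-- `Phi g'` commutes with `Phi e₂`, `e₂ * e₂ = ν • 1`: then `g' e₂ = ± e₂ g'`. -/
theorem exists_sign_of_Phi_comm_sq (hQ : (QuadraticMap.polarBilin Q).Nondegenerate)
    (hn : 5 ≤ Fintype.card ι) (g' e₂ : ↥(GO (⇑Q))) (ν : F) (hν : ν ≠ 0)
    (hsq : ((e₂ : GL ι F) : Matrix ι ι F) * ((e₂ : GL ι F) : Matrix ι ι F) =
      ν • (1 : Matrix ι ι F))
    (hcomm : Phi (⇑Q) g' * Phi (⇑Q) e₂ = Phi (⇑Q) e₂ * Phi (⇑Q) g') :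
    ∃ c : F, c * c = 1 ∧ ∀ v : ι → F, ((g' : GL ι F) : Matrix ι ι F) *ᵥ
      (((e₂ : GL ι F) : Matrix ι ι F) *ᵥ v) =
        c • (((e₂ : GL ι F) : Matrix ι ι F) *ᵥ (((g' : GL ι F) : Matrix ι ι F) *ᵥ v)) := by
  obtain ⟨k, c, hc, -, h1⟩ := exists_scalar_of_Phi_comm₀ hQ hn g' e₂ hcomm
  have h2 := congrArg (fun t : ↥(GO (⇑Q)) => ((t : GL ι F) : Matrix ι ι F)) h1
  simp only [Subgroup.coe_mul, Units.val_mul] at h2
  rw [hc, Matrix.smul_mul, Matrix.one_mul, Matrix.smul_mul] at h2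
  have key : ∀ v : ι → F, ((g' : GL ι F) : Matrix ι ι F) *ᵥ
      (((e₂ : GL ι F) : Matrix ι ι F) *ᵥ v) =
        (c : F) • (((e₂ : GL ι F) : Matrix ι ι F) *ᵥ (((g' : GL ι F) : Matrix ι ι F) *ᵥ v)) := by
    intro v
    rw [Matrix.mulVec_mulVec, h2, Matrix.smul_mulVec, Matrix.mulVec_mulVec]
  refine ⟨c, ?_, key⟩
  -- `G E E = c² E E G`
  have h3 : ((g' : GL ι F) : Matrix ι ι F) * (((e₂ : GL ι F) : Matrix ι ι F) *
      ((e₂ : GL ι F) : Matrix ι ι F)) = ((c : F) * c) • ((((e₂ : GL ι F) : Matrix ι ι F) *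
      ((e₂ : GL ι F) : Matrix ι ι F)) * ((g' : GL ι F) : Matrix ι ι F)) := by
    rw [← Matrix.mul_assoc, h2, Matrix.smul_mul, Matrix.mul_assoc, h2, Matrix.mul_smul, smul_smul,
      Matrix.mul_assoc]
  rw [hsq, Matrix.mul_smul, Matrix.mul_one, Matrix.smul_mul, Matrix.one_mul, smul_smul] at h3
  have h4 := congrArg (fun M : Matrix ι ι F => M * (((g'⁻¹ : ↥(GO (⇑Q))) : GL ι F) : Matrix ι ι F)) h3
  simp only [Matrix.smul_mul] at h4
  have h5 : ((g' : GL ι F) : Matrix ι ι F) * (((g'⁻¹ : ↥(GO (⇑Q))) : GL ι F) : Matrix ι ι F) = 1 := by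
    rw [← Units.val_mul, ← Subgroup.coe_mul, mul_inv_cancel]
    rfl
  rw [h5] at h4
  have hi : Nonempty ι := by
    rw [← Fintype.card_pos_iff]; omega
  obtain ⟨i⟩ := hi
  have h6 := congrFun (congrFun h4 i) i
  simp only [Matrix.smul_apply, Matrix.one_apply_eq, smul_eq_mul, mul_one] at h6
  have h7 : ν * (1 - (c : F) * c) = 0 := by linear_combination h6
  rcases mul_eq_zero.mp h7 with h8 | h8
  · exact absurd h8 hν
  · linear_combination -h8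

theorem exists_scalar_of_Phi_comm (hQ : (QuadraticMap.polarBilin Q).Nondegenerate)
    (hn : 5 ≤ Fintype.card ι) (hne : ∃ v, Q v ≠ 0) (g' e₂ : ↥(GO (⇑Q)))
    (he₂ : (e₂ : GL ι F) ∈ isometryGroup F (⇑Q))
    (hcomm : Phi (⇑Q) g' * Phi (⇑Q) e₂ = Phi (⇑Q) e₂ * Phi (⇑Q) g') :
    ∃ (k : ↥(GO (⇑Q))) (c : Fˣ), ((k : GL ι F) : Matrix ι ι F) = (c : F) • (1 : Matrix ι ι F) ∧
      (c : F) * c = 1 ∧ g' * e₂ = k * e₂ * g' := by
  obtain ⟨k, hk⟩ : ∃ k, k = g' * e₂ * g'⁻¹ * e₂⁻¹ := ⟨_, rfl⟩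
  have hPk : Phi (⇑Q) k = 1 := by
    rw [hk, map_mul, map_mul, map_mul, map_inv, map_inv, hcomm]
    group
  have hsc := scalar_of_Phi_eq_one Q hQ hn k hPk
  obtain ⟨c, hc⟩ := (Cfsg.Geo.mem_scalars_iff _).mp hsc
  have hkiso : (k : GL ι F) ∈ isometryGroup F (⇑Q) := by
    rw [hk]
    have h1 : ((g' * e₂ * g'⁻¹ * e₂⁻¹ : ↥(GO (⇑Q))) : GL ι F) =
        ((g' : GL ι F) * (e₂ : GL ι F) * (g' : GL ι F)⁻¹) * (e₂ : GL ι F)⁻¹ := rfl
    rw [h1]
    exact Subgroup.mul_mem _ (conj_mem (⇑Q) g'.2 he₂) (Subgroup.inv_mem _ he₂)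
  have hcc : (c : F) * c = 1 := by
    obtain ⟨v, hv⟩ := hne
    have h1 := (mem_isometryGroup_iff (⇑Q) _).mp hkiso v
    rw [hc, Matrix.smul_mulVec, Matrix.one_mulVec, QuadraticMap.map_smul, smul_eq_mul] at h1
    exact mul_right_cancel₀ hv (by rw [h1, one_mul])
  exact ⟨k, c, hc, hcc, by rw [hk]; group⟩

theorem comm_sq_of_Phi_comm (hQ : (QuadraticMap.polarBilin Q).Nondegenerate)
    (hn : 5 ≤ Fintype.card ι) (hne : ∃ v, Q v ≠ 0) (g' e₂ : ↥(GO (⇑Q)))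
    (he₂ : (e₂ : GL ι F) ∈ isometryGroup F (⇑Q))
    (hcomm : Phi (⇑Q) g' * Phi (⇑Q) e₂ = Phi (⇑Q) e₂ * Phi (⇑Q) g') :
    g' * (e₂ * e₂) = (e₂ * e₂) * g' := by
  obtain ⟨k, c, hc, hcc, h1⟩ := exists_scalar_of_Phi_comm hQ hn hne g' e₂ he₂ hcomm
  have hkk : k * k = 1 := by
    apply Subtype.ext
    apply Units.ext
    rw [Subgroup.coe_mul, Units.val_mul, hc, Matrix.smul_mul, Matrix.one_mul, smul_smul, hcc,
      one_smul]
    rfl
  have hkcomm : ∀ t : ↥(GO (⇑Q)), k * t = t * k := by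
    intro t
    apply Subtype.ext
    apply Units.ext
    rw [Subgroup.coe_mul, Subgroup.coe_mul, Units.val_mul, Units.val_mul, hc, Matrix.smul_mul,
      Matrix.one_mul, Matrix.mul_smul, Matrix.mul_one]
  calc g' * (e₂ * e₂) = (g' * e₂) * e₂ := by group
    _ = (k * e₂ * g') * e₂ := by rw [h1]
    _ = k * e₂ * (g' * e₂) := by group
    _ = k * e₂ * (k * e₂ * g') := by rw [h1]
    _ = (k * k) * (e₂ * e₂) * g' := by
        rw [mul_assoc k e₂, ← mul_assoc e₂ (k * e₂), ← mul_assoc e₂ k, ← hkcomm e₂]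
        group
    _ = (e₂ * e₂) * g' := by rw [hkk, one_mul]

/-- `Phi g'` commutes with `Phi e₂`, `e₂` an isometry: then `g' e₂ = ± e₂ g'`. -/
theorem exists_sign_of_Phi_comm (hQ : (QuadraticMap.polarBilin Q).Nondegenerate)
    (hn : 5 ≤ Fintype.card ι) (hne : ∃ v, Q v ≠ 0) (g' e₂ : ↥(GO (⇑Q)))
    (he₂ : (e₂ : GL ι F) ∈ isometryGroup F (⇑Q))
    (hcomm : Phi (⇑Q) g' * Phi (⇑Q) e₂ = Phi (⇑Q) e₂ * Phi (⇑Q) g') :
    ∃ c : F, c * c = 1 ∧ ∀ v : ι → F, ((g' : GL ι F) : Matrix ι ι F) *ᵥ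
      (((e₂ : GL ι F) : Matrix ι ι F) *ᵥ v) =
        c • (((e₂ : GL ι F) : Matrix ι ι F) *ᵥ (((g' : GL ι F) : Matrix ι ι F) *ᵥ v)) := by
  obtain ⟨k, c, hc, hcc, h1⟩ := exists_scalar_of_Phi_comm hQ hn hne g' e₂ he₂ hcomm
  refine ⟨c, hcc, fun v => ?_⟩
  have h2 := congrArg (fun t : ↥(GO (⇑Q)) => ((t : GL ι F) : Matrix ι ι F)) h1
  simp only [Subgroup.coe_mul, Units.val_mul] at h2
  rw [Matrix.mulVec_mulVec, h2, hc, Matrix.smul_mul, Matrix.one_mul, Matrix.smul_mul,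
    Matrix.smul_mulVec, Matrix.mulVec_mulVec]

end Cfsg.Agent.Lib.Helper14_BalCommon
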