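import Mathlib
import Cfsg.Agent.Lib.Helper14_BalDefs
import Cfsg.Agent.Lib.Helper14_BalExt
import Cfsg.Agent.Lib.Helper14_POmegaSimple
import Cfsg.Agent.Lib.Helper14_SiegelAll
import Cfsg.Agent.Lib.Helper14_CentOmega

/-!
# Root groups of an orthogonal summand inside `GO(Q)` and `Aut(PΩ(Q))` (helper14)

For a submodule `W` of `ι → F`: `rootGO Q W ≤ GO(Q)` is generated by the Eichler–Siegel
transformations `E Q u z` with `u, z ∈ W`.  If `V = W ⊕ W'` orthogonally it is the image of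
`TE (resQ Q W)` under the injective homomorphism `extGO`.
-/

set_option autoImplicit false

namespace Cfsg.Agent.Lib.Helper14_BalRoot

open Module Matrix Cfsg Cfsg.Agent.Lib.Helper94_OrthSmall Cfsg.Agent.Lib.Helper14_OmegaSimple
  Cfsg.Agent.Lib.Helper14_BalDefs Cfsg.Agent.Lib.Helper14_BalExt
  Cfsg.Agent.Lib.Helper14_AutOmega Cfsg.Agent.Lib.Helper94_Bridge
  Cfsg.Agent.Lib.Helper44_Orth Cfsg.Agent.Lib.Helper14_POmegaSimple
  Cfsg.Agent.Lib.Helper14_Siegel

variable {ι : Type} [Fintype ι] [DecidableEq ι] {F : Type*} [Field F]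
  (Q : QuadraticForm F (ι → F))

/-- The linear equivalence attached to an element of `GO`. -/
noncomputable def lin (g : ↥(GO (⇑Q))) : (ι → F) ≃ₗ[F] (ι → F) := glEquiv ι F (g : GL ι F)

theorem lin_apply (g : ↥(GO (⇑Q))) (v : ι → F) :
    lin Q g v = ((g : GL ι F) : Matrix ι ι F) *ᵥ v := glEquiv_apply _ _

theorem lin_mul (g g' : ↥(GO (⇑Q))) : lin Q (g * g') = lin Q g * lin Q g' := by
  unfold lin
  rw [Subgroup.coe_mul, map_mul]

theorem lin_inv (g : ↥(GO (⇑Q))) : lin Q g⁻¹ = (lin Q g)⁻¹ := by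
  unfold lin
  rw [Subgroup.coe_inv, map_inv]

theorem lin_injective : Function.Injective (lin Q) := by
  intro g g' hgg'
  apply Subtype.ext
  exact (glEquiv ι F).injective hgg'

theorem lin_ofIso (t : ↥(oG (⇑Q))) : lin Q (ofIso Q t) = t.1 := by
  apply LinearEquiv.ext
  intro v
  rw [lin_apply, ofIso_mulVec]

theorem lin_mem_oG_iff (g : ↥(GO (⇑Q))) :
    lin Q g ∈ oG (⇑Q) ↔ (g : GL ι F) ∈ isometryGroup F (⇑Q) := by
  rw [mem_isometryGroup_iff, mem_oG]
  constructor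
  · intro h v
    rw [← lin_apply]; exact h v
  · intro h v
    rw [lin_apply]; exact h v

/-- The Eichler–Siegel transformation as an element of `GO`. -/
noncomputable def eichGO (u z : ι → F) (hu : Q u = 0) (huz : QuadraticMap.polar (⇑Q) u z = 0) :
    ↥(GO (⇑Q)) := ofIso Q ⟨E Q u z, E_mem_oG Q hu huz⟩

theorem lin_eichGO (u z : ι → F) (hu : Q u = 0) (huz : QuadraticMap.polar (⇑Q) u z = 0) :
    lin Q (eichGO Q u z hu huz) = E Q u z := lin_ofIso Q _

/-- the generators of the root group of `W` -/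
def rootSetGO (W : Submodule F (ι → F)) : Set ↥(GO (⇑Q)) :=
  {g | ∃ (u z : ι → F) (hu : Q u = 0) (huz : QuadraticMap.polar (⇑Q) u z = 0),
    u ∈ W ∧ z ∈ W ∧ g = eichGO Q u z hu huz}

/-- The root group of `W` in `GO(Q)`. -/
def rootGO (W : Submodule F (ι → F)) : Subgroup ↥(GO (⇑Q)) := Subgroup.closure (rootSetGO Q W)

theorem eichGO_mem_rootGO {W : Submodule F (ι → F)} {u z : ι → F} (hu : Q u = 0)
    (huz : QuadraticMap.polar (⇑Q) u z = 0) (huW : u ∈ W) (hzW : z ∈ W) :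
    eichGO Q u z hu huz ∈ rootGO Q W :=
  Subgroup.subset_closure ⟨u, z, hu, huz, huW, hzW, rfl⟩

/-- conjugation by an isometry carries the root group of `W` into that of `W₂ ⊇ ω W` -/
theorem conj_rootGO {W W₂ : Submodule F (ι → F)} (ω : ↥(GO (⇑Q)))
    (hω : (ω : GL ι F) ∈ isometryGroup F (⇑Q))
    (hmap : ∀ v ∈ W, lin Q ω v ∈ W₂) {g : ↥(GO (⇑Q))} (hg : g ∈ rootGO Q W) :
    ω * g * ω⁻¹ ∈ rootGO Q W₂ := by
  have hωo : lin Q ω ∈ oG (⇑Q) := (lin_mem_oG_iff Q ω).mpr hω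
  induction hg using Subgroup.closure_induction with
  | mem g hg =>
    obtain ⟨u, z, hu, huz, huW, hzW, rfl⟩ := hg
    have hu' : Q (lin Q ω u) = 0 := by rw [hωo u, hu]
    have huz' : QuadraticMap.polar (⇑Q) (lin Q ω u) (lin Q ω z) = 0 := by
      rw [oG_polar Q hωo, huz]
    have : ω * eichGO Q u z hu huz * ω⁻¹ = eichGO Q (lin Q ω u) (lin Q ω z) hu' huz' := by
      apply lin_injective
      rw [lin_mul, lin_mul, lin_inv, lin_eichGO, lin_eichGO, conj_E Q hωo hu huz]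
    rw [this]
    exact eichGO_mem_rootGO Q hu' huz' (hmap u huW) (hmap z hzW)
  | one => simp only [mul_one, mul_inv_cancel]; exact Subgroup.one_mem _
  | mul a b _ _ ha hb =>
    have : ω * (a * b) * ω⁻¹ = (ω * a * ω⁻¹) * (ω * b * ω⁻¹) := by group
    rw [this]
    exact Subgroup.mul_mem _ ha hb
  | inv a _ ha =>
    have : ω * a⁻¹ * ω⁻¹ = (ω * a * ω⁻¹)⁻¹ := by group
    rw [this]
    exact Subgroup.inv_mem _ ha

/-! ### the extension homomorphism -/

section ext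

variable {W W' : Submodule F (ι → F)} (h : IsCompl W W')
  (hperp : ∀ w ∈ W, ∀ w' ∈ W', QuadraticMap.polar (⇑Q) w w' = 0)

/-- `TE (resQ Q W) → oG Q`, extension by the identity on `W'`. -/
noncomputable def extO : ↥(TE (resQ Q W)) →* ↥(oG (⇑Q)) :=
  MonoidHom.codRestrict ((extLin h).comp (TE (resQ Q W)).subtype) (oG (⇑Q))
    (fun t => extLin_mem_oG Q h hperp (TE_le_oG _ t.2))

/-- `TE (resQ Q W) → GO Q`. -/
noncomputable def extGO : ↥(TE (resQ Q W)) →* ↥(GO (⇑Q)) := (ofIso Q).comp (extO Q h hperp)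

theorem lin_extGO (t : ↥(TE (resQ Q W))) : lin Q (extGO Q h hperp t) = extLin h t.1 :=
  lin_ofIso Q _

theorem extGO_injective : Function.Injective (extGO Q h hperp) := by
  intro t s hts
  have h1 := congrArg (lin Q) hts
  rw [lin_extGO, lin_extGO] at h1
  exact Subtype.ext (extLin_injective h h1)

theorem extGO_mem_rootGO (t : ↥(TE (resQ Q W))) : extGO Q h hperp t ∈ rootGO Q W := by
  obtain ⟨t, ht⟩ := t
  induction ht using Subgroup.closure_induction with
  | mem g hg =>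
    obtain ⟨u, z, hu, huz, rfl⟩ := hg
    have hu' : Q (u : ι → F) = 0 := hu
    have huz' : QuadraticMap.polar (⇑Q) (u : ι → F) (z : ι → F) = 0 := by
      rw [← polar_resQ]; exact huz
    have : extGO Q h hperp ⟨E (resQ Q W) u z, Subgroup.subset_closure ⟨u, z, hu, huz, rfl⟩⟩ =
        eichGO Q (u : ι → F) (z : ι → F) hu' huz' := by
      apply lin_injective
      rw [lin_extGO, lin_eichGO]
      exact extLin_E Q h hperp u z hu' huz'
    rw [this]
    exact eichGO_mem_rootGO Q hu' huz' u.2 z.2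
  | one => exact (extGO Q h hperp).map_one ▸ Subgroup.one_mem _
  | mul a b ha hb iha ihb =>
    have : (⟨a * b, Subgroup.mul_mem _ ha hb⟩ : ↥(TE (resQ Q W))) = ⟨a, ha⟩ * ⟨b, hb⟩ := rfl
    rw [this, map_mul]
    exact Subgroup.mul_mem _ iha ihb
  | inv a ha iha =>
    have : (⟨a⁻¹, Subgroup.inv_mem _ ha⟩ : ↥(TE (resQ Q W))) = ⟨a, ha⟩⁻¹ := rfl
    rw [this, map_inv]
    exact Subgroup.inv_mem _ iha

theorem range_extGO : (extGO Q h hperp).range = rootGO Q W := by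
  apply le_antisymm
  · rintro _ ⟨t, rfl⟩
    exact extGO_mem_rootGO Q h hperp t
  · rw [rootGO, Subgroup.closure_le]
    rintro g ⟨u, z, hu, huz, huW, hzW, rfl⟩
    have hu' : resQ Q W ⟨u, huW⟩ = 0 := hu
    have huz' : QuadraticMap.polar (⇑(resQ Q W)) ⟨u, huW⟩ ⟨z, hzW⟩ = 0 := by
      rw [polar_resQ]; exact huz
    refine ⟨⟨E (resQ Q W) ⟨u, huW⟩ ⟨z, hzW⟩, E_mem_TE _ hu' huz'⟩, ?_⟩
    apply lin_injective
    rw [lin_extGO, lin_eichGO]
    exact extLin_E Q h hperp ⟨u, huW⟩ ⟨z, hzW⟩ hu huz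

end ext

end Cfsg.Agent.Lib.Helper14_BalRoot
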