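import Mathlib
import Cfsg.Agent.Lib.Helper14_OmegaSimple

/-!
# Automorphisms of the orthogonal groups: common definitions (helper14)

Generic setting: a quadratic form `Q` on a finite-dimensional space `V` over a finite field `F` with
non-degenerate polar form, the group `T Q` generated by the long root elements (`= Ω(Q)`), and a
surjection `mk : T Q →* 𝔾` with central kernel (so `𝔾 = PΩ(Q)`).

* `mkT mk g` : total version of `mk` (value `1` outside `T Q`);
* `TSLine Q u s` : `u`, `s` span a totally singular line;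
* `rootSet mk u s` : the image of the long root group `{E(u, c s)}` of the line `⟨u, s⟩`;
* `radSet mk e` : the image of the unipotent radical `{E(e, z) | z ⊥ e}` of the stabiliser of the
  singular point `⟨e⟩`;
* `zSet S` : the centre of a subgroup, as a set;
* `IsMaxP p H P`, `pCoreSet p H` : maximal `p`-subgroups of `H` and their intersection `O_p(H)`;
* `Wp Q e f` : the orthogonal complement `⟨e, f⟩^⊥`;
* `Hyp Q` : the standing hypotheses (Witt index at least three, dimension at least seven, not `D₄`).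
-/

set_option autoImplicit false

namespace Cfsg.Agent.Lib.Helper14_OrthAut

open Module Cfsg.Agent.Lib.Helper14_OmegaSimple

variable {F V : Type*} [Field F] [AddCommGroup V] [Module F V]
variable (Q : QuadraticForm F V) {𝔾 : Type*} [Group 𝔾]

/-- Total version of `mk`. -/
noncomputable def mkT (mk : ↥(T Q) →* 𝔾) (g : V ≃ₗ[F] V) : 𝔾 :=
  open Classical in if h : g ∈ T Q then mk ⟨g, h⟩ else 1

variable {Q}

lemma mkT_of_mem (mk : ↥(T Q) →* 𝔾) {g : V ≃ₗ[F] V} (h : g ∈ T Q) : mkT Q mk g = mk ⟨g, h⟩ :=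
  dif_pos h

lemma mkT_coe (mk : ↥(T Q) →* 𝔾) (g : ↥(T Q)) : mkT Q mk (g : V ≃ₗ[F] V) = mk g := by
  rw [mkT_of_mem mk g.2]

lemma mkT_mul (mk : ↥(T Q) →* 𝔾) {g g' : V ≃ₗ[F] V} (hg : g ∈ T Q) (hg' : g' ∈ T Q) :
    mkT Q mk (g * g') = mkT Q mk g * mkT Q mk g' := by
  rw [mkT_of_mem mk hg, mkT_of_mem mk hg', mkT_of_mem mk ((T Q).mul_mem hg hg'), ← map_mul]
  rfl

lemma mkT_one (mk : ↥(T Q) →* 𝔾) : mkT Q mk (1 : V ≃ₗ[F] V) = 1 := by
  rw [mkT_of_mem mk (T Q).one_mem]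
  exact map_one mk

lemma mkT_inv (mk : ↥(T Q) →* 𝔾) {g : V ≃ₗ[F] V} (hg : g ∈ T Q) :
    mkT Q mk g⁻¹ = (mkT Q mk g)⁻¹ := by
  rw [mkT_of_mem mk hg, mkT_of_mem mk ((T Q).inv_mem hg), ← map_inv]
  rfl

lemma exists_mkT (mk : ↥(T Q) →* 𝔾) (hs : Function.Surjective mk) (t : 𝔾) :
    ∃ g : V ≃ₗ[F] V, g ∈ T Q ∧ t = mkT Q mk g := by
  obtain ⟨g, rfl⟩ := hs t
  exact ⟨g, g.2, (mkT_coe mk g).symm⟩

variable (Q)

/-- `u`, `s` span a totally singular line. -/
def TSLine (u s : V) : Prop :=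
  Q u = 0 ∧ Q s = 0 ∧ QuadraticMap.polar (⇑Q) u s = 0 ∧ u ≠ 0 ∧ s ∉ Submodule.span F {u}

variable {Q}

/-- The image of the long root group of the line `⟨u, s⟩`. -/
def rootSet (mk : ↥(T Q) →* 𝔾) (u s : V) : Set 𝔾 := {t | ∃ c : F, t = mkT Q mk (E Q u (c • s))}

/-- The image of the unipotent radical of the stabiliser of the singular point `⟨e⟩`. -/
def radSet (mk : ↥(T Q) →* 𝔾) (e : V) : Set 𝔾 :=
  {t | ∃ z : V, QuadraticMap.polar (⇑Q) e z = 0 ∧ t = mkT Q mk (E Q e z)}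

/-- The centre of a subgroup, as a set of the ambient group. -/
def zSet (S : Subgroup 𝔾) : Set 𝔾 := {t | t ∈ S ∧ ∀ s ∈ S, s * t = t * s}

/-- `P` is a maximal `p`-subgroup of `H`. -/
def IsMaxP (p : ℕ) (H P : Subgroup 𝔾) : Prop :=
  P ≤ H ∧ IsPGroup p P ∧ ∀ P' : Subgroup 𝔾, P ≤ P' → P' ≤ H → IsPGroup p P' → P' = P

/-- `O_p(H)`: the intersection of the maximal `p`-subgroups of `H`, as a set. -/
def pCoreSet (p : ℕ) (H : Subgroup 𝔾) : Set 𝔾 := {t | t ∈ H ∧ ∀ P, IsMaxP p H P → t ∈ P}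

variable (Q)

/-- The orthogonal complement of the pair `e`, `f`. -/
def Wp (e f : V) : Submodule F V where
  carrier := {w | QuadraticMap.polar (⇑Q) w e = 0 ∧ QuadraticMap.polar (⇑Q) w f = 0}
  add_mem' := by
    rintro a b ⟨h1, h2⟩ ⟨h3, h4⟩
    exact ⟨by rw [QuadraticMap.polar_add_left, h1, h3, add_zero],
      by rw [QuadraticMap.polar_add_left, h2, h4, add_zero]⟩
  zero_mem' := by simp [QuadraticMap.polar]
  smul_mem' := by
    rintro c a ⟨h1, h2⟩
    exact ⟨by rw [QuadraticMap.polar_smul_left, h1, smul_zero],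
      by rw [QuadraticMap.polar_smul_left, h2, smul_zero]⟩

variable {Q} in
lemma mem_Wp {e f w : V} : w ∈ Wp Q e f ↔
    QuadraticMap.polar (⇑Q) w e = 0 ∧ QuadraticMap.polar (⇑Q) w f = 0 := Iff.rfl

/-- The standing hypotheses on the quadratic space. -/
structure Hyp [FiniteDimensional F V] : Prop where
  nd : (QuadraticMap.polarBilin Q).Nondegenerate
  witt : ∃ U : Submodule F V, finrank F U = 3 ∧ ∀ x ∈ U, Q x = 0
  dim : 7 ≤ finrank F V
  d4 : finrank F V = 8 → ¬ ∃ U : Submodule F V, finrank F U = 4 ∧ ∀ x ∈ U, Q x = 0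

end Cfsg.Agent.Lib.Helper14_OrthAut
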