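import Mathlib
import Cfsg.Agent.Lib.Helper14_OrthAutDefs
import Cfsg.Agent.Lib.Helper14_CentOmega

/-!
# Orthogonal groups, local analysis 1: hyperbolic pairs, the kernel, the radical `R_e` (helper14)
-/

set_option autoImplicit false
set_option linter.unusedSectionVars false
set_option linter.unusedVariables false

namespace Cfsg.Agent.Lib.Helper14_OrthLocal1

open Module Cfsg.Agent.Lib.Helper14_OmegaSimple Cfsg.Agent.Lib.Helper14_OrthAut
  Cfsg.Agent.Lib.Helper94_OrthSmall Cfsg.Agent.Lib.Helper44_QuadClass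
  Cfsg.Agent.Lib.Helper94_Symp

variable {F V : Type*} [Field F] [AddCommGroup V] [Module F V]
variable {Q : QuadraticForm F V} {𝔾 : Type*} [Group 𝔾] {mk : ↥(T Q) →* 𝔾}

set_option quotPrecheck false in
local notation "P" => QuadraticMap.polar (⇑Q)

/-- A hyperbolic pair. -/
structure HypPair (Q : QuadraticForm F V) (e f : V) : Prop where
  ee : Q e = 0
  ff : Q f = 0
  ef : QuadraticMap.polar (⇑Q) e f = 1

namespace HypPair

variable {e f : V} (h : HypPair Q e f)
include h

lemma fe : P f e = 1 := by rw [QuadraticMap.polar_comm, h.ef]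

lemma pee : P e e = 0 := by rw [polar_self', h.ee, mul_zero]

lemma pff : P f f = 0 := by rw [polar_self', h.ff, mul_zero]

lemma symm : HypPair Q f e := ⟨h.ff, h.ee, h.fe⟩

lemma e_ne : e ≠ 0 := by
  rintro rfl
  have := h.ef
  simp [QuadraticMap.polar] at this

lemma f_ne : f ≠ 0 := h.symm.e_ne

/-- The `W`-component of a vector. -/
lemma comp_mem (x : V) : x - P x f • e - P x e • f ∈ Wp Q e f := by
  rw [mem_Wp]
  constructor
  · rw [QuadraticMap.polar_sub_left, QuadraticMap.polar_sub_left, QuadraticMap.polar_smul_left,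
      QuadraticMap.polar_smul_left, h.pee, h.fe]
    simp
  · rw [QuadraticMap.polar_sub_left, QuadraticMap.polar_sub_left, QuadraticMap.polar_smul_left,
      QuadraticMap.polar_smul_left, h.pff, h.ef]
    simp

lemma decomp (x : V) : x = P x f • e + P x e • f + (x - P x f • e - P x e • f) := by abel

lemma Q_decomp (a b : F) {w : V} (hw : w ∈ Wp Q e f) : Q (a • e + b • f + w) = a * b + Q w := by
  obtain ⟨hwe, hwf⟩ := mem_Wp.mp hw
  have h1 : Q (a • e + b • f) = a * b := by
    rw [hQp, QuadraticMap.polarBilin_apply_apply, QuadraticMap.polar_smul_left,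
      QuadraticMap.polar_smul_right, hQs, hQs, h.ee, h.ff, h.ef]
    simp
  rw [hQp, QuadraticMap.polarBilin_apply_apply, h1, QuadraticMap.polar_add_left,
    QuadraticMap.polar_smul_left, QuadraticMap.polar_smul_left,
    QuadraticMap.polar_comm (⇑Q) e w, QuadraticMap.polar_comm (⇑Q) f w, hwe, hwf]
  simp

lemma Wp_symm : Wp Q f e = Wp Q e f := by
  ext w
  rw [mem_Wp, mem_Wp, and_comm]

lemma Wp_eq_perp : Wp Q e f = perp Q e f := by
  ext w
  rw [mem_Wp, mem_perp, QuadraticMap.polar_comm (⇑Q) w e, QuadraticMap.polar_comm (⇑Q) w f]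

lemma finrank_Wp [FiniteDimensional F V] : finrank F (Wp Q e f) + 2 = finrank F V := by
  rw [h.Wp_eq_perp]
  exact finrank_perp h.ee h.ff h.ef

end HypPair

/-! ### The Siegel elements `E(e, w)` -/

section siegel

variable {e f : V} (h : HypPair Q e f)
include h

lemma polar_e_of_mem {w : V} (hw : w ∈ Wp Q e f) : P e w = 0 := by
  rw [QuadraticMap.polar_comm]; exact (mem_Wp.mp hw).1

lemma polar_f_of_mem {w : V} (hw : w ∈ Wp Q e f) : P f w = 0 := by
  rw [QuadraticMap.polar_comm]; exact (mem_Wp.mp hw).2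

lemma E_e {w : V} (hw : w ∈ Wp Q e f) : E Q e w e = e := by
  rw [E_apply Q h.ee (polar_e_of_mem h hw), h.pee, polar_e_of_mem h hw]
  simp

lemma E_f {w : V} (hw : w ∈ Wp Q e f) : E Q e w f = f + w - Q w • e := by
  rw [E_apply Q h.ee (polar_e_of_mem h hw), h.fe, polar_f_of_mem h hw]
  simp

lemma E_w {w x : V} (hw : w ∈ Wp Q e f) (hx : x ∈ Wp Q e f) : E Q e w x = x - P x w • e := by
  rw [E_apply Q h.ee (polar_e_of_mem h hw), (mem_Wp.mp hx).1]
  simp

/-- Reduction of `E(e, z)`, `z ⊥ e`, to the `W`-component of `z`. -/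
lemma E_reduce {z : V} (hz : P e z = 0) :
    ∃ w ∈ Wp Q e f, E Q e z = E Q e w := by
  refine ⟨z - P z f • e, ?_, ?_⟩
  · have := h.comp_mem z
    rwa [QuadraticMap.polar_comm (⇑Q) z e, hz, zero_smul, sub_zero] at this
  · have hz' : P e (z - P z f • e) = 0 := by
      rw [QuadraticMap.polar_sub_right, hz, QuadraticMap.polar_smul_right, h.pee]; simp
    have := E_add_smul Q h.ee hz' (P z f)
    rw [sub_add_cancel] at this
    exact this

end siegel

/-! ### The kernel of `mk` -/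

variable (mk) in
/-- The kernel of `mk` consists of the scalar maps. -/
def KerScalar : Prop :=
  ∀ g : ↥(T Q), mk g = 1 ↔ ∃ l : F, ∀ x, (g : V ≃ₗ[F] V) x = l • x

lemma mkT_eq_iff (hk : KerScalar mk) {g g' : V ≃ₗ[F] V} (hg : g ∈ T Q) (hg' : g' ∈ T Q) :
    mkT Q mk g = mkT Q mk g' ↔ ∃ l : F, ∀ x, g' x = l • g x := by
  rw [mkT_of_mem mk hg, mkT_of_mem mk hg', ← inv_mul_eq_one, ← map_inv, ← map_mul, hk]
  constructor
  · rintro ⟨l, hl⟩
    refine ⟨l, fun x => ?_⟩
    have := hl x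
    change g⁻¹ (g' x) = l • x at this
    have h2 := congrArg g this
    rwa [apply_inv_apply', map_smul] at h2
  · rintro ⟨l, hl⟩
    refine ⟨l, fun x => ?_⟩
    change g⁻¹ (g' x) = l • x
    rw [hl x, map_smul, inv_apply_apply']

lemma mkT_eq_one_iff (hk : KerScalar mk) {g : V ≃ₗ[F] V} (hg : g ∈ T Q) :
    mkT Q mk g = 1 ↔ ∃ l : F, ∀ x, g x = l • x := by
  rw [mkT_of_mem mk hg, hk]

theorem kerScalar_of_ker [Finite F] [FiniteDimensional F V]
    (hQ : (QuadraticMap.polarBilin Q).Nondegenerate) (hdim : 5 ≤ finrank F V)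
    (hker : mk.ker = Subgroup.center ↥(T Q)) : KerScalar mk := by
  intro g
  rw [← MonoidHom.mem_ker, hker, Subgroup.mem_center_iff]
  constructor
  · intro hc
    apply Cfsg.Agent.Lib.Helper14_CentOmega.exists_scalar_of_comm Q hQ hdim
    intro u s hu hs hus
    have := hc ⟨E Q u s, root_mem_T Q hu hs hus⟩
    have h2 := congrArg (fun x : ↥(T Q) => (x : V ≃ₗ[F] V)) this
    exact h2.symm
  · rintro ⟨l, hl⟩ k
    apply Subtype.ext
    apply LinearEquiv.ext
    intro x
    change (k : V ≃ₗ[F] V) ((g : V ≃ₗ[F] V) x) = (g : V ≃ₗ[F] V) ((k : V ≃ₗ[F] V) x)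
    rw [hl, hl, map_smul]

/-! ### Injectivity on the radical -/

section inj

variable {e f : V} (h : HypPair Q e f)
include h

lemma E_mem_T' [Finite F] [FiniteDimensional F V]
    (hQ : (QuadraticMap.polarBilin Q).Nondegenerate) (hdim : 5 ≤ finrank F V) {w : V}
    (hw : w ∈ Wp Q e f) : E Q e w ∈ T Q :=
  E_mem_T Q hQ hdim h.ee (polar_e_of_mem h hw)

/-- `w ↦ E(e, w)` is injective on `W`, even modulo scalars. -/
lemma E_inj_scalar {w w' : V} (hw : w ∈ Wp Q e f) (hw' : w' ∈ Wp Q e f) {l : F}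
    (heq : ∀ x, E Q e w' x = l • E Q e w x) : w' = w := by
  have h1 := heq e
  rw [E_e h hw, E_e h hw'] at h1
  have hl : l = 1 := by
    have h2 : (1 - l) • e = 0 := by rw [sub_smul, one_smul, ← h1, sub_self]
    rcases smul_eq_zero.mp h2 with h3 | h3
    · exact (sub_eq_zero.mp h3).symm
    · exact absurd h3 h.e_ne
  have h2 := heq f
  rw [hl, one_smul, E_f h hw, E_f h hw'] at h2
  have h3 : w' - w = (Q w' - Q w) • e := by
    rw [sub_smul]
    linear_combination (norm := module) h2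
  have h4 : w' - w ∈ Wp Q e f := (Wp Q e f).sub_mem hw' hw
  have h5 := (mem_Wp.mp h4).2
  rw [h3, QuadraticMap.polar_smul_left, h.ef, smul_eq_mul, mul_one] at h5
  rw [h5, zero_smul] at h3
  exact sub_eq_zero.mp h3

lemma mkT_E_inj [Finite F] [FiniteDimensional F V]
    (hQ : (QuadraticMap.polarBilin Q).Nondegenerate) (hdim : 5 ≤ finrank F V)
    (hk : KerScalar mk) {w w' : V} (hw : w ∈ Wp Q e f) (hw' : w' ∈ Wp Q e f)
    (heq : mkT Q mk (E Q e w) = mkT Q mk (E Q e w')) : w = w' := by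
  obtain ⟨l, hl⟩ := (mkT_eq_iff hk (E_mem_T' h hQ hdim hw) (E_mem_T' h hQ hdim hw')).mp heq
  exact (E_inj_scalar h hw hw' hl).symm

/-- Description of the radical through `W`. -/
lemma mem_radSet_iff (t : 𝔾) :
    t ∈ radSet mk e ↔ ∃ w ∈ Wp Q e f, t = mkT Q mk (E Q e w) := by
  constructor
  · rintro ⟨z, hz, rfl⟩
    obtain ⟨w, hw, hE⟩ := E_reduce h hz
    exact ⟨w, hw, by rw [hE]⟩
  · rintro ⟨w, hw, rfl⟩
    exact ⟨w, polar_e_of_mem h hw, rfl⟩

end inj

end Cfsg.Agent.Lib.Helper14_OrthLocal1
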