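import Mathlib
import Cfsg.Agent.Lib.Helper14_OrthLocal1

/-!
# Orthogonal groups, local analysis 2: normalised automorphisms and the induced map on `R_e` (helper14)
-/

set_option autoImplicit false
set_option linter.unusedSectionVars false
set_option linter.unusedVariables false

namespace Cfsg.Agent.Lib.Helper14_OrthLocal2

open Module Cfsg.Agent.Lib.Helper14_OmegaSimple Cfsg.Agent.Lib.Helper14_OrthAut
  Cfsg.Agent.Lib.Helper94_OrthSmall Cfsg.Agent.Lib.Helper44_QuadClass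
  Cfsg.Agent.Lib.Helper94_Symp Cfsg.Agent.Lib.Helper14_OrthLocal1

variable {F V : Type*} [Field F] [AddCommGroup V] [Module F V]
variable {Q : QuadraticForm F V} {𝔾 : Type*} [Group 𝔾] {mk : ↥(T Q) →* 𝔾}

set_option quotPrecheck false in
local notation "P" => QuadraticMap.polar (⇑Q)

/-- `t` is the image of a long root element. -/
def IsRoot (mk : ↥(T Q) →* 𝔾) (t : 𝔾) : Prop := ∃ u s : V, TSLine Q u s ∧ t ∈ rootSet mk u s

/-- `α` is normalised with respect to the pair `e`, `f`. -/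
structure Norm (mk : ↥(T Q) →* 𝔾) (e f : V) (α : 𝔾 ≃* 𝔾) : Prop where
  re : ∀ t ∈ radSet mk e, α t ∈ radSet mk e
  rf : ∀ t ∈ radSet mk f, α t ∈ radSet mk f
  root : ∀ t, IsRoot mk t → IsRoot mk (α t)

lemma mapsTo_symm [Finite 𝔾] {S : Set 𝔾} {α : 𝔾 ≃* 𝔾} (h : ∀ t ∈ S, α t ∈ S) :
    ∀ t ∈ S, α.symm t ∈ S := by
  have hb := ((Set.toFinite S).injOn_iff_bijOn_of_mapsTo (f := α) h).mp
    (α.injective.injOn)
  intro t ht
  obtain ⟨s, hs, rfl⟩ := hb.surjOn ht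
  rwa [MulEquiv.symm_apply_apply]

lemma image_eq_of_mapsTo [Finite 𝔾] {S : Set 𝔾} {α : 𝔾 ≃* 𝔾} (h : ∀ t ∈ S, α t ∈ S) :
    α '' S = S := by
  apply Set.Subset.antisymm
  · rintro _ ⟨t, ht, rfl⟩
    exact h t ht
  · intro t ht
    exact ⟨α.symm t, mapsTo_symm h t ht, α.apply_symm_apply t⟩

lemma Norm.symm [Finite 𝔾] {e f : V} {α : 𝔾 ≃* 𝔾} (h : Norm mk e f α) : Norm mk e f α.symm :=
  ⟨mapsTo_symm h.re, mapsTo_symm h.rf,
    mapsTo_symm (S := {t | IsRoot mk t}) (fun t ht => h.root t ht)⟩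

lemma Norm.mul {e f : V} {α β : 𝔾 ≃* 𝔾} (ha : Norm mk e f α) (hb : Norm mk e f β) :
    Norm mk e f (α * β) :=
  ⟨fun t ht => ha.re _ (hb.re t ht), fun t ht => ha.rf _ (hb.rf t ht),
    fun t ht => ha.root _ (hb.root t ht)⟩

lemma Norm.one (e f : V) : Norm mk e f (1 : 𝔾 ≃* 𝔾) :=
  ⟨fun t ht => ht, fun t ht => ht, fun t ht => ht⟩

/-- `A` describes the action of `α` on the radical `R_e`. -/
def IsInd (mk : ↥(T Q) →* 𝔾) (e f : V) (α : 𝔾 ≃* 𝔾) (A : V → V) : Prop :=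
  ∀ w ∈ Wp Q e f, A w ∈ Wp Q e f ∧ α (mkT Q mk (E Q e w)) = mkT Q mk (E Q e (A w))

lemma isInd_one (e f : V) : IsInd mk e f (1 : 𝔾 ≃* 𝔾) id := fun w hw => ⟨hw, rfl⟩

lemma IsInd.congr {e f : V} {α : 𝔾 ≃* 𝔾} {A A' : V → V} (hA : IsInd mk e f α A)
    (h : ∀ w ∈ Wp Q e f, A w = A' w) : IsInd mk e f α A' := by
  intro w hw
  rw [← h w hw]
  exact hA w hw

lemma exists_isInd {e f : V} (h : HypPair Q e f) {α : 𝔾 ≃* 𝔾}
    (hα : ∀ t ∈ radSet mk e, α t ∈ radSet mk e) : ∃ A : V → V, IsInd mk e f α A := by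
  have key : ∀ w : V, ∃ w' : V, w ∈ Wp Q e f →
      (w' ∈ Wp Q e f ∧ α (mkT Q mk (E Q e w)) = mkT Q mk (E Q e w')) := by
    intro w
    by_cases hw : w ∈ Wp Q e f
    · obtain ⟨w', hw', h1⟩ := (mem_radSet_iff h _).mp
        (hα _ ((mem_radSet_iff h _).mpr ⟨w, hw, rfl⟩))
      exact ⟨w', fun _ => ⟨hw', h1⟩⟩
    · exact ⟨0, fun h' => absurd h' hw⟩
  choose A hA using key
  exact ⟨A, fun w hw => hA w hw⟩

section fin

variable [Finite F] [FiniteDimensional F V]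
variable (hQ : (QuadraticMap.polarBilin Q).Nondegenerate) (hdim : 5 ≤ finrank F V)
include hQ hdim

/-- The induced map is additive. -/
lemma IsInd.add (hk : KerScalar mk) {e f : V} (h : HypPair Q e f) {α : 𝔾 ≃* 𝔾}
    {A : V → V} (hA : IsInd mk e f α A) {w₁ w₂ : V} (hw₁ : w₁ ∈ Wp Q e f)
    (hw₂ : w₂ ∈ Wp Q e f) : A (w₁ + w₂) = A w₁ + A w₂ := by
  obtain ⟨hA₁, h1⟩ := hA w₁ hw₁
  obtain ⟨hA₂, h2⟩ := hA w₂ hw₂
  have hw₁₂ := (Wp Q e f).add_mem hw₁ hw₂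
  obtain ⟨hA₁₂, h12⟩ := hA _ hw₁₂
  rw [← E_mul Q h.ee (polar_e_of_mem h hw₁) (polar_e_of_mem h hw₂),
    mkT_mul mk (E_mem_T' h hQ hdim hw₁) (E_mem_T' h hQ hdim hw₂), map_mul, h1, h2,
    ← mkT_mul mk (E_mem_T' h hQ hdim hA₁) (E_mem_T' h hQ hdim hA₂),
    E_mul Q h.ee (polar_e_of_mem h hA₁) (polar_e_of_mem h hA₂)] at h12
  exact (mkT_E_inj h hQ hdim hk ((Wp Q e f).add_mem hA₁ hA₂) hA₁₂ h12).symm

/-- Induced maps compose. -/
lemma IsInd.comp_apply (hk : KerScalar mk) {e f : V} (h : HypPair Q e f)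
    {α β γ : 𝔾 ≃* 𝔾} {A A' A'' : V → V} (hA : IsInd mk e f α A) (hA' : IsInd mk e f β A')
    (hA'' : IsInd mk e f γ A'') (hγ : ∀ t, γ t = α (β t)) {w : V} (hw : w ∈ Wp Q e f) :
    A'' w = A (A' w) := by
  obtain ⟨hm', h1⟩ := hA' w hw
  obtain ⟨hm, h2⟩ := hA _ hm'
  obtain ⟨hm'', h3⟩ := hA'' w hw
  rw [hγ, h1, h2] at h3
  exact (mkT_E_inj h hQ hdim hk hm hm'' h3).symm

/-- The induced maps of `α` and `α.symm` are mutually inverse. -/
lemma IsInd.symm_apply (hk : KerScalar mk) {e f : V} (h : HypPair Q e f) {α : 𝔾 ≃* 𝔾}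
    {A A' : V → V} (hA : IsInd mk e f α A) (hA' : IsInd mk e f α.symm A') {w : V}
    (hw : w ∈ Wp Q e f) : A' (A w) = w ∧ A (A' w) = w := by
  constructor
  · exact (IsInd.comp_apply hQ hdim hk h hA' hA (isInd_one e f)
      (fun t => (α.symm_apply_apply t).symm) hw).symm
  · exact (IsInd.comp_apply hQ hdim hk h hA hA' (isInd_one e f)
      (fun t => (α.apply_symm_apply t).symm) hw).symm

end fin

end Cfsg.Agent.Lib.Helper14_OrthLocal2
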