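import Mathlib
import Cfsg.Agent.Lib.Helper14_OrthLocal2

/-!
# Orthogonal groups, local analysis 3: the Levi action and the normaliser of `R_e` (helper14)
-/

set_option autoImplicit false
set_option linter.unusedSectionVars false
set_option linter.unusedVariables false

namespace Cfsg.Agent.Lib.Helper14_OrthLocal3

open Module Cfsg.Agent.Lib.Helper14_OmegaSimple Cfsg.Agent.Lib.Helper14_OrthAut
  Cfsg.Agent.Lib.Helper94_OrthSmall Cfsg.Agent.Lib.Helper44_QuadClass
  Cfsg.Agent.Lib.Helper94_Symp Cfsg.Agent.Lib.Helper14_OrthLocal1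
  Cfsg.Agent.Lib.Helper14_OrthLocal2

variable {F V : Type*} [Field F] [AddCommGroup V] [Module F V]
variable {Q : QuadraticForm F V} {𝔾 : Type*} [Group 𝔾] {mk : ↥(T Q) →* 𝔾}

set_option quotPrecheck false in
local notation "P" => QuadraticMap.polar (⇑Q)

lemma smul_ne_zero_of_apply {v : V} (hv0 : v ≠ 0) {l : V ≃ₗ[F] V} {lam : F}
    (hlv : l v = lam • v) : lam ≠ 0 := by
  rintro rfl
  rw [zero_smul] at hlv
  exact hv0 (by simpa using hlv)

lemma levi_mem_Wp {e f : V} {l : V ≃ₗ[F] V} (hl : l ∈ oG (⇑Q)) {lam mu : F} (hlam : lam ≠ 0)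
    (hmu : mu ≠ 0) (hle : l e = lam • e) (hlf : l f = mu • f) {w : V} (hw : w ∈ Wp Q e f) :
    l w ∈ Wp Q e f := by
  obtain ⟨hwe, hwf⟩ := mem_Wp.mp hw
  refine mem_Wp.mpr ⟨?_, ?_⟩
  · have := oG_polar Q hl w e
    rw [hle, QuadraticMap.polar_smul_right, hwe, smul_eq_mul] at this
    exact (mul_eq_zero.mp this).resolve_left hlam
  · have := oG_polar Q hl w f
    rw [hlf, QuadraticMap.polar_smul_right, hwf, smul_eq_mul] at this
    exact (mul_eq_zero.mp this).resolve_left hmu

/-- Conjugation of `E(e, w)` by an element of the Levi complement. -/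
lemma conj_E_levi {e f : V} (h : HypPair Q e f) {l : V ≃ₗ[F] V} (hl : l ∈ oG (⇑Q)) {lam mu : F}
    (hlam : lam ≠ 0) (hmu : mu ≠ 0) (hle : l e = lam • e) (hlf : l f = mu • f) {w : V}
    (hw : w ∈ Wp Q e f) : l * E Q e w * l⁻¹ = E Q e (lam • l w) := by
  have hlw := levi_mem_Wp hl hlam hmu hle hlf hw
  rw [conj_E Q hl h.ee (polar_e_of_mem h hw), hle, E_smul_left Q h.ee (polar_e_of_mem h hlw)]

/-- A vector orthogonal to `a` with prescribed non-zero pairing with `y ∉ F a`. -/
lemma exists_orth_polar_one [FiniteDimensional F V]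
    (hQ : (QuadraticMap.polarBilin Q).Nondegenerate) {a y : V}
    (hy : y ∉ Submodule.span F {a}) : ∃ x : V, P x a = 0 ∧ P x y = 1 := by
  have key : ∃ x : V, P x a = 0 ∧ P x y ≠ 0 := by
    by_contra hcon
    push Not at hcon
    by_cases ha : a = 0
    · apply hy
      have : y = 0 := by
        apply hQ.2 y
        intro x
        rw [QuadraticMap.polarBilin_apply_apply]
        exact hcon x (by rw [ha]; simp [QuadraticMap.polar])
      rw [this]
      exact Submodule.zero_mem _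
    · have hex : ∃ x₁, P x₁ a ≠ 0 := by
        by_contra h0
        push Not at h0
        exact ha (hQ.2 a (fun x => by rw [QuadraticMap.polarBilin_apply_apply]; exact h0 x))
      obtain ⟨x₁', hx₁'⟩ := hex
      obtain ⟨x₁, hx₁⟩ : ∃ x₁, P x₁ a = 1 :=
        ⟨(P x₁' a)⁻¹ • x₁', by
          rw [QuadraticMap.polar_smul_left, smul_eq_mul, inv_mul_cancel₀ hx₁']⟩
      apply hy
      rw [Submodule.mem_span_singleton]
      refine ⟨P x₁ y, ?_⟩
      symm
      rw [← sub_eq_zero]
      apply hQ.2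
      intro x
      rw [QuadraticMap.polarBilin_apply_apply]
      have h1 := hcon (x - P x a • x₁) (by
        rw [QuadraticMap.polar_sub_left, QuadraticMap.polar_smul_left, hx₁]; simp)
      rw [QuadraticMap.polar_sub_left, QuadraticMap.polar_smul_left, smul_eq_mul] at h1
      rw [QuadraticMap.polar_sub_right, QuadraticMap.polar_smul_right, smul_eq_mul]
      linear_combination h1
  obtain ⟨x, hxa, hxy⟩ := key
  refine ⟨(P x y)⁻¹ • x, ?_, ?_⟩
  · rw [QuadraticMap.polar_smul_left, hxa, smul_zero]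
  · rw [QuadraticMap.polar_smul_left, smul_eq_mul, inv_mul_cancel₀ hxy]

/-- A non-zero vector orthogonal to four given vectors. -/
lemma exists_ne_zero_orth4 [FiniteDimensional F V]
    (hQ : (QuadraticMap.polarBilin Q).Nondegenerate) (hdim : 5 ≤ finrank F V) (a b c d : V) :
    ∃ x : V, x ≠ 0 ∧ P x a = 0 ∧ P x b = 0 ∧ P x c = 0 ∧ P x d = 0 := by
  classical
  obtain ⟨W, hW⟩ : ∃ W, W = Submodule.span F ({a, b, c, d} : Set V) := ⟨_, rfl⟩
  have hWle : finrank F W ≤ 4 := by
    rw [hW]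
    have := finrank_span_finset_le_card (R := F) ({a, b, c, d} : Finset V)
    have h2 : ((({a, b, c, d} : Finset V) : Set V)) = ({a, b, c, d} : Set V) := by
      simp
    rw [h2] at this
    exact this.trans (Finset.card_le_four)
  obtain ⟨K, hK⟩ : ∃ K, K = LinearMap.BilinForm.orthogonal (QuadraticMap.polarBilin Q) W := ⟨_, rfl⟩
  have hKfr : finrank F K = finrank F V - finrank F W := by
    rw [hK]; exact LinearMap.BilinForm.finrank_orthogonal hQ W
  have hKpos : 0 < finrank F K := by omega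
  obtain ⟨x, hx0⟩ := (Module.finrank_pos_iff_exists_ne_zero (R := F) (M := K)).mp hKpos
  obtain ⟨y, hy⟩ : ∃ y : V, y = (x : V) := ⟨_, rfl⟩
  have hxK : y ∈ K := hy ▸ x.2
  have hy0 : y ≠ 0 := by
    rw [hy]
    exact fun h => hx0 (Subtype.ext h)
  rw [hK, LinearMap.BilinForm.mem_orthogonal_iff] at hxK
  have hm : ∀ v ∈ ({a, b, c, d} : Set V), P y v = 0 := by
    intro v hv
    have := hxK v (hW ▸ Submodule.subset_span hv)
    rw [QuadraticMap.polarBilin_apply_apply, QuadraticMap.polar_comm] at this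
    exact this
  refine ⟨y, hy0, hm a (by simp), hm b (by simp), hm c (by simp), hm d (by simp)⟩

section fin

variable [Finite F] [FiniteDimensional F V]
variable (hQ : (QuadraticMap.polarBilin Q).Nondegenerate) (hdim : 5 ≤ finrank F V)
include hQ hdim

/-- An element conjugating `R_e` into `R_{e'}` maps `e` into the line of `e'`. -/
lemma normalizer_lemma (hk : KerScalar mk) {e f e' f' : V} (h : HypPair Q e f)
    (h' : HypPair Q e' f') {g : V ≃ₗ[F] V} (hg : g ∈ T Q)
    (hconj : ∀ w ∈ Wp Q e f, ∃ w' ∈ Wp Q e' f',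
      mkT Q mk (g * E Q e w * g⁻¹) = mkT Q mk (E Q e' w')) : ∃ k : F, g e = k • e' := by
  by_contra hne
  have hgO := T_le_oG Q hg
  have hge : g e ∉ Submodule.span F {e'} := by
    intro hmem
    obtain ⟨k, hk'⟩ := Submodule.mem_span_singleton.mp hmem
    exact hne ⟨k, hk'.symm⟩
  obtain ⟨y, hye', hyge⟩ := exists_orth_polar_one hQ hge
  have hQge : Q (g e) = 0 := by rw [hgO e, h.ee]
  have key : ∀ w ∈ Wp Q e f, g w ∈ Submodule.span F ({g e, e'} : Set V) := by
    intro w hw
    obtain ⟨w', hw', heq⟩ := hconj w hw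
    have hew := polar_e_of_mem h hw
    have hew' := polar_e_of_mem h' hw'
    have hgew : P (g e) (g w) = 0 := by rw [oG_polar Q hgO, hew]
    rw [conj_E Q hgO h.ee hew] at heq
    have hmem1 : E Q (g e) (g w) ∈ T Q := E_mem_T Q hQ hdim hQge hgew
    obtain ⟨l, hl⟩ := (mkT_eq_iff hk hmem1 (E_mem_T' h' hQ hdim hw')).mp heq
    obtain ⟨x₀, hx₀, h1, h2, h3, h4⟩ := exists_ne_zero_orth4 hQ hdim (g e) (g w) e' w'
    have hl1 : l = 1 := by
      have := hl x₀
      rw [E_apply Q h'.ee hew', E_apply Q hQge hgew, h1, h2, h3, h4] at this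
      simp only [zero_smul, mul_zero, add_zero, sub_zero] at this
      have h5 : (1 - l) • x₀ = 0 := by rw [sub_smul, one_smul, ← this, sub_self]
      rcases smul_eq_zero.mp h5 with h6 | h6
      · exact (sub_eq_zero.mp h6).symm
      · exact absurd h6 hx₀
    have := hl y
    rw [hl1, one_smul, E_apply Q h'.ee hew', E_apply Q hQge hgew, hye', hyge] at this
    simp only [zero_smul, mul_zero, add_zero, sub_zero, one_smul, mul_one] at this
    have h5 : g w = (P y (g w) + Q (g w)) • g e + (-(P y w')) • e' := by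
      rw [add_smul]
      linear_combination (norm := module) -this
    rw [h5]
    exact Submodule.add_mem _ (Submodule.smul_mem _ _ (Submodule.subset_span (by simp)))
      (Submodule.smul_mem _ _ (Submodule.subset_span (by simp)))
  have hle : (Wp Q e f).map (g : V →ₗ[F] V) ≤ Submodule.span F ({g e, e'} : Set V) := by
    rintro _ ⟨w, hw, rfl⟩
    exact key w hw
  have h1 := Submodule.finrank_mono hle
  have h2 : finrank F ((Wp Q e f).map (g : V →ₗ[F] V)) = finrank F (Wp Q e f) :=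
    LinearEquiv.finrank_map_eq g (Wp Q e f)
  have h3 : finrank F (Submodule.span F ({g e, e'} : Set V)) ≤ 2 := by
    classical
    have := finrank_span_finset_le_card (R := F) ({g e, e'} : Finset V)
    rw [Finset.coe_insert, Finset.coe_singleton] at this
    exact this.trans Finset.card_le_two
  have h4 := h.finrank_Wp
  omega

/-- The induced map is equivariant for the twisted Levi action. -/
lemma IsInd.equivariant (hk : KerScalar mk) {e f : V} (h : HypPair Q e f) {α : 𝔾 ≃* 𝔾}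
    {A : V → V} (hA : IsInd mk e f α A) {l l' : V ≃ₗ[F] V} (hl : l ∈ T Q)
    (hl' : l' ∈ T Q) {lam mu lam' mu' : F} (hle : l e = lam • e) (hlf : l f = mu • f)
    (hle' : l' e = lam' • e) (hlf' : l' f = mu' • f) (hll' : α (mkT Q mk l) = mkT Q mk l')
    {w : V} (hw : w ∈ Wp Q e f) : A (lam • l w) = lam' • l' (A w) := by
  have hlam := smul_ne_zero_of_apply h.e_ne hle
  have hmu := smul_ne_zero_of_apply h.f_ne hlf
  have hlam' := smul_ne_zero_of_apply h.e_ne hle'
  have hmu' := smul_ne_zero_of_apply h.f_ne hlf'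
  have hlO := T_le_oG Q hl
  have hlO' := T_le_oG Q hl'
  obtain ⟨hAw, h1⟩ := hA w hw
  have hc1 := conj_E_levi h hlO hlam hmu hle hlf hw
  have hc2 := conj_E_levi h hlO' hlam' hmu' hle' hlf' hAw
  have hw2 : lam • l w ∈ Wp Q e f :=
    (Wp Q e f).smul_mem _ (levi_mem_Wp hlO hlam hmu hle hlf hw)
  have hw3 : lam' • l' (A w) ∈ Wp Q e f :=
    (Wp Q e f).smul_mem _ (levi_mem_Wp hlO' hlam' hmu' hle' hlf' hAw)
  obtain ⟨hm4, h4⟩ := hA _ hw2
  have hE := E_mem_T' h hQ hdim hw
  have hE' := E_mem_T' h hQ hdim hAw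
  rw [← hc1, mkT_mul mk ((T Q).mul_mem hl hE) ((T Q).inv_mem hl), mkT_mul mk hl hE,
    mkT_inv mk hl, map_mul, map_mul, map_inv, hll', h1, ← mkT_inv mk hl',
    ← mkT_mul mk hl' hE', ← mkT_mul mk ((T Q).mul_mem hl' hE') ((T Q).inv_mem hl'),
    hc2] at h4
  exact (mkT_E_inj h hQ hdim hk hw3 hm4 h4).symm

/-- An automorphism stabilising `R_e` maps elements fixing the point `F e` to such elements. -/
lemma fix_point_of_rad [Finite 𝔾] (hk : KerScalar mk) {e f : V} (h : HypPair Q e f)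
    {α : 𝔾 ≃* 𝔾} (hα : ∀ t ∈ radSet mk e, α t ∈ radSet mk e)
    {l l' : V ≃ₗ[F] V} (hl : l ∈ T Q) (hl' : l' ∈ T Q) {lam : F} (hle : l e = lam • e)
    (hll' : α (mkT Q mk l) = mkT Q mk l') : ∃ lam' : F, l' e = lam' • e := by
  have hlO := T_le_oG Q hl
  apply normalizer_lemma hQ hdim hk h h hl'
  intro w hw
  have himg := image_eq_of_mapsTo hα
  have hmem : mkT Q mk (E Q e w) ∈ α '' radSet mk e := by
    rw [himg]; exact (mem_radSet_iff h _).mpr ⟨w, hw, rfl⟩
  obtain ⟨t, ht, hαt⟩ := hmem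
  obtain ⟨w₀, hw₀, rfl⟩ := (mem_radSet_iff h _).mp ht
  have hew₀ := polar_e_of_mem h hw₀
  have hE₀ := E_mem_T' h hQ hdim hw₀
  have hE := E_mem_T' h hQ hdim hw
  have hlam := smul_ne_zero_of_apply h.e_ne hle
  have hz : P e (lam • l w₀) = 0 := by
    have := oG_polar Q hlO e w₀
    rw [hle, QuadraticMap.polar_smul_left, hew₀, smul_eq_mul] at this
    rw [QuadraticMap.polar_smul_right, (mul_eq_zero.mp this).resolve_left hlam, smul_zero]
  have hz' : P e (l w₀) = 0 := by
    have := oG_polar Q hlO e w₀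
    rw [hle, QuadraticMap.polar_smul_left, hew₀, smul_eq_mul] at this
    exact (mul_eq_zero.mp this).resolve_left hlam
  have hconj : l * E Q e w₀ * l⁻¹ = E Q e (lam • l w₀) := by
    rw [conj_E Q hlO h.ee hew₀, hle, E_smul_left Q h.ee hz']
  have h1 : α (mkT Q mk (l * E Q e w₀ * l⁻¹)) ∈ radSet mk e := by
    apply hα
    rw [hconj]
    exact ⟨_, hz, rfl⟩
  rw [mkT_mul mk ((T Q).mul_mem hl hE₀) ((T Q).inv_mem hl), mkT_mul mk hl hE₀,
    mkT_inv mk hl, map_mul, map_mul, map_inv, hll', hαt, ← mkT_inv mk hl',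
    ← mkT_mul mk hl' hE, ← mkT_mul mk ((T Q).mul_mem hl' hE) ((T Q).inv_mem hl')] at h1
  obtain ⟨w', hw', h2⟩ := (mem_radSet_iff h _).mp h1
  exact ⟨w', hw', h2⟩

end fin

end Cfsg.Agent.Lib.Helper14_OrthLocal3
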