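import Mathlib
import Cfsg.Agent.Lib.Helper14_OrthLocal3

/-!
# Orthogonal groups, local analysis 4: the induced map is semilinear (helper14)
-/

set_option autoImplicit false
set_option linter.unusedSectionVars false
set_option linter.unusedVariables false

namespace Cfsg.Agent.Lib.Helper14_OrthLocal4

open Module Cfsg.Agent.Lib.Helper14_OmegaSimple Cfsg.Agent.Lib.Helper14_OrthAut
  Cfsg.Agent.Lib.Helper94_OrthSmall Cfsg.Agent.Lib.Helper44_QuadClass
  Cfsg.Agent.Lib.Helper94_Symp Cfsg.Agent.Lib.Helper14_OrthLocal1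
  Cfsg.Agent.Lib.Helper14_OrthLocal2 Cfsg.Agent.Lib.Helper14_OrthLocal3

variable {F V : Type*} [Field F] [AddCommGroup V] [Module F V]
variable {Q : QuadraticForm F V} {𝔾 : Type*} [Group 𝔾] {mk : ↥(T Q) →* 𝔾}

set_option quotPrecheck false in
local notation "P" => QuadraticMap.polar (⇑Q)

/-- The commutant property of the Levi action (package PC-comm). -/
def Commutant (Q : QuadraticForm F V) (e f : V) : Prop :=
  ∀ φ : V → V, (∀ w ∈ Wp Q e f, φ w ∈ Wp Q e f) →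
    (∀ w ∈ Wp Q e f, ∀ w' ∈ Wp Q e f, φ (w + w') = φ w + φ w') →
    (∀ l ∈ T Q, ∀ lam mu : F, l e = lam • e → l f = mu • f →
      ∀ w ∈ Wp Q e f, φ (lam • l w) = lam • l (φ w)) →
    ∃ k : F, ∀ w ∈ Wp Q e f, φ w = k • w

section fin

variable [Finite F] [FiniteDimensional F V] [Finite 𝔾]
variable (hQ : (QuadraticMap.polarBilin Q).Nondegenerate) (hdim : 5 ≤ finrank F V)
include hQ hdim

/-- A non-zero vector of `W`. -/
lemma exists_ne_zero_mem_Wp {e f : V} (h : HypPair Q e f) : ∃ w ∈ Wp Q e f, w ≠ 0 := by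
  have h1 := h.finrank_Wp
  have hpos : 0 < finrank F (Wp Q e f) := by omega
  obtain ⟨x, hx0⟩ := (Module.finrank_pos_iff_exists_ne_zero (R := F) (M := Wp Q e f)).mp hpos
  exact ⟨x, x.2, fun h0 => hx0 (Subtype.ext h0)⟩

/-- The map induced by a normalised automorphism is semilinear. -/
theorem exists_semilinear (hk : KerScalar mk) (hs : Function.Surjective mk)
    {e f : V} (h : HypPair Q e f) (hcm : Commutant Q e f)
    {α : 𝔾 ≃* 𝔾} (hα : Norm mk e f α) {A : V → V} (hA : IsInd mk e f α A) :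
    ∃ τ : F →+* F, ∀ (a : F), ∀ w ∈ Wp Q e f, A (a • w) = τ a • A w := by
  have hα' := hα.symm
  obtain ⟨A', hA'⟩ := exists_isInd h hα'.re
  have hinv : ∀ w ∈ Wp Q e f, A' (A w) = w ∧ A (A' w) = w :=
    fun w hw => IsInd.symm_apply hQ hdim hk h hA hA' hw
  have hAm : ∀ w ∈ Wp Q e f, A w ∈ Wp Q e f := fun w hw => (hA w hw).1
  have hAm' : ∀ w ∈ Wp Q e f, A' w ∈ Wp Q e f := fun w hw => (hA' w hw).1
  have hAadd : ∀ w₁ ∈ Wp Q e f, ∀ w₂ ∈ Wp Q e f, A (w₁ + w₂) = A w₁ + A w₂ :=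
    fun w₁ h₁ w₂ h₂ => IsInd.add hQ hdim hk h hA h₁ h₂
  have hAadd' : ∀ w₁ ∈ Wp Q e f, ∀ w₂ ∈ Wp Q e f, A' (w₁ + w₂) = A' w₁ + A' w₂ :=
    fun w₁ h₁ w₂ h₂ => IsInd.add hQ hdim hk h hA' h₁ h₂
  -- the conjugated scalar maps
  have key : ∀ a : F, ∃ k : F, ∀ w ∈ Wp Q e f, A (a • A' w) = k • w := by
    intro a
    apply hcm (fun x => A (a • A' x))
    · exact fun w hw => hAm _ ((Wp Q e f).smul_mem _ (hAm' w hw))
    · intro w hw w' hw'
      change A (a • A' (w + w')) = A (a • A' w) + A (a • A' w')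
      rw [hAadd' w hw w' hw', smul_add,
        hAadd _ ((Wp Q e f).smul_mem _ (hAm' w hw)) _ ((Wp Q e f).smul_mem _ (hAm' w' hw'))]
    · intro l hl lam mu hle hlf w hw
      change A (a • A' (lam • l w)) = lam • l (A (a • A' w))
      obtain ⟨l'', hl'', hll''⟩ := exists_mkT mk hs (α.symm (mkT Q mk l))
      obtain ⟨lam'', hle''⟩ := fix_point_of_rad hQ hdim hk h hα'.re hl hl'' hle hll''
      obtain ⟨mu'', hlf''⟩ := fix_point_of_rad hQ hdim hk h.symm hα'.rf hl hl'' hlf hll''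
      have hback : α (mkT Q mk l'') = mkT Q mk l := by
        rw [← hll'', MulEquiv.apply_symm_apply]
      have e1 := IsInd.equivariant hQ hdim hk h hA' hl hl'' hle hlf hle'' hlf'' hll'' hw
      have hx : a • A' w ∈ Wp Q e f := (Wp Q e f).smul_mem _ (hAm' w hw)
      have e2 := IsInd.equivariant hQ hdim hk h hA hl'' hl hle'' hlf'' hle hlf hback hx
      rw [e1, ← e2, map_smul, smul_comm a lam'']
  choose τ hτ using key
  have hτ' : ∀ a : F, ∀ w ∈ Wp Q e f, A (a • w) = τ a • A w := by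
    intro a w hw
    have := hτ a (A w) (hAm w hw)
    rwa [(hinv w hw).1] at this
  obtain ⟨w₀, hw₀, hw₀0⟩ := exists_ne_zero_mem_Wp hQ hdim h
  have hA0 : A 0 = 0 := by
    have := hAadd 0 (Wp Q e f).zero_mem 0 (Wp Q e f).zero_mem
    rw [add_zero] at this
    exact left_eq_add.mp this
  have hAw₀ : A w₀ ≠ 0 := by
    intro h0
    apply hw₀0
    rw [← (hinv w₀ hw₀).1, h0]
    have := hAadd' 0 (Wp Q e f).zero_mem 0 (Wp Q e f).zero_mem
    rw [add_zero] at this
    exact left_eq_add.mp this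
  have hcancel : ∀ x y : F, x • A w₀ = y • A w₀ → x = y := by
    intro x y hxy
    have h2 : (x - y) • A w₀ = 0 := by rw [sub_smul, hxy, sub_self]
    rcases smul_eq_zero.mp h2 with h3 | h3
    · exact sub_eq_zero.mp h3
    · exact absurd h3 hAw₀
  have hmem : ∀ a : F, a • w₀ ∈ Wp Q e f := fun a => (Wp Q e f).smul_mem a hw₀
  refine ⟨{ toFun := τ, map_one' := ?_, map_mul' := ?_, map_zero' := ?_, map_add' := ?_ },
    hτ'⟩
  · apply hcancel
    rw [← hτ' 1 w₀ hw₀, one_smul, one_smul]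
  · intro a b
    apply hcancel
    rw [← hτ' (a * b) w₀ hw₀, mul_smul, hτ' a _ (hmem b), hτ' b w₀ hw₀, smul_smul]
  · apply hcancel
    rw [← hτ' 0 w₀ hw₀, zero_smul, zero_smul, hA0]
  · intro a b
    apply hcancel
    rw [← hτ' (a + b) w₀ hw₀, add_smul, hAadd _ (hmem a) _ (hmem b), hτ' a w₀ hw₀,
      hτ' b w₀ hw₀, add_smul]

end fin

end Cfsg.Agent.Lib.Helper14_OrthLocal4
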