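import Mathlib
import Cfsg.Agent.Lib.Helper14_OrthLocal4

/-!
# Orthogonal groups, local analysis 5: automorphisms induced by semisimilarities (helper14)
-/

set_option autoImplicit false
set_option linter.unusedSectionVars false
set_option linter.unusedVariables false

namespace Cfsg.Agent.Lib.Helper14_OrthLocal5

open Module Cfsg.Agent.Lib.Helper14_OmegaSimple Cfsg.Agent.Lib.Helper14_OrthAut
  Cfsg.Agent.Lib.Helper94_OrthSmall Cfsg.Agent.Lib.Helper44_QuadClass
  Cfsg.Agent.Lib.Helper94_Symp Cfsg.Agent.Lib.Helper14_OrthLocal1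
  Cfsg.Agent.Lib.Helper14_OrthLocal2 Cfsg.Agent.Lib.Helper14_OrthLocal3
  Cfsg.Agent.Lib.Helper14_OrthLocal4

variable {F V : Type*} [Field F] [AddCommGroup V] [Module F V]
variable {Q : QuadraticForm F V} {𝔾 : Type*} [Group 𝔾] {mk : ↥(T Q) →* 𝔾}

set_option quotPrecheck false in
local notation "P" => QuadraticMap.polar (⇑Q)

/-- `φ` is induced by the `τ`-semilinear semisimilarity `Φ` with multiplier `c`. -/
structure SemiAut (mk : ↥(T Q) →* 𝔾) (φ : 𝔾 ≃* 𝔾) (τ : F →+* F) (Φ : V → V) (c : F) : Prop where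
  add : ∀ x y, Φ (x + y) = Φ x + Φ y
  smul : ∀ (a : F) x, Φ (a • x) = τ a • Φ x
  surj : Function.Surjective Φ
  c_ne : c ≠ 0
  form : ∀ x, Q (Φ x) = c * τ (Q x)
  spec : ∀ s ∈ T Q, ∃ s' ∈ T Q, (∀ x, s' (Φ x) = Φ (s x)) ∧ φ (mkT Q mk s) = mkT Q mk s'

namespace SemiAut

variable {φ : 𝔾 ≃* 𝔾} {τ : F →+* F} {Φ : V → V} {c : F} (hT : SemiAut mk φ τ Φ c)
include hT

lemma map_zero : Φ 0 = 0 := by
  have := hT.add 0 0
  rw [add_zero] at this
  exact left_eq_add.mp this

lemma map_neg (x : V) : Φ (-x) = -Φ x := by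
  have := hT.add x (-x)
  rw [add_neg_cancel, hT.map_zero] at this
  exact (neg_eq_of_add_eq_zero_right this.symm).symm

lemma map_sub (x y : V) : Φ (x - y) = Φ x - Φ y := by
  rw [sub_eq_add_neg, hT.add, hT.map_neg, sub_eq_add_neg]

lemma polar (x y : V) : P (Φ x) (Φ y) = c * τ (P x y) := by
  rw [QuadraticMap.polar, QuadraticMap.polar, ← hT.add, hT.form, hT.form, hT.form,
    _root_.map_sub, _root_.map_sub]
  ring

/-- The image of a Siegel element. -/
lemma E_image [Finite F] [FiniteDimensional F V]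
    (hQ : (QuadraticMap.polarBilin Q).Nondegenerate) (hdim : 5 ≤ finrank F V) {u z : V}
    (hu : Q u = 0) (huz : P u z = 0) :
    Q (Φ u) = 0 ∧ P (Φ u) (c⁻¹ • Φ z) = 0 ∧
      φ (mkT Q mk (E Q u z)) = mkT Q mk (E Q (Φ u) (c⁻¹ • Φ z)) := by
  have h1 : Q (Φ u) = 0 := by rw [hT.form, hu, _root_.map_zero, mul_zero]
  have h2 : P (Φ u) (c⁻¹ • Φ z) = 0 := by
    rw [QuadraticMap.polar_smul_right, hT.polar, huz, _root_.map_zero, mul_zero, smul_zero]
  refine ⟨h1, h2, ?_⟩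
  obtain ⟨s', hs', hs'T, hφ⟩ := hT.spec _ (E_mem_T Q hQ hdim hu huz)
  rw [hφ]
  congr 1
  ext y
  obtain ⟨x, rfl⟩ := hT.surj y
  rw [hs'T, E_apply Q hu huz, E_apply Q h1 h2, hT.map_sub, hT.map_sub, hT.add, hT.smul, hT.smul,
    hT.smul, QuadraticMap.polar_smul_right, hT.polar, hT.polar, hQs, hT.form, _root_.map_mul]
  have hc := hT.c_ne
  simp only [smul_smul, smul_eq_mul]
  congr 1
  · congr 1
    · congr 2
      field_simp
    · congr 1
      field_simp
  · congr 1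
    field_simp

end SemiAut

lemma SemiAut.comp {φ ψ : 𝔾 ≃* 𝔾} {τ ρ : F →+* F} {Φ Ψ : V → V} {c d : F}
    (hT : SemiAut mk φ τ Φ c) (hS : SemiAut mk ψ ρ Ψ d) :
    SemiAut mk (φ * ψ) (τ.comp ρ) (Φ ∘ Ψ) (c * τ d) where
  add x y := by simp only [Function.comp_apply, hS.add, hT.add]
  smul a x := by simp only [Function.comp_apply, hS.smul, hT.smul, RingHom.comp_apply]
  surj := hT.surj.comp hS.surj
  c_ne := mul_ne_zero hT.c_ne (fun h => hS.c_ne (by
    have := τ.injective (h.trans (_root_.map_zero τ).symm)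
    exact this))
  form x := by
    simp only [Function.comp_apply, hT.form, hS.form, RingHom.comp_apply, map_mul]
    ring
  spec s hs := by
    obtain ⟨s', hs', h1, h2⟩ := hS.spec s hs
    obtain ⟨s'', hs'', h3, h4⟩ := hT.spec s' hs'
    refine ⟨s'', hs'', fun x => ?_, ?_⟩
    · simp only [Function.comp_apply, h3, h1]
    · rw [MulAut.mul_apply, h2, h4]

/-- The radical depends only on the point. -/
lemma radSet_smul {e : V} (he : Q e = 0) {k : F} (hk : k ≠ 0) :
    radSet mk (k • e) = radSet mk e := by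
  ext t
  constructor
  · rintro ⟨z, hz, rfl⟩
    have hz' : P e z = 0 := by
      rw [QuadraticMap.polar_smul_left, smul_eq_mul] at hz
      exact (mul_eq_zero.mp hz).resolve_left hk
    rw [E_smul_left Q he hz']
    exact ⟨k • z, by rw [QuadraticMap.polar_smul_right, hz', smul_zero], rfl⟩
  · rintro ⟨z, hz, rfl⟩
    have hz' : P e (k⁻¹ • z) = 0 := by rw [QuadraticMap.polar_smul_right, hz, smul_zero]
    refine ⟨k⁻¹ • z, by rw [QuadraticMap.polar_smul_left, hz', smul_zero], ?_⟩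
    rw [E_smul_left Q he hz', smul_smul, mul_inv_cancel₀ hk, one_smul]

section fin

variable [Finite F] [FiniteDimensional F V]
variable (hQ : (QuadraticMap.polarBilin Q).Nondegenerate) (hdim : 5 ≤ finrank F V)
include hQ hdim

namespace SemiAut

variable {φ : 𝔾 ≃* 𝔾} {τ : F →+* F} {Φ : V → V} {c : F} (hT : SemiAut mk φ τ Φ c)
include hT

omit hQ hdim in
lemma injective : Function.Injective Φ := by
  have : Finite V := Module.finite_of_finite F
  exact Finite.injective_iff_surjective.mpr hT.surj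

omit hQ hdim in
lemma τ_surj : Function.Surjective τ := Finite.injective_iff_surjective.mp τ.injective

lemma rad_mapsTo {e : V} (he : Q e = 0) : ∀ t ∈ radSet mk e, φ t ∈ radSet mk (Φ e) := by
  rintro _ ⟨z, hz, rfl⟩
  obtain ⟨h1, h2, h3⟩ := hT.E_image hQ hdim he hz
  rw [h3]
  exact ⟨_, h2, rfl⟩

lemma root_mapsTo : ∀ t, IsRoot mk t → IsRoot mk (φ t) := by
  rintro _ ⟨u, s, ⟨hu, hs, hus, hu0, hsu⟩, a, rfl⟩
  have hus' : P u (a • s) = 0 := by rw [QuadraticMap.polar_smul_right, hus, smul_zero]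
  obtain ⟨h1, h2, h3⟩ := hT.E_image hQ hdim hu hus'
  refine ⟨Φ u, Φ s, ⟨h1, ?_, ?_, ?_, ?_⟩, c⁻¹ * τ a, ?_⟩
  · rw [hT.form, hs, _root_.map_zero, mul_zero]
  · rw [hT.polar, hus, _root_.map_zero, mul_zero]
  · intro h0
    apply hu0
    apply hT.injective
    rw [h0, hT.map_zero]
  · intro hmem
    obtain ⟨k, hk⟩ := Submodule.mem_span_singleton.mp hmem
    obtain ⟨k', rfl⟩ := hT.τ_surj k
    rw [← hT.smul] at hk
    apply hsu
    rw [← hT.injective hk]
    exact Submodule.smul_mem _ _ (Submodule.mem_span_singleton_self u)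
  · rw [h3, hT.smul, smul_smul]

/-- A semisimilarity scaling `e` and `f` induces a normalised automorphism, and its induced
map on `W` is `w ↦ (a₀ c⁻¹) • Φ w`. -/
lemma norm_isInd {e f : V} (h : HypPair Q e f) {a₀ d₀ : F} (ha₀ : a₀ ≠ 0) (hd₀ : d₀ ≠ 0)
    (hΦe : Φ e = a₀ • e) (hΦf : Φ f = d₀ • f) :
    Norm mk e f φ ∧ IsInd mk e f φ (fun w => (a₀ * c⁻¹) • Φ w) := by
  have hΦW : ∀ w ∈ Wp Q e f, Φ w ∈ Wp Q e f := by
    intro w hw
    obtain ⟨hwe, hwf⟩ := mem_Wp.mp hw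
    refine mem_Wp.mpr ⟨?_, ?_⟩
    · have := hT.polar w e
      rw [hΦe, QuadraticMap.polar_smul_right, hwe, _root_.map_zero, mul_zero, smul_eq_mul] at this
      exact (mul_eq_zero.mp this).resolve_left ha₀
    · have := hT.polar w f
      rw [hΦf, QuadraticMap.polar_smul_right, hwf, _root_.map_zero, mul_zero, smul_eq_mul] at this
      exact (mul_eq_zero.mp this).resolve_left hd₀
  refine ⟨⟨?_, ?_, hT.root_mapsTo hQ hdim⟩, ?_⟩
  · intro t ht
    have := hT.rad_mapsTo hQ hdim h.ee t ht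
    rwa [hΦe, radSet_smul h.ee ha₀] at this
  · intro t ht
    have := hT.rad_mapsTo hQ hdim h.ff t ht
    rwa [hΦf, radSet_smul h.ff hd₀] at this
  · intro w hw
    have hmem : (a₀ * c⁻¹) • Φ w ∈ Wp Q e f := (Wp Q e f).smul_mem _ (hΦW w hw)
    refine ⟨hmem, ?_⟩
    obtain ⟨h1, h2, h3⟩ := hT.E_image hQ hdim h.ee (polar_e_of_mem h hw)
    have h4 : P e (c⁻¹ • Φ w) = 0 :=
      polar_e_of_mem h ((Wp Q e f).smul_mem _ (hΦW w hw))
    rw [h3, hΦe, E_smul_left Q h.ee h4, smul_smul]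

end SemiAut

end fin

end Cfsg.Agent.Lib.Helper14_OrthLocal5
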