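import Mathlib
import Cfsg.Agent.Lib.Helper14_OrthLocal5

/-!
# Orthogonal groups, local analysis 6: transitivity on pairs, intersections of radicals (helper14)
-/

set_option autoImplicit false
set_option linter.unusedSectionVars false
set_option linter.unusedVariables false

namespace Cfsg.Agent.Lib.Helper14_OrthLocal6

open Module Cfsg.Agent.Lib.Helper14_OmegaSimple Cfsg.Agent.Lib.Helper14_OrthAut
  Cfsg.Agent.Lib.Helper94_OrthSmall Cfsg.Agent.Lib.Helper44_QuadClass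
  Cfsg.Agent.Lib.Helper94_Symp Cfsg.Agent.Lib.Helper14_OrthLocal1
  Cfsg.Agent.Lib.Helper14_OrthLocal2 Cfsg.Agent.Lib.Helper14_OrthLocal3
  Cfsg.Agent.Lib.Helper14_OrthLocal4 Cfsg.Agent.Lib.Helper14_OrthLocal5

variable {F V : Type*} [Field F] [AddCommGroup V] [Module F V]
variable {Q : QuadraticForm F V} {𝔾 : Type*} [Group 𝔾] {mk : ↥(T Q) →* 𝔾}

set_option quotPrecheck false in
local notation "P" => QuadraticMap.polar (⇑Q)

/-- `E(u, s) = E(s, -u)` on a totally singular pair. -/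
lemma E_swap {u s : V} (hu : Q u = 0) (hs : Q s = 0) (hus : P u s = 0) :
    E Q u s = E Q s (-u) := by
  have hsu : P s (-u) = 0 := by
    rw [QuadraticMap.polar_neg_right, QuadraticMap.polar_comm, hus, neg_zero]
  ext x
  rw [E_apply Q hu hus, E_apply Q hs hsu, hs, QuadraticMap.polar_neg_right,
    QuadraticMap.map_neg, hu]
  module

section fin

variable [Finite F] [FiniteDimensional F V]
variable (hQ : (QuadraticMap.polarBilin Q).Nondegenerate) (hdim : 5 ≤ finrank F V)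
include hQ hdim

/-- A singular vector with `P f₂ e = 1` is `E(e, w) f`. -/
lemma exists_E_map_f {e f : V} (h : HypPair Q e f) {f₂ : V} (hf₂ : Q f₂ = 0)
    (hef₂ : P f₂ e = 1) : ∃ w ∈ Wp Q e f, E Q e w f = f₂ := by
  obtain ⟨w, hw⟩ : ∃ w, w = f₂ - P f₂ f • e - P f₂ e • f := ⟨_, rfl⟩
  have hwm : w ∈ Wp Q e f := hw ▸ h.comp_mem f₂
  refine ⟨w, hwm, ?_⟩
  have hdec : f₂ = P f₂ f • e + (1 : F) • f + w := by
    rw [hw, hef₂]; abel
  have hQ2 := h.Q_decomp (P f₂ f) 1 hwm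
  rw [← hdec, hf₂, mul_one] at hQ2
  rw [E_f h hwm]
  have : Q w = -P f₂ f := by linear_combination -hQ2
  rw [this]
  conv_rhs => rw [hdec]
  module

/-- `T` is transitive on pairs of non-orthogonal singular points. -/
theorem exists_T_map_pair {e f : V} (h : HypPair Q e f) {e' f' : V} (he' : Q e' = 0)
    (hf' : Q f' = 0) (hne : P e' f' ≠ 0) :
    ∃ g ∈ T Q, ∃ k k' : F, k ≠ 0 ∧ k' ≠ 0 ∧ g e' = k • e ∧ g f' = k' • f := by
  have he'0 : e' ≠ 0 := by
    rintro rfl
    apply hne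
    simp [QuadraticMap.polar]
  obtain ⟨g₁, hg₁, c, hc0, hg₁e⟩ := exists_mem_T_map Q hQ hdim he'0 he' h.e_ne h.ee
  have hg₁O := T_le_oG Q hg₁
  obtain ⟨d, hd⟩ : ∃ d, d = P (g₁ f') e := ⟨_, rfl⟩
  have hd0 : d ≠ 0 := by
    have h1 := oG_polar Q hg₁O f' e'
    rw [hg₁e, QuadraticMap.polar_smul_right, ← hd, smul_eq_mul,
      QuadraticMap.polar_comm (⇑Q) f' e'] at h1
    intro h0
    rw [h0, mul_zero] at h1
    exact hne h1.symm
  have hf₂ : Q (d⁻¹ • g₁ f') = 0 := by
    rw [hQs, hg₁O f', hf', mul_zero]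
  have hef₂ : P (d⁻¹ • g₁ f') e = 1 := by
    rw [QuadraticMap.polar_smul_left, ← hd, smul_eq_mul, inv_mul_cancel₀ hd0]
  obtain ⟨w, hw, hEw⟩ := exists_E_map_f hQ hdim h hf₂ hef₂
  have hE := E_mem_T' h hQ hdim hw
  refine ⟨(E Q e w)⁻¹ * g₁, (T Q).mul_mem ((T Q).inv_mem hE) hg₁, c, d, hc0, hd0, ?_, ?_⟩
  · rw [LinearEquiv.mul_apply, hg₁e, map_smul]
    have := inv_apply_apply' (E Q e w) e
    rw [E_e h hw] at this
    rw [this]
  · rw [LinearEquiv.mul_apply]
    have h1 : g₁ f' = d • (d⁻¹ • g₁ f') := by rw [smul_smul, mul_inv_cancel₀ hd0, one_smul]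
    rw [h1, map_smul, ← hEw, inv_apply_apply']

/-- Radicals of the two points of a hyperbolic pair meet trivially. -/
lemma rad_inter_trivial (hk : KerScalar mk) {e f : V} (h : HypPair Q e f) {t : 𝔾}
    (hte : t ∈ radSet mk e) (htf : t ∈ radSet mk f) : t = 1 := by
  obtain ⟨w, hw, rfl⟩ := (mem_radSet_iff h _).mp hte
  obtain ⟨w', hw', heq⟩ := (mem_radSet_iff h.symm _).mp htf
  have hw'' : w' ∈ Wp Q e f := h.Wp_symm ▸ hw'
  have hE := E_mem_T' h hQ hdim hw
  have hE' := E_mem_T' h.symm hQ hdim hw'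
  obtain ⟨l, hl⟩ := (mkT_eq_iff hk hE hE').mp heq
  obtain ⟨x₀, hx₀, h1, h2, h3, h4⟩ := exists_ne_zero_orth4 hQ hdim e w f w'
  have hl1 : l = 1 := by
    have := hl x₀
    rw [E_apply Q h.ff (polar_e_of_mem h.symm hw'), E_apply Q h.ee (polar_e_of_mem h hw), h1, h2,
      h3, h4] at this
    simp only [zero_smul, mul_zero, add_zero, sub_zero] at this
    have h5 : (1 - l) • x₀ = 0 := by rw [sub_smul, one_smul, ← this, sub_self]
    rcases smul_eq_zero.mp h5 with h6 | h6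
    · exact (sub_eq_zero.mp h6).symm
    · exact absurd h6 hx₀
  have h5 := hl e
  rw [hl1, one_smul, E_e h hw, E_f h.symm hw'] at h5
  have h6 : w' = Q w' • f := by linear_combination (norm := module) h5
  have h7 := (mem_Wp.mp hw'').1
  rw [h6, QuadraticMap.polar_smul_left, h.fe, smul_eq_mul, mul_one] at h7
  rw [h7, zero_smul] at h6
  have h8 := hl f
  rw [hl1, one_smul, h6, E_zero_right Q h.ff, E_f h hw] at h8
  have h9 : w = Q w • e := by
    have : (1 : V ≃ₗ[F] V) f = f := rfl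
    rw [this] at h8
    linear_combination (norm := module) -h8
  have h10 := (mem_Wp.mp hw).2
  rw [h9, QuadraticMap.polar_smul_left, h.ef, smul_eq_mul, mul_one] at h10
  rw [h10, zero_smul] at h9
  rw [h9, E_zero_right Q h.ee, mkT_one]

/-- Non-trivial elements of the radical. -/
lemma mkT_E_ne_one (hk : KerScalar mk) {e f : V} (h : HypPair Q e f) {w : V}
    (hw : w ∈ Wp Q e f) (hw0 : w ≠ 0) : mkT Q mk (E Q e w) ≠ 1 := by
  intro h1
  apply hw0
  have h0 : (0 : V) ∈ Wp Q e f := (Wp Q e f).zero_mem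
  apply mkT_E_inj h hQ hdim hk hw h0
  rw [h1, E_zero_right Q h.ee, mkT_one]

/-- Radicals of two orthogonal singular points meet non-trivially. -/
lemma rad_inter_nontrivial (hk : KerScalar mk) {e' f' : V} (he'0 : e' ≠ 0) (hf'0 : f' ≠ 0)
    (he' : Q e' = 0) (hf' : Q f' = 0) (hperp : P e' f' = 0) :
    ∃ t, t ∈ radSet mk e' ∧ t ∈ radSet mk f' ∧ t ≠ 1 := by
  by_cases hdep : f' ∈ Submodule.span F {e'}
  · obtain ⟨k, rfl⟩ := Submodule.mem_span_singleton.mp hdep
    have hk0 : k ≠ 0 := by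
      rintro rfl
      exact hf'0 (zero_smul _ _)
    obtain ⟨f₁, hf₁, hef₁⟩ := exists_hyperbolic_partner Q hQ he'0 he'
    have h : HypPair Q e' f₁ := ⟨he', hf₁, hef₁⟩
    obtain ⟨w₀, hw₀, hw₀0⟩ := exists_ne_zero_mem_Wp hQ hdim h
    refine ⟨mkT Q mk (E Q e' w₀), ⟨w₀, polar_e_of_mem h hw₀, rfl⟩, ?_,
      mkT_E_ne_one hQ hdim hk h hw₀ hw₀0⟩
    rw [radSet_smul he' hk0]
    exact ⟨w₀, polar_e_of_mem h hw₀, rfl⟩
  · refine ⟨mkT Q mk (E Q e' f'), ⟨f', hperp, rfl⟩, ?_, ?_⟩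
    · rw [E_swap he' hf' hperp]
      exact ⟨-e', by rw [QuadraticMap.polar_neg_right, QuadraticMap.polar_comm, hperp, neg_zero],
        rfl⟩
    · intro h1
      have hmem : E Q e' f' ∈ T Q := E_mem_T Q hQ hdim he' hperp
      obtain ⟨l, hl⟩ := (mkT_eq_one_iff hk hmem).mp h1
      have hdep' : e' ∉ Submodule.span F {f'} := by
        intro hm
        obtain ⟨k, hk'⟩ := Submodule.mem_span_singleton.mp hm
        have hk0 : k ≠ 0 := by
          rintro rfl
          exact he'0 (by rw [← hk', zero_smul])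
        apply hdep
        rw [Submodule.mem_span_singleton]
        exact ⟨k⁻¹, by rw [← hk', smul_smul, inv_mul_cancel₀ hk0, one_smul]⟩
      obtain ⟨x, hxf, hxe⟩ := exists_orth_polar_one hQ hdep'
      have h2 := hl x
      rw [E_apply Q he' hperp, hxe, hxf, hf'] at h2
      simp only [one_smul, zero_smul, zero_mul, sub_zero] at h2
      have h3 : f' = (l - 1) • x := by
        rw [sub_smul, one_smul, ← h2]; abel
      have h4 : P f' e' = (l - 1) := by
        rw [h3, QuadraticMap.polar_smul_left, hxe, smul_eq_mul, mul_one]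
      rw [QuadraticMap.polar_comm, hperp] at h4
      rw [← h4, zero_smul] at h3
      exact hf'0 h3

end fin

end Cfsg.Agent.Lib.Helper14_OrthLocal6
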