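import Mathlib
import Cfsg.Agent.Lib.Helper14_OrthLocal6

/-!
# Orthogonal groups, local analysis 7: extending a similitude of `W` to `V` (helper14)
-/

set_option autoImplicit false
set_option linter.unusedSectionVars false
set_option linter.unusedVariables false

namespace Cfsg.Agent.Lib.Helper14_OrthLocal7

open Module Cfsg.Agent.Lib.Helper14_OmegaSimple Cfsg.Agent.Lib.Helper14_OrthAut
  Cfsg.Agent.Lib.Helper94_OrthSmall Cfsg.Agent.Lib.Helper44_QuadClass
  Cfsg.Agent.Lib.Helper94_Symp Cfsg.Agent.Lib.Helper14_OrthLocal1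
  Cfsg.Agent.Lib.Helper14_OrthLocal2 Cfsg.Agent.Lib.Helper14_OrthLocal3
  Cfsg.Agent.Lib.Helper14_OrthLocal4 Cfsg.Agent.Lib.Helper14_OrthLocal5
  Cfsg.Agent.Lib.Helper14_OrthLocal6

variable {F V : Type*} [Field F] [AddCommGroup V] [Module F V]
variable {Q : QuadraticForm F V}

set_option quotPrecheck false in
local notation "P" => QuadraticMap.polar (⇑Q)

/-- A linear similitude of `W` extends to a similitude of `V` with `e ↦ c e`, `f ↦ f`. -/
theorem exists_levi_of_similitude [FiniteDimensional F V]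
    (hQ : (QuadraticMap.polarBilin Q).Nondegenerate) {e f : V} (h : HypPair Q e f)
    {A : V → V} (hAm : ∀ w ∈ Wp Q e f, A w ∈ Wp Q e f)
    (hadd : ∀ w ∈ Wp Q e f, ∀ w' ∈ Wp Q e f, A (w + w') = A w + A w')
    (hlin : ∀ (a : F), ∀ w ∈ Wp Q e f, A (a • w) = a • A w) {c : F} (hc : c ≠ 0)
    (hsim : ∀ w ∈ Wp Q e f, Q (A w) = c * Q w) :
    ∃ d : V ≃ₗ[F] V, (∀ x, Q (d x) = c * Q x) ∧ d e = c • e ∧ d f = f ∧
      ∀ w ∈ Wp Q e f, d w = A w := by
  obtain ⟨pr, hpr⟩ : ∃ pr : V → V, pr = fun x => x - P x f • e - P x e • f := ⟨_, rfl⟩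
  have hprm : ∀ x, pr x ∈ Wp Q e f := fun x => by rw [hpr]; exact h.comp_mem x
  have hpradd : ∀ x y, pr (x + y) = pr x + pr y := by
    intro x y
    simp only [hpr, QuadraticMap.polar_add_left]
    module
  have hprsmul : ∀ (a : F) x, pr (a • x) = a • pr x := by
    intro a x
    simp only [hpr, QuadraticMap.polar_smul_left, smul_eq_mul]
    module
  have hA0 : A 0 = 0 := by
    have := hadd 0 (Wp Q e f).zero_mem 0 (Wp Q e f).zero_mem
    rw [add_zero] at this
    exact left_eq_add.mp this
  let D : V →ₗ[F] V :=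
    { toFun := fun x => (c * P x f) • e + P x e • f + A (pr x)
      map_add' := by
        intro x y
        simp only [QuadraticMap.polar_add_left, hpradd, hadd _ (hprm x) _ (hprm y)]
        module
      map_smul' := by
        intro a x
        simp only [QuadraticMap.polar_smul_left, hprsmul, hlin a _ (hprm x), smul_eq_mul,
          RingHom.id_apply]
        module }
  have hD : ∀ x, D x = (c * P x f) • e + P x e • f + A (pr x) := fun x => rfl
  have hQD : ∀ x, Q (D x) = c * Q x := by
    intro x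
    rw [hD, h.Q_decomp _ _ (hAm _ (hprm x)), hsim _ (hprm x)]
    have hx : x = P x f • e + P x e • f + pr x := by rw [hpr]; module
    have h2 := h.Q_decomp (P x f) (P x e) (hprm x)
    rw [← hx] at h2
    rw [h2]; ring
  have hPD : ∀ x y, P (D x) (D y) = c * P x y := by
    intro x y
    rw [QuadraticMap.polar, QuadraticMap.polar, ← map_add, hQD, hQD, hQD]
    ring
  have hinj : Function.Injective D := by
    rw [injective_iff_map_eq_zero]
    intro x hx
    apply hQ.1 x
    intro y
    rw [QuadraticMap.polarBilin_apply_apply]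
    have := hPD x y
    rw [hx] at this
    have h0 : P (0 : V) (D y) = 0 := by simp [QuadraticMap.polar]
    rw [h0] at this
    exact (mul_eq_zero.mp this.symm).resolve_left hc
  refine ⟨LinearEquiv.ofInjectiveEndo D hinj, ?_, ?_, ?_, ?_⟩
  · intro x
    rw [LinearEquiv.coe_ofInjectiveEndo]
    exact hQD x
  · rw [LinearEquiv.coe_ofInjectiveEndo, hD, h.pee, h.ef]
    have : pr e = 0 := by rw [hpr]; simp only [h.pee, h.ef]; module
    rw [this, hA0]
    module
  · rw [LinearEquiv.coe_ofInjectiveEndo, hD, h.pff, h.fe]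
    have : pr f = 0 := by rw [hpr]; simp only [h.pff, h.fe]; module
    rw [this, hA0]
    module
  · intro w hw
    obtain ⟨hwe, hwf⟩ := mem_Wp.mp hw
    rw [LinearEquiv.coe_ofInjectiveEndo, hD, hwe, hwf]
    have : pr w = w := by rw [hpr]; simp only [hwe, hwf]; module
    rw [this]
    module

end Cfsg.Agent.Lib.Helper14_OrthLocal7
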