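import Mathlib
import Cfsg.Agent.Lib.Helper14_OrthLocal7

/-!
# Orthogonal groups, local analysis 8: root elements in the radical, commuting root elements (helper14)
-/

set_option autoImplicit false
set_option linter.unusedSectionVars false
set_option linter.unusedVariables false

namespace Cfsg.Agent.Lib.Helper14_OrthLocal8

open Module Cfsg.Agent.Lib.Helper14_OmegaSimple Cfsg.Agent.Lib.Helper14_OrthAut
  Cfsg.Agent.Lib.Helper94_OrthSmall Cfsg.Agent.Lib.Helper44_QuadClass
  Cfsg.Agent.Lib.Helper94_Symp Cfsg.Agent.Lib.Helper14_OrthLocal1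
  Cfsg.Agent.Lib.Helper14_OrthLocal2 Cfsg.Agent.Lib.Helper14_OrthLocal3
  Cfsg.Agent.Lib.Helper14_OrthLocal4 Cfsg.Agent.Lib.Helper14_OrthLocal5
  Cfsg.Agent.Lib.Helper14_OrthLocal6

variable {F V : Type*} [Field F] [AddCommGroup V] [Module F V]
variable {Q : QuadraticForm F V} {𝔾 : Type*} [Group 𝔾] {mk : ↥(T Q) →* 𝔾}

set_option quotPrecheck false in
local notation "P" => QuadraticMap.polar (⇑Q)

section fin

variable [Finite F] [FiniteDimensional F V]
variable (hQ : (QuadraticMap.polarBilin Q).Nondegenerate) (hdim : 5 ≤ finrank F V)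
include hQ hdim

/-- Siegel elements with the same image under `mk` are equal. -/
lemma E_eq_of_mkT_eq (hk : KerScalar mk) {u z u' z' : V} (hu : Q u = 0) (huz : P u z = 0)
    (hu' : Q u' = 0) (huz' : P u' z' = 0)
    (heq : mkT Q mk (E Q u z) = mkT Q mk (E Q u' z')) : ∀ x, E Q u' z' x = E Q u z x := by
  obtain ⟨l, hl⟩ := (mkT_eq_iff hk (E_mem_T Q hQ hdim hu huz) (E_mem_T Q hQ hdim hu' huz')).mp heq
  obtain ⟨x₀, hx₀, h1, h2, h3, h4⟩ := exists_ne_zero_orth4 hQ hdim u z u' z'
  have hl1 : l = 1 := by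
    have := hl x₀
    rw [E_apply Q hu' huz', E_apply Q hu huz, h1, h2, h3, h4] at this
    simp only [zero_smul, mul_zero, add_zero, sub_zero] at this
    have h5 : (1 - l) • x₀ = 0 := by rw [sub_smul, one_smul, ← this, sub_self]
    rcases smul_eq_zero.mp h5 with h6 | h6
    · exact (sub_eq_zero.mp h6).symm
    · exact absurd h6 hx₀
  intro x
  rw [hl x, hl1, one_smul]

omit [Finite F] [FiniteDimensional F V] hQ hdim in
/-- A vector of `W` is not a multiple of `e` unless it vanishes. -/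
lemma not_mem_span_e {e f : V} (h : HypPair Q e f) {w : V} (hw : w ∈ Wp Q e f) (hw0 : w ≠ 0) :
    w ∉ Submodule.span F {e} := by
  intro hm
  obtain ⟨k, rfl⟩ := Submodule.mem_span_singleton.mp hm
  have := (mem_Wp.mp hw).2
  rw [QuadraticMap.polar_smul_left, h.ef, smul_eq_mul, mul_one] at this
  rw [this, zero_smul] at hw0
  exact hw0 rfl

omit [Finite F] [FiniteDimensional F V] hQ hdim in
/-- Singular vectors of `W` give root elements. -/
lemma isRoot_E {e f : V} (h : HypPair Q e f) {w : V} (hw : w ∈ Wp Q e f) (hw0 : w ≠ 0)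
    (hQw : Q w = 0) : IsRoot mk (mkT Q mk (E Q e w)) :=
  ⟨e, w, ⟨h.ee, hQw, polar_e_of_mem h hw, h.e_ne, not_mem_span_e h hw hw0⟩, 1,
    by rw [one_smul]⟩

/-- Root elements in the radical come from singular vectors. -/
lemma Q_eq_zero_of_isRoot (hk : KerScalar mk) {e f : V} (h : HypPair Q e f) {w : V}
    (hw : w ∈ Wp Q e f) (hr : IsRoot mk (mkT Q mk (E Q e w))) : Q w = 0 := by
  obtain ⟨u, s, ⟨hu, hs, hus, hu0, hsu⟩, a, heq⟩ := hr
  have hus' : P u (a • s) = 0 := by rw [QuadraticMap.polar_smul_right, hus, smul_zero]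
  have hE := E_eq_of_mkT_eq hQ hdim hk h.ee (polar_e_of_mem h hw) hu hus' heq
  have h1 := hE f
  rw [E_f h hw, E_apply Q hu hus', hQs, hs, mul_zero, zero_mul, zero_smul, sub_zero] at h1
  have h2 : w - Q w • e = P f u • (a • s) - P f (a • s) • u := by
    linear_combination (norm := module) -h1
  have h3 : Q (w - Q w • e) = Q w := by
    rw [Helper14_OmegaSimple.map_sub', hQs, h.ee, QuadraticMap.polar_smul_right, (mem_Wp.mp hw).1]
    simp
  have h4 : Q (P f u • (a • s) - P f (a • s) • u) = 0 := by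
    rw [Helper14_OmegaSimple.map_sub', hQs, hQs, hQs, hs, hu]
    simp only [QuadraticMap.polar_smul_left, QuadraticMap.polar_smul_right,
      QuadraticMap.polar_comm (⇑Q) s u, hus]
    simp
  rw [← h3, h2, h4]

/-- A vector of `W` pairing to one with a given non-zero vector of `W`. -/
lemma exists_polar_one_Wp {e f : V} (h : HypPair Q e f) {w : V} (hw : w ∈ Wp Q e f)
    (hw0 : w ≠ 0) : ∃ x ∈ Wp Q e f, P x w = 1 := by
  have hex : ∃ x₁, P x₁ w ≠ 0 := by
    by_contra h0
    push Not at h0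
    exact hw0 (hQ.2 w (fun x => by rw [QuadraticMap.polarBilin_apply_apply]; exact h0 x))
  obtain ⟨x₁, hx₁⟩ := hex
  refine ⟨(P x₁ w)⁻¹ • (x₁ - P x₁ f • e - P x₁ e • f),
    (Wp Q e f).smul_mem _ (h.comp_mem x₁), ?_⟩
  rw [QuadraticMap.polar_smul_left, QuadraticMap.polar_sub_left, QuadraticMap.polar_sub_left,
    QuadraticMap.polar_smul_left, QuadraticMap.polar_smul_left, polar_e_of_mem h hw,
    polar_f_of_mem h hw, smul_zero, smul_zero, sub_zero, sub_zero, smul_eq_mul,
    inv_mul_cancel₀ hx₁]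

/-- A singular vector of `W` has a singular partner in `W`. -/
lemma exists_partner_Wp {e f : V} (h : HypPair Q e f) {w : V} (hw : w ∈ Wp Q e f)
    (hw0 : w ≠ 0) (hQw : Q w = 0) : ∃ x ∈ Wp Q e f, Q x = 0 ∧ P x w = 1 := by
  obtain ⟨x, hx, hxw⟩ := exists_polar_one_Wp hQ hdim h hw hw0
  refine ⟨x - Q x • w, (Wp Q e f).sub_mem hx ((Wp Q e f).smul_mem _ hw), ?_, ?_⟩
  · rw [Helper14_OmegaSimple.map_sub', hQs, hQw, QuadraticMap.polar_smul_right, hxw]
    simp
  · rw [QuadraticMap.polar_sub_left, QuadraticMap.polar_smul_left, polar_self', hQw, hxw]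
    simp

/-- If `E(e, w)` and `E(f, y)` commute modulo scalars (`w`, `y` singular in `W`, `w ≠ 0`), then
`y` is a multiple of `w`. -/
lemma span_of_commute (hk : KerScalar mk) {e f : V} (h : HypPair Q e f) {w y : V}
    (hw : w ∈ Wp Q e f) (hy : y ∈ Wp Q e f) (hQw : Q w = 0) (hQy : Q y = 0) (hw0 : w ≠ 0)
    (hcomm : mkT Q mk (E Q e w) * mkT Q mk (E Q f y) = mkT Q mk (E Q f y) * mkT Q mk (E Q e w)) :
    ∃ k : F, y = k • w := by
  have hy' : y ∈ Wp Q f e := h.Wp_symm.symm ▸ hy
  have hEw := E_mem_T' h hQ hdim hw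
  have hEy := E_mem_T' h.symm hQ hdim hy'
  have hfy := polar_e_of_mem h.symm hy'
  have hconj : E Q e w * E Q f y * (E Q e w)⁻¹ = E Q (f + w) (y - P y w • e) := by
    rw [conj_E Q (T_le_oG Q hEw) h.ff hfy, E_f h hw, E_w h hw hy, hQw, zero_smul, sub_zero]
  have h1 : mkT Q mk (E Q (f + w) (y - P y w • e)) = mkT Q mk (E Q f y) := by
    rw [← hconj, mkT_mul mk ((T Q).mul_mem hEw hEy) ((T Q).inv_mem hEw), mkT_mul mk hEw hEy,
      mkT_inv mk hEw, hcomm, mul_inv_cancel_right]
  have hu : Q (f + w) = 0 := by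
    rw [hQp, QuadraticMap.polarBilin_apply_apply, h.ff, hQw, polar_f_of_mem h hw]; ring
  have huz : P (f + w) (y - P y w • e) = 0 := by
    rw [QuadraticMap.polar_add_left, QuadraticMap.polar_sub_right, QuadraticMap.polar_sub_right,
      QuadraticMap.polar_smul_right, QuadraticMap.polar_smul_right, polar_f_of_mem h hy, h.fe,
      QuadraticMap.polar_comm (⇑Q) w y, (mem_Wp.mp hw).1]
    simp
  have hE := E_eq_of_mkT_eq hQ hdim hk hu huz h.ff hfy h1
  -- test vector `e`
  have hQz : Q (y - P y w • e) = 0 := by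
    rw [Helper14_OmegaSimple.map_sub', hQs, h.ee, hQy, QuadraticMap.polar_smul_right, (mem_Wp.mp hy).1]
    simp
  have hpyw : P y w = 0 := by
    have h2 := hE e
    rw [E_f h.symm hy', hQy, zero_smul, sub_zero, E_apply Q hu huz, hQz, zero_mul, zero_smul,
      sub_zero, QuadraticMap.polar_add_right, h.ef, polar_e_of_mem h hw,
      QuadraticMap.polar_sub_right, QuadraticMap.polar_smul_right, h.pee, polar_e_of_mem h hy] at h2
    simp only [add_zero, one_smul, smul_zero, sub_zero, zero_smul] at h2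
    have h3 : P y w • e = 0 := by linear_combination (norm := module) h2
    rcases smul_eq_zero.mp h3 with h4 | h4
    · exact h4
    · exact absurd h4 h.e_ne
  -- test vector `x ∈ W` with `P x w = 1`
  obtain ⟨x, hx, hxw⟩ := exists_polar_one_Wp hQ hdim h hw hw0
  have hx' : x ∈ Wp Q f e := h.Wp_symm.symm ▸ hx
  have h2 := hE x
  rw [E_w h.symm hy' hx', E_apply Q hu huz, hQz, zero_mul, zero_smul, sub_zero, hpyw, zero_smul,
    sub_zero, QuadraticMap.polar_add_right, (mem_Wp.mp hx).2, hxw] at h2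
  refine ⟨P x y, ?_⟩
  linear_combination (norm := module) -h2

end fin

end Cfsg.Agent.Lib.Helper14_OrthLocal8
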