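import Mathlib
import Cfsg.Agent.Lib.Helper14_OrthLocal8

/-!
# Orthogonal groups, local analysis 9: the `SL₂`-relation (helper14)
-/

set_option autoImplicit false
set_option linter.unusedSectionVars false
set_option linter.unusedVariables false

namespace Cfsg.Agent.Lib.Helper14_OrthLocal9

open Module Cfsg.Agent.Lib.Helper14_OmegaSimple Cfsg.Agent.Lib.Helper14_OrthAut
  Cfsg.Agent.Lib.Helper94_OrthSmall Cfsg.Agent.Lib.Helper44_QuadClass
  Cfsg.Agent.Lib.Helper94_Symp Cfsg.Agent.Lib.Helper14_OrthLocal1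
  Cfsg.Agent.Lib.Helper14_OrthLocal2 Cfsg.Agent.Lib.Helper14_OrthLocal3
  Cfsg.Agent.Lib.Helper14_OrthLocal4 Cfsg.Agent.Lib.Helper14_OrthLocal5
  Cfsg.Agent.Lib.Helper14_OrthLocal6 Cfsg.Agent.Lib.Helper14_OrthLocal8

variable {F V : Type*} [Field F] [AddCommGroup V] [Module F V]
variable {Q : QuadraticForm F V} {𝔾 : Type*} [Group 𝔾] {mk : ↥(T Q) →* 𝔾}

set_option quotPrecheck false in
local notation "P" => QuadraticMap.polar (⇑Q)

/-- The configuration of two orthogonal hyperbolic pairs `(e, f)`, `(w, wm)`. -/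
structure Quad (Q : QuadraticForm F V) (e f w wm : V) : Prop where
  h : HypPair Q e f
  hw : w ∈ Wp Q e f
  hwm : wm ∈ Wp Q e f
  qw : Q w = 0
  qwm : Q wm = 0
  pw : QuadraticMap.polar (⇑Q) w wm = 1

namespace Quad

variable {e f w wm : V} (q : Quad Q e f w wm)
include q

lemma smul_w (t : F) : t • w ∈ Wp Q e f := (Wp Q e f).smul_mem t q.hw

lemma smul_wm (s : F) : s • wm ∈ Wp Q f e := q.h.Wp_symm.symm ▸ (Wp Q e f).smul_mem s q.hwm

/-- The product `E(e, t w) E(f, s wm) E(e, t w)`. -/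
noncomputable def g (q : Quad Q e f w wm) (s t : F) : V ≃ₗ[F] V :=
  E Q e (t • w) * E Q f (s • wm) * E Q e (t • w)

lemma g_e (s t : F) : q.g s t e = (1 - s * t) • e + s • wm := by
  have hpww : P wm w = 1 := by rw [QuadraticMap.polar_comm, q.pw]
  rw [g, LinearEquiv.mul_apply, LinearEquiv.mul_apply, E_e q.h (q.smul_w t),
    E_f q.h.symm (q.smul_wm s), hQs, q.qwm, mul_zero, zero_smul, sub_zero, map_add,
    E_e q.h (q.smul_w t), map_smul, E_w q.h (q.smul_w t) q.hwm, QuadraticMap.polar_smul_right,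
    hpww]
  simp only [smul_eq_mul, mul_one]
  module

lemma g_w (s t : F) : q.g s t w = (1 - s * t) • w - s • f := by
  have hpww : P w w = 0 := by rw [polar_self', q.qw, mul_zero]
  have hw' : w ∈ Wp Q f e := q.h.Wp_symm.symm ▸ q.hw
  rw [g, LinearEquiv.mul_apply, LinearEquiv.mul_apply, E_w q.h (q.smul_w t) q.hw,
    QuadraticMap.polar_smul_right, hpww, smul_zero, zero_smul, sub_zero,
    E_w q.h.symm (q.smul_wm s) hw', QuadraticMap.polar_smul_right, q.pw, map_sub, map_smul,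
    E_w q.h (q.smul_w t) q.hw, QuadraticMap.polar_smul_right, hpww, smul_zero, zero_smul, sub_zero,
    E_f q.h (q.smul_w t), hQs, q.qw, mul_zero, zero_smul, sub_zero]
  simp only [smul_eq_mul, mul_one]
  module

end Quad

section fin

variable [Finite F] [FiniteDimensional F V]
variable (hQ : (QuadraticMap.polarBilin Q).Nondegenerate) (hdim : 5 ≤ finrank F V)
include hQ hdim

namespace Quad

variable {e f w wm : V} (q : Quad Q e f w wm)
include q

lemma g_mem (s t : F) : q.g s t ∈ T Q :=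
  (T Q).mul_mem ((T Q).mul_mem (E_mem_T' q.h hQ hdim (q.smul_w t))
    (E_mem_T' q.h.symm hQ hdim (q.smul_wm s))) (E_mem_T' q.h hQ hdim (q.smul_w t))

/-- The conjugate of `E(e, w)` by `g s t` when `s t = 1`. -/
lemma conj_g {s t : F} (hst : s * t = 1) :
    q.g s t * E Q e w * (q.g s t)⁻¹ = E Q f ((s * s) • wm) := by
  have hgO := T_le_oG Q (q.g_mem hQ hdim s t)
  have hfwm : P f wm = 0 := polar_f_of_mem q.h q.hwm
  have h1 : P wm (s • -(s • f)) = 0 := by
    rw [QuadraticMap.polar_smul_right, QuadraticMap.polar_neg_right,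
      QuadraticMap.polar_smul_right, QuadraticMap.polar_comm (⇑Q) wm f, hfwm]
    simp
  have h2 : P f ((s * s) • wm) = 0 := by rw [QuadraticMap.polar_smul_right, hfwm, smul_zero]
  have h3 : Q ((s * s) • wm) = 0 := by rw [hQs, q.qwm, mul_zero]
  have h4 : P wm (-f) = 0 := by
    rw [QuadraticMap.polar_neg_right, QuadraticMap.polar_comm, hfwm, neg_zero]
  rw [conj_E Q hgO q.h.ee (polar_e_of_mem q.h q.hw), q.g_e, q.g_w, hst, sub_self, zero_smul,
    zero_smul, zero_add, zero_sub, E_smul_left Q q.qwm (by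
      rw [QuadraticMap.polar_neg_right, QuadraticMap.polar_smul_right,
        QuadraticMap.polar_comm (⇑Q) wm f, hfwm]; simp),
    E_swap q.h.ff h3 h2, E_smul_left Q q.qwm h4]
  congr 1
  module

/-- **The `SL₂`-relation.** -/
theorem sl2_rel (hk : KerScalar mk) {s s' t c : F} (hst : s * t = 1) (hs' : s' ≠ 0)
    {α : 𝔾 ≃* 𝔾} (hfix : ∀ x ∈ Wp Q e f, α (mkT Q mk (E Q e x)) = mkT Q mk (E Q e x))
    (h1 : α (mkT Q mk (E Q f (s • wm))) = mkT Q mk (E Q f (s' • wm)))
    (h2 : α (mkT Q mk (E Q f ((s * s) • wm))) = mkT Q mk (E Q f (c • wm))) : s' = s := by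
  have hEt := E_mem_T' q.h hQ hdim (q.smul_w t)
  have hEs := E_mem_T' q.h.symm hQ hdim (q.smul_wm s)
  have hEs' := E_mem_T' q.h.symm hQ hdim (q.smul_wm s')
  have hEw := E_mem_T' q.h hQ hdim q.hw
  have hg := q.g_mem hQ hdim s t
  have hg' := q.g_mem hQ hdim s' t
  have hgO' := T_le_oG Q hg'
  -- the image of `g s t`
  have hαg : α (mkT Q mk (q.g s t)) = mkT Q mk (q.g s' t) := by
    rw [Quad.g, Quad.g, mkT_mul mk ((T Q).mul_mem hEt hEs) hEt, mkT_mul mk hEt hEs, map_mul,
      map_mul, hfix _ (q.smul_w t), h1, ← mkT_mul mk hEt hEs',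
      ← mkT_mul mk ((T Q).mul_mem hEt hEs') hEt]
  have h3 : mkT Q mk (q.g s' t * E Q e w * (q.g s' t)⁻¹) = mkT Q mk (E Q f (c • wm)) := by
    rw [← h2, ← q.conj_g hQ hdim hst, mkT_mul mk ((T Q).mul_mem hg hEw) ((T Q).inv_mem hg),
      mkT_mul mk hg hEw, mkT_inv mk hg, map_mul, map_mul, map_inv, hαg, hfix _ q.hw,
      mkT_mul mk ((T Q).mul_mem hg' hEw) ((T Q).inv_mem hg'), mkT_mul mk hg' hEw, mkT_inv mk hg']
  rw [conj_E Q hgO' q.h.ee (polar_e_of_mem q.h q.hw)] at h3
  have hu : Q (q.g s' t e) = 0 := by rw [hgO' e, q.h.ee]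
  have huz : P (q.g s' t e) (q.g s' t w) = 0 := by
    rw [oG_polar Q hgO', polar_e_of_mem q.h q.hw]
  have hfc : P f (c • wm) = 0 := polar_e_of_mem q.h.symm (q.smul_wm c)
  have hE := E_eq_of_mkT_eq hQ hdim hk hu huz q.h.ff hfc h3
  have h4 := hE w
  have hw' : w ∈ Wp Q f e := q.h.Wp_symm.symm ▸ q.hw
  have hQgw : Q (q.g s' t w) = 0 := by rw [hgO' w, q.qw]
  have hpww : P w w = 0 := by rw [polar_self', q.qw, mul_zero]
  have hp1 : P w (q.g s' t e) = s' := by
    rw [q.g_e, QuadraticMap.polar_add_right, QuadraticMap.polar_smul_right,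
      QuadraticMap.polar_smul_right, (mem_Wp.mp q.hw).1, q.pw]
    simp
  have hp2 : P w (q.g s' t w) = 0 := by
    rw [q.g_w, QuadraticMap.polar_sub_right, QuadraticMap.polar_smul_right,
      QuadraticMap.polar_smul_right, hpww, (mem_Wp.mp q.hw).2]
    simp
  rw [E_w q.h.symm (q.smul_wm c) hw', QuadraticMap.polar_smul_right, q.pw, E_apply Q hu huz, hQgw,
    zero_mul, zero_smul, sub_zero, hp1, hp2, zero_smul, sub_zero, q.g_w] at h4
  simp only [smul_eq_mul, mul_one] at h4
  have h5 : (s' * (1 - s' * t)) • w = (s' * s' - c) • f := by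
    linear_combination (norm := module) -h4
  have h6 := congrArg (fun x => P x e) h5
  simp only [QuadraticMap.polar_smul_left, (mem_Wp.mp q.hw).1, q.h.fe, smul_eq_mul, mul_zero,
    mul_one] at h6
  rw [← h6, zero_smul] at h5
  have hw0 : w ≠ 0 := by
    rintro rfl
    have := q.pw
    simp [QuadraticMap.polar] at this
  rcases smul_eq_zero.mp h5 with h7 | h7
  · rcases mul_eq_zero.mp h7 with h8 | h8
    · exact absurd h8 hs'
    · have h9 : s' * t = 1 := by linear_combination -h8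
      calc s' = s' * (s * t) := by rw [hst, mul_one]
        _ = (s' * t) * s := by ring
        _ = s := by rw [h9, one_mul]
  · exact absurd h7 hw0

end Quad

end fin

end Cfsg.Agent.Lib.Helper14_OrthLocal9
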