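import Mathlib
import Cfsg.Agent.Lib.Helper14_OrthLocal9

/-!
# Orthogonal groups, local analysis 10: rigidity and generation (helper14)

* `fix_of_isInd_id` : a normalised automorphism fixing `R_e` pointwise fixes `R_f` pointwise;
* `eq_one_of_fix` : `R_e` and `R_f` generate, so such an automorphism is trivial.
-/

set_option autoImplicit false
set_option linter.unusedSectionVars false
set_option linter.unusedVariables false

namespace Cfsg.Agent.Lib.Helper14_OrthLocal10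

open Module Cfsg.Agent.Lib.Helper14_OmegaSimple Cfsg.Agent.Lib.Helper14_OrthAut
  Cfsg.Agent.Lib.Helper94_OrthSmall Cfsg.Agent.Lib.Helper44_QuadClass
  Cfsg.Agent.Lib.Helper94_Symp Cfsg.Agent.Lib.Helper14_OrthLocal1
  Cfsg.Agent.Lib.Helper14_OrthLocal2 Cfsg.Agent.Lib.Helper14_OrthLocal3
  Cfsg.Agent.Lib.Helper14_OrthLocal4 Cfsg.Agent.Lib.Helper14_OrthLocal5
  Cfsg.Agent.Lib.Helper14_OrthLocal6 Cfsg.Agent.Lib.Helper14_OrthLocal8
  Cfsg.Agent.Lib.Helper14_OrthLocal9

variable {F V : Type*} [Field F] [AddCommGroup V] [Module F V]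
variable {Q : QuadraticForm F V} {𝔾 : Type*} [Group 𝔾] {mk : ↥(T Q) →* 𝔾}

set_option quotPrecheck false in
local notation "P" => QuadraticMap.polar (⇑Q)

section fin

variable [Finite F] [FiniteDimensional F V]
variable (hQ : (QuadraticMap.polarBilin Q).Nondegenerate) (hdim : 5 ≤ finrank F V)
include hQ hdim

/-- A non-zero singular vector of `W`. -/
lemma exists_singular_Wp {e f : V} (h : HypPair Q e f) :
    ∃ u ∈ Wp Q e f, u ≠ 0 ∧ Q u = 0 := by
  have hfr := finrank_perp (Q := Q) h.ee h.ff h.ef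
  obtain ⟨w', hw'0, hw'⟩ := exists_singular (Q.comp (perp Q e f).subtype) (by omega)
  have hmem : (w' : V) ∈ Wp Q e f := by rw [h.Wp_eq_perp]; exact w'.2
  refine ⟨(w' : V), hmem, fun h0 => hw'0 (Subtype.ext h0), by simpa using hw'⟩

/-- An additive map of `W` fixing the singular vectors is the identity. -/
lemma additive_eq_of_singular {e f : V} (h : HypPair Q e f) {φ : V → V}
    (hadd : ∀ w ∈ Wp Q e f, ∀ w' ∈ Wp Q e f, φ (w + w') = φ w + φ w')
    (hs : ∀ w ∈ Wp Q e f, Q w = 0 → φ w = w) : ∀ w ∈ Wp Q e f, φ w = w := by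
  obtain ⟨u, hu, hu0, hQu⟩ := exists_singular_Wp hQ hdim h
  obtain ⟨v, hv, hQv, hvu⟩ := exists_partner_Wp hQ hdim h hu hu0 hQu
  have huv : P u v = 1 := by rw [QuadraticMap.polar_comm, hvu]
  have huu : P u u = 0 := by rw [polar_self', hQu, mul_zero]
  have hvv : P v v = 0 := by rw [polar_self', hQv, mul_zero]
  intro w hw
  obtain ⟨a, ha⟩ : ∃ a, a = P w v := ⟨_, rfl⟩
  obtain ⟨b, hb⟩ : ∃ b, b = P w u := ⟨_, rfl⟩
  obtain ⟨w'', hw''⟩ : ∃ w'', w'' = w - a • u - b • v := ⟨_, rfl⟩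
  have hw''m : w'' ∈ Wp Q e f := by
    rw [hw'']
    exact (Wp Q e f).sub_mem ((Wp Q e f).sub_mem hw ((Wp Q e f).smul_mem _ hu))
      ((Wp Q e f).smul_mem _ hv)
  have h1 : P w'' u = 0 := by
    rw [hw'', QuadraticMap.polar_sub_left, QuadraticMap.polar_sub_left,
      QuadraticMap.polar_smul_left, QuadraticMap.polar_smul_left, huu, hvu, ← hb]
    simp
  have h2 : P w'' v = 0 := by
    rw [hw'', QuadraticMap.polar_sub_left, QuadraticMap.polar_sub_left,
      QuadraticMap.polar_smul_left, QuadraticMap.polar_smul_left, huv, hvv, ← ha]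
    simp
  obtain ⟨s₁, hs₁⟩ : ∃ s₁, s₁ = w'' - Q w'' • u + v := ⟨_, rfl⟩
  have hs₁m : s₁ ∈ Wp Q e f := by
    rw [hs₁]
    exact (Wp Q e f).add_mem ((Wp Q e f).sub_mem hw''m ((Wp Q e f).smul_mem _ hu)) hv
  have hQs₁ : Q s₁ = 0 := by
    have e1 : Q (w'' - Q w'' • u) = Q w'' := by
      rw [Helper14_OmegaSimple.map_sub', hQs, hQu, QuadraticMap.polar_smul_right, h1]
      simp
    rw [hs₁, hQp, QuadraticMap.polarBilin_apply_apply, e1, hQv, QuadraticMap.polar_sub_left,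
      QuadraticMap.polar_smul_left, h2, huv]
    simp
  have hQ1 : Q (a • u) = 0 := by rw [hQs, hQu, mul_zero]
  have hQ2 : Q (b • v) = 0 := by rw [hQs, hQv, mul_zero]
  have hQ3 : Q (Q w'' • u) = 0 := by rw [hQs, hQu, mul_zero]
  have hQ4 : Q (-v) = 0 := by rw [QuadraticMap.map_neg, hQv]
  have m1 := (Wp Q e f).smul_mem a hu
  have m2 := (Wp Q e f).smul_mem b hv
  have m3 := (Wp Q e f).smul_mem (Q w'') hu
  have m4 := (Wp Q e f).neg_mem hv
  have hdec : w = a • u + b • v + s₁ + Q w'' • u + -v := by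
    rw [hs₁, hw'']; module
  rw [hdec, hadd _ ((Wp Q e f).add_mem ((Wp Q e f).add_mem ((Wp Q e f).add_mem m1 m2) hs₁m) m3)
      _ m4,
    hadd _ ((Wp Q e f).add_mem ((Wp Q e f).add_mem m1 m2) hs₁m) _ m3,
    hadd _ ((Wp Q e f).add_mem m1 m2) _ hs₁m, hadd _ m1 _ m2, hs _ m1 hQ1, hs _ m2 hQ2,
    hs _ hs₁m hQs₁, hs _ m3 hQ3, hs _ m4 hQ4]

/-- **Rigidity**: a normalised automorphism fixing `R_e` pointwise fixes `R_f` pointwise. -/
theorem fix_of_isInd_id [Finite 𝔾] (hk : KerScalar mk) {e f : V} (h : HypPair Q e f)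
    {α : 𝔾 ≃* 𝔾} (hα : Norm mk e f α) (hA : IsInd mk e f α id) :
    ∀ w ∈ Wp Q e f, α (mkT Q mk (E Q f w)) = mkT Q mk (E Q f w) := by
  have hfix : ∀ x ∈ Wp Q e f, α (mkT Q mk (E Q e x)) = mkT Q mk (E Q e x) :=
    fun x hx => (hA x hx).2
  obtain ⟨A', hA'⟩ := exists_isInd h.symm hα.rf
  obtain ⟨A'', hA''⟩ := exists_isInd h.symm hα.symm.rf
  have hWs : Wp Q f e = Wp Q e f := h.Wp_symm
  have hA'add : ∀ w ∈ Wp Q e f, ∀ w' ∈ Wp Q e f, A' (w + w') = A' w + A' w' := by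
    intro w hw w' hw'
    exact IsInd.add hQ hdim hk h.symm hA' (hWs.symm ▸ hw) (hWs.symm ▸ hw')
  have hA'0 : A' 0 = 0 := by
    have := hA'add 0 (Wp Q e f).zero_mem 0 (Wp Q e f).zero_mem
    rw [add_zero] at this
    exact left_eq_add.mp this
  have hA'inj : ∀ w ∈ Wp Q e f, A' w = 0 → w = 0 := by
    intro w hw h0
    have h1 := (IsInd.symm_apply hQ hdim hk h.symm hA' hA'' (hWs.symm ▸ hw)).1
    rw [h0] at h1
    have hA''0 : A'' 0 = 0 := by
      have := IsInd.add hQ hdim hk h.symm hA'' (Wp Q f e).zero_mem (Wp Q f e).zero_mem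
      rw [add_zero] at this
      exact left_eq_add.mp this
    rw [← h1, hA''0]
  have key : ∀ wm ∈ Wp Q e f, Q wm = 0 → A' wm = wm := by
    intro wm hwm hQwm
    by_cases hwm0 : wm = 0
    · rw [hwm0, hA'0]
    obtain ⟨w, hw, hQw, hwwm⟩ := exists_partner_Wp hQ hdim h hwm hwm0 hQwm
    have q : Quad Q e f w wm := ⟨h, hw, hwm, hQw, hQwm, hwwm⟩
    have hEe := E_mem_T' h hQ hdim hwm
    -- the scalars `κ s`
    have hκ : ∀ s : F, s ≠ 0 → ∃ κ : F, κ ≠ 0 ∧
        α (mkT Q mk (E Q f (s • wm))) = mkT Q mk (E Q f (κ • wm)) := by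
      intro s hs0
      have hsm : s • wm ∈ Wp Q f e := q.smul_wm s
      have hsm' : s • wm ∈ Wp Q e f := (Wp Q e f).smul_mem s hwm
      have hsne : s • wm ≠ 0 := smul_ne_zero hs0 hwm0
      have hQsm : Q (s • wm) = 0 := by rw [hQs, hQwm, mul_zero]
      obtain ⟨hym, hy⟩ := hA' _ hsm
      have hym' : A' (s • wm) ∈ Wp Q e f := hWs ▸ hym
      have hroot : IsRoot mk (mkT Q mk (E Q f (A' (s • wm)))) := by
        rw [← hy]
        exact hα.root _ (isRoot_E h.symm hsm hsne hQsm)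
      have hQy := Q_eq_zero_of_isRoot hQ hdim hk h.symm hym hroot
      have hEf := E_mem_T' h.symm hQ hdim hsm
      have hEy := E_mem_T' h.symm hQ hdim hym
      -- `E(e, wm)` and `E(f, s wm)` commute
      have hc0 : E Q e wm * E Q f (s • wm) = E Q f (s • wm) * E Q e wm := by
        have hewm := polar_e_of_mem h hwm
        have hfwm := polar_f_of_mem h hwm
        have hfs : P f (s • wm) = 0 := polar_e_of_mem h.symm hsm
        have p1 : P wm (-e) = 0 := by
          rw [QuadraticMap.polar_neg_right, QuadraticMap.polar_comm, hewm, neg_zero]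
        have p2 : P wm (-f) = 0 := by
          rw [QuadraticMap.polar_neg_right, QuadraticMap.polar_comm, hfwm, neg_zero]
        have p3 : P wm (s • -f) = 0 := by rw [QuadraticMap.polar_smul_right, p2, smul_zero]
        rw [E_swap h.ee hQwm hewm, E_swap h.ff hQsm hfs, E_smul_left Q hQwm p2,
          E_mul Q hQwm p1 p3, E_mul Q hQwm p3 p1, add_comm]
      have hc1 : mkT Q mk (E Q e wm) * mkT Q mk (E Q f (A' (s • wm))) =
          mkT Q mk (E Q f (A' (s • wm))) * mkT Q mk (E Q e wm) := by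
        have := congrArg (fun g => α (mkT Q mk g)) hc0
        beta_reduce at this
        rw [mkT_mul mk hEe hEf, mkT_mul mk hEf hEe, map_mul, map_mul, hfix _ hwm, hy] at this
        exact this
      obtain ⟨k, hk'⟩ := span_of_commute hQ hdim hk h hwm hym' hQwm hQy hwm0 hc1
      refine ⟨k, ?_, by rw [hy, hk']⟩
      rintro rfl
      rw [zero_smul] at hk'
      exact hsne (hA'inj _ hsm' hk')
    obtain ⟨κ₁, hκ₁0, h1⟩ := hκ 1 one_ne_zero
    obtain ⟨κ₂, hκ₂0, h2⟩ := hκ (1 * 1) (by norm_num)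
    have := q.sl2_rel hQ hdim hk (s := 1) (t := 1) (mul_one 1) hκ₁0 hfix h1 h2
    rw [this, one_smul] at h1
    have hwm' : wm ∈ Wp Q f e := hWs.symm ▸ hwm
    obtain ⟨hm, h3⟩ := hA' wm hwm'
    rw [h1] at h3
    exact (mkT_E_inj h.symm hQ hdim hk hwm' hm h3).symm
  have hall := additive_eq_of_singular hQ hdim h hA'add key
  intro w hw
  have hw' : w ∈ Wp Q f e := hWs.symm ▸ hw
  rw [(hA' w hw').2, hall w hw]

end fin

end Cfsg.Agent.Lib.Helper14_OrthLocal10
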