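import Mathlib
import Cfsg.Agent.Lib.Helper14_OrthLocal10

/-!
# Orthogonal groups, local analysis 11: two opposite radicals generate (helper14)
-/

set_option autoImplicit false
set_option linter.unusedSectionVars false
set_option linter.unusedVariables false

namespace Cfsg.Agent.Lib.Helper14_OrthLocal11

open Module Cfsg.Agent.Lib.Helper14_OmegaSimple Cfsg.Agent.Lib.Helper14_OrthAut
  Cfsg.Agent.Lib.Helper94_OrthSmall Cfsg.Agent.Lib.Helper44_QuadClass
  Cfsg.Agent.Lib.Helper94_Symp Cfsg.Agent.Lib.Helper14_OrthLocal1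
  Cfsg.Agent.Lib.Helper14_OrthLocal2 Cfsg.Agent.Lib.Helper14_OrthLocal3
  Cfsg.Agent.Lib.Helper14_OrthLocal4 Cfsg.Agent.Lib.Helper14_OrthLocal5
  Cfsg.Agent.Lib.Helper14_OrthLocal6 Cfsg.Agent.Lib.Helper14_OrthLocal8
  Cfsg.Agent.Lib.Helper14_OrthLocal9 Cfsg.Agent.Lib.Helper14_OrthLocal10

variable {F V : Type*} [Field F] [AddCommGroup V] [Module F V]
variable {Q : QuadraticForm F V} {𝔾 : Type*} [Group 𝔾] {mk : ↥(T Q) →* 𝔾}

set_option quotPrecheck false in
local notation "P" => QuadraticMap.polar (⇑Q)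

/-- The radical of the point `a` lies in `K`. -/
def RK (Q : QuadraticForm F V) (K : Subgroup (V ≃ₗ[F] V)) (a : V) : Prop :=
  ∀ z : V, QuadraticMap.polar (⇑Q) a z = 0 → E Q a z ∈ K

section fin

variable [Finite F] [FiniteDimensional F V]
variable (hQ : (QuadraticMap.polarBilin Q).Nondegenerate) (hdim : 5 ≤ finrank F V)
include hQ hdim

/-- If `K` contains the radicals of `a` and `b` (a hyperbolic pair), it contains the radical of every
singular point not orthogonal to `a`. -/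
lemma conj_closure (K : Subgroup (V ≃ₗ[F] V)) {a b : V} (hab : HypPair Q a b) (ha : RK Q K a)
    (hb : RK Q K b) {c : V} (hc : Q c = 0) (hca : P c a ≠ 0) : RK Q K c := by
  intro z hz
  obtain ⟨k, hk⟩ : ∃ k, k = P c a := ⟨_, rfl⟩
  have hk0 : k ≠ 0 := hk ▸ hca
  obtain ⟨c', hc'⟩ : ∃ c', c' = k⁻¹ • c := ⟨_, rfl⟩
  have hQc' : Q c' = 0 := by rw [hc', hQs, hc, mul_zero]
  have hc'a : P c' a = 1 := by
    rw [hc', QuadraticMap.polar_smul_left, ← hk, smul_eq_mul, inv_mul_cancel₀ hk0]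
  obtain ⟨w, hw, hEw⟩ := exists_E_map_f hQ hdim hab hQc' hc'a
  have haw := polar_e_of_mem hab hw
  have hgK : E Q a w ∈ K := ha w haw
  have hgO : E Q a w ∈ oG (⇑Q) := E_mem_oG Q hab.ee haw
  have hcc' : c = k • c' := by rw [hc', smul_smul, mul_inv_cancel₀ hk0, one_smul]
  have hc'z : P c' z = 0 := by
    rw [hc', QuadraticMap.polar_smul_left, hz, smul_zero]
  obtain ⟨z₀, hz₀⟩ : ∃ z₀, z₀ = (E Q a w)⁻¹ (k • z) := ⟨_, rfl⟩
  have hgz₀ : E Q a w z₀ = k • z := by rw [hz₀, apply_inv_apply']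
  have hbz₀ : P b z₀ = 0 := by
    rw [← oG_polar Q hgO, hEw, hgz₀, QuadraticMap.polar_smul_right, hc'z, smul_zero]
  have hconj := conj_E Q hgO hab.ff hbz₀
  rw [hEw, hgz₀] at hconj
  rw [hcc', E_smul_left Q hQc' hc'z, ← hconj]
  exact K.mul_mem (K.mul_mem hgK (hb z₀ hbz₀)) (K.inv_mem hgK)

/-- **Generation**: an automorphism fixing `R_e` and `R_f` pointwise is trivial. -/
theorem eq_one_of_fix (hs : Function.Surjective mk) {e f : V} (h : HypPair Q e f)
    {α : 𝔾 ≃* 𝔾} (hfe : ∀ w ∈ Wp Q e f, α (mkT Q mk (E Q e w)) = mkT Q mk (E Q e w))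
    (hff : ∀ w ∈ Wp Q e f, α (mkT Q mk (E Q f w)) = mkT Q mk (E Q f w)) : α = 1 := by
  obtain ⟨S, hS⟩ : ∃ S : Set (V ≃ₗ[F] V),
      S = {g | ∃ w ∈ Wp Q e f, g = E Q e w ∨ g = E Q f w} := ⟨_, rfl⟩
  obtain ⟨K, hK⟩ : ∃ K, K = Subgroup.closure S := ⟨_, rfl⟩
  have hWs : Wp Q f e = Wp Q e f := h.Wp_symm
  have hRe : RK Q K e := by
    intro z hz
    obtain ⟨w, hw, hE⟩ := E_reduce h hz
    rw [hE, hK]
    exact Subgroup.subset_closure (hS ▸ ⟨w, hw, Or.inl rfl⟩)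
  have hRf : RK Q K f := by
    intro z hz
    obtain ⟨w, hw, hE⟩ := E_reduce h.symm hz
    rw [hE, hK]
    exact Subgroup.subset_closure (hS ▸ ⟨w, hWs ▸ hw, Or.inr rfl⟩)
  -- every radical lies in `K`
  have hall : ∀ c : V, c ≠ 0 → Q c = 0 → RK Q K c := by
    intro c hc0 hc
    by_cases h1 : P c e = 0
    swap
    · exact conj_closure hQ hdim K h hRe hRf hc h1
    by_cases h2 : P c f = 0
    swap
    · exact conj_closure hQ hdim K h.symm hRf hRe hc h2
    have hcm : c ∈ Wp Q e f := mem_Wp.mpr ⟨h1, h2⟩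
    obtain ⟨cm, hcmm, hQcm, hcmc⟩ := exists_partner_Wp hQ hdim h hcm hc0 hc
    -- `y = E(e, cm) f = f + cm`
    obtain ⟨y, hy⟩ : ∃ y, y = f + cm := ⟨_, rfl⟩
    have hQy : Q y = 0 := by
      rw [hy, hQp, QuadraticMap.polarBilin_apply_apply, h.ff, hQcm, polar_f_of_mem h hcmm]; ring
    have hye : P y e = 1 := by
      rw [hy, QuadraticMap.polar_add_left, h.fe, (mem_Wp.mp hcmm).1, add_zero]
    have hyc : P c y = 1 := by
      rw [hy, QuadraticMap.polar_add_right, h2, QuadraticMap.polar_comm (⇑Q) c cm, hcmc, zero_add]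
    have hRy : RK Q K y := conj_closure hQ hdim K h hRe hRf hQy (by rw [hye]; exact one_ne_zero)
    have hpair : HypPair Q y e := ⟨hQy, h.ee, hye⟩
    exact conj_closure hQ hdim K hpair hRy hRe hc (by rw [hyc]; exact one_ne_zero)
  have hTK : T Q ≤ K := by
    rw [T, Subgroup.closure_le]
    rintro g ⟨u, s, hu, hs', hus, rfl⟩
    by_cases hu0 : u = 0
    · rw [hu0, E_zero_left]; exact K.one_mem
    · exact hall u hu0 hu s hus
  have hKfix : ∀ g ∈ K, g ∈ T Q ∧ α (mkT Q mk g) = mkT Q mk g := by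
    intro g hg
    rw [hK] at hg
    induction hg using Subgroup.closure_induction with
    | mem g hg =>
      rw [hS] at hg
      obtain ⟨w, hw, rfl | rfl⟩ := hg
      · exact ⟨E_mem_T' h hQ hdim hw, hfe w hw⟩
      · exact ⟨E_mem_T' h.symm hQ hdim (hWs.symm ▸ hw), hff w hw⟩
    | one => exact ⟨(T Q).one_mem, by rw [mkT_one, map_one]⟩
    | mul a b _ _ iha ihb =>
      exact ⟨(T Q).mul_mem iha.1 ihb.1, by rw [mkT_mul mk iha.1 ihb.1, map_mul, iha.2, ihb.2]⟩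
    | inv a _ iha =>
      exact ⟨(T Q).inv_mem iha.1, by rw [mkT_inv mk iha.1, map_inv, iha.2]⟩
  ext t
  obtain ⟨g, hg, rfl⟩ := exists_mkT mk hs t
  exact (hKfix g (hTK hg)).2

end fin

end Cfsg.Agent.Lib.Helper14_OrthLocal11
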