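import Mathlib
import Cfsg.Agent.Lib.Helper14_OrthAutDefs

/-!
# Geometry of the complement `W = ⟨e, f⟩^⊥` of a hyperbolic pair in a quadratic space (helper95)

Support for helper14's orthogonal automorphism project (packages PC-comm, PC-conf, PD-1):

* `NDOn Q K` : the polar form of `Q` is non-degenerate on the subspace `K`;
* `projH`, `ndOn_inf_Wp` : the complement of a hyperbolic pair inside a non-degenerate subspace is
  non-degenerate;
* `exists_partner` : hyperbolic partner inside a non-degenerate subspace;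
* `singular_of_pair` : `w - Q w • s + t` is singular for `w ⊥ s, t`;
* `exists_singular_perp` : a non-degenerate subspace containing a totally singular line contains a
  non-zero singular vector perpendicular to any given hyperbolic pair;
* `ts_peel` (helper14's PD-1) and `exists_tsline_Wp` : a totally singular line inside `⟨e, f⟩^⊥`.
-/

set_option autoImplicit false

namespace Cfsg.Agent.Lib.Helper95_OrthW

open Module Cfsg.Agent.Lib.Helper14_OmegaSimple Cfsg.Agent.Lib.Helper14_OrthAut
  Cfsg.Agent.Lib.Helper44_QuadClass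

variable {F V : Type*} [Field F] [AddCommGroup V] [Module F V] (Q : QuadraticForm F V)

set_option quotPrecheck false in
local notation "𝓟" => QuadraticMap.polar (⇑Q)

/-- the polar form is non-degenerate on `K` -/
def NDOn (K : Submodule F V) : Prop := ∀ x ∈ K, (∀ y ∈ K, 𝓟 x y = 0) → x = 0

variable {Q}

theorem polar_self_of_singular {x : V} (hx : Q x = 0) : 𝓟 x x = 0 := by
  rw [polar_self', hx, mul_zero]

theorem Q_add (x y : V) : Q (x + y) = Q x + Q y + 𝓟 x y := by
  rw [QuadraticMap.polar]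
  ring

theorem Q_smul (a : F) (x : V) : Q (a • x) = a * a * Q x := hQs Q a x

theorem Q_add_smul (x y : V) (a : F) : Q (x + a • y) = Q x + a * a * Q y + a * 𝓟 x y := by
  rw [Q_add, Q_smul, QuadraticMap.polar_smul_right, smul_eq_mul]

theorem ndOn_top (hQ : (QuadraticMap.polarBilin Q).Nondegenerate) : NDOn Q ⊤ := by
  intro x _ hx
  exact hQ.1 x (fun y => hx y Submodule.mem_top)

variable (Q)

/-- projection to the complement of the hyperbolic pair `u`, `v` -/
def projH (u v y : V) : V := y - 𝓟 y v • u - 𝓟 y u • v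

variable {Q}

theorem projH_mem {u v : V} (hu : Q u = 0) (hv : Q v = 0) (huv : 𝓟 u v = 1) (y : V) :
    projH Q u v y ∈ Wp Q u v := by
  have hvu : 𝓟 v u = 1 := by rw [QuadraticMap.polar_comm, huv]
  rw [mem_Wp]
  constructor
  · rw [projH, QuadraticMap.polar_sub_left, QuadraticMap.polar_sub_left,
      QuadraticMap.polar_smul_left, QuadraticMap.polar_smul_left, polar_self_of_singular hu, hvu]
    simp
  · rw [projH, QuadraticMap.polar_sub_left, QuadraticMap.polar_sub_left,
      QuadraticMap.polar_smul_left, QuadraticMap.polar_smul_left, polar_self_of_singular hv, huv]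
    simp

theorem polar_projH {u v x : V} (hx : x ∈ Wp Q u v) (y : V) : 𝓟 x (projH Q u v y) = 𝓟 x y := by
  rw [mem_Wp] at hx
  rw [projH, QuadraticMap.polar_sub_right, QuadraticMap.polar_sub_right,
    QuadraticMap.polar_smul_right, QuadraticMap.polar_smul_right, hx.1, hx.2]
  simp

theorem projH_mem_of_mem {K : Submodule F V} {u v y : V} (hu : u ∈ K) (hv : v ∈ K) (hy : y ∈ K) :
    projH Q u v y ∈ K :=
  K.sub_mem (K.sub_mem hy (K.smul_mem _ hu)) (K.smul_mem _ hv)

theorem eq_add_projH (u v y : V) : y = 𝓟 y v • u + 𝓟 y u • v + projH Q u v y := by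
  rw [projH]
  abel

theorem ndOn_inf_Wp {K : Submodule F V} (hK : NDOn Q K) {u v : V} (huK : u ∈ K) (hvK : v ∈ K)
    (hu : Q u = 0) (hv : Q v = 0) (huv : 𝓟 u v = 1) : NDOn Q (K ⊓ Wp Q u v) := by
  intro x hx hxy
  apply hK x hx.1
  intro y hy
  rw [← polar_projH hx.2 y]
  exact hxy _ ⟨projH_mem_of_mem huK hvK hy, projH_mem hu hv huv y⟩

theorem ndOn_Wp (hQ : (QuadraticMap.polarBilin Q).Nondegenerate) {e f : V} (he : Q e = 0)
    (hf : Q f = 0) (hef : 𝓟 e f = 1) : NDOn Q (Wp Q e f) := by
  have h := ndOn_inf_Wp (ndOn_top hQ) (Submodule.mem_top : e ∈ ⊤) (Submodule.mem_top : f ∈ ⊤)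
    he hf hef
  rwa [top_inf_eq] at h

/-- hyperbolic partner inside a non-degenerate subspace -/
theorem exists_partner {K : Submodule F V} (hK : NDOn Q K) {u : V} (huK : u ∈ K) (hu0 : u ≠ 0)
    (hu : Q u = 0) : ∃ v ∈ K, Q v = 0 ∧ 𝓟 u v = 1 := by
  have hex : ∃ y ∈ K, 𝓟 u y ≠ 0 := by
    by_contra hcon
    push Not at hcon
    exact hu0 (hK u huK hcon)
  obtain ⟨y, hyK, hy⟩ := hex
  have hw' : 𝓟 u ((𝓟 u y)⁻¹ • y) = 1 := by
    rw [QuadraticMap.polar_smul_right, smul_eq_mul, inv_mul_cancel₀ hy]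
  have hw'K : (𝓟 u y)⁻¹ • y ∈ K := K.smul_mem _ hyK
  obtain ⟨w', hw'def⟩ : ∃ w', w' = (𝓟 u y)⁻¹ • y := ⟨_, rfl⟩
  rw [← hw'def] at hw' hw'K
  refine ⟨w' + (-Q w') • u, K.add_mem hw'K (K.smul_mem _ huK), ?_, ?_⟩
  · rw [Q_add_smul, hu, QuadraticMap.polar_comm, hw']
    ring
  · rw [QuadraticMap.polar_add_right, QuadraticMap.polar_smul_right, polar_self_of_singular hu,
      hw']
    simp

/-- the standard singular vector attached to `w ⊥ s, t` -/
theorem singular_of_pair {s t w : V} (hs : Q s = 0) (ht : Q t = 0) (hst : 𝓟 s t = 1)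
    (hw : w ∈ Wp Q s t) : Q (w + (-Q w) • s + t) = 0 := by
  rw [mem_Wp] at hw
  rw [Q_add, Q_add_smul, hs, ht, QuadraticMap.polar_add_left, QuadraticMap.polar_smul_left, hw.1,
    hw.2, hst]
  simp

/-- linear combinations on a totally singular line are singular -/
theorem Q_comb {a b : V} (h : TSLine Q a b) (α β : F) : Q (α • a + β • b) = 0 := by
  obtain ⟨ha, hb, hab, -, -⟩ := h
  rw [Q_add, Q_smul, Q_smul, ha, hb, QuadraticMap.polar_smul_left, QuadraticMap.polar_smul_right,
    hab]
  simp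

/-- a non-zero singular vector perpendicular to a hyperbolic pair, from a totally singular line -/
theorem exists_singular_perp {K : Submodule F V} {a b : V} (haK : a ∈ K) (hbK : b ∈ K)
    (hab : TSLine Q a b) {s t : V} (hsK : s ∈ K) (hs : Q s = 0) (hst : 𝓟 s t = 1) :
    ∃ y ∈ K ⊓ Wp Q s t, y ≠ 0 ∧ Q y = 0 := by
  have hab' := hab
  obtain ⟨ha, hb, hpab, ha0, hbn⟩ := hab'
  -- a vector of the line perpendicular to `s` and not a multiple of `s`
  have key : ∃ x ∈ K, Q x = 0 ∧ 𝓟 x s = 0 ∧ x ∉ Submodule.span F {s} := by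
    by_cases has : 𝓟 a s = 0
    · by_cases hmem : a ∈ Submodule.span F {s}
      · obtain ⟨c, hc⟩ := Submodule.mem_span_singleton.mp hmem
        have hc0 : c ≠ 0 := by
          rintro rfl
          rw [zero_smul] at hc
          exact ha0 hc.symm
        have hs' : s = c⁻¹ • a := by
          rw [← hc, smul_smul, inv_mul_cancel₀ hc0, one_smul]
        refine ⟨b, hbK, hb, ?_, ?_⟩
        · rw [hs', QuadraticMap.polar_smul_right, QuadraticMap.polar_comm, hpab, smul_zero]
        · intro hbs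
          obtain ⟨d, hd⟩ := Submodule.mem_span_singleton.mp hbs
          apply hbn
          rw [Submodule.mem_span_singleton]
          exact ⟨d * c⁻¹, by rw [← hd, hs', smul_smul]⟩
      · exact ⟨a, haK, ha, has, hmem⟩
    · refine ⟨(-𝓟 b s) • a + 𝓟 a s • b, K.add_mem (K.smul_mem _ haK) (K.smul_mem _ hbK),
        Q_comb hab _ _, ?_, ?_⟩
      · rw [QuadraticMap.polar_add_left, QuadraticMap.polar_smul_left,
          QuadraticMap.polar_smul_left]
        simp only [smul_eq_mul]
        ring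
      · intro hmem
        obtain ⟨c, hc⟩ := Submodule.mem_span_singleton.mp hmem
        have h1 : 𝓟 a (c • s) = 0 := by
          rw [hc, QuadraticMap.polar_add_right, QuadraticMap.polar_smul_right,
            QuadraticMap.polar_smul_right, polar_self_of_singular ha, hpab]
          simp
        rw [QuadraticMap.polar_smul_right, smul_eq_mul] at h1
        rcases mul_eq_zero.mp h1 with hc0 | h2
        · rw [hc0, zero_smul] at hc
          apply hbn
          rw [Submodule.mem_span_singleton]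
          refine ⟨(𝓟 a s)⁻¹ * 𝓟 b s, ?_⟩
          have h3 : 𝓟 a s • b = 𝓟 b s • a := by
            have h4 := hc.symm
            rw [neg_smul, neg_add_eq_zero] at h4
            exact h4.symm
          rw [mul_smul, ← h3, smul_smul, inv_mul_cancel₀ has, one_smul]
        · exact has h2
  obtain ⟨x, hxK, hx, hxs, hxn⟩ := key
  have hss := polar_self_of_singular hs
  refine ⟨x + (-𝓟 x t) • s, ⟨K.add_mem hxK (K.smul_mem _ hsK), ?_⟩, ?_, ?_⟩
  · change _ ∈ Wp Q s t
    rw [mem_Wp]
    constructor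
    · rw [QuadraticMap.polar_add_left, QuadraticMap.polar_smul_left, hxs, hss]
      simp
    · rw [QuadraticMap.polar_add_left, QuadraticMap.polar_smul_left, hst]
      simp
  · intro h0
    apply hxn
    rw [Submodule.mem_span_singleton]
    refine ⟨𝓟 x t, ?_⟩
    rw [neg_smul, add_neg_eq_zero] at h0
    exact h0.symm
  · rw [Q_add_smul, hx, hs, hxs]
    simp

section findim

variable [FiniteDimensional F V]

omit [FiniteDimensional F V] in
theorem finrank_span_singleton_le_one (e : V) : finrank F (Submodule.span F {e}) ≤ 1 := by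
  by_cases he : e = 0
  · rw [he, Submodule.span_zero_singleton, finrank_bot]
    exact Nat.zero_le 1
  · rw [finrank_span_singleton he]

theorem finrank_map_add_inf_ker {M' : Type*} [AddCommGroup M'] [Module F M'] (T : V →ₗ[F] M')
    (W : Submodule F V) :
    finrank F (W.map T) + finrank F (W ⊓ LinearMap.ker T : Submodule F V) = finrank F W := by
  have h := LinearMap.finrank_range_add_finrank_ker (T.domRestrict W)
  rw [LinearMap.range_domRestrict, LinearMap.ker_domRestrict] at h
  rw [← h, ← Submodule.finrank_map_subtype_eq W (Submodule.comap W.subtype (LinearMap.ker T)),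
    Submodule.map_comap_subtype]

/-- helper14's PD-1: peeling a hyperbolic pair off a totally singular subspace -/
theorem ts_peel {e f : V} (he : Q e = 0) (hf : Q f = 0) (hef : 𝓟 e f = 1)
    (U : Submodule F V) (hU : ∀ x ∈ U, Q x = 0) :
    ∃ U' : Submodule F V, U' ≤ Wp Q e f ∧ (∀ x ∈ U', Q x = 0) ∧ finrank F U ≤ finrank F U' + 1 := by
  -- the projection as a linear map
  let π : V →ₗ[F] V := LinearMap.id - (QuadraticMap.polarBilin Q f).smulRight e -
    (QuadraticMap.polarBilin Q e).smulRight f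
  have hπ : ∀ x, π x = projH Q e f x := by
    intro x
    change x - 𝓟 f x • e - 𝓟 e x • f = x - 𝓟 x f • e - 𝓟 x e • f
    rw [QuadraticMap.polar_comm (⇑Q) f x, QuadraticMap.polar_comm (⇑Q) e x]
  let ℓ : V →ₗ[F] F := QuadraticMap.polarBilin Q e
  have hℓ : ∀ x, ℓ x = 𝓟 e x := fun x => rfl
  let U₁ : Submodule F V := U ⊓ LinearMap.ker ℓ
  have hU₁ : ∀ x ∈ U₁, Q x = 0 ∧ 𝓟 x e = 0 := by
    intro x hx
    refine ⟨hU x hx.1, ?_⟩
    have := LinearMap.mem_ker.1 hx.2
    rw [hℓ] at this
    rw [QuadraticMap.polar_comm, this]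
  refine ⟨U₁.map π, ?_, ?_, ?_⟩
  · rintro y ⟨x, -, rfl⟩
    rw [hπ]
    exact projH_mem he hf hef x
  · rintro y ⟨x, hx, rfl⟩
    obtain ⟨h1, h2⟩ := hU₁ x hx
    rw [hπ, projH, h2, zero_smul, sub_zero, sub_eq_add_neg, ← neg_smul, Q_add_smul, h1, he, h2]
    simp
  · have hker : ∀ x ∈ U₁ ⊓ LinearMap.ker π, x = 𝓟 x f • e := by
      intro x hx
      have h1 := LinearMap.mem_ker.1 hx.2
      rw [hπ, projH, (hU₁ x hx.1).2, zero_smul, sub_zero, sub_eq_zero] at h1
      exact h1
    have hr1 := finrank_map_add_inf_ker π U₁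
    have hr2 := finrank_map_add_inf_ker ℓ U
    have hle1 : finrank F (U.map ℓ) ≤ 1 := by
      have := Submodule.finrank_le (U.map ℓ)
      rwa [Module.finrank_self] at this
    by_cases heU : e ∈ U
    · -- then `U₁ = U` and the kernel is at most a line
      have hU₁eq : U₁ = U := by
        apply le_antisymm inf_le_left
        intro x hx
        refine ⟨hx, ?_⟩
        change x ∈ LinearMap.ker ℓ
        rw [LinearMap.mem_ker, hℓ]
        have h1 := hU (e + x) (U.add_mem heU hx)
        rw [Q_add, he, hU x hx] at h1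
        simpa using h1
      have hk : finrank F (U₁ ⊓ LinearMap.ker π : Submodule F V) ≤ 1 := by
        have hle : U₁ ⊓ LinearMap.ker π ≤ Submodule.span F {e} := by
          intro x hx
          rw [Submodule.mem_span_singleton]
          exact ⟨𝓟 x f, (hker x hx).symm⟩
        calc finrank F (U₁ ⊓ LinearMap.ker π : Submodule F V)
            ≤ finrank F (Submodule.span F {e}) := Submodule.finrank_mono hle
          _ ≤ 1 := finrank_span_singleton_le_one e
      rw [hU₁eq] at hr1 hk ⊢
      omega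
    · -- then the projection is injective on `U₁`
      have hk : (U₁ ⊓ LinearMap.ker π : Submodule F V) = ⊥ := by
        rw [eq_bot_iff]
        intro x hx
        rw [Submodule.mem_bot]
        have h1 := hker x hx
        by_cases hc : 𝓟 x f = 0
        · rw [h1, hc, zero_smul]
        · exfalso
          apply heU
          obtain ⟨c, hc'⟩ : ∃ c, c = 𝓟 x f := ⟨_, rfl⟩
          rw [← hc'] at h1 hc
          have h2 : e = c⁻¹ • x := by
            rw [h1, smul_smul, inv_mul_cancel₀ hc, one_smul]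
          rw [h2]
          exact U.smul_mem _ hx.1.1
      rw [hk, finrank_bot] at hr1
      have : finrank F U₁ = finrank F (U ⊓ LinearMap.ker ℓ : Submodule F V) := rfl
      omega

/-- a totally singular line inside `⟨e, f⟩^⊥` -/
theorem exists_tsline_Wp (hH : Hyp Q) {e f : V} (he : Q e = 0) (hf : Q f = 0) (hef : 𝓟 e f = 1) :
    ∃ a b : V, a ∈ Wp Q e f ∧ b ∈ Wp Q e f ∧ TSLine Q a b := by
  obtain ⟨U, hU3, hUts⟩ := hH.witt
  obtain ⟨U', hU'W, hU'ts, hdim⟩ := ts_peel he hf hef U hUts
  have h2 : 2 ≤ finrank F U' := by omega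
  have hne : U' ≠ ⊥ := by
    intro h
    rw [h, finrank_bot] at h2
    omega
  obtain ⟨a, haU, ha0⟩ := Submodule.exists_mem_ne_zero_of_ne_bot hne
  have hexb : ∃ b ∈ U', b ∉ Submodule.span F {a} := by
    by_contra hcon
    push Not at hcon
    have hle : U' ≤ Submodule.span F {a} := hcon
    have := Submodule.finrank_mono hle
    have h1 := finrank_span_singleton_le_one (F := F) a
    omega
  obtain ⟨b, hbU, hbn⟩ := hexb
  refine ⟨a, b, hU'W haU, hU'W hbU, hU'ts a haU, hU'ts b hbU, ?_, ha0, hbn⟩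
  have h1 := hU'ts (a + b) (U'.add_mem haU hbU)
  rw [Q_add, hU'ts a haU, hU'ts b hbU] at h1
  simpa using h1

end findim

/-- a submodule containing the singular vectors of a non-degenerate subspace `K` with a hyperbolic
pair contains `K` -/
theorem mem_of_singular_mem {K N : Submodule F V} {s t : V} (hsK : s ∈ K) (htK : t ∈ K)
    (hs : Q s = 0) (ht : Q t = 0) (hst : 𝓟 s t = 1) (hN : ∀ y ∈ K, Q y = 0 → y ∈ N) :
    ∀ x ∈ K, x ∈ N := by
  intro x hx
  have hsN : s ∈ N := hN s hsK hs
  have htN : t ∈ N := hN t htK ht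
  have hx₃K : projH Q s t x ∈ K := projH_mem_of_mem hsK htK hx
  have hx₃W : projH Q s t x ∈ Wp Q s t := projH_mem hs ht hst x
  obtain ⟨x₃, hx₃⟩ : ∃ x₃, x₃ = projH Q s t x := ⟨_, rfl⟩
  rw [← hx₃] at hx₃K hx₃W
  have hy₀ : x₃ + (-Q x₃) • s + t ∈ N :=
    hN _ (K.add_mem (K.add_mem hx₃K (K.smul_mem _ hsK)) htK) (singular_of_pair hs ht hst hx₃W)
  have hx₃N : x₃ ∈ N := by
    have h1 : x₃ = (x₃ + (-Q x₃) • s + t) - (-Q x₃) • s - t := by abel
    rw [h1]
    exact N.sub_mem (N.sub_mem hy₀ (N.smul_mem _ hsN)) htN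
  rw [eq_add_projH (Q := Q) s t x, ← hx₃]
  exact N.add_mem (N.add_mem (N.smul_mem _ hsN) (N.smul_mem _ htN)) hx₃N

/-- an additive subgroup containing the singular vectors of a subspace `K` with a hyperbolic pair
contains `K` -/
theorem mem_addSubgroup_of_singular_mem {K : Submodule F V} {N : AddSubgroup V} {s t : V}
    (hsK : s ∈ K) (htK : t ∈ K) (hs : Q s = 0) (ht : Q t = 0) (hst : 𝓟 s t = 1)
    (hN : ∀ y ∈ K, Q y = 0 → y ∈ N) : ∀ x ∈ K, x ∈ N := by
  intro x hx
  have hsm : ∀ c : F, c • s ∈ N := fun c =>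
    hN _ (K.smul_mem c hsK) (by rw [Q_smul, hs, mul_zero])
  have htm : ∀ c : F, c • t ∈ N := fun c =>
    hN _ (K.smul_mem c htK) (by rw [Q_smul, ht, mul_zero])
  have htN : t ∈ N := hN t htK ht
  have hx₃K : projH Q s t x ∈ K := projH_mem_of_mem hsK htK hx
  have hx₃W : projH Q s t x ∈ Wp Q s t := projH_mem hs ht hst x
  obtain ⟨x₃, hx₃⟩ : ∃ x₃, x₃ = projH Q s t x := ⟨_, rfl⟩
  rw [← hx₃] at hx₃K hx₃W
  have hy₀ : x₃ + (-Q x₃) • s + t ∈ N :=
    hN _ (K.add_mem (K.add_mem hx₃K (K.smul_mem _ hsK)) htK) (singular_of_pair hs ht hst hx₃W)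
  have hx₃N : x₃ ∈ N := by
    have h1 : x₃ = (x₃ + (-Q x₃) • s + t) - (-Q x₃) • s - t := by abel
    rw [h1]
    exact N.sub_mem (N.sub_mem hy₀ (hsm _)) htN
  rw [eq_add_projH (Q := Q) s t x, ← hx₃]
  exact N.add_mem (N.add_mem (hsm _) (htm _)) hx₃N

theorem Q_three (X Y Z : V) (k : F) : Q (X + k • Y + Z) =
    Q X + k * k * Q Y + k * 𝓟 X Y + Q Z + 𝓟 X Z + k * 𝓟 Y Z := by
  rw [Q_add, Q_add_smul, QuadraticMap.polar_add_left, QuadraticMap.polar_smul_left, smul_eq_mul]
  ring

theorem Q_three' (Y Z X : V) (a b : F) : Q (a • Y + b • Z + X) =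
    a * a * Q Y + b * b * Q Z + a * b * 𝓟 Y Z + Q X + a * 𝓟 Y X + b * 𝓟 Z X := by
  rw [Q_add, Q_add, Q_smul, Q_smul, QuadraticMap.polar_add_left, QuadraticMap.polar_smul_left,
    QuadraticMap.polar_smul_left, QuadraticMap.polar_smul_left, QuadraticMap.polar_smul_right]
  simp only [smul_eq_mul]
  ring

end Cfsg.Agent.Lib.Helper95_OrthW
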