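import Mathlib
import Cfsg.Agent.Lib.Helper95_OrthW

/-!
# The commutant of the Levi action on `⟨e, f⟩^⊥` consists of scalars (helper95)

Package PC-comm of helper14's orthogonal automorphism project: an additive map of
`W = ⟨e, f⟩^⊥` commuting with the Siegel elements `E(u, s)` of the totally singular lines of `W`
is a scalar on `W`.  (Only `lam = mu = 1` and `l = E(u, s)` with `u, s ∈ W` are used.)
-/

set_option autoImplicit false

namespace Cfsg.Agent.Lib.Helper95_OrthComm

open Module Cfsg.Agent.Lib.Helper14_OmegaSimple Cfsg.Agent.Lib.Helper14_OrthAut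
  Cfsg.Agent.Lib.Helper95_OrthW

variable {F V : Type*} [Field F] [AddCommGroup V] [Module F V] [FiniteDimensional F V]
variable {Q : QuadraticForm F V}

set_option linter.unusedVariables false in
/-- PC-comm -/
theorem commutant (hH : Hyp Q) {e f : V} (he : Q e = 0) (hf : Q f = 0)
    (hef : QuadraticMap.polar (⇑Q) e f = 1) (φ : V → V)
    (hmaps : ∀ w ∈ Wp Q e f, φ w ∈ Wp Q e f)
    (hadd : ∀ w ∈ Wp Q e f, ∀ w' ∈ Wp Q e f, φ (w + w') = φ w + φ w')
    (hcomm : ∀ l ∈ T Q, ∀ lam mu : F, l e = lam • e → l f = mu • f →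
      ∀ w ∈ Wp Q e f, φ (lam • l w) = lam • l (φ w)) :
    ∃ k : F, ∀ w ∈ Wp Q e f, φ w = k • w := by
  have hnd := ndOn_Wp hH.nd he hf hef
  obtain ⟨a, b, haW, hbW, hab⟩ := exists_tsline_Wp hH he hf hef
  have ha : Q a = 0 := hab.1
  have hb : Q b = 0 := hab.2.1
  have hpab : QuadraticMap.polar (⇑Q) a b = 0 := hab.2.2.1
  have ha0 : a ≠ 0 := hab.2.2.2.1
  have hbn : b ∉ Submodule.span F {a} := hab.2.2.2.2
  have hφ0 : φ 0 = 0 := by
    have h := hadd 0 (Wp Q e f).zero_mem 0 (Wp Q e f).zero_mem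
    rw [add_zero] at h
    exact left_eq_add.mp h
  -- Step C0: commuting with the Siegel element of a totally singular line of `W`
  have hC0 : ∀ u' ∈ Wp Q e f, ∀ s' ∈ Wp Q e f, Q u' = 0 → Q s' = 0 →
      QuadraticMap.polar (⇑Q) u' s' = 0 → ∀ w ∈ Wp Q e f,
      φ (w + QuadraticMap.polar (⇑Q) w u' • s' - QuadraticMap.polar (⇑Q) w s' • u') =
        φ w + QuadraticMap.polar (⇑Q) (φ w) u' • s' - QuadraticMap.polar (⇑Q) (φ w) s' • u' := by
    intro u' hu'W s' hs'W hu' hs' hus' w hw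
    have hl : E Q u' s' ∈ T Q := root_mem_T Q hu' hs' hus'
    have hfix : ∀ x : V, QuadraticMap.polar (⇑Q) u' x = 0 → QuadraticMap.polar (⇑Q) s' x = 0 →
        E Q u' s' x = (1 : F) • x := by
      intro x h1 h2
      rw [E_apply Q hu' hus', QuadraticMap.polar_comm (⇑Q) x u', QuadraticMap.polar_comm (⇑Q) x s',
        h1, h2]
      simp
    have hle := hfix e (mem_Wp.1 hu'W).1 (mem_Wp.1 hs'W).1
    have hlf := hfix f (mem_Wp.1 hu'W).2 (mem_Wp.1 hs'W).2
    have h := hcomm (E Q u' s') hl 1 1 hle hlf w hw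
    rw [one_smul, one_smul, E_apply Q hu' hus', E_apply Q hu' hus', hs'] at h
    simpa using h
  -- Step C1: singular vectors are eigenvectors
  have hC1 : ∀ s ∈ Wp Q e f, s ≠ 0 → Q s = 0 → ∃ k : F, φ s = k • s := by
    intro s hsW hs0 hs
    obtain ⟨t, htW, ht, hst⟩ := exists_partner hnd hsW hs0 hs
    have hnd₂ := ndOn_inf_Wp hnd hsW htW hs ht hst
    obtain ⟨u, huW₂, hu0, hu⟩ := exists_singular_perp haW hbW hab hsW hs hst
    obtain ⟨t₂, ht₂W₂, ht₂, hut₂⟩ := exists_partner hnd₂ huW₂ hu0 hu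
    have hus : QuadraticMap.polar (⇑Q) u s = 0 := (mem_Wp.1 huW₂.2).1
    have ht₂s : QuadraticMap.polar (⇑Q) t₂ s = 0 := (mem_Wp.1 ht₂W₂.2).1
    have ht₂u : QuadraticMap.polar (⇑Q) t₂ u = 1 := by rw [QuadraticMap.polar_comm, hut₂]
    have h1 := hC0 u huW₂.1 s hsW hu hs hus t₂ ht₂W₂.1
    rw [ht₂u, ht₂s, one_smul, zero_smul, sub_zero, hadd t₂ ht₂W₂.1 s hsW] at h1
    have h2 := hC0 t₂ ht₂W₂.1 s hsW ht₂ hs ht₂s u huW₂.1
    rw [hut₂, hus, one_smul, zero_smul, sub_zero, hadd u huW₂.1 s hsW] at h2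
    -- `φ s = α • s - β • u = α' • s - β' • t₂`
    have e1 : φ s = QuadraticMap.polar (⇑Q) (φ t₂) u • s - QuadraticMap.polar (⇑Q) (φ t₂) s • u := by
      have := add_left_cancel (a := φ t₂) (b := φ s)
        (c := QuadraticMap.polar (⇑Q) (φ t₂) u • s - QuadraticMap.polar (⇑Q) (φ t₂) s • u)
        (by rw [h1]; abel)
      exact this
    have e2 : φ s = QuadraticMap.polar (⇑Q) (φ u) t₂ • s - QuadraticMap.polar (⇑Q) (φ u) s • t₂ := by
      have := add_left_cancel (a := φ u) (b := φ s)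
        (c := QuadraticMap.polar (⇑Q) (φ u) t₂ • s - QuadraticMap.polar (⇑Q) (φ u) s • t₂)
        (by rw [h2]; abel)
      exact this
    have p1 : QuadraticMap.polar (⇑Q) (φ s) t₂ = -QuadraticMap.polar (⇑Q) (φ t₂) s := by
      rw [e1, QuadraticMap.polar_sub_left, QuadraticMap.polar_smul_left,
        QuadraticMap.polar_smul_left, QuadraticMap.polar_comm (⇑Q) s t₂, ht₂s, hut₂]
      simp
    have p2 : QuadraticMap.polar (⇑Q) (φ s) t₂ = 0 := by
      rw [e2, QuadraticMap.polar_sub_left, QuadraticMap.polar_smul_left,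
        QuadraticMap.polar_smul_left, QuadraticMap.polar_comm (⇑Q) s t₂, ht₂s,
        polar_self_of_singular ht₂]
      simp
    have hβ : QuadraticMap.polar (⇑Q) (φ t₂) s = 0 := by
      rw [p2] at p1
      exact neg_eq_zero.mp p1.symm
    refine ⟨QuadraticMap.polar (⇑Q) (φ t₂) u, ?_⟩
    rw [e1, hβ, zero_smul, sub_zero]
  -- Step C2: perpendicular independent singular vectors have the same eigenvalue
  have hC2 : ∀ s ∈ Wp Q e f, ∀ s' ∈ Wp Q e f, s ≠ 0 → Q s = 0 → Q s' = 0 →
      QuadraticMap.polar (⇑Q) s s' = 0 → s' ∉ Submodule.span F {s} →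
      ∀ k k' : F, φ s = k • s → φ s' = k' • s' → k = k' := by
    intro s hsW s' hs'W hs0 hs hs' hss' hs'n k k' hk hk'
    have hsum0 : s + s' ≠ 0 := by
      intro h
      apply hs'n
      rw [Submodule.mem_span_singleton]
      exact ⟨-1, by rw [neg_smul, one_smul]; exact (eq_neg_of_add_eq_zero_right h).symm⟩
    have hsumQ : Q (s + s') = 0 := by rw [Q_add, hs, hs', hss']; simp
    obtain ⟨k'', hk''⟩ := hC1 (s + s') ((Wp Q e f).add_mem hsW hs'W) hsum0 hsumQ
    rw [hadd s hsW s' hs'W, hk, hk', smul_add] at hk''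
    have h1 : (k'' - k) • s = (k' - k'') • s' := by
      rw [sub_smul, sub_smul, sub_eq_sub_iff_add_eq_add, ← hk'', add_comm]
    have h2 : k' = k'' := by
      by_contra hne
      apply hs'n
      rw [Submodule.mem_span_singleton]
      refine ⟨(k' - k'')⁻¹ * (k'' - k), ?_⟩
      rw [mul_smul, h1, smul_smul, inv_mul_cancel₀ (sub_ne_zero.mpr hne), one_smul]
    rw [h2, sub_self, zero_smul] at h1
    have h3 : k'' - k = 0 := by
      rcases smul_eq_zero.mp h1 with h | h
      · exact h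
      · exact absurd h hs0
    rw [h2]
    exact (sub_eq_zero.mp h3).symm
  -- Step C3: all eigenvalues agree with that of `a`
  obtain ⟨k₀, hk₀⟩ := hC1 a haW ha0 ha
  have hb0 : b ≠ 0 := fun h => hbn (by rw [h]; exact Submodule.zero_mem _)
  obtain ⟨kb, hkb⟩ := hC1 b hbW hb0 hb
  have hk₀b : k₀ = kb := hC2 a haW b hbW ha0 ha hb hpab hbn k₀ kb hk₀ hkb
  have hC3 : ∀ s ∈ Wp Q e f, s ≠ 0 → Q s = 0 → φ s = k₀ • s := by
    intro s hsW hs0 hs
    obtain ⟨k, hk⟩ := hC1 s hsW hs0 hs
    rw [hk]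
    congr 1
    by_cases has : QuadraticMap.polar (⇑Q) a s = 0
    · by_cases hmem : s ∈ Submodule.span F {a}
      · -- `s` is a multiple of `a`: go through `b`
        obtain ⟨c, hc⟩ := Submodule.mem_span_singleton.mp hmem
        have hc0 : c ≠ 0 := by
          rintro rfl
          rw [zero_smul] at hc
          exact hs0 hc.symm
        have hsb : QuadraticMap.polar (⇑Q) s b = 0 := by
          rw [← hc, QuadraticMap.polar_smul_left, hpab, smul_zero]
        have hbns : b ∉ Submodule.span F {s} := by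
          intro h
          obtain ⟨d, hd⟩ := Submodule.mem_span_singleton.mp h
          apply hbn
          rw [Submodule.mem_span_singleton]
          exact ⟨d * c, by rw [← hd, ← hc, smul_smul]⟩
        rw [hk₀b]
        exact hC2 s hsW b hbW hs0 hs hb hsb hbns k kb hk hkb
      · exact (hC2 a haW s hsW ha0 ha hs has hmem k₀ k hk₀ hk).symm
    · -- `a` and `s` span a hyperbolic plane: go through its complement
      obtain ⟨t, htdef⟩ : ∃ t, t = (QuadraticMap.polar (⇑Q) a s)⁻¹ • s := ⟨_, rfl⟩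
      have hat : QuadraticMap.polar (⇑Q) a t = 1 := by
        rw [htdef, QuadraticMap.polar_smul_right, smul_eq_mul, inv_mul_cancel₀ has]
      have hst : s = QuadraticMap.polar (⇑Q) a s • t := by
        rw [htdef, smul_smul, mul_inv_cancel₀ has, one_smul]
      obtain ⟨y, hyW₂, hy0, hy⟩ := exists_singular_perp haW hbW hab haW ha hat
      have hya : QuadraticMap.polar (⇑Q) y a = 0 := (mem_Wp.1 hyW₂.2).1
      have hyt : QuadraticMap.polar (⇑Q) y t = 0 := (mem_Wp.1 hyW₂.2).2
      obtain ⟨ky, hky⟩ := hC1 y hyW₂.1 hy0 hy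
      have hyna : y ∉ Submodule.span F {a} := by
        intro h
        obtain ⟨c, hc⟩ := Submodule.mem_span_singleton.mp h
        have h1 := hyt
        rw [← hc, QuadraticMap.polar_smul_left, hat, smul_eq_mul, mul_one] at h1
        rw [h1, zero_smul] at hc
        exact hy0 hc.symm
      have hay : QuadraticMap.polar (⇑Q) a y = 0 := by rw [QuadraticMap.polar_comm, hya]
      have h1 : k₀ = ky := hC2 a haW y hyW₂.1 ha0 ha hy hay hyna k₀ ky hk₀ hky
      have hys : QuadraticMap.polar (⇑Q) y s = 0 := by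
        rw [hst, QuadraticMap.polar_smul_right, hyt, smul_zero]
      have hsny : s ∉ Submodule.span F {y} := by
        intro h
        obtain ⟨c, hc⟩ := Submodule.mem_span_singleton.mp h
        apply has
        rw [← hc, QuadraticMap.polar_smul_right, hay, smul_zero]
      have h2 : ky = k := hC2 y hyW₂.1 s hsW hy0 hy hs hys hsny ky k hky hk
      rw [h1, h2]
  -- Step C4: `W` is additively generated by its singular vectors
  obtain ⟨v, hvW, hv, hav⟩ := exists_partner hnd haW ha0 ha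
  let N : AddSubgroup V :=
    { carrier := {x | x ∈ Wp Q e f ∧ φ x = k₀ • x}
      add_mem' := by
        rintro x y ⟨hx, hx'⟩ ⟨hy, hy'⟩
        exact ⟨(Wp Q e f).add_mem hx hy, by rw [hadd x hx y hy, hx', hy', smul_add]⟩
      zero_mem' := ⟨(Wp Q e f).zero_mem, by rw [hφ0, smul_zero]⟩
      neg_mem' := by
        rintro x ⟨hx, hx'⟩
        refine ⟨(Wp Q e f).neg_mem hx, ?_⟩
        have h := hadd x hx (-x) ((Wp Q e f).neg_mem hx)
        rw [add_neg_cancel, hφ0, hx'] at h
        rw [smul_neg]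
        exact (neg_eq_of_add_eq_zero_right h.symm).symm }
  have hNmem : ∀ x, x ∈ N ↔ x ∈ Wp Q e f ∧ φ x = k₀ • x := fun x => Iff.rfl
  have hall : ∀ x ∈ Wp Q e f, x ∈ N := by
    apply mem_addSubgroup_of_singular_mem haW hvW ha hv hav
    intro y hyW hy
    rw [hNmem]
    refine ⟨hyW, ?_⟩
    by_cases hy0 : y = 0
    · rw [hy0, hφ0, smul_zero]
    · exact hC3 y hyW hy0 hy
  exact ⟨k₀, fun w hw => ((hNmem w).1 (hall w hw)).2⟩

end Cfsg.Agent.Lib.Helper95_OrthComm
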