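import Mathlib
import Cfsg.Agent.Lib.Helper95_OrthW

/-!
# A semilinear bijection of `⟨e, f⟩^⊥` preserving singular vectors is conformal (helper95)

Package PC-conf of helper14's orthogonal automorphism project: if `A` is a `τ`-semilinear
surjection of `W = ⟨e, f⟩^⊥` mapping singular vectors to singular vectors then
`Q (A w) = c * τ (Q w)` on `W` for a constant `c ≠ 0`.
-/

set_option autoImplicit false

namespace Cfsg.Agent.Lib.Helper95_OrthConf

open Module Cfsg.Agent.Lib.Helper14_OmegaSimple Cfsg.Agent.Lib.Helper14_OrthAut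
  Cfsg.Agent.Lib.Helper95_OrthW

variable {F V : Type*} [Field F] [AddCommGroup V] [Module F V] [FiniteDimensional F V]
variable {Q : QuadraticForm F V}

set_option linter.unusedVariables false in
/-- PC-conf -/
theorem conformal (hH : Hyp Q) {e f : V} (he : Q e = 0) (hf : Q f = 0)
    (hef : QuadraticMap.polar (⇑Q) e f = 1) (τ : F →+* F) (A : V → V)
    (hmaps : ∀ w ∈ Wp Q e f, A w ∈ Wp Q e f)
    (hsurj : ∀ w ∈ Wp Q e f, ∃ w' ∈ Wp Q e f, A w' = w)
    (hadd : ∀ w ∈ Wp Q e f, ∀ w' ∈ Wp Q e f, A (w + w') = A w + A w')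
    (hsmul : ∀ (a : F), ∀ w ∈ Wp Q e f, A (a • w) = τ a • A w)
    (hsing : ∀ w ∈ Wp Q e f, Q w = 0 → Q (A w) = 0) :
    ∃ c : F, c ≠ 0 ∧ ∀ w ∈ Wp Q e f, Q (A w) = c * τ (Q w) := by
  have hnd := ndOn_Wp hH.nd he hf hef
  obtain ⟨u, b, huW, hbW, hub⟩ := exists_tsline_Wp hH he hf hef
  have hu : Q u = 0 := hub.1
  have hu0 : u ≠ 0 := hub.2.2.2.1
  obtain ⟨v, hvW, hv, huv⟩ := exists_partner hnd huW hu0 hu
  have hvu : QuadraticMap.polar (⇑Q) v u = 1 := by rw [QuadraticMap.polar_comm, huv]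
  have hnd₂ := ndOn_inf_Wp hnd huW hvW hu hv huv
  obtain ⟨s, hsW₂, hs0, hs⟩ := exists_singular_perp huW hbW hub huW hu huv
  obtain ⟨t, htW₂, ht, hst⟩ := exists_partner hnd₂ hsW₂ hs0 hs
  -- Lemma A: perpendicular singular vectors have perpendicular images
  have hA : ∀ y ∈ Wp Q e f, ∀ z ∈ Wp Q e f, Q y = 0 → Q z = 0 →
      QuadraticMap.polar (⇑Q) y z = 0 → QuadraticMap.polar (⇑Q) (A y) (A z) = 0 := by
    intro y hy z hz hQy hQz hyz
    have h1 : Q (y + z) = 0 := by rw [Q_add, hQy, hQz, hyz]; simp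
    have h2 := hsing (y + z) ((Wp Q e f).add_mem hy hz) h1
    rw [hadd y hy z hz, Q_add, hsing y hy hQy, hsing z hz hQz] at h2
    simpa using h2
  -- the submodule of vectors of `W` whose image is perpendicular to the image of `z`
  have hN : ∀ z : V, ∃ N : Submodule F V, ∀ x, x ∈ N ↔
      x ∈ Wp Q e f ∧ QuadraticMap.polar (⇑Q) (A x) (A z) = 0 := by
    intro z
    refine ⟨{ carrier := {x | x ∈ Wp Q e f ∧ QuadraticMap.polar (⇑Q) (A x) (A z) = 0}
              add_mem' := ?_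
              zero_mem' := ?_
              smul_mem' := ?_ }, fun x => Iff.rfl⟩
    · rintro x y ⟨hx, hx'⟩ ⟨hy, hy'⟩
      refine ⟨(Wp Q e f).add_mem hx hy, ?_⟩
      rw [hadd x hx y hy, QuadraticMap.polar_add_left, hx', hy', add_zero]
    · refine ⟨(Wp Q e f).zero_mem, ?_⟩
      have h0 : A 0 = 0 := by
        have := hsmul 0 0 (Wp Q e f).zero_mem
        rw [zero_smul, map_zero, zero_smul] at this
        exact this
      rw [h0]
      simp [QuadraticMap.polar]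
    · rintro c x ⟨hx, hx'⟩
      refine ⟨(Wp Q e f).smul_mem c hx, ?_⟩
      rw [hsmul c x hx, QuadraticMap.polar_smul_left, hx', smul_zero]
  -- Lemma B: `x ⊥ z` implies `A x ⊥ A z`, for `z = u` and `z = v`
  have hB : ∀ z z' : V, z ∈ Wp Q e f → z' ∈ Wp Q e f → Q z = 0 → Q z' = 0 →
      QuadraticMap.polar (⇑Q) z z' = 1 → Wp Q e f ⊓ Wp Q z z' = Wp Q e f ⊓ Wp Q u v →
      ∀ x ∈ Wp Q e f, QuadraticMap.polar (⇑Q) x z = 0 →
        QuadraticMap.polar (⇑Q) (A x) (A z) = 0 := by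
    intro z z' hzW hz'W hz hz' hzz' hWeq x hx hxz
    obtain ⟨N, hNmem⟩ := hN z
    have hW₂N : ∀ y ∈ Wp Q e f ⊓ Wp Q u v, y ∈ N := by
      apply mem_of_singular_mem hsW₂ htW₂ hs ht hst
      intro y hy hQy
      rw [hNmem]
      refine ⟨hy.1, hA y hy.1 z hzW hQy hz ?_⟩
      rw [← hWeq] at hy
      exact (mem_Wp.1 hy.2).1
    have hzN : z ∈ N := by
      rw [hNmem]
      exact ⟨hzW, hA z hzW z hzW hz hz (polar_self_of_singular hz)⟩
    have hxN : x ∈ N := by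
      rw [eq_add_projH (Q := Q) z z' x, hxz, zero_smul, add_zero]
      refine N.add_mem (N.smul_mem _ hzN) (hW₂N _ ?_)
      rw [← hWeq]
      exact ⟨projH_mem_of_mem hzW hz'W hx, projH_mem hz hz' hzz' x⟩
    exact ((hNmem x).1 hxN).2
  have hBu := hB u v huW hvW hu hv huv rfl
  have hBv := hB v u hvW huW hv hu hvu (by
    congr 1
    ext x
    rw [mem_Wp, mem_Wp]
    exact and_comm)
  obtain ⟨c, hc⟩ : ∃ c, c = QuadraticMap.polar (⇑Q) (A u) (A v) := ⟨_, rfl⟩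
  have hQAu : Q (A u) = 0 := hsing u huW hu
  have hQAv : Q (A v) = 0 := hsing v hvW hv
  -- Step D: on `W₂`
  have hD : ∀ w ∈ Wp Q e f ⊓ Wp Q u v, Q (A w) = c * τ (Q w) := by
    intro w hw
    have hwu : QuadraticMap.polar (⇑Q) w u = 0 := (mem_Wp.1 hw.2).1
    have hwv : QuadraticMap.polar (⇑Q) w v = 0 := (mem_Wp.1 hw.2).2
    have h1 := singular_of_pair hu hv huv hw.2
    have hmem1 : w + (-Q w) • u ∈ Wp Q e f :=
      (Wp Q e f).add_mem hw.1 ((Wp Q e f).smul_mem _ huW)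
    have h2 := hsing _ ((Wp Q e f).add_mem hmem1 hvW) h1
    rw [hadd _ hmem1 v hvW, hadd w hw.1 _ ((Wp Q e f).smul_mem _ huW), hsmul _ u huW, Q_three,
      hQAu, hQAv, hBu w hw.1 hwu, hBv w hw.1 hwv, ← hc, map_neg] at h2
    linear_combination h2
  -- Step E: on `W`
  have hE : ∀ x ∈ Wp Q e f, Q (A x) = c * τ (Q x) := by
    intro x hx
    obtain ⟨w, hw⟩ : ∃ w, w = projH Q u v x := ⟨_, rfl⟩
    have hwW₂ : w ∈ Wp Q e f ⊓ Wp Q u v := by
      rw [hw]
      exact ⟨projH_mem_of_mem huW hvW hx, projH_mem hu hv huv x⟩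
    have hwu : QuadraticMap.polar (⇑Q) w u = 0 := (mem_Wp.1 hwW₂.2).1
    have hwv : QuadraticMap.polar (⇑Q) w v = 0 := (mem_Wp.1 hwW₂.2).2
    obtain ⟨α, hα⟩ : ∃ α, α = QuadraticMap.polar (⇑Q) x v := ⟨_, rfl⟩
    obtain ⟨β, hβ⟩ : ∃ β, β = QuadraticMap.polar (⇑Q) x u := ⟨_, rfl⟩
    have hx' : x = α • u + β • v + w := by
      rw [hα, hβ, hw]
      exact eq_add_projH u v x
    have hmem1 : α • u + β • v ∈ Wp Q e f :=
      (Wp Q e f).add_mem ((Wp Q e f).smul_mem _ huW) ((Wp Q e f).smul_mem _ hvW)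
    have hQx : Q x = α * β + Q w := by
      rw [hx', Q_three', hu, hv, huv, QuadraticMap.polar_comm (⇑Q) u w,
        QuadraticMap.polar_comm (⇑Q) v w, hwu, hwv]
      ring
    have hAx : A x = τ α • A u + τ β • A v + A w := by
      rw [hx', hadd _ hmem1 w hwW₂.1, hadd _ ((Wp Q e f).smul_mem _ huW) _
        ((Wp Q e f).smul_mem _ hvW), hsmul α u huW, hsmul β v hvW]
    rw [hAx, Q_three', hQAu, hQAv, ← hc, hD w hwW₂, QuadraticMap.polar_comm (⇑Q) (A u) (A w),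
      QuadraticMap.polar_comm (⇑Q) (A v) (A w), hBu w hwW₂.1 hwu, hBv w hwW₂.1 hwv, hQx, map_add,
      map_mul]
    ring
  refine ⟨c, ?_, hE⟩
  -- `c ≠ 0`
  intro hc0
  obtain ⟨w', hw'W, hw'⟩ := hsurj (u + v) ((Wp Q e f).add_mem huW hvW)
  have h1 := hE w' hw'W
  rw [hw', Q_add, hu, hv, huv, hc0] at h1
  simp at h1

end Cfsg.Agent.Lib.Helper95_OrthConf
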