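import Mathlib
import Cfsg.Agent.Lib.Helper14_OrthLocal11
import Cfsg.Agent.Lib.Helper14_OrthLocal7
import Cfsg.Agent.Lib.Helper95_OrthComm
import Cfsg.Agent.Lib.Helper95_OrthConf

/-!
# Orthogonal groups: the generic automorphism theorem (helper14)

`main_generic_orth`: let `𝒜` be a subgroup of `Aut(PΩ(Q))` containing the automorphisms induced by
all similitudes and, for every field automorphism `τ`, the automorphism induced by some
`τ`-semilinear semisimilarity.  Assume that automorphisms permute the radicals `R_e` (`hrad`) and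
preserve long root elements (`hroot`).  Then `𝒜` is everything.
-/

set_option autoImplicit false
set_option linter.unusedSectionVars false
set_option linter.unusedVariables false

namespace Cfsg.Agent.Lib.Helper14_OrthLocal12

open Module Cfsg.Agent.Lib.Helper14_OmegaSimple Cfsg.Agent.Lib.Helper14_OrthAut
  Cfsg.Agent.Lib.Helper94_OrthSmall Cfsg.Agent.Lib.Helper44_QuadClass
  Cfsg.Agent.Lib.Helper94_Symp Cfsg.Agent.Lib.Helper14_OrthLocal1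
  Cfsg.Agent.Lib.Helper14_OrthLocal2 Cfsg.Agent.Lib.Helper14_OrthLocal3
  Cfsg.Agent.Lib.Helper14_OrthLocal4 Cfsg.Agent.Lib.Helper14_OrthLocal5
  Cfsg.Agent.Lib.Helper14_OrthLocal6 Cfsg.Agent.Lib.Helper14_OrthLocal7
  Cfsg.Agent.Lib.Helper14_OrthLocal8 Cfsg.Agent.Lib.Helper14_OrthLocal9
  Cfsg.Agent.Lib.Helper14_OrthLocal10 Cfsg.Agent.Lib.Helper14_OrthLocal11

variable {F V : Type*} [Field F] [AddCommGroup V] [Module F V]
variable {Q : QuadraticForm F V} {𝔾 : Type*} [Group 𝔾] {mk : ↥(T Q) →* 𝔾}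

set_option quotPrecheck false in
local notation "P" => QuadraticMap.polar (⇑Q)

/-- The commutant property holds under the standing hypotheses (helper95). -/
lemma commutant_of_hyp [FiniteDimensional F V] (hH : Hyp Q) {e f : V} (h : HypPair Q e f) :
    Commutant Q e f :=
  fun φ hmaps hadd hcomm =>
    Cfsg.Agent.Lib.Helper95_OrthComm.commutant hH h.ee h.ff h.ef φ hmaps hadd hcomm

/-- **Generic automorphism theorem for orthogonal groups.** -/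
theorem main_generic_orth [Finite F] [FiniteDimensional F V] [Finite 𝔾] (hH : Hyp Q)
    (hsurj : Function.Surjective mk) (hker : mk.ker = Subgroup.center ↥(T Q))
    (hrad : ∀ (α : 𝔾 ≃* 𝔾) (e : V), e ≠ 0 → Q e = 0 →
      ∃ e' : V, e' ≠ 0 ∧ Q e' = 0 ∧ α '' radSet mk e = radSet mk e')
    (hroot : ∀ (α : 𝔾 ≃* 𝔾) (t : 𝔾), IsRoot mk t → IsRoot mk (α t))
    (𝒜 : Subgroup (MulAut 𝔾))
    (H1 : ∀ (g : V ≃ₗ[F] V) (c : F), c ≠ 0 → (∀ x, Q (g x) = c * Q x) →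
      ∃ φ ∈ 𝒜, SemiAut mk φ (RingHom.id F) g c)
    (H2 : ∀ τ : F ≃+* F, ∃ φ ∈ 𝒜, ∃ (Φ : V → V) (c : F), SemiAut mk φ (τ : F →+* F) Φ c)
    (α : MulAut 𝔾) : α ∈ 𝒜 := by
  have hQ := hH.nd
  have hdim : 5 ≤ finrank F V := by have := hH.dim; omega
  have hk : KerScalar mk := kerScalar_of_ker hQ hdim hker
  obtain ⟨e, he0, hQe⟩ := exists_singular Q (by omega : 3 ≤ finrank F V)
  obtain ⟨f, hQf, hef⟩ := exists_hyperbolic_partner Q hQ he0 hQe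
  have h : HypPair Q e f := ⟨hQe, hQf, hef⟩
  have hf0 := h.f_ne
  -- Step 1: normalise by an element of `T`
  obtain ⟨e', he'0, hQe', hαe⟩ := hrad α e he0 hQe
  obtain ⟨f', hf'0, hQf', hαf⟩ := hrad α f hf0 hQf
  have hne : P e' f' ≠ 0 := by
    intro h0
    obtain ⟨t, hte, htf, ht1⟩ := rad_inter_nontrivial hQ hdim hk he'0 hf'0 hQe' hQf' h0
    rw [← hαe] at hte
    rw [← hαf] at htf
    obtain ⟨t₁, ht₁, rfl⟩ := hte
    obtain ⟨t₂, ht₂, h12⟩ := htf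
    have : t₂ = t₁ := α.injective h12
    rw [this] at ht₂
    have := rad_inter_trivial hQ hdim hk h ht₁ ht₂
    rw [this, map_one] at ht1
    exact ht1 rfl
  obtain ⟨g, hgT, k, k', hk0, hk'0, hge, hgf⟩ := exists_T_map_pair hQ hdim h hQe' hQf' hne
  have hgO := T_le_oG Q hgT
  obtain ⟨φg, hφg𝒜, hφg⟩ := H1 g 1 one_ne_zero (fun x => by rw [hgO x, one_mul])
  obtain ⟨α₁, hα₁def⟩ : ∃ α₁ : MulAut 𝔾, α₁ = φg * α := ⟨_, rfl⟩
  have hα₁ : Norm mk e f α₁ := by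
    refine ⟨?_, ?_, ?_⟩
    · intro t ht
      have h1 : α t ∈ radSet mk e' := by rw [← hαe]; exact Set.mem_image_of_mem α ht
      have h2 := hφg.rad_mapsTo hQ hdim hQe' _ h1
      rw [hge, radSet_smul hQe hk0] at h2
      rw [hα₁def]
      exact h2
    · intro t ht
      have h1 : α t ∈ radSet mk f' := by rw [← hαf]; exact Set.mem_image_of_mem α ht
      have h2 := hφg.rad_mapsTo hQ hdim hQf' _ h1
      rw [hgf, radSet_smul hQf hk'0] at h2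
      rw [hα₁def]
      exact h2
    · intro t ht
      rw [hα₁def]
      exact hφg.root_mapsTo hQ hdim _ (hroot α t ht)
  suffices hα₁𝒜 : α₁ ∈ 𝒜 by
    have : α = φg⁻¹ * α₁ := by rw [hα₁def, inv_mul_cancel_left]
    rw [this]
    exact 𝒜.mul_mem (𝒜.inv_mem hφg𝒜) hα₁𝒜
  -- Step 2: normalise by a field automorphism
  obtain ⟨A₁, hA₁⟩ := exists_isInd h hα₁.re
  obtain ⟨τ₁, hτ₁⟩ := exists_semilinear hQ hdim hk hsurj h (commutant_of_hyp hH h) hα₁ hA₁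
  have hτ₁bij : Function.Bijective τ₁ := Finite.injective_iff_bijective.mp τ₁.injective
  obtain ⟨φ, hφ𝒜, Φ, c, hΦ⟩ := H2 (RingEquiv.ofBijective τ₁ hτ₁bij)
  have hQΦe : Q (Φ e) = 0 := by rw [hΦ.form, hQe, map_zero, mul_zero]
  have hQΦf : Q (Φ f) = 0 := by rw [hΦ.form, hQf, map_zero, mul_zero]
  have hPΦ : P (Φ e) (Φ f) ≠ 0 := by
    rw [hΦ.polar, hef, map_one, mul_one]
    exact hΦ.c_ne
  obtain ⟨k₂, hk₂T, a₀, d₀, ha₀, hd₀, hk₂e, hk₂f⟩ :=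
    exists_T_map_pair hQ hdim h hQΦe hQΦf hPΦ
  have hk₂O := T_le_oG Q hk₂T
  obtain ⟨φk, hφk𝒜, hφk⟩ := H1 k₂ 1 one_ne_zero (fun x => by rw [hk₂O x, one_mul])
  have hγ := hφk.comp hΦ
  obtain ⟨γ, hγdef⟩ : ∃ γ : MulAut 𝔾, γ = φk * φ := ⟨_, rfl⟩
  rw [← hγdef] at hγ
  have hγe : ((k₂ : V → V) ∘ Φ) e = a₀ • e := by rw [Function.comp_apply, hk₂e]
  have hγf : ((k₂ : V → V) ∘ Φ) f = d₀ • f := by rw [Function.comp_apply, hk₂f]
  obtain ⟨hγN, hγI⟩ := hγ.norm_isInd hQ hdim h ha₀ hd₀ hγe hγf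
  obtain ⟨α₂, hα₂def⟩ : ∃ α₂ : MulAut 𝔾, α₂ = γ⁻¹ * α₁ := ⟨_, rfl⟩
  have hα₂ : Norm mk e f α₂ := by
    rw [hα₂def]
    exact Norm.mul hγN.symm hα₁
  suffices hα₂𝒜 : α₂ ∈ 𝒜 by
    have : α₁ = γ * α₂ := by rw [hα₂def, mul_inv_cancel_left]
    rw [this]
    refine 𝒜.mul_mem ?_ hα₂𝒜
    rw [hγdef]
    exact 𝒜.mul_mem hφk𝒜 hφ𝒜
  obtain ⟨A₂, hA₂⟩ := exists_isInd h hα₂.re
  have hA₂m : ∀ w ∈ Wp Q e f, A₂ w ∈ Wp Q e f := fun w hw => (hA₂ w hw).1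
  obtain ⟨Aγ, hAγ⟩ : ∃ Aγ : V → V, Aγ = fun w => (a₀ * (1 * (RingHom.id F) c)⁻¹) •
      ((k₂ : V → V) ∘ Φ) w := ⟨_, rfl⟩
  rw [← hAγ] at hγI
  have hrel : ∀ w ∈ Wp Q e f, A₁ w = Aγ (A₂ w) := by
    intro w hw
    exact IsInd.comp_apply hQ hdim hk h hγI hA₂ hA₁ (fun t => by
      have h5 : α₁ = γ * α₂ := by rw [hα₂def, mul_inv_cancel_left]
      rw [h5]; rfl) hw
  have hAγsmul : ∀ (a : F) x, Aγ (a • x) = τ₁ a • Aγ x := by
    intro a x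
    rw [hAγ]
    simp only [Function.comp_apply]
    rw [hΦ.smul, map_smul, smul_comm]
    rfl
  have hAγinj : Function.Injective Aγ := by
    intro x y hxy
    rw [hAγ] at hxy
    simp only [Function.comp_apply] at hxy
    have hne0 : a₀ * (1 * (RingHom.id F) c)⁻¹ ≠ 0 := by
      apply mul_ne_zero ha₀
      apply inv_ne_zero
      rw [one_mul]
      exact hΦ.c_ne
    have h1 := smul_right_injective V hne0 hxy
    exact hΦ.injective (k₂.injective h1)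
  have hlin₂ : ∀ (a : F), ∀ w ∈ Wp Q e f, A₂ (a • w) = a • A₂ w := by
    intro a w hw
    apply hAγinj
    have e1 := hrel (a • w) ((Wp Q e f).smul_mem a hw)
    have e2 := hrel w hw
    rw [hτ₁ a w hw, e2] at e1
    rw [← e1, hAγsmul]
  have hadd₂ : ∀ w ∈ Wp Q e f, ∀ w' ∈ Wp Q e f, A₂ (w + w') = A₂ w + A₂ w' :=
    fun w hw w' hw' => IsInd.add hQ hdim hk h hA₂ hw hw'
  -- Step 3: normalise by a similitude
  obtain ⟨A₂', hA₂'⟩ := exists_isInd h hα₂.symm.re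
  have hinv₂ : ∀ w ∈ Wp Q e f, A₂' w ∈ Wp Q e f ∧ A₂ (A₂' w) = w ∧ A₂' (A₂ w) = w :=
    fun w hw => ⟨(hA₂' w hw).1, (IsInd.symm_apply hQ hdim hk h hA₂ hA₂' hw).2,
      (IsInd.symm_apply hQ hdim hk h hA₂ hA₂' hw).1⟩
  have hsing₂ : ∀ w ∈ Wp Q e f, Q w = 0 → Q (A₂ w) = 0 := by
    intro w hw hQw
    by_cases hw0 : w = 0
    · have hA0 : A₂ 0 = 0 := by
        have := hadd₂ 0 (Wp Q e f).zero_mem 0 (Wp Q e f).zero_mem
        rw [add_zero] at this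
        exact left_eq_add.mp this
      rw [hw0, hA0, map_zero]
    · apply Q_eq_zero_of_isRoot hQ hdim hk h (hA₂m w hw)
      rw [← (hA₂ w hw).2]
      exact hα₂.root _ (isRoot_E h hw hw0 hQw)
  obtain ⟨c₂, hc₂0, hsim⟩ := Cfsg.Agent.Lib.Helper95_OrthConf.conformal hH h.ee h.ff h.ef
    (RingHom.id F) A₂ hA₂m (fun w hw => ⟨A₂' w, (hinv₂ w hw).1, (hinv₂ w hw).2.1⟩) hadd₂
    (fun a w hw => by rw [hlin₂ a w hw]; rfl) hsing₂
  obtain ⟨d, hdQ, hde, hdf, hdW⟩ := exists_levi_of_similitude hQ h hA₂m hadd₂ hlin₂ hc₂0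
    (fun w hw => by rw [hsim w hw]; rfl)
  obtain ⟨φd, hφd𝒜, hφd⟩ := H1 d c₂ hc₂0 hdQ
  have hdf' : d f = (1 : F) • f := by rw [hdf, one_smul]
  obtain ⟨hdN, hdI⟩ := hφd.norm_isInd hQ hdim h hc₂0 one_ne_zero hde hdf'
  obtain ⟨α₃, hα₃def⟩ : ∃ α₃ : MulAut 𝔾, α₃ = φd⁻¹ * α₂ := ⟨_, rfl⟩
  have hα₃ : Norm mk e f α₃ := by
    rw [hα₃def]
    exact Norm.mul hdN.symm hα₂
  suffices hα₃𝒜 : α₃ ∈ 𝒜 by
    have : α₂ = φd * α₃ := by rw [hα₃def, mul_inv_cancel_left]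
    rw [this]
    exact 𝒜.mul_mem hφd𝒜 hα₃𝒜
  obtain ⟨A₃, hA₃⟩ := exists_isInd h hα₃.re
  have hA₃id : ∀ w ∈ Wp Q e f, A₃ w = w := by
    intro w hw
    have h1 := IsInd.comp_apply hQ hdim hk h hdI hA₃ hA₂ (fun t => by
      have h5 : α₂ = φd * α₃ := by rw [hα₃def, mul_inv_cancel_left]
      rw [h5]; rfl) hw
    change A₂ w = (c₂ * c₂⁻¹) • d (A₃ w) at h1
    rw [mul_inv_cancel₀ hc₂0, one_smul, hdW _ (hA₃ w hw).1] at h1
    have h2 := congrArg A₂' h1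
    rw [(hinv₂ w hw).2.2, (hinv₂ _ (hA₃ w hw).1).2.2] at h2
    exact h2.symm
  have hA₃' : IsInd mk e f α₃ id := IsInd.congr hA₃ hA₃id
  have f2 := fix_of_isInd_id hQ hdim hk h hα₃ hA₃'
  have f1 : ∀ w ∈ Wp Q e f, α₃ (mkT Q mk (E Q e w)) = mkT Q mk (E Q e w) :=
    fun w hw => (hA₃' w hw).2
  have h1 : α₃ = 1 := eq_one_of_fix hQ hdim hsurj h f1 f2
  rw [h1]
  exact 𝒜.one_mem

end Cfsg.Agent.Lib.Helper14_OrthLocal12
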