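import Mathlib
import Cfsg.Agent.Lib.Helper14_OrthLocal12

/-!
# Orthogonal groups: automorphisms permute root groups and radicals (helper14)

Glue between the packages PA (Sylow centres are root groups), PB (`p`-cores of centralisers of two
commuting root groups) and the local analysis: `root_image_of`, `isRoot_of`, `rad_image_of`.
The package statements enter as hypotheses `hA1`, `hA2`, `hB1`, `hB2`, `hB3`.
-/

set_option autoImplicit false
set_option linter.unusedSectionVars false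
set_option linter.unusedVariables false

namespace Cfsg.Agent.Lib.Helper14_OrthGlue

open Module Cfsg.Agent.Lib.Helper14_OmegaSimple Cfsg.Agent.Lib.Helper14_OrthAut
  Cfsg.Agent.Lib.Helper94_OrthSmall Cfsg.Agent.Lib.Helper44_QuadClass
  Cfsg.Agent.Lib.Helper94_Symp Cfsg.Agent.Lib.Helper14_OrthLocal1
  Cfsg.Agent.Lib.Helper14_OrthLocal2 Cfsg.Agent.Lib.Helper14_OrthLocal3
  Cfsg.Agent.Lib.Helper14_OrthLocal4 Cfsg.Agent.Lib.Helper14_OrthLocal5
  Cfsg.Agent.Lib.Helper14_OrthLocal6 Cfsg.Agent.Lib.Helper14_OrthLocal8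
  Cfsg.Agent.Lib.Helper14_OrthLocal10

open scoped Pointwise

variable {F V : Type*} [Field F] [AddCommGroup V] [Module F V]
variable {Q : QuadraticForm F V} {𝔾 : Type*} [Group 𝔾] {mk : ↥(T Q) →* 𝔾}

set_option quotPrecheck false in
local notation "P" => QuadraticMap.polar (⇑Q)

/-! ### Naturality -/

lemma zSet_smul {p : ℕ} [Fact p.Prime] (α : MulAut 𝔾) (S : Sylow p 𝔾) :
    zSet ((α • S : Sylow p 𝔾) : Subgroup 𝔾) = α '' zSet (S : Subgroup 𝔾) := by
  ext t
  rw [Sylow.pointwise_smul_def]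
  constructor
  · rintro ⟨ht, hcomm⟩
    rw [Subgroup.mem_pointwise_smul_iff_inv_smul_mem] at ht
    refine ⟨α⁻¹ • t, ⟨ht, fun s hs => ?_⟩, ?_⟩
    · have := hcomm (α • s) (Subgroup.smul_mem_pointwise_smul _ _ _ hs)
      have h2 := congrArg (fun x => α⁻¹ • x) this
      simpa only [smul_mul', inv_smul_smul] using h2
    · change α (α⁻¹ • t) = t
      exact smul_inv_smul α t
  · rintro ⟨u, ⟨hu, hcomm⟩, rfl⟩
    refine ⟨Subgroup.smul_mem_pointwise_smul _ _ _ hu, fun s hs => ?_⟩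
    rw [Subgroup.mem_pointwise_smul_iff_inv_smul_mem] at hs
    have := hcomm _ hs
    have h2 := congrArg (fun x => α • x) this
    simp only [smul_mul', smul_inv_smul] at h2
    exact h2

lemma map_centralizer (α : 𝔾 ≃* 𝔾) (S : Set 𝔾) :
    (Subgroup.centralizer S).map α.toMonoidHom = Subgroup.centralizer (α '' S) := by
  ext t
  constructor
  · rintro ⟨x, hx, rfl⟩
    rintro _ ⟨s, hs, rfl⟩
    change α s * α x = α x * α s
    rw [← map_mul, ← map_mul, hx s hs]
  · intro ht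
    refine ⟨α.symm t, fun s hs => ?_, α.apply_symm_apply t⟩
    apply α.injective
    rw [map_mul, map_mul, α.apply_symm_apply]
    exact ht _ ⟨s, hs, rfl⟩

lemma isMaxP_map {p : ℕ} (α : 𝔾 ≃* 𝔾) {H R : Subgroup 𝔾} (h : IsMaxP p H R) :
    IsMaxP p (H.map α.toMonoidHom) (R.map α.toMonoidHom) := by
  obtain ⟨h1, h2, h3⟩ := h
  refine ⟨Subgroup.map_mono h1, h2.map _, fun R' hR' hR'H hR'p => ?_⟩
  have e1 : R ≤ R'.comap α.toMonoidHom := by
    rw [← Subgroup.map_le_iff_le_comap]; exact hR'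
  have e2 : R'.comap α.toMonoidHom ≤ H := by
    intro x hx
    obtain ⟨y, hy, hxy⟩ := hR'H hx
    have : y = x := α.injective hxy
    rwa [← this]
  have e3 : IsPGroup p (R'.comap α.toMonoidHom) :=
    hR'p.comap_of_injective _ α.injective
  have := h3 _ e1 e2 e3
  rw [← this, Subgroup.map_comap_eq_self_of_surjective α.surjective]

lemma image_pCoreSet {p : ℕ} (α : 𝔾 ≃* 𝔾) (H : Subgroup 𝔾) :
    α '' pCoreSet p H = pCoreSet p (H.map α.toMonoidHom) := by
  ext t
  constructor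
  · rintro ⟨x, ⟨hxH, hx⟩, rfl⟩
    refine ⟨⟨x, hxH, rfl⟩, fun R hR => ?_⟩
    have h1 := isMaxP_map α.symm hR
    have h2 : (H.map α.toMonoidHom).map α.symm.toMonoidHom = H := by
      rw [Subgroup.map_map]
      convert Subgroup.map_id H
      ext y
      simp
    rw [h2] at h1
    obtain ⟨y, hy, hxy⟩ := hx _ h1
    have : α x = y := by
      have := congrArg α hxy
      rw [← this]
      exact (α.apply_symm_apply y)
    rw [this]; exact hy
  · rintro ⟨⟨x, hxH, rfl⟩, ht⟩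
    refine ⟨x, ⟨hxH, fun R hR => ?_⟩, rfl⟩
    obtain ⟨y, hy, hxy⟩ := ht _ (isMaxP_map α hR)
    have : y = x := α.injective hxy
    rwa [← this]

section fin

variable [Finite F] [FiniteDimensional F V] [Finite 𝔾]
variable {p : ℕ} [Fact p.Prime]

/-- Automorphisms permute the images of the long root groups. -/
theorem root_image_of
    (hA1 : ∀ S : Sylow p 𝔾, ∃ u s : V, TSLine Q u s ∧ zSet (S : Subgroup 𝔾) = rootSet mk u s)
    (hA2 : ∀ u s : V, TSLine Q u s → ∃ S : Sylow p 𝔾, zSet (S : Subgroup 𝔾) = rootSet mk u s)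
    (α : MulAut 𝔾) {u s : V} (h : TSLine Q u s) :
    ∃ u' s' : V, TSLine Q u' s' ∧ α '' rootSet mk u s = rootSet mk u' s' := by
  obtain ⟨S, hS⟩ := hA2 u s h
  obtain ⟨u', s', h', hS'⟩ := hA1 (α • S)
  exact ⟨u', s', h', by rw [← hS, ← hS', zSet_smul]⟩

/-- Automorphisms preserve the images of the long root elements. -/
theorem isRoot_of
    (hA1 : ∀ S : Sylow p 𝔾, ∃ u s : V, TSLine Q u s ∧ zSet (S : Subgroup 𝔾) = rootSet mk u s)
    (hA2 : ∀ u s : V, TSLine Q u s → ∃ S : Sylow p 𝔾, zSet (S : Subgroup 𝔾) = rootSet mk u s)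
    (α : MulAut 𝔾) (t : 𝔾) (ht : IsRoot mk t) : IsRoot mk (α t) := by
  obtain ⟨u, s, h, hmem⟩ := ht
  obtain ⟨u', s', h', himg⟩ := root_image_of hA1 hA2 α h
  exact ⟨u', s', h', himg ▸ Set.mem_image_of_mem α hmem⟩

/-- Automorphisms permute the images of the radicals `R_e`. -/
theorem rad_image_of (hQ : (QuadraticMap.polarBilin Q).Nondegenerate) (hdim : 5 ≤ finrank F V)
    (hk : KerScalar mk)
    (hA1 : ∀ S : Sylow p 𝔾, ∃ u s : V, TSLine Q u s ∧ zSet (S : Subgroup 𝔾) = rootSet mk u s)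
    (hA2 : ∀ u s : V, TSLine Q u s → ∃ S : Sylow p 𝔾, zSet (S : Subgroup 𝔾) = rootSet mk u s)
    (hB1 : ∀ {u s u' s' : V}, TSLine Q u s → TSLine Q u' s' →
      rootSet mk u s ≠ rootSet mk u' s' →
      (∀ a ∈ rootSet mk u s, ∀ b ∈ rootSet mk u' s', a * b = b * a) →
      (P u u' = 0 ∧ P u s' = 0 ∧ P s u' = 0 ∧ P s s' = 0) ∨
      (∃ e z z' : V, TSLine Q e z ∧ TSLine Q e z' ∧ P z z' ≠ 0 ∧
        rootSet mk u s = rootSet mk e z ∧ rootSet mk u' s' = rootSet mk e z'))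
    (hB2 : ∀ {u s u' s' : V}, TSLine Q u s → TSLine Q u' s' →
      rootSet mk u s ≠ rootSet mk u' s' →
      (P u u' = 0 ∧ P u s' = 0 ∧ P s u' = 0 ∧ P s s' = 0) →
      ∃ a ∈ pCoreSet p (Subgroup.centralizer (rootSet mk u s ∪ rootSet mk u' s')),
        ∃ b ∈ pCoreSet p (Subgroup.centralizer (rootSet mk u s ∪ rootSet mk u' s')),
          a * b ≠ b * a)
    (hB3 : ∀ {e z z' : V}, TSLine Q e z → TSLine Q e z' → P z z' ≠ 0 →
      pCoreSet p (Subgroup.centralizer (rootSet mk e z ∪ rootSet mk e z')) = radSet mk e)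
    (α : MulAut 𝔾) (e : V) (he0 : e ≠ 0) (he : Q e = 0) :
    ∃ e' : V, e' ≠ 0 ∧ Q e' = 0 ∧ α '' radSet mk e = radSet mk e' := by
  obtain ⟨f, hQf, hef⟩ := exists_hyperbolic_partner Q hQ he0 he
  have h : HypPair Q e f := ⟨he, hQf, hef⟩
  obtain ⟨z, hz, hz0, hQz⟩ := exists_singular_Wp hQ hdim h
  obtain ⟨z', hz', hQz', hz'z⟩ := exists_partner_Wp hQ hdim h hz hz0 hQz
  have hzz' : P z z' ≠ 0 := by
    rw [QuadraticMap.polar_comm, hz'z]; exact one_ne_zero
  have hz'0 : z' ≠ 0 := by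
    rintro rfl
    apply hzz'
    simp [QuadraticMap.polar]
  have hL : TSLine Q e z := ⟨he, hQz, polar_e_of_mem h hz, he0, not_mem_span_e h hz hz0⟩
  have hL' : TSLine Q e z' := ⟨he, hQz', polar_e_of_mem h hz', he0, not_mem_span_e h hz' hz'0⟩
  have hrad := hB3 hL hL' hzz'
  obtain ⟨u₁, s₁, h₁, himg₁⟩ := root_image_of hA1 hA2 α hL
  obtain ⟨u₂, s₂, h₂, himg₂⟩ := root_image_of hA1 hA2 α hL'
  -- the image of the radical is the `p`-core of the image centraliser
  have himg : α '' radSet mk e =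
      pCoreSet p (Subgroup.centralizer (rootSet mk u₁ s₁ ∪ rootSet mk u₂ s₂)) := by
    rw [← hrad, image_pCoreSet (p := p) α, map_centralizer, Set.image_union, himg₁, himg₂]
  -- the two image root groups are distinct and commute
  have hne : rootSet mk u₁ s₁ ≠ rootSet mk u₂ s₂ := by
    intro heq
    rw [← himg₁, ← himg₂] at heq
    have h1 : rootSet mk e z = rootSet mk e z' := by
      have := congrArg (fun S => α ⁻¹' S) heq
      simpa only [Set.preimage_image_eq _ α.injective] using this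
    have h2 : mkT Q mk (E Q e z) ∈ rootSet mk e z' := by
      rw [← h1]; exact ⟨1, by rw [one_smul]⟩
    obtain ⟨c, hc⟩ := h2
    have h3 := mkT_E_inj h hQ hdim hk hz ((Wp Q e f).smul_mem c hz') hc
    apply hzz'
    rw [h3, QuadraticMap.polar_smul_left, polar_self', hQz', mul_zero, smul_zero]
  have hcomm : ∀ a ∈ rootSet mk u₁ s₁, ∀ b ∈ rootSet mk u₂ s₂, a * b = b * a := by
    rw [← himg₁, ← himg₂]
    rintro _ ⟨a, ⟨c, rfl⟩, rfl⟩ _ ⟨b, ⟨c', rfl⟩, rfl⟩
    have m1 := (Wp Q e f).smul_mem c hz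
    have m2 := (Wp Q e f).smul_mem c' hz'
    have hE1 := E_mem_T' h hQ hdim m1
    have hE2 := E_mem_T' h hQ hdim m2
    change α _ * α _ = α _ * α _
    rw [← map_mul, ← map_mul, ← mkT_mul mk hE1 hE2, ← mkT_mul mk hE2 hE1,
      E_mul Q he (polar_e_of_mem h m1) (polar_e_of_mem h m2),
      E_mul Q he (polar_e_of_mem h m2) (polar_e_of_mem h m1), add_comm]
  -- the radical is commutative
  have hradcomm : ∀ a ∈ α '' radSet mk e, ∀ b ∈ α '' radSet mk e, a * b = b * a := by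
    rintro _ ⟨a, ha, rfl⟩ _ ⟨b, hb, rfl⟩
    obtain ⟨w, hw, rfl⟩ := (mem_radSet_iff h _).mp ha
    obtain ⟨w', hw', rfl⟩ := (mem_radSet_iff h _).mp hb
    have hE1 := E_mem_T' h hQ hdim hw
    have hE2 := E_mem_T' h hQ hdim hw'
    change α _ * α _ = α _ * α _
    rw [← map_mul, ← map_mul, ← mkT_mul mk hE1 hE2, ← mkT_mul mk hE2 hE1,
      E_mul Q he (polar_e_of_mem h hw) (polar_e_of_mem h hw'),
      E_mul Q he (polar_e_of_mem h hw') (polar_e_of_mem h hw), add_comm]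
  rcases hB1 h₁ h₂ hne hcomm with hperp | ⟨e', y, y', hy, hy', hyy', hr1, hr2⟩
  · exfalso
    obtain ⟨a, ha, b, hb, hab⟩ := hB2 h₁ h₂ hne hperp
    rw [← himg] at ha hb
    exact hab (hradcomm a ha b hb)
  · refine ⟨e', hy.2.2.2.1, hy.1, ?_⟩
    rw [himg, hr1, hr2]
    exact hB3 hy hy' hyy'

end fin

end Cfsg.Agent.Lib.Helper14_OrthGlue
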