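import Mathlib
import Cfsg.Agent.Lib.Helper14_OrthGlue
import Cfsg.Agent.Lib.Helper14_POmegaSimple
import Cfsg.Agent.Lib.Helper7_OrthInduced

/-!
# Orthogonal groups: transfer of the generic automorphism theorem to `PΩ(Q)` (helper14)

For a quadratic form `Q` on `ι → F`: the surjection `mkO Q : T Q →* PΩ(Q)`, the automorphisms
`twistP` (helper7) are induced by semisimilarities in the sense of `SemiAut`, and
`gamma_eq_top_of`: `gammaPOmega F Q = ⊤` from the generic theorem.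
-/

set_option autoImplicit false
set_option linter.unusedSectionVars false
set_option linter.unusedVariables false

namespace Cfsg.Agent.Lib.Helper14_OrthFinal

open Matrix Module Cfsg Cfsg.Agent.Lib.Helper94_Symp Cfsg.Agent.Lib.Helper94_Bridge
  Cfsg.Agent.Lib.Helper94_OrthSmall Cfsg.Agent.Lib.Helper14_Siegel
  Cfsg.Agent.Lib.Helper14_OmegaSimple Cfsg.Agent.Lib.Helper14_SiegelOmega2
  Cfsg.Agent.Lib.Helper14_POmegaSimple Cfsg.Agent.Lib.Helper14_OrthAut
  Cfsg.Agent.Lib.Helper14_OrthLocal1 Cfsg.Agent.Lib.Helper14_OrthLocal2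
  Cfsg.Agent.Lib.Helper14_OrthLocal5 Cfsg.Agent.Lib.Helper14_OrthLocal12
  Cfsg.Agent.Lib.Helper7_OrthInduced

variable {ι : Type} [Fintype ι] [DecidableEq ι] {F : Type*} [Field F] [Fintype F]

section setup

variable (Q : QuadraticForm F (ι → F))
  (hQ : (QuadraticMap.polarBilin Q).Nondegenerate) (hn : 5 ≤ Fintype.card ι)

theorem map_omega_eq (hQ : (QuadraticMap.polarBilin Q).Nondegenerate)
    (hn : 5 ≤ Fintype.card ι) : (Cfsg.Omega F (⇑Q)).map (phi Q) = T Q := by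
  rw [omega_eq_siegelGroup Q hQ hn, map_siegelGroup]

/-- `Ω(Q) ≃* T Q`. -/
noncomputable def eOT (hQ : (QuadraticMap.polarBilin Q).Nondegenerate)
    (hn : 5 ≤ Fintype.card ι) : ↥(Cfsg.Omega F (⇑Q)) ≃* ↥(T Q) :=
  ((Cfsg.Omega F (⇑Q)).equivMapOfInjective (phi Q) (phi_injective Q)).trans
    (MulEquiv.subgroupCongr (map_omega_eq Q hQ hn))

theorem eOT_coe (s : ↥(Cfsg.Omega F (⇑Q))) :
    ((eOT Q hQ hn s : ↥(T Q)) : (ι → F) ≃ₗ[F] (ι → F)) = phi Q (s : ↥(Cfsg.isometryGroup F (⇑Q))) :=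
  rfl

theorem eOT_apply (s : ↥(Cfsg.Omega F (⇑Q))) (x : ι → F) :
    ((eOT Q hQ hn s : ↥(T Q)) : (ι → F) ≃ₗ[F] (ι → F)) x =
      (((s : ↥(Cfsg.isometryGroup F (⇑Q))) : GL ι F) : Matrix ι ι F) *ᵥ x := by
  rw [eOT_coe]
  simp only [phi, MonoidHom.coe_comp, Function.comp_apply, Subgroup.coe_subtype,
    MulEquiv.coe_toMonoidHom]
  rw [glEquiv_apply]

/-- The surjection `T Q →* PΩ(Q)`. -/
noncomputable def mkO (hQ : (QuadraticMap.polarBilin Q).Nondegenerate)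
    (hn : 5 ≤ Fintype.card ι) : ↥(T Q) →* Cfsg.POmega F (⇑Q) :=
  (QuotientGroup.mk' (Subgroup.center ↥(Cfsg.Omega F (⇑Q)))).comp (eOT Q hQ hn).symm.toMonoidHom

theorem mkO_apply (t : ↥(T Q)) :
    mkO Q hQ hn t = QuotientGroup.mk ((eOT Q hQ hn).symm t) := rfl

theorem mkO_eOT (s : ↥(Cfsg.Omega F (⇑Q))) :
    mkO Q hQ hn (eOT Q hQ hn s) = QuotientGroup.mk s := by
  rw [mkO_apply, MulEquiv.symm_apply_apply]

theorem mkO_surjective : Function.Surjective (mkO Q hQ hn) := by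
  intro x
  induction x using QuotientGroup.induction_on with
  | H s => exact ⟨eOT Q hQ hn s, mkO_eOT Q hQ hn s⟩

theorem mkO_ker : (mkO Q hQ hn).ker = Subgroup.center ↥(T Q) := by
  ext t
  rw [MonoidHom.mem_ker, mkO_apply, QuotientGroup.eq_one_iff, Subgroup.mem_center_iff,
    Subgroup.mem_center_iff]
  constructor
  · intro h k
    have := h ((eOT Q hQ hn).symm k)
    have h2 := congrArg (eOT Q hQ hn) this
    simpa only [map_mul, MulEquiv.apply_symm_apply] using h2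
  · intro h k
    have := h (eOT Q hQ hn k)
    apply (eOT Q hQ hn).injective
    simpa only [map_mul, MulEquiv.apply_symm_apply] using this

end setup

section semi

variable (Q : QuadraticForm F (ι → F))
  (hQ : (QuadraticMap.polarBilin Q).Nondegenerate) (hn : 5 ≤ Fintype.card ι)

/-- The semilinear map `v ↦ g σ(v)`. -/
def semi (g : GL ι F) (σ : F ≃+* F) (v : ι → F) : ι → F :=
  (g : Matrix ι ι F) *ᵥ fun i => σ (v i)

/-- `twistP` is induced by the semisimilarity `semi g σ`. -/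
theorem semiAut_twistP (g : GL ι F) (σ : F ≃+* F) (h : IsSemisimilarityPair (⇑Q) g σ) (c : Fˣ)
    (hc : ∀ v : ι → F, Q ((g : Matrix ι ι F) *ᵥ (fun i => σ (v i))) = (c : F) * σ (Q v)) :
    SemiAut (mkO Q hQ hn) (twistP (⇑Q) g σ h) (σ : F →+* F) (semi g σ) (c : F) where
  add x y := by
    simp only [semi]
    rw [← Matrix.mulVec_add]
    congr 1
    funext i
    simp
  smul a x := by
    simp only [semi]
    rw [← Matrix.mulVec_smul]
    congr 1
    funext i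
    simp
  surj u := exists_semilinear_preimage g σ u
  c_ne := c.ne_zero
  form x := hc x
  spec s hs := by
    obtain ⟨σs, hσs⟩ : ∃ σs, σs = (eOT Q hQ hn).symm ⟨s, hs⟩ := ⟨_, rfl⟩
    obtain ⟨σs', hσs'⟩ : ∃ σs', σs' =
      MulAut.characteristic (Cfsg.Omega F (⇑Q)) (twistO (⇑Q) g σ h) σs := ⟨_, rfl⟩
    have hs1 : (eOT Q hQ hn σs : ↥(T Q)) = ⟨s, hs⟩ := by
      rw [hσs, MulEquiv.apply_symm_apply]
    refine ⟨((eOT Q hQ hn σs' : ↥(T Q)) : (ι → F) ≃ₗ[F] (ι → F)), (eOT Q hQ hn σs').2, ?_, ?_⟩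
    · intro x
      have hsx : ∀ y, s y =
          (((σs : ↥(Cfsg.isometryGroup F (⇑Q))) : GL ι F) : Matrix ι ι F) *ᵥ y := by
        intro y
        rw [← eOT_apply Q hQ hn σs y, hs1]
      rw [eOT_apply, hσs', twistP_mk_coe, hsx]
      exact twist_mulVec g σ _ x
    · rw [mkT_of_mem _ hs, mkT_of_mem _ (eOT Q hQ hn σs').2]
      have e1 : (⟨s, hs⟩ : ↥(T Q)) = eOT Q hQ hn σs := hs1.symm
      have e2 : (⟨((eOT Q hQ hn σs' : ↥(T Q)) : (ι → F) ≃ₗ[F] (ι → F)), (eOT Q hQ hn σs').2⟩ :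
          ↥(T Q)) = eOT Q hQ hn σs' := rfl
      rw [e1, e2, mkO_eOT, mkO_eOT, twistP_mk, hσs']

/-- **`Aut(PΩ(Q))` is the image of the semisimilarity group**, given that automorphisms permute the
radicals and preserve root elements. -/
theorem gamma_eq_top_of (hH : Hyp Q)
    (hsemi : ∀ σ : F ≃+* F, ∃ g : GL ι F, IsSemisimilarityPair (⇑Q) g σ)
    (hrad : ∀ (α : Cfsg.POmega F (⇑Q) ≃* Cfsg.POmega F (⇑Q)) (e : ι → F), e ≠ 0 → Q e = 0 →
      ∃ e' : ι → F, e' ≠ 0 ∧ Q e' = 0 ∧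
        α '' radSet (mkO Q hQ hn) e = radSet (mkO Q hQ hn) e')
    (hroot : ∀ (α : Cfsg.POmega F (⇑Q) ≃* Cfsg.POmega F (⇑Q)) (t : Cfsg.POmega F (⇑Q)),
      IsRoot (mkO Q hQ hn) t → IsRoot (mkO Q hQ hn) (α t)) :
    Cfsg.gammaPOmega F (⇑Q) = ⊤ := by
  rw [eq_top_iff]
  intro α _
  have hfin : Finite (Cfsg.POmega F (⇑Q)) := inferInstance
  apply main_generic_orth hH (mkO_surjective Q hQ hn) (mkO_ker Q hQ hn) hrad hroot
    (Cfsg.gammaPOmega F (⇑Q))
  · -- similitudes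
    intro g c hc hform
    obtain ⟨M, hM⟩ : ∃ M : GL ι F, M = (glEquiv ι F).symm g := ⟨_, rfl⟩
    have hMg : ∀ x : ι → F, (M : Matrix ι ι F) *ᵥ x = g x := by
      intro x
      rw [← glEquiv_apply, hM, MulEquiv.apply_symm_apply]
    have hpair : IsSemisimilarityPair (⇑Q) M (RingEquiv.refl F) :=
      ⟨Units.mk0 c hc, fun v => by
        have : (fun i => (RingEquiv.refl F) (v i)) = v := rfl
        rw [this, hMg, hform]
        rfl⟩
    refine ⟨twistP (⇑Q) M (RingEquiv.refl F) hpair,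
      Subgroup.subset_closure ⟨M, RingEquiv.refl F, hpair, isInduced_twistP _ _ _ hpair⟩, ?_⟩
    have h1 := semiAut_twistP Q hQ hn M (RingEquiv.refl F) hpair (Units.mk0 c hc) (fun v => by
      have : (fun i => (RingEquiv.refl F) (v i)) = v := rfl
      rw [this, hMg, hform]
      rfl)
    have e1 : semi M (RingEquiv.refl F) = ⇑g := by
      funext v
      exact hMg v
    rw [e1] at h1
    exact h1
  · -- field automorphisms
    intro τ
    obtain ⟨g₀, hpair⟩ := hsemi τ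
    obtain ⟨c, hc⟩ := hpair
    exact ⟨twistP (⇑Q) g₀ τ ⟨c, hc⟩,
      Subgroup.subset_closure ⟨g₀, τ, ⟨c, hc⟩, isInduced_twistP _ _ _ ⟨c, hc⟩⟩,
      semi g₀ τ, (c : F), semiAut_twistP Q hQ hn g₀ τ ⟨c, hc⟩ c hc⟩

end semi

end Cfsg.Agent.Lib.Helper14_OrthFinal
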