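import Mathlib
import Cfsg.Agent.Lib.Helper14_OrthAutDefs
import Cfsg.Agent.Lib.Helper14_POmegaSimple
import Cfsg.Agent.Lib.Helper40_QuadStd
import Cfsg.Prelude.Def_LieTypeDatum

/-!
# Orthogonal Aut project, package PD-b (for helper14)

Every field automorphism is the companion of a semisimilarity of the three standard quadratic forms.
-/

set_option autoImplicit false

namespace Cfsg.Agent.Lib.Helper21_OrthSemisim

open Module Cfsg Cfsg.Agent.Lib.Helper44_StdForms Cfsg.Agent.Lib.Helper40_QuadIso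
  Cfsg.Agent.Lib.Helper40_QuadStd

variable {F : Type*} [Field F] [Fintype F]

theorem semisim_plus (m : ℕ) (σ : F ≃+* F) :
    ∃ g : GL (Fin m ⊕ Fin m) F, IsSemisimilarityPair (quadFormPlus m F) g σ := by
  refine ⟨1, 1, fun v => ?_⟩
  simp only [Units.val_one, Matrix.one_mulVec, one_mul]
  show ∑ i : Fin m, σ (v (.inl i)) * σ (v (.inr i)) = σ (∑ i : Fin m, v (.inl i) * v (.inr i))
  rw [map_sum]
  simp only [map_mul]

theorem semisim_odd (m : ℕ) (σ : F ≃+* F) :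
    ∃ g : GL (Unit ⊕ (Fin m ⊕ Fin m)) F, IsSemisimilarityPair (quadFormOdd m F) g σ := by
  refine ⟨1, 1, fun v => ?_⟩
  simp only [Units.val_one, Matrix.one_mulVec, one_mul]
  show σ (v (.inl ())) ^ 2 + ∑ i : Fin m, σ (v (.inr (.inl i))) * σ (v (.inr (.inr i))) =
    σ (v (.inl ()) ^ 2 + ∑ i : Fin m, v (.inr (.inl i)) * v (.inr (.inr i)))
  rw [map_add, map_sum, map_pow]
  simp only [map_mul]

/-- the twisted minus form evaluated at the twisted vector -/
theorem quadFormMinus_map (m : ℕ) (a b : F) (σ : F ≃+* F) (v : (Fin m ⊕ Fin m) ⊕ Fin 2 → F) :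
    quadFormMinus m F (σ a) (σ b) (fun i => σ (v i)) = σ (quadFormMinus m F a b v) := by
  show (∑ i : Fin m, σ (v (.inl (.inl i))) * σ (v (.inl (.inr i))))
      + (σ (v (.inr 0)) ^ 2 + σ a * σ (v (.inr 0)) * σ (v (.inr 1)) + σ b * σ (v (.inr 1)) ^ 2) =
    σ ((∑ i : Fin m, v (.inl (.inl i)) * v (.inl (.inr i)))
      + (v (.inr 0) ^ 2 + a * v (.inr 0) * v (.inr 1) + b * v (.inr 1) ^ 2))
  rw [map_add, map_sum]
  simp only [map_mul, map_add, map_pow]

/-- a linear equivalence of a coordinate space as an element of `GL` -/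
theorem exists_gl_of_linearEquiv {ι : Type*} [Fintype ι] [DecidableEq ι]
    (φ : (ι → F) ≃ₗ[F] (ι → F)) : ∃ g : GL ι F, ∀ w, (g : Matrix ι ι F).mulVec w = φ w := by
  have h1 : LinearMap.toMatrix' (φ : (ι → F) →ₗ[F] (ι → F)) *
      LinearMap.toMatrix' (φ.symm : (ι → F) →ₗ[F] (ι → F)) = 1 := by
    rw [← LinearMap.toMatrix'_comp]
    have h : (φ : (ι → F) →ₗ[F] (ι → F)) ∘ₗ (φ.symm : (ι → F) →ₗ[F] (ι → F)) = LinearMap.id := by
      ext w : 1
      simp
    rw [h, LinearMap.toMatrix'_id]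
  have h2 : LinearMap.toMatrix' (φ.symm : (ι → F) →ₗ[F] (ι → F)) *
      LinearMap.toMatrix' (φ : (ι → F) →ₗ[F] (ι → F)) = 1 := by
    rw [← LinearMap.toMatrix'_comp]
    have h : (φ.symm : (ι → F) →ₗ[F] (ι → F)) ∘ₗ (φ : (ι → F) →ₗ[F] (ι → F)) = LinearMap.id := by
      ext w : 1
      simp
    rw [h, LinearMap.toMatrix'_id]
  refine ⟨⟨_, _, h1, h2⟩, fun w => ?_⟩
  show (LinearMap.toMatrix' (φ : (ι → F) →ₗ[F] (ι → F))).mulVec w = φ w
  rw [LinearMap.toMatrix'_mulVec]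
  rfl

theorem semisim_minus (m : ℕ) (a b : F)
    (hab : ∀ z₁ z₂ : F, z₁ ^ 2 + a * z₁ * z₂ + b * z₂ ^ 2 = 0 → z₁ = 0 ∧ z₂ = 0) (σ : F ≃+* F) :
    ∃ g : GL ((Fin m ⊕ Fin m) ⊕ Fin 2) F, IsSemisimilarityPair (quadFormMinus m F a b) g σ := by
  classical
  have hab' : ∀ z₁ z₂ : F, z₁ ^ 2 + σ a * z₁ * z₂ + σ b * z₂ ^ 2 = 0 → z₁ = 0 ∧ z₂ = 0 := by
    intro z₁ z₂ h
    have h1 := congrArg σ.symm h
    simp only [map_add, map_mul, map_pow, RingEquiv.symm_apply_apply, map_zero] at h1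
    obtain ⟨h2, h3⟩ := hab _ _ h1
    exact ⟨(map_eq_zero_iff σ.symm σ.symm.injective).mp h2,
      (map_eq_zero_iff σ.symm σ.symm.injective).mp h3⟩
  have hnd := Cfsg.Agent.Lib.Helper14_POmegaSimple.nondegenerate_qfMinus m (σ a) (σ b) hab'
  have hdim : finrank F ((Fin m ⊕ Fin m) ⊕ Fin 2 → F) = 2 * (m + 1) := by
    rw [Module.finrank_fintype_fun_eq_card, Fintype.card_sum, Fintype.card_sum, Fintype.card_fin,
      Fintype.card_fin]
    omega
  rcases iso_plus_or_minus (m + 1) (by omega) hdim (qfMinus m F (σ a) (σ b)) hnd a b hab with h | h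
  · exfalso
    exact not_isHyp_qfMinus m (σ a) (σ b) hab' (IsHyp.of_iso h.symm (isHyp_qfPlus (m + 1)))
  · have h' : Iso (qfMinus m F (σ a) (σ b)) (qfMinus m F a b) := h
    obtain ⟨φ, hφ⟩ := h'
    obtain ⟨g, hg⟩ := exists_gl_of_linearEquiv φ
    refine ⟨g, 1, fun v => ?_⟩
    rw [Units.val_one, one_mul]
    show quadFormMinus m F a b ((g : Matrix _ _ F).mulVec fun i => σ (v i)) = _
    rw [hg, ← quadFormMinus_map]
    have h3 := hφ (fun i => σ (v i))
    rw [coe_qfMinus, coe_qfMinus] at h3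
    exact h3

end Cfsg.Agent.Lib.Helper21_OrthSemisim
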