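import Mathlib
import Cfsg.Agent.Lib.Helper14_OrthAutDefs
import Cfsg.Agent.Lib.Helper14_POmegaSimple
import Cfsg.Agent.Lib.Helper40_QuadStd
import Cfsg.Prelude.Def_LieTypeDatum

set_option autoImplicit false

namespace Cfsg.Agent.Lib.Helper71_OrthHyp

open Module Cfsg Cfsg.Agent.Lib.Helper14_OmegaSimple Cfsg.Agent.Lib.Helper14_OrthAut
  Cfsg.Agent.Lib.Helper44_StdForms

variable {F : Type*} [Field F]

/-- a totally singular subspace of dimension three from three coordinates -/
theorem exists_ts3 {ι : Type*} [Fintype ι] [DecidableEq ι] (Q : QuadraticForm F (ι → F))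
    (c : Fin 3 → ι) (hc : Function.Injective c)
    (hQ : ∀ v : ι → F, (∀ k, (∀ i, k ≠ c i) → v k = 0) → Q v = 0) :
    ∃ U : Submodule F (ι → F), finrank F U = 3 ∧ ∀ x ∈ U, Q x = 0 := by
  let emb : (Fin 3 → F) →ₗ[F] (ι → F) :=
    { toFun := fun v k => ∑ i : Fin 3, if c i = k then v i else 0
      map_add' := by
        intro x y
        funext k
        simp only [Pi.add_apply, ← Finset.sum_add_distrib]
        apply Finset.sum_congr rfl
        intro i _
        split_ifs <;> simp
      map_smul' := by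
        intro a x
        funext k
        simp only [Pi.smul_apply, smul_eq_mul, RingHom.id_apply, Finset.mul_sum]
        apply Finset.sum_congr rfl
        intro i _
        split_ifs <;> simp }
  have hemb : ∀ v k, emb v k = ∑ i : Fin 3, if c i = k then v i else 0 := fun v k => rfl
  have hembc : ∀ v j, emb v (c j) = v j := by
    intro v j
    rw [hemb, Finset.sum_eq_single j]
    · simp
    · intro i _ hij
      rw [if_neg]
      intro h
      exact hij (hc h)
    · intro h
      exact absurd (Finset.mem_univ j) h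
  have hinj : Function.Injective emb := by
    intro x y hxy
    funext j
    rw [← hembc x j, ← hembc y j, hxy]
  refine ⟨LinearMap.range emb, ?_, ?_⟩
  · rw [LinearMap.finrank_range_of_inj hinj, Module.finrank_fintype_fun_eq_card, Fintype.card_fin]
  · rintro _ ⟨v, rfl⟩
    apply hQ
    intro k hk
    rw [hemb]
    apply Finset.sum_eq_zero
    intro i _
    rw [if_neg]
    exact fun h => hk i h.symm

variable [Fintype F]

theorem hyp_plus {m : ℕ} (hm : 5 ≤ m) : Hyp (qfPlus m F) := by
  refine ⟨Cfsg.Agent.Lib.Helper14_POmegaSimple.nondegenerate_qfPlus m, ?_, ?_, ?_⟩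
  · apply exists_ts3 (qfPlus m F) (fun i : Fin 3 => Sum.inl ⟨i, by omega⟩)
    · intro i j h
      have := Sum.inl.inj h
      exact Fin.ext (Fin.mk.inj_iff.1 this)
    · intro v hv
      rw [coe_qfPlus]
      unfold Cfsg.quadFormPlus
      apply Finset.sum_eq_zero
      intro i _
      rw [hv (Sum.inr i) (fun j => by simp), mul_zero]
  · rw [Module.finrank_fintype_fun_eq_card, Fintype.card_sum, Fintype.card_fin]
    omega
  · intro h
    rw [Module.finrank_fintype_fun_eq_card, Fintype.card_sum, Fintype.card_fin] at h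
    omega

theorem hyp_odd (h2 : (2 : F) ≠ 0) {m : ℕ} (hm : 3 ≤ m) : Hyp (qfOdd m F) := by
  refine ⟨Cfsg.Agent.Lib.Helper14_POmegaSimple.nondegenerate_qfOdd h2 m, ?_, ?_, ?_⟩
  · apply exists_ts3 (qfOdd m F) (fun i : Fin 3 => Sum.inr (Sum.inl ⟨i, by omega⟩))
    · intro i j h
      have := Sum.inl.inj (Sum.inr.inj h)
      exact Fin.ext (Fin.mk.inj_iff.1 this)
    · intro v hv
      rw [coe_qfOdd]
      unfold Cfsg.quadFormOdd
      rw [hv (Sum.inl ()) (fun j => by simp)]
      have : ∑ i : Fin m, v (Sum.inr (Sum.inl i)) * v (Sum.inr (Sum.inr i)) = 0 := by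
        apply Finset.sum_eq_zero
        intro i _
        rw [hv (Sum.inr (Sum.inr i)) (fun j => by simp), mul_zero]
      rw [this]
      simp
  · rw [Module.finrank_fintype_fun_eq_card, Fintype.card_sum, Fintype.card_sum, Fintype.card_fin]
    simp
    omega
  · intro h
    rw [Module.finrank_fintype_fun_eq_card, Fintype.card_sum, Fintype.card_sum, Fintype.card_fin]
      at h
    simp at h
    omega

theorem hyp_minus {m : ℕ} (hm : 3 ≤ m) (a b : F)
    (hab : ∀ z₁ z₂ : F, z₁ ^ 2 + a * z₁ * z₂ + b * z₂ ^ 2 = 0 → z₁ = 0 ∧ z₂ = 0) :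
    Hyp (qfMinus m F a b) := by
  have hnd := Cfsg.Agent.Lib.Helper14_POmegaSimple.nondegenerate_qfMinus m a b hab
  refine ⟨hnd, ?_, ?_, ?_⟩
  · apply exists_ts3 (qfMinus m F a b) (fun i : Fin 3 => Sum.inl (Sum.inl ⟨i, by omega⟩))
    · intro i j h
      have := Sum.inl.inj (Sum.inl.inj h)
      exact Fin.ext (Fin.mk.inj_iff.1 this)
    · intro v hv
      rw [coe_qfMinus]
      unfold Cfsg.quadFormMinus
      rw [hv (Sum.inr 0) (fun j => by simp), hv (Sum.inr 1) (fun j => by simp)]
      have : ∑ i : Fin m, v (Sum.inl (Sum.inl i)) * v (Sum.inl (Sum.inr i)) = 0 := by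
        apply Finset.sum_eq_zero
        intro i _
        rw [hv (Sum.inl (Sum.inr i)) (fun j => by simp), mul_zero]
      rw [this]
      simp
  · rw [Module.finrank_fintype_fun_eq_card, Fintype.card_sum, Fintype.card_sum, Fintype.card_fin]
    simp
    omega
  · intro h
    rw [Module.finrank_fintype_fun_eq_card, Fintype.card_sum, Fintype.card_sum, Fintype.card_fin]
      at h
    simp at h
    rintro ⟨U, hU4, hU⟩
    have := Cfsg.Agent.Lib.Helper44_WittIndexMinus.ts_finrank_le m a b hab hnd U hU
    omega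

end Cfsg.Agent.Lib.Helper71_OrthHyp
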