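import Mathlib
import Cfsg.Agent.Lib.Helper14_OrthAutDefs

/-!
# Orthogonal automorphism project (helper14), package PB: shared lemmas (helper97)

`Q` a quadratic form with non-degenerate polar form on a finite-dimensional space over a finite field,
`T Q` the group generated by the long root elements, `mk : T Q →* 𝔾` surjective with kernel the centre.

* `exists_polar_one_zero` : for `a ∉ ⟨b⟩` there is `x` with `B(x, a) = 1`, `B(x, b) = 0`;
* `exists_ne_zero_orth_four` : a non-zero vector orthogonal to four given vectors (dimension at least five);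
* `center_scalar` : a central element of `T Q` is a scalar;
* `comm_of_mkT_comm` : if the images of `g ∈ T Q` and of an Eichler element commute, so do `g` and the element;
* `map_mem_span_of_comm` : an isometry commuting with the long root element `E(u, s)` stabilises `⟨u, s⟩`;
* `E_line` : the long root group depends only on the line;
* `mem_pCoreSet_of_normal` : a normal `p`-subgroup of `H` lies in `pCoreSet p H`.
-/

set_option autoImplicit false

namespace Cfsg.Agent.Lib.Helper97_OrthPB0

open Module Cfsg.Agent.Lib.Helper14_OmegaSimple Cfsg.Agent.Lib.Helper14_OrthAut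
  Cfsg.Agent.Lib.Helper94_OrthSmall Cfsg.Agent.Lib.Helper44_QuadClass

variable {F V : Type*} [Field F] [AddCommGroup V] [Module F V]

section linalg

variable [FiniteDimensional F V] (Q : QuadraticForm F V)

/-- For `a ∉ ⟨b⟩` there is `x` with `B(x, a) = 1` and `B(x, b) = 0`. -/
theorem exists_polar_one_zero (hQ : (QuadraticMap.polarBilin Q).Nondegenerate) {a b : V}
    (hab : a ∉ Submodule.span F {b}) :
    ∃ x : V, QuadraticMap.polar (⇑Q) x a = 1 ∧ QuadraticMap.polar (⇑Q) x b = 0 := by
  have hrefl : (QuadraticMap.polarBilin Q).IsRefl := by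
    intro x y h
    rw [QuadraticMap.polarBilin_apply_apply] at h ⊢
    rw [QuadraticMap.polar_comm, h]
  have hex : ∃ x : V, QuadraticMap.polar (⇑Q) x b = 0 ∧ QuadraticMap.polar (⇑Q) x a ≠ 0 := by
    by_contra hcon
    push Not at hcon
    apply hab
    rw [← LinearMap.BilinForm.orthogonal_orthogonal hQ hrefl (Submodule.span F {b})]
    rw [LinearMap.BilinForm.mem_orthogonal_iff]
    intro n hn
    rw [LinearMap.BilinForm.mem_orthogonal_iff] at hn
    have h1 := hn b (Submodule.mem_span_singleton_self b)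
    rw [QuadraticMap.polarBilin_apply_apply, QuadraticMap.polar_comm] at h1
    rw [QuadraticMap.polarBilin_apply_apply]
    exact hcon n h1
  obtain ⟨x, hxb, hxa⟩ := hex
  refine ⟨(QuadraticMap.polar (⇑Q) x a)⁻¹ • x, ?_, ?_⟩
  · rw [QuadraticMap.polar_smul_left, smul_eq_mul, inv_mul_cancel₀ hxa]
  · rw [QuadraticMap.polar_smul_left, hxb, smul_zero]

/-- A non-zero vector orthogonal to four given vectors. -/
theorem exists_ne_zero_orth_four (hQ : (QuadraticMap.polarBilin Q).Nondegenerate)
    (hdim : 5 ≤ finrank F V) (a b c d : V) :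
    ∃ x : V, x ≠ 0 ∧ QuadraticMap.polar (⇑Q) x a = 0 ∧ QuadraticMap.polar (⇑Q) x b = 0 ∧
      QuadraticMap.polar (⇑Q) x c = 0 ∧ QuadraticMap.polar (⇑Q) x d = 0 := by
  classical
  obtain ⟨W, hW⟩ : ∃ W, W = Submodule.span F ({a, b, c, d} : Set V) := ⟨_, rfl⟩
  have hWle : finrank F W ≤ 4 := by
    rw [hW]
    have := finrank_span_finset_le_card (R := F) ({a, b, c, d} : Finset V)
    have h2 : ({a, b, c, d} : Finset V).card ≤ 4 := Finset.card_le_four
    have h3 : ((({a, b, c, d} : Finset V) : Set V)) = ({a, b, c, d} : Set V) := by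
      simp
    rw [h3] at this
    exact this.trans h2
  have hKfr : finrank F (LinearMap.BilinForm.orthogonal (QuadraticMap.polarBilin Q) W) =
      finrank F V - finrank F W := LinearMap.BilinForm.finrank_orthogonal hQ W
  have hpos : 0 < finrank F (LinearMap.BilinForm.orthogonal (QuadraticMap.polarBilin Q) W) := by
    omega
  obtain ⟨x, hx0⟩ := (Module.finrank_pos_iff_exists_ne_zero).mp hpos
  have hxm := x.2
  rw [LinearMap.BilinForm.mem_orthogonal_iff] at hxm
  have hmem : ∀ y ∈ ({a, b, c, d} : Set V), QuadraticMap.polar (⇑Q) (x : V) y = 0 := by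
    intro y hy
    have := hxm y (hW ▸ Submodule.subset_span hy)
    rw [QuadraticMap.polarBilin_apply_apply, QuadraticMap.polar_comm] at this
    exact this
  refine ⟨(x : V), fun h => hx0 (Subtype.ext h), hmem a (by simp), hmem b (by simp), hmem c (by simp),
    hmem d (by simp)⟩

end linalg

section finite

variable [Finite F] [FiniteDimensional F V] (Q : QuadraticForm F V)

omit [Finite F] in
/-- An isometry commuting with all Eichler elements fixes every singular point. -/
theorem fix_of_comm (hQ : (QuadraticMap.polarBilin Q).Nondegenerate) (hdim : 5 ≤ finrank F V)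
    {z : V ≃ₗ[F] V} (hz : z ∈ oG (⇑Q))
    (hc : ∀ a b : V, Q a = 0 → QuadraticMap.polar (⇑Q) a b = 0 → z * E Q a b = E Q a b * z) :
    ∀ w, Q w = 0 → ∃ l : F, z w = l • w := by
  classical
  intro a ha
  by_cases ha0 : a = 0
  · exact ⟨0, by rw [ha0, map_zero, smul_zero]⟩
  by_cases hmem : a ∈ Submodule.span F {z a}
  · obtain ⟨k, hk⟩ := Submodule.mem_span_singleton.mp hmem
    have hk0 : k ≠ 0 := by
      rintro rfl
      rw [zero_smul] at hk
      exact ha0 hk.symm
    refine ⟨k⁻¹, ?_⟩
    calc z a = k⁻¹ • (k • z a) := by rw [smul_smul, inv_mul_cancel₀ hk0, one_smul]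
      _ = k⁻¹ • a := by rw [hk]
  exfalso
  obtain ⟨x, hxa, hxza⟩ := exists_polar_one_zero Q hQ hmem
  have hza : Q (z a) = 0 := by rw [mem_oG.mp hz, ha]
  -- every `b ⊥ a` lies in `⟨a, z a⟩`
  have key : ∀ b : V, QuadraticMap.polar (⇑Q) a b = 0 → b ∈ Submodule.span F ({a, z a} : Set V) := by
    intro b hab
    have hzab : QuadraticMap.polar (⇑Q) (z a) (z b) = 0 := by rw [oG_polar Q hz, hab]
    have h1 : z * E Q a b * z⁻¹ = E Q a b := by
      rw [hc a b ha hab, mul_assoc, mul_inv_cancel, mul_one]
    rw [conj_E Q hz ha hab] at h1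
    have h2 : E Q (z a) (z b) x = E Q a b x := by rw [h1]
    rw [E_apply Q hza hzab, E_apply Q ha hab, hxa, hxza] at h2
    have h3 : b = (QuadraticMap.polar (⇑Q) x b + Q b) • a -
        QuadraticMap.polar (⇑Q) x (z b) • z a := by
      have h4 : x + (0 : F) • z b - QuadraticMap.polar (⇑Q) x (z b) • z a - (Q (z b) * 0) • z a =
          x - QuadraticMap.polar (⇑Q) x (z b) • z a := by
        rw [zero_smul, mul_zero, zero_smul, add_zero, sub_zero]
      rw [h4] at h2
      have h5 : x + (1 : F) • b - QuadraticMap.polar (⇑Q) x b • a - (Q b * 1) • a =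
          x + (b - (QuadraticMap.polar (⇑Q) x b + Q b) • a) := by
        rw [one_smul, mul_one, add_smul]; abel
      rw [h5] at h2
      have h6 : b - (QuadraticMap.polar (⇑Q) x b + Q b) • a =
          - (QuadraticMap.polar (⇑Q) x (z b) • z a) := by
        have h7 : x + (b - (QuadraticMap.polar (⇑Q) x b + Q b) • a) =
            x + -(QuadraticMap.polar (⇑Q) x (z b) • z a) := by rw [← h2, sub_eq_add_neg]
        exact add_left_cancel h7
      have h8 := sub_eq_iff_eq_add.mp h6
      exact h8.trans (by abel)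
    rw [h3]
    apply Submodule.sub_mem
    · exact Submodule.smul_mem _ _ (Submodule.subset_span (by simp))
    · exact Submodule.smul_mem _ _ (Submodule.subset_span (by simp))
  have hle : LinearMap.BilinForm.orthogonal (QuadraticMap.polarBilin Q) (Submodule.span F {a}) ≤
      Submodule.span F ({a, z a} : Set V) := by
    intro b hb
    rw [LinearMap.BilinForm.mem_orthogonal_iff] at hb
    apply key
    have := hb a (Submodule.mem_span_singleton_self a)
    rwa [QuadraticMap.polarBilin_apply_apply] at this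
  have h1 := Submodule.finrank_mono hle
  have h2 : finrank F (LinearMap.BilinForm.orthogonal (QuadraticMap.polarBilin Q)
      (Submodule.span F {a})) = finrank F V - finrank F (Submodule.span F {a}) :=
    LinearMap.BilinForm.finrank_orthogonal hQ _
  rw [finrank_span_singleton ha0] at h2
  have h3 : finrank F (Submodule.span F ({a, z a} : Set V)) ≤ 2 := by
    have := finrank_span_finset_le_card (R := F) ({a, z a} : Finset V)
    rw [Finset.coe_insert, Finset.coe_singleton] at this
    exact this.trans Finset.card_le_two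
  omega

/-- An isometry fixing every singular point is a scalar. -/
theorem scalar_of_fix (hQ : (QuadraticMap.polarBilin Q).Nondegenerate) (hdim : 5 ≤ finrank F V)
    {z : V ≃ₗ[F] V} (hfix : ∀ w, Q w = 0 → ∃ l : F, z w = l • w) :
    ∃ l : F, ∀ x, z x = l • x := by
  obtain ⟨a, ha0, ha⟩ := exists_singular Q (by omega)
  obtain ⟨b, hb, hab⟩ := exists_hyperbolic_partner Q hQ ha0 ha
  have hba : QuadraticMap.polar (⇑Q) b a = 1 := by rw [QuadraticMap.polar_comm, hab]
  have haa : QuadraticMap.polar (⇑Q) a a = 0 := by rw [polar_self', ha, mul_zero]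
  have hbb : QuadraticMap.polar (⇑Q) b b = 0 := by rw [polar_self', hb, mul_zero]
  obtain ⟨l, hl⟩ := hfix a ha
  -- the eigenvalue is constant
  have hconst : ∀ w : V, w ≠ 0 → Q w = 0 → z w = l • w := by
    intro w hw0 hw
    obtain ⟨m, hm⟩ := hfix w hw
    suffices h : l = m by rw [h]; exact hm
    by_cases haw : QuadraticMap.polar (⇑Q) a w = 0
    · by_cases hwa : w ∈ Submodule.span F {a}
      · obtain ⟨k, hk⟩ := Submodule.mem_span_singleton.mp hwa
        have h1 : z w = l • w := by rw [← hk, map_smul, hl, smul_comm]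
        rw [hm] at h1
        have h2 : (m - l) • w = 0 := by rw [sub_smul, h1, sub_self]
        rcases smul_eq_zero.mp h2 with h | h
        · exact (sub_eq_zero.mp h).symm
        · exact absurd h hw0
      · exact eig_eq Q hfix ha0 hwa ha hw haw hl hm
    · obtain ⟨w', hw'⟩ : ∃ w', w' = (QuadraticMap.polar (⇑Q) a w)⁻¹ • w := ⟨_, rfl⟩
      have hQw' : Q w' = 0 := by rw [hw', QuadraticMap.map_smul, hw, smul_zero]
      have haw' : QuadraticMap.polar (⇑Q) a w' = 1 := by
        rw [hw', QuadraticMap.polar_smul_right, smul_eq_mul, inv_mul_cancel₀ haw]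
      have hperp : ∀ v : V, QuadraticMap.polar (⇑Q) w' v = 0 → QuadraticMap.polar (⇑Q) w v = 0 := by
        intro v hv
        rw [hw', QuadraticMap.polar_smul_left, smul_eq_mul] at hv
        rcases mul_eq_zero.mp hv with h | h
        · exact absurd (inv_eq_zero.mp h) haw
        · exact h
      have hfr := finrank_perp (Q := Q) ha hQw' haw'
      obtain ⟨t, ht0, ht⟩ := exists_singular (Q.comp (perp Q a w').subtype) (by omega)
      have htmem := (mem_perp Q a w').mp t.2
      have ht0' : (t : V) ≠ 0 := fun h => ht0 (Subtype.ext h)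
      have hQt : Q (t : V) = 0 := by simpa using ht
      obtain ⟨k, hk⟩ := hfix (t : V) hQt
      have hwt : QuadraticMap.polar (⇑Q) w (t : V) = 0 := hperp _ htmem.2
      have h1 : l = k := by
        apply eig_eq Q hfix ha0 _ ha hQt htmem.1 hl hk
        intro h
        obtain ⟨c, hc⟩ := Submodule.mem_span_singleton.mp h
        have h2 := htmem.2
        rw [← hc, QuadraticMap.polar_smul_right, QuadraticMap.polar_comm, haw', smul_eq_mul,
          mul_one] at h2
        rw [h2, zero_smul] at hc
        exact ht0' hc.symm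
      have h2 : k = m := by
        apply eig_eq Q hfix ht0' _ hQt hw _ hk hm
        · intro h
          obtain ⟨c, hc⟩ := Submodule.mem_span_singleton.mp h
          apply haw
          rw [← hc, QuadraticMap.polar_smul_right, htmem.1, smul_zero]
        · rw [QuadraticMap.polar_comm, hwt]
      rw [h1, h2]
  refine ⟨l, ?_⟩
  intro x
  obtain ⟨x', hx'⟩ : ∃ x', x' = x - QuadraticMap.polar (⇑Q) x b • a - QuadraticMap.polar (⇑Q) x a • b :=
    ⟨_, rfl⟩
  have hx'a : QuadraticMap.polar (⇑Q) x' a = 0 := by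
    rw [hx', QuadraticMap.polar_sub_left, QuadraticMap.polar_sub_left, QuadraticMap.polar_smul_left,
      QuadraticMap.polar_smul_left, haa, hba]
    simp
  have hx'b : QuadraticMap.polar (⇑Q) x' b = 0 := by
    rw [hx', QuadraticMap.polar_sub_left, QuadraticMap.polar_sub_left, QuadraticMap.polar_smul_left,
      QuadraticMap.polar_smul_left, hab, hbb]
    simp
  obtain ⟨y, hy⟩ : ∃ y, y = x' + (-Q x') • a + b := ⟨_, rfl⟩
  have hQy : Q y = 0 := by
    rw [hy, QuadraticMap.map_add (⇑Q), QuadraticMap.map_add (⇑Q), QuadraticMap.map_smul, ha, hb,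
      QuadraticMap.polar_smul_right, hx'a, QuadraticMap.polar_add_left,
      QuadraticMap.polar_smul_left, hab, hx'b]
    simp
  have hya : QuadraticMap.polar (⇑Q) y a = 1 := by
    rw [hy, QuadraticMap.polar_add_left, QuadraticMap.polar_add_left, QuadraticMap.polar_smul_left,
      haa, hx'a, hba]
    simp
  have hy0 : y ≠ 0 := by
    rintro rfl
    simp [QuadraticMap.polar] at hya
  have hb0 : b ≠ 0 := by
    rintro rfl
    simp [QuadraticMap.polar] at hab
  have h1 := hconst y hy0 hQy
  have h2 := hconst b hb0 hb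
  have hx'eq : x' = y + Q x' • a - b := by rw [hy, neg_smul]; abel
  have h3 : z x' = l • x' := by
    rw [hx'eq, map_sub, map_add, map_smul, h1, hl, h2, smul_sub, smul_add, smul_comm]
  have hxeq : x = x' + QuadraticMap.polar (⇑Q) x b • a + QuadraticMap.polar (⇑Q) x a • b := by
    rw [hx']; abel
  rw [hxeq, map_add, map_add, map_smul, map_smul, h3, hl, h2, smul_add, smul_add, smul_comm l,
    smul_comm l]

/-- A central element of `T Q` is a scalar. -/
theorem center_scalar (hQ : (QuadraticMap.polarBilin Q).Nondegenerate) (hdim : 5 ≤ finrank F V)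
    {z : ↥(T Q)} (hz : z ∈ Subgroup.center ↥(T Q)) :
    ∃ l : F, ∀ x, (z : V ≃ₗ[F] V) x = l • x := by
  apply scalar_of_fix Q hQ hdim
  apply fix_of_comm Q hQ hdim (T_le_oG Q z.2)
  intro a b ha hab
  have hE : E Q a b ∈ T Q := E_mem_T Q hQ hdim ha hab
  have := Subgroup.mem_center_iff.mp hz ⟨E Q a b, hE⟩
  exact (congrArg Subtype.val this).symm

omit [Finite F] [FiniteDimensional F V] in
/-- An Eichler element fixes the vectors orthogonal to its two parameters. -/
theorem E_apply_of_orth {a b x : V} (ha : Q a = 0) (hab : QuadraticMap.polar (⇑Q) a b = 0)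
    (hxa : QuadraticMap.polar (⇑Q) x a = 0) (hxb : QuadraticMap.polar (⇑Q) x b = 0) :
    E Q a b x = x := by
  rw [E_apply Q ha hab, hxa, hxb]
  simp

variable {𝔾 : Type*} [Group 𝔾]

/-- If the images of `g ∈ T Q` and of an Eichler element commute in `𝔾 = T Q / Z`, then `g` and the Eichler
element commute. -/
theorem comm_of_mkT_comm (hQ : (QuadraticMap.polarBilin Q).Nondegenerate) (hdim : 5 ≤ finrank F V)
    (mk : ↥(T Q) →* 𝔾) (hker : mk.ker = Subgroup.center ↥(T Q)) {g : V ≃ₗ[F] V} (hg : g ∈ T Q)
    {a b : V} (ha : Q a = 0) (hab : QuadraticMap.polar (⇑Q) a b = 0)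
    (h : mkT Q mk g * mkT Q mk (E Q a b) = mkT Q mk (E Q a b) * mkT Q mk g) :
    g * E Q a b = E Q a b * g := by
  have hE : E Q a b ∈ T Q := E_mem_T Q hQ hdim ha hab
  have hgO := T_le_oG Q hg
  rw [mkT_of_mem mk hg, mkT_of_mem mk hE] at h
  obtain ⟨c, hc⟩ : ∃ c : ↥(T Q), c = ⟨g, hg⟩ * ⟨E Q a b, hE⟩ * (⟨g, hg⟩ : ↥(T Q))⁻¹ *
      (⟨E Q a b, hE⟩ : ↥(T Q))⁻¹ := ⟨_, rfl⟩
  have hcker : c ∈ mk.ker := by
    rw [MonoidHom.mem_ker, hc, map_mul, map_mul, map_mul, map_inv, map_inv, h]
    group
  rw [hker] at hcker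
  obtain ⟨l, hl⟩ := center_scalar Q hQ hdim hcker
  have hcval : (c : V ≃ₗ[F] V) = g * E Q a b * g⁻¹ * (E Q a b)⁻¹ := by
    rw [hc]; rfl
  have hga : Q (g a) = 0 := by rw [mem_oG.mp hgO, ha]
  have hgab : QuadraticMap.polar (⇑Q) (g a) (g b) = 0 := by rw [oG_polar Q hgO, hab]
  have hanb : QuadraticMap.polar (⇑Q) a (-b) = 0 := by
    rw [QuadraticMap.polar_neg_right, hab, neg_zero]
  rw [conj_E Q hgO ha hab, E_inv Q ha hab] at hcval
  obtain ⟨x, hx0, hxa, hxb, hxga, hxgb⟩ := exists_ne_zero_orth_four Q hQ hdim a b (g a) (g b)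
  have h1 : (c : V ≃ₗ[F] V) x = x := by
    rw [hcval, LinearEquiv.mul_apply, E_apply_of_orth Q ha hanb hxa
      (by rw [QuadraticMap.polar_neg_right, hxb, neg_zero]), E_apply_of_orth Q hga hgab hxga hxgb]
  have hl1 : l = 1 := by
    rw [hl x] at h1
    have h2 : (l - 1) • x = 0 := by rw [sub_smul, h1, one_smul, sub_self]
    rcases smul_eq_zero.mp h2 with h3 | h3
    · exact sub_eq_zero.mp h3
    · exact absurd h3 hx0
  have hc1 : (c : V ≃ₗ[F] V) = 1 := by
    ext y
    rw [hl y, hl1, one_smul]
    rfl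
  have hc1' : g * E Q a b * g⁻¹ * (E Q a b)⁻¹ = 1 := by
    rw [← hc1, hc]; rfl
  have := mul_inv_eq_one.mp hc1'
  exact mul_inv_eq_iff_eq_mul.mp this

omit [Finite F] in
/-- An isometry commuting with the long root element `E(u, s)` stabilises the line `⟨u, s⟩`. -/
theorem map_mem_span_of_comm (hQ : (QuadraticMap.polarBilin Q).Nondegenerate) {g : V ≃ₗ[F] V}
    (hg : g ∈ oG (⇑Q)) {u s : V} (h : TSLine Q u s) (hc : g * E Q u s = E Q u s * g) :
    g u ∈ Submodule.span F ({u, s} : Set V) ∧ g s ∈ Submodule.span F ({u, s} : Set V) := by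
  obtain ⟨hu, hs, hus, hu0, hsu⟩ := h
  have hgu : Q (g u) = 0 := by rw [mem_oG.mp hg, hu]
  have hgs : Q (g s) = 0 := by rw [mem_oG.mp hg, hs]
  have hgus : QuadraticMap.polar (⇑Q) (g u) (g s) = 0 := by rw [oG_polar Q hg, hus]
  have h1 : E Q (g u) (g s) = E Q u s := by
    rw [← conj_E Q hg hu hus, hc, mul_assoc, mul_inv_cancel, mul_one]
  have hus' : u ∉ Submodule.span F {s} := by
    intro hm
    obtain ⟨k, hk⟩ := Submodule.mem_span_singleton.mp hm
    have hk0 : k ≠ 0 := by
      rintro rfl
      rw [zero_smul] at hk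
      exact hu0 hk.symm
    apply hsu
    rw [Submodule.mem_span_singleton]
    exact ⟨k⁻¹, by rw [← hk, smul_smul, inv_mul_cancel₀ hk0, one_smul]⟩
  have hinj : ∀ {a b : V}, a ∉ Submodule.span F {b} → g a ∉ Submodule.span F {g b} := by
    intro a b hab hm
    obtain ⟨k, hk⟩ := Submodule.mem_span_singleton.mp hm
    apply hab
    rw [Submodule.mem_span_singleton]
    refine ⟨k, ?_⟩
    apply g.injective
    rw [map_smul, hk]
  constructor
  · obtain ⟨x, hx1, hx0⟩ := exists_polar_one_zero Q hQ (hinj hsu)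
    have h2 : E Q (g u) (g s) x = E Q u s x := by rw [h1]
    rw [E_apply Q hgu hgus, E_apply Q hu hus, hx1, hx0, hgs, hs] at h2
    have h3 : g u = QuadraticMap.polar (⇑Q) x s • u - QuadraticMap.polar (⇑Q) x u • s := by
      linear_combination (norm := module) -h2
    rw [h3]
    apply Submodule.sub_mem
    · exact Submodule.smul_mem _ _ (Submodule.subset_span (by simp))
    · exact Submodule.smul_mem _ _ (Submodule.subset_span (by simp))
  · obtain ⟨x, hx1, hx0⟩ := exists_polar_one_zero Q hQ (hinj hus')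
    have h2 : E Q (g u) (g s) x = E Q u s x := by rw [h1]
    rw [E_apply Q hgu hgus, E_apply Q hu hus, hx1, hx0, hgs, hs] at h2
    have h3 : g s = QuadraticMap.polar (⇑Q) x u • s - QuadraticMap.polar (⇑Q) x s • u := by
      linear_combination (norm := module) h2
    rw [h3]
    apply Submodule.sub_mem
    · exact Submodule.smul_mem _ _ (Submodule.subset_span (by simp))
    · exact Submodule.smul_mem _ _ (Submodule.subset_span (by simp))

omit [Finite F] [FiniteDimensional F V] in
/-- The long root elements of a totally singular line, in terms of another basis of the line. -/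
theorem E_line {u s : V} (hu : Q u = 0) (hs : Q s = 0) (hus : QuadraticMap.polar (⇑Q) u s = 0)
    (a b a' b' c : F) :
    E Q (a • u + b • s) (c • (a' • u + b' • s)) = E Q u ((c * (a * b' - a' * b)) • s) := by
  have huu : QuadraticMap.polar (⇑Q) u u = 0 := by rw [polar_self', hu, mul_zero]
  have hss : QuadraticMap.polar (⇑Q) s s = 0 := by rw [polar_self', hs, mul_zero]
  have hsu : QuadraticMap.polar (⇑Q) s u = 0 := by rw [QuadraticMap.polar_comm, hus]
  have hgen : ∀ a b : F, Q (a • u + b • s) = 0 := by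
    intro a b
    rw [QuadraticMap.map_add (⇑Q), QuadraticMap.map_smul, QuadraticMap.map_smul, hu, hs,
      QuadraticMap.polar_smul_left, QuadraticMap.polar_smul_right, hus]
    simp
  have hpol : ∀ a b a' b' : F, QuadraticMap.polar (⇑Q) (a • u + b • s) (a' • u + b' • s) = 0 := by
    intro a b a' b'
    rw [QuadraticMap.polar_add_left, QuadraticMap.polar_add_right, QuadraticMap.polar_add_right,
      QuadraticMap.polar_smul_left, QuadraticMap.polar_smul_left, QuadraticMap.polar_smul_left,
      QuadraticMap.polar_smul_left, QuadraticMap.polar_smul_right, QuadraticMap.polar_smul_right,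
      QuadraticMap.polar_smul_right, QuadraticMap.polar_smul_right, huu, hus, hsu, hss]
    simp
  have he := hgen a b
  have hez : QuadraticMap.polar (⇑Q) (a • u + b • s) (c • (a' • u + b' • s)) = 0 := by
    rw [QuadraticMap.polar_smul_right, hpol, smul_zero]
  have hz : Q (c • (a' • u + b' • s)) = 0 := by
    rw [QuadraticMap.map_smul, hgen, smul_zero]
  have hus' : QuadraticMap.polar (⇑Q) u ((c * (a * b' - a' * b)) • s) = 0 := by
    rw [QuadraticMap.polar_smul_right, hus, smul_zero]
  have hs' : Q ((c * (a * b' - a' * b)) • s) = 0 := by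
    rw [QuadraticMap.map_smul, hs, smul_zero]
  ext x
  rw [E_apply Q he hez, E_apply Q hu hus', hz, hs', QuadraticMap.polar_smul_right,
    QuadraticMap.polar_smul_right, QuadraticMap.polar_add_right, QuadraticMap.polar_add_right,
    QuadraticMap.polar_smul_right, QuadraticMap.polar_smul_right, QuadraticMap.polar_smul_right,
    QuadraticMap.polar_smul_right]
  simp only [smul_eq_mul]
  module

omit [Finite F] [FiniteDimensional F V] in
variable {Q} in
/-- The long root group depends only on the line. -/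
theorem rootSet_eq_of_line (mk : ↥(T Q) →* 𝔾) {u s : V} (hu : Q u = 0) (hs : Q s = 0)
    (hus : QuadraticMap.polar (⇑Q) u s = 0) {a b a' b' : F} (hd : a * b' - a' * b ≠ 0) :
    rootSet mk (a • u + b • s) (a' • u + b' • s) = rootSet mk u s := by
  ext t
  constructor
  · rintro ⟨c, rfl⟩
    exact ⟨c * (a * b' - a' * b), by rw [E_line Q hu hs hus]⟩
  · rintro ⟨c, rfl⟩
    refine ⟨c / (a * b' - a' * b), ?_⟩
    rw [E_line Q hu hs hus, div_mul_cancel₀ _ hd]

omit [Finite F] [FiniteDimensional F V] in
/-- A normal `p`-subgroup of `H` lies in `pCoreSet p H`. -/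
theorem mem_pCoreSet_of_normal {p : ℕ} {H N : Subgroup 𝔾} (hNH : N ≤ H) (hN : IsPGroup p N)
    (hn : H ≤ Subgroup.normalizer (N : Set 𝔾)) {t : 𝔾} (ht : t ∈ N) : t ∈ pCoreSet p H := by
  refine ⟨hNH ht, fun P hP => ?_⟩
  have h1 : IsPGroup p ↥(P ⊔ N) := IsPGroup.to_sup_of_normal_right' hP.2.1 hN (hP.1.trans hn)
  have h2 := hP.2.2 (P ⊔ N) le_sup_left (sup_le hP.1 hNH) h1
  have h3 : t ∈ P ⊔ N := (le_sup_right : N ≤ P ⊔ N) ht
  rwa [h2] at h3

end finite

end Cfsg.Agent.Lib.Helper97_OrthPB0
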