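import Mathlib
import Cfsg.Agent.Lib.Helper97_OrthPB0

/-!
# Orthogonal automorphism project (helper14), package PB1/PB2 (helper97)

* `comm_cases` (PB1): two distinct commuting long root groups `X_L`, `X_M` either have `L ⊥ M` or the lines
  meet in a point and are not perpendicular;
* `pcore_not_comm` (PB2): if `L ⊥ M` then `O_p(C(X_L X_M))` is not abelian.
-/

set_option autoImplicit false

namespace Cfsg.Agent.Lib.Helper97_OrthPB

open Module Cfsg.Agent.Lib.Helper14_OmegaSimple Cfsg.Agent.Lib.Helper14_OrthAut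
  Cfsg.Agent.Lib.Helper94_OrthSmall Cfsg.Agent.Lib.Helper44_QuadClass
  Cfsg.Agent.Lib.Helper97_OrthPB0 Cfsg.Agent.Lib.Helper94_Symp

variable {F V : Type*} [Field F] [Finite F] [AddCommGroup V] [Module F V] [FiniteDimensional F V]
variable {Q : QuadraticForm F V} {𝔾 : Type*} [Group 𝔾]

omit [Finite F] [FiniteDimensional F V] in
/-- One side of `comm_cases`: a point `e` of the totally singular line `⟨u, s⟩` and a basis vector `x` of
the line not orthogonal to some `y ⊥ e`. -/
theorem line_aux (mk : ↥(T Q) →* 𝔾) {u s : V} (h : TSLine Q u s) {e : V} (he0 : e ≠ 0) {a b : F}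
    (hab : e = a • u + b • s) {x y : V} (hx : x = u ∨ x = s)
    (hey : QuadraticMap.polar (⇑Q) e y = 0) (hxy : QuadraticMap.polar (⇑Q) x y ≠ 0) :
    TSLine Q e x ∧ rootSet mk u s = rootSet mk e x := by
  obtain ⟨hu, hs, hus, hu0, hsu⟩ := h
  have huu : QuadraticMap.polar (⇑Q) u u = 0 := by rw [polar_self', hu, mul_zero]
  have hss : QuadraticMap.polar (⇑Q) s s = 0 := by rw [polar_self', hs, mul_zero]
  have hsu' : QuadraticMap.polar (⇑Q) s u = 0 := by rw [QuadraticMap.polar_comm, hus]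
  have hQe : Q e = 0 := by
    rw [hab, QuadraticMap.map_add (⇑Q), QuadraticMap.map_smul, QuadraticMap.map_smul, hu, hs,
      QuadraticMap.polar_smul_left, QuadraticMap.polar_smul_right, hus]
    simp
  have heu : QuadraticMap.polar (⇑Q) e u = 0 := by
    rw [hab, QuadraticMap.polar_add_left, QuadraticMap.polar_smul_left,
      QuadraticMap.polar_smul_left, huu, hsu']
    simp
  have hes : QuadraticMap.polar (⇑Q) e s = 0 := by
    rw [hab, QuadraticMap.polar_add_left, QuadraticMap.polar_smul_left,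
      QuadraticMap.polar_smul_left, hus, hss]
    simp
  have hQx : Q x = 0 := by rcases hx with rfl | rfl <;> assumption
  have hex : QuadraticMap.polar (⇑Q) e x = 0 := by rcases hx with rfl | rfl <;> assumption
  have hxe : x ∉ Submodule.span F {e} := by
    intro hm
    obtain ⟨k, hk⟩ := Submodule.mem_span_singleton.mp hm
    apply hxy
    rw [← hk, QuadraticMap.polar_smul_left, hey, smul_zero]
  refine ⟨⟨hQe, hQx, hex, he0, hxe⟩, ?_⟩
  rcases hx with rfl | rfl
  · -- `x = u`
    have hb : b ≠ 0 := by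
      rintro rfl
      rw [zero_smul, add_zero] at hab
      rw [hab, QuadraticMap.polar_smul_left, smul_eq_mul] at hey
      rcases mul_eq_zero.mp hey with h1 | h1
      · apply he0; rw [hab, h1, zero_smul]
      · exact hxy h1
    have hd : a * (0 : F) - 1 * b ≠ 0 := by
      rw [mul_zero, one_mul, zero_sub]
      exact neg_ne_zero.mpr hb
    have := rootSet_eq_of_line mk hu hs hus hd
    rw [one_smul, zero_smul, add_zero, ← hab] at this
    exact this.symm
  · -- `x = s`
    have ha : a ≠ 0 := by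
      rintro rfl
      rw [zero_smul, zero_add] at hab
      rw [hab, QuadraticMap.polar_smul_left, smul_eq_mul] at hey
      rcases mul_eq_zero.mp hey with h1 | h1
      · apply he0; rw [hab, h1, zero_smul]
      · exact hxy h1
    have hd : a * (1 : F) - 0 * b ≠ 0 := by
      rw [mul_one, zero_mul, sub_zero]
      exact ha
    have := rootSet_eq_of_line mk hu hs hus hd
    rw [one_smul, zero_smul, zero_add, ← hab] at this
    exact this.symm

/-- PB1 -/
theorem comm_cases (hH : Hyp Q) (mk : ↥(T Q) →* 𝔾) (hsurj : Function.Surjective mk)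
    (hker : mk.ker = Subgroup.center ↥(T Q)) {u s u' s' : V} (h : TSLine Q u s)
    (h' : TSLine Q u' s') (hne : rootSet mk u s ≠ rootSet mk u' s')
    (hcomm : ∀ a ∈ rootSet mk u s, ∀ b ∈ rootSet mk u' s', a * b = b * a) :
    (QuadraticMap.polar (⇑Q) u u' = 0 ∧ QuadraticMap.polar (⇑Q) u s' = 0 ∧
      QuadraticMap.polar (⇑Q) s u' = 0 ∧ QuadraticMap.polar (⇑Q) s s' = 0) ∨
    (∃ e z z' : V, TSLine Q e z ∧ TSLine Q e z' ∧ QuadraticMap.polar (⇑Q) z z' ≠ 0 ∧
      rootSet mk u s = rootSet mk e z ∧ rootSet mk u' s' = rootSet mk e z') := by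
  have hQ := hH.nd
  have hdim : 5 ≤ finrank F V := by have := hH.dim; omega
  have hT := h
  have hT' := h'
  obtain ⟨hu, hs, hus, hu0, hsu⟩ := h
  obtain ⟨hu', hs', hus', hu'0, hsu'⟩ := h'
  have hE : E Q u s ∈ T Q := root_mem_T Q hu hs hus
  have hE' : E Q u' s' ∈ T Q := root_mem_T Q hu' hs' hus'
  have hmem : mkT Q mk (E Q u s) ∈ rootSet mk u s := ⟨1, by rw [one_smul]⟩
  have hmem' : mkT Q mk (E Q u' s') ∈ rootSet mk u' s' := ⟨1, by rw [one_smul]⟩
  have hc : E Q u' s' * E Q u s = E Q u s * E Q u' s' :=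
    comm_of_mkT_comm Q hQ hdim mk hker hE' hu hus (hcomm _ hmem _ hmem').symm
  obtain ⟨hmu, hms⟩ := map_mem_span_of_comm Q hQ (T_le_oG Q hE') hT hc
  -- `E' x - x ∈ ⟨u, s⟩`
  have hdiff : ∀ x : V, (x = u ∨ x = s) →
      QuadraticMap.polar (⇑Q) x u' • s' - QuadraticMap.polar (⇑Q) x s' • u' ∈
        Submodule.span F ({u, s} : Set V) := by
    intro x hx
    have h1 : E Q u' s' x ∈ Submodule.span F ({u, s} : Set V) := by
      rcases hx with rfl | rfl <;> assumption
    have h2 : x ∈ Submodule.span F ({u, s} : Set V) := by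
      rcases hx with rfl | rfl <;> exact Submodule.subset_span (by simp)
    have h3 := Submodule.sub_mem _ h1 h2
    rw [E_apply Q hu' hus', hs'] at h3
    have h4 : x + QuadraticMap.polar (⇑Q) x u' • s' - QuadraticMap.polar (⇑Q) x s' • u' -
        ((0 : F) * QuadraticMap.polar (⇑Q) x u') • u' - x =
        QuadraticMap.polar (⇑Q) x u' • s' - QuadraticMap.polar (⇑Q) x s' • u' := by
      rw [zero_mul, zero_smul]; abel
    rwa [h4] at h3
  by_cases hall : QuadraticMap.polar (⇑Q) u u' = 0 ∧ QuadraticMap.polar (⇑Q) u s' = 0 ∧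
      QuadraticMap.polar (⇑Q) s u' = 0 ∧ QuadraticMap.polar (⇑Q) s s' = 0
  · exact Or.inl hall
  right
  have hu'u' : QuadraticMap.polar (⇑Q) u' u' = 0 := by rw [polar_self', hu', mul_zero]
  have hs's' : QuadraticMap.polar (⇑Q) s' s' = 0 := by rw [polar_self', hs', mul_zero]
  have hs'u' : QuadraticMap.polar (⇑Q) s' u' = 0 := by rw [QuadraticMap.polar_comm, hus']
  have key : ∀ x : V, (x = u ∨ x = s) → ∀ y : V, (y = u' ∨ y = s') →
      QuadraticMap.polar (⇑Q) x y ≠ 0 →
      ∃ e z z' : V, TSLine Q e z ∧ TSLine Q e z' ∧ QuadraticMap.polar (⇑Q) z z' ≠ 0 ∧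
        rootSet mk u s = rootSet mk e z ∧ rootSet mk u' s' = rootSet mk e z' := by
    intro x hx y hy hxy
    obtain ⟨e, he⟩ : ∃ e, e = QuadraticMap.polar (⇑Q) x u' • s' - QuadraticMap.polar (⇑Q) x s' • u' :=
      ⟨_, rfl⟩
    have heL : e ∈ Submodule.span F ({u, s} : Set V) := he ▸ hdiff x hx
    obtain ⟨a, b, hab⟩ := Submodule.mem_span_pair.mp heL
    have hab' : e = (-QuadraticMap.polar (⇑Q) x s') • u' + QuadraticMap.polar (⇑Q) x u' • s' := by
      rw [he, neg_smul]; abel
    have he0 : e ≠ 0 := by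
      intro h0
      rw [h0] at hab'
      -- `u', s'` independent
      by_cases hb0 : QuadraticMap.polar (⇑Q) x u' = 0
      · rw [hb0, zero_smul, add_zero] at hab'
        have h1 := smul_eq_zero.mp hab'.symm
        rcases h1 with h1 | h1
        · rcases hy with rfl | rfl
          · exact hxy hb0
          · exact hxy (neg_eq_zero.mp h1)
        · exact hu'0 h1
      · apply hsu'
        rw [Submodule.mem_span_singleton]
        refine ⟨(QuadraticMap.polar (⇑Q) x u')⁻¹ * QuadraticMap.polar (⇑Q) x s', ?_⟩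
        have h2 : QuadraticMap.polar (⇑Q) x u' • s' = QuadraticMap.polar (⇑Q) x s' • u' := by
          have := hab'.symm
          rw [neg_smul, neg_add_eq_zero] at this
          exact this.symm
        rw [mul_smul, ← h2, smul_smul, inv_mul_cancel₀ hb0, one_smul]
    have hey : QuadraticMap.polar (⇑Q) e y = 0 := by
      rw [hab', QuadraticMap.polar_add_left, QuadraticMap.polar_smul_left,
        QuadraticMap.polar_smul_left]
      rcases hy with rfl | rfl
      · rw [hu'u', hs'u']; simp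
      · rw [hus', hs's']; simp
    have hex : QuadraticMap.polar (⇑Q) e x = 0 := by
      have huu : QuadraticMap.polar (⇑Q) u u = 0 := by rw [polar_self', hu, mul_zero]
      have hss : QuadraticMap.polar (⇑Q) s s = 0 := by rw [polar_self', hs, mul_zero]
      have hsu2 : QuadraticMap.polar (⇑Q) s u = 0 := by rw [QuadraticMap.polar_comm, hus]
      rw [← hab, QuadraticMap.polar_add_left, QuadraticMap.polar_smul_left,
        QuadraticMap.polar_smul_left]
      rcases hx with rfl | rfl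
      · rw [huu, hsu2]; simp
      · rw [hus, hss]; simp
    have hyx : QuadraticMap.polar (⇑Q) y x ≠ 0 := by rwa [QuadraticMap.polar_comm]
    obtain ⟨hl1, hl2⟩ := line_aux mk hT he0 hab.symm hx hey hxy
    obtain ⟨hm1, hm2⟩ := line_aux mk hT' he0 hab' hy hex hyx
    exact ⟨e, x, y, hl1, hm1, hxy, hl2, hm2⟩
  by_contra hcon
  apply hall
  refine ⟨?_, ?_, ?_, ?_⟩
  · by_contra h0
    exact hcon (key u (Or.inl rfl) u' (Or.inl rfl) h0)
  · by_contra h0
    exact hcon (key u (Or.inl rfl) s' (Or.inr rfl) h0)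
  · by_contra h0
    exact hcon (key s (Or.inr rfl) u' (Or.inl rfl) h0)
  · by_contra h0
    exact hcon (key s (Or.inr rfl) s' (Or.inr rfl) h0)

/-! ## The unipotent radical of the stabiliser of a totally isotropic subspace -/

variable (Q) in
/-- The isometries that are trivial on `T0` and on `T0^⊥ / T0`. -/
def uRad (T0 : Submodule F V) : Subgroup (V ≃ₗ[F] V) where
  carrier := {g | g ∈ oG (⇑Q) ∧ (∀ t ∈ T0, g t = t) ∧
    ∀ x : V, (∀ t ∈ T0, QuadraticMap.polar (⇑Q) x t = 0) → g x - x ∈ T0}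
  mul_mem' := by
    rintro g h ⟨hg, hg1, hg2⟩ ⟨hh, hh1, hh2⟩
    refine ⟨(oG (⇑Q)).mul_mem hg hh, ?_, ?_⟩
    · intro t ht
      rw [LinearEquiv.mul_apply, hh1 t ht, hg1 t ht]
    · intro x hx
      have h1 := hh2 x hx
      have h2 := hg2 x hx
      have h3 : (g * h) x - x = (h x - x) + (g x - x) := by
        rw [LinearEquiv.mul_apply]
        have : g (h x) = g (h x - x) + g x := by rw [← map_add, sub_add_cancel]
        rw [this, hg1 _ h1]; abel
      rw [h3]
      exact T0.add_mem h1 h2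
  one_mem' := by
    refine ⟨(oG (⇑Q)).one_mem, fun t _ => rfl, fun x _ => ?_⟩
    rw [LinearEquiv.coe_one, id_eq, sub_self]
    exact T0.zero_mem
  inv_mem' := by
    rintro g ⟨hg, hg1, hg2⟩
    have hinv : ∀ t ∈ T0, g⁻¹ t = t := by
      intro t ht
      conv_lhs => rw [← hg1 t ht]
      exact inv_apply_apply' g t
    refine ⟨(oG (⇑Q)).inv_mem hg, hinv, ?_⟩
    intro x hx
    have h1 := hg2 x hx
    have h2 : g⁻¹ x - x = -(g x - x) := by
      have h3 : g⁻¹ (g x - x) = x - g⁻¹ x := by rw [map_sub, inv_apply_apply']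
      rw [hinv _ h1] at h3
      rw [h3]; abel
    rw [h2]
    exact T0.neg_mem h1

omit [Finite F] [FiniteDimensional F V] in
theorem mem_uRad {T0 : Submodule F V} {g : V ≃ₗ[F] V} : g ∈ uRad Q T0 ↔ g ∈ oG (⇑Q) ∧
    (∀ t ∈ T0, g t = t) ∧
    ∀ x : V, (∀ t ∈ T0, QuadraticMap.polar (⇑Q) x t = 0) → g x - x ∈ T0 := Iff.rfl

omit [Finite F] [FiniteDimensional F V] in
/-- Conjugation by an isometry stabilising `T0` preserves `uRad Q T0`. -/
theorem conj_mem_uRad {T0 : Submodule F V} {g n : V ≃ₗ[F] V} (hg : g ∈ oG (⇑Q))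
    (h1 : ∀ t ∈ T0, g t ∈ T0) (h2 : ∀ t ∈ T0, g⁻¹ t ∈ T0) (hn : n ∈ uRad Q T0) :
    g * n * g⁻¹ ∈ uRad Q T0 := by
  obtain ⟨hn0, hn1, hn2⟩ := hn
  refine ⟨(oG (⇑Q)).mul_mem ((oG (⇑Q)).mul_mem hg hn0) ((oG (⇑Q)).inv_mem hg), ?_, ?_⟩
  · intro t ht
    rw [LinearEquiv.mul_apply, LinearEquiv.mul_apply, hn1 _ (h2 t ht), apply_inv_apply']
  · intro x hx
    have h3 : ∀ t ∈ T0, QuadraticMap.polar (⇑Q) (g⁻¹ x) t = 0 := by
      intro t ht
      rw [← oG_polar Q hg, apply_inv_apply']
      exact hx _ (h1 t ht)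
    have h4 := hn2 _ h3
    have h5 : (g * n * g⁻¹) x - x = g (n (g⁻¹ x) - g⁻¹ x) := by
      rw [LinearEquiv.mul_apply, LinearEquiv.mul_apply, map_sub, apply_inv_apply']
    rw [h5]
    exact h1 _ h4

omit [Finite F] [FiniteDimensional F V] in
/-- Eichler elements in `uRad Q T0`. -/
theorem E_mem_uRad {T0 : Submodule F V} (hT0 : ∀ t ∈ T0, ∀ t' ∈ T0, QuadraticMap.polar (⇑Q) t t' = 0)
    {a w : V} (ha : Q a = 0) (haT : a ∈ T0) (hw : ∀ t ∈ T0, QuadraticMap.polar (⇑Q) w t = 0) :
    E Q a w ∈ uRad Q T0 := by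
  have haw : QuadraticMap.polar (⇑Q) a w = 0 := by rw [QuadraticMap.polar_comm]; exact hw a haT
  refine ⟨E_mem_oG Q ha haw, ?_, ?_⟩
  · intro t ht
    apply E_apply_of_orth Q ha haw (hT0 t ht a haT)
    rw [QuadraticMap.polar_comm]; exact hw t ht
  · intro x hx
    rw [E_apply Q ha haw, hx a haT]
    have : x + (0 : F) • w - QuadraticMap.polar (⇑Q) x w • a - (Q w * 0) • a - x =
        (-QuadraticMap.polar (⇑Q) x w) • a := by
      rw [zero_smul, mul_zero, zero_smul, neg_smul]; abel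
    rw [this]
    exact T0.smul_mem _ haT

omit [Finite F] [FiniteDimensional F V] in
/-- Elements of `uRad Q T0` are unipotent of exponent dividing `p ^ 2`. -/
theorem pow_uRad {p : ℕ} [Fact p.Prime] [CharP F p] [Nontrivial V] {T0 : Submodule F V}
    {g : V ≃ₗ[F] V} (hg : g ∈ uRad Q T0) : g ^ (p ^ 2) = 1 := by
  obtain ⟨hg0, hg1, hg2⟩ := hg
  have : CharP (Module.End F V) p :=
    charP_of_injective_algebraMap (algebraMap F (Module.End F V)).injective p
  obtain ⟨n, hn⟩ : ∃ n : Module.End F V, n = (g : V →ₗ[F] V) - 1 := ⟨_, rfl⟩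
  have hnx : ∀ x, n x = g x - x := by
    intro x
    rw [hn]; rfl
  have hn3 : n ^ 3 = 0 := by
    ext x
    have e1 : (n ^ 3) x = n (n (n x)) := by
      rw [pow_succ, pow_succ, pow_one]; rfl
    rw [e1, LinearMap.zero_apply]
    have h1 : ∀ t ∈ T0, QuadraticMap.polar (⇑Q) (n x) t = 0 := by
      intro t ht
      rw [hnx, QuadraticMap.polar_sub_left]
      conv_lhs => rw [← hg1 t ht]
      rw [oG_polar Q hg0, hg1 t ht, sub_self]
    have h2 : n (n x) ∈ T0 := by
      rw [hnx (n x)]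
      exact hg2 _ h1
    rw [hnx (n (n x)), hg1 _ h2, sub_self]
  have hp2 : 3 ≤ p ^ 2 := by
    have := (Fact.out : p.Prime).two_le
    nlinarith
  have hnp : n ^ (p ^ 2) = 0 := pow_eq_zero_of_le hp2 hn3
  have hgn : (g : V →ₗ[F] V) = 1 + n := by rw [hn]; abel
  have hpow : ((g : V →ₗ[F] V) : Module.End F V) ^ (p ^ 2) = 1 := by
    rw [hgn, add_pow_char_pow_of_commute (p := p) (n := 2) (Commute.one_left n), one_pow, hnp,
      add_zero]
  ext x
  rw [LinearEquiv.pow_apply]
  have h3 := Module.End.pow_apply ((g : V →ₗ[F] V) : Module.End F V) (p ^ 2) x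
  rw [hpow] at h3
  exact h3.symm

omit [Finite F] [FiniteDimensional F V] in
/-- The polar form vanishes on the span of a set of pairwise orthogonal vectors. -/
theorem polar_span_zero {S : Set V} (h : ∀ a ∈ S, ∀ b ∈ S, QuadraticMap.polar (⇑Q) a b = 0) :
    ∀ a ∈ Submodule.span F S, ∀ b ∈ Submodule.span F S, QuadraticMap.polar (⇑Q) a b = 0 := by
  intro a ha b hb
  induction ha using Submodule.span_induction with
  | mem x hx =>
    induction hb using Submodule.span_induction with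
    | mem y hy => exact h x hx y hy
    | zero => simp [QuadraticMap.polar]
    | add y z _ _ hy hz => rw [QuadraticMap.polar_add_right, hy, hz, add_zero]
    | smul c y _ hy => rw [QuadraticMap.polar_smul_right, hy, smul_zero]
  | zero => simp [QuadraticMap.polar]
  | add x y _ _ hx hy => rw [QuadraticMap.polar_add_left, hx, hy, add_zero]
  | smul c x _ hx => rw [QuadraticMap.polar_smul_left, hx, smul_zero]

omit [Finite F] [FiniteDimensional F V] in
/-- `Q` vanishes on the span of a set of pairwise orthogonal singular vectors. -/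
theorem Q_span_zero {S : Set V} (hS : ∀ a ∈ S, Q a = 0)
    (h : ∀ a ∈ S, ∀ b ∈ S, QuadraticMap.polar (⇑Q) a b = 0) :
    ∀ a ∈ Submodule.span F S, Q a = 0 := by
  intro a ha
  induction ha using Submodule.span_induction with
  | mem x hx => exact hS x hx
  | zero => exact QuadraticMap.map_zero Q
  | add x y hx hy ihx ihy =>
    rw [QuadraticMap.map_add (⇑Q), ihx, ihy, polar_span_zero h x hx y hy]
    simp
  | smul c x _ ihx => rw [QuadraticMap.map_smul, ihx, smul_zero]

omit [Finite F] in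
/-- Two non-orthogonal vectors orthogonal to a totally singular subspace of dimension at most four. -/
theorem exists_orth_pair (hH : Hyp Q) {T0 : Submodule F V} (hT0 : ∀ t ∈ T0, Q t = 0)
    (hr : finrank F T0 ≤ 4) :
    ∃ w w' : V, (∀ t ∈ T0, QuadraticMap.polar (⇑Q) w t = 0) ∧
      (∀ t ∈ T0, QuadraticMap.polar (⇑Q) w' t = 0) ∧ QuadraticMap.polar (⇑Q) w w' ≠ 0 := by
  have hQ := hH.nd
  by_contra hcon
  push Not at hcon
  obtain ⟨K, hK⟩ : ∃ K, K = LinearMap.BilinForm.orthogonal (QuadraticMap.polarBilin Q) T0 := ⟨_, rfl⟩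
  have hmemK : ∀ m : V, m ∈ K ↔ ∀ t ∈ T0, QuadraticMap.polar (⇑Q) m t = 0 := by
    intro m
    rw [hK, LinearMap.BilinForm.mem_orthogonal_iff]
    constructor
    · intro h t ht
      have := h t ht
      rwa [QuadraticMap.polarBilin_apply_apply, QuadraticMap.polar_comm] at this
    · intro h t ht
      rw [QuadraticMap.polarBilin_apply_apply, QuadraticMap.polar_comm]
      exact h t ht
  have hKfr : finrank F K = finrank F V - finrank F T0 := by
    rw [hK]; exact LinearMap.BilinForm.finrank_orthogonal hQ T0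
  have hKK : K ≤ LinearMap.BilinForm.orthogonal (QuadraticMap.polarBilin Q) K := by
    intro x hx
    rw [LinearMap.BilinForm.mem_orthogonal_iff]
    intro y hy
    rw [QuadraticMap.polarBilin_apply_apply]
    exact hcon y x ((hmemK y).mp hy) ((hmemK x).mp hx)
  have h1 := Submodule.finrank_mono hKK
  have h2 : finrank F (LinearMap.BilinForm.orthogonal (QuadraticMap.polarBilin Q) K) =
      finrank F V - finrank F K := LinearMap.BilinForm.finrank_orthogonal hQ K
  have hTK : T0 ≤ K := by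
    intro t ht
    rw [hmemK]
    intro t' ht'
    have h3 := hT0 (t + t') (T0.add_mem ht ht')
    rw [QuadraticMap.map_add (⇑Q), hT0 t ht, hT0 t' ht'] at h3
    simpa using h3
  have h3 := Submodule.finrank_mono hTK
  have hle : finrank F T0 ≤ finrank F V := Submodule.finrank_le T0
  have hdim := hH.dim
  have h8 : finrank F V = 8 := by omega
  have h4 : finrank F T0 = 4 := by omega
  exact hH.d4 h8 ⟨T0, h4, hT0⟩

/-- PB2 -/
theorem pcore_not_comm {p : ℕ} [Fact p.Prime] [CharP F p] (hH : Hyp Q) (mk : ↥(T Q) →* 𝔾)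
    (hsurj : Function.Surjective mk)
    (hker : mk.ker = Subgroup.center ↥(T Q)) {u s u' s' : V} (h : TSLine Q u s)
    (h' : TSLine Q u' s') (hne : rootSet mk u s ≠ rootSet mk u' s')
    (hperp : QuadraticMap.polar (⇑Q) u u' = 0 ∧ QuadraticMap.polar (⇑Q) u s' = 0 ∧
      QuadraticMap.polar (⇑Q) s u' = 0 ∧ QuadraticMap.polar (⇑Q) s s' = 0) :
    ∃ a ∈ pCoreSet p (Subgroup.centralizer (rootSet mk u s ∪ rootSet mk u' s')),
      ∃ b ∈ pCoreSet p (Subgroup.centralizer (rootSet mk u s ∪ rootSet mk u' s')),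
        a * b ≠ b * a := by
  classical
  have hQ := hH.nd
  have hdim : 5 ≤ finrank F V := by have := hH.dim; omega
  have hT := h
  have hT' := h'
  obtain ⟨hu, hs, hus, hu0, hsu⟩ := h
  obtain ⟨hu', hs', hus', hu'0, hsu'⟩ := h'
  obtain ⟨h1, h2, h3, h4⟩ := hperp
  have : Nontrivial V := Module.nontrivial_of_finrank_pos (R := F) (by omega)
  have huu : QuadraticMap.polar (⇑Q) u u = 0 := by rw [polar_self', hu, mul_zero]
  have hss : QuadraticMap.polar (⇑Q) s s = 0 := by rw [polar_self', hs, mul_zero]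
  have hu'u' : QuadraticMap.polar (⇑Q) u' u' = 0 := by rw [polar_self', hu', mul_zero]
  have hs's' : QuadraticMap.polar (⇑Q) s' s' = 0 := by rw [polar_self', hs', mul_zero]
  obtain ⟨T0, hT0⟩ : ∃ T0, T0 = Submodule.span F ({u, s, u', s'} : Set V) := ⟨_, rfl⟩
  have hSQ : ∀ a ∈ ({u, s, u', s'} : Set V), Q a = 0 := by
    intro a ha
    simp only [Set.mem_insert_iff, Set.mem_singleton_iff] at ha
    rcases ha with rfl | rfl | rfl | rfl <;> assumption
  have hSP : ∀ a ∈ ({u, s, u', s'} : Set V), ∀ b ∈ ({u, s, u', s'} : Set V),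
      QuadraticMap.polar (⇑Q) a b = 0 := by
    intro a ha b hb
    simp only [Set.mem_insert_iff, Set.mem_singleton_iff] at ha hb
    rcases ha with rfl | rfl | rfl | rfl <;> rcases hb with rfl | rfl | rfl | rfl <;>
      first | assumption | (rw [QuadraticMap.polar_comm]; assumption)
  have hT0P : ∀ t ∈ T0, ∀ t' ∈ T0, QuadraticMap.polar (⇑Q) t t' = 0 := by
    rw [hT0]; exact polar_span_zero hSP
  have hT0Q : ∀ t ∈ T0, Q t = 0 := by
    rw [hT0]; exact Q_span_zero hSQ hSP
  have hr : finrank F T0 ≤ 4 := by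
    rw [hT0]
    have := finrank_span_finset_le_card (R := F) ({u, s, u', s'} : Finset V)
    have h5 : ({u, s, u', s'} : Finset V).card ≤ 4 := Finset.card_le_four
    have h6 : ((({u, s, u', s'} : Finset V) : Set V)) = ({u, s, u', s'} : Set V) := by simp
    rw [h6] at this
    exact this.trans h5
  obtain ⟨w, w', hw, hw', hww'⟩ := exists_orth_pair hH hT0Q hr
  have huT : u ∈ T0 := hT0 ▸ Submodule.subset_span (by simp)
  have hsT : s ∈ T0 := hT0 ▸ Submodule.subset_span (by simp)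
  have hu'T : u' ∈ T0 := hT0 ▸ Submodule.subset_span (by simp)
  have hs'T : s' ∈ T0 := hT0 ▸ Submodule.subset_span (by simp)
  obtain ⟨H, hHdef⟩ : ∃ H : Subgroup 𝔾,
    H = Subgroup.centralizer (rootSet mk u s ∪ rootSet mk u' s') := ⟨_, rfl⟩
  rw [← hHdef]
  obtain ⟨N, hN⟩ : ∃ N : Subgroup 𝔾, N = ((uRad Q T0).subgroupOf (T Q)).map mk := ⟨_, rfl⟩
  have hmemN : ∀ t, t ∈ N ↔ ∃ g : ↥(T Q), (g : V ≃ₗ[F] V) ∈ uRad Q T0 ∧ mk g = t := by
    intro t
    rw [hN, Subgroup.mem_map]
    constructor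
    · rintro ⟨g, hg, rfl⟩
      exact ⟨g, Subgroup.mem_subgroupOf.mp hg, rfl⟩
    · rintro ⟨g, hg, rfl⟩
      exact ⟨g, Subgroup.mem_subgroupOf.mpr hg, rfl⟩
  have hNp : IsPGroup p ↥N := by
    rintro ⟨t, ht⟩
    obtain ⟨g, hg, rfl⟩ := (hmemN t).mp ht
    refine ⟨2, Subtype.ext ?_⟩
    rw [Subgroup.coe_pow, Subgroup.coe_one, Subgroup.coe_mk, ← map_pow]
    have h5 : g ^ (p ^ 2) = 1 := Subtype.ext (by
      rw [Subgroup.coe_pow, Subgroup.coe_one]; exact pow_uRad hg)
    rw [h5, map_one]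
  -- elements of `N` centralise the root groups of lines inside `T0`
  have hcentral : ∀ g : ↥(T Q), (g : V ≃ₗ[F] V) ∈ uRad Q T0 → ∀ {a b : V}, Q a = 0 → Q b = 0 →
      QuadraticMap.polar (⇑Q) a b = 0 → a ∈ T0 → b ∈ T0 → ∀ c : F,
      mkT Q mk (E Q a (c • b)) * mk g = mk g * mkT Q mk (E Q a (c • b)) := by
    intro g hg a b ha hb hab haT hbT c
    have hcb : Q (c • b) = 0 := by rw [QuadraticMap.map_smul, hb, smul_zero]
    have hacb : QuadraticMap.polar (⇑Q) a (c • b) = 0 := by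
      rw [QuadraticMap.polar_smul_right, hab, smul_zero]
    have hE : E Q a (c • b) ∈ T Q := root_mem_T Q ha hcb hacb
    rw [mkT_of_mem mk hE, ← map_mul, ← map_mul]
    congr 1
    apply Subtype.ext
    show E Q a (c • b) * (g : V ≃ₗ[F] V) = (g : V ≃ₗ[F] V) * E Q a (c • b)
    have h5 := conj_E Q hg.1 ha hacb
    rw [hg.2.1 a haT, map_smul, hg.2.1 b hbT] at h5
    exact (mul_inv_eq_iff_eq_mul.mp h5).symm
  have hNH : N ≤ H := by
    intro t ht
    obtain ⟨g, hg, rfl⟩ := (hmemN t).mp ht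
    rw [hHdef, Subgroup.mem_centralizer_iff]
    intro x hx
    rcases hx with ⟨c, rfl⟩ | ⟨c, rfl⟩
    · exact hcentral g hg hu hs hus huT hsT c
    · exact hcentral g hg hu' hs' hus' hu'T hs'T c
  -- lifts of elements of `H` stabilise `T0`
  have hle1 : Submodule.span F ({u, s} : Set V) ≤ T0 := by
    rw [hT0]
    apply Submodule.span_mono
    intro x hx
    simp only [Set.mem_insert_iff, Set.mem_singleton_iff] at hx ⊢
    tauto
  have hle2 : Submodule.span F ({u', s'} : Set V) ≤ T0 := by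
    rw [hT0]
    apply Submodule.span_mono
    intro x hx
    simp only [Set.mem_insert_iff, Set.mem_singleton_iff] at hx ⊢
    tauto
  have hstab : ∀ g : V ≃ₗ[F] V, g ∈ T Q → mkT Q mk g ∈ H → ∀ t ∈ T0, g t ∈ T0 := by
    intro g hg hgH
    rw [hHdef] at hgH
    have hc1 : g * E Q u s = E Q u s * g := by
      apply comm_of_mkT_comm Q hQ hdim mk hker hg hu hus
      exact (Subgroup.mem_centralizer_iff.mp hgH (mkT Q mk (E Q u s))
        (Or.inl ⟨1, by rw [one_smul]⟩)).symm
    have hc2 : g * E Q u' s' = E Q u' s' * g := by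
      apply comm_of_mkT_comm Q hQ hdim mk hker hg hu' hus'
      exact (Subgroup.mem_centralizer_iff.mp hgH (mkT Q mk (E Q u' s'))
        (Or.inr ⟨1, by rw [one_smul]⟩)).symm
    obtain ⟨m1, m2⟩ := map_mem_span_of_comm Q hQ (T_le_oG Q hg) hT hc1
    obtain ⟨m3, m4⟩ := map_mem_span_of_comm Q hQ (T_le_oG Q hg) hT' hc2
    intro t ht
    rw [hT0] at ht
    induction ht using Submodule.span_induction with
    | mem x hx =>
      simp only [Set.mem_insert_iff, Set.mem_singleton_iff] at hx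
      rcases hx with rfl | rfl | rfl | rfl
      · exact hle1 m1
      · exact hle1 m2
      · exact hle2 m3
      · exact hle2 m4
    | zero => rw [map_zero]; exact T0.zero_mem
    | add x y _ _ hx hy => rw [map_add]; exact T0.add_mem hx hy
    | smul c x _ hx => rw [map_smul]; exact T0.smul_mem c hx
  have hconj : ∀ h0 ∈ H, ∀ t ∈ N, h0 * t * h0⁻¹ ∈ N := by
    intro h0 hh0 t ht
    obtain ⟨g0, rfl⟩ := hsurj h0
    obtain ⟨g1, hg1, rfl⟩ := (hmemN t).mp ht
    rw [hmemN]
    refine ⟨g0 * g1 * g0⁻¹, ?_, by rw [map_mul, map_mul, map_inv]⟩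
    have hs1 := hstab (g0 : V ≃ₗ[F] V) g0.2 (by rw [mkT_coe]; exact hh0)
    have hs2 := hstab ((g0⁻¹ : ↥(T Q)) : V ≃ₗ[F] V) (g0⁻¹).2 (by
      rw [mkT_coe, map_inv]; exact H.inv_mem hh0)
    exact conj_mem_uRad (T_le_oG Q g0.2) hs1 hs2 hg1
  have hHN : H ≤ Subgroup.normalizer (N : Set 𝔾) := by
    intro h0 hh0
    rw [Subgroup.mem_normalizer_iff]
    intro t
    constructor
    · exact hconj h0 hh0 t
    · intro ht
      have h5 := hconj h0⁻¹ (H.inv_mem hh0) _ ht
      have h6 : h0⁻¹ * (h0 * t * h0⁻¹) * h0⁻¹⁻¹ = t := by group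
      rwa [h6] at h5
  -- the two elements
  have huw : QuadraticMap.polar (⇑Q) u w = 0 := by rw [QuadraticMap.polar_comm]; exact hw u huT
  have hsw' : QuadraticMap.polar (⇑Q) s w' = 0 := by rw [QuadraticMap.polar_comm]; exact hw' s hsT
  have hEuw : E Q u w ∈ T Q := E_mem_T Q hQ hdim hu huw
  have hEsw : E Q s w' ∈ T Q := E_mem_T Q hQ hdim hs hsw'
  have haN : mk ⟨E Q u w, hEuw⟩ ∈ N :=
    (hmemN _).mpr ⟨⟨_, hEuw⟩, E_mem_uRad hT0P hu huT hw, rfl⟩
  have hbN : mk ⟨E Q s w', hEsw⟩ ∈ N :=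
    (hmemN _).mpr ⟨⟨_, hEsw⟩, E_mem_uRad hT0P hs hsT hw', rfl⟩
  refine ⟨_, mem_pCoreSet_of_normal hNH hNp hHN haN, _, mem_pCoreSet_of_normal hNH hNp hHN hbN, ?_⟩
  intro hab
  have hc : E Q u w * E Q s w' = E Q s w' * E Q u w := by
    apply comm_of_mkT_comm Q hQ hdim mk hker hEuw hs hsw'
    rw [mkT_of_mem mk hEuw, mkT_of_mem mk hEsw]
    exact hab
  have hconjE := conj_E Q (E_mem_oG Q hu huw) hs hsw'
  have hsu2 : QuadraticMap.polar (⇑Q) s u = 0 := by rw [QuadraticMap.polar_comm, hus]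
  have e1 : E Q u w s = s := E_apply_of_orth Q hu huw hsu2 (hw s hsT ▸ QuadraticMap.polar_comm (⇑Q) s w)
  have e2 : E Q u w w' = w' - QuadraticMap.polar (⇑Q) w' w • u := by
    rw [E_apply Q hu huw, hw' u huT]
    simp
  rw [hc, mul_assoc, mul_inv_cancel, mul_one, e1, e2] at hconjE
  obtain ⟨x, hxs, hxu⟩ := exists_polar_one_zero Q hQ hsu
  have hd : QuadraticMap.polar (⇑Q) s (w' - QuadraticMap.polar (⇑Q) w' w • u) = 0 := by
    rw [QuadraticMap.polar_sub_right, QuadraticMap.polar_smul_right, hsw', hsu2]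
    simp
  have h5 : E Q s w' x = E Q s (w' - QuadraticMap.polar (⇑Q) w' w • u) x := by rw [← hconjE]
  have hQd : Q (w' - QuadraticMap.polar (⇑Q) w' w • u) = Q w' := by
    rw [Cfsg.Agent.Lib.Helper14_OmegaSimple.map_sub', QuadraticMap.map_smul, hu, QuadraticMap.polar_smul_right, hw' u huT]
    simp
  rw [E_apply Q hs hsw', E_apply Q hs hd, hQd, hxs, QuadraticMap.polar_sub_right,
    QuadraticMap.polar_smul_right, hxu] at h5
  have h6 : QuadraticMap.polar (⇑Q) w' w • u = 0 := by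
    linear_combination (norm := module) h5
  rcases smul_eq_zero.mp h6 with h7 | h7
  · apply hww'
    rw [QuadraticMap.polar_comm]; exact h7
  · exact hu0 h7

end Cfsg.Agent.Lib.Helper97_OrthPB
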