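import Mathlib
import Cfsg.Agent.Lib.Helper14_OrthFinal
import Cfsg.Agent.Lib.Helper97_OrthPB
import Cfsg.Agent.Lib.Helper71_OrthHyp
import Cfsg.Agent.Lib.Helper21_OrthSemisim

/-!
# Orthogonal groups: `gammaPOmega F Q = ⊤` modulo the packages PA1, PA2, PB3 (helper14)

`Pkg Q hQ hn p` collects the three package statements (Sylow centres are root groups, both
directions; the `p`-core of the centraliser of two root groups through a point is the radical)
for the projection `mkO Q hQ hn : T Q →* PΩ(Q)`.  `gamma_eq_top_of_pkg` derives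
`gammaPOmega F Q = ⊤` from them, and `odd_of_pkg`, `plus_of_pkg`, `minus_of_pkg` specialise to the
three standard forms.
-/

set_option autoImplicit false
set_option linter.unusedSectionVars false
set_option linter.unusedVariables false

namespace Cfsg.Agent.Lib.Helper14_OrthTop0

open Matrix Module Cfsg
  Cfsg.Agent.Lib.Helper94_OrthSmall
  Cfsg.Agent.Lib.Helper14_OmegaSimple
  Cfsg.Agent.Lib.Helper14_POmegaSimple Cfsg.Agent.Lib.Helper14_OrthAut
  Cfsg.Agent.Lib.Helper14_OrthLocal1 Cfsg.Agent.Lib.Helper14_OrthLocal2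
  Cfsg.Agent.Lib.Helper14_OrthGlue Cfsg.Agent.Lib.Helper14_OrthFinal
  Cfsg.Agent.Lib.Helper44_StdForms

variable {ι : Type} [Fintype ι] [DecidableEq ι] {F : Type*} [Field F] [Fintype F]

/-- The three remaining package statements for `mkO Q hQ hn`. -/
def Pkg (Q : QuadraticForm F (ι → F)) (hQ : (QuadraticMap.polarBilin Q).Nondegenerate)
    (hn : 5 ≤ Fintype.card ι) (p : ℕ) [Fact p.Prime] : Prop :=
  (∀ S : Sylow p (Cfsg.POmega F (⇑Q)), ∃ u s : ι → F, TSLine Q u s ∧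
      zSet (S : Subgroup (Cfsg.POmega F (⇑Q))) = rootSet (mkO Q hQ hn) u s) ∧
  (∀ u s : ι → F, TSLine Q u s → ∃ S : Sylow p (Cfsg.POmega F (⇑Q)),
      zSet (S : Subgroup (Cfsg.POmega F (⇑Q))) = rootSet (mkO Q hQ hn) u s) ∧
  (∀ {e z z' : ι → F}, TSLine Q e z → TSLine Q e z' → QuadraticMap.polar (⇑Q) z z' ≠ 0 →
      pCoreSet p (Subgroup.centralizer (rootSet (mkO Q hQ hn) e z ∪ rootSet (mkO Q hQ hn) e z')) =
        radSet (mkO Q hQ hn) e)

theorem gamma_eq_top_of_pkg (Q : QuadraticForm F (ι → F)) (hH : Hyp Q) (hn : 5 ≤ Fintype.card ι)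
    (hsemi : ∀ σ : F ≃+* F, ∃ g : GL ι F, IsSemisimilarityPair (⇑Q) g σ)
    (p : ℕ) [Fact p.Prime] [CharP F p] (hpkg : Pkg Q hH.nd hn p) :
    Cfsg.gammaPOmega F (⇑Q) = ⊤ := by
  obtain ⟨hA1, hA2, hB3⟩ := hpkg
  have hdim : 5 ≤ finrank F (ι → F) := by
    rw [Module.finrank_pi]
    exact hn
  have hk : KerScalar (mkO Q hH.nd hn) := kerScalar_of_ker hH.nd hdim (mkO_ker Q hH.nd hn)
  apply gamma_eq_top_of Q hH.nd hn hH hsemi
  · intro α e he0 he
    exact rad_image_of (p := p) hH.nd hdim hk hA1 hA2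
      (fun h h' hne hcomm => Cfsg.Agent.Lib.Helper97_OrthPB.comm_cases hH _
        (mkO_surjective Q hH.nd hn) (mkO_ker Q hH.nd hn) h h' hne hcomm)
      (fun h h' hne hperp => Cfsg.Agent.Lib.Helper97_OrthPB.pcore_not_comm hH _
        (mkO_surjective Q hH.nd hn) (mkO_ker Q hH.nd hn) h h' hne hperp)
      (fun h h' hzz' => hB3 h h' hzz') α e he0 he
  · intro α t ht
    exact isRoot_of (p := p) hA1 hA2 α t ht

/-! ### The three standard forms -/

theorem card_odd (m : ℕ) (hm : 3 ≤ m) : 5 ≤ Fintype.card (Unit ⊕ (Fin m ⊕ Fin m)) := by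
  simp only [Fintype.card_sum, Fintype.card_fin, Fintype.card_unit]
  omega

theorem card_plus (m : ℕ) (hm : 5 ≤ m) : 5 ≤ Fintype.card (Fin m ⊕ Fin m) := by
  simp only [Fintype.card_sum, Fintype.card_fin]
  omega

theorem card_minus (m : ℕ) (hm : 3 ≤ m) : 5 ≤ Fintype.card ((Fin m ⊕ Fin m) ⊕ Fin 2) := by
  simp only [Fintype.card_sum, Fintype.card_fin]
  omega

theorem two_ne_zero_of_odd (hodd : Odd (Fintype.card F)) : (2 : F) ≠ 0 := by
  intro h2
  have hch : ringChar F = 2 := by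
    have h : ringChar F ∣ 2 := (ringChar.spec F 2).1 (by exact_mod_cast h2)
    have hp : (ringChar F).Prime := CharP.char_is_prime F (ringChar F)
    exact (Nat.prime_dvd_prime_iff_eq hp Nat.prime_two).1 h
  have h := FiniteField.even_card_of_char_two hch
  rcases hodd with ⟨k, hk⟩
  omega

theorem odd_of_pkg (hodd : Odd (Fintype.card F)) {m : ℕ} (hm : 3 ≤ m)
    (p : ℕ) [Fact p.Prime] [CharP F p]
    (hpkg : Pkg (qfOdd m F) (Cfsg.Agent.Lib.Helper71_OrthHyp.hyp_odd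
      (two_ne_zero_of_odd hodd) hm).nd (card_odd m hm) p) :
    Cfsg.gammaPOmega F (Cfsg.quadFormOdd m F) = ⊤ := by
  rw [← coe_qfOdd]
  refine gamma_eq_top_of_pkg (qfOdd m F)
    (Cfsg.Agent.Lib.Helper71_OrthHyp.hyp_odd (two_ne_zero_of_odd hodd) hm) (card_odd m hm) (fun σ => ?_) p hpkg
  rw [coe_qfOdd]
  exact Cfsg.Agent.Lib.Helper21_OrthSemisim.semisim_odd m σ

theorem plus_of_pkg {m : ℕ} (hm : 5 ≤ m)
    (p : ℕ) [Fact p.Prime] [CharP F p]
    (hpkg : Pkg (qfPlus m F) (Cfsg.Agent.Lib.Helper71_OrthHyp.hyp_plus (F := F) hm).nd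
      (card_plus m hm) p) :
    Cfsg.gammaPOmega F (Cfsg.quadFormPlus m F) = ⊤ := by
  rw [← coe_qfPlus]
  refine gamma_eq_top_of_pkg (qfPlus m F)
    (Cfsg.Agent.Lib.Helper71_OrthHyp.hyp_plus hm) (card_plus m hm) (fun σ => ?_) p hpkg
  rw [coe_qfPlus]
  exact Cfsg.Agent.Lib.Helper21_OrthSemisim.semisim_plus m σ

theorem minus_of_pkg {m : ℕ} (hm : 3 ≤ m) (a b : F)
    (hab : ∀ z₁ z₂ : F, z₁ ^ 2 + a * z₁ * z₂ + b * z₂ ^ 2 = 0 → z₁ = 0 ∧ z₂ = 0)
    (p : ℕ) [Fact p.Prime] [CharP F p]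
    (hpkg : Pkg (qfMinus m F a b) (Cfsg.Agent.Lib.Helper71_OrthHyp.hyp_minus hm a b hab).nd
      (card_minus m hm) p) :
    Cfsg.gammaPOmega F (Cfsg.quadFormMinus m F a b) = ⊤ := by
  rw [← coe_qfMinus]
  refine gamma_eq_top_of_pkg (qfMinus m F a b)
    (Cfsg.Agent.Lib.Helper71_OrthHyp.hyp_minus hm a b hab) (card_minus m hm) (fun σ => ?_) p hpkg
  rw [coe_qfMinus]
  exact Cfsg.Agent.Lib.Helper21_OrthSemisim.semisim_minus m a b hab σ

end Cfsg.Agent.Lib.Helper14_OrthTop0
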