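import Mathlib
import Cfsg.Agent.Lib.Helper94_OrthSmall
import Cfsg.Agent.Lib.Helper44_QuadClass

/-!
# Orthogonal automorphism project (helper14), package PA0 (helper50)

A `p`-group of isometries of a quadratic space over a finite field of characteristic `p` which
leaves invariant a subspace `K` of dimension at least three fixes a nonzero singular vector of `K`
(characteristic two included).

* `exists_fixed_in_set` : a `p`-group of linear automorphisms leaving invariant a set `S ∋ 0` of
  cardinality divisible by `p` fixes a nonzero element of `S`;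
* `exists_fixed_in_submodule` : the same for a nonzero invariant subspace;
* `exists_fixed_singular` : package PA0, exact statement of helper14.
-/

set_option autoImplicit false

namespace Cfsg.Agent.Lib.Helper50_OrthPA0

open Module Cfsg.Agent.Lib.Helper94_OrthSmall

variable {F V : Type*} [Field F] [Finite F] [AddCommGroup V] [Module F V] [FiniteDimensional F V]
variable {Q : QuadraticForm F V} {p : ℕ} [Fact p.Prime] [CharP F p]

omit [FiniteDimensional F V] in
/-- The characteristic divides the order of the field. -/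
lemma p_dvd_card_field (F : Type*) [Field F] [Finite F] (p : ℕ) [CharP F p] : p ∣ Nat.card F := by
  have := Fintype.ofFinite F
  rw [Nat.card_eq_fintype_card]
  have h : ((Fintype.card F : ℕ) : F) = 0 := Nat.cast_card_eq_zero F
  exact (CharP.cast_eq_zero_iff F p _).mp h

omit [Fact p.Prime] in
/-- The characteristic divides the order of a nonzero subspace. -/
lemma p_dvd_card_submodule (D : Submodule F V) (hD : 0 < finrank F D) : p ∣ Nat.card D := by
  rw [Module.natCard_eq_pow_finrank (K := F) (V := D)]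
  exact dvd_pow (p_dvd_card_field F p) hD.ne'

omit [CharP F p] in
/-- A `p`-group of linear automorphisms leaving invariant a set containing `0` whose cardinality is
divisible by `p` fixes a nonzero element of the set. -/
theorem exists_fixed_in_set (P : Subgroup (V ≃ₗ[F] V)) (hP : IsPGroup p P) (S : Set V)
    (hS0 : (0 : V) ∈ S) (hinv : ∀ g ∈ P, ∀ x ∈ S, g x ∈ S) (hcard : p ∣ Nat.card S) :
    ∃ v ∈ S, v ≠ 0 ∧ ∀ g ∈ P, g v = v := by
  have hfinV : Finite V := Module.finite_of_finite F
  let act : MulAction P S :=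
    { smul := fun g x => ⟨(g : V ≃ₗ[F] V) x, hinv g g.2 x x.2⟩
      one_smul := fun x => Subtype.ext rfl
      mul_smul := fun g h x => Subtype.ext rfl }
  have hfix0 : (⟨0, hS0⟩ : S) ∈ MulAction.fixedPoints P S := by
    intro g
    exact Subtype.ext (map_zero (g : V ≃ₗ[F] V))
  obtain ⟨b, hb, hne⟩ := hP.exists_fixed_point_of_prime_dvd_card_of_fixed_point S hcard hfix0
  refine ⟨b, b.2, ?_, ?_⟩
  · intro h0
    exact hne (Subtype.ext h0.symm)
  · intro g hg
    have := hb ⟨g, hg⟩
    exact congrArg Subtype.val this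

/-- A `p`-group of linear automorphisms leaving invariant a nonzero subspace fixes a nonzero vector
of it. -/
theorem exists_fixed_in_submodule (P : Subgroup (V ≃ₗ[F] V)) (hP : IsPGroup p P)
    (D : Submodule F V) (hD : D ≠ ⊥) (hinv : ∀ g ∈ P, ∀ x ∈ D, g x ∈ D) :
    ∃ v ∈ D, v ≠ 0 ∧ ∀ g ∈ P, g v = v := by
  have hpos : 0 < finrank F D := by
    rw [Nat.pos_iff_ne_zero]
    intro h0
    exact hD (Submodule.finrank_eq_zero.mp h0)
  exact exists_fixed_in_set P hP (D : Set V) D.zero_mem hinv (p_dvd_card_submodule D hpos)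

omit [Finite F] [FiniteDimensional F V] in
/-- Isometries preserve the polar form. -/
lemma polar_map_of_mem_oG {g : V ≃ₗ[F] V} (hg : g ∈ oG (⇑Q)) (x y : V) :
    QuadraticMap.polar (⇑Q) (g x) (g y) = QuadraticMap.polar (⇑Q) x y := by
  have h := mem_oG.mp hg
  simp only [QuadraticMap.polar, ← map_add, h]

/-- PA0 in odd characteristic (no nondegeneracy needed). -/
theorem exists_fixed_singular_odd (h2 : (2 : F) ≠ 0) (K : Submodule F V) (h3 : 3 ≤ finrank F K)
    (P : Subgroup (V ≃ₗ[F] V)) (hPO : P ≤ oG (⇑Q)) (hP : IsPGroup p P)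
    (hinv : ∀ g ∈ P, ∀ x ∈ K, g x ∈ K) :
    ∃ v ∈ K, v ≠ 0 ∧ Q v = 0 ∧ ∀ g ∈ P, g v = v := by
  by_contra hcon
  push Not at hcon
  -- the fixed space
  let C : Submodule F V :=
    { carrier := {x | x ∈ K ∧ ∀ g ∈ P, g x = x}
      add_mem' := by
        rintro a b ⟨ha, ha'⟩ ⟨hb, hb'⟩
        exact ⟨K.add_mem ha hb, fun g hg => by rw [map_add, ha' g hg, hb' g hg]⟩
      zero_mem' := ⟨K.zero_mem, fun g _ => map_zero g⟩
      smul_mem' := by
        rintro c a ⟨ha, ha'⟩
        exact ⟨K.smul_mem c ha, fun g hg => by rw [map_smul, ha' g hg]⟩ }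
  have hCmem : ∀ x, x ∈ C ↔ x ∈ K ∧ ∀ g ∈ P, g x = x := fun x => Iff.rfl
  have hCan : ∀ v ∈ C, Q v = 0 → v = 0 := by
    intro v hv hQv
    by_contra hv0
    obtain ⟨g, hg, hgv⟩ := hcon v ((hCmem v).mp hv).1 hv0 hQv
    exact hgv (((hCmem v).mp hv).2 g hg)
  -- the orthogonal complement of the fixed space in `K`
  let D : Submodule F V :=
    { carrier := {x | x ∈ K ∧ ∀ y ∈ C, QuadraticMap.polar (⇑Q) x y = 0}
      add_mem' := by
        rintro a b ⟨ha, ha'⟩ ⟨hb, hb'⟩
        exact ⟨K.add_mem ha hb, fun y hy => by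
          rw [QuadraticMap.polar_add_left, ha' y hy, hb' y hy, add_zero]⟩
      zero_mem' := ⟨K.zero_mem, fun y _ => by simp [QuadraticMap.polar]⟩
      smul_mem' := by
        rintro c a ⟨ha, ha'⟩
        exact ⟨K.smul_mem c ha, fun y hy => by
          rw [QuadraticMap.polar_smul_left, ha' y hy, smul_zero]⟩ }
  have hDmem : ∀ x, x ∈ D ↔ x ∈ K ∧ ∀ y ∈ C, QuadraticMap.polar (⇑Q) x y = 0 := fun x => Iff.rfl
  have hDinv : ∀ g ∈ P, ∀ x ∈ D, g x ∈ D := by
    intro g hg x hx
    rw [hDmem] at hx ⊢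
    refine ⟨hinv g hg x hx.1, fun y hy => ?_⟩
    have hy' := ((hCmem y).mp hy).2 g hg
    rw [← hy', polar_map_of_mem_oG (hPO hg)]
    exact hx.2 y hy
  have hD : D = ⊥ := by
    by_contra hD
    obtain ⟨v, hvD, hv0, hvfix⟩ := exists_fixed_in_submodule P hP D hD hDinv
    have hvC : v ∈ C := (hCmem v).mpr ⟨((hDmem v).mp hvD).1, hvfix⟩
    have h1 : QuadraticMap.polar (⇑Q) v v = 0 := ((hDmem v).mp hvD).2 v hvC
    rw [Cfsg.Agent.Lib.Helper44_QuadClass.polar_self'] at h1
    have hQv : Q v = 0 := by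
      rcases mul_eq_zero.mp h1 with h | h
      · exact absurd h h2
      · exact h
    exact hv0 (hCan v hvC hQv)
  -- dimension count
  let φ : K →ₗ[F] Module.Dual F C :=
    (QuadraticMap.polarBilin Q).compl₁₂ K.subtype C.subtype
  have hφ : Function.Injective φ := by
    rw [injective_iff_map_eq_zero]
    intro x hx
    have hxD : (x : V) ∈ D := by
      rw [hDmem]
      refine ⟨x.2, fun y hy => ?_⟩
      have := LinearMap.congr_fun hx ⟨y, hy⟩
      simpa [φ] using this
    rw [hD, Submodule.mem_bot] at hxD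
    exact Subtype.ext hxD
  have hle : finrank F K ≤ finrank F C := by
    calc finrank F K ≤ finrank F (Module.Dual F C) :=
          LinearMap.finrank_le_finrank_of_injective hφ
      _ = finrank F C := Subspace.dual_finrank_eq
  obtain ⟨v, hv0, hQv⟩ :=
    Cfsg.Agent.Lib.Helper44_QuadClass.exists_singular (Q.comp C.subtype) (h3.trans hle)
  refine hv0 (Subtype.ext (hCan v v.2 ?_))
  simpa using hQv

/-- PA0 in characteristic two (no nondegeneracy needed). -/
theorem exists_fixed_singular_two (h2 : (2 : F) = 0) (K : Submodule F V) (h3 : 3 ≤ finrank F K)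
    (P : Subgroup (V ≃ₗ[F] V)) (hPO : P ≤ oG (⇑Q)) (hP : IsPGroup p P)
    (hinv : ∀ g ∈ P, ∀ x ∈ K, g x ∈ K) :
    ∃ v ∈ K, v ≠ 0 ∧ Q v = 0 ∧ ∀ g ∈ P, g v = v := by
  have hK0 : K ≠ ⊥ := by
    intro h
    rw [h, finrank_bot] at h3
    omega
  obtain ⟨v, hvK, hv0, hvfix⟩ := exists_fixed_in_submodule P hP K hK0 hinv
  by_cases hQv : Q v = 0
  · exact ⟨v, hvK, hv0, hQv, hvfix⟩
  have hvv : QuadraticMap.polar (⇑Q) v v = 0 := by
    rw [Cfsg.Agent.Lib.Helper44_QuadClass.polar_self', h2, zero_mul]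
  -- the functional `x ↦ B(x, v)` on `K`
  let ψ : K →ₗ[F] F := ((QuadraticMap.polarBilin Q).flip v).comp K.subtype
  have hψ : ∀ x : K, ψ x = QuadraticMap.polar (⇑Q) (x : V) v := fun x => rfl
  let S : Set V := {w | w ∈ K ∧ QuadraticMap.polar (⇑Q) w v = 0 ∧ Q w = 0}
  have hSmem : ∀ w, w ∈ S ↔ w ∈ K ∧ QuadraticMap.polar (⇑Q) w v = 0 ∧ Q w = 0 := fun w => Iff.rfl
  have hS0 : (0 : V) ∈ S := ⟨K.zero_mem, by simp [QuadraticMap.polar], map_zero Q⟩
  have hSinv : ∀ g ∈ P, ∀ x ∈ S, g x ∈ S := by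
    intro g hg x hx
    rw [hSmem] at hx ⊢
    refine ⟨hinv g hg x hx.1, ?_, ?_⟩
    · have := polar_map_of_mem_oG (hPO hg) x v
      rw [hvfix g hg] at this
      rw [this]
      exact hx.2.1
    · rw [mem_oG.mp (hPO hg) x]
      exact hx.2.2
  -- value of `Q` on `c v + w`
  have hQe : ∀ (c : F) (w : V), QuadraticMap.polar (⇑Q) w v = 0 →
      Q (c • v + w) = c * c * Q v + Q w := by
    intro c w hw
    rw [Cfsg.Agent.Lib.Helper44_QuadClass.map_smul_add, QuadraticMap.polar_comm, hw, mul_zero,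
      add_zero]
  have hringChar : ringChar F = 2 :=
    CharP.ringChar_of_prime_eq_zero Nat.prime_two (by exact_mod_cast h2)
  -- the bijection `S × F ≃ ker ψ`
  let e : S × F → LinearMap.ker ψ := fun wc =>
    ⟨⟨wc.2 • v + (wc.1 : V), K.add_mem (K.smul_mem _ hvK) ((hSmem _).mp wc.1.2).1⟩, by
      rw [LinearMap.mem_ker, hψ]
      show QuadraticMap.polar (⇑Q) (wc.2 • v + (wc.1 : V)) v = 0
      rw [QuadraticMap.polar_add_left, QuadraticMap.polar_smul_left, hvv, smul_zero, zero_add]
      exact ((hSmem _).mp wc.1.2).2.1⟩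
  have he : ∀ wc : S × F, (((e wc : LinearMap.ker ψ) : K) : V) = wc.2 • v + (wc.1 : V) :=
    fun wc => rfl
  have hinj : Function.Injective e := by
    rintro ⟨⟨w, hw⟩, c⟩ ⟨⟨w', hw'⟩, c'⟩ h
    have h1 : c • v + w = c' • v + w' := by
      have := congrArg (fun t : LinearMap.ker ψ => ((t : K) : V)) h
      simpa [he] using this
    have h2' := congrArg (⇑Q) h1
    rw [hQe c w ((hSmem _).mp hw).2.1, hQe c' w' ((hSmem _).mp hw').2.1,
      ((hSmem _).mp hw).2.2, ((hSmem _).mp hw').2.2, add_zero, add_zero] at h2'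
    have h3' : c * c = c' * c' := mul_right_cancel₀ hQv h2'
    have h4 : (c - c') * (c - c') = 0 := by
      linear_combination h3' + (c' * c' - c * c') * h2
    have hcc : c = c' := by
      have := mul_self_eq_zero.mp h4
      exact sub_eq_zero.mp this
    subst hcc
    have hww : w = w' := add_left_cancel h1
    subst hww
    rfl
  have hsurj : Function.Surjective e := by
    intro x
    have hx : QuadraticMap.polar (⇑Q) ((x : K) : V) v = 0 := by
      rw [← hψ]
      exact LinearMap.mem_ker.mp x.2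
    obtain ⟨c, hc⟩ := FiniteField.isSquare_of_char_two hringChar (Q ((x : K) : V) / Q v)
    have hw : ((x : K) : V) - c • v ∈ S := by
      rw [hSmem]
      refine ⟨K.sub_mem (x : K).2 (K.smul_mem _ hvK), ?_, ?_⟩
      · rw [QuadraticMap.polar_sub_left, QuadraticMap.polar_smul_left, hvv, smul_zero, sub_zero]
        exact hx
      · have h5 : ((x : K) : V) - c • v = (-c) • v + ((x : K) : V) := by
          rw [neg_smul]; abel
        rw [h5, hQe (-c) _ hx]
        have h6 : c * c * Q v = Q ((x : K) : V) := by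
          rw [← hc, div_mul_cancel₀ _ hQv]
        linear_combination h6 + Q ((x : K) : V) * h2
    refine ⟨(⟨_, hw⟩, c), ?_⟩
    apply Subtype.ext
    apply Subtype.ext
    rw [he]
    show c • v + (((x : K) : V) - c • v) = ((x : K) : V)
    abel
  have hcardeq : Nat.card S * Nat.card F = Nat.card (LinearMap.ker ψ) := by
    rw [← Nat.card_prod]
    exact Nat.card_congr (Equiv.ofBijective e ⟨hinj, hsurj⟩)
  -- the dimension of the kernel
  have hker : 2 ≤ finrank F (LinearMap.ker ψ) := by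
    have h1 := LinearMap.finrank_range_add_finrank_ker ψ
    have h2' : finrank F (LinearMap.range ψ) ≤ 1 := by
      calc finrank F (LinearMap.range ψ) ≤ finrank F F := Submodule.finrank_le _
        _ = 1 := finrank_self F
    omega
  have hcard : p ∣ Nat.card S := by
    obtain ⟨n, hn⟩ : ∃ n, finrank F (LinearMap.ker ψ) = n + 2 := ⟨_, (Nat.sub_add_cancel hker).symm⟩
    rw [Module.natCard_eq_pow_finrank (K := F) (V := LinearMap.ker ψ), hn, pow_succ] at hcardeq
    have hqpos : 0 < Nat.card F := Nat.card_pos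
    have h6 : Nat.card S = Nat.card F ^ (n + 1) := Nat.eq_of_mul_eq_mul_right hqpos hcardeq
    rw [h6]
    exact dvd_pow (p_dvd_card_field F p) (Nat.succ_ne_zero n)
  obtain ⟨w, hwS, hw0, hwfix⟩ := exists_fixed_in_set P hP S hS0 hSinv hcard
  exact ⟨w, ((hSmem w).mp hwS).1, hw0, ((hSmem w).mp hwS).2.2, hwfix⟩

/-- **Package PA0.**  A `p`-group of isometries leaving invariant a (nondegenerate) subspace `K` of
dimension at least three fixes a nonzero singular vector of `K`. -/
theorem exists_fixed_singular (K : Submodule F V)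
    (hK : ∀ x ∈ K, (∀ y ∈ K, QuadraticMap.polar (⇑Q) x y = 0) → x = 0) (h3 : 3 ≤ finrank F K)
    (P : Subgroup (V ≃ₗ[F] V)) (hPO : P ≤ oG (⇑Q)) (hP : IsPGroup p P)
    (hinv : ∀ g ∈ P, ∀ x ∈ K, g x ∈ K) :
    ∃ v ∈ K, v ≠ 0 ∧ Q v = 0 ∧ ∀ g ∈ P, g v = v := by
  have _ := hK
  by_cases h2 : (2 : F) = 0
  · exact exists_fixed_singular_two h2 K h3 P hPO hP hinv
  · exact exists_fixed_singular_odd h2 K h3 P hPO hP hinv

end Cfsg.Agent.Lib.Helper50_OrthPA0
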