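import Mathlib
import Cfsg.Agent.Lib.Helper14_OrthAutDefs
import Cfsg.Agent.Lib.Helper14_CentOmega

/-!
# Orthogonal groups: Siegel-element algebra for the Sylow-centre package (helper67)

Elementary identities for the Eichler–Siegel transformations `E Q e z` used in the proof that the
centre of a Sylow `p`-subgroup of `PΩ(Q)` is a long root group (package PA1/PA2 of helper14's
orthogonal automorphism project).
-/

set_option autoImplicit false

namespace Cfsg.Agent.Lib.Helper67_OrthPA1

open Module Cfsg.Agent.Lib.Helper14_OmegaSimple Cfsg.Agent.Lib.Helper14_OrthAut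
  Cfsg.Agent.Lib.Helper94_OrthSmall Cfsg.Agent.Lib.Helper44_QuadClass

variable {F V : Type*} [Field F] [AddCommGroup V] [Module F V]
variable (Q : QuadraticForm F V)

local notation "β" => QuadraticMap.polar (DFunLike.coe Q)

/-- `E(e,z)` on a vector orthogonal to `e`. -/
theorem E_apply_orth {e z x : V} (he : Q e = 0) (hez : β e z = 0) (hx : β x e = 0) :
    E Q e z x = x - β x z • e := by
  rw [E_apply Q he hez, hx]
  simp

/-- `E(e,z)` fixes `e`. -/
theorem E_apply_self {e z : V} (he : Q e = 0) (hez : β e z = 0) : E Q e z e = e := by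
  rw [E_apply_orth Q he hez (by rw [polar_self', he, mul_zero]), hez, zero_smul, sub_zero]

/-- `E(e,z)` on a hyperbolic partner of `e`. -/
theorem E_apply_partner {e f z : V} (he : Q e = 0) (hef : β e f = 1) (hez : β e z = 0) :
    E Q e z f = f + z - (β f z + Q z) • e := by
  have hfe : β f e = 1 := by rw [QuadraticMap.polar_comm, hef]
  rw [E_apply Q he hez, hfe]
  module

/-- If `E(e,z) = 1` then `z` is a multiple of `e`. -/
theorem mem_span_of_E_eq_one {e f z : V} (he : Q e = 0) (hef : β e f = 1) (hez : β e z = 0)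
    (h : E Q e z = 1) : z ∈ Submodule.span F {e} := by
  have h1 := E_apply_partner Q he hef hez
  rw [h, LinearEquiv.coe_one, id_eq] at h1
  rw [Submodule.mem_span_singleton]
  refine ⟨β f z + Q z, ?_⟩
  linear_combination (norm := module) h1

/-- `E(e, c • e) = 1`. -/
theorem E_smul_self {e : V} (he : Q e = 0) (c : F) : E Q e (c • e) = 1 := by
  have h0 : β e 0 = 0 := by simp [QuadraticMap.polar]
  have := E_add_smul Q he h0 c
  rw [zero_add] at this
  rw [this, E_zero_right Q he]

/-- `E(e,z) = E(e,z')` when `z - z'` is a multiple of `e`. -/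
theorem E_congr {e z z' : V} (he : Q e = 0) (hez' : β e z' = 0) (c : F) (h : z = z' + c • e) :
    E Q e z = E Q e z' := by
  rw [h, E_add_smul Q he hez']

/-- If `E(e,z) = E(e,z')` then `z - z'` is a multiple of `e`. -/
theorem sub_mem_span_of_E_eq {e f z z' : V} (he : Q e = 0) (hef : β e f = 1) (hez : β e z = 0)
    (hez' : β e z' = 0) (h : E Q e z = E Q e z') : z - z' ∈ Submodule.span F {e} := by
  have hneg : β e (-z') = 0 := by rw [QuadraticMap.polar_neg_right, hez', neg_zero]
  have h1 : E Q e (z + -z') = 1 := by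
    rw [← E_mul Q he hez hneg, ← E_inv Q he hez', h, mul_inv_cancel]
  have h2 : β e (z + -z') = 0 := by rw [QuadraticMap.polar_add_right, hez, hneg, add_zero]
  have := mem_span_of_E_eq_one Q he hef h2 h1
  rwa [← sub_eq_add_neg] at this

/-- The "Levi factor": the component of `g f` in `⟨e,f⟩^⊥` for an isometry `g` fixing `e`. -/
noncomputable def leviVec (e f : V) (g : V ≃ₗ[F] V) : V := g f - f - β f (g f) • e

theorem leviVec_orth_left {e f : V} {g : V ≃ₗ[F] V} (hg : g ∈ oG (⇑Q)) (he : Q e = 0)
    (hef : β e f = 1) (hge : g e = e) : β e (leviVec Q e f g) = 0 := by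
  have h1 : β e (g f) = 1 := by
    conv_lhs => rw [← hge]
    rw [oG_polar Q hg, hef]
  unfold leviVec
  rw [QuadraticMap.polar_sub_right, QuadraticMap.polar_sub_right, QuadraticMap.polar_smul_right,
    polar_self', he, h1, hef]
  simp

theorem leviVec_orth_right {e f : V} {g : V ≃ₗ[F] V} (hf : Q f = 0)
    (hef : β e f = 1) : β f (leviVec Q e f g) = 0 := by
  have hfe : β f e = 1 := by rw [QuadraticMap.polar_comm, hef]
  unfold leviVec
  rw [QuadraticMap.polar_sub_right, QuadraticMap.polar_sub_right, QuadraticMap.polar_smul_right,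
    polar_self', hf, hfe]
  simp

/-- `Q` of the Levi vector. -/
theorem leviVec_Q {e f : V} {g : V ≃ₗ[F] V} (hg : g ∈ oG (⇑Q)) (he : Q e = 0) (hf : Q f = 0)
    (hef : β e f = 1) (hge : g e = e) : Q (leviVec Q e f g) = -β f (g f) := by
  have h1 : β e (g f) = 1 := by
    conv_lhs => rw [← hge]
    rw [oG_polar Q hg, hef]
  have hfe : β f e = 1 := by rw [QuadraticMap.polar_comm, hef]
  have hgf : Q (g f) = 0 := by rw [hg f, hf]
  have e1 : leviVec Q e f g = g f - (f + β f (g f) • e) := by unfold leviVec; abel
  rw [e1, Helper14_OmegaSimple.map_sub', hgf, QuadraticMap.map_add (⇑Q), hf, hQs, he,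
    QuadraticMap.polar_smul_right, hfe, QuadraticMap.polar_add_right,
    QuadraticMap.polar_smul_right, QuadraticMap.polar_comm (⇑Q) (g f) f,
    QuadraticMap.polar_comm (⇑Q) (g f) e, h1]
  simp

/-- `E(e, leviVec)` agrees with `g` on `f`. -/
theorem E_leviVec_partner {e f : V} {g : V ≃ₗ[F] V} (hg : g ∈ oG (⇑Q)) (he : Q e = 0)
    (hf : Q f = 0) (hef : β e f = 1) (hge : g e = e) : E Q e (leviVec Q e f g) f = g f := by
  rw [E_apply_partner Q he hef (leviVec_orth_left Q hg he hef hge), leviVec_orth_right Q hf hef,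
    leviVec_Q Q hg he hf hef hge]
  unfold leviVec
  module

/-- Decomposition of a vector along a hyperbolic pair. -/
theorem decomp_mem_perp {e f : V} (he : Q e = 0) (hf : Q f = 0) (hef : β e f = 1) (x : V) :
    x - β f x • e - β e x • f ∈ perp Q e f := by
  have hfe : β f e = 1 := by rw [QuadraticMap.polar_comm, hef]
  rw [mem_perp]
  constructor
  · rw [QuadraticMap.polar_sub_right, QuadraticMap.polar_sub_right,
      QuadraticMap.polar_smul_right, QuadraticMap.polar_smul_right, polar_self', he, hef]
    simp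
  · rw [QuadraticMap.polar_sub_right, QuadraticMap.polar_sub_right,
      QuadraticMap.polar_smul_right, QuadraticMap.polar_smul_right, polar_self', hf, hfe]
    simp

/-- Two linear maps agreeing on `e`, `f` and `⟨e,f⟩^⊥` are equal. -/
theorem ext_of_pair {e f : V} (he : Q e = 0) (hf : Q f = 0) (hef : β e f = 1)
    {g h : V ≃ₗ[F] V} (h1 : g e = h e) (h2 : g f = h f) (h3 : ∀ w ∈ perp Q e f, g w = h w) :
    g = h := by
  ext x
  have hx : x = (x - β f x • e - β e x • f) + β f x • e + β e x • f := by abel
  rw [hx, map_add, map_add, map_add, map_add, map_smul, map_smul, map_smul, map_smul, h1, h2,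
    h3 _ (decomp_mem_perp Q he hf hef x)]

/-- An isometry fixing `e` and acting trivially on `e^⊥ / ⟨e⟩` is a Siegel element `E(e, z)`. -/
theorem eq_E_of_trivial {e f : V} {g : V ≃ₗ[F] V} (hg : g ∈ oG (⇑Q)) (he : Q e = 0)
    (hf : Q f = 0) (hef : β e f = 1) (hge : g e = e)
    (htriv : ∀ z, β e z = 0 → ∃ c : F, g z = z + c • e) : g = E Q e (leviVec Q e f g) := by
  have hl := leviVec_orth_left Q hg he hef hge
  have hr := leviVec_orth_right (g := g) Q hf hef
  apply ext_of_pair Q he hf hef
  · rw [hge, E_apply_self Q he hl]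
  · rw [E_leviVec_partner Q hg he hf hef hge]
  · intro w hw
    rw [mem_perp] at hw
    obtain ⟨c, hc⟩ := htriv w hw.1
    have hwe : β w e = 0 := by rw [QuadraticMap.polar_comm, hw.1]
    rw [E_apply_orth Q he hl hwe, hc]
    -- `c = - β w z₀` from `β (g w) (g f) = β w f = 0`
    have h1 : β (g w) (g f) = 0 := by
      rw [oG_polar Q hg, QuadraticMap.polar_comm, hw.2]
    have h2 : g f = f + leviVec Q e f g + β f (g f) • e := by unfold leviVec; abel
    rw [hc, h2, QuadraticMap.polar_add_left, QuadraticMap.polar_add_right,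
      QuadraticMap.polar_add_right, QuadraticMap.polar_add_right, QuadraticMap.polar_add_right,
      QuadraticMap.polar_smul_left, QuadraticMap.polar_smul_left, QuadraticMap.polar_smul_left,
      QuadraticMap.polar_smul_right, QuadraticMap.polar_smul_right,
      QuadraticMap.polar_comm (⇑Q) w f, hw.2, hwe, hef, hl, polar_self', he] at h1
    have h3 : c = -β w (leviVec Q e f g) := by
      simp only [smul_eq_mul, mul_zero, mul_one, zero_add, add_zero] at h1
      linear_combination h1
    rw [h3]
    module

end Cfsg.Agent.Lib.Helper67_OrthPA1
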