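import Mathlib
import Cfsg.Agent.Lib.Helper67_OrthPA1

/-!
# Orthogonal groups: unipotent subgroups attached to a totally singular line (helper67)

* `UL Q L` : the isometries acting trivially on `L` and on `L^⊥ / L`; a `p`-group in characteristic `p`.
* `PV P` : a Sylow `p`-subgroup of `T Q` as a subgroup of `V ≃ₗ[F] V`, with the maximality principle
  `le_PV_of_normalized` (a `p`-subgroup of `T Q` normalised by `P` lies in `P`).
-/

set_option autoImplicit false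

namespace Cfsg.Agent.Lib.Helper67_OrthPA2

open Module Cfsg.Agent.Lib.Helper14_OmegaSimple Cfsg.Agent.Lib.Helper14_OrthAut
  Cfsg.Agent.Lib.Helper94_OrthSmall Cfsg.Agent.Lib.Helper44_QuadClass
  Cfsg.Agent.Lib.Helper67_OrthPA1 Cfsg.Agent.Lib.Helper94_Symp

variable {F V : Type*} [Field F] [AddCommGroup V] [Module F V]
variable (Q : QuadraticForm F V)

local notation "β" => QuadraticMap.polar (DFunLike.coe Q)

/-- The isometries acting trivially on `L` and on `L^⊥ / L`. -/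
def UL (L : Submodule F V) : Subgroup (V ≃ₗ[F] V) where
  carrier := {h | h ∈ oG (⇑Q) ∧ (∀ l ∈ L, h l = l) ∧
    ∀ x, (∀ l ∈ L, β x l = 0) → h x - x ∈ L}
  one_mem' := ⟨(oG (⇑Q)).one_mem, fun _ _ => rfl, fun x _ => by simp⟩
  mul_mem' := by
    rintro a b ⟨ha, ha1, ha2⟩ ⟨hb, hb1, hb2⟩
    refine ⟨(oG (⇑Q)).mul_mem ha hb, ?_, ?_⟩
    · intro l hl
      rw [LinearEquiv.mul_apply, hb1 l hl, ha1 l hl]
    · intro x hx
      have h1 := hb2 x hx
      have h2 := ha2 x hx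
      have e1 : (a * b) x - x = (a x - x) + (b x - x) := by
        rw [LinearEquiv.mul_apply]
        have : a (b x) = a x + a (b x - x) := by rw [← map_add]; congr 1; abel
        rw [this, ha1 _ h1]
        abel
      rw [e1]
      exact L.add_mem h2 h1
  inv_mem' := by
    rintro a ⟨ha, ha1, ha2⟩
    have hinv : ∀ l ∈ L, a⁻¹ l = l := by
      intro l hl
      conv_lhs => rw [← ha1 l hl]
      exact inv_apply_apply' a l
    refine ⟨(oG (⇑Q)).inv_mem ha, hinv, ?_⟩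
    intro x hx
    have hy : ∀ l ∈ L, β (a⁻¹ x) l = 0 := by
      intro l hl
      have := oG_polar Q ha (a⁻¹ x) l
      rw [apply_inv_apply', ha1 l hl] at this
      rw [← this, hx l hl]
    have h1 := ha2 _ hy
    rw [apply_inv_apply'] at h1
    have : a⁻¹ x - x = -(x - a⁻¹ x) := by abel
    rw [this]
    exact L.neg_mem h1

variable {Q}

theorem mem_UL {L : Submodule F V} {h : V ≃ₗ[F] V} : h ∈ UL Q L ↔ h ∈ oG (⇑Q) ∧
    (∀ l ∈ L, h l = l) ∧ ∀ x, (∀ l ∈ L, β x l = 0) → h x - x ∈ L := Iff.rfl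

/-- Conjugation by an isometry stabilising `L` preserves `UL Q L`. -/
theorem conj_mem_UL {L : Submodule F V} {g h : V ≃ₗ[F] V} (hg : g ∈ oG (⇑Q))
    (hgL : ∀ l ∈ L, g l ∈ L) (hgL' : ∀ l ∈ L, g⁻¹ l ∈ L) (hh : h ∈ UL Q L) :
    g * h * g⁻¹ ∈ UL Q L := by
  obtain ⟨h0, h1, h2⟩ := hh
  refine ⟨(oG (⇑Q)).mul_mem ((oG (⇑Q)).mul_mem hg h0) ((oG (⇑Q)).inv_mem hg), ?_, ?_⟩
  · intro l hl
    rw [LinearEquiv.mul_apply, LinearEquiv.mul_apply, h1 _ (hgL' l hl), apply_inv_apply']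
  · intro x hx
    have hy : ∀ l ∈ L, β (g⁻¹ x) l = 0 := by
      intro l hl
      have := oG_polar Q hg (g⁻¹ x) (g⁻¹ l)
      rw [apply_inv_apply', apply_inv_apply'] at this
      have h3 := oG_polar Q ((oG (⇑Q)).inv_mem hg) x (g l)
      rw [inv_apply_apply'] at h3
      rw [h3]
      exact hx _ (hgL l hl)
    have h3 := hgL _ (h2 _ hy)
    rw [map_sub, apply_inv_apply'] at h3
    rw [LinearEquiv.mul_apply, LinearEquiv.mul_apply]
    exact h3

/-- Elements of `UL Q L` are unipotent: `(h - 1)^3 = 0`, hence `h ^ (p^2) = 1` in characteristic `p`. -/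
theorem pow_eq_one_of_mem_UL (p : ℕ) [Fact p.Prime] [CharP F p] (hnt : Nontrivial V)
    {L : Submodule F V} {h : V ≃ₗ[F] V} (hh : h ∈ UL Q L) : h ^ (p ^ 2) = 1 := by
  obtain ⟨h0, h1, h2⟩ := hh
  have hchar : CharP (Module.End F V) p :=
    charP_of_injective_algebraMap (algebraMap F (Module.End F V)).injective p
  let φ := LinearEquiv.automorphismGroup.toLinearMapMonoidHom (R := F) (M := V)
  have hφ : Function.Injective φ := by
    intro a b hab
    apply LinearEquiv.ext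
    intro z
    exact congrArg (fun t : V →ₗ[F] V => t z) hab
  apply hφ
  rw [map_pow, map_one]
  set N : Module.End F V := φ h - 1 with hN
  have hNz : ∀ z, N z = h z - z := fun z => rfl
  have hN1 : ∀ z, ∀ l ∈ L, β (N z) l = 0 := by
    intro z l hl
    rw [hNz, QuadraticMap.polar_sub_left]
    have := oG_polar Q h0 z l
    rw [h1 l hl] at this
    rw [this, sub_self]
  have hN3 : N ^ 3 = 0 := by
    apply LinearMap.ext
    intro z
    rw [pow_succ, pow_succ, pow_one, Module.End.mul_apply, Module.End.mul_apply]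
    have h3 : N (N z) ∈ L := by
      rw [hNz (N z)]
      exact h2 _ (hN1 z)
    rw [hNz (N (N z)), h1 _ h3, sub_self]
    rfl
  have hp2 : 3 ≤ p ^ 2 := by
    have := (Fact.out : p.Prime).two_le
    nlinarith
  have hNp : N ^ (p ^ 2) = 0 := by
    rw [← Nat.sub_add_cancel hp2, pow_add, hN3, mul_zero]
  have hsum : φ h = 1 + N := by rw [hN]; abel
  rw [hsum, add_pow_char_pow_of_commute p 2 (Commute.one_left N), one_pow, hNp, add_zero]

theorem isPGroup_UL (p : ℕ) [Fact p.Prime] [CharP F p] (hnt : Nontrivial V)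
    (L : Submodule F V) : IsPGroup p (UL Q L) := by
  intro g
  refine ⟨2, ?_⟩
  apply Subtype.ext
  have := pow_eq_one_of_mem_UL p hnt g.2
  simpa using this

/-- Siegel elements `E(a, z)` with `a ∈ L` singular, `L` totally singular and `z ⊥ L` lie in `UL Q L`. -/
theorem E_mem_UL {L : Submodule F V} (hL : ∀ l ∈ L, ∀ l' ∈ L, β l l' = 0) {a z : V}
    (ha : Q a = 0) (haL : a ∈ L) (hz : ∀ l ∈ L, β z l = 0) : E Q a z ∈ UL Q L := by
  have haz : β a z = 0 := by rw [QuadraticMap.polar_comm]; exact hz a haL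
  refine ⟨E_mem_oG Q ha haz, ?_, ?_⟩
  · intro l hl
    rw [E_apply Q ha haz, hL l hl a haL, QuadraticMap.polar_comm (⇑Q) l z, hz l hl]
    simp
  · intro x hx
    rw [E_apply Q ha haz, hx a haL]
    have : x + (0 : F) • z - β x z • a - (Q z * 0) • a - x = (-β x z) • a := by module
    rw [this]
    exact L.smul_mem _ haL

/-! ### Sylow subgroups of `T Q` as subgroups of `V ≃ₗ[F] V` -/

section sylow

variable {p : ℕ} [Fact p.Prime]

/-- A Sylow `p`-subgroup of `T Q`, as a subgroup of `V ≃ₗ[F] V`. -/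
def PV (P : Sylow p ↥(T Q)) : Subgroup (V ≃ₗ[F] V) := (P : Subgroup ↥(T Q)).map (T Q).subtype

theorem mem_PV {P : Sylow p ↥(T Q)} {g : V ≃ₗ[F] V} :
    g ∈ PV P ↔ ∃ h : g ∈ T Q, (⟨g, h⟩ : ↥(T Q)) ∈ P := by
  unfold PV
  rw [Subgroup.mem_map]
  constructor
  · rintro ⟨x, hx, rfl⟩
    exact ⟨x.2, hx⟩
  · rintro ⟨h, hx⟩
    exact ⟨⟨g, h⟩, hx, rfl⟩

theorem coe_mem_PV {P : Sylow p ↥(T Q)} {g : ↥(T Q)} : (g : V ≃ₗ[F] V) ∈ PV P ↔ g ∈ P := by
  rw [mem_PV]
  constructor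
  · rintro ⟨_, h⟩
    exact h
  · intro h
    exact ⟨g.2, h⟩

theorem PV_le_T (P : Sylow p ↥(T Q)) : PV P ≤ T Q := by
  intro g hg
  obtain ⟨h, -⟩ := mem_PV.mp hg
  exact h

theorem PV_le_oG (P : Sylow p ↥(T Q)) : PV P ≤ oG (⇑Q) := (PV_le_T P).trans (T_le_oG Q)

theorem isPGroup_PV (P : Sylow p ↥(T Q)) : IsPGroup p (PV P) := P.isPGroup'.map _

/-- A `p`-subgroup of `T Q` normalised by a Sylow `p`-subgroup lies in it. -/
theorem le_PV_of_normalized (P : Sylow p ↥(T Q)) (N : Subgroup (V ≃ₗ[F] V)) (hNT : N ≤ T Q)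
    (hN : IsPGroup p N) (hnorm : ∀ g ∈ PV P, ∀ n ∈ N, g * n * g⁻¹ ∈ N) : N ≤ PV P := by
  have hN' : IsPGroup p (N.subgroupOf (T Q)) := hN.comap_subtype
  have hle : (P : Subgroup ↥(T Q)) ≤ Subgroup.normalizer (N.subgroupOf (T Q)) := by
    intro g hg
    rw [Subgroup.mem_normalizer_iff]
    intro h
    rw [Subgroup.mem_subgroupOf, Subgroup.mem_subgroupOf]
    constructor
    · intro hh
      exact hnorm _ (coe_mem_PV.mpr hg) _ hh
    · intro hh
      have h1 := hnorm _ (coe_mem_PV.mpr (P.inv_mem hg)) _ hh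
      have h2 : ((g⁻¹ : ↥(T Q)) : V ≃ₗ[F] V) * ((g * h * g⁻¹ : ↥(T Q)) : V ≃ₗ[F] V) *
          ((g⁻¹ : ↥(T Q)) : V ≃ₗ[F] V)⁻¹ = (h : V ≃ₗ[F] V) := by
        simp [mul_assoc]
      rw [h2] at h1
      exact h1
  have hp := IsPGroup.to_sup_of_normal_right' P.isPGroup' hN' hle
  have h3 := P.is_maximal' hp le_sup_left
  intro n hn
  have h4 : (⟨n, hNT hn⟩ : ↥(T Q)) ∈ (P : Subgroup ↥(T Q)) ⊔ N.subgroupOf (T Q) :=
    (le_sup_right : N.subgroupOf (T Q) ≤ _) (Subgroup.mem_subgroupOf.mpr hn)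
  rw [h3] at h4
  exact mem_PV.mpr ⟨hNT hn, h4⟩

end sylow

end Cfsg.Agent.Lib.Helper67_OrthPA2
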