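import Mathlib
import Cfsg.Agent.Lib.Helper67_OrthPA2
import Cfsg.Agent.Lib.Helper50_OrthPA0

/-!
# Orthogonal groups: linear-algebra lemmas for the Sylow-centre package (helper67)

* `E_pow`, `isPGroup_A` : the radical `A Q he = {E(e, z)}` is a `p`-group in characteristic `p`;
* `mem_of_E_sub_mem` : a vector moved by all `E(a, z)`, `z ∈ M^⊥`, only inside a small subspace
  `N ≤ M` not containing `a` lies in `M`;
* `E_pair_eq` : `E(αu+βs, c(γu+δs)) = E(u, c(αδ-βγ)s)` on a totally singular line.
-/

set_option autoImplicit false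

namespace Cfsg.Agent.Lib.Helper67_OrthPA3

open Module Cfsg.Agent.Lib.Helper14_OmegaSimple Cfsg.Agent.Lib.Helper14_OrthAut
  Cfsg.Agent.Lib.Helper94_OrthSmall Cfsg.Agent.Lib.Helper44_QuadClass
  Cfsg.Agent.Lib.Helper67_OrthPA1 Cfsg.Agent.Lib.Helper67_OrthPA2 Cfsg.Agent.Lib.Helper94_Symp

variable {F V : Type*} [Field F] [AddCommGroup V] [Module F V]
variable {Q : QuadraticForm F V}

local notation "β" => QuadraticMap.polar (DFunLike.coe Q)

/-- Powers of a Siegel element. -/
theorem E_pow {e z : V} (he : Q e = 0) (hez : β e z = 0) (n : ℕ) :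
    (E Q e z) ^ n = E Q e ((n : F) • z) := by
  induction n with
  | zero => rw [pow_zero, Nat.cast_zero, zero_smul, E_zero_right Q he]
  | succ k ih =>
    have h1 : β e ((k : F) • z) = 0 := by
      rw [QuadraticMap.polar_smul_right, hez, smul_zero]
    rw [pow_succ, ih, E_mul Q he h1 hez, Nat.cast_succ, add_smul, one_smul]

/-- The radical `{E(e, z)}` is a `p`-group in characteristic `p`. -/
theorem isPGroup_A (p : ℕ) [Fact p.Prime] [CharP F p] {e : V} (he : Q e = 0) :
    IsPGroup p (A Q he) := by
  rintro ⟨g, z, hz, rfl⟩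
  refine ⟨1, ?_⟩
  apply Subtype.ext
  simp only [pow_one, Subgroup.coe_pow, Subgroup.coe_one]
  rw [E_pow he hz, CharP.cast_eq_zero, zero_smul, E_zero_right Q he]

/-- A vector `x` such that every `E(a, z)`, `z ∈ M^⊥`, moves `x` inside a subspace `N ≤ M` not
containing `a ∈ M` lies in `M` (when `2 dim M < dim V`). -/
theorem mem_of_E_sub_mem [FiniteDimensional F V]
    (hnd : (QuadraticMap.polarBilin Q).Nondegenerate) (M N : Submodule F V) (hNM : N ≤ M)
    (hdim : 2 * finrank F M + 1 ≤ finrank F V) {a x : V} (ha : Q a = 0) (haM : a ∈ M)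
    (haN : a ∉ N) (h : ∀ z, (∀ m ∈ M, β m z = 0) → E Q a z x - x ∈ N) : x ∈ M := by
  set B : LinearMap.BilinForm F V := QuadraticMap.polarBilin Q with hB
  have hrefl : B.IsRefl := by
    intro x y hxy
    rw [hB, QuadraticMap.polarBilin_apply_apply] at hxy ⊢
    rw [QuadraticMap.polar_comm, hxy]
  have hkey : ∀ z, (∀ m ∈ M, β m z = 0) →
      β x a • z - (β x z + Q z * β x a) • a ∈ N := by
    intro z hz
    have h1 := h z hz
    rw [E_apply Q ha (hz a haM)] at h1
    have : x + β x a • z - β x z • a - (Q z * β x a) • a - x =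
        β x a • z - (β x z + Q z * β x a) • a := by module
    rwa [this] at h1
  -- first `β x a = 0`
  have hxa : β x a = 0 := by
    by_contra hne
    have hle : LinearMap.BilinForm.orthogonal B M ≤ M := by
      intro z hz
      have hz' : ∀ m ∈ M, β m z = 0 := by
        intro m hm
        have := (LinearMap.BilinForm.mem_orthogonal_iff.mp hz) m hm
        rwa [hB, QuadraticMap.polarBilin_apply_apply] at this
      have h1 := hNM (hkey z hz')
      have h2 : β x a • z ∈ M := by
        have := M.add_mem h1 (M.smul_mem (β x z + Q z * β x a) haM)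
        rwa [sub_add_cancel] at this
      have h3 := M.smul_mem (β x a)⁻¹ h2
      rwa [smul_smul, inv_mul_cancel₀ hne, one_smul] at h3
    have h1 := Submodule.finrank_mono hle
    rw [LinearMap.BilinForm.finrank_orthogonal hnd] at h1
    omega
  -- then `x ⊥ M^⊥`
  rw [← LinearMap.BilinForm.orthogonal_orthogonal hnd hrefl M]
  rw [LinearMap.BilinForm.mem_orthogonal_iff]
  intro z hz
  have hz' : ∀ m ∈ M, β m z = 0 := by
    intro m hm
    have := (LinearMap.BilinForm.mem_orthogonal_iff.mp hz) m hm
    rwa [hB, QuadraticMap.polarBilin_apply_apply] at this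
  have h1 := hkey z hz'
  rw [hxa, zero_smul, zero_sub, mul_zero, add_zero] at h1
  rw [hB, QuadraticMap.polarBilin_apply_apply, QuadraticMap.polar_comm]
  by_contra hne
  apply haN
  have h2 := N.smul_mem (-(β x z)⁻¹) h1
  have h3 : (-(β x z)⁻¹) • -(β x z • a) = a := by
    rw [smul_neg, neg_smul, neg_neg, smul_smul, inv_mul_cancel₀ hne, one_smul]
  rwa [h3] at h2

/-- On a totally singular line the Siegel element `E(a, z)` depends only on the bivector `a ∧ z`. -/
theorem E_pair_eq {u s : V} (hu : Q u = 0) (hs : Q s = 0) (hus : β u s = 0) (a b c d k : F) :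
    E Q (a • u + b • s) (k • (c • u + d • s)) = E Q u ((k * (a * d - b * c)) • s) := by
  have hsu : β s u = 0 := by rw [QuadraticMap.polar_comm, hus]
  have hQ1 : Q (a • u + b • s) = 0 := by
    rw [QuadraticMap.map_add (⇑Q), hQs, hQs, hu, hs, QuadraticMap.polar_smul_left,
      QuadraticMap.polar_smul_right, hus]
    simp
  have hQ2 : Q (k • (c • u + d • s)) = 0 := by
    rw [hQs, QuadraticMap.map_add (⇑Q), hQs, hQs, hu, hs, QuadraticMap.polar_smul_left,
      QuadraticMap.polar_smul_right, hus]
    simp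
  have hp1 : β (a • u + b • s) (k • (c • u + d • s)) = 0 := by
    simp only [QuadraticMap.polar_smul_right, QuadraticMap.polar_add_right,
      QuadraticMap.polar_add_left, QuadraticMap.polar_smul_left, hus, hsu, polar_self', hu, hs]
    simp
  have hp2 : β u ((k * (a * d - b * c)) • s) = 0 := by
    rw [QuadraticMap.polar_smul_right, hus, smul_zero]
  have hQ3 : Q ((k * (a * d - b * c)) • s) = 0 := by rw [hQs, hs, mul_zero]
  ext x
  rw [E_apply Q hQ1 hp1, E_apply Q hu hp2, hQ2, hQ3]
  simp only [QuadraticMap.polar_smul_right, QuadraticMap.polar_add_right, smul_eq_mul]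
  module

end Cfsg.Agent.Lib.Helper67_OrthPA3
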