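import Mathlib
import Cfsg.Agent.Lib.Helper67_OrthPA3

/-!
# Orthogonal groups: the centre of a Sylow `p`-subgroup of `Ω(Q)` (helper67)

`core` : for a Sylow `p`-subgroup `P` of `T Q = Ω(Q)` (defining characteristic) there is a totally
singular line `⟨e, u⟩` with `e` fixed by `P`, `u` fixed modulo `e`, and the centre of `P` equal to the
long root group `{E(e, c u)}`.
-/

set_option autoImplicit false

namespace Cfsg.Agent.Lib.Helper67_OrthPA4

open Module Cfsg.Agent.Lib.Helper14_OmegaSimple Cfsg.Agent.Lib.Helper14_OrthAut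
  Cfsg.Agent.Lib.Helper94_OrthSmall Cfsg.Agent.Lib.Helper44_QuadClass
  Cfsg.Agent.Lib.Helper67_OrthPA1 Cfsg.Agent.Lib.Helper67_OrthPA2 Cfsg.Agent.Lib.Helper67_OrthPA3
  Cfsg.Agent.Lib.Helper94_Symp Cfsg.Agent.Lib.Helper50_OrthPA0

variable {F V : Type*} [Field F] [Finite F] [AddCommGroup V] [Module F V] [FiniteDimensional F V]
variable {Q : QuadraticForm F V} {p : ℕ} [Fact p.Prime] [CharP F p]

local notation "β" => QuadraticMap.polar (DFunLike.coe Q)

/-- The radical `{E(e, z)}` of a point fixed by a Sylow subgroup lies in it. -/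
theorem A_le_PV (hnd : (QuadraticMap.polarBilin Q).Nondegenerate) (hdim : 5 ≤ finrank F V)
    (P : Sylow p ↥(T Q)) {e : V} (he : Q e = 0) (hfix : ∀ g ∈ PV P, g e = e) :
    A Q he ≤ PV P := by
  apply le_PV_of_normalized P
  · rintro _ ⟨z, hz, rfl⟩
    exact E_mem_T Q hnd hdim he hz
  · exact isPGroup_A p he
  · rintro g hg _ ⟨z, hz, rfl⟩
    have hgo := PV_le_oG P hg
    refine ⟨g z, ?_, ?_⟩
    · have := oG_polar Q hgo e z
      rw [hfix g hg] at this
      rw [this, hz]
    · rw [conj_E Q hgo he hz, hfix g hg]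

omit [Finite F] [FiniteDimensional F V] in
/-- `⟨e, f⟩^⊥` is non-degenerate (in the form needed by `exists_fixed_singular`). -/
theorem perp_separating (hnd : (QuadraticMap.polarBilin Q).Nondegenerate) {e f : V}
    (he : Q e = 0) (hf : Q f = 0) (hef : β e f = 1) :
    ∀ x ∈ perp Q e f, (∀ y ∈ perp Q e f, β x y = 0) → x = 0 := by
  intro x hx hxy
  apply hnd.1
  intro v
  rw [QuadraticMap.polarBilin_apply_apply]
  have hv := decomp_mem_perp Q he hf hef v
  have h1 := hxy _ hv
  rw [mem_perp] at hx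
  have h2 : v = (v - β f v • e - β e v • f) + β f v • e + β e v • f := by abel
  rw [h2, QuadraticMap.polar_add_right, QuadraticMap.polar_add_right,
    QuadraticMap.polar_smul_right, QuadraticMap.polar_smul_right, h1,
    QuadraticMap.polar_comm (⇑Q) x e, hx.1, QuadraticMap.polar_comm (⇑Q) x f, hx.2]
  simp

/-- A Sylow `p`-subgroup of `T Q` fixes a non-zero singular vector. -/
theorem exists_fixed_e (hnd : (QuadraticMap.polarBilin Q).Nondegenerate) (hdim : 3 ≤ finrank F V)
    (P : Sylow p ↥(T Q)) : ∃ e : V, e ≠ 0 ∧ Q e = 0 ∧ ∀ g ∈ PV P, g e = e := by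
  have hK : ∀ x ∈ (⊤ : Submodule F V), (∀ y ∈ (⊤ : Submodule F V), β x y = 0) → x = 0 := by
    intro x _ hx
    apply hnd.1
    intro y
    rw [QuadraticMap.polarBilin_apply_apply]
    exact hx y Submodule.mem_top
  have h3 : 3 ≤ finrank F (⊤ : Submodule F V) := by rw [finrank_top]; exact hdim
  obtain ⟨v, -, hv0, hQv, hfix⟩ := exists_fixed_singular (Q := Q) (p := p) ⊤ hK h3 (PV P)
    (PV_le_oG P) (isPGroup_PV P) (fun _ _ _ _ => Submodule.mem_top)
  exact ⟨v, hv0, hQv, hfix⟩

omit [Finite F] [FiniteDimensional F V] [CharP F p] in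
/-- The subgroup of `PV P` fixing `f`. -/
def PL (P : Sylow p ↥(T Q)) (f : V) : Subgroup (V ≃ₗ[F] V) where
  carrier := {h | h ∈ PV P ∧ h f = f}
  one_mem' := ⟨(PV P).one_mem, rfl⟩
  mul_mem' := by
    rintro a b ⟨ha, ha'⟩ ⟨hb, hb'⟩
    exact ⟨(PV P).mul_mem ha hb, by rw [LinearEquiv.mul_apply, hb', ha']⟩
  inv_mem' := by
    rintro a ⟨ha, ha'⟩
    refine ⟨(PV P).inv_mem ha, ?_⟩
    conv_lhs => rw [← ha']
    exact inv_apply_apply' a f

/-- The Levi part of `P` fixes a non-zero singular vector of `⟨e, f⟩^⊥`. -/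
theorem exists_fixed_u (hnd : (QuadraticMap.polarBilin Q).Nondegenerate) (hdim : 5 ≤ finrank F V)
    (P : Sylow p ↥(T Q)) {e f : V} (he : Q e = 0) (hf : Q f = 0) (hef : β e f = 1)
    (hfix : ∀ g ∈ PV P, g e = e) :
    ∃ u ∈ perp Q e f, u ≠ 0 ∧ Q u = 0 ∧ ∀ h ∈ PV P, h f = f → h u = u := by
  have hfr := finrank_perp (Q := Q) he hf hef
  have hPLo : PL P f ≤ oG (⇑Q) := fun h hh => PV_le_oG P hh.1
  have hPLp : IsPGroup p (PL P f) := (isPGroup_PV P).to_le (fun h hh => hh.1)
  have hinv : ∀ g ∈ PL P f, ∀ x ∈ perp Q e f, g x ∈ perp Q e f := by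
    rintro g ⟨hg, hgf⟩ x hx
    rw [mem_perp] at hx ⊢
    have hgo := PV_le_oG P hg
    constructor
    · have := oG_polar Q hgo e x
      rw [hfix g hg] at this
      rw [this, hx.1]
    · have := oG_polar Q hgo f x
      rw [hgf] at this
      rw [this, hx.2]
  obtain ⟨u, hu, hu0, hQu, hfixu⟩ := exists_fixed_singular (Q := Q) (p := p) (perp Q e f)
    (perp_separating hnd he hf hef) (by omega) (PL P f) hPLo hPLp hinv
  exact ⟨u, hu, hu0, hQu, fun h hh hhf => hfixu h ⟨hh, hhf⟩⟩

/-- Every element of `P` moves `u` by a multiple of `e`. -/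
theorem map_u (hnd : (QuadraticMap.polarBilin Q).Nondegenerate) (hdim : 5 ≤ finrank F V)
    (P : Sylow p ↥(T Q)) {e f u : V} (he : Q e = 0) (hf : Q f = 0) (hef : β e f = 1)
    (hfix : ∀ g ∈ PV P, g e = e) (hu : u ∈ perp Q e f)
    (hfixu : ∀ h ∈ PV P, h f = f → h u = u) {g : V ≃ₗ[F] V} (hg : g ∈ PV P) :
    g u = u - β u (leviVec Q e f g) • e := by
  have hgo := PV_le_oG P hg
  have hge := hfix g hg
  have hl := leviVec_orth_left Q hgo he hef hge
  have hEmem : E Q e (leviVec Q e f g) ∈ PV P := A_le_PV hnd hdim P he hfix ⟨_, hl, rfl⟩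
  have h1 : ((E Q e (leviVec Q e f g))⁻¹ * g) f = f := by
    rw [LinearEquiv.mul_apply, ← E_leviVec_partner Q hgo he hf hef hge, inv_apply_apply']
  have h2 := hfixu _ ((PV P).mul_mem ((PV P).inv_mem hEmem) hg) h1
  rw [LinearEquiv.mul_apply] at h2
  have h3 : g u = E Q e (leviVec Q e f g) u := by
    conv_rhs => rw [← h2]
    exact (apply_inv_apply' _ _).symm
  rw [mem_perp] at hu
  rw [h3, E_apply_orth Q he hl (by rw [QuadraticMap.polar_comm]; exact hu.1)]

omit [Finite F] [FiniteDimensional F V] [Fact p.Prime] [CharP F p] in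
theorem tsline {e f u : V} (he0 : e ≠ 0) (he : Q e = 0) (hef : β e f = 1)
    (hu : u ∈ perp Q e f) (hu0 : u ≠ 0) (hQu : Q u = 0) : TSLine Q e u := by
  rw [mem_perp] at hu
  refine ⟨he, hQu, hu.1, he0, ?_⟩
  intro hmem
  obtain ⟨c, rfl⟩ := Submodule.mem_span_singleton.mp hmem
  have := hu.2
  rw [QuadraticMap.polar_smul_right, QuadraticMap.polar_comm, hef, smul_eq_mul, mul_one] at this
  rw [this, zero_smul] at hu0
  exact hu0 rfl

/-- The Siegel elements `E(u, z)`, `z ⊥ e, u`, lie in `P`. -/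
theorem E_u_mem_PV (hnd : (QuadraticMap.polarBilin Q).Nondegenerate) (hdim : 5 ≤ finrank F V)
    (P : Sylow p ↥(T Q)) {e u : V} (he0 : e ≠ 0) (he : Q e = 0) (hQu : Q u = 0)
    (heu : β e u = 0) (hfix : ∀ g ∈ PV P, g e = e)
    (hmap : ∀ g ∈ PV P, ∃ c : F, g u = u + c • e) {z : V} (hze : β z e = 0) (hzu : β z u = 0) :
    E Q u z ∈ PV P := by
  set L : Submodule F V := Submodule.span F {e, u} with hLdef
  have heL : e ∈ L := Submodule.subset_span (by simp)
  have huL : u ∈ L := Submodule.subset_span (by simp)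
  have hue : β u e = 0 := by rw [QuadraticMap.polar_comm, heu]
  have hL : ∀ l ∈ L, ∀ l' ∈ L, β l l' = 0 := by
    intro l hl l' hl'
    obtain ⟨a, b, rfl⟩ := Submodule.mem_span_pair.mp hl
    obtain ⟨c, d, rfl⟩ := Submodule.mem_span_pair.mp hl'
    simp only [QuadraticMap.polar_smul_right, QuadraticMap.polar_add_right,
      QuadraticMap.polar_add_left, QuadraticMap.polar_smul_left, heu, hue, polar_self', he, hQu]
    simp
  have hstab : ∀ g ∈ PV P, ∀ l ∈ L, g l ∈ L := by
    intro g hg l hl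
    obtain ⟨a, b, rfl⟩ := Submodule.mem_span_pair.mp hl
    obtain ⟨c, hc⟩ := hmap g hg
    rw [map_add, map_smul, map_smul, hfix g hg, hc]
    exact L.add_mem (L.smul_mem _ heL) (L.smul_mem _ (L.add_mem huL (L.smul_mem _ heL)))
  have hnt : Nontrivial V := ⟨e, 0, he0⟩
  have hN : UL Q L ⊓ T Q ≤ PV P := by
    apply le_PV_of_normalized P _ inf_le_right ((isPGroup_UL p hnt L).to_le inf_le_left)
    rintro g hg n ⟨hn1, hn2⟩
    refine ⟨?_, ?_⟩
    · exact conj_mem_UL (PV_le_oG P hg) (hstab g hg) (hstab g⁻¹ ((PV P).inv_mem hg)) hn1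
    · have hgT := PV_le_T P hg
      exact (T Q).mul_mem ((T Q).mul_mem hgT hn2) ((T Q).inv_mem hgT)
  apply hN
  refine ⟨?_, ?_⟩
  · apply E_mem_UL hL hQu huL
    intro l hl
    obtain ⟨a, b, rfl⟩ := Submodule.mem_span_pair.mp hl
    rw [QuadraticMap.polar_add_right, QuadraticMap.polar_smul_right,
      QuadraticMap.polar_smul_right, hze, hzu]
    simp
  · exact E_mem_T Q hnd hdim hQu (by rw [QuadraticMap.polar_comm, hzu])

/-- The long root elements `E(e, c u)` are central in `P`. -/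
theorem central_of_root (hnd : (QuadraticMap.polarBilin Q).Nondegenerate)
    (hdim : 5 ≤ finrank F V) (P : Sylow p ↥(T Q)) {e u : V} (he : Q e = 0)
    (heu : β e u = 0) (hfix : ∀ g ∈ PV P, g e = e)
    (hmap : ∀ g ∈ PV P, ∃ c : F, g u = u + c • e) (c : F) :
    E Q e (c • u) ∈ PV P ∧ ∀ h ∈ PV P, h * E Q e (c • u) = E Q e (c • u) * h := by
  have hecu : β e (c • u) = 0 := by rw [QuadraticMap.polar_smul_right, heu, smul_zero]
  refine ⟨A_le_PV hnd hdim P he hfix ⟨_, hecu, rfl⟩, ?_⟩
  intro h hh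
  obtain ⟨a, ha⟩ := hmap h hh
  have h1 := conj_E Q (PV_le_oG P hh) he hecu
  rw [hfix h hh, map_smul, ha, smul_add, smul_smul, E_add_smul Q he hecu] at h1
  exact mul_inv_eq_iff_eq_mul.mp h1

omit [Finite F] [FiniteDimensional F V] [Fact p.Prime] [CharP F p] in
theorem finrank_span_triple_le (e f u : V) :
    finrank F (Submodule.span F ({e, f, u} : Set V)) ≤ 3 := by
  classical
  have h1 := finrank_span_finset_le_card (R := F) ({e, f, u} : Finset V)
  have h2 : (({e, f, u} : Finset V) : Set V) = {e, f, u} := by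
    push_cast
    rfl
  rw [Set.finrank, h2] at h1
  exact h1.trans Finset.card_le_three

omit [Finite F] [FiniteDimensional F V] [Fact p.Prime] [CharP F p] in
theorem finrank_span_pair_le (e u : V) :
    finrank F (Submodule.span F ({e, u} : Set V)) ≤ 2 := by
  classical
  have h1 := finrank_span_finset_le_card (R := F) ({e, u} : Finset V)
  have h2 : (({e, u} : Finset V) : Set V) = {e, u} := by
    push_cast
    rfl
  rw [Set.finrank, h2] at h1
  exact h1.trans Finset.card_le_two

/-- A central element of `P` is a long root element `E(e, c u)`. -/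
theorem root_of_central (hnd : (QuadraticMap.polarBilin Q).Nondegenerate)
    (hdim : 7 ≤ finrank F V) (P : Sylow p ↥(T Q)) {e f u : V} (he0 : e ≠ 0) (he : Q e = 0)
    (hf : Q f = 0) (hef : β e f = 1) (hu : u ∈ perp Q e f) (hu0 : u ≠ 0) (hQu : Q u = 0)
    (hfix : ∀ g ∈ PV P, g e = e) (hmap : ∀ g ∈ PV P, ∃ c : F, g u = u + c • e)
    {g : V ≃ₗ[F] V} (hg : g ∈ PV P) (hc : ∀ h ∈ PV P, h * g = g * h) :
    ∃ c : F, g = E Q e (c • u) := by
  have hdim5 : 5 ≤ finrank F V := by omega
  have hgo := PV_le_oG P hg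
  have hge := hfix g hg
  have hfe : β f e = 1 := by rw [QuadraticMap.polar_comm, hef]
  rw [mem_perp] at hu
  have heu : β e u = 0 := hu.1
  have hfu : β f u = 0 := hu.2
  have hue : β u e = 0 := by rw [QuadraticMap.polar_comm, heu]
  have huf : β u f = 0 := by rw [QuadraticMap.polar_comm, hfu]
  -- `g` acts trivially on `e^⊥ / e`
  have htriv : ∀ z, β e z = 0 → ∃ c : F, g z = z + c • e := by
    intro z hz
    have hmem : E Q e z ∈ PV P := A_le_PV hnd hdim5 P he hfix ⟨_, hz, rfl⟩
    have h1 := hc _ hmem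
    have h2 : g * E Q e z * g⁻¹ = E Q e z := by rw [← h1, mul_inv_cancel_right]
    rw [conj_E Q hgo he hz, hge] at h2
    have hegz : β e (g z) = 0 := by
      have := oG_polar Q hgo e z
      rw [hge] at this
      rw [this, hz]
    have h3 := sub_mem_span_of_E_eq Q he hef hegz hz h2
    obtain ⟨c, hc'⟩ := Submodule.mem_span_singleton.mp h3
    exact ⟨c, by rw [hc']; abel⟩
  obtain ⟨z0, hl, hr, hgE⟩ : ∃ z0 : V, β e z0 = 0 ∧ β f z0 = 0 ∧ g = E Q e z0 :=
    ⟨leviVec Q e f g, leviVec_orth_left Q hgo he hef hge, leviVec_orth_right Q hf hef,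
      eq_E_of_trivial Q hgo he hf hef hge htriv⟩
  subst hgE
  set M : Submodule F V := Submodule.span F {e, f, u} with hMdef
  have heM : e ∈ M := Submodule.subset_span (by simp)
  have hfM : f ∈ M := Submodule.subset_span (by simp)
  have huM : u ∈ M := Submodule.subset_span (by simp)
  have hM3 : finrank F M ≤ 3 := finrank_span_triple_le e f u
  have hz0M : z0 ∈ M := by
    apply mem_of_E_sub_mem hnd M ⊥ bot_le (by omega) hQu huM (by simpa using hu0)
    intro z hz
    have hez : β e z = 0 := hz e heM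
    have hfz : β f z = 0 := hz f hfM
    have huz : β u z = 0 := hz u huM
    have hmem : E Q u z ∈ PV P := E_u_mem_PV hnd hdim5 P he0 he hQu heu hfix hmap
      (by rw [QuadraticMap.polar_comm, hez]) (by rw [QuadraticMap.polar_comm, huz])
    have h1 := hc _ hmem
    have h2 := congrArg (fun t : V ≃ₗ[F] V => t f) h1
    simp only [LinearEquiv.mul_apply] at h2
    have h3 : E Q u z f = f := by
      rw [E_apply Q hQu huz, hfu, hfz]
      simp
    have h4 : E Q u z e = e := by
      rw [E_apply Q hQu huz, heu, hez]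
      simp
    rw [h3, E_apply_partner Q he hef hl, map_sub, map_add, map_smul, h3, h4] at h2
    have h5 : E Q u z z0 - z0 = 0 := by
      linear_combination (norm := module) h2
    rw [h5]
    exact Submodule.zero_mem _
  obtain ⟨a, b, c, habc⟩ := Submodule.mem_span_triple.mp hz0M
  have hb : b = 0 := by
    have := hl
    rw [← habc, QuadraticMap.polar_add_right, QuadraticMap.polar_add_right,
      QuadraticMap.polar_smul_right, QuadraticMap.polar_smul_right,
      QuadraticMap.polar_smul_right, polar_self', he, hef, heu] at this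
    simpa using this
  have ha : a = 0 := by
    have := hr
    rw [← habc, QuadraticMap.polar_add_right, QuadraticMap.polar_add_right,
      QuadraticMap.polar_smul_right, QuadraticMap.polar_smul_right,
      QuadraticMap.polar_smul_right, polar_self', hf, hfe, hfu] at this
    simpa using this
  refine ⟨c, ?_⟩
  rw [← habc, ha, hb, zero_smul, zero_smul, zero_add, zero_add]

/-- **The centre of a Sylow `p`-subgroup of `Ω(Q)`** is the long root group of a totally singular
line `⟨e, u⟩`, where `e` is fixed by `P` and `u` is fixed modulo `e`. -/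
theorem core (hnd : (QuadraticMap.polarBilin Q).Nondegenerate) (hdim : 7 ≤ finrank F V)
    (P : Sylow p ↥(T Q)) :
    ∃ e u : V, TSLine Q e u ∧ (∀ g ∈ PV P, g e = e) ∧ (∀ g ∈ PV P, ∃ c : F, g u = u + c • e) ∧
      ∀ g : V ≃ₗ[F] V, (g ∈ PV P ∧ ∀ h ∈ PV P, h * g = g * h) ↔ ∃ c : F, g = E Q e (c • u) := by
  have hdim5 : 5 ≤ finrank F V := by omega
  obtain ⟨e, he0, he, hfix⟩ := exists_fixed_e hnd (by omega) P
  obtain ⟨f, hf, hef⟩ := exists_hyperbolic_partner Q hnd he0 he
  obtain ⟨u, hu, hu0, hQu, hfixu⟩ := exists_fixed_u hnd hdim5 P he hf hef hfix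
  have hmap : ∀ g ∈ PV P, ∃ c : F, g u = u + c • e := by
    intro g hg
    refine ⟨-β u (leviVec Q e f g), ?_⟩
    rw [map_u hnd hdim5 P he hf hef hfix hu hfixu hg, neg_smul, sub_eq_add_neg]
  have hts := tsline he0 he hef hu hu0 hQu
  refine ⟨e, u, hts, hfix, hmap, ?_⟩
  intro g
  constructor
  · rintro ⟨hg, hc⟩
    exact root_of_central hnd hdim P he0 he hf hef hu hu0 hQu hfix hmap hg hc
  · rintro ⟨c, rfl⟩
    exact central_of_root hnd hdim5 P he hts.2.2.1 hfix hmap c

end Cfsg.Agent.Lib.Helper67_OrthPA4
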