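import Mathlib
import Cfsg.Agent.Lib.Helper67_OrthPA4

/-!
# Orthogonal groups: Sylow centres of `PΩ(Q)` are the long root groups (helper67)

Packages PA1 (`A1`) and PA2 (`A2`) of helper14's orthogonal automorphism project.
-/

set_option autoImplicit false

namespace Cfsg.Agent.Lib.Helper67_OrthPA5

open Module Cfsg.Agent.Lib.Helper14_OmegaSimple Cfsg.Agent.Lib.Helper14_OrthAut
  Cfsg.Agent.Lib.Helper94_OrthSmall Cfsg.Agent.Lib.Helper44_QuadClass
  Cfsg.Agent.Lib.Helper67_OrthPA1 Cfsg.Agent.Lib.Helper67_OrthPA2 Cfsg.Agent.Lib.Helper67_OrthPA3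
  Cfsg.Agent.Lib.Helper67_OrthPA4 Cfsg.Agent.Lib.Helper94_Symp Cfsg.Agent.Lib.Helper14_CentOmega

variable {F V : Type*} [Field F] [Finite F] [AddCommGroup V] [Module F V] [FiniteDimensional F V]
variable {Q : QuadraticForm F V} {p : ℕ} [Fact p.Prime] [CharP F p] {𝔾 : Type*} [Group 𝔾]

local notation "β" => QuadraticMap.polar (DFunLike.coe Q)

omit [Fact p.Prime] [CharP F p] in
/-- `V ≃ₗ[F] V` is finite. -/
theorem finite_aut : Finite (V ≃ₗ[F] V) := by
  have : Finite V := Module.finite_of_finite F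
  exact Finite.of_injective (fun g : V ≃ₗ[F] V => (g : V → V)) DFunLike.coe_injective

omit [Fact p.Prime] [CharP F p] in
/-- A central element of `T Q` fixing a non-zero vector is trivial. -/
theorem eq_one_of_central (hnd : (QuadraticMap.polarBilin Q).Nondegenerate)
    (hdim : 5 ≤ finrank F V) {c : ↥(T Q)} (hc : c ∈ Subgroup.center ↥(T Q)) {e : V}
    (he0 : e ≠ 0) (hce : (c : V ≃ₗ[F] V) e = e) : c = 1 := by
  have hcomm : ∀ u s : V, Q u = 0 → Q s = 0 → β u s = 0 →
      (c : V ≃ₗ[F] V) * E Q u s = E Q u s * c := by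
    intro u s hu hs hus
    have h1 := Subgroup.mem_center_iff.mp hc ⟨E Q u s, root_mem_T Q hu hs hus⟩
    exact (congrArg Subtype.val h1).symm
  obtain ⟨l, hl⟩ := exists_scalar_of_comm Q hnd hdim hcomm
  have h1 : l = 1 := by
    have := hl e
    rw [hce] at this
    have h2 : (l - 1) • e = 0 := by rw [sub_smul, one_smul, ← this, sub_self]
    rcases smul_eq_zero.mp h2 with h | h
    · exact sub_eq_zero.mp h
    · exact absurd h he0
  apply Subtype.ext
  ext x
  rw [hl x, h1, one_smul]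
  rfl

omit [CharP F p] in
/-- Transfer of the centre from `Ω(Q)` to `PΩ(Q)`. -/
theorem zSet_eq (hnd : (QuadraticMap.polarBilin Q).Nondegenerate) (hdim : 5 ≤ finrank F V)
    (mk : ↥(T Q) →* 𝔾) (hker : mk.ker = Subgroup.center ↥(T Q)) (P : Sylow p ↥(T Q)) {e u : V}
    (he0 : e ≠ 0) (hfix : ∀ g ∈ PV P, g e = e)
    (hZ : ∀ g : V ≃ₗ[F] V, (g ∈ PV P ∧ ∀ h ∈ PV P, h * g = g * h) ↔
      ∃ c : F, g = E Q e (c • u)) :
    zSet ((P : Subgroup ↥(T Q)).map mk) = rootSet mk e u := by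
  ext t
  constructor
  · rintro ⟨ht, hcomm⟩
    obtain ⟨g', hg', rfl⟩ := Subgroup.mem_map.mp ht
    have hgc : (g' : V ≃ₗ[F] V) ∈ PV P ∧
        ∀ h ∈ PV P, h * (g' : V ≃ₗ[F] V) = (g' : V ≃ₗ[F] V) * h := by
      refine ⟨coe_mem_PV.mpr hg', ?_⟩
      intro h hh
      obtain ⟨hT, hP⟩ := mem_PV.mp hh
      set h' : ↥(T Q) := ⟨h, hT⟩ with hh'
      have h1 := hcomm (mk h') (Subgroup.mem_map_of_mem mk hP)
      have h2 : h' * g' * h'⁻¹ * g'⁻¹ ∈ mk.ker := by
        rw [MonoidHom.mem_ker, map_mul, map_mul, map_mul, map_inv, map_inv, h1]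
        group
      rw [hker] at h2
      have h3 : h' * g' * h'⁻¹ * g'⁻¹ ∈ (P : Subgroup ↥(T Q)) :=
        Subgroup.mul_mem _ (Subgroup.mul_mem _ (Subgroup.mul_mem _ hP hg')
          (Subgroup.inv_mem _ hP)) (Subgroup.inv_mem _ hg')
      have h4 := eq_one_of_central hnd hdim h2 he0 (hfix _ (coe_mem_PV.mpr h3))
      have h5 : h' * g' = g' * h' := by
        rw [mul_inv_eq_one, mul_inv_eq_iff_eq_mul] at h4
        exact h4
      exact congrArg Subtype.val h5
    obtain ⟨c, hc⟩ := (hZ _).mp hgc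
    refine ⟨c, ?_⟩
    rw [← hc, mkT_coe]
  · rintro ⟨c, rfl⟩
    obtain ⟨hmem, hcent⟩ := (hZ _).mpr ⟨c, rfl⟩
    obtain ⟨hT, hP⟩ := mem_PV.mp hmem
    rw [mkT_of_mem mk hT]
    refine ⟨Subgroup.mem_map_of_mem mk hP, ?_⟩
    intro s hs
    obtain ⟨s', hs', rfl⟩ := Subgroup.mem_map.mp hs
    rw [← map_mul, ← map_mul]
    congr 1
    apply Subtype.ext
    exact hcent _ (coe_mem_PV.mpr hs')

/-- **Package PA1.**  The centre of a Sylow `p`-subgroup of `PΩ(Q)` is a long root group. -/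
theorem A1 (hH : Hyp Q) (mk : ↥(T Q) →* 𝔾) (hsurj : Function.Surjective mk)
    (hker : mk.ker = Subgroup.center ↥(T Q)) (S : Sylow p 𝔾) :
    ∃ u s : V, TSLine Q u s ∧ zSet (S : Subgroup 𝔾) = rootSet mk u s := by
  have hfin : Finite (V ≃ₗ[F] V) := finite_aut
  obtain ⟨P, rfl⟩ := Sylow.mapSurjective_surjective hsurj p S
  obtain ⟨e, u, hts, hfix, -, hZ⟩ := core (p := p) hH.nd hH.dim P
  refine ⟨e, u, hts, ?_⟩
  rw [Sylow.coe_mapSurjective]
  exact zSet_eq hH.nd (by have := hH.dim; omega) mk hker P hts.2.2.2.1 hfix hZ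

/-- **Package PA2.**  Every long root group of `PΩ(Q)` is the centre of a Sylow `p`-subgroup. -/
theorem A2 (hH : Hyp Q) (mk : ↥(T Q) →* 𝔾) (hsurj : Function.Surjective mk)
    (hker : mk.ker = Subgroup.center ↥(T Q)) {u s : V} (h : TSLine Q u s) :
    ∃ S : Sylow p 𝔾, zSet (S : Subgroup 𝔾) = rootSet mk u s := by
  have hfin : Finite (V ≃ₗ[F] V) := finite_aut
  have hnd := hH.nd
  have hdim7 := hH.dim
  have hdim5 : 5 ≤ finrank F V := by omega
  obtain ⟨hQu, hQs, hus, hu0, hsu⟩ := h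
  have hsu' : β s u = 0 := by rw [QuadraticMap.polar_comm, hus]
  set L0 : Submodule F V := Submodule.span F {u, s} with hL0def
  have huL : u ∈ L0 := Submodule.subset_span (by simp)
  have hsL : s ∈ L0 := Submodule.subset_span (by simp)
  have hL0 : ∀ l ∈ L0, ∀ l' ∈ L0, β l l' = 0 := by
    intro l hl l' hl'
    obtain ⟨a, b, rfl⟩ := Submodule.mem_span_pair.mp hl
    obtain ⟨c, d, rfl⟩ := Submodule.mem_span_pair.mp hl'
    simp only [QuadraticMap.polar_smul_right, QuadraticMap.polar_add_right,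
      QuadraticMap.polar_add_left, QuadraticMap.polar_smul_left, hus, hsu', polar_self', hQu, hQs]
    simp
  have hL2 : finrank F L0 ≤ 2 := finrank_span_pair_le u s
  have hLdim : 2 * finrank F L0 + 1 ≤ finrank F V := by omega
  have hnt : Nontrivial V := ⟨u, 0, hu0⟩
  -- a Sylow subgroup containing `U_{L0} ∩ T`
  have hUp : IsPGroup p ((UL Q L0 ⊓ T Q).subgroupOf (T Q)) :=
    ((isPGroup_UL p hnt L0).to_le inf_le_left).comap_subtype
  obtain ⟨P, hP⟩ := hUp.exists_le_sylow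
  have hU0 : UL Q L0 ⊓ T Q ≤ PV P := by
    intro n hn
    exact mem_PV.mpr ⟨hn.2, hP (Subgroup.mem_subgroupOf.mpr hn)⟩
  have hEmem : ∀ a : V, Q a = 0 → a ∈ L0 → ∀ z : V, (∀ m ∈ L0, β m z = 0) →
      E Q a z ∈ PV P := by
    intro a hQa haL z hz
    exact hU0 ⟨E_mem_UL hL0 hQa haL (fun l hl => by rw [QuadraticMap.polar_comm]; exact hz l hl),
      E_mem_T Q hnd hdim5 hQa (hz a haL)⟩
  obtain ⟨e, u', hts, hfix, hmap, hZ⟩ := core (p := p) hnd hdim7 P
  -- `e ∈ L0`
  have heL : e ∈ L0 := by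
    apply mem_of_E_sub_mem hnd L0 ⊥ bot_le hLdim hQu huL (by simpa using hu0)
    intro z hz
    rw [hfix _ (hEmem u hQu huL z hz), sub_self]
    exact Submodule.zero_mem _
  have hspan_le : Submodule.span F {e} ≤ L0 := by
    rw [Submodule.span_le]
    intro x hx
    rw [Set.mem_singleton_iff] at hx
    rw [hx]
    exact heL
  -- `u' ∈ L0`
  have key : ∀ a : V, Q a = 0 → a ∈ L0 → a ∉ Submodule.span F {e} → u' ∈ L0 := by
    intro a hQa haL haN
    apply mem_of_E_sub_mem hnd L0 (Submodule.span F {e}) hspan_le hLdim hQa haL haN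
    intro z hz
    obtain ⟨c, hc⟩ := hmap _ (hEmem a hQa haL z hz)
    rw [hc, add_sub_cancel_left]
    exact Submodule.smul_mem _ _ (Submodule.mem_span_singleton_self e)
  have hu'L : u' ∈ L0 := by
    by_cases hue : u ∈ Submodule.span F {e}
    · apply key s hQs hsL
      intro hse
      obtain ⟨c, hc⟩ := Submodule.mem_span_singleton.mp hue
      obtain ⟨d, hd⟩ := Submodule.mem_span_singleton.mp hse
      have hc0 : c ≠ 0 := by
        rintro rfl
        rw [zero_smul] at hc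
        exact hu0 hc.symm
      apply hsu
      rw [Submodule.mem_span_singleton]
      refine ⟨d / c, ?_⟩
      rw [← hc, ← hd, smul_smul, div_mul_cancel₀ _ hc0]
    · exact key u hQu huL hue
  obtain ⟨a1, b1, he_eq⟩ := Submodule.mem_span_pair.mp heL
  obtain ⟨c1, d1, hu_eq⟩ := Submodule.mem_span_pair.mp hu'L
  have hdet : a1 * d1 - b1 * c1 ≠ 0 := by
    intro h0
    apply hts.2.2.2.2
    rw [Submodule.mem_span_singleton]
    by_cases ha1 : a1 = 0
    · have hb1 : b1 ≠ 0 := by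
        rintro rfl
        apply hts.2.2.2.1
        rw [← he_eq, ha1]
        simp
      have hc1 : c1 = 0 := by
        rw [ha1] at h0
        simp only [zero_mul, zero_sub, neg_eq_zero, mul_eq_zero] at h0
        exact h0.resolve_left hb1
      refine ⟨d1 / b1, ?_⟩
      rw [← he_eq, ← hu_eq, ha1, hc1, zero_smul, zero_add, zero_add, smul_smul,
        div_mul_cancel₀ _ hb1]
    · refine ⟨c1 / a1, ?_⟩
      have hd1 : d1 = c1 / a1 * b1 := by
        field_simp
        linear_combination h0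
      rw [← he_eq, ← hu_eq, smul_add, smul_smul, smul_smul, div_mul_cancel₀ _ ha1, ← hd1]
  have hroot : rootSet mk e u' = rootSet mk u s := by
    ext t
    constructor
    · rintro ⟨k, rfl⟩
      refine ⟨k * (a1 * d1 - b1 * c1), ?_⟩
      rw [← he_eq, ← hu_eq, E_pair_eq hQu hQs hus]
    · rintro ⟨k, rfl⟩
      refine ⟨k / (a1 * d1 - b1 * c1), ?_⟩
      rw [← he_eq, ← hu_eq, E_pair_eq hQu hQs hus, div_mul_cancel₀ _ hdet]
  refine ⟨P.mapSurjective hsurj, ?_⟩
  rw [Sylow.coe_mapSurjective, ← hroot]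
  exact zSet_eq hnd hdim5 mk hker P hts.2.2.2.1 hfix hZ

end Cfsg.Agent.Lib.Helper67_OrthPA5
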