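import Mathlib
import Cfsg.Agent.Lib.Helper97_OrthPB
import Cfsg.Agent.Lib.Helper50_OrthPA0
import Cfsg.Agent.Lib.Helper95_OrthW

/-!
# Orthogonal automorphism project (helper14), package PB3 (helper97)

`pcore_eq_rad` : for two non-perpendicular totally singular lines `⟨e, z⟩`, `⟨e, z'⟩` through a singular
point, `O_p(C(X_L X_M))` is the image of the unipotent radical `R_e = {E(e, w) | w ⊥ e}`.
-/

set_option autoImplicit false

namespace Cfsg.Agent.Lib.Helper97_OrthPB3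

open Module Cfsg.Agent.Lib.Helper14_OmegaSimple Cfsg.Agent.Lib.Helper14_OrthAut
  Cfsg.Agent.Lib.Helper94_OrthSmall Cfsg.Agent.Lib.Helper44_QuadClass
  Cfsg.Agent.Lib.Helper97_OrthPB0 Cfsg.Agent.Lib.Helper94_Symp Cfsg.Agent.Lib.Helper97_OrthPB
  Cfsg.Agent.Lib.Helper95_OrthW

variable {F V : Type*} [Field F] [AddCommGroup V] [Module F V]
variable {Q : QuadraticForm F V}

/-! ## Powers of Eichler elements -/

theorem E_pow {u z : V} (hu : Q u = 0) (huz : QuadraticMap.polar (⇑Q) u z = 0) (k : ℕ) :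
    (E Q u z) ^ k = E Q u (k • z) := by
  induction k with
  | zero => rw [pow_zero, zero_smul, E_zero_right Q hu]
  | succ k ih =>
    have h1 : QuadraticMap.polar (⇑Q) u (k • z) = 0 := by
      rw [← Nat.cast_smul_eq_nsmul F, QuadraticMap.polar_smul_right, huz, smul_zero]
    rw [pow_succ, ih, E_mul Q hu h1 huz, succ_nsmul]

theorem E_pow_char {p : ℕ} [CharP F p] {u z : V} (hu : Q u = 0)
    (huz : QuadraticMap.polar (⇑Q) u z = 0) : (E Q u z) ^ p = 1 := by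
  rw [E_pow hu huz, ← Nat.cast_smul_eq_nsmul F, CharP.cast_eq_zero, zero_smul, E_zero_right Q hu]

theorem isPGroup_A {p : ℕ} [Fact p.Prime] [CharP F p] {e : V} (he : Q e = 0) :
    IsPGroup p ↥(A Q he) := by
  rintro ⟨g, y, hy, rfl⟩
  refine ⟨1, Subtype.ext ?_⟩
  rw [pow_one, Subgroup.coe_pow, Subgroup.coe_one]
  exact E_pow_char he hy

/-! ## Isometries fixing `e` and trivial on `e^⊥ / e` -/

/-- For an isometry `g` fixing the singular vector `e` and a hyperbolic partner `f` of `e`, the Eichler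
element `E(e, g f - f)` maps `f` to `g f`. -/
theorem E_partner {g : V ≃ₗ[F] V} (hg : g ∈ oG (⇑Q)) {e f : V} (he : Q e = 0) (hf : Q f = 0)
    (hef : QuadraticMap.polar (⇑Q) e f = 1) (hge : g e = e) :
    QuadraticMap.polar (⇑Q) e (g f - f) = 0 ∧ E Q e (g f - f) f = g f := by
  have h1 : QuadraticMap.polar (⇑Q) e (g f - f) = 0 := by
    rw [QuadraticMap.polar_sub_right, hef]
    conv_lhs => rw [← hge]
    rw [oG_polar Q hg, hef, sub_self]
  refine ⟨h1, ?_⟩
  have hfe : QuadraticMap.polar (⇑Q) f e = 1 := by rw [QuadraticMap.polar_comm, hef]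
  have h2 : Q (g f) = 0 := by rw [mem_oG.mp hg, hf]
  have h3 : Q (g f - f) + QuadraticMap.polar (⇑Q) f (g f - f) = 0 := by
    have h4 : g f = f + (g f - f) := by abel
    have h5 := h2
    rw [h4, QuadraticMap.map_add (⇑Q), hf] at h5
    rw [← h5]; ring
  rw [E_apply Q he h1, hfe]
  have h6 : Q (g f - f) = -QuadraticMap.polar (⇑Q) f (g f - f) := by
    linear_combination h3
  rw [h6]
  module

/-- An isometry fixing `e` and inducing the identity on `e^⊥ / e` is an Eichler element `E(e, y)`. -/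
theorem eq_E_of_trivial {g : V ≃ₗ[F] V} (hg : g ∈ oG (⇑Q)) {e f : V} (he : Q e = 0) (hf : Q f = 0)
    (hef : QuadraticMap.polar (⇑Q) e f = 1) (hge : g e = e)
    (htriv : ∀ x, QuadraticMap.polar (⇑Q) x e = 0 → ∃ c : F, g x = x + c • e) :
    g = E Q e (g f - f) := by
  obtain ⟨h1, h2⟩ := E_partner hg he hf hef hge
  have hfe : QuadraticMap.polar (⇑Q) f e = 1 := by rw [QuadraticMap.polar_comm, hef]
  have hee : QuadraticMap.polar (⇑Q) e e = 0 := by rw [polar_self', he, mul_zero]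
  have hEe : E Q e (g f - f) e = e := E_apply_of_orth Q he h1 hee h1
  ext x
  have hx := eq_add_projH (Q := Q) e f x
  obtain ⟨x', hx'⟩ : ∃ x', x' = projH Q e f x := ⟨_, rfl⟩
  have hx'mem : x' ∈ Wp Q e f := hx' ▸ projH_mem he hf hef x
  rw [mem_Wp] at hx'mem
  obtain ⟨c, hc⟩ := htriv x' hx'mem.1
  have hgx' : g x' = E Q e (g f - f) x' := by
    rw [E_apply Q he h1, hx'mem.1, hc]
    -- `c = - polar x' (g f - f)`
    have h3 : QuadraticMap.polar (⇑Q) (g x') (g f) = 0 := by rw [oG_polar Q hg, hx'mem.2]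
    have h4 : g f = f + (g f - f) := by abel
    rw [hc, h4, QuadraticMap.polar_add_left, QuadraticMap.polar_add_right,
      QuadraticMap.polar_add_right, QuadraticMap.polar_smul_left, QuadraticMap.polar_smul_left,
      hx'mem.2, hef, h1] at h3
    have h5 : c = -QuadraticMap.polar (⇑Q) x' (g f - f) := by
      simp only [smul_eq_mul, mul_one, mul_zero, add_zero, zero_add] at h3
      linear_combination h3
    rw [h5]
    module
  rw [← hx'] at hx
  rw [hx, map_add, map_add, map_smul, map_smul, map_add, map_add, map_smul, map_smul, hge, hEe, h2,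
    hgx']

/-! ## `O_p(H)` as a subgroup -/

section pcore

variable {𝔾 : Type*} [Group 𝔾]

/-- `pCoreSet p H` as a subgroup. -/
def pCoreSub (p : ℕ) (H : Subgroup 𝔾) : Subgroup 𝔾 where
  carrier := pCoreSet p H
  mul_mem' := by
    rintro a b ⟨ha, ha'⟩ ⟨hb, hb'⟩
    exact ⟨H.mul_mem ha hb, fun P hP => P.mul_mem (ha' P hP) (hb' P hP)⟩
  one_mem' := ⟨H.one_mem, fun P _ => P.one_mem⟩
  inv_mem' := by
    rintro a ⟨ha, ha'⟩
    exact ⟨H.inv_mem ha, fun P hP => P.inv_mem (ha' P hP)⟩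

theorem mem_pCoreSub {p : ℕ} {H : Subgroup 𝔾} {t : 𝔾} : t ∈ pCoreSub p H ↔ t ∈ pCoreSet p H :=
  Iff.rfl

theorem pCoreSub_le (p : ℕ) (H : Subgroup 𝔾) : pCoreSub p H ≤ H := fun _ ht => ht.1

/-- Maximal `p`-subgroups exist in a finite group. -/
theorem exists_isMaxP [Finite 𝔾] (p : ℕ) [Fact p.Prime] (H : Subgroup 𝔾) : ∃ P, IsMaxP p H P := by
  obtain ⟨S⟩ : Nonempty (Sylow p ↥H) := inferInstance
  refine ⟨(S : Subgroup ↥H).map H.subtype, Subgroup.map_subtype_le _, ?_, ?_⟩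
  · exact S.isPGroup'.map H.subtype
  · intro P' hle hP'H hP'
    have h1 : IsPGroup p ↥(P'.subgroupOf H) :=
      hP'.comap_of_injective H.subtype H.subtype_injective
    have h2 : (S : Subgroup ↥H) ≤ P'.subgroupOf H := by
      intro x hx
      rw [Subgroup.mem_subgroupOf]
      exact hle (Subgroup.mem_map_of_mem _ hx)
    have h3 := S.is_maximal' h1 h2
    rw [← h3, Subgroup.map_subgroupOf_eq_of_le hP'H]

/-- `O_p(H)` is a `p`-group. -/
theorem isPGroup_pCoreSub [Finite 𝔾] (p : ℕ) [Fact p.Prime] (H : Subgroup 𝔾) :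
    IsPGroup p ↥(pCoreSub p H) := by
  obtain ⟨P, hP⟩ := exists_isMaxP p H
  exact hP.2.1.to_le (fun t ht => ht.2 P hP)

/-- `O_p(H)` is normalised by `H`. -/
theorem conj_mem_pCoreSub {p : ℕ} {H : Subgroup 𝔾} {h t : 𝔾} (hh : h ∈ H) (ht : t ∈ pCoreSub p H) :
    h * t * h⁻¹ ∈ pCoreSub p H := by
  refine ⟨H.mul_mem (H.mul_mem hh ht.1) (H.inv_mem hh), ?_⟩
  intro P hP
  -- `h⁻¹ P h` is a maximal `p`-subgroup
  have hP' : IsMaxP p H (P.map (MulAut.conj h⁻¹).toMonoidHom) := by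
    refine ⟨?_, hP.2.1.map _, ?_⟩
    · rintro _ ⟨x, hx, rfl⟩
      simp only [MulEquiv.coe_toMonoidHom, MulAut.conj_apply, inv_inv]
      exact H.mul_mem (H.mul_mem (H.inv_mem hh) (hP.1 hx)) hh
    · intro P'' hle hP''H hP''
      have h1 : P ≤ P''.map (MulAut.conj h).toMonoidHom := by
        intro x hx
        refine ⟨h⁻¹ * x * h, hle ⟨x, hx, ?_⟩, ?_⟩
        · simp
        · simp only [MulEquiv.coe_toMonoidHom, MulAut.conj_apply]
          group
      have h2 : P''.map (MulAut.conj h).toMonoidHom ≤ H := by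
        rintro _ ⟨x, hx, rfl⟩
        simp only [MulEquiv.coe_toMonoidHom, MulAut.conj_apply]
        exact H.mul_mem (H.mul_mem hh (hP''H hx)) (H.inv_mem hh)
      have h3 := hP.2.2 _ h1 h2 (hP''.map _)
      apply le_antisymm _ hle
      intro x hx
      have h4 : h * x * h⁻¹ ∈ P := by
        rw [← h3]
        exact ⟨x, hx, by simp [MulAut.conj_apply]⟩
      refine ⟨h * x * h⁻¹, h4, ?_⟩
      simp only [MulEquiv.coe_toMonoidHom, MulAut.conj_apply, inv_inv]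
      group
  obtain ⟨x, hx, hxt⟩ := ht.2 _ hP'
  simp only [MulEquiv.coe_toMonoidHom, MulAut.conj_apply, inv_inv] at hxt
  rw [← hxt]
  have : h * (h⁻¹ * x * h) * h⁻¹ = x := by group
  rw [this]
  exact hx

end pcore

/-! ## Frames -/

/-- Two orthogonal hyperbolic pairs `(e, f)`, `(z, z')`. -/
structure Frame (Q : QuadraticForm F V) (e f z z' : V) : Prop where
  he : Q e = 0
  hf : Q f = 0
  hz : Q z = 0
  hz' : Q z' = 0
  hef : QuadraticMap.polar (⇑Q) e f = 1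
  hzz' : QuadraticMap.polar (⇑Q) z z' = 1
  hez : QuadraticMap.polar (⇑Q) e z = 0
  hez' : QuadraticMap.polar (⇑Q) e z' = 0
  hfz : QuadraticMap.polar (⇑Q) f z = 0
  hfz' : QuadraticMap.polar (⇑Q) f z' = 0

theorem exists_frame (hQ : (QuadraticMap.polarBilin Q).Nondegenerate) {e z z' : V} (he0 : e ≠ 0)
    (he : Q e = 0) (hz : Q z = 0) (hz' : Q z' = 0) (hez : QuadraticMap.polar (⇑Q) e z = 0)
    (hez' : QuadraticMap.polar (⇑Q) e z' = 0) (hzz' : QuadraticMap.polar (⇑Q) z z' = 1) :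
    ∃ f : V, Frame Q e f z z' := by
  obtain ⟨f0, hf0, hef0⟩ := exists_hyperbolic_partner Q hQ he0 he
  have hee : QuadraticMap.polar (⇑Q) e e = 0 := by rw [polar_self', he, mul_zero]
  have hzz : QuadraticMap.polar (⇑Q) z z = 0 := by rw [polar_self', hz, mul_zero]
  have hz'z' : QuadraticMap.polar (⇑Q) z' z' = 0 := by rw [polar_self', hz', mul_zero]
  have hz'z : QuadraticMap.polar (⇑Q) z' z = 1 := by rw [QuadraticMap.polar_comm, hzz']
  obtain ⟨f1, hf1⟩ : ∃ f1, f1 = f0 - QuadraticMap.polar (⇑Q) f0 z' • z -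
      QuadraticMap.polar (⇑Q) f0 z • z' := ⟨_, rfl⟩
  have h1 : QuadraticMap.polar (⇑Q) f1 z = 0 := by
    rw [hf1, QuadraticMap.polar_sub_left, QuadraticMap.polar_sub_left, QuadraticMap.polar_smul_left,
      QuadraticMap.polar_smul_left, hzz, hz'z]
    simp
  have h2 : QuadraticMap.polar (⇑Q) f1 z' = 0 := by
    rw [hf1, QuadraticMap.polar_sub_left, QuadraticMap.polar_sub_left, QuadraticMap.polar_smul_left,
      QuadraticMap.polar_smul_left, hzz', hz'z']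
    simp
  have h3 : QuadraticMap.polar (⇑Q) e f1 = 1 := by
    rw [hf1, QuadraticMap.polar_sub_right, QuadraticMap.polar_sub_right,
      QuadraticMap.polar_smul_right, QuadraticMap.polar_smul_right, hez, hez', hef0]
    simp
  refine ⟨f1 + (-Q f1) • e, ⟨he, ?_, hz, hz', ?_, hzz', hez, hez', ?_, ?_⟩⟩
  · rw [Cfsg.Agent.Lib.Helper95_OrthW.Q_add_smul, he, QuadraticMap.polar_comm, h3]
    ring
  · rw [QuadraticMap.polar_add_right, QuadraticMap.polar_smul_right, hee, h3]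
    simp
  · rw [QuadraticMap.polar_add_left, QuadraticMap.polar_smul_left, h1, hez]
    simp
  · rw [QuadraticMap.polar_add_left, QuadraticMap.polar_smul_left, h2, hez']
    simp

/-! ## The subgroup of isometries fixing `e` and fixing `z`, `z'` modulo `e` -/

variable (Q) in
/-- Isometries fixing `e` and fixing `z`, `z'` modulo `e`. -/
def S1 (e z z' : V) : Subgroup (V ≃ₗ[F] V) where
  carrier := {g | g ∈ oG (⇑Q) ∧ g e = e ∧ (∃ c : F, g z = z + c • e) ∧ ∃ c : F, g z' = z' + c • e}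
  mul_mem' := by
    rintro g h ⟨hg, hge, ⟨c1, hc1⟩, ⟨c2, hc2⟩⟩ ⟨hh, hhe, ⟨d1, hd1⟩, ⟨d2, hd2⟩⟩
    refine ⟨(oG (⇑Q)).mul_mem hg hh, ?_, ⟨c1 + d1, ?_⟩, ⟨c2 + d2, ?_⟩⟩
    · rw [LinearEquiv.mul_apply, hhe, hge]
    · rw [LinearEquiv.mul_apply, hd1, map_add, map_smul, hge, hc1, add_smul]; abel
    · rw [LinearEquiv.mul_apply, hd2, map_add, map_smul, hge, hc2, add_smul]; abel
  one_mem' := ⟨(oG (⇑Q)).one_mem, rfl, ⟨0, by simp⟩, ⟨0, by simp⟩⟩
  inv_mem' := by
    rintro g ⟨hg, hge, ⟨c1, hc1⟩, ⟨c2, hc2⟩⟩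
    have hie : g⁻¹ e = e := by
      conv_lhs => rw [← hge]
      exact inv_apply_apply' g e
    refine ⟨(oG (⇑Q)).inv_mem hg, hie, ⟨-c1, ?_⟩, ⟨-c2, ?_⟩⟩
    · have h1 : g⁻¹ (g z) = z := inv_apply_apply' g z
      rw [hc1, map_add, map_smul, hie] at h1
      rw [neg_smul]
      exact eq_add_neg_of_add_eq h1
    · have h1 : g⁻¹ (g z') = z' := inv_apply_apply' g z'
      rw [hc2, map_add, map_smul, hie] at h1
      rw [neg_smul]
      exact eq_add_neg_of_add_eq h1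

theorem mem_S1 {e z z' : V} {g : V ≃ₗ[F] V} : g ∈ S1 Q e z z' ↔
    g ∈ oG (⇑Q) ∧ g e = e ∧ (∃ c : F, g z = z + c • e) ∧ ∃ c : F, g z' = z' + c • e := Iff.rfl

/-- Elements of `S1` fixing `f` fix `z` and `z'`. -/
theorem fix_of_mem_S1 {e f z z' : V} (hF : Frame Q e f z z') {g : V ≃ₗ[F] V}
    (hg : g ∈ S1 Q e z z') (hgf : g f = f) : g z = z ∧ g z' = z' := by
  obtain ⟨hg0, hge, ⟨c1, hc1⟩, ⟨c2, hc2⟩⟩ := hg
  have hzf : QuadraticMap.polar (⇑Q) z f = 0 := by rw [QuadraticMap.polar_comm, hF.hfz]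
  have hz'f : QuadraticMap.polar (⇑Q) z' f = 0 := by rw [QuadraticMap.polar_comm, hF.hfz']
  constructor
  · have h1 : QuadraticMap.polar (⇑Q) (g z) (g f) = 0 := by rw [oG_polar Q hg0, hzf]
    rw [hgf, hc1, QuadraticMap.polar_add_left, QuadraticMap.polar_smul_left, hzf, hF.hef] at h1
    have : c1 = 0 := by simpa using h1
    rw [hc1, this, zero_smul, add_zero]
  · have h1 : QuadraticMap.polar (⇑Q) (g z') (g f) = 0 := by rw [oG_polar Q hg0, hz'f]
    rw [hgf, hc2, QuadraticMap.polar_add_left, QuadraticMap.polar_smul_left, hz'f, hF.hef] at h1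
    have : c2 = 0 := by simpa using h1
    rw [hc2, this, zero_smul, add_zero]

/-- Eichler elements `E(e, y)` lie in `S1`. -/
theorem A_le_S1 {e z z' : V} (he : Q e = 0) (hez : QuadraticMap.polar (⇑Q) e z = 0)
    (hez' : QuadraticMap.polar (⇑Q) e z' = 0) : A Q he ≤ S1 Q e z z' := by
  rintro g ⟨y, hy, rfl⟩
  have hee : QuadraticMap.polar (⇑Q) e e = 0 := by rw [polar_self', he, mul_zero]
  have hze : QuadraticMap.polar (⇑Q) z e = 0 := by rw [QuadraticMap.polar_comm, hez]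
  have hz'e : QuadraticMap.polar (⇑Q) z' e = 0 := by rw [QuadraticMap.polar_comm, hez']
  refine ⟨E_mem_oG Q he hy, E_apply_of_orth Q he hy hee hy, ⟨-QuadraticMap.polar (⇑Q) z y, ?_⟩,
    ⟨-QuadraticMap.polar (⇑Q) z' y, ?_⟩⟩
  · rw [E_apply Q he hy, hze]; module
  · rw [E_apply Q he hy, hz'e]; module

/-! ## The lift `N1` of `O_p(H)` -/

theorem eq_one_of_pow_char_pow {p : ℕ} [Fact p.Prime] [CharP F p] {b : F} {j : ℕ}
    (h : b ^ (p ^ j) = 1) : b = 1 := by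
  have h1 : (b - 1) ^ (p ^ j) = 0 := by rw [sub_pow_char_pow, h, one_pow, sub_self]
  exact sub_eq_zero.mp
    ((pow_eq_zero_iff (pow_ne_zero j (Fact.out : p.Prime).ne_zero)).mp h1)

/-- If `g` fixes `e`, maps `z` to `a • e + b • z` and has `p`-power order then `b = 1`. -/
theorem coeff_one {p : ℕ} [Fact p.Prime] [CharP F p] {g : V ≃ₗ[F] V} {e z : V} {a b : F} {j : ℕ}
    (hge : g e = e) (hgz : g z = a • e + b • z) (hj : g ^ (p ^ j) = 1)
    (hze : z ∉ Submodule.span F {e}) : b = 1 := by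
  have key : ∀ m : ℕ, ∃ c : F, (g ^ m) z = c • e + b ^ m • z := by
    intro m
    induction m with
    | zero => exact ⟨0, by simp⟩
    | succ m ih =>
      obtain ⟨c, hc⟩ := ih
      refine ⟨c + b ^ m * a, ?_⟩
      rw [pow_succ', LinearEquiv.mul_apply, hc, map_add, map_smul, map_smul, hge, hgz, pow_succ]
      module
  obtain ⟨c, hc⟩ := key (p ^ j)
  rw [hj] at hc
  apply eq_one_of_pow_char_pow (p := p) (j := j)
  by_contra hne
  apply hze
  rw [Submodule.mem_span_singleton]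
  refine ⟨c / (1 - b ^ (p ^ j)), ?_⟩
  have h1 : (1 - b ^ (p ^ j)) • z = c • e := by
    have h2 : z = c • e + b ^ (p ^ j) • z := hc
    rw [sub_smul, one_smul]
    exact sub_eq_of_eq_add h2
  have h3 : 1 - b ^ (p ^ j) ≠ 0 := fun h => hne (sub_eq_zero.mp h).symm
  rw [div_eq_inv_mul, ← smul_smul, ← h1, smul_smul, inv_mul_cancel₀ h3, one_smul]

section N1

variable [Finite F] [FiniteDimensional F V] {𝔾 : Type*} [Group 𝔾]

variable (Q) in
/-- The elements of `T Q` fixing `e` whose image lies in `O`. -/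
def N1 (mk : ↥(T Q) →* 𝔾) (O : Subgroup 𝔾) (e : V) : Subgroup (V ≃ₗ[F] V) where
  carrier := {g | g ∈ T Q ∧ mkT Q mk g ∈ O ∧ g e = e}
  mul_mem' := by
    rintro g h ⟨hg, hgO, hge⟩ ⟨hh, hhO, hhe⟩
    refine ⟨(T Q).mul_mem hg hh, ?_, ?_⟩
    · rw [mkT_mul mk hg hh]; exact O.mul_mem hgO hhO
    · rw [LinearEquiv.mul_apply, hhe, hge]
  one_mem' := ⟨(T Q).one_mem, by rw [mkT_one]; exact O.one_mem, rfl⟩
  inv_mem' := by
    rintro g ⟨hg, hgO, hge⟩
    refine ⟨(T Q).inv_mem hg, by rw [mkT_inv mk hg]; exact O.inv_mem hgO, ?_⟩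
    conv_lhs => rw [← hge]
    exact inv_apply_apply' g e

omit [Finite F] [FiniteDimensional F V] in
theorem mem_N1 {mk : ↥(T Q) →* 𝔾} {O : Subgroup 𝔾} {e : V} {g : V ≃ₗ[F] V} :
    g ∈ N1 Q mk O e ↔ g ∈ T Q ∧ mkT Q mk g ∈ O ∧ g e = e := Iff.rfl

/-- A `p`-power of an element of `T Q` with image of `p`-power order is a scalar. -/
theorem exists_pow_scalar {p : ℕ} (hQ : (QuadraticMap.polarBilin Q).Nondegenerate)
    (hdim : 5 ≤ finrank F V) (mk : ↥(T Q) →* 𝔾) (hker : mk.ker = Subgroup.center ↥(T Q))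
    {O : Subgroup 𝔾} (hO : IsPGroup p ↥O) {g : V ≃ₗ[F] V} (hg : g ∈ T Q) (hgO : mkT Q mk g ∈ O) :
    ∃ (j : ℕ) (l : F), (mkT Q mk g) ^ (p ^ j) = 1 ∧ ∀ x, (g ^ (p ^ j)) x = l • x := by
  obtain ⟨j, hj⟩ := hO ⟨mkT Q mk g, hgO⟩
  have hj' : (mkT Q mk g) ^ (p ^ j) = 1 := by
    have := congrArg Subtype.val hj
    rwa [Subgroup.coe_pow, Subgroup.coe_one] at this
  have hj'' := hj'
  rw [mkT_of_mem mk hg, ← map_pow] at hj''
  have hc : (⟨g, hg⟩ : ↥(T Q)) ^ (p ^ j) ∈ Subgroup.center ↥(T Q) := by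
    rw [← hker]; exact hj''
  obtain ⟨l, hl⟩ := center_scalar Q hQ hdim hc
  refine ⟨j, l, hj', ?_⟩
  intro x
  have := hl x
  rwa [Subgroup.coe_pow] at this

theorem isPGroup_N1 {p : ℕ} (hQ : (QuadraticMap.polarBilin Q).Nondegenerate)
    (hdim : 5 ≤ finrank F V) (mk : ↥(T Q) →* 𝔾) (hker : mk.ker = Subgroup.center ↥(T Q))
    {O : Subgroup 𝔾} (hO : IsPGroup p ↥O) {e : V} (he0 : e ≠ 0) : IsPGroup p ↥(N1 Q mk O e) := by
  rintro ⟨g, hg, hgO, hge⟩
  obtain ⟨j, l, -, hl⟩ := exists_pow_scalar hQ hdim mk hker hO hg hgO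
  have hfix : (g ^ (p ^ j)) e = e := by
    rw [LinearEquiv.pow_apply]; exact Function.iterate_fixed hge _
  have hl1 : l = 1 := by
    have h1 := hl e
    rw [hfix] at h1
    have h2 : (l - 1) • e = 0 := by rw [sub_smul, ← h1, one_smul, sub_self]
    rcases smul_eq_zero.mp h2 with h3 | h3
    · exact sub_eq_zero.mp h3
    · exact absurd h3 he0
  refine ⟨j, Subtype.ext ?_⟩
  rw [Subgroup.coe_pow, Subgroup.coe_one]
  ext x
  rw [hl x, hl1, one_smul]
  rfl

omit [Finite F] [FiniteDimensional F V] in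
theorem conj_mem_N1 (mk : ↥(T Q) →* 𝔾) {O H : Subgroup 𝔾}
    (hnorm : ∀ h ∈ H, ∀ t ∈ O, h * t * h⁻¹ ∈ O) {e : V} {g c : V ≃ₗ[F] V}
    (hg : g ∈ N1 Q mk O e) (hc : c ∈ T Q) (hcH : mkT Q mk c ∈ H) (hce : c e = e) :
    c * g * c⁻¹ ∈ N1 Q mk O e := by
  obtain ⟨hgT, hgO, hge⟩ := hg
  have hie : c⁻¹ e = e := by
    conv_lhs => rw [← hce]
    exact inv_apply_apply' c e
  refine ⟨(T Q).mul_mem ((T Q).mul_mem hc hgT) ((T Q).inv_mem hc), ?_, ?_⟩
  · rw [mkT_mul mk ((T Q).mul_mem hc hgT) ((T Q).inv_mem hc), mkT_mul mk hc hgT, mkT_inv mk hc]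
    exact hnorm _ hcH _ hgO
  · rw [LinearEquiv.mul_apply, LinearEquiv.mul_apply, hie, hge, hce]

omit [Finite F] in
/-- An isometry commuting with `E(e, z)` and `E(e, z')`, `B(z, z') ≠ 0`, stabilises the point `⟨e⟩`. -/
theorem map_point (hQ : (QuadraticMap.polarBilin Q).Nondegenerate) {g : V ≃ₗ[F] V}
    (hg : g ∈ oG (⇑Q)) {e z z' : V} (h : TSLine Q e z) (h' : TSLine Q e z')
    (hzz' : QuadraticMap.polar (⇑Q) z z' ≠ 0) (hc : g * E Q e z = E Q e z * g)
    (hc' : g * E Q e z' = E Q e z' * g) : ∃ k : F, g e = k • e := by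
  obtain ⟨a, b, hab⟩ := Submodule.mem_span_pair.mp (map_mem_span_of_comm Q hQ hg h hc).1
  obtain ⟨a', b', hab'⟩ := Submodule.mem_span_pair.mp (map_mem_span_of_comm Q hQ hg h' hc').1
  have hz'z' : QuadraticMap.polar (⇑Q) z' z' = 0 := by rw [polar_self', h'.2.1, mul_zero]
  have h1 : QuadraticMap.polar (⇑Q) (g e) z' = b * QuadraticMap.polar (⇑Q) z z' := by
    rw [← hab, QuadraticMap.polar_add_left, QuadraticMap.polar_smul_left,
      QuadraticMap.polar_smul_left, h'.2.2.1]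
    simp
  have h2 : QuadraticMap.polar (⇑Q) (g e) z' = 0 := by
    rw [← hab', QuadraticMap.polar_add_left, QuadraticMap.polar_smul_left,
      QuadraticMap.polar_smul_left, h'.2.2.1, hz'z']
    simp
  rw [h2] at h1
  have hb : b = 0 := by
    rcases mul_eq_zero.mp h1.symm with h3 | h3
    · exact h3
    · exact absurd h3 hzz'
  refine ⟨a, ?_⟩
  rw [← hab, hb, zero_smul, add_zero]

theorem N1_le_S1 {p : ℕ} [Fact p.Prime] [CharP F p]
    (hQ : (QuadraticMap.polarBilin Q).Nondegenerate)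
    (hdim : 5 ≤ finrank F V) (mk : ↥(T Q) →* 𝔾) (hker : mk.ker = Subgroup.center ↥(T Q))
    {O : Subgroup 𝔾} (hO : IsPGroup p ↥O) {e z z' : V} (h : TSLine Q e z) (h' : TSLine Q e z')
    (hOH : O ≤ Subgroup.centralizer (rootSet mk e z ∪ rootSet mk e z')) :
    N1 Q mk O e ≤ S1 Q e z z' := by
  intro g hg
  obtain ⟨j, hj⟩ := isPGroup_N1 hQ hdim mk hker hO h.2.2.2.1 ⟨g, hg⟩
  have hj' : g ^ (p ^ j) = 1 := by
    have := congrArg Subtype.val hj
    rwa [Subgroup.coe_pow, Subgroup.coe_one] at this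
  obtain ⟨hgT, hgO, hge⟩ := hg
  have hgH := hOH hgO
  have hgo := T_le_oG Q hgT
  have hc : g * E Q e z = E Q e z * g := by
    apply comm_of_mkT_comm Q hQ hdim mk hker hgT h.1 h.2.2.1
    exact (Subgroup.mem_centralizer_iff.mp hgH (mkT Q mk (E Q e z))
      (Or.inl ⟨1, by rw [one_smul]⟩)).symm
  have hc' : g * E Q e z' = E Q e z' * g := by
    apply comm_of_mkT_comm Q hQ hdim mk hker hgT h'.1 h'.2.2.1
    exact (Subgroup.mem_centralizer_iff.mp hgH (mkT Q mk (E Q e z'))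
      (Or.inr ⟨1, by rw [one_smul]⟩)).symm
  obtain ⟨a, b, hab⟩ := Submodule.mem_span_pair.mp (map_mem_span_of_comm Q hQ hgo h hc).2
  obtain ⟨a', b', hab'⟩ := Submodule.mem_span_pair.mp (map_mem_span_of_comm Q hQ hgo h' hc').2
  have hb : b = 1 := coeff_one (p := p) hge hab.symm hj' h.2.2.2.2
  have hb' : b' = 1 := coeff_one (p := p) hge hab'.symm hj' h'.2.2.2.2
  refine ⟨hgo, hge, ⟨a, ?_⟩, ⟨a', ?_⟩⟩
  · rw [← hab, hb, one_smul, add_comm]
  · rw [← hab', hb', one_smul, add_comm]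

omit [Finite F] [FiniteDimensional F V] in
theorem mkT_pow (mk : ↥(T Q) →* 𝔾) {g : V ≃ₗ[F] V} (hg : g ∈ T Q) (m : ℕ) :
    mkT Q mk (g ^ m) = (mkT Q mk g) ^ m := by
  rw [mkT_of_mem mk hg, mkT_of_mem mk ((T Q).pow_mem hg m), ← map_pow]
  rfl

/-- Every element of `O` has a lift fixing `e`. -/
theorem exists_lift {p : ℕ} [Fact p.Prime] [CharP F p]
    (hQ : (QuadraticMap.polarBilin Q).Nondegenerate)
    (hdim : 5 ≤ finrank F V) (mk : ↥(T Q) →* 𝔾) (hsurj : Function.Surjective mk)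
    (hker : mk.ker = Subgroup.center ↥(T Q))
    {O : Subgroup 𝔾} (hO : IsPGroup p ↥O) {e z z' : V} (h : TSLine Q e z) (h' : TSLine Q e z')
    (hzz' : QuadraticMap.polar (⇑Q) z z' ≠ 0)
    (hOH : O ≤ Subgroup.centralizer (rootSet mk e z ∪ rootSet mk e z')) {t : 𝔾} (ht : t ∈ O) :
    ∃ g ∈ N1 Q mk O e, mkT Q mk g = t := by
  obtain ⟨g0, rfl⟩ := hsurj t
  obtain ⟨g, hg⟩ : ∃ g : V ≃ₗ[F] V, g = (g0 : V ≃ₗ[F] V) := ⟨_, rfl⟩
  have hgT : g ∈ T Q := hg ▸ g0.2
  have hmk : mkT Q mk g = mk g0 := by rw [hg, mkT_coe]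
  have hgO : mkT Q mk g ∈ O := by rw [hmk]; exact ht
  have hgH := hOH hgO
  have hgo := T_le_oG Q hgT
  have he0 := h.2.2.2.1
  have hc : g * E Q e z = E Q e z * g := by
    apply comm_of_mkT_comm Q hQ hdim mk hker hgT h.1 h.2.2.1
    exact (Subgroup.mem_centralizer_iff.mp hgH (mkT Q mk (E Q e z))
      (Or.inl ⟨1, by rw [one_smul]⟩)).symm
  have hc' : g * E Q e z' = E Q e z' * g := by
    apply comm_of_mkT_comm Q hQ hdim mk hker hgT h'.1 h'.2.2.1
    exact (Subgroup.mem_centralizer_iff.mp hgH (mkT Q mk (E Q e z'))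
      (Or.inr ⟨1, by rw [one_smul]⟩)).symm
  obtain ⟨k, hk⟩ := map_point hQ hgo h h' hzz' hc hc'
  obtain ⟨j, l, hj1, hl⟩ := exists_pow_scalar hQ hdim mk hker hO hgT hgO
  have hpow : ∀ m : ℕ, (g ^ m) e = k ^ m • e := by
    intro m
    induction m with
    | zero => simp
    | succ m ih => rw [pow_succ, LinearEquiv.mul_apply, hk, map_smul, ih, smul_smul, pow_succ,
        mul_comm]
  have hkl : k ^ (p ^ j) = l := by
    have h1 := hl e
    rw [hpow] at h1
    have h2 : (k ^ (p ^ j) - l) • e = 0 := by rw [sub_smul, h1, sub_self]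
    rcases smul_eq_zero.mp h2 with h3 | h3
    · exact sub_eq_zero.mp h3
    · exact absurd h3 he0
  obtain ⟨f, hf, hef⟩ := exists_hyperbolic_partner Q hQ he0 h.1
  have hll : l * l = 1 := by
    have h1 := oG_polar Q ((oG (⇑Q)).pow_mem hgo (p ^ j)) e f
    rw [hl e, hl f, QuadraticMap.polar_smul_left, QuadraticMap.polar_smul_right, hef] at h1
    simpa using h1
  have hkk : k * k = 1 := by
    apply eq_one_of_pow_char_pow (p := p) (j := j)
    rw [mul_pow, hkl, hll]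
  rcases mul_self_eq_one_iff.mp hkk with hk1 | hk1
  · refine ⟨g, ⟨hgT, hgO, ?_⟩, hmk⟩
    rw [hk, hk1, one_smul]
  · have hl1 : l = -1 := by rw [← hkl, hk1, neg_one_pow_char_pow]
    have hgpT : g ^ (p ^ j) ∈ T Q := (T Q).pow_mem hgT _
    refine ⟨g ^ (p ^ j) * g, ⟨(T Q).mul_mem hgpT hgT, ?_, ?_⟩, ?_⟩
    · rw [mkT_mul mk hgpT hgT, mkT_pow mk hgT, hj1, one_mul]; exact hgO
    · rw [LinearEquiv.mul_apply, hk, map_smul, hl e, hk1, hl1]
      simp
    · rw [mkT_mul mk hgpT hgT, mkT_pow mk hgT, hj1, one_mul, hmk]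

end N1

/-! ## The vectors fixed modulo `e` by a group -/

/-- The vectors `x` with `g x - x ∈ ⟨e⟩` for all `g ∈ N`. -/
def fixMod (N : Subgroup (V ≃ₗ[F] V)) (e : V) : Submodule F V where
  carrier := {x | ∀ g ∈ N, ∃ c : F, g x = x + c • e}
  add_mem' := by
    intro x y hx hy g hg
    obtain ⟨c, hc⟩ := hx g hg
    obtain ⟨d, hd⟩ := hy g hg
    exact ⟨c + d, by rw [map_add, hc, hd, add_smul]; abel⟩
  zero_mem' := fun g _ => ⟨0, by simp⟩
  smul_mem' := by
    intro k x hx g hg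
    obtain ⟨c, hc⟩ := hx g hg
    exact ⟨k * c, by rw [map_smul, hc, smul_add, smul_smul]⟩

theorem mem_fixMod {N : Subgroup (V ≃ₗ[F] V)} {e x : V} :
    x ∈ fixMod N e ↔ ∀ g ∈ N, ∃ c : F, g x = x + c • e := Iff.rfl

/-- A lower bound for the dimension of a subspace containing the orthogonal complement of a finite set. -/
theorem finrank_orth_finset [FiniteDimensional F V] [DecidableEq V]
    (hQ : (QuadraticMap.polarBilin Q).Nondegenerate)
    (S : Finset V) (K : Submodule F V)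
    (hK : ∀ x : V, (∀ y ∈ S, QuadraticMap.polar (⇑Q) x y = 0) → x ∈ K) :
    finrank F V - S.card ≤ finrank F K := by
  obtain ⟨W, hW⟩ : ∃ W, W = Submodule.span F (S : Set V) := ⟨_, rfl⟩
  have hWle : finrank F W ≤ S.card := by
    rw [hW]; exact finrank_span_finset_le_card (R := F) S
  have hfr : finrank F (LinearMap.BilinForm.orthogonal (QuadraticMap.polarBilin Q) W) =
      finrank F V - finrank F W := LinearMap.BilinForm.finrank_orthogonal hQ W
  have hle : LinearMap.BilinForm.orthogonal (QuadraticMap.polarBilin Q) W ≤ K := by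
    intro x hx
    rw [LinearMap.BilinForm.mem_orthogonal_iff] at hx
    apply hK
    intro y hy
    have := hx y (hW ▸ Submodule.subset_span hy)
    rwa [QuadraticMap.polarBilin_apply_apply, QuadraticMap.polar_comm] at this
  have := Submodule.finrank_mono hle
  omega

section main

variable [Finite F] [FiniteDimensional F V] {𝔾 : Type*} [Group 𝔾]

/-- Eichler elements `E(a, x)` with `a, x ⊥ e, z, z'` centralise the two root groups and fix `e`. -/
theorem E_mem_CT (hQ : (QuadraticMap.polarBilin Q).Nondegenerate) (hdim : 5 ≤ finrank F V)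
    (mk : ↥(T Q) →* 𝔾) {e z z' a x : V} (he : Q e = 0) (hz : Q z = 0) (hz' : Q z' = 0)
    (hez : QuadraticMap.polar (⇑Q) e z = 0) (hez' : QuadraticMap.polar (⇑Q) e z' = 0)
    (ha : Q a = 0) (hax : QuadraticMap.polar (⇑Q) a x = 0)
    (hae : QuadraticMap.polar (⇑Q) a e = 0) (haz : QuadraticMap.polar (⇑Q) a z = 0)
    (haz' : QuadraticMap.polar (⇑Q) a z' = 0) (hxe : QuadraticMap.polar (⇑Q) x e = 0)
    (hxz : QuadraticMap.polar (⇑Q) x z = 0) (hxz' : QuadraticMap.polar (⇑Q) x z' = 0) :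
    E Q a x ∈ T Q ∧
      mkT Q mk (E Q a x) ∈ Subgroup.centralizer (rootSet mk e z ∪ rootSet mk e z') ∧
      E Q a x e = e := by
  have hET : E Q a x ∈ T Q := E_mem_T Q hQ hdim ha hax
  have hEo := E_mem_oG Q ha hax
  have hfe : E Q a x e = e := E_apply_of_orth Q ha hax
    (by rw [QuadraticMap.polar_comm, hae]) (by rw [QuadraticMap.polar_comm, hxe])
  have hfz : E Q a x z = z := E_apply_of_orth Q ha hax
    (by rw [QuadraticMap.polar_comm, haz]) (by rw [QuadraticMap.polar_comm, hxz])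
  have hfz' : E Q a x z' = z' := E_apply_of_orth Q ha hax
    (by rw [QuadraticMap.polar_comm, haz']) (by rw [QuadraticMap.polar_comm, hxz'])
  refine ⟨hET, ?_, hfe⟩
  rw [Subgroup.mem_centralizer_iff]
  have key : ∀ w : V, Q w = 0 → QuadraticMap.polar (⇑Q) e w = 0 → E Q a x w = w → ∀ c : F,
      mkT Q mk (E Q e (c • w)) * mkT Q mk (E Q a x) =
        mkT Q mk (E Q a x) * mkT Q mk (E Q e (c • w)) := by
    intro w hw hew hfw c
    have hcw : Q (c • w) = 0 := by rw [QuadraticMap.map_smul, hw, smul_zero]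
    have hecw : QuadraticMap.polar (⇑Q) e (c • w) = 0 := by
      rw [QuadraticMap.polar_smul_right, hew, smul_zero]
    have hE2 : E Q e (c • w) ∈ T Q := root_mem_T Q he hcw hecw
    rw [← mkT_mul mk hE2 hET, ← mkT_mul mk hET hE2]
    congr 1
    have h5 := conj_E Q hEo he hecw
    rw [hfe, map_smul, hfw] at h5
    exact (mul_inv_eq_iff_eq_mul.mp h5).symm
  rintro y (⟨c, rfl⟩ | ⟨c, rfl⟩)
  · exact key z hz hez hfz c
  · exact key z' hz' hez' hfz' c

/-- Elements of `N1` induce the identity on `e^⊥ / e`. -/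
theorem N1_trivial {p : ℕ} [Fact p.Prime] [CharP F p] (hH : Hyp Q) (mk : ↥(T Q) →* 𝔾)
    (hker : mk.ker = Subgroup.center ↥(T Q)) {e f z z' : V} (hF : Frame Q e f z z')
    (he0 : e ≠ 0) (hze : z ∉ Submodule.span F {e}) (hz'e : z' ∉ Submodule.span F {e})
    {O : Subgroup 𝔾} (hO : IsPGroup p ↥O)
    (hOH : O ≤ Subgroup.centralizer (rootSet mk e z ∪ rootSet mk e z'))
    (hnorm : ∀ h ∈ Subgroup.centralizer (rootSet mk e z ∪ rootSet mk e z'), ∀ t ∈ O,
      h * t * h⁻¹ ∈ O) :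
    ∀ g ∈ N1 Q mk O e, ∀ x, QuadraticMap.polar (⇑Q) x e = 0 → ∃ c : F, g x = x + c • e := by
  classical
  have hQ := hH.nd
  have hdim7 := hH.dim
  have hdim : 5 ≤ finrank F V := by omega
  obtain ⟨he, hf, hz, hz', hef, hzz', hez, hez', hfz, hfz'⟩ := hF
  have hF : Frame Q e f z z' := ⟨he, hf, hz, hz', hef, hzz', hez, hez', hfz, hfz'⟩
  have hT : TSLine Q e z := ⟨he, hz, hez, he0, hze⟩
  have hT' : TSLine Q e z' := ⟨he, hz', hez', he0, hz'e⟩
  have hee : QuadraticMap.polar (⇑Q) e e = 0 := by rw [polar_self', he, mul_zero]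
  have hfe : QuadraticMap.polar (⇑Q) f e = 1 := by rw [QuadraticMap.polar_comm, hef]
  have hze' : QuadraticMap.polar (⇑Q) z e = 0 := by rw [QuadraticMap.polar_comm, hez]
  have hz'e' : QuadraticMap.polar (⇑Q) z' e = 0 := by rw [QuadraticMap.polar_comm, hez']
  have hzf : QuadraticMap.polar (⇑Q) z f = 0 := by rw [QuadraticMap.polar_comm, hfz]
  have hz'f : QuadraticMap.polar (⇑Q) z' f = 0 := by rw [QuadraticMap.polar_comm, hfz']
  obtain ⟨N, hNdef⟩ : ∃ N, N = N1 Q mk O e := ⟨_, rfl⟩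
  rw [← hNdef]
  have hNp : IsPGroup p ↥N := hNdef ▸ isPGroup_N1 hQ hdim mk hker hO he0
  have hNS : N ≤ S1 Q e z z' := hNdef ▸ N1_le_S1 hQ hdim mk hker hO hT hT' hOH
  have hRS : A Q he ≤ S1 Q e z z' := A_le_S1 he hez hez'
  have hRp : IsPGroup p ↥(A Q he) := isPGroup_A he
  -- `N` normalises `R`
  have hconjR : ∀ g ∈ N, ∀ r ∈ A Q he, g * r * g⁻¹ ∈ A Q he := by
    rintro g hg _ ⟨y, hy, rfl⟩
    obtain ⟨hgo, hge, -, -⟩ := hNS hg
    refine ⟨g y, ?_, ?_⟩
    · conv_lhs => rw [← hge]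
      rw [oG_polar Q hgo, hy]
    · rw [conj_E Q hgo he hy, hge]
  have hNR : N ≤ Subgroup.normalizer ((A Q he : Subgroup (V ≃ₗ[F] V)) : Set (V ≃ₗ[F] V)) := by
    intro g hg
    rw [Subgroup.mem_normalizer_iff]
    intro r
    constructor
    · exact hconjR g hg r
    · intro hr
      have h5 := hconjR g⁻¹ (N.inv_mem hg) _ hr
      have h6 : g⁻¹ * (g * r * g⁻¹) * g⁻¹⁻¹ = r := by group
      rwa [h6] at h5
  have hJp : IsPGroup p ↥(N ⊔ A Q he) := IsPGroup.to_sup_of_normal_right' hNp hRp hNR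
  have hJS : N ⊔ A Q he ≤ S1 Q e z z' := sup_le hNS hRS
  obtain ⟨P', hP'⟩ : ∃ P' : Subgroup (V ≃ₗ[F] V),
    P' = (N ⊔ A Q he) ⊓ MulAction.stabilizer (V ≃ₗ[F] V) f := ⟨_, rfl⟩
  have hP'p : IsPGroup p ↥P' := by rw [hP']; exact hJp.to_le inf_le_left
  have hP'S : ∀ g ∈ P', g ∈ S1 Q e z z' ∧ g f = f := by
    intro g hg
    rw [hP'] at hg
    exact ⟨hJS hg.1, MulAction.mem_stabilizer_iff.mp hg.2⟩
  have hP'O : P' ≤ oG (⇑Q) := fun g hg => (hP'S g hg).1.1
  -- `W'`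
  obtain ⟨W', hW'⟩ : ∃ W', W' = Wp Q e f ⊓ Wp Q z z' := ⟨_, rfl⟩
  have hmemW' : ∀ x : V, x ∈ W' ↔ QuadraticMap.polar (⇑Q) x e = 0 ∧
      QuadraticMap.polar (⇑Q) x f = 0 ∧ QuadraticMap.polar (⇑Q) x z = 0 ∧
      QuadraticMap.polar (⇑Q) x z' = 0 := by
    intro x
    rw [hW', Submodule.mem_inf, mem_Wp, mem_Wp]
    tauto
  have hzW : z ∈ Wp Q e f := mem_Wp.mpr ⟨hze', hzf⟩
  have hz'W : z' ∈ Wp Q e f := mem_Wp.mpr ⟨hz'e', hz'f⟩
  have hW'nd : NDOn Q W' := hW' ▸ ndOn_inf_Wp (ndOn_Wp hQ he hf hef) hzW hz'W hz hz' hzz'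
  have hW'3 : 3 ≤ finrank F W' := by
    have h1 := finrank_orth_finset hQ ({e, f, z, z'} : Finset V) W' (by
      intro x hx
      rw [hmemW']
      exact ⟨hx e (by simp), hx f (by simp), hx z (by simp), hx z' (by simp)⟩)
    have h2 : ({e, f, z, z'} : Finset V).card ≤ 4 := Finset.card_le_four
    omega
  have hinv : ∀ g ∈ P', ∀ x ∈ W', g x ∈ W' := by
    intro g hg x hx
    obtain ⟨hgS, hgf⟩ := hP'S g hg
    obtain ⟨hgz, hgz'⟩ := fix_of_mem_S1 hF hgS hgf
    obtain ⟨hgo, hge, -, -⟩ := hgS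
    rw [hmemW'] at hx ⊢
    refine ⟨?_, ?_, ?_, ?_⟩
    · conv_lhs => rw [← hge]
      rw [oG_polar Q hgo, hx.1]
    · conv_lhs => rw [← hgf]
      rw [oG_polar Q hgo, hx.2.1]
    · conv_lhs => rw [← hgz]
      rw [oG_polar Q hgo, hx.2.2.1]
    · conv_lhs => rw [← hgz']
      rw [oG_polar Q hgo, hx.2.2.2]
  obtain ⟨u, huW, hu0, hQu, hufix⟩ :=
    Cfsg.Agent.Lib.Helper50_OrthPA0.exists_fixed_singular W' hW'nd hW'3 P' hP'O hP'p hinv
  have huW' := (hmemW' u).mp huW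
  -- elements of `N` fix `u` modulo `e`
  have hNu : ∀ g ∈ N, ∃ c : F, g u = u + c • e := by
    intro g hg
    obtain ⟨hgo, hge, -, -⟩ := hNS hg
    obtain ⟨h1, h2⟩ := E_partner hgo he hf hef hge
    have hEy : E Q e (g f - f) ∈ A Q he := ⟨g f - f, h1, rfl⟩
    have hg1 : (E Q e (g f - f))⁻¹ * g ∈ P' := by
      rw [hP']
      refine ⟨(N ⊔ A Q he).mul_mem ((N ⊔ A Q he).inv_mem ((le_sup_right : A Q he ≤ N ⊔ A Q he) hEy))
        ((le_sup_left : N ≤ N ⊔ A Q he) hg), ?_⟩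
      apply MulAction.mem_stabilizer_iff.mpr
      show ((E Q e (g f - f))⁻¹ * g) f = f
      rw [LinearEquiv.mul_apply]
      have h5 : (E Q e (g f - f))⁻¹ (E Q e (g f - f) f) = (E Q e (g f - f))⁻¹ (g f) := by
        rw [h2]
      rw [inv_apply_apply'] at h5
      exact h5.symm
    have h3 := hufix _ hg1
    have h4 : g u = E Q e (g f - f) u := by
      have := congrArg (E Q e (g f - f)) h3
      rwa [LinearEquiv.mul_apply, apply_inv_apply'] at this
    rw [h4, E_apply Q he h1, huW'.1]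
    exact ⟨-QuadraticMap.polar (⇑Q) u (g f - f), by module⟩
  -- the fixed space
  obtain ⟨Y, hY⟩ : ∃ Y, Y = fixMod N e := ⟨_, rfl⟩
  have hmemY : ∀ x : V, x ∈ Y ↔ ∀ g ∈ N, ∃ c : F, g x = x + c • e := by
    intro x; rw [hY]; exact mem_fixMod
  have heY : e ∈ Y := (hmemY e).mpr fun g hg => ⟨0, by rw [(hNS hg).2.1]; simp⟩
  have hzY : z ∈ Y := (hmemY z).mpr fun g hg => (hNS hg).2.2.1
  have hz'Y : z' ∈ Y := (hmemY z').mpr fun g hg => (hNS hg).2.2.2
  have huY : u ∈ Y := (hmemY u).mpr hNu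
  have hYinv : ∀ c₀ : V ≃ₗ[F] V, c₀ ∈ T Q →
      mkT Q mk c₀ ∈ Subgroup.centralizer (rootSet mk e z ∪ rootSet mk e z') → c₀ e = e →
      ∀ x ∈ Y, c₀ x ∈ Y := by
    intro c₀ hcT hcH hce x hx
    rw [hmemY] at hx ⊢
    intro g hg
    have hie : c₀⁻¹ e = e := by
      conv_lhs => rw [← hce]
      exact inv_apply_apply' c₀ e
    have h1 : c₀⁻¹ * g * c₀⁻¹⁻¹ ∈ N := by
      rw [hNdef] at hg ⊢
      apply conj_mem_N1 mk hnorm hg ((T Q).inv_mem hcT) _ hie
      rw [mkT_inv mk hcT]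
      exact Subgroup.inv_mem _ hcH
    rw [inv_inv] at h1
    obtain ⟨c, hc⟩ := hx _ h1
    refine ⟨c, ?_⟩
    have h2 : g (c₀ x) = c₀ ((c₀⁻¹ * g * c₀) x) := by
      rw [LinearEquiv.mul_apply, LinearEquiv.mul_apply, apply_inv_apply']
    rw [h2, hc, map_add, map_smul, hce]
  -- a partner of `u` inside `W'`
  obtain ⟨a, haW, hQa, hua⟩ := exists_partner hW'nd huW hu0 hQu
  have haW' := (hmemW' a).mp haW
  have hau : QuadraticMap.polar (⇑Q) a u = 1 := by rw [QuadraticMap.polar_comm, hua]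
  obtain ⟨D, hD⟩ : ∃ D, D = W' ⊓ Wp Q u a := ⟨_, rfl⟩
  have hDnd : NDOn Q D := hD ▸ ndOn_inf_Wp hW'nd huW haW hQu hQa hua
  have hmemD : ∀ x : V, x ∈ D ↔ x ∈ W' ∧ QuadraticMap.polar (⇑Q) x u = 0 ∧
      QuadraticMap.polar (⇑Q) x a = 0 := by
    intro x
    rw [hD, Submodule.mem_inf, mem_Wp]
  have hD1 : 1 ≤ finrank F D := by
    have h1 := finrank_orth_finset hQ ({e, f, z, z', u, a} : Finset V) D (by
      intro x hx
      rw [hmemD, hmemW']
      exact ⟨⟨hx e (by simp), hx f (by simp), hx z (by simp), hx z' (by simp)⟩,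
        hx u (by simp), hx a (by simp)⟩)
    have h2 : ({e, f, z, z', u, a} : Finset V).card ≤ 6 := Finset.card_le_six
    omega
  -- `x - Q x • a ∈ Y` for `x ∈ D`
  have hDY1 : ∀ x ∈ D, x - Q x • a ∈ Y := by
    intro x hx
    obtain ⟨hxW, hxu, hxa⟩ := (hmemD x).mp hx
    have hxW' := (hmemW' x).mp hxW
    have hax : QuadraticMap.polar (⇑Q) a x = 0 := by rw [QuadraticMap.polar_comm, hxa]
    obtain ⟨hcT, hcH, hce⟩ := E_mem_CT hQ hdim mk he hz hz' hez hez' hQa hax haW'.1 haW'.2.2.1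
      haW'.2.2.2 hxW'.1 hxW'.2.2.1 hxW'.2.2.2
    have h1 := hYinv _ hcT hcH hce u huY
    rw [E_apply Q hQa hax, hua, QuadraticMap.polar_comm (⇑Q) u x, hxu] at h1
    have h2 : x - Q x • a = (u + (1 : F) • x - (0 : F) • a - (Q x * 1) • a) - u := by
      module
    rw [h2]
    exact Y.sub_mem h1 huY
  -- `a ∈ Y`
  have haY : a ∈ Y := by
    obtain ⟨x0, hx0⟩ := (Module.finrank_pos_iff_exists_ne_zero).mp (by omega : 0 < finrank F D)
    have hx0D : (x0 : V) ∈ D := x0.2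
    have hx00 : (x0 : V) ≠ 0 := fun h => hx0 (Subtype.ext h)
    have hex : ∃ x1 ∈ D, QuadraticMap.polar (⇑Q) (x0 : V) x1 ≠ 0 := by
      by_contra hcon
      push Not at hcon
      exact hx00 (hDnd _ hx0D hcon)
    obtain ⟨x1, hx1D, hx01⟩ := hex
    have h1 := hDY1 _ hx0D
    have h2 := hDY1 _ hx1D
    have h3 := hDY1 _ (D.add_mem hx0D hx1D)
    have h4 : QuadraticMap.polar (⇑Q) (x0 : V) x1 • a =
        ((x0 : V) - Q (x0 : V) • a) + (x1 - Q x1 • a) -
          (((x0 : V) + x1) - Q ((x0 : V) + x1) • a) := by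
      rw [QuadraticMap.polar]
      module
    have h5 : QuadraticMap.polar (⇑Q) (x0 : V) x1 • a ∈ Y := by
      rw [h4]
      exact Y.sub_mem (Y.add_mem h1 h2) h3
    have h6 := Y.smul_mem (QuadraticMap.polar (⇑Q) (x0 : V) x1)⁻¹ h5
    rwa [smul_smul, inv_mul_cancel₀ hx01, one_smul] at h6
  have hDY : ∀ x ∈ D, x ∈ Y := by
    intro x hx
    have h1 := Y.add_mem (hDY1 x hx) (Y.smul_mem (Q x) haY)
    rwa [sub_add_cancel] at h1
  have hW'Y : ∀ x ∈ W', x ∈ Y := by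
    intro x hx
    rw [eq_add_projH (Q := Q) u a x]
    refine Y.add_mem (Y.add_mem (Y.smul_mem _ huY) (Y.smul_mem _ haY)) (hDY _ ?_)
    rw [hD]
    exact ⟨projH_mem_of_mem huW haW hx, projH_mem hQu hQa hua x⟩
  -- conclusion
  intro g hg x hxe
  suffices hxY : x ∈ Y from (hmemY x).mp hxY g hg
  rw [eq_add_projH (Q := Q) e f x, hxe, zero_smul, add_zero]
  refine Y.add_mem (Y.smul_mem _ heY) ?_
  obtain ⟨x1, hx1⟩ : ∃ x1, x1 = projH Q e f x := ⟨_, rfl⟩
  rw [← hx1]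
  have hx1W : x1 ∈ Wp Q e f := hx1 ▸ projH_mem he hf hef x
  rw [eq_add_projH (Q := Q) z z' x1]
  refine Y.add_mem (Y.add_mem (Y.smul_mem _ hzY) (Y.smul_mem _ hz'Y)) (hW'Y _ ?_)
  rw [hW']
  exact ⟨projH_mem_of_mem hzW hz'W hx1W, projH_mem hz hz' hzz' x1⟩

omit [Finite F] [FiniteDimensional F V] in
theorem rootSet_smul (mk : ↥(T Q) →* 𝔾) (e z : V) {k : F} (hk : k ≠ 0) :
    rootSet mk e (k • z) = rootSet mk e z := by
  ext t
  constructor
  · rintro ⟨c, rfl⟩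
    exact ⟨c * k, by rw [smul_smul]⟩
  · rintro ⟨c, rfl⟩
    exact ⟨c / k, by rw [smul_smul, div_mul_cancel₀ _ hk]⟩

variable (Q) in
/-- The image of the radical, as a subgroup. -/
def radSub (mk : ↥(T Q) →* 𝔾) (hQ : (QuadraticMap.polarBilin Q).Nondegenerate)
    (hdim : 5 ≤ finrank F V) {e : V} (he : Q e = 0) : Subgroup 𝔾 where
  carrier := radSet mk e
  mul_mem' := by
    rintro _ _ ⟨y, hy, rfl⟩ ⟨y', hy', rfl⟩
    refine ⟨y + y', by rw [QuadraticMap.polar_add_right, hy, hy', add_zero], ?_⟩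
    rw [← mkT_mul mk (E_mem_T Q hQ hdim he hy) (E_mem_T Q hQ hdim he hy'), E_mul Q he hy hy']
  one_mem' := ⟨0, by simp [QuadraticMap.polar], by rw [E_zero_right Q he, mkT_one]⟩
  inv_mem' := by
    rintro _ ⟨y, hy, rfl⟩
    refine ⟨-y, by rw [QuadraticMap.polar_neg_right, hy, neg_zero], ?_⟩
    rw [← mkT_inv mk (E_mem_T Q hQ hdim he hy), E_inv Q he hy]

theorem mem_radSub {mk : ↥(T Q) →* 𝔾} {hQ : (QuadraticMap.polarBilin Q).Nondegenerate}
    {hdim : 5 ≤ finrank F V} {e : V} {he : Q e = 0} {t : 𝔾} :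
    t ∈ radSub Q mk hQ hdim he ↔ t ∈ radSet mk e := Iff.rfl

/-- **Package PB3.** -/
theorem pcore_eq_rad {p : ℕ} [Fact p.Prime] [CharP F p] (hH : Hyp Q) (mk : ↥(T Q) →* 𝔾)
    (hsurj : Function.Surjective mk)
    (hker : mk.ker = Subgroup.center ↥(T Q)) {e z z' : V} (h : TSLine Q e z)
    (h' : TSLine Q e z') (hzz' : QuadraticMap.polar (⇑Q) z z' ≠ 0) :
    pCoreSet p (Subgroup.centralizer (rootSet mk e z ∪ rootSet mk e z')) = radSet mk e := by
  classical
  have hQ := hH.nd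
  have hdim7 := hH.dim
  have hdim : 5 ≤ finrank F V := by omega
  have : Finite V := Module.finite_of_finite F
  have : Finite (V ≃ₗ[F] V) :=
    Finite.of_injective (fun g : V ≃ₗ[F] V => (g : V → V)) (fun a b hab => LinearEquiv.ext (congrFun hab))
  have : Finite 𝔾 := Finite.of_surjective mk hsurj
  -- normalise `z'`
  obtain ⟨k, hk⟩ : ∃ k, k = (QuadraticMap.polar (⇑Q) z z')⁻¹ := ⟨_, rfl⟩
  have hk0 : k ≠ 0 := hk ▸ inv_ne_zero hzz'
  obtain ⟨w, hw⟩ : ∃ w, w = k • z' := ⟨_, rfl⟩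
  have hroot : rootSet mk e w = rootSet mk e z' := hw ▸ rootSet_smul mk e z' hk0
  rw [← hroot]
  obtain ⟨he, hz, hez, he0, hze⟩ := h
  obtain ⟨-, hz', hez', -, hz'e⟩ := h'
  have hQw : Q w = 0 := by rw [hw, QuadraticMap.map_smul, hz', smul_zero]
  have hew : QuadraticMap.polar (⇑Q) e w = 0 := by
    rw [hw, QuadraticMap.polar_smul_right, hez', smul_zero]
  have hwe : w ∉ Submodule.span F {e} := by
    intro hmem
    apply hz'e
    have h1 := Submodule.smul_mem _ k⁻¹ hmem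
    rwa [hw, smul_smul, inv_mul_cancel₀ hk0, one_smul] at h1
  have hzw : QuadraticMap.polar (⇑Q) z w = 1 := by
    rw [hw, QuadraticMap.polar_smul_right, smul_eq_mul, hk, inv_mul_cancel₀ hzz']
  have hT : TSLine Q e z := ⟨he, hz, hez, he0, hze⟩
  have hT' : TSLine Q e w := ⟨he, hQw, hew, he0, hwe⟩
  have hzw0 : QuadraticMap.polar (⇑Q) z w ≠ 0 := by rw [hzw]; exact one_ne_zero
  obtain ⟨f, hF⟩ := exists_frame hQ he0 he hz hQw hez hew hzw
  obtain ⟨H, hHdef⟩ : ∃ H, H = Subgroup.centralizer (rootSet mk e z ∪ rootSet mk e w) := ⟨_, rfl⟩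
  rw [← hHdef]
  ext t
  constructor
  · -- `O_p(H) ⊆ R`
    intro ht
    have hO : IsPGroup p ↥(pCoreSub p H) := isPGroup_pCoreSub p H
    have hOH : pCoreSub p H ≤ Subgroup.centralizer (rootSet mk e z ∪ rootSet mk e w) :=
      hHdef ▸ pCoreSub_le p H
    have hnorm : ∀ h ∈ Subgroup.centralizer (rootSet mk e z ∪ rootSet mk e w),
        ∀ t ∈ pCoreSub p H, h * t * h⁻¹ ∈ pCoreSub p H := by
      intro h0 hh0 t0 ht0
      exact conj_mem_pCoreSub (hHdef ▸ hh0) ht0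
    obtain ⟨g, hgN, rfl⟩ := exists_lift hQ hdim mk hsurj hker hO hT hT' hzw0 hOH
      (mem_pCoreSub.mpr ht)
    have htriv := N1_trivial hH mk hker hF he0 hze hwe hO hOH hnorm g hgN
    obtain ⟨hgT, -, hge⟩ := mem_N1.mp hgN
    have hgo := T_le_oG Q hgT
    have h1 := eq_E_of_trivial hgo he hF.hf hF.hef hge htriv
    obtain ⟨h2, -⟩ := E_partner hgo he hF.hf hF.hef hge
    exact ⟨g f - f, h2, congrArg (mkT Q mk) h1⟩
  · -- `R ⊆ O_p(H)`
    intro ht
    have hNH : radSub Q mk hQ hdim he ≤ H := by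
      rintro _ ⟨y, hy, rfl⟩
      rw [hHdef, Subgroup.mem_centralizer_iff]
      have key : ∀ v : V, QuadraticMap.polar (⇑Q) e v = 0 → ∀ c : F,
          mkT Q mk (E Q e (c • v)) * mkT Q mk (E Q e y) =
            mkT Q mk (E Q e y) * mkT Q mk (E Q e (c • v)) := by
        intro v hev c
        have hecv : QuadraticMap.polar (⇑Q) e (c • v) = 0 := by
          rw [QuadraticMap.polar_smul_right, hev, smul_zero]
        rw [← mkT_mul mk (E_mem_T Q hQ hdim he hecv) (E_mem_T Q hQ hdim he hy),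
          ← mkT_mul mk (E_mem_T Q hQ hdim he hy) (E_mem_T Q hQ hdim he hecv),
          E_mul Q he hecv hy, E_mul Q he hy hecv, add_comm]
      rintro s (⟨c, rfl⟩ | ⟨c, rfl⟩)
      · exact key z hez c
      · exact key w hew c
    have hNp : IsPGroup p ↥(radSub Q mk hQ hdim he) := by
      rintro ⟨_, y, hy, rfl⟩
      refine ⟨1, Subtype.ext ?_⟩
      rw [pow_one, Subgroup.coe_pow, Subgroup.coe_one]
      show (mkT Q mk (E Q e y)) ^ p = 1
      rw [← mkT_pow mk (E_mem_T Q hQ hdim he hy), E_pow_char he hy, mkT_one]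
    have hconj : ∀ h0 ∈ H, ∀ n ∈ radSub Q mk hQ hdim he, h0 * n * h0⁻¹ ∈ radSub Q mk hQ hdim he := by
      rintro h0 hh0 _ ⟨y, hy, rfl⟩
      obtain ⟨g0, hg0T, rfl⟩ := exists_mkT mk hsurj h0
      have hg0o := T_le_oG Q hg0T
      rw [hHdef, Subgroup.mem_centralizer_iff] at hh0
      have hc1 : g0 * E Q e z = E Q e z * g0 := by
        apply comm_of_mkT_comm Q hQ hdim mk hker hg0T he hez
        have := hh0 (mkT Q mk (E Q e z)) (Or.inl ⟨1, by rw [one_smul]⟩)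
        exact this.symm
      have hc2 : g0 * E Q e w = E Q e w * g0 := by
        apply comm_of_mkT_comm Q hQ hdim mk hker hg0T he hew
        have := hh0 (mkT Q mk (E Q e w)) (Or.inr ⟨1, by rw [one_smul]⟩)
        exact this.symm
      obtain ⟨k0, hk0e⟩ := map_point hQ hg0o hT hT' hzw0 hc1 hc2
      have hk00 : k0 ≠ 0 := by
        rintro rfl
        rw [zero_smul] at hk0e
        exact he0 (by simpa using hk0e)
      have h1 : QuadraticMap.polar (⇑Q) e (g0 y) = 0 := by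
        have h2 : QuadraticMap.polar (⇑Q) (g0 e) (g0 y) = 0 := by rw [oG_polar Q hg0o, hy]
        rw [hk0e, QuadraticMap.polar_smul_left, smul_eq_mul] at h2
        rcases mul_eq_zero.mp h2 with h3 | h3
        · exact absurd h3 hk00
        · exact h3
      refine ⟨k0 • g0 y, by rw [QuadraticMap.polar_smul_right, h1, smul_zero], ?_⟩
      rw [← mkT_inv mk hg0T, ← mkT_mul mk hg0T (E_mem_T Q hQ hdim he hy),
        ← mkT_mul mk ((T Q).mul_mem hg0T (E_mem_T Q hQ hdim he hy)) ((T Q).inv_mem hg0T),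
        conj_E Q hg0o he hy, hk0e, E_smul_left Q he h1]
    have hn : H ≤ Subgroup.normalizer ((radSub Q mk hQ hdim he : Subgroup 𝔾) : Set 𝔾) := by
      intro h0 hh0
      rw [Subgroup.mem_normalizer_iff]
      intro n
      constructor
      · exact hconj h0 hh0 n
      · intro hn
        have h5 := hconj h0⁻¹ (H.inv_mem hh0) _ hn
        have h6 : h0⁻¹ * (h0 * n * h0⁻¹) * h0⁻¹⁻¹ = n := by group
        rwa [h6] at h5
    exact mem_pCoreSet_of_normal hNH hNp hn (mem_radSub.mpr ht)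

end main

end Cfsg.Agent.Lib.Helper97_OrthPB3
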