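import Mathlib
import Cfsg.Agent.Lib.Helper14_OrthTop0
import Cfsg.Agent.Lib.Helper67_OrthPA5
import Cfsg.Agent.Lib.Helper97_OrthPB3

/-!
# Orthogonal groups: `gammaPOmega F Q = ⊤` for the three standard forms (helper14)

Final assembly: packages PA1/PA2 (helper67) and PB3 (helper97) plugged into
`Helper14_OrthTop0`.
-/

set_option autoImplicit false
set_option linter.unusedSectionVars false
set_option linter.unusedVariables false

namespace Cfsg.Agent.Lib.Helper14_OrthTop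

open Matrix Module Cfsg
  Cfsg.Agent.Lib.Helper14_OmegaSimple
  Cfsg.Agent.Lib.Helper14_OrthAut
  Cfsg.Agent.Lib.Helper14_OrthFinal Cfsg.Agent.Lib.Helper14_OrthTop0
  Cfsg.Agent.Lib.Helper44_StdForms

variable {ι : Type} [Fintype ι] [DecidableEq ι] {F : Type*} [Field F] [Fintype F]

theorem pkg (Q : QuadraticForm F (ι → F)) (hH : Hyp Q) (hn : 5 ≤ Fintype.card ι)
    (p : ℕ) [Fact p.Prime] [CharP F p] : Pkg Q hH.nd hn p :=
  ⟨fun S => Cfsg.Agent.Lib.Helper67_OrthPA5.A1 hH _ (mkO_surjective Q hH.nd hn)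
      (mkO_ker Q hH.nd hn) S,
    fun u s h => Cfsg.Agent.Lib.Helper67_OrthPA5.A2 hH _ (mkO_surjective Q hH.nd hn)
      (mkO_ker Q hH.nd hn) h,
    fun h h' hzz' => Cfsg.Agent.Lib.Helper97_OrthPB3.pcore_eq_rad hH _
      (mkO_surjective Q hH.nd hn) (mkO_ker Q hH.nd hn) h h' hzz'⟩

theorem gamma_odd (hodd : Odd (Fintype.card F)) {m : ℕ} (hm : 3 ≤ m) :
    Cfsg.gammaPOmega F (Cfsg.quadFormOdd m F) = ⊤ := by
  obtain ⟨p, hp⟩ := CharP.exists F
  have := hp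
  have : Fact p.Prime := ⟨CharP.char_is_prime F p⟩
  exact odd_of_pkg hodd hm p (pkg _ (Cfsg.Agent.Lib.Helper71_OrthHyp.hyp_odd
    (two_ne_zero_of_odd hodd) hm) _ p)

theorem gamma_plus {m : ℕ} (hm : 5 ≤ m) :
    Cfsg.gammaPOmega F (Cfsg.quadFormPlus m F) = ⊤ := by
  obtain ⟨p, hp⟩ := CharP.exists F
  have := hp
  have : Fact p.Prime := ⟨CharP.char_is_prime F p⟩
  exact plus_of_pkg hm p (pkg _ (Cfsg.Agent.Lib.Helper71_OrthHyp.hyp_plus hm) _ p)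

theorem gamma_minus {m : ℕ} (hm : 3 ≤ m) (a b : F)
    (hab : ∀ z₁ z₂ : F, z₁ ^ 2 + a * z₁ * z₂ + b * z₂ ^ 2 = 0 → z₁ = 0 ∧ z₂ = 0) :
    Cfsg.gammaPOmega F (Cfsg.quadFormMinus m F a b) = ⊤ := by
  obtain ⟨p, hp⟩ := CharP.exists F
  have := hp
  have : Fact p.Prime := ⟨CharP.char_is_prime F p⟩
  exact minus_of_pkg hm a b hab p
    (pkg _ (Cfsg.Agent.Lib.Helper71_OrthHyp.hyp_minus hm a b hab) _ p)

end Cfsg.Agent.Lib.Helper14_OrthTop
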