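import Mathlib
import Cfsg.Agent.Lib.Helper44_Refl
import Cfsg.Agent.Lib.Helper44_FinSq

set_option autoImplicit false

namespace Cfsg.Agent.Lib.Helper14_ThreeRefl

open Cfsg Matrix Cfsg.Agent.Lib.Helper44_Refl

variable {ι : Type} [Fintype ι] [DecidableEq ι] {F : Type*} [Field F]

omit [Fintype ι] [DecidableEq ι] in
theorem map_lin_comb (Q : QuadraticForm F (ι → F)) (v w : ι → F) (α β : F) :
    Q (α • v + β • w) = α ^ 2 * Q v + α * β * QuadraticMap.polar (⇑Q) v w + β ^ 2 * Q w := by
  rw [QuadraticMap.map_add (⇑Q), QuadraticMap.map_smul, QuadraticMap.map_smul,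
    QuadraticMap.polar_smul_left, QuadraticMap.polar_smul_right]
  simp only [smul_eq_mul]
  ring

/-- Three reflections in vectors of a common plane compose to a reflection. -/
theorem three_refl (Q : QuadraticForm F (ι → F)) (v w : ι → F) (α β : F) (hv : Q v ≠ 0)
    (hw : Q w ≠ 0) (hu : Q (α • v + β • w) ≠ 0) :
    Q ((α * Q v + β * QuadraticMap.polar (⇑Q) v w) • w - (β * Q w) • v)
        = Q v * Q w * Q (α • v + β • w) ∧
      Cfsg.reflectionMatrix (⇑Q) (α • v + β • w) * Cfsg.reflectionMatrix (⇑Q) v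
          * Cfsg.reflectionMatrix (⇑Q) w
        = Cfsg.reflectionMatrix (⇑Q)
            ((α * Q v + β * QuadraticMap.polar (⇑Q) v w) • w - (β * Q w) • v) := by
  have hQx : Q ((α * Q v + β * QuadraticMap.polar (⇑Q) v w) • w - (β * Q w) • v)
        = Q v * Q w * Q (α • v + β • w) := by
    have : (α * Q v + β * QuadraticMap.polar (⇑Q) v w) • w - (β * Q w) • v
        = (-(β * Q w)) • v + (α * Q v + β * QuadraticMap.polar (⇑Q) v w) • w := by
      rw [neg_smul]; abel
    rw [this, map_lin_comb, map_lin_comb]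
    ring
  refine ⟨hQx, ?_⟩
  have hwv : QuadraticMap.polar (⇑Q) w v = QuadraticMap.polar (⇑Q) v w := QuadraticMap.polar_comm _ _ _
  apply matrix_ext_mulVec
  intro ξ
  rw [← Matrix.mulVec_mulVec, ← Matrix.mulVec_mulVec, reflectionMatrix_mulVec, reflectionMatrix_mulVec,
    reflectionMatrix_mulVec, reflectionMatrix_mulVec, hQx]
  rw [map_lin_comb] at hu ⊢
  simp only [QuadraticMap.polar_sub_right, QuadraticMap.polar_smul_right, QuadraticMap.polar_add_left,
    QuadraticMap.polar_smul_left, QuadraticMap.polar_sub_left, polar_self, hwv, smul_eq_mul]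
  generalize Q v = p at *
  generalize Q w = r at *
  generalize QuadraticMap.polar (⇑Q) v w = b at *
  generalize QuadraticMap.polar (⇑Q) v ξ = s at *
  generalize QuadraticMap.polar (⇑Q) w ξ = t at *
  obtain ⟨d, hd⟩ : ∃ d, d = α ^ 2 * p + α * β * b + β ^ 2 * r := ⟨_, rfl⟩
  rw [← hd] at hu ⊢
  match_scalars
  · ring
  · field_simp
    rw [hd]
    ring
  · field_simp
    rw [hd]
    ring

omit [Fintype ι] [DecidableEq ι] in
/-- A binary form of non-zero discriminant over a finite field of odd characteristic is universal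
(one vector is assumed non-singular). -/
theorem binary_universal [Fintype F] (h2 : (2 : F) ≠ 0) (Q : QuadraticForm F (ι → F)) (a b : ι → F)
    (ha : Q a ≠ 0)
    (hD : 4 * Q a * Q b - QuadraticMap.polar (⇑Q) a b ^ 2 ≠ 0) (t : F) :
    ∃ l m : F, Q (l • a + m • b) = t := by
  have h4 : (4 : F) ≠ 0 := by
    have : (4 : F) = 2 * 2 := by norm_num
    rw [this]; exact mul_ne_zero h2 h2
  obtain ⟨A, hA⟩ : ∃ A, A = Q a := ⟨_, rfl⟩
  obtain ⟨C, hC⟩ : ∃ C, C = Q b := ⟨_, rfl⟩
  obtain ⟨e, he⟩ : ∃ e, e = QuadraticMap.polar (⇑Q) a b := ⟨_, rfl⟩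
  rw [← hA] at ha
  rw [← hA, ← hC, ← he] at hD
  have hE : (4 * A * C - e ^ 2) / (4 * A) ≠ 0 := div_ne_zero hD (mul_ne_zero h4 ha)
  have hodd : Fintype.card F % 2 = 1 :=
    Nat.odd_iff.mp (Cfsg.Agent.Lib.Helper44_FinSq.odd_card_of_two_ne_zero h2)
  have hf : (Polynomial.C A * Polynomial.X ^ 2 : Polynomial F).degree = 2 := by
    rw [Polynomial.degree_C_mul_X_pow 2 ha]; rfl
  have hg : (Polynomial.C ((4 * A * C - e ^ 2) / (4 * A)) * Polynomial.X ^ 2 - Polynomial.C t :
      Polynomial F).degree = 2 := by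
    rw [Polynomial.degree_sub_C]
    · rw [Polynomial.degree_C_mul_X_pow 2 hE]; rfl
    · rw [Polynomial.degree_C_mul_X_pow 2 hE]; norm_num
  obtain ⟨x, y, hxy⟩ := FiniteField.exists_root_sum_quadratic hf hg hodd
  simp only [Polynomial.eval_mul, Polynomial.eval_C, Polynomial.eval_pow, Polynomial.eval_X,
    Polynomial.eval_sub] at hxy
  refine ⟨x - e / (2 * A) * y, y, ?_⟩
  rw [map_lin_comb, ← hA, ← hC, ← he]
  field_simp at hxy ⊢
  linear_combination hxy

omit [DecidableEq ι] in
/-- In a non-degenerate quadratic space of odd characteristic, the orthogonal complement of a subspace of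
at most half the dimension that contains a non-singular vector contains a non-singular vector. -/
theorem exists_nonsingular_orth (h2 : (2 : F) ≠ 0) (Q : QuadraticForm F (ι → F))
    (hQ : (QuadraticMap.polarBilin Q).Nondegenerate) (S : Submodule F (ι → F)) {v : ι → F}
    (hvS : v ∈ S) (hv : Q v ≠ 0) (hdim : 2 * Module.finrank F S ≤ Fintype.card ι) :
    ∃ y, Q y ≠ 0 ∧ ∀ s ∈ S, QuadraticMap.polar (⇑Q) s y = 0 := by
  by_contra hcon
  push Not at hcon
  set B : LinearMap.BilinForm F (ι → F) := QuadraticMap.polarBilin Q with hB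
  have hrefl : LinearMap.BilinForm.IsRefl B := by
    intro x y hxy
    rw [hB, QuadraticMap.polarBilin_apply_apply] at hxy ⊢
    rw [QuadraticMap.polar_comm]; exact hxy
  have hsing : ∀ y ∈ LinearMap.BilinForm.orthogonal B S, Q y = 0 := by
    intro y hy
    by_contra hne
    obtain ⟨s, hs, hne'⟩ := hcon y hne
    apply hne'
    have := (LinearMap.BilinForm.mem_orthogonal_iff.mp hy) s hs
    rwa [hB, QuadraticMap.polarBilin_apply_apply] at this
  have hle : LinearMap.BilinForm.orthogonal B S ≤ S := by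
    intro y hy
    rw [← LinearMap.BilinForm.orthogonal_orthogonal hQ hrefl S]
    rw [LinearMap.BilinForm.mem_orthogonal_iff]
    intro y' hy'
    rw [hB, QuadraticMap.polarBilin_apply_apply]
    have h1 := hsing _ (Submodule.add_mem _ hy' hy)
    simp only [QuadraticMap.polar, h1, hsing y hy, hsing y' hy']
    ring
  have hfr : Module.finrank F (LinearMap.BilinForm.orthogonal B S) = Fintype.card ι - Module.finrank F S := by
    rw [LinearMap.BilinForm.finrank_orthogonal hQ, Module.finrank_fintype_fun_eq_card]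
  have heq : LinearMap.BilinForm.orthogonal B S = S := by
    apply Submodule.eq_of_le_of_finrank_le hle
    rw [hfr]; omega
  have hvo : v ∈ LinearMap.BilinForm.orthogonal B S := by rw [heq]; exact hvS
  have := (LinearMap.BilinForm.mem_orthogonal_iff.mp hvo) v hvS
  rw [hB, QuadraticMap.polarBilin_apply_apply, polar_self] at this
  rcases mul_eq_zero.mp this with h | h
  · exact h2 h
  · exact hv h

end Cfsg.Agent.Lib.Helper14_ThreeRefl
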