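import Mathlib
import Cfsg.Agent.Lib.Helper14_GOChars
import Cfsg.Agent.Lib.Helper44_StdForms
import Cfsg.Agent.Lib.Helper14_ThreeRefl
import Cfsg.Agent.Lib.Helper14_POmegaSimple

set_option autoImplicit false

/-!
Explicit similarities of the standard plus-type and minus-type forms with a prescribed multiplier,
whose square is a scalar matrix (helper14).
-/

namespace Cfsg.Agent.Lib.Helper14_GODelta

open Cfsg Matrix Cfsg.Agent.Lib.Helper14_AutOmega Cfsg.Agent.Lib.Helper14_GOChars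
  Cfsg.Agent.Lib.Helper44_StdForms

variable {F : Type*} [Field F] (m : ℕ)

/-- The matrix of `(x, y) ↦ (ν y, x)`. -/
def dPlusMat (ν : F) : Matrix (Fin m ⊕ Fin m) (Fin m ⊕ Fin m) F :=
  Matrix.fromBlocks 0 (ν • (1 : Matrix (Fin m) (Fin m) F)) 1 0

theorem dPlusMat_mul_self (ν : F) : dPlusMat m ν * dPlusMat m ν = ν • (1 : Matrix _ _ F) := by
  rw [dPlusMat, Matrix.fromBlocks_multiply]
  simp only [Matrix.zero_mul, Matrix.mul_zero, Matrix.mul_one, Matrix.one_mul, zero_add, add_zero]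
  rw [← Matrix.fromBlocks_one, Matrix.fromBlocks_smul]
  simp

theorem dPlusMat_mulVec_inl (ν : F) (v : Fin m ⊕ Fin m → F) (i : Fin m) :
    (dPlusMat m ν *ᵥ v) (Sum.inl i) = ν * v (Sum.inr i) := by
  rw [dPlusMat, Matrix.fromBlocks_mulVec]
  simp [Matrix.smul_mulVec]

theorem dPlusMat_mulVec_inr (ν : F) (v : Fin m ⊕ Fin m → F) (i : Fin m) :
    (dPlusMat m ν *ᵥ v) (Sum.inr i) = v (Sum.inl i) := by
  rw [dPlusMat, Matrix.fromBlocks_mulVec]
  simp

/-- The similarity `(x, y) ↦ (ν y, x)` of the plus-type form. -/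
def dPlusGL (ν : Fˣ) : GL (Fin m ⊕ Fin m) F :=
  ⟨dPlusMat m (ν : F), ((ν⁻¹ : Fˣ) : F) • dPlusMat m (ν : F), by
    rw [Matrix.mul_smul, dPlusMat_mul_self, smul_smul]
    simp, by
    rw [Matrix.smul_mul, dPlusMat_mul_self, smul_smul]
    simp⟩

theorem dPlusGL_coe (ν : Fˣ) : ((dPlusGL m ν : GL (Fin m ⊕ Fin m) F) : Matrix _ _ F) =
    dPlusMat m (ν : F) := rfl

theorem quadFormPlus_dPlus (ν : F) (v : Fin m ⊕ Fin m → F) :
    quadFormPlus m F (dPlusMat m ν *ᵥ v) = ν * quadFormPlus m F v := by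
  unfold quadFormPlus
  rw [Finset.mul_sum]
  apply Finset.sum_congr rfl
  intro i _
  rw [dPlusMat_mulVec_inl, dPlusMat_mulVec_inr]
  ring

theorem dPlusGL_mem (ν : Fˣ) : dPlusGL m ν ∈ GO (quadFormPlus m F) :=
  ⟨ν, fun v => by rw [dPlusGL_coe, quadFormPlus_dPlus]⟩

theorem dPlusGL_sq_mem (ν : Fˣ) : dPlusGL m ν * dPlusGL m ν ∈ Geo.scalars (Fin m ⊕ Fin m) F := by
  rw [Geo.mem_scalars_iff]
  exact ⟨ν, by rw [Units.val_mul, dPlusGL_coe, dPlusMat_mul_self]⟩

/-! ### The minus-type form -/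

/-- The matrix of `z ↦ ζ z̄` on the anisotropic plane, `ζ = x + y ω`. -/
def dBinMat (a b x y : F) : Matrix (Fin 2) (Fin 2) F := !![x, a * x + b * y; y, -x]

theorem dBinMat_mul_self (a b x y : F) :
    dBinMat a b x y * dBinMat a b x y = (x ^ 2 + a * x * y + b * y ^ 2) • (1 : Matrix _ _ F) := by
  ext i j
  fin_cases i <;> fin_cases j <;>
    simp [dBinMat, Matrix.mul_apply, Fin.sum_univ_two] <;> ring

/-- The matrix of the similarity of the minus-type form. -/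
def dMinusMat (a b x y : F) :
    Matrix ((Fin m ⊕ Fin m) ⊕ Fin 2) ((Fin m ⊕ Fin m) ⊕ Fin 2) F :=
  Matrix.fromBlocks (dPlusMat m (x ^ 2 + a * x * y + b * y ^ 2)) 0 0 (dBinMat a b x y)

theorem dMinusMat_mul_self (a b x y : F) :
    dMinusMat m a b x y * dMinusMat m a b x y =
      (x ^ 2 + a * x * y + b * y ^ 2) • (1 : Matrix _ _ F) := by
  rw [dMinusMat, Matrix.fromBlocks_multiply]
  simp only [Matrix.zero_mul, Matrix.mul_zero, zero_add, add_zero]
  rw [dPlusMat_mul_self, dBinMat_mul_self]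
  conv_rhs => rw [← Matrix.fromBlocks_one, Matrix.fromBlocks_smul]
  simp

theorem dMinusMat_mulVec_inl (a b x y : F) (v : (Fin m ⊕ Fin m) ⊕ Fin 2 → F) (i : Fin m ⊕ Fin m) :
    (dMinusMat m a b x y *ᵥ v) (Sum.inl i) =
      (dPlusMat m (x ^ 2 + a * x * y + b * y ^ 2) *ᵥ (v ∘ Sum.inl)) i := by
  rw [dMinusMat, Matrix.fromBlocks_mulVec]
  simp

theorem dMinusMat_mulVec_inr0 (a b x y : F) (v : (Fin m ⊕ Fin m) ⊕ Fin 2 → F) :
    (dMinusMat m a b x y *ᵥ v) (Sum.inr 0) =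
      x * v (Sum.inr 0) + (a * x + b * y) * v (Sum.inr 1) := by
  rw [dMinusMat, Matrix.fromBlocks_mulVec]
  simp [dBinMat, dotProduct, Fin.sum_univ_two]

theorem dMinusMat_mulVec_inr1 (a b x y : F) (v : (Fin m ⊕ Fin m) ⊕ Fin 2 → F) :
    (dMinusMat m a b x y *ᵥ v) (Sum.inr 1) = y * v (Sum.inr 0) + (-x) * v (Sum.inr 1) := by
  rw [dMinusMat, Matrix.fromBlocks_mulVec]
  simp [dBinMat, dotProduct, Fin.sum_univ_two]

theorem quadFormMinus_dMinus (a b x y : F) (v : (Fin m ⊕ Fin m) ⊕ Fin 2 → F) :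
    quadFormMinus m F a b (dMinusMat m a b x y *ᵥ v) =
      (x ^ 2 + a * x * y + b * y ^ 2) * quadFormMinus m F a b v := by
  have hsum : ∑ i : Fin m, (dMinusMat m a b x y *ᵥ v) (Sum.inl (Sum.inl i)) *
      (dMinusMat m a b x y *ᵥ v) (Sum.inl (Sum.inr i)) =
      (x ^ 2 + a * x * y + b * y ^ 2) * ∑ i : Fin m, v (Sum.inl (Sum.inl i)) * v (Sum.inl (Sum.inr i)) := by
    rw [Finset.mul_sum]
    apply Finset.sum_congr rfl
    intro i _
    rw [dMinusMat_mulVec_inl, dMinusMat_mulVec_inl, dPlusMat_mulVec_inl, dPlusMat_mulVec_inr]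
    simp only [Function.comp_apply]
    ring
  unfold quadFormMinus
  rw [dMinusMat_mulVec_inr0, dMinusMat_mulVec_inr1, hsum]
  ring

/-- The similarity of the minus-type form with multiplier `ν = x² + a x y + b y²`. -/
def dMinusGL (a b x y : F) (hν : x ^ 2 + a * x * y + b * y ^ 2 ≠ 0) :
    GL ((Fin m ⊕ Fin m) ⊕ Fin 2) F :=
  ⟨dMinusMat m a b x y, (x ^ 2 + a * x * y + b * y ^ 2)⁻¹ • dMinusMat m a b x y, by
    rw [Matrix.mul_smul, dMinusMat_mul_self, smul_smul, inv_mul_cancel₀ hν, one_smul], by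
    rw [Matrix.smul_mul, dMinusMat_mul_self, smul_smul, inv_mul_cancel₀ hν, one_smul]⟩

theorem dMinusGL_coe (a b x y : F) (hν : x ^ 2 + a * x * y + b * y ^ 2 ≠ 0) :
    ((dMinusGL m a b x y hν : GL ((Fin m ⊕ Fin m) ⊕ Fin 2) F) : Matrix _ _ F) =
      dMinusMat m a b x y := rfl

theorem dMinusGL_mem (a b x y : F) (hν : x ^ 2 + a * x * y + b * y ^ 2 ≠ 0) :
    dMinusGL m a b x y hν ∈ GO (quadFormMinus m F a b) :=
  ⟨Units.mk0 _ hν, fun v => by rw [dMinusGL_coe, quadFormMinus_dMinus, Units.val_mk0]⟩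

theorem dMinusGL_sq_mem (a b x y : F) (hν : x ^ 2 + a * x * y + b * y ^ 2 ≠ 0) :
    dMinusGL m a b x y hν * dMinusGL m a b x y hν ∈ Geo.scalars ((Fin m ⊕ Fin m) ⊕ Fin 2) F := by
  rw [Geo.mem_scalars_iff]
  exact ⟨Units.mk0 _ hν, by rw [Units.val_mul, dMinusGL_coe, dMinusMat_mul_self, Units.val_mk0]⟩

theorem quadFormMinus_bin (a b l k : F) :
    quadFormMinus m F a b (l • Pi.single (Sum.inr 0) 1 + k • Pi.single (Sum.inr 1) 1) =
      l ^ 2 + a * l * k + b * k ^ 2 := by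
  unfold quadFormMinus
  simp

/-- The anisotropic binary form represents every element of a finite field of odd order. -/
theorem exists_bin_eq [Fintype F] (h2 : (2 : F) ≠ 0) (a b : F)
    (hab : ∀ z₁ z₂ : F, z₁ ^ 2 + a * z₁ * z₂ + b * z₂ ^ 2 = 0 → z₁ = 0 ∧ z₂ = 0) (t : F) :
    ∃ x y : F, x ^ 2 + a * x * y + b * y ^ 2 = t := by
  have hq : ∀ l k : F, qfMinus 0 F a b (l • Pi.single (Sum.inr 0) 1 + k • Pi.single (Sum.inr 1) 1) =
      l ^ 2 + a * l * k + b * k ^ 2 := by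
    intro l k
    have := quadFormMinus_bin 0 a b l k
    rw [← coe_qfMinus] at this
    exact this
  have h0 : qfMinus 0 F a b (Pi.single (Sum.inr 0) 1) = 1 := by
    have := hq 1 0
    simpa using this
  have h1 : qfMinus 0 F a b (Pi.single (Sum.inr 1) 1) = b := by
    have := hq 0 1
    simpa using this
  have h01 : QuadraticMap.polar (⇑(qfMinus 0 F a b)) (Pi.single (Sum.inr 0) 1)
      (Pi.single (Sum.inr 1) 1) = a := by
    have := hq 1 1
    rw [one_smul, one_smul] at this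
    unfold QuadraticMap.polar
    rw [this, h0, h1]
    ring
  obtain ⟨l, k, hlk⟩ := Cfsg.Agent.Lib.Helper14_ThreeRefl.binary_universal h2 (qfMinus 0 F a b)
    (Pi.single (Sum.inr 0) 1) (Pi.single (Sum.inr 1) 1) (by rw [h0]; exact one_ne_zero)
    (by
      rw [h0, h1, h01]
      have := Cfsg.Agent.Lib.Helper14_POmegaSimple.disc_ne_zero a b hab
      intro h
      apply this
      linear_combination h) t
  exact ⟨l, k, by rw [← hq, hlk]⟩

end Cfsg.Agent.Lib.Helper14_GODelta
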