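import Mathlib
import Cfsg.Agent.Lib.Helper14_OrthGamma
import Cfsg.Agent.Lib.Helper14_OrthTop
import Cfsg.Agent.Lib.Helper14_OmegaIndex
import Cfsg.Agent.Lib.Helper14_GOChars
import Cfsg.Agent.Lib.Helper44_OrthOddOut
import Cfsg.Agent.Lib.Helper44_Index
import Cfsg.Agent.S2726
import Cfsg.Agent.S2727

/-!
# `|Aut(PΩ(Q))|`: generic set-up from `Hyp`, and the characteristic two count (helper14)
-/

set_option autoImplicit false
set_option linter.unusedSectionVars false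
set_option linter.unusedVariables false

namespace Cfsg.Agent.Lib.Helper14_OrthMinusAut

open Cfsg Matrix Cfsg.Agent.Lib.Helper44_Orth Cfsg.Agent.Lib.Helper14_AutOmega
  Cfsg.Agent.Lib.Helper7_OrthInduced Cfsg.Agent.Lib.Helper44_OrthField
  Cfsg.Agent.Lib.Helper44_OrthFaith Cfsg.Agent.Lib.Helper14_OrthGamma
  Cfsg.Agent.Lib.Helper14_OmegaIndex Cfsg.Agent.Lib.Helper14_GOChars
  Cfsg.Agent.Lib.Helper44_StdForms Cfsg.Agent.Lib.Helper14_OrthAut
  Cfsg.Agent.Lib.Helper14_Siegel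

variable {ι : Type} [Fintype ι] [DecidableEq ι] {F : Type*} [Field F] [Fintype F]

/-! ### A totally singular line with non-zero Siegel matrix -/

theorem siegelN_ne_zero (Q : QuadraticForm F (ι → F))
    (hQ : (QuadraticMap.polarBilin Q).Nondegenerate) {u w : ι → F}
    (hli : LinearIndependent F ![u, w]) : siegelN (⇑Q) u w ≠ 0 := by
  intro h0
  have h1 : Cfsg.siegelMatrix (⇑Q) u w 1 = 1 := by
    rw [siegelMatrix_eq, h0, smul_zero, add_zero]
  have hu0 : u ≠ 0 := by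
    have := hli.ne_zero 0
    simpa using this
  obtain ⟨x, hx⟩ : ∃ x, QuadraticMap.polar (⇑Q) u x ≠ 0 := by
    by_contra hcon
    push Not at hcon
    exact hu0 (hQ.1 u hcon)
  have h2 := siegelMatrix_mulVec Q u w 1 x
  rw [h1, Matrix.one_mulVec, one_mul, one_mul] at h2
  have h3 : QuadraticMap.polar (⇑Q) u x • w - QuadraticMap.polar (⇑Q) w x • u = 0 := by
    have h4 : x + (QuadraticMap.polar (⇑Q) u x • w - QuadraticMap.polar (⇑Q) w x • u) = x + 0 := by
      rw [add_zero, ← add_sub_assoc]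
      exact h2.symm
    exact add_left_cancel h4
  have h5 := LinearIndependent.pair_iff.mp hli (- QuadraticMap.polar (⇑Q) w x)
    (QuadraticMap.polar (⇑Q) u x) (by rw [neg_smul, add_comm, ← sub_eq_add_neg]; exact h3)
  exact hx h5.2

theorem ts_of_hyp (Q : QuadraticForm F (ι → F)) (hH : Hyp Q) :
    ∃ u w : ι → F, Q u = 0 ∧ Q w = 0 ∧ QuadraticMap.polar (⇑Q) u w = 0 ∧
      siegelN (⇑Q) u w ≠ 0 := by
  obtain ⟨U, hU3, hUs⟩ := hH.witt
  have hpos : 0 < Module.finrank F U := by omega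
  obtain ⟨u, hu0⟩ := (Module.finrank_pos_iff_exists_ne_zero).mp hpos
  obtain ⟨w, hw⟩ := exists_linearIndependent_pair_of_one_lt_finrank (R := F) (by omega) hu0
  have hli : LinearIndependent F ![(u : ι → F), (w : ι → F)] := by
    have h1 := hw.map' U.subtype (Submodule.ker_subtype U)
    have h2 : (⇑U.subtype ∘ ![u, w]) = ![(u : ι → F), (w : ι → F)] := by
      funext i
      fin_cases i <;> rfl
    rw [h2] at h1
    exact h1
  refine ⟨u, w, hUs _ u.2, hUs _ w.2, ?_, siegelN_ne_zero Q hH.nd hli⟩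
  unfold QuadraticMap.polar
  rw [hUs _ u.2, hUs _ w.2, hUs _ (U.add_mem u.2 w.2)]
  ring

/-- The set-up for the companion homomorphism from `Hyp`. -/
theorem setup_of (Q : QuadraticForm F (ι → F)) (hH : Hyp Q) (hn : 5 ≤ Fintype.card ι)
    (htop : gammaPOmega F (⇑Q) = ⊤)
    (hsemi : ∀ σ : F ≃+* F, ∃ g : GL ι F, IsSemisimilarityPair (⇑Q) g σ) : Setup Q :=
  ⟨hH.nd, hn, htop, hsemi, ts_of_hyp Q hH⟩

/-! ### Characteristic two: `[PGO : Inn] = 2` -/

section char2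

theorem exists_iso_of_GO_even (h2 : (2 : F) = 0) (Q : QuadraticForm F (ι → F)) (g : ↥(GO (⇑Q))) :
    ∃ s : ↥(isometryGroup F (⇑Q)), Phi (⇑Q) g = PhiO (⇑Q) s := by
  obtain ⟨c, hc⟩ : ∃ c : Fˣ, c = mu (⇑Q) g := ⟨_, rfl⟩
  have hspec : ∀ v, Q (((g : GL ι F) : Matrix ι ι F) *ᵥ v) = (c : F) * Q v := by
    intro v
    rw [hc]
    exact mu_spec (⇑Q) g v
  have hch : ringChar F = 2 := CharP.ringChar_of_prime_eq_zero Nat.prime_two (by exact_mod_cast h2)
  obtain ⟨r0, hr0⟩ := FiniteField.isSquare_of_char_two hch (c : F)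
  have hr0ne : r0 ≠ 0 := by
    rintro rfl
    rw [mul_zero] at hr0
    exact c.ne_zero hr0
  obtain ⟨r, hr⟩ : ∃ r : Fˣ, (r : F) = r0 := ⟨Units.mk0 _ hr0ne, rfl⟩
  have hrc : (r : F) * r = c := by rw [hr]; exact hr0.symm
  have hs0 : ((scalarGO Q r⁻¹ : ↥(GO (⇑Q))) : GL ι F) * (g : GL ι F) ∈ isometryGroup F (⇑Q) := by
    rw [mem_isometryGroup_iff]
    intro v
    rw [Units.val_mul, ← Matrix.mulVec_mulVec, scalarGO_coe, Matrix.smul_mulVec,
      Matrix.one_mulVec, QuadraticMap.map_smul, hspec, ← hrc, smul_eq_mul, Units.val_inv_eq_inv_val]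
    field_simp
  obtain ⟨s0, hs0'⟩ : ∃ s0 : ↥(isometryGroup F (⇑Q)),
      (s0 : GL ι F) = ((scalarGO Q r⁻¹ : ↥(GO (⇑Q))) : GL ι F) * (g : GL ι F) := ⟨⟨_, hs0⟩, rfl⟩
  have hg : g = scalarGO Q r * Subgroup.inclusion (isometryGroup_le_GO (⇑Q)) s0 := by
    apply Subtype.ext
    show (g : GL ι F) = ((scalarGO Q r : ↥(GO (⇑Q))) : GL ι F) * (s0 : GL ι F)
    rw [hs0', ← mul_assoc]
    have : ((scalarGO Q r : ↥(GO (⇑Q))) : GL ι F) * ((scalarGO Q r⁻¹ : ↥(GO (⇑Q))) : GL ι F) = 1 := by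
      show Units.map _ r * Units.map _ r⁻¹ = 1
      rw [← map_mul, mul_inv_cancel, map_one]
    rw [this, one_mul]
  refine ⟨s0, ?_⟩
  rw [hg, map_mul, Cfsg.Agent.Lib.Helper14_CentOmega.Phi_eq_one_of_scalar (⇑Q) _
    (scalarGO_mem Q r), one_mul]
  rfl

theorem ker_PhiO_even (h2 : (2 : F) = 0) (Q : QuadraticForm F (ι → F))
    (hQ : (QuadraticMap.polarBilin Q).Nondegenerate) (hn : 5 ≤ Fintype.card ι) {v₀ : ι → F}
    (hv₀ : Q v₀ ≠ 0) : (PhiO (⇑Q)).ker = ⊥ := by
  rw [Subgroup.eq_bot_iff_forall]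
  intro s hs
  rw [MonoidHom.mem_ker, PhiO, MonoidHom.comp_apply] at hs
  have hsc := Cfsg.Agent.Lib.Helper14_CentOmega.scalar_of_Phi_eq_one Q hQ hn _ hs
  obtain ⟨c, hc⟩ := (Cfsg.Geo.mem_scalars_iff _).mp hsc
  have hc' : ((s : GL ι F) : Matrix ι ι F) = (c : F) • (1 : Matrix ι ι F) := hc
  have h1 := (mem_isometryGroup_iff (⇑Q) (s : GL ι F)).mp s.2 v₀
  rw [hc', Matrix.smul_mulVec, Matrix.one_mulVec, QuadraticMap.map_smul, smul_eq_mul] at h1
  have h3 : ((c : F) * c - 1) * Q v₀ = 0 := by linear_combination h1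
  have h4 : (c : F) * c - 1 = 0 := by
    rcases mul_eq_zero.mp h3 with h | h
    · exact h
    · exact absurd h hv₀
  have h5 : ((c : F) - 1) * ((c : F) - 1) = 0 := by
    have : ((c : F) - 1) * ((c : F) - 1) = ((c : F) * c - 1) - 2 * ((c : F) - 1) := by ring
    rw [this, h4, h2]
    ring
  have h6 : (c : F) = 1 := by
    rcases mul_eq_zero.mp h5 with h | h <;> exact sub_eq_zero.mp h
  apply Subtype.ext
  apply Units.ext
  rw [hc', h6, one_smul]
  rfl

theorem relIndex_inn_range_even (h2 : (2 : F) = 0) (Q : QuadraticForm F (ι → F))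
    (hQ : (QuadraticMap.polarBilin Q).Nondegenerate) (hn : 5 ≤ Fintype.card ι) {v₀ : ι → F}
    (hv₀ : Q v₀ ≠ 0) : (Inn (POmega F (⇑Q))).relIndex (Phi (⇑Q)).range = 2 := by
  have hr : (Phi (⇑Q)).range = (⊤ : Subgroup ↥(isometryGroup F (⇑Q))).map (PhiO (⇑Q)) := by
    apply le_antisymm
    · rintro _ ⟨g, rfl⟩
      obtain ⟨s, hs⟩ := exists_iso_of_GO_even h2 Q g
      exact ⟨s, Subgroup.mem_top s, hs.symm⟩
    · rintro _ ⟨s, -, rfl⟩
      exact ⟨Subgroup.inclusion (isometryGroup_le_GO (⇑Q)) s, rfl⟩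
  rw [hr, inn_eq_map, Subgroup.relIndex_map_map, ker_PhiO_even h2 Q hQ hn hv₀, sup_bot_eq,
    sup_bot_eq, Subgroup.relIndex_top_right]
  exact Cfsg.Agent.Lib.Helper44_Index.index_omega_two h2 Q hQ (Or.inr (by omega)) hv₀

theorem card_range_Phi_even (h2 : (2 : F) = 0) (Q : QuadraticForm F (ι → F))
    (hQ : (QuadraticMap.polarBilin Q).Nondegenerate) (hn : 5 ≤ Fintype.card ι) {v₀ : ι → F}
    (hv₀ : Q v₀ ≠ 0) : Nat.card (Phi (⇑Q)).range = 2 * Nat.card (POmega F (⇑Q)) := by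
  have h1 := Subgroup.relIndex_mul_relIndex (⊥ : Subgroup (MulAut (POmega F (⇑Q))))
    (Inn (POmega F (⇑Q))) (Phi (⇑Q)).range bot_le
    (Cfsg.Agent.Lib.Helper44_OrthOddCent.inn_le_range Q)
  rw [Subgroup.relIndex_bot_left, Subgroup.relIndex_bot_left,
    relIndex_inn_range_even h2 Q hQ hn hv₀,
    Cfsg.Agent.Lib.Helper44_OrthOddOut.card_inn Q hQ hn] at h1
  rw [← h1, mul_comm]

end char2

/-! ### The minus-type forms -/

section minus

open Cfsg.Agent.Lib.Helper14_OrthTop0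

variable {m : ℕ} (hm : 3 ≤ m) (a b : F)
  (hab : ∀ z₁ z₂ : F, z₁ ^ 2 + a * z₁ * z₂ + b * z₂ ^ 2 = 0 → z₁ = 0 ∧ z₂ = 0)
include hm hab

theorem setup_minus : Setup (qfMinus m F a b) :=
  setup_of _ (Cfsg.Agent.Lib.Helper71_OrthHyp.hyp_minus hm a b hab) (card_minus m hm)
    (by rw [coe_qfMinus]; exact Cfsg.Agent.Lib.Helper14_OrthTop.gamma_minus hm a b hab)
    (fun σ => by
      rw [coe_qfMinus]
      exact Cfsg.Agent.Lib.Helper21_OrthSemisim.semisim_minus m a b hab σ)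

omit hm hab in
theorem nonsing_minus : qfMinus m F a b (Pi.single (Sum.inr 0) 1) ≠ 0 := by
  rw [coe_qfMinus, Cfsg.quadFormMinus]
  simp

theorem card_pgo_minus_even (h2 : (2 : F) = 0) :
    Nat.card (Phi (Cfsg.quadFormMinus m F a b)).range =
      2 * Nat.card (POmega F (Cfsg.quadFormMinus m F a b)) := by
  have := card_range_Phi_even h2 (qfMinus m F a b)
    (Cfsg.Agent.Lib.Helper14_POmegaSimple.nondegenerate_qfMinus m a b hab) (card_minus m hm)
    (nonsing_minus a b)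
  rw [coe_qfMinus] at this
  exact this

theorem card_pgo_minus_odd (hodd : Odd (Fintype.card F)) :
    Nat.card (Phi (Cfsg.quadFormMinus m F a b)).range =
      (if Even m ∧ Fintype.card F % 4 = 3 then 8 else 4) *
        Nat.card (POmega F (Cfsg.quadFormMinus m F a b)) := by
  have h2 : (2 : F) ≠ 0 := two_ne_zero_of_odd hodd
  have hQ := Cfsg.Agent.Lib.Helper14_POmegaSimple.nondegenerate_qfMinus (F := F) m a b hab
  have hn := card_minus m hm
  obtain ⟨φ, hφs, hφk⟩ := Cfsg.Agent.S2726.result hodd hm a b hab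
  have h27 := Cfsg.Agent.S2727.result hodd hm a b hab
  have hSG : psoAut F (Cfsg.quadFormMinus m F a b) ≤ pgoAut F (Cfsg.quadFormMinus m F a b) := by
    rw [psoAut_eq, pgoAut_eq]
    rintro _ ⟨g, -, rfl⟩
    exact ⟨g, rfl⟩
  have hIS : Inn (POmega F (Cfsg.quadFormMinus m F a b)) ≤
      psoAut F (Cfsg.quadFormMinus m F a b) := by
    rw [psoAut_eq_map, inn_eq_map]
    apply Subgroup.map_mono
    exact Abelianization.commutator_subset_ker _
  have h1 : Nat.card (pgoAut F (Cfsg.quadFormMinus m F a b)) =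
      4 * Nat.card (psoAut F (Cfsg.quadFormMinus m F a b)) := by
    rw [Subgroup.card_eq_card_quotient_mul_card_subgroup φ.ker,
      Nat.card_congr (QuotientGroup.quotientKerEquivOfSurjective φ hφs).toEquiv, hφk,
      Nat.card_congr (Subgroup.subgroupOfEquivOfLe hSG).toEquiv]
    congr 1
    rw [Nat.card_eq_fintype_card]
    rfl
  have h3 := Subgroup.relIndex_mul_relIndex
    (⊥ : Subgroup (MulAut (POmega F (Cfsg.quadFormMinus m F a b))))
    (Inn (POmega F (Cfsg.quadFormMinus m F a b))) (psoAut F (Cfsg.quadFormMinus m F a b))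
    bot_le hIS
  have hci := Cfsg.Agent.Lib.Helper44_OrthOddOut.card_inn (qfMinus m F a b) hQ hn
  rw [coe_qfMinus] at hci
  rw [Subgroup.relIndex_bot_left, Subgroup.relIndex_bot_left, hci] at h3
  rw [← pgoAut_eq, h1, ← h3]
  split_ifs with hc
  · rw [h27.1 hc]
    ring
  · rw [h27.2 hc]
    ring

theorem card_aut_minus_eq :
    Nat.card (MulAut (POmega F (Cfsg.quadFormMinus m F a b))) =
      Nat.card (Phi (Cfsg.quadFormMinus m F a b)).range * Nat.card (RingAut F) := by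
  have := (setup_minus hm a b hab).card_aut
  rw [coe_qfMinus] at this
  exact this

/-- `|Aut(PΩ⁻_{2m+2}(q))|`, `q` even. -/
theorem card_aut_minus_even (h2 : (2 : F) = 0) :
    Nat.card (MulAut (POmega F (Cfsg.quadFormMinus m F a b))) =
      2 * Nat.card (RingAut F) * Nat.card (POmega F (Cfsg.quadFormMinus m F a b)) := by
  rw [card_aut_minus_eq hm a b hab, card_pgo_minus_even hm a b hab h2]
  ring

/-- `|Aut(PΩ⁻_{2m+2}(q))|`, `q` odd. -/
theorem card_aut_minus_odd (hodd : Odd (Fintype.card F)) :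
    Nat.card (MulAut (POmega F (Cfsg.quadFormMinus m F a b))) =
      (if Even m ∧ Fintype.card F % 4 = 3 then 8 else 4) * Nat.card (RingAut F) *
        Nat.card (POmega F (Cfsg.quadFormMinus m F a b)) := by
  rw [card_aut_minus_eq hm a b hab, card_pgo_minus_odd hm a b hab hodd]
  ring

end minus

end Cfsg.Agent.Lib.Helper14_OrthMinusAut
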