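import Mathlib
import Cfsg.Agent.Lib.Helper13_GUSpDefs
import Cfsg.Agent.Lib.Helper13_HermBridge
import Cfsg.Agent.Lib.Helper5_GUOrder

/-!
# S5976 package PC1 (helper3): `GU_d(q)` embeds in the centraliser of `Theta0` in `Sp_2d(q)`

`E = QuadraticAlgebra F Δ 0` is a field with `q²` elements (`Δ` a non-square), `z ^ q` is the
conjugation `a + bω ↦ a - bω`, and `M = A + ωB ↦ fromBlocks A (Δ•B) B A` is an injective
multiplicative map from `d × d` matrices over `E` to `2d × 2d` matrices over `F` which sends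
unitary matrices to symplectic matrices commuting with `Theta0 d Δ`.
-/

set_option autoImplicit false
set_option linter.unusedSectionVars false

namespace Cfsg.Agent.Lib.Helper3_GUSp_PC1

open Matrix Cfsg.Agent.Lib.Helper13_GUSpDefs

section field

variable {F : Type*} [Field F] [Fintype F] {Δ : F}

/-- the quadratic extension -/
abbrev QE (F : Type*) [Field F] (Δ : F) : Type _ := QuadraticAlgebra F Δ 0

theorem fact_of_not_isSquare (hΔ : ¬ IsSquare Δ) : Fact (∀ r : F, r ^ 2 ≠ Δ + 0 * r) :=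
  ⟨fun r hr => hΔ ⟨r, by rw [← sq, hr]; ring⟩⟩

noncomputable instance instFintypeQE : Fintype (QE F Δ) :=
  Fintype.ofEquiv (F × F) (QuadraticAlgebra.equivProd Δ 0).symm

theorem card_QE {q : ℕ} (hq : Fintype.card F = q) : Fintype.card (QE F Δ) = q ^ 2 := by
  rw [Fintype.card_congr (QuadraticAlgebra.equivProd Δ 0), Fintype.card_prod, hq, sq]

theorem ringChar_ne_two (h2 : (2 : F) ≠ 0) : ringChar F ≠ 2 := by
  intro h
  apply h2
  have := ringChar.Nat.cast_ringChar (R := F)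
  rw [h] at this
  exact_mod_cast this

/-- the generator -/
def om (F : Type*) [Field F] (Δ : F) : QE F Δ := ⟨0, 1⟩

theorem om_mul_om : om F Δ * om F Δ = QuadraticAlgebra.C Δ := by
  ext <;> simp [om]

theorem eq_add_mul_om (z : QE F Δ) :
    z = QuadraticAlgebra.C z.re + QuadraticAlgebra.C z.im * om F Δ := by
  ext <;> simp [om]

theorem om_pow_card {q : ℕ} (hq : Fintype.card F = q) (h2 : (2 : F) ≠ 0) (hΔ : ¬ IsSquare Δ) :
    om F Δ ^ q = - om F Δ := by
  have hc := ringChar_ne_two h2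
  have hodd := FiniteField.odd_card_of_char_ne_two hc
  rw [hq] at hodd
  have hΔ0 : Δ ≠ 0 := fun h => hΔ (h ▸ ⟨0, by simp⟩)
  have hpow : Δ ^ (q / 2) = -1 := by
    rcases FiniteField.pow_dichotomy hc hΔ0 with h | h
    · exact absurd ((FiniteField.isSquare_iff hc hΔ0).mpr h) hΔ
    · rwa [hq] at h
  have hq2 : q = 2 * (q / 2) + 1 := by omega
  rw [hq2, pow_succ, pow_mul, sq, om_mul_om, ← QuadraticAlgebra.C_pow, hpow]
  ext <;> simp [om]

theorem pow_card_eq {q : ℕ} (hq : Fintype.card F = q) (h2 : (2 : F) ≠ 0) (hΔ : ¬ IsSquare Δ)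
    (z : QE F Δ) : z ^ q = ⟨z.re, -z.im⟩ := by
  have := fact_of_not_isSquare hΔ
  have hF : Fintype.card (QE F Δ) = q ^ 2 := card_QE hq
  have hC : ∀ a : F, (QuadraticAlgebra.C a : QE F Δ) ^ q = QuadraticAlgebra.C a := by
    intro a
    rw [← QuadraticAlgebra.C_pow, ← hq, FiniteField.pow_card]
  conv_lhs => rw [eq_add_mul_om z]
  have h1 := map_add (Cfsg.Agent.Lib.Helper13_HermBridge.frobQ hF)
    (QuadraticAlgebra.C z.re) (QuadraticAlgebra.C z.im * om F Δ)
  simp only [Cfsg.Agent.Lib.Helper13_HermBridge.frobQ_apply] at h1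
  rw [h1, mul_pow, hC, hC, om_pow_card hq h2 hΔ]
  ext <;> simp [om]

end field

section mat

variable {F : Type*} [Field F] {Δ : F} {d : ℕ}

/-- real part of a matrix -/
def reM (M : Matrix (Fin d) (Fin d) (QE F Δ)) : Matrix (Fin d) (Fin d) F := M.map (fun z => z.re)

/-- imaginary part of a matrix -/
def imM (M : Matrix (Fin d) (Fin d) (QE F Δ)) : Matrix (Fin d) (Fin d) F := M.map (fun z => z.im)

theorem re_sum {ι : Type*} (s : Finset ι) (f : ι → QE F Δ) :
    (∑ i ∈ s, f i).re = ∑ i ∈ s, (f i).re :=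
  map_sum (QuadraticAlgebra.reₗ (R := F) (a := Δ) (b := 0)) f s

theorem im_sum {ι : Type*} (s : Finset ι) (f : ι → QE F Δ) :
    (∑ i ∈ s, f i).im = ∑ i ∈ s, (f i).im :=
  map_sum (QuadraticAlgebra.imₗ (R := F) (a := Δ) (b := 0)) f s

theorem reM_mul (M N : Matrix (Fin d) (Fin d) (QE F Δ)) :
    reM (M * N) = reM M * reM N + Δ • (imM M * imM N) := by
  ext i j
  simp only [reM, imM, Matrix.map_apply, Matrix.mul_apply, Matrix.add_apply, Matrix.smul_apply,
    re_sum, QuadraticAlgebra.re_mul, Finset.sum_add_distrib, smul_eq_mul, Finset.mul_sum]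
  congr 1
  apply Finset.sum_congr rfl
  intro k _
  ring

theorem imM_mul (M N : Matrix (Fin d) (Fin d) (QE F Δ)) :
    imM (M * N) = reM M * imM N + imM M * reM N := by
  ext i j
  simp only [reM, imM, Matrix.map_apply, Matrix.mul_apply, Matrix.add_apply,
    im_sum, QuadraticAlgebra.im_mul, Finset.sum_add_distrib, zero_mul, add_zero]

theorem reM_one : reM (1 : Matrix (Fin d) (Fin d) (QE F Δ)) = 1 := by
  ext i j
  by_cases h : i = j <;> simp [reM, Matrix.one_apply, h, QuadraticAlgebra.re_one]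

theorem imM_one : imM (1 : Matrix (Fin d) (Fin d) (QE F Δ)) = 0 := by
  ext i j
  by_cases h : i = j <;> simp [imM, h, QuadraticAlgebra.im_one]

theorem reM_transpose (M : Matrix (Fin d) (Fin d) (QE F Δ)) : reM Mᵀ = (reM M)ᵀ := rfl

theorem imM_transpose (M : Matrix (Fin d) (Fin d) (QE F Δ)) : imM Mᵀ = (imM M)ᵀ := rfl

/-- restriction of scalars on matrices -/
def Psi (M : Matrix (Fin d) (Fin d) (QE F Δ)) : Matrix (Fin d ⊕ Fin d) (Fin d ⊕ Fin d) F :=
  fromBlocks (reM M) (Δ • imM M) (imM M) (reM M)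

theorem Psi_one : Psi (1 : Matrix (Fin d) (Fin d) (QE F Δ)) = 1 := by
  rw [Psi, reM_one, imM_one, smul_zero, fromBlocks_one]

theorem Psi_mul (M N : Matrix (Fin d) (Fin d) (QE F Δ)) : Psi (M * N) = Psi M * Psi N := by
  simp only [Psi, fromBlocks_multiply, reM_mul, imM_mul, Matrix.smul_mul, Matrix.mul_smul,
    smul_add]
  congr 1
  · rw [add_comm]
  · rw [add_comm]

theorem Psi_injective : Function.Injective (Psi : Matrix (Fin d) (Fin d) (QE F Δ) → _) := by
  intro M N h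
  simp only [Psi, fromBlocks_inj] at h
  ext i j
  · exact congrFun (congrFun h.1 i) j
  · exact congrFun (congrFun h.2.2.1 i) j

theorem Psi_comm_Theta0 (M : Matrix (Fin d) (Fin d) (QE F Δ)) :
    Psi M * Theta0 d Δ = Theta0 d Δ * Psi M := by
  simp only [Psi, Theta0, fromBlocks_multiply]
  simp

end mat

section main

variable {F : Type*} [Field F] [Fintype F] {Δ : F} {d : ℕ}

theorem reM_map_pow {q : ℕ} (hq : Fintype.card F = q) (h2 : (2 : F) ≠ 0) (hΔ : ¬ IsSquare Δ)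
    (M : Matrix (Fin d) (Fin d) (QE F Δ)) : reM (M.map (fun x => x ^ q)) = reM M := by
  ext i j
  simp only [reM, Matrix.map_apply, pow_card_eq hq h2 hΔ]

theorem imM_map_pow {q : ℕ} (hq : Fintype.card F = q) (h2 : (2 : F) ≠ 0) (hΔ : ¬ IsSquare Δ)
    (M : Matrix (Fin d) (Fin d) (QE F Δ)) : imM (M.map (fun x => x ^ q)) = - imM M := by
  ext i j
  simp only [imM, Matrix.map_apply, pow_card_eq hq h2 hΔ, Matrix.neg_apply]

theorem Psi_mem_symplectic {q : ℕ} (hq : Fintype.card F = q) (h2 : (2 : F) ≠ 0)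
    (hΔ : ¬ IsSquare Δ) (M : Matrix (Fin d) (Fin d) (QE F Δ))
    (h : Mᵀ * M.map (fun x => x ^ q) = 1) : Psi M ∈ symplecticGroup (Fin d) F := by
  have hre := congrArg reM h
  have him := congrArg imM h
  rw [reM_mul, reM_one, reM_map_pow hq h2 hΔ, imM_map_pow hq h2 hΔ, reM_transpose,
    imM_transpose, Matrix.mul_neg, smul_neg, ← sub_eq_add_neg] at hre
  rw [imM_mul, imM_one, reM_map_pow hq h2 hΔ, imM_map_pow hq h2 hΔ, reM_transpose,
    imM_transpose, Matrix.mul_neg, neg_add_eq_sub, sub_eq_zero] at him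
  rw [Psi, SymplecticGroup.fromBlocks_mem_iff]
  refine ⟨him.symm, ?_, ?_⟩
  · rw [Matrix.transpose_smul, Matrix.smul_mul, Matrix.mul_smul, him]
  · rw [Matrix.mul_smul]
    exact hre

/-- the centraliser of `Theta0` in the symplectic group -/
def centTheta (d : ℕ) (Δ : F) : Subgroup (symplecticGroup (Fin d) F) where
  carrier := {g | (g : Matrix (Fin d ⊕ Fin d) (Fin d ⊕ Fin d) F) * Theta0 d Δ =
    Theta0 d Δ * (g : Matrix (Fin d ⊕ Fin d) (Fin d ⊕ Fin d) F)}
  mul_mem' := by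
    intro a b ha hb
    simp only [Set.mem_ofPred_eq] at ha hb ⊢
    rw [Submonoid.coe_mul, Matrix.mul_assoc, hb, ← Matrix.mul_assoc, ha, Matrix.mul_assoc]
  one_mem' := by simp
  inv_mem' := by
    intro a ha
    simp only [Set.mem_ofPred_eq] at ha ⊢
    have h1 : ((a⁻¹ : symplecticGroup (Fin d) F) : Matrix (Fin d ⊕ Fin d) (Fin d ⊕ Fin d) F) *
        (a : Matrix (Fin d ⊕ Fin d) (Fin d ⊕ Fin d) F) = 1 := by
      rw [← Submonoid.coe_mul, inv_mul_cancel, Submonoid.coe_one]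
    have h2 : (a : Matrix (Fin d ⊕ Fin d) (Fin d ⊕ Fin d) F) *
        ((a⁻¹ : symplecticGroup (Fin d) F) : Matrix (Fin d ⊕ Fin d) (Fin d ⊕ Fin d) F) = 1 := by
      rw [← Submonoid.coe_mul, mul_inv_cancel, Submonoid.coe_one]
    calc ((a⁻¹ : symplecticGroup (Fin d) F) : Matrix (Fin d ⊕ Fin d) (Fin d ⊕ Fin d) F) * Theta0 d Δ
        = ((a⁻¹ : symplecticGroup (Fin d) F) : Matrix (Fin d ⊕ Fin d) (Fin d ⊕ Fin d) F) *
            (Theta0 d Δ * (a : Matrix (Fin d ⊕ Fin d) (Fin d ⊕ Fin d) F)) *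
            ((a⁻¹ : symplecticGroup (Fin d) F) : Matrix (Fin d ⊕ Fin d) (Fin d ⊕ Fin d) F) := by
          rw [Matrix.mul_assoc, Matrix.mul_assoc, h2, Matrix.mul_one]
      _ = Theta0 d Δ *
            ((a⁻¹ : symplecticGroup (Fin d) F) : Matrix (Fin d ⊕ Fin d) (Fin d ⊕ Fin d) F) := by
          rw [← ha, ← Matrix.mul_assoc, h1, Matrix.one_mul]

variable [Fact (∀ r : F, r ^ 2 ≠ Δ + 0 * r)]

/-- the embedding of the unitary group in the centraliser -/
noncomputable def embGU {q : ℕ} (hq : Fintype.card F = q) (h2 : (2 : F) ≠ 0) (hΔ : ¬ IsSquare Δ)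
    (d : ℕ) : Cfsg.GU d (QE F Δ) q →* centTheta d Δ where
  toFun g := ⟨⟨Psi (g.1 : Matrix (Fin d) (Fin d) (QE F Δ)),
    Psi_mem_symplectic hq h2 hΔ _
      ((Cfsg.Agent.Lib.Helper13_HermBridge.mem_GU_iff_gram (card_QE hq) g.1).mp g.2)⟩,
    Psi_comm_Theta0 _⟩
  map_one' := by
    apply Subtype.ext
    apply Subtype.ext
    exact Psi_one
  map_mul' a b := by
    apply Subtype.ext
    apply Subtype.ext
    exact Psi_mul _ _

theorem embGU_injective {q : ℕ} (hq : Fintype.card F = q) (h2 : (2 : F) ≠ 0) (hΔ : ¬ IsSquare Δ)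
    (d : ℕ) : Function.Injective (embGU hq h2 hΔ d) := by
  intro a b h
  have h1 := congrArg (fun x : centTheta d Δ => ((x : symplecticGroup (Fin d) F) :
    Matrix (Fin d ⊕ Fin d) (Fin d ⊕ Fin d) F)) h
  exact Subtype.ext (Units.ext (Psi_injective h1))

end main

/-- PC1: the centraliser in Sp of the standard `θ` contains a copy of `GU_d(q)` -/
theorem PC1 {F : Type*} [Field F] [Fintype F] {q : ℕ} (hq : Fintype.card F = q) (h2 : (2 : F) ≠ 0)
    (d : ℕ) (Δ : F) (hΔ : ¬ IsSquare Δ) :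
    (q ^ (d * (d - 1) / 2) * ∏ i ∈ Finset.range d, (if Even i then q ^ (i + 1) + 1 else q ^ (i + 1) - 1)) ∣
      Nat.card {g : symplecticGroup (Fin d) F //
        (g : Matrix (Fin d ⊕ Fin d) (Fin d ⊕ Fin d) F) * Theta0 d Δ =
          Theta0 d Δ * (g : Matrix (Fin d ⊕ Fin d) (Fin d ⊕ Fin d) F)} := by
  have := fact_of_not_isSquare hΔ
  rw [← Cfsg.Agent.Lib.Helper5_GUOrder.card_GU (card_QE (Δ := Δ) hq) d]
  change _ ∣ Nat.card (centTheta d Δ)
  exact Subgroup.card_dvd_of_injective (embGU hq h2 hΔ d) (embGU_injective hq h2 hΔ d)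

end Cfsg.Agent.Lib.Helper3_GUSp_PC1
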