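import Mathlib
import Cfsg.Prelude.Def_GeometricClasses
import Cfsg.Agent.Lib.Helper3_GUSp_PC1

/-!
# Definitions for S5977 / S5978 (helper43): orthogonal groups and quadratic field extensions

`K = F[θ]` with `θ` self-adjoint for the polar form of `Q` and `θ² = Δ` a non-square.
`IsSA Q θ` : self-adjointness; `centO Q θ` : the isometries commuting with `θ`;
`rbasis` : the `F`-basis `e_k, ω e_k` of `(Fin d → F(√Δ))`.
-/

set_option autoImplicit false

namespace Cfsg.Agent.Lib.Helper43_OrthExtDefs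

open Matrix Cfsg.Agent.Lib.Helper3_GUSp_PC1

variable {F : Type*} [Field F] {ι : Type} [Fintype ι] [DecidableEq ι]

/-- `θ` is self-adjoint for the polar form of `Q` -/
def IsSA (Q : (ι → F) → F) (θ : Matrix ι ι F) : Prop :=
  ∀ u v : ι → F, QuadraticMap.polar Q (θ *ᵥ u) v = QuadraticMap.polar Q u (θ *ᵥ v)

/-- the isometries of `Q` commuting with `θ` -/
def centO (Q : (ι → F) → F) (θ : Matrix ι ι F) : Subgroup ↥(Cfsg.isometryGroup F Q) where
  carrier := {g | ((g : GL ι F) : Matrix ι ι F) * θ = θ * ((g : GL ι F) : Matrix ι ι F)}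
  mul_mem' := by
    intro a b ha hb
    change _ = _ at ha hb ⊢
    rw [Subgroup.coe_mul, Units.val_mul, mul_assoc, hb, ← mul_assoc, ha, mul_assoc]
  one_mem' := by
    change _ = _
    rw [Subgroup.coe_one, Units.val_one, one_mul, mul_one]
  inv_mem' := by
    intro a ha
    change _ = _ at ha ⊢
    rw [Subgroup.coe_inv]
    have h1 : (((a : GL ι F)⁻¹ : GL ι F) : Matrix ι ι F) * ((a : GL ι F) : Matrix ι ι F) = 1 :=
      Units.inv_mul _
    have h2 : ((a : GL ι F) : Matrix ι ι F) * (((a : GL ι F)⁻¹ : GL ι F) : Matrix ι ι F) = 1 :=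
      Units.mul_inv _
    calc (((a : GL ι F)⁻¹ : GL ι F) : Matrix ι ι F) * θ
        = (((a : GL ι F)⁻¹ : GL ι F) : Matrix ι ι F) * θ *
            (((a : GL ι F) : Matrix ι ι F) * (((a : GL ι F)⁻¹ : GL ι F) : Matrix ι ι F)) := by
          rw [h2, mul_one]
      _ = (((a : GL ι F)⁻¹ : GL ι F) : Matrix ι ι F) * (θ * ((a : GL ι F) : Matrix ι ι F)) *
            (((a : GL ι F)⁻¹ : GL ι F) : Matrix ι ι F) := by
          simp only [mul_assoc]
      _ = θ * (((a : GL ι F)⁻¹ : GL ι F) : Matrix ι ι F) := by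
          rw [← ha, ← mul_assoc, h1, one_mul]

theorem mem_centO (Q : (ι → F) → F) (θ : Matrix ι ι F) (g : ↥(Cfsg.isometryGroup F Q)) :
    g ∈ centO Q θ ↔ ((g : GL ι F) : Matrix ι ι F) * θ = θ * ((g : GL ι F) : Matrix ι ι F) :=
  Iff.rfl

/-- the `F`-basis `e_k, ω e_k` of `Fin d → F(√Δ)` -/
def rbasis (F : Type*) [Field F] (Δ : F) (d : ℕ) : Fin d ⊕ Fin d → (Fin d → QE F Δ) :=
  Sum.elim (fun k => Pi.single k 1) (fun k => Pi.single k (om F Δ))

end Cfsg.Agent.Lib.Helper43_OrthExtDefs
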