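/-
S5977-PE1 (helper43 packages): involutions `x` of an orthogonal group with `det x = 1`, `x ≠ ±1`.
Abstract pieces: `exists_sq_add_mul_sq`, `exists_sa_sq` (self-adjoint square root of `Δ` on an even-dimensional
nondegenerate symmetric bilinear space over a finite field of odd order), `eig`/`proj` (eigenspaces of an involution),
`det_eq_neg_one_pow`, `exists_theta_lin`.
-/
import Mathlib
import Cfsg.Prelude.Def_GeometricClasses
import Cfsg.Agent.Lib.Helper43_OrthExtDefs
import Cfsg.Agent.Lib.Helper44_Refl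

set_option autoImplicit false

namespace Cfsg.Agent.Lib.Helper60_OrthExt_PE1

open Module

variable {F : Type*} [Field F]

/-- a binary diagonal form `s² + c t²`, `c ≠ 0`, over a finite field of odd order is universal -/
theorem exists_sq_add_mul_sq [Fintype F] (h2 : (2 : F) ≠ 0) (c Δ : F) (hc : c ≠ 0) :
    ∃ s t : F, s ^ 2 + c * t ^ 2 = Δ := by
  have hF : Fintype.card F % 2 = 1 := by
    have hchar : ringChar F ≠ 2 := by
      intro h
      have : CharP F 2 := by rw [← h]; exact ringChar.charP F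
      exact h2 (CharTwo.two_eq_zero)
    exact FiniteField.odd_card_of_char_ne_two hchar
  have hdeg : (Polynomial.C c * Polynomial.X ^ 2 - Polynomial.C Δ : Polynomial F).degree = 2 := by
    rw [Polynomial.degree_sub_eq_left_of_degree_lt]
    · rw [Polynomial.degree_C_mul_X_pow 2 hc]; rfl
    · rw [Polynomial.degree_C_mul_X_pow 2 hc]
      exact lt_of_le_of_lt Polynomial.degree_C_le (by norm_num)
  obtain ⟨a, b, hab⟩ : ∃ a b, (Polynomial.X ^ 2 : Polynomial F).eval a +
      (Polynomial.C c * Polynomial.X ^ 2 - Polynomial.C Δ : Polynomial F).eval b = 0 :=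
    FiniteField.exists_root_sum_quadratic (Polynomial.degree_X_pow 2) hdeg hF
  refine ⟨a, b, ?_⟩
  rw [← sub_eq_zero]
  simpa only [Polynomial.eval_C, Polynomial.eval_X, Polynomial.eval_pow, Polynomial.eval_mul,
    Polynomial.eval_sub, ← add_sub_assoc] using hab

/-- Lemma A: a nondegenerate symmetric bilinear space of even dimension over a finite field of odd
characteristic carries a self-adjoint endomorphism with square `Δ`. -/
theorem exists_sa_sq [Fintype F] (h2 : (2 : F) ≠ 0) {W : Type*} [AddCommGroup W] [Module F W]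
    [FiniteDimensional F W] (B : LinearMap.BilinForm F W) (hsymm : ∀ u v, B u v = B v u)
    (hnd : ∀ u, (∀ v, B u v = 0) → u = 0) (k : ℕ) (hk : finrank F W = 2 * k) (Δ : F) :
    ∃ θ : W →ₗ[F] W, (∀ w, θ (θ w) = Δ • w) ∧ ∀ u v, B (θ u) v = B u (θ v) := by
  classical
  have : Invertible (2 : F) := invertibleOfNonzero h2
  have hBsymm : LinearMap.IsSymm B := ⟨fun u v => by simpa using hsymm u v⟩
  obtain ⟨v, hv⟩ := LinearMap.BilinForm.exists_orthogonal_basis hBsymm
  let e : Fin (finrank F W) ≃ Fin k ⊕ Fin k :=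
    (finCongr (hk.trans (two_mul k))).trans finSumFinEquiv.symm
  let w : Basis (Fin k ⊕ Fin k) F W := v.reindex e
  have hw : ∀ a b, a ≠ b → B (w a) (w b) = 0 := by
    intro a b hab
    have : e.symm a ≠ e.symm b := fun h => hab (e.symm.injective h)
    simpa [w] using hv this
  have hdiag : ∀ a, B (w a) (w a) ≠ 0 := by
    intro a h0
    have : w a = 0 := by
      apply hnd
      intro y
      have : B (w a) = 0 := by
        apply w.ext
        intro b
        by_cases hab : a = b
        · subst hab; simpa using h0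
        · simpa using hw a b hab
      rw [this]; rfl
    exact w.ne_zero a this
  have hst : ∀ j : Fin k, ∃ s t : F,
      s ^ 2 + (B (w (Sum.inl j)) (w (Sum.inl j)) / B (w (Sum.inr j)) (w (Sum.inr j))) * t ^ 2 = Δ :=
    fun j => exists_sq_add_mul_sq h2 _ Δ (div_ne_zero (hdiag _) (hdiag _))
  choose s t hst using hst
  set a : Fin k → F := fun j => B (w (Sum.inl j)) (w (Sum.inl j)) with ha
  set b : Fin k → F := fun j => B (w (Sum.inr j)) (w (Sum.inr j)) with hb
  have ha0 : ∀ j, a j ≠ 0 := fun j => hdiag _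
  have hb0 : ∀ j, b j ≠ 0 := fun j => hdiag _
  set u : Fin k → F := fun j => t j * a j / b j with hu
  let θ : W →ₗ[F] W := w.constr F (Sum.elim
    (fun j => s j • w (Sum.inl j) + u j • w (Sum.inr j))
    (fun j => t j • w (Sum.inl j) - s j • w (Sum.inr j)))
  have hθl : ∀ j, θ (w (Sum.inl j)) = s j • w (Sum.inl j) + u j • w (Sum.inr j) := by
    intro j; simp [θ]
  have hθr : ∀ j, θ (w (Sum.inr j)) = t j • w (Sum.inl j) - s j • w (Sum.inr j) := by
    intro j; simp [θ]
  have hkey : ∀ j, s j * s j + t j * u j = Δ := by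
    intro j
    have := hst j
    simp only [hu, ha, hb]
    rw [← this]
    have := hdiag (Sum.inr j)
    field_simp
  refine ⟨θ, ?_, ?_⟩
  · have : θ ∘ₗ θ = Δ • LinearMap.id := by
      apply w.ext
      rintro (j | j)
      · simp only [LinearMap.comp_apply, hθl, map_add, map_smul, hθr, LinearMap.smul_apply,
          LinearMap.id_apply]
        rw [← hkey j]
        module
      · simp only [LinearMap.comp_apply, hθl, map_sub, map_smul, hθr, LinearMap.smul_apply,
          LinearMap.id_apply]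
        rw [← hkey j]
        module
    intro x
    have := congrArg (fun f => f x) this
    simpa using this
  · have : B.comp θ LinearMap.id = B.comp LinearMap.id θ := by
      apply LinearMap.BilinForm.ext_basis w
      obtain ⟨D, hD⟩ : ∃ D : Fin k ⊕ Fin k → F, ∀ x, B (w x) (w x) = D x := ⟨_, fun _ => rfl⟩
      have hB : ∀ x y, B (w x) (w y) = if x = y then D x else 0 := by
        intro x y
        by_cases hxy : x = y
        · subst hxy; simp [hD]
        · simp [hxy, hw x y hxy]
      have hub : ∀ j, u j * D (Sum.inr j) = t j * D (Sum.inl j) := by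
        intro j
        rw [← hD, ← hD]
        simp only [hu, ha, hb]
        have := hdiag (Sum.inr j)
        field_simp
      rintro (i | i) (j | j)
      · simp only [LinearMap.BilinForm.comp_apply, LinearMap.id_apply, hθl, map_add, map_smul,
          LinearMap.add_apply, LinearMap.smul_apply, hB, smul_eq_mul]
        by_cases hij : i = j
        · subst hij; simp
        · simp [hij]
      · simp only [LinearMap.BilinForm.comp_apply, LinearMap.id_apply, hθl, hθr, map_add, map_sub,
          map_smul, LinearMap.add_apply, LinearMap.smul_apply, hB, smul_eq_mul]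
        by_cases hij : i = j
        · subst hij
          have := hub i
          simp [this]
        · simp [hij]
      · simp only [LinearMap.BilinForm.comp_apply, LinearMap.id_apply, hθl, hθr, map_add, map_sub,
          map_smul, LinearMap.sub_apply, LinearMap.smul_apply, hB, smul_eq_mul]
        by_cases hij : i = j
        · subst hij
          have := hub i
          simp [this]
        · simp [hij]
      · simp only [LinearMap.BilinForm.comp_apply, LinearMap.id_apply, hθr, map_sub, map_smul,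
          LinearMap.sub_apply, LinearMap.smul_apply, hB, smul_eq_mul]
        by_cases hij : i = j
        · subst hij; simp
        · simp [hij]
    intro x y
    have := congrArg (fun f => f x y) this
    simpa using this

section Invol

variable {V : Type*} [AddCommGroup V] [Module F V]

/-- the `ε`-eigenspace of `X` -/
def eig (X : V →ₗ[F] V) (ε : F) : Submodule F V := LinearMap.ker (X - ε • LinearMap.id)

theorem mem_eig {X : V →ₗ[F] V} {ε : F} {v : V} : v ∈ eig X ε ↔ X v = ε • v := by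
  simp [eig, sub_eq_zero]

/-- the projection `(1 + ε X)/2` -/
def proj (X : V →ₗ[F] V) (ε : F) : V →ₗ[F] V := (2 : F)⁻¹ • (LinearMap.id + ε • X)

theorem proj_apply (X : V →ₗ[F] V) (ε : F) (v : V) : proj X ε v = (2 : F)⁻¹ • (v + ε • X v) := by
  simp [proj]

variable {X : V →ₗ[F] V} (hXX : ∀ v, X (X v) = v)

include hXX in
theorem proj_mem {ε : F} (hε : ε * ε = 1) (v : V) : proj X ε v ∈ eig X ε := by
  rw [mem_eig, proj_apply, map_smul, map_add, map_smul, hXX, smul_comm ε, smul_add ε, smul_smul,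
    hε, one_smul, add_comm]

theorem proj_add (h2 : (2 : F) ≠ 0) (ε : F) (v : V) : proj X ε v + proj X (-ε) v = v := by
  rw [proj_apply, proj_apply, ← smul_add]
  have : v + ε • X v + (v + -ε • X v) = (2 : F) • v := by
    rw [two_smul, neg_smul]; abel
  rw [this, smul_smul, inv_mul_cancel₀ h2, one_smul]

theorem proj_of_mem (h2 : (2 : F) ≠ 0) {ε : F} (hε : ε * ε = 1) {v : V} (hv : v ∈ eig X ε) :
    proj X ε v = v := by
  rw [proj_apply, mem_eig.1 hv, smul_smul, hε, one_smul, ← two_smul F v, smul_smul,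
    inv_mul_cancel₀ h2, one_smul]

theorem proj_of_mem_neg {ε : F} (hε : ε * ε = 1) {v : V} (hv : v ∈ eig X ε) :
    proj X (-ε) v = 0 := by
  rw [proj_apply, mem_eig.1 hv, smul_smul, neg_mul, hε, neg_one_smul, add_neg_cancel, smul_zero]

variable (B : LinearMap.BilinForm F V) (hXB : ∀ u v, B (X u) (X v) = B u v)

include hXB in
theorem eig_ortho (h2 : (2 : F) ≠ 0) {ε : F} (hε : ε * ε = 1) {u v : V} (hu : u ∈ eig X ε)
    (hv : v ∈ eig X (-ε)) : B u v = 0 := by
  have h1 := hXB u v
  rw [mem_eig.1 hu, mem_eig.1 hv, map_smul, map_smul, LinearMap.smul_apply, smul_eq_mul,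
    smul_eq_mul, ← mul_assoc, neg_mul, hε] at h1
  have h3 : (2 : F) * B u v = 0 := by linear_combination -h1
  exact (mul_eq_zero.1 h3).resolve_left h2

include hXX hXB in
theorem eig_nondeg (h2 : (2 : F) ≠ 0) (hnd : ∀ u, (∀ v, B u v = 0) → u = 0) {ε : F}
    (hε : ε * ε = 1) (u : eig X ε) (hu : ∀ v : eig X ε, B u v = 0) : u = 0 := by
  apply Subtype.ext
  apply hnd
  intro v
  rw [← proj_add h2 ε v, map_add]
  have h1 := hu ⟨proj X ε v, proj_mem hXX hε v⟩
  have hε' : (-ε) * (-ε) = 1 := by rw [neg_mul_neg, hε]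
  have h3 := eig_ortho B hXB h2 hε u.2 (proj_mem hXX hε' v)
  simp only at h1
  rw [h1, h3, add_zero]

include hXX in
theorem isCompl_eig (h2 : (2 : F) ≠ 0) : IsCompl (eig X 1) (eig X (-1)) := by
  constructor
  · rw [Submodule.disjoint_def]
    intro v h1 h3
    have e1 := mem_eig.1 h1
    have e2 := mem_eig.1 h3
    rw [e1, one_smul, neg_one_smul] at e2
    have h4 : (2 : F) • v = 0 := by
      rw [two_smul]
      nth_rewrite 1 [e2]
      exact neg_add_cancel v
    exact (smul_eq_zero.1 h4).resolve_left h2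
  · rw [codisjoint_iff, eq_top_iff]
    intro v _
    rw [← proj_add h2 1 v]
    exact Submodule.add_mem_sup (proj_mem hXX (by ring) v) (proj_mem hXX (by ring) v)

include hXX in
theorem finrank_eig_add [FiniteDimensional F V] (h2 : (2 : F) ≠ 0) :
    finrank F (eig X 1) + finrank F (eig X (-1)) = finrank F V :=
  Submodule.finrank_add_eq_of_isCompl (isCompl_eig hXX h2)

include hXX in
theorem det_eq_neg_one_pow [FiniteDimensional F V] (h2 : (2 : F) ≠ 0) :
    LinearMap.det X = (-1) ^ finrank F (eig X (-1)) := by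
  classical
  have hc := isCompl_eig hXX h2
  let b₁ := Module.finBasis F (eig X 1)
  let b₂ := Module.finBasis F (eig X (-1))
  let b : Basis (Fin (finrank F (eig X 1)) ⊕ Fin (finrank F (eig X (-1)))) F V :=
    (b₁.prod b₂).map (Submodule.prodEquivOfIsCompl _ _ hc)
  have hbl : ∀ i, b (Sum.inl i) = (b₁ i : V) := by
    intro i
    simp [b, Submodule.coe_prodEquivOfIsCompl']
  have hbr : ∀ i, b (Sum.inr i) = (b₂ i : V) := by
    intro i
    simp [b, Submodule.coe_prodEquivOfIsCompl']
  have hmat : LinearMap.toMatrix b b X =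
      Matrix.diagonal (Sum.elim (fun _ => (1 : F)) (fun _ => (-1 : F))) := by
    ext i j
    rw [LinearMap.toMatrix_apply, Matrix.diagonal_apply]
    rcases j with j | j
    · rw [hbl, mem_eig.1 (b₁ j).2, one_smul, ← hbl, Basis.repr_self, Finsupp.single_apply]
      by_cases hij : Sum.inl j = i
      · subst hij; simp
      · rw [if_neg hij, if_neg (fun h => hij h.symm)]
    · rw [hbr, mem_eig.1 (b₂ j).2, ← hbr, map_smul, Basis.repr_self, Finsupp.smul_apply,
        Finsupp.single_apply]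
      by_cases hij : Sum.inr j = i
      · subst hij; simp
      · rw [if_neg hij, if_neg (fun h => hij h.symm)]; simp
  rw [← LinearMap.det_toMatrix b, hmat, Matrix.det_diagonal, Fintype.prod_sum_type]
  simp

include hXX hXB in
/-- abstract form of PE1: a self-adjoint `θ` with `θ² = Δ` commuting with the isometric involution `X` -/
theorem exists_theta_lin [Fintype F] [FiniteDimensional F V] (h2 : (2 : F) ≠ 0)
    (hsymm : ∀ u v, B u v = B v u) (hnd : ∀ u, (∀ v, B u v = 0) → u = 0) (d : ℕ)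
    (hdim : finrank F V = 2 * d) (hdet : LinearMap.det X = 1) (Δ : F) :
    ∃ θ : V →ₗ[F] V, (∀ v, θ (θ v) = Δ • v) ∧ (∀ u v, B (θ u) v = B u (θ v)) ∧
      (∀ v, X (θ v) = θ (X v)) := by
  classical
  have h11 : (1 : F) * 1 = 1 := one_mul 1
  have hnn : (-1 : F) * (-1) = 1 := by ring
  have hne : (-1 : F) ≠ 1 := by
    intro h
    apply h2
    have : (2 : F) = 1 - (-1) := by ring
    rw [this, h, sub_self]
  have heven₂ : Even (finrank F (eig X (-1))) := by
    have := det_eq_neg_one_pow hXX h2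
    rw [hdet] at this
    exact (neg_one_pow_eq_one_iff_even hne).1 this.symm
  have heven₁ : Even (finrank F (eig X 1)) := by
    have h := finrank_eig_add hXX h2
    rw [hdim] at h
    have h3 : Even (finrank F (eig X 1) + finrank F (eig X (-1))) := by rw [h]; exact even_two_mul d
    exact (Nat.even_add.1 h3).2 heven₂
  obtain ⟨k₁, hk₁⟩ := heven₁
  obtain ⟨k₂, hk₂⟩ := heven₂
  rw [← two_mul] at hk₁ hk₂
  obtain ⟨θ₁, hθ₁sq, hθ₁sa⟩ := exists_sa_sq h2 (B.restrict (eig X 1))
    (fun u v => hsymm u v) (fun u hu => eig_nondeg hXX B hXB h2 hnd h11 u hu) k₁ hk₁ Δ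
  obtain ⟨θ₂, hθ₂sq, hθ₂sa⟩ := exists_sa_sq h2 (B.restrict (eig X (-1)))
    (fun u v => hsymm u v) (fun u hu => eig_nondeg hXX B hXB h2 hnd hnn u hu) k₂ hk₂ Δ
  let P₁ : V →ₗ[F] eig X 1 := (proj X 1).codRestrict (eig X 1) (proj_mem hXX h11)
  let P₂ : V →ₗ[F] eig X (-1) := (proj X (-1)).codRestrict (eig X (-1)) (proj_mem hXX hnn)
  let θ : V →ₗ[F] V := (eig X 1).subtype ∘ₗ θ₁ ∘ₗ P₁ + (eig X (-1)).subtype ∘ₗ θ₂ ∘ₗ P₂
  have hθ_apply : ∀ v, θ v = (θ₁ (P₁ v) : V) + (θ₂ (P₂ v) : V) := fun v => rfl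
  have hP₁ : ∀ w : eig X 1, P₁ (w : V) = w := fun w => Subtype.ext (proj_of_mem h2 h11 w.2)
  have hP₂ : ∀ w : eig X (-1), P₂ (w : V) = w := fun w => Subtype.ext (proj_of_mem h2 hnn w.2)
  have hP₁' : ∀ w : eig X (-1), P₁ (w : V) = 0 := fun w => Subtype.ext (by
    have := proj_of_mem_neg hnn w.2
    rw [neg_neg] at this
    exact this)
  have hP₂' : ∀ w : eig X 1, P₂ (w : V) = 0 := fun w => Subtype.ext (proj_of_mem_neg h11 w.2)
  have hθ₁ : ∀ w : eig X 1, θ (w : V) = (θ₁ w : V) := by
    intro w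
    rw [hθ_apply, hP₁, hP₂', map_zero, Submodule.coe_zero, add_zero]
  have hθ₂ : ∀ w : eig X (-1), θ (w : V) = (θ₂ w : V) := by
    intro w
    rw [hθ_apply, hP₂, hP₁', map_zero, Submodule.coe_zero, zero_add]
  have hdecomp : ∀ v : V, v = (P₁ v : V) + (P₂ v : V) := fun v => (proj_add h2 1 v).symm
  refine ⟨θ, ?_, ?_, ?_⟩
  · intro v
    rw [hθ_apply v, map_add, hθ₁, hθ₂, hθ₁sq, hθ₂sq]
    nth_rewrite 3 [hdecomp v]
    rw [smul_add]
    rfl
  · have hpure : ∀ (u₁ : eig X 1) (u₂ : eig X (-1)) (v₁ : eig X 1) (v₂ : eig X (-1)),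
        B (θ ((u₁ : V) + (u₂ : V))) ((v₁ : V) + (v₂ : V)) =
          B ((u₁ : V) + (u₂ : V)) (θ ((v₁ : V) + (v₂ : V))) := by
      intro u₁ u₂ v₁ v₂
      have o12 : ∀ (a : eig X 1) (b : eig X (-1)), B (a : V) (b : V) = 0 :=
        fun a b => eig_ortho B hXB h2 h11 a.2 b.2
      have o21 : ∀ (a : eig X 1) (b : eig X (-1)), B (b : V) (a : V) = 0 :=
        fun a b => by rw [hsymm]; exact o12 a b
      simp only [map_add, hθ₁, hθ₂, LinearMap.add_apply, o12, o21, add_zero, zero_add]
      have e1 := hθ₁sa u₁ v₁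
      have e2 := hθ₂sa u₂ v₂
      simp only [LinearMap.BilinForm.restrict_apply, LinearMap.domRestrict_apply] at e1 e2
      rw [e1, e2]
    intro u v
    have := hpure (P₁ u) (P₂ u) (P₁ v) (P₂ v)
    rwa [← hdecomp u, ← hdecomp v] at this
  · intro v
    have hX₁ : ∀ w : eig X 1, X (w : V) = w := fun w => by rw [mem_eig.1 w.2, one_smul]
    have hX₂ : ∀ w : eig X (-1), X (w : V) = -w := fun w => by rw [mem_eig.1 w.2, neg_one_smul]
    nth_rewrite 2 [hdecomp v]
    rw [hθ_apply v, map_add, map_add, hX₁, hX₂, hX₁, hX₂, map_add, map_neg, hθ₁, hθ₂]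

end Invol

open Matrix Cfsg.Agent.Lib.Helper43_OrthExtDefs in
/-- PE1: involutions -/
theorem PE1 {F : Type*} [Field F] [Fintype F] (h2 : (2 : F) ≠ 0) {ι : Type} [Fintype ι]
    [DecidableEq ι] (d : ℕ) (hcard : Fintype.card ι = 2 * d) (Q : QuadraticForm F (ι → F))
    (hQ : (QuadraticMap.polarBilin Q).Nondegenerate) (Δ : F) (x : Matrix ι ι F)
    (hxQ : ∀ v, Q (x *ᵥ v) = Q v) (hxx : x * x = 1) (hdet : x.det = 1) (hne1 : x ≠ 1)
    (hne2 : x ≠ -1) :
    ∃ (θ' : Matrix ι ι F) (ρ : GL ι F), θ' * θ' = Δ • (1 : Matrix ι ι F) ∧ IsSA (⇑Q) θ' ∧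
      x * θ' = θ' * x ∧ ρ ∈ Cfsg.isometryGroup F (⇑Q) ∧ (ρ : Matrix ι ι F).det = -1 ∧
      (ρ : Matrix ι ι F) * x = x * (ρ : Matrix ι ι F) := by
  classical
  let B : LinearMap.BilinForm F (ι → F) := QuadraticMap.polarBilin Q
  have hBapp : ∀ u v, B u v = QuadraticMap.polar (⇑Q) u v := fun u v => rfl
  have hBsymm : ∀ u v, B u v = B v u := fun u v => QuadraticMap.polar_comm _ _ _
  have hBnd : ∀ u, (∀ v, B u v = 0) → u = 0 := hQ.1
  let X : (ι → F) →ₗ[F] (ι → F) := Matrix.toLin' x
  have hXapp : ∀ v, X v = x *ᵥ v := fun v => Matrix.toLin'_apply x v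
  have hXX : ∀ v, X (X v) = v := by
    intro v
    rw [hXapp, hXapp, Matrix.mulVec_mulVec, hxx, Matrix.one_mulVec]
  have hXQ : ∀ v, Q (X v) = Q v := fun v => by rw [hXapp]; exact hxQ v
  have hXB : ∀ u v, B (X u) (X v) = B u v := by
    intro u v
    rw [hBapp, hBapp, QuadraticMap.polar, QuadraticMap.polar, ← map_add, hXQ, hXQ, hXQ]
  have hdim : Module.finrank F (ι → F) = 2 * d := by
    rw [Module.finrank_fintype_fun_eq_card, hcard]
  have hdetX : LinearMap.det X = 1 := by
    rw [LinearMap.det_toLin', hdet]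
  obtain ⟨θ, hθsq, hθsa, hθX⟩ := exists_theta_lin hXX B hXB h2 hBsymm hBnd d hdim hdetX Δ
  -- the reflection
  have hnn : (-1 : F) * (-1) = 1 := by ring
  obtain ⟨w, hwE, hwQ⟩ : ∃ w : ι → F, w ∈ eig X (-1) ∧ Q w ≠ 0 := by
    by_contra hcon0
    have hcon : ∀ w : ι → F, w ∈ eig X (-1) → Q w = 0 :=
      fun w hw => by_contra (fun h => hcon0 ⟨w, hw, h⟩)
    have hB0 : ∀ a b : eig X (-1), B a b = 0 := by
      intro a b
      rw [hBapp, QuadraticMap.polar, hcon _ (Submodule.add_mem _ a.2 b.2), hcon _ a.2, hcon _ b.2]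
      ring
    have hzero : ∀ a : eig X (-1), a = 0 :=
      fun a => eig_nondeg hXX B hXB h2 hBnd hnn a (fun b => hB0 a b)
    apply hne1
    apply Cfsg.Agent.Lib.Helper44_Refl.matrix_ext_mulVec
    intro v
    rw [Matrix.one_mulVec, ← hXapp]
    have h0 := hzero ⟨proj X (-1) v, proj_mem hXX hnn v⟩
    have h1 : proj X (-1) v = 0 := congrArg Subtype.val h0
    rw [proj_apply, smul_eq_zero] at h1
    rcases h1 with h1 | h1
    · exact absurd (inv_eq_zero.1 h1) h2
    · rw [neg_one_smul, ← sub_eq_add_neg, sub_eq_zero] at h1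
      exact h1.symm
  have hXw : x *ᵥ w = -w := by
    rw [← hXapp, mem_eig.1 hwE, neg_one_smul]
  refine ⟨LinearMap.toMatrix' θ, Cfsg.Agent.Lib.Helper44_Refl.reflGL Q w hwQ, ?_, ?_, ?_,
    Cfsg.Agent.Lib.Helper44_Refl.reflGL_mem Q w hwQ,
    Cfsg.Agent.Lib.Helper44_Refl.det_reflectionMatrix Q hwQ, ?_⟩
  · rw [← LinearMap.toMatrix'_comp]
    have : θ ∘ₗ θ = Δ • LinearMap.id :=
      LinearMap.ext fun v => by
        rw [LinearMap.comp_apply, hθsq, LinearMap.smul_apply, LinearMap.id_apply]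
    rw [this, map_smul, LinearMap.toMatrix'_id]
  · intro u v
    rw [LinearMap.toMatrix'_mulVec, LinearMap.toMatrix'_mulVec]
    exact hθsa u v
  · have hx : x = LinearMap.toMatrix' X := (LinearMap.toMatrix'_toLin' x).symm
    rw [hx, ← LinearMap.toMatrix'_comp, ← LinearMap.toMatrix'_comp]
    congr 1
    exact LinearMap.ext fun v => hθX v
  · apply Cfsg.Agent.Lib.Helper44_Refl.matrix_ext_mulVec
    intro v
    show (Cfsg.reflectionMatrix (⇑Q) w * x) *ᵥ v = (x * Cfsg.reflectionMatrix (⇑Q) w) *ᵥ v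
    rw [← Matrix.mulVec_mulVec, ← Matrix.mulVec_mulVec,
      Cfsg.Agent.Lib.Helper44_Refl.reflectionMatrix_mulVec,
      Cfsg.Agent.Lib.Helper44_Refl.reflectionMatrix_mulVec, Matrix.mulVec_sub, Matrix.mulVec_smul,
      hXw]
    have hpol : QuadraticMap.polar (⇑Q) w (x *ᵥ v) = - QuadraticMap.polar (⇑Q) w v := by
      have h1 := hXB w v
      rw [hBapp, hBapp, hXapp, hXapp, hXw, QuadraticMap.polar_neg_left] at h1
      rw [← h1, neg_neg]
    rw [hpol]
    simp

end Cfsg.Agent.Lib.Helper60_OrthExt_PE1
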