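import Mathlib
import Cfsg.Agent.Lib.Helper14_BalAbs
import Cfsg.Agent.Lib.Helper14_BalRoot
import Cfsg.Agent.Lib.Helper14_BalLeaves
import Cfsg.Agent.Lib.Helper14_BalCommon
import Cfsg.Agent.Lib.Helper14_OrthGamma
import Cfsg.Agent.Lib.Helper60_OrthExt_PE1
import Cfsg.Agent.Lib.Helper44_OrthOddOut
import Cfsg.Agent.Lib.Helper14_OrthMinusAut

/-!
# Local balance at a graph involution of `PΩ(Q)`: the isometry-involution case (helper14)
-/

set_option autoImplicit false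
set_option linter.unusedSectionVars false
set_option linter.unusedVariables false

namespace Cfsg.Agent.Lib.Helper14_BalCaseI

open Module Matrix Cfsg Cfsg.Agent.Lib.Helper94_OrthSmall Cfsg.Agent.Lib.Helper14_OmegaSimple
  Cfsg.Agent.Lib.Helper14_BalDefs Cfsg.Agent.Lib.Helper14_BalExt Cfsg.Agent.Lib.Helper14_BalRoot
  Cfsg.Agent.Lib.Helper14_BalAbs Cfsg.Agent.Lib.Helper14_BalLeaves
  Cfsg.Agent.Lib.Helper14_BalCommon
  Cfsg.Agent.Lib.Helper14_AutOmega Cfsg.Agent.Lib.Helper94_Bridge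
  Cfsg.Agent.Lib.Helper44_Orth Cfsg.Agent.Lib.Helper14_POmegaSimple
  Cfsg.Agent.Lib.Helper14_Siegel Cfsg.Agent.Lib.Helper14_CentOmega
  Cfsg.Agent.Lib.Helper60_OrthExt_PE1 Cfsg.Agent.Lib.Helper14_OrthGamma
  Cfsg.Agent.Lib.Helper44_OrthFaith

variable {ι : Type} [Fintype ι] [DecidableEq ι] {F : Type*} [Field F] [Fintype F]
  (Q : QuadraticForm F (ι → F))

/-! ### root groups in `Aut(PΩ(Q))` -/

/-- The root group of `W` in `Aut(PΩ(Q))`. -/
noncomputable def rootAut (W : Submodule F (ι → F)) : Subgroup (MulAut (POmega F (⇑Q))) :=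
  (rootGO Q W).map (Phi (⇑Q))

theorem rootGO_le_omega (hQ : (QuadraticMap.polarBilin Q).Nondegenerate)
    (hn : 5 ≤ Fintype.card ι) (W : Submodule F (ι → F)) :
    rootGO Q W ≤ (omegaGL (⇑Q)).subgroupOf (GO (⇑Q)) := by
  rw [rootGO, Subgroup.closure_le]
  rintro g ⟨u, z, hu, huz, -, -, rfl⟩
  rw [SetLike.mem_coe, Subgroup.mem_subgroupOf]
  have hdim : 5 ≤ finrank F (ι → F) := by
    rw [Module.finrank_fintype_fun_eq_card]; exact hn
  have hT : E Q u z ∈ T Q := E_mem_T Q hQ hdim hu huz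
  rw [← map_siegelGroup Q] at hT
  obtain ⟨s, hs, hsE⟩ := hT
  have hsΩ : s ∈ Cfsg.Omega F (⇑Q) :=
    Cfsg.Agent.Lib.Helper14_SiegelAll.siegelGroup_le_omega' Q hQ hn hs
  have heq : ((eichGO Q u z hu huz : ↥(GO (⇑Q))) : GL ι F) = (s : GL ι F) := by
    apply (glEquiv ι F).injective
    have h1 : glEquiv ι F ((eichGO Q u z hu huz : ↥(GO (⇑Q))) : GL ι F) = E Q u z :=
      lin_eichGO Q u z hu huz
    rw [h1, ← hsE]
    rfl
  rw [heq]
  exact ⟨s, hsΩ, rfl⟩

theorem rootAut_le_inn (hQ : (QuadraticMap.polarBilin Q).Nondegenerate)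
    (hn : 5 ≤ Fintype.card ι) (W : Submodule F (ι → F)) :
    rootAut Q W ≤ Inn (POmega F (⇑Q)) := by
  rw [inn_eq, rootAut]
  exact Subgroup.map_mono (rootGO_le_omega Q hQ hn W)

/-- elements of the root group of `W` commute with an isometry acting on `W` as `±1` -/
theorem rootGO_comm (g₁ : ↥(GO (⇑Q))) (hiso : (g₁ : GL ι F) ∈ isometryGroup F (⇑Q)) (ε : F)
    (hε : ε * ε = 1) (W : Submodule F (ι → F)) (hW : ∀ v ∈ W, lin Q g₁ v = ε • v)
    {g : ↥(GO (⇑Q))} (hg : g ∈ rootGO Q W) : g₁ * g = g * g₁ := by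
  have ho : lin Q g₁ ∈ oG (⇑Q) := (lin_mem_oG_iff Q g₁).mpr hiso
  have key : g₁ * g * g₁⁻¹ = g := by
    induction hg using Subgroup.closure_induction with
    | mem g hg =>
      obtain ⟨u, z, hu, huz, huW, hzW, rfl⟩ := hg
      apply lin_injective
      rw [lin_mul, lin_mul, lin_inv, lin_eichGO, conj_E Q ho hu huz, hW u huW, hW z hzW]
      have huz' : QuadraticMap.polar (⇑Q) u (ε • z) = 0 := by
        rw [QuadraticMap.polar_smul_right, huz, smul_zero]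
      rw [E_smul_left Q hu huz', smul_smul, hε, one_smul]
    | one => group
    | mul a b _ _ ha hb =>
      calc g₁ * (a * b) * g₁⁻¹ = (g₁ * a * g₁⁻¹) * (g₁ * b * g₁⁻¹) := by group
        _ = a * b := by rw [ha, hb]
    | inv a _ ha =>
      calc g₁ * a⁻¹ * g₁⁻¹ = (g₁ * a * g₁⁻¹)⁻¹ := by group
        _ = a⁻¹ := by rw [ha]
  calc g₁ * g = (g₁ * g * g₁⁻¹) * g₁ := by group
    _ = g * g₁ := by rw [key]


theorem lin_one' : lin Q (1 : ↥(GO (⇑Q))) = 1 := by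
  unfold lin
  rw [Subgroup.coe_one, map_one]

/-- elements of the root group of `W` fix the vectors orthogonal to `W` -/
theorem rootGO_fix {W W' : Submodule F (ι → F)}
    (hperp : ∀ w ∈ W, ∀ w' ∈ W', QuadraticMap.polar (⇑Q) w w' = 0)
    {g : ↥(GO (⇑Q))} (hg : g ∈ rootGO Q W) : ∀ v ∈ W', lin Q g v = v := by
  induction hg using Subgroup.closure_induction with
  | mem g hg =>
    obtain ⟨u, z, hu, huz, huW, hzW, rfl⟩ := hg
    intro v hv
    rw [lin_eichGO, E_apply Q hu huz, QuadraticMap.polar_comm (⇑Q) v u, hperp u huW v hv,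
      QuadraticMap.polar_comm (⇑Q) v z, hperp z hzW v hv]
    simp
  | one => intro v _; rw [lin_one']; rfl
  | mul a b _ _ ha hb =>
    intro v hv
    rw [lin_mul, LinearEquiv.mul_apply, hb v hv, ha v hv]
  | inv a _ ha =>
    intro v hv
    rw [lin_inv]
    have h1 : (lin Q a)⁻¹ (lin Q a v) = v := by
      rw [← LinearEquiv.mul_apply, inv_mul_cancel]; rfl
    rw [ha v hv] at h1
    exact h1

theorem rootGO_isom (hQ : (QuadraticMap.polarBilin Q).Nondegenerate)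
    (hn : 5 ≤ Fintype.card ι) {W : Submodule F (ι → F)} {g : ↥(GO (⇑Q))}
    (hg : g ∈ rootGO Q W) : (g : GL ι F) ∈ isometryGroup F (⇑Q) := by
  have h1 := rootGO_le_omega Q hQ hn W hg
  rw [Subgroup.mem_subgroupOf] at h1
  obtain ⟨h2, -⟩ := (mem_omegaGL_iff (⇑Q) _).mp h1
  exact h2

/-- root groups of orthogonal subspaces commute -/
theorem rootGO_comm_perp (hQ : (QuadraticMap.polarBilin Q).Nondegenerate)
    (hn : 5 ≤ Fintype.card ι) {W W' : Submodule F (ι → F)}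
    (hperp : ∀ w ∈ W, ∀ w' ∈ W', QuadraticMap.polar (⇑Q) w w' = 0)
    {g g' : ↥(GO (⇑Q))} (hg : g ∈ rootGO Q W) (hg' : g' ∈ rootGO Q W') : g * g' = g' * g :=
  rootGO_comm Q g (rootGO_isom Q hQ hn hg) 1 (one_mul 1) W'
    (fun v hv => by rw [rootGO_fix Q hperp hg v hv, one_smul]) hg'

/-- the root group of a non-degenerate odd-dimensional summand has the property `OddComm` -/
theorem oddComm_rootAut (h2 : (2 : F) ≠ 0) (hQ : (QuadraticMap.polarBilin Q).Nondegenerate)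
    (hn : 5 ≤ Fintype.card ι) {W W' : Submodule F (ι → F)} (h : IsCompl W W')
    (hperp : ∀ w ∈ W, ∀ w' ∈ W', QuadraticMap.polar (⇑Q) w w' = 0) (hW' : ∃ v ∈ W', v ≠ 0)
    (hnd : (QuadraticMap.polarBilin (resQ Q W)).Nondegenerate) (hodd : Odd (finrank F ↥W)) :
    OddComm (rootAut Q W) := by
  obtain ⟨f, hf⟩ : ∃ f : ↥(TE (resQ Q W)) →* MulAut (POmega F (⇑Q)),
      f = (Phi (⇑Q)).comp (extGO Q h hperp) := ⟨_, rfl⟩
  have hfinj : Function.Injective f := by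
    rw [injective_iff_map_eq_one]
    intro t ht
    rw [hf, MonoidHom.comp_apply] at ht
    have hsc := scalar_of_Phi_eq_one Q hQ hn _ ht
    obtain ⟨c, hc⟩ := (Cfsg.Geo.mem_scalars_iff _).mp hsc
    obtain ⟨v, hvW', hv0⟩ := hW'
    have h1 : lin Q (extGO Q h hperp t) v = v := by
      rw [lin_extGO]
      exact extLin_apply_right h t.1 ⟨v, hvW'⟩
    rw [lin_apply, hc, Matrix.smul_mulVec, Matrix.one_mulVec] at h1
    have hc1 : (c : F) = 1 := by
      by_contra hne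
      have h3 : ((c : F) - 1) • v = 0 := by rw [sub_smul, h1, one_smul, sub_self]
      rcases smul_eq_zero.mp h3 with h4 | h4
      · exact hne (sub_eq_zero.mp h4)
      · exact hv0 h4
    have h4 : extGO Q h hperp t = 1 := by
      apply Subtype.ext
      apply Units.ext
      rw [hc, hc1, one_smul]
      rfl
    apply extGO_injective Q h hperp
    rw [h4, map_one]
  have hrange : f.range = rootAut Q W := by
    rw [hf, rootAut, ← range_extGO Q h hperp, MonoidHom.map_range]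
  apply oddComm_of_no_odd_normal
  intro M hM hnorm hMo
  obtain ⟨M', hM'⟩ : ∃ M' : Subgroup (↥W ≃ₗ[F] ↥W),
      M' = (M.comap f).map (TE (resQ Q W)).subtype := ⟨_, rfl⟩
  have hmc : (M.comap f).map f = M := by
    rw [Subgroup.map_comap_eq, hrange]
    exact inf_eq_right.mpr hM
  have hM'bot : M' = ⊥ := by
    apply no_odd_normal h2 (resQ Q W) hnd hodd M'
    · rw [hM']
      exact Subgroup.map_subtype_le _
    · intro t ht m hm
      rw [hM'] at hm ⊢
      obtain ⟨m₀, hm₀, rfl⟩ := hm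
      refine ⟨⟨t, ht⟩ * m₀ * ⟨t, ht⟩⁻¹, ?_, rfl⟩
      rw [SetLike.mem_coe, Subgroup.mem_comap, map_mul, map_mul, map_inv]
      apply hnorm _ _ _ hm₀
      rw [← hrange]
      exact ⟨_, rfl⟩
    · rw [hM', Subgroup.card_map_of_injective (Subgroup.subtype_injective _),
        ← Subgroup.card_map_of_injective hfinj, hmc]
      exact hMo
  rw [hM', Subgroup.map_eq_bot_iff_of_injective _ (Subgroup.subtype_injective _)] at hM'bot
  rw [← hmc, hM'bot, Subgroup.map_bot]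


/-! ### the eigenspaces of an isometry involution -/

section invol

variable (g₁ : ↥(GO (⇑Q)))

/-- the involution as a linear map -/
noncomputable def X : (ι → F) →ₗ[F] (ι → F) := Matrix.toLin' ((g₁ : GL ι F) : Matrix ι ι F)

theorem X_apply (v : ι → F) : X Q g₁ v = lin Q g₁ v := by
  rw [X, Matrix.toLin'_apply, lin_apply]

variable (h11 : g₁ * g₁ = 1) (hiso : (g₁ : GL ι F) ∈ isometryGroup F (⇑Q))

include h11 in
theorem X_X (v : ι → F) : X Q g₁ (X Q g₁ v) = v := by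
  rw [X_apply, X_apply, ← LinearEquiv.mul_apply, ← lin_mul, h11, lin_one']
  rfl

include hiso in
theorem X_polar (u v : ι → F) :
    QuadraticMap.polarBilin Q (X Q g₁ u) (X Q g₁ v) = QuadraticMap.polarBilin Q u v := by
  rw [X_apply, X_apply]
  exact oG_polar Q ((lin_mem_oG_iff Q g₁).mpr hiso) u v

theorem lin_of_mem_eig {ε : F} {v : ι → F} (hv : v ∈ eig (X Q g₁) ε) : lin Q g₁ v = ε • v := by
  rw [← X_apply]; exact mem_eig.mp hv

include hiso in
theorem eig_perp (h2 : (2 : F) ≠ 0) {ε : F} (hε : ε * ε = 1) :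
    ∀ w ∈ eig (X Q g₁) ε, ∀ w' ∈ eig (X Q g₁) (-ε), QuadraticMap.polar (⇑Q) w w' = 0 :=
  fun _ hw _ hw' => eig_ortho (QuadraticMap.polarBilin Q) (X_polar Q g₁ hiso) h2 hε hw hw'

include h11 in
theorem isCompl_eig' (h2 : (2 : F) ≠ 0) {ε : F} (hε : ε = 1 ∨ ε = -1) :
    IsCompl (eig (X Q g₁) ε) (eig (X Q g₁) (-ε)) := by
  rcases hε with rfl | rfl
  · exact isCompl_eig (X_X Q g₁ h11) h2
  · rw [neg_neg]
    exact (isCompl_eig (X_X Q g₁ h11) h2).symm

include h11 hiso in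
theorem nondeg_eig (h2 : (2 : F) ≠ 0) (hQ : (QuadraticMap.polarBilin Q).Nondegenerate) {ε : F}
    (hε : ε * ε = 1) :
    (QuadraticMap.polarBilin (resQ Q (eig (X Q g₁) ε))).Nondegenerate := by
  have key : ∀ u : ↥(eig (X Q g₁) ε),
      (∀ v : ↥(eig (X Q g₁) ε), QuadraticMap.polar (⇑(resQ Q (eig (X Q g₁) ε))) u v = 0) →
        u = 0 := by
    intro u hu
    apply eig_nondeg (X_X Q g₁ h11) (QuadraticMap.polarBilin Q) (X_polar Q g₁ hiso) h2
      (fun u hu => hQ.1 u hu) hε u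
    intro v
    have := hu v
    rw [polar_resQ] at this
    exact this
  constructor
  · intro u hu
    exact key u hu
  · intro u hu
    apply key u
    intro v
    have := hu v
    rw [QuadraticMap.polarBilin_apply_apply, QuadraticMap.polar_comm] at this
    exact this

end invol


/-! ### the group `H = R₊ ⊔ R₋` -/

section H

variable (g₁ : ↥(GO (⇑Q))) (h11 : g₁ * g₁ = 1) (hiso : (g₁ : GL ι F) ∈ isometryGroup F (⇑Q))

/-- `g' g₁ = c g₁ g'` : `g'` maps the `ε`-eigenspace to the `cε`-eigenspace -/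
theorem map_eig_of_sign (g' : ↥(GO (⇑Q))) {c : F} (hcc : c * c = 1)
    (hc : ∀ v : ι → F, ((g' : GL ι F) : Matrix ι ι F) *ᵥ
      (((g₁ : GL ι F) : Matrix ι ι F) *ᵥ v) =
        c • (((g₁ : GL ι F) : Matrix ι ι F) *ᵥ (((g' : GL ι F) : Matrix ι ι F) *ᵥ v)))
    {ε : F} {v : ι → F} (hv : v ∈ eig (X Q g₁) ε) : lin Q g' v ∈ eig (X Q g₁) (c * ε) := by
  rw [mem_eig, X_apply]
  have h1 := hc v
  simp only [← lin_apply] at h1
  rw [lin_of_mem_eig Q g₁ hv, map_smul] at h1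
  calc lin Q g₁ (lin Q g' v) = (c * c) • lin Q g₁ (lin Q g' v) := by rw [hcc, one_smul]
    _ = c • (c • lin Q g₁ (lin Q g' v)) := by rw [smul_smul]
    _ = (c * ε) • lin Q g' v := by rw [← h1, smul_smul]

include hiso in
theorem rootAut_le_centralizer {ε : F} (hε : ε * ε = 1) :
    rootAut Q (eig (X Q g₁) ε) ≤ Subgroup.centralizer {Phi (⇑Q) g₁} := by
  rintro _ ⟨g, hg, rfl⟩
  rw [Subgroup.mem_centralizer_iff]
  intro x hx
  rw [Set.mem_singleton_iff] at hx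
  rw [hx, ← map_mul, ← map_mul,
    rootGO_comm Q g₁ hiso ε hε _ (fun v hv => lin_of_mem_eig Q g₁ hv) hg]

include hiso in
/-- `Inn ⊓ C(x)` normalises `H` -/
theorem conj_mem_sup (hQ : (QuadraticMap.polarBilin Q).Nondegenerate)
    (hn : 5 ≤ Fintype.card ι) (hne : ∃ v, Q v ≠ 0) (c : MulAut (POmega F (⇑Q)))
    (hcI : c ∈ Inn (POmega F (⇑Q))) (hcx : c ∈ Subgroup.centralizer {Phi (⇑Q) g₁}) :
    ∀ h ∈ rootAut Q (eig (X Q g₁) 1) ⊔ rootAut Q (eig (X Q g₁) (-1)),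
      c * h * c⁻¹ ∈ rootAut Q (eig (X Q g₁) 1) ⊔ rootAut Q (eig (X Q g₁) (-1)) := by
  rw [inn_eq] at hcI
  obtain ⟨ω, hω, rfl⟩ := hcI
  rw [SetLike.mem_coe, Subgroup.mem_subgroupOf] at hω
  obtain ⟨hωiso, -⟩ := (mem_omegaGL_iff (⇑Q) _).mp hω
  have hcomm : Phi (⇑Q) ω * Phi (⇑Q) g₁ = Phi (⇑Q) g₁ * Phi (⇑Q) ω := by
    rw [Subgroup.mem_centralizer_iff] at hcx
    exact (hcx _ rfl).symm
  obtain ⟨c₀, hcc, hc₀⟩ := exists_sign_of_Phi_comm hQ hn hne ω g₁ hiso hcomm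
  have hc₀' : c₀ = 1 ∨ c₀ = -1 := mul_self_eq_one_iff.mp hcc
  have hstep : ∀ ε : F, (ε = 1 ∨ ε = -1) → ∀ r ∈ rootAut Q (eig (X Q g₁) ε),
      Phi (⇑Q) ω * r * (Phi (⇑Q) ω)⁻¹ ∈
        rootAut Q (eig (X Q g₁) 1) ⊔ rootAut Q (eig (X Q g₁) (-1)) := by
    rintro ε hε _ ⟨g, hg, rfl⟩
    have h1 := conj_rootGO Q ω hωiso (W₂ := eig (X Q g₁) (c₀ * ε))
      (fun v hv => map_eig_of_sign Q g₁ ω hcc hc₀ hv) hg
    have hmem : Phi (⇑Q) (ω * g * ω⁻¹) ∈ rootAut Q (eig (X Q g₁) (c₀ * ε)) := ⟨_, h1, rfl⟩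
    rw [map_mul, map_mul, map_inv] at hmem
    have h2 : c₀ * ε = 1 ∨ c₀ * ε = -1 := by
      rcases hc₀' with rfl | rfl <;> rcases hε with rfl | rfl <;> simp
    rcases h2 with h3 | h3
    · rw [h3] at hmem
      exact Subgroup.mem_sup_left hmem
    · rw [h3] at hmem
      exact Subgroup.mem_sup_right hmem
  have hle : rootAut Q (eig (X Q g₁) 1) ⊔ rootAut Q (eig (X Q g₁) (-1)) ≤
      (rootAut Q (eig (X Q g₁) 1) ⊔ rootAut Q (eig (X Q g₁) (-1))).comap
        (MulAut.conj (Phi (⇑Q) ω)).toMonoidHom :=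
    sup_le (fun r hr => hstep 1 (Or.inl rfl) r hr) (fun r hr => hstep (-1) (Or.inr rfl) r hr)
  intro h hh
  exact hle hh

include hiso in
/-- `H` normalises each `R_ε` -/
theorem conj_mem_rootAut (h2 : (2 : F) ≠ 0) (hQ : (QuadraticMap.polarBilin Q).Nondegenerate)
    (hn : 5 ≤ Fintype.card ι) {ε : F} (hε : ε = 1 ∨ ε = -1) :
    ∀ h ∈ rootAut Q (eig (X Q g₁) 1) ⊔ rootAut Q (eig (X Q g₁) (-1)),
      ∀ r ∈ rootAut Q (eig (X Q g₁) ε), h * r * h⁻¹ ∈ rootAut Q (eig (X Q g₁) ε) := by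
  have hεε : ε * ε = 1 := by rcases hε with rfl | rfl <;> simp
  have hcent : rootAut Q (eig (X Q g₁) (-ε)) ≤
      Subgroup.normalizer (rootAut Q (eig (X Q g₁) ε) : Set (MulAut (POmega F (⇑Q)))) := by
    refine le_trans ?_ (Subgroup.centralizer_le_normalizer _)
    rintro _ ⟨g', hg', rfl⟩
    rw [Subgroup.mem_centralizer_iff]
    rintro _ ⟨g, hg, rfl⟩
    rw [← map_mul, ← map_mul,
      rootGO_comm_perp Q hQ hn (eig_perp Q g₁ hiso h2 hεε) hg hg']
  have hle : rootAut Q (eig (X Q g₁) 1) ⊔ rootAut Q (eig (X Q g₁) (-1)) ≤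
      Subgroup.normalizer (rootAut Q (eig (X Q g₁) ε) : Set (MulAut (POmega F (⇑Q)))) := by
    rcases hε with rfl | rfl
    · exact sup_le Subgroup.le_normalizer hcent
    · rw [neg_neg] at hcent
      exact sup_le hcent Subgroup.le_normalizer
  intro h hh r hr
  exact (Subgroup.mem_normalizer_iff.mp (hle hh) r).mp hr

end H


/-! ### the key step: centralisers of root groups -/

section key

/-- a hyperbolic configuration inside a non-degenerate subspace of dimension at least five -/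
theorem exists_family (W : Submodule F (ι → F))
    (hnd : (QuadraticMap.polarBilin (resQ Q W)).Nondegenerate) (hdim : 5 ≤ finrank F ↥W) :
    ∃ u w f : ι → F, u ∈ W ∧ w ∈ W ∧ f ∈ W ∧ u ≠ 0 ∧ Q u = 0 ∧ Q w = 0 ∧
      QuadraticMap.polar (⇑Q) u w = 0 ∧ LinearIndependent F ![u, w] ∧
      QuadraticMap.polar (⇑Q) f u = 0 ∧ QuadraticMap.polar (⇑Q) f w = 1 := by
  obtain ⟨e₁, f₁, e₂, f₂, he0, he₁, hf₁, he₂, hf₂, h11, h22, h12, h1f2, hf1e2, hf1f2⟩ :=
    Cfsg.Agent.Lib.Helper58_Bal_A3i.exists_two_pairs (resQ Q W) hnd hdim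
  rw [polar_resQ] at h11 h22 h12 h1f2 hf1e2 hf1f2
  rw [resQ_apply] at he₁ hf₁ he₂ hf₂
  refine ⟨e₁, e₂, f₂, e₁.2, e₂.2, f₂.2, fun h => he0 (Subtype.ext h), he₁, he₂, h12, ?_, ?_, ?_⟩
  · rw [LinearIndependent.pair_iff]
    intro a b hab
    have h1 := congrArg (fun v => QuadraticMap.polar (⇑Q) v (f₁ : ι → F)) hab
    have h2 := congrArg (fun v => QuadraticMap.polar (⇑Q) v (f₂ : ι → F)) hab
    simp only [QuadraticMap.polar_add_left, QuadraticMap.polar_smul_left, smul_eq_mul] at h1 h2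
    rw [h11, QuadraticMap.polar_comm (⇑Q) (e₂ : ι → F) (f₁ : ι → F), hf1e2] at h1
    rw [h1f2, h22] at h2
    have hz : QuadraticMap.polar (⇑Q) (0 : ι → F) (f₁ : ι → F) = 0 := by simp [QuadraticMap.polar]
    have hz' : QuadraticMap.polar (⇑Q) (0 : ι → F) (f₂ : ι → F) = 0 := by simp [QuadraticMap.polar]
    rw [hz] at h1
    rw [hz'] at h2
    constructor
    · simpa using h1
    · simpa using h2
  · rw [QuadraticMap.polar_comm]; exact h1f2
  · rw [QuadraticMap.polar_comm]; exact h22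

variable (S : Setup Q)

include S in
/-- an automorphism centralising the root group of a big subspace lies in `PGO` -/
theorem Phi_of_comm_rootAut (h2 : (2 : F) ≠ 0) (W : Submodule F (ι → F))
    (hnd : (QuadraticMap.polarBilin (resQ Q W)).Nondegenerate) (hdim : 5 ≤ finrank F ↥W)
    (y : MulAut (POmega F (⇑Q))) (hy : ∀ r ∈ rootAut Q W, y * r = r * y) :
    ∃ g' : ↥(GO (⇑Q)), y = Phi (⇑Q) g' := by
  obtain ⟨u, w, f, huW, hwW, -, -, hu, hw, huw, hli, -, -⟩ := exists_family Q W hnd hdim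
  have hQ := S.nd
  have hn := S.hn
  obtain ⟨N, hN⟩ : ∃ N, N = siegelN (⇑Q) u w := ⟨_, rfl⟩
  have hN0 : N ≠ 0 := by
    rw [hN]; exact Cfsg.Agent.Lib.Helper14_OrthMinusAut.siegelN_ne_zero Q hQ hli
  have hNN : N * N = 0 := by
    have h1 := siegelMatrix_mul Q hu hw huw 1 1
    rw [siegelMatrix_eq, siegelMatrix_eq, ← hN, one_smul] at h1
    have h3 : N * N = (1 + N) * (1 + N) - (1 + ((1 : F) + 1) • N) := by
      rw [add_smul, one_smul]
      noncomm_ring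
    rw [h3, h1, sub_self]
  have hsmem : ∀ c : F, siegel Q u w c hu hw huw ∈ Cfsg.Omega F (⇑Q) := fun c =>
    Cfsg.Agent.Lib.Helper14_SiegelAll.siegelGroup_le_omega' Q hQ hn (siegel_mem Q u w c hu hw huw)
  apply exists_Phi_of_comm h2 S y N hN0 hNN (fun c => ⟨siegel Q u w c hu hw huw, hsmem c⟩)
  · intro c
    rw [hN]
    rfl
  · intro c
    apply hy
    rw [← Phi_omega]
    have huz' : QuadraticMap.polar (⇑Q) u (c • w) = 0 := by
      rw [QuadraticMap.polar_smul_right, huw, smul_zero]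
    refine ⟨eichGO Q u (c • w) hu huz', eichGO_mem_rootGO Q hu huz' huW (W.smul_mem c hwW), ?_⟩
    congr 1
    apply lin_injective
    rw [lin_eichGO, ← phi_siegel Q u w c hu hw huw]
    rfl

/-- exact commutation with the Eichler–Siegel transformations of `W` -/
theorem exact_comm (h2 : (2 : F) ≠ 0) (hQ : (QuadraticMap.polarBilin Q).Nondegenerate)
    (hn : 5 ≤ Fintype.card ι) (hne : ∃ v, Q v ≠ 0) (W : Submodule F (ι → F))
    (g' : ↥(GO (⇑Q))) (hy : ∀ r ∈ rootAut Q W, Phi (⇑Q) g' * r = r * Phi (⇑Q) g')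
    (u z : ι → F) (huW : u ∈ W) (hzW : z ∈ W) (hu : Q u = 0)
    (huz : QuadraticMap.polar (⇑Q) u z = 0) : lin Q g' * E Q u z = E Q u z * lin Q g' := by
  have huz' : QuadraticMap.polar (⇑Q) u ((2 : F)⁻¹ • z) = 0 := by
    rw [QuadraticMap.polar_smul_right, huz, smul_zero]
  have hmem : eichGO Q u ((2 : F)⁻¹ • z) hu huz' ∈ rootGO Q W :=
    eichGO_mem_rootGO Q hu huz' huW (W.smul_mem _ hzW)
  have h1 := comm_sq_of_Phi_comm hQ hn hne g' (eichGO Q u ((2 : F)⁻¹ • z) hu huz')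
    (rootGO_isom Q hQ hn hmem) (hy _ ⟨_, hmem, rfl⟩)
  have h4 : (2 : F)⁻¹ + (2 : F)⁻¹ = 1 := by
    rw [← two_mul, mul_inv_cancel₀ h2]
  have hsq : eichGO Q u ((2 : F)⁻¹ • z) hu huz' * eichGO Q u ((2 : F)⁻¹ • z) hu huz' =
      eichGO Q u z hu huz := by
    apply lin_injective
    rw [lin_mul, lin_eichGO, lin_eichGO, E_mul Q hu huz' huz', ← add_smul, h4, one_smul]
  rw [hsq] at h1
  have h3 := congrArg (lin Q) h1
  rw [lin_mul, lin_mul, lin_eichGO] at h3
  exact h3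

end key


/-! ### the main theorem in the isometry-involution case -/

section main

variable (S : Setup Q) (g₁ : ↥(GO (⇑Q))) (h11 : g₁ * g₁ = 1)
  (hiso : (g₁ : GL ι F) ∈ isometryGroup F (⇑Q))

include S h11 hiso in
theorem key_caseI (h2 : (2 : F) ≠ 0) (hne : ∃ v, Q v ≠ 0) (hn8 : 8 ≤ Fintype.card ι)
    (hodd₁ : Odd (finrank F ↥(eig (X Q g₁) 1))) (hodd₂ : Odd (finrank F ↥(eig (X Q g₁) (-1))))
    (N : Subgroup (MulAut (POmega F (⇑Q)))) (hNodd : Odd (Nat.card N))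
    (hNx : N ≤ Subgroup.centralizer {Phi (⇑Q) g₁})
    (y : MulAut (POmega F (⇑Q))) (hy : y ∈ N)
    (hcomm : ∀ ε : F, (ε = 1 ∨ ε = -1) → ∀ r ∈ rootAut Q (eig (X Q g₁) ε), y * r = r * y) :
    y = 1 := by
  have hQ := S.nd
  have hn := S.hn
  have hsum := finrank_eig_add (X_X Q g₁ h11) h2
  rw [Module.finrank_fintype_fun_eq_card] at hsum
  have hoddε : ∀ ε : F, (ε = 1 ∨ ε = -1) → Odd (finrank F ↥(eig (X Q g₁) ε)) := by
    rintro ε (rfl | rfl)
    · exact hodd₁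
    · exact hodd₂
  have hεε : ∀ ε : F, (ε = 1 ∨ ε = -1) → ε * ε = 1 := by
    rintro ε (rfl | rfl) <;> simp
  -- the big eigenspace
  obtain ⟨εb, hεb, hbig⟩ : ∃ εb : F, (εb = 1 ∨ εb = -1) ∧ 5 ≤ finrank F ↥(eig (X Q g₁) εb) := by
    obtain ⟨k₁, hk₁⟩ := hodd₁
    obtain ⟨k₂, hk₂⟩ := hodd₂
    rcases Nat.lt_or_ge k₁ 2 with h | h
    · exact ⟨-1, Or.inr rfl, by omega⟩
    · exact ⟨1, Or.inl rfl, by omega⟩
  have hndb := nondeg_eig Q g₁ h11 hiso h2 hQ (hεε εb hεb)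
  obtain ⟨g', rfl⟩ := Phi_of_comm_rootAut Q S h2 _ hndb hbig y (hcomm εb hεb)
  -- exact commutation
  have hex : ∀ ε : F, (ε = 1 ∨ ε = -1) → ∀ u z : ι → F, u ∈ eig (X Q g₁) ε →
      z ∈ eig (X Q g₁) ε → Q u = 0 → QuadraticMap.polar (⇑Q) u z = 0 →
      lin Q g' * E Q u z = E Q u z * lin Q g' :=
    fun ε hε u z huW hzW hu huz => exact_comm Q h2 hQ hn hne _ g' (hcomm ε hε) u z huW hzW hu huz
  -- the sign
  have hcx : Phi (⇑Q) g' * Phi (⇑Q) g₁ = Phi (⇑Q) g₁ * Phi (⇑Q) g' := by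
    have := hNx hy
    rw [Subgroup.mem_centralizer_iff] at this
    exact (this _ rfl).symm
  obtain ⟨c₀, hcc, hc₀⟩ := exists_sign_of_Phi_comm hQ hn hne g' g₁ hiso hcx
  have hc1 : c₀ = 1 := by
    rcases mul_self_eq_one_iff.mp hcc with h | h
    · exact h
    · exfalso
      obtain ⟨u, w, f, huW, hwW, hfW, hu0, hu, hw, huw, -, hfu, hfw⟩ :=
        exists_family Q _ hndb hbig
      have hw1 : lin Q g' u ∈ eig (X Q g₁) (c₀ * εb) := map_eig_of_sign Q g₁ g' hcc hc₀ huW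
      rw [h, neg_one_mul] at hw1
      have hEf : E Q u w f = f - u := by
        rw [E_apply Q hu huw, hfu, hfw]
        simp
      have hgu : lin Q g' u = lin Q g' f - E Q u w (lin Q g' f) := by
        have h5 := congrArg (fun t : (ι → F) ≃ₗ[F] (ι → F) => t f)
          (hex εb hεb u w huW hwW hu huw)
        simp only [LinearEquiv.mul_apply] at h5
        rw [← h5, hEf, map_sub]
        abel
      have hw2 : lin Q g' u ∈ eig (X Q g₁) εb := by
        rw [hgu, E_apply Q hu huw]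
        have h9 : ∀ (v : ι → F) (a b c : F),
            v - (v + a • w - b • u - c • u) = -(a • w) + b • u + c • u := by
          intros; abel
        rw [h9]
        exact Submodule.add_mem _ (Submodule.add_mem _ (Submodule.neg_mem _
          (Submodule.smul_mem _ _ hwW)) (Submodule.smul_mem _ _ huW)) (Submodule.smul_mem _ _ huW)
      have h6 := mem_eig.mp hw1
      have h7 := mem_eig.mp hw2
      have h8 : εb • lin Q g' u = (-εb) • lin Q g' u := h7.symm.trans h6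
      have h10 : ((2 : F) * εb) • lin Q g' u = 0 := by
        rw [mul_smul, two_smul]
        nth_rewrite 2 [h8]
        rw [neg_smul, add_neg_cancel]
      rcases smul_eq_zero.mp h10 with h11' | h11'
      · rcases mul_eq_zero.mp h11' with h12 | h12
        · exact h2 h12
        · have := hεε εb hεb
          rw [h12, mul_zero] at this
          exact zero_ne_one this
      · apply hu0
        apply (lin Q g').injective
        rw [h11', map_zero]
  subst hc1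
  have hmapε : ∀ ε : F, (ε = 1 ∨ ε = -1) → ∀ v ∈ eig (X Q g₁) ε,
      lin Q g' v ∈ eig (X Q g₁) ε := by
    intro ε hε v hv
    have := map_eig_of_sign Q g₁ g' hcc hc₀ hv
    rwa [one_mul] at this
  obtain ⟨c, hc⟩ := g'.2
  have hμ : ∀ v, Q (lin Q g' v) = (c : F) * Q v := fun v => by rw [lin_apply]; exact hc v
  have hscal : ∀ ε : F, (ε = 1 ∨ ε = -1) → ∃ l : F, l * l = (c : F) ∧
      ∀ v ∈ eig (X Q g₁) ε, lin Q g' v = l • v := by
    intro ε hε
    have hndε := nondeg_eig Q g₁ h11 hiso h2 hQ (hεε ε hε)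
    obtain ⟨l, hl⟩ := scalar_on_summand h2 Q (isCompl_eig' Q g₁ h11 h2 hε)
      (eig_perp Q g₁ hiso h2 (hεε ε hε)) hndε (hoddε ε hε) (lin Q g') ⟨c, hμ⟩ (hmapε ε hε)
      (fun u z huW hzW hu huz => hex ε hε u z huW hzW hu huz)
    refine ⟨l, ?_, hl⟩
    have hpos : 0 < finrank F ↥(eig (X Q g₁) ε) := (hoddε ε hε).pos
    obtain ⟨v₀, hv₀⟩ := Module.finrank_pos_iff_exists_ne_zero.mp hpos
    obtain ⟨z, hz⟩ := Cfsg.Agent.Lib.Helper10_Bal_A4.exists_nonsingular (resQ Q _) hndε ⟨v₀, hv₀⟩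
    rw [resQ_apply] at hz
    have h1 := hμ (z : ι → F)
    rw [hl _ z.2, QuadraticMap.map_smul, smul_eq_mul] at h1
    exact mul_right_cancel₀ hz h1
  obtain ⟨l₁, hl₁μ, hl₁⟩ := hscal 1 (Or.inl rfl)
  obtain ⟨l₂, hl₂μ, hl₂⟩ := hscal (-1) (Or.inr rfl)
  have hsq : ∀ v, lin Q g' (lin Q g' v) = (c : F) • v := by
    intro v
    obtain ⟨a, b, rfl⟩ := exists_decomp (isCompl_eig (X_X Q g₁ h11) h2) v
    rw [map_add, map_add, hl₁ _ a.2, hl₂ _ b.2, map_smul, map_smul, hl₁ _ a.2, hl₂ _ b.2,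
      smul_smul, smul_smul, hl₁μ, hl₂μ, smul_add]
  have hscalar : ((g' * g' : ↥(GO (⇑Q))) : GL ι F) ∈ Cfsg.Geo.scalars ι F := by
    rw [Cfsg.Geo.mem_scalars_iff]
    refine ⟨c, ?_⟩
    apply Cfsg.Agent.Lib.Helper44_Refl.matrix_ext_mulVec
    intro v
    rw [Subgroup.coe_mul, Units.val_mul, ← Matrix.mulVec_mulVec, ← lin_apply, ← lin_apply, hsq,
      Matrix.smul_mulVec, Matrix.one_mulVec]
  have hyy : Phi (⇑Q) g' * Phi (⇑Q) g' = 1 := by
    rw [← map_mul]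
    exact Phi_eq_one_of_scalar _ _ hscalar
  exact eq_one_of_sq_of_odd N hNodd hy hyy

theorem exists_ne_zero_of_odd {W : Submodule F (ι → F)} (h : Odd (finrank F ↥W)) :
    ∃ v ∈ W, v ≠ 0 := by
  obtain ⟨v, hv⟩ := Module.finrank_pos_iff_exists_ne_zero.mp h.pos
  exact ⟨v, v.2, fun h0 => hv (Subtype.ext h0)⟩

include S h11 hiso in
/-- **Case I**: no non-trivial normal subgroup of odd order in the centraliser of the involution
`Phi g₁`, `g₁` an isometry involution with odd-dimensional eigenspaces. -/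
theorem caseI (h2 : (2 : F) ≠ 0) (hne : ∃ v, Q v ≠ 0) (hn8 : 8 ≤ Fintype.card ι)
    (hodd₁ : Odd (finrank F ↥(eig (X Q g₁) 1))) (hodd₂ : Odd (finrank F ↥(eig (X Q g₁) (-1))))
    (A N : Subgroup (MulAut (POmega F (⇑Q)))) (hinn : Inn (POmega F (⇑Q)) ≤ A)
    (hNle : N ≤ A ⊓ Subgroup.centralizer {Phi (⇑Q) g₁})
    (hNnorm : ∀ c ∈ A ⊓ Subgroup.centralizer {Phi (⇑Q) g₁}, ∀ n ∈ N, c * n * c⁻¹ ∈ N)
    (hNodd : Odd (Nat.card N)) : N = ⊥ := by
  have hQ := S.nd
  have hn := S.hn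
  have h1 : (1 : F) * 1 = 1 := one_mul 1
  have h1' : (-1 : F) * -1 = 1 := by simp
  have hc₁ := isCompl_eig' Q g₁ h11 h2 (Or.inl rfl : (1 : F) = 1 ∨ (1 : F) = -1)
  have hc₂ := isCompl_eig' Q g₁ h11 h2 (Or.inr rfl : (-1 : F) = 1 ∨ (-1 : F) = -1)
  apply core_trivial (Inn (POmega F (⇑Q)) ⊓ Subgroup.centralizer {Phi (⇑Q) g₁})
    (rootAut Q (eig (X Q g₁) 1) ⊔ rootAut Q (eig (X Q g₁) (-1))) N
    (fun b : Bool => b.rec (rootAut Q (eig (X Q g₁) (-1))) (rootAut Q (eig (X Q g₁) 1)))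
  · intro b
    cases b
    · exact le_sup_right
    · exact le_sup_left
  · apply sup_le
    · exact le_inf (rootAut_le_inn Q hQ hn _) (rootAut_le_centralizer Q g₁ hiso h1)
    · exact le_inf (rootAut_le_inn Q hQ hn _) (rootAut_le_centralizer Q g₁ hiso h1')
  · intro c hc h hh
    exact conj_mem_sup Q g₁ hiso hQ hn hne c hc.1 hc.2 h hh
  · intro b h hh r hr
    cases b
    · exact conj_mem_rootAut Q g₁ hiso h2 hQ hn (Or.inr rfl) h hh r hr
    · exact conj_mem_rootAut Q g₁ hiso h2 hQ hn (Or.inl rfl) h hh r hr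
  · intro n hn' c hc
    refine ⟨(Cfsg.innNormal _).conj_mem c hc.1 n, ?_⟩
    have hnx := (hNle hn').2
    exact Subgroup.mul_mem _ (Subgroup.mul_mem _ hnx hc.2) (Subgroup.inv_mem _ hnx)
  · intro c hc n hn'
    exact hNnorm c ⟨hinn hc.1, hc.2⟩ n hn'
  · exact hNodd
  · intro b
    cases b
    · refine oddComm_rootAut Q h2 hQ hn hc₂ (eig_perp Q g₁ hiso h2 h1') ?_
        (nondeg_eig Q g₁ h11 hiso h2 hQ h1') hodd₂
      rw [neg_neg]
      exact exists_ne_zero_of_odd hodd₁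
    · exact oddComm_rootAut Q h2 hQ hn hc₁ (eig_perp Q g₁ hiso h2 h1)
        (exists_ne_zero_of_odd hodd₂) (nondeg_eig Q g₁ h11 hiso h2 hQ h1) hodd₁
  · intro y hy hcomm
    apply key_caseI Q S g₁ h11 hiso h2 hne hn8 hodd₁ hodd₂ N hNodd (fun n hn => (hNle hn).2) y hy
    rintro ε (rfl | rfl) r hr
    · exact hcomm true r hr
    · exact hcomm false r hr

end main

end Cfsg.Agent.Lib.Helper14_BalCaseI
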