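import Mathlib
import Cfsg.Agent.Lib.Helper14_OmegaSimple
import Cfsg.Agent.Lib.Helper14_BalDefs

/-!
# A quadratic space over `F` as a quadratic space over a quadratic extension (helper14)

`V` is a vector space over `K ⊇ F`, `{1, ρ}` an `F`-basis of `K`, `Q` an `F`-quadratic form and `QK`
a `K`-quadratic form on `V` whose `1`-component is `Q / 2` (package BAL-K3).  Isometries of `QK`
are isometries of `Q`; `F`-similitudes of `Q` commuting with `ρ` are `K`-similitudes of `QK`.
-/

set_option autoImplicit false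
set_option linter.unusedSectionVars false

namespace Cfsg.Agent.Lib.Helper14_BalK

open Module Cfsg Cfsg.Agent.Lib.Helper94_OrthSmall Cfsg.Agent.Lib.Helper14_OmegaSimple

variable {F K V : Type*} [Field F] [Field K] [Algebra F K] [AddCommGroup V] [Module F V]
  [Module K V] [IsScalarTower F K V]

/-- restriction of scalars as a group homomorphism -/
def resF : (V ≃ₗ[K] V) →* (V ≃ₗ[F] V) where
  toFun t := t.restrictScalars F
  map_one' := rfl
  map_mul' _ _ := rfl

@[simp] theorem resF_apply (t : V ≃ₗ[K] V) (v : V) : resF (F := F) t v = t v := rfl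

theorem resF_injective : Function.Injective (resF (F := F) (K := K) (V := V)) := by
  intro t s hts
  apply LinearEquiv.ext
  intro v
  have := congrArg (fun f : V ≃ₗ[F] V => f v) hts
  exact this

/-- `T Q` is normalised by the isometries -/
theorem conj_mem_T {F V : Type*} [Field F] [AddCommGroup V] [Module F V] (Q : QuadraticForm F V)
    {g : V ≃ₗ[F] V} (hg : g ∈ oG (⇑Q)) {t : V ≃ₗ[F] V} (ht : t ∈ T Q) : g * t * g⁻¹ ∈ T Q := by
  induction ht using Subgroup.closure_induction with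
  | mem t ht =>
    obtain ⟨u, s, hu, hs, hus, rfl⟩ := ht
    rw [conj_E Q hg hu hus]
    exact root_mem_T Q (by rw [hg u, hu]) (by rw [hg s, hs]) (by rw [oG_polar Q hg, hus])
  | one => simp only [mul_one, mul_inv_cancel]; exact Subgroup.one_mem _
  | mul a b _ _ ha hb =>
    have : g * (a * b) * g⁻¹ = (g * a * g⁻¹) * (g * b * g⁻¹) := by group
    rw [this]
    exact Subgroup.mul_mem _ ha hb
  | inv a _ ha =>
    have : g * a⁻¹ * g⁻¹ = (g * a * g⁻¹)⁻¹ := by group
    rw [this]
    exact Subgroup.inv_mem _ ha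

/-- `E Q u (k • w) = 1 + k (E Q u w - 1)` for singular `w` -/
theorem E_smul_sub {F V : Type*} [Field F] [AddCommGroup V] [Module F V] (Q : QuadraticForm F V)
    {u w : V} (hu : Q u = 0) (hw : Q w = 0) (huw : QuadraticMap.polar (⇑Q) u w = 0) (k : F)
    (v : V) : E Q u (k • w) v = v + k • (E Q u w v - v) := by
  have huw' : QuadraticMap.polar (⇑Q) u (k • w) = 0 := by
    rw [QuadraticMap.polar_smul_right, huw, smul_zero]
  rw [E_apply Q hu huw', E_apply Q hu huw, QuadraticMap.polar_smul_right, QuadraticMap.map_smul,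
    hw]
  simp only [smul_eq_mul, mul_zero, zero_mul]
  module

section toK

variable (ρ : K) (hbasis : ∀ k : K, ∃ a b : F, k = algebraMap F K a + algebraMap F K b * ρ)

theorem smul_eq (a b : F) (v : V) :
    (algebraMap F K a + algebraMap F K b * ρ) • v = a • v + b • (ρ • v) := by
  rw [add_smul, mul_smul, algebraMap_smul, algebraMap_smul]

include hbasis in
theorem map_smul_of_comm (g : V →ₗ[F] V) (hg : ∀ v, g (ρ • v) = ρ • g v) (k : K) (v : V) :
    g (k • v) = k • g v := by
  obtain ⟨a, b, rfl⟩ := hbasis k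
  rw [smul_eq, smul_eq, map_add, map_smul, map_smul, hg]

/-- an `F`-linear equivalence commuting with `ρ` is `K`-linear -/
def toK (g : V ≃ₗ[F] V) (hg : ∀ v, g (ρ • v) = ρ • g v) : V ≃ₗ[K] V :=
  { g.toEquiv with
    map_add' := g.map_add
    map_smul' := fun k v => map_smul_of_comm ρ hbasis (g : V →ₗ[F] V) hg k v }

@[simp] theorem toK_apply (g : V ≃ₗ[F] V) (hg : ∀ v, g (ρ • v) = ρ • g v) (v : V) :
    toK ρ hbasis g hg v = g v := rfl

theorem resF_toK (g : V ≃ₗ[F] V) (hg : ∀ v, g (ρ • v) = ρ • g v) :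
    resF (F := F) (toK ρ hbasis g hg) = g := by
  apply LinearEquiv.ext
  intro v
  rfl

end toK

section forms

variable (Q : QuadraticForm F V) (QK : QuadraticForm K V) (ρ : K) (ν : F)
  (hindep : ∀ a b : F, algebraMap F K a + algebraMap F K b * ρ = 0 → a = 0 ∧ b = 0)
  (hQK : ∀ v : V, QK v = algebraMap F K (Q v / 2) +
    algebraMap F K (QuadraticMap.polar (⇑Q) (ρ • v) v / (4 * ν)) * ρ)

include hindep hQK in
theorem Q_eq_of_QK_eq (h2 : (2 : F) ≠ 0) {v v' : V} (h : QK v = QK v') : Q v = Q v' := by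
  rw [hQK, hQK] at h
  have h1 : algebraMap F K (Q v / 2 - Q v' / 2) +
      algebraMap F K (QuadraticMap.polar (⇑Q) (ρ • v) v / (4 * ν) -
        QuadraticMap.polar (⇑Q) (ρ • v') v' / (4 * ν)) * ρ = 0 := by
    rw [map_sub, map_sub]
    linear_combination h
  have h3 := (hindep _ _ h1).1
  field_simp at h3
  linear_combination h3

include hindep hQK in
theorem resF_mem_oG (h2 : (2 : F) ≠ 0) {t : V ≃ₗ[K] V} (ht : t ∈ oG (⇑QK)) :
    resF (F := F) t ∈ oG (⇑Q) := by
  intro v
  exact Q_eq_of_QK_eq Q QK ρ ν hindep hQK h2 (ht v)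

theorem polar_sim (g : V →ₗ[F] V) (μ : F) (hμ : ∀ v, Q (g v) = μ * Q v) (a b : V) :
    QuadraticMap.polar (⇑Q) (g a) (g b) = μ * QuadraticMap.polar (⇑Q) a b := by
  unfold QuadraticMap.polar
  rw [← map_add, hμ, hμ, hμ]
  ring

include hQK in
theorem QK_sim (g : V →ₗ[F] V) (μ : F) (hμ : ∀ v, Q (g v) = μ * Q v)
    (hg : ∀ v, g (ρ • v) = ρ • g v) (v : V) : QK (g v) = algebraMap F K μ * QK v := by
  rw [hQK, hQK, ← hg, polar_sim Q g μ hμ, hμ, mul_div_assoc, mul_div_assoc, map_mul, map_mul]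
  ring

include hQK in
theorem toK_mem_oG (hbasis : ∀ k : K, ∃ a b : F, k = algebraMap F K a + algebraMap F K b * ρ)
    (g : V ≃ₗ[F] V) (hg : ∀ v, g (ρ • v) = ρ • g v) (hgo : g ∈ oG (⇑Q)) :
    toK ρ hbasis g hg ∈ oG (⇑QK) := by
  intro v
  have := QK_sim Q QK ρ ν hQK (g : V →ₗ[F] V) 1 (fun v => by rw [one_mul]; exact hgo v) hg v
  rw [map_one, one_mul] at this
  exact this

end forms

end Cfsg.Agent.Lib.Helper14_BalK
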