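import Mathlib
import Cfsg.Agent.Lib.Helper14_OmegaSimple

set_option autoImplicit false

namespace Cfsg.Agent.Lib.Helper52_Bal_D1

open Module Cfsg Cfsg.Agent.Lib.Helper94_OrthSmall Cfsg.Agent.Lib.Helper14_OmegaSimple

/-- powers of an Eichler–Siegel transformation -/
theorem E_pow {F V : Type*} [Field F] [AddCommGroup V] [Module F V] (Q : QuadraticForm F V)
    {u z : V} (hu : Q u = 0) (huz : QuadraticMap.polar (⇑Q) u z = 0) (n : ℕ) :
    E Q u z ^ n = E Q u ((n : F) • z) := by
  induction n with
  | zero => rw [pow_zero, Nat.cast_zero, zero_smul, E_zero_right Q hu]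
  | succ n ih =>
    have h1 : QuadraticMap.polar (⇑Q) u ((n : F) • z) = 0 := by
      rw [QuadraticMap.polar_smul_right, huz, smul_zero]
    rw [pow_succ, ih, E_mul Q hu h1 huz, Nat.cast_succ, add_smul, one_smul]

/-- the determinant of an Eichler–Siegel transformation over a finite field is `1` -/
theorem det_E {F V : Type*} [Field F] [Fintype F] [AddCommGroup V] [Module F V]
    (Q : QuadraticForm F V) {u z : V} (hu : Q u = 0) (huz : QuadraticMap.polar (⇑Q) u z = 0) :
    LinearEquiv.det (E Q u z) = 1 := by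
  obtain ⟨p, hp⟩ := CharP.exists F
  have hprime : p.Prime := (CharP.char_is_prime_or_zero F p).resolve_right (by
    intro h0
    subst h0
    have : CharZero F := CharP.charP_to_charZero F
    exact not_finite F)
  have : Fact p.Prime := ⟨hprime⟩
  have h1 : E Q u z ^ p = 1 := by
    rw [E_pow Q hu huz, CharP.cast_eq_zero F p, zero_smul, E_zero_right Q hu]
  have h2 : (LinearEquiv.det (E Q u z)) ^ p = 1 := by rw [← map_pow, h1, map_one]
  have h3 : ((LinearEquiv.det (E Q u z) : Fˣ) : F) ^ p = 1 := by
    rw [← Units.val_pow_eq_pow_val, h2, Units.val_one]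
  have h4 : ((LinearEquiv.det (E Q u z) : Fˣ) : F) = 1 := by
    have h5 : (((LinearEquiv.det (E Q u z) : Fˣ) : F) - 1) ^ p = 0 := by
      rw [sub_pow_char, h3, one_pow, sub_self]
    have := pow_eq_zero_iff (hprime.ne_zero) |>.mp h5
    linear_combination this
  exact Units.ext h4

theorem det_T {F V : Type*} [Field F] [Fintype F] [AddCommGroup V] [Module F V]
    (Q : QuadraticForm F V) {t : V ≃ₗ[F] V} (ht : t ∈ T Q) : LinearEquiv.det t = 1 := by
  have hle : T Q ≤ (LinearEquiv.det (R := F) (M := V)).ker := by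
    rw [T, Subgroup.closure_le]
    rintro g ⟨u, s, hu, hs, hus, rfl⟩
    exact det_E Q hu hus
  exact hle ht

/-- BAL-D1: in odd dimension (odd characteristic) `-1` does not lie in the group generated by the long root elements. -/
theorem D1 {F V : Type*} [Field F] [Fintype F] [AddCommGroup V] [Module F V] [FiniteDimensional F V]
    (h2 : (2 : F) ≠ 0) (Q : QuadraticForm F V) (hdim : Odd (finrank F V))
    (t : V ≃ₗ[F] V) (ht : t ∈ T Q) (hneg : ∀ v : V, t v = -v) : False := by
  have h1 := det_T Q ht
  have h3 : (t : V →ₗ[F] V) = (-1 : F) • LinearMap.id := by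
    apply LinearMap.ext
    intro v
    rw [LinearEquiv.coe_coe, hneg, LinearMap.smul_apply, LinearMap.id_apply, neg_one_smul]
  have h4 : LinearMap.det (t : V →ₗ[F] V) = -1 := by
    rw [h3, LinearMap.det_smul, LinearMap.det_id, mul_one, hdim.neg_one_pow]
  have h5 : LinearMap.det (t : V →ₗ[F] V) = 1 := by
    rw [← LinearEquiv.coe_det, h1, Units.val_one]
  rw [h4] at h5
  apply h2
  linear_combination -h5

end Cfsg.Agent.Lib.Helper52_Bal_D1
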