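import Mathlib

/-!
# BAL-D2 (helper58, for helper14): the dimension over the quadratic extension

`{1, ρ}` an `F`-basis of `K` and `V` a `K`-space finite-dimensional over `F`: then `V` is
finite-dimensional over `K` and `finrank F V = 2 * finrank K V`.
-/

set_option autoImplicit false

namespace Cfsg.Agent.Lib.Helper58_Bal_D2

open Module

/-- `{1, ρ}` spanning and independent gives `finrank F K = 2`. -/
theorem finrank_eq_two {F K : Type*} [Field F] [Field K] [Algebra F K] (ρ : K)
    (hbasis : ∀ k : K, ∃ a b : F, k = algebraMap F K a + algebraMap F K b * ρ)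
    (hindep : ∀ a b : F, algebraMap F K a + algebraMap F K b * ρ = 0 → a = 0 ∧ b = 0) :
    finrank F K = 2 := by
  have hli : LinearIndependent F ![(1 : K), ρ] := by
    rw [LinearIndependent.pair_iff]
    intro s t hst
    apply hindep s t
    rw [← hst, Algebra.smul_def, Algebra.smul_def, mul_one]
  have hsp : ⊤ ≤ Submodule.span F (Set.range ![(1 : K), ρ]) := by
    intro k _
    obtain ⟨a, b, rfl⟩ := hbasis k
    have h1 : (1 : K) ∈ Submodule.span F (Set.range ![(1 : K), ρ]) :=
      Submodule.subset_span ⟨0, rfl⟩
    have h2 : ρ ∈ Submodule.span F (Set.range ![(1 : K), ρ]) :=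
      Submodule.subset_span ⟨1, rfl⟩
    have : algebraMap F K a + algebraMap F K b * ρ = a • (1 : K) + b • ρ := by
      rw [Algebra.smul_def, Algebra.smul_def, mul_one]
    rw [this]
    exact Submodule.add_mem _ (Submodule.smul_mem _ _ h1) (Submodule.smul_mem _ _ h2)
  have := Module.finrank_eq_card_basis (Basis.mk hli hsp)
  rw [this, Fintype.card_fin]

/-- BAL-D2: the dimension over the quadratic extension. -/
theorem D2 {F K V : Type*} [Field F] [Field K] [Algebra F K] [AddCommGroup V] [Module F V]
    [Module K V] [IsScalarTower F K V] [FiniteDimensional F V] (ρ : K)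
    (hbasis : ∀ k : K, ∃ a b : F, k = algebraMap F K a + algebraMap F K b * ρ)
    (hindep : ∀ a b : F, algebraMap F K a + algebraMap F K b * ρ = 0 → a = 0 ∧ b = 0) :
    FiniteDimensional K V ∧ finrank F V = 2 * finrank K V := by
  have hK : FiniteDimensional K V := Module.Finite.right F K V
  refine ⟨hK, ?_⟩
  rw [← Module.finrank_mul_finrank F K V, finrank_eq_two ρ hbasis hindep]

end Cfsg.Agent.Lib.Helper58_Bal_D2
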