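import Mathlib

/-!
# BAL-K2 (helper58, for helper14): the quadratic extension acting through `θ`

`θ : V →ₗ[F] V` with `θ² = ν`, `ν` a non-square: `K = AdjoinRoot (X² - ν)` is a finite field, `V`
is a `K`-space through `ρ ↦ θ`, and `{1, ρ}` is an `F`-basis of `K`.
-/

set_option autoImplicit false
set_option linter.style.haveILetI false

namespace Cfsg.Agent.Lib.Helper58_Bal_K2

open Polynomial

universe u v

/-- BAL-K2: a linear map with non-square scalar square makes `V` a vector space over the quadratic
extension. -/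
theorem K2 {F : Type u} {V : Type v} [Field F] [Fintype F] [AddCommGroup V] [Module F V]
    (θ : V →ₗ[F] V) (ν : F) (hν : ¬ IsSquare ν) (hθθ : ∀ v, θ (θ v) = ν • v) :
    ∃ (K : Type u) (_ : Field K) (_ : Fintype K) (_ : Algebra F K) (_ : Module K V)
      (_ : IsScalarTower F K V) (ρ : K),
      ρ * ρ = algebraMap F K ν ∧ (∀ v : V, ρ • v = θ v) ∧
      (∀ k : K, ∃ a b : F, k = algebraMap F K a + algebraMap F K b * ρ) ∧
      (∀ a b : F, algebraMap F K a + algebraMap F K b * ρ = 0 → a = 0 ∧ b = 0) := by
  classical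
  obtain ⟨f, hf⟩ : ∃ f : F[X], f = X ^ 2 - C ν := ⟨_, rfl⟩
  have hirr : Irreducible f := by
    rw [hf, X_pow_sub_C_irreducible_iff_of_prime Nat.prime_two]
    intro b hb
    exact hν ⟨b, by rw [← hb, pow_two]⟩
  haveI : Fact (Irreducible f) := ⟨hirr⟩
  have hf0 : f ≠ 0 := hirr.ne_zero
  have hmonic : f.Monic := by
    rw [hf]
    exact monic_X_pow_sub_C ν (by norm_num)
  have hdeg : f.natDegree = 2 := by
    rw [hf]
    exact natDegree_X_pow_sub_C
  have hf1 : f ≠ 1 := by
    intro h
    rw [h, natDegree_one] at hdeg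
    omega
  haveI : Module.Finite F (AdjoinRoot f) := (AdjoinRoot.powerBasis hf0).finite
  haveI : Finite (AdjoinRoot f) := Module.finite_of_finite F
  letI : Fintype (AdjoinRoot f) := Fintype.ofFinite _
  have haev : Polynomial.aeval θ f = 0 := by
    rw [hf, map_sub, map_pow, aeval_X, aeval_C]
    ext v
    simp [pow_two, hθθ]
  let φ : AdjoinRoot f →+* Module.End F V :=
    Ideal.Quotient.lift (Ideal.span {f}) (Polynomial.aeval θ : F[X] →ₐ[F] Module.End F V).toRingHom
      (by
        intro a ha
        obtain ⟨g, rfl⟩ := Ideal.mem_span_singleton'.mp ha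
        simp [haev])
  have hφmk : ∀ p : F[X], φ (AdjoinRoot.mk f p) = Polynomial.aeval θ p := fun p => rfl
  letI : Module (AdjoinRoot f) V := Module.compHom V φ
  have hsmul : ∀ (k : AdjoinRoot f) (v : V), k • v = φ k v := fun k v => rfl
  have hφof : ∀ a : F, φ (algebraMap F (AdjoinRoot f) a) = algebraMap F (Module.End F V) a := by
    intro a
    rw [AdjoinRoot.algebraMap_eq, ← AdjoinRoot.mk_C, hφmk, aeval_C]
  haveI : IsScalarTower F (AdjoinRoot f) V := ⟨fun a k v => by
    rw [hsmul, hsmul, Algebra.smul_def, map_mul, hφof]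
    simp [Module.algebraMap_end_apply]⟩
  have hroot : AdjoinRoot.root f * AdjoinRoot.root f = algebraMap F (AdjoinRoot f) ν := by
    have h := AdjoinRoot.eval₂_root f
    rw [hf, eval₂_sub, eval₂_pow, eval₂_X, eval₂_C, ← hf, sub_eq_zero, pow_two] at h
    rw [AdjoinRoot.algebraMap_eq]
    exact h
  refine ⟨AdjoinRoot f, inferInstance, inferInstance, inferInstance, inferInstance, inferInstance,
    AdjoinRoot.root f, hroot, ?_, ?_, ?_⟩
  · intro v
    rw [hsmul, ← AdjoinRoot.mk_X, hφmk, aeval_X]
  · intro k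
    induction k using AdjoinRoot.induction_on with
    | ih p =>
      have hlt : (p %ₘ f).natDegree < 2 := by
        rw [← hdeg]
        exact natDegree_modByMonic_lt p hmonic hf1
      have hr := Polynomial.eq_X_add_C_of_natDegree_le_one (p := p %ₘ f) (by omega)
      have hmk : AdjoinRoot.mk f p = AdjoinRoot.mk f (p %ₘ f) := by
        rw [AdjoinRoot.mk_eq_mk]
        refine ⟨p /ₘ f, ?_⟩
        have := modByMonic_add_div p f
        linear_combination -this
      refine ⟨(p %ₘ f).coeff 0, (p %ₘ f).coeff 1, ?_⟩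
      rw [hmk]
      conv_lhs => rw [hr]
      rw [map_add, map_mul, AdjoinRoot.mk_C, AdjoinRoot.mk_C, AdjoinRoot.mk_X,
        AdjoinRoot.algebraMap_eq]
      ring
  · intro a b hab
    have h1 : AdjoinRoot.mk f (C a + C b * X) = 0 := by
      rw [map_add, map_mul, AdjoinRoot.mk_C, AdjoinRoot.mk_C, AdjoinRoot.mk_X,
        ← AdjoinRoot.algebraMap_eq]
      exact hab
    rw [AdjoinRoot.mk_eq_zero] at h1
    have h2 : C a + C b * X = 0 := by
      by_contra hne
      have h3 := Polynomial.natDegree_le_of_dvd h1 hne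
      have h4 : (C a + C b * X).natDegree ≤ 1 := by
        rw [add_comm]
        exact natDegree_linear_le
      omega
    have ha : a = 0 := by
      have := congrArg (fun q => q.coeff 0) h2
      simpa using this
    have hb : b = 0 := by
      have := congrArg (fun q => q.coeff 1) h2
      simpa using this
    exact ⟨ha, hb⟩

end Cfsg.Agent.Lib.Helper58_Bal_K2
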