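import Mathlib

/-!
# BAL-K3 (helper58, for helper14): the quadratic form over the quadratic extension

`K = F(ρ)`, `ρ² = ν ∈ Fˣ`, `V` a `K`-space, `Q` an `F`-quadratic form on `V` with non-degenerate
polar form `B` and `Q (ρ v) = ν Q v`.  Then `ρ` is self-adjoint for `B`,
`bk u v = B(u,v)/4 + (B(ρu,v)/(4ν)) ρ` is a symmetric `K`-bilinear form, and
`QK v = bk v v = Q v / 2 + (B(ρ v, v)/(4ν)) ρ` is a `K`-quadratic form with non-degenerate polar
form `2 bk`.
-/

set_option autoImplicit false

namespace Cfsg.Agent.Lib.Helper58_Bal_K3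

open Module

variable {F K V : Type*} [Field F] [Field K] [Algebra F K] [AddCommGroup V] [Module F V]
  [Module K V] [IsScalarTower F K V]

/-- BAL-K3: the quadratic form over the quadratic extension. -/
theorem K3 (h2 : (2 : F) ≠ 0) (Q : QuadraticForm F V)
    (hQ : (QuadraticMap.polarBilin Q).Nondegenerate) (ρ : K) (ν : F) (hν : ν ≠ 0)
    (hρρ : ρ * ρ = algebraMap F K ν)
    (hbasis : ∀ k : K, ∃ a b : F, k = algebraMap F K a + algebraMap F K b * ρ)
    (hindep : ∀ a b : F, algebraMap F K a + algebraMap F K b * ρ = 0 → a = 0 ∧ b = 0)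
    (hQρ : ∀ v : V, Q (ρ • v) = ν * Q v) :
    ∃ QK : QuadraticForm K V, (QuadraticMap.polarBilin QK).Nondegenerate ∧
      ∀ v : V, QK v = algebraMap F K (Q v / 2) +
        algebraMap F K (QuadraticMap.polar (⇑Q) (ρ • v) v / (4 * ν)) * ρ := by
  classical
  have h4 : (4 : F) ≠ 0 := by
    have : (4 : F) = 2 * 2 := by norm_num
    rw [this]
    exact mul_ne_zero h2 h2
  set B : LinearMap.BilinForm F V := QuadraticMap.polarBilin Q with hB
  have hBa : ∀ x y, QuadraticMap.polar (⇑Q) x y = B x y := fun x y => rfl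
  have hsymm : ∀ x y, B x y = B y x := fun x y => QuadraticMap.polar_comm _ _ _
  have hρρv : ∀ v : V, ρ • ρ • v = ν • v := by
    intro v
    rw [← mul_smul, hρρ, algebraMap_smul]
  have hBρρ : ∀ u v, B (ρ • u) (ρ • v) = ν * B u v := by
    intro u v
    simp only [← hBa, QuadraticMap.polar, ← smul_add, hQρ]
    ring
  have hadj : ∀ u v, B (ρ • u) v = B u (ρ • v) := by
    intro u v
    have h := hBρρ u (ρ • v)
    rw [hρρv, map_smul, smul_eq_mul] at h
    exact mul_left_cancel₀ hν h
  have hcomm : ∀ (a : F) (u : V), ρ • a • u = a • ρ • u := fun a u => smul_comm ρ a u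
  -- the `K`-valued form
  obtain ⟨bk, hbk⟩ : ∃ bk : V → V → K, ∀ u v, bk u v = algebraMap F K (B u v / 4) +
      algebraMap F K (B (ρ • u) v / (4 * ν)) * ρ := ⟨_, fun _ _ => rfl⟩
  have bk_add : ∀ u u' v, bk (u + u') v = bk u v + bk u' v := by
    intro u u' v
    simp only [hbk, smul_add, map_add, LinearMap.add_apply, add_div]
    ring
  have bk_fsmul : ∀ (a : F) u v, bk (a • u) v = algebraMap F K a * bk u v := by
    intro a u v
    simp only [hbk, hcomm, map_smul, LinearMap.smul_apply, smul_eq_mul, mul_div_assoc, map_mul]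
    ring
  have bk_rho : ∀ u v, bk (ρ • u) v = ρ * bk u v := by
    intro u v
    have e1 : B (ρ • ρ • u) v / (4 * ν) = B u v / 4 := by
      rw [hρρv, map_smul, LinearMap.smul_apply, smul_eq_mul]
      field_simp
    have e2 : algebraMap F K (B (ρ • u) v / (4 * ν)) * ρ * ρ = algebraMap F K (B (ρ • u) v / 4) := by
      rw [mul_assoc, hρρ, ← map_mul]
      congr 1
      field_simp
    rw [hbk, hbk, e1]
    linear_combination (-1 : K) * e2
  have bk_symm : ∀ u v, bk u v = bk v u := by
    intro u v
    rw [hbk, hbk, hsymm u v, hadj u v, hsymm u (ρ • v)]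
  have bk_smul : ∀ (k : K) u v, bk (k • u) v = k * bk u v := by
    intro k u v
    obtain ⟨a, b, rfl⟩ := hbasis k
    rw [add_smul, mul_smul, algebraMap_smul, algebraMap_smul, bk_add, bk_fsmul, bk_fsmul, bk_rho]
    ring
  have bk_add_right : ∀ u v v', bk u (v + v') = bk u v + bk u v' := by
    intro u v v'
    rw [bk_symm, bk_add, bk_symm v u, bk_symm v' u]
  have bk_smul_right : ∀ (k : K) u v, bk u (k • v) = k * bk u v := by
    intro k u v
    rw [bk_symm, bk_smul, bk_symm]
  let BK : LinearMap.BilinForm K V := LinearMap.mk₂ K bk bk_add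
    (fun k u v => by rw [bk_smul]; rfl) bk_add_right (fun k u v => by rw [bk_smul_right]; rfl)
  have hBK : ∀ u v, BK u v = bk u v := fun u v => rfl
  refine ⟨LinearMap.BilinMap.toQuadraticMap BK, ?_, ?_⟩
  · -- non-degeneracy
    have key : ∀ u v, QuadraticMap.polarBilin (LinearMap.BilinMap.toQuadraticMap BK) u v = 0 →
        B u v = 0 := by
      intro u v h
      rw [QuadraticMap.polarBilin_apply_apply, LinearMap.BilinMap.polar_toQuadraticMap, hBK, hBK,
        bk_symm v u, hbk] at h
      have h' : algebraMap F K (B u v / 4 + B u v / 4) +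
          algebraMap F K (B (ρ • u) v / (4 * ν) + B (ρ • u) v / (4 * ν)) * ρ = 0 := by
        rw [← h, map_add, map_add]
        ring
      have h3 := (hindep _ _ h').1
      have h5 : B u v / 4 + B u v / 4 = B u v / 2 := by
        field_simp
        ring
      rw [h5] at h3
      exact (div_eq_zero_iff.mp h3).resolve_right h2
    refine ⟨fun u hu => ?_, fun v hv => ?_⟩
    · exact hQ.1 u (fun v => key u v (hu v))
    · exact hQ.2 v (fun u => key u v (hv u))
  · intro v
    rw [LinearMap.BilinMap.toQuadraticMap_apply, hBK, hbk, hBa]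
    congr 2
    rw [← hBa, QuadraticMap.polar_self]
    rw [nsmul_eq_mul]
    push_cast
    field_simp
    ring

end Cfsg.Agent.Lib.Helper58_Bal_K3
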