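import Mathlib

set_option autoImplicit false

/-!
Maximal totally singular subspaces of a quadratic space of dimension `2m` and the effect of a reflection
(orthogonal transvection) on the dimension of their intersections (helper44).  Any characteristic.
-/

namespace Cfsg.Agent.Lib.Helper44_Flip

open Module

variable {F : Type*} [Field F] {V : Type*} [AddCommGroup V] [Module F V]

theorem polar_eq_zero_of_ts (Q : QuadraticForm F V) {U : Submodule F V} (hU : ∀ u ∈ U, Q u = 0)
    {x y : V} (hx : x ∈ U) (hy : y ∈ U) : QuadraticMap.polar (⇑Q) x y = 0 := by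
  simp only [QuadraticMap.polar]
  rw [hU _ (U.add_mem hx hy), hU x hx, hU y hy]
  ring

theorem orthogonal_eq_self [FiniteDimensional F V] (Q : QuadraticForm F V)
    (hQ : (QuadraticMap.polarBilin Q).Nondegenerate) {m : ℕ} (hV : finrank F V = 2 * m)
    {U : Submodule F V} (hU : ∀ u ∈ U, Q u = 0) (hdim : finrank F U = m) :
    LinearMap.BilinForm.orthogonal (QuadraticMap.polarBilin Q) U = U := by
  symm
  apply Submodule.eq_of_le_of_finrank_eq
  · intro x hx n hn
    exact polar_eq_zero_of_ts Q hU hn hx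
  · rw [LinearMap.BilinForm.finrank_orthogonal hQ, hV, hdim]
    omega

/-- **Flip lemma**: a reflection changes the dimension of the intersection of two maximal totally singular
subspaces by exactly one. -/
theorem flip [FiniteDimensional F V] (Q : QuadraticForm F V)
    (hQ : (QuadraticMap.polarBilin Q).Nondegenerate) {m : ℕ} (hV : finrank F V = 2 * m)
    (U W : Submodule F V) (hU : ∀ u ∈ U, Q u = 0) (hW : ∀ w ∈ W, Q w = 0)
    (hUm : finrank F U = m) (hWm : finrank F W = m) (v : V) (hv : Q v ≠ 0) (r : V →ₗ[F] V)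
    (hr : ∀ x, r x = x - ((Q v)⁻¹ * QuadraticMap.polar (⇑Q) v x) • v) :
    finrank F ↥(U ⊓ W) = finrank F ↥(U ⊓ W.map r) + 1 ∨
      finrank F ↥(U ⊓ W.map r) = finrank F ↥(U ⊓ W) + 1 := by
  set B := QuadraticMap.polarBilin Q with hB
  have hBa : ∀ x y, B x y = QuadraticMap.polar (⇑Q) x y := fun x y => rfl
  have hsymm : ∀ x y, B x y = B y x := fun x y => by
    rw [hBa, hBa]; exact QuadraticMap.polar_comm _ _ _
  have hrefl : B.IsRefl := fun x y h => by rw [hsymm]; exact h
  have hUo := orthogonal_eq_self Q hQ hV hU hUm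
  have hWo := orthogonal_eq_self Q hQ hV hW hWm
  have hvW : v ∉ W := fun h => hv (hW v h)
  have hv0 : v ≠ 0 := fun h => hv (by rw [h, map_zero])
  set T := W ⊔ Submodule.span F {v} with hTdef
  have hdisj : W ⊓ Submodule.span F {v} = ⊥ := by
    rw [eq_bot_iff]
    rintro x ⟨hxW, hxv⟩
    obtain ⟨c, rfl⟩ := Submodule.mem_span_singleton.mp hxv
    by_cases hc : c = 0
    · simp [hc]
    · exfalso; apply hvW
      have := W.smul_mem c⁻¹ hxW
      rwa [smul_smul, inv_mul_cancel₀ hc, one_smul] at this
  have hT : finrank F T = m + 1 := by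
    have := Submodule.finrank_sup_add_finrank_inf_eq W (Submodule.span F {v})
    rw [hdisj, finrank_bot, finrank_span_singleton hv0, hWm] at this
    omega
  have hm : 1 ≤ m := by
    have := Submodule.finrank_le T
    omega
  set W₀ := LinearMap.BilinForm.orthogonal B T with hW₀def
  have hW₀ : finrank F W₀ = m - 1 := by
    rw [hW₀def, LinearMap.BilinForm.finrank_orthogonal hQ, hV, hT]; omega
  have hvT : v ∈ T := Submodule.mem_sup_right (Submodule.mem_span_singleton_self v)
  have hWT : W ≤ T := le_sup_left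
  have hW₀W : W₀ ≤ W := by
    have := LinearMap.BilinForm.orthogonal_le (B := B) hWT
    rwa [hWo] at this
  have hW₀v : ∀ x ∈ W₀, QuadraticMap.polar (⇑Q) v x = 0 := fun x hx => hx v hvT
  have hD : LinearMap.BilinForm.orthogonal B (U ⊔ W₀) = U ⊓ T := by
    apply le_antisymm
    · intro x hx
      refine ⟨?_, ?_⟩
      · rw [← hUo]
        exact LinearMap.BilinForm.orthogonal_le (B := B) le_sup_left hx
      · rw [← LinearMap.BilinForm.orthogonal_orthogonal hQ hrefl T]
        exact LinearMap.BilinForm.orthogonal_le (B := B) le_sup_right hx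
    · rintro x ⟨hxU, hxT⟩ n hn
      obtain ⟨u, hu, w, hw, rfl⟩ := Submodule.mem_sup.mp hn
      have h1 : B u x = 0 := polar_eq_zero_of_ts Q hU hu hxU
      have h2 : B w x = 0 := by
        rw [hsymm]; exact hw x hxT
      change B (u + w) x = 0
      rw [map_add, LinearMap.add_apply, h1, h2, add_zero]
  have hdimD : finrank F ↥(U ⊓ T) = finrank F ↥(U ⊓ W₀) + 1 := by
    have h1 := LinearMap.BilinForm.finrank_orthogonal hQ (U ⊔ W₀)
    rw [hD, hV] at h1
    have h2 := Submodule.finrank_sup_add_finrank_inf_eq U W₀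
    rw [hUm, hW₀] at h2
    have h3 := Submodule.finrank_le (U ⊔ W₀)
    rw [hV] at h3
    have h4 : finrank F ↥(U ⊓ W₀) ≤ m - 1 := by
      rw [← hW₀]; exact Submodule.finrank_mono inf_le_right
    omega
  have hsing : ∀ x ∈ T, Q x = 0 → x ∈ W ∨ x ∈ W.map r := by
    intro x hx hQx
    obtain ⟨w, hw, y, hy, rfl⟩ := Submodule.mem_sup.mp hx
    obtain ⟨c, rfl⟩ := Submodule.mem_span_singleton.mp hy
    by_cases hc : c = 0
    · left; simpa [hc] using hw
    · right
      refine ⟨w, hw, ?_⟩
      rw [hr]
      have h1 : Q (w + c • v) = c * (c * Q v + QuadraticMap.polar (⇑Q) v w) := by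
        rw [QuadraticMap.map_add (⇑Q) w (c • v), QuadraticMap.map_smul, QuadraticMap.polar_smul_right, hW w hw,
          QuadraticMap.polar_comm (⇑Q) w v]
        simp only [smul_eq_mul]
        ring
      rw [hQx] at h1
      have h2 : c * Q v + QuadraticMap.polar (⇑Q) v w = 0 := by
        rcases mul_eq_zero.mp h1.symm with h | h
        · exact absurd h hc
        · exact h
      have h3 : (Q v)⁻¹ * QuadraticMap.polar (⇑Q) v w = -c := by
        have : QuadraticMap.polar (⇑Q) v w = -(c * Q v) := by linear_combination h2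
        rw [this]
        field_simp
      rw [h3, neg_smul, sub_neg_eq_add]
  have hDle : U ⊓ T ≤ W ∨ U ⊓ T ≤ W.map r := by
    by_contra hcon
    push Not at hcon
    obtain ⟨h1, h2⟩ := hcon
    obtain ⟨x, hx, hxW⟩ := SetLike.not_le_iff_exists.mp h1
    obtain ⟨y, hy, hyW⟩ := SetLike.not_le_iff_exists.mp h2
    have hxr : x ∈ W.map r := (hsing x hx.2 (hU x hx.1)).resolve_left hxW
    have hyw : y ∈ W := (hsing y hy.2 (hU y hy.1)).resolve_right hyW
    have hxy : x + y ∈ U ⊓ T := Submodule.add_mem _ hx hy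
    rcases hsing (x + y) hxy.2 (hU _ hxy.1) with h | h
    · apply hxW
      have := W.sub_mem h hyw
      rwa [add_sub_cancel_right] at this
    · apply hyW
      have := (W.map r).sub_mem h hxr
      rwa [add_sub_cancel_left] at this
  have hrT : W.map r ≤ T := by
    rintro x ⟨w, hw, rfl⟩
    rw [hr]
    exact T.sub_mem (hWT hw) (T.smul_mem _ hvT)
  have hWrW : W ⊓ W.map r ≤ W₀ := by
    rintro x ⟨hxW, w, hw, hwx⟩
    rw [hr] at hwx
    set c := (Q v)⁻¹ * QuadraticMap.polar (⇑Q) v w with hc
    have hcv : c • v ∈ W := by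
      have : c • v = w - x := by rw [← hwx]; abel
      rw [this]; exact W.sub_mem hw hxW
    have hc0 : c = 0 := by
      by_contra hne
      apply hvW
      have := W.smul_mem c⁻¹ hcv
      rwa [smul_smul, inv_mul_cancel₀ hne, one_smul] at this
    have hxw : x = w := by rw [← hwx, hc0, zero_smul, sub_zero]
    have hvw : QuadraticMap.polar (⇑Q) v w = 0 := by
      rcases mul_eq_zero.mp (hc.symm.trans hc0) with h | h
      · exact absurd (inv_eq_zero.mp h) hv
      · exact h
    intro t ht
    obtain ⟨w', hw', y, hy, rfl⟩ := Submodule.mem_sup.mp ht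
    obtain ⟨d, rfl⟩ := Submodule.mem_span_singleton.mp hy
    change B (w' + d • v) x = 0
    rw [map_add, LinearMap.add_apply, map_smul, LinearMap.smul_apply, hBa, hBa, hxw, hvw,
      polar_eq_zero_of_ts Q hW hw' hw, smul_zero, add_zero]
  have hW₀rW : W₀ ≤ W.map r := by
    intro x hx
    refine ⟨x, hW₀W hx, ?_⟩
    rw [hr, hW₀v x hx, mul_zero, zero_smul, sub_zero]
  rcases hDle with hle | hle
  · left
    have e1 : U ⊓ W = U ⊓ T := le_antisymm (inf_le_inf_left U hWT) (le_inf inf_le_left hle)
    have e2 : U ⊓ W.map r = U ⊓ W₀ := by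
      apply le_antisymm
      · have h1 : U ⊓ W.map r ≤ U ⊓ T := inf_le_inf_left U hrT
        exact le_inf inf_le_left (hWrW.trans' (le_inf (h1.trans hle) inf_le_right))
      · exact inf_le_inf_left U hW₀rW
    rw [e1, e2, hdimD]
  · right
    have e1 : U ⊓ W.map r = U ⊓ T := le_antisymm (inf_le_inf_left U hrT) (le_inf inf_le_left hle)
    have e2 : U ⊓ W = U ⊓ W₀ := by
      apply le_antisymm
      · have h1 : U ⊓ W ≤ U ⊓ T := inf_le_inf_left U hWT
        exact le_inf inf_le_left (hWrW.trans' (le_inf inf_le_right (h1.trans hle)))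
      · exact inf_le_inf_left U hW₀W
    rw [e1, e2, hdimD]

end Cfsg.Agent.Lib.Helper44_Flip
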