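import Mathlib
import Cfsg.Agent.Lib.Helper44_Flip

set_option autoImplicit false

/-!
Maximal totally singular subspaces of a quadratic space of dimension `2m` with non-degenerate polar form
(any field, any characteristic): a totally singular `(m-1)`-space lies in exactly two of them, adjacency,
and the parity of `dim (U ∩ W)` (helper14).
-/

namespace Cfsg.Agent.Helper14_MaxTS

open Module Cfsg.Agent.Lib.Helper44_Flip

variable {F : Type*} [Field F] {V : Type*} [AddCommGroup V] [Module F V]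

section basic
variable (Q : QuadraticForm F V)

theorem pol_comm (x y : V) :
    QuadraticMap.polarBilin Q x y = QuadraticMap.polarBilin Q y x :=
  QuadraticMap.polar_comm _ _ _

theorem pol_self_of_singular {x : V} (hx : Q x = 0) : QuadraticMap.polarBilin Q x x = 0 := by
  simp [QuadraticMap.polarBilin_apply_apply, QuadraticMap.polar_self, hx]

theorem Q_add (x y : V) : Q (x + y) = Q x + Q y + QuadraticMap.polarBilin Q x y := by
  simp only [QuadraticMap.polarBilin_apply_apply, QuadraticMap.polar]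
  ring

theorem ts_le_orth {U : Submodule F V} (hU : ∀ u ∈ U, Q u = 0) :
    U ≤ LinearMap.BilinForm.orthogonal (QuadraticMap.polarBilin Q) U := by
  intro x hx n hn
  exact polar_eq_zero_of_ts Q hU hn hx

theorem ts_sup_span {H : Submodule F V} (hH : ∀ u ∈ H, Q u = 0) {x : V} (hx : Q x = 0)
    (hxH : x ∈ LinearMap.BilinForm.orthogonal (QuadraticMap.polarBilin Q) H) :
    ∀ u ∈ H ⊔ Submodule.span F {x}, Q u = 0 := by
  intro u hu
  obtain ⟨h, hh, y, hy, rfl⟩ := Submodule.mem_sup.mp hu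
  obtain ⟨c, rfl⟩ := Submodule.mem_span_singleton.mp hy
  rw [Q_add, hH h hh, QuadraticMap.map_smul, hx]
  have : QuadraticMap.polarBilin Q h x = 0 := hxH h hh
  simp [this]

theorem finrank_sup_span [FiniteDimensional F V] {U : Submodule F V} {x : V} (hx : x ∉ U) :
    finrank F ↥(U ⊔ Submodule.span F {x}) = finrank F U + 1 := by
  have hx0 : x ≠ 0 := fun h => hx (h ▸ U.zero_mem)
  have hdisj : U ⊓ Submodule.span F {x} = ⊥ := by
    rw [eq_bot_iff]
    rintro y ⟨hyU, hyx⟩
    obtain ⟨c, rfl⟩ := Submodule.mem_span_singleton.mp hyx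
    by_cases hc : c = 0
    · simp [hc]
    · exfalso; apply hx
      have := U.smul_mem c⁻¹ hyU
      rwa [smul_smul, inv_mul_cancel₀ hc, one_smul] at this
  have := Submodule.finrank_sup_add_finrank_inf_eq U (Submodule.span F {x})
  rw [hdisj, finrank_bot, finrank_span_singleton hx0] at this
  omega

theorem orth_sup (U W : Submodule F V) :
    LinearMap.BilinForm.orthogonal (QuadraticMap.polarBilin Q) (U ⊔ W) =
      LinearMap.BilinForm.orthogonal (QuadraticMap.polarBilin Q) U ⊓
        LinearMap.BilinForm.orthogonal (QuadraticMap.polarBilin Q) W := by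
  apply le_antisymm
  · exact le_inf (LinearMap.BilinForm.orthogonal_le le_sup_left)
      (LinearMap.BilinForm.orthogonal_le le_sup_right)
  · rintro y ⟨hyU, hyW⟩ n hn
    obtain ⟨u, hu, w, hw, rfl⟩ := Submodule.mem_sup.mp hn
    have h1 : QuadraticMap.polarBilin Q u y = 0 := hyU u hu
    have h2 : QuadraticMap.polarBilin Q w y = 0 := hyW w hw
    change QuadraticMap.polarBilin Q (u + w) y = 0
    rw [map_add, LinearMap.add_apply, h1, h2, add_zero]

end basic

section mts
variable [FiniteDimensional F V] (Q : QuadraticForm F V)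
  (hQ : (QuadraticMap.polarBilin Q).Nondegenerate) {m : ℕ} (hV : finrank F V = 2 * m)

include hQ hV

/-- For a maximal totally singular `X` and a totally singular `(m-1)`-space `H`:
`dim (X ∩ H^⊥) = dim (X ∩ H) + 1`. -/
theorem finrank_inf_orth {X H : Submodule F V} (hX : ∀ u ∈ X, Q u = 0) (hXm : finrank F X = m)
    (hHm : finrank F H + 1 = m) :
    finrank F ↥(X ⊓ LinearMap.BilinForm.orthogonal (QuadraticMap.polarBilin Q) H) =
      finrank F ↥(X ⊓ H) + 1 := by
  have hXo := orthogonal_eq_self Q hQ hV hX hXm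
  have h1 : X ⊓ LinearMap.BilinForm.orthogonal (QuadraticMap.polarBilin Q) H =
      LinearMap.BilinForm.orthogonal (QuadraticMap.polarBilin Q) (X ⊔ H) := by
    rw [orth_sup, hXo]
  rw [h1, LinearMap.BilinForm.finrank_orthogonal hQ, hV]
  have h2 := Submodule.finrank_sup_add_finrank_inf_eq X H
  have h3 : finrank F ↥(X ⊓ H) ≤ finrank F H := Submodule.finrank_mono inf_le_right
  omega

theorem exists_ext {X H : Submodule F V} (hX : ∀ u ∈ X, Q u = 0) (hXm : finrank F X = m)
    (hH : ∀ u ∈ H, Q u = 0) (hHm : finrank F H + 1 = m) :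
    ∃ x ∈ X, x ∈ LinearMap.BilinForm.orthogonal (QuadraticMap.polarBilin Q) H ∧ x ∉ H := by
  have h1 := finrank_inf_orth Q hQ hV hX hXm hHm
  have hle : X ⊓ H ≤ X ⊓ LinearMap.BilinForm.orthogonal (QuadraticMap.polarBilin Q) H :=
    inf_le_inf_left _ (ts_le_orth Q hH)
  have hlt : X ⊓ H < X ⊓ LinearMap.BilinForm.orthogonal (QuadraticMap.polarBilin Q) H := by
    refine lt_of_le_of_ne hle fun h => ?_
    rw [← h] at h1
    omega
  obtain ⟨x, hx, hxn⟩ := SetLike.exists_of_lt hlt
  exact ⟨x, hx.1, hx.2, fun h => hxn ⟨hx.1, h⟩⟩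

theorem not_mem_of_pol_ne {H : Submodule F V} {x z : V}
    (hz : z ∈ LinearMap.BilinForm.orthogonal (QuadraticMap.polarBilin Q) H)
    (hxz : QuadraticMap.polarBilin Q x z ≠ 0) : x ∉ H := fun h => hxz (hz x h)

/-- `H ⊔ ⟨x⟩` is maximal totally singular. -/
theorem mts_sup_span {H : Submodule F V} (hH : ∀ u ∈ H, Q u = 0) (hHm : finrank F H + 1 = m)
    {x : V} (hx : Q x = 0)
    (hxH : x ∈ LinearMap.BilinForm.orthogonal (QuadraticMap.polarBilin Q) H) (hxn : x ∉ H) :
    (∀ u ∈ H ⊔ Submodule.span F {x}, Q u = 0) ∧ finrank F ↥(H ⊔ Submodule.span F {x}) = m := by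
  refine ⟨ts_sup_span Q hH hx hxH, ?_⟩
  rw [finrank_sup_span hxn, hHm]

theorem exists_pair {H : Submodule F V} (hH : ∀ u ∈ H, Q u = 0) (hHm : finrank F H + 1 = m)
    {x : V} (hx : Q x = 0)
    (hxH : x ∈ LinearMap.BilinForm.orthogonal (QuadraticMap.polarBilin Q) H) (hxn : x ∉ H) :
    ∃ z, Q z = 0 ∧ z ∈ LinearMap.BilinForm.orthogonal (QuadraticMap.polarBilin Q) H ∧
      QuadraticMap.polarBilin Q x z ≠ 0 := by
  obtain ⟨hW1, hW1m⟩ := mts_sup_span Q hQ hV hH hHm hx hxH hxn
  have hW1o := orthogonal_eq_self Q hQ hV hW1 hW1m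
  have hle : H ⊔ Submodule.span F {x} ≤
      LinearMap.BilinForm.orthogonal (QuadraticMap.polarBilin Q) H := by
    refine sup_le (ts_le_orth Q hH) ?_
    rw [Submodule.span_singleton_le_iff_mem]
    exact hxH
  have hfo : finrank F ↥(LinearMap.BilinForm.orthogonal (QuadraticMap.polarBilin Q) H) = m + 1 := by
    rw [LinearMap.BilinForm.finrank_orthogonal hQ, hV]
    omega
  have hlt : H ⊔ Submodule.span F {x} <
      LinearMap.BilinForm.orthogonal (QuadraticMap.polarBilin Q) H := by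
    refine lt_of_le_of_ne hle fun h => ?_
    rw [← h] at hfo
    omega
  obtain ⟨z₀, hz₀, hz₀n⟩ := SetLike.exists_of_lt hlt
  have hb : QuadraticMap.polarBilin Q x z₀ ≠ 0 := by
    intro hb
    apply hz₀n
    rw [← hW1o]
    intro n hn
    obtain ⟨h, hh, y, hy, rfl⟩ := Submodule.mem_sup.mp hn
    obtain ⟨c, rfl⟩ := Submodule.mem_span_singleton.mp hy
    have h1 : QuadraticMap.polarBilin Q h z₀ = 0 := hz₀ h hh
    change QuadraticMap.polarBilin Q (h + c • x) z₀ = 0
    rw [map_add, LinearMap.add_apply, map_smul, LinearMap.smul_apply, h1, hb]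
    simp
  refine ⟨z₀ - (Q z₀ / QuadraticMap.polarBilin Q x z₀) • x, ?_, ?_, ?_⟩
  · rw [sub_eq_add_neg, ← neg_smul, Q_add, QuadraticMap.map_smul, hx, map_smul, pol_comm Q z₀ x]
    simp only [smul_eq_mul, mul_zero, add_zero]
    field_simp
    ring
  · exact Submodule.sub_mem _ hz₀ (Submodule.smul_mem _ _ hxH)
  · rw [map_sub, map_smul, pol_self_of_singular Q hx]
    simpa using hb

/-- Decomposition of `H^⊥` for a hyperbolic pair `x, z` over `H`. -/
theorem pair_decomp {H : Submodule F V} (hH : ∀ u ∈ H, Q u = 0) (hHm : finrank F H + 1 = m)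
    {x z : V} (hx : Q x = 0)
    (hxH : x ∈ LinearMap.BilinForm.orthogonal (QuadraticMap.polarBilin Q) H)
    (hzH : z ∈ LinearMap.BilinForm.orthogonal (QuadraticMap.polarBilin Q) H)
    (hxz : QuadraticMap.polarBilin Q x z ≠ 0) {t : V}
    (ht : t ∈ LinearMap.BilinForm.orthogonal (QuadraticMap.polarBilin Q) H) :
    ∃ h ∈ H, ∃ a b : F, t = h + a • x + b • z := by
  have hxn : x ∉ H := not_mem_of_pol_ne Q hQ hV hzH hxz
  obtain ⟨hW1, hW1m⟩ := mts_sup_span Q hQ hV hH hHm hx hxH hxn
  have hW1o := orthogonal_eq_self Q hQ hV hW1 hW1m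
  obtain ⟨b, hb⟩ : ∃ b : F, b = QuadraticMap.polarBilin Q x t / QuadraticMap.polarBilin Q x z :=
    ⟨_, rfl⟩
  have ht' : t - b • z ∈ H ⊔ Submodule.span F {x} := by
    rw [← hW1o]
    intro n hn
    obtain ⟨h, hh, y, hy, rfl⟩ := Submodule.mem_sup.mp hn
    obtain ⟨c, rfl⟩ := Submodule.mem_span_singleton.mp hy
    have h1 : QuadraticMap.polarBilin Q h t = 0 := ht h hh
    have h2 : QuadraticMap.polarBilin Q h z = 0 := hzH h hh
    change QuadraticMap.polarBilin Q (h + c • x) (t - b • z) = 0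
    simp only [map_add, map_sub, map_smul, LinearMap.add_apply, LinearMap.smul_apply,
      LinearMap.sub_apply, smul_eq_mul, h1, h2, hb]
    field_simp
    ring
  obtain ⟨h, hh, y, hy, hsum⟩ := Submodule.mem_sup.mp ht'
  obtain ⟨a, rfl⟩ := Submodule.mem_span_singleton.mp hy
  refine ⟨h, hh, a, b, ?_⟩
  rw [hsum]
  abel

theorem pair_distinct {H : Submodule F V} {x z : V} (hx : Q x = 0)
    (hxH : x ∈ LinearMap.BilinForm.orthogonal (QuadraticMap.polarBilin Q) H)
    (hxz : QuadraticMap.polarBilin Q x z ≠ 0) :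
    H ⊔ Submodule.span F {x} ≠ H ⊔ Submodule.span F {z} := by
  intro h
  have hz : z ∈ H ⊔ Submodule.span F {x} := by
    rw [h]
    exact Submodule.mem_sup_right (Submodule.mem_span_singleton_self z)
  obtain ⟨h', hh', y, hy, rfl⟩ := Submodule.mem_sup.mp hz
  obtain ⟨c, rfl⟩ := Submodule.mem_span_singleton.mp hy
  apply hxz
  have h1 : QuadraticMap.polarBilin Q h' x = 0 := hxH h' hh'
  rw [map_add, map_smul, pol_self_of_singular Q hx, pol_comm Q x h', h1]
  simp

/-- A maximal totally singular subspace containing `H` is one of the two `H ⊔ ⟨x⟩`, `H ⊔ ⟨z⟩`. -/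
theorem pair_unique {H : Submodule F V} (hH : ∀ u ∈ H, Q u = 0) (hHm : finrank F H + 1 = m)
    {x z : V} (hx : Q x = 0) (hz : Q z = 0)
    (hxH : x ∈ LinearMap.BilinForm.orthogonal (QuadraticMap.polarBilin Q) H)
    (hzH : z ∈ LinearMap.BilinForm.orthogonal (QuadraticMap.polarBilin Q) H)
    (hxz : QuadraticMap.polarBilin Q x z ≠ 0) {T : Submodule F V} (hT : ∀ u ∈ T, Q u = 0)
    (hTm : finrank F T = m) (hHT : H ≤ T) :
    T = H ⊔ Submodule.span F {x} ∨ T = H ⊔ Submodule.span F {z} := by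
  have hxn : x ∉ H := not_mem_of_pol_ne Q hQ hV hzH hxz
  have hzn : z ∉ H := not_mem_of_pol_ne Q hQ hV hxH (by rwa [pol_comm Q z x])
  obtain ⟨hW1, hW1m⟩ := mts_sup_span Q hQ hV hH hHm hx hxH hxn
  obtain ⟨hW2, hW2m⟩ := mts_sup_span Q hQ hV hH hHm hz hzH hzn
  have hlt : H < T := by
    refine lt_of_le_of_ne hHT fun h => ?_
    rw [h] at hHm
    omega
  obtain ⟨t, htT, htn⟩ := SetLike.exists_of_lt hlt
  have hto : t ∈ LinearMap.BilinForm.orthogonal (QuadraticMap.polarBilin Q) H :=
    LinearMap.BilinForm.orthogonal_le hHT (ts_le_orth Q hT htT)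
  obtain ⟨h, hh, a, b, rfl⟩ := pair_decomp Q hQ hV hH hHm hx hxH hzH hxz hto
  have hQt := hT _ htT
  have h1 : QuadraticMap.polarBilin Q h x = 0 := hxH h hh
  have h2 : QuadraticMap.polarBilin Q h z = 0 := hzH h hh
  have hab : a * b = 0 := by
    rw [Q_add, Q_add, hH h hh, QuadraticMap.map_smul, QuadraticMap.map_smul, hx, hz] at hQt
    simp only [map_add, map_smul, LinearMap.add_apply, LinearMap.smul_apply, smul_eq_mul, h1, h2,
      mul_zero, add_zero, zero_add, pol_self_of_singular Q hx] at hQt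
    have : a * b * QuadraticMap.polarBilin Q x z = 0 := by linear_combination hQt
    rcases mul_eq_zero.mp this with h | h
    · exact h
    · exact absurd h hxz
  rcases mul_eq_zero.mp hab with ha | hb
  · right
    subst ha
    have hb0 : b ≠ 0 := by
      rintro rfl
      apply htn
      simpa using hh
    have hzT : z ∈ T := by
      have h3 : b • z ∈ T := by
        have := T.sub_mem htT (hHT hh)
        simpa using this
      have := T.smul_mem b⁻¹ h3
      rwa [smul_smul, inv_mul_cancel₀ hb0, one_smul] at this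
    symm
    apply Submodule.eq_of_le_of_finrank_eq
    · refine sup_le hHT ?_
      rwa [Submodule.span_singleton_le_iff_mem]
    · rw [hW2m, hTm]
  · left
    subst hb
    have ha0 : a ≠ 0 := by
      rintro rfl
      apply htn
      simpa using hh
    have hxT : x ∈ T := by
      have h3 : a • x ∈ T := by
        have := T.sub_mem htT (hHT hh)
        simpa using this
      have := T.smul_mem a⁻¹ h3
      rwa [smul_smul, inv_mul_cancel₀ ha0, one_smul] at this
    symm
    apply Submodule.eq_of_le_of_finrank_eq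
    · refine sup_le hHT ?_
      rwa [Submodule.span_singleton_le_iff_mem]
    · rw [hW1m, hTm]

/-- Two maximal totally singular subspaces meeting in codimension one come from a hyperbolic pair. -/
theorem adj_pair {U U' : Submodule F V} (hU : ∀ u ∈ U, Q u = 0) (hUm : finrank F U = m)
    (hU' : ∀ u ∈ U', Q u = 0) (hU'm : finrank F U' = m)
    (hadj : finrank F ↥(U ⊓ U') + 1 = m) :
    ∃ x z, Q x = 0 ∧ Q z = 0 ∧
      x ∈ LinearMap.BilinForm.orthogonal (QuadraticMap.polarBilin Q) (U ⊓ U') ∧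
      z ∈ LinearMap.BilinForm.orthogonal (QuadraticMap.polarBilin Q) (U ⊓ U') ∧
      QuadraticMap.polarBilin Q x z ≠ 0 ∧ U = (U ⊓ U') ⊔ Submodule.span F {x} ∧
      U' = (U ⊓ U') ⊔ Submodule.span F {z} := by
  have hlt : U ⊓ U' < U := by
    refine lt_of_le_of_ne inf_le_left fun h => ?_
    rw [h] at hadj
    omega
  have hlt' : U ⊓ U' < U' := by
    refine lt_of_le_of_ne inf_le_right fun h => ?_
    rw [h] at hadj
    omega
  obtain ⟨x, hxU, hxn⟩ := SetLike.exists_of_lt hlt
  obtain ⟨z, hzU', hzn⟩ := SetLike.exists_of_lt hlt'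
  have hxo : x ∈ LinearMap.BilinForm.orthogonal (QuadraticMap.polarBilin Q) (U ⊓ U') :=
    LinearMap.BilinForm.orthogonal_le inf_le_left (ts_le_orth Q hU hxU)
  have hzo : z ∈ LinearMap.BilinForm.orthogonal (QuadraticMap.polarBilin Q) (U ⊓ U') :=
    LinearMap.BilinForm.orthogonal_le inf_le_right (ts_le_orth Q hU' hzU')
  have hUeq : U = (U ⊓ U') ⊔ Submodule.span F {x} := by
    symm
    apply Submodule.eq_of_le_of_finrank_eq
    · refine sup_le inf_le_left ?_
      rwa [Submodule.span_singleton_le_iff_mem]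
    · rw [finrank_sup_span hxn, hadj, hUm]
  have hU'eq : U' = (U ⊓ U') ⊔ Submodule.span F {z} := by
    symm
    apply Submodule.eq_of_le_of_finrank_eq
    · refine sup_le inf_le_right ?_
      rwa [Submodule.span_singleton_le_iff_mem]
    · rw [finrank_sup_span hzn, hadj, hU'm]
  refine ⟨x, z, hU x hxU, hU' z hzU', hxo, hzo, ?_, hUeq, hU'eq⟩
  intro hb
  apply hxn
  refine ⟨hxU, ?_⟩
  rw [← orthogonal_eq_self Q hQ hV hU' hU'm]
  intro n hn
  rw [hU'eq] at hn
  obtain ⟨h, hh, y, hy, rfl⟩ := Submodule.mem_sup.mp hn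
  obtain ⟨c, rfl⟩ := Submodule.mem_span_singleton.mp hy
  have h1 : QuadraticMap.polarBilin Q h x = 0 := hxo h hh
  change QuadraticMap.polarBilin Q (h + c • z) x = 0
  rw [map_add, LinearMap.add_apply, map_smul, LinearMap.smul_apply, h1, pol_comm Q z x, hb]
  simp

/-- A maximal totally singular subspace containing `U ⊓ U'` (codimension one in both) is `U` or `U'`. -/
theorem adj_unique {U U' T : Submodule F V} (hU : ∀ u ∈ U, Q u = 0) (hUm : finrank F U = m)
    (hU' : ∀ u ∈ U', Q u = 0) (hU'm : finrank F U' = m)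
    (hadj : finrank F ↥(U ⊓ U') + 1 = m) (hT : ∀ u ∈ T, Q u = 0) (hTm : finrank F T = m)
    (hHT : U ⊓ U' ≤ T) : T = U ∨ T = U' := by
  obtain ⟨x, z, hx, hz, hxo, hzo, hxz, hUeq, hU'eq⟩ := adj_pair Q hQ hV hU hUm hU' hU'm hadj
  have hH : ∀ u ∈ U ⊓ U', Q u = 0 := fun u hu => hU u hu.1
  rcases pair_unique Q hQ hV hH hadj hx hz hxo hzo hxz hT hTm hHT with h | h
  · left; rw [h, ← hUeq]
  · right; rw [h, ← hU'eq]

theorem adj_flip_aux {U U' X : Submodule F V} (hU : ∀ u ∈ U, Q u = 0)
    (hU' : ∀ u ∈ U', Q u = 0)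
    (hadj : finrank F ↥(U ⊓ U') + 1 = m) (hX : ∀ u ∈ X, Q u = 0) (hXm : finrank F X = m)
    (hT : X ⊓ LinearMap.BilinForm.orthogonal (QuadraticMap.polarBilin Q) (U ⊓ U') ⊔ (U ⊓ U') = U) :
    finrank F ↥(X ⊓ U) = finrank F ↥(X ⊓ U') + 1 := by
  have h1 := finrank_inf_orth Q hQ hV hX hXm hadj
  have hUo : U ≤ LinearMap.BilinForm.orthogonal (QuadraticMap.polarBilin Q) (U ⊓ U') :=
    le_trans (ts_le_orth Q hU) (LinearMap.BilinForm.orthogonal_le inf_le_left)
  have hU'o : U' ≤ LinearMap.BilinForm.orthogonal (QuadraticMap.polarBilin Q) (U ⊓ U') :=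
    le_trans (ts_le_orth Q hU') (LinearMap.BilinForm.orthogonal_le inf_le_right)
  have hYU : X ⊓ LinearMap.BilinForm.orthogonal (QuadraticMap.polarBilin Q) (U ⊓ U') ≤ U := by
    conv_rhs => rw [← hT]
    exact le_sup_left
  have e1 : X ⊓ U = X ⊓ LinearMap.BilinForm.orthogonal (QuadraticMap.polarBilin Q) (U ⊓ U') :=
    le_antisymm (inf_le_inf_left _ hUo) (le_inf inf_le_left hYU)
  have e2 : X ⊓ U' = X ⊓ (U ⊓ U') := by
    apply le_antisymm
    · intro v hv
      have hvU : v ∈ U := hYU ⟨hv.1, hU'o hv.2⟩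
      exact ⟨hv.1, hvU, hv.2⟩
    · exact inf_le_inf_left _ inf_le_right
  rw [e1, e2, h1]

/-- **Adjacency lemma**: if `U, U'` are maximal totally singular meeting in codimension one and `X` is
maximal totally singular then `dim (X ∩ U)` and `dim (X ∩ U')` differ by exactly one. -/
theorem adj_flip {U U' X : Submodule F V} (hU : ∀ u ∈ U, Q u = 0) (hUm : finrank F U = m)
    (hU' : ∀ u ∈ U', Q u = 0) (hU'm : finrank F U' = m)
    (hadj : finrank F ↥(U ⊓ U') + 1 = m) (hX : ∀ u ∈ X, Q u = 0) (hXm : finrank F X = m) :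
    finrank F ↥(X ⊓ U) = finrank F ↥(X ⊓ U') + 1 ∨
      finrank F ↥(X ⊓ U') = finrank F ↥(X ⊓ U) + 1 := by
  have hH : ∀ u ∈ U ⊓ U', Q u = 0 := fun u hu => hU u hu.1
  have h1 := finrank_inf_orth Q hQ hV hX hXm hadj
  -- T = (X ⊓ H^⊥) ⊔ H is maximal totally singular
  have hTts : ∀ u ∈ X ⊓ LinearMap.BilinForm.orthogonal (QuadraticMap.polarBilin Q) (U ⊓ U') ⊔
      (U ⊓ U'), Q u = 0 := by
    intro u hu
    obtain ⟨y, hy, h, hh, rfl⟩ := Submodule.mem_sup.mp hu
    have h2 : QuadraticMap.polarBilin Q h y = 0 := hy.2 h hh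
    rw [Q_add, hX y hy.1, hH h hh, pol_comm Q y h, h2]
    simp
  have hTm : finrank F ↥(X ⊓ LinearMap.BilinForm.orthogonal (QuadraticMap.polarBilin Q) (U ⊓ U') ⊔
      (U ⊓ U')) = m := by
    have h2 := Submodule.finrank_sup_add_finrank_inf_eq
      (X ⊓ LinearMap.BilinForm.orthogonal (QuadraticMap.polarBilin Q) (U ⊓ U')) (U ⊓ U')
    have h3 : X ⊓ LinearMap.BilinForm.orthogonal (QuadraticMap.polarBilin Q) (U ⊓ U') ⊓ (U ⊓ U') =
        X ⊓ (U ⊓ U') := by
      rw [inf_assoc, inf_eq_right.mpr (ts_le_orth Q hH)]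
    rw [h3] at h2
    omega
  rcases adj_unique Q hQ hV hU hUm hU' hU'm hadj hTts hTm le_sup_right with h | h
  · left
    exact adj_flip_aux Q hQ hV hU hU' hadj hX hXm h
  · right
    have hadj' : finrank F ↥(U' ⊓ U) + 1 = m := by rwa [inf_comm]
    refine adj_flip_aux Q hQ hV hU' hU hadj' hX hXm ?_
    rw [inf_comm U' U]
    exact h

/-- Given a maximal totally singular `U` and a singular vector `w ∉ U` there is a maximal totally
singular `U'` adjacent to `U` containing `w` and `U ∩ w^⊥`. -/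
theorem exists_adj {U : Submodule F V} (hU : ∀ u ∈ U, Q u = 0) (hUm : finrank F U = m)
    {w : V} (hw : Q w = 0) (hwU : w ∉ U) :
    ∃ U' : Submodule F V, (∀ u ∈ U', Q u = 0) ∧ finrank F U' = m ∧
      finrank F ↥(U ⊓ U') + 1 = m ∧ w ∈ U' ∧
      U ⊓ LinearMap.BilinForm.orthogonal (QuadraticMap.polarBilin Q) (Submodule.span F {w}) ≤ U' := by
  have hUo := orthogonal_eq_self Q hQ hV hU hUm
  have hw0 : w ≠ 0 := fun h => hwU (h ▸ U.zero_mem)
  -- some x ∈ U with B x w ≠ 0
  have hex : ∃ x ∈ U, QuadraticMap.polarBilin Q x w ≠ 0 := by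
    by_contra hcon
    push Not at hcon
    apply hwU
    rw [← hUo]
    intro n hn
    exact hcon n hn
  obtain ⟨x, hxU, hxw⟩ := hex
  obtain ⟨H, hHdef⟩ : ∃ H, H = U ⊓ LinearMap.BilinForm.orthogonal (QuadraticMap.polarBilin Q)
      (Submodule.span F {w}) := ⟨_, rfl⟩
  have hHU : H ≤ U := hHdef ▸ inf_le_left
  have hH : ∀ u ∈ H, Q u = 0 := fun u hu => hU u (hHU hu)
  have hxH : x ∉ H := by
    intro h
    rw [hHdef] at h
    apply hxw
    rw [pol_comm Q x w]
    exact h.2 w (Submodule.mem_span_singleton_self w)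
  have hHlt : H < U := lt_of_le_of_ne hHU fun h => hxH (h ▸ hxU)
  have hHm : finrank F H + 1 = m := by
    have h1 := Submodule.finrank_lt_finrank_of_lt hHlt
    have h2 := Submodule.finrank_sup_add_finrank_inf_eq U
      (LinearMap.BilinForm.orthogonal (QuadraticMap.polarBilin Q) (Submodule.span F {w}))
    rw [← hHdef, LinearMap.BilinForm.finrank_orthogonal hQ, finrank_span_singleton hw0, hV] at h2
    have h3 : finrank F ↥(U ⊔ LinearMap.BilinForm.orthogonal (QuadraticMap.polarBilin Q)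
        (Submodule.span F {w})) ≤ 2 * m := by
      rw [← hV]
      exact Submodule.finrank_le _
    omega
  have hwo : w ∈ LinearMap.BilinForm.orthogonal (QuadraticMap.polarBilin Q) H := by
    intro h hh
    rw [hHdef] at hh
    change QuadraticMap.polarBilin Q h w = 0
    rw [pol_comm Q h w]
    exact hh.2 w (Submodule.mem_span_singleton_self w)
  have hwH : w ∉ H := fun h => hwU (hHU h)
  obtain ⟨hU'ts, hU'm⟩ := mts_sup_span Q hQ hV hH hHm hw hwo hwH
  refine ⟨H ⊔ Submodule.span F {w}, hU'ts, hU'm, ?_,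
    Submodule.mem_sup_right (Submodule.mem_span_singleton_self w), ?_⟩
  · have hle : H ≤ U ⊓ (H ⊔ Submodule.span F {w}) := le_inf hHU le_sup_left
    have h1 := Submodule.finrank_mono hle
    have hlt : U ⊓ (H ⊔ Submodule.span F {w}) < U := by
      refine lt_of_le_of_ne inf_le_left fun h => ?_
      have hUle : U ≤ H ⊔ Submodule.span F {w} := inf_eq_left.mp h
      have : U = H ⊔ Submodule.span F {w} :=
        Submodule.eq_of_le_of_finrank_eq hUle (by rw [hUm, hU'm])
      apply hwU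
      rw [this]
      exact Submodule.mem_sup_right (Submodule.mem_span_singleton_self w)
    have h2 := Submodule.finrank_lt_finrank_of_lt hlt
    omega
  · rw [← hHdef]
    exact le_sup_left

/-- **Parity theorem** for three maximal totally singular subspaces. -/
theorem parity_aux (k : ℕ) : ∀ U W : Submodule F V, (∀ u ∈ U, Q u = 0) → finrank F U = m →
    (∀ u ∈ W, Q u = 0) → finrank F W = m → m - finrank F ↥(U ⊓ W) = k →
    ∀ X : Submodule F V, (∀ u ∈ X, Q u = 0) → finrank F X = m →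
      ((Even (m + finrank F ↥(X ⊓ U)) ↔ Even (m + finrank F ↥(X ⊓ W))) ↔
        Even (m + finrank F ↥(U ⊓ W))) := by
  induction k with
  | zero =>
    intro U W hU hUm hW hWm hk X hX hXm
    have hle : finrank F ↥(U ⊓ W) ≤ m := hUm ▸ Submodule.finrank_mono inf_le_left
    have heq : finrank F ↥(U ⊓ W) = m := by omega
    have h1 : U ⊓ W = U := Submodule.eq_of_le_of_finrank_eq inf_le_left (by rw [heq, hUm])
    have h2 : U ⊓ W = W := Submodule.eq_of_le_of_finrank_eq inf_le_right (by rw [heq, hWm])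
    have hUW : U = W := h1.symm.trans h2
    subst hUW
    rw [inf_idem, hUm]
    simp
  | succ k ih =>
    intro U W hU hUm hW hWm hk X hX hXm
    have hne : ¬ W ≤ U := by
      intro hle
      have : U ⊓ W = W := inf_eq_right.mpr hle
      rw [this, hWm] at hk
      omega
    obtain ⟨w, hwW, hwU⟩ := SetLike.not_le_iff_exists.mp hne
    obtain ⟨U', hU', hU'm, hadj, hwU', hle⟩ := exists_adj Q hQ hV hU hUm (hW w hwW) hwU
    -- dim (U' ⊓ W) = dim (U ⊓ W) + 1
    have hge : finrank F ↥(U ⊓ W) + 1 ≤ finrank F ↥(W ⊓ U') := by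
      have hwn : w ∉ U ⊓ W := fun h => hwU h.1
      rw [← finrank_sup_span hwn]
      apply Submodule.finrank_mono
      refine sup_le (le_inf inf_le_right ?_) ?_
      · refine le_trans ?_ hle
        refine le_inf inf_le_left ?_
        refine le_trans inf_le_right ?_
        refine le_trans (ts_le_orth Q hW) (LinearMap.BilinForm.orthogonal_le ?_)
        rwa [Submodule.span_singleton_le_iff_mem]
      · rw [Submodule.span_singleton_le_iff_mem]
        exact ⟨hwW, hwU'⟩
    have hflipW := adj_flip Q hQ hV hU hUm hU' hU'm hadj hW hWm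
    have hWU : finrank F ↥(W ⊓ U) = finrank F ↥(U ⊓ W) := by rw [inf_comm]
    have hWU' : finrank F ↥(W ⊓ U') = finrank F ↥(U' ⊓ W) := by rw [inf_comm]
    have hstep : finrank F ↥(U' ⊓ W) = finrank F ↥(U ⊓ W) + 1 := by omega
    have hk' : m - finrank F ↥(U' ⊓ W) = k := by omega
    have hIH := ih U' W hU' hU'm hW hWm hk' X hX hXm
    have hflipX := adj_flip Q hQ hV hU hUm hU' hU'm hadj hX hXm
    have p1 : Even (m + finrank F ↥(U ⊓ W)) ↔ ¬ Even (m + finrank F ↥(U' ⊓ W)) := by
      rw [hstep, ← add_assoc, Nat.even_add_one, not_not]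
    have p2 : Even (m + finrank F ↥(X ⊓ U)) ↔ ¬ Even (m + finrank F ↥(X ⊓ U')) := by
      rcases hflipX with h | h
      · rw [h, ← add_assoc, Nat.even_add_one]
      · rw [h, ← add_assoc, Nat.even_add_one, not_not]
    tauto

theorem parity {U W X : Submodule F V} (hU : ∀ u ∈ U, Q u = 0) (hUm : finrank F U = m)
    (hW : ∀ u ∈ W, Q u = 0) (hWm : finrank F W = m) (hX : ∀ u ∈ X, Q u = 0)
    (hXm : finrank F X = m) :
    Even ((m - finrank F ↥(U ⊓ W)) + (m - finrank F ↥(W ⊓ X)) + (m - finrank F ↥(U ⊓ X))) := by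
  have h := parity_aux Q hQ hV _ U W hU hUm hW hWm rfl X hX hXm
  have l1 : finrank F ↥(U ⊓ W) ≤ m := hUm ▸ Submodule.finrank_mono inf_le_left
  have l2 : finrank F ↥(W ⊓ X) ≤ m := hWm ▸ Submodule.finrank_mono inf_le_left
  have l3 : finrank F ↥(U ⊓ X) ≤ m := hUm ▸ Submodule.finrank_mono inf_le_left
  rw [inf_comm X U, inf_comm X W] at h
  rw [Nat.even_add, Nat.even_add, Nat.even_sub l1, Nat.even_sub l2, Nat.even_sub l3]
  rw [Nat.even_add, Nat.even_add, Nat.even_add] at h
  tauto

end mts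

end Cfsg.Agent.Helper14_MaxTS
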