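import Mathlib
import Cfsg.Prelude.Def_GeometricClasses
import Cfsg.Agent.Lib.Helper14_MaxTS
import Cfsg.Agent.Lib.Helper14_SiegelAll
import Cfsg.Agent.Lib.Helper94_OrthBridge

set_option autoImplicit false

/-!
The two classes of maximal totally singular subspaces of a quadratic space of dimension `2m` with
non-degenerate polar form are preserved by `Ω(Q)` (the commutator subgroup of the isometry group), in
every characteristic: the map `g ↦ codim (U ∩ gU) mod 2` is a homomorphism to `ZMod 2` (helper14).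
Also: the bundled quadratic form attached to a prelude `IsNondegenerateQuadraticForm`.
-/

namespace Cfsg.Agent.Lib.Helper14_Classes

open Cfsg Matrix Module Cfsg.Agent.Lib.Helper44_Orth Cfsg.Agent.Lib.Helper44_Refl
  Cfsg.Agent.Lib.Helper14_Siegel Cfsg.Agent.Helper14_MaxTS

variable {ι : Type} [Fintype ι] [DecidableEq ι] {F : Type*} [Field F]

/-! ### The bundled form of a prelude quadratic form -/

/-- The bundled quadratic form of a prelude non-degenerate quadratic form. -/
noncomputable def toQF (Q : (ι → F) → F) (hQ : Cfsg.Geo.IsNondegenerateQuadraticForm Q) :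
    QuadraticForm F (ι → F) where
  toFun := Q
  toFun_smul c v := by rw [hQ.smul, smul_eq_mul, pow_two]
  exists_companion' := ⟨Cfsg.Agent.Lib.Helper94_OrthBridge.polarForm Q hQ, fun x y => by
    rw [Cfsg.Agent.Lib.Helper94_OrthBridge.polarForm_apply, QuadraticMap.polar]; ring⟩

theorem coe_toQF (Q : (ι → F) → F) (hQ : Cfsg.Geo.IsNondegenerateQuadraticForm Q) :
    ⇑(toQF Q hQ) = Q := rfl

theorem nondegenerate_toQF (Q : (ι → F) → F) (hQ : Cfsg.Geo.IsNondegenerateQuadraticForm Q) :
    (QuadraticMap.polarBilin (toQF Q hQ)).Nondegenerate := by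
  constructor
  · intro x hx
    by_contra hx0
    obtain ⟨-, y, hy⟩ := hQ.nondegenerate x hx0
    exact hy (hx y)
  · intro y hy
    by_contra hy0
    obtain ⟨⟨x, hx⟩, -⟩ := hQ.nondegenerate y hy0
    exact hx (hy x)

/-! ### Images of subspaces under matrices -/

/-- The image of a subspace under a matrix. -/
def gmap (M : Matrix ι ι F) (U : Submodule F (ι → F)) : Submodule F (ι → F) :=
  U.map (Matrix.toLin' M)

theorem mem_gmap {M : Matrix ι ι F} {U : Submodule F (ι → F)} {x : ι → F} :
    x ∈ gmap M U ↔ ∃ y ∈ U, M *ᵥ y = x := by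
  simp [gmap, Submodule.mem_map, Matrix.toLin'_apply]

theorem mulVec_mem_gmap {M : Matrix ι ι F} {U : Submodule F (ι → F)} {y : ι → F} (hy : y ∈ U) :
    M *ᵥ y ∈ gmap M U := mem_gmap.mpr ⟨y, hy, rfl⟩

theorem gmap_one (U : Submodule F (ι → F)) : gmap (1 : Matrix ι ι F) U = U := by
  simp [gmap]

theorem gmap_mul (M N : Matrix ι ι F) (U : Submodule F (ι → F)) :
    gmap (M * N) U = gmap M (gmap N U) := by
  simp [gmap, Matrix.toLin'_mul, Submodule.map_comp]

theorem toLin'_injective (g : Matrix.GeneralLinearGroup ι F) :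
    Function.Injective (Matrix.toLin' (g : Matrix ι ι F)) := by
  intro x y hxy
  have h := congrArg (fun z => ((g⁻¹ : Matrix.GeneralLinearGroup ι F) : Matrix ι ι F) *ᵥ z) hxy
  simp only [Matrix.toLin'_apply, Matrix.mulVec_mulVec] at h
  rw [← Units.val_mul, inv_mul_cancel] at h
  simpa using h

theorem finrank_gmap (g : Matrix.GeneralLinearGroup ι F) (U : Submodule F (ι → F)) :
    finrank F ↥(gmap (g : Matrix ι ι F) U) = finrank F U :=
  (LinearEquiv.finrank_eq (Submodule.equivMapOfInjective _ (toLin'_injective g) U)).symm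

theorem gmap_inf (g : Matrix.GeneralLinearGroup ι F) (U W : Submodule F (ι → F)) :
    gmap (g : Matrix ι ι F) (U ⊓ W) = gmap (g : Matrix ι ι F) U ⊓ gmap (g : Matrix ι ι F) W :=
  Submodule.map_inf _ (toLin'_injective g)

theorem mem_gmap_iff (g : Matrix.GeneralLinearGroup ι F) (U : Submodule F (ι → F)) (y : ι → F) :
    (g : Matrix ι ι F) *ᵥ y ∈ gmap (g : Matrix ι ι F) U ↔ y ∈ U := by
  constructor
  · intro h
    obtain ⟨z, hz, hzy⟩ := mem_gmap.mp h
    have : z = y := toLin'_injective g (by simpa [Matrix.toLin'_apply] using hzy)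
    rwa [← this]
  · exact mulVec_mem_gmap

/-- Membership in the stabiliser, in terms of the image. -/
theorem mem_subspaceStabilizer_iff (g : Matrix.GeneralLinearGroup ι F) (W : Submodule F (ι → F)) :
    g ∈ Cfsg.Geo.subspaceStabilizer W ↔ gmap (g : Matrix ι ι F) W = W := by
  constructor
  · intro h
    have h' : ∀ v, v ∈ W ↔ (g : Matrix ι ι F) *ᵥ v ∈ W := h
    ext x
    constructor
    · intro hx
      obtain ⟨y, hy, rfl⟩ := mem_gmap.mp hx
      exact (h' y).mp hy
    · intro hx
      have hx' : (g : Matrix ι ι F) *ᵥ (((g⁻¹ : Matrix.GeneralLinearGroup ι F) : Matrix ι ι F) *ᵥ x)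
          = x := by
        rw [Matrix.mulVec_mulVec, ← Units.val_mul, mul_inv_cancel]
        simp
      rw [← hx']
      apply mulVec_mem_gmap
      rw [h', hx']
      exact hx
  · intro h v
    show v ∈ W ↔ (g : Matrix ι ι F) *ᵥ v ∈ W
    constructor
    · intro hv
      rw [← h]
      exact mulVec_mem_gmap hv
    · intro hv
      rw [← h] at hv
      exact (mem_gmap_iff g W v).mp hv

/-- Isometries map totally singular subspaces to totally singular subspaces. -/
theorem ts_gmap (Q : QuadraticForm F (ι → F)) (g : ↥(Cfsg.isometryGroup F (⇑Q)))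
    {U : Submodule F (ι → F)} (hU : ∀ u ∈ U, Q u = 0) :
    ∀ u ∈ gmap ((g : Matrix.GeneralLinearGroup ι F) : Matrix ι ι F) U, Q u = 0 := by
  intro u hu
  obtain ⟨y, hy, rfl⟩ := mem_gmap.mp hu
  rw [(mem_isometryGroup_iff (⇑Q) g.1).mp g.2 y]
  exact hU y hy

/-! ### The class character -/

section classes

variable (Q : QuadraticForm F (ι → F)) (hQ : (QuadraticMap.polarBilin Q).Nondegenerate) {m : ℕ}
  (hcard : Fintype.card ι = 2 * m)

include hQ hcard

theorem codim_mul {U : Submodule F (ι → F)} (hU : ∀ u ∈ U, Q u = 0) (hUm : finrank F U = m)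
    (g h : ↥(Cfsg.isometryGroup F (⇑Q))) :
    Even ((m - finrank F ↥(U ⊓ gmap ((g : Matrix.GeneralLinearGroup ι F) : Matrix ι ι F) U))
      + (m - finrank F ↥(U ⊓ gmap ((h : Matrix.GeneralLinearGroup ι F) : Matrix ι ι F) U))
      + (m - finrank F ↥(U ⊓ gmap (((g * h : ↥(Cfsg.isometryGroup F (⇑Q))) :
          Matrix.GeneralLinearGroup ι F) : Matrix ι ι F) U))) := by
  have hV : finrank F (ι → F) = 2 * m := by rw [Module.finrank_fintype_fun_eq_card]; exact hcard
  have hgU := ts_gmap Q g hU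
  have hgUm : finrank F ↥(gmap ((g : Matrix.GeneralLinearGroup ι F) : Matrix ι ι F) U) = m := by
    rw [finrank_gmap, hUm]
  have hghU := ts_gmap Q (g * h) hU
  have hghUm : finrank F ↥(gmap (((g * h : ↥(Cfsg.isometryGroup F (⇑Q))) :
      Matrix.GeneralLinearGroup ι F) : Matrix ι ι F) U) = m := by
    rw [finrank_gmap, hUm]
  have hpar := parity Q hQ hV hU hUm hgU hgUm hghU hghUm
  have hmul : gmap (((g * h : ↥(Cfsg.isometryGroup F (⇑Q))) :
      Matrix.GeneralLinearGroup ι F) : Matrix ι ι F) U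
      = gmap ((g : Matrix.GeneralLinearGroup ι F) : Matrix ι ι F)
          (gmap ((h : Matrix.GeneralLinearGroup ι F) : Matrix ι ι F) U) := by
    rw [← gmap_mul]; rfl
  have h1 : finrank F ↥(gmap ((g : Matrix.GeneralLinearGroup ι F) : Matrix ι ι F) U ⊓
      gmap (((g * h : ↥(Cfsg.isometryGroup F (⇑Q))) :
        Matrix.GeneralLinearGroup ι F) : Matrix ι ι F) U)
      = finrank F ↥(U ⊓ gmap ((h : Matrix.GeneralLinearGroup ι F) : Matrix ι ι F) U) := by
    rw [hmul, ← gmap_inf, finrank_gmap]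
  rw [h1] at hpar
  have : (m - finrank F ↥(U ⊓ gmap ((g : Matrix.GeneralLinearGroup ι F) : Matrix ι ι F) U))
      + (m - finrank F ↥(U ⊓ gmap ((h : Matrix.GeneralLinearGroup ι F) : Matrix ι ι F) U))
      + (m - finrank F ↥(U ⊓ gmap (((g * h : ↥(Cfsg.isometryGroup F (⇑Q))) :
          Matrix.GeneralLinearGroup ι F) : Matrix ι ι F) U))
      = (m - finrank F ↥(U ⊓ gmap ((g : Matrix.GeneralLinearGroup ι F) : Matrix ι ι F) U))
      + (m - finrank F ↥(U ⊓ gmap ((h : Matrix.GeneralLinearGroup ι F) : Matrix ι ι F) U))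
      + (m - finrank F ↥(U ⊓ gmap (((g * h : ↥(Cfsg.isometryGroup F (⇑Q))) :
          Matrix.GeneralLinearGroup ι F) : Matrix ι ι F) U)) := rfl
  exact hpar

/-- The class character `g ↦ codim (U ∩ gU) mod 2`. -/
noncomputable def classChar {U : Submodule F (ι → F)} (hU : ∀ u ∈ U, Q u = 0)
    (hUm : finrank F U = m) : ↥(Cfsg.isometryGroup F (⇑Q)) →* Multiplicative (ZMod 2) where
  toFun g := Multiplicative.ofAdd
    (((m - finrank F ↥(U ⊓ gmap ((g : Matrix.GeneralLinearGroup ι F) : Matrix ι ι F) U) : ℕ)) : ZMod 2)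
  map_one' := by
    have : gmap (((1 : ↥(Cfsg.isometryGroup F (⇑Q))) : Matrix.GeneralLinearGroup ι F) :
        Matrix ι ι F) U = U := by
      show gmap (1 : Matrix ι ι F) U = U
      exact gmap_one U
    rw [this, inf_idem, hUm]
    simp
  map_mul' g h := by
    have hev := codim_mul Q hQ hcard hU hUm g h
    rw [← ofAdd_add]
    congr 1
    have h0 : (((m - finrank F ↥(U ⊓ gmap ((g : Matrix.GeneralLinearGroup ι F) : Matrix ι ι F) U))
      + (m - finrank F ↥(U ⊓ gmap ((h : Matrix.GeneralLinearGroup ι F) : Matrix ι ι F) U))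
      + (m - finrank F ↥(U ⊓ gmap (((g * h : ↥(Cfsg.isometryGroup F (⇑Q))) :
          Matrix.GeneralLinearGroup ι F) : Matrix ι ι F) U)) : ℕ) : ZMod 2) = 0 :=
      (ZMod.natCast_eq_zero_iff_even).mpr hev
    push_cast at h0
    have hneg : ∀ a : ZMod 2, -a = a := by decide
    rw [← hneg (_ + _)]
    linear_combination h0

/-- Elements of `Ω` preserve the class of a maximal totally singular subspace. -/
theorem even_codim_of_mem_omega {U : Submodule F (ι → F)} (hU : ∀ u ∈ U, Q u = 0)
    (hUm : finrank F U = m) {g : ↥(Cfsg.isometryGroup F (⇑Q))} (hg : g ∈ Cfsg.Omega F (⇑Q)) :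
    Even (m - finrank F ↥(U ⊓ gmap ((g : Matrix.GeneralLinearGroup ι F) : Matrix ι ι F) U)) := by
  have hker : g ∈ (classChar Q hQ hcard hU hUm).ker :=
    Abelianization.commutator_subset_ker _ hg
  rw [MonoidHom.mem_ker] at hker
  have h1 : (((m - finrank F ↥(U ⊓ gmap ((g : Matrix.GeneralLinearGroup ι F) : Matrix ι ι F) U) : ℕ)) :
      ZMod 2) = 0 := by
    have := congrArg Multiplicative.toAdd hker
    simpa [classChar] using this
  exact (ZMod.natCast_eq_zero_iff_even).mp h1

end classes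

end Cfsg.Agent.Lib.Helper14_Classes
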