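import Mathlib
import Cfsg.Prelude.Def_LieTypeDatum
import Cfsg.Agent.Lib.Helper14_Classes
import Cfsg.Agent.Lib.Helper14_AutOmega
import Cfsg.Agent.Lib.Helper14_CartanDieudonne
import Cfsg.Agent.Lib.Helper14_GOChars
import Cfsg.Agent.Lib.Helper14_WittType
import Cfsg.Agent.Lib.Helper14_NegOne

set_option autoImplicit false

/-!
The two classes of maximal totally singular subspaces of a quadratic form of maximal Witt index in dimension
`2M`, and the similarities preserving each class: `g = s h` with `s` a similarity stabilising a fixed maximal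
totally singular subspace and `h` an isometry preserves the classes iff `det h = 1` (odd characteristic)
(helper14).
-/

namespace Cfsg.Agent.Lib.Helper14_SingClasses

open Cfsg Matrix Module Cfsg.Agent.Lib.Helper44_Orth Cfsg.Agent.Lib.Helper44_Refl
  Cfsg.Agent.Lib.Helper44_Flip Cfsg.Agent.Lib.Helper44_Spinor
  Cfsg.Agent.Helper14_MaxTS Cfsg.Agent.Lib.Helper14_Classes Cfsg.Agent.Lib.Helper14_AutOmega
  Cfsg.Agent.Lib.Helper14_CartanDieudonne Cfsg.Agent.Lib.Helper14_GOChars

variable {ι : Type} [Fintype ι] [DecidableEq ι] {K : Type*} [Field K]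

section classes

variable (Q : QuadraticForm K (ι → K)) (hQ : (QuadraticMap.polarBilin Q).Nondegenerate) {M : ℕ}
  (hcard : Fintype.card ι = 2 * M)

include hQ hcard

omit [DecidableEq ι] in
theorem finrank_eq : finrank K (ι → K) = 2 * M := by
  rw [Module.finrank_fintype_fun_eq_card, hcard]

omit [DecidableEq ι] in
/-- A totally singular subspace has dimension at most `M`. -/
theorem finrank_le_of_ts {U : Submodule K (ι → K)} (hU : ∀ u ∈ U, Q u = 0) : finrank K U ≤ M := by
  have h1 := Submodule.finrank_mono (ts_le_orth Q hU)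
  rw [LinearMap.BilinForm.finrank_orthogonal hQ, finrank_eq Q hQ hcard] at h1
  omega

omit [DecidableEq ι] in
/-- A totally singular subspace of dimension less than `M` is not maximal, given one of dimension `M`. -/
theorem exists_ext' {X H : Submodule K (ι → K)} (hX : ∀ u ∈ X, Q u = 0) (hXm : finrank K X = M)
    (hH : ∀ u ∈ H, Q u = 0) (hHm : finrank K H < M) :
    ∃ x ∈ X, x ∈ LinearMap.BilinForm.orthogonal (QuadraticMap.polarBilin Q) H ∧ x ∉ H := by
  have hV := finrank_eq Q hQ hcard
  have hXo := orthogonal_eq_self Q hQ hV hX hXm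
  have h1 : X ⊓ LinearMap.BilinForm.orthogonal (QuadraticMap.polarBilin Q) H =
      LinearMap.BilinForm.orthogonal (QuadraticMap.polarBilin Q) (X ⊔ H) := by
    rw [orth_sup, hXo]
  have h2 : finrank K ↥(X ⊓ LinearMap.BilinForm.orthogonal (QuadraticMap.polarBilin Q) H) +
      finrank K ↥(X ⊔ H) = 2 * M := by
    rw [h1, LinearMap.BilinForm.finrank_orthogonal hQ, hV]
    have := Submodule.finrank_le (X ⊔ H)
    rw [hV] at this
    omega
  have h3 := Submodule.finrank_sup_add_finrank_inf_eq X H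
  by_contra hcon
  push Not at hcon
  have hle : X ⊓ LinearMap.BilinForm.orthogonal (QuadraticMap.polarBilin Q) H ≤ X ⊓ H := by
    rintro x ⟨hxX, hxo⟩
    exact ⟨hxX, hcon x hxX hxo⟩
  have h4 := Submodule.finrank_mono hle
  omega

/-- Maximal totally singular subspaces are the totally singular subspaces of dimension `M`, provided one
exists. -/
theorem isMax_iff {X : Submodule K (ι → K)} (hX : ∀ u ∈ X, Q u = 0) (hXm : finrank K X = M)
    (U : Submodule K (ι → K)) :
    IsMaxTotallySingular (⇑Q) U ↔ (∀ u ∈ U, Q u = 0) ∧ finrank K U = M := by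
  constructor
  · rintro ⟨hU, hmax⟩
    refine ⟨hU, ?_⟩
    have hle := finrank_le_of_ts Q hQ hcard hU
    by_contra hne
    have hlt : finrank K U < M := lt_of_le_of_ne hle hne
    obtain ⟨x, hxX, hxo, hxU⟩ := exists_ext' Q hQ hcard hX hXm hU hlt
    have hW := ts_sup_span Q hU (hX x hxX) hxo
    have := hmax (U ⊔ Submodule.span K {x}) hW le_sup_left
    apply hxU
    rw [← this]
    exact Submodule.mem_sup_right (Submodule.mem_span_singleton_self x)
  · rintro ⟨hU, hUm⟩
    refine ⟨hU, fun W hW hUW => ?_⟩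
    symm
    apply Submodule.eq_of_le_of_finrank_le hUW
    rw [hUm]
    exact finrank_le_of_ts Q hQ hcard hW

omit hQ hcard in
theorem ts_gmap_sim (g : ↥(GO (⇑Q))) {U : Submodule K (ι → K)} (hU : ∀ u ∈ U, Q u = 0) :
    ∀ u ∈ gmap ((g : GL ι K) : Matrix ι ι K) U, Q u = 0 := by
  intro u hu
  obtain ⟨y, hy, rfl⟩ := mem_gmap.mp hu
  rw [mu_spec (⇑Q), hU y hy, mul_zero]

/-- A similarity preserves the two classes iff it preserves the class of one fixed maximal totally
singular subspace. -/
theorem preserves_iff {X : Submodule K (ι → K)} (hX : ∀ u ∈ X, Q u = 0) (hXm : finrank K X = M)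
    (g : ↥(GO (⇑Q))) :
    PreservesSingularClasses (⇑Q) ((g : GL ι K) : Matrix ι ι K) ↔
      Even (M - finrank K ↥(X ⊓ gmap ((g : GL ι K) : Matrix ι ι K) X)) := by
  have hV := finrank_eq Q hQ hcard
  constructor
  · intro h
    have := h X ((isMax_iff Q hQ hcard hX hXm X).mpr ⟨hX, hXm⟩)
    unfold SameParityClass imageSubmodule at this
    rw [hXm] at this
    exact this
  · intro h U hU
    obtain ⟨hUts, hUm⟩ := (isMax_iff Q hQ hcard hX hXm U).mp hU
    unfold SameParityClass imageSubmodule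
    rw [hUm]
    show Even (M - finrank K ↥(U ⊓ gmap ((g : GL ι K) : Matrix ι ι K) U))
    have hgU := ts_gmap_sim Q g hUts
    have hgX := ts_gmap_sim Q g hX
    have hgUm : finrank K ↥(gmap ((g : GL ι K) : Matrix ι ι K) U) = M := by
      rw [finrank_gmap, hUm]
    have hgXm : finrank K ↥(gmap ((g : GL ι K) : Matrix ι ι K) X) = M := by
      rw [finrank_gmap, hXm]
    have p1 := parity Q hQ hV hUts hUm hX hXm hgU hgUm
    have p2 := parity Q hQ hV hX hXm hgX hgXm hgU hgUm
    have h3 : finrank K ↥(gmap ((g : GL ι K) : Matrix ι ι K) X ⊓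
        gmap ((g : GL ι K) : Matrix ι ι K) U) = finrank K ↥(U ⊓ X) := by
      rw [← gmap_inf, finrank_gmap, inf_comm]
    rw [h3] at p2
    rw [Nat.even_iff] at p1 p2 h ⊢
    omega

/-- Reduction to the isometry part. -/
theorem preserves_mul_iff {X : Submodule K (ι → K)} (hX : ∀ u ∈ X, Q u = 0) (hXm : finrank K X = M)
    (s : ↥(GO (⇑Q))) (hs : gmap ((s : GL ι K) : Matrix ι ι K) X = X)
    (h : ↥(isometryGroup K (⇑Q))) :
    PreservesSingularClasses (⇑Q)
      (((s : GL ι K) : Matrix ι ι K) * ((h : GL ι K) : Matrix ι ι K)) ↔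
      classChar Q hQ hcard hX hXm h = 1 := by
  have hmem : (s : GL ι K) * (h : GL ι K) ∈ GO (⇑Q) :=
    Subgroup.mul_mem _ s.2 (isometryGroup_le_GO (⇑Q) h.2)
  have h1 := preserves_iff Q hQ hcard hX hXm ⟨(s : GL ι K) * (h : GL ι K), hmem⟩
  have h2 : (((⟨(s : GL ι K) * (h : GL ι K), hmem⟩ : ↥(GO (⇑Q))) : GL ι K) : Matrix ι ι K) =
      ((s : GL ι K) : Matrix ι ι K) * ((h : GL ι K) : Matrix ι ι K) := rfl
  rw [h2] at h1
  rw [h1, gmap_mul]
  have h3 : finrank K ↥(X ⊓ gmap ((s : GL ι K) : Matrix ι ι K)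
      (gmap ((h : GL ι K) : Matrix ι ι K) X)) =
      finrank K ↥(X ⊓ gmap ((h : GL ι K) : Matrix ι ι K) X) := by
    have : X ⊓ gmap ((s : GL ι K) : Matrix ι ι K) (gmap ((h : GL ι K) : Matrix ι ι K) X) =
        gmap ((s : GL ι K) : Matrix ι ι K) (X ⊓ gmap ((h : GL ι K) : Matrix ι ι K) X) := by
      rw [gmap_inf, hs]
    rw [this, finrank_gmap]
  rw [h3]
  have h4 : classChar Q hQ hcard hX hXm h = Multiplicative.ofAdd
      (((M - finrank K ↥(X ⊓ gmap ((h : GL ι K) : Matrix ι ι K) X) : ℕ)) : ZMod 2) := rfl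
  rw [h4, ← ZMod.natCast_eq_zero_iff_even]
  constructor
  · intro h5; rw [h5]; rfl
  · intro h5
    have := congrArg Multiplicative.toAdd h5
    simpa using this

/-- The class character of a reflection is non-trivial. -/
theorem classChar_refl {X : Submodule K (ι → K)} (hX : ∀ u ∈ X, Q u = 0) (hXm : finrank K X = M)
    (v : ι → K) (hv : Q v ≠ 0) :
    classChar Q hQ hcard hX hXm (refl Q v hv) = Multiplicative.ofAdd 1 := by
  have hV := finrank_eq Q hQ hcard
  have hfl := flip Q hQ hV X X hX hX hXm hXm v hv (Matrix.toLin' (Cfsg.reflectionMatrix (⇑Q) v))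
    (fun x => by rw [Matrix.toLin'_apply, reflectionMatrix_mulVec])
  rw [inf_idem, hXm] at hfl
  have hle : finrank K ↥(X ⊓ X.map (Matrix.toLin' (Cfsg.reflectionMatrix (⇑Q) v))) ≤ M := by
    rw [← hXm]; exact Submodule.finrank_mono inf_le_left
  have h1 : finrank K ↥(X ⊓ X.map (Matrix.toLin' (Cfsg.reflectionMatrix (⇑Q) v))) + 1 = M := by
    rcases hfl with h | h
    · exact h.symm
    · omega
  have h4 : classChar Q hQ hcard hX hXm (refl Q v hv) = Multiplicative.ofAdd
      (((M - finrank K ↥(X ⊓ gmap (((refl Q v hv : ↥(isometryGroup K (⇑Q))) : GL ι K) :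
        Matrix ι ι K) X) : ℕ)) : ZMod 2) := rfl
  rw [h4]
  congr 1
  have h5 : gmap (((refl Q v hv : ↥(isometryGroup K (⇑Q))) : GL ι K) : Matrix ι ι K) X =
      X.map (Matrix.toLin' (Cfsg.reflectionMatrix (⇑Q) v)) := rfl
  rw [h5]
  have : M - finrank K ↥(X ⊓ X.map (Matrix.toLin' (Cfsg.reflectionMatrix (⇑Q) v))) = 1 := by omega
  rw [this]
  simp

/-- The class character is the sign of the determinant (odd characteristic). -/
theorem classChar_eq_one_iff (h2 : (2 : K) ≠ 0) {X : Submodule K (ι → K)} (hX : ∀ u ∈ X, Q u = 0)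
    (hXm : finrank K X = M) (h : ↥(isometryGroup K (⇑Q))) :
    classChar Q hQ hcard hX hXm h = 1 ↔ ((h : GL ι K) : Matrix ι ι K).det = 1 := by
  obtain ⟨vs, hvs, rfl⟩ := exists_list_reflT h2 Q hQ h
  rw [prod_reflT_coe Q vs hvs, det_prod Q vs hvs]
  have hchar : classChar Q hQ hcard hX hXm (vs.map (reflT Q)).prod =
      Multiplicative.ofAdd ((vs.length : ℕ) : ZMod 2) := by
    induction vs with
    | nil => simp
    | cons v vs ih =>
      rw [List.map_cons, List.prod_cons, map_mul, ih (fun u hu => hvs u (List.mem_cons_of_mem _ hu)),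
        reflT_of_ne Q v (hvs v List.mem_cons_self), classChar_refl Q hQ hcard hX hXm, ← ofAdd_add,
        List.length_cons]
      congr 1
      push_cast
      ring
  rw [hchar]
  have hne : (1 : K) ≠ -1 := Cfsg.Agent.Lib.Helper14_OrthChars.one_ne_neg_one h2
  rcases Nat.even_or_odd vs.length with he | ho
  · rw [he.neg_one_pow]
    have : ((vs.length : ℕ) : ZMod 2) = 0 := (ZMod.natCast_eq_zero_iff_even).mpr he
    rw [this]
    simp
  · rw [ho.neg_one_pow]
    have : ((vs.length : ℕ) : ZMod 2) = 1 := by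
      obtain ⟨k, hk⟩ := ho
      rw [hk]
      push_cast
      have : (2 : ZMod 2) = 0 := by decide
      rw [this, zero_mul, zero_add]
    rw [this]
    constructor
    · intro h
      have := congrArg Multiplicative.toAdd h
      simp at this
    · intro h
      exact absurd h.symm hne

/-- **Class-preserving similarities.** If `g` has the same multiplier as a similarity `s` stabilising a maximal
totally singular subspace with `det s = μ(s)^M`, then `g` preserves the two classes iff `det g = μ(g)^M`. -/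
theorem preserves_iff_of_factor (h2 : (2 : K) ≠ 0) (hne : ∃ v, Q v ≠ 0) {X : Submodule K (ι → K)}
    (hX : ∀ u ∈ X, Q u = 0) (hXm : finrank K X = M) (g s : ↥(GO (⇑Q)))
    (hs : gmap ((s : GL ι K) : Matrix ι ι K) X = X) (hμ : mu (⇑Q) s = mu (⇑Q) g)
    (hdet : ((s : GL ι K) : Matrix ι ι K).det = ((mu (⇑Q) s : Kˣ) : K) ^ M) :
    PreservesSingularClasses (⇑Q) ((g : GL ι K) : Matrix ι ι K) ↔
      ((g : GL ι K) : Matrix ι ι K).det = ((mu (⇑Q) g : Kˣ) : K) ^ M := by
  have hmu1 : mu (⇑Q) (s⁻¹ * g) = 1 := by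
    have := map_mul (muHom (⇑Q) hne) s⁻¹ g
    rw [map_inv] at this
    simp only [muHom_apply] at this
    rw [this, hμ, inv_mul_cancel]
  set h : ↥(isometryGroup K (⇑Q)) := ⟨((s⁻¹ * g : ↥(GO (⇑Q))) : GL ι K), isometry_of_mu (⇑Q) _ hmu1⟩
    with hh
  have hg : (g : GL ι K) = (s : GL ι K) * (h : GL ι K) := by
    rw [hh]
    show (g : GL ι K) = (s : GL ι K) * ((s⁻¹ * g : ↥(GO (⇑Q))) : GL ι K)
    rw [← Subgroup.coe_mul, mul_inv_cancel_left]
  have hgm : ((g : GL ι K) : Matrix ι ι K) =
      ((s : GL ι K) : Matrix ι ι K) * ((h : GL ι K) : Matrix ι ι K) := by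
    rw [hg, Units.val_mul]
  rw [hgm, preserves_mul_iff Q hQ hcard hX hXm s hs h, classChar_eq_one_iff Q hQ hcard h2 hX hXm,
    Matrix.det_mul, hdet, hμ]
  have hx : ((mu (⇑Q) g : Kˣ) : K) ^ M ≠ 0 := pow_ne_zero _ (Units.ne_zero _)
  constructor
  · intro h1; rw [h1, mul_one]
  · intro h1
    exact mul_left_cancel₀ hx (by rw [h1, mul_one])

omit [DecidableEq ι] in
/-- Existence of a totally singular subspace of dimension `M` from the discriminant (finite field, odd
characteristic). -/
theorem exists_mts [Finite K] [DecidableEq ι] (h2 : (2 : K) ≠ 0) (hM : 1 ≤ M)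
    (hsq : IsSquare ((-1) ^ M * (Matrix.of (fun i j : ι =>
      QuadraticMap.polar (⇑Q) (Pi.single i 1) (Pi.single j 1))).det)) :
    ∃ X : Submodule K (ι → K), (∀ u ∈ X, Q u = 0) ∧ finrank K X = M := by
  have hS : LinearMap.BilinForm.IsSymm (QuadraticMap.polarBilin Q) :=
    ⟨fun x y => QuadraticMap.polar_comm _ _ _⟩
  have hmat : LinearMap.BilinForm.toMatrix (Pi.basisFun K ι) (QuadraticMap.polarBilin Q) =
      Matrix.of (fun i j : ι => QuadraticMap.polar (⇑Q) (Pi.single i 1) (Pi.single j 1)) := by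
    ext i j
    simp [LinearMap.BilinForm.toMatrix_apply]
  obtain ⟨X, hXm, hXiso⟩ := Cfsg.Agent.Lib.Helper14_WittType.exists_isotropic_of_isSquare h2
    (QuadraticMap.polarBilin Q) hS hQ hM (finrank_eq Q hQ hcard) (Pi.basisFun K ι)
    (by rw [hmat]; exact hsq)
  refine ⟨X, fun u hu => ?_, hXm⟩
  have h1 := hXiso u hu u hu
  rw [QuadraticMap.polarBilin_apply_apply, QuadraticMap.polar_self] at h1
  have h1' : (2 : K) * Q u = 0 := by
    have : (2 : K) * Q u = 2 • Q u := by simp [two_mul, two_smul]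
    rw [this]; exact h1
  rcases mul_eq_zero.mp h1' with h | h
  · exact absurd h h2
  · exact h

end classes

end Cfsg.Agent.Lib.Helper14_SingClasses
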