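import Mathlib
import Cfsg.Agent.Lib.Helper14_SingClasses
import Cfsg.Agent.Lib.Helper14_GODelta
import Cfsg.Agent.Lib.Helper14_OmegaIndex

set_option autoImplicit false

/-!
`Inndiag(PΩ⁺_{2m}(F))` is the image under `Phi` of the similarities `g` with `det g = μ(g)^m` (odd
characteristic) (helper14).
-/

namespace Cfsg.Agent.Lib.Helper14_InndiagPlus

open Cfsg Matrix Module Cfsg.Agent.Lib.Helper44_Orth Cfsg.Agent.Lib.Helper44_StdForms
  Cfsg.Agent.Lib.Helper14_Classes Cfsg.Agent.Lib.Helper14_AutOmega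
  Cfsg.Agent.Lib.Helper14_GOChars Cfsg.Agent.Lib.Helper14_SingClasses

variable {F : Type*} [Field F] (m : ℕ)

/-- The standard maximal totally singular subspace `{(x, 0)}` of the plus-type form. -/
def X0 : Submodule F (Fin m ⊕ Fin m → F) :=
  LinearMap.ker (LinearMap.funLeft F F (Sum.inr : Fin m → Fin m ⊕ Fin m))

theorem mem_X0 (v : Fin m ⊕ Fin m → F) : v ∈ X0 (F := F) m ↔ ∀ i, v (Sum.inr i) = 0 := by
  rw [X0, LinearMap.mem_ker]
  constructor
  · intro h i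
    exact congrFun h i
  · intro h
    funext i
    exact h i

theorem X0_ts (v : Fin m ⊕ Fin m → F) (hv : v ∈ X0 (F := F) m) : qfPlus m F v = 0 := by
  rw [coe_qfPlus]
  unfold quadFormPlus
  apply Finset.sum_eq_zero
  intro i _
  rw [(mem_X0 m v).mp hv i, mul_zero]

theorem finrank_X0 : finrank F (X0 (F := F) m) = m := by
  have h1 := LinearMap.finrank_range_add_finrank_ker
    (LinearMap.funLeft F F (Sum.inr : Fin m → Fin m ⊕ Fin m))
  have h2 : LinearMap.range (LinearMap.funLeft F F (Sum.inr : Fin m → Fin m ⊕ Fin m)) = ⊤ :=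
    LinearMap.range_eq_top.mpr (LinearMap.funLeft_surjective_of_injective F F _ Sum.inr_injective)
  rw [h2, finrank_top, Module.finrank_fintype_fun_eq_card, Module.finrank_fintype_fun_eq_card,
    Fintype.card_fin, Fintype.card_sum, Fintype.card_fin] at h1
  rw [X0]
  omega

/-- The matrix of `(x, y) ↦ (ν x, y)`. -/
def dDiagMat (ν : F) : Matrix (Fin m ⊕ Fin m) (Fin m ⊕ Fin m) F :=
  Matrix.fromBlocks (ν • (1 : Matrix (Fin m) (Fin m) F)) 0 0 1

theorem dDiagMat_mul (ν ν' : F) : dDiagMat m ν * dDiagMat m ν' = dDiagMat m (ν * ν') := by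
  rw [dDiagMat, dDiagMat, Matrix.fromBlocks_multiply]
  simp [dDiagMat, smul_smul, mul_comm]

theorem dDiagMat_one : dDiagMat m (1 : F) = 1 := by
  rw [dDiagMat, one_smul, Matrix.fromBlocks_one]

theorem dDiagMat_mulVec_inl (ν : F) (v : Fin m ⊕ Fin m → F) (i : Fin m) :
    (dDiagMat m ν *ᵥ v) (Sum.inl i) = ν * v (Sum.inl i) := by
  rw [dDiagMat, Matrix.fromBlocks_mulVec]
  simp [Matrix.smul_mulVec]

theorem dDiagMat_mulVec_inr (ν : F) (v : Fin m ⊕ Fin m → F) (i : Fin m) :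
    (dDiagMat m ν *ᵥ v) (Sum.inr i) = v (Sum.inr i) := by
  rw [dDiagMat, Matrix.fromBlocks_mulVec]
  simp

theorem det_dDiagMat (ν : F) : (dDiagMat m ν).det = ν ^ m := by
  rw [dDiagMat, Matrix.det_fromBlocks_zero₂₁, Matrix.det_smul, Matrix.det_one,
    Fintype.card_fin, mul_one, mul_one]

/-- The similarity `(x, y) ↦ (ν x, y)`. -/
def dDiagGL (ν : Fˣ) : GL (Fin m ⊕ Fin m) F :=
  ⟨dDiagMat m (ν : F), dDiagMat m ((ν⁻¹ : Fˣ) : F), by
    rw [dDiagMat_mul, ← Units.val_mul, mul_inv_cancel, Units.val_one, dDiagMat_one], by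
    rw [dDiagMat_mul, ← Units.val_mul, inv_mul_cancel, Units.val_one, dDiagMat_one]⟩

theorem dDiagGL_coe (ν : Fˣ) : ((dDiagGL m ν : GL (Fin m ⊕ Fin m) F) : Matrix _ _ F) =
    dDiagMat m (ν : F) := rfl

theorem qfPlus_dDiag (ν : F) (v : Fin m ⊕ Fin m → F) :
    qfPlus m F (dDiagMat m ν *ᵥ v) = ν * qfPlus m F v := by
  rw [coe_qfPlus]
  unfold quadFormPlus
  rw [Finset.mul_sum]
  apply Finset.sum_congr rfl
  intro i _
  rw [dDiagMat_mulVec_inl, dDiagMat_mulVec_inr]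
  ring

theorem dDiagGL_mem (ν : Fˣ) : dDiagGL m ν ∈ GO (⇑(qfPlus m F)) :=
  ⟨ν, fun v => by rw [dDiagGL_coe, qfPlus_dDiag]⟩

theorem gmap_dDiag (ν : Fˣ) :
    gmap ((dDiagGL m ν : GL (Fin m ⊕ Fin m) F) : Matrix _ _ F) (X0 (F := F) m) = X0 m := by
  apply Submodule.eq_of_le_of_finrank_eq
  · intro x hx
    obtain ⟨y, hy, rfl⟩ := mem_gmap.mp hx
    rw [mem_X0] at hy ⊢
    intro i
    rw [dDiagGL_coe, dDiagMat_mulVec_inr, hy i]
  · rw [finrank_gmap]

theorem exists_ne_zero (hm : 1 ≤ m) : ∃ v, qfPlus m F v ≠ 0 := by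
  refine ⟨Pi.single (Sum.inl ⟨0, by omega⟩) 1 + Pi.single (Sum.inr ⟨0, by omega⟩) 1, ?_⟩
  rw [coe_qfPlus]
  unfold Cfsg.quadFormPlus
  rw [Finset.sum_eq_single ⟨0, by omega⟩]
  · simp
  · intro i _ hi
    simp [hi]
  · simp

/-- **Class-preserving similarities of the plus-type form** are those with `det g = μ(g)^m`. -/
theorem preserves_plus_iff (h2 : (2 : F) ≠ 0) (hm : 1 ≤ m) (g : ↥(GO (⇑(qfPlus m F)))) :
    PreservesSingularClasses (⇑(qfPlus m F))
      ((g : GL (Fin m ⊕ Fin m) F) : Matrix (Fin m ⊕ Fin m) (Fin m ⊕ Fin m) F) ↔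
      ((g : GL (Fin m ⊕ Fin m) F) : Matrix (Fin m ⊕ Fin m) (Fin m ⊕ Fin m) F).det =
        ((mu (⇑(qfPlus m F)) g : Fˣ) : F) ^ m := by
  have hQ := Cfsg.Agent.Lib.Helper14_POmegaSimple.nondegenerate_qfPlus (F := F) m
  have hcard : Fintype.card (Fin m ⊕ Fin m) = 2 * m := by
    rw [Fintype.card_sum, Fintype.card_fin]; ring
  have hne := exists_ne_zero (F := F) m hm
  set s : ↥(GO (⇑(qfPlus m F))) := ⟨dDiagGL m (mu (⇑(qfPlus m F)) g), dDiagGL_mem m _⟩ with hs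
  have hμs : mu (⇑(qfPlus m F)) s = mu (⇑(qfPlus m F)) g := by
    apply mu_eq _ hne
    intro v
    rw [hs, dDiagGL_coe, qfPlus_dDiag]
  apply preserves_iff_of_factor (qfPlus m F) hQ hcard h2 hne (X0_ts m) (finrank_X0 m) g s
    (gmap_dDiag m _) hμs
  rw [hμs, hs, dDiagGL_coe, det_dDiagMat]

end Cfsg.Agent.Lib.Helper14_InndiagPlus
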