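import Mathlib
import Cfsg.Agent.Lib.Helper14_OmegaIndex
import Cfsg.Agent.Lib.Helper4_DihedralIso
import Cfsg.Agent.Lib.Helper44_FinSq

set_option autoImplicit false

/-!
If `-1 ∈ Ω(Q)` then the image of `GO(Q)` in `Aut(PΩ(Q))` modulo the inner automorphisms is dihedral of order
eight (even dimension, odd characteristic) (helper14).
-/

namespace Cfsg.Agent.Lib.Helper14_GODihedral

open Cfsg Matrix Cfsg.Agent.Lib.Helper44_Orth Cfsg.Agent.Lib.Helper44_Refl
  Cfsg.Agent.Lib.Helper44_Spinor Cfsg.Agent.Lib.Helper14_OrthChars Cfsg.Agent.Lib.Helper14_AutOmega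
  Cfsg.Agent.Lib.Helper14_CentOmega Cfsg.Agent.Lib.Helper14_GOChars
  Cfsg.Agent.Lib.Helper14_OmegaIndex Cfsg.Agent.Lib.Helper44_FinSq

section abstract

variable {D : Type*} [Group D]

/-- A group of order eight with two non-commuting involutions is dihedral. -/
theorem nonempty_mulEquiv_dihedral_four (hcard : Nat.card D = 8) (a b : D) (ha : a * a = 1)
    (hb : b * b = 1) (hab : a * b ≠ b * a) : Nonempty (D ≃* DihedralGroup 4) := by
  have hfin : Finite D := Nat.finite_of_card_ne_zero (by rw [hcard]; norm_num)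
  have ha1 : a ≠ 1 := by
    rintro rfl; exact hab (by rw [one_mul, mul_one])
  have hb1 : b ≠ 1 := by
    rintro rfl; exact hab (by rw [one_mul, mul_one])
  have hcl := Cfsg.Agent.Lib.Helper4_DihedralIso.card_closure ha hb ha1 hb1
  have hdvd : 2 * orderOf (a * b) ∣ 8 := by
    rw [← hcl, ← hcard]
    exact Subgroup.card_subgroup_dvd_card _
  have hainv : a⁻¹ = a := inv_eq_of_mul_eq_one_left ha
  have hbinv : b⁻¹ = b := inv_eq_of_mul_eq_one_left hb
  have ho1 : orderOf (a * b) ≠ 1 := by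
    intro h
    rw [orderOf_eq_one_iff] at h
    have : a = b := by rw [← hbinv]; exact eq_inv_of_mul_eq_one_left h
    exact hab (by rw [this])
  have ho2 : orderOf (a * b) ≠ 2 := by
    intro h
    have h2 : (a * b) ^ 2 = 1 := by rw [← h]; exact pow_orderOf_eq_one _
    rw [pow_two] at h2
    have h3 : a * b = (a * b)⁻¹ := eq_inv_of_mul_eq_one_left h2
    rw [_root_.mul_inv_rev, hainv, hbinv] at h3
    exact hab h3
  have ho4 : orderOf (a * b) = 4 := by
    have h4 : orderOf (a * b) ∣ 4 := by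
      have : 2 * orderOf (a * b) ∣ 2 * 4 := hdvd
      exact (Nat.mul_dvd_mul_iff_left (by norm_num)).mp this
    have hle : orderOf (a * b) ≤ 4 := Nat.le_of_dvd (by norm_num) h4
    have hpos : 0 < orderOf (a * b) := orderOf_pos _
    interval_cases h : orderOf (a * b)
    · exact absurd rfl ho1
    · exact absurd rfl ho2
    · norm_num at h4
    · rfl
  have htop : Subgroup.closure ({a, b} : Set D) = ⊤ := by
    apply Subgroup.eq_top_of_card_eq
    rw [hcl, ho4, hcard]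
  have e := Cfsg.Agent.Lib.Helper4_DihedralIso.dihedralEquiv ha hb ha1 hb1
  rw [ho4, htop] at e
  exact ⟨(e.trans Subgroup.topEquiv).symm⟩

end abstract

section main

variable {ι : Type} [Fintype ι] [DecidableEq ι] {F : Type*} [Field F]

/-- Conjugating a reflection by a similarity. -/
theorem conj_reflectionMatrix_sim (Q : QuadraticForm F (ι → F)) (g : ↥(GO (⇑Q))) (v : ι → F) :
    ((g : GL ι F) : Matrix ι ι F) * Cfsg.reflectionMatrix (⇑Q) v *
      (((g : GL ι F)⁻¹ : GL ι F) : Matrix ι ι F) =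
      Cfsg.reflectionMatrix (⇑Q) (((g : GL ι F) : Matrix ι ι F) *ᵥ v) := by
  apply matrix_ext_mulVec
  intro x
  rw [← Matrix.mulVec_mulVec, ← Matrix.mulVec_mulVec, reflectionMatrix_mulVec,
    reflectionMatrix_mulVec, mu_spec (⇑Q)]
  set y := (((g : GL ι F)⁻¹ : GL ι F) : Matrix ι ι F) *ᵥ x with hy
  have hxy : x = ((g : GL ι F) : Matrix ι ι F) *ᵥ y := by
    rw [hy, Matrix.mulVec_mulVec, ← Units.val_mul, mul_inv_cancel, Units.val_one, Matrix.one_mulVec]
  rw [hxy, polar_mulVec, Matrix.mulVec_sub, Matrix.mulVec_smul, ← hxy]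
  congr 2
  have hμ : ((mu (⇑Q) g : Fˣ) : F) ≠ 0 := Units.ne_zero _
  rw [mul_inv]
  calc (Q v)⁻¹ * QuadraticMap.polar (⇑Q) v y
      = (((mu (⇑Q) g : Fˣ) : F)⁻¹ * ((mu (⇑Q) g : Fˣ) : F)) *
          ((Q v)⁻¹ * QuadraticMap.polar (⇑Q) v y) := by rw [inv_mul_cancel₀ hμ, one_mul]
    _ = _ := by ring

variable [Fintype F]

/-- **`PGO / Inn` is dihedral of order eight** when `-1 ∈ Ω` (even dimension, odd characteristic), given a
similarity with non-square multiplier whose square is a scalar. -/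
theorem exists_hom_pgo_inn_dihedral (h2 : (2 : F) ≠ 0) (Q : QuadraticForm F (ι → F))
    (hQ : (QuadraticMap.polarBilin Q).Nondegenerate) (hn : 5 ≤ Fintype.card ι) {m : ℕ}
    (hcard : Fintype.card ι = 2 * m) (hneg : negOne Q ∈ Omega F (⇑Q)) (δ : ↥(GO (⇑Q)))
    (hδ : ¬ IsSquare ((mu (⇑Q) δ : Fˣ) : F))
    (hδ2 : ((δ * δ : ↥(GO (⇑Q))) : GL ι F) ∈ Geo.scalars ι F) :
    ∃ φ : ↥(pgoAut F (⇑Q)) →* DihedralGroup 4, Function.Surjective φ ∧
      φ.ker = (Inn (POmega F (⇑Q))).subgroupOf (pgoAut F (⇑Q)) := by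
  classical
  have hne : ∃ v, Q v ≠ 0 := by
    obtain ⟨v, hv⟩ := exists_norm_eq h2 Q hQ (by omega) 1
    exact ⟨v, by rw [hv]; exact one_ne_zero⟩
  have key := exists_hom_pgo_pso h2 Q hQ hn hcard ⟨δ, hδ⟩
  have hidx := relIndex_inn_pso h2 Q hQ hn hneg
  have hle1 : Inn (POmega F (⇑Q)) ≤ psoAut F (⇑Q) := by
    rw [psoAut_eq_map, inn_eq_map]
    apply Subgroup.map_mono
    rw [omega_eq_inf h2 Q hQ]
    exact inf_le_left
  have hle2 : psoAut F (⇑Q) ≤ pgoAut F (⇑Q) := by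
    rw [psoAut_eq, pgoAut_eq, MonoidHom.range_eq_map]
    exact Subgroup.map_mono le_top
  obtain ⟨P, hP⟩ : ∃ P, P = pgoAut F (⇑Q) := ⟨_, rfl⟩
  have hP' : P = (Phi (⇑Q)).range := hP.trans (pgoAut_eq (⇑Q))
  rw [← hP] at key hle2 ⊢
  subst hP'
  set N : Subgroup ↥(Phi (⇑Q)).range := (Inn (POmega F (⇑Q))).subgroupOf (Phi (⇑Q)).range with hN
  -- the order of the quotient
  have hcardD : Nat.card (↥(Phi (⇑Q)).range ⧸ N) = 8 := by
    obtain ⟨φ₀, hsurj, hker⟩ := key
    have h4 : (psoAut F (⇑Q)).relIndex (Phi (⇑Q)).range = 4 := by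
      rw [Subgroup.relIndex, ← hker, Subgroup.index_ker, MonoidHom.range_eq_top.mpr hsurj,
        Subgroup.card_top, Nat.card_eq_fintype_card]
      rfl
    have := Subgroup.relIndex_mul_relIndex _ _ _ hle1 hle2
    rw [hidx, h4] at this
    rw [← Subgroup.index_eq_card, hN, ← Subgroup.relIndex, ← this]
  -- the two involutions
  obtain ⟨v, hv⟩ := hne
  set ρ : ↥(GO (⇑Q)) := ⟨(refl Q v hv : GL ι F), isometryGroup_le_GO (⇑Q) (refl Q v hv).2⟩ with hρ
  have hρρ : ρ * ρ = 1 := by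
    apply Subtype.ext
    have := congrArg (fun z : ↥(isometryGroup F (⇑Q)) => (z : GL ι F)) (refl_mul_self Q v hv)
    exact this
  set a : ↥(Phi (⇑Q)).range ⧸ N := QuotientGroup.mk' N ((Phi (⇑Q)).rangeRestrict ρ) with ha
  set b : ↥(Phi (⇑Q)).range ⧸ N := QuotientGroup.mk' N ((Phi (⇑Q)).rangeRestrict δ) with hb
  have haa : a * a = 1 := by
    rw [ha, ← map_mul, ← map_mul, hρρ, map_one, map_one]
  have hbb : b * b = 1 := by
    rw [hb, ← map_mul, ← map_mul]
    have : (Phi (⇑Q)).rangeRestrict (δ * δ) = 1 :=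
      Subtype.ext (Phi_eq_one_of_scalar (⇑Q) _ hδ2)
    rw [this, map_one]
  have hab : a * b ≠ b * a := by
    intro h
    have h1 : b * a * b⁻¹ * a⁻¹ = 1 := by rw [← h]; group
    rw [ha, hb, ← map_inv, ← map_inv, ← map_mul, ← map_mul, ← map_mul, ← map_inv, ← map_inv,
      ← map_mul, ← map_mul, ← map_mul, QuotientGroup.mk'_apply, QuotientGroup.eq_one_iff, hN,
      Subgroup.mem_subgroupOf, MonoidHom.coe_rangeRestrict] at h1
    -- the commutator as an isometry
    have hv' : Q (((δ : GL ι F) : Matrix ι ι F) *ᵥ v) ≠ 0 := by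
      rw [mu_spec (⇑Q)]
      exact mul_ne_zero (Units.ne_zero _) hv
    set s : ↥(isometryGroup F (⇑Q)) := refl Q _ hv' * refl Q v hv with hs
    have hρinv : ρ⁻¹ = ρ := inv_eq_of_mul_eq_one_left hρρ
    have hcomm : δ * ρ * δ⁻¹ * ρ⁻¹ = Subgroup.inclusion (isometryGroup_le_GO (⇑Q)) s := by
      apply Subtype.ext
      apply Units.ext
      rw [hρinv]
      show ((δ : GL ι F) : Matrix ι ι F) * Cfsg.reflectionMatrix (⇑Q) v *
        (((δ : GL ι F)⁻¹ : GL ι F) : Matrix ι ι F) * Cfsg.reflectionMatrix (⇑Q) v = _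
      rw [conj_reflectionMatrix_sim]
      rfl
    rw [hcomm] at h1
    have h1' : PhiO (⇑Q) s ∈ Inn (POmega F (⇑Q)) := h1
    rw [inn_eq_map] at h1'
    obtain ⟨ω, hω, hωs⟩ := h1'
    have hker : ω⁻¹ * s ∈ (PhiO (⇑Q)).ker := by
      rw [MonoidHom.mem_ker, map_mul, map_inv, hωs, inv_mul_cancel]
    have hsΩ : s ∈ Omega F (⇑Q) := by
      rcases (mem_ker_PhiO h2 Q hQ hn _).mp hker with h | h
      · have : s = ω := by rw [← mul_one ω, ← h]; group
        rw [this]; exact hω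
      · have : s = ω * negOne Q := by rw [← h]; group
        rw [this]; exact Subgroup.mul_mem _ hω hneg
    rw [omega_eq_inf h2 Q hQ, Subgroup.mem_inf, MonoidHom.mem_ker, hs, map_mul] at hsΩ
    have hθ := hsΩ.2
    have hiff : IsSquare (Q (((δ : GL ι F) : Matrix ι ι F) *ᵥ v)) ↔ ¬ IsSquare (Q v) := by
      rw [mu_spec (⇑Q), mul_comm]
      exact isSquare_mul_nonsq_iff hv hδ
    by_cases hsq : IsSquare (Q v)
    · rw [(theta_refl Q h2 v hv).1 hsq, (theta_refl Q h2 _ hv').2 (fun h => hiff.mp h hsq)] at hθ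
      exact absurd hθ (by decide)
    · rw [(theta_refl Q h2 v hv).2 hsq, (theta_refl Q h2 _ hv').1 (hiff.mpr hsq)] at hθ
      exact absurd hθ (by decide)
  obtain ⟨e⟩ := nonempty_mulEquiv_dihedral_four hcardD a b haa hbb hab
  refine ⟨e.toMonoidHom.comp (QuotientGroup.mk' N), ?_, ?_⟩
  · exact e.surjective.comp (QuotientGroup.mk'_surjective N)
  · ext x
    simp only [MonoidHom.mem_ker, MonoidHom.comp_apply, MulEquiv.coe_toMonoidHom,
      EmbeddingLike.map_eq_one_iff, QuotientGroup.mk'_apply, QuotientGroup.eq_one_iff]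

end main

end Cfsg.Agent.Lib.Helper14_GODihedral
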