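import Mathlib
import Cfsg.Agent.Lib.Helper14_GODihedral

set_option autoImplicit false

/-!
The structure of `Phi(G°) / Inn(PΩ)` where `G° = {g ∈ GO(Q) : det g = μ(g)^M}` (dimension `2M`, finite field
of odd order): cyclic of order 2, cyclic of order 4 or elementary abelian of order 4 (helper14).
-/

namespace Cfsg.Agent.Lib.Helper14_InndiagQuot

open Cfsg Matrix Cfsg.Agent.Lib.Helper44_Orth Cfsg.Agent.Lib.Helper44_Refl
  Cfsg.Agent.Lib.Helper44_Spinor Cfsg.Agent.Lib.Helper14_OrthChars Cfsg.Agent.Lib.Helper14_AutOmega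
  Cfsg.Agent.Lib.Helper14_CentOmega Cfsg.Agent.Lib.Helper14_GOChars
  Cfsg.Agent.Lib.Helper14_OmegaIndex Cfsg.Agent.Lib.Helper44_FinSq
  Cfsg.Agent.Lib.Helper14_GODihedral

section abstract

variable {D : Type*} [Group D]

/-- A group of order four with two distinct involutions is elementary abelian. -/
theorem nonempty_mulEquiv_klein (hcard : Nat.card D = 4) (a b : D) (ha : a * a = 1)
    (hb : b * b = 1) (ha1 : a ≠ 1) (hb1 : b ≠ 1) (hab : a ≠ b) :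
    Nonempty (D ≃* Multiplicative (ZMod 2 × ZMod 2)) := by
  classical
  have hfin : Finite D := Nat.finite_of_card_ne_zero (by rw [hcard]; norm_num)
  have hncyc : ¬ IsCyclic D := by
    intro hc
    have : Fintype D := Fintype.ofFinite D
    have h1 := IsCyclic.card_pow_eq_one_le (α := D) (n := 2) (by norm_num)
    have h2 : ({1, a, b} : Finset D) ⊆ Finset.univ.filter (fun x : D => x ^ 2 = 1) := by
      intro x hx
      simp only [Finset.mem_insert, Finset.mem_singleton] at hx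
      rw [Finset.mem_filter]
      refine ⟨Finset.mem_univ _, ?_⟩
      rcases hx with rfl | rfl | rfl
      · simp
      · rw [pow_two, ha]
      · rw [pow_two, hb]
    have h3 : ({1, a, b} : Finset D).card = 3 := by
      rw [Finset.card_insert_of_notMem, Finset.card_insert_of_notMem, Finset.card_singleton]
      · simpa using hab
      · simp only [Finset.mem_insert, Finset.mem_singleton, not_or]
        exact ⟨ha1.symm, hb1.symm⟩
    have h4 := Finset.card_le_card h2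
    omega
  have hexp : Monoid.exponent D = 2 :=
    (not_isCyclic_iff_exponent_eq_prime Nat.prime_two (by rw [hcard]; norm_num)).mp hncyc
  have : IsKleinFour D := ⟨hcard, hexp⟩
  exact IsKleinFour.nonempty_mulEquiv

/-- A group of order four with an element whose square is not `1` is cyclic. -/
theorem nonempty_mulEquiv_cyclic_four (hcard : Nat.card D = 4) (d : D) (hd : d * d ≠ 1) :
    Nonempty (D ≃* Multiplicative (ZMod 4)) := by
  have hfin : Finite D := Nat.finite_of_card_ne_zero (by rw [hcard]; norm_num)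
  have hdvd : orderOf d ∣ 4 := hcard ▸ orderOf_dvd_natCard d
  have ho : orderOf d = 4 := by
    have hle : orderOf d ≤ 4 := Nat.le_of_dvd (by norm_num) hdvd
    have hpos : 0 < orderOf d := orderOf_pos d
    interval_cases h : orderOf d
    · exfalso
      apply hd
      rw [orderOf_eq_one_iff] at h
      rw [h, mul_one]
    · exfalso
      apply hd
      have := pow_orderOf_eq_one d
      rw [h, pow_two] at this
      exact this
    · norm_num at hdvd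
    · rfl
  have hc : IsCyclic D := isCyclic_of_orderOf_eq_card d (by rw [ho, hcard])
  have e := zmodCyclicMulEquiv hc
  rw [hcard] at e
  exact ⟨e.symm⟩

end abstract

section main

variable {ι : Type} [Fintype ι] [DecidableEq ι] {F : Type*} [Field F] [Fintype F]

/-- `Ω(Q)` inside the similarity group. -/
abbrev Om' (Q : QuadraticForm F (ι → F)) : Subgroup ↥(GO (⇑Q)) :=
  (omegaGL (⇑Q)).subgroupOf (GO (⇑Q))

/-- If `-1 ∈ Ω`, an isometry lying in `Ω·Z` lies in `Ω`. -/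
theorem mem_omega_of_mem_sup (h2 : (2 : F) ≠ 0) (Q : QuadraticForm F (ι → F))
    (hQ : (QuadraticMap.polarBilin Q).Nondegenerate) (hn : 5 ≤ Fintype.card ι)
    (hneg : negOne Q ∈ Omega F (⇑Q)) (s : ↥(isometryGroup F (⇑Q)))
    (hs : Subgroup.inclusion (isometryGroup_le_GO (⇑Q)) s ∈ Om' Q ⊔ Z' Q) :
    s ∈ Omega F (⇑Q) := by
  have hZ : Z' Q = (Phi (⇑Q)).ker := (ker_Phi Q hQ hn).symm
  have hInn : (Om' Q).map (Phi (⇑Q)) = Inn (POmega F (⇑Q)) := (inn_eq (⇑Q)).symm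
  rw [hZ, ← Subgroup.comap_map_eq, Subgroup.mem_comap, hInn] at hs
  have h1' : PhiO (⇑Q) s ∈ Inn (POmega F (⇑Q)) := hs
  rw [inn_eq_map] at h1'
  obtain ⟨ω, hω, hωs⟩ := h1'
  have hker : ω⁻¹ * s ∈ (PhiO (⇑Q)).ker := by
    rw [MonoidHom.mem_ker, map_mul, map_inv, hωs, inv_mul_cancel]
  rcases (mem_ker_PhiO h2 Q hQ hn _).mp hker with h | h
  · have : s = ω := by rw [← mul_one ω, ← h]; group
    rw [this]; exact hω
  · have : s = ω * negOne Q := by rw [← h]; group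
    rw [this]; exact Subgroup.mul_mem _ hω hneg

/-- Elements of `Ω·Z` have square multiplier. -/
theorem chiHom_of_mem_sup (h2 : (2 : F) ≠ 0) (Q : QuadraticForm F (ι → F))
    (hQ : (QuadraticMap.polarBilin Q).Nondegenerate) (hne : ∃ v, Q v ≠ 0) {M : ℕ}
    (hcard : Fintype.card ι = 2 * M) (g : ↥(GO (⇑Q))) (hg : g ∈ Om' Q ⊔ Z' Q) :
    chiHom Q hne g = 1 := by
  have hle : Om' Q ⊔ Z' Q ≤ SO' Q ⊔ Z' Q := by
    apply sup_le_sup_right
    intro x hx
    obtain ⟨hx1, hx2⟩ := (mem_omegaGL_iff (⇑Q) _).mp (Subgroup.mem_subgroupOf.mp hx)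
    rw [omega_eq_inf h2 Q hQ, Subgroup.mem_inf] at hx2
    rw [mem_SO'_iff]
    exact ⟨hx1, (Cfsg.Agent.S0787.mem_SO_iff Q _).mp hx2.1⟩
  have := hle hg
  rw [← ker_psi h2 Q hQ hne hcard, MonoidHom.mem_ker, psi, MonoidHom.prod_apply, Prod.mk_eq_one]
    at this
  exact this.1

omit [Fintype F] in
/-- The commutator of a similarity with a reflection. -/
theorem comm_refl (Q : QuadraticForm F (ι → F)) (δ : ↥(GO (⇑Q))) (v : ι → F) (hv : Q v ≠ 0)
    (hv' : Q (((δ : GL ι F) : Matrix ι ι F) *ᵥ v) ≠ 0) :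
    δ * ⟨(refl Q v hv : GL ι F), isometryGroup_le_GO (⇑Q) (refl Q v hv).2⟩ * δ⁻¹ *
      (⟨(refl Q v hv : GL ι F), isometryGroup_le_GO (⇑Q) (refl Q v hv).2⟩ : ↥(GO (⇑Q)))⁻¹ =
      Subgroup.inclusion (isometryGroup_le_GO (⇑Q)) (refl Q _ hv' * refl Q v hv) := by
  set ρ : ↥(GO (⇑Q)) := ⟨(refl Q v hv : GL ι F), isometryGroup_le_GO (⇑Q) (refl Q v hv).2⟩ with hρ
  have hρρ : ρ * ρ = 1 := by
    apply Subtype.ext
    have := congrArg (fun z : ↥(isometryGroup F (⇑Q)) => (z : GL ι F)) (refl_mul_self Q v hv)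
    exact this
  have hρinv : ρ⁻¹ = ρ := inv_eq_of_mul_eq_one_left hρρ
  apply Subtype.ext
  apply Units.ext
  rw [hρinv]
  show ((δ : GL ι F) : Matrix ι ι F) * Cfsg.reflectionMatrix (⇑Q) v *
    (((δ : GL ι F)⁻¹ : GL ι F) : Matrix ι ι F) * Cfsg.reflectionMatrix (⇑Q) v = _
  rw [conj_reflectionMatrix_sim]
  rfl

theorem theta_comm_refl (h2 : (2 : F) ≠ 0) (Q : QuadraticForm F (ι → F)) (δ : ↥(GO (⇑Q)))
    (hδ : ¬ IsSquare ((mu (⇑Q) δ : Fˣ) : F)) (v : ι → F) (hv : Q v ≠ 0)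
    (hv' : Q (((δ : GL ι F) : Matrix ι ι F) *ᵥ v) ≠ 0) :
    theta Q (refl Q _ hv' * refl Q v hv) = -1 := by
  have hiff : IsSquare (Q (((δ : GL ι F) : Matrix ι ι F) *ᵥ v)) ↔ ¬ IsSquare (Q v) := by
    rw [mu_spec (⇑Q), mul_comm]
    exact isSquare_mul_nonsq_iff hv hδ
  rw [map_mul]
  by_cases hsq : IsSquare (Q v)
  · rw [(theta_refl Q h2 v hv).1 hsq, (theta_refl Q h2 _ hv').2 (fun h => hiff.mp h hsq)]
    rfl
  · rw [(theta_refl Q h2 v hv).2 hsq, (theta_refl Q h2 _ hv').1 (hiff.mpr hsq)]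
    rfl

/-- `G°`: the similarities with `det g = μ(g)^M`. -/
noncomputable abbrev Gz (h2 : (2 : F) ≠ 0) (Q : QuadraticForm F (ι → F))
    (hQ : (QuadraticMap.polarBilin Q).Nondegenerate) (hne : ∃ v, Q v ≠ 0) {M : ℕ}
    (hcard : Fintype.card ι = 2 * M) : Subgroup ↥(GO (⇑Q)) :=
  (sgnHom h2 Q hQ hne hcard).ker

theorem SO'_le_Gz (h2 : (2 : F) ≠ 0) (Q : QuadraticForm F (ι → F))
    (hQ : (QuadraticMap.polarBilin Q).Nondegenerate) (hne : ∃ v, Q v ≠ 0) {M : ℕ}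
    (hcard : Fintype.card ι = 2 * M) : SO' Q ⊔ Z' Q ≤ Gz h2 Q hQ hne hcard := by
  rw [← ker_psi h2 Q hQ hne hcard]
  intro g hg
  rw [MonoidHom.mem_ker, psi, MonoidHom.prod_apply, Prod.mk_eq_one] at hg
  exact hg.2

/-- The quotient of the image of `G°` by the image of `SO` has order two. -/
theorem exists_hom_Iz (h2 : (2 : F) ≠ 0) (Q : QuadraticForm F (ι → F))
    (hQ : (QuadraticMap.polarBilin Q).Nondegenerate) (hn : 5 ≤ Fintype.card ι)
    (hne : ∃ v, Q v ≠ 0) {M : ℕ} (hcard : Fintype.card ι = 2 * M)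
    (g₀ : ↥(GO (⇑Q))) (hg₀ : g₀ ∈ Gz h2 Q hQ hne hcard) (hchi : chiHom Q hne g₀ = -1) :
    ∃ φ : ↥((Gz h2 Q hQ hne hcard).map (Phi (⇑Q))) →* ℤˣ, Function.Surjective φ ∧
      φ.ker = (psoAut F (⇑Q)).subgroupOf ((Gz h2 Q hQ hne hcard).map (Phi (⇑Q))) := by
  set G := Gz h2 Q hQ hne hcard with hG
  have hrange : G.subtype.range = G := Subgroup.range_subtype G
  apply exists_hom_of_range ((Phi (⇑Q)).comp G.subtype) ((chiHom Q hne).comp G.subtype) ?_
    ((SO' Q).comap G.subtype) ?_ _ _ ?_ ?_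
  · intro u
    rcases Int.units_eq_one_or u with rfl | rfl
    · exact ⟨1, map_one _⟩
    · exact ⟨⟨g₀, hg₀⟩, hchi⟩
  · have hk1 : ((Phi (⇑Q)).comp G.subtype).ker = (Z' Q).comap G.subtype := by
      rw [← MonoidHom.comap_ker, ker_Phi Q hQ hn]
    rw [hk1, Subgroup.comap_sup_eq_of_le_range G.subtype
      (by rw [hrange]; exact le_sup_left.trans (SO'_le_Gz h2 Q hQ hne hcard))
      (by rw [hrange]; exact le_sup_right.trans (SO'_le_Gz h2 Q hQ hne hcard)),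
      ← ker_psi h2 Q hQ hne hcard]
    ext g
    rw [MonoidHom.mem_ker, MonoidHom.comp_apply, Subgroup.mem_comap, MonoidHom.mem_ker, psi,
      MonoidHom.prod_apply, Prod.mk_eq_one]
    constructor
    · intro h
      exact ⟨h, g.2⟩
    · intro h
      exact h.1
  · rw [MonoidHom.range_comp, hrange]
  · rw [psoAut_eq, ← Subgroup.map_map, Subgroup.map_comap_eq, hrange, inf_eq_right.mpr]
    exact le_sup_left.trans (SO'_le_Gz h2 Q hQ hne hcard)

/-- `ℤˣ` is cyclic of order two. -/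
def unitsEquiv2 : ℤˣ ≃* Multiplicative (ZMod 2) where
  toFun u := Multiplicative.ofAdd (if u = 1 then 0 else 1)
  invFun x := if Multiplicative.toAdd x = 0 then 1 else -1
  left_inv := by decide
  right_inv := by decide
  map_mul' := by decide

theorem sgnHom_refl (h2 : (2 : F) ≠ 0) (Q : QuadraticForm F (ι → F))
    (hQ : (QuadraticMap.polarBilin Q).Nondegenerate) (hne : ∃ v, Q v ≠ 0) {M : ℕ}
    (hcard : Fintype.card ι = 2 * M) (v : ι → F) (hv : Q v ≠ 0) :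
    sgnHom h2 Q hQ hne hcard ⟨(refl Q v hv : GL ι F), isometryGroup_le_GO (⇑Q) (refl Q v hv).2⟩ = -1 ∧
    chiHom Q hne ⟨(refl Q v hv : GL ι F), isometryGroup_le_GO (⇑Q) (refl Q v hv).2⟩ = 1 := by
  have := psi_refl h2 Q hQ hne hcard v hv
  rw [psi, MonoidHom.prod_apply, Prod.mk.injEq] at this
  exact ⟨this.2, this.1⟩

/-- A similarity in `G°` with non-square multiplier exists as soon as some similarity has non-square
multiplier. -/
theorem exists_g0 (h2 : (2 : F) ≠ 0) (Q : QuadraticForm F (ι → F))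
    (hQ : (QuadraticMap.polarBilin Q).Nondegenerate) (hne : ∃ v, Q v ≠ 0) {M : ℕ}
    (hcard : Fintype.card ι = 2 * M) (δ : ↥(GO (⇑Q))) (hδ : chiHom Q hne δ = -1) :
    ∃ g₀ : ↥(GO (⇑Q)), g₀ ∈ Gz h2 Q hQ hne hcard ∧ chiHom Q hne g₀ = -1 := by
  obtain ⟨v, hv⟩ := hne
  obtain ⟨hs, hc⟩ := sgnHom_refl h2 Q hQ ⟨v, hv⟩ hcard v hv
  rcases Int.units_eq_one_or (sgnHom h2 Q hQ ⟨v, hv⟩ hcard δ) with h | h
  · exact ⟨δ, MonoidHom.mem_ker.mpr h, hδ⟩
  · refine ⟨δ * ⟨(refl Q v hv : GL ι F), isometryGroup_le_GO (⇑Q) (refl Q v hv).2⟩, ?_, ?_⟩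
    · rw [MonoidHom.mem_ker, map_mul, h, hs]
      rfl
    · rw [map_mul, hδ, hc, mul_one]

/-- **Case `-1 ∉ Ω`**: the image of `G°` modulo `Inn` is cyclic of order two. -/
theorem exists_hom_two (h2 : (2 : F) ≠ 0) (Q : QuadraticForm F (ι → F))
    (hQ : (QuadraticMap.polarBilin Q).Nondegenerate) (hn : 5 ≤ Fintype.card ι)
    (hne : ∃ v, Q v ≠ 0) {M : ℕ} (hcard : Fintype.card ι = 2 * M)
    (hneg : negOne Q ∉ Omega F (⇑Q)) (δ : ↥(GO (⇑Q))) (hδ : chiHom Q hne δ = -1) :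
    ∃ φ : ↥((Gz h2 Q hQ hne hcard).map (Phi (⇑Q))) →* Multiplicative (ZMod 2),
      Function.Surjective φ ∧
      φ.ker = (Inn (POmega F (⇑Q))).subgroupOf ((Gz h2 Q hQ hne hcard).map (Phi (⇑Q))) := by
  obtain ⟨g₀, hg₀, hchi⟩ := exists_g0 h2 Q hQ hne hcard δ hδ
  obtain ⟨φ, hsurj, hker⟩ := exists_hom_Iz h2 Q hQ hn hne hcard g₀ hg₀ hchi
  have heven : Even (Fintype.card ι) := by rw [hcard]; exact even_two_mul M
  rw [psoAut_eq_inn h2 Q hQ hn heven hneg] at hker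
  refine ⟨unitsEquiv2.toMonoidHom.comp φ, unitsEquiv2.surjective.comp hsurj, ?_⟩
  rw [← hker]
  ext x
  simp only [MonoidHom.mem_ker, MonoidHom.comp_apply, MulEquiv.coe_toMonoidHom,
    EmbeddingLike.map_eq_one_iff]

omit [Fintype F] in
theorem scalar_comm (Q : QuadraticForm F (ι → F)) (z : ↥(GO (⇑Q))) (hz : z ∈ Z' Q)
    (x : ↥(GO (⇑Q))) : x * z = z * x := by
  obtain ⟨c, hc⟩ := (Geo.mem_scalars_iff _).mp (Subgroup.mem_subgroupOf.mp hz)
  apply Subtype.ext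
  apply Units.ext
  rw [Subgroup.coe_mul, Subgroup.coe_mul, Units.val_mul, Units.val_mul, hc, Matrix.smul_mul,
    Matrix.one_mul, Matrix.mul_smul, Matrix.mul_one]

section quot

variable (h2 : (2 : F) ≠ 0) (Q : QuadraticForm F (ι → F))
  (hQ : (QuadraticMap.polarBilin Q).Nondegenerate) (hn : 5 ≤ Fintype.card ι)
  (hne : ∃ v, Q v ≠ 0) {M : ℕ} (hcard : Fintype.card ι = 2 * M)

/-- The normal subgroup `Inn` of the image of `G°`. -/
noncomputable abbrev Nz : Subgroup ↥((Gz h2 Q hQ hne hcard).map (Phi (⇑Q))) :=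
  (Inn (POmega F (⇑Q))).subgroupOf ((Gz h2 Q hQ hne hcard).map (Phi (⇑Q)))

/-- The projection of `G°` onto the quotient of its image by `Inn`. -/
noncomputable def piz : ↥(Gz h2 Q hQ hne hcard) →*
    ↥((Gz h2 Q hQ hne hcard).map (Phi (⇑Q))) ⧸ Nz h2 Q hQ hne hcard :=
  (QuotientGroup.mk' (Nz h2 Q hQ hne hcard)).comp ((Phi (⇑Q)).subgroupMap (Gz h2 Q hQ hne hcard))

include hn in
theorem piz_eq_one_iff (g : ↥(Gz h2 Q hQ hne hcard)) :
    piz h2 Q hQ hne hcard g = 1 ↔ (g : ↥(GO (⇑Q))) ∈ Om' Q ⊔ Z' Q := by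
  have hZ : Z' Q = (Phi (⇑Q)).ker := (ker_Phi Q hQ hn).symm
  have hInn : (Om' Q).map (Phi (⇑Q)) = Inn (POmega F (⇑Q)) := (inn_eq (⇑Q)).symm
  rw [piz, MonoidHom.comp_apply, QuotientGroup.mk'_apply, QuotientGroup.eq_one_iff,
    Subgroup.mem_subgroupOf, hZ, ← Subgroup.comap_map_eq, Subgroup.mem_comap, hInn]
  rfl

include hn in
/-- In the case `-1 ∈ Ω` the quotient has order four. -/
theorem card_quot (hneg : negOne Q ∈ Omega F (⇑Q)) (δ : ↥(GO (⇑Q))) (hδ : chiHom Q hne δ = -1) :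
    Nat.card (↥((Gz h2 Q hQ hne hcard).map (Phi (⇑Q))) ⧸ Nz h2 Q hQ hne hcard) = 4 := by
  obtain ⟨g₀, hg₀, hchi⟩ := exists_g0 h2 Q hQ hne hcard δ hδ
  obtain ⟨φ, hsurj, hker⟩ := exists_hom_Iz h2 Q hQ hn hne hcard g₀ hg₀ hchi
  have hidx := relIndex_inn_pso h2 Q hQ hn hneg
  have hle1 : Inn (POmega F (⇑Q)) ≤ psoAut F (⇑Q) := by
    rw [psoAut_eq_map, inn_eq_map]
    apply Subgroup.map_mono
    rw [omega_eq_inf h2 Q hQ]
    exact inf_le_left
  have hle2 : psoAut F (⇑Q) ≤ (Gz h2 Q hQ hne hcard).map (Phi (⇑Q)) := by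
    rw [psoAut_eq]
    exact Subgroup.map_mono (le_sup_left.trans (SO'_le_Gz h2 Q hQ hne hcard))
  have h4 : (psoAut F (⇑Q)).relIndex ((Gz h2 Q hQ hne hcard).map (Phi (⇑Q))) = 2 := by
    rw [Subgroup.relIndex, ← hker, Subgroup.index_ker, MonoidHom.range_eq_top.mpr hsurj,
      Subgroup.card_top, Nat.card_eq_fintype_card, Fintype.card_units_int]
  have := Subgroup.relIndex_mul_relIndex _ _ _ hle1 hle2
  rw [hidx, h4] at this
  rw [← Subgroup.index_eq_card, Nz, ← Subgroup.relIndex, ← this]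

include hn in
/-- **Case `-1 ∈ Ω`, `δ ∈ G°`**: elementary abelian of order four. -/
theorem exists_hom_klein (hneg : negOne Q ∈ Omega F (⇑Q)) (δ : ↥(GO (⇑Q)))
    (hδ : chiHom Q hne δ = -1) (hδ2 : δ * δ ∈ Z' Q) (hδs : δ ∈ Gz h2 Q hQ hne hcard) :
    ∃ φ : ↥((Gz h2 Q hQ hne hcard).map (Phi (⇑Q))) →* Multiplicative (ZMod 2 × ZMod 2),
      Function.Surjective φ ∧
      φ.ker = (Inn (POmega F (⇑Q))).subgroupOf ((Gz h2 Q hQ hne hcard).map (Phi (⇑Q))) := by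
  have hcardD := card_quot h2 Q hQ hn hne hcard hneg δ hδ
  -- an element of `SO ∖ Ω`
  obtain ⟨a, ha1⟩ := exists_norm_eq h2 Q hQ (by omega) 1
  obtain ⟨ε, hε⟩ := FiniteField.exists_nonsquare (ringChar_ne_two_of_two_ne_zero h2)
  obtain ⟨b, hbε⟩ := exists_norm_eq h2 Q hQ (by omega) ε
  have ha : Q a ≠ 0 := by rw [ha1]; exact one_ne_zero
  have hb : Q b ≠ 0 := by
    rw [hbε]; rintro rfl; exact hε ⟨0, by simp⟩
  have hasq : IsSquare (Q a) := by rw [ha1]; exact ⟨1, by simp⟩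
  have hbsq : ¬ IsSquare (Q b) := by rw [hbε]; exact hε
  set s₀ : ↥(isometryGroup F (⇑Q)) := refl Q a ha * refl Q b hb with hs₀
  have hθ : theta Q s₀ = -1 := by
    rw [hs₀, map_mul, (theta_refl Q h2 a ha).1 hasq, (theta_refl Q h2 b hb).2 hbsq]
    rfl
  have hs₀SO : s₀ ∈ specialIsometryGroup F (⇑Q) := (Cfsg.Agent.S0787.pair Q a b ha hb).2
  set t : ↥(GO (⇑Q)) := Subgroup.inclusion (isometryGroup_le_GO (⇑Q)) s₀ with ht
  have htSO : t ∈ SO' Q := by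
    rw [mem_SO'_iff]
    exact ⟨s₀.2, (Cfsg.Agent.S0787.mem_SO_iff Q _).mp hs₀SO⟩
  have htG : t ∈ Gz h2 Q hQ hne hcard := SO'_le_Gz h2 Q hQ hne hcard (Subgroup.mem_sup_left htSO)
  have hchit : chiHom Q hne t = 1 := by
    have : t ∈ SO' Q ⊔ Z' Q := Subgroup.mem_sup_left htSO
    rw [← ker_psi h2 Q hQ hne hcard, MonoidHom.mem_ker, psi, MonoidHom.prod_apply,
      Prod.mk_eq_one] at this
    exact this.1
  set d := piz h2 Q hQ hne hcard ⟨δ, hδs⟩ with hd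
  set σ := piz h2 Q hQ hne hcard ⟨t, htG⟩ with hσ
  have hdd : d * d = 1 := by
    rw [hd, ← map_mul, piz_eq_one_iff h2 Q hQ hn hne hcard]
    exact Subgroup.mem_sup_right hδ2
  have hσσ : σ * σ = 1 := by
    rw [hσ, ← map_mul, piz_eq_one_iff h2 Q hQ hn hne hcard]
    apply Subgroup.mem_sup_left
    rw [Subgroup.mem_subgroupOf, mem_omegaGL_iff]
    refine ⟨(s₀ * s₀).2, ?_⟩
    show s₀ * s₀ ∈ Omega F (⇑Q)
    rw [omega_eq_inf h2 Q hQ, Subgroup.mem_inf, MonoidHom.mem_ker, map_mul, hθ]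
    exact ⟨Subgroup.mul_mem _ hs₀SO hs₀SO, rfl⟩
  have hd1 : d ≠ 1 := by
    intro h
    rw [hd, piz_eq_one_iff h2 Q hQ hn hne hcard] at h
    have := chiHom_of_mem_sup h2 Q hQ hne hcard δ h
    rw [hδ] at this
    exact absurd this (by decide)
  have hσ1 : σ ≠ 1 := by
    intro h
    rw [hσ, piz_eq_one_iff h2 Q hQ hn hne hcard] at h
    have := mem_omega_of_mem_sup h2 Q hQ hn hneg s₀ h
    rw [omega_eq_inf h2 Q hQ, Subgroup.mem_inf, MonoidHom.mem_ker, hθ] at this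
    exact absurd this.2 (by decide)
  have hdσ : d ≠ σ := by
    intro h
    have h1 : piz h2 Q hQ hne hcard (⟨δ, hδs⟩ * ⟨t, htG⟩⁻¹) = 1 := by
      rw [map_mul, map_inv, ← hd, ← hσ, h, mul_inv_cancel]
    rw [piz_eq_one_iff h2 Q hQ hn hne hcard] at h1
    have := chiHom_of_mem_sup h2 Q hQ hne hcard _ h1
    have h3 : chiHom Q hne (δ * t⁻¹) = -1 := by
      rw [map_mul, map_inv, hδ, hchit]
      rfl
    rw [Subgroup.coe_mul, Subgroup.coe_inv] at this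
    rw [h3] at this
    exact absurd this (by decide)
  obtain ⟨e⟩ := nonempty_mulEquiv_klein hcardD d σ hdd hσσ hd1 hσ1 hdσ
  refine ⟨e.toMonoidHom.comp (QuotientGroup.mk' (Nz h2 Q hQ hne hcard)), ?_, ?_⟩
  · exact e.surjective.comp (QuotientGroup.mk'_surjective _)
  · ext x
    simp only [MonoidHom.mem_ker, MonoidHom.comp_apply, MulEquiv.coe_toMonoidHom,
      EmbeddingLike.map_eq_one_iff, QuotientGroup.mk'_apply, QuotientGroup.eq_one_iff]

include hn in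
/-- **Case `-1 ∈ Ω`, `δ ∉ G°`**: cyclic of order four. -/
theorem exists_hom_cyclic_four (hneg : negOne Q ∈ Omega F (⇑Q)) (δ : ↥(GO (⇑Q)))
    (hδ : chiHom Q hne δ = -1) (hδ2 : δ * δ ∈ Z' Q) (hδs : δ ∉ Gz h2 Q hQ hne hcard) :
    ∃ φ : ↥((Gz h2 Q hQ hne hcard).map (Phi (⇑Q))) →* Multiplicative (ZMod 4),
      Function.Surjective φ ∧
      φ.ker = (Inn (POmega F (⇑Q))).subgroupOf ((Gz h2 Q hQ hne hcard).map (Phi (⇑Q))) := by
  have hcardD := card_quot h2 Q hQ hn hne hcard hneg δ hδ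
  obtain ⟨v, hv⟩ := hne
  obtain ⟨hsρ, hcρ⟩ := sgnHom_refl h2 Q hQ ⟨v, hv⟩ hcard v hv
  set ρ : ↥(GO (⇑Q)) := ⟨(refl Q v hv : GL ι F), isometryGroup_le_GO (⇑Q) (refl Q v hv).2⟩ with hρ
  have hρρ : ρ * ρ = 1 := by
    apply Subtype.ext
    have := congrArg (fun z : ↥(isometryGroup F (⇑Q)) => (z : GL ι F)) (refl_mul_self Q v hv)
    exact this
  have hρinv : ρ⁻¹ = ρ := inv_eq_of_mul_eq_one_left hρρ
  have hsδ : sgnHom h2 Q hQ ⟨v, hv⟩ hcard δ = -1 := by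
    rcases Int.units_eq_one_or (sgnHom h2 Q hQ ⟨v, hv⟩ hcard δ) with h | h
    · exact absurd (MonoidHom.mem_ker.mpr h) hδs
    · exact h
  have hg₀ : δ * ρ ∈ Gz h2 Q hQ ⟨v, hv⟩ hcard := by
    rw [MonoidHom.mem_ker, map_mul, hsδ, hsρ]
    rfl
  have hδsq : ¬ IsSquare ((mu (⇑Q) δ : Fˣ) : F) := (chiHom_eq_neg_one_iff Q ⟨v, hv⟩ δ).mp hδ
  have hv' : Q (((δ : GL ι F) : Matrix ι ι F) *ᵥ v) ≠ 0 := by
    rw [mu_spec (⇑Q)]
    exact mul_ne_zero (Units.ne_zero _) hv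
  have hcomm := comm_refl Q δ v hv hv'
  rw [← hρ, hρinv] at hcomm
  have hsq : (δ * ρ) * (δ * ρ) =
      Subgroup.inclusion (isometryGroup_le_GO (⇑Q)) (refl Q _ hv' * refl Q v hv) * (δ * δ) := by
    rw [← hcomm]
    have h1 := scalar_comm Q (δ * δ) hδ2 ρ
    calc δ * ρ * (δ * ρ) = δ * ρ * δ⁻¹ * (δ * δ * ρ) := by group
      _ = δ * ρ * δ⁻¹ * (ρ * (δ * δ)) := by rw [h1]
      _ = δ * ρ * δ⁻¹ * ρ * (δ * δ) := by group
  set d := piz h2 Q hQ ⟨v, hv⟩ hcard ⟨δ * ρ, hg₀⟩ with hd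
  have hdd : d * d ≠ 1 := by
    intro h
    rw [hd, ← map_mul, piz_eq_one_iff h2 Q hQ hn ⟨v, hv⟩ hcard] at h
    have h1 : (δ * ρ) * (δ * ρ) ∈ Om' Q ⊔ Z' Q := h
    rw [hsq] at h1
    have h2' : Subgroup.inclusion (isometryGroup_le_GO (⇑Q)) (refl Q _ hv' * refl Q v hv) ∈
        Om' Q ⊔ Z' Q := by
      have hz : δ * δ ∈ Om' Q ⊔ Z' Q := Subgroup.mem_sup_right hδ2
      have := Subgroup.mul_mem _ h1 (Subgroup.inv_mem _ hz)
      rwa [mul_inv_cancel_right] at this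
    have h3 := mem_omega_of_mem_sup h2 Q hQ hn hneg _ h2'
    rw [omega_eq_inf h2 Q hQ, Subgroup.mem_inf, MonoidHom.mem_ker,
      theta_comm_refl h2 Q δ hδsq v hv hv'] at h3
    exact absurd h3.2 (by decide)
  obtain ⟨e⟩ := nonempty_mulEquiv_cyclic_four hcardD d hdd
  refine ⟨e.toMonoidHom.comp (QuotientGroup.mk' (Nz h2 Q hQ ⟨v, hv⟩ hcard)), ?_, ?_⟩
  · exact e.surjective.comp (QuotientGroup.mk'_surjective _)
  · ext x
    simp only [MonoidHom.mem_ker, MonoidHom.comp_apply, MulEquiv.coe_toMonoidHom,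
      EmbeddingLike.map_eq_one_iff, QuotientGroup.mk'_apply, QuotientGroup.eq_one_iff]

end quot

end main

end Cfsg.Agent.Lib.Helper14_InndiagQuot
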