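import Mathlib
import Cfsg.Agent.S0790
import Cfsg.Agent.S0791
import Cfsg.Agent.Lib.Helper44_Spinor

set_option autoImplicit false

/-!
When `-1` lies in `Ω` for the standard plus-type and minus-type forms, in the form used by the statements on
the images of `GO`, `SO` in `Aut(PΩ)` (helper14).
-/

namespace Cfsg.Agent.Lib.Helper14_NegOneStd

open Cfsg Cfsg.Agent.Lib.Helper44_StdForms Cfsg.Agent.Lib.Helper44_Spinor

variable {F : Type*} [Field F] [Fintype F]

theorem arith3 {q m : ℕ} (hq : Odd q) : q ^ (m + 1) % 4 = 3 ↔ (Even m ∧ q % 4 = 3) := by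
  have hq4 : q % 4 = 1 ∨ q % 4 = 3 := by
    obtain ⟨t, rfl⟩ := hq; omega
  rw [Nat.pow_mod]
  rcases hq4 with h | h
  · rw [h]; simp
  · rw [h]
    rcases Nat.even_or_odd m with hm | hm
    · obtain ⟨k, rfl⟩ := hm
      have : 3 ^ (k + k + 1) % 4 = 3 := by
        rw [pow_succ, ← two_mul, pow_mul, Nat.mul_mod, Nat.pow_mod]; norm_num
      rw [this]
      simp
    · obtain ⟨k, rfl⟩ := hm
      have : 3 ^ (2 * k + 1 + 1) % 4 = 1 := by
        rw [show 2 * k + 1 + 1 = 2 * (k + 1) by ring, pow_mul, Nat.pow_mod]; norm_num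
      rw [this]
      simp

theorem negOne_mem_plus_iff (hodd : Odd (Fintype.card F)) (m : ℕ) (hm : 1 ≤ m) :
    negOne (qfPlus m F) ∈ Cfsg.Omega F (⇑(qfPlus m F)) ↔ (Even m ∨ Fintype.card F % 4 ≠ 3) := by
  have key := Cfsg.Agent.S0790.result (F := F) rfl hodd m hm
  rw [Cfsg.Agent.S0790.arith hodd, ← coe_qfPlus] at key
  rw [← key]
  constructor
  · intro h
    exact ⟨_, h, negOne_coe _⟩
  · rintro ⟨g, hg, hcoe⟩
    have : g = negOne _ := by
      apply Subtype.ext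
      apply Units.ext
      rw [hcoe, negOne_coe]
    rw [← this]; exact hg

theorem negOne_mem_minus_iff (hodd : Odd (Fintype.card F)) (m : ℕ) (a b : F)
    (hab : ∀ z₁ z₂ : F, z₁ ^ 2 + a * z₁ * z₂ + b * z₂ ^ 2 = 0 → z₁ = 0 ∧ z₂ = 0) :
    negOne (qfMinus m F a b) ∈ Cfsg.Omega F (⇑(qfMinus m F a b)) ↔
      (Even m ∧ Fintype.card F % 4 = 3) := by
  have key : (∃ g : ↥(Cfsg.isometryGroup F (Cfsg.quadFormMinus m F a b)),
      g ∈ Cfsg.Omega F (Cfsg.quadFormMinus m F a b) ∧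
        ((g : Matrix.GeneralLinearGroup ((Fin m ⊕ Fin m) ⊕ Fin 2) F) :
          Matrix ((Fin m ⊕ Fin m) ⊕ Fin 2) ((Fin m ⊕ Fin m) ⊕ Fin 2) F) = -1) ↔
      Fintype.card F ^ (m + 1) % 4 = 3 :=
    Cfsg.Agent.S0791.result (F := F) rfl hodd (m + 1) (by omega) a b hab
  rw [arith3 hodd, ← coe_qfMinus] at key
  rw [← key]
  constructor
  · intro h
    exact ⟨_, h, negOne_coe _⟩
  · rintro ⟨g, hg, hcoe⟩
    have : g = negOne _ := by
      apply Subtype.ext
      apply Units.ext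
      rw [hcoe, negOne_coe]
    rw [← this]; exact hg

end Cfsg.Agent.Lib.Helper14_NegOneStd
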