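import Mathlib
import Cfsg.Agent.Lib.Helper14_InndiagQuot
import Cfsg.Agent.Lib.Helper14_InndiagPlus
import Cfsg.Agent.Lib.Helper14_NegOneStd

set_option autoImplicit false

/-!
`Inndiag(PΩ±)` as the image of `G° = {g ∈ GO(Q) : det g = μ(g)^M}` under `Phi`, and the determinant of the
similarity `dPlusGL` (helper14).
-/

namespace Cfsg.Agent.Lib.Helper14_InndiagMain

open Cfsg Matrix Cfsg.Agent.Lib.Helper44_Orth Cfsg.Agent.Lib.Helper14_AutOmega
  Cfsg.Agent.Lib.Helper14_GOChars Cfsg.Agent.Lib.Helper14_InndiagQuot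
  Cfsg.Agent.Lib.Helper14_GODelta Cfsg.Agent.Lib.Helper14_InndiagPlus
  Cfsg.Agent.Lib.Helper44_StdForms

section general

variable {ι : Type} [Fintype ι] [DecidableEq ι] {F : Type*} [Field F] [Fintype F]

/-- If the class-preserving similarities are those with `det g = μ(g)^M`, the group generated by the
automorphisms they induce is the image of `G°`. -/
theorem autSubgroupOf_preserves_eq (h2 : (2 : F) ≠ 0) (Q : QuadraticForm F (ι → F))
    (hQ : (QuadraticMap.polarBilin Q).Nondegenerate) (hne : ∃ v, Q v ≠ 0) {M : ℕ}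
    (hcard : Fintype.card ι = 2 * M) (P : Matrix ι ι F → Prop)
    (hP : ∀ g : ↥(GO (⇑Q)), P ((g : GL ι F) : Matrix ι ι F) ↔
      ((g : GL ι F) : Matrix ι ι F).det = ((mu (⇑Q) g : Fˣ) : F) ^ M) :
    autSubgroupOf (fun β : POmega F (⇑Q) ≃* POmega F (⇑Q) =>
      ∃ g : GL ι F, g ∈ Geo.quadSimilarityGroup (F := F) (⇑Q) ∧ P (g : Matrix ι ι F) ∧
        IsInducedBySemilinearPOmega (⇑Q) g (RingEquiv.refl F) β) =
      (Gz h2 Q hQ hne hcard).map (Phi (⇑Q)) := by
  unfold autSubgroupOf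
  have : {β : MulAut (POmega F (⇑Q)) |
      ∃ g : GL ι F, g ∈ Geo.quadSimilarityGroup (F := F) (⇑Q) ∧ P (g : Matrix ι ι F) ∧
        IsInducedBySemilinearPOmega (⇑Q) g (RingEquiv.refl F) β} =
      (((Gz h2 Q hQ hne hcard).map (Phi (⇑Q)) : Subgroup (MulAut (POmega F (⇑Q)))) :
        Set (MulAut (POmega F (⇑Q)))) := by
    ext β
    constructor
    · rintro ⟨g, hg, hPg, hβ⟩
      refine ⟨⟨g, hg⟩, ?_, ?_⟩
      · rw [SetLike.mem_coe, MonoidHom.mem_ker, sgnHom_eq_one_iff]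
        exact (hP ⟨g, hg⟩).mp hPg
      · exact ((isInduced_iff (⇑Q) ⟨g, hg⟩ β).mp hβ).symm
    · rintro ⟨g, hg, rfl⟩
      rw [SetLike.mem_coe, MonoidHom.mem_ker, sgnHom_eq_one_iff] at hg
      exact ⟨g, g.2, (hP g).mpr hg, (isInduced_iff (⇑Q) g _).mpr rfl⟩
  rw [this, Subgroup.closure_eq]

end general

section plus

variable {F : Type*} [Field F] (m : ℕ)

theorem dPlusMat_eq (ν : F) : dPlusMat m ν = dDiagMat m ν *
    Matrix.fromBlocks (0 : Matrix (Fin m) (Fin m) F) 1 1 0 := by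
  rw [dPlusMat, dDiagMat, Matrix.fromBlocks_multiply]
  simp

theorem det_dPlusMat (ν : F) : (dPlusMat m ν).det = (-1) ^ m * ν ^ m := by
  rw [dPlusMat_eq, Matrix.det_mul, det_dDiagMat, det_antidiag, mul_comm]

end plus

end Cfsg.Agent.Lib.Helper14_InndiagMain
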