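import Mathlib
import Cfsg.Agent.Lib.Helper14_InndiagMain

set_option autoImplicit false

/-!
Elements of `SO ∖ Ω` commuting with a similarity whose square is a scalar (helper14).  Used for the splitting
of the class of an involutory graph automorphism of `PΩ⁺`.
-/

namespace Cfsg.Agent.Lib.Helper14_GraphCent

open Cfsg Matrix Module Cfsg.Agent.Lib.Helper44_Orth Cfsg.Agent.Lib.Helper44_Refl
  Cfsg.Agent.Lib.Helper44_Spinor Cfsg.Agent.Lib.Helper14_AutOmega Cfsg.Agent.Lib.Helper14_GOChars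
  Cfsg.Agent.Lib.Helper14_GODihedral Cfsg.Agent.Lib.Helper14_InndiagQuot

variable {ι : Type} [Fintype ι] [DecidableEq ι] {F : Type*} [Field F]

section refl

/-- Reflections in orthogonal vectors commute. -/
theorem reflectionMatrix_comm (Q : QuadraticForm F (ι → F)) {a b : ι → F}
    (hab : QuadraticMap.polar (⇑Q) a b = 0) :
    Cfsg.reflectionMatrix (⇑Q) a * Cfsg.reflectionMatrix (⇑Q) b =
      Cfsg.reflectionMatrix (⇑Q) b * Cfsg.reflectionMatrix (⇑Q) a := by
  apply matrix_ext_mulVec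
  intro x
  have hba : QuadraticMap.polar (⇑Q) b a = 0 := by rw [QuadraticMap.polar_comm]; exact hab
  rw [← Matrix.mulVec_mulVec, ← Matrix.mulVec_mulVec, reflectionMatrix_mulVec Q b x,
    reflectionMatrix_mulVec Q a x, reflectionMatrix_mulVec, reflectionMatrix_mulVec,
    QuadraticMap.polar_sub_right, QuadraticMap.polar_sub_right, QuadraticMap.polar_smul_right,
    QuadraticMap.polar_smul_right, hab, hba]
  simp only [smul_eq_mul, mul_zero, sub_zero]
  abel

/-- A similarity permuting (up to scalars and order) the two vectors commutes with the product of the two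
reflections. -/
theorem commute_two_refl (Q : QuadraticForm F (ι → F)) (g : ↥(GO (⇑Q))) (a b : ι → F)
    (ha : Q a ≠ 0) (hb : Q b ≠ 0)
    (h : Cfsg.reflectionMatrix (⇑Q) (((g : GL ι F) : Matrix ι ι F) *ᵥ a) *
      Cfsg.reflectionMatrix (⇑Q) (((g : GL ι F) : Matrix ι ι F) *ᵥ b) =
      Cfsg.reflectionMatrix (⇑Q) a * Cfsg.reflectionMatrix (⇑Q) b) :
    g * Subgroup.inclusion (isometryGroup_le_GO (⇑Q)) (refl Q a ha * refl Q b hb) =
      Subgroup.inclusion (isometryGroup_le_GO (⇑Q)) (refl Q a ha * refl Q b hb) * g := by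
  apply Subtype.ext
  apply Units.ext
  show ((g : GL ι F) : Matrix ι ι F) * (Cfsg.reflectionMatrix (⇑Q) a * Cfsg.reflectionMatrix (⇑Q) b) =
    (Cfsg.reflectionMatrix (⇑Q) a * Cfsg.reflectionMatrix (⇑Q) b) * ((g : GL ι F) : Matrix ι ι F)
  have hinv : (((g : GL ι F)⁻¹ : GL ι F) : Matrix ι ι F) * ((g : GL ι F) : Matrix ι ι F) = 1 := by
    rw [← Units.val_mul, inv_mul_cancel, Units.val_one]
  have h1 := conj_reflectionMatrix_sim Q g a
  have h2 := conj_reflectionMatrix_sim Q g b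
  set M := ((g : GL ι F) : Matrix ι ι F) with hM
  set Mi := (((g : GL ι F)⁻¹ : GL ι F) : Matrix ι ι F) with hMi
  set Ra := Cfsg.reflectionMatrix (⇑Q) a with hRa
  set Rb := Cfsg.reflectionMatrix (⇑Q) b with hRb
  calc M * (Ra * Rb) = (M * Ra * Mi) * (M * Rb * Mi) * M := by
        have : M * Ra * Mi * (M * Rb * Mi) * M = M * Ra * (Mi * M) * Rb * (Mi * M) := by
          simp only [Matrix.mul_assoc]
        rw [this, hinv, Matrix.mul_one, Matrix.mul_one, Matrix.mul_assoc]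
    _ = Ra * Rb * M := by rw [h1, h2, h]

end refl

section exist

variable [Fintype F]

open Cfsg.Agent.Lib.Helper44_FinSq Cfsg.Agent.Lib.Helper14_OrthChars
  Cfsg.Agent.Lib.Helper14_SingClasses

/-- A non-singular vector orthogonal to two given vectors (dimension `2N ≥ 6`). -/
theorem exists_nonsingular_orth (h2 : (2 : F) ≠ 0) (Q : QuadraticForm F (ι → F))
    (hQ : (QuadraticMap.polarBilin Q).Nondegenerate) {N : ℕ} (hcard : Fintype.card ι = 2 * N)
    (hN : 3 ≤ N) (a b : ι → F) :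
    ∃ z, Q z ≠ 0 ∧ QuadraticMap.polar (⇑Q) z a = 0 ∧ QuadraticMap.polar (⇑Q) z b = 0 := by
  set φ : (ι → F) →ₗ[F] F × F :=
    LinearMap.prod ((QuadraticMap.polarBilin Q).flip a) ((QuadraticMap.polarBilin Q).flip b) with hφ
  have h1 := LinearMap.finrank_range_add_finrank_ker φ
  have h3 : finrank F (LinearMap.range φ) ≤ 2 := by
    have := Submodule.finrank_le (LinearMap.range φ)
    rwa [Module.finrank_prod, Module.finrank_self] at this
  rw [Module.finrank_fintype_fun_eq_card, hcard] at h1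
  by_contra hcon
  push Not at hcon
  have hts : ∀ u ∈ LinearMap.ker φ, Q u = 0 := by
    intro u hu
    by_contra hne
    rw [LinearMap.mem_ker, hφ, LinearMap.prod_apply] at hu
    have hu1 : QuadraticMap.polar (⇑Q) u a = 0 := congrArg Prod.fst hu
    have hu2 : QuadraticMap.polar (⇑Q) u b = 0 := congrArg Prod.snd hu
    exact hcon u hne hu1 hu2
  have := finrank_le_of_ts Q hQ hcard hts
  omega

/-- Two binary forms over the quadratic extension `F(√μ)` jointly represent `√μ`; in coordinates. -/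
theorem exists_quad_pair (h2 : (2 : F) ≠ 0) (μ : F)
    (hμ : ¬ IsSquare μ) (A₁ A₂ H₁ H₂ : F) (hA₁ : A₁ ≠ 0) (hA₂ : A₂ ≠ 0) :
    ∃ x₁ y₁ x₂ y₂ : F,
      (H₁ * x₁ ^ 2 + 2 * μ * A₁ * x₁ * y₁ + μ * H₁ * y₁ ^ 2) +
        (H₂ * x₂ ^ 2 + 2 * μ * A₂ * x₂ * y₂ + μ * H₂ * y₂ ^ 2) = 0 ∧
      (A₁ * x₁ ^ 2 + 2 * H₁ * x₁ * y₁ + μ * A₁ * y₁ ^ 2) +
        (A₂ * x₂ ^ 2 + 2 * H₂ * x₂ * y₂ + μ * A₂ * y₂ ^ 2) = 1 := by
  classical
  have : Fact (∀ r : F, r ^ 2 ≠ μ + 0 * r) := ⟨fun r hr => hμ ⟨r, by rw [← sq, hr]; ring⟩⟩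
  let _ : Fintype (QuadraticAlgebra F μ 0) :=
    Fintype.ofEquiv (F × F) (QuadraticAlgebra.equivProd μ 0).symm
  have hcardK : Fintype.card (QuadraticAlgebra F μ 0) % 2 = 1 := by
    rw [Fintype.card_congr (QuadraticAlgebra.equivProd μ 0), Fintype.card_prod]
    have := Nat.odd_iff.mp (odd_card_of_two_ne_zero h2)
    rw [Nat.mul_mod, this]
  set b₁ : QuadraticAlgebra F μ 0 := ⟨H₁, A₁⟩ with hb₁
  set b₂ : QuadraticAlgebra F μ 0 := ⟨H₂, A₂⟩ with hb₂
  set w : QuadraticAlgebra F μ 0 := ⟨0, 1⟩ with hw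
  have hb₁0 : b₁ ≠ 0 := fun h => hA₁ (congrArg QuadraticAlgebra.im h)
  have hb₂0 : b₂ ≠ 0 := fun h => hA₂ (congrArg QuadraticAlgebra.im h)
  have hf : (Polynomial.C b₁ * Polynomial.X ^ 2 : Polynomial (QuadraticAlgebra F μ 0)).degree = 2 := by
    rw [Polynomial.degree_C_mul_X_pow 2 hb₁0]; rfl
  have hg : (Polynomial.C b₂ * Polynomial.X ^ 2 - Polynomial.C w :
      Polynomial (QuadraticAlgebra F μ 0)).degree = 2 := by
    rw [Polynomial.degree_sub_C]
    · rw [Polynomial.degree_C_mul_X_pow 2 hb₂0]; rfl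
    · rw [Polynomial.degree_C_mul_X_pow 2 hb₂0]; norm_num
  obtain ⟨ξ₁, ξ₂, hxy⟩ := FiniteField.exists_root_sum_quadratic hf hg hcardK
  simp only [Polynomial.eval_mul, Polynomial.eval_C, Polynomial.eval_pow, Polynomial.eval_X,
    Polynomial.eval_sub] at hxy
  refine ⟨ξ₁.re, ξ₁.im, ξ₂.re, ξ₂.im, ?_, ?_⟩
  · have := congrArg QuadraticAlgebra.re hxy
    simp [pow_two, hb₁, hb₂, hw] at this
    linear_combination this
  · have := congrArg QuadraticAlgebra.im hxy
    simp [pow_two, hb₁, hb₂, hw] at this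
    linear_combination this

/-- A self-adjoint similarity `M` with `M² = μ` a non-square scalar maps some non-singular vector to a vector
orthogonal to it. -/
theorem exists_ortho_image (h2 : (2 : F) ≠ 0) (Q : QuadraticForm F (ι → F))
    (hQ : (QuadraticMap.polarBilin Q).Nondegenerate) {N : ℕ} (hcard : Fintype.card ι = 2 * N)
    (hN : 3 ≤ N) (M : Matrix ι ι F) (μ : F) (hμ : ¬ IsSquare μ)
    (hsa : ∀ x y, QuadraticMap.polar (⇑Q) (M *ᵥ x) y = QuadraticMap.polar (⇑Q) x (M *ᵥ y))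
    (hsq : ∀ x, M *ᵥ (M *ᵥ x) = μ • x) :
    ∃ z, Q z ≠ 0 ∧ QuadraticMap.polar (⇑Q) z (M *ᵥ z) = 0 := by
  obtain ⟨u₁, hu₁⟩ := exists_norm_eq h2 Q hQ (by omega) 1
  obtain ⟨u₂, hu₂, h21, h21'⟩ := exists_nonsingular_orth h2 Q hQ hcard hN u₁ (M *ᵥ u₁)
  set B := QuadraticMap.polar (⇑Q) with hB
  have hsymm : ∀ x y, B x y = B y x := fun x y => QuadraticMap.polar_comm _ _ _
  have hself : ∀ x, B x x = 2 * Q x := fun x => polar_self Q x
  set A₁ := B u₁ u₁ with hA₁
  set A₂ := B u₂ u₂ with hA₂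
  set H₁ := B u₁ (M *ᵥ u₁) with hH₁
  set H₂ := B u₂ (M *ᵥ u₂) with hH₂
  have hA₁0 : A₁ ≠ 0 := by
    rw [hA₁, hself, hu₁]; simpa using h2
  have hA₂0 : A₂ ≠ 0 := by
    rw [hA₂, hself]; exact mul_ne_zero h2 hu₂
  obtain ⟨x₁, y₁, x₂, y₂, hre, him⟩ := exists_quad_pair h2 μ hμ A₁ A₂ H₁ H₂ hA₁0 hA₂0
  -- Gram data
  have g11 : B (M *ᵥ u₁) (M *ᵥ u₁) = μ * A₁ := by
    rw [hsa, hsq, hB, QuadraticMap.polar_smul_right]; rfl
  have g22 : B (M *ᵥ u₂) (M *ᵥ u₂) = μ * A₂ := by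
    rw [hsa, hsq, hB, QuadraticMap.polar_smul_right]; rfl
  have c1 : B u₁ u₂ = 0 := by rw [hsymm]; exact h21
  have c2 : B u₁ (M *ᵥ u₂) = 0 := by rw [← hsa, hsymm]; exact h21'
  have c3 : B (M *ᵥ u₁) u₂ = 0 := by rw [hsymm]; exact h21'
  have c4 : B (M *ᵥ u₁) (M *ᵥ u₂) = 0 := by
    rw [hsa, hsq, hB, QuadraticMap.polar_smul_right, ← hB, c1, smul_zero]
  set z := x₁ • u₁ + y₁ • (M *ᵥ u₁) + x₂ • u₂ + y₂ • (M *ᵥ u₂) with hz
  have hMz : M *ᵥ z = x₁ • (M *ᵥ u₁) + y₁ • (μ • u₁) + x₂ • (M *ᵥ u₂) + y₂ • (μ • u₂) := by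
    rw [hz, Matrix.mulVec_add, Matrix.mulVec_add, Matrix.mulVec_add, Matrix.mulVec_smul,
      Matrix.mulVec_smul, Matrix.mulVec_smul, Matrix.mulVec_smul, hsq, hsq]
  have hbil : ∀ a b c d a' b' c' d' : F, ∀ p q r s : ι → F,
      B (a • p + b • q + c • r + d • s) (a' • p + b' • q + c' • r + d' • s) =
      a * a' * B p p + a * b' * B p q + a * c' * B p r + a * d' * B p s +
      b * a' * B q p + b * b' * B q q + b * c' * B q r + b * d' * B q s +
      c * a' * B r p + c * b' * B r q + c * c' * B r r + c * d' * B r s +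
      d * a' * B s p + d * b' * B s q + d * c' * B s r + d * d' * B s s := by
    intro a b c d a' b' c' d' p q r s
    simp only [hB, QuadraticMap.polar_add_left, QuadraticMap.polar_add_right,
      QuadraticMap.polar_smul_left, QuadraticMap.polar_smul_right, smul_eq_mul]
    ring
  have hzz : B z z = 1 := by
    rw [hz, hbil, hsymm (M *ᵥ u₁) u₁, hsymm u₂ u₁, hsymm (M *ᵥ u₂) u₁, hsymm u₂ (M *ᵥ u₁),
      hsymm (M *ᵥ u₂) (M *ᵥ u₁), hsymm (M *ᵥ u₂) u₂, g11, g22, c1, c2, c3, c4]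
    linear_combination him
  have hzMz : B z (M *ᵥ z) = 0 := by
    have e : M *ᵥ z = (y₁ * μ) • u₁ + x₁ • (M *ᵥ u₁) + (y₂ * μ) • u₂ + x₂ • (M *ᵥ u₂) := by
      rw [hMz, smul_smul, smul_smul]; abel
    rw [e, hz, hbil, hsymm (M *ᵥ u₁) u₁, hsymm u₂ u₁, hsymm (M *ᵥ u₂) u₁, hsymm u₂ (M *ᵥ u₁),
      hsymm (M *ᵥ u₂) (M *ᵥ u₁), hsymm (M *ᵥ u₂) u₂, g11, g22, c1, c2, c3, c4]
    linear_combination hre
  refine ⟨z, ?_, hzMz⟩
  intro hQz
  rw [hself, hQz, mul_zero] at hzz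
  exact zero_ne_one hzz

/-- The eigenspace of a matrix. -/
def eig (M : Matrix ι ι F) (s : F) : Submodule F (ι → F) :=
  LinearMap.ker (Matrix.toLin' M - s • LinearMap.id)

omit [Fintype F] in
theorem mem_eig (M : Matrix ι ι F) (s : F) (x : ι → F) : x ∈ eig M s ↔ M *ᵥ x = s • x := by
  rw [eig, LinearMap.mem_ker, LinearMap.sub_apply, Matrix.toLin'_apply, LinearMap.smul_apply,
    LinearMap.id_apply, sub_eq_zero]

omit [Fintype F] in
theorem add_mem_eig (M : Matrix ι ι F) (s : F) (hsq : ∀ x, M *ᵥ (M *ᵥ x) = (s * s) • x)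
    (y : ι → F) : s • y + M *ᵥ y ∈ eig M s := by
  rw [mem_eig, Matrix.mulVec_add, Matrix.mulVec_smul, hsq, smul_add, mul_smul]
  abel

omit [Fintype F] in
theorem sub_mem_eig (M : Matrix ι ι F) (s : F) (hsq : ∀ x, M *ᵥ (M *ᵥ x) = (s * s) • x)
    (y : ι → F) : s • y - M *ᵥ y ∈ eig M (-s) := by
  rw [mem_eig, Matrix.mulVec_sub, Matrix.mulVec_smul, hsq, smul_sub, mul_smul, neg_smul, neg_smul]
  abel

omit [Fintype F] in
/-- Eigenvectors of a self-adjoint matrix for the eigenvalues `s` and `-s` are orthogonal. -/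
theorem polar_eig_eq_zero (h2 : (2 : F) ≠ 0) (Q : QuadraticForm F (ι → F)) (M : Matrix ι ι F) (s : F)
    (hs : s ≠ 0)
    (hsa : ∀ x y, QuadraticMap.polar (⇑Q) (M *ᵥ x) y = QuadraticMap.polar (⇑Q) x (M *ᵥ y))
    {x y : ι → F} (hx : x ∈ eig M s) (hy : y ∈ eig M (-s)) : QuadraticMap.polar (⇑Q) x y = 0 := by
  rw [mem_eig] at hx hy
  have e1 := hsa x y
  rw [hx, hy, QuadraticMap.polar_smul_left, QuadraticMap.polar_smul_right] at e1
  simp only [smul_eq_mul] at e1
  have e2 : (2 * s) * QuadraticMap.polar (⇑Q) x y = 0 := by linear_combination e1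
  rcases mul_eq_zero.mp e2 with h | h
  · exact absurd h (mul_ne_zero h2 hs)
  · exact h

/-- In an eigenspace of dimension at least two of a self-adjoint matrix `M` with `M² = s²`, there are two
eigenvectors whose norms have non-square product. -/
theorem eigen_pair_aux (h2 : (2 : F) ≠ 0) (Q : QuadraticForm F (ι → F))
    (hQ : (QuadraticMap.polarBilin Q).Nondegenerate) (M : Matrix ι ι F) (s : F) (hs : s ≠ 0)
    (hsa : ∀ x y, QuadraticMap.polar (⇑Q) (M *ᵥ x) y = QuadraticMap.polar (⇑Q) x (M *ᵥ y))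
    (hsq : ∀ x, M *ᵥ (M *ᵥ x) = (s * s) • x) (hdim : 2 ≤ finrank F (eig M s)) :
    ∃ u w : ι → F, M *ᵥ u = s • u ∧ M *ᵥ w = s • w ∧ Q u ≠ 0 ∧ Q w ≠ 0 ∧
      ¬ IsSquare (Q u * Q w) := by
  classical
  set B : LinearMap.BilinForm F (ι → F) := QuadraticMap.polarBilin Q with hB
  set W := eig M s with hW
  have hBsymm : B.IsSymm := ⟨fun x y => QuadraticMap.polar_comm _ _ _⟩
  have h2s : (2 * s : F) ≠ 0 := mul_ne_zero h2 hs
  have hdisj : Disjoint W (B.orthogonal W) := by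
    rw [Submodule.disjoint_def]
    intro x hxW hxO
    rw [LinearMap.BilinForm.mem_orthogonal_iff] at hxO
    apply hQ.1 x
    intro y
    have hy : y = (2 * s)⁻¹ • ((s • y + M *ᵥ y) + (s • y - M *ᵥ y)) := by
      have : s • y + M *ᵥ y + (s • y - M *ᵥ y) = (2 * s) • y := by
        rw [mul_smul, two_smul]; abel
      rw [this, smul_smul, inv_mul_cancel₀ h2s, one_smul]
    have h1 : B x (s • y + M *ᵥ y) = 0 := by
      have := hxO _ (add_mem_eig M s hsq y)
      rw [hBsymm.eq] at this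
      exact this
    have h3 : B x (s • y - M *ᵥ y) = 0 :=
      polar_eig_eq_zero h2 Q M s hs hsa hxW (sub_mem_eig M s hsq y)
    rw [hy, map_smul, map_add, h1, h3, add_zero, smul_zero]
  have hnd : (B.restrict W).Nondegenerate :=
    LinearMap.BilinForm.nondegenerate_restrict_of_disjoint_orthogonal B hBsymm.isRefl hdisj
  have : Invertible (2 : F) := invertibleOfNonzero h2
  obtain ⟨v, hv⟩ := LinearMap.BilinForm.exists_orthogonal_basis
    (LinearMap.BilinForm.isSymm_iff.mp (hBsymm.restrict W))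
  set i0 : Fin (finrank F W) := ⟨0, by omega⟩ with hi0
  set i1 : Fin (finrank F W) := ⟨1, by omega⟩ with hi1
  have h01 : i0 ≠ i1 := by
    intro h
    have := congrArg Fin.val h
    simp [hi0, hi1] at this
  have hn0 := LinearMap.IsOrthoᵢ.not_isOrtho_basis_self_of_separatingLeft hv hnd.1 i0
  have hn1 := LinearMap.IsOrthoᵢ.not_isOrtho_basis_self_of_separatingLeft hv hnd.1 i1
  have hort : QuadraticMap.polar (⇑Q) (v i0 : ι → F) (v i1 : ι → F) = 0 := hv h01
  have hself : ∀ x : ι → F, QuadraticMap.polar (⇑Q) x x = 2 * Q x := fun x => polar_self Q x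
  have hq0 : Q (v i0 : ι → F) ≠ 0 := by
    intro h
    apply hn0
    show QuadraticMap.polar (⇑Q) (v i0 : ι → F) (v i0 : ι → F) = 0
    rw [hself, h, mul_zero]
  have hq1 : Q (v i1 : ι → F) ≠ 0 := by
    intro h
    apply hn1
    show QuadraticMap.polar (⇑Q) (v i1 : ι → F) (v i1 : ι → F) = 0
    rw [hself, h, mul_zero]
  obtain ⟨ε, hε⟩ := FiniteField.exists_nonsquare (ringChar_ne_two_of_two_ne_zero h2)
  set c := ε * Q (v i0 : ι → F) with hc
  have hodd : Fintype.card F % 2 = 1 := Nat.odd_iff.mp (odd_card_of_two_ne_zero h2)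
  have hf : (Polynomial.C (Q (v i0 : ι → F)) * Polynomial.X ^ 2 : Polynomial F).degree = 2 := by
    rw [Polynomial.degree_C_mul_X_pow 2 hq0]; rfl
  have hg : (Polynomial.C (Q (v i1 : ι → F)) * Polynomial.X ^ 2 - Polynomial.C c :
      Polynomial F).degree = 2 := by
    rw [Polynomial.degree_sub_C]
    · rw [Polynomial.degree_C_mul_X_pow 2 hq1]; rfl
    · rw [Polynomial.degree_C_mul_X_pow 2 hq1]; norm_num
  obtain ⟨x, y, hxy⟩ := FiniteField.exists_root_sum_quadratic hf hg hodd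
  simp only [Polynomial.eval_mul, Polynomial.eval_C, Polynomial.eval_pow, Polynomial.eval_X,
    Polynomial.eval_sub] at hxy
  have hQw : Q (x • (v i0 : ι → F) + y • (v i1 : ι → F)) = c := by
    rw [QuadraticMap.map_add (⇑Q), QuadraticMap.map_smul, QuadraticMap.map_smul,
      QuadraticMap.polar_smul_left, QuadraticMap.polar_smul_right, hort]
    simp only [smul_eq_mul, mul_zero, add_zero]
    linear_combination hxy
  have hε0 : ε ≠ 0 := by
    rintro rfl; exact hε ⟨0, by simp⟩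
  have hmem : x • (v i0 : ι → F) + y • (v i1 : ι → F) ∈ W :=
    W.add_mem (W.smul_mem _ (v i0).2) (W.smul_mem _ (v i1).2)
  refine ⟨(v i0 : ι → F), x • (v i0 : ι → F) + y • (v i1 : ι → F), ?_, ?_, hq0, ?_, ?_⟩
  · exact (mem_eig M s _).mp (v i0).2
  · exact (mem_eig M s _).mp hmem
  · rw [hQw, hc]; exact mul_ne_zero hε0 hq0
  · rw [hQw, hc]
    rintro ⟨r, hr⟩
    apply hε
    refine ⟨r / Q (v i0 : ι → F), ?_⟩
    field_simp
    linear_combination hr

/-- A self-adjoint matrix `M` with `M² = κ²` has two eigenvectors (for the same eigenvalue) whose norms have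
non-square product (dimension at least four). -/
theorem exists_eigen_pair (h2 : (2 : F) ≠ 0) (Q : QuadraticForm F (ι → F))
    (hQ : (QuadraticMap.polarBilin Q).Nondegenerate) {N : ℕ} (hcard : Fintype.card ι = 2 * N)
    (hN : 2 ≤ N) (M : Matrix ι ι F) (κ : F) (hκ : κ ≠ 0)
    (hsa : ∀ x y, QuadraticMap.polar (⇑Q) (M *ᵥ x) y = QuadraticMap.polar (⇑Q) x (M *ᵥ y))
    (hsq : ∀ x, M *ᵥ (M *ᵥ x) = (κ * κ) • x) :
    ∃ (s : F) (u w : ι → F), s ≠ 0 ∧ M *ᵥ u = s • u ∧ M *ᵥ w = s • w ∧ Q u ≠ 0 ∧ Q w ≠ 0 ∧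
      ¬ IsSquare (Q u * Q w) := by
  have h2κ : (2 * κ : F) ≠ 0 := mul_ne_zero h2 hκ
  have hsup : eig M κ ⊔ eig M (-κ) = ⊤ := by
    rw [eq_top_iff]
    intro y _
    have hy : y = (2 * κ)⁻¹ • (κ • y + M *ᵥ y) + (2 * κ)⁻¹ • (κ • y - M *ᵥ y) := by
      rw [← smul_add]
      have : κ • y + M *ᵥ y + (κ • y - M *ᵥ y) = (2 * κ) • y := by
        rw [mul_smul, two_smul]; abel
      rw [this, smul_smul, inv_mul_cancel₀ h2κ, one_smul]
    rw [hy]
    exact Submodule.add_mem _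
      (Submodule.mem_sup_left (Submodule.smul_mem _ _ (add_mem_eig M κ hsq y)))
      (Submodule.mem_sup_right (Submodule.smul_mem _ _ (sub_mem_eig M κ hsq y)))
  have hfr := Submodule.finrank_add_le_finrank_add_finrank (eig M κ) (eig M (-κ))
  rw [hsup, finrank_top, Module.finrank_fintype_fun_eq_card, hcard] at hfr
  have hsq' : ∀ x, M *ᵥ (M *ᵥ x) = (-κ * -κ) • x := by
    intro x; rw [hsq, neg_mul_neg]
  by_cases hd : 2 ≤ finrank F (eig M κ)
  · obtain ⟨u, w, h⟩ := eigen_pair_aux h2 Q hQ M κ hκ hsa hsq hd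
    exact ⟨κ, u, w, hκ, h⟩
  · have hd' : 2 ≤ finrank F (eig M (-κ)) := by omega
    obtain ⟨u, w, h⟩ := eigen_pair_aux h2 Q hQ M (-κ) (neg_ne_zero.mpr hκ) hsa hsq' hd'
    exact ⟨-κ, u, w, neg_ne_zero.mpr hκ, h⟩

end exist

section main

variable [Fintype F]

open Cfsg.Agent.Lib.Helper44_FinSq Cfsg.Agent.Lib.Helper14_OrthChars

omit [Fintype F] in
/-- A similarity `g` with multiplier `κ²` and `g² = -κ²` has determinant `κ^n`. -/
theorem det_of_sq_eq_neg (h2 : (2 : F) ≠ 0) (Q : QuadraticForm F (ι → F))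
    (hQ : (QuadraticMap.polarBilin Q).Nondegenerate) (hne : ∃ v, Q v ≠ 0) (g : ↥(GO (⇑Q)))
    (κ : F) (hκ : κ ≠ 0) (hμ : ((mu (⇑Q) g : Fˣ) : F) = κ * κ)
    (hsq : ((g : GL ι F) : Matrix ι ι F) * ((g : GL ι F) : Matrix ι ι F) =
      (-(κ * κ)) • (1 : Matrix ι ι F)) :
    ((g : GL ι F) : Matrix ι ι F).det = κ ^ Fintype.card ι := by
  set M := ((g : GL ι F) : Matrix ι ι F) with hM
  have hMM : ∀ x, M *ᵥ (M *ᵥ x) = (-(κ * κ)) • x := by
    intro x
    rw [Matrix.mulVec_mulVec, hsq, Matrix.smul_mulVec, Matrix.one_mulVec]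
  -- skew-adjointness gives `B(v, M v) = 0`
  have hskew : ∀ v, QuadraticMap.polar (⇑Q) v (M *ᵥ v) = 0 := by
    intro v
    have h1 := polar_mulVec Q g v (M *ᵥ v)
    rw [← hM, hMM, QuadraticMap.polar_smul_right, hμ, QuadraticMap.polar_comm] at h1
    simp only [smul_eq_mul] at h1
    have h3 : (2 * (κ * κ)) * QuadraticMap.polar (⇑Q) v (M *ᵥ v) = 0 := by linear_combination -h1
    rcases mul_eq_zero.mp h3 with h | h
    · exact absurd h (mul_ne_zero h2 (mul_ne_zero hκ hκ))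
    · exact h
  have h2κ : (2 * (κ * κ) : F) ≠ 0 := mul_ne_zero h2 (mul_ne_zero hκ hκ)
  set S : Matrix ι ι F := κ • (1 : Matrix ι ι F) + M with hS
  have hSS : S * S = (2 * κ) • M := by
    rw [hS, Matrix.add_mul, Matrix.mul_add, Matrix.mul_add, hsq]
    simp only [Matrix.smul_mul, Matrix.mul_smul, Matrix.one_mul, Matrix.mul_one, smul_smul]
    rw [two_mul, add_smul, neg_smul]
    abel
  have hSinv : S * ((2 * (κ * κ))⁻¹ • (κ • (1 : Matrix ι ι F) - M)) = 1 := by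
    rw [Matrix.mul_smul, hS, Matrix.add_mul, Matrix.mul_sub, Matrix.mul_sub, hsq]
    simp only [Matrix.smul_mul, Matrix.mul_smul, Matrix.one_mul, Matrix.mul_one, smul_smul]
    have : (κ * κ) • (1 : Matrix ι ι F) - κ • M + (κ • M - -(κ * κ) • (1 : Matrix ι ι F)) =
        (2 * (κ * κ)) • (1 : Matrix ι ι F) := by
      rw [neg_smul, two_mul, add_smul]; abel
    rw [this, smul_smul, inv_mul_cancel₀ h2κ, one_smul]
  have hSinv' : ((2 * (κ * κ))⁻¹ • (κ • (1 : Matrix ι ι F) - M)) * S = 1 :=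
    mul_eq_one_comm.mp hSinv
  set SG : GL ι F := ⟨S, (2 * (κ * κ))⁻¹ • (κ • (1 : Matrix ι ι F) - M), hSinv, hSinv'⟩ with hSG
  have hSQ : ∀ v, Q (S *ᵥ v) = (2 * (κ * κ)) * Q v := by
    intro v
    rw [hS, Matrix.add_mulVec, Matrix.smul_mulVec, Matrix.one_mulVec,
      QuadraticMap.map_add (⇑Q), QuadraticMap.map_smul, QuadraticMap.polar_smul_left, hskew,
      mu_spec (⇑Q) g, hμ]
    simp only [smul_eq_mul, mul_zero, add_zero]
    ring
  have hmem : SG ∈ GO (⇑Q) := ⟨Units.mk0 _ h2κ, fun v => by rw [Units.val_mk0]; exact hSQ v⟩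
  have hmu : mu (⇑Q) ⟨SG, hmem⟩ = Units.mk0 _ h2κ :=
    mu_eq (⇑Q) hne _ _ (fun v => by rw [Units.val_mk0]; exact hSQ v)
  have h1 := det_sq Q hQ ⟨SG, hmem⟩
  rw [hmu, Units.val_mk0] at h1
  have h3 : S.det ^ 2 = (2 * κ) ^ Fintype.card ι * M.det := by
    rw [sq, ← Matrix.det_mul, hSS, Matrix.det_smul]
  have h4 : (SG : Matrix ι ι F).det = S.det := rfl
  rw [h4, h3] at h1
  have h5 : ((2 * κ) ^ Fintype.card ι : F) ≠ 0 := pow_ne_zero _ (mul_ne_zero h2 hκ)
  apply mul_left_cancel₀ h5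
  rw [h1, ← mul_pow]
  congr 1
  ring

/-- **Main lemma.** A similarity `g ∉ G°` whose square is a scalar commutes with some element of `SO ∖ Ω`
(dimension `2N ≥ 6`, finite field of odd order). -/
theorem exists_centralizing (h2 : (2 : F) ≠ 0) (Q : QuadraticForm F (ι → F))
    (hQ : (QuadraticMap.polarBilin Q).Nondegenerate) {N : ℕ} (hcard : Fintype.card ι = 2 * N)
    (hN : 3 ≤ N) (hne : ∃ v, Q v ≠ 0) (g : ↥(GO (⇑Q))) (hsq : g * g ∈ Z' Q)
    (hnot : g ∉ Gz h2 Q hQ hne hcard) :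
    ∃ c : ↥(isometryGroup F (⇑Q)), c ∈ specialIsometryGroup F (⇑Q) ∧ theta Q c = -1 ∧
      g * Subgroup.inclusion (isometryGroup_le_GO (⇑Q)) c =
        Subgroup.inclusion (isometryGroup_le_GO (⇑Q)) c * g := by
  set M := ((g : GL ι F) : Matrix ι ι F) with hM
  obtain ⟨lam, hlam⟩ := (Geo.mem_scalars_iff _).mp (Subgroup.mem_subgroupOf.mp hsq)
  have hMMmat : M * M = (lam : F) • (1 : Matrix ι ι F) := by rw [← hlam]; rfl
  have hMM : ∀ x, M *ᵥ (M *ᵥ x) = (lam : F) • x := by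
    intro x
    rw [Matrix.mulVec_mulVec, hMMmat, Matrix.smul_mulVec, Matrix.one_mulVec]
  set μ : F := ((mu (⇑Q) g : Fˣ) : F) with hμ
  have hμ0 : μ ≠ 0 := Units.ne_zero _
  obtain ⟨v0, hv0⟩ := hne
  have hlm : ((lam : F) - μ) * ((lam : F) + μ) = 0 := by
    have h1 : Q (M *ᵥ (M *ᵥ v0)) = μ * (μ * Q v0) := by
      rw [mu_spec (⇑Q) g, mu_spec (⇑Q) g]
    rw [hMM, QuadraticMap.map_smul, smul_eq_mul] at h1
    have h3 : (((lam : F) - μ) * ((lam : F) + μ)) * Q v0 = 0 := by linear_combination h1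
    rcases mul_eq_zero.mp h3 with h | h
    · exact h
    · exact absurd h hv0
  have hadj : ∀ x y, (lam : F) * QuadraticMap.polar (⇑Q) (M *ᵥ x) y =
      μ * QuadraticMap.polar (⇑Q) x (M *ᵥ y) := by
    intro x y
    have h1 := polar_mulVec Q g x (M *ᵥ y)
    rw [← hM, hMM, QuadraticMap.polar_smul_right, smul_eq_mul] at h1
    exact h1
  -- the element built from two reflections
  have key : ∀ (a b : ι → F) (ha : Q a ≠ 0) (hb : Q b ≠ 0),
      Cfsg.reflectionMatrix (⇑Q) (M *ᵥ a) * Cfsg.reflectionMatrix (⇑Q) (M *ᵥ b) =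
        Cfsg.reflectionMatrix (⇑Q) a * Cfsg.reflectionMatrix (⇑Q) b →
      theta Q (refl Q a ha * refl Q b hb) = -1 →
      ∃ c : ↥(isometryGroup F (⇑Q)), c ∈ specialIsometryGroup F (⇑Q) ∧ theta Q c = -1 ∧
        g * Subgroup.inclusion (isometryGroup_le_GO (⇑Q)) c =
          Subgroup.inclusion (isometryGroup_le_GO (⇑Q)) c * g := by
    intro a b ha hb hR hθ
    refine ⟨refl Q a ha * refl Q b hb, ?_, hθ, commute_two_refl Q g a b ha hb hR⟩
    rw [Cfsg.Agent.S0787.mem_SO_iff]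
    show (Cfsg.reflectionMatrix (⇑Q) a * Cfsg.reflectionMatrix (⇑Q) b).det = 1
    rw [Matrix.det_mul, det_reflectionMatrix Q ha, det_reflectionMatrix Q hb]
    ring
  by_cases hsqμ : IsSquare μ
  · -- square multiplier
    obtain ⟨κ, hκ⟩ := hsqμ
    have hκ0 : κ ≠ 0 := by
      rintro rfl; rw [mul_zero] at hκ; exact hμ0 hκ
    rcases mul_eq_zero.mp hlm with h | h
    · -- `lam = μ`: eigenvectors
      have hlam' : (lam : F) = μ := sub_eq_zero.mp h
      have hsa : ∀ x y, QuadraticMap.polar (⇑Q) (M *ᵥ x) y =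
          QuadraticMap.polar (⇑Q) x (M *ᵥ y) := by
        intro x y
        have := hadj x y
        rw [hlam'] at this
        exact mul_left_cancel₀ hμ0 this
      have hMM' : ∀ x, M *ᵥ (M *ᵥ x) = (κ * κ) • x := by
        intro x; rw [hMM, hlam', hκ]
      obtain ⟨s, u, w, hs0, hMu, hMw, hu, hw, hns⟩ :=
        exists_eigen_pair h2 Q hQ hcard (by omega) M κ hκ0 hsa hMM'
      apply key u w hu hw
      · rw [hMu, hMw, reflectionMatrix_smul Q u hs0, reflectionMatrix_smul Q w hs0]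
      · rw [map_mul]
        by_cases hwsq : IsSquare (Q w)
        · have hunsq : ¬ IsSquare (Q u) := by
            intro husq
            exact hns (husq.mul hwsq)
          rw [(theta_refl Q h2 u hu).2 hunsq, (theta_refl Q h2 w hw).1 hwsq]
          rfl
        · have husq : IsSquare (Q u) := by
            by_contra hcon
            exact hns (isSquare_mul_of_nonsq_of_nonsq hcon hwsq)
          rw [(theta_refl Q h2 u hu).1 husq, (theta_refl Q h2 w hw).2 hwsq]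
          rfl
    · -- `lam = -μ`: impossible
      exfalso
      apply hnot
      have hlam' : (lam : F) = -μ := eq_neg_of_add_eq_zero_left h
      have hdet := det_of_sq_eq_neg h2 Q hQ ⟨v0, hv0⟩ g κ hκ0 hκ (by
        rw [← hM, hMMmat, hlam', hκ])
      rw [MonoidHom.mem_ker, sgnHom_eq_one_iff, hdet, hcard, ← hμ, hκ, pow_mul, sq]
  · -- non-square multiplier
    have hz : ∃ z, Q z ≠ 0 ∧ QuadraticMap.polar (⇑Q) z (M *ᵥ z) = 0 := by
      rcases mul_eq_zero.mp hlm with h | h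
      · have hlam' : (lam : F) = μ := sub_eq_zero.mp h
        have hsa : ∀ x y, QuadraticMap.polar (⇑Q) (M *ᵥ x) y =
            QuadraticMap.polar (⇑Q) x (M *ᵥ y) := by
          intro x y
          have := hadj x y
          rw [hlam'] at this
          exact mul_left_cancel₀ hμ0 this
        exact exists_ortho_image h2 Q hQ hcard hN M μ hsqμ hsa (fun x => by rw [hMM, hlam'])
      · have hlam' : (lam : F) = -μ := eq_neg_of_add_eq_zero_left h
        refine ⟨v0, hv0, ?_⟩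
        have := hadj v0 v0
        rw [hlam', QuadraticMap.polar_comm] at this
        have h3 : (2 * μ) * QuadraticMap.polar (⇑Q) v0 (M *ᵥ v0) = 0 := by linear_combination -this
        rcases mul_eq_zero.mp h3 with h' | h'
        · exact absurd h' (mul_ne_zero h2 hμ0)
        · exact h'
    obtain ⟨z, hz0, hzM⟩ := hz
    have hz' : Q (M *ᵥ z) ≠ 0 := by
      rw [mu_spec (⇑Q) g]; exact mul_ne_zero hμ0 hz0
    apply key (M *ᵥ z) z hz' hz0
    · have hlam0 : (lam : F) ≠ 0 := Units.ne_zero _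
      rw [hMM, reflectionMatrix_smul Q z hlam0]
      exact reflectionMatrix_comm Q hzM
    · exact theta_comm_refl h2 Q g hsqμ z hz0 hz'

end main

end Cfsg.Agent.Lib.Helper14_GraphCent
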