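import Mathlib
import Cfsg.Agent.Lib.Helper14_GraphCent
import Cfsg.Agent.Lib.Helper14_SplitClass

set_option autoImplicit false

/-!
The class of an involutory automorphism `γ = Phi g₀` (`g₀ ∉ G°`) of `PΩ(Q)` under `Phi(G°)` splits into one
or two `Inn`-classes, and into exactly two when `-1 ∈ Ω` (helper14).
-/

namespace Cfsg.Agent.Lib.Helper14_GraphSplit

open Cfsg Matrix Module Cfsg.Agent.Lib.Helper44_Orth Cfsg.Agent.Lib.Helper44_Refl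
  Cfsg.Agent.Lib.Helper44_Spinor Cfsg.Agent.Lib.Helper14_AutOmega Cfsg.Agent.Lib.Helper14_GOChars
  Cfsg.Agent.Lib.Helper14_CentOmega Cfsg.Agent.Lib.Helper14_OmegaIndex
  Cfsg.Agent.Lib.Helper14_GODihedral Cfsg.Agent.Lib.Helper14_InndiagQuot
  Cfsg.Agent.Lib.Helper14_GraphCent Cfsg.Agent.Lib.Helper14_SplitClass

variable {ι : Type} [Fintype ι] [DecidableEq ι] {F : Type*} [Field F] [Fintype F]

section

variable (h2 : (2 : F) ≠ 0) (Q : QuadraticForm F (ι → F))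
  (hQ : (QuadraticMap.polarBilin Q).Nondegenerate) (hn : 5 ≤ Fintype.card ι)
  (hne : ∃ v, Q v ≠ 0) {M : ℕ} (hcard : Fintype.card ι = 2 * M)

/-- `Inn ≤ Phi(G°)`. -/
theorem inn_le : Inn (POmega F (⇑Q)) ≤ (Gz h2 Q hQ hne hcard).map (Phi (⇑Q)) := by
  rw [inn_eq]
  apply Subgroup.map_mono
  intro x hx
  apply SO'_le_Gz h2 Q hQ hne hcard
  apply Subgroup.mem_sup_left
  obtain ⟨hx1, hx2⟩ := (mem_omegaGL_iff (⇑Q) _).mp (Subgroup.mem_subgroupOf.mp hx)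
  rw [omega_eq_inf h2 Q hQ, Subgroup.mem_inf] at hx2
  rw [mem_SO'_iff]
  exact ⟨hx1, (Cfsg.Agent.S0787.mem_SO_iff Q _).mp hx2.1⟩

/-- The subgroup `Inn · C(γ)` of `Phi(G°)`. -/
noncomputable abbrev Nγ (γ : MulAut (POmega F (⇑Q))) :
    Subgroup ↥((Gz h2 Q hQ hne hcard).map (Phi (⇑Q))) :=
  Nz h2 Q hQ hne hcard ⊔
    (Subgroup.centralizer {γ}).subgroupOf ((Gz h2 Q hQ hne hcard).map (Phi (⇑Q)))

theorem count_eq_index (γ : MulAut (POmega F (⇑Q))) :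
    splitClassCount ((Gz h2 Q hQ hne hcard).map (Phi (⇑Q))) (Inn (POmega F (⇑Q))) γ =
      (Nγ h2 Q hQ hne hcard γ).index :=
  splitClassCount_eq_index _ _ (inn_le h2 Q hQ hne hcard) inferInstance γ

/-- If the quotient has order two, the class splits into one or two classes. -/
theorem count_of_two (γ : MulAut (POmega F (⇑Q)))
    (hφ : ∃ φ : ↥((Gz h2 Q hQ hne hcard).map (Phi (⇑Q))) →* Multiplicative (ZMod 2),
      Function.Surjective φ ∧ φ.ker = Nz h2 Q hQ hne hcard) :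
    splitClassCount ((Gz h2 Q hQ hne hcard).map (Phi (⇑Q))) (Inn (POmega F (⇑Q))) γ = 1 ∨
    splitClassCount ((Gz h2 Q hQ hne hcard).map (Phi (⇑Q))) (Inn (POmega F (⇑Q))) γ = 2 := by
  obtain ⟨φ, hsurj, hker⟩ := hφ
  rw [count_eq_index]
  have hidx : (Nz h2 Q hQ hne hcard).index = 2 := by
    rw [← hker, Subgroup.index_ker, MonoidHom.range_eq_top.mpr hsurj, Subgroup.card_top,
      Nat.card_eq_fintype_card]
    rfl
  have hdvd := Subgroup.index_dvd_of_le (le_sup_left : Nz h2 Q hQ hne hcard ≤ Nγ h2 Q hQ hne hcard γ)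
  rw [hidx] at hdvd
  rcases (Nat.dvd_prime Nat.prime_two).mp hdvd with h | h
  · left; exact h
  · right; exact h

include hn in
/-- The centraliser of `γ = Phi g₀` in `Phi(G°)` is not contained in `Inn` (case `-1 ∈ Ω`). -/
theorem exists_centralizer_not_inn (hM : 3 ≤ M) (hneg : negOne Q ∈ Omega F (⇑Q))
    (g₀ : ↥(GO (⇑Q))) (hg₀ : g₀ ∉ Gz h2 Q hQ hne hcard)
    (hγ2 : Phi (⇑Q) g₀ * Phi (⇑Q) g₀ = 1) :
    ¬ Nγ h2 Q hQ hne hcard (Phi (⇑Q) g₀) ≤ Nz h2 Q hQ hne hcard := by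
  intro hle
  have hZ : Z' Q = (Phi (⇑Q)).ker := (ker_Phi Q hQ hn).symm
  have hsq : g₀ * g₀ ∈ Z' Q := by
    rw [hZ, MonoidHom.mem_ker, map_mul, hγ2]
  obtain ⟨c, hcSO, hθ, hcomm⟩ := exists_centralizing h2 Q hQ hcard hM hne g₀ hsq hg₀
  set c' : ↥(GO (⇑Q)) := Subgroup.inclusion (isometryGroup_le_GO (⇑Q)) c with hc'
  have hc'Gz : c' ∈ Gz h2 Q hQ hne hcard := by
    apply SO'_le_Gz h2 Q hQ hne hcard
    apply Subgroup.mem_sup_left
    rw [mem_SO'_iff]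
    exact ⟨c.2, (Cfsg.Agent.S0787.mem_SO_iff Q _).mp hcSO⟩
  set x : ↥((Gz h2 Q hQ hne hcard).map (Phi (⇑Q))) :=
    ⟨Phi (⇑Q) c', Subgroup.mem_map_of_mem _ hc'Gz⟩ with hx
  have hxC : x ∈ (Subgroup.centralizer {Phi (⇑Q) g₀}).subgroupOf
      ((Gz h2 Q hQ hne hcard).map (Phi (⇑Q))) := by
    rw [Subgroup.mem_subgroupOf, Subgroup.mem_centralizer_singleton_iff]
    show Phi (⇑Q) c' * Phi (⇑Q) g₀ = Phi (⇑Q) g₀ * Phi (⇑Q) c'
    rw [← map_mul, ← map_mul, hcomm]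
  have hxN : x ∈ Nz h2 Q hQ hne hcard := hle (Subgroup.mem_sup_right hxC)
  rw [Subgroup.mem_subgroupOf] at hxN
  have hInn : (Om' Q).map (Phi (⇑Q)) = Inn (POmega F (⇑Q)) := (inn_eq (⇑Q)).symm
  have hmem : c' ∈ Om' Q ⊔ Z' Q := by
    rw [hZ, ← Subgroup.comap_map_eq, Subgroup.mem_comap, hInn]
    exact hxN
  have hcΩ := mem_omega_of_mem_sup h2 Q hQ hn hneg c hmem
  rw [omega_eq_inf h2 Q hQ, Subgroup.mem_inf, MonoidHom.mem_ker] at hcΩ
  rw [hcΩ.2] at hθ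
  exact absurd hθ (by decide)

/-- `Inn · C(γ)` is not all of `Phi(G°)`: otherwise `PGO/Inn` would be abelian. -/
theorem nγ_ne_top {A : Type*} [CommGroup A]
    (g₀ : ↥(GO (⇑Q))) (hg₀ : g₀ ∉ Gz h2 Q hQ hne hcard)
    (hψ : ∃ ψ : ↥((Gz h2 Q hQ hne hcard).map (Phi (⇑Q))) →* A, ψ.ker = Nz h2 Q hQ hne hcard)
    (hD : ∃ φ : ↥(pgoAut F (⇑Q)) →* DihedralGroup 4, Function.Surjective φ ∧
      φ.ker = (Inn (POmega F (⇑Q))).subgroupOf (pgoAut F (⇑Q))) :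
    Nγ h2 Q hQ hne hcard (Phi (⇑Q) g₀) ≠ ⊤ := by
  intro htop
  set G := (Gz h2 Q hQ hne hcard).map (Phi (⇑Q)) with hG
  obtain ⟨ψ, hψker⟩ := hψ
  obtain ⟨φ, hφsurj, hφker⟩ := hD
  have hGP : G ≤ pgoAut F (⇑Q) := by
    rw [pgoAut_eq, MonoidHom.range_eq_map]
    exact Subgroup.map_mono le_top
  set incl : ↥G →* ↥(pgoAut F (⇑Q)) := Subgroup.inclusion hGP with hincl
  have hγP : Phi (⇑Q) g₀ ∈ pgoAut F (⇑Q) := by
    rw [pgoAut_eq]; exact ⟨g₀, rfl⟩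
  set x₀ : ↥(pgoAut F (⇑Q)) := ⟨Phi (⇑Q) g₀, hγP⟩ with hx₀
  -- elements of `Nz` die under `φ`
  have hkill : ∀ t : ↥G, t ∈ Nz h2 Q hQ hne hcard → φ (incl t) = 1 := by
    intro t ht
    rw [← MonoidHom.mem_ker, hφker, Subgroup.mem_subgroupOf]
    exact Subgroup.mem_subgroupOf.mp ht
  have claim1 : ∀ h : ↥G, Commute (φ (incl h)) (φ x₀) := by
    intro h
    have hh : h ∈ Nγ h2 Q hQ hne hcard (Phi (⇑Q) g₀) := by rw [htop]; trivial
    rw [Subgroup.mem_sup_of_normal_left] at hh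
    obtain ⟨t, ht, c, hc, rfl⟩ := hh
    rw [map_mul, map_mul, hkill t ht, one_mul]
    rw [Subgroup.mem_subgroupOf, Subgroup.mem_centralizer_singleton_iff] at hc
    have : incl c * x₀ = x₀ * incl c := Subtype.ext hc
    show φ (incl c) * φ x₀ = φ x₀ * φ (incl c)
    rw [← map_mul, ← map_mul, this]
  have claim2 : ∀ h₁ h₂ : ↥G, Commute (φ (incl h₁)) (φ (incl h₂)) := by
    intro h₁ h₂
    have hk : h₁ * h₂ * h₁⁻¹ * h₂⁻¹ ∈ Nz h2 Q hQ hne hcard := by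
      rw [← hψker, MonoidHom.mem_ker]
      simp only [map_mul, map_inv]
      rw [mul_comm (ψ h₁) (ψ h₂), mul_assoc (ψ h₂), mul_inv_cancel, mul_one, mul_inv_cancel]
    have := hkill _ hk
    simp only [map_mul, map_inv] at this
    show φ (incl h₁) * φ (incl h₂) = φ (incl h₂) * φ (incl h₁)
    calc φ (incl h₁) * φ (incl h₂)
        = (φ (incl h₁) * φ (incl h₂) * (φ (incl h₁))⁻¹ * (φ (incl h₂))⁻¹) *
            (φ (incl h₂) * φ (incl h₁)) := by group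
      _ = φ (incl h₂) * φ (incl h₁) := by rw [this, one_mul]
  have claim3 : ∀ y : ↥(pgoAut F (⇑Q)), ∃ h : ↥G, y = incl h ∨ y = x₀ * incl h := by
    intro y
    have hy : (y : MulAut (POmega F (⇑Q))) ∈ (Phi (⇑Q)).range := by
      rw [← pgoAut_eq]; exact y.2
    obtain ⟨g, hg⟩ := hy
    rcases Int.units_eq_one_or (sgnHom h2 Q hQ hne hcard g) with h | h
    · refine ⟨⟨Phi (⇑Q) g, Subgroup.mem_map_of_mem _ (MonoidHom.mem_ker.mpr h)⟩, Or.inl ?_⟩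
      exact Subtype.ext hg.symm
    · have h0 : sgnHom h2 Q hQ hne hcard g₀ = -1 := by
        rcases Int.units_eq_one_or (sgnHom h2 Q hQ hne hcard g₀) with h' | h'
        · exact absurd (MonoidHom.mem_ker.mpr h') hg₀
        · exact h'
      have hmem : g₀⁻¹ * g ∈ Gz h2 Q hQ hne hcard := by
        rw [MonoidHom.mem_ker, map_mul, map_inv, h, h0]
        rfl
      refine ⟨⟨Phi (⇑Q) (g₀⁻¹ * g), Subgroup.mem_map_of_mem _ hmem⟩, Or.inr ?_⟩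
      apply Subtype.ext
      show (y : MulAut (POmega F (⇑Q))) = Phi (⇑Q) g₀ * Phi (⇑Q) (g₀⁻¹ * g)
      rw [← map_mul, mul_inv_cancel_left, hg]
  -- `D₈` would be commutative
  have hcomm : ∀ d₁ d₂ : DihedralGroup 4, d₁ * d₂ = d₂ * d₁ := by
    intro d₁ d₂
    obtain ⟨y₁, rfl⟩ := hφsurj d₁
    obtain ⟨y₂, rfl⟩ := hφsurj d₂
    obtain ⟨h₁, hy₁⟩ := claim3 y₁
    obtain ⟨h₂, hy₂⟩ := claim3 y₂
    have c12 := claim2 h₁ h₂
    have c1 := claim1 h₁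
    have c2 := claim1 h₂
    rcases hy₁ with rfl | rfl <;> rcases hy₂ with rfl | rfl
    · exact c12
    · rw [map_mul]
      exact (c1.mul_right c12 : Commute _ _)
    · rw [map_mul]
      exact (c2.symm.mul_left c12 : Commute _ _)
    · rw [map_mul, map_mul]
      exact (((Commute.refl (φ x₀)).mul_right c2.symm).mul_left (c1.mul_right c12) : Commute _ _)
  have := hcomm (DihedralGroup.r 1) (DihedralGroup.sr 0)
  revert this
  decide

include hn in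
/-- **Case `-1 ∈ Ω`**: the class of `γ = Phi g₀` under `Phi(G°)` splits into exactly two `Inn`-classes. -/
theorem count_eq_two {A : Type*} [CommGroup A] (hA : Nat.card A = 4) (hM : 3 ≤ M)
    (hneg : negOne Q ∈ Omega F (⇑Q))
    (g₀ : ↥(GO (⇑Q))) (hg₀ : g₀ ∉ Gz h2 Q hQ hne hcard)
    (hγ2 : Phi (⇑Q) g₀ * Phi (⇑Q) g₀ = 1)
    (hψ : ∃ ψ : ↥((Gz h2 Q hQ hne hcard).map (Phi (⇑Q))) →* A, Function.Surjective ψ ∧
      ψ.ker = Nz h2 Q hQ hne hcard)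
    (hD : ∃ φ : ↥(pgoAut F (⇑Q)) →* DihedralGroup 4, Function.Surjective φ ∧
      φ.ker = (Inn (POmega F (⇑Q))).subgroupOf (pgoAut F (⇑Q))) :
    splitClassCount ((Gz h2 Q hQ hne hcard).map (Phi (⇑Q))) (Inn (POmega F (⇑Q)))
      (Phi (⇑Q) g₀) = 2 := by
  rw [count_eq_index]
  obtain ⟨ψ, hψsurj, hψker⟩ := hψ
  have hidx : (Nz h2 Q hQ hne hcard).index = 4 := by
    rw [← hψker, Subgroup.index_ker, MonoidHom.range_eq_top.mpr hψsurj, Subgroup.card_top, hA]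
  have hle : Nz h2 Q hQ hne hcard ≤ Nγ h2 Q hQ hne hcard (Phi (⇑Q) g₀) := le_sup_left
  have h1 := nγ_ne_top h2 Q hQ hne hcard g₀ hg₀ ⟨ψ, hψker⟩ hD
  have h3 := exists_centralizer_not_inn h2 Q hQ hn hne hcard hM hneg g₀ hg₀ hγ2
  have hmul := Subgroup.relIndex_mul_index hle
  rw [hidx] at hmul
  have hdvd : (Nγ h2 Q hQ hne hcard (Phi (⇑Q) g₀)).index ∣ 4 := Dvd.intro_left _ hmul
  have hne1 : (Nγ h2 Q hQ hne hcard (Phi (⇑Q) g₀)).index ≠ 1 := by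
    rw [Ne, Subgroup.index_eq_one]; exact h1
  have hne4 : (Nγ h2 Q hQ hne hcard (Phi (⇑Q) g₀)).index ≠ 4 := by
    intro h4
    rw [h4] at hmul
    have : (Nz h2 Q hQ hne hcard).relIndex (Nγ h2 Q hQ hne hcard (Phi (⇑Q) g₀)) = 1 := by omega
    rw [Subgroup.relIndex_eq_one] at this
    exact h3 this
  have hle4 := Nat.le_of_dvd (by norm_num) hdvd
  interval_cases h : (Nγ h2 Q hQ hne hcard (Phi (⇑Q) g₀)).index
  · simp at hdvd
  · exact absurd rfl hne1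
  · rfl
  · norm_num at hdvd
  · exact absurd rfl hne4

end

end Cfsg.Agent.Lib.Helper14_GraphSplit
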