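import Mathlib
import Cfsg.Agent.Lib.Helper14_InndiagMain

set_option autoImplicit false

/-!
Base change of similarities of a quadratic form to an extension field, and quadratic extensions of finite
fields of odd order (helper14).
-/

namespace Cfsg.Agent.Lib.Helper14_BaseChange

open Cfsg Matrix Module Polynomial Cfsg.Agent.Lib.Helper44_Orth Cfsg.Agent.Lib.Helper14_AutOmega
  Cfsg.Agent.Lib.Helper14_GOChars Cfsg.Agent.Lib.Helper44_StdForms

section sim

variable {ι : Type} [Fintype ι] [DecidableEq ι] {F K : Type*} [Field F] [Field K] (f : F →+* K)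

/-- A similarity of `Q` over `F`, read over `K`, is a similarity of any form `Q'` over `K` with the same Gram
matrix (characteristic not two). -/
theorem sim_map (h2 : (2 : K) ≠ 0) (Q : QuadraticForm F (ι → F)) (Q' : QuadraticForm K (ι → K))
    (hgram : ∀ i j, QuadraticMap.polar (⇑Q') (Pi.single i 1) (Pi.single j 1) =
      f (QuadraticMap.polar (⇑Q) (Pi.single i 1) (Pi.single j 1)))
    (M : Matrix ι ι F) (μ : F) (hM : ∀ v, Q (M *ᵥ v) = μ * Q v) (v : ι → K) :
    Q' (M.map f *ᵥ v) = f μ * Q' v := by
  set B : LinearMap.BilinForm F (ι → F) := QuadraticMap.polarBilin Q with hB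
  set B' : LinearMap.BilinForm K (ι → K) := QuadraticMap.polarBilin Q' with hB'
  have hA : LinearMap.BilinForm.toMatrix' B' = (LinearMap.BilinForm.toMatrix' B).map f := by
    ext i j
    simp only [LinearMap.BilinForm.toMatrix'_apply, Matrix.map_apply, hB, hB',
      QuadraticMap.polarBilin_apply_apply]
    exact hgram i j
  have hcomp : B.comp (Matrix.toLin' M) (Matrix.toLin' M) = μ • B := by
    refine LinearMap.ext₂ (fun u w => ?_)
    simp only [LinearMap.BilinForm.comp_apply, Matrix.toLin'_apply, LinearMap.smul_apply, smul_eq_mul,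
      hB, QuadraticMap.polarBilin_apply_apply]
    unfold QuadraticMap.polar
    rw [← Matrix.mulVec_add, hM, hM, hM]
    ring
  have h1 := congrArg LinearMap.BilinForm.toMatrix' hcomp
  rw [LinearMap.BilinForm.toMatrix'_comp, LinearMap.toMatrix'_toLin', map_smul] at h1
  have h1' : (M.map f)ᵀ * LinearMap.BilinForm.toMatrix' B' * (M.map f) =
      f μ • LinearMap.BilinForm.toMatrix' B' := by
    rw [hA, ← Matrix.transpose_map, ← Matrix.map_mul, ← Matrix.map_mul, h1]
    ext i j
    simp [Matrix.map_apply, Matrix.smul_apply]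
  have hcomp' : B'.comp (Matrix.toLin' (M.map f)) (Matrix.toLin' (M.map f)) = f μ • B' := by
    apply LinearMap.BilinForm.toMatrix'.injective
    rw [LinearMap.BilinForm.toMatrix'_comp, LinearMap.toMatrix'_toLin', map_smul]
    exact h1'
  have h3 := LinearMap.congr_fun₂ hcomp' v v
  simp only [LinearMap.BilinForm.comp_apply, Matrix.toLin'_apply, LinearMap.smul_apply, smul_eq_mul,
    hB', QuadraticMap.polarBilin_apply_apply, QuadraticMap.polar_self] at h3
  have h4 : (2 : K) * (Q' (M.map f *ᵥ v) - f μ * Q' v) = 0 := by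
    have e1 : ∀ x : K, (2 : ℕ) • x = 2 * x := fun x => by simp [two_mul, two_smul]
    rw [e1, e1] at h3
    linear_combination h3
  rcases mul_eq_zero.mp h4 with h | h
  · exact absurd h h2
  · exact sub_eq_zero.mp h

end sim

section gram

variable {F K : Type*} [Field F] [Field K] (f : F →+* K) (m : ℕ)

theorem gram_minus_map (a b : F) (i j : (Fin m ⊕ Fin m) ⊕ Fin 2) :
    QuadraticMap.polar (Cfsg.quadFormMinus m K (f a) (f b)) (Pi.single i 1) (Pi.single j 1) =
      f (QuadraticMap.polar (Cfsg.quadFormMinus m F a b) (Pi.single i 1) (Pi.single j 1)) := by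
  have hF := congrFun (congrFun (gram_quadFormMinus (F := F) (m := m) a b) i) j
  have hK := congrFun (congrFun (gram_quadFormMinus (F := K) (m := m) (f a) (f b)) i) j
  simp only [Matrix.of_apply] at hF hK
  rw [hF, hK]
  rcases i with (i | i) | i <;> rcases j with (j | j) | j <;>
    simp [Matrix.one_apply, apply_ite f]
  all_goals (fin_cases i <;> fin_cases j <;> simp [map_ofNat])

end gram

end Cfsg.Agent.Lib.Helper14_BaseChange
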