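import Mathlib
import Cfsg.Agent.Lib.Helper14_BaseChange

set_option autoImplicit false

/-!
Class-preserving similarities of the minus-type form: read over a quadratic extension, a similarity `g`
preserves the two classes of maximal totally singular subspaces iff `det g = μ(g)^(m+1)` (helper14).
-/

namespace Cfsg.Agent.Lib.Helper14_InndiagMinus

open Cfsg Matrix Module Polynomial Cfsg.Agent.Lib.Helper44_Orth Cfsg.Agent.Lib.Helper14_AutOmega
  Cfsg.Agent.Lib.Helper14_GOChars Cfsg.Agent.Lib.Helper44_StdForms Cfsg.Agent.Lib.Helper44_FinSq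
  Cfsg.Agent.Lib.Helper14_Classes Cfsg.Agent.Lib.Helper14_SingClasses
  Cfsg.Agent.Lib.Helper14_BaseChange Cfsg.Agent.Lib.Helper14_GODelta

theorem two_ne_zero_ext {F K : Type*} [Field F] [Field K] [Algebra F K] (h2 : (2 : F) ≠ 0) :
    (2 : K) ≠ 0 := by
  intro h2K
  have : algebraMap F K 2 = 0 := by rw [map_ofNat]; exact h2K
  rw [map_eq_zero] at this
  exact h2 this

/-- Every element of a finite field of odd order is a square in a quadratic extension. -/
theorem isSquare_algebraMap_of_finrank_two {F K : Type*} [Field F] [Fintype F] [Field K] [Algebra F K]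
    (hodd : Odd (Fintype.card F)) (hfr : finrank F K = 2) (x : F) : IsSquare (algebraMap F K x) := by
  classical
  by_cases hx : x = 0
  · rw [hx, map_zero]; exact ⟨0, by simp⟩
  have : Module.Finite F K := Module.finite_of_finrank_pos (by rw [hfr]; norm_num)
  have : Finite K := Module.finite_of_finite F
  let _ : Fintype K := Fintype.ofFinite K
  have hcardK : Fintype.card K = Fintype.card F ^ 2 := by
    rw [Module.card_eq_pow_finrank (K := F) (V := K), hfr]
  have hx1 : x ^ (Fintype.card F - 1) = 1 := FiniteField.pow_card_sub_one_eq_one x hx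
  have hfx : algebraMap F K x ≠ 0 := by
    rwa [Ne, map_eq_zero]
  have hcharK : ringChar K ≠ 2 :=
    ringChar_ne_two_of_two_ne_zero (two_ne_zero_ext (F := F) (two_ne_zero_of_odd_card hodd))
  rw [FiniteField.isSquare_iff hcharK hfx, hcardK]
  obtain ⟨k, hk⟩ := hodd
  have : Fintype.card F ^ 2 / 2 = (Fintype.card F - 1) * (k + 1) := by
    rw [hk]
    have : (2 * k + 1) ^ 2 = 2 * (2 * k * (k + 1)) + 1 := by ring
    rw [this]
    have : (2 * (2 * k * (k + 1)) + 1) / 2 = 2 * k * (k + 1) := by omega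
    rw [this]
    simp
  rw [this, pow_mul, ← map_pow, hx1, map_one, one_pow]

universe u in
/-- A finite field of odd order has a quadratic extension (in the same universe). -/
theorem exists_quadratic_ext {F : Type u} [Field F] [Fintype F] (hodd : Odd (Fintype.card F)) :
    ∃ (K : Type u) (_ : Field K) (_ : Algebra F K), Module.finrank F K = 2 := by
  obtain ⟨ε, hε⟩ := FiniteField.exists_nonsquare
    (ringChar_ne_two_of_two_ne_zero (two_ne_zero_of_odd_card hodd))
  have hirr : Irreducible (X ^ 2 - C ε : F[X]) := by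
    rw [X_pow_sub_C_irreducible_iff_of_prime Nat.prime_two]
    intro b hb
    exact hε ⟨b, by rw [← hb, sq]⟩
  have : Fact (Irreducible (X ^ 2 - C ε : F[X])) := ⟨hirr⟩
  refine ⟨AdjoinRoot (X ^ 2 - C ε : F[X]), inferInstance, inferInstance, ?_⟩
  rw [(AdjoinRoot.powerBasis hirr.ne_zero).finrank, AdjoinRoot.powerBasis_dim,
    natDegree_X_pow_sub_C]

section minus

variable {F : Type*} [Field F] [Fintype F] {K : Type*} [Field K] [Algebra F K] (m : ℕ) (a b : F)

theorem card_minus : Fintype.card ((Fin m ⊕ Fin m) ⊕ Fin 2) = 2 * (m + 1) := by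
  rw [Fintype.card_sum, Fintype.card_sum, Fintype.card_fin, Fintype.card_fin]; ring

/-- Over a quadratic extension `K`, a similarity `g` of the minus-type form preserves the classes iff
`det g = μ(g)^(m+1)`. -/
theorem preserves_minus_K_iff (hodd : Odd (Fintype.card F)) (hfr : finrank F K = 2)
    (hab : ∀ z₁ z₂ : F, z₁ ^ 2 + a * z₁ * z₂ + b * z₂ ^ 2 = 0 → z₁ = 0 ∧ z₂ = 0)
    (g : ↥(GO (⇑(qfMinus m F a b)))) :
    PreservesSingularClasses (quadFormMinus m K (algebraMap F K a) (algebraMap F K b))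
      (((g : GL ((Fin m ⊕ Fin m) ⊕ Fin 2) F) : Matrix ((Fin m ⊕ Fin m) ⊕ Fin 2)
        ((Fin m ⊕ Fin m) ⊕ Fin 2) F).map (algebraMap F K)) ↔
    ((g : GL ((Fin m ⊕ Fin m) ⊕ Fin 2) F) : Matrix ((Fin m ⊕ Fin m) ⊕ Fin 2)
        ((Fin m ⊕ Fin m) ⊕ Fin 2) F).det = ((mu (⇑(qfMinus m F a b)) g : Fˣ) : F) ^ (m + 1) := by
  classical
  rw [← coe_qfMinus]
  set f : F →+* K := algebraMap F K with hf
  set Q' := qfMinus m K (f a) (f b) with hQ'def
  have h2F : (2 : F) ≠ 0 := two_ne_zero_of_odd_card hodd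
  have h2K : (2 : K) ≠ 0 := two_ne_zero_ext (F := F) h2F
  have hfin : Module.Finite F K := Module.finite_of_finrank_pos (by rw [hfr]; norm_num)
  have hfinK : Finite K := Module.finite_of_finite F
  have hdisc : (4 * b - a ^ 2 : F) ≠ 0 :=
    Cfsg.Agent.Lib.Helper14_POmegaSimple.disc_ne_zero a b hab
  have hdet' : (Matrix.of (fun i j : (Fin m ⊕ Fin m) ⊕ Fin 2 =>
      QuadraticMap.polar (⇑Q') (Pi.single i 1) (Pi.single j 1))).det =
      (-1) ^ m * f (4 * b - a ^ 2) := by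
    rw [hQ'def, coe_qfMinus, det_gram_quadFormMinus]
    simp [map_sub, map_mul, map_pow, map_ofNat]
  have hQ' : (QuadraticMap.polarBilin Q').Nondegenerate := by
    apply Cfsg.Agent.Lib.Helper14_POmegaSimple.nondeg_of_gram_det
    rw [hdet']
    refine mul_ne_zero (pow_ne_zero _ (by simp)) ?_
    rwa [Ne, map_eq_zero]
  have hcard := card_minus m
  have hne' : ∃ v, Q' v ≠ 0 := by
    refine ⟨(1 : K) • Pi.single (Sum.inr 0) 1 + (0 : K) • Pi.single (Sum.inr 1) 1, ?_⟩
    rw [hQ'def, coe_qfMinus, quadFormMinus_bin]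
    simp
  -- the base change of `g`
  set M : Matrix ((Fin m ⊕ Fin m) ⊕ Fin 2) ((Fin m ⊕ Fin m) ⊕ Fin 2) F :=
    ((g : GL ((Fin m ⊕ Fin m) ⊕ Fin 2) F) : Matrix ((Fin m ⊕ Fin m) ⊕ Fin 2)
        ((Fin m ⊕ Fin m) ⊕ Fin 2) F) with hMdef
  have hsim : ∀ v, Q' ((M.map f) *ᵥ v) =
      f ((mu (⇑(qfMinus m F a b)) g : Fˣ) : F) * Q' v := by
    intro v
    apply sim_map f h2K (qfMinus m F a b) Q' ?_ _ _ (mu_spec (⇑(qfMinus m F a b)) g) v
    intro i j
    rw [hQ'def, coe_qfMinus, coe_qfMinus]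
    exact gram_minus_map f m a b i j
  set g' : ↥(GO (⇑Q')) := ⟨Matrix.GeneralLinearGroup.map f (g : GL ((Fin m ⊕ Fin m) ⊕ Fin 2) F),
    ⟨Units.map f.toMonoidHom (mu (⇑(qfMinus m F a b)) g), fun v => hsim v⟩⟩ with hg'
  have hg'coe : ((g' : GL ((Fin m ⊕ Fin m) ⊕ Fin 2) K) :
      Matrix ((Fin m ⊕ Fin m) ⊕ Fin 2) ((Fin m ⊕ Fin m) ⊕ Fin 2) K) = M.map f := rfl
  have hmu' : mu (⇑Q') g' = Units.map f.toMonoidHom (mu (⇑(qfMinus m F a b)) g) :=
    mu_eq (⇑Q') hne' g' _ (fun v => hsim v)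
  -- a maximal totally singular subspace
  obtain ⟨X, hX, hXm⟩ := exists_mts Q' hQ' hcard h2K (by omega) (by
    rw [hdet']
    have e : (-1 : K) ^ (m + 1) * ((-1) ^ m * f (4 * b - a ^ 2)) = f (a ^ 2 - 4 * b) := by
      have h1 : ((-1 : K) ^ m) * (-1) ^ m = 1 := by
        rw [← mul_pow]; simp
      rw [pow_succ, map_sub, map_sub]
      linear_combination (f (a ^ 2) - f (4 * b)) * h1
    rw [e]
    exact isSquare_algebraMap_of_finrank_two hodd hfr (a ^ 2 - 4 * b))
  -- a scalar with the same multiplier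
  obtain ⟨r, hr⟩ := isSquare_algebraMap_of_finrank_two hodd hfr ((mu (⇑(qfMinus m F a b)) g : Fˣ) : F)
  have hr0 : r ≠ 0 := by
    rintro rfl
    rw [mul_zero, map_eq_zero] at hr
    exact Units.ne_zero _ hr
  set s : ↥(GO (⇑Q')) := scalarGO Q' (Units.mk0 r hr0) with hs
  have hsX : gmap ((s : GL ((Fin m ⊕ Fin m) ⊕ Fin 2) K) :
      Matrix ((Fin m ⊕ Fin m) ⊕ Fin 2) ((Fin m ⊕ Fin m) ⊕ Fin 2) K) X = X := by
    rw [hs, scalarGO_coe, gmap, Units.val_mk0]
    have : Matrix.toLin' (r • (1 : Matrix ((Fin m ⊕ Fin m) ⊕ Fin 2) ((Fin m ⊕ Fin m) ⊕ Fin 2) K)) =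
        r • LinearMap.id := by
      rw [map_smul, Matrix.toLin'_one]
    rw [this, Submodule.map_smul _ _ _ hr0, Submodule.map_id]
  have hμs : mu (⇑Q') s = mu (⇑Q') g' := by
    rw [hs, mu_scalarGO Q' hne', hmu']
    apply Units.ext
    rw [Units.val_mul, Units.val_mk0, Units.coe_map]
    exact hr.symm
  have hdets : ((s : GL ((Fin m ⊕ Fin m) ⊕ Fin 2) K) :
      Matrix ((Fin m ⊕ Fin m) ⊕ Fin 2) ((Fin m ⊕ Fin m) ⊕ Fin 2) K).det =
      ((mu (⇑Q') s : Kˣ) : K) ^ (m + 1) := by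
    rw [hs, det_scalarGO, mu_scalarGO Q' hne', hcard, Units.val_mul, Units.val_mk0, pow_mul, sq]
  have key := preserves_iff_of_factor Q' hQ' hcard h2K hne' hX hXm g' s hsX hμs hdets
  rw [hg'coe] at key
  rw [key, hmu', Units.coe_map]
  have hdetmap : (M.map f).det = f M.det := by
    rw [RingHom.map_det]; rfl
  rw [hdetmap]
  change f _ = (f _) ^ (m + 1) ↔ _
  rw [← map_pow]
  exact f.injective.eq_iff

end minus

section minus2

universe u

variable {F : Type u} [Field F] [Fintype F] (m : ℕ) (a b : F)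

/-- A similarity `g` of the minus-type form preserves the classes (over a quadratic extension) iff
`det g = μ(g)^(m+1)`. -/
theorem preserves_minus_iff (hodd : Odd (Fintype.card F))
    (hab : ∀ z₁ z₂ : F, z₁ ^ 2 + a * z₁ * z₂ + b * z₂ ^ 2 = 0 → z₁ = 0 ∧ z₂ = 0)
    (g : ↥(GO (⇑(qfMinus m F a b)))) :
    PreservesSingularClassesMinus m a b
      ((g : GL ((Fin m ⊕ Fin m) ⊕ Fin 2) F) : Matrix ((Fin m ⊕ Fin m) ⊕ Fin 2)
        ((Fin m ⊕ Fin m) ⊕ Fin 2) F) ↔
    ((g : GL ((Fin m ⊕ Fin m) ⊕ Fin 2) F) : Matrix ((Fin m ⊕ Fin m) ⊕ Fin 2)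
        ((Fin m ⊕ Fin m) ⊕ Fin 2) F).det = ((mu (⇑(qfMinus m F a b)) g : Fˣ) : F) ^ (m + 1) := by
  constructor
  · rintro ⟨K, instK, instA, hfr, hP⟩
    exact (preserves_minus_K_iff m a b hodd hfr hab g).mp hP
  · intro h
    obtain ⟨K, instK, instA, hfr⟩ := exists_quadratic_ext hodd
    exact ⟨K, instK, instA, hfr, (preserves_minus_K_iff m a b hodd hfr hab g).mpr h⟩

omit [Fintype F] in
theorem det_dBinMat (x y : F) : (dBinMat a b x y).det = -(x ^ 2 + a * x * y + b * y ^ 2) := by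
  rw [dBinMat, Matrix.det_fin_two_of]
  ring

omit [Fintype F] in
theorem det_dMinusMat (x y : F) : (dMinusMat m a b x y).det =
    (-1) ^ (m + 1) * (x ^ 2 + a * x * y + b * y ^ 2) ^ (m + 1) := by
  rw [dMinusMat, Matrix.det_fromBlocks_zero₂₁, Cfsg.Agent.Lib.Helper14_InndiagMain.det_dPlusMat,
    det_dBinMat]
  ring

end minus2

end Cfsg.Agent.Lib.Helper14_InndiagMinus
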