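import Mathlib

/-!
# Characteristic two: the absolute trace and anisotropic binary forms (helper14)

`sT c k = ∑_{i<k} c^(2^i)`.  Over a field with `2^f` elements, if `z₁² + a z₁ z₂ + b z₂²` is
anisotropic then `a ≠ 0` and `sT (b / a²) f = 1`.
-/

set_option autoImplicit false

namespace Cfsg.Agent.Lib.Helper14_Char2Trace

open Polynomial

variable {F : Type*} [Field F]

/-- Partial sums of the absolute trace. -/
def sT (c : F) (k : ℕ) : F := ∑ i ∈ Finset.range k, c ^ (2 ^ i)

theorem sT_zero (c : F) : sT c 0 = 0 := by simp [sT]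

theorem sT_succ_last (c : F) (k : ℕ) : sT c (k + 1) = sT c k + c ^ (2 ^ k) := by
  rw [sT, Finset.sum_range_succ]
  rfl

section char2

variable [CharP F 2]

theorem sT_sq (c : F) (k : ℕ) : (sT c k) ^ 2 = ∑ i ∈ Finset.range k, c ^ (2 ^ (i + 1)) := by
  rw [sT, sum_pow_char]
  apply Finset.sum_congr rfl
  intro i _
  rw [← pow_mul, ← pow_succ]

theorem sT_succ (c : F) (k : ℕ) : sT c (k + 1) = (sT c k) ^ 2 + c := by
  rw [sT_sq, sT, Finset.sum_range_succ', pow_zero, pow_one]

theorem sT_add (x y : F) (k : ℕ) : sT (x + y) k = sT x k + sT y k := by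
  rw [sT, sT, sT, ← Finset.sum_add_distrib]
  apply Finset.sum_congr rfl
  intro i _
  haveI : Fact (Nat.Prime 2) := Nat.fact_prime_two
  exact add_pow_char_pow x y 2 i

variable [Fintype F]

theorem sT_sq_self {f : ℕ} (hF : Fintype.card F = 2 ^ f) (c : F) : (sT c f) ^ 2 = sT c f := by
  have h1 := sT_succ c f
  rw [sT_succ_last, ← hF, FiniteField.pow_card] at h1
  exact (add_right_cancel h1).symm

theorem sT_wp {f : ℕ} (hF : Fintype.card F = 2 ^ f) (t : F) : sT (t ^ 2 + t) f = 0 := by
  have h1 : sT (t ^ 2) f = (sT t f) ^ 2 := by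
    rw [sT_sq, sT]
    apply Finset.sum_congr rfl
    intro i _
    rw [← pow_mul, pow_succ']
  rw [sT_add, h1, sT_sq_self hF]
  exact CharTwo.add_self_eq_zero _

/-- If the trace of `c` vanishes then `c = t² + t`. -/
theorem exists_wp {f : ℕ} (hf : 1 ≤ f) (hF : Fintype.card F = 2 ^ f) (c : F)
    (hc : sT c f = 0) : ∃ t : F, t ^ 2 + t = c := by
  classical
  by_contra hcon
  push Not at hcon
  -- the polynomial
  obtain ⟨P, hP⟩ : ∃ P : F[X], P = ∑ i ∈ Finset.range f, (X : F[X]) ^ (2 ^ i) := ⟨_, rfl⟩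
  have heval : ∀ x : F, P.eval x = sT x f := by
    intro x
    rw [hP, eval_finsetSum, sT]
    apply Finset.sum_congr rfl
    intro i _
    rw [eval_pow, eval_X]
  have hdeg : P.natDegree ≤ 2 ^ (f - 1) := by
    rw [hP]
    apply natDegree_sum_le_of_forall_le
    intro i hi
    rw [natDegree_X_pow]
    exact Nat.pow_le_pow_right (by norm_num) (by rw [Finset.mem_range] at hi; omega)
  have hP0 : P ≠ 0 := by
    intro h0
    have h1 : P.coeff (2 ^ (f - 1)) = 1 := by
      rw [hP, finsetSum_coeff, Finset.sum_eq_single (f - 1)]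
      · rw [coeff_X_pow, if_pos rfl]
      · intro i _ hi
        rw [coeff_X_pow, if_neg]
        intro h2
        exact hi (Nat.pow_right_injective (le_refl 2) h2).symm
      · intro h2
        exfalso
        apply h2
        rw [Finset.mem_range]
        omega
    rw [h0, coeff_zero] at h1
    exact zero_ne_one h1
  -- the zero set of the trace
  set Z : Finset F := Finset.univ.filter (fun x => sT x f = 0) with hZ
  have hZcard : Z.card ≤ 2 ^ (f - 1) := by
    apply (card_le_degree_of_subset_roots (p := P) (Z := Z) ?_).trans hdeg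
    intro x hx
    rw [Finset.mem_val, hZ, Finset.mem_filter] at hx
    rw [mem_roots hP0, IsRoot, heval]
    exact hx.2
  -- the image of `t ↦ t² + t`
  set I : Finset F := Finset.univ.image (fun t : F => t ^ 2 + t) with hI
  have hIZ : insert c I ⊆ Z := by
    intro x hx
    rw [hZ, Finset.mem_filter]
    refine ⟨Finset.mem_univ _, ?_⟩
    rcases Finset.mem_insert.mp hx with rfl | hx
    · exact hc
    · rw [hI, Finset.mem_image] at hx
      obtain ⟨t, -, rfl⟩ := hx
      exact sT_wp hF t
  have hcI : c ∉ I := by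
    rw [hI, Finset.mem_image]
    rintro ⟨t, -, ht⟩
    exact hcon t ht
  have h1 : I.card + 1 ≤ 2 ^ (f - 1) := by
    rw [← Finset.card_insert_of_notMem hcI]
    exact (Finset.card_le_card hIZ).trans hZcard
  have h2 : (Finset.univ : Finset F).card ≤ 2 * I.card := by
    apply Finset.card_le_mul_card_image
    intro y _
    by_cases hy : ∃ t : F, t ^ 2 + t = y
    · obtain ⟨t, rfl⟩ := hy
      have hsub : (Finset.univ.filter fun x : F => x ^ 2 + x = t ^ 2 + t) ⊆ {t, t + 1} := by
        intro x hx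
        rw [Finset.mem_filter] at hx
        rw [Finset.mem_insert, Finset.mem_singleton]
        have h3 : (x + t) * (x + t + 1) = 0 := by
          have h4 : (x + t) * (x + t + 1) = (x ^ 2 + x) + (t ^ 2 + t) + 2 * (x * t) := by ring
          rw [h4, hx.2, CharTwo.add_self_eq_zero, CharTwo.two_eq_zero, zero_mul, add_zero]
        rcases mul_eq_zero.mp h3 with h5 | h5
        · left
          exact CharTwo.add_eq_zero.mp h5
        · right
          rw [add_assoc] at h5
          exact CharTwo.add_eq_zero.mp h5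
      exact (Finset.card_le_card hsub).trans Finset.card_le_two
    · have : (Finset.univ.filter fun x : F => x ^ 2 + x = y) = ∅ := by
        rw [Finset.eq_empty_iff_forall_notMem]
        intro x hx
        rw [Finset.mem_filter] at hx
        exact hy ⟨x, hx.2⟩
      rw [this, Finset.card_empty]
      exact Nat.zero_le 2
  rw [Finset.card_univ, hF] at h2
  obtain ⟨e, rfl⟩ : ∃ e, f = e + 1 := ⟨f - 1, by omega⟩
  rw [Nat.add_sub_cancel] at h1
  rw [pow_succ] at h2
  omega

/-- Anisotropic binary forms in characteristic two. -/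
theorem aniso {f : ℕ} (hf : 1 ≤ f) (hF : Fintype.card F = 2 ^ f) (a b : F)
    (hab : ∀ z₁ z₂ : F, z₁ ^ 2 + a * z₁ * z₂ + b * z₂ ^ 2 = 0 → z₁ = 0 ∧ z₂ = 0) :
    a ≠ 0 ∧ sT (b / a ^ 2) f = 1 := by
  have ha : a ≠ 0 := by
    rintro rfl
    have hch : ringChar F = 2 := ringChar.eq F 2
    obtain ⟨r, hr⟩ := FiniteField.isSquare_of_char_two hch b
    have := (hab r 1 (by
      have h4 : r ^ 2 + 0 * r * 1 + r * r * 1 ^ 2 = r * r + r * r := by ring
      rw [hr, h4]
      exact CharTwo.add_self_eq_zero _)).2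
    exact one_ne_zero this
  refine ⟨ha, ?_⟩
  have h1 := sT_sq_self hF (b / a ^ 2)
  have h2 : sT (b / a ^ 2) f * (sT (b / a ^ 2) f - 1) = 0 := by
    rw [mul_sub, mul_one, ← pow_two, h1, sub_self]
  rcases mul_eq_zero.mp h2 with h3 | h3
  · exfalso
    obtain ⟨t, ht⟩ := exists_wp hf hF _ h3
    have := (hab (a * t) 1 (by
      have h4 : (a * t) ^ 2 + a * (a * t) * 1 + b * 1 ^ 2 = a ^ 2 * (t ^ 2 + t) + b := by ring
      rw [h4, ht]
      rw [mul_div_cancel₀ _ (pow_ne_zero 2 ha)]
      exact CharTwo.add_self_eq_zero b)).2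
    exact one_ne_zero this
  · exact sub_eq_zero.mp h3

end char2

end Cfsg.Agent.Lib.Helper14_Char2Trace
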