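import Mathlib

/-!
# A group with a subgroup of order two and cyclic quotient (helper14)

`isCyclic_of_ext`: if `κ : G →* C` has kernel of order two, `κ x` generates `C`, `(κ x) ^ f = 1` and
either `f` is odd or `x ^ f ≠ 1`, then `G` is cyclic.
-/

set_option autoImplicit false

namespace Cfsg.Agent.Lib.Helper14_CyclicExt

variable {G C : Type*} [Group G] [Group C]

/-- The elements of a normal subgroup of order two. -/
theorem exists_of_card_two (N : Subgroup G) [N.Normal] (hN : Nat.card N = 2) :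
    ∃ n0 : G, n0 ∈ N ∧ n0 ≠ 1 ∧ n0 * n0 = 1 ∧ (∀ n ∈ N, n = 1 ∨ n = n0) ∧
      ∀ g : G, g * n0 = n0 * g := by
  obtain ⟨⟨n0, hn0N⟩, hn0, huniq⟩ := (Nat.card_eq_two_iff' (1 : N)).mp hN
  have hn01 : n0 ≠ 1 := fun h => hn0 (Subtype.ext h)
  have hall : ∀ n ∈ N, n = 1 ∨ n = n0 := by
    intro n hn
    by_cases h1 : n = 1
    · exact Or.inl h1
    · right
      have := huniq ⟨n, hn⟩ (fun h => h1 (congrArg Subtype.val h))
      exact congrArg Subtype.val this
  refine ⟨n0, hn0N, hn01, ?_, hall, ?_⟩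
  · rcases hall _ (N.mul_mem hn0N hn0N) with h | h
    · exact h
    · exfalso
      exact hn01 (mul_left_cancel (a := n0) (by rw [h, mul_one]))
  · intro g
    have hmem : g * n0 * g⁻¹ ∈ N := Subgroup.Normal.conj_mem inferInstance n0 hn0N g
    rcases hall _ hmem with h | h
    · exfalso
      apply hn01
      have : g * n0 = g := by
        have := congrArg (· * g) h
        simpa using this
      exact mul_left_cancel (a := g) (by rw [this, mul_one])
    · have := congrArg (· * g) h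
      simpa using this

theorem isCyclic_of_ext (κ : G →* C) (hker : Nat.card κ.ker = 2) (x : G) (f : ℕ)
    (hgen : ∀ c : C, ∃ k : ℕ, c = (κ x) ^ k) (hxf : (κ x) ^ f = 1)
    (h : Odd f ∨ x ^ f ≠ 1) : IsCyclic G := by
  obtain ⟨n0, hn0N, hn01, hn0sq, hall, hcen⟩ := exists_of_card_two κ.ker hker
  have hxfk : x ^ f ∈ κ.ker := by rw [MonoidHom.mem_ker, map_pow, hxf]
  have hdec : ∀ g : G, ∃ k : ℕ, g = x ^ k ∨ g = n0 * x ^ k := by
    intro g
    obtain ⟨k, hk⟩ := hgen (κ g)
    refine ⟨k, ?_⟩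
    have hmem : g * (x ^ k)⁻¹ ∈ κ.ker := by
      rw [MonoidHom.mem_ker, map_mul, map_inv, map_pow, hk, mul_inv_cancel]
    rcases hall _ hmem with h1 | h1
    · left
      exact mul_inv_eq_one.mp h1
    · right
      exact mul_inv_eq_iff_eq_mul.mp h1
  by_cases hx : x ^ f = 1
  · -- `f` is odd
    have hodd : Odd f := by
      rcases h with h | h
      · exact h
      · exact absurd hx h
    obtain ⟨t, ht⟩ := hodd
    have hcomm : Commute n0 x := (hcen x).symm
    have hn0pow : n0 ^ f = n0 := by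
      rw [ht, pow_succ, pow_mul, pow_two, hn0sq, one_pow, one_mul]
    have hzf : (n0 * x) ^ f = n0 := by
      rw [hcomm.mul_pow, hx, mul_one, hn0pow]
    have hxz : x = (n0 * x) ^ (f + 1) := by
      rw [pow_succ, hzf, ← mul_assoc, hn0sq, one_mul]
    refine ⟨⟨n0 * x, fun g => ?_⟩⟩
    obtain ⟨k, hk | hk⟩ := hdec g
    · refine ⟨((f + 1) * k : ℕ), ?_⟩
      show (n0 * x) ^ (((f + 1) * k : ℕ) : ℤ) = g
      rw [zpow_natCast, pow_mul, ← hxz, hk]
    · refine ⟨(f + (f + 1) * k : ℕ), ?_⟩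
      show (n0 * x) ^ ((f + (f + 1) * k : ℕ) : ℤ) = g
      rw [zpow_natCast, pow_add, pow_mul, ← hxz, hzf, hk]
  · have hxn : x ^ f = n0 := by
      rcases hall _ hxfk with h1 | h1
      · exact absurd h1 hx
      · exact h1
    refine ⟨⟨x, fun g => ?_⟩⟩
    obtain ⟨k, hk | hk⟩ := hdec g
    · refine ⟨(k : ℕ), ?_⟩
      show x ^ ((k : ℕ) : ℤ) = g
      rw [zpow_natCast, hk]
    · refine ⟨(f + k : ℕ), ?_⟩
      show x ^ ((f + k : ℕ) : ℤ) = g
      rw [zpow_natCast, pow_add, hxn, hk]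

end Cfsg.Agent.Lib.Helper14_CyclicExt
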