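import Mathlib
import Cfsg.Agent.Lib.Helper14_OrthGamma
import Cfsg.Agent.Lib.Helper44_OrthOddCent
import Cfsg.Agent.Lib.Helper44_OrthOddOut
import Cfsg.Agent.Lib.Helper44_PSLnOut

/-!
# The companion homomorphism on `Out(PΩ(Q))`, powers of induced automorphisms, Frobenius (helper14)
-/

set_option autoImplicit false
set_option linter.unusedSectionVars false
set_option linter.unusedVariables false

namespace Cfsg.Agent.Lib.Helper14_OrthGamma2

open Cfsg Matrix Cfsg.Agent.Lib.Helper44_Orth Cfsg.Agent.Lib.Helper14_AutOmega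
  Cfsg.Agent.Lib.Helper7_OrthInduced Cfsg.Agent.Lib.Helper44_OrthField
  Cfsg.Agent.Lib.Helper44_OrthFaith Cfsg.Agent.Lib.Helper14_OrthGamma
  Cfsg.Agent.Lib.Helper44_H90i

variable {ι : Type} [Fintype ι] [DecidableEq ι] {F : Type*} [Field F]

/-! ### Powers of `twistP` -/

theorem sigGL_eq_mapGLi (σ : F ≃+* F) (s : GL ι F) : sigGL σ s = mapGLi σ s := by
  apply Units.ext
  ext i j
  rfl

theorem twistP_pow {Q : (ι → F) → F} {g : GL ι F} {σ : F ≃+* F}
    (h : IsSemisimilarityPair Q g σ) (k : ℕ) :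
    ∃ h' : IsSemisimilarityPair Q (PNi σ g k) (σ ^ k),
      (twistP Q g σ h) ^ k = twistP Q (PNi σ g k) (σ ^ k) h' := by
  induction k with
  | zero =>
    refine ⟨by rw [PNi_zero, pow_zero]; exact semisim_one Q, ?_⟩
    rw [pow_zero]
    exact twistP_one.symm.trans (twistP_congr _ _ (PNi_zero σ g).symm (pow_zero σ).symm)
  | succ k ih =>
    obtain ⟨hk, hpow⟩ := ih
    have h1 : PNi σ g k * sigGL (σ ^ k) g = PNi σ g (k + 1) := by
      rw [PNi_succ, sigGL_eq_mapGLi]
    have h2 : σ ^ k * σ = σ ^ (k + 1) := (pow_succ σ k).symm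
    refine ⟨by rw [← h1, ← h2]; exact semisim_mul hk h, ?_⟩
    rw [pow_succ, hpow, twistP_mul hk h]
    exact twistP_congr _ _ h1 h2

/-! ### The companion homomorphism on `Out` -/

section out

variable [Fintype F] {Q : QuadraticForm F (ι → F)} (S : Setup Q)
include S

theorem inn_le_ker : Inn (POmega F (⇑Q)) ≤ S.compHom.ker := by
  rw [S.ker_compHom]
  exact Cfsg.Agent.Lib.Helper44_OrthOddCent.inn_le_range Q

/-- The companion homomorphism on `Out(PΩ(Q))`. -/
noncomputable def outHom : Out (POmega F (⇑Q)) →* RingAut F :=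
  QuotientGroup.lift (Inn (POmega F (⇑Q))) S.compHom (inn_le_ker S)

theorem outHom_mk (β : MulAut (POmega F (⇑Q))) :
    outHom S (QuotientGroup.mk β) = S.compHom β := rfl

theorem outHom_surjective : Function.Surjective (outHom S) := by
  intro σ
  obtain ⟨β, hβ⟩ := S.compHom_surjective σ
  exact ⟨QuotientGroup.mk β, hβ⟩

theorem mem_ker_outHom (β : MulAut (POmega F (⇑Q))) :
    (QuotientGroup.mk β : Out (POmega F (⇑Q))) ∈ (outHom S).ker ↔ β ∈ (Phi (⇑Q)).range := by
  rw [MonoidHom.mem_ker, outHom_mk, ← MonoidHom.mem_ker, S.ker_compHom]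

/-- `|Out| * |PΩ| = |PGO| * |Aut F|`. -/
theorem card_out_mul : Nat.card (Out (POmega F (⇑Q))) * Nat.card (POmega F (⇑Q)) =
    Nat.card (Phi (⇑Q)).range * Nat.card (RingAut F) := by
  rw [← S.card_aut, Subgroup.card_eq_card_quotient_mul_card_subgroup (Inn (POmega F (⇑Q))),
    Cfsg.Agent.Lib.Helper44_OrthOddOut.card_inn Q S.nd S.hn]

/-- `|Out| = |ker| * |Aut F|`. -/
theorem card_out_eq : Nat.card (Out (POmega F (⇑Q))) =
    Nat.card (outHom S).ker * Nat.card (RingAut F) := by
  rw [Subgroup.card_eq_card_quotient_mul_card_subgroup (outHom S).ker,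
    Nat.card_congr (QuotientGroup.quotientKerEquivOfSurjective (outHom S)
      (outHom_surjective S)).toEquiv, mul_comm]

end out

/-! ### The Frobenius automorphism generates `Aut(F)` -/

section frob

variable [Fintype F]

theorem exists_frob {p f : ℕ} [Fact p.Prime] (hF : Fintype.card F = p ^ f) :
    ∃ φ : RingAut F, (∀ x, φ x = x ^ p) ∧ orderOf φ = f ∧ ∀ σ : RingAut F, ∃ k : ℕ, σ = φ ^ k := by
  have : CharP F p := charP_of_card_eq_prime_pow hF
  let _ : Algebra (ZMod p) F := ZMod.algebra F p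
  have hfin : Module.finrank (ZMod p) F = f := by
    have h1 : Fintype.card F = p ^ Module.finrank (ZMod p) F := by
      rw [Module.card_eq_pow_finrank (K := ZMod p) (V := F), ZMod.card]
    exact Nat.pow_right_injective (Fact.out : p.Prime).one_lt (h1.symm.trans hF)
  let e1 : RingAut F ≃* (F ≃ₐ[ZMod p] F) :=
    { toFun := fun σ => AlgEquiv.ofRingEquiv (f := σ) (fun x =>
        RingHom.congr_fun (Subsingleton.elim ((σ : F →+* F).comp (algebraMap (ZMod p) F))
          (algebraMap (ZMod p) F)) x)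
      invFun := fun τ => τ.toRingEquiv
      left_inv := fun σ => by ext; rfl
      right_inv := fun τ => by ext; rfl
      map_mul' := fun σ τ => by ext; rfl }
  set φ : RingAut F := e1.symm (FiniteField.frobeniusAlgEquivOfAlgebraic (ZMod p) F) with hφ
  have hφx : ∀ x, φ x = x ^ p := by
    intro x
    show (FiniteField.frobeniusAlgEquivOfAlgebraic (ZMod p) F) x = x ^ p
    rw [FiniteField.coe_frobeniusAlgEquivOfAlgebraic, ZMod.card]
  have hord : orderOf φ = f := by
    rw [hφ, MulEquiv.orderOf_eq, FiniteField.orderOf_frobeniusAlgEquivOfAlgebraic, hfin]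
  refine ⟨φ, hφx, hord, ?_⟩
  have hcard : Nat.card (RingAut F) = f := Cfsg.Agent.Lib.Helper44_PSLnOut.card_ringAut hF
  have hfinR : Finite (RingAut F) :=
    Finite.of_injective (fun σ : RingAut F => (σ : F → F)) DFunLike.coe_injective
  have htop : Subgroup.zpowers φ = ⊤ := by
    apply Subgroup.eq_top_of_card_eq
    rw [Nat.card_zpowers, hord, hcard]
  intro σ
  have hσ : σ ∈ Subgroup.zpowers φ := by rw [htop]; exact Subgroup.mem_top σ
  have h1 : σ ∈ Submonoid.powers φ :=
    (isOfFinOrder_of_finite φ).mem_powers_iff_mem_zpowers.mpr hσ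
  obtain ⟨k, hk⟩ := h1
  exact ⟨k, hk.symm⟩

end frob

end Cfsg.Agent.Lib.Helper14_OrthGamma2
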