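import Mathlib

set_option autoImplicit false

/-!
Counting conjugacy classes of involutions (helper44): an abstract counting skeleton, the block-unipotent
involutions `[[1, A], [0, 1]]` and symmetric `0/1` matrices `A` of prescribed rank, diagonal or alternating.
-/

namespace Cfsg.Agent.Lib.Helper44_InvCount

open Matrix Module

/-- **Counting skeleton.** If `I` is a complete conjugacy invariant of involutions and `Ψ` parametrises
its values injectively, the number of classes of involutions is `Nat.card κ`. -/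
theorem card_involution_classes {G : Type*} [Group G] {α κ : Type*} (I : G → α)
    (hinv : ∀ g h : G, IsConj g h → I g = I h)
    (hcomplete : ∀ g h : G, orderOf g = 2 → orderOf h = 2 → I g = I h → IsConj g h)
    (Ψ : κ → G) (hΨ2 : ∀ k, orderOf (Ψ k) = 2) (hΨinj : Function.Injective (I ∘ Ψ))
    (hΨsurj : ∀ g : G, orderOf g = 2 → ∃ k, I (Ψ k) = I g) :
    Nat.card {C : ConjClasses G // ∃ g : G, ConjClasses.mk g = C ∧ orderOf g = 2} = Nat.card κ := by
  symm
  apply Nat.card_congr
  refine Equiv.ofBijective (fun k => ⟨ConjClasses.mk (Ψ k), Ψ k, rfl, hΨ2 k⟩) ⟨?_, ?_⟩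
  · intro k k' h
    have h1 : ConjClasses.mk (Ψ k) = ConjClasses.mk (Ψ k') := congrArg Subtype.val h
    exact hΨinj (hinv _ _ (ConjClasses.mk_eq_mk_iff_isConj.mp h1))
  · rintro ⟨C, g, rfl, hg⟩
    obtain ⟨k, hk⟩ := hΨsurj g hg
    refine ⟨k, Subtype.ext ?_⟩
    exact ConjClasses.mk_eq_mk_iff_isConj.mpr (hcomplete _ _ (hΨ2 k) hg hk)

section upper

variable {n : Type} [Fintype n] [DecidableEq n] {F : Type*} [Field F]

/-- The block-unipotent matrix `[[1, A], [0, 1]]`. -/
def upper (A : Matrix n n F) : Matrix (n ⊕ n) (n ⊕ n) F := fromBlocks 1 A 0 1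

theorem upper_mul (A A' : Matrix n n F) : upper A * upper A' = upper (A' + A) := by
  simp [upper, fromBlocks_multiply]

theorem upper_sq (h2 : (2 : F) = 0) (A : Matrix n n F) : upper A * upper A = 1 := by
  rw [upper_mul]
  have : A + A = 0 := by
    rw [← two_smul F A, h2, zero_smul]
  rw [this, upper, fromBlocks_one]

omit [Fintype n] in
theorem upper_sub_one (A : Matrix n n F) : upper A - 1 = fromBlocks 0 A 0 0 := by
  rw [upper, ← fromBlocks_one, sub_eq_add_neg, fromBlocks_neg, fromBlocks_add]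
  simp

theorem upper_sub_one_mulVec (A : Matrix n n F) (v : n ⊕ n → F) :
    (upper A - 1) *ᵥ v = Sum.elim (A *ᵥ (v ∘ Sum.inr)) 0 := by
  rw [upper_sub_one, fromBlocks_mulVec]
  simp

/-- Extension by zero on the second summand. -/
def inlEmb : (n → F) →ₗ[F] (n ⊕ n → F) where
  toFun w := Sum.elim w 0
  map_add' a b := by
    ext k
    rcases k with i | i <;> simp
  map_smul' r a := by
    ext k
    rcases k with i | i <;> simp

omit [Fintype n] [DecidableEq n] in
theorem inlEmb_injective : Function.Injective (inlEmb (n := n) (F := F)) := by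
  intro a b h
  ext i
  have := congrFun h (Sum.inl i)
  simpa [inlEmb] using this

theorem rank_upper_sub_one (A : Matrix n n F) : (upper A - 1).rank = A.rank := by
  have hrange : LinearMap.range (upper A - 1).mulVecLin
      = (LinearMap.range A.mulVecLin).map (inlEmb (n := n) (F := F)) := by
    ext w
    constructor
    · rintro ⟨v, rfl⟩
      refine ⟨A *ᵥ (v ∘ Sum.inr), ⟨v ∘ Sum.inr, rfl⟩, ?_⟩
      rw [Matrix.mulVecLin_apply, upper_sub_one_mulVec]
      rfl
    · rintro ⟨_, ⟨y, rfl⟩, rfl⟩
      refine ⟨Sum.elim 0 y, ?_⟩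
      rw [Matrix.mulVecLin_apply, upper_sub_one_mulVec, Matrix.mulVecLin_apply]
      rfl
  have h1 : (upper A - 1).rank = finrank F ↥(LinearMap.range (upper A - 1).mulVecLin) := rfl
  have h2 : A.rank = finrank F ↥(LinearMap.range A.mulVecLin) := rfl
  rw [h1, h2, hrange]
  exact (Submodule.equivMapOfInjective _ inlEmb_injective _).finrank_eq.symm

theorem upper_mem_symplectic (A : Matrix n n F) (hA : Aᵀ = A) :
    upper A ∈ Matrix.symplecticGroup n F := by
  rw [SymplecticGroup.mem_iff, upper, Matrix.J, fromBlocks_transpose, fromBlocks_multiply,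
    fromBlocks_multiply, hA]
  simp

end upper

section zeroone

variable {m : ℕ} {F : Type*} [Field F]

/-- Indicator vector of the first `s` indices. -/
def uvec (s : ℕ) : Fin m → F := fun i => if i.val < s then 1 else 0

theorem uvec_mul_self (s : ℕ) (i : Fin m) : uvec (F := F) s i * uvec s i = uvec s i := by
  unfold uvec
  split_ifs <;> simp

/-- The diagonal idempotent of rank `s`. -/
def Dm (s : ℕ) : Matrix (Fin m) (Fin m) F := diagonal (uvec s)

/-- The alternating symmetric matrix `u uᵀ + diag u`. -/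
def Am (s : ℕ) : Matrix (Fin m) (Fin m) F := vecMulVec (uvec s) (uvec s) + Dm s

theorem Dm_transpose (s : ℕ) : (Dm (m := m) (F := F) s)ᵀ = Dm s := by
  rw [Dm, diagonal_transpose]

theorem Am_transpose (s : ℕ) : (Am (m := m) (F := F) s)ᵀ = Am s := by
  rw [Am, transpose_add, Dm_transpose]
  congr 1
  ext i j
  simp [vecMulVec_apply, mul_comm]

theorem rank_Dm {s : ℕ} (hs : s ≤ m) : (Dm (m := m) (F := F) s).rank = s := by
  classical
  rw [Dm, rank_diagonal, Fintype.card_subtype]
  have : (Finset.univ.filter fun i : Fin m => uvec (F := F) s i ≠ 0)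
      = Finset.univ.filter fun i : Fin m => i.val < s := by
    ext i
    simp only [Finset.mem_filter, Finset.mem_univ, true_and, uvec]
    by_cases h : i.val < s <;> simp [h]
  rw [this, Fin.card_filter_val_lt]
  exact min_eq_right hs

theorem Dm_mul_Dm (s : ℕ) : Dm (m := m) (F := F) s * Dm s = Dm s := by
  rw [Dm, diagonal_mul_diagonal]
  congr 1
  ext i
  exact uvec_mul_self s i

theorem dot_uvec {s : ℕ} (hs : s ≤ m) : uvec (m := m) (F := F) s ⬝ᵥ uvec s = (s : F) := by
  classical
  simp only [dotProduct, uvec_mul_self]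
  simp only [uvec]
  rw [Finset.sum_ite, Finset.sum_const_zero, add_zero, Finset.sum_const, nsmul_eq_mul, mul_one,
    Fin.card_filter_val_lt, min_eq_right hs]

theorem Am_mul_Am (h2 : (2 : F) = 0) {s : ℕ} (hs : s ≤ m) (hev : Even s) :
    Am (m := m) (F := F) s * Am s = Dm s := by
  have hs0 : (s : F) = 0 := by
    obtain ⟨k, rfl⟩ := hev
    push_cast
    rw [← two_mul, h2, zero_mul]
  have hUD : vecMulVec (uvec (m := m) (F := F) s) (uvec s) * Dm s = vecMulVec (uvec s) (uvec s) := by
    ext i j
    rw [Dm, Matrix.mul_diagonal, vecMulVec_apply, mul_assoc, uvec_mul_self]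
  have hDU : Dm s * vecMulVec (uvec (m := m) (F := F) s) (uvec s) = vecMulVec (uvec s) (uvec s) := by
    ext i j
    rw [Dm, Matrix.diagonal_mul, vecMulVec_apply, ← mul_assoc, uvec_mul_self]
  have hUU : vecMulVec (uvec (m := m) (F := F) s) (uvec s) * vecMulVec (uvec s) (uvec s)
      = (0 : Matrix (Fin m) (Fin m) F) := by
    rw [vecMulVec_mul_vecMulVec, dot_uvec hs, hs0, zero_smul]
    ext i j
    simp [vecMulVec_apply]
  rw [Am, Matrix.add_mul, Matrix.mul_add, Matrix.mul_add, hUU, hUD, hDU, Dm_mul_Dm, zero_add]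
  have : vecMulVec (uvec (m := m) (F := F) s) (uvec s) + (vecMulVec (uvec s) (uvec s) + Dm s)
      = (2 : F) • vecMulVec (uvec s) (uvec s) + Dm s := by
    rw [two_smul, add_assoc]
  rw [this, h2, zero_smul, zero_add]

theorem Dm_mul_Am (s : ℕ) : Dm (m := m) (F := F) s * Am s = Am s := by
  have hDU : Dm s * vecMulVec (uvec (m := m) (F := F) s) (uvec s) = vecMulVec (uvec s) (uvec s) := by
    ext i j
    rw [Dm, Matrix.diagonal_mul, vecMulVec_apply, ← mul_assoc, uvec_mul_self]
  rw [Am, Matrix.mul_add, hDU, Dm_mul_Dm]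

theorem rank_Am (h2 : (2 : F) = 0) {s : ℕ} (hs : s ≤ m) (hev : Even s) :
    (Am (m := m) (F := F) s).rank = s := by
  apply le_antisymm
  · have := rank_mul_le_left (Dm (m := m) (F := F) s) (Am s)
    rw [Dm_mul_Am, rank_Dm hs] at this
    exact this
  · have := rank_mul_le_left (Am (m := m) (F := F) s) (Am s)
    rw [Am_mul_Am h2 hs hev, rank_Dm hs] at this
    exact this

theorem Dm_form (s : ℕ) (y : Fin m → F) :
    y ⬝ᵥ Dm s *ᵥ y = ∑ i, uvec s i * (y i * y i) := by
  simp only [dotProduct, Dm, mulVec_diagonal]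
  apply Finset.sum_congr rfl
  intro i _
  ring

theorem Am_form (h2 : (2 : F) = 0) (s : ℕ) (y : Fin m → F) : y ⬝ᵥ Am s *ᵥ y = 0 := by
  have : CharP F 2 := CharTwo.of_one_ne_zero_of_two_eq_zero one_ne_zero h2
  rw [Am, Matrix.add_mulVec, dotProduct_add, Dm_form]
  have h1 : y ⬝ᵥ vecMulVec (uvec s) (uvec s) *ᵥ y = (∑ i, uvec s i * y i) ^ 2 := by
    simp only [dotProduct, mulVec, vecMulVec_apply]
    rw [pow_two, Finset.sum_mul_sum]
    apply Finset.sum_congr rfl
    intro i _
    rw [Finset.mul_sum]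
    apply Finset.sum_congr rfl
    intro j _
    ring
  rw [h1, sum_pow_char 2]
  have h3 : ∀ i, (uvec (F := F) s i * y i) ^ 2 = uvec s i * (y i * y i) := by
    intro i
    rw [mul_pow, pow_two, uvec_mul_self, pow_two]
  simp only [h3]
  rw [← two_mul, h2, zero_mul]

end zeroone

end Cfsg.Agent.Lib.Helper44_InvCount
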