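import Mathlib
import Cfsg.Agent.Lib.Helper44_Inv2Class
import Cfsg.Agent.S0749

set_option autoImplicit false

/-!
Classification of involutions of a symplectic group in characteristic two up to conjugacy (helper44): two involutory
isometries of a non-degenerate alternating form `B` with the same rank of `t - 1` and the same type (`B(N v, v)`
vanishing identically or not) are conjugate by an isometry of `B`.  Port of `Helper44_Inv2Class` with Witt's theorem
for alternating forms (helper13's `S0749`).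
-/

namespace Cfsg.Agent.Lib.Helper44_Inv2Sp

open Cfsg Matrix Module Cfsg.Agent.Lib.Helper44_Refl Cfsg.Agent.Lib.Helper44_Inv2
  Cfsg.Agent.Lib.Helper44_Inv2Class

variable {ι : Type} [Fintype ι] [DecidableEq ι] {F : Type*} [Field F]
variable {κ : Type} [Fintype κ] [DecidableEq κ]

/-- The matrix `T` preserves the bilinear form `B`. -/
def IsoB (B : LinearMap.BilinForm F (ι → F)) (T : Matrix ι ι F) : Prop :=
  ∀ u v, B (T *ᵥ u) (T *ᵥ v) = B u v

section basic

variable (B : LinearMap.BilinForm F (ι → F)) (hA : B.IsAlt) (h2 : (2 : F) = 0)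
  {T : Matrix ι ι F} (hT : IsoB B T) (hTT : T * T = 1)

include hA h2 in
omit [Fintype ι] [DecidableEq ι] in
theorem B_symm (x y : ι → F) : B x y = B y x := by
  have h := hA.neg_eq x y
  have h3 : B x y + B x y = 0 := by
    have : B x y + B x y = (2 : F) * B x y := by ring
    rw [this, h2, zero_mul]
  rw [← h]
  exact eq_neg_of_add_eq_zero_left h3

include hT hTT in
theorem B_T_left (x y : ι → F) : B (T *ᵥ x) y = B x (T *ᵥ y) := by
  have := hT x (T *ᵥ y)
  rw [TT_apply hTT] at this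
  exact this

include hT hTT in
theorem B_N_left (x y : ι → F) : B ((T - 1) *ᵥ x) y = B x ((T - 1) *ᵥ y) := by
  rw [N_apply, N_apply, map_sub, LinearMap.sub_apply, map_sub, B_T_left B hT hTT]

include h2 hT hTT in
theorem B_N_N (x y : ι → F) : B ((T - 1) *ᵥ x) ((T - 1) *ᵥ y) = 0 := by
  rw [B_N_left B hT hTT, N_N_apply h2 hTT, map_zero]

include hA h2 in
/-- `B(v, T v) = B(N v, v)`. -/
theorem B_self_T (v : ι → F) : B v (T *ᵥ v) = B ((T - 1) *ᵥ v) v := by
  have : T *ᵥ v = (T - 1) *ᵥ v + v := by rw [N_apply]; abel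
  rw [this, map_add, hA v, add_zero, B_symm B hA h2]

end basic

section gram

variable (B : LinearMap.BilinForm F (ι → F)) (h2 : (2 : F) = 0) {T : Matrix ι ι F} (hT : IsoB B T)
  (hTT : T * T = 1) (G₀ H : Matrix κ κ F) (hGH : G₀ * H = 1) (x : κ → ι → F)
  (hx : ∀ i j, B ((T - 1) *ᵥ x i) (x j) = G₀ i j)

include hx in
omit [DecidableEq κ] in
theorem B_comb (a : κ → F) (j : κ) : B (comb T x a) (x j) = (a ᵥ* G₀) j := by
  rw [comb_apply, map_sum, LinearMap.sum_apply]
  simp only [Matrix.vecMul, dotProduct]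
  apply Finset.sum_congr rfl
  intro i _
  rw [map_smul, LinearMap.smul_apply, hx, smul_eq_mul]

include hx hGH in
theorem comb_injective_sp : Function.Injective (comb T x) := by
  intro a a' h
  apply vecMul_injective G₀ H hGH
  ext j
  rw [← B_comb B G₀ x hx a j, ← B_comb B G₀ x hx a' j, h]

include hx hGH in
theorem range_comb_sp (hr : Fintype.card κ = (T - 1).rank) :
    LinearMap.range (comb T x) = LinearMap.range (T - 1).mulVecLin := by
  have hle : LinearMap.range (comb T x) ≤ LinearMap.range (T - 1).mulVecLin := by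
    rintro _ ⟨a, rfl⟩
    exact ⟨∑ i, a i • x i, by rw [Matrix.mulVecLin_apply, comb_eq_N]⟩
  apply Submodule.eq_of_le_of_finrank_eq hle
  rw [LinearMap.finrank_range_of_inj (comb_injective_sp B G₀ H hGH x hx)]
  have : (T - 1).rank = finrank F ↥(LinearMap.range (T - 1).mulVecLin) := rfl
  rw [← this, ← hr]
  simp

end gram

/-- **Conjugacy from Gram data** (symplectic version). -/
theorem conj_of_gram_sp (B : LinearMap.BilinForm F (ι → F)) (hB : B.Nondegenerate) (hA : B.IsAlt)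
    (h2 : (2 : F) = 0)
    {T S : Matrix ι ι F} (hT : IsoB B T) (hTT : T * T = 1) (hS : IsoB B S) (hSS : S * S = 1)
    (G₀ H : Matrix κ κ F) (hGH : G₀ * H = 1)
    (hrT : Fintype.card κ = (T - 1).rank) (hrS : Fintype.card κ = (S - 1).rank)
    (x x' : κ → ι → F)
    (hx : ∀ i j, B ((T - 1) *ᵥ x i) (x j) = G₀ i j)
    (hx' : ∀ i j, B ((S - 1) *ᵥ x' i) (x' j) = G₀ i j) :
    ∃ G : Matrix ι ι F, IsoB B G ∧ G * T = S * G := by
  have hL := comb_injective_sp B G₀ H hGH x hx
  have hL' := comb_injective_sp B G₀ H hGH x' hx'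
  set φ : ↥(LinearMap.range (comb T x)) ≃ₗ[F] ↥(LinearMap.range (comb S x')) :=
    (LinearEquiv.ofInjective (comb T x) hL).symm.trans (LinearEquiv.ofInjective (comb S x') hL')
    with hφdef
  have hφ1 : ∀ a : κ → F, φ ⟨comb T x a, LinearMap.mem_range_self _ a⟩
      = ⟨comb S x' a, LinearMap.mem_range_self _ a⟩ := by
    intro a
    have h1 : (LinearEquiv.ofInjective (comb T x) hL).symm
        ⟨comb T x a, LinearMap.mem_range_self _ a⟩ = a := by
      rw [LinearEquiv.symm_apply_eq]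
      apply Subtype.ext
      rw [LinearEquiv.ofInjective_apply]
    rw [hφdef, LinearEquiv.trans_apply, h1]
    apply Subtype.ext
    rw [LinearEquiv.ofInjective_apply]
  have hφB : ∀ y y' : ↥(LinearMap.range (comb T x)),
      B (φ y : ι → F) (φ y' : ι → F) = B (y : ι → F) (y' : ι → F) := by
    rintro ⟨_, a, rfl⟩ ⟨_, a', rfl⟩
    rw [hφ1 a, hφ1 a']
    show B (comb S x' a) (comb S x' a') = B (comb T x a) (comb T x a')
    rw [comb_eq_N, comb_eq_N, comb_eq_N, comb_eq_N, B_N_N B h2 hT hTT, B_N_N B h2 hS hSS]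
  obtain ⟨g, hg1, hg2⟩ := Cfsg.Agent.S0749.result B hB hA _ _ φ hφB
  set G : Matrix ι ι F := LinearMap.toMatrix' (g : (ι → F) →ₗ[F] (ι → F)) with hG
  have hGv : ∀ v, G *ᵥ v = g v := by
    intro v
    rw [hG, LinearMap.toMatrix'_mulVec]
    rfl
  have hGiso : IsoB B G := by
    intro u v
    rw [hGv, hGv]
    exact hg1 u v
  refine ⟨G, hGiso, ?_⟩
  have hGL : ∀ a : κ → F, G *ᵥ comb T x a = comb S x' a := by
    intro a
    have := hg2 ⟨comb T x a, LinearMap.mem_range_self _ a⟩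
    rw [hφ1 a] at this
    rw [hGv]
    exact this
  have hGw : ∀ j, G *ᵥ ((T - 1) *ᵥ x j) = (S - 1) *ᵥ x' j := by
    intro j
    rw [← comb_single (T := T) x j, hGL, comb_single]
  have key : ∀ v, G *ᵥ ((T - 1) *ᵥ v) = (S - 1) *ᵥ (G *ᵥ v) := by
    intro v
    have h1 : (T - 1) *ᵥ v ∈ LinearMap.range (comb T x) := by
      rw [range_comb_sp B G₀ H hGH x hx hrT]
      exact ⟨v, rfl⟩
    have h1' : (S - 1) *ᵥ (G *ᵥ v) ∈ LinearMap.range (comb S x') := by
      rw [range_comb_sp B G₀ H hGH x' hx' hrS]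
      exact ⟨G *ᵥ v, rfl⟩
    obtain ⟨a, ha⟩ := h1
    obtain ⟨a', ha'⟩ := h1'
    have haa' : a = a' := by
      apply vecMul_injective G₀ H hGH
      ext j
      rw [← B_comb B G₀ x hx a j, ← B_comb B G₀ x' hx' a' j, ha, ha',
        B_N_left B hT hTT, B_N_left B hS hSS, ← hGw j, hGiso]
    rw [← ha, hGL, haa', ha']
  apply matrix_ext_mulVec
  intro v
  have hTv : T *ᵥ v = (T - 1) *ᵥ v + v := by rw [N_apply]; abel
  have hSv : S *ᵥ (G *ᵥ v) = (S - 1) *ᵥ (G *ᵥ v) + G *ᵥ v := by rw [N_apply]; abel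
  rw [← Matrix.mulVec_mulVec, ← Matrix.mulVec_mulVec, hTv, hSv, Matrix.mulVec_add, key]

/-! ### Existence of Gram families -/

section exist

variable (B : LinearMap.BilinForm F (ι → F)) (hB : B.Nondegenerate) (hA : B.IsAlt)
  (h2 : (2 : F) = 0) {T : Matrix ι ι F} (hT : IsoB B T) (hTT : T * T = 1)

/-- The symmetric bilinear form `β(x, y) = B(N x, y)`. -/
noncomputable def betaB (T : Matrix ι ι F) : LinearMap.BilinForm F (ι → F) :=
  B ∘ₗ (T - 1).mulVecLin

theorem betaB_apply (x y : ι → F) : betaB B T x y = B ((T - 1) *ᵥ x) y := rfl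

include hA h2 hT hTT in
theorem betaB_symm (x y : ι → F) : betaB B T x y = betaB B T y x := by
  rw [betaB_apply, betaB_apply, B_N_left B hT hTT, B_symm B hA h2]

include hB hT hTT in
theorem exists_compl_data_sp : ∃ C : Submodule F (ι → F), finrank F ↥C = (T - 1).rank ∧
    ((betaB B T).restrict C).Nondegenerate ∧
    (∀ v, ∃ c ∈ C, (T - 1) *ᵥ c = (T - 1) *ᵥ v) := by
  obtain ⟨C, hC⟩ := Submodule.exists_isCompl (LinearMap.ker (T - 1).mulVecLin)
  have hdecomp : ∀ y : ι → F, ∃ k ∈ LinearMap.ker (T - 1).mulVecLin, ∃ c ∈ C, k + c = y := by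
    intro y
    have : y ∈ LinearMap.ker (T - 1).mulVecLin ⊔ C := by rw [hC.sup_eq_top]; trivial
    exact Submodule.mem_sup.mp this
  refine ⟨C, ?_, ?_, ?_⟩
  · have h1 := Submodule.finrank_add_eq_of_isCompl hC
    have h3 := rank_add_finrank_ker (T - 1)
    have h4 : finrank F (ι → F) = Fintype.card ι := by simp
    omega
  · apply LinearMap.BilinForm.Nondegenerate.ofSeparatingLeft
    intro c hc
    apply Subtype.ext
    have hker : (c : ι → F) ∈ LinearMap.ker (T - 1).mulVecLin := by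
      rw [LinearMap.mem_ker, Matrix.mulVecLin_apply]
      apply hB.1
      intro y
      obtain ⟨k, hk, c', hc', rfl⟩ := hdecomp y
      rw [map_add]
      have hk0 : (T - 1) *ᵥ k = 0 := by
        rw [LinearMap.mem_ker, Matrix.mulVecLin_apply] at hk
        exact hk
      rw [B_N_left B hT hTT, hk0, map_zero, zero_add]
      exact hc ⟨c', hc'⟩
    have : (c : ι → F) ∈ LinearMap.ker (T - 1).mulVecLin ⊓ C := ⟨hker, c.2⟩
    rw [hC.inf_eq_bot] at this
    exact (Submodule.mem_bot F).mp this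
  · intro v
    obtain ⟨k, hk, c, hc, rfl⟩ := hdecomp v
    refine ⟨c, hc, ?_⟩
    have hk0 : (T - 1) *ᵥ k = 0 := by
      rw [LinearMap.mem_ker, Matrix.mulVecLin_apply] at hk
      exact hk
    rw [Matrix.mulVec_add, hk0, zero_add]

include hB hA h2 hT hTT in
theorem exists_gram_nonalt_sp [Finite F] (hna : ∃ v, B ((T - 1) *ᵥ v) v ≠ 0) {r : ℕ}
    (hr : (T - 1).rank = r) :
    ∃ x : Fin r → ι → F, ∀ i j,
      B ((T - 1) *ᵥ x i) (x j) = (1 : Matrix (Fin r) (Fin r) F) i j := by
  have : CharP F 2 := CharTwo.of_one_ne_zero_of_two_eq_zero one_ne_zero h2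
  obtain ⟨C, hCr, hCnd, hCsurj⟩ := exists_compl_data_sp B hB hT hTT
  obtain ⟨w, hw⟩ := Cfsg.Agent.Lib.Helper44_Orthonormal2.orthonormal_family r ↥C
    ((betaB B T).restrict C) (by rw [hCr, hr])
    (fun a b => betaB_symm B hA h2 hT hTT (a : ι → F) (b : ι → F)) hCnd
    (fun _ => by
      obtain ⟨v, hv⟩ := hna
      obtain ⟨c, hc, hcv⟩ := hCsurj v
      obtain ⟨k, hk⟩ : ∃ k, k = v - c := ⟨_, rfl⟩
      have hk0 : (T - 1) *ᵥ k = 0 := by rw [hk, Matrix.mulVec_sub, hcv, sub_self]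
      refine ⟨⟨c, hc⟩, ?_⟩
      show B ((T - 1) *ᵥ c) c ≠ 0
      have hv' : v = c + k := by rw [hk]; abel
      rw [hv', Matrix.mulVec_add, hk0, add_zero, map_add, B_N_left B hT hTT c k, hk0, map_zero,
        add_zero] at hv
      exact hv)
  refine ⟨fun i => (w i : ι → F), fun i j => ?_⟩
  rw [Matrix.one_apply]
  exact hw i j

include hB hA h2 hT hTT in
theorem exists_gram_alt_sp (ha : ∀ v, B ((T - 1) *ᵥ v) v = 0) :
    ∃ k : ℕ, 2 * k = (T - 1).rank ∧ ∃ x : Fin k ⊕ Fin k → ι → F, ∀ i j,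
      B ((T - 1) *ᵥ x i) (x j) = (Jm k : Matrix _ _ F) i j := by
  obtain ⟨C, hCr, hCnd, -⟩ := exists_compl_data_sp B hB hT hTT
  have halt : ((betaB B T).restrict C).IsAlt := by
    intro c
    exact ha _
  obtain ⟨m, k, b, h1, h3, h4, h5⟩ := Cfsg.Agent.S0752.result ((betaB B T).restrict C) halt
  have hk : k = 0 := by
    by_contra hk
    have hpos : 0 < k := Nat.pos_of_ne_zero hk
    have h0 := hCnd.1 (b (Sum.inr ⟨0, hpos⟩)) (fun y => h5 _ y)
    exact b.ne_zero _ h0
  subst hk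
  have hm : 2 * m = (T - 1).rank := by
    have hc := Module.finrank_eq_card_basis b
    rw [hCr] at hc
    simp only [Fintype.card_sum, Fintype.card_fin] at hc
    omega
  refine ⟨m, hm, fun i => (b (Sum.inl i) : ι → F), ?_⟩
  have hsymm : ∀ a c : ↥C, ((betaB B T).restrict C) a c = ((betaB B T).restrict C) c a :=
    fun a c => betaB_symm B hA h2 hT hTT (a : ι → F) (c : ι → F)
  intro i j
  rcases i with i | i <;> rcases j with j | j
  · simp only [Jm, Matrix.fromBlocks_apply₁₁, Matrix.zero_apply]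
    exact h3 i j
  · simp only [Jm, Matrix.fromBlocks_apply₁₂, Matrix.one_apply]
    exact h1 i j
  · simp only [Jm, Matrix.fromBlocks_apply₂₁, Matrix.one_apply]
    have := h1 j i
    rw [hsymm] at this
    simp only [eq_comm (a := i) (b := j)]
    exact this
  · simp only [Jm, Matrix.fromBlocks_apply₂₂, Matrix.zero_apply]
    exact h4 i j

end exist

/-- **Classification of symplectic involutions up to conjugacy** (characteristic two). -/
theorem conj_of_rank_type_sp [Finite F] (B : LinearMap.BilinForm F (ι → F)) (hB : B.Nondegenerate)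
    (hA : B.IsAlt) (h2 : (2 : F) = 0)
    {T S : Matrix ι ι F} (hT : IsoB B T) (hTT : T * T = 1) (hS : IsoB B S) (hSS : S * S = 1)
    (hr : (T - 1).rank = (S - 1).rank)
    (htype : (∀ v, B ((T - 1) *ᵥ v) v = 0) ↔ (∀ v, B ((S - 1) *ᵥ v) v = 0)) :
    ∃ G : Matrix ι ι F, IsoB B G ∧ G * T = S * G := by
  by_cases ha : ∀ v, B ((T - 1) *ᵥ v) v = 0
  · have ha' := htype.mp ha
    obtain ⟨k, hk, x, hx⟩ := exists_gram_alt_sp B hB hA h2 hT hTT ha
    obtain ⟨k', hk', x', hx'⟩ := exists_gram_alt_sp B hB hA h2 hS hSS ha'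
    have hkk : k' = k := by omega
    subst hkk
    exact conj_of_gram_sp B hB hA h2 hT hTT hS hSS (Jm k') (Jm k') (Jm_mul_Jm k')
      (by simp only [Fintype.card_sum, Fintype.card_fin]; omega)
      (by simp only [Fintype.card_sum, Fintype.card_fin]; omega) x x' hx hx'
  · have ha' : ¬ ∀ v, B ((S - 1) *ᵥ v) v = 0 := fun h => ha (htype.mpr h)
    push Not at ha ha'
    obtain ⟨x, hx⟩ := exists_gram_nonalt_sp B hB hA h2 hT hTT ha rfl
    obtain ⟨x', hx'⟩ := exists_gram_nonalt_sp B hB hA h2 hS hSS ha' hr.symm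
    exact conj_of_gram_sp B hB hA h2 hT hTT hS hSS 1 1 (Matrix.one_mul 1)
      (by simp) (by simp [hr]) x x' hx hx'

/-- An alternating-type involution has even rank. -/
theorem even_rank_of_alt (B : LinearMap.BilinForm F (ι → F)) (hB : B.Nondegenerate)
    (hA : B.IsAlt) (h2 : (2 : F) = 0) {T : Matrix ι ι F} (hT : IsoB B T) (hTT : T * T = 1)
    (ha : ∀ v, B ((T - 1) *ᵥ v) v = 0) : Even (T - 1).rank := by
  obtain ⟨k, hk, -⟩ := exists_gram_alt_sp B hB hA h2 hT hTT ha
  exact ⟨k, by omega⟩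

end Cfsg.Agent.Lib.Helper44_Inv2Sp
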