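import Mathlib
import Cfsg.Agent.Lib.Helper44_Inv2Sp
import Cfsg.Agent.Lib.Helper44_InvCount
import Cfsg.Agent.Lib.Helper94_Bridge
import Cfsg.Agent.Lib.Helper13_Symp

set_option autoImplicit false

/-!
The number of conjugacy classes of involutions of `Sp_{2m}(q)`, `q` even, is `m + ⌊m/2⌋` (helper44).
-/

namespace Cfsg.Agent.Lib.Helper44_SpCount

open Cfsg Matrix Module Cfsg.Agent.Lib.Helper44_Refl Cfsg.Agent.Lib.Helper44_Inv2
  Cfsg.Agent.Lib.Helper44_Inv2Sp Cfsg.Agent.Lib.Helper44_InvCount Cfsg.Agent.Lib.Helper94_Bridge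
  Cfsg.Agent.Lib.Helper13_Symp

section generic

variable {ι : Type} [Fintype ι] [DecidableEq ι] {F : Type*} [Field F]

/-- Conjugation by an invertible isometry of `B` preserves rank and type. -/
theorem rank_type_of_conj_sp (B : LinearMap.BilinForm F (ι → F)) {T S G G' : Matrix ι ι F}
    (hG : IsoB B G) (hGG' : G * G' = 1) (hconj : G * T = S * G) :
    (T - 1).rank = (S - 1).rank ∧
      ((∀ v, B ((T - 1) *ᵥ v) v = 0) ↔ (∀ v, B ((S - 1) *ᵥ v) v = 0)) := by
  have hdet : IsUnit G.det := Matrix.isUnit_det_of_right_inverse hGG'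
  have hN : G * (T - 1) = (S - 1) * G := by
    rw [Matrix.mul_sub, Matrix.sub_mul, hconj, Matrix.mul_one, Matrix.one_mul]
  have hBN : ∀ v, B ((S - 1) *ᵥ (G *ᵥ v)) (G *ᵥ v) = B ((T - 1) *ᵥ v) v := by
    intro v
    rw [Matrix.mulVec_mulVec, ← hN, ← Matrix.mulVec_mulVec, hG]
  constructor
  · rw [← Matrix.rank_mul_eq_right_of_isUnit_det G (T - 1) hdet, hN,
      Matrix.rank_mul_eq_left_of_isUnit_det G (S - 1) hdet]
  · constructor
    · intro h v
      have hv : v = G *ᵥ (G' *ᵥ v) := by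
        rw [Matrix.mulVec_mulVec, hGG', Matrix.one_mulVec]
      rw [hv, hBN]
      exact h _
    · intro h v
      rw [← hBN]
      exact h _

/-- `N * N = 0` for an involution in characteristic two, hence `2 rank N ≤ dim`. -/
theorem two_rank_le (h2 : (2 : F) = 0) {T : Matrix ι ι F} (hTT : T * T = 1) :
    2 * (T - 1).rank ≤ Fintype.card ι := by
  have hNN : (T - 1) * (T - 1) = 0 := by
    apply matrix_ext_mulVec
    intro x
    rw [← Matrix.mulVec_mulVec, N_N_apply h2 hTT, Matrix.zero_mulVec]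
  have := Matrix.rank_add_rank_le_card_of_mul_eq_zero hNN
  omega

theorem rank_pos_of_ne_one {T : Matrix ι ι F} (hT : T ≠ 1) : 0 < (T - 1).rank := by
  rw [Nat.pos_iff_ne_zero]
  intro h
  apply hT
  have h1 : finrank F ↥(LinearMap.range (T - 1).mulVecLin) = 0 := h
  rw [Submodule.finrank_eq_zero, LinearMap.range_eq_bot] at h1
  have : T - 1 = 0 := by
    apply Matrix.toLin'.injective
    rw [Matrix.toLin'_apply', h1, map_zero]
  exact sub_eq_zero.mp this

end generic

section sp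

variable {m : ℕ} {F : Type*} [Field F]

theorem Bsymp_upper (A : Matrix (Fin m) (Fin m) F) (v : Fin m ⊕ Fin m → F) :
    Bsymp m F ((upper A - 1) *ᵥ v) v = -((v ∘ Sum.inr) ⬝ᵥ A *ᵥ (v ∘ Sum.inr)) := by
  rw [Bsymp_apply, sympForm_eq, upper_sub_one_mulVec]
  simp only [Sum.elim_inr, Sum.elim_inl, Pi.zero_apply, zero_mul, zero_sub]
  rw [Finset.sum_neg_distrib, dotProduct_comm]
  rfl

/-- The involution `[[1, D_s], [0, 1]]` of non-alternating type and rank `s`. -/
def spD (s : ℕ) : ↥(Matrix.symplecticGroup (Fin m) F) :=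
  ⟨upper (Dm s), upper_mem_symplectic _ (Dm_transpose s)⟩

/-- The involution `[[1, A_s], [0, 1]]` of alternating type and rank `s` (`s` even). -/
def spA (s : ℕ) : ↥(Matrix.symplecticGroup (Fin m) F) :=
  ⟨upper (Am s), upper_mem_symplectic _ (Am_transpose s)⟩

/-- The conjugacy invariant: rank and type. -/
noncomputable def spInv (g : ↥(Matrix.symplecticGroup (Fin m) F)) : ℕ × Prop :=
  (((g : Matrix (Fin m ⊕ Fin m) (Fin m ⊕ Fin m) F) - 1).rank,
    ∀ v, Bsymp m F (((g : Matrix (Fin m ⊕ Fin m) (Fin m ⊕ Fin m) F) - 1) *ᵥ v) v = 0)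

theorem spInv_spD {s : ℕ} (hs0 : 0 < s) (hs : s ≤ m) : spInv (spD (m := m) (F := F) s) = (s, False) := by
  apply Prod.ext
  · show (upper (Dm (m := m) (F := F) s) - 1).rank = s
    rw [rank_upper_sub_one, rank_Dm hs]
  · show (∀ v, Bsymp m F ((upper (Dm s) - 1) *ᵥ v) v = 0) = False
    rw [eq_iff_iff, iff_false]
    intro h
    have hm : 0 < m := lt_of_lt_of_le hs0 hs
    have h1 := h (Sum.elim 0 (Pi.single ⟨0, hm⟩ 1))
    rw [Bsymp_upper, neg_eq_zero, Dm_form] at h1
    have h3 : ∀ i : Fin m, uvec (F := F) s i * ((Sum.elim (0 : Fin m → F) (Pi.single ⟨0, hm⟩ 1) ∘ Sum.inr) i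
        * (Sum.elim (0 : Fin m → F) (Pi.single ⟨0, hm⟩ 1) ∘ Sum.inr) i)
        = if i = ⟨0, hm⟩ then 1 else 0 := by
      intro i
      by_cases hi : i = ⟨0, hm⟩
      · subst hi
        simp [uvec, hs0]
      · simp [hi]
    simp only [h3] at h1
    simp at h1

theorem spInv_spA (h2 : (2 : F) = 0) {s : ℕ} (hs : s ≤ m) (hev : Even s) :
    spInv (spA (m := m) (F := F) s) = (s, True) := by
  apply Prod.ext
  · show (upper (Am (m := m) (F := F) s) - 1).rank = s
    rw [rank_upper_sub_one, rank_Am h2 hs hev]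
  · show (∀ v, Bsymp m F ((upper (Am s) - 1) *ᵥ v) v = 0) = True
    rw [eq_iff_iff, iff_true]
    intro v
    rw [Bsymp_upper, Am_form h2, neg_zero]

theorem isoB_of_mem (g : ↥(Matrix.symplecticGroup (Fin m) F)) :
    IsoB (Bsymp m F) (g : Matrix (Fin m ⊕ Fin m) (Fin m ⊕ Fin m) F) := by
  intro u v
  rw [Bsymp_apply, Bsymp_apply]
  exact sympForm_mulVec_mulVec_of_mem m g.2 u v

theorem sq_of_orderOf (g : ↥(Matrix.symplecticGroup (Fin m) F)) (hg : orderOf g = 2) :
    (g : Matrix (Fin m ⊕ Fin m) (Fin m ⊕ Fin m) F) * (g : Matrix (Fin m ⊕ Fin m) (Fin m ⊕ Fin m) F) = 1 := by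
  have h := pow_orderOf_eq_one g
  rw [hg, pow_two] at h
  have := congrArg (fun g : ↥(Matrix.symplecticGroup (Fin m) F) =>
    (g : Matrix (Fin m ⊕ Fin m) (Fin m ⊕ Fin m) F)) h
  exact this

theorem spInv_conj (g h : ↥(Matrix.symplecticGroup (Fin m) F)) (hgh : IsConj g h) :
    spInv g = spInv h := by
  obtain ⟨c, hc'⟩ := isConj_iff.mp hgh
  have hc : c * g = h * c := mul_inv_eq_iff_eq_mul.mp hc'
  have hcm : (c : Matrix (Fin m ⊕ Fin m) (Fin m ⊕ Fin m) F) * (g : Matrix (Fin m ⊕ Fin m) (Fin m ⊕ Fin m) F)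
      = (h : Matrix (Fin m ⊕ Fin m) (Fin m ⊕ Fin m) F) * (c : Matrix (Fin m ⊕ Fin m) (Fin m ⊕ Fin m) F) := by
    have := congrArg (fun g : ↥(Matrix.symplecticGroup (Fin m) F) =>
      (g : Matrix (Fin m ⊕ Fin m) (Fin m ⊕ Fin m) F)) hc
    exact this
  have hcc' : (c : Matrix (Fin m ⊕ Fin m) (Fin m ⊕ Fin m) F)
      * ((c⁻¹ : ↥(Matrix.symplecticGroup (Fin m) F)) : Matrix (Fin m ⊕ Fin m) (Fin m ⊕ Fin m) F) = 1 := by
    have := congrArg (fun g : ↥(Matrix.symplecticGroup (Fin m) F) =>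
      (g : Matrix (Fin m ⊕ Fin m) (Fin m ⊕ Fin m) F)) (mul_inv_cancel c)
    exact this
  obtain ⟨hr, ht⟩ := rank_type_of_conj_sp (Bsymp m F) (isoB_of_mem c) hcc' hcm
  exact Prod.ext hr (propext ht)

theorem isConj_of_spInv [Finite F] (h2 : (2 : F) = 0) (g h : ↥(Matrix.symplecticGroup (Fin m) F))
    (hg : orderOf g = 2) (hh : orderOf h = 2) (hI : spInv g = spInv h) : IsConj g h := by
  have hr : ((g : Matrix (Fin m ⊕ Fin m) (Fin m ⊕ Fin m) F) - 1).rank
      = ((h : Matrix (Fin m ⊕ Fin m) (Fin m ⊕ Fin m) F) - 1).rank := congrArg Prod.fst hI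
  have ht : (∀ v, Bsymp m F (((g : Matrix (Fin m ⊕ Fin m) (Fin m ⊕ Fin m) F) - 1) *ᵥ v) v = 0) ↔
      (∀ v, Bsymp m F (((h : Matrix (Fin m ⊕ Fin m) (Fin m ⊕ Fin m) F) - 1) *ᵥ v) v = 0) :=
    Iff.of_eq (congrArg Prod.snd hI)
  obtain ⟨G, hG, hGconj⟩ := conj_of_rank_type_sp (Bsymp m F) (Bsymp_nondegenerate m)
    (Bsymp_isAlt m) h2 (isoB_of_mem g) (sq_of_orderOf g hg) (isoB_of_mem h) (sq_of_orderOf h hh) hr ht
  have hGmem : G ∈ Matrix.symplecticGroup (Fin m) F := by
    apply mem_symplecticGroup_of_preserves m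
    intro u v
    rw [← Bsymp_apply, ← Bsymp_apply]
    exact hG u v
  rw [isConj_iff]
  refine ⟨⟨G, hGmem⟩, ?_⟩
  rw [mul_inv_eq_iff_eq_mul]
  apply Subtype.ext
  exact hGconj

theorem orderOf_upper (h2 : (2 : F) = 0) (A : Matrix (Fin m) (Fin m) F) (hA : Aᵀ = A)
    (hr : 0 < A.rank) :
    orderOf (⟨upper A, upper_mem_symplectic A hA⟩ : ↥(Matrix.symplecticGroup (Fin m) F)) = 2 := by
  have : Fact (Nat.Prime 2) := ⟨Nat.prime_two⟩
  apply orderOf_eq_prime
  · rw [pow_two]
    apply Subtype.ext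
    exact upper_sq h2 A
  · intro h
    have h1 : upper A = 1 := congrArg Subtype.val h
    have h3 := rank_upper_sub_one A
    rw [h1, sub_self, Matrix.rank_zero] at h3
    omega

/-- **Number of classes of involutions in `Sp_{2m}(q)`, `q` even.** -/
theorem card_sp_involution_classes [Finite F] (h2 : (2 : F) = 0) (hm : 1 ≤ m) :
    Nat.card {C : ConjClasses ↥(Matrix.symplecticGroup (Fin m) F) //
      ∃ g : Matrix.symplecticGroup (Fin m) F, ConjClasses.mk g = C ∧ orderOf g = 2} = m + m / 2 := by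
  have key := card_involution_classes (G := ↥(Matrix.symplecticGroup (Fin m) F))
    (κ := Fin m ⊕ Fin (m / 2)) spInv spInv_conj (isConj_of_spInv h2)
    (fun x => Sum.elim (fun i : Fin m => spD (i.val + 1)) (fun k : Fin (m / 2) => spA (2 * (k.val + 1))) x)
    ?_ ?_ ?_
  · rw [key]
    simp
  · rintro (i | k)
    · show orderOf (spD (m := m) (F := F) (i.val + 1)) = 2
      apply orderOf_upper h2 _ (Dm_transpose _)
      rw [rank_Dm (by have := i.2; omega)]
      omega
    · show orderOf (spA (m := m) (F := F) (2 * (k.val + 1))) = 2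
      apply orderOf_upper h2 _ (Am_transpose _)
      rw [rank_Am h2 (by have := k.2; omega) ⟨k.val + 1, by ring⟩]
      omega
  · rintro (i | k) (i' | k') h
    · simp only [Function.comp_apply, Sum.elim_inl] at h
      rw [spInv_spD (by omega) (by have := i.2; omega), spInv_spD (by omega) (by have := i'.2; omega)] at h
      have := congrArg Prod.fst h
      simp only at this
      congr 1
      exact Fin.ext (by omega)
    · simp only [Function.comp_apply, Sum.elim_inl, Sum.elim_inr] at h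
      rw [spInv_spD (by omega) (by have := i.2; omega),
        spInv_spA h2 (by have := k'.2; omega) ⟨k'.val + 1, by ring⟩] at h
      have := congrArg Prod.snd h
      simp at this
    · simp only [Function.comp_apply, Sum.elim_inl, Sum.elim_inr] at h
      rw [spInv_spD (by omega) (by have := i'.2; omega),
        spInv_spA h2 (by have := k.2; omega) ⟨k.val + 1, by ring⟩] at h
      have := congrArg Prod.snd h
      simp at this
    · simp only [Function.comp_apply, Sum.elim_inr] at h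
      rw [spInv_spA h2 (by have := k.2; omega) ⟨k.val + 1, by ring⟩,
        spInv_spA h2 (by have := k'.2; omega) ⟨k'.val + 1, by ring⟩] at h
      have := congrArg Prod.fst h
      simp only at this
      congr 1
      exact Fin.ext (by omega)
  · intro g hg
    have hTT := sq_of_orderOf g hg
    have hne : (g : Matrix (Fin m ⊕ Fin m) (Fin m ⊕ Fin m) F) ≠ 1 := by
      intro h1
      have : g = 1 := Subtype.ext h1
      rw [this, orderOf_one] at hg
      omega
    have hpos := rank_pos_of_ne_one hne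
    have hle := two_rank_le h2 hTT
    have hcard : Fintype.card (Fin m ⊕ Fin m) = 2 * m := by
      simp [Fintype.card_sum]; ring
    by_cases halt : ∀ v, Bsymp m F (((g : Matrix (Fin m ⊕ Fin m) (Fin m ⊕ Fin m) F) - 1) *ᵥ v) v = 0
    · obtain ⟨k, hk⟩ := even_rank_of_alt (Bsymp m F) (Bsymp_nondegenerate m) (Bsymp_isAlt m) h2
        (isoB_of_mem g) hTT halt
      refine ⟨Sum.inr ⟨k - 1, by omega⟩, ?_⟩
      simp only [Sum.elim_inr]
      rw [spInv_spA h2 (by omega) ⟨k - 1 + 1, by ring⟩]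
      apply Prod.ext
      · show 2 * (k - 1 + 1) = ((g : Matrix (Fin m ⊕ Fin m) (Fin m ⊕ Fin m) F) - 1).rank
        omega
      · show True = _
        exact (eq_true halt).symm
    · refine ⟨Sum.inl ⟨((g : Matrix (Fin m ⊕ Fin m) (Fin m ⊕ Fin m) F) - 1).rank - 1, by omega⟩, ?_⟩
      simp only [Sum.elim_inl]
      rw [spInv_spD (by omega) (by omega)]
      apply Prod.ext
      · show ((g : Matrix (Fin m ⊕ Fin m) (Fin m ⊕ Fin m) F) - 1).rank - 1 + 1
            = ((g : Matrix (Fin m ⊕ Fin m) (Fin m ⊕ Fin m) F) - 1).rank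
        omega
      · show False = _
        exact (eq_false halt).symm

end sp

end Cfsg.Agent.Lib.Helper44_SpCount
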