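import Mathlib
import Cfsg.Agent.Lib.Helper44_Inv2Class
import Cfsg.Agent.Lib.Helper44_InvCount
import Cfsg.Agent.Lib.Helper44_SpCount
import Cfsg.Agent.Lib.Helper44_StdForms
import Cfsg.Agent.Lib.Helper44_Levi

set_option autoImplicit false

/-!
The number of conjugacy classes of involutions of the orthogonal groups `O^±_{2m}(q)`, `q` even (helper44).
-/

namespace Cfsg.Agent.Lib.Helper44_OCount

open Cfsg Matrix Module Cfsg.Agent.Lib.Helper44_Orth Cfsg.Agent.Lib.Helper44_Refl
  Cfsg.Agent.Lib.Helper44_Spinor Cfsg.Agent.Lib.Helper14_CartanDieudonne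
  Cfsg.Agent.Lib.Helper44_Inv2 Cfsg.Agent.Lib.Helper44_Inv2Class
  Cfsg.Agent.Lib.Helper44_InvCount Cfsg.Agent.Lib.Helper44_SpCount
  Cfsg.Agent.Lib.Helper44_StdForms

section generic

variable {ι : Type} [Fintype ι] [DecidableEq ι] {F : Type*} [Field F]

/-- An involutory isometry matrix as an element of the isometry group. -/
def mkIso (Q : QuadraticForm F (ι → F)) (M : Matrix ι ι F) (hMM : M * M = 1) (hM : IsIsom Q M) :
    ↥(Cfsg.isometryGroup F (⇑Q)) :=
  ⟨⟨M, M, hMM, hMM⟩, (mem_isometryGroup_iff _ _).mpr hM⟩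

theorem mkIso_coe (Q : QuadraticForm F (ι → F)) (M : Matrix ι ι F) (hMM : M * M = 1)
    (hM : IsIsom Q M) :
    ((mkIso Q M hMM hM : Matrix.GeneralLinearGroup ι F) : Matrix ι ι F) = M := rfl

theorem orderOf_mkIso (Q : QuadraticForm F (ι → F)) (M : Matrix ι ι F) (hMM : M * M = 1)
    (hM : IsIsom Q M) (hne : M ≠ 1) : orderOf (mkIso Q M hMM hM) = 2 := by
  have : Fact (Nat.Prime 2) := ⟨Nat.prime_two⟩
  apply orderOf_eq_prime
  · rw [pow_two]
    apply Subtype.ext
    apply Units.ext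
    exact hMM
  · intro h
    apply hne
    have := congrArg (fun g : ↥(Cfsg.isometryGroup F (⇑Q)) =>
      ((g : Matrix.GeneralLinearGroup ι F) : Matrix ι ι F)) h
    exact this

/-- The conjugacy invariant: rank and type. -/
noncomputable def oInv (Q : QuadraticForm F (ι → F)) (g : ↥(Cfsg.isometryGroup F (⇑Q))) : ℕ × Prop :=
  ((((g : Matrix.GeneralLinearGroup ι F) : Matrix ι ι F) - 1).rank,
    ∀ v, Q ((((g : Matrix.GeneralLinearGroup ι F) : Matrix ι ι F) - 1) *ᵥ v) = 0)

theorem oInv_mkIso (Q : QuadraticForm F (ι → F)) (M : Matrix ι ι F) (hMM : M * M = 1)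
    (hM : IsIsom Q M) : oInv Q (mkIso Q M hMM hM) = ((M - 1).rank, ∀ v, Q ((M - 1) *ᵥ v) = 0) := rfl

theorem sq_of_orderOf (Q : QuadraticForm F (ι → F)) (g : ↥(Cfsg.isometryGroup F (⇑Q)))
    (hg : orderOf g = 2) :
    ((g : Matrix.GeneralLinearGroup ι F) : Matrix ι ι F)
      * ((g : Matrix.GeneralLinearGroup ι F) : Matrix ι ι F) = 1 := by
  have h := pow_orderOf_eq_one g
  rw [hg, pow_two] at h
  have := congrArg (fun g : ↥(Cfsg.isometryGroup F (⇑Q)) =>
    ((g : Matrix.GeneralLinearGroup ι F) : Matrix ι ι F)) h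
  exact this

theorem oInv_conj (Q : QuadraticForm F (ι → F)) (h2 : (2 : F) = 0)
    (g h : ↥(Cfsg.isometryGroup F (⇑Q))) (hgh : IsConj g h) : oInv Q g = oInv Q h := by
  obtain ⟨c, hc'⟩ := isConj_iff.mp hgh
  have hc : c * g = h * c := mul_inv_eq_iff_eq_mul.mp hc'
  have hcm : ((c : Matrix.GeneralLinearGroup ι F) : Matrix ι ι F)
      * ((g : Matrix.GeneralLinearGroup ι F) : Matrix ι ι F)
      = ((h : Matrix.GeneralLinearGroup ι F) : Matrix ι ι F)
        * ((c : Matrix.GeneralLinearGroup ι F) : Matrix ι ι F) := by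
    have := congrArg (fun g : ↥(Cfsg.isometryGroup F (⇑Q)) =>
      ((g : Matrix.GeneralLinearGroup ι F) : Matrix ι ι F)) hc
    exact this
  obtain ⟨hr, ht⟩ := rank_type_of_sp_conj Q h2 (isIsom_of_mem Q g) (isIsom_of_mem Q h)
    (c : Matrix.GeneralLinearGroup ι F) (fun u v => (isIsom_of_mem Q c).polar u v) hcm
  exact Prod.ext hr (propext ht)

theorem isConj_of_oInv [Finite F] (Q : QuadraticForm F (ι → F))
    (hQ : (QuadraticMap.polarBilin Q).Nondegenerate) (h2 : (2 : F) = 0)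
    (g h : ↥(Cfsg.isometryGroup F (⇑Q))) (hg : orderOf g = 2) (hh : orderOf h = 2)
    (hI : oInv Q g = oInv Q h) : IsConj g h := by
  have hr : (((g : Matrix.GeneralLinearGroup ι F) : Matrix ι ι F) - 1).rank
      = (((h : Matrix.GeneralLinearGroup ι F) : Matrix ι ι F) - 1).rank := congrArg Prod.fst hI
  have ht : (∀ v, Q ((((g : Matrix.GeneralLinearGroup ι F) : Matrix ι ι F) - 1) *ᵥ v) = 0) ↔
      (∀ v, Q ((((h : Matrix.GeneralLinearGroup ι F) : Matrix ι ι F) - 1) *ᵥ v) = 0) :=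
    Iff.of_eq (congrArg Prod.snd hI)
  obtain ⟨c, hc⟩ := conj_of_rank_type Q hQ h2 (isIsom_of_mem Q g) (sq_of_orderOf Q g hg)
    (isIsom_of_mem Q h) (sq_of_orderOf Q h hh) hr ht
  rw [isConj_iff]
  refine ⟨c, ?_⟩
  rw [mul_inv_eq_iff_eq_mul]
  apply Subtype.ext
  apply Units.ext
  exact hc

theorem even_rank_of_alt_O (Q : QuadraticForm F (ι → F))
    (hQ : (QuadraticMap.polarBilin Q).Nondegenerate) (h2 : (2 : F) = 0) {T : Matrix ι ι F}
    (hT : IsIsom Q T) (hTT : T * T = 1) (ha : ∀ v, Q ((T - 1) *ᵥ v) = 0) : Even (T - 1).rank := by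
  obtain ⟨k, hk, -⟩ := exists_gram_alt Q hQ h2 hT hTT ha
  exact ⟨k, by omega⟩

/-- Facts about an involution needed for surjectivity of the parametrisation. -/
theorem involution_facts (Q : QuadraticForm F (ι → F)) (h2 : (2 : F) = 0)
    (g : ↥(Cfsg.isometryGroup F (⇑Q))) (hg : orderOf g = 2) :
    0 < (((g : Matrix.GeneralLinearGroup ι F) : Matrix ι ι F) - 1).rank ∧
      2 * (((g : Matrix.GeneralLinearGroup ι F) : Matrix ι ι F) - 1).rank ≤ Fintype.card ι := by
  have hTT := sq_of_orderOf Q g hg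
  have hne : ((g : Matrix.GeneralLinearGroup ι F) : Matrix ι ι F) ≠ 1 := by
    intro h1
    have : g = 1 := by
      apply Subtype.ext
      apply Units.ext
      exact h1
    rw [this, orderOf_one] at hg
    omega
  exact ⟨rank_pos_of_ne_one hne, two_rank_le h2 hTT⟩

end generic

/-! ### The swap involutions -/

section swap

variable {m : ℕ} {F : Type*} [Field F]

/-- The involution swapping `x_i ↔ y_i` for `i < s`. -/
def swapM (s : ℕ) : Matrix (Fin m ⊕ Fin m) (Fin m ⊕ Fin m) F :=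
  fromBlocks (1 - Dm s) (Dm s) (Dm s) (1 - Dm s)

theorem swapM_mulVec (s : ℕ) (v : Fin m ⊕ Fin m → F) :
    swapM s *ᵥ v = Sum.elim
      (fun i => (1 - uvec s i) * v (Sum.inl i) + uvec s i * v (Sum.inr i))
      (fun i => uvec s i * v (Sum.inl i) + (1 - uvec s i) * v (Sum.inr i)) := by
  rw [swapM, fromBlocks_mulVec]
  ext k
  rcases k with i | i
  · simp only [Sum.elim_inl, Pi.add_apply, Matrix.sub_mulVec, Matrix.one_mulVec, Dm,
      mulVec_diagonal, Pi.sub_apply, Function.comp_apply]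
    ring
  · simp only [Sum.elim_inr, Pi.add_apply, Matrix.sub_mulVec, Matrix.one_mulVec, Dm,
      mulVec_diagonal, Pi.sub_apply, Function.comp_apply]
    ring

theorem swapM_mul_self (s : ℕ) : swapM (m := m) (F := F) s * swapM s = 1 := by
  rw [swapM, fromBlocks_multiply, ← fromBlocks_one]
  have hD := Dm_mul_Dm (m := m) (F := F) s
  have h1 : (1 - Dm (m := m) (F := F) s) * (1 - Dm s) + Dm s * Dm s = 1 := by
    rw [Matrix.sub_mul, Matrix.mul_sub, Matrix.mul_sub, hD]
    simp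
  have h3 : (1 - Dm (m := m) (F := F) s) * Dm s + Dm s * (1 - Dm s) = 0 := by
    rw [Matrix.sub_mul, Matrix.mul_sub, hD]
    simp
  have h4 : Dm (m := m) (F := F) s * (1 - Dm s) + (1 - Dm s) * Dm s = 0 := by
    rw [add_comm]; exact h3
  have h5 : Dm (m := m) (F := F) s * Dm s + (1 - Dm s) * (1 - Dm s) = 1 := by
    rw [add_comm]; exact h1
  rw [h1, h3, h4, h5]

theorem swapM_isIsom (s : ℕ) : IsIsom (qfPlus m F) (swapM s) := by
  intro v
  show (⇑(qfPlus m F)) (swapM s *ᵥ v) = (⇑(qfPlus m F)) v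
  rw [coe_qfPlus, swapM_mulVec]
  simp only [Cfsg.quadFormPlus, Sum.elim_inl, Sum.elim_inr]
  apply Finset.sum_congr rfl
  intro i _
  have hu := uvec_mul_self (F := F) s i
  linear_combination (-(v (Sum.inl i) - v (Sum.inr i)) ^ 2) * hu

/-- `[[1, 0], [1, 1]]`. -/
def lowerOne : Matrix (Fin m ⊕ Fin m) (Fin m ⊕ Fin m) F := fromBlocks 1 0 1 1

theorem lowerOne_mul_self (h2 : (2 : F) = 0) : lowerOne (m := m) (F := F) * lowerOne = 1 := by
  rw [lowerOne, fromBlocks_multiply, ← fromBlocks_one]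
  have : (1 : Matrix (Fin m) (Fin m) F) + 1 = 0 := by
    rw [← two_smul F (1 : Matrix (Fin m) (Fin m) F), h2, zero_smul]
  simp [this]

theorem swapM_sub_one (h2 : (2 : F) = 0) (s : ℕ) :
    swapM (m := m) (F := F) s - 1 = lowerOne * (upper (Dm s) - 1) * lowerOne := by
  rw [upper_sub_one, lowerOne, fromBlocks_multiply, fromBlocks_multiply, swapM, ← fromBlocks_one,
    sub_eq_add_neg, fromBlocks_neg, fromBlocks_add]
  have hneg : -Dm (m := m) (F := F) s = Dm s := by
    have : Dm (m := m) (F := F) s + Dm s = 0 := by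
      rw [← two_smul F (Dm (m := m) (F := F) s), h2, zero_smul]
    exact neg_eq_of_add_eq_zero_left this
  simp [sub_eq_add_neg, hneg, add_comm]

theorem rank_swapM_sub_one (h2 : (2 : F) = 0) {s : ℕ} (hs : s ≤ m) :
    (swapM (m := m) (F := F) s - 1).rank = s := by
  have hdet : IsUnit (lowerOne (m := m) (F := F)).det :=
    Matrix.isUnit_det_of_left_inverse (lowerOne_mul_self h2)
  rw [swapM_sub_one h2, Matrix.rank_mul_eq_left_of_isUnit_det _ _ hdet,
    Matrix.rank_mul_eq_right_of_isUnit_det _ _ hdet, rank_upper_sub_one, rank_Dm hs]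

theorem swapM_nonalt {s : ℕ} (hs0 : 0 < s) (hs : s ≤ m) :
    ¬ ∀ v, qfPlus m F ((swapM s - 1) *ᵥ v) = 0 := by
  intro h
  have hm : 0 < m := lt_of_lt_of_le hs0 hs
  have h1 := h (Pi.single (Sum.inl ⟨0, hm⟩) 1)
  have h3 : (⇑(qfPlus m F)) ((swapM s - 1) *ᵥ (Pi.single (Sum.inl ⟨0, hm⟩) 1)) = 0 := h1
  rw [coe_qfPlus, N_apply, swapM_mulVec] at h3
  simp only [Cfsg.quadFormPlus, Pi.sub_apply, Sum.elim_inl, Sum.elim_inr] at h3
  rw [Finset.sum_eq_single ⟨0, hm⟩] at h3
  · simp [uvec, hs0] at h3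
  · intro i _ hi
    have : (Sum.inl i : Fin m ⊕ Fin m) ≠ Sum.inl ⟨0, hm⟩ := fun h => hi (Sum.inl_injective h)
    simp [this]
  · intro h; exact absurd (Finset.mem_univ _) h

end swap

/-! ### Plus type -/

section plus

variable {m : ℕ} {F : Type*} [Field F]

theorem upper_isIsom (h2 : (2 : F) = 0) (s : ℕ) : IsIsom (qfPlus m F) (upper (Am s)) := by
  intro v
  show (⇑(qfPlus m F)) (upper (Am s) *ᵥ v) = (⇑(qfPlus m F)) v
  have hform := Am_form h2 s (v ∘ Sum.inr)
  rw [coe_qfPlus, upper, fromBlocks_mulVec]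
  simp only [Cfsg.quadFormPlus, Sum.elim_inl, Sum.elim_inr, Matrix.one_mulVec, Matrix.zero_mulVec,
    zero_add, Pi.add_apply, Function.comp_apply, add_mul, Finset.sum_add_distrib]
  rw [add_eq_left]
  rw [dotProduct_comm] at hform
  exact hform

theorem upper_alt (A : Matrix (Fin m) (Fin m) F) (v : Fin m ⊕ Fin m → F) :
    qfPlus m F ((upper A - 1) *ᵥ v) = 0 := by
  show (⇑(qfPlus m F)) ((upper A - 1) *ᵥ v) = 0
  rw [coe_qfPlus, upper_sub_one_mulVec]
  simp [Cfsg.quadFormPlus]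

/-- The non-alternating involution of rank `s` in `O⁺`. -/
def plusD (s : ℕ) : ↥(Cfsg.isometryGroup F (⇑(qfPlus m F))) :=
  mkIso (qfPlus m F) (swapM s) (swapM_mul_self s) (swapM_isIsom s)

/-- The alternating involution of rank `s` (`s` even) in `O⁺`. -/
def plusA (h2 : (2 : F) = 0) (s : ℕ) : ↥(Cfsg.isometryGroup F (⇑(qfPlus m F))) :=
  mkIso (qfPlus m F) (upper (Am s)) (upper_sq h2 _) (upper_isIsom h2 s)

theorem oInv_plusD (h2 : (2 : F) = 0) {s : ℕ} (hs0 : 0 < s) (hs : s ≤ m) :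
    oInv (qfPlus m F) (plusD (m := m) (F := F) s) = (s, False) := by
  rw [plusD, oInv_mkIso]
  apply Prod.ext
  · exact rank_swapM_sub_one h2 hs
  · exact eq_false (swapM_nonalt hs0 hs)

theorem oInv_plusA (h2 : (2 : F) = 0) {s : ℕ} (hs : s ≤ m) (hev : Even s) :
    oInv (qfPlus m F) (plusA (m := m) h2 s) = (s, True) := by
  rw [plusA, oInv_mkIso]
  apply Prod.ext
  · show (upper (Am (m := m) (F := F) s) - 1).rank = s
    rw [rank_upper_sub_one, rank_Am h2 hs hev]
  · exact eq_true (upper_alt _)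

theorem orderOf_plusD (h2 : (2 : F) = 0) {s : ℕ} (hs0 : 0 < s) (hs : s ≤ m) :
    orderOf (plusD (m := m) (F := F) s) = 2 := by
  apply orderOf_mkIso
  intro h
  have := rank_swapM_sub_one (m := m) (F := F) h2 hs
  rw [h, sub_self, Matrix.rank_zero] at this
  omega

theorem orderOf_plusA (h2 : (2 : F) = 0) {s : ℕ} (hs0 : 0 < s) (hs : s ≤ m) (hev : Even s) :
    orderOf (plusA (m := m) (F := F) h2 s) = 2 := by
  apply orderOf_mkIso
  intro h
  have := rank_upper_sub_one (Am (m := m) (F := F) s)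
  rw [h, sub_self, Matrix.rank_zero, rank_Am h2 hs hev] at this
  omega

/-- **Number of classes of involutions in `O⁺_{2m}(q)`, `q` even.** -/
theorem card_plus_involution_classes [Finite F] (h2 : (2 : F) = 0) :
    Nat.card {C : ConjClasses ↥(Cfsg.isometryGroup F (⇑(qfPlus m F))) //
      ∃ g : ↥(Cfsg.isometryGroup F (⇑(qfPlus m F))), ConjClasses.mk g = C ∧ orderOf g = 2}
      = m + m / 2 := by
  have hQ := Cfsg.Agent.Lib.Helper44_Levi.nondegenerate_qfPlus (m := m) (F := F)
  have key := card_involution_classes (G := ↥(Cfsg.isometryGroup F (⇑(qfPlus m F))))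
    (κ := Fin m ⊕ Fin (m / 2)) (oInv (qfPlus m F)) (oInv_conj (qfPlus m F) h2)
    (isConj_of_oInv (qfPlus m F) hQ h2)
    (fun x => Sum.elim (fun i : Fin m => plusD (i.val + 1))
      (fun k : Fin (m / 2) => plusA h2 (2 * (k.val + 1))) x)
    ?_ ?_ ?_
  · rw [key]
    simp
  · rintro (i | k)
    · exact orderOf_plusD h2 (by omega) (by have := i.2; omega)
    · exact orderOf_plusA h2 (by omega) (by have := k.2; omega) ⟨k.val + 1, by ring⟩
  · rintro (i | k) (i' | k') h
    · simp only [Function.comp_apply, Sum.elim_inl] at h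
      rw [oInv_plusD h2 (by omega) (by have := i.2; omega),
        oInv_plusD h2 (by omega) (by have := i'.2; omega)] at h
      have := congrArg Prod.fst h
      simp only at this
      congr 1
      exact Fin.ext (by omega)
    · simp only [Function.comp_apply, Sum.elim_inl, Sum.elim_inr] at h
      rw [oInv_plusD h2 (by omega) (by have := i.2; omega),
        oInv_plusA h2 (by have := k'.2; omega) ⟨k'.val + 1, by ring⟩] at h
      have := congrArg Prod.snd h
      simp at this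
    · simp only [Function.comp_apply, Sum.elim_inl, Sum.elim_inr] at h
      rw [oInv_plusD h2 (by omega) (by have := i'.2; omega),
        oInv_plusA h2 (by have := k.2; omega) ⟨k.val + 1, by ring⟩] at h
      have := congrArg Prod.snd h
      simp at this
    · simp only [Function.comp_apply, Sum.elim_inr] at h
      rw [oInv_plusA h2 (by have := k.2; omega) ⟨k.val + 1, by ring⟩,
        oInv_plusA h2 (by have := k'.2; omega) ⟨k'.val + 1, by ring⟩] at h
      have := congrArg Prod.fst h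
      simp only at this
      congr 1
      exact Fin.ext (by omega)
  · intro g hg
    obtain ⟨hpos, hle⟩ := involution_facts (qfPlus m F) h2 g hg
    have hcard : Fintype.card (Fin m ⊕ Fin m) = 2 * m := by
      simp [Fintype.card_sum]; ring
    by_cases halt : ∀ v, qfPlus m F ((((g : Matrix.GeneralLinearGroup (Fin m ⊕ Fin m) F) :
        Matrix (Fin m ⊕ Fin m) (Fin m ⊕ Fin m) F) - 1) *ᵥ v) = 0
    · obtain ⟨k, hk⟩ := even_rank_of_alt_O (qfPlus m F) hQ h2 (isIsom_of_mem _ g)
        (sq_of_orderOf _ g hg) halt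
      refine ⟨Sum.inr ⟨k - 1, by omega⟩, ?_⟩
      simp only [Sum.elim_inr]
      rw [oInv_plusA h2 (by omega) ⟨k - 1 + 1, by ring⟩]
      apply Prod.ext
      · show 2 * (k - 1 + 1) = (((g : Matrix.GeneralLinearGroup (Fin m ⊕ Fin m) F) :
          Matrix (Fin m ⊕ Fin m) (Fin m ⊕ Fin m) F) - 1).rank
        omega
      · show True = _
        exact (eq_true halt).symm
    · refine ⟨Sum.inl ⟨(((g : Matrix.GeneralLinearGroup (Fin m ⊕ Fin m) F) :
          Matrix (Fin m ⊕ Fin m) (Fin m ⊕ Fin m) F) - 1).rank - 1, by omega⟩, ?_⟩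
      simp only [Sum.elim_inl]
      rw [oInv_plusD h2 (by omega) (by omega)]
      apply Prod.ext
      · show (((g : Matrix.GeneralLinearGroup (Fin m ⊕ Fin m) F) :
          Matrix (Fin m ⊕ Fin m) (Fin m ⊕ Fin m) F) - 1).rank - 1 + 1
            = (((g : Matrix.GeneralLinearGroup (Fin m ⊕ Fin m) F) :
          Matrix (Fin m ⊕ Fin m) (Fin m ⊕ Fin m) F) - 1).rank
        omega
      · show False = _
        exact (eq_false halt).symm

end plus

end Cfsg.Agent.Lib.Helper44_OCount
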