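import Mathlib
import Cfsg.Agent.Lib.Helper44_OCount
import Cfsg.Agent.Lib.Helper44_WittIndexMinus

set_option autoImplicit false

/-!
The number of conjugacy classes of involutions of `O⁻_{2m}(q)`, `q` even, is `m + ⌊(m-1)/2⌋` (helper44).
-/

namespace Cfsg.Agent.Lib.Helper44_OMinusCount

open Cfsg Matrix Module Cfsg.Agent.Lib.Helper44_Orth Cfsg.Agent.Lib.Helper44_Refl
  Cfsg.Agent.Lib.Helper44_Spinor Cfsg.Agent.Lib.Helper14_CartanDieudonne
  Cfsg.Agent.Lib.Helper44_Inv2 Cfsg.Agent.Lib.Helper44_Inv2Class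
  Cfsg.Agent.Lib.Helper44_InvCount Cfsg.Agent.Lib.Helper44_SpCount
  Cfsg.Agent.Lib.Helper44_StdForms Cfsg.Agent.Lib.Helper44_OCount
  Cfsg.Agent.Lib.Helper44_WittIndexMinus

section rank

variable {k l : Type} [Fintype k] [Fintype l] [DecidableEq k] [DecidableEq l] {F : Type*} [Field F]

/-- Extension by zero on the right summand. -/
def eL : (k → F) →ₗ[F] (k ⊕ l → F) where
  toFun w := Sum.elim w 0
  map_add' a b := by
    ext i
    rcases i with i | i <;> simp
  map_smul' r a := by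
    ext i
    rcases i with i | i <;> simp

/-- Extension by zero on the left summand. -/
def eR : (l → F) →ₗ[F] (k ⊕ l → F) where
  toFun w := Sum.elim 0 w
  map_add' a b := by
    ext i
    rcases i with i | i <;> simp
  map_smul' r a := by
    ext i
    rcases i with i | i <;> simp

omit [Fintype k] [Fintype l] [DecidableEq k] [DecidableEq l] in
theorem eL_injective : Function.Injective (eL (k := k) (l := l) (F := F)) := by
  intro a b h
  ext i
  have := congrFun h (Sum.inl i)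
  simpa [eL] using this

omit [Fintype k] [Fintype l] [DecidableEq k] [DecidableEq l] in
theorem eR_injective : Function.Injective (eR (k := k) (l := l) (F := F)) := by
  intro a b h
  ext i
  have := congrFun h (Sum.inr i)
  simpa [eR] using this

omit [DecidableEq k] [DecidableEq l] in
theorem diag_mulVec (X : Matrix k k F) (Y : Matrix l l F) (v : k ⊕ l → F) :
    (fromBlocks X 0 0 Y) *ᵥ v = Sum.elim (X *ᵥ (v ∘ Sum.inl)) (Y *ᵥ (v ∘ Sum.inr)) := by
  rw [fromBlocks_mulVec]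
  simp

omit [DecidableEq k] [DecidableEq l] in
/-- The rank of a block-diagonal matrix. -/
theorem rank_fromBlocks_diag (X : Matrix k k F) (Y : Matrix l l F) :
    (fromBlocks X 0 0 Y).rank = X.rank + Y.rank := by
  have hrange : LinearMap.range (fromBlocks X 0 0 Y).mulVecLin
      = (LinearMap.range X.mulVecLin).map (eL (k := k) (l := l) (F := F))
        ⊔ (LinearMap.range Y.mulVecLin).map (eR (k := k) (l := l) (F := F)) := by
    apply le_antisymm
    · rintro _ ⟨v, rfl⟩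
      rw [Matrix.mulVecLin_apply, diag_mulVec]
      have : (Sum.elim (X *ᵥ (v ∘ Sum.inl)) (Y *ᵥ (v ∘ Sum.inr)) : k ⊕ l → F)
          = eL (X *ᵥ (v ∘ Sum.inl)) + eR (Y *ᵥ (v ∘ Sum.inr)) := by
        ext i
        rcases i with i | i <;> simp [eL, eR]
      rw [this]
      exact Submodule.add_mem_sup ⟨_, ⟨v ∘ Sum.inl, rfl⟩, rfl⟩ ⟨_, ⟨v ∘ Sum.inr, rfl⟩, rfl⟩
    · apply sup_le
      · rintro _ ⟨_, ⟨x, rfl⟩, rfl⟩
        refine ⟨Sum.elim x 0, ?_⟩
        rw [Matrix.mulVecLin_apply, diag_mulVec, Matrix.mulVecLin_apply]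
        ext i
        rcases i with i | i <;> simp [eL]
      · rintro _ ⟨_, ⟨y, rfl⟩, rfl⟩
        refine ⟨Sum.elim 0 y, ?_⟩
        rw [Matrix.mulVecLin_apply, diag_mulVec, Matrix.mulVecLin_apply]
        ext i
        rcases i with i | i <;> simp [eR]
  have hdisj : (LinearMap.range X.mulVecLin).map (eL (k := k) (l := l) (F := F))
      ⊓ (LinearMap.range Y.mulVecLin).map (eR (k := k) (l := l) (F := F)) = ⊥ := by
    rw [eq_bot_iff]
    rintro w ⟨⟨a, -, rfl⟩, ⟨b, -, hb⟩⟩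
    rw [Submodule.mem_bot]
    have ha : a = 0 := by
      ext i
      have := congrFun hb (Sum.inl i)
      simp only [eL, eR, LinearMap.coe_mk, AddHom.coe_mk, Sum.elim_inl, Pi.zero_apply] at this
      exact this.symm
    rw [ha, map_zero]
  have h1 : (fromBlocks X 0 0 Y).rank
      = finrank F ↥(LinearMap.range (fromBlocks X 0 0 Y).mulVecLin) := rfl
  have h2 : X.rank = finrank F ↥(LinearMap.range X.mulVecLin) := rfl
  have h3 : Y.rank = finrank F ↥(LinearMap.range Y.mulVecLin) := rfl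
  have h4 := Submodule.finrank_sup_add_finrank_inf_eq
    ((LinearMap.range X.mulVecLin).map (eL (k := k) (l := l) (F := F)))
    ((LinearMap.range Y.mulVecLin).map (eR (k := k) (l := l) (F := F)))
  rw [hdisj, finrank_bot, add_zero] at h4
  have h5 := (Submodule.equivMapOfInjective _ (eL_injective (k := k) (l := l) (F := F))
    (LinearMap.range X.mulVecLin)).finrank_eq
  have h6 := (Submodule.equivMapOfInjective _ (eR_injective (k := k) (l := l) (F := F))
    (LinearMap.range Y.mulVecLin)).finrank_eq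
  rw [h1, hrange, h4, h2, h3, h5, h6]

end rank

section minus

variable {n : ℕ} {F : Type*} [Field F]

/-- The binary part of the minus-type form. -/
def bin (a b : F) (z : Fin 2 → F) : F := z 0 ^ 2 + a * z 0 * z 1 + b * z 1 ^ 2

theorem qfMinus_eq (a b : F) (v : (Fin n ⊕ Fin n) ⊕ Fin 2 → F) :
    qfMinus n F a b v = qfPlus n F (v ∘ Sum.inl) + bin a b (v ∘ Sum.inr) := by
  show (⇑(qfMinus n F a b)) v = (⇑(qfPlus n F)) (v ∘ Sum.inl) + _
  rw [coe_qfMinus, coe_qfPlus]
  rfl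

/-- Block-diagonal matrices on `(Fin n ⊕ Fin n) ⊕ Fin 2`. -/
def bl (M : Matrix (Fin n ⊕ Fin n) (Fin n ⊕ Fin n) F) (R : Matrix (Fin 2) (Fin 2) F) :
    Matrix ((Fin n ⊕ Fin n) ⊕ Fin 2) ((Fin n ⊕ Fin n) ⊕ Fin 2) F := fromBlocks M 0 0 R

theorem bl_mul_self {M : Matrix (Fin n ⊕ Fin n) (Fin n ⊕ Fin n) F} {R : Matrix (Fin 2) (Fin 2) F}
    (hM : M * M = 1) (hR : R * R = 1) : bl M R * bl M R = 1 := by
  rw [bl, fromBlocks_multiply, ← fromBlocks_one]
  simp [hM, hR]

theorem bl_sub_one (M : Matrix (Fin n ⊕ Fin n) (Fin n ⊕ Fin n) F) (R : Matrix (Fin 2) (Fin 2) F) :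
    bl M R - 1 = fromBlocks (M - 1) 0 0 (R - 1) := by
  rw [bl, ← fromBlocks_one, sub_eq_add_neg, fromBlocks_neg, fromBlocks_add]
  simp [sub_eq_add_neg]

theorem bl_isIsom (a b : F) {M : Matrix (Fin n ⊕ Fin n) (Fin n ⊕ Fin n) F}
    {R : Matrix (Fin 2) (Fin 2) F} (hM : IsIsom (qfPlus n F) M)
    (hR : ∀ z, bin a b (R *ᵥ z) = bin a b z) : IsIsom (qfMinus n F a b) (bl M R) := by
  intro v
  rw [qfMinus_eq, qfMinus_eq, bl, diag_mulVec]
  have h1 : (Sum.elim (M *ᵥ (v ∘ Sum.inl)) (R *ᵥ (v ∘ Sum.inr)) :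
      (Fin n ⊕ Fin n) ⊕ Fin 2 → F) ∘ Sum.inl = M *ᵥ (v ∘ Sum.inl) := rfl
  have h3 : (Sum.elim (M *ᵥ (v ∘ Sum.inl)) (R *ᵥ (v ∘ Sum.inr)) :
      (Fin n ⊕ Fin n) ⊕ Fin 2 → F) ∘ Sum.inr = R *ᵥ (v ∘ Sum.inr) := rfl
  rw [h1, h3, hM, hR]

theorem rank_bl_sub_one (M : Matrix (Fin n ⊕ Fin n) (Fin n ⊕ Fin n) F)
    (R : Matrix (Fin 2) (Fin 2) F) : (bl M R - 1).rank = (M - 1).rank + (R - 1).rank := by
  rw [bl_sub_one, rank_fromBlocks_diag]

theorem qfMinus_bl_sub_one (a b : F) (M : Matrix (Fin n ⊕ Fin n) (Fin n ⊕ Fin n) F)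
    (R : Matrix (Fin 2) (Fin 2) F) (v : (Fin n ⊕ Fin n) ⊕ Fin 2 → F) :
    qfMinus n F a b ((bl M R - 1) *ᵥ v)
      = qfPlus n F ((M - 1) *ᵥ (v ∘ Sum.inl)) + bin a b ((R - 1) *ᵥ (v ∘ Sum.inr)) := by
  rw [qfMinus_eq, bl_sub_one, diag_mulVec]
  rfl

/-- The reflection in the first basis vector of the binary part (characteristic two). -/
def Rm (a : F) : Matrix (Fin 2) (Fin 2) F := !![1, a; 0, 1]

theorem Rm_mul_self (h2 : (2 : F) = 0) (a : F) : Rm a * Rm a = 1 := by
  ext i j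
  fin_cases i <;> fin_cases j <;> simp [Rm, Matrix.mul_apply, Fin.sum_univ_two]
  rw [← two_mul, h2, zero_mul]

theorem Rm_mulVec (a : F) (z : Fin 2 → F) : Rm a *ᵥ z = ![z 0 + a * z 1, z 1] := by
  ext i
  fin_cases i <;> simp [Rm, Matrix.mulVec, dotProduct, Fin.sum_univ_two]

theorem bin_Rm (h2 : (2 : F) = 0) (a b : F) (z : Fin 2 → F) : bin a b (Rm a *ᵥ z) = bin a b z := by
  rw [Rm_mulVec]
  simp only [bin, Matrix.cons_val_zero, Matrix.cons_val_one]
  linear_combination (a * z 0 * z 1 + a ^ 2 * z 1 ^ 2) * h2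

theorem Rm_ne_one {a : F} (ha : a ≠ 0) : Rm a ≠ 1 := by
  intro h
  have := congrFun (congrFun h 0) 1
  simp [Rm] at this
  exact ha this

theorem rank_Rm_sub_one (h2 : (2 : F) = 0) {a : F} (ha : a ≠ 0) : (Rm a - 1).rank = 1 := by
  have h1 := rank_pos_of_ne_one (Rm_ne_one ha)
  have h3 := two_rank_le h2 (Rm_mul_self h2 a)
  simp only [Fintype.card_fin] at h3
  omega

theorem bin_Rm_sub_one (a b : F) : bin a b ((Rm a - 1) *ᵥ ![0, 1]) = a ^ 2 := by
  rw [N_apply, Rm_mulVec]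
  simp [bin]

variable (a b : F)

/-- The non-alternating involution of rank `s` (`1 ≤ s ≤ n + 1`) in `O⁻`. -/
def minusD (h2 : (2 : F) = 0) (s : ℕ) : ↥(Cfsg.isometryGroup F (⇑(qfMinus n F a b))) :=
  mkIso (qfMinus n F a b) (bl (swapM (s - 1)) (Rm a))
    (bl_mul_self (swapM_mul_self _) (Rm_mul_self h2 a))
    (bl_isIsom a b (swapM_isIsom _) (bin_Rm h2 a b))

/-- The alternating involution of rank `s` (`s` even, `s ≤ n`) in `O⁻`. -/
def minusA (h2 : (2 : F) = 0) (s : ℕ) : ↥(Cfsg.isometryGroup F (⇑(qfMinus n F a b))) :=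
  mkIso (qfMinus n F a b) (bl (upper (Am s)) 1)
    (bl_mul_self (upper_sq h2 _) (Matrix.one_mul 1))
    (bl_isIsom a b (upper_isIsom h2 s) (fun z => by rw [Matrix.one_mulVec]))

theorem oInv_minusD (h2 : (2 : F) = 0) (ha : a ≠ 0) {s : ℕ} (hs0 : 0 < s) (hs : s ≤ n + 1) :
    oInv (qfMinus n F a b) (minusD (n := n) a b h2 s) = (s, False) := by
  rw [minusD, oInv_mkIso]
  apply Prod.ext
  · show (bl (swapM (m := n) (F := F) (s - 1)) (Rm a) - 1).rank = s
    rw [rank_bl_sub_one, rank_swapM_sub_one h2 (by omega), rank_Rm_sub_one h2 ha]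
    omega
  · apply eq_false
    intro h
    have h1 := h (Sum.elim 0 ![0, 1])
    rw [qfMinus_bl_sub_one] at h1
    have e1 : (Sum.elim (0 : Fin n ⊕ Fin n → F) ![0, 1] : (Fin n ⊕ Fin n) ⊕ Fin 2 → F) ∘ Sum.inl = 0 := rfl
    have e2 : (Sum.elim (0 : Fin n ⊕ Fin n → F) ![0, 1] : (Fin n ⊕ Fin n) ⊕ Fin 2 → F) ∘ Sum.inr
        = ![0, 1] := rfl
    rw [e1, e2, Matrix.mulVec_zero, map_zero, zero_add, bin_Rm_sub_one] at h1
    exact ha (pow_eq_zero_iff (two_ne_zero) |>.mp h1)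

theorem oInv_minusA (h2 : (2 : F) = 0) {s : ℕ} (hs : s ≤ n) (hev : Even s) :
    oInv (qfMinus n F a b) (minusA (n := n) a b h2 s) = (s, True) := by
  rw [minusA, oInv_mkIso]
  apply Prod.ext
  · show (bl (upper (Am (m := n) (F := F) s)) 1 - 1).rank = s
    rw [rank_bl_sub_one, rank_upper_sub_one, rank_Am h2 hs hev, sub_self, Matrix.rank_zero, add_zero]
  · apply eq_true
    intro v
    rw [qfMinus_bl_sub_one, upper_alt, sub_self, Matrix.zero_mulVec]
    simp [bin]

theorem orderOf_of_oInv {ι : Type} [Fintype ι] [DecidableEq ι] (Q : QuadraticForm F (ι → F))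
    (M : Matrix ι ι F) (hMM : M * M = 1) (hM : IsIsom Q M) (hr : 0 < (M - 1).rank) :
    orderOf (mkIso Q M hMM hM) = 2 := by
  apply orderOf_mkIso
  intro h
  rw [h, sub_self, Matrix.rank_zero] at hr
  omega

/-- **Number of classes of involutions in `O⁻_{2(n+1)}(q)`, `q` even.** -/
theorem card_minus_involution_classes [Finite F] (h2 : (2 : F) = 0)
    (hab : ∀ z₁ z₂ : F, z₁ ^ 2 + a * z₁ * z₂ + b * z₂ ^ 2 = 0 → z₁ = 0 ∧ z₂ = 0)
    (hQ : (QuadraticMap.polarBilin (qfMinus n F a b)).Nondegenerate) (ha : a ≠ 0) :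
    Nat.card {C : ConjClasses ↥(Cfsg.isometryGroup F (⇑(qfMinus n F a b))) //
      ∃ g : ↥(Cfsg.isometryGroup F (⇑(qfMinus n F a b))), ConjClasses.mk g = C ∧ orderOf g = 2}
      = (n + 1) + n / 2 := by
  have key := card_involution_classes (G := ↥(Cfsg.isometryGroup F (⇑(qfMinus n F a b))))
    (κ := Fin (n + 1) ⊕ Fin (n / 2)) (oInv (qfMinus n F a b)) (oInv_conj (qfMinus n F a b) h2)
    (isConj_of_oInv (qfMinus n F a b) hQ h2)
    (fun x => Sum.elim (fun i : Fin (n + 1) => minusD a b h2 (i.val + 1))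
      (fun k : Fin (n / 2) => minusA a b h2 (2 * (k.val + 1))) x)
    ?_ ?_ ?_
  · rw [key]
    simp
  · rintro (i | k)
    · show orderOf (minusD (n := n) a b h2 (i.val + 1)) = 2
      apply orderOf_of_oInv
      have := congrArg Prod.fst (oInv_minusD (n := n) a b h2 ha (s := i.val + 1) (by omega)
        (by have := i.2; omega))
      rw [minusD, oInv_mkIso] at this
      simp only at this
      rw [this]
      omega
    · show orderOf (minusA (n := n) a b h2 (2 * (k.val + 1))) = 2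
      apply orderOf_of_oInv
      have := congrArg Prod.fst (oInv_minusA (n := n) a b h2 (s := 2 * (k.val + 1))
        (by have := k.2; omega) ⟨k.val + 1, by ring⟩)
      rw [minusA, oInv_mkIso] at this
      simp only at this
      rw [this]
      omega
  · rintro (i | k) (i' | k') h
    · simp only [Function.comp_apply, Sum.elim_inl] at h
      rw [oInv_minusD a b h2 ha (by omega) (by have := i.2; omega),
        oInv_minusD a b h2 ha (by omega) (by have := i'.2; omega)] at h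
      have := congrArg Prod.fst h
      simp only at this
      congr 1
      exact Fin.ext (by omega)
    · simp only [Function.comp_apply, Sum.elim_inl, Sum.elim_inr] at h
      rw [oInv_minusD a b h2 ha (by omega) (by have := i.2; omega),
        oInv_minusA a b h2 (by have := k'.2; omega) ⟨k'.val + 1, by ring⟩] at h
      have := congrArg Prod.snd h
      simp at this
    · simp only [Function.comp_apply, Sum.elim_inl, Sum.elim_inr] at h
      rw [oInv_minusD a b h2 ha (by omega) (by have := i'.2; omega),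
        oInv_minusA a b h2 (by have := k.2; omega) ⟨k.val + 1, by ring⟩] at h
      have := congrArg Prod.snd h
      simp at this
    · simp only [Function.comp_apply, Sum.elim_inr] at h
      rw [oInv_minusA a b h2 (by have := k.2; omega) ⟨k.val + 1, by ring⟩,
        oInv_minusA a b h2 (by have := k'.2; omega) ⟨k'.val + 1, by ring⟩] at h
      have := congrArg Prod.fst h
      simp only at this
      congr 1
      exact Fin.ext (by omega)
  · intro g hg
    obtain ⟨hpos, hle⟩ := involution_facts (qfMinus n F a b) h2 g hg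
    have hcard : Fintype.card ((Fin n ⊕ Fin n) ⊕ Fin 2) = 2 * (n + 1) := by
      simp [Fintype.card_sum]; ring
    by_cases halt : ∀ v, qfMinus n F a b
        ((((g : Matrix.GeneralLinearGroup ((Fin n ⊕ Fin n) ⊕ Fin 2) F) :
          Matrix ((Fin n ⊕ Fin n) ⊕ Fin 2) ((Fin n ⊕ Fin n) ⊕ Fin 2) F) - 1) *ᵥ v) = 0
    · obtain ⟨k, hk⟩ := even_rank_of_alt_O (qfMinus n F a b) hQ h2 (isIsom_of_mem _ g)
        (sq_of_orderOf _ g hg) halt
      have hts := ts_finrank_le n a b hab hQ (LinearMap.range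
        (((g : Matrix.GeneralLinearGroup ((Fin n ⊕ Fin n) ⊕ Fin 2) F) :
          Matrix ((Fin n ⊕ Fin n) ⊕ Fin 2) ((Fin n ⊕ Fin n) ⊕ Fin 2) F) - 1).mulVecLin)
        (by rintro _ ⟨x, rfl⟩; exact halt x)
      have hrk : (((g : Matrix.GeneralLinearGroup ((Fin n ⊕ Fin n) ⊕ Fin 2) F) :
          Matrix ((Fin n ⊕ Fin n) ⊕ Fin 2) ((Fin n ⊕ Fin n) ⊕ Fin 2) F) - 1).rank
          = finrank F ↥(LinearMap.range
        (((g : Matrix.GeneralLinearGroup ((Fin n ⊕ Fin n) ⊕ Fin 2) F) :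
          Matrix ((Fin n ⊕ Fin n) ⊕ Fin 2) ((Fin n ⊕ Fin n) ⊕ Fin 2) F) - 1).mulVecLin) := rfl
      refine ⟨Sum.inr ⟨k - 1, by omega⟩, ?_⟩
      simp only [Sum.elim_inr]
      rw [oInv_minusA a b h2 (by omega) ⟨k - 1 + 1, by ring⟩]
      apply Prod.ext
      · show 2 * (k - 1 + 1) = (((g : Matrix.GeneralLinearGroup ((Fin n ⊕ Fin n) ⊕ Fin 2) F) :
          Matrix ((Fin n ⊕ Fin n) ⊕ Fin 2) ((Fin n ⊕ Fin n) ⊕ Fin 2) F) - 1).rank
        omega
      · show True = _
        exact (eq_true halt).symm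
    · refine ⟨Sum.inl ⟨(((g : Matrix.GeneralLinearGroup ((Fin n ⊕ Fin n) ⊕ Fin 2) F) :
          Matrix ((Fin n ⊕ Fin n) ⊕ Fin 2) ((Fin n ⊕ Fin n) ⊕ Fin 2) F) - 1).rank - 1, by omega⟩, ?_⟩
      simp only [Sum.elim_inl]
      rw [oInv_minusD a b h2 ha (by omega) (by omega)]
      apply Prod.ext
      · show (((g : Matrix.GeneralLinearGroup ((Fin n ⊕ Fin n) ⊕ Fin 2) F) :
          Matrix ((Fin n ⊕ Fin n) ⊕ Fin 2) ((Fin n ⊕ Fin n) ⊕ Fin 2) F) - 1).rank - 1 + 1
            = (((g : Matrix.GeneralLinearGroup ((Fin n ⊕ Fin n) ⊕ Fin 2) F) :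
          Matrix ((Fin n ⊕ Fin n) ⊕ Fin 2) ((Fin n ⊕ Fin n) ⊕ Fin 2) F) - 1).rank
        omega
      · show False = _
        exact (eq_false halt).symm

end minus

end Cfsg.Agent.Lib.Helper44_OMinusCount
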