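import Mathlib
import Cfsg.Agent.Lib.Helper14_OrthGamma2
import Cfsg.Agent.Lib.Helper14_OrthMinusAut
import Cfsg.Agent.Lib.Helper14_CyclicExt
import Cfsg.Agent.Lib.Helper14_Char2Trace
import Cfsg.Agent.Lib.Helper44_OMinusCount
import Cfsg.Agent.Lib.Helper44_OmegaAll

/-!
# `Out(PΩ⁻_{2n+2}(2^f))` is cyclic of order `2f` (helper14)

The semilinear map `v ↦ g₀ φ(v)`, `φ` the Frobenius automorphism and `g₀ = 1 ⊕ !![1, b; 0, a]`,
is a `φ`-semisimilarity of the minus-type form; its `f`-th power is the orthogonal transvection in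
the first basis vector of the anisotropic plane, which is not in `Ω`.
-/

set_option autoImplicit false
set_option linter.unusedSectionVars false
set_option linter.unusedVariables false

namespace Cfsg.Agent.Lib.Helper14_OrthMinusOut2

open Cfsg Matrix Cfsg.Agent.Lib.Helper44_Orth Cfsg.Agent.Lib.Helper14_AutOmega
  Cfsg.Agent.Lib.Helper7_OrthInduced Cfsg.Agent.Lib.Helper44_OrthField
  Cfsg.Agent.Lib.Helper44_OrthFaith Cfsg.Agent.Lib.Helper14_OrthGamma
  Cfsg.Agent.Lib.Helper14_OrthGamma2 Cfsg.Agent.Lib.Helper44_H90i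
  Cfsg.Agent.Lib.Helper44_StdForms Cfsg.Agent.Lib.Helper44_OMinusCount
  Cfsg.Agent.Lib.Helper14_Char2Trace Cfsg.Agent.Lib.Helper14_OmegaIndex
  Cfsg.Agent.Lib.Helper44_Refl Cfsg.Agent.Lib.Helper44_Spinor

/-! ### The block embedding `GL₂ → GL_{2n+2}` -/

section block

variable {n : ℕ} {F : Type*} [Field F]

/-- `R ↦ 1 ⊕ R`. -/
def blHom : Matrix (Fin 2) (Fin 2) F →*
    Matrix ((Fin n ⊕ Fin n) ⊕ Fin 2) ((Fin n ⊕ Fin n) ⊕ Fin 2) F where
  toFun R := fromBlocks 1 0 0 R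
  map_one' := fromBlocks_one
  map_mul' R S := by
    rw [fromBlocks_multiply]
    simp

/-- `R ↦ 1 ⊕ R` on general linear groups. -/
def blGL : GL (Fin 2) F →* GL ((Fin n ⊕ Fin n) ⊕ Fin 2) F := Units.map blHom

theorem blGL_coe (R : GL (Fin 2) F) :
    ((blGL (n := n) R : GL ((Fin n ⊕ Fin n) ⊕ Fin 2) F) :
      Matrix ((Fin n ⊕ Fin n) ⊕ Fin 2) ((Fin n ⊕ Fin n) ⊕ Fin 2) F) =
      fromBlocks 1 0 0 (R : Matrix (Fin 2) (Fin 2) F) := rfl

theorem mapGLi_blGL (σ : F ≃+* F) (R : GL (Fin 2) F) :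
    mapGLi σ (blGL (n := n) R) = blGL (mapGLi σ R) := by
  apply Units.ext
  rw [mapGLi_coe, blGL_coe, blGL_coe, mapGLi_coe, fromBlocks_map]
  congr 1
  · ext i j
    by_cases h : i = j
    · subst h; simp
    · simp [h]
  · ext i j; simp
  · ext i j; simp

theorem PNi_blGL (σ : F ≃+* F) (R : GL (Fin 2) F) (k : ℕ) :
    PNi σ (blGL (n := n) R) k = blGL (PNi σ R k) := by
  induction k with
  | zero => rw [PNi_zero, PNi_zero, map_one]
  | succ k ih => rw [PNi_succ, PNi_succ, ih, mapGLi_blGL, map_mul]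

theorem blGL_mulVec (R : GL (Fin 2) F) (w : (Fin n ⊕ Fin n) ⊕ Fin 2 → F) :
    ((blGL (n := n) R : GL ((Fin n ⊕ Fin n) ⊕ Fin 2) F) :
      Matrix ((Fin n ⊕ Fin n) ⊕ Fin 2) ((Fin n ⊕ Fin n) ⊕ Fin 2) F) *ᵥ w =
      Sum.elim (w ∘ Sum.inl) ((R : Matrix (Fin 2) (Fin 2) F) *ᵥ (w ∘ Sum.inr)) := by
  rw [blGL_coe, diag_mulVec, Matrix.one_mulVec]

end block

/-! ### The `2 × 2` computation -/

section two

variable {F : Type*} [Field F]

/-- The matrix `!![1, b; 0, a]`. -/
def gE (a b : F) (ha : a ≠ 0) : GL (Fin 2) F :=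
  Matrix.GeneralLinearGroup.mkOfDetNeZero !![1, b; 0, a] (by
    rw [Matrix.det_fin_two_of]
    simpa using ha)

theorem gE_coe (a b : F) (ha : a ≠ 0) :
    ((gE a b ha : GL (Fin 2) F) : Matrix (Fin 2) (Fin 2) F) = !![1, b; 0, a] := rfl

theorem gE_mulVec (a b : F) (ha : a ≠ 0) (z : Fin 2 → F) :
    ((gE a b ha : GL (Fin 2) F) : Matrix (Fin 2) (Fin 2) F) *ᵥ z = ![z 0 + b * z 1, a * z 1] := by
  rw [gE_coe]
  ext i
  fin_cases i <;> simp [Matrix.mulVec, dotProduct, Fin.sum_univ_two]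

variable [CharP F 2]

theorem PNi_gE (a b : F) (ha : a ≠ 0) (φ : F ≃+* F) (hφ : ∀ x, φ x = x ^ 2) (k : ℕ) :
    ((PNi φ (gE a b ha) k : GL (Fin 2) F) : Matrix (Fin 2) (Fin 2) F) =
      !![1, a ^ (2 ^ k) * sT (b / a ^ 2) k; 0, a ^ (2 ^ k) / a] := by
  induction k with
  | zero =>
    rw [PNi_zero, sT_zero]
    ext i j
    fin_cases i <;> fin_cases j <;> simp [ha]
  | succ k ih =>
    rw [PNi_succ', Units.val_mul, mapGLi_coe, ih, gE_coe, sT_succ]
    ext i j
    fin_cases i <;> fin_cases j <;>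
      simp only [Matrix.mul_apply, Fin.sum_univ_two, Matrix.map_apply, Matrix.of_apply,
        Matrix.cons_val', Matrix.cons_val_zero, Matrix.cons_val_one, Matrix.empty_val',
        Matrix.cons_val_fin_one, Fin.zero_eta, Fin.mk_one, hφ, Fin.isValue]
    · ring
    · field_simp
      ring
    · ring
    · field_simp
      ring

theorem PNi_gE_card [Fintype F] {f : ℕ} (hf : 1 ≤ f) (hF : Fintype.card F = 2 ^ f) (a b : F)
    (hab : ∀ z₁ z₂ : F, z₁ ^ 2 + a * z₁ * z₂ + b * z₂ ^ 2 = 0 → z₁ = 0 ∧ z₂ = 0)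
    (ha : a ≠ 0) (φ : F ≃+* F) (hφ : ∀ x, φ x = x ^ 2) :
    ((PNi φ (gE a b ha) f : GL (Fin 2) F) : Matrix (Fin 2) (Fin 2) F) = Rm a := by
  rw [PNi_gE a b ha φ hφ, ← hF, FiniteField.pow_card, (aniso hf hF a b hab).2, mul_one,
    div_self ha]
  rfl

end two

/-! ### The Frobenius semisimilarity -/

section main

variable {n : ℕ} {F : Type*} [Field F] [Fintype F]

theorem semisim_frob [CharP F 2] (a b : F) (ha : a ≠ 0) (φ : F ≃+* F) (hφ : ∀ x, φ x = x ^ 2) :
    IsSemisimilarityPair (⇑(qfMinus n F a b)) (blGL (n := n) (gE a b ha)) φ := by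
  refine ⟨1, fun v => ?_⟩
  have h2 : (2 : F) = 0 := CharTwo.two_eq_zero
  rw [Units.val_one, one_mul, blGL_mulVec, gE_mulVec, coe_qfMinus]
  unfold Cfsg.quadFormMinus
  simp only [Sum.elim_inl, Sum.elim_inr, Function.comp_apply, Matrix.cons_val_zero,
    Matrix.cons_val_one]
  rw [map_add, map_sum]
  simp only [map_mul]
  congr 1
  simp only [hφ]
  linear_combination (a ^ 2 * b * v (Sum.inr 1) ^ 4 - a * v (Sum.inr 0) ^ 3 * v (Sum.inr 1)
    - a * b * v (Sum.inr 0) * v (Sum.inr 1) ^ 3) * h2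

/-! ### The orthogonal transvection in the first basis vector of the anisotropic plane -/

/-- The first basis vector of the anisotropic plane. -/
def e0 : (Fin n ⊕ Fin n) ⊕ Fin 2 → F := Pi.single (Sum.inr 0) 1

theorem Q_e0 (a b : F) : qfMinus n F a b e0 = 1 := by
  rw [coe_qfMinus, Cfsg.quadFormMinus]
  simp [e0]

theorem polar_e0 (a b : F) (x : (Fin n ⊕ Fin n) ⊕ Fin 2 → F) :
    QuadraticMap.polar (⇑(qfMinus n F a b)) e0 x = 2 * x (Sum.inr 0) + a * x (Sum.inr 1) := by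
  rw [QuadraticMap.polar, coe_qfMinus]
  unfold Cfsg.quadFormMinus
  simp [e0]
  ring

theorem reflectionMatrix_e0 (h2 : (2 : F) = 0) (a b : F) :
    Cfsg.reflectionMatrix (⇑(qfMinus n F a b)) e0 = fromBlocks 1 0 0 (Rm a) := by
  apply matrix_ext_mulVec
  intro x
  rw [reflectionMatrix_mulVec, Q_e0, polar_e0, diag_mulVec, Matrix.one_mulVec, Rm_mulVec]
  ext i
  rcases i with i | i
  · simp [e0]
  · fin_cases i
    · simp [e0]
      linear_combination (- x (Sum.inr 0) - a * x (Sum.inr 1)) * h2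
    · simp [e0]

/-! ### The main theorem -/

open Cfsg.Agent.Lib.Helper14_OrthMinusAut Cfsg.Agent.Lib.Helper14_OrthTop0 in
/-- **`Out(PΩ⁻_{2n+2}(2^f))` is cyclic of order `2f`.** -/
theorem out_minus_even {f : ℕ} (hf : 1 ≤ f) (hF : Fintype.card F = 2 ^ f) (hn : 3 ≤ n) (a b : F)
    (hab : ∀ z₁ z₂ : F, z₁ ^ 2 + a * z₁ * z₂ + b * z₂ ^ 2 = 0 → z₁ = 0 ∧ z₂ = 0) :
    IsCyclic (Out (POmega F (Cfsg.quadFormMinus n F a b))) ∧
      Nat.card (Out (POmega F (Cfsg.quadFormMinus n F a b))) = 2 * f := by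
  have : Fact (Nat.Prime 2) := Nat.fact_prime_two
  have : CharP F 2 := charP_of_card_eq_prime_pow hF
  have h2 : (2 : F) = 0 := CharTwo.two_eq_zero
  have S := setup_minus hn a b hab
  have hQ := Cfsg.Agent.Lib.Helper14_POmegaSimple.nondegenerate_qfMinus (F := F) n a b hab
  have hcardn := card_minus n hn
  have hRA : Nat.card (RingAut F) = f := Cfsg.Agent.Lib.Helper44_PSLnOut.card_ringAut hF
  -- the order
  have hcard : Nat.card (Out (POmega F (⇑(qfMinus n F a b)))) = 2 * f := by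
    have h1 := card_out_mul S
    have h3 := card_range_Phi_even h2 (qfMinus n F a b) hQ hcardn (nonsing_minus a b)
    rw [h3, hRA] at h1
    have hpos : 0 < Nat.card (POmega F (⇑(qfMinus n F a b))) := Nat.card_pos
    apply Nat.eq_of_mul_eq_mul_right hpos
    rw [h1]
    ring
  have hker : Nat.card (outHom S).ker = 2 := by
    have h1 := card_out_eq S
    rw [hcard, hRA] at h1
    exact (Nat.eq_of_mul_eq_mul_right (by omega : 0 < f) h1).symm
  obtain ⟨φ, hφ, hord, hgen⟩ := exists_frob (p := 2) hF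
  obtain ⟨ha, htr⟩ := aniso hf hF a b hab
  have h0 := semisim_frob (n := n) a b ha φ hφ
  obtain ⟨β, hβ⟩ : ∃ β, β = twistP (⇑(qfMinus n F a b)) _ φ h0 := ⟨_, rfl⟩
  have hκ : outHom S (QuotientGroup.mk β) = φ := by
    rw [outHom_mk, Setup.compHom_apply, hβ, S.comp_twistP]
  have hφf : φ ^ f = 1 := by
    rw [← hord]
    exact pow_orderOf_eq_one φ
  have hcyc : IsCyclic (Out (POmega F (⇑(qfMinus n F a b)))) := by
    apply Cfsg.Agent.Lib.Helper14_CyclicExt.isCyclic_of_ext (outHom S) hker (QuotientGroup.mk β) f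
    · intro c
      rw [hκ]
      exact hgen c
    · rw [hκ]
      exact hφf
    · right
      intro hx
      rw [← QuotientGroup.mk_pow, QuotientGroup.eq_one_iff] at hx
      obtain ⟨h', hpow⟩ := twistP_pow h0 f
      have hv : qfMinus n F a b e0 ≠ 0 := by
        rw [Q_e0]
        exact one_ne_zero
      obtain ⟨s, hs⟩ : ∃ s, s = refl (qfMinus n F a b) e0 hv := ⟨_, rfl⟩
      have hgs : PNi φ (blGL (n := n) (gE a b ha)) f =
          ((Subgroup.inclusion (isometryGroup_le_GO (⇑(qfMinus n F a b))) s :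
            ↥(GO (⇑(qfMinus n F a b)))) : GL ((Fin n ⊕ Fin n) ⊕ Fin 2) F) := by
        apply Units.ext
        rw [PNi_blGL, blGL_coe, PNi_gE_card hf hF a b hab ha φ hφ, hs]
        exact (reflectionMatrix_e0 h2 a b).symm
      have hs1 : IsSemisimilarityPair (⇑(qfMinus n F a b))
          ((Subgroup.inclusion (isometryGroup_le_GO (⇑(qfMinus n F a b))) s :
            ↥(GO (⇑(qfMinus n F a b)))) : GL ((Fin n ⊕ Fin n) ⊕ Fin 2) F) 1 := by
        rw [← hgs, ← hφf]
        exact h'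
      have hβf : β ^ f = PhiO (⇑(qfMinus n F a b)) s := by
        rw [hβ, hpow, twistP_congr h' hs1 hgs hφf, S.twistP_refl_eq_Phi]
        rfl
      rw [hβf, inn_eq_map] at hx
      obtain ⟨t, ht, hts⟩ := hx
      have hinj : Function.Injective (PhiO (⇑(qfMinus n F a b))) :=
        (MonoidHom.ker_eq_bot_iff _).mp
          (ker_PhiO_even h2 (qfMinus n F a b) hQ hcardn (nonsing_minus a b))
      have hts' := hinj hts
      rw [hts'] at ht
      have hev := Cfsg.Agent.Lib.Helper44_OmegaAll.even_of_prod_mem_omega h2 (qfMinus n F a b) hQ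
        [e0] (by
          intro v hv'
          rw [List.mem_singleton.mp hv']
          exact hv) (by
          rw [List.map_singleton, List.prod_singleton, reflT_of_ne _ _ hv, ← hs]
          exact ht)
      simp at hev
  rw [coe_qfMinus] at hcyc hcard
  exact ⟨hcyc, hcard⟩

end main

end Cfsg.Agent.Lib.Helper14_OrthMinusOut2
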