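import Mathlib
import Cfsg.Agent.Lib.Helper14_OrthGamma2
import Cfsg.Agent.Lib.Helper14_GOChars

/-!
# Invariance of the characters of `GO(Q)` under semilinear conjugation (helper14)

For a semisimilarity pair `(g, σ)` and a similarity `d`, the twisted conjugate `g σ(d) g⁻¹` is a
similarity with multiplier `σ(μ(d))` and determinant `σ(det d)`; hence `psi` takes the same value on
both, and in `Aut(PΩ(Q))` every commutator `[β, Phi d]` lies in `psoAut`.
-/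

set_option autoImplicit false
set_option linter.unusedSectionVars false
set_option linter.unusedVariables false

namespace Cfsg.Agent.Lib.Helper14_OrthPsiInv

open Cfsg Matrix Cfsg.Agent.Lib.Helper44_Orth Cfsg.Agent.Lib.Helper14_AutOmega
  Cfsg.Agent.Lib.Helper7_OrthInduced Cfsg.Agent.Lib.Helper14_OrthGamma
  Cfsg.Agent.Lib.Helper14_OrthGamma2 Cfsg.Agent.Lib.Helper14_GOChars
  Cfsg.Agent.Lib.Helper14_CentOmega

variable {ι : Type} [Fintype ι] [DecidableEq ι] {F : Type*} [Field F]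

section tw

variable (Q : (ι → F) → F)

theorem twist_spec {g : GL ι F} {σ : F ≃+* F} (h : IsSemisimilarityPair Q g σ) (d : ↥(GO Q))
    (u : ι → F) :
    Q (((twist g σ (d : GL ι F) : GL ι F) : Matrix ι ι F) *ᵥ u) =
      ((Units.map (σ : F →* F) (mu Q d) : Fˣ) : F) * Q u := by
  obtain ⟨c, hc⟩ := h
  obtain ⟨w, rfl⟩ := exists_semilinear_preimage g σ u
  rw [twist_mulVec, hc, hc, mu_spec Q d w, map_mul]
  show (c : F) * (σ (mu Q d : F) * σ (Q w)) = σ (mu Q d : F) * ((c : F) * σ (Q w))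
  ring

/-- The twisted conjugate of a similarity. -/
def twGO {g : GL ι F} {σ : F ≃+* F} (h : IsSemisimilarityPair Q g σ) (d : ↥(GO Q)) : ↥(GO Q) :=
  ⟨twist g σ (d : GL ι F), ⟨Units.map (σ : F →* F) (mu Q d), fun u => twist_spec Q h d u⟩⟩

theorem twGO_coe {g : GL ι F} {σ : F ≃+* F} (h : IsSemisimilarityPair Q g σ) (d : ↥(GO Q)) :
    ((twGO Q h d : ↥(GO Q)) : GL ι F) = twist g σ (d : GL ι F) := rfl

theorem mu_twGO (hne : ∃ v, Q v ≠ 0) {g : GL ι F} {σ : F ≃+* F}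
    (h : IsSemisimilarityPair Q g σ) (d : ↥(GO Q)) :
    mu Q (twGO Q h d) = Units.map (σ : F →* F) (mu Q d) :=
  mu_eq Q hne _ _ (fun u => twist_spec Q h d u)

theorem det_twGO {g : GL ι F} {σ : F ≃+* F} (h : IsSemisimilarityPair Q g σ) (d : ↥(GO Q)) :
    (((twGO Q h d : ↥(GO Q)) : GL ι F) : Matrix ι ι F).det =
      σ (((d : GL ι F) : Matrix ι ι F).det) := by
  rw [twGO_coe, twist_val, Matrix.det_mul, Matrix.det_mul, mul_right_comm, ← Matrix.det_mul,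
    ← Units.val_mul, mul_inv_cancel, Units.val_one, Matrix.det_one, one_mul]
  exact (RingHom.map_det (σ : F →+* F) _).symm

end tw

section psi

variable [Fintype F] (Q : QuadraticForm F (ι → F))

theorem units_eq_of_iff {x y : ℤˣ} (h : x = 1 ↔ y = 1) : x = y := by
  rcases Int.units_eq_one_or x with hx | hx <;> rcases Int.units_eq_one_or y with hy | hy
  · rw [hx, hy]
  · rw [h.mp hx] at hy
    exact absurd hy (by decide)
  · rw [h.mpr hy] at hx
    exact absurd hx (by decide)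
  · rw [hx, hy]

theorem isSquare_map_iff (σ : F ≃+* F) (x : F) : IsSquare (σ x) ↔ IsSquare x := by
  constructor
  · rintro ⟨r, hr⟩
    refine ⟨σ.symm r, ?_⟩
    rw [← map_mul, ← hr, RingEquiv.symm_apply_apply]
  · rintro ⟨r, hr⟩
    exact ⟨σ r, by rw [hr, map_mul]⟩

theorem psi_twGO (h2 : (2 : F) ≠ 0) (hQ : (QuadraticMap.polarBilin Q).Nondegenerate)
    (hne : ∃ v, Q v ≠ 0) {m : ℕ} (hcard : Fintype.card ι = 2 * m) {g : GL ι F} {σ : F ≃+* F}
    (h : IsSemisimilarityPair (⇑Q) g σ) (d : ↥(GO (⇑Q))) :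
    psi h2 Q hQ hne hcard (twGO (⇑Q) h d) = psi h2 Q hQ hne hcard d := by
  rw [psi, MonoidHom.prod_apply, MonoidHom.prod_apply, Prod.mk.injEq]
  constructor
  · apply units_eq_of_iff
    rw [chiHom_eq_one_iff, chiHom_eq_one_iff, mu_twGO (⇑Q) hne h d]
    exact isSquare_map_iff σ _
  · apply units_eq_of_iff
    rw [sgnHom_eq_one_iff, sgnHom_eq_one_iff, mu_twGO (⇑Q) hne h d, det_twGO]
    show σ _ = (σ (mu (⇑Q) d : F)) ^ m ↔ _
    rw [← map_pow]
    exact σ.injective.eq_iff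

/-- Elements of the kernel of `psi` induce automorphisms in `psoAut`. -/
theorem Phi_mem_pso_of_psi (h2 : (2 : F) ≠ 0) (hQ : (QuadraticMap.polarBilin Q).Nondegenerate)
    (hne : ∃ v, Q v ≠ 0) {m : ℕ} (hcard : Fintype.card ι = 2 * m) (d : ↥(GO (⇑Q)))
    (hd : psi h2 Q hQ hne hcard d = 1) : Phi (⇑Q) d ∈ psoAut F (⇑Q) := by
  have hmem : d ∈ (psi h2 Q hQ hne hcard).ker := hd
  rw [ker_psi] at hmem
  have hle : SO' Q ⊔ Z' Q ≤ (psoAut F (⇑Q)).comap (Phi (⇑Q)) := by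
    apply sup_le
    · intro s hs
      rw [Subgroup.mem_comap, psoAut_eq]
      exact ⟨s, hs, rfl⟩
    · intro z hz
      rw [Subgroup.mem_comap, Phi_eq_one_of_scalar (⇑Q) z (Subgroup.mem_subgroupOf.mp hz)]
      exact Subgroup.one_mem _
  exact hle hmem

/-- Conversely. -/
theorem psi_of_Phi_mem_pso (h2 : (2 : F) ≠ 0) (hQ : (QuadraticMap.polarBilin Q).Nondegenerate)
    (hn : 5 ≤ Fintype.card ι)
    (hne : ∃ v, Q v ≠ 0) {m : ℕ} (hcard : Fintype.card ι = 2 * m) (d : ↥(GO (⇑Q)))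
    (hd : Phi (⇑Q) d ∈ psoAut F (⇑Q)) : psi h2 Q hQ hne hcard d = 1 := by
  rw [psoAut_eq] at hd
  obtain ⟨s, hs, hsd⟩ := hd
  have hz : s⁻¹ * d ∈ (Phi (⇑Q)).ker := by
    rw [MonoidHom.mem_ker, map_mul, map_inv, hsd, inv_mul_cancel]
  rw [ker_Phi Q hQ hn] at hz
  have hmem : d ∈ (psi h2 Q hQ hne hcard).ker := by
    rw [ker_psi]
    have : d = s * (s⁻¹ * d) := by group
    rw [this]
    exact Subgroup.mul_mem_sup hs hz
  exact hmem

variable {Q}

/-- **Every commutator `[β, Phi d]` lies in `psoAut`.** -/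
theorem comm_mem_pso (S : Setup Q) (h2 : (2 : F) ≠ 0) (hne : ∃ v, Q v ≠ 0) {m : ℕ}
    (hcard : Fintype.card ι = 2 * m) (β : MulAut (POmega F (⇑Q))) (d : ↥(GO (⇑Q))) :
    β * Phi (⇑Q) d * β⁻¹ * (Phi (⇑Q) d)⁻¹ ∈ psoAut F (⇑Q) := by
  obtain ⟨σ, g, h, rfl⟩ := S.exists_pair β
  have hd1 : ∀ e : ↥(GO (⇑Q)), IsSemisimilarityPair (⇑Q) (e : GL ι F) 1 := by
    intro e
    obtain ⟨c, hc⟩ := e.2
    exact ⟨c, fun v => hc v⟩
  have hrel : twistP (⇑Q) g σ h * Phi (⇑Q) d = Phi (⇑Q) (twGO (⇑Q) h d) * twistP (⇑Q) g σ h := by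
    rw [← S.twistP_refl_eq_Phi d (hd1 d), ← S.twistP_refl_eq_Phi _ (hd1 (twGO (⇑Q) h d)),
      twistP_mul h (hd1 d), twistP_mul (hd1 (twGO (⇑Q) h d)) h]
    apply twistP_congr
    · rw [twGO_coe, twist_apply, sigGL_one]
      group
    · rw [mul_one, one_mul]
  have hcomm : twistP (⇑Q) g σ h * Phi (⇑Q) d * (twistP (⇑Q) g σ h)⁻¹ * (Phi (⇑Q) d)⁻¹ =
      Phi (⇑Q) (twGO (⇑Q) h d * d⁻¹) := by
    rw [hrel, map_mul, map_inv]
    group
  rw [hcomm]
  apply Phi_mem_pso_of_psi Q h2 S.nd hne hcard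
  rw [map_mul, map_inv, psi_twGO Q h2 S.nd hne hcard h d, mul_inv_cancel]

end psi

end Cfsg.Agent.Lib.Helper14_OrthPsiInv
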