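import Mathlib

/-!
# Two abstract extension lemmas for outer automorphism groups (helper14)

`κ : G →* C` with `C` cyclic of order `f` generated by `κ x`.

* `equiv_Y`: kernel elementary abelian of order four centralised by `x`, `x ^ f ≠ 1`:
  `G ≃* Z/2 × Z/2f`.
* `equiv_X`: `f` odd, kernel dihedral of order eight, a subgroup `T` of order two of the kernel
  containing all commutators `[g, k]`: `G ≃* D₈ × Z/f`.
-/

set_option autoImplicit false

namespace Cfsg.Agent.Lib.Helper14_OutExt

variable {G C : Type*} [Group G] [Group C]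

/-- The homomorphism `Z/n → G` attached to an element with `x ^ n = 1`. -/
def zmodHom (x : G) (n : ℕ) (hx : x ^ n = 1) : Multiplicative (ZMod n) →* G :=
  AddMonoidHom.toMultiplicativeLeft (ZMod.lift n ⟨zmultiplesHom (Additive G) (Additive.ofMul x), by
    show (n : ℤ) • Additive.ofMul x = 0
    rw [natCast_zsmul]
    exact congrArg Additive.ofMul hx⟩)

theorem zmodHom_intCast (x : G) (n : ℕ) (hx : x ^ n = 1) (k : ℤ) :
    zmodHom x n hx (Multiplicative.ofAdd (k : ZMod n)) = x ^ k := by
  show Additive.toMul (ZMod.lift n _ (k : ZMod n)) = _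
  rw [ZMod.lift_coe]
  rfl

theorem zmodHom_natCast (x : G) (n : ℕ) (hx : x ^ n = 1) (k : ℕ) :
    zmodHom x n hx (Multiplicative.ofAdd (k : ZMod n)) = x ^ k := by
  have := zmodHom_intCast x n hx (k : ℤ)
  rw [zpow_natCast] at this
  rw [← this]
  congr 2
  push_cast
  rfl

theorem zmodHom_apply (x : G) (n : ℕ) [NeZero n] (hx : x ^ n = 1) (j : Multiplicative (ZMod n)) :
    zmodHom x n hx j = x ^ (Multiplicative.toAdd j).val := by
  rw [← zmodHom_natCast x n hx, ZMod.natCast_zmod_val]
  rfl

theorem eq_one_of_val_eq_zero {n : ℕ} [NeZero n] (j : Multiplicative (ZMod n))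
    (h : (Multiplicative.toAdd j).val = 0) : j = 1 := by
  have h1 : Multiplicative.toAdd j = 0 := (ZMod.val_eq_zero _).mp h
  rw [← ofAdd_toAdd j, h1]
  rfl

section ext

variable (κ : G →* C) (x : G) (f : ℕ)

theorem kappa_surjective (hgen : ∀ c : C, ∃ k : ℕ, c = (κ x) ^ k) : Function.Surjective κ := by
  intro c
  obtain ⟨k, hk⟩ := hgen c
  exact ⟨x ^ k, by rw [map_pow, hk]⟩

theorem card_C (hgen : ∀ c : C, ∃ k : ℕ, c = (κ x) ^ k) (hord : orderOf (κ x) = f) :
    Nat.card C = f := by
  rw [← hord]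
  symm
  apply orderOf_eq_card_of_forall_mem_zpowers
  intro c
  obtain ⟨k, hk⟩ := hgen c
  exact ⟨k, by rw [hk]; exact zpow_natCast _ _⟩

theorem card_G (hgen : ∀ c : C, ∃ k : ℕ, c = (κ x) ^ k) (hord : orderOf (κ x) = f) :
    Nat.card G = Nat.card κ.ker * f := by
  rw [Subgroup.card_eq_card_quotient_mul_card_subgroup κ.ker,
    Nat.card_congr (QuotientGroup.quotientKerEquivOfSurjective κ
      (kappa_surjective κ x hgen)).toEquiv, card_C κ x f hgen hord, mul_comm]

theorem card_zmod_mult (n : ℕ) : Nat.card (Multiplicative (ZMod n)) = n := by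
  rw [Nat.card_congr Multiplicative.toAdd, Nat.card_zmod]

/-- Kernel elementary abelian of order four centralised by `x`, and `x ^ f ≠ 1`. -/
theorem equiv_Y (hf : 1 ≤ f) (hgen : ∀ c : C, ∃ k : ℕ, c = (κ x) ^ k)
    (hord : orderOf (κ x) = f) (hK4 : Nat.card κ.ker = 4) (hexp : ∀ k ∈ κ.ker, k * k = 1)
    (hcent : ∀ k ∈ κ.ker, x * k = k * x) (hxf : x ^ f ≠ 1) :
    Nonempty (G ≃* Multiplicative (ZMod 2 × ZMod (2 * f))) := by
  classical
  have hκf : (κ x) ^ f = 1 := by
    rw [← hord]
    exact pow_orderOf_eq_one _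
  obtain ⟨u, hu⟩ : ∃ u, u = x ^ f := ⟨_, rfl⟩
  have huK : u ∈ κ.ker := by rw [MonoidHom.mem_ker, hu, map_pow, hκf]
  have huu : u * u = 1 := hexp u huK
  have hu1 : u ≠ 1 := by rw [hu]; exact hxf
  have hx2f : x ^ (2 * f) = 1 := by
    rw [mul_comm, pow_mul, ← hu, pow_two, huu]
  -- an element of the kernel outside `{1, u}`
  obtain ⟨z, hzK, hz1, hzu⟩ : ∃ z ∈ κ.ker, z ≠ 1 ∧ z ≠ u := by
    by_contra hcon
    push Not at hcon
    have hinj : Function.Injective (fun k : κ.ker => decide ((k : G) = 1)) := by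
      intro k k' hkk
      simp only [decide_eq_decide] at hkk
      apply Subtype.ext
      by_cases h1 : (k : G) = 1
      · rw [h1, hkk.mp h1]
      · have h2 : (k' : G) ≠ 1 := fun h => h1 (hkk.mpr h)
        rw [hcon k k.2 h1, hcon k' k'.2 h2]
    have := Nat.card_le_card_of_injective _ hinj
    rw [hK4, Nat.card_eq_fintype_card, Fintype.card_bool] at this
    omega
  have hzz : z * z = 1 := hexp z hzK
  have hz2 : z ^ 2 = 1 := by rw [pow_two, hzz]
  have hNZ : NeZero (2 * f) := ⟨by omega⟩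
  have hcomm : ∀ (i : Multiplicative (ZMod 2)) (j : Multiplicative (ZMod (2 * f))),
      Commute (zmodHom z 2 hz2 i) (zmodHom x (2 * f) hx2f j) := by
    intro i j
    rw [zmodHom_apply, zmodHom_apply]
    exact Commute.pow_pow (hcent z hzK).symm _ _
  obtain ⟨Θ, hΘ⟩ : ∃ Θ : Multiplicative (ZMod 2) × Multiplicative (ZMod (2 * f)) →* G,
      Θ = MonoidHom.noncommCoprod (zmodHom z 2 hz2) (zmodHom x (2 * f) hx2f) hcomm := ⟨_, rfl⟩
  have hΘapp : ∀ i j, Θ (i, j) = z ^ (Multiplicative.toAdd i).val *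
      x ^ (Multiplicative.toAdd j).val := by
    intro i j
    rw [hΘ, MonoidHom.noncommCoprod_apply, zmodHom_apply, zmodHom_apply]
  have hinj : Function.Injective Θ := by
    rw [injective_iff_map_eq_one]
    rintro ⟨i, j⟩ h
    rw [hΘapp] at h
    obtain ⟨a, ha⟩ : ∃ a, a = (Multiplicative.toAdd i).val := ⟨_, rfl⟩
    obtain ⟨b, hb⟩ : ∃ b, b = (Multiplicative.toAdd j).val := ⟨_, rfl⟩
    have ha2 : a < 2 := by rw [ha]; exact ZMod.val_lt _
    have hb2 : b < 2 * f := by rw [hb]; exact ZMod.val_lt _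
    rw [← ha, ← hb] at h
    have hκ : (κ x) ^ b = 1 := by
      have := congrArg κ h
      rw [map_mul, map_pow, map_pow, MonoidHom.mem_ker.mp hzK, one_pow, one_mul, map_one] at this
      exact this
    have hdvd : f ∣ b := by
      rw [← hord]
      exact orderOf_dvd_of_pow_eq_one hκ
    obtain ⟨t, ht⟩ := hdvd
    have ht2 : t = 0 ∨ t = 1 := by
      have : f * t < 2 * f := by rw [← ht]; exact hb2
      have : t < 2 := by nlinarith
      omega
    have key : a = 0 ∧ b = 0 := by
      rcases ht2 with rfl | rfl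
      · rw [mul_zero] at ht
        rw [ht, pow_zero, mul_one] at h
        refine ⟨?_, ht⟩
        by_contra ha0
        have : a = 1 := by omega
        rw [this, pow_one] at h
        exact hz1 h
      · rw [mul_one] at ht
        rw [ht, ← hu] at h
        exfalso
        have ha01 : a = 0 ∨ a = 1 := by omega
        rcases ha01 with rfl | rfl
        · rw [pow_zero, one_mul] at h
          exact hu1 h
        · rw [pow_one] at h
          apply hzu
          calc z = z * (u * u) := by rw [huu, mul_one]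
            _ = (z * u) * u := (mul_assoc _ _ _).symm
            _ = u := by rw [h, one_mul]
    rw [Prod.mk_eq_one]
    exact ⟨eq_one_of_val_eq_zero i (ha ▸ key.1), eq_one_of_val_eq_zero j (hb ▸ key.2)⟩
  have hcardG : Nat.card G = 4 * f := by rw [card_G κ x f hgen hord, hK4]
  have hfin : Finite G := by
    apply Nat.finite_of_card_ne_zero
    rw [hcardG]
    omega
  have hbij : Function.Bijective Θ := by
    apply hinj.bijective_of_nat_card_le
    rw [hcardG, Nat.card_prod, card_zmod_mult, card_zmod_mult]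
    omega
  exact ⟨((MulEquiv.ofBijective Θ hbij).symm).trans (MulEquiv.prodMultiplicative _ _).symm⟩

theorem dihedral_center_sq : ∀ d : DihedralGroup 4, (∀ d' : DihedralGroup 4, d * d' = d' * d) →
    d * d = 1 := by
  decide

/-- `f` odd, kernel dihedral of order eight, all commutators `[g, k]` in a subgroup of order two. -/
theorem equiv_X (hfodd : Odd f) (hgen : ∀ c : C, ∃ k : ℕ, c = (κ x) ^ k)
    (hord : orderOf (κ x) = f) (T : Subgroup G) (hT2 : Nat.card T = 2) (hTK : T ≤ κ.ker)
    (hcomm : ∀ g : G, ∀ k ∈ κ.ker, g * k * g⁻¹ * k⁻¹ ∈ T) (e : κ.ker ≃* DihedralGroup 4) :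
    Nonempty (G ≃* DihedralGroup 4 × Multiplicative (ZMod f)) := by
  classical
  have hf : 1 ≤ f := by
    obtain ⟨r, hr⟩ := hfodd
    omega
  have hκf : (κ x) ^ f = 1 := by
    rw [← hord]
    exact pow_orderOf_eq_one _
  -- the subgroup `T = {1, t}`
  obtain ⟨⟨t, htT⟩, ht1, huniq⟩ := (Nat.card_eq_two_iff' (1 : T)).mp hT2
  have ht1' : t ≠ 1 := fun h => ht1 (Subtype.ext h)
  have hall : ∀ c ∈ T, c = 1 ∨ c = t := by
    intro c hc
    by_cases h1 : c = 1
    · exact Or.inl h1
    · right
      have := huniq ⟨c, hc⟩ (fun h => h1 (congrArg Subtype.val h))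
      exact congrArg Subtype.val this
  have htt : t * t = 1 := by
    rcases hall _ (T.mul_mem htT htT) with h | h
    · exact h
    · exfalso
      exact ht1' (mul_left_cancel (a := t) (by rw [h, mul_one]))
  have htcen : ∀ g : G, g * t = t * g := by
    intro g
    rcases hall _ (hcomm g t (hTK htT)) with h | h
    · have h1 : g * t * g⁻¹ = t := by
        have := congrArg (· * t) h
        simpa using this
      have := congrArg (· * g) h1
      simpa using this
    · exfalso
      have h1 : g * t * g⁻¹ = t * t := by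
        have := congrArg (· * t) h
        simpa using this
      rw [htt] at h1
      apply ht1'
      have h2 : g * t = g := by
        have := congrArg (· * g) h1
        simpa using this
      exact mul_left_cancel (a := g) (by rw [h2, mul_one])
  have hTcen : ∀ c ∈ T, (∀ g : G, g * c = c * g) ∧ c * c = 1 := by
    intro c hc
    rcases hall c hc with rfl | rfl
    · exact ⟨fun g => by rw [mul_one, one_mul], mul_one 1⟩
    · exact ⟨htcen, htt⟩
  -- `x ^ 2` centralises the kernel
  have hw : ∀ k ∈ κ.ker, x ^ 2 * k = k * x ^ 2 := by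
    intro k hk
    obtain ⟨c, hc⟩ : ∃ c, c = x * k * x⁻¹ * k⁻¹ := ⟨_, rfl⟩
    have hcT : c ∈ T := by rw [hc]; exact hcomm x k hk
    obtain ⟨hccen, hcc⟩ := hTcen c hcT
    have hxk : x * k = c * k * x := by rw [hc]; group
    calc x ^ 2 * k = x * (x * k) := by rw [pow_two, mul_assoc]
      _ = x * (c * k * x) := by rw [hxk]
      _ = (x * c) * k * x := by group
      _ = c * (x * k) * x := by rw [hccen x]; group
      _ = c * (c * k * x) * x := by rw [hxk]
      _ = (c * c) * k * (x * x) := by group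
      _ = k * x ^ 2 := by rw [hcc, one_mul, pow_two]
  have hwpow : ∀ (n : ℕ), ∀ k ∈ κ.ker, (x ^ 2) ^ n * k = k * (x ^ 2) ^ n := by
    intro n k hk
    exact (Commute.pow_left (hw k hk) n)
  -- `(x ^ 2) ^ f` is a central element of the kernel
  have hwfK : (x ^ 2) ^ f ∈ κ.ker := by
    rw [MonoidHom.mem_ker, map_pow, map_pow, ← pow_mul, mul_comm, pow_mul, hκf, one_pow]
  have hwf2 : (x ^ 2) ^ f * (x ^ 2) ^ f = 1 := by
    have h1 := dihedral_center_sq (e ⟨(x ^ 2) ^ f, hwfK⟩) (by
      intro d'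
      obtain ⟨k, rfl⟩ := e.surjective d'
      rw [← map_mul, ← map_mul]
      congr 1
      apply Subtype.ext
      exact hwpow f k k.2)
    rw [← map_mul, EmbeddingLike.map_eq_one_iff] at h1
    exact congrArg Subtype.val h1
  have hv : (x ^ 4) ^ f = 1 := by
    have : (x ^ 4) ^ f = (x ^ 2) ^ f * (x ^ 2) ^ f := by
      rw [← pow_mul, ← pow_mul, ← pow_add]
      congr 1
      ring
    rw [this, hwf2]
  have hvcen : ∀ k ∈ κ.ker, x ^ 4 * k = k * x ^ 4 := by
    intro k hk
    have : x ^ 4 = (x ^ 2) ^ 2 := by rw [← pow_mul]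
    rw [this]
    exact hwpow 2 k hk
  have hNZ : NeZero f := ⟨by omega⟩
  have hcomm' : ∀ (k : κ.ker) (j : Multiplicative (ZMod f)),
      Commute (κ.ker.subtype k) (zmodHom (x ^ 4) f hv j) := by
    intro k j
    rw [zmodHom_apply]
    exact (Commute.pow_left (hvcen k k.2) _).symm
  obtain ⟨Θ, hΘ⟩ : ∃ Θ : κ.ker × Multiplicative (ZMod f) →* G,
      Θ = MonoidHom.noncommCoprod κ.ker.subtype (zmodHom (x ^ 4) f hv) hcomm' := ⟨_, rfl⟩
  have hΘapp : ∀ (k : κ.ker) j, Θ (k, j) = (k : G) * (x ^ 4) ^ (Multiplicative.toAdd j).val := by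
    intro k j
    rw [hΘ, MonoidHom.noncommCoprod_apply, zmodHom_apply]
    rfl
  have hinj : Function.Injective Θ := by
    rw [injective_iff_map_eq_one]
    rintro ⟨k, j⟩ h
    rw [hΘapp] at h
    obtain ⟨b, hb⟩ : ∃ b, b = (Multiplicative.toAdd j).val := ⟨_, rfl⟩
    have hb2 : b < f := by rw [hb]; exact ZMod.val_lt _
    rw [← hb] at h
    have hκ : (κ x) ^ (4 * b) = 1 := by
      have := congrArg κ h
      rw [map_mul, map_pow, map_pow, MonoidHom.mem_ker.mp k.2, one_mul, map_one, ← pow_mul] at this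
      exact this
    have hdvd : f ∣ 4 * b := by
      rw [← hord]
      exact orderOf_dvd_of_pow_eq_one hκ
    have hcop : Nat.Coprime f 4 := by
      have : Nat.Coprime f 2 := Nat.coprime_two_right.mpr hfodd
      exact Nat.Coprime.pow_right 2 this
    have hdvd' : f ∣ b := hcop.dvd_of_dvd_mul_left hdvd
    have hb0 : b = 0 := Nat.eq_zero_of_dvd_of_lt hdvd' hb2
    rw [hb0, pow_zero, mul_one] at h
    rw [Prod.mk_eq_one]
    exact ⟨Subtype.ext h, eq_one_of_val_eq_zero j (hb ▸ hb0)⟩
  have hK8 : Nat.card κ.ker = 8 := by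
    rw [Nat.card_congr e.toEquiv, DihedralGroup.nat_card]
  have hcardG : Nat.card G = 8 * f := by rw [card_G κ x f hgen hord, hK8]
  have hfin : Finite G := by
    apply Nat.finite_of_card_ne_zero
    rw [hcardG]
    omega
  have hbij : Function.Bijective Θ := by
    apply hinj.bijective_of_nat_card_le
    rw [hcardG, Nat.card_prod, card_zmod_mult, hK8]
  exact ⟨((MulEquiv.ofBijective Θ hbij).symm).trans (MulEquiv.prodCongr e (MulEquiv.refl _))⟩

end ext

end Cfsg.Agent.Lib.Helper14_OutExt
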