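import Mathlib
import Cfsg.Agent.Lib.Helper14_OrthMinusOut2
import Cfsg.Agent.Lib.Helper14_OrthPsiInv
import Cfsg.Agent.Lib.Helper14_OutExt
import Cfsg.Agent.S2728

/-!
# `Out(PΩ⁻_{2n+2}(q))`, `q` odd (helper14)
-/

set_option autoImplicit false
set_option linter.unusedSectionVars false
set_option linter.unusedVariables false

namespace Cfsg.Agent.Lib.Helper14_OrthMinusOut3

open Cfsg Matrix Cfsg.Agent.Lib.Helper44_Orth Cfsg.Agent.Lib.Helper14_AutOmega
  Cfsg.Agent.Lib.Helper7_OrthInduced Cfsg.Agent.Lib.Helper44_OrthField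
  Cfsg.Agent.Lib.Helper44_OrthFaith Cfsg.Agent.Lib.Helper14_OrthGamma
  Cfsg.Agent.Lib.Helper14_OrthGamma2 Cfsg.Agent.Lib.Helper44_H90i
  Cfsg.Agent.Lib.Helper44_StdForms Cfsg.Agent.Lib.Helper44_OMinusCount
  Cfsg.Agent.Lib.Helper14_OmegaIndex Cfsg.Agent.Lib.Helper14_OrthMinusOut2
  Cfsg.Agent.Lib.Helper14_OrthPsiInv Cfsg.Agent.Lib.Helper14_GOChars

/-! ### The `2 × 2` computation in odd characteristic -/

section two

variable {F : Type*} [Field F]

theorem PNi_gE_odd {p r : ℕ} (hr : p = 2 * r + 1) (φ : F ≃+* F) (hφ : ∀ x, φ x = x ^ p)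
    (a d s t : F) (ht : t ≠ 0) (htd : t = d ^ r) (hs : 2 * s + a * t = a ^ p) (k : ℕ) :
    ∃ (X Y : F) (e : ℕ),
      ((PNi φ (gE t s ht) k : GL (Fin 2) F) : Matrix (Fin 2) (Fin 2) F) = !![1, X; 0, Y] ∧
      2 * e + 1 = p ^ k ∧ Y = d ^ e ∧ 2 * X + a * Y = a ^ (p ^ k) := by
  induction k with
  | zero =>
    refine ⟨0, 1, 0, ?_, by simp, by simp, by simp⟩
    rw [PNi_zero]
    ext i j
    fin_cases i <;> fin_cases j <;> simp
  | succ k ih =>
    obtain ⟨X, Y, e, hP, he, hY, hX⟩ := ih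
    have hp0 : p ≠ 0 := by omega
    refine ⟨X ^ p + s * Y ^ p, t * Y ^ p, r + p * e, ?_, ?_, ?_, ?_⟩
    · rw [PNi_succ', Units.val_mul, mapGLi_coe, hP, gE_coe]
      ext i j
      fin_cases i <;> fin_cases j <;>
        simp only [Matrix.mul_apply, Fin.sum_univ_two, Matrix.map_apply, Matrix.of_apply,
          Matrix.cons_val', Matrix.cons_val_zero, Matrix.cons_val_one, Matrix.empty_val',
          Matrix.cons_val_fin_one, Fin.zero_eta, Fin.mk_one, hφ, Fin.isValue, zero_pow hp0,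
          one_pow] <;> ring
    · rw [pow_succ, ← he, hr]
      ring
    · rw [htd, hY, ← pow_mul, ← pow_add, mul_comm e p]
    · have h1 : a ^ p ^ (k + 1) = φ (a ^ p ^ k) := by rw [hφ, ← pow_mul, ← pow_succ]
      rw [h1, ← hX, map_add, map_mul, map_mul, map_ofNat, hφ, hφ, hφ, ← hs]
      ring

end two

section field

variable {F : Type*} [Field F] [Fintype F]

theorem disc_not_square (h2 : (2 : F) ≠ 0) (a b : F)
    (hab : ∀ z₁ z₂ : F, z₁ ^ 2 + a * z₁ * z₂ + b * z₂ ^ 2 = 0 → z₁ = 0 ∧ z₂ = 0) :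
    ¬ IsSquare (a ^ 2 - 4 * b) := by
  rintro ⟨r, hr⟩
  exact h2 (hab (r - a) 2 (by linear_combination (-1 : F) * hr)).2

/-- The parameters of the Frobenius semisimilarity and its norm. -/
theorem exists_frob_params {p f : ℕ} [Fact p.Prime] (hp : p ≠ 2) (hF : Fintype.card F = p ^ f)
    (a b : F) (hab : ∀ z₁ z₂ : F, z₁ ^ 2 + a * z₁ * z₂ + b * z₂ ^ 2 = 0 → z₁ = 0 ∧ z₂ = 0)
    (φ : F ≃+* F) (hφ : ∀ x, φ x = x ^ p) :
    ∃ (s t : F) (ht : t ≠ 0), s ^ 2 + a * s * t + b * t ^ 2 = b ^ p ∧ 2 * s + a * t = a ^ p ∧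
      ((PNi φ (gE t s ht) f : GL (Fin 2) F) : Matrix (Fin 2) (Fin 2) F) = !![1, a; 0, -1] := by
  have hchar : CharP F p := charP_of_card_eq_prime_pow hF
  have hrc : ringChar F ≠ 2 := by
    rw [ringChar.eq F p]
    exact hp
  have h2 : (2 : F) ≠ 0 := Ring.two_ne_zero hrc
  have h4 : (4 : F) ≠ 0 := by
    have : (4 : F) = 2 * 2 := by norm_num
    rw [this]
    exact mul_ne_zero h2 h2
  obtain ⟨r, hr⟩ := (Fact.out : p.Prime).eq_two_or_odd'.resolve_left hp
  obtain ⟨d, hd⟩ : ∃ d : F, d = a ^ 2 - 4 * b := ⟨_, rfl⟩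
  have hdns : ¬ IsSquare d := by rw [hd]; exact disc_not_square h2 a b hab
  have hd0 : d ≠ 0 := by
    rintro rfl
    exact hdns ⟨0, by simp⟩
  have ht : d ^ r ≠ 0 := pow_ne_zero _ hd0
  have hs : 2 * ((a ^ p - a * d ^ r) / 2) + a * d ^ r = a ^ p := by
    field_simp
    ring
  have hdp : d ^ p = (a ^ p) ^ 2 - 4 * b ^ p := by
    rw [← hφ, hd, map_sub, map_mul, map_pow, map_ofNat, hφ, hφ]
  refine ⟨(a ^ p - a * d ^ r) / 2, d ^ r, ht, ?_, hs, ?_⟩
  · apply mul_left_cancel₀ h4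
    have h5 : d * (d ^ r) ^ 2 = d ^ p := by
      rw [hr]
      ring
    linear_combination (2 * ((a ^ p - a * d ^ r) / 2) + a * d ^ r + a ^ p) * hs - h5 - hdp
      + (d ^ r) ^ 2 * hd
  · obtain ⟨X, Y, e, hP, he, hY, hX⟩ :=
      PNi_gE_odd hr φ hφ a d ((a ^ p - a * d ^ r) / 2) (d ^ r) ht rfl hs f
    rw [← hF] at he hX
    have he' : e = Fintype.card F / 2 := by omega
    have hY1 : Y = -1 := by
      rw [hY, he']
      rcases FiniteField.pow_dichotomy hrc hd0 with h | h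
      · exact absurd ((FiniteField.isSquare_iff hrc hd0).mpr h) hdns
      · exact h
    rw [FiniteField.pow_card, hY1] at hX
    have hXa : X = a := by
      apply mul_left_cancel₀ h2
      linear_combination hX
    rw [hP, hXa, hY1]

end field

/-! ### The Frobenius semisimilarity and its `f`-th power -/

section main

variable {n : ℕ} {F : Type*} [Field F] [Fintype F]

theorem semisim_frob_odd {p : ℕ} (a b s t : F) (ht : t ≠ 0) (φ : F ≃+* F)
    (hφ : ∀ x, φ x = x ^ p) (hst : s ^ 2 + a * s * t + b * t ^ 2 = b ^ p)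
    (hs : 2 * s + a * t = a ^ p) :
    IsSemisimilarityPair (⇑(qfMinus n F a b)) (blGL (n := n) (gE t s ht)) φ := by
  refine ⟨1, fun v => ?_⟩
  rw [Units.val_one, one_mul, blGL_mulVec, gE_mulVec, coe_qfMinus]
  unfold Cfsg.quadFormMinus
  simp only [Sum.elim_inl, Sum.elim_inr, Function.comp_apply, Matrix.cons_val_zero,
    Matrix.cons_val_one]
  rw [map_add, map_sum]
  simp only [map_mul]
  congr 1
  simp only [map_add, map_mul, map_pow, hφ a, hφ b]
  linear_combination (φ (v (Sum.inr 0)) * φ (v (Sum.inr 1))) * hs + (φ (v (Sum.inr 1))) ^ 2 * hst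

theorem norm_isometry (a b : F) (N : GL (Fin 2) F)
    (hN : (N : Matrix (Fin 2) (Fin 2) F) = !![1, a; 0, -1]) :
    blGL (n := n) N ∈ isometryGroup F (⇑(qfMinus n F a b)) := by
  rw [mem_isometryGroup_iff]
  intro v
  have h1 : (N : Matrix (Fin 2) (Fin 2) F) *ᵥ (v ∘ Sum.inr) =
      ![v (Sum.inr 0) + a * v (Sum.inr 1), - v (Sum.inr 1)] := by
    rw [hN]
    ext i
    fin_cases i <;> simp [Matrix.mulVec, dotProduct, Fin.sum_univ_two]
  rw [blGL_mulVec, h1, coe_qfMinus]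
  unfold Cfsg.quadFormMinus
  simp only [Sum.elim_inl, Sum.elim_inr, Function.comp_apply, Matrix.cons_val_zero,
    Matrix.cons_val_one]
  ring

theorem norm_det (a : F) (N : GL (Fin 2) F)
    (hN : (N : Matrix (Fin 2) (Fin 2) F) = !![1, a; 0, -1]) :
    ((blGL (n := n) N : GL ((Fin n ⊕ Fin n) ⊕ Fin 2) F) :
      Matrix ((Fin n ⊕ Fin n) ⊕ Fin 2) ((Fin n ⊕ Fin n) ⊕ Fin 2) F).det = -1 := by
  rw [blGL_coe, Matrix.det_fromBlocks_zero₂₁, Matrix.det_one, one_mul, hN, Matrix.det_fin_two_of]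
  ring

theorem card_index : Fintype.card ((Fin n ⊕ Fin n) ⊕ Fin 2) = 2 * (n + 1) := by
  simp only [Fintype.card_sum, Fintype.card_fin]
  ring

open Cfsg.Agent.Lib.Helper14_OrthMinusAut Cfsg.Agent.Lib.Helper14_OrthTop0 in
/-- A lift of the Frobenius generator whose `f`-th power is not in `psoAut`. -/
theorem exists_frob_lift {p f : ℕ} [Fact p.Prime] (hp : p ≠ 2) (hF : Fintype.card F = p ^ f)
    (hn : 3 ≤ n) (a b : F)
    (hab : ∀ z₁ z₂ : F, z₁ ^ 2 + a * z₁ * z₂ + b * z₂ ^ 2 = 0 → z₁ = 0 ∧ z₂ = 0) :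
    ∃ (φ : RingAut F) (β : MulAut (POmega F (⇑(qfMinus n F a b)))), orderOf φ = f ∧
      (∀ σ : RingAut F, ∃ k : ℕ, σ = φ ^ k) ∧ (setup_minus hn a b hab).compHom β = φ ∧
      β ^ f ∉ psoAut F (⇑(qfMinus n F a b)) := by
  have hchar : CharP F p := charP_of_card_eq_prime_pow hF
  have hrc : ringChar F ≠ 2 := by
    rw [ringChar.eq F p]
    exact hp
  have h2 : (2 : F) ≠ 0 := Ring.two_ne_zero hrc
  have S := setup_minus hn a b hab
  have hQ := Cfsg.Agent.Lib.Helper14_POmegaSimple.nondegenerate_qfMinus (F := F) n a b hab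
  have hcardn := card_minus n hn
  have hne : ∃ v, qfMinus n F a b v ≠ 0 := ⟨_, nonsing_minus a b⟩
  obtain ⟨φ, hφ, hord, hgen⟩ := exists_frob hF
  obtain ⟨s, t, ht, hst, hs, hP⟩ := exists_frob_params hp hF a b hab φ hφ
  have h0 := semisim_frob_odd (n := n) a b s t ht φ hφ hst hs
  refine ⟨φ, twistP (⇑(qfMinus n F a b)) _ φ h0, hord, hgen, ?_, ?_⟩
  · rw [Setup.compHom_apply, S.comp_twistP]
  · intro hmem
    have hφf : φ ^ f = 1 := by
      rw [← hord]
      exact pow_orderOf_eq_one φ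
    obtain ⟨h', hpow⟩ := twistP_pow h0 f
    obtain ⟨N, hN⟩ : ∃ N, N = PNi φ (gE t s ht) f := ⟨_, rfl⟩
    rw [← hN] at hP
    have hiso := norm_isometry (n := n) a b N hP
    obtain ⟨gN, hgN⟩ : ∃ gN : ↥(GO (⇑(qfMinus n F a b))),
        (gN : GL ((Fin n ⊕ Fin n) ⊕ Fin 2) F) = blGL (n := n) N :=
      ⟨⟨_, isometryGroup_le_GO _ hiso⟩, rfl⟩
    have hgs : PNi φ (blGL (n := n) (gE t s ht)) f =
        (gN : GL ((Fin n ⊕ Fin n) ⊕ Fin 2) F) := by
      rw [PNi_blGL, ← hN, hgN]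
    have hs1 : IsSemisimilarityPair (⇑(qfMinus n F a b))
        (gN : GL ((Fin n ⊕ Fin n) ⊕ Fin 2) F) 1 := by
      rw [← hgs, ← hφf]
      exact h'
    have hβf : (twistP (⇑(qfMinus n F a b)) _ φ h0) ^ f = Phi (⇑(qfMinus n F a b)) gN := by
      rw [hpow, twistP_congr h' hs1 hgs hφf, S.twistP_refl_eq_Phi]
    rw [hβf] at hmem
    have hpsi := psi_of_Phi_mem_pso (qfMinus n F a b) h2 hQ hcardn hne card_index gN hmem
    rw [psi, MonoidHom.prod_apply, Prod.mk_eq_one] at hpsi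
    have hsgn := (sgnHom_eq_one_iff h2 (qfMinus n F a b) hQ hne card_index gN).mp hpsi.2
    have hmu : mu (⇑(qfMinus n F a b)) gN = 1 :=
      mu_of_isometry (⇑(qfMinus n F a b)) hne gN (by rw [hgN]; exact hiso)
    rw [hmu, Units.val_one, one_pow, hgN, norm_det a N hP] at hsgn
    apply h2
    linear_combination (-1 : F) * hsgn

end main

/-! ### The kernel of the companion homomorphism on `Out` -/

section glue

variable {ι : Type} [Fintype ι] [DecidableEq ι] {F : Type*} [Field F] [Fintype F]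
  {Q : QuadraticForm F (ι → F)}

/-- The kernel of `outHom` is `PGO / Inn`. -/
theorem iso_ker (S : Setup Q) {H : Type*} [Group H] (φH : ↥(pgoAut F (⇑Q)) →* H)
    (hsurj : Function.Surjective φH)
    (hker : φH.ker = (Inn (POmega F (⇑Q))).subgroupOf (pgoAut F (⇑Q))) :
    Nonempty (↥(outHom S).ker ≃* H) := by
  obtain ⟨ψ, hψ⟩ : ∃ ψ : ↥(pgoAut F (⇑Q)) →* Out (POmega F (⇑Q)),
      ψ = (QuotientGroup.mk' (Inn (POmega F (⇑Q)))).comp (pgoAut F (⇑Q)).subtype := ⟨_, rfl⟩
  have hψker : ψ.ker = φH.ker := by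
    rw [hker]
    ext π
    rw [MonoidHom.mem_ker, hψ, Subgroup.mem_subgroupOf]
    exact QuotientGroup.eq_one_iff _
  have hψrange : ψ.range = (outHom S).ker := by
    ext y
    induction y using QuotientGroup.induction_on with
    | H β =>
      rw [mem_ker_outHom, ← pgoAut_eq]
      constructor
      · rintro ⟨π, hπ⟩
        rw [hψ] at hπ
        have h1 : (QuotientGroup.mk (π : MulAut (POmega F (⇑Q))) : Out (POmega F (⇑Q))) =
            QuotientGroup.mk β := hπ
        rw [QuotientGroup.eq] at h1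
        have h2 := Subgroup.mul_mem _ π.2
          (Cfsg.Agent.Lib.Helper44_OrthOddCent.inn_le_range Q h1 |> fun h => by
            rw [pgoAut_eq]; exact h)
        rwa [mul_inv_cancel_left] at h2
      · intro hβ
        exact ⟨⟨β, hβ⟩, by rw [hψ]; rfl⟩
  exact ⟨(MulEquiv.subgroupCongr hψrange.symm).trans
    ((QuotientGroup.quotientKerEquivRange ψ).symm.trans
      ((QuotientGroup.quotientMulEquivOfEq hψker).trans
        (QuotientGroup.quotientKerEquivOfSurjective φH hsurj)))⟩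

end glue

/-! ### The main theorem -/

section final

variable {n : ℕ} {F : Type*} [Field F] [Fintype F]

theorem odd_of_pow_mod_four {p f : ℕ} (h : p ^ f % 4 = 3) : Odd f := by
  by_contra hf
  rw [Nat.not_odd_iff_even] at hf
  obtain ⟨j, rfl⟩ := hf
  rw [← two_mul, pow_mul', pow_two, Nat.mul_mod] at h
  have h4 : p ^ j % 4 < 4 := Nat.mod_lt _ (by norm_num)
  interval_cases (p ^ j % 4) <;> simp at h

theorem mult_zmod22_sq : ∀ y : Multiplicative (ZMod 2 × ZMod 2), y * y = 1 := by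
  decide

set_option maxHeartbeats 1600000 in
open Cfsg.Agent.Lib.Helper14_OrthMinusAut Cfsg.Agent.Lib.Helper14_OrthTop0
  Cfsg.Agent.Lib.Helper14_OutExt in
/-- **`Out(PΩ⁻_{2n+2}(q))`, `q = p^f` odd.** -/
theorem out_minus_odd {p f : ℕ} [Fact p.Prime] (hf : 1 ≤ f) (hF : Fintype.card F = p ^ f)
    (hp : p ≠ 2) (hn : 3 ≤ n) (a b : F)
    (hab : ∀ z₁ z₂ : F, z₁ ^ 2 + a * z₁ * z₂ + b * z₂ ^ 2 = 0 → z₁ = 0 ∧ z₂ = 0) :
    ((Even n ∧ Fintype.card F % 4 = 3) →
      Nonempty (Out (POmega F (Cfsg.quadFormMinus n F a b)) ≃*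
        DihedralGroup 4 × Multiplicative (ZMod f))) ∧
    (¬ (Even n ∧ Fintype.card F % 4 = 3) →
      Nonempty (Out (POmega F (Cfsg.quadFormMinus n F a b)) ≃*
        Multiplicative (ZMod 2 × ZMod (2 * f)))) := by
  have hodd : Odd (Fintype.card F) := by
    rw [hF]
    exact ((Fact.out : p.Prime).eq_two_or_odd'.resolve_left hp).pow
  have h2 : (2 : F) ≠ 0 := two_ne_zero_of_odd hodd
  have S := setup_minus hn a b hab
  have hne : ∃ v, qfMinus n F a b v ≠ 0 := ⟨_, nonsing_minus a b⟩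
  obtain ⟨φ, β, hord, hgen, hβφ, hβf⟩ := exists_frob_lift hp hF hn a b hab
  have h26 := Cfsg.Agent.S2727.result hodd hn a b hab
  have h28 := Cfsg.Agent.S2728.result hodd hn a b hab
  rw [← coe_qfMinus] at h26 h28
  -- the generator
  obtain ⟨x, hx⟩ : ∃ x : Out (POmega F (⇑(qfMinus n F a b))), x = QuotientGroup.mk β := ⟨_, rfl⟩
  have hκx : outHom S x = φ := by rw [hx, outHom_mk, hβφ]
  have hgen' : ∀ c : RingAut F, ∃ k : ℕ, c = (outHom S x) ^ k := by
    intro c
    rw [hκx]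
    exact hgen c
  have hord' : orderOf (outHom S x) = f := by rw [hκx, hord]
  -- general facts
  have hIS : Inn (POmega F (⇑(qfMinus n F a b))) ≤ psoAut F (⇑(qfMinus n F a b)) := by
    rw [psoAut_eq_map, inn_eq_map]
    apply Subgroup.map_mono
    exact Abelianization.commutator_subset_ker _
  have hSP : psoAut F (⇑(qfMinus n F a b)) ≤ (Phi (⇑(qfMinus n F a b))).range := by
    rw [psoAut_eq]
    rintro _ ⟨g, -, rfl⟩
    exact ⟨g, rfl⟩
  obtain ⟨T, hT⟩ : ∃ T : Subgroup (Out (POmega F (⇑(qfMinus n F a b)))),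
      T = (psoAut F (⇑(qfMinus n F a b))).map
        (QuotientGroup.mk' (Inn (POmega F (⇑(qfMinus n F a b))))) := ⟨_, rfl⟩
  have hcommT : ∀ g : Out (POmega F (⇑(qfMinus n F a b))), ∀ k ∈ (outHom S).ker,
      g * k * g⁻¹ * k⁻¹ ∈ T := by
    intro g k hk
    induction g using QuotientGroup.induction_on with
    | H γ =>
      induction k using QuotientGroup.induction_on with
      | H π =>
        rw [mem_ker_outHom] at hk
        obtain ⟨d, rfl⟩ := hk
        rw [hT]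
        exact ⟨_, comm_mem_pso S h2 hne card_index γ d, rfl⟩
  constructor
  · intro hX
    have hfodd : Odd f := odd_of_pow_mod_four (by rw [← hF]; exact hX.2)
    obtain ⟨φ28, hs28, hk28⟩ := h28.1 hX
    obtain ⟨e⟩ := iso_ker S φ28 hs28 hk28
    have hT2 : Nat.card T = 2 := by
      rw [← Subgroup.relIndex_bot_left, hT]
      have hbot : (⊥ : Subgroup (Out (POmega F (⇑(qfMinus n F a b))))) =
          (Inn (POmega F (⇑(qfMinus n F a b)))).map
            (QuotientGroup.mk' (Inn (POmega F (⇑(qfMinus n F a b))))) := by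
        rw [QuotientGroup.map_mk'_self]
      rw [hbot, Subgroup.relIndex_map_map, QuotientGroup.ker_mk', sup_idem,
        sup_eq_left.mpr hIS]
      exact h26.1 hX
    have hTK : T ≤ (outHom S).ker := by
      rw [hT]
      rintro _ ⟨π, hπ, rfl⟩
      exact (mem_ker_outHom S π).mpr (hSP hπ)
    obtain ⟨E⟩ := equiv_X (outHom S) x f hfodd hgen' hord' T hT2 hTK hcommT e
    rw [coe_qfMinus] at E
    exact ⟨E⟩
  · intro hY
    obtain ⟨φ28, hs28, hk28⟩ := h28.2 hY
    obtain ⟨e⟩ := iso_ker S φ28 hs28 hk28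
    have hSI : psoAut F (⇑(qfMinus n F a b)) ≤ Inn (POmega F (⇑(qfMinus n F a b))) :=
      Subgroup.relIndex_eq_one.mp (h26.2 hY)
    have hTbot : ∀ t ∈ T, t = 1 := by
      rw [hT]
      rintro _ ⟨π, hπ, rfl⟩
      exact (QuotientGroup.eq_one_iff π).mpr (hSI hπ)
    have hK4 : Nat.card (outHom S).ker = 4 := by
      rw [Nat.card_congr e.toEquiv, Nat.card_congr Multiplicative.toAdd, Nat.card_prod,
        Nat.card_zmod]
    have hexp : ∀ k ∈ (outHom S).ker, k * k = 1 := by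
      intro k hk
      have h1 := mult_zmod22_sq (e ⟨k, hk⟩)
      rw [← map_mul, EmbeddingLike.map_eq_one_iff] at h1
      exact congrArg Subtype.val h1
    have hcent : ∀ k ∈ (outHom S).ker, x * k = k * x := by
      intro k hk
      have h1 := hTbot _ (hcommT x k hk)
      have h3 : x * k * x⁻¹ = k := by
        have := congrArg (· * k) h1
        simpa using this
      have := congrArg (· * x) h3
      simpa using this
    have hxf : x ^ f ≠ 1 := by
      intro h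
      rw [hx, ← QuotientGroup.mk_pow, QuotientGroup.eq_one_iff] at h
      exact hβf (hIS h)
    obtain ⟨E⟩ := equiv_Y (outHom S) x f hf hgen' hord' hK4 hexp hcent hxf
    rw [coe_qfMinus] at E
    exact ⟨E⟩

end final

end Cfsg.Agent.Lib.Helper14_OrthMinusOut3
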