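import Mathlib
import Cfsg.Agent.Lib.Helper14_OrthMinusOut3
import Cfsg.Agent.Lib.Helper14_GraphSplit
import Cfsg.Agent.Lib.Helper14_InndiagMinus
import Cfsg.Agent.Lib.Helper14_NegOneStd
import Cfsg.Agent.Lib.Helper60_OrthExt_PE1
import Cfsg.Agent.Lib.Helper14_InndiagMain
import Cfsg.Agent.Lib.Helper14_GODelta
import Cfsg.Agent.Lib.Helper44_WittIndexMinus
import Cfsg.Agent.Lib.Helper44_FinSq

/-!
# Involutory graph automorphisms of `PΩ⁻_{2m+2}(q)`, `q` odd (helper14)
-/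

set_option autoImplicit false
set_option linter.unusedSectionVars false
set_option linter.unusedVariables false

namespace Cfsg.Agent.Lib.Helper14_OrthMinusGraph

open Cfsg Matrix Module Cfsg.Agent.Lib.Helper44_Orth Cfsg.Agent.Lib.Helper14_AutOmega
  Cfsg.Agent.Lib.Helper7_OrthInduced Cfsg.Agent.Lib.Helper14_OrthGamma
  Cfsg.Agent.Lib.Helper14_OrthGamma2 Cfsg.Agent.Lib.Helper44_H90i
  Cfsg.Agent.Lib.Helper44_StdForms Cfsg.Agent.Lib.Helper14_OmegaIndex
  Cfsg.Agent.Lib.Helper14_OrthMinusOut2 Cfsg.Agent.Lib.Helper14_OrthMinusOut3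
  Cfsg.Agent.Lib.Helper14_OrthPsiInv Cfsg.Agent.Lib.Helper14_GOChars
  Cfsg.Agent.Lib.Helper14_CentOmega Cfsg.Agent.Lib.Helper14_InndiagQuot
  Cfsg.Agent.Lib.Helper14_GraphSplit Cfsg.Agent.Lib.Helper14_SplitClass

/-! ### An involution of `Aut(PΩ(Q))` lies in `PGO(Q)` -/

section A

variable {ι : Type} [Fintype ι] [DecidableEq ι] {F : Type*} [Field F] [Fintype F]
  {Q : QuadraticForm F (ι → F)}

theorem Phi_mem_map_Gz_iff (h2 : (2 : F) ≠ 0) (hQ : (QuadraticMap.polarBilin Q).Nondegenerate)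
    (hn : 5 ≤ Fintype.card ι) (hne : ∃ v, Q v ≠ 0) {M : ℕ} (hcard : Fintype.card ι = 2 * M)
    (d : ↥(GO (⇑Q))) :
    Phi (⇑Q) d ∈ (Gz h2 Q hQ hne hcard).map (Phi (⇑Q)) ↔ d ∈ Gz h2 Q hQ hne hcard := by
  constructor
  · rintro ⟨d', hd', h⟩
    have hz : d'⁻¹ * d ∈ (Phi (⇑Q)).ker := by
      rw [MonoidHom.mem_ker, map_mul, map_inv, h, inv_mul_cancel]
    rw [ker_Phi Q hQ hn] at hz
    have hz' : d'⁻¹ * d ∈ Gz h2 Q hQ hne hcard :=
      SO'_le_Gz h2 Q hQ hne hcard (Subgroup.mem_sup_right hz)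
    have : d = d' * (d'⁻¹ * d) := by group
    rw [this]
    exact Subgroup.mul_mem _ hd' hz'
  · intro hd
    exact ⟨d, hd, rfl⟩

theorem pso_le_map_Gz (h2 : (2 : F) ≠ 0) (hQ : (QuadraticMap.polarBilin Q).Nondegenerate)
    (hne : ∃ v, Q v ≠ 0) {M : ℕ} (hcard : Fintype.card ι = 2 * M) :
    psoAut F (⇑Q) ≤ (Gz h2 Q hQ hne hcard).map (Phi (⇑Q)) := by
  rw [psoAut_eq]
  apply Subgroup.map_mono
  exact le_trans le_sup_left (SO'_le_Gz h2 Q hQ hne hcard)

/-- If the `f`-th power of a lift of the Frobenius generator is induced by a similarity outside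
`G°`, every involution of `Aut(PΩ(Q))` is induced by a similarity. -/
theorem mem_range_of_sq_eq_one (S : Setup Q) (h2 : (2 : F) ≠ 0) (hne : ∃ v, Q v ≠ 0) {M : ℕ}
    (hcard : Fintype.card ι = 2 * M) {f : ℕ} (φ : RingAut F)
    (β : MulAut (POmega F (⇑Q))) (hord : orderOf φ = f)
    (hgen : ∀ σ : RingAut F, ∃ k : ℕ, σ = φ ^ k) (hβφ : S.compHom β = φ) (gN : ↥(GO (⇑Q)))
    (hβf : β ^ f = Phi (⇑Q) gN) (hgN : gN ∉ Gz h2 Q S.nd hne hcard)
    (γ : MulAut (POmega F (⇑Q))) (hγ : γ * γ = 1) : γ ∈ (Phi (⇑Q)).range := by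
  by_contra hcon
  have hσ1 : S.compHom γ ≠ 1 := by
    intro h
    apply hcon
    rw [← S.ker_compHom]
    exact h
  obtain ⟨k, hk⟩ := hgen (S.compHom γ)
  have hσσ : φ ^ (2 * k) = 1 := by
    rw [two_mul, pow_add, ← hk, ← map_mul, hγ, map_one]
  have hdvd : f ∣ 2 * k := by
    rw [← hord]
    exact orderOf_dvd_of_pow_eq_one hσσ
  have hndvd : ¬ f ∣ k := by
    intro h
    apply hσ1
    rw [hk]
    rw [← hord] at h
    exact orderOf_dvd_iff_pow_eq_one.mp h
  obtain ⟨j, hj⟩ := hdvd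
  have hjodd : Odd j := by
    by_contra hje
    rw [Nat.not_odd_iff_even] at hje
    obtain ⟨j', rfl⟩ := hje
    apply hndvd
    exact ⟨j', by nlinarith⟩
  -- the decomposition `γ = β ^ k * π`
  have hπ : (β ^ k)⁻¹ * γ ∈ (Phi (⇑Q)).range := by
    rw [← S.ker_compHom, MonoidHom.mem_ker, map_mul, map_inv, map_pow, hβφ, hk, inv_mul_cancel]
  obtain ⟨d, hd⟩ := hπ
  have hγeq : γ = β ^ k * Phi (⇑Q) d := by rw [hd]; group
  have hD := Phi_mem_map_Gz_iff h2 S.nd S.hn hne hcard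
  -- `β ^ (2k)` is induced by a similarity outside `G°`
  have hpow : β ^ (2 * k) = Phi (⇑Q) (gN ^ j) := by
    rw [hj, pow_mul, hβf, map_pow]
  have hgNj : gN ^ j ∉ Gz h2 Q S.nd hne hcard := by
    rw [MonoidHom.mem_ker, map_pow]
    have h1 : sgnHom h2 Q S.nd hne hcard gN = -1 := by
      rcases Int.units_eq_one_or (sgnHom h2 Q S.nd hne hcard gN) with h | h
      · exact absurd (MonoidHom.mem_ker.mpr h) hgN
      · exact h
    rw [h1, hjodd.neg_one_pow]
    decide
  apply hgNj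
  rw [← hD, ← hpow]
  -- `1 = γ² = β^(2k) * (β^(-k) π β^k) * π`
  have h1 : β ^ (2 * k) * (((β ^ k)⁻¹ * Phi (⇑Q) d * ((β ^ k)⁻¹)⁻¹ * (Phi (⇑Q) d)⁻¹) *
      (Phi (⇑Q) d * Phi (⇑Q) d)) = 1 := by
    rw [← hγ, hγeq, two_mul, pow_add]
    group
  have h3 : β ^ (2 * k) = (((β ^ k)⁻¹ * Phi (⇑Q) d * ((β ^ k)⁻¹)⁻¹ * (Phi (⇑Q) d)⁻¹) *
      (Phi (⇑Q) d * Phi (⇑Q) d))⁻¹ := eq_inv_of_mul_eq_one_left h1
  rw [h3]
  apply Subgroup.inv_mem
  apply Subgroup.mul_mem
  · exact pso_le_map_Gz h2 S.nd hne hcard (comm_mem_pso S h2 hne hcard _ d)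
  · rw [← map_mul, hD]
    rw [MonoidHom.mem_ker, map_mul]
    rcases Int.units_eq_one_or (sgnHom h2 Q S.nd hne hcard d) with h | h <;> rw [h] <;> decide

end A

/-! ### The Frobenius lift, with the sign of its `f`-th power -/

section B

variable {n : ℕ} {F : Type*} [Field F] [Fintype F]

open Cfsg.Agent.Lib.Helper14_OrthMinusAut Cfsg.Agent.Lib.Helper14_OrthTop0 in
theorem exists_frob_lift_sgn {p f : ℕ} [Fact p.Prime] (hp : p ≠ 2) (hF : Fintype.card F = p ^ f)
    (hn : 3 ≤ n) (a b : F)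
    (hab : ∀ z₁ z₂ : F, z₁ ^ 2 + a * z₁ * z₂ + b * z₂ ^ 2 = 0 → z₁ = 0 ∧ z₂ = 0)
    (h2 : (2 : F) ≠ 0) (hne : ∃ v, qfMinus n F a b v ≠ 0) :
    ∃ (φ : RingAut F) (β : MulAut (POmega F (⇑(qfMinus n F a b))))
      (gN : ↥(GO (⇑(qfMinus n F a b)))), orderOf φ = f ∧
      (∀ σ : RingAut F, ∃ k : ℕ, σ = φ ^ k) ∧ (setup_minus hn a b hab).compHom β = φ ∧
      β ^ f = Phi (⇑(qfMinus n F a b)) gN ∧
      gN ∉ Gz h2 (qfMinus n F a b) (setup_minus hn a b hab).nd hne card_index := by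
  have S := setup_minus hn a b hab
  have hQ := S.nd
  obtain ⟨φ, hφ, hord, hgen⟩ := exists_frob hF
  obtain ⟨s, t, ht, hst, hs, hP⟩ := exists_frob_params hp hF a b hab φ hφ
  have h0 := semisim_frob_odd (n := n) a b s t ht φ hφ hst hs
  have hφf : φ ^ f = 1 := by
    rw [← hord]
    exact pow_orderOf_eq_one φ
  obtain ⟨h', hpow⟩ := twistP_pow h0 f
  obtain ⟨N, hN⟩ : ∃ N, N = PNi φ (gE t s ht) f := ⟨_, rfl⟩
  rw [← hN] at hP
  have hiso := norm_isometry (n := n) a b N hP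
  obtain ⟨gN, hgN⟩ : ∃ gN : ↥(GO (⇑(qfMinus n F a b))),
      (gN : GL ((Fin n ⊕ Fin n) ⊕ Fin 2) F) = blGL (n := n) N :=
    ⟨⟨_, isometryGroup_le_GO _ hiso⟩, rfl⟩
  have hgs : PNi φ (blGL (n := n) (gE t s ht)) f =
      (gN : GL ((Fin n ⊕ Fin n) ⊕ Fin 2) F) := by
    rw [PNi_blGL, ← hN, hgN]
  have hs1 : IsSemisimilarityPair (⇑(qfMinus n F a b))
      (gN : GL ((Fin n ⊕ Fin n) ⊕ Fin 2) F) 1 := by
    rw [← hgs, ← hφf]
    exact h'
  refine ⟨φ, twistP (⇑(qfMinus n F a b)) _ φ h0, gN, hord, hgen, ?_, ?_, ?_⟩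
  · rw [Setup.compHom_apply, S.comp_twistP]
  · rw [hpow, twistP_congr h' hs1 hgs hφf, S.twistP_refl_eq_Phi]
  · intro hmem
    have hsgn := (sgnHom_eq_one_iff h2 (qfMinus n F a b) hQ hne card_index gN).mp
      (MonoidHom.mem_ker.mp hmem)
    have hmu : mu (⇑(qfMinus n F a b)) gN = 1 :=
      mu_of_isometry (⇑(qfMinus n F a b)) hne gN (by rw [hgN]; exact hiso)
    rw [hmu, Units.val_one, one_pow, hgN, norm_det a N hP] at hsgn
    apply h2
    linear_combination (-1 : F) * hsgn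

end B

/-! ### Linear algebra lemmas -/

section linalg

open Polynomial

variable {F : Type*} [Field F]

/-- A matrix with `A² = c`, `c` a non-square, in dimension `2M` has determinant `(-c)^M`. -/
theorem det_of_sq_nonsquare {n : Type*} [Fintype n] [DecidableEq n] (A : Matrix n n F) (c : F)
    (hc : ¬ IsSquare c) (hA : A * A = c • (1 : Matrix n n F)) {M : ℕ}
    (hcard : Fintype.card n = 2 * M) : A.det = (-c) ^ M := by
  have hirr : Irreducible (X ^ 2 - C c : F[X]) := by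
    rw [X_pow_sub_C_irreducible_iff_of_prime Nat.prime_two]
    intro b hb
    exact hc ⟨b, by rw [← hb, pow_two]⟩
  have hprime : Prime (X ^ 2 - C c : F[X]) := hirr.prime
  have hmul : A.charpoly * (-A).charpoly = (X ^ 2 - C c) ^ (2 * M) := by
    rw [Matrix.charpoly, Matrix.charpoly, ← Matrix.det_mul]
    have h1 : charmatrix A * charmatrix (-A) = (X ^ 2 - C c : F[X]) • (1 : Matrix n n F[X]) := by
      rw [charmatrix, charmatrix]
      have hneg : (C : F →+* F[X]).mapMatrix (-A) = - (C : F →+* F[X]).mapMatrix A := map_neg _ _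
      rw [hneg, sub_neg_eq_add]
      have hcomm : Commute (Matrix.scalar n (X : F[X])) ((C : F →+* F[X]).mapMatrix A) :=
        Matrix.scalar_commute _ (fun r => Commute.all _ _) _
      have h2 : (Matrix.scalar n (X : F[X]) - (C : F →+* F[X]).mapMatrix A) *
          (Matrix.scalar n (X : F[X]) + (C : F →+* F[X]).mapMatrix A) =
          Matrix.scalar n (X : F[X]) * Matrix.scalar n (X : F[X]) -
            (C : F →+* F[X]).mapMatrix A * (C : F →+* F[X]).mapMatrix A := by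
        rw [sub_mul, mul_add, mul_add, hcomm.eq]
        abel
      rw [h2, ← map_mul, ← map_mul, hA]
      ext i j
      by_cases hij : i = j
      · subst hij
        simp [Matrix.scalar_apply, pow_two]
      · simp [Matrix.scalar_apply, hij]
    rw [h1, Matrix.det_smul, Matrix.det_one, mul_one, hcard]
  have hdvd : A.charpoly ∣ (X ^ 2 - C c) ^ (2 * M) := Dvd.intro _ hmul
  obtain ⟨i, hi, hassoc⟩ := (dvd_prime_pow hprime _).mp hdvd
  have hmonic : (X ^ 2 - C c : F[X]).Monic := monic_X_pow_sub_C c (by norm_num)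
  have heq : A.charpoly = (X ^ 2 - C c) ^ i :=
    eq_of_monic_of_associated (Matrix.charpoly_monic A) (hmonic.pow i) hassoc
  have hdeg : (X ^ 2 - C c : F[X]).natDegree = 2 := natDegree_X_pow_sub_C
  have hi' : i = M := by
    have h1 := congrArg natDegree heq
    rw [Matrix.charpoly_natDegree_eq_dim, hcard, natDegree_pow, hdeg] at h1
    omega
  rw [Matrix.det_eq_sign_charpoly_coeff, heq, hi', hcard, coeff_zero_eq_eval_zero, eval_pow,
    eval_sub, eval_pow, eval_X, eval_C]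
  have : ((-1 : F)) ^ (2 * M) = 1 := by rw [pow_mul]; norm_num
  rw [this, one_mul]
  norm_num

theorem det_sq_of_similarity {W : Type*} [AddCommGroup W] [Module F W] [FiniteDimensional F W]
    (B : LinearMap.BilinForm F W) (hB : B.Nondegenerate) (l : W →ₗ[F] W) (μ : F)
    (hl : ∀ u v, B (l u) (l v) = μ * B u v) :
    (LinearMap.det l) ^ 2 = μ ^ finrank F W := by
  classical
  set b := Module.finBasis F W with hb
  have hcomp : B.comp l l = μ • B := by
    refine LinearMap.ext₂ (fun u v => ?_)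
    simp only [LinearMap.BilinForm.comp_apply, LinearMap.smul_apply, smul_eq_mul]
    exact hl u v
  have h1 := congrArg (LinearMap.BilinForm.toMatrix b) hcomp
  rw [LinearMap.BilinForm.toMatrix_comp b b, map_smul] at h1
  have h2 := congrArg Matrix.det h1
  rw [Matrix.det_mul, Matrix.det_mul, Matrix.det_transpose, Matrix.det_smul,
    LinearMap.det_toMatrix, Fintype.card_fin] at h2
  have hdet : (LinearMap.BilinForm.toMatrix b B).det ≠ 0 := by
    rw [← Matrix.nondegenerate_iff_det_ne_zero, LinearMap.BilinForm.nondegenerate_toMatrix_iff]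
    exact hB
  have h3 : ((LinearMap.det l) ^ 2 - μ ^ finrank F W) *
      (LinearMap.BilinForm.toMatrix b B).det = 0 := by
    linear_combination h2
  rcases mul_eq_zero.mp h3 with h | h
  · exact sub_eq_zero.mp h
  · exact absurd h hdet

theorem isSquare_of_pow_odd {μ : F} {k : ℕ} (hk : Odd k) (hμ : μ ≠ 0) (h : IsSquare (μ ^ k)) :
    IsSquare μ := by
  obtain ⟨j, rfl⟩ := hk
  obtain ⟨r, hr⟩ := h
  refine ⟨r / μ ^ j, ?_⟩
  have hj : μ ^ j ≠ 0 := pow_ne_zero _ hμ
  field_simp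
  rw [pow_two r, ← hr]
  ring

end linalg

/-! ### The centraliser of a reflection-type involution -/

section core

open Cfsg.Agent.Lib.Helper60_OrthExt_PE1

variable {ι : Type} [Fintype ι] [DecidableEq ι] {F : Type*} [Field F] [Fintype F]

/-- Let `g₁ ∈ GO(Q) ∖ G°` be an involution, in dimension `2M` with `M` even, and suppose no totally
singular subspace has dimension `M`.  A similarity commuting with `g₁` up to a scalar has square
multiplier. -/
theorem isSquare_mu_of_comm_invol (h2 : (2 : F) ≠ 0) (Q : QuadraticForm F (ι → F))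
    (hQ : (QuadraticMap.polarBilin Q).Nondegenerate) (hne : ∃ v, Q v ≠ 0) {M : ℕ}
    (hcard : Fintype.card ι = 2 * M) (hM : Even M)
    (hts : ∀ W : Submodule F (ι → F), (∀ w ∈ W, Q w = 0) → finrank F W < M)
    (g₁ : ↥(GO (⇑Q))) (hg₁ : g₁ ∉ Gz h2 Q hQ hne hcard) (hinv : g₁ * g₁ = 1)
    (d : ↥(GO (⇑Q))) (hcomm : d * g₁ * d⁻¹ * g₁⁻¹ ∈ Z' Q) :
    IsSquare ((mu (⇑Q) d : Fˣ) : F) := by
  classical
  obtain ⟨A, hA⟩ : ∃ A : Matrix ι ι F, A = ((g₁ : GL ι F) : Matrix ι ι F) := ⟨_, rfl⟩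
  obtain ⟨D, hD⟩ : ∃ D : Matrix ι ι F, D = ((d : GL ι F) : Matrix ι ι F) := ⟨_, rfl⟩
  have hAA : A * A = 1 := by
    have := congrArg (fun g : ↥(GO (⇑Q)) => ((g : GL ι F) : Matrix ι ι F)) hinv
    simp only [Subgroup.coe_mul, Units.val_mul, Subgroup.coe_one, Units.val_one] at this
    rw [hA]
    exact this
  obtain ⟨X, hX⟩ : ∃ X : (ι → F) →ₗ[F] (ι → F), X = Matrix.toLin' A := ⟨_, rfl⟩
  have hXv : ∀ v, X v = A *ᵥ v := fun v => by rw [hX, Matrix.toLin'_apply]
  have hXX : ∀ v, X (X v) = v := by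
    intro v
    rw [hXv, hXv, Matrix.mulVec_mulVec, hAA, Matrix.one_mulVec]
  have hmumu : mu (⇑Q) g₁ * mu (⇑Q) g₁ = 1 := by
    have := map_mul (muHom (⇑Q) hne) g₁ g₁
    rw [hinv, map_one] at this
    exact this.symm
  have hmu : ((mu (⇑Q) g₁ : Fˣ) : F) = 1 ∨ ((mu (⇑Q) g₁ : Fˣ) : F) = -1 := by
    have := congrArg Units.val hmumu
    rw [Units.val_mul, Units.val_one] at this
    exact mul_self_eq_one_iff.mp this
  have hfin : finrank F (ι → F) = 2 * M := by rw [Module.finrank_fintype_fun_eq_card, hcard]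
  have hsum := finrank_eig_add hXX h2
  rw [hfin] at hsum
  -- the multiplier of `g₁` is one
  have hmu1 : ((mu (⇑Q) g₁ : Fˣ) : F) = 1 := by
    rcases hmu with h | h
    · exact h
    · exfalso
      have hsing : ∀ ε : F, ε * ε = 1 → ∀ w ∈ eig X ε, Q w = 0 := by
        intro ε hε w hw
        have h1 := mu_spec (⇑Q) g₁ w
        rw [← hA, ← hXv, mem_eig.1 hw, QuadraticMap.map_smul, hε, h, smul_eq_mul] at h1
        have h3 : (2 : F) * Q w = 0 := by linear_combination h1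
        exact (mul_eq_zero.1 h3).resolve_left h2
      have h1 := hts _ (hsing 1 (by ring))
      have h3 := hts _ (hsing (-1) (by ring))
      omega
  have hdet : A.det = -1 := by
    rcases det_eq_or h2 Q hQ hcard g₁ with h | h
    · exfalso
      apply hg₁
      rw [MonoidHom.mem_ker, sgnHom_eq_one_iff]
      exact h
    · rw [hA, h, hmu1, one_pow]
  have hk : Odd (finrank F (eig X (-1))) := by
    have h1 := det_eq_neg_one_pow hXX h2
    rw [hX, LinearMap.det_toLin', hdet] at h1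
    by_contra hev
    rw [Nat.not_odd_iff_even] at hev
    rw [← hX, hev.neg_one_pow] at h1
    apply h2
    linear_combination (-1 : F) * h1
  -- the commutation scalar
  obtain ⟨lam, hlam⟩ := (Geo.mem_scalars_iff _).mp (Subgroup.mem_subgroupOf.mp hcomm)
  have hDA : D * A = (lam : F) • (A * D) := by
    have h1 : d * g₁ = (d * g₁ * d⁻¹ * g₁⁻¹) * (g₁ * d) := by group
    have := congrArg (fun g : ↥(GO (⇑Q)) => ((g : GL ι F) : Matrix ι ι F)) h1
    simp only [Subgroup.coe_mul, Units.val_mul] at this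
    simp only [Subgroup.coe_mul, Units.val_mul] at hlam
    rw [hlam, ← hA, ← hD, Matrix.smul_mul, Matrix.one_mul] at this
    exact this
  have hDdet : D.det ≠ 0 := by
    rw [hD]
    exact ((d : GL ι F).isUnit.map Matrix.detMonoidHom).ne_zero
  have hDinj : Function.Injective (Matrix.toLin' D) := by
    rw [← LinearMap.ker_eq_bot, LinearMap.ker_eq_bot']
    intro v hv
    rw [Matrix.toLin'_apply] at hv
    exact Matrix.eq_zero_of_mulVec_eq_zero hDdet hv
  have hlam2 : (lam : F) * lam = 1 := by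
    have h1 : D * A * A = ((lam : F) * lam) • D := by
      rw [hDA, Matrix.smul_mul, Matrix.mul_assoc, hDA, Matrix.mul_smul, smul_smul,
        ← Matrix.mul_assoc, hAA, Matrix.one_mul]
    rw [Matrix.mul_assoc, hAA, Matrix.mul_one] at h1
    have h3 : D.det = ((lam : F) * lam) ^ Fintype.card ι * D.det := by
      conv_lhs => rw [h1]
      rw [Matrix.det_smul]
    have h4 : ((lam : F) * lam - 1) • D = 0 := by
      rw [sub_smul, one_smul, ← h1, sub_self]
    by_contra hne1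
    have h5 : D = 0 := by
      have := congrArg (fun N : Matrix ι ι F => ((lam : F) * lam - 1)⁻¹ • N) h4
      simp only [smul_smul, smul_zero] at this
      rwa [inv_mul_cancel₀ (sub_ne_zero.mpr hne1), one_smul] at this
    rw [h5] at hDdet
    have hne' : Nonempty ι := by
      by_contra hemp
      rw [not_nonempty_iff] at hemp
      obtain ⟨v, hv⟩ := hne
      apply hv
      have : v = 0 := Subsingleton.elim _ _
      rw [this, map_zero]
    exact hDdet Matrix.det_zero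
  have hmapD : ∀ ε : F, D * A = ε • (A * D) → ε * ε = 1 → ∀ v ∈ eig X 1,
      Matrix.toLin' D v ∈ eig X ε := by
    intro ε hε hεε v hv
    rw [mem_eig] at hv ⊢
    rw [Matrix.toLin'_apply, hXv, Matrix.mulVec_mulVec]
    have h1 : A * D = ε • (D * A) := by
      rw [hε, smul_smul, hεε, one_smul]
    rw [h1, Matrix.smul_mulVec, ← Matrix.mulVec_mulVec, ← hXv, hv, one_smul]
  rcases mul_self_eq_one_iff.mp hlam2 with hl | hl
  · -- `d` commutes with `g₁`
    rw [hl, one_smul] at hDA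
    have hW : ∀ v ∈ eig X (-1), Matrix.toLin' D v ∈ eig X (-1) := by
      intro v hv
      rw [mem_eig] at hv ⊢
      rw [Matrix.toLin'_apply, hXv, Matrix.mulVec_mulVec, ← hDA, ← Matrix.mulVec_mulVec, ← hXv, hv,
        Matrix.mulVec_smul]
    obtain ⟨B, hB⟩ : ∃ B : LinearMap.BilinForm F (ι → F), B = QuadraticMap.polarBilin Q :=
      ⟨_, rfl⟩
    have hBsymm : ∀ u v, B u v = B v u := by
      intro u v
      rw [hB]
      exact QuadraticMap.polar_comm _ _ _
    have hXB : ∀ u v, B (X u) (X v) = B u v := by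
      intro u v
      rw [hB, hXv, hXv, hA]
      have := polar_mulVec Q g₁ u v
      rw [hmu1, one_mul] at this
      exact this
    have hnd : ∀ u, (∀ v, B u v = 0) → u = 0 := by
      intro u hu
      rw [hB] at hu
      exact hQ.1 u hu
    have hndW : ((B.restrict (eig X (-1))) : LinearMap.BilinForm F ↥(eig X (-1))).Nondegenerate := by
      have hleft : ∀ u : ↥(eig X (-1)), (∀ v : ↥(eig X (-1)), B u v = 0) → u = 0 :=
        fun u hu => eig_nondeg hXX B hXB h2 hnd (by ring) u hu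
      constructor
      · intro u hu
        exact hleft u hu
      · intro u hu
        apply hleft u
        intro v
        rw [hBsymm]
        exact hu v
    have hl' : ∀ u v : ↥(eig X (-1)),
        (B.restrict (eig X (-1))) ((Matrix.toLin' D).restrict hW u) ((Matrix.toLin' D).restrict hW v) =
          ((mu (⇑Q) d : Fˣ) : F) * (B.restrict (eig X (-1))) u v := by
      intro u v
      show B (Matrix.toLin' D u) (Matrix.toLin' D v) = _ * B u v
      rw [hB, Matrix.toLin'_apply, Matrix.toLin'_apply, hD]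
      exact polar_mulVec Q d u v
    have hsq := det_sq_of_similarity _ hndW _ _ hl'
    exact isSquare_of_pow_odd hk (Units.ne_zero _) ⟨_, by rw [← hsq, pow_two]⟩
  · -- `d` anticommutes: impossible
    exfalso
    have h1 : ∀ v ∈ eig X 1, Matrix.toLin' D v ∈ eig X (-1) :=
      hmapD (-1) (by rw [hDA, hl]) (by ring)
    have hle1 : finrank F ↥(eig X 1) ≤ finrank F ↥(eig X (-1)) := by
      apply LinearMap.finrank_le_finrank_of_injective (f := (Matrix.toLin' D).restrict h1)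
      intro u v huv
      apply Subtype.ext
      apply hDinj
      exact congrArg Subtype.val huv
    have h3 : ∀ v ∈ eig X (-1), Matrix.toLin' D v ∈ eig X 1 := by
      intro v hv
      rw [mem_eig] at hv ⊢
      rw [Matrix.toLin'_apply, hXv, Matrix.mulVec_mulVec]
      have h4 : A * D = (-1 : F) • (D * A) := by
        rw [hDA, hl, smul_smul]
        norm_num
      rw [h4, Matrix.smul_mulVec, ← Matrix.mulVec_mulVec, ← hXv, hv, Matrix.mulVec_smul, smul_smul]
      norm_num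
    have hle2 : finrank F ↥(eig X (-1)) ≤ finrank F ↥(eig X 1) := by
      apply LinearMap.finrank_le_finrank_of_injective (f := (Matrix.toLin' D).restrict h3)
      intro u v huv
      apply Subtype.ext
      apply hDinj
      exact congrArg Subtype.val huv
    have hkM : finrank F ↥(eig X (-1)) = M := by omega
    rw [hkM] at hk
    exact (Nat.not_even_iff_odd.mpr hk) hM

end core

/-! ### Reduction to involutions, and the count -/

section count

variable {ι : Type} [Fintype ι] [DecidableEq ι] {F : Type*} [Field F] [Fintype F]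

theorem isSquare_mu_of_comm (h2 : (2 : F) ≠ 0) (Q : QuadraticForm F (ι → F))
    (hQ : (QuadraticMap.polarBilin Q).Nondegenerate) (hne : ∃ v, Q v ≠ 0) {M : ℕ}
    (hcard : Fintype.card ι = 2 * M) (hM : Even M)
    (hts : ∀ W : Submodule F (ι → F), (∀ w ∈ W, Q w = 0) → finrank F W < M)
    (g₀ : ↥(GO (⇑Q))) (hg₀ : g₀ ∉ Gz h2 Q hQ hne hcard) (hsq : g₀ * g₀ ∈ Z' Q)
    (d : ↥(GO (⇑Q))) (hcomm : d * g₀ * d⁻¹ * g₀⁻¹ ∈ Z' Q) :
    IsSquare ((mu (⇑Q) d : Fˣ) : F) := by
  obtain ⟨c, hc⟩ := (Geo.mem_scalars_iff _).mp (Subgroup.mem_subgroupOf.mp hsq)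
  simp only [Subgroup.coe_mul, Units.val_mul] at hc
  have hgg : g₀ * g₀ = scalarGO Q c := by
    apply Subtype.ext
    apply Units.ext
    rw [scalarGO_coe]
    simp only [Subgroup.coe_mul, Units.val_mul]
    exact hc
  have hmumu : mu (⇑Q) g₀ * mu (⇑Q) g₀ = c * c := by
    have := map_mul (muHom (⇑Q) hne) g₀ g₀
    rw [hgg, muHom_apply, muHom_apply, mu_scalarGO Q hne] at this
    exact this.symm
  obtain ⟨M', hM'⟩ := hM
  have hmuM : ((mu (⇑Q) g₀ : Fˣ) : F) ^ M = (c : F) ^ M := by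
    have h1 := congrArg Units.val hmumu
    rw [Units.val_mul, Units.val_mul] at h1
    rw [hM', ← two_mul, pow_mul, pow_mul, pow_two, pow_two, h1]
  -- `c` is a square
  have hcsq : IsSquare (c : F) := by
    by_contra hns
    apply hg₀
    rw [MonoidHom.mem_ker, sgnHom_eq_one_iff, hmuM, det_of_sq_nonsquare _ (c : F) hns hc hcard,
      Even.neg_pow ⟨M', hM'⟩]
  obtain ⟨r, hr⟩ := hcsq
  have hr0 : r ≠ 0 := by
    rintro rfl
    rw [mul_zero] at hr
    exact c.ne_zero hr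
  obtain ⟨z, hz⟩ : ∃ z : ↥(GO (⇑Q)), z = scalarGO Q (Units.mk0 r hr0)⁻¹ := ⟨_, rfl⟩
  have hzZ : z ∈ Z' Q := by
    rw [hz]
    exact Subgroup.mem_subgroupOf.mpr (scalarGO_mem Q _)
  have hzcomm : ∀ x : ↥(GO (⇑Q)), x * z = z * x := scalar_comm Q z hzZ
  have hinv : (z * g₀) * (z * g₀) = 1 := by
    have h1 : (z * g₀) * (z * g₀) = (z * z) * (g₀ * g₀) := by
      rw [mul_assoc, ← mul_assoc g₀, hzcomm g₀]
      group
    rw [h1, hgg, hz]
    apply Subtype.ext
    apply Units.ext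
    simp only [Subgroup.coe_mul, Units.val_mul, Subgroup.coe_one, Units.val_one]
    rw [scalarGO_coe, scalarGO_coe, Units.val_inv_eq_inv_val, Units.val_mk0, hr]
    rw [Matrix.smul_mul, Matrix.one_mul, smul_smul, Matrix.smul_mul, Matrix.one_mul, smul_smul]
    have : r⁻¹ * r⁻¹ * (r * r) = 1 := by
      field_simp
    rw [this, one_smul]
  have hg₁ : z * g₀ ∉ Gz h2 Q hQ hne hcard := by
    intro h
    apply hg₀
    have hzG : z ∈ Gz h2 Q hQ hne hcard :=
      SO'_le_Gz h2 Q hQ hne hcard (Subgroup.mem_sup_right hzZ)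
    have : g₀ = z⁻¹ * (z * g₀) := by group
    rw [this]
    exact Subgroup.mul_mem _ (Subgroup.inv_mem _ hzG) h
  have hcomm' : d * (z * g₀) * d⁻¹ * (z * g₀)⁻¹ ∈ Z' Q := by
    have h1 : d * (z * g₀) * d⁻¹ * (z * g₀)⁻¹ = d * g₀ * d⁻¹ * g₀⁻¹ := by
      rw [← mul_assoc, hzcomm d, _root_.mul_inv_rev]
      have h3 : z * d * g₀ * d⁻¹ * (g₀⁻¹ * z⁻¹) = z * (d * g₀ * d⁻¹ * g₀⁻¹) * z⁻¹ := by group
      rw [h3, ← hzcomm (d * g₀ * d⁻¹ * g₀⁻¹)]
      group
    rw [h1]
    exact hcomm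
  exact isSquare_mu_of_comm_invol h2 Q hQ hne hcard ⟨M', hM'⟩ hts (z * g₀) hg₁ hinv d hcomm'

/-- **Case `-1 ∉ Ω`, `M` even, no totally singular `M`-space**: the class of the involution
`γ = Phi g₀` (`g₀ ∉ G°`) under `Phi(G°)` splits into exactly two `Inn`-classes. -/
theorem count_eq_two_of_even (h2 : (2 : F) ≠ 0) (Q : QuadraticForm F (ι → F))
    (hQ : (QuadraticMap.polarBilin Q).Nondegenerate) (hn : 5 ≤ Fintype.card ι)
    (hne : ∃ v, Q v ≠ 0) {M : ℕ} (hcard : Fintype.card ι = 2 * M) (hM : Even M)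
    (hts : ∀ W : Submodule F (ι → F), (∀ w ∈ W, Q w = 0) → finrank F W < M)
    (hneg : Cfsg.Agent.Lib.Helper44_Spinor.negOne Q ∉ Omega F (⇑Q)) (δ : ↥(GO (⇑Q)))
    (hδ : chiHom Q hne δ = -1)
    (hSI : psoAut F (⇑Q) ≤ Inn (POmega F (⇑Q)))
    (g₀ : ↥(GO (⇑Q))) (hg₀ : g₀ ∉ Gz h2 Q hQ hne hcard)
    (hγ2 : Phi (⇑Q) g₀ * Phi (⇑Q) g₀ = 1) :
    splitClassCount ((Gz h2 Q hQ hne hcard).map (Phi (⇑Q))) (Inn (POmega F (⇑Q)))
      (Phi (⇑Q) g₀) = 2 := by
  rw [count_eq_index]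
  obtain ⟨φ, hsurj, hker⟩ := exists_hom_two h2 Q hQ hn hne hcard hneg δ hδ
  have hidx : (Nz h2 Q hQ hne hcard).index = 2 := by
    have hker' : φ.ker = Nz h2 Q hQ hne hcard := hker
    rw [← hker', Subgroup.index_ker, MonoidHom.range_eq_top.mpr hsurj, Subgroup.card_top,
      Nat.card_congr Multiplicative.toAdd, Nat.card_zmod]
  have hZ : Z' Q = (Phi (⇑Q)).ker := (ker_Phi Q hQ hn).symm
  have hsq : g₀ * g₀ ∈ Z' Q := by
    rw [hZ, MonoidHom.mem_ker, map_mul, hγ2]
  have hle : (Subgroup.centralizer {Phi (⇑Q) g₀}).subgroupOf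
      ((Gz h2 Q hQ hne hcard).map (Phi (⇑Q))) ≤ Nz h2 Q hQ hne hcard := by
    rintro ⟨y, hy⟩ hyC
    rw [Subgroup.mem_subgroupOf, Subgroup.mem_centralizer_singleton_iff] at hyC
    rw [Subgroup.mem_subgroupOf]
    obtain ⟨d, hd, rfl⟩ := hy
    have hyC' : Phi (⇑Q) d * Phi (⇑Q) g₀ = Phi (⇑Q) g₀ * Phi (⇑Q) d := hyC
    have hcomm : d * g₀ * d⁻¹ * g₀⁻¹ ∈ Z' Q := by
      rw [hZ, MonoidHom.mem_ker, map_mul, map_mul, map_mul, map_inv, map_inv, hyC']
      group
    have hsqmu := isSquare_mu_of_comm h2 Q hQ hne hcard hM hts g₀ hg₀ hsq d hcomm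
    show Phi (⇑Q) d ∈ Inn (POmega F (⇑Q))
    apply hSI
    apply Phi_mem_pso_of_psi Q h2 hQ hne hcard
    rw [psi, MonoidHom.prod_apply, Prod.mk_eq_one]
    exact ⟨(chiHom_eq_one_iff Q hne d).mpr hsqmu, MonoidHom.mem_ker.mp hd⟩
  rw [Nγ, sup_eq_left.mpr hle, hidx]

end count

/-! ### The main theorem -/

section final

variable {m : ℕ} {F : Type*} [Field F] [Fintype F]

open Cfsg.Agent.Lib.Helper14_OrthMinusAut Cfsg.Agent.Lib.Helper14_OrthTop0 in
set_option maxHeartbeats 1600000 in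
/-- **Involutory graph automorphisms of `PΩ⁻_{2m+2}(q)`, `q` odd: class splitting.** -/
theorem graph_split_minus (hodd : Odd (Fintype.card F)) (hm : 3 ≤ m) (a b : F)
    (hab : ∀ z₁ z₂ : F, z₁ ^ 2 + a * z₁ * z₂ + b * z₂ ^ 2 = 0 → z₁ = 0 ∧ z₂ = 0)
    (γ : MulAut (POmega F (Cfsg.quadFormMinus m F a b)))
    (hγ : γ ∉ inndiagPOmegaMinus m F a b) (hγ2 : orderOf γ = 2) :
    (splitClassCount (inndiagPOmegaMinus m F a b)
        (Inn (POmega F (Cfsg.quadFormMinus m F a b))) γ = 1 ∨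
      splitClassCount (inndiagPOmegaMinus m F a b)
        (Inn (POmega F (Cfsg.quadFormMinus m F a b))) γ = 2) ∧
    (¬ (Even m ∧ Fintype.card F % 4 = 1) →
      splitClassCount (inndiagPOmegaMinus m F a b)
        (Inn (POmega F (Cfsg.quadFormMinus m F a b))) γ = 2) := by
  have h2 : (2 : F) ≠ 0 := Cfsg.Agent.Lib.Helper44_FinSq.two_ne_zero_of_odd_card hodd
  have S := setup_minus hm a b hab
  have hQ := S.nd
  have hcard : Fintype.card ((Fin m ⊕ Fin m) ⊕ Fin 2) = 2 * (m + 1) := card_index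
  have hn : 5 ≤ Fintype.card ((Fin m ⊕ Fin m) ⊕ Fin 2) := S.hn
  have hneg := Cfsg.Agent.Lib.Helper14_NegOneStd.negOne_mem_minus_iff (F := F) hodd m a b hab
  have hne : ∃ v, qfMinus m F a b v ≠ 0 := ⟨_, nonsing_minus a b⟩
  have hI := Cfsg.Agent.Lib.Helper14_InndiagMain.autSubgroupOf_preserves_eq h2
    (qfMinus m F a b) hQ hne hcard (PreservesSingularClassesMinus m a b)
    (Cfsg.Agent.Lib.Helper14_InndiagMinus.preserves_minus_iff m a b hodd hab)
  -- a similarity with non-square multiplier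
  obtain ⟨ε, hε⟩ := FiniteField.exists_nonsquare
    (Cfsg.Agent.Lib.Helper44_FinSq.ringChar_ne_two_of_two_ne_zero h2)
  have hε0 : ε ≠ 0 := by
    rintro rfl
    exact hε ⟨0, by simp⟩
  obtain ⟨x, y, hxy⟩ := Cfsg.Agent.Lib.Helper14_GODelta.exists_bin_eq h2 a b hab ε
  have hν : x ^ 2 + a * x * y + b * y ^ 2 ≠ 0 := by rw [hxy]; exact hε0
  have hmem : Cfsg.Agent.Lib.Helper14_GODelta.dMinusGL m a b x y hν ∈
      GO (⇑(qfMinus m F a b)) := by
    rw [coe_qfMinus]
    exact Cfsg.Agent.Lib.Helper14_GODelta.dMinusGL_mem m a b x y hν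
  have hmu : mu (⇑(qfMinus m F a b))
      ⟨Cfsg.Agent.Lib.Helper14_GODelta.dMinusGL m a b x y hν, hmem⟩ = Units.mk0 _ hν := by
    apply mu_eq
    · exact hne
    · intro v
      rw [Cfsg.Agent.Lib.Helper14_GODelta.dMinusGL_coe, coe_qfMinus,
        Cfsg.Agent.Lib.Helper14_GODelta.quadFormMinus_dMinus, Units.val_mk0]
  have hchi : chiHom (qfMinus m F a b) hne
      ⟨Cfsg.Agent.Lib.Helper14_GODelta.dMinusGL m a b x y hν, hmem⟩ = -1 := by
    rw [chiHom_eq_neg_one_iff, hmu, Units.val_mk0, hxy]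
    exact hε
  have hsq : (⟨Cfsg.Agent.Lib.Helper14_GODelta.dMinusGL m a b x y hν, hmem⟩ :
      ↥(GO (⇑(qfMinus m F a b)))) *
      ⟨Cfsg.Agent.Lib.Helper14_GODelta.dMinusGL m a b x y hν, hmem⟩ ∈ Z' (qfMinus m F a b) :=
    Subgroup.mem_subgroupOf.mpr (Cfsg.Agent.Lib.Helper14_GODelta.dMinusGL_sq_mem m a b x y hν)
  have hGz : Even m → (⟨Cfsg.Agent.Lib.Helper14_GODelta.dMinusGL m a b x y hν, hmem⟩ :
      ↥(GO (⇑(qfMinus m F a b)))) ∉ Gz h2 (qfMinus m F a b) hQ hne hcard := by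
    intro hev
    rw [MonoidHom.mem_ker, sgnHom_eq_one_iff, hmu, Units.val_mk0]
    change ¬ ((Cfsg.Agent.Lib.Helper14_GODelta.dMinusMat m a b x y).det = _)
    rw [Cfsg.Agent.Lib.Helper14_InndiagMinus.det_dMinusMat, hev.add_one.neg_one_pow]
    intro h
    have h3 : (2 : F) * (x ^ 2 + a * x * y + b * y ^ 2) ^ (m + 1) = 0 := by linear_combination -h
    rcases mul_eq_zero.mp h3 with h4 | h4
    · exact h2 h4
    · exact hν (pow_eq_zero_iff (by omega) |>.mp h4)
  -- the field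
  obtain ⟨p, f, hp, hF⟩ : ∃ p f : ℕ, p.Prime ∧ Fintype.card F = p ^ f := by
    have hch := ringChar.charP F
    obtain ⟨n, hp, hn⟩ := FiniteField.card F (ringChar F)
    exact ⟨ringChar F, n, hp, hn⟩
  have hpf : Fact p.Prime := ⟨hp⟩
  have hp2 : p ≠ 2 := by
    rintro rfl
    rw [hF] at hodd
    rcases Nat.eq_zero_or_pos f with rfl | hfpos
    · rw [pow_zero] at hF
      have := Fintype.one_lt_card (α := F)
      omega
    · exact (Nat.not_even_iff_odd.mpr hodd) ((Nat.even_pow.mpr ⟨even_two, by omega⟩))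
  obtain ⟨φ, β, gN, hord, hgen, hβφ, hβf, hgN⟩ :=
    exists_frob_lift_sgn hp2 hF hm a b hab h2 hne
  have h27 := Cfsg.Agent.S2727.result hodd hm a b hab
  have h28 := Cfsg.Agent.S2728.result hodd hm a b hab
  rw [← coe_qfMinus] at h27 h28
  have key : ∀ γ : MulAut (POmega F (⇑(qfMinus m F a b))),
      γ ∉ (Gz h2 (qfMinus m F a b) hQ hne hcard).map (Phi (⇑(qfMinus m F a b))) →
      orderOf γ = 2 →
      (splitClassCount ((Gz h2 (qfMinus m F a b) hQ hne hcard).map (Phi (⇑(qfMinus m F a b))))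
          (Inn (POmega F (⇑(qfMinus m F a b)))) γ = 1 ∨
        splitClassCount ((Gz h2 (qfMinus m F a b) hQ hne hcard).map (Phi (⇑(qfMinus m F a b))))
          (Inn (POmega F (⇑(qfMinus m F a b)))) γ = 2) ∧
      (¬ (Even m ∧ Fintype.card F % 4 = 1) →
        splitClassCount ((Gz h2 (qfMinus m F a b) hQ hne hcard).map (Phi (⇑(qfMinus m F a b))))
          (Inn (POmega F (⇑(qfMinus m F a b)))) γ = 2) := by
    intro γ hγD hγ2
    have hγγ : γ * γ = 1 := by
      have h := pow_orderOf_eq_one γ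
      rw [hγ2, pow_two] at h
      exact h
    obtain ⟨g₀, rfl⟩ := mem_range_of_sq_eq_one S h2 hne hcard φ β hord hgen hβφ gN hβf hgN γ hγγ
    have hg₀ : g₀ ∉ Gz h2 (qfMinus m F a b) hQ hne hcard := by
      intro h
      exact hγD ⟨g₀, h, rfl⟩
    by_cases hc : Even m ∧ Fintype.card F % 4 = 3
    · have hin : Cfsg.Agent.Lib.Helper44_Spinor.negOne (qfMinus m F a b) ∈
          Omega F (⇑(qfMinus m F a b)) := hneg.mpr hc
      have h2' := count_eq_two h2 _ hQ hn hne hcard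
        (A := Multiplicative (ZMod 4))
        (by rw [Nat.card_congr Multiplicative.toAdd, Nat.card_zmod])
        (by omega) hin _ hg₀ hγγ
        (exists_hom_cyclic_four h2 (qfMinus m F a b) hQ hn hne hcard hin _ hchi hsq (hGz hc.1))
        (h28.1 hc)
      exact ⟨Or.inr h2', fun _ => h2'⟩
    · have hnotin : Cfsg.Agent.Lib.Helper44_Spinor.negOne (qfMinus m F a b) ∉
          Omega F (⇑(qfMinus m F a b)) := fun h => hc (hneg.mp h)
      refine ⟨count_of_two h2 _ hQ hne hcard _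
        (exists_hom_two h2 (qfMinus m F a b) hQ hn hne hcard hnotin _ hchi), ?_⟩
      intro hc1
      have hmodd : Odd m := by
        by_contra hme
        rw [Nat.not_odd_iff_even] at hme
        obtain ⟨j, hj⟩ := hodd
        have : Fintype.card F % 4 = 1 ∨ Fintype.card F % 4 = 3 := by omega
        rcases this with h | h
        · exact hc1 ⟨hme, h⟩
        · exact hc ⟨hme, h⟩
      have hSI : psoAut F (⇑(qfMinus m F a b)) ≤ Inn (POmega F (⇑(qfMinus m F a b))) :=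
        Subgroup.relIndex_eq_one.mp (h27.2 hc)
      have hts : ∀ W : Submodule F ((Fin m ⊕ Fin m) ⊕ Fin 2 → F),
          (∀ w ∈ W, qfMinus m F a b w = 0) → finrank F ↥W < m + 1 := by
        intro W hW
        have := Cfsg.Agent.Lib.Helper44_WittIndexMinus.ts_finrank_le m a b hab hQ W hW
        omega
      exact count_eq_two_of_even h2 _ hQ hn hne hcard hmodd.add_one hts hnotin _ hchi hSI g₀ hg₀ hγγ
  rw [← hI] at key
  rw [coe_qfMinus] at key
  exact key γ hγ hγ2

end final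

end Cfsg.Agent.Lib.Helper14_OrthMinusGraph
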