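import Mathlib
import Cfsg.Agent.Lib.Helper14_BalDefs
import Cfsg.Agent.Lib.Helper14_CentOmega
import Cfsg.Agent.Lib.Helper14_OrthMinusGraph

set_option autoImplicit false

/-!
BAL-K1 (package of helper14 for S2733): no `F`-linear bijection of a `K`-quadratic space of dimension at
least 5 that anticommutes with the multiplication by `ρ ≠ 0` (characteristic not 2) commutes with all the
long root elements `E QK u s` (helper63).
-/

namespace Cfsg.Agent.Lib.Helper63_BAL_K1

open Module Cfsg Cfsg.Agent.Lib.Helper94_OrthSmall Cfsg.Agent.Lib.Helper14_OmegaSimple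
  Cfsg.Agent.Lib.Helper14_BalDefs Cfsg.Agent.Lib.Helper14_AutOmega Cfsg.Agent.Lib.Helper14_GOChars
  Cfsg.Agent.Lib.Helper14_InndiagQuot Cfsg.Agent.Lib.Helper60_OrthExt_PE1

section additive

variable {K V : Type*} [Field K] [AddCommGroup V] [Module K V] [Finite K] [FiniteDimensional K V]
  (QK : QuadraticForm K V)

/-- An additive map commuting with `E(u, s)` maps `u` into the span of `u` and `s`. -/
theorem map_mem_span_of_comm_add (hQ : (QuadraticMap.polarBilin QK).Nondegenerate)
    (hdim : 5 ≤ finrank K V) {g : V →+ V} {u s : V} (hu0 : u ≠ 0) (hu : QK u = 0) (hs : QK s = 0)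
    (hus : QuadraticMap.polar (⇑QK) u s = 0) (hsu : s ∉ Submodule.span K {u})
    (hcomm : ∀ v : V, g (E QK u s v) = E QK u s (g v)) : ∃ a b : K, g u = a • u + b • s := by
  obtain ⟨x, -, hux, hxs⟩ :=
    Cfsg.Agent.Lib.Helper14_Siegel.exists_singular_orth_polar QK hQ hdim hu0 hu hus hsu 1
  have h1 := hcomm x
  rw [E_apply QK hu hus, E_apply QK hu hus, hs, zero_mul, zero_smul, zero_mul, zero_smul, sub_zero,
    sub_zero, QuadraticMap.polar_comm (⇑QK) x u, hux, hxs, zero_smul, add_zero, one_smul, map_sub] at h1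
  refine ⟨QuadraticMap.polar (⇑QK) (g x) s, -QuadraticMap.polar (⇑QK) (g x) u, ?_⟩
  linear_combination (norm := module) -h1

/-- An additive map commuting with all long root elements fixes every singular point. -/
theorem fix_of_comm_add (hQ : (QuadraticMap.polarBilin QK).Nondegenerate)
    (hdim : 5 ≤ finrank K V) {g : V →+ V}
    (hcomm : ∀ u s : V, QK u = 0 → QK s = 0 → QuadraticMap.polar (⇑QK) u s = 0 →
      ∀ v : V, g (E QK u s v) = E QK u s (g v)) :
    ∀ w, QK w = 0 → ∃ l : K, g w = l • w := by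
  intro u hu
  by_cases hu0 : u = 0
  · exact ⟨0, by rw [hu0, map_zero, smul_zero]⟩
  obtain ⟨u', hu', huu'⟩ := Cfsg.Agent.Lib.Helper44_QuadClass.exists_hyperbolic_partner QK hQ hu0 hu
  have hnd := Cfsg.Agent.Lib.Helper44_QuadClass.nondegenerate_perp hQ hu hu' huu'
  have hfr := Cfsg.Agent.Lib.Helper44_QuadClass.finrank_perp (Q := QK) hu hu' huu'
  obtain ⟨w', hw'0, hw'⟩ := Cfsg.Agent.Lib.Helper44_QuadClass.exists_singular
    (QK.comp (Cfsg.Agent.Lib.Helper44_QuadClass.perp QK u u').subtype) (by omega)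
  obtain ⟨w'', hw'', hww⟩ := Cfsg.Agent.Lib.Helper44_QuadClass.exists_hyperbolic_partner
    (QK.comp (Cfsg.Agent.Lib.Helper44_QuadClass.perp QK u u').subtype) hnd hw'0 hw'
  have hQw' : QK (w' : V) = 0 := by simpa using hw'
  have hQw'' : QK (w'' : V) = 0 := by simpa using hw''
  have hww' : QuadraticMap.polar (⇑QK) (w' : V) (w'' : V) = 1 := by
    rw [← hww]; simp [QuadraticMap.polar]
  have hm' := (Cfsg.Agent.Lib.Helper44_QuadClass.mem_perp QK u u').mp w'.2
  have hm'' := (Cfsg.Agent.Lib.Helper44_QuadClass.mem_perp QK u u').mp w''.2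
  have hns : ∀ w : V, QuadraticMap.polar (⇑QK) u' w = 0 → w ≠ 0 → w ∉ Submodule.span K {u} := by
    intro w hw hw0 h
    obtain ⟨a, ha⟩ := Submodule.mem_span_singleton.mp h
    rw [← ha, QuadraticMap.polar_smul_right, QuadraticMap.polar_comm, huu', smul_eq_mul,
      mul_one] at hw
    rw [hw, zero_smul] at ha
    exact hw0 ha.symm
  have hw'0' : (w' : V) ≠ 0 := fun h => hw'0 (Subtype.ext h)
  have hw''0' : (w'' : V) ≠ 0 := by
    intro h
    rw [h] at hww'
    simp [QuadraticMap.polar] at hww'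
  obtain ⟨a, b, hab⟩ := map_mem_span_of_comm_add QK hQ hdim hu0 hu hQw' hm'.1 (hns _ hm'.2 hw'0')
    (hcomm u w' hu hQw' hm'.1)
  obtain ⟨a', b', hab'⟩ := map_mem_span_of_comm_add QK hQ hdim hu0 hu hQw'' hm''.1
    (hns _ hm''.2 hw''0') (hcomm u w'' hu hQw'' hm''.1)
  have h0 : (a - a') • u + b • (w' : V) - b' • (w'' : V) = 0 := by
    have := hab.symm.trans hab'
    linear_combination (norm := module) this
  have h1 := congrArg (fun y => QuadraticMap.polar (⇑QK) y (w'' : V)) h0
  simp only [QuadraticMap.polar_sub_left, QuadraticMap.polar_add_left, QuadraticMap.polar_smul_left,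
    hm''.1, hww', Cfsg.Agent.Lib.Helper44_QuadClass.polar_self', hQw'', smul_eq_mul, mul_zero, mul_one,
    zero_add, sub_zero] at h1
  have hb : b = 0 := by simpa [QuadraticMap.polar] using h1
  exact ⟨a, by rw [hab, hb, zero_smul, add_zero]⟩

/-- No injective additive map anticommuting with a non-zero scalar commutes with all long root elements. -/
theorem no_anticomm_add (h2 : (2 : K) ≠ 0) (hQ : (QuadraticMap.polarBilin QK).Nondegenerate)
    (hdim : 5 ≤ finrank K V) (ρ : K) (hρ : ρ ≠ 0) {g : V →+ V} (hinj : Function.Injective g)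
    (hg : ∀ v : V, g (ρ • v) = -(ρ • g v))
    (hcomm : ∀ u s : V, QK u = 0 → QK s = 0 → QuadraticMap.polar (⇑QK) u s = 0 →
      ∀ v : V, g (E QK u s v) = E QK u s (g v)) : False := by
  have hfix := fix_of_comm_add QK hQ hdim hcomm
  obtain ⟨u, hu0, hu⟩ := Cfsg.Agent.Lib.Helper44_QuadClass.exists_singular QK (by omega)
  obtain ⟨u', hu', huu'⟩ := Cfsg.Agent.Lib.Helper44_QuadClass.exists_hyperbolic_partner QK hQ hu0 hu
  have hfr := Cfsg.Agent.Lib.Helper44_QuadClass.finrank_perp (Q := QK) hu hu' huu'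
  obtain ⟨w', hw'0, hw'⟩ := Cfsg.Agent.Lib.Helper44_QuadClass.exists_singular
    (QK.comp (Cfsg.Agent.Lib.Helper44_QuadClass.perp QK u u').subtype) (by omega)
  have hQw : QK (w' : V) = 0 := by simpa using hw'
  have hm := (Cfsg.Agent.Lib.Helper44_QuadClass.mem_perp QK u u').mp w'.2
  have hw0 : (w' : V) ≠ 0 := fun h => hw'0 (Subtype.ext h)
  obtain ⟨w, hw⟩ : ∃ w : V, w = (w' : V) := ⟨_, rfl⟩
  rw [← hw] at hQw hm hw0
  have hu'u : QuadraticMap.polar (⇑QK) u' u = 1 := by rw [QuadraticMap.polar_comm, huu']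
  have huu : QuadraticMap.polar (⇑QK) u u = 0 := by
    rw [Cfsg.Agent.Lib.Helper44_QuadClass.polar_self', hu, mul_zero]
  -- linear independence of `u` and `w`
  have hind : ∀ a b : K, a • u + b • w = 0 → a = 0 ∧ b = 0 := by
    intro a b hab
    have h1 := congrArg (fun y => QuadraticMap.polar (⇑QK) u' y) hab
    simp only [QuadraticMap.polar_add_right, QuadraticMap.polar_smul_right, hu'u, hm.2, smul_eq_mul,
      mul_one, mul_zero, add_zero] at h1
    have ha : a = 0 := by simpa [QuadraticMap.polar] using h1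
    rw [ha, zero_smul, zero_add] at hab
    rcases smul_eq_zero.mp hab with h | h
    · exact ⟨ha, h⟩
    · exact absurd h hw0
  obtain ⟨l, hl⟩ := hfix u hu
  obtain ⟨m, hm'⟩ := hfix w hQw
  -- `u + w` is singular
  have hs1 : QK (u + w) = 0 := by
    rw [QuadraticMap.map_add (⇑QK), hu, hQw, hm.1]; ring
  obtain ⟨n, hn⟩ := hfix (u + w) hs1
  rw [map_add, hl, hm', smul_add] at hn
  have e1 := hind (l - n) (m - n) (by linear_combination (norm := module) hn)
  -- `ρ • u + w` is singular
  have hs2 : QK (ρ • u + w) = 0 := by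
    rw [QuadraticMap.map_add (⇑QK), hQs, hu, hQw, QuadraticMap.polar_smul_left, hm.1]
    simp
  obtain ⟨n', hn'⟩ := hfix (ρ • u + w) hs2
  rw [map_add, hg, hl, hm', smul_add] at hn'
  have e2 := hind (-(ρ * l) - n' * ρ) (m - n') (by linear_combination (norm := module) hn')
  have hlm : l = m := by
    have h1 := sub_eq_zero.mp e1.1
    have h2' := sub_eq_zero.mp e1.2
    rw [h1, h2']
  have hmn' : m = n' := sub_eq_zero.mp e2.2
  have h3 : ρ * (2 * l) = 0 := by
    have := e2.1
    rw [← hmn', ← hlm] at this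
    linear_combination -this
  have hl0 : l = 0 := by
    rcases mul_eq_zero.mp h3 with h | h
    · exact absurd h hρ
    · rcases mul_eq_zero.mp h with h | h
      · exact absurd h h2
      · exact h
  rw [hl0, zero_smul] at hl
  exact hu0 (hinj (by rw [hl, map_zero]))

end additive

variable {F K V : Type*} [Field F] [Field K] [Algebra F K] [AddCommGroup V] [Module F V]
  [Module K V] [IsScalarTower F K V]

/-- BAL-K1: no `F`-linear bijection anticommuting with `ρ` centralises the long root elements of `QK`. -/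
theorem K1 [Fintype K] [FiniteDimensional K V] (h2 : (2 : K) ≠ 0) (QK : QuadraticForm K V)
    (hQ : (QuadraticMap.polarBilin QK).Nondegenerate) (hdim : 5 ≤ finrank K V) (ρ : K) (hρ : ρ ≠ 0)
    (hbasis : ∀ k : K, ∃ a b : F, k = algebraMap F K a + algebraMap F K b * ρ)
    (g : V ≃ₗ[F] V) (hg : ∀ v : V, g (ρ • v) = -(ρ • g v))
    (hcomm : ∀ u s : V, QK u = 0 → QK s = 0 → QuadraticMap.polar (⇑QK) u s = 0 →
      ∀ v : V, g (E QK u s v) = E QK u s (g v)) : False :=
  no_anticomm_add QK h2 hQ hdim ρ hρ (g := (g : V →ₗ[F] V).toAddMonoidHom) g.injective hg hcomm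

end Cfsg.Agent.Lib.Helper63_BAL_K1
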