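import Mathlib
import Cfsg.Agent.Lib.Helper14_BalCaseI
import Cfsg.Agent.Lib.Helper14_BalK
import Cfsg.Agent.Lib.Helper63_BAL_K1
import Cfsg.Agent.Lib.Helper58_Bal_K2
import Cfsg.Agent.Lib.Helper58_Bal_K3
import Cfsg.Agent.Lib.Helper52_Bal_D1
import Cfsg.Agent.Lib.Helper58_Bal_D2

/-!
# Local balance at a graph involution of `PΩ(Q)`: the case `g₀² = ν` a non-square (helper14)
-/

set_option autoImplicit false
set_option linter.unusedSectionVars false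
set_option linter.unusedVariables false

namespace Cfsg.Agent.Lib.Helper14_BalCaseII

open Module Matrix Cfsg Cfsg.Agent.Lib.Helper94_OrthSmall Cfsg.Agent.Lib.Helper14_OmegaSimple
  Cfsg.Agent.Lib.Helper14_BalDefs Cfsg.Agent.Lib.Helper14_BalExt Cfsg.Agent.Lib.Helper14_BalRoot
  Cfsg.Agent.Lib.Helper14_BalAbs Cfsg.Agent.Lib.Helper14_BalLeaves
  Cfsg.Agent.Lib.Helper14_BalCommon Cfsg.Agent.Lib.Helper14_BalK
  Cfsg.Agent.Lib.Helper14_BalCaseI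
  Cfsg.Agent.Lib.Helper14_AutOmega Cfsg.Agent.Lib.Helper94_Bridge
  Cfsg.Agent.Lib.Helper44_Orth Cfsg.Agent.Lib.Helper14_POmegaSimple
  Cfsg.Agent.Lib.Helper14_Siegel Cfsg.Agent.Lib.Helper14_CentOmega
  Cfsg.Agent.Lib.Helper14_OrthGamma

variable {ι : Type} [Fintype ι] [DecidableEq ι] {F : Type*} [Field F] [Fintype F]
  (Q : QuadraticForm F (ι → F))
  {K : Type*} [Field K] [Fintype K] [Algebra F K] [Module K (ι → F)] [IsScalarTower F K (ι → F)]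
  (QK : QuadraticForm K (ι → F)) (ρ : K) (ν : F)
  (hbasis : ∀ k : K, ∃ a b : F, k = algebraMap F K a + algebraMap F K b * ρ)
  (hindep : ∀ a b : F, algebraMap F K a + algebraMap F K b * ρ = 0 → a = 0 ∧ b = 0)
  (hQK : ∀ v : ι → F, QK v = algebraMap F K (Q v / 2) +
    algebraMap F K (QuadraticMap.polar (⇑Q) (ρ • v) v / (4 * ν)) * ρ)
  (h2 : (2 : F) ≠ 0)

/-! ### the homomorphism `T QK → GO(Q)` -/

/-- `T QK → O(Q)` -/
noncomputable def psiO : ↥(T QK) →* ↥(oG (⇑Q)) :=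
  MonoidHom.codRestrict ((resF (F := F)).comp (T QK).subtype) (oG (⇑Q))
    (fun t => resF_mem_oG Q QK ρ ν hindep hQK h2 (T_le_oG QK t.2))

/-- `T QK → GO(Q)` -/
noncomputable def psi : ↥(T QK) →* ↥(GO (⇑Q)) := (ofIso Q).comp (psiO Q QK ρ ν hindep hQK h2)

theorem lin_psi (t : ↥(T QK)) : lin Q (psi Q QK ρ ν hindep hQK h2 t) = resF (F := F) t.1 :=
  lin_ofIso Q _

theorem lin_psi_apply (t : ↥(T QK)) (v : ι → F) :
    lin Q (psi Q QK ρ ν hindep hQK h2 t) v = t.1 v := by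
  rw [lin_psi]; rfl

theorem psi_isom (t : ↥(T QK)) :
    ((psi Q QK ρ ν hindep hQK h2 t : ↥(GO (⇑Q))) : GL ι F) ∈ isometryGroup F (⇑Q) := by
  rw [← lin_mem_oG_iff, lin_psi]
  exact resF_mem_oG Q QK ρ ν hindep hQK h2 (T_le_oG QK t.2)

/-- the root group in `Aut(PΩ(Q))` -/
noncomputable def RK : Subgroup (MulAut (POmega F (⇑Q))) :=
  ((Phi (⇑Q)).comp (psi Q QK ρ ν hindep hQK h2)).range


variable [FiniteDimensional K (ι → F)] (hQKnd : (QuadraticMap.polarBilin QK).Nondegenerate)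
  (hdimK : 5 ≤ finrank K (ι → F))

include hQKnd hdimK in
/-- the image of `T QK` lies in `Ω(Q)` -/
theorem psi_mem_omega (t : ↥(T QK)) :
    psi Q QK ρ ν hindep hQK h2 t ∈ (omegaGL (⇑Q)).subgroupOf (GO (⇑Q)) := by
  obtain ⟨psiI, hpsiI⟩ : ∃ psiI : ↥(T QK) →* ↥(isometryGroup F (⇑Q)),
      ∀ t, ((psiI t : ↥(isometryGroup F (⇑Q))) : GL ι F) =
        ((psi Q QK ρ ν hindep hQK h2 t : ↥(GO (⇑Q))) : GL ι F) :=
    ⟨MonoidHom.codRestrict ((GO (⇑Q)).subtype.comp (psi Q QK ρ ν hindep hQK h2))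
      (isometryGroup F (⇑Q)) (psi_isom Q QK ρ ν hindep hQK h2), fun t => rfl⟩
  have h1 : t ∈ commutator ↥(T QK) := by
    rw [commutator_T_eq_top QK hQKnd hdimK]
    exact Subgroup.mem_top t
  have h3 : psiI t ∈ (commutator ↥(T QK)).map psiI := ⟨t, h1, rfl⟩
  rw [map_commutator_eq] at h3
  have h4 : psiI t ∈ Omega F (⇑Q) := by
    rw [Omega, _root_.commutator_def]
    exact Subgroup.commutator_mono le_top le_top h3
  rw [Subgroup.mem_subgroupOf, mem_omegaGL_iff]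
  refine ⟨psi_isom Q QK ρ ν hindep hQK h2 t, ?_⟩
  have h5 : (⟨((psi Q QK ρ ν hindep hQK h2 t : ↥(GO (⇑Q))) : GL ι F),
      psi_isom Q QK ρ ν hindep hQK h2 t⟩ : ↥(isometryGroup F (⇑Q))) = psiI t :=
    Subtype.ext (hpsiI t).symm
  rw [h5]
  exact h4

include hQKnd hdimK in
theorem RK_le_inn : RK Q QK ρ ν hindep hQK h2 ≤ Inn (POmega F (⇑Q)) := by
  rw [inn_eq]
  rintro _ ⟨t, rfl⟩
  exact ⟨_, psi_mem_omega Q QK ρ ν hindep hQK h2 hQKnd hdimK t, rfl⟩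

include hQKnd hdimK in
/-- `RK` is perfect -/
theorem RK_perfect : ⁅RK Q QK ρ ν hindep hQK h2, RK Q QK ρ ν hindep hQK h2⁆ =
    RK Q QK ρ ν hindep hQK h2 := by
  rw [RK, ← map_commutator_eq, commutator_T_eq_top QK hQKnd hdimK, ← MonoidHom.range_eq_map]

/-- elements of the image of `T QK` commute with `g₀` -/
theorem psi_comm (g₀ : ↥(GO (⇑Q))) (hρ : ∀ v : ι → F, lin Q g₀ v = ρ • v) (t : ↥(T QK)) :
    psi Q QK ρ ν hindep hQK h2 t * g₀ = g₀ * psi Q QK ρ ν hindep hQK h2 t := by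
  apply lin_injective
  apply LinearEquiv.ext
  intro v
  rw [lin_mul, lin_mul, LinearEquiv.mul_apply, LinearEquiv.mul_apply, lin_psi_apply, lin_psi_apply,
    hρ, hρ, map_smul]

theorem RK_le_centralizer (g₀ : ↥(GO (⇑Q))) (hρ : ∀ v : ι → F, lin Q g₀ v = ρ • v) :
    RK Q QK ρ ν hindep hQK h2 ≤ Subgroup.centralizer {Phi (⇑Q) g₀} := by
  rintro _ ⟨t, rfl⟩
  rw [Subgroup.mem_centralizer_iff]
  intro x hx
  rw [Set.mem_singleton_iff] at hx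
  rw [hx, MonoidHom.comp_apply, ← map_mul, ← map_mul, psi_comm Q QK ρ ν hindep hQK h2 g₀ hρ t]


/-- an element of `GO(Q)` commuting with `g₀` commutes with `ρ` -/
theorem lin_comm_rho (g₀ : ↥(GO (⇑Q))) (hρ : ∀ v : ι → F, lin Q g₀ v = ρ • v) (ω : ↥(GO (⇑Q)))
    (hωc : g₀ * ω = ω * g₀) (v : ι → F) : lin Q ω (ρ • v) = ρ • lin Q ω v := by
  have h1 := congrArg (fun t : ↥(GO (⇑Q)) => lin Q t v) hωc
  simp only [lin_mul, LinearEquiv.mul_apply] at h1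
  rw [hρ, hρ] at h1
  exact h1.symm

include hbasis in
/-- isometries commuting with `g₀` normalise `RK` -/
theorem conj_mem_RK (g₀ : ↥(GO (⇑Q))) (hρ : ∀ v : ι → F, lin Q g₀ v = ρ • v) (ω : ↥(GO (⇑Q)))
    (hωiso : (ω : GL ι F) ∈ isometryGroup F (⇑Q)) (hωc : g₀ * ω = ω * g₀) :
    ∀ r ∈ RK Q QK ρ ν hindep hQK h2, Phi (⇑Q) ω * r * (Phi (⇑Q) ω)⁻¹ ∈ RK Q QK ρ ν hindep hQK h2 := by
  rintro _ ⟨t, rfl⟩
  have hω' := lin_comm_rho Q ρ g₀ hρ ω hωc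
  have hωK : toK ρ hbasis (lin Q ω) hω' ∈ oG (⇑QK) :=
    toK_mem_oG Q QK ρ ν hQK hbasis (lin Q ω) hω' ((lin_mem_oG_iff Q ω).mpr hωiso)
  refine ⟨⟨toK ρ hbasis (lin Q ω) hω' * t.1 * (toK ρ hbasis (lin Q ω) hω')⁻¹,
    conj_mem_T QK hωK t.2⟩, ?_⟩
  rw [MonoidHom.comp_apply, MonoidHom.comp_apply, ← map_inv, ← map_mul, ← map_mul]
  congr 1
  apply lin_injective
  rw [lin_psi, lin_mul, lin_mul, lin_inv, lin_psi, map_mul, map_mul, map_inv, resF_toK]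


include hQKnd hdimK in
/-- `RK` has the property `OddComm` -/
theorem oddComm_RK (h2K : (2 : K) ≠ 0) (hQ : (QuadraticMap.polarBilin Q).Nondegenerate)
    (hn : 5 ≤ Fintype.card ι) (hne : ∃ v, Q v ≠ 0) (hoddK : Odd (finrank K (ι → F))) :
    OddComm (RK Q QK ρ ν hindep hQK h2) := by
  obtain ⟨f, hf⟩ : ∃ f : ↥(T QK) →* MulAut (POmega F (⇑Q)),
      f = (Phi (⇑Q)).comp (psi Q QK ρ ν hindep hQK h2) := ⟨_, rfl⟩
  have hfinj : Function.Injective f := by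
    rw [injective_iff_map_eq_one]
    intro t ht
    rw [hf, MonoidHom.comp_apply] at ht
    have hsc := scalar_of_Phi_eq_one Q hQ hn _ ht
    obtain ⟨c, hc⟩ := (Cfsg.Geo.mem_scalars_iff _).mp hsc
    have htv : ∀ v : ι → F, t.1 v = (c : F) • v := by
      intro v
      rw [← lin_psi_apply Q QK ρ ν hindep hQK h2 t v, lin_apply, hc, Matrix.smul_mulVec,
        Matrix.one_mulVec]
    have hcc : (c : F) * c = 1 := by
      obtain ⟨v, hv⟩ := hne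
      have h1 := (mem_isometryGroup_iff (⇑Q) _).mp (psi_isom Q QK ρ ν hindep hQK h2 t) v
      rw [hc, Matrix.smul_mulVec, Matrix.one_mulVec, QuadraticMap.map_smul, smul_eq_mul] at h1
      exact mul_right_cancel₀ hv (by rw [h1, one_mul])
    rcases mul_self_eq_one_iff.mp hcc with h | h
    · apply Subtype.ext
      apply LinearEquiv.ext
      intro v
      rw [htv, h, one_smul]
      rfl
    · exfalso
      apply Cfsg.Agent.Lib.Helper52_Bal_D1.D1 h2K QK hoddK t.1 t.2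
      intro v
      rw [htv, h, neg_one_smul]
  have hrange : f.range = RK Q QK ρ ν hindep hQK h2 := by rw [hf, RK]
  have hTE : TE QK = T QK := Cfsg.Agent.Lib.Helper52_Bal_A3.TE_eq_T QK hQKnd hdimK
  apply oddComm_of_no_odd_normal
  intro M hM hnorm hMo
  obtain ⟨M', hM'⟩ : ∃ M' : Subgroup ((ι → F) ≃ₗ[K] (ι → F)),
      M' = (M.comap f).map (T QK).subtype := ⟨_, rfl⟩
  have hmc : (M.comap f).map f = M := by
    rw [Subgroup.map_comap_eq, hrange]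
    exact inf_eq_right.mpr hM
  have hM'bot : M' = ⊥ := by
    apply no_odd_normal h2K QK hQKnd hoddK M'
    · rw [hM', hTE]
      exact Subgroup.map_subtype_le _
    · intro t ht m hm
      rw [hTE] at ht
      rw [hM'] at hm ⊢
      obtain ⟨m₀, hm₀, rfl⟩ := hm
      refine ⟨⟨t, ht⟩ * m₀ * ⟨t, ht⟩⁻¹, ?_, rfl⟩
      rw [SetLike.mem_coe, Subgroup.mem_comap, map_mul, map_mul, map_inv]
      apply hnorm _ _ _ hm₀
      rw [← hrange]
      exact ⟨_, rfl⟩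
    · rw [hM', Subgroup.card_map_of_injective (Subgroup.subtype_injective _),
        ← Subgroup.card_map_of_injective hfinj, hmc]
      exact hMo
  rw [hM', Subgroup.map_eq_bot_iff_of_injective _ (Subgroup.subtype_injective _)] at hM'bot
  rw [← hmc, hM'bot, Subgroup.map_bot]


/-! ### the key step -/

include hbasis hQKnd hdimK in
theorem key_caseII (S : Setup Q) (h2K : (2 : K) ≠ 0) (hne : ∃ v, Q v ≠ 0) (hν : ν ≠ 0)
    (hρ0 : ρ ≠ 0) (g₀ : ↥(GO (⇑Q))) (hρ : ∀ v : ι → F, lin Q g₀ v = ρ • v)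
    (hsq : ((g₀ : GL ι F) : Matrix ι ι F) * ((g₀ : GL ι F) : Matrix ι ι F) =
      ν • (1 : Matrix ι ι F))
    (N : Subgroup (MulAut (POmega F (⇑Q)))) (hNodd : Odd (Nat.card N))
    (hNx : N ≤ Subgroup.centralizer {Phi (⇑Q) g₀})
    (y : MulAut (POmega F (⇑Q))) (hy : y ∈ N)
    (hcomm : ∀ r ∈ RK Q QK ρ ν hindep hQK h2, y * r = r * y) : y = 1 := by
  have hQ := S.nd
  have hn := S.hn
  obtain ⟨u, f₁, w, f, hu0, hu, hf₁, hw, hf, h11, h22, huw, h1f2, hf1e2, hf1f2⟩ :=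
    Cfsg.Agent.Lib.Helper58_Bal_A3i.exists_two_pairs QK hQKnd hdimK
  have hsm : ∀ (c : F) (v : ι → F), c • v = (algebraMap F K c) • v :=
    fun c v => (algebraMap_smul K c v).symm
  have huwc : ∀ c : F, QuadraticMap.polar (⇑QK) u (c • w) = 0 := by
    intro c
    rw [hsm, QuadraticMap.polar_smul_right, huw, smul_zero]
  obtain ⟨tE, htE⟩ : ∃ tE : F → ↥(T QK), ∀ c, (tE c).1 = E QK u (c • w) :=
    ⟨fun c => ⟨E QK u (c • w), E_mem_T QK hQKnd hdimK hu (huwc c)⟩, fun c => rfl⟩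
  have hmemΩ : ∀ t : ↥(T QK), ∃ h : ((psi Q QK ρ ν hindep hQK h2 t : ↥(GO (⇑Q))) : GL ι F) ∈
      isometryGroup F (⇑Q), (⟨_, h⟩ : ↥(isometryGroup F (⇑Q))) ∈ Omega F (⇑Q) := by
    intro t
    have := psi_mem_omega Q QK ρ ν hindep hQK h2 hQKnd hdimK t
    rw [Subgroup.mem_subgroupOf, mem_omegaGL_iff] at this
    exact this
  obtain ⟨s, hs⟩ : ∃ s : F → ↥(Omega F (⇑Q)), ∀ c,
      ((s c : ↥(isometryGroup F (⇑Q))) : GL ι F) =
        ((psi Q QK ρ ν hindep hQK h2 (tE c) : ↥(GO (⇑Q))) : GL ι F) :=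
    ⟨fun c => ⟨⟨_, (hmemΩ (tE c)).choose⟩, (hmemΩ (tE c)).choose_spec⟩, fun c => rfl⟩
  obtain ⟨N₀, hN₀⟩ : ∃ N₀ : Matrix ι ι F, N₀ =
      (((psi Q QK ρ ν hindep hQK h2 (tE 1) : ↥(GO (⇑Q))) : GL ι F) : Matrix ι ι F) - 1 := ⟨_, rfl⟩
  have hmv : ∀ (c : F) (v : ι → F),
      (((psi Q QK ρ ν hindep hQK h2 (tE c) : ↥(GO (⇑Q))) : GL ι F) : Matrix ι ι F) *ᵥ v =
        E QK u (c • w) v := by
    intro c v
    rw [← lin_apply, lin_psi_apply, htE]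
  have hN₀v : ∀ v : ι → F, N₀ *ᵥ v = E QK u w v - v := by
    intro v
    rw [hN₀, Matrix.sub_mulVec, Matrix.one_mulVec, hmv, one_smul]
  have hsmat : ∀ c : F, (((s c : ↥(isometryGroup F (⇑Q))) : GL ι F) : Matrix ι ι F) =
      1 + c • N₀ := by
    intro c
    rw [hs]
    apply Cfsg.Agent.Lib.Helper44_Refl.matrix_ext_mulVec
    intro v
    rw [hmv, Matrix.add_mulVec, Matrix.one_mulVec, Matrix.smul_mulVec, hN₀v, hsm c w,
      E_smul_sub QK hu hw huw, hsm c]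
  have hEf : E QK u w f = f - u := by
    rw [E_apply QK hu huw, QuadraticMap.polar_comm (⇑QK) f u, h1f2,
      QuadraticMap.polar_comm (⇑QK) f w, h22]
    simp
  have hN0 : N₀ ≠ 0 := by
    intro h0
    have := hN₀v f
    rw [h0, Matrix.zero_mulVec, hEf] at this
    apply hu0
    have h3 : f - u - f = -u := by abel
    rw [h3] at this
    exact neg_eq_zero.mp this.symm
  have hNN : N₀ * N₀ = 0 := by
    have h1 : (((s 1 : ↥(isometryGroup F (⇑Q))) : GL ι F) : Matrix ι ι F) *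
        (((s 1 : ↥(isometryGroup F (⇑Q))) : GL ι F) : Matrix ι ι F) =
        (((s (1 + 1) : ↥(isometryGroup F (⇑Q))) : GL ι F) : Matrix ι ι F) := by
      rw [hs, hs, ← Units.val_mul, ← Subgroup.coe_mul, ← map_mul]
      congr 4
      apply Subtype.ext
      rw [Subgroup.coe_mul, htE, htE, E_mul QK hu (huwc 1) (huwc 1), ← add_smul]
    rw [hsmat, hsmat, one_smul] at h1
    have h3 : N₀ * N₀ = (1 + N₀) * (1 + N₀) - (1 + ((1 : F) + 1) • N₀) := by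
      rw [add_smul, one_smul]
      noncomm_ring
    rw [h3, h1, sub_self]
  obtain ⟨g', rfl⟩ := exists_Phi_of_comm h2 S y N₀ hN0 hNN s hsmat (by
    intro c
    apply hcomm
    rw [← Phi_omega]
    refine ⟨tE c, ?_⟩
    rw [MonoidHom.comp_apply]
    congr 1
    apply Subtype.ext
    exact (hs c).symm)
  -- exact commutation
  have hex : ∀ a z : ι → F, QK a = 0 → QuadraticMap.polar (⇑QK) a z = 0 →
      ∀ v : ι → F, lin Q g' (E QK a z v) = E QK a z (lin Q g' v) := by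
    intro a z ha haz v
    have haz' : QuadraticMap.polar (⇑QK) a ((2 : K)⁻¹ • z) = 0 := by
      rw [QuadraticMap.polar_smul_right, haz, smul_zero]
    obtain ⟨t₂, ht₂⟩ : ∃ t₂ : ↥(T QK), t₂.1 = E QK a ((2 : K)⁻¹ • z) :=
      ⟨⟨_, E_mem_T QK hQKnd hdimK ha haz'⟩, rfl⟩
    have h1 := comm_sq_of_Phi_comm hQ hn hne g' (psi Q QK ρ ν hindep hQK h2 t₂)
      (psi_isom Q QK ρ ν hindep hQK h2 t₂) (hcomm _ ⟨t₂, rfl⟩)
    have h4 : (2 : K)⁻¹ + (2 : K)⁻¹ = 1 := by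
      rw [← two_mul, mul_inv_cancel₀ h2K]
    have h5 : ∀ v : ι → F, lin Q (psi Q QK ρ ν hindep hQK h2 t₂ * psi Q QK ρ ν hindep hQK h2 t₂) v =
        E QK a z v := by
      intro v
      rw [← map_mul, lin_psi_apply, Subgroup.coe_mul, ht₂, E_mul QK ha haz' haz', ← add_smul, h4,
        one_smul]
    obtain ⟨e₂₂, he₂₂⟩ : ∃ e, e = psi Q QK ρ ν hindep hQK h2 t₂ * psi Q QK ρ ν hindep hQK h2 t₂ :=
      ⟨_, rfl⟩
    rw [← he₂₂] at h1 h5
    have h6 := congrArg (fun t : ↥(GO (⇑Q)) => lin Q t v) h1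
    simp only [lin_mul, LinearEquiv.mul_apply] at h6
    rw [h5, h5] at h6
    exact h6
  -- the sign
  have hcx : Phi (⇑Q) g' * Phi (⇑Q) g₀ = Phi (⇑Q) g₀ * Phi (⇑Q) g' := by
    have := hNx hy
    rw [Subgroup.mem_centralizer_iff] at this
    exact (this _ rfl).symm
  obtain ⟨c₀, hcc, hc₀⟩ := exists_sign_of_Phi_comm_sq hQ hn g' g₀ ν hν hsq hcx
  have hc₀' : ∀ v : ι → F, lin Q g' (ρ • v) = c₀ • (ρ • lin Q g' v) := by
    intro v
    have := hc₀ v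
    simp only [← lin_apply] at this
    rw [hρ, hρ] at this
    exact this
  have hc1 : c₀ = 1 := by
    rcases mul_self_eq_one_iff.mp hcc with h | h
    · exact h
    · exfalso
      apply Cfsg.Agent.Lib.Helper63_BAL_K1.K1 h2K QK hQKnd hdimK ρ hρ0 hbasis (lin Q g')
      · intro v
        rw [hc₀', h, neg_one_smul]
      · intro a z ha _ haz v
        exact hex a z ha haz v
  rw [hc1] at hc₀'
  simp only [one_smul] at hc₀'
  -- `g'` is a `K`-scalar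
  obtain ⟨l, hl⟩ := exists_scalar_of_comm QK hQKnd hdimK (g := toK ρ hbasis (lin Q g') hc₀') (by
    intro a z ha _ haz
    apply LinearEquiv.ext
    intro v
    exact hex a z ha haz v)
  have hl' : ∀ v : ι → F, lin Q g' v = l • v := hl
  obtain ⟨c, hc⟩ := g'.2
  have hμ : ∀ v, Q (lin Q g' v) = (c : F) * Q v := fun v => by rw [lin_apply]; exact hc v
  have hll : l * l = algebraMap F K (c : F) := by
    obtain ⟨z, hz⟩ := Cfsg.Agent.Lib.Helper10_Bal_A4.exists_nonsingular QK hQKnd ⟨u, hu0⟩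
    have h1 := QK_sim Q QK ρ ν hQK (lin Q g' : (ι → F) →ₗ[F] (ι → F)) c hμ hc₀' z
    have h3 : QK ((lin Q g' : (ι → F) →ₗ[F] (ι → F)) z) = l * l * QK z := by
      show QK (lin Q g' z) = _
      rw [hl', QuadraticMap.map_smul, smul_eq_mul]
    rw [h3] at h1
    exact mul_right_cancel₀ hz h1
  have hsq' : ∀ v, lin Q g' (lin Q g' v) = (c : F) • v := by
    intro v
    rw [hl' v, hl', smul_smul, hll, algebraMap_smul]
  have hscalar : ((g' * g' : ↥(GO (⇑Q))) : GL ι F) ∈ Cfsg.Geo.scalars ι F := by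
    rw [Cfsg.Geo.mem_scalars_iff]
    refine ⟨c, ?_⟩
    apply Cfsg.Agent.Lib.Helper44_Refl.matrix_ext_mulVec
    intro v
    rw [Subgroup.coe_mul, Units.val_mul, ← Matrix.mulVec_mulVec, ← lin_apply, ← lin_apply, hsq',
      Matrix.smul_mulVec, Matrix.one_mulVec]
  have hyy : Phi (⇑Q) g' * Phi (⇑Q) g' = 1 := by
    rw [← map_mul]
    exact Phi_eq_one_of_scalar _ _ hscalar
  exact eq_one_of_sq_of_odd N hNodd hy hyy


/-! ### the main theorem in the non-square case -/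

include hbasis in
/-- commutators of elements of `Inn ⊓ C(x)` normalise `RK` -/
theorem commutator_mem_normalizer (hQ : (QuadraticMap.polarBilin Q).Nondegenerate)
    (hn : 5 ≤ Fintype.card ι) (g₀ : ↥(GO (⇑Q))) (hρ : ∀ v : ι → F, lin Q g₀ v = ρ • v)
    (c₁ c₂ : MulAut (POmega F (⇑Q)))
    (hc₁ : c₁ ∈ Inn (POmega F (⇑Q)) ⊓ Subgroup.centralizer {Phi (⇑Q) g₀})
    (hc₂ : c₂ ∈ Inn (POmega F (⇑Q)) ⊓ Subgroup.centralizer {Phi (⇑Q) g₀}) :
    c₁ * c₂ * c₁⁻¹ * c₂⁻¹ ∈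
      Subgroup.normalizer (RK Q QK ρ ν hindep hQK h2 : Set (MulAut (POmega F (⇑Q)))) := by
  obtain ⟨hc₁I, hc₁x⟩ := Subgroup.mem_inf.mp hc₁
  obtain ⟨hc₂I, hc₂x⟩ := Subgroup.mem_inf.mp hc₂
  rw [inn_eq] at hc₁I hc₂I
  obtain ⟨ω₁, hω₁, rfl⟩ := hc₁I
  obtain ⟨ω₂, hω₂, rfl⟩ := hc₂I
  rw [SetLike.mem_coe, Subgroup.mem_subgroupOf] at hω₁ hω₂
  obtain ⟨hω₁iso, -⟩ := (mem_omegaGL_iff (⇑Q) _).mp hω₁
  obtain ⟨hω₂iso, -⟩ := (mem_omegaGL_iff (⇑Q) _).mp hω₂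
  have hx₁ : Phi (⇑Q) g₀ * Phi (⇑Q) ω₁ = Phi (⇑Q) ω₁ * Phi (⇑Q) g₀ := by
    rw [Subgroup.mem_centralizer_iff] at hc₁x
    exact hc₁x _ rfl
  have hx₂ : Phi (⇑Q) g₀ * Phi (⇑Q) ω₂ = Phi (⇑Q) ω₂ * Phi (⇑Q) g₀ := by
    rw [Subgroup.mem_centralizer_iff] at hc₂x
    exact hc₂x _ rfl
  obtain ⟨k₁, -, -, hk₁, h1⟩ := exists_scalar_of_Phi_comm₀ hQ hn g₀ ω₁ hx₁
  obtain ⟨k₂, -, -, hk₂, h2'⟩ := exists_scalar_of_Phi_comm₀ hQ hn g₀ ω₂ hx₂
  have hcomm := comm_commutator g₀ ω₁ ω₂ k₁ k₂ hk₁ hk₂ h1 h2'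
  obtain ⟨ω, hω⟩ : ∃ ω, ω = ω₁ * ω₂ * ω₁⁻¹ * ω₂⁻¹ := ⟨_, rfl⟩
  rw [← hω] at hcomm
  have hωiso : (ω : GL ι F) ∈ isometryGroup F (⇑Q) := by
    rw [hω]
    exact Subgroup.mul_mem _ (Subgroup.mul_mem _ (Subgroup.mul_mem _ hω₁iso hω₂iso)
      (Subgroup.inv_mem _ hω₁iso)) (Subgroup.inv_mem _ hω₂iso)
  have hΦ : Phi (⇑Q) ω₁ * Phi (⇑Q) ω₂ * (Phi (⇑Q) ω₁)⁻¹ * (Phi (⇑Q) ω₂)⁻¹ = Phi (⇑Q) ω := by
    rw [hω, map_mul, map_mul, map_mul, map_inv, map_inv]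
  rw [hΦ, Subgroup.mem_normalizer_iff]
  intro r
  constructor
  · intro hr
    exact conj_mem_RK Q QK ρ ν hbasis hindep hQK h2 g₀ hρ ω hωiso hcomm r hr
  · intro hr
    have hωinv : g₀ * ω⁻¹ = ω⁻¹ * g₀ := by
      calc g₀ * ω⁻¹ = ω⁻¹ * (ω * g₀) * ω⁻¹ := by group
        _ = ω⁻¹ * (g₀ * ω) * ω⁻¹ := by rw [hcomm]
        _ = ω⁻¹ * g₀ := by group
    have := conj_mem_RK Q QK ρ ν hbasis hindep hQK h2 g₀ hρ ω⁻¹ (Subgroup.inv_mem _ hωiso) hωinv _ hr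
    rw [map_inv] at this
    have h5 : (Phi (⇑Q) ω)⁻¹ * (Phi (⇑Q) ω * r * (Phi (⇑Q) ω)⁻¹) * ((Phi (⇑Q) ω)⁻¹)⁻¹ = r := by group
    rw [h5] at this
    exact this

include hbasis hindep hQK h2 hQKnd hdimK in
/-- **Case II**: no non-trivial normal subgroup of odd order in the centraliser of the involution
`Phi g₀`, `g₀² = ν` a non-square. -/
theorem caseII (S : Setup Q) (h2K : (2 : K) ≠ 0) (hne : ∃ v, Q v ≠ 0) (hν : ν ≠ 0)
    (hρ0 : ρ ≠ 0) (hoddK : Odd (finrank K (ι → F)))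
    (g₀ : ↥(GO (⇑Q))) (hρ : ∀ v : ι → F, lin Q g₀ v = ρ • v)
    (hsq : ((g₀ : GL ι F) : Matrix ι ι F) * ((g₀ : GL ι F) : Matrix ι ι F) =
      ν • (1 : Matrix ι ι F))
    (A N : Subgroup (MulAut (POmega F (⇑Q)))) (hinn : Inn (POmega F (⇑Q)) ≤ A)
    (hNle : N ≤ A ⊓ Subgroup.centralizer {Phi (⇑Q) g₀})
    (hNnorm : ∀ c ∈ A ⊓ Subgroup.centralizer {Phi (⇑Q) g₀}, ∀ n ∈ N, c * n * c⁻¹ ∈ N)
    (hNodd : Odd (Nat.card N)) : N = ⊥ := by
  have hQ := S.nd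
  have hn := S.hn
  obtain ⟨I₀, hI₀⟩ : ∃ I₀, I₀ = Inn (POmega F (⇑Q)) ⊓ Subgroup.centralizer {Phi (⇑Q) g₀} :=
    ⟨_, rfl⟩
  have hRI : RK Q QK ρ ν hindep hQK h2 ≤ I₀ := by
    rw [hI₀]
    exact le_inf (RK_le_inn Q QK ρ ν hindep hQK h2 hQKnd hdimK)
      (RK_le_centralizer Q QK ρ ν hindep hQK h2 g₀ hρ)
  apply core_trivial I₀ ⁅I₀, I₀⁆ N (fun _ : Unit => RK Q QK ρ ν hindep hQK h2)
  · intro _
    rw [← RK_perfect Q QK ρ ν hindep hQK h2 hQKnd hdimK]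
    exact Subgroup.commutator_mono hRI hRI
  · exact Subgroup.commutator_le_self I₀
  · intro c hc h hh
    have h1 : (⁅I₀, I₀⁆).map (MulAut.conj c).toMonoidHom ≤ ⁅I₀, I₀⁆ := by
      rw [Subgroup.map_commutator]
      have h3 : I₀.map (MulAut.conj c).toMonoidHom ≤ I₀ := by
        rintro _ ⟨d, hd, rfl⟩
        exact Subgroup.mul_mem _ (Subgroup.mul_mem _ hc hd) (Subgroup.inv_mem _ hc)
      exact Subgroup.commutator_mono h3 h3
    exact h1 ⟨h, hh, rfl⟩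
  · intro _ h hh r hr
    have hle : ⁅I₀, I₀⁆ ≤
        Subgroup.normalizer (RK Q QK ρ ν hindep hQK h2 : Set (MulAut (POmega F (⇑Q)))) := by
      rw [Subgroup.commutator_le]
      intro c₁ hc₁ c₂ hc₂
      rw [commutatorElement_def]
      rw [hI₀] at hc₁ hc₂
      exact commutator_mem_normalizer Q QK ρ ν hbasis hindep hQK h2 hQ hn g₀ hρ c₁ c₂ hc₁ hc₂
    exact (Subgroup.mem_normalizer_iff.mp (hle hh) r).mp hr
  · intro n hn' c hc
    rw [hI₀] at hc ⊢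
    refine ⟨(Cfsg.innNormal _).conj_mem c hc.1 n, ?_⟩
    have hnx := (hNle hn').2
    exact Subgroup.mul_mem _ (Subgroup.mul_mem _ hnx hc.2) (Subgroup.inv_mem _ hnx)
  · intro c hc n hn'
    rw [hI₀] at hc
    exact hNnorm c ⟨hinn hc.1, hc.2⟩ n hn'
  · exact hNodd
  · intro _
    exact oddComm_RK Q QK ρ ν hindep hQK h2 hQKnd hdimK h2K hQ hn hne hoddK
  · intro y hy hcomm
    exact key_caseII Q QK ρ ν hbasis hindep hQK h2 hQKnd hdimK S h2K hne hν hρ0 g₀ hρ hsq N hNodd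
      (fun n hn => (hNle hn).2) y hy (hcomm ())

end Cfsg.Agent.Lib.Helper14_BalCaseII
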