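import Mathlib
import Cfsg.Agent.Lib.Helper14_BalDefs
import Cfsg.Agent.Lib.Helper14_CentOmega
import Cfsg.Agent.Lib.Helper14_OrthMinusGraph

/-!
# BAL-M2: normal form of a graph involution (helper69, for helper14's S2733 plan)
-/

set_option autoImplicit false

namespace Cfsg.Agent.Lib.Helper69_Bal_M2

open Module Cfsg Cfsg.Agent.Lib.Helper94_OrthSmall Cfsg.Agent.Lib.Helper14_OmegaSimple
  Cfsg.Agent.Lib.Helper14_BalDefs Cfsg.Agent.Lib.Helper14_AutOmega Cfsg.Agent.Lib.Helper14_GOChars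
  Cfsg.Agent.Lib.Helper14_InndiagQuot Cfsg.Agent.Lib.Helper60_OrthExt_PE1

section normalform

variable {ι : Type} [Fintype ι] [DecidableEq ι] {F : Type*} [Field F] [Fintype F]

/-- The involution case: an involution of `GO(Q)` outside `G°` is an isometry whose `(-1)`-eigenspace
has odd dimension, provided no totally singular subspace has dimension `M`. -/
theorem invol_case (h2 : (2 : F) ≠ 0) (Q : QuadraticForm F (ι → F))
    (hQ : (QuadraticMap.polarBilin Q).Nondegenerate) (hne : ∃ v, Q v ≠ 0) {M : ℕ}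
    (hcard : Fintype.card ι = 2 * M)
    (hts : ∀ W : Submodule F (ι → F), (∀ w ∈ W, Q w = 0) → finrank F W < M)
    (g₁ : ↥(GO (⇑Q))) (hg₁ : g₁ ∉ Gz h2 Q hQ hne hcard) (hinv : g₁ * g₁ = 1) :
    (∀ v, Q (((g₁ : GL ι F) : Matrix ι ι F).mulVec v) = Q v) ∧
      Odd (finrank F (eig (Matrix.toLin' ((g₁ : GL ι F) : Matrix ι ι F)) (-1))) := by
  classical
  obtain ⟨A, hA⟩ : ∃ A : Matrix ι ι F, A = ((g₁ : GL ι F) : Matrix ι ι F) := ⟨_, rfl⟩
  have hAA : A * A = 1 := by
    have := congrArg (fun g : ↥(GO (⇑Q)) => ((g : GL ι F) : Matrix ι ι F)) hinv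
    simp only [Subgroup.coe_mul, Units.val_mul, Subgroup.coe_one, Units.val_one] at this
    rw [hA]
    exact this
  obtain ⟨X, hX⟩ : ∃ X : (ι → F) →ₗ[F] (ι → F), X = Matrix.toLin' A := ⟨_, rfl⟩
  have hXv : ∀ v, X v = A.mulVec v := fun v => by rw [hX, Matrix.toLin'_apply]
  have hXX : ∀ v, X (X v) = v := by
    intro v
    rw [hXv, hXv, Matrix.mulVec_mulVec, hAA, Matrix.one_mulVec]
  have hmumu : mu (⇑Q) g₁ * mu (⇑Q) g₁ = 1 := by
    have := map_mul (muHom (⇑Q) hne) g₁ g₁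
    rw [hinv, map_one] at this
    exact this.symm
  have hmu : ((mu (⇑Q) g₁ : Fˣ) : F) = 1 ∨ ((mu (⇑Q) g₁ : Fˣ) : F) = -1 := by
    have := congrArg Units.val hmumu
    rw [Units.val_mul, Units.val_one] at this
    exact mul_self_eq_one_iff.mp this
  have hfin : finrank F (ι → F) = 2 * M := by rw [Module.finrank_fintype_fun_eq_card, hcard]
  have hsum := finrank_eig_add hXX h2
  rw [hfin] at hsum
  -- the multiplier of `g₁` is one
  have hmu1 : ((mu (⇑Q) g₁ : Fˣ) : F) = 1 := by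
    rcases hmu with h | h
    · exact h
    · exfalso
      have hsing : ∀ ε : F, ε * ε = 1 → ∀ w ∈ eig X ε, Q w = 0 := by
        intro ε hε w hw
        have h1 := mu_spec (⇑Q) g₁ w
        rw [← hA, ← hXv, mem_eig.1 hw, QuadraticMap.map_smul, hε, h, smul_eq_mul] at h1
        have h3 : (2 : F) * Q w = 0 := by linear_combination h1
        exact (mul_eq_zero.1 h3).resolve_left h2
      have h1 := hts _ (hsing 1 (by ring))
      have h3 := hts _ (hsing (-1) (by ring))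
      omega
  have hdet : A.det = -1 := by
    rcases det_eq_or h2 Q hQ hcard g₁ with h | h
    · exfalso
      apply hg₁
      rw [MonoidHom.mem_ker, sgnHom_eq_one_iff]
      exact h
    · rw [hA, h, hmu1, one_pow]
  have hk : Odd (finrank F (eig X (-1))) := by
    have h1 := det_eq_neg_one_pow hXX h2
    rw [hX, LinearMap.det_toLin', hdet] at h1
    by_contra hev
    rw [Nat.not_odd_iff_even] at hev
    rw [← hX, hev.neg_one_pow] at h1
    apply h2
    linear_combination (-1 : F) * h1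
  refine ⟨fun v => ?_, ?_⟩
  · have h1 := mu_spec (⇑Q) g₁ v
    rw [hmu1, one_mul] at h1
    exact h1
  · rw [← hA, ← hX]
    exact hk

/-- BAL-M2: normal form of a graph involution. -/
theorem M2 (h2 : (2 : F) ≠ 0) (Q : QuadraticForm F (ι → F))
    (hQ : (QuadraticMap.polarBilin Q).Nondegenerate) (hne : ∃ v, Q v ≠ 0) {M : ℕ}
    (hcard : Fintype.card ι = 2 * M)
    (hts : ∀ W : Submodule F (ι → F), (∀ w ∈ W, Q w = 0) → finrank F W < M)
    (g₀ : ↥(GO (⇑Q))) (hg₀ : g₀ ∉ Gz h2 Q hQ hne hcard) (hsq : g₀ * g₀ ∈ Z' Q) :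
    (∃ g₁ : ↥(GO (⇑Q)), g₁ * g₁ = 1 ∧ g₁⁻¹ * g₀ ∈ Z' Q ∧
        (∀ v, Q (((g₁ : GL ι F) : Matrix ι ι F).mulVec v) = Q v) ∧
        Odd (finrank F (eig (Matrix.toLin' ((g₁ : GL ι F) : Matrix ι ι F)) (-1)))) ∨
    (∃ ν : F, ¬ IsSquare ν ∧
        ((g₀ : GL ι F) : Matrix ι ι F) * ((g₀ : GL ι F) : Matrix ι ι F) = ν • (1 : Matrix ι ι F) ∧
        (∀ v, Q (((g₀ : GL ι F) : Matrix ι ι F).mulVec v) = ν * Q v) ∧ Odd M) := by
  classical
  obtain ⟨ν, hν⟩ := (Geo.mem_scalars_iff _).mp (Subgroup.mem_subgroupOf.mp hsq)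
  have hAA : ((g₀ : GL ι F) : Matrix ι ι F) * ((g₀ : GL ι F) : Matrix ι ι F) =
      (ν : F) • (1 : Matrix ι ι F) := by
    rw [← hν, Subgroup.coe_mul, Units.val_mul]
  have hg₀g₀ : g₀ * g₀ = scalarGO Q ν := by
    apply Subtype.ext
    apply Units.ext
    rw [hν, scalarGO_coe]
  have hmumu : mu (⇑Q) g₀ * mu (⇑Q) g₀ = ν * ν := by
    have := map_mul (muHom (⇑Q) hne) g₀ g₀
    rw [hg₀g₀, muHom_apply, muHom_apply, mu_scalarGO Q hne] at this
    exact this.symm
  by_cases hsqν : IsSquare (ν : F)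
  · -- case (I)
    left
    obtain ⟨c, hc⟩ := hsqν
    have hc0 : c ≠ 0 := by
      rintro rfl
      rw [mul_zero] at hc
      exact Units.ne_zero _ hc
    obtain ⟨cu, hcu⟩ : ∃ cu : Fˣ, (cu : F) = c := ⟨Units.mk0 c hc0, rfl⟩
    have hνcu : ν = cu * cu := by
      apply Units.ext
      rw [Units.val_mul, hcu, hc]
    obtain ⟨z, hz⟩ : ∃ z : ↥(GO (⇑Q)), z = scalarGO Q cu⁻¹ := ⟨_, rfl⟩
    have hzZ : z ∈ Z' Q := by
      rw [hz]
      exact Subgroup.mem_subgroupOf.mpr (scalarGO_mem Q _)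
    have hzz : z * z = (scalarGO Q ν)⁻¹ := by
      rw [eq_inv_iff_mul_eq_one]
      apply Subtype.ext
      apply Units.ext
      rw [hz, Subgroup.coe_mul, Subgroup.coe_mul, Units.val_mul, Units.val_mul, scalarGO_coe,
        scalarGO_coe, Subgroup.coe_one, Units.val_one]
      simp only [Matrix.mul_smul, Matrix.mul_one, smul_smul]
      rw [hνcu, Units.val_mul, Units.val_inv_eq_inv_val]
      have hcu0 : (cu : F) ≠ 0 := Units.ne_zero _
      have : (cu : F) * (cu : F) * ((cu : F)⁻¹ * (cu : F)⁻¹) = 1 := by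
        field_simp
      rw [this, one_smul]
    have hcomm : ∀ x : ↥(GO (⇑Q)), x * z = z * x := scalar_comm Q z hzZ
    refine ⟨g₀ * z, ?_, ?_, ?_⟩
    · calc g₀ * z * (g₀ * z) = g₀ * (z * g₀) * z := by group
        _ = g₀ * (g₀ * z) * z := by rw [← hcomm g₀]
        _ = (g₀ * g₀) * (z * z) := by group
        _ = 1 := by rw [hg₀g₀, hzz, mul_inv_cancel]
    · have : (g₀ * z)⁻¹ * g₀ = z⁻¹ := by
        group
      rw [this]
      exact Subgroup.inv_mem _ hzZ
    · apply invol_case h2 Q hQ hne hcard hts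
      · intro hmem
        apply hg₀
        have hzG : z ∈ Gz h2 Q hQ hne hcard :=
          SO'_le_Gz h2 Q hQ hne hcard (Subgroup.mem_sup_right hzZ)
        have : g₀ = (g₀ * z) * z⁻¹ := by group
        rw [this]
        exact Subgroup.mul_mem _ hmem (Subgroup.inv_mem _ hzG)
      · calc g₀ * z * (g₀ * z) = g₀ * (z * g₀) * z := by group
          _ = g₀ * (g₀ * z) * z := by rw [← hcomm g₀]
          _ = (g₀ * g₀) * (z * z) := by group
          _ = 1 := by rw [hg₀g₀, hzz, mul_inv_cancel]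
  · -- case (II)
    right
    have hdet := Cfsg.Agent.Lib.Helper14_OrthMinusGraph.det_of_sq_nonsquare
      ((g₀ : GL ι F) : Matrix ι ι F) (ν : F) hsqν hAA hcard
    have hmm : ((mu (⇑Q) g₀ : Fˣ) : F) * ((mu (⇑Q) g₀ : Fˣ) : F) = (ν : F) * (ν : F) := by
      have := congrArg Units.val hmumu
      rw [Units.val_mul, Units.val_mul] at this
      exact this
    have hnot : ¬ (((g₀ : GL ι F) : Matrix ι ι F).det = ((mu (⇑Q) g₀ : Fˣ) : F) ^ M) := by
      intro h
      apply hg₀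
      rw [MonoidHom.mem_ker, sgnHom_eq_one_iff]
      exact h
    have hmuν : ((mu (⇑Q) g₀ : Fˣ) : F) = (ν : F) := by
      rcases mul_self_eq_mul_self_iff.mp hmm with h | h
      · exact h
      · exfalso
        apply hnot
        rw [hdet, h]
    refine ⟨(ν : F), hsqν, hAA, fun v => ?_, ?_⟩
    · have h1 := mu_spec (⇑Q) g₀ v
      rw [hmuν] at h1
      exact h1
    · by_contra hev
      rw [Nat.not_odd_iff_even] at hev
      apply hnot
      rw [hdet, hmuν, hev.neg_pow]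

end normalform

end Cfsg.Agent.Lib.Helper69_Bal_M2
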