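import Mathlib
import Cfsg.Agent.Lib.Helper14_BalCaseI
import Cfsg.Agent.Lib.Helper14_BalCaseII
import Cfsg.Agent.Lib.Helper69_Bal_M2
import Cfsg.Agent.Lib.Helper44_BalanceGen
import Cfsg.Agent.Lib.Helper14_OrthMinusGraph
import Cfsg.Agent.Lib.Helper52_Bal_D1
import Cfsg.Agent.Lib.Helper58_Bal_D2

/-!
# Local balance at a graph involution of `PΩ⁻_{2m+2}(q)`, `q` odd (helper14)

`balance_graph` : for a graph involution `x = Phi g₀` (`g₀ ∉ G°`) of `PΩ(Q)`, `dim Q = 2M ≥ 8`,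
no totally singular subspace of dimension `M`, and `Inn ≤ A ≤ Aut(PΩ(Q))`:
`O_{2'}(C_A(x)) = 1`.  `balance_minus_graph` : the same for the frozen minus-type form.
-/

set_option autoImplicit false
set_option linter.unusedSectionVars false
set_option linter.unusedVariables false

namespace Cfsg.Agent.Lib.Helper14_BalGraph

open Module Matrix Cfsg Cfsg.Agent.Lib.Helper94_OrthSmall Cfsg.Agent.Lib.Helper14_OmegaSimple
  Cfsg.Agent.Lib.Helper14_BalDefs Cfsg.Agent.Lib.Helper14_BalRoot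
  Cfsg.Agent.Lib.Helper14_BalCommon Cfsg.Agent.Lib.Helper14_BalK
  Cfsg.Agent.Lib.Helper14_BalCaseI Cfsg.Agent.Lib.Helper14_BalCaseII
  Cfsg.Agent.Lib.Helper14_AutOmega Cfsg.Agent.Lib.Helper44_Orth
  Cfsg.Agent.Lib.Helper14_CentOmega Cfsg.Agent.Lib.Helper14_OrthGamma
  Cfsg.Agent.Lib.Helper14_GOChars Cfsg.Agent.Lib.Helper14_InndiagQuot
  Cfsg.Agent.Lib.Helper60_OrthExt_PE1

variable {ι : Type} [Fintype ι] [DecidableEq ι] {F : Type*} [Field F] [Fintype F]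
  (Q : QuadraticForm F (ι → F))

/-- no normal subgroup of odd order: the statement about `pPrimeCore 2` -/
theorem oddCore_eq_bot {G : Type*} [Group G] (B : Subgroup G)
    (h : ∀ N : Subgroup G, N ≤ B → (∀ c ∈ B, ∀ n ∈ N, c * n * c⁻¹ ∈ N) → Odd (Nat.card N) →
      N = ⊥) : pPrimeCore 2 ↥B = ⊥ := by
  by_contra hcon
  rw [← Ne, Cfsg.Agent.Lib.Helper44_BalanceGen.pPrimeCore_ne_bot_iff] at hcon
  obtain ⟨N, hNn, hcop, hN⟩ := hcon
  apply hN
  have h1 := h (N.map B.subtype) (Subgroup.map_subtype_le N) (by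
    rintro c hc _ ⟨n, hn, rfl⟩
    exact ⟨⟨c, hc⟩ * n * ⟨c, hc⟩⁻¹, hNn.conj_mem n hn ⟨c, hc⟩, rfl⟩) (by
    rw [Subgroup.card_map_of_injective (Subgroup.subtype_injective _)]
    exact Nat.Coprime.odd_of_right hcop)
  rwa [Subgroup.map_eq_bot_iff_of_injective _ (Subgroup.subtype_injective _)] at h1

/-- **Local balance at a graph involution.** -/
theorem balance_graph (h2 : (2 : F) ≠ 0) (S : Setup Q) (hne : ∃ v, Q v ≠ 0) {M : ℕ}
    (hcard : Fintype.card ι = 2 * M) (hM : 4 ≤ M)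
    (hts : ∀ W : Submodule F (ι → F), (∀ w ∈ W, Q w = 0) → finrank F W < M)
    (g₀ : ↥(GO (⇑Q))) (hg₀ : g₀ ∉ Gz h2 Q S.nd hne hcard)
    (hxx : Phi (⇑Q) g₀ * Phi (⇑Q) g₀ = 1)
    (A : Subgroup (MulAut (POmega F (⇑Q)))) (hinn : Inn (POmega F (⇑Q)) ≤ A) :
    pPrimeCore 2 ↥(A ⊓ Subgroup.centralizer {Phi (⇑Q) g₀}) = ⊥ := by
  have hQ := S.nd
  have hn := S.hn
  apply oddCore_eq_bot
  intro N hNle hNnorm hNodd
  have hsq : g₀ * g₀ ∈ Z' Q := by
    rw [Subgroup.mem_subgroupOf]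
    apply scalar_of_Phi_eq_one Q hQ hn
    rw [map_mul]
    exact hxx
  rcases Cfsg.Agent.Lib.Helper69_Bal_M2.M2 h2 Q hQ hne hcard hts g₀ hg₀ hsq with
    ⟨g₁, h11, hz, hiso, hodd₂⟩ | ⟨ν, hν, hνsq, hνQ, hMo⟩
  · -- isometry involution
    have hΦ : Phi (⇑Q) g₀ = Phi (⇑Q) g₁ := by
      have h1 : Phi (⇑Q) (g₁⁻¹ * g₀) = 1 :=
        Phi_eq_one_of_scalar _ _ (Subgroup.mem_subgroupOf.mp hz)
      rw [map_mul, map_inv, inv_mul_eq_one] at h1
      exact h1.symm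
    rw [hΦ] at hNle hNnorm
    have hiso' : (g₁ : GL ι F) ∈ isometryGroup F (⇑Q) :=
      (mem_isometryGroup_iff (⇑Q) _).mpr hiso
    have hsum := finrank_eig_add (X_X Q g₁ h11) h2
    rw [Module.finrank_fintype_fun_eq_card, hcard] at hsum
    have hodd₁ : Odd (finrank F ↥(eig (X Q g₁) 1)) := by
      have hodd₂' : Odd (finrank F ↥(eig (X Q g₁) (-1))) := hodd₂
      obtain ⟨k, hk⟩ := hodd₂'
      rw [← Nat.not_even_iff_odd]
      rintro ⟨j, hj⟩
      omega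
    exact caseI Q S g₁ h11 hiso' h2 hne (by omega) hodd₁ hodd₂ A N hinn hNle hNnorm hNodd
  · -- `g₀² = ν` a non-square
    have hν0 : ν ≠ 0 := by
      rintro rfl
      exact hν ⟨0, by simp⟩
    have hθθ : ∀ v : ι → F, X Q g₀ (X Q g₀ v) = ν • v := by
      intro v
      rw [X, Matrix.toLin'_apply, Matrix.toLin'_apply, Matrix.mulVec_mulVec, hνsq,
        Matrix.smul_mulVec, Matrix.one_mulVec]
    obtain ⟨K, instF, instFt, instA, instM, instT, ρ, hρρ, hρθ, hbasis, hindep⟩ :=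
      Cfsg.Agent.Lib.Helper58_Bal_K2.K2 (X Q g₀) ν hν hθθ
    have hρ : ∀ v : ι → F, lin Q g₀ v = ρ • v := fun v => by rw [hρθ, X_apply]
    have hQρ : ∀ v : ι → F, Q (ρ • v) = ν * Q v := by
      intro v
      rw [← hρ, lin_apply]
      exact hνQ v
    obtain ⟨QK, hQKnd, hQK⟩ :=
      Cfsg.Agent.Lib.Helper58_Bal_K3.K3 h2 Q hQ ρ ν hν0 hρρ hbasis hindep hQρ
    obtain ⟨hfd, hfr⟩ := Cfsg.Agent.Lib.Helper58_Bal_D2.D2 (F := F) (V := ι → F) ρ hbasis hindep
    rw [Module.finrank_fintype_fun_eq_card, hcard] at hfr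
    have hfrK : finrank K (ι → F) = M := by omega
    have hdimK : 5 ≤ finrank K (ι → F) := by
      rw [hfrK]
      obtain ⟨k, hk⟩ := hMo
      omega
    have h2K : (2 : K) ≠ 0 := by
      intro h
      apply h2
      apply (algebraMap F K).injective
      rw [map_ofNat, map_zero]
      exact h
    have hρ0 : ρ ≠ 0 := by
      rintro rfl
      rw [mul_zero] at hρρ
      apply hν0
      apply (algebraMap F K).injective
      rw [map_zero]
      exact hρρ.symm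
    exact caseII Q QK ρ ν hbasis hindep hQK h2 hQKnd hdimK S h2K hne hν0 hρ0 (by rw [hfrK]; exact hMo)
      g₀ hρ hνsq A N hinn hNle hNnorm hNodd


section minus

variable {m : ℕ} {F : Type*} [Field F] [Fintype F]

open Cfsg.Agent.Lib.Helper14_OrthMinusAut Cfsg.Agent.Lib.Helper14_OrthTop0
  Cfsg.Agent.Lib.Helper44_StdForms Cfsg.Agent.Lib.Helper14_OrthMinusGraph
  Cfsg.Agent.Lib.Helper14_OrthMinusOut3 Cfsg.Agent.Lib.Helper14_OrthMinusOut2 in
/-- **Local balance at a non-inner-diagonal involution of `Aut(PΩ⁻_{2m+2}(q))`, `q` odd.** -/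
theorem balance_minus_graph (hodd : Odd (Fintype.card F)) (hm : 3 ≤ m) (a b : F)
    (hab : ∀ z₁ z₂ : F, z₁ ^ 2 + a * z₁ * z₂ + b * z₂ ^ 2 = 0 → z₁ = 0 ∧ z₂ = 0)
    (A : Subgroup (MulAut (POmega F (quadFormMinus m F a b)))) (hinn : ∀ k, MulAut.conj k ∈ A)
    (x : MulAut (POmega F (quadFormMinus m F a b))) (hord : orderOf x = 2)
    (hnot : ¬ IsInnerDiagonalAutPOmegaMinus m a b x) :
    pPrimeCore 2 ↥(A ⊓ Subgroup.centralizer {x}) = ⊥ := by
  have h2 : (2 : F) ≠ 0 := Cfsg.Agent.Lib.Helper44_FinSq.two_ne_zero_of_odd_card hodd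
  have S := setup_minus hm a b hab
  have hQ := S.nd
  have hcard : Fintype.card ((Fin m ⊕ Fin m) ⊕ Fin 2) = 2 * (m + 1) := card_index
  have hn : 5 ≤ Fintype.card ((Fin m ⊕ Fin m) ⊕ Fin 2) := S.hn
  have hne : ∃ v, qfMinus m F a b v ≠ 0 := ⟨_, nonsing_minus a b⟩
  -- the field
  obtain ⟨p, f, hp, hF⟩ : ∃ p f : ℕ, p.Prime ∧ Fintype.card F = p ^ f := by
    have hch := ringChar.charP F
    obtain ⟨n, hp, hn⟩ := FiniteField.card F (ringChar F)
    exact ⟨ringChar F, n, hp, hn⟩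
  have hpf : Fact p.Prime := ⟨hp⟩
  have hp2 : p ≠ 2 := by
    rintro rfl
    rw [hF] at hodd
    rcases Nat.eq_zero_or_pos f with rfl | hfpos
    · rw [pow_zero] at hF
      have := Fintype.one_lt_card (α := F)
      omega
    · exact (Nat.not_even_iff_odd.mpr hodd) ((Nat.even_pow.mpr ⟨even_two, by omega⟩))
  obtain ⟨φ, β, gN, hordφ, hgen, hβφ, hβf, hgN⟩ :=
    exists_frob_lift_sgn hp2 hF hm a b hab h2 hne
  have hts : ∀ W : Submodule F ((Fin m ⊕ Fin m) ⊕ Fin 2 → F),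
      (∀ w ∈ W, qfMinus m F a b w = 0) → finrank F ↥W < m + 1 := by
    intro W hW
    have := Cfsg.Agent.Lib.Helper44_WittIndexMinus.ts_finrank_le m a b hab hQ W hW
    omega
  have key : ∀ (A : Subgroup (MulAut (POmega F (⇑(qfMinus m F a b)))))
      (hinn : ∀ k, MulAut.conj k ∈ A) (x : MulAut (POmega F (⇑(qfMinus m F a b))))
      (hord : orderOf x = 2)
      (hnot : ¬ ∃ g : GL ((Fin m ⊕ Fin m) ⊕ Fin 2) F,
        g ∈ Geo.quadSimilarityGroup (F := F) (⇑(qfMinus m F a b)) ∧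
        PreservesSingularClassesMinus m a b
          (g : Matrix ((Fin m ⊕ Fin m) ⊕ Fin 2) ((Fin m ⊕ Fin m) ⊕ Fin 2) F) ∧
        IsInducedBySemilinearPOmega (⇑(qfMinus m F a b)) g (RingEquiv.refl F) x),
      pPrimeCore 2 ↥(A ⊓ Subgroup.centralizer {x}) = ⊥ := by
    intro A hinn x hord hnot
    have hxx : x * x = 1 := by
      have h := pow_orderOf_eq_one x
      rw [hord, pow_two] at h
      exact h
    obtain ⟨g₀, rfl⟩ := mem_range_of_sq_eq_one S h2 hne hcard φ β hordφ hgen hβφ gN hβf hgN x hxx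
    have hg₀ : g₀ ∉ Gz h2 (qfMinus m F a b) S.nd hne hcard := by
      intro h
      apply hnot
      rw [MonoidHom.mem_ker, sgnHom_eq_one_iff] at h
      exact ⟨g₀, g₀.2,
        (Cfsg.Agent.Lib.Helper14_InndiagMinus.preserves_minus_iff m a b hodd hab g₀).mpr h,
        (isInduced_iff (⇑(qfMinus m F a b)) g₀ _).mpr rfl⟩
    exact balance_graph (qfMinus m F a b) h2 S hne hcard (by omega) hts g₀ hg₀ hxx A
      (by rintro _ ⟨k, rfl⟩; exact hinn k)
  rw [coe_qfMinus] at key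
  exact key A hinn x hord hnot

end minus

end Cfsg.Agent.Lib.Helper14_BalGraph
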