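import Mathlib
import Cfsg.Agent.Lib.Helper14_PSLCent

set_option autoImplicit false
set_option linter.unusedSectionVars false

/-!
Similarity groups of symmetric bilinear forms versus the quadratic form `v ↦ B(v,v)` (odd characteristic),
and transport of projective similarity groups of quadratic forms along invertible (rectangular) matrices
(helper14).
-/

namespace Cfsg.Agent.Lib.Helper14_PGOTransport

open Matrix Cfsg.Agent.Lib.Helper14_PSLCent

variable {F : Type*} [Field F]

section bil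

variable {ι : Type} [Fintype ι] [DecidableEq ι]

theorem bilOf_add_left (M : Matrix ι ι F) (u u' v : ι → F) :
    bilOf M (u + u') v = bilOf M u v + bilOf M u' v := by
  unfold bilOf; rw [add_dotProduct]

theorem bilOf_add_right (M : Matrix ι ι F) (u v v' : ι → F) :
    bilOf M u (v + v') = bilOf M u v + bilOf M u v' := by
  unfold bilOf; rw [Matrix.mulVec_add, dotProduct_add]

theorem bilOf_symm {M : Matrix ι ι F} (hM : Mᵀ = M) (u v : ι → F) : bilOf M u v = bilOf M v u := by
  unfold bilOf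
  rw [Matrix.dotProduct_mulVec, dotProduct_comm, ← Matrix.mulVec_transpose, hM]

theorem bilOf_sub (M N : Matrix ι ι F) (u v : ι → F) : bilOf (M - N) u v = bilOf M u v - bilOf N u v := by
  unfold bilOf; rw [Matrix.sub_mulVec, dotProduct_sub]

/-- A symmetric matrix whose quadratic form vanishes is zero (characteristic not two). -/
theorem eq_zero_of_diag (h2 : (2 : F) ≠ 0) {N : Matrix ι ι F} (hN : Nᵀ = N)
    (h : ∀ v, bilOf N v v = 0) : N = 0 := by
  apply bilOf_ext
  intro u v
  have h1 := h (u + v)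
  rw [bilOf_add_left, bilOf_add_right, bilOf_add_right, h u, h v, bilOf_symm hN v u] at h1
  have h3 : (2 : F) * bilOf N u v = 0 := by linear_combination h1
  have h4 : bilOf N u v = 0 := by
    rcases mul_eq_zero.mp h3 with h | h
    · exact absurd h h2
    · exact h
  rw [h4]
  unfold bilOf
  rw [Matrix.zero_mulVec, dotProduct_zero]

/-- In odd characteristic the similarity group of a symmetric bilinear form is the similarity group of its
quadratic form. -/
theorem similarityGroup_eq_quad (h2 : (2 : F) ≠ 0) {M : Matrix ι ι F} (hM : Mᵀ = M) :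
    Cfsg.Geo.similarityGroup (bilOf M) = Cfsg.Geo.quadSimilarityGroup (fun v => bilOf M v v) := by
  ext g
  constructor
  · rintro ⟨c, hc⟩
    exact ⟨c, fun v => hc v v⟩
  · rintro ⟨c, hc⟩
    rw [mem_similarityGroup_bilOf]
    refine ⟨c, ?_⟩
    have hsym : ((g : Matrix ι ι F)ᵀ * M * (g : Matrix ι ι F) - (c : F) • M)ᵀ
        = (g : Matrix ι ι F)ᵀ * M * (g : Matrix ι ι F) - (c : F) • M := by
      rw [Matrix.transpose_sub, Matrix.transpose_mul, Matrix.transpose_mul, Matrix.transpose_transpose,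
        Matrix.transpose_smul, hM, Matrix.mul_assoc]
    have := eq_zero_of_diag h2 hsym (fun v => by
      rw [bilOf_sub, ← bilOf_mulVec, bilOf_smul]
      have := hc v
      simp only at this
      rw [this, sub_self])
    exact sub_eq_zero.mp this

end bil

section transport

variable {ι κ : Type} [Fintype ι] [DecidableEq ι] [Fintype κ] [DecidableEq κ]

/-- The isomorphism `GL ι F ≃* GL κ F` given by an invertible rectangular matrix. -/
def glCongr (P : Matrix κ ι F) (P' : Matrix ι κ F) (h1 : P * P' = 1) (h2 : P' * P = 1) :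
    GL ι F ≃* GL κ F where
  toFun g := ⟨P * (g : Matrix ι ι F) * P', P * ((g⁻¹ : GL ι F) : Matrix ι ι F) * P', by
      calc P * (g : Matrix ι ι F) * P' * (P * ((g⁻¹ : GL ι F) : Matrix ι ι F) * P')
          = P * ((g : Matrix ι ι F) * (P' * P) * ((g⁻¹ : GL ι F) : Matrix ι ι F)) * P' := by
            simp only [Matrix.mul_assoc]
        _ = 1 := by rw [h2, Matrix.mul_one, ← Units.val_mul, mul_inv_cancel, Units.val_one,
            Matrix.mul_one, h1], by
      calc P * ((g⁻¹ : GL ι F) : Matrix ι ι F) * P' * (P * (g : Matrix ι ι F) * P')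
          = P * (((g⁻¹ : GL ι F) : Matrix ι ι F) * (P' * P) * (g : Matrix ι ι F)) * P' := by
            simp only [Matrix.mul_assoc]
        _ = 1 := by rw [h2, Matrix.mul_one, ← Units.val_mul, inv_mul_cancel, Units.val_one,
            Matrix.mul_one, h1]⟩
  invFun g := ⟨P' * (g : Matrix κ κ F) * P, P' * ((g⁻¹ : GL κ F) : Matrix κ κ F) * P, by
      calc P' * (g : Matrix κ κ F) * P * (P' * ((g⁻¹ : GL κ F) : Matrix κ κ F) * P)
          = P' * ((g : Matrix κ κ F) * (P * P') * ((g⁻¹ : GL κ F) : Matrix κ κ F)) * P := by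
            simp only [Matrix.mul_assoc]
        _ = 1 := by rw [h1, Matrix.mul_one, ← Units.val_mul, mul_inv_cancel, Units.val_one,
            Matrix.mul_one, h2], by
      calc P' * ((g⁻¹ : GL κ F) : Matrix κ κ F) * P * (P' * (g : Matrix κ κ F) * P)
          = P' * (((g⁻¹ : GL κ F) : Matrix κ κ F) * (P * P') * (g : Matrix κ κ F)) * P := by
            simp only [Matrix.mul_assoc]
        _ = 1 := by rw [h1, Matrix.mul_one, ← Units.val_mul, inv_mul_cancel, Units.val_one,
            Matrix.mul_one, h2]⟩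
  left_inv g := by
    apply Units.ext
    show P' * (P * (g : Matrix ι ι F) * P') * P = (g : Matrix ι ι F)
    calc P' * (P * (g : Matrix ι ι F) * P') * P = (P' * P) * (g : Matrix ι ι F) * (P' * P) := by
          simp only [Matrix.mul_assoc]
      _ = _ := by rw [h2, Matrix.one_mul, Matrix.mul_one]
  right_inv g := by
    apply Units.ext
    show P * (P' * (g : Matrix κ κ F) * P) * P' = (g : Matrix κ κ F)
    calc P * (P' * (g : Matrix κ κ F) * P) * P' = (P * P') * (g : Matrix κ κ F) * (P * P') := by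
          simp only [Matrix.mul_assoc]
      _ = _ := by rw [h1, Matrix.one_mul, Matrix.mul_one]
  map_mul' g h := by
    apply Units.ext
    show P * ((g * h : GL ι F) : Matrix ι ι F) * P' = P * (g : Matrix ι ι F) * P' * (P * (h : Matrix ι ι F) * P')
    calc P * ((g * h : GL ι F) : Matrix ι ι F) * P'
        = P * ((g : Matrix ι ι F) * 1 * (h : Matrix ι ι F)) * P' := by
          rw [Units.val_mul, Matrix.mul_one]
      _ = _ := by rw [← h2]; simp only [Matrix.mul_assoc]

theorem glCongr_coe (P : Matrix κ ι F) (P' : Matrix ι κ F) (h1 : P * P' = 1) (h2 : P' * P = 1)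
    (g : GL ι F) : ((glCongr P P' h1 h2 g : GL κ F) : Matrix κ κ F) = P * (g : Matrix ι ι F) * P' := rfl

theorem glCongr_symm_coe (P : Matrix κ ι F) (P' : Matrix ι κ F) (h1 : P * P' = 1) (h2 : P' * P = 1)
    (g : GL κ F) : (((glCongr P P' h1 h2).symm g : GL ι F) : Matrix ι ι F) = P' * (g : Matrix κ κ F) * P := rfl

theorem glCongr_mem_scalars_iff (P : Matrix κ ι F) (P' : Matrix ι κ F) (h1 : P * P' = 1) (h2 : P' * P = 1)
    (g : GL ι F) : glCongr P P' h1 h2 g ∈ Cfsg.Geo.scalars κ F ↔ g ∈ Cfsg.Geo.scalars ι F := by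
  rw [Cfsg.Geo.mem_scalars_iff, Cfsg.Geo.mem_scalars_iff]
  constructor
  · rintro ⟨c, hc⟩
    refine ⟨c, ?_⟩
    rw [glCongr_coe] at hc
    have := congrArg (fun X => P' * X * P) hc
    beta_reduce at this
    calc (g : Matrix ι ι F) = (P' * P) * (g : Matrix ι ι F) * (P' * P) := by
          rw [h2, Matrix.one_mul, Matrix.mul_one]
      _ = P' * (P * (g : Matrix ι ι F) * P') * P := by simp only [Matrix.mul_assoc]
      _ = _ := by rw [this, Matrix.mul_smul, Matrix.smul_mul, Matrix.mul_one, h2]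
  · rintro ⟨c, hc⟩
    refine ⟨c, ?_⟩
    rw [glCongr_coe, hc, Matrix.mul_smul, Matrix.smul_mul, Matrix.mul_one, h1]

theorem glCongr_mem_quad (Q : (ι → F) → F) (Q' : (κ → F) → F)
    (P : Matrix κ ι F) (P' : Matrix ι κ F) (h1 : P * P' = 1) (h2 : P' * P = 1)
    (hQ : ∀ u, Q' (P *ᵥ u) = Q u) (g : GL ι F) (hg : g ∈ Cfsg.Geo.quadSimilarityGroup Q) :
    glCongr P P' h1 h2 g ∈ Cfsg.Geo.quadSimilarityGroup Q' := by
  obtain ⟨c, hc⟩ := hg
  refine ⟨c, fun w => ?_⟩
  have hw : w = P *ᵥ (P' *ᵥ w) := by rw [Matrix.mulVec_mulVec, h1, Matrix.one_mulVec]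
  rw [glCongr_coe]
  conv_rhs => rw [hw, hQ]
  rw [← Matrix.mulVec_mulVec, ← Matrix.mulVec_mulVec, hQ, hc]

theorem glCongr_symm_mem_quad (Q : (ι → F) → F) (Q' : (κ → F) → F)
    (P : Matrix κ ι F) (P' : Matrix ι κ F) (h1 : P * P' = 1) (h2 : P' * P = 1)
    (hQ : ∀ u, Q' (P *ᵥ u) = Q u) (g : GL κ F) (hg : g ∈ Cfsg.Geo.quadSimilarityGroup Q') :
    (glCongr P P' h1 h2).symm g ∈ Cfsg.Geo.quadSimilarityGroup Q := by
  obtain ⟨c, hc⟩ := hg
  refine ⟨c, fun v => ?_⟩
  rw [glCongr_symm_coe, ← hQ, ← hQ v, Matrix.mulVec_mulVec, ← Matrix.mul_assoc, ← Matrix.mul_assoc, h1,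
    Matrix.one_mul, ← Matrix.mulVec_mulVec, hc]

/-- Transport of the projective similarity group of a quadratic form along an isometry. -/
noncomputable def pgoCongr (Q : (ι → F) → F) (Q' : (κ → F) → F)
    (P : Matrix κ ι F) (P' : Matrix ι κ F) (h1 : P * P' = 1) (h2 : P' * P = 1)
    (hQ : ∀ u, Q' (P *ᵥ u) = Q u) : Cfsg.PGO F Q ≃* Cfsg.PGO F Q' := by
  let e : ↥(Cfsg.Geo.quadSimilarityGroup Q) →* ↥(Cfsg.Geo.quadSimilarityGroup Q') :=
    MonoidHom.codRestrict ((glCongr P P' h1 h2).toMonoidHom.comp (Cfsg.Geo.quadSimilarityGroup Q).subtype)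
      (Cfsg.Geo.quadSimilarityGroup Q') (fun x => glCongr_mem_quad Q Q' P P' h1 h2 hQ x.1 x.2)
  let f : ↥(Cfsg.Geo.quadSimilarityGroup Q) →* Cfsg.PGO F Q' := (QuotientGroup.mk' _).comp e
  have hsurj : Function.Surjective f := by
    intro y
    induction y using QuotientGroup.induction_on with
    | H y =>
      refine ⟨⟨(glCongr P P' h1 h2).symm y.1, glCongr_symm_mem_quad Q Q' P P' h1 h2 hQ y.1 y.2⟩, ?_⟩
      show QuotientGroup.mk (e _) = QuotientGroup.mk y
      congr 1
      apply Subtype.ext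
      exact (glCongr P P' h1 h2).apply_symm_apply y.1
  have hker : (Cfsg.Geo.scalars ι F).subgroupOf (Cfsg.Geo.quadSimilarityGroup Q) = f.ker := by
    ext x
    rw [Subgroup.mem_subgroupOf, MonoidHom.mem_ker]
    show _ ↔ QuotientGroup.mk (e x) = 1
    rw [QuotientGroup.eq_one_iff, Subgroup.mem_subgroupOf]
    exact (glCongr_mem_scalars_iff P P' h1 h2 x.1).symm
  exact (QuotientGroup.quotientMulEquivOfEq hker).trans (QuotientGroup.quotientKerEquivOfSurjective f hsurj)

end transport

end Cfsg.Agent.Lib.Helper14_PGOTransport
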