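import Mathlib
import Cfsg.Agent.Lib.Helper14_PGOTransport
import Cfsg.Agent.Lib.Helper14_POmegaSimple
import Cfsg.Agent.Lib.Helper44_StdForms
import Cfsg.Agent.S2623

set_option autoImplicit false
set_option linter.unusedSectionVars false

/-!
The quadratic form `v ↦ vᵀ M v` of a symmetric matrix over a finite field of odd order is isometric to a
standard form with the same discriminant class; in even dimension `2m` it is of plus type iff
`(-1)^m det M` is a square (helper14).
-/

namespace Cfsg.Agent.Lib.Helper14_SymForms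

open Matrix Cfsg.Agent.Lib.Helper14_PSLCent Cfsg.Agent.Lib.Helper14_PGOTransport
  Cfsg.Agent.Lib.Helper44_StdForms

variable {F : Type*} [Field F]

section qf

variable {ι : Type} [Fintype ι] [DecidableEq ι]

/-- The quadratic form `v ↦ vᵀ M v`. -/
noncomputable def qfOf (M : Matrix ι ι F) : QuadraticForm F (ι → F) := M.toQuadraticForm'

theorem qfOf_apply (M : Matrix ι ι F) (v : ι → F) : qfOf M v = bilOf M v v := by
  unfold qfOf Matrix.toQuadraticForm' bilOf
  rw [LinearMap.BilinMap.toQuadraticMap_apply, Matrix.toLinearMap₂'_apply']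

theorem polar_qfOf {M : Matrix ι ι F} (hM : Mᵀ = M) (u v : ι → F) :
    QuadraticMap.polar (⇑(qfOf M)) u v = 2 * bilOf M u v := by
  unfold QuadraticMap.polar
  rw [qfOf_apply, qfOf_apply, qfOf_apply, bilOf_add_left, bilOf_add_right, bilOf_add_right,
    bilOf_symm hM v u]
  ring

theorem gram_qfOf {M : Matrix ι ι F} (hM : Mᵀ = M) :
    Matrix.of (fun i j : ι => QuadraticMap.polar (⇑(qfOf M)) (Pi.single i 1) (Pi.single j 1))
      = (2 : F) • M := by
  ext i j
  rw [Matrix.of_apply, polar_qfOf hM, bilOf_single, Matrix.smul_apply, smul_eq_mul]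

theorem det_gram_qfOf {M : Matrix ι ι F} (hM : Mᵀ = M) :
    (Matrix.of (fun i j : ι => QuadraticMap.polar (⇑(qfOf M)) (Pi.single i 1) (Pi.single j 1))).det
      = (2 : F) ^ Fintype.card ι * M.det := by
  rw [gram_qfOf hM, Matrix.det_smul]

end qf

section reindex

variable {κ : Type} [Fintype κ] [DecidableEq κ] {n : ℕ}

/-- A quadratic form on `κ → F` read on `Fin n → F` through an index equivalence. -/
noncomputable def reQF (e : κ ≃ Fin n) (Q' : QuadraticForm F (κ → F)) : QuadraticForm F (Fin n → F) :=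
  Q'.comp (LinearMap.funLeft F F e)

theorem reQF_apply (e : κ ≃ Fin n) (Q' : QuadraticForm F (κ → F)) (v : Fin n → F) :
    reQF e Q' v = Q' (v ∘ e) := rfl

theorem single_comp_equiv (e : κ ≃ Fin n) (i : Fin n) :
    (Pi.single i (1 : F) : Fin n → F) ∘ e = Pi.single (e.symm i) 1 := by
  funext k
  simp only [Function.comp_apply, Pi.single_apply]
  by_cases h : e k = i
  · rw [if_pos h, if_pos (by rw [← h, Equiv.symm_apply_apply])]
  · rw [if_neg h, if_neg (by intro hk; apply h; rw [hk, Equiv.apply_symm_apply])]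

theorem polar_reQF (e : κ ≃ Fin n) (Q' : QuadraticForm F (κ → F)) (u v : Fin n → F) :
    QuadraticMap.polar (⇑(reQF e Q')) u v = QuadraticMap.polar (⇑Q') (u ∘ e) (v ∘ e) := by
  unfold QuadraticMap.polar
  rw [reQF_apply, reQF_apply, reQF_apply]
  rfl

theorem gram_reQF (e : κ ≃ Fin n) (Q' : QuadraticForm F (κ → F)) :
    Matrix.of (fun i j : Fin n => QuadraticMap.polar (⇑(reQF e Q')) (Pi.single i 1) (Pi.single j 1))
      = (Matrix.of (fun i j : κ => QuadraticMap.polar (⇑Q') (Pi.single i 1) (Pi.single j 1))).submatrix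
          e.symm e.symm := by
  ext i j
  rw [Matrix.of_apply, polar_reQF, single_comp_equiv, single_comp_equiv]
  rfl

theorem det_gram_reQF (e : κ ≃ Fin n) (Q' : QuadraticForm F (κ → F)) :
    (Matrix.of (fun i j : Fin n => QuadraticMap.polar (⇑(reQF e Q')) (Pi.single i 1) (Pi.single j 1))).det
      = (Matrix.of (fun i j : κ => QuadraticMap.polar (⇑Q') (Pi.single i 1) (Pi.single j 1))).det := by
  rw [gram_reQF, Matrix.det_submatrix_equiv_self]

/-- **Isometry with a standard form of the same discriminant class.** -/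
theorem exists_iso [Fintype F] (h2 : (2 : F) ≠ 0) (e : κ ≃ Fin n) {M : Matrix (Fin n) (Fin n) F}
    (hM : Mᵀ = M) (hdet : M.det ≠ 0) (Q' : QuadraticForm F (κ → F))
    (hQ' : (Matrix.of (fun i j : κ => QuadraticMap.polar (⇑Q') (Pi.single i 1) (Pi.single j 1))).det ≠ 0)
    (hsq : IsSquare ((2 : F) ^ n * M.det *
      (Matrix.of (fun i j : κ => QuadraticMap.polar (⇑Q') (Pi.single i 1) (Pi.single j 1))).det)) :
    ∃ (P : Matrix κ (Fin n) F) (P' : Matrix (Fin n) κ F), P * P' = 1 ∧ P' * P = 1 ∧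
      ∀ u, Q' (P *ᵥ u) = bilOf M u u := by
  have h₁ : (QuadraticMap.polarBilin (qfOf M)).Nondegenerate := by
    apply Cfsg.Agent.Lib.Helper14_POmegaSimple.nondeg_of_gram_det
    rw [det_gram_qfOf hM]
    exact mul_ne_zero (pow_ne_zero _ h2) hdet
  have h₂ : (QuadraticMap.polarBilin (reQF e Q')).Nondegenerate := by
    apply Cfsg.Agent.Lib.Helper14_POmegaSimple.nondeg_of_gram_det
    rw [det_gram_reQF]
    exact hQ'
  have key := (Cfsg.Agent.S2623.result h2 (qfOf M) (reQF e Q') h₁ h₂).mpr (by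
    rw [det_gram_qfOf hM, det_gram_reQF, Fintype.card_fin]; exact hsq)
  obtain ⟨g, hg⟩ := key
  set L : (Fin n → F) ≃ₗ[F] (κ → F) := g.trans (LinearEquiv.funCongrLeft F F e) with hL
  refine ⟨LinearMap.toMatrix' (L : (Fin n → F) →ₗ[F] (κ → F)),
    LinearMap.toMatrix' (L.symm : (κ → F) →ₗ[F] (Fin n → F)), ?_, ?_, ?_⟩
  · rw [← LinearMap.toMatrix'_comp]
    have : (L : (Fin n → F) →ₗ[F] (κ → F)).comp (L.symm : (κ → F) →ₗ[F] (Fin n → F)) = LinearMap.id := by
      ext x : 1
      simp
    rw [this, LinearMap.toMatrix'_id]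
  · rw [← LinearMap.toMatrix'_comp]
    have : (L.symm : (κ → F) →ₗ[F] (Fin n → F)).comp (L : (Fin n → F) →ₗ[F] (κ → F)) = LinearMap.id := by
      ext x : 1
      simp
    rw [this, LinearMap.toMatrix'_id]
  · intro u
    rw [LinearMap.toMatrix'_mulVec, ← qfOf_apply, ← hg u, reQF_apply]
    rfl

end reindex

end Cfsg.Agent.Lib.Helper14_SymForms
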