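import Mathlib
import Cfsg.Agent.Lib.Helper14_SymForms
import Cfsg.Agent.Lib.Helper99_SpBridge

set_option autoImplicit false
set_option linter.unusedSectionVars false

/-!
Congruence classes of symmetric and alternating invertible matrices over a finite field of odd order,
standard form of alternating matrices, and transport of projective similarity groups of bilinear forms
(helper14).
-/

namespace Cfsg.Agent.Lib.Helper14_Congruence

open Matrix Cfsg.Agent.Lib.Helper14_PSLCent Cfsg.Agent.Lib.Helper14_PGOTransport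
  Cfsg.Agent.Lib.Helper14_SymForms

variable {F : Type*} [Field F]

section transport

variable {ι κ : Type} [Fintype ι] [DecidableEq ι] [Fintype κ] [DecidableEq κ]

theorem glCongr_mem_sim (f : (ι → F) → (ι → F) → F) (f' : (κ → F) → (κ → F) → F)
    (P : Matrix κ ι F) (P' : Matrix ι κ F) (h1 : P * P' = 1) (h2 : P' * P = 1)
    (hf : ∀ u v, f' (P *ᵥ u) (P *ᵥ v) = f u v) (g : GL ι F) (hg : g ∈ Cfsg.Geo.similarityGroup f) :
    glCongr P P' h1 h2 g ∈ Cfsg.Geo.similarityGroup f' := by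
  obtain ⟨c, hc⟩ := hg
  refine ⟨c, fun w w' => ?_⟩
  have hw : ∀ w : κ → F, w = P *ᵥ (P' *ᵥ w) := fun w => by
    rw [Matrix.mulVec_mulVec, h1, Matrix.one_mulVec]
  rw [glCongr_coe]
  conv_rhs => rw [hw w, hw w', hf]
  rw [← Matrix.mulVec_mulVec, ← Matrix.mulVec_mulVec, ← Matrix.mulVec_mulVec, ← Matrix.mulVec_mulVec,
    hf, hc]

theorem glCongr_symm_mem_sim (f : (ι → F) → (ι → F) → F) (f' : (κ → F) → (κ → F) → F)
    (P : Matrix κ ι F) (P' : Matrix ι κ F) (h1 : P * P' = 1) (h2 : P' * P = 1)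
    (hf : ∀ u v, f' (P *ᵥ u) (P *ᵥ v) = f u v) (g : GL κ F) (hg : g ∈ Cfsg.Geo.similarityGroup f') :
    (glCongr P P' h1 h2).symm g ∈ Cfsg.Geo.similarityGroup f := by
  obtain ⟨c, hc⟩ := hg
  refine ⟨c, fun u v => ?_⟩
  have e : ∀ u : ι → F, P *ᵥ ((P' * (g : Matrix κ κ F) * P) *ᵥ u) = (g : Matrix κ κ F) *ᵥ (P *ᵥ u) := by
    intro u
    rw [Matrix.mulVec_mulVec, ← Matrix.mul_assoc, ← Matrix.mul_assoc, h1, Matrix.one_mul,
      ← Matrix.mulVec_mulVec]
  rw [glCongr_symm_coe, ← hf, e, e, hc, hf]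

/-- Transport of the projective similarity group of a bilinear form along an isometry. -/
noncomputable def pgsCongr (f : (ι → F) → (ι → F) → F) (f' : (κ → F) → (κ → F) → F)
    (P : Matrix κ ι F) (P' : Matrix ι κ F) (h1 : P * P' = 1) (h2 : P' * P = 1)
    (hf : ∀ u v, f' (P *ᵥ u) (P *ᵥ v) = f u v) :
    Cfsg.projQuot (Cfsg.Geo.similarityGroup f) ≃* Cfsg.projQuot (Cfsg.Geo.similarityGroup f') := by
  let e : ↥(Cfsg.Geo.similarityGroup f) →* ↥(Cfsg.Geo.similarityGroup f') :=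
    MonoidHom.codRestrict ((glCongr P P' h1 h2).toMonoidHom.comp (Cfsg.Geo.similarityGroup f).subtype)
      (Cfsg.Geo.similarityGroup f') (fun x => glCongr_mem_sim f f' P P' h1 h2 hf x.1 x.2)
  let φ : ↥(Cfsg.Geo.similarityGroup f) →* Cfsg.projQuot (Cfsg.Geo.similarityGroup f') :=
    (QuotientGroup.mk' _).comp e
  have hsurj : Function.Surjective φ := by
    intro y
    induction y using QuotientGroup.induction_on with
    | H y =>
      refine ⟨⟨(glCongr P P' h1 h2).symm y.1, glCongr_symm_mem_sim f f' P P' h1 h2 hf y.1 y.2⟩, ?_⟩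
      show QuotientGroup.mk (e _) = QuotientGroup.mk y
      congr 1
      apply Subtype.ext
      exact (glCongr P P' h1 h2).apply_symm_apply y.1
  have hker : (Cfsg.Geo.scalars ι F).subgroupOf (Cfsg.Geo.similarityGroup f) = φ.ker := by
    ext x
    rw [Subgroup.mem_subgroupOf, MonoidHom.mem_ker]
    show _ ↔ QuotientGroup.mk (e x) = 1
    rw [QuotientGroup.eq_one_iff, Subgroup.mem_subgroupOf]
    exact (glCongr_mem_scalars_iff P P' h1 h2 x.1).symm
  exact (QuotientGroup.quotientMulEquivOfEq hker).trans (QuotientGroup.quotientKerEquivOfSurjective φ hsurj)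

end transport

variable {n : ℕ}

local notation "Mn" => Matrix (Fin n) (Fin n) F

/-- The `GL` element of a linear automorphism of `Fin n → F`. -/
noncomputable def glOfEquiv (L : (Fin n → F) ≃ₗ[F] (Fin n → F)) : GL (Fin n) F :=
  ⟨LinearMap.toMatrix' (L : (Fin n → F) →ₗ[F] (Fin n → F)),
    LinearMap.toMatrix' (L.symm : (Fin n → F) →ₗ[F] (Fin n → F)), by
      rw [← LinearMap.toMatrix'_comp]
      have : (L : (Fin n → F) →ₗ[F] (Fin n → F)).comp (L.symm : (Fin n → F) →ₗ[F] (Fin n → F))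
          = LinearMap.id := by ext x : 1; simp
      rw [this, LinearMap.toMatrix'_id], by
      rw [← LinearMap.toMatrix'_comp]
      have : (L.symm : (Fin n → F) →ₗ[F] (Fin n → F)).comp (L : (Fin n → F) →ₗ[F] (Fin n → F))
          = LinearMap.id := by ext x : 1; simp
      rw [this, LinearMap.toMatrix'_id]⟩

theorem glOfEquiv_mulVec (L : (Fin n → F) ≃ₗ[F] (Fin n → F)) (v : Fin n → F) :
    ((glOfEquiv L : GL (Fin n) F) : Mn) *ᵥ v = L v := by
  show LinearMap.toMatrix' (L : (Fin n → F) →ₗ[F] (Fin n → F)) *ᵥ v = L v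
  rw [LinearMap.toMatrix'_mulVec]; rfl

/-- Two symmetric invertible matrices over a finite field of odd order whose determinants agree up to a
square are congruent. -/
theorem exists_congr_sym [Fintype F] (h2 : (2 : F) ≠ 0) {M M' : Mn} (hM : Mᵀ = M) (hM' : M'ᵀ = M')
    (hd : M.det ≠ 0) (hd' : M'.det ≠ 0) (hsq : IsSquare (M.det * M'.det)) :
    ∃ k : GL (Fin n) F, (k : Mn)ᵀ * M * (k : Mn) = M' := by
  have h₁ : (QuadraticMap.polarBilin (qfOf M')).Nondegenerate := by
    apply Cfsg.Agent.Lib.Helper14_POmegaSimple.nondeg_of_gram_det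
    rw [det_gram_qfOf hM']
    exact mul_ne_zero (pow_ne_zero _ h2) hd'
  have h₂ : (QuadraticMap.polarBilin (qfOf M)).Nondegenerate := by
    apply Cfsg.Agent.Lib.Helper14_POmegaSimple.nondeg_of_gram_det
    rw [det_gram_qfOf hM]
    exact mul_ne_zero (pow_ne_zero _ h2) hd
  obtain ⟨L, hL⟩ := (Cfsg.Agent.S2623.result h2 (qfOf M') (qfOf M) h₁ h₂).mpr (by
    rw [det_gram_qfOf hM, det_gram_qfOf hM']
    obtain ⟨r, hr⟩ := hsq
    refine ⟨(2 : F) ^ Fintype.card (Fin n) * r, ?_⟩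
    rw [mul_comm M.det] at hr
    linear_combination ((2 : F) ^ Fintype.card (Fin n)) ^ 2 * hr)
  refine ⟨glOfEquiv L, ?_⟩
  set k : Mn := ((glOfEquiv L : GL (Fin n) F) : Mn) with hk
  have hsym : (kᵀ * M * k - M')ᵀ = kᵀ * M * k - M' := by
    rw [Matrix.transpose_sub, Matrix.transpose_mul, Matrix.transpose_mul, Matrix.transpose_transpose,
      hM, hM', Matrix.mul_assoc]
  have := eq_zero_of_diag h2 hsym (fun v => by
    rw [bilOf_sub, ← bilOf_mulVec, hk, glOfEquiv_mulVec, ← qfOf_apply, ← qfOf_apply, hL, sub_self])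
  exact sub_eq_zero.mp this

/-- An invertible alternating matrix of size `2m` is congruent to the standard symplectic matrix `J`. -/
theorem exists_std_alt {m : ℕ} (hnm : n = 2 * m) {N : Mn} (hN : ∀ v, bilOf N v v = 0)
    (hd : N.det ≠ 0) :
    ∃ (P : Matrix (Fin m ⊕ Fin m) (Fin n) F) (P' : Matrix (Fin n) (Fin m ⊕ Fin m) F),
      P * P' = 1 ∧ P' * P = 1 ∧ ∀ u v, Cfsg.sympForm m F (P *ᵥ u) (P *ᵥ v) = bilOf N u v := by
  set B : LinearMap.BilinForm F (Fin n → F) := Matrix.toBilin' N with hB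
  have hBapp : ∀ u v, B u v = bilOf N u v := fun u v => by
    rw [hB, Matrix.toBilin'_apply']; rfl
  have hA : B.IsAlt := fun v => by rw [hBapp]; exact hN v
  have hnd : B.Nondegenerate := by
    apply LinearMap.BilinForm.nondegenerate_of_det_ne_zero B (Pi.basisFun F (Fin n))
    convert hd using 2
    ext i j
    rw [LinearMap.BilinForm.toMatrix_apply, Pi.basisFun_apply, Pi.basisFun_apply, hBapp, bilOf_single]
  have hdim : Module.finrank F (Fin n → F) = 2 * m := by rw [Module.finrank_fin_fun, hnm]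
  obtain ⟨e, he⟩ := Cfsg.Agent.Lib.Helper99_SpBridge.exists_isometry_standard B hA hnd m hdim
  refine ⟨LinearMap.toMatrix' (e : (Fin n → F) →ₗ[F] (Fin m ⊕ Fin m → F)),
    LinearMap.toMatrix' (e.symm : (Fin m ⊕ Fin m → F) →ₗ[F] (Fin n → F)), ?_, ?_, ?_⟩
  · rw [← LinearMap.toMatrix'_comp]
    have : (e : (Fin n → F) →ₗ[F] (Fin m ⊕ Fin m → F)).comp
        (e.symm : (Fin m ⊕ Fin m → F) →ₗ[F] (Fin n → F)) = LinearMap.id := by ext x : 1; simp
    rw [this, LinearMap.toMatrix'_id]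
  · rw [← LinearMap.toMatrix'_comp]
    have : (e.symm : (Fin m ⊕ Fin m → F) →ₗ[F] (Fin n → F)).comp
        (e : (Fin n → F) →ₗ[F] (Fin m ⊕ Fin m → F)) = LinearMap.id := by ext x : 1; simp
    rw [this, LinearMap.toMatrix'_id]
  · intro u v
    rw [LinearMap.toMatrix'_mulVec, LinearMap.toMatrix'_mulVec, ← hBapp, ← he,
      Cfsg.Agent.Lib.Helper94_Bridge.Bsymp_apply]
    rfl

/-- Any two invertible alternating matrices of even size are congruent. -/
theorem exists_congr_alt {m : ℕ} (hnm : n = 2 * m) {M M' : Mn} (hM : ∀ v, bilOf M v v = 0)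
    (hM' : ∀ v, bilOf M' v v = 0) (hd : M.det ≠ 0) (hd' : M'.det ≠ 0) :
    ∃ k : GL (Fin n) F, (k : Mn)ᵀ * M * (k : Mn) = M' := by
  obtain ⟨P, P', h1, h2, hP⟩ := exists_std_alt hnm hM hd
  obtain ⟨R, R', h3, h4, hR⟩ := exists_std_alt hnm hM' hd'
  refine ⟨⟨P' * R, R' * P, ?_, ?_⟩, ?_⟩
  · calc P' * R * (R' * P) = P' * (R * R') * P := by simp only [Matrix.mul_assoc]
      _ = 1 := by rw [h3, Matrix.mul_one, h2]
  · calc R' * P * (P' * R) = R' * (P * P') * R := by simp only [Matrix.mul_assoc]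
      _ = 1 := by rw [h1, Matrix.mul_one, h4]
  · apply bilOf_ext
    intro u v
    show bilOf ((P' * R)ᵀ * M * (P' * R)) u v = bilOf M' u v
    rw [← bilOf_mulVec, ← hP, ← hR, Matrix.mulVec_mulVec, Matrix.mulVec_mulVec, ← Matrix.mul_assoc, h1,
      Matrix.one_mul]

end Cfsg.Agent.Lib.Helper14_Congruence
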