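import Mathlib
import Cfsg.Agent.Lib.Helper14_PSLGraph
import Cfsg.Agent.Lib.Helper14_Congruence
import Cfsg.Agent.Lib.Helper44_FinSq

set_option autoImplicit false
set_option linter.unusedSectionVars false

/-!
Classification of the involutory graph automorphisms of `PSL_n(F)`, `n = 2m`, `|F|` odd, under
`Inndiag`: the form matrix is alternating, or symmetric of plus or minus type (helper14).
-/

namespace Cfsg.Agent.Lib.Helper14_PSLGraphOdd

open Matrix Cfsg.Agent.Lib.Helper14_PSLAut Cfsg.Agent.Lib.Helper14_PSLCent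
  Cfsg.Agent.Lib.Helper14_PGOTransport Cfsg.Agent.Lib.Helper14_SymForms
  Cfsg.Agent.Lib.Helper14_Congruence Cfsg.Agent.Lib.Helper14_PSLGraph

variable {F : Type*} [Field F] {n : ℕ}

local notation "Mn" => Matrix (Fin n) (Fin n) F

theorem bilOf_transpose {ι : Type} [Fintype ι] [DecidableEq ι] (N : Matrix ι ι F) (u v : ι → F) :
    bilOf Nᵀ u v = bilOf N v u := by
  unfold bilOf
  rw [Matrix.mulVec_transpose, dotProduct_comm, ← Matrix.dotProduct_mulVec]

theorem alt_of_skew {ι : Type} [Fintype ι] [DecidableEq ι] (h2 : (2 : F) ≠ 0) {N : Matrix ι ι F}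
    (hN : Nᵀ = -N) (v : ι → F) : bilOf N v v = 0 := by
  have h1 : bilOf Nᵀ v v = bilOf N v v := bilOf_transpose N v v
  rw [hN] at h1
  have h3 : bilOf (-N) v v = -bilOf N v v := by
    have := bilOf_smul (-1 : F) N v v
    rw [neg_smul, one_smul, neg_mul, one_mul] at this
    exact this
  rw [h3] at h1
  have h4 : (2 : F) * bilOf N v v = 0 := by linear_combination -h1
  rcases mul_eq_zero.mp h4 with h | h
  · exact absurd h h2
  · exact h

/-- An alternating matrix is not congruent to a non-zero multiple of a non-zero symmetric one. -/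
theorem not_congr_alt_sym (h2 : (2 : F) ≠ 0) {A S : Mn} (hA : ∀ v, bilOf A v v = 0) (hS : Sᵀ = S)
    (hS0 : S ≠ 0) (k : Mn) {c : F} (hc : c ≠ 0) : kᵀ * A * k ≠ c • S := by
  intro h
  apply hS0
  apply eq_zero_of_diag h2 hS
  intro v
  have h1 : bilOf (c • S) v v = 0 := by rw [← h, ← bilOf_mulVec]; exact hA _
  rw [bilOf_smul] at h1
  rcases mul_eq_zero.mp h1 with h | h
  · exact absurd h hc
  · exact h

/-- Congruent-up-to-scalar symmetric matrices of even size have the same discriminant class. -/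
theorem isSquare_of_congr {m : ℕ} (hnm : n = 2 * m) (k : GL (Fin n) F) (c : Fˣ) {S S' : Mn}
    (h : (k : Mn)ᵀ * S * (k : Mn) = (c : F) • S') : IsSquare (S.det * S'.det) := by
  have hdet := congrArg Matrix.det h
  rw [Matrix.det_mul, Matrix.det_mul, Matrix.det_transpose, Matrix.det_smul, Fintype.card_fin] at hdet
  have hk : (k : Mn).det ≠ 0 := by
    have : IsUnit (k : Mn).det := (Matrix.isUnit_iff_isUnit_det _).mp k.isUnit
    exact this.ne_zero
  refine ⟨(c : F) ^ m * S'.det / (k : Mn).det, ?_⟩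
  have hcn : (c : F) ^ n = ((c : F) ^ m) ^ 2 := by rw [hnm, pow_mul, pow_right_comm]
  rw [hcn] at hdet
  field_simp
  linear_combination S'.det * hdet

section reps

variable (hn : 0 < n)

/-- Diagonal matrix with `d` in the first position and ones elsewhere. -/
def dmat (d : F) : Mn := Matrix.diagonal (fun i : Fin n => if i = ⟨0, hn⟩ then d else 1)

theorem det_dmat (d : F) : (dmat hn d).det = d := by
  unfold dmat
  rw [Matrix.det_diagonal, Finset.prod_ite_eq' Finset.univ (⟨0, hn⟩ : Fin n) (fun _ => d)]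
  simp

theorem dmat_transpose (d : F) : (dmat hn d)ᵀ = dmat hn d := Matrix.diagonal_transpose _

/-- `dmat d` as an element of `GL`. -/
def dGL (d : F) (hd : d ≠ 0) : GL (Fin n) F :=
  Matrix.GeneralLinearGroup.mkOfDetNeZero (dmat hn d) (by rw [det_dmat]; exact hd)

theorem dGL_coe (d : F) (hd : d ≠ 0) : ((dGL hn d hd : GL (Fin n) F) : Mn) = dmat hn d := rfl

end reps

section alt

variable {m : ℕ} (e : Fin n ≃ Fin m ⊕ Fin m)

/-- The standard alternating matrix on `Fin n`. -/
def jmat : Mn := (Matrix.J (Fin m) F).submatrix e e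

theorem jmat_transpose : (jmat (F := F) e)ᵀ = -jmat e := by
  unfold jmat
  rw [Matrix.transpose_submatrix, Matrix.J_transpose]
  rfl

theorem det_jmat_ne_zero : (jmat (F := F) e).det ≠ 0 := by
  unfold jmat
  rw [Matrix.det_submatrix_equiv_self]
  exact (Matrix.isUnit_det_J (Fin m) F).ne_zero

/-- `jmat` as an element of `GL`. -/
def jGL : GL (Fin n) F := Matrix.GeneralLinearGroup.mkOfDetNeZero (jmat e) (det_jmat_ne_zero e)

theorem jGL_coe : ((jGL (F := F) e : GL (Fin n) F) : Mn) = jmat e := rfl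

end alt

end Cfsg.Agent.Lib.Helper14_PSLGraphOdd
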