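import Mathlib
import Cfsg.Agent.Lib.Helper14_PSLGraphOdd
import Cfsg.Agent.S0752

set_option autoImplicit false
set_option linter.unusedSectionVars false

/-!
Symmetric bilinear forms over a finite field of characteristic two: `B(x,x) = ℓ(x)²` for a linear
functional `ℓ`, the vector `j` with `ℓ = B(·, j)`, the alternating form `B + ℓ ⊗ ℓ`; in odd dimension every
non-degenerate symmetric form is congruent to `[1] ⊕ J` (helper14).
-/

namespace Cfsg.Agent.Lib.Helper14_SymChar2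

open Matrix Cfsg.Agent.Lib.Helper14_PSLCent Cfsg.Agent.Lib.Helper14_PGOTransport
  Cfsg.Agent.Lib.Helper14_PSLGraphOdd

variable {F : Type*} [Field F] [Fintype F] [CharP F 2]

section basic

theorem exists_sqrt (a : F) : ∃ r : F, r * r = a := by
  obtain ⟨r, hr⟩ := FiniteField.isSquare_of_char_two (ringChar.eq F 2) a
  exact ⟨r, hr.symm⟩

theorem sq_inj {a b : F} (h : a * a = b * b) : a = b := by
  have h1 : (a + b) * (a + b) = 0 := by
    have : (a + b) * (a + b) = a * a + b * b + (a * b + a * b) := by ring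
    rw [this, CharTwo.add_self_eq_zero, add_zero, h, CharTwo.add_self_eq_zero]
  have h2 : a + b = 0 := mul_self_eq_zero.mp h1
  calc a = a + (b + b) := by rw [CharTwo.add_self_eq_zero, add_zero]
    _ = (a + b) + b := by ring
    _ = b := by rw [h2, zero_add]

end basic

section forms

variable {ι : Type} [Fintype ι] [DecidableEq ι]

theorem bilOf_smul_left (M : Matrix ι ι F) (a : F) (u v : ι → F) :
    bilOf M (a • u) v = a * bilOf M u v := by
  unfold bilOf; rw [smul_dotProduct, smul_eq_mul]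

theorem bilOf_smul_right (M : Matrix ι ι F) (a : F) (u v : ι → F) :
    bilOf M u (a • v) = a * bilOf M u v := by
  unfold bilOf; rw [Matrix.mulVec_smul, dotProduct_smul, smul_eq_mul]

theorem bilOf_zero_left (M : Matrix ι ι F) (v : ι → F) : bilOf M 0 v = 0 := by
  unfold bilOf; rw [zero_dotProduct]

theorem bilOf_add_mat (M N : Matrix ι ι F) (u v : ι → F) :
    bilOf (M + N) u v = bilOf M u v + bilOf N u v := by
  unfold bilOf; rw [Matrix.add_mulVec, dotProduct_add]

theorem bilOf_vecMulVec (a b u v : ι → F) :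
    bilOf (Matrix.vecMulVec a b) u v = (a ⬝ᵥ u) * (b ⬝ᵥ v) := by
  unfold bilOf
  rw [Matrix.vecMulVec_mulVec, dotProduct_smul, dotProduct_comm u a]
  simp [mul_comm]

/-- Square roots of the diagonal entries. -/
noncomputable def dvec (M : Matrix ι ι F) : ι → F := fun i => Classical.choose (exists_sqrt (M i i))

theorem dvec_sq (M : Matrix ι ι F) (i : ι) : dvec M i * dvec M i = M i i :=
  Classical.choose_spec (exists_sqrt (M i i))

/-- `x ↦ B(x,x)` is additive in characteristic two. -/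
theorem bilOf_self_add {M : Matrix ι ι F} (hM : Mᵀ = M) (x y : ι → F) :
    bilOf M (x + y) (x + y) = bilOf M x x + bilOf M y y := by
  rw [bilOf_add_left, bilOf_add_right, bilOf_add_right, bilOf_symm hM y x]
  have : bilOf M x x + bilOf M x y + (bilOf M x y + bilOf M y y)
      = bilOf M x x + bilOf M y y + (bilOf M x y + bilOf M x y) := by ring
  rw [this, CharTwo.add_self_eq_zero, add_zero]

/-- `B(x,x) = ℓ(x)²` with `ℓ = dvec ⬝ᵥ ·`. -/
theorem bilOf_self {M : Matrix ι ι F} (hM : Mᵀ = M) (x : ι → F) :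
    bilOf M x x = (dvec M ⬝ᵥ x) ^ 2 := by
  let q : (ι → F) →+ F := AddMonoidHom.mk' (fun x => bilOf M x x) (bilOf_self_add hM)
  have hq : ∀ x, q x = bilOf M x x := fun x => rfl
  have hx : x = ∑ i, Pi.single i (x i) := (Finset.univ_sum_single x).symm
  have h1 : q x = ∑ i, q (Pi.single i (x i)) := by
    conv_lhs => rw [hx]
    rw [map_sum]
  rw [← hq, h1]
  unfold dotProduct
  rw [sum_pow_char 2]
  apply Finset.sum_congr rfl
  intro i _
  rw [hq]
  have : (Pi.single i (x i) : ι → F) = x i • Pi.single i 1 := by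
    rw [← Pi.single_smul, smul_eq_mul, mul_one]
  rw [this, bilOf_smul_left, bilOf_smul_right, bilOf_single, ← dvec_sq M i]
  ring

/-- The vector `j` representing `ℓ`. -/
noncomputable def jvec (M : Matrix ι ι F) : ι → F := M⁻¹ *ᵥ dvec M

theorem bilOf_jvec {M : Matrix ι ι F} (hd : M.det ≠ 0) (x : ι → F) :
    bilOf M x (jvec M) = dvec M ⬝ᵥ x := by
  unfold bilOf jvec
  rw [Matrix.mulVec_mulVec, Matrix.mul_nonsing_inv M (Ne.isUnit hd), Matrix.one_mulVec, dotProduct_comm]

theorem bilOf_jvec_left {M : Matrix ι ι F} (hM : Mᵀ = M) (hd : M.det ≠ 0) (x : ι → F) :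
    bilOf M (jvec M) x = dvec M ⬝ᵥ x := by
  rw [bilOf_symm hM, bilOf_jvec hd]

/-- Non-degeneracy: a vector pairing to zero with everything vanishes. -/
theorem eq_zero_of_bilOf {M : Matrix ι ι F} (hd : M.det ≠ 0) {x : ι → F}
    (h : ∀ y, bilOf M x y = 0) : x = 0 := by
  have h1 : x ᵥ* M = 0 := by
    funext k
    have := h (Pi.single k 1)
    unfold bilOf at this
    rw [Matrix.dotProduct_mulVec, dotProduct_single_one] at this
    exact this
  exact Matrix.eq_zero_of_vecMul_eq_zero hd h1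

/-- The alternating matrix `M + d dᵀ`. -/
noncomputable def nmat (M : Matrix ι ι F) : Matrix ι ι F := M + Matrix.vecMulVec (dvec M) (dvec M)

theorem bilOf_nmat (M : Matrix ι ι F) (u v : ι → F) :
    bilOf (nmat M) u v = bilOf M u v + (dvec M ⬝ᵥ u) * (dvec M ⬝ᵥ v) := by
  unfold nmat
  rw [bilOf_add_mat, bilOf_vecMulVec]

theorem nmat_alt {M : Matrix ι ι F} (hM : Mᵀ = M) (v : ι → F) : bilOf (nmat M) v v = 0 := by
  rw [bilOf_nmat, bilOf_self hM, pow_two, CharTwo.add_self_eq_zero]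

end forms


section odd

variable {n : ℕ}

local notation "Mn" => Matrix (Fin n) (Fin n) F

/-- The standard symmetric matrix `[1] ⊕ J` of odd size. -/
def m0 (m : ℕ) : Matrix (Unit ⊕ (Fin m ⊕ Fin m)) (Unit ⊕ (Fin m ⊕ Fin m)) F :=
  Matrix.fromBlocks 1 0 0 (Matrix.J (Fin m) F)

/-- From a family with Gram matrix `G` (invertible) of the right cardinality we get a rectangular
isometry. -/
theorem exists_rect_of_gram {κ : Type} [Fintype κ] [DecidableEq κ] (hcard : Fintype.card κ = n)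
    (M : Mn) (G : Matrix κ κ F) (hG : G.det ≠ 0) (c : κ → (Fin n → F))
    (hc : ∀ k l, bilOf M (c k) (c l) = G k l) :
    ∃ (P : Matrix κ (Fin n) F) (P' : Matrix (Fin n) κ F), P * P' = 1 ∧ P' * P = 1 ∧
      ∀ u v, bilOf G (P *ᵥ u) (P *ᵥ v) = bilOf M u v := by
  set P' : Matrix (Fin n) κ F := Matrix.of (fun i k => c k i) with hP'
  have hcol : ∀ l, P' *ᵥ Pi.single l 1 = c l := by
    intro l
    rw [Matrix.mulVec_single_one]
    funext i
    rfl
  have hrect : ∀ (R : Matrix (Fin n) κ F) (x y : κ → F),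
      bilOf M (R *ᵥ x) (R *ᵥ y) = bilOf (Rᵀ * M * R) x y := by
    intro R x y
    unfold bilOf
    rw [← Matrix.mulVec_mulVec, ← Matrix.mulVec_mulVec, Matrix.dotProduct_mulVec x Rᵀ,
      Matrix.vecMul_transpose]
  have hgram : P'ᵀ * M * P' = G := by
    ext k l
    rw [← bilOf_single (P'ᵀ * M * P') k l, ← hrect, hcol, hcol, hc]
  set P : Matrix κ (Fin n) F := G⁻¹ * P'ᵀ * M with hP
  have h1 : P * P' = 1 := by
    rw [hP, Matrix.mul_assoc, Matrix.mul_assoc, ← Matrix.mul_assoc P'ᵀ, hgram,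
      Matrix.nonsing_inv_mul G (Ne.isUnit hG)]
  have h2 : P' * P = 1 :=
    (Matrix.mul_eq_one_comm_of_equiv (Fintype.equivFinOfCardEq hcard)).mp h1
  refine ⟨P, P', h1, h2, fun u v => ?_⟩
  have e1 : ∀ u : Fin n → F, u = P' *ᵥ (P *ᵥ u) := fun u => by
    rw [Matrix.mulVec_mulVec, h2, Matrix.one_mulVec]
  conv_rhs => rw [e1 u, e1 v, hrect, hgram]

theorem det_m0_ne_zero (m : ℕ) : (m0 (F := F) m).det ≠ 0 := by
  unfold m0
  rw [Matrix.det_fromBlocks_zero₂₁, Matrix.det_one, one_mul]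
  exact (Matrix.isUnit_det_J (Fin m) F).ne_zero

theorem bilOf_sub_left {ι : Type} [Fintype ι] [DecidableEq ι] (M : Matrix ι ι F) (u u' v : ι → F) :
    bilOf M (u - u') v = bilOf M u v - bilOf M u' v := by
  unfold bilOf; rw [sub_dotProduct]

/-- **Odd dimension, characteristic two**: a non-degenerate symmetric bilinear form is congruent to
`[1] ⊕ J`. -/
theorem exists_std_odd {m : ℕ} (hnm : n = 2 * m + 1) {M : Mn} (hM : Mᵀ = M) (hd : M.det ≠ 0) :
    ∃ (P : Matrix (Unit ⊕ (Fin m ⊕ Fin m)) (Fin n) F) (P' : Matrix (Fin n) (Unit ⊕ (Fin m ⊕ Fin m)) F),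
      P * P' = 1 ∧ P' * P = 1 ∧ ∀ u v, bilOf (m0 m) (P *ᵥ u) (P *ᵥ v) = bilOf M u v := by
  classical
  set d := dvec M with hdd
  set j := jvec M with hj
  have hℓsmul : ∀ (a : F) (x : Fin n → F), d ⬝ᵥ (a • x) = a * (d ⬝ᵥ x) := fun a x => by
    rw [dotProduct_smul, smul_eq_mul]
  have hℓadd : ∀ x y : Fin n → F, d ⬝ᵥ (x + y) = d ⬝ᵥ x + d ⬝ᵥ y := fun x y => dotProduct_add _ _ _
  set NB : LinearMap.BilinForm F (Fin n → F) := Matrix.toBilin' (nmat M) with hNBdef
  have hNB : ∀ u v, NB u v = bilOf (nmat M) u v := fun u v => by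
    rw [hNBdef, Matrix.toBilin'_apply']; rfl
  have hA : NB.IsAlt := fun v => by rw [hNB]; exact nmat_alt hM v
  obtain ⟨m', k, b, h1, h2, h3, h4⟩ := Cfsg.Agent.S0752.result NB hA
  have hMj : ∀ x, bilOf M x j = d ⬝ᵥ x := fun x => bilOf_jvec hd x
  have hjM : ∀ x, bilOf M j x = d ⬝ᵥ x := fun x => bilOf_jvec_left hM hd x
  -- radical vectors are multiples of j
  have hrad : ∀ t : Fin k, b (Sum.inr t) = (d ⬝ᵥ b (Sum.inr t)) • j := by
    intro t
    have : b (Sum.inr t) - (d ⬝ᵥ b (Sum.inr t)) • j = 0 := by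
      apply eq_zero_of_bilOf hd
      intro y
      have h5 := h4 t y
      rw [hNB, bilOf_nmat] at h5
      rw [bilOf_sub_left, bilOf_smul_left, hjM, CharTwo.sub_eq_add]
      exact h5
    exact sub_eq_zero.mp this
  have hrne : ∀ t : Fin k, d ⬝ᵥ b (Sum.inr t) ≠ 0 := by
    intro t h0
    have := hrad t
    rw [h0, zero_smul] at this
    exact b.ne_zero _ this
  have hk1 : k ≤ 1 := by
    by_contra hk
    have hk2 : 2 ≤ k := by omega
    set t0 : Fin k := ⟨0, by omega⟩ with ht0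
    set t1 : Fin k := ⟨1, by omega⟩ with ht1
    have hne : (Sum.inr t1 : (Fin m' ⊕ Fin m') ⊕ Fin k) ≠ Sum.inr t0 := by
      intro h
      have := Sum.inr_injective h
      rw [ht0, ht1, Fin.mk.injEq] at this
      exact one_ne_zero this
    have e0 := hrad t0
    have e1 := hrad t1
    have hne0 := hrne t0
    have hne1 := hrne t1
    generalize d ⬝ᵥ b (Sum.inr t0) = a0 at e0 hne0
    generalize d ⬝ᵥ b (Sum.inr t1) = a1 at e1 hne1
    have hj' : j = a1⁻¹ • b (Sum.inr t1) := by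
      rw [e1, smul_smul, inv_mul_cancel₀ hne1, one_smul]
    rw [hj', smul_smul] at e0
    have := congrArg (fun x => b.repr x (Sum.inr t0)) e0
    simp only [Module.Basis.repr_self, map_smul, Finsupp.smul_apply, Finsupp.single_apply, if_true,
      if_neg hne, smul_eq_mul, mul_zero] at this
    exact one_ne_zero this
  have hcard : n = 2 * m' + k := by
    have := Module.finrank_eq_card_basis b
    rw [Module.finrank_fin_fun] at this
    rw [this]
    simp only [Fintype.card_sum, Fintype.card_fin]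
    ring
  have hk : k = 1 := by omega
  have hm' : m' = m := by omega
  subst hk
  subst hm'
  set r := b (Sum.inr 0) with hr
  have hℓj : d ⬝ᵥ j = 1 := by
    have e0 := hrad 0
    have := congrArg (fun x => d ⬝ᵥ x) e0
    simp only [hℓsmul] at this
    have hne := hrne 0
    field_simp at this
    exact this.symm
  have hjj : bilOf M j j = 1 := by rw [hMj, hℓj]
  have hπ : ∀ u v : Fin n → F, bilOf M (u + (d ⬝ᵥ u) • j) (v + (d ⬝ᵥ v) • j) = bilOf (nmat M) u v := by
    intro u v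
    rw [bilOf_nmat, bilOf_add_left, bilOf_add_right, bilOf_add_right, bilOf_smul_left, bilOf_smul_left,
      bilOf_smul_right, bilOf_smul_right, hMj, hjM, hjj]
    have : bilOf M u v + (d ⬝ᵥ v) * (d ⬝ᵥ u) + ((d ⬝ᵥ u) * (d ⬝ᵥ v) + (d ⬝ᵥ u) * ((d ⬝ᵥ v) * 1))
        = bilOf M u v + (d ⬝ᵥ u) * (d ⬝ᵥ v) + ((d ⬝ᵥ u) * (d ⬝ᵥ v) + (d ⬝ᵥ u) * (d ⬝ᵥ v)) := by ring
    rw [this, CharTwo.add_self_eq_zero, add_zero]
  have hjπ : ∀ v : Fin n → F, bilOf M j (v + (d ⬝ᵥ v) • j) = 0 := by
    intro v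
    rw [bilOf_add_right, bilOf_smul_right, hjM, hjj, mul_one, CharTwo.add_self_eq_zero]
  have hπj : ∀ v : Fin n → F, bilOf M (v + (d ⬝ᵥ v) • j) j = 0 := by
    intro v; rw [bilOf_symm hM]; exact hjπ v
  set c : Unit ⊕ (Fin m' ⊕ Fin m') → (Fin n → F) :=
    Sum.elim (fun _ => j) (Sum.elim
      (fun i => b (Sum.inl (Sum.inl i)) + (d ⬝ᵥ b (Sum.inl (Sum.inl i))) • j)
      (fun i => b (Sum.inl (Sum.inr i)) + (d ⬝ᵥ b (Sum.inl (Sum.inr i))) • j)) with hc
  have hgram : ∀ x y, bilOf M (c x) (c y) = m0 m' x y := by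
    intro x y
    rcases x with x | x | x <;> rcases y with y | y | y
    · simp only [hc, Sum.elim_inl, m0, Matrix.fromBlocks_apply₁₁, Matrix.one_apply_eq, hjj]
    · simp only [hc, Sum.elim_inl, Sum.elim_inr, m0, Matrix.fromBlocks_apply₁₂, Matrix.zero_apply, hjπ]
    · simp only [hc, Sum.elim_inl, Sum.elim_inr, m0, Matrix.fromBlocks_apply₁₂, Matrix.zero_apply, hjπ]
    · simp only [hc, Sum.elim_inl, Sum.elim_inr, m0, Matrix.fromBlocks_apply₂₁, Matrix.zero_apply, hπj]
    · simp only [hc, Sum.elim_inl, Sum.elim_inr, m0, Matrix.fromBlocks_apply₂₂, hπ]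
      rw [← hNB, h2]
      simp [Matrix.J]
    · simp only [hc, Sum.elim_inl, Sum.elim_inr, m0, Matrix.fromBlocks_apply₂₂, hπ]
      rw [← hNB, h1]
      simp only [Matrix.J, Matrix.fromBlocks_apply₁₂, Matrix.neg_apply, Matrix.one_apply]
      rw [CharTwo.neg_eq]
    · simp only [hc, Sum.elim_inl, Sum.elim_inr, m0, Matrix.fromBlocks_apply₂₁, Matrix.zero_apply, hπj]
    · simp only [hc, Sum.elim_inl, Sum.elim_inr, m0, Matrix.fromBlocks_apply₂₂, hπ]
      rw [← hNB, ← hA.neg_eq, h1]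
      simp only [Matrix.J, Matrix.fromBlocks_apply₂₁, Matrix.one_apply]
      rw [CharTwo.neg_eq]
      by_cases hxy : x = y
      · rw [if_pos hxy, if_pos hxy.symm]
      · rw [if_neg hxy, if_neg (Ne.symm hxy)]
    · simp only [hc, Sum.elim_inl, Sum.elim_inr, m0, Matrix.fromBlocks_apply₂₂, hπ]
      rw [← hNB, h3]
      simp [Matrix.J]
  have hcardκ : Fintype.card (Unit ⊕ (Fin m' ⊕ Fin m')) = n := by
    simp only [Fintype.card_sum, Fintype.card_fin, Fintype.card_unit]
    omega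
  exact exists_rect_of_gram hcardκ M (m0 m') (det_m0_ne_zero m') c hgram

/-- Any two non-degenerate symmetric matrices of odd size are congruent (characteristic two). -/
theorem exists_congr_odd {m : ℕ} (hnm : n = 2 * m + 1) {M M' : Mn} (hM : Mᵀ = M) (hM' : M'ᵀ = M')
    (hd : M.det ≠ 0) (hd' : M'.det ≠ 0) :
    ∃ k : GL (Fin n) F, (k : Mn)ᵀ * M * (k : Mn) = M' := by
  obtain ⟨P, P', h1, h2, hP⟩ := exists_std_odd hnm hM hd
  obtain ⟨R, R', h3, h4, hR⟩ := exists_std_odd hnm hM' hd'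
  refine ⟨⟨P' * R, R' * P, ?_, ?_⟩, ?_⟩
  · calc P' * R * (R' * P) = P' * (R * R') * P := by simp only [Matrix.mul_assoc]
      _ = 1 := by rw [h3, Matrix.mul_one, h2]
  · calc R' * P * (P' * R) = R' * (P * P') * R := by simp only [Matrix.mul_assoc]
      _ = 1 := by rw [h1, Matrix.mul_one, h4]
  · apply bilOf_ext
    intro u v
    show bilOf ((P' * R)ᵀ * M * (P' * R)) u v = bilOf M' u v
    rw [← bilOf_mulVec, ← hP, ← hR, Matrix.mulVec_mulVec, Matrix.mulVec_mulVec, ← Matrix.mul_assoc, h1,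
      Matrix.one_mul]

end odd

end Cfsg.Agent.Lib.Helper14_SymChar2
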