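import Mathlib
import Cfsg.Agent.Lib.Helper14_SymChar2
import Cfsg.Agent.Lib.Helper44_Orth
import Cfsg.Agent.Lib.Helper94_Bridge

set_option autoImplicit false
set_option linter.unusedSectionVars false

/-!
Characteristic two: projective similarity groups are isomorphic to isometry groups (every scalar is a
square); the isometry group of `[1] ⊕ J` is the symplectic group (helper14).
-/

namespace Cfsg.Agent.Lib.Helper14_Char2Groups

open Matrix Cfsg.Agent.Lib.Helper14_PSLCent Cfsg.Agent.Lib.Helper14_PGOTransport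
  Cfsg.Agent.Lib.Helper14_SymChar2

variable {F : Type*} [Field F]

section generic

variable {ι : Type} [Fintype ι] [DecidableEq ι]

/-- If every element of `S` is a scalar times an element of `O ≤ S`, and `O` contains no non-trivial
scalar, then `O` is isomorphic to `S` modulo scalars. -/
theorem nonempty_equiv_projQuot (S O : Subgroup (GL ι F)) (hOS : O ≤ S)
    (hdec : ∀ g ∈ S, ∃ z ∈ Cfsg.Geo.scalars ι F, ∃ o ∈ O, g = z * o)
    (hO : ∀ o ∈ O, o ∈ Cfsg.Geo.scalars ι F → o = 1) : Nonempty (↥O ≃* Cfsg.projQuot S) := by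
  let ψ : ↥O →* Cfsg.projQuot S := (QuotientGroup.mk' _).comp (Subgroup.inclusion hOS)
  have hinj : Function.Injective ψ := by
    rw [injective_iff_map_eq_one]
    intro o ho
    have h1 : (QuotientGroup.mk (Subgroup.inclusion hOS o) : Cfsg.projQuot S) = 1 := ho
    rw [QuotientGroup.eq_one_iff, Subgroup.mem_subgroupOf] at h1
    apply Subtype.ext
    exact hO o.1 o.2 h1
  have hsurj : Function.Surjective ψ := by
    intro y
    induction y using QuotientGroup.induction_on with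
    | H g =>
      obtain ⟨z, hz, o, ho, hg⟩ := hdec g.1 g.2
      refine ⟨⟨o, ho⟩, ?_⟩
      show (QuotientGroup.mk (Subgroup.inclusion hOS ⟨o, ho⟩) : Cfsg.projQuot S) = QuotientGroup.mk g
      rw [QuotientGroup.eq, Subgroup.mem_subgroupOf]
      show o⁻¹ * (g : GL ι F) ∈ Cfsg.Geo.scalars ι F
      rw [hg]
      have := (Cfsg.Geo.scalars_normal (ι := ι) (F := F)).conj_mem z hz o⁻¹
      rw [inv_inv] at this
      rw [← mul_assoc]; exact this
  exact ⟨MulEquiv.ofBijective ψ ⟨hinj, hsurj⟩⟩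

/-- The scalar matrix `a • 1` as an element of `GL`. -/
def scalarGL (a : Fˣ) : GL ι F :=
  ⟨(a : F) • (1 : Matrix ι ι F), ((a⁻¹ : Fˣ) : F) • (1 : Matrix ι ι F), by
    rw [Matrix.smul_mul, Matrix.mul_smul, Matrix.mul_one, smul_smul, ← Units.val_mul, mul_inv_cancel,
      Units.val_one, one_smul], by
    rw [Matrix.smul_mul, Matrix.mul_smul, Matrix.mul_one, smul_smul, ← Units.val_mul, inv_mul_cancel,
      Units.val_one, one_smul]⟩

theorem scalarGL_coe (a : Fˣ) : ((scalarGL a : GL ι F) : Matrix ι ι F) = (a : F) • 1 := rfl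

theorem scalarGL_mem (a : Fˣ) : (scalarGL a : GL ι F) ∈ Cfsg.Geo.scalars ι F :=
  (Cfsg.Geo.mem_scalars_iff _).mpr ⟨a, rfl⟩

/-- The isometry group of the bilinear form with Gram matrix `M`. -/
def isoBil (M : Matrix ι ι F) : Subgroup (GL ι F) where
  carrier := {g | (g : Matrix ι ι F)ᵀ * M * (g : Matrix ι ι F) = M}
  mul_mem' {a b} ha hb := by
    show ((a * b : GL ι F) : Matrix ι ι F)ᵀ * M * ((a * b : GL ι F) : Matrix ι ι F) = M
    rw [Units.val_mul, Matrix.transpose_mul]
    calc (b : Matrix ι ι F)ᵀ * (a : Matrix ι ι F)ᵀ * M * ((a : Matrix ι ι F) * (b : Matrix ι ι F))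
        = (b : Matrix ι ι F)ᵀ * ((a : Matrix ι ι F)ᵀ * M * (a : Matrix ι ι F)) * (b : Matrix ι ι F) := by
          simp only [Matrix.mul_assoc]
      _ = M := by rw [ha, hb]
  one_mem' := by
    show ((1 : GL ι F) : Matrix ι ι F)ᵀ * M * ((1 : GL ι F) : Matrix ι ι F) = M
    simp
  inv_mem' {a} ha := by
    show ((a⁻¹ : GL ι F) : Matrix ι ι F)ᵀ * M * ((a⁻¹ : GL ι F) : Matrix ι ι F) = M
    have hai : (a : Matrix ι ι F) * ((a⁻¹ : GL ι F) : Matrix ι ι F) = 1 := by
      rw [← Units.val_mul, mul_inv_cancel, Units.val_one]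
    have ha' : (a : Matrix ι ι F)ᵀ * M * (a : Matrix ι ι F) = M := ha
    conv_lhs => rw [← ha']
    calc ((a⁻¹ : GL ι F) : Matrix ι ι F)ᵀ * ((a : Matrix ι ι F)ᵀ * M * (a : Matrix ι ι F)) *
          ((a⁻¹ : GL ι F) : Matrix ι ι F)
        = ((a : Matrix ι ι F) * ((a⁻¹ : GL ι F) : Matrix ι ι F))ᵀ * M *
          ((a : Matrix ι ι F) * ((a⁻¹ : GL ι F) : Matrix ι ι F)) := by
          rw [Matrix.transpose_mul]; simp only [Matrix.mul_assoc]
      _ = M := by rw [hai, Matrix.transpose_one, Matrix.one_mul, Matrix.mul_one]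

theorem mem_isoBil (M : Matrix ι ι F) (g : GL ι F) :
    g ∈ isoBil M ↔ (g : Matrix ι ι F)ᵀ * M * (g : Matrix ι ι F) = M := Iff.rfl

variable [Fintype F] [CharP F 2]

/-- In characteristic two over a finite field, the projective similarity group of a non-zero bilinear form
is isomorphic to its isometry group. -/
theorem nonempty_isoBil_equiv {M : Matrix ι ι F} (hM0 : M ≠ 0) :
    Nonempty (↥(isoBil M) ≃* Cfsg.projQuot (Cfsg.Geo.similarityGroup (bilOf M))) := by
  apply nonempty_equiv_projQuot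
  · intro g hg
    rw [mem_similarityGroup_bilOf]
    exact ⟨1, by rw [Units.val_one, one_smul]; exact hg⟩
  · intro g hg
    rw [mem_similarityGroup_bilOf] at hg
    obtain ⟨c, hc⟩ := hg
    obtain ⟨r, hr⟩ := exists_sqrt (c : F)
    have hr0 : r ≠ 0 := by
      rintro rfl
      rw [mul_zero] at hr
      exact c.ne_zero hr.symm
    refine ⟨scalarGL (Units.mk0 r hr0), scalarGL_mem _, (scalarGL (Units.mk0 r hr0))⁻¹ * g, ?_, ?_⟩
    · rw [mem_isoBil]
      have e1 : (((scalarGL (Units.mk0 r hr0))⁻¹ * g : GL ι F) : Matrix ι ι F)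
          = r⁻¹ • (g : Matrix ι ι F) := by
        rw [Units.val_mul]
        show ((((Units.mk0 r hr0)⁻¹ : Fˣ) : F) • (1 : Matrix ι ι F)) * (g : Matrix ι ι F) = _
        rw [Matrix.smul_mul, Matrix.one_mul]
        simp
      rw [e1, Matrix.transpose_smul, Matrix.smul_mul, Matrix.smul_mul, Matrix.mul_smul, hc, smul_smul,
        smul_smul, ← hr]
      have : r⁻¹ * r⁻¹ * (r * r) = 1 := by field_simp
      rw [this, one_smul]
    · rw [mul_inv_cancel_left]
  · intro o ho hsc
    rw [Cfsg.Geo.mem_scalars_iff] at hsc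
    obtain ⟨a, ha⟩ := hsc
    rw [mem_isoBil, ha, Matrix.transpose_smul, Matrix.transpose_one, Matrix.smul_mul, Matrix.smul_mul,
      Matrix.mul_smul, Matrix.one_mul, Matrix.mul_one, smul_smul] at ho
    have h1 : ((a : F) * (a : F) - 1) • M = 0 := by rw [sub_smul, one_smul, ho, sub_self]
    have h2 : (a : F) * (a : F) - 1 = 0 := by
      rcases smul_eq_zero.mp h1 with h | h
      · exact h
      · exact absurd h hM0
    have h3 : (a : F) = 1 := sq_inj (by rw [one_mul]; linear_combination h2)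
    apply Units.ext
    rw [ha, h3, one_smul, Units.val_one]

/-- In characteristic two over a finite field, the projective similarity group of a non-zero homogeneous
quadratic function is isomorphic to its isometry group. -/
theorem nonempty_isometryGroup_equiv (Q : (ι → F) → F) (hQ : ∀ (a : F) (v : ι → F), Q (a • v) = a * a * Q v)
    (hne : ∃ v, Q v ≠ 0) :
    Nonempty (↥(Cfsg.isometryGroup F Q) ≃* Cfsg.PGO F Q) := by
  apply nonempty_equiv_projQuot
  · intro g hg
    rw [Cfsg.Agent.Lib.Helper44_Orth.mem_isometryGroup_iff] at hg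
    exact ⟨1, fun v => by rw [Units.val_one, one_mul]; exact hg v⟩
  · intro g hg
    obtain ⟨c, hc⟩ := hg
    obtain ⟨r, hr⟩ := exists_sqrt (c : F)
    have hr0 : r ≠ 0 := by
      rintro rfl
      rw [mul_zero] at hr
      exact c.ne_zero hr.symm
    refine ⟨scalarGL (Units.mk0 r hr0), scalarGL_mem _, (scalarGL (Units.mk0 r hr0))⁻¹ * g, ?_, ?_⟩
    · rw [Cfsg.Agent.Lib.Helper44_Orth.mem_isometryGroup_iff]
      intro u
      have e1 : (((scalarGL (Units.mk0 r hr0))⁻¹ * g : GL ι F) : Matrix ι ι F)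
          = r⁻¹ • (g : Matrix ι ι F) := by
        rw [Units.val_mul]
        show ((((Units.mk0 r hr0)⁻¹ : Fˣ) : F) • (1 : Matrix ι ι F)) * (g : Matrix ι ι F) = _
        rw [Matrix.smul_mul, Matrix.one_mul]
        simp
      rw [e1, Matrix.smul_mulVec, hQ, hc, ← hr]
      field_simp
    · rw [mul_inv_cancel_left]
  · intro o ho hsc
    rw [Cfsg.Geo.mem_scalars_iff] at hsc
    obtain ⟨a, ha⟩ := hsc
    rw [Cfsg.Agent.Lib.Helper44_Orth.mem_isometryGroup_iff] at ho
    obtain ⟨v, hv⟩ := hne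
    have h1 := ho v
    rw [ha, Matrix.smul_mulVec, Matrix.one_mulVec, hQ] at h1
    have h2 : (a : F) * (a : F) = 1 := by
      have : ((a : F) * (a : F) - 1) * Q v = 0 := by rw [sub_mul, one_mul, h1, sub_self]
      rcases mul_eq_zero.mp this with h | h
      · linear_combination h
      · exact absurd h hv
    have h3 : (a : F) = 1 := sq_inj (by rw [one_mul]; exact h2)
    apply Units.ext
    rw [ha, h3, one_smul, Units.val_one]

end generic


section blocks

variable [Fintype F] [CharP F 2] {m : ℕ}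

theorem bilOf_m0 (x y : Unit ⊕ (Fin m ⊕ Fin m) → F) :
    bilOf (m0 m) x y = x (Sum.inl ()) * y (Sum.inl ()) + Cfsg.sympForm m F (x ∘ Sum.inr) (y ∘ Sum.inr) := by
  unfold bilOf m0 Cfsg.sympForm
  rw [Matrix.fromBlocks_mulVec]
  simp [dotProduct, Fintype.sum_sum_type, Matrix.mulVec, Function.comp]

theorem sympForm_self (v : Fin m ⊕ Fin m → F) : Cfsg.sympForm m F v v = 0 := by
  rw [← Cfsg.Agent.Lib.Helper94_Bridge.Bsymp_apply]
  exact Cfsg.Agent.Lib.Helper94_Bridge.Bsymp_isAlt m v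

theorem bilOf_m0_self (x : Unit ⊕ (Fin m ⊕ Fin m) → F) :
    bilOf (m0 m) x x = x (Sum.inl ()) * x (Sum.inl ()) := by
  rw [bilOf_m0, sympForm_self, add_zero]

/-- An isometry of `[1] ⊕ J` is block diagonal `[1] ⊕ D` with `D` symplectic. -/
theorem eq_fromBlocks_of_mem (g : GL (Unit ⊕ (Fin m ⊕ Fin m)) F) (hg : g ∈ isoBil (m0 (F := F) m)) :
    ∃ D : Matrix (Fin m ⊕ Fin m) (Fin m ⊕ Fin m) F, D ∈ Matrix.symplecticGroup (Fin m) F ∧
      (g : Matrix (Unit ⊕ (Fin m ⊕ Fin m)) (Unit ⊕ (Fin m ⊕ Fin m)) F) = Matrix.fromBlocks 1 0 0 D := by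
  rw [mem_isoBil] at hg
  set G : Matrix (Unit ⊕ (Fin m ⊕ Fin m)) (Unit ⊕ (Fin m ⊕ Fin m)) F :=
    (g : Matrix (Unit ⊕ (Fin m ⊕ Fin m)) (Unit ⊕ (Fin m ⊕ Fin m)) F) with hG
  have hpres : ∀ x y, bilOf (m0 m) (G *ᵥ x) (G *ᵥ y) = bilOf (m0 m) x y := by
    intro x y; rw [bilOf_mulVec, hg]
  have hrow : ∀ x, (G *ᵥ x) (Sum.inl ()) = x (Sum.inl ()) := by
    intro x
    have := hpres x x
    rw [bilOf_m0_self, bilOf_m0_self] at this
    exact sq_inj this
  set e₀ : Unit ⊕ (Fin m ⊕ Fin m) → F := Pi.single (Sum.inl ()) 1 with he₀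
  have he₀r : e₀ ∘ Sum.inr = (0 : Fin m ⊕ Fin m → F) := by
    funext k; simp [he₀]
  have hbe₀ : ∀ x, bilOf (m0 m) e₀ x = x (Sum.inl ()) := by
    intro x
    rw [bilOf_m0, he₀r]
    simp [he₀, Cfsg.sympForm]
  have hcol : G *ᵥ e₀ = e₀ := by
    have : G *ᵥ e₀ - e₀ = 0 := by
      apply eq_zero_of_bilOf (det_m0_ne_zero m)
      intro y
      have hy : y = G *ᵥ (((g⁻¹ : GL (Unit ⊕ (Fin m ⊕ Fin m)) F) :
          Matrix (Unit ⊕ (Fin m ⊕ Fin m)) (Unit ⊕ (Fin m ⊕ Fin m)) F) *ᵥ y) := by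
        rw [Matrix.mulVec_mulVec, hG, ← Units.val_mul, mul_inv_cancel, Units.val_one, Matrix.one_mulVec]
      rw [bilOf_sub_left]
      conv_lhs => rw [hy]
      rw [hpres, hbe₀, hbe₀, hrow, sub_self]
    exact sub_eq_zero.mp this
  refine ⟨G.toBlocks₂₂, ?_, ?_⟩
  · rw [SymplecticGroup.mem_iff']
    have hGb : G = Matrix.fromBlocks 1 0 0 G.toBlocks₂₂ := by
      conv_lhs => rw [← Matrix.fromBlocks_toBlocks G]
      congr 1
      · ext a b
        have := congrFun hcol (Sum.inl ())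
        rw [Matrix.mulVec_single_one] at this
        simpa [he₀, Matrix.toBlocks₁₁] using this
      · ext a b
        have := hrow (Pi.single (Sum.inr b) 1)
        rw [Matrix.mulVec_single_one] at this
        simpa [Matrix.toBlocks₁₂] using this
      · ext a b
        have := congrFun hcol (Sum.inr a)
        rw [Matrix.mulVec_single_one] at this
        simpa [he₀, Matrix.toBlocks₂₁] using this
    rw [hGb] at hg
    unfold m0 at hg
    rw [Matrix.fromBlocks_transpose, Matrix.fromBlocks_multiply, Matrix.fromBlocks_multiply] at hg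
    have := (Matrix.fromBlocks_inj.mp hg).2.2.2
    simpa using this
  · conv_lhs => rw [← Matrix.fromBlocks_toBlocks G]
    congr 1
    · ext a b
      have := congrFun hcol (Sum.inl ())
      rw [Matrix.mulVec_single_one] at this
      simpa [he₀, Matrix.toBlocks₁₁] using this
    · ext a b
      have := hrow (Pi.single (Sum.inr b) 1)
      rw [Matrix.mulVec_single_one] at this
      simpa [Matrix.toBlocks₁₂] using this
    · ext a b
      have := congrFun hcol (Sum.inr a)
      rw [Matrix.mulVec_single_one] at this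
      simpa [he₀, Matrix.toBlocks₂₁] using this

/-- Block-diagonal embedding of the symplectic group. -/
noncomputable def embSp (A : ↥(Matrix.symplecticGroup (Fin m) F)) : GL (Unit ⊕ (Fin m ⊕ Fin m)) F :=
  Matrix.GeneralLinearGroup.mkOfDetNeZero (Matrix.fromBlocks 1 0 0 (A : Matrix (Fin m ⊕ Fin m) (Fin m ⊕ Fin m) F))
    (by
      rw [Matrix.det_fromBlocks_zero₂₁, Matrix.det_one, one_mul]
      exact (SymplecticGroup.symplectic_det A.2).ne_zero)

theorem embSp_coe (A : ↥(Matrix.symplecticGroup (Fin m) F)) :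
    ((embSp A : GL (Unit ⊕ (Fin m ⊕ Fin m)) F) : Matrix (Unit ⊕ (Fin m ⊕ Fin m)) (Unit ⊕ (Fin m ⊕ Fin m)) F)
      = Matrix.fromBlocks 1 0 0 (A : Matrix (Fin m ⊕ Fin m) (Fin m ⊕ Fin m) F) := rfl

theorem embSp_mem (A : ↥(Matrix.symplecticGroup (Fin m) F)) : embSp A ∈ isoBil (m0 (F := F) m) := by
  rw [mem_isoBil, embSp_coe]
  unfold m0
  rw [Matrix.fromBlocks_transpose, Matrix.fromBlocks_multiply, Matrix.fromBlocks_multiply]
  have := SymplecticGroup.mem_iff'.mp A.2
  simp [this]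

/-- The symplectic group is isomorphic to the isometry group of `[1] ⊕ J` (characteristic two). -/
theorem nonempty_sp_equiv_isoBil :
    Nonempty (↥(Matrix.symplecticGroup (Fin m) F) ≃* ↥(isoBil (m0 (F := F) m))) := by
  let ψ : ↥(Matrix.symplecticGroup (Fin m) F) →* ↥(isoBil (m0 (F := F) m)) :=
    { toFun := fun A => ⟨embSp A, embSp_mem A⟩
      map_one' := by
        apply Subtype.ext
        apply Units.ext
        show Matrix.fromBlocks 1 0 0 ((1 : ↥(Matrix.symplecticGroup (Fin m) F)) :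
          Matrix (Fin m ⊕ Fin m) (Fin m ⊕ Fin m) F) = 1
        simp [Matrix.fromBlocks_one]
      map_mul' := by
        intro A B
        apply Subtype.ext
        apply Units.ext
        show Matrix.fromBlocks 1 0 0 ((A * B : ↥(Matrix.symplecticGroup (Fin m) F)) :
          Matrix (Fin m ⊕ Fin m) (Fin m ⊕ Fin m) F) =
          Matrix.fromBlocks 1 0 0 (A : Matrix (Fin m ⊕ Fin m) (Fin m ⊕ Fin m) F) *
          Matrix.fromBlocks 1 0 0 (B : Matrix (Fin m ⊕ Fin m) (Fin m ⊕ Fin m) F)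
        rw [Matrix.fromBlocks_multiply]
        simp }
  have hinj : Function.Injective ψ := by
    intro A B h
    have h1 := congrArg (fun x : ↥(isoBil (m0 (F := F) m)) =>
      ((x : GL (Unit ⊕ (Fin m ⊕ Fin m)) F) : Matrix (Unit ⊕ (Fin m ⊕ Fin m)) (Unit ⊕ (Fin m ⊕ Fin m)) F)) h
    have h2 : Matrix.fromBlocks (1 : Matrix Unit Unit F) 0 0 (A : Matrix (Fin m ⊕ Fin m) (Fin m ⊕ Fin m) F)
        = Matrix.fromBlocks 1 0 0 (B : Matrix (Fin m ⊕ Fin m) (Fin m ⊕ Fin m) F) := h1
    exact Subtype.ext (Matrix.fromBlocks_inj.mp h2).2.2.2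
  have hsurj : Function.Surjective ψ := by
    intro g
    obtain ⟨D, hD, hgD⟩ := eq_fromBlocks_of_mem g.1 g.2
    refine ⟨⟨D, hD⟩, ?_⟩
    apply Subtype.ext
    apply Units.ext
    exact hgD.symm
  exact ⟨MulEquiv.ofBijective ψ ⟨hinj, hsurj⟩⟩

end blocks

end Cfsg.Agent.Lib.Helper14_Char2Groups
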