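import Mathlib
import Cfsg.Agent.Lib.Helper14_SymChar2
import Cfsg.Agent.Lib.Helper14_Congruence
import Cfsg.Agent.Lib.Helper13_SympTrans

set_option autoImplicit false
set_option linter.unusedSectionVars false

/-!
Symmetric non-alternating bilinear forms of even dimension over a finite field of characteristic two:
`B = ω + ℓ ⊗ ℓ` with `ω` symplectic and `ℓ = ω(·, j)`; all such forms are congruent (helper14).
-/

namespace Cfsg.Agent.Lib.Helper14_SymChar2Even

open Matrix Cfsg.Agent.Lib.Helper14_PSLCent Cfsg.Agent.Lib.Helper14_PGOTransport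
  Cfsg.Agent.Lib.Helper14_SymChar2 Cfsg.Agent.Lib.Helper14_Congruence

variable {F : Type*} [Field F] [Fintype F] [CharP F 2] {n : ℕ}

local notation "Mn" => Matrix (Fin n) (Fin n) F

theorem nmat_transpose {M : Mn} (hM : Mᵀ = M) : (nmat M)ᵀ = nmat M := by
  unfold nmat
  rw [Matrix.transpose_add, hM]
  congr 1
  ext i j
  simp [Matrix.vecMulVec_apply, mul_comm]

/-- **Even dimension**: for a non-alternating non-degenerate symmetric form, `ℓ(j) = 0` and the
alternating form `B + ℓ ⊗ ℓ` is non-degenerate. -/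
theorem even_struct {m : ℕ} (hnm : n = 2 * m) {M : Mn} (hM : Mᵀ = M) (hd : M.det ≠ 0)
    (hne : dvec M ≠ 0) : dvec M ⬝ᵥ jvec M = 0 ∧ (nmat M).det ≠ 0 := by
  classical
  set d := dvec M with hdd
  set j := jvec M with hj
  have hℓsmul : ∀ (a : F) (x : Fin n → F), d ⬝ᵥ (a • x) = a * (d ⬝ᵥ x) := fun a x => by
    rw [dotProduct_smul, smul_eq_mul]
  set NB : LinearMap.BilinForm F (Fin n → F) := Matrix.toBilin' (nmat M) with hNBdef
  have hNB : ∀ u v, NB u v = bilOf (nmat M) u v := fun u v => by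
    rw [hNBdef, Matrix.toBilin'_apply']; rfl
  have hA : NB.IsAlt := fun v => by rw [hNB]; exact nmat_alt hM v
  obtain ⟨m', k, b, h1, h2, h3, h4⟩ := Cfsg.Agent.S0752.result NB hA
  have hMj : ∀ x, bilOf M x j = d ⬝ᵥ x := fun x => bilOf_jvec hd x
  have hjM : ∀ x, bilOf M j x = d ⬝ᵥ x := fun x => bilOf_jvec_left hM hd x
  have hrad : ∀ t : Fin k, b (Sum.inr t) = (d ⬝ᵥ b (Sum.inr t)) • j := by
    intro t
    have : b (Sum.inr t) - (d ⬝ᵥ b (Sum.inr t)) • j = 0 := by
      apply eq_zero_of_bilOf hd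
      intro y
      have h5 := h4 t y
      rw [hNB, bilOf_nmat] at h5
      rw [bilOf_sub_left, bilOf_smul_left, hjM, CharTwo.sub_eq_add]
      exact h5
    exact sub_eq_zero.mp this
  have hrne : ∀ t : Fin k, d ⬝ᵥ b (Sum.inr t) ≠ 0 := by
    intro t h0
    have := hrad t
    rw [h0, zero_smul] at this
    exact b.ne_zero _ this
  have hk1 : k ≤ 1 := by
    by_contra hk
    have hk2 : 2 ≤ k := by omega
    set t0 : Fin k := ⟨0, by omega⟩ with ht0
    set t1 : Fin k := ⟨1, by omega⟩ with ht1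
    have hne' : (Sum.inr t1 : (Fin m' ⊕ Fin m') ⊕ Fin k) ≠ Sum.inr t0 := by
      intro h
      have := Sum.inr_injective h
      rw [ht0, ht1, Fin.mk.injEq] at this
      exact one_ne_zero this
    have e0 := hrad t0
    have e1 := hrad t1
    have hne0 := hrne t0
    have hne1 := hrne t1
    generalize d ⬝ᵥ b (Sum.inr t0) = a0 at e0 hne0
    generalize d ⬝ᵥ b (Sum.inr t1) = a1 at e1 hne1
    have hj' : j = a1⁻¹ • b (Sum.inr t1) := by
      rw [e1, smul_smul, inv_mul_cancel₀ hne1, one_smul]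
    rw [hj', smul_smul] at e0
    have := congrArg (fun x => b.repr x (Sum.inr t0)) e0
    simp only [Module.Basis.repr_self, map_smul, Finsupp.smul_apply, Finsupp.single_apply, if_true,
      if_neg hne', smul_eq_mul, mul_zero] at this
    exact one_ne_zero this
  have hcard : n = 2 * m' + k := by
    have := Module.finrank_eq_card_basis b
    rw [Module.finrank_fin_fun] at this
    rw [this]
    simp only [Fintype.card_sum, Fintype.card_fin]
    ring
  have hk : k = 0 := by omega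
  subst hk
  -- non-degeneracy of NB
  have hnd : ∀ x, (∀ y, NB x y = 0) → x = 0 := by
    intro x hx
    have hxs : x = ∑ z, b.repr x z • b z := (b.sum_repr x).symm
    have hNBx : ∀ y, NB x y = ∑ z, b.repr x z * NB (b z) y := by
      intro y
      conv_lhs => rw [hxs]
      simp only [map_sum, LinearMap.sum_apply, map_smul, LinearMap.smul_apply, smul_eq_mul]
    have hz : ∀ z, b.repr x z = 0 := by
      intro z
      rcases z with (i | i) | t
      · have := hx (b (Sum.inl (Sum.inr i)))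
        rw [hNBx, Fintype.sum_sum_type, Fintype.sum_sum_type] at this
        simp only [h1, h3, mul_ite, mul_one, mul_zero, Finset.sum_ite_eq', Finset.mem_univ, if_true,
          Finset.sum_const_zero, add_zero, Finset.univ_eq_empty, Finset.sum_empty] at this
        exact this
      · have := hx (b (Sum.inl (Sum.inl i)))
        rw [hNBx, Fintype.sum_sum_type, Fintype.sum_sum_type] at this
        have hfe : ∀ i' : Fin m', NB (b (Sum.inl (Sum.inr i'))) (b (Sum.inl (Sum.inl i)))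
            = if i = i' then 1 else 0 := by
          intro i'
          rw [← hA.neg_eq, h1, CharTwo.neg_eq]
        simp only [h2, hfe, mul_ite, mul_one, mul_zero, Finset.sum_ite_eq, Finset.mem_univ, if_true,
          Finset.sum_const_zero, zero_add, Finset.univ_eq_empty, Finset.sum_empty, add_zero] at this
        exact this
      · exact t.elim0
    have : b.repr x = 0 := Finsupp.ext hz
    exact (LinearEquiv.map_eq_zero_iff b.repr).mp this
  have hjne : j ≠ 0 := by
    intro h0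
    apply hne
    funext i
    have := hMj (Pi.single i 1)
    rw [h0] at this
    unfold bilOf at this
    rw [Matrix.mulVec_zero, dotProduct_zero] at this
    rw [← dotProduct_single_one d i, ← this]
    rfl
  have hℓj : d ⬝ᵥ j = 0 := by
    by_contra hne1
    have hsq : (d ⬝ᵥ j) * (d ⬝ᵥ j) = d ⬝ᵥ j := by
      have := bilOf_self hM j
      rw [hMj, pow_two] at this
      exact this.symm
    have h1' : d ⬝ᵥ j = 1 := by
      have : (d ⬝ᵥ j) * (d ⬝ᵥ j - 1) = 0 := by rw [mul_sub, hsq, mul_one, sub_self]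
      rcases mul_eq_zero.mp this with h | h
      · exact absurd h hne1
      · exact sub_eq_zero.mp h
    apply hjne
    apply hnd
    intro y
    rw [hNB, bilOf_nmat, hjM, h1', one_mul, CharTwo.add_self_eq_zero]
  refine ⟨hℓj, ?_⟩
  intro hdet0
  obtain ⟨x, hx0, hx⟩ := Matrix.exists_vecMul_eq_zero_iff.mpr hdet0
  apply hx0
  apply hnd
  intro y
  rw [hNB]
  unfold bilOf
  rw [Matrix.dotProduct_mulVec, hx, zero_dotProduct]


section std

variable {m : ℕ}

/-- The standard non-alternating symmetric form `ω + ω(·,a₀) ⊗ ω(·,a₀)`. -/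
def f3 (a₀ : Fin m ⊕ Fin m → F) (x y : Fin m ⊕ Fin m → F) : F :=
  Cfsg.sympForm m F x y + Cfsg.sympForm m F x a₀ * Cfsg.sympForm m F y a₀

/-- Every non-alternating non-degenerate symmetric form of even dimension is isometric to `f3 a₀`. -/
theorem exists_std_even (hnm : n = 2 * m) {M : Mn} (hM : Mᵀ = M) (hd : M.det ≠ 0)
    (hne : dvec M ≠ 0) (a₀ : Fin m ⊕ Fin m → F) (ha₀ : a₀ ≠ 0) :
    ∃ (P : Matrix (Fin m ⊕ Fin m) (Fin n) F) (P' : Matrix (Fin n) (Fin m ⊕ Fin m) F),
      P * P' = 1 ∧ P' * P = 1 ∧ ∀ u v, f3 a₀ (P *ᵥ u) (P *ᵥ v) = bilOf M u v := by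
  obtain ⟨hℓj, hdetN⟩ := even_struct hnm hM hd hne
  obtain ⟨P₀, P₀', h1, h2, hP₀⟩ := exists_std_alt hnm (nmat_alt hM) hdetN
  set j := jvec M with hj
  set d := dvec M with hdd
  have hMj : ∀ x, bilOf M x j = d ⬝ᵥ x := fun x => bilOf_jvec hd x
  have hjne : j ≠ 0 := by
    intro h0
    apply hne
    funext i
    have := hMj (Pi.single i 1)
    rw [h0] at this
    unfold bilOf at this
    rw [Matrix.mulVec_zero, dotProduct_zero] at this
    rw [← dotProduct_single_one d i, ← this]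
    rfl
  have ha : P₀ *ᵥ j ≠ 0 := by
    intro h0
    apply hjne
    have := congrArg (fun x => P₀' *ᵥ x) h0
    simp only [Matrix.mulVec_mulVec, h2, Matrix.one_mulVec, Matrix.mulVec_zero] at this
    exact this
  obtain ⟨A, -, hA⟩ := Cfsg.Agent.Lib.Helper13_SympTrans.exists_transv_map m (P₀ *ᵥ j) a₀ ha ha₀
  have hAi : (A : Matrix (Fin m ⊕ Fin m) (Fin m ⊕ Fin m) F) *
      ((A⁻¹ : ↥(Matrix.symplecticGroup (Fin m) F)) : Matrix (Fin m ⊕ Fin m) (Fin m ⊕ Fin m) F) = 1 := by
    rw [← Submonoid.coe_mul, mul_inv_cancel, Submonoid.coe_one]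
  have hAi' : ((A⁻¹ : ↥(Matrix.symplecticGroup (Fin m) F)) : Matrix (Fin m ⊕ Fin m) (Fin m ⊕ Fin m) F) *
      (A : Matrix (Fin m ⊕ Fin m) (Fin m ⊕ Fin m) F) = 1 := by
    rw [← Submonoid.coe_mul, inv_mul_cancel, Submonoid.coe_one]
  refine ⟨(A : Matrix (Fin m ⊕ Fin m) (Fin m ⊕ Fin m) F) * P₀,
    P₀' * ((A⁻¹ : ↥(Matrix.symplecticGroup (Fin m) F)) : Matrix (Fin m ⊕ Fin m) (Fin m ⊕ Fin m) F),
    ?_, ?_, ?_⟩
  · calc (A : Matrix (Fin m ⊕ Fin m) (Fin m ⊕ Fin m) F) * P₀ * (P₀' *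
          ((A⁻¹ : ↥(Matrix.symplecticGroup (Fin m) F)) : Matrix (Fin m ⊕ Fin m) (Fin m ⊕ Fin m) F))
        = (A : Matrix (Fin m ⊕ Fin m) (Fin m ⊕ Fin m) F) * (P₀ * P₀') *
          ((A⁻¹ : ↥(Matrix.symplecticGroup (Fin m) F)) : Matrix (Fin m ⊕ Fin m) (Fin m ⊕ Fin m) F) := by
          simp only [Matrix.mul_assoc]
      _ = 1 := by rw [h1, Matrix.mul_one, hAi]
  · calc P₀' * ((A⁻¹ : ↥(Matrix.symplecticGroup (Fin m) F)) : Matrix (Fin m ⊕ Fin m) (Fin m ⊕ Fin m) F) *
          ((A : Matrix (Fin m ⊕ Fin m) (Fin m ⊕ Fin m) F) * P₀)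
        = P₀' * (((A⁻¹ : ↥(Matrix.symplecticGroup (Fin m) F)) :
            Matrix (Fin m ⊕ Fin m) (Fin m ⊕ Fin m) F) * (A : Matrix (Fin m ⊕ Fin m) (Fin m ⊕ Fin m) F)) *
          P₀ := by simp only [Matrix.mul_assoc]
      _ = 1 := by rw [hAi', Matrix.mul_one, h2]
  · intro u v
    have hpres := Cfsg.Agent.Lib.Helper13_Symp.sympForm_mulVec_mulVec_of_mem m A.2
    have hNj : ∀ x, bilOf (nmat M) x j = d ⬝ᵥ x := by
      intro x
      rw [bilOf_nmat, hMj, hℓj, mul_zero, add_zero]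
    unfold f3
    rw [← hA, ← Matrix.mulVec_mulVec, ← Matrix.mulVec_mulVec, hpres, hpres, hpres, hP₀, hP₀, hP₀, hNj,
      hNj, bilOf_nmat, add_assoc, CharTwo.add_self_eq_zero, add_zero]

/-- Any two non-alternating non-degenerate symmetric matrices of even size are congruent. -/
theorem exists_congr_even (hnm : n = 2 * m) (hm : 1 ≤ m) {M M' : Mn} (hM : Mᵀ = M) (hM' : M'ᵀ = M')
    (hd : M.det ≠ 0) (hd' : M'.det ≠ 0) (hne : dvec M ≠ 0) (hne' : dvec M' ≠ 0) :
    ∃ k : GL (Fin n) F, (k : Mn)ᵀ * M * (k : Mn) = M' := by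
  set a₀ : Fin m ⊕ Fin m → F := Pi.single (Sum.inl ⟨0, hm⟩) 1 with ha₀
  have ha₀ne : a₀ ≠ 0 := by
    intro h
    have := congrFun h (Sum.inl ⟨0, hm⟩)
    simp [ha₀] at this
  obtain ⟨P, P', h1, h2, hP⟩ := exists_std_even hnm hM hd hne a₀ ha₀ne
  obtain ⟨R, R', h3, h4, hR⟩ := exists_std_even hnm hM' hd' hne' a₀ ha₀ne
  refine ⟨⟨P' * R, R' * P, ?_, ?_⟩, ?_⟩
  · calc P' * R * (R' * P) = P' * (R * R') * P := by simp only [Matrix.mul_assoc]
      _ = 1 := by rw [h3, Matrix.mul_one, h2]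
  · calc R' * P * (P' * R) = R' * (P * P') * R := by simp only [Matrix.mul_assoc]
      _ = 1 := by rw [h1, Matrix.mul_one, h4]
  · apply bilOf_ext
    intro u v
    show bilOf ((P' * R)ᵀ * M * (P' * R)) u v = bilOf M' u v
    rw [← bilOf_mulVec, ← hP, ← hR, Matrix.mulVec_mulVec, Matrix.mulVec_mulVec, ← Matrix.mul_assoc, h1,
      Matrix.one_mul]

end std

end Cfsg.Agent.Lib.Helper14_SymChar2Even
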