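import Cfsg.Agent.Lib.Helper43_Transvection3
import Cfsg.Agent.Lib.Helper5_SpOrder

set_option autoImplicit false

/-!
Centralizer of a symplectic transvection in `Sp_2m(F)`, characteristic two: it is the stabilizer of
the centre `a` of the transvection, of order `|Sp_2m(q)| / (q^(2m) - 1)`.
-/

namespace Cfsg.Agent.Lib.Helper43_SympTransvection

open Module Matrix
open Cfsg.Agent.Lib.Helper43_Transvection
open Cfsg.Agent.Lib.Helper13_Symp Cfsg.Agent.Lib.Helper13_SympTrans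

section general

variable {F : Type*} [Field F]
variable {V : Type*} [AddCommGroup V] [Module F V] [FiniteDimensional F V]

/-- A rank-one endomorphism is `x ↦ φ x • a` with `a ≠ 0`, `φ ≠ 0`. -/
theorem exists_vec_dual_of_rank_one' (μ : Module.End F V)
    (h1 : finrank F (LinearMap.range μ) = 1) :
    ∃ (a : V) (φ : Module.Dual F V), a ≠ 0 ∧ φ ≠ 0 ∧ ∀ x, μ x = φ x • a := by
  obtain ⟨⟨a, ha_mem⟩, ha0, hspan⟩ := finrank_eq_one_iff'.mp h1
  have ha : a ≠ 0 := by
    intro h; apply ha0; exact Subtype.ext h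
  obtain ⟨ξ, hξ⟩ := exists_dual_apply_eq_one (F := F) ha
  let φ : Module.Dual F V := ξ.comp μ
  have hμ : ∀ x, μ x = φ x • a := by
    intro x
    obtain ⟨c, hc⟩ := hspan ⟨μ x, LinearMap.mem_range_self μ x⟩
    have hc' : c • a = μ x := congrArg Subtype.val hc
    have : φ x = c := by
      show ξ (μ x) = c
      rw [← hc', map_smul, hξ, smul_eq_mul, mul_one]
    rw [this, hc']
  obtain ⟨x₀, hx₀⟩ := ha_mem
  refine ⟨a, φ, ha, ?_, hμ⟩
  intro h0
  have := hμ x₀
  rw [hx₀, h0, LinearMap.zero_apply, zero_smul] at this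
  exact ha this

end general

variable {F : Type*} [Field F] {m : ℕ}

/-- vectors of the natural module of `Sp_2m(F)`, as a separate type carrying the action -/
structure Vec (m : ℕ) (F : Type*) where
  /-- the underlying vector -/
  val : Fin m ⊕ Fin m → F

omit [Field F] in
theorem Vec.ext' {v w : Vec m F} (h : v.val = w.val) : v = w := by
  cases v; cases w; cases h; rfl

/-- `Vec m F` is equivalent to the function type -/
def vecEquiv (m : ℕ) (F : Type*) : Vec m F ≃ (Fin m ⊕ Fin m → F) where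
  toFun v := v.val
  invFun v := ⟨v⟩
  left_inv _ := rfl
  right_inv _ := rfl

noncomputable instance vecMulAction (m : ℕ) (F : Type*) [Field F] :
    MulAction (Matrix.symplecticGroup (Fin m) F) (Vec m F) where
  smul g v := ⟨(g : Matrix (Fin m ⊕ Fin m) (Fin m ⊕ Fin m) F) *ᵥ v.val⟩
  one_smul v := by
    apply Vec.ext'
    show ((1 : Matrix.symplecticGroup (Fin m) F) : Matrix (Fin m ⊕ Fin m) (Fin m ⊕ Fin m) F) *ᵥ
      v.val = v.val
    rw [Submonoid.coe_one, Matrix.one_mulVec]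
  mul_smul g h v := by
    apply Vec.ext'
    show ((g * h : Matrix.symplecticGroup (Fin m) F) :
        Matrix (Fin m ⊕ Fin m) (Fin m ⊕ Fin m) F) *ᵥ v.val =
      (g : Matrix (Fin m ⊕ Fin m) (Fin m ⊕ Fin m) F) *ᵥ
        ((h : Matrix (Fin m ⊕ Fin m) (Fin m ⊕ Fin m) F) *ᵥ v.val)
    rw [Submonoid.coe_mul, Matrix.mulVec_mulVec]

theorem vec_smul_val (g : Matrix.symplecticGroup (Fin m) F) (v : Vec m F) :
    (g • v).val = (g : Matrix (Fin m ⊕ Fin m) (Fin m ⊕ Fin m) F) *ᵥ v.val := rfl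

theorem sp_inv_mulVec_mulVec (g : Matrix.symplecticGroup (Fin m) F) (x : Fin m ⊕ Fin m → F) :
    ((g⁻¹ : Matrix.symplecticGroup (Fin m) F) : Matrix (Fin m ⊕ Fin m) (Fin m ⊕ Fin m) F) *ᵥ
      ((g : Matrix (Fin m ⊕ Fin m) (Fin m ⊕ Fin m) F) *ᵥ x) = x := by
  rw [Matrix.mulVec_mulVec, ← Submonoid.coe_mul, inv_mul_cancel, Submonoid.coe_one,
    Matrix.one_mulVec]

theorem orbit_eq (a : Fin m ⊕ Fin m → F) (ha : a ≠ 0) :
    MulAction.orbit (Matrix.symplecticGroup (Fin m) F) (⟨a⟩ : Vec m F) =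
      {v : Vec m F | v.val ≠ 0} := by
  ext v
  constructor
  · rintro ⟨g, hg⟩
    have hg' : (g : Matrix (Fin m ⊕ Fin m) (Fin m ⊕ Fin m) F) *ᵥ a = v.val :=
      congrArg Vec.val hg
    intro hv
    rw [hv] at hg'
    apply ha
    have := sp_inv_mulVec_mulVec g a
    rw [hg', Matrix.mulVec_zero] at this
    exact this.symm
  · intro hv
    obtain ⟨A, -, hA⟩ := exists_transv_map m a v.val ha hv
    exact ⟨A, Vec.ext' hA⟩

theorem card_orbit [Fintype F] (a : Fin m ⊕ Fin m → F) (ha : a ≠ 0) :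
    Nat.card (MulAction.orbit (Matrix.symplecticGroup (Fin m) F) (⟨a⟩ : Vec m F)) =
      Fintype.card F ^ (2 * m) - 1 := by
  classical
  rw [orbit_eq a ha]
  have e : {v : Vec m F | v.val ≠ 0} ≃ {x : (Fin m ⊕ Fin m → F) // x ≠ 0} :=
    { toFun := fun v => ⟨v.1.val, v.2⟩
      invFun := fun x => ⟨⟨x.1⟩, x.2⟩
      left_inv := fun _ => rfl
      right_inv := fun _ => rfl }
  rw [Nat.card_congr e, Nat.card_eq_fintype_card]
  have := Fintype.card_subtype_compl (fun x : (Fin m ⊕ Fin m → F) => x = 0)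
  rw [Fintype.card_subtype_eq] at this
  rw [this]
  simp [two_mul, pow_add]

/-- data of a symplectic element `t` with `t - 1` of rank one -/
theorem transvection_data (t : Matrix.symplecticGroup (Fin m) F)
    (ht : ((t : Matrix (Fin m ⊕ Fin m) (Fin m ⊕ Fin m) F) - 1).rank = 1) :
    ∃ (a : Fin m ⊕ Fin m → F) (φ : Module.Dual F (Fin m ⊕ Fin m → F)) (d : F),
      a ≠ 0 ∧ φ ≠ 0 ∧ d ≠ 0 ∧
      (∀ x, (t : Matrix (Fin m ⊕ Fin m) (Fin m ⊕ Fin m) F) *ᵥ x = x + φ x • a) ∧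
      ∀ x, Cfsg.sympForm m F x a = d * φ x := by
  set μ : Module.End F (Fin m ⊕ Fin m → F) :=
    Matrix.mulVecLin ((t : Matrix (Fin m ⊕ Fin m) (Fin m ⊕ Fin m) F) - 1) with hμ
  have h1 : Module.finrank F (LinearMap.range μ) = 1 := ht
  obtain ⟨a, φ, ha, hφ, hμx⟩ := exists_vec_dual_of_rank_one' μ h1
  have htx : ∀ x, (t : Matrix (Fin m ⊕ Fin m) (Fin m ⊕ Fin m) F) *ᵥ x = x + φ x • a := by
    intro x
    have := hμx x
    rw [hμ, Matrix.mulVecLin_apply, Matrix.sub_mulVec, Matrix.one_mulVec] at this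
    rw [← this]; abel
  have hpres : ∀ x y, Cfsg.sympForm m F ((t : Matrix (Fin m ⊕ Fin m) (Fin m ⊕ Fin m) F) *ᵥ x)
      ((t : Matrix (Fin m ⊕ Fin m) (Fin m ⊕ Fin m) F) *ᵥ y) = Cfsg.sympForm m F x y :=
    fun x y => sympForm_mulVec_mulVec_of_mem m t.2 x y
  have key : ∀ x y, φ y * Cfsg.sympForm m F x a + φ x * Cfsg.sympForm m F a y = 0 := by
    intro x y
    have := hpres x y
    rw [htx, htx] at this
    simp only [sympForm_add_left, sympForm_add_right, sympForm_smul_left, sympForm_smul_right,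
      sympForm_self, mul_zero, add_zero] at this
    have h2 : Cfsg.sympForm m F x y + φ x * Cfsg.sympForm m F a y +
      φ y * Cfsg.sympForm m F x a = Cfsg.sympForm m F x y := this
    have h3 : φ y * Cfsg.sympForm m F x a + φ x * Cfsg.sympForm m F a y =
        (Cfsg.sympForm m F x y + φ x * Cfsg.sympForm m F a y +
      φ y * Cfsg.sympForm m F x a) - Cfsg.sympForm m F x y := by ring
    rw [h3, h2, sub_self]
  obtain ⟨y₁, hy₁⟩ : ∃ x, φ x ≠ 0 := by
    by_contra h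
    push Not at h
    exact hφ (LinearMap.ext h)
  set y₀ := (φ y₁)⁻¹ • y₁ with hy₀
  have hy₀1 : φ y₀ = 1 := by simp [hy₀, inv_mul_cancel₀ hy₁]
  have hd : ∀ x, Cfsg.sympForm m F x a = Cfsg.sympForm m F y₀ a * φ x := by
    intro x
    have := key x y₀
    rw [hy₀1, one_mul, sympForm_swap m a y₀] at this
    have h4 : Cfsg.sympForm m F x a = -(φ x * -Cfsg.sympForm m F y₀ a) :=
      eq_neg_of_add_eq_zero_left this
    rw [h4]; ring
  refine ⟨a, φ, Cfsg.sympForm m F y₀ a, ha, hφ, ?_, htx, hd⟩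
  intro h0
  obtain ⟨w, hw⟩ := exists_sympForm_ne_zero m ha
  apply hw
  rw [sympForm_swap, hd w, h0, zero_mul, neg_zero]

theorem mem_centralizer_iff [CharP F 2] (t : Matrix.symplecticGroup (Fin m) F)
    (a : Fin m ⊕ Fin m → F) (φ : Module.Dual F (Fin m ⊕ Fin m → F)) (d : F)
    (ha : a ≠ 0) (hφ : φ ≠ 0) (hd : d ≠ 0)
    (htx : ∀ x, (t : Matrix (Fin m ⊕ Fin m) (Fin m ⊕ Fin m) F) *ᵥ x = x + φ x • a)
    (hf : ∀ x, Cfsg.sympForm m F x a = d * φ x) (g : Matrix.symplecticGroup (Fin m) F) :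
    g ∈ Subgroup.centralizer ({t} : Set (Matrix.symplecticGroup (Fin m) F)) ↔
      (g : Matrix (Fin m ⊕ Fin m) (Fin m ⊕ Fin m) F) *ᵥ a = a := by
  rw [Subgroup.mem_centralizer_singleton_iff]
  have hpres : ∀ x y, Cfsg.sympForm m F ((g : Matrix (Fin m ⊕ Fin m) (Fin m ⊕ Fin m) F) *ᵥ x)
      ((g : Matrix (Fin m ⊕ Fin m) (Fin m ⊕ Fin m) F) *ᵥ y) = Cfsg.sympForm m F x y :=
    fun x y => sympForm_mulVec_mulVec_of_mem m g.2 x y
  constructor
  · intro h
    have hinj : Function.Injective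
        (Matrix.toLin' (g : Matrix (Fin m ⊕ Fin m) (Fin m ⊕ Fin m) F)) := by
      intro x y hxy
      have := congrArg (fun z => ((g⁻¹ : Matrix.symplecticGroup (Fin m) F) :
        Matrix (Fin m ⊕ Fin m) (Fin m ⊕ Fin m) F) *ᵥ z) hxy
      simpa only [Matrix.toLin'_apply, sp_inv_mulVec_mulVec] using this
    have key := commute_transvection_iff a φ ha hφ
      (Matrix.toLin' (g : Matrix (Fin m ⊕ Fin m) (Fin m ⊕ Fin m) F)) hinj
    simp only [Matrix.toLin'_apply] at key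
    have h1 : ∀ x, (g : Matrix (Fin m ⊕ Fin m) (Fin m ⊕ Fin m) F) *ᵥ (x + φ x • a) =
        (g : Matrix (Fin m ⊕ Fin m) (Fin m ⊕ Fin m) F) *ᵥ x +
          φ ((g : Matrix (Fin m ⊕ Fin m) (Fin m ⊕ Fin m) F) *ᵥ x) • a := by
      intro x
      have := congrArg (fun M : Matrix.symplecticGroup (Fin m) F =>
        (M : Matrix (Fin m ⊕ Fin m) (Fin m ⊕ Fin m) F) *ᵥ x) h
      simp only [Submonoid.coe_mul, ← Matrix.mulVec_mulVec, htx] at this
      exact this
    obtain ⟨c, hc, hca, hcφ⟩ := key.1 h1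
    obtain ⟨y₁, hy₁⟩ : ∃ x, φ x ≠ 0 := by
      by_contra h
      push Not at h
      exact hφ (LinearMap.ext h)
    have h2 : c * (d * (c * φ y₁)) = d * φ y₁ := by
      rw [← hcφ, ← hf, ← sympForm_smul_right, ← hca, hpres, hf]
    have h3 : (c ^ 2 - 1) * (d * φ y₁) = 0 := by
      have : (c ^ 2 - 1) * (d * φ y₁) = c * (d * (c * φ y₁)) - d * φ y₁ := by ring
      rw [this, h2, sub_self]
    have h4 : c ^ 2 - 1 = 0 := by
      rcases mul_eq_zero.mp h3 with h4 | h4
      · exact h4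
      · exact absurd h4 (mul_ne_zero hd hy₁)
    have h5 : (c - 1) ^ 2 = 0 := by
      have h2' : (2 : F) = 0 := CharTwo.two_eq_zero
      have : (c - 1) ^ 2 = (c ^ 2 - 1) - 2 * (c - 1) := by ring
      rw [this, h4, h2']; ring
    have h6 : c = 1 := sub_eq_zero.mp (pow_eq_zero_iff (by norm_num) |>.mp h5)
    rw [hca, h6, one_smul]
  · intro h
    apply Subtype.ext
    apply Matrix.mulVec_injective
    funext x
    have hφg : φ ((g : Matrix (Fin m ⊕ Fin m) (Fin m ⊕ Fin m) F) *ᵥ x) = φ x := by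
      have h1 : d * φ ((g : Matrix (Fin m ⊕ Fin m) (Fin m ⊕ Fin m) F) *ᵥ x) = d * φ x := by
        rw [← hf, ← hf]
        conv_lhs => rw [← h]
        exact hpres x a
      exact mul_left_cancel₀ hd h1
    rw [Submonoid.coe_mul, Submonoid.coe_mul, ← Matrix.mulVec_mulVec, ← Matrix.mulVec_mulVec,
      htx, htx, Matrix.mulVec_add, Matrix.mulVec_smul, h, hφg]

theorem centralizer_eq_stabilizer [CharP F 2] (t : Matrix.symplecticGroup (Fin m) F)
    (a : Fin m ⊕ Fin m → F) (φ : Module.Dual F (Fin m ⊕ Fin m → F)) (d : F)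
    (ha : a ≠ 0) (hφ : φ ≠ 0) (hd : d ≠ 0)
    (htx : ∀ x, (t : Matrix (Fin m ⊕ Fin m) (Fin m ⊕ Fin m) F) *ᵥ x = x + φ x • a)
    (hf : ∀ x, Cfsg.sympForm m F x a = d * φ x) :
    Subgroup.centralizer ({t} : Set (Matrix.symplecticGroup (Fin m) F)) =
      MulAction.stabilizer (Matrix.symplecticGroup (Fin m) F) (⟨a⟩ : Vec m F) := by
  ext g
  rw [mem_centralizer_iff t a φ d ha hφ hd htx hf, MulAction.mem_stabilizer_iff]
  constructor
  · intro h
    exact Vec.ext' h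
  · intro h
    exact congrArg Vec.val h

theorem card_centralizer [Fintype F] [CharP F 2] (k : ℕ)
    (t : Matrix.symplecticGroup (Fin (k + 1)) F)
    (ht : ((t : Matrix (Fin (k + 1) ⊕ Fin (k + 1)) (Fin (k + 1) ⊕ Fin (k + 1)) F) - 1).rank = 1) :
    Nat.card (Subgroup.centralizer ({t} : Set (Matrix.symplecticGroup (Fin (k + 1)) F))) =
      Fintype.card F ^ (2 * k + 1) * (Fintype.card F ^ (k ^ 2) *
        ∏ i : Fin k, (Fintype.card F ^ (2 * ((i : ℕ) + 1)) - 1)) := by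
  obtain ⟨a, φ, d, ha, hφ, hd, htx, hf⟩ := transvection_data t ht
  rw [centralizer_eq_stabilizer t a φ d ha hφ hd htx hf]
  have h1 := Subgroup.card_mul_index
    (MulAction.stabilizer (Matrix.symplecticGroup (Fin (k + 1)) F) (⟨a⟩ : Vec (k + 1) F))
  rw [MulAction.index_stabilizer, ← Nat.card_coe_set_eq, card_orbit a ha,
    Cfsg.Agent.Lib.Helper5_SpOrder.card_sp rfl, Finset.prod_range_succ, Finset.prod_range] at h1
  have hq : 1 < Fintype.card F := Fintype.one_lt_card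
  have hpos : 0 < Fintype.card F ^ (2 * (k + 1)) - 1 :=
    Nat.sub_pos_of_lt (Nat.one_lt_pow (by omega) hq)
  apply Nat.eq_of_mul_eq_mul_right hpos
  rw [h1]
  have : (k + 1) ^ 2 = (2 * k + 1) + k ^ 2 := by ring
  rw [this, pow_add]
  ring

end Cfsg.Agent.Lib.Helper43_SympTransvection
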