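import Mathlib
import Cfsg.Agent.Lib.Helper14_SymChar2Even
import Cfsg.Agent.Lib.Helper14_Char2Groups
import Cfsg.Agent.Lib.Helper14_PSLGraphOdd
import Cfsg.Agent.Lib.Helper43_SympTransvection

set_option autoImplicit false
set_option linter.unusedSectionVars false

/-!
Characteristic two, even dimension: the isometry group of `J` is the symplectic group and the isometry
group of the non-alternating form `ω + ω(·,a₀) ⊗ ω(·,a₀)` is the centralizer in `Sp` of the transvection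
with centre `a₀` (helper14).
-/

namespace Cfsg.Agent.Lib.Helper14_Char2Even

open Matrix Cfsg.Agent.Lib.Helper14_PSLCent Cfsg.Agent.Lib.Helper14_PGOTransport
  Cfsg.Agent.Lib.Helper14_SymChar2 Cfsg.Agent.Lib.Helper14_Congruence
  Cfsg.Agent.Lib.Helper14_Char2Groups Cfsg.Agent.Lib.Helper14_SymChar2Even
  Cfsg.Agent.Lib.Helper14_PSLGraphOdd Cfsg.Agent.Lib.Helper13_Symp Cfsg.Agent.Lib.Helper13_SympTrans

variable {F : Type*} [Field F] {m : ℕ}

/-- The symplectic group inside `GL`. -/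
noncomputable def spToGL : ↥(Matrix.symplecticGroup (Fin m) F) →* GL (Fin m ⊕ Fin m) F where
  toFun A := Matrix.GeneralLinearGroup.mkOfDetNeZero (A : Matrix (Fin m ⊕ Fin m) (Fin m ⊕ Fin m) F)
    (SymplecticGroup.symplectic_det A.2).ne_zero
  map_one' := by apply Units.ext; rfl
  map_mul' A B := by apply Units.ext; rfl

theorem spToGL_coe (A : ↥(Matrix.symplecticGroup (Fin m) F)) :
    ((spToGL A : GL (Fin m ⊕ Fin m) F) : Matrix (Fin m ⊕ Fin m) (Fin m ⊕ Fin m) F)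
      = (A : Matrix (Fin m ⊕ Fin m) (Fin m ⊕ Fin m) F) := rfl

/-- A subgroup of `Sp` and a subgroup of `GL` with the same underlying matrices are isomorphic. -/
theorem nonempty_equiv_of_sp (S : Subgroup ↥(Matrix.symplecticGroup (Fin m) F))
    (O : Subgroup (GL (Fin m ⊕ Fin m) F)) (h1 : ∀ A ∈ S, spToGL A ∈ O)
    (h2 : ∀ g ∈ O, ∃ A ∈ S, (A : Matrix (Fin m ⊕ Fin m) (Fin m ⊕ Fin m) F)
      = ((g : GL (Fin m ⊕ Fin m) F) : Matrix (Fin m ⊕ Fin m) (Fin m ⊕ Fin m) F)) :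
    Nonempty (↥S ≃* ↥O) := by
  let ψ : ↥S →* ↥O := (spToGL.comp S.subtype).codRestrict O (fun A => h1 A.1 A.2)
  have hinj : Function.Injective ψ := by
    intro A B h
    have h3 : (((ψ A : ↥O) : GL (Fin m ⊕ Fin m) F) : Matrix (Fin m ⊕ Fin m) (Fin m ⊕ Fin m) F)
        = (((ψ B : ↥O) : GL (Fin m ⊕ Fin m) F) : Matrix (Fin m ⊕ Fin m) (Fin m ⊕ Fin m) F) := by rw [h]
    exact Subtype.ext (Subtype.ext h3)
  have hsurj : Function.Surjective ψ := by
    intro g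
    obtain ⟨A, hA, hAg⟩ := h2 g.1 g.2
    exact ⟨⟨A, hA⟩, Subtype.ext (Units.ext hAg)⟩
  exact ⟨MulEquiv.ofBijective ψ ⟨hinj, hsurj⟩⟩

/-- The symplectic group is the isometry group of `J`. -/
theorem nonempty_sp_equiv_isoBil_J :
    Nonempty (↥(Matrix.symplecticGroup (Fin m) F) ≃* ↥(isoBil (Matrix.J (Fin m) F))) := by
  obtain ⟨e⟩ := nonempty_equiv_of_sp (⊤ : Subgroup ↥(Matrix.symplecticGroup (Fin m) F))
    (isoBil (Matrix.J (Fin m) F))
    (fun A _ => by rw [mem_isoBil]; exact SymplecticGroup.mem_iff'.mp A.2)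
    (fun g hg => ⟨⟨g.1, SymplecticGroup.mem_iff'.mpr ((mem_isoBil _ _).mp hg)⟩, Subgroup.mem_top _, rfl⟩)
  exact ⟨Subgroup.topEquiv.symm.trans e⟩

theorem bilOf_J (x y : Fin m ⊕ Fin m → F) : bilOf (Matrix.J (Fin m) F) x y = Cfsg.sympForm m F x y := rfl

/-- `bilOf (jmat e)` is alternating in every characteristic. -/
theorem jmat_alt {n : ℕ} (e : Fin n ≃ Fin m ⊕ Fin m) (v : Fin n → F) : bilOf (jmat (F := F) e) v v = 0 := by
  unfold bilOf jmat
  rw [Matrix.submatrix_mulVec_equiv, ← comp_equiv_symm_dotProduct]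
  exact Cfsg.Agent.Lib.Helper13_Symp.sympForm_self m (v ∘ e.symm)

/-- The Gram matrix of `f3 a₀`. -/
def m3 (a₀ : Fin m ⊕ Fin m → F) : Matrix (Fin m ⊕ Fin m) (Fin m ⊕ Fin m) F :=
  Matrix.J (Fin m) F + Matrix.vecMulVec (Matrix.J (Fin m) F *ᵥ a₀) (Matrix.J (Fin m) F *ᵥ a₀)

section char2

variable [Fintype F] [CharP F 2]

theorem bilOf_m3 (a₀ x y : Fin m ⊕ Fin m → F) : bilOf (m3 a₀) x y = f3 a₀ x y := by
  unfold m3 f3
  rw [bilOf_add_mat, bilOf_vecMulVec]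
  unfold bilOf Cfsg.sympForm
  rw [dotProduct_comm (Matrix.J (Fin m) F *ᵥ a₀) x, dotProduct_comm (Matrix.J (Fin m) F *ᵥ a₀) y]

theorem f3_self (a₀ x : Fin m ⊕ Fin m → F) :
    f3 a₀ x x = Cfsg.sympForm m F x a₀ * Cfsg.sympForm m F x a₀ := by
  unfold f3
  rw [Cfsg.Agent.Lib.Helper13_Symp.sympForm_self, zero_add]

theorem exists_sympForm_left_ne_zero {a₀ : Fin m ⊕ Fin m → F} (ha₀ : a₀ ≠ 0) :
    ∃ w, Cfsg.sympForm m F w a₀ ≠ 0 := by
  obtain ⟨w, hw⟩ := exists_sympForm_ne_zero m ha₀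
  refine ⟨w, ?_⟩
  rw [sympForm_swap]
  exact neg_ne_zero.mpr hw

theorem m3_ne_zero {a₀ : Fin m ⊕ Fin m → F} (ha₀ : a₀ ≠ 0) : m3 a₀ ≠ 0 := by
  intro h
  obtain ⟨w, hw⟩ := exists_sympForm_left_ne_zero ha₀
  have h1 := bilOf_m3 a₀ w w
  rw [f3_self, h] at h1
  have h2 : bilOf (0 : Matrix (Fin m ⊕ Fin m) (Fin m ⊕ Fin m) F) w w = 0 := by
    unfold bilOf; rw [Matrix.zero_mulVec, dotProduct_zero]
  rw [h2] at h1
  exact hw (mul_self_eq_zero.mp h1.symm)

theorem J_ne_zero (hm : 1 ≤ m) : Matrix.J (Fin m) F ≠ 0 := by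
  intro h
  have hd := (Matrix.isUnit_det_J (Fin m) F).ne_zero
  haveI hne : Nonempty (Fin m ⊕ Fin m) := ⟨Sum.inl ⟨0, hm⟩⟩
  rw [h, Matrix.det_zero] at hd
  exact hd rfl

/-- Centralizer of the transvection with centre `a₀`: the stabilizer of `a₀`. -/
theorem mem_centralizer_transv_iff {a₀ : Fin m ⊕ Fin m → F} (ha₀ : a₀ ≠ 0)
    (g : ↥(Matrix.symplecticGroup (Fin m) F)) :
    g ∈ Subgroup.centralizer ({transv m a₀ 1} : Set ↥(Matrix.symplecticGroup (Fin m) F)) ↔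
      (g : Matrix (Fin m ⊕ Fin m) (Fin m ⊕ Fin m) F) *ᵥ a₀ = a₀ := by
  set φ : Module.Dual F (Fin m ⊕ Fin m → F) := (Cfsg.Agent.Lib.Helper94_Bridge.Bsymp m F).flip a₀ with hφ
  have hφx : ∀ x, φ x = Cfsg.sympForm m F x a₀ := fun x => by
    show (Cfsg.Agent.Lib.Helper94_Bridge.Bsymp m F) x a₀ = _
    rw [Cfsg.Agent.Lib.Helper94_Bridge.Bsymp_apply]
  have hφ0 : φ ≠ 0 := by
    obtain ⟨w, hw⟩ := exists_sympForm_left_ne_zero ha₀
    intro h
    apply hw
    rw [← hφx, h, LinearMap.zero_apply]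
  exact Cfsg.Agent.Lib.Helper43_SympTransvection.mem_centralizer_iff _ a₀ φ 1 ha₀ hφ0 one_ne_zero
    (fun x => by rw [transv_mulVec, one_mul, hφx]) (fun x => by rw [one_mul, hφx]) g

/-- Isometries of `f3 a₀` are the symplectic matrices fixing `a₀`. -/
theorem mem_isoBil_m3_iff {a₀ : Fin m ⊕ Fin m → F} (ha₀ : a₀ ≠ 0) (g : GL (Fin m ⊕ Fin m) F) :
    g ∈ isoBil (m3 a₀) ↔
      ((g : Matrix (Fin m ⊕ Fin m) (Fin m ⊕ Fin m) F) ∈ Matrix.symplecticGroup (Fin m) F ∧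
        (g : Matrix (Fin m ⊕ Fin m) (Fin m ⊕ Fin m) F) *ᵥ a₀ = a₀) := by
  set G : Matrix (Fin m ⊕ Fin m) (Fin m ⊕ Fin m) F := (g : Matrix (Fin m ⊕ Fin m) (Fin m ⊕ Fin m) F) with hG
  rw [mem_isoBil]
  constructor
  · intro hg
    have hpres : ∀ x y, f3 a₀ (G *ᵥ x) (G *ᵥ y) = f3 a₀ x y := by
      intro x y; rw [← bilOf_m3, ← bilOf_m3, bilOf_mulVec, hg]
    have hlin : ∀ x, Cfsg.sympForm m F (G *ᵥ x) a₀ = Cfsg.sympForm m F x a₀ := by
      intro x
      have := hpres x x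
      rw [f3_self, f3_self] at this
      exact sq_inj this
    have hsp : ∀ x y, Cfsg.sympForm m F (G *ᵥ x) (G *ᵥ y) = Cfsg.sympForm m F x y := by
      intro x y
      have := hpres x y
      unfold f3 at this
      rw [hlin, hlin] at this
      exact add_right_cancel this
    refine ⟨mem_symplecticGroup_of_preserves m hsp, ?_⟩
    have h0 : a₀ - G *ᵥ a₀ = 0 := by
      by_contra hne
      obtain ⟨w, hw⟩ := exists_sympForm_left_ne_zero hne
      apply hw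
      have hw' : w = G *ᵥ (((g⁻¹ : GL (Fin m ⊕ Fin m) F) : Matrix (Fin m ⊕ Fin m) (Fin m ⊕ Fin m) F) *ᵥ w) := by
        rw [Matrix.mulVec_mulVec, hG, ← Units.val_mul, mul_inv_cancel, Units.val_one, Matrix.one_mulVec]
      rw [sympForm_sub_right]
      conv_lhs => rw [hw']
      rw [hlin, hsp, sub_self]
    exact (sub_eq_zero.mp h0).symm
  · rintro ⟨hsp, hfix⟩
    have hpres := sympForm_mulVec_mulVec_of_mem m hsp
    apply bilOf_ext
    intro u v
    rw [← bilOf_mulVec, bilOf_m3, bilOf_m3]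
    unfold f3
    have h1 : ∀ x, Cfsg.sympForm m F (G *ᵥ x) a₀ = Cfsg.sympForm m F x a₀ := by
      intro x
      conv_lhs => rw [← hfix]
      exact hpres x a₀
    rw [hpres, h1, h1]

/-- The isometry group of `f3 a₀` is the centralizer of a symplectic transvection. -/
theorem nonempty_cent_equiv_isoBil {a₀ : Fin m ⊕ Fin m → F} (ha₀ : a₀ ≠ 0) :
    Nonempty (↥(Subgroup.centralizer ({transv m a₀ 1} : Set ↥(Matrix.symplecticGroup (Fin m) F))) ≃*
      ↥(isoBil (m3 a₀))) := by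
  apply nonempty_equiv_of_sp
  · intro A hA
    rw [mem_isoBil_m3_iff ha₀, spToGL_coe]
    exact ⟨A.2, (mem_centralizer_transv_iff ha₀ A).mp hA⟩
  · intro g hg
    rw [mem_isoBil_m3_iff ha₀] at hg
    exact ⟨⟨_, hg.1⟩, (mem_centralizer_transv_iff ha₀ _).mpr hg.2, rfl⟩

end char2

/-- A symplectic transvection with non-zero centre and parameter `1` is a transvection. -/
theorem isTransvection_transv {a₀ : Fin m ⊕ Fin m → F} (ha₀ : a₀ ≠ 0) :
    Cfsg.IsTransvection ((transv m a₀ 1 : ↥(Matrix.symplecticGroup (Fin m) F)) :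
      Matrix (Fin m ⊕ Fin m) (Fin m ⊕ Fin m) F) := by
  set T : Matrix (Fin m ⊕ Fin m) (Fin m ⊕ Fin m) F :=
    ((transv m a₀ 1 : ↥(Matrix.symplecticGroup (Fin m) F)) : Matrix (Fin m ⊕ Fin m) (Fin m ⊕ Fin m) F) - 1
    with hT
  have hact : ∀ x, T *ᵥ x = Cfsg.sympForm m F x a₀ • a₀ := by
    intro x
    rw [hT, Matrix.sub_mulVec, Matrix.one_mulVec, transv_mulVec, one_mul, add_sub_cancel_left]
  obtain ⟨w, hw⟩ : ∃ w, Cfsg.sympForm m F w a₀ ≠ 0 := by
    obtain ⟨w, hw⟩ := exists_sympForm_ne_zero m ha₀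
    refine ⟨w, ?_⟩
    rw [sympForm_swap]
    exact neg_ne_zero.mpr hw
  constructor
  · have hrange : LinearMap.range (Matrix.mulVecLin T) = Submodule.span F {a₀} := by
      apply le_antisymm
      · rintro _ ⟨x, rfl⟩
        rw [Matrix.mulVecLin_apply, hact]
        exact Submodule.smul_mem _ _ (Submodule.mem_span_singleton_self a₀)
      · rw [Submodule.span_singleton_le_iff_mem]
        refine ⟨(Cfsg.sympForm m F w a₀)⁻¹ • w, ?_⟩
        rw [Matrix.mulVecLin_apply, hact, sympForm_smul_left, inv_mul_cancel₀ hw, one_smul]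
    show Module.finrank F (LinearMap.range (Matrix.mulVecLin T)) = 1
    rw [hrange, finrank_span_singleton ha₀]
  · show T * T = 0
    apply Matrix.mulVec_injective
    funext x
    rw [← Matrix.mulVec_mulVec, hact, hact, sympForm_smul_left,
      Cfsg.Agent.Lib.Helper13_Symp.sympForm_self, mul_zero, zero_smul, Matrix.zero_mulVec]

end Cfsg.Agent.Lib.Helper14_Char2Even
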