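import Mathlib
import Cfsg.Agent.Lib.Helper45_D4Defs
import Cfsg.Prelude.Def_Steinberg
import Cfsg.Prelude.Def_LieTypes

/-!
# The 24 root elements of `O⁺₈(F)` indexed as in the frozen table `chevD4` (S1082)

`rootA r = (a, b, σ)`: the root with index `r` of `chevD4` corresponds to `T a b (σ t)`; the signs `σ` are chosen so
that the commutator formula holds with the structure constants of `chevD4`, and `rootA (neg r) = (b, a, σ)`.
-/

set_option autoImplicit false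

namespace Cfsg.Agent.Lib.Helper45_D4Table

open Cfsg Cfsg.Lie Matrix Cfsg.Agent.Lib.Helper45_D4Defs

variable {F : Type*} [Field F]

/-- The pair of indices and the sign attached to the root with index `r`. -/
def rootA : ℕ → I 4 × I 4 × ℤ
  | 0 => (Sum.inr 1, Sum.inl 0, 1)
  | 1 => (Sum.inr 2, Sum.inl 0, 1)
  | 2 => (Sum.inl 3, Sum.inl 0, 1)
  | 3 => (Sum.inr 3, Sum.inl 0, 1)
  | 4 => (Sum.inl 2, Sum.inl 0, -1)
  | 5 => (Sum.inl 1, Sum.inl 0, 1)
  | 6 => (Sum.inr 2, Sum.inl 1, -1)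
  | 7 => (Sum.inl 3, Sum.inl 1, -1)
  | 8 => (Sum.inr 3, Sum.inl 1, -1)
  | 9 => (Sum.inl 2, Sum.inl 1, 1)
  | 10 => (Sum.inl 3, Sum.inl 2, 1)
  | 11 => (Sum.inr 3, Sum.inl 2, 1)
  | 12 => (Sum.inl 2, Sum.inr 3, 1)
  | 13 => (Sum.inl 2, Sum.inl 3, 1)
  | 14 => (Sum.inl 1, Sum.inl 2, 1)
  | 15 => (Sum.inl 1, Sum.inr 3, -1)
  | 16 => (Sum.inl 1, Sum.inl 3, -1)
  | 17 => (Sum.inl 1, Sum.inr 2, -1)
  | 18 => (Sum.inl 0, Sum.inl 1, 1)
  | 19 => (Sum.inl 0, Sum.inl 2, -1)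
  | 20 => (Sum.inl 0, Sum.inr 3, 1)
  | 21 => (Sum.inl 0, Sum.inl 3, 1)
  | 22 => (Sum.inl 0, Sum.inr 2, 1)
  | 23 => (Sum.inl 0, Sum.inr 1, 1)
  | _ => (Sum.inl 0, Sum.inl 0, 0)

/-- The root element `x_r(t)` of `O⁺₈(F)` (`1` for `r ≥ 24`). -/
def U (r : ℕ) (t : F) : ↥(Cfsg.isometryGroup F (Cfsg.quadFormPlus 4 F)) :=
  T (rootA r).1 (rootA r).2.1 (((rootA r).2.2 : F) * t)

theorem rootA_adm : ∀ r < 24, Adm (rootA r).1 (rootA r).2.1 := by
  intro r hr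
  interval_cases r <;> decide

theorem rootA_sign : ∀ r < 24, (rootA r).2.2 = 1 ∨ (rootA r).2.2 = -1 := by
  intro r hr
  interval_cases r <;> decide

theorem rootA_neg : ∀ r < 24, rootA (chevD4.neg r) = ((rootA r).2.1, (rootA r).1, (rootA r).2.2) := by
  intro r hr
  interval_cases r <;> decide

theorem U_ge {r : ℕ} (hr : 24 ≤ r) (t : F) : U r t = 1 := by
  have : rootA r = (Sum.inl 0, Sum.inl 0, 0) := by
    unfold rootA
    split <;> first | omega | rfl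
  rw [U, this]
  exact T_of_not_adm (by decide) _

theorem U_add (r : ℕ) (t u : F) : U r t * U r u = U r (t + u) := by
  rw [U, U, U, T_mul, mul_add]

/-- Every root element `T a b t` is some `U r t'`. -/
theorem exists_root : ∀ a b : I 4, Adm a b → ∃ r < 24,
    ((rootA r).1 = a ∧ (rootA r).2.1 = b) ∨ ((rootA r).1 = pr b ∧ (rootA r).2.1 = pr a) := by
  decide

theorem exists_U_eq {a b : I 4} (hab : Adm a b) (t : F) : ∃ r < 24, ∃ t' : F, T a b t = U r t' := by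
  obtain ⟨r, hr, h⟩ := exists_root a b hab
  have hs := rootA_sign r hr
  have hsq : (((rootA r).2.2 : ℤ) : F) * ((rootA r).2.2 : F) = 1 := by
    rcases hs with h1 | h1 <;> rw [h1] <;> simp
  refine ⟨r, hr, ?_⟩
  rcases h with ⟨h1, h2⟩ | ⟨h1, h2⟩
  · refine ⟨((rootA r).2.2 : F) * t, ?_⟩
    rw [U, h1, h2, ← mul_assoc, hsq, one_mul]
  · refine ⟨((rootA r).2.2 : F) * (-t), ?_⟩
    rw [U, h1, h2, ← mul_assoc, hsq, one_mul]
    exact T_flip a b t

end Cfsg.Agent.Lib.Helper45_D4Table
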