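import Cfsg.Agent.Lib.Helper18_ChevSylow

set_option autoImplicit false

/-!
The centralizer of a root element `x_s(1)` for a dominant root `s` whose root subgroup is normalized by `B`
(the highest root; in characteristic 2 also the highest short root of F₄): it is generated by `U` and the root
subgroups `X_{-p}` for the fundamental roots `p` orthogonal to `s`.
-/

namespace Cfsg.Agent.Lib.Helper18_ChevCent

open Cfsg Cfsg.Lie Cfsg.Agent.Lib.Helper18_ChevFast Cfsg.Agent.Lib.Helper18_ChevEngine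
  Cfsg.Agent.Lib.Helper18_ChevR1 Cfsg.Agent.Lib.Helper18_ChevN Cfsg.Agent.Lib.Helper18_ChevR4
  Cfsg.Agent.Lib.Helper18_ChevSimple Cfsg.Agent.Lib.Helper18_ChevSimple2 Cfsg.Agent.Lib.Helper18_ChevFacts
  Cfsg.Agent.Lib.Helper18_ChevWeyl Cfsg.Agent.Lib.Helper18_ChevDiag Cfsg.Agent.Lib.Helper18_ChevCar
  Cfsg.Agent.Lib.Helper18_ChevTorus Cfsg.Agent.Lib.Helper18_ChevGL Cfsg.Agent.Lib.Helper18_ChevComm
  Cfsg.Agent.Lib.Helper18_ChevComm2 Cfsg.Agent.Lib.Helper18_MatTri Cfsg.Agent.Lib.Helper18_ChevTri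
  Cfsg.Agent.Lib.Helper18_ChevBorel Cfsg.Agent.Lib.Helper18_ChevAdd Cfsg.Agent.Lib.Helper18_ChevUni
  Cfsg.Agent.Lib.Helper18_ChevBN Cfsg.Agent.Lib.Helper18_ChevMono Cfsg.Agent.Lib.Helper18_ChevBNPair
  Cfsg.Agent.Lib.Helper18_ChevSimp Cfsg.Agent.Lib.Helper18_ChevJCerts Cfsg.Agent.Lib.Helper18_ChevLevi
  Cfsg.Agent.Lib.Helper18_ChevBruhat Cfsg.Agent.Lib.Helper18_ChevPar Cfsg.Agent.Lib.Helper18_ChevRootHom
  Cfsg.Agent.Lib.Helper18_ChevOrder Cfsg.Agent.Lib.Helper18_ChevSylow

variable {D : ChevalleyDatum} {Ns : List NData} {F : Type*} [Field F]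
variable {wl : List ℤ} {ws : List (List ℤ)} {sc : ℤ} {w : List ℤ} {d : ℕ}

/-- The certificate: `s0` is a positive root pairing to `1` with the `i0`-th fundamental coroot and to `0` with the
others; `negJ` contains the negatives of the other fundamental roots; the commutator terms of `s0` with the positive
roots and the roots of `negJ` have coefficients divisible by `m`; `inv` is a function of the roots invariant under the
fundamental reflections, and `s0` is the last root with its value of `inv`. -/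
def CentCertA (D : ChevalleyDatum) (s0 i0 : ℕ) (negJ : List ℕ) : Prop :=
  s0 < D.nroots ∧ i0 < D.rank ∧ D.IsPosRoot s0 ∧
  (∀ j < D.rank, D.cartan j s0 = if j = i0 then 1 else 0) ∧
  (∀ j < D.rank, j ≠ i0 → D.neg (D.simple j) ∈ negJ ∧ D.reflectRoot j s0 = s0)

/-- Second half of the certificate. -/
def CentCertB (D : ChevalleyDatum) (s0 : ℕ) (m : ℤ) (negJ : List ℕ) (inv : List ℕ) : Prop :=
  (∀ r < D.nroots, (D.IsPosRoot r ∨ r ∈ negJ) → r ≠ s0 →
    D.neg r ≠ s0 ∧ ∀ term ∈ D.commTerms r s0, m ∣ term.2.1) ∧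
  (∀ r ∈ negJ, r < D.nroots) ∧
  (∀ i < D.rank, ∀ r < D.nroots, inv.getD (D.reflectRoot i r) 0 = inv.getD r 0) ∧
  (∀ x < D.nroots, inv.getD x 0 = inv.getD s0 0 → x ≤ s0)

/-- The whole certificate. -/
def CentCert (D : ChevalleyDatum) (s0 i0 : ℕ) (m : ℤ) (negJ : List ℕ) (inv : List ℕ) : Prop :=
  CentCertA D s0 i0 negJ ∧ CentCertB D s0 m negJ inv

instance (D : ChevalleyDatum) (s0 i0 : ℕ) (negJ : List ℕ) : Decidable (CentCertA D s0 i0 negJ) := by
  unfold CentCertA
  infer_instance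

instance (D : ChevalleyDatum) (s0 : ℕ) (m : ℤ) (negJ : List ℕ) (inv : List ℕ) :
    Decidable (CentCertB D s0 m negJ inv) := by
  unfold CentCertB
  infer_instance

instance (D : ChevalleyDatum) (s0 i0 : ℕ) (m : ℤ) (negJ : List ℕ) (inv : List ℕ) :
    Decidable (CentCert D s0 i0 m negJ inv) := by
  unfold CentCert
  infer_instance

variable {s0 i0 : ℕ} {m : ℤ} {negJ : List ℕ} {inv : List ℕ}

/-! ### Commutation -/

theorem wordMat_eq_one (c : DCert D Ns) (l : List (ℕ × F)) (h : ∀ p ∈ l, p.2 = 0) : D.wordMat F l = 1 := by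
  induction l with
  | nil => exact wordMat_nil
  | cons p l ih =>
    have h1 : D.wordMat F (p :: l) = D.x F p.1 p.2 * D.wordMat F l := by
      unfold ChevalleyDatum.wordMat
      rw [List.map_cons, List.prod_cons]
    rw [h1, ih (fun q hq => h q (List.mem_cons_of_mem _ hq)), h p (by simp), mul_one]
    have := congrArg (fun g : GL D.Idx F => (g : Matrix D.Idx D.Idx F)) (xGL_zero (F := F) c p.1)
    simpa using this

/-- The root elements of the positive roots and of the roots of `negJ` commute with `X_{s0}`. -/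
theorem commute_of_cert (c : DCert D Ns) (hR2 : R2All D F) (hc : CentCert D s0 i0 m negJ inv)
    (hm : ((m : ℤ) : F) = 0) (r : ℕ) (hr : D.IsPosRoot r ∨ r ∈ negJ) (t u : F) :
    xGL c r t * xGL c s0 u = xGL c s0 u * xGL c r t := by
  obtain ⟨⟨hs0, -, -, -, -⟩, hcomm, hlt, -, -⟩ := hc
  have hrlt : r < D.nroots := by
    rcases hr with h | h
    · exact h.1
    · exact hlt r h
  by_cases hrs : r = s0
  · rw [hrs, xGL_mul, xGL_mul, add_comm]
  · obtain ⟨hneg, hterms⟩ := hcomm r hrlt hr hrs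
    have h2 := hR2 r s0 hrlt hs0 (fun h => hrs h.symm) (fun h => hneg h.symm) t u
    have h3 : D.wordMat F (D.commWord F r s0 t u) = 1 := by
      apply wordMat_eq_one c
      intro p hp
      rw [commWord_eq] at hp
      unfold termWord at hp
      rw [List.mem_map] at hp
      obtain ⟨term, hterm, rfl⟩ := hp
      obtain ⟨k, hk⟩ := hterms term hterm
      show ((term.2.1 : ℤ) : F) * (-t) ^ term.2.2.1 * u ^ term.2.2.2 = 0
      rw [hk, Int.cast_mul, hm, zero_mul, zero_mul, zero_mul]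
    rw [h3, mul_one] at h2
    apply Units.ext
    rw [Units.val_mul, Units.val_mul, xGL_coe, xGL_coe]
    exact h2.symm

/-! ### The subgroup `Q` -/

/-- The generators of `Q`. -/
def qGens (D : ChevalleyDatum) (F : Type*) [Field F] (negJ : List ℕ) : Set (GL D.Idx F) :=
  {g | ∃ (r : ℕ) (a : F), (D.IsPosRoot r ∨ r ∈ negJ) ∧ (g : Matrix D.Idx D.Idx F) = D.x F r a}

theorem closure_qGens_eq (D : ChevalleyDatum) (F : Type*) [Field F] (negJ : List ℕ) :
    Subgroup.closure (qGens D F negJ) = D.posUnipotent F ⊔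
      Subgroup.closure {g : GL D.Idx F | ∃ s ∈ negJ, ∃ a : F, (g : Matrix D.Idx D.Idx F) = D.x F s a} := by
  unfold ChevalleyDatum.posUnipotent
  rw [← Subgroup.closure_union]
  congr 1
  ext g
  constructor
  · rintro ⟨r, a, hr | hr, hg⟩
    · exact Or.inl ⟨r, a, hr, hg⟩
    · exact Or.inr ⟨r, hr, a, hg⟩
  · rintro (⟨r, a, hr, hg⟩ | ⟨r, hr, a, hg⟩)
    · exact ⟨r, a, Or.inl hr, hg⟩
    · exact ⟨r, a, Or.inr hr, hg⟩

theorem xGL_mem_q (c : DCert D Ns) (r : ℕ) (hr : D.IsPosRoot r ∨ r ∈ negJ) (a : F) :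
    xGL c r a ∈ Subgroup.closure (qGens D F negJ) :=
  Subgroup.subset_closure ⟨r, a, hr, rfl⟩

theorem wordGL_mem_q (c : DCert D Ns) (l : List (ℕ × F)) (h : ∀ p ∈ l, D.IsPosRoot p.1 ∨ p.1 ∈ negJ) :
    wordGL c l ∈ Subgroup.closure (qGens D F negJ) := by
  unfold wordGL
  apply Subgroup.list_prod_mem
  intro g hg
  rw [List.mem_map] at hg
  obtain ⟨p, hp, rfl⟩ := hg
  exact xGL_mem_q c p.1 (h p hp) p.2

theorem nWord_roots (tc : TCert D) (hc : CentCert D s0 i0 m negJ inv) (j : ℕ) (hj : j < D.rank) (hj0 : j ≠ i0)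
    (a : F) : ∀ p ∈ D.nWord (D.simple j) a, D.IsPosRoot p.1 ∨ p.1 ∈ negJ := by
  intro p hp
  unfold ChevalleyDatum.nWord at hp
  simp only [List.mem_cons, List.not_mem_nil, or_false] at hp
  rcases hp with rfl | rfl | rfl
  · exact Or.inl (tc.simple_pos j hj)
  · exact Or.inr (hc.1.2.2.2.2 j hj hj0).1
  · exact Or.inl (tc.simple_pos j hj)

theorem nGL_mem_q (c : DCert D Ns) (tc : TCert D) (hc : CentCert D s0 i0 m negJ inv) (j : ℕ) (hj : j < D.rank)
    (hj0 : j ≠ i0) : (nGL c j : GL D.Idx F) ∈ Subgroup.closure (qGens D F negJ) :=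
  wordGL_mem_q c _ (nWord_roots tc hc j hj hj0 1)

theorem hGL_mem_q (c : DCert D Ns) (tc : TCert D) (hc : CentCert D s0 i0 m negJ inv) (j : ℕ) (hj : j < D.rank)
    (hj0 : j ≠ i0) (a : F) : hGL c (D.simple j) a ∈ Subgroup.closure (qGens D F negJ) := by
  apply wordGL_mem_q c
  intro p hp
  unfold ChevalleyDatum.hWord at hp
  rw [List.mem_append] at hp
  rcases hp with hp | hp
  · exact nWord_roots tc hc j hj hj0 a p hp
  · exact nWord_roots tc hc j hj hj0 (-1) p hp

/-- `Q` centralizes `x_{s0}(u)`. -/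
theorem q_commute (c : DCert D Ns) (hR2 : R2All D F) (hc : CentCert D s0 i0 m negJ inv)
    (hm : ((m : ℤ) : F) = 0) (u : F) (g : GL D.Idx F) (hg : g ∈ Subgroup.closure (qGens D F negJ)) :
    g * xGL c s0 u = xGL c s0 u * g := by
  induction hg using Subgroup.closure_induction with
  | mem x hx =>
    obtain ⟨r, a, hr, hx⟩ := hx
    rw [eq_xGL c hx]
    exact commute_of_cert c hR2 hc hm r hr a u
  | one => rw [one_mul, mul_one]
  | mul x y _ _ ihx ihy => rw [mul_assoc, ihy, ← mul_assoc, ihx, mul_assoc]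
  | inv x _ ih =>
    have : x⁻¹ * xGL c s0 u = x⁻¹ * (xGL c s0 u * x) * x⁻¹ := by group
    rw [this, ← ih]
    group

/-- `H` normalizes `Q`. -/
theorem diagonal_le_normalizer_q (c : DCert D Ns) (tc : TCert D) (hc : CentCert D s0 i0 m negJ inv) :
    D.diagonalSubgroup F ≤ Subgroup.normalizer (Subgroup.closure (qGens D F negJ) : Set (GL D.Idx F)) := by
  intro h hh
  have hconj : ∀ k ∈ D.diagonalSubgroup F, ∀ s ∈ qGens D F negJ,
      k * s * k⁻¹ ∈ Subgroup.closure (qGens D F negJ) := by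
    intro k hk s hs
    obtain ⟨r, a, hr, hs⟩ := hs
    have hrlt : r < D.nroots := by
      rcases hr with h | h
      · exact h.1
      · exact hc.2.2.1 r h
    rw [eq_xGL c hs]
    obtain ⟨b, hb⟩ := diagonal_conj_xGL c tc k hk r hrlt a
    rw [hb]
    exact xGL_mem_q c r hr b
  apply mem_normalizer_closure
  · exact hconj h hh
  · intro s hs
    have := hconj h⁻¹ (Subgroup.inv_mem _ hh) s hs
    rwa [inv_inv] at this

/-! ### The invariant -/

theorem inv_weyl (hc : CentCert D s0 i0 m negJ inv) (σ : Equiv.Perm (Fin D.nroots)) (hσ : σ ∈ weylPerm D) :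
    ∀ r : Fin D.nroots, inv.getD ((σ r : Fin D.nroots) : ℕ) 0 = inv.getD (r : ℕ) 0 := by
  unfold weylPerm at hσ
  induction hσ using Subgroup.closure_induction with
  | mem x hx =>
    intro r
    obtain ⟨i, hi, hx⟩ := hx
    rw [hx r]
    exact hc.2.2.2.1 i hi r r.2
  | one => intro r; rfl
  | mul x y _ _ ihx ihy =>
    intro r
    show inv.getD ((x (y r) : Fin D.nroots) : ℕ) 0 = _
    rw [ihx, ihy]
  | inv x _ ih =>
    intro r
    have := ih (x⁻¹ r)
    have e : x (x⁻¹ r) = r := Equiv.apply_symm_apply x r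
    rw [e] at this
    exact this.symm

theorem inv_actsAs (c : DCert D Ns) (tc : TCert D) (ac : ACert D wl ws sc) (hc : CentCert D s0 i0 m negJ inv)
    (n : GL D.Idx F) (hn : n ∈ D.monomialSubgroup F) {π : ℕ → ℕ} (hact : ActsAs c n π) (r : ℕ)
    (hr : r < D.nroots) : inv.getD (π r) 0 = inv.getD r 0 := by
  have hσ : rootHom (F := F) c tc ac ⟨n, hn⟩ ∈ weylPerm D := by
    rw [← rootHom_range (F := F) c tc ac]
    exact ⟨_, rfl⟩
  have := inv_weyl hc _ hσ ⟨r, hr⟩
  rw [rootHom_apply, piOf_eq c tc ac ⟨n, hn⟩ hact r hr] at this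
  exact this

/-- An element of `N` fixing `s0` makes no fundamental root other than those orthogonal to `s0` negative. -/
theorem ne_i0_of_neg (c : DCert D Ns) (tc : TCert D) (ac : ACert D wl ws sc) (hc : CentCert D s0 i0 m negJ inv)
    (n : GL D.Idx F) (hn : n ∈ D.monomialSubgroup F) {π : ℕ → ℕ} (hact : ActsAs c n π) (hlin : LinMap D π)
    (hfix : π s0 = s0) (j : ℕ) (hj : j < D.rank) (hneg : D.IsNegRoot (π (D.simple j))) : j ≠ i0 := by
  rintro rfl
  have hc' := hc
  obtain ⟨⟨hs0, hi0, hpos, hcar, -⟩, -, -, hinv, hmax⟩ := hc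
  have hr' : D.reflectRoot j s0 < D.nroots := c.reflect_lt j hj s0 hs0
  obtain ⟨w', hw'⟩ := hlin.2.2 (fun k => wl.getD k 0)
  have e1 := grF_reflect c j hj w' s0 hs0
  rw [hcar j hj, if_pos rfl, mul_one] at e1
  have hpj := (tc.simple_pos j hj).1
  rw [← hw' _ hr', ← hw' s0 hs0, ← hw' _ hpj, hfix] at e1
  have hneg' := ac.gl_neg _ hneg
  unfold gl at hneg'
  rw [grRoot_eq_grF] at hneg'
  have hlt : s0 < π (D.reflectRoot j s0) := by
    apply ac.lt_of_gl_lt _ _ hs0
    unfold gl
    rw [grRoot_eq_grF, grRoot_eq_grF, e1]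
    omega
  have hinv' : inv.getD (π (D.reflectRoot j s0)) 0 = inv.getD s0 0 := by
    rw [inv_actsAs c tc ac hc' n hn hact _ hr', hinv j hj s0 hs0]
  have := hmax _ (hlin.1 _ hr') hinv'
  omega

/-- An element of `N` that maps the positive roots to positive roots lies in `H`. -/
theorem mem_diagonal_of_actsAs_pos (c : DCert D Ns) (tc : TCert D) (ac : ACert D wl ws sc) (gc : GCert D w d)
    (hR2 : R2All D F) (n : GL D.Idx F) (hn : n ∈ D.monomialSubgroup F) {π : ℕ → ℕ} (hact : ActsAs c n π)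
    (hpos : ∀ r, D.IsPosRoot r → D.IsPosRoot (π r)) : n ∈ D.diagonalSubgroup F := by
  have hσ : rootHom (F := F) c tc ac ⟨n, hn⟩ ∈ weylPerm D := by
    rw [← rootHom_range (F := F) c tc ac]
    exact ⟨_, rfl⟩
  have h0 : weylLen D (rootHom (F := F) c tc ac ⟨n, hn⟩) = 0 := by
    unfold weylLen
    rw [Finset.card_eq_zero, Finset.filter_eq_empty_iff]
    intro r _ h
    rw [rootHom_apply, piOf_eq c tc ac ⟨n, hn⟩ hact r r.2] at h
    exact ac.not_pos_and_neg _ (hpos _ h.1) h.2
  have h1 := eq_one_of_weylLen_eq_zero c tc ac gc hR2 _ hσ h0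
  have hker : (⟨n, hn⟩ : ↥(D.monomialSubgroup F)) ∈ (rootHom (F := F) c tc ac).ker := h1
  rw [rootHom_ker c tc ac gc hR2, Subgroup.mem_subgroupOf] at hker
  exact hker

/-- The stabilizer of `s0` in `N` lies in `H Q`. -/
theorem stab_mem (c : DCert D Ns) (tc : TCert D) (ac : ACert D wl ws sc) (gc : GCert D w d) (hdesc : Descent D)
    (hR2 : R2All D F) (hc : CentCert D s0 i0 m negJ inv) :
    ∀ (k : ℕ) (n : GL D.Idx F), n ∈ D.monomialSubgroup F → ∀ π : ℕ → ℕ, ActsAs c n π → LinMap D π →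
      π s0 = s0 → invCount D π = k →
      n ∈ D.diagonalSubgroup F ⊔ Subgroup.closure (qGens D F negJ) := by
  intro k
  induction k using Nat.strong_induction_on with
  | _ k ih =>
    intro n hn π hact hlin hfix hk
    by_cases hex : ∃ j < D.rank, D.IsNegRoot (π (D.simple j))
    · obtain ⟨j, hj, hneg⟩ := hex
      have hj0 := ne_i0_of_neg c tc ac hc n hn hact hlin hfix j hj hneg
      have hlt := invCount_lt c tc ac hlin j hj hneg
      have hfix' : (π ∘ D.reflectRoot j) s0 = s0 := by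
        show π (D.reflectRoot j s0) = s0
        rw [(hc.1.2.2.2.2 j hj hj0).2, hfix]
      have h1 := ih _ (hk ▸ hlt) (n * nGL c j) (Subgroup.mul_mem _ hn (nGL_mem_monomial c j hj))
        (π ∘ D.reflectRoot j) (hact.mul c (actsAs_nGL c j hj)) (hlin.comp (linMap_reflect c j hj)) hfix' rfl
      have h2 : (nGL c j : GL D.Idx F)⁻¹ ∈ D.diagonalSubgroup F ⊔ Subgroup.closure (qGens D F negJ) :=
        Subgroup.inv_mem _ (Subgroup.mem_sup_right (nGL_mem_q c tc hc j hj hj0))
      have h3 := Subgroup.mul_mem _ h1 h2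
      rwa [mul_inv_cancel_right] at h3
    · have hsimple : ∀ i < D.rank, D.IsPosRoot (π (D.simple i)) := by
        intro i hi
        rcases ac.posOrNeg _ (hlin.1 _ (tc.simple_pos i hi).1) with h | h
        · exact h
        · exact absurd ⟨i, hi, h⟩ hex
      have hpos := hlin.pos c tc ac hdesc hsimple
      exact Subgroup.mem_sup_left (mem_diagonal_of_actsAs_pos c tc ac gc hR2 n hn hact hpos)

/-! ### The centralizer in `H` -/

theorem xGL_param_inj (c : DCert D Ns) (tc : TCert D) (ac : ACert D wl ws sc) (r : ℕ) (hr : r < D.nroots)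
    (a b : F) (h : D.x F r a = D.x F r b) : a = b := by
  have h1 : xGL c r a = xGL c r b := Units.ext h
  have h2 : xGL c r (a - b) = 1 := by
    rw [sub_eq_add_neg, ← xGL_mul, ← xGL_inv, h1, mul_inv_cancel]
  have h3 : xGL c r (a - b) ∈ D.diagonalSubgroup F := by
    rw [h2]
    exact Subgroup.one_mem _
  have := eq_zero_of_xGL_mem_diagonal c tc ac r hr _ h3
  exact sub_eq_zero.mp this

/-- An element of `H` that centralizes `x_{s0}(1)` lies in `Q`. -/
theorem diagonal_mem_q (c : DCert D Ns) (tc : TCert D) (ac : ACert D wl ws sc) (hc : CentCert D s0 i0 m negJ inv)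
    (h : GL D.Idx F) (hh : h ∈ D.diagonalSubgroup F) (hcomm : h * xGL c s0 1 = xGL c s0 1 * h) :
    h ∈ Subgroup.closure (qGens D F negJ) := by
  have hs0 := hc.1.1
  have hi0 := hc.1.2.1
  have hcar := hc.1.2.2.2.1
  obtain ⟨τ, hτ, hk⟩ := exists_torus_of_mem c tc h hh
  have e1 := torus_conj c tc τ hτ s0 hs0 (1 : F)
  rw [mul_one] at e1
  have e2 : (h : Matrix D.Idx D.Idx F) * D.x F s0 1 = D.x F s0 1 * (h : Matrix D.Idx D.Idx F) := by
    have := congrArg (fun g : GL D.Idx F => (g : Matrix D.Idx D.Idx F)) hcomm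
    simpa using this
  rw [hk, e1] at e2
  have e3 : D.x F s0 (torusChar D τ s0) = D.x F s0 1 := by
    have hinv : torusMat D τ * ((h⁻¹ : GL D.Idx F) : Matrix D.Idx D.Idx F) = 1 := by
      rw [← hk, ← Units.val_mul, mul_inv_cancel]
      rfl
    have := congrArg (fun M => M * ((h⁻¹ : GL D.Idx F) : Matrix D.Idx D.Idx F)) e2
    simp only [mul_assoc, hinv, mul_one] at this
    exact this
  have e4 : torusChar D τ s0 = 1 := xGL_param_inj c tc ac s0 hs0 _ _ e3
  have e5 : τ i0 = 1 := by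
    unfold torusChar at e4
    rw [Finset.prod_eq_single i0] at e4
    · rwa [hcar i0 hi0, if_pos rfl, zpow_one] at e4
    · intro j hj hji
      rw [Finset.mem_range] at hj
      rw [hcar j hj, if_neg hji, zpow_zero]
    · intro hni
      exact absurd (Finset.mem_range.mpr hi0) hni
  -- the partial products lie in `Q`
  have key : ∀ k ≤ D.rank, ∃ g ∈ Subgroup.closure (qGens D F negJ),
      (g : Matrix D.Idx D.Idx F) = diagMat D (fun s => ∏ i ∈ Finset.range k, τ i ^ D.cartan i s) := by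
    intro k
    induction k with
    | zero =>
      intro _
      refine ⟨1, Subgroup.one_mem _, ?_⟩
      simp only [Finset.range_zero, Finset.prod_empty]
      rw [diagMat_one]
      rfl
    | succ k ih =>
      intro hk1
      obtain ⟨g, hg, hgm⟩ := ih (by omega)
      have hkr : k < D.rank := by omega
      by_cases hki : k = i0
      · refine ⟨g, hg, ?_⟩
        rw [hgm]
        apply diagMat_congr
        intro s _
        rw [Finset.prod_range_succ, hki, e5, one_zpow, mul_one]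
      · refine ⟨g * hGL c (D.simple k) (τ k), Subgroup.mul_mem _ hg (hGL_mem_q c tc hc k hkr hki _), ?_⟩
        rw [Units.val_mul, hgm, hGL_coe, hMat_all c tc _ (tc.simple_pos k hkr).1 _ (hτ k), diagMat_mul]
        apply diagMat_congr
        intro s _
        rw [Finset.prod_range_succ, tc.cartanR_simple k hkr]
  obtain ⟨g, hg, hgm⟩ := key D.rank le_rfl
  have : h = g := by
    apply Units.ext
    rw [hk, hgm]
    rfl
  rw [this]
  exact hg

/-! ### The centralizer -/

/-- `B` normalizes `X_{s0}`: conjugates of `x_{s0}(1)` by elements of `B`. -/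
theorem borel_conj (c : DCert D Ns) (tc : TCert D) (hR2 : R2All D F) (hc : CentCert D s0 i0 m negJ inv)
    (hm : ((m : ℤ) : F) = 0) (b : GL D.Idx F) (hb : b ∈ D.borelSubgroup F) (u : F) :
    ∃ a : F, b⁻¹ * xGL c s0 u * b = xGL c s0 a := by
  obtain ⟨u1, hu1, h1, hh1, rfl⟩ := exists_mul_of_mem_sup _ _ (diagonal_le_normalizer_pos c tc) hb
  have hq : u1 ∈ Subgroup.closure (qGens D F negJ) := by
    rw [closure_qGens_eq]
    exact Subgroup.mem_sup_left hu1
  have e := q_commute c hR2 hc hm u u1 hq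
  obtain ⟨a, ha⟩ := diagonal_conj_xGL c tc h1⁻¹ (Subgroup.inv_mem _ hh1) s0 hc.1.1 u
  refine ⟨a, ?_⟩
  rw [← ha, inv_inv]
  have : (u1 * h1)⁻¹ * xGL c s0 u * (u1 * h1) = h1⁻¹ * (u1⁻¹ * (xGL c s0 u * u1)) * h1 := by group
  rw [this, ← e]
  group

/-- The centralizer of `x_{s0}(1)` in the group is `Q`. -/
theorem centralizer_eq (c : DCert D Ns) (tc : TCert D) (ac : ACert D wl ws sc) (gc : GCert D w d)
    (hdesc : Descent D) (hR2 : R2All D F) (hc : CentCert D s0 i0 m negJ inv) (hm : ((m : ℤ) : F) = 0)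
    (t : GL D.Idx F) (ht : (t : Matrix D.Idx D.Idx F) = D.x F s0 1) :
    D.group F ⊓ Subgroup.centralizer {t} = Subgroup.closure (qGens D F negJ) := by
  have htx := eq_xGL c ht
  subst htx
  have hs0 := hc.1.1
  apply le_antisymm
  · intro g hg
    rw [Subgroup.mem_inf] at hg
    obtain ⟨hgG, hgC⟩ := hg
    rw [Subgroup.mem_centralizer_iff] at hgC
    have hgt : xGL c s0 1 * g = g * xGL c s0 1 := hgC _ rfl
    obtain ⟨b, hb, n, hn, u, hu, rfl⟩ := canonical_exists c tc ac gc hdesc hR2 g hgG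
    have huU : u ∈ D.posUnipotent F := flipGens_le_pos n hu
    have huQ : u ∈ Subgroup.closure (qGens D F negJ) := by
      rw [closure_qGens_eq]
      exact Subgroup.mem_sup_left huU
    have hut := q_commute c hR2 hc hm 1 u huQ
    obtain ⟨π, hact, hlin⟩ := nAct_of_mem_monomial c tc n hn
    obtain ⟨hπs, a, ha, ea⟩ := hact s0 hs0
    obtain ⟨a', ea'⟩ := borel_conj c tc hR2 hc hm b hb 1
    -- `n t n⁻¹ = b⁻¹ t b`
    have e1 : n * xGL c s0 1 * n⁻¹ = b⁻¹ * xGL c s0 1 * b := by
      have h1 : xGL c s0 1 * (b * n) = b * n * xGL c s0 1 := by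
        have h2 : xGL c s0 1 * (b * n * u) * u⁻¹ = b * n * u * xGL c s0 1 * u⁻¹ := by rw [hgt]
        have h3 : b * n * u * xGL c s0 1 * u⁻¹ = b * n * (u * xGL c s0 1) * u⁻¹ := by group
        rw [h3, hut] at h2
        have h4 : xGL c s0 1 * (b * n * u) * u⁻¹ = xGL c s0 1 * (b * n) := by group
        have h5 : b * n * (xGL c s0 1 * u) * u⁻¹ = b * n * xGL c s0 1 := by group
        rw [h4, h5] at h2
        exact h2
      have h6 : n * xGL c s0 1 * n⁻¹ = b⁻¹ * (b * n * xGL c s0 1) * n⁻¹ := by group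
      rw [h6, ← h1]
      group
    rw [ea 1, ea'] at e1
    have e2 : D.x F (π s0) (a * 1) = D.x F s0 a' := by
      have := congrArg (fun g : GL D.Idx F => (g : Matrix D.Idx D.Idx F)) e1
      simpa using this
    have hfix : π s0 = s0 :=
      (root_eq_of_x_eq c tc ac (π s0) s0 hπs hs0 (a * 1) a' (by rwa [mul_one]) e2).symm
    have hnQ := stab_mem c tc ac gc hdesc hR2 hc _ n hn π hact hlin hfix rfl
    -- the product lies in `Q H`
    have hbQ : b ∈ D.diagonalSubgroup F ⊔ Subgroup.closure (qGens D F negJ) := by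
      have : D.borelSubgroup F ≤ D.diagonalSubgroup F ⊔ Subgroup.closure (qGens D F negJ) := by
        unfold ChevalleyDatum.borelSubgroup
        rw [sup_le_iff]
        refine ⟨?_, le_sup_left⟩
        rw [closure_qGens_eq]
        exact le_trans le_sup_left le_sup_right
      exact this hb
    have hgQ : b * n * u ∈ Subgroup.closure (qGens D F negJ) ⊔ D.diagonalSubgroup F := by
      rw [sup_comm]
      exact Subgroup.mul_mem _ (Subgroup.mul_mem _ hbQ hnQ) (Subgroup.mem_sup_right huQ)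
    obtain ⟨q, hq, h, hh, e3⟩ := exists_mul_of_mem_sup _ _ (diagonal_le_normalizer_q c tc hc) hgQ
    have hqt := q_commute c hR2 hc hm 1 q hq
    have hht : h * xGL c s0 1 = xGL c s0 1 * h := by
      have h1 : h = q⁻¹ * (b * n * u) := by rw [e3]; group
      rw [h1]
      have h2 : q⁻¹ * (b * n * u) * xGL c s0 1 = q⁻¹ * (xGL c s0 1 * (b * n * u)) := by
        rw [hgt]
        group
      rw [h2]
      have h3 : q⁻¹ * (xGL c s0 1 * (b * n * u)) = q⁻¹ * (xGL c s0 1 * q) * q⁻¹ * (b * n * u) := by group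
      rw [h3, ← hqt]
      group
    rw [e3]
    exact Subgroup.mul_mem _ hq (diagonal_mem_q c tc ac hc h hh hht)
  · rw [le_inf_iff]
    constructor
    · rw [Subgroup.closure_le]
      rintro g ⟨r, a, -, hg⟩
      rw [eq_xGL c hg]
      exact xGL_mem_group c r a
    · intro g hg
      rw [Subgroup.mem_centralizer_iff]
      intro y hy
      rw [Set.mem_singleton_iff] at hy
      subst hy
      exact (q_commute c hR2 hc hm 1 g hg).symm

end Cfsg.Agent.Lib.Helper18_ChevCent
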