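/-
Chevalley groups (helper81): uniqueness of the parameters of a product of root elements over a list of distinct
roots on which an arbitrary additive function `grRoot D wg` is at least `1` (generalization of
`Helper18_ChevUni.unique_word`, which treats the positive roots).
-/
import Mathlib
import Cfsg.Agent.Lib.Helper18_ChevUni

set_option autoImplicit false
set_option linter.unusedSectionVars false
set_option linter.unusedVariables false

namespace Cfsg.Agent.Lib.Helper81_StUniq

open Cfsg Cfsg.Lie Cfsg.Agent.Lib.Helper18_ChevFast Cfsg.Agent.Lib.Helper18_ChevEngine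
  Cfsg.Agent.Lib.Helper18_ChevR1 Cfsg.Agent.Lib.Helper18_ChevN Cfsg.Agent.Lib.Helper18_ChevR4
  Cfsg.Agent.Lib.Helper18_ChevSimple Cfsg.Agent.Lib.Helper18_ChevSimple2 Cfsg.Agent.Lib.Helper18_ChevFacts
  Cfsg.Agent.Lib.Helper18_ChevWeyl Cfsg.Agent.Lib.Helper18_ChevDiag Cfsg.Agent.Lib.Helper18_ChevCar
  Cfsg.Agent.Lib.Helper18_ChevTorus Cfsg.Agent.Lib.Helper18_ChevGL Cfsg.Agent.Lib.Helper18_ChevComm
  Cfsg.Agent.Lib.Helper18_ChevComm2 Cfsg.Agent.Lib.Helper18_MatTri Cfsg.Agent.Lib.Helper18_ChevTri
  Cfsg.Agent.Lib.Helper18_ChevBorel Cfsg.Agent.Lib.Helper18_ChevAdd Cfsg.Agent.Lib.Helper18_ChevUni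

variable {D : ChevalleyDatum} {Ns : List NData} {F : Type*} [Field F]
variable {wl : List ℤ} {ws : List (List ℤ)} {sc : ℤ}

/-- Uniqueness of the parameters of a product of root elements over a list of distinct roots on which the additive
function `grRoot D wg` is at least `1`. -/
theorem unique_word_gr (c : DCert D Ns) (tc : TCert D) (ac : ACert D wl ws sc) (wg : List ℤ) (L : List ℕ)
    (hL : L.Nodup) (hpos : ∀ r ∈ L, r < D.nroots ∧ 1 ≤ grRoot D wg r) (t t' : ℕ → F)
    (h : D.wordMat F (L.map fun r => (r, t r)) = D.wordMat F (L.map fun r => (r, t' r))) :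
    ∀ r ∈ L, t r = t' r := by
  have hg := isGrading_w c tc wg
  have key : ∀ n : ℕ, ∀ r ∈ L, (grRoot D wg r).toNat = n → t r = t' r := by
    intro n
    induction n using Nat.strong_induction_on with
    | _ n ih =>
      intro r hr hn
      have hrp := hpos r hr
      have hm : 1 ≤ grRoot D wg r := hrp.2
      have hlow : ∀ s ∈ L, grRoot D wg s < grRoot D wg r → t s = t' s := by
        intro s hs hlt
        have hsp := (hpos s hs).2
        exact ih (grRoot D wg s).toNat (by omega) s hs rfl
      let LL : List (Matrix D.Idx D.Idx F × Matrix D.Idx D.Idx F) :=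
        L.map fun s => (D.x F s (t s), D.x F s (t' s))
      have hLL : ∀ p ∈ LL, Raises (grIdx D (grRoot D wg)) 1 (p.1 - 1) ∧
          Raises (grIdx D (grRoot D wg)) 1 (p.2 - 1) ∧
          Raises (grIdx D (grRoot D wg)) (grRoot D wg r) (p.1 - p.2) := by
        intro p hp
        rw [List.mem_map] at hp
        obtain ⟨s, hs, rfl⟩ := hp
        have hsp := hpos s hs
        have hs1 : 1 ≤ grRoot D wg s := hsp.2
        refine ⟨x_sub_one_raises hg s hsp.1 1 (le_refl _) hs1 _,
          x_sub_one_raises hg s hsp.1 1 (le_refl _) hs1 _, ?_⟩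
        by_cases hlt : grRoot D wg s < grRoot D wg r
        · simp only
          rw [hlow s hs hlt, sub_self]
          exact raises_zero _
        · have hle : grRoot D wg r ≤ grRoot D wg s := by omega
          have e : D.x F s (t s) - D.x F s (t' s) = (D.x F s (t s) - 1) - (D.x F s (t' s) - 1) := by abel
          simp only
          rw [e]
          exact (x_sub_one_raises hg s hsp.1 _ hm hle _).sub (x_sub_one_raises hg s hsp.1 _ hm hle _)
      obtain ⟨-, -, -, hE⟩ := prod_sub_prod_raises hm LL hLL
      have e1 : (LL.map Prod.fst).prod = D.wordMat F (L.map fun r => (r, t r)) := by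
        unfold ChevalleyDatum.wordMat
        simp only [LL, List.map_map]
        rfl
      have e2 : (LL.map Prod.snd).prod = D.wordMat F (L.map fun r => (r, t' r)) := by
        unfold ChevalleyDatum.wordMat
        simp only [LL, List.map_map]
        rfl
      rw [e1, e2, h, sub_self, zero_sub] at hE
      have hnr := DCert.neg_lt c r hrp.1
      apply sub_eq_zero.mp
      apply eq_zero_of_cor_mul ac r hrp.1
      intro i hi
      have hz := hE (Sum.inl ⟨i, hi⟩) (Sum.inr ⟨D.neg r, hnr⟩) (by
        simp only [grIdx]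
        rw [grRoot_neg c tc wg r hrp.1]
        omega)
      rw [Matrix.neg_apply, neg_eq_zero, list_sum_apply] at hz
      simp only [LL, List.map_map] at hz
      rw [sum_map_single L hL r hr _ (by
        intro s hs hsr
        simp only [Function.comp]
        rw [Matrix.sub_apply, x_entry_inl_neg c tc ac r s hrp.1 (hpos s hs).1 hnr,
          x_entry_inl_neg c tc ac r s hrp.1 (hpos s hs).1 hnr]
        simp only [if_neg hsr, sub_self])] at hz
      simp only [Function.comp] at hz
      rw [Matrix.sub_apply, x_entry_inl_neg c tc ac r r hrp.1 hrp.1 hnr,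
        x_entry_inl_neg c tc ac r r hrp.1 hrp.1 hnr] at hz
      simp only [if_true] at hz
      rw [mul_sub]
      exact hz
  intro r hr
  exact key _ r hr rfl

end Cfsg.Agent.Lib.Helper81_StUniq
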