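/-
Steinberg's presentation (helper81), abstract part 1: a group `Γ` with elements `X r t` satisfying Steinberg's
relations (R1), (R2) of a Chevalley datum; products of root elements over sets of roots on which an additive
function is positive; a homomorphism to the Chevalley group matching the generators is injective on the subgroup
generated by the root elements of such a set.
-/
import Mathlib
import Cfsg.Agent.Lib.Helper81_StUniq
import Cfsg.Agent.Lib.Helper18_ChevCent

set_option autoImplicit false
set_option linter.unusedSectionVars false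
set_option linter.unusedVariables false

namespace Cfsg.Agent.Lib.Helper81_StAbs

open Cfsg Cfsg.Lie Cfsg.Agent.Lib.Helper18_ChevFast Cfsg.Agent.Lib.Helper18_ChevEngine
  Cfsg.Agent.Lib.Helper18_ChevR1 Cfsg.Agent.Lib.Helper18_ChevN Cfsg.Agent.Lib.Helper18_ChevR4
  Cfsg.Agent.Lib.Helper18_ChevSimple Cfsg.Agent.Lib.Helper18_ChevSimple2 Cfsg.Agent.Lib.Helper18_ChevFacts
  Cfsg.Agent.Lib.Helper18_ChevWeyl Cfsg.Agent.Lib.Helper18_ChevDiag Cfsg.Agent.Lib.Helper18_ChevCar
  Cfsg.Agent.Lib.Helper18_ChevTorus Cfsg.Agent.Lib.Helper18_ChevGL Cfsg.Agent.Lib.Helper18_ChevComm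
  Cfsg.Agent.Lib.Helper18_ChevComm2 Cfsg.Agent.Lib.Helper18_MatTri Cfsg.Agent.Lib.Helper18_ChevTri
  Cfsg.Agent.Lib.Helper18_ChevBorel Cfsg.Agent.Lib.Helper18_ChevAdd Cfsg.Agent.Lib.Helper18_ChevUni
  Cfsg.Agent.Lib.Helper81_StUniq

variable {D : ChevalleyDatum} {Ns : List NData} {F : Type*} [Field F] {Γ : Type*} [Group Γ]
variable {wl : List ℤ} {ws : List (List ℤ)} {sc : ℤ}

/-- The product of the elements `X r t` along a word. -/
def wordP (X : ℕ → F → Γ) (w : List (ℕ × F)) : Γ := (w.map fun p => X p.1 p.2).prod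

theorem wordP_nil (X : ℕ → F → Γ) : wordP X [] = 1 := by
  unfold wordP
  simp

theorem wordP_cons (X : ℕ → F → Γ) (p : ℕ × F) (w : List (ℕ × F)) :
    wordP X (p :: w) = X p.1 p.2 * wordP X w := by
  unfold wordP
  rw [List.map_cons, List.prod_cons]

theorem wordP_append (X : ℕ → F → Γ) (w w' : List (ℕ × F)) :
    wordP X (w ++ w') = wordP X w * wordP X w' := by
  unfold wordP
  rw [List.map_append, List.prod_append]

theorem wordP_mem (X : ℕ → F → Γ) (K : Subgroup Γ) (w : List (ℕ × F)) (h : ∀ p ∈ w, X p.1 p.2 ∈ K) :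
    wordP X w ∈ K := by
  unfold wordP
  apply Subgroup.list_prod_mem
  intro g hg
  rw [List.mem_map] at hg
  obtain ⟨p, hp, rfl⟩ := hg
  exact h p hp

theorem map_wordP {Γ' : Type*} [Group Γ'] (π : Γ →* Γ') (X : ℕ → F → Γ) (w : List (ℕ × F)) :
    π (wordP X w) = wordP (fun r t => π (X r t)) w := by
  unfold wordP
  rw [map_list_prod, List.map_map]
  rfl

/-- Steinberg's relations (R1) and (R2) for the elements `X r t` of a group. -/
structure StGrp (D : ChevalleyDatum) (X : ℕ → F → Γ) : Prop where
  add : ∀ r < D.nroots, ∀ t u : F, X r t * X r u = X r (t + u)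
  comm : ∀ r s, r < D.nroots → s < D.nroots → s ≠ r → s ≠ D.neg r → ∀ t u : F,
    (X s u)⁻¹ * (X r t)⁻¹ * X s u * X r t = wordP X (D.commWord F r s t u)

namespace StGrp

variable {X : ℕ → F → Γ}

theorem zero (hX : StGrp D X) (r : ℕ) (hr : r < D.nroots) : X r 0 = 1 := by
  have := hX.add r hr 0 0
  rw [add_zero] at this
  exact mul_eq_left.mp this

theorem inv (hX : StGrp D X) (r : ℕ) (hr : r < D.nroots) (t : F) : (X r t)⁻¹ = X r (-t) := by
  rw [inv_eq_iff_mul_eq_one, hX.add r hr, add_neg_cancel, hX.zero r hr]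

/-- The commutator formula as a conjugation formula. -/
theorem conj (hX : StGrp D X) {r s : ℕ} (hr : r < D.nroots) (hs : s < D.nroots) (h1 : s ≠ r) (h2 : s ≠ D.neg r)
    (t u : F) : (X r t)⁻¹ * X s u * X r t = X s u * wordP X (D.commWord F r s t u) := by
  rw [← hX.comm r s hr hs h1 h2 t u]
  group

/-- If the roots of the commutator formula for `(r, s)` have their root elements in `K`, conjugation by `X r t`
maps `X s u` into `K`, provided `X s u` is in `K`. -/
theorem conj_mem (hX : StGrp D X) {r s : ℕ} (hr : r < D.nroots) (hs : s < D.nroots) (h1 : s ≠ r)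
    (h2 : s ≠ D.neg r) (K : Subgroup Γ) (hsK : ∀ u : F, X s u ∈ K)
    (hk : ∀ k ∈ D.commTerms r s, ∀ a : F, X k.1 a ∈ K) (t u : F) :
    (X r t)⁻¹ * X s u * X r t ∈ K := by
  rw [hX.conj hr hs h1 h2]
  apply Subgroup.mul_mem _ (hsK u)
  apply wordP_mem
  intro p hp
  unfold ChevalleyDatum.commWord at hp
  rw [List.mem_map] at hp
  obtain ⟨k, hk', rfl⟩ := hp
  exact hk k hk' _

end StGrp

/-! ### Products over lists of roots ordered by an additive function -/

/-- The generators attached to a list of roots. -/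
def lGens (X : ℕ → F → Γ) (L : List ℕ) : Set Γ := {y | ∃ s ∈ L, ∃ t : F, y = X s t}

/-- A list of distinct roots in range, on which `g ≥ 1`, ordered by `g`, closed under the commutator formula. -/
structure GList (D : ChevalleyDatum) (g : ℕ → ℤ) (L : List ℕ) : Prop where
  nodup : L.Nodup
  sorted : L.Pairwise (fun a b => g a ≤ g b)
  lt : ∀ a ∈ L, a < D.nroots
  pos : ∀ a ∈ L, 1 ≤ g a
  closed : ∀ a ∈ L, ∀ b ∈ L, a ≠ b → ∀ k ∈ D.commTerms a b, k.1 ∈ L

theorem GList.tail (hrows : RowsOK D) (hin : chainInRange D = true) {g : ℕ → ℤ} (hg : IsGrading D g) {a : ℕ}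
    {L : List ℕ} (h : GList D g (a :: L)) : GList D g L where
  nodup := (List.nodup_cons.mp h.nodup).2
  sorted := (List.pairwise_cons.mp h.sorted).2
  lt := fun x hx => h.lt x (List.mem_cons_of_mem _ hx)
  pos := fun x hx => h.pos x (List.mem_cons_of_mem _ hx)
  closed := by
    intro x hx y hy hxy k hk
    have hx' : x ∈ a :: L := List.mem_cons_of_mem _ hx
    have hy' : y ∈ a :: L := List.mem_cons_of_mem _ hy
    have h1 := h.closed x hx' y hy' hxy k hk
    obtain ⟨-, hi, hj, hgk⟩ := commTerms_grading hrows hin hg x y (h.lt x hx') (h.lt y hy') k hk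
    rcases List.mem_cons.mp h1 with h4 | h4
    · exfalso
      have hax := (List.pairwise_cons.mp h.sorted).1 x hx
      have hpx := h.pos x hx'
      have hpy := h.pos y hy'
      rw [h4] at hgk
      have h5 : (1 : ℤ) ≤ (k.2.2.1 : ℤ) := by exact_mod_cast hi
      have h6 : (1 : ℤ) ≤ (k.2.2.2 : ℤ) := by exact_mod_cast hj
      nlinarith
    · exact h4

/-- Every element of the group generated by the root elements of such a list is a product of root elements in the
order of the list. -/
theorem exists_word_of_glist {X : ℕ → F → Γ} (hX : StGrp D X) (hrows : RowsOK D) (hin : chainInRange D = true)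
    {g : ℕ → ℤ} (hg : IsGrading D g) :
    ∀ (L : List ℕ), GList D g L → ∀ y ∈ Subgroup.closure (lGens X L),
      ∃ t : ℕ → F, y = wordP X (L.map fun r => (r, t r))
  | [], _, y, hy => by
    have : lGens X ([] : List ℕ) = ∅ := by
      ext y
      simp [lGens]
    rw [this, Subgroup.closure_empty, Subgroup.mem_bot] at hy
    exact ⟨fun _ => 0, by rw [hy, List.map_nil, wordP_nil]⟩
  | r :: L, hcl, y, hy => by
    have ih := exists_word_of_glist hX hrows hin hg L (hcl.tail hrows hin hg)
    have hrL : ∀ b ∈ L, g r ≤ g b := (List.pairwise_cons.mp hcl.sorted).1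
    have hrnot : r ∉ L := (List.nodup_cons.mp hcl.nodup).1
    have hrlt := hcl.lt r (by simp)
    have hrpos := hcl.pos r (by simp)
    -- `X r t` normalizes the group of the tail
    have key : ∀ (t : F), ∀ z ∈ lGens X L, (X r t)⁻¹ * z * X r t ∈ Subgroup.closure (lGens X L) := by
      intro t z hz
      obtain ⟨b, hb, u, rfl⟩ := hz
      have hb' : b ∈ r :: L := List.mem_cons_of_mem _ hb
      have hbr : b ≠ r := by
        rintro rfl
        exact hrnot hb
      have hblt := hcl.lt b hb'
      have hbpos := hcl.pos b hb'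
      have hbn : b ≠ D.neg r := by
        intro h
        have := hg.neg r hrlt
        rw [h] at hbpos
        unfold ChevalleyDatum.neg at hbpos
        omega
      apply hX.conj_mem hrlt hblt hbr hbn
      · intro u'
        exact Subgroup.subset_closure ⟨b, hb, u', rfl⟩
      · intro k hk a
        have h1 := hcl.closed r (by simp) b hb' (Ne.symm hbr) k hk
        obtain ⟨-, hi, hj, hgk⟩ := commTerms_grading hrows hin hg r b hrlt hblt k hk
        have h4 : k.1 ∈ L := by
          rcases List.mem_cons.mp h1 with h | h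
          · exfalso
            rw [h] at hgk
            have h5 : (1 : ℤ) ≤ (k.2.2.1 : ℤ) := by exact_mod_cast hi
            have h6 : (1 : ℤ) ≤ (k.2.2.2 : ℤ) := by exact_mod_cast hj
            nlinarith
          · exact h
        exact Subgroup.subset_closure ⟨k.1, h4, a, rfl⟩
    have hnorm : ∀ t : F, X r t ∈ Subgroup.normalizer (Subgroup.closure (lGens X L) : Set Γ) := by
      intro t
      apply mem_normalizer_closure
      · intro z hz
        have := key (-t) z hz
        rwa [← hX.inv r hrlt, inv_inv] at this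
      · intro z hz
        exact key t z hz
    have hconj : ∀ (t : F), ∀ z ∈ Subgroup.closure (lGens X L),
        (X r t)⁻¹ * z * X r t ∈ Subgroup.closure (lGens X L) := by
      intro t z hz
      have h1 := hnorm (-t)
      rw [← hX.inv r hrlt] at h1
      have := (Subgroup.mem_normalizer_iff.mp h1 z).mp hz
      rwa [inv_inv] at this
    -- every element is `X r t * z` with `z` in the group of the tail
    have hprod : ∃ (t0 : F), ∃ z ∈ Subgroup.closure (lGens X L), y = X r t0 * z := by
      induction hy using Subgroup.closure_induction with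
      | mem y hy =>
        obtain ⟨s, hs, t, rfl⟩ := hy
        rcases List.mem_cons.mp hs with rfl | hs
        · exact ⟨t, 1, Subgroup.one_mem _, by rw [mul_one]⟩
        · refine ⟨0, X s t, Subgroup.subset_closure ⟨s, hs, t, rfl⟩, by rw [hX.zero r hrlt, one_mul]⟩
      | one => exact ⟨0, 1, Subgroup.one_mem _, by rw [hX.zero r hrlt, one_mul]⟩
      | mul a b _ _ iha ihb =>
        obtain ⟨t1, y1, hy1, rfl⟩ := iha
        obtain ⟨t2, y2, hy2, rfl⟩ := ihb
        refine ⟨t1 + t2, ((X r t2)⁻¹ * y1 * X r t2) * y2,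
          Subgroup.mul_mem _ (hconj t2 y1 hy1) hy2, ?_⟩
        rw [← hX.add r hrlt]
        group
      | inv a _ iha =>
        obtain ⟨t1, y1, hy1, rfl⟩ := iha
        refine ⟨-t1, (X r (-t1))⁻¹ * y1⁻¹ * X r (-t1), hconj (-t1) _ (Subgroup.inv_mem _ hy1), ?_⟩
        rw [← hX.inv r hrlt]
        group
    obtain ⟨t0, z, hz, rfl⟩ := hprod
    obtain ⟨t', rfl⟩ := ih z hz
    refine ⟨Function.update t' r t0, ?_⟩
    rw [List.map_cons, wordP_cons]
    simp only [Function.update_self]
    congr 2
    apply List.map_congr_left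
    intro b hb
    have : b ≠ r := by
      rintro rfl
      exact hrnot hb
    rw [Function.update_of_ne this]

/-! ### The full list of the roots on which an additive function is positive -/

/-- The roots on which `g ≥ 1`, ordered by `g`. -/
def fullList (D : ChevalleyDatum) (g : ℕ → ℤ) : List ℕ :=
  ((List.range D.nroots).filter fun s => decide (1 ≤ g s)).mergeSort fun a b => decide (g a ≤ g b)

theorem mem_fullList (g : ℕ → ℤ) (s : ℕ) : s ∈ fullList D g ↔ s < D.nroots ∧ 1 ≤ g s := by
  unfold fullList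
  rw [List.mem_mergeSort, List.mem_filter, List.mem_range, decide_eq_true_eq]

theorem glist_fullList (hrows : RowsOK D) (hin : chainInRange D = true) {g : ℕ → ℤ} (hg : IsGrading D g) :
    GList D g (fullList D g) where
  nodup := by
    unfold fullList
    exact (List.mergeSort_perm _ _).nodup_iff.mpr (List.nodup_range.filter _)
  sorted := by
    unfold fullList
    have := List.pairwise_mergeSort (le := fun a b => decide (g a ≤ g b))
      (fun a b c hab hbc => by
        simp only [decide_eq_true_eq] at hab hbc ⊢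
        omega)
      (fun a b => by
        simp only [Bool.or_eq_true, decide_eq_true_eq]
        omega)
      ((List.range D.nroots).filter fun s => decide (1 ≤ g s))
    exact this.imp (fun h => by simpa using h)
  lt := fun a ha => ((mem_fullList g a).mp ha).1
  pos := fun a ha => ((mem_fullList g a).mp ha).2
  closed := by
    intro a ha b hb _ k hk
    rw [mem_fullList] at ha hb ⊢
    obtain ⟨hk1, hi, hj, hgk⟩ := commTerms_grading hrows hin hg a b ha.1 hb.1 k hk
    refine ⟨hk1, ?_⟩
    rw [hgk]
    have h5 : (1 : ℤ) ≤ (k.2.2.1 : ℤ) := by exact_mod_cast hi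
    have h6 : (1 : ℤ) ≤ (k.2.2.2 : ℤ) := by exact_mod_cast hj
    nlinarith [ha.2, hb.2]

/-- The subgroup generated by the root elements of the roots on which `g ≥ 1`. -/
def SG (D : ChevalleyDatum) (X : ℕ → F → Γ) (g : ℕ → ℤ) : Subgroup Γ :=
  Subgroup.closure {y | ∃ s < D.nroots, 1 ≤ g s ∧ ∃ t : F, y = X s t}

theorem X_mem_SG (X : ℕ → F → Γ) (g : ℕ → ℤ) {s : ℕ} (hs : s < D.nroots) (hg : 1 ≤ g s) (t : F) :
    X s t ∈ SG D X g := Subgroup.subset_closure ⟨s, hs, hg, t, rfl⟩

theorem SG_eq (X : ℕ → F → Γ) (g : ℕ → ℤ) : SG D X g = Subgroup.closure (lGens X (fullList D g)) := by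
  unfold SG lGens
  congr 1
  ext y
  constructor
  · rintro ⟨s, hs, hg, t, rfl⟩
    exact ⟨s, (mem_fullList g s).mpr ⟨hs, hg⟩, t, rfl⟩
  · rintro ⟨s, hs, t, rfl⟩
    rw [mem_fullList] at hs
    exact ⟨s, hs.1, hs.2, t, rfl⟩

/-- Every element of `SG` is a product of root elements in the order of the full list. -/
theorem exists_word_SG {X : ℕ → F → Γ} (hX : StGrp D X) (hrows : RowsOK D) (hin : chainInRange D = true)
    {g : ℕ → ℤ} (hg : IsGrading D g) (y : Γ) (hy : y ∈ SG D X g) :
    ∃ t : ℕ → F, y = wordP X ((fullList D g).map fun r => (r, t r)) := by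
  rw [SG_eq] at hy
  exact exists_word_of_glist hX hrows hin hg _ (glist_fullList hrows hin hg) y hy

/-! ### Injectivity of a homomorphism to the Chevalley group on `SG` -/

/-- A homomorphism to the general linear group matching the generators with the root elements. -/
def IsLift (c : DCert D Ns) (X : ℕ → F → Γ) (π : Γ →* GL D.Idx F) : Prop :=
  ∀ r < D.nroots, ∀ t : F, π (X r t) = xGL c r t

theorem map_wordP_lift (c : DCert D Ns) {X : ℕ → F → Γ} {π : Γ →* GL D.Idx F} (hπ : IsLift c X π)
    (w : List (ℕ × F)) (hw : ∀ p ∈ w, p.1 < D.nroots) : π (wordP X w) = wordGL c w := by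
  induction w with
  | nil => rw [wordP_nil, wordGL_nil, map_one]
  | cons p w ih =>
    rw [wordP_cons, wordGL_cons, map_mul, hπ p.1 (hw p (by simp)),
      ih (fun q hq => hw q (List.mem_cons_of_mem _ hq))]

theorem injOn_SG (c : DCert D Ns) (tc : TCert D) (ac : ACert D wl ws sc) {X : ℕ → F → Γ} (hX : StGrp D X)
    {π : Γ →* GL D.Idx F} (hπ : IsLift c X π) (wg : List ℤ) (y z : Γ) (hy : y ∈ SG D X (grRoot D wg))
    (hz : z ∈ SG D X (grRoot D wg)) (h : π y = π z) : y = z := by
  have hg := isGrading_w c tc wg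
  obtain ⟨t, rfl⟩ := exists_word_SG hX c.rows ac.in_range hg y hy
  obtain ⟨t', rfl⟩ := exists_word_SG hX c.rows ac.in_range hg z hz
  have hgl := glist_fullList c.rows ac.in_range hg
  have hlt : ∀ (t : ℕ → F), ∀ p ∈ (fullList D (grRoot D wg)).map (fun r => (r, t r)), p.1 < D.nroots := by
    intro t p hp
    rw [List.mem_map] at hp
    obtain ⟨r, hr, rfl⟩ := hp
    exact hgl.lt r hr
  rw [map_wordP_lift c hπ _ (hlt t), map_wordP_lift c hπ _ (hlt t')] at h
  have h' := congrArg (fun g : GL D.Idx F => (g : Matrix D.Idx D.Idx F)) h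
  simp only [wordGL_coe] at h'
  have := unique_word_gr c tc ac wg _ hgl.nodup (fun r hr => ⟨hgl.lt r hr, hgl.pos r hr⟩) t t' h'
  congr 1
  apply List.map_congr_left
  intro r hr
  rw [this r hr]

end Cfsg.Agent.Lib.Helper81_StAbs
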