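import Mathlib
import Cfsg.Agent.Lib.Helper45_D4Defs
import Cfsg.Agent.Lib.Helper45_D4Table
import Cfsg.Agent.Lib.Helper31_D4_COMM
import Cfsg.Agent.Lib.Helper81_StAbs

/-!
# The five shapes of the commutator formula, for the table-driven verification of (R2) (S1082)
-/

set_option autoImplicit false

namespace Cfsg.Agent.Lib.Helper45_D4R2Gen

open Cfsg Cfsg.Lie Matrix Cfsg.Agent.Lib.Helper45_D4Defs Cfsg.Agent.Lib.Helper45_D4Table
  Cfsg.Agent.Lib.Helper31_D4_COMM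

variable {m : ℕ} {F : Type*} [Field F]

theorem comm0 {a b c d : I m} (hab : Adm a b) (hcd : Adm c d) (h1 : (c, d) ≠ (b, a))
    (h2 : (c, d) ≠ (pr a, pr b)) (e1 : b ≠ c) (e2 : b ≠ pr d) (e3 : pr a ≠ c) (e4 : a ≠ d) (t u : F) :
    (T c d u : ↥(Cfsg.isometryGroup F (Cfsg.quadFormPlus m F)))⁻¹ * (T a b t)⁻¹ * T c d u * T a b t = 1 := by
  rw [COMM hab hcd h1 h2, if_neg e1, if_neg e2, if_neg e3, if_neg e4]
  simp

theorem comm1 {a b c d : I m} (hab : Adm a b) (hcd : Adm c d) (h1 : (c, d) ≠ (b, a))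
    (h2 : (c, d) ≠ (pr a, pr b)) (e1 : b = c) (e2 : b ≠ pr d) (e3 : pr a ≠ c) (e4 : a ≠ d) (t u : F) :
    (T c d u : ↥(Cfsg.isometryGroup F (Cfsg.quadFormPlus m F)))⁻¹ * (T a b t)⁻¹ * T c d u * T a b t =
      T a d (-(u * t)) := by
  rw [COMM hab hcd h1 h2, if_pos e1, if_neg e2, if_neg e3, if_neg e4]
  simp

theorem comm2 {a b c d : I m} (hab : Adm a b) (hcd : Adm c d) (h1 : (c, d) ≠ (b, a))
    (h2 : (c, d) ≠ (pr a, pr b)) (e1 : b ≠ c) (e2 : b = pr d) (e3 : pr a ≠ c) (e4 : a ≠ d) (t u : F) :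
    (T c d u : ↥(Cfsg.isometryGroup F (Cfsg.quadFormPlus m F)))⁻¹ * (T a b t)⁻¹ * T c d u * T a b t =
      T a (pr c) (u * t) := by
  rw [COMM hab hcd h1 h2, if_neg e1, if_pos e2, if_neg e3, if_neg e4]
  simp

theorem comm3 {a b c d : I m} (hab : Adm a b) (hcd : Adm c d) (h1 : (c, d) ≠ (b, a))
    (h2 : (c, d) ≠ (pr a, pr b)) (e1 : b ≠ c) (e2 : b ≠ pr d) (e3 : pr a = c) (e4 : a ≠ d) (t u : F) :
    (T c d u : ↥(Cfsg.isometryGroup F (Cfsg.quadFormPlus m F)))⁻¹ * (T a b t)⁻¹ * T c d u * T a b t =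
      T (pr b) d (u * t) := by
  rw [COMM hab hcd h1 h2, if_neg e1, if_neg e2, if_pos e3, if_neg e4]
  simp

theorem comm4 {a b c d : I m} (hab : Adm a b) (hcd : Adm c d) (h1 : (c, d) ≠ (b, a))
    (h2 : (c, d) ≠ (pr a, pr b)) (e1 : b ≠ c) (e2 : b ≠ pr d) (e3 : pr a ≠ c) (e4 : a = d) (t u : F) :
    (T c d u : ↥(Cfsg.isometryGroup F (Cfsg.quadFormPlus m F)))⁻¹ * (T a b t)⁻¹ * T c d u * T a b t =
      T c b (u * t) := by
  rw [COMM hab hcd h1 h2, if_neg e1, if_neg e2, if_neg e3, if_pos e4]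
  simp

end Cfsg.Agent.Lib.Helper45_D4R2Gen
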