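import Mathlib
import Cfsg.Agent.Lib.Helper45_D4R2Gen

/-!
# The commutator relations (R2) of `chevD4` for the root elements of `O⁺₈(F)`: first root 10 (S1082)

Generated from the table of the frozen datum: every case is the uniform commutator formula `COMM` with its four
guards evaluated by `decide`.
-/

set_option autoImplicit false

namespace Cfsg.Agent.Lib.Helper45_D4R2_10

open Cfsg Cfsg.Lie Matrix Cfsg.Agent.Lib.Helper45_D4Defs Cfsg.Agent.Lib.Helper45_D4Table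
  Cfsg.Agent.Lib.Helper45_D4R2Gen Cfsg.Agent.Lib.Helper81_StAbs

variable {F : Type*} [Field F]

theorem c10_0 (t u : F) : (U 0 u)⁻¹ * (U 10 t)⁻¹ * U 0 u * U 10 t =
    wordP U (chevD4.commWord F 10 0 t u) := by
  show (T (Sum.inr 1 : I 4) (Sum.inl 0 : I 4) (((1 : ℤ) : F) * u))⁻¹ * (T (Sum.inl 3 : I 4) (Sum.inl 2 : I 4) (((1 : ℤ) : F) * t))⁻¹ *
      T (Sum.inr 1 : I 4) (Sum.inl 0 : I 4) (((1 : ℤ) : F) * u) * T (Sum.inl 3 : I 4) (Sum.inl 2 : I 4) (((1 : ℤ) : F) * t) = 1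
  exact comm0 (by decide) (by decide) (by decide) (by decide) (by decide) (by decide) (by decide) (by decide) _ _

theorem c10_1 (t u : F) : (U 1 u)⁻¹ * (U 10 t)⁻¹ * U 1 u * U 10 t =
    wordP U (chevD4.commWord F 10 1 t u) := by
  show (T (Sum.inr 2 : I 4) (Sum.inl 0 : I 4) (((1 : ℤ) : F) * u))⁻¹ * (T (Sum.inl 3 : I 4) (Sum.inl 2 : I 4) (((1 : ℤ) : F) * t))⁻¹ *
      T (Sum.inr 2 : I 4) (Sum.inl 0 : I 4) (((1 : ℤ) : F) * u) * T (Sum.inl 3 : I 4) (Sum.inl 2 : I 4) (((1 : ℤ) : F) * t) = 1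
  exact comm0 (by decide) (by decide) (by decide) (by decide) (by decide) (by decide) (by decide) (by decide) _ _

theorem c10_2 (t u : F) : (U 2 u)⁻¹ * (U 10 t)⁻¹ * U 2 u * U 10 t =
    wordP U (chevD4.commWord F 10 2 t u) := by
  show (T (Sum.inl 3 : I 4) (Sum.inl 0 : I 4) (((1 : ℤ) : F) * u))⁻¹ * (T (Sum.inl 3 : I 4) (Sum.inl 2 : I 4) (((1 : ℤ) : F) * t))⁻¹ *
      T (Sum.inl 3 : I 4) (Sum.inl 0 : I 4) (((1 : ℤ) : F) * u) * T (Sum.inl 3 : I 4) (Sum.inl 2 : I 4) (((1 : ℤ) : F) * t) = 1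
  exact comm0 (by decide) (by decide) (by decide) (by decide) (by decide) (by decide) (by decide) (by decide) _ _

theorem c10_3 (t u : F) : (U 3 u)⁻¹ * (U 10 t)⁻¹ * U 3 u * U 10 t =
    wordP U (chevD4.commWord F 10 3 t u) := by
  show (T (Sum.inr 3 : I 4) (Sum.inl 0 : I 4) (((1 : ℤ) : F) * u))⁻¹ * (T (Sum.inl 3 : I 4) (Sum.inl 2 : I 4) (((1 : ℤ) : F) * t))⁻¹ *
      T (Sum.inr 3 : I 4) (Sum.inl 0 : I 4) (((1 : ℤ) : F) * u) * T (Sum.inl 3 : I 4) (Sum.inl 2 : I 4) (((1 : ℤ) : F) * t) =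
    T (Sum.inr 2 : I 4) (Sum.inl 0 : I 4) (((1 : ℤ) : F) * (((-1 : ℤ) : F) * (-t) ^ 1 * u ^ 1)) * 1
  rw [comm3 (by decide) (by decide) (by decide) (by decide) (by decide) (by decide) (by decide) (by decide), mul_one]
  show T (Sum.inr 2 : I 4) (Sum.inl 0 : I 4) _ = _
  congr 1
  push_cast
  ring

theorem c10_4 (t u : F) : (U 4 u)⁻¹ * (U 10 t)⁻¹ * U 4 u * U 10 t =
    wordP U (chevD4.commWord F 10 4 t u) := by
  show (T (Sum.inl 2 : I 4) (Sum.inl 0 : I 4) (((-1 : ℤ) : F) * u))⁻¹ * (T (Sum.inl 3 : I 4) (Sum.inl 2 : I 4) (((1 : ℤ) : F) * t))⁻¹ *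
      T (Sum.inl 2 : I 4) (Sum.inl 0 : I 4) (((-1 : ℤ) : F) * u) * T (Sum.inl 3 : I 4) (Sum.inl 2 : I 4) (((1 : ℤ) : F) * t) =
    T (Sum.inl 3 : I 4) (Sum.inl 0 : I 4) (((1 : ℤ) : F) * (((-1 : ℤ) : F) * (-t) ^ 1 * u ^ 1)) * 1
  rw [comm1 (by decide) (by decide) (by decide) (by decide) (by decide) (by decide) (by decide) (by decide), mul_one]
  show T (Sum.inl 3 : I 4) (Sum.inl 0 : I 4) _ = _
  congr 1
  push_cast
  ring

theorem c10_5 (t u : F) : (U 5 u)⁻¹ * (U 10 t)⁻¹ * U 5 u * U 10 t =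
    wordP U (chevD4.commWord F 10 5 t u) := by
  show (T (Sum.inl 1 : I 4) (Sum.inl 0 : I 4) (((1 : ℤ) : F) * u))⁻¹ * (T (Sum.inl 3 : I 4) (Sum.inl 2 : I 4) (((1 : ℤ) : F) * t))⁻¹ *
      T (Sum.inl 1 : I 4) (Sum.inl 0 : I 4) (((1 : ℤ) : F) * u) * T (Sum.inl 3 : I 4) (Sum.inl 2 : I 4) (((1 : ℤ) : F) * t) = 1
  exact comm0 (by decide) (by decide) (by decide) (by decide) (by decide) (by decide) (by decide) (by decide) _ _

theorem c10_6 (t u : F) : (U 6 u)⁻¹ * (U 10 t)⁻¹ * U 6 u * U 10 t =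
    wordP U (chevD4.commWord F 10 6 t u) := by
  show (T (Sum.inr 2 : I 4) (Sum.inl 1 : I 4) (((-1 : ℤ) : F) * u))⁻¹ * (T (Sum.inl 3 : I 4) (Sum.inl 2 : I 4) (((1 : ℤ) : F) * t))⁻¹ *
      T (Sum.inr 2 : I 4) (Sum.inl 1 : I 4) (((-1 : ℤ) : F) * u) * T (Sum.inl 3 : I 4) (Sum.inl 2 : I 4) (((1 : ℤ) : F) * t) = 1
  exact comm0 (by decide) (by decide) (by decide) (by decide) (by decide) (by decide) (by decide) (by decide) _ _

theorem c10_7 (t u : F) : (U 7 u)⁻¹ * (U 10 t)⁻¹ * U 7 u * U 10 t =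
    wordP U (chevD4.commWord F 10 7 t u) := by
  show (T (Sum.inl 3 : I 4) (Sum.inl 1 : I 4) (((-1 : ℤ) : F) * u))⁻¹ * (T (Sum.inl 3 : I 4) (Sum.inl 2 : I 4) (((1 : ℤ) : F) * t))⁻¹ *
      T (Sum.inl 3 : I 4) (Sum.inl 1 : I 4) (((-1 : ℤ) : F) * u) * T (Sum.inl 3 : I 4) (Sum.inl 2 : I 4) (((1 : ℤ) : F) * t) = 1
  exact comm0 (by decide) (by decide) (by decide) (by decide) (by decide) (by decide) (by decide) (by decide) _ _

theorem c10_8 (t u : F) : (U 8 u)⁻¹ * (U 10 t)⁻¹ * U 8 u * U 10 t =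
    wordP U (chevD4.commWord F 10 8 t u) := by
  show (T (Sum.inr 3 : I 4) (Sum.inl 1 : I 4) (((-1 : ℤ) : F) * u))⁻¹ * (T (Sum.inl 3 : I 4) (Sum.inl 2 : I 4) (((1 : ℤ) : F) * t))⁻¹ *
      T (Sum.inr 3 : I 4) (Sum.inl 1 : I 4) (((-1 : ℤ) : F) * u) * T (Sum.inl 3 : I 4) (Sum.inl 2 : I 4) (((1 : ℤ) : F) * t) =
    T (Sum.inr 2 : I 4) (Sum.inl 1 : I 4) (((-1 : ℤ) : F) * (((-1 : ℤ) : F) * (-t) ^ 1 * u ^ 1)) * 1
  rw [comm3 (by decide) (by decide) (by decide) (by decide) (by decide) (by decide) (by decide) (by decide), mul_one]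
  show T (Sum.inr 2 : I 4) (Sum.inl 1 : I 4) _ = _
  congr 1
  push_cast
  ring

theorem c10_9 (t u : F) : (U 9 u)⁻¹ * (U 10 t)⁻¹ * U 9 u * U 10 t =
    wordP U (chevD4.commWord F 10 9 t u) := by
  show (T (Sum.inl 2 : I 4) (Sum.inl 1 : I 4) (((1 : ℤ) : F) * u))⁻¹ * (T (Sum.inl 3 : I 4) (Sum.inl 2 : I 4) (((1 : ℤ) : F) * t))⁻¹ *
      T (Sum.inl 2 : I 4) (Sum.inl 1 : I 4) (((1 : ℤ) : F) * u) * T (Sum.inl 3 : I 4) (Sum.inl 2 : I 4) (((1 : ℤ) : F) * t) =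
    T (Sum.inl 3 : I 4) (Sum.inl 1 : I 4) (((-1 : ℤ) : F) * (((-1 : ℤ) : F) * (-t) ^ 1 * u ^ 1)) * 1
  rw [comm1 (by decide) (by decide) (by decide) (by decide) (by decide) (by decide) (by decide) (by decide), mul_one]
  show T (Sum.inl 3 : I 4) (Sum.inl 1 : I 4) _ = _
  congr 1
  push_cast
  ring

theorem c10_11 (t u : F) : (U 11 u)⁻¹ * (U 10 t)⁻¹ * U 11 u * U 10 t =
    wordP U (chevD4.commWord F 10 11 t u) := by
  show (T (Sum.inr 3 : I 4) (Sum.inl 2 : I 4) (((1 : ℤ) : F) * u))⁻¹ * (T (Sum.inl 3 : I 4) (Sum.inl 2 : I 4) (((1 : ℤ) : F) * t))⁻¹ *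
      T (Sum.inr 3 : I 4) (Sum.inl 2 : I 4) (((1 : ℤ) : F) * u) * T (Sum.inl 3 : I 4) (Sum.inl 2 : I 4) (((1 : ℤ) : F) * t) = 1
  rw [comm3 (by decide) (by decide) (by decide) (by decide) (by decide) (by decide) (by decide) (by decide)]
  exact T_of_not_adm (by decide) _

theorem c10_12 (t u : F) : (U 12 u)⁻¹ * (U 10 t)⁻¹ * U 12 u * U 10 t =
    wordP U (chevD4.commWord F 10 12 t u) := by
  show (T (Sum.inl 2 : I 4) (Sum.inr 3 : I 4) (((1 : ℤ) : F) * u))⁻¹ * (T (Sum.inl 3 : I 4) (Sum.inl 2 : I 4) (((1 : ℤ) : F) * t))⁻¹ *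
      T (Sum.inl 2 : I 4) (Sum.inr 3 : I 4) (((1 : ℤ) : F) * u) * T (Sum.inl 3 : I 4) (Sum.inl 2 : I 4) (((1 : ℤ) : F) * t) = 1
  rw [comm1 (by decide) (by decide) (by decide) (by decide) (by decide) (by decide) (by decide) (by decide)]
  exact T_of_not_adm (by decide) _

theorem c10_14 (t u : F) : (U 14 u)⁻¹ * (U 10 t)⁻¹ * U 14 u * U 10 t =
    wordP U (chevD4.commWord F 10 14 t u) := by
  show (T (Sum.inl 1 : I 4) (Sum.inl 2 : I 4) (((1 : ℤ) : F) * u))⁻¹ * (T (Sum.inl 3 : I 4) (Sum.inl 2 : I 4) (((1 : ℤ) : F) * t))⁻¹ *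
      T (Sum.inl 1 : I 4) (Sum.inl 2 : I 4) (((1 : ℤ) : F) * u) * T (Sum.inl 3 : I 4) (Sum.inl 2 : I 4) (((1 : ℤ) : F) * t) = 1
  exact comm0 (by decide) (by decide) (by decide) (by decide) (by decide) (by decide) (by decide) (by decide) _ _

theorem c10_15 (t u : F) : (U 15 u)⁻¹ * (U 10 t)⁻¹ * U 15 u * U 10 t =
    wordP U (chevD4.commWord F 10 15 t u) := by
  show (T (Sum.inl 1 : I 4) (Sum.inr 3 : I 4) (((-1 : ℤ) : F) * u))⁻¹ * (T (Sum.inl 3 : I 4) (Sum.inl 2 : I 4) (((1 : ℤ) : F) * t))⁻¹ *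
      T (Sum.inl 1 : I 4) (Sum.inr 3 : I 4) (((-1 : ℤ) : F) * u) * T (Sum.inl 3 : I 4) (Sum.inl 2 : I 4) (((1 : ℤ) : F) * t) = 1
  exact comm0 (by decide) (by decide) (by decide) (by decide) (by decide) (by decide) (by decide) (by decide) _ _

theorem c10_16 (t u : F) : (U 16 u)⁻¹ * (U 10 t)⁻¹ * U 16 u * U 10 t =
    wordP U (chevD4.commWord F 10 16 t u) := by
  show (T (Sum.inl 1 : I 4) (Sum.inl 3 : I 4) (((-1 : ℤ) : F) * u))⁻¹ * (T (Sum.inl 3 : I 4) (Sum.inl 2 : I 4) (((1 : ℤ) : F) * t))⁻¹ *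
      T (Sum.inl 1 : I 4) (Sum.inl 3 : I 4) (((-1 : ℤ) : F) * u) * T (Sum.inl 3 : I 4) (Sum.inl 2 : I 4) (((1 : ℤ) : F) * t) =
    T (Sum.inl 1 : I 4) (Sum.inl 2 : I 4) (((1 : ℤ) : F) * (((1 : ℤ) : F) * (-t) ^ 1 * u ^ 1)) * 1
  rw [comm4 (by decide) (by decide) (by decide) (by decide) (by decide) (by decide) (by decide) (by decide), mul_one]
  show T (Sum.inl 1 : I 4) (Sum.inl 2 : I 4) _ = _
  congr 1
  push_cast
  ring

theorem c10_17 (t u : F) : (U 17 u)⁻¹ * (U 10 t)⁻¹ * U 17 u * U 10 t =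
    wordP U (chevD4.commWord F 10 17 t u) := by
  show (T (Sum.inl 1 : I 4) (Sum.inr 2 : I 4) (((-1 : ℤ) : F) * u))⁻¹ * (T (Sum.inl 3 : I 4) (Sum.inl 2 : I 4) (((1 : ℤ) : F) * t))⁻¹ *
      T (Sum.inl 1 : I 4) (Sum.inr 2 : I 4) (((-1 : ℤ) : F) * u) * T (Sum.inl 3 : I 4) (Sum.inl 2 : I 4) (((1 : ℤ) : F) * t) =
    T (Sum.inl 1 : I 4) (Sum.inr 3 : I 4) (((-1 : ℤ) : F) * (((1 : ℤ) : F) * (-t) ^ 1 * u ^ 1)) * 1
  rw [comm2 (by decide) (by decide) (by decide) (by decide) (by decide) (by decide) (by decide) (by decide), mul_one]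
  rw [T_flip (Sum.inl 3 : I 4) (pr (Sum.inl 1 : I 4))]
  show T (Sum.inl 1 : I 4) (Sum.inr 3 : I 4) _ = _
  congr 1
  push_cast
  ring

theorem c10_18 (t u : F) : (U 18 u)⁻¹ * (U 10 t)⁻¹ * U 18 u * U 10 t =
    wordP U (chevD4.commWord F 10 18 t u) := by
  show (T (Sum.inl 0 : I 4) (Sum.inl 1 : I 4) (((1 : ℤ) : F) * u))⁻¹ * (T (Sum.inl 3 : I 4) (Sum.inl 2 : I 4) (((1 : ℤ) : F) * t))⁻¹ *
      T (Sum.inl 0 : I 4) (Sum.inl 1 : I 4) (((1 : ℤ) : F) * u) * T (Sum.inl 3 : I 4) (Sum.inl 2 : I 4) (((1 : ℤ) : F) * t) = 1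
  exact comm0 (by decide) (by decide) (by decide) (by decide) (by decide) (by decide) (by decide) (by decide) _ _

theorem c10_19 (t u : F) : (U 19 u)⁻¹ * (U 10 t)⁻¹ * U 19 u * U 10 t =
    wordP U (chevD4.commWord F 10 19 t u) := by
  show (T (Sum.inl 0 : I 4) (Sum.inl 2 : I 4) (((-1 : ℤ) : F) * u))⁻¹ * (T (Sum.inl 3 : I 4) (Sum.inl 2 : I 4) (((1 : ℤ) : F) * t))⁻¹ *
      T (Sum.inl 0 : I 4) (Sum.inl 2 : I 4) (((-1 : ℤ) : F) * u) * T (Sum.inl 3 : I 4) (Sum.inl 2 : I 4) (((1 : ℤ) : F) * t) = 1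
  exact comm0 (by decide) (by decide) (by decide) (by decide) (by decide) (by decide) (by decide) (by decide) _ _

theorem c10_20 (t u : F) : (U 20 u)⁻¹ * (U 10 t)⁻¹ * U 20 u * U 10 t =
    wordP U (chevD4.commWord F 10 20 t u) := by
  show (T (Sum.inl 0 : I 4) (Sum.inr 3 : I 4) (((1 : ℤ) : F) * u))⁻¹ * (T (Sum.inl 3 : I 4) (Sum.inl 2 : I 4) (((1 : ℤ) : F) * t))⁻¹ *
      T (Sum.inl 0 : I 4) (Sum.inr 3 : I 4) (((1 : ℤ) : F) * u) * T (Sum.inl 3 : I 4) (Sum.inl 2 : I 4) (((1 : ℤ) : F) * t) = 1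
  exact comm0 (by decide) (by decide) (by decide) (by decide) (by decide) (by decide) (by decide) (by decide) _ _

theorem c10_21 (t u : F) : (U 21 u)⁻¹ * (U 10 t)⁻¹ * U 21 u * U 10 t =
    wordP U (chevD4.commWord F 10 21 t u) := by
  show (T (Sum.inl 0 : I 4) (Sum.inl 3 : I 4) (((1 : ℤ) : F) * u))⁻¹ * (T (Sum.inl 3 : I 4) (Sum.inl 2 : I 4) (((1 : ℤ) : F) * t))⁻¹ *
      T (Sum.inl 0 : I 4) (Sum.inl 3 : I 4) (((1 : ℤ) : F) * u) * T (Sum.inl 3 : I 4) (Sum.inl 2 : I 4) (((1 : ℤ) : F) * t) =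
    T (Sum.inl 0 : I 4) (Sum.inl 2 : I 4) (((-1 : ℤ) : F) * (((1 : ℤ) : F) * (-t) ^ 1 * u ^ 1)) * 1
  rw [comm4 (by decide) (by decide) (by decide) (by decide) (by decide) (by decide) (by decide) (by decide), mul_one]
  show T (Sum.inl 0 : I 4) (Sum.inl 2 : I 4) _ = _
  congr 1
  push_cast
  ring

theorem c10_22 (t u : F) : (U 22 u)⁻¹ * (U 10 t)⁻¹ * U 22 u * U 10 t =
    wordP U (chevD4.commWord F 10 22 t u) := by
  show (T (Sum.inl 0 : I 4) (Sum.inr 2 : I 4) (((1 : ℤ) : F) * u))⁻¹ * (T (Sum.inl 3 : I 4) (Sum.inl 2 : I 4) (((1 : ℤ) : F) * t))⁻¹ *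
      T (Sum.inl 0 : I 4) (Sum.inr 2 : I 4) (((1 : ℤ) : F) * u) * T (Sum.inl 3 : I 4) (Sum.inl 2 : I 4) (((1 : ℤ) : F) * t) =
    T (Sum.inl 0 : I 4) (Sum.inr 3 : I 4) (((1 : ℤ) : F) * (((1 : ℤ) : F) * (-t) ^ 1 * u ^ 1)) * 1
  rw [comm2 (by decide) (by decide) (by decide) (by decide) (by decide) (by decide) (by decide) (by decide), mul_one]
  rw [T_flip (Sum.inl 3 : I 4) (pr (Sum.inl 0 : I 4))]
  show T (Sum.inl 0 : I 4) (Sum.inr 3 : I 4) _ = _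
  congr 1
  push_cast
  ring

theorem c10_23 (t u : F) : (U 23 u)⁻¹ * (U 10 t)⁻¹ * U 23 u * U 10 t =
    wordP U (chevD4.commWord F 10 23 t u) := by
  show (T (Sum.inl 0 : I 4) (Sum.inr 1 : I 4) (((1 : ℤ) : F) * u))⁻¹ * (T (Sum.inl 3 : I 4) (Sum.inl 2 : I 4) (((1 : ℤ) : F) * t))⁻¹ *
      T (Sum.inl 0 : I 4) (Sum.inr 1 : I 4) (((1 : ℤ) : F) * u) * T (Sum.inl 3 : I 4) (Sum.inl 2 : I 4) (((1 : ℤ) : F) * t) = 1
  exact comm0 (by decide) (by decide) (by decide) (by decide) (by decide) (by decide) (by decide) (by decide) _ _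

theorem comm_r10 (s : ℕ) (hs : s < 24) (h1 : s ≠ 10) (h2 : s ≠ chevD4.neg 10) (t u : F) :
    (U s u)⁻¹ * (U 10 t)⁻¹ * U s u * U 10 t = wordP U (chevD4.commWord F 10 s t u) := by
  interval_cases s
  · exact c10_0 t u
  · exact c10_1 t u
  · exact c10_2 t u
  · exact c10_3 t u
  · exact c10_4 t u
  · exact c10_5 t u
  · exact c10_6 t u
  · exact c10_7 t u
  · exact c10_8 t u
  · exact c10_9 t u
  · exact absurd rfl h1
  · exact c10_11 t u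
  · exact c10_12 t u
  · exact absurd (by decide) h2
  · exact c10_14 t u
  · exact c10_15 t u
  · exact c10_16 t u
  · exact c10_17 t u
  · exact c10_18 t u
  · exact c10_19 t u
  · exact c10_20 t u
  · exact c10_21 t u
  · exact c10_22 t u
  · exact c10_23 t u

end Cfsg.Agent.Lib.Helper45_D4R2_10
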