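import Mathlib
import Cfsg.Agent.Lib.Helper45_D4R2_0
import Cfsg.Agent.Lib.Helper45_D4R2_1
import Cfsg.Agent.Lib.Helper45_D4R2_2
import Cfsg.Agent.Lib.Helper45_D4R2_3
import Cfsg.Agent.Lib.Helper45_D4R2_4
import Cfsg.Agent.Lib.Helper45_D4R2_5
import Cfsg.Agent.Lib.Helper45_D4R2_6
import Cfsg.Agent.Lib.Helper45_D4R2_7
import Cfsg.Agent.Lib.Helper45_D4R2_8
import Cfsg.Agent.Lib.Helper45_D4R2_9
import Cfsg.Agent.Lib.Helper45_D4R2_10
import Cfsg.Agent.Lib.Helper45_D4R2_11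
import Cfsg.Agent.Lib.Helper45_D4R2_12
import Cfsg.Agent.Lib.Helper45_D4R2_13
import Cfsg.Agent.Lib.Helper45_D4R2_14
import Cfsg.Agent.Lib.Helper45_D4R2_15
import Cfsg.Agent.Lib.Helper45_D4R2_16
import Cfsg.Agent.Lib.Helper45_D4R2_17
import Cfsg.Agent.Lib.Helper45_D4R2_18
import Cfsg.Agent.Lib.Helper45_D4R2_19
import Cfsg.Agent.Lib.Helper45_D4R2_20
import Cfsg.Agent.Lib.Helper45_D4R2_21
import Cfsg.Agent.Lib.Helper45_D4R2_22
import Cfsg.Agent.Lib.Helper45_D4R2_23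

/-!
# The root elements of `O⁺₈(F)` satisfy Steinberg's relations (R1), (R2) of `chevD4` (S1082)
-/

set_option autoImplicit false

namespace Cfsg.Agent.Lib.Helper45_D4R2

open Cfsg Cfsg.Lie Matrix Cfsg.Agent.Lib.Helper45_D4Defs Cfsg.Agent.Lib.Helper45_D4Table
  Cfsg.Agent.Lib.Helper81_StAbs

variable {F : Type*} [Field F]

theorem stGrp : StGrp chevD4 (U (F := F)) where
  add := fun r _ t u => U_add r t u
  comm := by
    intro r s hr hs h1 h2 t u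
    have hr' : r < 24 := hr
    have hs' : s < 24 := hs
    interval_cases r
    · exact Cfsg.Agent.Lib.Helper45_D4R2_0.comm_r0 s hs' h1 h2 t u
    · exact Cfsg.Agent.Lib.Helper45_D4R2_1.comm_r1 s hs' h1 h2 t u
    · exact Cfsg.Agent.Lib.Helper45_D4R2_2.comm_r2 s hs' h1 h2 t u
    · exact Cfsg.Agent.Lib.Helper45_D4R2_3.comm_r3 s hs' h1 h2 t u
    · exact Cfsg.Agent.Lib.Helper45_D4R2_4.comm_r4 s hs' h1 h2 t u
    · exact Cfsg.Agent.Lib.Helper45_D4R2_5.comm_r5 s hs' h1 h2 t u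
    · exact Cfsg.Agent.Lib.Helper45_D4R2_6.comm_r6 s hs' h1 h2 t u
    · exact Cfsg.Agent.Lib.Helper45_D4R2_7.comm_r7 s hs' h1 h2 t u
    · exact Cfsg.Agent.Lib.Helper45_D4R2_8.comm_r8 s hs' h1 h2 t u
    · exact Cfsg.Agent.Lib.Helper45_D4R2_9.comm_r9 s hs' h1 h2 t u
    · exact Cfsg.Agent.Lib.Helper45_D4R2_10.comm_r10 s hs' h1 h2 t u
    · exact Cfsg.Agent.Lib.Helper45_D4R2_11.comm_r11 s hs' h1 h2 t u
    · exact Cfsg.Agent.Lib.Helper45_D4R2_12.comm_r12 s hs' h1 h2 t u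
    · exact Cfsg.Agent.Lib.Helper45_D4R2_13.comm_r13 s hs' h1 h2 t u
    · exact Cfsg.Agent.Lib.Helper45_D4R2_14.comm_r14 s hs' h1 h2 t u
    · exact Cfsg.Agent.Lib.Helper45_D4R2_15.comm_r15 s hs' h1 h2 t u
    · exact Cfsg.Agent.Lib.Helper45_D4R2_16.comm_r16 s hs' h1 h2 t u
    · exact Cfsg.Agent.Lib.Helper45_D4R2_17.comm_r17 s hs' h1 h2 t u
    · exact Cfsg.Agent.Lib.Helper45_D4R2_18.comm_r18 s hs' h1 h2 t u
    · exact Cfsg.Agent.Lib.Helper45_D4R2_19.comm_r19 s hs' h1 h2 t u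
    · exact Cfsg.Agent.Lib.Helper45_D4R2_20.comm_r20 s hs' h1 h2 t u
    · exact Cfsg.Agent.Lib.Helper45_D4R2_21.comm_r21 s hs' h1 h2 t u
    · exact Cfsg.Agent.Lib.Helper45_D4R2_22.comm_r22 s hs' h1 h2 t u
    · exact Cfsg.Agent.Lib.Helper45_D4R2_23.comm_r23 s hs' h1 h2 t u

end Cfsg.Agent.Lib.Helper45_D4R2
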