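import Mathlib
import Cfsg.Agent.Lib.Helper45_D4R2
import Cfsg.Agent.Lib.Helper64_D4_R3
import Cfsg.Prelude.Def_Steinberg

/-!
# The homomorphism from the Steinberg group of `chevD4` onto the elementary subgroup of `O⁺₈(F)` (S1082)
-/

set_option autoImplicit false

namespace Cfsg.Agent.Lib.Helper45_D4Lift

open Cfsg Cfsg.Lie Matrix Cfsg.Agent.Lib.Helper45_D4Defs Cfsg.Agent.Lib.Helper45_D4Table
  Cfsg.Agent.Lib.Helper81_StAbs

variable {F : Type*} [Field F]

/-- The images of the free generators. -/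
def genU (F : Type*) [Field F] :
    Fin chevD4.nroots × F → ↥(Cfsg.isometryGroup F (Cfsg.quadFormPlus 4 F)) := fun p => U p.1.val p.2

theorem nroots_eq : chevD4.nroots = 24 := rfl

theorem lift_stX (r : ℕ) (t : F) : FreeGroup.lift (genU F) (chevD4.stX r t) = U r t := by
  unfold ChevalleyDatum.stX
  by_cases hr : r < chevD4.nroots
  · rw [dif_pos hr, FreeGroup.lift_apply_of]
    rfl
  · rw [dif_neg hr, map_one, U_ge (by rw [nroots_eq] at hr; omega)]

theorem lift_stWord (w : List (ℕ × F)) :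
    FreeGroup.lift (genU F) (chevD4.stWord w) = wordP U w := by
  unfold ChevalleyDatum.stWord wordP
  rw [map_list_prod, List.map_map]
  congr 1
  apply List.map_congr_left
  intro p _
  exact lift_stX p.1 p.2

theorem U_neg (r : ℕ) (hr : r < 24) (x : F) :
    U (chevD4.neg r) x = T (rootA r).2.1 (rootA r).1 (((rootA r).2.2 : F) * x) := by
  rw [U, rootA_neg r hr]

theorem sign_cast (r : ℕ) (hr : r < 24) :
    (((rootA r).2.2 : ℤ) : F) = 1 ∨ (((rootA r).2.2 : ℤ) : F) = -1 := by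
  rcases rootA_sign r hr with h | h <;> rw [h]
  · left; simp
  · right; simp

theorem lift_stH (r : ℕ) (hr : r < 24) (t : F) :
    FreeGroup.lift (genU F) (chevD4.stH r t) =
      Hel (rootA r).1 (rootA r).2.1 (((rootA r).2.2 : ℤ) : F) t := by
  unfold ChevalleyDatum.stH
  rw [lift_stWord]
  show U r t * (U (chevD4.neg r) (-t⁻¹) * (U r t * (U r (-1) * (U (chevD4.neg r) (-(-1 : F)⁻¹) *
    (U r (-1) * 1))))) = _
  rw [U_neg r hr, U_neg r hr, Hel, Nel, Nel]
  simp only [U]
  have h1 : (((rootA r).2.2 : ℤ) : F) * -t⁻¹ = -((((rootA r).2.2 : ℤ) : F) * t)⁻¹ := by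
    rcases sign_cast (F := F) r hr with h | h <;> rw [h] <;> simp
  have h2 : (((rootA r).2.2 : ℤ) : F) * -(-1 : F)⁻¹ = -(-(((rootA r).2.2 : ℤ) : F))⁻¹ := by
    rcases sign_cast (F := F) r hr with h | h <;> rw [h] <;> simp
  have h3 : (((rootA r).2.2 : ℤ) : F) * -1 = -(((rootA r).2.2 : ℤ) : F) := by ring
  rw [h1, h2, h3, mul_one]
  simp only [mul_assoc]

theorem lift_rels : ∀ g ∈ chevD4.steinbergRels F, FreeGroup.lift (genU F) g = 1 := by
  rintro g ((⟨r, t₁, t₂, hr, rfl⟩ | ⟨r, s, t, u, hr, hs, h1, h2, rfl⟩) | ⟨r, t₁, t₂, hr, h₁, h₂, rfl⟩)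
  · rw [map_mul, map_mul, map_inv, lift_stX, lift_stX, lift_stX, U_add, mul_inv_cancel]
  · rw [map_mul, map_mul, map_mul, map_mul, map_inv, map_inv, map_inv, lift_stX, lift_stX, lift_stWord,
      Cfsg.Agent.Lib.Helper45_D4R2.stGrp.comm r s hr hs h1 h2 t u, mul_inv_cancel]
  · rw [map_mul, map_mul, map_inv, lift_stH r hr, lift_stH r hr, lift_stH r hr,
      Cfsg.Agent.Lib.Helper64_D4_R3.R3 (rootA_adm r hr) (sign_cast r hr) h₁ h₂, mul_inv_cancel]

/-- The homomorphism from the Steinberg group to `O⁺₈(F)`. -/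
noncomputable def phi0 (F : Type*) [Field F] :
    chevD4.SteinbergGroup F →* ↥(Cfsg.isometryGroup F (Cfsg.quadFormPlus 4 F)) :=
  PresentedGroup.toGroup (f := genU F) lift_rels

theorem phi0_range : (phi0 F).range = E 4 F := by
  apply le_antisymm
  · rw [MonoidHom.range_eq_map, ← PresentedGroup.closure_range_of, MonoidHom.map_closure,
      Subgroup.closure_le]
    rintro _ ⟨_, ⟨p, rfl⟩, rfl⟩
    show phi0 F (PresentedGroup.of p) ∈ E 4 F
    rw [phi0, PresentedGroup.toGroup.of]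
    exact T_mem_E _ _ _
  · rw [E, Ek, Subgroup.closure_le]
    rintro g ⟨a, b, t, hab, -, -, rfl⟩
    obtain ⟨r, hr, t', h⟩ := exists_U_eq hab t
    refine ⟨PresentedGroup.of (⟨r, hr⟩, t'), ?_⟩
    rw [h]
    show PresentedGroup.toGroup (f := genU F) lift_rels (PresentedGroup.of _) = _
    rw [PresentedGroup.toGroup.of]
    rfl

/-- The homomorphism from the Steinberg group onto the elementary subgroup. -/
noncomputable def phi (F : Type*) [Field F] : chevD4.SteinbergGroup F →* ↥(E 4 F) :=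
  (phi0 F).codRestrict (E 4 F) (fun x => by rw [← phi0_range]; exact ⟨x, rfl⟩)

theorem phi_surjective : Function.Surjective (phi F) := by
  rintro ⟨y, hy⟩
  rw [← phi0_range] at hy
  obtain ⟨x, rfl⟩ := hy
  exact ⟨x, rfl⟩

end Cfsg.Agent.Lib.Helper45_D4Lift
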