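import Cfsg.Agent.Lib.Helper18_ChevFrob
import Cfsg.Agent.Lib.Helper18_ChevData5
import Cfsg.Prelude.Def_ChevG2
import Cfsg.Prelude.Def_ChevB2
import Cfsg.Prelude.Def_ChevD4
import Cfsg.Prelude.Def_ChevF4
import Cfsg.Prelude.Def_ChevE6
import Cfsg.Prelude.Def_ChevE7
import Cfsg.Prelude.Def_ChevE8

set_option autoImplicit false

/-! The longest elements of the Weyl groups of the seven types, as words in the fundamental reflections. -/

namespace Cfsg.Agent.Lib.Helper18_ChevW0Certs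

open Cfsg Cfsg.Lie Cfsg.Agent.Lib.Helper18_ChevFrob Cfsg.Agent.Lib.Helper18_ChevSimp
  Cfsg.Agent.Lib.Helper18_ChevFast Cfsg.Agent.Lib.Helper18_ChevEngine Cfsg.Agent.Lib.Helper18_ChevN
  Cfsg.Agent.Lib.Helper18_ChevWeyl

/-- The certificate of the longest element, computed with the tables of the reflections. -/
def W0CertFast (D : ChevalleyDatum) (Ns : List NData) (w0 : List ℕ) : Prop :=
  (∀ i ∈ w0, i < D.rank) ∧ ∀ r < D.nroots, D.IsPosRoot r → D.IsNegRoot (wordPi Ns w0 r)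

instance (D : ChevalleyDatum) (Ns : List NData) (w0 : List ℕ) : Decidable (W0CertFast D Ns w0) := by
  unfold W0CertFast
  infer_instance

theorem w0Cert_of_fast {D : ChevalleyDatum} {Ns : List NData} {w0 : List ℕ} (c : DCert D Ns)
    (h : W0CertFast D Ns w0) : W0Cert D w0 := by
  refine ⟨h.1, fun r hr hp => ?_⟩
  rw [← (wordPi_eq c w0 h.1 r hr).1]
  exact h.2 r hr hp

/-- A reduced word of the longest element, type G2. -/
def w0G2 : List ℕ :=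
  [0, 1, 0, 1, 0, 1]

set_option maxHeartbeats 0 in
set_option maxRecDepth 100000 in
theorem w0CertG2 : W0Cert chevG2 w0G2 := by
  apply w0Cert_of_fast Cfsg.Agent.Lib.Helper18_ChevDatumG2.dcert
  decide +kernel

/-- A reduced word of the longest element, type B2. -/
def w0B2 : List ℕ :=
  [0, 1, 0, 1]

set_option maxHeartbeats 0 in
set_option maxRecDepth 100000 in
theorem w0CertB2 : W0Cert chevB2 w0B2 := by
  apply w0Cert_of_fast Cfsg.Agent.Lib.Helper18_ChevDatumB2.dcert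
  decide +kernel

/-- A reduced word of the longest element, type D4. -/
def w0D4 : List ℕ :=
  [0, 1, 0, 2, 1, 0, 3, 1, 0, 2, 1, 3]

set_option maxHeartbeats 0 in
set_option maxRecDepth 100000 in
theorem w0CertD4 : W0Cert chevD4 w0D4 := by
  apply w0Cert_of_fast Cfsg.Agent.Lib.Helper18_ChevDatumD4.dcert
  decide +kernel

/-- A reduced word of the longest element, type F4. -/
def w0F4 : List ℕ :=
  [0, 1, 0, 2, 1, 0, 2, 1, 2, 3, 2, 1, 0, 2, 1, 2, 3, 2, 1, 0, 2, 1, 2, 3]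

set_option maxHeartbeats 0 in
set_option maxRecDepth 100000 in
theorem w0CertF4 : W0Cert chevF4 w0F4 := by
  apply w0Cert_of_fast Cfsg.Agent.Lib.Helper18_ChevDatumF4.dcert
  decide +kernel

/-- A reduced word of the longest element, type E6. -/
def w0E6 : List ℕ :=
  [0, 1, 2, 0, 3, 1, 2, 0, 3, 2, 4, 3, 1, 2, 0, 3, 2, 4, 3, 1, 5, 4, 3, 1, 2, 0, 3, 2, 4, 3, 1, 5, 4, 3, 2, 0]

set_option maxHeartbeats 0 in
set_option maxRecDepth 100000 in
theorem w0CertE6 : W0Cert chevE6 w0E6 := by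
  apply w0Cert_of_fast Cfsg.Agent.Lib.Helper18_ChevDatumE6.dcert
  decide +kernel

/-- A reduced word of the longest element, type E7. -/
def w0E7 : List ℕ :=
  [0, 1, 2, 0, 3, 1, 2, 0, 3, 2, 4, 3, 1, 2, 0, 3, 2, 4, 3, 1, 5, 4, 3, 1, 2, 0, 3, 2, 4, 3, 1, 5, 4, 3,
    2, 0, 6, 5, 4, 3, 1, 2, 0, 3, 2, 4, 3, 1, 5, 4, 3, 2, 0, 6, 5, 4, 3, 1, 2, 3, 4, 5, 6]

set_option maxHeartbeats 0 in
set_option maxRecDepth 100000 in
theorem w0CertE7 : W0Cert chevE7 w0E7 := by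
  apply w0Cert_of_fast Cfsg.Agent.Lib.Helper18_ChevDatumE7.dcert
  decide +kernel

/-- A reduced word of the longest element, type E8. -/
def w0E8 : List ℕ :=
  [0, 1, 2, 0, 3, 1, 2, 0, 3, 2, 4, 3, 1, 2, 0, 3, 2, 4, 3, 1, 5, 4, 3, 1, 2, 0, 3, 2, 4, 3, 1, 5, 4, 3,
    2, 0, 6, 5, 4, 3, 1, 2, 0, 3, 2, 4, 3, 1, 5, 4, 3, 2, 0, 6, 5, 4, 3, 1, 2, 3, 4, 5, 6, 7, 6, 5, 4, 3,
    1, 2, 0, 3, 2, 4, 3, 1, 5, 4, 3, 2, 0, 6, 5, 4, 3, 1, 2, 3, 4, 5, 6, 7, 6, 5, 4, 3, 1, 2, 0, 3, 2, 4,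
    3, 1, 5, 4, 3, 2, 0, 6, 5, 4, 3, 1, 2, 3, 4, 5, 6, 7]

set_option maxHeartbeats 0 in
set_option maxRecDepth 100000 in
theorem w0CertE8 : W0Cert chevE8 w0E8 := by
  apply w0Cert_of_fast Cfsg.Agent.Lib.Helper18_ChevDatumE8.dcert
  decide +kernel

theorem exists_w0Cert (D : ChevalleyDatum)
    (hD : D ∈ [chevG2, chevB2, chevD4, chevF4, chevE6, chevE7, chevE8]) : ∃ w0, W0Cert D w0 := by
  simp only [List.mem_cons, List.not_mem_nil, or_false] at hD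
  rcases hD with rfl | rfl | rfl | rfl | rfl | rfl | rfl
  · exact ⟨_, w0CertG2⟩
  · exact ⟨_, w0CertB2⟩
  · exact ⟨_, w0CertD4⟩
  · exact ⟨_, w0CertF4⟩
  · exact ⟨_, w0CertE6⟩
  · exact ⟨_, w0CertE7⟩
  · exact ⟨_, w0CertE8⟩

end Cfsg.Agent.Lib.Helper18_ChevW0Certs
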