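/-
Steinberg's presentation (helper81), abstract part 2: the elements of the rank one subgroups `⟨X_{p}, X_{-p}⟩`
(`p` fundamental) of a group with Steinberg's relations (R1), (R2) act on the root elements `X r t` exactly as their
images in the Chevalley group act on the root elements there (Steinberg, Lectures on Chevalley groups, Lemma 37).
-/
import Mathlib
import Cfsg.Agent.Lib.Helper81_StAbs
import Cfsg.Agent.Lib.Helper18_ChevBruhat

set_option autoImplicit false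
set_option linter.unusedSectionVars false
set_option linter.unusedVariables false

namespace Cfsg.Agent.Lib.Helper81_StL37

open Cfsg Cfsg.Lie Cfsg.Agent.Lib.Helper18_ChevFast Cfsg.Agent.Lib.Helper18_ChevEngine
  Cfsg.Agent.Lib.Helper18_ChevR1 Cfsg.Agent.Lib.Helper18_ChevN Cfsg.Agent.Lib.Helper18_ChevR4
  Cfsg.Agent.Lib.Helper18_ChevSimple Cfsg.Agent.Lib.Helper18_ChevSimple2 Cfsg.Agent.Lib.Helper18_ChevFacts
  Cfsg.Agent.Lib.Helper18_ChevWeyl Cfsg.Agent.Lib.Helper18_ChevDiag Cfsg.Agent.Lib.Helper18_ChevCar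
  Cfsg.Agent.Lib.Helper18_ChevTorus Cfsg.Agent.Lib.Helper18_ChevGL Cfsg.Agent.Lib.Helper18_ChevComm
  Cfsg.Agent.Lib.Helper18_ChevComm2 Cfsg.Agent.Lib.Helper18_MatTri Cfsg.Agent.Lib.Helper18_ChevTri
  Cfsg.Agent.Lib.Helper18_ChevBorel Cfsg.Agent.Lib.Helper18_ChevAdd Cfsg.Agent.Lib.Helper18_ChevUni
  Cfsg.Agent.Lib.Helper18_ChevBN Cfsg.Agent.Lib.Helper18_ChevMono Cfsg.Agent.Lib.Helper18_ChevBNPair
  Cfsg.Agent.Lib.Helper18_ChevLevi
  Cfsg.Agent.Lib.Helper81_StUniq Cfsg.Agent.Lib.Helper81_StAbs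

variable {D : ChevalleyDatum} {Ns : List NData} {F : Type*} [Field F] {Γ : Type*} [Group Γ]
variable {wl : List ℤ} {ws : List (List ℤ)} {sc : ℤ}

/-! ### Monomial action on the root elements -/

/-- `y` permutes the root elements `X r ·` by `σ`, with inverse scalars on opposite roots. -/
def MonoAct (D : ChevalleyDatum) (X : ℕ → F → Γ) (y : Γ) (σ : ℕ → ℕ) : Prop :=
  ∀ r < D.nroots, σ r < D.nroots ∧ σ (D.neg r) = D.neg (σ r) ∧ ∃ a : F, a ≠ 0 ∧
    (∀ t : F, y * X r t * y⁻¹ = X (σ r) (a * t)) ∧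
    (∀ t : F, y * X (D.neg r) t * y⁻¹ = X (D.neg (σ r)) (a⁻¹ * t))

theorem monoAct_one (X : ℕ → F → Γ) : MonoAct D X (1 : Γ) id := by
  intro r hr
  exact ⟨hr, rfl, 1, one_ne_zero, fun t => by simp, fun t => by simp⟩

theorem MonoAct.congr {X : ℕ → F → Γ} {y : Γ} {σ σ' : ℕ → ℕ} (h : MonoAct D X y σ)
    (hneg : ∀ r < D.nroots, D.neg r < D.nroots) (hσ : ∀ r < D.nroots, σ' r = σ r) : MonoAct D X y σ' := by
  intro r hr
  obtain ⟨h1, h2, a, ha, h3, h4⟩ := h r hr
  rw [hσ r hr, hσ _ (hneg r hr)]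
  exact ⟨h1, h2, a, ha, h3, h4⟩

theorem MonoAct.mul {X : ℕ → F → Γ} {y₁ y₂ : Γ} {σ₁ σ₂ : ℕ → ℕ} (h₁ : MonoAct D X y₁ σ₁)
    (h₂ : MonoAct D X y₂ σ₂) : MonoAct D X (y₁ * y₂) (σ₁ ∘ σ₂) := by
  intro r hr
  obtain ⟨h1, h2, a, ha, h3, h4⟩ := h₂ r hr
  obtain ⟨k1, k2, b, hb, k3, k4⟩ := h₁ (σ₂ r) h1
  refine ⟨k1, ?_, b * a, mul_ne_zero hb ha, ?_, ?_⟩
  · show σ₁ (σ₂ (D.neg r)) = D.neg (σ₁ (σ₂ r))
    rw [h2, k2]
  · intro t
    have : y₁ * y₂ * X r t * (y₁ * y₂)⁻¹ = y₁ * (y₂ * X r t * y₂⁻¹) * y₁⁻¹ := by group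
    rw [this, h3, k3, mul_assoc]
    rfl
  · intro t
    have : y₁ * y₂ * X (D.neg r) t * (y₁ * y₂)⁻¹ = y₁ * (y₂ * X (D.neg r) t * y₂⁻¹) * y₁⁻¹ := by group
    rw [this, h4, k4, mul_inv, mul_assoc]
    rfl

/-- The image of a monomially acting element acts monomially. -/
theorem MonoAct.map (c : DCert D Ns) {X : ℕ → F → Γ} {π : Γ →* GL D.Idx F} (hπ : IsLift c X π) {y : Γ}
    {σ : ℕ → ℕ} (h : MonoAct D X y σ) : MonoAct D (xGL c) (π y) σ := by
  intro r hr
  obtain ⟨h1, h2, a, ha, h3, h4⟩ := h r hr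
  have hnr := DCert.neg_lt c r hr
  refine ⟨h1, h2, a, ha, ?_, ?_⟩
  · intro t
    have := congrArg π (h3 t)
    rwa [map_mul, map_mul, map_inv, hπ r hr, hπ _ h1] at this
  · intro t
    have := congrArg π (h4 t)
    rwa [map_mul, map_mul, map_inv, hπ _ hnr, hπ _ (DCert.neg_lt c _ h1)] at this

/-! ### The action of `N` on the root elements of the Chevalley group -/

theorem monoAct_nGL (c : DCert D Ns) (i : ℕ) (hi : i < D.rank) :
    MonoAct D (xGL c) (nGL c i : GL D.Idx F) (D.reflectRoot i) := by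
  intro r hr
  have fr := facts c.rows (c.ncert i hi) r hr
  have hη := eta_cast_sq (F := F) (c.etaZ_pm i hi r hr)
  refine ⟨fr.refl_lt, fr.refl_neg, ((etaZ Ns i r : ℤ) : F), eta_cast_ne_zero c i hi r hr,
    fun t => nGL_conj c i hi r hr t, ?_⟩
  intro t
  rw [nGL_conj c i hi _ fr.neg_lt, fr.refl_neg, eta_inv hη]
  have e : etaZ Ns i (D.neg r) = etaZ Ns i r := fr.eta_neg
  rw [e]

theorem monoAct_diagonal (c : DCert D Ns) (tc : TCert D) (h : GL D.Idx F) (hh : h ∈ D.diagonalSubgroup F) :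
    MonoAct D (xGL c) h id := by
  obtain ⟨τ, hτ, hk⟩ := exists_torus_of_mem c tc h hh
  have hchar := isChar_torus c tc τ hτ
  have key : ∀ r < D.nroots, ∀ t : F, h * xGL c r t * h⁻¹ = xGL c r (torusChar D τ r * t) := by
    intro r hr t
    rw [mul_inv_eq_iff_eq_mul]
    apply Units.ext
    rw [Units.val_mul, Units.val_mul, xGL_coe, hk, xGL_coe]
    exact torus_conj c tc τ hτ r hr t
  intro r hr
  refine ⟨hr, rfl, torusChar D τ r, torusChar_ne_zero τ hτ r, key r hr, ?_⟩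
  intro t
  have h1 := hchar.neg r hr
  have e : (torusChar D τ r)⁻¹ = torusChar D τ (D.neg r) := by
    have h1' : torusChar D τ (D.neg r) * torusChar D τ r = 1 := h1
    exact inv_eq_of_mul_eq_one_left h1'
  show h * xGL c (D.neg r) t * h⁻¹ = xGL c (D.neg r) ((torusChar D τ r)⁻¹ * t)
  rw [e]
  exact key _ (DCert.neg_lt c r hr) t

/-- `n_p(a) = h_p(a) n_p` in the general linear group. -/
theorem nrGL_eq (c : DCert D Ns) (i : ℕ) (hi : i < D.rank) (a : F) :
    nrGL c (D.simple i) a = hGL c (D.simple i) a * nGL c i := by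
  apply Units.ext
  rw [Units.val_mul, nrGL_coe, hGL_coe, nGL_coe]
  exact nMat_eq_hMat_mul c i hi a

theorem monoAct_nrGL (c : DCert D Ns) (tc : TCert D) (i : ℕ) (hi : i < D.rank) (a : F) (ha : a ≠ 0) :
    MonoAct D (xGL c) (nrGL c (D.simple i) a : GL D.Idx F) (D.reflectRoot i) := by
  rw [nrGL_eq c i hi]
  have h1 := monoAct_diagonal c tc _ (hGL_mem c (D.simple i) (c.ncert i hi).simple_lt a ha)
  exact (h1.mul (monoAct_nGL c i hi)).congr (fun r hr => DCert.neg_lt c r hr) (fun r _ => rfl)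

theorem nrGL_mem_monomial (c : DCert D Ns) (i : ℕ) (hi : i < D.rank) (a : F) (ha : a ≠ 0) :
    nrGL c (D.simple i) a ∈ D.monomialSubgroup F := by
  rw [nrGL_eq c i hi]
  exact Subgroup.mul_mem _ (diagonal_le_monomial (hGL_mem c (D.simple i) (c.ncert i hi).simple_lt a ha))
    (nGL_mem_monomial c i hi)

/-! ### The rank one subgroups -/

/-- The subgroup generated by the root elements of `p` and `-p`, `p` the `i`-th fundamental root. -/
def L1 (D : ChevalleyDatum) (X : ℕ → F → Γ) (i : ℕ) : Subgroup Γ :=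
  Subgroup.closure {y | ∃ t : F, y = X (D.simple i) t ∨ y = X (D.neg (D.simple i)) t}

/-- The element `n_p(a)` of the group `Γ`. -/
def nB (D : ChevalleyDatum) (X : ℕ → F → Γ) (i : ℕ) (a : F) : Γ := wordP X (D.nWord (D.simple i) a)

theorem nB_eq (X : ℕ → F → Γ) (i : ℕ) (a : F) :
    nB D X i a = X (D.simple i) a * X (D.neg (D.simple i)) (-a⁻¹) * X (D.simple i) a := by
  unfold nB ChevalleyDatum.nWord wordP
  simp [mul_assoc]

theorem nB_mem_L1 (X : ℕ → F → Γ) (i : ℕ) (a : F) : nB D X i a ∈ L1 D X i := by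
  rw [nB_eq]
  have h1 : ∀ t : F, X (D.simple i) t ∈ L1 D X i := fun t => Subgroup.subset_closure ⟨t, Or.inl rfl⟩
  have h2 : ∀ t : F, X (D.neg (D.simple i)) t ∈ L1 D X i := fun t => Subgroup.subset_closure ⟨t, Or.inr rfl⟩
  exact Subgroup.mul_mem _ (Subgroup.mul_mem _ (h1 _) (h2 _)) (h1 _)

theorem map_nB (c : DCert D Ns) {X : ℕ → F → Γ} {π : Γ →* GL D.Idx F} (hπ : IsLift c X π) (i : ℕ)
    (hi : i < D.rank) (a : F) : π (nB D X i a) = nrGL c (D.simple i) a := by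
  unfold nB nrGL
  apply map_wordP_lift c hπ
  intro p hp
  have hs := (c.ncert i hi).simple_lt
  unfold ChevalleyDatum.nWord at hp
  simp only [List.mem_cons, List.not_mem_nil, or_false] at hp
  rcases hp with rfl | rfl | rfl
  · exact hs
  · exact DCert.neg_lt c _ hs
  · exact hs

/-- The rank one subgroup normalizes `SG` for an additive function vanishing at the fundamental root. -/
theorem L1_le_normalizer (c : DCert D Ns) (tc : TCert D) (ac : ACert D wl ws sc) {X : ℕ → F → Γ}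
    (hX : StGrp D X) (i : ℕ) (hi : i < D.rank) (wg : List ℤ) (h0 : grRoot D wg (D.simple i) = 0) :
    L1 D X i ≤ Subgroup.normalizer (SG D X (grRoot D wg) : Set Γ) := by
  have hg := isGrading_w c tc wg
  have hs := (c.ncert i hi).simple_lt
  have hns := DCert.neg_lt c _ hs
  have h0' : grRoot D wg (D.neg (D.simple i)) = 0 := by
    rw [grRoot_neg c tc wg _ hs, h0, neg_zero]
  have key : ∀ ρ < D.nroots, grRoot D wg ρ = 0 → ∀ t : F,
      ∀ z ∈ {y | ∃ s < D.nroots, 1 ≤ grRoot D wg s ∧ ∃ t : F, y = X s t},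
        (X ρ t)⁻¹ * z * X ρ t ∈ SG D X (grRoot D wg) := by
    rintro ρ hρ hρ0 t z ⟨s, hs, hgs, u, rfl⟩
    have h1 : s ≠ ρ := by
      rintro rfl
      omega
    have h2 : s ≠ D.neg ρ := by
      rintro rfl
      rw [grRoot_neg c tc wg _ hρ] at hgs
      omega
    apply hX.conj_mem hρ hs h1 h2
    · intro u'
      exact X_mem_SG X _ hs hgs u'
    · intro k hk a
      obtain ⟨hk1, hi', hj, hgk⟩ := commTerms_grading c.rows ac.in_range hg ρ s hρ hs k hk
      apply X_mem_SG X _ hk1 _ a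
      rw [hgk, hρ0, mul_zero, zero_add]
      have h6 : (1 : ℤ) ≤ (k.2.2.2 : ℤ) := by exact_mod_cast hj
      nlinarith
  have hgen : ∀ ρ < D.nroots, grRoot D wg ρ = 0 → ∀ t : F,
      X ρ t ∈ Subgroup.normalizer (SG D X (grRoot D wg) : Set Γ) := by
    intro ρ hρ hρ0 t
    unfold SG
    apply mem_normalizer_closure
    · intro z hz
      have := key ρ hρ hρ0 (-t) z hz
      rwa [← hX.inv ρ hρ, inv_inv] at this
    · intro z hz
      exact key ρ hρ hρ0 t z hz
  unfold L1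
  rw [Subgroup.closure_le]
  rintro y ⟨t, rfl | rfl⟩
  · exact hgen _ hs h0 t
  · exact hgen _ hns h0' t

theorem L1_conj_mem (c : DCert D Ns) (tc : TCert D) (ac : ACert D wl ws sc) {X : ℕ → F → Γ}
    (hX : StGrp D X) (i : ℕ) (hi : i < D.rank) (wg : List ℤ) (h0 : grRoot D wg (D.simple i) = 0)
    (y : Γ) (hy : y ∈ L1 D X i) (z : Γ) (hz : z ∈ SG D X (grRoot D wg)) :
    y * z * y⁻¹ ∈ SG D X (grRoot D wg) :=
  (Subgroup.mem_normalizer_iff.mp (L1_le_normalizer c tc ac hX i hi wg h0 hy) z).mp hz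

/-! ### The certificate for the roots different from `±p` -/

/-- The coefficients of the coroot of `s` on the fundamental coroots. -/
def corL (D : ChevalleyDatum) (s : ℕ) : List ℤ := (List.range D.rank).map (cor D s)

/-- Weights of an additive function vanishing at `p_i` and positive at `s` (for `s ≠ ±p_i`). -/
def wA (D : ChevalleyDatum) (i s : ℕ) : List ℤ :=
  (List.range D.rank).map fun j => 2 * cor D s j - if j = i then grL D (corL D s) (D.simple i) else 0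

/-- The certificate: the additive function of `wA D i s` vanishes at `p_i` and is positive at `s`. -/
def CertA (D : ChevalleyDatum) : Prop :=
  ∀ i < D.rank, ∀ s < D.nroots, s ≠ D.simple i → s ≠ D.neg (D.simple i) →
    grL D (wA D i s) (D.simple i) = 0 ∧ 1 ≤ grL D (wA D i s) s

instance (D : ChevalleyDatum) : Decidable (CertA D) := by
  unfold CertA
  infer_instance

/-- Lemma A: the action on the root elements of the roots different from `±p_i`. -/
theorem lift_eq_A (c : DCert D Ns) (tc : TCert D) (ac : ACert D wl ws sc) (hA : CertA D) {X : ℕ → F → Γ}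
    (hX : StGrp D X) {π : Γ →* GL D.Idx F} (hπ : IsLift c X π) (i : ℕ) (hi : i < D.rank)
    (y : Γ) (hy : y ∈ L1 D X i) (s : ℕ) (hs : s < D.nroots) (hs1 : s ≠ D.simple i)
    (hs2 : s ≠ D.neg (D.simple i)) (s' : ℕ) (hs' : s' = s ∨ s' = D.reflectRoot i s) (u v : F)
    (h : π y * xGL c s u * (π y)⁻¹ = xGL c s' v) : y * X s u * y⁻¹ = X s' v := by
  obtain ⟨h0, h1⟩ := hA i hi s hs hs1 hs2
  rw [grL_eq] at h0 h1
  have hs'lt : s' < D.nroots := by
    rcases hs' with rfl | rfl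
    · exact hs
    · exact c.reflect_lt i hi s hs
  have h1' : 1 ≤ grRoot D (wA D i s) s' := by
    rcases hs' with rfl | rfl
    · exact h1
    · rw [grRoot_reflect c i hi _ s hs, h0, zero_mul, sub_zero]
      exact h1
  apply injOn_SG c tc ac hX hπ (wA D i s)
  · exact L1_conj_mem c tc ac hX i hi _ h0 y hy _ (X_mem_SG X _ hs h1 u)
  · exact X_mem_SG X _ hs'lt h1' v
  · rw [map_mul, map_mul, map_inv, hπ s hs, hπ s' hs'lt]
    exact h

/-! ### The certificate for the roots `±p` -/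

/-- The data of the certificate for a root `ρ₀`: roots `γ`, `δ` whose commutator formula contains `ρ₀ = γ + q δ` with
coefficient `C = ±1`, weights `w` of an additive function positive at `γ` and `δ`, and the other terms of the formula
before and after the term of `ρ₀`. -/
structure BData where
  γ : ℕ
  δ : ℕ
  C : ℤ
  q : ℕ
  w : List ℤ
  pre : List (ℕ × ℤ × ℕ × ℕ)
  post : List (ℕ × ℤ × ℕ × ℕ)

instance : Inhabited BData := ⟨⟨0, 0, 0, 0, [], [], []⟩⟩

/-- The checks of the certificate for the root `ρ₀`. -/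
def BOK (D : ChevalleyDatum) (ρ₀ : ℕ) (b : BData) : Prop :=
  b.γ < D.nroots ∧ b.δ < D.nroots ∧ b.δ ≠ b.γ ∧ b.δ ≠ D.neg b.γ ∧ b.γ ≠ ρ₀ ∧ b.δ ≠ ρ₀ ∧
  1 ≤ grL D b.w b.γ ∧ 1 ≤ grL D b.w b.δ ∧
  D.commTerms b.γ b.δ = b.pre ++ (ρ₀, b.C, 1, b.q) :: b.post ∧ (b.C = 1 ∨ b.C = -1) ∧
  (∀ k ∈ b.pre, k.1 ≠ ρ₀) ∧ (∀ k ∈ b.post, k.1 ≠ ρ₀)

instance (D : ChevalleyDatum) (ρ₀ : ℕ) (b : BData) : Decidable (BOK D ρ₀ b) := by
  unfold BOK
  infer_instance

/-- The certificate for the roots `±p_i`. -/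
def CertB (D : ChevalleyDatum) (bs : List BData) : Prop :=
  ∀ i < D.rank, BOK D (D.simple i) (bs.getD (2 * i) default) ∧
    BOK D (D.neg (D.simple i)) (bs.getD (2 * i + 1) default)

instance (D : ChevalleyDatum) (bs : List BData) : Decidable (CertB D bs) := by
  unfold CertB
  infer_instance

/-- The weights of the additive function `s ↦ g (w_i s)`. -/
def reflW (D : ChevalleyDatum) (i : ℕ) (w : List ℤ) : List ℤ :=
  (List.range D.rank).map fun j => w.getD j 0 - if j = i then grRoot D w (D.simple i) else 0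

theorem grRoot_reflW (c : DCert D Ns) (i : ℕ) (hi : i < D.rank) (w : List ℤ) (s : ℕ) (hs : s < D.nroots) :
    grRoot D (reflW D i w) s = grRoot D w (D.reflectRoot i s) := by
  rw [grRoot_reflect c i hi w s hs]
  generalize hG : grRoot D w (D.simple i) = G
  have h1 : grRoot D (reflW D i w) s =
      ∑ j ∈ Finset.range D.rank, (w.getD j 0 * D.cartan j s - if j = i then G * D.cartan j s else 0) := by
    unfold grRoot
    apply Finset.sum_congr rfl
    intro j hj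
    have hj' := Finset.mem_range.mp hj
    have e : (reflW D i w).getD j 0 = w.getD j 0 - if j = i then G else 0 := by
      unfold reflW
      rw [List.getD_eq_getElem?_getD, List.getElem?_map, List.getElem?_range hj', hG]
      rfl
    rw [e]
    by_cases hji : j = i
    · rw [if_pos hji, if_pos hji]; ring
    · rw [if_neg hji, if_neg hji]; ring
  rw [h1, Finset.sum_sub_distrib, Finset.sum_ite_eq' (Finset.range D.rank) i, if_pos (Finset.mem_range.mpr hi)]
  rfl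

/-- Lemma B: the action on the root elements of a root `ρ₀` with a certificate. -/
theorem lift_eq_B (c : DCert D Ns) (tc : TCert D) (ac : ACert D wl ws sc) {X : ℕ → F → Γ}
    (hX : StGrp D X) {π : Γ →* GL D.Idx F} (hπ : IsLift c X π) (ρ₀ : ℕ) (hρ₀ : ρ₀ < D.nroots) (b : BData)
    (hb : BOK D ρ₀ b) (y : Γ) (σ : ℕ → ℕ) (w'' : List ℤ)
    (hw'' : ∀ k < D.nroots, grRoot D w'' (σ k) = grRoot D b.w k) (hσlt : ∀ k < D.nroots, σ k < D.nroots)
    (hact : ∀ k < D.nroots, 1 ≤ grRoot D b.w k → k ≠ ρ₀ → ∃ a : F, ∀ v : F, y * X k v * y⁻¹ = X (σ k) (a * v))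
    (u v : F) (h : π y * xGL c ρ₀ u * (π y)⁻¹ = xGL c (σ ρ₀) v) : y * X ρ₀ u * y⁻¹ = X (σ ρ₀) v := by
  obtain ⟨hγ, hδ, hδγ, hδn, hγρ, hδρ, hgγ, hgδ, hterms, hC, hpre, hpost⟩ := hb
  rw [grL_eq] at hgγ hgδ
  have hg := isGrading_w c tc b.w
  -- the value at `ρ₀`
  have hmemρ : (ρ₀, b.C, 1, b.q) ∈ D.commTerms b.γ b.δ := by
    rw [hterms]
    simp
  obtain ⟨-, -, hq1, hgρ⟩ := commTerms_grading c.rows ac.in_range hg b.γ b.δ hγ hδ _ hmemρ
  simp only at hq1 hgρ
  have hgρ1 : 1 ≤ grRoot D b.w ρ₀ := by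
    rw [hgρ]
    have h6 : (1 : ℤ) ≤ (b.q : ℤ) := by exact_mod_cast hq1
    push_cast
    nlinarith
  -- the subgroup generated by the other root elements
  set P : Subgroup Γ := Subgroup.closure {z | ∃ k < D.nroots, 1 ≤ grRoot D b.w k ∧ k ≠ ρ₀ ∧ ∃ v : F, z = X k v}
    with hP
  have hXP : ∀ k < D.nroots, 1 ≤ grRoot D b.w k → k ≠ ρ₀ → ∀ v : F, X k v ∈ P :=
    fun k hk h1 h2 v => Subgroup.subset_closure ⟨k, hk, h1, h2, v, rfl⟩
  -- `X ρ₀ u ∈ P`
  have hCF : ((b.C : ℤ) : F) * ((b.C : ℤ) : F) = 1 := by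
    rcases hC with h | h <;> rw [h] <;> simp
  have hmem : X ρ₀ u ∈ P := by
    have hR := hX.comm b.γ b.δ hγ hδ hδγ hδn (-(((b.C : ℤ) : F) * u)) 1
    have hword : wordP X (D.commWord F b.γ b.δ (-(((b.C : ℤ) : F) * u)) 1) =
        wordP X (b.pre.map fun k => (k.1, (k.2.1 : F) * (-(-(((b.C : ℤ) : F) * u))) ^ k.2.2.1 * 1 ^ k.2.2.2)) *
          X ρ₀ u *
        wordP X (b.post.map fun k => (k.1, (k.2.1 : F) * (-(-(((b.C : ℤ) : F) * u))) ^ k.2.2.1 * 1 ^ k.2.2.2)) := by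
      have hval : ((b.C : ℤ) : F) * (-(-(((b.C : ℤ) : F) * u))) ^ 1 * 1 ^ b.q = u := by
        rw [neg_neg, pow_one, one_pow, mul_one, ← mul_assoc, hCF, one_mul]
      unfold ChevalleyDatum.commWord
      rw [hterms, List.map_append, List.map_cons, wordP_append, wordP_cons]
      simp only []
      rw [hval, mul_assoc]
    have hterm_mem : ∀ k ∈ D.commTerms b.γ b.δ, k.1 ≠ ρ₀ → ∀ a : F, X k.1 a ∈ P := by
      intro k hk hne a
      obtain ⟨hk1, hi', hj, hgk⟩ := commTerms_grading c.rows ac.in_range hg b.γ b.δ hγ hδ k hk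
      apply hXP k.1 hk1 _ hne a
      rw [hgk]
      have h5 : (1 : ℤ) ≤ (k.2.2.1 : ℤ) := by exact_mod_cast hi'
      have h6 : (1 : ℤ) ≤ (k.2.2.2 : ℤ) := by exact_mod_cast hj
      nlinarith
    have hA : wordP X (b.pre.map fun k =>
        (k.1, (k.2.1 : F) * (-(-(((b.C : ℤ) : F) * u))) ^ k.2.2.1 * 1 ^ k.2.2.2)) ∈ P := by
      apply wordP_mem
      intro p hp
      rw [List.mem_map] at hp
      obtain ⟨k, hk, rfl⟩ := hp
      apply hterm_mem k _ (hpre k hk)
      rw [hterms]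
      exact List.mem_append_left _ hk
    have hB : wordP X (b.post.map fun k =>
        (k.1, (k.2.1 : F) * (-(-(((b.C : ℤ) : F) * u))) ^ k.2.2.1 * 1 ^ k.2.2.2)) ∈ P := by
      apply wordP_mem
      intro p hp
      rw [List.mem_map] at hp
      obtain ⟨k, hk, rfl⟩ := hp
      apply hterm_mem k _ (hpost k hk)
      rw [hterms]
      exact List.mem_append_right _ (List.mem_cons_of_mem _ hk)
    have hcomm : (X b.δ 1)⁻¹ * (X b.γ (-(((b.C : ℤ) : F) * u)))⁻¹ * X b.δ 1 * X b.γ (-(((b.C : ℤ) : F) * u)) ∈ P := by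
      have h1 := hXP b.δ hδ hgδ hδρ
      have h2 := hXP b.γ hγ hgγ hγρ
      exact Subgroup.mul_mem _ (Subgroup.mul_mem _ (Subgroup.mul_mem _ (Subgroup.inv_mem _ (h1 _))
        (Subgroup.inv_mem _ (h2 _))) (h1 _)) (h2 _)
    rw [hR, hword] at hcomm
    set A := wordP X (b.pre.map fun k =>
        (k.1, (k.2.1 : F) * (-(-(((b.C : ℤ) : F) * u))) ^ k.2.2.1 * 1 ^ k.2.2.2)) with hAdef
    set B := wordP X (b.post.map fun k =>
        (k.1, (k.2.1 : F) * (-(-(((b.C : ℤ) : F) * u))) ^ k.2.2.1 * 1 ^ k.2.2.2)) with hBdef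
    have e : X ρ₀ u = A⁻¹ * (A * X ρ₀ u * B) * B⁻¹ := by group
    rw [e]
    exact Subgroup.mul_mem _ (Subgroup.mul_mem _ (Subgroup.inv_mem _ hA) hcomm) (Subgroup.inv_mem _ hB)
  -- conjugation by `y` maps `P` into `SG`
  have hconj : ∀ z ∈ P, y * z * y⁻¹ ∈ SG D X (grRoot D w'') := by
    intro z hz
    have hle : P ≤ (SG D X (grRoot D w'')).comap (MulAut.conj y).toMonoidHom := by
      rw [hP, Subgroup.closure_le]
      rintro z ⟨k, hk, hk1, hk2, v', rfl⟩
      show y * X k v' * y⁻¹ ∈ SG D X (grRoot D w'')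
      obtain ⟨a, ha⟩ := hact k hk hk1 hk2
      rw [ha]
      apply X_mem_SG X _ (hσlt k hk)
      rw [hw'' k hk]
      exact hk1
    exact hle hz
  apply injOn_SG c tc ac hX hπ w''
  · exact hconj _ hmem
  · apply X_mem_SG X _ (hσlt ρ₀ hρ₀)
    rw [hw'' ρ₀ hρ₀]
    exact hgρ1
  · rw [map_mul, map_mul, map_inv, hπ ρ₀ hρ₀, hπ _ (hσlt ρ₀ hρ₀)]
    exact h

/-- Lemma 37: an element of the rank one subgroup whose image acts monomially on the root elements of the Chevalley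
group, by the identity or the fundamental reflection on the roots, acts in the same way on the root elements of
`Γ`. -/
theorem monoAct_lift (c : DCert D Ns) (tc : TCert D) (ac : ACert D wl ws sc) (hA : CertA D) {bs : List BData}
    (hB : CertB D bs) {X : ℕ → F → Γ} (hX : StGrp D X) {π : Γ →* GL D.Idx F} (hπ : IsLift c X π) (i : ℕ)
    (hi : i < D.rank) (y : Γ) (hy : y ∈ L1 D X i) (σ : ℕ → ℕ)
    (hσ : (∀ s < D.nroots, σ s = s) ∨ (∀ s < D.nroots, σ s = D.reflectRoot i s))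
    (hG : MonoAct D (xGL c) (π y) σ) : MonoAct D X y σ := by
  have hsi := (c.ncert i hi).simple_lt
  have hnsi := DCert.neg_lt c _ hsi
  have hσ' : ∀ s < D.nroots, σ s = s ∨ σ s = D.reflectRoot i s := by
    intro s hs
    rcases hσ with h | h
    · exact Or.inl (h s hs)
    · exact Or.inr (h s hs)
  have hσlt : ∀ k < D.nroots, σ k < D.nroots := fun k hk => (hG k hk).1
  -- the roots different from `±p_i`
  have liftA : ∀ s < D.nroots, s ≠ D.simple i → s ≠ D.neg (D.simple i) → ∀ u v : F,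
      π y * xGL c s u * (π y)⁻¹ = xGL c (σ s) v → y * X s u * y⁻¹ = X (σ s) v := by
    intro s hs hs1 hs2 u v h
    exact lift_eq_A c tc ac hA hX hπ i hi y hy s hs hs1 hs2 (σ s) (hσ' s hs) u v h
  -- the weights for Lemma B
  have hexw : ∀ w : List ℤ, ∃ w'' : List ℤ, ∀ k < D.nroots, grRoot D w'' (σ k) = grRoot D w k := by
    intro w
    rcases hσ with h | h
    · exact ⟨w, fun k hk => by rw [h k hk]⟩
    · refine ⟨reflW D i w, fun k hk => ?_⟩
      rw [h k hk, grRoot_reflW c i hi w _ (c.reflect_lt i hi k hk), c.reflect_reflect i hi k hk]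
  -- the roots `±p_i`
  have liftB : ∀ ρ₀ < D.nroots, ∀ b : BData, BOK D ρ₀ b →
      (∀ k < D.nroots, k ≠ ρ₀ → k ≠ D.neg ρ₀ → k ≠ D.simple i ∧ k ≠ D.neg (D.simple i)) → ∀ u v : F,
      π y * xGL c ρ₀ u * (π y)⁻¹ = xGL c (σ ρ₀) v → y * X ρ₀ u * y⁻¹ = X (σ ρ₀) v := by
    intro ρ₀ hρ₀ b hb hne u v h
    obtain ⟨w'', hw''⟩ := hexw b.w
    apply lift_eq_B c tc ac hX hπ ρ₀ hρ₀ b hb y σ w'' hw'' hσlt _ u v h
    intro k hk hk1 hk2
    -- `k ≠ -ρ₀`
    have hgρ1 : 1 ≤ grRoot D b.w ρ₀ := by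
      obtain ⟨hγ, hδ, -, -, -, -, hgγ, hgδ, hterms, -, -, -⟩ := hb
      rw [grL_eq] at hgγ hgδ
      have hmemρ : (ρ₀, b.C, 1, b.q) ∈ D.commTerms b.γ b.δ := by
        rw [hterms]
        simp
      obtain ⟨-, -, hq1, hgρ⟩ := commTerms_grading c.rows ac.in_range (isGrading_w c tc b.w) b.γ b.δ hγ hδ _ hmemρ
      simp only at hq1 hgρ
      rw [hgρ]
      have h6 : (1 : ℤ) ≤ (b.q : ℤ) := by exact_mod_cast hq1
      push_cast
      nlinarith
    have hk3 : k ≠ D.neg ρ₀ := by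
      rintro rfl
      rw [grRoot_neg c tc b.w _ hρ₀] at hk1
      omega
    obtain ⟨h1, h2⟩ := hne k hk hk2 hk3
    obtain ⟨-, -, a, -, h3, -⟩ := hG k hk
    exact ⟨a, fun v' => liftA k hk h1 h2 v' _ (h3 v')⟩
  -- all roots
  have lift : ∀ s < D.nroots, ∀ u v : F,
      π y * xGL c s u * (π y)⁻¹ = xGL c (σ s) v → y * X s u * y⁻¹ = X (σ s) v := by
    intro s hs u v h
    by_cases hs1 : s = D.simple i
    · subst hs1
      apply liftB _ hs _ (hB i hi).1 _ u v h
      intro k _ h1 h2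
      exact ⟨h1, h2⟩
    · by_cases hs2 : s = D.neg (D.simple i)
      · subst hs2
        apply liftB _ hs _ (hB i hi).2 _ u v h
        intro k _ h1 h2
        rw [neg_neg_root c tc ac _ hsi] at h2
        exact ⟨h2, h1⟩
      · exact liftA s hs hs1 hs2 u v h
  intro r hr
  obtain ⟨h1, h2, a, ha, h3, h4⟩ := hG r hr
  refine ⟨h1, h2, a, ha, fun t => lift r hr t _ (h3 t), ?_⟩
  intro t
  have := lift _ (DCert.neg_lt c r hr) t (a⁻¹ * t) (by rw [h2]; exact h4 t)
  rwa [h2] at this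

/-- The elements `n_p(a)` of `Γ` act on the root elements as the fundamental reflection. -/
theorem monoAct_nB (c : DCert D Ns) (tc : TCert D) (ac : ACert D wl ws sc) (hA : CertA D) {bs : List BData}
    (hB : CertB D bs) {X : ℕ → F → Γ} (hX : StGrp D X) {π : Γ →* GL D.Idx F} (hπ : IsLift c X π) (i : ℕ)
    (hi : i < D.rank) (a : F) (ha : a ≠ 0) : MonoAct D X (nB D X i a) (D.reflectRoot i) := by
  apply monoAct_lift c tc ac hA hB hX hπ i hi _ (nB_mem_L1 X i a) _ (Or.inr fun s _ => rfl)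
  rw [map_nB c hπ i hi]
  exact monoAct_nrGL c tc i hi a ha

end Cfsg.Agent.Lib.Helper81_StL37
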