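/-
Steinberg's presentation (helper81), abstract part 3: in a group `Γ` generated by elements `X r t` with Steinberg's
relations (R1), (R2), every element is `u m u'` with `u, u'` in the subgroup `Ū` generated by the positive root
elements and `m` in the subgroup `N̄` generated by the `n_p(a)`; the kernel of a homomorphism to the Chevalley group
matching the generators is central.
-/
import Mathlib
import Cfsg.Agent.Lib.Helper81_StL37

set_option autoImplicit false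
set_option linter.unusedSectionVars false
set_option linter.unusedVariables false

namespace Cfsg.Agent.Lib.Helper81_StBruhat

open Cfsg Cfsg.Lie Cfsg.Agent.Lib.Helper18_ChevFast Cfsg.Agent.Lib.Helper18_ChevEngine
  Cfsg.Agent.Lib.Helper18_ChevR1 Cfsg.Agent.Lib.Helper18_ChevN Cfsg.Agent.Lib.Helper18_ChevR4
  Cfsg.Agent.Lib.Helper18_ChevSimple Cfsg.Agent.Lib.Helper18_ChevSimple2 Cfsg.Agent.Lib.Helper18_ChevFacts
  Cfsg.Agent.Lib.Helper18_ChevWeyl Cfsg.Agent.Lib.Helper18_ChevDiag Cfsg.Agent.Lib.Helper18_ChevCar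
  Cfsg.Agent.Lib.Helper18_ChevTorus Cfsg.Agent.Lib.Helper18_ChevGL Cfsg.Agent.Lib.Helper18_ChevComm
  Cfsg.Agent.Lib.Helper18_ChevComm2 Cfsg.Agent.Lib.Helper18_MatTri Cfsg.Agent.Lib.Helper18_ChevTri
  Cfsg.Agent.Lib.Helper18_ChevBorel Cfsg.Agent.Lib.Helper18_ChevAdd Cfsg.Agent.Lib.Helper18_ChevUni
  Cfsg.Agent.Lib.Helper18_ChevBN Cfsg.Agent.Lib.Helper18_ChevMono Cfsg.Agent.Lib.Helper18_ChevBNPair
  Cfsg.Agent.Lib.Helper18_ChevLevi
  Cfsg.Agent.Lib.Helper81_StUniq Cfsg.Agent.Lib.Helper81_StAbs Cfsg.Agent.Lib.Helper81_StL37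

variable {D : ChevalleyDatum} {Ns : List NData} {F : Type*} [Field F] {Γ : Type*} [Group Γ]
variable {wl : List ℤ} {ws : List (List ℤ)} {sc : ℤ} {X : ℕ → F → Γ}

/-- The subgroup `Ū` generated by the positive root elements. -/
def UB (D : ChevalleyDatum) (X : ℕ → F → Γ) : Subgroup Γ :=
  Subgroup.closure {y | ∃ (r : ℕ) (t : F), D.IsPosRoot r ∧ y = X r t}

/-- The subgroup `Ū_p` generated by the root elements of the positive roots other than `p`. -/
def UBi (D : ChevalleyDatum) (X : ℕ → F → Γ) (i : ℕ) : Subgroup Γ :=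
  Subgroup.closure {y | ∃ (r : ℕ) (t : F), D.IsPosRoot r ∧ r ≠ D.simple i ∧ y = X r t}

/-- The subgroup `N̄` generated by the `n_p(a)`. -/
def NB (D : ChevalleyDatum) (X : ℕ → F → Γ) : Subgroup Γ :=
  Subgroup.closure {y | ∃ i < D.rank, ∃ a : F, a ≠ 0 ∧ y = nB D X i a}

theorem X_mem_UB {r : ℕ} (hr : D.IsPosRoot r) (t : F) : X r t ∈ UB D X :=
  Subgroup.subset_closure ⟨r, t, hr, rfl⟩

theorem UBi_le_UB (i : ℕ) : UBi D X i ≤ UB D X := by
  unfold UBi UB
  apply Subgroup.closure_mono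
  rintro y ⟨r, t, hr, -, rfl⟩
  exact ⟨r, t, hr, rfl⟩

theorem nB_mem_NB {i : ℕ} (hi : i < D.rank) {a : F} (ha : a ≠ 0) : nB D X i a ∈ NB D X :=
  Subgroup.subset_closure ⟨i, hi, a, ha, rfl⟩

theorem UB_eq_SG (ac : ACert D wl ws sc) : UB D X = SG D X (grRoot D wl) := by
  unfold UB SG
  congr 1
  ext y
  constructor
  · rintro ⟨r, t, hr, rfl⟩
    have := ac.gl_pos r hr
    unfold gl at this
    exact ⟨r, hr.1, by omega, t, rfl⟩
  · rintro ⟨r, hr, hg, t, rfl⟩
    refine ⟨r, t, ac.pos_of_gl_pos r hr ?_, rfl⟩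
    unfold gl
    omega

/-- The inverse of `n_p(a)`. -/
theorem nB_inv (c : DCert D Ns) (hX : StGrp D X) (i : ℕ) (hi : i < D.rank) (a : F) :
    (nB D X i a)⁻¹ = nB D X i (-a) := by
  have hs := (c.ncert i hi).simple_lt
  have hns := DCert.neg_lt c _ hs
  rw [nB_eq, nB_eq, mul_inv_rev, mul_inv_rev, hX.inv _ hs, hX.inv _ hns, neg_neg, inv_neg, neg_neg, mul_assoc]

/-- `X_{-p}(a') = X_p(b) n_p(-b) X_p(b)` for `b = a'⁻¹`. -/
theorem X_neg_eq (c : DCert D Ns) (hX : StGrp D X) (i : ℕ) (hi : i < D.rank) (b : F) (hb : b ≠ 0) :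
    X (D.neg (D.simple i)) b⁻¹ = X (D.simple i) b * nB D X i (-b) * X (D.simple i) b := by
  have hs := (c.ncert i hi).simple_lt
  rw [nB_eq, inv_neg, neg_neg]
  have h1 : X (D.simple i) b * X (D.simple i) (-b) = 1 := by
    rw [hX.add _ hs, add_neg_cancel, hX.zero _ hs]
  have h2 : X (D.simple i) (-b) * X (D.simple i) b = 1 := by
    rw [hX.add _ hs, neg_add_cancel, hX.zero _ hs]
  calc X (D.neg (D.simple i)) b⁻¹
      = (X (D.simple i) b * X (D.simple i) (-b)) * X (D.neg (D.simple i)) b⁻¹ *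
          (X (D.simple i) (-b) * X (D.simple i) b) := by rw [h1, h2, one_mul, mul_one]
    _ = _ := by group

/-! ### The subgroup `Ū_p` -/

/-- The root elements of `±p` normalize `Ū_p`. -/
theorem X_mem_normalizer_UBi (c : DCert D Ns) (tc : TCert D) (ac : ACert D wl ws sc) (hX : StGrp D X) (i : ℕ)
    (hi : i < D.rank) (ρ : ℕ) (hρ : ρ = D.simple i ∨ ρ = D.neg (D.simple i)) (t : F) :
    X ρ t ∈ Subgroup.normalizer (UBi D X i : Set Γ) := by
  have hp := (ac.simple i hi).1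
  have hρlt : ρ < D.nroots := by
    rcases hρ with rfl | rfl
    · exact hp
    · exact DCert.neg_lt c _ hp
  have key : ∀ (t : F), ∀ z ∈ {y | ∃ (r : ℕ) (t : F), D.IsPosRoot r ∧ r ≠ D.simple i ∧ y = X r t},
      (X ρ t)⁻¹ * z * X ρ t ∈ UBi D X i := by
    rintro t z ⟨s, u, hs, hne, rfl⟩
    have h1 : s ≠ ρ := by
      rcases hρ with rfl | rfl
      · exact hne
      · rintro rfl
        exact ac.not_pos_and_neg _ hs (neg_isNeg c tc ac _ (ac.simple i hi).2.1)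
    have h2 : s ≠ D.neg ρ := by
      rcases hρ with rfl | rfl
      · rintro rfl
        exact ac.not_pos_and_neg _ hs (neg_isNeg c tc ac _ (ac.simple i hi).2.1)
      · rw [neg_neg_root c tc ac _ hp]
        exact hne
    apply hX.conj_mem hρlt hs.1 h1 h2
    · intro u'
      exact Subgroup.subset_closure ⟨s, u', hs, hne, rfl⟩
    · intro k hk a
      obtain ⟨h3, h4⟩ := commTerms_simple_pos c tc ac i hi ρ hρ s hs hne k hk
      exact Subgroup.subset_closure ⟨k.1, a, h3, h4, rfl⟩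
  unfold UBi
  apply mem_normalizer_closure
  · intro z hz
    have := key (-t) z hz
    rwa [← hX.inv ρ hρlt, inv_inv] at this
  · intro z hz
    exact key t z hz

theorem L1_le_normalizer_UBi (c : DCert D Ns) (tc : TCert D) (ac : ACert D wl ws sc) (hX : StGrp D X) (i : ℕ)
    (hi : i < D.rank) : L1 D X i ≤ Subgroup.normalizer (UBi D X i : Set Γ) := by
  unfold L1
  rw [Subgroup.closure_le]
  rintro y ⟨t, rfl | rfl⟩
  · exact X_mem_normalizer_UBi c tc ac hX i hi _ (Or.inl rfl) t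
  · exact X_mem_normalizer_UBi c tc ac hX i hi _ (Or.inr rfl) t

theorem L1_conj_UBi (c : DCert D Ns) (tc : TCert D) (ac : ACert D wl ws sc) (hX : StGrp D X) (i : ℕ)
    (hi : i < D.rank) (y : Γ) (hy : y ∈ L1 D X i) (z : Γ) (hz : z ∈ UBi D X i) : y * z * y⁻¹ ∈ UBi D X i :=
  (Subgroup.mem_normalizer_iff.mp (L1_le_normalizer_UBi c tc ac hX i hi hy) z).mp hz

/-- `Ū = X_p Ū_p`. -/
theorem UB_decomp (c : DCert D Ns) (tc : TCert D) (ac : ACert D wl ws sc) (hX : StGrp D X) (i : ℕ)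
    (hi : i < D.rank) (u : Γ) (hu : u ∈ UB D X) : ∃ t : F, ∃ u₁ ∈ UBi D X i, u = X (D.simple i) t * u₁ := by
  have hs := (c.ncert i hi).simple_lt
  have hconj : ∀ (t : F), ∀ z ∈ UBi D X i, (X (D.simple i) t)⁻¹ * z * X (D.simple i) t ∈ UBi D X i := by
    intro t z hz
    have h1 := X_mem_normalizer_UBi c tc ac hX i hi _ (Or.inl rfl) (-t)
    rw [← hX.inv _ hs] at h1
    have := (Subgroup.mem_normalizer_iff.mp h1 z).mp hz
    rwa [inv_inv] at this
  unfold UB at hu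
  induction hu using Subgroup.closure_induction with
  | mem y hy =>
    obtain ⟨r, t, hr, rfl⟩ := hy
    by_cases hrs : r = D.simple i
    · subst hrs
      exact ⟨t, 1, Subgroup.one_mem _, by rw [mul_one]⟩
    · exact ⟨0, X r t, Subgroup.subset_closure ⟨r, t, hr, hrs, rfl⟩, by rw [hX.zero _ hs, one_mul]⟩
  | one => exact ⟨0, 1, Subgroup.one_mem _, by rw [hX.zero _ hs, one_mul]⟩
  | mul a b _ _ iha ihb =>
    obtain ⟨t1, y1, hy1, rfl⟩ := iha
    obtain ⟨t2, y2, hy2, rfl⟩ := ihb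
    refine ⟨t1 + t2, ((X (D.simple i) t2)⁻¹ * y1 * X (D.simple i) t2) * y2,
      Subgroup.mul_mem _ (hconj t2 y1 hy1) hy2, ?_⟩
    rw [← hX.add _ hs]
    group
  | inv a _ iha =>
    obtain ⟨t1, y1, hy1, rfl⟩ := iha
    refine ⟨-t1, (X (D.simple i) (-t1))⁻¹ * y1⁻¹ * X (D.simple i) (-t1),
      hconj (-t1) _ (Subgroup.inv_mem _ hy1), ?_⟩
    rw [← hX.inv _ hs]
    group

/-! ### The elements of `N̄` act monomially -/

/-- The subgroup of the elements that act monomially together with their inverses. -/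
def MAct (c : DCert D Ns) (X : ℕ → F → Γ) : Subgroup Γ where
  carrier := {y | (∃ σ, MonoAct D X y σ) ∧ ∃ σ, MonoAct D X y⁻¹ σ}
  one_mem' := ⟨⟨id, monoAct_one X⟩, ⟨id, by rw [inv_one]; exact monoAct_one X⟩⟩
  mul_mem' := by
    rintro a b ⟨⟨σ₁, h₁⟩, ⟨σ₁', h₁'⟩⟩ ⟨⟨σ₂, h₂⟩, ⟨σ₂', h₂'⟩⟩
    refine ⟨⟨_, h₁.mul h₂⟩, ⟨σ₂' ∘ σ₁', ?_⟩⟩
    rw [mul_inv_rev]
    exact h₂'.mul h₁'
  inv_mem' := by
    rintro a ⟨h₁, h₂⟩
    refine ⟨h₂, ?_⟩
    rw [inv_inv]
    exact h₁

theorem NB_le_MAct (c : DCert D Ns) (tc : TCert D) (ac : ACert D wl ws sc) (hA : CertA D) {bs : List BData}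
    (hB : CertB D bs) (hX : StGrp D X) {π : Γ →* GL D.Idx F} (hπ : IsLift c X π) : NB D X ≤ MAct c X := by
  unfold NB
  rw [Subgroup.closure_le]
  rintro y ⟨i, hi, a, ha, rfl⟩
  refine ⟨⟨_, monoAct_nB c tc ac hA hB hX hπ i hi a ha⟩, ⟨D.reflectRoot i, ?_⟩⟩
  rw [nB_inv c hX i hi]
  exact monoAct_nB c tc ac hA hB hX hπ i hi (-a) (neg_ne_zero.mpr ha)

/-! ### The cover `Γ = Ū N̄ Ū` -/

/-- The set `Ū N̄ Ū`. -/
def Om (D : ChevalleyDatum) (X : ℕ → F → Γ) : Set Γ :=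
  {y | ∃ u ∈ UB D X, ∃ m ∈ NB D X, ∃ u' ∈ UB D X, y = u * m * u'}

theorem one_mem_Om : (1 : Γ) ∈ Om D X :=
  ⟨1, Subgroup.one_mem _, 1, Subgroup.one_mem _, 1, Subgroup.one_mem _, by group⟩

theorem UB_mul_Om {u : Γ} (hu : u ∈ UB D X) {ω : Γ} (hω : ω ∈ Om D X) : u * ω ∈ Om D X := by
  obtain ⟨u₁, hu₁, m, hm, u', hu', rfl⟩ := hω
  exact ⟨u * u₁, Subgroup.mul_mem _ hu hu₁, m, hm, u', hu', by group⟩

/-- The key step: `n_p(a) Ū N̄ Ū ⊆ Ū N̄ Ū`. -/
theorem nB_mul_Om (c : DCert D Ns) (tc : TCert D) (ac : ACert D wl ws sc) (hA : CertA D) {bs : List BData}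
    (hB : CertB D bs) (hX : StGrp D X) {π : Γ →* GL D.Idx F} (hπ : IsLift c X π) (i : ℕ) (hi : i < D.rank)
    (a : F) (ha : a ≠ 0) {ω : Γ} (hω : ω ∈ Om D X) : nB D X i a * ω ∈ Om D X := by
  obtain ⟨u, hu, m, hm, u', hu', rfl⟩ := hω
  have hs := (c.ncert i hi).simple_lt
  have hsp := (ac.simple i hi).2.1
  have hns := DCert.neg_lt c _ hs
  obtain ⟨t₀, u₁, hu₁, rfl⟩ := UB_decomp c tc ac hX i hi u hu
  obtain ⟨-, -, c₀, hc₀, hact, -⟩ := monoAct_nB c tc ac hA hB hX hπ i hi a ha (D.simple i) hs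
  rw [reflectRoot_simple] at hact
  have hnN : nB D X i a ∈ NB D X := nB_mem_NB hi ha
  set n := nB D X i a with hn
  have hnL : n ∈ L1 D X i := nB_mem_L1 X i a
  have hu₂ : n * u₁ * n⁻¹ ∈ UBi D X i := L1_conj_UBi c tc ac hX i hi n hnL u₁ hu₁
  have hm' : n * m ∈ NB D X := Subgroup.mul_mem _ hnN hm
  have e1 : n * (X (D.simple i) t₀ * u₁ * m * u') =
      X (D.neg (D.simple i)) (c₀ * t₀) * (n * u₁ * n⁻¹) * (n * m) * u' := by
    rw [← hact t₀]
    group
  rw [e1]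
  by_cases ht : c₀ * t₀ = 0
  · rw [ht, hX.zero _ hns, one_mul]
    exact ⟨_, UBi_le_UB i hu₂, _, hm', u', hu', rfl⟩
  · set a' := c₀ * t₀ with ha'
    set u₂ := n * u₁ * n⁻¹ with hu₂def
    set m' := n * m with hm'def
    -- move `u₂` to the left
    have hu₃ : X (D.neg (D.simple i)) a' * u₂ * (X (D.neg (D.simple i)) a')⁻¹ ∈ UBi D X i :=
      (Subgroup.mem_normalizer_iff.mp (X_mem_normalizer_UBi c tc ac hX i hi _ (Or.inr rfl) a') u₂).mp hu₂
    set u₃ := X (D.neg (D.simple i)) a' * u₂ * (X (D.neg (D.simple i)) a')⁻¹ with hu₃def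
    have e2 : X (D.neg (D.simple i)) a' * u₂ * m' * u' = u₃ * (X (D.neg (D.simple i)) a' * m') * u' := by
      rw [hu₃def]
      group
    rw [e2]
    -- the action of `m'⁻¹`
    obtain ⟨-, ⟨σ', hσ'⟩⟩ := NB_le_MAct c tc ac hA hB hX hπ hm'
    obtain ⟨hσlt, hσneg, e, he, hσ1, hσ2⟩ := hσ' (D.simple i) hs
    rw [inv_inv] at hσ1 hσ2
    rcases ac.posOrNeg _ hσlt with hpos | hneg
    · -- `σ' p` positive: use `X_{-p}(a') = X_p(b) n_p(-b) X_p(b)`
      have hb : a'⁻¹ ≠ 0 := inv_ne_zero ht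
      have e3 := X_neg_eq c hX i hi a'⁻¹ hb
      rw [inv_inv] at e3
      have e4 : X (D.simple i) a'⁻¹ * m' = m' * X (σ' (D.simple i)) (e * a'⁻¹) := by
        rw [← hσ1]
        group
      have e5 : u₃ * (X (D.neg (D.simple i)) a' * m') * u' =
          (u₃ * X (D.simple i) a'⁻¹) * (nB D X i (-a'⁻¹) * m') * (X (σ' (D.simple i)) (e * a'⁻¹) * u') := by
        rw [e3]
        calc u₃ * (X (D.simple i) a'⁻¹ * nB D X i (-a'⁻¹) * X (D.simple i) a'⁻¹ * m') * u'
            = u₃ * X (D.simple i) a'⁻¹ * nB D X i (-a'⁻¹) * (X (D.simple i) a'⁻¹ * m') * u' := by group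
          _ = _ := by rw [e4]; group
      rw [e5]
      exact ⟨_, Subgroup.mul_mem _ (UBi_le_UB i hu₃) (X_mem_UB hsp _), _,
        Subgroup.mul_mem _ (nB_mem_NB hi (neg_ne_zero.mpr hb)) hm', _,
        Subgroup.mul_mem _ (X_mem_UB hpos _) hu', rfl⟩
    · -- `σ' p` negative: `X_{-p}(a') m' = m' X_{-σ' p}(·)` with `-σ' p` positive
      have hpos' : D.IsPosRoot (D.neg (σ' (D.simple i))) := neg_isPos c tc ac _ hneg
      have e4 : X (D.neg (D.simple i)) a' * m' = m' * X (D.neg (σ' (D.simple i))) (e⁻¹ * a') := by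
        rw [← hσ2]
        group
      rw [e4]
      exact ⟨_, UBi_le_UB i hu₃, _, hm', _, Subgroup.mul_mem _ (X_mem_UB hpos' (e⁻¹ * a')) hu', by
        simp only [mul_assoc]⟩

/-- The subgroup of the elements `g` with `g Ω ⊆ Ω` and `g⁻¹ Ω ⊆ Ω`. -/
def StabOm (D : ChevalleyDatum) (X : ℕ → F → Γ) : Subgroup Γ where
  carrier := {g | (∀ ω ∈ Om D X, g * ω ∈ Om D X) ∧ ∀ ω ∈ Om D X, g⁻¹ * ω ∈ Om D X}
  one_mem' := ⟨fun ω hω => by rwa [one_mul], fun ω hω => by rwa [inv_one, one_mul]⟩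
  mul_mem' := by
    rintro a b ⟨ha, ha'⟩ ⟨hb, hb'⟩
    refine ⟨fun ω hω => ?_, fun ω hω => ?_⟩
    · rw [mul_assoc]
      exact ha _ (hb ω hω)
    · rw [mul_inv_rev, mul_assoc]
      exact hb' _ (ha' ω hω)
  inv_mem' := by
    rintro a ⟨ha, ha'⟩
    refine ⟨ha', ?_⟩
    rw [inv_inv]
    exact ha

/-- The generation hypothesis. -/
def Gen (D : ChevalleyDatum) (X : ℕ → F → Γ) : Prop :=
  Subgroup.closure {y | ∃ r < D.nroots, ∃ t : F, y = X r t} = ⊤

theorem stabOm_eq_top (c : DCert D Ns) (tc : TCert D) (ac : ACert D wl ws sc) (hA : CertA D) {bs : List BData}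
    (hB : CertB D bs) (hX : StGrp D X) {π : Γ →* GL D.Idx F} (hπ : IsLift c X π) (hgen : Gen D X) :
    StabOm D X = ⊤ := by
  have hUB : UB D X ≤ StabOm D X := by
    intro u hu
    exact ⟨fun ω hω => UB_mul_Om hu hω, fun ω hω => UB_mul_Om (Subgroup.inv_mem _ hu) hω⟩
  have hn : ∀ i < D.rank, ∀ a : F, a ≠ 0 → nB D X i a ∈ StabOm D X := by
    intro i hi a ha
    refine ⟨fun ω hω => nB_mul_Om c tc ac hA hB hX hπ i hi a ha hω, fun ω hω => ?_⟩
    rw [nB_inv c hX i hi]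
    exact nB_mul_Om c tc ac hA hB hX hπ i hi (-a) (neg_ne_zero.mpr ha) hω
  have hall : ∀ r < D.nroots, ∀ t : F, X r t ∈ StabOm D X := by
    apply c.root_induction (fun r => ∀ t : F, X r t ∈ StabOm D X)
    · intro i hi t
      exact hUB (X_mem_UB (ac.simple i hi).2.1 t)
    · intro i hi s hs ih t
      obtain ⟨-, -, a, ha, hact, -⟩ := monoAct_nB c tc ac hA hB hX hπ i hi 1 one_ne_zero s hs
      have e : X (D.reflectRoot i s) t = nB D X i 1 * X s (a⁻¹ * t) * (nB D X i 1)⁻¹ := by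
        rw [hact, ← mul_assoc, mul_inv_cancel₀ ha, one_mul]
      rw [e]
      exact Subgroup.mul_mem _ (Subgroup.mul_mem _ (hn i hi 1 one_ne_zero) (ih _))
        (Subgroup.inv_mem _ (hn i hi 1 one_ne_zero))
  rw [eq_top_iff, ← hgen, Subgroup.closure_le]
  rintro y ⟨r, hr, t, rfl⟩
  exact hall r hr t

/-- Every element of `Γ` lies in `Ū N̄ Ū`. -/
theorem mem_Om (c : DCert D Ns) (tc : TCert D) (ac : ACert D wl ws sc) (hA : CertA D) {bs : List BData}
    (hB : CertB D bs) (hX : StGrp D X) {π : Γ →* GL D.Idx F} (hπ : IsLift c X π) (hgen : Gen D X) (g : Γ) :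
    g ∈ Om D X := by
  have hg : g ∈ StabOm D X := by
    rw [stabOm_eq_top c tc ac hA hB hX hπ hgen]
    exact Subgroup.mem_top g
  have := hg.1 1 one_mem_Om
  rwa [mul_one] at this

/-! ### The kernel is central -/

theorem map_UB_le (c : DCert D Ns) {π : Γ →* GL D.Idx F} (hπ : IsLift c X π) :
    (UB D X).map π ≤ D.posUnipotent F := by
  unfold UB
  rw [MonoidHom.map_closure, Subgroup.closure_le]
  rintro g ⟨y, ⟨r, t, hr, rfl⟩, rfl⟩
  rw [hπ r hr.1]
  exact Subgroup.subset_closure ⟨r, t, hr, rfl⟩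

theorem map_NB_le (c : DCert D Ns) {π : Γ →* GL D.Idx F} (hπ : IsLift c X π) :
    (NB D X).map π ≤ D.monomialSubgroup F := by
  unfold NB
  rw [MonoidHom.map_closure, Subgroup.closure_le]
  rintro g ⟨y, ⟨i, hi, a, ha, rfl⟩, rfl⟩
  rw [map_nB c hπ i hi]
  exact nrGL_mem_monomial c i hi a ha

/-- An element of `N̄` in the kernel is central. -/
theorem NB_ker_central (c : DCert D Ns) (tc : TCert D) (ac : ACert D wl ws sc) (hA : CertA D) {bs : List BData}
    (hB : CertB D bs) (hX : StGrp D X) {π : Γ →* GL D.Idx F} (hπ : IsLift c X π) (hgen : Gen D X) (m : Γ)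
    (hm : m ∈ NB D X) (hπm : π m = 1) : m ∈ Subgroup.center Γ := by
  obtain ⟨⟨σ, hσ⟩, -⟩ := NB_le_MAct c tc ac hA hB hX hπ hm
  have hcomm : ∀ r < D.nroots, ∀ t : F, m * X r t = X r t * m := by
    intro r hr t
    obtain ⟨hσlt, -, a, ha, hact, -⟩ := hσ r hr
    -- apply `π`
    have h1 : ∀ t : F, xGL c r t = xGL c (σ r) (a * t) := by
      intro t
      have := congrArg π (hact t)
      rwa [map_mul, map_mul, map_inv, hπm, one_mul, inv_one, mul_one, hπ r hr, hπ _ hσlt] at this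
    have h2 : σ r = r := by
      have := congrArg (fun g : GL D.Idx F => (g : Matrix D.Idx D.Idx F)) (h1 1)
      simp only [xGL_coe] at this
      exact root_eq_of_x_eq c tc ac r (σ r) hr hσlt 1 (a * 1) one_ne_zero this
    have h3 : a = 1 := by
      have := congrArg (fun g : GL D.Idx F => (g : Matrix D.Idx D.Idx F)) (h1 1)
      simp only [xGL_coe] at this
      rw [h2] at this
      have := Cfsg.Agent.Lib.Helper18_ChevCent.xGL_param_inj c tc ac r hr _ _ this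
      rw [mul_one] at this
      exact this.symm
    have := hact t
    rw [h2, h3, one_mul] at this
    exact mul_inv_eq_iff_eq_mul.mp this
  rw [Subgroup.mem_center_iff]
  have hle : (⊤ : Subgroup Γ) ≤ Subgroup.centralizer {m} := by
    rw [← hgen, Subgroup.closure_le]
    rintro y ⟨r, hr, t, rfl⟩
    rw [SetLike.mem_coe, Subgroup.mem_centralizer_iff]
    intro h hh
    rw [Set.mem_singleton_iff] at hh
    rw [hh]
    exact hcomm r hr t
  intro g
  have := hle (Subgroup.mem_top g)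
  rw [Subgroup.mem_centralizer_iff] at this
  exact (this m rfl).symm

/-- Every element of the kernel lies in `N̄` (and is central). -/
theorem ker_le_NB (c : DCert D Ns) (tc : TCert D) (ac : ACert D wl ws sc) {w : List ℤ} {d : ℕ}
    (gc : GCert D w d) (hA : CertA D) {bs : List BData}
    (hB : CertB D bs) (hX : StGrp D X) {π : Γ →* GL D.Idx F} (hπ : IsLift c X π) (hgen : Gen D X) (g : Γ)
    (hg : π g = 1) : g ∈ NB D X ∧ g ∈ Subgroup.center Γ := by
  obtain ⟨u, hu, m, hm, u', hu', rfl⟩ := mem_Om c tc ac hA hB hX hπ hgen g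
  -- `π (u' u) π m = 1`
  have h1 : π (u' * u) * π m = 1 := by
    have : π (u' * u) * π m = π u' * π (u * m * u') * (π u')⁻¹ := by
      simp only [map_mul]
      group
    rw [this, hg, mul_one, mul_inv_cancel]
  have hU : π (u' * u) ∈ D.posUnipotent F :=
    map_UB_le c hπ (Subgroup.mem_map_of_mem π (Subgroup.mul_mem _ hu' hu))
  have hN : π m ∈ D.monomialSubgroup F := map_NB_le c hπ (Subgroup.mem_map_of_mem π hm)
  have h2 : π m ∈ D.posUnipotent F ⊓ D.monomialSubgroup F := by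
    refine Subgroup.mem_inf.mpr ⟨?_, hN⟩
    have : π m = (π (u' * u))⁻¹ := eq_inv_of_mul_eq_one_right h1
    rw [this]
    exact Subgroup.inv_mem _ hU
  rw [pos_inf_monomial c tc gc, Subgroup.mem_bot] at h2
  rw [h2, mul_one] at h1
  -- `u' u = 1`
  have h3 : u' * u = 1 := by
    apply injOn_SG c tc ac hX hπ wl
    · rw [← UB_eq_SG ac]
      exact Subgroup.mul_mem _ hu' hu
    · exact Subgroup.one_mem _
    · rw [h1, map_one]
  have hmc := NB_ker_central c tc ac hA hB hX hπ hgen m hm h2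
  have e : u * m * u' = m := by
    rw [Subgroup.mem_center_iff] at hmc
    have : u * m * u' = (m * u) * u' := by rw [hmc u]
    rw [this, mul_assoc]
    have h4 : u * u' = 1 := by
      have : u' = u⁻¹ := eq_inv_of_mul_eq_one_left h3
      rw [this, mul_inv_cancel]
    rw [h4, mul_one]
  rw [e]
  exact ⟨hm, hmc⟩

theorem ker_le_center (c : DCert D Ns) (tc : TCert D) (ac : ACert D wl ws sc) {w : List ℤ} {d : ℕ}
    (gc : GCert D w d) (hA : CertA D) {bs : List BData}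
    (hB : CertB D bs) (hX : StGrp D X) {π : Γ →* GL D.Idx F} (hπ : IsLift c X π) (hgen : Gen D X) :
    π.ker ≤ Subgroup.center Γ := by
  intro g hg
  exact (ker_le_NB c tc ac gc hA hB hX hπ hgen g (MonoidHom.mem_ker.mp hg)).2

end Cfsg.Agent.Lib.Helper81_StBruhat
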