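/-
Steinberg's presentation (helper81): the certificates `CertA`, `CertB` of `Helper81_StL37` for the seven tabulated
Chevalley data (checked by kernel evaluation).
-/
import Mathlib
import Cfsg.Agent.Lib.Helper81_StL37
import Cfsg.Prelude.Def_ChevG2
import Cfsg.Prelude.Def_ChevB2
import Cfsg.Prelude.Def_ChevD4
import Cfsg.Prelude.Def_ChevF4
import Cfsg.Prelude.Def_ChevE6
import Cfsg.Prelude.Def_ChevE7
import Cfsg.Prelude.Def_ChevE8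

set_option autoImplicit false

namespace Cfsg.Agent.Lib.Helper81_StCerts

open Cfsg Cfsg.Lie Cfsg.Agent.Lib.Helper81_StL37

/-- The data of the certificate `CertB`, type G2. -/
def bsG2 : List BData :=
  [⟨0, 9, -1, 2, [1, -1], [(3, (-1, (1, 1)))], [(10, (-1, (1, 3))), (5, (2, (2, 3)))]⟩,
   ⟨0, 8, 1, 2, [-2, -1], [(2, (1, (1, 1)))], [(6, (-1, (1, 3))), (1, (-2, (2, 3)))]⟩,
   ⟨0, 8, -1, 3, [-2, -1], [(2, (1, (1, 1))), (4, (1, (1, 2)))], [(1, (-2, (2, 3)))]⟩,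
   ⟨0, 10, -1, 1, [0, -1], [], []⟩]

set_option maxHeartbeats 0 in
set_option maxRecDepth 100000 in
theorem certB_G2 : CertB chevG2 bsG2 := by
  decide +kernel

set_option maxHeartbeats 0 in
set_option maxRecDepth 100000 in
theorem certA_G2 : CertA chevG2 := by
  decide +kernel

/-- The data of the certificate `CertB`, type B2. -/
def bsB2 : List BData :=
  [⟨1, 7, -1, 1, [1, -1], [], [(3, (1, (2, 1)))]⟩,
   ⟨0, 6, -1, 1, [-1, 1], [], [(4, (1, (1, 2)))]⟩,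
   ⟨0, 6, 1, 2, [-1, 1], [(2, (-1, (1, 1)))], []⟩,
   ⟨0, 5, -1, 2, [-1, -3], [(1, (1, (1, 1)))], []⟩]

set_option maxHeartbeats 0 in
set_option maxRecDepth 100000 in
theorem certB_B2 : CertB chevB2 bsB2 := by
  decide +kernel

set_option maxHeartbeats 0 in
set_option maxRecDepth 100000 in
theorem certA_B2 : CertA chevB2 := by
  decide +kernel

/-- The data of the certificate `CertB`, type D4. -/
def bsD4 : List BData :=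
  [⟨6, 22, 1, 1, [1, 0, 0, 0], [], []⟩,
   ⟨1, 17, 1, 1, [-1, 0, 0, 0], [], []⟩,
   ⟨1, 23, -1, 1, [0, 1, 0, 0], [], []⟩,
   ⟨0, 22, -1, 1, [0, -1, 0, 0], [], []⟩,
   ⟨3, 22, -1, 1, [0, 0, 1, 0], [], []⟩,
   ⟨1, 20, -1, 1, [0, 0, -1, 0], [], []⟩,
   ⟨2, 22, -1, 1, [0, 0, 0, 1], [], []⟩,
   ⟨1, 21, -1, 1, [0, 0, 0, -1], [], []⟩]

set_option maxHeartbeats 0 in
set_option maxRecDepth 100000 in
theorem certB_D4 : CertB chevD4 bsD4 := by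
  decide +kernel

set_option maxHeartbeats 0 in
set_option maxRecDepth 100000 in
theorem certA_D4 : CertA chevD4 := by
  decide +kernel

/-- The data of the certificate `CertB`, type F4. -/
def bsF4 : List BData :=
  [⟨7, 44, -1, 1, [1, 0, 0, 0], [], []⟩,
   ⟨3, 40, -1, 1, [-1, 0, 0, 0], [], []⟩,
   ⟨3, 45, -1, 1, [-1, 0, -2, -1], [], [(4, (-1, (2, 1)))]⟩,
   ⟨2, 44, -1, 1, [1, 0, 2, 1], [], [(43, (-1, (1, 2)))]⟩,
   ⟨0, 39, -1, 2, [-1, -2, -1, -2], [(9, (1, (1, 1)))], []⟩,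
   ⟨0, 38, 1, 2, [-1, -2, -5, -2], [(8, (-1, (1, 1)))], []⟩,
   ⟨1, 47, -1, 1, [0, 0, 0, 1], [], []⟩,
   ⟨0, 46, -1, 1, [0, 0, 0, -1], [], []⟩]

set_option maxHeartbeats 0 in
set_option maxRecDepth 100000 in
theorem certB_F4 : CertB chevF4 bsF4 := by
  decide +kernel

set_option maxHeartbeats 0 in
set_option maxRecDepth 100000 in
theorem certA_F4 : CertA chevF4 := by
  decide +kernel

/-- The data of the certificate `CertB`, type E6. -/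
def bsE6 : List BData :=
  [⟨16, 66, 1, 1, [1, 0, 0, 0, 0, 0], [], []⟩,
   ⟨5, 55, 1, 1, [-1, 0, 0, 0, 0, 0], [], []⟩,
   ⟨1, 71, -1, 1, [0, 1, 0, 0, 0, 0], [], []⟩,
   ⟨0, 70, -1, 1, [0, -1, 0, 0, 0, 0], [], []⟩,
   ⟨5, 69, -1, 1, [0, 0, 1, 0, 0, 0], [], []⟩,
   ⟨2, 66, -1, 1, [0, 0, -1, 0, 0, 0], [], []⟩,
   ⟨2, 70, -1, 1, [0, 0, 0, 1, 0, 0], [], []⟩,
   ⟨1, 69, -1, 1, [0, 0, 0, -1, 0, 0], [], []⟩,
   ⟨3, 69, -1, 1, [0, 0, 0, 0, 1, 0], [], []⟩,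
   ⟨2, 68, -1, 1, [0, 0, 0, 0, -1, 0], [], []⟩,
   ⟨4, 68, -1, 1, [0, 0, 0, 0, 0, 1], [], []⟩,
   ⟨3, 67, -1, 1, [0, 0, 0, 0, 0, -1], [], []⟩]

set_option maxHeartbeats 0 in
set_option maxRecDepth 100000 in
theorem certB_E6 : CertB chevE6 bsE6 := by
  decide +kernel

set_option maxHeartbeats 0 in
set_option maxRecDepth 100000 in
theorem certA_E6 : CertA chevE6 := by
  decide +kernel

/-- The data of the certificate `CertB`, type E7. -/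
def bsE7 : List BData :=
  [⟨1, 125, -1, 1, [1, 0, 0, 0, 0, 0, 0], [], []⟩,
   ⟨0, 124, -1, 1, [-1, 0, 0, 0, 0, 0, 0], [], []⟩,
   ⟨7, 122, -1, 1, [0, 1, 0, 0, 0, 0, 0], [], []⟩,
   ⟨3, 118, -1, 1, [0, -1, 0, 0, 0, 0, 0], [], []⟩,
   ⟨2, 124, -1, 1, [0, 0, 1, 0, 0, 0, 0], [], []⟩,
   ⟨1, 123, -1, 1, [0, 0, -1, 0, 0, 0, 0], [], []⟩,
   ⟨3, 123, -1, 1, [0, 0, 0, 1, 0, 0, 0], [], []⟩,
   ⟨2, 122, -1, 1, [0, 0, 0, -1, 0, 0, 0], [], []⟩,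
   ⟨4, 122, -1, 1, [0, 0, 0, 0, 1, 0, 0], [], []⟩,
   ⟨3, 121, -1, 1, [0, 0, 0, 0, -1, 0, 0], [], []⟩,
   ⟨5, 121, -1, 1, [0, 0, 0, 0, 0, 1, 0], [], []⟩,
   ⟨4, 120, -1, 1, [0, 0, 0, 0, 0, -1, 0], [], []⟩,
   ⟨6, 120, -1, 1, [0, 0, 0, 0, 0, 0, 1], [], []⟩,
   ⟨5, 119, -1, 1, [0, 0, 0, 0, 0, 0, -1], [], []⟩]

set_option maxHeartbeats 0 in
set_option maxRecDepth 100000 in
theorem certB_E7 : CertB chevE7 bsE7 := by
  decide +kernel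

set_option maxHeartbeats 0 in
set_option maxRecDepth 100000 in
theorem certA_E7 : CertA chevE7 := by
  decide +kernel

/-- The data of the certificate `CertB`, type E8. -/
def bsE8 : List BData :=
  [⟨14, 233, -1, 1, [1, 0, 0, 0, 0, 0, 0, 0], [], []⟩,
   ⟨6, 225, -1, 1, [-1, 0, 0, 0, 0, 0, 0, 0], [], []⟩,
   ⟨7, 234, -1, 1, [0, 1, 0, 0, 0, 0, 0, 0], [], []⟩,
   ⟨5, 232, -1, 1, [0, -1, 0, 0, 0, 0, 0, 0], [], []⟩,
   ⟨6, 234, -1, 1, [0, 0, 1, 0, 0, 0, 0, 0], [], []⟩,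
   ⟨5, 233, -1, 1, [0, 0, -1, 0, 0, 0, 0, 0], [], []⟩,
   ⟨5, 235, -1, 1, [0, 0, 0, 1, 0, 0, 0, 0], [], []⟩,
   ⟨4, 234, -1, 1, [0, 0, 0, -1, 0, 0, 0, 0], [], []⟩,
   ⟨4, 236, -1, 1, [0, 0, 0, 0, 1, 0, 0, 0], [], []⟩,
   ⟨3, 235, -1, 1, [0, 0, 0, 0, -1, 0, 0, 0], [], []⟩,
   ⟨3, 237, -1, 1, [0, 0, 0, 0, 0, 1, 0, 0], [], []⟩,
   ⟨2, 236, -1, 1, [0, 0, 0, 0, 0, -1, 0, 0], [], []⟩,
   ⟨2, 238, -1, 1, [0, 0, 0, 0, 0, 0, 1, 0], [], []⟩,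
   ⟨1, 237, -1, 1, [0, 0, 0, 0, 0, 0, -1, 0], [], []⟩,
   ⟨1, 239, -1, 1, [0, 0, 0, 0, 0, 0, 0, 1], [], []⟩,
   ⟨0, 238, -1, 1, [0, 0, 0, 0, 0, 0, 0, -1], [], []⟩]

set_option maxHeartbeats 0 in
set_option maxRecDepth 100000 in
theorem certB_E8 : CertB chevE8 bsE8 := by
  decide +kernel

set_option maxHeartbeats 0 in
set_option maxRecDepth 100000 in
theorem certA_E8 : CertA chevE8 := by
  decide +kernel

theorem exists_certAB (D : ChevalleyDatum)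
    (hD : D ∈ [chevG2, chevB2, chevD4, chevF4, chevE6, chevE7, chevE8]) :
    CertA D ∧ ∃ bs : List BData, CertB D bs := by
  simp only [List.mem_cons, List.not_mem_nil, or_false] at hD
  rcases hD with rfl | rfl | rfl | rfl | rfl | rfl | rfl
  · exact ⟨certA_G2, _, certB_G2⟩
  · exact ⟨certA_B2, _, certB_B2⟩
  · exact ⟨certA_D4, _, certB_D4⟩
  · exact ⟨certA_F4, _, certB_F4⟩
  · exact ⟨certA_E6, _, certB_E6⟩
  · exact ⟨certA_E7, _, certB_E7⟩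
  · exact ⟨certA_E8, _, certB_E8⟩

end Cfsg.Agent.Lib.Helper81_StCerts
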