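/-
Steinberg's presentation (helper81): the groups presented by Steinberg's relations (R1), (R2) [and (R3)] of the
seven tabulated Chevalley data map onto the Chevalley group with central kernel.
-/
import Mathlib
import Cfsg.Agent.Lib.Helper81_StBruhat
import Cfsg.Agent.Lib.Helper81_StCerts
import Cfsg.Agent.Lib.Helper18_ChevData5
import Cfsg.Agent.Lib.Helper18_ChevW0Certs
import Cfsg.Prelude.Def_Steinberg
import Cfsg.Prelude.Def_SteinbergCover

set_option autoImplicit false
set_option linter.unusedSectionVars false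
set_option linter.unusedVariables false

namespace Cfsg.Agent.Lib.Helper81_StMain

open Cfsg Cfsg.Lie Cfsg.Agent.Lib.Helper18_ChevFast Cfsg.Agent.Lib.Helper18_ChevEngine
  Cfsg.Agent.Lib.Helper18_ChevR1 Cfsg.Agent.Lib.Helper18_ChevN Cfsg.Agent.Lib.Helper18_ChevR4
  Cfsg.Agent.Lib.Helper18_ChevSimple Cfsg.Agent.Lib.Helper18_ChevSimple2 Cfsg.Agent.Lib.Helper18_ChevFacts
  Cfsg.Agent.Lib.Helper18_ChevWeyl Cfsg.Agent.Lib.Helper18_ChevDiag Cfsg.Agent.Lib.Helper18_ChevCar
  Cfsg.Agent.Lib.Helper18_ChevTorus Cfsg.Agent.Lib.Helper18_ChevGL Cfsg.Agent.Lib.Helper18_ChevComm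
  Cfsg.Agent.Lib.Helper18_ChevComm2 Cfsg.Agent.Lib.Helper18_MatTri Cfsg.Agent.Lib.Helper18_ChevTri
  Cfsg.Agent.Lib.Helper18_ChevBorel Cfsg.Agent.Lib.Helper18_ChevAdd Cfsg.Agent.Lib.Helper18_ChevUni
  Cfsg.Agent.Lib.Helper18_ChevBN Cfsg.Agent.Lib.Helper18_ChevMono Cfsg.Agent.Lib.Helper18_ChevBNPair
  Cfsg.Agent.Lib.Helper18_ChevLevi
  Cfsg.Agent.Lib.Helper81_StUniq Cfsg.Agent.Lib.Helper81_StAbs Cfsg.Agent.Lib.Helper81_StL37
  Cfsg.Agent.Lib.Helper81_StBruhat

variable {D : ChevalleyDatum} {Ns : List NData} {F : Type*} [Field F]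

/-! ### The free group on the symbols `x̄_r(t)` -/

/-- The images of the free generators in the general linear group. -/
def genMap (c : DCert D Ns) (F : Type*) [Field F] : Fin D.nroots × F → GL D.Idx F := fun p => xGL c p.1 p.2

theorem xGL_ge (c : DCert D Ns) (r : ℕ) (hr : ¬ r < D.nroots) (t : F) : xGL c r t = 1 := by
  apply Units.ext
  rw [xGL_coe]
  unfold ChevalleyDatum.x
  rw [dif_neg hr]
  rfl

theorem lift_stX (c : DCert D Ns) (r : ℕ) (t : F) : FreeGroup.lift (genMap c F) (D.stX r t) = xGL c r t := by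
  unfold ChevalleyDatum.stX
  by_cases hr : r < D.nroots
  · rw [dif_pos hr, FreeGroup.lift_apply_of]
    rfl
  · rw [dif_neg hr, map_one, xGL_ge c r hr]

theorem lift_stWord (c : DCert D Ns) (w : List (ℕ × F)) :
    FreeGroup.lift (genMap c F) (D.stWord w) = wordGL c w := by
  unfold ChevalleyDatum.stWord wordGL
  rw [map_list_prod, List.map_map]
  congr 1
  apply List.map_congr_left
  intro p _
  exact lift_stX c p.1 p.2

theorem lift_relsAB (c : DCert D Ns) (hR2 : R2All D F) :
    ∀ g ∈ D.steinbergRelsAB F, FreeGroup.lift (genMap c F) g = 1 := by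
  rintro g (⟨r, t₁, t₂, hr, rfl⟩ | ⟨r, s, t, u, hr, hs, h1, h2, rfl⟩)
  · rw [map_mul, map_mul, map_inv, lift_stX, lift_stX, lift_stX, xGL_mul, mul_inv_cancel]
  · rw [map_mul, map_mul, map_mul, map_mul, map_inv, map_inv, map_inv, lift_stX, lift_stX, lift_stWord]
    have := conj_of_R2 c (hR2 r s hr hs h1 h2) t u
    have e : (xGL c s u)⁻¹ * (xGL c r t)⁻¹ * xGL c s u * xGL c r t =
        (xGL c s u)⁻¹ * ((xGL c r t)⁻¹ * xGL c s u * xGL c r t) := by group
    rw [e, this]
    group

/-! ### The relations in a presented group -/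

section Presented

variable {rels : Set (FreeGroup (Fin D.nroots × F))}

/-- The generators of a group presented on the symbols `x̄_r(t)`. -/
def pGen (D : ChevalleyDatum) {F : Type*} [Field F] (rels : Set (FreeGroup (Fin D.nroots × F))) (r : ℕ) (t : F) :
    PresentedGroup rels := PresentedGroup.mk rels (D.stX r t)

theorem mk_stWord (w : List (ℕ × F)) :
    PresentedGroup.mk rels (D.stWord w) = wordP (pGen D rels) w := by
  unfold ChevalleyDatum.stWord wordP
  rw [map_list_prod, List.map_map]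
  rfl

theorem stGrp_pGen (hAB : D.steinbergRelsAB F ⊆ rels) : StGrp D (pGen D rels) where
  add := by
    intro r hr t u
    have h : D.stX r t * D.stX r u * (D.stX r (t + u))⁻¹ ∈ rels :=
      hAB (Or.inl ⟨r, t, u, hr, rfl⟩)
    have := PresentedGroup.one_of_mem h
    rw [map_mul, map_mul, map_inv, mul_inv_eq_one] at this
    exact this
  comm := by
    intro r s hr hs h1 h2 t u
    have h : (D.stX s u)⁻¹ * (D.stX r t)⁻¹ * D.stX s u * D.stX r t * (D.stWord (D.commWord F r s t u))⁻¹ ∈ rels :=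
      hAB (Or.inr ⟨r, s, t, u, hr, hs, h1, h2, rfl⟩)
    have := PresentedGroup.one_of_mem h
    rw [map_mul, map_mul, map_mul, map_mul, map_inv, map_inv, map_inv, mul_inv_eq_one, mk_stWord] at this
    exact this

theorem gen_pGen : Gen D (pGen D rels) := by
  unfold Gen
  rw [eq_top_iff, ← PresentedGroup.closure_range_of rels, Subgroup.closure_le]
  rintro y ⟨⟨r, t⟩, rfl⟩
  apply Subgroup.subset_closure
  refine ⟨r.1, r.2, t, ?_⟩
  unfold pGen ChevalleyDatum.stX
  rw [dif_pos r.2]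
  rfl

/-- The homomorphism to the general linear group. -/
def toGL (c : DCert D Ns) (h : ∀ g ∈ rels, FreeGroup.lift (genMap c F) g = 1) :
    PresentedGroup rels →* GL D.Idx F := PresentedGroup.toGroup h

theorem toGL_mk (c : DCert D Ns) (h : ∀ g ∈ rels, FreeGroup.lift (genMap c F) g = 1)
    (x : FreeGroup (Fin D.nroots × F)) : toGL c h (PresentedGroup.mk rels x) = FreeGroup.lift (genMap c F) x := by
  induction x using FreeGroup.induction_on with
  | C1 => rw [map_one, map_one, map_one]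
  | of x =>
    rw [FreeGroup.lift_apply_of]
    exact PresentedGroup.toGroup.of h
  | inv_of x ih => rw [map_inv, map_inv, map_inv, ih]
  | mul x y ihx ihy => rw [map_mul, map_mul, map_mul, ihx, ihy]

theorem isLift_toGL (c : DCert D Ns) (h : ∀ g ∈ rels, FreeGroup.lift (genMap c F) g = 1) :
    IsLift c (pGen D rels) (toGL c h) := by
  intro r _ t
  unfold pGen
  rw [toGL_mk, lift_stX]

theorem toGL_range (c : DCert D Ns) (h : ∀ g ∈ rels, FreeGroup.lift (genMap c F) g = 1) :
    (toGL c h).range = D.group F := by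
  have h1 : (toGL c h).range = Subgroup.map (toGL c h) ⊤ := (MonoidHom.range_eq_map _)
  rw [h1, ← PresentedGroup.closure_range_of rels, MonoidHom.map_closure]
  unfold ChevalleyDatum.group
  congr 1
  ext g
  constructor
  · rintro ⟨y, ⟨⟨r, t⟩, rfl⟩, rfl⟩
    refine ⟨r, t, ?_⟩
    have : toGL c h (PresentedGroup.of (r, t)) = xGL c r.1 t := PresentedGroup.toGroup.of h
    rw [this, xGL_coe]
    unfold ChevalleyDatum.x
    rw [dif_pos r.2]
  · rintro ⟨r, t, hg⟩
    refine ⟨PresentedGroup.of (r, t), ⟨(r, t), rfl⟩, ?_⟩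
    have : toGL c h (PresentedGroup.of (r, t)) = xGL c r.1 t := PresentedGroup.toGroup.of h
    rw [this]
    apply Units.ext
    rw [xGL_coe, hg]
    unfold ChevalleyDatum.x
    rw [dif_pos r.2]

end Presented

/-! ### The main theorem -/

theorem r2All_of_mem (D : ChevalleyDatum)
    (hD : D ∈ [chevG2, chevB2, chevD4, chevF4, chevE6, chevE7, chevE8]) : R2All D F := by
  obtain ⟨Ns, w, d, Ts, hT, K, base, stepT, wl, ws, sc, c, tc, gc, pc, ac⟩ :=
    Cfsg.Agent.Lib.Helper18_ChevData5.exists_cert5 D hD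
  exact r2_all c pc

/-- A group presented by relators containing (R1), (R2) that hold in the Chevalley group maps onto the Chevalley
group, matching the generators, with central kernel. -/
theorem exists_central_hom (D : ChevalleyDatum)
    (hD : D ∈ [chevG2, chevB2, chevD4, chevF4, chevE6, chevE7, chevE8])
    (rels : Set (FreeGroup (Fin D.nroots × F))) (hAB : D.steinbergRelsAB F ⊆ rels)
    (hrel : ∀ (Ns : List NData) (c : DCert D Ns), ∀ g ∈ rels, FreeGroup.lift (genMap c F) g = 1) :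
    ∃ θ : PresentedGroup rels →* ↥(D.group F), Function.Surjective θ ∧
      θ.ker ≤ Subgroup.center (PresentedGroup rels) ∧
      ∀ (r : ℕ) (t : F), r < D.nroots →
        ((θ (pGen D rels r t) : GL D.Idx F) : Matrix D.Idx D.Idx F) = D.x F r t := by
  obtain ⟨Ns, w, d, Ts, hT, K, base, stepT, wl, ws, sc, c, tc, gc, pc, ac⟩ :=
    Cfsg.Agent.Lib.Helper18_ChevData5.exists_cert5 D hD
  have hR2 : R2All D F := r2_all c pc
  obtain ⟨hA, bs, hB⟩ := Cfsg.Agent.Lib.Helper81_StCerts.exists_certAB D hD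
  have h := hrel Ns c
  have hX := stGrp_pGen (D := D) (F := F) hAB
  have hπ := isLift_toGL c h
  have hrange := toGL_range c h
  have hmem : ∀ y, toGL c h y ∈ D.group F := by
    intro y
    rw [← hrange]
    exact ⟨y, rfl⟩
  refine ⟨(toGL c h).codRestrict (D.group F) hmem, ?_, ?_, ?_⟩
  · rintro ⟨g, hg⟩
    rw [← hrange] at hg
    obtain ⟨y, rfl⟩ := hg
    exact ⟨y, rfl⟩
  · intro y hy
    apply ker_le_center c tc ac gc hA hB hX hπ gen_pGen
    rw [MonoidHom.mem_ker] at hy ⊢
    have := congrArg Subtype.val hy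
    exact this
  · intro r t hr
    show ((toGL c h (pGen D rels r t) : GL D.Idx F) : Matrix D.Idx D.Idx F) = D.x F r t
    rw [hπ r hr t, xGL_coe]

/-! ### The relators (R3) -/

theorem hGL_mul (c : DCert D Ns) (tc : TCert D) (r : ℕ) (hr : r < D.nroots) (t₁ t₂ : F) (h₁ : t₁ ≠ 0)
    (h₂ : t₂ ≠ 0) : hGL c r t₁ * hGL c r t₂ = hGL c r (t₁ * t₂) := by
  apply Units.ext
  rw [Units.val_mul, hGL_coe, hGL_coe, hGL_coe, hMat_all c tc r hr t₁ h₁, hMat_all c tc r hr t₂ h₂,
    hMat_all c tc r hr (t₁ * t₂) (mul_ne_zero h₁ h₂), diagMat_mul]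
  apply diagMat_congr
  intro s _
  rw [mul_zpow]

theorem lift_stH (c : DCert D Ns) (r : ℕ) (t : F) : FreeGroup.lift (genMap c F) (D.stH r t) = hGL c r t := by
  unfold ChevalleyDatum.stH hGL
  exact lift_stWord c _

theorem lift_rels (c : DCert D Ns) (tc : TCert D) (hR2 : R2All D F) :
    ∀ g ∈ D.steinbergRels F, FreeGroup.lift (genMap c F) g = 1 := by
  rintro g ((hg | hg) | ⟨r, t₁, t₂, hr, h₁, h₂, rfl⟩)
  · exact lift_relsAB c hR2 g (Or.inl hg)
  · exact lift_relsAB c hR2 g (Or.inr hg)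
  · rw [map_mul, map_mul, map_inv, lift_stH, lift_stH, lift_stH, hGL_mul c tc r hr t₁ t₂ h₁ h₂, mul_inv_cancel]

theorem relsAB_subset : D.steinbergRelsAB F ⊆ D.steinbergRels F := by
  rintro g (hg | hg)
  · exact Or.inl (Or.inl hg)
  · exact Or.inl (Or.inr hg)

/-- Steinberg's theorem: the group presented by (R1), (R2), (R3) maps onto the Chevalley group, matching the
generators, and the kernel is the centre. -/
theorem exists_hom_ker_eq_center (D : ChevalleyDatum)
    (hD : D ∈ [chevG2, chevB2, chevD4, chevF4, chevE6, chevE7, chevE8]) :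
    ∃ θ : D.SteinbergGroup F →* ↥(D.group F), Function.Surjective θ ∧
      θ.ker = Subgroup.center (D.SteinbergGroup F) ∧
      ∀ (r : ℕ) (t : F), r < D.nroots →
        ((θ (D.stGen F r t) : GL D.Idx F) : Matrix D.Idx D.Idx F) = D.x F r t := by
  obtain ⟨Ns, w, d, Ts, hT, K, base, stepT, wl, ws, sc, c, tc, gc, pc, ac⟩ :=
    Cfsg.Agent.Lib.Helper18_ChevData5.exists_cert5 D hD
  have hR2 : R2All D F := r2_all c pc
  have hdesc := Cfsg.Agent.Lib.Helper18_ChevJCerts.descent_all D hD
  obtain ⟨w0, hw⟩ := Cfsg.Agent.Lib.Helper18_ChevW0Certs.exists_w0Cert D hD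
  obtain ⟨θ, h1, h2, h3⟩ := exists_central_hom (F := F) D hD (D.steinbergRels F) relsAB_subset
    (fun Ns' c' => lift_rels c' tc (r2All_of_mem D hD))
  refine ⟨θ, h1, le_antisymm h2 ?_, h3⟩
  intro z hz
  rw [MonoidHom.mem_ker]
  apply Subtype.ext
  apply Cfsg.Agent.Lib.Helper18_ChevFrob.eq_one_of_commute c tc ac gc hdesc hR2 hw (RingHom.id F)
    ((θ z : ↥(D.group F)) : GL D.Idx F) (θ z).2
  intro r t _
  by_cases hr : r < D.nroots
  · have e : xGL c r t = ((θ (pGen D (D.steinbergRels F) r t) : ↥(D.group F)) : GL D.Idx F) := by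
      apply Units.ext
      rw [xGL_coe]
      exact (h3 r t hr).symm
    rw [e, ← Subgroup.coe_mul, ← Subgroup.coe_mul, ← map_mul, ← map_mul]
    rw [Subgroup.mem_center_iff] at hz
    rw [hz]
  · rw [xGL_ge c r hr, mul_one, one_mul]

end Cfsg.Agent.Lib.Helper81_StMain
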