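import Cfsg.Agent.Lib.Helper36_ChevW0
import Cfsg.Prelude.Def_ChevB2

set_option autoImplicit false
set_option Elab.async false

/-! Type B2: the fundamental reflections as a literal table, and a word for the longest element of the Weyl group (it exchanges the positive and the negative roots). Generated file. -/

namespace Cfsg.Agent.Lib.Helper36_ChevDataB2W0

open Cfsg Cfsg.Lie Cfsg.Agent.Lib.Helper36_ChevW0

/-- The reflections: for each `i` the list of the `w_i s`. -/
def reflTbl : List (List ℕ) :=
  [[3, 1, 5, 0, 7, 2, 6, 4], [0, 2, 1, 4, 3, 6, 5, 7]]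

/-- A reduced word for the longest element. -/
def w0 : List ℕ :=
  [0, 1, 0, 1]

theorem refl0_0_8 : ReflTblRange chevB2 reflTbl 0 0 8 := by decide +kernel

theorem refl0 : ReflTblRange chevB2 reflTbl 0 0 8 := refl0_0_8

theorem refl1_0_8 : ReflTblRange chevB2 reflTbl 1 0 8 := by decide +kernel

theorem refl1 : ReflTblRange chevB2 reflTbl 1 0 8 := refl1_0_8

theorem w0_0_8 : W0Range chevB2 reflTbl w0 0 8 := by decide +kernel

theorem w0OK : W0OK chevB2 reflTbl w0 := by
  refine ⟨?_, by decide, w0_0_8⟩
  intro i hi
  have h : chevB2.rank = 2 := rfl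
  rw [h] at hi
  interval_cases i
  · exact refl0
  · exact refl1

end Cfsg.Agent.Lib.Helper36_ChevDataB2W0
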