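import Cfsg.Agent.Lib.Helper36_ChevW0
import Cfsg.Prelude.Def_ChevD4

set_option autoImplicit false
set_option Elab.async false

/-! Type D4: the fundamental reflections as a literal table, and a word for the longest element of the Weyl group (it exchanges the positive and the negative roots). Generated file. -/

namespace Cfsg.Agent.Lib.Helper36_ChevDataD4W0

open Cfsg Cfsg.Lie Cfsg.Agent.Lib.Helper36_ChevW0

/-- The reflections: for each `i` the list of the `w_i s`. -/
def reflTbl : List (List ℕ) :=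
  [[0, 6, 7, 8, 9, 18, 1, 2, 3, 4, 10, 11, 12, 13, 19, 20, 21, 22, 5, 14, 15, 16, 17, 23], [1, 0, 2, 3, 5, 4, 6, 10, 11, 14, 7, 8, 15, 16, 9, 12, 13, 17, 19, 18, 20, 21, 23, 22], [0, 3, 4, 1, 2, 5, 8, 9, 6, 7, 13, 11, 12, 10, 16, 17, 14, 15, 18, 21, 22, 19, 20, 23], [0, 2, 1, 4, 3, 5, 7, 6, 9, 8, 10, 12, 11, 13, 15, 14, 17, 16, 18, 20, 19, 22, 21, 23]]

/-- A reduced word for the longest element. -/
def w0 : List ℕ :=
  [0, 1, 0, 2, 1, 0, 3, 1, 0, 2, 1, 3]

theorem refl0_0_24 : ReflTblRange chevD4 reflTbl 0 0 24 := by decide +kernel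

theorem refl0 : ReflTblRange chevD4 reflTbl 0 0 24 := refl0_0_24

theorem refl1_0_24 : ReflTblRange chevD4 reflTbl 1 0 24 := by decide +kernel

theorem refl1 : ReflTblRange chevD4 reflTbl 1 0 24 := refl1_0_24

theorem refl2_0_24 : ReflTblRange chevD4 reflTbl 2 0 24 := by decide +kernel

theorem refl2 : ReflTblRange chevD4 reflTbl 2 0 24 := refl2_0_24

theorem refl3_0_24 : ReflTblRange chevD4 reflTbl 3 0 24 := by decide +kernel

theorem refl3 : ReflTblRange chevD4 reflTbl 3 0 24 := refl3_0_24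

theorem w0_0_24 : W0Range chevD4 reflTbl w0 0 24 := by decide +kernel

theorem w0OK : W0OK chevD4 reflTbl w0 := by
  refine ⟨?_, by decide, w0_0_24⟩
  intro i hi
  have h : chevD4.rank = 4 := rfl
  rw [h] at hi
  interval_cases i
  · exact refl0
  · exact refl1
  · exact refl2
  · exact refl3

end Cfsg.Agent.Lib.Helper36_ChevDataD4W0
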