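import Cfsg.Agent.Lib.Helper36_ChevW0
import Cfsg.Prelude.Def_ChevE6

set_option autoImplicit false
set_option Elab.async false

/-! Type E6: the fundamental reflections as a literal table, and a word for the longest element of the Weyl group (it exchanges the positive and the negative roots). Generated file. -/

namespace Cfsg.Agent.Lib.Helper36_ChevDataE6W0

open Cfsg Cfsg.Lie Cfsg.Agent.Lib.Helper36_ChevW0

/-- The reflections: for each `i` the list of the `w_i s`. -/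
def reflTbl : List (List ℕ) :=
  [[0, 1, 2, 3, 4, 16, 17, 18, 19, 20, 21, 26, 27, 28, 29, 56, 5, 6, 7, 8, 9, 10, 22, 23, 24, 25, 11, 12, 13, 14, 30, 31, 32, 33, 34, 35, 36, 37, 38, 39, 40, 41, 57, 58, 59, 60, 46, 47, 48, 49, 61, 62, 63, 64, 65, 66, 15, 42, 43, 44, 45, 50, 51, 52, 53, 54, 55, 67, 68, 69, 70, 71], [1, 0, 2, 3, 4, 5, 6, 7, 11, 12, 13, 8, 9, 10, 14, 15, 16, 17, 18, 26, 27, 28, 30, 31, 32, 46, 19, 20, 21, 29, 22, 23, 24, 33, 34, 35, 36, 37, 38, 47, 48, 49, 42, 50, 51, 52, 25, 39, 40, 41, 43, 44, 45, 53, 54, 55, 56, 57, 61, 62, 63, 58, 59, 60, 64, 65, 66, 67, 68, 69, 71, 70], [0, 1, 5, 6, 7, 2, 3, 4, 8, 9, 10, 11, 12, 13, 15, 14, 16, 17, 18, 22, 23, 24, 19, 20, 21, 25, 30, 31, 32, 42, 26, 27, 28, 33, 34, 35, 36, 37, 38, 43, 44, 45, 29, 39, 40, 41, 46, 50, 51, 52, 47, 48, 49, 53, 54, 55, 57, 56, 58, 59, 60, 61, 62, 63, 67, 68, 69, 64, 65, 66, 70, 71], [0, 2, 1, 3, 4, 5, 8,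 9, 6, 7, 10, 11, 12, 14, 13, 15, 16, 19, 20, 17, 18, 21, 22, 23, 25, 24, 26, 27, 29, 28, 33, 34, 39, 30, 31, 35, 36, 40, 41, 32, 37, 38, 43, 42, 44, 45, 47, 46, 48, 49, 50, 53, 54, 51, 52, 55, 56, 58, 57, 59, 60, 61, 64, 65, 62, 63, 66, 67, 68, 70, 69, 71], [0, 1, 3, 2, 4, 6, 5, 7, 8, 10, 9, 11, 13, 12, 14, 15, 17, 16, 18, 19, 21, 20, 22, 24, 23, 25, 26, 28, 27, 29, 30, 32, 31, 35, 37, 33, 38, 34, 36, 40, 39, 41, 42, 44, 43, 45, 46, 48, 47, 49, 51, 50, 52, 53, 55, 54, 56, 57, 59, 58, 60, 62, 61, 63, 64, 66, 65, 67, 69, 68, 70, 71], [0, 1, 2, 4, 3, 5, 7, 6, 9, 8, 10, 12, 11, 13, 14, 15, 16, 18, 17, 20, 19, 21, 23, 22, 24, 25, 27, 26, 28, 29, 31, 30, 32, 34, 33, 36, 35, 38, 37, 39, 41, 40, 42, 43, 45, 44, 46, 47, 49, 48, 50, 52, 51, 54, 53, 55, 56, 57, 58, 60, 59, 61, 63, 62, 65, 64, 66, 68, 67, 69, 70, 71]]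

/-- A reduced word for the longest element. -/
def w0 : List ℕ :=
  [0, 1, 2, 0, 3, 1, 2, 0, 3, 2, 4, 3, 1, 2, 0, 3, 2, 4, 3, 1, 5, 4, 3, 1, 2, 0, 3, 2, 4, 3, 1, 5, 4, 3, 2, 0]

theorem refl0_0_72 : ReflTblRange chevE6 reflTbl 0 0 72 := by decide +kernel

theorem refl0 : ReflTblRange chevE6 reflTbl 0 0 72 := refl0_0_72

theorem refl1_0_72 : ReflTblRange chevE6 reflTbl 1 0 72 := by decide +kernel

theorem refl1 : ReflTblRange chevE6 reflTbl 1 0 72 := refl1_0_72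

theorem refl2_0_72 : ReflTblRange chevE6 reflTbl 2 0 72 := by decide +kernel

theorem refl2 : ReflTblRange chevE6 reflTbl 2 0 72 := refl2_0_72

theorem refl3_0_72 : ReflTblRange chevE6 reflTbl 3 0 72 := by decide +kernel

theorem refl3 : ReflTblRange chevE6 reflTbl 3 0 72 := refl3_0_72

theorem refl4_0_72 : ReflTblRange chevE6 reflTbl 4 0 72 := by decide +kernel

theorem refl4 : ReflTblRange chevE6 reflTbl 4 0 72 := refl4_0_72

theorem refl5_0_72 : ReflTblRange chevE6 reflTbl 5 0 72 := by decide +kernel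

theorem refl5 : ReflTblRange chevE6 reflTbl 5 0 72 := refl5_0_72

theorem w0_0_72 : W0Range chevE6 reflTbl w0 0 72 := by decide +kernel

theorem w0OK : W0OK chevE6 reflTbl w0 := by
  refine ⟨?_, by decide, w0_0_72⟩
  intro i hi
  have h : chevE6.rank = 6 := rfl
  rw [h] at hi
  interval_cases i
  · exact refl0
  · exact refl1
  · exact refl2
  · exact refl3
  · exact refl4
  · exact refl5

end Cfsg.Agent.Lib.Helper36_ChevDataE6W0
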