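import Cfsg.Agent.Lib.Helper36_ChevIrr
import Cfsg.Agent.Lib.Helper36_ChevDataE6W0

set_option autoImplicit false
set_option Elab.async false

/-! Type E6: a spanning tree of the diagram; for each edge `(a, b)` a positive root sent to a negative root by
`s_a s_b s_a s_b` and one sent to a negative root by `s_b s_a s_b s_a`. Generated file. -/

namespace Cfsg.Agent.Lib.Helper36_ChevDataE6Irr

open Cfsg Cfsg.Lie Cfsg.Agent.Lib.Helper36_ChevW0 Cfsg.Agent.Lib.Helper36_ChevIrr

/-- The edges. -/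
def edges : List (ℕ × ℕ × ℕ × ℕ) :=
  [(0, 2, 56, 42), (2, 3, 42, 39), (3, 1, 39, 46), (3, 4, 39, 37), (4, 5, 37, 36)]

theorem irrOK : IrrOK chevE6 Cfsg.Agent.Lib.Helper36_ChevDataE6W0.reflTbl edges :=
  ⟨by decide +kernel, by decide +kernel⟩

end Cfsg.Agent.Lib.Helper36_ChevDataE6Irr
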