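import Cfsg.Agent.Lib.Helper36_ChevW0
import Cfsg.Prelude.Def_ChevE7

set_option autoImplicit false
set_option Elab.async false

/-! Type E7: the fundamental reflections as a literal table, and a word for the longest element of the Weyl group (it exchanges the positive and the negative roots). Generated file. -/

namespace Cfsg.Agent.Lib.Helper36_ChevDataE7W0

open Cfsg Cfsg.Lie Cfsg.Agent.Lib.Helper36_ChevW0

/-- The reflections: for each `i` the list of the `w_i s`. -/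
def reflTbl : List (List ℕ) :=
  [[1, 0, 2, 3, 4, 5, 6, 7, 8, 9, 10, 11, 12, 13, 14, 15, 16, 33, 34, 35, 36, 37, 38, 39, 40, 41, 42, 48, 49, 50, 51, 52, 93, 17, 18, 19, 20, 21, 22, 23, 24, 25, 26, 43, 44, 45, 46, 47, 27, 28, 29, 30, 31, 53, 54, 55, 56, 57, 58, 59, 60, 61, 62, 63, 64, 65, 66, 67, 68, 69, 70, 71, 72, 94, 95, 96, 97, 98, 78, 79, 80, 81, 82, 99, 100, 101, 102, 103, 104, 105, 106, 107, 108, 32, 73, 74, 75, 76, 77, 83, 84, 85, 86, 87, 88, 89, 90, 91, 92, 109, 110, 111, 112, 113, 114, 115, 116, 117, 118, 119, 120, 121, 122, 123, 125, 124], [0, 1, 2, 7, 8, 9, 10, 3, 4, 5, 6, 11, 12, 13, 14, 15, 16, 17, 18, 19, 20, 21, 22, 27, 28, 29, 30, 23, 24, 25, 26, 31, 32, 33, 34, 35, 36, 37, 38, 48, 49, 50, 51, 53, 54, 55, 56, 78, 39, 40, 41, 42, 52, 43, 44, 45, 46, 57, 58, 59, 60, 61, 62, 63, 64, 65, 66, 67, 68, 79, 80, 81, 82, 73, 83, 84, 85, 86, 47, 69, 70, 71, 72, 74, 75, 76, 77,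 87, 88, 89, 90, 91, 92, 93, 94, 99, 100, 101, 102, 95, 96, 97, 98, 103, 104, 105, 106, 107, 108, 109, 110, 111, 112, 113, 114, 119, 120, 121, 122, 115, 116, 117, 118, 123, 124, 125], [0, 2, 1, 3, 4, 5, 6, 7, 8, 9, 10, 17, 18, 19, 20, 21, 22, 11, 12, 13, 14, 15, 16, 23, 24, 25, 26, 27, 28, 29, 30, 32, 31, 33, 34, 35, 36, 37, 38, 43, 44, 45, 46, 39, 40, 41, 42, 47, 53, 54, 55, 56, 73, 48, 49, 50, 51, 57, 58, 59, 60, 61, 62, 63, 64, 65, 66, 67, 68, 74, 75, 76, 77, 52, 69, 70, 71, 72, 78, 83, 84, 85, 86, 79, 80, 81, 82, 87, 88, 89, 90, 91, 92, 94, 93, 95, 96, 97, 98, 99, 100, 101, 102, 109, 110, 111, 112, 113, 114, 103, 104, 105, 106, 107, 108, 115, 116, 117, 118, 119, 120, 121, 122, 124, 123, 125], [0, 1, 3, 2, 4, 5, 6, 7, 11, 12, 13, 8, 9, 10, 14, 15, 16, 17, 18, 19, 23, 24, 25, 20, 21, 22, 26, 27, 28, 29, 31, 30, 32, 33, 34, 35, 39, 40, 41, 36, 37, 38, 42, 43, 44, 45, 47, 46, 48,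 49, 50, 52, 51, 57, 58, 59, 69, 53, 54, 55, 60, 61, 62, 63, 64, 65, 70, 71, 72, 56, 66, 67, 68, 74, 73, 75, 76, 77, 79, 78, 80, 81, 82, 83, 87, 88, 89, 84, 85, 86, 90, 91, 92, 93, 95, 94, 96, 97, 98, 99, 103, 104, 105, 100, 101, 102, 106, 107, 108, 109, 110, 111, 115, 116, 117, 112, 113, 114, 118, 119, 120, 121, 123, 122, 124, 125], [0, 1, 2, 4, 3, 5, 6, 8, 7, 9, 10, 11, 14, 15, 12, 13, 16, 17, 20, 21, 18, 19, 22, 23, 24, 26, 25, 27, 28, 30, 29, 31, 32, 33, 36, 37, 34, 35, 38, 39, 40, 42, 41, 43, 44, 46, 45, 47, 48, 49, 51, 50, 52, 53, 54, 56, 55, 60, 61, 66, 57, 58, 62, 63, 67, 68, 59, 64, 65, 70, 69, 71, 72, 73, 75, 74, 76, 77, 78, 80, 79, 81, 82, 84, 83, 85, 86, 87, 90, 91, 88, 89, 92, 93, 94, 96, 95, 97, 98, 100, 99, 101, 102, 103, 106, 107, 104, 105, 108, 109, 112, 113, 110, 111, 114, 115, 116, 118, 117, 119, 120, 122, 121, 123, 124, 125], [0, 1, 2, 3, 5, 4, 6, 7, 9, 8, 10,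 12, 11, 13, 14, 16, 15, 18, 17, 19, 20, 22, 21, 23, 25, 24, 26, 27, 29, 28, 30, 31, 32, 34, 33, 35, 36, 38, 37, 39, 41, 40, 42, 43, 45, 44, 46, 47, 48, 50, 49, 51, 52, 53, 55, 54, 56, 57, 59, 58, 62, 64, 60, 65, 61, 63, 67, 66, 68, 69, 71, 70, 72, 73, 74, 76, 75, 77, 78, 79, 81, 80, 82, 83, 85, 84, 86, 88, 87, 89, 90, 92, 91, 93, 94, 95, 97, 96, 98, 99, 101, 100, 102, 104, 103, 105, 106, 108, 107, 110, 109, 111, 112, 114, 113, 115, 117, 116, 118, 119, 121, 120, 122, 123, 124, 125], [0, 1, 2, 3, 4, 6, 5, 7, 8, 10, 9, 11, 13, 12, 15, 14, 16, 17, 19, 18, 21, 20, 22, 24, 23, 25, 26, 28, 27, 29, 30, 31, 32, 33, 35, 34, 37, 36, 38, 40, 39, 41, 42, 44, 43, 45, 46, 47, 49, 48, 50, 51, 52, 54, 53, 55, 56, 58, 57, 59, 61, 60, 63, 62, 65, 64, 66, 68, 67, 69, 70, 72, 71, 73, 74, 75, 77, 76, 78, 79, 80, 82, 81, 83, 84, 86, 85, 87, 89, 88, 91, 90, 92, 93, 94, 95, 96, 98, 97, 99, 100, 102, 101,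 103, 105, 104, 107, 106, 108, 109, 111, 110, 113, 112, 114, 116, 115, 117, 118, 120, 119, 121, 122, 123, 124, 125]]

/-- A reduced word for the longest element. -/
def w0 : List ℕ :=
  [0, 1, 2, 0, 3, 1, 2, 0, 3, 2, 4, 3, 1, 2, 0, 3, 2, 4, 3, 1, 5, 4, 3, 1, 2, 0, 3, 2, 4, 3, 1, 5, 4, 3, 2, 0, 6, 5, 4, 3, 1, 2, 0, 3, 2, 4, 3, 1, 5, 4, 3, 2, 0, 6, 5, 4, 3, 1, 2, 3, 4, 5, 6]

theorem refl0_0_126 : ReflTblRange chevE7 reflTbl 0 0 126 := by decide +kernel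

theorem refl0 : ReflTblRange chevE7 reflTbl 0 0 126 := refl0_0_126

theorem refl1_0_126 : ReflTblRange chevE7 reflTbl 1 0 126 := by decide +kernel

theorem refl1 : ReflTblRange chevE7 reflTbl 1 0 126 := refl1_0_126

theorem refl2_0_126 : ReflTblRange chevE7 reflTbl 2 0 126 := by decide +kernel

theorem refl2 : ReflTblRange chevE7 reflTbl 2 0 126 := refl2_0_126

theorem refl3_0_126 : ReflTblRange chevE7 reflTbl 3 0 126 := by decide +kernel

theorem refl3 : ReflTblRange chevE7 reflTbl 3 0 126 := refl3_0_126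

theorem refl4_0_126 : ReflTblRange chevE7 reflTbl 4 0 126 := by decide +kernel

theorem refl4 : ReflTblRange chevE7 reflTbl 4 0 126 := refl4_0_126

theorem refl5_0_126 : ReflTblRange chevE7 reflTbl 5 0 126 := by decide +kernel

theorem refl5 : ReflTblRange chevE7 reflTbl 5 0 126 := refl5_0_126

theorem refl6_0_126 : ReflTblRange chevE7 reflTbl 6 0 126 := by decide +kernel

theorem refl6 : ReflTblRange chevE7 reflTbl 6 0 126 := refl6_0_126

theorem w0_0_63 : W0Range chevE7 reflTbl w0 0 63 := by decide +kernel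

theorem w0_63_126 : W0Range chevE7 reflTbl w0 63 126 := by decide +kernel

theorem w0OK : W0OK chevE7 reflTbl w0 := by
  refine ⟨?_, by decide, w0Range_trans chevE7 reflTbl w0 (w0_0_63) w0_63_126⟩
  intro i hi
  have h : chevE7.rank = 7 := rfl
  rw [h] at hi
  interval_cases i
  · exact refl0
  · exact refl1
  · exact refl2
  · exact refl3
  · exact refl4
  · exact refl5
  · exact refl6

end Cfsg.Agent.Lib.Helper36_ChevDataE7W0
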