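import Cfsg.Agent.Lib.Helper36_ChevW0
import Cfsg.Prelude.Def_ChevF4

set_option autoImplicit false
set_option Elab.async false

/-! Type F4: the fundamental reflections as a literal table, and a word for the longest element of the Weyl group (it exchanges the positive and the negative roots). Generated file. -/

namespace Cfsg.Agent.Lib.Helper36_ChevDataF4W0

open Cfsg Cfsg.Lie Cfsg.Agent.Lib.Helper36_ChevW0

/-- The reflections: for each `i` the list of the `w_i s`. -/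
def reflTbl : List (List ℕ) :=
  [[0, 1, 2, 7, 15, 16, 17, 3, 8, 9, 10, 18, 19, 20, 33, 4, 5, 6, 11, 12, 13, 21, 22, 23, 24, 25, 26, 34, 35, 36, 41, 42, 43, 14, 27, 28, 29, 37, 38, 39, 44, 30, 31, 32, 40, 45, 46, 47], [0, 1, 4, 3, 2, 5, 6, 8, 7, 11, 12, 9, 10, 14, 13, 15, 21, 22, 18, 19, 27, 16, 17, 23, 24, 30, 31, 20, 28, 29, 25, 26, 32, 34, 33, 37, 38, 35, 36, 40, 39, 41, 42, 45, 44, 43, 46, 47], [0, 2, 1, 3, 5, 4, 6, 7, 9, 8, 10, 11, 13, 12, 14, 16, 15, 17, 18, 20, 19, 23, 25, 21, 26, 22, 24, 28, 27, 29, 30, 32, 31, 33, 35, 34, 36, 37, 39, 38, 40, 41, 43, 42, 44, 46, 45, 47], [1, 0, 2, 3, 4, 6, 5, 7, 8, 10, 9, 12, 11, 13, 14, 15, 17, 16, 19, 18, 20, 22, 21, 24, 23, 26, 25, 27, 29, 28, 31, 30, 32, 33, 34, 36, 35, 38, 37, 39, 40, 42, 41, 43, 44, 45, 47, 46]]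

/-- A reduced word for the longest element. -/
def w0 : List ℕ :=
  [0, 1, 0, 2, 1, 0, 2, 1, 2, 3, 2, 1, 0, 2, 1, 2, 3, 2, 1, 0, 2, 1, 2, 3]

theorem refl0_0_48 : ReflTblRange chevF4 reflTbl 0 0 48 := by decide +kernel

theorem refl0 : ReflTblRange chevF4 reflTbl 0 0 48 := refl0_0_48

theorem refl1_0_48 : ReflTblRange chevF4 reflTbl 1 0 48 := by decide +kernel

theorem refl1 : ReflTblRange chevF4 reflTbl 1 0 48 := refl1_0_48

theorem refl2_0_48 : ReflTblRange chevF4 reflTbl 2 0 48 := by decide +kernel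

theorem refl2 : ReflTblRange chevF4 reflTbl 2 0 48 := refl2_0_48

theorem refl3_0_48 : ReflTblRange chevF4 reflTbl 3 0 48 := by decide +kernel

theorem refl3 : ReflTblRange chevF4 reflTbl 3 0 48 := refl3_0_48

theorem w0_0_48 : W0Range chevF4 reflTbl w0 0 48 := by decide +kernel

theorem w0OK : W0OK chevF4 reflTbl w0 := by
  refine ⟨?_, by decide, w0_0_48⟩
  intro i hi
  have h : chevF4.rank = 4 := rfl
  rw [h] at hi
  interval_cases i
  · exact refl0
  · exact refl1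
  · exact refl2
  · exact refl3

end Cfsg.Agent.Lib.Helper36_ChevDataF4W0
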