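import Cfsg.Agent.Lib.Helper36_ChevTri
import Cfsg.Prelude.Def_ChevB2

set_option autoImplicit false
set_option Elab.async false

/-! Type B2: the height of the roots (literal table) and the check that the root elements of positive roots raise it. Generated file. -/

namespace Cfsg.Agent.Lib.Helper36_ChevDataB2Ht

open Cfsg Cfsg.Lie Cfsg.Agent.Lib.Helper36_ChevTri

/-- The heights of the roots, plus 30. -/
def htN : List ℕ :=
  [27, 28, 29, 29, 31, 31, 32, 33]

theorem ht_0_8 : HtRange chevB2 htN 30 3 0 8 := by decide +kernel

theorem simplePos : SimplePos chevB2 := by decide +kernel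

theorem htOK : HtOK chevB2 htN 30 3 := ⟨ht_0_8, simplePos, by decide⟩

end Cfsg.Agent.Lib.Helper36_ChevDataB2Ht
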