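import Cfsg.Agent.Lib.Helper36_ChevTri
import Cfsg.Prelude.Def_ChevD4

set_option autoImplicit false
set_option Elab.async false

/-! Type D4: the height of the roots (literal table) and the check that the root elements of positive roots raise it. Generated file. -/

namespace Cfsg.Agent.Lib.Helper36_ChevDataD4Ht

open Cfsg Cfsg.Lie Cfsg.Agent.Lib.Helper36_ChevTri

/-- The heights of the roots, plus 30. -/
def htN : List ℕ :=
  [25, 26, 27, 27, 28, 29, 27, 28, 28, 29, 29, 29, 31, 31, 31, 32, 32, 33, 31, 32, 33, 33, 34, 35]

theorem ht_0_24 : HtRange chevD4 htN 30 5 0 24 := by decide +kernel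

theorem simplePos : SimplePos chevD4 := by decide +kernel

theorem htOK : HtOK chevD4 htN 30 5 := ⟨ht_0_24, simplePos, by decide⟩

end Cfsg.Agent.Lib.Helper36_ChevDataD4Ht
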