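import Cfsg.Agent.Lib.Helper36_ChevTri
import Cfsg.Prelude.Def_ChevE7

set_option autoImplicit false
set_option Elab.async false

/-! Type E7: the height of the roots (literal table) and the check that the root elements of positive roots raise it. Generated file. -/

namespace Cfsg.Agent.Lib.Helper36_ChevDataE7Ht

open Cfsg Cfsg.Lie Cfsg.Agent.Lib.Helper36_ChevTri

/-- The heights of the roots, plus 30. -/
def htN : List ℕ :=
  [13, 14, 15, 16, 17, 18, 19, 17, 18, 19, 20, 19, 20, 21, 21, 22, 23, 20, 21, 22, 22, 23, 24, 23, 24, 25, 26, 24, 25, 26, 27, 28, 29, 21, 22, 23, 23, 24, 25, 24, 25, 26, 27, 25, 26, 27, 28, 29, 25, 26, 27, 28, 29, 26, 27, 28, 29, 27, 28, 29, 28, 29, 29, 31, 31, 32, 31, 32, 33, 31, 32, 33, 34, 31, 32, 33, 34, 35, 31, 32, 33, 34, 35, 33, 34, 35, 36, 35, 36, 37, 37, 38, 39, 31, 32, 33, 34, 35, 36, 34, 35, 36, 37, 36, 37, 38, 38, 39, 40, 37, 38, 39, 39, 40, 41, 40, 41, 42, 43, 41, 42, 43, 44, 45, 46, 47]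

theorem ht_0_126 : HtRange chevE7 htN 30 17 0 126 := by decide +kernel

theorem simplePos : SimplePos chevE7 := by decide +kernel

theorem htOK : HtOK chevE7 htN 30 17 := ⟨ht_0_126, simplePos, by decide⟩

end Cfsg.Agent.Lib.Helper36_ChevDataE7Ht
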