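import Cfsg.Agent.Lib.Helper36_ChevTri
import Cfsg.Prelude.Def_ChevE8

set_option autoImplicit false
set_option Elab.async false

/-! Type E8: the height of the roots (literal table) and the check that the root elements of positive roots raise it. Generated file. -/

namespace Cfsg.Agent.Lib.Helper36_ChevDataE8Ht

open Cfsg Cfsg.Lie Cfsg.Agent.Lib.Helper36_ChevTri

/-- The heights of the roots, plus 30. -/
def htN : List ℕ :=
  [1, 2, 3, 4, 5, 6, 7, 7, 8, 9, 10, 11, 12, 13, 8, 9, 10, 11, 12, 13, 14, 11, 12, 13, 14, 15, 13, 14, 15, 16, 15, 16, 17, 17, 18, 19, 14, 15, 16, 17, 16, 17, 18, 18, 19, 20, 17, 18, 19, 19, 20, 21, 20, 21, 22, 23, 18, 19, 20, 20, 21, 22, 21, 22, 23, 24, 22, 23, 24, 25, 26, 23, 24, 25, 26, 27, 28, 29, 19, 20, 21, 21, 22, 23, 22, 23, 24, 25, 23, 24, 25, 26, 27, 24, 25, 26, 27, 28, 29, 24, 25, 26, 27, 28, 29, 25, 26, 27, 28, 29, 26, 27, 28, 29, 27, 28, 29, 28, 29, 29, 31, 31, 32, 31,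 32, 33, 31, 32, 33, 34, 31, 32, 33, 34, 35, 31, 32, 33, 34, 35, 36, 31, 32, 33, 34, 35, 36, 33, 34, 35, 36, 37, 35, 36, 37, 38, 37, 38, 39, 39, 40, 41, 31, 32, 33, 34, 35, 36, 37, 34, 35, 36, 37, 38, 36, 37, 38, 39, 38, 39, 40, 40, 41, 42, 37, 38, 39, 40, 39, 40, 41, 41, 42, 43, 40, 41, 42, 42, 43, 44, 43, 44, 45, 46, 41, 42, 43, 43, 44, 45, 44, 45, 46, 47, 45, 46, 47, 48, 49, 46, 47, 48, 49, 50, 51, 52, 47, 48, 49, 50, 51, 52, 53, 53, 54, 55, 56, 57, 58, 59]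

theorem ht_0_120 : HtRange chevE8 htN 30 29 0 120 := by decide +kernel

theorem ht_120_240 : HtRange chevE8 htN 30 29 120 240 := by decide +kernel

theorem simplePos : SimplePos chevE8 := by decide +kernel

theorem htOK : HtOK chevE8 htN 30 29 := ⟨htRange_trans chevE8 htN 30 29 (ht_0_120) ht_120_240, simplePos, by decide⟩

end Cfsg.Agent.Lib.Helper36_ChevDataE8Ht
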