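import Cfsg.Agent.Lib.Helper36_ChevHAll
import Cfsg.Agent.Lib.Helper36_ChevDataB2Eta
import Cfsg.Agent.Lib.Helper36_ChevDataB2H

set_option autoImplicit false
set_option Elab.async false

/-! Type B2: `n_r(c)` and `h_r(c)` for all roots (conjugation data for the fundamental roots, symmetry of the certificate). Generated file. -/

namespace Cfsg.Agent.Lib.Helper36_ChevDataB2HA

open Cfsg Cfsg.Lie Cfsg.Agent.Lib.Helper36_ChevSparse Cfsg.Agent.Lib.Helper36_ChevCoeff
  Cfsg.Agent.Lib.Helper36_ChevCoo Cfsg.Agent.Lib.Helper36_ChevAdd Cfsg.Agent.Lib.Helper36_ChevIdx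
  Cfsg.Agent.Lib.Helper36_ChevWeyl Cfsg.Agent.Lib.Helper36_ChevGen Cfsg.Agent.Lib.Helper36_ChevConj Cfsg.Agent.Lib.Helper36_ChevH
  Cfsg.Agent.Lib.Helper36_ChevHAll
  Cfsg.Agent.Lib.Helper36_ChevDataB2 Cfsg.Agent.Lib.Helper36_ChevDataB2Eta Cfsg.Agent.Lib.Helper36_ChevDataB2H

theorem fund0 : FundRow chevB2 nLits 12 0 (etaTable.getD 0 []) := by decide +kernel

theorem fund1 : FundRow chevB2 nLits 12 1 (etaTable.getD 1 []) := by decide +kernel

theorem fundOK : FundOK chevB2 nLits 12 etaTable := by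
  intro i hi
  have h : chevB2.rank = 2 := rfl
  rw [h] at hi
  interval_cases i
  · exact fund0
  · exact fund1

theorem treeSym : treeSymCheck chevB2 tree = true := by decide +kernel

/-- Type B2: `n_i h_{p_j}(t) = h_{w_i p_j}(t) n_i`. -/
theorem n_mul_h (F : Type*) [Field F] (i j : ℕ) (hi : i < chevB2.rank) (hj : j < chevB2.rank) (t : F) (ht : t ≠ 0) :
    chevB2.nMat F (chevB2.simple i) 1 * chevB2.hMat F (chevB2.simple j) t =
      chevB2.hMat F (chevB2.reflectRoot i (chevB2.simple j)) t * chevB2.nMat F (chevB2.simple i) 1 :=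
  n_mul_h_fund chevB2 lenOK addOK simpleOK nLits nLitOK F 12 12 hOK etaTable fundOK
    i j hi hj t ht

/-- Type B2: for every root `r` the squares `n_r(c)²` do not depend on `c`, and `h_r` is multiplicative. -/
theorem goodH (F : Type*) [Field F] (r : ℕ) (hr : r < chevB2.nroots) : GoodH chevB2 F r :=
  goodH_all chevB2 lenOK addOK simpleOK nLits nLitOK F 12 12 hOK etaTable fundOK
    tree pairsOK treeSym reachOK r hr

end Cfsg.Agent.Lib.Helper36_ChevDataB2HA
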