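import Cfsg.Agent.Lib.Helper36_ChevHConj
import Cfsg.Prelude.Def_ChevB2

set_option autoImplicit false
set_option Elab.async false

/-! Type B2: the Cartan integers `A_{p_i, s}` are additive in `s` along chains (table check), so that `s ↦ c^{A_{p_i,s}}` is a character of the root lattice. Generated file. -/

namespace Cfsg.Agent.Lib.Helper36_ChevDataB2CA

open Cfsg Cfsg.Lie Cfsg.Agent.Lib.Helper36_ChevHConj

/-- The Cartan integers `A_{p_i, s} + 3`, for each root `s` the list over `i`. -/
def cartN : List (List ℕ) :=
  [[1, 3], [3, 2], [1, 4], [5, 1], [1, 5], [5, 2], [3, 4], [5, 3]]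

/-- The Cartan integers `A_{p_i, s}`, for each root `s` the list over `i`. -/
def cartTbl : List (List ℤ) := cartN.map fun col => col.map fun a => (a : ℤ) - 3

theorem tblOK : CartTblOK chevB2 cartTbl := by decide +kernel

theorem ca_0_8 : CartanAddRange chevB2 cartTbl 0 8 := by decide +kernel

theorem cartanAddOK : CartanAddOK chevB2 := ⟨cartTbl, tblOK, ca_0_8⟩

end Cfsg.Agent.Lib.Helper36_ChevDataB2CA
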