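import Cfsg.Agent.Lib.Helper36_ChevConj
import Cfsg.Agent.Lib.Helper36_ChevDataD4

set_option autoImplicit false
set_option Elab.async false

/-! Type D4: the relation `n_i x_s(t) = x_{w_i s}(η t) n_i` for all pairs with the table of signs, and the monomial form of `n_i`. Generated file. -/

namespace Cfsg.Agent.Lib.Helper36_ChevDataD4Eta

open Cfsg Cfsg.Lie Cfsg.Agent.Lib.Helper36_ChevSparse Cfsg.Agent.Lib.Helper36_ChevCoeff
  Cfsg.Agent.Lib.Helper36_ChevCoo Cfsg.Agent.Lib.Helper36_ChevAdd Cfsg.Agent.Lib.Helper36_ChevIdx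
  Cfsg.Agent.Lib.Helper36_ChevWeyl Cfsg.Agent.Lib.Helper36_ChevGen Cfsg.Agent.Lib.Helper36_ChevConj
  Cfsg.Agent.Lib.Helper36_ChevDataD4

/-- The signs `η_{i,s}` in `n_i x_s(t) = x_{w_i s}(η_{i,s} t) n_i`, one list for each `i`. -/
def etaTable : List (List ℤ) :=
  [[1, 1, 1, 1, 1, -1, -1, -1, -1, -1, 1, 1, 1, 1, -1, -1, -1, -1, -1, 1, 1, 1, 1, 1],
   [-1, 1, 1, 1, -1, 1, 1, 1, 1, -1, -1, -1, -1, -1, -1, 1, 1, 1, 1, -1, 1, 1, 1, -1],
   [1, -1, -1, 1, 1, 1, -1, -1, 1, 1, -1, 1, 1, -1, 1, 1, -1, -1, 1, 1, 1, -1, -1, 1],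
   [1, -1, 1, -1, 1, 1, -1, 1, -1, 1, 1, -1, -1, 1, 1, -1, 1, -1, 1, 1, -1, 1, -1, 1]]

theorem eta0_0_24 : EtaRange chevD4 12 nLits 0 (etaTable.getD 0 []) 0 24 := by decide +kernel

theorem eta0 : EtaRange chevD4 12 nLits 0 (etaTable.getD 0 []) 0 24 := eta0_0_24

theorem mono0 : monoCheck chevD4 0 Nc0 (etaTable.getD 0 []) = true := by decide +kernel

theorem etaProps0 : etaPropsCheck chevD4 0 (etaTable.getD 0 []) = true := by decide +kernel

theorem eta1_0_24 : EtaRange chevD4 12 nLits 1 (etaTable.getD 1 []) 0 24 := by decide +kernel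

theorem eta1 : EtaRange chevD4 12 nLits 1 (etaTable.getD 1 []) 0 24 := eta1_0_24

theorem mono1 : monoCheck chevD4 1 Nc1 (etaTable.getD 1 []) = true := by decide +kernel

theorem etaProps1 : etaPropsCheck chevD4 1 (etaTable.getD 1 []) = true := by decide +kernel

theorem eta2_0_24 : EtaRange chevD4 12 nLits 2 (etaTable.getD 2 []) 0 24 := by decide +kernel

theorem eta2 : EtaRange chevD4 12 nLits 2 (etaTable.getD 2 []) 0 24 := eta2_0_24

theorem mono2 : monoCheck chevD4 2 Nc2 (etaTable.getD 2 []) = true := by decide +kernel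

theorem etaProps2 : etaPropsCheck chevD4 2 (etaTable.getD 2 []) = true := by decide +kernel

theorem eta3_0_24 : EtaRange chevD4 12 nLits 3 (etaTable.getD 3 []) 0 24 := by decide +kernel

theorem eta3 : EtaRange chevD4 12 nLits 3 (etaTable.getD 3 []) 0 24 := eta3_0_24

theorem mono3 : monoCheck chevD4 3 Nc3 (etaTable.getD 3 []) = true := by decide +kernel

theorem etaProps3 : etaPropsCheck chevD4 3 (etaTable.getD 3 []) = true := by decide +kernel

theorem etaTableOK : EtaTableOK chevD4 12 nLits etaTable := by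
  intro i hi
  have h : chevD4.rank = 4 := rfl
  rw [h] at hi
  interval_cases i
  · exact eta0
  · exact eta1
  · exact eta2
  · exact eta3

theorem monoOK : ∀ i < chevD4.rank, monoCheck chevD4 i (nLits.getD i ([], [])).1 (etaTable.getD i []) = true ∧
    etaPropsCheck chevD4 i (etaTable.getD i []) = true := by
  intro i hi
  have h : chevD4.rank = 4 := rfl
  rw [h] at hi
  interval_cases i
  · exact ⟨mono0, etaProps0⟩
  · exact ⟨mono1, etaProps1⟩
  · exact ⟨mono2, etaProps2⟩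
  · exact ⟨mono3, etaProps3⟩

end Cfsg.Agent.Lib.Helper36_ChevDataD4Eta
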