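import Cfsg.Agent.Lib.Helper36_ChevTorus
import Cfsg.Agent.Lib.Helper36_ChevDataD4HA
import Cfsg.Agent.Lib.Helper36_ChevDataD4RC

set_option autoImplicit false


/-! Type D4: the diagonal subgroup consists of the diagonal matrices `diag(chi u)`; the `n_r(±1)` permute them. Assembled from the table checks. Generated file. -/

namespace Cfsg.Agent.Lib.Helper36_ChevDataD4T

open Cfsg Cfsg.Lie Cfsg.Agent.Lib.Helper36_ChevSparse Cfsg.Agent.Lib.Helper36_ChevCoeff
  Cfsg.Agent.Lib.Helper36_ChevCoo Cfsg.Agent.Lib.Helper36_ChevAdd Cfsg.Agent.Lib.Helper36_ChevIdx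
  Cfsg.Agent.Lib.Helper36_ChevWeyl Cfsg.Agent.Lib.Helper36_ChevGen Cfsg.Agent.Lib.Helper36_ChevConj Cfsg.Agent.Lib.Helper36_ChevH
  Cfsg.Agent.Lib.Helper36_ChevHAll Cfsg.Agent.Lib.Helper36_ChevTorus

theorem monoOK : MonoOK chevD4 Helper36_ChevDataD4.nLits Helper36_ChevDataD4Eta.etaTable := fun i hi => (Helper36_ChevDataD4Eta.monoOK i hi).1

/-- Type D4: the facts that come out of the table checks. -/
theorem facts (F : Type*) [Field F] : Facts chevD4 F :=
  facts_mk chevD4 F Helper36_ChevDataD4.lenOK Helper36_ChevDataD4.addOK Helper36_ChevDataD4.simpleOK Helper36_ChevDataD4.nLits Helper36_ChevDataD4.nLitOK 12 Helper36_ChevDataD4CA.cartanAddOK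
    Helper36_ChevDataD4RC.reflCartanOK Helper36_ChevDataD4Eta.etaTable monoOK 12 Helper36_ChevDataD4H.hOK
    Helper36_ChevDataD4Eta.etaTable Helper36_ChevDataD4HA.fundOK Helper36_ChevDataD4.tree Helper36_ChevDataD4.pairsOK Helper36_ChevDataD4HA.treeSym Helper36_ChevDataD4.reachOK

end Cfsg.Agent.Lib.Helper36_ChevDataD4T
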