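import Cfsg.Agent.Lib.Helper36_ChevConj
import Cfsg.Agent.Lib.Helper36_ChevDataE6

set_option autoImplicit false
set_option Elab.async false

/-! Type E6: the relation `n_i x_s(t) = x_{w_i s}(η t) n_i` for all pairs with the table of signs, and the monomial form of `n_i`. Generated file. -/

namespace Cfsg.Agent.Lib.Helper36_ChevDataE6Eta

open Cfsg Cfsg.Lie Cfsg.Agent.Lib.Helper36_ChevSparse Cfsg.Agent.Lib.Helper36_ChevCoeff
  Cfsg.Agent.Lib.Helper36_ChevCoo Cfsg.Agent.Lib.Helper36_ChevAdd Cfsg.Agent.Lib.Helper36_ChevIdx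
  Cfsg.Agent.Lib.Helper36_ChevWeyl Cfsg.Agent.Lib.Helper36_ChevGen Cfsg.Agent.Lib.Helper36_ChevConj
  Cfsg.Agent.Lib.Helper36_ChevDataE6

/-- The signs `η_{i,s}` in `n_i x_s(t) = x_{w_i s}(η_{i,s} t) n_i`, one list for each `i`. -/
def etaTable : List (List ℤ) :=
  [[1, 1, 1, 1, 1, 1, 1, 1, 1, 1, 1, 1, 1, 1, 1, -1, -1, -1, -1, -1, -1, -1, 1, 1, 1, 1, -1, -1, -1, -1, 1, 1, 1, 1, 1, 1, 1, 1, 1, 1, 1, 1, -1, -1, -1, -1, 1, 1, 1, 1, -1, -1, -1, -1, -1, -1, -1, 1, 1, 1, 1, 1, 1, 1, 1, 1, 1, 1, 1, 1, 1, 1],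
   [-1, 1, 1, 1, 1, 1, 1, 1, -1, -1, -1, 1, 1, 1, 1, 1, 1, 1, 1, -1, -1, -1, 1, 1, 1, -1, 1, 1, 1, 1, -1, -1, -1, 1, 1, 1, 1, 1, 1, -1, -1, -1, 1, 1, 1, 1, -1, 1, 1, 1, -1, -1, -1, 1, 1, 1, 1, 1, 1, 1, 1, -1, -1, -1, 1, 1, 1, 1, 1, 1, 1, -1],
   [1, 1, -1, -1, -1, 1, 1, 1, 1, 1, 1, 1, 1, 1, -1, 1, 1, 1, 1, -1, -1, -1, 1, 1, 1, 1, 1, 1, 1, -1, -1, -1, -1, 1, 1, 1, 1, 1, 1, -1, -1, -1, -1, 1, 1, 1, 1, 1, 1, 1, -1, -1, -1, 1, 1, 1, 1, -1, 1, 1, 1, 1, 1, 1, 1, 1, 1, -1, -1, -1, 1, 1],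
   [1, -1, 1, 1, 1, 1, -1, -1, 1, 1, 1, 1, 1, -1, 1, 1, 1, -1, -1, 1, 1, 1, 1, 1, -1, 1, 1, 1, -1, 1, 1, 1, -1, -1, -1, 1, 1, -1, -1, -1, 1, 1, 1, -1, 1, 1, 1, -1, 1, 1, 1, 1, 1, -1, -1, 1, 1, 1, -1, 1, 1, 1, 1, 1, -1, -1, 1, 1, 1, 1, -1, 1],
   [1, 1, -1, 1, 1, -1, 1, 1, 1, -1, 1, 1, -1, 1, 1, 1, -1, 1, 1, 1, -1, 1, 1, -1, 1, 1, 1, -1, 1, 1, 1, -1, 1, 1, -1, -1, -1, -1, 1, 1, -1, 1, 1, 1, -1, 1, 1, 1, -1, 1, 1, -1, 1, 1, 1, -1, 1, 1, 1, -1, 1, 1, -1, 1, 1, 1, -1, 1, 1, -1, 1, 1],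
   [1, 1, 1, -1, 1, 1, -1, 1, -1, 1, 1, -1, 1, 1, 1, 1, 1, -1, 1, -1, 1, 1, -1, 1, 1, 1, -1, 1, 1, 1, -1, 1, 1, -1, 1, -1, -1, 1, -1, 1, 1, -1, 1, 1, 1, -1, 1, 1, 1, -1, 1, 1, -1, 1, -1, 1, 1, 1, 1, 1, -1, 1, 1, -1, 1, -1, 1, 1, -1, 1, 1, 1]]

theorem eta0_0_24 : EtaRange chevE6 12 nLits 0 (etaTable.getD 0 []) 0 24 := by decide +kernel

theorem eta0_24_48 : EtaRange chevE6 12 nLits 0 (etaTable.getD 0 []) 24 48 := by decide +kernel

theorem eta0_48_72 : EtaRange chevE6 12 nLits 0 (etaTable.getD 0 []) 48 72 := by decide +kernel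

theorem eta0 : EtaRange chevE6 12 nLits 0 (etaTable.getD 0 []) 0 72 := etaRange_trans chevE6 12 nLits 0 _ (etaRange_trans chevE6 12 nLits 0 _ (eta0_0_24) eta0_24_48) eta0_48_72

theorem mono0 : monoCheck chevE6 0 Nc0 (etaTable.getD 0 []) = true := by decide +kernel

theorem etaProps0 : etaPropsCheck chevE6 0 (etaTable.getD 0 []) = true := by decide +kernel

theorem eta1_0_24 : EtaRange chevE6 12 nLits 1 (etaTable.getD 1 []) 0 24 := by decide +kernel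

theorem eta1_24_48 : EtaRange chevE6 12 nLits 1 (etaTable.getD 1 []) 24 48 := by decide +kernel

theorem eta1_48_72 : EtaRange chevE6 12 nLits 1 (etaTable.getD 1 []) 48 72 := by decide +kernel

theorem eta1 : EtaRange chevE6 12 nLits 1 (etaTable.getD 1 []) 0 72 := etaRange_trans chevE6 12 nLits 1 _ (etaRange_trans chevE6 12 nLits 1 _ (eta1_0_24) eta1_24_48) eta1_48_72

theorem mono1 : monoCheck chevE6 1 Nc1 (etaTable.getD 1 []) = true := by decide +kernel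

theorem etaProps1 : etaPropsCheck chevE6 1 (etaTable.getD 1 []) = true := by decide +kernel

theorem eta2_0_24 : EtaRange chevE6 12 nLits 2 (etaTable.getD 2 []) 0 24 := by decide +kernel

theorem eta2_24_48 : EtaRange chevE6 12 nLits 2 (etaTable.getD 2 []) 24 48 := by decide +kernel

theorem eta2_48_72 : EtaRange chevE6 12 nLits 2 (etaTable.getD 2 []) 48 72 := by decide +kernel

theorem eta2 : EtaRange chevE6 12 nLits 2 (etaTable.getD 2 []) 0 72 := etaRange_trans chevE6 12 nLits 2 _ (etaRange_trans chevE6 12 nLits 2 _ (eta2_0_24) eta2_24_48) eta2_48_72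

theorem mono2 : monoCheck chevE6 2 Nc2 (etaTable.getD 2 []) = true := by decide +kernel

theorem etaProps2 : etaPropsCheck chevE6 2 (etaTable.getD 2 []) = true := by decide +kernel

theorem eta3_0_24 : EtaRange chevE6 12 nLits 3 (etaTable.getD 3 []) 0 24 := by decide +kernel

theorem eta3_24_48 : EtaRange chevE6 12 nLits 3 (etaTable.getD 3 []) 24 48 := by decide +kernel

theorem eta3_48_72 : EtaRange chevE6 12 nLits 3 (etaTable.getD 3 []) 48 72 := by decide +kernel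

theorem eta3 : EtaRange chevE6 12 nLits 3 (etaTable.getD 3 []) 0 72 := etaRange_trans chevE6 12 nLits 3 _ (etaRange_trans chevE6 12 nLits 3 _ (eta3_0_24) eta3_24_48) eta3_48_72

theorem mono3 : monoCheck chevE6 3 Nc3 (etaTable.getD 3 []) = true := by decide +kernel

theorem etaProps3 : etaPropsCheck chevE6 3 (etaTable.getD 3 []) = true := by decide +kernel

theorem eta4_0_24 : EtaRange chevE6 12 nLits 4 (etaTable.getD 4 []) 0 24 := by decide +kernel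

theorem eta4_24_48 : EtaRange chevE6 12 nLits 4 (etaTable.getD 4 []) 24 48 := by decide +kernel

theorem eta4_48_72 : EtaRange chevE6 12 nLits 4 (etaTable.getD 4 []) 48 72 := by decide +kernel

theorem eta4 : EtaRange chevE6 12 nLits 4 (etaTable.getD 4 []) 0 72 := etaRange_trans chevE6 12 nLits 4 _ (etaRange_trans chevE6 12 nLits 4 _ (eta4_0_24) eta4_24_48) eta4_48_72

theorem mono4 : monoCheck chevE6 4 Nc4 (etaTable.getD 4 []) = true := by decide +kernel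

theorem etaProps4 : etaPropsCheck chevE6 4 (etaTable.getD 4 []) = true := by decide +kernel

theorem eta5_0_24 : EtaRange chevE6 12 nLits 5 (etaTable.getD 5 []) 0 24 := by decide +kernel

theorem eta5_24_48 : EtaRange chevE6 12 nLits 5 (etaTable.getD 5 []) 24 48 := by decide +kernel

theorem eta5_48_72 : EtaRange chevE6 12 nLits 5 (etaTable.getD 5 []) 48 72 := by decide +kernel

theorem eta5 : EtaRange chevE6 12 nLits 5 (etaTable.getD 5 []) 0 72 := etaRange_trans chevE6 12 nLits 5 _ (etaRange_trans chevE6 12 nLits 5 _ (eta5_0_24) eta5_24_48) eta5_48_72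

theorem mono5 : monoCheck chevE6 5 Nc5 (etaTable.getD 5 []) = true := by decide +kernel

theorem etaProps5 : etaPropsCheck chevE6 5 (etaTable.getD 5 []) = true := by decide +kernel

theorem etaTableOK : EtaTableOK chevE6 12 nLits etaTable := by
  intro i hi
  have h : chevE6.rank = 6 := rfl
  rw [h] at hi
  interval_cases i
  · exact eta0
  · exact eta1
  · exact eta2
  · exact eta3
  · exact eta4
  · exact eta5

theorem monoOK : ∀ i < chevE6.rank, monoCheck chevE6 i (nLits.getD i ([], [])).1 (etaTable.getD i []) = true ∧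
    etaPropsCheck chevE6 i (etaTable.getD i []) = true := by
  intro i hi
  have h : chevE6.rank = 6 := rfl
  rw [h] at hi
  interval_cases i
  · exact ⟨mono0, etaProps0⟩
  · exact ⟨mono1, etaProps1⟩
  · exact ⟨mono2, etaProps2⟩
  · exact ⟨mono3, etaProps3⟩
  · exact ⟨mono4, etaProps4⟩
  · exact ⟨mono5, etaProps5⟩

end Cfsg.Agent.Lib.Helper36_ChevDataE6Eta
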