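import Cfsg.Agent.Lib.Helper36_ChevH
import Cfsg.Agent.Lib.Helper36_ChevDataE6

set_option autoImplicit false
set_option Elab.async false

/-! Type E6: the table checks for `n_p(c) = n_p(1) diag(c^{-A})` and `h_p(c) = diag(c^A)`, `p` fundamental. Generated file. -/

namespace Cfsg.Agent.Lib.Helper36_ChevDataE6H

open Cfsg Cfsg.Lie Cfsg.Agent.Lib.Helper36_ChevSparse Cfsg.Agent.Lib.Helper36_ChevCoeff
  Cfsg.Agent.Lib.Helper36_ChevCoo Cfsg.Agent.Lib.Helper36_ChevAdd Cfsg.Agent.Lib.Helper36_ChevIdx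
  Cfsg.Agent.Lib.Helper36_ChevWeyl Cfsg.Agent.Lib.Helper36_ChevGen Cfsg.Agent.Lib.Helper36_ChevH
  Cfsg.Agent.Lib.Helper36_ChevDataE6

theorem nchk0 : nCheck chevE6 12 0 Nc0 = true := by decide +kernel

theorem hchk0 : hCheck chevE6 12 0 Nc0 = true := by decide +kernel

theorem nchk1 : nCheck chevE6 12 1 Nc1 = true := by decide +kernel

theorem hchk1 : hCheck chevE6 12 1 Nc1 = true := by decide +kernel

theorem nchk2 : nCheck chevE6 12 2 Nc2 = true := by decide +kernel

theorem hchk2 : hCheck chevE6 12 2 Nc2 = true := by decide +kernel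

theorem nchk3 : nCheck chevE6 12 3 Nc3 = true := by decide +kernel

theorem hchk3 : hCheck chevE6 12 3 Nc3 = true := by decide +kernel

theorem nchk4 : nCheck chevE6 12 4 Nc4 = true := by decide +kernel

theorem hchk4 : hCheck chevE6 12 4 Nc4 = true := by decide +kernel

theorem nchk5 : nCheck chevE6 12 5 Nc5 = true := by decide +kernel

theorem hchk5 : hCheck chevE6 12 5 Nc5 = true := by decide +kernel

theorem hOK : ∀ i < chevE6.rank, nCheck chevE6 12 i (nLits.getD i ([], [])).1 = true ∧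
    hCheck chevE6 12 i (nLits.getD i ([], [])).1 = true := by
  intro i hi
  have h : chevE6.rank = 6 := rfl
  rw [h] at hi
  interval_cases i
  · exact ⟨nchk0, hchk0⟩
  · exact ⟨nchk1, hchk1⟩
  · exact ⟨nchk2, hchk2⟩
  · exact ⟨nchk3, hchk3⟩
  · exact ⟨nchk4, hchk4⟩
  · exact ⟨nchk5, hchk5⟩

end Cfsg.Agent.Lib.Helper36_ChevDataE6H
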