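import Cfsg.Agent.Lib.Helper36_ChevTorus
import Cfsg.Agent.Lib.Helper36_ChevDataE6CA

set_option autoImplicit false
set_option Elab.async false

/-! Type E6: the fundamental reflections are involutions on the root indices and act on the Cartan integers by `A_{p_j, w_i s} = A_{p_j, s} - A_{p_i, s} A_{p_j, p_i}` (table check). Generated file. -/

namespace Cfsg.Agent.Lib.Helper36_ChevDataE6RC

open Cfsg Cfsg.Lie Cfsg.Agent.Lib.Helper36_ChevHConj Cfsg.Agent.Lib.Helper36_ChevTorus
  Cfsg.Agent.Lib.Helper36_ChevDataE6CA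

theorem rc0_0_72 : ReflCartanRange chevE6 cartTbl 0 0 72 := by decide +kernel

theorem rc0 : ReflCartanRange chevE6 cartTbl 0 0 72 := rc0_0_72

theorem rc1_0_72 : ReflCartanRange chevE6 cartTbl 1 0 72 := by decide +kernel

theorem rc1 : ReflCartanRange chevE6 cartTbl 1 0 72 := rc1_0_72

theorem rc2_0_72 : ReflCartanRange chevE6 cartTbl 2 0 72 := by decide +kernel

theorem rc2 : ReflCartanRange chevE6 cartTbl 2 0 72 := rc2_0_72

theorem rc3_0_72 : ReflCartanRange chevE6 cartTbl 3 0 72 := by decide +kernel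

theorem rc3 : ReflCartanRange chevE6 cartTbl 3 0 72 := rc3_0_72

theorem rc4_0_72 : ReflCartanRange chevE6 cartTbl 4 0 72 := by decide +kernel

theorem rc4 : ReflCartanRange chevE6 cartTbl 4 0 72 := rc4_0_72

theorem rc5_0_72 : ReflCartanRange chevE6 cartTbl 5 0 72 := by decide +kernel

theorem rc5 : ReflCartanRange chevE6 cartTbl 5 0 72 := rc5_0_72

theorem reflCartanOK : ReflCartanOK chevE6 := by
  refine ⟨cartTbl, tblOK, ?_⟩
  intro i hi
  have h : chevE6.rank = 6 := rfl
  rw [h] at hi
  interval_cases i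
  · exact rc0
  · exact rc1
  · exact rc2
  · exact rc3
  · exact rc4
  · exact rc5

end Cfsg.Agent.Lib.Helper36_ChevDataE6RC
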