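import Cfsg.Agent.Lib.Helper36_ChevAdd
import Cfsg.Prelude.Def_ChevE7

set_option autoImplicit false
set_option Elab.async false

/-! Additivity relations for the roots 84 ≤ r < 126 of type E7. Generated file. -/

namespace Cfsg.Agent.Lib.Helper36_ChevDataE7Add2

open Cfsg Cfsg.Lie Cfsg.Agent.Lib.Helper36_ChevAdd

theorem addOK_84_105 : AddOKRange chevE7 84 105 := by decide +kernel

theorem addOK_105_126 : AddOKRange chevE7 105 126 := by decide +kernel

theorem addOK : AddOKRange chevE7 84 126 := addOKRange_trans chevE7 (addOK_84_105) addOK_105_126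

end Cfsg.Agent.Lib.Helper36_ChevDataE7Add2
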