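import Cfsg.Agent.Lib.Helper36_ChevDataE7Add0
import Cfsg.Agent.Lib.Helper36_ChevDataE7Add1
import Cfsg.Agent.Lib.Helper36_ChevDataE7Add2

set_option autoImplicit false


/-! Chain lengths and additivity relations for all roots of type E7, assembled from the pieces. Generated file. -/

namespace Cfsg.Agent.Lib.Helper36_ChevDataE7Add

open Cfsg Cfsg.Lie Cfsg.Agent.Lib.Helper36_ChevCoeff Cfsg.Agent.Lib.Helper36_ChevAdd

theorem lenOK : ChainLenOK chevE7 := by decide +kernel

theorem addOK : AddOK chevE7 := by
  apply addOK_of_range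
  have h : chevE7.nroots = 126 := rfl
  rw [h]
  exact addOKRange_trans chevE7 (addOKRange_trans chevE7 (Helper36_ChevDataE7Add0.addOK) Helper36_ChevDataE7Add1.addOK) Helper36_ChevDataE7Add2.addOK

end Cfsg.Agent.Lib.Helper36_ChevDataE7Add
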