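import Cfsg.Agent.Lib.Helper36_ChevAdd
import Cfsg.Prelude.Def_ChevE7

set_option autoImplicit false
set_option Elab.async false

/-! Additivity relations for the roots 0 ≤ r < 42 of type E7. Generated file. -/

namespace Cfsg.Agent.Lib.Helper36_ChevDataE7Add0

open Cfsg Cfsg.Lie Cfsg.Agent.Lib.Helper36_ChevAdd

theorem addOK_0_21 : AddOKRange chevE7 0 21 := by decide +kernel

theorem addOK_21_42 : AddOKRange chevE7 21 42 := by decide +kernel

theorem addOK : AddOKRange chevE7 0 42 := addOKRange_trans chevE7 (addOK_0_21) addOK_21_42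

end Cfsg.Agent.Lib.Helper36_ChevDataE7Add0
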