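import Cfsg.Agent.Lib.Helper36_ChevDataE7Lits

set_option autoImplicit false
set_option Elab.async false

/-! Check of the literal matrices of `n_i` for i in [0, 1, 2, 3], type E7. Generated file. -/

namespace Cfsg.Agent.Lib.Helper36_ChevDataE7N0

open Cfsg Cfsg.Lie Cfsg.Agent.Lib.Helper36_ChevSparse Cfsg.Agent.Lib.Helper36_ChevCoeff
  Cfsg.Agent.Lib.Helper36_ChevCoo Cfsg.Agent.Lib.Helper36_ChevAdd Cfsg.Agent.Lib.Helper36_ChevIdx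
  Cfsg.Agent.Lib.Helper36_ChevWeyl Cfsg.Agent.Lib.Helper36_ChevGen

/-- Literal table: the matrix of `x_{p_i}(1)` by columns, `i = 0`. -/
def X1c0 : Idxd :=
  [[(0, 1), (100, -2)], [(1, 1)], [(2, 1), (100, 1)], [(3, 1)], [(4, 1)], [(5, 1)], [(6, 1)], [(7, 1), (8, -1)], [(8, 1)], [(9, 1)], [(10, 1)], [(11, 1)], [(12, 1)], [(13, 1)], [(14, 1)], [(15, 1)], [(16, 1)], [(17, 1)], [(18, 1)], [(19, 1)], [(20, 1)], [(21, 1)], [(22, 1)], [(23, 1)], [(24, 1), (40, 1)], [(25, 1), (41, 1)], [(26, 1), (42, 1)], [(27, 1), (43, 1)], [(28, 1), (44, 1)], [(29, 1), (45, 1)], [(30, 1), (46, 1)], [(31, 1), (47, 1)], [(32, 1), (48, 1)], [(33, 1), (49, 1)], [(34, 1), (55, 1)], [(35, 1), (56, 1)], [(36, 1), (57, 1)], [(37, 1), (58, 1)], [(38, 1), (59, 1)], [(0, 1), (39, 1), (100, -1)], [(40, 1)], [(41, 1)], [(42, 1)], [(43, 1)], [(44, 1)], [(45, 1)], [(46, 1)], [(47, 1)], [(48,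 1)], [(49, 1)], [(50, 1)], [(51, 1)], [(52, 1)], [(53, 1)], [(54, 1)], [(55, 1)], [(56, 1)], [(57, 1)], [(58, 1)], [(59, 1)], [(60, 1)], [(61, 1)], [(62, 1)], [(63, 1)], [(64, 1)], [(65, 1)], [(66, 1)], [(67, 1)], [(68, 1)], [(69, 1)], [(70, 1)], [(71, 1)], [(72, 1)], [(73, 1)], [(74, 1)], [(75, 1)], [(76, 1)], [(77, 1)], [(78, 1)], [(79, 1)], [(80, 1), (101, -1)], [(81, 1), (102, -1)], [(82, 1), (103, -1)], [(83, 1), (104, -1)], [(84, 1), (105, -1)], [(85, 1)], [(86, 1)], [(87, 1)], [(88, 1)], [(89, 1)], [(90, 1), (106, -1)], [(91, 1), (107, -1)], [(92, 1), (108, -1)], [(93, 1), (109, -1)], [(94, 1), (110, -1)], [(95, 1), (111, -1)], [(96, 1), (112, -1)], [(97, 1), (113, -1)], [(98, 1), (114, -1)], [(99, 1), (115, -1)], [(100, 1)], [(101, 1)], [(102, 1)], [(103, 1)], [(104, 1)], [(105, 1)], [(106, 1)], [(107, 1)], [(108, 1)], [(109, 1)], [(110, 1)], [(111,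 1)], [(112, 1)], [(113, 1)], [(114, 1)], [(115, 1)], [(116, 1)], [(117, 1)], [(118, 1)], [(119, 1)], [(120, 1)], [(121, 1)], [(122, 1)], [(123, 1)], [(124, 1)], [(125, 1)], [(126, 1)], [(127, 1)], [(128, 1)], [(129, 1)], [(130, 1)], [(131, 1), (132, 1)], [(132, 1)]]

/-- Literal table: the matrix of `x_{-p_i}(-1)` by columns, `i = 0`. -/
def X2c0 : Idxd :=
  [[(0, 1), (39, -2)], [(1, 1)], [(2, 1), (39, 1)], [(3, 1)], [(4, 1)], [(5, 1)], [(6, 1)], [(7, 1)], [(7, 1), (8, 1)], [(9, 1)], [(10, 1)], [(11, 1)], [(12, 1)], [(13, 1)], [(14, 1)], [(15, 1)], [(16, 1)], [(17, 1)], [(18, 1)], [(19, 1)], [(20, 1)], [(21, 1)], [(22, 1)], [(23, 1)], [(24, 1)], [(25, 1)], [(26, 1)], [(27, 1)], [(28, 1)], [(29, 1)], [(30, 1)], [(31, 1)], [(32, 1)], [(33, 1)], [(34, 1)], [(35, 1)], [(36, 1)], [(37, 1)], [(38, 1)], [(39, 1)], [(24, -1), (40, 1)], [(25, -1), (41, 1)], [(26,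 -1), (42, 1)], [(27, -1), (43, 1)], [(28, -1), (44, 1)], [(29, -1), (45, 1)], [(30, -1), (46, 1)], [(31, -1), (47, 1)], [(32, -1), (48, 1)], [(33, -1), (49, 1)], [(50, 1)], [(51, 1)], [(52, 1)], [(53, 1)], [(54, 1)], [(34, -1), (55, 1)], [(35, -1), (56, 1)], [(36, -1), (57, 1)], [(37, -1), (58, 1)], [(38, -1), (59, 1)], [(60, 1)], [(61, 1)], [(62, 1)], [(63, 1)], [(64, 1)], [(65, 1)], [(66, 1)], [(67, 1)], [(68, 1)], [(69, 1)], [(70, 1)], [(71, 1)], [(72, 1)], [(73, 1)], [(74, 1)], [(75, 1)], [(76, 1)], [(77, 1)], [(78, 1)], [(79, 1)], [(80, 1)], [(81, 1)], [(82, 1)], [(83, 1)], [(84, 1)], [(85, 1)], [(86, 1)], [(87, 1)], [(88, 1)], [(89, 1)], [(90, 1)], [(91, 1)], [(92, 1)], [(93, 1)], [(94, 1)], [(95, 1)], [(96, 1)], [(97, 1)], [(98, 1)], [(99, 1)], [(0, 1), (39, -1), (100, 1)], [(80, 1), (101, 1)], [(81, 1), (102, 1)], [(82, 1), (103, 1)], [(83, 1), (104,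 1)], [(84, 1), (105, 1)], [(90, 1), (106, 1)], [(91, 1), (107, 1)], [(92, 1), (108, 1)], [(93, 1), (109, 1)], [(94, 1), (110, 1)], [(95, 1), (111, 1)], [(96, 1), (112, 1)], [(97, 1), (113, 1)], [(98, 1), (114, 1)], [(99, 1), (115, 1)], [(116, 1)], [(117, 1)], [(118, 1)], [(119, 1)], [(120, 1)], [(121, 1)], [(122, 1)], [(123, 1)], [(124, 1)], [(125, 1)], [(126, 1)], [(127, 1)], [(128, 1)], [(129, 1)], [(130, 1)], [(131, 1)], [(131, -1), (132, 1)]]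

theorem nLit0 : NLitGood chevE7 0 Helper36_ChevDataE7Lits.Nc0 Helper36_ChevDataE7Lits.Nr0 :=
  nLitGood_of_check2 chevE7 12 0 X1c0 X2c0 Helper36_ChevDataE7Lits.Nc0 Helper36_ChevDataE7Lits.Nr0 (by decide +kernel)

/-- Literal table: the matrix of `x_{p_i}(1)` by columns, `i = 1`. -/
def X1c1 : Idxd :=
  [[(0, 1)], [(1, 1), (85, -2)], [(2, 1)], [(3, 1), (85, 1)], [(4, 1)], [(5, 1)], [(6, 1)], [(7, 1)], [(8, 1)], [(9, 1)], [(10, 1), (14, -1)], [(11, 1), (15, -1)], [(12, 1), (16, -1)], [(13, 1), (17, -1)], [(14, 1)], [(15, 1)], [(16, 1)], [(17, 1)], [(18, 1)], [(19, 1)], [(20, 1)], [(21, 1)], [(22, 1)], [(23, 1)], [(24, 1)], [(25, 1)], [(26, 1)], [(27, 1)], [(28, 1)], [(29, 1)], [(30, 1), (34, -1)], [(31, 1), (35, -1)], [(32, 1), (36, -1)], [(33, 1), (37, -1)], [(34, 1)], [(35, 1)], [(36, 1)], [(37, 1)], [(38, 1)], [(39, 1)], [(40, 1)], [(41, 1)], [(42, 1)],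 [(43, 1)], [(44, 1)], [(45, 1)], [(46, 1), (55, -1)], [(47, 1), (56, -1)], [(48, 1), (57, -1)], [(49, 1), (58, -1)], [(50, 1), (60, 1)], [(51, 1), (61, 1)], [(52, 1), (62, 1)], [(53, 1), (63, 1)], [(1, 1), (54, 1), (85, -1)], [(55, 1)], [(56, 1)], [(57, 1)], [(58, 1)], [(59, 1)], [(60, 1)], [(61, 1)], [(62, 1)], [(63, 1)], [(64, 1)], [(65, 1)], [(66, 1)], [(67, 1)], [(68, 1)], [(69, 1)], [(70, 1)], [(71, 1)], [(72, 1)], [(73, 1)], [(74, 1)], [(75, 1)], [(76, 1), (86, -1)], [(77, 1), (87, -1)], [(78, 1), (88, -1)], [(79, 1), (89, -1)], [(80, 1)], [(81, 1), (90, 1)], [(82, 1), (91, 1)], [(83, 1), (92, 1)], [(84, 1), (93, 1)], [(85, 1)], [(86, 1)], [(87, 1)], [(88, 1)], [(89, 1)], [(90, 1)], [(91, 1)], [(92, 1)], [(93, 1)], [(94, 1)], [(95, 1)], [(96, 1)], [(97, 1)], [(98, 1)], [(99, 1)], [(100, 1)], [(101, 1)], [(102, 1), (106, 1)], [(103, 1), (107, 1)], [(104,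 1), (108, 1)], [(105, 1), (109, 1)], [(106, 1)], [(107, 1)], [(108, 1)], [(109, 1)], [(110, 1)], [(111, 1)], [(112, 1)], [(113, 1)], [(114, 1)], [(115, 1)], [(116, 1)], [(117, 1)], [(118, 1)], [(119, 1)], [(120, 1)], [(121, 1)], [(122, 1), (126, 1)], [(123, 1), (127, 1)], [(124, 1), (128, 1)], [(125, 1), (129, 1)], [(126, 1)], [(127, 1)], [(128, 1)], [(129, 1)], [(130, 1)], [(131, 1)], [(132, 1)]]

/-- Literal table: the matrix of `x_{-p_i}(-1)` by columns, `i = 1`. -/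
def X2c1 : Idxd :=
  [[(0, 1)], [(1, 1), (54, -2)], [(2, 1)], [(3, 1), (54, 1)], [(4, 1)], [(5, 1)], [(6, 1)], [(7, 1)], [(8, 1)], [(9, 1)], [(10, 1)], [(11, 1)], [(12, 1)], [(13, 1)], [(10, 1), (14, 1)], [(11, 1), (15, 1)], [(12, 1), (16, 1)], [(13, 1), (17, 1)], [(18, 1)], [(19, 1)], [(20, 1)], [(21, 1)], [(22, 1)], [(23, 1)], [(24, 1)], [(25, 1)], [(26, 1)], [(27, 1)], [(28, 1)], [(29, 1)], [(30, 1)], [(31, 1)], [(32, 1)], [(33, 1)], [(30, 1), (34, 1)], [(31, 1), (35, 1)], [(32, 1), (36, 1)], [(33, 1), (37, 1)], [(38, 1)], [(39, 1)], [(40, 1)], [(41, 1)], [(42, 1)], [(43, 1)], [(44, 1)], [(45, 1)], [(46, 1)], [(47, 1)], [(48, 1)], [(49, 1)], [(50, 1)], [(51, 1)], [(52, 1)], [(53, 1)], [(54, 1)], [(46, 1), (55, 1)], [(47, 1), (56, 1)], [(48, 1), (57, 1)], [(49, 1), (58, 1)], [(59, 1)], [(50, -1), (60, 1)], [(51, -1), (61, 1)], [(52, -1), (62, 1)], [(53,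 -1), (63, 1)], [(64, 1)], [(65, 1)], [(66, 1)], [(67, 1)], [(68, 1)], [(69, 1)], [(70, 1)], [(71, 1)], [(72, 1)], [(73, 1)], [(74, 1)], [(75, 1)], [(76, 1)], [(77, 1)], [(78, 1)], [(79, 1)], [(80, 1)], [(81, 1)], [(82, 1)], [(83, 1)], [(84, 1)], [(1, 1), (54, -1), (85, 1)], [(76, 1), (86, 1)], [(77, 1), (87, 1)], [(78, 1), (88, 1)], [(79, 1), (89, 1)], [(81, -1), (90, 1)], [(82, -1), (91, 1)], [(83, -1), (92, 1)], [(84, -1), (93, 1)], [(94, 1)], [(95, 1)], [(96, 1)], [(97, 1)], [(98, 1)], [(99, 1)], [(100, 1)], [(101, 1)], [(102, 1)], [(103, 1)], [(104, 1)], [(105, 1)], [(102, -1), (106, 1)], [(103, -1), (107, 1)], [(104, -1), (108, 1)], [(105, -1), (109, 1)], [(110, 1)], [(111, 1)], [(112, 1)], [(113, 1)], [(114, 1)], [(115, 1)], [(116, 1)], [(117, 1)], [(118, 1)], [(119, 1)], [(120, 1)], [(121, 1)], [(122, 1)], [(123, 1)], [(124, 1)], [(125, 1)], [(122,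 -1), (126, 1)], [(123, -1), (127, 1)], [(124, -1), (128, 1)], [(125, -1), (129, 1)], [(130, 1)], [(131, 1)], [(132, 1)]]

theorem nLit1 : NLitGood chevE7 1 Helper36_ChevDataE7Lits.Nc1 Helper36_ChevDataE7Lits.Nr1 :=
  nLitGood_of_check2 chevE7 12 1 X1c1 X2c1 Helper36_ChevDataE7Lits.Nc1 Helper36_ChevDataE7Lits.Nr1 (by decide +kernel)

/-- Literal table: the matrix of `x_{p_i}(1)` by columns, `i = 2`. -/
def X1c2 : Idxd :=
  [[(0, 1), (80, 1)], [(1, 1)], [(2, 1), (80, -2)], [(3, 1), (80, 1)], [(4, 1)], [(5, 1)], [(6, 1)], [(7, 1)], [(8, 1), (9, -1)], [(9, 1)], [(10, 1)], [(11, 1)], [(12, 1)], [(13, 1)], [(14, 1)], [(15, 1)], [(16, 1)], [(17, 1)], [(18, 1), (24, -1)], [(19, 1), (25, -1)], [(20, 1), (26, -1)], [(21, 1), (27, -1)], [(22, 1), (28, -1)], [(23, 1), (29, -1)], [(24, 1)], [(25, 1)], [(26, 1)], [(27, 1)], [(28, 1)], [(29, 1)], [(30, 1)], [(31, 1)], [(32,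 1)], [(33, 1)], [(34, 1)], [(35, 1)], [(36, 1)], [(37, 1)], [(38, 1), (39, -1)], [(39, 1)], [(40, 1)], [(41, 1)], [(42, 1)], [(43, 1)], [(44, 1)], [(45, 1)], [(46, 1), (50, -1)], [(47, 1), (51, -1)], [(48, 1), (52, -1)], [(49, 1), (53, -1)], [(50, 1)], [(51, 1)], [(52, 1)], [(53, 1)], [(54, 1)], [(55, 1), (60, 1)], [(56, 1), (61, 1)], [(57, 1), (62, 1)], [(58, 1), (63, 1)], [(2, 1), (59, 1), (80, -1)], [(60, 1)], [(61, 1)], [(62, 1)], [(63, 1)], [(64, 1)], [(65, 1)], [(66, 1)], [(67, 1)], [(68, 1)], [(69, 1)], [(70, 1)], [(71, 1)], [(72, 1)], [(73, 1)], [(74, 1)], [(75, 1)], [(76, 1), (81, -1)], [(77, 1), (82, -1)], [(78, 1), (83, -1)], [(79, 1), (84, -1)], [(80, 1)], [(81, 1)], [(82, 1)], [(83, 1)], [(84, 1)], [(85, 1)], [(86, 1), (90, 1)], [(87, 1), (91, 1)], [(88, 1), (92, 1)], [(89, 1), (93, 1)], [(90, 1)], [(91, 1)], [(92, 1)], [(93, 1)], [(94, 1)],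 [(95, 1)], [(96, 1)], [(97, 1)], [(98, 1)], [(99, 1)], [(100, 1), (101, 1)], [(101, 1)], [(102, 1)], [(103, 1)], [(104, 1)], [(105, 1)], [(106, 1)], [(107, 1)], [(108, 1)], [(109, 1)], [(110, 1), (116, 1)], [(111, 1), (117, 1)], [(112, 1), (118, 1)], [(113, 1), (119, 1)], [(114, 1), (120, 1)], [(115, 1), (121, 1)], [(116, 1)], [(117, 1)], [(118, 1)], [(119, 1)], [(120, 1)], [(121, 1)], [(122, 1)], [(123, 1)], [(124, 1)], [(125, 1)], [(126, 1)], [(127, 1)], [(128, 1)], [(129, 1)], [(130, 1), (131, 1)], [(131, 1)], [(132, 1)]]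

/-- Literal table: the matrix of `x_{-p_i}(-1)` by columns, `i = 2`. -/
def X2c2 : Idxd :=
  [[(0, 1), (59, 1)], [(1, 1)], [(2, 1), (59, -2)], [(3, 1), (59, 1)], [(4, 1)], [(5, 1)], [(6, 1)], [(7, 1)], [(8, 1)], [(8, 1), (9, 1)], [(10, 1)], [(11, 1)], [(12, 1)], [(13, 1)], [(14, 1)], [(15, 1)], [(16, 1)], [(17, 1)], [(18, 1)], [(19, 1)], [(20, 1)], [(21, 1)], [(22, 1)], [(23, 1)], [(18, 1), (24, 1)], [(19, 1), (25, 1)], [(20, 1), (26, 1)], [(21, 1), (27, 1)], [(22, 1), (28, 1)], [(23, 1), (29, 1)], [(30, 1)], [(31, 1)], [(32, 1)], [(33, 1)], [(34, 1)], [(35, 1)], [(36, 1)], [(37, 1)], [(38, 1)], [(38, 1), (39, 1)], [(40, 1)], [(41, 1)], [(42, 1)], [(43, 1)], [(44, 1)], [(45, 1)], [(46, 1)], [(47, 1)], [(48, 1)], [(49, 1)], [(46, 1), (50, 1)], [(47, 1), (51, 1)], [(48, 1), (52, 1)], [(49, 1), (53, 1)], [(54, 1)], [(55, 1)], [(56, 1)], [(57, 1)], [(58, 1)],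 [(59, 1)], [(55, -1), (60, 1)], [(56, -1), (61, 1)], [(57, -1), (62, 1)], [(58, -1), (63, 1)], [(64, 1)], [(65, 1)], [(66, 1)], [(67, 1)], [(68, 1)], [(69, 1)], [(70, 1)], [(71, 1)], [(72, 1)], [(73, 1)], [(74, 1)], [(75, 1)], [(76, 1)], [(77, 1)], [(78, 1)], [(79, 1)], [(2, 1), (59, -1), (80, 1)], [(76, 1), (81, 1)], [(77, 1), (82, 1)], [(78, 1), (83, 1)], [(79, 1), (84, 1)], [(85, 1)], [(86, 1)], [(87, 1)], [(88, 1)], [(89, 1)], [(86, -1), (90, 1)], [(87, -1), (91, 1)], [(88, -1), (92, 1)], [(89, -1), (93, 1)], [(94, 1)], [(95, 1)], [(96, 1)], [(97, 1)], [(98, 1)], [(99, 1)], [(100, 1)], [(100, -1), (101, 1)], [(102, 1)], [(103, 1)], [(104, 1)], [(105, 1)], [(106, 1)], [(107, 1)], [(108, 1)], [(109, 1)], [(110, 1)], [(111, 1)], [(112, 1)], [(113, 1)], [(114, 1)], [(115, 1)], [(110, -1), (116, 1)], [(111, -1), (117, 1)], [(112, -1), (118, 1)], [(113, -1),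 (119, 1)], [(114, -1), (120, 1)], [(115, -1), (121, 1)], [(122, 1)], [(123, 1)], [(124, 1)], [(125, 1)], [(126, 1)], [(127, 1)], [(128, 1)], [(129, 1)], [(130, 1)], [(130, -1), (131, 1)], [(132, 1)]]

theorem nLit2 : NLitGood chevE7 2 Helper36_ChevDataE7Lits.Nc2 Helper36_ChevDataE7Lits.Nr2 :=
  nLitGood_of_check2 chevE7 12 2 X1c2 X2c2 Helper36_ChevDataE7Lits.Nc2 Helper36_ChevDataE7Lits.Nr2 (by decide +kernel)

/-- Literal table: the matrix of `x_{p_i}(1)` by columns, `i = 3`. -/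
def X1c3 : Idxd :=
  [[(0, 1)], [(1, 1), (76, 1)], [(2, 1), (76, 1)], [(3, 1), (76, -2)], [(4, 1), (76, 1)], [(5, 1)], [(6, 1)], [(7, 1)], [(8, 1)], [(9, 1), (10, -1)], [(10, 1)], [(11, 1)], [(12, 1)], [(13, 1)], [(14, 1)], [(15, 1), (18, -1)], [(16, 1), (19, -1)], [(17, 1), (20, -1)], [(18, 1)], [(19, 1)], [(20, 1)], [(21, 1)], [(22, 1)], [(23, 1)], [(24, 1)], [(25, 1)], [(26, 1)], [(27, 1), (30, -1)], [(28, 1), (31, -1)], [(29, 1), (32, -1)], [(30, 1)], [(31, 1)], [(32, 1)], [(33, 1)], [(34, 1)], [(35, 1)], [(36, 1)], [(37, 1), (38, -1)], [(38, 1)], [(39, 1)], [(40, 1)], [(41, 1)], [(42, 1)], [(43, 1), (46, -1)], [(44, 1), (47, -1)], [(45, 1), (48, -1)], [(46, 1)], [(47, 1)], [(48, 1)], [(49, 1)], [(50, 1)], [(51, 1)], [(52, 1)], [(53, 1), (54, -1)], [(54, 1)], [(55, 1)], [(56, 1)], [(57, 1)], [(58, 1), (59, -1)], [(59, 1)], [(60, 1), (64, 1)], [(61, 1),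 (65, 1)], [(62, 1), (66, 1)], [(3, 1), (63, 1), (76, -1)], [(64, 1)], [(65, 1)], [(66, 1)], [(67, 1)], [(68, 1)], [(69, 1)], [(70, 1)], [(71, 1)], [(72, 1)], [(73, 1), (77, -1)], [(74, 1), (78, -1)], [(75, 1), (79, -1)], [(76, 1)], [(77, 1)], [(78, 1)], [(79, 1)], [(80, 1), (81, 1)], [(81, 1)], [(82, 1)], [(83, 1)], [(84, 1)], [(85, 1), (86, 1)], [(86, 1)], [(87, 1)], [(88, 1)], [(89, 1)], [(90, 1)], [(91, 1), (94, 1)], [(92, 1), (95, 1)], [(93, 1), (96, 1)], [(94, 1)], [(95, 1)], [(96, 1)], [(97, 1)], [(98, 1)], [(99, 1)], [(100, 1)], [(101, 1), (102, 1)], [(102, 1)], [(103, 1)], [(104, 1)], [(105, 1)], [(106, 1)], [(107, 1), (110, 1)], [(108, 1), (111, 1)], [(109, 1), (112, 1)], [(110, 1)], [(111, 1)], [(112, 1)], [(113, 1)], [(114, 1)], [(115, 1)], [(116, 1)], [(117, 1)], [(118, 1)], [(119, 1), (122, 1)], [(120, 1), (123, 1)], [(121, 1), (124, 1)], [(122,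 1)], [(123, 1)], [(124, 1)], [(125, 1)], [(126, 1)], [(127, 1)], [(128, 1)], [(129, 1), (130, 1)], [(130, 1)], [(131, 1)], [(132, 1)]]

/-- Literal table: the matrix of `x_{-p_i}(-1)` by columns, `i = 3`. -/
def X2c3 : Idxd :=
  [[(0, 1)], [(1, 1), (63, 1)], [(2, 1), (63, 1)], [(3, 1), (63, -2)], [(4, 1), (63, 1)], [(5, 1)], [(6, 1)], [(7, 1)], [(8, 1)], [(9, 1)], [(9, 1), (10, 1)], [(11, 1)], [(12, 1)], [(13, 1)], [(14, 1)], [(15, 1)], [(16, 1)], [(17, 1)], [(15, 1), (18, 1)], [(16, 1), (19, 1)], [(17, 1), (20, 1)], [(21, 1)], [(22, 1)], [(23, 1)], [(24, 1)], [(25, 1)], [(26, 1)], [(27, 1)], [(28, 1)], [(29, 1)], [(27, 1), (30, 1)], [(28, 1), (31, 1)], [(29, 1), (32, 1)], [(33, 1)], [(34, 1)], [(35, 1)], [(36, 1)], [(37, 1)], [(37, 1), (38, 1)], [(39, 1)], [(40, 1)], [(41, 1)], [(42, 1)], [(43, 1)], [(44, 1)], [(45, 1)], [(43, 1), (46, 1)], [(44, 1), (47,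 1)], [(45, 1), (48, 1)], [(49, 1)], [(50, 1)], [(51, 1)], [(52, 1)], [(53, 1)], [(53, 1), (54, 1)], [(55, 1)], [(56, 1)], [(57, 1)], [(58, 1)], [(58, 1), (59, 1)], [(60, 1)], [(61, 1)], [(62, 1)], [(63, 1)], [(60, -1), (64, 1)], [(61, -1), (65, 1)], [(62, -1), (66, 1)], [(67, 1)], [(68, 1)], [(69, 1)], [(70, 1)], [(71, 1)], [(72, 1)], [(73, 1)], [(74, 1)], [(75, 1)], [(3, 1), (63, -1), (76, 1)], [(73, 1), (77, 1)], [(74, 1), (78, 1)], [(75, 1), (79, 1)], [(80, 1)], [(80, -1), (81, 1)], [(82, 1)], [(83, 1)], [(84, 1)], [(85, 1)], [(85, -1), (86, 1)], [(87, 1)], [(88, 1)], [(89, 1)], [(90, 1)], [(91, 1)], [(92, 1)], [(93, 1)], [(91, -1), (94, 1)], [(92, -1), (95, 1)], [(93, -1), (96, 1)], [(97, 1)], [(98, 1)], [(99, 1)], [(100, 1)], [(101, 1)], [(101, -1), (102, 1)], [(103, 1)], [(104, 1)], [(105, 1)], [(106, 1)], [(107, 1)], [(108, 1)], [(109, 1)], [(107,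 -1), (110, 1)], [(108, -1), (111, 1)], [(109, -1), (112, 1)], [(113, 1)], [(114, 1)], [(115, 1)], [(116, 1)], [(117, 1)], [(118, 1)], [(119, 1)], [(120, 1)], [(121, 1)], [(119, -1), (122, 1)], [(120, -1), (123, 1)], [(121, -1), (124, 1)], [(125, 1)], [(126, 1)], [(127, 1)], [(128, 1)], [(129, 1)], [(129, -1), (130, 1)], [(131, 1)], [(132, 1)]]

theorem nLit3 : NLitGood chevE7 3 Helper36_ChevDataE7Lits.Nc3 Helper36_ChevDataE7Lits.Nr3 :=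
  nLitGood_of_check2 chevE7 12 3 X1c3 X2c3 Helper36_ChevDataE7Lits.Nc3 Helper36_ChevDataE7Lits.Nr3 (by decide +kernel)

end Cfsg.Agent.Lib.Helper36_ChevDataE7N0
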