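import Cfsg.Agent.Lib.Helper36_ChevDataE7Lits

set_option autoImplicit false
set_option Elab.async false

/-! Check of the literal matrices of `n_i` for i in [4, 5, 6], type E7. Generated file. -/

namespace Cfsg.Agent.Lib.Helper36_ChevDataE7N1

open Cfsg Cfsg.Lie Cfsg.Agent.Lib.Helper36_ChevSparse Cfsg.Agent.Lib.Helper36_ChevCoeff
  Cfsg.Agent.Lib.Helper36_ChevCoo Cfsg.Agent.Lib.Helper36_ChevAdd Cfsg.Agent.Lib.Helper36_ChevIdx
  Cfsg.Agent.Lib.Helper36_ChevWeyl Cfsg.Agent.Lib.Helper36_ChevGen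

/-- Literal table: the matrix of `x_{p_i}(1)` by columns, `i = 4`. -/
def X1c4 : Idxd :=
  [[(0, 1)], [(1, 1)], [(2, 1)], [(3, 1), (73, 1)], [(4, 1), (73, -2)], [(5, 1), (73, 1)], [(6, 1)], [(7, 1)], [(8, 1)], [(9, 1)], [(10, 1), (11, -1)], [(11, 1)], [(12, 1)], [(13, 1)], [(14, 1), (15, -1)], [(15, 1)], [(16, 1)], [(17, 1)], [(18, 1)], [(19, 1), (21, -1)], [(20, 1), (22, -1)], [(21, 1)], [(22, 1)], [(23, 1)], [(24, 1)], [(25, 1), (27, -1)], [(26, 1), (28, -1)], [(27, 1)], [(28, 1)], [(29, 1)], [(30, 1)], [(31, 1)], [(32, 1), (33, -1)], [(33, 1)], [(34, 1)], [(35, 1)], [(36, 1), (37, -1)], [(37, 1)], [(38, 1)], [(39, 1)], [(40, 1)], [(41, 1), (43, -1)], [(42, 1), (44, -1)], [(43, 1)], [(44, 1)], [(45, 1)], [(46, 1)], [(47, 1)], [(48, 1), (49, -1)], [(49, 1)], [(50, 1)], [(51, 1)], [(52, 1), (53, -1)], [(53, 1)], [(54, 1)], [(55, 1)], [(56, 1)], [(57, 1),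 (58, -1)], [(58, 1)], [(59, 1)], [(60, 1)], [(61, 1)], [(62, 1), (63, -1)], [(63, 1)], [(64, 1), (67, 1)], [(65, 1), (68, 1)], [(4, 1), (66, 1), (73, -1)], [(67, 1)], [(68, 1)], [(69, 1)], [(70, 1)], [(71, 1), (74, -1)], [(72, 1), (75, -1)], [(73, 1)], [(74, 1)], [(75, 1)], [(76, 1), (77, 1)], [(77, 1)], [(78, 1)], [(79, 1)], [(80, 1)], [(81, 1), (82, 1)], [(82, 1)], [(83, 1)], [(84, 1)], [(85, 1)], [(86, 1), (87, 1)], [(87, 1)], [(88, 1)], [(89, 1)], [(90, 1), (91, 1)], [(91, 1)], [(92, 1)], [(93, 1)], [(94, 1)], [(95, 1), (97, 1)], [(96, 1), (98, 1)], [(97, 1)], [(98, 1)], [(99, 1)], [(100, 1)], [(101, 1)], [(102, 1), (103, 1)], [(103, 1)], [(104, 1)], [(105, 1)], [(106, 1), (107, 1)], [(107, 1)], [(108, 1)], [(109, 1)], [(110, 1)], [(111, 1), (113, 1)], [(112, 1), (114, 1)], [(113, 1)], [(114, 1)], [(115, 1)], [(116, 1)], [(117, 1), (119, 1)], [(118, 1),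 (120, 1)], [(119, 1)], [(120, 1)], [(121, 1)], [(122, 1)], [(123, 1)], [(124, 1), (125, 1)], [(125, 1)], [(126, 1)], [(127, 1)], [(128, 1), (129, 1)], [(129, 1)], [(130, 1)], [(131, 1)], [(132, 1)]]

/-- Literal table: the matrix of `x_{-p_i}(-1)` by columns, `i = 4`. -/
def X2c4 : Idxd :=
  [[(0, 1)], [(1, 1)], [(2, 1)], [(3, 1), (66, 1)], [(4, 1), (66, -2)], [(5, 1), (66, 1)], [(6, 1)], [(7, 1)], [(8, 1)], [(9, 1)], [(10, 1)], [(10, 1), (11, 1)], [(12, 1)], [(13, 1)], [(14, 1)], [(14, 1), (15, 1)], [(16, 1)], [(17, 1)], [(18, 1)], [(19, 1)], [(20, 1)], [(19, 1), (21, 1)], [(20, 1), (22, 1)], [(23, 1)], [(24, 1)], [(25, 1)], [(26, 1)], [(25, 1), (27, 1)], [(26, 1), (28, 1)], [(29, 1)], [(30, 1)], [(31, 1)], [(32, 1)], [(32, 1), (33, 1)], [(34, 1)], [(35, 1)], [(36, 1)], [(36, 1), (37, 1)], [(38, 1)], [(39, 1)], [(40, 1)], [(41, 1)], [(42, 1)], [(41, 1), (43,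 1)], [(42, 1), (44, 1)], [(45, 1)], [(46, 1)], [(47, 1)], [(48, 1)], [(48, 1), (49, 1)], [(50, 1)], [(51, 1)], [(52, 1)], [(52, 1), (53, 1)], [(54, 1)], [(55, 1)], [(56, 1)], [(57, 1)], [(57, 1), (58, 1)], [(59, 1)], [(60, 1)], [(61, 1)], [(62, 1)], [(62, 1), (63, 1)], [(64, 1)], [(65, 1)], [(66, 1)], [(64, -1), (67, 1)], [(65, -1), (68, 1)], [(69, 1)], [(70, 1)], [(71, 1)], [(72, 1)], [(4, 1), (66, -1), (73, 1)], [(71, 1), (74, 1)], [(72, 1), (75, 1)], [(76, 1)], [(76, -1), (77, 1)], [(78, 1)], [(79, 1)], [(80, 1)], [(81, 1)], [(81, -1), (82, 1)], [(83, 1)], [(84, 1)], [(85, 1)], [(86, 1)], [(86, -1), (87, 1)], [(88, 1)], [(89, 1)], [(90, 1)], [(90, -1), (91, 1)], [(92, 1)], [(93, 1)], [(94, 1)], [(95, 1)], [(96, 1)], [(95, -1), (97, 1)], [(96, -1), (98, 1)], [(99, 1)], [(100, 1)], [(101, 1)], [(102, 1)], [(102, -1), (103, 1)], [(104, 1)], [(105, 1)], [(106,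 1)], [(106, -1), (107, 1)], [(108, 1)], [(109, 1)], [(110, 1)], [(111, 1)], [(112, 1)], [(111, -1), (113, 1)], [(112, -1), (114, 1)], [(115, 1)], [(116, 1)], [(117, 1)], [(118, 1)], [(117, -1), (119, 1)], [(118, -1), (120, 1)], [(121, 1)], [(122, 1)], [(123, 1)], [(124, 1)], [(124, -1), (125, 1)], [(126, 1)], [(127, 1)], [(128, 1)], [(128, -1), (129, 1)], [(130, 1)], [(131, 1)], [(132, 1)]]

theorem nLit4 : NLitGood chevE7 4 Helper36_ChevDataE7Lits.Nc4 Helper36_ChevDataE7Lits.Nr4 :=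
  nLitGood_of_check2 chevE7 12 4 X1c4 X2c4 Helper36_ChevDataE7Lits.Nc4 Helper36_ChevDataE7Lits.Nr4 (by decide +kernel)

/-- Literal table: the matrix of `x_{p_i}(1)` by columns, `i = 5`. -/
def X1c5 : Idxd :=
  [[(0, 1)], [(1, 1)], [(2, 1)], [(3, 1)], [(4, 1), (71, 1)], [(5, 1), (71, -2)], [(6, 1), (71, 1)], [(7, 1)], [(8, 1)], [(9, 1)], [(10, 1)], [(11, 1), (12, -1)], [(12, 1)], [(13, 1)], [(14, 1)], [(15, 1), (16, -1)], [(16, 1)], [(17, 1)], [(18, 1), (19, -1)], [(19, 1)], [(20, 1)], [(21, 1)], [(22, 1), (23, -1)], [(23, 1)], [(24, 1), (25, -1)], [(25, 1)], [(26, 1)], [(27, 1)], [(28, 1), (29, -1)], [(29, 1)], [(30, 1)], [(31, 1), (32, -1)], [(32, 1)], [(33, 1)], [(34, 1)], [(35, 1), (36, -1)], [(36, 1)], [(37, 1)], [(38, 1)], [(39, 1)], [(40, 1), (41, -1)], [(41, 1)], [(42, 1)], [(43, 1)], [(44, 1), (45, -1)], [(45, 1)], [(46, 1)], [(47, 1), (48, -1)],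 [(48, 1)], [(49, 1)], [(50, 1)], [(51, 1), (52, -1)], [(52, 1)], [(53, 1)], [(54, 1)], [(55, 1)], [(56, 1), (57, -1)], [(57, 1)], [(58, 1)], [(59, 1)], [(60, 1)], [(61, 1), (62, -1)], [(62, 1)], [(63, 1)], [(64, 1)], [(65, 1), (66, -1)], [(66, 1)], [(67, 1), (69, 1)], [(5, 1), (68, 1), (71, -1)], [(69, 1)], [(70, 1), (72, -1)], [(71, 1)], [(72, 1)], [(73, 1), (74, 1)], [(74, 1)], [(75, 1)], [(76, 1)], [(77, 1), (78, 1)], [(78, 1)], [(79, 1)], [(80, 1)], [(81, 1)], [(82, 1), (83, 1)], [(83, 1)], [(84, 1)], [(85, 1)], [(86, 1)], [(87, 1), (88, 1)], [(88, 1)], [(89, 1)], [(90, 1)], [(91, 1), (92, 1)], [(92, 1)], [(93, 1)], [(94, 1), (95, 1)], [(95, 1)], [(96, 1)], [(97, 1)], [(98, 1), (99, 1)], [(99, 1)], [(100, 1)], [(101, 1)], [(102, 1)], [(103, 1), (104, 1)], [(104, 1)], [(105, 1)], [(106, 1)], [(107, 1), (108, 1)], [(108, 1)], [(109, 1)], [(110, 1), (111,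 1)], [(111, 1)], [(112, 1)], [(113, 1)], [(114, 1), (115, 1)], [(115, 1)], [(116, 1), (117, 1)], [(117, 1)], [(118, 1)], [(119, 1)], [(120, 1), (121, 1)], [(121, 1)], [(122, 1)], [(123, 1), (124, 1)], [(124, 1)], [(125, 1)], [(126, 1)], [(127, 1), (128, 1)], [(128, 1)], [(129, 1)], [(130, 1)], [(131, 1)], [(132, 1)]]

/-- Literal table: the matrix of `x_{-p_i}(-1)` by columns, `i = 5`. -/
def X2c5 : Idxd :=
  [[(0, 1)], [(1, 1)], [(2, 1)], [(3, 1)], [(4, 1), (68, 1)], [(5, 1), (68, -2)], [(6, 1), (68, 1)], [(7, 1)], [(8, 1)], [(9, 1)], [(10, 1)], [(11, 1)], [(11, 1), (12, 1)], [(13, 1)], [(14, 1)], [(15, 1)], [(15, 1), (16, 1)], [(17, 1)], [(18, 1)], [(18, 1), (19, 1)], [(20, 1)], [(21, 1)], [(22, 1)], [(22, 1), (23, 1)], [(24, 1)], [(24, 1), (25, 1)], [(26, 1)], [(27, 1)], [(28, 1)], [(28, 1), (29, 1)], [(30, 1)], [(31, 1)], [(31, 1), (32, 1)], [(33, 1)],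 [(34, 1)], [(35, 1)], [(35, 1), (36, 1)], [(37, 1)], [(38, 1)], [(39, 1)], [(40, 1)], [(40, 1), (41, 1)], [(42, 1)], [(43, 1)], [(44, 1)], [(44, 1), (45, 1)], [(46, 1)], [(47, 1)], [(47, 1), (48, 1)], [(49, 1)], [(50, 1)], [(51, 1)], [(51, 1), (52, 1)], [(53, 1)], [(54, 1)], [(55, 1)], [(56, 1)], [(56, 1), (57, 1)], [(58, 1)], [(59, 1)], [(60, 1)], [(61, 1)], [(61, 1), (62, 1)], [(63, 1)], [(64, 1)], [(65, 1)], [(65, 1), (66, 1)], [(67, 1)], [(68, 1)], [(67, -1), (69, 1)], [(70, 1)], [(5, 1), (68, -1), (71, 1)], [(70, 1), (72, 1)], [(73, 1)], [(73, -1), (74, 1)], [(75, 1)], [(76, 1)], [(77, 1)], [(77, -1), (78, 1)], [(79, 1)], [(80, 1)], [(81, 1)], [(82, 1)], [(82, -1), (83, 1)], [(84, 1)], [(85, 1)], [(86, 1)], [(87, 1)], [(87, -1), (88, 1)], [(89, 1)], [(90, 1)], [(91, 1)], [(91, -1), (92, 1)], [(93, 1)], [(94, 1)], [(94, -1), (95, 1)], [(96, 1)], [(97,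 1)], [(98, 1)], [(98, -1), (99, 1)], [(100, 1)], [(101, 1)], [(102, 1)], [(103, 1)], [(103, -1), (104, 1)], [(105, 1)], [(106, 1)], [(107, 1)], [(107, -1), (108, 1)], [(109, 1)], [(110, 1)], [(110, -1), (111, 1)], [(112, 1)], [(113, 1)], [(114, 1)], [(114, -1), (115, 1)], [(116, 1)], [(116, -1), (117, 1)], [(118, 1)], [(119, 1)], [(120, 1)], [(120, -1), (121, 1)], [(122, 1)], [(123, 1)], [(123, -1), (124, 1)], [(125, 1)], [(126, 1)], [(127, 1)], [(127, -1), (128, 1)], [(129, 1)], [(130, 1)], [(131, 1)], [(132, 1)]]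

theorem nLit5 : NLitGood chevE7 5 Helper36_ChevDataE7Lits.Nc5 Helper36_ChevDataE7Lits.Nr5 :=
  nLitGood_of_check2 chevE7 12 5 X1c5 X2c5 Helper36_ChevDataE7Lits.Nc5 Helper36_ChevDataE7Lits.Nr5 (by decide +kernel)

/-- Literal table: the matrix of `x_{p_i}(1)` by columns, `i = 6`. -/
def X1c6 : Idxd :=
  [[(0, 1)], [(1, 1)], [(2, 1)], [(3, 1)], [(4, 1)], [(5, 1), (70, 1)], [(6, 1), (70, -2)], [(7, 1)], [(8, 1)], [(9, 1)], [(10, 1)], [(11, 1)], [(12, 1), (13, -1)], [(13, 1)], [(14, 1)], [(15, 1)], [(16, 1), (17, -1)], [(17, 1)], [(18, 1)], [(19, 1), (20, -1)], [(20, 1)], [(21, 1), (22, -1)], [(22, 1)], [(23, 1)], [(24, 1)], [(25, 1), (26, -1)], [(26, 1)], [(27, 1), (28, -1)], [(28, 1)], [(29, 1)], [(30, 1), (31, -1)], [(31, 1)], [(32, 1)], [(33, 1)], [(34, 1), (35, -1)], [(35, 1)], [(36, 1)], [(37, 1)], [(38, 1)], [(39, 1)], [(40, 1)], [(41, 1), (42, -1)], [(42,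 1)], [(43, 1), (44, -1)], [(44, 1)], [(45, 1)], [(46, 1), (47, -1)], [(47, 1)], [(48, 1)], [(49, 1)], [(50, 1), (51, -1)], [(51, 1)], [(52, 1)], [(53, 1)], [(54, 1)], [(55, 1), (56, -1)], [(56, 1)], [(57, 1)], [(58, 1)], [(59, 1)], [(60, 1), (61, -1)], [(61, 1)], [(62, 1)], [(63, 1)], [(64, 1), (65, -1)], [(65, 1)], [(66, 1)], [(67, 1), (68, -1)], [(68, 1)], [(6, 1), (69, 1), (70, -1)], [(70, 1)], [(71, 1), (72, 1)], [(72, 1)], [(73, 1)], [(74, 1), (75, 1)], [(75, 1)], [(76, 1)], [(77, 1)], [(78, 1), (79, 1)], [(79, 1)], [(80, 1)], [(81, 1)], [(82, 1)], [(83, 1), (84, 1)], [(84, 1)], [(85, 1)], [(86, 1)], [(87, 1)], [(88, 1), (89, 1)], [(89, 1)], [(90, 1)], [(91, 1)], [(92, 1), (93, 1)], [(93, 1)], [(94, 1)], [(95, 1), (96, 1)], [(96, 1)], [(97, 1), (98, 1)], [(98, 1)], [(99, 1)], [(100, 1)], [(101, 1)], [(102, 1)], [(103, 1)], [(104, 1), (105, 1)], [(105,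 1)], [(106, 1)], [(107, 1)], [(108, 1), (109, 1)], [(109, 1)], [(110, 1)], [(111, 1), (112, 1)], [(112, 1)], [(113, 1), (114, 1)], [(114, 1)], [(115, 1)], [(116, 1)], [(117, 1), (118, 1)], [(118, 1)], [(119, 1), (120, 1)], [(120, 1)], [(121, 1)], [(122, 1), (123, 1)], [(123, 1)], [(124, 1)], [(125, 1)], [(126, 1), (127, 1)], [(127, 1)], [(128, 1)], [(129, 1)], [(130, 1)], [(131, 1)], [(132, 1)]]

/-- Literal table: the matrix of `x_{-p_i}(-1)` by columns, `i = 6`. -/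
def X2c6 : Idxd :=
  [[(0, 1)], [(1, 1)], [(2, 1)], [(3, 1)], [(4, 1)], [(5, 1), (69, 1)], [(6, 1), (69, -2)], [(7, 1)], [(8, 1)], [(9, 1)], [(10, 1)], [(11, 1)], [(12, 1)], [(12, 1), (13, 1)], [(14, 1)], [(15, 1)], [(16, 1)], [(16, 1), (17, 1)], [(18, 1)], [(19, 1)], [(19, 1), (20, 1)], [(21, 1)], [(21, 1), (22, 1)], [(23, 1)], [(24, 1)], [(25, 1)], [(25, 1), (26, 1)], [(27, 1)], [(27, 1), (28, 1)], [(29, 1)], [(30, 1)], [(30, 1), (31, 1)], [(32, 1)], [(33, 1)], [(34, 1)], [(34, 1), (35, 1)], [(36, 1)], [(37, 1)], [(38, 1)], [(39, 1)], [(40, 1)], [(41, 1)], [(41, 1), (42, 1)], [(43, 1)], [(43, 1), (44, 1)], [(45, 1)], [(46, 1)], [(46, 1), (47, 1)], [(48, 1)], [(49, 1)], [(50, 1)], [(50, 1), (51, 1)], [(52, 1)], [(53, 1)], [(54, 1)], [(55, 1)], [(55, 1), (56, 1)], [(57, 1)], [(58, 1)], [(59, 1)], [(60, 1)], [(60, 1), (61, 1)], [(62, 1)], [(63, 1)], [(64, 1)],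 [(64, 1), (65, 1)], [(66, 1)], [(67, 1)], [(67, 1), (68, 1)], [(69, 1)], [(6, 1), (69, -1), (70, 1)], [(71, 1)], [(71, -1), (72, 1)], [(73, 1)], [(74, 1)], [(74, -1), (75, 1)], [(76, 1)], [(77, 1)], [(78, 1)], [(78, -1), (79, 1)], [(80, 1)], [(81, 1)], [(82, 1)], [(83, 1)], [(83, -1), (84, 1)], [(85, 1)], [(86, 1)], [(87, 1)], [(88, 1)], [(88, -1), (89, 1)], [(90, 1)], [(91, 1)], [(92, 1)], [(92, -1), (93, 1)], [(94, 1)], [(95, 1)], [(95, -1), (96, 1)], [(97, 1)], [(97, -1), (98, 1)], [(99, 1)], [(100, 1)], [(101, 1)], [(102, 1)], [(103, 1)], [(104, 1)], [(104, -1), (105, 1)], [(106, 1)], [(107, 1)], [(108, 1)], [(108, -1), (109, 1)], [(110, 1)], [(111, 1)], [(111, -1), (112, 1)], [(113, 1)], [(113, -1), (114, 1)], [(115, 1)], [(116, 1)], [(117, 1)], [(117, -1), (118, 1)], [(119, 1)], [(119, -1), (120, 1)], [(121, 1)], [(122, 1)], [(122, -1), (123, 1)], [(124,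 1)], [(125, 1)], [(126, 1)], [(126, -1), (127, 1)], [(128, 1)], [(129, 1)], [(130, 1)], [(131, 1)], [(132, 1)]]

theorem nLit6 : NLitGood chevE7 6 Helper36_ChevDataE7Lits.Nc6 Helper36_ChevDataE7Lits.Nr6 :=
  nLitGood_of_check2 chevE7 12 6 X1c6 X2c6 Helper36_ChevDataE7Lits.Nc6 Helper36_ChevDataE7Lits.Nr6 (by decide +kernel)

end Cfsg.Agent.Lib.Helper36_ChevDataE7N1
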