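import Cfsg.Agent.Lib.Helper36_ChevDataE7Lits
import Cfsg.Agent.Lib.Helper36_ChevDataE7Add0
import Cfsg.Agent.Lib.Helper36_ChevDataE7Add1
import Cfsg.Agent.Lib.Helper36_ChevDataE7Add2
import Cfsg.Agent.Lib.Helper36_ChevDataE7Add
import Cfsg.Agent.Lib.Helper36_ChevDataE7N0
import Cfsg.Agent.Lib.Helper36_ChevDataE7N1
import Cfsg.Agent.Lib.Helper36_ChevDataE7T0
import Cfsg.Agent.Lib.Helper36_ChevDataE7T1
import Cfsg.Agent.Lib.Helper36_ChevDataE7T2
import Cfsg.Agent.Lib.Helper36_ChevDataE7T3

set_option autoImplicit false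


/-! Kernel-checked table facts for the Chevalley datum of type E7 (see `Helper36_ChevGen`), assembled from the pieces. Generated file. -/

namespace Cfsg.Agent.Lib.Helper36_ChevDataE7

open Cfsg Cfsg.Lie Cfsg.Agent.Lib.Helper36_ChevSparse Cfsg.Agent.Lib.Helper36_ChevCoeff
  Cfsg.Agent.Lib.Helper36_ChevCoo Cfsg.Agent.Lib.Helper36_ChevAdd Cfsg.Agent.Lib.Helper36_ChevIdx
  Cfsg.Agent.Lib.Helper36_ChevWeyl Cfsg.Agent.Lib.Helper36_ChevGen

theorem lenOK : ChainLenOK chevE7 := Helper36_ChevDataE7Lits.lenOK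

theorem simpleOK : SimpleOK chevE7 := Helper36_ChevDataE7Lits.simpleOK

theorem addOK : AddOK chevE7 := Helper36_ChevDataE7Add.addOK

/-- The matrices of the `n_i`, stored by columns and by rows. -/
abbrev nLits : NLits := Helper36_ChevDataE7Lits.nLits

theorem nLitOK : NLitOK chevE7 nLits := by
  intro i hi
  have h : chevE7.rank = 7 := rfl
  rw [h] at hi
  interval_cases i
  · exact Helper36_ChevDataE7N0.nLit0
  · exact Helper36_ChevDataE7N0.nLit1
  · exact Helper36_ChevDataE7N0.nLit2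
  · exact Helper36_ChevDataE7N0.nLit3
  · exact Helper36_ChevDataE7N1.nLit4
  · exact Helper36_ChevDataE7N1.nLit5
  · exact Helper36_ChevDataE7N1.nLit6

/-- The reachability certificate. -/
abbrev tree : List (ℕ × ℕ × ℤ) := Helper36_ChevDataE7Lits.tree

theorem pairsOK : PairsOK chevE7 12 nLits tree := by
  unfold tree Helper36_ChevDataE7Lits.tree
  exact pairsOK_append chevE7 12 _ _ _ Helper36_ChevDataE7T0.pairsOK0 (pairsOK_append chevE7 12 _ _ _ Helper36_ChevDataE7T0.pairsOK1 (pairsOK_append chevE7 12 _ _ _ Helper36_ChevDataE7T1.pairsOK2 (pairsOK_append chevE7 12 _ _ _ Helper36_ChevDataE7T1.pairsOK3 (pairsOK_append chevE7 12 _ _ _ Helper36_ChevDataE7T2.pairsOK4 (pairsOK_append chevE7 12 _ _ _ Helper36_ChevDataE7T2.pairsOK5 (Helper36_ChevDataE7T3.pairsOK6))))))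

theorem reachOK : reachCheck chevE7 tree = true := Helper36_ChevDataE7Lits.reachOK

/-- The Chevalley group of type E7 over any field is generated by the fundamental root elements and their negatives. -/
theorem group_eq (F : Type*) [Field F] : chevE7.group F = fundSubgroup chevE7 F :=
  group_eq_fundSubgroup chevE7 lenOK addOK simpleOK nLits nLitOK F 12 tree pairsOK reachOK

end Cfsg.Agent.Lib.Helper36_ChevDataE7
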