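import Cfsg.Agent.Lib.Helper36_ChevGen
import Cfsg.Prelude.Def_ChevE7

set_option autoImplicit false
set_option Elab.async false

/-! Literal tables for the Chevalley datum of type E7: the matrices of the `n_i` and the reachability certificate. Generated file. -/

namespace Cfsg.Agent.Lib.Helper36_ChevDataE7Lits

open Cfsg Cfsg.Lie Cfsg.Agent.Lib.Helper36_ChevSparse Cfsg.Agent.Lib.Helper36_ChevCoeff
  Cfsg.Agent.Lib.Helper36_ChevCoo Cfsg.Agent.Lib.Helper36_ChevAdd Cfsg.Agent.Lib.Helper36_ChevIdx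
  Cfsg.Agent.Lib.Helper36_ChevWeyl Cfsg.Agent.Lib.Helper36_ChevGen

theorem lenOK : ChainLenOK chevE7 := by decide +kernel

theorem simpleOK : SimpleOK chevE7 := by decide +kernel

/-- Literal table: the matrix of `n_i` by columns, `i = 0`. -/
def Nc0 : Idxd :=
  [[(0, -1)], [(1, 1)], [(0, 1), (2, 1)], [(3, 1)], [(4, 1)], [(5, 1)], [(6, 1)], [(8, -1)], [(7, 1)], [(9, 1)], [(10, 1)], [(11, 1)], [(12, 1)], [(13, 1)], [(14, 1)], [(15, 1)], [(16, 1)], [(17, 1)], [(18, 1)], [(19, 1)], [(20, 1)], [(21, 1)], [(22, 1)], [(23, 1)], [(40, 1)], [(41, 1)], [(42, 1)], [(43, 1)], [(44, 1)], [(45, 1)], [(46, 1)], [(47, 1)], [(48, 1)], [(49, 1)], [(55, 1)], [(56, 1)], [(57, 1)], [(58, 1)], [(59, 1)], [(100, -1)], [(24, -1)], [(25, -1)], [(26, -1)], [(27, -1)], [(28, -1)], [(29, -1)], [(30, -1)], [(31, -1)], [(32, -1)], [(33, -1)], [(50, 1)], [(51, 1)], [(52, 1)], [(53, 1)],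 [(54, 1)], [(34, -1)], [(35, -1)], [(36, -1)], [(37, -1)], [(38, -1)], [(60, 1)], [(61, 1)], [(62, 1)], [(63, 1)], [(64, 1)], [(65, 1)], [(66, 1)], [(67, 1)], [(68, 1)], [(69, 1)], [(70, 1)], [(71, 1)], [(72, 1)], [(73, 1)], [(74, 1)], [(75, 1)], [(76, 1)], [(77, 1)], [(78, 1)], [(79, 1)], [(101, -1)], [(102, -1)], [(103, -1)], [(104, -1)], [(105, -1)], [(85, 1)], [(86, 1)], [(87, 1)], [(88, 1)], [(89, 1)], [(106, -1)], [(107, -1)], [(108, -1)], [(109, -1)], [(110, -1)], [(111, -1)], [(112, -1)], [(113, -1)], [(114, -1)], [(115, -1)], [(39, -1)], [(80, 1)], [(81, 1)], [(82, 1)], [(83, 1)], [(84, 1)], [(90, 1)], [(91, 1)], [(92, 1)], [(93, 1)], [(94, 1)], [(95, 1)], [(96, 1)], [(97, 1)], [(98, 1)], [(99, 1)], [(116, 1)], [(117, 1)], [(118, 1)], [(119, 1)], [(120, 1)], [(121, 1)], [(122, 1)], [(123, 1)], [(124, 1)], [(125, 1)], [(126, 1)], [(127, 1)], [(128,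 1)], [(129, 1)], [(130, 1)], [(132, 1)], [(131, -1)]]

/-- Literal table: the matrix of `n_i` by rows, `i = 0`. -/
def Nr0 : Idxd :=
  [[(0, -1), (2, 1)], [(1, 1)], [(2, 1)], [(3, 1)], [(4, 1)], [(5, 1)], [(6, 1)], [(8, 1)], [(7, -1)], [(9, 1)], [(10, 1)], [(11, 1)], [(12, 1)], [(13, 1)], [(14, 1)], [(15, 1)], [(16, 1)], [(17, 1)], [(18, 1)], [(19, 1)], [(20, 1)], [(21, 1)], [(22, 1)], [(23, 1)], [(40, -1)], [(41, -1)], [(42, -1)], [(43, -1)], [(44, -1)], [(45, -1)], [(46, -1)], [(47, -1)], [(48, -1)], [(49, -1)], [(55, -1)], [(56, -1)], [(57, -1)], [(58, -1)], [(59, -1)], [(100, -1)], [(24, 1)], [(25, 1)], [(26, 1)], [(27, 1)], [(28, 1)], [(29, 1)], [(30, 1)], [(31, 1)], [(32, 1)], [(33, 1)], [(50, 1)], [(51, 1)], [(52, 1)], [(53, 1)], [(54, 1)], [(34, 1)], [(35, 1)], [(36, 1)], [(37, 1)], [(38, 1)], [(60, 1)], [(61, 1)], [(62, 1)], [(63, 1)], [(64, 1)], [(65,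 1)], [(66, 1)], [(67, 1)], [(68, 1)], [(69, 1)], [(70, 1)], [(71, 1)], [(72, 1)], [(73, 1)], [(74, 1)], [(75, 1)], [(76, 1)], [(77, 1)], [(78, 1)], [(79, 1)], [(101, 1)], [(102, 1)], [(103, 1)], [(104, 1)], [(105, 1)], [(85, 1)], [(86, 1)], [(87, 1)], [(88, 1)], [(89, 1)], [(106, 1)], [(107, 1)], [(108, 1)], [(109, 1)], [(110, 1)], [(111, 1)], [(112, 1)], [(113, 1)], [(114, 1)], [(115, 1)], [(39, -1)], [(80, -1)], [(81, -1)], [(82, -1)], [(83, -1)], [(84, -1)], [(90, -1)], [(91, -1)], [(92, -1)], [(93, -1)], [(94, -1)], [(95, -1)], [(96, -1)], [(97, -1)], [(98, -1)], [(99, -1)], [(116, 1)], [(117, 1)], [(118, 1)], [(119, 1)], [(120, 1)], [(121, 1)], [(122, 1)], [(123, 1)], [(124, 1)], [(125, 1)], [(126, 1)], [(127, 1)], [(128, 1)], [(129, 1)], [(130, 1)], [(132, -1)], [(131, 1)]]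

/-- Literal table: the matrix of `n_i` by columns, `i = 1`. -/
def Nc1 : Idxd :=
  [[(0, 1)], [(1, -1)], [(2, 1)], [(1, 1), (3, 1)], [(4, 1)], [(5, 1)], [(6, 1)], [(7, 1)], [(8, 1)], [(9, 1)], [(14, -1)], [(15, -1)], [(16, -1)], [(17, -1)], [(10, 1)], [(11, 1)], [(12, 1)], [(13, 1)], [(18, 1)], [(19, 1)], [(20, 1)], [(21, 1)], [(22, 1)], [(23, 1)], [(24, 1)], [(25, 1)], [(26, 1)], [(27, 1)], [(28, 1)], [(29, 1)], [(34, -1)], [(35, -1)], [(36, -1)], [(37, -1)], [(30, 1)], [(31, 1)], [(32, 1)], [(33, 1)], [(38, 1)], [(39, 1)], [(40, 1)], [(41, 1)], [(42, 1)], [(43, 1)], [(44, 1)], [(45, 1)], [(55, -1)], [(56, -1)], [(57, -1)], [(58, -1)], [(60, 1)], [(61, 1)], [(62, 1)], [(63, 1)], [(85, -1)], [(46, 1)], [(47, 1)], [(48, 1)], [(49, 1)], [(59, 1)], [(50, -1)], [(51, -1)], [(52, -1)], [(53, -1)], [(64, 1)], [(65, 1)], [(66, 1)], [(67, 1)], [(68, 1)], [(69, 1)],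 [(70, 1)], [(71, 1)], [(72, 1)], [(73, 1)], [(74, 1)], [(75, 1)], [(86, -1)], [(87, -1)], [(88, -1)], [(89, -1)], [(80, 1)], [(90, 1)], [(91, 1)], [(92, 1)], [(93, 1)], [(54, -1)], [(76, 1)], [(77, 1)], [(78, 1)], [(79, 1)], [(81, -1)], [(82, -1)], [(83, -1)], [(84, -1)], [(94, 1)], [(95, 1)], [(96, 1)], [(97, 1)], [(98, 1)], [(99, 1)], [(100, 1)], [(101, 1)], [(106, 1)], [(107, 1)], [(108, 1)], [(109, 1)], [(102, -1)], [(103, -1)], [(104, -1)], [(105, -1)], [(110, 1)], [(111, 1)], [(112, 1)], [(113, 1)], [(114, 1)], [(115, 1)], [(116, 1)], [(117, 1)], [(118, 1)], [(119, 1)], [(120, 1)], [(121, 1)], [(126, 1)], [(127, 1)], [(128, 1)], [(129, 1)], [(122, -1)], [(123, -1)], [(124, -1)], [(125, -1)], [(130, 1)], [(131, 1)], [(132, 1)]]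

/-- Literal table: the matrix of `n_i` by rows, `i = 1`. -/
def Nr1 : Idxd :=
  [[(0, 1)], [(1, -1), (3, 1)], [(2, 1)], [(3, 1)], [(4, 1)], [(5, 1)], [(6, 1)], [(7, 1)], [(8, 1)], [(9, 1)], [(14, 1)], [(15, 1)], [(16, 1)], [(17, 1)], [(10, -1)], [(11, -1)], [(12, -1)], [(13, -1)], [(18, 1)], [(19, 1)], [(20, 1)], [(21, 1)], [(22, 1)], [(23, 1)], [(24, 1)], [(25, 1)], [(26, 1)], [(27, 1)], [(28, 1)], [(29, 1)], [(34, 1)], [(35, 1)], [(36, 1)], [(37, 1)], [(30, -1)], [(31, -1)], [(32, -1)], [(33, -1)], [(38, 1)], [(39, 1)], [(40, 1)], [(41, 1)], [(42, 1)], [(43, 1)], [(44, 1)], [(45, 1)], [(55, 1)], [(56, 1)], [(57, 1)], [(58, 1)], [(60, -1)], [(61, -1)], [(62, -1)], [(63, -1)], [(85, -1)], [(46, -1)], [(47, -1)], [(48, -1)], [(49, -1)], [(59, 1)], [(50, 1)], [(51, 1)], [(52, 1)], [(53, 1)], [(64, 1)], [(65, 1)], [(66, 1)], [(67, 1)], [(68, 1)], [(69, 1)], [(70,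 1)], [(71, 1)], [(72, 1)], [(73, 1)], [(74, 1)], [(75, 1)], [(86, 1)], [(87, 1)], [(88, 1)], [(89, 1)], [(80, 1)], [(90, -1)], [(91, -1)], [(92, -1)], [(93, -1)], [(54, -1)], [(76, -1)], [(77, -1)], [(78, -1)], [(79, -1)], [(81, 1)], [(82, 1)], [(83, 1)], [(84, 1)], [(94, 1)], [(95, 1)], [(96, 1)], [(97, 1)], [(98, 1)], [(99, 1)], [(100, 1)], [(101, 1)], [(106, -1)], [(107, -1)], [(108, -1)], [(109, -1)], [(102, 1)], [(103, 1)], [(104, 1)], [(105, 1)], [(110, 1)], [(111, 1)], [(112, 1)], [(113, 1)], [(114, 1)], [(115, 1)], [(116, 1)], [(117, 1)], [(118, 1)], [(119, 1)], [(120, 1)], [(121, 1)], [(126, -1)], [(127, -1)], [(128, -1)], [(129, -1)], [(122, 1)], [(123, 1)], [(124, 1)], [(125, 1)], [(130, 1)], [(131, 1)], [(132, 1)]]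

/-- Literal table: the matrix of `n_i` by columns, `i = 2`. -/
def Nc2 : Idxd :=
  [[(0, 1), (2, 1)], [(1, 1)], [(2, -1)], [(2, 1), (3, 1)], [(4, 1)], [(5, 1)], [(6, 1)], [(7, 1)], [(9, -1)], [(8, 1)], [(10, 1)], [(11, 1)], [(12, 1)], [(13, 1)], [(14, 1)], [(15, 1)], [(16, 1)], [(17, 1)], [(24, -1)], [(25, -1)], [(26, -1)], [(27, -1)], [(28, -1)], [(29, -1)], [(18, 1)], [(19, 1)], [(20, 1)], [(21, 1)], [(22, 1)], [(23, 1)], [(30, 1)], [(31, 1)], [(32, 1)], [(33, 1)], [(34, 1)], [(35, 1)], [(36, 1)], [(37, 1)], [(39, -1)], [(38, 1)], [(40, 1)], [(41, 1)], [(42, 1)], [(43, 1)], [(44, 1)], [(45, 1)], [(50, -1)], [(51, -1)], [(52, -1)], [(53, -1)], [(46, 1)], [(47, 1)], [(48, 1)], [(49, 1)], [(54, 1)], [(60, 1)], [(61, 1)], [(62, 1)], [(63, 1)], [(80, -1)], [(55, -1)], [(56, -1)], [(57, -1)], [(58, -1)], [(64, 1)], [(65, 1)], [(66, 1)], [(67, 1)], [(68, 1)], [(69,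 1)], [(70, 1)], [(71, 1)], [(72, 1)], [(73, 1)], [(74, 1)], [(75, 1)], [(81, -1)], [(82, -1)], [(83, -1)], [(84, -1)], [(59, -1)], [(76, 1)], [(77, 1)], [(78, 1)], [(79, 1)], [(85, 1)], [(90, 1)], [(91, 1)], [(92, 1)], [(93, 1)], [(86, -1)], [(87, -1)], [(88, -1)], [(89, -1)], [(94, 1)], [(95, 1)], [(96, 1)], [(97, 1)], [(98, 1)], [(99, 1)], [(101, 1)], [(100, -1)], [(102, 1)], [(103, 1)], [(104, 1)], [(105, 1)], [(106, 1)], [(107, 1)], [(108, 1)], [(109, 1)], [(116, 1)], [(117, 1)], [(118, 1)], [(119, 1)], [(120, 1)], [(121, 1)], [(110, -1)], [(111, -1)], [(112, -1)], [(113, -1)], [(114, -1)], [(115, -1)], [(122, 1)], [(123, 1)], [(124, 1)], [(125, 1)], [(126, 1)], [(127, 1)], [(128, 1)], [(129, 1)], [(131, 1)], [(130, -1)], [(132, 1)]]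

/-- Literal table: the matrix of `n_i` by rows, `i = 2`. -/
def Nr2 : Idxd :=
  [[(0, 1)], [(1, 1)], [(0, 1), (2, -1), (3, 1)], [(3, 1)], [(4, 1)], [(5, 1)], [(6, 1)], [(7, 1)], [(9, 1)], [(8, -1)], [(10, 1)], [(11, 1)], [(12, 1)], [(13, 1)], [(14, 1)], [(15, 1)], [(16, 1)], [(17, 1)], [(24, 1)], [(25, 1)], [(26, 1)], [(27, 1)], [(28, 1)], [(29, 1)], [(18, -1)], [(19, -1)], [(20, -1)], [(21, -1)], [(22, -1)], [(23, -1)], [(30, 1)], [(31, 1)], [(32, 1)], [(33, 1)], [(34, 1)], [(35, 1)], [(36, 1)], [(37, 1)], [(39, 1)], [(38, -1)], [(40, 1)], [(41, 1)], [(42, 1)], [(43, 1)], [(44, 1)], [(45, 1)], [(50, 1)], [(51, 1)], [(52, 1)], [(53, 1)], [(46, -1)], [(47, -1)], [(48, -1)], [(49, -1)], [(54, 1)], [(60, -1)], [(61, -1)], [(62, -1)], [(63, -1)], [(80, -1)], [(55, 1)], [(56, 1)], [(57, 1)], [(58, 1)], [(64, 1)], [(65, 1)], [(66, 1)], [(67, 1)], [(68, 1)], [(69,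 1)], [(70, 1)], [(71, 1)], [(72, 1)], [(73, 1)], [(74, 1)], [(75, 1)], [(81, 1)], [(82, 1)], [(83, 1)], [(84, 1)], [(59, -1)], [(76, -1)], [(77, -1)], [(78, -1)], [(79, -1)], [(85, 1)], [(90, -1)], [(91, -1)], [(92, -1)], [(93, -1)], [(86, 1)], [(87, 1)], [(88, 1)], [(89, 1)], [(94, 1)], [(95, 1)], [(96, 1)], [(97, 1)], [(98, 1)], [(99, 1)], [(101, -1)], [(100, 1)], [(102, 1)], [(103, 1)], [(104, 1)], [(105, 1)], [(106, 1)], [(107, 1)], [(108, 1)], [(109, 1)], [(116, -1)], [(117, -1)], [(118, -1)], [(119, -1)], [(120, -1)], [(121, -1)], [(110, 1)], [(111, 1)], [(112, 1)], [(113, 1)], [(114, 1)], [(115, 1)], [(122, 1)], [(123, 1)], [(124, 1)], [(125, 1)], [(126, 1)], [(127, 1)], [(128, 1)], [(129, 1)], [(131, -1)], [(130, 1)], [(132, 1)]]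

/-- Literal table: the matrix of `n_i` by columns, `i = 3`. -/
def Nc3 : Idxd :=
  [[(0, 1)], [(1, 1), (3, 1)], [(2, 1), (3, 1)], [(3, -1)], [(3, 1), (4, 1)], [(5, 1)], [(6, 1)], [(7, 1)], [(8, 1)], [(10, -1)], [(9, 1)], [(11, 1)], [(12, 1)], [(13, 1)], [(14, 1)], [(18, -1)], [(19, -1)], [(20, -1)], [(15, 1)], [(16, 1)], [(17, 1)], [(21, 1)], [(22, 1)], [(23, 1)], [(24, 1)], [(25, 1)], [(26, 1)], [(30, -1)], [(31, -1)], [(32, -1)], [(27, 1)], [(28, 1)], [(29, 1)], [(33, 1)], [(34, 1)], [(35, 1)], [(36, 1)], [(38, -1)], [(37, 1)], [(39, 1)], [(40, 1)], [(41, 1)], [(42, 1)], [(46, -1)], [(47, -1)], [(48, -1)], [(43, 1)], [(44, 1)], [(45, 1)], [(49, 1)], [(50, 1)], [(51, 1)], [(52, 1)], [(54, -1)], [(53, 1)], [(55, 1)], [(56, 1)], [(57, 1)], [(59, -1)], [(58, 1)], [(64, 1)], [(65, 1)], [(66, 1)], [(76, -1)], [(60, -1)], [(61, -1)], [(62, -1)], [(67, 1)], [(68,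 1)], [(69, 1)], [(70, 1)], [(71, 1)], [(72, 1)], [(77, -1)], [(78, -1)], [(79, -1)], [(63, -1)], [(73, 1)], [(74, 1)], [(75, 1)], [(81, 1)], [(80, -1)], [(82, 1)], [(83, 1)], [(84, 1)], [(86, 1)], [(85, -1)], [(87, 1)], [(88, 1)], [(89, 1)], [(90, 1)], [(94, 1)], [(95, 1)], [(96, 1)], [(91, -1)], [(92, -1)], [(93, -1)], [(97, 1)], [(98, 1)], [(99, 1)], [(100, 1)], [(102, 1)], [(101, -1)], [(103, 1)], [(104, 1)], [(105, 1)], [(106, 1)], [(110, 1)], [(111, 1)], [(112, 1)], [(107, -1)], [(108, -1)], [(109, -1)], [(113, 1)], [(114, 1)], [(115, 1)], [(116, 1)], [(117, 1)], [(118, 1)], [(122, 1)], [(123, 1)], [(124, 1)], [(119, -1)], [(120, -1)], [(121, -1)], [(125, 1)], [(126, 1)], [(127, 1)], [(128, 1)], [(130, 1)], [(129, -1)], [(131, 1)], [(132, 1)]]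

/-- Literal table: the matrix of `n_i` by rows, `i = 3`. -/
def Nr3 : Idxd :=
  [[(0, 1)], [(1, 1)], [(2, 1)], [(1, 1), (2, 1), (3, -1), (4, 1)], [(4, 1)], [(5, 1)], [(6, 1)], [(7, 1)], [(8, 1)], [(10, 1)], [(9, -1)], [(11, 1)], [(12, 1)], [(13, 1)], [(14, 1)], [(18, 1)], [(19, 1)], [(20, 1)], [(15, -1)], [(16, -1)], [(17, -1)], [(21, 1)], [(22, 1)], [(23, 1)], [(24, 1)], [(25, 1)], [(26, 1)], [(30, 1)], [(31, 1)], [(32, 1)], [(27, -1)], [(28, -1)], [(29, -1)], [(33, 1)], [(34, 1)], [(35, 1)], [(36, 1)], [(38, 1)], [(37, -1)], [(39, 1)], [(40, 1)], [(41, 1)], [(42, 1)], [(46, 1)], [(47, 1)], [(48, 1)], [(43, -1)], [(44, -1)], [(45, -1)], [(49, 1)], [(50, 1)], [(51, 1)], [(52, 1)], [(54, 1)], [(53, -1)], [(55, 1)], [(56, 1)], [(57, 1)], [(59, 1)], [(58, -1)], [(64, -1)], [(65, -1)], [(66, -1)], [(76, -1)], [(60, 1)], [(61, 1)], [(62, 1)], [(67, 1)], [(68, 1)],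 [(69, 1)], [(70, 1)], [(71, 1)], [(72, 1)], [(77, 1)], [(78, 1)], [(79, 1)], [(63, -1)], [(73, -1)], [(74, -1)], [(75, -1)], [(81, -1)], [(80, 1)], [(82, 1)], [(83, 1)], [(84, 1)], [(86, -1)], [(85, 1)], [(87, 1)], [(88, 1)], [(89, 1)], [(90, 1)], [(94, -1)], [(95, -1)], [(96, -1)], [(91, 1)], [(92, 1)], [(93, 1)], [(97, 1)], [(98, 1)], [(99, 1)], [(100, 1)], [(102, -1)], [(101, 1)], [(103, 1)], [(104, 1)], [(105, 1)], [(106, 1)], [(110, -1)], [(111, -1)], [(112, -1)], [(107, 1)], [(108, 1)], [(109, 1)], [(113, 1)], [(114, 1)], [(115, 1)], [(116, 1)], [(117, 1)], [(118, 1)], [(122, -1)], [(123, -1)], [(124, -1)], [(119, 1)], [(120, 1)], [(121, 1)], [(125, 1)], [(126, 1)], [(127, 1)], [(128, 1)], [(130, -1)], [(129, 1)], [(131, 1)], [(132, 1)]]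

/-- Literal table: the matrix of `n_i` by columns, `i = 4`. -/
def Nc4 : Idxd :=
  [[(0, 1)], [(1, 1)], [(2, 1)], [(3, 1), (4, 1)], [(4, -1)], [(4, 1), (5, 1)], [(6, 1)], [(7, 1)], [(8, 1)], [(9, 1)], [(11, -1)], [(10, 1)], [(12, 1)], [(13, 1)], [(15, -1)], [(14, 1)], [(16, 1)], [(17, 1)], [(18, 1)], [(21, -1)], [(22, -1)], [(19, 1)], [(20, 1)], [(23, 1)], [(24, 1)], [(27, -1)], [(28, -1)], [(25, 1)], [(26, 1)], [(29, 1)], [(30, 1)], [(31, 1)], [(33, -1)], [(32, 1)], [(34, 1)], [(35, 1)], [(37, -1)], [(36, 1)], [(38, 1)], [(39, 1)], [(40, 1)], [(43, -1)], [(44, -1)], [(41, 1)], [(42, 1)], [(45, 1)], [(46, 1)], [(47, 1)], [(49, -1)], [(48, 1)], [(50, 1)], [(51, 1)], [(53, -1)], [(52, 1)], [(54, 1)], [(55, 1)], [(56, 1)], [(58, -1)], [(57, 1)], [(59, 1)], [(60, 1)], [(61, 1)], [(63, -1)], [(62, 1)], [(67, 1)], [(68, 1)], [(73, -1)], [(64, -1)], [(65, -1)], [(69,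 1)], [(70, 1)], [(74, -1)], [(75, -1)], [(66, -1)], [(71, 1)], [(72, 1)], [(77, 1)], [(76, -1)], [(78, 1)], [(79, 1)], [(80, 1)], [(82, 1)], [(81, -1)], [(83, 1)], [(84, 1)], [(85, 1)], [(87, 1)], [(86, -1)], [(88, 1)], [(89, 1)], [(91, 1)], [(90, -1)], [(92, 1)], [(93, 1)], [(94, 1)], [(97, 1)], [(98, 1)], [(95, -1)], [(96, -1)], [(99, 1)], [(100, 1)], [(101, 1)], [(103, 1)], [(102, -1)], [(104, 1)], [(105, 1)], [(107, 1)], [(106, -1)], [(108, 1)], [(109, 1)], [(110, 1)], [(113, 1)], [(114, 1)], [(111, -1)], [(112, -1)], [(115, 1)], [(116, 1)], [(119, 1)], [(120, 1)], [(117, -1)], [(118, -1)], [(121, 1)], [(122, 1)], [(123, 1)], [(125, 1)], [(124, -1)], [(126, 1)], [(127, 1)], [(129, 1)], [(128, -1)], [(130, 1)], [(131, 1)], [(132, 1)]]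

/-- Literal table: the matrix of `n_i` by rows, `i = 4`. -/
def Nr4 : Idxd :=
  [[(0, 1)], [(1, 1)], [(2, 1)], [(3, 1)], [(3, 1), (4, -1), (5, 1)], [(5, 1)], [(6, 1)], [(7, 1)], [(8, 1)], [(9, 1)], [(11, 1)], [(10, -1)], [(12, 1)], [(13, 1)], [(15, 1)], [(14, -1)], [(16, 1)], [(17, 1)], [(18, 1)], [(21, 1)], [(22, 1)], [(19, -1)], [(20, -1)], [(23, 1)], [(24, 1)], [(27, 1)], [(28, 1)], [(25, -1)], [(26, -1)], [(29, 1)], [(30, 1)], [(31, 1)], [(33, 1)], [(32, -1)], [(34, 1)], [(35, 1)], [(37, 1)], [(36, -1)], [(38, 1)], [(39, 1)], [(40, 1)], [(43, 1)], [(44, 1)], [(41, -1)], [(42, -1)], [(45, 1)], [(46, 1)], [(47, 1)], [(49, 1)], [(48, -1)], [(50, 1)], [(51, 1)], [(53, 1)], [(52, -1)], [(54, 1)], [(55, 1)], [(56, 1)], [(58, 1)], [(57, -1)], [(59, 1)], [(60, 1)], [(61, 1)], [(63, 1)], [(62, -1)], [(67, -1)], [(68, -1)], [(73, -1)], [(64, 1)], [(65, 1)], [(69,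 1)], [(70, 1)], [(74, 1)], [(75, 1)], [(66, -1)], [(71, -1)], [(72, -1)], [(77, -1)], [(76, 1)], [(78, 1)], [(79, 1)], [(80, 1)], [(82, -1)], [(81, 1)], [(83, 1)], [(84, 1)], [(85, 1)], [(87, -1)], [(86, 1)], [(88, 1)], [(89, 1)], [(91, -1)], [(90, 1)], [(92, 1)], [(93, 1)], [(94, 1)], [(97, -1)], [(98, -1)], [(95, 1)], [(96, 1)], [(99, 1)], [(100, 1)], [(101, 1)], [(103, -1)], [(102, 1)], [(104, 1)], [(105, 1)], [(107, -1)], [(106, 1)], [(108, 1)], [(109, 1)], [(110, 1)], [(113, -1)], [(114, -1)], [(111, 1)], [(112, 1)], [(115, 1)], [(116, 1)], [(119, -1)], [(120, -1)], [(117, 1)], [(118, 1)], [(121, 1)], [(122, 1)], [(123, 1)], [(125, -1)], [(124, 1)], [(126, 1)], [(127, 1)], [(129, -1)], [(128, 1)], [(130, 1)], [(131, 1)], [(132, 1)]]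

/-- Literal table: the matrix of `n_i` by columns, `i = 5`. -/
def Nc5 : Idxd :=
  [[(0, 1)], [(1, 1)], [(2, 1)], [(3, 1)], [(4, 1), (5, 1)], [(5, -1)], [(5, 1), (6, 1)], [(7, 1)], [(8, 1)], [(9, 1)], [(10, 1)], [(12, -1)], [(11, 1)], [(13, 1)], [(14, 1)], [(16, -1)], [(15, 1)], [(17, 1)], [(19, -1)], [(18, 1)], [(20, 1)], [(21, 1)], [(23, -1)], [(22, 1)], [(25, -1)], [(24, 1)], [(26, 1)], [(27, 1)], [(29, -1)], [(28, 1)], [(30, 1)], [(32, -1)], [(31, 1)], [(33, 1)], [(34, 1)], [(36, -1)], [(35, 1)], [(37, 1)], [(38, 1)], [(39, 1)], [(41, -1)], [(40, 1)], [(42, 1)], [(43, 1)], [(45, -1)], [(44, 1)], [(46, 1)], [(48, -1)], [(47, 1)], [(49, 1)], [(50, 1)], [(52, -1)], [(51, 1)], [(53, 1)], [(54, 1)], [(55, 1)], [(57, -1)], [(56, 1)], [(58, 1)], [(59, 1)], [(60, 1)], [(62, -1)], [(61, 1)], [(63, 1)], [(64, 1)], [(66, -1)], [(65, 1)], [(69, 1)], [(71, -1)], [(67,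 -1)], [(72, -1)], [(68, -1)], [(70, 1)], [(74, 1)], [(73, -1)], [(75, 1)], [(76, 1)], [(78, 1)], [(77, -1)], [(79, 1)], [(80, 1)], [(81, 1)], [(83, 1)], [(82, -1)], [(84, 1)], [(85, 1)], [(86, 1)], [(88, 1)], [(87, -1)], [(89, 1)], [(90, 1)], [(92, 1)], [(91, -1)], [(93, 1)], [(95, 1)], [(94, -1)], [(96, 1)], [(97, 1)], [(99, 1)], [(98, -1)], [(100, 1)], [(101, 1)], [(102, 1)], [(104, 1)], [(103, -1)], [(105, 1)], [(106, 1)], [(108, 1)], [(107, -1)], [(109, 1)], [(111, 1)], [(110, -1)], [(112, 1)], [(113, 1)], [(115, 1)], [(114, -1)], [(117, 1)], [(116, -1)], [(118, 1)], [(119, 1)], [(121, 1)], [(120, -1)], [(122, 1)], [(124, 1)], [(123, -1)], [(125, 1)], [(126, 1)], [(128, 1)], [(127, -1)], [(129, 1)], [(130, 1)], [(131, 1)], [(132, 1)]]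

/-- Literal table: the matrix of `n_i` by rows, `i = 5`. -/
def Nr5 : Idxd :=
  [[(0, 1)], [(1, 1)], [(2, 1)], [(3, 1)], [(4, 1)], [(4, 1), (5, -1), (6, 1)], [(6, 1)], [(7, 1)], [(8, 1)], [(9, 1)], [(10, 1)], [(12, 1)], [(11, -1)], [(13, 1)], [(14, 1)], [(16, 1)], [(15, -1)], [(17, 1)], [(19, 1)], [(18, -1)], [(20, 1)], [(21, 1)], [(23, 1)], [(22, -1)], [(25, 1)], [(24, -1)], [(26, 1)], [(27, 1)], [(29, 1)], [(28, -1)], [(30, 1)], [(32, 1)], [(31, -1)], [(33, 1)], [(34, 1)], [(36, 1)], [(35, -1)], [(37, 1)], [(38, 1)], [(39, 1)], [(41, 1)], [(40, -1)], [(42, 1)], [(43, 1)], [(45, 1)], [(44, -1)], [(46, 1)], [(48, 1)], [(47, -1)], [(49, 1)], [(50, 1)], [(52, 1)], [(51, -1)], [(53, 1)], [(54, 1)], [(55, 1)], [(57, 1)], [(56, -1)], [(58, 1)], [(59, 1)], [(60, 1)], [(62, 1)], [(61, -1)], [(63, 1)], [(64, 1)], [(66, 1)], [(65, -1)], [(69, -1)], [(71, -1)], [(67,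 1)], [(72, 1)], [(68, -1)], [(70, -1)], [(74, -1)], [(73, 1)], [(75, 1)], [(76, 1)], [(78, -1)], [(77, 1)], [(79, 1)], [(80, 1)], [(81, 1)], [(83, -1)], [(82, 1)], [(84, 1)], [(85, 1)], [(86, 1)], [(88, -1)], [(87, 1)], [(89, 1)], [(90, 1)], [(92, -1)], [(91, 1)], [(93, 1)], [(95, -1)], [(94, 1)], [(96, 1)], [(97, 1)], [(99, -1)], [(98, 1)], [(100, 1)], [(101, 1)], [(102, 1)], [(104, -1)], [(103, 1)], [(105, 1)], [(106, 1)], [(108, -1)], [(107, 1)], [(109, 1)], [(111, -1)], [(110, 1)], [(112, 1)], [(113, 1)], [(115, -1)], [(114, 1)], [(117, -1)], [(116, 1)], [(118, 1)], [(119, 1)], [(121, -1)], [(120, 1)], [(122, 1)], [(124, -1)], [(123, 1)], [(125, 1)], [(126, 1)], [(128, -1)], [(127, 1)], [(129, 1)], [(130, 1)], [(131, 1)], [(132, 1)]]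

/-- Literal table: the matrix of `n_i` by columns, `i = 6`. -/
def Nc6 : Idxd :=
  [[(0, 1)], [(1, 1)], [(2, 1)], [(3, 1)], [(4, 1)], [(5, 1), (6, 1)], [(6, -1)], [(7, 1)], [(8, 1)], [(9, 1)], [(10, 1)], [(11, 1)], [(13, -1)], [(12, 1)], [(14, 1)], [(15, 1)], [(17, -1)], [(16, 1)], [(18, 1)], [(20, -1)], [(19, 1)], [(22, -1)], [(21, 1)], [(23, 1)], [(24, 1)], [(26, -1)], [(25, 1)], [(28, -1)], [(27, 1)], [(29, 1)], [(31, -1)], [(30, 1)], [(32, 1)], [(33, 1)], [(35, -1)], [(34, 1)], [(36, 1)], [(37, 1)], [(38, 1)], [(39, 1)], [(40, 1)], [(42, -1)], [(41, 1)], [(44, -1)], [(43, 1)], [(45, 1)], [(47, -1)], [(46, 1)], [(48, 1)], [(49, 1)], [(51, -1)], [(50, 1)], [(52, 1)], [(53, 1)], [(54, 1)], [(56, -1)], [(55, 1)], [(57, 1)], [(58, 1)], [(59, 1)], [(61, -1)], [(60, 1)], [(62, 1)], [(63, 1)], [(65, -1)], [(64, 1)], [(66, 1)], [(68, -1)], [(67, 1)], [(70, -1)],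 [(69, -1)], [(72, 1)], [(71, -1)], [(73, 1)], [(75, 1)], [(74, -1)], [(76, 1)], [(77, 1)], [(79, 1)], [(78, -1)], [(80, 1)], [(81, 1)], [(82, 1)], [(84, 1)], [(83, -1)], [(85, 1)], [(86, 1)], [(87, 1)], [(89, 1)], [(88, -1)], [(90, 1)], [(91, 1)], [(93, 1)], [(92, -1)], [(94, 1)], [(96, 1)], [(95, -1)], [(98, 1)], [(97, -1)], [(99, 1)], [(100, 1)], [(101, 1)], [(102, 1)], [(103, 1)], [(105, 1)], [(104, -1)], [(106, 1)], [(107, 1)], [(109, 1)], [(108, -1)], [(110, 1)], [(112, 1)], [(111, -1)], [(114, 1)], [(113, -1)], [(115, 1)], [(116, 1)], [(118, 1)], [(117, -1)], [(120, 1)], [(119, -1)], [(121, 1)], [(123, 1)], [(122, -1)], [(124, 1)], [(125, 1)], [(127, 1)], [(126, -1)], [(128, 1)], [(129, 1)], [(130, 1)], [(131, 1)], [(132, 1)]]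

/-- Literal table: the matrix of `n_i` by rows, `i = 6`. -/
def Nr6 : Idxd :=
  [[(0, 1)], [(1, 1)], [(2, 1)], [(3, 1)], [(4, 1)], [(5, 1)], [(5, 1), (6, -1)], [(7, 1)], [(8, 1)], [(9, 1)], [(10, 1)], [(11, 1)], [(13, 1)], [(12, -1)], [(14, 1)], [(15, 1)], [(17, 1)], [(16, -1)], [(18, 1)], [(20, 1)], [(19, -1)], [(22, 1)], [(21, -1)], [(23, 1)], [(24, 1)], [(26, 1)], [(25, -1)], [(28, 1)], [(27, -1)], [(29, 1)], [(31, 1)], [(30, -1)], [(32, 1)], [(33, 1)], [(35, 1)], [(34, -1)], [(36, 1)], [(37, 1)], [(38, 1)], [(39, 1)], [(40, 1)], [(42, 1)], [(41, -1)], [(44, 1)], [(43, -1)], [(45, 1)], [(47, 1)], [(46, -1)], [(48, 1)], [(49, 1)], [(51, 1)], [(50, -1)], [(52, 1)], [(53, 1)], [(54, 1)], [(56, 1)], [(55, -1)], [(57, 1)], [(58, 1)], [(59, 1)], [(61, 1)], [(60, -1)], [(62, 1)], [(63, 1)], [(65, 1)], [(64, -1)], [(66, 1)], [(68, 1)], [(67, -1)], [(70, -1)], [(69,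 -1)], [(72, -1)], [(71, 1)], [(73, 1)], [(75, -1)], [(74, 1)], [(76, 1)], [(77, 1)], [(79, -1)], [(78, 1)], [(80, 1)], [(81, 1)], [(82, 1)], [(84, -1)], [(83, 1)], [(85, 1)], [(86, 1)], [(87, 1)], [(89, -1)], [(88, 1)], [(90, 1)], [(91, 1)], [(93, -1)], [(92, 1)], [(94, 1)], [(96, -1)], [(95, 1)], [(98, -1)], [(97, 1)], [(99, 1)], [(100, 1)], [(101, 1)], [(102, 1)], [(103, 1)], [(105, -1)], [(104, 1)], [(106, 1)], [(107, 1)], [(109, -1)], [(108, 1)], [(110, 1)], [(112, -1)], [(111, 1)], [(114, -1)], [(113, 1)], [(115, 1)], [(116, 1)], [(118, -1)], [(117, 1)], [(120, -1)], [(119, 1)], [(121, 1)], [(123, -1)], [(122, 1)], [(124, 1)], [(125, 1)], [(127, -1)], [(126, 1)], [(128, 1)], [(129, 1)], [(130, 1)], [(131, 1)], [(132, 1)]]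

/-- The matrices of the `n_i`, stored by columns and by rows. -/
def nLits : NLits :=
  [(Nc0, Nr0), (Nc1, Nr1), (Nc2, Nr2), (Nc3, Nr3), (Nc4, Nr4), (Nc5, Nr5), (Nc6, Nr6)]

/-- Part 0 of the reachability certificate. -/
def treeChunk0 : List (ℕ × ℕ × ℤ) :=
  [(2, 93, 1), (2, 32, 1), (3, 78, 1), (3, 47, 1), (3, 73, 1), (3, 52, 1), (4, 69, 1), (4, 56, 1), (5, 66, 1), (5, 59, 1), (6, 64, 1), (6, 61, 1), (3, 94, 1), (3, 31, 1), (2, 79, 1), (4, 79, 1)]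

/-- Part 1 of the reachability certificate. -/
def treeChunk1 : List (ℕ × ℕ × ℤ) :=
  [(2, 46, 1), (4, 46, 1), (4, 74, 1), (4, 51, 1), (5, 70, 1), (5, 55, 1), (6, 67, 1), (6, 58, 1), (1, 95, 1), (4, 95, 1), (1, 30, 1), (4, 30, 1), (4, 83, 1), (5, 80, 1), (4, 42, 1), (5, 45, 1)]

/-- Part 2 of the reachability certificate. -/
def treeChunk2 : List (ℕ × ℕ × ℤ) :=
  [(5, 75, 1), (5, 50, 1), (6, 71, 1), (6, 54, 1), (4, 99, 1), (5, 96, 1), (4, 26, 1), (5, 29, 1), (3, 84, 1), (5, 84, 1), (6, 81, 1), (3, 41, 1), (5, 41, 1), (6, 44, 1), (6, 76, 1), (6, 49, 1)]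

/-- Part 3 of the reachability certificate. -/
def treeChunk3 : List (ℕ × ℕ × ℤ) :=
  [(3, 100, 1), (5, 100, 1), (6, 97, 1), (3, 25, 1), (5, 25, 1), (6, 28, 1), (5, 87, 1), (6, 85, 1), (5, 38, 1), (6, 40, 1), (2, 103, 1), (5, 103, 1), (6, 101, 1), (2, 22, 1), (5, 22, 1), (6, 24, 1)]

/-- Part 4 of the reachability certificate. -/
def treeChunk4 : List (ℕ × ℕ × ℤ) :=
  [(4, 88, 1), (6, 88, 1), (4, 37, 1), (6, 37, 1), (5, 109, 1), (4, 104, 1), (6, 104, 1), (5, 16, 1), (4, 21, 1), (6, 21, 1), (6, 90, 1), (6, 35, 1), (4, 110, 1), (6, 110, 1), (6, 106, 1), (4, 15, 1)]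

/-- Part 5 of the reachability certificate. -/
def treeChunk5 : List (ℕ × ℕ × ℤ) :=
  [(6, 15, 1), (6, 19, 1), (5, 91, 1), (5, 34, 1), (3, 112, 1), (6, 112, 1), (5, 107, 1), (3, 13, 1), (6, 13, 1), (5, 18, 1), (1, 115, 1), (6, 115, 1), (5, 113, 1), (1, 10, 1), (6, 10, 1), (5, 12, 1)]

/-- Part 6 of the reachability certificate. -/
def treeChunk6 : List (ℕ × ℕ × ℤ) :=
  [(6, 119, 1), (5, 116, 1), (6, 6, 1), (5, 9, 1), (5, 120, 1), (4, 117, 1), (5, 5, 1), (4, 8, 1), (4, 121, 1), (4, 4, 1), (3, 122, 1), (3, 3, 1), (2, 123, 1), (2, 2, 1), (0, 124, 1), (0, 1, 1)]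

/-- The reachability certificate: triples `(i, s, η)` with `n_i x_s(t) = x_{w_i s}(η t) n_i`. -/
def tree : List (ℕ × ℕ × ℤ) := treeChunk0 ++ (treeChunk1 ++ (treeChunk2 ++ (treeChunk3 ++ (treeChunk4 ++ (treeChunk5 ++ (treeChunk6))))))

theorem reachOK : reachCheck chevE7 tree = true := by decide +kernel

end Cfsg.Agent.Lib.Helper36_ChevDataE7Lits
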