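import Cfsg.Agent.Lib.Helper36_ChevDataE7H0
import Cfsg.Agent.Lib.Helper36_ChevDataE7H1
import Cfsg.Agent.Lib.Helper36_ChevDataE7H2
import Cfsg.Agent.Lib.Helper36_ChevDataE7H3

set_option autoImplicit false


/-! Type E7: the table checks for `n_p(c)` and `h_p(c)`, assembled. Generated file. -/

namespace Cfsg.Agent.Lib.Helper36_ChevDataE7H

open Cfsg Cfsg.Lie Cfsg.Agent.Lib.Helper36_ChevSparse Cfsg.Agent.Lib.Helper36_ChevCoeff
  Cfsg.Agent.Lib.Helper36_ChevCoo Cfsg.Agent.Lib.Helper36_ChevAdd Cfsg.Agent.Lib.Helper36_ChevIdx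
  Cfsg.Agent.Lib.Helper36_ChevWeyl Cfsg.Agent.Lib.Helper36_ChevGen Cfsg.Agent.Lib.Helper36_ChevH
  Cfsg.Agent.Lib.Helper36_ChevDataE7Lits

theorem hOK : ∀ i < chevE7.rank, nCheck chevE7 12 i (nLits.getD i ([], [])).1 = true ∧
    hCheck chevE7 12 i (nLits.getD i ([], [])).1 = true := by
  intro i hi
  have h : chevE7.rank = 7 := rfl
  rw [h] at hi
  interval_cases i
  · exact ⟨Helper36_ChevDataE7H0.nchk0, Helper36_ChevDataE7H0.hchk0⟩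
  · exact ⟨Helper36_ChevDataE7H0.nchk1, Helper36_ChevDataE7H0.hchk1⟩
  · exact ⟨Helper36_ChevDataE7H1.nchk2, Helper36_ChevDataE7H1.hchk2⟩
  · exact ⟨Helper36_ChevDataE7H1.nchk3, Helper36_ChevDataE7H1.hchk3⟩
  · exact ⟨Helper36_ChevDataE7H2.nchk4, Helper36_ChevDataE7H2.hchk4⟩
  · exact ⟨Helper36_ChevDataE7H2.nchk5, Helper36_ChevDataE7H2.hchk5⟩
  · exact ⟨Helper36_ChevDataE7H3.nchk6, Helper36_ChevDataE7H3.hchk6⟩

end Cfsg.Agent.Lib.Helper36_ChevDataE7H
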