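import Cfsg.Agent.Lib.Helper36_ChevConj
import Cfsg.Agent.Lib.Helper36_ChevDataE7Lits

set_option autoImplicit false
set_option Elab.async false

/-! Type E7: the table of signs, the monomial form of `n_i` and the properties of the signs. Generated file. -/

namespace Cfsg.Agent.Lib.Helper36_ChevDataE7EtaTbl

open Cfsg Cfsg.Lie Cfsg.Agent.Lib.Helper36_ChevSparse Cfsg.Agent.Lib.Helper36_ChevCoeff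
  Cfsg.Agent.Lib.Helper36_ChevCoo Cfsg.Agent.Lib.Helper36_ChevAdd Cfsg.Agent.Lib.Helper36_ChevIdx
  Cfsg.Agent.Lib.Helper36_ChevWeyl Cfsg.Agent.Lib.Helper36_ChevGen Cfsg.Agent.Lib.Helper36_ChevConj
  Cfsg.Agent.Lib.Helper36_ChevDataE7Lits

/-- The signs `η_{i,s}` in `n_i x_s(t) = x_{w_i s}(η_{i,s} t) n_i`, one list for each `i`. -/
def etaTable : List (List ℤ) :=
  [[-1, 1, 1, 1, 1, 1, 1, 1, 1, 1, 1, 1, 1, 1, 1, 1, 1, 1, 1, 1, 1, 1, 1, 1, 1, 1, 1, 1, 1, 1, 1, 1, -1, -1, -1, -1, -1, -1, -1, -1, -1, -1, -1, 1, 1, 1, 1, 1, -1, -1, -1, -1, -1, 1, 1, 1, 1, 1, 1, 1, 1, 1, 1, 1, 1, 1, 1, 1, 1, 1, 1, 1, 1, -1, -1, -1, -1, -1, 1, 1, 1, 1, 1, -1, -1, -1, -1, -1, -1, -1, -1, -1, -1, -1, 1, 1, 1, 1, 1, 1, 1, 1, 1, 1, 1, 1, 1, 1, 1, 1, 1, 1, 1, 1, 1, 1, 1, 1, 1, 1, 1, 1, 1, 1, 1, -1],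
   [1, 1, 1, -1, -1, -1, -1, 1, 1, 1, 1, 1, 1, 1, 1, 1, 1, 1, 1, 1, 1, 1, 1, -1, -1, -1, -1, 1, 1, 1, 1, 1, 1, 1, 1, 1, 1, 1, 1, -1, -1, -1, -1, 1, 1, 1, 1, -1, 1, 1, 1, 1, 1, -1, -1, -1, -1, 1, 1, 1, 1, 1, 1, 1, 1, 1, 1, 1, 1, -1, -1, -1, -1, 1, 1, 1, 1, 1, -1, 1, 1, 1, 1, -1, -1, -1, -1, 1, 1, 1, 1, 1, 1, 1, 1, 1, 1, 1, 1, -1, -1, -1, -1, 1, 1, 1, 1, 1, 1, 1, 1, 1, 1, 1, 1, 1, 1, 1, 1, -1, -1, -1, -1, 1, 1, 1],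
   [1, -1, 1, 1, 1, 1, 1, 1, 1, 1, 1, -1, -1, -1, -1, -1, -1, 1, 1, 1, 1, 1, 1, 1, 1, 1, 1, 1, 1, 1, 1, -1, 1, 1, 1, 1, 1, 1, 1, -1, -1, -1, -1, 1, 1, 1, 1, 1, 1, 1, 1, 1, -1, -1, -1, -1, -1, 1, 1, 1, 1, 1, 1, 1, 1, 1, 1, 1, 1, -1, -1, -1, -1, -1, 1, 1, 1, 1, 1, 1, 1, 1, 1, -1, -1, -1, -1, 1, 1, 1, 1, 1, 1, 1, -1, 1, 1, 1, 1, 1, 1, 1, 1, 1, 1, 1, 1, 1, 1, -1, -1, -1, -1, -1, -1, 1, 1, 1, 1, 1, 1, 1, 1, 1, -1, 1],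
   [1, 1, -1, 1, 1, 1, 1, 1, -1, -1, -1, 1, 1, 1, 1, 1, 1, 1, 1, 1, -1, -1, -1, 1, 1, 1, 1, 1, 1, 1, -1, 1, 1, 1, 1, 1, -1, -1, -1, 1, 1, 1, 1, 1, 1, 1, -1, 1, 1, 1, 1, -1, 1, 1, 1, 1, -1, -1, -1, -1, 1, 1, 1, 1, 1, 1, -1, -1, -1, -1, 1, 1, 1, 1, -1, 1, 1, 1, 1, -1, 1, 1, 1, 1, 1, 1, 1, -1, -1, -1, 1, 1, 1, 1, 1, -1, 1, 1, 1, 1, 1, 1, 1, -1, -1, -1, 1, 1, 1, 1, 1, 1, 1, 1, 1, -1, -1, -1, 1, 1, 1, 1, 1, -1, 1, 1],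
   [1, 1, 1, -1, 1, 1, 1, -1, 1, 1, 1, 1, -1, -1, 1, 1, 1, 1, -1, -1, 1, 1, 1, 1, 1, -1, 1, 1, 1, -1, 1, 1, 1, 1, -1, -1, 1, 1, 1, 1, 1, -1, 1, 1, 1, -1, 1, 1, 1, 1, -1, 1, 1, 1, 1, -1, 1, 1, 1, -1, -1, -1, 1, 1, -1, -1, -1, 1, 1, 1, -1, 1, 1, 1, 1, -1, 1, 1, 1, 1, -1, 1, 1, 1, -1, 1, 1, 1, 1, 1, -1, -1, 1, 1, 1, 1, -1, 1, 1, 1, -1, 1, 1, 1, 1, 1, -1, -1, 1, 1, 1, 1, -1, -1, 1, 1, 1, 1, -1, 1, 1, 1, -1, 1, 1, 1],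
   [1, 1, 1, 1, -1, 1, 1, 1, -1, 1, 1, -1, 1, 1, 1, -1, 1, -1, 1, 1, 1, -1, 1, 1, -1, 1, 1, 1, -1, 1, 1, 1, 1, -1, 1, 1, 1, -1, 1, 1, -1, 1, 1, 1, -1, 1, 1, 1, 1, -1, 1, 1, 1, 1, -1, 1, 1, 1, -1, 1, 1, -1, -1, -1, -1, 1, 1, -1, 1, 1, 1, -1, 1, 1, 1, 1, -1, 1, 1, 1, 1, -1, 1, 1, 1, -1, 1, 1, -1, 1, 1, 1, -1, 1, 1, 1, 1, -1, 1, 1, 1, -1, 1, 1, -1, 1, 1, 1, -1, 1, -1, 1, 1, 1, -1, 1, 1, -1, 1, 1, 1, -1, 1, 1, 1, 1],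
   [1, 1, 1, 1, 1, -1, 1, 1, 1, -1, 1, 1, -1, 1, -1, 1, 1, 1, -1, 1, -1, 1, 1, -1, 1, 1, 1, -1, 1, 1, 1, 1, 1, 1, -1, 1, -1, 1, 1, -1, 1, 1, 1, -1, 1, 1, 1, 1, -1, 1, 1, 1, 1, -1, 1, 1, 1, -1, 1, 1, -1, 1, -1, -1, 1, -1, 1, 1, -1, 1, 1, 1, -1, 1, 1, 1, 1, -1, 1, 1, 1, 1, -1, 1, 1, 1, -1, 1, 1, -1, 1, -1, 1, 1, 1, 1, 1, 1, -1, 1, 1, 1, -1, 1, 1, -1, 1, -1, 1, 1, 1, -1, 1, -1, 1, 1, -1, 1, 1, 1, -1, 1, 1, 1, 1, 1]]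

theorem mono0 : monoCheck chevE7 0 Nc0 (etaTable.getD 0 []) = true := by decide +kernel

theorem etaProps0 : etaPropsCheck chevE7 0 (etaTable.getD 0 []) = true := by decide +kernel

theorem mono1 : monoCheck chevE7 1 Nc1 (etaTable.getD 1 []) = true := by decide +kernel

theorem etaProps1 : etaPropsCheck chevE7 1 (etaTable.getD 1 []) = true := by decide +kernel

theorem mono2 : monoCheck chevE7 2 Nc2 (etaTable.getD 2 []) = true := by decide +kernel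

theorem etaProps2 : etaPropsCheck chevE7 2 (etaTable.getD 2 []) = true := by decide +kernel

theorem mono3 : monoCheck chevE7 3 Nc3 (etaTable.getD 3 []) = true := by decide +kernel

theorem etaProps3 : etaPropsCheck chevE7 3 (etaTable.getD 3 []) = true := by decide +kernel

theorem mono4 : monoCheck chevE7 4 Nc4 (etaTable.getD 4 []) = true := by decide +kernel

theorem etaProps4 : etaPropsCheck chevE7 4 (etaTable.getD 4 []) = true := by decide +kernel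

theorem mono5 : monoCheck chevE7 5 Nc5 (etaTable.getD 5 []) = true := by decide +kernel

theorem etaProps5 : etaPropsCheck chevE7 5 (etaTable.getD 5 []) = true := by decide +kernel

theorem mono6 : monoCheck chevE7 6 Nc6 (etaTable.getD 6 []) = true := by decide +kernel

theorem etaProps6 : etaPropsCheck chevE7 6 (etaTable.getD 6 []) = true := by decide +kernel

theorem monoOK : ∀ i < chevE7.rank, monoCheck chevE7 i (nLits.getD i ([], [])).1 (etaTable.getD i []) = true ∧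
    etaPropsCheck chevE7 i (etaTable.getD i []) = true := by
  intro i hi
  have h : chevE7.rank = 7 := rfl
  rw [h] at hi
  interval_cases i
  · exact ⟨mono0, etaProps0⟩
  · exact ⟨mono1, etaProps1⟩
  · exact ⟨mono2, etaProps2⟩
  · exact ⟨mono3, etaProps3⟩
  · exact ⟨mono4, etaProps4⟩
  · exact ⟨mono5, etaProps5⟩
  · exact ⟨mono6, etaProps6⟩

end Cfsg.Agent.Lib.Helper36_ChevDataE7EtaTbl
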