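import Cfsg.Agent.Lib.Helper36_ChevDataE7HA0
import Cfsg.Agent.Lib.Helper36_ChevDataE7HA1
import Cfsg.Agent.Lib.Helper36_ChevDataE7
import Cfsg.Agent.Lib.Helper36_ChevDataE7H

set_option autoImplicit false
set_option Elab.async false

/-! Type E7: `n_r(c)` and `h_r(c)` for all roots, assembled. Generated file. -/

namespace Cfsg.Agent.Lib.Helper36_ChevDataE7HA

open Cfsg Cfsg.Lie Cfsg.Agent.Lib.Helper36_ChevSparse Cfsg.Agent.Lib.Helper36_ChevCoeff
  Cfsg.Agent.Lib.Helper36_ChevCoo Cfsg.Agent.Lib.Helper36_ChevAdd Cfsg.Agent.Lib.Helper36_ChevIdx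
  Cfsg.Agent.Lib.Helper36_ChevWeyl Cfsg.Agent.Lib.Helper36_ChevGen Cfsg.Agent.Lib.Helper36_ChevConj Cfsg.Agent.Lib.Helper36_ChevH
  Cfsg.Agent.Lib.Helper36_ChevHAll
  Cfsg.Agent.Lib.Helper36_ChevDataE7EtaTbl

theorem fundOK : FundOK chevE7 Helper36_ChevDataE7.nLits 12 etaTable := by
  intro i hi
  have h : chevE7.rank = 7 := rfl
  rw [h] at hi
  interval_cases i
  · exact Helper36_ChevDataE7HA0.fund0
  · exact Helper36_ChevDataE7HA0.fund1
  · exact Helper36_ChevDataE7HA0.fund2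
  · exact Helper36_ChevDataE7HA0.fund3
  · exact Helper36_ChevDataE7HA1.fund4
  · exact Helper36_ChevDataE7HA1.fund5
  · exact Helper36_ChevDataE7HA1.fund6

theorem treeSym : treeSymCheck chevE7 Helper36_ChevDataE7.tree = true := by decide +kernel

/-- Type E7: `n_i h_{p_j}(t) = h_{w_i p_j}(t) n_i`. -/
theorem n_mul_h (F : Type*) [Field F] (i j : ℕ) (hi : i < chevE7.rank) (hj : j < chevE7.rank) (t : F) (ht : t ≠ 0) :
    chevE7.nMat F (chevE7.simple i) 1 * chevE7.hMat F (chevE7.simple j) t =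
      chevE7.hMat F (chevE7.reflectRoot i (chevE7.simple j)) t * chevE7.nMat F (chevE7.simple i) 1 :=
  n_mul_h_fund chevE7 Helper36_ChevDataE7.lenOK Helper36_ChevDataE7.addOK Helper36_ChevDataE7.simpleOK Helper36_ChevDataE7.nLits Helper36_ChevDataE7.nLitOK F 12 12 Helper36_ChevDataE7H.hOK etaTable fundOK
    i j hi hj t ht

/-- Type E7: for every root `r` the squares `n_r(c)²` do not depend on `c`, and `h_r` is multiplicative. -/
theorem goodH (F : Type*) [Field F] (r : ℕ) (hr : r < chevE7.nroots) : GoodH chevE7 F r :=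
  goodH_all chevE7 Helper36_ChevDataE7.lenOK Helper36_ChevDataE7.addOK Helper36_ChevDataE7.simpleOK Helper36_ChevDataE7.nLits Helper36_ChevDataE7.nLitOK F 12 12 Helper36_ChevDataE7H.hOK etaTable fundOK
    Helper36_ChevDataE7.tree Helper36_ChevDataE7.pairsOK treeSym Helper36_ChevDataE7.reachOK r hr

end Cfsg.Agent.Lib.Helper36_ChevDataE7HA
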