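import Cfsg.Agent.Lib.Helper36_ChevAdd
import Cfsg.Prelude.Def_ChevE8

set_option autoImplicit false
set_option Elab.async false

/-! Additivity relations for the roots 30 ≤ r < 60 of type E8. Generated file. -/

namespace Cfsg.Agent.Lib.Helper36_ChevDataE8Add1

open Cfsg Cfsg.Lie Cfsg.Agent.Lib.Helper36_ChevAdd

theorem addOK_30_36 : AddOKRange chevE8 30 36 := by decide +kernel

theorem addOK_36_42 : AddOKRange chevE8 36 42 := by decide +kernel

theorem addOK_42_48 : AddOKRange chevE8 42 48 := by decide +kernel

theorem addOK_48_54 : AddOKRange chevE8 48 54 := by decide +kernel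

theorem addOK_54_60 : AddOKRange chevE8 54 60 := by decide +kernel

theorem addOK : AddOKRange chevE8 30 60 := addOKRange_trans chevE8 (addOKRange_trans chevE8 (addOKRange_trans chevE8 (addOKRange_trans chevE8 (addOK_30_36) addOK_36_42) addOK_42_48) addOK_48_54) addOK_54_60

end Cfsg.Agent.Lib.Helper36_ChevDataE8Add1
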