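import Cfsg.Agent.Lib.Helper36_ChevAdd
import Cfsg.Prelude.Def_ChevE8

set_option autoImplicit false
set_option Elab.async false

/-! Additivity relations for the roots 60 ≤ r < 90 of type E8. Generated file. -/

namespace Cfsg.Agent.Lib.Helper36_ChevDataE8Add2

open Cfsg Cfsg.Lie Cfsg.Agent.Lib.Helper36_ChevAdd

theorem addOK_60_66 : AddOKRange chevE8 60 66 := by decide +kernel

theorem addOK_66_72 : AddOKRange chevE8 66 72 := by decide +kernel

theorem addOK_72_78 : AddOKRange chevE8 72 78 := by decide +kernel

theorem addOK_78_84 : AddOKRange chevE8 78 84 := by decide +kernel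

theorem addOK_84_90 : AddOKRange chevE8 84 90 := by decide +kernel

theorem addOK : AddOKRange chevE8 60 90 := addOKRange_trans chevE8 (addOKRange_trans chevE8 (addOKRange_trans chevE8 (addOKRange_trans chevE8 (addOK_60_66) addOK_66_72) addOK_72_78) addOK_78_84) addOK_84_90

end Cfsg.Agent.Lib.Helper36_ChevDataE8Add2
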