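import Cfsg.Agent.Lib.Helper36_ChevAdd
import Cfsg.Prelude.Def_ChevE8

set_option autoImplicit false
set_option Elab.async false

/-! Additivity relations for the roots 90 ≤ r < 120 of type E8. Generated file. -/

namespace Cfsg.Agent.Lib.Helper36_ChevDataE8Add3

open Cfsg Cfsg.Lie Cfsg.Agent.Lib.Helper36_ChevAdd

theorem addOK_90_96 : AddOKRange chevE8 90 96 := by decide +kernel

theorem addOK_96_102 : AddOKRange chevE8 96 102 := by decide +kernel

theorem addOK_102_108 : AddOKRange chevE8 102 108 := by decide +kernel

theorem addOK_108_114 : AddOKRange chevE8 108 114 := by decide +kernel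

theorem addOK_114_120 : AddOKRange chevE8 114 120 := by decide +kernel

theorem addOK : AddOKRange chevE8 90 120 := addOKRange_trans chevE8 (addOKRange_trans chevE8 (addOKRange_trans chevE8 (addOKRange_trans chevE8 (addOK_90_96) addOK_96_102) addOK_102_108) addOK_108_114) addOK_114_120

end Cfsg.Agent.Lib.Helper36_ChevDataE8Add3
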