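import Cfsg.Agent.Lib.Helper36_ChevAdd
import Cfsg.Prelude.Def_ChevE8

set_option autoImplicit false
set_option Elab.async false

/-! Additivity relations for the roots 120 ≤ r < 150 of type E8. Generated file. -/

namespace Cfsg.Agent.Lib.Helper36_ChevDataE8Add4

open Cfsg Cfsg.Lie Cfsg.Agent.Lib.Helper36_ChevAdd

theorem addOK_120_126 : AddOKRange chevE8 120 126 := by decide +kernel

theorem addOK_126_132 : AddOKRange chevE8 126 132 := by decide +kernel

theorem addOK_132_138 : AddOKRange chevE8 132 138 := by decide +kernel

theorem addOK_138_144 : AddOKRange chevE8 138 144 := by decide +kernel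

theorem addOK_144_150 : AddOKRange chevE8 144 150 := by decide +kernel

theorem addOK : AddOKRange chevE8 120 150 := addOKRange_trans chevE8 (addOKRange_trans chevE8 (addOKRange_trans chevE8 (addOKRange_trans chevE8 (addOK_120_126) addOK_126_132) addOK_132_138) addOK_138_144) addOK_144_150

end Cfsg.Agent.Lib.Helper36_ChevDataE8Add4
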