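import Cfsg.Agent.Lib.Helper36_ChevAdd
import Cfsg.Prelude.Def_ChevE8

set_option autoImplicit false
set_option Elab.async false

/-! Additivity relations for the roots 150 ≤ r < 180 of type E8. Generated file. -/

namespace Cfsg.Agent.Lib.Helper36_ChevDataE8Add5

open Cfsg Cfsg.Lie Cfsg.Agent.Lib.Helper36_ChevAdd

theorem addOK_150_156 : AddOKRange chevE8 150 156 := by decide +kernel

theorem addOK_156_162 : AddOKRange chevE8 156 162 := by decide +kernel

theorem addOK_162_168 : AddOKRange chevE8 162 168 := by decide +kernel

theorem addOK_168_174 : AddOKRange chevE8 168 174 := by decide +kernel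

theorem addOK_174_180 : AddOKRange chevE8 174 180 := by decide +kernel

theorem addOK : AddOKRange chevE8 150 180 := addOKRange_trans chevE8 (addOKRange_trans chevE8 (addOKRange_trans chevE8 (addOKRange_trans chevE8 (addOK_150_156) addOK_156_162) addOK_162_168) addOK_168_174) addOK_174_180

end Cfsg.Agent.Lib.Helper36_ChevDataE8Add5
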