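import Cfsg.Agent.Lib.Helper36_ChevAdd
import Cfsg.Prelude.Def_ChevE8

set_option autoImplicit false
set_option Elab.async false

/-! Additivity relations for the roots 180 ≤ r < 210 of type E8. Generated file. -/

namespace Cfsg.Agent.Lib.Helper36_ChevDataE8Add6

open Cfsg Cfsg.Lie Cfsg.Agent.Lib.Helper36_ChevAdd

theorem addOK_180_186 : AddOKRange chevE8 180 186 := by decide +kernel

theorem addOK_186_192 : AddOKRange chevE8 186 192 := by decide +kernel

theorem addOK_192_198 : AddOKRange chevE8 192 198 := by decide +kernel

theorem addOK_198_204 : AddOKRange chevE8 198 204 := by decide +kernel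

theorem addOK_204_210 : AddOKRange chevE8 204 210 := by decide +kernel

theorem addOK : AddOKRange chevE8 180 210 := addOKRange_trans chevE8 (addOKRange_trans chevE8 (addOKRange_trans chevE8 (addOKRange_trans chevE8 (addOK_180_186) addOK_186_192) addOK_192_198) addOK_198_204) addOK_204_210

end Cfsg.Agent.Lib.Helper36_ChevDataE8Add6
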