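import Cfsg.Agent.Lib.Helper36_ChevAdd
import Cfsg.Prelude.Def_ChevE8

set_option autoImplicit false
set_option Elab.async false

/-! Additivity relations for the roots 210 ≤ r < 240 of type E8. Generated file. -/

namespace Cfsg.Agent.Lib.Helper36_ChevDataE8Add7

open Cfsg Cfsg.Lie Cfsg.Agent.Lib.Helper36_ChevAdd

theorem addOK_210_216 : AddOKRange chevE8 210 216 := by decide +kernel

theorem addOK_216_222 : AddOKRange chevE8 216 222 := by decide +kernel

theorem addOK_222_228 : AddOKRange chevE8 222 228 := by decide +kernel

theorem addOK_228_234 : AddOKRange chevE8 228 234 := by decide +kernel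

theorem addOK_234_240 : AddOKRange chevE8 234 240 := by decide +kernel

theorem addOK : AddOKRange chevE8 210 240 := addOKRange_trans chevE8 (addOKRange_trans chevE8 (addOKRange_trans chevE8 (addOKRange_trans chevE8 (addOK_210_216) addOK_216_222) addOK_222_228) addOK_228_234) addOK_234_240

end Cfsg.Agent.Lib.Helper36_ChevDataE8Add7
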