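import Cfsg.Agent.Lib.Helper36_ChevDataE8Add0
import Cfsg.Agent.Lib.Helper36_ChevDataE8Add1
import Cfsg.Agent.Lib.Helper36_ChevDataE8Add2
import Cfsg.Agent.Lib.Helper36_ChevDataE8Add3
import Cfsg.Agent.Lib.Helper36_ChevDataE8Add4
import Cfsg.Agent.Lib.Helper36_ChevDataE8Add5
import Cfsg.Agent.Lib.Helper36_ChevDataE8Add6
import Cfsg.Agent.Lib.Helper36_ChevDataE8Add7

set_option autoImplicit false


/-! Chain lengths and additivity relations for all roots of type E8, assembled from the pieces. Generated file. -/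

namespace Cfsg.Agent.Lib.Helper36_ChevDataE8Add

open Cfsg Cfsg.Lie Cfsg.Agent.Lib.Helper36_ChevCoeff Cfsg.Agent.Lib.Helper36_ChevAdd

theorem lenOK : ChainLenOK chevE8 := by decide +kernel

theorem addOK : AddOK chevE8 := by
  apply addOK_of_range
  have h : chevE8.nroots = 240 := rfl
  rw [h]
  exact addOKRange_trans chevE8 (addOKRange_trans chevE8 (addOKRange_trans chevE8 (addOKRange_trans chevE8 (addOKRange_trans chevE8 (addOKRange_trans chevE8 (addOKRange_trans chevE8 (Helper36_ChevDataE8Add0.addOK) Helper36_ChevDataE8Add1.addOK) Helper36_ChevDataE8Add2.addOK) Helper36_ChevDataE8Add3.addOK) Helper36_ChevDataE8Add4.addOK) Helper36_ChevDataE8Add5.addOK) Helper36_ChevDataE8Add6.addOK) Helper36_ChevDataE8Add7.addOK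

end Cfsg.Agent.Lib.Helper36_ChevDataE8Add
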