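import Cfsg.Agent.Lib.Helper36_ChevAdd
import Cfsg.Prelude.Def_ChevE8

set_option autoImplicit false
set_option Elab.async false

/-! Additivity relations for the roots 0 ≤ r < 30 of type E8. Generated file. -/

namespace Cfsg.Agent.Lib.Helper36_ChevDataE8Add0

open Cfsg Cfsg.Lie Cfsg.Agent.Lib.Helper36_ChevAdd

theorem addOK_0_6 : AddOKRange chevE8 0 6 := by decide +kernel

theorem addOK_6_12 : AddOKRange chevE8 6 12 := by decide +kernel

theorem addOK_12_18 : AddOKRange chevE8 12 18 := by decide +kernel

theorem addOK_18_24 : AddOKRange chevE8 18 24 := by decide +kernel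

theorem addOK_24_30 : AddOKRange chevE8 24 30 := by decide +kernel

theorem addOK : AddOKRange chevE8 0 30 := addOKRange_trans chevE8 (addOKRange_trans chevE8 (addOKRange_trans chevE8 (addOKRange_trans chevE8 (addOK_0_6) addOK_6_12) addOK_12_18) addOK_18_24) addOK_24_30

end Cfsg.Agent.Lib.Helper36_ChevDataE8Add0
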