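import Cfsg.Agent.Lib.Helper36_ChevDataE8Lits

set_option autoImplicit false
set_option Elab.async false

/-! Check of the literal matrices of `n_i` for i in [2, 3], type E8. Generated file. -/

namespace Cfsg.Agent.Lib.Helper36_ChevDataE8N1

open Cfsg Cfsg.Lie Cfsg.Agent.Lib.Helper36_ChevSparse Cfsg.Agent.Lib.Helper36_ChevCoeff
  Cfsg.Agent.Lib.Helper36_ChevCoo Cfsg.Agent.Lib.Helper36_ChevAdd Cfsg.Agent.Lib.Helper36_ChevIdx
  Cfsg.Agent.Lib.Helper36_ChevWeyl Cfsg.Agent.Lib.Helper36_ChevGen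

/-- Literal table: the matrix of `x_{p_i}(1)` by columns, `i = 2`. -/
def X1c2 : Idxd :=
  [[(0, 1), (143, 1)], [(1, 1)], [(2, 1), (143, -2)], [(3, 1), (143, 1)], [(4, 1)], [(5, 1)], [(6, 1)], [(7, 1)], [(8, 1)], [(9, 1)], [(10, 1)], [(11, 1)], [(12, 1)], [(13, 1), (14, -1)], [(14, 1)], [(15, 1), (16, -1)], [(16, 1)], [(17, 1)], [(18, 1)], [(19, 1)], [(20, 1)], [(21, 1)], [(22, 1)], [(23, 1)], [(24, 1), (29, -1)], [(25, 1), (30, -1)], [(26, 1), (31, -1)], [(27, 1), (32, -1)], [(28, 1), (33, -1)], [(29, 1)], [(30, 1)], [(31, 1)], [(32, 1)], [(33, 1)], [(34, 1)], [(35, 1)], [(36, 1)], [(37, 1)], [(38, 1)], [(39, 1)], [(40, 1)], [(41, 1)], [(42, 1)], [(43, 1)], [(44, 1)], [(45, 1)], [(46, 1)], [(47, 1)], [(48, 1)], [(49, 1)], [(50, 1)], [(51, 1)], [(52, 1)], [(53, 1)], [(54, 1), (64, -1)], [(55, 1), (65, -1)], [(56, 1), (66, -1)], [(57, 1), (67, -1)], [(58, 1), (68, -1)], [(59, 1),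 (69, -1)], [(60, 1), (70, -1)], [(61, 1), (71, -1)], [(62, 1), (72, -1)], [(63, 1), (73, -1)], [(64, 1)], [(65, 1)], [(66, 1)], [(67, 1)], [(68, 1)], [(69, 1)], [(70, 1)], [(71, 1)], [(72, 1)], [(73, 1)], [(74, 1)], [(75, 1)], [(76, 1)], [(77, 1)], [(78, 1)], [(79, 1)], [(80, 1)], [(81, 1)], [(82, 1)], [(83, 1)], [(84, 1), (85, -1)], [(85, 1)], [(86, 1)], [(87, 1)], [(88, 1)], [(89, 1)], [(90, 1)], [(91, 1)], [(92, 1)], [(93, 1)], [(94, 1)], [(95, 1)], [(96, 1), (101, -1)], [(97, 1), (102, -1)], [(98, 1), (103, -1)], [(99, 1), (104, -1)], [(100, 1), (105, -1)], [(101, 1)], [(102, 1)], [(103, 1)], [(104, 1)], [(105, 1)], [(106, 1)], [(107, 1), (113, 1)], [(108, 1), (114, 1)], [(109, 1), (115, 1)], [(110, 1), (116, 1)], [(111, 1), (117, 1)], [(2, 1), (112, 1), (143, -1)], [(113, 1)], [(114, 1)], [(115, 1)], [(116, 1)], [(117, 1)], [(118, 1)], [(119, 1)], [(120, 1)], [(121, 1)], [(122,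 1)], [(123, 1)], [(124, 1)], [(125, 1)], [(126, 1)], [(127, 1)], [(128, 1)], [(129, 1)], [(130, 1)], [(131, 1)], [(132, 1)], [(133, 1)], [(134, 1)], [(135, 1)], [(136, 1)], [(137, 1)], [(138, 1), (144, -1)], [(139, 1), (145, -1)], [(140, 1), (146, -1)], [(141, 1), (147, -1)], [(142, 1), (148, -1)], [(143, 1)], [(144, 1)], [(145, 1)], [(146, 1)], [(147, 1)], [(148, 1)], [(149, 1)], [(150, 1), (155, 1)], [(151, 1), (156, 1)], [(152, 1), (157, 1)], [(153, 1), (158, 1)], [(154, 1), (159, 1)], [(155, 1)], [(156, 1)], [(157, 1)], [(158, 1)], [(159, 1)], [(160, 1)], [(161, 1)], [(162, 1)], [(163, 1)], [(164, 1)], [(165, 1)], [(166, 1)], [(167, 1)], [(168, 1)], [(169, 1)], [(170, 1), (171, 1)], [(171, 1)], [(172, 1)], [(173, 1)], [(174, 1)], [(175, 1)], [(176, 1)], [(177, 1)], [(178, 1)], [(179, 1)], [(180, 1)], [(181, 1)], [(182, 1), (192, 1)], [(183, 1), (193, 1)], [(184, 1), (194, 1)],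 [(185, 1), (195, 1)], [(186, 1), (196, 1)], [(187, 1), (197, 1)], [(188, 1), (198, 1)], [(189, 1), (199, 1)], [(190, 1), (200, 1)], [(191, 1), (201, 1)], [(192, 1)], [(193, 1)], [(194, 1)], [(195, 1)], [(196, 1)], [(197, 1)], [(198, 1)], [(199, 1)], [(200, 1)], [(201, 1)], [(202, 1)], [(203, 1)], [(204, 1)], [(205, 1)], [(206, 1)], [(207, 1)], [(208, 1)], [(209, 1)], [(210, 1)], [(211, 1)], [(212, 1)], [(213, 1)], [(214, 1)], [(215, 1)], [(216, 1)], [(217, 1)], [(218, 1)], [(219, 1)], [(220, 1)], [(221, 1)], [(222, 1), (227, 1)], [(223, 1), (228, 1)], [(224, 1), (229, 1)], [(225, 1), (230, 1)], [(226, 1), (231, 1)], [(227, 1)], [(228, 1)], [(229, 1)], [(230, 1)], [(231, 1)], [(232, 1)], [(233, 1)], [(234, 1)], [(235, 1)], [(236, 1)], [(237, 1)], [(238, 1)], [(239, 1), (240, 1)], [(240, 1)], [(241, 1), (242, 1)], [(242, 1)], [(243, 1)], [(244, 1)], [(245, 1)], [(246, 1)], [(247, 1)]]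

/-- Literal table: the matrix of `x_{-p_i}(-1)` by columns, `i = 2`. -/
def X2c2 : Idxd :=
  [[(0, 1), (112, 1)], [(1, 1)], [(2, 1), (112, -2)], [(3, 1), (112, 1)], [(4, 1)], [(5, 1)], [(6, 1)], [(7, 1)], [(8, 1)], [(9, 1)], [(10, 1)], [(11, 1)], [(12, 1)], [(13, 1)], [(13, 1), (14, 1)], [(15, 1)], [(15, 1), (16, 1)], [(17, 1)], [(18, 1)], [(19, 1)], [(20, 1)], [(21, 1)], [(22, 1)], [(23, 1)], [(24, 1)], [(25, 1)], [(26, 1)], [(27, 1)], [(28, 1)], [(24, 1), (29, 1)], [(25, 1), (30, 1)], [(26, 1), (31, 1)], [(27, 1), (32, 1)], [(28, 1), (33, 1)], [(34, 1)], [(35, 1)], [(36, 1)], [(37, 1)], [(38, 1)], [(39, 1)], [(40, 1)], [(41, 1)], [(42, 1)], [(43, 1)], [(44, 1)], [(45, 1)], [(46, 1)], [(47, 1)], [(48, 1)], [(49, 1)], [(50, 1)], [(51, 1)], [(52, 1)], [(53, 1)], [(54, 1)], [(55, 1)], [(56, 1)], [(57, 1)], [(58, 1)], [(59, 1)], [(60, 1)], [(61, 1)], [(62, 1)], [(63, 1)], [(54, 1),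 (64, 1)], [(55, 1), (65, 1)], [(56, 1), (66, 1)], [(57, 1), (67, 1)], [(58, 1), (68, 1)], [(59, 1), (69, 1)], [(60, 1), (70, 1)], [(61, 1), (71, 1)], [(62, 1), (72, 1)], [(63, 1), (73, 1)], [(74, 1)], [(75, 1)], [(76, 1)], [(77, 1)], [(78, 1)], [(79, 1)], [(80, 1)], [(81, 1)], [(82, 1)], [(83, 1)], [(84, 1)], [(84, 1), (85, 1)], [(86, 1)], [(87, 1)], [(88, 1)], [(89, 1)], [(90, 1)], [(91, 1)], [(92, 1)], [(93, 1)], [(94, 1)], [(95, 1)], [(96, 1)], [(97, 1)], [(98, 1)], [(99, 1)], [(100, 1)], [(96, 1), (101, 1)], [(97, 1), (102, 1)], [(98, 1), (103, 1)], [(99, 1), (104, 1)], [(100, 1), (105, 1)], [(106, 1)], [(107, 1)], [(108, 1)], [(109, 1)], [(110, 1)], [(111, 1)], [(112, 1)], [(107, -1), (113, 1)], [(108, -1), (114, 1)], [(109, -1), (115, 1)], [(110, -1), (116, 1)], [(111, -1), (117, 1)], [(118, 1)], [(119, 1)], [(120, 1)], [(121, 1)], [(122, 1)], [(123, 1)], [(124, 1)], [(125,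 1)], [(126, 1)], [(127, 1)], [(128, 1)], [(129, 1)], [(130, 1)], [(131, 1)], [(132, 1)], [(133, 1)], [(134, 1)], [(135, 1)], [(136, 1)], [(137, 1)], [(138, 1)], [(139, 1)], [(140, 1)], [(141, 1)], [(142, 1)], [(2, 1), (112, -1), (143, 1)], [(138, 1), (144, 1)], [(139, 1), (145, 1)], [(140, 1), (146, 1)], [(141, 1), (147, 1)], [(142, 1), (148, 1)], [(149, 1)], [(150, 1)], [(151, 1)], [(152, 1)], [(153, 1)], [(154, 1)], [(150, -1), (155, 1)], [(151, -1), (156, 1)], [(152, -1), (157, 1)], [(153, -1), (158, 1)], [(154, -1), (159, 1)], [(160, 1)], [(161, 1)], [(162, 1)], [(163, 1)], [(164, 1)], [(165, 1)], [(166, 1)], [(167, 1)], [(168, 1)], [(169, 1)], [(170, 1)], [(170, -1), (171, 1)], [(172, 1)], [(173, 1)], [(174, 1)], [(175, 1)], [(176, 1)], [(177, 1)], [(178, 1)], [(179, 1)], [(180, 1)], [(181, 1)], [(182, 1)], [(183, 1)], [(184, 1)], [(185, 1)], [(186, 1)], [(187, 1)], [(188, 1)],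 [(189, 1)], [(190, 1)], [(191, 1)], [(182, -1), (192, 1)], [(183, -1), (193, 1)], [(184, -1), (194, 1)], [(185, -1), (195, 1)], [(186, -1), (196, 1)], [(187, -1), (197, 1)], [(188, -1), (198, 1)], [(189, -1), (199, 1)], [(190, -1), (200, 1)], [(191, -1), (201, 1)], [(202, 1)], [(203, 1)], [(204, 1)], [(205, 1)], [(206, 1)], [(207, 1)], [(208, 1)], [(209, 1)], [(210, 1)], [(211, 1)], [(212, 1)], [(213, 1)], [(214, 1)], [(215, 1)], [(216, 1)], [(217, 1)], [(218, 1)], [(219, 1)], [(220, 1)], [(221, 1)], [(222, 1)], [(223, 1)], [(224, 1)], [(225, 1)], [(226, 1)], [(222, -1), (227, 1)], [(223, -1), (228, 1)], [(224, -1), (229, 1)], [(225, -1), (230, 1)], [(226, -1), (231, 1)], [(232, 1)], [(233, 1)], [(234, 1)], [(235, 1)], [(236, 1)], [(237, 1)], [(238, 1)], [(239, 1)], [(239, -1), (240, 1)], [(241, 1)], [(241, -1), (242, 1)], [(243, 1)], [(244, 1)], [(245, 1)], [(246, 1)], [(247, 1)]]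

theorem nLit2 : NLitGood chevE8 2 Helper36_ChevDataE8Lits.Nc2 Helper36_ChevDataE8Lits.Nr2 :=
  nLitGood_of_check2 chevE8 12 2 X1c2 X2c2 Helper36_ChevDataE8Lits.Nc2 Helper36_ChevDataE8Lits.Nr2 (by decide +kernel)

/-- Literal table: the matrix of `x_{p_i}(1)` by columns, `i = 3`. -/
def X1c3 : Idxd :=
  [[(0, 1)], [(1, 1), (138, 1)], [(2, 1), (138, 1)], [(3, 1), (138, -2)], [(4, 1), (138, 1)], [(5, 1)], [(6, 1)], [(7, 1)], [(8, 1)], [(9, 1)], [(10, 1)], [(11, 1)], [(12, 1), (13, -1)], [(13, 1)], [(14, 1)], [(15, 1)], [(16, 1), (17, -1)], [(17, 1)], [(18, 1)], [(19, 1)], [(20, 1)], [(21, 1)], [(22, 1)], [(23, 1), (24, -1)], [(24, 1)], [(25, 1)], [(26, 1)], [(27, 1)], [(28, 1)], [(29, 1)], [(30, 1), (34, -1)], [(31, 1), (35, -1)], [(32, 1), (36, -1)], [(33, 1), (37, -1)], [(34, 1)], [(35, 1)], [(36, 1)], [(37, 1)], [(38, 1)], [(39, 1)], [(40, 1)], [(41, 1)], [(42, 1)], [(43, 1)], [(44,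 1)], [(45, 1)], [(46, 1)], [(47, 1)], [(48, 1), (54, -1)], [(49, 1), (55, -1)], [(50, 1), (56, -1)], [(51, 1), (57, -1)], [(52, 1), (58, -1)], [(53, 1), (59, -1)], [(54, 1)], [(55, 1)], [(56, 1)], [(57, 1)], [(58, 1)], [(59, 1)], [(60, 1)], [(61, 1)], [(62, 1)], [(63, 1)], [(64, 1)], [(65, 1)], [(66, 1)], [(67, 1)], [(68, 1)], [(69, 1)], [(70, 1), (74, -1)], [(71, 1), (75, -1)], [(72, 1), (76, -1)], [(73, 1), (77, -1)], [(74, 1)], [(75, 1)], [(76, 1)], [(77, 1)], [(78, 1)], [(79, 1)], [(80, 1)], [(81, 1)], [(82, 1)], [(83, 1), (84, -1)], [(84, 1)], [(85, 1)], [(86, 1)], [(87, 1)], [(88, 1)], [(89, 1)], [(90, 1)], [(91, 1)], [(92, 1), (96, -1)], [(93, 1), (97, -1)], [(94, 1), (98, -1)], [(95, 1), (99, -1)], [(96, 1)], [(97, 1)], [(98, 1)], [(99, 1)], [(100, 1)], [(101, 1)], [(102, 1)], [(103, 1)], [(104, 1)], [(105, 1), (106, -1)], [(106, 1)], [(107, 1)], [(108, 1)], [(109, 1)], [(110,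 1)], [(111, 1), (112, -1)], [(112, 1)], [(113, 1), (118, 1)], [(114, 1), (119, 1)], [(115, 1), (120, 1)], [(116, 1), (121, 1)], [(3, 1), (117, 1), (138, -1)], [(118, 1)], [(119, 1)], [(120, 1)], [(121, 1)], [(122, 1)], [(123, 1)], [(124, 1)], [(125, 1)], [(126, 1)], [(127, 1)], [(128, 1)], [(129, 1)], [(130, 1)], [(131, 1)], [(132, 1)], [(133, 1)], [(134, 1), (139, -1)], [(135, 1), (140, -1)], [(136, 1), (141, -1)], [(137, 1), (142, -1)], [(138, 1)], [(139, 1)], [(140, 1)], [(141, 1)], [(142, 1)], [(143, 1), (144, 1)], [(144, 1)], [(145, 1)], [(146, 1)], [(147, 1)], [(148, 1)], [(149, 1), (150, 1)], [(150, 1)], [(151, 1)], [(152, 1)], [(153, 1)], [(154, 1)], [(155, 1)], [(156, 1), (160, 1)], [(157, 1), (161, 1)], [(158, 1), (162, 1)], [(159, 1), (163, 1)], [(160, 1)], [(161, 1)], [(162, 1)], [(163, 1)], [(164, 1)], [(165, 1)], [(166, 1)], [(167, 1)], [(168, 1)], [(169, 1)], [(170,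 1)], [(171, 1), (172, 1)], [(172, 1)], [(173, 1)], [(174, 1)], [(175, 1)], [(176, 1)], [(177, 1)], [(178, 1), (182, 1)], [(179, 1), (183, 1)], [(180, 1), (184, 1)], [(181, 1), (185, 1)], [(182, 1)], [(183, 1)], [(184, 1)], [(185, 1)], [(186, 1)], [(187, 1)], [(188, 1)], [(189, 1)], [(190, 1)], [(191, 1)], [(192, 1)], [(193, 1)], [(194, 1)], [(195, 1)], [(196, 1), (202, 1)], [(197, 1), (203, 1)], [(198, 1), (204, 1)], [(199, 1), (205, 1)], [(200, 1), (206, 1)], [(201, 1), (207, 1)], [(202, 1)], [(203, 1)], [(204, 1)], [(205, 1)], [(206, 1)], [(207, 1)], [(208, 1)], [(209, 1)], [(210, 1)], [(211, 1)], [(212, 1)], [(213, 1)], [(214, 1)], [(215, 1)], [(216, 1)], [(217, 1)], [(218, 1), (222, 1)], [(219, 1), (223, 1)], [(220, 1), (224, 1)], [(221, 1), (225, 1)], [(222, 1)], [(223, 1)], [(224, 1)], [(225, 1)], [(226, 1)], [(227, 1)], [(228, 1)], [(229, 1)], [(230, 1)], [(231, 1), (232,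 1)], [(232, 1)], [(233, 1)], [(234, 1)], [(235, 1)], [(236, 1)], [(237, 1)], [(238, 1), (239, 1)], [(239, 1)], [(240, 1)], [(241, 1)], [(242, 1), (243, 1)], [(243, 1)], [(244, 1)], [(245, 1)], [(246, 1)], [(247, 1)]]

/-- Literal table: the matrix of `x_{-p_i}(-1)` by columns, `i = 3`. -/
def X2c3 : Idxd :=
  [[(0, 1)], [(1, 1), (117, 1)], [(2, 1), (117, 1)], [(3, 1), (117, -2)], [(4, 1), (117, 1)], [(5, 1)], [(6, 1)], [(7, 1)], [(8, 1)], [(9, 1)], [(10, 1)], [(11, 1)], [(12, 1)], [(12, 1), (13, 1)], [(14, 1)], [(15, 1)], [(16, 1)], [(16, 1), (17, 1)], [(18, 1)], [(19, 1)], [(20, 1)], [(21, 1)], [(22, 1)], [(23, 1)], [(23, 1), (24, 1)], [(25, 1)], [(26, 1)], [(27, 1)], [(28, 1)], [(29, 1)], [(30, 1)], [(31, 1)], [(32, 1)], [(33, 1)], [(30, 1), (34, 1)], [(31, 1), (35, 1)], [(32, 1), (36, 1)], [(33, 1), (37, 1)], [(38, 1)], [(39, 1)], [(40, 1)], [(41, 1)], [(42, 1)], [(43, 1)], [(44,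 1)], [(45, 1)], [(46, 1)], [(47, 1)], [(48, 1)], [(49, 1)], [(50, 1)], [(51, 1)], [(52, 1)], [(53, 1)], [(48, 1), (54, 1)], [(49, 1), (55, 1)], [(50, 1), (56, 1)], [(51, 1), (57, 1)], [(52, 1), (58, 1)], [(53, 1), (59, 1)], [(60, 1)], [(61, 1)], [(62, 1)], [(63, 1)], [(64, 1)], [(65, 1)], [(66, 1)], [(67, 1)], [(68, 1)], [(69, 1)], [(70, 1)], [(71, 1)], [(72, 1)], [(73, 1)], [(70, 1), (74, 1)], [(71, 1), (75, 1)], [(72, 1), (76, 1)], [(73, 1), (77, 1)], [(78, 1)], [(79, 1)], [(80, 1)], [(81, 1)], [(82, 1)], [(83, 1)], [(83, 1), (84, 1)], [(85, 1)], [(86, 1)], [(87, 1)], [(88, 1)], [(89, 1)], [(90, 1)], [(91, 1)], [(92, 1)], [(93, 1)], [(94, 1)], [(95, 1)], [(92, 1), (96, 1)], [(93, 1), (97, 1)], [(94, 1), (98, 1)], [(95, 1), (99, 1)], [(100, 1)], [(101, 1)], [(102, 1)], [(103, 1)], [(104, 1)], [(105, 1)], [(105, 1), (106, 1)], [(107, 1)], [(108, 1)], [(109, 1)], [(110, 1)], [(111,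 1)], [(111, 1), (112, 1)], [(113, 1)], [(114, 1)], [(115, 1)], [(116, 1)], [(117, 1)], [(113, -1), (118, 1)], [(114, -1), (119, 1)], [(115, -1), (120, 1)], [(116, -1), (121, 1)], [(122, 1)], [(123, 1)], [(124, 1)], [(125, 1)], [(126, 1)], [(127, 1)], [(128, 1)], [(129, 1)], [(130, 1)], [(131, 1)], [(132, 1)], [(133, 1)], [(134, 1)], [(135, 1)], [(136, 1)], [(137, 1)], [(3, 1), (117, -1), (138, 1)], [(134, 1), (139, 1)], [(135, 1), (140, 1)], [(136, 1), (141, 1)], [(137, 1), (142, 1)], [(143, 1)], [(143, -1), (144, 1)], [(145, 1)], [(146, 1)], [(147, 1)], [(148, 1)], [(149, 1)], [(149, -1), (150, 1)], [(151, 1)], [(152, 1)], [(153, 1)], [(154, 1)], [(155, 1)], [(156, 1)], [(157, 1)], [(158, 1)], [(159, 1)], [(156, -1), (160, 1)], [(157, -1), (161, 1)], [(158, -1), (162, 1)], [(159, -1), (163, 1)], [(164, 1)], [(165, 1)], [(166, 1)], [(167, 1)], [(168, 1)], [(169, 1)], [(170, 1)],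 [(171, 1)], [(171, -1), (172, 1)], [(173, 1)], [(174, 1)], [(175, 1)], [(176, 1)], [(177, 1)], [(178, 1)], [(179, 1)], [(180, 1)], [(181, 1)], [(178, -1), (182, 1)], [(179, -1), (183, 1)], [(180, -1), (184, 1)], [(181, -1), (185, 1)], [(186, 1)], [(187, 1)], [(188, 1)], [(189, 1)], [(190, 1)], [(191, 1)], [(192, 1)], [(193, 1)], [(194, 1)], [(195, 1)], [(196, 1)], [(197, 1)], [(198, 1)], [(199, 1)], [(200, 1)], [(201, 1)], [(196, -1), (202, 1)], [(197, -1), (203, 1)], [(198, -1), (204, 1)], [(199, -1), (205, 1)], [(200, -1), (206, 1)], [(201, -1), (207, 1)], [(208, 1)], [(209, 1)], [(210, 1)], [(211, 1)], [(212, 1)], [(213, 1)], [(214, 1)], [(215, 1)], [(216, 1)], [(217, 1)], [(218, 1)], [(219, 1)], [(220, 1)], [(221, 1)], [(218, -1), (222, 1)], [(219, -1), (223, 1)], [(220, -1), (224, 1)], [(221, -1), (225, 1)], [(226, 1)], [(227, 1)], [(228, 1)], [(229, 1)], [(230, 1)], [(231,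 1)], [(231, -1), (232, 1)], [(233, 1)], [(234, 1)], [(235, 1)], [(236, 1)], [(237, 1)], [(238, 1)], [(238, -1), (239, 1)], [(240, 1)], [(241, 1)], [(242, 1)], [(242, -1), (243, 1)], [(244, 1)], [(245, 1)], [(246, 1)], [(247, 1)]]

theorem nLit3 : NLitGood chevE8 3 Helper36_ChevDataE8Lits.Nc3 Helper36_ChevDataE8Lits.Nr3 :=
  nLitGood_of_check2 chevE8 12 3 X1c3 X2c3 Helper36_ChevDataE8Lits.Nc3 Helper36_ChevDataE8Lits.Nr3 (by decide +kernel)

end Cfsg.Agent.Lib.Helper36_ChevDataE8N1
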