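import Cfsg.Agent.Lib.Helper36_ChevDataE8Lits

set_option autoImplicit false
set_option Elab.async false

/-! Check of the literal matrices of `n_i` for i in [6, 7], type E8. Generated file. -/

namespace Cfsg.Agent.Lib.Helper36_ChevDataE8N3

open Cfsg Cfsg.Lie Cfsg.Agent.Lib.Helper36_ChevSparse Cfsg.Agent.Lib.Helper36_ChevCoeff
  Cfsg.Agent.Lib.Helper36_ChevCoo Cfsg.Agent.Lib.Helper36_ChevAdd Cfsg.Agent.Lib.Helper36_ChevIdx
  Cfsg.Agent.Lib.Helper36_ChevWeyl Cfsg.Agent.Lib.Helper36_ChevGen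

/-- Literal table: the matrix of `x_{p_i}(1)` by columns, `i = 6`. -/
def X1c6 : Idxd :=
  [[(0, 1)], [(1, 1)], [(2, 1)], [(3, 1)], [(4, 1)], [(5, 1), (129, 1)], [(6, 1), (129, -2)], [(7, 1), (129, 1)], [(8, 1)], [(9, 1), (10, -1)], [(10, 1)], [(11, 1)], [(12, 1)], [(13, 1)], [(14, 1)], [(15, 1)], [(16, 1)], [(17, 1)], [(18, 1)], [(19, 1), (20, -1)], [(20, 1)], [(21, 1)], [(22, 1)], [(23, 1)], [(24, 1)], [(25, 1)], [(26, 1), (27, -1)], [(27, 1)], [(28, 1)], [(29, 1)], [(30, 1)], [(31, 1), (32, -1)], [(32, 1)], [(33, 1)], [(34, 1)], [(35, 1), (36, -1)], [(36, 1)], [(37, 1)], [(38, 1), (39, -1)], [(39, 1)], [(40, 1)], [(41, 1)], [(42, 1), (43, -1)], [(43, 1)], [(44, 1)], [(45, 1), (46, -1)], [(46, 1)], [(47, 1)], [(48, 1), (49, -1)], [(49, 1)], [(50, 1)], [(51, 1)], [(52, 1), (53, -1)], [(53, 1)], [(54, 1), (55, -1)], [(55, 1)], [(56, 1)], [(57, 1)], [(58, 1), (59, -1)], [(59, 1)],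 [(60, 1)], [(61, 1), (62, -1)], [(62, 1)], [(63, 1)], [(64, 1), (65, -1)], [(65, 1)], [(66, 1)], [(67, 1)], [(68, 1), (69, -1)], [(69, 1)], [(70, 1)], [(71, 1), (72, -1)], [(72, 1)], [(73, 1)], [(74, 1)], [(75, 1), (76, -1)], [(76, 1)], [(77, 1)], [(78, 1)], [(79, 1)], [(80, 1), (81, -1)], [(81, 1)], [(82, 1)], [(83, 1)], [(84, 1)], [(85, 1)], [(86, 1), (87, -1)], [(87, 1)], [(88, 1)], [(89, 1)], [(90, 1), (91, -1)], [(91, 1)], [(92, 1)], [(93, 1), (94, -1)], [(94, 1)], [(95, 1)], [(96, 1)], [(97, 1), (98, -1)], [(98, 1)], [(99, 1)], [(100, 1)], [(101, 1)], [(102, 1), (103, -1)], [(103, 1)], [(104, 1)], [(105, 1)], [(106, 1)], [(107, 1)], [(108, 1), (109, -1)], [(109, 1)], [(110, 1)], [(111, 1)], [(112, 1)], [(113, 1)], [(114, 1), (115, -1)], [(115, 1)], [(116, 1)], [(117, 1)], [(118, 1)], [(119, 1), (120, -1)], [(120, 1)], [(121, 1)], [(122, 1)], [(123, 1), (124, -1)], [(124, 1)],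 [(125, 1), (127, 1)], [(6, 1), (126, 1), (129, -1)], [(127, 1)], [(128, 1), (130, -1)], [(129, 1)], [(130, 1)], [(131, 1), (132, 1)], [(132, 1)], [(133, 1)], [(134, 1)], [(135, 1), (136, 1)], [(136, 1)], [(137, 1)], [(138, 1)], [(139, 1)], [(140, 1), (141, 1)], [(141, 1)], [(142, 1)], [(143, 1)], [(144, 1)], [(145, 1)], [(146, 1), (147, 1)], [(147, 1)], [(148, 1)], [(149, 1)], [(150, 1)], [(151, 1)], [(152, 1), (153, 1)], [(153, 1)], [(154, 1)], [(155, 1)], [(156, 1)], [(157, 1), (158, 1)], [(158, 1)], [(159, 1)], [(160, 1)], [(161, 1), (162, 1)], [(162, 1)], [(163, 1)], [(164, 1), (165, 1)], [(165, 1)], [(166, 1)], [(167, 1)], [(168, 1), (169, 1)], [(169, 1)], [(170, 1)], [(171, 1)], [(172, 1)], [(173, 1)], [(174, 1), (175, 1)], [(175, 1)], [(176, 1)], [(177, 1)], [(178, 1)], [(179, 1), (180, 1)], [(180, 1)], [(181, 1)], [(182, 1)], [(183, 1), (184, 1)], [(184, 1)], [(185, 1)],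 [(186, 1), (187, 1)], [(187, 1)], [(188, 1)], [(189, 1)], [(190, 1), (191, 1)], [(191, 1)], [(192, 1)], [(193, 1), (194, 1)], [(194, 1)], [(195, 1)], [(196, 1), (197, 1)], [(197, 1)], [(198, 1)], [(199, 1)], [(200, 1), (201, 1)], [(201, 1)], [(202, 1), (203, 1)], [(203, 1)], [(204, 1)], [(205, 1)], [(206, 1), (207, 1)], [(207, 1)], [(208, 1)], [(209, 1), (210, 1)], [(210, 1)], [(211, 1)], [(212, 1), (213, 1)], [(213, 1)], [(214, 1)], [(215, 1)], [(216, 1), (217, 1)], [(217, 1)], [(218, 1)], [(219, 1), (220, 1)], [(220, 1)], [(221, 1)], [(222, 1)], [(223, 1), (224, 1)], [(224, 1)], [(225, 1)], [(226, 1)], [(227, 1)], [(228, 1), (229, 1)], [(229, 1)], [(230, 1)], [(231, 1)], [(232, 1)], [(233, 1)], [(234, 1)], [(235, 1), (236, 1)], [(236, 1)], [(237, 1)], [(238, 1)], [(239, 1)], [(240, 1)], [(241, 1)], [(242, 1)], [(243, 1)], [(244, 1)], [(245, 1), (246, 1)], [(246, 1)], [(247, 1)]]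

/-- Literal table: the matrix of `x_{-p_i}(-1)` by columns, `i = 6`. -/
def X2c6 : Idxd :=
  [[(0, 1)], [(1, 1)], [(2, 1)], [(3, 1)], [(4, 1)], [(5, 1), (126, 1)], [(6, 1), (126, -2)], [(7, 1), (126, 1)], [(8, 1)], [(9, 1)], [(9, 1), (10, 1)], [(11, 1)], [(12, 1)], [(13, 1)], [(14, 1)], [(15, 1)], [(16, 1)], [(17, 1)], [(18, 1)], [(19, 1)], [(19, 1), (20, 1)], [(21, 1)], [(22, 1)], [(23, 1)], [(24, 1)], [(25, 1)], [(26, 1)], [(26, 1), (27, 1)], [(28, 1)], [(29, 1)], [(30, 1)], [(31, 1)], [(31, 1), (32, 1)], [(33, 1)], [(34, 1)], [(35, 1)], [(35, 1), (36, 1)], [(37, 1)], [(38, 1)], [(38, 1), (39, 1)], [(40, 1)], [(41, 1)], [(42, 1)], [(42, 1), (43, 1)], [(44, 1)], [(45, 1)], [(45, 1), (46, 1)], [(47, 1)], [(48, 1)], [(48, 1), (49, 1)], [(50, 1)], [(51, 1)], [(52, 1)], [(52, 1), (53, 1)], [(54, 1)], [(54, 1), (55, 1)], [(56, 1)], [(57, 1)], [(58, 1)], [(58, 1), (59, 1)], [(60, 1)],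 [(61, 1)], [(61, 1), (62, 1)], [(63, 1)], [(64, 1)], [(64, 1), (65, 1)], [(66, 1)], [(67, 1)], [(68, 1)], [(68, 1), (69, 1)], [(70, 1)], [(71, 1)], [(71, 1), (72, 1)], [(73, 1)], [(74, 1)], [(75, 1)], [(75, 1), (76, 1)], [(77, 1)], [(78, 1)], [(79, 1)], [(80, 1)], [(80, 1), (81, 1)], [(82, 1)], [(83, 1)], [(84, 1)], [(85, 1)], [(86, 1)], [(86, 1), (87, 1)], [(88, 1)], [(89, 1)], [(90, 1)], [(90, 1), (91, 1)], [(92, 1)], [(93, 1)], [(93, 1), (94, 1)], [(95, 1)], [(96, 1)], [(97, 1)], [(97, 1), (98, 1)], [(99, 1)], [(100, 1)], [(101, 1)], [(102, 1)], [(102, 1), (103, 1)], [(104, 1)], [(105, 1)], [(106, 1)], [(107, 1)], [(108, 1)], [(108, 1), (109, 1)], [(110, 1)], [(111, 1)], [(112, 1)], [(113, 1)], [(114, 1)], [(114, 1), (115, 1)], [(116, 1)], [(117, 1)], [(118, 1)], [(119, 1)], [(119, 1), (120, 1)], [(121, 1)], [(122, 1)], [(123, 1)], [(123, 1), (124, 1)], [(125, 1)], [(126, 1)],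 [(125, -1), (127, 1)], [(128, 1)], [(6, 1), (126, -1), (129, 1)], [(128, 1), (130, 1)], [(131, 1)], [(131, -1), (132, 1)], [(133, 1)], [(134, 1)], [(135, 1)], [(135, -1), (136, 1)], [(137, 1)], [(138, 1)], [(139, 1)], [(140, 1)], [(140, -1), (141, 1)], [(142, 1)], [(143, 1)], [(144, 1)], [(145, 1)], [(146, 1)], [(146, -1), (147, 1)], [(148, 1)], [(149, 1)], [(150, 1)], [(151, 1)], [(152, 1)], [(152, -1), (153, 1)], [(154, 1)], [(155, 1)], [(156, 1)], [(157, 1)], [(157, -1), (158, 1)], [(159, 1)], [(160, 1)], [(161, 1)], [(161, -1), (162, 1)], [(163, 1)], [(164, 1)], [(164, -1), (165, 1)], [(166, 1)], [(167, 1)], [(168, 1)], [(168, -1), (169, 1)], [(170, 1)], [(171, 1)], [(172, 1)], [(173, 1)], [(174, 1)], [(174, -1), (175, 1)], [(176, 1)], [(177, 1)], [(178, 1)], [(179, 1)], [(179, -1), (180, 1)], [(181, 1)], [(182, 1)], [(183, 1)], [(183, -1), (184, 1)], [(185, 1)], [(186, 1)],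 [(186, -1), (187, 1)], [(188, 1)], [(189, 1)], [(190, 1)], [(190, -1), (191, 1)], [(192, 1)], [(193, 1)], [(193, -1), (194, 1)], [(195, 1)], [(196, 1)], [(196, -1), (197, 1)], [(198, 1)], [(199, 1)], [(200, 1)], [(200, -1), (201, 1)], [(202, 1)], [(202, -1), (203, 1)], [(204, 1)], [(205, 1)], [(206, 1)], [(206, -1), (207, 1)], [(208, 1)], [(209, 1)], [(209, -1), (210, 1)], [(211, 1)], [(212, 1)], [(212, -1), (213, 1)], [(214, 1)], [(215, 1)], [(216, 1)], [(216, -1), (217, 1)], [(218, 1)], [(219, 1)], [(219, -1), (220, 1)], [(221, 1)], [(222, 1)], [(223, 1)], [(223, -1), (224, 1)], [(225, 1)], [(226, 1)], [(227, 1)], [(228, 1)], [(228, -1), (229, 1)], [(230, 1)], [(231, 1)], [(232, 1)], [(233, 1)], [(234, 1)], [(235, 1)], [(235, -1), (236, 1)], [(237, 1)], [(238, 1)], [(239, 1)], [(240, 1)], [(241, 1)], [(242, 1)], [(243, 1)], [(244, 1)], [(245, 1)], [(245, -1), (246, 1)], [(247,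 1)]]

theorem nLit6 : NLitGood chevE8 6 Helper36_ChevDataE8Lits.Nc6 Helper36_ChevDataE8Lits.Nr6 :=
  nLitGood_of_check2 chevE8 12 6 X1c6 X2c6 Helper36_ChevDataE8Lits.Nc6 Helper36_ChevDataE8Lits.Nr6 (by decide +kernel)

/-- Literal table: the matrix of `x_{p_i}(1)` by columns, `i = 7`. -/
def X1c7 : Idxd :=
  [[(0, 1)], [(1, 1)], [(2, 1)], [(3, 1)], [(4, 1)], [(5, 1)], [(6, 1), (128, 1)], [(7, 1), (128, -2)], [(8, 1), (9, -1)], [(9, 1)], [(10, 1)], [(11, 1)], [(12, 1)], [(13, 1)], [(14, 1)], [(15, 1)], [(16, 1)], [(17, 1)], [(18, 1)], [(19, 1)], [(20, 1), (21, -1)], [(21, 1)], [(22, 1)], [(23, 1)], [(24, 1)], [(25, 1)], [(26, 1)], [(27, 1), (28, -1)], [(28, 1)], [(29, 1)], [(30, 1)], [(31, 1)], [(32, 1), (33, -1)], [(33, 1)], [(34, 1)], [(35, 1)], [(36, 1), (37, -1)], [(37, 1)], [(38, 1)], [(39, 1), (40, -1)], [(40, 1)], [(41, 1), (42, -1)], [(42, 1)], [(43, 1)], [(44, 1)], [(45,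 1)], [(46, 1), (47, -1)], [(47, 1)], [(48, 1)], [(49, 1), (50, -1)], [(50, 1)], [(51, 1), (52, -1)], [(52, 1)], [(53, 1)], [(54, 1)], [(55, 1), (56, -1)], [(56, 1)], [(57, 1), (58, -1)], [(58, 1)], [(59, 1)], [(60, 1), (61, -1)], [(61, 1)], [(62, 1)], [(63, 1)], [(64, 1)], [(65, 1), (66, -1)], [(66, 1)], [(67, 1), (68, -1)], [(68, 1)], [(69, 1)], [(70, 1), (71, -1)], [(71, 1)], [(72, 1)], [(73, 1)], [(74, 1), (75, -1)], [(75, 1)], [(76, 1)], [(77, 1)], [(78, 1)], [(79, 1), (80, -1)], [(80, 1)], [(81, 1)], [(82, 1)], [(83, 1)], [(84, 1)], [(85, 1)], [(86, 1)], [(87, 1), (88, -1)], [(88, 1)], [(89, 1), (90, -1)], [(90, 1)], [(91, 1)], [(92, 1), (93, -1)], [(93, 1)], [(94, 1)], [(95, 1)], [(96, 1), (97, -1)], [(97, 1)], [(98, 1)], [(99, 1)], [(100, 1)], [(101, 1), (102, -1)], [(102, 1)], [(103, 1)], [(104, 1)], [(105, 1)], [(106, 1)], [(107, 1), (108, -1)], [(108, 1)], [(109, 1)],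 [(110, 1)], [(111, 1)], [(112, 1)], [(113, 1), (114, -1)], [(114, 1)], [(115, 1)], [(116, 1)], [(117, 1)], [(118, 1), (119, -1)], [(119, 1)], [(120, 1)], [(121, 1)], [(122, 1), (123, -1)], [(123, 1)], [(124, 1)], [(125, 1), (126, -1)], [(126, 1)], [(7, 1), (127, 1), (128, -1)], [(128, 1)], [(129, 1), (130, 1)], [(130, 1)], [(131, 1)], [(132, 1), (133, 1)], [(133, 1)], [(134, 1)], [(135, 1)], [(136, 1), (137, 1)], [(137, 1)], [(138, 1)], [(139, 1)], [(140, 1)], [(141, 1), (142, 1)], [(142, 1)], [(143, 1)], [(144, 1)], [(145, 1)], [(146, 1)], [(147, 1), (148, 1)], [(148, 1)], [(149, 1)], [(150, 1)], [(151, 1)], [(152, 1)], [(153, 1), (154, 1)], [(154, 1)], [(155, 1)], [(156, 1)], [(157, 1)], [(158, 1), (159, 1)], [(159, 1)], [(160, 1)], [(161, 1)], [(162, 1), (163, 1)], [(163, 1)], [(164, 1)], [(165, 1), (166, 1)], [(166, 1)], [(167, 1), (168, 1)], [(168, 1)], [(169, 1)], [(170, 1)],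 [(171, 1)], [(172, 1)], [(173, 1)], [(174, 1)], [(175, 1), (176, 1)], [(176, 1)], [(177, 1)], [(178, 1)], [(179, 1)], [(180, 1), (181, 1)], [(181, 1)], [(182, 1)], [(183, 1)], [(184, 1), (185, 1)], [(185, 1)], [(186, 1)], [(187, 1), (188, 1)], [(188, 1)], [(189, 1), (190, 1)], [(190, 1)], [(191, 1)], [(192, 1)], [(193, 1)], [(194, 1), (195, 1)], [(195, 1)], [(196, 1)], [(197, 1), (198, 1)], [(198, 1)], [(199, 1), (200, 1)], [(200, 1)], [(201, 1)], [(202, 1)], [(203, 1), (204, 1)], [(204, 1)], [(205, 1), (206, 1)], [(206, 1)], [(207, 1)], [(208, 1), (209, 1)], [(209, 1)], [(210, 1)], [(211, 1)], [(212, 1)], [(213, 1), (214, 1)], [(214, 1)], [(215, 1), (216, 1)], [(216, 1)], [(217, 1)], [(218, 1), (219, 1)], [(219, 1)], [(220, 1)], [(221, 1)], [(222, 1), (223, 1)], [(223, 1)], [(224, 1)], [(225, 1)], [(226, 1)], [(227, 1), (228, 1)], [(228, 1)], [(229, 1)], [(230, 1)], [(231, 1)],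 [(232, 1)], [(233, 1)], [(234, 1), (235, 1)], [(235, 1)], [(236, 1)], [(237, 1)], [(238, 1)], [(239, 1)], [(240, 1)], [(241, 1)], [(242, 1)], [(243, 1)], [(244, 1)], [(245, 1)], [(246, 1), (247, 1)], [(247, 1)]]

/-- Literal table: the matrix of `x_{-p_i}(-1)` by columns, `i = 7`. -/
def X2c7 : Idxd :=
  [[(0, 1)], [(1, 1)], [(2, 1)], [(3, 1)], [(4, 1)], [(5, 1)], [(6, 1), (127, 1)], [(7, 1), (127, -2)], [(8, 1)], [(8, 1), (9, 1)], [(10, 1)], [(11, 1)], [(12, 1)], [(13, 1)], [(14, 1)], [(15, 1)], [(16, 1)], [(17, 1)], [(18, 1)], [(19, 1)], [(20, 1)], [(20, 1), (21, 1)], [(22, 1)], [(23, 1)], [(24, 1)], [(25, 1)], [(26, 1)], [(27, 1)], [(27, 1), (28, 1)], [(29, 1)], [(30, 1)], [(31, 1)], [(32, 1)], [(32, 1), (33, 1)], [(34, 1)], [(35, 1)], [(36, 1)], [(36, 1), (37, 1)], [(38, 1)], [(39, 1)], [(39, 1), (40, 1)], [(41, 1)], [(41, 1), (42, 1)], [(43, 1)], [(44, 1)], [(45, 1)], [(46,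 1)], [(46, 1), (47, 1)], [(48, 1)], [(49, 1)], [(49, 1), (50, 1)], [(51, 1)], [(51, 1), (52, 1)], [(53, 1)], [(54, 1)], [(55, 1)], [(55, 1), (56, 1)], [(57, 1)], [(57, 1), (58, 1)], [(59, 1)], [(60, 1)], [(60, 1), (61, 1)], [(62, 1)], [(63, 1)], [(64, 1)], [(65, 1)], [(65, 1), (66, 1)], [(67, 1)], [(67, 1), (68, 1)], [(69, 1)], [(70, 1)], [(70, 1), (71, 1)], [(72, 1)], [(73, 1)], [(74, 1)], [(74, 1), (75, 1)], [(76, 1)], [(77, 1)], [(78, 1)], [(79, 1)], [(79, 1), (80, 1)], [(81, 1)], [(82, 1)], [(83, 1)], [(84, 1)], [(85, 1)], [(86, 1)], [(87, 1)], [(87, 1), (88, 1)], [(89, 1)], [(89, 1), (90, 1)], [(91, 1)], [(92, 1)], [(92, 1), (93, 1)], [(94, 1)], [(95, 1)], [(96, 1)], [(96, 1), (97, 1)], [(98, 1)], [(99, 1)], [(100, 1)], [(101, 1)], [(101, 1), (102, 1)], [(103, 1)], [(104, 1)], [(105, 1)], [(106, 1)], [(107, 1)], [(107, 1), (108, 1)], [(109, 1)], [(110, 1)], [(111, 1)], [(112,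 1)], [(113, 1)], [(113, 1), (114, 1)], [(115, 1)], [(116, 1)], [(117, 1)], [(118, 1)], [(118, 1), (119, 1)], [(120, 1)], [(121, 1)], [(122, 1)], [(122, 1), (123, 1)], [(124, 1)], [(125, 1)], [(125, 1), (126, 1)], [(127, 1)], [(7, 1), (127, -1), (128, 1)], [(129, 1)], [(129, -1), (130, 1)], [(131, 1)], [(132, 1)], [(132, -1), (133, 1)], [(134, 1)], [(135, 1)], [(136, 1)], [(136, -1), (137, 1)], [(138, 1)], [(139, 1)], [(140, 1)], [(141, 1)], [(141, -1), (142, 1)], [(143, 1)], [(144, 1)], [(145, 1)], [(146, 1)], [(147, 1)], [(147, -1), (148, 1)], [(149, 1)], [(150, 1)], [(151, 1)], [(152, 1)], [(153, 1)], [(153, -1), (154, 1)], [(155, 1)], [(156, 1)], [(157, 1)], [(158, 1)], [(158, -1), (159, 1)], [(160, 1)], [(161, 1)], [(162, 1)], [(162, -1), (163, 1)], [(164, 1)], [(165, 1)], [(165, -1), (166, 1)], [(167, 1)], [(167, -1), (168, 1)], [(169, 1)], [(170, 1)], [(171, 1)], [(172, 1)],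 [(173, 1)], [(174, 1)], [(175, 1)], [(175, -1), (176, 1)], [(177, 1)], [(178, 1)], [(179, 1)], [(180, 1)], [(180, -1), (181, 1)], [(182, 1)], [(183, 1)], [(184, 1)], [(184, -1), (185, 1)], [(186, 1)], [(187, 1)], [(187, -1), (188, 1)], [(189, 1)], [(189, -1), (190, 1)], [(191, 1)], [(192, 1)], [(193, 1)], [(194, 1)], [(194, -1), (195, 1)], [(196, 1)], [(197, 1)], [(197, -1), (198, 1)], [(199, 1)], [(199, -1), (200, 1)], [(201, 1)], [(202, 1)], [(203, 1)], [(203, -1), (204, 1)], [(205, 1)], [(205, -1), (206, 1)], [(207, 1)], [(208, 1)], [(208, -1), (209, 1)], [(210, 1)], [(211, 1)], [(212, 1)], [(213, 1)], [(213, -1), (214, 1)], [(215, 1)], [(215, -1), (216, 1)], [(217, 1)], [(218, 1)], [(218, -1), (219, 1)], [(220, 1)], [(221, 1)], [(222, 1)], [(222, -1), (223, 1)], [(224, 1)], [(225, 1)], [(226, 1)], [(227, 1)], [(227, -1), (228, 1)], [(229, 1)], [(230, 1)], [(231, 1)], [(232,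 1)], [(233, 1)], [(234, 1)], [(234, -1), (235, 1)], [(236, 1)], [(237, 1)], [(238, 1)], [(239, 1)], [(240, 1)], [(241, 1)], [(242, 1)], [(243, 1)], [(244, 1)], [(245, 1)], [(246, 1)], [(246, -1), (247, 1)]]

theorem nLit7 : NLitGood chevE8 7 Helper36_ChevDataE8Lits.Nc7 Helper36_ChevDataE8Lits.Nr7 :=
  nLitGood_of_check2 chevE8 12 7 X1c7 X2c7 Helper36_ChevDataE8Lits.Nc7 Helper36_ChevDataE8Lits.Nr7 (by decide +kernel)

end Cfsg.Agent.Lib.Helper36_ChevDataE8N3
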