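import Cfsg.Agent.Lib.Helper36_ChevDataE8Lits

set_option autoImplicit false
set_option Elab.async false

/-! Check of parts 0..3 of the reachability certificate, type E8. Generated file. -/

namespace Cfsg.Agent.Lib.Helper36_ChevDataE8T0

open Cfsg Cfsg.Lie Cfsg.Agent.Lib.Helper36_ChevSparse Cfsg.Agent.Lib.Helper36_ChevCoeff
  Cfsg.Agent.Lib.Helper36_ChevCoo Cfsg.Agent.Lib.Helper36_ChevAdd Cfsg.Agent.Lib.Helper36_ChevIdx
  Cfsg.Agent.Lib.Helper36_ChevWeyl Cfsg.Agent.Lib.Helper36_ChevGen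

theorem pairsOK0 : PairsOK chevE8 12 Helper36_ChevDataE8Lits.nLits Helper36_ChevDataE8Lits.treeChunk0 := by decide +kernel

theorem pairsOK1 : PairsOK chevE8 12 Helper36_ChevDataE8Lits.nLits Helper36_ChevDataE8Lits.treeChunk1 := by decide +kernel

theorem pairsOK2 : PairsOK chevE8 12 Helper36_ChevDataE8Lits.nLits Helper36_ChevDataE8Lits.treeChunk2 := by decide +kernel

theorem pairsOK3 : PairsOK chevE8 12 Helper36_ChevDataE8Lits.nLits Helper36_ChevDataE8Lits.treeChunk3 := by decide +kernel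

end Cfsg.Agent.Lib.Helper36_ChevDataE8T0
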