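import Cfsg.Agent.Lib.Helper36_ChevDataE8Lits
import Cfsg.Agent.Lib.Helper36_ChevDataE8Add0
import Cfsg.Agent.Lib.Helper36_ChevDataE8Add1
import Cfsg.Agent.Lib.Helper36_ChevDataE8Add2
import Cfsg.Agent.Lib.Helper36_ChevDataE8Add3
import Cfsg.Agent.Lib.Helper36_ChevDataE8Add4
import Cfsg.Agent.Lib.Helper36_ChevDataE8Add5
import Cfsg.Agent.Lib.Helper36_ChevDataE8Add6
import Cfsg.Agent.Lib.Helper36_ChevDataE8Add7
import Cfsg.Agent.Lib.Helper36_ChevDataE8Add
import Cfsg.Agent.Lib.Helper36_ChevDataE8N0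
import Cfsg.Agent.Lib.Helper36_ChevDataE8N1
import Cfsg.Agent.Lib.Helper36_ChevDataE8N2
import Cfsg.Agent.Lib.Helper36_ChevDataE8N3
import Cfsg.Agent.Lib.Helper36_ChevDataE8T0
import Cfsg.Agent.Lib.Helper36_ChevDataE8T1
import Cfsg.Agent.Lib.Helper36_ChevDataE8T2
import Cfsg.Agent.Lib.Helper36_ChevDataE8T3
import Cfsg.Agent.Lib.Helper36_ChevDataE8T4
import Cfsg.Agent.Lib.Helper36_ChevDataE8T5
import Cfsg.Agent.Lib.Helper36_ChevDataE8T6

set_option autoImplicit false


/-! Kernel-checked table facts for the Chevalley datum of type E8 (see `Helper36_ChevGen`), assembled from the pieces. Generated file. -/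

namespace Cfsg.Agent.Lib.Helper36_ChevDataE8

open Cfsg Cfsg.Lie Cfsg.Agent.Lib.Helper36_ChevSparse Cfsg.Agent.Lib.Helper36_ChevCoeff
  Cfsg.Agent.Lib.Helper36_ChevCoo Cfsg.Agent.Lib.Helper36_ChevAdd Cfsg.Agent.Lib.Helper36_ChevIdx
  Cfsg.Agent.Lib.Helper36_ChevWeyl Cfsg.Agent.Lib.Helper36_ChevGen

theorem lenOK : ChainLenOK chevE8 := Helper36_ChevDataE8Lits.lenOK

theorem simpleOK : SimpleOK chevE8 := Helper36_ChevDataE8Lits.simpleOK

theorem addOK : AddOK chevE8 := Helper36_ChevDataE8Add.addOK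

/-- The matrices of the `n_i`, stored by columns and by rows. -/
abbrev nLits : NLits := Helper36_ChevDataE8Lits.nLits

theorem nLitOK : NLitOK chevE8 nLits := by
  intro i hi
  have h : chevE8.rank = 8 := rfl
  rw [h] at hi
  interval_cases i
  · exact Helper36_ChevDataE8N0.nLit0
  · exact Helper36_ChevDataE8N0.nLit1
  · exact Helper36_ChevDataE8N1.nLit2
  · exact Helper36_ChevDataE8N1.nLit3
  · exact Helper36_ChevDataE8N2.nLit4
  · exact Helper36_ChevDataE8N2.nLit5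
  · exact Helper36_ChevDataE8N3.nLit6
  · exact Helper36_ChevDataE8N3.nLit7

/-- The reachability certificate. -/
abbrev tree : List (ℕ × ℕ × ℤ) := Helper36_ChevDataE8Lits.tree

theorem pairsOK : PairsOK chevE8 12 nLits tree := by
  unfold tree Helper36_ChevDataE8Lits.tree
  exact pairsOK_append chevE8 12 _ _ _ Helper36_ChevDataE8T0.pairsOK0 (pairsOK_append chevE8 12 _ _ _ Helper36_ChevDataE8T0.pairsOK1 (pairsOK_append chevE8 12 _ _ _ Helper36_ChevDataE8T0.pairsOK2 (pairsOK_append chevE8 12 _ _ _ Helper36_ChevDataE8T0.pairsOK3 (pairsOK_append chevE8 12 _ _ _ Helper36_ChevDataE8T1.pairsOK4 (pairsOK_append chevE8 12 _ _ _ Helper36_ChevDataE8T1.pairsOK5 (pairsOK_append chevE8 12 _ _ _ Helper36_ChevDataE8T1.pairsOK6 (pairsOK_append chevE8 12 _ _ _ Helper36_ChevDataE8T1.pairsOK7 (pairsOK_append chevE8 12 _ _ _ Helper36_ChevDataE8T2.pairsOK8 (pairsOK_append chevE8 12 _ _ _ Helper36_ChevDataE8T2.pairsOK9 (pairsOK_append chevE8 12 _ _ _ Helper36_ChevDataE8T2.pairsOK10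 (pairsOK_append chevE8 12 _ _ _ Helper36_ChevDataE8T2.pairsOK11 (pairsOK_append chevE8 12 _ _ _ Helper36_ChevDataE8T3.pairsOK12 (pairsOK_append chevE8 12 _ _ _ Helper36_ChevDataE8T3.pairsOK13 (pairsOK_append chevE8 12 _ _ _ Helper36_ChevDataE8T3.pairsOK14 (pairsOK_append chevE8 12 _ _ _ Helper36_ChevDataE8T3.pairsOK15 (pairsOK_append chevE8 12 _ _ _ Helper36_ChevDataE8T4.pairsOK16 (pairsOK_append chevE8 12 _ _ _ Helper36_ChevDataE8T4.pairsOK17 (pairsOK_append chevE8 12 _ _ _ Helper36_ChevDataE8T4.pairsOK18 (pairsOK_append chevE8 12 _ _ _ Helper36_ChevDataE8T4.pairsOK19 (pairsOK_append chevE8 12 _ _ _ Helper36_ChevDataE8T5.pairsOK20 (pairsOK_append chevE8 12 _ _ _ Helper36_ChevDataE8T5.pairsOK21 (pairsOK_append chevE8 12 _ _ _ Helper36_ChevDataE8T5.pairsOK22 (pairsOK_append chevE8 12 _ _ _ Helper36_ChevDataE8T5.pairsOK23 (pairsOK_append chevE8 12 _ _ _ Helper36_ChevDataE8T6.pairsOK24 (pairsOK_append chevE8 12 _ _ _ Helper36_ChevDataE8T6.pairsOK25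 (pairsOK_append chevE8 12 _ _ _ Helper36_ChevDataE8T6.pairsOK26 (Helper36_ChevDataE8T6.pairsOK27)))))))))))))))))))))))))))

theorem reachOK : reachCheck chevE8 tree = true := Helper36_ChevDataE8Lits.reachOK

/-- The Chevalley group of type E8 over any field is generated by the fundamental root elements and their negatives. -/
theorem group_eq (F : Type*) [Field F] : chevE8.group F = fundSubgroup chevE8 F :=
  group_eq_fundSubgroup chevE8 lenOK addOK simpleOK nLits nLitOK F 12 tree pairsOK reachOK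

end Cfsg.Agent.Lib.Helper36_ChevDataE8
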