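import Cfsg.Agent.Lib.Helper36_ChevGen
import Cfsg.Prelude.Def_ChevE8

set_option autoImplicit false
set_option Elab.async false

/-! Literal tables for the Chevalley datum of type E8: the matrices of the `n_i` and the reachability certificate. Generated file. -/

namespace Cfsg.Agent.Lib.Helper36_ChevDataE8Lits

open Cfsg Cfsg.Lie Cfsg.Agent.Lib.Helper36_ChevSparse Cfsg.Agent.Lib.Helper36_ChevCoeff
  Cfsg.Agent.Lib.Helper36_ChevCoo Cfsg.Agent.Lib.Helper36_ChevAdd Cfsg.Agent.Lib.Helper36_ChevIdx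
  Cfsg.Agent.Lib.Helper36_ChevWeyl Cfsg.Agent.Lib.Helper36_ChevGen

theorem lenOK : ChainLenOK chevE8 := by decide +kernel

theorem simpleOK : SimpleOK chevE8 := by decide +kernel

/-- Literal table: the matrix of `n_i` by columns, `i = 0`. -/
def Nc0 : Idxd :=
  [[(0, -1)], [(1, 1)], [(0, 1), (2, 1)], [(3, 1)], [(4, 1)], [(5, 1)], [(6, 1)], [(7, 1)], [(8, 1)], [(9, 1)], [(10, 1)], [(11, 1)], [(12, 1)], [(13, 1)], [(22, -1)], [(15, 1)], [(23, -1)], [(24, -1)], [(25, -1)], [(26, -1)], [(27, -1)], [(28, -1)], [(14, 1)], [(16, 1)], [(17, 1)], [(18, 1)], [(19, 1)], [(20, 1)], [(21, 1)], [(29, 1)], [(30, 1)], [(31, 1)], [(32, 1)], [(33, 1)], [(34, 1)], [(35, 1)], [(36, 1)], [(37, 1)], [(38, 1)], [(39, 1)], [(40, 1)], [(41, 1)], [(42, 1)], [(43, 1)], [(44, 1)], [(45, 1)], [(46, 1)], [(47, 1)], [(48, 1)], [(49, 1)], [(50, 1)], [(51, 1)], [(52, 1)], [(53, 1)], [(54, 1)], [(55, 1)], [(56,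 1)], [(57, 1)], [(58, 1)], [(59, 1)], [(60, 1)], [(61, 1)], [(62, 1)], [(63, 1)], [(86, 1)], [(87, 1)], [(88, 1)], [(89, 1)], [(90, 1)], [(91, 1)], [(92, 1)], [(93, 1)], [(94, 1)], [(95, 1)], [(96, 1)], [(97, 1)], [(98, 1)], [(99, 1)], [(100, 1)], [(107, 1)], [(108, 1)], [(109, 1)], [(110, 1)], [(111, 1)], [(112, 1)], [(170, -1)], [(64, -1)], [(65, -1)], [(66, -1)], [(67, -1)], [(68, -1)], [(69, -1)], [(70, -1)], [(71, -1)], [(72, -1)], [(73, -1)], [(74, -1)], [(75, -1)], [(76, -1)], [(77, -1)], [(78, -1)], [(101, 1)], [(102, 1)], [(103, 1)], [(104, 1)], [(105, 1)], [(106, 1)], [(79, -1)], [(80, -1)], [(81, -1)], [(82, -1)], [(83, -1)], [(84, -1)], [(113, 1)], [(114, 1)], [(115, 1)], [(116, 1)], [(117, 1)], [(118, 1)], [(119, 1)], [(120, 1)], [(121, 1)], [(122, 1)], [(123, 1)], [(124, 1)], [(125, 1)], [(126, 1)], [(127, 1)], [(128, 1)], [(129, 1)], [(130, 1)], [(131, 1)], [(132,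 1)], [(133, 1)], [(134, 1)], [(135, 1)], [(136, 1)], [(137, 1)], [(138, 1)], [(139, 1)], [(140, 1)], [(141, 1)], [(142, 1)], [(171, -1)], [(172, -1)], [(173, -1)], [(174, -1)], [(175, -1)], [(176, -1)], [(149, 1)], [(150, 1)], [(151, 1)], [(152, 1)], [(153, 1)], [(154, 1)], [(177, -1)], [(178, -1)], [(179, -1)], [(180, -1)], [(181, -1)], [(182, -1)], [(183, -1)], [(184, -1)], [(185, -1)], [(186, -1)], [(187, -1)], [(188, -1)], [(189, -1)], [(190, -1)], [(191, -1)], [(85, -1)], [(143, 1)], [(144, 1)], [(145, 1)], [(146, 1)], [(147, 1)], [(148, 1)], [(155, 1)], [(156, 1)], [(157, 1)], [(158, 1)], [(159, 1)], [(160, 1)], [(161, 1)], [(162, 1)], [(163, 1)], [(164, 1)], [(165, 1)], [(166, 1)], [(167, 1)], [(168, 1)], [(169, 1)], [(192, 1)], [(193, 1)], [(194, 1)], [(195, 1)], [(196, 1)], [(197, 1)], [(198, 1)], [(199, 1)], [(200, 1)], [(201, 1)], [(202, 1)], [(203, 1)], [(204, 1)], [(205,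 1)], [(206, 1)], [(207, 1)], [(208, 1)], [(209, 1)], [(210, 1)], [(211, 1)], [(212, 1)], [(213, 1)], [(214, 1)], [(215, 1)], [(216, 1)], [(217, 1)], [(218, 1)], [(219, 1)], [(220, 1)], [(221, 1)], [(222, 1)], [(223, 1)], [(224, 1)], [(225, 1)], [(226, 1)], [(234, 1)], [(235, 1)], [(236, 1)], [(237, 1)], [(238, 1)], [(239, 1)], [(241, 1)], [(227, -1)], [(228, -1)], [(229, -1)], [(230, -1)], [(231, -1)], [(232, -1)], [(240, 1)], [(233, -1)], [(242, 1)], [(243, 1)], [(244, 1)], [(245, 1)], [(246, 1)], [(247, 1)]]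

/-- Literal table: the matrix of `n_i` by rows, `i = 0`. -/
def Nr0 : Idxd :=
  [[(0, -1), (2, 1)], [(1, 1)], [(2, 1)], [(3, 1)], [(4, 1)], [(5, 1)], [(6, 1)], [(7, 1)], [(8, 1)], [(9, 1)], [(10, 1)], [(11, 1)], [(12, 1)], [(13, 1)], [(22, 1)], [(15, 1)], [(23, 1)], [(24, 1)], [(25, 1)], [(26, 1)], [(27, 1)], [(28, 1)], [(14, -1)], [(16, -1)], [(17, -1)], [(18, -1)], [(19, -1)], [(20, -1)], [(21, -1)], [(29, 1)], [(30, 1)], [(31, 1)], [(32, 1)], [(33, 1)], [(34, 1)], [(35, 1)], [(36, 1)], [(37, 1)], [(38, 1)], [(39, 1)], [(40, 1)], [(41, 1)], [(42, 1)], [(43, 1)], [(44, 1)], [(45, 1)], [(46, 1)], [(47, 1)], [(48, 1)], [(49, 1)], [(50, 1)], [(51, 1)], [(52, 1)], [(53, 1)], [(54, 1)], [(55, 1)], [(56, 1)], [(57, 1)], [(58, 1)], [(59, 1)], [(60, 1)], [(61, 1)], [(62, 1)], [(63, 1)], [(86, -1)], [(87, -1)], [(88, -1)], [(89, -1)], [(90, -1)], [(91, -1)], [(92, -1)], [(93, -1)], [(94,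 -1)], [(95, -1)], [(96, -1)], [(97, -1)], [(98, -1)], [(99, -1)], [(100, -1)], [(107, -1)], [(108, -1)], [(109, -1)], [(110, -1)], [(111, -1)], [(112, -1)], [(170, -1)], [(64, 1)], [(65, 1)], [(66, 1)], [(67, 1)], [(68, 1)], [(69, 1)], [(70, 1)], [(71, 1)], [(72, 1)], [(73, 1)], [(74, 1)], [(75, 1)], [(76, 1)], [(77, 1)], [(78, 1)], [(101, 1)], [(102, 1)], [(103, 1)], [(104, 1)], [(105, 1)], [(106, 1)], [(79, 1)], [(80, 1)], [(81, 1)], [(82, 1)], [(83, 1)], [(84, 1)], [(113, 1)], [(114, 1)], [(115, 1)], [(116, 1)], [(117, 1)], [(118, 1)], [(119, 1)], [(120, 1)], [(121, 1)], [(122, 1)], [(123, 1)], [(124, 1)], [(125, 1)], [(126, 1)], [(127, 1)], [(128, 1)], [(129, 1)], [(130, 1)], [(131, 1)], [(132, 1)], [(133, 1)], [(134, 1)], [(135, 1)], [(136, 1)], [(137, 1)], [(138, 1)], [(139, 1)], [(140, 1)], [(141, 1)], [(142, 1)], [(171, 1)], [(172, 1)], [(173, 1)], [(174, 1)], [(175, 1)],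 [(176, 1)], [(149, 1)], [(150, 1)], [(151, 1)], [(152, 1)], [(153, 1)], [(154, 1)], [(177, 1)], [(178, 1)], [(179, 1)], [(180, 1)], [(181, 1)], [(182, 1)], [(183, 1)], [(184, 1)], [(185, 1)], [(186, 1)], [(187, 1)], [(188, 1)], [(189, 1)], [(190, 1)], [(191, 1)], [(85, -1)], [(143, -1)], [(144, -1)], [(145, -1)], [(146, -1)], [(147, -1)], [(148, -1)], [(155, -1)], [(156, -1)], [(157, -1)], [(158, -1)], [(159, -1)], [(160, -1)], [(161, -1)], [(162, -1)], [(163, -1)], [(164, -1)], [(165, -1)], [(166, -1)], [(167, -1)], [(168, -1)], [(169, -1)], [(192, 1)], [(193, 1)], [(194, 1)], [(195, 1)], [(196, 1)], [(197, 1)], [(198, 1)], [(199, 1)], [(200, 1)], [(201, 1)], [(202, 1)], [(203, 1)], [(204, 1)], [(205, 1)], [(206, 1)], [(207, 1)], [(208, 1)], [(209, 1)], [(210, 1)], [(211, 1)], [(212, 1)], [(213, 1)], [(214, 1)], [(215, 1)], [(216, 1)], [(217, 1)], [(218, 1)], [(219, 1)], [(220,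 1)], [(221, 1)], [(222, 1)], [(223, 1)], [(224, 1)], [(225, 1)], [(226, 1)], [(234, -1)], [(235, -1)], [(236, -1)], [(237, -1)], [(238, -1)], [(239, -1)], [(241, -1)], [(227, 1)], [(228, 1)], [(229, 1)], [(230, 1)], [(231, 1)], [(232, 1)], [(240, 1)], [(233, 1)], [(242, 1)], [(243, 1)], [(244, 1)], [(245, 1)], [(246, 1)], [(247, 1)]]

/-- Literal table: the matrix of `n_i` by columns, `i = 1`. -/
def Nc1 : Idxd :=
  [[(0, 1)], [(1, -1)], [(2, 1)], [(1, 1), (3, 1)], [(4, 1)], [(5, 1)], [(6, 1)], [(7, 1)], [(8, 1)], [(9, 1)], [(10, 1)], [(11, 1)], [(12, 1)], [(15, -1)], [(16, -1)], [(13, 1)], [(14, 1)], [(17, 1)], [(18, 1)], [(19, 1)], [(20, 1)], [(21, 1)], [(23, -1)], [(22, 1)], [(24, 1)], [(25, 1)], [(26, 1)], [(27, 1)], [(28, 1)], [(29, 1)], [(30, 1)], [(31, 1)], [(32, 1)], [(33, 1)], [(44, -1)], [(45, -1)], [(46, -1)], [(47, -1)], [(48, -1)], [(49, -1)], [(50, -1)], [(51, -1)],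 [(52, -1)], [(53, -1)], [(34, 1)], [(35, 1)], [(36, 1)], [(37, 1)], [(38, 1)], [(39, 1)], [(40, 1)], [(41, 1)], [(42, 1)], [(43, 1)], [(54, 1)], [(55, 1)], [(56, 1)], [(57, 1)], [(58, 1)], [(59, 1)], [(60, 1)], [(61, 1)], [(62, 1)], [(63, 1)], [(64, 1)], [(65, 1)], [(66, 1)], [(67, 1)], [(68, 1)], [(69, 1)], [(70, 1)], [(71, 1)], [(72, 1)], [(73, 1)], [(79, -1)], [(80, -1)], [(81, -1)], [(82, -1)], [(83, -1)], [(74, 1)], [(75, 1)], [(76, 1)], [(77, 1)], [(78, 1)], [(84, 1)], [(85, 1)], [(86, 1)], [(87, 1)], [(88, 1)], [(89, 1)], [(90, 1)], [(91, 1)], [(92, 1)], [(93, 1)], [(94, 1)], [(95, 1)], [(107, -1)], [(108, -1)], [(109, -1)], [(110, -1)], [(111, -1)], [(113, 1)], [(114, 1)], [(115, 1)], [(116, 1)], [(117, 1)], [(149, -1)], [(96, 1)], [(97, 1)], [(98, 1)], [(99, 1)], [(100, 1)], [(112, 1)], [(101, -1)], [(102, -1)], [(103, -1)], [(104, -1)], [(105, -1)], [(118, 1)], [(119,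 1)], [(120, 1)], [(121, 1)], [(122, 1)], [(123, 1)], [(124, 1)], [(125, 1)], [(126, 1)], [(127, 1)], [(128, 1)], [(129, 1)], [(130, 1)], [(131, 1)], [(132, 1)], [(133, 1)], [(134, 1)], [(135, 1)], [(136, 1)], [(137, 1)], [(150, -1)], [(151, -1)], [(152, -1)], [(153, -1)], [(154, -1)], [(143, 1)], [(155, 1)], [(156, 1)], [(157, 1)], [(158, 1)], [(159, 1)], [(106, -1)], [(138, 1)], [(139, 1)], [(140, 1)], [(141, 1)], [(142, 1)], [(144, -1)], [(145, -1)], [(146, -1)], [(147, -1)], [(148, -1)], [(160, 1)], [(161, 1)], [(162, 1)], [(163, 1)], [(164, 1)], [(165, 1)], [(166, 1)], [(167, 1)], [(168, 1)], [(169, 1)], [(170, 1)], [(171, 1)], [(177, 1)], [(178, 1)], [(179, 1)], [(180, 1)], [(181, 1)], [(172, -1)], [(173, -1)], [(174, -1)], [(175, -1)], [(176, -1)], [(182, 1)], [(183, 1)], [(184, 1)], [(185, 1)], [(186, 1)], [(187, 1)], [(188, 1)], [(189, 1)], [(190, 1)], [(191, 1)], [(192,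 1)], [(193, 1)], [(194, 1)], [(195, 1)], [(196, 1)], [(197, 1)], [(198, 1)], [(199, 1)], [(200, 1)], [(201, 1)], [(212, 1)], [(213, 1)], [(214, 1)], [(215, 1)], [(216, 1)], [(217, 1)], [(218, 1)], [(219, 1)], [(220, 1)], [(221, 1)], [(202, -1)], [(203, -1)], [(204, -1)], [(205, -1)], [(206, -1)], [(207, -1)], [(208, -1)], [(209, -1)], [(210, -1)], [(211, -1)], [(222, 1)], [(223, 1)], [(224, 1)], [(225, 1)], [(226, 1)], [(227, 1)], [(228, 1)], [(229, 1)], [(230, 1)], [(231, 1)], [(233, 1)], [(232, -1)], [(234, 1)], [(235, 1)], [(236, 1)], [(237, 1)], [(238, 1)], [(241, 1)], [(242, 1)], [(239, -1)], [(240, -1)], [(243, 1)], [(244, 1)], [(245, 1)], [(246, 1)], [(247, 1)]]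

/-- Literal table: the matrix of `n_i` by rows, `i = 1`. -/
def Nr1 : Idxd :=
  [[(0, 1)], [(1, -1), (3, 1)], [(2, 1)], [(3, 1)], [(4, 1)], [(5, 1)], [(6, 1)], [(7, 1)], [(8, 1)], [(9, 1)], [(10, 1)], [(11, 1)], [(12, 1)], [(15, 1)], [(16, 1)], [(13, -1)], [(14, -1)], [(17, 1)], [(18, 1)], [(19, 1)], [(20, 1)], [(21, 1)], [(23, 1)], [(22, -1)], [(24, 1)], [(25, 1)], [(26, 1)], [(27, 1)], [(28, 1)], [(29, 1)], [(30, 1)], [(31, 1)], [(32, 1)], [(33, 1)], [(44, 1)], [(45, 1)], [(46, 1)], [(47, 1)], [(48, 1)], [(49, 1)], [(50, 1)], [(51, 1)], [(52, 1)], [(53, 1)], [(34, -1)], [(35, -1)], [(36, -1)], [(37, -1)], [(38, -1)], [(39, -1)], [(40, -1)], [(41, -1)], [(42, -1)], [(43, -1)], [(54, 1)], [(55, 1)], [(56, 1)], [(57, 1)], [(58, 1)], [(59, 1)], [(60, 1)], [(61, 1)], [(62, 1)], [(63, 1)], [(64, 1)], [(65, 1)], [(66, 1)], [(67, 1)], [(68, 1)], [(69, 1)], [(70, 1)], [(71, 1)], [(72,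 1)], [(73, 1)], [(79, 1)], [(80, 1)], [(81, 1)], [(82, 1)], [(83, 1)], [(74, -1)], [(75, -1)], [(76, -1)], [(77, -1)], [(78, -1)], [(84, 1)], [(85, 1)], [(86, 1)], [(87, 1)], [(88, 1)], [(89, 1)], [(90, 1)], [(91, 1)], [(92, 1)], [(93, 1)], [(94, 1)], [(95, 1)], [(107, 1)], [(108, 1)], [(109, 1)], [(110, 1)], [(111, 1)], [(113, -1)], [(114, -1)], [(115, -1)], [(116, -1)], [(117, -1)], [(149, -1)], [(96, -1)], [(97, -1)], [(98, -1)], [(99, -1)], [(100, -1)], [(112, 1)], [(101, 1)], [(102, 1)], [(103, 1)], [(104, 1)], [(105, 1)], [(118, 1)], [(119, 1)], [(120, 1)], [(121, 1)], [(122, 1)], [(123, 1)], [(124, 1)], [(125, 1)], [(126, 1)], [(127, 1)], [(128, 1)], [(129, 1)], [(130, 1)], [(131, 1)], [(132, 1)], [(133, 1)], [(134, 1)], [(135, 1)], [(136, 1)], [(137, 1)], [(150, 1)], [(151, 1)], [(152, 1)], [(153, 1)], [(154, 1)], [(143, 1)], [(155, -1)], [(156, -1)], [(157, -1)], [(158,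 -1)], [(159, -1)], [(106, -1)], [(138, -1)], [(139, -1)], [(140, -1)], [(141, -1)], [(142, -1)], [(144, 1)], [(145, 1)], [(146, 1)], [(147, 1)], [(148, 1)], [(160, 1)], [(161, 1)], [(162, 1)], [(163, 1)], [(164, 1)], [(165, 1)], [(166, 1)], [(167, 1)], [(168, 1)], [(169, 1)], [(170, 1)], [(171, 1)], [(177, -1)], [(178, -1)], [(179, -1)], [(180, -1)], [(181, -1)], [(172, 1)], [(173, 1)], [(174, 1)], [(175, 1)], [(176, 1)], [(182, 1)], [(183, 1)], [(184, 1)], [(185, 1)], [(186, 1)], [(187, 1)], [(188, 1)], [(189, 1)], [(190, 1)], [(191, 1)], [(192, 1)], [(193, 1)], [(194, 1)], [(195, 1)], [(196, 1)], [(197, 1)], [(198, 1)], [(199, 1)], [(200, 1)], [(201, 1)], [(212, -1)], [(213, -1)], [(214, -1)], [(215, -1)], [(216, -1)], [(217, -1)], [(218, -1)], [(219, -1)], [(220, -1)], [(221, -1)], [(202, 1)], [(203, 1)], [(204, 1)], [(205, 1)], [(206, 1)], [(207, 1)], [(208, 1)], [(209, 1)],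 [(210, 1)], [(211, 1)], [(222, 1)], [(223, 1)], [(224, 1)], [(225, 1)], [(226, 1)], [(227, 1)], [(228, 1)], [(229, 1)], [(230, 1)], [(231, 1)], [(233, -1)], [(232, 1)], [(234, 1)], [(235, 1)], [(236, 1)], [(237, 1)], [(238, 1)], [(241, -1)], [(242, -1)], [(239, 1)], [(240, 1)], [(243, 1)], [(244, 1)], [(245, 1)], [(246, 1)], [(247, 1)]]

/-- Literal table: the matrix of `n_i` by columns, `i = 2`. -/
def Nc2 : Idxd :=
  [[(0, 1), (2, 1)], [(1, 1)], [(2, -1)], [(2, 1), (3, 1)], [(4, 1)], [(5, 1)], [(6, 1)], [(7, 1)], [(8, 1)], [(9, 1)], [(10, 1)], [(11, 1)], [(12, 1)], [(14, -1)], [(13, 1)], [(16, -1)], [(15, 1)], [(17, 1)], [(18, 1)], [(19, 1)], [(20, 1)], [(21, 1)], [(22, 1)], [(23, 1)], [(29, -1)], [(30, -1)], [(31, -1)], [(32, -1)], [(33, -1)], [(24, 1)], [(25, 1)], [(26, 1)], [(27, 1)], [(28, 1)], [(34, 1)], [(35, 1)], [(36, 1)], [(37, 1)], [(38, 1)], [(39, 1)], [(40, 1)], [(41,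 1)], [(42, 1)], [(43, 1)], [(44, 1)], [(45, 1)], [(46, 1)], [(47, 1)], [(48, 1)], [(49, 1)], [(50, 1)], [(51, 1)], [(52, 1)], [(53, 1)], [(64, -1)], [(65, -1)], [(66, -1)], [(67, -1)], [(68, -1)], [(69, -1)], [(70, -1)], [(71, -1)], [(72, -1)], [(73, -1)], [(54, 1)], [(55, 1)], [(56, 1)], [(57, 1)], [(58, 1)], [(59, 1)], [(60, 1)], [(61, 1)], [(62, 1)], [(63, 1)], [(74, 1)], [(75, 1)], [(76, 1)], [(77, 1)], [(78, 1)], [(79, 1)], [(80, 1)], [(81, 1)], [(82, 1)], [(83, 1)], [(85, -1)], [(84, 1)], [(86, 1)], [(87, 1)], [(88, 1)], [(89, 1)], [(90, 1)], [(91, 1)], [(92, 1)], [(93, 1)], [(94, 1)], [(95, 1)], [(101, -1)], [(102, -1)], [(103, -1)], [(104, -1)], [(105, -1)], [(96, 1)], [(97, 1)], [(98, 1)], [(99, 1)], [(100, 1)], [(106, 1)], [(113, 1)], [(114, 1)], [(115, 1)], [(116, 1)], [(117, 1)], [(143, -1)], [(107, -1)], [(108, -1)], [(109, -1)], [(110, -1)], [(111, -1)], [(118, 1)],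 [(119, 1)], [(120, 1)], [(121, 1)], [(122, 1)], [(123, 1)], [(124, 1)], [(125, 1)], [(126, 1)], [(127, 1)], [(128, 1)], [(129, 1)], [(130, 1)], [(131, 1)], [(132, 1)], [(133, 1)], [(134, 1)], [(135, 1)], [(136, 1)], [(137, 1)], [(144, -1)], [(145, -1)], [(146, -1)], [(147, -1)], [(148, -1)], [(112, -1)], [(138, 1)], [(139, 1)], [(140, 1)], [(141, 1)], [(142, 1)], [(149, 1)], [(155, 1)], [(156, 1)], [(157, 1)], [(158, 1)], [(159, 1)], [(150, -1)], [(151, -1)], [(152, -1)], [(153, -1)], [(154, -1)], [(160, 1)], [(161, 1)], [(162, 1)], [(163, 1)], [(164, 1)], [(165, 1)], [(166, 1)], [(167, 1)], [(168, 1)], [(169, 1)], [(171, 1)], [(170, -1)], [(172, 1)], [(173, 1)], [(174, 1)], [(175, 1)], [(176, 1)], [(177, 1)], [(178, 1)], [(179, 1)], [(180, 1)], [(181, 1)], [(192, 1)], [(193, 1)], [(194, 1)], [(195, 1)], [(196, 1)], [(197, 1)], [(198, 1)], [(199, 1)], [(200, 1)], [(201, 1)], [(182,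 -1)], [(183, -1)], [(184, -1)], [(185, -1)], [(186, -1)], [(187, -1)], [(188, -1)], [(189, -1)], [(190, -1)], [(191, -1)], [(202, 1)], [(203, 1)], [(204, 1)], [(205, 1)], [(206, 1)], [(207, 1)], [(208, 1)], [(209, 1)], [(210, 1)], [(211, 1)], [(212, 1)], [(213, 1)], [(214, 1)], [(215, 1)], [(216, 1)], [(217, 1)], [(218, 1)], [(219, 1)], [(220, 1)], [(221, 1)], [(227, 1)], [(228, 1)], [(229, 1)], [(230, 1)], [(231, 1)], [(222, -1)], [(223, -1)], [(224, -1)], [(225, -1)], [(226, -1)], [(232, 1)], [(233, 1)], [(234, 1)], [(235, 1)], [(236, 1)], [(237, 1)], [(238, 1)], [(240, 1)], [(239, -1)], [(242, 1)], [(241, -1)], [(243, 1)], [(244, 1)], [(245, 1)], [(246, 1)], [(247, 1)]]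

/-- Literal table: the matrix of `n_i` by rows, `i = 2`. -/
def Nr2 : Idxd :=
  [[(0, 1)], [(1, 1)], [(0, 1), (2, -1), (3, 1)], [(3, 1)], [(4, 1)], [(5, 1)], [(6, 1)], [(7, 1)], [(8, 1)], [(9, 1)], [(10, 1)], [(11, 1)], [(12, 1)], [(14, 1)], [(13, -1)], [(16, 1)], [(15, -1)], [(17, 1)], [(18, 1)], [(19, 1)], [(20, 1)], [(21, 1)], [(22, 1)], [(23, 1)], [(29, 1)], [(30, 1)], [(31, 1)], [(32, 1)], [(33, 1)], [(24, -1)], [(25, -1)], [(26, -1)], [(27, -1)], [(28, -1)], [(34, 1)], [(35, 1)], [(36, 1)], [(37, 1)], [(38, 1)], [(39, 1)], [(40, 1)], [(41, 1)], [(42, 1)], [(43, 1)], [(44, 1)], [(45, 1)], [(46, 1)], [(47, 1)], [(48, 1)], [(49, 1)], [(50, 1)], [(51, 1)], [(52, 1)], [(53, 1)], [(64, 1)], [(65, 1)], [(66, 1)], [(67, 1)], [(68, 1)], [(69, 1)], [(70, 1)], [(71, 1)], [(72, 1)], [(73, 1)], [(54, -1)], [(55, -1)], [(56, -1)], [(57, -1)], [(58, -1)], [(59, -1)], [(60, -1)], [(61, -1)],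 [(62, -1)], [(63, -1)], [(74, 1)], [(75, 1)], [(76, 1)], [(77, 1)], [(78, 1)], [(79, 1)], [(80, 1)], [(81, 1)], [(82, 1)], [(83, 1)], [(85, 1)], [(84, -1)], [(86, 1)], [(87, 1)], [(88, 1)], [(89, 1)], [(90, 1)], [(91, 1)], [(92, 1)], [(93, 1)], [(94, 1)], [(95, 1)], [(101, 1)], [(102, 1)], [(103, 1)], [(104, 1)], [(105, 1)], [(96, -1)], [(97, -1)], [(98, -1)], [(99, -1)], [(100, -1)], [(106, 1)], [(113, -1)], [(114, -1)], [(115, -1)], [(116, -1)], [(117, -1)], [(143, -1)], [(107, 1)], [(108, 1)], [(109, 1)], [(110, 1)], [(111, 1)], [(118, 1)], [(119, 1)], [(120, 1)], [(121, 1)], [(122, 1)], [(123, 1)], [(124, 1)], [(125, 1)], [(126, 1)], [(127, 1)], [(128, 1)], [(129, 1)], [(130, 1)], [(131, 1)], [(132, 1)], [(133, 1)], [(134, 1)], [(135, 1)], [(136, 1)], [(137, 1)], [(144, 1)], [(145, 1)], [(146, 1)], [(147, 1)], [(148, 1)], [(112, -1)], [(138, -1)], [(139, -1)], [(140, -1)], [(141,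 -1)], [(142, -1)], [(149, 1)], [(155, -1)], [(156, -1)], [(157, -1)], [(158, -1)], [(159, -1)], [(150, 1)], [(151, 1)], [(152, 1)], [(153, 1)], [(154, 1)], [(160, 1)], [(161, 1)], [(162, 1)], [(163, 1)], [(164, 1)], [(165, 1)], [(166, 1)], [(167, 1)], [(168, 1)], [(169, 1)], [(171, -1)], [(170, 1)], [(172, 1)], [(173, 1)], [(174, 1)], [(175, 1)], [(176, 1)], [(177, 1)], [(178, 1)], [(179, 1)], [(180, 1)], [(181, 1)], [(192, -1)], [(193, -1)], [(194, -1)], [(195, -1)], [(196, -1)], [(197, -1)], [(198, -1)], [(199, -1)], [(200, -1)], [(201, -1)], [(182, 1)], [(183, 1)], [(184, 1)], [(185, 1)], [(186, 1)], [(187, 1)], [(188, 1)], [(189, 1)], [(190, 1)], [(191, 1)], [(202, 1)], [(203, 1)], [(204, 1)], [(205, 1)], [(206, 1)], [(207, 1)], [(208, 1)], [(209, 1)], [(210, 1)], [(211, 1)], [(212, 1)], [(213, 1)], [(214, 1)], [(215, 1)], [(216, 1)], [(217, 1)], [(218, 1)], [(219, 1)], [(220,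 1)], [(221, 1)], [(227, -1)], [(228, -1)], [(229, -1)], [(230, -1)], [(231, -1)], [(222, 1)], [(223, 1)], [(224, 1)], [(225, 1)], [(226, 1)], [(232, 1)], [(233, 1)], [(234, 1)], [(235, 1)], [(236, 1)], [(237, 1)], [(238, 1)], [(240, -1)], [(239, 1)], [(242, -1)], [(241, 1)], [(243, 1)], [(244, 1)], [(245, 1)], [(246, 1)], [(247, 1)]]

/-- Literal table: the matrix of `n_i` by columns, `i = 3`. -/
def Nc3 : Idxd :=
  [[(0, 1)], [(1, 1), (3, 1)], [(2, 1), (3, 1)], [(3, -1)], [(3, 1), (4, 1)], [(5, 1)], [(6, 1)], [(7, 1)], [(8, 1)], [(9, 1)], [(10, 1)], [(11, 1)], [(13, -1)], [(12, 1)], [(14, 1)], [(15, 1)], [(17, -1)], [(16, 1)], [(18, 1)], [(19, 1)], [(20, 1)], [(21, 1)], [(22, 1)], [(24, -1)], [(23, 1)], [(25, 1)], [(26, 1)], [(27, 1)], [(28, 1)], [(29, 1)], [(34, -1)], [(35, -1)], [(36, -1)], [(37, -1)], [(30, 1)], [(31, 1)], [(32, 1)], [(33, 1)], [(38, 1)], [(39, 1)], [(40, 1)],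 [(41, 1)], [(42, 1)], [(43, 1)], [(44, 1)], [(45, 1)], [(46, 1)], [(47, 1)], [(54, -1)], [(55, -1)], [(56, -1)], [(57, -1)], [(58, -1)], [(59, -1)], [(48, 1)], [(49, 1)], [(50, 1)], [(51, 1)], [(52, 1)], [(53, 1)], [(60, 1)], [(61, 1)], [(62, 1)], [(63, 1)], [(64, 1)], [(65, 1)], [(66, 1)], [(67, 1)], [(68, 1)], [(69, 1)], [(74, -1)], [(75, -1)], [(76, -1)], [(77, -1)], [(70, 1)], [(71, 1)], [(72, 1)], [(73, 1)], [(78, 1)], [(79, 1)], [(80, 1)], [(81, 1)], [(82, 1)], [(84, -1)], [(83, 1)], [(85, 1)], [(86, 1)], [(87, 1)], [(88, 1)], [(89, 1)], [(90, 1)], [(91, 1)], [(96, -1)], [(97, -1)], [(98, -1)], [(99, -1)], [(92, 1)], [(93, 1)], [(94, 1)], [(95, 1)], [(100, 1)], [(101, 1)], [(102, 1)], [(103, 1)], [(104, 1)], [(106, -1)], [(105, 1)], [(107, 1)], [(108, 1)], [(109, 1)], [(110, 1)], [(112, -1)], [(111, 1)], [(118, 1)], [(119, 1)], [(120, 1)], [(121, 1)], [(138, -1)], [(113, -1)],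 [(114, -1)], [(115, -1)], [(116, -1)], [(122, 1)], [(123, 1)], [(124, 1)], [(125, 1)], [(126, 1)], [(127, 1)], [(128, 1)], [(129, 1)], [(130, 1)], [(131, 1)], [(132, 1)], [(133, 1)], [(139, -1)], [(140, -1)], [(141, -1)], [(142, -1)], [(117, -1)], [(134, 1)], [(135, 1)], [(136, 1)], [(137, 1)], [(144, 1)], [(143, -1)], [(145, 1)], [(146, 1)], [(147, 1)], [(148, 1)], [(150, 1)], [(149, -1)], [(151, 1)], [(152, 1)], [(153, 1)], [(154, 1)], [(155, 1)], [(160, 1)], [(161, 1)], [(162, 1)], [(163, 1)], [(156, -1)], [(157, -1)], [(158, -1)], [(159, -1)], [(164, 1)], [(165, 1)], [(166, 1)], [(167, 1)], [(168, 1)], [(169, 1)], [(170, 1)], [(172, 1)], [(171, -1)], [(173, 1)], [(174, 1)], [(175, 1)], [(176, 1)], [(177, 1)], [(182, 1)], [(183, 1)], [(184, 1)], [(185, 1)], [(178, -1)], [(179, -1)], [(180, -1)], [(181, -1)], [(186, 1)], [(187, 1)], [(188, 1)], [(189, 1)], [(190, 1)], [(191, 1)],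 [(192, 1)], [(193, 1)], [(194, 1)], [(195, 1)], [(202, 1)], [(203, 1)], [(204, 1)], [(205, 1)], [(206, 1)], [(207, 1)], [(196, -1)], [(197, -1)], [(198, -1)], [(199, -1)], [(200, -1)], [(201, -1)], [(208, 1)], [(209, 1)], [(210, 1)], [(211, 1)], [(212, 1)], [(213, 1)], [(214, 1)], [(215, 1)], [(216, 1)], [(217, 1)], [(222, 1)], [(223, 1)], [(224, 1)], [(225, 1)], [(218, -1)], [(219, -1)], [(220, -1)], [(221, -1)], [(226, 1)], [(227, 1)], [(228, 1)], [(229, 1)], [(230, 1)], [(232, 1)], [(231, -1)], [(233, 1)], [(234, 1)], [(235, 1)], [(236, 1)], [(237, 1)], [(239, 1)], [(238, -1)], [(240, 1)], [(241, 1)], [(243, 1)], [(242, -1)], [(244, 1)], [(245, 1)], [(246, 1)], [(247, 1)]]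

/-- Literal table: the matrix of `n_i` by rows, `i = 3`. -/
def Nr3 : Idxd :=
  [[(0, 1)], [(1, 1)], [(2, 1)], [(1, 1), (2, 1), (3, -1), (4, 1)], [(4, 1)], [(5, 1)], [(6, 1)], [(7, 1)], [(8, 1)], [(9, 1)], [(10, 1)], [(11, 1)], [(13, 1)], [(12, -1)], [(14, 1)], [(15, 1)], [(17, 1)], [(16, -1)], [(18, 1)], [(19, 1)], [(20, 1)], [(21, 1)], [(22, 1)], [(24, 1)], [(23, -1)], [(25, 1)], [(26, 1)], [(27, 1)], [(28, 1)], [(29, 1)], [(34, 1)], [(35, 1)], [(36, 1)], [(37, 1)], [(30, -1)], [(31, -1)], [(32, -1)], [(33, -1)], [(38, 1)], [(39, 1)], [(40, 1)], [(41, 1)], [(42, 1)], [(43, 1)], [(44, 1)], [(45, 1)], [(46, 1)], [(47, 1)], [(54, 1)], [(55, 1)], [(56, 1)], [(57, 1)], [(58, 1)], [(59, 1)], [(48, -1)], [(49, -1)], [(50, -1)], [(51, -1)], [(52, -1)], [(53, -1)], [(60, 1)], [(61, 1)], [(62, 1)], [(63, 1)], [(64, 1)], [(65, 1)], [(66, 1)], [(67, 1)], [(68, 1)], [(69, 1)], [(74, 1)],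 [(75, 1)], [(76, 1)], [(77, 1)], [(70, -1)], [(71, -1)], [(72, -1)], [(73, -1)], [(78, 1)], [(79, 1)], [(80, 1)], [(81, 1)], [(82, 1)], [(84, 1)], [(83, -1)], [(85, 1)], [(86, 1)], [(87, 1)], [(88, 1)], [(89, 1)], [(90, 1)], [(91, 1)], [(96, 1)], [(97, 1)], [(98, 1)], [(99, 1)], [(92, -1)], [(93, -1)], [(94, -1)], [(95, -1)], [(100, 1)], [(101, 1)], [(102, 1)], [(103, 1)], [(104, 1)], [(106, 1)], [(105, -1)], [(107, 1)], [(108, 1)], [(109, 1)], [(110, 1)], [(112, 1)], [(111, -1)], [(118, -1)], [(119, -1)], [(120, -1)], [(121, -1)], [(138, -1)], [(113, 1)], [(114, 1)], [(115, 1)], [(116, 1)], [(122, 1)], [(123, 1)], [(124, 1)], [(125, 1)], [(126, 1)], [(127, 1)], [(128, 1)], [(129, 1)], [(130, 1)], [(131, 1)], [(132, 1)], [(133, 1)], [(139, 1)], [(140, 1)], [(141, 1)], [(142, 1)], [(117, -1)], [(134, -1)], [(135, -1)], [(136, -1)], [(137, -1)], [(144, -1)], [(143, 1)], [(145, 1)],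 [(146, 1)], [(147, 1)], [(148, 1)], [(150, -1)], [(149, 1)], [(151, 1)], [(152, 1)], [(153, 1)], [(154, 1)], [(155, 1)], [(160, -1)], [(161, -1)], [(162, -1)], [(163, -1)], [(156, 1)], [(157, 1)], [(158, 1)], [(159, 1)], [(164, 1)], [(165, 1)], [(166, 1)], [(167, 1)], [(168, 1)], [(169, 1)], [(170, 1)], [(172, -1)], [(171, 1)], [(173, 1)], [(174, 1)], [(175, 1)], [(176, 1)], [(177, 1)], [(182, -1)], [(183, -1)], [(184, -1)], [(185, -1)], [(178, 1)], [(179, 1)], [(180, 1)], [(181, 1)], [(186, 1)], [(187, 1)], [(188, 1)], [(189, 1)], [(190, 1)], [(191, 1)], [(192, 1)], [(193, 1)], [(194, 1)], [(195, 1)], [(202, -1)], [(203, -1)], [(204, -1)], [(205, -1)], [(206, -1)], [(207, -1)], [(196, 1)], [(197, 1)], [(198, 1)], [(199, 1)], [(200, 1)], [(201, 1)], [(208, 1)], [(209, 1)], [(210, 1)], [(211, 1)], [(212, 1)], [(213, 1)], [(214, 1)], [(215, 1)], [(216, 1)], [(217, 1)], [(222, -1)],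 [(223, -1)], [(224, -1)], [(225, -1)], [(218, 1)], [(219, 1)], [(220, 1)], [(221, 1)], [(226, 1)], [(227, 1)], [(228, 1)], [(229, 1)], [(230, 1)], [(232, -1)], [(231, 1)], [(233, 1)], [(234, 1)], [(235, 1)], [(236, 1)], [(237, 1)], [(239, -1)], [(238, 1)], [(240, 1)], [(241, 1)], [(243, -1)], [(242, 1)], [(244, 1)], [(245, 1)], [(246, 1)], [(247, 1)]]

/-- Literal table: the matrix of `n_i` by columns, `i = 4`. -/
def Nc4 : Idxd :=
  [[(0, 1)], [(1, 1)], [(2, 1)], [(3, 1), (4, 1)], [(4, -1)], [(4, 1), (5, 1)], [(6, 1)], [(7, 1)], [(8, 1)], [(9, 1)], [(10, 1)], [(12, -1)], [(11, 1)], [(13, 1)], [(14, 1)], [(15, 1)], [(16, 1)], [(18, -1)], [(17, 1)], [(19, 1)], [(20, 1)], [(21, 1)], [(22, 1)], [(23, 1)], [(25, -1)], [(24, 1)], [(26, 1)], [(27, 1)], [(28, 1)], [(30, -1)], [(29, 1)], [(31, 1)], [(32, 1)], [(33, 1)], [(34, 1)], [(38, -1)], [(39, -1)], [(40, -1)], [(35, 1)], [(36, 1)],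 [(37, 1)], [(41, 1)], [(42, 1)], [(43, 1)], [(44, 1)], [(48, -1)], [(49, -1)], [(50, -1)], [(45, 1)], [(46, 1)], [(47, 1)], [(51, 1)], [(52, 1)], [(53, 1)], [(54, 1)], [(55, 1)], [(56, 1)], [(60, -1)], [(61, -1)], [(62, -1)], [(57, 1)], [(58, 1)], [(59, 1)], [(63, 1)], [(64, 1)], [(65, 1)], [(66, 1)], [(70, -1)], [(71, -1)], [(72, -1)], [(67, 1)], [(68, 1)], [(69, 1)], [(73, 1)], [(74, 1)], [(75, 1)], [(76, 1)], [(78, -1)], [(77, 1)], [(79, 1)], [(80, 1)], [(81, 1)], [(83, -1)], [(82, 1)], [(84, 1)], [(85, 1)], [(86, 1)], [(87, 1)], [(88, 1)], [(92, -1)], [(93, -1)], [(94, -1)], [(89, 1)], [(90, 1)], [(91, 1)], [(95, 1)], [(96, 1)], [(97, 1)], [(98, 1)], [(100, -1)], [(99, 1)], [(101, 1)], [(102, 1)], [(103, 1)], [(105, -1)], [(104, 1)], [(106, 1)], [(107, 1)], [(108, 1)], [(109, 1)], [(111, -1)], [(110, 1)], [(112, 1)], [(113, 1)], [(114, 1)], [(115, 1)], [(117, -1)], [(116, 1)],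 [(122, 1)], [(123, 1)], [(124, 1)], [(134, -1)], [(118, -1)], [(119, -1)], [(120, -1)], [(125, 1)], [(126, 1)], [(127, 1)], [(128, 1)], [(129, 1)], [(130, 1)], [(135, -1)], [(136, -1)], [(137, -1)], [(121, -1)], [(131, 1)], [(132, 1)], [(133, 1)], [(139, 1)], [(138, -1)], [(140, 1)], [(141, 1)], [(142, 1)], [(143, 1)], [(145, 1)], [(144, -1)], [(146, 1)], [(147, 1)], [(148, 1)], [(149, 1)], [(151, 1)], [(150, -1)], [(152, 1)], [(153, 1)], [(154, 1)], [(156, 1)], [(155, -1)], [(157, 1)], [(158, 1)], [(159, 1)], [(160, 1)], [(164, 1)], [(165, 1)], [(166, 1)], [(161, -1)], [(162, -1)], [(163, -1)], [(167, 1)], [(168, 1)], [(169, 1)], [(170, 1)], [(171, 1)], [(173, 1)], [(172, -1)], [(174, 1)], [(175, 1)], [(176, 1)], [(178, 1)], [(177, -1)], [(179, 1)], [(180, 1)], [(181, 1)], [(182, 1)], [(186, 1)], [(187, 1)], [(188, 1)], [(183, -1)], [(184, -1)], [(185, -1)], [(189, 1)], [(190,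 1)], [(191, 1)], [(192, 1)], [(196, 1)], [(197, 1)], [(198, 1)], [(193, -1)], [(194, -1)], [(195, -1)], [(199, 1)], [(200, 1)], [(201, 1)], [(202, 1)], [(203, 1)], [(204, 1)], [(208, 1)], [(209, 1)], [(210, 1)], [(205, -1)], [(206, -1)], [(207, -1)], [(211, 1)], [(212, 1)], [(213, 1)], [(214, 1)], [(218, 1)], [(219, 1)], [(220, 1)], [(215, -1)], [(216, -1)], [(217, -1)], [(221, 1)], [(222, 1)], [(223, 1)], [(224, 1)], [(226, 1)], [(225, -1)], [(227, 1)], [(228, 1)], [(229, 1)], [(231, 1)], [(230, -1)], [(232, 1)], [(233, 1)], [(234, 1)], [(235, 1)], [(236, 1)], [(238, 1)], [(237, -1)], [(239, 1)], [(240, 1)], [(241, 1)], [(242, 1)], [(244, 1)], [(243, -1)], [(245, 1)], [(246, 1)], [(247, 1)]]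

/-- Literal table: the matrix of `n_i` by rows, `i = 4`. -/
def Nr4 : Idxd :=
  [[(0, 1)], [(1, 1)], [(2, 1)], [(3, 1)], [(3, 1), (4, -1), (5, 1)], [(5, 1)], [(6, 1)], [(7, 1)], [(8, 1)], [(9, 1)], [(10, 1)], [(12, 1)], [(11, -1)], [(13, 1)], [(14, 1)], [(15, 1)], [(16, 1)], [(18, 1)], [(17, -1)], [(19, 1)], [(20, 1)], [(21, 1)], [(22, 1)], [(23, 1)], [(25, 1)], [(24, -1)], [(26, 1)], [(27, 1)], [(28, 1)], [(30, 1)], [(29, -1)], [(31, 1)], [(32, 1)], [(33, 1)], [(34, 1)], [(38, 1)], [(39, 1)], [(40, 1)], [(35, -1)], [(36, -1)], [(37, -1)], [(41, 1)], [(42, 1)], [(43, 1)], [(44, 1)], [(48, 1)], [(49, 1)], [(50, 1)], [(45, -1)], [(46, -1)], [(47, -1)], [(51, 1)], [(52, 1)], [(53, 1)], [(54, 1)], [(55, 1)], [(56, 1)], [(60, 1)], [(61, 1)], [(62, 1)], [(57, -1)], [(58, -1)], [(59, -1)], [(63, 1)], [(64, 1)], [(65, 1)], [(66, 1)], [(70, 1)], [(71, 1)], [(72, 1)], [(67, -1)], [(68, -1)],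 [(69, -1)], [(73, 1)], [(74, 1)], [(75, 1)], [(76, 1)], [(78, 1)], [(77, -1)], [(79, 1)], [(80, 1)], [(81, 1)], [(83, 1)], [(82, -1)], [(84, 1)], [(85, 1)], [(86, 1)], [(87, 1)], [(88, 1)], [(92, 1)], [(93, 1)], [(94, 1)], [(89, -1)], [(90, -1)], [(91, -1)], [(95, 1)], [(96, 1)], [(97, 1)], [(98, 1)], [(100, 1)], [(99, -1)], [(101, 1)], [(102, 1)], [(103, 1)], [(105, 1)], [(104, -1)], [(106, 1)], [(107, 1)], [(108, 1)], [(109, 1)], [(111, 1)], [(110, -1)], [(112, 1)], [(113, 1)], [(114, 1)], [(115, 1)], [(117, 1)], [(116, -1)], [(122, -1)], [(123, -1)], [(124, -1)], [(134, -1)], [(118, 1)], [(119, 1)], [(120, 1)], [(125, 1)], [(126, 1)], [(127, 1)], [(128, 1)], [(129, 1)], [(130, 1)], [(135, 1)], [(136, 1)], [(137, 1)], [(121, -1)], [(131, -1)], [(132, -1)], [(133, -1)], [(139, -1)], [(138, 1)], [(140, 1)], [(141, 1)], [(142, 1)], [(143, 1)], [(145, -1)], [(144, 1)], [(146, 1)],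 [(147, 1)], [(148, 1)], [(149, 1)], [(151, -1)], [(150, 1)], [(152, 1)], [(153, 1)], [(154, 1)], [(156, -1)], [(155, 1)], [(157, 1)], [(158, 1)], [(159, 1)], [(160, 1)], [(164, -1)], [(165, -1)], [(166, -1)], [(161, 1)], [(162, 1)], [(163, 1)], [(167, 1)], [(168, 1)], [(169, 1)], [(170, 1)], [(171, 1)], [(173, -1)], [(172, 1)], [(174, 1)], [(175, 1)], [(176, 1)], [(178, -1)], [(177, 1)], [(179, 1)], [(180, 1)], [(181, 1)], [(182, 1)], [(186, -1)], [(187, -1)], [(188, -1)], [(183, 1)], [(184, 1)], [(185, 1)], [(189, 1)], [(190, 1)], [(191, 1)], [(192, 1)], [(196, -1)], [(197, -1)], [(198, -1)], [(193, 1)], [(194, 1)], [(195, 1)], [(199, 1)], [(200, 1)], [(201, 1)], [(202, 1)], [(203, 1)], [(204, 1)], [(208, -1)], [(209, -1)], [(210, -1)], [(205, 1)], [(206, 1)], [(207, 1)], [(211, 1)], [(212, 1)], [(213, 1)], [(214, 1)], [(218, -1)], [(219, -1)], [(220, -1)], [(215, 1)], [(216, 1)],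 [(217, 1)], [(221, 1)], [(222, 1)], [(223, 1)], [(224, 1)], [(226, -1)], [(225, 1)], [(227, 1)], [(228, 1)], [(229, 1)], [(231, -1)], [(230, 1)], [(232, 1)], [(233, 1)], [(234, 1)], [(235, 1)], [(236, 1)], [(238, -1)], [(237, 1)], [(239, 1)], [(240, 1)], [(241, 1)], [(242, 1)], [(244, -1)], [(243, 1)], [(245, 1)], [(246, 1)], [(247, 1)]]

/-- Literal table: the matrix of `n_i` by columns, `i = 5`. -/
def Nc5 : Idxd :=
  [[(0, 1)], [(1, 1)], [(2, 1)], [(3, 1)], [(4, 1), (5, 1)], [(5, -1)], [(5, 1), (6, 1)], [(7, 1)], [(8, 1)], [(9, 1)], [(11, -1)], [(10, 1)], [(12, 1)], [(13, 1)], [(14, 1)], [(15, 1)], [(16, 1)], [(17, 1)], [(19, -1)], [(18, 1)], [(20, 1)], [(21, 1)], [(22, 1)], [(23, 1)], [(24, 1)], [(26, -1)], [(25, 1)], [(27, 1)], [(28, 1)], [(29, 1)], [(31, -1)], [(30, 1)], [(32, 1)], [(33, 1)], [(35, -1)], [(34, 1)], [(36, 1)], [(37, 1)], [(38, 1)], [(41, -1)], [(42, -1)], [(39,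 1)], [(40, 1)], [(43, 1)], [(45, -1)], [(44, 1)], [(46, 1)], [(47, 1)], [(48, 1)], [(51, -1)], [(52, -1)], [(49, 1)], [(50, 1)], [(53, 1)], [(54, 1)], [(57, -1)], [(58, -1)], [(55, 1)], [(56, 1)], [(59, 1)], [(60, 1)], [(61, 1)], [(63, -1)], [(62, 1)], [(64, 1)], [(67, -1)], [(68, -1)], [(65, 1)], [(66, 1)], [(69, 1)], [(70, 1)], [(71, 1)], [(73, -1)], [(72, 1)], [(74, 1)], [(75, 1)], [(77, -1)], [(76, 1)], [(78, 1)], [(79, 1)], [(80, 1)], [(82, -1)], [(81, 1)], [(83, 1)], [(84, 1)], [(85, 1)], [(86, 1)], [(89, -1)], [(90, -1)], [(87, 1)], [(88, 1)], [(91, 1)], [(92, 1)], [(93, 1)], [(95, -1)], [(94, 1)], [(96, 1)], [(97, 1)], [(99, -1)], [(98, 1)], [(100, 1)], [(101, 1)], [(102, 1)], [(104, -1)], [(103, 1)], [(105, 1)], [(106, 1)], [(107, 1)], [(108, 1)], [(110, -1)], [(109, 1)], [(111, 1)], [(112, 1)], [(113, 1)], [(114, 1)], [(116, -1)], [(115, 1)], [(117, 1)], [(118, 1)], [(119,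 1)], [(121, -1)], [(120, 1)], [(125, 1)], [(126, 1)], [(131, -1)], [(122, -1)], [(123, -1)], [(127, 1)], [(128, 1)], [(132, -1)], [(133, -1)], [(124, -1)], [(129, 1)], [(130, 1)], [(135, 1)], [(134, -1)], [(136, 1)], [(137, 1)], [(138, 1)], [(140, 1)], [(139, -1)], [(141, 1)], [(142, 1)], [(143, 1)], [(144, 1)], [(146, 1)], [(145, -1)], [(147, 1)], [(148, 1)], [(149, 1)], [(150, 1)], [(152, 1)], [(151, -1)], [(153, 1)], [(154, 1)], [(155, 1)], [(157, 1)], [(156, -1)], [(158, 1)], [(159, 1)], [(161, 1)], [(160, -1)], [(162, 1)], [(163, 1)], [(164, 1)], [(167, 1)], [(168, 1)], [(165, -1)], [(166, -1)], [(169, 1)], [(170, 1)], [(171, 1)], [(172, 1)], [(174, 1)], [(173, -1)], [(175, 1)], [(176, 1)], [(177, 1)], [(179, 1)], [(178, -1)], [(180, 1)], [(181, 1)], [(183, 1)], [(182, -1)], [(184, 1)], [(185, 1)], [(186, 1)], [(189, 1)], [(190, 1)], [(187, -1)], [(188, -1)], [(191, 1)], [(193,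 1)], [(192, -1)], [(194, 1)], [(195, 1)], [(196, 1)], [(199, 1)], [(200, 1)], [(197, -1)], [(198, -1)], [(201, 1)], [(202, 1)], [(205, 1)], [(206, 1)], [(203, -1)], [(204, -1)], [(207, 1)], [(208, 1)], [(209, 1)], [(211, 1)], [(210, -1)], [(212, 1)], [(215, 1)], [(216, 1)], [(213, -1)], [(214, -1)], [(217, 1)], [(218, 1)], [(219, 1)], [(221, 1)], [(220, -1)], [(222, 1)], [(223, 1)], [(225, 1)], [(224, -1)], [(226, 1)], [(227, 1)], [(228, 1)], [(230, 1)], [(229, -1)], [(231, 1)], [(232, 1)], [(233, 1)], [(234, 1)], [(235, 1)], [(237, 1)], [(236, -1)], [(238, 1)], [(239, 1)], [(240, 1)], [(241, 1)], [(242, 1)], [(243, 1)], [(245, 1)], [(244, -1)], [(246, 1)], [(247, 1)]]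

/-- Literal table: the matrix of `n_i` by rows, `i = 5`. -/
def Nr5 : Idxd :=
  [[(0, 1)], [(1, 1)], [(2, 1)], [(3, 1)], [(4, 1)], [(4, 1), (5, -1), (6, 1)], [(6, 1)], [(7, 1)], [(8, 1)], [(9, 1)], [(11, 1)], [(10, -1)], [(12, 1)], [(13, 1)], [(14, 1)], [(15, 1)], [(16, 1)], [(17, 1)], [(19, 1)], [(18, -1)], [(20, 1)], [(21, 1)], [(22, 1)], [(23, 1)], [(24, 1)], [(26, 1)], [(25, -1)], [(27, 1)], [(28, 1)], [(29, 1)], [(31, 1)], [(30, -1)], [(32, 1)], [(33, 1)], [(35, 1)], [(34, -1)], [(36, 1)], [(37, 1)], [(38, 1)], [(41, 1)], [(42, 1)], [(39, -1)], [(40, -1)], [(43, 1)], [(45, 1)], [(44, -1)], [(46, 1)], [(47, 1)], [(48, 1)], [(51, 1)], [(52, 1)], [(49, -1)], [(50, -1)], [(53, 1)], [(54, 1)], [(57, 1)], [(58, 1)], [(55, -1)], [(56, -1)], [(59, 1)], [(60, 1)], [(61, 1)], [(63, 1)], [(62, -1)], [(64, 1)], [(67, 1)], [(68, 1)], [(65, -1)], [(66, -1)], [(69, 1)], [(70, 1)], [(71,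 1)], [(73, 1)], [(72, -1)], [(74, 1)], [(75, 1)], [(77, 1)], [(76, -1)], [(78, 1)], [(79, 1)], [(80, 1)], [(82, 1)], [(81, -1)], [(83, 1)], [(84, 1)], [(85, 1)], [(86, 1)], [(89, 1)], [(90, 1)], [(87, -1)], [(88, -1)], [(91, 1)], [(92, 1)], [(93, 1)], [(95, 1)], [(94, -1)], [(96, 1)], [(97, 1)], [(99, 1)], [(98, -1)], [(100, 1)], [(101, 1)], [(102, 1)], [(104, 1)], [(103, -1)], [(105, 1)], [(106, 1)], [(107, 1)], [(108, 1)], [(110, 1)], [(109, -1)], [(111, 1)], [(112, 1)], [(113, 1)], [(114, 1)], [(116, 1)], [(115, -1)], [(117, 1)], [(118, 1)], [(119, 1)], [(121, 1)], [(120, -1)], [(125, -1)], [(126, -1)], [(131, -1)], [(122, 1)], [(123, 1)], [(127, 1)], [(128, 1)], [(132, 1)], [(133, 1)], [(124, -1)], [(129, -1)], [(130, -1)], [(135, -1)], [(134, 1)], [(136, 1)], [(137, 1)], [(138, 1)], [(140, -1)], [(139, 1)], [(141, 1)], [(142, 1)], [(143, 1)], [(144, 1)], [(146, -1)], [(145,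 1)], [(147, 1)], [(148, 1)], [(149, 1)], [(150, 1)], [(152, -1)], [(151, 1)], [(153, 1)], [(154, 1)], [(155, 1)], [(157, -1)], [(156, 1)], [(158, 1)], [(159, 1)], [(161, -1)], [(160, 1)], [(162, 1)], [(163, 1)], [(164, 1)], [(167, -1)], [(168, -1)], [(165, 1)], [(166, 1)], [(169, 1)], [(170, 1)], [(171, 1)], [(172, 1)], [(174, -1)], [(173, 1)], [(175, 1)], [(176, 1)], [(177, 1)], [(179, -1)], [(178, 1)], [(180, 1)], [(181, 1)], [(183, -1)], [(182, 1)], [(184, 1)], [(185, 1)], [(186, 1)], [(189, -1)], [(190, -1)], [(187, 1)], [(188, 1)], [(191, 1)], [(193, -1)], [(192, 1)], [(194, 1)], [(195, 1)], [(196, 1)], [(199, -1)], [(200, -1)], [(197, 1)], [(198, 1)], [(201, 1)], [(202, 1)], [(205, -1)], [(206, -1)], [(203, 1)], [(204, 1)], [(207, 1)], [(208, 1)], [(209, 1)], [(211, -1)], [(210, 1)], [(212, 1)], [(215, -1)], [(216, -1)], [(213, 1)], [(214, 1)], [(217, 1)], [(218, 1)], [(219,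 1)], [(221, -1)], [(220, 1)], [(222, 1)], [(223, 1)], [(225, -1)], [(224, 1)], [(226, 1)], [(227, 1)], [(228, 1)], [(230, -1)], [(229, 1)], [(231, 1)], [(232, 1)], [(233, 1)], [(234, 1)], [(235, 1)], [(237, -1)], [(236, 1)], [(238, 1)], [(239, 1)], [(240, 1)], [(241, 1)], [(242, 1)], [(243, 1)], [(245, -1)], [(244, 1)], [(246, 1)], [(247, 1)]]

/-- Literal table: the matrix of `n_i` by columns, `i = 6`. -/
def Nc6 : Idxd :=
  [[(0, 1)], [(1, 1)], [(2, 1)], [(3, 1)], [(4, 1)], [(5, 1), (6, 1)], [(6, -1)], [(6, 1), (7, 1)], [(8, 1)], [(10, -1)], [(9, 1)], [(11, 1)], [(12, 1)], [(13, 1)], [(14, 1)], [(15, 1)], [(16, 1)], [(17, 1)], [(18, 1)], [(20, -1)], [(19, 1)], [(21, 1)], [(22, 1)], [(23, 1)], [(24, 1)], [(25, 1)], [(27, -1)], [(26, 1)], [(28, 1)], [(29, 1)], [(30, 1)], [(32, -1)], [(31, 1)], [(33, 1)], [(34, 1)], [(36, -1)], [(35, 1)], [(37, 1)], [(39, -1)], [(38, 1)], [(40, 1)],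 [(41, 1)], [(43, -1)], [(42, 1)], [(44, 1)], [(46, -1)], [(45, 1)], [(47, 1)], [(49, -1)], [(48, 1)], [(50, 1)], [(51, 1)], [(53, -1)], [(52, 1)], [(55, -1)], [(54, 1)], [(56, 1)], [(57, 1)], [(59, -1)], [(58, 1)], [(60, 1)], [(62, -1)], [(61, 1)], [(63, 1)], [(65, -1)], [(64, 1)], [(66, 1)], [(67, 1)], [(69, -1)], [(68, 1)], [(70, 1)], [(72, -1)], [(71, 1)], [(73, 1)], [(74, 1)], [(76, -1)], [(75, 1)], [(77, 1)], [(78, 1)], [(79, 1)], [(81, -1)], [(80, 1)], [(82, 1)], [(83, 1)], [(84, 1)], [(85, 1)], [(87, -1)], [(86, 1)], [(88, 1)], [(89, 1)], [(91, -1)], [(90, 1)], [(92, 1)], [(94, -1)], [(93, 1)], [(95, 1)], [(96, 1)], [(98, -1)], [(97, 1)], [(99, 1)], [(100, 1)], [(101, 1)], [(103, -1)], [(102, 1)], [(104, 1)], [(105, 1)], [(106, 1)], [(107, 1)], [(109, -1)], [(108, 1)], [(110, 1)], [(111, 1)], [(112, 1)], [(113, 1)], [(115, -1)], [(114, 1)], [(116, 1)], [(117, 1)], [(118,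 1)], [(120, -1)], [(119, 1)], [(121, 1)], [(122, 1)], [(124, -1)], [(123, 1)], [(127, 1)], [(129, -1)], [(125, -1)], [(130, -1)], [(126, -1)], [(128, 1)], [(132, 1)], [(131, -1)], [(133, 1)], [(134, 1)], [(136, 1)], [(135, -1)], [(137, 1)], [(138, 1)], [(139, 1)], [(141, 1)], [(140, -1)], [(142, 1)], [(143, 1)], [(144, 1)], [(145, 1)], [(147, 1)], [(146, -1)], [(148, 1)], [(149, 1)], [(150, 1)], [(151, 1)], [(153, 1)], [(152, -1)], [(154, 1)], [(155, 1)], [(156, 1)], [(158, 1)], [(157, -1)], [(159, 1)], [(160, 1)], [(162, 1)], [(161, -1)], [(163, 1)], [(165, 1)], [(164, -1)], [(166, 1)], [(167, 1)], [(169, 1)], [(168, -1)], [(170, 1)], [(171, 1)], [(172, 1)], [(173, 1)], [(175, 1)], [(174, -1)], [(176, 1)], [(177, 1)], [(178, 1)], [(180, 1)], [(179, -1)], [(181, 1)], [(182, 1)], [(184, 1)], [(183, -1)], [(185, 1)], [(187, 1)], [(186, -1)], [(188, 1)], [(189, 1)], [(191, 1)], [(190,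 -1)], [(192, 1)], [(194, 1)], [(193, -1)], [(195, 1)], [(197, 1)], [(196, -1)], [(198, 1)], [(199, 1)], [(201, 1)], [(200, -1)], [(203, 1)], [(202, -1)], [(204, 1)], [(205, 1)], [(207, 1)], [(206, -1)], [(208, 1)], [(210, 1)], [(209, -1)], [(211, 1)], [(213, 1)], [(212, -1)], [(214, 1)], [(215, 1)], [(217, 1)], [(216, -1)], [(218, 1)], [(220, 1)], [(219, -1)], [(221, 1)], [(222, 1)], [(224, 1)], [(223, -1)], [(225, 1)], [(226, 1)], [(227, 1)], [(229, 1)], [(228, -1)], [(230, 1)], [(231, 1)], [(232, 1)], [(233, 1)], [(234, 1)], [(236, 1)], [(235, -1)], [(237, 1)], [(238, 1)], [(239, 1)], [(240, 1)], [(241, 1)], [(242, 1)], [(243, 1)], [(244, 1)], [(246, 1)], [(245, -1)], [(247, 1)]]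

/-- Literal table: the matrix of `n_i` by rows, `i = 6`. -/
def Nr6 : Idxd :=
  [[(0, 1)], [(1, 1)], [(2, 1)], [(3, 1)], [(4, 1)], [(5, 1)], [(5, 1), (6, -1), (7, 1)], [(7, 1)], [(8, 1)], [(10, 1)], [(9, -1)], [(11, 1)], [(12, 1)], [(13, 1)], [(14, 1)], [(15, 1)], [(16, 1)], [(17, 1)], [(18, 1)], [(20, 1)], [(19, -1)], [(21, 1)], [(22, 1)], [(23, 1)], [(24, 1)], [(25, 1)], [(27, 1)], [(26, -1)], [(28, 1)], [(29, 1)], [(30, 1)], [(32, 1)], [(31, -1)], [(33, 1)], [(34, 1)], [(36, 1)], [(35, -1)], [(37, 1)], [(39, 1)], [(38, -1)], [(40, 1)], [(41, 1)], [(43, 1)], [(42, -1)], [(44, 1)], [(46, 1)], [(45, -1)], [(47, 1)], [(49, 1)], [(48, -1)], [(50, 1)], [(51, 1)], [(53, 1)], [(52, -1)], [(55, 1)], [(54, -1)], [(56, 1)], [(57, 1)], [(59, 1)], [(58, -1)], [(60, 1)], [(62, 1)], [(61, -1)], [(63, 1)], [(65, 1)], [(64, -1)], [(66, 1)], [(67, 1)], [(69, 1)], [(68, -1)], [(70, 1)], [(72,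 1)], [(71, -1)], [(73, 1)], [(74, 1)], [(76, 1)], [(75, -1)], [(77, 1)], [(78, 1)], [(79, 1)], [(81, 1)], [(80, -1)], [(82, 1)], [(83, 1)], [(84, 1)], [(85, 1)], [(87, 1)], [(86, -1)], [(88, 1)], [(89, 1)], [(91, 1)], [(90, -1)], [(92, 1)], [(94, 1)], [(93, -1)], [(95, 1)], [(96, 1)], [(98, 1)], [(97, -1)], [(99, 1)], [(100, 1)], [(101, 1)], [(103, 1)], [(102, -1)], [(104, 1)], [(105, 1)], [(106, 1)], [(107, 1)], [(109, 1)], [(108, -1)], [(110, 1)], [(111, 1)], [(112, 1)], [(113, 1)], [(115, 1)], [(114, -1)], [(116, 1)], [(117, 1)], [(118, 1)], [(120, 1)], [(119, -1)], [(121, 1)], [(122, 1)], [(124, 1)], [(123, -1)], [(127, -1)], [(129, -1)], [(125, 1)], [(130, 1)], [(126, -1)], [(128, -1)], [(132, -1)], [(131, 1)], [(133, 1)], [(134, 1)], [(136, -1)], [(135, 1)], [(137, 1)], [(138, 1)], [(139, 1)], [(141, -1)], [(140, 1)], [(142, 1)], [(143, 1)], [(144, 1)], [(145, 1)], [(147,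 -1)], [(146, 1)], [(148, 1)], [(149, 1)], [(150, 1)], [(151, 1)], [(153, -1)], [(152, 1)], [(154, 1)], [(155, 1)], [(156, 1)], [(158, -1)], [(157, 1)], [(159, 1)], [(160, 1)], [(162, -1)], [(161, 1)], [(163, 1)], [(165, -1)], [(164, 1)], [(166, 1)], [(167, 1)], [(169, -1)], [(168, 1)], [(170, 1)], [(171, 1)], [(172, 1)], [(173, 1)], [(175, -1)], [(174, 1)], [(176, 1)], [(177, 1)], [(178, 1)], [(180, -1)], [(179, 1)], [(181, 1)], [(182, 1)], [(184, -1)], [(183, 1)], [(185, 1)], [(187, -1)], [(186, 1)], [(188, 1)], [(189, 1)], [(191, -1)], [(190, 1)], [(192, 1)], [(194, -1)], [(193, 1)], [(195, 1)], [(197, -1)], [(196, 1)], [(198, 1)], [(199, 1)], [(201, -1)], [(200, 1)], [(203, -1)], [(202, 1)], [(204, 1)], [(205, 1)], [(207, -1)], [(206, 1)], [(208, 1)], [(210, -1)], [(209, 1)], [(211, 1)], [(213, -1)], [(212, 1)], [(214, 1)], [(215, 1)], [(217, -1)], [(216, 1)], [(218, 1)], [(220,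 -1)], [(219, 1)], [(221, 1)], [(222, 1)], [(224, -1)], [(223, 1)], [(225, 1)], [(226, 1)], [(227, 1)], [(229, -1)], [(228, 1)], [(230, 1)], [(231, 1)], [(232, 1)], [(233, 1)], [(234, 1)], [(236, -1)], [(235, 1)], [(237, 1)], [(238, 1)], [(239, 1)], [(240, 1)], [(241, 1)], [(242, 1)], [(243, 1)], [(244, 1)], [(246, -1)], [(245, 1)], [(247, 1)]]

/-- Literal table: the matrix of `n_i` by columns, `i = 7`. -/
def Nc7 : Idxd :=
  [[(0, 1)], [(1, 1)], [(2, 1)], [(3, 1)], [(4, 1)], [(5, 1)], [(6, 1), (7, 1)], [(7, -1)], [(9, -1)], [(8, 1)], [(10, 1)], [(11, 1)], [(12, 1)], [(13, 1)], [(14, 1)], [(15, 1)], [(16, 1)], [(17, 1)], [(18, 1)], [(19, 1)], [(21, -1)], [(20, 1)], [(22, 1)], [(23, 1)], [(24, 1)], [(25, 1)], [(26, 1)], [(28, -1)], [(27, 1)], [(29, 1)], [(30, 1)], [(31, 1)], [(33, -1)], [(32, 1)], [(34, 1)], [(35, 1)], [(37, -1)], [(36, 1)], [(38, 1)], [(40, -1)], [(39, 1)], [(42,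 -1)], [(41, 1)], [(43, 1)], [(44, 1)], [(45, 1)], [(47, -1)], [(46, 1)], [(48, 1)], [(50, -1)], [(49, 1)], [(52, -1)], [(51, 1)], [(53, 1)], [(54, 1)], [(56, -1)], [(55, 1)], [(58, -1)], [(57, 1)], [(59, 1)], [(61, -1)], [(60, 1)], [(62, 1)], [(63, 1)], [(64, 1)], [(66, -1)], [(65, 1)], [(68, -1)], [(67, 1)], [(69, 1)], [(71, -1)], [(70, 1)], [(72, 1)], [(73, 1)], [(75, -1)], [(74, 1)], [(76, 1)], [(77, 1)], [(78, 1)], [(80, -1)], [(79, 1)], [(81, 1)], [(82, 1)], [(83, 1)], [(84, 1)], [(85, 1)], [(86, 1)], [(88, -1)], [(87, 1)], [(90, -1)], [(89, 1)], [(91, 1)], [(93, -1)], [(92, 1)], [(94, 1)], [(95, 1)], [(97, -1)], [(96, 1)], [(98, 1)], [(99, 1)], [(100, 1)], [(102, -1)], [(101, 1)], [(103, 1)], [(104, 1)], [(105, 1)], [(106, 1)], [(108, -1)], [(107, 1)], [(109, 1)], [(110, 1)], [(111, 1)], [(112, 1)], [(114, -1)], [(113, 1)], [(115, 1)], [(116, 1)], [(117, 1)], [(119, -1)],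 [(118, 1)], [(120, 1)], [(121, 1)], [(123, -1)], [(122, 1)], [(124, 1)], [(126, -1)], [(125, 1)], [(128, -1)], [(127, -1)], [(130, 1)], [(129, -1)], [(131, 1)], [(133, 1)], [(132, -1)], [(134, 1)], [(135, 1)], [(137, 1)], [(136, -1)], [(138, 1)], [(139, 1)], [(140, 1)], [(142, 1)], [(141, -1)], [(143, 1)], [(144, 1)], [(145, 1)], [(146, 1)], [(148, 1)], [(147, -1)], [(149, 1)], [(150, 1)], [(151, 1)], [(152, 1)], [(154, 1)], [(153, -1)], [(155, 1)], [(156, 1)], [(157, 1)], [(159, 1)], [(158, -1)], [(160, 1)], [(161, 1)], [(163, 1)], [(162, -1)], [(164, 1)], [(166, 1)], [(165, -1)], [(168, 1)], [(167, -1)], [(169, 1)], [(170, 1)], [(171, 1)], [(172, 1)], [(173, 1)], [(174, 1)], [(176, 1)], [(175, -1)], [(177, 1)], [(178, 1)], [(179, 1)], [(181, 1)], [(180, -1)], [(182, 1)], [(183, 1)], [(185, 1)], [(184, -1)], [(186, 1)], [(188, 1)], [(187, -1)], [(190, 1)], [(189, -1)], [(191, 1)],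 [(192, 1)], [(193, 1)], [(195, 1)], [(194, -1)], [(196, 1)], [(198, 1)], [(197, -1)], [(200, 1)], [(199, -1)], [(201, 1)], [(202, 1)], [(204, 1)], [(203, -1)], [(206, 1)], [(205, -1)], [(207, 1)], [(209, 1)], [(208, -1)], [(210, 1)], [(211, 1)], [(212, 1)], [(214, 1)], [(213, -1)], [(216, 1)], [(215, -1)], [(217, 1)], [(219, 1)], [(218, -1)], [(220, 1)], [(221, 1)], [(223, 1)], [(222, -1)], [(224, 1)], [(225, 1)], [(226, 1)], [(228, 1)], [(227, -1)], [(229, 1)], [(230, 1)], [(231, 1)], [(232, 1)], [(233, 1)], [(235, 1)], [(234, -1)], [(236, 1)], [(237, 1)], [(238, 1)], [(239, 1)], [(240, 1)], [(241, 1)], [(242, 1)], [(243, 1)], [(244, 1)], [(245, 1)], [(247, 1)], [(246, -1)]]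

/-- Literal table: the matrix of `n_i` by rows, `i = 7`. -/
def Nr7 : Idxd :=
  [[(0, 1)], [(1, 1)], [(2, 1)], [(3, 1)], [(4, 1)], [(5, 1)], [(6, 1)], [(6, 1), (7, -1)], [(9, 1)], [(8, -1)], [(10, 1)], [(11, 1)], [(12, 1)], [(13, 1)], [(14, 1)], [(15, 1)], [(16, 1)], [(17, 1)], [(18, 1)], [(19, 1)], [(21, 1)], [(20, -1)], [(22, 1)], [(23, 1)], [(24, 1)], [(25, 1)], [(26, 1)], [(28, 1)], [(27, -1)], [(29, 1)], [(30, 1)], [(31, 1)], [(33, 1)], [(32, -1)], [(34, 1)], [(35, 1)], [(37, 1)], [(36, -1)], [(38, 1)], [(40, 1)], [(39, -1)], [(42, 1)], [(41, -1)], [(43, 1)], [(44, 1)], [(45, 1)], [(47, 1)], [(46, -1)], [(48, 1)], [(50, 1)], [(49, -1)], [(52, 1)], [(51, -1)], [(53, 1)], [(54, 1)], [(56, 1)], [(55, -1)], [(58, 1)], [(57, -1)], [(59, 1)], [(61, 1)], [(60, -1)], [(62, 1)], [(63, 1)], [(64, 1)], [(66, 1)], [(65, -1)], [(68, 1)], [(67, -1)], [(69, 1)], [(71, 1)], [(70, -1)], [(72,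 1)], [(73, 1)], [(75, 1)], [(74, -1)], [(76, 1)], [(77, 1)], [(78, 1)], [(80, 1)], [(79, -1)], [(81, 1)], [(82, 1)], [(83, 1)], [(84, 1)], [(85, 1)], [(86, 1)], [(88, 1)], [(87, -1)], [(90, 1)], [(89, -1)], [(91, 1)], [(93, 1)], [(92, -1)], [(94, 1)], [(95, 1)], [(97, 1)], [(96, -1)], [(98, 1)], [(99, 1)], [(100, 1)], [(102, 1)], [(101, -1)], [(103, 1)], [(104, 1)], [(105, 1)], [(106, 1)], [(108, 1)], [(107, -1)], [(109, 1)], [(110, 1)], [(111, 1)], [(112, 1)], [(114, 1)], [(113, -1)], [(115, 1)], [(116, 1)], [(117, 1)], [(119, 1)], [(118, -1)], [(120, 1)], [(121, 1)], [(123, 1)], [(122, -1)], [(124, 1)], [(126, 1)], [(125, -1)], [(128, -1)], [(127, -1)], [(130, -1)], [(129, 1)], [(131, 1)], [(133, -1)], [(132, 1)], [(134, 1)], [(135, 1)], [(137, -1)], [(136, 1)], [(138, 1)], [(139, 1)], [(140, 1)], [(142, -1)], [(141, 1)], [(143, 1)], [(144, 1)], [(145, 1)], [(146, 1)], [(148,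 -1)], [(147, 1)], [(149, 1)], [(150, 1)], [(151, 1)], [(152, 1)], [(154, -1)], [(153, 1)], [(155, 1)], [(156, 1)], [(157, 1)], [(159, -1)], [(158, 1)], [(160, 1)], [(161, 1)], [(163, -1)], [(162, 1)], [(164, 1)], [(166, -1)], [(165, 1)], [(168, -1)], [(167, 1)], [(169, 1)], [(170, 1)], [(171, 1)], [(172, 1)], [(173, 1)], [(174, 1)], [(176, -1)], [(175, 1)], [(177, 1)], [(178, 1)], [(179, 1)], [(181, -1)], [(180, 1)], [(182, 1)], [(183, 1)], [(185, -1)], [(184, 1)], [(186, 1)], [(188, -1)], [(187, 1)], [(190, -1)], [(189, 1)], [(191, 1)], [(192, 1)], [(193, 1)], [(195, -1)], [(194, 1)], [(196, 1)], [(198, -1)], [(197, 1)], [(200, -1)], [(199, 1)], [(201, 1)], [(202, 1)], [(204, -1)], [(203, 1)], [(206, -1)], [(205, 1)], [(207, 1)], [(209, -1)], [(208, 1)], [(210, 1)], [(211, 1)], [(212, 1)], [(214, -1)], [(213, 1)], [(216, -1)], [(215, 1)], [(217, 1)], [(219, -1)], [(218, 1)], [(220,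 1)], [(221, 1)], [(223, -1)], [(222, 1)], [(224, 1)], [(225, 1)], [(226, 1)], [(228, -1)], [(227, 1)], [(229, 1)], [(230, 1)], [(231, 1)], [(232, 1)], [(233, 1)], [(235, -1)], [(234, 1)], [(236, 1)], [(237, 1)], [(238, 1)], [(239, 1)], [(240, 1)], [(241, 1)], [(242, 1)], [(243, 1)], [(244, 1)], [(245, 1)], [(247, -1)], [(246, 1)]]

/-- The matrices of the `n_i`, stored by columns and by rows. -/
def nLits : NLits :=
  [(Nc0, Nr0), (Nc1, Nr1), (Nc2, Nr2), (Nc3, Nr3), (Nc4, Nr4), (Nc5, Nr5), (Nc6, Nr6), (Nc7, Nr7)]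

/-- Part 0 of the reachability certificate. -/
def treeChunk0 : List (ℕ × ℕ × ℤ) :=
  [(2, 162, 1), (2, 77, 1), (3, 141, 1), (3, 98, 1), (3, 135, 1), (3, 104, 1), (4, 130, 1), (4, 109, 1)]

/-- Part 1 of the reachability certificate. -/
def treeChunk1 : List (ℕ × ℕ × ℤ) :=
  [(5, 126, 1), (5, 113, 1), (6, 123, 1), (6, 116, 1), (7, 121, 1), (7, 118, 1), (3, 163, 1), (3, 76, 1)]

/-- Part 2 of the reachability certificate. -/
def treeChunk2 : List (ℕ × ℕ × ℤ) :=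
  [(2, 142, 1), (4, 142, 1), (2, 97, 1), (4, 97, 1), (4, 136, 1), (4, 103, 1), (5, 131, 1), (5, 108, 1)]

/-- Part 3 of the reachability certificate. -/
def treeChunk3 : List (ℕ × ℕ × ℤ) :=
  [(6, 127, 1), (6, 112, 1), (7, 124, 1), (7, 115, 1), (1, 164, 1), (4, 164, 1), (1, 75, 1), (4, 75, 1)]

/-- Part 4 of the reachability certificate. -/
def treeChunk4 : List (ℕ × ℕ × ℤ) :=
  [(4, 147, 1), (5, 143, 1), (4, 92, 1), (5, 96, 1), (5, 137, 1), (5, 102, 1), (6, 132, 1), (6, 107, 1)]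

/-- Part 5 of the reachability certificate. -/
def treeChunk5 : List (ℕ × ℕ × ℤ) :=
  [(7, 128, 1), (7, 111, 1), (4, 169, 1), (5, 165, 1), (4, 70, 1), (5, 74, 1), (3, 148, 1), (5, 148, 1)]

/-- Part 6 of the reachability certificate. -/
def treeChunk6 : List (ℕ × ℕ × ℤ) :=
  [(6, 144, 1), (3, 91, 1), (5, 91, 1), (6, 95, 1), (6, 138, 1), (6, 101, 1), (7, 133, 1), (7, 106, 1)]

/-- Part 7 of the reachability certificate. -/
def treeChunk7 : List (ℕ × ℕ × ℤ) :=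
  [(3, 170, 1), (5, 170, 1), (6, 166, 1), (3, 69, 1), (5, 69, 1), (6, 73, 1), (5, 152, 1), (6, 149, 1)]

/-- Part 8 of the reachability certificate. -/
def treeChunk8 : List (ℕ × ℕ × ℤ) :=
  [(7, 145, 1), (5, 87, 1), (6, 90, 1), (7, 94, 1), (7, 139, 1), (7, 100, 1), (2, 174, 1), (5, 174, 1)]

/-- Part 9 of the reachability certificate. -/
def treeChunk9 : List (ℕ × ℕ × ℤ) :=
  [(6, 171, 1), (7, 167, 1), (2, 65, 1), (5, 65, 1), (6, 68, 1), (7, 72, 1), (4, 153, 1), (6, 153, 1)]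

/-- Part 10 of the reachability certificate. -/
def treeChunk10 : List (ℕ × ℕ × ℤ) :=
  [(7, 150, 1), (4, 86, 1), (6, 86, 1), (7, 89, 1), (5, 184, 1), (4, 175, 1), (6, 175, 1), (7, 172, 1)]

/-- Part 11 of the reachability certificate. -/
def treeChunk11 : List (ℕ × ℕ × ℤ) :=
  [(5, 55, 1), (4, 64, 1), (6, 64, 1), (7, 67, 1), (6, 156, 1), (7, 154, 1), (6, 83, 1), (7, 85, 1)]

/-- Part 12 of the reachability certificate. -/
def treeChunk12 : List (ℕ × ℕ × ℤ) :=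
  [(4, 185, 1), (6, 185, 1), (6, 178, 1), (7, 176, 1), (4, 54, 1), (6, 54, 1), (6, 61, 1), (7, 63, 1)]

/-- Part 13 of the reachability certificate. -/
def treeChunk13 : List (ℕ × ℕ × ℤ) :=
  [(5, 157, 1), (7, 157, 1), (5, 82, 1), (7, 82, 1), (3, 188, 1), (6, 188, 1), (7, 186, 1), (5, 179, 1)]

/-- Part 14 of the reachability certificate. -/
def treeChunk14 : List (ℕ × ℕ × ℤ) :=
  [(7, 179, 1), (3, 51, 1), (6, 51, 1), (7, 53, 1), (5, 60, 1), (7, 60, 1), (7, 159, 1), (7, 80, 1)]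

/-- Part 15 of the reachability certificate. -/
def treeChunk15 : List (ℕ × ℕ × ℤ) :=
  [(1, 194, 1), (6, 194, 1), (5, 189, 1), (7, 189, 1), (7, 181, 1), (1, 45, 1), (6, 45, 1), (5, 50, 1)]

/-- Part 16 of the reachability certificate. -/
def treeChunk16 : List (ℕ × ℕ × ℤ) :=
  [(7, 50, 1), (7, 58, 1), (6, 160, 1), (6, 79, 1), (6, 204, 1), (5, 195, 1), (7, 195, 1), (7, 191, 1)]

/-- Part 17 of the reachability certificate. -/
def treeChunk17 : List (ℕ × ℕ × ℤ) :=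
  [(6, 182, 1), (6, 35, 1), (5, 44, 1), (7, 44, 1), (7, 48, 1), (6, 57, 1), (5, 205, 1), (7, 205, 1)]

/-- Part 18 of the reachability certificate. -/
def treeChunk18 : List (ℕ × ℕ × ℤ) :=
  [(4, 197, 1), (7, 197, 1), (6, 192, 1), (5, 34, 1), (7, 34, 1), (4, 42, 1), (7, 42, 1), (6, 47, 1)]

/-- Part 19 of the reachability certificate. -/
def treeChunk19 : List (ℕ × ℕ × ℤ) :=
  [(4, 207, 1), (7, 207, 1), (7, 200, 1), (6, 198, 1), (4, 32, 1), (7, 32, 1), (7, 39, 1), (6, 41, 1)]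

/-- Part 20 of the reachability certificate. -/
def treeChunk20 : List (ℕ × ℕ × ℤ) :=
  [(3, 210, 1), (7, 210, 1), (6, 208, 1), (6, 201, 1), (3, 29, 1), (7, 29, 1), (6, 31, 1), (6, 38, 1)]

/-- Part 21 of the reachability certificate. -/
def treeChunk21 : List (ℕ × ℕ × ℤ) :=
  [(2, 214, 1), (7, 214, 1), (6, 211, 1), (5, 202, 1), (2, 25, 1), (7, 25, 1), (6, 28, 1), (5, 37, 1)]

/-- Part 22 of the reachability certificate. -/
def treeChunk22 : List (ℕ × ℕ × ℤ) :=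
  [(0, 219, 1), (7, 219, 1), (6, 215, 1), (5, 212, 1), (0, 20, 1), (7, 20, 1), (6, 24, 1), (5, 27, 1)]

/-- Part 23 of the reachability certificate. -/
def treeChunk23 : List (ℕ × ℕ × ℤ) :=
  [(7, 226, 1), (6, 220, 1), (5, 216, 1), (7, 13, 1), (6, 19, 1), (5, 23, 1), (6, 227, 1), (5, 221, 1)]

/-- Part 24 of the reachability certificate. -/
def treeChunk24 : List (ℕ × ℕ × ℤ) :=
  [(4, 217, 1), (6, 12, 1), (5, 18, 1), (4, 22, 1), (5, 228, 1), (4, 222, 1), (5, 11, 1), (4, 17, 1)]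

/-- Part 25 of the reachability certificate. -/
def treeChunk25 : List (ℕ × ℕ × ℤ) :=
  [(4, 229, 1), (3, 223, 1), (4, 10, 1), (3, 16, 1), (3, 230, 1), (1, 224, 1), (3, 9, 1), (1, 15, 1)]

/-- Part 26 of the reachability certificate. -/
def treeChunk26 : List (ℕ × ℕ × ℤ) :=
  [(1, 231, 1), (2, 231, 1), (1, 8, 1), (2, 8, 1), (2, 233, 1), (2, 6, 1), (3, 234, 1), (3, 5, 1)]

/-- Part 27 of the reachability certificate. -/
def treeChunk27 : List (ℕ × ℕ × ℤ) :=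
  [(4, 235, 1), (4, 4, 1), (5, 236, 1), (5, 3, 1), (6, 237, 1), (6, 2, 1), (7, 238, 1), (7, 1, 1)]

/-- The reachability certificate: triples `(i, s, η)` with `n_i x_s(t) = x_{w_i s}(η t) n_i`. -/
def tree : List (ℕ × ℕ × ℤ) := treeChunk0 ++ (treeChunk1 ++ (treeChunk2 ++ (treeChunk3 ++ (treeChunk4 ++ (treeChunk5 ++ (treeChunk6 ++ (treeChunk7 ++ (treeChunk8 ++ (treeChunk9 ++ (treeChunk10 ++ (treeChunk11 ++ (treeChunk12 ++ (treeChunk13 ++ (treeChunk14 ++ (treeChunk15 ++ (treeChunk16 ++ (treeChunk17 ++ (treeChunk18 ++ (treeChunk19 ++ (treeChunk20 ++ (treeChunk21 ++ (treeChunk22 ++ (treeChunk23 ++ (treeChunk24 ++ (treeChunk25 ++ (treeChunk26 ++ (treeChunk27)))))))))))))))))))))))))))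

theorem reachOK : reachCheck chevE8 tree = true := by decide +kernel

end Cfsg.Agent.Lib.Helper36_ChevDataE8Lits
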