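import Cfsg.Agent.Lib.Helper36_ChevDataE8H0
import Cfsg.Agent.Lib.Helper36_ChevDataE8H1
import Cfsg.Agent.Lib.Helper36_ChevDataE8H2
import Cfsg.Agent.Lib.Helper36_ChevDataE8H3
import Cfsg.Agent.Lib.Helper36_ChevDataE8H4
import Cfsg.Agent.Lib.Helper36_ChevDataE8H5
import Cfsg.Agent.Lib.Helper36_ChevDataE8H6
import Cfsg.Agent.Lib.Helper36_ChevDataE8H7

set_option autoImplicit false


/-! Type E8: the table checks for `n_p(c)` and `h_p(c)`, assembled. Generated file. -/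

namespace Cfsg.Agent.Lib.Helper36_ChevDataE8H

open Cfsg Cfsg.Lie Cfsg.Agent.Lib.Helper36_ChevSparse Cfsg.Agent.Lib.Helper36_ChevCoeff
  Cfsg.Agent.Lib.Helper36_ChevCoo Cfsg.Agent.Lib.Helper36_ChevAdd Cfsg.Agent.Lib.Helper36_ChevIdx
  Cfsg.Agent.Lib.Helper36_ChevWeyl Cfsg.Agent.Lib.Helper36_ChevGen Cfsg.Agent.Lib.Helper36_ChevH
  Cfsg.Agent.Lib.Helper36_ChevDataE8Lits

theorem hOK : ∀ i < chevE8.rank, nCheck chevE8 12 i (nLits.getD i ([], [])).1 = true ∧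
    hCheck chevE8 12 i (nLits.getD i ([], [])).1 = true := by
  intro i hi
  have h : chevE8.rank = 8 := rfl
  rw [h] at hi
  interval_cases i
  · exact ⟨Helper36_ChevDataE8H0.nchk0, Helper36_ChevDataE8H0.hchk0⟩
  · exact ⟨Helper36_ChevDataE8H1.nchk1, Helper36_ChevDataE8H1.hchk1⟩
  · exact ⟨Helper36_ChevDataE8H2.nchk2, Helper36_ChevDataE8H2.hchk2⟩
  · exact ⟨Helper36_ChevDataE8H3.nchk3, Helper36_ChevDataE8H3.hchk3⟩
  · exact ⟨Helper36_ChevDataE8H4.nchk4, Helper36_ChevDataE8H4.hchk4⟩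
  · exact ⟨Helper36_ChevDataE8H5.nchk5, Helper36_ChevDataE8H5.hchk5⟩
  · exact ⟨Helper36_ChevDataE8H6.nchk6, Helper36_ChevDataE8H6.hchk6⟩
  · exact ⟨Helper36_ChevDataE8H7.nchk7, Helper36_ChevDataE8H7.hchk7⟩

end Cfsg.Agent.Lib.Helper36_ChevDataE8H
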