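import Cfsg.Agent.Lib.Helper36_ChevHAll
import Cfsg.Agent.Lib.Helper36_ChevDataE8EtaTbl

set_option autoImplicit false
set_option Elab.async false

/-! Type E8: conjugation data for `n_i` and the fundamental roots, i in [4, 5]. Generated file. -/

namespace Cfsg.Agent.Lib.Helper36_ChevDataE8HA2

open Cfsg Cfsg.Lie Cfsg.Agent.Lib.Helper36_ChevSparse Cfsg.Agent.Lib.Helper36_ChevCoeff
  Cfsg.Agent.Lib.Helper36_ChevCoo Cfsg.Agent.Lib.Helper36_ChevAdd Cfsg.Agent.Lib.Helper36_ChevIdx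
  Cfsg.Agent.Lib.Helper36_ChevWeyl Cfsg.Agent.Lib.Helper36_ChevGen Cfsg.Agent.Lib.Helper36_ChevConj Cfsg.Agent.Lib.Helper36_ChevH
  Cfsg.Agent.Lib.Helper36_ChevHAll
  Cfsg.Agent.Lib.Helper36_ChevDataE8Lits Cfsg.Agent.Lib.Helper36_ChevDataE8EtaTbl

theorem fund4 : FundRow chevE8 nLits 12 4 (etaTable.getD 4 []) := by decide +kernel

theorem fund5 : FundRow chevE8 nLits 12 5 (etaTable.getD 5 []) := by decide +kernel

end Cfsg.Agent.Lib.Helper36_ChevDataE8HA2
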