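import Cfsg.Agent.Lib.Helper36_ChevDataE8HA0
import Cfsg.Agent.Lib.Helper36_ChevDataE8HA1
import Cfsg.Agent.Lib.Helper36_ChevDataE8HA2
import Cfsg.Agent.Lib.Helper36_ChevDataE8HA3
import Cfsg.Agent.Lib.Helper36_ChevDataE8
import Cfsg.Agent.Lib.Helper36_ChevDataE8H

set_option autoImplicit false
set_option Elab.async false

/-! Type E8: `n_r(c)` and `h_r(c)` for all roots, assembled. Generated file. -/

namespace Cfsg.Agent.Lib.Helper36_ChevDataE8HA

open Cfsg Cfsg.Lie Cfsg.Agent.Lib.Helper36_ChevSparse Cfsg.Agent.Lib.Helper36_ChevCoeff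
  Cfsg.Agent.Lib.Helper36_ChevCoo Cfsg.Agent.Lib.Helper36_ChevAdd Cfsg.Agent.Lib.Helper36_ChevIdx
  Cfsg.Agent.Lib.Helper36_ChevWeyl Cfsg.Agent.Lib.Helper36_ChevGen Cfsg.Agent.Lib.Helper36_ChevConj Cfsg.Agent.Lib.Helper36_ChevH
  Cfsg.Agent.Lib.Helper36_ChevHAll
  Cfsg.Agent.Lib.Helper36_ChevDataE8EtaTbl

theorem fundOK : FundOK chevE8 Helper36_ChevDataE8.nLits 12 etaTable := by
  intro i hi
  have h : chevE8.rank = 8 := rfl
  rw [h] at hi
  interval_cases i
  · exact Helper36_ChevDataE8HA0.fund0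
  · exact Helper36_ChevDataE8HA0.fund1
  · exact Helper36_ChevDataE8HA1.fund2
  · exact Helper36_ChevDataE8HA1.fund3
  · exact Helper36_ChevDataE8HA2.fund4
  · exact Helper36_ChevDataE8HA2.fund5
  · exact Helper36_ChevDataE8HA3.fund6
  · exact Helper36_ChevDataE8HA3.fund7

theorem treeSym : treeSymCheck chevE8 Helper36_ChevDataE8.tree = true := by decide +kernel

/-- Type E8: `n_i h_{p_j}(t) = h_{w_i p_j}(t) n_i`. -/
theorem n_mul_h (F : Type*) [Field F] (i j : ℕ) (hi : i < chevE8.rank) (hj : j < chevE8.rank) (t : F) (ht : t ≠ 0) :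
    chevE8.nMat F (chevE8.simple i) 1 * chevE8.hMat F (chevE8.simple j) t =
      chevE8.hMat F (chevE8.reflectRoot i (chevE8.simple j)) t * chevE8.nMat F (chevE8.simple i) 1 :=
  n_mul_h_fund chevE8 Helper36_ChevDataE8.lenOK Helper36_ChevDataE8.addOK Helper36_ChevDataE8.simpleOK Helper36_ChevDataE8.nLits Helper36_ChevDataE8.nLitOK F 12 12 Helper36_ChevDataE8H.hOK etaTable fundOK
    i j hi hj t ht

/-- Type E8: for every root `r` the squares `n_r(c)²` do not depend on `c`, and `h_r` is multiplicative. -/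
theorem goodH (F : Type*) [Field F] (r : ℕ) (hr : r < chevE8.nroots) : GoodH chevE8 F r :=
  goodH_all chevE8 Helper36_ChevDataE8.lenOK Helper36_ChevDataE8.addOK Helper36_ChevDataE8.simpleOK Helper36_ChevDataE8.nLits Helper36_ChevDataE8.nLitOK F 12 12 Helper36_ChevDataE8H.hOK etaTable fundOK
    Helper36_ChevDataE8.tree Helper36_ChevDataE8.pairsOK treeSym Helper36_ChevDataE8.reachOK r hr

end Cfsg.Agent.Lib.Helper36_ChevDataE8HA
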