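import Cfsg.Agent.Lib.Helper36_ChevGen
import Cfsg.Prelude.Def_ChevF4

set_option autoImplicit false
set_option Elab.async false

/-! Kernel-checked table facts for the Chevalley datum of type F4 (see `Helper36_ChevGen`). Generated file. -/

namespace Cfsg.Agent.Lib.Helper36_ChevDataF4

open Cfsg Cfsg.Lie Cfsg.Agent.Lib.Helper36_ChevSparse Cfsg.Agent.Lib.Helper36_ChevCoeff
  Cfsg.Agent.Lib.Helper36_ChevCoo Cfsg.Agent.Lib.Helper36_ChevAdd Cfsg.Agent.Lib.Helper36_ChevIdx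
  Cfsg.Agent.Lib.Helper36_ChevWeyl Cfsg.Agent.Lib.Helper36_ChevGen

theorem lenOK : ChainLenOK chevF4 := by decide +kernel

theorem addOK : AddOK chevF4 := by decide +kernel

theorem simpleOK : SimpleOK chevF4 := by decide +kernel

/-- Literal table: the matrix of `x_{p_i}(1)` by columns, `i = 0`. -/
def X1c0 : Idxd :=
  [[(0, 1), (37, -2)], [(1, 1), (37, 1)], [(2, 1)], [(3, 1)], [(4, 1)], [(5, 1)], [(6, 1)], [(7, 1), (11, -1)], [(8, 1), (12, -1), (19, -1)], [(9, 1), (13, -1), (20, -1)], [(10, 1), (14, -1), (21, -1)], [(11, 1)], [(12, 1), (19, 2)], [(13, 1), (20, 2)], [(14, 1), (21, 2)], [(15, 1), (22, 1)], [(16, 1), (23, 1)], [(17, 1), (24, 1)], [(0, 1), (18, 1), (37, -1)], [(19, 1)], [(20, 1)], [(21, 1)], [(22, 1)], [(23, 1)], [(24, 1)], [(25, 1)], [(26, 1)], [(27, 1)], [(28, 1)], [(29, 1)], [(30, 1)], [(31, 1), (38, -1)], [(32, 1), (39, -1)], [(33, 1), (40, -1)],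 [(34, 1), (41, -1), (45, -1)], [(35, 1), (42, -1), (46, -1)], [(36, 1), (43, -1), (47, -1)], [(37, 1)], [(38, 1)], [(39, 1)], [(40, 1)], [(41, 1), (45, 2)], [(42, 1), (46, 2)], [(43, 1), (47, 2)], [(44, 1), (48, 1)], [(45, 1)], [(46, 1)], [(47, 1)], [(48, 1)], [(49, 1)], [(50, 1)], [(51, 1)]]

/-- Literal table: the matrix of `x_{-p_i}(-1)` by columns, `i = 0`. -/
def X2c0 : Idxd :=
  [[(0, 1), (18, -2)], [(1, 1), (18, 1)], [(2, 1)], [(3, 1)], [(4, 1)], [(5, 1)], [(6, 1)], [(7, 1)], [(8, 1)], [(9, 1)], [(10, 1)], [(7, 1), (11, 1)], [(8, 2), (12, 1)], [(9, 2), (13, 1)], [(10, 2), (14, 1)], [(15, 1)], [(16, 1)], [(17, 1)], [(18, 1)], [(8, -1), (12, -1), (19, 1)], [(9, -1), (13, -1), (20, 1)], [(10, -1), (14, -1), (21, 1)], [(15, -1), (22, 1)], [(16, -1), (23, 1)], [(17, -1), (24, 1)], [(25, 1)], [(26, 1)], [(27, 1)], [(28, 1)], [(29, 1)], [(30, 1)], [(31, 1)], [(32,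 1)], [(33, 1)], [(34, 1)], [(35, 1)], [(36, 1)], [(0, 1), (18, -1), (37, 1)], [(31, 1), (38, 1)], [(32, 1), (39, 1)], [(33, 1), (40, 1)], [(34, 2), (41, 1)], [(35, 2), (42, 1)], [(36, 2), (43, 1)], [(44, 1)], [(34, -1), (41, -1), (45, 1)], [(35, -1), (42, -1), (46, 1)], [(36, -1), (43, -1), (47, 1)], [(44, -1), (48, 1)], [(49, 1)], [(50, 1)], [(51, 1)]]

/-- Literal table: the matrix of `n_i` by columns, `i = 0`. -/
def Nc0 : Idxd :=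
  [[(0, -1)], [(0, 1), (1, 1)], [(2, 1)], [(3, 1)], [(4, 1)], [(5, 1)], [(6, 1)], [(11, -1)], [(19, -1)], [(20, -1)], [(21, -1)], [(7, 1)], [(12, -1)], [(13, -1)], [(14, -1)], [(22, 1)], [(23, 1)], [(24, 1)], [(37, -1)], [(8, -1)], [(9, -1)], [(10, -1)], [(15, -1)], [(16, -1)], [(17, -1)], [(25, 1)], [(26, 1)], [(27, 1)], [(28, 1)], [(29, 1)], [(30, 1)], [(38, -1)], [(39, -1)], [(40, -1)], [(45, -1)], [(46, -1)], [(47, -1)], [(18, -1)], [(31, 1)], [(32, 1)], [(33, 1)], [(41, -1)], [(42, -1)], [(43, -1)], [(48, 1)], [(34, -1)], [(35, -1)], [(36, -1)], [(44, -1)], [(49, 1)], [(50, 1)], [(51, 1)]]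

/-- Literal table: the matrix of `n_i` by rows, `i = 0`. -/
def Nr0 : Idxd :=
  [[(0, -1), (1, 1)], [(1, 1)], [(2, 1)], [(3, 1)], [(4, 1)], [(5, 1)], [(6, 1)], [(11, 1)], [(19, -1)], [(20, -1)], [(21, -1)], [(7, -1)], [(12, -1)], [(13, -1)], [(14, -1)], [(22, -1)], [(23, -1)], [(24, -1)], [(37, -1)], [(8, -1)], [(9, -1)], [(10, -1)], [(15, 1)], [(16, 1)], [(17, 1)], [(25, 1)], [(26, 1)], [(27, 1)], [(28, 1)], [(29, 1)], [(30, 1)], [(38, 1)], [(39, 1)], [(40, 1)], [(45, -1)], [(46, -1)], [(47, -1)], [(18, -1)], [(31, -1)], [(32, -1)], [(33, -1)], [(41, -1)], [(42, -1)], [(43, -1)], [(48, -1)], [(34, -1)], [(35, -1)], [(36, -1)], [(44, 1)], [(49, 1)], [(50, 1)], [(51, 1)]]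

theorem nLit0 : nLitCheck2 chevF4 12 0 X1c0 X2c0 Nc0 Nr0 = true := by decide +kernel

/-- Literal table: the matrix of `x_{p_i}(1)` by columns, `i = 1`. -/
def X1c1 : Idxd :=
  [[(0, 1), (31, 1)], [(1, 1), (31, -2)], [(2, 1), (31, 1)], [(3, 1)], [(4, 1)], [(5, 1)], [(6, 1), (7, -1), (8, 1)], [(7, 1), (8, -2)], [(8, 1)], [(9, 1)], [(10, 1)], [(11, 1), (12, -1)], [(12, 1)], [(13, 1), (15, -1)], [(14, 1), (16, -1)], [(15, 1)], [(16, 1)], [(17, 1), (18, -1)], [(18, 1)], [(19, 1)], [(20, 1), (22, -1), (25, -1)], [(21, 1), (23, -1), (26, -1)], [(22, 1), (25, 2)], [(23, 1), (26, 2)], [(1, 1), (24, 1), (31, -1)], [(25, 1)], [(26, 1)], [(27, 1)], [(28, 1)], [(29, 1), (32, -1), (34, -1)], [(30, 1), (33, -1), (35, -1)], [(31, 1)], [(32, 1), (34, 2)], [(33, 1), (35, 2)], [(34, 1)], [(35, 1)], [(36, 1)], [(37, 1), (38, 1)], [(38, 1)], [(39, 1), (41, 1)], [(40, 1), (42, 1)],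 [(41, 1)], [(42, 1)], [(43, 1), (44, 1)], [(44, 1)], [(45, 1)], [(46, 1)], [(47, 1), (48, 1), (49, 1)], [(48, 1), (49, 2)], [(49, 1)], [(50, 1)], [(51, 1)]]

/-- Literal table: the matrix of `x_{-p_i}(-1)` by columns, `i = 1`. -/
def X2c1 : Idxd :=
  [[(0, 1), (24, 1)], [(1, 1), (24, -2)], [(2, 1), (24, 1)], [(3, 1)], [(4, 1)], [(5, 1)], [(6, 1)], [(6, 2), (7, 1)], [(6, 1), (7, 1), (8, 1)], [(9, 1)], [(10, 1)], [(11, 1)], [(11, 1), (12, 1)], [(13, 1)], [(14, 1)], [(13, 1), (15, 1)], [(14, 1), (16, 1)], [(17, 1)], [(17, 1), (18, 1)], [(19, 1)], [(20, 1)], [(21, 1)], [(20, 2), (22, 1)], [(21, 2), (23, 1)], [(24, 1)], [(20, -1), (22, -1), (25, 1)], [(21, -1), (23, -1), (26, 1)], [(27, 1)], [(28, 1)], [(29, 1)], [(30, 1)], [(1, 1), (24, -1), (31, 1)], [(29, 2), (32, 1)], [(30, 2), (33, 1)], [(29, -1), (32, -1), (34, 1)], [(30, -1), (33, -1), (35, 1)], [(36, 1)], [(37,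 1)], [(37, -1), (38, 1)], [(39, 1)], [(40, 1)], [(39, -1), (41, 1)], [(40, -1), (42, 1)], [(43, 1)], [(43, -1), (44, 1)], [(45, 1)], [(46, 1)], [(47, 1)], [(47, -2), (48, 1)], [(47, 1), (48, -1), (49, 1)], [(50, 1)], [(51, 1)]]

/-- Literal table: the matrix of `n_i` by columns, `i = 1`. -/
def Nc1 : Idxd :=
  [[(0, 1), (1, 1)], [(1, -1)], [(1, 1), (2, 1)], [(3, 1)], [(4, 1)], [(5, 1)], [(8, 1)], [(7, -1)], [(6, 1)], [(9, 1)], [(10, 1)], [(12, -1)], [(11, 1)], [(15, -1)], [(16, -1)], [(13, 1)], [(14, 1)], [(18, -1)], [(17, 1)], [(19, 1)], [(25, -1)], [(26, -1)], [(22, -1)], [(23, -1)], [(31, -1)], [(20, -1)], [(21, -1)], [(27, 1)], [(28, 1)], [(34, -1)], [(35, -1)], [(24, -1)], [(32, -1)], [(33, -1)], [(29, -1)], [(30, -1)], [(36, 1)], [(38, 1)], [(37, -1)], [(41, 1)], [(42, 1)], [(39, -1)], [(40, -1)], [(44, 1)], [(43, -1)], [(45, 1)], [(46, 1)], [(49, 1)], [(48,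 -1)], [(47, 1)], [(50, 1)], [(51, 1)]]

/-- Literal table: the matrix of `n_i` by rows, `i = 1`. -/
def Nr1 : Idxd :=
  [[(0, 1)], [(0, 1), (1, -1), (2, 1)], [(2, 1)], [(3, 1)], [(4, 1)], [(5, 1)], [(8, 1)], [(7, -1)], [(6, 1)], [(9, 1)], [(10, 1)], [(12, 1)], [(11, -1)], [(15, 1)], [(16, 1)], [(13, -1)], [(14, -1)], [(18, 1)], [(17, -1)], [(19, 1)], [(25, -1)], [(26, -1)], [(22, -1)], [(23, -1)], [(31, -1)], [(20, -1)], [(21, -1)], [(27, 1)], [(28, 1)], [(34, -1)], [(35, -1)], [(24, -1)], [(32, -1)], [(33, -1)], [(29, -1)], [(30, -1)], [(36, 1)], [(38, -1)], [(37, 1)], [(41, -1)], [(42, -1)], [(39, 1)], [(40, 1)], [(44, -1)], [(43, 1)], [(45, 1)], [(46, 1)], [(49, 1)], [(48, -1)], [(47, 1)], [(50, 1)], [(51, 1)]]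

theorem nLit1 : nLitCheck2 chevF4 12 1 X1c1 X2c1 Nc1 Nr1 = true := by decide +kernel

/-- Literal table: the matrix of `x_{p_i}(1)` by columns, `i = 2`. -/
def X1c2 : Idxd :=
  [[(0, 1)], [(1, 1), (29, 2)], [(2, 1), (29, -2)], [(3, 1), (29, 1)], [(4, 1)], [(5, 1), (6, -1)], [(6, 1)], [(7, 1)], [(8, 1), (9, -1)], [(9, 1)], [(10, 1)], [(11, 1)], [(12, 1), (13, -1)], [(13, 1)], [(14, 1)], [(15, 1)], [(16, 1), (17, -1)], [(17, 1)], [(18, 1)], [(19, 1), (20, -1)], [(20, 1)], [(21, 1)], [(22, 1)], [(23, 1), (24, -1)], [(24, 1)], [(25, 1), (27, 1)], [(2, 1), (26, 1), (29, -1)], [(27, 1)], [(28, 1), (30, -1)], [(29, 1)], [(30, 1)], [(31, 1), (32, 1)], [(32, 1)], [(33, 1)], [(34, 1)], [(35, 1), (36, 1)], [(36, 1)], [(37, 1)], [(38, 1), (39, 1)], [(39, 1)], [(40, 1)], [(41, 1)], [(42, 1), (43, 1)], [(43, 1)], [(44, 1)], [(45, 1)], [(46, 1), (47, 1)], [(47, 1)], [(48, 1)],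 [(49, 1), (50, 1)], [(50, 1)], [(51, 1)]]

/-- Literal table: the matrix of `x_{-p_i}(-1)` by columns, `i = 2`. -/
def X2c2 : Idxd :=
  [[(0, 1)], [(1, 1), (26, 2)], [(2, 1), (26, -2)], [(3, 1), (26, 1)], [(4, 1)], [(5, 1)], [(5, 1), (6, 1)], [(7, 1)], [(8, 1)], [(8, 1), (9, 1)], [(10, 1)], [(11, 1)], [(12, 1)], [(12, 1), (13, 1)], [(14, 1)], [(15, 1)], [(16, 1)], [(16, 1), (17, 1)], [(18, 1)], [(19, 1)], [(19, 1), (20, 1)], [(21, 1)], [(22, 1)], [(23, 1)], [(23, 1), (24, 1)], [(25, 1)], [(26, 1)], [(25, -1), (27, 1)], [(28, 1)], [(2, 1), (26, -1), (29, 1)], [(28, 1), (30, 1)], [(31, 1)], [(31, -1), (32, 1)], [(33, 1)], [(34, 1)], [(35, 1)], [(35, -1), (36, 1)], [(37, 1)], [(38, 1)], [(38, -1), (39, 1)], [(40, 1)], [(41, 1)], [(42, 1)], [(42, -1), (43, 1)], [(44, 1)], [(45, 1)], [(46, 1)], [(46, -1), (47, 1)], [(48, 1)], [(49, 1)], [(49, -1), (50, 1)], [(51, 1)]]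

/-- Literal table: the matrix of `n_i` by columns, `i = 2`. -/
def Nc2 : Idxd :=
  [[(0, 1)], [(1, 1), (2, 2)], [(2, -1)], [(2, 1), (3, 1)], [(4, 1)], [(6, -1)], [(5, 1)], [(7, 1)], [(9, -1)], [(8, 1)], [(10, 1)], [(11, 1)], [(13, -1)], [(12, 1)], [(14, 1)], [(15, 1)], [(17, -1)], [(16, 1)], [(18, 1)], [(20, -1)], [(19, 1)], [(21, 1)], [(22, 1)], [(24, -1)], [(23, 1)], [(27, 1)], [(29, -1)], [(25, -1)], [(30, -1)], [(26, -1)], [(28, 1)], [(32, 1)], [(31, -1)], [(33, 1)], [(34, 1)], [(36, 1)], [(35, -1)], [(37, 1)], [(39, 1)], [(38, -1)], [(40, 1)], [(41, 1)], [(43, 1)], [(42, -1)], [(44, 1)], [(45, 1)], [(47, 1)], [(46, -1)], [(48, 1)], [(50, 1)], [(49, -1)], [(51, 1)]]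

/-- Literal table: the matrix of `n_i` by rows, `i = 2`. -/
def Nr2 : Idxd :=
  [[(0, 1)], [(1, 1)], [(1, 2), (2, -1), (3, 1)], [(3, 1)], [(4, 1)], [(6, 1)], [(5, -1)], [(7, 1)], [(9, 1)], [(8, -1)], [(10, 1)], [(11, 1)], [(13, 1)], [(12, -1)], [(14, 1)], [(15, 1)], [(17, 1)], [(16, -1)], [(18, 1)], [(20, 1)], [(19, -1)], [(21, 1)], [(22, 1)], [(24, 1)], [(23, -1)], [(27, -1)], [(29, -1)], [(25, 1)], [(30, 1)], [(26, -1)], [(28, -1)], [(32, -1)], [(31, 1)], [(33, 1)], [(34, 1)], [(36, -1)], [(35, 1)], [(37, 1)], [(39, -1)], [(38, 1)], [(40, 1)], [(41, 1)], [(43, -1)], [(42, 1)], [(44, 1)], [(45, 1)], [(47, -1)], [(46, 1)], [(48, 1)], [(50, -1)], [(49, 1)], [(51, 1)]]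

theorem nLit2 : nLitCheck2 chevF4 12 2 X1c2 X2c2 Nc2 Nr2 = true := by decide +kernel

/-- Literal table: the matrix of `x_{p_i}(1)` by columns, `i = 3`. -/
def X1c3 : Idxd :=
  [[(0, 1)], [(1, 1)], [(2, 1), (28, 1)], [(3, 1), (28, -2)], [(4, 1), (5, -1)], [(5, 1)], [(6, 1)], [(7, 1)], [(8, 1)], [(9, 1), (10, -1)], [(10, 1)], [(11, 1)], [(12, 1)], [(13, 1), (14, -1)], [(14, 1)], [(15, 1), (16, -1)], [(16, 1)], [(17, 1)], [(18, 1)], [(19, 1)], [(20, 1), (21, -1)], [(21, 1)], [(22, 1), (23, -1)], [(23, 1)], [(24, 1)], [(25, 1), (26, -1)], [(26, 1)], [(3, 1), (27, 1), (28, -1)], [(28, 1)], [(29, 1), (30, 1)], [(30, 1)], [(31, 1)], [(32, 1), (33, 1)], [(33, 1)], [(34, 1), (35, 1)], [(35, 1)], [(36, 1)], [(37, 1)], [(38, 1)], [(39, 1), (40, 1)], [(40, 1)], [(41, 1), (42, 1)], [(42, 1)], [(43, 1)], [(44, 1)], [(45, 1), (46, 1)], [(46, 1)], [(47, 1)], [(48, 1)], [(49,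 1)], [(50, 1), (51, 1)], [(51, 1)]]

/-- Literal table: the matrix of `x_{-p_i}(-1)` by columns, `i = 3`. -/
def X2c3 : Idxd :=
  [[(0, 1)], [(1, 1)], [(2, 1), (27, 1)], [(3, 1), (27, -2)], [(4, 1)], [(4, 1), (5, 1)], [(6, 1)], [(7, 1)], [(8, 1)], [(9, 1)], [(9, 1), (10, 1)], [(11, 1)], [(12, 1)], [(13, 1)], [(13, 1), (14, 1)], [(15, 1)], [(15, 1), (16, 1)], [(17, 1)], [(18, 1)], [(19, 1)], [(20, 1)], [(20, 1), (21, 1)], [(22, 1)], [(22, 1), (23, 1)], [(24, 1)], [(25, 1)], [(25, 1), (26, 1)], [(27, 1)], [(3, 1), (27, -1), (28, 1)], [(29, 1)], [(29, -1), (30, 1)], [(31, 1)], [(32, 1)], [(32, -1), (33, 1)], [(34, 1)], [(34, -1), (35, 1)], [(36, 1)], [(37, 1)], [(38, 1)], [(39, 1)], [(39, -1), (40, 1)], [(41, 1)], [(41, -1), (42, 1)], [(43, 1)], [(44, 1)], [(45, 1)], [(45, -1), (46, 1)], [(47, 1)], [(48, 1)], [(49, 1)], [(50, 1)], [(50, -1), (51, 1)]]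

/-- Literal table: the matrix of `n_i` by columns, `i = 3`. -/
def Nc3 : Idxd :=
  [[(0, 1)], [(1, 1)], [(2, 1), (3, 1)], [(3, -1)], [(5, -1)], [(4, 1)], [(6, 1)], [(7, 1)], [(8, 1)], [(10, -1)], [(9, 1)], [(11, 1)], [(12, 1)], [(14, -1)], [(13, 1)], [(16, -1)], [(15, 1)], [(17, 1)], [(18, 1)], [(19, 1)], [(21, -1)], [(20, 1)], [(23, -1)], [(22, 1)], [(24, 1)], [(26, -1)], [(25, 1)], [(28, -1)], [(27, -1)], [(30, 1)], [(29, -1)], [(31, 1)], [(33, 1)], [(32, -1)], [(35, 1)], [(34, -1)], [(36, 1)], [(37, 1)], [(38, 1)], [(40, 1)], [(39, -1)], [(42, 1)], [(41, -1)], [(43, 1)], [(44, 1)], [(46, 1)], [(45, -1)], [(47, 1)], [(48, 1)], [(49, 1)], [(51, 1)], [(50, -1)]]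

/-- Literal table: the matrix of `n_i` by rows, `i = 3`. -/
def Nr3 : Idxd :=
  [[(0, 1)], [(1, 1)], [(2, 1)], [(2, 1), (3, -1)], [(5, 1)], [(4, -1)], [(6, 1)], [(7, 1)], [(8, 1)], [(10, 1)], [(9, -1)], [(11, 1)], [(12, 1)], [(14, 1)], [(13, -1)], [(16, 1)], [(15, -1)], [(17, 1)], [(18, 1)], [(19, 1)], [(21, 1)], [(20, -1)], [(23, 1)], [(22, -1)], [(24, 1)], [(26, 1)], [(25, -1)], [(28, -1)], [(27, -1)], [(30, -1)], [(29, 1)], [(31, 1)], [(33, -1)], [(32, 1)], [(35, -1)], [(34, 1)], [(36, 1)], [(37, 1)], [(38, 1)], [(40, -1)], [(39, 1)], [(42, -1)], [(41, 1)], [(43, 1)], [(44, 1)], [(46, -1)], [(45, 1)], [(47, 1)], [(48, 1)], [(49, 1)], [(51, -1)], [(50, 1)]]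

theorem nLit3 : nLitCheck2 chevF4 12 3 X1c3 X2c3 Nc3 Nr3 = true := by decide +kernel

/-- The matrices of the `n_i`, stored by columns and by rows. -/
def nLits : NLits :=
  [(Nc0, Nr0), (Nc1, Nr1), (Nc2, Nr2), (Nc3, Nr3)]

theorem nLitOK : NLitOK chevF4 nLits := by
  intro i hi
  have h : chevF4.rank = 4 := rfl
  rw [h] at hi
  interval_cases i
  · exact nLitGood_of_check2 chevF4 12 0 X1c0 X2c0 Nc0 Nr0 nLit0
  · exact nLitGood_of_check2 chevF4 12 1 X1c1 X2c1 Nc1 Nr1 nLit1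
  · exact nLitGood_of_check2 chevF4 12 2 X1c2 X2c2 Nc2 Nr2 nLit2
  · exact nLitGood_of_check2 chevF4 12 3 X1c3 X2c3 Nc3 Nr3 nLit3

/-- A certificate that every root is reached from the fundamental roots by fundamental reflections:
triples `(i, s, η)` with `n_i x_s(t) = x_{w_i s}(η t) n_i`. -/
def tree : List (ℕ × ℕ × ℤ) :=
  [(1, 33, 1), (1, 14, 1), (2, 27, 1), (2, 20, 1), (1, 25, -1), (3, 25, 1), (1, 22, -1), (3, 22, 1), (2, 34, 1), (2, 13, 1), (3, 28, 1), (3, 19, 1), (0, 30, -1), (3, 30, 1), (0, 17, -1), (3, 17, 1), (1, 35, 1), (3, 35, 1), (1, 12, 1), (3, 12, 1), (3, 41, 1), (2, 31, 1), (3, 6, 1), (2, 16, 1), (3, 37, 1), (3, 10, 1), (2, 42, 1), (2, 5, 1), (2, 38, 1), (2, 9, 1), (1, 43, 1), (1, 4, 1), (1, 39, 1), (1, 8, 1), (2, 45, 1), (2, 2, 1), (0, 40, 1), (0, 7, 1), (3, 46, 1), (3, 1, 1)]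

theorem pairsOK : PairsOK chevF4 12 nLits tree := by decide +kernel

theorem reachOK : reachCheck chevF4 tree = true := by decide +kernel

/-- The Chevalley group of type F4 over any field is generated by the fundamental root elements and their negatives. -/
theorem group_eq (F : Type*) [Field F] : chevF4.group F = fundSubgroup chevF4 F :=
  group_eq_fundSubgroup chevF4 lenOK addOK simpleOK nLits nLitOK F 12 tree pairsOK reachOK

end Cfsg.Agent.Lib.Helper36_ChevDataF4
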