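import Cfsg.Agent.Lib.Helper36_ChevHAll
import Cfsg.Agent.Lib.Helper36_ChevDataF4Eta
import Cfsg.Agent.Lib.Helper36_ChevDataF4H

set_option autoImplicit false
set_option Elab.async false

/-! Type F4: `n_r(c)` and `h_r(c)` for all roots (conjugation data for the fundamental roots, symmetry of the certificate). Generated file. -/

namespace Cfsg.Agent.Lib.Helper36_ChevDataF4HA

open Cfsg Cfsg.Lie Cfsg.Agent.Lib.Helper36_ChevSparse Cfsg.Agent.Lib.Helper36_ChevCoeff
  Cfsg.Agent.Lib.Helper36_ChevCoo Cfsg.Agent.Lib.Helper36_ChevAdd Cfsg.Agent.Lib.Helper36_ChevIdx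
  Cfsg.Agent.Lib.Helper36_ChevWeyl Cfsg.Agent.Lib.Helper36_ChevGen Cfsg.Agent.Lib.Helper36_ChevConj Cfsg.Agent.Lib.Helper36_ChevH
  Cfsg.Agent.Lib.Helper36_ChevHAll
  Cfsg.Agent.Lib.Helper36_ChevDataF4 Cfsg.Agent.Lib.Helper36_ChevDataF4Eta Cfsg.Agent.Lib.Helper36_ChevDataF4H

theorem fund0 : FundRow chevF4 nLits 12 0 (etaTable.getD 0 []) := by decide +kernel

theorem fund1 : FundRow chevF4 nLits 12 1 (etaTable.getD 1 []) := by decide +kernel

theorem fund2 : FundRow chevF4 nLits 12 2 (etaTable.getD 2 []) := by decide +kernel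

theorem fund3 : FundRow chevF4 nLits 12 3 (etaTable.getD 3 []) := by decide +kernel

theorem fundOK : FundOK chevF4 nLits 12 etaTable := by
  intro i hi
  have h : chevF4.rank = 4 := rfl
  rw [h] at hi
  interval_cases i
  · exact fund0
  · exact fund1
  · exact fund2
  · exact fund3

theorem treeSym : treeSymCheck chevF4 tree = true := by decide +kernel

/-- Type F4: `n_i h_{p_j}(t) = h_{w_i p_j}(t) n_i`. -/
theorem n_mul_h (F : Type*) [Field F] (i j : ℕ) (hi : i < chevF4.rank) (hj : j < chevF4.rank) (t : F) (ht : t ≠ 0) :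
    chevF4.nMat F (chevF4.simple i) 1 * chevF4.hMat F (chevF4.simple j) t =
      chevF4.hMat F (chevF4.reflectRoot i (chevF4.simple j)) t * chevF4.nMat F (chevF4.simple i) 1 :=
  n_mul_h_fund chevF4 lenOK addOK simpleOK nLits nLitOK F 12 12 hOK etaTable fundOK
    i j hi hj t ht

/-- Type F4: for every root `r` the squares `n_r(c)²` do not depend on `c`, and `h_r` is multiplicative. -/
theorem goodH (F : Type*) [Field F] (r : ℕ) (hr : r < chevF4.nroots) : GoodH chevF4 F r :=
  goodH_all chevF4 lenOK addOK simpleOK nLits nLitOK F 12 12 hOK etaTable fundOK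
    tree pairsOK treeSym reachOK r hr

end Cfsg.Agent.Lib.Helper36_ChevDataF4HA
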