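import Cfsg.Agent.Lib.Helper36_ChevHConj
import Cfsg.Prelude.Def_ChevF4

set_option autoImplicit false
set_option Elab.async false

/-! Type F4: the Cartan integers `A_{p_i, s}` are additive in `s` along chains (table check), so that `s ↦ c^{A_{p_i,s}}` is a character of the root lattice. Generated file. -/

namespace Cfsg.Agent.Lib.Helper36_ChevDataF4CA

open Cfsg Cfsg.Lie Cfsg.Agent.Lib.Helper36_ChevHConj

/-- The Cartan integers `A_{p_i, s} + 3`, for each root `s` the list over `i`. -/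
def cartN : List (List ℕ) :=
  [[3, 3, 3, 2], [3, 3, 2, 4], [3, 1, 4, 3], [2, 3, 3, 3], [1, 5, 2, 3], [1, 3, 4, 2], [1, 3, 3, 4], [4, 2, 3, 3], [3, 4, 2, 3], [3, 2, 4, 2], [3, 2, 3, 4], [2, 4, 3, 2], [2, 4, 2, 4], [2, 2, 4, 3], [1, 4, 3, 3], [5, 3, 2, 3], [5, 1, 4, 2], [5, 1, 3, 4], [4, 3, 3, 2], [4, 3, 2, 4], [4, 1, 4, 3], [3, 5, 2, 2], [3, 5, 1, 4], [3, 3, 4, 1], [3, 3, 2, 5], [3, 1, 5, 2], [3, 1, 4, 4], [2, 5, 2, 3], [2, 3, 4, 2], [2, 3, 3, 4], [1, 5, 3, 2], [1, 5, 2, 4], [1, 3, 4, 3], [5, 2, 3, 3], [4, 4, 2, 3], [4, 2, 4, 2], [4, 2, 3, 4], [3, 4, 3, 2], [3, 4, 2, 4], [3, 2, 4, 3], [2, 4, 3, 3], [5, 3, 3, 2], [5, 3, 2, 4], [5, 1, 4, 3], [4, 3, 3, 3], [3, 5, 2, 3], [3, 3, 4, 2], [3, 3, 3, 4]]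

/-- The Cartan integers `A_{p_i, s}`, for each root `s` the list over `i`. -/
def cartTbl : List (List ℤ) := cartN.map fun col => col.map fun a => (a : ℤ) - 3

theorem tblOK : CartTblOK chevF4 cartTbl := by decide +kernel

theorem ca_0_48 : CartanAddRange chevF4 cartTbl 0 48 := by decide +kernel

theorem cartanAddOK : CartanAddOK chevF4 := ⟨cartTbl, tblOK, ca_0_48⟩

end Cfsg.Agent.Lib.Helper36_ChevDataF4CA
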