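import Cfsg.Agent.Lib.Helper36_ChevDataG2T
import Cfsg.Agent.Lib.Helper36_ChevDataB2T
import Cfsg.Agent.Lib.Helper36_ChevDataD4T
import Cfsg.Agent.Lib.Helper36_ChevDataF4T
import Cfsg.Agent.Lib.Helper36_ChevDataE6T
import Cfsg.Agent.Lib.Helper36_ChevDataE7T
import Cfsg.Agent.Lib.Helper36_ChevDataE8T

set_option autoImplicit false

/-! The facts about the diagonal and monomial subgroups for the seven tabulated Chevalley data. -/

namespace Cfsg.Agent.Lib.Helper36_ChevTorusAll

open Cfsg Cfsg.Lie Cfsg.Agent.Lib.Helper36_ChevTorus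

theorem facts_of_mem (D : ChevalleyDatum)
    (hD : D ∈ [chevG2, chevB2, chevD4, chevF4, chevE6, chevE7, chevE8]) (F : Type*) [Field F] : Facts D F := by
  simp only [List.mem_cons, List.not_mem_nil, or_false] at hD
  rcases hD with rfl | rfl | rfl | rfl | rfl | rfl | rfl
  · exact Cfsg.Agent.Lib.Helper36_ChevDataG2T.facts F
  · exact Cfsg.Agent.Lib.Helper36_ChevDataB2T.facts F
  · exact Cfsg.Agent.Lib.Helper36_ChevDataD4T.facts F
  · exact Cfsg.Agent.Lib.Helper36_ChevDataF4T.facts F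
  · exact Cfsg.Agent.Lib.Helper36_ChevDataE6T.facts F
  · exact Cfsg.Agent.Lib.Helper36_ChevDataE7T.facts F
  · exact Cfsg.Agent.Lib.Helper36_ChevDataE8T.facts F

end Cfsg.Agent.Lib.Helper36_ChevTorusAll
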