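import Cfsg.Agent.Lib.Helper36_ChevBorel
import Cfsg.Agent.Lib.Helper36_ChevTorusAll
import Cfsg.Agent.Lib.Helper36_ChevDataG2Ht
import Cfsg.Agent.Lib.Helper36_ChevDataB2Ht
import Cfsg.Agent.Lib.Helper36_ChevDataD4Ht
import Cfsg.Agent.Lib.Helper36_ChevDataF4Ht
import Cfsg.Agent.Lib.Helper36_ChevDataE6Ht
import Cfsg.Agent.Lib.Helper36_ChevDataE7Ht
import Cfsg.Agent.Lib.Helper36_ChevDataE8Ht

set_option autoImplicit false

/-! The checked height tables for the seven tabulated Chevalley data. -/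

namespace Cfsg.Agent.Lib.Helper36_ChevBorelAll

open Cfsg Cfsg.Lie Cfsg.Agent.Lib.Helper36_ChevTri

theorem htOK_of_mem (D : ChevalleyDatum)
    (hD : D ∈ [chevG2, chevB2, chevD4, chevF4, chevE6, chevE7, chevE8]) :
    ∃ (tbl : List ℕ) (off M : ℕ), HtOK D tbl off M := by
  simp only [List.mem_cons, List.not_mem_nil, or_false] at hD
  rcases hD with rfl | rfl | rfl | rfl | rfl | rfl | rfl
  · exact ⟨_, _, _, Cfsg.Agent.Lib.Helper36_ChevDataG2Ht.htOK⟩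
  · exact ⟨_, _, _, Cfsg.Agent.Lib.Helper36_ChevDataB2Ht.htOK⟩
  · exact ⟨_, _, _, Cfsg.Agent.Lib.Helper36_ChevDataD4Ht.htOK⟩
  · exact ⟨_, _, _, Cfsg.Agent.Lib.Helper36_ChevDataF4Ht.htOK⟩
  · exact ⟨_, _, _, Cfsg.Agent.Lib.Helper36_ChevDataE6Ht.htOK⟩
  · exact ⟨_, _, _, Cfsg.Agent.Lib.Helper36_ChevDataE7Ht.htOK⟩
  · exact ⟨_, _, _, Cfsg.Agent.Lib.Helper36_ChevDataE8Ht.htOK⟩

end Cfsg.Agent.Lib.Helper36_ChevBorelAll
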