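import Cfsg.Agent.Lib.Helper36_ChevDataE7EtaTbl

set_option autoImplicit false
set_option Elab.async false

/-! Type E7: the relation `n_i x_s(t) = x_{w_i s}(η t) n_i` for i = 0 and the roots 0 ≤ s < 126. Generated file. -/

namespace Cfsg.Agent.Lib.Helper36_ChevDataE7Eta0x0

open Cfsg Cfsg.Lie Cfsg.Agent.Lib.Helper36_ChevSparse Cfsg.Agent.Lib.Helper36_ChevCoeff
  Cfsg.Agent.Lib.Helper36_ChevCoo Cfsg.Agent.Lib.Helper36_ChevAdd Cfsg.Agent.Lib.Helper36_ChevIdx
  Cfsg.Agent.Lib.Helper36_ChevWeyl Cfsg.Agent.Lib.Helper36_ChevGen Cfsg.Agent.Lib.Helper36_ChevConj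
  Cfsg.Agent.Lib.Helper36_ChevDataE7Lits Cfsg.Agent.Lib.Helper36_ChevDataE7EtaTbl

theorem eta0_0_16 : EtaRange chevE7 12 nLits 0 (etaTable.getD 0 []) 0 16 := by decide +kernel

theorem eta0_16_32 : EtaRange chevE7 12 nLits 0 (etaTable.getD 0 []) 16 32 := by decide +kernel

theorem eta0_32_48 : EtaRange chevE7 12 nLits 0 (etaTable.getD 0 []) 32 48 := by decide +kernel

theorem eta0_48_64 : EtaRange chevE7 12 nLits 0 (etaTable.getD 0 []) 48 64 := by decide +kernel

theorem eta0_64_80 : EtaRange chevE7 12 nLits 0 (etaTable.getD 0 []) 64 80 := by decide +kernel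

theorem eta0_80_96 : EtaRange chevE7 12 nLits 0 (etaTable.getD 0 []) 80 96 := by decide +kernel

theorem eta0_96_112 : EtaRange chevE7 12 nLits 0 (etaTable.getD 0 []) 96 112 := by decide +kernel

theorem eta0_112_126 : EtaRange chevE7 12 nLits 0 (etaTable.getD 0 []) 112 126 := by decide +kernel

theorem eta0 : EtaRange chevE7 12 nLits 0 (etaTable.getD 0 []) 0 126 := etaRange_trans chevE7 12 nLits 0 _ (etaRange_trans chevE7 12 nLits 0 _ (etaRange_trans chevE7 12 nLits 0 _ (etaRange_trans chevE7 12 nLits 0 _ (etaRange_trans chevE7 12 nLits 0 _ (etaRange_trans chevE7 12 nLits 0 _ (etaRange_trans chevE7 12 nLits 0 _ (eta0_0_16) eta0_16_32) eta0_32_48) eta0_48_64) eta0_64_80) eta0_80_96) eta0_96_112) eta0_112_126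

end Cfsg.Agent.Lib.Helper36_ChevDataE7Eta0x0
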