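import Cfsg.Agent.Lib.Helper36_ChevDataE7EtaTbl
import Cfsg.Agent.Lib.Helper36_ChevDataE7Eta0x0
import Cfsg.Agent.Lib.Helper36_ChevDataE7Eta1x0
import Cfsg.Agent.Lib.Helper36_ChevDataE7Eta2x0
import Cfsg.Agent.Lib.Helper36_ChevDataE7Eta3x0
import Cfsg.Agent.Lib.Helper36_ChevDataE7Eta4x0
import Cfsg.Agent.Lib.Helper36_ChevDataE7Eta5x0
import Cfsg.Agent.Lib.Helper36_ChevDataE7Eta6x0

set_option autoImplicit false


/-! Type E7: the relation `n_i x_s(t) = x_{w_i s}(η t) n_i` for all pairs, assembled from the pieces. Generated file. -/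

namespace Cfsg.Agent.Lib.Helper36_ChevDataE7Eta

open Cfsg Cfsg.Lie Cfsg.Agent.Lib.Helper36_ChevSparse Cfsg.Agent.Lib.Helper36_ChevCoeff
  Cfsg.Agent.Lib.Helper36_ChevCoo Cfsg.Agent.Lib.Helper36_ChevAdd Cfsg.Agent.Lib.Helper36_ChevIdx
  Cfsg.Agent.Lib.Helper36_ChevWeyl Cfsg.Agent.Lib.Helper36_ChevGen Cfsg.Agent.Lib.Helper36_ChevConj
  Cfsg.Agent.Lib.Helper36_ChevDataE7Lits Cfsg.Agent.Lib.Helper36_ChevDataE7EtaTbl

theorem etaTableOK : EtaTableOK chevE7 12 nLits etaTable := by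
  intro i hi
  have h : chevE7.rank = 7 := rfl
  rw [h] at hi
  interval_cases i
  · exact Helper36_ChevDataE7Eta0x0.eta0
  · exact Helper36_ChevDataE7Eta1x0.eta1
  · exact Helper36_ChevDataE7Eta2x0.eta2
  · exact Helper36_ChevDataE7Eta3x0.eta3
  · exact Helper36_ChevDataE7Eta4x0.eta4
  · exact Helper36_ChevDataE7Eta5x0.eta5
  · exact Helper36_ChevDataE7Eta6x0.eta6

end Cfsg.Agent.Lib.Helper36_ChevDataE7Eta
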