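import Cfsg.Agent.Lib.Helper36_ChevDataE8EtaTbl

set_option autoImplicit false
set_option Elab.async false

/-! Type E8: the relation `n_i x_s(t) = x_{w_i s}(η t) n_i` for i = 0 and the roots 120 ≤ s < 240. Generated file. -/

namespace Cfsg.Agent.Lib.Helper36_ChevDataE8Eta0x1

open Cfsg Cfsg.Lie Cfsg.Agent.Lib.Helper36_ChevSparse Cfsg.Agent.Lib.Helper36_ChevCoeff
  Cfsg.Agent.Lib.Helper36_ChevCoo Cfsg.Agent.Lib.Helper36_ChevAdd Cfsg.Agent.Lib.Helper36_ChevIdx
  Cfsg.Agent.Lib.Helper36_ChevWeyl Cfsg.Agent.Lib.Helper36_ChevGen Cfsg.Agent.Lib.Helper36_ChevConj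
  Cfsg.Agent.Lib.Helper36_ChevDataE8Lits Cfsg.Agent.Lib.Helper36_ChevDataE8EtaTbl

theorem eta0_120_128 : EtaRange chevE8 12 nLits 0 (etaTable.getD 0 []) 120 128 := by decide +kernel

theorem eta0_128_136 : EtaRange chevE8 12 nLits 0 (etaTable.getD 0 []) 128 136 := by decide +kernel

theorem eta0_136_144 : EtaRange chevE8 12 nLits 0 (etaTable.getD 0 []) 136 144 := by decide +kernel

theorem eta0_144_152 : EtaRange chevE8 12 nLits 0 (etaTable.getD 0 []) 144 152 := by decide +kernel

theorem eta0_152_160 : EtaRange chevE8 12 nLits 0 (etaTable.getD 0 []) 152 160 := by decide +kernel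

theorem eta0_160_168 : EtaRange chevE8 12 nLits 0 (etaTable.getD 0 []) 160 168 := by decide +kernel

theorem eta0_168_176 : EtaRange chevE8 12 nLits 0 (etaTable.getD 0 []) 168 176 := by decide +kernel

theorem eta0_176_184 : EtaRange chevE8 12 nLits 0 (etaTable.getD 0 []) 176 184 := by decide +kernel

theorem eta0_184_192 : EtaRange chevE8 12 nLits 0 (etaTable.getD 0 []) 184 192 := by decide +kernel

theorem eta0_192_200 : EtaRange chevE8 12 nLits 0 (etaTable.getD 0 []) 192 200 := by decide +kernel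

theorem eta0_200_208 : EtaRange chevE8 12 nLits 0 (etaTable.getD 0 []) 200 208 := by decide +kernel

theorem eta0_208_216 : EtaRange chevE8 12 nLits 0 (etaTable.getD 0 []) 208 216 := by decide +kernel

theorem eta0_216_224 : EtaRange chevE8 12 nLits 0 (etaTable.getD 0 []) 216 224 := by decide +kernel

theorem eta0_224_232 : EtaRange chevE8 12 nLits 0 (etaTable.getD 0 []) 224 232 := by decide +kernel

theorem eta0_232_240 : EtaRange chevE8 12 nLits 0 (etaTable.getD 0 []) 232 240 := by decide +kernel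

theorem eta0 : EtaRange chevE8 12 nLits 0 (etaTable.getD 0 []) 120 240 := etaRange_trans chevE8 12 nLits 0 _ (etaRange_trans chevE8 12 nLits 0 _ (etaRange_trans chevE8 12 nLits 0 _ (etaRange_trans chevE8 12 nLits 0 _ (etaRange_trans chevE8 12 nLits 0 _ (etaRange_trans chevE8 12 nLits 0 _ (etaRange_trans chevE8 12 nLits 0 _ (etaRange_trans chevE8 12 nLits 0 _ (etaRange_trans chevE8 12 nLits 0 _ (etaRange_trans chevE8 12 nLits 0 _ (etaRange_trans chevE8 12 nLits 0 _ (etaRange_trans chevE8 12 nLits 0 _ (etaRange_trans chevE8 12 nLits 0 _ (etaRange_trans chevE8 12 nLits 0 _ (eta0_120_128) eta0_128_136) eta0_136_144) eta0_144_152) eta0_152_160) eta0_160_168) eta0_168_176) eta0_176_184) eta0_184_192) eta0_192_200) eta0_200_208) eta0_208_216) eta0_216_224) eta0_224_232) eta0_232_240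

end Cfsg.Agent.Lib.Helper36_ChevDataE8Eta0x1
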