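import Cfsg.Agent.Lib.Helper36_ChevDataE8EtaTbl

set_option autoImplicit false
set_option Elab.async false

/-! Type E8: the relation `n_i x_s(t) = x_{w_i s}(η t) n_i` for i = 1 and the roots 0 ≤ s < 120. Generated file. -/

namespace Cfsg.Agent.Lib.Helper36_ChevDataE8Eta1x0

open Cfsg Cfsg.Lie Cfsg.Agent.Lib.Helper36_ChevSparse Cfsg.Agent.Lib.Helper36_ChevCoeff
  Cfsg.Agent.Lib.Helper36_ChevCoo Cfsg.Agent.Lib.Helper36_ChevAdd Cfsg.Agent.Lib.Helper36_ChevIdx
  Cfsg.Agent.Lib.Helper36_ChevWeyl Cfsg.Agent.Lib.Helper36_ChevGen Cfsg.Agent.Lib.Helper36_ChevConj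
  Cfsg.Agent.Lib.Helper36_ChevDataE8Lits Cfsg.Agent.Lib.Helper36_ChevDataE8EtaTbl

theorem eta1_0_8 : EtaRange chevE8 12 nLits 1 (etaTable.getD 1 []) 0 8 := by decide +kernel

theorem eta1_8_16 : EtaRange chevE8 12 nLits 1 (etaTable.getD 1 []) 8 16 := by decide +kernel

theorem eta1_16_24 : EtaRange chevE8 12 nLits 1 (etaTable.getD 1 []) 16 24 := by decide +kernel

theorem eta1_24_32 : EtaRange chevE8 12 nLits 1 (etaTable.getD 1 []) 24 32 := by decide +kernel

theorem eta1_32_40 : EtaRange chevE8 12 nLits 1 (etaTable.getD 1 []) 32 40 := by decide +kernel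

theorem eta1_40_48 : EtaRange chevE8 12 nLits 1 (etaTable.getD 1 []) 40 48 := by decide +kernel

theorem eta1_48_56 : EtaRange chevE8 12 nLits 1 (etaTable.getD 1 []) 48 56 := by decide +kernel

theorem eta1_56_64 : EtaRange chevE8 12 nLits 1 (etaTable.getD 1 []) 56 64 := by decide +kernel

theorem eta1_64_72 : EtaRange chevE8 12 nLits 1 (etaTable.getD 1 []) 64 72 := by decide +kernel

theorem eta1_72_80 : EtaRange chevE8 12 nLits 1 (etaTable.getD 1 []) 72 80 := by decide +kernel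

theorem eta1_80_88 : EtaRange chevE8 12 nLits 1 (etaTable.getD 1 []) 80 88 := by decide +kernel

theorem eta1_88_96 : EtaRange chevE8 12 nLits 1 (etaTable.getD 1 []) 88 96 := by decide +kernel

theorem eta1_96_104 : EtaRange chevE8 12 nLits 1 (etaTable.getD 1 []) 96 104 := by decide +kernel

theorem eta1_104_112 : EtaRange chevE8 12 nLits 1 (etaTable.getD 1 []) 104 112 := by decide +kernel

theorem eta1_112_120 : EtaRange chevE8 12 nLits 1 (etaTable.getD 1 []) 112 120 := by decide +kernel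

theorem eta1 : EtaRange chevE8 12 nLits 1 (etaTable.getD 1 []) 0 120 := etaRange_trans chevE8 12 nLits 1 _ (etaRange_trans chevE8 12 nLits 1 _ (etaRange_trans chevE8 12 nLits 1 _ (etaRange_trans chevE8 12 nLits 1 _ (etaRange_trans chevE8 12 nLits 1 _ (etaRange_trans chevE8 12 nLits 1 _ (etaRange_trans chevE8 12 nLits 1 _ (etaRange_trans chevE8 12 nLits 1 _ (etaRange_trans chevE8 12 nLits 1 _ (etaRange_trans chevE8 12 nLits 1 _ (etaRange_trans chevE8 12 nLits 1 _ (etaRange_trans chevE8 12 nLits 1 _ (etaRange_trans chevE8 12 nLits 1 _ (etaRange_trans chevE8 12 nLits 1 _ (eta1_0_8) eta1_8_16) eta1_16_24) eta1_24_32) eta1_32_40) eta1_40_48) eta1_48_56) eta1_56_64) eta1_64_72) eta1_72_80) eta1_80_88) eta1_88_96) eta1_96_104) eta1_104_112) eta1_112_120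

end Cfsg.Agent.Lib.Helper36_ChevDataE8Eta1x0
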