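import Cfsg.Agent.Lib.Helper36_ChevDataE8EtaTbl

set_option autoImplicit false
set_option Elab.async false

/-! Type E8: the relation `n_i x_s(t) = x_{w_i s}(η t) n_i` for i = 3 and the roots 120 ≤ s < 240. Generated file. -/

namespace Cfsg.Agent.Lib.Helper36_ChevDataE8Eta3x1

open Cfsg Cfsg.Lie Cfsg.Agent.Lib.Helper36_ChevSparse Cfsg.Agent.Lib.Helper36_ChevCoeff
  Cfsg.Agent.Lib.Helper36_ChevCoo Cfsg.Agent.Lib.Helper36_ChevAdd Cfsg.Agent.Lib.Helper36_ChevIdx
  Cfsg.Agent.Lib.Helper36_ChevWeyl Cfsg.Agent.Lib.Helper36_ChevGen Cfsg.Agent.Lib.Helper36_ChevConj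
  Cfsg.Agent.Lib.Helper36_ChevDataE8Lits Cfsg.Agent.Lib.Helper36_ChevDataE8EtaTbl

theorem eta3_120_128 : EtaRange chevE8 12 nLits 3 (etaTable.getD 3 []) 120 128 := by decide +kernel

theorem eta3_128_136 : EtaRange chevE8 12 nLits 3 (etaTable.getD 3 []) 128 136 := by decide +kernel

theorem eta3_136_144 : EtaRange chevE8 12 nLits 3 (etaTable.getD 3 []) 136 144 := by decide +kernel

theorem eta3_144_152 : EtaRange chevE8 12 nLits 3 (etaTable.getD 3 []) 144 152 := by decide +kernel

theorem eta3_152_160 : EtaRange chevE8 12 nLits 3 (etaTable.getD 3 []) 152 160 := by decide +kernel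

theorem eta3_160_168 : EtaRange chevE8 12 nLits 3 (etaTable.getD 3 []) 160 168 := by decide +kernel

theorem eta3_168_176 : EtaRange chevE8 12 nLits 3 (etaTable.getD 3 []) 168 176 := by decide +kernel

theorem eta3_176_184 : EtaRange chevE8 12 nLits 3 (etaTable.getD 3 []) 176 184 := by decide +kernel

theorem eta3_184_192 : EtaRange chevE8 12 nLits 3 (etaTable.getD 3 []) 184 192 := by decide +kernel

theorem eta3_192_200 : EtaRange chevE8 12 nLits 3 (etaTable.getD 3 []) 192 200 := by decide +kernel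

theorem eta3_200_208 : EtaRange chevE8 12 nLits 3 (etaTable.getD 3 []) 200 208 := by decide +kernel

theorem eta3_208_216 : EtaRange chevE8 12 nLits 3 (etaTable.getD 3 []) 208 216 := by decide +kernel

theorem eta3_216_224 : EtaRange chevE8 12 nLits 3 (etaTable.getD 3 []) 216 224 := by decide +kernel

theorem eta3_224_232 : EtaRange chevE8 12 nLits 3 (etaTable.getD 3 []) 224 232 := by decide +kernel

theorem eta3_232_240 : EtaRange chevE8 12 nLits 3 (etaTable.getD 3 []) 232 240 := by decide +kernel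

theorem eta3 : EtaRange chevE8 12 nLits 3 (etaTable.getD 3 []) 120 240 := etaRange_trans chevE8 12 nLits 3 _ (etaRange_trans chevE8 12 nLits 3 _ (etaRange_trans chevE8 12 nLits 3 _ (etaRange_trans chevE8 12 nLits 3 _ (etaRange_trans chevE8 12 nLits 3 _ (etaRange_trans chevE8 12 nLits 3 _ (etaRange_trans chevE8 12 nLits 3 _ (etaRange_trans chevE8 12 nLits 3 _ (etaRange_trans chevE8 12 nLits 3 _ (etaRange_trans chevE8 12 nLits 3 _ (etaRange_trans chevE8 12 nLits 3 _ (etaRange_trans chevE8 12 nLits 3 _ (etaRange_trans chevE8 12 nLits 3 _ (etaRange_trans chevE8 12 nLits 3 _ (eta3_120_128) eta3_128_136) eta3_136_144) eta3_144_152) eta3_152_160) eta3_160_168) eta3_168_176) eta3_176_184) eta3_184_192) eta3_192_200) eta3_200_208) eta3_208_216) eta3_216_224) eta3_224_232) eta3_232_240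

end Cfsg.Agent.Lib.Helper36_ChevDataE8Eta3x1
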