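import Cfsg.Agent.Lib.Helper36_ChevDataE8EtaTbl

set_option autoImplicit false
set_option Elab.async false

/-! Type E8: the relation `n_i x_s(t) = x_{w_i s}(η t) n_i` for i = 5 and the roots 0 ≤ s < 120. Generated file. -/

namespace Cfsg.Agent.Lib.Helper36_ChevDataE8Eta5x0

open Cfsg Cfsg.Lie Cfsg.Agent.Lib.Helper36_ChevSparse Cfsg.Agent.Lib.Helper36_ChevCoeff
  Cfsg.Agent.Lib.Helper36_ChevCoo Cfsg.Agent.Lib.Helper36_ChevAdd Cfsg.Agent.Lib.Helper36_ChevIdx
  Cfsg.Agent.Lib.Helper36_ChevWeyl Cfsg.Agent.Lib.Helper36_ChevGen Cfsg.Agent.Lib.Helper36_ChevConj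
  Cfsg.Agent.Lib.Helper36_ChevDataE8Lits Cfsg.Agent.Lib.Helper36_ChevDataE8EtaTbl

theorem eta5_0_8 : EtaRange chevE8 12 nLits 5 (etaTable.getD 5 []) 0 8 := by decide +kernel

theorem eta5_8_16 : EtaRange chevE8 12 nLits 5 (etaTable.getD 5 []) 8 16 := by decide +kernel

theorem eta5_16_24 : EtaRange chevE8 12 nLits 5 (etaTable.getD 5 []) 16 24 := by decide +kernel

theorem eta5_24_32 : EtaRange chevE8 12 nLits 5 (etaTable.getD 5 []) 24 32 := by decide +kernel

theorem eta5_32_40 : EtaRange chevE8 12 nLits 5 (etaTable.getD 5 []) 32 40 := by decide +kernel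

theorem eta5_40_48 : EtaRange chevE8 12 nLits 5 (etaTable.getD 5 []) 40 48 := by decide +kernel

theorem eta5_48_56 : EtaRange chevE8 12 nLits 5 (etaTable.getD 5 []) 48 56 := by decide +kernel

theorem eta5_56_64 : EtaRange chevE8 12 nLits 5 (etaTable.getD 5 []) 56 64 := by decide +kernel

theorem eta5_64_72 : EtaRange chevE8 12 nLits 5 (etaTable.getD 5 []) 64 72 := by decide +kernel

theorem eta5_72_80 : EtaRange chevE8 12 nLits 5 (etaTable.getD 5 []) 72 80 := by decide +kernel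

theorem eta5_80_88 : EtaRange chevE8 12 nLits 5 (etaTable.getD 5 []) 80 88 := by decide +kernel

theorem eta5_88_96 : EtaRange chevE8 12 nLits 5 (etaTable.getD 5 []) 88 96 := by decide +kernel

theorem eta5_96_104 : EtaRange chevE8 12 nLits 5 (etaTable.getD 5 []) 96 104 := by decide +kernel

theorem eta5_104_112 : EtaRange chevE8 12 nLits 5 (etaTable.getD 5 []) 104 112 := by decide +kernel

theorem eta5_112_120 : EtaRange chevE8 12 nLits 5 (etaTable.getD 5 []) 112 120 := by decide +kernel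

theorem eta5 : EtaRange chevE8 12 nLits 5 (etaTable.getD 5 []) 0 120 := etaRange_trans chevE8 12 nLits 5 _ (etaRange_trans chevE8 12 nLits 5 _ (etaRange_trans chevE8 12 nLits 5 _ (etaRange_trans chevE8 12 nLits 5 _ (etaRange_trans chevE8 12 nLits 5 _ (etaRange_trans chevE8 12 nLits 5 _ (etaRange_trans chevE8 12 nLits 5 _ (etaRange_trans chevE8 12 nLits 5 _ (etaRange_trans chevE8 12 nLits 5 _ (etaRange_trans chevE8 12 nLits 5 _ (etaRange_trans chevE8 12 nLits 5 _ (etaRange_trans chevE8 12 nLits 5 _ (etaRange_trans chevE8 12 nLits 5 _ (etaRange_trans chevE8 12 nLits 5 _ (eta5_0_8) eta5_8_16) eta5_16_24) eta5_24_32) eta5_32_40) eta5_40_48) eta5_48_56) eta5_56_64) eta5_64_72) eta5_72_80) eta5_80_88) eta5_88_96) eta5_96_104) eta5_104_112) eta5_112_120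

end Cfsg.Agent.Lib.Helper36_ChevDataE8Eta5x0
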