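import Cfsg.Agent.Lib.Helper36_ChevDataE8EtaTbl
import Cfsg.Agent.Lib.Helper36_ChevDataE8Eta0x0
import Cfsg.Agent.Lib.Helper36_ChevDataE8Eta0x1
import Cfsg.Agent.Lib.Helper36_ChevDataE8Eta1x0
import Cfsg.Agent.Lib.Helper36_ChevDataE8Eta1x1
import Cfsg.Agent.Lib.Helper36_ChevDataE8Eta2x0
import Cfsg.Agent.Lib.Helper36_ChevDataE8Eta2x1
import Cfsg.Agent.Lib.Helper36_ChevDataE8Eta3x0
import Cfsg.Agent.Lib.Helper36_ChevDataE8Eta3x1
import Cfsg.Agent.Lib.Helper36_ChevDataE8Eta4x0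
import Cfsg.Agent.Lib.Helper36_ChevDataE8Eta4x1
import Cfsg.Agent.Lib.Helper36_ChevDataE8Eta5x0
import Cfsg.Agent.Lib.Helper36_ChevDataE8Eta5x1
import Cfsg.Agent.Lib.Helper36_ChevDataE8Eta6x0
import Cfsg.Agent.Lib.Helper36_ChevDataE8Eta6x1
import Cfsg.Agent.Lib.Helper36_ChevDataE8Eta7x0
import Cfsg.Agent.Lib.Helper36_ChevDataE8Eta7x1

set_option autoImplicit false


/-! Type E8: the relation `n_i x_s(t) = x_{w_i s}(η t) n_i` for all pairs, assembled from the pieces. Generated file. -/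

namespace Cfsg.Agent.Lib.Helper36_ChevDataE8Eta

open Cfsg Cfsg.Lie Cfsg.Agent.Lib.Helper36_ChevSparse Cfsg.Agent.Lib.Helper36_ChevCoeff
  Cfsg.Agent.Lib.Helper36_ChevCoo Cfsg.Agent.Lib.Helper36_ChevAdd Cfsg.Agent.Lib.Helper36_ChevIdx
  Cfsg.Agent.Lib.Helper36_ChevWeyl Cfsg.Agent.Lib.Helper36_ChevGen Cfsg.Agent.Lib.Helper36_ChevConj
  Cfsg.Agent.Lib.Helper36_ChevDataE8Lits Cfsg.Agent.Lib.Helper36_ChevDataE8EtaTbl

theorem etaTableOK : EtaTableOK chevE8 12 nLits etaTable := by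
  intro i hi
  have h : chevE8.rank = 8 := rfl
  rw [h] at hi
  interval_cases i
  · exact etaRange_trans chevE8 12 nLits 0 _ (Helper36_ChevDataE8Eta0x0.eta0) Helper36_ChevDataE8Eta0x1.eta0
  · exact etaRange_trans chevE8 12 nLits 1 _ (Helper36_ChevDataE8Eta1x0.eta1) Helper36_ChevDataE8Eta1x1.eta1
  · exact etaRange_trans chevE8 12 nLits 2 _ (Helper36_ChevDataE8Eta2x0.eta2) Helper36_ChevDataE8Eta2x1.eta2
  · exact etaRange_trans chevE8 12 nLits 3 _ (Helper36_ChevDataE8Eta3x0.eta3) Helper36_ChevDataE8Eta3x1.eta3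
  · exact etaRange_trans chevE8 12 nLits 4 _ (Helper36_ChevDataE8Eta4x0.eta4) Helper36_ChevDataE8Eta4x1.eta4
  · exact etaRange_trans chevE8 12 nLits 5 _ (Helper36_ChevDataE8Eta5x0.eta5) Helper36_ChevDataE8Eta5x1.eta5
  · exact etaRange_trans chevE8 12 nLits 6 _ (Helper36_ChevDataE8Eta6x0.eta6) Helper36_ChevDataE8Eta6x1.eta6
  · exact etaRange_trans chevE8 12 nLits 7 _ (Helper36_ChevDataE8Eta7x0.eta7) Helper36_ChevDataE8Eta7x1.eta7

end Cfsg.Agent.Lib.Helper36_ChevDataE8Eta
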