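import Cfsg.Agent.Lib.Helper36_ChevDataG2Eta
import Cfsg.Agent.Lib.Helper36_ChevDataG2W0
import Cfsg.Agent.Lib.Helper36_ChevDataB2Eta
import Cfsg.Agent.Lib.Helper36_ChevDataB2W0
import Cfsg.Agent.Lib.Helper36_ChevDataD4Eta
import Cfsg.Agent.Lib.Helper36_ChevDataD4W0
import Cfsg.Agent.Lib.Helper36_ChevDataF4Eta
import Cfsg.Agent.Lib.Helper36_ChevDataF4W0
import Cfsg.Agent.Lib.Helper36_ChevDataE6Eta
import Cfsg.Agent.Lib.Helper36_ChevDataE6W0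
import Cfsg.Agent.Lib.Helper36_ChevDataE7Eta
import Cfsg.Agent.Lib.Helper36_ChevDataE7W0
import Cfsg.Agent.Lib.Helper36_ChevDataE8Eta
import Cfsg.Agent.Lib.Helper36_ChevDataE8W0
import Cfsg.Agent.Lib.Helper36_ChevBorelAll

set_option autoImplicit false

/-! The conjugation of all root elements by the `n_i`, and the words for the longest elements, for the seven tabulated
Chevalley data. -/

namespace Cfsg.Agent.Lib.Helper36_ChevW0All

open Cfsg Cfsg.Lie Cfsg.Agent.Lib.Helper36_ChevW0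

theorem allConjG2 (F : Type*) [Field F] : AllConj chevG2 F :=
  allConj_of_table chevG2 F Cfsg.Agent.Lib.Helper36_ChevDataG2.lenOK Cfsg.Agent.Lib.Helper36_ChevDataG2.addOK Cfsg.Agent.Lib.Helper36_ChevDataG2.simpleOK Cfsg.Agent.Lib.Helper36_ChevDataG2.nLits Cfsg.Agent.Lib.Helper36_ChevDataG2.nLitOK 12
    Cfsg.Agent.Lib.Helper36_ChevDataG2Eta.etaTable Cfsg.Agent.Lib.Helper36_ChevDataG2Eta.etaTableOK

theorem allConjB2 (F : Type*) [Field F] : AllConj chevB2 F :=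
  allConj_of_table chevB2 F Cfsg.Agent.Lib.Helper36_ChevDataB2.lenOK Cfsg.Agent.Lib.Helper36_ChevDataB2.addOK Cfsg.Agent.Lib.Helper36_ChevDataB2.simpleOK Cfsg.Agent.Lib.Helper36_ChevDataB2.nLits Cfsg.Agent.Lib.Helper36_ChevDataB2.nLitOK 12
    Cfsg.Agent.Lib.Helper36_ChevDataB2Eta.etaTable Cfsg.Agent.Lib.Helper36_ChevDataB2Eta.etaTableOK

theorem allConjD4 (F : Type*) [Field F] : AllConj chevD4 F :=
  allConj_of_table chevD4 F Cfsg.Agent.Lib.Helper36_ChevDataD4.lenOK Cfsg.Agent.Lib.Helper36_ChevDataD4.addOK Cfsg.Agent.Lib.Helper36_ChevDataD4.simpleOK Cfsg.Agent.Lib.Helper36_ChevDataD4.nLits Cfsg.Agent.Lib.Helper36_ChevDataD4.nLitOK 12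
    Cfsg.Agent.Lib.Helper36_ChevDataD4Eta.etaTable Cfsg.Agent.Lib.Helper36_ChevDataD4Eta.etaTableOK

theorem allConjF4 (F : Type*) [Field F] : AllConj chevF4 F :=
  allConj_of_table chevF4 F Cfsg.Agent.Lib.Helper36_ChevDataF4.lenOK Cfsg.Agent.Lib.Helper36_ChevDataF4.addOK Cfsg.Agent.Lib.Helper36_ChevDataF4.simpleOK Cfsg.Agent.Lib.Helper36_ChevDataF4.nLits Cfsg.Agent.Lib.Helper36_ChevDataF4.nLitOK 12
    Cfsg.Agent.Lib.Helper36_ChevDataF4Eta.etaTable Cfsg.Agent.Lib.Helper36_ChevDataF4Eta.etaTableOK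

theorem allConjE6 (F : Type*) [Field F] : AllConj chevE6 F :=
  allConj_of_table chevE6 F Cfsg.Agent.Lib.Helper36_ChevDataE6.lenOK Cfsg.Agent.Lib.Helper36_ChevDataE6.addOK Cfsg.Agent.Lib.Helper36_ChevDataE6.simpleOK Cfsg.Agent.Lib.Helper36_ChevDataE6.nLits Cfsg.Agent.Lib.Helper36_ChevDataE6.nLitOK 12
    Cfsg.Agent.Lib.Helper36_ChevDataE6Eta.etaTable Cfsg.Agent.Lib.Helper36_ChevDataE6Eta.etaTableOK

theorem allConjE7 (F : Type*) [Field F] : AllConj chevE7 F :=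
  allConj_of_table chevE7 F Cfsg.Agent.Lib.Helper36_ChevDataE7.lenOK Cfsg.Agent.Lib.Helper36_ChevDataE7.addOK Cfsg.Agent.Lib.Helper36_ChevDataE7.simpleOK Cfsg.Agent.Lib.Helper36_ChevDataE7.nLits Cfsg.Agent.Lib.Helper36_ChevDataE7.nLitOK 12
    Cfsg.Agent.Lib.Helper36_ChevDataE7EtaTbl.etaTable Cfsg.Agent.Lib.Helper36_ChevDataE7Eta.etaTableOK

theorem allConjE8 (F : Type*) [Field F] : AllConj chevE8 F :=
  allConj_of_table chevE8 F Cfsg.Agent.Lib.Helper36_ChevDataE8.lenOK Cfsg.Agent.Lib.Helper36_ChevDataE8.addOK Cfsg.Agent.Lib.Helper36_ChevDataE8.simpleOK Cfsg.Agent.Lib.Helper36_ChevDataE8.nLits Cfsg.Agent.Lib.Helper36_ChevDataE8.nLitOK 12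
    Cfsg.Agent.Lib.Helper36_ChevDataE8EtaTbl.etaTable Cfsg.Agent.Lib.Helper36_ChevDataE8Eta.etaTableOK

theorem allConj_of_mem (D : ChevalleyDatum)
    (hD : D ∈ [chevG2, chevB2, chevD4, chevF4, chevE6, chevE7, chevE8]) (F : Type*) [Field F] : AllConj D F := by
  simp only [List.mem_cons, List.not_mem_nil, or_false] at hD
  rcases hD with rfl | rfl | rfl | rfl | rfl | rfl | rfl
  · exact allConjG2 F
  · exact allConjB2 F
  · exact allConjD4 F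
  · exact allConjF4 F
  · exact allConjE6 F
  · exact allConjE7 F
  · exact allConjE8 F

theorem w0OK_of_mem (D : ChevalleyDatum)
    (hD : D ∈ [chevG2, chevB2, chevD4, chevF4, chevE6, chevE7, chevE8]) :
    ∃ (tbl : List (List ℕ)) (w0 : List ℕ), W0OK D tbl w0 := by
  simp only [List.mem_cons, List.not_mem_nil, or_false] at hD
  rcases hD with rfl | rfl | rfl | rfl | rfl | rfl | rfl
  · exact ⟨_, _, Cfsg.Agent.Lib.Helper36_ChevDataG2W0.w0OK⟩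
  · exact ⟨_, _, Cfsg.Agent.Lib.Helper36_ChevDataB2W0.w0OK⟩
  · exact ⟨_, _, Cfsg.Agent.Lib.Helper36_ChevDataD4W0.w0OK⟩
  · exact ⟨_, _, Cfsg.Agent.Lib.Helper36_ChevDataF4W0.w0OK⟩
  · exact ⟨_, _, Cfsg.Agent.Lib.Helper36_ChevDataE6W0.w0OK⟩
  · exact ⟨_, _, Cfsg.Agent.Lib.Helper36_ChevDataE7W0.w0OK⟩
  · exact ⟨_, _, Cfsg.Agent.Lib.Helper36_ChevDataE8W0.w0OK⟩

end Cfsg.Agent.Lib.Helper36_ChevW0All
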