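import Cfsg.Agent.Lib.Helper18_ChevMono
import Cfsg.Prelude.Def_LieExceptional

set_option autoImplicit false

/-!
The (B, N)-pair of a Chevalley group.
-/

namespace Cfsg.Agent.Lib.Helper18_ChevBNPair

open Cfsg Cfsg.Lie Cfsg.Agent.Lib.Helper18_ChevFast Cfsg.Agent.Lib.Helper18_ChevEngine
  Cfsg.Agent.Lib.Helper18_ChevR1 Cfsg.Agent.Lib.Helper18_ChevN Cfsg.Agent.Lib.Helper18_ChevR4
  Cfsg.Agent.Lib.Helper18_ChevSimple Cfsg.Agent.Lib.Helper18_ChevSimple2 Cfsg.Agent.Lib.Helper18_ChevFacts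
  Cfsg.Agent.Lib.Helper18_ChevWeyl Cfsg.Agent.Lib.Helper18_ChevDiag Cfsg.Agent.Lib.Helper18_ChevCar
  Cfsg.Agent.Lib.Helper18_ChevTorus Cfsg.Agent.Lib.Helper18_ChevGL Cfsg.Agent.Lib.Helper18_ChevComm
  Cfsg.Agent.Lib.Helper18_ChevComm2 Cfsg.Agent.Lib.Helper18_MatTri Cfsg.Agent.Lib.Helper18_ChevTri
  Cfsg.Agent.Lib.Helper18_ChevBorel Cfsg.Agent.Lib.Helper18_ChevAdd Cfsg.Agent.Lib.Helper18_ChevUni
  Cfsg.Agent.Lib.Helper18_ChevBN Cfsg.Agent.Lib.Helper18_ChevMono

variable {D : ChevalleyDatum} {Ns : List NData} {F : Type*} [Field F]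

/-! ### `N` normalizes `H` -/

theorem monomial_le_normalizer_diagonal (c : DCert D Ns) (tc : TCert D) :
    D.monomialSubgroup F ≤ Subgroup.normalizer (D.diagonalSubgroup F : Set (GL D.Idx F)) := by
  rw [monomial_eq c]
  apply sup_le Subgroup.le_normalizer
  unfold simpleN
  rw [Subgroup.closure_le]
  rintro g ⟨i, hi, rfl⟩
  exact nGL_mem_normalizer_diagonal c tc i hi

/-! ### The action of `N` on the root subgroups -/

/-- Conjugation by `g⁻¹` maps each pair of opposite root subgroups to a pair of opposite root subgroups. -/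
def RootAct (c : DCert D Ns) (g : GL D.Idx F) : Prop :=
  ∀ r < D.nroots, ∃ r' < D.nroots, ∃ a a' : F, a ≠ 0 ∧ a' ≠ 0 ∧
    (∀ t : F, g⁻¹ * xGL c r t * g = xGL c r' (a * t)) ∧
    (∀ t : F, g⁻¹ * xGL c (D.neg r) t * g = xGL c (D.neg r') (a' * t))

theorem rootAct_one (c : DCert D Ns) : RootAct c (1 : GL D.Idx F) := by
  intro r hr
  exact ⟨r, hr, 1, 1, one_ne_zero, one_ne_zero, fun t => by simp, fun t => by simp⟩

theorem RootAct.mul (c : DCert D Ns) {g₁ g₂ : GL D.Idx F} (h₁ : RootAct c g₁) (h₂ : RootAct c g₂) :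
    RootAct c (g₁ * g₂) := by
  intro r hr
  obtain ⟨r', hr', a, a', ha, ha', e1, e2⟩ := h₁ r hr
  obtain ⟨r'', hr'', b, b', hb, hb', f1, f2⟩ := h₂ r' hr'
  refine ⟨r'', hr'', b * a, b' * a', mul_ne_zero hb ha, mul_ne_zero hb' ha', ?_, ?_⟩
  · intro t
    have : (g₁ * g₂)⁻¹ * xGL c r t * (g₁ * g₂) = g₂⁻¹ * (g₁⁻¹ * xGL c r t * g₁) * g₂ := by group
    rw [this, e1, f1, mul_assoc]
  · intro t
    have : (g₁ * g₂)⁻¹ * xGL c (D.neg r) t * (g₁ * g₂) = g₂⁻¹ * (g₁⁻¹ * xGL c (D.neg r) t * g₁) * g₂ := by group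
    rw [this, e2, f2, mul_assoc]

theorem torusChar_ne_zero (t : ℕ → F) (ht : ∀ i, t i ≠ 0) (s : ℕ) : torusChar D t s ≠ 0 := by
  unfold torusChar
  rw [Finset.prod_ne_zero_iff]
  intro i _
  exact zpow_ne_zero _ (ht i)

theorem rootAct_diagonal (c : DCert D Ns) (tc : TCert D) (h : GL D.Idx F) (hh : h ∈ D.diagonalSubgroup F) :
    RootAct c h := by
  obtain ⟨τ, hτ, hk⟩ := exists_torus_of_mem c tc h⁻¹ (Subgroup.inv_mem _ hh)
  have key : ∀ r < D.nroots, ∀ t : F, h⁻¹ * xGL c r t * h = xGL c r (torusChar D τ r * t) := by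
    intro r hr t
    have : h⁻¹ * xGL c r t * h = h⁻¹ * xGL c r t * h⁻¹⁻¹ := by rw [inv_inv]
    rw [this, mul_inv_eq_iff_eq_mul]
    apply Units.ext
    rw [Units.val_mul, Units.val_mul, xGL_coe, hk, xGL_coe]
    exact torus_conj c tc τ hτ r hr t
  intro r hr
  exact ⟨r, hr, _, _, torusChar_ne_zero τ hτ r, torusChar_ne_zero τ hτ (D.neg r), key r hr,
    key _ (DCert.neg_lt c r hr)⟩

theorem eta_cast_ne_zero (c : DCert D Ns) (i : ℕ) (hi : i < D.rank) (s : ℕ) (hs : s < D.nroots) :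
    ((etaZ Ns i s : ℤ) : F) ≠ 0 := by
  have := eta_cast_sq (F := F) (c.etaZ_pm i hi s hs)
  intro h
  rw [h, mul_zero] at this
  exact zero_ne_one this

/-- `n_i⁻¹ x_r(t) n_i = x_{w_i r}(η t)`. -/
theorem nGL_inv_conj (c : DCert D Ns) (i : ℕ) (hi : i < D.rank) (r : ℕ) (hr : r < D.nroots) (t : F) :
    (nGL c i)⁻¹ * xGL c r t * nGL c i =
      xGL c (D.reflectRoot i r) (((etaZ Ns i (D.reflectRoot i r) : ℤ) : F) * t) := by
  have hr' := c.reflect_lt i hi r hr
  have h := nGL_conj c i hi _ hr' (((etaZ Ns i (D.reflectRoot i r) : ℤ) : F) * t)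
  rw [c.reflect_reflect i hi r hr, ← mul_assoc, eta_cast_sq (F := F) (c.etaZ_pm i hi _ hr'), one_mul] at h
  rw [← h]
  group

theorem rootAct_nGL (c : DCert D Ns) (i : ℕ) (hi : i < D.rank) : RootAct c (nGL c i : GL D.Idx F) := by
  intro r hr
  have fr := facts c.rows (c.ncert i hi) r hr
  refine ⟨D.reflectRoot i r, c.reflect_lt i hi r hr, _, _, eta_cast_ne_zero c i hi _ (c.reflect_lt i hi r hr),
    eta_cast_ne_zero c i hi _ (c.reflect_lt i hi _ fr.neg_lt), nGL_inv_conj c i hi r hr, ?_⟩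
  intro t
  rw [nGL_inv_conj c i hi _ fr.neg_lt, fr.refl_neg]

theorem rootAct_nGL_inv (c : DCert D Ns) (i : ℕ) (hi : i < D.rank) : RootAct c ((nGL c i)⁻¹ : GL D.Idx F) := by
  intro r hr
  have fr := facts c.rows (c.ncert i hi) r hr
  refine ⟨D.reflectRoot i r, c.reflect_lt i hi r hr, _, _, eta_cast_ne_zero c i hi r hr,
    eta_cast_ne_zero c i hi _ fr.neg_lt, ?_, ?_⟩
  · intro t
    rw [inv_inv]
    exact nGL_conj c i hi r hr t
  · intro t
    rw [inv_inv, nGL_conj c i hi _ fr.neg_lt, fr.refl_neg]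

/-- The subgroup of the elements that act on the root subgroups, together with their inverses. -/
def rootActGL (c : DCert D Ns) (F : Type*) [Field F] : Subgroup (GL D.Idx F) where
  carrier := {g | RootAct c g ∧ RootAct c g⁻¹}
  one_mem' := ⟨rootAct_one c, by rw [inv_one]; exact rootAct_one c⟩
  mul_mem' := by
    intro a b ha hb
    refine ⟨ha.1.mul c hb.1, ?_⟩
    rw [mul_inv_rev]
    exact hb.2.mul c ha.2
  inv_mem' := by
    intro a ha
    refine ⟨ha.2, ?_⟩
    rw [inv_inv]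
    exact ha.1

theorem monomial_le_rootActGL (c : DCert D Ns) (tc : TCert D) : D.monomialSubgroup F ≤ rootActGL c F := by
  rw [monomial_eq c]
  apply sup_le
  · intro h hh
    exact ⟨rootAct_diagonal c tc h hh, rootAct_diagonal c tc _ (Subgroup.inv_mem _ hh)⟩
  · unfold simpleN
    rw [Subgroup.closure_le]
    rintro g ⟨i, hi, rfl⟩
    exact ⟨rootAct_nGL c i hi, rootAct_nGL_inv c i hi⟩

/-! ### The double coset axiom -/

section

variable {wl : List ℤ} {ws : List (List ℤ)} {sc : ℤ}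

theorem xGL_pos_mem_borel (c : DCert D Ns) (r : ℕ) (hr : D.IsPosRoot r) (t : F) :
    xGL c r t ∈ D.borelSubgroup F :=
  Subgroup.mem_sup_left (Subgroup.subset_closure ⟨r, t, hr, rfl⟩)

/-- `n_i b n ∈ B n_i n B ∪ B n B` for `b ∈ B` and `n ∈ N`. -/
theorem nGL_mul_mem_union (c : DCert D Ns) (tc : TCert D) (ac : ACert D wl ws sc) (hR2 : R2All D F)
    (i : ℕ) (hi : i < D.rank) (n : GL D.Idx F) (hn : n ∈ D.monomialSubgroup F) (b : GL D.Idx F)
    (hb : b ∈ D.borelSubgroup F) :
    nGL c i * b * n ∈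
      DoubleCoset.doubleCoset (nGL c i * n) (D.borelSubgroup F : Set (GL D.Idx F)) (D.borelSubgroup F) ∪
      DoubleCoset.doubleCoset n (D.borelSubgroup F : Set (GL D.Idx F)) (D.borelSubgroup F) := by
  obtain ⟨y, hy, t, h, hh, rfl⟩ := borel_decomp c tc ac hR2 i hi b hb
  have hp := (c.ncert i hi).simple_lt
  set m : GL D.Idx F := nGL c i with hm
  have hy' : m * y * m⁻¹ ∈ D.borelSubgroup F :=
    up_le_borel i ((Subgroup.mem_normalizer_iff.mp (nGL_mem_normalizer_up c tc ac hR2 i hi) y).mp hy)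
  have hh' : n⁻¹ * h * n ∈ D.borelSubgroup F := by
    have h1 := monomial_le_normalizer_diagonal c tc (Subgroup.inv_mem _ hn)
    have h2 := (Subgroup.mem_normalizer_iff.mp h1 h).mp hh
    rw [inv_inv] at h2
    exact Subgroup.mem_sup_right h2
  obtain ⟨r0, hr0, a, a', ha, ha', e1, e2⟩ := (monomial_le_rootActGL c tc hn).1 (D.simple i) hp
  have e0 : m * (y * xGL c (D.simple i) t * h) * n =
      (m * y * m⁻¹) * m * (xGL c (D.simple i) t * n) * (n⁻¹ * h * n) := by group
  rw [e0]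
  rcases ac.posOrNeg r0 hr0 with hpos | hneg
  · -- `n⁻¹ p` positive
    left
    rw [DoubleCoset.mem_doubleCoset]
    have e3 : xGL c (D.simple i) t * n = n * xGL c r0 (a * t) := by
      rw [← e1 t]; group
    refine ⟨m * y * m⁻¹, hy', xGL c r0 (a * t) * (n⁻¹ * h * n),
      Subgroup.mul_mem _ (xGL_pos_mem_borel c r0 hpos _) hh', ?_⟩
    rw [e3]
    simp only [mul_assoc]
  · by_cases ht : t = 0
    · left
      rw [DoubleCoset.mem_doubleCoset]
      refine ⟨m * y * m⁻¹, hy', n⁻¹ * h * n, hh', ?_⟩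
      rw [ht, xGL_zero, one_mul]
      simp only [mul_assoc]
    · right
      rw [DoubleCoset.mem_doubleCoset]
      have hpos' := neg_isPos c tc ac r0 hneg
      -- `m x_p(t) = x_{-p}(t') m`
      have e3 := nGL_conj c i hi (D.simple i) hp t
      rw [reflectRoot_simple, ← hm] at e3
      set t' := ((etaZ Ns i (D.simple i) : ℤ) : F) * t with ht'
      have ht'0 : t' ≠ 0 := mul_ne_zero (eta_cast_ne_zero c i hi _ hp) ht
      have e4 : m * xGL c (D.simple i) t = xGL c (D.neg (D.simple i)) t' * m := by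
        rw [← e3]; group
      -- `x_p(s) m = m x_{-p}(s')`
      have e5 := nGL_inv_conj c i hi (D.simple i) hp t'⁻¹
      rw [reflectRoot_simple, ← hm] at e5
      set t'' := ((etaZ Ns i (D.neg (D.simple i)) : ℤ) : F) * t'⁻¹ with ht''
      have e6 : xGL c (D.simple i) t'⁻¹ * m = m * xGL c (D.neg (D.simple i)) t'' := by
        rw [← e5]; group
      -- `x_{-p}(s') n = n x_{-r0}(a' s')`
      have e7 : xGL c (D.neg (D.simple i)) t'' * n = n * xGL c (D.neg r0) (a' * t'') := by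
        rw [← e2 t'']; group
      have hmm : m * m ∈ D.borelSubgroup F := Subgroup.mem_sup_right (nGL_sq_mem c i hi)
      have hh0 : hGL c (D.simple i) (-t'⁻¹) ∈ D.borelSubgroup F :=
        Subgroup.mem_sup_right (hGL_mem c _ hp _ (neg_ne_zero.mpr (inv_ne_zero ht'0)))
      refine ⟨(m * y * m⁻¹) * (xGL c (D.simple i) t'⁻¹ * hGL c (D.simple i) (-t'⁻¹) * (m * m)), ?_,
        xGL c (D.neg r0) (a' * t'') * (n⁻¹ * h * n), ?_, ?_⟩
      · exact Subgroup.mul_mem _ hy' (Subgroup.mul_mem _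
          (Subgroup.mul_mem _ (xGL_simple_mem_borel c tc i hi _) hh0) hmm)
      · exact Subgroup.mul_mem _ (xGL_pos_mem_borel c _ hpos' _) hh'
      · have e8 : m * (xGL c (D.simple i) t * n) = (m * xGL c (D.simple i) t) * n := by
          simp only [mul_assoc]
        have e9 : (m * y * m⁻¹) * m * (xGL c (D.simple i) t * n) * (n⁻¹ * h * n) =
            (m * y * m⁻¹) * ((m * xGL c (D.simple i) t) * n) * (n⁻¹ * h * n) := by
          simp only [mul_assoc]
        rw [e9, e4, xGL_neg_simple c i hi t']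
        have e10 : xGL c (D.simple i) t'⁻¹ * hGL c (D.simple i) (-t'⁻¹) * nGL c i * xGL c (D.simple i) t'⁻¹ * m * n =
            xGL c (D.simple i) t'⁻¹ * hGL c (D.simple i) (-t'⁻¹) * m * ((xGL c (D.simple i) t'⁻¹ * m) * n) := by
          simp only [mul_assoc, ← hm]
        rw [e10, e6]
        have e11 : m * xGL c (D.neg (D.simple i)) t'' * n = m * (xGL c (D.neg (D.simple i)) t'' * n) := by
          simp only [mul_assoc]
        rw [e11, e7]
        simp only [mul_assoc]

end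

/-! ### Distinct roots have distinct root elements; `B` is triangular -/

section

variable {wl : List ℤ} {ws : List (List ℤ)} {sc : ℤ}

/-- `x_r(a) = x_{r'}(a')` with `a ≠ 0` forces `r = r'`. -/
theorem root_eq_of_x_eq (c : DCert D Ns) (tc : TCert D) (ac : ACert D wl ws sc) (r r' : ℕ) (hr : r < D.nroots)
    (hr' : r' < D.nroots) (a a' : F) (ha : a ≠ 0) (h : D.x F r a = D.x F r' a') : r' = r := by
  by_contra hne
  apply ha
  apply eq_zero_of_cor_mul ac r hr
  intro i hi
  have hnr := DCert.neg_lt c r hr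
  have h1 := congrFun (congrFun h (Sum.inl ⟨i, hi⟩)) (Sum.inr ⟨D.neg r, hnr⟩)
  rw [x_entry_inl_neg c tc ac r r hr hr hnr, x_entry_inl_neg c tc ac r r' hr hr' hnr, if_pos rfl,
    if_neg hne] at h1
  exact h1

/-- `B` consists of matrices that do not lower the height. -/
theorem borel_le_tri (c : DCert D Ns) (tc : TCert D) {w : List ℤ} {d : ℕ} (gc : GCert D w d) :
    D.borelSubgroup F ≤ triSubgroup (R := F) (gradU D w) 0 (le_refl 0) := by
  unfold ChevalleyDatum.borelSubgroup
  apply sup_le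
  · exact le_trans (posUnipotent_le_tri c tc gc) (triSubgroup_mono _ _ (d_nonneg d))
  · intro g hg
    obtain ⟨t, _, hgt⟩ := exists_torus_of_mem c tc g hg
    show Raises _ _ _
    intro i j hij
    have hne : i ≠ j := by
      rintro rfl
      omega
    rw [Matrix.sub_apply, Matrix.one_apply_ne hne, sub_zero, hgt]
    unfold torusMat diagMat
    exact Matrix.diagonal_apply_ne _ hne

/-- A root element of a negative root in `B` is trivial. -/
theorem eq_zero_of_xGL_neg_mem_borel (c : DCert D Ns) (tc : TCert D) (ac : ACert D wl ws sc) {w : List ℤ}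
    {d : ℕ} (gc : GCert D w d) (r : ℕ) (hr : D.IsNegRoot r) (a : F) (h : xGL c r a ∈ D.borelSubgroup F) :
    a = 0 := by
  have h1 := borel_le_tri c tc gc h
  have hnr := DCert.neg_lt c r hr.1
  have hpos := neg_isPos c tc ac r hr
  have hd : (1 : ℤ) ≤ d := by exact_mod_cast gc.d_pos
  apply eq_zero_of_cor_mul ac r hr.1
  intro i hi
  have h2 := h1 (Sum.inl ⟨i, hi⟩) (Sum.inr ⟨D.neg r, hnr⟩) (by
    have := gc.pos _ hnr hpos
    rw [grL_eq] at this
    simp only [gradU, grIdx]
    omega)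
  rw [Matrix.sub_apply, Matrix.one_apply_ne Sum.inl_ne_inr, sub_zero, xGL_coe,
    x_entry_inl_neg c tc ac r r hr.1 hr.1 hnr, if_pos rfl] at h2
  exact h2

/-- The coefficient on `p_k` does not change under the reflection in `p_i`, `i ≠ k`. -/
theorem cf_reflect (c : DCert D Ns) (ac : ACert D wl ws sc) (i : ℕ) (hi : i < D.rank) (k : ℕ)
    (hk : k < D.rank) (hki : k ≠ i) (s : ℕ) (hs : s < D.nroots) :
    cf D ws k (D.reflectRoot i s) = cf D ws k s := by
  have fs := facts c.rows (c.ncert i hi) s hs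
  have h0 : cf D ws k (D.simple i) = 0 := by
    rw [ac.cf_simple i hi k hk, if_neg hki]
  unfold cf grRoot at h0 ⊢
  have : ∑ j ∈ Finset.range D.rank, (ws.getD k []).getD j 0 * D.cartan j s =
      ∑ j ∈ Finset.range D.rank, (ws.getD k []).getD j 0 * D.cartan j (D.reflectRoot i s) -
        (∑ j ∈ Finset.range D.rank, (ws.getD k []).getD j 0 * D.cartan j (D.simple i)) *
          D.cartan i (D.reflectRoot i s) := by
    rw [Finset.sum_mul, ← Finset.sum_sub_distrib]
    apply Finset.sum_congr rfl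
    intro j hj
    rw [fs.car j (Finset.mem_range.mp hj)]
    ring
  rw [this, h0, zero_mul, sub_zero]

/-- `n_i⁻¹ n_j ∈ B` forces `i = j`. -/
theorem eq_of_nGL_inv_mul_mem (c : DCert D Ns) (tc : TCert D) (ac : ACert D wl ws sc) {w : List ℤ} {d : ℕ}
    (gc : GCert D w d) (i j : ℕ) (hi : i < D.rank) (hj : j < D.rank)
    (h : (nGL c i)⁻¹ * nGL c j ∈ D.borelSubgroup F) : i = j := by
  by_contra hij
  have hN : (nGL c i)⁻¹ * nGL c j ∈ D.monomialSubgroup F :=
    Subgroup.mul_mem _ (Subgroup.inv_mem _ (nGL_mem_monomial c i hi)) (nGL_mem_monomial c j hj)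
  have hH : (nGL c i)⁻¹ * nGL c j ∈ D.diagonalSubgroup F := by
    rw [← borel_inf_monomial c tc gc]
    exact Subgroup.mem_inf.mpr ⟨h, hN⟩
  have hpj := (c.ncert j hj).simple_lt
  -- conjugate `x_{p_j}(1)` in two ways
  obtain ⟨b, hb⟩ := diagonal_conj_xGL c tc _ hH (D.simple j) hpj (1 : F)
  have e1 := nGL_conj c j hj (D.simple j) hpj (1 : F)
  rw [reflectRoot_simple] at e1
  have e2 := nGL_conj c i hi (D.simple j) hpj b
  have e3 : (nGL c j : GL D.Idx F) * xGL c (D.simple j) (1 : F) * (nGL c j)⁻¹ =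
      nGL c i * (((nGL c i)⁻¹ * nGL c j) * xGL c (D.simple j) (1 : F) * ((nGL c i)⁻¹ * nGL c j)⁻¹) *
        (nGL c i)⁻¹ := by
    group
  rw [hb, e2, e1] at e3
  have e4 := congrArg (fun g : GL D.Idx F => (g : Matrix D.Idx D.Idx F)) e3
  simp only [xGL_coe] at e4
  have hne : ((etaZ Ns j (D.simple j) : ℤ) : F) * 1 ≠ 0 := by
    rw [mul_one]
    exact eta_cast_ne_zero c j hj _ hpj
  have hroot := root_eq_of_x_eq c tc ac _ _ (DCert.neg_lt c _ hpj) (c.reflect_lt i hi _ hpj) _ _ hne e4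
  -- compare the coefficients on `p_j`
  have h1 := cf_reflect c ac i hi j hj (Ne.symm hij) (D.simple j) hpj
  rw [hroot] at h1
  have h2 : cf D ws j (D.neg (D.simple j)) = - cf D ws j (D.simple j) := grRoot_neg c tc _ _ hpj
  have h3 := ac.cf_simple j hj j hj
  rw [if_pos rfl] at h3
  have := ac.sc_pos
  omega

/-- `n_i B n_i ≠ B`: the element `n_i x_{p_i}(1) n_i` is not in `B`. -/
theorem nGL_conj_not_mem (c : DCert D Ns) (tc : TCert D) (ac : ACert D wl ws sc) {w : List ℤ} {d : ℕ}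
    (gc : GCert D w d) (i : ℕ) (hi : i < D.rank) :
    nGL c i * xGL c (D.simple i) (1 : F) * nGL c i ∉ D.borelSubgroup F := by
  intro h
  have hp := (c.ncert i hi).simple_lt
  have e1 := nGL_conj c i hi (D.simple i) hp (1 : F)
  rw [reflectRoot_simple] at e1
  have hmm : nGL c i * nGL c i ∈ D.borelSubgroup F := Subgroup.mem_sup_right (nGL_sq_mem (F := F) c i hi)
  have e2 : xGL c (D.neg (D.simple i)) (((etaZ Ns i (D.simple i) : ℤ) : F) * 1) =
      (nGL c i * xGL c (D.simple i) (1 : F) * nGL c i) * (nGL c i * nGL c i)⁻¹ := by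
    rw [← e1]; group
  have h1 : xGL c (D.neg (D.simple i)) (((etaZ Ns i (D.simple i) : ℤ) : F) * 1) ∈ D.borelSubgroup F := by
    rw [e2]
    exact Subgroup.mul_mem _ h (Subgroup.inv_mem _ hmm)
  have h2 := eq_zero_of_xGL_neg_mem_borel c tc ac gc _ (neg_isNeg c tc ac _ (tc.simple_pos i hi)) _ h1
  rw [mul_one] at h2
  exact eta_cast_ne_zero c i hi _ hp h2

end

/-! ### The (B, N)-pair -/

section

variable {wl : List ℤ} {ws : List (List ℤ)} {sc : ℤ}

theorem simpleN_le_monomial (c : DCert D Ns) : simpleN c F ≤ D.monomialSubgroup F := by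
  rw [monomial_eq c]
  exact le_sup_right

/-- The distinguished generators, in the Chevalley group. -/
def simpleSet (D : ChevalleyDatum) (F : Type*) [Field F] : Set ↥(D.group F) :=
  {n | ∃ i < D.rank, ((n : GL D.Idx F) : Matrix D.Idx D.Idx F) = D.nMat F (D.simple i) 1}

theorem mem_simpleSet_iff (c : DCert D Ns) (n : ↥(D.group F)) :
    n ∈ simpleSet D F ↔ ∃ i < D.rank, (n : GL D.Idx F) = nGL c i := by
  constructor
  · rintro ⟨i, hi, h⟩
    exact ⟨i, hi, Units.ext (by rw [h, nGL_coe])⟩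
  · rintro ⟨i, hi, h⟩
    exact ⟨i, hi, by rw [h, nGL_coe]⟩

theorem simpleN_lift (c : DCert D Ns) (m : GL D.Idx F) (hm : m ∈ simpleN c F) :
    ∀ hg : m ∈ D.group F, (⟨m, hg⟩ : ↥(D.group F)) ∈ Subgroup.closure (simpleSet D F) := by
  have hle : simpleN c F ≤ D.group F := le_trans (simpleN_le_monomial c) (monomial_le_group c)
  unfold simpleN at hm
  induction hm using Subgroup.closure_induction with
  | mem x hx =>
    intro hg
    obtain ⟨i, hi, rfl⟩ := hx
    exact Subgroup.subset_closure ((mem_simpleSet_iff c _).mpr ⟨i, hi, rfl⟩)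
  | one =>
    intro hg
    exact Subgroup.one_mem _
  | mul a b ha hb iha ihb =>
    intro hg
    have ha' : a ∈ D.group F := hle ha
    have hb' : b ∈ D.group F := hle hb
    have : (⟨a * b, hg⟩ : ↥(D.group F)) = ⟨a, ha'⟩ * ⟨b, hb'⟩ := rfl
    rw [this]
    exact Subgroup.mul_mem _ (iha ha') (ihb hb')
  | inv a ha iha =>
    intro hg
    have ha' : a ∈ D.group F := hle ha
    have : (⟨a⁻¹, hg⟩ : ↥(D.group F)) = (⟨a, ha'⟩ : ↥(D.group F))⁻¹ := rfl
    rw [this]
    exact Subgroup.inv_mem _ (iha ha')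

theorem doubleCoset_lift (c : DCert D Ns) (g a : ↥(D.group F))
    (h : (g : GL D.Idx F) ∈ DoubleCoset.doubleCoset (a : GL D.Idx F) (D.borelSubgroup F : Set (GL D.Idx F))
      (D.borelSubgroup F)) :
    g ∈ DoubleCoset.doubleCoset a (((D.borelSubgroup F).subgroupOf (D.group F) : Subgroup ↥(D.group F)) :
      Set ↥(D.group F)) ((D.borelSubgroup F).subgroupOf (D.group F)) := by
  rw [DoubleCoset.mem_doubleCoset] at h ⊢
  obtain ⟨x, hx, y, hy, hxy⟩ := h
  refine ⟨⟨x, borel_le_group c hx⟩, hx, ⟨y, borel_le_group c hy⟩, hy, ?_⟩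
  apply Subtype.ext
  exact hxy

/-- The (B, N)-pair of the Chevalley group (statement S1042). -/
theorem exists_bnPair (c : DCert D Ns) (tc : TCert D) (ac : ACert D wl ws sc) {w : List ℤ} {d : ℕ}
    (gc : GCert D w d) (hR2 : R2All D F) :
    ∃ P : Cfsg.BNPair ↥(D.group F),
      P.B = (D.borelSubgroup F).subgroupOf (D.group F) ∧
      P.N = (D.monomialSubgroup F).subgroupOf (D.group F) ∧
      P.S = {n : ↥(D.group F) | ∃ i < D.rank,
        ((n : GL D.Idx F) : Matrix D.Idx D.Idx F) = D.nMat F (D.simple i) 1} := by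
  refine ⟨{ B := (D.borelSubgroup F).subgroupOf (D.group F)
            N := (D.monomialSubgroup F).subgroupOf (D.group F)
            S := simpleSet D F
            sup_eq_top := ?_
            conj_mem := ?_
            subset := ?_
            sq_mem := ?_
            inj := ?_
            closure_sup := ?_
            mul_mem_union := ?_
            conj_ne := ?_ }, rfl, rfl, rfl⟩
  · rw [← Subgroup.subgroupOf_sup (borel_le_group c) (monomial_le_group c), borel_sup_monomial_eq_group c tc,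
      Subgroup.subgroupOf_self]
  · intro n hn t ht
    rw [Subgroup.mem_inf] at ht
    have hH : (t : GL D.Idx F) ∈ D.diagonalSubgroup F := by
      rw [← borel_inf_monomial c tc gc]
      exact Subgroup.mem_inf.mpr ⟨ht.1, ht.2⟩
    have h1 := monomial_le_normalizer_diagonal c tc (Subgroup.mem_subgroupOf.mp hn)
    have h2 := (Subgroup.mem_normalizer_iff.mp h1 _).mp hH
    exact Subgroup.mem_sup_right h2
  · intro s hs
    obtain ⟨i, hi, h⟩ := (mem_simpleSet_iff c s).mp hs
    show (s : GL D.Idx F) ∈ D.monomialSubgroup F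
    rw [h]
    exact nGL_mem_monomial c i hi
  · intro s hs
    obtain ⟨i, hi, h⟩ := (mem_simpleSet_iff c s).mp hs
    show ((s * s : ↥(D.group F)) : GL D.Idx F) ∈ D.borelSubgroup F
    rw [Subgroup.coe_mul, h]
    exact Subgroup.mem_sup_right (nGL_sq_mem c i hi)
  · intro s hs s' hs' hmem
    obtain ⟨i, hi, h⟩ := (mem_simpleSet_iff c s).mp hs
    obtain ⟨j, hj, h'⟩ := (mem_simpleSet_iff c s').mp hs'
    have h1 : ((s⁻¹ * s' : ↥(D.group F)) : GL D.Idx F) ∈ D.borelSubgroup F := hmem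
    rw [Subgroup.coe_mul, Subgroup.coe_inv, h, h'] at h1
    have hij := eq_of_nGL_inv_mul_mem c tc ac gc i j hi hj h1
    apply Subtype.ext
    rw [h, h', hij]
  · apply le_antisymm
    · apply sup_le
      · rw [Subgroup.closure_le]
        intro s hs
        obtain ⟨i, hi, h⟩ := (mem_simpleSet_iff c s).mp hs
        show (s : GL D.Idx F) ∈ D.monomialSubgroup F
        rw [h]
        exact nGL_mem_monomial c i hi
      · exact inf_le_right
    · intro x hx
      have hx' : (x : GL D.Idx F) ∈ D.diagonalSubgroup F ⊔ simpleN c F := by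
        rw [← monomial_eq c]
        exact hx
      have hnorm : simpleN c F ≤ Subgroup.normalizer (D.diagonalSubgroup F : Set (GL D.Idx F)) :=
        le_trans (simpleN_le_monomial c) (monomial_le_normalizer_diagonal c tc)
      obtain ⟨h, hh, m, hm, hxe⟩ := exists_mul_of_mem_sup _ _ hnorm hx'
      have hhG : h ∈ D.group F := diagonal_le_group c hh
      have hmG : m ∈ D.group F := monomial_le_group c (simpleN_le_monomial c hm)
      have e : x = (⟨h, hhG⟩ : ↥(D.group F)) * ⟨m, hmG⟩ := Subtype.ext hxe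
      rw [e]
      apply Subgroup.mul_mem
      · apply Subgroup.mem_sup_right
        rw [Subgroup.mem_inf]
        exact ⟨Subgroup.mem_sup_right hh, diagonal_le_monomial hh⟩
      · exact Subgroup.mem_sup_left (simpleN_lift c m hm hmG)
  · intro s hs n hn b hb
    obtain ⟨i, hi, h⟩ := (mem_simpleSet_iff c s).mp hs
    have key := nGL_mul_mem_union c tc ac hR2 i hi (n : GL D.Idx F) hn (b : GL D.Idx F) hb
    rcases key with key | key
    · left
      apply doubleCoset_lift c
      rw [Subgroup.coe_mul, Subgroup.coe_mul, Subgroup.coe_mul, h]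
      exact key
    · right
      apply doubleCoset_lift c
      rw [Subgroup.coe_mul, Subgroup.coe_mul, h]
      exact key
  · intro s hs heq
    obtain ⟨i, hi, h⟩ := (mem_simpleSet_iff c s).mp hs
    have hxG : xGL c (D.simple i) (1 : F) ∈ D.group F := xGL_mem_group c _ _
    have hxB : (⟨xGL c (D.simple i) (1 : F), hxG⟩ : ↥(D.group F)) ∈
        (((D.borelSubgroup F).subgroupOf (D.group F) : Subgroup ↥(D.group F)) : Set ↥(D.group F)) :=
      xGL_simple_mem_borel c tc i hi 1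
    have h1 : s * ⟨xGL c (D.simple i) (1 : F), hxG⟩ * s ∈
        (((D.borelSubgroup F).subgroupOf (D.group F) : Subgroup ↥(D.group F)) : Set ↥(D.group F)) := by
      rw [← heq]
      exact ⟨_, hxB, rfl⟩
    have h2 : ((s * ⟨xGL c (D.simple i) (1 : F), hxG⟩ * s : ↥(D.group F)) : GL D.Idx F) ∈ D.borelSubgroup F := h1
    rw [Subgroup.coe_mul, Subgroup.coe_mul, h] at h2
    exact nGL_conj_not_mem c tc ac gc i hi h2

end

end Cfsg.Agent.Lib.Helper18_ChevBNPair
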