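import Cfsg.Agent.Lib.Helper36_ChevW0

set_option autoImplicit false

/-!
The intersection of the conjugates of `B = UH` in a Chevalley group is trivial.
-/

namespace Cfsg.Agent.Lib.Helper36_ChevCore

open Cfsg Cfsg.Lie Cfsg.Agent.Lib.Helper36_ChevCoeff Cfsg.Agent.Lib.Helper36_ChevAdd
  Cfsg.Agent.Lib.Helper36_ChevWeyl Cfsg.Agent.Lib.Helper36_ChevGen Cfsg.Agent.Lib.Helper36_ChevHAll
  Cfsg.Agent.Lib.Helper36_ChevHConj Cfsg.Agent.Lib.Helper36_ChevTables Cfsg.Agent.Lib.Helper36_ChevTorus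
  Cfsg.Agent.Lib.Helper36_ChevTri Cfsg.Agent.Lib.Helper36_ChevBorel Cfsg.Agent.Lib.Helper36_ChevW0

variable (D : ChevalleyDatum)

theorem neg_lt_of_cartanAddOK (h : CartanAddOK D) (r : ℕ) (hr : r < D.nroots) : D.neg r < D.nroots := by
  obtain ⟨tbl, -, h2⟩ := h
  have := h2 r hr (Nat.zero_le _)
  unfold cartanAddCheck at this
  simp only [Bool.and_eq_true, decide_eq_true_eq] at this
  exact this.1.1

section
variable (F : Type*) [Field F]

/-- `x_r(c) = 1` only for `c = 0`. -/
theorem x_eq_one_imp (r : ℕ) (hr : r < D.nroots) (hn : D.neg r < D.nroots) (hne : D.neg r ≠ r) (c : F)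
    (h : D.x F r c = 1) : c = 0 := by
  unfold ChevalleyDatum.x at h
  rw [dif_pos hr] at h
  have e := congrFun (congrFun h (Sum.inr ⟨r, hr⟩)) (Sum.inr ⟨D.neg r, hn⟩)
  have hne' : (⟨D.neg r, hn⟩ : Fin D.nroots) ≠ ⟨r, hr⟩ := by
    intro hc
    exact hne (Fin.mk.inj hc)
  have hne'' : (⟨r, hr⟩ : Fin D.nroots) ≠ ⟨D.neg r, hn⟩ := fun hc => hne' hc.symm
  rw [Matrix.one_apply_ne (by intro hc; exact hne'' (Sum.inr.inj hc))] at e
  simp only [ChevalleyDatum.xMat, Matrix.of_apply] at e
  rw [if_neg hne', if_pos (by rfl), if_neg hne'', if_pos trivial] at e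
  simpa using e

/-- The monomial subgroup normalises the diagonal subgroup. -/
theorem monomial_le_normalizer (hf : Facts D F) :
    D.monomialSubgroup F ≤ Subgroup.normalizer (D.diagonalSubgroup F : Set (GL D.Idx F)) := by
  unfold ChevalleyDatum.monomialSubgroup
  apply sup_le Subgroup.le_normalizer
  rw [Subgroup.closure_le]
  rintro g ⟨r, hr, hg⟩
  rw [SetLike.mem_coe, Subgroup.mem_normalizer_iff]
  obtain ⟨-, hN⟩ := hf.goodN r hr
  have hginv : ((g⁻¹ : GL D.Idx F) : Matrix D.Idx D.Idx F) = D.nMat F r (-1) := by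
    have h1 : (g : Matrix D.Idx D.Idx F) * D.nMat F r (-1) = 1 := by
      rw [hg]
      exact nMat_mul_neg D hf.hlen hf.hadd F r 1
    calc ((g⁻¹ : GL D.Idx F) : Matrix D.Idx D.Idx F)
        = ((g⁻¹ : GL D.Idx F) : Matrix D.Idx D.Idx F) * ((g : Matrix D.Idx D.Idx F) * D.nMat F r (-1)) := by
          rw [h1, mul_one]
      _ = (((g⁻¹ : GL D.Idx F) : Matrix D.Idx D.Idx F) * (g : Matrix D.Idx D.Idx F)) * D.nMat F r (-1) := by
          rw [mul_assoc]
      _ = D.nMat F r (-1) := by rw [Units.inv_mul, one_mul]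
  intro h
  constructor
  · intro hh
    obtain ⟨u, rfl⟩ := (hf.mem_diag h).mp hh
    obtain ⟨u', hu'⟩ := hN 1 (Or.inl rfl) u
    rw [hf.mem_diag]
    refine ⟨u', ?_⟩
    rw [mul_inv_eq_iff_eq_mul]
    apply Units.ext
    rw [Units.val_mul, Units.val_mul, hg, torusGL_coe, torusGL_coe, hu']
  · intro hh
    obtain ⟨u, hu⟩ := (hf.mem_diag _).mp hh
    obtain ⟨u', hu'⟩ := hN (-1) (Or.inr rfl) u
    rw [hf.mem_diag]
    refine ⟨u', ?_⟩
    have e : h = g⁻¹ * torusGL D F (chi D F u) * g := by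
      rw [← hu]
      group
    rw [e]
    apply Units.ext
    rw [Units.val_mul, Units.val_mul, hginv, hg, torusGL_coe, torusGL_coe, hu', Matrix.mul_assoc]
    have := nMat_neg_mul D hf.hlen hf.hadd F r 1
    rw [this, Matrix.mul_one]

/-- An element all of whose conjugates under the group lie in `B` is trivial. -/
theorem core_trivial (hf : Facts D F) (hchain : ChainOK D) (tbl : List ℕ) (off M : ℕ) (hht : HtOK D tbl off M)
    (hc : AllConj D F) (rtbl : List (List ℕ)) (w0 : List ℕ) (hw : W0OK D rtbl w0) (k : GL D.Idx F)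
    (hk : ∀ b ∈ D.group F, b * k * b⁻¹ ∈ D.borelSubgroup F) : k = 1 := by
  obtain ⟨hU, hV, hH, hN⟩ := subgroups_le D F hf
  -- `k ∈ B`
  have hkB : k ∈ D.borelSubgroup F := by
    have := hk 1 (one_mem _)
    rwa [one_mul, inv_one, mul_one] at this
  -- `k ∈ V ⊔ H`
  set n := wordGL D F hf.hlen hf.hadd w0 with hn
  have hnN : n ∈ D.monomialSubgroup F := wordGL_mem_monomial D F hf.hlen hf.hadd hf.hsimple w0 hw.wlt
  have hmap : (D.posUnipotent F).map (MulAut.conj n).toMonoidHom = D.negUnipotent F :=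
    map_conj_pos D F hf.hlen hf.hadd hc hf.hrc rtbl w0 hw
  have hkVH : k ∈ D.negUnipotent F ⊔ D.diagonalSubgroup F := by
    have h1 := hk n⁻¹ (inv_mem (hN hnN))
    rw [inv_inv] at h1
    have h2 : (MulAut.conj n).toMonoidHom (n⁻¹ * k * n) ∈
        (D.borelSubgroup F).map (MulAut.conj n).toMonoidHom := Subgroup.mem_map_of_mem _ h1
    have e : (MulAut.conj n).toMonoidHom (n⁻¹ * k * n) = k := by
      show (MulAut.conj n) (n⁻¹ * k * n) = k
      rw [MulAut.conj_apply]
      group
    rw [e] at h2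
    unfold ChevalleyDatum.borelSubgroup at h2
    rw [Subgroup.map_sup, hmap] at h2
    have hle : (D.diagonalSubgroup F).map (MulAut.conj n).toMonoidHom ≤ D.diagonalSubgroup F := by
      rintro x ⟨y, hy, rfl⟩
      show (MulAut.conj n) y ∈ _
      rw [MulAut.conj_apply]
      exact (Subgroup.mem_normalizer_iff.mp (monomial_le_normalizer D F hf hnN) y).mp hy
    have hle2 : D.negUnipotent F ⊔ (D.diagonalSubgroup F).map (MulAut.conj n).toMonoidHom ≤
        D.negUnipotent F ⊔ D.diagonalSubgroup F := sup_le_sup_left hle _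
    exact hle2 h2
  -- `k ∈ H`
  have hkH : k ∈ D.diagonalSubgroup F := by
    have : k ∈ D.borelSubgroup F ⊓ (D.negUnipotent F ⊔ D.diagonalSubgroup F) := Subgroup.mem_inf.mpr ⟨hkB, hkVH⟩
    rwa [borel_inf_negBorel D F tbl off M hf hchain hht] at this
  obtain ⟨u, rfl⟩ := (hf.mem_diag k).mp hkH
  -- the character is trivial on the negative roots
  have hneg : ∀ r, D.IsNegRoot r → chi D F u r = 1 := by
    intro r hr
    have hr' := hr.1
    have hnl : D.neg r < D.nroots := neg_lt_of_cartanAddOK D hf.hca r hr'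
    have hraise := (hht.range r hr' (Nat.zero_le _)).2.1 hr
    have hne : D.neg r ≠ r := by
      intro hc
      have h1 := hraise.1
      have h2 := hraise.2.1
      rw [hc] at h2
      simp only at h1 h2
      omega
    set b := xGL D hf.hlen hf.hadd F r 1 with hb
    have hbG : b ∈ D.group F := xGL_mem_group D F hf.hlen hf.hadd r 1
    have h1 := hk b hbG
    have h2 : b * torusGL D F (chi D F u) * b⁻¹ * (torusGL D F (chi D F u))⁻¹ ∈ D.borelSubgroup F :=
      mul_mem h1 (inv_mem hkB)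
    have e : b * torusGL D F (chi D F u) * b⁻¹ * (torusGL D F (chi D F u))⁻¹ =
        xGL D hf.hlen hf.hadd F r (1 - (chi D F u r : F)) := by
      apply Units.ext
      have hbinv : ((b⁻¹ : GL D.Idx F) : Matrix D.Idx D.Idx F) = D.x F r (-1) :=
        inv_eq_x_neg D F hf.hlen hf.hadd b r 1 rfl
      rw [Units.val_mul, Units.val_mul, Units.val_mul, hbinv, torusGL_inv, torusGL_coe, torusGL_coe, xGL_coe,
        xGL_coe, Matrix.mul_assoc, Matrix.mul_assoc, ← Matrix.mul_assoc (D.charDiag F (chi D F u)),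
        torus_conj_x D F hf hchain u r hr', x_add D hf.hlen hf.hadd F]
      congr 1
      ring
    rw [e] at h2
    have h3 : xGL D hf.hlen hf.hadd F r (1 - (chi D F u r : F)) ∈ D.negUnipotent F :=
      Subgroup.subset_closure ⟨r, _, hr, rfl⟩
    have h4 : xGL D hf.hlen hf.hadd F r (1 - (chi D F u r : F)) ∈ D.borelSubgroup F ⊓ D.negUnipotent F :=
      Subgroup.mem_inf.mpr ⟨h2, h3⟩
    rw [borel_inf_neg D F tbl off M hf hchain hht, Subgroup.mem_bot] at h4
    have h5 : D.x F r (1 - (chi D F u r : F)) = 1 := by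
      rw [← xGL_coe D hf.hlen hf.hadd F, h4]
      rfl
    have h6 := x_eq_one_imp D F r hr' hnl hne _ h5
    apply Units.ext
    rw [Units.val_one]
    exact (sub_eq_zero.mp h6).symm
  -- hence on all roots
  have hall : ∀ r < D.nroots, chi D F u r = 1 := by
    intro r hr
    rcases (hht.range r hr (Nat.zero_le _)).2.2.1 with hp | hn'
    · have hnl : D.neg r < D.nroots := neg_lt_of_cartanAddOK D hf.hca r hr
      have hraise := (hht.range r hr (Nat.zero_le _)).1 hp
      have hnn : D.IsNegRoot (D.neg r) := by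
        rcases (hht.range (D.neg r) hnl (Nat.zero_le _)).2.2.1 with hp' | hn''
        · have h1 := ((hht.range (D.neg r) hnl (Nat.zero_le _)).1 hp').1
          have h2 := hraise.2.1
          omega
        · exact hn''
      have h1 := hneg _ hnn
      rw [(isRootCharacter_chi D F hf.hca u).1 r hr, inv_eq_one] at h1
      exact h1
    · exact hneg r hn'
  apply Units.ext
  rw [torusGL_coe, Units.val_one, charDiag_congr D F (chi D F u) 1 (fun s hs => by rw [hall s hs]; rfl)]
  exact charDiag_one D F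

end

end Cfsg.Agent.Lib.Helper36_ChevCore
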