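import Cfsg.Agent.Lib.Helper36_ChevPerf
import Cfsg.Prelude.Def_ChevB2

set_option autoImplicit false
set_option Elab.async false

/-! Type B2: for each root a fundamental coroot pairing with it to `±1` or `±2`, and a list of steps `(r, a, b)` in
which the commutator formula for `(a, b)` starts with the root element of `r`. Generated file. -/

namespace Cfsg.Agent.Lib.Helper36_ChevDataB2Perf

open Cfsg Cfsg.Lie Cfsg.Agent.Lib.Helper36_ChevPerf

/-- The fundamental coroots. -/
def tor : List ℕ :=
  [0, 1, 1, 0, 0, 1, 1, 0]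

/-- The steps. -/
def steps : List (ℕ × ℕ × ℕ) :=
  [(0, 1, 2), (1, 2, 3), (2, 1, 4), (3, 1, 5), (4, 2, 6), (5, 1, 7), (6, 2, 7), (7, 5, 6)]

theorem torOK : TorOK chevB2 tor := by decide +kernel

theorem perfOK : perfCheck chevB2 true steps = true := by decide +kernel

end Cfsg.Agent.Lib.Helper36_ChevDataB2Perf
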