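import Cfsg.Agent.Lib.Helper36_ChevPerf
import Cfsg.Prelude.Def_ChevD4

set_option autoImplicit false
set_option Elab.async false

/-! Type D4: for each root a fundamental coroot pairing with it to `±1` or `±2`, and a list of steps `(r, a, b)` in
which the commutator formula for `(a, b)` starts with the root element of `r`. Generated file. -/

namespace Cfsg.Agent.Lib.Helper36_ChevDataD4Perf

open Cfsg Cfsg.Lie Cfsg.Agent.Lib.Helper36_ChevPerf

/-- The fundamental coroots. -/
def tor : List ℕ :=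
  [1, 0, 0, 0, 0, 1, 0, 0, 0, 0, 1, 1, 1, 1, 0, 0, 0, 0, 1, 0, 0, 0, 0, 1]

/-- The steps. -/
def steps : List (ℕ × ℕ × ℕ) :=
  [(0, 1, 9), (1, 0, 14), (2, 0, 15), (3, 0, 16), (4, 0, 17), (5, 1, 17), (6, 0, 19), (7, 0, 20), (8, 0, 21), (9, 0, 22), (10, 1, 20), (11, 1, 21), (12, 2, 22), (13, 3, 22), (14, 1, 23), (15, 2, 23), (16, 3, 23), (17, 4, 23), (18, 6, 22), (19, 6, 23), (20, 7, 23), (21, 8, 23), (22, 9, 23), (23, 14, 22)]

theorem torOK : TorOK chevD4 tor := by decide +kernel

theorem perfOK : perfCheck chevD4 false steps = true := by decide +kernel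

end Cfsg.Agent.Lib.Helper36_ChevDataD4Perf
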