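import Cfsg.Agent.Lib.Helper36_ChevPerf
import Cfsg.Prelude.Def_ChevE6

set_option autoImplicit false
set_option Elab.async false

/-! Type E6: for each root a fundamental coroot pairing with it to `±1` or `±2`, and a list of steps `(r, a, b)` in
which the commutator formula for `(a, b)` starts with the root element of `r`. Generated file. -/

namespace Cfsg.Agent.Lib.Helper36_ChevDataE6Perf

open Cfsg Cfsg.Lie Cfsg.Agent.Lib.Helper36_ChevPerf

/-- The fundamental coroots. -/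
def tor : List ℕ :=
  [1, 1, 2, 2, 2, 0, 0, 0, 0, 0, 0, 0, 0, 0, 0, 2, 0, 0, 0, 0, 0, 0, 1, 1, 1, 3, 0, 0, 0, 0, 1, 1, 1, 3, 3, 4, 4, 3, 3, 1, 1, 1, 0, 0, 0, 0, 3, 1, 1, 1, 0, 0, 0, 0, 0, 0, 2, 0, 0, 0, 0, 0, 0, 0, 0, 0, 0, 2, 2, 2, 1, 1]

/-- The steps. -/
def steps : List (ℕ × ℕ × ℕ) :=
  [(0, 1, 25), (1, 0, 46), (2, 0, 47), (3, 0, 48), (4, 0, 49), (5, 0, 50), (6, 0, 51), (7, 0, 52), (8, 0, 53), (9, 0, 54), (10, 0, 55), (11, 1, 53), (12, 1, 54), (13, 1, 55), (14, 2, 55), (15, 5, 55), (16, 0, 61), (17, 0, 62), (18, 0, 63), (19, 0, 64), (20, 0, 65), (21, 0, 66), (22, 0, 67), (23, 0, 68), (24, 0, 69), (25, 0, 70), (26, 1, 64), (27, 1, 65), (28, 1, 66), (29, 2, 66), (30, 1, 67), (31, 1, 68), (32, 1, 69), (33, 2, 67), (34, 2, 68), (35, 3, 67), (36, 4, 68), (37, 3, 69), (38, 4, 69), (39, 2, 70), (40, 3, 70), (41, 4, 70), (42, 5, 69), (43, 5, 70), (44, 6, 70), (45, 7, 70), (46, 1, 71), (47, 2, 71), (48,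 3, 71), (49, 4, 71), (50, 5, 71), (51, 6, 71), (52, 7, 71), (53, 8, 71), (54, 9, 71), (55, 10, 71), (56, 16, 66), (57, 16, 69), (58, 16, 70), (59, 17, 70), (60, 18, 70), (61, 16, 71), (62, 17, 71), (63, 18, 71), (64, 19, 71), (65, 20, 71), (66, 21, 71), (67, 22, 71), (68, 23, 71), (69, 24, 71), (70, 25, 71), (71, 46, 70)]

theorem torOK : TorOK chevE6 tor := by decide +kernel

theorem perfOK : perfCheck chevE6 false steps = true := by decide +kernel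

end Cfsg.Agent.Lib.Helper36_ChevDataE6Perf
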