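import Cfsg.Agent.Lib.Helper36_ChevPerf
import Cfsg.Prelude.Def_ChevE7

set_option autoImplicit false
set_option Elab.async false

/-! Type E7: for each root a fundamental coroot pairing with it to `±1` or `±2`, and a list of steps `(r, a, b)` in
which the commutator formula for `(a, b)` starts with the root element of `r`. Generated file. -/

namespace Cfsg.Agent.Lib.Helper36_ChevDataE7Perf

open Cfsg Cfsg.Lie Cfsg.Agent.Lib.Helper36_ChevPerf

/-- The fundamental coroots. -/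
def tor : List ℕ :=
  [0, 0, 2, 1, 1, 1, 1, 1, 1, 1, 1, 2, 2, 2, 2, 2, 2, 0, 0, 0, 0, 0, 0, 0, 0, 0, 0, 0, 0, 0, 0, 0, 2, 0, 0, 0, 0, 0, 0, 0, 0, 0, 0, 1, 1, 1, 1, 3, 0, 0, 0, 0, 0, 1, 1, 1, 1, 3, 3, 3, 4, 4, 5, 5, 4, 4, 3, 3, 3, 1, 1, 1, 1, 0, 0, 0, 0, 0, 3, 1, 1, 1, 1, 0, 0, 0, 0, 0, 0, 0, 0, 0, 0, 2, 0, 0, 0, 0, 0, 0, 0, 0, 0, 0, 0, 0, 0, 0, 0, 2, 2, 2, 2, 2, 2, 1, 1, 1, 1, 1, 1, 1, 1, 2, 0, 0]

/-- The steps. -/
def steps : List (ℕ × ℕ × ℕ) :=
  [(0, 1, 32), (1, 0, 93), (2, 0, 94), (3, 0, 95), (4, 0, 96), (5, 0, 97), (6, 0, 98), (7, 0, 99), (8, 0, 100), (9, 0, 101), (10, 0, 102), (11, 0, 103), (12, 0, 104), (13, 0, 105), (14, 0, 106), (15, 0, 107), (16, 0, 108), (17, 0, 109), (18, 0, 110), (19, 0, 111), (20, 0, 112), (21, 0, 113), (22, 0, 114), (23, 0, 115), (24, 0, 116), (25, 0, 117), (26, 0, 118), (27, 0, 119), (28, 0, 120), (29, 0, 121), (30, 0, 122), (31, 0, 123), (32, 0, 124), (33, 1, 109), (34, 1, 110),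 (35, 1, 111), (36, 1, 112), (37, 1, 113), (38, 1, 114), (39, 1, 115), (40, 1, 116), (41, 1, 117), (42, 1, 118), (43, 2, 115), (44, 2, 116), (45, 2, 117), (46, 2, 118), (47, 3, 118), (48, 1, 119), (49, 1, 120), (50, 1, 121), (51, 1, 122), (52, 1, 123), (53, 2, 119), (54, 2, 120), (55, 2, 121), (56, 2, 122), (57, 3, 119), (58, 3, 120), (59, 3, 121), (60, 4, 119), (61, 4, 120), (62, 5, 119), (63, 6, 120), (64, 5, 121), (65, 6, 121), (66, 4, 122), (67, 5, 122), (68, 6, 122), (69, 3, 123), (70, 4, 123), (71, 5, 123), (72, 6, 123), (73, 2, 124), (74, 3, 124), (75, 4, 124), (76, 5, 124), (77, 6, 124), (78, 7, 122), (79, 7, 123), (80, 8, 123), (81, 9, 123), (82, 10, 123), (83, 7, 124), (84, 8, 124), (85, 9, 124), (86, 10, 124), (87, 11, 124), (88, 12, 124), (89, 13, 124), (90, 14, 124), (91, 15, 124), (92, 16, 124), (93, 1, 125), (94, 2, 125), (95, 3, 125), (96, 4, 125), (97, 5, 125), (98, 6, 125), (99, 7, 125), (100,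 8, 125), (101, 9, 125), (102, 10, 125), (103, 11, 125), (104, 12, 125), (105, 13, 125), (106, 14, 125), (107, 15, 125), (108, 16, 125), (109, 17, 125), (110, 18, 125), (111, 19, 125), (112, 20, 125), (113, 21, 125), (114, 22, 125), (115, 23, 125), (116, 24, 125), (117, 25, 125), (118, 26, 125), (119, 27, 125), (120, 28, 125), (121, 29, 125), (122, 30, 125), (123, 31, 125), (124, 32, 125), (125, 93, 124)]

theorem torOK : TorOK chevE7 tor := by decide +kernel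

theorem perfOK : perfCheck chevE7 false steps = true := by decide +kernel

end Cfsg.Agent.Lib.Helper36_ChevDataE7Perf
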