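import Cfsg.Agent.Lib.Helper36_ChevPerf
import Cfsg.Prelude.Def_ChevF4

set_option autoImplicit false
set_option Elab.async false

/-! Type F4: for each root a fundamental coroot pairing with it to `±1` or `±2`, and a list of steps `(r, a, b)` in
which the commutator formula for `(a, b)` starts with the root element of `r`. Generated file. -/

namespace Cfsg.Agent.Lib.Helper36_ChevDataF4Perf

open Cfsg Cfsg.Lie Cfsg.Agent.Lib.Helper36_ChevPerf

/-- The fundamental coroots. -/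
def tor : List ℕ :=
  [3, 2, 2, 0, 2, 2, 3, 0, 1, 1, 1, 0, 0, 0, 1, 2, 2, 3, 0, 0, 0, 2, 3, 2, 2, 3, 2, 0, 0, 0, 3, 2, 2, 1, 0, 0, 0, 1, 1, 1, 0, 3, 2, 2, 0, 2, 2, 3]

/-- The steps. -/
def steps : List (ℕ × ℕ × ℕ) :=
  [(0, 1, 23), (1, 0, 24), (2, 0, 26), (3, 7, 14), (4, 0, 31), (5, 0, 32), (6, 1, 32), (7, 3, 33), (8, 3, 34), (9, 3, 35), (10, 3, 36), (11, 3, 37), (12, 3, 38), (13, 3, 39), (14, 3, 40), (15, 0, 42), (16, 0, 43), (17, 1, 43), (18, 7, 37), (19, 7, 38), (20, 7, 39), (21, 0, 45), (22, 1, 45), (23, 0, 46), (24, 1, 47), (25, 2, 46), (26, 2, 47), (27, 8, 40), (28, 9, 40), (29, 10, 40), (30, 4, 46), (31, 4, 47), (32, 5, 47), (33, 7, 44), (34, 8, 44), (35, 9, 44), (36, 10, 44), (37, 11, 44), (38, 12, 44), (39, 13, 44), (40, 14, 44), (41, 15, 46), (42, 15, 47), (43, 16, 47), (44, 33, 40), (45, 21, 47), (46, 23, 47), (47, 24, 46)]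

theorem torOK : TorOK chevF4 tor := by decide +kernel

theorem perfOK : perfCheck chevF4 false steps = true := by decide +kernel

end Cfsg.Agent.Lib.Helper36_ChevDataF4Perf
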