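import Cfsg.Agent.Lib.Helper36_ChevDataG2Perf
import Cfsg.Agent.Lib.Helper36_ChevDataB2Perf
import Cfsg.Agent.Lib.Helper36_ChevDataD4Perf
import Cfsg.Agent.Lib.Helper36_ChevDataF4Perf
import Cfsg.Agent.Lib.Helper36_ChevDataE6Perf
import Cfsg.Agent.Lib.Helper36_ChevDataE7Perf
import Cfsg.Agent.Lib.Helper36_ChevDataE8Perf
import Cfsg.Agent.Lib.Helper36_ChevTorusAll

set_option autoImplicit false

/-! The Chevalley groups of the seven tabulated data are perfect (except `G₂`, `B₂` over the field with two elements),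
given the commutator formula. -/

namespace Cfsg.Agent.Lib.Helper36_ChevPerfAll

open Cfsg Cfsg.Lie Cfsg.Agent.Lib.Helper36_ChevCommU Cfsg.Agent.Lib.Helper36_ChevPerf
  Cfsg.Agent.Lib.Helper36_ChevTorusAll Cfsg.Agent.Lib.Helper36_ChevTables

theorem perfect_of_mem (D : ChevalleyDatum)
    (hD : D ∈ [chevG2, chevB2, chevD4, chevF4, chevE6, chevE7, chevE8]) (F : Type*) [Field F] (hcf : CFAll D F)
    (h2 : D = chevG2 ∨ D = chevB2 → ∃ a : F, a ≠ 0 ∧ a ≠ 1) : commutator ↥(D.group F) = ⊤ := by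
  have hD0 := hD
  simp only [List.mem_cons, List.not_mem_nil, or_false] at hD
  rcases hD with rfl | rfl | rfl | rfl | rfl | rfl | rfl
  · exact perfect_main chevG2 F (facts_of_mem _ hD0 F) (chainOK_of_mem _ hD0) hcf Cfsg.Agent.Lib.Helper36_ChevDataG2Perf.tor Cfsg.Agent.Lib.Helper36_ChevDataG2Perf.torOK true Cfsg.Agent.Lib.Helper36_ChevDataG2Perf.steps Cfsg.Agent.Lib.Helper36_ChevDataG2Perf.perfOK (fun _ => h2 (Or.inl rfl))
  · exact perfect_main chevB2 F (facts_of_mem _ hD0 F) (chainOK_of_mem _ hD0) hcf Cfsg.Agent.Lib.Helper36_ChevDataB2Perf.tor Cfsg.Agent.Lib.Helper36_ChevDataB2Perf.torOK true Cfsg.Agent.Lib.Helper36_ChevDataB2Perf.steps Cfsg.Agent.Lib.Helper36_ChevDataB2Perf.perfOK (fun _ => h2 (Or.inr rfl))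
  · exact perfect_main chevD4 F (facts_of_mem _ hD0 F) (chainOK_of_mem _ hD0) hcf Cfsg.Agent.Lib.Helper36_ChevDataD4Perf.tor Cfsg.Agent.Lib.Helper36_ChevDataD4Perf.torOK false Cfsg.Agent.Lib.Helper36_ChevDataD4Perf.steps Cfsg.Agent.Lib.Helper36_ChevDataD4Perf.perfOK (fun h => absurd h (by simp))
  · exact perfect_main chevF4 F (facts_of_mem _ hD0 F) (chainOK_of_mem _ hD0) hcf Cfsg.Agent.Lib.Helper36_ChevDataF4Perf.tor Cfsg.Agent.Lib.Helper36_ChevDataF4Perf.torOK false Cfsg.Agent.Lib.Helper36_ChevDataF4Perf.steps Cfsg.Agent.Lib.Helper36_ChevDataF4Perf.perfOK (fun h => absurd h (by simp))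
  · exact perfect_main chevE6 F (facts_of_mem _ hD0 F) (chainOK_of_mem _ hD0) hcf Cfsg.Agent.Lib.Helper36_ChevDataE6Perf.tor Cfsg.Agent.Lib.Helper36_ChevDataE6Perf.torOK false Cfsg.Agent.Lib.Helper36_ChevDataE6Perf.steps Cfsg.Agent.Lib.Helper36_ChevDataE6Perf.perfOK (fun h => absurd h (by simp))
  · exact perfect_main chevE7 F (facts_of_mem _ hD0 F) (chainOK_of_mem _ hD0) hcf Cfsg.Agent.Lib.Helper36_ChevDataE7Perf.tor Cfsg.Agent.Lib.Helper36_ChevDataE7Perf.torOK false Cfsg.Agent.Lib.Helper36_ChevDataE7Perf.steps Cfsg.Agent.Lib.Helper36_ChevDataE7Perf.perfOK (fun h => absurd h (by simp))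
  · exact perfect_main chevE8 F (facts_of_mem _ hD0 F) (chainOK_of_mem _ hD0) hcf Cfsg.Agent.Lib.Helper36_ChevDataE8Perf.tor Cfsg.Agent.Lib.Helper36_ChevDataE8Perf.torOK false Cfsg.Agent.Lib.Helper36_ChevDataE8Perf.steps Cfsg.Agent.Lib.Helper36_ChevDataE8Perf.perfOK (fun h => absurd h (by simp))

end Cfsg.Agent.Lib.Helper36_ChevPerfAll
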