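import Cfsg.Agent.Lib.Helper36_ChevSimple
import Cfsg.Agent.Lib.Helper36_ChevW0All
import Cfsg.Agent.Lib.Helper36_ChevDataG2Irr
import Cfsg.Agent.Lib.Helper36_ChevDataB2Irr
import Cfsg.Agent.Lib.Helper36_ChevDataD4Irr
import Cfsg.Agent.Lib.Helper36_ChevDataF4Irr
import Cfsg.Agent.Lib.Helper36_ChevDataE6Irr
import Cfsg.Agent.Lib.Helper36_ChevDataE7Irr
import Cfsg.Agent.Lib.Helper36_ChevDataE8Irr
import Cfsg.Agent.S0319
import Cfsg.Agent.S1042
import Cfsg.Agent.S1050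
import Cfsg.Agent.S1051
import Cfsg.Agent.S1052

set_option autoImplicit false

/-! Simplicity of the seven tabulated Chevalley groups: the hypotheses of the simplicity criterion for `(B, N)`-pairs
are the statements on the `(B, N)`-pair, on the solvability of `B`, on the core of `B` and on the commutator
subgroup, plus the irreducibility certificate. -/

namespace Cfsg.Agent.Lib.Helper36_ChevSimpleAll

open Cfsg Cfsg.Lie Cfsg.Agent.Lib.Helper36_ChevTorus Cfsg.Agent.Lib.Helper36_ChevTorusAll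
  Cfsg.Agent.Lib.Helper36_ChevW0 Cfsg.Agent.Lib.Helper36_ChevW0All Cfsg.Agent.Lib.Helper36_ChevBorelAll
  Cfsg.Agent.Lib.Helper36_ChevTables Cfsg.Agent.Lib.Helper36_ChevIrr Cfsg.Agent.Lib.Helper36_ChevSimple

theorem irrOK_of_mem (D : ChevalleyDatum)
    (hD : D ∈ [chevG2, chevB2, chevD4, chevF4, chevE6, chevE7, chevE8]) :
    ∃ (rtbl : List (List ℕ)) (es : List (ℕ × ℕ × ℕ × ℕ)),
      (∀ i < D.rank, ReflTblRange D rtbl i 0 D.nroots) ∧ IrrOK D rtbl es ∧ 0 < D.rank := by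
  simp only [List.mem_cons, List.not_mem_nil, or_false] at hD
  rcases hD with rfl | rfl | rfl | rfl | rfl | rfl | rfl
  · exact ⟨_, _, Cfsg.Agent.Lib.Helper36_ChevDataG2W0.w0OK.tblOK, Cfsg.Agent.Lib.Helper36_ChevDataG2Irr.irrOK,
      by decide⟩
  · exact ⟨_, _, Cfsg.Agent.Lib.Helper36_ChevDataB2W0.w0OK.tblOK, Cfsg.Agent.Lib.Helper36_ChevDataB2Irr.irrOK,
      by decide⟩
  · exact ⟨_, _, Cfsg.Agent.Lib.Helper36_ChevDataD4W0.w0OK.tblOK, Cfsg.Agent.Lib.Helper36_ChevDataD4Irr.irrOK,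
      by decide⟩
  · exact ⟨_, _, Cfsg.Agent.Lib.Helper36_ChevDataF4W0.w0OK.tblOK, Cfsg.Agent.Lib.Helper36_ChevDataF4Irr.irrOK,
      by decide⟩
  · exact ⟨_, _, Cfsg.Agent.Lib.Helper36_ChevDataE6W0.w0OK.tblOK, Cfsg.Agent.Lib.Helper36_ChevDataE6Irr.irrOK,
      by decide⟩
  · exact ⟨_, _, Cfsg.Agent.Lib.Helper36_ChevDataE7W0.w0OK.tblOK, Cfsg.Agent.Lib.Helper36_ChevDataE7Irr.irrOK,
      by decide⟩
  · exact ⟨_, _, Cfsg.Agent.Lib.Helper36_ChevDataE8W0.w0OK.tblOK, Cfsg.Agent.Lib.Helper36_ChevDataE8Irr.irrOK,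
      by decide⟩

/-- The Chevalley groups of the seven types are simple and not commutative, except possibly `G₂` and `B₂` over the
field with two elements. -/
theorem simple_of_mem {F : Type*} [Field F] (D : ChevalleyDatum)
    (hD : D ∈ [chevG2, chevB2, chevD4, chevF4, chevE6, chevE7, chevE8])
    (h2 : D = chevG2 ∨ D = chevB2 → ∃ a : F, a ≠ 0 ∧ a ≠ 1) :
    IsSimpleGroup ↥(D.group F) ∧ ¬ IsMulCommutative ↥(D.group F) := by
  have hf := facts_of_mem D hD F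
  obtain ⟨tbl, off, M, hht⟩ := htOK_of_mem D hD
  obtain ⟨rtbl, es, htbl, hes, hrank⟩ := irrOK_of_mem D hD
  obtain ⟨P, hB, -, hS⟩ := Cfsg.Agent.S1042.result (F := F) D hD
  exact simple_main D F hf (chainOK_of_mem D hD) tbl off M hht (allConj_of_mem D hD F) rtbl htbl es hes hrank
    P hB hS (Cfsg.Agent.S1050.result D hD) (Cfsg.Agent.S1052.result D hD h2) (Cfsg.Agent.S1051.result D hD)
    (fun hnt P hirr hsolv hperf hcore => @Cfsg.Agent.S0319.result _ _ hnt P hirr hsolv hperf hcore)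

end Cfsg.Agent.Lib.Helper36_ChevSimpleAll
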