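import Mathlib
import Cfsg.Agent.Lib.Helper81_StMain
import Cfsg.Agent.S1054
import Cfsg.Agent.Lib.Helper45_D4Lift
import Cfsg.Agent.Lib.Helper45_D4Orth
import Cfsg.Agent.Lib.Helper31_D4_ABSTRACT

/-!
# `D₄(F) ≃* PΩ₈⁺(F)` over every field (assembly of helper45's S1082 packages)

Non-explicit form: Steinberg's presentation `θ : St(D₄,F) ↠ D₄(F)` with central kernel
(`Helper81_StMain.exists_hom_ker_eq_center`), `D₄(F)` simple non-abelian (`S1054`), the lift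
`φ : St(D₄,F) ↠ E₄(F) = Ω₈⁺(F)` (`Helper45_D4Lift.phi`, `Helper45_D4Orth.Omega_eq_E`) and the abstract
lemma `Helper31_D4_ABSTRACT.ABSTRACT`.
-/

set_option autoImplicit false

namespace Cfsg.Agent.Lib.Helper14_D4Iso

open Cfsg

/-- Equal subgroups have isomorphic central quotients. -/
theorem nonempty_quot_center_congr {G : Type*} [Group G] (H K : Subgroup G) (h : H = K) :
    Nonempty (↥H ⧸ Subgroup.center ↥H ≃* ↥K ⧸ Subgroup.center ↥K) := by
  subst h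
  exact ⟨MulEquiv.refl _⟩

/-- **S1082**: `D₄(F) ≃* PΩ₈⁺(F)` over every field. -/
theorem d4_iso {F : Type*} [Field F] :
    Nonempty (↥(Cfsg.Lie.chevD4.group F) ≃* Cfsg.POmega F (Cfsg.quadFormPlus 4 F)) := by
  obtain ⟨θ, hθ, hker, -⟩ :=
    Cfsg.Agent.Lib.Helper81_StMain.exists_hom_ker_eq_center (F := F) Cfsg.Lie.chevD4 (by simp)
  obtain ⟨hs, hnc⟩ := Cfsg.Agent.S1054.result (F := F) Cfsg.Lie.chevD4 (by simp)
  have := hs
  have hG : ∃ x y : ↥(Cfsg.Lie.chevD4.group F), x * y ≠ y * x := by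
    by_contra h
    push Not at h
    exact hnc ⟨⟨h⟩⟩
  obtain ⟨e⟩ := Cfsg.Agent.Lib.Helper31_D4_ABSTRACT.ABSTRACT hG θ hθ hker
    (Cfsg.Agent.Lib.Helper45_D4Lift.phi F) Cfsg.Agent.Lib.Helper45_D4Lift.phi_surjective
    (Cfsg.Agent.Lib.Helper45_D4Orth.E_not_comm (m := 4) (F := F) (by norm_num))
  obtain ⟨e'⟩ := nonempty_quot_center_congr (Cfsg.Agent.Lib.Helper45_D4Defs.E 4 F)
    (Cfsg.Omega F (Cfsg.quadFormPlus 4 F))
    (Cfsg.Agent.Lib.Helper45_D4Orth.Omega_eq_E (m := 4) (F := F) (by norm_num)).symm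
  exact ⟨e.trans e'⟩

end Cfsg.Agent.Lib.Helper14_D4Iso
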