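import Mathlib
import Cfsg.Agent.Lib.Helper44_OrthOddCent
import Cfsg.Agent.Lib.Helper44_OrthOddMain

/-!
# Field automorphisms of prime order of `Ω_{2m+1}(q)`: centralizer and class splitting (helper44)

The statement of S2714, modulo `Aut(PΩ_{2m+1}(q)) = PΓO_{2m+1}(q)` (S2694).
-/

set_option autoImplicit false
set_option linter.unusedSectionVars false
set_option linter.unusedVariables false

namespace Cfsg.Agent.Lib.Helper44_OrthOddCentMain

open Cfsg Matrix Cfsg.Agent.Lib.Helper44_Orth Cfsg.Agent.Lib.Helper14_AutOmega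
  Cfsg.Agent.Lib.Helper44_H90i Cfsg.Agent.Lib.Helper44_H90 Cfsg.Agent.Lib.Helper44_OrthField
  Cfsg.Agent.Lib.Helper44_FixField Cfsg.Agent.Lib.Helper44_OrthLang
  Cfsg.Agent.Lib.Helper44_OrthFaith Cfsg.Agent.Lib.Helper14_CentOmega
  Cfsg.Agent.Lib.Helper44_OrthCoset Cfsg.Agent.Lib.Helper44_OrthOddLang
  Cfsg.Agent.Lib.Helper44_StdForms Cfsg.Agent.Lib.Helper44_OrthBase
  Cfsg.Agent.Lib.Helper44_OrthOddCent Cfsg.Agent.Lib.Helper44_OrthOddMain
  Cfsg.Agent.Lib.Helper44_SqExt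

open Cfsg.Agent.Lib.Helper44_PSLnFieldCent (splitClassCount_conj centConjEquiv)

variable {F : Type*} [Field F] [Fintype F]

theorem compat_qfOdd {F₀ : Type*} [Field F₀] (j : F₀ →+* F) (m : ℕ) :
    Compat j (qfOdd m F₀) (qfOdd m F) := by
  intro v
  have h1 := congrFun (coe_qfOdd m F) (vmap j v)
  have h2 := congrFun (coe_qfOdd m F₀) v
  rw [h1, h2]
  simp only [Cfsg.quadFormOdd, vmap_apply, map_add, map_pow, map_sum, map_mul]

/-- the statement for functions equal to the odd-dimensional standard forms -/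
theorem field_cent_odd_aux {p f : ℕ} [hp : Fact p.Prime] (hF : Fintype.card F = p ^ f)
    (h2 : (2 : F) ≠ 0) {m : ℕ} (hm : 2 ≤ m) (Qf : (I m → F) → F) (hQf : Qf = ⇑(qfOdd m F))
    (hAut : gammaPOmega F Qf = ⊤) (x : MulAut (POmega F Qf)) (hx : IsFieldAutClassPOmega Qf x)
    {r : ℕ} (hr : r.Prime) (hxr : orderOf x = r) (F₀ : Type*) [Field F₀] [Fintype F₀]
    (hF₀ : Fintype.card F₀ = p ^ (f / r)) (Qf₀ : (I m → F₀) → F₀) (hQf₀ : Qf₀ = ⇑(qfOdd m F₀)) :
    r ∣ f ∧ Nonempty (↥((Phi Qf).range ⊓ Subgroup.centralizer {x}) ≃* ↥((Phi Qf₀).range)) ∧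
      (Odd r → splitClassCount (Phi Qf).range (Inn (POmega F Qf)) x = 1) ∧
      (r = 2 → splitClassCount (Phi Qf).range (Inn (POmega F Qf)) x = 2) := by
  subst hQf hQf₀
  have hn : 5 ≤ Fintype.card (I m) := by
    rw [Fintype.card_sum, Fintype.card_sum, Fintype.card_fin, Fintype.card_unit]
    omega
  have hoddι : Odd (Fintype.card (I m)) := by
    rw [Fintype.card_sum, Fintype.card_sum, Fintype.card_fin, Fintype.card_unit]
    exact ⟨m, by ring⟩
  have hQ := Cfsg.Agent.Lib.Helper14_POmegaSimple.nondegenerate_qfOdd h2 m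
  have hall : ∀ σ : F ≃+* F, SigInv (⇑(qfOdd m F)) σ := sigInv_qfOdd m
  have htop := stdAut_eq_top (⇑(qfOdd m F)) hall hAut
  have hN : (Phi (⇑(qfOdd m F))).range.Normal := Phi_range_normal_of_top _ htop
  obtain ⟨α, φ, σ, hσ, hstd, hαx⟩ := hx
  set σ' : ↥(invSub (⇑(qfOdd m F))) := ⟨σ, hall σ⟩ with hσ'
  have hφ : φ = fieldO (⇑(qfOdd m F)) σ' := (isFieldAut_iff _ σ' φ).mp hstd
  have hx' : α * x * α⁻¹ = fieldO (⇑(qfOdd m F)) σ' := by rw [hαx, hφ]
  have hord : orderOf σ = r := by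
    have h1 := orderOf_fieldO (qfOdd m F) hQ hn (faithData_qfOdd hm) σ'
    rw [← hx', ← MulAut.conj_apply, MulEquiv.orderOf_eq, hxr] at h1
    exact h1.symm
  obtain ⟨hrf, -⟩ := card_fixField σ hF hord
  obtain ⟨j, hj⟩ := exists_embedding σ hF hord F₀ hF₀
  have hι : ∀ a : F, σ'.1 a = a ↔ a ∈ Set.range j := hj
  have hc := compat_qfOdd (F := F) j m
  have h2₀ : (2 : F₀) ≠ 0 := by
    intro h0
    apply h2
    have h4 : j 2 = 2 := map_ofNat j 2
    rw [← h4, h0, map_zero]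
  have hQ₀ := Cfsg.Agent.Lib.Helper14_POmegaSimple.nondegenerate_qfOdd h2₀ m
  have hcard : Fintype.card F = Fintype.card F₀ ^ r := by
    rw [hF, hF₀, ← pow_mul, Nat.div_mul_cancel hrf]
  have hchar : ringChar F ≠ 2 := Cfsg.Agent.Lib.Helper44_FinSq.ringChar_ne_two_of_two_ne_zero h2
  refine ⟨hrf, ?_, ?_, ?_⟩
  · obtain ⟨e⟩ := nonempty_centEquiv_o hc σ' hι h2 hQ h2₀ hQ₀ hn hoddι
    have e1 := centConjEquiv (Phi (⇑(qfOdd m F))).range α x
    rw [hx'] at e1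
    exact ⟨e1.trans e⟩
  · intro hro
    rw [← splitClassCount_conj (Phi (⇑(qfOdd m F))).range _ α x, hx']
    exact split_one hc σ' hι h2 hQ h2₀ hQ₀ hn hoddι
      (fun a ha => not_isSquare_map_of_odd j hchar hro hcard ha)
  · intro hr2
    subst hr2
    rw [← splitClassCount_conj (Phi (⇑(qfOdd m F))).range _ α x, hx']
    exact split_two hc σ' hι h2 hQ h2₀ hQ₀ hn hoddι
      (fun a => isSquare_map_of_card_sq j hchar hcard a)

/-- **S2714 modulo S2694** -/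
theorem field_cent_odd {p f : ℕ} [Fact p.Prime] (hF : Fintype.card F = p ^ f) (hf : 1 ≤ f)
    (hodd : Odd (Fintype.card F)) {m : ℕ} (hm : 3 ≤ m)
    (hAut : gammaPOmega F (quadFormOdd m F) = ⊤)
    (x : MulAut (POmega F (quadFormOdd m F)))
    (hx : IsFieldAutClassPOmega (quadFormOdd m F) x) {r : ℕ} (hr : r.Prime) (hxr : orderOf x = r)
    (F₀ : Type*) [Field F₀] [Fintype F₀] (hF₀ : Fintype.card F₀ = p ^ (f / r)) :
    r ∣ f ∧
      Nonempty (↥(inndiagPOmegaOdd m F ⊓ Subgroup.centralizer {x}) ≃* ↥(inndiagPOmegaOdd m F₀)) ∧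
      (Odd r → splitClassCount (inndiagPOmegaOdd m F) (Inn (POmega F (quadFormOdd m F))) x = 1) ∧
      (r = 2 → splitClassCount (inndiagPOmegaOdd m F) (Inn (POmega F (quadFormOdd m F))) x = 2) := by
  have h2 : (2 : F) ≠ 0 := Cfsg.Agent.Lib.Helper44_FinSq.two_ne_zero_of_odd_card hodd
  have hD : inndiagPOmegaOdd m F = (Phi (quadFormOdd m F)).range := pgoAut_eq (quadFormOdd m F)
  have hD₀ : inndiagPOmegaOdd m F₀ = (Phi (quadFormOdd m F₀)).range := pgoAut_eq (quadFormOdd m F₀)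
  rw [hD, hD₀]
  exact field_cent_odd_aux hF h2 (by omega) (quadFormOdd m F) (coe_qfOdd m F).symm hAut x hx hr hxr
    F₀ hF₀ (quadFormOdd m F₀) (coe_qfOdd m F₀).symm

end Cfsg.Agent.Lib.Helper44_OrthOddCentMain
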