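import Mathlib
import Cfsg.Agent.Lib.Helper44_BalanceGen
import Cfsg.Agent.Lib.Helper44_OrthOddOut
import Cfsg.Agent.Lib.Helper44_OrthOddCentMain
import Cfsg.Agent.Lib.Helper14_POmegaSimple

/-!
# Local balance for field automorphisms of `Ω_{2m+1}(q)` (helper44)

The `p'`-core of `C_A(x)` for `x` an automorphism of prime order `p` of `PΩ_{2m+1}(F)` which is
not induced by a similarity.
-/

set_option autoImplicit false
set_option linter.unusedSectionVars false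
set_option linter.unusedVariables false
set_option linter.unusedSimpArgs false

namespace Cfsg.Agent.Lib.Helper44_OrthBalance

open Cfsg Matrix Cfsg.Agent.Lib.Helper44_Orth Cfsg.Agent.Lib.Helper14_AutOmega
  Cfsg.Agent.Lib.Helper44_H90i Cfsg.Agent.Lib.Helper44_H90 Cfsg.Agent.Lib.Helper44_OrthField
  Cfsg.Agent.Lib.Helper44_FixField Cfsg.Agent.Lib.Helper44_OrthLang
  Cfsg.Agent.Lib.Helper44_OrthFaith Cfsg.Agent.Lib.Helper14_CentOmega
  Cfsg.Agent.Lib.Helper44_OrthCoset Cfsg.Agent.Lib.Helper44_OrthOddLang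
  Cfsg.Agent.Lib.Helper44_StdForms Cfsg.Agent.Lib.Helper44_OrthBase
  Cfsg.Agent.Lib.Helper44_OrthOddCent Cfsg.Agent.Lib.Helper44_OrthOddMain
  Cfsg.Agent.Lib.Helper14_OmegaIndex Cfsg.Agent.Lib.Helper44_Refl Cfsg.Agent.Lib.Helper44_Spinor
  Cfsg.Agent.Lib.Helper44_BalanceGen

/-! ### automorphisms of a finite field -/

section field

variable {F : Type*} [Field F]

theorem hι_fix (σ : F ≃+* F) (a : F) : σ a = a ↔ a ∈ Set.range (fixField σ).subtype := by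
  rw [← mem_fixField]
  constructor
  · intro hx
    exact ⟨⟨a, hx⟩, rfl⟩
  · rintro ⟨y, rfl⟩
    exact y.2

/-- the automorphism group of a finite field is commutative -/
theorem ringAut_comm [Fintype F] (σ τ : F ≃+* F) : σ * τ = τ * σ := by
  obtain ⟨p, hp⟩ := CharP.exists F
  have : Fact p.Prime := ⟨CharP.char_is_prime F p⟩
  obtain ⟨n, -, hF⟩ := FiniteField.card F p
  obtain ⟨e⟩ := Cfsg.Agent.Lib.Helper42_AutPSL2.ringAut_mulEquiv (F := F) (p := p) (f := n) hF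
  apply e.injective
  rw [map_mul, map_mul, mul_comm]

/-- Galois: an automorphism fixing the fixed field of `σ` pointwise is a power of `σ` -/
theorem mem_zpowers_of_fixes [Finite F] (σ τ : F ≃+* F) (h : ∀ a : F, σ a = a → τ a = a) :
    τ ∈ Subgroup.zpowers σ := by
  classical
  have : Finite (F ≃+* F) :=
    Finite.of_injective (fun τ : F ≃+* F => (τ : F → F)) DFunLike.coe_injective
  let f : F →ₐ[FixedPoints.subfield (Subgroup.zpowers σ) F] F :=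
    { (τ : F →+* F) with
      commutes' := fun a => h a.1 ((mem_fixField σ a.1).mp a.2) }
  obtain ⟨g, hg⟩ := (FixedPoints.toAlgHom_bijective (Subgroup.zpowers σ) F).2 f
  have h1 : τ = g.1 := by
    ext a
    have := DFunLike.congr_fun hg a
    exact this.symm
  rw [h1]
  exact g.2

/-- an automorphism commuting with `σ` restricts to the fixed field of `σ` -/
theorem exists_restrict [Finite F] (σ τ : F ≃+* F) (hcomm : σ * τ = τ * σ) :
    ∃ τ₀ : ↥(fixField σ) ≃+* ↥(fixField σ), ∀ a, (fixField σ).subtype (τ₀ a) =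
      τ ((fixField σ).subtype a) := by
  have hmem : ∀ a : ↥(fixField σ), τ a.1 ∈ fixField σ := by
    intro a
    rw [mem_fixField]
    have h1 : σ a.1 = a.1 := (mem_fixField σ a.1).mp a.2
    have h2 := DFunLike.congr_fun hcomm a.1
    rw [RingAut.mul_apply, RingAut.mul_apply, h1] at h2
    exact h2
  let f : ↥(fixField σ) →+* ↥(fixField σ) :=
    ((τ : F →+* F).comp (fixField σ).subtype).codRestrict (fixField σ) hmem
  have hfin : Finite ↥(fixField σ) := Subtype.finite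
  have hbij : Function.Bijective f :=
    ⟨f.injective, Finite.surjective_of_injective f.injective⟩
  exact ⟨RingEquiv.ofBijective f hbij, fun a => rfl⟩

end field

/-! ### commuting reflections -/

section refl

variable {ι : Type} [Fintype ι] [DecidableEq ι] {F : Type*} [Field F]

theorem reflectionMatrix_comm (Q : QuadraticForm F (ι → F)) {a b : ι → F}
    (hab : QuadraticMap.polar (⇑Q) a b = 0) :
    Cfsg.reflectionMatrix (⇑Q) a * Cfsg.reflectionMatrix (⇑Q) b =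
      Cfsg.reflectionMatrix (⇑Q) b * Cfsg.reflectionMatrix (⇑Q) a := by
  have hba : QuadraticMap.polar (⇑Q) b a = 0 := by rw [QuadraticMap.polar_comm]; exact hab
  apply matrix_ext_mulVec
  intro x
  rw [← Matrix.mulVec_mulVec, ← Matrix.mulVec_mulVec,
    reflectionMatrix_mulVec Q a (Cfsg.reflectionMatrix (⇑Q) b *ᵥ x),
    reflectionMatrix_mulVec Q b (Cfsg.reflectionMatrix (⇑Q) a *ᵥ x),
    reflectionMatrix_mulVec Q b x, reflectionMatrix_mulVec Q a x,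
    QuadraticMap.polar_sub_right, QuadraticMap.polar_smul_right, QuadraticMap.polar_sub_right,
    QuadraticMap.polar_smul_right, hab, hba]
  funext i
  simp only [Pi.sub_apply, Pi.smul_apply, smul_eq_mul, mul_zero, sub_zero]
  ring

variable [Fintype F]

/-- an involution in `Ω(Q)` from two orthogonal vectors of square norm -/
theorem exists_involution (h2 : (2 : F) ≠ 0) (Q : QuadraticForm F (ι → F))
    (hQ : (QuadraticMap.polarBilin Q).Nondegenerate) {a b : ι → F} (ha : Q a ≠ 0) (hb : Q b ≠ 0)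
    (hsa : IsSquare (Q a)) (hsb : IsSquare (Q b)) (hab : QuadraticMap.polar (⇑Q) a b = 0) :
    ∃ t : ↥(Omega F (⇑Q)), t ≠ 1 ∧ t * t = 1 := by
  have hcomm : refl Q a ha * refl Q b hb = refl Q b hb * refl Q a ha := by
    apply Subtype.ext
    apply Units.ext
    exact reflectionMatrix_comm Q hab
  have hmem : refl Q a ha * refl Q b hb ∈ Omega F (⇑Q) := by
    rw [omega_eq_inf h2 Q hQ, Subgroup.mem_inf, MonoidHom.mem_ker]
    refine ⟨(Cfsg.Agent.S0787.pair Q a b ha hb).2, ?_⟩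
    rw [map_mul, (theta_refl Q h2 a ha).1 hsa, (theta_refl Q h2 b hb).1 hsb]
    rfl
  refine ⟨⟨refl Q a ha * refl Q b hb, hmem⟩, ?_, ?_⟩
  · intro h
    have h1 : refl Q a ha * refl Q b hb = 1 := congrArg Subtype.val h
    have h3 : ((refl Q a ha * refl Q b hb : ↥(isometryGroup F (⇑Q))) : GL ι F).1 *ᵥ a = a := by
      rw [h1]
      show (1 : Matrix ι ι F) *ᵥ a = a
      rw [Matrix.one_mulVec]
    have h4 : ((refl Q a ha * refl Q b hb : ↥(isometryGroup F (⇑Q))) : GL ι F).1 =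
        Cfsg.reflectionMatrix (⇑Q) a * Cfsg.reflectionMatrix (⇑Q) b := rfl
    have hba : QuadraticMap.polar (⇑Q) b a = 0 := by rw [QuadraticMap.polar_comm]; exact hab
    rw [h4, ← Matrix.mulVec_mulVec, reflectionMatrix_mulVec Q b a, hba, mul_zero, zero_smul,
      sub_zero, reflection_self Q a ha] at h3
    have h5 : (2 : F) • a = 0 := by
      rw [two_smul]
      nth_rewrite 1 [← h3]
      exact neg_add_cancel a
    rcases smul_eq_zero.mp h5 with h6 | h6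
    · exact h2 h6
    · apply ha
      rw [h6, map_zero]
  · apply Subtype.ext
    show refl Q a ha * refl Q b hb * (refl Q a ha * refl Q b hb) = 1
    calc refl Q a ha * refl Q b hb * (refl Q a ha * refl Q b hb)
        = refl Q a ha * (refl Q b hb * refl Q a ha) * refl Q b hb := by group
      _ = refl Q a ha * (refl Q a ha * refl Q b hb) * refl Q b hb := by rw [hcomm]
      _ = (refl Q a ha * refl Q a ha) * (refl Q b hb * refl Q b hb) := by group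
      _ = 1 := by rw [refl_mul_self, refl_mul_self, one_mul]

end refl

/-! ### the subfield subgroup `Ω(Q₀)` acting on `PΩ(Q)` -/

section basechange

variable {ι : Type} [Fintype ι] [DecidableEq ι] {F₀ F : Type*} [Field F₀] [Field F] [Fintype F₀]
  [Fintype F] {j : F₀ →+* F} {Q₀ : QuadraticForm F₀ (ι → F₀)} {Q : QuadraticForm F (ι → F)}
  (hc : Compat j Q₀ Q) (σ : ↥(invSub (⇑Q))) (hι : ∀ a : F, σ.1 a = a ↔ a ∈ Set.range j)

theorem mapIsom_mem_omega (t : ↥(Omega F₀ (⇑Q₀))) : mapIsom hc t.1 ∈ Omega F (⇑Q) := by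
  have h1 : (Omega F₀ (⇑Q₀)).map (mapIsom hc) ≤ Omega F (⇑Q) := by
    show (commutator _).map _ ≤ commutator _
    rw [commutator_def, Subgroup.map_commutator, commutator_def]
    exact Subgroup.commutator_mono le_top le_top
  exact h1 (Subgroup.mem_map_of_mem _ t.2)

/-- the image in `PΩ(Q)` of an element of `Ω(Q₀)` -/
noncomputable def kΩ (t : ↥(Omega F₀ (⇑Q₀))) : POmega F (⇑Q) :=
  QuotientGroup.mk ⟨mapIsom hc t.1, mapIsom_mem_omega hc t⟩

/-- `Ω(Q₀)` acting on `PΩ(Q)` -/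
noncomputable def psiΩ : ↥(Omega F₀ (⇑Q₀)) →* MulAut (POmega F (⇑Q)) :=
  (PhiO (⇑Q)).comp ((mapIsom hc).comp (Subgroup.subtype _))

theorem psiΩ_apply (t : ↥(Omega F₀ (⇑Q₀))) : psiΩ hc t = PhiO (⇑Q) (mapIsom hc t.1) := rfl

theorem psiΩ_eq_conj (t : ↥(Omega F₀ (⇑Q₀))) : psiΩ hc t = MulAut.conj (kΩ hc t) :=
  Phi_omega (⇑Q) ⟨mapIsom hc t.1, mapIsom_mem_omega hc t⟩

include hι in
theorem fieldO_kΩ (t : ↥(Omega F₀ (⇑Q₀))) : fieldO (⇑Q) σ (kΩ hc t) = kΩ hc t := by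
  unfold kΩ
  rw [fieldO_mk]
  congr 1
  apply Subtype.ext
  apply Subtype.ext
  rw [fieldO_mk_coe]
  exact mapGLi_glMap σ.1 hι _

/-- the fixed points of the standard field automorphism on `PΩ(Q)` -/
noncomputable abbrev FixK (σ : ↥(invSub (⇑Q))) : Subgroup (POmega F (⇑Q)) :=
  MonoidHom.eqLocus (fieldO (⇑Q) σ).toMonoidHom (MonoidHom.id (POmega F (⇑Q)))

theorem mem_FixK {k : POmega F (⇑Q)} : k ∈ FixK σ ↔ fieldO (⇑Q) σ k = k := Iff.rfl

theorem fieldO_comm_conj_iff (hQ : (QuadraticMap.polarBilin Q).Nondegenerate)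
    (hn : 5 ≤ Fintype.card ι) (k : POmega F (⇑Q)) :
    fieldO (⇑Q) σ * MulAut.conj k = MulAut.conj k * fieldO (⇑Q) σ ↔ fieldO (⇑Q) σ k = k := by
  rw [conj_comm_aut']
  constructor
  · intro h
    exact Cfsg.Agent.Lib.Helper44_OrthOddOut.conj_injective Q hQ hn (mul_right_cancel h)
  · intro h
    rw [h]

theorem conj_mem_CDO (hQ : (QuadraticMap.polarBilin Q).Nondegenerate)
    (hn : 5 ≤ Fintype.card ι) {k : POmega F (⇑Q)} (hk : fieldO (⇑Q) σ k = k) :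
    MulAut.conj k ∈ CDO σ := by
  rw [mem_CDO_iff]
  exact ⟨inn_le_range Q ⟨k, rfl⟩, (fieldO_comm_conj_iff σ hQ hn k).mpr hk⟩

/-- `Ω(Q₀)` as a subgroup of `SO(Q₀)` -/
def toSO (h2₀ : (2 : F₀) ≠ 0) (hQ₀ : (QuadraticMap.polarBilin Q₀).Nondegenerate)
    (t : ↥(Omega F₀ (⇑Q₀))) : ↥(specialIsometryGroup F₀ (⇑Q₀)) :=
  ⟨t.1, omega_le_SO Q₀ h2₀ hQ₀ t.2⟩

theorem PsiSO_toSO (h2₀ : (2 : F₀) ≠ 0) (hQ₀ : (QuadraticMap.polarBilin Q₀).Nondegenerate)
    (t : ↥(Omega F₀ (⇑Q₀))) : PsiSO hc (toSO h2₀ hQ₀ t) = psiΩ hc t := rfl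

theorem psiΩ_injective (h2 : (2 : F) ≠ 0) (hQ : (QuadraticMap.polarBilin Q).Nondegenerate)
    (hn : 5 ≤ Fintype.card ι) (hodd : Odd (Fintype.card ι))
    (h2₀ : (2 : F₀) ≠ 0) (hQ₀ : (QuadraticMap.polarBilin Q₀).Nondegenerate) :
    Function.Injective (psiΩ hc) := by
  intro s t h
  rw [← PsiSO_toSO hc h2₀ hQ₀, ← PsiSO_toSO hc h2₀ hQ₀] at h
  have h1 := PsiSO_injective hc h2 hQ hn hodd h
  apply Subtype.ext
  exact congrArg (fun x : ↥(specialIsometryGroup F₀ (⇑Q₀)) => x.1) h1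

include hι in
/-- inner automorphisms centralizing `fieldO σ` normalize the subfield subgroup -/
theorem psiΩ_conj (h2 : (2 : F) ≠ 0) (hQ : (QuadraticMap.polarBilin Q).Nondegenerate)
    (hn : 5 ≤ Fintype.card ι) (hodd : Odd (Fintype.card ι))
    (h2₀ : (2 : F₀) ≠ 0) (hQ₀ : (QuadraticMap.polarBilin Q₀).Nondegenerate)
    {k : POmega F (⇑Q)} (hk : fieldO (⇑Q) σ k = k) (t : ↥(Omega F₀ (⇑Q₀))) :
    ∃ t' : ↥(Omega F₀ (⇑Q₀)), MulAut.conj k * psiΩ hc t * (MulAut.conj k)⁻¹ = psiΩ hc t' := by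
  obtain ⟨s, hs⟩ := PsiSO_range hc σ hι h2 hQ hn hodd _ (conj_mem_CDO σ hQ hn hk)
  have hN : (Omega F₀ (⇑Q₀)).Normal := by
    show (commutator _).Normal
    infer_instance
  refine ⟨⟨s.1 * t.1 * s.1⁻¹, hN.conj_mem t.1 t.2 s.1⟩, ?_⟩
  rw [← hs, ← PsiSO_toSO hc h2₀ hQ₀ t, ← map_inv, ← map_mul, ← map_mul]
  rfl

include hι in
/-- squares of inner automorphisms centralizing `fieldO σ` lie in the subfield subgroup -/
theorem psiΩ_sq (h2 : (2 : F) ≠ 0) (hQ : (QuadraticMap.polarBilin Q).Nondegenerate)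
    (hn : 5 ≤ Fintype.card ι) (hodd : Odd (Fintype.card ι))
    (h2₀ : (2 : F₀) ≠ 0) (hQ₀ : (QuadraticMap.polarBilin Q₀).Nondegenerate)
    {k : POmega F (⇑Q)} (hk : fieldO (⇑Q) σ k = k) :
    ∃ t : ↥(Omega F₀ (⇑Q₀)), MulAut.conj k * MulAut.conj k = psiΩ hc t := by
  obtain ⟨s, hs⟩ := PsiSO_range hc σ hι h2 hQ hn hodd _ (conj_mem_CDO σ hQ hn hk)
  have hmem : s.1 * s.1 ∈ Omega F₀ (⇑Q₀) := by
    by_cases hsΩ : s.1 ∈ Omega F₀ (⇑Q₀)
    · exact Subgroup.mul_mem _ hsΩ hsΩ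
    · exact mul_mem_omega Q₀ h2₀ hQ₀ s.2 s.2 hsΩ hsΩ
  refine ⟨⟨s.1 * s.1, hmem⟩, ?_⟩
  rw [← hs, ← map_mul]
  rfl

end basechange

/-! ### the centralizer of the subfield subgroup -/

section key

variable {ι : Type} [Fintype ι] [DecidableEq ι] {F₀ F : Type*} [Field F₀] [Field F] [Fintype F₀]
  [Fintype F] {j : F₀ →+* F} {Q₀ : QuadraticForm F₀ (ι → F₀)} {Q : QuadraticForm F (ι → F)}
  (hc : Compat j Q₀ Q) (σ : ↥(invSub (⇑Q))) (hι : ∀ a : F, σ.1 a = a ↔ a ∈ Set.range j)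

theorem fieldIso_mapIsom (τ : ↥(invSub (⇑Q))) (τ₀ : ↥(invSub (⇑Q₀)))
    (hτ₀ : ∀ a, j (τ₀.1 a) = τ.1 (j a)) (t : ↥(isometryGroup F₀ (⇑Q₀))) :
    fieldIso (⇑Q) τ (mapIsom hc t) = mapIsom hc (fieldIso (⇑Q₀) τ₀ t) := by
  apply Subtype.ext
  apply Units.ext
  ext a b
  show τ.1 (j (t.1.1 a b)) = j (τ₀.1 (t.1.1 a b))
  rw [hτ₀]

omit [Fintype F₀] [Fintype F] in
theorem glMap_mem_scalars {k : GL ι F₀} (hk : k ∈ Cfsg.Geo.scalars ι F₀) :
    glMap j k ∈ Cfsg.Geo.scalars ι F := by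
  rw [Cfsg.Geo.mem_scalars_iff] at hk ⊢
  obtain ⟨c, hcs⟩ := hk
  refine ⟨Units.map (j : F₀ →* F) c, ?_⟩
  show (k.1.map j : Matrix ι ι F) = _
  rw [hcs]
  ext a b
  simp only [Matrix.map_apply, Matrix.smul_apply, Matrix.one_apply, smul_eq_mul, Units.coe_map,
    MonoidHom.coe_coe]
  by_cases hab : a = b
  · simp [hab]
  · simp [hab]

/-- an isometry over the subfield which is a scalar matrix acts trivially -/
theorem PhiO_mapIsom_eq_one (s : ↥(isometryGroup F₀ (⇑Q₀)))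
    (hs : (s : GL ι F₀) ∈ Cfsg.Geo.scalars ι F₀) : PhiO (⇑Q) (mapIsom hc s) = 1 := by
  apply Phi_eq_one_of_scalar
  exact glMap_mem_scalars (j := j) hs

include hι in
/-- an automorphism commuting with `fieldO σ` and with the subfield subgroup is a power of
`fieldO σ` -/
theorem mem_zpowers_of_commute (h2 : (2 : F) ≠ 0) (hQ : (QuadraticMap.polarBilin Q).Nondegenerate)
    (hn : 5 ≤ Fintype.card ι) (hodd : Odd (Fintype.card ι))
    (hall : ∀ τ : F ≃+* F, SigInv (⇑Q) τ) (hAut : gammaPOmega F (⇑Q) = ⊤)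
    (h2₀ : (2 : F₀) ≠ 0) (hQ₀ : (QuadraticMap.polarBilin Q₀).Nondegenerate)
    (hfd₀ : FaithData Q₀) (hall₀ : ∀ τ₀ : F₀ ≃+* F₀, SigInv (⇑Q₀) τ₀)
    (hres : ∀ τ : F ≃+* F, ∃ τ₀ : F₀ ≃+* F₀, ∀ a, j (τ₀ a) = τ (j a))
    (y : MulAut (POmega F (⇑Q))) (hyφ : fieldO (⇑Q) σ * y = y * fieldO (⇑Q) σ)
    (hy : ∀ t : ↥(Omega F₀ (⇑Q₀)), y * psiΩ hc t = psiΩ hc t * y) :
    y ∈ Subgroup.zpowers (fieldO (⇑Q) σ) := by
  have htop := stdAut_eq_top (⇑Q) hall hAut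
  have hy' : y ∈ stdAut (⇑Q) := by rw [htop]; trivial
  obtain ⟨g, τ, rfl⟩ := (mem_stdAut (⇑Q) y).mp hy'
  have hστ : σ * τ = τ * σ := Subtype.ext (ringAut_comm σ.1 τ.1)
  have hcomm1 : fieldO (⇑Q) σ * fieldO (⇑Q) τ = fieldO (⇑Q) τ * fieldO (⇑Q) σ := by
    rw [← map_mul, ← map_mul, hστ]
  have hcomm2 : fieldO (⇑Q) σ * Phi (⇑Q) g = Phi (⇑Q) g * fieldO (⇑Q) σ :=
    commute_cancel _ _ _ hyφ hcomm1
  obtain ⟨s, hs⟩ := PsiSO_range hc σ hι h2 hQ hn hodd (Phi (⇑Q) g)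
    ((mem_CDO_iff σ _).mpr ⟨⟨g, rfl⟩, hcomm2⟩)
  obtain ⟨τ₀, hτ₀⟩ := hres τ.1
  obtain ⟨τ₀', hτ₀'⟩ : ∃ τ₀' : ↥(invSub (⇑Q₀)), τ₀'.1 = τ₀ := ⟨⟨τ₀, hall₀ τ₀⟩, rfl⟩
  have hτ₀'' : ∀ a, j (τ₀'.1 a) = τ.1 (j a) := by rw [hτ₀']; exact hτ₀
  -- the basic relation `s * τ₀(t) = t * s`
  have hkey : ∀ t : ↥(Omega F₀ (⇑Q₀)), s.1 * fieldIso (⇑Q₀) τ₀' t.1 = t.1 * s.1 := by
    intro t
    have h1 := hy t
    rw [← hs] at h1
    have h3 : fieldO (⇑Q) τ * psiΩ hc t =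
        PhiO (⇑Q) (fieldIso (⇑Q) τ (mapIsom hc t.1)) * fieldO (⇑Q) τ := fieldO_mul_PhiO Q τ _
    rw [fieldIso_mapIsom hc τ τ₀' hτ₀''] at h3
    have h5 := twisted_cancel _ _ _ _ h1 h3
    have hmemτ : fieldIso (⇑Q₀) τ₀' t.1 ∈ specialIsometryGroup F₀ (⇑Q₀) :=
      fieldIso_mem_SO Q₀ τ₀' (omega_le_SO Q₀ h2₀ hQ₀ t.2)
    have h6 : PsiSO hc (s * ⟨fieldIso (⇑Q₀) τ₀' t.1, hmemτ⟩) =
        PsiSO hc (toSO h2₀ hQ₀ t * s) := by
      rw [map_mul, map_mul]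
      exact h5
    have h7 := PsiSO_injective hc h2 hQ hn hodd h6
    exact congrArg (fun x : ↥(specialIsometryGroup F₀ (⇑Q₀)) => x.1) h7
  -- hence the restriction of `τ` is induced by `s⁻¹`
  obtain ⟨sGO, hsGO⟩ : ∃ sGO : ↥(GO (⇑Q₀)), sGO = Subgroup.inclusion (isometryGroup_le_GO (⇑Q₀)) s.1 :=
    ⟨_, rfl⟩
  have hsGO1 : (sGO : GL ι F₀) = (s.1 : GL ι F₀) := by rw [hsGO]; rfl
  have hfo : fieldO (⇑Q₀) τ₀' = Phi (⇑Q₀) sGO⁻¹ := by
    refine MulEquiv.ext fun x => ?_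
    induction x using QuotientGroup.induction_on with
    | H t =>
      rw [fieldO_mk, Phi_mk]
      congr 1
      apply Subtype.ext
      apply Subtype.ext
      rw [fieldO_mk_coe, Phi_mk_coe]
      have h1 : (s.1 : GL ι F₀) * mapGLi τ₀'.1 (t.1 : GL ι F₀) = (t.1 : GL ι F₀) * (s.1 : GL ι F₀) :=
        congrArg (fun x : ↥(isometryGroup F₀ (⇑Q₀)) => (x : GL ι F₀)) (hkey t)
      have h2 : ((sGO⁻¹ : ↥(GO (⇑Q₀))) : GL ι F₀) = (s.1 : GL ι F₀)⁻¹ := by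
        rw [Subgroup.coe_inv, hsGO1]
      rw [h2, inv_inv]
      rw [mul_assoc, ← h1]
      group
  obtain ⟨u, w, hu, hw, huw, hN, hfu, hfw⟩ := hfd₀
  have hτ1 : τ₀'.1 = 1 :=
    eq_one_of_fieldO_eq_Phi Q₀ hQ₀ hn τ₀' sGO⁻¹ hfo u w hu hw huw hN (hfu τ₀'.1) (hfw τ₀'.1)
  -- `τ` is a power of `σ`
  have hfix : ∀ a : F, σ.1 a = a → τ.1 a = a := by
    intro a ha
    obtain ⟨b, rfl⟩ := (hι a).mp ha
    rw [← hτ₀'', hτ1]
    rfl
  obtain ⟨n, hn'⟩ := Subgroup.mem_zpowers_iff.mp (mem_zpowers_of_fixes σ.1 τ.1 hfix)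
  have hτσ : τ = σ ^ n := by
    apply Subtype.ext
    rw [Subgroup.coe_zpow]
    exact hn'.symm
  -- `s` is scalar
  have hτ₀1 : τ₀' = 1 := Subtype.ext hτ1
  have hsc : ((sGO⁻¹ : ↥(GO (⇑Q₀))) : GL ι F₀) ∈ Cfsg.Geo.scalars ι F₀ := by
    apply scalar_of_Phi_eq_one Q₀ hQ₀ hn
    rw [← hfo, hτ₀1, map_one]
  have hsc' : (s.1 : GL ι F₀) ∈ Cfsg.Geo.scalars ι F₀ := by
    have h1 := Subgroup.inv_mem _ hsc
    rw [Subgroup.coe_inv, inv_inv, hsGO1] at h1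
    exact h1
  have hs1 : Phi (⇑Q) g = 1 := by
    rw [← hs, PsiSO_apply]
    exact PhiO_mapIsom_eq_one hc s.1 hsc'
  rw [hs1, one_mul, hτσ, map_zpow]
  exact Subgroup.zpow_mem_zpowers _ _

end key

/-! ### the core of the argument -/

section core

variable {ι : Type} [Fintype ι] [DecidableEq ι] {F₀ F : Type*} [Field F₀] [Field F] [Fintype F₀]
  [Fintype F] {j : F₀ →+* F} {Q₀ : QuadraticForm F₀ (ι → F₀)} {Q : QuadraticForm F (ι → F)}
  (hc : Compat j Q₀ Q) (σ : ↥(invSub (⇑Q))) (hι : ∀ a : F, σ.1 a = a ↔ a ∈ Set.range j)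
  {p : ℕ} [hp : Fact p.Prime]

include hι in
theorem dvd_card_range_psiΩ (h2 : (2 : F) ≠ 0) (hQ : (QuadraticMap.polarBilin Q).Nondegenerate)
    (hn : 5 ≤ Fintype.card ι) (hodd : Odd (Fintype.card ι))
    (h2₀ : (2 : F₀) ≠ 0) (hQ₀ : (QuadraticMap.polarBilin Q₀).Nondegenerate)
    (hinv : ∃ t : ↥(Omega F₀ (⇑Q₀)), t ≠ 1 ∧ t * t = 1)
    (hdvd : p ∣ Nat.card ↥(FixK σ)) : p ∣ Nat.card ↥(psiΩ hc).range := by
  by_cases hp2 : p = 2
  · obtain ⟨d, hd1, hdd⟩ := hinv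
    have h1 : (psiΩ hc d) ^ 2 = 1 := by rw [← map_pow, pow_two, hdd, map_one]
    have h2' : psiΩ hc d ≠ 1 := fun h =>
      hd1 (psiΩ_injective hc h2 hQ hn hodd h2₀ hQ₀ (h.trans (map_one _).symm))
    have : Fact (Nat.Prime 2) := ⟨Nat.prime_two⟩
    have h3 := orderOf_eq_prime h1 h2'
    rw [hp2, ← h3]
    exact Subgroup.orderOf_dvd_natCard _ (MonoidHom.mem_range.mpr ⟨d, rfl⟩)
  · have hodd' : Odd p := hp.out.odd_of_ne_two hp2
    obtain ⟨x, hx⟩ := exists_prime_orderOf_dvd_card' p hdvd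
    have hk₁ : fieldO (⇑Q) σ x.1 = x.1 := x.2
    have hok : orderOf x.1 = p := by rw [Subgroup.orderOf_coe]; exact hx
    have hod : orderOf (MulAut.conj x.1) = p := by
      rw [orderOf_injective _ (Cfsg.Agent.Lib.Helper44_OrthOddOut.conj_injective Q hQ hn) x.1]
      exact hok
    obtain ⟨t, ht⟩ := psiΩ_sq hc σ hι h2 hQ hn hodd h2₀ hQ₀ hk₁
    have hd : MulAut.conj x.1 = (psiΩ hc t) ^ ((p + 1) / 2) := by
      rw [← ht]
      exact sq_pow_of_odd _ hodd' (by rw [← hod]; exact pow_orderOf_eq_one _)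
    rw [← hod]
    apply Subgroup.orderOf_dvd_natCard
    rw [hd]
    exact Subgroup.pow_mem _ (MonoidHom.mem_range.mpr ⟨t, rfl⟩) _

/-- a `p'`-subgroup normalized by the subfield subgroup meets it trivially -/
theorem inf_range_eq_bot (hn : 5 ≤ Fintype.card ι)
    (hQ₀ : (QuadraticMap.polarBilin Q₀).Nondegenerate)
    (N' : Subgroup (MulAut (POmega F (⇑Q))))
    (hnormψ : ∀ t : ↥(Omega F₀ (⇑Q₀)), ∀ n ∈ N', psiΩ hc t * n * (psiΩ hc t)⁻¹ ∈ N')
    (hcop : (Nat.card N').Coprime p) (hdvd : p ∣ Nat.card ↥(psiΩ hc).range) :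
    N' ⊓ (psiΩ hc).range = ⊥ := by
  have hDn : (N'.comap (psiΩ hc)).Normal := by
    refine ⟨fun s hs t => ?_⟩
    rw [Subgroup.mem_comap, map_mul, map_mul, map_inv]
    exact hnormψ t _ hs
  rcases normal_dichotomy (commutator_omega_eq_top Q₀ hQ₀ hn)
    (Cfsg.Agent.Lib.Helper14_POmegaSimple.isSimpleGroup_POmega Q₀ hQ₀ hn)
    (N'.comap (psiΩ hc)) with hA | hB
  · rw [eq_bot_iff]
    rintro d ⟨hd, t, rfl⟩
    rw [Subgroup.mem_bot, psiΩ_apply]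
    apply PhiO_mapIsom_eq_one
    have htc : t ∈ Subgroup.center ↥(Omega F₀ (⇑Q₀)) := hA hd
    have h1 : (QuotientGroup.mk t : POmega F₀ (⇑Q₀)) = 1 := (QuotientGroup.eq_one_iff t).mpr htc
    have h3 := Phi_omega (⇑Q₀) t
    rw [h1, map_one] at h3
    exact scalar_of_Phi_eq_one Q₀ hQ₀ hn _ h3
  · exfalso
    have hle : (psiΩ hc).range ≤ N' := by
      rintro _ ⟨t, rfl⟩
      have : t ∈ N'.comap (psiΩ hc) := by rw [hB]; trivial
      exact this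
    have h5 := Subgroup.card_dvd_of_le hle
    have h6 := Nat.dvd_gcd (hdvd.trans h5) (dvd_refl p)
    rw [Nat.Coprime] at hcop
    rw [hcop] at h6
    exact hp.out.one_lt.ne' (Nat.dvd_one.mp h6)

include hc hι in
/-- the core of the argument: a `p'`-subgroup of `C(fieldO σ)` normalized by the inner
automorphisms centralizing `fieldO σ` is trivial if `p` divides the number of fixed points -/
theorem core_bot (h2 : (2 : F) ≠ 0) (hQ : (QuadraticMap.polarBilin Q).Nondegenerate)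
    (hn : 5 ≤ Fintype.card ι) (hodd : Odd (Fintype.card ι)) (hfd : FaithData Q)
    (hall : ∀ τ : F ≃+* F, SigInv (⇑Q) τ) (hAut : gammaPOmega F (⇑Q) = ⊤)
    (h2₀ : (2 : F₀) ≠ 0) (hQ₀ : (QuadraticMap.polarBilin Q₀).Nondegenerate)
    (hfd₀ : FaithData Q₀) (hall₀ : ∀ τ₀ : F₀ ≃+* F₀, SigInv (⇑Q₀) τ₀)
    (hres : ∀ τ : F ≃+* F, ∃ τ₀ : F₀ ≃+* F₀, ∀ a, j (τ₀ a) = τ (j a))
    (hinv : ∃ t : ↥(Omega F₀ (⇑Q₀)), t ≠ 1 ∧ t * t = 1)
    (hord : orderOf σ.1 = p)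
    (N' : Subgroup (MulAut (POmega F (⇑Q))))
    (hcent : ∀ n ∈ N', fieldO (⇑Q) σ * n = n * fieldO (⇑Q) σ)
    (hnorm : ∀ k₁ : POmega F (⇑Q), fieldO (⇑Q) σ k₁ = k₁ → ∀ n ∈ N',
      MulAut.conj k₁ * n * (MulAut.conj k₁)⁻¹ ∈ N')
    (hcop : (Nat.card N').Coprime p)
    (hdvd : p ∣ Nat.card ↥(FixK σ)) : N' = ⊥ := by
  have hφord : orderOf (fieldO (⇑Q) σ) = p := by rw [orderOf_fieldO Q hQ hn hfd σ]; exact hord
  apply core_abstract (fieldO (⇑Q) σ) hφord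
    ((FixK σ).map (MulAut.conj : POmega F (⇑Q) →* MulAut (POmega F (⇑Q)))) (psiΩ hc).range N'
  · rintro _ ⟨t, rfl⟩
    exact ⟨kΩ hc t, fieldO_kΩ hc σ hι t, (psiΩ_eq_conj hc t).symm⟩
  · rintro _ ⟨k₁, hk₁, rfl⟩ _ ⟨t, rfl⟩
    obtain ⟨t', ht'⟩ := psiΩ_conj hc σ hι h2 hQ hn hodd h2₀ hQ₀ hk₁ t
    exact ⟨t', ht'.symm⟩
  · rintro n hn' _ ⟨k₁, hk₁, rfl⟩
    refine ⟨n k₁, ?_, ?_⟩
    · show fieldO (⇑Q) σ (n k₁) = n k₁
      have hk₁' : fieldO (⇑Q) σ k₁ = k₁ := hk₁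
      have := DFunLike.congr_fun (hcent n hn') k₁
      rw [MulAut.mul_apply, MulAut.mul_apply, hk₁'] at this
      exact this
    · show MulAut.conj (n k₁) = n * MulAut.conj k₁ * n⁻¹
      rw [conj_comm_aut' n k₁]
      group
  · rintro _ ⟨k₁, hk₁, rfl⟩ n hn'
    exact hnorm k₁ hk₁ n hn'
  · exact hcent
  · intro y hyφ hyH
    exact mem_zpowers_of_commute hc σ hι h2 hQ hn hodd hall hAut h2₀ hQ₀ hfd₀ hall₀ hres y hyφ
      (fun t => hyH _ ⟨t, rfl⟩)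
  · apply inf_range_eq_bot hc hn hQ₀ N' _ hcop
      (dvd_card_range_psiΩ hc σ hι h2 hQ hn hodd h2₀ hQ₀ hinv hdvd)
    intro t n hn'
    rw [psiΩ_eq_conj]
    exact hnorm _ (fieldO_kΩ hc σ hι t) n hn'
  · exact hcop

end core

/-! ### local balance for a standard field automorphism -/

section std

variable {ι : Type} [Fintype ι] [DecidableEq ι] {F₀ F : Type*} [Field F₀] [Field F] [Fintype F₀]
  [Fintype F] {j : F₀ →+* F} {Q₀ : QuadraticForm F₀ (ι → F₀)} {Q : QuadraticForm F (ι → F)}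
  (hc : Compat j Q₀ Q) (σ : ↥(invSub (⇑Q))) (hι : ∀ a : F, σ.1 a = a ↔ a ∈ Set.range j)
  {p : ℕ} [hp : Fact p.Prime]

include hc hι in
theorem balance_std (h2 : (2 : F) ≠ 0) (hQ : (QuadraticMap.polarBilin Q).Nondegenerate)
    (hn : 5 ≤ Fintype.card ι) (hodd : Odd (Fintype.card ι)) (hfd : FaithData Q)
    (hall : ∀ τ : F ≃+* F, SigInv (⇑Q) τ) (hAut : gammaPOmega F (⇑Q) = ⊤)
    (h2₀ : (2 : F₀) ≠ 0) (hQ₀ : (QuadraticMap.polarBilin Q₀).Nondegenerate)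
    (hfd₀ : FaithData Q₀) (hall₀ : ∀ τ₀ : F₀ ≃+* F₀, SigInv (⇑Q₀) τ₀)
    (hres : ∀ τ : F ≃+* F, ∃ τ₀ : F₀ ≃+* F₀, ∀ a, j (τ₀ a) = τ (j a))
    (hinv : ∃ t : ↥(Omega F₀ (⇑Q₀)), t ≠ 1 ∧ t * t = 1)
    (hord : orderOf σ.1 = p)
    (A : Subgroup (MulAut (POmega F (⇑Q))))
    (hinn : ∀ k₁ : POmega F (⇑Q), MulAut.conj k₁ ∈ A) :
    Cfsg.pPrimeCore p ↥(A ⊓ Subgroup.centralizer {fieldO (⇑Q) σ}) ≠ ⊥ ↔
      Nat.Coprime p (Nat.card ↥(FixK σ)) := by
  have hconjinj := Cfsg.Agent.Lib.Helper44_OrthOddOut.conj_injective Q hQ hn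
  have hconjH : ∀ k₁ : POmega F (⇑Q), fieldO (⇑Q) σ k₁ = k₁ →
      MulAut.conj k₁ ∈ A ⊓ Subgroup.centralizer {fieldO (⇑Q) σ} := by
    intro k₁ hk₁
    refine ⟨hinn k₁, Subgroup.mem_centralizer_iff.mpr ?_⟩
    intro z hz
    rw [Set.mem_singleton_iff] at hz
    subst hz
    exact (fieldO_comm_conj_iff σ hQ hn k₁).mpr hk₁
  have hcentH : ∀ h ∈ A ⊓ Subgroup.centralizer {fieldO (⇑Q) σ},
      fieldO (⇑Q) σ * h = h * fieldO (⇑Q) σ := by
    intro h hh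
    exact (Subgroup.mem_centralizer_iff.mp hh.2) _ rfl
  rw [pPrimeCore_ne_bot_iff]
  constructor
  · rintro ⟨N, hNn, hNc, hNb⟩
    by_contra hnc
    have hdvd : p ∣ Nat.card ↥(FixK σ) := by
      by_contra hnd
      exact hnc ((Nat.Prime.coprime_iff_not_dvd hp.out).mpr hnd)
    apply hNb
    have hinj := Subgroup.subtype_injective (A ⊓ Subgroup.centralizer {fieldO (⇑Q) σ})
    rw [← Subgroup.map_eq_bot_iff_of_injective N hinj]
    apply core_bot hc σ hι h2 hQ hn hodd hfd hall hAut h2₀ hQ₀ hfd₀ hall₀ hres hinv hord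
    · rintro n ⟨h, hh, rfl⟩
      exact hcentH h.1 h.2
    · rintro k₁ hk₁ n ⟨h, hh, rfl⟩
      refine ⟨⟨MulAut.conj k₁, hconjH k₁ hk₁⟩ * h * ⟨MulAut.conj k₁, hconjH k₁ hk₁⟩⁻¹,
        hNn.conj_mem h hh _, rfl⟩
    · rw [Subgroup.card_map_of_injective hinj]
      exact hNc
    · exact hdvd
  · intro hcop
    have hle : (FixK σ).map (MulAut.conj : POmega F (⇑Q) →* _) ≤
        A ⊓ Subgroup.centralizer {fieldO (⇑Q) σ} := by
      rintro _ ⟨k₁, hk₁, rfl⟩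
      exact hconjH k₁ hk₁
    refine ⟨((FixK σ).map (MulAut.conj : POmega F (⇑Q) →* _)).subgroupOf _, ?_, ?_, ?_⟩
    · refine ⟨fun n hn' h => ?_⟩
      rw [Subgroup.mem_subgroupOf] at hn' ⊢
      obtain ⟨k₁, hk₁, hk₁n⟩ := hn'
      refine ⟨h.1 k₁, ?_, ?_⟩
      · show fieldO (⇑Q) σ (h.1 k₁) = h.1 k₁
        have hk₁' : fieldO (⇑Q) σ k₁ = k₁ := hk₁
        have := DFunLike.congr_fun (hcentH h.1 h.2) k₁
        rw [MulAut.mul_apply, MulAut.mul_apply, hk₁'] at this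
        exact this
      · show MulAut.conj (h.1 k₁) = h.1 * n.1 * h.1⁻¹
        rw [← hk₁n]
        have := conj_comm_aut' h.1 k₁
        calc MulAut.conj (h.1 k₁) = (MulAut.conj (h.1 k₁) * h.1) * h.1⁻¹ := by group
          _ = _ := by rw [← this]
    · rw [Nat.card_congr (Subgroup.subgroupOfEquivOfLe hle).toEquiv,
        Subgroup.card_map_of_injective hconjinj]
      exact hcop.symm
    · intro hbot
      obtain ⟨t, ht1, -⟩ := hinv
      have hfixt := fieldO_kΩ hc σ hι t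
      have h1 : (⟨MulAut.conj (kΩ hc t), hconjH _ hfixt⟩ :
          ↥(A ⊓ Subgroup.centralizer {fieldO (⇑Q) σ})) ∈
          ((FixK σ).map (MulAut.conj : POmega F (⇑Q) →* _)).subgroupOf _ := by
        rw [Subgroup.mem_subgroupOf]
        exact ⟨kΩ hc t, hfixt, rfl⟩
      rw [hbot, Subgroup.mem_bot] at h1
      have h3 : MulAut.conj (kΩ hc t) = 1 := congrArg Subtype.val h1
      rw [← psiΩ_eq_conj] at h3
      exact ht1 (psiΩ_injective hc h2 hQ hn hodd h2₀ hQ₀ (h3.trans (map_one _).symm))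

end std

/-! ### the odd-dimensional standard form -/

section odd

variable {F : Type*} [Field F] [Fintype F]

/-- an involution in `Ω_{2m+1}(F)` -/
theorem exists_involution_qfOdd (h2 : (2 : F) ≠ 0) {m : ℕ} (hm : 1 ≤ m) :
    ∃ t : ↥(Omega F (⇑(qfOdd m F))), t ≠ 1 ∧ t * t = 1 := by
  have hQ := Cfsg.Agent.Lib.Helper14_POmegaSimple.nondegenerate_qfOdd h2 m
  set a : I m → F := Pi.single (Sum.inl ()) 1 with ha
  set e : I m → F := Pi.single (Sum.inr (Sum.inl ⟨0, by omega⟩)) 1 with he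
  set f : I m → F := Pi.single (Sum.inr (Sum.inr ⟨0, by omega⟩)) 1 with hf
  have hQa : qfOdd m F a = 1 := by rw [ha, qfOdd_single]
  have hQb : qfOdd m F (e + f) = 1 := by
    rw [QuadraticMap.map_add (⇑(qfOdd m F)) e f, he, hf, qfOdd_single, qfOdd_single,
      polar_qfOdd_single]
    simp
  have hab : QuadraticMap.polar (⇑(qfOdd m F)) a (e + f) = 0 := by
    rw [QuadraticMap.polar_add_right, ha, he, hf, polar_qfOdd_single, polar_qfOdd_single]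
    simp
  exact exists_involution h2 (qfOdd m F) hQ (a := a) (b := e + f)
    (by rw [hQa]; exact one_ne_zero) (by rw [hQb]; exact one_ne_zero)
    (by rw [hQa]; exact ⟨1, by simp⟩) (by rw [hQb]; exact ⟨1, by simp⟩) hab

/-- the order of the field automorphism underlying an element of prime order -/
theorem orderOf_sigma' {ι : Type} [Fintype ι] [DecidableEq ι] (Q : QuadraticForm F (ι → F))
    (hQ : (QuadraticMap.polarBilin Q).Nondegenerate)
    (hn : 5 ≤ Fintype.card ι) (hfd : FaithData Q) (σ : ↥(invSub (⇑Q))) (hσ1 : σ ≠ 1)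
    (c₀ : ↥(GO (⇑Q))) {r : ℕ} (hr : r.Prime)
    (hx : (Phi (⇑Q) c₀ * fieldO (⇑Q) σ) ^ r = 1) : orderOf σ.1 = r := by
  rw [pow_Phi_mul_fieldO] at hx
  have h1 : fieldO (⇑Q) (σ ^ r) ∈ (Phi (⇑Q)).range := by
    refine ⟨(PNO (⇑Q) σ c₀ r)⁻¹, ?_⟩
    rw [map_inv]
    exact inv_eq_of_mul_eq_one_right hx
  have h2 := Cfsg.Agent.Lib.Helper44_OrthOddOut.sigma_eq_one_of_mem_range Q hQ hn hfd _ h1
  have h3 : orderOf σ ∣ r := orderOf_dvd_of_pow_eq_one h2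
  rw [Subgroup.orderOf_coe]
  rcases (Nat.dvd_prime hr).mp h3 with h4 | h4
  · exact absurd (orderOf_eq_one_iff.mp h4) hσ1
  · exact h4

set_option maxHeartbeats 1600000 in
/-- local balance for a function equal to the odd-dimensional standard form -/
theorem balance_odd_aux (h2 : (2 : F) ≠ 0) {m : ℕ} (hm : 2 ≤ m) (Qf : (I m → F) → F)
    (hQf : Qf = ⇑(qfOdd m F)) (hAut : gammaPOmega F Qf = ⊤)
    (A : Subgroup (MulAut (POmega F Qf))) (hinn : ∀ k : POmega F Qf, MulAut.conj k ∈ A)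
    {p : ℕ} [hp : Fact p.Prime] (x : MulAut (POmega F Qf)) (hord : orderOf x = p)
    (hnot : x ∉ (Phi Qf).range) :
    Cfsg.pPrimeCore p ↥(A ⊓ Subgroup.centralizer {x}) ≠ ⊥ ↔
      (IsFieldAutClassPOmega Qf x ∧ Nat.Coprime p (Nat.card
        ↥(MonoidHom.eqLocus x.toMonoidHom (MonoidHom.id (POmega F Qf))))) := by
  subst hQf
  have hn : 5 ≤ Fintype.card (I m) := by
    rw [Fintype.card_sum, Fintype.card_sum, Fintype.card_fin, Fintype.card_unit]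
    omega
  have hoddι : Odd (Fintype.card (I m)) := by
    rw [Fintype.card_sum, Fintype.card_sum, Fintype.card_fin, Fintype.card_unit]
    exact ⟨m, by ring⟩
  have hQ := Cfsg.Agent.Lib.Helper14_POmegaSimple.nondegenerate_qfOdd h2 m
  have hall : ∀ σ : F ≃+* F, SigInv (⇑(qfOdd m F)) σ := sigInv_qfOdd m
  have hfd : FaithData (qfOdd m F) := faithData_qfOdd hm
  have htop := stdAut_eq_top (⇑(qfOdd m F)) hall hAut
  have hx' : x ∈ stdAut (⇑(qfOdd m F)) := by rw [htop]; trivial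
  obtain ⟨g, σ, hx⟩ := (mem_stdAut _ x).mp hx'
  have hσ1 : σ ≠ 1 := by
    rintro rfl
    apply hnot
    rw [hx, map_one, mul_one]
    exact ⟨g, rfl⟩
  have hxp : (Phi (⇑(qfOdd m F)) g * fieldO (⇑(qfOdd m F)) σ) ^ p = 1 := by
    rw [← hx, ← hord]
    exact pow_orderOf_eq_one x
  have hordσ : orderOf σ.1 = p := orderOf_sigma' (qfOdd m F) hQ hn hfd σ hσ1 g hp.out hxp
  obtain ⟨k, hk⟩ := field_coset_conj_o (qfOdd m F) hQ hn σ hp.out.pos hordσ
    (lang_GO_odd m h2 σ.1 hp.out.pos hordσ) g hxp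
  rw [← hx] at hk
  -- notation
  obtain ⟨c, hc⟩ : ∃ c : MulAut (POmega F (⇑(qfOdd m F))), c = Phi (⇑(qfOdd m F)) k := ⟨_, rfl⟩
  obtain ⟨φ, hφdef⟩ : ∃ φ : MulAut (POmega F (⇑(qfOdd m F))), φ = fieldO (⇑(qfOdd m F)) σ :=
    ⟨_, rfl⟩
  rw [← hc, ← hφdef] at hk
  have hφ : c⁻¹ * x * c⁻¹⁻¹ = φ := by
    rw [hk]; group
  have hfield : IsFieldAutClassPOmega (⇑(qfOdd m F)) x := by
    refine ⟨c⁻¹, φ, σ.1, ?_, ?_, hφ⟩
    · intro h
      apply hσ1
      exact Subtype.ext h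
    · rw [hφdef]
      exact (isFieldAut_iff (⇑(qfOdd m F)) σ _).mpr rfl
  have hcard : Nat.card ↥(MonoidHom.eqLocus x.toMonoidHom
      (MonoidHom.id (POmega F (⇑(qfOdd m F))))) = Nat.card ↥(FixK σ) := by
    have h1 : MonoidHom.eqLocus x.toMonoidHom (MonoidHom.id (POmega F (⇑(qfOdd m F)))) =
        (FixK σ).map c.toMonoidHom := by
      ext y
      rw [Subgroup.mem_map]
      constructor
      · intro hy
        have hy' : x y = y := hy
        refine ⟨c⁻¹ y, ?_, MulAut.apply_inv_self _ _ _⟩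
        show fieldO (⇑(qfOdd m F)) σ (c⁻¹ y) = c⁻¹ y
        rw [← hφdef, ← hφ]
        simp only [MulAut.mul_apply, inv_inv, MulAut.apply_inv_self, hy']
      · rintro ⟨z, hz, rfl⟩
        have hz' : φ z = z := by rw [hφdef]; exact hz
        show x (c z) = c z
        rw [hk]
        simp only [MulAut.mul_apply, MulAut.inv_apply_self, hz']
    rw [h1]
    exact Subgroup.card_map_of_injective c.injective
  have hinn' : ∀ k₁ : POmega F (⇑(qfOdd m F)),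
      MulAut.conj k₁ ∈ A.map (MulAut.conj c⁻¹).toMonoidHom := by
    intro k₁
    refine ⟨MulAut.conj (c k₁), hinn _, ?_⟩
    show c⁻¹ * MulAut.conj (c k₁) * c⁻¹⁻¹ = MulAut.conj k₁
    have := conj_comm_aut' c k₁
    calc c⁻¹ * MulAut.conj (c k₁) * c⁻¹⁻¹
        = c⁻¹ * (MulAut.conj (c k₁) * c) := by group
      _ = c⁻¹ * (c * MulAut.conj k₁) := by rw [this]
      _ = _ := by group
  -- the subfield
  let _ : Fintype ↥(fixField σ.1) := Fintype.ofFinite _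
  have h2₀ : (2 : ↥(fixField σ.1)) ≠ 0 := by
    intro h0
    apply h2
    have h4 : (fixField σ.1).subtype 2 = 2 := map_ofNat _ 2
    rw [← h4, h0, map_zero]
  have hQ₀ := Cfsg.Agent.Lib.Helper14_POmegaSimple.nondegenerate_qfOdd h2₀ m
  have hstd := balance_std (p := p)
    (Cfsg.Agent.Lib.Helper44_OrthOddCentMain.compat_qfOdd (F := F) (fixField σ.1).subtype m)
    σ (hι_fix σ.1) h2 hQ hn hoddι hfd hall hAut h2₀ hQ₀ (faithData_qfOdd hm) (sigInv_qfOdd m)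
    (fun τ => exists_restrict σ.1 τ (ringAut_comm σ.1 τ))
    (exists_involution_qfOdd h2₀ (by omega)) hordσ _ hinn'
  rw [pPrimeCore_conj_iff A x c⁻¹ p, hφ, hφdef, hstd, hcard]
  exact ⟨fun h => ⟨hfield, h⟩, fun h => h.2⟩

/-- **S2731 modulo S2694** -/
theorem balance_odd (hodd : Odd (Fintype.card F)) {m : ℕ} (hm : 3 ≤ m)
    (hAut : gammaPOmega F (quadFormOdd m F) = ⊤)
    (A : Subgroup (MulAut (POmega F (quadFormOdd m F))))
    (hinn : ∀ k : POmega F (quadFormOdd m F), MulAut.conj k ∈ A)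
    {p : ℕ} [hp : Fact p.Prime] (x : MulAut (POmega F (quadFormOdd m F))) (hord : orderOf x = p)
    (hnot : ¬ IsInnerDiagonalAutPOmegaOdd m x) :
    Cfsg.pPrimeCore p ↥(A ⊓ Subgroup.centralizer {x}) ≠ ⊥ ↔
      (IsFieldAutClassPOmega (quadFormOdd m F) x ∧ Nat.Coprime p (Nat.card
        ↥(MonoidHom.eqLocus x.toMonoidHom (MonoidHom.id (POmega F (quadFormOdd m F)))))) := by
  have h2 : (2 : F) ≠ 0 := Cfsg.Agent.Lib.Helper44_FinSq.two_ne_zero_of_odd_card hodd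
  apply balance_odd_aux h2 (by omega) (quadFormOdd m F) (coe_qfOdd m F).symm hAut A hinn x hord
  rintro ⟨g, rfl⟩
  apply hnot
  exact ⟨g.1, g.2, (isInduced_iff (quadFormOdd m F) g _).mpr rfl⟩

end odd

end Cfsg.Agent.Lib.Helper44_OrthBalance
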