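import Mathlib
import Cfsg.Agent.Lib.Helper14_SingClasses
import Cfsg.Agent.Lib.Helper44_OrthCoset

/-!
# The class character on the similarity group of a hyperbolic quadratic form (helper44)

For a quadratic form of maximal Witt index in dimension `2M` and a fixed totally singular subspace `X`
of dimension `M`, the map `g ↦ codim (X ∩ gX) mod 2` is a homomorphism `GO(Q) → Z/2` (every
characteristic) whose kernel is the group of similarities preserving the two classes of maximal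
totally singular subspaces; it is invariant under field automorphisms stabilising `X`.
-/

set_option autoImplicit false
set_option linter.unusedSectionVars false
set_option linter.unusedVariables false

namespace Cfsg.Agent.Lib.Helper44_OrthChi

open Cfsg Matrix Module Cfsg.Agent.Lib.Helper44_Orth Cfsg.Agent.Lib.Helper44_Refl
  Cfsg.Agent.Helper14_MaxTS Cfsg.Agent.Lib.Helper14_Classes Cfsg.Agent.Lib.Helper14_AutOmega
  Cfsg.Agent.Lib.Helper14_GOChars Cfsg.Agent.Lib.Helper14_SingClasses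
  Cfsg.Agent.Lib.Helper44_OrthField Cfsg.Agent.Lib.Helper44_H90i

variable {ι : Type} [Fintype ι] [DecidableEq ι] {K : Type*} [Field K]

section sigma

/-- the image of a subspace under the coordinatewise field automorphism -/
def sigSub (σ : K ≃+* K) (U : Submodule K (ι → K)) : Submodule K (ι → K) where
  carrier := {w | ∃ v ∈ U, w = fun i => σ (v i)}
  add_mem' := by
    rintro _ _ ⟨v, hv, rfl⟩ ⟨v', hv', rfl⟩
    exact ⟨v + v', U.add_mem hv hv', by funext i; simp⟩
  zero_mem' := ⟨0, U.zero_mem, by funext i; simp⟩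
  smul_mem' := by
    rintro c _ ⟨v, hv, rfl⟩
    refine ⟨σ.symm c • v, U.smul_mem _ hv, ?_⟩
    funext i
    simp

theorem mem_sigSub (σ : K ≃+* K) (U : Submodule K (ι → K)) (w : ι → K) :
    w ∈ sigSub σ U ↔ ∃ v ∈ U, w = fun i => σ (v i) := Iff.rfl

theorem map_mem_sigSub (σ : K ≃+* K) {U : Submodule K (ι → K)} {v : ι → K} (hv : v ∈ U) :
    (fun i => σ (v i)) ∈ sigSub σ U := ⟨v, hv, rfl⟩

/-- the additive equivalence of a subspace with its image -/
def sigEquiv (σ : K ≃+* K) (U : Submodule K (ι → K)) : ↥U ≃+ ↥(sigSub σ U) where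
  toFun v := ⟨fun i => σ (v.1 i), v.1, v.2, rfl⟩
  invFun w := ⟨fun i => σ.symm (w.1 i), by
    obtain ⟨v, hv, hw⟩ := w.2
    have : (fun i => σ.symm (w.1 i)) = v := by
      funext i
      rw [hw]
      simp
    rw [this]
    exact hv⟩
  left_inv v := by
    apply Subtype.ext
    funext i
    simp
  right_inv w := by
    apply Subtype.ext
    funext i
    simp
  map_add' v w := by
    apply Subtype.ext
    funext i
    simp

theorem finrank_sigSub (σ : K ≃+* K) (U : Submodule K (ι → K)) :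
    finrank K ↥(sigSub σ U) = finrank K ↥U := by
  have h := rank_eq_of_equiv_equiv (σ : K → K) (sigEquiv σ U) σ.bijective (by
    intro r m
    apply Subtype.ext
    funext i
    show σ ((r • m.1) i) = σ r * σ (m.1 i)
    rw [Pi.smul_apply, smul_eq_mul, map_mul])
  unfold Module.finrank
  rw [h]

theorem sigSub_inf (σ : K ≃+* K) (U W : Submodule K (ι → K)) :
    sigSub σ (U ⊓ W) = sigSub σ U ⊓ sigSub σ W := by
  ext w
  constructor
  · rintro ⟨v, ⟨hvU, hvW⟩, rfl⟩
    exact ⟨⟨v, hvU, rfl⟩, ⟨v, hvW, rfl⟩⟩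
  · rintro ⟨⟨v, hvU, rfl⟩, ⟨v', hvW, hv'⟩⟩
    have : v = v' := by
      funext i
      have := congrFun hv' i
      exact σ.injective this
    subst this
    exact ⟨v, ⟨hvU, hvW⟩, rfl⟩

theorem sigSub_gmap (σ : K ≃+* K) (g : Matrix ι ι K) (U : Submodule K (ι → K)) :
    sigSub σ (gmap g U) = gmap (g.map σ) (sigSub σ U) := by
  ext w
  constructor
  · rintro ⟨x, hx, rfl⟩
    obtain ⟨y, hy, rfl⟩ := mem_gmap.mp hx
    refine mem_gmap.mpr ⟨fun i => σ (y i), ⟨y, hy, rfl⟩, ?_⟩
    exact (comp_mulVeci σ g y).symm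
  · intro hw
    obtain ⟨y', ⟨y, hy, rfl⟩, rfl⟩ := mem_gmap.mp hw
    refine ⟨g *ᵥ y, mulVec_mem_gmap hy, ?_⟩
    exact (comp_mulVeci σ g y).symm

theorem sigSub_eq_self (σ : K ≃+* K) (X : Submodule K (ι → K))
    (hXσ : ∀ (τ : K ≃+* K) (v : ι → K), v ∈ X → (fun i => τ (v i)) ∈ X) : sigSub σ X = X := by
  apply le_antisymm
  · rintro _ ⟨v, hv, rfl⟩
    exact hXσ σ v hv
  · intro w hw
    refine ⟨fun i => σ.symm (w i), hXσ σ.symm w hw, ?_⟩
    funext i
    simp

end sigma

section chi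

variable (Q : QuadraticForm K (ι → K)) (hQ : (QuadraticMap.polarBilin Q).Nondegenerate) {M : ℕ}
  (hcard : Fintype.card ι = 2 * M) {X : Submodule K (ι → K)} (hX : ∀ u ∈ X, Q u = 0)
  (hXm : finrank K X = M)

include hQ hcard hX hXm

theorem codim_mul_GO (g h : ↥(GO (⇑Q))) :
    Even ((M - finrank K ↥(X ⊓ gmap ((g : GL ι K) : Matrix ι ι K) X))
      + (M - finrank K ↥(X ⊓ gmap ((h : GL ι K) : Matrix ι ι K) X))
      + (M - finrank K ↥(X ⊓ gmap (((g * h : ↥(GO (⇑Q))) : GL ι K) : Matrix ι ι K) X))) := by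
  have hV : finrank K (ι → K) = 2 * M := by rw [Module.finrank_fintype_fun_eq_card]; exact hcard
  have hgU := ts_gmap_sim Q g hX
  have hgUm : finrank K ↥(gmap ((g : GL ι K) : Matrix ι ι K) X) = M := by
    rw [finrank_gmap, hXm]
  have hghU := ts_gmap_sim Q (g * h) hX
  have hghUm : finrank K ↥(gmap (((g * h : ↥(GO (⇑Q))) : GL ι K) : Matrix ι ι K) X) = M := by
    rw [finrank_gmap, hXm]
  have hpar := parity Q hQ hV hX hXm hgU hgUm hghU hghUm
  have hmul : gmap (((g * h : ↥(GO (⇑Q))) : GL ι K) : Matrix ι ι K) X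
      = gmap ((g : GL ι K) : Matrix ι ι K) (gmap ((h : GL ι K) : Matrix ι ι K) X) := by
    rw [← gmap_mul]; rfl
  have h1 : finrank K ↥(gmap ((g : GL ι K) : Matrix ι ι K) X ⊓
      gmap (((g * h : ↥(GO (⇑Q))) : GL ι K) : Matrix ι ι K) X)
      = finrank K ↥(X ⊓ gmap ((h : GL ι K) : Matrix ι ι K) X) := by
    rw [hmul, ← gmap_inf, finrank_gmap]
  rw [h1] at hpar
  exact hpar

/-- the class character on the similarity group -/
noncomputable def chiGO : ↥(GO (⇑Q)) →* Multiplicative (ZMod 2) where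
  toFun g := Multiplicative.ofAdd
    (((M - finrank K ↥(X ⊓ gmap ((g : GL ι K) : Matrix ι ι K) X) : ℕ)) : ZMod 2)
  map_one' := by
    have : gmap (((1 : ↥(GO (⇑Q))) : GL ι K) : Matrix ι ι K) X = X := by
      show gmap (1 : Matrix ι ι K) X = X
      exact gmap_one X
    rw [this, inf_idem, hXm]
    simp
  map_mul' g h := by
    have hev := codim_mul_GO Q hQ hcard hX hXm g h
    rw [← ofAdd_add]
    congr 1
    have h0 : (((M - finrank K ↥(X ⊓ gmap ((g : GL ι K) : Matrix ι ι K) X))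
      + (M - finrank K ↥(X ⊓ gmap ((h : GL ι K) : Matrix ι ι K) X))
      + (M - finrank K ↥(X ⊓ gmap (((g * h : ↥(GO (⇑Q))) : GL ι K) : Matrix ι ι K) X)) : ℕ) :
        ZMod 2) = 0 :=
      (ZMod.natCast_eq_zero_iff_even).mpr hev
    push_cast at h0
    have hneg : ∀ a : ZMod 2, -a = a := by decide
    rw [← hneg (_ + _)]
    linear_combination h0

theorem chiGO_apply (g : ↥(GO (⇑Q))) :
    chiGO Q hQ hcard hX hXm g = Multiplicative.ofAdd
      (((M - finrank K ↥(X ⊓ gmap ((g : GL ι K) : Matrix ι ι K) X) : ℕ)) : ZMod 2) := rfl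

theorem chiGO_eq_one_iff (g : ↥(GO (⇑Q))) :
    chiGO Q hQ hcard hX hXm g = 1 ↔
      PreservesSingularClasses (⇑Q) ((g : GL ι K) : Matrix ι ι K) := by
  rw [preserves_iff Q hQ hcard hX hXm g, chiGO_apply, ← ZMod.natCast_eq_zero_iff_even]
  constructor
  · intro h5
    have := congrArg Multiplicative.toAdd h5
    simpa using this
  · intro h5; rw [h5]; rfl

/-- similarities stabilising `X` have trivial class character -/
theorem chiGO_of_stab (g : ↥(GO (⇑Q))) (hg : gmap ((g : GL ι K) : Matrix ι ι K) X = X) :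
    chiGO Q hQ hcard hX hXm g = 1 := by
  rw [chiGO_apply, hg, inf_idem, hXm]
  simp

theorem chiGO_scalarGO (a : Kˣ) :
    chiGO Q hQ hcard hX hXm (Cfsg.Agent.Lib.Helper44_OrthCoset.scalarGO Q a) = 1 := by
  apply chiGO_of_stab
  rw [Cfsg.Agent.Lib.Helper44_OrthCoset.scalarGO_coe]
  ext w
  rw [mem_gmap]
  constructor
  · rintro ⟨y, hy, rfl⟩
    rw [Matrix.GeneralLinearGroup.coe_scalar, Matrix.scalar_apply, ← Matrix.smul_one_eq_diagonal,
      Matrix.smul_mulVec, Matrix.one_mulVec]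
    exact X.smul_mem _ hy
  · intro hw
    refine ⟨((a⁻¹ : Kˣ) : K) • w, X.smul_mem _ hw, ?_⟩
    rw [Matrix.GeneralLinearGroup.coe_scalar, Matrix.scalar_apply, ← Matrix.smul_one_eq_diagonal,
      Matrix.smul_mulVec, Matrix.one_mulVec, smul_smul, ← Units.val_mul, mul_inv_cancel,
      Units.val_one, one_smul]

/-- the class character is invariant under field automorphisms stabilising `X` -/
theorem chiGO_mapGO (hXσ : ∀ (τ : K ≃+* K) (v : ι → K), v ∈ X → (fun i => τ (v i)) ∈ X)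
    (σ : ↥(invSub (⇑Q))) (g : ↥(GO (⇑Q))) :
    chiGO Q hQ hcard hX hXm (mapGO (⇑Q) σ g) = chiGO Q hQ hcard hX hXm g := by
  rw [chiGO_apply, chiGO_apply]
  congr 3
  have h1 : ((mapGO (⇑Q) σ g : ↥(GO (⇑Q))) : GL ι K).1 = ((g : GL ι K) : Matrix ι ι K).map σ.1 := by
    rw [mapGO_coe, mapGLi_coe]
  rw [h1]
  have h2 : X ⊓ gmap (((g : GL ι K) : Matrix ι ι K).map σ.1) X =
      sigSub σ.1 (X ⊓ gmap ((g : GL ι K) : Matrix ι ι K) X) := by
    rw [sigSub_inf, sigSub_gmap, sigSub_eq_self σ.1 X hXσ]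
  rw [h2, finrank_sigSub]

end chi

end Cfsg.Agent.Lib.Helper44_OrthChi
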