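import Mathlib
import Cfsg.Agent.Lib.Helper44_OrthLang
import Cfsg.Agent.Lib.Helper40_QuadStd

/-!
# Cohomologous cocycles in `GO(Q)` and the type of the descended form (helper44)

For a `σ`-invariant quadratic form `Q` and a cocycle `g ∈ GO(Q)` (`g σ(g) ⋯ σ^{r-1}(g) = 1`), Hilbert 90
gives a `σ`-invariant form `K` similar to `Q`; two cocycles whose forms are similar by a `σ`-fixed matrix
are cohomologous.  In even dimension the descended form is of plus or minus type, and of plus type when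
the order of `σ` is odd and `Q` is hyperbolic.
-/

set_option autoImplicit false
set_option linter.unusedSectionVars false
set_option linter.unusedVariables false

namespace Cfsg.Agent.Lib.Helper44_OrthCoh

open Cfsg Matrix Module Cfsg.Agent.Lib.Helper44_Orth Cfsg.Agent.Lib.Helper14_AutOmega
  Cfsg.Agent.Lib.Helper44_H90i Cfsg.Agent.Lib.Helper44_H90 Cfsg.Agent.Lib.Helper44_OrthField
  Cfsg.Agent.Lib.Helper44_FixField Cfsg.Agent.Lib.Helper44_OrthLang
  Cfsg.Agent.Lib.Helper40_QuadIso Cfsg.Agent.Lib.Helper40_QuadStd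
  Cfsg.Agent.Lib.Helper44_StdForms

variable {ι : Type} [Fintype ι] [DecidableEq ι] {F : Type*} [Field F] (σ : F ≃+* F)

/-- `K` is a form attached to the cocycle `g` -/
def IsCocForm (Q : QuadraticForm F (ι → F)) (g : GL ι F) (K : QuadraticForm F (ι → F)) : Prop :=
  ∃ (h : GL ι F) (b : Fˣ), g * mapGLi σ h = h ∧ ∀ v, K v = (b : F) * Q (h.1 *ᵥ v)

/-- every cocycle has a `σ`-invariant form -/
theorem exists_cocForm (Q : QuadraticForm F (ι → F)) (hQσ : SigInv (⇑Q) σ) {r : ℕ} (hr : 0 < r)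
    (hord : orderOf σ = r) (hQne : ∃ v, Q v ≠ 0) (g : ↥(GO (⇑Q))) (hg : PNi σ g.1 r = 1) :
    ∃ K : QuadraticForm F (ι → F), SigInv (⇑K) σ ∧ IsCocForm σ Q g.1 K := by
  classical
  have hσ : σ ^ r = 1 := by rw [← hord]; exact pow_orderOf_eq_one σ
  obtain ⟨h, hh⟩ := hilbert90_GLi σ hr hord g.1 hg
  have hh' : h.1 = g.1.1 * h.1.map σ := by
    have := congrArg Units.val hh
    rw [Units.val_mul, mapGLi_coe] at this
    exact this.symm
  obtain ⟨c, hc⟩ := g.2
  set K₁ : QuadraticForm F (ι → F) := Q.comp (Matrix.toLin' h.1) with hK₁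
  have hK₁v : ∀ v, K₁ v = Q (h.1 *ᵥ v) := fun v => by
    rw [hK₁, QuadraticMap.comp_apply, Matrix.toLin'_apply]
  have hK₁σ : ∀ v : ι → F, K₁ (fun i => σ (v i)) = (c : F) * σ (K₁ v) := by
    intro v
    rw [hK₁v, hK₁v]
    conv_lhs => rw [hh']
    rw [← Matrix.mulVec_mulVec]
    have h1 : h.1.map σ *ᵥ (fun i => σ (v i)) = fun i => σ ((h.1 *ᵥ v) i) :=
      (comp_mulVeci σ h.1 v).symm
    rw [h1, hc, hQσ]
  have hN : Nm σ r c = 1 := by
    obtain ⟨v, hv⟩ := hQne
    have h1 := iterate_semi σ (⇑K₁) c hK₁σ r ((h⁻¹ : GL ι F).1 *ᵥ v)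
    rw [hσ] at h1
    have h2 : K₁ ((h⁻¹ : GL ι F).1 *ᵥ v) = Q v := by
      rw [hK₁v, Matrix.mulVec_mulVec, ← Units.val_mul, mul_inv_cancel, Units.val_one,
        Matrix.one_mulVec]
    have h3 : (fun j => (1 : F ≃+* F) (((h⁻¹ : GL ι F).1 *ᵥ v) j)) = (h⁻¹ : GL ι F).1 *ᵥ v := rfl
    rw [h3, h2] at h1
    have h4 : (1 : F ≃+* F) (Q v) = Q v := rfl
    rw [h4] at h1
    apply Units.ext
    rw [Units.val_one]
    exact (mul_right_cancel₀ hv (by rw [one_mul]; exact h1)).symm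
  obtain ⟨b, hb⟩ := hilbert90_units σ hr hord c hN
  have hb' : (c : F) * σ (b : F) = b := by
    have := congrArg Units.val hb
    rw [Units.val_mul] at this
    exact this
  set K : QuadraticForm F (ι → F) := ((b⁻¹ : Fˣ) : F) • K₁ with hK
  have hKv : ∀ v, K v = ((b⁻¹ : Fˣ) : F) * Q (h.1 *ᵥ v) := fun v => by
    rw [hK, _root_.smul_apply, smul_eq_mul, hK₁v]
  have hKσ : SigInv (⇑K) σ := by
    intro v
    rw [hK, _root_.smul_apply, _root_.smul_apply, smul_eq_mul, smul_eq_mul, hK₁σ,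
      map_mul]
    have h2 : sigU σ b⁻¹ = b⁻¹ * c := by
      have h3 : sigU σ b = c⁻¹ * b := eq_inv_mul_of_mul_eq hb
      rw [map_inv, h3, _root_.mul_inv_rev, inv_inv]
    have h1 : σ ((b⁻¹ : Fˣ) : F) = ((b⁻¹ : Fˣ) : F) * (c : F) := by
      have := congrArg Units.val h2
      rw [Units.val_mul] at this
      exact this
    rw [h1]
    ring
  exact ⟨K, hKσ, h, b⁻¹, hh, hKv⟩

/-- cocycles with `σ`-similar forms are cohomologous -/
theorem coh_of_sigSim (Q : QuadraticForm F (ι → F)) (g g' : ↥(GO (⇑Q)))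
    (K K' : QuadraticForm F (ι → F)) (hK : IsCocForm σ Q g.1 K) (hK' : IsCocForm σ Q g'.1 K')
    (a : GL ι F) (d : Fˣ) (ha : mapGLi σ a = a) (had : ∀ v, K' (a.1 *ᵥ v) = (d : F) * K v) :
    ∃ k : ↥(GO (⇑Q)), g'.1 * mapGLi σ k.1 = k.1 * g.1 := by
  obtain ⟨h, b, hh, hKv⟩ := hK
  obtain ⟨h', b', hh', hK'v⟩ := hK'
  have hkmem : h' * a * h⁻¹ ∈ GO (⇑Q) := by
    refine ⟨b'⁻¹ * d * b, fun v => ?_⟩
    have h1 := hK'v (a.1 *ᵥ ((h⁻¹ : GL ι F).1 *ᵥ v))
    have e1 : h.1 *ᵥ ((h⁻¹ : GL ι F).1 *ᵥ v) = v := by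
      rw [Matrix.mulVec_mulVec, ← Units.val_mul, mul_inv_cancel, Units.val_one, Matrix.one_mulVec]
    have e2 : h'.1 *ᵥ (a.1 *ᵥ ((h⁻¹ : GL ι F).1 *ᵥ v)) = (h' * a * h⁻¹ : GL ι F).1 *ᵥ v := by
      rw [Units.val_mul, Units.val_mul, Matrix.mulVec_mulVec, Matrix.mulVec_mulVec, Matrix.mul_assoc]
    rw [had, hKv, e1, e2] at h1
    have h2 : ((b'⁻¹ : Fˣ) : F) * (b' : F) = 1 := by
      rw [← Units.val_mul, inv_mul_cancel, Units.val_one]
    calc Q ((h' * a * h⁻¹ : GL ι F).1 *ᵥ v)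
        = ((b'⁻¹ : Fˣ) : F) * ((b' : F) * Q ((h' * a * h⁻¹ : GL ι F).1 *ᵥ v)) := by
          rw [← mul_assoc, h2, one_mul]
      _ = ((b'⁻¹ : Fˣ) : F) * ((d : F) * ((b : F) * Q v)) := by rw [← h1]
      _ = _ := by
        have : ((b'⁻¹ * d * b : Fˣ) : F) = ((b'⁻¹ : Fˣ) : F) * (d : F) * (b : F) := by
          rw [Units.val_mul, Units.val_mul]
        rw [this]
        ring
  refine ⟨⟨h' * a * h⁻¹, hkmem⟩, ?_⟩
  show g'.1 * mapGLi σ (h' * a * h⁻¹) = h' * a * h⁻¹ * g.1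
  have e1 : mapGLi σ h = g.1⁻¹ * h := eq_inv_mul_of_mul_eq hh
  have e2 : mapGLi σ h' = g'.1⁻¹ * h' := eq_inv_mul_of_mul_eq hh'
  rw [map_mul, map_mul, map_inv, ha, e1, e2]
  group

/-- a form similar to a nondegenerate form is nondegenerate -/
theorem nondegenerate_of_similar (Q K : QuadraticForm F (ι → F))
    (hQnd : (QuadraticMap.polarBilin Q).Nondegenerate) (h : GL ι F) (β : Fˣ)
    (hK : ∀ v, K v = (β : F) * Q (h.1 *ᵥ v)) : (QuadraticMap.polarBilin K).Nondegenerate := by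
  have key : ∀ x y, QuadraticMap.polarBilin K x y =
      (β : F) * QuadraticMap.polarBilin Q (h.1 *ᵥ x) (h.1 *ᵥ y) := by
    intro x y
    simp only [QuadraticMap.polarBilin_apply_apply, QuadraticMap.polar]
    rw [hK, hK, hK, Matrix.mulVec_add]
    ring
  have hinj : ∀ x : ι → F, h.1 *ᵥ x = 0 → x = 0 := by
    intro x hx
    have := congrArg (fun y => (h⁻¹ : GL ι F).1 *ᵥ y) hx
    simp only [Matrix.mulVec_mulVec, Matrix.mulVec_zero] at this
    rwa [← Units.val_mul, inv_mul_cancel, Units.val_one, Matrix.one_mulVec] at this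
  have hsurj : ∀ y : ι → F, ∃ x, h.1 *ᵥ x = y := by
    intro y
    refine ⟨(h⁻¹ : GL ι F).1 *ᵥ y, ?_⟩
    rw [Matrix.mulVec_mulVec, ← Units.val_mul, mul_inv_cancel, Units.val_one, Matrix.one_mulVec]
  constructor
  · intro x hx
    apply hinj
    apply hQnd.1
    intro y
    obtain ⟨y', rfl⟩ := hsurj y
    have := hx y'
    rw [key] at this
    exact (mul_eq_zero.mp this).resolve_left β.ne_zero
  · intro y hy
    apply hinj
    apply hQnd.2
    intro x
    obtain ⟨x', rfl⟩ := hsurj x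
    have := hy x'
    rw [key] at this
    exact (mul_eq_zero.mp this).resolve_left β.ne_zero

/-- a form similar to a hyperbolic form is hyperbolic -/
theorem isHyp_of_similar (Q K : QuadraticForm F (ι → F)) (hQ : IsHyp Q) (h : GL ι F) (β : Fˣ)
    (hK : ∀ v, K v = (β : F) * Q (h.1 *ᵥ v)) : IsHyp K := by
  obtain ⟨U, hU, hdim⟩ := hQ
  have hinj : Function.Injective (Matrix.toLin' (h⁻¹ : GL ι F).1) := by
    intro x y hxy
    have := congrArg (fun z => h.1 *ᵥ z) hxy
    simp only [Matrix.toLin'_apply, Matrix.mulVec_mulVec] at this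
    rwa [← Units.val_mul, mul_inv_cancel, Units.val_one, Matrix.one_mulVec,
      Matrix.one_mulVec] at this
  refine ⟨U.map (Matrix.toLin' (h⁻¹ : GL ι F).1), ?_, ?_⟩
  · rintro _ ⟨u, hu, rfl⟩
    rw [hK, Matrix.toLin'_apply, Matrix.mulVec_mulVec, ← Units.val_mul, mul_inv_cancel,
      Units.val_one, Matrix.one_mulVec, hU u hu, mul_zero]
  · rw [← (Submodule.equivMapOfInjective _ hinj U).finrank_eq]
    exact hdim

/-- an isometry of the descended forms gives a `σ`-fixed isometry -/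
theorem sigSim_of_iso (K K' : QuadraticForm F (ι → F)) (hK : SigInv (⇑K) σ) (hK' : SigInv (⇑K') σ)
    (h : Iso (descQ σ K hK) (descQ σ K' hK')) :
    ∃ a : GL ι F, mapGLi σ a = a ∧ ∀ v, K' (a.1 *ᵥ v) = K v := by
  obtain ⟨φ, hφ⟩ := h
  set P : Matrix ι ι (fixField σ) :=
    LinearMap.toMatrix' (φ : (ι → fixField σ) →ₗ[fixField σ] (ι → fixField σ)) with hP
  set P' : Matrix ι ι (fixField σ) :=
    LinearMap.toMatrix' (φ.symm : (ι → fixField σ) →ₗ[fixField σ] (ι → fixField σ)) with hP'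
  have hPP' : P * P' = 1 := by
    rw [hP, hP', ← LinearMap.toMatrix'_comp]
    have : (φ : (ι → fixField σ) →ₗ[fixField σ] (ι → fixField σ)).comp
        (φ.symm : (ι → fixField σ) →ₗ[fixField σ] (ι → fixField σ)) = LinearMap.id := by
      ext x
      simp
    rw [this, LinearMap.toMatrix'_id]
  have hP'P : P' * P = 1 := by
    rw [hP, hP', ← LinearMap.toMatrix'_comp]
    have : (φ.symm : (ι → fixField σ) →ₗ[fixField σ] (ι → fixField σ)).comp
        (φ : (ι → fixField σ) →ₗ[fixField σ] (ι → fixField σ)) = LinearMap.id := by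
      ext x
      simp
    rw [this, LinearMap.toMatrix'_id]
  have hPv : ∀ v, descQ σ K' hK' (P *ᵥ v) = descQ σ K hK v := by
    intro v
    rw [hP, LinearMap.toMatrix'_mulVec]
    exact hφ v
  let ι₀ : fixField σ →+* F := (fixField σ).subtype
  have hPQ' : P.map ι₀ * P'.map ι₀ = 1 := by
    rw [← Matrix.map_mul, hPP']
    exact Matrix.map_one ι₀ (map_zero ι₀) (map_one ι₀)
  have hQP' : P'.map ι₀ * P.map ι₀ = 1 := by
    rw [← Matrix.map_mul, hP'P]
    exact Matrix.map_one ι₀ (map_zero ι₀) (map_one ι₀)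
  let a : GL ι F := ⟨P.map ι₀, P'.map ι₀, hPQ', hQP'⟩
  have haσ : mapGLi σ a = a := by
    apply Units.ext
    rw [mapGLi_coe]
    ext i j
    exact (mem_fixField σ _).mp (P i j).2
  refine ⟨a, haσ, ?_⟩
  have heq : K'.comp (Matrix.toLin' a.1) = K := by
    apply ext_of_up σ
    intro v
    rw [QuadraticMap.comp_apply, Matrix.toLin'_apply]
    show K' (P.map ι₀ *ᵥ up σ v) = K (up σ v)
    rw [← up_mulVec, ← descQ_coe σ K' hK', hPv, descQ_coe]
  intro v
  have := congrArg (fun G : QuadraticForm F (ι → F) => G v) heq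
  simp only [QuadraticMap.comp_apply, Matrix.toLin'_apply] at this
  exact this

section types

variable {F₀ : Type*} [Field F₀] [Fintype F₀]

/-- forms of the same type are isometric -/
theorem iso_of_types {M : ℕ} (hM : 1 ≤ M) (hcard : Fintype.card ι = 2 * M)
    (K₁ K₂ : QuadraticForm F₀ (ι → F₀))
    (h₁ : (QuadraticMap.polarBilin K₁).Nondegenerate)
    (h₂ : (QuadraticMap.polarBilin K₂).Nondegenerate)
    (h : Iso K₁ (qfPlus M F₀) ↔ Iso K₂ (qfPlus M F₀)) : Iso K₁ K₂ := by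
  obtain ⟨ζ, hζ⟩ := exists_aniso (F := F₀)
  have hV : finrank F₀ (ι → F₀) = 2 * M := by
    rw [Module.finrank_fintype_fun_eq_card, hcard]
  rcases iso_plus_or_minus M hM hV K₁ h₁ 1 ζ hζ with p1 | m1
  · exact p1.trans (h.mp p1).symm
  · rcases iso_plus_or_minus M hM hV K₂ h₂ 1 ζ hζ with p2 | m2
    · exact (h.mpr p2).trans p2.symm
    · exact m1.trans m2.symm

end types

section oddDegree

/-- anisotropic binary forms over the fixed field of an automorphism of odd order stay anisotropic -/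
theorem aniso_of_odd {r : ℕ} (hord : orderOf σ = r) (hodd : Odd r) (ζ : fixField σ)
    (hζ : ∀ z₁ z₂ : fixField σ, z₁ ^ 2 + 1 * z₁ * z₂ + ζ * z₂ ^ 2 = 0 → z₁ = 0 ∧ z₂ = 0) :
    ∀ z₁ z₂ : F, z₁ ^ 2 + 1 * z₁ * z₂ + (ζ : F) * z₂ ^ 2 = 0 → z₁ = 0 ∧ z₂ = 0 := by
  intro z₁ z₂ h
  by_cases hz : z₂ = 0
  · subst hz
    refine ⟨?_, rfl⟩
    have h1 : z₁ ^ 2 = 0 := by linear_combination h
    exact pow_eq_zero_iff (two_ne_zero) |>.1 h1
  · exfalso
    set t : F := z₁ / z₂ with ht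
    have hroot : t ^ 2 + t + (ζ : F) = 0 := by
      rw [ht]
      field_simp
      linear_combination h
    have hζσ : σ (ζ : F) = ζ := (mem_fixField σ _).mp ζ.2
    have hroot' : (σ t) ^ 2 + σ t + (ζ : F) = 0 := by
      have := congrArg σ hroot
      rw [map_add, map_add, map_pow, hζσ, map_zero] at this
      exact this
    -- a fixed root contradicts anisotropy
    have hfix : σ t ≠ t := by
      intro hσt
      have hmem : t ∈ fixField σ := (mem_fixField σ t).mpr hσt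
      have h1 := hζ ⟨t, hmem⟩ 1 (by
        apply Subtype.ext
        push_cast
        linear_combination hroot)
      exact one_ne_zero h1.2
    have hprod : (σ t - t) * (σ t + t + 1) = 0 := by linear_combination hroot' - hroot
    have hσt : σ t = -1 - t := by
      rcases mul_eq_zero.mp hprod with h1 | h1
      · exact absurd (sub_eq_zero.mp h1) hfix
      · linear_combination h1
    have hσ2 : (σ ^ 2) t = t := by
      show σ (σ t) = t
      rw [hσt, map_sub, map_neg, map_one, hσt]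
      ring
    have hpow : ∀ k : ℕ, ((σ ^ 2) ^ k) t = t := by
      intro k
      induction k with
      | zero => rfl
      | succ k ih =>
        rw [pow_succ]
        show ((σ ^ 2) ^ k) ((σ ^ 2) t) = t
        rw [hσ2, ih]
    obtain ⟨k, hk⟩ := hodd
    have hσr : σ ^ r = 1 := by rw [← hord]; exact pow_orderOf_eq_one σ
    have h3 : σ = (σ ^ 2) ^ (k + 1) := by
      rw [← pow_mul]
      have : 2 * (k + 1) = r + 1 := by omega
      rw [this, pow_succ, hσr, one_mul]
    apply hfix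
    have := hpow (k + 1)
    rw [← h3] at this
    exact this

theorem up_mulVec_rect {κ : Type} [Fintype κ] (P : Matrix κ ι (fixField σ))
    (v : ι → fixField σ) :
    up σ (P *ᵥ v) = P.map (fixField σ).subtype *ᵥ up σ v := by
  funext i
  exact RingHom.map_mulVec (fixField σ).subtype P v i

theorem qfMinus_up (n : ℕ) (a c : fixField σ) (w : (Fin n ⊕ Fin n) ⊕ Fin 2 → fixField σ) :
    qfMinus n F (a : F) (c : F) (up σ w) = ((qfMinus n (fixField σ) a c w : fixField σ) : F) := by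
  have h1 := congrFun (coe_qfMinus n F (a : F) (c : F)) (up σ w)
  have h2 := congrFun (coe_qfMinus n (fixField σ) a c) w
  rw [h1, h2]
  simp only [Cfsg.quadFormMinus, up_apply]
  push_cast
  rfl

variable [Fintype F]

/-- over an extension of odd degree, a form that becomes hyperbolic is of plus type -/
theorem plus_of_odd {M : ℕ} (hM : 1 ≤ M) (hcard : Fintype.card ι = 2 * M)
    (K : QuadraticForm F (ι → F)) (hKσ : SigInv (⇑K) σ)
    (hKnd : (QuadraticMap.polarBilin K).Nondegenerate) (hKhyp : IsHyp K)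
    {r : ℕ} (hord : orderOf σ = r) (hodd : Odd r) :
    Iso (descQ σ K hKσ) (qfPlus M (fixField σ)) := by
  classical
  let _ : Fintype (fixField σ) := Fintype.ofFinite _
  obtain ⟨ζ, hζ⟩ := exists_aniso (F := fixField σ)
  have hV : finrank (fixField σ) (ι → fixField σ) = 2 * M := by
    rw [Module.finrank_fintype_fun_eq_card, hcard]
  rcases iso_plus_or_minus M hM hV (descQ σ K hKσ) (descQ_nondegenerate σ K hKσ hKnd) 1 ζ hζ
    with p | ⟨φ, hφ⟩
  · exact p
  exfalso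
  set P : Matrix ((Fin (M - 1) ⊕ Fin (M - 1)) ⊕ Fin 2) ι (fixField σ) :=
    LinearMap.toMatrix' (φ : (ι → fixField σ) →ₗ[fixField σ] ((Fin (M - 1) ⊕ Fin (M - 1)) ⊕ Fin 2 → fixField σ)) with hP
  set P' : Matrix ι ((Fin (M - 1) ⊕ Fin (M - 1)) ⊕ Fin 2) (fixField σ) :=
    LinearMap.toMatrix' (φ.symm : ((Fin (M - 1) ⊕ Fin (M - 1)) ⊕ Fin 2 → fixField σ) →ₗ[fixField σ] (ι → fixField σ)) with hP'
  have hPP' : P * P' = 1 := by
    rw [hP, hP', ← LinearMap.toMatrix'_comp]
    have : (φ : (ι → fixField σ) →ₗ[fixField σ] ((Fin (M - 1) ⊕ Fin (M - 1)) ⊕ Fin 2 → fixField σ)).comp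
        (φ.symm : ((Fin (M - 1) ⊕ Fin (M - 1)) ⊕ Fin 2 → fixField σ) →ₗ[fixField σ] (ι → fixField σ)) = LinearMap.id := by
      ext x
      simp
    rw [this, LinearMap.toMatrix'_id]
  have hP'P : P' * P = 1 := by
    rw [hP, hP', ← LinearMap.toMatrix'_comp]
    have : (φ.symm : ((Fin (M - 1) ⊕ Fin (M - 1)) ⊕ Fin 2 → fixField σ) →ₗ[fixField σ] (ι → fixField σ)).comp
        (φ : (ι → fixField σ) →ₗ[fixField σ] ((Fin (M - 1) ⊕ Fin (M - 1)) ⊕ Fin 2 → fixField σ)) = LinearMap.id := by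
      ext x
      simp
    rw [this, LinearMap.toMatrix'_id]
  have hPv : ∀ v, qfMinus (M - 1) (fixField σ) 1 ζ (P *ᵥ v) = descQ σ K hKσ v := by
    intro v
    rw [hP, LinearMap.toMatrix'_mulVec]
    exact hφ v
  let ι₀ : fixField σ →+* F := (fixField σ).subtype
  have hPQ' : P.map ι₀ * P'.map ι₀ = 1 := by
    rw [← Matrix.map_mul, hPP']
    exact Matrix.map_one ι₀ (map_zero ι₀) (map_one ι₀)
  have hQP' : P'.map ι₀ * P.map ι₀ = 1 := by
    rw [← Matrix.map_mul, hP'P]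
    exact Matrix.map_one ι₀ (map_zero ι₀) (map_one ι₀)
  let Φ : (ι → F) ≃ₗ[F] ((Fin (M - 1) ⊕ Fin (M - 1)) ⊕ Fin 2 → F) :=
    LinearEquiv.ofLinearMap (Matrix.toLin' (P.map ι₀)) (Matrix.toLin' (P'.map ι₀))
      (by rw [← Matrix.toLin'_mul, hPQ', Matrix.toLin'_one])
      (by rw [← Matrix.toLin'_mul, hQP', Matrix.toLin'_one])
  have heq : (qfMinus (M - 1) F ((1 : fixField σ) : F) (ζ : F)).comp (Matrix.toLin' (P.map ι₀)) = K := by
    apply ext_of_up σ
    intro v
    rw [QuadraticMap.comp_apply, Matrix.toLin'_apply, ← up_mulVec_rect, qfMinus_up, hPv, descQ_coe]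
  have hone : ((1 : fixField σ) : F) = 1 := rfl
  rw [hone] at heq
  have hiso : Iso K (qfMinus (M - 1) F 1 (ζ : F)) := by
    refine ⟨Φ, fun v => ?_⟩
    have := congrArg (fun G : QuadraticForm F (ι → F) => G v) heq
    simp only [QuadraticMap.comp_apply] at this
    exact this
  exact not_isHyp_qfMinus (M - 1) 1 (ζ : F) (aniso_of_odd σ hord hodd ζ hζ)
    (IsHyp.of_iso hiso hKhyp)

end oddDegree

end Cfsg.Agent.Lib.Helper44_OrthCoh
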