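import Mathlib
import Cfsg.Agent.Lib.Helper44_OrthChi
import Cfsg.Agent.Lib.Helper44_OrthCoh
import Cfsg.Agent.Lib.Helper44_OrthCoset

/-!
# Cosets of field and graph-field automorphisms of even-dimensional orthogonal groups (helper44)

Generic machinery: a character `χ : GO(Q) → Z/2` (trivial on scalars, invariant under field
automorphisms), the subgroup `D = Phi (ker χ)` of `Aut(PΩ(Q))`, and the statement that an element of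
prime order `r` in the coset `D x`, `x = Phi c₀ * fieldO σ`, is `D`-conjugate to `x`.
-/

set_option autoImplicit false
set_option linter.unusedSectionVars false
set_option linter.unusedVariables false

namespace Cfsg.Agent.Lib.Helper44_OrthEvenCoset

open Cfsg Matrix Module Cfsg.Agent.Lib.Helper44_Orth Cfsg.Agent.Lib.Helper14_AutOmega
  Cfsg.Agent.Lib.Helper44_H90i Cfsg.Agent.Lib.Helper44_H90 Cfsg.Agent.Lib.Helper44_OrthField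
  Cfsg.Agent.Lib.Helper44_FixField Cfsg.Agent.Lib.Helper44_OrthLang
  Cfsg.Agent.Lib.Helper44_OrthFaith Cfsg.Agent.Lib.Helper14_CentOmega
  Cfsg.Agent.Lib.Helper44_OrthCoset Cfsg.Agent.Lib.Helper44_OrthCoh
  Cfsg.Agent.Lib.Helper40_QuadIso Cfsg.Agent.Lib.Helper40_QuadStd
  Cfsg.Agent.Lib.Helper44_StdForms

variable {ι : Type} [Fintype ι] [DecidableEq ι] {F : Type*} [Field F] [Fintype F]
  (Q : QuadraticForm F (ι → F))

theorem z2_mul_eq_one : ∀ a b : Multiplicative (ZMod 2), a ≠ 1 → b ≠ 1 → a * b = 1 := by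
  decide

theorem PNi_one (σ : F ≃+* F) (i : ℕ) : PNi σ (1 : GL ι F) i = 1 := by
  induction i with
  | zero => rfl
  | succ i ih => rw [PNi_succ, ih, map_one, one_mul]

theorem PNi_two_of_fixed (σ : F ≃+* F) (g : GL ι F) (hg : mapGLi σ g = g) (h2 : g * g = 1) :
    PNi σ g 2 = 1 := by
  rw [PNi_succ, PNi_succ, PNi_zero, pow_zero, mapGLi_one, pow_one, hg, one_mul, h2]

/-- the cohomology hypothesis -/
def CohHyp (χ : ↥(GO (⇑Q)) →* Multiplicative (ZMod 2)) (σ : ↥(invSub (⇑Q))) (r : ℕ) : Prop :=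
  ∀ g g' : ↥(GO (⇑Q)), PNi σ.1 g.1 r = 1 → PNi σ.1 g'.1 r = 1 → χ g = χ g' →
    ∃ k : ↥(GO (⇑Q)), g'.1 * mapGLi σ.1 k.1 = k.1 * g.1

/-- cohomologous cocycles have the same character -/
theorem chi_eq_of_coh (χ : ↥(GO (⇑Q)) →* Multiplicative (ZMod 2)) (σ : ↥(invSub (⇑Q)))
    (hχσ : ∀ g, χ (mapGO (⇑Q) σ g) = χ g) (g g' k : ↥(GO (⇑Q)))
    (h : g'.1 * mapGLi σ.1 k.1 = k.1 * g.1) : χ g' = χ g := by
  have h1 : g' * mapGO (⇑Q) σ k = k * g := Subtype.ext h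
  have h2 := congrArg χ h1
  rw [map_mul, map_mul, hχσ, mul_comm] at h2
  exact mul_left_cancel h2

/-- cocycles whose descended forms have the same type are cohomologous -/
theorem coh_of_type_iff {M : ℕ} (hM : 1 ≤ M) (hcard : Fintype.card ι = 2 * M)
    (hQ : (QuadraticMap.polarBilin Q).Nondegenerate) (σ : F ≃+* F)
    (g g' : ↥(GO (⇑Q))) (K K' : QuadraticForm F (ι → F)) (hKσ : SigInv (⇑K) σ)
    (hK'σ : SigInv (⇑K') σ) (hK : IsCocForm σ Q g.1 K) (hK' : IsCocForm σ Q g'.1 K')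
    (ht : Iso (descQ σ K hKσ) (qfPlus M (fixField σ)) ↔
      Iso (descQ σ K' hK'σ) (qfPlus M (fixField σ))) :
    ∃ k : ↥(GO (⇑Q)), g'.1 * mapGLi σ k.1 = k.1 * g.1 := by
  classical
  let _ : Fintype (fixField σ) := Fintype.ofFinite _
  have hKnd : (QuadraticMap.polarBilin K).Nondegenerate := by
    obtain ⟨h, b, -, hKv⟩ := hK
    exact nondegenerate_of_similar Q K hQ h b hKv
  have hK'nd : (QuadraticMap.polarBilin K').Nondegenerate := by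
    obtain ⟨h, b, -, hKv⟩ := hK'
    exact nondegenerate_of_similar Q K' hQ h b hKv
  have hiso := iso_of_types hM hcard (descQ σ K hKσ) (descQ σ K' hK'σ)
    (descQ_nondegenerate σ K hKσ hKnd) (descQ_nondegenerate σ K' hK'σ hK'nd) ht
  obtain ⟨a, haσ, ha⟩ := sigSim_of_iso σ K K' hKσ hK'σ hiso
  exact coh_of_sigSim σ Q g g' K K' hK hK' a 1 haσ (fun v => by rw [ha, Units.val_one, one_mul])

/-- **the cohomology hypothesis for hyperbolic forms** -/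
theorem cohHyp_of_hyp {M : ℕ} (hM : 1 ≤ M) (hcard : Fintype.card ι = 2 * M)
    (hQ : (QuadraticMap.polarBilin Q).Nondegenerate) (hQhyp : IsHyp Q) (hQne : ∃ v, Q v ≠ 0)
    (χ : ↥(GO (⇑Q)) →* Multiplicative (ZMod 2)) (σ : ↥(invSub (⇑Q)))
    (hχσ : ∀ g, χ (mapGO (⇑Q) σ g) = χ g) {r : ℕ} (hr : r.Prime) (hord : orderOf σ.1 = r)
    (r₀ : ↥(GO (⇑Q))) (hr₀σ : mapGLi σ.1 r₀.1 = r₀.1) (hr₀2 : r₀.1 * r₀.1 = 1) (hχr₀ : χ r₀ ≠ 1) :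
    CohHyp Q χ σ r := by
  classical
  intro g g' hg hg' hχ
  obtain ⟨K, hKσ, hK⟩ := exists_cocForm σ.1 Q σ.2 hr.pos hord hQne g hg
  obtain ⟨K', hK'σ, hK'⟩ := exists_cocForm σ.1 Q σ.2 hr.pos hord hQne g' hg'
  have hnd : ∀ (c : ↥(GO (⇑Q))) (L : QuadraticForm F (ι → F)), IsCocForm σ.1 Q c.1 L →
      (QuadraticMap.polarBilin L).Nondegenerate ∧ IsHyp L := by
    rintro c L ⟨h, b, -, hLv⟩
    exact ⟨nondegenerate_of_similar Q L hQ h b hLv, isHyp_of_similar Q L hQhyp h b hLv⟩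
  apply coh_of_type_iff Q hM hcard hQ σ.1 g g' K K' hKσ hK'σ hK hK'
  rcases hr.eq_two_or_odd' with h2 | hodd
  · -- `r = 2`
    subst h2
    by_contra hne
    have h1c : PNi σ.1 (1 : ↥(GO (⇑Q))).1 2 = 1 := PNi_one σ.1 2
    have hrc : PNi σ.1 r₀.1 2 = 1 := PNi_two_of_fixed σ.1 r₀.1 hr₀σ hr₀2
    obtain ⟨K₁, hK₁σ, hK₁⟩ := exists_cocForm σ.1 Q σ.2 hr.pos hord hQne 1 h1c
    obtain ⟨Kr, hKrσ, hKr⟩ := exists_cocForm σ.1 Q σ.2 hr.pos hord hQne r₀ hrc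
    have key : ∀ (c c' : ↥(GO (⇑Q))) (L L' : QuadraticForm F (ι → F)) (hL : SigInv (⇑L) σ.1)
        (hL' : SigInv (⇑L') σ.1), IsCocForm σ.1 Q c.1 L → IsCocForm σ.1 Q c'.1 L' →
        (Iso (descQ σ.1 L hL) (qfPlus M (fixField σ.1)) ↔
          Iso (descQ σ.1 L' hL') (qfPlus M (fixField σ.1))) → χ c' = χ c := by
      intro c c' L L' hL hL' hcL hcL' ht
      obtain ⟨k, hk⟩ := coh_of_type_iff Q hM hcard hQ σ.1 c c' L L' hL hL' hcL hcL' ht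
      exact chi_eq_of_coh Q χ σ hχσ c c' k hk
    have hne1 : ¬ (Iso (descQ σ.1 K₁ hK₁σ) (qfPlus M (fixField σ.1)) ↔
        Iso (descQ σ.1 Kr hKrσ) (qfPlus M (fixField σ.1))) := by
      intro ht
      have := key 1 r₀ K₁ Kr hK₁σ hKrσ hK₁ hKr ht
      rw [map_one] at this
      exact hχr₀ this
    have hcases : ((Iso (descQ σ.1 K hKσ) (qfPlus M (fixField σ.1)) ↔
          Iso (descQ σ.1 K₁ hK₁σ) (qfPlus M (fixField σ.1))) ∧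
        (Iso (descQ σ.1 K' hK'σ) (qfPlus M (fixField σ.1)) ↔
          Iso (descQ σ.1 Kr hKrσ) (qfPlus M (fixField σ.1)))) ∨
        ((Iso (descQ σ.1 K hKσ) (qfPlus M (fixField σ.1)) ↔
          Iso (descQ σ.1 Kr hKrσ) (qfPlus M (fixField σ.1))) ∧
        (Iso (descQ σ.1 K' hK'σ) (qfPlus M (fixField σ.1)) ↔
          Iso (descQ σ.1 K₁ hK₁σ) (qfPlus M (fixField σ.1)))) := by
      tauto
    rcases hcases with ⟨ha, hb⟩ | ⟨ha, hb⟩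
    · have e1 := key g 1 K K₁ hKσ hK₁σ hK hK₁ ha
      have e2 := key g' r₀ K' Kr hK'σ hKrσ hK' hKr hb
      rw [map_one] at e1
      apply hχr₀
      rw [e2, ← hχ, ← e1]
    · have e1 := key g r₀ K Kr hKσ hKrσ hK hKr ha
      have e2 := key g' 1 K' K₁ hK'σ hK₁σ hK' hK₁ hb
      rw [map_one] at e2
      apply hχr₀
      rw [e1, hχ, ← e2]
  · -- `r` odd
    have p1 := plus_of_odd σ.1 hM hcard K hKσ (hnd g K hK).1 (hnd g K hK).2 hord hodd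
    have p2 := plus_of_odd σ.1 hM hcard K' hK'σ (hnd g' K' hK').1 (hnd g' K' hK').2 hord hodd
    exact ⟨fun _ => p2, fun _ => p1⟩

/-- normalisation of an element of order dividing `r` in a field coset to a cocycle -/
theorem exists_normalized (hQ : (QuadraticMap.polarBilin Q).Nondegenerate)
    (hn : 5 ≤ Fintype.card ι) (σ : ↥(invSub (⇑Q))) {r : ℕ} (hr : 0 < r)
    (hord : orderOf σ.1 = r) (g : ↥(GO (⇑Q))) (h : (Phi (⇑Q) g * fieldO (⇑Q) σ) ^ r = 1) :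
    ∃ a : Fˣ, PNi σ.1 (scalarGO Q a * g).1 r = 1 := by
  have hne : Nonempty ι := by
    rw [← Fintype.card_pos_iff]; omega
  have hσ : σ.1 ^ r = 1 := by rw [← hord]; exact pow_orderOf_eq_one σ.1
  have hσ' : σ ^ r = 1 := Subtype.ext (by rw [Subgroup.coe_pow, hσ]; rfl)
  rw [pow_Phi_mul_fieldO, hσ', map_one, mul_one] at h
  have hker : PNO (⇑Q) σ g r ∈ (Phi (⇑Q)).ker := MonoidHom.mem_ker.mpr h
  rw [ker_Phi Q hQ hn, Subgroup.mem_subgroupOf] at hker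
  obtain ⟨c, hc⟩ := exists_scalar_of_mem_scalars' hker
  rw [PNO_coe] at hc
  have hfix : sigU σ.1 c = c := by
    have h1 := PNi_succ' σ.1 g.1 r
    rw [PNi_succ, hσ, mapGLi_one, hc, Matrix.GeneralLinearGroup.map_scalar,
      Matrix.GeneralLinearGroup.scalar_commute] at h1
    exact (scalarGL_injective' (mul_left_cancel h1)).symm
  obtain ⟨a, ha⟩ := exists_norm_eq σ.1 hr hord c hfix
  refine ⟨a⁻¹, ?_⟩
  have : (scalarGO Q a⁻¹ * g).1 = Matrix.GeneralLinearGroup.scalar ι a⁻¹ * g.1 := rfl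
  rw [this, PNi_scalar_mul', hc, ← map_mul, map_inv, ha, inv_mul_cancel, map_one]

/-- conjugating a field automorphism by `Phi k` -/
theorem conj_fieldO (σ : ↥(invSub (⇑Q))) (k : ↥(GO (⇑Q))) :
    fieldO (⇑Q) σ * (Phi (⇑Q) k)⁻¹ = (Phi (⇑Q) (mapGO (⇑Q) σ k))⁻¹ * fieldO (⇑Q) σ := by
  have h3 := fieldO_mul_Phi (⇑Q) σ k
  calc fieldO (⇑Q) σ * (Phi (⇑Q) k)⁻¹
      = (Phi (⇑Q) (mapGO (⇑Q) σ k))⁻¹ * (Phi (⇑Q) (mapGO (⇑Q) σ k) * fieldO (⇑Q) σ) *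
          (Phi (⇑Q) k)⁻¹ := by group
    _ = (Phi (⇑Q) (mapGO (⇑Q) σ k))⁻¹ * (fieldO (⇑Q) σ * Phi (⇑Q) k) * (Phi (⇑Q) k)⁻¹ := by
        rw [h3]
    _ = _ := by group

section grp

variable {A : Type*} [Group A]

theorem grp_main (Pg Pc φ Pk Pc1 Pc2 Pσk : A) (h2 : Pc2 = Pg * Pc) (h1 : Pc1 = Pc)
    (he : Pc2 = Pk * Pc1 * Pσk⁻¹) (hφ : φ * Pk⁻¹ = Pσk⁻¹ * φ) :
    Pg * (Pc * φ) = Pk * (Pc * φ) * Pk⁻¹ := by
  calc Pg * (Pc * φ) = Pc2 * φ := by rw [h2, mul_assoc]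
    _ = Pk * Pc * (Pσk⁻¹ * φ) := by rw [he, h1]; group
    _ = Pk * Pc * (φ * Pk⁻¹) := by rw [hφ]
    _ = _ := by group

theorem grp_cent (Pz Pc φ : A) (hc : Pz * Pc = Pc * Pz) (hφ : φ * Pz⁻¹ = Pz⁻¹ * φ) :
    Pz * (Pc * φ) * Pz⁻¹ = Pc * φ := by
  calc Pz * (Pc * φ) * Pz⁻¹ = (Pz * Pc) * (φ * Pz⁻¹) := by group
    _ = (Pc * Pz) * (Pz⁻¹ * φ) := by rw [hc, hφ]
    _ = _ := by group

theorem grp_adjust (Pk Pz x y : A) (hy : y = Pk * x * Pk⁻¹) (hz : Pz * x * Pz⁻¹ = x) :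
    y = (Pk * Pz) * x * (Pk * Pz)⁻¹ := by
  calc y = Pk * x * Pk⁻¹ := hy
    _ = Pk * (Pz * x * Pz⁻¹) * Pk⁻¹ := by rw [hz]
    _ = _ := by group

end grp

/-- **the coset statement in standard position** -/
theorem coset_conj_aux (hQ : (QuadraticMap.polarBilin Q).Nondegenerate)
    (hn : 5 ≤ Fintype.card ι) (χ : ↥(GO (⇑Q)) →* Multiplicative (ZMod 2))
    (hχs : ∀ a : Fˣ, χ (scalarGO Q a) = 1) (σ : ↥(invSub (⇑Q)))
    (hχσ : ∀ g, χ (mapGO (⇑Q) σ g) = χ g) {r : ℕ} (hr : 0 < r) (hord : orderOf σ.1 = r)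
    (hcoh : CohHyp Q χ σ r) (c₀ z : ↥(GO (⇑Q))) (hz : mapGO (⇑Q) σ z = z)
    (hzc : z * c₀ = c₀ * z) (hχz : χ z ≠ 1)
    (hx : (Phi (⇑Q) c₀ * fieldO (⇑Q) σ) ^ r = 1) (g : ↥(GO (⇑Q))) (hg : χ g = 1)
    (hy : (Phi (⇑Q) g * (Phi (⇑Q) c₀ * fieldO (⇑Q) σ)) ^ r = 1) :
    ∃ k : ↥(GO (⇑Q)), χ k = 1 ∧ Phi (⇑Q) g * (Phi (⇑Q) c₀ * fieldO (⇑Q) σ) =
      Phi (⇑Q) k * (Phi (⇑Q) c₀ * fieldO (⇑Q) σ) * (Phi (⇑Q) k)⁻¹ := by
  obtain ⟨a₀, ha₀⟩ := exists_normalized Q hQ hn σ hr hord c₀ hx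
  have hy' : (Phi (⇑Q) (g * c₀) * fieldO (⇑Q) σ) ^ r = 1 := by
    rw [map_mul, mul_assoc]; exact hy
  obtain ⟨a, ha⟩ := exists_normalized Q hQ hn σ hr hord (g * c₀) hy'
  obtain ⟨c₁, hc₁⟩ : ∃ c : ↥(GO (⇑Q)), c = scalarGO Q a₀ * c₀ := ⟨_, rfl⟩
  obtain ⟨c₂, hc₂⟩ : ∃ c : ↥(GO (⇑Q)), c = scalarGO Q a * (g * c₀) := ⟨_, rfl⟩
  rw [← hc₁] at ha₀
  rw [← hc₂] at ha
  have hχ12 : χ c₁ = χ c₂ := by
    rw [hc₁, hc₂]
    simp only [map_mul, hχs, hg, one_mul]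
  obtain ⟨k, hk⟩ := hcoh c₁ c₂ ha₀ ha hχ12
  have hk' : c₂ * mapGO (⇑Q) σ k = k * c₁ := Subtype.ext hk
  have hP1 : Phi (⇑Q) c₁ = Phi (⇑Q) c₀ := by rw [hc₁, map_mul, Phi_scalarGO, one_mul]
  have hP2 : Phi (⇑Q) c₂ = Phi (⇑Q) g * Phi (⇑Q) c₀ := by
    rw [hc₂, map_mul, Phi_scalarGO, one_mul, map_mul]
  have e1 : Phi (⇑Q) c₂ = Phi (⇑Q) k * Phi (⇑Q) c₁ * (Phi (⇑Q) (mapGO (⇑Q) σ k))⁻¹ := by
    have e0 : c₂ = k * c₁ * (mapGO (⇑Q) σ k)⁻¹ := eq_mul_inv_of_mul_eq hk'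
    have := congrArg (Phi (⇑Q)) e0
    rw [map_mul, map_mul, map_inv] at this
    exact this
  have hmain := grp_main _ _ _ _ _ _ _ hP2 hP1 e1 (conj_fieldO Q σ k)
  by_cases hχk : χ k = 1
  · exact ⟨k, hχk, hmain⟩
  · refine ⟨k * z, ?_, ?_⟩
    · rw [map_mul]; exact z2_mul_eq_one _ _ hχk hχz
    · have e2 : fieldO (⇑Q) σ * (Phi (⇑Q) z)⁻¹ = (Phi (⇑Q) z)⁻¹ * fieldO (⇑Q) σ := by
        have := conj_fieldO Q σ z
        rw [hz] at this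
        exact this
      have e3 : Phi (⇑Q) z * Phi (⇑Q) c₀ = Phi (⇑Q) c₀ * Phi (⇑Q) z := by
        rw [← map_mul, ← map_mul, hzc]
      have hzx := grp_cent _ _ _ e3 e2
      have := grp_adjust _ _ _ _ hmain hzx
      rw [map_mul]
      exact this

/-- the image of the kernel of an invariant character is normal in `Aut(PΩ(Q))` -/
theorem map_ker_normal (htop : stdAut (⇑Q) = ⊤) (χ : ↥(GO (⇑Q)) →* Multiplicative (ZMod 2))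
    (hχσ : ∀ (σ : ↥(invSub (⇑Q))) g, χ (mapGO (⇑Q) σ g) = χ g) :
    ((χ.ker).map (Phi (⇑Q))).Normal := by
  constructor
  rintro _ ⟨k, hk, rfl⟩ β
  have hβ : β ∈ stdAut (⇑Q) := by rw [htop]; exact Subgroup.mem_top β
  obtain ⟨g, σ, rfl⟩ := hβ
  refine ⟨g * mapGO (⇑Q) σ k * g⁻¹, ?_, ?_⟩
  · rw [SetLike.mem_coe, MonoidHom.mem_ker] at hk ⊢
    rw [map_mul, map_mul, map_inv, hχσ, hk, mul_one, mul_inv_cancel]
  · rw [map_mul, map_mul, map_inv]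
    have e := fieldO_mul_Phi (⇑Q) σ k
    obtain ⟨φ, hφ⟩ : ∃ φ, φ = fieldO (⇑Q) σ := ⟨_, rfl⟩
    obtain ⟨Pk, hPk⟩ : ∃ φ, φ = Phi (⇑Q) k := ⟨_, rfl⟩
    obtain ⟨Pg, hPg⟩ : ∃ φ, φ = Phi (⇑Q) g := ⟨_, rfl⟩
    obtain ⟨Ps, hPs⟩ : ∃ φ, φ = Phi (⇑Q) (mapGO (⇑Q) σ k) := ⟨_, rfl⟩
    rw [← hφ, ← hPk, ← hPs] at e
    rw [← hφ, ← hPk, ← hPs, ← hPg]
    calc Pg * Ps * Pg⁻¹ = Pg * (Ps * φ) * φ⁻¹ * Pg⁻¹ := by group
      _ = Pg * (φ * Pk) * φ⁻¹ * Pg⁻¹ := by rw [e]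
      _ = _ := by group

/-- a field automorphism in the image of `GO` is trivial -/
theorem sigma_eq_one_of_mem_range' (hQ : (QuadraticMap.polarBilin Q).Nondegenerate)
    (hn : 5 ≤ Fintype.card ι) (hfd : FaithData Q) (σ : ↥(invSub (⇑Q)))
    (h : fieldO (⇑Q) σ ∈ (Phi (⇑Q)).range) : σ = 1 := by
  obtain ⟨g, hg⟩ := h
  obtain ⟨u, w, hu, hw, huw, hN, hfu, hfw⟩ := hfd
  exact Subtype.ext
    (eq_one_of_fieldO_eq_Phi Q hQ hn σ g hg.symm u w hu hw huw hN (hfu σ.1) (hfw σ.1))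

/-- the order of the field automorphism underlying an element of prime order -/
theorem orderOf_sigma (hQ : (QuadraticMap.polarBilin Q).Nondegenerate)
    (hn : 5 ≤ Fintype.card ι) (hfd : FaithData Q) (σ : ↥(invSub (⇑Q))) (hσ1 : σ ≠ 1)
    (c₀ : ↥(GO (⇑Q))) {r : ℕ} (hr : r.Prime)
    (hx : (Phi (⇑Q) c₀ * fieldO (⇑Q) σ) ^ r = 1) : orderOf σ.1 = r := by
  rw [pow_Phi_mul_fieldO] at hx
  have h1 : fieldO (⇑Q) (σ ^ r) ∈ (Phi (⇑Q)).range := by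
    refine ⟨(PNO (⇑Q) σ c₀ r)⁻¹, ?_⟩
    rw [map_inv]
    exact inv_eq_of_mul_eq_one_right hx
  have h2 := sigma_eq_one_of_mem_range' Q hQ hn hfd _ h1
  have h3 : orderOf σ ∣ r := orderOf_dvd_of_pow_eq_one h2
  rw [Subgroup.orderOf_coe]
  rcases (Nat.dvd_prime hr).mp h3 with h4 | h4
  · exact absurd (orderOf_eq_one_iff.mp h4) hσ1
  · exact h4

/-- **the coset statement**, generic even-dimensional form -/
theorem coset_conj_even (hQ : (QuadraticMap.polarBilin Q).Nondegenerate)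
    (hn : 5 ≤ Fintype.card ι) (hfd : FaithData Q)
    (hall : ∀ σ : F ≃+* F, SigInv (⇑Q) σ) (hAut : gammaPOmega F (⇑Q) = ⊤)
    (χ : ↥(GO (⇑Q)) →* Multiplicative (ZMod 2)) (hχs : ∀ a : Fˣ, χ (scalarGO Q a) = 1)
    (hχσ : ∀ (σ : ↥(invSub (⇑Q))) g, χ (mapGO (⇑Q) σ g) = χ g)
    (x δ α : MulAut (POmega F (⇑Q))) (σ : ↥(invSub (⇑Q))) (hσ1 : σ ≠ 1)
    (c₀ z : ↥(GO (⇑Q))) (hz : mapGO (⇑Q) σ z = z) (hzc : z * c₀ = c₀ * z) (hχz : χ z ≠ 1)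
    (hαx : α * x * α⁻¹ = Phi (⇑Q) c₀ * fieldO (⇑Q) σ) {r : ℕ} (hr : r.Prime)
    (hxr : orderOf x = r) (hcoh : orderOf σ.1 = r → CohHyp Q χ σ r)
    (hδ : δ ∈ (χ.ker).map (Phi (⇑Q))) :
    orderOf (δ * x) = r ↔ IsConjUnder ((χ.ker).map (Phi (⇑Q))) x (δ * x) := by
  have htop := stdAut_eq_top (⇑Q) hall hAut
  have hN : ((χ.ker).map (Phi (⇑Q))).Normal := map_ker_normal Q htop χ hχσ
  constructor
  swap
  · rintro ⟨h, -, hh⟩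
    rw [hh, ← MulAut.conj_apply, MulEquiv.orderOf_eq]
    exact hxr
  intro hord
  have hx' : (Phi (⇑Q) c₀ * fieldO (⇑Q) σ) ^ r = 1 := by
    rw [← hαx, conj_pow, ← hxr, pow_orderOf_eq_one, mul_one, mul_inv_cancel]
  have hordσ := orderOf_sigma Q hQ hn hfd σ hσ1 c₀ hr hx'
  obtain ⟨g, hgχ, hg⟩ : ∃ g : ↥(GO (⇑Q)), χ g = 1 ∧ α * δ * α⁻¹ = Phi (⇑Q) g := by
    obtain ⟨g, hgk, hg⟩ := hN.conj_mem δ hδ α
    exact ⟨g, MonoidHom.mem_ker.mp hgk, hg.symm⟩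
  apply isConjUnder_of_conj'' _ α
  have hy' : (Phi (⇑Q) g * (Phi (⇑Q) c₀ * fieldO (⇑Q) σ)) ^ r = 1 := by
    rw [← hg, ← hαx]
    have : (α * δ * α⁻¹) * (α * x * α⁻¹) = α * (δ * x) * α⁻¹ := by group
    rw [this, conj_pow, ← hord, pow_orderOf_eq_one, mul_one, mul_inv_cancel]
  obtain ⟨k, hkχ, hk⟩ := coset_conj_aux Q hQ hn χ hχs σ (hχσ σ) hr.pos hordσ (hcoh hordσ) c₀ z
    hz hzc hχz hx' g hgχ hy'
  refine ⟨Phi (⇑Q) k, ⟨k, MonoidHom.mem_ker.mpr hkχ, rfl⟩, ?_⟩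
  rw [hg, hαx]
  exact hk

end Cfsg.Agent.Lib.Helper44_OrthEvenCoset
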