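import Mathlib
import Cfsg.Agent.Lib.Helper14_OrthPsiInv

/-!
# Transport of similarity-induced automorphisms along isomorphisms `PΩ(Q) ≃* PΩ(Q')` (helper44)

For two isometric quadratic forms `Q`, `Q'` on `ι → F` (with `Aut(PΩ(Q')) = PΓO(Q')`), every
isomorphism `ψ : PΩ(Q) ≃* PΩ(Q')` carries the automorphism induced by a similarity `g` of `Q` to the
automorphism induced by a similarity `g'` of `Q'` whose determinant and multiplier are the images of
those of `g` under one field automorphism.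
-/

set_option autoImplicit false
set_option linter.unusedSectionVars false
set_option linter.unusedVariables false

namespace Cfsg.Agent.Lib.Helper44_OrthIsoTransport

open Cfsg Matrix Cfsg.Agent.Lib.Helper44_Orth Cfsg.Agent.Lib.Helper14_AutOmega
  Cfsg.Agent.Lib.Helper7_OrthInduced Cfsg.Agent.Lib.Helper14_OrthGamma
  Cfsg.Agent.Lib.Helper14_OrthGamma2 Cfsg.Agent.Lib.Helper14_GOChars
  Cfsg.Agent.Lib.Helper14_CentOmega Cfsg.Agent.Lib.Helper14_OrthPsiInv

section generic

variable {G G' : Type*} [Group G] [Group G']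

theorem map_commutator_equiv (e : G ≃* G') :
    (commutator G).map e.toMonoidHom = commutator G' := by
  rw [commutator_def, commutator_def, Subgroup.map_commutator]
  have h : (⊤ : Subgroup G).map e.toMonoidHom = ⊤ := by
    rw [← MonoidHom.range_eq_map, MonoidHom.range_eq_top]
    exact e.surjective
  rw [h]

/-- an isomorphism of groups, restricted to the commutator subgroups -/
noncomputable def commEquiv (e : G ≃* G') : ↥(commutator G) ≃* ↥(commutator G') :=
  (e.subgroupMap (commutator G)).trans (MulEquiv.subgroupCongr (map_commutator_equiv e))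

theorem commEquiv_coe (e : G ≃* G') (s : ↥(commutator G)) :
    ((commEquiv e s : ↥(commutator G')) : G') = e s := rfl

theorem map_center_equiv (e : G ≃* G') :
    (Subgroup.center G).map e.toMonoidHom = Subgroup.center G' := by
  ext x
  constructor
  · rintro ⟨g, hg, rfl⟩
    rw [Subgroup.mem_center_iff]
    intro y
    obtain ⟨y', rfl⟩ := e.surjective y
    have := Subgroup.mem_center_iff.mp hg y'
    show e y' * e g = e g * e y'
    rw [← map_mul, ← map_mul, this]
  · intro hx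
    refine ⟨e.symm x, ?_, by simp⟩
    rw [SetLike.mem_coe, Subgroup.mem_center_iff]
    intro y
    have := Subgroup.mem_center_iff.mp hx (e y)
    apply e.injective
    rw [map_mul, map_mul, e.apply_symm_apply]
    exact this

/-- an isomorphism of groups induces an isomorphism of the central quotients of the commutator
subgroups -/
noncomputable def pcEquiv (e : G ≃* G') :
    (↥(commutator G) ⧸ Subgroup.center ↥(commutator G)) ≃*
      (↥(commutator G') ⧸ Subgroup.center ↥(commutator G')) :=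
  QuotientGroup.congr _ _ (commEquiv e) (map_center_equiv (commEquiv e))

theorem pcEquiv_mk (e : G ≃* G') (s : ↥(commutator G)) :
    pcEquiv e (QuotientGroup.mk s) = QuotientGroup.mk (commEquiv e s) := rfl

/-- conjugating an automorphism along a composite isomorphism -/
theorem congr_eq_conj {T T' : Type*} [Group T] [Group T'] (e ψ : T ≃* T') (β : MulAut T) :
    MulAut.congr ψ β =
      (e.symm.trans ψ : MulAut T') * MulAut.congr e β * (e.symm.trans ψ : MulAut T')⁻¹ := by
  apply MulEquiv.ext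
  intro t
  show ψ (β (ψ.symm t)) = ψ (e.symm (e (β (e.symm (e (ψ.symm t))))))
  rw [MulEquiv.symm_apply_apply, MulEquiv.symm_apply_apply]

end generic

section iso

variable {ι : Type} [Fintype ι] [DecidableEq ι] {F : Type*} [Field F]

/-- `P` is an isometry from `Q` to `Q'` -/
def IsIsom (Q Q' : (ι → F) → F) (P : GL ι F) : Prop := ∀ v, Q' (P.1 *ᵥ v) = Q v

variable {Q Q' : (ι → F) → F} {P : GL ι F}

theorem IsIsom.inv (h : IsIsom Q Q' P) : IsIsom Q' Q P⁻¹ := by
  intro v
  have := h ((P⁻¹ : GL ι F).1 *ᵥ v)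
  rw [Matrix.mulVec_mulVec, ← Units.val_mul, mul_inv_cancel, Units.val_one,
    Matrix.one_mulVec] at this
  exact this.symm

theorem IsIsom.conj_mem (h : IsIsom Q Q' P) {s : GL ι F} (hs : s ∈ isometryGroup F Q) :
    P * s * P⁻¹ ∈ isometryGroup F Q' := by
  rw [mem_isometryGroup_iff] at hs ⊢
  intro v
  rw [Units.val_mul, Units.val_mul, ← Matrix.mulVec_mulVec, ← Matrix.mulVec_mulVec, h, hs, h.inv]

theorem IsIsom.conj_mem_GO (h : IsIsom Q Q' P) {g : GL ι F} (hg : g ∈ GO Q) :
    P * g * P⁻¹ ∈ GO Q' := by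
  obtain ⟨c, hc⟩ := hg
  refine ⟨c, fun v => ?_⟩
  rw [Units.val_mul, Units.val_mul, ← Matrix.mulVec_mulVec, ← Matrix.mulVec_mulVec, h, hc, h.inv]

/-- conjugation by an isometry, on the isometry groups -/
def isoG (h : IsIsom Q Q' P) : ↥(isometryGroup F Q) ≃* ↥(isometryGroup F Q') where
  toFun s := ⟨P * s.1 * P⁻¹, h.conj_mem s.2⟩
  invFun s := ⟨P⁻¹ * s.1 * P, by
    have := h.inv.conj_mem s.2
    rwa [inv_inv] at this⟩
  left_inv s := Subtype.ext (by simp [mul_assoc])
  right_inv s := Subtype.ext (by simp [mul_assoc])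
  map_mul' s t := Subtype.ext (by simp [mul_assoc])

theorem isoG_coe (h : IsIsom Q Q' P) (s : ↥(isometryGroup F Q)) :
    ((isoG h s : ↥(isometryGroup F Q')) : GL ι F) = P * s.1 * P⁻¹ := rfl

/-- conjugation by an isometry, on the groups `PΩ` -/
noncomputable def isoT (h : IsIsom Q Q' P) : POmega F Q ≃* POmega F Q' := pcEquiv (isoG h)

theorem isoT_mk (h : IsIsom Q Q' P) (s : ↥(Omega F Q)) :
    isoT h (QuotientGroup.mk s) = QuotientGroup.mk (commEquiv (isoG h) s) := rfl

/-- conjugation by an isometry, on the similarity groups -/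
def cgGO (h : IsIsom Q Q' P) (g : ↥(GO Q)) : ↥(GO Q') := ⟨P * g.1 * P⁻¹, h.conj_mem_GO g.2⟩

theorem cgGO_coe (h : IsIsom Q Q' P) (g : ↥(GO Q)) :
    ((cgGO h g : ↥(GO Q')) : GL ι F) = P * g.1 * P⁻¹ := rfl

theorem mu_cgGO (h : IsIsom Q Q' P) (hne' : ∃ v, Q' v ≠ 0) (g : ↥(GO Q)) :
    mu Q' (cgGO h g) = mu Q g := by
  apply mu_eq Q' hne'
  intro v
  rw [cgGO_coe, Units.val_mul, Units.val_mul, ← Matrix.mulVec_mulVec, ← Matrix.mulVec_mulVec, h,
    mu_spec Q g, h.inv]

theorem det_cgGO (h : IsIsom Q Q' P) (g : ↥(GO Q)) :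
    ((cgGO h g : ↥(GO Q')) : GL ι F).1.det = (g : GL ι F).1.det := by
  rw [cgGO_coe, Units.val_mul, Units.val_mul]
  exact Matrix.det_units_conj P _

theorem congr_isoT_Phi (h : IsIsom Q Q' P) (g : ↥(GO Q)) :
    MulAut.congr (isoT h) (Phi Q g) = Phi Q' (cgGO h g) := by
  apply MulEquiv.ext
  intro t'
  obtain ⟨t, rfl⟩ := (isoT h).surjective t'
  obtain ⟨s, rfl⟩ := QuotientGroup.mk_surjective t
  show isoT h (Phi Q g ((isoT h).symm (isoT h (QuotientGroup.mk s)))) = _
  rw [MulEquiv.symm_apply_apply, Phi_mk, isoT_mk, isoT_mk, Phi_mk]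
  congr 1
  apply Subtype.ext
  apply Subtype.ext
  show P * ((g : GL ι F) * ((s : ↥(isometryGroup F Q)) : GL ι F) * (g : GL ι F)⁻¹) * P⁻¹ =
    (P * (g : GL ι F) * P⁻¹) * (P * ((s : ↥(isometryGroup F Q)) : GL ι F) * P⁻¹) *
      (P * (g : GL ι F) * P⁻¹)⁻¹
  group

end iso

section transport

variable {ι : Type} [Fintype ι] [DecidableEq ι] {F : Type*} [Field F] [Fintype F]

/-- conjugating a similarity-induced automorphism by any automorphism -/
theorem conj_Phi_eq {Q' : QuadraticForm F (ι → F)} (S' : Setup Q')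
    (α : MulAut (POmega F (⇑Q'))) (g' : ↥(GO (⇑Q'))) :
    ∃ (τ : F ≃+* F) (h : GL ι F) (hs : IsSemisimilarityPair (⇑Q') h τ),
      α * Phi (⇑Q') g' * α⁻¹ = Phi (⇑Q') (twGO (⇑Q') hs g') := by
  obtain ⟨τ, h, hs, rfl⟩ := S'.exists_pair α
  refine ⟨τ, h, hs, ?_⟩
  have hd1 : ∀ e : ↥(GO (⇑Q')), IsSemisimilarityPair (⇑Q') (e : GL ι F) 1 := by
    intro e
    obtain ⟨c, hc⟩ := e.2
    exact ⟨c, fun v => hc v⟩
  have hrel : twistP (⇑Q') h τ hs * Phi (⇑Q') g' =
      Phi (⇑Q') (twGO (⇑Q') hs g') * twistP (⇑Q') h τ hs := by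
    rw [← S'.twistP_refl_eq_Phi g' (hd1 g'), ← S'.twistP_refl_eq_Phi _ (hd1 (twGO (⇑Q') hs g')),
      twistP_mul hs (hd1 g'), twistP_mul (hd1 (twGO (⇑Q') hs g')) hs]
    apply twistP_congr
    · rw [twGO_coe, twist_apply, sigGL_one]
      group
    · rw [mul_one, one_mul]
  rw [hrel]
  group

/-- **transport of similarity-induced automorphisms** -/
theorem transport (Q Q' : QuadraticForm F (ι → F)) (S' : Setup Q') (hne' : ∃ v, Q' v ≠ 0)
    {P : GL ι F} (hP : IsIsom (⇑Q) (⇑Q') P) (ψ : POmega F (⇑Q) ≃* POmega F (⇑Q'))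
    (g : ↥(GO (⇑Q))) :
    ∃ (g' : ↥(GO (⇑Q'))) (τ : F ≃+* F), MulAut.congr ψ (Phi (⇑Q) g) = Phi (⇑Q') g' ∧
      (g' : GL ι F).1.det = τ ((g : GL ι F).1.det) ∧
      ((mu (⇑Q') g' : Fˣ) : F) = τ ((mu (⇑Q) g : Fˣ) : F) := by
  obtain ⟨τ, h, hs, hconj⟩ := conj_Phi_eq S' ((isoT hP).symm.trans ψ) (cgGO hP g)
  refine ⟨twGO (⇑Q') hs (cgGO hP g), τ, ?_, ?_, ?_⟩
  · rw [congr_eq_conj (isoT hP) ψ, congr_isoT_Phi]
    exact hconj
  · rw [det_twGO, det_cgGO]
  · rw [mu_twGO (⇑Q') hne' hs, mu_cgGO hP hne']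
    rfl

end transport

end Cfsg.Agent.Lib.Helper44_OrthIsoTransport
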