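import Mathlib
import Cfsg.Agent.Lib.Helper44_OrthEvenCoset
import Cfsg.Agent.Lib.Helper14_InndiagPlus

/-!
# Field and graph-field automorphisms of `PΩ⁺_{2m}(q)`: the coset statement (helper44)

The statement of S2736, modulo `Aut(PΩ⁺_{2m}(q)) = PΓO⁺_{2m}(q)` (S2695).
-/

set_option autoImplicit false
set_option linter.unusedSectionVars false
set_option linter.unusedVariables false

namespace Cfsg.Agent.Lib.Helper44_OrthPlusMain

open Cfsg Matrix Module Cfsg.Agent.Lib.Helper44_Orth Cfsg.Agent.Lib.Helper14_AutOmega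
  Cfsg.Agent.Lib.Helper44_H90i Cfsg.Agent.Lib.Helper44_H90 Cfsg.Agent.Lib.Helper44_OrthField
  Cfsg.Agent.Lib.Helper44_FixField Cfsg.Agent.Lib.Helper44_OrthLang
  Cfsg.Agent.Lib.Helper44_OrthFaith Cfsg.Agent.Lib.Helper14_CentOmega
  Cfsg.Agent.Lib.Helper44_OrthCoset Cfsg.Agent.Lib.Helper44_OrthCoh
  Cfsg.Agent.Lib.Helper40_QuadIso Cfsg.Agent.Lib.Helper40_QuadStd
  Cfsg.Agent.Lib.Helper44_StdForms Cfsg.Agent.Lib.Helper44_OrthChi
  Cfsg.Agent.Lib.Helper44_OrthEvenCoset Cfsg.Agent.Lib.Helper44_Refl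
  Cfsg.Agent.Lib.Helper14_Classes Cfsg.Agent.Lib.Helper14_SingClasses
  Cfsg.Agent.Lib.Helper14_InndiagPlus

section reflections

variable {ι : Type} [Fintype ι] [DecidableEq ι] {F : Type*} [Field F]
  (Q : QuadraticForm F (ι → F))

/-- a reflection as an element of the similarity group -/
def reflGO (v : ι → F) (hv : Q v ≠ 0) : ↥(GO (⇑Q)) :=
  ⟨((refl Q v hv : ↥(isometryGroup F (⇑Q))) : GL ι F), isometryGroup_le_GO (⇑Q) (refl Q v hv).2⟩

theorem reflGO_coe (v : ι → F) (hv : Q v ≠ 0) :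
    ((reflGO Q v hv : ↥(GO (⇑Q))) : GL ι F).1 = Cfsg.reflectionMatrix (⇑Q) v := rfl

theorem reflGO_mul_self (v : ι → F) (hv : Q v ≠ 0) :
    (reflGO Q v hv).1 * (reflGO Q v hv).1 = 1 := by
  apply Units.ext
  exact reflectionMatrix_mul_self Q hv

theorem reflectionMatrix_map {σ : F ≃+* F} (hσ : SigInv (⇑Q) σ) (v : ι → F)
    (hv : ∀ i, σ (v i) = v i) :
    (Cfsg.reflectionMatrix (⇑Q) v).map σ = Cfsg.reflectionMatrix (⇑Q) v := by
  have hQv : σ (Q v) = Q v := by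
    rw [← hσ v]
    congr 1
    funext i
    exact hv i
  ext i j
  simp only [Cfsg.reflectionMatrix, Matrix.map_apply, Matrix.sub_apply, Matrix.smul_apply,
    Matrix.vecMulVec_apply, smul_eq_mul, map_sub, map_mul, map_inv₀, hQv, hv,
    polarVec_map (⇑Q) hσ v hv]
  congr 1
  by_cases hij : i = j
  · subst hij
    simp
  · simp [Matrix.one_apply_ne hij]

theorem mapGLi_reflGO {σ : F ≃+* F} (hσ : SigInv (⇑Q) σ) (v : ι → F) (hv : Q v ≠ 0)
    (hvσ : ∀ i, σ (v i) = v i) : mapGLi σ (reflGO Q v hv).1 = (reflGO Q v hv).1 := by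
  apply Units.ext
  rw [mapGLi_coe, reflGO_coe]
  exact reflectionMatrix_map Q hσ v hvσ

theorem mapGO_reflGO (σ : ↥(invSub (⇑Q))) (v : ι → F) (hv : Q v ≠ 0)
    (hvσ : ∀ i, σ.1 (v i) = v i) : mapGO (⇑Q) σ (reflGO Q v hv) = reflGO Q v hv := by
  apply Subtype.ext
  rw [mapGO_coe]
  exact mapGLi_reflGO Q σ.2 v hv hvσ

theorem chiGO_reflGO (hQ : (QuadraticMap.polarBilin Q).Nondegenerate) {M : ℕ}
    (hcard : Fintype.card ι = 2 * M) {X : Submodule F (ι → F)} (hX : ∀ u ∈ X, Q u = 0)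
    (hXm : finrank F X = M) (v : ι → F) (hv : Q v ≠ 0) :
    chiGO Q hQ hcard hX hXm (reflGO Q v hv) = Multiplicative.ofAdd 1 := by
  rw [← classChar_refl Q hQ hcard hX hXm v hv]
  rfl

end reflections

section plus

variable {F : Type*} [Field F] (m : ℕ)

theorem ringEquiv_single' {κ : Type*} [DecidableEq κ] (σ : F ≃+* F) (k i : κ) :
    σ ((Pi.single k 1 : κ → F) i) = (Pi.single k 1 : κ → F) i := by
  by_cases hik : i = k
  · subst hik
    rw [Pi.single_eq_same, map_one]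
  · rw [Pi.single_eq_of_ne hik, map_zero]

theorem sigInv_qfPlus (σ : F ≃+* F) : SigInv (⇑(qfPlus m F)) σ := by
  intro v
  rw [coe_qfPlus]
  simp only [Cfsg.quadFormPlus, map_sum, map_mul]

theorem card_plus : Fintype.card (Fin m ⊕ Fin m) = 2 * m := by
  rw [Fintype.card_sum, Fintype.card_fin]; ring

theorem X0_sigma (τ : F ≃+* F) (v : Fin m ⊕ Fin m → F) (hv : v ∈ X0 (F := F) m) :
    (fun i => τ (v i)) ∈ X0 (F := F) m := by
  rw [mem_X0] at hv ⊢
  intro i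
  rw [hv i, map_zero]

theorem faithData_qfPlus {m : ℕ} (hm : 2 ≤ m) : FaithData (qfPlus m F) := by
  refine ⟨Pi.single (Sum.inl ⟨0, by omega⟩) 1, Pi.single (Sum.inl ⟨1, by omega⟩) 1,
    ?_, ?_, ?_, ?_, fun σ i => ringEquiv_single' σ _ i,
    fun σ i => ringEquiv_single' σ _ i⟩
  · rw [qfPlus_single]
  · rw [qfPlus_single]
  · rw [polar_qfPlus_single]
  · intro h0
    have h1 := congrFun (congrFun h0 (Sum.inl ⟨1, by omega⟩)) (Sum.inr ⟨0, by omega⟩)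
    simp only [siegelN, Matrix.sub_apply, Matrix.vecMulVec_apply, Matrix.zero_apply, polarVec] at h1
    rw [polar_qfPlus_single, polar_qfPlus_single] at h1
    simp at h1

/-- the vector `e₀ + f₀` of norm one -/
def v₀ {m : ℕ} (hm : 1 ≤ m) : Fin m ⊕ Fin m → F :=
  Pi.single (Sum.inl ⟨0, by omega⟩) 1 + Pi.single (Sum.inr ⟨0, by omega⟩) 1

theorem qfPlus_v₀ {m : ℕ} (hm : 1 ≤ m) : qfPlus m F (v₀ hm) = 1 := by
  have h := QuadraticMap.map_add (qfPlus m F)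
    (Pi.single (Sum.inl ⟨0, by omega⟩) 1 : Fin m ⊕ Fin m → F) (Pi.single (Sum.inr ⟨0, by omega⟩) 1)
  unfold v₀
  rw [h, qfPlus_single, qfPlus_single, polar_qfPlus_single]
  simp

theorem v₀_fixed {m : ℕ} (hm : 1 ≤ m) (σ : F ≃+* F) (i : Fin m ⊕ Fin m) :
    σ (v₀ (F := F) hm i) = v₀ hm i := by
  unfold v₀
  rw [Pi.add_apply, map_add, ringEquiv_single',
    ringEquiv_single']

end plus

section main

variable {F : Type*} [Field F] [Fintype F]

/-- the class character of the plus form -/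
noncomputable abbrev chiP (m : ℕ) : ↥(GO (⇑(qfPlus m F))) →* Multiplicative (ZMod 2) :=
  chiGO (qfPlus m F) (Cfsg.Agent.Lib.Helper14_POmegaSimple.nondegenerate_qfPlus m) (card_plus m)
    (X0_ts m) (finrank_X0 m)

/-- the inner-diagonal group for a function `Qf` -/
def Dgen {ι : Type} [Fintype ι] [DecidableEq ι] (Qf : (ι → F) → F) :
    Subgroup (MulAut (POmega F Qf)) :=
  autSubgroupOf fun β => ∃ g : GL ι F, g ∈ Geo.quadSimilarityGroup (F := F) Qf ∧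
    PreservesSingularClasses Qf (g : Matrix ι ι F) ∧
    IsInducedBySemilinearPOmega Qf g (RingEquiv.refl F) β

/-- the graph-field predicate for a function `Qf` -/
def GFgen {ι : Type} [Fintype ι] [DecidableEq ι] (Qf : (ι → F) → F)
    (β : MulAut (POmega F Qf)) : Prop :=
  ∃ (α γ φ : MulAut (POmega F Qf)) (σ : F ≃+* F) (v : ι → F) (r : GL ι F),
    σ ≠ RingEquiv.refl F ∧ Qf v ≠ 0 ∧ (∀ i, σ (v i) = v i) ∧
    (r : Matrix ι ι F) = reflectionMatrix Qf v ∧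
    IsInducedBySemilinearPOmega Qf r (RingEquiv.refl F) γ ∧
    IsFieldAutPOmegaOf Qf σ φ ∧ α * β * α⁻¹ = γ * φ

theorem Dgen_eq (m : ℕ) :
    Dgen (⇑(qfPlus m F)) = ((chiP (F := F) m).ker).map (Phi (⇑(qfPlus m F))) := by
  unfold Dgen autSubgroupOf
  have : {β : MulAut (POmega F (⇑(qfPlus m F))) |
      ∃ g : GL (Fin m ⊕ Fin m) F, g ∈ Geo.quadSimilarityGroup (F := F) (⇑(qfPlus m F)) ∧
        PreservesSingularClasses (⇑(qfPlus m F)) (g : Matrix (Fin m ⊕ Fin m) (Fin m ⊕ Fin m) F) ∧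
        IsInducedBySemilinearPOmega (⇑(qfPlus m F)) g (RingEquiv.refl F) β} =
      ((((chiP (F := F) m).ker).map (Phi (⇑(qfPlus m F))) :
        Subgroup (MulAut (POmega F (⇑(qfPlus m F))))) : Set (MulAut (POmega F (⇑(qfPlus m F))))) := by
    ext β
    constructor
    · rintro ⟨g, hg, hpres, hβ⟩
      refine ⟨⟨g, hg⟩, ?_, ?_⟩
      · rw [SetLike.mem_coe, MonoidHom.mem_ker]
        exact (chiGO_eq_one_iff _ _ _ _ _ ⟨g, hg⟩).mpr hpres
      · exact ((isInduced_iff (⇑(qfPlus m F)) ⟨g, hg⟩ β).mp hβ).symm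
    · rintro ⟨g, hg, rfl⟩
      rw [SetLike.mem_coe, MonoidHom.mem_ker] at hg
      exact ⟨g.1, g.2, (chiGO_eq_one_iff _ _ _ _ _ g).mp hg,
        (isInduced_iff (⇑(qfPlus m F)) g _).mpr rfl⟩
  rw [this, Subgroup.closure_eq]

theorem ofAdd_one_ne_one : (Multiplicative.ofAdd (1 : ZMod 2)) ≠ 1 := by decide

/-- the coset statement for a function equal to the plus-type standard form -/
theorem coset_conj_plus_aux {m : ℕ} (hm : 3 ≤ m) (Qf : (Fin m ⊕ Fin m → F) → F)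
    (hQf : Qf = ⇑(qfPlus m F)) (hAut : gammaPOmega F Qf = ⊤)
    (x δ : MulAut (POmega F Qf)) (hx : IsFieldAutClassPOmega Qf x ∨ GFgen Qf x) {r : ℕ}
    (hr : r.Prime) (hxr : orderOf x = r) (hδ : δ ∈ Dgen Qf) :
    orderOf (δ * x) = r ↔ IsConjUnder (Dgen Qf) x (δ * x) := by
  subst hQf
  have hn : 5 ≤ Fintype.card (Fin m ⊕ Fin m) := by rw [card_plus]; omega
  have hQ := Cfsg.Agent.Lib.Helper14_POmegaSimple.nondegenerate_qfPlus (F := F) m
  have hm1 : 1 ≤ m := by omega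
  have hall : ∀ σ : F ≃+* F, SigInv (⇑(qfPlus m F)) σ := sigInv_qfPlus m
  have hv₀ : qfPlus m F (v₀ hm1) ≠ 0 := by rw [qfPlus_v₀]; exact one_ne_zero
  have hQne : ∃ v, qfPlus m F v ≠ 0 := ⟨_, hv₀⟩
  have hχs : ∀ a : Fˣ, chiP (F := F) m (scalarGO (qfPlus m F) a) = 1 :=
    fun a => chiGO_scalarGO _ _ _ _ _ a
  have hχσ : ∀ (σ : ↥(invSub (⇑(qfPlus m F)))) g,
      chiP (F := F) m (mapGO (⇑(qfPlus m F)) σ g) = chiP (F := F) m g :=
    fun σ g => chiGO_mapGO _ _ _ _ _ (X0_sigma m) σ g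
  have hcoh : ∀ (σ : ↥(invSub (⇑(qfPlus m F)))), orderOf σ.1 = r →
      CohHyp (qfPlus m F) (chiP (F := F) m) σ r := by
    intro σ hord
    refine cohHyp_of_hyp (qfPlus m F) hm1 (card_plus m) hQ (isHyp_qfPlus m) hQne _ σ (hχσ σ) hr hord
      (reflGO (qfPlus m F) (v₀ hm1) hv₀) ?_ ?_ ?_
    · exact mapGLi_reflGO _ σ.2 _ hv₀ (v₀_fixed hm1 σ.1)
    · exact reflGO_mul_self _ _ hv₀
    · rw [chiGO_reflGO]; exact ofAdd_one_ne_one
  rw [Dgen_eq] at hδ ⊢
  rcases hx with ⟨α, φ, σ, hσ, hstd, hαx⟩ | ⟨α, γ, φ, σ, v, ρ, hσ, hv, hvσ, hρ, hγ, hstd, hαx⟩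
  · set σ' : ↥(invSub (⇑(qfPlus m F))) := ⟨σ, hall σ⟩ with hσ'
    have hφ : φ = fieldO (⇑(qfPlus m F)) σ' := (isFieldAut_iff _ σ' φ).mp hstd
    have hσ1 : σ' ≠ 1 := by
      intro h
      apply hσ
      have := congrArg Subtype.val h
      exact this
    refine coset_conj_even (qfPlus m F) hQ hn (faithData_qfPlus (by omega)) hall hAut
      (chiP (F := F) m) hχs hχσ x δ α σ' hσ1 1 (reflGO (qfPlus m F) (v₀ hm1) hv₀) ?_ ?_ ?_ ?_ hr hxr
      (hcoh σ') hδ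
    · exact mapGO_reflGO _ σ' _ hv₀ (v₀_fixed hm1 σ)
    · rw [mul_one, one_mul]
    · rw [chiGO_reflGO]; exact ofAdd_one_ne_one
    · rw [hαx, hφ, map_one, one_mul]
  · set σ' : ↥(invSub (⇑(qfPlus m F))) := ⟨σ, hall σ⟩ with hσ'
    have hφ : φ = fieldO (⇑(qfPlus m F)) σ' := (isFieldAut_iff _ σ' φ).mp hstd
    have hσ1 : σ' ≠ 1 := by
      intro h
      apply hσ
      have := congrArg Subtype.val h
      exact this
    have hρ' : ρ = (reflGO (qfPlus m F) v hv).1 := by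
      apply Units.ext
      rw [hρ, reflGO_coe]
    rw [hρ'] at hγ
    have hγ' : γ = Phi (⇑(qfPlus m F)) (reflGO (qfPlus m F) v hv) :=
      (isInduced_iff (⇑(qfPlus m F)) (reflGO (qfPlus m F) v hv) γ).mp hγ
    refine coset_conj_even (qfPlus m F) hQ hn (faithData_qfPlus (by omega)) hall hAut
      (chiP (F := F) m) hχs hχσ x δ α σ' hσ1 (reflGO (qfPlus m F) v hv) (reflGO (qfPlus m F) v hv)
      ?_ rfl ?_ ?_ hr hxr (hcoh σ') hδ
    · exact mapGO_reflGO _ σ' _ hv hvσ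
    · rw [chiGO_reflGO]; exact ofAdd_one_ne_one
    · rw [hαx, hφ, hγ']

/-- **S2736 modulo S2695** -/
theorem coset_conj_plus {m : ℕ} (hm : 5 ≤ m) (hAut : gammaPOmega F (quadFormPlus m F) = ⊤)
    (x δ : MulAut (POmega F (quadFormPlus m F)))
    (hx : IsFieldAutClassPOmega (quadFormPlus m F) x ∨ IsGraphFieldAutClassPOmegaPlus m x)
    {r : ℕ} (hr : r.Prime) (hxr : orderOf x = r) (hδ : δ ∈ inndiagPOmegaPlus m F) :
    orderOf (δ * x) = r ↔ IsConjUnder (inndiagPOmegaPlus m F) x (δ * x) :=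
  coset_conj_plus_aux (by omega) (quadFormPlus m F) (coe_qfPlus m F).symm hAut x δ hx hr hxr hδ

end main

end Cfsg.Agent.Lib.Helper44_OrthPlusMain
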