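import Mathlib
import Cfsg.Agent.Lib.Helper44_OrthPlusMain
import Cfsg.Agent.Lib.Helper44_OrthBase
import Cfsg.Agent.Lib.Helper14_OrthMinusAut

/-!
# The minus-type form over a quadratic extension (helper44)

Over a quadratic extension `K` of the finite field `F` the form `quadFormMinus m F a b` becomes
hyperbolic; the class character of `GO` over `K`, pulled back to `GO(Q)`, detects the similarities
preserving the singular classes.  In characteristic two `Inndiag(PΩ⁻) = Inn(PΩ⁻)`.
-/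

set_option autoImplicit false
set_option linter.unusedSectionVars false
set_option linter.unusedVariables false
set_option linter.unusedSimpArgs false

namespace Cfsg.Agent.Lib.Helper44_OrthMinusK

open Cfsg Matrix Module Polynomial Cfsg.Agent.Lib.Helper44_Orth Cfsg.Agent.Lib.Helper14_AutOmega
  Cfsg.Agent.Lib.Helper44_H90i Cfsg.Agent.Lib.Helper44_OrthField
  Cfsg.Agent.Lib.Helper14_CentOmega Cfsg.Agent.Lib.Helper44_OrthCoset
  Cfsg.Agent.Lib.Helper44_StdForms Cfsg.Agent.Lib.Helper44_OrthBase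
  Cfsg.Agent.Lib.Helper44_OrthChi Cfsg.Agent.Lib.Helper44_OrthPlusMain
  Cfsg.Agent.Lib.Helper44_Refl Cfsg.Agent.Lib.Helper14_Classes
  Cfsg.Agent.Lib.Helper14_OmegaIndex

/-! ### a root of the binary form in a quadratic extension -/

section root

variable {F K : Type*} [Field F] [Fintype F] [Field K] [Algebra F K]

theorem exists_root (hfr : finrank F K = 2) (a b : F)
    (hab : ∀ z₁ z₂ : F, z₁ ^ 2 + a * z₁ * z₂ + b * z₂ ^ 2 = 0 → z₁ = 0 ∧ z₂ = 0) :
    ∃ ρ : K, ρ ^ 2 + algebraMap F K a * ρ + algebraMap F K b = 0 := by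
  classical
  set p : F[X] := X ^ 2 + C a * X + C b with hp
  have hdeg : p.natDegree = 2 := by
    rw [hp]
    compute_degree!
  have hmonic : p.Monic := by
    rw [hp]
    monicity!
  have hirr : Irreducible p := by
    rw [hmonic.irreducible_iff_roots_eq_zero_of_degree_le_three (by omega) (by omega)]
    rw [Multiset.eq_zero_iff_forall_notMem]
    intro t ht
    rw [mem_roots hmonic.ne_zero, IsRoot.def, hp] at ht
    simp only [eval_add, eval_pow, eval_X, eval_mul, eval_C] at ht
    have := hab t 1 (by linear_combination ht)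
    exact one_ne_zero this.2
  have : Fact (Irreducible p) := ⟨hirr⟩
  have hfrL : finrank F (AdjoinRoot p) = 2 := by
    rw [(AdjoinRoot.powerBasis hirr.ne_zero).finrank, AdjoinRoot.powerBasis_dim, hdeg]
  have hfinK : Module.Finite F K := Module.finite_of_finrank_pos (by rw [hfr]; norm_num)
  have hK : Finite K := Module.finite_of_finite F
  obtain ⟨φ⟩ := FiniteField.nonempty_algHom_of_finrank_dvd (F := F) (K := AdjoinRoot p) (L := K)
    (by rw [hfrL, hfr])
  refine ⟨φ (AdjoinRoot.root p), ?_⟩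
  have h1 : aeval (AdjoinRoot.root p) p = 0 := AdjoinRoot.aeval_eq p ▸ AdjoinRoot.mk_self
  have h2 : aeval (φ (AdjoinRoot.root p)) p = 0 := by
    rw [aeval_algHom_apply, h1, map_zero]
  generalize φ (AdjoinRoot.root p) = ρ at h2 ⊢
  clear φ h1
  rw [hp] at h2
  simpa [aeval_def, eval₂_add, eval₂_mul, eval₂_pow] using h2

end root

/-! ### a maximal totally singular subspace when the binary part is isotropic -/

section subspace

variable {K : Type*} [Field K] (m : ℕ)

/-- the index type of the minus-type form -/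
abbrev J (m : ℕ) : Type := (Fin m ⊕ Fin m) ⊕ Fin 2

/-- the linear map cutting out the subspace -/
def LK (ρ : K) : (J m → K) →ₗ[K] (Fin m ⊕ Unit → K) :=
  LinearMap.pi (fun j => Sum.elim
    (fun i => (LinearMap.proj (Sum.inl (Sum.inr i)) : (J m → K) →ₗ[K] K))
    (fun _ => (LinearMap.proj (Sum.inr 0) : (J m → K) →ₗ[K] K) -
      ρ • (LinearMap.proj (Sum.inr 1) : (J m → K) →ₗ[K] K)) j)

theorem LK_inl (ρ : K) (v : J m → K) (i : Fin m) : LK m ρ v (Sum.inl i) = v (Sum.inl (Sum.inr i)) :=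
  rfl

theorem LK_inr (ρ : K) (v : J m → K) (u : Unit) :
    LK m ρ v (Sum.inr u) = v (Sum.inr 0) - ρ * v (Sum.inr 1) := rfl

/-- the subspace `⟨e_i, ρ z₁ + z₂⟩` -/
def XK (ρ : K) : Submodule K (J m → K) := LinearMap.ker (LK m ρ)

theorem mem_XK (ρ : K) (v : J m → K) :
    v ∈ XK m ρ ↔ (∀ i, v (Sum.inl (Sum.inr i)) = 0) ∧ v (Sum.inr 0) = ρ * v (Sum.inr 1) := by
  rw [XK, LinearMap.mem_ker]
  constructor
  · intro h
    refine ⟨fun i => ?_, ?_⟩
    · have := congrFun h (Sum.inl i)
      rwa [LK_inl] at this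
    · have := congrFun h (Sum.inr ())
      rw [LK_inr] at this
      exact sub_eq_zero.mp this
  · rintro ⟨h1, h2⟩
    funext j
    rcases j with i | u
    · rw [LK_inl, h1 i]; rfl
    · rw [LK_inr, h2, sub_self]; rfl

theorem XK_ts (a b ρ : K) (hρ : ρ ^ 2 + a * ρ + b = 0) (v : J m → K) (hv : v ∈ XK m ρ) :
    qfMinus m K a b v = 0 := by
  rw [coe_qfMinus]
  obtain ⟨h1, h2⟩ := (mem_XK m ρ v).mp hv
  unfold quadFormMinus
  have hs : ∑ i : Fin m, v (Sum.inl (Sum.inl i)) * v (Sum.inl (Sum.inr i)) = 0 := by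
    apply Finset.sum_eq_zero
    intro i _
    rw [h1 i, mul_zero]
  rw [hs, h2, zero_add]
  linear_combination (v (Sum.inr 1)) ^ 2 * hρ

theorem LK_surjective (ρ : K) : Function.Surjective (LK m ρ) := by
  intro w
  refine ⟨fun j => match j with
    | Sum.inl (Sum.inl _) => 0
    | Sum.inl (Sum.inr i) => w (Sum.inl i)
    | Sum.inr k => if k = 0 then w (Sum.inr ()) else 0, ?_⟩
  funext j
  rcases j with i | u
  · rw [LK_inl]
  · rw [LK_inr]
    simp

theorem finrank_XK (ρ : K) : finrank K (XK m ρ) = m + 1 := by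
  have h1 := LinearMap.finrank_range_add_finrank_ker (LK m ρ)
  have h2 : LinearMap.range (LK m ρ) = ⊤ := LinearMap.range_eq_top.mpr (LK_surjective m ρ)
  rw [h2, finrank_top, Module.finrank_fintype_fun_eq_card, Module.finrank_fintype_fun_eq_card,
    Fintype.card_sum, Fintype.card_sum, Fintype.card_sum, Fintype.card_fin, Fintype.card_fin,
    Fintype.card_unit] at h1
  rw [XK]
  omega

theorem card_J : Fintype.card (J m) = 2 * (m + 1) := by
  rw [Fintype.card_sum, Fintype.card_sum, Fintype.card_fin, Fintype.card_fin]; ring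

end subspace

/-! ### base change of the similarity group and the pulled-back class character -/

section basechange

variable {ι : Type} [Fintype ι] [DecidableEq ι] {F K : Type*} [Field F] [Field K] (f : F →+* K)
  {Q : QuadraticForm F (ι → F)} {Q' : QuadraticForm K (ι → K)} (hc : Compat f Q Q')

include hc in
theorem sim_glMap (g : GL ι F) (c : F) (hg : ∀ u, Q (g.1 *ᵥ u) = c * Q u) (v : ι → K) :
    Q' ((glMap f g).1 *ᵥ v) = f c * Q' v := by
  have heq : Q'.comp (Matrix.toLin' (glMap f g).1) = (f c) • Q' := by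
    apply ext_of_vmap f
    intro u
    rw [QuadraticMap.comp_apply, Matrix.toLin'_apply, glMap_coe, ← vmap_mulVec, hc, hg, map_mul,
      _root_.smul_apply, smul_eq_mul, hc]
  have := congrArg (fun G : QuadraticForm K (ι → K) => G v) heq
  simpa using this

/-- base change of similarities -/
def bcGO : ↥(GO (⇑Q)) →* ↥(GO (⇑Q')) where
  toFun g := ⟨glMap f g.1, by
    obtain ⟨c, hcg⟩ := g.2
    exact ⟨Units.map (f : F →* K) c, fun v => sim_glMap f hc g.1 c hcg v⟩⟩
  map_one' := Subtype.ext (map_one _)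
  map_mul' g h := Subtype.ext (map_mul _ _ _)

theorem bcGO_coe (g : ↥(GO (⇑Q))) : ((bcGO f hc g : ↥(GO (⇑Q'))) : GL ι K) = glMap f g.1 := rfl

theorem bcGO_scalarGO (c : Fˣ) :
    bcGO f hc (scalarGO Q c) = scalarGO Q' (Units.map (f : F →* K) c) := by
  apply Subtype.ext
  rw [bcGO_coe, scalarGO_coe, scalarGO_coe]
  exact Matrix.GeneralLinearGroup.map_scalar _ _

theorem bcGO_reflGO (v : ι → F) (hv : Q v ≠ 0) (hv' : Q' (vmap f v) ≠ 0) :
    bcGO f hc (reflGO Q v hv) = reflGO Q' (vmap f v) hv' := by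
  apply Subtype.ext
  apply Units.ext
  rw [bcGO_coe, glMap_coe, reflGO_coe, reflGO_coe, hc.reflectionMatrix]

variable (hQ' : (QuadraticMap.polarBilin Q').Nondegenerate) {M : ℕ}
  (hcard : Fintype.card ι = 2 * M) {X : Submodule K (ι → K)} (hX : ∀ u ∈ X, Q' u = 0)
  (hXm : finrank K X = M)

/-- the class character over `K`, pulled back to `GO(Q)` -/
noncomputable def chiK : ↥(GO (⇑Q)) →* Multiplicative (ZMod 2) :=
  (chiGO Q' hQ' hcard hX hXm).comp (bcGO f hc)

theorem chiK_scalarGO (c : Fˣ) : chiK f hc hQ' hcard hX hXm (scalarGO Q c) = 1 := by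
  show chiGO Q' hQ' hcard hX hXm (bcGO f hc (scalarGO Q c)) = 1
  rw [bcGO_scalarGO]
  exact chiGO_scalarGO Q' hQ' hcard hX hXm _

theorem chiK_reflGO (v : ι → F) (hv : Q v ≠ 0) :
    chiK f hc hQ' hcard hX hXm (reflGO Q v hv) = Multiplicative.ofAdd 1 := by
  have hv' : Q' (vmap f v) ≠ 0 := by
    rw [hc v]
    exact (map_ne_zero f).mpr hv
  show chiGO Q' hQ' hcard hX hXm (bcGO f hc (reflGO Q v hv)) = _
  rw [bcGO_reflGO f hc v hv hv']
  exact chiGO_reflGO Q' hQ' hcard hX hXm _ hv'

theorem chiK_eq_one_iff (g : ↥(GO (⇑Q))) :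
    chiK f hc hQ' hcard hX hXm g = 1 ↔
      PreservesSingularClasses (⇑Q') (((g : GL ι F) : Matrix ι ι F).map f) := by
  show chiGO Q' hQ' hcard hX hXm (bcGO f hc g) = 1 ↔ _
  rw [chiGO_eq_one_iff]
  rfl

end basechange

/-! ### characteristic two: characters trivial on scalars -/

section chartwo

theorem mul_mul_inv_eq {A : Type*} [Group A] (x y a : A) : (x * a) * (y * a)⁻¹ = x * y⁻¹ := by
  group

variable {ι : Type} [Fintype ι] [DecidableEq ι] {F : Type*} [Field F] [Fintype F]
  (Q : QuadraticForm F (ι → F))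

/-- a character of `GO(Q)` trivial on scalars is trivial on the similarities inducing inner
automorphisms -/
theorem chi_eq_one_of_inn (hQ : (QuadraticMap.polarBilin Q).Nondegenerate)
    (hn : 5 ≤ Fintype.card ι) (χ : ↥(GO (⇑Q)) →* Multiplicative (ZMod 2))
    (hχs : ∀ c : Fˣ, χ (scalarGO Q c) = 1) (g : ↥(GO (⇑Q)))
    (hg : Phi (⇑Q) g ∈ Inn (POmega F (⇑Q))) : χ g = 1 := by
  rw [inn_eq_map] at hg
  obtain ⟨ω, hω, hωg⟩ := hg
  obtain ⟨w, hw⟩ : ∃ w : ↥(GO (⇑Q)), w = Subgroup.inclusion (isometryGroup_le_GO (⇑Q)) ω :=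
    ⟨_, rfl⟩
  have hωg' : Phi (⇑Q) w = Phi (⇑Q) g := by rw [hw]; exact hωg
  have hker : w⁻¹ * g ∈ (Phi (⇑Q)).ker := by
    rw [MonoidHom.mem_ker, map_mul, map_inv, hωg', inv_mul_cancel]
  rw [ker_Phi Q hQ hn, Subgroup.mem_subgroupOf] at hker
  obtain ⟨c, hc⟩ := exists_scalar_of_mem_scalars' hker
  have hgc : g = w * scalarGO Q c := by
    have h1 : w⁻¹ * g = scalarGO Q c := Subtype.ext hc
    rw [← h1]
    group
  have hχw : χ w = 1 := by
    have h1 : ω ∈ (χ.comp (Subgroup.inclusion (isometryGroup_le_GO (⇑Q)))).ker :=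
      Abelianization.commutator_subset_ker _ hω
    rw [MonoidHom.mem_ker, MonoidHom.comp_apply] at h1
    rw [hw]
    exact h1
  rw [hgc, map_mul, hχw, hχs, one_mul]

/-- in characteristic two a nontrivial character of `GO(Q)` trivial on scalars has kernel the
similarities inducing inner automorphisms -/
theorem chi_eq_one_iff_inn (h2 : (2 : F) = 0) (hQ : (QuadraticMap.polarBilin Q).Nondegenerate)
    (hn : 5 ≤ Fintype.card ι) {v₀ : ι → F} (hv₀ : Q v₀ ≠ 0)
    (χ : ↥(GO (⇑Q)) →* Multiplicative (ZMod 2))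
    (hχs : ∀ c : Fˣ, χ (scalarGO Q c) = 1) (t : ↥(GO (⇑Q))) (ht : χ t ≠ 1) (g : ↥(GO (⇑Q))) :
    χ g = 1 ↔ Phi (⇑Q) g ∈ Inn (POmega F (⇑Q)) := by
  constructor
  swap
  · exact chi_eq_one_of_inn Q hQ hn χ hχs g
  intro hg
  by_contra hgn
  have htn : Phi (⇑Q) t ∉ Inn (POmega F (⇑Q)) := fun h =>
    ht (chi_eq_one_of_inn Q hQ hn χ hχs t h)
  have hidx := Cfsg.Agent.Lib.Helper14_OrthMinusAut.relIndex_inn_range_even h2 Q hQ hn hv₀
  rw [Subgroup.relIndex_eq_two_iff_exists_notMem_and] at hidx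
  obtain ⟨a, -, -, hab⟩ := hidx
  have h1 : Phi (⇑Q) g * a ∈ Inn (POmega F (⇑Q)) :=
    (hab _ ⟨g, rfl⟩).resolve_right hgn
  have h3 : Phi (⇑Q) t * a ∈ Inn (POmega F (⇑Q)) :=
    (hab _ ⟨t, rfl⟩).resolve_right htn
  have h4 := Subgroup.mul_mem _ h1 (Subgroup.inv_mem _ h3)
  rw [mul_mul_inv_eq, ← map_inv, ← map_mul] at h4
  have h5 := chi_eq_one_of_inn Q hQ hn χ hχs _ h4
  rw [map_mul, map_inv, hg, one_mul, inv_eq_one] at h5
  exact ht h5

end chartwo

/-! ### the minus-type form -/

section minus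

universe u

variable {F : Type u} [Field F] [Fintype F] (m : ℕ) (a b : F)

theorem compat_qfMinus {K : Type*} [Field K] (f : F →+* K) :
    Compat f (qfMinus m F a b) (qfMinus m K (f a) (f b)) := by
  intro v
  have h1 := congrFun (coe_qfMinus m K (f a) (f b)) (vmap f v)
  have h2 := congrFun (coe_qfMinus m F a b) v
  rw [h1, h2]
  simp only [Cfsg.quadFormMinus, vmap_apply, map_add, map_pow, map_sum, map_mul]

theorem nondegenerate_qfMinus_K {K : Type*} [Field K] (f : F →+* K)
    (hab : ∀ z₁ z₂ : F, z₁ ^ 2 + a * z₁ * z₂ + b * z₂ ^ 2 = 0 → z₁ = 0 ∧ z₂ = 0) :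
    (QuadraticMap.polarBilin (qfMinus m K (f a) (f b))).Nondegenerate := by
  apply Cfsg.Agent.Lib.Helper14_POmegaSimple.nondeg_of_gram_det
  rw [coe_qfMinus, det_gram_quadFormMinus]
  have hdisc := Cfsg.Agent.Lib.Helper14_POmegaSimple.disc_ne_zero a b hab
  have h1 : (4 * f b - f a ^ 2 : K) = f (4 * b - a ^ 2) := by
    simp [map_sub, map_mul, map_pow, map_ofNat]
  rw [h1]
  exact mul_ne_zero (pow_ne_zero _ (by simp)) ((map_ne_zero f).mpr hdisc)

variable (hab : ∀ z₁ z₂ : F, z₁ ^ 2 + a * z₁ * z₂ + b * z₂ ^ 2 = 0 → z₁ = 0 ∧ z₂ = 0)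

/-- the class character of `GO(Q)` read over the quadratic extension `K` -/
noncomputable def chiKm {K : Type*} [Field K] [Algebra F K] (ρ : K)
    (hρ : ρ ^ 2 + algebraMap F K a * ρ + algebraMap F K b = 0) :
    ↥(GO (⇑(qfMinus m F a b))) →* Multiplicative (ZMod 2) :=
  chiK (algebraMap F K) (compat_qfMinus m a b (algebraMap F K))
    (nondegenerate_qfMinus_K m a b (algebraMap F K) hab) (card_J m)
    (XK_ts m (algebraMap F K a) (algebraMap F K b) ρ hρ) (finrank_XK m ρ)

theorem chiKm_eq_one_iff {K : Type*} [Field K] [Algebra F K] (ρ : K)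
    (hρ : ρ ^ 2 + algebraMap F K a * ρ + algebraMap F K b = 0)
    (g : ↥(GO (⇑(qfMinus m F a b)))) :
    chiKm m a b hab ρ hρ g = 1 ↔
      PreservesSingularClasses (quadFormMinus m K (algebraMap F K a) (algebraMap F K b))
        (((g : GL (J m) F) : Matrix (J m) (J m) F).map (algebraMap F K)) := by
  rw [← coe_qfMinus]
  exact chiK_eq_one_iff _ _ _ _ _ _ g

theorem nonsing_e0 : qfMinus m F a b (Pi.single (Sum.inr 0) 1) ≠ 0 := by
  rw [coe_qfMinus, Cfsg.quadFormMinus]
  simp

include hab in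
/-- in characteristic two, a similarity of the minus-type form preserves the classes over a
quadratic extension iff it induces an inner automorphism -/
theorem preservesMinus_iff_inn_even (h2 : (2 : F) = 0) (hm : 2 ≤ m)
    (g : ↥(GO (⇑(qfMinus m F a b)))) :
    PreservesSingularClassesMinus m a b ((g : GL (J m) F) : Matrix (J m) (J m) F) ↔
      Phi (⇑(qfMinus m F a b)) g ∈ Inn (POmega F (⇑(qfMinus m F a b))) := by
  have hQ := Cfsg.Agent.Lib.Helper14_POmegaSimple.nondegenerate_qfMinus (F := F) m a b hab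
  have hn : 5 ≤ Fintype.card (J m) := by rw [card_J]; omega
  have hv₀ := nonsing_e0 m a b
  have key : ∀ (K : Type u) [Field K] [Algebra F K], finrank F K = 2 →
      (PreservesSingularClasses (quadFormMinus m K (algebraMap F K a) (algebraMap F K b))
        (((g : GL (J m) F) : Matrix (J m) (J m) F).map (algebraMap F K)) ↔
      Phi (⇑(qfMinus m F a b)) g ∈ Inn (POmega F (⇑(qfMinus m F a b)))) := by
    intro K _ _ hfr
    obtain ⟨ρ, hρ⟩ := exists_root hfr a b hab
    rw [← chiKm_eq_one_iff m a b hab ρ hρ g]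
    apply chi_eq_one_iff_inn (qfMinus m F a b) h2 hQ hn hv₀ _ _
      (reflGO (qfMinus m F a b) _ hv₀)
    · rw [chiKm, chiK_reflGO]
      decide
    · intro c
      exact chiK_scalarGO _ _ _ _ _ _ c
  constructor
  · rintro ⟨K, instK, instA, hfr, hP⟩
    exact (key K hfr).mp hP
  · intro h
    classical
    set p : F[X] := X ^ 2 + C a * X + C b with hp
    have hdeg : p.natDegree = 2 := by
      rw [hp]
      compute_degree!
    have hmonic : p.Monic := by
      rw [hp]
      monicity!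
    have hirr : Irreducible p := by
      rw [hmonic.irreducible_iff_roots_eq_zero_of_degree_le_three (by omega) (by omega)]
      rw [Multiset.eq_zero_iff_forall_notMem]
      intro t ht
      rw [mem_roots hmonic.ne_zero, IsRoot.def, hp] at ht
      simp only [eval_add, eval_pow, eval_X, eval_mul, eval_C] at ht
      have := hab t 1 (by linear_combination ht)
      exact one_ne_zero this.2
    have : Fact (Irreducible p) := ⟨hirr⟩
    have hfrL : finrank F (AdjoinRoot p) = 2 := by
      rw [(AdjoinRoot.powerBasis hirr.ne_zero).finrank, AdjoinRoot.powerBasis_dim, hdeg]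
    exact ⟨AdjoinRoot p, inferInstance, inferInstance, hfrL, (key (AdjoinRoot p) hfrL).mpr h⟩

include hab in
/-- **in characteristic two `Inndiag(PΩ⁻) = Inn(PΩ⁻)`** -/
theorem inndiag_minus_even (h2 : (2 : F) = 0) (hm : 2 ≤ m) :
    inndiagPOmegaMinus m F a b = Inn (POmega F (quadFormMinus m F a b)) := by
  have hcoe := coe_qfMinus m F a b
  have key : ∀ (Qf : (J m → F) → F) (hQf : Qf = ⇑(qfMinus m F a b)),
      autSubgroupOf (fun β : POmega F Qf ≃* POmega F Qf =>
        ∃ g : GL (J m) F, g ∈ Geo.quadSimilarityGroup (F := F) Qf ∧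
          PreservesSingularClassesMinus m a b (g : Matrix (J m) (J m) F) ∧
          IsInducedBySemilinearPOmega Qf g (RingEquiv.refl F) β) = Inn (POmega F Qf) := by
    intro Qf hQf
    subst hQf
    unfold autSubgroupOf
    apply le_antisymm
    · rw [Subgroup.closure_le]
      rintro β ⟨g, hg, hP, hβ⟩
      have h1 : β = Phi (⇑(qfMinus m F a b)) ⟨g, hg⟩ := (isInduced_iff _ ⟨g, hg⟩ β).mp hβ
      rw [SetLike.mem_coe, h1]
      exact (preservesMinus_iff_inn_even m a b hab h2 hm ⟨g, hg⟩).mp hP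
    · intro β hβ
      have hβ' := hβ
      rw [inn_eq_map] at hβ'
      obtain ⟨ω, hω, rfl⟩ := hβ'
      apply Subgroup.subset_closure
      refine ⟨(ω : GL (J m) F), isometryGroup_le_GO _ ω.2, ?_, ?_⟩
      · exact (preservesMinus_iff_inn_even m a b hab h2 hm
          (Subgroup.inclusion (isometryGroup_le_GO _) ω)).mpr hβ
      · exact (isInduced_iff _ (Subgroup.inclusion (isometryGroup_le_GO _) ω) _).mpr rfl
  exact key (quadFormMinus m F a b) hcoe.symm

end minus

end Cfsg.Agent.Lib.Helper44_OrthMinusK
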