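import Mathlib
import Cfsg.Agent.Lib.Helper44_OrthCoh
import Cfsg.Agent.Lib.Helper44_OrthCoset

/-!
# Lang's theorem for `GO⁻_{2m+2}(F)` (helper44)

For a field automorphism `σ` fixing the coefficients of the minus-type form, every cocycle of `⟨σ⟩`
in `GO(Q)` is a coboundary: the descended form is not of plus type, because the form itself is not
hyperbolic.
-/

set_option autoImplicit false
set_option linter.unusedSectionVars false
set_option linter.unusedVariables false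

namespace Cfsg.Agent.Lib.Helper44_OrthMinusLang

open Cfsg Matrix Module Cfsg.Agent.Lib.Helper44_Orth Cfsg.Agent.Lib.Helper14_AutOmega
  Cfsg.Agent.Lib.Helper44_H90i Cfsg.Agent.Lib.Helper44_H90 Cfsg.Agent.Lib.Helper44_OrthField
  Cfsg.Agent.Lib.Helper44_FixField Cfsg.Agent.Lib.Helper44_OrthLang
  Cfsg.Agent.Lib.Helper40_QuadIso Cfsg.Agent.Lib.Helper40_QuadStd
  Cfsg.Agent.Lib.Helper44_StdForms Cfsg.Agent.Lib.Helper44_OrthCoh

section hyp

variable {ι : Type} [Fintype ι] [DecidableEq ι] {F : Type*} [Field F] (σ : F ≃+* F)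

theorem qfPlus_up (n : ℕ) (w : Fin n ⊕ Fin n → fixField σ) :
    qfPlus n F (up σ w) = ((qfPlus n (fixField σ) w : fixField σ) : F) := by
  have h1 := congrFun (coe_qfPlus n F) (up σ w)
  have h2 := congrFun (coe_qfPlus n (fixField σ)) w
  rw [h1, h2]
  simp only [Cfsg.quadFormPlus, up_apply]
  push_cast
  rfl

/-- a form whose descent is of plus type is hyperbolic -/
theorem isHyp_of_desc_plus {M : ℕ} (K : QuadraticForm F (ι → F)) (hKσ : SigInv (⇑K) σ)
    (h : Iso (descQ σ K hKσ) (qfPlus M (fixField σ))) : IsHyp K := by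
  classical
  obtain ⟨φ, hφ⟩ := h
  set P : Matrix (Fin M ⊕ Fin M) ι (fixField σ) :=
    LinearMap.toMatrix' (φ : (ι → fixField σ) →ₗ[fixField σ] (Fin M ⊕ Fin M → fixField σ)) with hP
  set P' : Matrix ι (Fin M ⊕ Fin M) (fixField σ) :=
    LinearMap.toMatrix' (φ.symm : (Fin M ⊕ Fin M → fixField σ) →ₗ[fixField σ] (ι → fixField σ))
    with hP'
  have hPP' : P * P' = 1 := by
    rw [hP, hP', ← LinearMap.toMatrix'_comp]
    have : (φ : (ι → fixField σ) →ₗ[fixField σ] (Fin M ⊕ Fin M → fixField σ)).comp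
        (φ.symm : (Fin M ⊕ Fin M → fixField σ) →ₗ[fixField σ] (ι → fixField σ)) =
        LinearMap.id := by
      ext x
      simp
    rw [this, LinearMap.toMatrix'_id]
  have hP'P : P' * P = 1 := by
    rw [hP, hP', ← LinearMap.toMatrix'_comp]
    have : (φ.symm : (Fin M ⊕ Fin M → fixField σ) →ₗ[fixField σ] (ι → fixField σ)).comp
        (φ : (ι → fixField σ) →ₗ[fixField σ] (Fin M ⊕ Fin M → fixField σ)) = LinearMap.id := by
      ext x
      simp
    rw [this, LinearMap.toMatrix'_id]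
  have hPv : ∀ v, qfPlus M (fixField σ) (P *ᵥ v) = descQ σ K hKσ v := by
    intro v
    rw [hP, LinearMap.toMatrix'_mulVec]
    exact hφ v
  let ι₀ : fixField σ →+* F := (fixField σ).subtype
  have hPQ' : P.map ι₀ * P'.map ι₀ = 1 := by
    rw [← Matrix.map_mul, hPP']
    exact Matrix.map_one ι₀ (map_zero ι₀) (map_one ι₀)
  have hQP' : P'.map ι₀ * P.map ι₀ = 1 := by
    rw [← Matrix.map_mul, hP'P]
    exact Matrix.map_one ι₀ (map_zero ι₀) (map_one ι₀)
  let Φ : (ι → F) ≃ₗ[F] (Fin M ⊕ Fin M → F) :=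
    LinearEquiv.ofLinearMap (Matrix.toLin' (P.map ι₀)) (Matrix.toLin' (P'.map ι₀))
      (by rw [← Matrix.toLin'_mul, hPQ', Matrix.toLin'_one])
      (by rw [← Matrix.toLin'_mul, hQP', Matrix.toLin'_one])
  have heq : (qfPlus M F).comp (Matrix.toLin' (P.map ι₀)) = K := by
    apply ext_of_up σ
    intro v
    rw [QuadraticMap.comp_apply, Matrix.toLin'_apply, ← up_mulVec_rect, qfPlus_up, hPv, descQ_coe]
  have hiso : Iso K (qfPlus M F) := by
    refine ⟨Φ, fun v => ?_⟩
    have := congrArg (fun G : QuadraticForm F (ι → F) => G v) heq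
    simp only [QuadraticMap.comp_apply] at this
    exact this
  exact IsHyp.of_iso hiso.symm (isHyp_qfPlus M)

variable [Fintype F]

/-- the classification hypothesis of `lang_generic` for a non-hyperbolic form -/
theorem hclass_nonhyp {M : ℕ} (hM : 1 ≤ M) (hcard : Fintype.card ι = 2 * M)
    (Q : QuadraticForm F (ι → F)) (hQσ : SigInv (⇑Q) σ)
    (hQnd : (QuadraticMap.polarBilin Q).Nondegenerate) (hQh : ¬ IsHyp Q)
    (K : QuadraticForm F (ι → F)) (hKσ : SigInv (⇑K) σ)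
    (hK : ∃ (β : Fˣ) (h : GL ι F), ∀ v, K v = (β : F) * Q (h.1 *ᵥ v)) :
    ∃ (a : GL ι F) (d : Fˣ), mapGLi σ a = a ∧ ∀ v, K (a.1 *ᵥ v) = (d : F) * Q v := by
  classical
  obtain ⟨β, h, hK⟩ := hK
  have hKnd := nondegenerate_of_similar Q K hQnd h β hK
  have hKh : ¬ IsHyp K := by
    intro hh
    apply hQh
    -- `Q = β⁻¹ K ∘ h⁻¹`
    apply isHyp_of_similar K Q hh h⁻¹ β⁻¹
    intro v
    rw [hK, Matrix.mulVec_mulVec, ← Units.val_mul, mul_inv_cancel, Units.val_one,
      Matrix.one_mulVec, ← mul_assoc, ← Units.val_mul, inv_mul_cancel, Units.val_one, one_mul]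
  let _ : Fintype (fixField σ) := Fintype.ofFinite _
  have hiso : Iso (descQ σ Q hQσ) (descQ σ K hKσ) := by
    apply iso_of_types hM hcard _ _ (descQ_nondegenerate σ Q hQσ hQnd)
      (descQ_nondegenerate σ K hKσ hKnd)
    constructor
    · intro h1
      exact absurd (isHyp_of_desc_plus σ Q hQσ h1) hQh
    · intro h1
      exact absurd (isHyp_of_desc_plus σ K hKσ h1) hKh
  obtain ⟨a, haσ, ha⟩ := sigSim_of_iso σ Q K hQσ hKσ hiso
  exact ⟨a, 1, haσ, fun v => by rw [ha, Units.val_one, one_mul]⟩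

end hyp

section minus

variable {F : Type*} [Field F] (m : ℕ) (a b : F)

theorem sigInv_qfMinus (σ : F ≃+* F) (hσa : σ a = a) (hσb : σ b = b) :
    SigInv (⇑(qfMinus m F a b)) σ := by
  intro v
  rw [coe_qfMinus]
  simp only [Cfsg.quadFormMinus, map_add, map_pow, map_sum, map_mul, hσa, hσb]

variable [Fintype F]

/-- **Lang's theorem for `GO⁻_{2m+2}`** (cocycle form) -/
theorem lang_GO_minus (hm : 1 ≤ m)
    (hab : ∀ z₁ z₂ : F, z₁ ^ 2 + a * z₁ * z₂ + b * z₂ ^ 2 = 0 → z₁ = 0 ∧ z₂ = 0)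
    (σ : F ≃+* F) (hσa : σ a = a) (hσb : σ b = b) {r : ℕ} (hr : 0 < r) (hord : orderOf σ = r)
    (g : ↥(GO (⇑(qfMinus m F a b)))) (hg : PNi σ g.1 r = 1) :
    ∃ k : ↥(GO (⇑(qfMinus m F a b))), g.1 * mapGLi σ k.1 = k.1 := by
  have hcard : Fintype.card ((Fin m ⊕ Fin m) ⊕ Fin 2) = 2 * (m + 1) := by
    rw [Fintype.card_sum, Fintype.card_sum, Fintype.card_fin, Fintype.card_fin]; ring
  have hQσ := sigInv_qfMinus m a b σ hσa hσb
  apply lang_generic σ (qfMinus m F a b) hQσ hr hord ?_ ?_ g hg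
  · refine ⟨Pi.single (Sum.inr 0) 1, ?_⟩
    rw [coe_qfMinus, Cfsg.quadFormMinus]
    simp
  · intro K hKσ hK
    exact hclass_nonhyp σ (by omega) hcard (qfMinus m F a b) hQσ
      (Cfsg.Agent.Lib.Helper14_POmegaSimple.nondegenerate_qfMinus m a b hab)
      (not_isHyp_qfMinus m a b hab) K hKσ hK

end minus

end Cfsg.Agent.Lib.Helper44_OrthMinusLang
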