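import Mathlib
import Cfsg.Agent.Lib.Helper44_OrthIsoTransport
import Cfsg.Agent.Lib.Helper44_OrthMinusK
import Cfsg.Agent.Lib.Helper44_OrthMinusLang
import Cfsg.Agent.Lib.Helper44_OrthEvenCoset
import Cfsg.Agent.Lib.Helper44_OrthPlusMain
import Cfsg.Agent.Lib.Helper14_InndiagMinus
import Cfsg.Agent.Lib.Helper14_OrthMinusAut

/-!
# Field automorphisms of `PΩ⁻_{2m+2}(q)`: the coset statement (helper44)

For a field automorphism `x` of prime order `r` of `T = PΩ⁻_{2m+2}(q)` and `δ ∈ Inndiag(T)`, the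
element `δ x` has order `r` iff it is `Inndiag(T)`-conjugate to `x`.
-/

set_option autoImplicit false
set_option linter.unusedSectionVars false
set_option linter.unusedVariables false

namespace Cfsg.Agent.Lib.Helper44_OrthMinusCoset

open Cfsg Matrix Module Polynomial Cfsg.Agent.Lib.Helper44_Orth Cfsg.Agent.Lib.Helper14_AutOmega
  Cfsg.Agent.Lib.Helper44_H90i Cfsg.Agent.Lib.Helper44_H90 Cfsg.Agent.Lib.Helper44_OrthField
  Cfsg.Agent.Lib.Helper44_OrthFaith Cfsg.Agent.Lib.Helper14_CentOmega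
  Cfsg.Agent.Lib.Helper44_OrthCoset Cfsg.Agent.Lib.Helper44_StdForms
  Cfsg.Agent.Lib.Helper44_OrthEvenCoset Cfsg.Agent.Lib.Helper44_OrthMinusK
  Cfsg.Agent.Lib.Helper44_OrthMinusLang Cfsg.Agent.Lib.Helper44_OrthIsoTransport
  Cfsg.Agent.Lib.Helper44_OrthPlusMain Cfsg.Agent.Lib.Helper40_QuadStd
  Cfsg.Agent.Lib.Helper40_QuadIso Cfsg.Agent.Lib.Helper7_OrthInduced
  Cfsg.Agent.Lib.Helper14_OrthPsiInv Cfsg.Agent.Lib.Helper14_OrthGamma2

/-! ### the generic coset statement, transported along an isomorphism -/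

section generic

variable {ι : Type} [Fintype ι] [DecidableEq ι] {F : Type*} [Field F] [Fintype F]
  (Q' : QuadraticForm F (ι → F))

theorem coset_conj_transport {T : Type*} [Group T]
    (hQ' : (QuadraticMap.polarBilin Q').Nondegenerate)
    (hn : 5 ≤ Fintype.card ι) (hfd : FaithData Q')
    (χ' : ↥(GO (⇑Q')) →* Multiplicative (ZMod 2)) (hχs' : ∀ a : Fˣ, χ' (scalarGO Q' a) = 1)
    (σ : ↥(invSub (⇑Q'))) (hσ1 : σ ≠ 1) (hχσ' : ∀ g, χ' (mapGO (⇑Q') σ g) = χ' g)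
    (z : ↥(GO (⇑Q'))) (hz : mapGO (⇑Q') σ z = z) (hχz : χ' z ≠ 1)
    (ψ : T ≃* POmega F (⇑Q')) (D : Subgroup (MulAut T))
    (hD : D.map (MulAut.congr ψ).toMonoidHom = (χ'.ker).map (Phi (⇑Q')))
    (x δ : MulAut T) (hx : MulAut.congr ψ x = fieldO (⇑Q') σ) {r : ℕ} (hr : r.Prime)
    (hxr : orderOf x = r) (hcoh : orderOf σ.1 = r → CohHyp Q' χ' σ r) (hδ : δ ∈ D) :
    orderOf (δ * x) = r ↔ IsConjUnder D x (δ * x) := by
  constructor
  swap
  · rintro ⟨h, -, hh⟩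
    rw [hh, ← MulAut.conj_apply, MulEquiv.orderOf_eq]
    exact hxr
  intro hord
  obtain ⟨Ψ, hΨ⟩ : ∃ Ψ : MulAut T ≃* MulAut (POmega F (⇑Q')), Ψ = MulAut.congr ψ := ⟨_, rfl⟩
  rw [← hΨ] at hD hx
  obtain ⟨φ, hφ⟩ : ∃ φ, φ = fieldO (⇑Q') σ := ⟨_, rfl⟩
  have hx' : (Phi (⇑Q') 1 * fieldO (⇑Q') σ) ^ r = 1 := by
    rw [map_one, one_mul, ← hx, ← map_pow, ← hxr, pow_orderOf_eq_one, map_one]
  have hordσ := orderOf_sigma Q' hQ' hn hfd σ hσ1 1 hr hx'
  obtain ⟨g, hgχ, hg⟩ : ∃ g : ↥(GO (⇑Q')), χ' g = 1 ∧ Phi (⇑Q') g = Ψ δ := by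
    have : Ψ δ ∈ D.map Ψ.toMonoidHom := ⟨δ, hδ, rfl⟩
    rw [hD] at this
    obtain ⟨g, hgk, hg⟩ := this
    exact ⟨g, MonoidHom.mem_ker.mp hgk, hg⟩
  have hy' : (Phi (⇑Q') g * (Phi (⇑Q') 1 * fieldO (⇑Q') σ)) ^ r = 1 := by
    rw [map_one, one_mul, hg, ← hx, ← map_mul, ← map_pow, ← hord, pow_orderOf_eq_one, map_one]
  obtain ⟨k, hkχ, hk⟩ := coset_conj_aux Q' hQ' hn χ' hχs' σ hχσ' hr.pos hordσ (hcoh hordσ) 1 z
    hz (by rw [mul_one, one_mul]) hχz hx' g hgχ hy'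
  have hkD : Phi (⇑Q') k ∈ D.map Ψ.toMonoidHom := by
    rw [hD]
    exact ⟨k, MonoidHom.mem_ker.mpr hkχ, rfl⟩
  obtain ⟨d, hd, hdk⟩ := hkD
  refine ⟨d, hd, ?_⟩
  apply Ψ.injective
  have hdk' : Ψ d = Phi (⇑Q') k := hdk
  rw [map_one, one_mul] at hk
  rw [map_mul, map_mul, map_mul, map_inv, hdk', ← hg, hx]
  exact hk

end generic

/-! ### inner automorphisms along an isomorphism -/

section inn

theorem map_congr_inn {T T' : Type*} [Group T] [Group T'] (ψ : T ≃* T') :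
    (Inn T).map (MulAut.congr ψ).toMonoidHom = Inn T' := by
  ext β
  constructor
  · rintro ⟨_, ⟨t, rfl⟩, rfl⟩
    refine ⟨ψ t, ?_⟩
    apply MulEquiv.ext
    intro s
    show ψ t * s * (ψ t)⁻¹ = ψ (t * ψ.symm s * t⁻¹)
    rw [map_mul, map_mul, map_inv, MulEquiv.apply_symm_apply]
  · rintro ⟨t', rfl⟩
    refine ⟨MulAut.conj (ψ.symm t'), ⟨_, rfl⟩, ?_⟩
    apply MulEquiv.ext
    intro s
    show ψ (ψ.symm t' * ψ.symm s * (ψ.symm t')⁻¹) = t' * s * t'⁻¹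
    rw [map_mul, map_mul, map_inv, MulEquiv.apply_symm_apply, MulEquiv.apply_symm_apply]

theorem z2_eq_of_iff {x y : Multiplicative (ZMod 2)} (h : x = 1 ↔ y = 1) : x = y := by
  revert h
  revert x y
  decide

end inn

/-! ### the minus-type form -/

section minus

universe u

variable {F : Type u} [Field F] [Fintype F] (m : ℕ) (a b : F)

theorem faithData_qfMinus {m : ℕ} (hm : 2 ≤ m) : FaithData (qfMinus m F a b) := by
  refine ⟨Pi.single (Sum.inl (Sum.inl ⟨0, by omega⟩)) 1,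
    Pi.single (Sum.inl (Sum.inl ⟨1, by omega⟩)) 1,
    ?_, ?_, ?_, ?_, fun σ i => ringEquiv_single' σ _ i,
    fun σ i => ringEquiv_single' σ _ i⟩
  · rw [qfMinus_single]
  · rw [qfMinus_single]
  · rw [polar_qfMinus_single]
  · intro h0
    have h1 := congrFun (congrFun h0 (Sum.inl (Sum.inl ⟨1, by omega⟩)))
      (Sum.inl (Sum.inr ⟨0, by omega⟩))
    simp only [siegelN, Matrix.sub_apply, Matrix.vecMulVec_apply, Matrix.zero_apply, polarVec] at h1
    rw [polar_qfMinus_single, polar_qfMinus_single] at h1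
    simp at h1

variable (hab : ∀ z₁ z₂ : F, z₁ ^ 2 + a * z₁ * z₂ + b * z₂ ^ 2 = 0 → z₁ = 0 ∧ z₂ = 0)

include hab in
/-- the cohomology hypothesis for the minus-type form: all cocycles are coboundaries -/
theorem cohHyp_minus (hm : 1 ≤ m) (σ : ↥(invSub (⇑(qfMinus m F a b)))) (hσa : σ.1 a = a)
    (hσb : σ.1 b = b) (χ : ↥(GO (⇑(qfMinus m F a b))) →* Multiplicative (ZMod 2)) {r : ℕ}
    (hr : 0 < r) (hord : orderOf σ.1 = r) : CohHyp (qfMinus m F a b) χ σ r := by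
  intro g g' hg hg' _
  obtain ⟨k₁, hk₁⟩ := lang_GO_minus m a b hm hab σ.1 hσa hσb hr hord g hg
  obtain ⟨k₂, hk₂⟩ := lang_GO_minus m a b hm hab σ.1 hσa hσb hr hord g' hg'
  refine ⟨k₂ * k₁⁻¹, ?_⟩
  have h1 : (mapGLi σ.1 k₁.1)⁻¹ = k₁.1⁻¹ * g.1 := by
    rw [inv_eq_iff_eq_inv, _root_.mul_inv_rev, inv_inv, eq_inv_mul_iff_mul_eq]
    exact hk₁
  show g'.1 * mapGLi σ.1 (k₂.1 * k₁.1⁻¹) = (k₂.1 * k₁.1⁻¹) * g.1
  rw [map_mul, map_inv, h1, ← mul_assoc, hk₂, mul_assoc]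

include hab in
/-- a quadratic extension exists -/
theorem exists_quad_ext : ∃ (K : Type u) (_ : Field K) (_ : Algebra F K), finrank F K = 2 := by
  classical
  set p : F[X] := X ^ 2 + C a * X + C b with hp
  have hdeg : p.natDegree = 2 := by
    rw [hp]
    compute_degree!
  have hmonic : p.Monic := by
    rw [hp]
    monicity!
  have hirr : Irreducible p := by
    rw [hmonic.irreducible_iff_roots_eq_zero_of_degree_le_three (by omega) (by omega)]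
    rw [Multiset.eq_zero_iff_forall_notMem]
    intro t ht
    rw [mem_roots hmonic.ne_zero, IsRoot.def, hp] at ht
    simp only [eval_add, eval_pow, eval_X, eval_mul, eval_C] at ht
    have := hab t 1 (by linear_combination ht)
    exact one_ne_zero this.2
  have : Fact (Irreducible p) := ⟨hirr⟩
  have hfrL : finrank F (AdjoinRoot p) = 2 := by
    rw [(AdjoinRoot.powerBasis hirr.ne_zero).finrank, AdjoinRoot.powerBasis_dim, hdeg]
  exact ⟨AdjoinRoot p, inferInstance, inferInstance, hfrL⟩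

variable {K : Type u} [Field K] [Algebra F K] (hfr : finrank F K = 2) (ρ : K)
  (hρ : ρ ^ 2 + algebraMap F K a * ρ + algebraMap F K b = 0)

include hfr in
/-- the class character detects the class-preserving similarities -/
theorem chiKm_iff_preserves (hm : 2 ≤ m) (g : ↥(GO (⇑(qfMinus m F a b)))) :
    chiKm m a b hab ρ hρ g = 1 ↔
      PreservesSingularClassesMinus m a b ((g : GL (J m) F) : Matrix (J m) (J m) F) := by
  have hQ := Cfsg.Agent.Lib.Helper14_POmegaSimple.nondegenerate_qfMinus (F := F) m a b hab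
  have hn : 5 ≤ Fintype.card (J m) := by rw [card_J]; omega
  constructor
  · intro h
    exact ⟨K, inferInstance, inferInstance, hfr, (chiKm_eq_one_iff m a b hab ρ hρ g).mp h⟩
  · intro hP
    by_cases h2 : (2 : F) = 0
    · have h1 := (preservesMinus_iff_inn_even m a b hab h2 hm g).mp hP
      exact chi_eq_one_of_inn (qfMinus m F a b) hQ hn _
        (fun c => chiK_scalarGO _ _ _ _ _ _ c) g h1
    · have hodd := Cfsg.Agent.Lib.Helper44_FinSq.odd_card_of_two_ne_zero h2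
      obtain ⟨K', iK', iA', hfr', hP'⟩ := hP
      have h1 := (Cfsg.Agent.Lib.Helper14_InndiagMinus.preserves_minus_K_iff m a b hodd hfr' hab
        g).mp hP'
      exact (chiKm_eq_one_iff m a b hab ρ hρ g).mpr
        ((Cfsg.Agent.Lib.Helper14_InndiagMinus.preserves_minus_K_iff m a b hodd hfr hab g).mpr h1)

include hfr in
theorem chiKm_iff_inn (h2 : (2 : F) = 0) (hm : 2 ≤ m) (g : ↥(GO (⇑(qfMinus m F a b)))) :
    chiKm m a b hab ρ hρ g = 1 ↔
      Phi (⇑(qfMinus m F a b)) g ∈ Inn (POmega F (⇑(qfMinus m F a b))) := by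
  rw [chiKm_iff_preserves m a b hab hfr ρ hρ hm g]
  exact preservesMinus_iff_inn_even m a b hab h2 hm g

include hfr in
theorem chiKm_iff_det (h2 : (2 : F) ≠ 0) (g : ↥(GO (⇑(qfMinus m F a b)))) :
    chiKm m a b hab ρ hρ g = 1 ↔
      ((g : GL (J m) F) : Matrix (J m) (J m) F).det =
        ((Cfsg.Agent.Lib.Helper14_GOChars.mu (⇑(qfMinus m F a b)) g : Fˣ) : F) ^ (m + 1) := by
  rw [chiKm_eq_one_iff m a b hab ρ hρ g]
  exact Cfsg.Agent.Lib.Helper14_InndiagMinus.preserves_minus_K_iff m a b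
    (Cfsg.Agent.Lib.Helper44_FinSq.odd_card_of_two_ne_zero h2) hfr hab g

include hfr in
/-- the class character is invariant under field automorphisms -/
theorem chiKm_mapGO (hm : 2 ≤ m) (σ : ↥(invSub (⇑(qfMinus m F a b))))
    (g : ↥(GO (⇑(qfMinus m F a b)))) :
    chiKm m a b hab ρ hρ (mapGO (⇑(qfMinus m F a b)) σ g) = chiKm m a b hab ρ hρ g := by
  apply z2_eq_of_iff
  by_cases h2 : (2 : F) = 0
  · rw [chiKm_iff_inn m a b hab hfr ρ hρ h2 hm, chiKm_iff_inn m a b hab hfr ρ hρ h2 hm]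
    have e := fieldO_mul_Phi (⇑(qfMinus m F a b)) σ g
    obtain ⟨φ, hφ⟩ : ∃ φ, φ = fieldO (⇑(qfMinus m F a b)) σ := ⟨_, rfl⟩
    obtain ⟨Pg, hPg⟩ : ∃ φ, φ = Phi (⇑(qfMinus m F a b)) g := ⟨_, rfl⟩
    obtain ⟨Ps, hPs⟩ : ∃ φ, φ = Phi (⇑(qfMinus m F a b)) (mapGO (⇑(qfMinus m F a b)) σ g) :=
      ⟨_, rfl⟩
    rw [← hφ, ← hPg, ← hPs] at e
    rw [← hPg, ← hPs]
    have e' : Ps = φ * Pg * φ⁻¹ := by rw [e]; group
    have e'' : Pg = φ⁻¹ * Ps * φ⁻¹⁻¹ := by rw [e']; group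
    constructor
    · intro h
      rw [e'']
      exact (innNormal _).conj_mem _ h φ⁻¹
    · intro h
      rw [e']
      exact (innNormal _).conj_mem _ h φ
  · rw [chiKm_iff_det m a b hab hfr ρ hρ h2, chiKm_iff_det m a b hab hfr ρ hρ h2]
    have hne : ∃ v, qfMinus m F a b v ≠ 0 := ⟨_, nonsing_e0 m a b⟩
    have hs : IsSemisimilarityPair (⇑(qfMinus m F a b)) (1 : GL (J m) F) σ.1 :=
      ⟨1, fun v => by
        rw [Units.val_one, Matrix.one_mulVec, Units.val_one, one_mul]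
        exact σ.2 v⟩
    have heq : mapGO (⇑(qfMinus m F a b)) σ g = twGO (⇑(qfMinus m F a b)) hs g := by
      apply Subtype.ext
      rw [mapGO_coe, twGO_coe, twist_apply, sigGL_eq_mapGLi]
      group
    rw [heq, det_twGO, mu_twGO _ hne hs g]
    show σ.1 _ = (σ.1 ((Cfsg.Agent.Lib.Helper14_GOChars.mu (⇑(qfMinus m F a b)) g : Fˣ) : F)) ^ (m + 1)
      ↔ _
    rw [← map_pow]
    exact σ.1.injective.eq_iff

/-- the inner-diagonal group for a function `Qf` -/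
def DgenM (Qf : (J m → F) → F) : Subgroup (MulAut (POmega F Qf)) :=
  autSubgroupOf fun β => ∃ g : GL (J m) F, g ∈ Geo.quadSimilarityGroup (F := F) Qf ∧
    PreservesSingularClassesMinus m a b (g : Matrix (J m) (J m) F) ∧
    IsInducedBySemilinearPOmega Qf g (RingEquiv.refl F) β

include hfr in
theorem DgenM_eq (hm : 2 ≤ m) : DgenM m a b (⇑(qfMinus m F a b)) =
    ((chiKm m a b hab ρ hρ).ker).map (Phi (⇑(qfMinus m F a b))) := by
  unfold DgenM autSubgroupOf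
  have : {β : MulAut (POmega F (⇑(qfMinus m F a b))) |
      ∃ g : GL (J m) F, g ∈ Geo.quadSimilarityGroup (F := F) (⇑(qfMinus m F a b)) ∧
        PreservesSingularClassesMinus m a b (g : Matrix (J m) (J m) F) ∧
        IsInducedBySemilinearPOmega (⇑(qfMinus m F a b)) g (RingEquiv.refl F) β} =
      ((((chiKm m a b hab ρ hρ).ker).map (Phi (⇑(qfMinus m F a b))) :
        Subgroup (MulAut (POmega F (⇑(qfMinus m F a b))))) :
        Set (MulAut (POmega F (⇑(qfMinus m F a b))))) := by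
    ext β
    constructor
    · rintro ⟨g, hg, hpres, hβ⟩
      refine ⟨⟨g, hg⟩, ?_, ?_⟩
      · rw [SetLike.mem_coe, MonoidHom.mem_ker]
        exact (chiKm_iff_preserves m a b hab hfr ρ hρ hm ⟨g, hg⟩).mpr hpres
      · exact ((Cfsg.Agent.Lib.Helper14_AutOmega.isInduced_iff (⇑(qfMinus m F a b)) ⟨g, hg⟩ β).mp hβ).symm
    · rintro ⟨g, hg, rfl⟩
      rw [SetLike.mem_coe, MonoidHom.mem_ker] at hg
      exact ⟨g.1, g.2, (chiKm_iff_preserves m a b hab hfr ρ hρ hm g).mp hg,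
        (Cfsg.Agent.Lib.Helper14_AutOmega.isInduced_iff (⇑(qfMinus m F a b)) g _).mpr rfl⟩
  rw [this, Subgroup.closure_eq]

include hfr in
theorem ker_map_eq_inn (h2 : (2 : F) = 0) (hm : 2 ≤ m) :
    ((chiKm m a b hab ρ hρ).ker).map (Phi (⇑(qfMinus m F a b))) =
      Inn (POmega F (⇑(qfMinus m F a b))) := by
  ext β
  constructor
  · rintro ⟨g, hg, rfl⟩
    exact (chiKm_iff_inn m a b hab hfr ρ hρ h2 hm g).mp (MonoidHom.mem_ker.mp hg)
  · intro hβ
    obtain ⟨g, rfl⟩ := Cfsg.Agent.Lib.Helper44_OrthOddCent.inn_le_range (qfMinus m F a b) hβ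
    exact ⟨g, MonoidHom.mem_ker.mpr ((chiKm_iff_inn m a b hab hfr ρ hρ h2 hm g).mpr hβ), rfl⟩

include hab in
/-- two minus-type forms of the same dimension are isometric -/
theorem exists_isom (a' b' : F)
    (hab' : ∀ z₁ z₂ : F, z₁ ^ 2 + a' * z₁ * z₂ + b' * z₂ ^ 2 = 0 → z₁ = 0 ∧ z₂ = 0) :
    ∃ P : GL (J m) F, IsIsom (⇑(qfMinus m F a b)) (⇑(qfMinus m F a' b')) P := by
  classical
  have hnd := Cfsg.Agent.Lib.Helper14_POmegaSimple.nondegenerate_qfMinus m a b hab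
  have hdim : finrank F (J m → F) = 2 * (m + 1) := by
    rw [Module.finrank_fintype_fun_eq_card, card_J]
  rcases iso_plus_or_minus (m + 1) (by omega) hdim (qfMinus m F a b) hnd a' b' hab' with h | h
  · exfalso
    exact not_isHyp_qfMinus m a b hab (IsHyp.of_iso h.symm (isHyp_qfPlus (m + 1)))
  · have h' : Iso (qfMinus m F a b) (qfMinus m F a' b') := h
    obtain ⟨φ, hφ⟩ := h'
    obtain ⟨g, hg⟩ := Cfsg.Agent.Lib.Helper21_OrthSemisim.exists_gl_of_linearEquiv φ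
    refine ⟨g, fun v => ?_⟩
    show qfMinus m F a' b' ((g : Matrix _ _ F).mulVec v) = _
    rw [hg]
    exact hφ v

variable (a' b' : F)
  (hab' : ∀ z₁ z₂ : F, z₁ ^ 2 + a' * z₁ * z₂ + b' * z₂ ^ 2 = 0 → z₁ = 0 ∧ z₂ = 0) (ρ' : K)
  (hρ' : ρ' ^ 2 + algebraMap F K a' * ρ' + algebraMap F K b' = 0)

include hfr in
theorem map_le_odd (h2 : (2 : F) ≠ 0) (hm : 3 ≤ m)
    (ψ : POmega F (⇑(qfMinus m F a b)) ≃* POmega F (⇑(qfMinus m F a' b'))) :
    (((chiKm m a b hab ρ hρ).ker).map (Phi (⇑(qfMinus m F a b)))).map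
        (MulAut.congr ψ).toMonoidHom ≤
      ((chiKm m a' b' hab' ρ' hρ').ker).map (Phi (⇑(qfMinus m F a' b'))) := by
  rintro _ ⟨_, ⟨g, hg, rfl⟩, rfl⟩
  obtain ⟨P, hP⟩ := exists_isom m a b hab a' b' hab'
  have hne' : ∃ v, qfMinus m F a' b' v ≠ 0 := ⟨_, nonsing_e0 m a' b'⟩
  obtain ⟨g', τ, h1, h3, h4⟩ := transport (qfMinus m F a b) (qfMinus m F a' b')
    (Cfsg.Agent.Lib.Helper14_OrthMinusAut.setup_minus hm a' b' hab') hne' hP ψ g
  refine ⟨g', ?_, h1.symm⟩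
  rw [SetLike.mem_coe, MonoidHom.mem_ker] at hg ⊢
  rw [chiKm_iff_det m a b hab hfr ρ hρ h2] at hg
  rw [chiKm_iff_det m a' b' hab' hfr ρ' hρ' h2, h3, h4, hg, map_pow]

include hfr in
/-- every isomorphism carries the inner-diagonal group to the inner-diagonal group -/
theorem map_ker_eq (hm : 3 ≤ m)
    (ψ : POmega F (⇑(qfMinus m F a b)) ≃* POmega F (⇑(qfMinus m F a' b'))) :
    (((chiKm m a b hab ρ hρ).ker).map (Phi (⇑(qfMinus m F a b)))).map
        (MulAut.congr ψ).toMonoidHom =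
      ((chiKm m a' b' hab' ρ' hρ').ker).map (Phi (⇑(qfMinus m F a' b'))) := by
  by_cases h2 : (2 : F) = 0
  · rw [ker_map_eq_inn m a b hab hfr ρ hρ h2 (by omega),
      ker_map_eq_inn m a' b' hab' hfr ρ' hρ' h2 (by omega)]
    exact map_congr_inn ψ
  · apply le_antisymm (map_le_odd m a b hab hfr ρ hρ a' b' hab' ρ' hρ' h2 hm ψ)
    intro β hβ
    have h1 := map_le_odd m a' b' hab' hfr ρ' hρ' a b hab ρ hρ h2 hm ψ.symm ⟨β, hβ, rfl⟩
    refine ⟨_, h1, ?_⟩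
    apply MulEquiv.ext
    intro t
    show ψ (ψ.symm (β (ψ.symm.symm (ψ.symm t)))) = β t
    rw [MulEquiv.apply_symm_apply, MulEquiv.symm_symm, MulEquiv.apply_symm_apply]

end minus

/-! ### the main statement -/

section main

universe u

variable {F : Type u} [Field F] [Fintype F]

/-- the coset statement for functions equal to minus-type standard forms -/
theorem coset_conj_minus_aux {m : ℕ} (hm : 3 ≤ m) (a b : F)
    (hab : ∀ z₁ z₂ : F, z₁ ^ 2 + a * z₁ * z₂ + b * z₂ ^ 2 = 0 → z₁ = 0 ∧ z₂ = 0)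
    (Qf : (J m → F) → F) (hQf : Qf = ⇑(qfMinus m F a b)) (x δ : MulAut (POmega F Qf))
    (hx : ∃ (a' b' : F) (Qf' : (J m → F) → F) (_ : Qf' = ⇑(qfMinus m F a' b'))
      (ψ : POmega F Qf ≃* POmega F Qf') (σ : F ≃+* F),
      (∀ z₁ z₂ : F, z₁ ^ 2 + a' * z₁ * z₂ + b' * z₂ ^ 2 = 0 → z₁ = 0 ∧ z₂ = 0) ∧
      σ ≠ RingEquiv.refl F ∧ σ a' = a' ∧ σ b' = b' ∧
      IsFieldAutPOmegaOf Qf' σ ((ψ.symm.trans x).trans ψ))
    {r : ℕ} (hr : r.Prime) (hxr : orderOf x = r) (hδ : δ ∈ DgenM m a b Qf) :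
    orderOf (δ * x) = r ↔ IsConjUnder (DgenM m a b Qf) x (δ * x) := by
  subst hQf
  obtain ⟨a', b', Qf', hQf', ψ, σ, hab', hσ, hσa, hσb, hstd⟩ := hx
  subst hQf'
  obtain ⟨K, iK, iA, hfr⟩ := exists_quad_ext a b hab
  obtain ⟨ρ, hρ⟩ := exists_root hfr a b hab
  obtain ⟨ρ', hρ'⟩ := exists_root hfr a' b' hab'
  have hQ' := Cfsg.Agent.Lib.Helper14_POmegaSimple.nondegenerate_qfMinus (F := F) m a' b' hab'
  have hn : 5 ≤ Fintype.card (J m) := by rw [card_J]; omega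
  obtain ⟨σ', hσ'⟩ : ∃ σ' : ↥(invSub (⇑(qfMinus m F a' b'))), σ'.1 = σ :=
    ⟨⟨σ, sigInv_qfMinus m a' b' σ hσa hσb⟩, rfl⟩
  have hφ : (ψ.symm.trans x).trans ψ = fieldO (⇑(qfMinus m F a' b')) σ' := by
    rw [← hσ'] at hstd
    exact (isFieldAut_iff _ σ' _).mp hstd
  have hx' : MulAut.congr ψ x = fieldO (⇑(qfMinus m F a' b')) σ' := by
    rw [← hφ]
    rfl
  have hσ1 : σ' ≠ 1 := by
    intro h
    apply hσ
    rw [← hσ', h]
    rfl
  rw [DgenM_eq m a b hab hfr ρ hρ (by omega)] at hδ ⊢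
  refine coset_conj_transport (qfMinus m F a' b') hQ' hn (faithData_qfMinus a' b' (by omega))
    (chiKm m a' b' hab' ρ' hρ') (fun c => chiK_scalarGO _ _ _ _ _ _ c) σ' hσ1
    (chiKm_mapGO m a' b' hab' hfr ρ' hρ' (by omega) σ')
    (reflGO (qfMinus m F a' b') _ (nonsing_e0 m a' b')) ?_ ?_ ψ _
    (map_ker_eq m a b hab hfr ρ hρ a' b' hab' ρ' hρ' hm ψ) x δ hx' hr hxr
    (fun hord => cohHyp_minus m a' b' hab' (by omega) σ' (by rw [hσ']; exact hσa)
      (by rw [hσ']; exact hσb) _ hr.pos hord) hδ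
  · exact mapGO_reflGO _ σ' _ _ (fun i => ringEquiv_single' σ'.1 _ i)
  · rw [chiKm, chiK_reflGO]
    decide

/-- **S2737** -/
theorem coset_conj_minus {m : ℕ} (hm : 3 ≤ m) (a b : F)
    (hab : ∀ z₁ z₂ : F, z₁ ^ 2 + a * z₁ * z₂ + b * z₂ ^ 2 = 0 → z₁ = 0 ∧ z₂ = 0)
    (x δ : MulAut (POmega F (quadFormMinus m F a b)))
    (hx : IsFieldAutClassPOmegaMinus m x) {r : ℕ} (hr : r.Prime) (hxr : orderOf x = r)
    (hδ : δ ∈ inndiagPOmegaMinus m F a b) :
    orderOf (δ * x) = r ↔ IsConjUnder (inndiagPOmegaMinus m F a b) x (δ * x) := by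
  obtain ⟨a', b', ψ, σ, hab', hσ, hσa, hσb, hstd⟩ := hx
  exact coset_conj_minus_aux hm a b hab (quadFormMinus m F a b) (coe_qfMinus m F a b).symm x δ
    ⟨a', b', quadFormMinus m F a' b', (coe_qfMinus m F a' b').symm, ψ, σ, hab', hσ, hσa, hσb,
      hstd⟩ hr hxr hδ

end main

end Cfsg.Agent.Lib.Helper44_OrthMinusCoset
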