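import Mathlib
import Cfsg.Agent.Lib.Helper44_OrthMinusCoset
import Cfsg.Agent.Lib.Helper44_OrthOddCent
import Cfsg.Agent.Lib.Helper44_SqExt
import Cfsg.Agent.Lib.Helper14_InndiagQuot
import Cfsg.Agent.Lib.Helper14_SplitClass

/-!
# Field automorphisms of prime order of `PΩ⁻_{2m+2}(q)`: centralizer and class splitting (helper44)

The centralizer in `Inndiag` of a field automorphism of prime order `r` is `Inndiag` of the group
over the fixed field, `r` is odd, and the `Inndiag`-class is a single `Inn`-class.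
-/

set_option autoImplicit false
set_option linter.unusedSectionVars false
set_option linter.unusedVariables false

namespace Cfsg.Agent.Lib.Helper44_OrthMinusCent

open Cfsg Matrix Module Polynomial Cfsg.Agent.Lib.Helper44_Orth Cfsg.Agent.Lib.Helper14_AutOmega
  Cfsg.Agent.Lib.Helper44_H90i Cfsg.Agent.Lib.Helper44_H90 Cfsg.Agent.Lib.Helper44_OrthField
  Cfsg.Agent.Lib.Helper44_OrthFaith Cfsg.Agent.Lib.Helper14_CentOmega
  Cfsg.Agent.Lib.Helper44_OrthCoset Cfsg.Agent.Lib.Helper44_StdForms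
  Cfsg.Agent.Lib.Helper44_OrthEvenCoset Cfsg.Agent.Lib.Helper44_OrthMinusK
  Cfsg.Agent.Lib.Helper44_OrthMinusLang Cfsg.Agent.Lib.Helper44_OrthIsoTransport
  Cfsg.Agent.Lib.Helper44_OrthPlusMain Cfsg.Agent.Lib.Helper40_QuadStd
  Cfsg.Agent.Lib.Helper40_QuadIso Cfsg.Agent.Lib.Helper7_OrthInduced
  Cfsg.Agent.Lib.Helper14_OrthPsiInv Cfsg.Agent.Lib.Helper14_OrthGamma2
  Cfsg.Agent.Lib.Helper44_OrthMinusCoset Cfsg.Agent.Lib.Helper44_OrthBase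
  Cfsg.Agent.Lib.Helper44_FixField

open Cfsg.Agent.Lib.Helper14_GOChars (mu mu_eq mu_spec)

/-! ### transport of centralizers and class splitting along an isomorphism -/

section generic

variable {A A' : Type*} [Group A] [Group A']

theorem mem_centralizer_singleton' (x y : A) :
    y ∈ Subgroup.centralizer {x} ↔ x * y = y * x := by
  rw [Subgroup.mem_centralizer_iff]
  simp only [Set.mem_singleton_iff, forall_eq]

theorem map_inf_centralizer (Ψ : A ≃* A') (D : Subgroup A) (x : A) :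
    (D ⊓ Subgroup.centralizer {x}).map Ψ.toMonoidHom =
      D.map Ψ.toMonoidHom ⊓ Subgroup.centralizer {Ψ x} := by
  ext y'
  constructor
  · rintro ⟨y, hy, rfl⟩
    rw [SetLike.mem_coe, Subgroup.mem_inf, mem_centralizer_singleton'] at hy
    rw [Subgroup.mem_inf, mem_centralizer_singleton']
    refine ⟨⟨y, hy.1, rfl⟩, ?_⟩
    show Ψ x * Ψ y = Ψ y * Ψ x
    rw [← map_mul, ← map_mul, hy.2]
  · intro hy'
    rw [Subgroup.mem_inf, mem_centralizer_singleton'] at hy'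
    obtain ⟨⟨y, hy, rfl⟩, hc⟩ := hy'
    refine ⟨y, ?_, rfl⟩
    rw [SetLike.mem_coe, Subgroup.mem_inf, mem_centralizer_singleton']
    refine ⟨hy, ?_⟩
    apply Ψ.injective
    rw [map_mul, map_mul]
    exact hc

/-- an isomorphism identifies the centralizers in corresponding subgroups -/
noncomputable def centMapEquiv (Ψ : A ≃* A') (D : Subgroup A) (x : A) :
    ↥(D ⊓ Subgroup.centralizer {x}) ≃*
      ↥(D.map Ψ.toMonoidHom ⊓ Subgroup.centralizer {Ψ x}) :=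
  (Ψ.subgroupMap (D ⊓ Subgroup.centralizer {x})).trans
    (MulEquiv.subgroupCongr (map_inf_centralizer Ψ D x))

theorem isConjUnder_map_iff (Ψ : A ≃* A') (H : Subgroup A) (x y : A) :
    Cfsg.IsConjUnder (H.map Ψ.toMonoidHom) (Ψ x) (Ψ y) ↔ Cfsg.IsConjUnder H x y := by
  constructor
  · rintro ⟨_, ⟨h, hh, rfl⟩, e⟩
    refine ⟨h, hh, ?_⟩
    apply Ψ.injective
    rw [map_mul, map_mul, map_inv]
    exact e
  · rintro ⟨h, hh, rfl⟩
    refine ⟨Ψ h, ⟨h, hh, rfl⟩, ?_⟩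
    rw [map_mul, map_mul, map_inv]

theorem splitClassCount_map (Ψ : A ≃* A') (H K : Subgroup A) (x : A) :
    Cfsg.splitClassCount (H.map Ψ.toMonoidHom) (K.map Ψ.toMonoidHom) (Ψ x) =
      Cfsg.splitClassCount H K x := by
  unfold Cfsg.splitClassCount
  symm
  apply Nat.card_congr
  let e : {y : A // Cfsg.IsConjUnder H x y} ≃
      {y : A' // Cfsg.IsConjUnder (H.map Ψ.toMonoidHom) (Ψ x) y} :=
    Equiv.subtypeEquiv Ψ.toEquiv (fun y => by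
      show _ ↔ Cfsg.IsConjUnder (H.map Ψ.toMonoidHom) (Ψ x) (Ψ y)
      rw [isConjUnder_map_iff])
  refine Quot.congr e ?_
  intro a b
  show _ ↔ Cfsg.IsConjUnder (K.map Ψ.toMonoidHom) (Ψ a.1) (Ψ b.1)
  rw [isConjUnder_map_iff]

/-- two homomorphisms with the same kernel on a subgroup have isomorphic images of it -/
theorem nonempty_equiv_of_ker_eq {G B C : Type*} [Group G] [Group B] [Group C]
    (H : Subgroup G) (S : Subgroup B) (f : G →* B) (g : G →* C)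
    (hfS : ∀ x ∈ H, f x ∈ S) (hsurj : ∀ y ∈ S, ∃ x ∈ H, f x = y)
    (hker : ∀ x ∈ H, f x = 1 ↔ g x = 1) : Nonempty (↥S ≃* ↥(H.map g)) := by
  let Φ' : ↥H →* ↥S := (f.comp H.subtype).codRestrict S (fun x => hfS x.1 x.2)
  let Φ'' : ↥H →* ↥(H.map g) := g.subgroupMap H
  have hs' : Function.Surjective Φ' := by
    rintro ⟨y, hy⟩
    obtain ⟨x, hx, hxy⟩ := hsurj y hy
    exact ⟨⟨x, hx⟩, Subtype.ext hxy⟩
  have hs'' : Function.Surjective Φ'' := g.subgroupMap_surjective H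
  have hk : Φ'.ker = Φ''.ker := by
    ext x
    rw [MonoidHom.mem_ker, MonoidHom.mem_ker]
    constructor
    · intro h
      have h1 : f x.1 = 1 := congrArg Subtype.val h
      exact Subtype.ext ((hker x.1 x.2).mp h1)
    · intro h
      have h1 : g x.1 = 1 := congrArg Subtype.val h
      exact Subtype.ext ((hker x.1 x.2).mpr h1)
  exact ⟨(QuotientGroup.quotientKerEquivOfSurjective Φ' hs').symm.trans
    ((QuotientGroup.quotientMulEquivOfEq hk).trans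
      (QuotientGroup.quotientKerEquivOfSurjective Φ'' hs''))⟩

end generic

/-! ### the order of a field automorphism fixing an anisotropic binary form is odd -/

section oddorder

variable {F : Type*} [Field F] [Fintype F]

theorem odd_of_fixes (a b : F)
    (hab : ∀ z₁ z₂ : F, z₁ ^ 2 + a * z₁ * z₂ + b * z₂ ^ 2 = 0 → z₁ = 0 ∧ z₂ = 0)
    (σ : F ≃+* F) (hσa : σ a = a) (hσb : σ b = b) {r : ℕ} (hr : r.Prime)
    (hord : orderOf σ = r) : Odd r := by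
  classical
  rcases hr.eq_two_or_odd' with h2 | hodd
  · exfalso
    subst h2
    have : Finite (F ≃+* F) :=
      Finite.of_injective (fun τ : F ≃+* F => (τ : F → F)) DFunLike.coe_injective
    let _ : Fintype (Subgroup.zpowers σ) := Fintype.ofFinite _
    have h1 : Module.finrank (fixField σ) F = 2 := by
      unfold fixField
      rw [FixedPoints.finrank_eq_card, ← Nat.card_eq_fintype_card, Nat.card_zpowers, hord]
    let _ : Fintype ↥(fixField σ) := Fintype.ofFinite _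
    have hab₀ : ∀ z₁ z₂ : fixField σ,
        z₁ ^ 2 + (⟨a, (mem_fixField σ a).mpr hσa⟩ : fixField σ) * z₁ * z₂ +
          (⟨b, (mem_fixField σ b).mpr hσb⟩ : fixField σ) * z₂ ^ 2 = 0 → z₁ = 0 ∧ z₂ = 0 := by
      intro z₁ z₂ h
      have h' := congrArg Subtype.val h
      have h'' : (z₁ : F) ^ 2 + a * (z₁ : F) * (z₂ : F) + b * (z₂ : F) ^ 2 = 0 := by
        simpa using h'
      obtain ⟨e1, e2⟩ := hab _ _ h''
      exact ⟨Subtype.ext e1, Subtype.ext e2⟩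
    obtain ⟨ρ, hρ⟩ := exists_root (F := fixField σ) (K := F) h1 _ _ hab₀
    have hρ' : ρ ^ 2 + a * ρ * 1 + b * 1 ^ 2 = 0 := by
      have e1 : algebraMap (fixField σ) F ⟨a, (mem_fixField σ a).mpr hσa⟩ = a := rfl
      have e2 : algebraMap (fixField σ) F ⟨b, (mem_fixField σ b).mpr hσb⟩ = b := rfl
      rw [e1, e2] at hρ
      linear_combination hρ
    exact one_ne_zero (hab ρ 1 hρ').2
  · exact hodd

end oddorder

/-! ### base change of the class character along a subfield -/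

section compat

universe u u₀

variable {F : Type u} [Field F] [Fintype F] {F₀ : Type u₀} [Field F₀] [Fintype F₀] (j : F₀ →+* F)
  (m : ℕ) (a₀ b₀ : F₀)
  (hab₀ : ∀ z₁ z₂ : F₀, z₁ ^ 2 + a₀ * z₁ * z₂ + b₀ * z₂ ^ 2 = 0 → z₁ = 0 ∧ z₂ = 0)
  (hab : ∀ z₁ z₂ : F, z₁ ^ 2 + j a₀ * z₁ * z₂ + j b₀ * z₂ ^ 2 = 0 → z₁ = 0 ∧ z₂ = 0)
  {K₀ : Type u₀} [Field K₀] [Algebra F₀ K₀] (hfr₀ : finrank F₀ K₀ = 2) (ρ₀ : K₀)
  (hρ₀ : ρ₀ ^ 2 + algebraMap F₀ K₀ a₀ * ρ₀ + algebraMap F₀ K₀ b₀ = 0)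
  {K : Type u} [Field K] [Algebra F K] (hfr : finrank F K = 2) (ρ : K)
  (hρ : ρ ^ 2 + algebraMap F K (j a₀) * ρ + algebraMap F K (j b₀) = 0)

/-- base change of similarities of the minus-type form along `j` -/
abbrev bcM : ↥(GO (⇑(qfMinus m F₀ a₀ b₀))) →* ↥(GO (⇑(qfMinus m F (j a₀) (j b₀)))) :=
  bcGO j (compat_qfMinus m a₀ b₀ j)

theorem mu_bcM (g : ↥(GO (⇑(qfMinus m F₀ a₀ b₀)))) :
    mu (⇑(qfMinus m F (j a₀) (j b₀))) (bcM j m a₀ b₀ g) =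
      Units.map (j : F₀ →* F) (mu (⇑(qfMinus m F₀ a₀ b₀)) g) := by
  apply mu_eq _ ⟨_, nonsing_e0 m (j a₀) (j b₀)⟩
  intro v
  exact sim_glMap j (compat_qfMinus m a₀ b₀ j) g.1 _ (fun u => mu_spec _ g u) v

theorem det_bcM (g : ↥(GO (⇑(qfMinus m F₀ a₀ b₀)))) :
    ((bcM j m a₀ b₀ g : ↥(GO (⇑(qfMinus m F (j a₀) (j b₀))))) : GL (J m) F).1.det =
      j ((g : GL (J m) F₀).1.det) := by
  rw [bcGO_coe, glMap_coe, RingHom.map_det, RingHom.mapMatrix_apply]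

include hfr hfr₀ in
/-- the class character is compatible with base change from a subfield -/
theorem chiKm_bcM (hm : 2 ≤ m) (g : ↥(GO (⇑(qfMinus m F₀ a₀ b₀)))) :
    chiKm m (j a₀) (j b₀) hab ρ hρ (bcM j m a₀ b₀ g) = chiKm m a₀ b₀ hab₀ ρ₀ hρ₀ g := by
  apply z2_eq_of_iff
  by_cases h2 : (2 : F₀) = 0
  · -- characteristic two: both characters have the same kernel
    have hQ₀ := Cfsg.Agent.Lib.Helper14_POmegaSimple.nondegenerate_qfMinus (F := F₀) m a₀ b₀ hab₀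
    have hn : 5 ≤ Fintype.card (J m) := by rw [card_J]; omega
    have hv₀ := nonsing_e0 m a₀ b₀
    have key := chi_eq_one_iff_inn (qfMinus m F₀ a₀ b₀) h2 hQ₀ hn hv₀
      ((chiKm m (j a₀) (j b₀) hab ρ hρ).comp (bcM j m a₀ b₀)) ?_
      (reflGO (qfMinus m F₀ a₀ b₀) _ hv₀) ?_ g
    · rw [chiKm_iff_inn m a₀ b₀ hab₀ hfr₀ ρ₀ hρ₀ h2 hm g, ← key]
      rfl
    · intro c
      show chiKm m (j a₀) (j b₀) hab ρ hρ (bcGO j (compat_qfMinus m a₀ b₀ j) (scalarGO _ c)) = 1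
      rw [bcGO_scalarGO]
      exact chiK_scalarGO _ _ _ _ _ _ _
    · show chiKm m (j a₀) (j b₀) hab ρ hρ
        (bcGO j (compat_qfMinus m a₀ b₀ j) (reflGO (qfMinus m F₀ a₀ b₀) _ hv₀)) ≠ 1
      have hv' : qfMinus m F (j a₀) (j b₀) (vmap j (Pi.single (Sum.inr 0) 1)) ≠ 0 := by
        rw [compat_qfMinus m a₀ b₀ j]
        exact (map_ne_zero j).mpr hv₀
      rw [bcGO_reflGO j (compat_qfMinus m a₀ b₀ j) _ hv₀ hv', chiKm, chiK_reflGO]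
      decide
  · have h2F : (2 : F) ≠ 0 := by
      intro h0
      apply h2
      apply j.injective
      rw [map_ofNat, h0, map_zero]
    rw [chiKm_iff_det m (j a₀) (j b₀) hab hfr ρ hρ h2F, chiKm_iff_det m a₀ b₀ hab₀ hfr₀ ρ₀ hρ₀ h2,
      det_bcM, mu_bcM]
    show j _ = (j ((mu (⇑(qfMinus m F₀ a₀ b₀)) g : F₀ˣ) : F₀)) ^ (m + 1) ↔ _
    rw [← map_pow]
    exact j.injective.eq_iff

end compat

/-! ### Hilbert 90 scaling -/

section scaling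

variable {ι : Type} [Fintype ι] [DecidableEq ι] {F : Type*} [Field F]

theorem mapGLi_pow_of_scalar' (σ : F ≃+* F) (g : GL ι F) (c : Fˣ)
    (h : mapGLi σ g = Matrix.GeneralLinearGroup.scalar ι c * g) (i : ℕ) :
    mapGLi (σ ^ i) g = Matrix.GeneralLinearGroup.scalar ι (Nm σ i c) * g := by
  induction i with
  | zero => rw [pow_zero, mapGLi_one, Nm_zero, map_one, one_mul]
  | succ i ih =>
    rw [pow_succ, mapGLi_mul, h, map_mul, ih, Matrix.GeneralLinearGroup.map_scalar, Nm_succ,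
      ← mul_assoc, ← map_mul, mul_comm]
    rfl

/-- a matrix fixed up to a scalar by `σ` can be rescaled to a fixed matrix -/
theorem exists_scalar_fixed [Nonempty ι] (σ : F ≃+* F) {r : ℕ} (hr : 0 < r) (hord : orderOf σ = r)
    (g : GL ι F) (c : Fˣ) (h : mapGLi σ g = Matrix.GeneralLinearGroup.scalar ι c * g) :
    ∃ b : Fˣ, mapGLi σ (Matrix.GeneralLinearGroup.scalar ι b * g) =
      Matrix.GeneralLinearGroup.scalar ι b * g := by
  have hσ : σ ^ r = 1 := by rw [← hord]; exact pow_orderOf_eq_one σ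
  have h3 := mapGLi_pow_of_scalar' σ g c h r
  rw [hσ, mapGLi_one] at h3
  have h4 : Matrix.GeneralLinearGroup.scalar ι (Nm σ r c)
      = Matrix.GeneralLinearGroup.scalar ι 1 := by
    rw [map_one]
    exact (mul_eq_right.mp h3.symm)
  have h5 := scalarGL_injective' h4
  obtain ⟨b, hb⟩ := hilbert90_units σ hr hord c h5
  refine ⟨b, ?_⟩
  rw [map_mul, h, Matrix.GeneralLinearGroup.map_scalar, ← mul_assoc, ← map_mul]
  congr 2
  rw [mul_comm]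
  exact hb

end scaling

/-! ### the centralizer of a standard field automorphism -/

section cent

universe u u₀

variable {F : Type u} [Field F] [Fintype F] {F₀ : Type u₀} [Field F₀] [Fintype F₀] (j : F₀ →+* F)
  (m : ℕ) (a₀ b₀ : F₀)
  (hab₀ : ∀ z₁ z₂ : F₀, z₁ ^ 2 + a₀ * z₁ * z₂ + b₀ * z₂ ^ 2 = 0 → z₁ = 0 ∧ z₂ = 0)
  (hab : ∀ z₁ z₂ : F, z₁ ^ 2 + j a₀ * z₁ * z₂ + j b₀ * z₂ ^ 2 = 0 → z₁ = 0 ∧ z₂ = 0)
  {K₀ : Type u₀} [Field K₀] [Algebra F₀ K₀] (hfr₀ : finrank F₀ K₀ = 2) (ρ₀ : K₀)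
  (hρ₀ : ρ₀ ^ 2 + algebraMap F₀ K₀ a₀ * ρ₀ + algebraMap F₀ K₀ b₀ = 0)
  {K : Type u} [Field K] [Algebra F K] (hfr : finrank F K = 2) (ρ : K)
  (hρ : ρ ^ 2 + algebraMap F K (j a₀) * ρ + algebraMap F K (j b₀) = 0)
  (σ : ↥(invSub (⇑(qfMinus m F (j a₀) (j b₀)))))
  (hι : ∀ c : F, σ.1 c = c ↔ c ∈ Set.range j)

/-- similarities over the subfield acting on `PΩ(Q)` -/
noncomputable def Psi0 : ↥(GO (⇑(qfMinus m F₀ a₀ b₀))) →*
    MulAut (POmega F (⇑(qfMinus m F (j a₀) (j b₀)))) :=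
  (Phi (⇑(qfMinus m F (j a₀) (j b₀)))).comp (bcM j m a₀ b₀)

theorem Psi0_apply (g : ↥(GO (⇑(qfMinus m F₀ a₀ b₀)))) :
    Psi0 j m a₀ b₀ g = Phi (⇑(qfMinus m F (j a₀) (j b₀))) (bcM j m a₀ b₀ g) := rfl

/-- the centralizer of `fieldO σ` in the inner-diagonal group -/
noncomputable abbrev CDM : Subgroup (MulAut (POmega F (⇑(qfMinus m F (j a₀) (j b₀))))) :=
  ((chiKm m (j a₀) (j b₀) hab ρ hρ).ker).map (Phi (⇑(qfMinus m F (j a₀) (j b₀)))) ⊓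
    Subgroup.centralizer {fieldO (⇑(qfMinus m F (j a₀) (j b₀))) σ}

include hι in
theorem mapGO_bcM (g : ↥(GO (⇑(qfMinus m F₀ a₀ b₀)))) :
    mapGO (⇑(qfMinus m F (j a₀) (j b₀))) σ (bcM j m a₀ b₀ g) = bcM j m a₀ b₀ g := by
  apply Subtype.ext
  rw [mapGO_coe, bcGO_coe]
  exact mapGLi_glMap σ.1 hι g.1

include hι hfr hfr₀ in
theorem Psi0_mem (hm : 2 ≤ m) (g : ↥(GO (⇑(qfMinus m F₀ a₀ b₀))))
    (hg : g ∈ (chiKm m a₀ b₀ hab₀ ρ₀ hρ₀).ker) :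
    Psi0 j m a₀ b₀ g ∈ CDM j m a₀ b₀ hab ρ hρ σ := by
  rw [Subgroup.mem_inf, mem_centralizer_singleton']
  refine ⟨⟨bcM j m a₀ b₀ g, ?_, rfl⟩, ?_⟩
  · rw [SetLike.mem_coe, MonoidHom.mem_ker, chiKm_bcM j m a₀ b₀ hab₀ hab hfr₀ ρ₀ hρ₀ hfr ρ hρ hm g]
    exact MonoidHom.mem_ker.mp hg
  · rw [Psi0_apply, fieldO_mul_Phi, mapGO_bcM j m a₀ b₀ σ hι g]

include hι in
/-- a `σ`-fixed similarity comes from the subfield -/
theorem exists_bcM_of_fixed (g : ↥(GO (⇑(qfMinus m F (j a₀) (j b₀)))))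
    (hfix : mapGLi σ.1 g.1 = g.1) :
    ∃ k : ↥(GO (⇑(qfMinus m F₀ a₀ b₀))), bcM j m a₀ b₀ k = g := by
  obtain ⟨k, hk⟩ := exists_glMap_of_fixed σ.1 hι g.1 hfix
  have hc := compat_qfMinus m a₀ b₀ j
  set v₀ : J m → F₀ := Pi.single (Sum.inr 0) 1 with hv₀
  have hQv₀ : qfMinus m F₀ a₀ b₀ v₀ = 1 := by
    rw [hv₀, qfMinus_single]
    simp
  have key : ∀ v : J m → F₀, j (qfMinus m F₀ a₀ b₀ (k.1 *ᵥ v)) =
      (mu (⇑(qfMinus m F (j a₀) (j b₀))) g : F) * j (qfMinus m F₀ a₀ b₀ v) := by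
    intro v
    rw [← hc, ← hc, vmap_mulVec, ← glMap_coe, hk]
    exact mu_spec _ g _
  have hμ : ((mu (⇑(qfMinus m F (j a₀) (j b₀))) g : Fˣ) : F) =
      j (qfMinus m F₀ a₀ b₀ (k.1 *ᵥ v₀)) := by
    rw [key v₀, hQv₀, map_one, mul_one]
  have hc₀ : qfMinus m F₀ a₀ b₀ (k.1 *ᵥ v₀) ≠ 0 := by
    intro h0
    rw [h0, map_zero] at hμ
    exact (Units.ne_zero _) hμ
  have hkGO : k ∈ GO (⇑(qfMinus m F₀ a₀ b₀)) := by
    refine ⟨Units.mk0 _ hc₀, fun v => ?_⟩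
    apply j.injective
    rw [key v, hμ, Units.val_mk0, map_mul]
  exact ⟨⟨k, hkGO⟩, Subtype.ext hk⟩

include hι hfr hfr₀ in
theorem Psi0_surj (hm : 3 ≤ m) {r : ℕ} (hr : 0 < r) (hord : orderOf σ.1 = r)
    (y : MulAut (POmega F (⇑(qfMinus m F (j a₀) (j b₀)))))
    (hy : y ∈ CDM j m a₀ b₀ hab ρ hρ σ) :
    ∃ k ∈ (chiKm m a₀ b₀ hab₀ ρ₀ hρ₀).ker, Psi0 j m a₀ b₀ k = y := by
  have hQ := Cfsg.Agent.Lib.Helper14_POmegaSimple.nondegenerate_qfMinus (F := F) m (j a₀) (j b₀) hab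
  have hn : 5 ≤ Fintype.card (J m) := by rw [card_J]; omega
  have hne : Nonempty (J m) := ⟨Sum.inr 0⟩
  rw [Subgroup.mem_inf, mem_centralizer_singleton'] at hy
  obtain ⟨⟨g, hgχ, rfl⟩, hcomm⟩ := hy
  rw [fieldO_mul_Phi] at hcomm
  have h1 := mul_right_cancel hcomm
  have hker : g⁻¹ * mapGO (⇑(qfMinus m F (j a₀) (j b₀))) σ g ∈
      (Phi (⇑(qfMinus m F (j a₀) (j b₀)))).ker := by
    rw [MonoidHom.mem_ker, map_mul, map_inv, h1, inv_mul_cancel]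
  rw [ker_Phi _ hQ hn, Subgroup.mem_subgroupOf] at hker
  obtain ⟨c, hc⟩ := exists_scalar_of_mem_scalars' hker
  have hc' : mapGLi σ.1 g.1 = Matrix.GeneralLinearGroup.scalar (J m) c * g.1 := by
    have h2 : g.1⁻¹ * mapGLi σ.1 g.1 = Matrix.GeneralLinearGroup.scalar (J m) c := hc
    rw [Matrix.GeneralLinearGroup.scalar_commute, ← h2, mul_inv_cancel_left]
  obtain ⟨b, hb⟩ := exists_scalar_fixed σ.1 hr hord g.1 c hc'
  have hb' : mapGLi σ.1 (scalarGO (qfMinus m F (j a₀) (j b₀)) b * g).1 =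
      (scalarGO (qfMinus m F (j a₀) (j b₀)) b * g).1 := hb
  obtain ⟨k, hk⟩ := exists_bcM_of_fixed j m a₀ b₀ σ hι _ hb'
  refine ⟨k, ?_, ?_⟩
  · rw [MonoidHom.mem_ker, ← chiKm_bcM j m a₀ b₀ hab₀ hab hfr₀ ρ₀ hρ₀ hfr ρ hρ (by omega) k, hk,
      map_mul, chiKm, chiK_scalarGO, one_mul]
    exact MonoidHom.mem_ker.mp hgχ
  · rw [Psi0_apply, hk, map_mul, Phi_scalarGO, one_mul]

include hab hab₀ in
theorem Psi0_eq_one_iff (hm : 3 ≤ m) (g : ↥(GO (⇑(qfMinus m F₀ a₀ b₀)))) :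
    Psi0 j m a₀ b₀ g = 1 ↔ Phi (⇑(qfMinus m F₀ a₀ b₀)) g = 1 := by
  have hQ := Cfsg.Agent.Lib.Helper14_POmegaSimple.nondegenerate_qfMinus (F := F) m (j a₀) (j b₀) hab
  have hQ₀ := Cfsg.Agent.Lib.Helper14_POmegaSimple.nondegenerate_qfMinus (F := F₀) m a₀ b₀ hab₀
  have hn : 5 ≤ Fintype.card (J m) := by rw [card_J]; omega
  rw [Psi0_apply, ← MonoidHom.mem_ker, ← MonoidHom.mem_ker, ker_Phi _ hQ hn, ker_Phi _ hQ₀ hn,
    Subgroup.mem_subgroupOf, Subgroup.mem_subgroupOf, Cfsg.Geo.mem_scalars_iff,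
    Cfsg.Geo.mem_scalars_iff]
  constructor
  · rintro ⟨c, hc⟩
    have hent : ∀ i i', j (g.1.1 i i') = if i = i' then (c : F) else 0 := by
      intro i i'
      have := congrFun (congrFun hc i) i'
      rw [Matrix.smul_apply, Matrix.one_apply, smul_eq_mul, mul_ite, mul_one, mul_zero] at this
      exact this
    set i0 : J m := Sum.inr 0 with hi0
    have hd : j (g.1.1 i0 i0) = (c : F) := by rw [hent, if_pos rfl]
    have hd0 : g.1.1 i0 i0 ≠ 0 := by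
      intro h0
      rw [h0, map_zero] at hd
      exact c.ne_zero hd.symm
    refine ⟨Units.mk0 _ hd0, ?_⟩
    ext i i'
    rw [Matrix.smul_apply, Matrix.one_apply, smul_eq_mul, mul_ite, mul_one, mul_zero,
      Units.val_mk0]
    apply j.injective
    rw [hent]
    by_cases hij : i = i'
    · rw [if_pos hij, if_pos hij, hd]
    · rw [if_neg hij, if_neg hij, map_zero]
  · rintro ⟨u, hu⟩
    refine ⟨Units.map (j : F₀ →* F) u, ?_⟩
    show g.1.1.map j = _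
    rw [hu]
    ext i i'
    simp only [Matrix.map_apply, Matrix.smul_apply, Matrix.one_apply, smul_eq_mul, map_mul]
    by_cases hij : i = i'
    · simp [hij]
    · simp [hij]

include hι hfr hfr₀ in
/-- `C_{Inndiag}(field automorphism) ≅ Inndiag` over the fixed field -/
theorem nonempty_centEquiv_minus (hm : 3 ≤ m) {r : ℕ} (hr : 0 < r) (hord : orderOf σ.1 = r) :
    Nonempty (↥(CDM j m a₀ b₀ hab ρ hρ σ) ≃*
      ↥(((chiKm m a₀ b₀ hab₀ ρ₀ hρ₀).ker).map (Phi (⇑(qfMinus m F₀ a₀ b₀))))) :=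
  nonempty_equiv_of_ker_eq _ _ (Psi0 j m a₀ b₀) (Phi (⇑(qfMinus m F₀ a₀ b₀)))
    (fun g hg => Psi0_mem j m a₀ b₀ hab₀ hab hfr₀ ρ₀ hρ₀ hfr ρ hρ σ hι (by omega) g hg)
    (fun y hy => Psi0_surj j m a₀ b₀ hab₀ hab hfr₀ ρ₀ hρ₀ hfr ρ hρ σ hι hm hr hord y hy)
    (fun g _ => Psi0_eq_one_iff j m a₀ b₀ hab₀ hab hm g)

end cent

/-! ### every class-preserving similarity is inner modulo the centralizer (odd characteristic) -/

section innercent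

open Cfsg.Agent.Lib.Helper14_OmegaIndex Cfsg.Agent.Lib.Helper44_OrthOddCent

variable {ι : Type} [Fintype ι] [DecidableEq ι] {F : Type*} [Field F] [Fintype F]
  (Q : QuadraticForm F (ι → F)) (C : Subgroup (MulAut (POmega F (⇑Q))))

/-- the products of an inner automorphism and an element of `C` -/
def InnMul (y : MulAut (POmega F (⇑Q))) : Prop :=
  ∃ a ∈ Inn (POmega F (⇑Q)), ∃ c ∈ C, y = a * c

theorem InnMul.mul_right {y : MulAut (POmega F (⇑Q))} (hy : InnMul Q C y)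
    {c' : MulAut (POmega F (⇑Q))} (hc' : c' ∈ C) : InnMul Q C (y * c') := by
  obtain ⟨a, ha, c, hc, rfl⟩ := hy
  exact ⟨a, ha, c * c', C.mul_mem hc hc', by rw [mul_assoc]⟩

variable (h2 : (2 : F) ≠ 0) (hQ : (QuadraticMap.polarBilin Q).Nondegenerate)
  (t : ↥(isometryGroup F (⇑Q))) (ht : t ∈ specialIsometryGroup F (⇑Q))
  (htΩ : t ∉ Omega F (⇑Q)) (htC : PhiO (⇑Q) t ∈ C)

include h2 hQ ht htΩ htC in
theorem innMul_SO (s : ↥(isometryGroup F (⇑Q))) (hs : s ∈ specialIsometryGroup F (⇑Q)) :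
    InnMul Q C (PhiO (⇑Q) s) := by
  by_cases hsΩ : s ∈ Omega F (⇑Q)
  · refine ⟨PhiO (⇑Q) s, ?_, 1, C.one_mem, by rw [mul_one]⟩
    rw [inn_eq_map]
    exact ⟨s, hsΩ, rfl⟩
  · refine ⟨PhiO (⇑Q) (s * t), ?_, (PhiO (⇑Q) t)⁻¹, C.inv_mem htC, ?_⟩
    · rw [inn_eq_map]
      exact ⟨s * t, mul_mem_omega Q h2 hQ hs ht hsΩ htΩ, rfl⟩
    · rw [map_mul, mul_inv_cancel_right]

include h2 hQ ht htΩ htC in
theorem innMul_of_mu_one (g : ↥(GO (⇑Q))) (hμ : mu (⇑Q) g = 1)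
    (hdet : (g : GL ι F).1.det = 1) : InnMul Q C (Phi (⇑Q) g) := by
  have hg : (g : GL ι F) ∈ isometryGroup F (⇑Q) :=
    Cfsg.Agent.Lib.Helper14_GOChars.isometry_of_mu (⇑Q) g hμ
  have hs : (⟨g.1, hg⟩ : ↥(isometryGroup F (⇑Q))) ∈ specialIsometryGroup F (⇑Q) := by
    rw [Cfsg.Agent.S0787.mem_SO_iff]
    exact hdet
  have := innMul_SO Q C h2 hQ t ht htΩ htC ⟨g.1, hg⟩ hs
  exact this

include h2 hQ ht htΩ htC in
theorem innMul_of_sq (hne : ∃ v, Q v ≠ 0) {M : ℕ} (hcard : Fintype.card ι = 2 * M)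
    (g : ↥(GO (⇑Q))) (hsq : IsSquare ((mu (⇑Q) g : Fˣ) : F))
    (hdet : (g : GL ι F).1.det = ((mu (⇑Q) g : Fˣ) : F) ^ M) : InnMul Q C (Phi (⇑Q) g) := by
  obtain ⟨s, hs⟩ := hsq
  have hs0 : s ≠ 0 := by
    rintro rfl
    rw [mul_zero] at hs
    exact (Units.ne_zero _) hs
  set u : Fˣ := Units.mk0 s hs0 with hu
  set z := Cfsg.Agent.Lib.Helper14_GOChars.scalarGO Q u⁻¹ with hz
  have hPz : Phi (⇑Q) z = 1 :=
    Phi_eq_one_of_scalar (⇑Q) z (Cfsg.Agent.Lib.Helper14_GOChars.scalarGO_mem Q u⁻¹)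
  have hμz : mu (⇑Q) z = u⁻¹ * u⁻¹ := Cfsg.Agent.Lib.Helper14_GOChars.mu_scalarGO Q hne u⁻¹
  have hμg : mu (⇑Q) g = u * u := by
    apply Units.ext
    rw [hs, Units.val_mul, hu, Units.val_mk0]
  have hμ : mu (⇑Q) (z * g) = 1 := by
    have := map_mul (Cfsg.Agent.Lib.Helper14_GOChars.muHom (⇑Q) hne) z g
    rw [Cfsg.Agent.Lib.Helper14_GOChars.muHom_apply,
      Cfsg.Agent.Lib.Helper14_GOChars.muHom_apply,
      Cfsg.Agent.Lib.Helper14_GOChars.muHom_apply, hμz, hμg] at this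
    rw [this]
    group
  have hdetz : ((z * g : ↥(GO (⇑Q))) : GL ι F).1.det = 1 := by
    show ((z : GL ι F).1 * (g : GL ι F).1).det = 1
    rw [Matrix.det_mul, Cfsg.Agent.Lib.Helper14_GOChars.det_scalarGO, hdet, hcard, hs,
      Units.val_inv_eq_inv_val, hu, Units.val_mk0, mul_pow, ← pow_add, ← two_mul, inv_pow,
      inv_mul_cancel₀ (pow_ne_zero _ hs0)]
  have := innMul_of_mu_one Q C h2 hQ t ht htΩ htC (z * g) hμ hdetz
  rw [map_mul, hPz, one_mul] at this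
  exact this

include h2 hQ ht htΩ htC in
/-- with a class-preserving similarity of nonsquare multiplier in `C`, every class-preserving
similarity induces the product of an inner automorphism and an element of `C` -/
theorem innMul_of_det (hne : ∃ v, Q v ≠ 0) {M : ℕ} (hcard : Fintype.card ι = 2 * M)
    (d : ↥(GO (⇑Q))) (hd : (d : GL ι F).1.det = ((mu (⇑Q) d : Fˣ) : F) ^ M)
    (hdns : ¬ IsSquare ((mu (⇑Q) d : Fˣ) : F)) (hdC : Phi (⇑Q) d ∈ C)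
    (g : ↥(GO (⇑Q))) (hdet : (g : GL ι F).1.det = ((mu (⇑Q) g : Fˣ) : F) ^ M) :
    InnMul Q C (Phi (⇑Q) g) := by
  by_cases hsq : IsSquare ((mu (⇑Q) g : Fˣ) : F)
  · exact innMul_of_sq Q C h2 hQ t ht htΩ htC hne hcard g hsq hdet
  · have hμ : mu (⇑Q) (g * d⁻¹) = mu (⇑Q) g * (mu (⇑Q) d)⁻¹ := by
      have := map_mul (Cfsg.Agent.Lib.Helper14_GOChars.muHom (⇑Q) hne) g d⁻¹
      rw [map_inv] at this
      exact this
    have hdinv : ¬ IsSquare (((mu (⇑Q) d)⁻¹ : Fˣ) : F) := by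
      rintro ⟨w, hw⟩
      apply hdns
      refine ⟨w⁻¹, ?_⟩
      rw [← mul_inv, ← hw, Units.val_inv_eq_inv_val, inv_inv]
    have hsq' : IsSquare ((mu (⇑Q) (g * d⁻¹) : Fˣ) : F) := by
      rw [hμ, Units.val_mul]
      exact Cfsg.Agent.Lib.Helper44_FinSq.isSquare_mul_of_nonsq_of_nonsq hsq hdinv
    have hdet' : ((g * d⁻¹ : ↥(GO (⇑Q))) : GL ι F).1.det =
        ((mu (⇑Q) (g * d⁻¹) : Fˣ) : F) ^ M := by
      have e1 : ((g * d⁻¹ : ↥(GO (⇑Q))) : GL ι F) = (g : GL ι F) * (d : GL ι F)⁻¹ := rfl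
      rw [e1, hμ, Units.val_mul, Units.val_mul, Matrix.det_mul, hdet, mul_pow,
        Units.val_inv_eq_inv_val, inv_pow, ← hd]
      congr 1
      have e2 : (d : GL ι F).1.det * ((d : GL ι F)⁻¹ : GL ι F).1.det = 1 := by
        rw [← Matrix.det_mul, ← Units.val_mul, mul_inv_cancel, Units.val_one, Matrix.det_one]
      exact eq_inv_of_mul_eq_one_right e2
    have h1 := innMul_of_sq Q C h2 hQ t ht htΩ htC hne hcard (g * d⁻¹) hsq' hdet'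
    have h3 := h1.mul_right Q C hdC
    rw [← map_mul, inv_mul_cancel_right] at h3
    exact h3

end innercent

/-! ### the class of a field automorphism does not split -/

section split

open Cfsg.Agent.Lib.Helper14_OmegaIndex Cfsg.Agent.Lib.Helper44_OrthOddCent
  Cfsg.Agent.Lib.Helper14_SplitClass Cfsg.Agent.Lib.Helper44_Refl

universe u u₀

variable {F : Type u} [Field F] [Fintype F] {F₀ : Type u₀} [Field F₀] [Fintype F₀] (j : F₀ →+* F)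
  (m : ℕ) (a₀ b₀ : F₀)
  (hab₀ : ∀ z₁ z₂ : F₀, z₁ ^ 2 + a₀ * z₁ * z₂ + b₀ * z₂ ^ 2 = 0 → z₁ = 0 ∧ z₂ = 0)
  (hab : ∀ z₁ z₂ : F, z₁ ^ 2 + j a₀ * z₁ * z₂ + j b₀ * z₂ ^ 2 = 0 → z₁ = 0 ∧ z₂ = 0)
  {K₀ : Type u₀} [Field K₀] [Algebra F₀ K₀] (hfr₀ : finrank F₀ K₀ = 2) (ρ₀ : K₀)
  (hρ₀ : ρ₀ ^ 2 + algebraMap F₀ K₀ a₀ * ρ₀ + algebraMap F₀ K₀ b₀ = 0)
  {K : Type u} [Field K] [Algebra F K] (hfr : finrank F K = 2) (ρ : K)
  (hρ : ρ ^ 2 + algebraMap F K (j a₀) * ρ + algebraMap F K (j b₀) = 0)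
  (σ : ↥(invSub (⇑(qfMinus m F (j a₀) (j b₀)))))
  (hι : ∀ c : F, σ.1 c = c ↔ c ∈ Set.range j)

theorem inn_le_ker_map (hm : 3 ≤ m) : Inn (POmega F (⇑(qfMinus m F (j a₀) (j b₀)))) ≤
    ((chiKm m (j a₀) (j b₀) hab ρ hρ).ker).map (Phi (⇑(qfMinus m F (j a₀) (j b₀)))) := by
  have hQ := Cfsg.Agent.Lib.Helper14_POmegaSimple.nondegenerate_qfMinus (F := F) m (j a₀) (j b₀) hab
  have hn : 5 ≤ Fintype.card (J m) := by rw [card_J]; omega
  intro β hβ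
  obtain ⟨g, rfl⟩ := inn_le_range (qfMinus m F (j a₀) (j b₀)) hβ
  exact ⟨g, MonoidHom.mem_ker.mpr (chi_eq_one_of_inn _ hQ hn _
    (fun c => chiK_scalarGO _ _ _ _ _ _ c) g hβ), rfl⟩

set_option maxHeartbeats 1600000 in
include hι hfr hfr₀ hab₀ hρ₀ in
/-- for a field automorphism of odd order the class does not split -/
theorem split_one_minus (hm : 3 ≤ m) {r : ℕ} (hodd : Odd r)
    (hcardF : Fintype.card F = Fintype.card F₀ ^ r) :
    splitClassCount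
      (((chiKm m (j a₀) (j b₀) hab ρ hρ).ker).map (Phi (⇑(qfMinus m F (j a₀) (j b₀)))))
      (Inn (POmega F (⇑(qfMinus m F (j a₀) (j b₀)))))
      (fieldO (⇑(qfMinus m F (j a₀) (j b₀))) σ) = 1 := by
  have hQ := Cfsg.Agent.Lib.Helper14_POmegaSimple.nondegenerate_qfMinus (F := F) m (j a₀) (j b₀) hab
  have hQ₀ := Cfsg.Agent.Lib.Helper14_POmegaSimple.nondegenerate_qfMinus (F := F₀) m a₀ b₀ hab₀
  have hn : 5 ≤ Fintype.card (J m) := by rw [card_J]; omega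
  have hle := inn_le_ker_map j m a₀ b₀ hab ρ hρ hm
  rw [splitClassCount_eq_index _ _ hle inferInstance, Subgroup.index_eq_one, eq_top_iff]
  rintro ⟨y, hy⟩ -
  have hyD := hy
  obtain ⟨g, hg, rfl⟩ := hy
  by_cases h2 : (2 : F) = 0
  · apply Subgroup.mem_sup_left
    rw [Subgroup.mem_subgroupOf]
    exact (chiKm_iff_inn m (j a₀) (j b₀) hab hfr ρ hρ h2 (by omega) g).mp
      (MonoidHom.mem_ker.mp hg)
  · have h2₀ : (2 : F₀) ≠ 0 := by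
      intro h0
      apply h2
      have h4 : j 2 = 2 := map_ofNat j 2
      rw [← h4, h0, map_zero]
    have hchar : ringChar F ≠ 2 := Cfsg.Agent.Lib.Helper44_FinSq.ringChar_ne_two_of_two_ne_zero h2
    have hc := compat_qfMinus m a₀ b₀ j
    have hne : ∃ v, qfMinus m F (j a₀) (j b₀) v ≠ 0 := ⟨_, nonsing_e0 m (j a₀) (j b₀)⟩
    have hne₀ : ∃ v, qfMinus m F₀ a₀ b₀ v ≠ 0 := ⟨_, nonsing_e0 m a₀ b₀⟩
    -- a fixed special isometry outside `Ω`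
    have hn2 : 2 ≤ Fintype.card (J m) := le_trans (by norm_num) hn
    have hex : ∀ c : F₀, ∃ v, qfMinus m F₀ a₀ b₀ v = c := fun c =>
      Cfsg.Agent.Lib.Helper14_OrthChars.exists_norm_eq h2₀ (qfMinus m F₀ a₀ b₀) hQ₀ hn2 c
    obtain ⟨u₀, hu1⟩ := hex 1
    obtain ⟨ε, hε⟩ := FiniteField.exists_nonsquare
      (Cfsg.Agent.Lib.Helper44_FinSq.ringChar_ne_two_of_two_ne_zero h2₀)
    obtain ⟨w₀, hwε⟩ := hex ε
    have hε0 : ε ≠ 0 := fun h0 => hε ⟨0, by rw [h0, mul_zero]⟩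
    have hjε : ¬ IsSquare (j ε) :=
      Cfsg.Agent.Lib.Helper44_SqExt.not_isSquare_map_of_odd j hchar hodd hcardF hε
    have hu : qfMinus m F₀ a₀ b₀ u₀ ≠ 0 := by rw [hu1]; exact one_ne_zero
    have hw : qfMinus m F₀ a₀ b₀ w₀ ≠ 0 := by rw [hwε]; exact hε0
    have hu' : qfMinus m F (j a₀) (j b₀) (vmap j u₀) ≠ 0 := by
      rw [hc, hu1, map_one]; exact one_ne_zero
    have hw' : qfMinus m F (j a₀) (j b₀) (vmap j w₀) ≠ 0 := by
      rw [hc, Ne, map_eq_zero]; exact hw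
    have husq : IsSquare (qfMinus m F (j a₀) (j b₀) (vmap j u₀)) := by
      rw [hc, hu1, map_one]; exact ⟨1, by simp⟩
    have hwsq : ¬ IsSquare (qfMinus m F (j a₀) (j b₀) (vmap j w₀)) := by
      rw [hc, hwε]; exact hjε
    obtain ⟨t₀, ht₀⟩ : ∃ t₀ : ↥(specialIsometryGroup F₀ (⇑(qfMinus m F₀ a₀ b₀))),
        t₀ = Cfsg.Agent.S0787.pair (qfMinus m F₀ a₀ b₀) u₀ w₀ hu hw := ⟨_, rfl⟩
    obtain ⟨t, ht⟩ : ∃ t : ↥(isometryGroup F (⇑(qfMinus m F (j a₀) (j b₀)))),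
        t = mapIsom hc t₀.1 := ⟨_, rfl⟩
    have htSO : t ∈ specialIsometryGroup F (⇑(qfMinus m F (j a₀) (j b₀))) := by
      rw [ht]
      exact (mapIsom_mem_SO_iff hc t₀.1).mpr t₀.2
    have hteq : t = refl (qfMinus m F (j a₀) (j b₀)) (vmap j u₀) hu' *
        refl (qfMinus m F (j a₀) (j b₀)) (vmap j w₀) hw' := by
      rw [ht, ht₀, Cfsg.Agent.S0787.pair_coe, map_mul, mapIsom_refl hc u₀ hu hu',
        mapIsom_refl hc w₀ hw hw']
    have htΩ : t ∉ Omega F (⇑(qfMinus m F (j a₀) (j b₀))) := by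
      rw [hteq]
      exact pair_not_mem_omega _ h2 hQ hu' hw' husq hwsq
    have htC : PhiO (⇑(qfMinus m F (j a₀) (j b₀))) t ∈ CDM j m a₀ b₀ hab ρ hρ σ := by
      have hker : Subgroup.inclusion (isometryGroup_le_GO (⇑(qfMinus m F₀ a₀ b₀))) t₀.1 ∈
          (chiKm m a₀ b₀ hab₀ ρ₀ hρ₀).ker := by
        rw [MonoidHom.mem_ker, chiKm_iff_det m a₀ b₀ hab₀ hfr₀ ρ₀ hρ₀ h2₀,
          Cfsg.Agent.Lib.Helper14_GOChars.mu_of_isometry _ hne₀ _ t₀.1.2, Units.val_one, one_pow]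
        exact (Cfsg.Agent.S0787.mem_SO_iff _ t₀.1).mp t₀.2
      have := Psi0_mem j m a₀ b₀ hab₀ hab hfr₀ ρ₀ hρ₀ hfr ρ hρ σ hι (by omega) _ hker
      rw [ht]
      exact this
    -- a fixed class-preserving similarity with nonsquare multiplier
    obtain ⟨x, y, hxy⟩ := Cfsg.Agent.Lib.Helper14_GODelta.exists_bin_eq h2₀ a₀ b₀ hab₀ ε
    have hν : x ^ 2 + a₀ * x * y + b₀ * y ^ 2 ≠ 0 := by rw [hxy]; exact hε0
    have hmem : Cfsg.Agent.Lib.Helper14_GODelta.dMinusGL m a₀ b₀ x y hν ∈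
        GO (⇑(qfMinus m F₀ a₀ b₀)) := by
      rw [coe_qfMinus]
      exact Cfsg.Agent.Lib.Helper14_GODelta.dMinusGL_mem m a₀ b₀ x y hν
    have hmu : mu (⇑(qfMinus m F₀ a₀ b₀))
        ⟨Cfsg.Agent.Lib.Helper14_GODelta.dMinusGL m a₀ b₀ x y hν, hmem⟩ = Units.mk0 _ hν := by
      apply mu_eq
      · exact hne₀
      · intro v
        rw [Cfsg.Agent.Lib.Helper14_GODelta.dMinusGL_coe, coe_qfMinus,
          Cfsg.Agent.Lib.Helper14_GODelta.quadFormMinus_dMinus, Units.val_mk0]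
    have hchi : Cfsg.Agent.Lib.Helper14_GOChars.chiHom (qfMinus m F₀ a₀ b₀) hne₀
        ⟨Cfsg.Agent.Lib.Helper14_GODelta.dMinusGL m a₀ b₀ x y hν, hmem⟩ = -1 := by
      rw [Cfsg.Agent.Lib.Helper14_GOChars.chiHom_eq_neg_one_iff, hmu, Units.val_mk0, hxy]
      exact hε
    obtain ⟨g₀, hg₀, hchi₀⟩ := Cfsg.Agent.Lib.Helper14_InndiagQuot.exists_g0 h2₀
      (qfMinus m F₀ a₀ b₀) hQ₀ hne₀ (card_J m) _ hchi
    rw [MonoidHom.mem_ker, Cfsg.Agent.Lib.Helper14_GOChars.sgnHom_eq_one_iff] at hg₀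
    rw [Cfsg.Agent.Lib.Helper14_GOChars.chiHom_eq_neg_one_iff] at hchi₀
    have hg₀χ : g₀ ∈ (chiKm m a₀ b₀ hab₀ ρ₀ hρ₀).ker := by
      rw [MonoidHom.mem_ker, chiKm_iff_det m a₀ b₀ hab₀ hfr₀ ρ₀ hρ₀ h2₀]
      exact hg₀
    have hdC := Psi0_mem j m a₀ b₀ hab₀ hab hfr₀ ρ₀ hρ₀ hfr ρ hρ σ hι (by omega) g₀ hg₀χ
    rw [Psi0_apply] at hdC
    have hd : ((bcM j m a₀ b₀ g₀ : ↥(GO (⇑(qfMinus m F (j a₀) (j b₀))))) : GL (J m) F).1.det =
        ((mu (⇑(qfMinus m F (j a₀) (j b₀))) (bcM j m a₀ b₀ g₀) : Fˣ) : F) ^ (m + 1) := by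
      rw [← chiKm_iff_det m (j a₀) (j b₀) hab hfr ρ hρ h2,
        chiKm_bcM j m a₀ b₀ hab₀ hab hfr₀ ρ₀ hρ₀ hfr ρ hρ (by omega) g₀]
      exact MonoidHom.mem_ker.mp hg₀χ
    have hdns : ¬ IsSquare ((mu (⇑(qfMinus m F (j a₀) (j b₀))) (bcM j m a₀ b₀ g₀) : Fˣ) : F) := by
      rw [mu_bcM]
      exact Cfsg.Agent.Lib.Helper44_SqExt.not_isSquare_map_of_odd j hchar hodd hcardF hchi₀
    have hdetg : (g : GL (J m) F).1.det =
        ((mu (⇑(qfMinus m F (j a₀) (j b₀))) g : Fˣ) : F) ^ (m + 1) :=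
      (chiKm_iff_det m (j a₀) (j b₀) hab hfr ρ hρ h2 g).mp (MonoidHom.mem_ker.mp hg)
    obtain ⟨a, ha, c, hcC, hyac⟩ := innMul_of_det (qfMinus m F (j a₀) (j b₀))
      (CDM j m a₀ b₀ hab ρ hρ σ) h2 hQ t htSO htΩ htC hne (card_J m) _ hd hdns hdC g hdetg
    have haD := hle ha
    have hcD := (Subgroup.mem_inf.mp hcC).1
    have e : (⟨Phi (⇑(qfMinus m F (j a₀) (j b₀))) g, hyD⟩ :
        ↥(((chiKm m (j a₀) (j b₀) hab ρ hρ).ker).map (Phi (⇑(qfMinus m F (j a₀) (j b₀)))))) =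
        ⟨a, haD⟩ * ⟨c, hcD⟩ := Subtype.ext hyac
    rw [e]
    exact Subgroup.mul_mem_sup (Subgroup.mem_subgroupOf.mpr ha)
      (Subgroup.mem_subgroupOf.mpr (Subgroup.mem_inf.mp hcC).2)

end split

/-! ### the main statement -/

section main

universe u u₀

variable {F : Type u} [Field F] [Fintype F]

set_option maxHeartbeats 1600000 in
/-- the statement for functions equal to minus-type standard forms -/
theorem field_cent_minus_aux {p f : ℕ} [hp : Fact p.Prime] (hF : Fintype.card F = p ^ f)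
    {m : ℕ} (hm : 3 ≤ m) (a b : F)
    (hab : ∀ z₁ z₂ : F, z₁ ^ 2 + a * z₁ * z₂ + b * z₂ ^ 2 = 0 → z₁ = 0 ∧ z₂ = 0)
    (Qf : (J m → F) → F) (hQf : Qf = ⇑(qfMinus m F a b)) (x : MulAut (POmega F Qf))
    (hx : ∃ (a' b' : F) (Qf' : (J m → F) → F) (_ : Qf' = ⇑(qfMinus m F a' b'))
      (ψ : POmega F Qf ≃* POmega F Qf') (σ : F ≃+* F),
      (∀ z₁ z₂ : F, z₁ ^ 2 + a' * z₁ * z₂ + b' * z₂ ^ 2 = 0 → z₁ = 0 ∧ z₂ = 0) ∧
      σ ≠ RingEquiv.refl F ∧ σ a' = a' ∧ σ b' = b' ∧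
      IsFieldAutPOmegaOf Qf' σ ((ψ.symm.trans x).trans ψ))
    {r : ℕ} (hr : r.Prime) (hxr : orderOf x = r) (F₀ : Type u₀) [Field F₀] [Fintype F₀]
    (hF₀ : Fintype.card F₀ = p ^ (f / r)) :
    Odd r ∧ r ∣ f ∧
      (∃ a₀ b₀ : F₀, (∀ z₁ z₂ : F₀, z₁ ^ 2 + a₀ * z₁ * z₂ + b₀ * z₂ ^ 2 = 0 → z₁ = 0 ∧ z₂ = 0) ∧
        ∀ (Qf₀ : (J m → F₀) → F₀) (_ : Qf₀ = ⇑(qfMinus m F₀ a₀ b₀)),
          Nonempty (↥(DgenM m a b Qf ⊓ Subgroup.centralizer {x}) ≃* ↥(DgenM m a₀ b₀ Qf₀))) ∧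
      splitClassCount (DgenM m a b Qf) (Inn (POmega F Qf)) x = 1 := by
  subst hQf
  obtain ⟨a', b', Qf', hQf', ψ, σ, hab', hσ, hσa, hσb, hstd⟩ := hx
  subst hQf'
  have hn : 5 ≤ Fintype.card (J m) := by rw [card_J]; omega
  -- the order of `σ`
  have hQ'₁ := Cfsg.Agent.Lib.Helper14_POmegaSimple.nondegenerate_qfMinus (F := F) m a' b' hab'
  obtain ⟨σ₁, hσ₁⟩ : ∃ σ₁ : ↥(invSub (⇑(qfMinus m F a' b'))), σ₁.1 = σ :=
    ⟨⟨σ, sigInv_qfMinus m a' b' σ hσa hσb⟩, rfl⟩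
  have hφ₁ : (ψ.symm.trans x).trans ψ = fieldO (⇑(qfMinus m F a' b')) σ₁ := by
    rw [← hσ₁] at hstd
    exact (isFieldAut_iff _ σ₁ _).mp hstd
  have hord : orderOf σ = r := by
    have h1 := orderOf_fieldO (qfMinus m F a' b') hQ'₁ hn (faithData_qfMinus a' b' (by omega)) σ₁
    rw [← hφ₁, hσ₁] at h1
    have h2 : (ψ.symm.trans x).trans ψ = MulAut.congr ψ x := rfl
    rw [h2, MulEquiv.orderOf_eq, hxr] at h1
    exact h1.symm
  have hoddr : Odd r := odd_of_fixes a' b' hab' σ hσa hσb hr hord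
  obtain ⟨hrf, -⟩ := card_fixField σ hF hord
  obtain ⟨j, hj⟩ := exists_embedding σ hF hord F₀ hF₀
  obtain ⟨a₀, rfl⟩ := (hj a').mp hσa
  obtain ⟨b₀, rfl⟩ := (hj b').mp hσb
  have hab₀ : ∀ z₁ z₂ : F₀, z₁ ^ 2 + a₀ * z₁ * z₂ + b₀ * z₂ ^ 2 = 0 → z₁ = 0 ∧ z₂ = 0 := by
    intro z₁ z₂ h
    have h1 := congrArg j h
    simp only [map_add, map_mul, map_pow, map_zero] at h1
    obtain ⟨e1, e2⟩ := hab' _ _ h1
    exact ⟨(map_eq_zero j).mp e1, (map_eq_zero j).mp e2⟩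
  have hcardF : Fintype.card F = Fintype.card F₀ ^ r := by
    rw [hF, hF₀, ← pow_mul, Nat.div_mul_cancel hrf]
  obtain ⟨K, iK, iA, hfr⟩ := exists_quad_ext a b hab
  obtain ⟨ρ, hρ⟩ := exists_root hfr a b hab
  obtain ⟨ρ', hρ'⟩ := exists_root hfr (j a₀) (j b₀) hab'
  obtain ⟨K₀, iK₀, iA₀, hfr₀⟩ := exists_quad_ext a₀ b₀ hab₀
  obtain ⟨ρ₀, hρ₀⟩ := exists_root hfr₀ a₀ b₀ hab₀
  obtain ⟨σ', hσ'⟩ : ∃ σ' : ↥(invSub (⇑(qfMinus m F (j a₀) (j b₀)))), σ'.1 = σ :=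
    ⟨⟨σ, sigInv_qfMinus m (j a₀) (j b₀) σ hσa hσb⟩, rfl⟩
  have hφ : (ψ.symm.trans x).trans ψ = fieldO (⇑(qfMinus m F (j a₀) (j b₀))) σ' := by
    rw [← hσ'] at hstd
    exact (isFieldAut_iff _ σ' _).mp hstd
  have hx' : MulAut.congr ψ x = fieldO (⇑(qfMinus m F (j a₀) (j b₀))) σ' := by
    rw [← hφ]
    rfl
  have hι : ∀ c : F, σ'.1 c = c ↔ c ∈ Set.range j := by
    rw [hσ']
    exact hj
  have hord' : orderOf σ'.1 = r := by rw [hσ']; exact hord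
  have hmap := map_ker_eq m a b hab hfr ρ hρ (j a₀) (j b₀) hab' ρ' hρ' hm ψ
  refine ⟨hoddr, hrf, ⟨a₀, b₀, hab₀, ?_⟩, ?_⟩
  · intro Qf₀ hQf₀
    subst hQf₀
    rw [DgenM_eq m a b hab hfr ρ hρ (by omega), DgenM_eq m a₀ b₀ hab₀ hfr₀ ρ₀ hρ₀ (by omega)]
    have e1 := centMapEquiv (MulAut.congr ψ)
      (((chiKm m a b hab ρ hρ).ker).map (Phi (⇑(qfMinus m F a b)))) x
    rw [hmap, hx'] at e1
    obtain ⟨e2⟩ := nonempty_centEquiv_minus j m a₀ b₀ hab₀ hab' hfr₀ ρ₀ hρ₀ hfr ρ' hρ' σ' hι hm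
      hr.pos hord'
    exact ⟨e1.trans e2⟩
  · rw [DgenM_eq m a b hab hfr ρ hρ (by omega),
      ← splitClassCount_map (MulAut.congr ψ) _ _ x, hmap, map_congr_inn ψ, hx']
    exact split_one_minus j m a₀ b₀ hab₀ hab' hfr₀ ρ₀ hρ₀ hfr ρ' hρ' σ' hι hm hoddr hcardF

/-- **S2716** -/
theorem field_cent_minus {p f : ℕ} [Fact p.Prime] (hF : Fintype.card F = p ^ f) (hf : 1 ≤ f)
    {m : ℕ} (hm : 3 ≤ m) (a b : F)
    (hab : ∀ z₁ z₂ : F, z₁ ^ 2 + a * z₁ * z₂ + b * z₂ ^ 2 = 0 → z₁ = 0 ∧ z₂ = 0)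
    (x : MulAut (POmega F (quadFormMinus m F a b))) (hx : IsFieldAutClassPOmegaMinus m x)
    {r : ℕ} (hr : r.Prime) (hxr : orderOf x = r) (F₀ : Type u₀) [Field F₀] [Fintype F₀]
    (hF₀ : Fintype.card F₀ = p ^ (f / r)) :
    Odd r ∧ r ∣ f ∧
      (∃ a₀ b₀ : F₀, (∀ z₁ z₂ : F₀, z₁ ^ 2 + a₀ * z₁ * z₂ + b₀ * z₂ ^ 2 = 0 → z₁ = 0 ∧ z₂ = 0) ∧
        Nonempty (↥(inndiagPOmegaMinus m F a b ⊓ Subgroup.centralizer {x}) ≃*
          ↥(inndiagPOmegaMinus m F₀ a₀ b₀))) ∧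
      splitClassCount (inndiagPOmegaMinus m F a b) (Inn (POmega F (quadFormMinus m F a b))) x =
        1 := by
  obtain ⟨a', b', ψ, σ, hab', hσ, hσa, hσb, hstd⟩ := hx
  obtain ⟨h1, h2, ⟨a₀, b₀, hab₀, h3⟩, h4⟩ := field_cent_minus_aux hF hm a b hab
    (quadFormMinus m F a b) (coe_qfMinus m F a b).symm x
    ⟨a', b', quadFormMinus m F a' b', (coe_qfMinus m F a' b').symm, ψ, σ, hab', hσ, hσa, hσb,
      hstd⟩ hr hxr F₀ hF₀
  exact ⟨h1, h2, ⟨a₀, b₀, hab₀, h3 (quadFormMinus m F₀ a₀ b₀) (coe_qfMinus m F₀ a₀ b₀).symm⟩, h4⟩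

end main

end Cfsg.Agent.Lib.Helper44_OrthMinusCent
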