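import Mathlib
import Cfsg.Agent.Lib.Helper14_OrthGamma2
import Cfsg.Agent.Lib.Helper14_OrthPsiInv
import Cfsg.Agent.Lib.Helper44_OrthCoset

/-!
# Algebra of semisimilarity pairs (helper44)

Uniqueness of the linear part of a semisimilarity pair inducing a given automorphism of `PΩ(Q)`
(up to scalars), products with similarity-induced automorphisms, and the standard field
automorphism as a `twistP`.
-/

set_option autoImplicit false
set_option linter.unusedSectionVars false
set_option linter.unusedVariables false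

namespace Cfsg.Agent.Lib.Helper44_OrthPairs

open Cfsg Matrix Cfsg.Agent.Lib.Helper44_Orth Cfsg.Agent.Lib.Helper14_AutOmega
  Cfsg.Agent.Lib.Helper7_OrthInduced Cfsg.Agent.Lib.Helper14_OrthGamma
  Cfsg.Agent.Lib.Helper14_OrthGamma2 Cfsg.Agent.Lib.Helper14_CentOmega
  Cfsg.Agent.Lib.Helper44_OrthField Cfsg.Agent.Lib.Helper44_H90i
  Cfsg.Agent.Lib.Helper44_OrthCoset

variable {ι : Type} [Fintype ι] [DecidableEq ι] {F : Type*} [Field F]

section fn

variable (Q : (ι → F) → F)

theorem semisim_of_GO (e : ↥(GO Q)) : IsSemisimilarityPair Q (e : GL ι F) 1 := by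
  obtain ⟨c, hc⟩ := e.2
  exact ⟨c, fun v => hc v⟩

theorem twistP_one_eq_Phi (g : ↥(GO Q)) (h : IsSemisimilarityPair Q (g : GL ι F) 1) :
    twistP Q (g : GL ι F) 1 h = Phi Q g :=
  (Cfsg.Agent.Lib.Helper14_AutOmega.isInduced_iff Q g _).mp
    (isInduced_twistP Q (g : GL ι F) 1 h)

variable {Q}

theorem semisim_GO_mul (e : ↥(GO Q)) {g : GL ι F} {ρ : F ≃+* F}
    (h : IsSemisimilarityPair Q g ρ) : IsSemisimilarityPair Q ((e : GL ι F) * g) ρ := by
  have h1 := semisim_mul (semisim_of_GO Q e) h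
  rwa [sigGL_one, one_mul] at h1

theorem semisim_mul_GO (e : ↥(GO Q)) {g : GL ι F} {ρ : F ≃+* F}
    (h : IsSemisimilarityPair Q g ρ) : IsSemisimilarityPair Q (g * sigGL ρ (e : GL ι F)) ρ := by
  have h1 := semisim_mul h (semisim_of_GO Q e)
  rwa [mul_one] at h1

/-- left multiplication by a similarity-induced automorphism -/
theorem Phi_mul_twistP (e : ↥(GO Q)) {g : GL ι F} {ρ : F ≃+* F}
    (h : IsSemisimilarityPair Q g ρ) :
    Phi Q e * twistP Q g ρ h = twistP Q ((e : GL ι F) * g) ρ (semisim_GO_mul e h) := by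
  rw [← twistP_one_eq_Phi Q e (semisim_of_GO Q e), twistP_mul (semisim_of_GO Q e) h]
  apply twistP_congr
  · rw [sigGL_one]
  · rw [one_mul]

/-- right multiplication by a similarity-induced automorphism -/
theorem twistP_mul_Phi (e : ↥(GO Q)) {g : GL ι F} {ρ : F ≃+* F}
    (h : IsSemisimilarityPair Q g ρ) :
    twistP Q g ρ h * Phi Q e = twistP Q (g * sigGL ρ (e : GL ι F)) ρ (semisim_mul_GO e h) := by
  rw [← twistP_one_eq_Phi Q e (semisim_of_GO Q e), twistP_mul h (semisim_of_GO Q e)]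
  apply twistP_congr
  · rfl
  · rw [mul_one]

/-- the quotient of two linear parts for the same companion is a similarity -/
theorem div_mem_GO {g g' : GL ι F} {ρ : F ≃+* F} (h : IsSemisimilarityPair Q g ρ)
    (h' : IsSemisimilarityPair Q g' ρ) : g * g'⁻¹ ∈ GO Q := by
  obtain ⟨c, hc⟩ := h
  obtain ⟨c', hc'⟩ := h'
  refine ⟨c * c'⁻¹, fun v => ?_⟩
  obtain ⟨w, rfl⟩ := exists_semilinear_preimage g' ρ v
  rw [Matrix.mulVec_mulVec, ← Units.val_mul, inv_mul_cancel_right, hc, hc', Units.val_mul,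
    Units.val_inv_eq_inv_val]
  field_simp

end fn

section form

variable [Fintype F] (Q : QuadraticForm F (ι → F))

/-- **uniqueness of the linear part**: two pairs with the same companion inducing the same
automorphism differ by a scalar -/
theorem scalar_of_twistP_eq (hQ : (QuadraticMap.polarBilin Q).Nondegenerate)
    (hn : 5 ≤ Fintype.card ι) {g g' : GL ι F} {ρ : F ≃+* F}
    (h : IsSemisimilarityPair (⇑Q) g ρ) (h' : IsSemisimilarityPair (⇑Q) g' ρ)
    (heq : twistP (⇑Q) g ρ h = twistP (⇑Q) g' ρ h') : g * g'⁻¹ ∈ Cfsg.Geo.scalars ι F := by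
  obtain ⟨e, he⟩ : ∃ e : ↥(GO (⇑Q)), (e : GL ι F) = g * g'⁻¹ := ⟨⟨_, div_mem_GO h h'⟩, rfl⟩
  have h1 : Phi (⇑Q) e * twistP (⇑Q) g' ρ h' = twistP (⇑Q) g ρ h := by
    rw [Phi_mul_twistP e h']
    apply twistP_congr
    · rw [he, inv_mul_cancel_right]
    · rfl
  rw [heq] at h1
  have h2 : Phi (⇑Q) e = 1 := mul_eq_right.mp h1
  rw [← he]
  exact scalar_of_Phi_eq_one Q hQ hn e h2

end form

section field

variable (Q : (ι → F) → F)

theorem semisim_of_sigInv (σ : ↥(invSub Q)) : IsSemisimilarityPair Q (1 : GL ι F) σ.1 :=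
  ⟨1, fun v => by
    rw [Units.val_one, Matrix.one_mulVec, Units.val_one, one_mul]
    exact σ.2 v⟩

/-- the standard field automorphism as the automorphism induced by a semisimilarity pair -/
theorem fieldO_eq_twistP (σ : ↥(invSub Q)) :
    fieldO Q σ = twistP Q 1 σ.1 (semisim_of_sigInv Q σ) := by
  have h1 := (isInduced_iff' Q 1 σ _).mp
    (isInduced_twistP Q (1 : GL ι F) σ.1 (semisim_of_sigInv Q σ))
  rw [h1, map_one, one_mul]

/-- a pair whose linear part is scalar and whose companion commutes with `Q` induces the standard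
field automorphism -/
theorem twistP_scalar_eq_fieldO (Q : QuadraticForm F (ι → F)) (σ : ↥(invSub (⇑Q))) (b : Fˣ)
    (h : IsSemisimilarityPair (⇑Q) (Matrix.GeneralLinearGroup.scalar ι b) σ.1) :
    twistP (⇑Q) (Matrix.GeneralLinearGroup.scalar ι b) σ.1 h = fieldO (⇑Q) σ := by
  have h1 := Phi_mul_twistP (scalarGO Q b) (semisim_of_sigInv (⇑Q) σ)
  rw [Phi_scalarGO, one_mul] at h1
  rw [fieldO_eq_twistP, h1]
  apply twistP_congr
  · rw [scalarGO_coe, mul_one]
  · rfl

end field

end Cfsg.Agent.Lib.Helper44_OrthPairs
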