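import Mathlib
import Cfsg.Agent.Lib.Helper44_OrthPairs
import Cfsg.Agent.Lib.Helper44_OrthBalance
import Cfsg.Agent.Lib.Helper44_OrthMinusCent

/-!
# Subfield subgroups and semisimilarity pairs (helper44)

Descent of similarities and semisimilarity pairs to the fixed field of a field automorphism, and
the centralizer of a standard field automorphism together with its subfield subgroup, for forms of
arbitrary dimension and characteristic.
-/

set_option autoImplicit false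
set_option linter.unusedSectionVars false
set_option linter.unusedVariables false
set_option linter.unusedSimpArgs false

namespace Cfsg.Agent.Lib.Helper44_OrthSubfield

open Cfsg Matrix Cfsg.Agent.Lib.Helper44_Orth Cfsg.Agent.Lib.Helper14_AutOmega
  Cfsg.Agent.Lib.Helper7_OrthInduced Cfsg.Agent.Lib.Helper14_OrthGamma
  Cfsg.Agent.Lib.Helper14_OrthGamma2 Cfsg.Agent.Lib.Helper14_CentOmega
  Cfsg.Agent.Lib.Helper44_OrthField Cfsg.Agent.Lib.Helper44_H90i Cfsg.Agent.Lib.Helper44_H90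
  Cfsg.Agent.Lib.Helper44_OrthCoset Cfsg.Agent.Lib.Helper44_OrthBase
  Cfsg.Agent.Lib.Helper44_OrthMinusK Cfsg.Agent.Lib.Helper44_OrthPairs
  Cfsg.Agent.Lib.Helper44_OrthFaith

open Cfsg.Agent.Lib.Helper14_GOChars (mu mu_eq mu_spec)

/-! ### descent -/

section descent

variable {ι : Type} [Fintype ι] [DecidableEq ι] {F₀ F : Type*} [Field F₀] [Field F]
  {j : F₀ →+* F} {Q₀ : QuadraticForm F₀ (ι → F₀)} {Q : QuadraticForm F (ι → F)}
  (hc : Compat j Q₀ Q)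

/-- a matrix over the subfield which becomes scalar over `F` is scalar -/
theorem scalar_of_glMap_scalar [Nonempty ι] {k : GL ι F₀}
    (hk : glMap j k ∈ Cfsg.Geo.scalars ι F) : k ∈ Cfsg.Geo.scalars ι F₀ := by
  rw [Cfsg.Geo.mem_scalars_iff] at hk ⊢
  obtain ⟨c, hcs⟩ := hk
  have hent : ∀ i i', j (k.1 i i') = if i = i' then (c : F) else 0 := by
    intro i i'
    have := congrFun (congrFun hcs i) i'
    rw [Matrix.smul_apply, Matrix.one_apply, smul_eq_mul, mul_ite, mul_one, mul_zero] at this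
    exact this
  obtain ⟨i0⟩ := ‹Nonempty ι›
  have hd : j (k.1 i0 i0) = (c : F) := by rw [hent, if_pos rfl]
  have hd0 : k.1 i0 i0 ≠ 0 := by
    intro h0
    rw [h0, map_zero] at hd
    exact c.ne_zero hd.symm
  refine ⟨Units.mk0 _ hd0, ?_⟩
  ext i i'
  rw [Matrix.smul_apply, Matrix.one_apply, smul_eq_mul, mul_ite, mul_one, mul_zero,
    Units.val_mk0]
  apply j.injective
  rw [hent]
  by_cases hij : i = i'
  · rw [if_pos hij, if_pos hij, hd]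
  · rw [if_neg hij, if_neg hij, map_zero]

include hc in
/-- a `σ`-fixed similarity comes from the subfield -/
theorem exists_bcGO_of_fixed (σ : F ≃+* F) (hι : ∀ a : F, σ a = a ↔ a ∈ Set.range j)
    (hne₀ : ∃ v₀, Q₀ v₀ ≠ 0) (g : ↥(GO (⇑Q))) (hfix : mapGLi σ g.1 = g.1) :
    ∃ k : ↥(GO (⇑Q₀)), bcGO j hc k = g := by
  obtain ⟨k, hk⟩ := exists_glMap_of_fixed σ hι g.1 hfix
  obtain ⟨v₀, hv₀⟩ := hne₀
  have key : ∀ v : ι → F₀, j (Q₀ (k.1 *ᵥ v)) = (mu (⇑Q) g : F) * j (Q₀ v) := by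
    intro v
    rw [← hc, ← hc, vmap_mulVec, ← glMap_coe, hk]
    exact mu_spec _ g _
  have hμ : ((mu (⇑Q) g : Fˣ) : F) = j (Q₀ (k.1 *ᵥ v₀) / Q₀ v₀) := by
    rw [map_div₀, key v₀, mul_div_assoc, div_self ((map_ne_zero j).mpr hv₀), mul_one]
  have hc₀ : Q₀ (k.1 *ᵥ v₀) / Q₀ v₀ ≠ 0 := by
    intro h0
    rw [h0, map_zero] at hμ
    exact (Units.ne_zero _) hμ
  have hkGO : k ∈ GO (⇑Q₀) := by
    refine ⟨Units.mk0 _ hc₀, fun v => ?_⟩
    apply j.injective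
    rw [key v, hμ, Units.val_mk0, map_mul]
  exact ⟨⟨k, hkGO⟩, Subtype.ext hk⟩

include hc in
/-- descent of semisimilarity pairs -/
theorem semisim_descend (hne₀ : ∃ v₀, Q₀ v₀ ≠ 0) {h₀ : GL ι F₀} {τ : F ≃+* F} {τ₀ : F₀ ≃+* F₀}
    (hτ₀ : ∀ a, j (τ₀ a) = τ (j a)) (hs : IsSemisimilarityPair (⇑Q) (glMap j h₀) τ) :
    IsSemisimilarityPair (⇑Q₀) h₀ τ₀ := by
  obtain ⟨c, hcs⟩ := hs
  obtain ⟨v₀, hv₀⟩ := hne₀
  have key : ∀ v : ι → F₀, j (Q₀ (h₀.1 *ᵥ fun i => τ₀ (v i))) = (c : F) * j (τ₀ (Q₀ v)) := by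
    intro v
    have h1 := hcs (vmap j v)
    have h2 : (fun i => τ (vmap j v i)) = vmap j (fun i => τ₀ (v i)) := by
      funext i
      exact (hτ₀ (v i)).symm
    rw [h2, glMap_coe, ← vmap_mulVec, hc, hc, ← hτ₀] at h1
    exact h1
  have hτv : τ₀ (Q₀ v₀) ≠ 0 := (map_ne_zero τ₀).mpr hv₀
  have hμ : (c : F) = j (Q₀ (h₀.1 *ᵥ fun i => τ₀ (v₀ i)) / τ₀ (Q₀ v₀)) := by
    rw [map_div₀, key v₀, mul_div_assoc, div_self ((map_ne_zero j).mpr hτv), mul_one]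
  have hc₀ : Q₀ (h₀.1 *ᵥ fun i => τ₀ (v₀ i)) / τ₀ (Q₀ v₀) ≠ 0 := by
    intro h0
    rw [h0, map_zero] at hμ
    exact (Units.ne_zero _) hμ
  refine ⟨Units.mk0 _ hc₀, fun v => ?_⟩
  apply j.injective
  rw [key v, hμ, Units.val_mk0, map_mul]

end descent

/-! ### similarities commuting with a standard field automorphism -/

section comm

variable {ι : Type} [Fintype ι] [DecidableEq ι] {F₀ F : Type*} [Field F₀] [Field F] [Fintype F]
  {j : F₀ →+* F} {Q₀ : QuadraticForm F₀ (ι → F₀)} {Q : QuadraticForm F (ι → F)}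
  (hc : Compat j Q₀ Q) (σ : ↥(invSub (⇑Q))) (hι : ∀ a : F, σ.1 a = a ↔ a ∈ Set.range j)

include hι in
/-- a similarity-induced automorphism commuting with `fieldO σ` is induced by a similarity over the
fixed field -/
theorem exists_bcGO_of_comm (hQ : (QuadraticMap.polarBilin Q).Nondegenerate)
    (hn : 5 ≤ Fintype.card ι) (hne₀ : ∃ v₀, Q₀ v₀ ≠ 0) {r : ℕ} (hr : 0 < r)
    (hord : orderOf σ.1 = r) (g : ↥(GO (⇑Q)))
    (hcomm : fieldO (⇑Q) σ * Phi (⇑Q) g = Phi (⇑Q) g * fieldO (⇑Q) σ) :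
    ∃ k : ↥(GO (⇑Q₀)), Phi (⇑Q) (bcGO j hc k) = Phi (⇑Q) g := by
  have hne : Nonempty ι := by
    rw [← Fintype.card_pos_iff]
    omega
  rw [fieldO_mul_Phi] at hcomm
  have h1 := mul_right_cancel hcomm
  have hker : g⁻¹ * mapGO (⇑Q) σ g ∈ (Phi (⇑Q)).ker := by
    rw [MonoidHom.mem_ker, map_mul, map_inv, h1, inv_mul_cancel]
  rw [ker_Phi _ hQ hn, Subgroup.mem_subgroupOf] at hker
  obtain ⟨c, hc'⟩ := exists_scalar_of_mem_scalars' hker
  have hc'' : mapGLi σ.1 g.1 = Matrix.GeneralLinearGroup.scalar ι c * g.1 := by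
    have h2 : g.1⁻¹ * mapGLi σ.1 g.1 = Matrix.GeneralLinearGroup.scalar ι c := hc'
    rw [Matrix.GeneralLinearGroup.scalar_commute, ← h2, mul_inv_cancel_left]
  obtain ⟨b, hb⟩ := Cfsg.Agent.Lib.Helper44_OrthMinusCent.exists_scalar_fixed σ.1 hr hord g.1 c hc''
  have hb' : mapGLi σ.1 (scalarGO Q b * g).1 = (scalarGO Q b * g).1 := hb
  obtain ⟨k, hk⟩ := exists_bcGO_of_fixed hc σ.1 hι hne₀ _ hb'
  refine ⟨k, ?_⟩
  rw [hk, map_mul, Phi_scalarGO, one_mul]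

end comm

/-! ### the centralizer of the subfield subgroup -/

section key

open Cfsg.Agent.Lib.Helper44_OrthBalance Cfsg.Agent.Lib.Helper14_OmegaIndex

variable {ι : Type} [Fintype ι] [DecidableEq ι] {F₀ F : Type*} [Field F₀] [Field F] [Fintype F₀]
  [Fintype F] {j : F₀ →+* F} {Q₀ : QuadraticForm F₀ (ι → F₀)} {Q : QuadraticForm F (ι → F)}
  (hc : Compat j Q₀ Q) (σ : ↥(invSub (⇑Q))) (hι : ∀ a : F, σ.1 a = a ↔ a ∈ Set.range j)

/-- the element of `GO(Q)` attached to an element of `Ω(Q₀)` -/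
noncomputable def eΩ (t : ↥(Omega F₀ (⇑Q₀))) : ↥(GO (⇑Q)) :=
  Subgroup.inclusion (isometryGroup_le_GO (⇑Q)) (mapIsom hc t.1)

theorem eΩ_coe (t : ↥(Omega F₀ (⇑Q₀))) : ((eΩ hc t : ↥(GO (⇑Q))) : GL ι F) = glMap j t.1.1 := rfl

theorem psiΩ_eq_Phi (t : ↥(Omega F₀ (⇑Q₀))) : psiΩ hc t = Phi (⇑Q) (eΩ hc t) := rfl

/-- a scalar element of `Ω` is central -/
theorem mem_center_of_scalar (z : ↥(Omega F₀ (⇑Q₀)))
    (hz : ((z : ↥(isometryGroup F₀ (⇑Q₀))) : GL ι F₀) ∈ Cfsg.Geo.scalars ι F₀) :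
    z ∈ Subgroup.center ↥(Omega F₀ (⇑Q₀)) := by
  obtain ⟨c, hcz⟩ := exists_scalar_of_mem_scalars' hz
  rw [Subgroup.mem_center_iff]
  intro g
  apply Subtype.ext
  apply Subtype.ext
  show ((g : ↥(isometryGroup F₀ (⇑Q₀))) : GL ι F₀) * ((z : ↥(isometryGroup F₀ (⇑Q₀))) : GL ι F₀) =
    ((z : ↥(isometryGroup F₀ (⇑Q₀))) : GL ι F₀) * ((g : ↥(isometryGroup F₀ (⇑Q₀))) : GL ι F₀)
  rw [hcz]
  exact (Matrix.GeneralLinearGroup.scalar_commute c _).symm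

include hι in
/-- an automorphism commuting with `fieldO σ` and with the subfield subgroup is a power of
`fieldO σ` -/
theorem mem_zpowers_of_commute_gen (S : Setup Q)
    (hQ₀ : (QuadraticMap.polarBilin Q₀).Nondegenerate)
    (hts₀ : ∃ u w : ι → F₀, Q₀ u = 0 ∧ Q₀ w = 0 ∧ QuadraticMap.polar (⇑Q₀) u w = 0 ∧
      siegelN (⇑Q₀) u w ≠ 0)
    (hne₀ : ∃ v₀, Q₀ v₀ ≠ 0)
    (hres : ∀ τ : F ≃+* F, ∃ τ₀ : F₀ ≃+* F₀, ∀ a, j (τ₀ a) = τ (j a))
    {r : ℕ} (hr : 0 < r) (hord : orderOf σ.1 = r)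
    (y : MulAut (POmega F (⇑Q))) (hyφ : fieldO (⇑Q) σ * y = y * fieldO (⇑Q) σ)
    (hy : ∀ t : ↥(Omega F₀ (⇑Q₀)), y * psiΩ hc t = psiΩ hc t * y) :
    y ∈ Subgroup.zpowers (fieldO (⇑Q) σ) := by
  have hQ := S.nd
  have hn := S.hn
  have hne : Nonempty ι := by
    rw [← Fintype.card_pos_iff]
    omega
  obtain ⟨τ, h, hs, rfl⟩ := S.exists_pair y
  -- step 1: `σ(h)` is a scalar multiple of `h`
  have hσs := semisim_of_sigInv (⇑Q) σ
  have hcomm : σ.1 * τ = τ * σ.1 := ringAut_comm σ.1 τ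
  have hs1 : IsSemisimilarityPair (⇑Q) (sigGL σ.1 h) (σ.1 * τ) := by
    have := semisim_mul hσs hs
    rwa [one_mul] at this
  have hs2 : IsSemisimilarityPair (⇑Q) h (σ.1 * τ) := by
    have := semisim_mul hs hσs
    rwa [map_one, mul_one, ← hcomm] at this
  have heq : twistP (⇑Q) (sigGL σ.1 h) (σ.1 * τ) hs1 = twistP (⇑Q) h (σ.1 * τ) hs2 := by
    have e1 : fieldO (⇑Q) σ * twistP (⇑Q) h τ hs = twistP (⇑Q) (sigGL σ.1 h) (σ.1 * τ) hs1 := by
      rw [fieldO_eq_twistP, twistP_mul hσs hs]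
      exact twistP_congr _ _ (one_mul _) rfl
    have e2 : twistP (⇑Q) h τ hs * fieldO (⇑Q) σ = twistP (⇑Q) h (σ.1 * τ) hs2 := by
      rw [fieldO_eq_twistP, twistP_mul hs hσs]
      exact twistP_congr _ _ (by rw [map_one, mul_one]) hcomm.symm
    rw [← e1, ← e2]
    exact hyφ
  have hsc := scalar_of_twistP_eq Q hQ hn hs1 hs2 heq
  obtain ⟨c, hc'⟩ := exists_scalar_of_mem_scalars' hsc
  have hc'' : mapGLi σ.1 h = Matrix.GeneralLinearGroup.scalar ι c * h := by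
    rw [← sigGL_eq_mapGLi, ← hc', inv_mul_cancel_right]
  obtain ⟨b, hb⟩ := Cfsg.Agent.Lib.Helper44_OrthMinusCent.exists_scalar_fixed σ.1 hr hord h c hc''
  -- step 2: rescale so that `h` comes from the fixed field
  obtain ⟨h₀, hh₀⟩ := exists_glMap_of_fixed σ.1 hι _ hb
  have hs' : IsSemisimilarityPair (⇑Q) (glMap j h₀) τ := by
    rw [hh₀]
    exact semisim_GO_mul (scalarGO Q b) hs
  have hy1 : twistP (⇑Q) h τ hs = twistP (⇑Q) (glMap j h₀) τ hs' := by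
    have h1 := Phi_mul_twistP (scalarGO Q b) hs
    rw [Phi_scalarGO, one_mul] at h1
    rw [h1]
    exact twistP_congr _ _ hh₀.symm rfl
  rw [hy1] at hy ⊢
  -- step 3: the pair over the fixed field
  obtain ⟨τ₀, hτ₀⟩ := hres τ
  have hs₀ : IsSemisimilarityPair (⇑Q₀) h₀ τ₀ := semisim_descend hc hne₀ hτ₀ hs'
  have htriv : twistP (⇑Q₀) h₀ τ₀ hs₀ = 1 := by
    refine MulEquiv.ext fun x => ?_
    induction x using QuotientGroup.induction_on with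
    | H t =>
      rw [twistP_mk, MulAut.one_apply]
      symm
      rw [QuotientGroup.eq]
      apply mem_center_of_scalar
      apply scalar_of_glMap_scalar (j := j)
      have h1 := hy t
      rw [psiΩ_eq_Phi, twistP_mul_Phi (eΩ hc t) hs', Phi_mul_twistP (eΩ hc t) hs'] at h1
      have h2 := scalar_of_twistP_eq Q hQ hn _ _ h1
      have h3 : glMap j ((((t⁻¹ * MulAut.characteristic (Omega F₀ (⇑Q₀)) (twistO (⇑Q₀) h₀ τ₀ hs₀) t :
          ↥(Omega F₀ (⇑Q₀))) : ↥(isometryGroup F₀ (⇑Q₀))) : GL ι F₀)) =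
          (glMap j t.1.1)⁻¹ * (glMap j h₀ * sigGL τ (glMap j t.1.1) * (glMap j h₀)⁻¹) := by
        rw [Subgroup.coe_mul, Subgroup.coe_mul, map_mul, Subgroup.coe_inv, Subgroup.coe_inv,
          map_inv, twistP_mk_coe, twist_apply, map_mul, map_mul, map_inv]
        congr 3
        apply Units.ext
        ext a b
        show j (τ₀ (t.1.1.1 a b)) = τ (j (t.1.1.1 a b))
        exact hτ₀ _
      rw [h3]
      rw [eΩ_coe] at h2
      have h4 : (glMap j t.1.1)⁻¹ * (glMap j h₀ * sigGL τ (glMap j t.1.1) * (glMap j h₀)⁻¹) =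
          (glMap j t.1.1)⁻¹ * ((glMap j h₀ * sigGL τ (glMap j t.1.1)) *
            (glMap j t.1.1 * glMap j h₀)⁻¹) * glMap j t.1.1 := by
        group
      rw [h4]
      obtain ⟨d, hd⟩ := exists_scalar_of_mem_scalars' h2
      rw [hd, Cfsg.Geo.mem_scalars_iff]
      refine ⟨d, ?_⟩
      rw [← Matrix.GeneralLinearGroup.scalar_commute, inv_mul_cancel_right,
        Matrix.GeneralLinearGroup.coe_scalar, Matrix.scalar_apply, ← Matrix.smul_one_eq_diagonal]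
  -- step 4: `τ₀ = 1` and `h₀` is scalar
  obtain ⟨u, w, hu, hw, huw, hN⟩ := hts₀
  have hτ1 : τ₀ = 1 :=
    companion_unique Q₀ hQ₀ hn hs₀ (semisim_one (⇑Q₀)) u w hu hw huw hN (htriv.trans twistP_one.symm)
  subst hτ1
  have hsc₀ := scalar_of_twistP_eq Q₀ hQ₀ hn hs₀ (semisim_one (⇑Q₀)) (htriv.trans twistP_one.symm)
  rw [inv_one, mul_one] at hsc₀
  have hscF : glMap j h₀ ∈ Cfsg.Geo.scalars ι F := glMap_mem_scalars (j := j) hsc₀
  obtain ⟨b', hb'⟩ := exists_scalar_of_mem_scalars' hscF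
  -- step 5: `τ` is a power of `σ`
  have hfix : ∀ a : F, σ.1 a = a → τ a = a := by
    intro a ha
    obtain ⟨a₀, rfl⟩ := (hι a).mp ha
    rw [← hτ₀]
    rfl
  obtain ⟨n, hn'⟩ := Subgroup.mem_zpowers_iff.mp (mem_zpowers_of_fixes σ.1 τ hfix)
  have hτσ : τ = (σ ^ n).1 := by
    rw [Subgroup.coe_zpow]
    exact hn'.symm
  subst hτσ
  have hfin : twistP (⇑Q) (glMap j h₀) (σ ^ n).1 hs' = fieldO (⇑Q) (σ ^ n) := by
    have h1 := twistP_scalar_eq_fieldO Q (σ ^ n) b' (by rw [← hb']; exact hs')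
    rw [← h1]
    exact twistP_congr _ _ hb' rfl
  rw [hfin, map_zpow]
  exact Subgroup.zpow_mem_zpowers _ _

end key

/-! ### fourth powers of similarities -/

section fourth

open Cfsg.Agent.Lib.Helper44_OrthOddCent

variable {ι : Type} [Fintype ι] [DecidableEq ι] {E : Type*} [Field E] [Fintype E]
  (Q₀ : QuadraticForm E (ι → E))

/-- the fourth power of a similarity is a scalar times an element of `Ω` -/
theorem exists_omega_pow_four (hQ₀ : (QuadraticMap.polarBilin Q₀).Nondegenerate)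
    (hn : 5 ≤ Fintype.card ι) (hne₀ : ∃ v₀, Q₀ v₀ ≠ 0) (k : ↥(GO (⇑Q₀))) :
    ∃ (c : Eˣ) (t : ↥(Omega E (⇑Q₀))),
      k ^ 4 = scalarGO Q₀ c * Subgroup.inclusion (isometryGroup_le_GO (⇑Q₀)) t.1 := by
  obtain ⟨μ, hμ⟩ : ∃ μ : Eˣ, μ = mu (⇑Q₀) k := ⟨_, rfl⟩
  obtain ⟨z, hz⟩ : ∃ z : GL ι E, z = Matrix.GeneralLinearGroup.scalar ι μ := ⟨_, rfl⟩
  have hzc : ∀ g : GL ι E, z * g = g * z := by
    intro g
    rw [hz]
    exact Matrix.GeneralLinearGroup.scalar_commute μ g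
  have hzv : ∀ v : ι → E, (z⁻¹ : GL ι E).1 *ᵥ v = (μ⁻¹ : Eˣ).1 • v := by
    intro v
    rw [hz, ← map_inv, Matrix.GeneralLinearGroup.coe_scalar, Matrix.scalar_apply,
      ← Matrix.smul_one_eq_diagonal, Matrix.smul_mulVec, Matrix.one_mulVec]
  have hsmem : z⁻¹ * (k.1 * k.1) ∈ isometryGroup E (⇑Q₀) := by
    rw [mem_isometryGroup_iff]
    intro v
    rw [Units.val_mul, ← Matrix.mulVec_mulVec, hzv, QuadraticMap.map_smul, Units.val_mul,
      ← Matrix.mulVec_mulVec, mu_spec (⇑Q₀) k, mu_spec (⇑Q₀) k, ← hμ, smul_eq_mul,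
      Units.val_inv_eq_inv_val]
    field_simp
  obtain ⟨s, hs⟩ : ∃ s : ↥(isometryGroup E (⇑Q₀)), (s : GL ι E) = z⁻¹ * (k.1 * k.1) :=
    ⟨⟨_, hsmem⟩, rfl⟩
  have hss : s * s ∈ Omega E (⇑Q₀) := by
    by_cases h2 : (2 : E) = 0
    · obtain ⟨v₀, hv₀⟩ := hne₀
      have hidx := Cfsg.Agent.Lib.Helper44_Index.index_omega_two h2 Q₀ hQ₀ (Or.inr (by omega)) hv₀
      exact Subgroup.mul_self_mem_of_index_two hidx s
    · have hsSO : s ∈ specialIsometryGroup E (⇑Q₀) := by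
        rw [Cfsg.Agent.S0787.mem_SO_iff, hs, Units.val_mul, Units.val_mul, Matrix.det_mul,
          Matrix.det_mul, hz, ← map_inv, Matrix.GeneralLinearGroup.coe_scalar, Matrix.scalar_apply,
          Matrix.det_diagonal, Finset.prod_const, Finset.card_univ]
        have h1 := Cfsg.Agent.Lib.Helper14_GOChars.det_sq Q₀ hQ₀ k
        rw [← hμ, pow_two] at h1
        rw [h1, Units.val_inv_eq_inv_val, ← mul_pow, inv_mul_cancel₀ μ.ne_zero, one_pow]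
      by_cases hsΩ : s ∈ Omega E (⇑Q₀)
      · exact Subgroup.mul_mem _ hsΩ hsΩ
      · exact mul_mem_omega Q₀ h2 hQ₀ hsSO hsSO hsΩ hsΩ
  refine ⟨μ * μ, ⟨s * s, hss⟩, ?_⟩
  apply Subtype.ext
  show (k.1 : GL ι E) ^ 4 = Matrix.GeneralLinearGroup.scalar ι (μ * μ) * ((s : GL ι E) * (s : GL ι E))
  rw [map_mul, ← hz, hs]
  have hzKK : z * (k.1 * k.1) = (k.1 * k.1) * z := hzc _
  have h4 : (k.1 : GL ι E) ^ 4 = (k.1 * k.1) * (k.1 * k.1) := by
    rw [← pow_two, ← pow_two, ← pow_mul]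
  rw [h4]
  calc (k.1 : GL ι E) * k.1 * (k.1 * k.1) = ((k.1 * k.1) * z) * (z⁻¹ * (k.1 * k.1)) := by group
    _ = (z * (k.1 * k.1)) * (z⁻¹ * (k.1 * k.1)) := by rw [hzKK]
    _ = _ := by group

end fourth

/-! ### the core of the argument -/

section core

open Cfsg.Agent.Lib.Helper44_OrthBalance Cfsg.Agent.Lib.Helper14_OmegaIndex
  Cfsg.Agent.Lib.Helper44_OrthOddCent Cfsg.Agent.Lib.Helper44_BalanceGen

variable {ι : Type} [Fintype ι] [DecidableEq ι] {F₀ F : Type*} [Field F₀] [Field F] [Fintype F₀]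
  [Fintype F] {j : F₀ →+* F} {Q₀ : QuadraticForm F₀ (ι → F₀)} {Q : QuadraticForm F (ι → F)}
  (hc : Compat j Q₀ Q) (σ : ↥(invSub (⇑Q))) (hι : ∀ a : F, σ.1 a = a ↔ a ∈ Set.range j)
  {p : ℕ} [hp : Fact p.Prime]

/-- the standard field automorphisms act faithfully -/
theorem fieldO_injective_of_setup (S : Setup Q) : Function.Injective (fieldO (⇑Q)) := by
  rw [injective_iff_map_eq_one]
  intro τ hτ
  have h1 := S.comp_twistP (semisim_of_sigInv (⇑Q) τ)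
  rw [← fieldO_eq_twistP, hτ] at h1
  have h2 := S.comp_eq (semisim_one (⇑Q)) twistP_one.symm
  apply Subtype.ext
  rw [← h1, h2]
  rfl

theorem orderOf_fieldO_of_setup (S : Setup Q) (τ : ↥(invSub (⇑Q))) :
    orderOf (fieldO (⇑Q) τ) = orderOf τ.1 := by
  rw [orderOf_injective (fieldO (⇑Q)) (fieldO_injective_of_setup S) τ, Subgroup.orderOf_coe]

include hι in
/-- inner automorphisms centralizing `fieldO σ` are induced by similarities over the fixed field -/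
theorem exists_bcGO_of_fixed_point (hQ : (QuadraticMap.polarBilin Q).Nondegenerate)
    (hn : 5 ≤ Fintype.card ι) (hne₀ : ∃ v₀, Q₀ v₀ ≠ 0) {r : ℕ} (hr : 0 < r)
    (hord : orderOf σ.1 = r) {k : POmega F (⇑Q)} (hk : fieldO (⇑Q) σ k = k) :
    ∃ k₀ : ↥(GO (⇑Q₀)), Phi (⇑Q) (bcGO j hc k₀) = MulAut.conj k := by
  obtain ⟨g, hg⟩ := inn_le_range Q ⟨k, rfl⟩
  have hcomm : fieldO (⇑Q) σ * Phi (⇑Q) g = Phi (⇑Q) g * fieldO (⇑Q) σ := by
    rw [hg]
    exact (fieldO_comm_conj_iff σ hQ hn k).mpr hk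
  obtain ⟨k₀, hk₀⟩ := exists_bcGO_of_comm hc σ hι hQ hn hne₀ hr hord g hcomm
  exact ⟨k₀, hk₀.trans hg⟩

include hι in
/-- inner automorphisms centralizing `fieldO σ` normalize the subfield subgroup -/
theorem psiΩ_conj_gen (hQ : (QuadraticMap.polarBilin Q).Nondegenerate)
    (hn : 5 ≤ Fintype.card ι) (hne₀ : ∃ v₀, Q₀ v₀ ≠ 0) {r : ℕ} (hr : 0 < r)
    (hord : orderOf σ.1 = r) {k : POmega F (⇑Q)} (hk : fieldO (⇑Q) σ k = k)
    (t : ↥(Omega F₀ (⇑Q₀))) :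
    ∃ t' : ↥(Omega F₀ (⇑Q₀)), MulAut.conj k * psiΩ hc t * (MulAut.conj k)⁻¹ = psiΩ hc t' := by
  obtain ⟨k₀, hk₀⟩ := exists_bcGO_of_fixed_point hc σ hι hQ hn hne₀ hr hord hk
  refine ⟨MulAut.characteristic (Omega F₀ (⇑Q₀)) (conjO (⇑Q₀) k₀) t, ?_⟩
  rw [← hk₀, psiΩ_eq_Phi, psiΩ_eq_Phi, ← map_inv, ← map_mul, ← map_mul]
  congr 1
  apply Subtype.ext
  show glMap j k₀.1 * glMap j t.1.1 * (glMap j k₀.1)⁻¹ = glMap j (k₀.1 * t.1.1 * k₀.1⁻¹)
  rw [map_mul, map_mul, map_inv]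

include hι in
/-- fourth powers of inner automorphisms centralizing `fieldO σ` lie in the subfield subgroup -/
theorem psiΩ_pow_four (hQ : (QuadraticMap.polarBilin Q).Nondegenerate)
    (hn : 5 ≤ Fintype.card ι) (hQ₀ : (QuadraticMap.polarBilin Q₀).Nondegenerate)
    (hne₀ : ∃ v₀, Q₀ v₀ ≠ 0) {r : ℕ} (hr : 0 < r)
    (hord : orderOf σ.1 = r) {k : POmega F (⇑Q)} (hk : fieldO (⇑Q) σ k = k) :
    ∃ t : ↥(Omega F₀ (⇑Q₀)), (MulAut.conj k) ^ 4 = psiΩ hc t := by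
  obtain ⟨k₀, hk₀⟩ := exists_bcGO_of_fixed_point hc σ hι hQ hn hne₀ hr hord hk
  obtain ⟨c, t, hct⟩ := exists_omega_pow_four Q₀ hQ₀ hn hne₀ k₀
  refine ⟨t, ?_⟩
  rw [← hk₀, ← map_pow, ← map_pow, hct, map_mul, map_mul, bcGO_scalarGO, Phi_scalarGO, one_mul,
    psiΩ_eq_Phi]
  congr 1

include hι in
theorem dvd_card_range_psiΩ_gen (hQ : (QuadraticMap.polarBilin Q).Nondegenerate)
    (hn : 5 ≤ Fintype.card ι) (hQ₀ : (QuadraticMap.polarBilin Q₀).Nondegenerate)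
    (hne₀ : ∃ v₀, Q₀ v₀ ≠ 0) {r : ℕ} (hr : 0 < r) (hord : orderOf σ.1 = r) (hp2 : p ≠ 2)
    (hdvd : p ∣ Nat.card ↥(FixK σ)) : p ∣ Nat.card ↥(psiΩ hc).range := by
  obtain ⟨x, hx⟩ := exists_prime_orderOf_dvd_card' p hdvd
  have hk₁ : fieldO (⇑Q) σ x.1 = x.1 := x.2
  have hok : orderOf x.1 = p := by rw [Subgroup.orderOf_coe]; exact hx
  have hod : orderOf (MulAut.conj x.1) = p := by
    rw [orderOf_injective _ (Cfsg.Agent.Lib.Helper44_OrthOddOut.conj_injective Q hQ hn) x.1]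
    exact hok
  obtain ⟨t, ht⟩ := psiΩ_pow_four hc σ hι hQ hn hQ₀ hne₀ hr hord hk₁
  have hcop : Nat.Coprime 4 p := by
    have h1 : Nat.Coprime 2 p := (Nat.coprime_primes Nat.prime_two hp.out).mpr (Ne.symm hp2)
    exact Nat.Coprime.pow_left 2 h1
  obtain ⟨m, -, hm⟩ := Nat.exists_mul_mod_eq_one_of_coprime hcop hp.out.one_lt
  have hd : MulAut.conj x.1 = (psiΩ hc t) ^ m := by
    rw [← ht, ← pow_mul, ← pow_mod_orderOf, hod, hm, pow_one]
  rw [← hod]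
  apply Subgroup.orderOf_dvd_natCard
  rw [hd]
  exact Subgroup.pow_mem _ (MonoidHom.mem_range.mpr ⟨t, rfl⟩) _

/-- the subfield subgroup acts nontrivially -/
theorem exists_psiΩ_ne_one (hQ : (QuadraticMap.polarBilin Q).Nondegenerate)
    (hn : 5 ≤ Fintype.card ι) (hQ₀ : (QuadraticMap.polarBilin Q₀).Nondegenerate) :
    ∃ t : ↥(Omega F₀ (⇑Q₀)), psiΩ hc t ≠ 1 := by
  have hne : Nonempty ι := by
    rw [← Fintype.card_pos_iff]
    omega
  have hsimple := Cfsg.Agent.Lib.Helper14_POmegaSimple.isSimpleGroup_POmega Q₀ hQ₀ hn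
  obtain ⟨x, hx⟩ := exists_ne (1 : POmega F₀ (⇑Q₀))
  induction x using QuotientGroup.induction_on with
  | H t =>
    refine ⟨t, fun h1 => hx ?_⟩
    rw [QuotientGroup.eq_one_iff]
    apply mem_center_of_scalar
    apply scalar_of_glMap_scalar (j := j)
    rw [psiΩ_eq_Phi] at h1
    exact scalar_of_Phi_eq_one Q hQ hn _ h1

include hc hι in
/-- the core of the argument: a `p'`-subgroup of `C(fieldO σ)` normalized by the inner
automorphisms centralizing `fieldO σ` is trivial if `p` divides the number of fixed points -/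
theorem core_bot_gen (S : Setup Q) (hQ₀ : (QuadraticMap.polarBilin Q₀).Nondegenerate)
    (hts₀ : ∃ u w : ι → F₀, Q₀ u = 0 ∧ Q₀ w = 0 ∧ QuadraticMap.polar (⇑Q₀) u w = 0 ∧
      siegelN (⇑Q₀) u w ≠ 0)
    (hne₀ : ∃ v₀, Q₀ v₀ ≠ 0)
    (hres : ∀ τ : F ≃+* F, ∃ τ₀ : F₀ ≃+* F₀, ∀ a, j (τ₀ a) = τ (j a))
    (hord : orderOf σ.1 = p) (hp2 : p ≠ 2)
    (N' : Subgroup (MulAut (POmega F (⇑Q))))
    (hcent : ∀ n ∈ N', fieldO (⇑Q) σ * n = n * fieldO (⇑Q) σ)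
    (hnorm : ∀ k₁ : POmega F (⇑Q), fieldO (⇑Q) σ k₁ = k₁ → ∀ n ∈ N',
      MulAut.conj k₁ * n * (MulAut.conj k₁)⁻¹ ∈ N')
    (hcop : (Nat.card N').Coprime p)
    (hdvd : p ∣ Nat.card ↥(FixK σ)) : N' = ⊥ := by
  have hQ := S.nd
  have hn := S.hn
  have hr : 0 < p := hp.out.pos
  have hφord : orderOf (fieldO (⇑Q) σ) = p := by rw [orderOf_fieldO_of_setup S σ]; exact hord
  apply core_abstract (fieldO (⇑Q) σ) hφord
    ((FixK σ).map (MulAut.conj : POmega F (⇑Q) →* MulAut (POmega F (⇑Q)))) (psiΩ hc).range N'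
  · rintro _ ⟨t, rfl⟩
    exact ⟨kΩ hc t, fieldO_kΩ hc σ hι t, (psiΩ_eq_conj hc t).symm⟩
  · rintro _ ⟨k₁, hk₁, rfl⟩ _ ⟨t, rfl⟩
    obtain ⟨t', ht'⟩ := psiΩ_conj_gen hc σ hι hQ hn hne₀ hr hord hk₁ t
    exact ⟨t', ht'.symm⟩
  · rintro n hn' _ ⟨k₁, hk₁, rfl⟩
    refine ⟨n k₁, ?_, ?_⟩
    · show fieldO (⇑Q) σ (n k₁) = n k₁
      have hk₁' : fieldO (⇑Q) σ k₁ = k₁ := hk₁
      have := DFunLike.congr_fun (hcent n hn') k₁
      rw [MulAut.mul_apply, MulAut.mul_apply, hk₁'] at this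
      exact this
    · show MulAut.conj (n k₁) = n * MulAut.conj k₁ * n⁻¹
      rw [conj_comm_aut' n k₁]
      group
  · rintro _ ⟨k₁, hk₁, rfl⟩ n hn'
    exact hnorm k₁ hk₁ n hn'
  · exact hcent
  · intro y hyφ hyH
    exact mem_zpowers_of_commute_gen hc σ hι S hQ₀ hts₀ hne₀ hres hr hord y hyφ
      (fun t => hyH _ ⟨t, rfl⟩)
  · apply inf_range_eq_bot hc hn hQ₀ N' _ hcop
      (dvd_card_range_psiΩ_gen hc σ hι hQ hn hQ₀ hne₀ hr hord hp2 hdvd)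
    intro t n hn'
    rw [psiΩ_eq_conj]
    exact hnorm _ (fieldO_kΩ hc σ hι t) n hn'
  · exact hcop

include hc hι in
/-- **local balance for a standard field automorphism of odd prime order**, forms of arbitrary
dimension and characteristic -/
theorem balance_std_gen (S : Setup Q) (hQ₀ : (QuadraticMap.polarBilin Q₀).Nondegenerate)
    (hts₀ : ∃ u w : ι → F₀, Q₀ u = 0 ∧ Q₀ w = 0 ∧ QuadraticMap.polar (⇑Q₀) u w = 0 ∧
      siegelN (⇑Q₀) u w ≠ 0)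
    (hne₀ : ∃ v₀, Q₀ v₀ ≠ 0)
    (hres : ∀ τ : F ≃+* F, ∃ τ₀ : F₀ ≃+* F₀, ∀ a, j (τ₀ a) = τ (j a))
    (hord : orderOf σ.1 = p) (hp2 : p ≠ 2)
    (A : Subgroup (MulAut (POmega F (⇑Q))))
    (hinn : ∀ k₁ : POmega F (⇑Q), MulAut.conj k₁ ∈ A) :
    Cfsg.pPrimeCore p ↥(A ⊓ Subgroup.centralizer {fieldO (⇑Q) σ}) ≠ ⊥ ↔
      Nat.Coprime p (Nat.card ↥(FixK σ)) := by
  have hQ := S.nd
  have hn := S.hn
  have hconjinj := Cfsg.Agent.Lib.Helper44_OrthOddOut.conj_injective Q hQ hn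
  have hconjH : ∀ k₁ : POmega F (⇑Q), fieldO (⇑Q) σ k₁ = k₁ →
      MulAut.conj k₁ ∈ A ⊓ Subgroup.centralizer {fieldO (⇑Q) σ} := by
    intro k₁ hk₁
    refine ⟨hinn k₁, Subgroup.mem_centralizer_iff.mpr ?_⟩
    intro z hz
    rw [Set.mem_singleton_iff] at hz
    subst hz
    exact (fieldO_comm_conj_iff σ hQ hn k₁).mpr hk₁
  have hcentH : ∀ h ∈ A ⊓ Subgroup.centralizer {fieldO (⇑Q) σ},
      fieldO (⇑Q) σ * h = h * fieldO (⇑Q) σ := by
    intro h hh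
    exact (Subgroup.mem_centralizer_iff.mp hh.2) _ rfl
  rw [pPrimeCore_ne_bot_iff]
  constructor
  · rintro ⟨N, hNn, hNc, hNb⟩
    by_contra hnc
    have hdvd : p ∣ Nat.card ↥(FixK σ) := by
      by_contra hnd
      exact hnc ((Nat.Prime.coprime_iff_not_dvd hp.out).mpr hnd)
    apply hNb
    have hinj := Subgroup.subtype_injective (A ⊓ Subgroup.centralizer {fieldO (⇑Q) σ})
    rw [← Subgroup.map_eq_bot_iff_of_injective N hinj]
    apply core_bot_gen hc σ hι S hQ₀ hts₀ hne₀ hres hord hp2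
    · rintro n ⟨h, hh, rfl⟩
      exact hcentH h.1 h.2
    · rintro k₁ hk₁ n ⟨h, hh, rfl⟩
      refine ⟨⟨MulAut.conj k₁, hconjH k₁ hk₁⟩ * h * ⟨MulAut.conj k₁, hconjH k₁ hk₁⟩⁻¹,
        hNn.conj_mem h hh _, rfl⟩
    · rw [Subgroup.card_map_of_injective hinj]
      exact hNc
    · exact hdvd
  · intro hcop
    have hle : (FixK σ).map (MulAut.conj : POmega F (⇑Q) →* _) ≤
        A ⊓ Subgroup.centralizer {fieldO (⇑Q) σ} := by
      rintro _ ⟨k₁, hk₁, rfl⟩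
      exact hconjH k₁ hk₁
    refine ⟨((FixK σ).map (MulAut.conj : POmega F (⇑Q) →* _)).subgroupOf _, ?_, ?_, ?_⟩
    · refine ⟨fun n hn' h => ?_⟩
      rw [Subgroup.mem_subgroupOf] at hn' ⊢
      obtain ⟨k₁, hk₁, hk₁n⟩ := hn'
      refine ⟨h.1 k₁, ?_, ?_⟩
      · show fieldO (⇑Q) σ (h.1 k₁) = h.1 k₁
        have hk₁' : fieldO (⇑Q) σ k₁ = k₁ := hk₁
        have := DFunLike.congr_fun (hcentH h.1 h.2) k₁
        rw [MulAut.mul_apply, MulAut.mul_apply, hk₁'] at this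
        exact this
      · show MulAut.conj (h.1 k₁) = h.1 * n.1 * h.1⁻¹
        rw [← hk₁n]
        have := conj_comm_aut' h.1 k₁
        calc MulAut.conj (h.1 k₁) = (MulAut.conj (h.1 k₁) * h.1) * h.1⁻¹ := by group
          _ = _ := by rw [← this]
    · rw [Nat.card_congr (Subgroup.subgroupOfEquivOfLe hle).toEquiv,
        Subgroup.card_map_of_injective hconjinj]
      exact hcop.symm
    · intro hbot
      obtain ⟨t, ht1⟩ := exists_psiΩ_ne_one hc hQ hn hQ₀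
      have hfixt := fieldO_kΩ hc σ hι t
      have h1 : (⟨MulAut.conj (kΩ hc t), hconjH _ hfixt⟩ :
          ↥(A ⊓ Subgroup.centralizer {fieldO (⇑Q) σ})) ∈
          ((FixK σ).map (MulAut.conj : POmega F (⇑Q) →* _)).subgroupOf _ := by
        rw [Subgroup.mem_subgroupOf]
        exact ⟨kΩ hc t, hfixt, rfl⟩
      rw [hbot, Subgroup.mem_bot] at h1
      have h3 : MulAut.conj (kΩ hc t) = 1 := congrArg Subtype.val h1
      rw [← psiΩ_eq_conj] at h3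
      exact ht1 h3

end core

end Cfsg.Agent.Lib.Helper44_OrthSubfield
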