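import Mathlib
import Cfsg.Agent.Lib.Helper44_OrthSubfield

/-!
# The centralizer of a standard field automorphism in `Phi (ker χ)` (helper44)

Generic version, for forms `Q₀` over a subfield `F₀` and `Q` over `F` related by base change
(`Compat`), and characters `χ`, `χ₀` of the similarity groups which correspond under base change:
`C_{Phi(ker χ)}(fieldO σ) ≅ Phi₀(ker χ₀)`, where `F₀` is the fixed field of `σ`.
-/

set_option autoImplicit false
set_option linter.unusedSectionVars false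
set_option linter.unusedVariables false

namespace Cfsg.Agent.Lib.Helper44_CentGen

open Cfsg Matrix Cfsg.Agent.Lib.Helper44_Orth Cfsg.Agent.Lib.Helper14_AutOmega
  Cfsg.Agent.Lib.Helper14_CentOmega Cfsg.Agent.Lib.Helper44_OrthField
  Cfsg.Agent.Lib.Helper44_H90i Cfsg.Agent.Lib.Helper44_OrthCoset Cfsg.Agent.Lib.Helper44_OrthBase
  Cfsg.Agent.Lib.Helper44_OrthMinusK Cfsg.Agent.Lib.Helper44_OrthSubfield
  Cfsg.Agent.Lib.Helper44_OrthMinusCent

section cent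

variable {ι : Type} [Fintype ι] [DecidableEq ι] {F₀ F : Type*} [Field F₀] [Field F] [Fintype F₀] [Fintype F]
  {j : F₀ →+* F} {Q₀ : QuadraticForm F₀ (ι → F₀)} {Q : QuadraticForm F (ι → F)}
  (hc : Compat j Q₀ Q) (σ : ↥(invSub (⇑Q))) (hι : ∀ a : F, σ.1 a = a ↔ a ∈ Set.range j)
  (χ : ↥(GO (⇑Q)) →* Multiplicative (ZMod 2)) (χ₀ : ↥(GO (⇑Q₀)) →* Multiplicative (ZMod 2))

include hι in
theorem mapGO_bcGO (g : ↥(GO (⇑Q₀))) : mapGO (⇑Q) σ (bcGO j hc g) = bcGO j hc g := by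
  apply Subtype.ext
  rw [mapGO_coe, bcGO_coe]
  exact mapGLi_glMap σ.1 hι g.1

include hι in
/-- similarities over the fixed field give elements of the centralizer -/
theorem Phi_bcGO_mem (hχbc : ∀ g, χ (bcGO j hc g) = χ₀ g) (g : ↥(GO (⇑Q₀))) (hg : g ∈ χ₀.ker) :
    Phi (⇑Q) (bcGO j hc g) ∈
      (χ.ker).map (Phi (⇑Q)) ⊓ Subgroup.centralizer {fieldO (⇑Q) σ} := by
  rw [Subgroup.mem_inf, mem_centralizer_singleton']
  refine ⟨⟨bcGO j hc g, ?_, rfl⟩, ?_⟩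
  · rw [SetLike.mem_coe, MonoidHom.mem_ker, hχbc]
    exact MonoidHom.mem_ker.mp hg
  · rw [fieldO_mul_Phi, mapGO_bcGO hc σ hι g]

include hι in
/-- every element of the centralizer comes from a similarity over the fixed field -/
theorem exists_bcGO_of_mem (hQ : (QuadraticMap.polarBilin Q).Nondegenerate)
    (hn : 5 ≤ Fintype.card ι) (hne₀ : ∃ v₀, Q₀ v₀ ≠ 0) {r : ℕ} (hr : 0 < r)
    (hord : orderOf σ.1 = r) (hχs : ∀ a : Fˣ, χ (scalarGO Q a) = 1)
    (hχbc : ∀ g, χ (bcGO j hc g) = χ₀ g)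
    (y : MulAut (POmega F (⇑Q)))
    (hy : y ∈ (χ.ker).map (Phi (⇑Q)) ⊓ Subgroup.centralizer {fieldO (⇑Q) σ}) :
    ∃ k ∈ χ₀.ker, Phi (⇑Q) (bcGO j hc k) = y := by
  rw [Subgroup.mem_inf, mem_centralizer_singleton'] at hy
  obtain ⟨⟨g, hgχ, rfl⟩, hcomm⟩ := hy
  obtain ⟨k, hk⟩ := exists_bcGO_of_comm hc σ hι hQ hn hne₀ hr hord g hcomm
  refine ⟨k, ?_, hk⟩
  have hker : (bcGO j hc k)⁻¹ * g ∈ (Phi (⇑Q)).ker := by
    rw [MonoidHom.mem_ker, map_mul, map_inv, hk, inv_mul_cancel]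
  rw [ker_Phi _ hQ hn, Subgroup.mem_subgroupOf] at hker
  obtain ⟨c, hc'⟩ := exists_scalar_of_mem_scalars' hker
  have hg : g = bcGO j hc k * scalarGO Q c := by
    have h1 : (bcGO j hc k)⁻¹ * g = scalarGO Q c := Subtype.ext hc'
    rw [← h1]
    group
  rw [MonoidHom.mem_ker, ← hχbc]
  have h2 := MonoidHom.mem_ker.mp hgχ
  rw [hg, map_mul, hχs, mul_one] at h2
  exact h2

/-- the kernels of the two actions of the similarity group over the fixed field agree -/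
theorem Phi_bcGO_eq_one_iff (hQ : (QuadraticMap.polarBilin Q).Nondegenerate)
    (hQ₀ : (QuadraticMap.polarBilin Q₀).Nondegenerate)
    (hn : 5 ≤ Fintype.card ι) (g : ↥(GO (⇑Q₀))) :
    Phi (⇑Q) (bcGO j hc g) = 1 ↔ Phi (⇑Q₀) g = 1 := by
  have hne : Nonempty ι := by
    rw [← Fintype.card_pos_iff]
    omega
  rw [← MonoidHom.mem_ker, ← MonoidHom.mem_ker, ker_Phi _ hQ hn, ker_Phi _ hQ₀ hn,
    Subgroup.mem_subgroupOf, Subgroup.mem_subgroupOf]
  constructor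
  · intro h
    exact scalar_of_glMap_scalar h
  · intro h
    rw [Cfsg.Geo.mem_scalars_iff] at h ⊢
    obtain ⟨u, hu⟩ := h
    refine ⟨Units.map (j : F₀ →* F) u, ?_⟩
    show g.1.1.map j = _
    rw [hu]
    ext i i'
    simp only [Matrix.map_apply, Matrix.smul_apply, Matrix.one_apply, smul_eq_mul, map_mul]
    by_cases hij : i = i'
    · simp [hij]
    · simp [hij]

include hι in
/-- **the centralizer of `fieldO σ` in `Phi (ker χ)`** is `Phi₀ (ker χ₀)` -/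
theorem nonempty_centEquiv_gen (hQ : (QuadraticMap.polarBilin Q).Nondegenerate)
    (hQ₀ : (QuadraticMap.polarBilin Q₀).Nondegenerate)
    (hn : 5 ≤ Fintype.card ι) (hne₀ : ∃ v₀, Q₀ v₀ ≠ 0) {r : ℕ} (hr : 0 < r)
    (hord : orderOf σ.1 = r) (hχs : ∀ a : Fˣ, χ (scalarGO Q a) = 1)
    (hχbc : ∀ g, χ (bcGO j hc g) = χ₀ g) :
    Nonempty (↥((χ.ker).map (Phi (⇑Q)) ⊓ Subgroup.centralizer {fieldO (⇑Q) σ}) ≃*
      ↥((χ₀.ker).map (Phi (⇑Q₀)))) :=
  nonempty_equiv_of_ker_eq _ _ ((Phi (⇑Q)).comp (bcGO j hc)) (Phi (⇑Q₀))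
    (fun g hg => Phi_bcGO_mem hc σ hι χ χ₀ hχbc g hg)
    (fun y hy => exists_bcGO_of_mem hc σ hι χ χ₀ hQ hn hne₀ hr hord hχs hχbc y hy)
    (fun g _ => Phi_bcGO_eq_one_iff hc hQ hQ₀ hn g)

end cent

end Cfsg.Agent.Lib.Helper44_CentGen
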