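import Mathlib
import Cfsg.Agent.Lib.Helper44_OrthPlusMain
import Cfsg.Agent.Lib.Helper44_OrthBalance
import Cfsg.Agent.Lib.Helper42_AutPSL2

/-!
# Involutory graph-field automorphisms of `PΩ⁺_{2m}(q)`: conjugacy (helper44)

All involutory graph-field automorphisms are conjugate under the inner-diagonal group, and the
underlying field automorphism is the unique involution of the field.
-/

set_option autoImplicit false
set_option linter.unusedSectionVars false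
set_option linter.unusedVariables false

namespace Cfsg.Agent.Lib.Helper44_PlusGFConj

open Cfsg Matrix Module Cfsg.Agent.Lib.Helper44_Orth Cfsg.Agent.Lib.Helper14_AutOmega
  Cfsg.Agent.Lib.Helper44_H90i Cfsg.Agent.Lib.Helper44_H90 Cfsg.Agent.Lib.Helper44_OrthField
  Cfsg.Agent.Lib.Helper44_FixField Cfsg.Agent.Lib.Helper44_OrthLang
  Cfsg.Agent.Lib.Helper44_OrthFaith Cfsg.Agent.Lib.Helper14_CentOmega
  Cfsg.Agent.Lib.Helper44_OrthCoset Cfsg.Agent.Lib.Helper44_OrthCoh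
  Cfsg.Agent.Lib.Helper40_QuadIso Cfsg.Agent.Lib.Helper40_QuadStd
  Cfsg.Agent.Lib.Helper44_StdForms Cfsg.Agent.Lib.Helper44_OrthChi
  Cfsg.Agent.Lib.Helper44_OrthEvenCoset Cfsg.Agent.Lib.Helper44_Refl
  Cfsg.Agent.Lib.Helper44_OrthPlusMain Cfsg.Agent.Lib.Helper44_OrthBalance

/-! ### the unique involution of a finite field -/

section field

variable {F : Type*} [Field F] [Fintype F]

/-- a finite field has at most one automorphism of order two -/
theorem involution_unique (σ τ : F ≃+* F) (hσ : orderOf σ = 2) (hτ : orderOf τ = 2) : σ = τ := by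
  classical
  obtain ⟨p, hp⟩ := CharP.exists F
  have : Fact p.Prime := ⟨CharP.char_is_prime F p⟩
  obtain ⟨n, -, hF⟩ := FiniteField.card F p
  obtain ⟨e⟩ := Cfsg.Agent.Lib.Helper42_AutPSL2.ringAut_mulEquiv (F := F) (p := p) (f := n) hF
  have hn : NeZero (n : ℕ) := ⟨n.ne_zero⟩
  have hcyc : IsCyclic (RingAut F) := isCyclic_of_surjective e.symm e.symm.surjective
  have hfin : Finite (RingAut F) := Finite.of_equiv _ e.symm.toEquiv
  let _ : Fintype (RingAut F) := Fintype.ofFinite _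
  have h2 : 2 ∣ Fintype.card (RingAut F) := by
    rw [← hσ]
    exact orderOf_dvd_card
  have hcard := IsCyclic.card_orderOf_eq_totient (α := RingAut F) h2
  rw [Nat.totient_two, Finset.card_eq_one] at hcard
  obtain ⟨a, ha⟩ := hcard
  have h1 : σ ∈ ({a} : Finset (RingAut F)) := by
    rw [← ha, Finset.mem_filter]
    exact ⟨Finset.mem_univ _, hσ⟩
  have h3 : τ ∈ ({a} : Finset (RingAut F)) := by
    rw [← ha, Finset.mem_filter]
    exact ⟨Finset.mem_univ _, hτ⟩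
  rw [Finset.mem_singleton] at h1 h3
  rw [h1, h3]

end field

/-! ### commutators of automorphisms lie in `Phi (ker χ)` -/

section comm

variable {ι : Type} [Fintype ι] [DecidableEq ι] {F : Type*} [Field F] [Fintype F]
  (Q : QuadraticForm F (ι → F))

theorem comm_identity {A : Type*} [Group A] (G K G' K' a b : A) (e1 : a * K = K' * a)
    (e2 : b * G = G' * b) (e3 : a * b = b * a) :
    G * K' * G'⁻¹ * K⁻¹ = (G * a) * (K * b) * (G * a)⁻¹ * (K * b)⁻¹ := by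
  have e1' : K' = a * K * a⁻¹ := by rw [e1]; group
  have e2' : G' = b * G * b⁻¹ := by rw [e2]; group
  have e3' : b * a⁻¹ = a⁻¹ * b := by
    calc b * a⁻¹ = a⁻¹ * (a * b) * a⁻¹ := by group
      _ = a⁻¹ * (b * a) * a⁻¹ := by rw [e3]
      _ = a⁻¹ * b := by group
  have : G * a * (K * b) * (G * a)⁻¹ * (K * b)⁻¹ =
      G * a * K * (b * a⁻¹) * G⁻¹ * b⁻¹ * K⁻¹ := by group
  rw [this, e3', e1', e2']
  group

theorem commutator_mem (hall : ∀ σ : F ≃+* F, SigInv (⇑Q) σ) (hAut : gammaPOmega F (⇑Q) = ⊤)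
    (χ : ↥(GO (⇑Q)) →* Multiplicative (ZMod 2))
    (hχσ : ∀ (σ : ↥(invSub (⇑Q))) g, χ (mapGO (⇑Q) σ g) = χ g)
    (α β : MulAut (POmega F (⇑Q))) :
    α * β * α⁻¹ * β⁻¹ ∈ (χ.ker).map (Phi (⇑Q)) := by
  have htop := stdAut_eq_top (⇑Q) hall hAut
  have hα : α ∈ stdAut (⇑Q) := by rw [htop]; exact Subgroup.mem_top α
  have hβ : β ∈ stdAut (⇑Q) := by rw [htop]; exact Subgroup.mem_top β
  obtain ⟨g, σ, rfl⟩ := hα
  obtain ⟨k, τ, rfl⟩ := hβ
  have hστ : σ * τ = τ * σ := Subtype.ext (ringAut_comm σ.1 τ.1)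
  refine ⟨g * mapGO (⇑Q) σ k * (mapGO (⇑Q) τ g)⁻¹ * k⁻¹, ?_, ?_⟩
  · rw [SetLike.mem_coe, MonoidHom.mem_ker, map_mul, map_mul, map_mul, map_inv, map_inv, hχσ, hχσ]
    rw [mul_comm (χ g) (χ k), mul_assoc (χ k), mul_inv_cancel, mul_one, mul_inv_cancel]
  · have e1 := fieldO_mul_Phi (⇑Q) σ k
    have e2 := fieldO_mul_Phi (⇑Q) τ g
    have e3 : fieldO (⇑Q) σ * fieldO (⇑Q) τ = fieldO (⇑Q) τ * fieldO (⇑Q) σ := by
      rw [← map_mul, ← map_mul, hστ]
    rw [map_mul, map_mul, map_mul, map_inv, map_inv]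
    exact comm_identity _ _ _ _ _ _ e1 e2 e3

end comm

/-! ### conjugacy of the involutory graph-field automorphisms -/

section main

variable {F : Type*} [Field F] [Fintype F]

/-- an `Aut`-conjugate of an involutory graph-field automorphism is conjugate to it under the
inner-diagonal group -/
theorem conj_of_aut_conj {m : ℕ} (hm : 3 ≤ m) (Qf : (Fin m ⊕ Fin m → F) → F)
    (hQf : Qf = ⇑(qfPlus m F)) (hAut : gammaPOmega F Qf = ⊤)
    (x : MulAut (POmega F Qf)) (hx : GFgen Qf x) (hx2 : orderOf x = 2)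
    (β : MulAut (POmega F Qf)) : IsConjUnder (Dgen Qf) x (β * x * β⁻¹) := by
  have hδ : β * x * β⁻¹ * x⁻¹ ∈ Dgen Qf := by
    subst hQf
    rw [Dgen_eq]
    exact commutator_mem (qfPlus m F) (sigInv_qfPlus m) hAut (chiP (F := F) m)
      (fun σ g => chiGO_mapGO _ _ _ _ _ (X0_sigma m) σ g) β x
  have hy : β * x * β⁻¹ = (β * x * β⁻¹ * x⁻¹) * x := by group
  rw [hy]
  apply (coset_conj_plus_aux hm Qf hQf hAut x _ (Or.inr hx) Nat.prime_two hx2 hδ).mp
  rw [← hy, ← MulAut.conj_apply, MulEquiv.orderOf_eq]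
  exact hx2

set_option maxHeartbeats 800000 in
/-- the data of an involutory graph-field automorphism: the field automorphism has order two -/
theorem gf_data {m : ℕ} (hm : 3 ≤ m) (x : MulAut (POmega F (⇑(qfPlus m F))))
    (hx : GFgen (⇑(qfPlus m F)) x) (hx2 : orderOf x = 2) :
    ∃ (α : MulAut (POmega F (⇑(qfPlus m F)))) (σ : ↥(invSub (⇑(qfPlus m F))))
      (v : Fin m ⊕ Fin m → F) (hv : qfPlus m F v ≠ 0), orderOf σ.1 = 2 ∧
      (∀ i, σ.1 (v i) = v i) ∧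
      α * x * α⁻¹ = Phi (⇑(qfPlus m F)) (reflGO (qfPlus m F) v hv) * fieldO (⇑(qfPlus m F)) σ := by
  have hn : 5 ≤ Fintype.card (Fin m ⊕ Fin m) := by rw [card_plus]; omega
  have hQ := Cfsg.Agent.Lib.Helper14_POmegaSimple.nondegenerate_qfPlus (F := F) m
  obtain ⟨α, γ, φ, σ, v, ρ, hσ, hv, hvσ, hρ, hγ, hstd, hαx⟩ := hx
  set σ' : ↥(invSub (⇑(qfPlus m F))) := ⟨σ, sigInv_qfPlus m σ⟩ with hσ'
  have hφ : φ = fieldO (⇑(qfPlus m F)) σ' := (isFieldAut_iff _ σ' φ).mp hstd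
  have hσ1 : σ' ≠ 1 := by
    intro h
    apply hσ
    have := congrArg Subtype.val h
    exact this
  have hρ' : ρ = (reflGO (qfPlus m F) v hv).1 := by
    apply Units.ext
    rw [hρ, reflGO_coe]
  rw [hρ'] at hγ
  have hγ' : γ = Phi (⇑(qfPlus m F)) (reflGO (qfPlus m F) v hv) :=
    (Cfsg.Agent.Lib.Helper14_AutOmega.isInduced_iff (⇑(qfPlus m F))
      (reflGO (qfPlus m F) v hv) γ).mp hγ
  rw [hγ', hφ] at hαx
  have hx' : (Phi (⇑(qfPlus m F)) (reflGO (qfPlus m F) v hv) *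
      fieldO (⇑(qfPlus m F)) σ') ^ 2 = 1 := by
    rw [← hαx, conj_pow, ← hx2, pow_orderOf_eq_one, mul_one, mul_inv_cancel]
  have hord := orderOf_sigma (qfPlus m F) hQ hn (faithData_qfPlus (by omega)) σ' hσ1 _
    Nat.prime_two hx'
  exact ⟨α, σ', v, hv, hord, hvσ, hαx⟩

set_option maxHeartbeats 800000 in
/-- **all involutory graph-field automorphisms are conjugate under the inner-diagonal group** -/
theorem gf_conj_aux {m : ℕ} (hm : 3 ≤ m) (Qf : (Fin m ⊕ Fin m → F) → F)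
    (hQf : Qf = ⇑(qfPlus m F)) (hAut : gammaPOmega F Qf = ⊤)
    (x y : MulAut (POmega F Qf)) (hx : GFgen Qf x) (hy : GFgen Qf y) (hx2 : orderOf x = 2)
    (hy2 : orderOf y = 2) : IsConjUnder (Dgen Qf) x y := by
  have hc := fun β => conj_of_aut_conj hm Qf hQf hAut x hx hx2 β
  subst hQf
  obtain ⟨α, σ, v, hv, hσ, hvσ, hαx⟩ := gf_data hm x hx hx2
  obtain ⟨α', σ', v', hv', hσ', hvσ', hαy⟩ := gf_data hm y hy hy2
  have hσσ' : σ' = σ := Subtype.ext (involution_unique σ'.1 σ.1 hσ' hσ)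
  rw [hσσ'] at hαy hvσ'
  obtain ⟨x₁, hx₁⟩ : ∃ x₁, x₁ = Phi (⇑(qfPlus m F)) (reflGO (qfPlus m F) v hv) *
    fieldO (⇑(qfPlus m F)) σ := ⟨_, rfl⟩
  obtain ⟨y₁, hy₁⟩ : ∃ y₁, y₁ = Phi (⇑(qfPlus m F)) (reflGO (qfPlus m F) v' hv') *
    fieldO (⇑(qfPlus m F)) σ := ⟨_, rfl⟩
  rw [← hx₁] at hαx
  rw [← hy₁] at hαy
  -- `x₁` is an involutory graph-field automorphism
  have hσ1 : σ.1 ≠ RingEquiv.refl F := by
    intro h
    have h1 : orderOf σ.1 = 1 := by rw [h]; exact orderOf_one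
    omega
  have hx₁GF : GFgen (⇑(qfPlus m F)) x₁ :=
    ⟨1, Phi (⇑(qfPlus m F)) (reflGO (qfPlus m F) v hv), fieldO (⇑(qfPlus m F)) σ, σ.1, v,
      (reflGO (qfPlus m F) v hv).1, hσ1, hv, hvσ, reflGO_coe _ v hv,
      (Cfsg.Agent.Lib.Helper14_AutOmega.isInduced_iff (⇑(qfPlus m F)) _ _).mpr rfl,
      (isFieldAut_iff _ σ _).mpr rfl, by rw [hx₁]; group⟩
  have hx₁2 : orderOf x₁ = 2 := by
    rw [← hαx, ← MulAut.conj_apply, MulEquiv.orderOf_eq]
    exact hx2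
  have hy₁2 : orderOf y₁ = 2 := by
    rw [← hαy, ← MulAut.conj_apply, MulEquiv.orderOf_eq]
    exact hy2
  -- `y₁ = δ x₁` with `δ` inner-diagonal
  have hδ : Phi (⇑(qfPlus m F)) (reflGO (qfPlus m F) v' hv' * (reflGO (qfPlus m F) v hv)⁻¹) ∈
      Dgen (⇑(qfPlus m F)) := by
    rw [Dgen_eq]
    refine ⟨_, ?_, rfl⟩
    rw [SetLike.mem_coe, MonoidHom.mem_ker, map_mul, map_inv, chiGO_reflGO, chiGO_reflGO,
      mul_inv_cancel]
  have hyx : y₁ = Phi (⇑(qfPlus m F))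
      (reflGO (qfPlus m F) v' hv' * (reflGO (qfPlus m F) v hv)⁻¹) * x₁ := by
    rw [hy₁, hx₁, map_mul, map_inv]
    group
  have h1 := (coset_conj_plus_aux hm _ rfl hAut x₁ _ (Or.inr hx₁GF) Nat.prime_two hx₁2 hδ).mp
    (by rw [← hyx]; exact hy₁2)
  rw [← hyx] at h1
  obtain ⟨h, hh, hh'⟩ := h1
  have hy' : y = (α'⁻¹ * h * α) * x * (α'⁻¹ * h * α)⁻¹ := by
    have e1 : y = α'⁻¹ * y₁ * α' := by rw [← hαy]; group
    rw [e1, hh', ← hαx]
    group
  rw [hy']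
  exact hc _

end main

end Cfsg.Agent.Lib.Helper44_PlusGFConj
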