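import Mathlib
import Cfsg.Agent.Lib.Helper44_OrthIsoTransport
import Cfsg.Agent.Lib.Helper14_PGOTransport
import Cfsg.Agent.Lib.Helper44_OrthPlusMain

/-!
# Transport along rectangular isometries (helper44)

Two quadratic spaces `(κ → F, Q)` and `(ι → F, Q')` on different index types which are isometric
through an invertible rectangular matrix `P`: the induced isomorphisms of isometry groups,
similarity groups and of the groups `PΩ`, and the transport of the automorphisms `Phi g` and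
`fieldO σ`.
-/

set_option autoImplicit false
set_option linter.unusedSectionVars false
set_option linter.unusedVariables false

namespace Cfsg.Agent.Lib.Helper44_RectTransport

open Cfsg Matrix Cfsg.Agent.Lib.Helper44_Orth Cfsg.Agent.Lib.Helper14_AutOmega
  Cfsg.Agent.Lib.Helper14_CentOmega
  Cfsg.Agent.Lib.Helper44_OrthIsoTransport Cfsg.Agent.Lib.Helper14_PGOTransport
  Cfsg.Agent.Lib.Helper44_OrthField Cfsg.Agent.Lib.Helper44_H90i
  Cfsg.Agent.Lib.Helper44_OrthPlusMain Cfsg.Agent.Lib.Helper44_Refl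

open Cfsg.Agent.Lib.Helper14_GOChars (mu mu_eq mu_spec)

variable {κ ι : Type} [Fintype κ] [DecidableEq κ] [Fintype ι] [DecidableEq ι] {F : Type*} [Field F]

/-- a rectangular isometry from `Q` (on `κ → F`) to `Q'` (on `ι → F`) -/
structure RIsom (Q : (κ → F) → F) (Q' : (ι → F) → F) where
  P : Matrix ι κ F
  P' : Matrix κ ι F
  h1 : P * P' = 1
  h2 : P' * P = 1
  isom : ∀ v, Q' (P *ᵥ v) = Q v

namespace RIsom

variable {Q : (κ → F) → F} {Q' : (ι → F) → F} (h : RIsom Q Q')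

theorem isom' (u : ι → F) : Q (h.P' *ᵥ u) = Q' u := by
  have := h.isom (h.P' *ᵥ u)
  rw [Matrix.mulVec_mulVec, h.h1, Matrix.one_mulVec] at this
  exact this.symm

/-- the inverse rectangular isometry -/
def symm : RIsom Q' Q := ⟨h.P', h.P, h.h2, h.h1, h.isom'⟩

/-- conjugation by `P` on the general linear groups -/
def gl : GL κ F ≃* GL ι F := glCongr h.P h.P' h.h1 h.h2

theorem gl_coe (g : GL κ F) : ((h.gl g : GL ι F) : Matrix ι ι F) = h.P * g.1 * h.P' := rfl

theorem gl_symm_coe (g : GL ι F) :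
    ((h.gl.symm g : GL κ F) : Matrix κ κ F) = h.P' * g.1 * h.P := rfl

theorem gl_mulVec (g : GL κ F) (u : ι → F) :
    (h.gl g : GL ι F).1 *ᵥ u = h.P *ᵥ (g.1 *ᵥ (h.P' *ᵥ u)) := by
  rw [gl_coe, Matrix.mulVec_mulVec, Matrix.mulVec_mulVec]

theorem gl_symm_mulVec (g : GL ι F) (u : κ → F) :
    (h.gl.symm g : GL κ F).1 *ᵥ u = h.P' *ᵥ (g.1 *ᵥ (h.P *ᵥ u)) := by
  rw [gl_symm_coe, Matrix.mulVec_mulVec, Matrix.mulVec_mulVec]

theorem conj_mem {s : GL κ F} (hs : s ∈ isometryGroup F Q) : h.gl s ∈ isometryGroup F Q' := by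
  rw [mem_isometryGroup_iff] at hs ⊢
  intro u
  rw [gl_mulVec, h.isom, hs, h.isom']

theorem conj_mem_symm {s : GL ι F} (hs : s ∈ isometryGroup F Q') :
    h.gl.symm s ∈ isometryGroup F Q := by
  rw [mem_isometryGroup_iff] at hs ⊢
  intro u
  rw [gl_symm_mulVec, h.isom', hs, h.isom]

theorem conj_mem_GO {g : GL κ F} (hg : g ∈ GO Q) : h.gl g ∈ GO Q' := by
  obtain ⟨c, hc⟩ := hg
  refine ⟨c, fun u => ?_⟩
  rw [gl_mulVec, h.isom, hc, h.isom']

theorem conj_mem_GO_symm {g : GL ι F} (hg : g ∈ GO Q') : h.gl.symm g ∈ GO Q := by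
  obtain ⟨c, hc⟩ := hg
  refine ⟨c, fun u => ?_⟩
  rw [gl_symm_mulVec, h.isom', hc, h.isom]

/-- conjugation by a rectangular isometry, on the isometry groups -/
def isoG : ↥(isometryGroup F Q) ≃* ↥(isometryGroup F Q') where
  toFun s := ⟨h.gl s.1, h.conj_mem s.2⟩
  invFun s := ⟨h.gl.symm s.1, h.conj_mem_symm s.2⟩
  left_inv s := Subtype.ext (h.gl.symm_apply_apply s.1)
  right_inv s := Subtype.ext (h.gl.apply_symm_apply s.1)
  map_mul' s t := Subtype.ext (map_mul h.gl s.1 t.1)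

theorem isoG_coe (s : ↥(isometryGroup F Q)) :
    ((h.isoG s : ↥(isometryGroup F Q')) : GL ι F) = h.gl s.1 := rfl

/-- conjugation by a rectangular isometry, on the groups `PΩ` -/
noncomputable def isoT : POmega F Q ≃* POmega F Q' := pcEquiv h.isoG

theorem isoT_mk (s : ↥(Omega F Q)) :
    h.isoT (QuotientGroup.mk s) = QuotientGroup.mk (commEquiv h.isoG s) := rfl

/-- conjugation by a rectangular isometry, on the similarity groups -/
def cgGO : ↥(GO Q) ≃* ↥(GO Q') where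
  toFun g := ⟨h.gl g.1, h.conj_mem_GO g.2⟩
  invFun g := ⟨h.gl.symm g.1, h.conj_mem_GO_symm g.2⟩
  left_inv g := Subtype.ext (h.gl.symm_apply_apply g.1)
  right_inv g := Subtype.ext (h.gl.apply_symm_apply g.1)
  map_mul' g k := Subtype.ext (map_mul h.gl g.1 k.1)

theorem cgGO_coe (g : ↥(GO Q)) : ((h.cgGO g : ↥(GO Q')) : GL ι F) = h.gl g.1 := rfl

theorem mu_cgGO (hne' : ∃ v, Q' v ≠ 0) (g : ↥(GO Q)) : mu Q' (h.cgGO g) = mu Q g := by
  apply mu_eq Q' hne'
  intro u
  rw [cgGO_coe, gl_mulVec, h.isom, mu_spec Q g, h.isom']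

theorem det_cgGO (g : ↥(GO Q)) :
    ((h.cgGO g : ↥(GO Q')) : GL ι F).1.det = (g : GL κ F).1.det := by
  rw [cgGO_coe, gl_coe]
  exact Matrix.det_conj_of_mul_eq_one h.h1 h.h2

theorem det_isoG (s : ↥(isometryGroup F Q)) :
    ((h.isoG s : ↥(isometryGroup F Q')) : GL ι F).1.det = (s : GL κ F).1.det := by
  rw [isoG_coe, gl_coe]
  exact Matrix.det_conj_of_mul_eq_one h.h1 h.h2

theorem congr_isoT_Phi (g : ↥(GO Q)) :
    MulAut.congr h.isoT (Phi Q g) = Phi Q' (h.cgGO g) := by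
  apply MulEquiv.ext
  intro t'
  obtain ⟨t, rfl⟩ := h.isoT.surjective t'
  obtain ⟨s, rfl⟩ := QuotientGroup.mk_surjective t
  show h.isoT (Phi Q g (h.isoT.symm (h.isoT (QuotientGroup.mk s)))) = _
  rw [MulEquiv.symm_apply_apply, Phi_mk, isoT_mk, isoT_mk, Phi_mk]
  congr 1
  apply Subtype.ext
  apply Subtype.ext
  show h.gl ((g : GL κ F) * ((s : ↥(isometryGroup F Q)) : GL κ F) * (g : GL κ F)⁻¹) =
    h.gl (g : GL κ F) * h.gl ((s : ↥(isometryGroup F Q)) : GL κ F) * (h.gl (g : GL κ F))⁻¹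
  rw [map_mul, map_mul, map_inv]

/-- the image of `Ω` under a rectangular isometry lies in `Ω` -/
theorem isoG_mem_omega {s : ↥(isometryGroup F Q)} (hs : s ∈ Omega F Q) :
    h.isoG s ∈ Omega F Q' :=
  (commEquiv h.isoG ⟨s, hs⟩).2

theorem isoG_mem_omega_iff (s : ↥(isometryGroup F Q)) :
    h.isoG s ∈ Omega F Q' ↔ s ∈ Omega F Q := by
  constructor
  · intro hs
    have := ((commEquiv h.isoG).symm ⟨_, hs⟩).2
    have e : (((commEquiv h.isoG).symm ⟨_, hs⟩ : ↥(Omega F Q)) : ↥(isometryGroup F Q)) = s := by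
      apply h.isoG.injective
      rw [← commEquiv_coe, MulEquiv.apply_symm_apply]
    rwa [e] at this
  · exact h.isoG_mem_omega

end RIsom

/-! ### transport of field automorphisms -/

section field

variable {Q : (κ → F) → F} {Q' : (ι → F) → F} (h : RIsom Q Q')

theorem map_mul_rect {α β γ : Type*} [Fintype β] (σ : F ≃+* F) (A : Matrix α β F)
    (B : Matrix β γ F) : (A * B).map σ = A.map σ * B.map σ := by
  ext i k
  simp only [Matrix.map_apply, Matrix.mul_apply, map_sum, map_mul]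

/-- the transport of a standard field automorphism: `fieldO σ` on `PΩ(Q)` becomes
`Phi c * fieldO σ` on `PΩ(Q')`, where `c σ(P) = P` -/
theorem congr_isoT_fieldO (σ : ↥(invSub Q)) (σ' : ↥(invSub Q')) (hσ : σ.1 = σ'.1)
    (c : ↥(GO Q')) (hc : (c : GL ι F).1 * h.P.map σ'.1 = h.P) :
    MulAut.congr h.isoT (fieldO Q σ) = Phi Q' c * fieldO Q' σ' := by
  have hP1 : h.P.map σ'.1 * h.P'.map σ'.1 = 1 := by
    rw [← map_mul_rect, h.h1]
    ext i k
    rw [Matrix.map_apply, Matrix.one_apply]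
    split_ifs <;> simp
  have hP2 : h.P'.map σ'.1 * h.P.map σ'.1 = 1 := by
    rw [← map_mul_rect, h.h2]
    ext i k
    rw [Matrix.map_apply, Matrix.one_apply]
    split_ifs <;> simp
  -- `σ(P') = P' c`
  have hc' : h.P'.map σ'.1 = h.P' * (c : GL ι F).1 := by
    calc h.P'.map σ'.1 = (h.P' * h.P) * h.P'.map σ'.1 := by rw [h.h2, Matrix.one_mul]
      _ = h.P' * ((c : GL ι F).1 * h.P.map σ'.1) * h.P'.map σ'.1 := by rw [hc]
      _ = h.P' * (c : GL ι F).1 * (h.P.map σ'.1 * h.P'.map σ'.1) := by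
          simp only [Matrix.mul_assoc]
      _ = _ := by rw [hP1, Matrix.mul_one]
  apply MulEquiv.ext
  intro t'
  obtain ⟨t, rfl⟩ := h.isoT.surjective t'
  obtain ⟨s, rfl⟩ := QuotientGroup.mk_surjective t
  show h.isoT (fieldO Q σ (h.isoT.symm (h.isoT (QuotientGroup.mk s)))) = _
  rw [MulEquiv.symm_apply_apply, fieldO_mk, RIsom.isoT_mk, RIsom.isoT_mk, MulAut.mul_apply,
    fieldO_mk, Phi_mk]
  congr 1
  apply Subtype.ext
  apply Subtype.ext
  show h.gl (mapGLi σ.1 ((s : ↥(isometryGroup F Q)) : GL κ F)) =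
    (c : GL ι F) * mapGLi σ'.1 (h.gl ((s : ↥(isometryGroup F Q)) : GL κ F)) * (c : GL ι F)⁻¹
  rw [eq_mul_inv_iff_mul_eq]
  apply Units.ext
  rw [Units.val_mul, Units.val_mul, RIsom.gl_coe, mapGLi_coe, mapGLi_coe, RIsom.gl_coe, hσ,
    map_mul_rect, map_mul_rect, hc']
  calc h.P * ((s : ↥(isometryGroup F Q)) : GL κ F).1.map σ'.1 * h.P' * (c : GL ι F).1
      = h.P * ((s : ↥(isometryGroup F Q)) : GL κ F).1.map σ'.1 * (h.P' * (c : GL ι F).1) := by
        simp only [Matrix.mul_assoc]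
    _ = ((c : GL ι F).1 * h.P.map σ'.1) * ((s : ↥(isometryGroup F Q)) : GL κ F).1.map σ'.1 *
          (h.P' * (c : GL ι F).1) := by rw [hc]
    _ = _ := by simp only [Matrix.mul_assoc]

end field

/-! ### scalars and reflections -/

section qf

variable {Q : QuadraticForm F (κ → F)} {Q' : QuadraticForm F (ι → F)} (h : RIsom (⇑Q) (⇑Q'))

open Cfsg.Agent.Lib.Helper44_OrthCoset in
theorem cgGO_scalarGO (a : Fˣ) : h.cgGO (scalarGO Q a) = scalarGO Q' a := by
  apply Subtype.ext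
  apply Units.ext
  rw [RIsom.cgGO_coe, RIsom.gl_coe, scalarGO_coe, scalarGO_coe,
    Matrix.GeneralLinearGroup.coe_scalar, Matrix.GeneralLinearGroup.coe_scalar,
    Matrix.scalar_apply, Matrix.scalar_apply, ← Matrix.smul_one_eq_diagonal,
    ← Matrix.smul_one_eq_diagonal, Matrix.mul_smul, Matrix.mul_one, Matrix.smul_mul, h.h1]

theorem polar_isom (u w : κ → F) :
    QuadraticMap.polar (⇑Q') (h.P *ᵥ u) (h.P *ᵥ w) = QuadraticMap.polar (⇑Q) u w := by
  simp only [QuadraticMap.polar]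
  rw [← Matrix.mulVec_add, h.isom, h.isom, h.isom]

include h in
/-- nondegeneracy is transported along a rectangular isometry -/
theorem nondegenerate_of_risom (hQ' : (QuadraticMap.polarBilin Q').Nondegenerate) :
    (QuadraticMap.polarBilin Q).Nondegenerate := by
  have key : ∀ u : κ → F, (∀ w, QuadraticMap.polar (⇑Q) u w = 0) → u = 0 := by
    intro u hu
    have h1 : h.P *ᵥ u = 0 := by
      apply hQ'.1
      intro w
      have hw : w = h.P *ᵥ (h.P' *ᵥ w) := by
        rw [Matrix.mulVec_mulVec, h.h1, Matrix.one_mulVec]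
      rw [QuadraticMap.polarBilin_apply_apply, hw, polar_isom]
      exact hu _
    have h2 : u = h.P' *ᵥ (h.P *ᵥ u) := by
      rw [Matrix.mulVec_mulVec, h.h2, Matrix.one_mulVec]
    rw [h2, h1, Matrix.mulVec_zero]
  constructor
  · intro u hu
    exact key u (fun w => by
      have := hu w
      rwa [QuadraticMap.polarBilin_apply_apply] at this)
  · intro u hu
    exact key u (fun w => by
      have := hu w
      rw [QuadraticMap.polarBilin_apply_apply] at this
      rw [QuadraticMap.polar_comm]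
      exact this)

theorem reflectionMatrix_conj (v : κ → F) :
    h.P * Cfsg.reflectionMatrix (⇑Q) v * h.P' = Cfsg.reflectionMatrix (⇑Q') (h.P *ᵥ v) := by
  apply matrix_ext_mulVec
  intro x
  have hx : x = h.P *ᵥ (h.P' *ᵥ x) := by
    rw [Matrix.mulVec_mulVec, h.h1, Matrix.one_mulVec]
  rw [← Matrix.mulVec_mulVec, ← Matrix.mulVec_mulVec, reflectionMatrix_mulVec,
    reflectionMatrix_mulVec]
  conv_rhs => rw [hx, polar_isom, h.isom]
  rw [Matrix.mulVec_sub, Matrix.mulVec_smul]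

theorem cgGO_reflGO (v : κ → F) (hv : Q v ≠ 0) (hv' : Q' (h.P *ᵥ v) ≠ 0) :
    h.cgGO (reflGO Q v hv) = reflGO Q' (h.P *ᵥ v) hv' := by
  apply Subtype.ext
  apply Units.ext
  rw [RIsom.cgGO_coe, RIsom.gl_coe, reflGO_coe, reflGO_coe]
  exact reflectionMatrix_conj h v

end qf

end Cfsg.Agent.Lib.Helper44_RectTransport
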