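import Mathlib
import Cfsg.Agent.Lib.Helper44_RectTransport
import Cfsg.Agent.Lib.Helper44_OrthMinusK

/-!
# An explicit isometry between a split minus-shaped form and the plus form (helper44)

For `ρ, ρ' : F` distinct, the form `Σ xᵢyᵢ + (z₁ + ρ z₂)(z₁ + ρ' z₂)` on `(Fin m ⊕ Fin m) ⊕ Fin 2`
is isometric to the plus form on `Fin (m+1) ⊕ Fin (m+1)`.  When `ρ' = σ ρ` for an involution `σ` of
`F`, the isometry matrix `P` satisfies `r * σ(P) = P`, where `r` is the reflection in the vector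
`e_last - f_last`.
-/

set_option autoImplicit false
set_option linter.unusedSectionVars false
set_option linter.unusedVariables false

namespace Cfsg.Agent.Lib.Helper44_PlusMinusIsom

open Cfsg Matrix Module Cfsg.Agent.Lib.Helper44_StdForms Cfsg.Agent.Lib.Helper44_OrthMinusK
  Cfsg.Agent.Lib.Helper44_RectTransport Cfsg.Agent.Lib.Helper44_Refl

variable {F : Type*} [Field F] (m : ℕ) (ρ ρ' : F)

/-- the underlying function of the isometry -/
def phiFun (w : J m → F) : Fin (m + 1) ⊕ Fin (m + 1) → F :=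
  Sum.elim
    (fun i => Fin.lastCases (w (Sum.inr 0) + ρ * w (Sum.inr 1))
      (fun i' => w (Sum.inl (Sum.inl i'))) i)
    (fun i => Fin.lastCases (w (Sum.inr 0) + ρ' * w (Sum.inr 1))
      (fun i' => w (Sum.inl (Sum.inr i'))) i)

theorem phiFun_inl_last (w : J m → F) :
    phiFun m ρ ρ' w (Sum.inl (Fin.last m)) = w (Sum.inr 0) + ρ * w (Sum.inr 1) := by
  simp [phiFun]

theorem phiFun_inr_last (w : J m → F) :
    phiFun m ρ ρ' w (Sum.inr (Fin.last m)) = w (Sum.inr 0) + ρ' * w (Sum.inr 1) := by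
  simp [phiFun]

theorem phiFun_inl_castSucc (w : J m → F) (i : Fin m) :
    phiFun m ρ ρ' w (Sum.inl i.castSucc) = w (Sum.inl (Sum.inl i)) := by
  simp [phiFun]

theorem phiFun_inr_castSucc (w : J m → F) (i : Fin m) :
    phiFun m ρ ρ' w (Sum.inr i.castSucc) = w (Sum.inl (Sum.inr i)) := by
  simp [phiFun]

/-- the isometry as a linear map -/
def phiLin : (J m → F) →ₗ[F] (Fin (m + 1) ⊕ Fin (m + 1) → F) where
  toFun := phiFun m ρ ρ'
  map_add' w w' := by
    funext i
    rcases i with i | i <;> refine Fin.lastCases ?_ (fun i' => ?_) i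
    · rw [Pi.add_apply, phiFun_inl_last, phiFun_inl_last, phiFun_inl_last, Pi.add_apply,
        Pi.add_apply]
      ring
    · rw [Pi.add_apply, phiFun_inl_castSucc, phiFun_inl_castSucc, phiFun_inl_castSucc,
        Pi.add_apply]
    · rw [Pi.add_apply, phiFun_inr_last, phiFun_inr_last, phiFun_inr_last, Pi.add_apply,
        Pi.add_apply]
      ring
    · rw [Pi.add_apply, phiFun_inr_castSucc, phiFun_inr_castSucc, phiFun_inr_castSucc,
        Pi.add_apply]
  map_smul' c w := by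
    funext i
    rcases i with i | i <;> refine Fin.lastCases ?_ (fun i' => ?_) i
    · rw [Pi.smul_apply, phiFun_inl_last, phiFun_inl_last, Pi.smul_apply, Pi.smul_apply,
        RingHom.id_apply, smul_eq_mul, smul_eq_mul, smul_eq_mul]
      ring
    · rw [Pi.smul_apply, phiFun_inl_castSucc, phiFun_inl_castSucc, Pi.smul_apply]
      rfl
    · rw [Pi.smul_apply, phiFun_inr_last, phiFun_inr_last, Pi.smul_apply, Pi.smul_apply,
        RingHom.id_apply, smul_eq_mul, smul_eq_mul, smul_eq_mul]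
      ring
    · rw [Pi.smul_apply, phiFun_inr_castSucc, phiFun_inr_castSucc, Pi.smul_apply]
      rfl

theorem phiLin_apply (w : J m → F) : phiLin m ρ ρ' w = phiFun m ρ ρ' w := rfl

/-- `phiFun` is an isometry -/
theorem qfPlus_phiFun (w : J m → F) :
    qfPlus (m + 1) F (phiFun m ρ ρ' w) = qfMinus m F (ρ + ρ') (ρ * ρ') w := by
  rw [coe_qfPlus, coe_qfMinus, Cfsg.quadFormPlus, Cfsg.quadFormMinus, Fin.sum_univ_castSucc]
  simp only [phiFun_inl_castSucc, phiFun_inr_castSucc, phiFun_inl_last, phiFun_inr_last]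
  ring

theorem phiFun_injective (hρ : ρ' ≠ ρ) : Function.Injective (phiLin m ρ ρ') := by
  rw [injective_iff_map_eq_zero]
  intro w hw
  rw [phiLin_apply] at hw
  have h1 : w (Sum.inr 0) + ρ * w (Sum.inr 1) = 0 := by
    rw [← phiFun_inl_last m ρ ρ' w, hw]; rfl
  have h2 : w (Sum.inr 0) + ρ' * w (Sum.inr 1) = 0 := by
    rw [← phiFun_inr_last m ρ ρ' w, hw]; rfl
  have h3 : (ρ' - ρ) * w (Sum.inr 1) = 0 := by linear_combination h2 - h1
  have h4 : w (Sum.inr 1) = 0 := by
    rcases mul_eq_zero.mp h3 with h | h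
    · exact absurd (sub_eq_zero.mp h) hρ
    · exact h
  have h5 : w (Sum.inr 0) = 0 := by rw [h4, mul_zero, add_zero] at h1; exact h1
  funext k
  rcases k with (i | i) | t
  · rw [← phiFun_inl_castSucc m ρ ρ' w i, hw]; rfl
  · rw [← phiFun_inr_castSucc m ρ ρ' w i, hw]; rfl
  · fin_cases t
    · exact h5
    · exact h4

theorem finrank_eq : finrank F (J m → F) = finrank F (Fin (m + 1) ⊕ Fin (m + 1) → F) := by
  rw [Module.finrank_fintype_fun_eq_card, Module.finrank_fintype_fun_eq_card, Fintype.card_sum,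
    Fintype.card_sum, Fintype.card_sum, Fintype.card_fin, Fintype.card_fin, Fintype.card_fin]
  omega

/-- the isometry as a linear equivalence -/
noncomputable def phiEquiv (hρ : ρ' ≠ ρ) : (J m → F) ≃ₗ[F] (Fin (m + 1) ⊕ Fin (m + 1) → F) :=
  LinearMap.linearEquivOfInjective (phiLin m ρ ρ') (phiFun_injective m ρ ρ' hρ) (finrank_eq m)

theorem phiEquiv_apply (hρ : ρ' ≠ ρ) (w : J m → F) :
    phiEquiv m ρ ρ' hρ w = phiFun m ρ ρ' w := rfl

/-- the rectangular isometry -/
noncomputable def risom (hρ : ρ' ≠ ρ) (a b : F) (ha : a = ρ + ρ') (hb : b = ρ * ρ') :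
    RIsom (⇑(qfMinus m F a b)) (⇑(qfPlus (m + 1) F)) where
  P := LinearMap.toMatrix' ((phiEquiv m ρ ρ' hρ : (J m → F) ≃ₗ[F] _) : (J m → F) →ₗ[F] _)
  P' := LinearMap.toMatrix' ((phiEquiv m ρ ρ' hρ).symm : _ →ₗ[F] (J m → F))
  h1 := by
    rw [← LinearMap.toMatrix'_comp, LinearEquiv.comp_coe, LinearEquiv.symm_trans_self,
      LinearEquiv.refl_toLinearMap, LinearMap.toMatrix'_id]
  h2 := by
    rw [← LinearMap.toMatrix'_comp, LinearEquiv.comp_coe, LinearEquiv.self_trans_symm,
      LinearEquiv.refl_toLinearMap, LinearMap.toMatrix'_id]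
  isom := by
    intro w
    rw [LinearMap.toMatrix'_mulVec, ha, hb]
    exact qfPlus_phiFun m ρ ρ' w

theorem risom_P_mulVec (hρ : ρ' ≠ ρ) (a b : F) (ha : a = ρ + ρ') (hb : b = ρ * ρ')
    (w : J m → F) : (risom m ρ ρ' hρ a b ha hb).P *ᵥ w = phiFun m ρ ρ' w := by
  show LinearMap.toMatrix' _ *ᵥ w = _
  rw [LinearMap.toMatrix'_mulVec]
  rfl

/-- the vector `e_last - f_last` -/
def vLast : Fin (m + 1) ⊕ Fin (m + 1) → F :=
  Pi.single (Sum.inl (Fin.last m)) 1 - Pi.single (Sum.inr (Fin.last m)) 1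

theorem qfPlus_vLast : qfPlus (m + 1) F (vLast m) = -1 := by
  rw [coe_qfPlus, Cfsg.quadFormPlus, Fin.sum_univ_castSucc]
  simp [vLast]

theorem vLast_fixed (σ : F ≃+* F) (i : Fin (m + 1) ⊕ Fin (m + 1)) :
    σ (vLast (F := F) m i) = vLast m i := by
  unfold vLast
  rw [Pi.sub_apply, map_sub, Cfsg.Agent.Lib.Helper44_OrthPlusMain.ringEquiv_single',
    Cfsg.Agent.Lib.Helper44_OrthPlusMain.ringEquiv_single']

theorem polar_vLast (x : Fin (m + 1) ⊕ Fin (m + 1) → F) :
    QuadraticMap.polar (⇑(qfPlus (m + 1) F)) (vLast m) x =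
      x (Sum.inr (Fin.last m)) - x (Sum.inl (Fin.last m)) := by
  rw [coe_qfPlus, polar_quadFormPlus, Fin.sum_univ_castSucc]
  simp [vLast]
  ring

/-- the reflection in `e_last - f_last` swaps the two last coordinates -/
theorem refl_vLast_mulVec (x : Fin (m + 1) ⊕ Fin (m + 1) → F) :
    Cfsg.reflectionMatrix (⇑(qfPlus (m + 1) F)) (vLast m) *ᵥ x =
      fun i => Sum.elim
        (fun i => Fin.lastCases (x (Sum.inr (Fin.last m))) (fun i' => x (Sum.inl i'.castSucc)) i)
        (fun i => Fin.lastCases (x (Sum.inl (Fin.last m))) (fun i' => x (Sum.inr i'.castSucc)) i)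
        i := by
  rw [reflectionMatrix_mulVec, qfPlus_vLast, polar_vLast]
  funext i
  rcases i with i | i <;> refine Fin.lastCases ?_ (fun i' => ?_) i
  · simp [vLast]
  · simp [vLast]
  · simp [vLast]
  · simp [vLast]

theorem rect_ext {α β : Type*} [Fintype β] [DecidableEq β] {M N : Matrix α β F}
    (h : ∀ w, M *ᵥ w = N *ᵥ w) : M = N := by
  apply Matrix.toLin'.injective
  apply LinearMap.ext
  intro w
  simp only [Matrix.toLin'_apply]
  exact h w

/-- **the cocycle of the isometry is the reflection in `e_last - f_last`** -/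
theorem refl_mul_map_risom (σ : F ≃+* F) (hσ2 : ∀ x, σ (σ x) = x) (ρ : F) (hρ : σ ρ ≠ ρ)
    (a b : F) (ha : a = ρ + σ ρ) (hb : b = ρ * σ ρ) :
    Cfsg.reflectionMatrix (⇑(qfPlus (m + 1) F)) (vLast m) *
        (risom m ρ (σ ρ) hρ a b ha hb).P.map σ =
      (risom m ρ (σ ρ) hρ a b ha hb).P := by
  apply rect_ext
  intro w
  have hw : w = (σ : F → F) ∘ (fun k => σ (w k)) := by
    funext k
    exact (hσ2 (w k)).symm
  have h1 : (risom m ρ (σ ρ) hρ a b ha hb).P.map σ *ᵥ w =
      fun i => σ (((risom m ρ (σ ρ) hρ a b ha hb).P *ᵥ (fun k => σ (w k))) i) := by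
    funext i
    conv_lhs => rw [hw]
    exact (RingHom.map_mulVec (σ : F →+* F) (risom m ρ (σ ρ) hρ a b ha hb).P
      (fun k => σ (w k)) i).symm
  rw [← Matrix.mulVec_mulVec, h1, refl_vLast_mulVec, risom_P_mulVec, risom_P_mulVec]
  funext i
  rcases i with i | i <;> refine Fin.lastCases ?_ (fun i' => ?_) i
  · simp only [Sum.elim_inl, Fin.lastCases_last, phiFun_inr_last, phiFun_inl_last, map_add,
      map_mul, hσ2]
  · simp only [Sum.elim_inl, Fin.lastCases_castSucc, phiFun_inl_castSucc, hσ2]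
  · simp only [Sum.elim_inr, Fin.lastCases_last, phiFun_inr_last, phiFun_inl_last, map_add,
      map_mul, hσ2]
  · simp only [Sum.elim_inr, Fin.lastCases_castSucc, phiFun_inr_castSucc, hσ2]

end Cfsg.Agent.Lib.Helper44_PlusMinusIsom
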