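import Mathlib
import Cfsg.Agent.Lib.Helper44_PlusGFConj
import Cfsg.Agent.Lib.Helper44_PlusMinusIsom
import Cfsg.Agent.Lib.Helper44_CentGen
import Cfsg.Agent.Lib.Helper44_PSLnFieldCent

/-!
# Involutory graph-field automorphisms of `PΩ⁺_{2m}(q)`: the centralizer (helper44)

`C_{Inndiag}(x) ≅ Inndiag(PΩ⁻_{2m}(q₀))`, `q = q₀²`.
-/

set_option autoImplicit false
set_option linter.unusedSectionVars false
set_option linter.unusedVariables false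

namespace Cfsg.Agent.Lib.Helper44_PlusGFCent

open Cfsg Matrix Module Cfsg.Agent.Lib.Helper44_Orth Cfsg.Agent.Lib.Helper14_AutOmega
  Cfsg.Agent.Lib.Helper44_H90i Cfsg.Agent.Lib.Helper44_H90 Cfsg.Agent.Lib.Helper44_OrthField
  Cfsg.Agent.Lib.Helper44_FixField Cfsg.Agent.Lib.Helper44_OrthFaith
  Cfsg.Agent.Lib.Helper14_CentOmega Cfsg.Agent.Lib.Helper44_OrthCoset
  Cfsg.Agent.Lib.Helper44_StdForms Cfsg.Agent.Lib.Helper44_OrthChi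
  Cfsg.Agent.Lib.Helper44_OrthEvenCoset Cfsg.Agent.Lib.Helper44_Refl
  Cfsg.Agent.Lib.Helper44_OrthPlusMain Cfsg.Agent.Lib.Helper44_OrthBalance
  Cfsg.Agent.Lib.Helper44_OrthMinusK Cfsg.Agent.Lib.Helper44_OrthMinusLang
  Cfsg.Agent.Lib.Helper44_OrthMinusCoset Cfsg.Agent.Lib.Helper44_OrthMinusCent
  Cfsg.Agent.Lib.Helper44_OrthBase Cfsg.Agent.Lib.Helper44_RectTransport
  Cfsg.Agent.Lib.Helper44_PlusMinusIsom Cfsg.Agent.Lib.Helper44_PlusGFConj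
  Cfsg.Agent.Lib.Helper44_CentGen Cfsg.Agent.Lib.Helper44_PSLnFieldCent

open Cfsg.Agent.Lib.Helper14_GOChars (mu mu_eq mu_spec)

/-! ### comparison of class characters under base change -/

section chars

universe u u₀

variable {F : Type u} [Field F] [Fintype F] {F₀ : Type u₀} [Field F₀] [Fintype F₀] (j : F₀ →+* F)
  (m : ℕ) (a₀ b₀ : F₀)
  (hab₀ : ∀ z₁ z₂ : F₀, z₁ ^ 2 + a₀ * z₁ * z₂ + b₀ * z₂ ^ 2 = 0 → z₁ = 0 ∧ z₂ = 0)
  {K₀ : Type u₀} [Field K₀] [Algebra F₀ K₀] (hfr₀ : finrank F₀ K₀ = 2) (ρ₀ : K₀)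
  (hρ₀ : ρ₀ ^ 2 + algebraMap F₀ K₀ a₀ * ρ₀ + algebraMap F₀ K₀ b₀ = 0)

include hfr₀ in
/-- a character of `GO` of the base-changed form which is trivial on scalars, nontrivial on
reflections and (in odd characteristic) given by `det = μ ^ (m+1)` restricts to the class character
over the subfield -/
theorem chi_bcM_eq (χ : ↥(GO (⇑(qfMinus m F (j a₀) (j b₀)))) →* Multiplicative (ZMod 2))
    (hχs : ∀ c : Fˣ, χ (scalarGO (qfMinus m F (j a₀) (j b₀)) c) = 1)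
    (hχr : ∀ (v : J m → F) (hv : qfMinus m F (j a₀) (j b₀) v ≠ 0),
      χ (reflGO (qfMinus m F (j a₀) (j b₀)) v hv) ≠ 1)
    (hχdet : (2 : F) ≠ 0 → ∀ g : ↥(GO (⇑(qfMinus m F (j a₀) (j b₀)))), χ g = 1 ↔
      ((g : GL (J m) F) : Matrix (J m) (J m) F).det =
        ((mu (⇑(qfMinus m F (j a₀) (j b₀))) g : Fˣ) : F) ^ (m + 1))
    (hm : 2 ≤ m) (g : ↥(GO (⇑(qfMinus m F₀ a₀ b₀)))) :
    χ (bcM j m a₀ b₀ g) = chiKm m a₀ b₀ hab₀ ρ₀ hρ₀ g := by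
  apply z2_eq_of_iff
  by_cases h2 : (2 : F₀) = 0
  · have hQ₀ := Cfsg.Agent.Lib.Helper14_POmegaSimple.nondegenerate_qfMinus (F := F₀) m a₀ b₀ hab₀
    have hn : 5 ≤ Fintype.card (J m) := by rw [card_J]; omega
    have hv₀ := nonsing_e0 m a₀ b₀
    have key := chi_eq_one_iff_inn (qfMinus m F₀ a₀ b₀) h2 hQ₀ hn hv₀
      (χ.comp (bcM j m a₀ b₀)) ?_ (reflGO (qfMinus m F₀ a₀ b₀) _ hv₀) ?_ g
    · rw [chiKm_iff_inn m a₀ b₀ hab₀ hfr₀ ρ₀ hρ₀ h2 hm g, ← key]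
      rfl
    · intro c
      show χ (bcGO j (compat_qfMinus m a₀ b₀ j) (scalarGO _ c)) = 1
      rw [bcGO_scalarGO]
      exact hχs _
    · show χ (bcGO j (compat_qfMinus m a₀ b₀ j) (reflGO (qfMinus m F₀ a₀ b₀) _ hv₀)) ≠ 1
      have hv' : qfMinus m F (j a₀) (j b₀) (vmap j (Pi.single (Sum.inr 0) 1)) ≠ 0 := by
        rw [compat_qfMinus m a₀ b₀ j]
        exact (map_ne_zero j).mpr hv₀
      rw [bcGO_reflGO j (compat_qfMinus m a₀ b₀ j) _ hv₀ hv']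
      exact hχr _ _
  · have h2F : (2 : F) ≠ 0 := by
      intro h0
      apply h2
      apply j.injective
      rw [map_ofNat, h0, map_zero]
    rw [hχdet h2F, chiKm_iff_det m a₀ b₀ hab₀ hfr₀ ρ₀ hρ₀ h2, det_bcM, mu_bcM]
    show j _ = (j ((mu (⇑(qfMinus m F₀ a₀ b₀)) g : F₀ˣ) : F₀)) ^ (m + 1) ↔ _
    rw [← map_pow]
    exact j.injective.eq_iff

end chars

/-! ### the parameters of the minus-type form over the fixed field -/

section params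

variable {F F₀ : Type*} [Field F] [Field F₀]

theorem sq_of_orderOf_two (σ : F ≃+* F) (hσ : orderOf σ = 2) (t : F) : σ (σ t) = t := by
  have h1 : σ ^ 2 = 1 := by rw [← hσ]; exact pow_orderOf_eq_one σ
  have h2 : (σ ^ 2) t = t := by rw [h1]; rfl
  rwa [pow_two] at h2

theorem exists_params (σ : F ≃+* F) (hσ : orderOf σ = 2) (j : F₀ →+* F)
    (hι : ∀ a : F, σ a = a ↔ a ∈ Set.range j) :
    ∃ (ρ : F) (a₀ b₀ : F₀), σ ρ ≠ ρ ∧ j a₀ = ρ + σ ρ ∧ j b₀ = ρ * σ ρ ∧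
      ∀ z₁ z₂ : F₀, z₁ ^ 2 + a₀ * z₁ * z₂ + b₀ * z₂ ^ 2 = 0 → z₁ = 0 ∧ z₂ = 0 := by
  have hσ2 := sq_of_orderOf_two σ hσ
  have hσ1 : σ ≠ 1 := by
    intro h
    rw [h, orderOf_one] at hσ
    omega
  obtain ⟨ρ, hρ⟩ : ∃ ρ, σ ρ ≠ ρ := by
    by_contra hcon
    push Not at hcon
    apply hσ1
    ext t
    exact hcon t
  obtain ⟨a₀, ha⟩ := (hι (ρ + σ ρ)).mp (by rw [map_add, hσ2, add_comm])
  obtain ⟨b₀, hb⟩ := (hι (ρ * σ ρ)).mp (by rw [map_mul, hσ2, mul_comm])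
  refine ⟨ρ, a₀, b₀, hρ, ha, hb, ?_⟩
  intro z₁ z₂ hz
  have h1 := congrArg j hz
  simp only [map_add, map_mul, map_pow, map_zero, ha, hb] at h1
  have h2 : (j z₁ + ρ * j z₂) * (j z₁ + σ ρ * j z₂) = 0 := by linear_combination h1
  by_cases hz₂ : z₂ = 0
  · subst hz₂
    refine ⟨?_, rfl⟩
    have h3 : z₁ ^ 2 = 0 := by simpa using hz
    exact pow_eq_zero_iff (two_ne_zero) |>.1 h3
  · exfalso
    have hjz : j z₂ ≠ 0 := (map_ne_zero j).mpr hz₂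
    rcases mul_eq_zero.mp h2 with h | h
    · apply hρ
      rw [hι]
      refine ⟨-z₁ / z₂, ?_⟩
      rw [map_div₀, map_neg]
      field_simp
      linear_combination -h
    · apply hρ
      have h3 : σ (σ ρ) = σ ρ := by
        rw [hι]
        refine ⟨-z₁ / z₂, ?_⟩
        rw [map_div₀, map_neg]
        field_simp
        linear_combination -h
      rw [hσ2] at h3
      exact h3.symm

end params

/-! ### the centralizer -/

section main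

universe u u₀

variable {F : Type u} [Field F] [Fintype F] {F₀ : Type u₀} [Field F₀] [Fintype F₀]

/-- the image of `Phi (ker (χ ∘ cg))` under the transport is `Phi (ker χ)` -/
theorem map_congr_ker {κ ι : Type} [Fintype κ] [DecidableEq κ] [Fintype ι] [DecidableEq ι]
    {Q'' : (κ → F) → F} {Q : (ι → F) → F} (h : RIsom Q'' Q)
    (χ : ↥(GO Q) →* Multiplicative (ZMod 2)) :
    (((χ.comp h.cgGO.toMonoidHom).ker).map (Phi Q'')).map (MulAut.congr h.isoT).toMonoidHom =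
      (χ.ker).map (Phi Q) := by
  ext y
  constructor
  · rintro ⟨_, ⟨g, hg, rfl⟩, rfl⟩
    refine ⟨h.cgGO g, hg, ?_⟩
    exact (h.congr_isoT_Phi g).symm
  · rintro ⟨g, hg, rfl⟩
    refine ⟨Phi Q'' (h.cgGO.symm g), ⟨h.cgGO.symm g, ?_, rfl⟩, ?_⟩
    · rw [SetLike.mem_coe, MonoidHom.mem_ker, MonoidHom.comp_apply]
      show χ (h.cgGO (h.cgGO.symm g)) = 1
      rw [MulEquiv.apply_symm_apply]
      exact MonoidHom.mem_ker.mp hg
    · show MulAut.congr h.isoT (Phi Q'' (h.cgGO.symm g)) = Phi Q g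
      rw [h.congr_isoT_Phi, MulEquiv.apply_symm_apply]

set_option maxHeartbeats 1600000 in
/-- **the centralizer of an involutory graph-field automorphism** in the inner-diagonal group is
the inner-diagonal group of the minus-type group over the fixed field -/
theorem gf_cent_aux {m' : ℕ} (hm : 4 ≤ m') (Qf : (Fin (m' + 1) ⊕ Fin (m' + 1) → F) → F)
    (hQf : Qf = ⇑(qfPlus (m' + 1) F)) (hAut : gammaPOmega F Qf = ⊤)
    (x : MulAut (POmega F Qf)) (hx : GFgen Qf x) (hx2 : orderOf x = 2)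
    (σ : F ≃+* F) (hσ : orderOf σ = 2) (j : F₀ →+* F)
    (hι : ∀ a : F, σ a = a ↔ a ∈ Set.range j) :
    ∃ a₀ b₀ : F₀, (∀ z₁ z₂ : F₀, z₁ ^ 2 + a₀ * z₁ * z₂ + b₀ * z₂ ^ 2 = 0 → z₁ = 0 ∧ z₂ = 0) ∧
      ∀ (Qf₀ : (J m' → F₀) → F₀), Qf₀ = ⇑(qfMinus m' F₀ a₀ b₀) →
        Nonempty (↥(Dgen Qf ⊓ Subgroup.centralizer {x}) ≃* ↥(DgenM m' a₀ b₀ Qf₀)) := by
  obtain ⟨ρ, a₀, b₀, hρ, ha, hb, hab₀⟩ := exists_params σ hσ j hι
  refine ⟨a₀, b₀, hab₀, ?_⟩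
  intro Qf₀ hQf₀
  subst hQf₀
  have hc := fun y hy hy2 => gf_conj_aux (by omega : 3 ≤ m' + 1) Qf hQf hAut x y hx hy hx2 hy2
  subst hQf
  have hσ2 := sq_of_orderOf_two σ hσ
  have hσ1 : σ ≠ RingEquiv.refl F := by
    intro h
    have h1 : orderOf σ = 1 := by rw [h]; exact orderOf_one
    omega
  have hQ := Cfsg.Agent.Lib.Helper14_POmegaSimple.nondegenerate_qfPlus (F := F) (m' + 1)
  have hQ₀ := Cfsg.Agent.Lib.Helper14_POmegaSimple.nondegenerate_qfMinus (F := F₀) m' a₀ b₀ hab₀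
  have hn : 5 ≤ Fintype.card (Fin (m' + 1) ⊕ Fin (m' + 1)) := by rw [card_plus]; omega
  have hnJ : 5 ≤ Fintype.card (J m') := by rw [card_J]; omega
  have hall : ∀ τ : F ≃+* F, SigInv (⇑(qfPlus (m' + 1) F)) τ := sigInv_qfPlus (m' + 1)
  have htop := stdAut_eq_top (⇑(qfPlus (m' + 1) F)) hall hAut
  have hχσ : ∀ (τ : ↥(invSub (⇑(qfPlus (m' + 1) F)))) g,
      chiP (F := F) (m' + 1) (mapGO (⇑(qfPlus (m' + 1) F)) τ g) = chiP (F := F) (m' + 1) g :=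
    fun τ g => chiGO_mapGO _ _ _ _ _ (X0_sigma (m' + 1)) τ g
  have hN : (Dgen (⇑(qfPlus (m' + 1) F))).Normal := by
    rw [Dgen_eq]
    exact map_ker_normal (qfPlus (m' + 1) F) htop _ hχσ
  -- the rectangular isometry
  obtain ⟨h, hh⟩ : ∃ h : RIsom (⇑(qfMinus m' F (j a₀) (j b₀))) (⇑(qfPlus (m' + 1) F)),
      h = risom m' ρ (σ ρ) hρ (j a₀) (j b₀) ha hb := ⟨_, rfl⟩
  have hrefl : Cfsg.reflectionMatrix (⇑(qfPlus (m' + 1) F)) (vLast m') * h.P.map σ = h.P := by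
    rw [hh]
    exact refl_mul_map_risom m' σ hσ2 ρ hρ (j a₀) (j b₀) ha hb
  have hQ'' : (QuadraticMap.polarBilin (qfMinus m' F (j a₀) (j b₀))).Nondegenerate :=
    nondegenerate_of_risom h hQ
  have hσa : σ (j a₀) = j a₀ := (hι _).mpr ⟨_, rfl⟩
  have hσb : σ (j b₀) = j b₀ := (hι _).mpr ⟨_, rfl⟩
  obtain ⟨σs, hσs⟩ : ∃ σs : ↥(invSub (⇑(qfPlus (m' + 1) F))), σs.1 = σ := ⟨⟨σ, hall σ⟩, rfl⟩
  obtain ⟨σ'', hσ''⟩ : ∃ σ'' : ↥(invSub (⇑(qfMinus m' F (j a₀) (j b₀)))), σ''.1 = σ :=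
    ⟨⟨σ, sigInv_qfMinus m' (j a₀) (j b₀) σ hσa hσb⟩, rfl⟩
  have hvL : qfPlus (m' + 1) F (vLast m') ≠ 0 := by
    rw [qfPlus_vLast]
    exact neg_ne_zero.mpr one_ne_zero
  obtain ⟨r, hr⟩ : ∃ r, r = reflGO (qfPlus (m' + 1) F) (vLast m') hvL := ⟨_, rfl⟩
  have htr : MulAut.congr h.isoT (fieldO (⇑(qfMinus m' F (j a₀) (j b₀))) σ'') =
      Phi (⇑(qfPlus (m' + 1) F)) r * fieldO (⇑(qfPlus (m' + 1) F)) σs := by
    apply congr_isoT_fieldO h σ'' σs (by rw [hσ'', hσs]) r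
    rw [hr, reflGO_coe, hσs]
    exact hrefl
  -- the standard involutory graph-field automorphism
  obtain ⟨x₂, hx₂⟩ : ∃ x₂, x₂ = Phi (⇑(qfPlus (m' + 1) F)) r *
      fieldO (⇑(qfPlus (m' + 1) F)) σs := ⟨_, rfl⟩
  rw [← hx₂] at htr
  have hx₂GF : GFgen (⇑(qfPlus (m' + 1) F)) x₂ := by
    refine ⟨1, Phi (⇑(qfPlus (m' + 1) F)) r, fieldO (⇑(qfPlus (m' + 1) F)) σs, σ, vLast m', r.1,
      hσ1, hvL, vLast_fixed m' σ, ?_, ?_, ?_, ?_⟩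
    · rw [hr, reflGO_coe]
    · exact (Cfsg.Agent.Lib.Helper14_AutOmega.isInduced_iff (⇑(qfPlus (m' + 1) F)) _ _).mpr rfl
    · rw [← hσs]
      exact (isFieldAut_iff _ σs _).mpr rfl
    · rw [hx₂]; group
  have hx₂2 : orderOf x₂ = 2 := by
    rw [← htr, MulEquiv.orderOf_eq,
      orderOf_fieldO (qfMinus m' F (j a₀) (j b₀)) hQ'' hnJ (faithData_qfMinus _ _ (by omega)) σ'',
      hσ'']
    exact hσ
  obtain ⟨h₀, hh₀, hx₂x⟩ := hc x₂ hx₂GF hx₂2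
  subst hx₂x
  -- the characters
  obtain ⟨K₀, iK₀, iA₀, hfr₀⟩ := exists_quad_ext a₀ b₀ hab₀
  obtain ⟨ρ₀, hρ₀⟩ := exists_root hfr₀ a₀ b₀ hab₀
  obtain ⟨χ'', hχ''⟩ : ∃ χ'' : ↥(GO (⇑(qfMinus m' F (j a₀) (j b₀)))) →* Multiplicative (ZMod 2),
      χ'' = (chiP (F := F) (m' + 1)).comp h.cgGO.toMonoidHom := ⟨_, rfl⟩
  have hχ''app : ∀ g, χ'' g = chiP (F := F) (m' + 1) (h.cgGO g) := by
    intro g; rw [hχ'']; rfl
  have hne' : ∃ v, qfPlus (m' + 1) F v ≠ 0 := ⟨_, hvL⟩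
  have hχs : ∀ c : Fˣ, χ'' (scalarGO (qfMinus m' F (j a₀) (j b₀)) c) = 1 := by
    intro c
    rw [hχ''app, cgGO_scalarGO]
    exact chiGO_scalarGO _ _ _ _ _ c
  have hχr : ∀ (v : J m' → F) (hv : qfMinus m' F (j a₀) (j b₀) v ≠ 0),
      χ'' (reflGO (qfMinus m' F (j a₀) (j b₀)) v hv) ≠ 1 := by
    intro v hv
    have hv' : qfPlus (m' + 1) F (h.P *ᵥ v) ≠ 0 := by rw [h.isom]; exact hv
    rw [hχ''app, cgGO_reflGO h v hv hv', chiGO_reflGO]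
    exact ofAdd_one_ne_one
  have hχdet : (2 : F) ≠ 0 → ∀ g : ↥(GO (⇑(qfMinus m' F (j a₀) (j b₀)))), χ'' g = 1 ↔
      ((g : GL (J m') F) : Matrix (J m') (J m') F).det =
        ((mu (⇑(qfMinus m' F (j a₀) (j b₀))) g : Fˣ) : F) ^ (m' + 1) := by
    intro h2 g
    rw [hχ''app, chiGO_eq_one_iff,
      Cfsg.Agent.Lib.Helper14_InndiagPlus.preserves_plus_iff (m' + 1) h2 (by omega), h.det_cgGO,
      h.mu_cgGO hne']
  have hχbc : ∀ g, χ'' (bcGO j (compat_qfMinus m' a₀ b₀ j) g) =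
      chiKm m' a₀ b₀ hab₀ ρ₀ hρ₀ g :=
    fun g => chi_bcM_eq j m' a₀ b₀ hab₀ hfr₀ ρ₀ hρ₀ χ'' hχs hχr hχdet (by omega) g
  have hι'' : ∀ a : F, σ''.1 a = a ↔ a ∈ Set.range j := by rw [hσ'']; exact hι
  obtain ⟨e3⟩ := nonempty_centEquiv_gen (compat_qfMinus m' a₀ b₀ j) σ'' hι'' χ''
    (chiKm m' a₀ b₀ hab₀ ρ₀ hρ₀) hQ'' hQ₀ hnJ ⟨_, nonsing_e0 m' a₀ b₀⟩ (by norm_num : 0 < 2)
    (by rw [hσ'']; exact hσ) hχs hχbc
  -- assemble
  have e1 := centConjEquiv (Dgen (⇑(qfPlus (m' + 1) F))) h₀ x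
  have e2 := centMapEquiv (MulAut.congr h.isoT) ((χ''.ker).map (Phi (⇑(qfMinus m' F (j a₀) (j b₀)))))
    (fieldO (⇑(qfMinus m' F (j a₀) (j b₀))) σ'')
  have heq : ((χ''.ker).map (Phi (⇑(qfMinus m' F (j a₀) (j b₀))))).map
        (MulAut.congr h.isoT).toMonoidHom ⊓
        Subgroup.centralizer {MulAut.congr h.isoT (fieldO (⇑(qfMinus m' F (j a₀) (j b₀))) σ'')} =
      Dgen (⇑(qfPlus (m' + 1) F)) ⊓ Subgroup.centralizer {h₀ * x * h₀⁻¹} := by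
    rw [htr, Dgen_eq, hχ'', map_congr_ker]
  have hD := DgenM_eq m' a₀ b₀ hab₀ hfr₀ ρ₀ hρ₀ (by omega)
  exact ⟨e1.trans ((MulEquiv.subgroupCongr heq).symm.trans (e2.symm.trans
    (e3.trans (MulEquiv.subgroupCongr hD.symm))))⟩

end main

end Cfsg.Agent.Lib.Helper44_PlusGFCent
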