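import Mathlib
import Cfsg.Agent.Lib.Helper44_PlusGFCent

/-!
# Involutory graph-field automorphisms of `PΩ⁺_{2m}(q)`: assembly (helper44)
-/

set_option autoImplicit false
set_option linter.unusedSectionVars false
set_option linter.unusedVariables false

namespace Cfsg.Agent.Lib.Helper44_PlusGFMain

open Cfsg Matrix Module Cfsg.Agent.Lib.Helper44_Orth Cfsg.Agent.Lib.Helper14_AutOmega
  Cfsg.Agent.Lib.Helper44_OrthField Cfsg.Agent.Lib.Helper44_FixField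
  Cfsg.Agent.Lib.Helper44_StdForms Cfsg.Agent.Lib.Helper44_OrthPlusMain
  Cfsg.Agent.Lib.Helper44_OrthMinusK Cfsg.Agent.Lib.Helper44_OrthMinusCoset
  Cfsg.Agent.Lib.Helper44_PlusGFConj Cfsg.Agent.Lib.Helper44_PlusGFCent

universe u u₀

variable {F : Type u} [Field F] [Fintype F]

/-- the first three parts of S2717, for a function equal to the plus-type standard form -/
theorem gf_parts_aux {p f : ℕ} [Fact p.Prime] (hF : Fintype.card F = p ^ f) {m' : ℕ}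
    (hm : 4 ≤ m') (Qf : (Fin (m' + 1) ⊕ Fin (m' + 1) → F) → F)
    (hQf : Qf = ⇑(qfPlus (m' + 1) F)) (hAut : gammaPOmega F Qf = ⊤)
    (x : MulAut (POmega F Qf)) (hx : GFgen Qf x) (hx2 : orderOf x = 2)
    (F₀ : Type u₀) [Field F₀] [Fintype F₀] (hF₀ : Fintype.card F₀ = p ^ (f / 2)) :
    Even f ∧ (∀ y : MulAut (POmega F Qf), GFgen Qf y → orderOf y = 2 →
      IsConjUnder (Dgen Qf) x y) ∧
    (∃ a₀ b₀ : F₀, (∀ z₁ z₂ : F₀, z₁ ^ 2 + a₀ * z₁ * z₂ + b₀ * z₂ ^ 2 = 0 → z₁ = 0 ∧ z₂ = 0) ∧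
      ∀ (Qf₀ : (J m' → F₀) → F₀), Qf₀ = ⇑(qfMinus m' F₀ a₀ b₀) →
        Nonempty (↥(Dgen Qf ⊓ Subgroup.centralizer {x}) ≃* ↥(DgenM m' a₀ b₀ Qf₀))) := by
  have hσ : ∃ σ : F ≃+* F, orderOf σ = 2 := by
    subst hQf
    obtain ⟨α, σ, v, hv, hσ, -, -⟩ := gf_data (by omega : 3 ≤ m' + 1) x hx hx2
    exact ⟨σ.1, hσ⟩
  obtain ⟨σ, hσ⟩ := hσ
  obtain ⟨hdvd, -⟩ := card_fixField σ hF hσ
  obtain ⟨j, hι⟩ := exists_embedding σ hF hσ F₀ hF₀
  refine ⟨even_iff_two_dvd.mpr hdvd, ?_, ?_⟩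
  · intro y hy hy2
    exact gf_conj_aux (by omega) Qf hQf hAut x y hx hy hx2 hy2
  · exact gf_cent_aux hm Qf hQf hAut x hx hx2 σ hσ j hι

end Cfsg.Agent.Lib.Helper44_PlusGFMain
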