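import Mathlib
import Cfsg.Agent.Lib.Helper44_PlusGFCent

/-!
# Involutory graph-field automorphisms of `PΩ⁺_{2m}(q)`: the subfield structure (helper44)

The data attached to the standard involutory graph-field automorphism
`x₂ = Phi (r_{e-f}) * fieldO σ` of `PΩ⁺_{2(m'+1)}(F)`: the minus-type form `Q₀` over the fixed field
`F₀` of `σ`, the embedding `Theta : GO(Q₀) → GO(Q)`, and the descent of the similarities commuting
with `x₂`.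
-/

set_option autoImplicit false
set_option linter.unusedSectionVars false
set_option linter.unusedVariables false

namespace Cfsg.Agent.Lib.Helper44_PlusGFSetup

open Cfsg Matrix Module Cfsg.Agent.Lib.Helper44_Orth Cfsg.Agent.Lib.Helper14_AutOmega
  Cfsg.Agent.Lib.Helper44_H90i Cfsg.Agent.Lib.Helper44_OrthField
  Cfsg.Agent.Lib.Helper14_CentOmega Cfsg.Agent.Lib.Helper44_OrthCoset
  Cfsg.Agent.Lib.Helper44_StdForms Cfsg.Agent.Lib.Helper44_Refl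
  Cfsg.Agent.Lib.Helper44_OrthPlusMain Cfsg.Agent.Lib.Helper44_OrthMinusK
  Cfsg.Agent.Lib.Helper44_OrthMinusLang Cfsg.Agent.Lib.Helper44_OrthMinusCoset
  Cfsg.Agent.Lib.Helper44_OrthMinusCent Cfsg.Agent.Lib.Helper44_OrthBase
  Cfsg.Agent.Lib.Helper44_RectTransport Cfsg.Agent.Lib.Helper44_PlusMinusIsom
  Cfsg.Agent.Lib.Helper44_PlusGFConj Cfsg.Agent.Lib.Helper44_PlusGFCent
  Cfsg.Agent.Lib.Helper44_OrthSubfield

open Cfsg.Agent.Lib.Helper14_GOChars (mu mu_eq mu_spec)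

universe u u₀

/-- the data of the subfield structure -/
structure GFSetup (F : Type u) [Field F] [Fintype F] (F₀ : Type u₀) [Field F₀] [Fintype F₀]
    (m' : ℕ) where
  σ : F ≃+* F
  hσ : orderOf σ = 2
  j : F₀ →+* F
  hι : ∀ a : F, σ a = a ↔ a ∈ Set.range j
  ρ : F
  hρ : σ ρ ≠ ρ
  a₀ : F₀
  b₀ : F₀
  ha : j a₀ = ρ + σ ρ
  hb : j b₀ = ρ * σ ρ
  hab₀ : ∀ z₁ z₂ : F₀, z₁ ^ 2 + a₀ * z₁ * z₂ + b₀ * z₂ ^ 2 = 0 → z₁ = 0 ∧ z₂ = 0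
  hm : 4 ≤ m'

variable {F : Type u} [Field F] [Fintype F] {F₀ : Type u₀} [Field F₀] [Fintype F₀] {m' : ℕ}

/-- a setup exists for every involution of `F` -/
theorem exists_setup (hm : 4 ≤ m') (σ : F ≃+* F) (hσ : orderOf σ = 2) (j : F₀ →+* F)
    (hι : ∀ a : F, σ a = a ↔ a ∈ Set.range j) :
    ∃ S : GFSetup F F₀ m', S.σ = σ ∧ S.j = j := by
  obtain ⟨ρ, a₀, b₀, hρ, ha, hb, hab₀⟩ := exists_params σ hσ j hι
  exact ⟨⟨σ, hσ, j, hι, ρ, hρ, a₀, b₀, ha, hb, hab₀, hm⟩, rfl, rfl⟩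

namespace GFSetup

variable (S : GFSetup F F₀ m')

theorem hσ2 (t : F) : S.σ (S.σ t) = t := sq_of_orderOf_two S.σ S.hσ t

theorem hσa : S.σ (S.j S.a₀) = S.j S.a₀ := (S.hι _).mpr ⟨_, rfl⟩

theorem hσb : S.σ (S.j S.b₀) = S.j S.b₀ := (S.hι _).mpr ⟨_, rfl⟩

/-- the rectangular isometry from the split minus-shaped form to the plus form -/
noncomputable def hR :
    RIsom (⇑(qfMinus m' F (S.j S.a₀) (S.j S.b₀))) (⇑(qfPlus (m' + 1) F)) :=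
  risom m' S.ρ (S.σ S.ρ) S.hρ (S.j S.a₀) (S.j S.b₀) S.ha S.hb

theorem hrefl : Cfsg.reflectionMatrix (⇑(qfPlus (m' + 1) F)) (vLast m') * S.hR.P.map S.σ =
    S.hR.P :=
  refl_mul_map_risom m' S.σ S.hσ2 S.ρ S.hρ (S.j S.a₀) (S.j S.b₀) S.ha S.hb

/-- `σ` as an automorphism commuting with the plus form -/
def σs : ↥(invSub (⇑(qfPlus (m' + 1) F))) := ⟨S.σ, sigInv_qfPlus (m' + 1) S.σ⟩

/-- `σ` as an automorphism commuting with the split minus-shaped form -/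
def σm : ↥(invSub (⇑(qfMinus m' F (S.j S.a₀) (S.j S.b₀)))) :=
  ⟨S.σ, sigInv_qfMinus m' (S.j S.a₀) (S.j S.b₀) S.σ S.hσa S.hσb⟩

theorem hvL : qfPlus (m' + 1) F (vLast m') ≠ 0 := by
  rw [qfPlus_vLast]
  exact neg_ne_zero.mpr one_ne_zero

/-- the reflection in `e_last - f_last` -/
noncomputable def r : ↥(GO (⇑(qfPlus (m' + 1) F))) :=
  reflGO (qfPlus (m' + 1) F) (vLast m') (hvL (F := F))

/-- the standard involutory graph-field automorphism -/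
noncomputable def x₂ : MulAut (POmega F (⇑(qfPlus (m' + 1) F))) :=
  Phi (⇑(qfPlus (m' + 1) F)) (r (F := F) (m' := m')) * fieldO (⇑(qfPlus (m' + 1) F)) S.σs

theorem congr_fieldO :
    MulAut.congr S.hR.isoT (fieldO (⇑(qfMinus m' F (S.j S.a₀) (S.j S.b₀))) S.σm) = S.x₂ := by
  apply congr_isoT_fieldO S.hR S.σm S.σs rfl (r (F := F) (m' := m'))
  exact S.hrefl

theorem hQ'' : (QuadraticMap.polarBilin (qfMinus m' F (S.j S.a₀) (S.j S.b₀))).Nondegenerate :=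
  nondegenerate_of_risom S.hR
    (Cfsg.Agent.Lib.Helper14_POmegaSimple.nondegenerate_qfPlus (F := F) (m' + 1))

theorem hQ₀ : (QuadraticMap.polarBilin (qfMinus m' F₀ S.a₀ S.b₀)).Nondegenerate :=
  Cfsg.Agent.Lib.Helper14_POmegaSimple.nondegenerate_qfMinus (F := F₀) m' S.a₀ S.b₀ S.hab₀

include S in
theorem hnJ : 5 ≤ Fintype.card (J m') := by
  have := S.hm
  rw [card_J]; omega

include S in
theorem hn : 5 ≤ Fintype.card (Fin (m' + 1) ⊕ Fin (m' + 1)) := by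
  have := S.hm
  rw [card_plus]; omega

theorem x₂_GF : GFgen (⇑(qfPlus (m' + 1) F)) S.x₂ := by
  have hσ1 : S.σ ≠ RingEquiv.refl F := by
    intro h
    have h1 : orderOf S.σ = 1 := by rw [h]; exact orderOf_one
    have := S.hσ
    omega
  refine ⟨1, Phi (⇑(qfPlus (m' + 1) F)) (r (F := F) (m' := m')),
    fieldO (⇑(qfPlus (m' + 1) F)) S.σs, S.σ, vLast m', (r (F := F) (m' := m')).1,
    hσ1, hvL, vLast_fixed m' S.σ, ?_, ?_, ?_, ?_⟩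
  · rw [r, reflGO_coe]
  · exact (Cfsg.Agent.Lib.Helper14_AutOmega.isInduced_iff (⇑(qfPlus (m' + 1) F)) _ _).mpr rfl
  · exact (isFieldAut_iff _ S.σs _).mpr rfl
  · rw [x₂]; group

theorem orderOf_x₂ : orderOf S.x₂ = 2 := by
  rw [← S.congr_fieldO, MulEquiv.orderOf_eq,
    orderOf_fieldO (qfMinus m' F (S.j S.a₀) (S.j S.b₀)) S.hQ'' S.hnJ
      (faithData_qfMinus _ _ (by have := S.hm; omega)) S.σm]
  exact S.hσ

/-- the embedding of the similarity group over the fixed field -/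
noncomputable def Theta : ↥(GO (⇑(qfMinus m' F₀ S.a₀ S.b₀))) →* ↥(GO (⇑(qfPlus (m' + 1) F))) :=
  S.hR.cgGO.toMonoidHom.comp (bcM S.j m' S.a₀ S.b₀)

theorem Theta_apply (k : ↥(GO (⇑(qfMinus m' F₀ S.a₀ S.b₀)))) :
    S.Theta k = S.hR.cgGO (bcM S.j m' S.a₀ S.b₀ k) := rfl

theorem mu_Theta (k : ↥(GO (⇑(qfMinus m' F₀ S.a₀ S.b₀)))) :
    mu (⇑(qfPlus (m' + 1) F)) (S.Theta k) =
      Units.map (S.j : F₀ →* F) (mu (⇑(qfMinus m' F₀ S.a₀ S.b₀)) k) := by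
  rw [Theta_apply, S.hR.mu_cgGO ⟨_, hvL⟩, mu_bcM]

theorem det_Theta (k : ↥(GO (⇑(qfMinus m' F₀ S.a₀ S.b₀)))) :
    ((S.Theta k : ↥(GO (⇑(qfPlus (m' + 1) F)))) : GL (Fin (m' + 1) ⊕ Fin (m' + 1)) F).1.det =
      S.j ((k : GL (J m') F₀).1.det) := by
  rw [Theta_apply, S.hR.det_cgGO, det_bcM]

theorem Theta_scalarGO (c : F₀ˣ) :
    S.Theta (scalarGO (qfMinus m' F₀ S.a₀ S.b₀) c) =
      scalarGO (qfPlus (m' + 1) F) (Units.map (S.j : F₀ →* F) c) := by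
  rw [Theta_apply]
  show S.hR.cgGO (bcGO S.j (compat_qfMinus m' S.a₀ S.b₀ S.j) (scalarGO _ c)) = _
  rw [bcGO_scalarGO, cgGO_scalarGO]

theorem Theta_reflGO (v : J m' → F₀) (hv : qfMinus m' F₀ S.a₀ S.b₀ v ≠ 0)
    (hv' : qfPlus (m' + 1) F (S.hR.P *ᵥ vmap S.j v) ≠ 0) :
    S.Theta (reflGO (qfMinus m' F₀ S.a₀ S.b₀) v hv) =
      reflGO (qfPlus (m' + 1) F) (S.hR.P *ᵥ vmap S.j v) hv' := by
  have hv'' : qfMinus m' F (S.j S.a₀) (S.j S.b₀) (vmap S.j v) ≠ 0 := by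
    rw [compat_qfMinus m' S.a₀ S.b₀ S.j]
    exact (map_ne_zero S.j).mpr hv
  rw [Theta_apply]
  show S.hR.cgGO (bcGO S.j (compat_qfMinus m' S.a₀ S.b₀ S.j) (reflGO _ v hv)) = _
  rw [bcGO_reflGO S.j (compat_qfMinus m' S.a₀ S.b₀ S.j) v hv hv'', cgGO_reflGO S.hR _ hv'' hv']

theorem norm_P_vmap (v : J m' → F₀) :
    qfPlus (m' + 1) F (S.hR.P *ᵥ vmap S.j v) = S.j (qfMinus m' F₀ S.a₀ S.b₀ v) := by
  rw [S.hR.isom, compat_qfMinus m' S.a₀ S.b₀ S.j]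

set_option maxHeartbeats 1600000 in
/-- **descent**: a similarity-induced automorphism commuting with `x₂` comes from the fixed field -/
theorem exists_Theta_of_comm (g : ↥(GO (⇑(qfPlus (m' + 1) F))))
    (hcomm : S.x₂ * Phi (⇑(qfPlus (m' + 1) F)) g = Phi (⇑(qfPlus (m' + 1) F)) g * S.x₂) :
    ∃ k : ↥(GO (⇑(qfMinus m' F₀ S.a₀ S.b₀))),
      Phi (⇑(qfPlus (m' + 1) F)) (S.Theta k) = Phi (⇑(qfPlus (m' + 1) F)) g := by
  obtain ⟨g'', hg''⟩ : ∃ g'', S.hR.cgGO g'' = g := S.hR.cgGO.surjective g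
  have h1 : MulAut.congr S.hR.isoT (Phi (⇑(qfMinus m' F (S.j S.a₀) (S.j S.b₀))) g'') =
      Phi (⇑(qfPlus (m' + 1) F)) g := by rw [S.hR.congr_isoT_Phi, hg'']
  have h2 := S.congr_fieldO
  have h3 : ∀ k, MulAut.congr S.hR.isoT (Phi (⇑(qfMinus m' F (S.j S.a₀) (S.j S.b₀)))
      (bcM S.j m' S.a₀ S.b₀ k)) = Phi (⇑(qfPlus (m' + 1) F)) (S.Theta k) := by
    intro k
    rw [S.hR.congr_isoT_Phi]
    rfl
  obtain ⟨Ψ, hΨ⟩ : ∃ Ψ, Ψ = MulAut.congr S.hR.isoT := ⟨_, rfl⟩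
  obtain ⟨a, ha⟩ : ∃ a, a = Phi (⇑(qfMinus m' F (S.j S.a₀) (S.j S.b₀))) g'' := ⟨_, rfl⟩
  obtain ⟨b, hb⟩ : ∃ b, b = fieldO (⇑(qfMinus m' F (S.j S.a₀) (S.j S.b₀))) S.σm := ⟨_, rfl⟩
  obtain ⟨y, hy⟩ : ∃ y, y = Phi (⇑(qfPlus (m' + 1) F)) g := ⟨_, rfl⟩
  obtain ⟨x, hx⟩ : ∃ x, x = S.x₂ := ⟨_, rfl⟩
  rw [← hΨ, ← ha, ← hy] at h1
  rw [← hΨ, ← hb, ← hx] at h2
  rw [← hy, ← hx] at hcomm
  have hcomm'' : b * a = a * b := by
    apply Ψ.injective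
    rw [map_mul, map_mul, h1, h2]
    exact hcomm
  rw [hb, ha] at hcomm''
  obtain ⟨k, hk⟩ := exists_bcGO_of_comm (compat_qfMinus m' S.a₀ S.b₀ S.j) S.σm S.hι S.hQ'' S.hnJ
    ⟨_, nonsing_e0 m' S.a₀ S.b₀⟩ (by norm_num : 0 < 2) S.hσ g'' hcomm''
  refine ⟨k, ?_⟩
  have h4 := h3 k
  rw [← hΨ] at h4
  rw [← hy, ← h1, ← h4, ha]
  congr 1

end GFSetup

end Cfsg.Agent.Lib.Helper44_PlusGFSetup
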