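import Mathlib
import Cfsg.Agent.Lib.Helper14_InndiagQuot
import Cfsg.Agent.Lib.Helper44_OrthOddCent

/-!
# Generic facts on `PΩ ≤ PSO ≤ PGO°` in odd characteristic (helper44)

Complements to helper14's `Helper14_InndiagQuot`: membership in `G°` from the induced
automorphism, the index of `PSO` in the image of `G°`, and membership in `Ω`.
-/

set_option autoImplicit false
set_option linter.unusedSectionVars false
set_option linter.unusedVariables false

namespace Cfsg.Agent.Lib.Helper44_SplitGen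

open Cfsg Matrix Cfsg.Agent.Lib.Helper44_Orth Cfsg.Agent.Lib.Helper14_AutOmega
  Cfsg.Agent.Lib.Helper14_CentOmega Cfsg.Agent.Lib.Helper14_OmegaIndex
  Cfsg.Agent.Lib.Helper14_GOChars Cfsg.Agent.Lib.Helper14_InndiagQuot
  Cfsg.Agent.Lib.Helper44_Spinor Cfsg.Agent.Lib.Helper44_Refl Cfsg.Agent.Lib.Helper44_OrthOddCent

variable {ι : Type} [Fintype ι] [DecidableEq ι] {F : Type*} [Field F] [Fintype F]
  (h2 : (2 : F) ≠ 0) (Q : QuadraticForm F (ι → F))
  (hQ : (QuadraticMap.polarBilin Q).Nondegenerate) (hn : 5 ≤ Fintype.card ι)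
  (hne : ∃ v, Q v ≠ 0) {M : ℕ} (hcard : Fintype.card ι = 2 * M)

include hn in
/-- a similarity inducing an automorphism in the image of `G°` lies in `G°` -/
theorem mem_Gz_of_Phi_mem {g : ↥(GO (⇑Q))}
    (h : Phi (⇑Q) g ∈ (Gz h2 Q hQ hne hcard).map (Phi (⇑Q))) : g ∈ Gz h2 Q hQ hne hcard := by
  obtain ⟨g', hg', hgg'⟩ := h
  have hker : g'⁻¹ * g ∈ (Phi (⇑Q)).ker := by
    rw [MonoidHom.mem_ker, map_mul, map_inv, hgg', inv_mul_cancel]
  rw [ker_Phi Q hQ hn] at hker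
  have h1 : g'⁻¹ * g ∈ Gz h2 Q hQ hne hcard :=
    SO'_le_Gz h2 Q hQ hne hcard (Subgroup.mem_sup_right hker)
  have h3 : g = g' * (g'⁻¹ * g) := by group
  rw [h3]
  exact Subgroup.mul_mem _ hg' h1

include hn hQ in
/-- elements of `SO · Z` induce automorphisms in `PSO` -/
theorem Phi_mem_pso_of_mem_sup {g : ↥(GO (⇑Q))} (h : g ∈ SO' Q ⊔ Z' Q) :
    Phi (⇑Q) g ∈ psoAut F (⇑Q) := by
  have hZ : Z' Q = (Phi (⇑Q)).ker := (ker_Phi Q hQ hn).symm
  rw [hZ] at h
  obtain ⟨s, hs, z, hz, hg⟩ := Subgroup.mem_sup_of_normal_right.mp h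
  have hz1 : Phi (⇑Q) z = 1 := MonoidHom.mem_ker.mp hz
  have h3 : Phi (⇑Q) g = Phi (⇑Q) s := by
    rw [← hg, map_mul, hz1, mul_one]
  rw [h3, psoAut_eq]
  exact ⟨s, hs, rfl⟩

include h2 hQ in
theorem inn_le_pso : Inn (POmega F (⇑Q)) ≤ psoAut F (⇑Q) := by
  rw [psoAut_eq_map, inn_eq_map]
  apply Subgroup.map_mono
  rw [omega_eq_inf h2 Q hQ]
  exact inf_le_left

theorem pso_le_Gz : psoAut F (⇑Q) ≤ (Gz h2 Q hQ hne hcard).map (Phi (⇑Q)) := by
  rw [psoAut_eq]
  exact Subgroup.map_mono (le_sup_left.trans (SO'_le_Gz h2 Q hQ hne hcard))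

include hn in
/-- `PSO` has index two in the image of `G°` -/
theorem relIndex_pso_Gz (δ : ↥(GO (⇑Q))) (hδ : chiHom Q hne δ = -1) :
    (psoAut F (⇑Q)).relIndex ((Gz h2 Q hQ hne hcard).map (Phi (⇑Q))) = 2 := by
  obtain ⟨g₀, hg₀, hchi⟩ := exists_g0 h2 Q hQ hne hcard δ hδ
  obtain ⟨φ, hsurj, hker⟩ := exists_hom_Iz h2 Q hQ hn hne hcard g₀ hg₀ hchi
  rw [Subgroup.relIndex, ← hker, Subgroup.index_ker, MonoidHom.range_eq_top.mpr hsurj,
    Subgroup.card_top, Nat.card_eq_fintype_card, Fintype.card_units_int]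

include hn in
include h2 hQ in
/-- an isometry inducing an inner automorphism lies in `Ω` when `-1 ∈ Ω` -/
theorem mem_omega_of_PhiO_mem_inn (hneg : negOne Q ∈ Omega F (⇑Q))
    (s : ↥(isometryGroup F (⇑Q))) (h : PhiO (⇑Q) s ∈ Inn (POmega F (⇑Q))) :
    s ∈ Omega F (⇑Q) := by
  rw [inn_eq_map] at h
  obtain ⟨ω, hω, hωs⟩ := h
  have hker : ω⁻¹ * s ∈ (PhiO (⇑Q)).ker := by
    rw [MonoidHom.mem_ker, map_mul, map_inv, hωs, inv_mul_cancel]
  rcases (mem_ker_PhiO h2 Q hQ hn _).mp hker with h | h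
  · have : s = ω := by rw [← mul_one ω, ← h]; group
    rw [this]; exact hω
  · have : s = ω * negOne Q := by rw [← h]; group
    rw [this]; exact Subgroup.mul_mem _ hω hneg

include h2 hQ in
/-- the product of two reflections in vectors of square norm lies in `Ω` -/
theorem refl_mul_refl_mem_omega {a b : ι → F} (ha : Q a ≠ 0) (hb : Q b ≠ 0)
    (hsa : IsSquare (Q a)) (hsb : IsSquare (Q b)) :
    refl Q a ha * refl Q b hb ∈ Omega F (⇑Q) := by
  rw [omega_eq_inf h2 Q hQ, Subgroup.mem_inf, MonoidHom.mem_ker]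
  constructor
  · rw [specialIsometryGroup, MonoidHom.mem_ker]
    apply Units.ext
    rw [MonoidHom.comp_apply, Matrix.GeneralLinearGroup.val_det_apply, Units.val_one]
    show ((refl Q a ha : GL ι F).1 * (refl Q b hb : GL ι F).1).det = 1
    rw [Matrix.det_mul, refl_coe, refl_coe, det_reflectionMatrix Q ha, det_reflectionMatrix Q hb]
    norm_num
  · rw [map_mul, (theta_refl Q h2 a ha).1 hsa, (theta_refl Q h2 b hb).1 hsb]
    decide

end Cfsg.Agent.Lib.Helper44_SplitGen
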