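import Mathlib
import Cfsg.Agent.Lib.Helper44_FixField

set_option autoImplicit false
set_option linter.unusedSectionVars false
set_option linter.style.haveILetI false

/-!
Squares in a finite field with an automorphism of order two: the automorphism is the power map for the order of
its fixed field; the elements of the fixed field are squares; an element is a square exactly when its norm is a
square of the fixed field; the elements inverted in sign by the automorphism and the elements of norm minus one,
and when they are squares.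
-/

namespace Cfsg.Agent.Lib.Helper88_S2717_D1

open Cfsg.Agent.Lib.Helper44_FixField

variable {F : Type*} [Field F] [Fintype F] (σ : F ≃+* F) (hσ : orderOf σ = 2)

include hσ

theorem sigma_sigma (x : F) : σ (σ x) = x := by
  have h1 : σ ^ 2 = 1 := by
    rw [← hσ]
    exact pow_orderOf_eq_one σ
  have h2 : (σ ^ 2) x = x := by rw [h1]; rfl
  rwa [pow_two] at h2

theorem sigma_ne_one : σ ≠ 1 := by
  intro h
  rw [h, orderOf_one] at hσ
  omega

theorem finrank_fixField : Module.finrank (fixField σ) F = 2 := by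
  classical
  have : Finite (F ≃+* F) :=
    Finite.of_injective (fun τ : F ≃+* F => (τ : F → F)) DFunLike.coe_injective
  haveI : Fintype (Subgroup.zpowers σ) := Fintype.ofFinite _
  unfold fixField
  rw [FixedPoints.finrank_eq_card, ← Nat.card_eq_fintype_card, Nat.card_zpowers, hσ]

theorem card_eq_sq : Fintype.card F = Nat.card (fixField σ) ^ 2 := by
  classical
  haveI : Fintype (fixField σ) := Fintype.ofFinite _
  have h2 : Fintype.card F = Fintype.card (fixField σ) ^ Module.finrank (fixField σ) F :=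
    Module.card_eq_pow_finrank (K := fixField σ) (V := F)
  rw [finrank_fixField σ hσ] at h2
  rw [Nat.card_eq_fintype_card]
  exact h2

/-- the automorphism of order two is the power map for the order of its fixed field -/
theorem apply_eq_pow (x : F) : σ x = x ^ Nat.card (fixField σ) := by
  classical
  haveI : Fintype (fixField σ) := Fintype.ofFinite _
  have hfr := finrank_fixField σ hσ
  let σa : F →ₐ[fixField σ] F :=
    { (σ : F →+* F) with commutes' := fun r => (mem_fixField σ r.1).mp r.2 }
  have hσa : ∀ y, σa y = σ y := fun y => rfl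
  obtain ⟨n, hn⟩ := (FiniteField.bijective_frobeniusAlgHom_pow (fixField σ) F).2 σa
  have hn2 : n.1 < 2 := by
    have := n.2
    omega
  have hn' : ∀ y : F, y ^ (Fintype.card (fixField σ) ^ n.1) = σ y := by
    intro y
    have h1 := DFunLike.congr_fun hn y
    simp only at h1
    rw [AlgHom.coe_pow, FiniteField.coe_frobeniusAlgHom, pow_iterate, hσa] at h1
    exact h1
  rw [Nat.card_eq_fintype_card]
  rcases Nat.lt_succ_iff_lt_or_eq.mp hn2 with h0 | h1
  · have h0' : n.1 = 0 := by omega
    exfalso
    apply sigma_ne_one σ hσ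
    ext y
    have := hn' y
    rw [h0', pow_zero, pow_one] at this
    rw [← this]
    rfl
  · have := hn' x
    rw [h1, pow_one] at this
    exact this.symm

theorem one_lt_card_fixField : 1 < Nat.card (fixField σ) := by
  classical
  haveI : Fintype (fixField σ) := Fintype.ofFinite _
  rw [Nat.card_eq_fintype_card]
  exact Fintype.one_lt_card

theorem pow_card_sub_one_of_fixed (a : F) (ha0 : a ≠ 0) (ha : σ a = a) :
    a ^ (Nat.card (fixField σ) - 1) = 1 := by
  have h1 := apply_eq_pow σ hσ a
  rw [ha] at h1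
  have h2 : a ^ (Nat.card (fixField σ) - 1) * a = 1 * a := by
    rw [← pow_succ, Nat.sub_add_cancel (one_lt_card_fixField σ hσ).le, one_mul]
    exact h1.symm
  exact mul_right_cancel₀ ha0 h2

omit hσ in
theorem ringChar_ne_two (h2 : (2 : F) ≠ 0) : ringChar F ≠ 2 := by
  intro h
  apply h2
  have h3 : ((2 : ℕ) : F) = 0 := by
    rw [← h]
    exact ringChar.Nat.cast_ringChar
  exact_mod_cast h3

/-- in odd characteristic the order of the fixed field is odd -/
theorem exists_card_fixField (h2 : (2 : F) ≠ 0) : ∃ k, Nat.card (fixField σ) = 2 * k + 1 := by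
  have h1 : Fintype.card F % 2 = 1 := FiniteField.odd_card_of_char_ne_two (ringChar_ne_two h2)
  rw [card_eq_sq σ hσ] at h1
  rcases Nat.even_or_odd' (Nat.card (fixField σ)) with ⟨k, hk | hk⟩
  · exfalso
    rw [hk] at h1
    have : (2 * k) ^ 2 % 2 = 0 := by
      rw [pow_two, Nat.mul_assoc]
      exact Nat.mul_mod_right _ _
    omega
  · exact ⟨k, hk⟩

omit hσ in
theorem euler (h2 : (2 : F) ≠ 0) (a : F) (ha : a ≠ 0) :
    IsSquare a ↔ a ^ (Fintype.card F / 2) = 1 :=
  FiniteField.isSquare_iff (ringChar_ne_two h2) ha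

theorem card_div_two (k : ℕ) (hk : Nat.card (fixField σ) = 2 * k + 1) :
    Fintype.card F / 2 = 2 * k * (k + 1) := by
  rw [card_eq_sq σ hσ, hk]
  have : (2 * k + 1) ^ 2 = 2 * (2 * k * (k + 1)) + 1 := by ring
  rw [this]
  omega

/-- (a) every element of the fixed field is a square -/
theorem isSquare_of_fixed (a : F) (ha : σ a = a) : IsSquare a := by
  by_cases hchar : ringChar F = 2
  · exact FiniteField.isSquare_of_char_two hchar a
  by_cases ha0 : a = 0
  · rw [ha0]
    exact ⟨0, by rw [mul_zero]⟩
  have h2 : (2 : F) ≠ 0 := by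
    intro h
    exact hchar (by
      have h3 : ((2 : ℕ) : F) = 0 := by exact_mod_cast h
      have h4 := (ringChar.spec F 2).mp h3
      have h5 : ringChar F = 1 ∨ ringChar F = 2 := (Nat.dvd_prime Nat.prime_two).mp h4
      rcases h5 with h5 | h5
      · exfalso
        have := CharP.ringChar_ne_one (R := F)
        exact this h5
      · exact h5)
  obtain ⟨k, hk⟩ := exists_card_fixField σ hσ h2
  rw [euler h2 a ha0, card_div_two σ hσ k hk]
  have h1 := pow_card_sub_one_of_fixed σ hσ a ha0 ha
  rw [hk, Nat.add_sub_cancel] at h1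
  rw [pow_mul, h1, one_pow]

/-- (b) an element is a square exactly when its norm is a square of the fixed field -/
theorem isSquare_iff_norm (h2 : (2 : F) ≠ 0) (w : F) (hw : w ≠ 0) :
    IsSquare w ↔ ∃ c : F, σ c = c ∧ c * c = w * σ w := by
  constructor
  · rintro ⟨y, rfl⟩
    refine ⟨y * σ y, ?_, ?_⟩
    · rw [map_mul, sigma_sigma σ hσ, mul_comm]
    · rw [map_mul]
      ring
  · rintro ⟨c, hc, hcw⟩
    have hσw : σ w ≠ 0 := by
      intro h
      apply hw
      have := sigma_sigma σ hσ w
      rw [h, map_zero] at this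
      exact this.symm
    have hc0 : c ≠ 0 := by
      intro h
      rw [h, mul_zero] at hcw
      exact mul_ne_zero hw hσw hcw.symm
    obtain ⟨k, hk⟩ := exists_card_fixField σ hσ h2
    rw [euler h2 w hw, card_div_two σ hσ k hk]
    have h1 := pow_card_sub_one_of_fixed σ hσ c hc0 hc
    rw [hk, Nat.add_sub_cancel] at h1
    have h3 : w ^ (2 * k + 2) = c * c := by
      rw [hcw, apply_eq_pow σ hσ w, hk]
      ring
    have h4 : 2 * k * (k + 1) = (2 * k + 2) * k := by ring
    rw [h4, pow_mul, h3, ← pow_two, ← pow_mul, h1]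

/-- (c) an element sent to its negative -/
theorem exists_anti (h2 : (2 : F) ≠ 0) : ∃ z : F, z ≠ 0 ∧ σ z = -z := by
  have _ := h2
  have h1 : ∃ x : F, σ x ≠ x := by
    by_contra hcon
    push Not at hcon
    apply sigma_ne_one σ hσ
    ext y
    exact hcon y
  obtain ⟨x, hx⟩ := h1
  refine ⟨x - σ x, ?_, ?_⟩
  · intro h
    exact hx (sub_eq_zero.mp h).symm
  · rw [map_sub, sigma_sigma σ hσ]
    ring

omit hσ in
theorem neg_one_pow_eq_one_iff (h2 : (2 : F) ≠ 0) (n : ℕ) : (-1 : F) ^ n = 1 ↔ Even n := by
  constructor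
  · intro h
    by_contra hn
    rw [Nat.not_even_iff_odd] at hn
    rw [hn.neg_one_pow] at h
    apply h2
    have : (2 : F) = 1 - (-1) := by ring
    rw [this, h, sub_self]
  · intro h
    exact h.neg_one_pow

theorem isSquare_anti_iff (h2 : (2 : F) ≠ 0) (z : F) (hz : z ≠ 0) (hσz : σ z = -z) :
    IsSquare z ↔ Nat.card ↥(fixField σ) % 4 = 3 := by
  obtain ⟨k, hk⟩ := exists_card_fixField σ hσ h2
  rw [euler h2 z hz, card_div_two σ hσ k hk]
  have h1 : z ^ (2 * k) = -1 := by
    have h3 := apply_eq_pow σ hσ z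
    rw [hσz, hk, pow_succ] at h3
    have h4 : z ^ (2 * k) * z = (-1) * z := by
      rw [← h3]
      ring
    exact mul_right_cancel₀ hz h4
  rw [pow_mul, h1, neg_one_pow_eq_one_iff h2, hk, Nat.even_iff]
  omega

/-- (d) an element of norm minus one -/
theorem exists_norm_neg_one : ∃ t : F, t * σ t = -1 := by
  classical
  by_cases h2 : (2 : F) = 0
  · refine ⟨1, ?_⟩
    rw [map_one, mul_one]
    have : (1 : F) + 1 = 0 := by rw [one_add_one_eq_two]; exact h2
    exact eq_neg_of_add_eq_zero_left this
  obtain ⟨k, hk⟩ := exists_card_fixField σ hσ h2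
  obtain ⟨g, hg⟩ := IsCyclic.exists_generator (α := Fˣ)
  have hord : orderOf g = 2 * (k * (2 * k + 2)) := by
    rw [orderOf_eq_card_of_forall_mem_zpowers hg, Nat.card_eq_fintype_card, Fintype.card_units,
      card_eq_sq σ hσ, hk]
    have : (2 * k + 1) ^ 2 = 2 * (k * (2 * k + 2)) + 1 := by ring
    rw [this, Nat.add_sub_cancel]
  have hk1 : 1 ≤ k := by
    have := one_lt_card_fixField σ hσ
    omega
  have hu2 : (g ^ (k * (2 * k + 2))) ^ 2 = 1 := by
    rw [← pow_mul, mul_comm, ← hord]
    exact pow_orderOf_eq_one g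
  have hu1 : g ^ (k * (2 * k + 2)) ≠ 1 := by
    apply pow_ne_one_of_lt_orderOf
    · have : 0 < k * (2 * k + 2) := Nat.mul_pos hk1 (by omega)
      omega
    · rw [hord]
      have : 0 < k * (2 * k + 2) := Nat.mul_pos hk1 (by omega)
      omega
  have hu : ((g ^ (k * (2 * k + 2)) : Fˣ) : F) = -1 := by
    have h3 : ((g ^ (k * (2 * k + 2)) : Fˣ) : F) ^ 2 = 1 := by
      rw [← Units.val_pow_eq_pow_val, hu2, Units.val_one]
    rw [pow_two] at h3
    rcases mul_self_eq_one_iff.mp h3 with h4 | h4
    · exfalso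
      apply hu1
      exact Units.ext h4
    · exact h4
  refine ⟨((g ^ k : Fˣ) : F), ?_⟩
  rw [apply_eq_pow σ hσ, hk, ← pow_succ', ← Units.val_pow_eq_pow_val, ← pow_mul]
  exact hu

theorem isSquare_norm_neg_one_iff (h2 : (2 : F) ≠ 0) (t : F) (ht : t * σ t = -1) :
    IsSquare t ↔ Nat.card ↥(fixField σ) % 4 = 1 := by
  obtain ⟨k, hk⟩ := exists_card_fixField σ hσ h2
  have ht0 : t ≠ 0 := by
    intro h
    rw [h, zero_mul] at ht
    exact one_ne_zero (neg_eq_zero.mp ht.symm)
  rw [euler h2 t ht0, card_div_two σ hσ k hk]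
  have h1 : t ^ (2 * k + 2) = -1 := by
    rw [← ht, apply_eq_pow σ hσ t, hk]
    ring
  have h4 : 2 * k * (k + 1) = (2 * k + 2) * k := by ring
  rw [h4, pow_mul, h1, neg_one_pow_eq_one_iff h2, hk, Nat.even_iff]
  omega

end Cfsg.Agent.Lib.Helper88_S2717_D1
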