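import Mathlib
import Cfsg.Prelude.Def_Classical
import Cfsg.Prelude.Def_ClassicalGeometry
import Cfsg.Agent.Lib.Helper44_Orth
import Cfsg.Agent.Lib.Helper44_Refl
import Cfsg.Agent.Lib.Helper44_Spinor
import Cfsg.Agent.Lib.Helper44_StdForms

set_option autoImplicit false
set_option linter.unusedSectionVars false

/-!
Torus elements of the orthogonal group of the plus-type form: the diagonal matrix with entries `lam i` on the first
half of the hyperbolic basis and their inverses on the second half is an isometry of determinant one, a product of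
reflections in the vectors `e_i - f_i` and `e_i - lam_i f_i`, and in odd characteristic it lies in the commutator
subgroup of the isometry group exactly when the product of the `lam i` is a square.
-/

namespace Cfsg.Agent.Lib.Helper88_S2717_D2

open Matrix Cfsg.Agent.Lib.Helper44_Orth Cfsg.Agent.Lib.Helper44_Refl Cfsg.Agent.Lib.Helper44_Spinor
  Cfsg.Agent.Lib.Helper44_StdForms

variable {m : ℕ} {F : Type*} [Field F]

/-- the diagonal of the torus element -/
def torusVec (lam : Fin m → Fˣ) : Fin m ⊕ Fin m → F :=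
  Sum.elim (fun i => (lam i : F)) (fun i => ((lam i)⁻¹ : Fˣ))

/-- the torus element as a matrix -/
def torusMat (lam : Fin m → Fˣ) : Matrix (Fin m ⊕ Fin m) (Fin m ⊕ Fin m) F :=
  Matrix.diagonal (torusVec lam)

theorem torusMat_eq (lam : Fin m → Fˣ) :
    (torusMat lam : Matrix (Fin m ⊕ Fin m) (Fin m ⊕ Fin m) F) =
      Matrix.diagonal (Sum.elim (fun i => (lam i : F)) (fun i => ((lam i : F))⁻¹)) := by
  unfold torusMat torusVec
  congr 1
  funext k
  rcases k with i | i
  · rfl
  · simp

theorem torusMat_mulVec (lam : Fin m → Fˣ) (x : Fin m ⊕ Fin m → F) :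
    torusMat lam *ᵥ x = fun k => torusVec lam k * x k := by
  funext k
  rw [torusMat, Matrix.mulVec_diagonal]

theorem torusMat_mul (lam mu : Fin m → Fˣ) :
    (torusMat lam : Matrix (Fin m ⊕ Fin m) (Fin m ⊕ Fin m) F) * torusMat mu = torusMat (lam * mu) := by
  unfold torusMat
  rw [Matrix.diagonal_mul_diagonal]
  congr 1
  funext k
  rcases k with i | i
  · simp [torusVec]
  · simp [torusVec, mul_comm]

theorem torusMat_one : (torusMat (1 : Fin m → Fˣ) : Matrix (Fin m ⊕ Fin m) (Fin m ⊕ Fin m) F) = 1 := by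
  unfold torusMat
  rw [← Matrix.diagonal_one]
  congr 1
  funext k
  rcases k with i | i <;> simp [torusVec]

/-- the torus element as an invertible matrix -/
def torusGL (lam : Fin m → Fˣ) : GL (Fin m ⊕ Fin m) F :=
  ⟨torusMat lam, torusMat lam⁻¹, by rw [torusMat_mul, mul_inv_cancel, torusMat_one],
    by rw [torusMat_mul, inv_mul_cancel, torusMat_one]⟩

theorem quadFormPlus_torus (lam : Fin m → Fˣ) (x : Fin m ⊕ Fin m → F) :
    Cfsg.quadFormPlus m F (torusMat lam *ᵥ x) = Cfsg.quadFormPlus m F x := by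
  rw [torusMat_mulVec]
  unfold Cfsg.quadFormPlus
  apply Finset.sum_congr rfl
  intro i _
  simp only [torusVec, Sum.elim_inl, Sum.elim_inr]
  have h : ((lam i : Fˣ) : F) * (((lam i)⁻¹ : Fˣ) : F) = 1 := by
    rw [← Units.val_mul, mul_inv_cancel, Units.val_one]
  calc ((lam i : Fˣ) : F) * x (Sum.inl i) * ((((lam i)⁻¹ : Fˣ) : F) * x (Sum.inr i))
      = (((lam i : Fˣ) : F) * (((lam i)⁻¹ : Fˣ) : F)) * (x (Sum.inl i) * x (Sum.inr i)) := by ring
    _ = x (Sum.inl i) * x (Sum.inr i) := by rw [h, one_mul]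

theorem torusGL_mem (lam : Fin m → Fˣ) :
    (torusGL lam : GL (Fin m ⊕ Fin m) F) ∈ Cfsg.isometryGroup F (⇑(qfPlus m F)) := by
  rw [mem_isometryGroup_iff]
  intro u
  rw [coe_qfPlus]
  exact quadFormPlus_torus lam u

/-- the torus element as an isometry -/
def torus (lam : Fin m → Fˣ) : ↥(Cfsg.isometryGroup F (⇑(qfPlus m F))) :=
  ⟨torusGL lam, torusGL_mem lam⟩

theorem torus_coe (lam : Fin m → Fˣ) :
    (((torus lam : ↥(Cfsg.isometryGroup F (⇑(qfPlus m F)))) : GL (Fin m ⊕ Fin m) F) :
      Matrix (Fin m ⊕ Fin m) (Fin m ⊕ Fin m) F) = torusMat lam := rfl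

theorem det_torusMat (lam : Fin m → Fˣ) :
    (torusMat lam : Matrix (Fin m ⊕ Fin m) (Fin m ⊕ Fin m) F).det = 1 := by
  unfold torusMat
  rw [Matrix.det_diagonal, Fintype.prod_sum_type]
  simp only [torusVec, Sum.elim_inl, Sum.elim_inr]
  rw [← Finset.prod_mul_distrib]
  apply Finset.prod_eq_one
  intro i _
  rw [← Units.val_mul, mul_inv_cancel, Units.val_one]

theorem torus_mem_special (lam : Fin m → Fˣ) :
    (torus lam : ↥(Cfsg.isometryGroup F (⇑(qfPlus m F)))) ∈
      Cfsg.specialIsometryGroup F (⇑(qfPlus m F)) := by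
  rw [Cfsg.specialIsometryGroup, MonoidHom.mem_ker]
  apply Units.ext
  rw [MonoidHom.comp_apply, Matrix.GeneralLinearGroup.val_det_apply, Units.val_one]
  exact det_torusMat lam

/-! ### the reflections -/

/-- the vector `e_i - μ f_i` -/
def eSub (i : Fin m) (μ : F) : Fin m ⊕ Fin m → F :=
  Pi.single (Sum.inl i) 1 - μ • Pi.single (Sum.inr i) 1

theorem eSub_inl (i j : Fin m) (μ : F) : eSub i μ (Sum.inl j) = if j = i then 1 else 0 := by
  unfold eSub
  by_cases h : j = i
  · subst h
    simp
  · simp [h]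

theorem eSub_inr (i j : Fin m) (μ : F) : eSub i μ (Sum.inr j) = if j = i then -μ else 0 := by
  unfold eSub
  by_cases h : j = i
  · subst h
    simp
  · simp [h]

theorem qfPlus_eSub (i : Fin m) (μ : F) : qfPlus m F (eSub i μ) = -μ := by
  have h : (qfPlus m F) (eSub i μ) = Cfsg.quadFormPlus m F (eSub i μ) := by
    rw [← coe_qfPlus]
  rw [h]
  unfold Cfsg.quadFormPlus
  rw [Finset.sum_eq_single i]
  · rw [eSub_inl, eSub_inr]
    simp
  · intro j _ hj
    rw [eSub_inl, if_neg hj, zero_mul]
  · intro h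
    exact absurd (Finset.mem_univ i) h

theorem polar_eSub (i : Fin m) (μ : F) (x : Fin m ⊕ Fin m → F) :
    QuadraticMap.polar (⇑(qfPlus m F)) (eSub i μ) x = x (Sum.inr i) - μ * x (Sum.inl i) := by
  rw [coe_qfPlus, polar_quadFormPlus, Finset.sum_eq_single i]
  · rw [eSub_inl, eSub_inr]
    simp
    ring
  · intro j _ hj
    rw [eSub_inl, eSub_inr, if_neg hj, if_neg hj]
    ring
  · intro h
    exact absurd (Finset.mem_univ i) h

/-- the diagonal of the product of the two reflections for the index `i` -/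
def dvec (i : Fin m) (μ : Fˣ) : Fin m ⊕ Fin m → F :=
  Sum.elim (fun j => if j = i then (μ : F) else 1) (fun j => if j = i then ((μ⁻¹ : Fˣ) : F) else 1)

theorem two_reflections (i : Fin m) (μ : Fˣ) :
    Cfsg.reflectionMatrix (⇑(qfPlus m F)) (eSub i 1) *
      Cfsg.reflectionMatrix (⇑(qfPlus m F)) (eSub i (μ : F)) = Matrix.diagonal (dvec i μ) := by
  apply matrix_ext_mulVec
  intro x
  rw [← Matrix.mulVec_mulVec, reflectionMatrix_mulVec, reflectionMatrix_mulVec, polar_eSub, polar_eSub,
    qfPlus_eSub, qfPlus_eSub]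
  have hμ : ((μ : Fˣ) : F) ≠ 0 := μ.ne_zero
  have hinv : ((μ⁻¹ : Fˣ) : F) = ((μ : Fˣ) : F)⁻¹ := Units.val_inv_eq_inv_val μ
  funext k
  rw [Matrix.mulVec_diagonal]
  rcases k with j | j
  · simp only [Pi.sub_apply, Pi.smul_apply, smul_eq_mul, eSub_inl, eSub_inr, dvec, Sum.elim_inl]
    by_cases hj : j = i
    · subst hj
      simp only [if_true]
      field_simp
      ring
    · simp only [if_neg hj]
      ring
  · simp only [Pi.sub_apply, Pi.smul_apply, smul_eq_mul, eSub_inl, eSub_inr, dvec, Sum.elim_inr]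
    by_cases hj : j = i
    · subst hj
      simp only [if_true]
      rw [hinv]
      field_simp
      ring
    · simp only [if_neg hj]
      ring

/-- the list of reflection vectors for a list of indices -/
def vecs (lam : Fin m → Fˣ) (l : List (Fin m)) : List (Fin m ⊕ Fin m → F) :=
  l.flatMap fun i => [eSub i 1, eSub i (lam i : F)]

theorem vecs_nil (lam : Fin m → Fˣ) : vecs (F := F) lam [] = [] := rfl

theorem vecs_cons (lam : Fin m → Fˣ) (i : Fin m) (l : List (Fin m)) :
    vecs (F := F) lam (i :: l) = eSub i 1 :: eSub i (lam i : F) :: vecs lam l := by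
  unfold vecs
  rw [List.flatMap_cons]
  rfl

theorem length_vecs (lam : Fin m → Fˣ) (l : List (Fin m)) :
    (vecs (F := F) lam l).length = 2 * l.length := by
  induction l with
  | nil => rfl
  | cons i l ih =>
    rw [vecs_cons, List.length_cons, List.length_cons, List.length_cons, ih]
    ring

theorem ne_zero_of_mem_vecs (lam : Fin m → Fˣ) (l : List (Fin m)) :
    ∀ v ∈ vecs (F := F) lam l, qfPlus m F v ≠ 0 := by
  induction l with
  | nil =>
    intro v hv
    rw [vecs_nil] at hv
    exact absurd hv (List.not_mem_nil)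
  | cons i l ih =>
    intro v hv
    rw [vecs_cons, List.mem_cons, List.mem_cons] at hv
    rcases hv with rfl | rfl | hv
    · rw [qfPlus_eSub]
      exact neg_ne_zero.mpr one_ne_zero
    · rw [qfPlus_eSub]
      exact neg_ne_zero.mpr (lam i).ne_zero
    · exact ih v hv

theorem prod_reflections (lam : Fin m → Fˣ) (l : List (Fin m)) :
    ((vecs (F := F) lam l).map (fun v => Cfsg.reflectionMatrix (⇑(qfPlus m F)) v)).prod =
      Matrix.diagonal ((l.map fun i => dvec (F := F) i (lam i)).prod) := by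
  induction l with
  | nil =>
    rw [vecs_nil, List.map_nil, List.prod_nil, List.map_nil, List.prod_nil]
    exact Matrix.diagonal_one.symm
  | cons i l ih =>
    rw [vecs_cons, List.map_cons, List.map_cons, List.prod_cons, List.prod_cons, ih, ← mul_assoc,
      two_reflections, Matrix.diagonal_mul_diagonal, List.map_cons, List.prod_cons]
    rfl

theorem prod_norms (lam : Fin m → Fˣ) (l : List (Fin m)) :
    ((vecs (F := F) lam l).map (fun v => qfPlus m F v)).prod = (l.map fun i => ((lam i : Fˣ) : F)).prod := by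
  induction l with
  | nil => rfl
  | cons i l ih =>
    rw [vecs_cons, List.map_cons, List.map_cons, List.prod_cons, List.prod_cons, ih, qfPlus_eSub,
      qfPlus_eSub, List.map_cons, List.prod_cons]
    ring

theorem prod_dvec (lam : Fin m → Fˣ) :
    ((List.finRange m).map fun i => dvec (F := F) i (lam i)).prod = torusVec lam := by
  rw [← Fin.prod_univ_def]
  funext k
  rw [Finset.prod_apply]
  rcases k with j | j
  · simp only [dvec, torusVec, Sum.elim_inl]
    rw [Finset.prod_ite_eq Finset.univ j (fun i => ((lam i : Fˣ) : F))]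
    simp
  · simp only [dvec, torusVec, Sum.elim_inr]
    rw [Finset.prod_ite_eq Finset.univ j (fun i => (((lam i)⁻¹ : Fˣ) : F))]
    simp

/-- the torus element is a product of reflections -/
theorem torusMat_eq_prod (lam : Fin m → Fˣ) :
    (torusMat lam : Matrix (Fin m ⊕ Fin m) (Fin m ⊕ Fin m) F) =
      ((vecs (F := F) lam (List.finRange m)).map
        (fun v => Cfsg.reflectionMatrix (⇑(qfPlus m F)) v)).prod := by
  rw [prod_reflections, prod_dvec]
  rfl

/-- in odd characteristic the torus element lies in the commutator subgroup of the isometry group exactly when the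
product of its parameters is a square -/
theorem torus_mem_omega_iff [Fintype F] (h2 : (2 : F) ≠ 0) (lam : Fin m → Fˣ) :
    (torus lam : ↥(Cfsg.isometryGroup F (⇑(qfPlus m F)))) ∈ Cfsg.Omega F (⇑(qfPlus m F)) ↔
      IsSquare (∏ i, ((lam i : Fˣ) : F)) := by
  rw [mem_omega_iff (qfPlus m F) h2 (torus lam) (vecs lam (List.finRange m))
    (ne_zero_of_mem_vecs lam _) (by rw [torus_coe]; exact torusMat_eq_prod lam)]
  rw [length_vecs, prod_norms, ← Fin.prod_univ_def]
  constructor
  · intro h
    exact h.2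
  · intro h
    exact ⟨even_two_mul _, h⟩

theorem exists_torus [Fintype F] (lam : Fin m → Fˣ) :
    ∃ s : ↥(Cfsg.isometryGroup F (⇑(qfPlus m F))),
      ((s : GL (Fin m ⊕ Fin m) F) : Matrix (Fin m ⊕ Fin m) (Fin m ⊕ Fin m) F) = torusMat lam ∧
      s ∈ Cfsg.specialIsometryGroup F (⇑(qfPlus m F)) ∧
      ((2 : F) ≠ 0 → (s ∈ Cfsg.Omega F (⇑(qfPlus m F)) ↔ IsSquare (∏ i, ((lam i : Fˣ) : F)))) :=
  ⟨torus lam, torus_coe lam, torus_mem_special lam, fun h2 => torus_mem_omega_iff h2 lam⟩

end Cfsg.Agent.Lib.Helper88_S2717_D2
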