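import Mathlib
import Cfsg.Prelude.Def_Classical
import Cfsg.Prelude.Def_ClassicalGeometry
import Cfsg.Agent.Lib.Helper44_StdForms
import Cfsg.Agent.Lib.Helper44_PlusMinusIsom
import Cfsg.Agent.Lib.Helper88_S2717_D2

/-!
# S2717 package D4 (helper88, for helper44): a torus element commuting up to sign with the
graph-field involution `x ↦ r * σ(x)`, `r` the reflection in `e_last - f_last`.
-/

set_option autoImplicit false
set_option linter.unusedSectionVars false

namespace Cfsg.Agent.Lib.Helper88_S2717_D4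

open Matrix Cfsg.Agent.Lib.Helper44_StdForms Cfsg.Agent.Lib.Helper44_PlusMinusIsom
  Cfsg.Agent.Lib.Helper88_S2717_D2

variable {F : Type*} [Field F] (m : ℕ)

/-- the diagonal parameters `(z, …, z, t)` -/
def lamZT (z t : Fˣ) : Fin (m + 1) → Fˣ := Fin.lastCases t (fun _ => z)

theorem lamZT_last (z t : Fˣ) : lamZT m z t (Fin.last m) = t := by
  simp [lamZT]

theorem lamZT_castSucc (z t : Fˣ) (i : Fin m) : lamZT m z t i.castSucc = z := by
  simp [lamZT]

theorem prod_lamZT (z t : Fˣ) : ∏ i, ((lamZT m z t i : Fˣ) : F) = (z : F) ^ m * (t : F) := by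
  rw [Fin.prod_univ_castSucc]
  simp only [lamZT_last, lamZT_castSucc, Finset.prod_const, Finset.card_univ, Fintype.card_fin]

theorem torusMat_map (σ : F ≃+* F) (lam : Fin (m + 1) → Fˣ) (x : Fin (m + 1) ⊕ Fin (m + 1) → F) :
    (torusMat lam).map σ *ᵥ x = fun k => σ (torusVec lam k) * x k := by
  funext k
  have h : (torusMat lam : Matrix (Fin (m + 1) ⊕ Fin (m + 1)) (Fin (m + 1) ⊕ Fin (m + 1)) F).map σ =
      Matrix.diagonal (fun k => σ (torusVec lam k)) := by
    unfold torusMat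
    rw [Matrix.diagonal_map (map_zero σ)]
  rw [h, Matrix.mulVec_diagonal]

theorem torusVec_inl (lam : Fin (m + 1) → Fˣ) (i : Fin (m + 1)) :
    torusVec lam (Sum.inl i) = ((lam i : Fˣ) : F) := rfl

theorem torusVec_inr (lam : Fin (m + 1) → Fˣ) (i : Fin (m + 1)) :
    torusVec lam (Sum.inr i) = (((lam i)⁻¹ : Fˣ) : F) := rfl

theorem torus_refl_comm (σ : F ≃+* F) (z t : Fˣ) (hz : σ (z : F) = -(z : F))
    (ht : (t : F) * σ (t : F) = -1) :
    torusMat (lamZT m z t) * Cfsg.reflectionMatrix (⇑(qfPlus (m + 1) F)) (vLast m) =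
      -(Cfsg.reflectionMatrix (⇑(qfPlus (m + 1) F)) (vLast m) *
        (torusMat (lamZT m z t)).map σ) := by
  have hzinv : σ (((z⁻¹ : Fˣ) : F)) = -((z⁻¹ : Fˣ) : F) := by
    rw [Units.val_inv_eq_inv_val, map_inv₀, hz, inv_neg]
  have ht0 : (t : F) ≠ 0 := t.ne_zero
  have hσt : σ (t : F) = -((t⁻¹ : Fˣ) : F) := by
    rw [Units.val_inv_eq_inv_val]
    field_simp
    linear_combination ht
  have hσtinv : σ (((t⁻¹ : Fˣ) : F)) = -(t : F) := by
    rw [Units.val_inv_eq_inv_val, map_inv₀, hσt, Units.val_inv_eq_inv_val, inv_neg, inv_inv]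
  apply rect_ext
  intro x
  rw [← Matrix.mulVec_mulVec, Matrix.neg_mulVec, ← Matrix.mulVec_mulVec, refl_vLast_mulVec,
    refl_vLast_mulVec, torusMat_mulVec, torusMat_map]
  funext k
  rcases k with i | i <;> refine Fin.lastCases ?_ (fun i' => ?_) i
  · simp only [Pi.neg_apply, Sum.elim_inl, Fin.lastCases_last, torusVec_inl, torusVec_inr,
      lamZT_last, hσtinv]
    ring
  · simp only [Pi.neg_apply, Sum.elim_inl, Fin.lastCases_castSucc, torusVec_inl, lamZT_castSucc,
      hz]
    ring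
  · simp only [Pi.neg_apply, Sum.elim_inr, Fin.lastCases_last, torusVec_inl, torusVec_inr,
      lamZT_last, hσt]
    ring
  · simp only [Pi.neg_apply, Sum.elim_inr, Fin.lastCases_castSucc, torusVec_inr, lamZT_castSucc,
      hzinv]
    ring

end Cfsg.Agent.Lib.Helper88_S2717_D4
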