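import Mathlib
import Cfsg.Agent.Lib.Helper44_PlusGFSetup
import Cfsg.Agent.Lib.Helper44_SplitGen
import Cfsg.Agent.Lib.Helper88_S2717_D1
import Cfsg.Agent.Lib.Helper88_S2717_D2
import Cfsg.Agent.Lib.Helper88_S2717_D4
import Cfsg.Agent.Lib.Helper14_InndiagMain

/-!
# Involutory graph-field automorphisms of `PΩ⁺_{2m}(q)`, `q` odd: the centralizer modulo `Inn`
(helper44)

For the standard involutory graph-field automorphism `x₂`: `C_G(x₂) ≤ PSO`, a torus element of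
`C_G(x₂)`, and the criterion for `C_G(x₂) ≤ Inn`.
-/

set_option autoImplicit false
set_option linter.unusedSectionVars false
set_option linter.unusedVariables false

namespace Cfsg.Agent.Lib.Helper44_PlusGFSplit

open Cfsg Matrix Module Cfsg.Agent.Lib.Helper44_Orth Cfsg.Agent.Lib.Helper14_AutOmega
  Cfsg.Agent.Lib.Helper44_H90i Cfsg.Agent.Lib.Helper44_OrthField
  Cfsg.Agent.Lib.Helper14_CentOmega Cfsg.Agent.Lib.Helper44_OrthCoset
  Cfsg.Agent.Lib.Helper44_StdForms Cfsg.Agent.Lib.Helper44_Refl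
  Cfsg.Agent.Lib.Helper44_OrthPlusMain Cfsg.Agent.Lib.Helper44_OrthMinusK
  Cfsg.Agent.Lib.Helper44_OrthMinusLang Cfsg.Agent.Lib.Helper44_OrthMinusCoset
  Cfsg.Agent.Lib.Helper44_OrthMinusCent Cfsg.Agent.Lib.Helper44_OrthBase
  Cfsg.Agent.Lib.Helper44_RectTransport Cfsg.Agent.Lib.Helper44_PlusMinusIsom
  Cfsg.Agent.Lib.Helper44_PlusGFSetup Cfsg.Agent.Lib.Helper44_SplitGen
  Cfsg.Agent.Lib.Helper14_OmegaIndex Cfsg.Agent.Lib.Helper14_InndiagQuot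
  Cfsg.Agent.Lib.Helper44_Spinor Cfsg.Agent.Lib.Helper44_OrthOddCent
  Cfsg.Agent.Lib.Helper88_S2717_D1 Cfsg.Agent.Lib.Helper88_S2717_D2
  Cfsg.Agent.Lib.Helper88_S2717_D4 Cfsg.Agent.Lib.Helper44_OrthSubfield

open Cfsg.Agent.Lib.Helper14_GOChars (mu mu_eq mu_spec chiHom chiHom_eq_one_iff sgnHom
  sgnHom_eq_one_iff psi ker_psi SO' Z' mem_SO'_iff muHom muHom_apply mu_of_isometry isometry_of_mu)

universe u u₀

variable {F : Type u} [Field F] [Fintype F] {F₀ : Type u₀} [Field F₀] [Fintype F₀] {m' : ℕ}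

theorem hneP : ∃ v, qfPlus (m' + 1) F v ≠ 0 := ⟨vLast m', GFSetup.hvL⟩

/-- `G°` for the plus form -/
noncomputable abbrev GzP (h2 : (2 : F) ≠ 0) (m' : ℕ) : Subgroup ↥(GO (⇑(qfPlus (m' + 1) F))) :=
  Gz h2 (qfPlus (m' + 1) F)
    (Cfsg.Agent.Lib.Helper14_POmegaSimple.nondegenerate_qfPlus (F := F) (m' + 1)) hneP
    (card_plus (m' + 1))

variable (S : GFSetup F F₀ m') (h2 : (2 : F) ≠ 0)

/-- **`C_G(x₂) ≤ PSO`** -/
theorem cent_le_pso :
    (GzP h2 m').map (Phi (⇑(qfPlus (m' + 1) F))) ⊓ Subgroup.centralizer {S.x₂} ≤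
      psoAut F (⇑(qfPlus (m' + 1) F)) := by
  intro y hy
  rw [Subgroup.mem_inf, mem_centralizer_singleton'] at hy
  obtain ⟨hyG, hcomm⟩ := hy
  obtain ⟨g, hg, rfl⟩ := hyG
  obtain ⟨k, hk⟩ := S.exists_Theta_of_comm g hcomm
  have hQ := Cfsg.Agent.Lib.Helper14_POmegaSimple.nondegenerate_qfPlus (F := F) (m' + 1)
  rw [← hk]
  apply Phi_mem_pso_of_mem_sup (qfPlus (m' + 1) F) hQ S.hn
  rw [← ker_psi h2 (qfPlus (m' + 1) F) hQ hneP (card_plus (m' + 1)), MonoidHom.mem_ker, psi,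
    MonoidHom.prod_apply, Prod.mk_eq_one]
  constructor
  · rw [chiHom_eq_one_iff, S.mu_Theta]
    exact isSquare_of_fixed S.σ S.hσ _ ((S.hι _).mpr ⟨_, rfl⟩)
  · have h1 : S.Theta k ∈ GzP h2 m' := by
      apply mem_Gz_of_Phi_mem h2 (qfPlus (m' + 1) F) hQ S.hn hneP (card_plus (m' + 1))
      rw [hk]
      exact ⟨g, hg, rfl⟩
    exact MonoidHom.mem_ker.mp h1

/-! ### torus elements -/

section torus

variable (lam : Fin (m' + 1) → Fˣ)

/-- the torus element as a similarity -/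
noncomputable def torusGO : ↥(GO (⇑(qfPlus (m' + 1) F))) :=
  Subgroup.inclusion (isometryGroup_le_GO (⇑(qfPlus (m' + 1) F))) (torus lam)

theorem torusGO_coe :
    ((torusGO lam : ↥(GO (⇑(qfPlus (m' + 1) F)))) : GL (Fin (m' + 1) ⊕ Fin (m' + 1)) F).1 =
      torusMat lam := rfl

theorem Phi_torusGO :
    Phi (⇑(qfPlus (m' + 1) F)) (torusGO lam) = PhiO (⇑(qfPlus (m' + 1) F)) (torus lam) := rfl

theorem scalarGO_neg_one_coe {ι : Type} [Fintype ι] [DecidableEq ι] (Q : QuadraticForm F (ι → F))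
    (a : Fˣ) : ((scalarGO Q a : ↥(GO (⇑Q))) : GL ι F).1 = (a : F) • (1 : Matrix ι ι F) := by
  rw [scalarGO_coe, Matrix.GeneralLinearGroup.coe_scalar, Matrix.scalar_apply,
    ← Matrix.smul_one_eq_diagonal]

variable (hlam : torusMat lam * Cfsg.reflectionMatrix (⇑(qfPlus (m' + 1) F)) (vLast m') =
  -(Cfsg.reflectionMatrix (⇑(qfPlus (m' + 1) F)) (vLast m') * (torusMat lam).map S.σ))

include hlam in
theorem torus_comm_GO :
    torusGO lam * GFSetup.r (F := F) (m' := m') =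
      scalarGO (qfPlus (m' + 1) F) (-1) *
        (GFSetup.r (F := F) (m' := m') * mapGO (⇑(qfPlus (m' + 1) F)) S.σs (torusGO lam)) := by
  apply Subtype.ext
  apply Units.ext
  show (torusGO lam).1.1 * (GFSetup.r (F := F) (m' := m')).1.1 =
    (scalarGO (qfPlus (m' + 1) F) (-1)).1.1 * ((GFSetup.r (F := F) (m' := m')).1.1 *
      (mapGO (⇑(qfPlus (m' + 1) F)) S.σs (torusGO lam)).1.1)
  rw [scalarGO_neg_one_coe, mapGO_coe, mapGLi_coe, torusGO_coe, GFSetup.r, reflGO_coe, hlam,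
    Units.val_neg, Units.val_one, neg_smul, one_smul, neg_mul, one_mul]
  rfl

include hlam in
set_option maxHeartbeats 1600000 in
/-- the torus element centralizes `x₂` -/
theorem torus_comm_x₂ :
    S.x₂ * Phi (⇑(qfPlus (m' + 1) F)) (torusGO lam) =
      Phi (⇑(qfPlus (m' + 1) F)) (torusGO lam) * S.x₂ := by
  have e := torus_comm_GO S lam hlam
  have e2 := fieldO_mul_Phi (⇑(qfPlus (m' + 1) F)) S.σs (torusGO lam)
  have hx : S.x₂ = Phi (⇑(qfPlus (m' + 1) F)) (GFSetup.r (F := F) (m' := m')) *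
      fieldO (⇑(qfPlus (m' + 1) F)) S.σs := rfl
  obtain ⟨tG, htG⟩ : ∃ tG, tG = torusGO lam := ⟨_, rfl⟩
  obtain ⟨rr, hrr⟩ : ∃ rr, rr = GFSetup.r (F := F) (m' := m') := ⟨_, rfl⟩
  obtain ⟨tG', htG'⟩ : ∃ tG', tG' = mapGO (⇑(qfPlus (m' + 1) F)) S.σs tG := ⟨_, rfl⟩
  obtain ⟨b, hb⟩ : ∃ b, b = fieldO (⇑(qfPlus (m' + 1) F)) S.σs := ⟨_, rfl⟩
  rw [← htG, ← hrr, ← htG'] at e
  rw [← htG, ← htG', ← hb] at e2
  rw [hx, ← htG, ← hrr, ← hb]
  have e1 : Phi (⇑(qfPlus (m' + 1) F)) tG * Phi (⇑(qfPlus (m' + 1) F)) rr =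
      Phi (⇑(qfPlus (m' + 1) F)) rr * Phi (⇑(qfPlus (m' + 1) F)) tG' := by
    rw [← map_mul, e, map_mul, Phi_scalarGO, one_mul, map_mul]
  obtain ⟨a, ha⟩ : ∃ a, a = Phi (⇑(qfPlus (m' + 1) F)) rr := ⟨_, rfl⟩
  obtain ⟨c, hc⟩ : ∃ c, c = Phi (⇑(qfPlus (m' + 1) F)) tG := ⟨_, rfl⟩
  obtain ⟨d, hd⟩ : ∃ d, d = Phi (⇑(qfPlus (m' + 1) F)) tG' := ⟨_, rfl⟩
  rw [← ha, ← hc, ← hd] at e1
  rw [← hc, ← hd] at e2
  rw [← ha, ← hc]
  -- `c a = a d`, `b c = d b`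
  calc a * b * c = a * (b * c) := by group
    _ = a * (d * b) := by rw [e2]
    _ = (a * d) * b := by group
    _ = (c * a) * b := by rw [e1]
    _ = c * (a * b) := by group

end torus


/-! ### the similarity with non-square multiplier over the fixed field -/

section delta

theorem refl_sq : Cfsg.reflectionMatrix (⇑(qfPlus (m' + 1) F)) (vLast m') *
    Cfsg.reflectionMatrix (⇑(qfPlus (m' + 1) F)) (vLast m') = 1 :=
  reflectionMatrix_mul_self (qfPlus (m' + 1) F) GFSetup.hvL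

theorem map_P : S.hR.P.map S.σ =
    Cfsg.reflectionMatrix (⇑(qfPlus (m' + 1) F)) (vLast m') * S.hR.P := by
  have h := S.hrefl
  calc S.hR.P.map S.σ = (Cfsg.reflectionMatrix (⇑(qfPlus (m' + 1) F)) (vLast m') *
        Cfsg.reflectionMatrix (⇑(qfPlus (m' + 1) F)) (vLast m')) * S.hR.P.map S.σ := by
        rw [refl_sq, Matrix.one_mul]
    _ = Cfsg.reflectionMatrix (⇑(qfPlus (m' + 1) F)) (vLast m') *
        (Cfsg.reflectionMatrix (⇑(qfPlus (m' + 1) F)) (vLast m') * S.hR.P.map S.σ) := by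
        rw [Matrix.mul_assoc]
    _ = _ := by rw [h]

theorem map_one_rect {α : Type*} [DecidableEq α] (σ : F ≃+* F) :
    (1 : Matrix α α F).map σ = 1 := by
  ext i k
  rw [Matrix.map_apply, Matrix.one_apply]
  split_ifs <;> simp

theorem map_P' : S.hR.P'.map S.σ =
    S.hR.P' * Cfsg.reflectionMatrix (⇑(qfPlus (m' + 1) F)) (vLast m') := by
  have h1 : S.hR.P'.map S.σ * S.hR.P.map S.σ = 1 := by
    rw [← map_mul_rect, S.hR.h2, map_one_rect]
  have h2 : S.hR.P'.map S.σ * Cfsg.reflectionMatrix (⇑(qfPlus (m' + 1) F)) (vLast m') *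
      S.hR.P = 1 := by
    rw [Matrix.mul_assoc, ← map_P, h1]
  have h3 : S.hR.P'.map S.σ * Cfsg.reflectionMatrix (⇑(qfPlus (m' + 1) F)) (vLast m') =
      S.hR.P' := by
    calc S.hR.P'.map S.σ * Cfsg.reflectionMatrix (⇑(qfPlus (m' + 1) F)) (vLast m')
        = S.hR.P'.map S.σ * Cfsg.reflectionMatrix (⇑(qfPlus (m' + 1) F)) (vLast m') *
          (S.hR.P * S.hR.P') := by rw [S.hR.h1, Matrix.mul_one]
      _ = (S.hR.P'.map S.σ * Cfsg.reflectionMatrix (⇑(qfPlus (m' + 1) F)) (vLast m') *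
          S.hR.P) * S.hR.P' := by simp only [Matrix.mul_assoc]
      _ = _ := by rw [h2, Matrix.one_mul]
  calc S.hR.P'.map S.σ = S.hR.P'.map S.σ *
        (Cfsg.reflectionMatrix (⇑(qfPlus (m' + 1) F)) (vLast m') *
          Cfsg.reflectionMatrix (⇑(qfPlus (m' + 1) F)) (vLast m')) := by
        rw [refl_sq, Matrix.mul_one]
    _ = (S.hR.P'.map S.σ * Cfsg.reflectionMatrix (⇑(qfPlus (m' + 1) F)) (vLast m')) *
          Cfsg.reflectionMatrix (⇑(qfPlus (m' + 1) F)) (vLast m') := by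
        rw [Matrix.mul_assoc]
    _ = _ := by rw [h3]

/-- a similarity `ĝ` of the plus form with `r σ(ĝ) r = ĝ` comes from the fixed field -/
theorem exists_Theta_of_fixed (g : ↥(GO (⇑(qfPlus (m' + 1) F))))
    (hg : Cfsg.reflectionMatrix (⇑(qfPlus (m' + 1) F)) (vLast m') *
      (g : GL (Fin (m' + 1) ⊕ Fin (m' + 1)) F).1.map S.σ *
      Cfsg.reflectionMatrix (⇑(qfPlus (m' + 1) F)) (vLast m') =
        (g : GL (Fin (m' + 1) ⊕ Fin (m' + 1)) F).1) :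
    ∃ k : ↥(GO (⇑(qfMinus m' F₀ S.a₀ S.b₀))), S.Theta k = g := by
  obtain ⟨g'', hg''⟩ : ∃ g'', g'' = S.hR.cgGO.symm g := ⟨_, rfl⟩
  have hcoe : (g'' : GL (J m') F).1 = S.hR.P' * (g : GL (Fin (m' + 1) ⊕ Fin (m' + 1)) F).1 * S.hR.P := by
    rw [hg'']; rfl
  have hfix : mapGLi S.σ (g'' : GL (J m') F) = (g'' : GL (J m') F) := by
    apply Units.ext
    rw [mapGLi_coe, hcoe, map_mul_rect, map_mul_rect, map_P, map_P']
    calc S.hR.P' * Cfsg.reflectionMatrix (⇑(qfPlus (m' + 1) F)) (vLast m') *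
          (g : GL (Fin (m' + 1) ⊕ Fin (m' + 1)) F).1.map S.σ *
          (Cfsg.reflectionMatrix (⇑(qfPlus (m' + 1) F)) (vLast m') * S.hR.P)
        = S.hR.P' * (Cfsg.reflectionMatrix (⇑(qfPlus (m' + 1) F)) (vLast m') *
          (g : GL (Fin (m' + 1) ⊕ Fin (m' + 1)) F).1.map S.σ *
          Cfsg.reflectionMatrix (⇑(qfPlus (m' + 1) F)) (vLast m')) * S.hR.P := by
          simp only [Matrix.mul_assoc]
      _ = _ := by rw [hg]
  obtain ⟨k, hk⟩ := exists_bcGO_of_fixed (compat_qfMinus m' S.a₀ S.b₀ S.j) S.σ S.hι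
    ⟨_, nonsing_e0 m' S.a₀ S.b₀⟩ g'' hfix
  refine ⟨k, ?_⟩
  rw [GFSetup.Theta_apply]
  show S.hR.cgGO (bcGO S.j (compat_qfMinus m' S.a₀ S.b₀ S.j) k) = g
  rw [hk, hg'', MulEquiv.apply_symm_apply]

end delta


/-! ### the embedding on isometries and `Ω` -/

section omega

/-- the embedding of the isometry group over the fixed field -/
noncomputable def ThetaO :
    ↥(isometryGroup F₀ (⇑(qfMinus m' F₀ S.a₀ S.b₀))) →*
      ↥(isometryGroup F (⇑(qfPlus (m' + 1) F))) :=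
  S.hR.isoG.toMonoidHom.comp (mapIsom (compat_qfMinus m' S.a₀ S.b₀ S.j))

theorem incl_ThetaO (s : ↥(isometryGroup F₀ (⇑(qfMinus m' F₀ S.a₀ S.b₀)))) :
    Subgroup.inclusion (isometryGroup_le_GO (⇑(qfPlus (m' + 1) F))) (ThetaO S s) =
      S.Theta (Subgroup.inclusion (isometryGroup_le_GO (⇑(qfMinus m' F₀ S.a₀ S.b₀))) s) :=
  Subtype.ext rfl

theorem map_commutator_le {G G' : Type*} [Group G] [Group G'] (f : G →* G') {x : G}
    (hx : x ∈ commutator G) : f x ∈ commutator G' := by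
  have h1 : (commutator G).map f ≤ commutator G' := by
    rw [commutator_def, commutator_def, Subgroup.map_commutator]
    exact Subgroup.commutator_mono le_top le_top
  exact h1 ⟨x, hx, rfl⟩

theorem ThetaO_mem_omega {s : ↥(isometryGroup F₀ (⇑(qfMinus m' F₀ S.a₀ S.b₀)))}
    (hs : s ∈ Omega F₀ (⇑(qfMinus m' F₀ S.a₀ S.b₀))) :
    ThetaO S s ∈ Omega F (⇑(qfPlus (m' + 1) F)) :=
  map_commutator_le (ThetaO S) hs

theorem ThetaO_refl (v : J m' → F₀) (hv : qfMinus m' F₀ S.a₀ S.b₀ v ≠ 0)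
    (hv' : qfPlus (m' + 1) F (S.hR.P *ᵥ vmap S.j v) ≠ 0) :
    ThetaO S (refl (qfMinus m' F₀ S.a₀ S.b₀) v hv) =
      refl (qfPlus (m' + 1) F) (S.hR.P *ᵥ vmap S.j v) hv' := by
  have h := S.Theta_reflGO v hv hv'
  apply Subtype.ext
  have h' := congrArg Subtype.val h
  exact h'

include h2 in
/-- the image of the special orthogonal group over the fixed field lies in `Ω` -/
theorem ThetaO_mem_omega_of_special {s : ↥(isometryGroup F₀ (⇑(qfMinus m' F₀ S.a₀ S.b₀)))}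
    (hs : s ∈ specialIsometryGroup F₀ (⇑(qfMinus m' F₀ S.a₀ S.b₀))) :
    ThetaO S s ∈ Omega F (⇑(qfPlus (m' + 1) F)) := by
  by_cases hsΩ : s ∈ Omega F₀ (⇑(qfMinus m' F₀ S.a₀ S.b₀))
  · exact ThetaO_mem_omega S hsΩ
  have h2₀ : (2 : F₀) ≠ 0 := by
    intro h0
    apply h2
    have := congrArg S.j h0
    rwa [map_ofNat, map_zero] at this
  have hQ := Cfsg.Agent.Lib.Helper14_POmegaSimple.nondegenerate_qfPlus (F := F) (m' + 1)
  obtain ⟨ν, hν⟩ := FiniteField.exists_nonsquare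
    (Cfsg.Agent.Lib.Helper44_FinSq.ringChar_ne_two_of_two_ne_zero h2₀)
  have hm1 : 0 < m' := by have := S.hm; omega
  -- two vectors of norms `1` and `ν`
  obtain ⟨a, ha⟩ : ∃ a : J m' → F₀, qfMinus m' F₀ S.a₀ S.b₀ a = 1 := by
    refine ⟨Pi.single (Sum.inr 0) 1, ?_⟩
    rw [Cfsg.Agent.Lib.Helper40_QuadStd.qfMinus_single]
    simp
  obtain ⟨b, hb⟩ : ∃ b : J m' → F₀, qfMinus m' F₀ S.a₀ S.b₀ b = ν := by
    refine ⟨Pi.single (Sum.inl (Sum.inl ⟨0, hm1⟩)) 1 + ν • Pi.single (Sum.inl (Sum.inr ⟨0, hm1⟩)) 1,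
      ?_⟩
    rw [QuadraticMap.map_add (⇑(qfMinus m' F₀ S.a₀ S.b₀)), QuadraticMap.map_smul,
      QuadraticMap.polar_smul_right,
      Cfsg.Agent.Lib.Helper40_QuadStd.qfMinus_single,
      Cfsg.Agent.Lib.Helper40_QuadStd.qfMinus_single,
      Cfsg.Agent.Lib.Helper40_QuadStd.polar_qfMinus_single]
    simp
  have ha0 : qfMinus m' F₀ S.a₀ S.b₀ a ≠ 0 := by rw [ha]; exact one_ne_zero
  have hb0 : qfMinus m' F₀ S.a₀ S.b₀ b ≠ 0 := by
    rw [hb]; rintro rfl; exact hν ⟨0, by simp⟩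
  have hasq : IsSquare (qfMinus m' F₀ S.a₀ S.b₀ a) := by rw [ha]; exact ⟨1, by simp⟩
  have hbsq : ¬ IsSquare (qfMinus m' F₀ S.a₀ S.b₀ b) := by rw [hb]; exact hν
  have ht₀ := pair_not_mem_omega (qfMinus m' F₀ S.a₀ S.b₀) h2₀ S.hQ₀ ha0 hb0 hasq hbsq
  have ht₀S : refl (qfMinus m' F₀ S.a₀ S.b₀) a ha0 * refl (qfMinus m' F₀ S.a₀ S.b₀) b hb0 ∈
      specialIsometryGroup F₀ (⇑(qfMinus m' F₀ S.a₀ S.b₀)) := by
    rw [specialIsometryGroup, MonoidHom.mem_ker]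
    apply Units.ext
    rw [MonoidHom.comp_apply, Matrix.GeneralLinearGroup.val_det_apply, Units.val_one]
    show ((refl (qfMinus m' F₀ S.a₀ S.b₀) a ha0 : GL (J m') F₀).1 *
      (refl (qfMinus m' F₀ S.a₀ S.b₀) b hb0 : GL (J m') F₀).1).det = 1
    rw [Matrix.det_mul, refl_coe, refl_coe, det_reflectionMatrix _ ha0,
      det_reflectionMatrix _ hb0]
    norm_num
  have hprod := mul_mem_omega (qfMinus m' F₀ S.a₀ S.b₀) h2₀ S.hQ₀ hs ht₀S hsΩ ht₀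
  have h1 := ThetaO_mem_omega S hprod
  rw [map_mul] at h1
  -- the image of the pair of reflections lies in `Ω`
  have ha' : qfPlus (m' + 1) F (S.hR.P *ᵥ vmap S.j a) ≠ 0 := by
    rw [S.norm_P_vmap]; exact (map_ne_zero S.j).mpr ha0
  have hb' : qfPlus (m' + 1) F (S.hR.P *ᵥ vmap S.j b) ≠ 0 := by
    rw [S.norm_P_vmap]; exact (map_ne_zero S.j).mpr hb0
  have h3 : ThetaO S (refl (qfMinus m' F₀ S.a₀ S.b₀) a ha0 *
      refl (qfMinus m' F₀ S.a₀ S.b₀) b hb0) ∈ Omega F (⇑(qfPlus (m' + 1) F)) := by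
    rw [map_mul, ThetaO_refl S a ha0 ha', ThetaO_refl S b hb0 hb']
    apply refl_mul_refl_mem_omega h2 (qfPlus (m' + 1) F) hQ ha' hb'
    · rw [S.norm_P_vmap]
      exact isSquare_of_fixed S.σ S.hσ _ ((S.hι _).mpr ⟨_, rfl⟩)
    · rw [S.norm_P_vmap]
      exact isSquare_of_fixed S.σ S.hσ _ ((S.hι _).mpr ⟨_, rfl⟩)
  have h4 := Subgroup.mul_mem _ h1 (Subgroup.inv_mem _ h3)
  rwa [mul_inv_cancel_right] at h4

end omega


/-! ### similarities with square multiplier -/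

section square

theorem mu_scalarGO {ι : Type} [Fintype ι] [DecidableEq ι] {E : Type*} [Field E]
    (Q : QuadraticForm E (ι → E)) (hne : ∃ v, Q v ≠ 0) (a : Eˣ) :
    mu (⇑Q) (scalarGO Q a) = a * a := by
  apply mu_eq _ hne
  intro v
  rw [scalarGO_coe, Matrix.GeneralLinearGroup.coe_scalar, Matrix.scalar_apply,
    ← Matrix.smul_one_eq_diagonal, Matrix.smul_mulVec, Matrix.one_mulVec, QuadraticMap.map_smul,
    Units.val_mul, smul_eq_mul]

theorem det_scalarGO {ι : Type} [Fintype ι] [DecidableEq ι] {E : Type*} [Field E]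
    (Q : QuadraticForm E (ι → E)) (a : Eˣ) :
    ((scalarGO Q a : ↥(GO (⇑Q))) : GL ι E).1.det = (a : E) ^ Fintype.card ι := by
  rw [scalarGO_coe, Matrix.GeneralLinearGroup.coe_scalar, Matrix.scalar_apply,
    ← Matrix.smul_one_eq_diagonal, Matrix.det_smul, Matrix.det_one, mul_one]

include h2 in
/-- a similarity over the fixed field with square multiplier whose image lies in `G°` induces an
inner automorphism -/
theorem inn_of_sq (k : ↥(GO (⇑(qfMinus m' F₀ S.a₀ S.b₀))))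
    (hsq : IsSquare ((mu (⇑(qfMinus m' F₀ S.a₀ S.b₀)) k : F₀ˣ) : F₀))
    (hGz : S.Theta k ∈ GzP h2 m') :
    Phi (⇑(qfPlus (m' + 1) F)) (S.Theta k) ∈ Inn (POmega F (⇑(qfPlus (m' + 1) F))) := by
  have hne₀ : ∃ v, qfMinus m' F₀ S.a₀ S.b₀ v ≠ 0 := ⟨_, nonsing_e0 m' S.a₀ S.b₀⟩
  obtain ⟨c₀, hc₀⟩ := hsq
  have hc0 : c₀ ≠ 0 := by
    rintro rfl
    rw [mul_zero] at hc₀
    exact (Units.ne_zero _) hc₀
  obtain ⟨cu, hcu⟩ : ∃ cu : F₀ˣ, (cu : F₀) = c₀ := ⟨Units.mk0 c₀ hc0, rfl⟩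
  have hμk : mu (⇑(qfMinus m' F₀ S.a₀ S.b₀)) k = cu * cu := by
    apply Units.ext
    rw [hc₀, Units.val_mul, hcu]
  obtain ⟨k', hk'⟩ : ∃ k', k' = k * scalarGO (qfMinus m' F₀ S.a₀ S.b₀) cu⁻¹ := ⟨_, rfl⟩
  have hμ' : mu (⇑(qfMinus m' F₀ S.a₀ S.b₀)) k' = 1 := by
    have h1 := map_mul (muHom (⇑(qfMinus m' F₀ S.a₀ S.b₀)) hne₀) k
      (scalarGO (qfMinus m' F₀ S.a₀ S.b₀) cu⁻¹)
    rw [muHom_apply, muHom_apply, muHom_apply, mu_scalarGO _ hne₀, hμk, ← hk'] at h1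
    rw [h1]
    group
  have hiso : (k' : GL (J m') F₀) ∈ isometryGroup F₀ (⇑(qfMinus m' F₀ S.a₀ S.b₀)) :=
    isometry_of_mu _ k' hμ'
  -- the determinant
  have hdetk : (k : GL (J m') F₀).1.det =
      ((mu (⇑(qfMinus m' F₀ S.a₀ S.b₀)) k : F₀ˣ) : F₀) ^ (m' + 1) := by
    have h1 := (sgnHom_eq_one_iff h2 (qfPlus (m' + 1) F)
      (Cfsg.Agent.Lib.Helper14_POmegaSimple.nondegenerate_qfPlus (F := F) (m' + 1)) hneP
      (card_plus (m' + 1)) (S.Theta k)).mp (MonoidHom.mem_ker.mp hGz)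
    rw [S.det_Theta, S.mu_Theta] at h1
    apply S.j.injective
    rw [h1, map_pow]
    rfl
  have hdet : (k' : GL (J m') F₀).1.det = 1 := by
    rw [hk']
    show ((k : GL (J m') F₀).1 *
      ((scalarGO (qfMinus m' F₀ S.a₀ S.b₀) cu⁻¹ : ↥(GO _)) : GL (J m') F₀).1).det = 1
    rw [Matrix.det_mul, hdetk, det_scalarGO, hμk, card_J, Units.val_mul, Units.val_inv_eq_inv_val,
      hcu]
    rw [pow_mul, ← mul_pow]
    have h3 : c₀ * c₀ * c₀⁻¹ ^ 2 = 1 := by field_simp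
    rw [h3, one_pow]
  obtain ⟨s₀, hs₀⟩ : ∃ s₀ : ↥(isometryGroup F₀ (⇑(qfMinus m' F₀ S.a₀ S.b₀))),
      (s₀ : GL (J m') F₀) = (k' : GL (J m') F₀) := ⟨⟨_, hiso⟩, rfl⟩
  have hs₀S : s₀ ∈ specialIsometryGroup F₀ (⇑(qfMinus m' F₀ S.a₀ S.b₀)) := by
    rw [specialIsometryGroup, MonoidHom.mem_ker]
    apply Units.ext
    rw [MonoidHom.comp_apply, Matrix.GeneralLinearGroup.val_det_apply, Units.val_one]
    show (s₀ : GL (J m') F₀).1.det = 1
    rw [hs₀]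
    exact hdet
  have hΩ := ThetaO_mem_omega_of_special S h2 hs₀S
  have hincl : Subgroup.inclusion (isometryGroup_le_GO (⇑(qfMinus m' F₀ S.a₀ S.b₀))) s₀ = k' :=
    Subtype.ext hs₀
  have h4 : Phi (⇑(qfPlus (m' + 1) F)) (S.Theta k) =
      PhiO (⇑(qfPlus (m' + 1) F)) (ThetaO S s₀) := by
    show _ = Phi (⇑(qfPlus (m' + 1) F)) (Subgroup.inclusion
      (isometryGroup_le_GO (⇑(qfPlus (m' + 1) F))) (ThetaO S s₀))
    rw [incl_ThetaO, hincl, hk', map_mul, S.Theta_scalarGO, map_mul, Phi_scalarGO, mul_one]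
  rw [h4, inn_eq_map]
  exact ⟨_, hΩ, rfl⟩

end square


/-! ### the criterion for `C_G(x₂) ≤ Inn` -/

section criterion

variable (lam : Fin (m' + 1) → Fˣ)
  (hlam : torusMat lam * Cfsg.reflectionMatrix (⇑(qfPlus (m' + 1) F)) (vLast m') =
    -(Cfsg.reflectionMatrix (⇑(qfPlus (m' + 1) F)) (vLast m') * (torusMat lam).map S.σ))
  (z : Fˣ) (hz : S.σ (z : F) = -(z : F))

theorem map_smul_rect {α β : Type*} (σ : F ≃+* F) (c : F) (A : Matrix α β F) :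
    (c • A).map σ = σ c • A.map σ := by
  ext i k
  simp only [Matrix.map_apply, Matrix.smul_apply, smul_eq_mul, map_mul]

include hlam hz in
/-- the similarity over the fixed field attached to the torus element -/
theorem exists_delta :
    ∃ δ₀ : ↥(GO (⇑(qfMinus m' F₀ S.a₀ S.b₀))),
      S.Theta δ₀ = scalarGO (qfPlus (m' + 1) F) z⁻¹ * torusGO lam := by
  apply exists_Theta_of_fixed S
  have hcoe : ((scalarGO (qfPlus (m' + 1) F) z⁻¹ * torusGO lam :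
      ↥(GO (⇑(qfPlus (m' + 1) F)))) : GL (Fin (m' + 1) ⊕ Fin (m' + 1)) F).1 =
      ((z : F)⁻¹) • torusMat lam := by
    show ((scalarGO (qfPlus (m' + 1) F) z⁻¹ : ↥(GO _)) : GL (Fin (m' + 1) ⊕ Fin (m' + 1)) F).1 *
      ((torusGO lam : ↥(GO _)) : GL (Fin (m' + 1) ⊕ Fin (m' + 1)) F).1 = _
    rw [scalarGO_neg_one_coe, torusGO_coe, Matrix.smul_mul, Matrix.one_mul,
      Units.val_inv_eq_inv_val]
  rw [hcoe, map_smul_rect, map_inv₀, hz, Matrix.mul_smul, Matrix.smul_mul]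
  have h1 : Cfsg.reflectionMatrix (⇑(qfPlus (m' + 1) F)) (vLast m') * (torusMat lam).map S.σ =
      -(torusMat lam * Cfsg.reflectionMatrix (⇑(qfPlus (m' + 1) F)) (vLast m')) := by
    rw [hlam, neg_neg]
  rw [h1, Matrix.neg_mul, Matrix.mul_assoc, refl_sq, Matrix.mul_one, inv_neg, neg_smul_neg]

include hlam hz h2 in
/-- the multiplier of `δ₀` is not a square in the fixed field -/
theorem not_isSquare_mu_delta (δ₀ : ↥(GO (⇑(qfMinus m' F₀ S.a₀ S.b₀))))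
    (hδ₀ : S.Theta δ₀ = scalarGO (qfPlus (m' + 1) F) z⁻¹ * torusGO lam) :
    ¬ IsSquare ((mu (⇑(qfMinus m' F₀ S.a₀ S.b₀)) δ₀ : F₀ˣ) : F₀) := by
  rintro ⟨c₀, hc₀⟩
  have h1 := S.mu_Theta δ₀
  rw [hδ₀] at h1
  have h3 := map_mul (muHom (⇑(qfPlus (m' + 1) F)) hneP)
    (scalarGO (qfPlus (m' + 1) F) z⁻¹) (torusGO lam)
  rw [muHom_apply, muHom_apply, muHom_apply, mu_scalarGO _ hneP,
    mu_of_isometry _ hneP (torusGO lam) (torus lam).2, mul_one, h1] at h3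
  have h4 := congrArg Units.val h3
  rw [Units.coe_map, Units.val_mul, Units.val_inv_eq_inv_val, hc₀] at h4
  have h5 : ((z : F)⁻¹ - S.j c₀) * ((z : F)⁻¹ + S.j c₀) = 0 := by
    have h6 : S.j (c₀ * c₀) = (z : F)⁻¹ * (z : F)⁻¹ := h4
    rw [map_mul] at h6
    linear_combination -h6
  have hfix : S.σ ((z : F)⁻¹) = (z : F)⁻¹ := by
    rw [S.hι]
    rcases mul_eq_zero.mp h5 with h | h
    · exact ⟨c₀, (sub_eq_zero.mp h).symm⟩
    · refine ⟨-c₀, ?_⟩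
      rw [map_neg]
      linear_combination -h
  rw [map_inv₀, hz, inv_neg] at hfix
  have h7 : (2 : F) * (z : F)⁻¹ = 0 := by linear_combination -hfix
  rcases mul_eq_zero.mp h7 with h | h
  · exact h2 h
  · exact (inv_ne_zero (Units.ne_zero z)) h

include hlam hz in
/-- **if the torus element lies in `Ω`, then `C_G(x₂) ≤ Inn`** -/
theorem cent_le_inn (hsq : IsSquare (∏ i, ((lam i : Fˣ) : F))) :
    (GzP h2 m').map (Phi (⇑(qfPlus (m' + 1) F))) ⊓ Subgroup.centralizer {S.x₂} ≤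
      Inn (POmega F (⇑(qfPlus (m' + 1) F))) := by
  have hQ := Cfsg.Agent.Lib.Helper14_POmegaSimple.nondegenerate_qfPlus (F := F) (m' + 1)
  have hne₀ : ∃ v, qfMinus m' F₀ S.a₀ S.b₀ v ≠ 0 := ⟨_, nonsing_e0 m' S.a₀ S.b₀⟩
  obtain ⟨δ₀, hδ₀⟩ := exists_delta S lam hlam z hz
  have hδns := not_isSquare_mu_delta S h2 lam hlam z hz δ₀ hδ₀
  -- `Theta δ₀` lies in `G°` and induces an inner automorphism
  have htΩ : torus lam ∈ Omega F (⇑(qfPlus (m' + 1) F)) := (torus_mem_omega_iff h2 lam).mpr hsq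
  have hδinn : Phi (⇑(qfPlus (m' + 1) F)) (S.Theta δ₀) ∈
      Inn (POmega F (⇑(qfPlus (m' + 1) F))) := by
    rw [hδ₀, map_mul, Phi_scalarGO, one_mul, Phi_torusGO, inn_eq_map]
    exact ⟨_, htΩ, rfl⟩
  have hδGz : S.Theta δ₀ ∈ GzP h2 m' := by
    apply mem_Gz_of_Phi_mem h2 (qfPlus (m' + 1) F) hQ S.hn hneP (card_plus (m' + 1))
    exact (pso_le_Gz h2 (qfPlus (m' + 1) F) hQ hneP (card_plus (m' + 1)))
      ((inn_le_pso h2 (qfPlus (m' + 1) F) hQ) hδinn)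
  intro y hy
  rw [Subgroup.mem_inf, mem_centralizer_singleton'] at hy
  obtain ⟨hyG, hcomm⟩ := hy
  obtain ⟨g, hg, rfl⟩ := hyG
  obtain ⟨k, hk⟩ := S.exists_Theta_of_comm g hcomm
  have hkGz : S.Theta k ∈ GzP h2 m' := by
    apply mem_Gz_of_Phi_mem h2 (qfPlus (m' + 1) F) hQ S.hn hneP (card_plus (m' + 1))
    rw [hk]
    exact ⟨g, hg, rfl⟩
  rw [← hk]
  by_cases hsqk : IsSquare ((mu (⇑(qfMinus m' F₀ S.a₀ S.b₀)) k : F₀ˣ) : F₀)
  · exact inn_of_sq S h2 k hsqk hkGz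
  · -- divide by `δ₀`
    have h1 : IsSquare ((mu (⇑(qfMinus m' F₀ S.a₀ S.b₀)) (k * δ₀⁻¹) : F₀ˣ) : F₀) := by
      have h3 := map_mul (muHom (⇑(qfMinus m' F₀ S.a₀ S.b₀)) hne₀) k δ₀⁻¹
      rw [map_inv, muHom_apply, muHom_apply, muHom_apply] at h3
      rw [h3, Units.val_mul, Units.val_inv_eq_inv_val]
      apply Cfsg.Agent.Lib.Helper44_FinSq.isSquare_mul_of_nonsq_of_nonsq hsqk
      intro h
      apply hδns
      obtain ⟨d, hd⟩ := h
      refine ⟨d⁻¹, ?_⟩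
      rw [← mul_inv, ← hd, inv_inv]
    have h3 : S.Theta (k * δ₀⁻¹) ∈ GzP h2 m' := by
      rw [map_mul, map_inv]
      exact Subgroup.mul_mem _ hkGz (Subgroup.inv_mem _ hδGz)
    have h4 := inn_of_sq S h2 (k * δ₀⁻¹) h1 h3
    have h5 := Subgroup.mul_mem _ h4 hδinn
    rw [← map_mul, ← map_mul, inv_mul_cancel_right] at h5
    exact h5

include hlam in
/-- **if the torus element does not lie in `Ω`, then `C_G(x₂)` is not contained in `Inn`** -/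
theorem not_cent_le_inn (hneg : negOne (qfPlus (m' + 1) F) ∈ Omega F (⇑(qfPlus (m' + 1) F)))
    (hns : ¬ IsSquare (∏ i, ((lam i : Fˣ) : F))) :
    ¬ (GzP h2 m').map (Phi (⇑(qfPlus (m' + 1) F))) ⊓ Subgroup.centralizer {S.x₂} ≤
      Inn (POmega F (⇑(qfPlus (m' + 1) F))) := by
  have hQ := Cfsg.Agent.Lib.Helper14_POmegaSimple.nondegenerate_qfPlus (F := F) (m' + 1)
  intro hle
  have hy : Phi (⇑(qfPlus (m' + 1) F)) (torusGO lam) ∈
      (GzP h2 m').map (Phi (⇑(qfPlus (m' + 1) F))) ⊓ Subgroup.centralizer {S.x₂} := by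
    rw [Subgroup.mem_inf, mem_centralizer_singleton']
    refine ⟨?_, torus_comm_x₂ S lam hlam⟩
    apply pso_le_Gz h2 (qfPlus (m' + 1) F) hQ hneP (card_plus (m' + 1))
    rw [Phi_torusGO, psoAut_eq_map]
    exact ⟨_, torus_mem_special lam, rfl⟩
  have h1 := hle hy
  rw [Phi_torusGO] at h1
  have h3 := mem_omega_of_PhiO_mem_inn h2 (qfPlus (m' + 1) F) hQ S.hn hneg _ h1
  exact hns ((torus_mem_omega_iff h2 lam).mp h3)

end criterion


end Cfsg.Agent.Lib.Helper44_PlusGFSplit
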