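import Mathlib
import Cfsg.Prelude.Def_LieTypeDatum
import Cfsg.Agent.Lib.Helper14_SplitClass

/-!
# S2717 package D3 (helper88, for helper44): the split counts 1, 2, 4 from a chain
`K ≤ P ≤ G` of index-two steps and the position of the centralizer.
-/

set_option autoImplicit false

namespace Cfsg.Agent.Lib.Helper88_S2717_D3

open Cfsg Cfsg.Agent.Lib.Helper14_SplitClass

variable {X : Type*} [Group X]

theorem count_one (G K : Subgroup X) (h : K = G) (x : X) : splitClassCount G K x = 1 := by
  subst h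
  have hN : (K.subgroupOf K).Normal := by
    rw [Subgroup.subgroupOf_self]
    infer_instance
  rw [splitClassCount_eq_index K K le_rfl hN x, Subgroup.subgroupOf_self, top_sup_eq,
    Subgroup.index_top]

theorem d3_subgroupOf_inf_centralizer_le (G K : Subgroup X) (x : X)
    (hC : G ⊓ Subgroup.centralizer {x} ≤ K) :
    (Subgroup.centralizer {x}).subgroupOf G ≤ K.subgroupOf G := by
  intro g hg
  rw [Subgroup.mem_subgroupOf] at hg ⊢
  exact hC ⟨g.2, hg⟩

theorem count_four (G K P : Subgroup X) (hKP : K ≤ P) (hPG : P ≤ G)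
    (hN : (K.subgroupOf G).Normal) (hKPi : K.relIndex P = 2) (hPGi : P.relIndex G = 2) (x : X)
    (hC : G ⊓ Subgroup.centralizer {x} ≤ K) : splitClassCount G K x = 4 := by
  rw [splitClassCount_eq_index G K (hKP.trans hPG) hN x,
    sup_eq_left.mpr (d3_subgroupOf_inf_centralizer_le G K x hC)]
  have h1 := Subgroup.relIndex_mul_relIndex K P G hKP hPG
  rw [hKPi, hPGi] at h1
  exact h1.symm

theorem count_two (G K P : Subgroup X) (hKP : K ≤ P) (hPG : P ≤ G)
    (hN : (K.subgroupOf G).Normal) (hKPi : K.relIndex P = 2) (hPGi : P.relIndex G = 2) (x : X)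
    (hCP : G ⊓ Subgroup.centralizer {x} ≤ P) (hCK : ¬ G ⊓ Subgroup.centralizer {x} ≤ K) :
    splitClassCount G K x = 2 := by
  rw [splitClassCount_eq_index G K (hKP.trans hPG) hN x]
  set K' := K.subgroupOf G with hK'
  set C' := (Subgroup.centralizer {x}).subgroupOf G with hC'
  set P' := P.subgroupOf G with hP'
  have hKP' : K' ≤ P' := fun g hg => hKP hg
  have hCP' : C' ≤ P' := d3_subgroupOf_inf_centralizer_le G P x hCP
  have hS : K' ⊔ C' ≤ P' := sup_le hKP' hCP'
  have hnot : ¬ C' ≤ K' := by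
    intro hle
    apply hCK
    rintro g ⟨hgG, hgC⟩
    have : (⟨g, hgG⟩ : G) ∈ K' := hle (by rw [hC', Subgroup.mem_subgroupOf]; exact hgC)
    exact this
  -- indices
  have hPidx : P'.index = 2 := hPGi
  have hKidx : K'.index = 4 := by
    have h1 := Subgroup.relIndex_mul_relIndex K P G hKP hPG
    rw [hKPi, hPGi] at h1
    exact h1.symm
  have hrel : K'.relIndex P' = 2 := by
    have h1 := Subgroup.relIndex_mul_index hKP'
    rw [hPidx, hKidx] at h1
    omega
  have h2 := Subgroup.relIndex_mul_relIndex K' (K' ⊔ C') P' le_sup_left hS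
  rw [hrel] at h2
  have hne1 : K'.relIndex (K' ⊔ C') ≠ 1 := by
    intro h1
    rw [Subgroup.relIndex_eq_one] at h1
    exact hnot (le_sup_right.trans h1)
  have hdvd : K'.relIndex (K' ⊔ C') ∣ 2 := Dvd.intro _ h2
  have h3 : K'.relIndex (K' ⊔ C') = 2 := by
    rcases (Nat.dvd_prime Nat.prime_two).mp hdvd with h | h
    · exact absurd h hne1
    · exact h
  rw [h3] at h2
  have h4 : (K' ⊔ C').relIndex P' = 1 := by omega
  rw [Subgroup.relIndex_eq_one] at h4
  rw [le_antisymm hS h4]
  exact hPidx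

end Cfsg.Agent.Lib.Helper88_S2717_D3
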