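import Mathlib
import Cfsg.Agent.Lib.Helper44_PlusGFSplit
import Cfsg.Agent.Lib.Helper44_PlusGFMain
import Cfsg.Agent.Lib.Helper88_S2717_D3
import Cfsg.Agent.Lib.Helper14_NegOneStd
import Cfsg.Agent.Lib.Helper14_GODelta

/-!
# Involutory graph-field automorphisms of `PΩ⁺_{2m}(q)`: the number of `Inn`-classes (helper44)
-/

set_option autoImplicit false
set_option linter.unusedSectionVars false
set_option linter.unusedVariables false

namespace Cfsg.Agent.Lib.Helper44_PlusGFCount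

open Cfsg Matrix Module Cfsg.Agent.Lib.Helper44_Orth Cfsg.Agent.Lib.Helper14_AutOmega
  Cfsg.Agent.Lib.Helper44_OrthField Cfsg.Agent.Lib.Helper44_FixField
  Cfsg.Agent.Lib.Helper14_CentOmega Cfsg.Agent.Lib.Helper44_OrthCoset
  Cfsg.Agent.Lib.Helper44_StdForms Cfsg.Agent.Lib.Helper44_Refl
  Cfsg.Agent.Lib.Helper44_OrthPlusMain Cfsg.Agent.Lib.Helper44_OrthMinusK
  Cfsg.Agent.Lib.Helper44_OrthMinusCoset
  Cfsg.Agent.Lib.Helper44_OrthMinusCent
  Cfsg.Agent.Lib.Helper44_PlusMinusIsom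
  Cfsg.Agent.Lib.Helper44_PlusGFSetup Cfsg.Agent.Lib.Helper44_SplitGen
  Cfsg.Agent.Lib.Helper44_PlusGFSplit Cfsg.Agent.Lib.Helper44_PlusGFConj
  Cfsg.Agent.Lib.Helper14_OmegaIndex Cfsg.Agent.Lib.Helper14_InndiagQuot
  Cfsg.Agent.Lib.Helper44_Spinor Cfsg.Agent.Lib.Helper44_OrthOddCent
  Cfsg.Agent.Lib.Helper88_S2717_D1 Cfsg.Agent.Lib.Helper88_S2717_D2
  Cfsg.Agent.Lib.Helper88_S2717_D3 Cfsg.Agent.Lib.Helper88_S2717_D4

open Cfsg.Agent.Lib.Helper14_GOChars (mu mu_eq mu_spec chiHom chiHom_eq_one_iff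
  chiHom_eq_neg_one_iff sgnHom sgnHom_eq_one_iff psi ker_psi SO' Z' mem_SO'_iff muHom muHom_apply)

universe u u₀

/-- conjugating by an element of `H` does not change the split class count -/
theorem splitClassCount_conj_mem {X : Type*} [Group X] (H K : Subgroup X) (α x : X)
    (hα : α ∈ H) :
    Cfsg.splitClassCount H K (α * x * α⁻¹) = Cfsg.splitClassCount H K x := by
  unfold Cfsg.splitClassCount
  symm
  apply Nat.card_congr
  have hiff : ∀ y, Cfsg.IsConjUnder H x y ↔ Cfsg.IsConjUnder H (α * x * α⁻¹) y := by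
    intro y
    constructor
    · rintro ⟨h, hh, rfl⟩
      exact ⟨h * α⁻¹, H.mul_mem hh (H.inv_mem hα), by group⟩
    · rintro ⟨h, hh, rfl⟩
      exact ⟨h * α, H.mul_mem hh hα, by group⟩
  let e : {y : X // Cfsg.IsConjUnder H x y} ≃ {y : X // Cfsg.IsConjUnder H (α * x * α⁻¹) y} :=
    Equiv.subtypeEquiv (Equiv.refl X) hiff
  refine Quot.congr e ?_
  intro a b
  exact Iff.rfl

section arith

variable {F : Type u} [Field F] [Fintype F]

/-- squares among powers in a finite field -/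
theorem isSquare_pow_iff (z : F) (hz : z ≠ 0) (n : ℕ) :
    IsSquare (z ^ n) ↔ (IsSquare z ∨ Even n) := by
  constructor
  · intro h
    by_contra hcon
    push Not at hcon
    obtain ⟨hzs, hn⟩ := hcon
    rw [Nat.not_even_iff_odd] at hn
    obtain ⟨k, rfl⟩ := hn
    rw [pow_succ] at h
    have h1 : IsSquare (z ^ (2 * k)) := ⟨z ^ k, by rw [← pow_add, two_mul]⟩
    have h0 : z ^ (2 * k) ≠ 0 := pow_ne_zero _ hz
    rw [mul_comm, Cfsg.Agent.Lib.Helper44_FinSq.isSquare_mul_sq_iff h0 h1] at h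
    exact hzs h
  · rintro (h | ⟨k, rfl⟩)
    · exact h.pow n
    · exact ⟨z ^ k, by rw [← pow_add]⟩

end arith

section odd

variable {F : Type u} [Field F] [Fintype F] {F₀ : Type u₀} [Field F₀] [Fintype F₀] {m' : ℕ}

theorem Dgen_eq_Gz (h2 : (2 : F) ≠ 0) :
    Dgen (⇑(qfPlus (m' + 1) F)) = (GzP h2 m').map (Phi (⇑(qfPlus (m' + 1) F))) :=
  Cfsg.Agent.Lib.Helper14_InndiagMain.autSubgroupOf_preserves_eq h2 (qfPlus (m' + 1) F)
    (Cfsg.Agent.Lib.Helper14_POmegaSimple.nondegenerate_qfPlus (F := F) (m' + 1)) hneP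
    (card_plus (m' + 1)) (PreservesSingularClasses (⇑(qfPlus (m' + 1) F)))
    (Cfsg.Agent.Lib.Helper14_InndiagPlus.preserves_plus_iff (m' + 1) h2 (by omega))

variable (S : GFSetup F F₀ m') (h2 : (2 : F) ≠ 0)

include S h2 in
theorem negOne_mem : negOne (qfPlus (m' + 1) F) ∈ Omega F (⇑(qfPlus (m' + 1) F)) := by
  have hodd := Cfsg.Agent.Lib.Helper44_FinSq.odd_card_of_two_ne_zero h2
  rw [Cfsg.Agent.Lib.Helper14_NegOneStd.negOne_mem_plus_iff hodd (m' + 1) (by omega)]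
  right
  obtain ⟨k, hk⟩ := exists_card_fixField S.σ S.hσ h2
  rw [card_eq_sq S.σ S.hσ, hk]
  have : (2 * k + 1) ^ 2 = 4 * (k * (k + 1)) + 1 := by ring
  rw [this]
  omega

include S h2 in
theorem relIndex_inn_psoP :
    (Inn (POmega F (⇑(qfPlus (m' + 1) F)))).relIndex (psoAut F (⇑(qfPlus (m' + 1) F))) = 2 :=
  relIndex_inn_pso h2 (qfPlus (m' + 1) F)
    (Cfsg.Agent.Lib.Helper14_POmegaSimple.nondegenerate_qfPlus (F := F) (m' + 1)) S.hn
    (negOne_mem S h2)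

include S in
theorem relIndex_pso_GzP :
    (psoAut F (⇑(qfPlus (m' + 1) F))).relIndex
      ((GzP h2 m').map (Phi (⇑(qfPlus (m' + 1) F)))) = 2 := by
  obtain ⟨ε, hε⟩ := FiniteField.exists_nonsquare
    (Cfsg.Agent.Lib.Helper44_FinSq.ringChar_ne_two_of_two_ne_zero h2)
  have hε0 : ε ≠ 0 := by
    rintro rfl; exact hε ⟨0, by simp⟩
  have hmem : Cfsg.Agent.Lib.Helper14_GODelta.dPlusGL (m' + 1) (Units.mk0 ε hε0) ∈
      GO (⇑(qfPlus (m' + 1) F)) := by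
    rw [coe_qfPlus]
    exact Cfsg.Agent.Lib.Helper14_GODelta.dPlusGL_mem (m' + 1) _
  have hmu : mu (⇑(qfPlus (m' + 1) F))
      ⟨Cfsg.Agent.Lib.Helper14_GODelta.dPlusGL (m' + 1) (Units.mk0 ε hε0), hmem⟩ =
        Units.mk0 ε hε0 := by
    apply mu_eq
    · exact hneP
    · intro v
      rw [Cfsg.Agent.Lib.Helper14_GODelta.dPlusGL_coe, coe_qfPlus,
        Cfsg.Agent.Lib.Helper14_GODelta.quadFormPlus_dPlus]
  have hchi : chiHom (qfPlus (m' + 1) F) hneP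
      ⟨Cfsg.Agent.Lib.Helper14_GODelta.dPlusGL (m' + 1) (Units.mk0 ε hε0), hmem⟩ = -1 := by
    rw [chiHom_eq_neg_one_iff, hmu, Units.val_mk0]
    exact hε
  exact relIndex_pso_Gz h2 (qfPlus (m' + 1) F)
    (Cfsg.Agent.Lib.Helper14_POmegaSimple.nondegenerate_qfPlus (F := F) (m' + 1)) S.hn hneP
    (card_plus (m' + 1)) _ hchi

include S in
/-- **the split count of the standard involutory graph-field automorphism**, odd characteristic -/
theorem count_x₂ :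
    Cfsg.splitClassCount ((GzP h2 m').map (Phi (⇑(qfPlus (m' + 1) F))))
      (Inn (POmega F (⇑(qfPlus (m' + 1) F)))) S.x₂ =
      if Odd (m' + 1) ∧ Nat.card ↥(fixField S.σ) % 4 = 1 then 4 else 2 := by
  have hQ := Cfsg.Agent.Lib.Helper14_POmegaSimple.nondegenerate_qfPlus (F := F) (m' + 1)
  obtain ⟨z₀, hz₀, hσz⟩ := exists_anti S.σ S.hσ h2
  obtain ⟨t₀, ht₀⟩ := exists_norm_neg_one S.σ S.hσ
  have ht0 : t₀ ≠ 0 := by
    intro h
    rw [h, zero_mul] at ht₀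
    exact one_ne_zero (neg_eq_zero.mp ht₀.symm)
  have hlam := torus_refl_comm m' S.σ (Units.mk0 z₀ hz₀) (Units.mk0 t₀ ht0) hσz ht₀
  have hprod := prod_lamZT m' (Units.mk0 z₀ hz₀) (Units.mk0 t₀ ht0)
  have hsqiff : IsSquare (∏ i, ((lamZT m' (Units.mk0 z₀ hz₀) (Units.mk0 t₀ ht0) i : Fˣ) : F)) ↔
      (Odd (m' + 1) ∧ Nat.card ↥(fixField S.σ) % 4 = 1) := by
    rw [hprod, Units.val_mk0, Units.val_mk0,
      Cfsg.Agent.Lib.Helper44_FinSq.isSquare_mul_iff_iff (pow_ne_zero _ hz₀) ht0,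
      isSquare_pow_iff _ hz₀, isSquare_anti_iff S.σ S.hσ h2 z₀ hz₀ hσz,
      isSquare_norm_neg_one_iff S.σ S.hσ h2 t₀ ht₀]
    obtain ⟨k, hk⟩ := exists_card_fixField S.σ S.hσ h2
    rw [Nat.odd_add_one, Nat.not_odd_iff_even, Nat.even_iff]
    omega
  have hKP := inn_le_pso h2 (qfPlus (m' + 1) F) hQ
  have hPG := pso_le_Gz h2 (qfPlus (m' + 1) F) hQ hneP (card_plus (m' + 1))
  have hN : ((Inn (POmega F (⇑(qfPlus (m' + 1) F)))).subgroupOf
      ((GzP h2 m').map (Phi (⇑(qfPlus (m' + 1) F))))).Normal := inferInstance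
  by_cases hsq : IsSquare (∏ i, ((lamZT m' (Units.mk0 z₀ hz₀) (Units.mk0 t₀ ht0) i : Fˣ) : F))
  · rw [if_pos (hsqiff.mp hsq)]
    exact count_four _ _ _ hKP hPG hN (relIndex_inn_psoP S h2) (relIndex_pso_GzP S h2) S.x₂
      (cent_le_inn S h2 _ hlam (Units.mk0 z₀ hz₀) hσz hsq)
  · rw [if_neg (fun h => hsq (hsqiff.mpr h))]
    exact count_two _ _ _ hKP hPG hN (relIndex_inn_psoP S h2) (relIndex_pso_GzP S h2) S.x₂
      (cent_le_pso S h2) (not_cent_le_inn S h2 _ hlam (negOne_mem S h2) hsq)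

end odd

section even

variable {F : Type u} [Field F] [Fintype F] {m' : ℕ}

/-- in characteristic two the inner-diagonal group is the inner automorphism group -/
theorem inn_eq_Dgen (h2 : (2 : F) = 0) (hm : 4 ≤ m') :
    Inn (POmega F (⇑(qfPlus (m' + 1) F))) = Dgen (⇑(qfPlus (m' + 1) F)) := by
  have hQ := Cfsg.Agent.Lib.Helper14_POmegaSimple.nondegenerate_qfPlus (F := F) (m' + 1)
  have hn : 5 ≤ Fintype.card (Fin (m' + 1) ⊕ Fin (m' + 1)) := by rw [card_plus]; omega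
  rw [Dgen_eq]
  have key := fun g => chi_eq_one_iff_inn (qfPlus (m' + 1) F) h2 hQ hn
    (GFSetup.hvL (F := F) (m' := m')) (chiP (F := F) (m' + 1))
    (fun c => Cfsg.Agent.Lib.Helper44_OrthChi.chiGO_scalarGO _ _ _ _ _ c)
    (reflGO (qfPlus (m' + 1) F) (vLast m') (GFSetup.hvL (F := F) (m' := m')))
    (by rw [chiGO_reflGO]; exact ofAdd_one_ne_one) g
  apply le_antisymm
  · intro β hβ
    obtain ⟨g, rfl⟩ := inn_le_range (qfPlus (m' + 1) F) hβ
    exact ⟨g, MonoidHom.mem_ker.mpr ((key g).mpr hβ), rfl⟩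
  · rintro _ ⟨g, hg, rfl⟩
    exact (key g).mp (MonoidHom.mem_ker.mp hg)

end even

section main

variable {F : Type u} [Field F] [Fintype F]

/-- the split counts of S2717, for a function equal to the plus-type standard form -/
theorem gf_count_aux {p f : ℕ} [Fact p.Prime] (hF : Fintype.card F = p ^ f) {m' : ℕ}
    (hm : 4 ≤ m') (Qf : (Fin (m' + 1) ⊕ Fin (m' + 1) → F) → F)
    (hQf : Qf = ⇑(qfPlus (m' + 1) F)) (hAut : gammaPOmega F Qf = ⊤)
    (x : MulAut (POmega F Qf)) (hx : GFgen Qf x) (hx2 : orderOf x = 2)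
    (F₀ : Type u₀) [Field F₀] [Fintype F₀] (hF₀ : Fintype.card F₀ = p ^ (f / 2)) :
    (p = 2 → Cfsg.splitClassCount (Dgen Qf) (Inn (POmega F Qf)) x = 1) ∧
    ((p ≠ 2 ∧ Odd (m' + 1) ∧ p ^ (f / 2) % 4 = 1) →
      Cfsg.splitClassCount (Dgen Qf) (Inn (POmega F Qf)) x = 4) ∧
    ((p ≠ 2 ∧ ¬ (Odd (m' + 1) ∧ p ^ (f / 2) % 4 = 1)) →
      Cfsg.splitClassCount (Dgen Qf) (Inn (POmega F Qf)) x = 2) := by
  have hcast : ((p : F)) ^ f = 0 := by
    rw [← Nat.cast_pow, ← hF]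
    exact Nat.cast_card_eq_zero F
  have hp0 : (p : F) = 0 := pow_eq_zero_iff (M₀ := F) (by
    intro h
    rw [h, pow_zero] at hcast
    exact one_ne_zero hcast) |>.mp hcast
  have key : p ≠ 2 → Cfsg.splitClassCount (Dgen Qf) (Inn (POmega F Qf)) x =
      if Odd (m' + 1) ∧ p ^ (f / 2) % 4 = 1 then 4 else 2 := by
    intro hp
    have hpodd : Odd p := (Fact.out : p.Prime).odd_of_ne_two hp
    have h2 : (2 : F) ≠ 0 := by
      apply Cfsg.Agent.Lib.Helper44_FinSq.two_ne_zero_of_odd_card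
      rw [hF]
      exact hpodd.pow
    subst hQf
    obtain ⟨α, σ, v, hv, hσ, -, -⟩ := gf_data (by omega : 3 ≤ m' + 1) x hx hx2
    obtain ⟨hdvd, hcard⟩ := card_fixField σ.1 hF hσ
    obtain ⟨j, hι⟩ := exists_embedding σ.1 hF hσ F₀ hF₀
    obtain ⟨S, hSσ, hSj⟩ := exists_setup hm σ.1 hσ j hι
    obtain ⟨h, hh, hx₂⟩ := gf_conj_aux (by omega : 3 ≤ m' + 1) _ rfl hAut x S.x₂ hx S.x₂_GF hx2
      S.orderOf_x₂
    rw [← splitClassCount_conj_mem _ _ h x hh, ← hx₂, Dgen_eq_Gz h2, count_x₂ S h2, hSσ, hcard]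
  refine ⟨?_, ?_, ?_⟩
  · intro hp
    subst hQf
    have h2 : (2 : F) = 0 := by
      rw [hp] at hp0
      exact_mod_cast hp0
    exact count_one _ _ (inn_eq_Dgen h2 hm) x
  · rintro ⟨hp, hc⟩
    rw [key hp, if_pos hc]
  · rintro ⟨hp, hc⟩
    rw [key hp, if_neg hc]

end main

end Cfsg.Agent.Lib.Helper44_PlusGFCount
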