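import Mathlib
import Cfsg.Agent.Lib.Helper44_PlusGFCount
import Cfsg.Agent.Lib.Helper44_OrthSubfield
import Cfsg.Agent.Lib.Helper44_OrthOddCentMain
import Cfsg.Agent.Lib.Helper44_PSLnFieldCent
import Cfsg.Agent.Lib.Helper14_NegOneStd
import Cfsg.Agent.Lib.Helper14_InndiagPlus

/-!
# Field automorphisms of prime order of `PΩ⁺_{2m}(q)`: centralizer and class splitting (helper44)

Standard position: for the standard field automorphism `fieldO σ` of prime order `r`, the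
centralizer in `Inndiag` is `Inndiag` of the group over the fixed field, and the `Inndiag`-class
splits into `1` (`r` odd or `q` even), `2` (`r = 2`, `m` odd, `q₀ ≡ 1 mod 4`) or `4` classes of
`Inn`.  The general statement (S2715) is derived under the hypothesis that `Inndiag` is normal in
the automorphism group.
-/

set_option autoImplicit false
set_option linter.unusedSectionVars false
set_option linter.unusedVariables false

namespace Cfsg.Agent.Lib.Helper44_OrthPlusCent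

open Cfsg Matrix Module Cfsg.Agent.Lib.Helper44_Orth Cfsg.Agent.Lib.Helper14_AutOmega
  Cfsg.Agent.Lib.Helper44_H90i Cfsg.Agent.Lib.Helper44_H90 Cfsg.Agent.Lib.Helper44_OrthField
  Cfsg.Agent.Lib.Helper44_OrthFaith Cfsg.Agent.Lib.Helper14_CentOmega
  Cfsg.Agent.Lib.Helper44_OrthCoset Cfsg.Agent.Lib.Helper44_StdForms
  Cfsg.Agent.Lib.Helper44_OrthEvenCoset Cfsg.Agent.Lib.Helper44_OrthMinusK
  Cfsg.Agent.Lib.Helper44_OrthPlusMain Cfsg.Agent.Lib.Helper44_OrthMinusCoset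
  Cfsg.Agent.Lib.Helper44_OrthBase Cfsg.Agent.Lib.Helper44_FixField
  Cfsg.Agent.Lib.Helper44_OrthMinusCent Cfsg.Agent.Lib.Helper44_OrthSubfield
  Cfsg.Agent.Lib.Helper14_InndiagPlus Cfsg.Agent.Lib.Helper44_OrthChi

open Cfsg.Agent.Lib.Helper14_GOChars (mu mu_eq mu_spec)

/-! ### base change of the plus-type form along a subfield -/

section compat

universe u u₀

variable {F : Type u} [Field F] {F₀ : Type u₀} [Field F₀] (j : F₀ →+* F) (m : ℕ)

theorem compat_qfPlus : Compat j (qfPlus m F₀) (qfPlus m F) := by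
  intro v
  have h1 := congrFun (coe_qfPlus m F) (vmap j v)
  have h2 := congrFun (coe_qfPlus m F₀) v
  rw [h1, h2]
  simp only [Cfsg.quadFormPlus, vmap_apply, map_sum, map_mul]

/-- base change of similarities of the plus-type form along `j` -/
abbrev bcP : ↥(GO (⇑(qfPlus m F₀))) →* ↥(GO (⇑(qfPlus m F))) :=
  bcGO j (compat_qfPlus j m)

theorem mu_bcP (hm : 1 ≤ m) (g : ↥(GO (⇑(qfPlus m F₀)))) :
    mu (⇑(qfPlus m F)) (bcP j m g) = Units.map (j : F₀ →* F) (mu (⇑(qfPlus m F₀)) g) := by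
  apply mu_eq _ (exists_ne_zero (F := F) m hm)
  intro v
  exact sim_glMap j (compat_qfPlus j m) g.1 _ (fun u => mu_spec _ g u) v

theorem det_bcP (g : ↥(GO (⇑(qfPlus m F₀)))) :
    ((bcP j m g : ↥(GO (⇑(qfPlus m F)))) : GL (Fin m ⊕ Fin m) F).1.det =
      j ((g : GL (Fin m ⊕ Fin m) F₀).1.det) := by
  rw [bcGO_coe, glMap_coe, RingHom.map_det, RingHom.mapMatrix_apply]

end compat

/-! ### the class character of the plus-type form -/

section chi

universe u u₀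

variable {F : Type u} [Field F] [Fintype F] {F₀ : Type u₀} [Field F₀] [Fintype F₀]
  (j : F₀ →+* F) {m : ℕ}

theorem chiP_scalarGO (c : Fˣ) : chiP (F := F) m (scalarGO (qfPlus m F) c) = 1 :=
  chiGO_scalarGO _ _ _ _ _ c

theorem chiP_reflGO (v : Fin m ⊕ Fin m → F) (hv : qfPlus m F v ≠ 0) :
    chiP (F := F) m (reflGO (qfPlus m F) v hv) ≠ 1 := by
  rw [chiP, chiGO_reflGO]
  exact ofAdd_one_ne_one

theorem chiP_iff_det (h2 : (2 : F) ≠ 0) (hm : 1 ≤ m) (g : ↥(GO (⇑(qfPlus m F)))) :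
    chiP (F := F) m g = 1 ↔
      ((g : GL (Fin m ⊕ Fin m) F) : Matrix (Fin m ⊕ Fin m) (Fin m ⊕ Fin m) F).det =
        ((mu (⇑(qfPlus m F)) g : Fˣ) : F) ^ m := by
  rw [chiP, chiGO_eq_one_iff]
  exact preserves_plus_iff m h2 hm g

theorem chiP_iff_inn (h2 : (2 : F) = 0) (hm : 3 ≤ m) (g : ↥(GO (⇑(qfPlus m F)))) :
    chiP (F := F) m g = 1 ↔ Phi (⇑(qfPlus m F)) g ∈ Inn (POmega F (⇑(qfPlus m F))) := by
  have hQ := Cfsg.Agent.Lib.Helper14_POmegaSimple.nondegenerate_qfPlus (F := F) m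
  have hn : 5 ≤ Fintype.card (Fin m ⊕ Fin m) := by rw [card_plus]; omega
  have hv : qfPlus m F (v₀ (F := F) (by omega : 1 ≤ m)) ≠ 0 := by
    rw [qfPlus_v₀]; exact one_ne_zero
  exact chi_eq_one_iff_inn (qfPlus m F) h2 hQ hn hv (chiP (F := F) m)
    (fun c => chiP_scalarGO c) (reflGO (qfPlus m F) _ hv) (chiP_reflGO _ hv) g

/-- the class character is compatible with base change from a subfield -/
theorem chiP_bcP (hm : 3 ≤ m) (g : ↥(GO (⇑(qfPlus m F₀)))) :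
    chiP (F := F) m (bcP j m g) = chiP (F := F₀) m g := by
  apply z2_eq_of_iff
  by_cases h2 : (2 : F₀) = 0
  · have hQ₀ := Cfsg.Agent.Lib.Helper14_POmegaSimple.nondegenerate_qfPlus (F := F₀) m
    have hn : 5 ≤ Fintype.card (Fin m ⊕ Fin m) := by rw [card_plus]; omega
    have hv₀ : qfPlus m F₀ (v₀ (F := F₀) (by omega : 1 ≤ m)) ≠ 0 := by
      rw [qfPlus_v₀]; exact one_ne_zero
    have key := chi_eq_one_iff_inn (qfPlus m F₀) h2 hQ₀ hn hv₀
      ((chiP (F := F) m).comp (bcP j m)) ?_ (reflGO (qfPlus m F₀) _ hv₀) ?_ g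
    · rw [chiP_iff_inn h2 hm g, ← key]
      rfl
    · intro c
      show chiP (F := F) m (bcGO j (compat_qfPlus j m) (scalarGO _ c)) = 1
      rw [bcGO_scalarGO]
      exact chiP_scalarGO _
    · show chiP (F := F) m (bcGO j (compat_qfPlus j m) (reflGO (qfPlus m F₀) _ hv₀)) ≠ 1
      have hv' : qfPlus m F (vmap j (v₀ (F := F₀) (by omega : 1 ≤ m))) ≠ 0 := by
        rw [compat_qfPlus j m]
        exact (map_ne_zero j).mpr hv₀
      rw [bcGO_reflGO j (compat_qfPlus j m) _ hv₀ hv']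
      exact chiP_reflGO _ hv'
  · have h2F : (2 : F) ≠ 0 := by
      intro h0
      apply h2
      apply j.injective
      rw [map_ofNat, h0, map_zero]
    rw [chiP_iff_det h2F (by omega) _, chiP_iff_det h2 (by omega) g, det_bcP, mu_bcP j m (by omega)]
    show j _ = (j ((mu (⇑(qfPlus m F₀)) g : F₀ˣ) : F₀)) ^ m ↔ _
    rw [← map_pow]
    exact j.injective.eq_iff

end chi

/-! ### the centralizer of a standard field automorphism -/

section cent

universe u u₀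

variable {F : Type u} [Field F] [Fintype F] {F₀ : Type u₀} [Field F₀] [Fintype F₀]
  (j : F₀ →+* F) {m : ℕ} (σ : ↥(invSub (⇑(qfPlus m F))))
  (hι : ∀ c : F, σ.1 c = c ↔ c ∈ Set.range j)

/-- the inner-diagonal group of the plus-type form -/
noncomputable abbrev DP (F : Type u) [Field F] [Fintype F] (m : ℕ) :
    Subgroup (MulAut (POmega F (⇑(qfPlus m F)))) :=
  ((chiP (F := F) m).ker).map (Phi (⇑(qfPlus m F)))

/-- similarities over the subfield acting on `PΩ(Q)` -/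
noncomputable def Psi0P : ↥(GO (⇑(qfPlus m F₀))) →* MulAut (POmega F (⇑(qfPlus m F))) :=
  (Phi (⇑(qfPlus m F))).comp (bcP j m)

theorem Psi0P_apply (g : ↥(GO (⇑(qfPlus m F₀)))) :
    Psi0P j g = Phi (⇑(qfPlus m F)) (bcP j m g) := rfl

/-- the centralizer of `fieldO σ` in the inner-diagonal group -/
noncomputable abbrev CDP : Subgroup (MulAut (POmega F (⇑(qfPlus m F)))) :=
  DP F m ⊓ Subgroup.centralizer {fieldO (⇑(qfPlus m F)) σ}

include hι in
theorem mapGO_bcP (g : ↥(GO (⇑(qfPlus m F₀)))) :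
    mapGO (⇑(qfPlus m F)) σ (bcP j m g) = bcP j m g := by
  apply Subtype.ext
  rw [mapGO_coe, bcGO_coe]
  exact mapGLi_glMap σ.1 hι g.1

include hι in
theorem Psi0P_mem (hm : 3 ≤ m) (g : ↥(GO (⇑(qfPlus m F₀))))
    (hg : g ∈ (chiP (F := F₀) m).ker) : Psi0P j g ∈ CDP σ := by
  rw [Subgroup.mem_inf, mem_centralizer_singleton']
  refine ⟨⟨bcP j m g, ?_, rfl⟩, ?_⟩
  · rw [SetLike.mem_coe, MonoidHom.mem_ker, chiP_bcP j hm g]
    exact MonoidHom.mem_ker.mp hg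
  · rw [Psi0P_apply, fieldO_mul_Phi, mapGO_bcP j σ hι g]

/-- a character trivial on scalars takes equal values on similarities inducing the same
automorphism -/
theorem chi_eq_of_Phi_eq {ι : Type} [Fintype ι] [DecidableEq ι] (Q : QuadraticForm F (ι → F))
    (hQ : (QuadraticMap.polarBilin Q).Nondegenerate) (hn : 5 ≤ Fintype.card ι)
    (χ : ↥(GO (⇑Q)) →* Multiplicative (ZMod 2)) (hχs : ∀ c : Fˣ, χ (scalarGO Q c) = 1)
    (g g' : ↥(GO (⇑Q))) (h : Phi (⇑Q) g = Phi (⇑Q) g') : χ g = χ g' := by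
  have hker : g'⁻¹ * g ∈ (Phi (⇑Q)).ker := by
    rw [MonoidHom.mem_ker, map_mul, map_inv, h, inv_mul_cancel]
  rw [ker_Phi Q hQ hn, Subgroup.mem_subgroupOf] at hker
  obtain ⟨c, hc⟩ := exists_scalar_of_mem_scalars' hker
  have h1 : g'⁻¹ * g = scalarGO Q c := Subtype.ext hc
  have h3 : g = g' * scalarGO Q c := by rw [← h1]; group
  rw [h3, map_mul, hχs, mul_one]

include hι in
theorem Psi0P_surj (hm : 3 ≤ m) {r : ℕ} (hr : 0 < r) (hord : orderOf σ.1 = r)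
    (y : MulAut (POmega F (⇑(qfPlus m F)))) (hy : y ∈ CDP σ) :
    ∃ k ∈ (chiP (F := F₀) m).ker, Psi0P j k = y := by
  have hQ := Cfsg.Agent.Lib.Helper14_POmegaSimple.nondegenerate_qfPlus (F := F) m
  have hn : 5 ≤ Fintype.card (Fin m ⊕ Fin m) := by rw [card_plus]; omega
  rw [Subgroup.mem_inf, mem_centralizer_singleton'] at hy
  obtain ⟨⟨g, hgχ, rfl⟩, hcomm⟩ := hy
  obtain ⟨k, hk⟩ := exists_bcGO_of_comm (compat_qfPlus j m) σ hι hQ hn
    (exists_ne_zero (F := F₀) m (by omega)) hr hord g hcomm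
  refine ⟨k, ?_, hk⟩
  rw [MonoidHom.mem_ker, ← chiP_bcP j hm k,
    chi_eq_of_Phi_eq (qfPlus m F) hQ hn (chiP (F := F) m) (fun c => chiP_scalarGO c) _ g hk]
  exact MonoidHom.mem_ker.mp hgχ

theorem Psi0P_eq_one_iff (hm : 3 ≤ m) (g : ↥(GO (⇑(qfPlus m F₀)))) :
    Psi0P j g = 1 ↔ Phi (⇑(qfPlus m F₀)) g = 1 := by
  have hQ := Cfsg.Agent.Lib.Helper14_POmegaSimple.nondegenerate_qfPlus (F := F) m
  have hQ₀ := Cfsg.Agent.Lib.Helper14_POmegaSimple.nondegenerate_qfPlus (F := F₀) m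
  have hn : 5 ≤ Fintype.card (Fin m ⊕ Fin m) := by rw [card_plus]; omega
  have hne : Nonempty (Fin m ⊕ Fin m) := ⟨Sum.inl ⟨0, by omega⟩⟩
  rw [Psi0P_apply, ← MonoidHom.mem_ker, ← MonoidHom.mem_ker, ker_Phi _ hQ hn, ker_Phi _ hQ₀ hn,
    Subgroup.mem_subgroupOf, Subgroup.mem_subgroupOf]
  constructor
  · intro h
    exact scalar_of_glMap_scalar h
  · intro h
    rw [Cfsg.Geo.mem_scalars_iff] at h ⊢
    obtain ⟨u, hu⟩ := h
    refine ⟨Units.map (j : F₀ →* F) u, ?_⟩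
    show g.1.1.map j = _
    rw [hu]
    ext i i'
    simp only [Matrix.map_apply, Matrix.smul_apply, Matrix.one_apply, smul_eq_mul, map_mul]
    by_cases hij : i = i'
    · simp [hij]
    · simp [hij]

include hι in
/-- `C_{Inndiag}(field automorphism) ≅ Inndiag` over the fixed field -/
theorem nonempty_centEquiv_plus (hm : 3 ≤ m) {r : ℕ} (hr : 0 < r) (hord : orderOf σ.1 = r) :
    Nonempty (↥(CDP σ) ≃* ↥(DP F₀ m)) :=
  nonempty_equiv_of_ker_eq _ _ (Psi0P j) (Phi (⇑(qfPlus m F₀)))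
    (fun g hg => Psi0P_mem j σ hι hm g hg)
    (fun y hy => Psi0P_surj j σ hι hm hr hord y hy)
    (fun g _ => Psi0P_eq_one_iff j hm g)

end cent

/-! ### the class of a standard field automorphism: characteristic two and odd order -/

section split

open Cfsg.Agent.Lib.Helper14_OmegaIndex Cfsg.Agent.Lib.Helper44_OrthOddCent
  Cfsg.Agent.Lib.Helper14_SplitClass Cfsg.Agent.Lib.Helper44_Refl
  Cfsg.Agent.Lib.Helper88_S2717_D3

universe u u₀

variable {F : Type u} [Field F] [Fintype F] {F₀ : Type u₀} [Field F₀] [Fintype F₀]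
  (j : F₀ →+* F) {m : ℕ} (σ : ↥(invSub (⇑(qfPlus m F))))
  (hι : ∀ c : F, σ.1 c = c ↔ c ∈ Set.range j)

theorem inn_le_DP (hm : 3 ≤ m) : Inn (POmega F (⇑(qfPlus m F))) ≤ DP F m := by
  have hQ := Cfsg.Agent.Lib.Helper14_POmegaSimple.nondegenerate_qfPlus (F := F) m
  have hn : 5 ≤ Fintype.card (Fin m ⊕ Fin m) := by rw [card_plus]; omega
  intro β hβ
  obtain ⟨g, rfl⟩ := inn_le_range (qfPlus m F) hβ
  exact ⟨g, MonoidHom.mem_ker.mpr (chi_eq_one_of_inn _ hQ hn _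
    (fun c => chiP_scalarGO c) g hβ), rfl⟩

/-- in characteristic two the inner-diagonal group is the inner automorphism group -/
theorem inn_eq_DP (h2 : (2 : F) = 0) (hm : 3 ≤ m) :
    Inn (POmega F (⇑(qfPlus m F))) = DP F m := by
  apply le_antisymm (inn_le_DP hm)
  rintro _ ⟨g, hg, rfl⟩
  exact (chiP_iff_inn h2 hm g).mp (MonoidHom.mem_ker.mp hg)

theorem split_one_even (h2 : (2 : F) = 0) (hm : 3 ≤ m)
    (x : MulAut (POmega F (⇑(qfPlus m F)))) :
    splitClassCount (DP F m) (Inn (POmega F (⇑(qfPlus m F)))) x = 1 :=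
  count_one _ _ (inn_eq_DP h2 hm) x

/-- the diagonal similarity `(x, y) ↦ (ε x, y)` -/
def dD (F₀ : Type u₀) [Field F₀] (m : ℕ) (ε : F₀ˣ) : ↥(GO (⇑(qfPlus m F₀))) :=
  ⟨dDiagGL m ε, dDiagGL_mem m ε⟩

theorem dD_coe (ε : F₀ˣ) :
    ((dD F₀ m ε : ↥(GO (⇑(qfPlus m F₀)))) : GL (Fin m ⊕ Fin m) F₀).1 = dDiagMat m (ε : F₀) := rfl

theorem mu_dD (hm : 1 ≤ m) (ε : F₀ˣ) : mu (⇑(qfPlus m F₀)) (dD F₀ m ε) = ε := by
  apply mu_eq _ (exists_ne_zero (F := F₀) m hm)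
  intro v
  rw [dD_coe, qfPlus_dDiag]

theorem chiP_dD (ε : F₀ˣ) : dD F₀ m ε ∈ (chiP (F := F₀) m).ker := by
  rw [MonoidHom.mem_ker]
  exact chiGO_of_stab _ _ _ _ _ (dD F₀ m ε) (gmap_dDiag m ε)

set_option maxHeartbeats 1600000 in
include hι in
/-- for a field automorphism of odd order (odd characteristic) the class does not split -/
theorem split_one_plus (hm : 3 ≤ m) (h2 : (2 : F) ≠ 0) {r : ℕ} (hodd : Odd r)
    (hcardF : Fintype.card F = Fintype.card F₀ ^ r) :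
    splitClassCount (DP F m) (Inn (POmega F (⇑(qfPlus m F)))) (fieldO (⇑(qfPlus m F)) σ) = 1 := by
  have hQ := Cfsg.Agent.Lib.Helper14_POmegaSimple.nondegenerate_qfPlus (F := F) m
  have hQ₀ := Cfsg.Agent.Lib.Helper14_POmegaSimple.nondegenerate_qfPlus (F := F₀) m
  have hn : 5 ≤ Fintype.card (Fin m ⊕ Fin m) := by rw [card_plus]; omega
  have hle := inn_le_DP (F := F) hm
  rw [splitClassCount_eq_index _ _ hle inferInstance, Subgroup.index_eq_one, eq_top_iff]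
  rintro ⟨y, hy⟩ -
  have hyD := hy
  obtain ⟨g, hg, rfl⟩ := hy
  have h2₀ : (2 : F₀) ≠ 0 := by
    intro h0
    apply h2
    have h4 : j 2 = 2 := map_ofNat j 2
    rw [← h4, h0, map_zero]
  have hchar : ringChar F ≠ 2 := Cfsg.Agent.Lib.Helper44_FinSq.ringChar_ne_two_of_two_ne_zero h2
  have hc := compat_qfPlus j m
  have hne : ∃ v, qfPlus m F v ≠ 0 := exists_ne_zero (F := F) m (by omega)
  have hne₀ : ∃ v, qfPlus m F₀ v ≠ 0 := exists_ne_zero (F := F₀) m (by omega)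
  -- a fixed special isometry outside `Ω`
  have hn2 : 2 ≤ Fintype.card (Fin m ⊕ Fin m) := le_trans (by norm_num) hn
  have hex : ∀ c : F₀, ∃ v, qfPlus m F₀ v = c := fun c =>
    Cfsg.Agent.Lib.Helper14_OrthChars.exists_norm_eq h2₀ (qfPlus m F₀) hQ₀ hn2 c
  obtain ⟨u₀, hu1⟩ := hex 1
  obtain ⟨ε, hε⟩ := FiniteField.exists_nonsquare
    (Cfsg.Agent.Lib.Helper44_FinSq.ringChar_ne_two_of_two_ne_zero h2₀)
  obtain ⟨w₀, hwε⟩ := hex ε
  have hε0 : ε ≠ 0 := fun h0 => hε ⟨0, by rw [h0, mul_zero]⟩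
  have hjε : ¬ IsSquare (j ε) :=
    Cfsg.Agent.Lib.Helper44_SqExt.not_isSquare_map_of_odd j hchar hodd hcardF hε
  have hu : qfPlus m F₀ u₀ ≠ 0 := by rw [hu1]; exact one_ne_zero
  have hw : qfPlus m F₀ w₀ ≠ 0 := by rw [hwε]; exact hε0
  have hu' : qfPlus m F (vmap j u₀) ≠ 0 := by
    rw [hc, hu1, map_one]; exact one_ne_zero
  have hw' : qfPlus m F (vmap j w₀) ≠ 0 := by
    rw [hc, Ne, map_eq_zero]; exact hw
  have husq : IsSquare (qfPlus m F (vmap j u₀)) := by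
    rw [hc, hu1, map_one]; exact ⟨1, by simp⟩
  have hwsq : ¬ IsSquare (qfPlus m F (vmap j w₀)) := by
    rw [hc, hwε]; exact hjε
  obtain ⟨t₀, ht₀⟩ : ∃ t₀ : ↥(specialIsometryGroup F₀ (⇑(qfPlus m F₀))),
      t₀ = Cfsg.Agent.S0787.pair (qfPlus m F₀) u₀ w₀ hu hw := ⟨_, rfl⟩
  obtain ⟨t, ht⟩ : ∃ t : ↥(isometryGroup F (⇑(qfPlus m F))),
      t = mapIsom hc t₀.1 := ⟨_, rfl⟩
  have htSO : t ∈ specialIsometryGroup F (⇑(qfPlus m F)) := by
    rw [ht]
    exact (mapIsom_mem_SO_iff hc t₀.1).mpr t₀.2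
  have hteq : t = refl (qfPlus m F) (vmap j u₀) hu' * refl (qfPlus m F) (vmap j w₀) hw' := by
    rw [ht, ht₀, Cfsg.Agent.S0787.pair_coe, map_mul, mapIsom_refl hc u₀ hu hu',
      mapIsom_refl hc w₀ hw hw']
  have htΩ : t ∉ Omega F (⇑(qfPlus m F)) := by
    rw [hteq]
    exact pair_not_mem_omega _ h2 hQ hu' hw' husq hwsq
  have htC : PhiO (⇑(qfPlus m F)) t ∈ CDP σ := by
    have hker : Subgroup.inclusion (isometryGroup_le_GO (⇑(qfPlus m F₀))) t₀.1 ∈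
        (chiP (F := F₀) m).ker := by
      rw [MonoidHom.mem_ker, chiP_iff_det h2₀ (by omega),
        Cfsg.Agent.Lib.Helper14_GOChars.mu_of_isometry _ hne₀ _ t₀.1.2, Units.val_one, one_pow]
      exact (Cfsg.Agent.S0787.mem_SO_iff _ t₀.1).mp t₀.2
    have := Psi0P_mem j σ hι hm _ hker
    rw [ht]
    exact this
  -- a fixed class-preserving similarity with nonsquare multiplier
  obtain ⟨d₀, hd₀⟩ : ∃ d₀, d₀ = dD F₀ m (Units.mk0 ε hε0) := ⟨_, rfl⟩
  have hd₀χ : d₀ ∈ (chiP (F := F₀) m).ker := by rw [hd₀]; exact chiP_dD _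
  have hdC := Psi0P_mem j σ hι hm d₀ hd₀χ
  rw [Psi0P_apply] at hdC
  have hd : ((bcP j m d₀ : ↥(GO (⇑(qfPlus m F)))) : GL (Fin m ⊕ Fin m) F).1.det =
      ((mu (⇑(qfPlus m F)) (bcP j m d₀) : Fˣ) : F) ^ m := by
    rw [← chiP_iff_det h2 (by omega), chiP_bcP j hm d₀]
    exact MonoidHom.mem_ker.mp hd₀χ
  have hdns : ¬ IsSquare ((mu (⇑(qfPlus m F)) (bcP j m d₀) : Fˣ) : F) := by
    rw [mu_bcP j m (by omega), hd₀, mu_dD (by omega)]
    exact hjε
  have hdetg : (g : GL (Fin m ⊕ Fin m) F).1.det =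
      ((mu (⇑(qfPlus m F)) g : Fˣ) : F) ^ m :=
    (chiP_iff_det h2 (by omega) g).mp (MonoidHom.mem_ker.mp hg)
  obtain ⟨a, ha, c, hcC, hyac⟩ := innMul_of_det (qfPlus m F)
    (CDP σ) h2 hQ t htSO htΩ htC hne (card_plus m) _ hd hdns hdC g hdetg
  have haD := hle ha
  have hcD := (Subgroup.mem_inf.mp hcC).1
  have e : (⟨Phi (⇑(qfPlus m F)) g, hyD⟩ : ↥(DP F m)) = ⟨a, haD⟩ * ⟨c, hcD⟩ := Subtype.ext hyac
  rw [e]
  exact Subgroup.mul_mem_sup (Subgroup.mem_subgroupOf.mpr ha)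
    (Subgroup.mem_subgroupOf.mpr (Subgroup.mem_inf.mp hcC).2)

end split

/-! ### the image of the special orthogonal group over a subfield of index two -/

section omega

open Cfsg.Agent.Lib.Helper14_OmegaIndex Cfsg.Agent.Lib.Helper44_OrthOddCent
  Cfsg.Agent.Lib.Helper44_Refl Cfsg.Agent.Lib.Helper44_Spinor
  Cfsg.Agent.Lib.Helper14_CartanDieudonne

variable {ι : Type} [Fintype ι] [DecidableEq ι] {F₀ F : Type*} [Field F₀] [Field F] [Fintype F₀]
  [Fintype F] {j : F₀ →+* F} {Q₀ : QuadraticForm F₀ (ι → F₀)} {Q : QuadraticForm F (ι → F)}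
  (hc : Compat j Q₀ Q)

/-- if every element of the subfield is a square in `F`, special isometries over the subfield lie
in `Ω` over `F` -/
theorem mapIsom_mem_omega (h2 : (2 : F) ≠ 0) (h2₀ : (2 : F₀) ≠ 0)
    (hQ₀ : (QuadraticMap.polarBilin Q₀).Nondegenerate) (hsq : ∀ a : F₀, IsSquare (j a))
    (s₀ : ↥(isometryGroup F₀ (⇑Q₀))) (hs₀ : s₀ ∈ specialIsometryGroup F₀ (⇑Q₀)) :
    mapIsom hc s₀ ∈ Omega F (⇑Q) := by
  obtain ⟨vs, hvs, hprod⟩ := exists_list_reflT h2₀ Q₀ hQ₀ s₀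
  have hmat : ((s₀ : GL ι F₀) : Matrix ι ι F₀) =
      (vs.map (fun v => Cfsg.reflectionMatrix (⇑Q₀) v)).prod := by
    rw [hprod, prod_reflT_coe Q₀ vs hvs]
  have hvs' : ∀ v ∈ vs.map (vmap j), Q v ≠ 0 := by
    intro v hv
    rw [List.mem_map] at hv
    obtain ⟨w, hw, rfl⟩ := hv
    rw [hc, Ne, map_eq_zero]
    exact hvs w hw
  have hg : (((mapIsom hc s₀ : ↥(isometryGroup F (⇑Q))) : GL ι F) : Matrix ι ι F) =
      ((vs.map (vmap j)).map (fun v => Cfsg.reflectionMatrix (⇑Q) v)).prod := by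
    rw [mapIsom_coe, glMap_coe, hmat, map_list_prod_matrix, List.map_map, List.map_map]
    congr 1
    apply List.map_congr_left
    intro v _
    exact (hc.reflectionMatrix v).symm
  rw [mem_omega_iff Q h2 _ (vs.map (vmap j)) hvs' hg, List.length_map]
  constructor
  · have hdet : ((s₀ : GL ι F₀) : Matrix ι ι F₀).det = 1 :=
      (Cfsg.Agent.S0787.mem_SO_iff Q₀ s₀).mp hs₀
    rw [hmat, det_prod Q₀ vs hvs] at hdet
    rcases Nat.even_or_odd vs.length with h | h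
    · exact h
    · rw [h.neg_one_pow] at hdet
      exfalso
      apply h2₀
      linear_combination -hdet
  · have : ((vs.map (vmap j)).map (fun v => Q v)).prod = j ((vs.map (fun v => Q₀ v)).prod) := by
      rw [map_list_prod, List.map_map, List.map_map]
      congr 1
      apply List.map_congr_left
      intro v _
      exact hc v
    rw [this]
    exact hsq _

theorem incl_mapIsom (s : ↥(isometryGroup F₀ (⇑Q₀))) :
    Subgroup.inclusion (isometryGroup_le_GO (⇑Q)) (mapIsom hc s) =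
      bcGO j hc (Subgroup.inclusion (isometryGroup_le_GO (⇑Q₀)) s) :=
  Subtype.ext rfl

end omega

/-! ### the class of a standard field automorphism of order two, odd characteristic -/

section two

open Cfsg.Agent.Lib.Helper14_OmegaIndex Cfsg.Agent.Lib.Helper44_OrthOddCent
  Cfsg.Agent.Lib.Helper14_SplitClass Cfsg.Agent.Lib.Helper44_Refl
  Cfsg.Agent.Lib.Helper88_S2717_D1 Cfsg.Agent.Lib.Helper88_S2717_D2
  Cfsg.Agent.Lib.Helper88_S2717_D3 Cfsg.Agent.Lib.Helper44_PlusGFSplit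
  Cfsg.Agent.Lib.Helper44_PlusGFCount Cfsg.Agent.Lib.Helper44_SplitGen
  Cfsg.Agent.Lib.Helper14_InndiagQuot Cfsg.Agent.Lib.Helper44_Spinor
  Cfsg.Agent.Lib.Helper44_SqExt

open Cfsg.Agent.Lib.Helper14_GOChars (chiHom chiHom_eq_one_iff chiHom_eq_neg_one_iff sgnHom
  sgnHom_eq_one_iff psi ker_psi SO' Z' mem_SO'_iff muHom muHom_apply mu_of_isometry isometry_of_mu)

universe u u₀

variable {F : Type u} [Field F] [Fintype F] {F₀ : Type u₀} [Field F₀] [Fintype F₀]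
  (j : F₀ →+* F) {m' : ℕ} (σ : ↥(invSub (⇑(qfPlus (m' + 1) F))))
  (hι : ∀ c : F, σ.1 c = c ↔ c ∈ Set.range j) (h2 : (2 : F) ≠ 0)

theorem DP_eq_Gz : DP F (m' + 1) = (GzP h2 m').map (Phi (⇑(qfPlus (m' + 1) F))) := by
  rw [← Dgen_eq_Gz h2]
  exact (Dgen_eq (m' + 1)).symm

include hι h2 in
/-- `C_G(φ) ≤ PSO` -/
theorem cent_le_psoP (hm : 2 ≤ m') (hsq : ∀ a : F₀, IsSquare (j a)) (hord : orderOf σ.1 = 2) :
    CDP σ ≤ psoAut F (⇑(qfPlus (m' + 1) F)) := by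
  have hQ := Cfsg.Agent.Lib.Helper14_POmegaSimple.nondegenerate_qfPlus (F := F) (m' + 1)
  have hn : 5 ≤ Fintype.card (Fin (m' + 1) ⊕ Fin (m' + 1)) := by rw [card_plus]; omega
  intro y hy
  obtain ⟨k, hk, rfl⟩ := Psi0P_surj j σ hι (by omega) (by norm_num) hord y hy
  rw [Psi0P_apply]
  apply Phi_mem_pso_of_mem_sup (qfPlus (m' + 1) F) hQ hn
  rw [← ker_psi h2 (qfPlus (m' + 1) F) hQ hneP (card_plus (m' + 1)), MonoidHom.mem_ker, psi,
    MonoidHom.prod_apply, Prod.mk_eq_one]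
  constructor
  · rw [chiHom_eq_one_iff, mu_bcP j _ (by omega)]
    exact hsq _
  · rw [sgnHom_eq_one_iff, ← chiP_iff_det h2 (by omega), chiP_bcP j (by omega) k]
    exact MonoidHom.mem_ker.mp hk

include h2 in
/-- a class-preserving similarity over the subfield with square multiplier induces an inner
automorphism -/
theorem inn_of_sqP (hsq : ∀ a : F₀, IsSquare (j a))
    (k : ↥(GO (⇑(qfPlus (m' + 1) F₀)))) (hk : k ∈ (chiP (F := F₀) (m' + 1)).ker)
    (hsqk : IsSquare ((mu (⇑(qfPlus (m' + 1) F₀)) k : F₀ˣ) : F₀)) :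
    Phi (⇑(qfPlus (m' + 1) F)) (bcP j (m' + 1) k) ∈
      Inn (POmega F (⇑(qfPlus (m' + 1) F))) := by
  have h2₀ : (2 : F₀) ≠ 0 := by
    intro h0
    apply h2
    have h4 : j 2 = 2 := map_ofNat j 2
    rw [← h4, h0, map_zero]
  have hQ₀ := Cfsg.Agent.Lib.Helper14_POmegaSimple.nondegenerate_qfPlus (F := F₀) (m' + 1)
  have hne₀ : ∃ v, qfPlus (m' + 1) F₀ v ≠ 0 := exists_ne_zero (F := F₀) (m' + 1) (by omega)
  obtain ⟨c₀, hc₀⟩ := hsqk
  have hc0 : c₀ ≠ 0 := by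
    rintro rfl
    rw [mul_zero] at hc₀
    exact (Units.ne_zero _) hc₀
  obtain ⟨cu, hcu⟩ : ∃ cu : F₀ˣ, (cu : F₀) = c₀ := ⟨Units.mk0 c₀ hc0, rfl⟩
  have hμk : mu (⇑(qfPlus (m' + 1) F₀)) k = cu * cu := by
    apply Units.ext
    rw [hc₀, Units.val_mul, hcu]
  obtain ⟨k', hk'⟩ : ∃ k', k' = k * scalarGO (qfPlus (m' + 1) F₀) cu⁻¹ := ⟨_, rfl⟩
  have hμ' : mu (⇑(qfPlus (m' + 1) F₀)) k' = 1 := by
    have h1 := map_mul (muHom (⇑(qfPlus (m' + 1) F₀)) hne₀) k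
      (scalarGO (qfPlus (m' + 1) F₀) cu⁻¹)
    rw [muHom_apply, muHom_apply, muHom_apply,
      Cfsg.Agent.Lib.Helper44_PlusGFSplit.mu_scalarGO _ hne₀, hμk, ← hk'] at h1
    rw [h1]
    group
  have hiso : (k' : GL (Fin (m' + 1) ⊕ Fin (m' + 1)) F₀) ∈
      isometryGroup F₀ (⇑(qfPlus (m' + 1) F₀)) := isometry_of_mu _ k' hμ'
  have hdetk : (k : GL (Fin (m' + 1) ⊕ Fin (m' + 1)) F₀).1.det =
      ((mu (⇑(qfPlus (m' + 1) F₀)) k : F₀ˣ) : F₀) ^ (m' + 1) :=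
    (chiP_iff_det h2₀ (by omega) k).mp (MonoidHom.mem_ker.mp hk)
  have hdet : (k' : GL (Fin (m' + 1) ⊕ Fin (m' + 1)) F₀).1.det = 1 := by
    rw [hk']
    show ((k : GL (Fin (m' + 1) ⊕ Fin (m' + 1)) F₀).1 *
      ((scalarGO (qfPlus (m' + 1) F₀) cu⁻¹ : ↥(GO _)) :
        GL (Fin (m' + 1) ⊕ Fin (m' + 1)) F₀).1).det = 1
    rw [Matrix.det_mul, hdetk, Cfsg.Agent.Lib.Helper44_PlusGFSplit.det_scalarGO, hμk,
      card_plus, Units.val_mul, Units.val_inv_eq_inv_val, hcu]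
    rw [pow_mul, ← mul_pow]
    have h3 : c₀ * c₀ * c₀⁻¹ ^ 2 = 1 := by field_simp
    rw [h3, one_pow]
  obtain ⟨s₀, hs₀⟩ : ∃ s₀ : ↥(isometryGroup F₀ (⇑(qfPlus (m' + 1) F₀))),
      (s₀ : GL (Fin (m' + 1) ⊕ Fin (m' + 1)) F₀) =
        (k' : GL (Fin (m' + 1) ⊕ Fin (m' + 1)) F₀) := ⟨⟨_, hiso⟩, rfl⟩
  have hs₀S : s₀ ∈ specialIsometryGroup F₀ (⇑(qfPlus (m' + 1) F₀)) := by
    rw [Cfsg.Agent.S0787.mem_SO_iff, hs₀]
    exact hdet
  have hΩ := mapIsom_mem_omega (compat_qfPlus j (m' + 1)) h2 h2₀ hQ₀ hsq s₀ hs₀S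
  have hincl : Subgroup.inclusion (isometryGroup_le_GO (⇑(qfPlus (m' + 1) F₀))) s₀ = k' :=
    Subtype.ext hs₀
  have h4 : Phi (⇑(qfPlus (m' + 1) F)) (bcP j (m' + 1) k) =
      PhiO (⇑(qfPlus (m' + 1) F)) (mapIsom (compat_qfPlus j (m' + 1)) s₀) := by
    show _ = Phi (⇑(qfPlus (m' + 1) F)) (Subgroup.inclusion
      (isometryGroup_le_GO (⇑(qfPlus (m' + 1) F))) (mapIsom (compat_qfPlus j (m' + 1)) s₀))
    rw [incl_mapIsom, hincl, hk', map_mul, bcGO_scalarGO, map_mul, Phi_scalarGO, mul_one]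
  rw [h4, inn_eq_map]
  exact ⟨_, hΩ, rfl⟩

/-- the diagonal similarity over the subfield is a scalar multiple of a torus element -/
theorem torus_eq (ν : Fˣ) (ε : F₀ˣ) (hν : j (ε : F₀) = (ν : F) * ν) :
    scalarGO (qfPlus (m' + 1) F) ν⁻¹ * bcP j (m' + 1) (dD F₀ (m' + 1) ε) =
      torusGO (fun _ : Fin (m' + 1) => ν) := by
  apply Subtype.ext
  apply Units.ext
  show ((scalarGO (qfPlus (m' + 1) F) ν⁻¹ : ↥(GO _)) :
      GL (Fin (m' + 1) ⊕ Fin (m' + 1)) F).1 *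
    ((bcP j (m' + 1) (dD F₀ (m' + 1) ε) : ↥(GO _)) : GL (Fin (m' + 1) ⊕ Fin (m' + 1)) F).1 = _
  rw [scalarGO_neg_one_coe, bcGO_coe, glMap_coe, dD_coe, torusGO_coe, torusMat_eq,
    Matrix.smul_mul, Matrix.one_mul]
  have hν0 : (ν : F) ≠ 0 := Units.ne_zero ν
  ext (i | i) (k | k)
  · by_cases hik : i = k
    · subst hik
      simp [dDiagMat, hν]
    · simp [dDiagMat, hik]
  · simp [dDiagMat]
  · simp [dDiagMat]
  · by_cases hik : i = k
    · subst hik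
      simp [dDiagMat]
    · simp [dDiagMat, hik]

set_option maxHeartbeats 1600000 in
include hι h2 in
/-- **the split count of a standard field automorphism of order two**, odd characteristic -/
theorem split_two_plus (hm : 2 ≤ m') (hord : orderOf σ.1 = 2)
    (hcardF : Fintype.card F = Fintype.card F₀ ^ 2) :
    splitClassCount (DP F (m' + 1)) (Inn (POmega F (⇑(qfPlus (m' + 1) F))))
      (fieldO (⇑(qfPlus (m' + 1) F)) σ) =
      if Odd (m' + 1) ∧ Fintype.card F₀ % 4 = 1 then 2 else 4 := by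
  have hQ := Cfsg.Agent.Lib.Helper14_POmegaSimple.nondegenerate_qfPlus (F := F) (m' + 1)
  have hn : 5 ≤ Fintype.card (Fin (m' + 1) ⊕ Fin (m' + 1)) := by rw [card_plus]; omega
  have h2₀ : (2 : F₀) ≠ 0 := by
    intro h0
    apply h2
    have h4 : j 2 = 2 := map_ofNat j 2
    rw [← h4, h0, map_zero]
  have hchar : ringChar F ≠ 2 := Cfsg.Agent.Lib.Helper44_FinSq.ringChar_ne_two_of_two_ne_zero h2
  have hsq : ∀ a : F₀, IsSquare (j a) := fun a => isSquare_map_of_card_sq j hchar hcardF a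
  have hoddF₀ : Odd (Fintype.card F₀) := Cfsg.Agent.Lib.Helper44_FinSq.odd_card_of_two_ne_zero h2₀
  have hoddF : Odd (Fintype.card F) := Cfsg.Agent.Lib.Helper44_FinSq.odd_card_of_two_ne_zero h2
  -- `-1 ∈ Ω`
  have hneg : negOne (qfPlus (m' + 1) F) ∈ Omega F (⇑(qfPlus (m' + 1) F)) := by
    rw [Cfsg.Agent.Lib.Helper14_NegOneStd.negOne_mem_plus_iff hoddF (m' + 1) (by omega)]
    right
    rw [hcardF]
    obtain ⟨k, hk⟩ := hoddF₀
    rw [hk]
    have : (2 * k + 1) ^ 2 = 4 * (k * (k + 1)) + 1 := by ring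
    rw [this]
    omega
  -- a nonsquare of the subfield and its square root
  obtain ⟨ε, hε⟩ := FiniteField.exists_nonsquare
    (Cfsg.Agent.Lib.Helper44_FinSq.ringChar_ne_two_of_two_ne_zero h2₀)
  have hε0 : ε ≠ 0 := fun h0 => hε ⟨0, by rw [h0, mul_zero]⟩
  obtain ⟨ν, hν⟩ := hsq ε
  have hν0 : ν ≠ 0 := by
    rintro rfl
    rw [mul_zero] at hν
    exact hε0 ((map_eq_zero j).mp hν)
  have hσν : σ.1 ν = -ν := by
    have h1 : σ.1 ν * σ.1 ν = ν * ν := by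
      rw [← map_mul, ← hν]
      exact (hι _).mpr ⟨ε, rfl⟩
    have h3 : (σ.1 ν - ν) * (σ.1 ν + ν) = 0 := by linear_combination h1
    rcases mul_eq_zero.mp h3 with h | h
    · exfalso
      have h4 : σ.1 ν = ν := sub_eq_zero.mp h
      obtain ⟨c, hc⟩ := (hι ν).mp h4
      apply hε
      refine ⟨c, ?_⟩
      apply j.injective
      rw [map_mul, hc, hν]
    · exact eq_neg_of_add_eq_zero_left h
  have hcardfix : Nat.card ↥(fixField σ.1) = Fintype.card F₀ := by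
    have h1 := card_eq_sq σ.1 hord
    rw [hcardF] at h1
    exact (Nat.pow_left_injective (by norm_num : 2 ≠ 0) h1).symm
  have hνsq : IsSquare ν ↔ Fintype.card F₀ % 4 = 3 := by
    rw [isSquare_anti_iff σ.1 hord h2 ν hν0 hσν, hcardfix]
  obtain ⟨νu, hνu⟩ : ∃ νu : Fˣ, (νu : F) = ν := ⟨Units.mk0 ν hν0, rfl⟩
  obtain ⟨lam, hlam⟩ : ∃ lam : Fin (m' + 1) → Fˣ, lam = fun _ => νu := ⟨_, rfl⟩
  have hprod : ∏ i, ((lam i : Fˣ) : F) = ν ^ (m' + 1) := by
    rw [hlam, Finset.prod_const, Finset.card_univ, Fintype.card_fin, hνu]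
  have hsqiff : IsSquare (∏ i, ((lam i : Fˣ) : F)) ↔
      ¬ (Odd (m' + 1) ∧ Fintype.card F₀ % 4 = 1) := by
    rw [hprod, isSquare_pow_iff _ hν0, hνsq]
    obtain ⟨k, hk⟩ := hoddF₀
    rw [← Nat.not_even_iff_odd, Nat.even_iff]
    omega
  -- the diagonal similarity
  obtain ⟨d₀, hd₀⟩ : ∃ d₀, d₀ = dD F₀ (m' + 1) (Units.mk0 ε hε0) := ⟨_, rfl⟩
  have hd₀χ : d₀ ∈ (chiP (F := F₀) (m' + 1)).ker := by rw [hd₀]; exact chiP_dD _
  have hμd₀ : ((mu (⇑(qfPlus (m' + 1) F₀)) d₀ : F₀ˣ) : F₀) = ε := by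
    rw [hd₀, mu_dD (by omega), Units.val_mk0]
  have hPhid : Phi (⇑(qfPlus (m' + 1) F)) (bcP j (m' + 1) d₀) =
      PhiO (⇑(qfPlus (m' + 1) F)) (torus lam) := by
    have h1 := torus_eq (m' := m') j νu (Units.mk0 ε hε0) (by rw [Units.val_mk0, hνu]; exact hν)
    rw [← hd₀, ← hlam] at h1
    rw [← Phi_torusGO, ← h1, map_mul, Phi_scalarGO, one_mul]
  have hdC : Phi (⇑(qfPlus (m' + 1) F)) (bcP j (m' + 1) d₀) ∈ CDP σ :=
    Psi0P_mem j σ hι (by omega) d₀ hd₀χ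
  -- the chain `Inn ≤ PSO ≤ G°`
  obtain ⟨εF, hεF⟩ := FiniteField.exists_nonsquare hchar
  have hεF0 : εF ≠ 0 := fun h0 => hεF ⟨0, by rw [h0, mul_zero]⟩
  have hchi : chiHom (qfPlus (m' + 1) F) hneP (dD F (m' + 1) (Units.mk0 εF hεF0)) = -1 := by
    rw [chiHom_eq_neg_one_iff, mu_dD (by omega), Units.val_mk0]
    exact hεF
  have hKP := inn_le_pso h2 (qfPlus (m' + 1) F) hQ
  have hPG := pso_le_Gz h2 (qfPlus (m' + 1) F) hQ hneP (card_plus (m' + 1))
  have hN : ((Inn (POmega F (⇑(qfPlus (m' + 1) F)))).subgroupOf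
      ((GzP h2 m').map (Phi (⇑(qfPlus (m' + 1) F))))).Normal := inferInstance
  have hr1 := relIndex_inn_pso h2 (qfPlus (m' + 1) F) hQ hn hneg
  have hr2 := relIndex_pso_Gz h2 (qfPlus (m' + 1) F) hQ hn hneP (card_plus (m' + 1)) _ hchi
  have hC : (GzP h2 m').map (Phi (⇑(qfPlus (m' + 1) F))) ⊓
      Subgroup.centralizer {fieldO (⇑(qfPlus (m' + 1) F)) σ} = CDP σ := by
    rw [← DP_eq_Gz h2]
  rw [DP_eq_Gz h2]
  by_cases hsqP : IsSquare (∏ i, ((lam i : Fˣ) : F))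
  · rw [if_neg (hsqiff.mp hsqP)]
    apply count_four _ _ _ hKP hPG hN hr1 hr2
    rw [hC]
    -- `C_G(φ) ≤ Inn`
    have htΩ : torus lam ∈ Omega F (⇑(qfPlus (m' + 1) F)) :=
      (torus_mem_omega_iff h2 lam).mpr hsqP
    have hdinn : Phi (⇑(qfPlus (m' + 1) F)) (bcP j (m' + 1) d₀) ∈
        Inn (POmega F (⇑(qfPlus (m' + 1) F))) := by
      rw [hPhid, inn_eq_map]
      exact ⟨_, htΩ, rfl⟩
    intro y hy
    obtain ⟨k, hk, rfl⟩ := Psi0P_surj j σ hι (by omega) (by norm_num) hord y hy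
    rw [Psi0P_apply]
    have hne₀ : ∃ v, qfPlus (m' + 1) F₀ v ≠ 0 := exists_ne_zero (F := F₀) (m' + 1) (by omega)
    by_cases hsqk : IsSquare ((mu (⇑(qfPlus (m' + 1) F₀)) k : F₀ˣ) : F₀)
    · exact inn_of_sqP j h2 hsq k hk hsqk
    · have h1 : IsSquare ((mu (⇑(qfPlus (m' + 1) F₀)) (k * d₀⁻¹) : F₀ˣ) : F₀) := by
        have h3 := map_mul (muHom (⇑(qfPlus (m' + 1) F₀)) hne₀) k d₀⁻¹
        rw [map_inv, muHom_apply, muHom_apply, muHom_apply] at h3
        rw [h3, Units.val_mul, Units.val_inv_eq_inv_val, hμd₀]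
        apply Cfsg.Agent.Lib.Helper44_FinSq.isSquare_mul_of_nonsq_of_nonsq hsqk
        intro h
        apply hε
        obtain ⟨d, hd⟩ := h
        refine ⟨d⁻¹, ?_⟩
        rw [← mul_inv, ← hd, inv_inv]
      have h3 : k * d₀⁻¹ ∈ (chiP (F := F₀) (m' + 1)).ker :=
        Subgroup.mul_mem _ hk (Subgroup.inv_mem _ hd₀χ)
      have h4 := inn_of_sqP j h2 hsq (k * d₀⁻¹) h3 h1
      have h5 := Subgroup.mul_mem _ h4 hdinn
      rw [← map_mul, ← map_mul, inv_mul_cancel_right] at h5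
      exact h5
  · have hpos : Odd (m' + 1) ∧ Fintype.card F₀ % 4 = 1 := by
      by_contra hcon
      exact hsqP (hsqiff.mpr hcon)
    rw [if_pos hpos]
    apply count_two _ _ _ hKP hPG hN hr1 hr2
    · rw [hC]
      exact cent_le_psoP j σ hι h2 hm hsq hord
    · rw [hC]
      intro hle
      have h1 := hle hdC
      rw [hPhid] at h1
      have h3 := mem_omega_of_PhiO_mem_inn h2 (qfPlus (m' + 1) F) hQ hn hneg _ h1
      exact hsqP ((torus_mem_omega_iff h2 lam).mp h3)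

end two

/-! ### the main statement -/

section main

open Cfsg.Agent.Lib.Helper44_PSLnFieldCent (splitClassCount_conj centConjEquiv)

universe u u₀

variable {F : Type u} [Field F] [Fintype F]

set_option maxHeartbeats 1600000 in
/-- the statement for functions equal to the plus-type standard forms, under the hypothesis that
the inner-diagonal group is normal in the automorphism group -/
theorem field_cent_plus_aux {p f : ℕ} [hp : Fact p.Prime] (hF : Fintype.card F = p ^ f)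
    {m' : ℕ} (hm : 2 ≤ m') (Qf : (Fin (m' + 1) ⊕ Fin (m' + 1) → F) → F)
    (hQf : Qf = ⇑(qfPlus (m' + 1) F)) (hN : (Dgen Qf).Normal)
    (x : MulAut (POmega F Qf)) (hx : IsFieldAutClassPOmega Qf x)
    {r : ℕ} (hr : r.Prime) (hxr : orderOf x = r) (F₀ : Type u₀) [Field F₀] [Fintype F₀]
    (hF₀ : Fintype.card F₀ = p ^ (f / r)) (Qf₀ : (Fin (m' + 1) ⊕ Fin (m' + 1) → F₀) → F₀)
    (hQf₀ : Qf₀ = ⇑(qfPlus (m' + 1) F₀)) :
    r ∣ f ∧ Nonempty (↥(Dgen Qf ⊓ Subgroup.centralizer {x}) ≃* ↥(Dgen Qf₀)) ∧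
      ((Odd r ∨ p = 2) → splitClassCount (Dgen Qf) (Inn (POmega F Qf)) x = 1) ∧
      ((r = 2 ∧ p ≠ 2 ∧ Odd (m' + 1) ∧ p ^ (f / 2) % 4 = 1) →
        splitClassCount (Dgen Qf) (Inn (POmega F Qf)) x = 2) ∧
      ((r = 2 ∧ p ≠ 2 ∧ ¬ (Odd (m' + 1) ∧ p ^ (f / 2) % 4 = 1)) →
        splitClassCount (Dgen Qf) (Inn (POmega F Qf)) x = 4) := by
  subst hQf hQf₀
  have hn : 5 ≤ Fintype.card (Fin (m' + 1) ⊕ Fin (m' + 1)) := by rw [card_plus]; omega
  have hQ := Cfsg.Agent.Lib.Helper14_POmegaSimple.nondegenerate_qfPlus (F := F) (m' + 1)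
  obtain ⟨α, φ, σ, hσ, hstd, hαx⟩ := hx
  obtain ⟨σ', hσ'⟩ : ∃ σ' : ↥(invSub (⇑(qfPlus (m' + 1) F))), σ'.1 = σ :=
    ⟨⟨σ, sigInv_qfPlus (m' + 1) σ⟩, rfl⟩
  have hφ : φ = fieldO (⇑(qfPlus (m' + 1) F)) σ' := by
    rw [← hσ'] at hstd
    exact (isFieldAut_iff _ σ' φ).mp hstd
  have hx' : α * x * α⁻¹ = fieldO (⇑(qfPlus (m' + 1) F)) σ' := by rw [hαx, hφ]
  have hord : orderOf σ = r := by
    have h1 := orderOf_fieldO (qfPlus (m' + 1) F) hQ hn (faithData_qfPlus (by omega)) σ'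
    rw [← hx', ← MulAut.conj_apply, MulEquiv.orderOf_eq, hxr, hσ'] at h1
    exact h1.symm
  have hord' : orderOf σ'.1 = r := by rw [hσ']; exact hord
  obtain ⟨hrf, -⟩ := card_fixField σ hF hord
  obtain ⟨j, hj⟩ := exists_embedding σ hF hord F₀ hF₀
  have hι : ∀ a : F, σ'.1 a = a ↔ a ∈ Set.range j := by rw [hσ']; exact hj
  have hcard : Fintype.card F = Fintype.card F₀ ^ r := by
    rw [hF, hF₀, ← pow_mul, Nat.div_mul_cancel hrf]
  have hcast : ((p : F)) ^ f = 0 := by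
    rw [← Nat.cast_pow, ← hF]
    exact Nat.cast_card_eq_zero F
  have hp0 : (p : F) = 0 := pow_eq_zero_iff (M₀ := F) (by
    intro h
    rw [h, pow_zero] at hcast
    exact one_ne_zero hcast) |>.mp hcast
  have h2odd : p ≠ 2 → (2 : F) ≠ 0 := by
    intro hp2
    have hpodd : Odd p := (Fact.out : p.Prime).odd_of_ne_two hp2
    apply Cfsg.Agent.Lib.Helper44_FinSq.two_ne_zero_of_odd_card
    rw [hF]
    exact hpodd.pow
  have h2even : p = 2 → (2 : F) = 0 := by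
    intro hp2
    rw [hp2] at hp0
    exact_mod_cast hp0
  rw [Dgen_eq (m' + 1)] at hN ⊢
  have : (DP F (m' + 1)).Normal := hN
  refine ⟨hrf, ?_, ?_, ?_, ?_⟩
  · obtain ⟨e⟩ := nonempty_centEquiv_plus j σ' hι (by omega) hr.pos hord'
    have e1 := centConjEquiv (DP F (m' + 1)) α x
    rw [hx'] at e1
    rw [Dgen_eq (m' + 1)]
    exact ⟨e1.trans e⟩
  · rintro (hodd | hp2)
    · by_cases h2 : (2 : F) = 0
      · exact split_one_even h2 (by omega) x
      · rw [← splitClassCount_conj (DP F (m' + 1)) _ α x, hx']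
        exact split_one_plus j σ' hι (by omega) h2 hodd hcard
    · exact split_one_even (h2even hp2) (by omega) x
  · rintro ⟨hr2, hp2, hc⟩
    subst hr2
    rw [← splitClassCount_conj (DP F (m' + 1)) _ α x, hx',
      split_two_plus j σ' hι (h2odd hp2) hm hord' hcard, hF₀, if_pos hc]
  · rintro ⟨hr2, hp2, hc⟩
    subst hr2
    rw [← splitClassCount_conj (DP F (m' + 1)) _ α x, hx',
      split_two_plus j σ' hι (h2odd hp2) hm hord' hcard, hF₀, if_neg hc]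

/-- **S2715 modulo the normality of `Inndiag` in the automorphism group** -/
theorem field_cent_plus {p f : ℕ} [Fact p.Prime] (hF : Fintype.card F = p ^ f) (hf : 1 ≤ f)
    {m : ℕ} (hm : 3 ≤ m) (hN : (inndiagPOmegaPlus m F).Normal)
    (x : MulAut (POmega F (quadFormPlus m F)))
    (hx : IsFieldAutClassPOmega (quadFormPlus m F) x) {r : ℕ} (hr : r.Prime) (hxr : orderOf x = r)
    (F₀ : Type u₀) [Field F₀] [Fintype F₀] (hF₀ : Fintype.card F₀ = p ^ (f / r)) :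
    r ∣ f ∧
      Nonempty (↥(inndiagPOmegaPlus m F ⊓ Subgroup.centralizer {x}) ≃*
        ↥(inndiagPOmegaPlus m F₀)) ∧
      ((Odd r ∨ p = 2) → splitClassCount (inndiagPOmegaPlus m F)
        (Inn (POmega F (quadFormPlus m F))) x = 1) ∧
      ((r = 2 ∧ p ≠ 2 ∧ Odd m ∧ p ^ (f / 2) % 4 = 1) → splitClassCount (inndiagPOmegaPlus m F)
        (Inn (POmega F (quadFormPlus m F))) x = 2) ∧
      ((r = 2 ∧ p ≠ 2 ∧ ¬ (Odd m ∧ p ^ (f / 2) % 4 = 1)) → splitClassCount (inndiagPOmegaPlus m F)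
        (Inn (POmega F (quadFormPlus m F))) x = 4) := by
  obtain ⟨m', rfl⟩ : ∃ m', m = m' + 1 := ⟨m - 1, by omega⟩
  exact field_cent_plus_aux hF (by omega) (quadFormPlus (m' + 1) F) (coe_qfPlus (m' + 1) F).symm
    hN x hx hr hxr F₀ hF₀ (quadFormPlus (m' + 1) F₀) (coe_qfPlus (m' + 1) F₀).symm

/-- in characteristic two `Inndiag = Inn` is normal in the automorphism group -/
theorem inndiag_normal_of_char_two (h2 : (2 : F) = 0) {m : ℕ} (hm : 3 ≤ m) :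
    (inndiagPOmegaPlus m F).Normal := by
  have h1 : inndiagPOmegaPlus m F = Dgen (quadFormPlus m F) := rfl
  have h3 : ∀ (Qf : (Fin m ⊕ Fin m → F) → F), Qf = ⇑(qfPlus m F) → (Dgen Qf).Normal := by
    intro Qf hQf
    subst hQf
    rw [Dgen_eq m]
    have h4 : DP F m = Inn (POmega F (⇑(qfPlus m F))) := (inn_eq_DP h2 hm).symm
    show (DP F m).Normal
    rw [h4]
    infer_instance
  rw [h1]
  exact h3 _ (coe_qfPlus m F).symm

/-- if `Aut(PΩ⁺) = PΓO⁺` then `Inndiag` is normal in the automorphism group -/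
theorem inndiag_normal_of_gamma_top {m : ℕ}
    (hAut : gammaPOmega F (quadFormPlus m F) = ⊤) : (inndiagPOmegaPlus m F).Normal := by
  have h1 : inndiagPOmegaPlus m F = Dgen (quadFormPlus m F) := rfl
  have h3 : ∀ (Qf : (Fin m ⊕ Fin m → F) → F), Qf = ⇑(qfPlus m F) → gammaPOmega F Qf = ⊤ →
      (Dgen Qf).Normal := by
    intro Qf hQf hA
    subst hQf
    rw [Dgen_eq m]
    have htop := stdAut_eq_top (⇑(qfPlus m F)) (sigInv_qfPlus m) hA
    exact map_ker_normal (qfPlus m F) htop (chiP (F := F) m)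
      (fun σ g => chiGO_mapGO _ _ _ _ _ (X0_sigma m) σ g)
  rw [h1]
  exact h3 _ (coe_qfPlus m F).symm hAut

end main

end Cfsg.Agent.Lib.Helper44_OrthPlusCent
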