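import Mathlib
import Cfsg.Agent.Lib.Helper45_D4Orth
import Cfsg.Agent.Lib.Helper45_D4Table
import Cfsg.Agent.Lib.Helper44_OrthPlusCent
import Cfsg.Agent.Lib.Helper44_OrthPlusMain
import Cfsg.Agent.S2725

/-!
# Matching `Inndiag(PΩ⁺_{2m}(F))` with the image of the diagonal similitudes (helper14)

Orthogonal side of `(inndiagPOmegaPlus 4 F).Normal` for odd `q`:

* `dD w μ hw`: the diagonal similitude `diag(w)` with `w (inl i) * w (inr i) = μ`;
* `Phi_dD_mem`: it induces an inner-diagonal automorphism;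
* `Phi_dD_mk_T`: it maps the class of the root element `T a b t` to that of `T a b ((w a / w b) t)`;
* `mem_inndiag_of_agree`: an automorphism agreeing with `Phi (dD ..)` on a generating set is
  inner-diagonal;
* `normal_of_transport`: abstract transport of normality along a group isomorphism by counting.
-/

set_option autoImplicit false
set_option linter.unusedSectionVars false
set_option linter.unusedVariables false

namespace Cfsg.Agent.Lib.Helper14_D4Match

open Cfsg Matrix Cfsg.Agent.Lib.Helper45_D4Defs Cfsg.Agent.Lib.Helper14_AutOmega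
  Cfsg.Agent.Lib.Helper44_Orth

/-! ### Abstract transport of normality -/

section abstract

variable {G T : Type*} [Group G] [Group T]

theorem congr_conj' (e : G ≃* T) (g : G) : MulAut.congr e (MulAut.conj g) = MulAut.conj (e g) := by
  ext x
  simp [MulAut.congr, MulAut.conj_apply]

theorem map_inn' (e : G ≃* T) :
    (Cfsg.Inn G).map (MulAut.congr e).toMonoidHom = Cfsg.Inn T := by
  ext φ
  constructor
  · rintro ⟨_, ⟨g, rfl⟩, rfl⟩
    exact ⟨e g, (congr_conj' e g).symm⟩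
  · rintro ⟨t, rfl⟩
    refine ⟨MulAut.conj (e.symm t), ⟨e.symm t, rfl⟩, ?_⟩
    show MulAut.congr e (MulAut.conj (e.symm t)) = _
    rw [congr_conj', MulEquiv.apply_symm_apply]

/-- If a normal subgroup `N ≥ Inn G` of `Aut G` of index `k` over `Inn G` is carried by an
isomorphism `e : G ≃* T` into a subgroup `D ≥ Inn T` of `Aut T` of the same index `k ≠ 0` over
`Inn T`, then `D` is the image of `N`; in particular `D` is normal. -/
theorem map_eq_of_transport (e : G ≃* T) (N : Subgroup (MulAut G))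
    (D : Subgroup (MulAut T)) (hle : N.map (MulAut.congr e).toMonoidHom ≤ D)
    (hInnN : Cfsg.Inn G ≤ N) {k : ℕ} (hk : k ≠ 0)
    (hidxN : (Cfsg.Inn G).relIndex N = k) (hidxD : (Cfsg.Inn T).relIndex D = k) :
    N.map (MulAut.congr e).toMonoidHom = D := by
  have hinj : Function.Injective (MulAut.congr e).toMonoidHom := (MulAut.congr e).injective
  have h1 : (Cfsg.Inn T).relIndex (N.map (MulAut.congr e).toMonoidHom) = k := by
    rw [← map_inn' e, Subgroup.relIndex_map_map_of_injective _ _ hinj, hidxN]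
  have hInn' : Cfsg.Inn T ≤ N.map (MulAut.congr e).toMonoidHom := by
    rw [← map_inn' e]
    exact Subgroup.map_mono hInnN
  have h2 := Subgroup.relIndex_mul_relIndex (Cfsg.Inn T) (N.map (MulAut.congr e).toMonoidHom) D
    hInn' hle
  rw [h1, hidxD] at h2
  have h3 : (N.map (MulAut.congr e).toMonoidHom).relIndex D = 1 := by
    have : k * (N.map (MulAut.congr e).toMonoidHom).relIndex D = k * 1 := by rw [h2, mul_one]
    exact Nat.eq_of_mul_eq_mul_left (Nat.pos_of_ne_zero hk) this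
  exact le_antisymm hle (Subgroup.relIndex_eq_one.mp h3)

theorem normal_of_transport (e : G ≃* T) (N : Subgroup (MulAut G)) (hN : N.Normal)
    (D : Subgroup (MulAut T)) (hle : N.map (MulAut.congr e).toMonoidHom ≤ D)
    (hInnN : Cfsg.Inn G ≤ N) {k : ℕ} (hk : k ≠ 0)
    (hidxN : (Cfsg.Inn G).relIndex N = k) (hidxD : (Cfsg.Inn T).relIndex D = k) : D.Normal := by
  rw [← map_eq_of_transport e N D hle hInnN hk hidxN hidxD]
  exact Subgroup.Normal.map hN _ (MulAut.congr e).surjective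

/-- The index of `Inn` in `N ≥ Inn` is the order of the image of `N` in `Out`. -/
theorem relIndex_inn_eq_card (N : Subgroup (MulAut G)) (hInnN : Cfsg.Inn G ≤ N) :
    (Cfsg.Inn G).relIndex N = Nat.card ↥(N.map (QuotientGroup.mk' (Cfsg.Inn G))) := by
  rw [← Subgroup.relIndex_bot_left]
  have hbot : (⊥ : Subgroup (MulAut G ⧸ Cfsg.Inn G)) =
      (Cfsg.Inn G).map (QuotientGroup.mk' (Cfsg.Inn G)) := by
    rw [QuotientGroup.map_mk'_self]
  rw [hbot, Subgroup.relIndex_map_map, QuotientGroup.ker_mk', sup_idem, sup_eq_left.mpr hInnN]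

end abstract

/-! ### Diagonal similitudes -/

section diag

variable {m : ℕ} {F : Type*} [Field F]

/-- The diagonal matrix with entries `w`. -/
def dDGL (w : I m → Fˣ) : GL (I m) F :=
  ⟨Matrix.diagonal (fun c => ((w c : Fˣ) : F)), Matrix.diagonal (fun c => (((w c)⁻¹ : Fˣ) : F)), by
    rw [Matrix.diagonal_mul_diagonal, ← Matrix.diagonal_one]
    congr 1
    funext c
    rw [← Units.val_mul, mul_inv_cancel, Units.val_one], by
    rw [Matrix.diagonal_mul_diagonal, ← Matrix.diagonal_one]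
    congr 1
    funext c
    rw [← Units.val_mul, inv_mul_cancel, Units.val_one]⟩

theorem dDGL_coe (w : I m → Fˣ) :
    ((dDGL w : GL (I m) F) : Matrix (I m) (I m) F) = Matrix.diagonal (fun c => ((w c : Fˣ) : F)) :=
  rfl

theorem dDGL_mulVec (w : I m → Fˣ) (x : I m → F) (c : I m) :
    (((dDGL w : GL (I m) F) : Matrix (I m) (I m) F) *ᵥ x) c = (w c : F) * x c := by
  rw [dDGL_coe, Matrix.mulVec_diagonal]

theorem dDGL_mem (w : I m → Fˣ) (μ : Fˣ) (hw : ∀ i, w (Sum.inl i) * w (Sum.inr i) = μ) :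
    dDGL w ∈ GO (Cfsg.quadFormPlus m F) := by
  refine ⟨μ, fun v => ?_⟩
  rw [Q_def, Q_def, Finset.mul_sum]
  apply Finset.sum_congr rfl
  intro i _
  rw [dDGL_mulVec, dDGL_mulVec, ← hw i, Units.val_mul]
  ring

/-- The diagonal similitude `diag(w)` with multiplier `μ`. -/
def dD (w : I m → Fˣ) (μ : Fˣ) (hw : ∀ i, w (Sum.inl i) * w (Sum.inr i) = μ) :
    ↥(GO (Cfsg.quadFormPlus m F)) := ⟨dDGL w, dDGL_mem w μ hw⟩

theorem w_pr (w : I m → Fˣ) (μ : Fˣ) (hw : ∀ i, w (Sum.inl i) * w (Sum.inr i) = μ) (c : I m) :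
    w c * w (pr c) = μ := by
  rcases c with i | i
  · exact hw i
  · rw [pr_inr, mul_comm]
    exact hw i

/-- Conjugating a root matrix by a diagonal similitude. -/
theorem dDGL_mul_Tmat (w : I m → Fˣ) (μ : Fˣ) (hw : ∀ i, w (Sum.inl i) * w (Sum.inr i) = μ)
    {a b : I m} (hab : Adm a b) (t : F) :
    ((dDGL w : GL (I m) F) : Matrix (I m) (I m) F) * Tmat a b t =
      Tmat a b (((w a / w b : Fˣ) : F) * t) * ((dDGL w : GL (I m) F) : Matrix (I m) (I m) F) := by
  apply mat_ext_mulVec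
  intro x
  rw [← Matrix.mulVec_mulVec, ← Matrix.mulVec_mulVec]
  funext c
  rw [dDGL_mulVec, Tmat_mulVec_apply, Tmat_mulVec_apply, dDGL_mulVec, dDGL_mulVec, dDGL_mulVec]
  have h1 : ((w a / w b : Fˣ) : F) * (w b : F) = (w a : F) := by
    rw [← Units.val_mul, div_mul_cancel]
  have h2 : ((w a / w b : Fˣ) : F) * (w (pr a) : F) = (w (pr b) : F) := by
    rw [← Units.val_mul]
    congr 1
    have e1 := w_pr w μ hw a
    have e2 := w_pr w μ hw b
    rw [div_mul_eq_mul_div, e1, ← e2, mul_div_cancel_left]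
  by_cases hca : c = a
  · subst hca
    have hcb : ¬ c = pr b := hab.2
    rw [if_pos rfl, if_neg hcb, if_pos rfl, if_neg hcb]
    linear_combination (-(t * x b)) * h1
  · rw [if_neg hca, if_neg hca]
    by_cases hcb : c = pr b
    · subst hcb
      rw [if_pos rfl, if_pos rfl]
      linear_combination (t * x (pr a)) * h2
    · rw [if_neg hcb, if_neg hcb]
      ring

end diag

/-! ### The induced automorphisms -/

section aut

open Cfsg.Agent.Lib.Helper44_OrthPlusMain Cfsg.Agent.Lib.Helper44_StdForms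
  Cfsg.Agent.Lib.Helper44_OrthChi Cfsg.Agent.Lib.Helper14_InndiagPlus
  Cfsg.Agent.Lib.Helper14_Classes

variable {m : ℕ} {F : Type*} [Field F]

theorem T_mem_Omega (hm : 3 ≤ m) (a b : I m) (t : F) :
    (T a b t : ↥(Cfsg.isometryGroup F (Cfsg.quadFormPlus m F))) ∈
      Cfsg.Omega F (Cfsg.quadFormPlus m F) := by
  rw [Cfsg.Agent.Lib.Helper45_D4Orth.Omega_eq_E hm]
  exact T_mem_E a b t

/-- **The action of a diagonal similitude on the classes of the root elements.** -/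
theorem Phi_dD_mk_T (hm : 3 ≤ m) (w : I m → Fˣ) (μ : Fˣ)
    (hw : ∀ i, w (Sum.inl i) * w (Sum.inr i) = μ) {a b : I m} (hab : Adm a b) (t : F) :
    Phi (Cfsg.quadFormPlus m F) (dD w μ hw)
        (QuotientGroup.mk ⟨T a b t, T_mem_Omega hm a b t⟩) =
      QuotientGroup.mk ⟨T a b (((w a / w b : Fˣ) : F) * t), T_mem_Omega hm a b _⟩ := by
  rw [Phi_mk]
  congr 1
  apply Subtype.ext
  apply Subtype.ext
  apply Units.ext
  rw [Phi_mk_coe]
  show ((dDGL w : GL (I m) F) : Matrix (I m) (I m) F) *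
      (((T a b t : ↥(Cfsg.isometryGroup F (Cfsg.quadFormPlus m F))) : GL (I m) F) :
        Matrix (I m) (I m) F) * (((dDGL w)⁻¹ : GL (I m) F) : Matrix (I m) (I m) F) =
    (((T a b (((w a / w b : Fˣ) : F) * t) :
      ↥(Cfsg.isometryGroup F (Cfsg.quadFormPlus m F))) : GL (I m) F) : Matrix (I m) (I m) F)
  rw [T_coe hab, T_coe hab, dDGL_mul_Tmat w μ hw hab, Matrix.mul_assoc, ← Units.val_mul,
    mul_inv_cancel, Units.val_one, Matrix.mul_one]

variable [Fintype F]

theorem gmap_dDGL (w : I m → Fˣ) :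
    gmap ((dDGL w : GL (I m) F) : Matrix (I m) (I m) F) (X0 (F := F) m) = X0 m := by
  apply Submodule.eq_of_le_of_finrank_eq
  · intro x hx
    obtain ⟨y, hy, rfl⟩ := mem_gmap.mp hx
    rw [mem_X0] at hy ⊢
    intro i
    rw [dDGL_mulVec, hy i, mul_zero]
  · rw [finrank_gmap]

theorem Phi_mem_Dgen_aux (Qf : (I m → F) → F) (hQf : Qf = ⇑(qfPlus m F)) (g : ↥(GO Qf))
    (hstab : gmap ((g : GL (I m) F) : Matrix (I m) (I m) F) (X0 (F := F) m) = X0 m) :
    Phi Qf g ∈ Dgen Qf := by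
  subst hQf
  rw [Dgen_eq]
  exact ⟨g, MonoidHom.mem_ker.mpr (chiGO_of_stab _ _ _ _ _ g hstab), rfl⟩

/-- **Diagonal similitudes induce inner-diagonal automorphisms.** -/
theorem Phi_dD_mem (w : I m → Fˣ) (μ : Fˣ) (hw : ∀ i, w (Sum.inl i) * w (Sum.inr i) = μ) :
    Phi (Cfsg.quadFormPlus m F) (dD w μ hw) ∈ Cfsg.inndiagPOmegaPlus m F :=
  Phi_mem_Dgen_aux (Cfsg.quadFormPlus m F) (coe_qfPlus m F).symm (dD w μ hw) (gmap_dDGL w)

/-- An automorphism agreeing with `Phi (dD w μ hw)` on a generating set is inner-diagonal. -/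
theorem mem_inndiag_of_agree (w : I m → Fˣ) (μ : Fˣ)
    (hw : ∀ i, w (Sum.inl i) * w (Sum.inr i) = μ)
    (β : MulAut (Cfsg.POmega F (Cfsg.quadFormPlus m F)))
    (S : Set (Cfsg.POmega F (Cfsg.quadFormPlus m F))) (hS : Subgroup.closure S = ⊤)
    (hβ : ∀ x ∈ S, β x = Phi (Cfsg.quadFormPlus m F) (dD w μ hw) x) :
    β ∈ Cfsg.inndiagPOmegaPlus m F := by
  have h1 : β.toMonoidHom = (Phi (Cfsg.quadFormPlus m F) (dD w μ hw)).toMonoidHom :=
    MonoidHom.eq_of_eqOn_dense hS (fun x hx => hβ x hx)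
  have h2 : β = Phi (Cfsg.quadFormPlus m F) (dD w μ hw) := by
    ext x
    exact DFunLike.congr_fun h1 x
  rw [h2]
  exact Phi_dD_mem w μ hw

/-- `|Inndiag(PΩ⁺_{2m}(q)) : Inn| = 4` for `q` odd and `m ≥ 4` even. -/
theorem relIndex_inn_inndiag (hodd : Odd (Fintype.card F)) (hm : 4 ≤ m) (hev : Even m) :
    (Cfsg.Inn (Cfsg.POmega F (Cfsg.quadFormPlus m F))).relIndex (Cfsg.inndiagPOmegaPlus m F) = 4 := by
  obtain ⟨φ, hφs, hφk⟩ := (Cfsg.Agent.S2725.result hodd hm).2.2 hev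
  rw [Subgroup.relIndex, ← hφk, Subgroup.index_ker, MonoidHom.range_eq_top.mpr hφs,
    Subgroup.card_top, Nat.card_congr Multiplicative.toAdd, Nat.card_prod, Nat.card_zmod]

end aut

/-! ### The assembly for `m = 4` -/

section assembly

variable {F : Type*} [Field F] [Fintype F]

theorem inn_le_aux {m : ℕ} (Qf : (I m → F) → F)
    (hQf : Qf = ⇑(Cfsg.Agent.Lib.Helper44_StdForms.qfPlus m F))
    (h : Cfsg.Inn (Cfsg.POmega F (⇑(Cfsg.Agent.Lib.Helper44_StdForms.qfPlus m F))) ≤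
      Cfsg.Agent.Lib.Helper44_OrthPlusMain.Dgen (⇑(Cfsg.Agent.Lib.Helper44_StdForms.qfPlus m F))) :
    Cfsg.Inn (Cfsg.POmega F Qf) ≤ Cfsg.Agent.Lib.Helper44_OrthPlusMain.Dgen Qf := by
  subst hQf
  exact h

/-- **Normality of `Inndiag(PΩ⁺₈(q))`, `q` odd, from the Chevalley side.**  Let `e : G ≃* PΩ⁺₈(F)`,
`N ⊴ Aut G` with `Inn G ≤ N` of index `4`, such that every `ν ∈ N` is transported by `e` to an
inner-diagonal automorphism.  Then `Inndiag(PΩ⁺₈(F))` is normal in the automorphism group. -/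
theorem normal_D4_of_transport (hodd : Odd (Fintype.card F)) {G : Type*} [Group G]
    (e : G ≃* Cfsg.POmega F (Cfsg.quadFormPlus 4 F)) (N : Subgroup (MulAut G)) (hN : N.Normal)
    (hInnN : Cfsg.Inn G ≤ N) (hidxN : (Cfsg.Inn G).relIndex N = 4)
    (hmatch : ∀ ν ∈ N, MulAut.congr e ν ∈ Cfsg.inndiagPOmegaPlus 4 F) :
    (Cfsg.inndiagPOmegaPlus 4 F).Normal := by
  apply normal_of_transport e N hN (Cfsg.inndiagPOmegaPlus 4 F) ?_ hInnN (by norm_num : (4 : ℕ) ≠ 0)
    hidxN (relIndex_inn_inndiag hodd le_rfl (by decide))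
  rintro _ ⟨ν, hν, rfl⟩
  exact hmatch ν hν

open Cfsg.Agent.Lib.Helper45_D4Table in
/-- **Matching on root elements.**  If `e` maps a family `xg r t` (`r < 24`) generating `G` to the
classes of the root elements `U r t` of `Ω⁺₈(F)`, and `ν` scales `xg r t` by the character
`r ↦ w a_r / w b_r` of a diagonal similitude `diag(w)`, then the transport of `ν` is the
automorphism induced by `diag(w)`, hence inner-diagonal. -/
theorem congr_mem_inndiag_of_scales {G : Type*} [Group G]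
    (e : G ≃* Cfsg.POmega F (Cfsg.quadFormPlus 4 F)) (ν : MulAut G)
    (w : I 4 → Fˣ) (μ : Fˣ) (hw : ∀ i, w (Sum.inl i) * w (Sum.inr i) = μ)
    (xg : ℕ → F → G)
    (he : ∀ r < 24, ∀ t : F, e (xg r t) = QuotientGroup.mk
      ⟨U r t, T_mem_Omega (by norm_num) (rootA r).1 (rootA r).2.1 _⟩)
    (hgen : Subgroup.closure {g : G | ∃ r < 24, ∃ t : F, g = xg r t} = ⊤)
    (hν : ∀ r < 24, ∀ t : F,
      ν (xg r t) = xg r (((w (rootA r).1 / w (rootA r).2.1 : Fˣ) : F) * t)) :
    MulAut.congr e ν ∈ Cfsg.inndiagPOmegaPlus 4 F := by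
  apply mem_inndiag_of_agree w μ hw (MulAut.congr e ν)
    (e '' {g : G | ∃ r < 24, ∃ t : F, g = xg r t})
  · have h1 : Subgroup.closure (e '' {g : G | ∃ r < 24, ∃ t : F, g = xg r t}) =
        (Subgroup.closure {g : G | ∃ r < 24, ∃ t : F, g = xg r t}).map e.toMonoidHom := by
      rw [MonoidHom.map_closure]
      rfl
    rw [h1, hgen, ← MonoidHom.range_eq_map, MonoidHom.range_eq_top]
    exact e.surjective
  · rintro _ ⟨_, ⟨r, hr, t, rfl⟩, rfl⟩
    have h1 : (MulAut.congr e ν) (e (xg r t)) = e (ν (xg r t)) := by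
      show e (ν (e.symm (e (xg r t)))) = _
      rw [MulEquiv.symm_apply_apply]
    rw [h1, hν r hr t, he r hr, he r hr]
    have h2 := Phi_dD_mk_T (F := F) (by norm_num : 3 ≤ 4) w μ hw (rootA_adm r hr)
      (((rootA r).2.2 : F) * t)
    unfold U
    rw [h2]
    congr 2
    ring_nf

/-- The weights of a diagonal similitude with prescribed values `a` on the four fundamental roots
`e₀ - e₁, e₁ - e₂, e₂ - e₃, e₂ + e₃` (roots `18, 14, 13, 12` of `Helper45_D4Table.rootA`). -/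
def wOf (a : Fin 4 → Fˣ) : I 4 → Fˣ :=
  Sum.elim ![a 0 * a 1 * a 2, a 1 * a 2, a 2, 1]
    (fun i => (a 2 / a 3) / ![a 0 * a 1 * a 2, a 1 * a 2, a 2, 1] i)

/-- The multiplier of that similitude. -/
def muOf (a : Fin 4 → Fˣ) : Fˣ := a 2 / a 3

theorem wOf_mul (a : Fin 4 → Fˣ) (i : Fin 4) :
    wOf a (Sum.inl i) * wOf a (Sum.inr i) = muOf a := by
  simp only [wOf, muOf, Sum.elim_inl, Sum.elim_inr]
  rw [mul_div_cancel]

theorem wOf_fund (a : Fin 4 → Fˣ) :
    wOf a (Sum.inl 0) / wOf a (Sum.inl 1) = a 0 ∧ wOf a (Sum.inl 1) / wOf a (Sum.inl 2) = a 1 ∧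
    wOf a (Sum.inl 2) / wOf a (Sum.inl 3) = a 2 ∧ wOf a (Sum.inl 2) / wOf a (Sum.inr 3) = a 3 := by
  simp only [wOf, Sum.elim_inl, Sum.elim_inr, Matrix.cons_val_zero, Matrix.cons_val_one,
    Matrix.cons_val]
  refine ⟨?_, ?_, ?_, ?_⟩
  · rw [div_eq_iff_eq_mul]
    group
  · rw [div_eq_iff_eq_mul]
  · rw [div_one]
  · rw [div_eq_iff_eq_mul]
    simp

/-- Transport of a join with the inner automorphisms. -/
theorem match_sup {G : Type*} [Group G]
    (e : G ≃* Cfsg.POmega F (Cfsg.quadFormPlus 4 F)) (K : Subgroup (MulAut G))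
    (hK : ∀ ν ∈ K, MulAut.congr e ν ∈ Cfsg.inndiagPOmegaPlus 4 F) :
    ∀ ν ∈ Cfsg.Inn G ⊔ K, MulAut.congr e ν ∈ Cfsg.inndiagPOmegaPlus 4 F := by
  have hle : Cfsg.Inn G ⊔ K ≤ (Cfsg.inndiagPOmegaPlus 4 F).comap (MulAut.congr e).toMonoidHom := by
    apply sup_le
    · rintro _ ⟨g, rfl⟩
      rw [Subgroup.mem_comap]
      show MulAut.congr e (MulAut.conj g) ∈ _
      rw [congr_conj']
      have h3 : Cfsg.Inn (Cfsg.POmega F (Cfsg.quadFormPlus 4 F)) ≤ Cfsg.inndiagPOmegaPlus 4 F := by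
        have := Cfsg.Agent.Lib.Helper44_OrthPlusCent.inn_le_DP (F := F) (m := 4) (by norm_num)
        rw [Cfsg.Agent.Lib.Helper44_OrthPlusCent.DP,
          ← Cfsg.Agent.Lib.Helper44_OrthPlusMain.Dgen_eq] at this
        exact inn_le_aux _ (Cfsg.Agent.Lib.Helper44_StdForms.coe_qfPlus 4 F).symm this
      exact h3 ⟨e g, rfl⟩
    · intro ν hν
      exact hK ν hν
  intro ν hν
  exact hle hν

end assembly

end Cfsg.Agent.Lib.Helper14_D4Match
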