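import Mathlib
import Cfsg.Agent.Lib.Helper81_StMain
import Cfsg.Agent.S1054
import Cfsg.Agent.Lib.Helper45_D4Lift
import Cfsg.Agent.Lib.Helper45_D4Orth
import Cfsg.Agent.Lib.Helper14_D4Match

/-!
# The explicit isomorphism `D₄(F) ≃* PΩ₈⁺(F)`: root elements go to root elements

`d4_iso_explicit`: an isomorphism `e` sending every element of `D₄(F)` whose matrix is the Chevalley root
element `x_r(t)` to the class of the orthogonal root element `U r t` (`Helper45_D4Table`).  Same
ingredients as `Helper14_D4Iso.d4_iso` (helper45's S1082 packages), with the explicit form of helper31's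
`ABSTRACT` lemma (proof text copied from `Helper31_D4_ABSTRACT`, last lines changed).
-/

set_option autoImplicit false

namespace Cfsg.Agent.Lib.Helper14_D4IsoX

open Cfsg

theorem ABSTRACT_explicit {S G E' : Type*} [Group S] [Group G] [Group E'] [IsSimpleGroup G]
    (hG : ∃ x y : G, x * y ≠ y * x)
    (θ : S →* G) (hθ : Function.Surjective θ) (hker : θ.ker = Subgroup.center S)
    (φ : S →* E') (hφ : Function.Surjective φ) (hE : ∃ x y : E', x * y ≠ y * x) :
    ∃ e : G ≃* E' ⧸ Subgroup.center E', ∀ s : S, e (θ s) = QuotientGroup.mk (φ s) := by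
  -- the centre of `G` is trivial
  have hcG : Subgroup.center G = ⊥ := by
    rcases (inferInstance : (Subgroup.center G).Normal).eq_bot_or_eq_top with h | h
    · exact h
    · exfalso
      obtain ⟨x, y, hxy⟩ := hG
      apply hxy
      have hx : x ∈ Subgroup.center G := by rw [h]; trivial
      exact ((Subgroup.mem_center_iff.mp hx) y).symm
  -- the kernel of `φ` is central
  have hKn : (φ.ker.map θ).Normal := Subgroup.Normal.map inferInstance θ hθ
  have hKle : φ.ker ≤ θ.ker := by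
    rcases hKn.eq_bot_or_eq_top with h | h
    · intro k hk
      rw [MonoidHom.mem_ker]
      have : θ k ∈ φ.ker.map θ := Subgroup.mem_map_of_mem θ hk
      rwa [h, Subgroup.mem_bot] at this
    · exfalso
      obtain ⟨x, y, hxy⟩ := hE
      apply hxy
      -- every element of `S` is a kernel element times a central one
      have hdec : ∀ s : S, ∃ z ∈ Subgroup.center S, φ s = φ z := by
        intro s
        have hs : θ s ∈ φ.ker.map θ := by rw [h]; trivial
        obtain ⟨k, hk, hks⟩ := Subgroup.mem_map.mp hs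
        refine ⟨s * k⁻¹, ?_, ?_⟩
        · rw [← hker, MonoidHom.mem_ker, map_mul, map_inv, hks, mul_inv_cancel]
        · rw [map_mul, map_inv, MonoidHom.mem_ker.mp hk, inv_one, mul_one]
      obtain ⟨s₁, rfl⟩ := hφ x
      obtain ⟨s₂, rfl⟩ := hφ y
      obtain ⟨z₁, hz₁, h₁⟩ := hdec s₁
      obtain ⟨z₂, hz₂, h₂⟩ := hdec s₂
      rw [h₁, h₂, ← map_mul, ← map_mul, (Subgroup.mem_center_iff.mp hz₁) z₂]
  -- the map onto `E' / Z(E')`
  let ψ : S →* E' ⧸ Subgroup.center E' := (QuotientGroup.mk' (Subgroup.center E')).comp φ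
  have hψ : Function.Surjective ψ := (QuotientGroup.mk'_surjective _).comp hφ
  have hkerψ : θ.ker = ψ.ker := by
    ext x
    rw [MonoidHom.mem_ker (f := ψ)]
    change x ∈ θ.ker ↔ QuotientGroup.mk' (Subgroup.center E') (φ x) = 1
    rw [QuotientGroup.mk'_apply, QuotientGroup.eq_one_iff, Subgroup.mem_center_iff]
    constructor
    · intro hx e
      rw [hker] at hx
      obtain ⟨s, rfl⟩ := hφ e
      rw [← map_mul, ← map_mul, (Subgroup.mem_center_iff.mp hx) s]
    · intro hx
      have hθx : θ x ∈ Subgroup.center G := by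
        rw [Subgroup.mem_center_iff]
        intro g
        obtain ⟨y, rfl⟩ := hθ g
        have hc : y * x * y⁻¹ * x⁻¹ ∈ φ.ker := by
          rw [MonoidHom.mem_ker, map_mul, map_mul, map_mul, map_inv, map_inv, hx (φ y)]
          group
        have hc' := hKle hc
        rw [MonoidHom.mem_ker, map_mul, map_mul, map_mul, map_inv, map_inv] at hc'
        calc θ y * θ x = (θ y * θ x * (θ y)⁻¹ * (θ x)⁻¹) * θ x * θ y := by group
          _ = θ x * θ y := by rw [hc', one_mul]
      rw [hcG, Subgroup.mem_bot] at hθx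
      exact MonoidHom.mem_ker.mpr hθx
  refine ⟨((QuotientGroup.quotientKerEquivOfSurjective θ hθ).symm.trans
    (QuotientGroup.quotientMulEquivOfEq hkerψ)).trans
    (QuotientGroup.quotientKerEquivOfSurjective ψ hψ), ?_⟩
  intro s
  have h1 : (QuotientGroup.quotientKerEquivOfSurjective θ hθ).symm (θ s) =
      (QuotientGroup.mk s : S ⧸ θ.ker) := by
    rw [MulEquiv.symm_apply_eq]
    rfl
  rw [MulEquiv.trans_apply, MulEquiv.trans_apply, h1]
  rfl


/-- Equal subgroups have isomorphic central quotients, compatibly with the inclusions. -/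
theorem exists_quot_center_congr {G : Type*} [Group G] (H K : Subgroup G) (h : H = K) :
    ∃ e : ↥H ⧸ Subgroup.center ↥H ≃* ↥K ⧸ Subgroup.center ↥K,
      ∀ (x : G) (hx : x ∈ H) (hx' : x ∈ K), e (QuotientGroup.mk ⟨x, hx⟩) = QuotientGroup.mk ⟨x, hx'⟩ := by
  subst h
  exact ⟨MulEquiv.refl _, fun x hx hx' => rfl⟩

open Cfsg.Agent.Lib.Helper45_D4Table Cfsg.Agent.Lib.Helper45_D4Defs in
/-- **S1082, explicit form**: an isomorphism `D₄(F) ≃* PΩ₈⁺(F)` mapping the Chevalley root elements
to the classes of the orthogonal root elements `U r t`. -/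
theorem d4_iso_explicit {F : Type*} [Field F] :
    ∃ e : ↥(Cfsg.Lie.chevD4.group F) ≃* Cfsg.POmega F (Cfsg.quadFormPlus 4 F),
      ∀ r < 24, ∀ (t : F) (g : ↥(Cfsg.Lie.chevD4.group F)),
        ((g : GL Cfsg.Lie.chevD4.Idx F) : Matrix Cfsg.Lie.chevD4.Idx Cfsg.Lie.chevD4.Idx F) =
          Cfsg.Lie.chevD4.x F r t →
        e g = QuotientGroup.mk ⟨U r t, Cfsg.Agent.Lib.Helper14_D4Match.T_mem_Omega (by norm_num)
          (rootA r).1 (rootA r).2.1 _⟩ := by
  obtain ⟨θ, hθ, hker, hθx⟩ :=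
    Cfsg.Agent.Lib.Helper81_StMain.exists_hom_ker_eq_center (F := F) Cfsg.Lie.chevD4 (by simp)
  obtain ⟨hs, hnc⟩ := Cfsg.Agent.S1054.result (F := F) Cfsg.Lie.chevD4 (by simp)
  have := hs
  have hG : ∃ x y : ↥(Cfsg.Lie.chevD4.group F), x * y ≠ y * x := by
    by_contra h
    push Not at h
    exact hnc ⟨⟨h⟩⟩
  obtain ⟨e, he⟩ := ABSTRACT_explicit hG θ hθ hker
    (Cfsg.Agent.Lib.Helper45_D4Lift.phi F) Cfsg.Agent.Lib.Helper45_D4Lift.phi_surjective
    (Cfsg.Agent.Lib.Helper45_D4Orth.E_not_comm (m := 4) (F := F) (by norm_num))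
  obtain ⟨e', he'⟩ := exists_quot_center_congr (Cfsg.Agent.Lib.Helper45_D4Defs.E 4 F)
    (Cfsg.Omega F (Cfsg.quadFormPlus 4 F))
    (Cfsg.Agent.Lib.Helper45_D4Orth.Omega_eq_E (m := 4) (F := F) (by norm_num)).symm
  refine ⟨e.trans e', ?_⟩
  intro r hr t g hg
  have hg' : g = θ (Cfsg.Lie.chevD4.stGen F r t) := by
    apply Subtype.ext
    apply Units.ext
    rw [hg, hθx r t (by rw [Cfsg.Agent.Lib.Helper45_D4Lift.nroots_eq]; exact hr)]
  have hφ : ((Cfsg.Agent.Lib.Helper45_D4Lift.phi F (Cfsg.Lie.chevD4.stGen F r t) : ↥(E 4 F)) :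
      ↥(Cfsg.isometryGroup F (Cfsg.quadFormPlus 4 F))) = U r t := by
    show Cfsg.Agent.Lib.Helper45_D4Lift.phi0 F (Cfsg.Lie.chevD4.stGen F r t) = U r t
    rw [← Cfsg.Agent.Lib.Helper45_D4Lift.lift_stX r t]
    rfl
  rw [MulEquiv.trans_apply, hg', he]
  have hmem : U r t ∈ E 4 F := by rw [← hφ]; exact SetLike.coe_mem _
  have h2 : Cfsg.Agent.Lib.Helper45_D4Lift.phi F (Cfsg.Lie.chevD4.stGen F r t) = ⟨U r t, hmem⟩ :=
    Subtype.ext hφ
  rw [h2]
  exact he' (U r t) hmem _

end Cfsg.Agent.Lib.Helper14_D4IsoX
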