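import Cfsg.Agent.Lib.Helper18_D4OutB

set_option autoImplicit false

/-!
The group of outer automorphisms of the Chevalley group of type D4 over a field with `p ^ f` elements, `p` odd, is
the product of the symmetric group on four letters and a cyclic group of order `f`.
-/

namespace Cfsg.Agent.Lib.Helper18_D4OutC

open Cfsg Cfsg.Lie Cfsg.Agent.Lib.Helper18_ChevFast Cfsg.Agent.Lib.Helper18_ChevEngine
  Cfsg.Agent.Lib.Helper18_ChevR1 Cfsg.Agent.Lib.Helper18_ChevN Cfsg.Agent.Lib.Helper18_ChevR4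
  Cfsg.Agent.Lib.Helper18_ChevSimple Cfsg.Agent.Lib.Helper18_ChevSimple2 Cfsg.Agent.Lib.Helper18_ChevFacts
  Cfsg.Agent.Lib.Helper18_ChevWeyl Cfsg.Agent.Lib.Helper18_ChevDiag Cfsg.Agent.Lib.Helper18_ChevCar
  Cfsg.Agent.Lib.Helper18_ChevTorus Cfsg.Agent.Lib.Helper18_ChevGL Cfsg.Agent.Lib.Helper18_ChevComm
  Cfsg.Agent.Lib.Helper18_ChevComm2 Cfsg.Agent.Lib.Helper18_MatTri Cfsg.Agent.Lib.Helper18_ChevTri
  Cfsg.Agent.Lib.Helper18_ChevBorel Cfsg.Agent.Lib.Helper18_ChevAdd Cfsg.Agent.Lib.Helper18_ChevUni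
  Cfsg.Agent.Lib.Helper18_ChevBN Cfsg.Agent.Lib.Helper18_ChevMono Cfsg.Agent.Lib.Helper18_ChevBNPair
  Cfsg.Agent.Lib.Helper18_ChevSimp Cfsg.Agent.Lib.Helper18_ChevJCerts Cfsg.Agent.Lib.Helper18_ChevLevi
  Cfsg.Agent.Lib.Helper18_ChevBruhat Cfsg.Agent.Lib.Helper18_ChevPar Cfsg.Agent.Lib.Helper18_ChevRootHom
  Cfsg.Agent.Lib.Helper18_ChevOrder Cfsg.Agent.Lib.Helper18_ChevSylow Cfsg.Agent.Lib.Helper18_ChevCent
  Cfsg.Agent.Lib.Helper18_ChevFrob Cfsg.Agent.Lib.Helper18_ChevAutA Cfsg.Agent.Lib.Helper18_ChevAutB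
  Cfsg.Agent.Lib.Helper18_ChevAutC Cfsg.Agent.Lib.Helper18_ChevAutD Cfsg.Agent.Lib.Helper18_ChevGen
  Cfsg.Agent.Lib.Helper18_ChevField Cfsg.Agent.Lib.Helper18_ChevAutE Cfsg.Agent.Lib.Helper18_ChevAutF
  Cfsg.Agent.Lib.Helper18_ChevAutG Cfsg.Agent.Lib.Helper18_ChevAutH Cfsg.Agent.Lib.Helper18_TorusKer
  Cfsg.Agent.Lib.Helper18_ChevAutI Cfsg.Agent.Lib.Helper18_ChevAutJ Cfsg.Agent.Lib.Helper18_ChevAutK
  Cfsg.Agent.Lib.Helper18_ChevAutM Cfsg.Agent.Lib.Helper18_ChevHhat Cfsg.Agent.Lib.Helper18_ChevAutP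
  Cfsg.Agent.Lib.Helper18_ChevAutQ Cfsg.Agent.Lib.Helper18_OutStruct Cfsg.Agent.Lib.Helper18_ChevAutS
  Cfsg.Agent.Lib.Helper18_ChevAutT
  Cfsg.Agent.Lib.Helper18_ChevAutU Cfsg.Agent.Lib.Helper18_ChevACerts
  Cfsg.Agent.Lib.Helper18_ChevAutCerts Cfsg.Agent.Lib.Helper18_ChevCCerts Cfsg.Agent.Lib.Helper18_SteinbergD4
  Cfsg.Agent.Lib.Helper18_OutStructAll Cfsg.Agent.Lib.Helper18_D4OutGen Cfsg.Agent.Lib.Helper18_D4OutA
  Cfsg.Agent.Lib.Helper18_D4OutB

open Cfsg.Agent.Lib.Helper36_ChevHOrder Cfsg.Agent.Lib.Helper36_ChevTorus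

variable {D : ChevalleyDatum} {Ns : List NData} {F : Type*} [Field F]
variable {wl : List ℤ} {ws : List (List ℤ)} {sc : ℤ} {w : List ℤ} {d : ℕ} {w0 : List ℕ}

/-! ### Conjugates of diagonal automorphisms, explicitly -/

/-- The conjugate of a diagonal automorphism by a field automorphism. -/
theorem field_conj_diag_eq (c : DCert D Ns) (tc : TCert D) (ac : ACert D wl ws sc) (hdiv : DivCert D ws sc)
    (hone : FixOne c F) (σ : F ≃+* F) (a : Fin D.rank → Fˣ) :
    fieldAutOf c σ * diagAut c tc ac hdiv a * (fieldAutOf c σ)⁻¹ =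
      diagAut c tc ac hdiv (fun i => Units.map (σ : F →* F) (a i)) := by
  have hinv : ∀ (r : ℕ) (t : F), (fieldAutOf c σ)⁻¹ (xG c r t) = xG c r ((σ⁻¹ : RingAut F) t) := by
    intro r t
    rw [MulAut.inv_apply, MulEquiv.symm_apply_eq, fieldAutOf_xG]
    congr 1
    exact (RingEquiv.apply_symm_apply σ t).symm
  have hχ := isChar_rootChar (F := F) c tc ac hdiv (extT D a) (fun j _ => extT_ne_zero a j)
  apply eq_diagAut_of_scalars c tc ac hdiv hone
  · intro i hi t
    rw [MulAut.mul_apply, MulAut.mul_apply, hinv, diagAut_xG_simple c tc ac hdiv a i hi, fieldAutOf_xG, map_mul,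
      extT_lt a i hi]
    congr 2
    exact RingEquiv.apply_symm_apply σ t
  · intro i hi t
    have hp := (ac.simple i hi).1
    have hn := DCert.neg_lt c _ hp
    rw [MulAut.mul_apply, MulAut.mul_apply, hinv, diagAut_xG c tc ac hdiv a _ hn, fieldAutOf_xG, map_mul]
    have h1 := hχ.neg _ hp
    have h2 : rootChar D ws sc (extT D a) (D.simple i) = ((a ⟨i, hi⟩ : Fˣ) : F) := by
      rw [rootChar_simple ac hdiv _ i hi, extT_lt a i hi]
    rw [h2] at h1
    have h3 : rootChar D ws sc (extT D a) (D.neg (D.simple i)) = (((a ⟨i, hi⟩)⁻¹ : Fˣ) : F) := by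
      rw [Units.val_inv_eq_inv_val]
      exact eq_inv_of_mul_eq_one_left h1
    rw [h3]
    have e1 : σ (((a ⟨i, hi⟩)⁻¹ : Fˣ) : F) = (((Units.map (σ : F →* F) (a ⟨i, hi⟩))⁻¹ : Fˣ) : F) := by
      rw [← map_inv]
      rfl
    have e2 : σ ((σ⁻¹ : RingAut F) t) = t := RingEquiv.apply_symm_apply σ t
    rw [e1, e2]

/-- The conjugate of a diagonal automorphism by a graph automorphism of a datum with one root length. -/
theorem graph_conj_diag_eq (c : DCert D Ns) (tc : TCert D) (ac : ACert D wl ws sc) (hdiv : DivCert D ws sc)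
    (hone : FixOne c F) {π : Equiv.Perm (Fin D.rank)} {g : MulAut ↥(D.group F)} (hg : GraphForm c π g)
    (a : Fin D.rank → Fˣ) :
    g * diagAut c tc ac hdiv a * g⁻¹ = diagAut c tc ac hdiv (fun j => a (π⁻¹ j)) := by
  have hχ := isChar_rootChar (F := F) c tc ac hdiv (extT D a) (fun j _ => extT_ne_zero a j)
  have hginv := hg.inv
  apply eq_diagAut_of_scalars c tc ac hdiv hone
  · intro j hj u
    have e : π (π⁻¹ ⟨j, hj⟩) = ⟨j, hj⟩ := Equiv.apply_symm_apply π _
    rw [MulAut.mul_apply, MulAut.mul_apply, (hginv ⟨j, hj⟩ u).1,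
      diagAut_xG_simple c tc ac hdiv a _ (π⁻¹ ⟨j, hj⟩).isLt, (hg _ _).1, e, extT_lt a _ (π⁻¹ ⟨j, hj⟩).isLt]
  · intro j hj u
    have e : π (π⁻¹ ⟨j, hj⟩) = ⟨j, hj⟩ := Equiv.apply_symm_apply π _
    set i := π⁻¹ ⟨j, hj⟩ with hi
    have hp := (ac.simple i i.isLt).1
    have hn := DCert.neg_lt c _ hp
    have h3 := hχ.neg _ hp
    have h4 : rootChar D ws sc (extT D a) (D.simple i) = ((a i : Fˣ) : F) := by
      rw [rootChar_simple ac hdiv _ i i.isLt, extT_lt a i i.isLt]
    rw [h4] at h3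
    have h5 : rootChar D ws sc (extT D a) (D.neg (D.simple i)) = (((a i)⁻¹ : Fˣ) : F) := by
      rw [Units.val_inv_eq_inv_val]
      exact eq_inv_of_mul_eq_one_left h3
    rw [MulAut.mul_apply, MulAut.mul_apply, (hginv ⟨j, hj⟩ u).2, diagAut_xG c tc ac hdiv a _ hn, (hg _ _).2, e, h5]

theorem diagAut_mul_inv (c : DCert D Ns) (tc : TCert D) (ac : ACert D wl ws sc) (hdiv : DivCert D ws sc)
    (a b : Fin D.rank → Fˣ) :
    diagAut (F := F) c tc ac hdiv a * (diagAut (F := F) c tc ac hdiv b)⁻¹ =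
      diagAut (F := F) c tc ac hdiv (fun j => a j * (b j)⁻¹) := by
  rw [← diagHom_apply, ← diagHom_apply, ← diagHom_apply, ← map_inv, ← map_mul]
  rfl

/-- The commutator of a graph automorphism and a diagonal automorphism. -/
theorem graph_comm_diag_eq (c : DCert D Ns) (tc : TCert D) (ac : ACert D wl ws sc) (hdiv : DivCert D ws sc)
    (hone : FixOne c F) {π : Equiv.Perm (Fin D.rank)} {g : MulAut ↥(D.group F)} (hg : GraphForm c π g)
    (a : Fin D.rank → Fˣ) :
    g * diagAut c tc ac hdiv a * g⁻¹ * (diagAut c tc ac hdiv a)⁻¹ =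
      diagAut c tc ac hdiv (fun j => a (π⁻¹ j) * (a j)⁻¹) := by
  rw [graph_conj_diag_eq c tc ac hdiv hone hg a, diagAut_mul_inv]

/-- The commutator of a field automorphism and a diagonal automorphism. -/
theorem field_comm_diag_eq (c : DCert D Ns) (tc : TCert D) (ac : ACert D wl ws sc) (hdiv : DivCert D ws sc)
    (hone : FixOne c F) (σ : F ≃+* F) (a : Fin D.rank → Fˣ) :
    fieldAutOf c σ * diagAut c tc ac hdiv a * (fieldAutOf c σ)⁻¹ * (diagAut c tc ac hdiv a)⁻¹ =
      diagAut c tc ac hdiv (fun i => Units.map (σ : F →* F) (a i) * (a i)⁻¹) := by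
  rw [field_conj_diag_eq c tc ac hdiv hone σ a, diagAut_mul_inv]

/-! ### Inner diagonal automorphisms -/

/-- The conjugation by the torus element of `u` is the diagonal automorphism with the parameters `u C`. -/
theorem conj_torusHom (c : DCert D Ns) (tc : TCert D) (ac : ACert D wl ws sc) (hdiv : DivCert D ws sc)
    (hone : FixOne c F) (u : Fin D.rank → Fˣ) (hx : torusHom D F u ∈ D.group F) :
    (MulAut.conj (⟨torusHom D F u, hx⟩ : ↥(D.group F)) : MulAut ↥(D.group F)) =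
      diagAut c tc ac hdiv (zact (cartanMat D) u) := by
  set τ : ℕ → F := fun j => ((Cfsg.Agent.Lib.Helper36_ChevHOrder.ext D F u j : Fˣ) : F) with hτdef
  have hτ : ∀ i, τ i ≠ 0 := fun i => Units.ne_zero _
  have hχ := isChar_torus c tc τ hτ
  have hpt : ∀ r : ℕ, ((chi D F (Cfsg.Agent.Lib.Helper36_ChevHOrder.ext D F u) r : Fˣ) : F) = torusChar D τ r := by
    intro r
    unfold chi torusChar
    rw [Units.coe_prod]
    apply Finset.prod_congr rfl
    intro j _
    rw [Units.val_zpow_eq_zpow_val]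
  have e : (torusHom D F u : GL D.Idx F) = diagGL (torusChar D τ) hχ := by
    apply Units.ext
    show ((torusGL D F (chi D F (Cfsg.Agent.Lib.Helper36_ChevHOrder.ext D F u)) : GL D.Idx F) :
      Matrix D.Idx D.Idx F) = _
    rw [torusGL_coe, charDiag_eq]
    exact diagMat_congr fun s _ => hpt s
  have e2 : (MulAut.conj (⟨torusHom D F u, hx⟩ : ↥(D.group F)) : MulAut ↥(D.group F)) =
      conjAut c (diagGL (torusChar D τ) hχ) (actsAs_diagGL c _ hχ) := by
    apply MulEquiv.ext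
    intro y
    apply Subtype.ext
    rw [conjAut_coe, ← e]
    rfl
  rw [e2]
  have hs : ∀ (i : ℕ) (hi : i < D.rank), torusChar D τ (D.simple i) =
      ((zact (cartanMat D) u ⟨i, hi⟩ : Fˣ) : F) := by
    intro i hi
    rw [← hpt, ← chi_ext_simple D F u ⟨i, hi⟩]
  apply eq_diagAut_of_scalars c tc ac hdiv hone
  · intro i hi t
    rw [conjAut_xG c _ hχ _ (ac.simple i hi).1, hs i hi]
  · intro i hi t
    have hp := (ac.simple i hi).1
    have hn := DCert.neg_lt c _ hp
    rw [conjAut_xG c _ hχ _ hn]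
    have h1 := hχ.neg _ hp
    rw [hs i hi] at h1
    have h3 : torusChar D τ (D.neg (D.simple i)) = (((zact (cartanMat D) u ⟨i, hi⟩)⁻¹ : Fˣ) : F) := by
      rw [Units.val_inv_eq_inv_val]
      exact eq_inv_of_mul_eq_one_left h1
    rw [h3]

/-- A diagonal automorphism is inner if and only if its parameters are of the form `u C`. -/
theorem diagAut_mem_inn_iff (c : DCert D Ns) (tc : TCert D) (ac : ACert D wl ws sc) (gc : GCert D w d)
    (hR2 : R2All D F) (hw : W0Cert D w0) (hdiv : DivCert D ws sc) (hcons : ChainCons D) (hone : FixOne c F)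
    (hf : Facts D F) (b : Fin D.rank → Fˣ) :
    diagAut c tc ac hdiv b ∈ Cfsg.Inn ↥(D.group F) ↔ ∃ u : Fin D.rank → Fˣ, b = zact (cartanMat D) u := by
  constructor
  · intro hb
    have h1 : diagAut c tc ac hdiv b ∈ (diagHom (F := F) c tc ac hdiv).range ⊓ Cfsg.Inn ↥(D.group F) :=
      ⟨⟨b, rfl⟩, hb⟩
    rw [diag_inf_inn c tc ac gc hR2 hw hdiv hcons hone] at h1
    obtain ⟨x, hx, hxb⟩ := h1
    have hx' : ((x : ↥(D.group F)) : GL D.Idx F) ∈ D.diagonalSubgroup F := hx
    rw [← range_torusHom D F hf] at hx'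
    obtain ⟨u, hu⟩ := hx'
    refine ⟨u, ?_⟩
    have hxu : x = ⟨torusHom D F u, by rw [hu]; exact x.2⟩ := Subtype.ext hu.symm
    rw [hxu, conj_torusHom c tc ac hdiv hone u] at hxb
    exact (diagHom_injective c tc ac hdiv hxb).symm
  · rintro ⟨u, rfl⟩
    have hx : torusHom D F u ∈ D.group F := by
      apply diagonal_le_group c
      rw [← range_torusHom D F hf]
      exact ⟨u, rfl⟩
    rw [← conj_torusHom c tc ac hdiv hone u hx]
    exact ⟨_, rfl⟩


/-! ### Type D4 -/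

/-- The Cartan matrix of type D4. -/
def cartanD4 : Matrix (Fin 4) (Fin 4) ℤ := cartanMat chevD4

theorem cartanD4_eq : cartanD4 = !![2, -1, 0, 0; -1, 2, -1, -1; 0, -1, 2, 0; 0, -1, 0, 2] := by
  decide +kernel

/-- Twice the inverse of the Cartan matrix of type D4. -/
def matM : Matrix (Fin 4) (Fin 4) ℤ := !![2, 2, 1, 1; 2, 4, 2, 2; 1, 2, 2, 1; 1, 2, 1, 2]

theorem matM_mul : matM * cartanD4 = Matrix.diagonal (fun _ => (2 : ℤ)) := by
  decide +kernel

theorem zact_D4 (u : Fin 4 → Fˣ) :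
    zact cartanD4 u 0 = u 0 ^ 2 * (u 1)⁻¹ ∧ zact cartanD4 u 2 = (u 1)⁻¹ * u 2 ^ 2 ∧
      zact cartanD4 u 3 = (u 1)⁻¹ * u 3 ^ 2 := by
  rw [cartanD4_eq]
  refine ⟨?_, ?_, ?_⟩ <;> simp [zact, Fin.prod_univ_four]

/-- The parameters of an inner diagonal automorphism of the group of type D4: the products of two of the
parameters of the outer nodes are squares. -/
theorem isSquare_of_zact (u : Fin 4 → Fˣ) :
    IsSquare (zact cartanD4 u 0 * zact cartanD4 u 2) ∧ IsSquare (zact cartanD4 u 0 * zact cartanD4 u 3) ∧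
      IsSquare (zact cartanD4 u 2 * zact cartanD4 u 3) := by
  obtain ⟨h0, h2, h3⟩ := zact_D4 u
  rw [h0, h2, h3]
  refine ⟨⟨u 0 * (u 1)⁻¹ * u 2, ?_⟩, ⟨u 0 * (u 1)⁻¹ * u 3, ?_⟩, ⟨(u 1)⁻¹ * u 2 * u 3, ?_⟩⟩
  · rw [pow_two, pow_two]
    simp only [mul_assoc, mul_comm, mul_left_comm]
  · rw [pow_two, pow_two]
    simp only [mul_assoc, mul_comm, mul_left_comm]
  · rw [pow_two, pow_two]
    simp only [mul_assoc, mul_comm, mul_left_comm]

theorem factsD4 : Facts chevD4 F := Cfsg.Agent.Lib.Helper36_ChevDataD4T.facts F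

theorem diagAut_mem_inn_iff_D4 (b : Fin 4 → Fˣ) :
    diagAut (F := F) cD4 tcD4 acertD4 divCertD4 b ∈ Cfsg.Inn ↥(chevD4.group F) ↔
      ∃ u : Fin 4 → Fˣ, b = zact cartanD4 u :=
  diagAut_mem_inn_iff cD4 tcD4 acertD4 gcD4 hR2D4 Cfsg.Agent.Lib.Helper18_ChevW0Certs.w0CertD4 divCertD4
    hconsD4 honeD4 factsD4 b

/-- A diagonal automorphism of the group of type D4 whose parameters are squares is inner. -/
theorem diagAut_sq_mem_inn (β : Fin 4 → Fˣ) :
    diagAut (F := F) cD4 tcD4 acertD4 divCertD4 (fun k => β k ^ 2) ∈ Cfsg.Inn ↥(chevD4.group F) := by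
  refine (diagAut_mem_inn_iff_D4 (fun k => β k ^ 2)).mpr ⟨zact matM β, ?_⟩
  rw [zact_mul, matM_mul]
  funext k
  rw [zact_diagonal]
  rfl

/-- The parameters of an inner diagonal automorphism of the group of type D4. -/
theorem isSquare_of_diagAut_mem_inn (b : Fin 4 → Fˣ)
    (hb : diagAut (F := F) cD4 tcD4 acertD4 divCertD4 b ∈ Cfsg.Inn ↥(chevD4.group F)) :
    IsSquare (b 0 * b 2) ∧ IsSquare (b 0 * b 3) ∧ IsSquare (b 2 * b 3) := by
  obtain ⟨u, rfl⟩ := (diagAut_mem_inn_iff_D4 b).mp hb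
  exact isSquare_of_zact u


/-! ### Squares in a finite field of odd characteristic -/

section odd

variable [Fintype F]

theorem ringChar_ne_two {p f : ℕ} [Fact p.Prime] (hF : Fintype.card F = p ^ f) (hp : p ≠ 2) : ringChar F ≠ 2 := by
  have : CharP F p := charP_of_card_eq_prime_pow hF
  rw [ringChar.eq F p]
  exact hp

/-- The quotient of the image of a unit under an automorphism of the field by the unit is a square. -/
theorem isSquare_map_mul_inv (hF2 : ringChar F ≠ 2) (σ : F ≃+* F) (y : Fˣ) :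
    IsSquare (Units.map (σ : F →* F) y * y⁻¹) := by
  rw [FiniteField.unit_isSquare_iff hF2, mul_pow, inv_pow, ← map_pow]
  have hz : Units.map (σ : F →* F) (y ^ (Fintype.card F / 2)) = y ^ (Fintype.card F / 2) := by
    apply Units.ext
    rw [Units.coe_map, Units.val_pow_eq_pow_val]
    rcases FiniteField.pow_dichotomy hF2 (Units.ne_zero y) with h | h
    · rw [h]
      exact map_one σ
    · rw [h]
      show σ (-1) = -1
      rw [map_neg, map_one]
  rw [hz, mul_inv_cancel]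

theorem exists_nonsquare_unit (hF2 : ringChar F ≠ 2) : ∃ ν : Fˣ, ¬ IsSquare ν := by
  obtain ⟨a, ha⟩ := FiniteField.exists_nonsquare hF2
  have ha0 : a ≠ 0 := by
    rintro rfl
    exact ha ⟨0, by rw [mul_zero]⟩
  refine ⟨Units.mk0 a ha0, fun ⟨r, hr⟩ => ha ⟨(r : F), ?_⟩⟩
  have := congrArg Units.val hr
  rw [Units.val_mul] at this
  exact this

/-- In odd characteristic the commutator of a field automorphism and a diagonal automorphism is inner. -/
theorem field_comm_diag_mem_inn (hF2 : ringChar F ≠ 2) (φ : MulAut ↥(chevD4.group F)) (hφ : φ ∈ fieldD4 F)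
    (δ : MulAut ↥(chevD4.group F)) (hδ : δ ∈ diagD4 F) : φ * δ * φ⁻¹ * δ⁻¹ ∈ Cfsg.Inn ↥(chevD4.group F) := by
  obtain ⟨σ, rfl⟩ := hφ
  obtain ⟨a, rfl⟩ := hδ
  have h1 : (fieldAutHom (F := F) cD4) σ = fieldAutOf cD4 σ := rfl
  rw [h1, diagHom_apply, field_conj_diag_eq cD4 tcD4 acertD4 divCertD4 honeD4 σ a]
  have hsq : ∀ k, ∃ r : Fˣ, Units.map (σ : F →* F) (a k) * (a k)⁻¹ = r * r := fun k =>
    isSquare_map_mul_inv hF2 σ (a k)
  choose β hβ using hsq
  have e : diagAut (F := F) cD4 tcD4 acertD4 divCertD4 (fun i => Units.map (σ : F →* F) (a i)) *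
      (diagAut (F := F) cD4 tcD4 acertD4 divCertD4 a)⁻¹ =
      diagAut (F := F) cD4 tcD4 acertD4 divCertD4 (fun k => β k ^ 2) := by
    rw [← diagHom_apply, ← diagHom_apply, ← diagHom_apply, ← map_inv, ← map_mul]
    congr 1
    funext k
    rw [pow_two, ← hβ k]
    rfl
  rw [e]
  exact diagAut_sq_mem_inn β

/-- In odd characteristic a graph automorphism centralizing the diagonal automorphisms modulo the inner
automorphisms is trivial. -/
theorem graph_faithful (hF2 : ringChar F ≠ 2) (g : MulAut ↥(chevD4.group F)) (hg : g ∈ graphD4 F)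
    (hcen : ∀ δ ∈ diagD4 F, g * δ * g⁻¹ * δ⁻¹ ∈ Cfsg.Inn ↥(chevD4.group F)) :
    g ∈ Cfsg.Inn ↥(chevD4.group F) := by
  obtain ⟨π, -, hform⟩ : ∃ π : Equiv.Perm (Fin 4), chevD4.IsDiagramSymmetry π ∧ GraphForm cD4 π g :=
    (isGraphAut_iff_form cD4 shortD4 g).mp hg
  obtain ⟨ν, hν⟩ := exists_nonsquare_unit hF2
  have key : ∀ a : Fin 4 → Fˣ,
      IsSquare ((a (π⁻¹ 0) * (a 0)⁻¹) * (a (π⁻¹ 2) * (a 2)⁻¹)) ∧
      IsSquare ((a (π⁻¹ 0) * (a 0)⁻¹) * (a (π⁻¹ 3) * (a 3)⁻¹)) ∧
      IsSquare ((a (π⁻¹ 2) * (a 2)⁻¹) * (a (π⁻¹ 3) * (a 3)⁻¹)) := by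
    intro a
    have h1 := hcen (diagAut (F := F) cD4 tcD4 acertD4 divCertD4 a) ⟨a, rfl⟩
    rw [graph_comm_diag_eq cD4 tcD4 acertD4 divCertD4 honeD4 hform a] at h1
    exact isSquare_of_diagAut_mem_inn (fun j => a (π⁻¹ j) * (a j)⁻¹) h1
  -- an outer node goes to itself or to a given other outer node
  have step : ∀ k m : Fin 4, k ≠ m →
      (∀ a : Fin 4 → Fˣ, IsSquare ((a (π⁻¹ k) * (a k)⁻¹) * (a (π⁻¹ m) * (a m)⁻¹))) → π k = k ∨ π k = m := by
    intro k m hkm hsq
    by_contra hcon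
    rw [not_or] at hcon
    obtain ⟨h1, h2⟩ := hcon
    have e1 : π⁻¹ k ≠ k := by
      intro e
      apply h1
      have := congrArg π e
      rw [show π (π⁻¹ k) = k from Equiv.apply_symm_apply π k] at this
      exact this.symm
    have e2 : π⁻¹ m ≠ k := by
      intro e
      apply h2
      have := congrArg π e
      rw [show π (π⁻¹ m) = m from Equiv.apply_symm_apply π m] at this
      exact this.symm
    have h3 := hsq (Function.update 1 k ν)
    rw [Function.update_of_ne e1, Function.update_self, Function.update_of_ne e2,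
      Function.update_of_ne (Ne.symm hkm)] at h3
    simp only [Pi.one_apply, one_mul, inv_one, mul_one] at h3
    exact hν (isSquare_inv.mp h3)
  have hsym : ∀ x y : Fˣ, IsSquare (x * y) → IsSquare (y * x) := fun x y h => by rwa [mul_comm]
  have p0 : π 0 = 0 := by
    rcases step 0 2 (by decide) (fun a => (key a).1) with h | h
    · exact h
    · rcases step 0 3 (by decide) (fun a => (key a).2.1) with h' | h'
      · exact h'
      · rw [h] at h'
        exact absurd h' (by decide)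
  have p2 : π 2 = 2 := by
    rcases step 2 0 (by decide) (fun a => hsym _ _ (key a).1) with h | h
    · exact h
    · rcases step 2 3 (by decide) (fun a => (key a).2.2) with h' | h'
      · exact h'
      · rw [h] at h'
        exact absurd h' (by decide)
  have p3 : π 3 = 3 := by
    rcases step 3 0 (by decide) (fun a => hsym _ _ (key a).2.1) with h | h
    · exact h
    · rcases step 3 2 (by decide) (fun a => hsym _ _ (key a).2.2) with h' | h'
      · exact h'
      · rw [h] at h'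
        exact absurd h' (by decide)
  have p1 : π 1 = 1 := by
    have hne0 : π 1 ≠ 0 := fun e => by
      have := π.injective (e.trans p0.symm)
      exact absurd this (by decide)
    have hne2 : π 1 ≠ 2 := fun e => by
      have := π.injective (e.trans p2.symm)
      exact absurd this (by decide)
    have hne3 : π 1 ≠ 3 := fun e => by
      have := π.injective (e.trans p3.symm)
      exact absurd this (by decide)
    generalize π 1 = z at hne0 hne2 hne3
    fin_cases z <;> simp_all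
  have hπ : π = 1 := by
    apply Equiv.ext
    intro i
    fin_cases i
    · exact p0
    · exact p1
    · exact p2
    · exact p3
  rw [hπ] at hform
  have hg1 : g = 1 := GraphForm.unique honeD4 hform (graphForm_one cD4)
  rw [hg1]
  exact Subgroup.one_mem _

/-- The group of outer automorphisms of the Chevalley group of type D4 over a field with `p ^ f` elements,
`p` odd. -/
theorem out_chevD4_odd {p f : ℕ} [Fact p.Prime] (hF : Fintype.card F = p ^ f) (hp : p ≠ 2) :
    Nonempty (Cfsg.Out ↥(chevD4.group F) ≃* Equiv.Perm (Fin 4) × Multiplicative (ZMod f)) := by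
  have hfin : Finite (MulAut ↥(chevD4.group F)) := finite_mulAut
  have hf := one_le_of_card hF
  have hF2 := ringChar_ne_two hF hp
  have hgcd : (Fintype.card F - 1).gcd 2 = 2 := by
    apply Nat.gcd_eq_right
    have hodd : Odd (p ^ f) := by
      apply Odd.pow
      exact (Fact.out : p.Prime).odd_of_ne_two hp
    rw [hF]
    obtain ⟨k, hk⟩ := hodd
    exact ⟨k, by omega⟩
  have hD : Nat.card ↥((diagD4 F).map (QuotientGroup.mk' (Cfsg.Inn ↥(chevD4.group F)))) = 4 := by
    rw [card_Dbar, hgcd]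
    norm_num
  have hO : Nat.card (Cfsg.Out ↥(chevD4.group F)) = 24 * f := by
    rw [card_out_chevD4 hF, hgcd]
    ring
  refine Cfsg.Agent.Lib.Helper45_OutAbs2.out_odd_abs (Cfsg.Inn ↥(chevD4.group F)) (diagD4 F) (graphD4 F)
    (fieldD4 F) hf decomp_out_D4 ?_ graphD4_comm_fieldD4 (field_comm_diag_mem_inn hF2)
    (graph_faithful hF2) card_graphD4_le hD isCyclic_FbarD4 (card_Fbar hF) hO
  rintro g hg _ ⟨a, rfl⟩
  rw [diagHom_apply]
  exact graph_conj_diag cD4 tcD4 acertD4 divCertD4 honeD4 g hg a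

end odd

end Cfsg.Agent.Lib.Helper18_D4OutC
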