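import Mathlib
import Cfsg.Agent.Lib.Helper14_D4IsoX
import Cfsg.Agent.Lib.Helper14_D4Match
import Cfsg.Agent.Lib.Helper18_D4OutC

/-!
# `Inndiag(PΩ⁺₈(q))` is normal in `Aut(PΩ⁺₈(q))` for odd `q` (the `m = 4` piece of S2715)

Chevalley side: `N = Inn ⊔ Diag` is normal of index `4` over `Inn` in `Aut D₄(q)` (helper18's
`decomp_out_D4`, `graph_conj_diag`, `field_comm_diag_mem_inn`, `card_Dbar`); the explicit isomorphism
`Helper14_D4IsoX.d4_iso_explicit` carries the diagonal automorphism with parameters `a` to the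
automorphism induced by the diagonal similitude `diag(wOf a)` (they agree on the root elements of
the fundamental roots and their negatives: helper18's `eq_diagAut_of_scalars`); the orthogonal
side is `Helper14_D4Match`.
-/

set_option autoImplicit false
set_option linter.unusedSectionVars false
set_option linter.unusedVariables false

namespace Cfsg.Agent.Lib.Helper14_D4Normal

open Cfsg Matrix Cfsg.Agent.Lib.Helper45_D4Defs Cfsg.Agent.Lib.Helper14_AutOmega
  Cfsg.Agent.Lib.Helper44_Orth Cfsg.Agent.Lib.Helper14_D4Match Cfsg.Agent.Lib.Helper45_D4Table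

section abstract

variable {A : Type*} [Group A] (I : Subgroup A) [I.Normal]

/-- `I ⊔ 𝒟` is the preimage of the image of `𝒟` in `A ⧸ I`. -/
theorem sup_eq_comap_map (𝒟 : Subgroup A) :
    I ⊔ 𝒟 = (𝒟.map (QuotientGroup.mk' I)).comap (QuotientGroup.mk' I) := by
  rw [Subgroup.comap_map_eq, QuotientGroup.ker_mk', sup_comm]

/-- If `A = I·𝒟·Γ·Φ` with `Γ` normalising `𝒟` and `Φ` centralising `𝒟` modulo `I`, then `I ⊔ 𝒟` is
normal in `A`. -/
theorem normal_sup_abs (𝒟 Γ Φ : Subgroup A)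
    (hdec : ∀ θ : A, ∃ d ∈ 𝒟, ∃ g ∈ Γ, ∃ φ ∈ Φ,
      QuotientGroup.mk' I θ = QuotientGroup.mk' I d * QuotientGroup.mk' I g * QuotientGroup.mk' I φ)
    (hΓ𝒟 : ∀ g ∈ Γ, ∀ d ∈ 𝒟, g * d * g⁻¹ ∈ 𝒟)
    (hΦ𝒟 : ∀ φ ∈ Φ, ∀ d ∈ 𝒟, φ * d * φ⁻¹ * d⁻¹ ∈ I) : (I ⊔ 𝒟).Normal := by
  rw [sup_eq_comap_map]
  have hDb : (𝒟.map (QuotientGroup.mk' I)).Normal := by
    constructor
    rintro _ ⟨d', hd', rfl⟩ o
    obtain ⟨θ, rfl⟩ := QuotientGroup.mk'_surjective I o
    obtain ⟨d, hd, g, hg, φ, hφ, e⟩ := hdec θ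
    rw [e]
    -- conjugation by `φ` fixes the class of `d'`
    have h1 : QuotientGroup.mk' I φ * QuotientGroup.mk' I d' * (QuotientGroup.mk' I φ)⁻¹ =
        QuotientGroup.mk' I d' := by
      have h2 : QuotientGroup.mk' I (φ * d' * φ⁻¹ * d'⁻¹) = 1 := by
        rw [QuotientGroup.mk'_apply, QuotientGroup.eq_one_iff]
        exact hΦ𝒟 φ hφ d' hd'
      rw [map_mul, map_mul, map_mul, map_inv, map_inv] at h2
      calc QuotientGroup.mk' I φ * QuotientGroup.mk' I d' * (QuotientGroup.mk' I φ)⁻¹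
          = (QuotientGroup.mk' I φ * QuotientGroup.mk' I d' * (QuotientGroup.mk' I φ)⁻¹ *
              (QuotientGroup.mk' I d')⁻¹) * QuotientGroup.mk' I d' := by group
        _ = QuotientGroup.mk' I d' := by rw [h2, one_mul]
    have h3 : QuotientGroup.mk' I d * QuotientGroup.mk' I g * QuotientGroup.mk' I φ *
        QuotientGroup.mk' I d' * (QuotientGroup.mk' I d * QuotientGroup.mk' I g * QuotientGroup.mk' I φ)⁻¹ =
        QuotientGroup.mk' I d * (QuotientGroup.mk' I g *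
          (QuotientGroup.mk' I φ * QuotientGroup.mk' I d' * (QuotientGroup.mk' I φ)⁻¹) *
          (QuotientGroup.mk' I g)⁻¹) * (QuotientGroup.mk' I d)⁻¹ := by group
    rw [h3, h1]
    refine ⟨d * (g * d' * g⁻¹) * d⁻¹, 𝒟.mul_mem (𝒟.mul_mem hd (hΓ𝒟 g hg d' hd')) (𝒟.inv_mem hd), ?_⟩
    simp only [map_mul, map_inv]
  exact hDb.comap _

/-- The index of `I` in `I ⊔ 𝒟` is the order of the image of `𝒟` in `A ⧸ I`. -/
theorem relIndex_sup_abs (𝒟 : Subgroup A) :
    I.relIndex (I ⊔ 𝒟) = Nat.card ↥(𝒟.map (QuotientGroup.mk' I)) := by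
  rw [← Subgroup.relIndex_bot_left]
  have hbot : (⊥ : Subgroup (A ⧸ I)) = I.map (QuotientGroup.mk' I) := by
    rw [QuotientGroup.map_mk'_self]
  have h2 : 𝒟.map (QuotientGroup.mk' I) = (I ⊔ 𝒟).map (QuotientGroup.mk' I) := by
    rw [Subgroup.map_sup, QuotientGroup.map_mk'_self, bot_sup_eq]
  rw [hbot, h2, Subgroup.relIndex_map_map, QuotientGroup.ker_mk', sup_idem,
    sup_eq_left.mpr (le_sup_left : I ≤ I ⊔ 𝒟)]

end abstract

section generic

variable {F : Type*} [Field F]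

theorem congr_congr_symm {G T : Type*} [Group G] [Group T] (e : G ≃* T) (ψ : MulAut T) :
    MulAut.congr e (MulAut.congr e.symm ψ) = ψ := by
  ext x
  simp [MulAut.congr]

theorem congr_symm_apply {G T : Type*} [Group G] [Group T] (e : G ≃* T) (ψ : MulAut T) (g : G) :
    MulAut.congr e.symm ψ g = e.symm (ψ (e g)) := by
  simp [MulAut.congr]

/-- The transport to `G` of the automorphism induced by the diagonal similitude `diag(w)` scales
the elements `xg r t` corresponding to the root elements `U r t`. -/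
theorem transport_scales {G : Type*} [Group G]
    (e : G ≃* Cfsg.POmega F (Cfsg.quadFormPlus 4 F)) (xg : ℕ → F → G)
    (he : ∀ r < 24, ∀ t : F, e (xg r t) = QuotientGroup.mk
      ⟨U r t, T_mem_Omega (by norm_num) (rootA r).1 (rootA r).2.1 _⟩)
    (w : I 4 → Fˣ) (μ : Fˣ) (hw : ∀ i, w (Sum.inl i) * w (Sum.inr i) = μ)
    (r : ℕ) (hr : r < 24) (t : F) :
    MulAut.congr e.symm (Phi (Cfsg.quadFormPlus 4 F) (dD w μ hw)) (xg r t) =
      xg r (((w (rootA r).1 / w (rootA r).2.1 : Fˣ) : F) * t) := by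
  rw [congr_symm_apply, MulEquiv.symm_apply_eq, he r hr, he r hr]
  have h2 := Phi_dD_mk_T (F := F) (by norm_num : 3 ≤ 4) w μ hw (rootA_adm r hr)
    (((rootA r).2.2 : F) * t)
  unfold U
  rw [h2]
  congr 2
  ring_nf

/-- The scalars of `diag(wOf a)` on the fundamental roots `18, 14, 13, 12` and their negatives
`5, 9, 10, 11`. -/
theorem wOf_scal [Fintype F] (a : Fin 4 → Fˣ) :
    (wOf a (rootA 18).1 / wOf a (rootA 18).2.1 = a 0 ∧
     wOf a (rootA 14).1 / wOf a (rootA 14).2.1 = a 1 ∧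
     wOf a (rootA 13).1 / wOf a (rootA 13).2.1 = a 2 ∧
     wOf a (rootA 12).1 / wOf a (rootA 12).2.1 = a 3) ∧
    (wOf a (rootA 5).1 / wOf a (rootA 5).2.1 = (a 0)⁻¹ ∧
     wOf a (rootA 9).1 / wOf a (rootA 9).2.1 = (a 1)⁻¹ ∧
     wOf a (rootA 10).1 / wOf a (rootA 10).2.1 = (a 2)⁻¹ ∧
     wOf a (rootA 11).1 / wOf a (rootA 11).2.1 = (a 3)⁻¹) := by
  obtain ⟨h0, h1, h2, h3⟩ := wOf_fund a
  refine ⟨⟨h0, h1, h2, h3⟩, ?_, ?_, ?_, ?_⟩
  · show wOf a (Sum.inl 1) / wOf a (Sum.inl 0) = (a 0)⁻¹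
    rw [← h0, inv_div]
  · show wOf a (Sum.inl 2) / wOf a (Sum.inl 1) = (a 1)⁻¹
    rw [← h1, inv_div]
  · show wOf a (Sum.inl 3) / wOf a (Sum.inl 2) = (a 2)⁻¹
    rw [← h2, inv_div]
  · show wOf a (Sum.inr 3) / wOf a (Sum.inl 2) = (a 3)⁻¹
    rw [← h3, inv_div]

end generic

section chev

local notation "cD4'" => Cfsg.Agent.Lib.Helper18_D4OutA.cD4
local notation "tcD4'" => Cfsg.Agent.Lib.Helper18_D4OutA.tcD4
local notation "acD4'" => Cfsg.Agent.Lib.Helper18_ChevACerts.acertD4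
local notation "dvD4'" => Cfsg.Agent.Lib.Helper18_SteinbergD4.divCertD4
local notation "honeD4'" => Cfsg.Agent.Lib.Helper18_D4OutA.honeD4
local notation "xG'" => Cfsg.Agent.Lib.Helper18_ChevAutC.xG
local notation "diagAut'" => Cfsg.Agent.Lib.Helper18_ChevAutG.diagAut
local notation "diagD4'" => Cfsg.Agent.Lib.Helper18_D4OutA.diagD4

variable {F : Type*} [Field F] [Fintype F]

/-- The explicit isomorphism on helper18's root elements `xG' cD4' r t`. -/
theorem e_xG (e : ↥(Cfsg.Lie.chevD4.group F) ≃* Cfsg.POmega F (Cfsg.quadFormPlus 4 F))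
    (he : ∀ r < 24, ∀ (t : F) (g : ↥(Cfsg.Lie.chevD4.group F)),
      ((g : GL Cfsg.Lie.chevD4.Idx F) : Matrix Cfsg.Lie.chevD4.Idx Cfsg.Lie.chevD4.Idx F) = Cfsg.Lie.chevD4.x F r t →
      e g = QuotientGroup.mk ⟨U r t, T_mem_Omega (by norm_num) (rootA r).1 (rootA r).2.1 _⟩) :
    ∀ r < 24, ∀ t : F, e (xG' cD4' r t) = QuotientGroup.mk
      ⟨U r t, T_mem_Omega (by norm_num) (rootA r).1 (rootA r).2.1 _⟩ := by
  intro r hr t
  apply he r hr t
  rw [Cfsg.Agent.Lib.Helper18_ChevAutC.xG_coe, Cfsg.Agent.Lib.Helper18_ChevGL.xGL_coe]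

/-- The explicit isomorphism carries the diagonal automorphisms into `Inndiag`. -/
theorem congr_diagAut_mem (e : ↥(Cfsg.Lie.chevD4.group F) ≃* Cfsg.POmega F (Cfsg.quadFormPlus 4 F))
    (he : ∀ r < 24, ∀ (t : F) (g : ↥(Cfsg.Lie.chevD4.group F)),
      ((g : GL Cfsg.Lie.chevD4.Idx F) : Matrix Cfsg.Lie.chevD4.Idx Cfsg.Lie.chevD4.Idx F) = Cfsg.Lie.chevD4.x F r t →
      e g = QuotientGroup.mk ⟨U r t, T_mem_Omega (by norm_num) (rootA r).1 (rootA r).2.1 _⟩)
    (a : Fin Cfsg.Lie.chevD4.rank → Fˣ) :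
    MulAut.congr e (diagAut' cD4' tcD4' acD4' dvD4' a) ∈ Cfsg.inndiagPOmegaPlus 4 F := by
  have hx := e_xG e he
  obtain ⟨⟨p0, p1, p2, p3⟩, n0, n1, n2, n3⟩ := wOf_scal (F := F) a
  have hsc := transport_scales e (fun r t => xG' cD4' r t) hx (wOf a) (muOf a) (wOf_mul a)
  have key : MulAut.congr e.symm (Phi (Cfsg.quadFormPlus 4 F) (dD (wOf a) (muOf a) (wOf_mul a))) =
      diagAut' cD4' tcD4' acD4' dvD4' a := by
    apply Cfsg.Agent.Lib.Helper18_ChevAutS.eq_diagAut_of_scalars cD4' tcD4' acD4' dvD4' honeD4'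
    · intro i hi t
      have hi4 : i < 4 := hi
      interval_cases i
      · have h := hsc 18 (by norm_num) t
        rw [p0] at h
        exact h
      · have h := hsc 14 (by norm_num) t
        rw [p1] at h
        exact h
      · have h := hsc 13 (by norm_num) t
        rw [p2] at h
        exact h
      · have h := hsc 12 (by norm_num) t
        rw [p3] at h
        exact h
    · intro i hi t
      have hi4 : i < 4 := hi
      interval_cases i
      · have h := hsc 5 (by norm_num) t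
        rw [n0] at h
        exact h
      · have h := hsc 9 (by norm_num) t
        rw [n1] at h
        exact h
      · have h := hsc 10 (by norm_num) t
        rw [n2] at h
        exact h
      · have h := hsc 11 (by norm_num) t
        rw [n3] at h
        exact h
  rw [← key, congr_congr_symm]
  exact Phi_dD_mem _ _ _

theorem ringChar_ne_two_of (h2 : (2 : F) ≠ 0) : ringChar F ≠ 2 := by
  intro h
  apply h2
  have h3 : ((ringChar F : ℕ) : F) = 0 := ringChar.Nat.cast_ringChar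
  rw [h] at h3
  exact_mod_cast h3

/-- `Inn ⊔ Diag` is normal in `Aut D₄(q)`, `q` odd. -/
theorem normal_inn_sup_diag (hc2 : ringChar F ≠ 2) :
    (Cfsg.Inn ↥(Cfsg.Lie.chevD4.group F) ⊔ diagD4' F).Normal := by
  apply normal_sup_abs (Cfsg.Inn ↥(Cfsg.Lie.chevD4.group F)) (diagD4' F)
    (Cfsg.Agent.Lib.Helper18_D4OutB.graphD4 F) (Cfsg.Agent.Lib.Helper18_D4OutA.fieldD4 F)
    Cfsg.Agent.Lib.Helper18_D4OutB.decomp_out_D4
  · rintro g hg _ ⟨a, rfl⟩
    rw [Cfsg.Agent.Lib.Helper18_ChevAutG.diagHom_apply]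
    exact Cfsg.Agent.Lib.Helper18_ChevAutS.graph_conj_diag cD4' tcD4' acD4' dvD4' honeD4' g hg a
  · exact Cfsg.Agent.Lib.Helper18_D4OutC.field_comm_diag_mem_inn hc2

/-- **`Inndiag(PΩ⁺₈(q))` is normal in the automorphism group, `q` odd.** -/
theorem normal_D4_odd (h2 : (2 : F) ≠ 0) : (Cfsg.inndiagPOmegaPlus 4 F).Normal := by
  have hc2 : ringChar F ≠ 2 := ringChar_ne_two_of h2
  have hodd1 : Fintype.card F % 2 = 1 := FiniteField.odd_card_of_char_ne_two hc2
  have hodd : Odd (Fintype.card F) := Nat.odd_iff.mpr hodd1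
  have hgcd : (Fintype.card F - 1).gcd 2 = 2 := by
    apply Nat.gcd_eq_right
    obtain ⟨k, hk⟩ := hodd
    exact ⟨k, by omega⟩
  obtain ⟨e, he⟩ := Cfsg.Agent.Lib.Helper14_D4IsoX.d4_iso_explicit (F := F)
  refine normal_D4_of_transport hodd e (Cfsg.Inn ↥(Cfsg.Lie.chevD4.group F) ⊔ diagD4' F)
    (normal_inn_sup_diag hc2) le_sup_left ?_ ?_
  · rw [relIndex_sup_abs, Cfsg.Agent.Lib.Helper18_D4OutA.card_Dbar, hgcd]
    norm_num
  · apply match_sup e (diagD4' F)
    rintro _ ⟨a, rfl⟩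
    rw [Cfsg.Agent.Lib.Helper18_ChevAutG.diagHom_apply]
    exact congr_diagAut_mem e he a

end chev

end Cfsg.Agent.Lib.Helper14_D4Normal
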