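import Cfsg.Agent.Lib.Helper36_ChevWeyl

set_option autoImplicit false

/-!
Automorphisms of a Chevalley group induced by a signed permutation matrix `P` of the coordinate module:
if `P E_{r,1} = ε_r E_{π r,1} P` for all roots `r` (a check on the tables, with `P` given by literal tables), then
`P x_r(t) P⁻¹ = x_{π r}(ε_r t)`, and conjugation by `P` is an automorphism of the group generated by the root elements.
-/

namespace Cfsg.Agent.Lib.Helper36_ChevAut

open Cfsg Cfsg.Lie Cfsg.Agent.Lib.Helper36_ChevSparse Cfsg.Agent.Lib.Helper36_ChevCoeff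
  Cfsg.Agent.Lib.Helper36_ChevCoo Cfsg.Agent.Lib.Helper36_ChevAdd Cfsg.Agent.Lib.Helper36_ChevIdx
  Cfsg.Agent.Lib.Helper36_ChevWeyl

variable (D : ChevalleyDatum)

/-- From `N E_{s,1} = η E_{s',1} N` over `ℤ`: the same for the higher coefficient matrices. -/
theorem relations_of_E1 (N : Matrix D.Idx D.Idx ℤ) (s s' : ℕ) (η : ℤ)
    (e1 : N * EZ D s 1 = η • (EZ D s' 1 * N))
    (hs : addCheck D s = true) (hs' : addCheck D s' = true) :
    N * EZ D s 2 = η ^ 2 • (EZ D s' 2 * N) ∧ N * EZ D s 3 = η ^ 3 • (EZ D s' 3 * N) := by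
  obtain ⟨a11, a12, -⟩ := EZ_relations D s hs
  obtain ⟨b11, b12, -⟩ := EZ_relations D s' hs'
  set A1 := EZ D s 1
  set A2 := EZ D s 2
  set A3 := EZ D s 3
  set B1 := EZ D s' 1
  set B2 := EZ D s' 2
  set B3 := EZ D s' 3
  have e2 : N * A2 = η ^ 2 • (B2 * N) := by
    apply two_smul_cancel D 2 (by norm_num)
    calc (2 : ℤ) • (N * A2) = N * ((2 : ℤ) • A2) := by rw [Matrix.mul_smul]
      _ = N * A1 * A1 := by rw [← a11, Matrix.mul_assoc]
      _ = η • (B1 * (N * A1)) := by conv_lhs => rw [e1, Matrix.smul_mul, Matrix.mul_assoc]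
      _ = η • (B1 * (η • (B1 * N))) := by rw [e1]
      _ = (η * η) • (B1 * B1 * N) := by rw [Matrix.mul_smul, smul_smul, Matrix.mul_assoc]
      _ = (2 : ℤ) • (η ^ 2 • (B2 * N)) := by
        rw [b11, Matrix.smul_mul, smul_smul, smul_smul]; congr 1; ring
  have e3 : N * A3 = η ^ 3 • (B3 * N) := by
    apply two_smul_cancel D 3 (by norm_num)
    calc (3 : ℤ) • (N * A3) = N * ((3 : ℤ) • A3) := by rw [Matrix.mul_smul]
      _ = N * A1 * A2 := by rw [← a12, Matrix.mul_assoc]
      _ = η • (B1 * (N * A2)) := by conv_lhs => rw [e1, Matrix.smul_mul, Matrix.mul_assoc]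
      _ = η • (B1 * (η ^ 2 • (B2 * N))) := by rw [e2]
      _ = (η * η ^ 2) • (B1 * B2 * N) := by rw [Matrix.mul_smul, smul_smul, Matrix.mul_assoc]
      _ = (3 : ℤ) • (η ^ 3 • (B3 * N)) := by
        rw [b12, Matrix.smul_mul, smul_smul, smul_smul]; congr 1; ring
  exact ⟨e2, e3⟩

/-- `N x_s(t) = x_{s'}(η t) N` over any field, from the relation between the coefficient matrices. -/
theorem mul_x_of_rel (hlen : ChainLenOK D) (hadd : AddOK D) (F : Type*) [Field F]
    (N : Matrix D.Idx D.Idx ℤ) (s s' : ℕ) (hs : s < D.nroots) (hs' : s' < D.nroots) (η : ℤ)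
    (e1 : N * EZ D s 1 = η • (EZ D s' 1 * N)) (t : F) :
    N.map (Int.castRingHom F) * D.x F s t = D.x F s' ((η : F) * t) * N.map (Int.castRingHom F) := by
  obtain ⟨e2, e3⟩ := relations_of_E1 D N s s' η e1 (hadd s hs) (hadd _ hs')
  have f1 := map_relation D F e1
  have f2 := map_relation D F e2
  have f3 := map_relation D F e3
  unfold ChevalleyDatum.x
  rw [dif_pos hs, dif_pos hs', xMat_eq D hlen, xMat_eq D hlen]
  simp only [EmatF_eq] at f1 f2 f3 ⊢
  simp only [mul_add, add_mul, Matrix.mul_smul, Matrix.smul_mul, mul_one, one_mul, f1, f2, f3, smul_smul]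
  push_cast
  congr 1
  · congr 1
    · congr 1
      congr 1
      ring
    · congr 1
      ring
  · congr 1
    ring

/-! ### the certificate -/

/-- The literal data of a signed permutation matrix `P` and its inverse `Q` (both stored by columns and by rows),
the permutation `π` of the root indices with its inverse, and the signs. -/
structure AutData where
  Pc : Idxd
  Pr : Idxd
  Qc : Idxd
  pi : List ℕ
  piInv : List ℕ
  eps : List ℤ

/-- The check for the root `r`: `π r` is a root index, `π⁻¹ (π r) = r`, `π (π⁻¹ r) = r`, `ε_r = ±1` and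
`P E_{r,1} = ε_r E_{π r,1} P`. -/
def autRootCheck (k : ℕ) (A : AutData) (r : ℕ) : Bool :=
  decide (A.pi.getD r 0 < D.nroots) && decide (A.piInv.getD r 0 < D.nroots) &&
  decide (A.piInv.getD (A.pi.getD r 0) 0 = r) && decide (A.pi.getD (A.piInv.getD r 0) 0 = r) &&
  (A.eps.getD r 0 == 1 || A.eps.getD r 0 == -1) &&
  normEq2 k (mulColsLeft A.Pc (Ecoo D r 1)) (csmul (A.eps.getD r 0) (mulRowsRight (Ecoo D (A.pi.getD r 0) 1) A.Pr))

/-- The check for the roots `a ≤ r < b`. -/
def AutRange (k : ℕ) (A : AutData) (a b : ℕ) : Prop := ∀ r < b, a ≤ r → autRootCheck D k A r = true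

instance (k : ℕ) (A : AutData) (a b : ℕ) : Decidable (AutRange D k A a b) := by
  unfold AutRange
  infer_instance

theorem autRange_trans (k : ℕ) (A : AutData) {a b c : ℕ} (h1 : AutRange D k A a b) (h2 : AutRange D k A b c) :
    AutRange D k A a c := by
  intro r hr har
  by_cases h : r < b
  · exact h1 r h har
  · exact h2 r hr (Nat.le_of_not_lt h)

/-- The check of the matrices: sizes, the two storage forms of `P` agree, and `P Q = Q P = 1`. -/
def autMatCheck (k : ℕ) (A : AutData) : Bool :=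
  decide (A.Pc.length ≤ dim D) && decide (A.Pr.length ≤ dim D) && decide (A.Qc.length ≤ dim D) &&
  normEq2 k (colsToCoo A.Pc) (rowsToCoo A.Pr) &&
  normEq2 k (mulColsLeft A.Pc (colsToCoo A.Qc)) (cone (dim D)) &&
  normEq2 k (mulColsLeft A.Qc (colsToCoo A.Pc)) (cone (dim D))

/-- The integer matrix `P`. -/
def PZ (A : AutData) : Matrix D.Idx D.Idx ℤ := toMatZc D (colsToCoo A.Pc)

/-- The integer matrix `Q = P⁻¹`. -/
def QZ (A : AutData) : Matrix D.Idx D.Idx ℤ := toMatZc D (colsToCoo A.Qc)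

theorem PZ_mul_QZ (k : ℕ) (A : AutData) (h : autMatCheck D k A = true) :
    PZ D A * QZ D A = 1 ∧ QZ D A * PZ D A = 1 := by
  unfold autMatCheck at h
  simp only [Bool.and_eq_true, decide_eq_true_eq] at h
  obtain ⟨⟨⟨⟨⟨h1, -⟩, h3⟩, -⟩, h5⟩, h6⟩ := h
  have e5 := toMatZc_eq_of_normEq2 D k _ _ h5
  have e6 := toMatZc_eq_of_normEq2 D k _ _ h6
  rw [toMatZc_mulColsLeft D _ h1, toMatZc_cone] at e5
  rw [toMatZc_mulColsLeft D _ h3, toMatZc_cone] at e6
  exact ⟨e5, e6⟩

theorem PZ_E1 (k : ℕ) (A : AutData) (h : autMatCheck D k A = true) (r : ℕ)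
    (hr : autRootCheck D k A r = true) :
    PZ D A * EZ D r 1 = (A.eps.getD r 0) • (EZ D (A.pi.getD r 0) 1 * PZ D A) := by
  unfold autMatCheck at h
  simp only [Bool.and_eq_true, decide_eq_true_eq] at h
  obtain ⟨⟨⟨⟨⟨h1, h2⟩, -⟩, h4⟩, -⟩, -⟩ := h
  unfold autRootCheck at hr
  simp only [Bool.and_eq_true] at hr
  have e := toMatZc_eq_of_normEq2 D k _ _ hr.2
  have e4 : PZ D A = toMatZc D (rowsToCoo A.Pr) := toMatZc_eq_of_normEq2 D k _ _ h4
  rw [toMatZc_mulColsLeft D _ h1, toMatZc_csmul, toMatZc_mulRowsRight D _ h2, ← EZ_eq_coo, ← EZ_eq_coo, ← e4] at e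
  exact e

section
variable (hlen : ChainLenOK D) (hadd : AddOK D) (F : Type*) [Field F] (k : ℕ) (A : AutData)
  (hM : autMatCheck D k A = true) (hR : AutRange D k A 0 D.nroots)

/-- The matrix `P` over the field, as an element of the general linear group. -/
noncomputable def PGL : GL D.Idx F where
  val := (PZ D A).map (Int.castRingHom F)
  inv := (QZ D A).map (Int.castRingHom F)
  val_inv := by
    rw [← Matrix.map_mul, (PZ_mul_QZ D k A hM).1]
    ext i j
    by_cases h : i = j
    · subst h; simp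
    · simp [h]
  inv_val := by
    rw [← Matrix.map_mul, (PZ_mul_QZ D k A hM).2]
    ext i j
    by_cases h : i = j
    · subst h; simp
    · simp [h]

include hR in
theorem pi_lt (r : ℕ) (hr : r < D.nroots) : A.pi.getD r 0 < D.nroots := by
  have := hR r hr (Nat.zero_le _)
  unfold autRootCheck at this
  simp only [Bool.and_eq_true, decide_eq_true_eq] at this
  exact this.1.1.1.1.1

include hR in
theorem piInv_lt (r : ℕ) (hr : r < D.nroots) : A.piInv.getD r 0 < D.nroots := by
  have := hR r hr (Nat.zero_le _)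
  unfold autRootCheck at this
  simp only [Bool.and_eq_true, decide_eq_true_eq] at this
  exact this.1.1.1.1.2

include hR in
theorem pi_piInv (r : ℕ) (hr : r < D.nroots) : A.pi.getD (A.piInv.getD r 0) 0 = r := by
  have := hR r hr (Nat.zero_le _)
  unfold autRootCheck at this
  simp only [Bool.and_eq_true, decide_eq_true_eq] at this
  exact this.1.1.2

include hR in
theorem eps_sq (r : ℕ) (hr : r < D.nroots) : A.eps.getD r 0 = 1 ∨ A.eps.getD r 0 = -1 := by
  have := hR r hr (Nat.zero_le _)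
  unfold autRootCheck at this
  simp only [Bool.and_eq_true, Bool.or_eq_true, beq_iff_eq] at this
  exact this.1.2

include hlen hadd hR in
/-- `P x_r(t) = x_{π r}(ε_r t) P`. -/
theorem PGL_mul_x (r : ℕ) (hr : r < D.nroots) (t : F) :
    ((PGL D F k A hM : GL D.Idx F) : Matrix D.Idx D.Idx F) * D.x F r t =
      D.x F (A.pi.getD r 0) (((A.eps.getD r 0 : ℤ) : F) * t) * ((PGL D F k A hM : GL D.Idx F) : Matrix D.Idx D.Idx F) :=
  mul_x_of_rel D hlen hadd F (PZ D A) r _ hr (pi_lt D k A hR r hr) _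
    (PZ_E1 D k A hM r (hR r hr (Nat.zero_le _))) t

include hlen hadd hR in
/-- Conjugation by `P` maps the group generated by the root elements onto itself. -/
theorem map_conj_group : (D.group F).map (MulAut.conj (PGL D F k A hM)).toMonoidHom = D.group F := by
  apply le_antisymm
  · rw [Subgroup.map_le_iff_le_comap]
    unfold ChevalleyDatum.group
    rw [Subgroup.closure_le]
    rintro g ⟨r, t, hg⟩
    simp only [Subgroup.coe_comap, Set.mem_preimage, MulEquiv.coe_toMonoidHom, MulAut.conj_apply, SetLike.mem_coe]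
    apply Subgroup.subset_closure
    refine ⟨⟨A.pi.getD r.val 0, pi_lt D k A hR r.val r.isLt⟩, ((A.eps.getD r.val 0 : ℤ) : F) * t, ?_⟩
    have h1 := PGL_mul_x D hlen hadd F k A hM hR r.val r.isLt t
    have hx : D.x F r.val t = D.xMat F r t := by
      unfold ChevalleyDatum.x; rw [dif_pos r.isLt]
    have hx' : D.x F (A.pi.getD r.val 0) (((A.eps.getD r.val 0 : ℤ) : F) * t) =
        D.xMat F ⟨A.pi.getD r.val 0, pi_lt D k A hR r.val r.isLt⟩ (((A.eps.getD r.val 0 : ℤ) : F) * t) := by
      unfold ChevalleyDatum.x; rw [dif_pos (pi_lt D k A hR r.val r.isLt)]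
    rw [hx, ← hg, hx'] at h1
    simp only [Units.val_mul]
    rw [h1, Matrix.mul_assoc, ← Units.val_mul, mul_inv_cancel, Units.val_one, Matrix.mul_one]
  · unfold ChevalleyDatum.group
    rw [Subgroup.closure_le]
    rintro g ⟨r, t, hg⟩
    -- `g = x_r(t)` is the image of `x_{π⁻¹ r}(ε t)`
    set r0 := A.piInv.getD r.val 0 with hr0
    have hr0lt : r0 < D.nroots := piInv_lt D k A hR r.val r.isLt
    have hpi : A.pi.getD r0 0 = r.val := pi_piInv D k A hR r.val r.isLt
    have hε := eps_sq D k A hR r0 hr0lt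
    have h1 := PGL_mul_x D hlen hadd F k A hM hR r0 hr0lt (((A.eps.getD r0 0 : ℤ) : F) * t)
    have hεε : ((A.eps.getD r0 0 : ℤ) : F) * (((A.eps.getD r0 0 : ℤ) : F) * t) = t := by
      rcases hε with h | h <;> rw [h] <;> simp
    rw [hεε, hpi] at h1
    have hx : D.x F r.val t = D.xMat F r t := by
      unfold ChevalleyDatum.x; rw [dif_pos r.isLt]
    rw [hx, ← hg] at h1
    -- the preimage
    have hmem : xGL D hlen hadd F r0 (((A.eps.getD r0 0 : ℤ) : F) * t) ∈
        Subgroup.closure {g : GL D.Idx F | ∃ (r : Fin D.nroots) (t : F), (g : Matrix D.Idx D.Idx F) = D.xMat F r t} := by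
      apply Subgroup.subset_closure
      refine ⟨⟨r0, hr0lt⟩, ((A.eps.getD r0 0 : ℤ) : F) * t, ?_⟩
      rw [xGL_coe]
      unfold ChevalleyDatum.x
      rw [dif_pos hr0lt]
    refine ⟨_, hmem, ?_⟩
    simp only [MulEquiv.coe_toMonoidHom, MulAut.conj_apply]
    apply Units.ext
    simp only [Units.val_mul, xGL_coe]
    rw [h1, Matrix.mul_assoc, ← Units.val_mul, mul_inv_cancel, Units.val_one, Matrix.mul_one]

/-- The automorphism of the group: conjugation by `P`. -/
noncomputable def conjAut : ↥(D.group F) ≃* ↥(D.group F) :=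
  ((MulAut.conj (PGL D F k A hM)).subgroupMap (D.group F)).trans
    (MulEquiv.subgroupCongr (map_conj_group D hlen hadd F k A hM hR))

include hlen hadd hR in
theorem conjAut_coe (g : ↥(D.group F)) :
    ((conjAut D hlen hadd F k A hM hR g : ↥(D.group F)) : GL D.Idx F) =
      PGL D F k A hM * (g : GL D.Idx F) * (PGL D F k A hM)⁻¹ := rfl

include hlen hadd hR in
/-- The automorphism sends `x_r(t)` to `x_{π r}(ε_r t)`. -/
theorem conjAut_x (g : ↥(D.group F)) (r : ℕ) (hr : r < D.nroots) (t : F)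
    (hg : ((g : GL D.Idx F) : Matrix D.Idx D.Idx F) = D.x F r t) :
    (((conjAut D hlen hadd F k A hM hR g : ↥(D.group F)) : GL D.Idx F) : Matrix D.Idx D.Idx F) =
      D.x F (A.pi.getD r 0) (((A.eps.getD r 0 : ℤ) : F) * t) := by
  rw [conjAut_coe D hlen hadd F k A hM hR]
  simp only [Units.val_mul]
  rw [hg, PGL_mul_x D hlen hadd F k A hM hR r hr t, Matrix.mul_assoc, ← Units.val_mul, mul_inv_cancel,
    Units.val_one, Matrix.mul_one]

end

end Cfsg.Agent.Lib.Helper36_ChevAut
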