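import Cfsg.Agent.Lib.Helper18_ChevAutS
import Cfsg.Agent.Lib.Helper36_ChevAut

set_option autoImplicit false

/-!
Automorphisms of the Chevalley groups over finite fields, nineteenth part: the automorphisms given by conjugation
with a signed permutation matrix (the certificates of helper36), on the root elements and on the subgroups `U`, `V`.
-/

namespace Cfsg.Agent.Lib.Helper18_ChevAutU

open Cfsg Cfsg.Lie Cfsg.Agent.Lib.Helper18_ChevFast Cfsg.Agent.Lib.Helper18_ChevEngine
  Cfsg.Agent.Lib.Helper18_ChevN Cfsg.Agent.Lib.Helper18_ChevWeyl Cfsg.Agent.Lib.Helper18_ChevGL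
  Cfsg.Agent.Lib.Helper18_ChevBruhat Cfsg.Agent.Lib.Helper18_ChevAutA Cfsg.Agent.Lib.Helper18_ChevAutB
  Cfsg.Agent.Lib.Helper18_ChevAutC

variable (D : ChevalleyDatum) (hlen : Cfsg.Agent.Lib.Helper36_ChevCoeff.ChainLenOK D)
  (hadd : Cfsg.Agent.Lib.Helper36_ChevAdd.AddOK D) (F : Type*) [Field F] (k : ℕ)
  (A : Cfsg.Agent.Lib.Helper36_ChevAut.AutData)
  (hM : Cfsg.Agent.Lib.Helper36_ChevAut.autMatCheck D k A = true)
  (hR : Cfsg.Agent.Lib.Helper36_ChevAut.AutRange D k A 0 D.nroots)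
  {Ns : List NData} (c : DCert D Ns)

/-- The matrix of the automorphism. -/
noncomputable def pgl : GL D.Idx F := Cfsg.Agent.Lib.Helper36_ChevAut.PGL D F k A hM

/-- The automorphism: conjugation by the signed permutation matrix. -/
noncomputable def sgnAut : MulAut ↥(D.group F) :=
  Cfsg.Agent.Lib.Helper36_ChevAut.conjAut D hlen hadd F k A hM hR

theorem sgnAut_coe (g : ↥(D.group F)) :
    ((sgnAut D hlen hadd F k A hM hR g : ↥(D.group F)) : GL D.Idx F) =
      pgl D F k A hM * (g : GL D.Idx F) * (pgl D F k A hM)⁻¹ := rfl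

include hlen hadd hR in
theorem pgl_conj_xGL (r : ℕ) (hr : r < D.nroots) (t : F) :
    pgl D F k A hM * xGL c r t * (pgl D F k A hM)⁻¹ =
      xGL c (A.pi.getD r 0) (((A.eps.getD r 0 : ℤ) : F) * t) := by
  rw [mul_inv_eq_iff_eq_mul]
  apply Units.ext
  simp only [Units.val_mul, xGL_coe]
  exact Cfsg.Agent.Lib.Helper36_ChevAut.PGL_mul_x D hlen hadd F k A hM hR r hr t

include hlen hadd hR in
theorem pgl_inv_conj_xGL (r : ℕ) (hr : r < D.nroots) (t : F) :
    (pgl D F k A hM)⁻¹ * xGL c r t * pgl D F k A hM =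
      xGL c (A.piInv.getD r 0) (((A.eps.getD (A.piInv.getD r 0) 0 : ℤ) : F) * t) := by
  have hr0 := Cfsg.Agent.Lib.Helper36_ChevAut.piInv_lt D k A hR r hr
  have hpi := Cfsg.Agent.Lib.Helper36_ChevAut.pi_piInv D k A hR r hr
  have hε := Cfsg.Agent.Lib.Helper36_ChevAut.eps_sq D k A hR _ hr0
  have h1 := pgl_conj_xGL D hlen hadd F k A hM hR c _ hr0 (((A.eps.getD (A.piInv.getD r 0) 0 : ℤ) : F) * t)
  have hεε : ((A.eps.getD (A.piInv.getD r 0) 0 : ℤ) : F) * (((A.eps.getD (A.piInv.getD r 0) 0 : ℤ) : F) * t) = t := by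
    rcases hε with h | h <;> rw [h] <;> simp
  rw [hεε, hpi] at h1
  rw [← h1]
  group

include hlen hadd in
theorem sgnAut_xG (r : ℕ) (hr : r < D.nroots) (t : F) :
    sgnAut D hlen hadd F k A hM hR (xG c r t) = xG c (A.pi.getD r 0) (((A.eps.getD r 0 : ℤ) : F) * t) := by
  apply Subtype.ext
  rw [sgnAut_coe, xG_coe, xG_coe, pgl_conj_xGL D hlen hadd F k A hM hR c r hr]

include hlen hadd c in
/-- The automorphism preserves the subgroup generated by the root subgroups of a set of roots stable under the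
permutation of the roots and its inverse. -/
theorem sgnAut_preserves_closure (P : ℕ → Prop) (hP : ∀ r, P r → r < D.nroots)
    (hpi : ∀ r, P r → P (A.pi.getD r 0) ∧ P (A.piInv.getD r 0)) :
    Preserves (sgnAut D hlen hadd F k A hM hR)
      (Subgroup.closure {g : GL D.Idx F | ∃ (r : ℕ) (t : F), P r ∧ (g : Matrix D.Idx D.Idx F) = D.x F r t}) := by
  intro x
  rw [sgnAut_coe]
  constructor
  · intro h
    have := conj_closure_le (pgl D F k A hM)⁻¹ _ (Subgroup.closure {g : GL D.Idx F | ∃ (r : ℕ) (t : F), P r ∧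
        (g : Matrix D.Idx D.Idx F) = D.x F r t}) ?_ _ h
    · rw [inv_inv] at this
      have e : (pgl D F k A hM)⁻¹ * (pgl D F k A hM * (x : GL D.Idx F) * (pgl D F k A hM)⁻¹) * pgl D F k A hM = x := by
        group
      rwa [e] at this
    · rintro s ⟨r, t, hr, hs⟩
      rw [eq_xGL c hs, inv_inv, pgl_inv_conj_xGL D hlen hadd F k A hM hR c r (hP r hr)]
      exact Subgroup.subset_closure ⟨_, _, (hpi r hr).2, rfl⟩
  · intro h
    apply conj_closure_le (pgl D F k A hM) _ _ ?_ _ h
    rintro s ⟨r, t, hr, hs⟩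
    rw [eq_xGL c hs, pgl_conj_xGL D hlen hadd F k A hM hR c r (hP r hr)]
    exact Subgroup.subset_closure ⟨_, _, (hpi r hr).1, rfl⟩

/-- The certificate that the permutation of the roots and its inverse preserve the signs of the roots. -/
def PosCert (D : ChevalleyDatum) (A : Cfsg.Agent.Lib.Helper36_ChevAut.AutData) : Prop :=
  ∀ r < D.nroots,
    (D.IsPosRoot r → D.IsPosRoot (A.pi.getD r 0) ∧ D.IsPosRoot (A.piInv.getD r 0)) ∧
    (D.IsNegRoot r → D.IsNegRoot (A.pi.getD r 0) ∧ D.IsNegRoot (A.piInv.getD r 0))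

instance (D : ChevalleyDatum) (A : Cfsg.Agent.Lib.Helper36_ChevAut.AutData) : Decidable (PosCert D A) := by
  unfold PosCert
  infer_instance

include hlen hadd c in
theorem sgnAut_preserves_pos (hpos : PosCert D A) :
    Preserves (sgnAut D hlen hadd F k A hM hR) (D.posUnipotent F) :=
  sgnAut_preserves_closure D hlen hadd F k A hM hR c D.IsPosRoot (fun _ h => h.1) (fun r h => (hpos r h.1).1 h)

include hlen hadd c in
theorem sgnAut_preserves_neg (hpos : PosCert D A) :
    Preserves (sgnAut D hlen hadd F k A hM hR) (D.negUnipotent F) :=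
  sgnAut_preserves_closure D hlen hadd F k A hM hR c D.IsNegRoot (fun _ h => h.1) (fun r h => (hpos r h.1).2 h)

end Cfsg.Agent.Lib.Helper18_ChevAutU
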