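import Cfsg.Agent.Lib.Helper18_ChevHhat
import Cfsg.Prelude.Def_ChevG2
import Cfsg.Prelude.Def_ChevB2
import Cfsg.Prelude.Def_ChevD4
import Cfsg.Prelude.Def_ChevF4
import Cfsg.Prelude.Def_ChevE6
import Cfsg.Prelude.Def_ChevE7
import Cfsg.Prelude.Def_ChevE8

set_option autoImplicit false

/-! Consecutive roots of a chain are joined by a chain step: check for the seven data. -/

namespace Cfsg.Agent.Lib.Helper18_ChevCCerts

open Cfsg Cfsg.Lie Cfsg.Agent.Lib.Helper18_ChevHhat

set_option maxHeartbeats 0 in
theorem chainCons_all (D : ChevalleyDatum)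
    (hD : D ∈ [chevG2, chevB2, chevD4, chevF4, chevE6, chevE7, chevE8]) : ChainCons D := by
  simp only [List.mem_cons, List.not_mem_nil, or_false] at hD
  rcases hD with rfl | rfl | rfl | rfl | rfl | rfl | rfl
  · decide +kernel
  · decide +kernel
  · decide +kernel
  · decide +kernel
  · decide +kernel
  · decide +kernel
  · decide +kernel

end Cfsg.Agent.Lib.Helper18_ChevCCerts
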