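import Cfsg.Agent.Lib.Helper18_ChevFrob
import Cfsg.Prelude.Def_ChevAutomorphisms

set_option autoImplicit false

/-!
Field automorphisms of the Chevalley groups whose Cartan matrix is unimodular: the fixed points are the Chevalley
group of the same type over the fixed field.
-/

namespace Cfsg.Agent.Lib.Helper18_ChevField

open Cfsg Cfsg.Lie Cfsg.Agent.Lib.Helper18_ChevFast Cfsg.Agent.Lib.Helper18_ChevEngine
  Cfsg.Agent.Lib.Helper18_ChevR1 Cfsg.Agent.Lib.Helper18_ChevN Cfsg.Agent.Lib.Helper18_ChevR4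
  Cfsg.Agent.Lib.Helper18_ChevSimple Cfsg.Agent.Lib.Helper18_ChevSimple2 Cfsg.Agent.Lib.Helper18_ChevFacts
  Cfsg.Agent.Lib.Helper18_ChevWeyl Cfsg.Agent.Lib.Helper18_ChevDiag Cfsg.Agent.Lib.Helper18_ChevCar
  Cfsg.Agent.Lib.Helper18_ChevTorus Cfsg.Agent.Lib.Helper18_ChevGL Cfsg.Agent.Lib.Helper18_ChevComm
  Cfsg.Agent.Lib.Helper18_ChevComm2 Cfsg.Agent.Lib.Helper18_MatTri Cfsg.Agent.Lib.Helper18_ChevTri
  Cfsg.Agent.Lib.Helper18_ChevBorel Cfsg.Agent.Lib.Helper18_ChevAdd Cfsg.Agent.Lib.Helper18_ChevUni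
  Cfsg.Agent.Lib.Helper18_ChevBN Cfsg.Agent.Lib.Helper18_ChevMono Cfsg.Agent.Lib.Helper18_ChevBNPair
  Cfsg.Agent.Lib.Helper18_ChevSimp Cfsg.Agent.Lib.Helper18_ChevJCerts Cfsg.Agent.Lib.Helper18_ChevLevi
  Cfsg.Agent.Lib.Helper18_ChevBruhat Cfsg.Agent.Lib.Helper18_ChevPar Cfsg.Agent.Lib.Helper18_ChevRootHom
  Cfsg.Agent.Lib.Helper18_ChevOrder Cfsg.Agent.Lib.Helper18_ChevSylow Cfsg.Agent.Lib.Helper18_ChevCent
  Cfsg.Agent.Lib.Helper18_ChevFrob

variable {D : ChevalleyDatum} {Ns : List NData} {F : Type*} [Field F]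
variable {wl : List ℤ} {ws : List (List ℤ)} {sc : ℤ} {w : List ℤ} {d : ℕ}

/-! ### The inverse of the Cartan matrix -/

/-- The entry of an integer matrix given by its rows. -/
def invEntry (B : List (List ℤ)) (j k : ℕ) : ℤ := (B.getD j []).getD k 0

/-- The check that `B` is a right inverse of the Cartan matrix of the fundamental roots. -/
def invCartanOK (D : ChevalleyDatum) (B : List (List ℤ)) : Bool :=
  (List.range D.rank).all fun i => (List.range D.rank).all fun k =>
    decide (((List.range D.rank).map fun j => D.cartan i (D.simple j) * invEntry B j k).sum =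
      if i = k then 1 else 0)

/-- `B` is a right inverse of the Cartan matrix of the fundamental roots. -/
def InvCartan (D : ChevalleyDatum) (B : List (List ℤ)) : Prop :=
  ∀ i < D.rank, ∀ k < D.rank,
    ∑ j ∈ Finset.range D.rank, D.cartan i (D.simple j) * invEntry B j k = if i = k then 1 else 0

theorem sum_range_eq_list (f : ℕ → ℤ) : ∀ n : ℕ, ∑ j ∈ Finset.range n, f j = ((List.range n).map f).sum
  | 0 => by simp
  | n + 1 => by
    rw [Finset.sum_range_succ, List.range_succ, List.map_append, List.sum_append, sum_range_eq_list f n]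
    simp

theorem invCartan_of_check (B : List (List ℤ)) (h : invCartanOK D B = true) : InvCartan D B := by
  intro i hi k hk
  unfold invCartanOK at h
  rw [List.all_eq_true] at h
  have h1 := h i (List.mem_range.mpr hi)
  rw [List.all_eq_true] at h1
  have h2 := h1 k (List.mem_range.mpr hk)
  rw [decide_eq_true_eq] at h2
  rw [← h2]
  exact sum_range_eq_list _ _

/-! ### Torus elements as products of the `h` of the fundamental roots -/

/-- The product of the `h_{p_i}(t_i)` for `i < n`. -/
def torusGL (c : DCert D Ns) (t : ℕ → F) (n : ℕ) : GL D.Idx F :=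
  ((List.range n).map fun i => hGL c (D.simple i) (t i)).prod

theorem torusGL_coe (c : DCert D Ns) (tc : TCert D) (t : ℕ → F) (ht : ∀ i, t i ≠ 0) : ∀ n ≤ D.rank,
    ((torusGL c t n : GL D.Idx F) : Matrix D.Idx D.Idx F) =
      diagMat D (fun s => ∏ i ∈ Finset.range n, t i ^ D.cartan i s)
  | 0, _ => by
    unfold torusGL
    simp only [List.range_zero, List.map_nil, List.prod_nil, Units.val_one, Finset.range_zero, Finset.prod_empty]
    exact (diagMat_one (D := D) (F := F)).symm
  | n + 1, h => by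
    have ih := torusGL_coe c tc t ht n (by omega)
    unfold torusGL at ih ⊢
    rw [List.range_succ, List.map_append, List.prod_append, Units.val_mul, ih, List.map_singleton,
      List.prod_singleton, hGL_coe, hMat_all c tc _ (c.ncert n (by omega)).simple_lt (t n) (ht n), diagMat_mul]
    apply diagMat_congr
    intro s _
    rw [Finset.prod_range_succ, tc.cartanR_simple n (by omega) s]

theorem hGL_mem_fix (c : DCert D Ns) (f : F →+* F) (r : ℕ) (a : F) (ha : f a = a) :
    hGL c r a ∈ Subgroup.closure (fixGens D f) := by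
  unfold hGL
  apply wordGL_mem_fix c f
  intro p hp
  unfold ChevalleyDatum.hWord ChevalleyDatum.nWord at hp
  simp only [List.cons_append, List.nil_append, List.mem_cons, List.not_mem_nil, or_false] at hp
  rcases hp with rfl | rfl | rfl | rfl | rfl | rfl <;> simp [ha]

theorem torusGL_mem_fix (c : DCert D Ns) (f : F →+* F) (t : ℕ → F) (n : ℕ) (ht : ∀ i < n, f (t i) = t i) :
    torusGL c t n ∈ Subgroup.closure (fixGens D f) := by
  unfold torusGL
  apply Subgroup.list_prod_mem
  intro g hg
  rw [List.mem_map] at hg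
  obtain ⟨i, hi, rfl⟩ := hg
  exact hGL_mem_fix c f _ _ (ht i (List.mem_range.mp hi))

/-- The parameters of a torus element are recovered from its character when the Cartan matrix is unimodular. -/
theorem param_eq_prod (B : List (List ℤ)) (hB : InvCartan D B) (t : ℕ → F) (ht : ∀ i, t i ≠ 0) (k : ℕ)
    (hk : k < D.rank) :
    t k = ∏ j ∈ Finset.range D.rank, torusChar D t (D.simple j) ^ invEntry B j k := by
  unfold torusChar
  have h1 : ∀ j ∈ Finset.range D.rank,
      (∏ i ∈ Finset.range D.rank, t i ^ D.cartan i (D.simple j)) ^ invEntry B j k =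
        ∏ i ∈ Finset.range D.rank, t i ^ (D.cartan i (D.simple j) * invEntry B j k) := by
    intro j _
    rw [← Finset.prod_zpow]
    apply Finset.prod_congr rfl
    intro i _
    rw [zpow_mul]
  rw [Finset.prod_congr rfl h1, Finset.prod_comm]
  have h2 : ∀ i ∈ Finset.range D.rank,
      ∏ j ∈ Finset.range D.rank, t i ^ (D.cartan i (D.simple j) * invEntry B j k) =
        t i ^ (if i = k then (1 : ℤ) else 0) := by
    intro i hi
    rw [← zpow_sum_range (t i) (ht i), hB i (Finset.mem_range.mp hi) k hk]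
  rw [Finset.prod_congr rfl h2, Finset.prod_eq_single k]
  · simp
  · intro i _ hik
    rw [if_neg hik, zpow_zero]
  · intro h
    exact absurd (Finset.mem_range.mpr hk) h

/-- A fixed element of `H` lies in the subgroup generated by the root elements with fixed parameters. -/
theorem diagonal_fixed_mem (c : DCert D Ns) (tc : TCert D) (B : List (List ℤ)) (hB : InvCartan D B)
    (f : F →+* F) (h : GL D.Idx F) (hh : h ∈ D.diagonalSubgroup F) (hfix : mapGL D f h = h) :
    h ∈ Subgroup.closure (fixGens D f) := by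
  obtain ⟨t, ht, hk⟩ := exists_torus_of_mem c tc h hh
  have hχ : ∀ s < D.nroots, f (torusChar D t s) = torusChar D t s := by
    intro s hs
    have hent := (mapGL_eq_self_iff f h).mp hfix (Sum.inr ⟨s, hs⟩) (Sum.inr ⟨s, hs⟩)
    rw [hk] at hent
    have hval : torusMat D t (Sum.inr ⟨s, hs⟩) (Sum.inr ⟨s, hs⟩) = torusChar D t s := by
      unfold torusMat diagMat
      rw [Matrix.diagonal_apply_eq]
      rfl
    rw [hval] at hent
    exact hent
  have hfixt : ∀ k < D.rank, f (t k) = t k := by
    intro k hk'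
    have e := param_eq_prod B hB t ht k hk'
    rw [e, map_prod]
    apply Finset.prod_congr rfl
    intro j hj
    rw [map_zpow₀, hχ _ (c.ncert j (Finset.mem_range.mp hj)).simple_lt]
  have e : h = torusGL c t D.rank := by
    apply Units.ext
    rw [hk, torusGL_coe c tc t ht D.rank le_rfl]
    rfl
  rw [e]
  exact torusGL_mem_fix c f t D.rank hfixt

/-- The fixed points of the group are the subgroup generated by the root elements with fixed parameters. -/
theorem fixed_iff (c : DCert D Ns) (tc : TCert D) (ac : ACert D wl ws sc) (gc : GCert D w d)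
    (hdesc : Descent D) (hR2 : R2All D F) (B : List (List ℤ)) (hB : InvCartan D B) (f : F →+* F)
    (g : GL D.Idx F) : (g ∈ D.group F ∧ mapGL D f g = g) ↔ g ∈ Subgroup.closure (fixGens D f) := by
  constructor
  · rintro ⟨hg, hfix⟩
    obtain ⟨l₁, hl₁, h, hh, hhfix, l₂, hl₂, rfl⟩ := fixed_decomp c tc ac gc hdesc hR2 f g hg hfix
    exact Subgroup.mul_mem _ (Subgroup.mul_mem _ hl₁ (diagonal_fixed_mem c tc B hB f h hh hhfix)) hl₂
  · intro hg
    have hle : Subgroup.closure (fixGens D f) ≤
        D.group F ⊓ ((mapGL D f).eqLocus (MonoidHom.id (GL D.Idx F))) := by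
      rw [Subgroup.closure_le]
      rintro s ⟨r, t, ht, hs⟩
      rw [eq_xGL c hs]
      refine ⟨xGL_mem_group c r t, ?_⟩
      show mapGL D f (xGL c r t) = xGL c r t
      rw [mapGL_xGL, ht]
    exact hle hg

/-! ### The entrywise map between two fields -/

/-- The entrywise map on the general linear group, between two fields. -/
def mapGL2 (D : ChevalleyDatum) {F₀ : Type*} [Field F₀] (f : F₀ →+* F) : GL D.Idx F₀ →* GL D.Idx F :=
  Units.map (f.mapMatrix : Matrix D.Idx D.Idx F₀ →+* Matrix D.Idx D.Idx F).toMonoidHom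

theorem mapGL2_coe {F₀ : Type*} [Field F₀] (f : F₀ →+* F) (g : GL D.Idx F₀) :
    ((mapGL2 D f g : GL D.Idx F) : Matrix D.Idx D.Idx F) = (g : Matrix D.Idx D.Idx F₀).map f := rfl

theorem mapGL2_injective {F₀ : Type*} [Field F₀] (f : F₀ →+* F) : Function.Injective (mapGL2 D f) := by
  intro g g' h
  apply Units.ext
  ext i j
  have := congrArg (fun x : GL D.Idx F => (x : Matrix D.Idx D.Idx F) i j) h
  simp only [mapGL2_coe, Matrix.map_apply] at this
  exact f.injective this

theorem mapGL2_xGL {F₀ : Type*} [Field F₀] (c : DCert D Ns) (f : F₀ →+* F) (r : ℕ) (t : F₀) :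
    mapGL2 D f (xGL c r t) = xGL c r (f t) := by
  apply Units.ext
  rw [mapGL2_coe, xGL_coe, xGL_coe, x_map]

/-- The image of the group over a subfield is generated by the root elements with parameters in the subfield. -/
theorem map_group_eq {F₀ : Type*} [Field F₀] (c : DCert D Ns) (ι : F₀ →+* F) (f : F →+* F)
    (hι : ∀ x : F, f x = x ↔ ∃ y : F₀, ι y = x) :
    (D.group F₀).map (mapGL2 D ι) = Subgroup.closure (fixGens D f) := by
  apply le_antisymm
  · rw [Subgroup.map_le_iff_le_comap]
    unfold ChevalleyDatum.group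
    rw [Subgroup.closure_le]
    rintro g ⟨r, t, hg⟩
    have hg' : g = xGL c r.val t := by
      apply Units.ext
      rw [hg, xGL_coe]
      unfold ChevalleyDatum.x
      rw [dif_pos r.isLt]
    show mapGL2 D ι g ∈ Subgroup.closure (fixGens D f)
    rw [hg', mapGL2_xGL]
    exact xGL_mem_fix c f _ _ ((hι _).mpr ⟨t, rfl⟩)
  · rw [Subgroup.closure_le]
    rintro s ⟨r, t, ht, hs⟩
    obtain ⟨y, rfl⟩ := (hι t).mp ht
    rw [eq_xGL c hs, ← mapGL2_xGL]
    exact Subgroup.mem_map_of_mem _ (xGL_mem_group c r y)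

/-! ### Field automorphisms -/

/-- A field automorphism of the group is the entrywise map. -/
theorem fieldAut_apply (c : DCert D Ns) (φ : ↥(D.group F) ≃* ↥(D.group F)) (σ : F ≃+* F)
    (hσ : ∀ (g : ↥(D.group F)) (r : ℕ) (t : F), r < D.nroots →
      ((g : GL D.Idx F) : Matrix D.Idx D.Idx F) = D.x F r t →
        ((φ g : GL D.Idx F) : Matrix D.Idx D.Idx F) = D.x F r (σ t)) (g : ↥(D.group F)) :
    ((φ g : ↥(D.group F)) : GL D.Idx F) = mapGL D (σ : F →+* F) (g : GL D.Idx F) := by
  have h1 : Subgroup.closure ((Subtype.val : ↥(D.group F) → GL D.Idx F) ⁻¹'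
      {g | ∃ (r : Fin D.nroots) (t : F), (g : Matrix D.Idx D.Idx F) = D.xMat F r t}) = ⊤ :=
    Subgroup.closure_closure_coe_preimage
  have h2 : ((D.group F).subtype.comp φ.toMonoidHom : ↥(D.group F) →* GL D.Idx F) =
      (mapGL D (σ : F →+* F)).comp (D.group F).subtype := by
    apply MonoidHom.eq_of_eqOn_dense h1
    rintro g ⟨r, t, hg⟩
    have hg' : ((g : GL D.Idx F) : Matrix D.Idx D.Idx F) = D.x F r.val t := by
      rw [hg]
      unfold ChevalleyDatum.x
      rw [dif_pos r.isLt]
    have h3 := hσ g r.val t r.isLt hg'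
    show ((φ g : ↥(D.group F)) : GL D.Idx F) = mapGL D (σ : F →+* F) (g : GL D.Idx F)
    rw [eq_xGL c hg', mapGL_xGL]
    exact eq_xGL c h3
  exact DFunLike.congr_fun h2 g

theorem fieldAut_pow (φ : ↥(D.group F) ≃* ↥(D.group F)) (σ : F ≃+* F)
    (hσ : ∀ (g : ↥(D.group F)) (r : ℕ) (t : F), r < D.nroots →
      ((g : GL D.Idx F) : Matrix D.Idx D.Idx F) = D.x F r t →
        ((φ g : GL D.Idx F) : Matrix D.Idx D.Idx F) = D.x F r (σ t)) : ∀ (k : ℕ)
    (g : ↥(D.group F)) (r : ℕ) (t : F), r < D.nroots →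
      ((g : GL D.Idx F) : Matrix D.Idx D.Idx F) = D.x F r t →
        ((((φ : MulAut ↥(D.group F)) ^ k) g : GL D.Idx F) : Matrix D.Idx D.Idx F) =
          D.x F r (((σ : RingAut F) ^ k) t)
  | 0, g, r, t, _, hg => by
    rw [pow_zero, pow_zero]
    exact hg
  | k + 1, g, r, t, hr, hg => by
    rw [pow_succ, pow_succ, MulAut.mul_apply, RingAut.mul_apply]
    exact fieldAut_pow φ σ hσ k (φ g) r (σ t) hr (hσ g r t hr hg)

/-- The order of a field automorphism of the group is the order of the automorphism of the field. -/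
theorem orderOf_fieldAut (c : DCert D Ns) (tc : TCert D) (ac : ACert D wl ws sc)
    (φ : ↥(D.group F) ≃* ↥(D.group F)) (σ : F ≃+* F)
    (hσ : ∀ (g : ↥(D.group F)) (r : ℕ) (t : F), r < D.nroots →
      ((g : GL D.Idx F) : Matrix D.Idx D.Idx F) = D.x F r t →
        ((φ g : GL D.Idx F) : Matrix D.Idx D.Idx F) = D.x F r (σ t)) (r₀ : ℕ) (hr₀ : r₀ < D.nroots) :
    orderOf (σ : RingAut F) = orderOf (φ : MulAut ↥(D.group F)) := by
  rw [orderOf_eq_orderOf_iff]
  intro k
  have hk := fieldAut_pow φ σ hσ k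
  constructor
  · intro h
    apply MulEquiv.ext
    intro g
    apply Subtype.ext
    have := fieldAut_apply c ((φ : MulAut ↥(D.group F)) ^ k) ((σ : RingAut F) ^ k) hk g
    rw [this, h]
    apply Units.ext
    rw [mapGL_coe]
    ext i j
    rfl
  · intro h
    ext t
    have h1 := hk ⟨xGL c r₀ t, xGL_mem_group c r₀ t⟩ r₀ t hr₀ rfl
    rw [h] at h1
    exact (xGL_param_inj c tc ac r₀ hr₀ _ _ h1).symm

/-! ### The fixed field -/

theorem mem_fixed_iff (σ : F ≃+* F) (x : F) :
    x ∈ FixedPoints.subfield (Subgroup.zpowers (σ : RingAut F)) F ↔ σ x = x := by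
  constructor
  · intro h
    exact h ⟨σ, Subgroup.mem_zpowers (σ : RingAut F)⟩
  · intro h g
    obtain ⟨g, hg⟩ := g
    have : Subgroup.zpowers (σ : RingAut F) ≤ MulAction.stabilizer (RingAut F) x := by
      rw [Subgroup.zpowers_le]
      exact h
    exact this hg

theorem card_eq_pow [Finite F] (σ : F ≃+* F) :
    Nat.card F = Nat.card (FixedPoints.subfield (Subgroup.zpowers (σ : RingAut F)) F) ^
      orderOf (σ : RingAut F) := by
  classical
  have : Finite (RingAut F) := Finite.of_injective (fun e : F ≃+* F => (e : F → F)) DFunLike.coe_injective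
  have : Fintype (Subgroup.zpowers (σ : RingAut F)) := Fintype.ofFinite _
  have h1 := FixedPoints.finrank_eq_card (Subgroup.zpowers (σ : RingAut F)) F
  rw [Fintype.card_eq_nat_card, Nat.card_zpowers] at h1
  rw [← h1]
  exact Module.natCard_eq_pow_finrank

/-! ### The fixed points of a field automorphism -/

/-- The fixed points of a field automorphism of a Chevalley group with unimodular Cartan matrix over a finite field
form the Chevalley group of the same type over the fixed field. -/
theorem exists_fixed_equiv [Fintype F] (c : DCert D Ns) (tc : TCert D) (ac : ACert D wl ws sc) (gc : GCert D w d)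
    (hdesc : Descent D) (hR2 : R2All D F) (B : List (List ℤ)) (hB : InvCartan D B) (r₀ : ℕ)
    (hr₀ : r₀ < D.nroots) (φ : MulAut ↥(D.group F)) (hφ : D.IsFieldAut φ) :
    ∃ (F₀ : Type) (_ : Field F₀) (_ : Fintype F₀), Fintype.card F = Fintype.card F₀ ^ orderOf φ ∧
      Nonempty (↥((MulEquiv.toMonoidHom φ).eqLocus (MonoidHom.id ↥(D.group F))) ≃* ↥(D.group F₀)) := by
  classical
  obtain ⟨σ, hσ⟩ := hφ
  have hFin : Fintype (FixedPoints.subfield (Subgroup.zpowers (σ : RingAut F)) F) := Fintype.ofFinite _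
  let e : Shrink.{0} (FixedPoints.subfield (Subgroup.zpowers (σ : RingAut F)) F) ≃+*
      FixedPoints.subfield (Subgroup.zpowers (σ : RingAut F)) F := Shrink.ringEquiv _
  have hFin0 : Fintype (Shrink.{0} (FixedPoints.subfield (Subgroup.zpowers (σ : RingAut F)) F)) :=
    Fintype.ofEquiv _ (equivShrink _)
  let ι : Shrink.{0} (FixedPoints.subfield (Subgroup.zpowers (σ : RingAut F)) F) →+* F :=
    (FixedPoints.subfield (Subgroup.zpowers (σ : RingAut F)) F).subtype.comp (e : _ →+* _)
  have hι : ∀ x : F, (σ : F →+* F) x = x ↔ ∃ y, ι y = x := by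
    intro x
    show σ x = x ↔ _
    rw [← mem_fixed_iff]
    constructor
    · intro hx
      refine ⟨e.symm ⟨x, hx⟩, ?_⟩
      show ((e (e.symm ⟨x, hx⟩) : FixedPoints.subfield (Subgroup.zpowers (σ : RingAut F)) F) : F) = x
      rw [RingEquiv.apply_symm_apply]
    · rintro ⟨y, rfl⟩
      exact (e y).2
  refine ⟨Shrink.{0} (FixedPoints.subfield (Subgroup.zpowers (σ : RingAut F)) F), inferInstance, hFin0, ?_, ?_⟩
  · have h1 := card_eq_pow σ
    rw [orderOf_fieldAut c tc ac φ σ hσ r₀ hr₀] at h1
    rw [Fintype.card_eq_nat_card, Fintype.card_eq_nat_card, h1, Nat.card_congr e.toEquiv]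
  · let j1 : ↥((MulEquiv.toMonoidHom φ).eqLocus (MonoidHom.id ↥(D.group F))) →* GL D.Idx F :=
      (D.group F).subtype.comp (Subgroup.subtype _)
    have hj1 : Function.Injective j1 := Subtype.val_injective.comp Subtype.val_injective
    have hr1 : j1.range = Subgroup.closure (fixGens D (σ : F →+* F)) := by
      ext x
      rw [← fixed_iff c tc ac gc hdesc hR2 B hB]
      constructor
      · rintro ⟨⟨g, hg⟩, rfl⟩
        refine ⟨g.2, ?_⟩
        show mapGL D (σ : F →+* F) (g : GL D.Idx F) = (g : GL D.Idx F)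
        rw [← fieldAut_apply c φ σ hσ g]
        exact congrArg Subtype.val hg
      · rintro ⟨hx, hfix⟩
        refine ⟨⟨⟨x, hx⟩, ?_⟩, rfl⟩
        show φ ⟨x, hx⟩ = ⟨x, hx⟩
        apply Subtype.ext
        rw [fieldAut_apply c φ σ hσ]
        exact hfix
    let j2 : ↥(D.group (Shrink.{0} (FixedPoints.subfield (Subgroup.zpowers (σ : RingAut F)) F))) →*
        GL D.Idx F := (mapGL2 D ι).comp (Subgroup.subtype _)
    have hj2 : Function.Injective j2 := (mapGL2_injective ι).comp Subtype.val_injective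
    have hr2 : j2.range = Subgroup.closure (fixGens D (σ : F →+* F)) := by
      rw [MonoidHom.range_comp, Subgroup.range_subtype]
      exact map_group_eq c ι _ hι
    exact ⟨(MonoidHom.ofInjective hj1).trans
      ((MulEquiv.subgroupCongr (hr1.trans hr2.symm)).trans (MonoidHom.ofInjective hj2).symm)⟩

end Cfsg.Agent.Lib.Helper18_ChevField
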