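import Cfsg.Agent.Lib.Helper18_ChevRootHom
import Cfsg.Prelude.Def_ChevAutomorphisms

set_option autoImplicit false

/-!
Generation of a Chevalley group by `N` and one or two fundamental root subgroups: orbits of the Weyl group on the
roots, from a certificate.
-/

namespace Cfsg.Agent.Lib.Helper18_ChevGen

open Cfsg Cfsg.Lie Cfsg.Agent.Lib.Helper18_ChevFast Cfsg.Agent.Lib.Helper18_ChevEngine
  Cfsg.Agent.Lib.Helper18_ChevR1 Cfsg.Agent.Lib.Helper18_ChevN Cfsg.Agent.Lib.Helper18_ChevR4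
  Cfsg.Agent.Lib.Helper18_ChevSimple Cfsg.Agent.Lib.Helper18_ChevSimple2 Cfsg.Agent.Lib.Helper18_ChevFacts
  Cfsg.Agent.Lib.Helper18_ChevWeyl Cfsg.Agent.Lib.Helper18_ChevDiag Cfsg.Agent.Lib.Helper18_ChevCar
  Cfsg.Agent.Lib.Helper18_ChevTorus Cfsg.Agent.Lib.Helper18_ChevGL Cfsg.Agent.Lib.Helper18_ChevComm
  Cfsg.Agent.Lib.Helper18_ChevComm2 Cfsg.Agent.Lib.Helper18_MatTri Cfsg.Agent.Lib.Helper18_ChevTri
  Cfsg.Agent.Lib.Helper18_ChevBorel Cfsg.Agent.Lib.Helper18_ChevAdd Cfsg.Agent.Lib.Helper18_ChevUni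
  Cfsg.Agent.Lib.Helper18_ChevBN Cfsg.Agent.Lib.Helper18_ChevMono Cfsg.Agent.Lib.Helper18_ChevBNPair
  Cfsg.Agent.Lib.Helper18_ChevSimp Cfsg.Agent.Lib.Helper18_ChevJCerts Cfsg.Agent.Lib.Helper18_ChevLevi
  Cfsg.Agent.Lib.Helper18_ChevBruhat Cfsg.Agent.Lib.Helper18_ChevPar Cfsg.Agent.Lib.Helper18_ChevRootHom

/-- The checks of the orbit certificate at the root `r`: `comp` labels the roots by their length (`0` short, `1`
long), `par` gives a root of smaller depth `dep` from which `r` is obtained by a fundamental reflection, unless `r` is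
the base root `b0` (short) or `c0` (long). -/
def ocAt (D : ChevalleyDatum) (b0 : ℕ) (hasLong : Bool) (c0 : ℕ) (par : List (ℕ × ℕ)) (dep comp : List ℕ)
    (r : ℕ) : Bool :=
  decide (D.isLong r = false → comp.getD r 2 = 0) &&
  decide (D.isLong r = true → comp.getD r 2 = 1) &&
  decide (comp.getD r 2 ≤ 1) &&
  decide (dep.getD r 0 = 0 → (comp.getD r 2 = 0 ∧ r = b0) ∨ (comp.getD r 2 = 1 ∧ hasLong = true ∧ r = c0)) &&
  decide (dep.getD r 0 ≠ 0 → (par.getD r (0, 0)).1 < D.rank ∧ (par.getD r (0, 0)).2 < D.nroots ∧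
    D.reflectRoot (par.getD r (0, 0)).1 (par.getD r (0, 0)).2 = r ∧
    dep.getD (par.getD r (0, 0)).2 0 < dep.getD r 0 ∧ comp.getD (par.getD r (0, 0)).2 2 = comp.getD r 2)

/-- The orbit certificate: the short roots form one orbit of the Weyl group (that of `b0`), the long roots, if any,
form one orbit (that of `c0`), and `c0 = a0 + b1` with `a0`, `b1` short and `[x_{b1}(u), x_{a0}(t)] = x_{c0}(-C t u)`. -/
structure OCert (D : ChevalleyDatum) (b0 : ℕ) (hasLong : Bool) (c0 a0 b1 : ℕ) (C : ℤ) (par : List (ℕ × ℕ))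
    (dep comp : List ℕ) : Prop where
  b0_lt : b0 < D.nroots
  long_ok : hasLong = true → c0 < D.nroots ∧ a0 < D.nroots ∧ b1 < D.nroots ∧ comp.getD a0 2 = 0 ∧
    comp.getD b1 2 = 0 ∧ b1 ≠ a0 ∧ b1 ≠ D.neg a0 ∧ D.commTerms a0 b1 = [(c0, C, 1, 1)]
  all : ∀ r < D.nroots, ocAt D b0 hasLong c0 par dep comp r = true

variable {D : ChevalleyDatum} {Ns : List NData} {b0 : ℕ} {hasLong : Bool} {c0 a0 b1 : ℕ} {C : ℤ}
  {par : List (ℕ × ℕ)} {dep comp : List ℕ}

theorem OCert.at (oc : OCert D b0 hasLong c0 a0 b1 C par dep comp) (r : ℕ) (hr : r < D.nroots) :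
    (D.isLong r = false → comp.getD r 2 = 0) ∧ (D.isLong r = true → comp.getD r 2 = 1) ∧ comp.getD r 2 ≤ 1 ∧
    (dep.getD r 0 = 0 → (comp.getD r 2 = 0 ∧ r = b0) ∨ (comp.getD r 2 = 1 ∧ hasLong = true ∧ r = c0)) ∧
    (dep.getD r 0 ≠ 0 → (par.getD r (0, 0)).1 < D.rank ∧ (par.getD r (0, 0)).2 < D.nroots ∧
      D.reflectRoot (par.getD r (0, 0)).1 (par.getD r (0, 0)).2 = r ∧
      dep.getD (par.getD r (0, 0)).2 0 < dep.getD r 0 ∧ comp.getD (par.getD r (0, 0)).2 2 = comp.getD r 2) := by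
  have := oc.all r hr
  simp only [ocAt, Bool.and_eq_true, decide_eq_true_eq] at this
  obtain ⟨⟨⟨⟨h1, h2⟩, h3⟩, h4⟩, h5⟩ := this
  exact ⟨h1, h2, h3, h4, h5⟩

/-- A property of the roots that is preserved by the fundamental reflections is constant on the two orbits. -/
theorem OCert.orbit (oc : OCert D b0 hasLong c0 a0 b1 C par dep comp) (c : DCert D Ns) (P : ℕ → Prop)
    (hP : ∀ j < D.rank, ∀ r < D.nroots, P r → P (D.reflectRoot j r)) :
    ∀ (k r : ℕ), r < D.nroots → dep.getD r 0 = k →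
      (comp.getD r 2 = 0 → (P r ↔ P b0)) ∧ (comp.getD r 2 = 1 → (P r ↔ P c0)) := by
  intro k
  induction k using Nat.strong_induction_on with
  | _ k ih =>
    intro r hr hk
    obtain ⟨-, -, -, h4, h5⟩ := oc.at r hr
    by_cases hk0 : dep.getD r 0 = 0
    · rcases h4 hk0 with ⟨hc, rfl⟩ | ⟨hc, -, rfl⟩
      · exact ⟨fun _ => Iff.rfl, fun h => by omega⟩
      · exact ⟨fun h => by omega, fun _ => Iff.rfl⟩
    · obtain ⟨hj, hr', hrefl, hdep, hcomp⟩ := h5 hk0
      set j := (par.getD r (0, 0)).1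
      set r' := (par.getD r (0, 0)).2
      have ih' := ih (dep.getD r' 0) (by omega) r' hr' rfl
      have hiff : P r ↔ P r' := by
        constructor
        · intro h
          have := hP j hj r hr h
          rwa [← hrefl, c.reflect_reflect j hj r' hr'] at this
        · intro h
          have := hP j hj r' hr' h
          rwa [hrefl] at this
      rw [hcomp] at ih'
      exact ⟨fun h => hiff.trans (ih'.1 h), fun h => hiff.trans (ih'.2 h)⟩

variable {F : Type*} [Field F] {wl : List ℤ} {ws : List (List ℤ)} {sc : ℤ} {w : List ℤ} {d : ℕ}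

/-- If a subgroup contains `N` and the root subgroup `X_r`, it contains `X_{w_j r}`. -/
theorem reflect_le (c : DCert D Ns) (S : Subgroup (GL D.Idx F)) (hN : D.monomialSubgroup F ≤ S) (j : ℕ)
    (hj : j < D.rank) (r : ℕ) (hr : r < D.nroots) (h : ∀ t : F, xGL c r t ∈ S) :
    ∀ t : F, xGL c (D.reflectRoot j r) t ∈ S := by
  intro t
  have e := nGL_conj c j hj r hr (((etaZ Ns j r : ℤ) : F) * t)
  rw [← mul_assoc, eta_cast_sq (F := F) (c.etaZ_pm j hj r hr), one_mul] at e
  rw [← e]
  have hn : (nGL c j : GL D.Idx F) ∈ S := hN (nGL_mem_monomial c j hj)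
  exact S.mul_mem (S.mul_mem hn (h _)) (S.inv_mem hn)

/-- A subgroup containing `N`, a short root subgroup, and, if there are long roots and `C` is not invertible in `F`,
a long root subgroup, contains the Chevalley group. -/
theorem group_le_of_orbits (oc : OCert D b0 hasLong c0 a0 b1 C par dep comp) (c : DCert D Ns)
    (hR2 : R2All D F) (S : Subgroup (GL D.Idx F)) (hN : D.monomialSubgroup F ≤ S)
    (r0 : ℕ) (hr0 : r0 < D.nroots) (hshort : D.isLong r0 = false) (h0 : ∀ t : F, xGL c r0 t ∈ S)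
    (hlong : hasLong = true → ((C : ℤ) : F) ≠ 0 ∨
      ∃ r1 < D.nroots, D.isLong r1 = true ∧ ∀ t : F, xGL c r1 t ∈ S) :
    D.group F ≤ S := by
  let P : ℕ → Prop := fun r => ∀ t : F, xGL c r t ∈ S
  have hP : ∀ j < D.rank, ∀ r < D.nroots, P r → P (D.reflectRoot j r) :=
    fun j hj r hr h => reflect_le c S hN j hj r hr h
  have horb := oc.orbit c P hP
  -- the short roots
  have hb0 : P b0 := by
    have h1 := (oc.at r0 hr0).1 hshort
    exact ((horb _ r0 hr0 rfl).1 h1).mp h0
  have hshortAll : ∀ r < D.nroots, comp.getD r 2 = 0 → P r := by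
    intro r hr hc
    exact ((horb _ r hr rfl).1 hc).mpr hb0
  -- the long roots
  have hlongAll : ∀ r < D.nroots, comp.getD r 2 = 1 → P r := by
    intro r hr hc
    obtain ⟨-, -, -, h4, h5⟩ := oc.at r hr
    have hHL : hasLong = true := by
      -- a root of the long orbit exists, so the certificate has long roots
      by_contra hno
      have key : ∀ (k s : ℕ), s < D.nroots → dep.getD s 0 = k → comp.getD s 2 = 1 → False := by
        intro k
        induction k using Nat.strong_induction_on with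
        | _ k ih =>
          intro s hs hk hcs
          obtain ⟨-, -, -, g4, g5⟩ := oc.at s hs
          by_cases hk0 : dep.getD s 0 = 0
          · rcases g4 hk0 with ⟨hc', -⟩ | ⟨-, hl, -⟩
            · omega
            · exact hno hl
          · obtain ⟨-, hs', -, hdep, hcomp⟩ := g5 hk0
            exact ih _ (by omega) _ hs' rfl (by omega)
      exact key _ r hr rfl hc
    obtain ⟨hc0, ha0, hb1, hca, hcb, hne1, hne2, hct⟩ := oc.long_ok hHL
    have hPc0 : P c0 := by
      rcases hlong hHL with hC | ⟨r1, hr1, hl1, hP1⟩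
      · intro v
        have hPa := hshortAll a0 ha0 hca
        have hPb := hshortAll b1 hb1 hcb
        have hcomm := conj_of_R2 c (hR2 a0 b1 ha0 hb1 hne1 hne2) (-1 : F) (v / (C : F))
        have hw : wordGL c (D.commWord F a0 b1 (-1 : F) (v / (C : F))) = xGL c c0 v := by
          unfold ChevalleyDatum.commWord
          rw [hct]
          simp only [List.map_cons, List.map_nil]
          rw [wordGL_cons, wordGL_nil, mul_one]
          congr 1
          field_simp
        rw [hw] at hcomm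
        have : xGL c c0 v = (xGL c b1 (v / (C : F)))⁻¹ * ((xGL c a0 (-1))⁻¹ * xGL c b1 (v / (C : F)) * xGL c a0 (-1)) := by
          rw [hcomm]; group
        rw [this]
        exact S.mul_mem (S.inv_mem (hPb _)) (S.mul_mem (S.mul_mem (S.inv_mem (hPa _)) (hPb _)) (hPa _))
      · have h1 := (oc.at r1 hr1).2.1 hl1
        exact ((horb _ r1 hr1 rfl).2 h1).mp hP1
    exact ((horb _ r hr rfl).2 hc).mpr hPc0
  -- all root subgroups
  unfold ChevalleyDatum.group
  rw [Subgroup.closure_le]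
  rintro g ⟨r, t, hg⟩
  have hg' : g = xGL c r t := by
    apply Units.ext
    rw [hg, xGL_coe]
    unfold ChevalleyDatum.x
    rw [dif_pos r.2]
  rw [hg']
  have h3 := (oc.at r r.2).2.2.1
  rcases Nat.lt_or_ge (comp.getD r 2) 1 with hlt | hge
  · exact hshortAll r r.2 (by omega) t
  · exact hlongAll r r.2 (by omega) t

end Cfsg.Agent.Lib.Helper18_ChevGen
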