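import Cfsg.Agent.Lib.Helper18_ChevAutD
import Cfsg.Agent.Lib.Helper18_ChevGen
import Cfsg.Agent.Lib.Helper18_ChevField

set_option autoImplicit false

/-!
Automorphisms of the Chevalley groups over finite fields, fifth part: field automorphisms, the negatives of the
fundamental roots, and generation by the fundamental root subgroups.
-/

namespace Cfsg.Agent.Lib.Helper18_ChevAutE

open Cfsg Cfsg.Lie Cfsg.Agent.Lib.Helper18_ChevFast Cfsg.Agent.Lib.Helper18_ChevEngine
  Cfsg.Agent.Lib.Helper18_ChevR1 Cfsg.Agent.Lib.Helper18_ChevN Cfsg.Agent.Lib.Helper18_ChevR4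
  Cfsg.Agent.Lib.Helper18_ChevSimple Cfsg.Agent.Lib.Helper18_ChevSimple2 Cfsg.Agent.Lib.Helper18_ChevFacts
  Cfsg.Agent.Lib.Helper18_ChevWeyl Cfsg.Agent.Lib.Helper18_ChevDiag Cfsg.Agent.Lib.Helper18_ChevCar
  Cfsg.Agent.Lib.Helper18_ChevTorus Cfsg.Agent.Lib.Helper18_ChevGL Cfsg.Agent.Lib.Helper18_ChevComm
  Cfsg.Agent.Lib.Helper18_ChevComm2 Cfsg.Agent.Lib.Helper18_MatTri Cfsg.Agent.Lib.Helper18_ChevTri
  Cfsg.Agent.Lib.Helper18_ChevBorel Cfsg.Agent.Lib.Helper18_ChevAdd Cfsg.Agent.Lib.Helper18_ChevUni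
  Cfsg.Agent.Lib.Helper18_ChevBN Cfsg.Agent.Lib.Helper18_ChevMono Cfsg.Agent.Lib.Helper18_ChevBNPair
  Cfsg.Agent.Lib.Helper18_ChevSimp Cfsg.Agent.Lib.Helper18_ChevJCerts Cfsg.Agent.Lib.Helper18_ChevLevi
  Cfsg.Agent.Lib.Helper18_ChevBruhat Cfsg.Agent.Lib.Helper18_ChevPar Cfsg.Agent.Lib.Helper18_ChevRootHom
  Cfsg.Agent.Lib.Helper18_ChevOrder Cfsg.Agent.Lib.Helper18_ChevSylow Cfsg.Agent.Lib.Helper18_ChevCent
  Cfsg.Agent.Lib.Helper18_ChevFrob Cfsg.Agent.Lib.Helper18_ChevAutA Cfsg.Agent.Lib.Helper18_ChevAutB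
  Cfsg.Agent.Lib.Helper18_ChevAutC Cfsg.Agent.Lib.Helper18_ChevAutD Cfsg.Agent.Lib.Helper18_ChevGen
  Cfsg.Agent.Lib.Helper18_ChevField

variable {D : ChevalleyDatum} {Ns : List NData} {F : Type*} [Field F]
variable {wl : List ℤ} {ws : List (List ℤ)} {sc : ℤ} {w : List ℤ} {d : ℕ} {w0 : List ℕ}

/-! ### Field automorphisms -/

theorem mapGL_comp (σ τ : F ≃+* F) (g : GL D.Idx F) :
    mapGL D ((σ * τ : RingAut F) : F →+* F) g = mapGL D (σ : F →+* F) (mapGL D (τ : F →+* F) g) := by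
  apply Units.ext
  rw [mapGL_coe, mapGL_coe, mapGL_coe, Matrix.map_map]
  rfl

theorem mapGL_one (g : GL D.Idx F) : mapGL D (((1 : RingAut F) : F ≃+* F) : F →+* F) g = g := by
  apply Units.ext
  rw [mapGL_coe]
  ext i j
  rfl

/-- The field automorphism of the group given by an automorphism of the field. -/
def fieldAutOf (c : DCert D Ns) (σ : F ≃+* F) : MulAut ↥(D.group F) where
  toFun x := ⟨mapGL D (σ : F →+* F) x, mapGL_mem_group c _ _ x.2⟩
  invFun x := ⟨mapGL D ((σ⁻¹ : RingAut F) : F →+* F) x, mapGL_mem_group c _ _ x.2⟩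
  left_inv x := by
    apply Subtype.ext
    show mapGL D ((σ⁻¹ : RingAut F) : F →+* F) (mapGL D (σ : F →+* F) x) = x
    rw [← mapGL_comp, inv_mul_cancel, mapGL_one]
  right_inv x := by
    apply Subtype.ext
    show mapGL D (σ : F →+* F) (mapGL D ((σ⁻¹ : RingAut F) : F →+* F) x) = x
    rw [← mapGL_comp, mul_inv_cancel, mapGL_one]
  map_mul' x y := by
    apply Subtype.ext
    show mapGL D (σ : F →+* F) (x * y) = _
    rw [map_mul]
    rfl

theorem fieldAutOf_coe (c : DCert D Ns) (σ : F ≃+* F) (x : ↥(D.group F)) :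
    ((fieldAutOf c σ x : ↥(D.group F)) : GL D.Idx F) = mapGL D (σ : F →+* F) x := rfl

theorem fieldAutOf_xG (c : DCert D Ns) (σ : F ≃+* F) (r : ℕ) (t : F) :
    fieldAutOf c σ (xG c r t) = xG c r (σ t) := by
  apply Subtype.ext
  rw [fieldAutOf_coe, xG_coe, mapGL_xGL]
  rfl

/-- The field automorphisms, as a homomorphism. -/
def fieldAutHom (c : DCert D Ns) : RingAut F →* MulAut ↥(D.group F) where
  toFun σ := fieldAutOf c σ
  map_one' := by
    apply MulEquiv.ext
    intro x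
    apply Subtype.ext
    rw [fieldAutOf_coe, mapGL_one]
    rfl
  map_mul' σ τ := by
    apply MulEquiv.ext
    intro x
    apply Subtype.ext
    rw [fieldAutOf_coe, mapGL_comp]
    rfl

theorem fieldAutOf_isFieldAut (c : DCert D Ns) (σ : F ≃+* F) : D.IsFieldAut (fieldAutOf c σ) := by
  refine ⟨σ, fun g r t _ hg => ?_⟩
  rw [fieldAutOf_coe, mapGL_coe, hg, x_map]
  rfl

theorem fieldAutOf_preserves (c : DCert D Ns) (σ : F ≃+* F) (r : ℕ) :
    Preserves (fieldAutOf c σ) (D.rootSubgroup F r) := by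
  intro x
  rw [mem_rootSubgroup_iff c, mem_rootSubgroup_iff c, fieldAutOf_coe]
  constructor
  · rintro ⟨t, ht⟩
    refine ⟨(σ⁻¹ : RingAut F) t, ?_⟩
    have h1 := congrArg (mapGL D ((σ⁻¹ : RingAut F) : F →+* F)) ht
    rw [← mapGL_comp, inv_mul_cancel, mapGL_one, mapGL_xGL] at h1
    exact h1
  · rintro ⟨t, ht⟩
    exact ⟨σ t, by rw [ht, mapGL_xGL]; rfl⟩


/-! ### The rank one argument -/

/-- If `x_{-p}(μ)` conjugates `x_p(1)` into `B`, then `μ = 0`. -/
theorem param_zero_of_conj_one (c : DCert D Ns) (tc : TCert D) (ac : ACert D wl ws sc) (gc : GCert D w d)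
    (i : ℕ) (hi : i < D.rank) (μ : F)
    (h : xGL c (D.neg (D.simple i)) μ * xGL c (D.simple i) 1 * (xGL c (D.neg (D.simple i)) μ)⁻¹ ∈
      D.borelSubgroup F) : μ = 0 := by
  by_contra hμ
  have hp := ac.simple i hi
  have hxB : ∀ t : F, xGL c (D.simple i) t ∈ D.borelSubgroup F := fun t =>
    Subgroup.mem_sup_left (Subgroup.subset_closure ⟨_, t, hp.2.1, rfl⟩)
  have hhB : hGL c (D.simple i) (-μ⁻¹) ∈ D.borelSubgroup F :=
    Subgroup.mem_sup_right (hGL_mem c _ hp.1 _ (neg_ne_zero.mpr (inv_ne_zero hμ)))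
  obtain ⟨-, a, ha, e⟩ := actsAs_nGL (F := F) c i hi (D.simple i) hp.1
  have hrefl : D.reflectRoot i (D.simple i) = D.neg (D.simple i) := by
    unfold ChevalleyDatum.reflectRoot
    simp
  rw [hrefl] at e
  set x := xGL c (D.simple i) μ⁻¹ with hx
  set hh := hGL c (D.simple i) (-μ⁻¹) with hhh
  set n := (nGL c i : GL D.Idx F) with hn
  have e1 : xGL c (D.neg (D.simple i)) μ = x * hh * n * x := xGL_neg_simple c i hi μ
  have hcomm : x * xGL c (D.simple i) 1 * x⁻¹ = xGL c (D.simple i) 1 := by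
    rw [hx, xGL_inv, xGL_mul, xGL_mul]
    congr 1
    ring
  have e2 : xGL c (D.neg (D.simple i)) μ * xGL c (D.simple i) 1 * (xGL c (D.neg (D.simple i)) μ)⁻¹ =
      x * hh * (n * (x * xGL c (D.simple i) 1 * x⁻¹) * n⁻¹) * hh⁻¹ * x⁻¹ := by
    rw [e1]
    group
  rw [e2, hcomm, e 1] at h
  have h3 : xGL c (D.neg (D.simple i)) (a * 1) ∈ D.borelSubgroup F := by
    have e3 : xGL c (D.neg (D.simple i)) (a * 1) =
        hh⁻¹ * (x⁻¹ * (x * hh * xGL c (D.neg (D.simple i)) (a * 1) * hh⁻¹ * x⁻¹) * x) * hh := by group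
    rw [e3]
    exact Subgroup.mul_mem _ (Subgroup.mul_mem _ (Subgroup.inv_mem _ hhB)
      (Subgroup.mul_mem _ (Subgroup.mul_mem _ (Subgroup.inv_mem _ (hxB _)) h) (hxB _))) hhB
  have := eq_zero_of_xGL_neg_mem_borel c tc ac gc _ (neg_isNeg c tc ac _ hp.2.1) _ h3
  rw [mul_one] at this
  exact ha this

/-- An automorphism that fixes the elements of `X_p` and preserves `X_{-p}` fixes the elements of `X_{-p}`. -/
theorem fix_neg_of_fix_pos (c : DCert D Ns) (tc : TCert D) (ac : ACert D wl ws sc) (gc : GCert D w d)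
    (θ : MulAut ↥(D.group F)) (i : ℕ) (hi : i < D.rank)
    (hfix : ∀ t : F, θ (xG c (D.simple i) t) = xG c (D.simple i) t)
    (hneg : Preserves θ (D.rootSubgroup F (D.neg (D.simple i)))) (b : F) :
    θ (xG c (D.neg (D.simple i)) b) = xG c (D.neg (D.simple i)) b := by
  have hp := ac.simple i hi
  have hq := DCert.neg_lt c _ hp.1
  obtain ⟨g, hg, hgadd, -⟩ := exists_paramFun c tc ac θ hq hneg
  by_cases hb : b = 0
  · subst hb
    have : xG c (D.neg (D.simple i)) (0 : F) = 1 := Subtype.ext (xGL_zero c _)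
    rw [this, map_one]
  rw [hg b]
  congr 1
  -- the element `m = n_p(-b⁻¹)` and its image
  set p := D.simple i with hpdef
  set q := D.neg p with hqdef
  set m : ↥(D.group F) := xG c p (-b⁻¹) * xG c q b * xG c p (-b⁻¹) with hm
  have hθm : θ m = xG c p (-b⁻¹) * xG c q (g b) * xG c p (-b⁻¹) := by
    rw [hm, map_mul, map_mul, hfix, hg]
  have hmval : (m : GL D.Idx F) = hGL c p (-b⁻¹) * nGL c i := by
    have e1 := xGL_neg_simple c i hi b
    rw [← hpdef, ← hqdef] at e1
    show xGL c p (-b⁻¹) * xGL c q b * xGL c p (-b⁻¹) = _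
    rw [e1, ← xGL_inv]
    group
  have hact : ActsAs c (m : GL D.Idx F) (id ∘ D.reflectRoot i) := by
    rw [hmval]
    exact (actsAs_diagonal c tc _ (hGL_mem c _ hp.1 _ (neg_ne_zero.mpr (inv_ne_zero hb)))).mul c
      (actsAs_nGL c i hi)
  obtain ⟨-, a, ha, e⟩ := hact p hp.1
  have hrefl : (id ∘ D.reflectRoot i) p = q := by
    show D.reflectRoot i p = q
    unfold ChevalleyDatum.reflectRoot
    simp [hpdef, hqdef]
  rw [hrefl] at e
  -- apply the automorphism to `m x_p(1) m⁻¹ = x_q(a)`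
  have e' : m * xG c p 1 * m⁻¹ = xG c q (a * 1) := Subtype.ext (e 1)
  have e2 := congrArg θ e'
  rw [map_mul, map_mul, map_inv, hfix, hg] at e2
  -- `m⁻¹ θ(m)` conjugates `x_p(1)` into `X_p`
  have e3 : (m⁻¹ * θ m) * xG c p 1 * (m⁻¹ * θ m)⁻¹ = m⁻¹ * xG c q (g (a * 1)) * m := by
    rw [← e2]
    group
  have e4 : m⁻¹ * xG c q (g (a * 1)) * m = xG c p (a⁻¹ * g (a * 1)) := by
    have h1 : m * xG c p (a⁻¹ * g (a * 1)) * m⁻¹ = xG c q (g (a * 1)) := by
      apply Subtype.ext
      have := e (a⁻¹ * g (a * 1))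
      rw [mul_inv_cancel_left₀ ha] at this
      exact this
    rw [← h1]
    group
  have e5 : m⁻¹ * θ m = xG c p b⁻¹ * xG c q (g b - b) * xG c p (-b⁻¹) := by
    rw [hθm, hm]
    have i1 : (xG c p (-b⁻¹))⁻¹ = xG c p b⁻¹ := by
      apply Subtype.ext
      show (xGL c p (-b⁻¹))⁻¹ = xGL c p b⁻¹
      rw [xGL_inv, neg_neg]
    have i2 : (xG c q b)⁻¹ * xG c q (g b) = xG c q (g b - b) := by
      apply Subtype.ext
      show (xGL c q b)⁻¹ * xGL c q (g b) = xGL c q (g b - b)
      rw [xGL_inv, xGL_mul]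
      congr 1
      ring
    calc (xG c p (-b⁻¹) * xG c q b * xG c p (-b⁻¹))⁻¹ * (xG c p (-b⁻¹) * xG c q (g b) * xG c p (-b⁻¹))
        = (xG c p (-b⁻¹))⁻¹ * ((xG c q b)⁻¹ * xG c q (g b)) * xG c p (-b⁻¹) := by group
      _ = _ := by rw [i1, i2]
  rw [e5, e4] at e3
  -- hence `x_q(g b - b)` conjugates `x_p(1)` into `X_p`
  have e6 : xG c q (g b - b) * xG c p 1 * (xG c q (g b - b))⁻¹ =
      (xG c p b⁻¹)⁻¹ * xG c p (a⁻¹ * g (a * 1)) * xG c p b⁻¹ := by
    rw [← e3]
    have i1 : (xG c p (-b⁻¹)) = (xG c p b⁻¹)⁻¹ := by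
      apply Subtype.ext
      show xGL c p (-b⁻¹) = (xGL c p b⁻¹)⁻¹
      rw [xGL_inv]
    have i3 : xG c p (-b⁻¹) * xG c p 1 * (xG c p (-b⁻¹))⁻¹ = xG c p 1 := by
      rw [i1, inv_inv]
      apply Subtype.ext
      show (xGL c p b⁻¹)⁻¹ * xGL c p 1 * xGL c p b⁻¹ = xGL c p 1
      rw [xGL_inv, xGL_mul, xGL_mul]
      congr 1
      ring
    calc xG c q (g b - b) * xG c p 1 * (xG c q (g b - b))⁻¹
        = xG c q (g b - b) * (xG c p (-b⁻¹) * xG c p 1 * (xG c p (-b⁻¹))⁻¹) * (xG c q (g b - b))⁻¹ := by rw [i3]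
      _ = _ := by group
  have h7 : xGL c q (g b - b) * xGL c p 1 * (xGL c q (g b - b))⁻¹ ∈ D.borelSubgroup F := by
    have := congrArg (fun x : ↥(D.group F) => (x : GL D.Idx F)) e6
    simp only [Subgroup.coe_mul, Subgroup.coe_inv, xG_coe] at this
    rw [this]
    have hxB : ∀ t : F, xGL c p t ∈ D.borelSubgroup F := fun t =>
      Subgroup.mem_sup_left (Subgroup.subset_closure ⟨_, t, hp.2.1, rfl⟩)
    exact Subgroup.mul_mem _ (Subgroup.mul_mem _ (Subgroup.inv_mem _ (hxB _)) (hxB _)) (hxB _)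
  have := param_zero_of_conj_one c tc ac gc i hi _ h7
  exact sub_eq_zero.mp this


/-! ### Generation by the fundamental root subgroups -/

/-- If all the roots have the same length, a subgroup that contains the root subgroups of the fundamental roots and
of their negatives contains the group. -/
theorem group_le_of_simple {b0 : ℕ} {hasLong : Bool} {c0 a0 b1 : ℕ} {C : ℤ} {par : List (ℕ × ℕ)}
    {dep comp : List ℕ} (oc : OCert D b0 hasLong c0 a0 b1 C par dep comp) (c : DCert D Ns) (ac : ACert D wl ws sc)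
    (hcomp : ∀ r < D.nroots, comp.getD r 2 = 0) (h0 : 0 < D.rank)
    (S : Subgroup (GL D.Idx F))
    (hS : ∀ i < D.rank, ∀ t : F, xGL c (D.simple i) t ∈ S ∧ xGL c (D.neg (D.simple i)) t ∈ S) :
    D.group F ≤ S := by
  let P : ℕ → Prop := fun r => ∀ t : F, xGL c r t ∈ S
  have hn : ∀ j < D.rank, (nGL c j : GL D.Idx F) ∈ S := by
    intro j hj
    unfold nGL
    apply wordGL_mem
    intro p hp
    unfold ChevalleyDatum.nWord at hp
    simp only [List.mem_cons, List.not_mem_nil, or_false] at hp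
    rcases hp with rfl | rfl | rfl
    · exact (hS j hj _).1
    · exact (hS j hj _).2
    · exact (hS j hj _).1
  have hP : ∀ j < D.rank, ∀ r < D.nroots, P r → P (D.reflectRoot j r) := by
    intro j hj r hr h t
    have e := nGL_conj c j hj r hr (((etaZ Ns j r : ℤ) : F) * t)
    rw [← mul_assoc, eta_cast_sq (F := F) (c.etaZ_pm j hj r hr), one_mul] at e
    rw [← e]
    exact S.mul_mem (S.mul_mem (hn j hj) (h _)) (S.inv_mem (hn j hj))
  have horb := oc.orbit c P hP
  have hb0 : P b0 := by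
    have h1 := (ac.simple 0 h0).1
    exact ((horb _ _ h1 rfl).1 (hcomp _ h1)).mp (fun t => (hS 0 h0 t).1)
  have hall : ∀ r < D.nroots, P r := fun r hr => ((horb _ r hr rfl).1 (hcomp r hr)).mpr hb0
  unfold ChevalleyDatum.group
  rw [Subgroup.closure_le]
  rintro g ⟨r, t, hg⟩
  have hg' : g = xGL c r.val t := by
    apply Units.ext
    rw [hg, xGL_coe]
    unfold ChevalleyDatum.x
    rw [dif_pos r.isLt]
  rw [hg']
  exact hall r.val r.isLt t

/-- An automorphism that fixes the root elements of the fundamental roots and of their negatives is the identity. -/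
theorem eq_one_of_fix {b0 : ℕ} {hasLong : Bool} {c0 a0 b1 : ℕ} {C : ℤ} {par : List (ℕ × ℕ)}
    {dep comp : List ℕ} (oc : OCert D b0 hasLong c0 a0 b1 C par dep comp) (c : DCert D Ns) (ac : ACert D wl ws sc)
    (hcomp : ∀ r < D.nroots, comp.getD r 2 = 0) (h0 : 0 < D.rank) (θ : MulAut ↥(D.group F))
    (hfix : ∀ i < D.rank, ∀ t : F, θ (xG c (D.simple i) t) = xG c (D.simple i) t ∧
      θ (xG c (D.neg (D.simple i)) t) = xG c (D.neg (D.simple i)) t) : θ = 1 := by
  let S : Subgroup (GL D.Idx F) :=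
    ((MulEquiv.toMonoidHom θ).eqLocus (MonoidHom.id ↥(D.group F))).map (D.group F).subtype
  have hle : D.group F ≤ S := by
    apply group_le_of_simple oc c ac hcomp h0 S
    intro i hi t
    exact ⟨⟨xG c (D.simple i) t, (hfix i hi t).1, rfl⟩, ⟨xG c (D.neg (D.simple i)) t, (hfix i hi t).2, rfl⟩⟩
  apply MulEquiv.ext
  intro x
  obtain ⟨y, hy, e⟩ := hle x.2
  have : y = x := Subtype.ext e
  rw [← this]
  exact hy

/-! ### Torus elements with given values on the fundamental roots -/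

/-- `B` is a left inverse of the Cartan matrix of the fundamental roots. -/
def InvCartanL (D : ChevalleyDatum) (B : List (List ℤ)) : Prop :=
  ∀ k < D.rank, ∀ j < D.rank,
    ((List.range D.rank).map fun i => invEntry B k i * D.cartan i (D.simple j)).sum = if k = j then 1 else 0

instance (D : ChevalleyDatum) (B : List (List ℤ)) : Decidable (InvCartanL D B) := by
  unfold InvCartanL
  infer_instance

theorem torusGL_mem (c : DCert D Ns) (ac : ACert D wl ws sc) (t : ℕ → F) (ht : ∀ i, t i ≠ 0) :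
    ∀ n ≤ D.rank, torusGL c t n ∈ D.diagonalSubgroup F := by
  intro n hn
  unfold torusGL
  apply Subgroup.list_prod_mem
  intro g hg
  rw [List.mem_map] at hg
  obtain ⟨i, hi, rfl⟩ := hg
  exact hGL_mem c _ (ac.simple i (by have := List.mem_range.mp hi; omega)).1 _ (ht i)

/-- If the Cartan matrix is unimodular, there is an element of `H` that acts on the root subgroups of the fundamental
roots by given scalars. -/
theorem exists_diagonal_of_scalars (c : DCert D Ns) (tc : TCert D) (ac : ACert D wl ws sc) (B : List (List ℤ))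
    (hB : InvCartanL D B) (a : ℕ → F) (ha : ∀ i < D.rank, a i ≠ 0) :
    ∃ h ∈ D.diagonalSubgroup F, ∀ j < D.rank, ∀ t : F,
      h * xGL c (D.simple j) t * h⁻¹ = xGL c (D.simple j) (a j * t) := by
  set a' : ℕ → F := fun i => if i < D.rank then a i else 1 with ha'
  have ha'ne : ∀ i, a' i ≠ 0 := by
    intro i
    simp only [ha']
    split_ifs with h
    · exact ha i h
    · exact one_ne_zero
  set τ : ℕ → F := fun i => ∏ k ∈ Finset.range D.rank, a' k ^ invEntry B k i with hτ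
  have hτne : ∀ i, τ i ≠ 0 := by
    intro i
    simp only [hτ]
    rw [Finset.prod_ne_zero_iff]
    intro k _
    exact zpow_ne_zero _ (ha'ne k)
  have hchar : ∀ j < D.rank, torusChar D τ (D.simple j) = a j := by
    intro j hj
    unfold torusChar
    have h1 : ∀ i ∈ Finset.range D.rank, τ i ^ D.cartan i (D.simple j) =
        ∏ k ∈ Finset.range D.rank, a' k ^ (invEntry B k i * D.cartan i (D.simple j)) := by
      intro i _
      simp only [hτ]
      rw [← Finset.prod_zpow]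
      apply Finset.prod_congr rfl
      intro k _
      rw [zpow_mul]
    rw [Finset.prod_congr rfl h1, Finset.prod_comm]
    have h2 : ∀ k ∈ Finset.range D.rank,
        ∏ i ∈ Finset.range D.rank, a' k ^ (invEntry B k i * D.cartan i (D.simple j)) =
          a' k ^ (if k = j then (1 : ℤ) else 0) := by
      intro k hk
      rw [← zpow_sum_range (a' k) (ha'ne k), Helper18_ChevField.sum_range_eq_list, hB k (Finset.mem_range.mp hk) j hj]
    rw [Finset.prod_congr rfl h2, Finset.prod_eq_single j]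
    · simp [ha', hj]
    · intro k _ hkj
      rw [if_neg hkj, zpow_zero]
    · intro h
      exact absurd (Finset.mem_range.mpr hj) h
  refine ⟨torusGL c τ D.rank, torusGL_mem c ac τ hτne D.rank le_rfl, fun j hj t => ?_⟩
  rw [mul_inv_eq_iff_eq_mul]
  apply Units.ext
  rw [Units.val_mul, Units.val_mul, xGL_coe, xGL_coe, torusGL_coe c tc τ hτne D.rank le_rfl, ← hchar j hj]
  exact torus_conj c tc τ hτne _ (ac.simple j hj).1 t

end Cfsg.Agent.Lib.Helper18_ChevAutE
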