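import Cfsg.Agent.Lib.Helper18_ChevGen
import Cfsg.Prelude.Def_ChevG2
import Cfsg.Prelude.Def_ChevB2
import Cfsg.Prelude.Def_ChevD4
import Cfsg.Prelude.Def_ChevF4
import Cfsg.Prelude.Def_ChevE6
import Cfsg.Prelude.Def_ChevE7
import Cfsg.Prelude.Def_ChevE8

set_option autoImplicit false
set_option maxHeartbeats 0
set_option maxRecDepth 100000

/-! The orbit certificates of the seven data (generated). -/

namespace Cfsg.Agent.Lib.Helper18_ChevOCerts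

open Cfsg Cfsg.Lie Cfsg.Agent.Lib.Helper18_ChevGen

def parG2 : List (ℕ × ℕ) := [(0, 0), (1, 0), (0, 3), (1, 4), (0, 7), (0, 1), (1, 5), (0, 0), (1, 7), (0, 8), (0, 6), (1, 10)]
def depG2 : List ℕ := [0, 1, 3, 2, 1, 2, 3, 0, 1, 2, 4, 5]
def compG2 : List ℕ := [1, 1, 0, 0, 0, 1, 1, 0, 0, 0, 1, 1]

theorem ocertG2 : OCert chevG2 7 true 0 2 3 (3) parG2 depG2 compG2 := by
  constructor <;> decide +kernel

def parB2 : List (ℕ × ℕ) := [(0, 0), (1, 2), (0, 5), (0, 0), (1, 3), (0, 0), (1, 5), (0, 4)]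
def depB2 : List ℕ := [0, 2, 1, 1, 2, 0, 1, 3]
def compB2 : List ℕ := [1, 0, 0, 1, 1, 0, 0, 1]

theorem ocertB2 : OCert chevB2 5 true 0 1 2 (2) parB2 depB2 compB2 := by
  constructor <;> decide +kernel

def parD4 : List (ℕ × ℕ) := [(1, 1), (3, 2), (2, 4), (3, 4), (1, 5), (0, 18), (3, 7), (2, 9), (3, 9), (0, 4), (1, 7), (1, 8), (1, 15), (1, 16), (0, 19), (3, 14), (2, 14), (3, 16), (0, 0), (1, 18), (3, 19), (2, 19), (3, 21), (1, 22)]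
def depD4 : List ℕ := [5, 4, 3, 3, 2, 1, 5, 4, 4, 3, 5, 5, 4, 4, 2, 3, 3, 4, 0, 1, 2, 2, 3, 4]
def compD4 : List ℕ := [0, 0, 0, 0, 0, 0, 0, 0, 0, 0, 0, 0, 0, 0, 0, 0, 0, 0, 0, 0, 0, 0, 0, 0]

theorem ocertD4 : OCert chevD4 18 false 0 0 0 (0) parD4 depD4 compD4 := by
  constructor <;> decide +kernel

def parF4 : List (ℕ × ℕ) := [(0, 0), (3, 0), (2, 1), (0, 7), (1, 2), (2, 4), (3, 5), (1, 8), (2, 9), (3, 10), (1, 12), (3, 12), (2, 13), (1, 14), (0, 33), (0, 4), (2, 15), (3, 16), (3, 19), (2, 20), (0, 13), (1, 16), (3, 21), (2, 21), (3, 23), (2, 22), (2, 24), (0, 34), (2, 27), (3, 28), (1, 25), (1, 26), (2, 31), (0, 0), (1, 33), (2, 34), (3, 35), (1, 35), (3, 37), (2, 38), (1, 39), (0, 30), (0, 31), (2, 42), (0, 40), (1, 43), (2, 45), (3, 46)]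
def depF4 : List ℕ := [0, 1, 2, 8, 3, 4, 5, 7, 6, 5, 4, 4, 3, 2, 1, 4, 5, 6, 5, 4, 3, 6, 7, 7, 8, 8, 9, 2, 3, 4, 9, 10, 11, 0, 1, 2, 3, 3, 4, 5, 6, 10, 11, 12, 7, 13, 14, 15]
def compF4 : List ℕ := [1, 1, 1, 0, 1, 1, 1, 0, 0, 0, 0, 0, 0, 0, 0, 1, 1, 1, 0, 0, 0, 1, 1, 1, 1, 1, 1, 0, 0, 0, 1, 1, 1, 0, 0, 0, 0, 0, 0, 0, 0, 1, 1, 1, 0, 1, 1, 1]

theorem ocertF4 : OCert chevF4 33 true 0 3 18 (2) parF4 depF4 compF4 := by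
  constructor <;> decide +kernel

def parE6 : List (ℕ × ℕ) := [(1, 1), (3, 2), (4, 3), (5, 4), (2, 7), (4, 6), (5, 7), (3, 9), (5, 9), (4, 10), (1, 13), (5, 12), (4, 13), (3, 14), (2, 15), (0, 56), (4, 17), (5, 18), (3, 20), (5, 20), (4, 21), (1, 28), (5, 23), (4, 24), (2, 21), (3, 24), (5, 27), (4, 28), (3, 29), (0, 14), (5, 31), (4, 32), (2, 28), (5, 34), (3, 31), (4, 33), (4, 38), (3, 40), (5, 37), (2, 43), (4, 39), (5, 40), (0, 57), (3, 42), (4, 43), (5, 44), (3, 47), (2, 50), (4, 47), (5, 48), (1, 43), (4, 50), (5, 51), (3, 51), (5, 53), (4, 54), (0, 0), (2, 56), (3, 57), (4, 58), (5, 59), (1, 58), (4, 61), (5, 62), (3, 62), (5, 64), (4, 65), (2, 64), (5, 67), (4, 68), (3, 69), (1, 70)]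
def depE6 : List ℕ := [11, 10, 9, 8, 7, 8, 7, 6, 6, 5, 4, 5, 4, 3, 2, 1, 9, 8, 7, 7, 6, 5, 8, 7, 6, 7, 6, 5, 4, 3, 7, 6, 5, 8, 7, 9, 8, 6, 7, 4, 5, 6, 2, 3, 4, 5, 6, 5, 6, 7, 4, 5, 6, 6, 7, 8, 0, 1, 2, 3, 4, 3, 4, 5, 5, 6, 7, 6, 7, 8, 9, 10]
def compE6 : List ℕ := [0, 0, 0, 0, 0, 0, 0, 0, 0, 0, 0, 0, 0, 0, 0, 0, 0, 0, 0, 0, 0, 0, 0, 0, 0, 0, 0, 0, 0, 0, 0, 0, 0, 0, 0, 0, 0, 0, 0, 0, 0, 0, 0, 0, 0, 0, 0, 0, 0, 0, 0, 0, 0, 0, 0, 0, 0, 0, 0, 0, 0, 0, 0, 0, 0, 0, 0, 0, 0, 0, 0, 0]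

theorem ocertE6 : OCert chevE6 56 false 0 0 0 (0) parE6 depE6 compE6 := by
  constructor <;> decide +kernel

def parE7 : List (ℕ × ℕ) := [(0, 1), (2, 2), (3, 3), (4, 4), (5, 5), (6, 6), (1, 10), (4, 8), (5, 9), (6, 10), (3, 13), (5, 12), (6, 13), (4, 15), (6, 15), (5, 16), (2, 22), (5, 18), (6, 19), (4, 21), (6, 21), (5, 22), (3, 25), (6, 24), (5, 25), (4, 26), (1, 30), (6, 28), (5, 29), (4, 30), (3, 31), (2, 32), (0, 93), (5, 34), (6, 35), (4, 37), (6, 37), (5, 38), (3, 41), (6, 40), (5, 41), (4, 42), (1, 51), (6, 44), (5, 45), (4, 46), (2, 42), (3, 46), (6, 49), (5, 50), (4, 51), (3, 52), (0, 31), (6, 54), (5, 55), (4, 56), (2, 51), (6, 58), (5, 59), (3, 55), (6, 61), (4, 58), (5, 60), (5, 65), (4, 67), (6, 64), (3, 70), (5, 66), (6, 67), (2, 74), (4, 69), (5, 70), (6, 71), (0, 94), (3, 73), (4, 74),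 (5, 75), (6, 76), (3, 79), (2, 83), (4, 79), (5, 80), (6, 81), (1, 74), (4, 83), (5, 84), (6, 85), (3, 84), (5, 87), (6, 88), (4, 88), (6, 90), (5, 91), (0, 0), (2, 93), (3, 94), (4, 95), (5, 96), (6, 97), (1, 95), (4, 99), (5, 100), (6, 101), (3, 100), (5, 103), (6, 104), (4, 104), (6, 106), (5, 107), (2, 103), (5, 109), (6, 110), (4, 110), (6, 112), (5, 113), (3, 112), (6, 115), (5, 116), (4, 117), (1, 115), (6, 119), (5, 120), (4, 121), (3, 122), (2, 123), (0, 124)]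
def depE7 : List ℕ := [17, 16, 15, 14, 13, 12, 11, 13, 12, 11, 10, 11, 10, 9, 9, 8, 7, 10, 9, 8, 8, 7, 6, 7, 6, 5, 4, 6, 5, 4, 3, 2, 1, 11, 10, 9, 9, 8, 7, 8, 7, 6, 5, 9, 8, 7, 6, 7, 7, 6, 5, 4, 3, 8, 7, 6, 5, 9, 8, 7, 10, 9, 11, 10, 8, 9, 6, 7, 8, 4, 5, 6, 7, 2, 3, 4, 5, 6, 6, 5, 6, 7, 8, 4, 5, 6, 7, 6, 7, 8, 8, 9, 10, 0, 1, 2, 3, 4, 5, 3, 4, 5, 6, 5, 6, 7, 7, 8, 9, 6, 7, 8, 8, 9, 10, 9, 10, 11, 12, 10, 11, 12, 13, 14, 15, 16]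
def compE7 : List ℕ := [0, 0, 0, 0, 0, 0, 0, 0, 0, 0, 0, 0, 0, 0, 0, 0, 0, 0, 0, 0, 0, 0, 0, 0, 0, 0, 0, 0, 0, 0, 0, 0, 0, 0, 0, 0, 0, 0, 0, 0, 0, 0, 0, 0, 0, 0, 0, 0, 0, 0, 0, 0, 0, 0, 0, 0, 0, 0, 0, 0, 0, 0, 0, 0, 0, 0, 0, 0, 0, 0, 0, 0, 0, 0, 0, 0, 0, 0, 0, 0, 0, 0, 0, 0, 0, 0, 0, 0, 0, 0, 0, 0, 0, 0, 0, 0, 0, 0, 0, 0, 0, 0, 0, 0, 0, 0, 0, 0, 0, 0, 0, 0, 0, 0, 0, 0, 0, 0, 0, 0, 0, 0, 0, 0, 0, 0]

theorem ocertE7 : OCert chevE7 93 false 0 0 0 (0) parE7 depE7 compE7 := by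
  constructor <;> decide +kernel

def parE8 : List (ℕ × ℕ) := [(7, 1), (6, 2), (5, 3), (4, 4), (3, 5), (2, 6), (1, 8), (2, 8), (3, 9), (4, 10), (5, 11), (6, 12), (7, 13), (0, 20), (1, 15), (3, 16), (4, 17), (5, 18), (6, 19), (7, 20), (2, 25), (4, 22), (5, 23), (6, 24), (7, 25), (3, 29), (5, 27), (6, 28), (7, 29), (4, 32), (6, 31), (7, 32), (5, 34), (7, 34), (6, 35), (1, 45), (5, 37), (6, 38), (7, 39), (4, 42), (6, 41), (7, 42), (5, 44), (7, 44), (6, 45), (3, 51), (6, 47), (7, 48), (5, 50), (7, 50), (6, 51), (4, 54), (7, 53), (6, 54), (5, 55), (2, 65), (6, 57), (7, 58), (5, 60), (7, 60), (6, 61), (4, 64), (7, 63), (6, 64), (5, 65), (3, 69), (7, 67), (6, 68), (5, 69), (4, 70), (1, 75), (7, 72), (6, 73), (5, 74), (4, 75), (3, 76), (2, 77), (0, 162), (6, 79), (7, 80), (5, 82), (7, 82), (6, 83), (4, 86),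 (7, 85), (6, 86), (5, 87), (3, 91), (7, 89), (6, 90), (5, 91), (4, 92), (1, 103), (7, 94), (6, 95), (5, 96), (4, 97), (2, 92), (3, 97), (7, 100), (6, 101), (5, 102), (4, 103), (3, 104), (0, 76), (7, 106), (6, 107), (5, 108), (4, 109), (2, 103), (7, 111), (6, 112), (5, 113), (3, 108), (7, 115), (6, 116), (4, 112), (7, 118), (5, 115), (6, 117), (6, 122), (5, 124), (7, 121), (4, 127), (6, 123), (7, 124), (3, 131), (5, 126), (6, 127), (7, 128), (2, 136), (4, 130), (5, 131), (6, 132), (7, 133), (0, 163), (3, 135), (4, 136), (5, 137), (6, 138), (7, 139), (3, 142), (2, 147), (4, 142), (5, 143), (6, 144), (7, 145), (1, 136), (4, 147), (5, 148), (6, 149), (7, 150), (3, 148), (5, 152), (6, 153), (7, 154), (4, 153), (6, 156), (7, 157), (5, 157), (7, 159), (6, 160), (0, 0), (2, 162), (3, 163), (4, 164), (5, 165),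 (6, 166), (7, 167), (1, 164), (4, 169), (5, 170), (6, 171), (7, 172), (3, 170), (5, 174), (6, 175), (7, 176), (4, 175), (6, 178), (7, 179), (5, 179), (7, 181), (6, 182), (2, 174), (5, 184), (6, 185), (7, 186), (4, 185), (6, 188), (7, 189), (5, 189), (7, 191), (6, 192), (3, 188), (6, 194), (7, 195), (5, 195), (7, 197), (6, 198), (4, 197), (7, 200), (6, 201), (5, 202), (1, 194), (6, 204), (7, 205), (5, 205), (7, 207), (6, 208), (4, 207), (7, 210), (6, 211), (5, 212), (3, 210), (7, 214), (6, 215), (5, 216), (4, 217), (2, 214), (7, 219), (6, 220), (5, 221), (4, 222), (3, 223), (1, 224), (0, 219), (7, 226), (6, 227), (5, 228), (4, 229), (3, 230), (2, 231), (1, 231), (2, 233), (3, 234), (4, 235), (5, 236), (6, 237), (7, 238)]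
def depE8 : List ℕ := [29, 28, 27, 26, 25, 24, 23, 23, 22, 21, 20, 19, 18, 17, 22, 21, 20, 19, 18, 17, 16, 19, 18, 17, 16, 15, 17, 16, 15, 14, 15, 14, 13, 13, 12, 11, 16, 15, 14, 13, 14, 13, 12, 12, 11, 10, 13, 12, 11, 11, 10, 9, 10, 9, 8, 7, 12, 11, 10, 10, 9, 8, 9, 8, 7, 6, 8, 7, 6, 5, 4, 7, 6, 5, 4, 3, 2, 1, 13, 12, 11, 11, 10, 9, 10, 9, 8, 7, 9, 8, 7, 6, 5, 10, 9, 8, 7, 6, 7, 8, 7, 6, 5, 4, 3, 9, 8, 7, 6, 5, 10, 9, 8, 7, 11, 10, 9, 12, 11, 13, 12, 10, 11, 8, 9, 10, 6, 7, 8, 9, 4, 5, 6, 7, 8, 2, 3, 4, 5, 6, 7, 6, 5, 6, 7, 8, 9, 4, 5, 6, 7, 8, 6, 7, 8, 9, 8, 9, 10, 10, 11, 12, 0, 1, 2, 3, 4, 5, 6, 3, 4, 5, 6, 7, 5, 6, 7, 8, 7, 8, 9, 9, 10, 11, 6, 7, 8, 9, 8, 9, 10, 10, 11, 12, 9, 10, 11, 11, 12, 13, 12, 13, 14, 15, 10, 11, 12, 12, 13, 14, 13, 14, 15, 16, 14, 15, 16, 17, 18, 15, 16, 17, 18, 19, 20,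 21, 16, 17, 18, 19, 20, 21, 22, 22, 23, 24, 25, 26, 27, 28]
def compE8 : List ℕ := [0, 0, 0, 0, 0, 0, 0, 0, 0, 0, 0, 0, 0, 0, 0, 0, 0, 0, 0, 0, 0, 0, 0, 0, 0, 0, 0, 0, 0, 0, 0, 0, 0, 0, 0, 0, 0, 0, 0, 0, 0, 0, 0, 0, 0, 0, 0, 0, 0, 0, 0, 0, 0, 0, 0, 0, 0, 0, 0, 0, 0, 0, 0, 0, 0, 0, 0, 0, 0, 0, 0, 0, 0, 0, 0, 0, 0, 0, 0, 0, 0, 0, 0, 0, 0, 0, 0, 0, 0, 0, 0, 0, 0, 0, 0, 0, 0, 0, 0, 0, 0, 0, 0, 0, 0, 0, 0, 0, 0, 0, 0, 0, 0, 0, 0, 0, 0, 0, 0, 0, 0, 0, 0, 0, 0, 0, 0, 0, 0, 0, 0, 0, 0, 0, 0, 0, 0, 0, 0, 0, 0, 0, 0, 0, 0, 0, 0, 0, 0, 0, 0, 0, 0, 0, 0, 0, 0, 0, 0, 0, 0, 0, 0, 0, 0, 0, 0, 0, 0, 0, 0, 0, 0, 0, 0, 0, 0, 0, 0, 0, 0, 0, 0, 0, 0, 0, 0, 0, 0, 0, 0, 0, 0, 0, 0, 0, 0, 0, 0, 0, 0, 0, 0, 0, 0, 0, 0, 0, 0, 0, 0, 0, 0, 0, 0, 0, 0, 0, 0, 0, 0, 0, 0, 0, 0, 0, 0, 0, 0, 0, 0, 0, 0, 0, 0, 0, 0, 0, 0, 0]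

theorem ocertE8 : OCert chevE8 162 false 0 0 0 (0) parE8 depE8 compE8 := by
  constructor <;> decide +kernel

end Cfsg.Agent.Lib.Helper18_ChevOCerts
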