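import Cfsg.Agent.Lib.Helper18_ChevAutC
import Cfsg.Agent.Lib.Helper18_ChevW0Certs
import Cfsg.Agent.Lib.Helper18_ChevAutE
import Cfsg.Agent.Lib.Helper18_ChevOCerts

set_option autoImplicit false

/-! The certificates on the diagrams of types E7 and E8 used for the automorphisms. -/

namespace Cfsg.Agent.Lib.Helper18_ChevAutCerts

open Cfsg Cfsg.Lie Cfsg.Agent.Lib.Helper18_ChevFrob Cfsg.Agent.Lib.Helper18_ChevSimp
  Cfsg.Agent.Lib.Helper18_ChevFast Cfsg.Agent.Lib.Helper18_ChevEngine Cfsg.Agent.Lib.Helper18_ChevN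
  Cfsg.Agent.Lib.Helper18_ChevWeyl Cfsg.Agent.Lib.Helper18_ChevAutB Cfsg.Agent.Lib.Helper18_ChevAutC
  Cfsg.Agent.Lib.Helper18_ChevW0Certs Cfsg.Agent.Lib.Helper18_ChevAutD Cfsg.Agent.Lib.Helper18_ChevAutE
  Cfsg.Agent.Lib.Helper18_ChevOCerts

/-- The longest element and the fundamental roots, computed with the tables of the reflections. -/
def W0SimpleFast (D : ChevalleyDatum) (Ns : List NData) (w0 : List ℕ) : Prop :=
  (∀ j < D.rank, D.neg (D.simple j) < D.nroots) ∧
  (∀ j < D.rank, ∃ i < D.rank, wordPi Ns w0 (D.neg (D.simple j)) = D.simple i) ∧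
    ∀ i < D.rank, ∃ j < D.rank, wordPi Ns w0 (D.neg (D.simple j)) = D.simple i

instance (D : ChevalleyDatum) (Ns : List NData) (w0 : List ℕ) : Decidable (W0SimpleFast D Ns w0) := by
  unfold W0SimpleFast
  infer_instance

theorem w0Simple_of_fast {D : ChevalleyDatum} {Ns : List NData} {w0 : List ℕ} (c : DCert D Ns)
    (hw : W0Cert D w0) (h : W0SimpleFast D Ns w0) : W0Simple D w0 := by
  obtain ⟨h0, h1, h2⟩ := h
  constructor
  · intro j hj
    obtain ⟨i, hi, e⟩ := h1 j hj
    exact ⟨i, hi, by rw [← (wordPi_eq c w0 hw.1 _ (h0 j hj)).1, e]⟩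
  · intro i hi
    obtain ⟨j, hj, e⟩ := h2 i hi
    exact ⟨j, hj, by rw [← (wordPi_eq c w0 hw.1 _ (h0 j hj)).1, e]⟩

set_option maxHeartbeats 0 in
set_option maxRecDepth 100000 in
theorem w0SimpleE7 : W0Simple chevE7 w0E7 := by
  apply w0Simple_of_fast Cfsg.Agent.Lib.Helper18_ChevDatumE7.dcert w0CertE7
  decide +kernel

set_option maxHeartbeats 0 in
set_option maxRecDepth 100000 in
theorem w0SimpleE8 : W0Simple chevE8 w0E8 := by
  apply w0Simple_of_fast Cfsg.Agent.Lib.Helper18_ChevDatumE8.dcert w0CertE8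
  decide +kernel

set_option maxHeartbeats 0 in
set_option maxRecDepth 100000 in
theorem slCertE7 : SLCert chevE7 := by
  decide +kernel

set_option maxHeartbeats 0 in
set_option maxRecDepth 100000 in
theorem slCertE8 : SLCert chevE8 := by
  decide +kernel

set_option maxHeartbeats 0 in
set_option maxRecDepth 100000 in
theorem rigidE7 : Rigid chevE7 := by
  decide +kernel

set_option maxHeartbeats 0 in
set_option maxRecDepth 100000 in
theorem rigidE8 : Rigid chevE8 := by
  decide +kernel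


set_option maxHeartbeats 0 in
set_option maxRecDepth 100000 in
theorem connCertE7 : ConnCert chevE7 [0, 3, 0, 2, 3, 4, 5] [0, 3, 1, 2, 3, 4, 5] := by
  decide +kernel

set_option maxHeartbeats 0 in
set_option maxRecDepth 100000 in
theorem connCertE8 : ConnCert chevE8 [0, 3, 0, 2, 3, 4, 5, 6] [0, 3, 1, 2, 3, 4, 5, 6] := by
  decide +kernel

set_option maxHeartbeats 0 in
set_option maxRecDepth 100000 in
theorem invCartanLE8 : InvCartanL chevE8 [[4, 5, 7, 10, 8, 6, 4, 2], [5, 8, 10, 15, 12, 9, 6, 3],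
    [7, 10, 14, 20, 16, 12, 8, 4], [10, 15, 20, 30, 24, 18, 12, 6], [8, 12, 16, 24, 20, 15, 10, 5],
    [6, 9, 12, 18, 15, 12, 8, 4], [4, 6, 8, 12, 10, 8, 6, 3], [2, 3, 4, 6, 5, 4, 3, 2]] := by
  decide +kernel

set_option maxHeartbeats 0 in
set_option maxRecDepth 100000 in
theorem compE7_zero : ∀ r < chevE7.nroots, compE7.getD r 2 = 0 := by
  decide +kernel

set_option maxHeartbeats 0 in
set_option maxRecDepth 100000 in
theorem compE8_zero : ∀ r < chevE8.nroots, compE8.getD r 2 = 0 := by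
  decide +kernel

end Cfsg.Agent.Lib.Helper18_ChevAutCerts
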