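import Cfsg.Agent.Lib.Helper18_ChevGraphU
import Cfsg.Prelude.Def_ChevB2

set_option autoImplicit false
set_option maxHeartbeats 0
set_option maxRecDepth 100000

/-! The certificate of the exceptional graph automorphism of type B2 in characteristic 2 (generated). -/

namespace Cfsg.Agent.Lib.Helper18_ChevGraphB2

open Cfsg Cfsg.Lie Cfsg.Agent.Lib.Helper36_ChevSparse Cfsg.Agent.Lib.Helper36_ChevCoeff
  Cfsg.Agent.Lib.Helper18_ChevGraphT Cfsg.Agent.Lib.Helper18_ChevGraphU

/-- The columns of the intertwining matrix. -/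
def tzColsB2 : List SVec := [[], [(0, 1)], [(3, 1)], [], [], [(4, 1)], [(7, 1)], [], [], [(8, 1)]]

/-- The intertwining matrix. -/
def tzB2 : SMat := fun c => tzColsB2.getD c []

def piB2 : List ℕ := [1, 0, 3, 2, 5, 4, 7, 6]
def piInvB2 : List ℕ := [1, 0, 3, 2, 5, 4, 7, 6]
def lamB2 : List ℕ := [1, 2, 2, 1, 1, 2, 2, 1]
def epsB2 : List ℤ := [1, 1, 1, 1, 1, 1, 1, 1]

theorem graphCertB2 : GraphCert chevB2 2 tzB2 piB2 piInvB2 lamB2 epsB2 0 0 9 := by
  constructor <;> decide +kernel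

end Cfsg.Agent.Lib.Helper18_ChevGraphB2
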