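import Cfsg.Agent.Lib.Helper18_ChevAutR
import Cfsg.Agent.Lib.Helper18_ChevAutCerts
import Cfsg.Agent.Lib.Helper18_ChevACerts
import Cfsg.Agent.Lib.Helper18_ChevGraphB2
import Cfsg.Agent.Lib.Helper18_ChevData5

set_option autoImplicit false

/-! The decomposition of the automorphisms of the Chevalley groups of type B2 over the finite fields, with the
certificates on the diagram of type B2 used for the automorphisms. -/

namespace Cfsg.Agent.Lib.Helper18_SteinbergB2

open Cfsg Cfsg.Lie Cfsg.Agent.Lib.Helper18_ChevAutA Cfsg.Agent.Lib.Helper18_ChevAutB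
  Cfsg.Agent.Lib.Helper18_ChevAutC Cfsg.Agent.Lib.Helper18_ChevAutD Cfsg.Agent.Lib.Helper18_ChevAutE
  Cfsg.Agent.Lib.Helper18_ChevAutG Cfsg.Agent.Lib.Helper18_ChevAutI Cfsg.Agent.Lib.Helper18_ChevAutJ
  Cfsg.Agent.Lib.Helper18_ChevAutK Cfsg.Agent.Lib.Helper18_ChevAutM
  Cfsg.Agent.Lib.Helper18_ChevAutP Cfsg.Agent.Lib.Helper18_ChevAutQ Cfsg.Agent.Lib.Helper18_ChevAutR
  Cfsg.Agent.Lib.Helper18_ChevACerts Cfsg.Agent.Lib.Helper18_ChevAutCerts Cfsg.Agent.Lib.Helper18_ChevGraphB2
  Cfsg.Agent.Lib.Helper18_ChevW0Certs Cfsg.Agent.Lib.Helper18_ChevOCerts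

set_option maxHeartbeats 0 in
set_option maxRecDepth 100000 in
theorem w0SimpleB2 : W0Simple chevB2 w0B2 := by
  apply w0Simple_of_fast Cfsg.Agent.Lib.Helper18_ChevDatumB2.dcert w0CertB2
  decide +kernel

set_option maxHeartbeats 0 in
set_option maxRecDepth 100000 in
theorem headCertB2 : HeadCert chevB2 := by
  decide +kernel

set_option maxHeartbeats 0 in
set_option maxRecDepth 100000 in
theorem repCertB2 : RepCert chevB2 compB2 := by
  decide +kernel

set_option maxHeartbeats 0 in
set_option maxRecDepth 100000 in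
theorem connCertB2 : ConnCert chevB2 [0, 0] [0, 1] := by
  decide +kernel

set_option maxHeartbeats 0 in
set_option maxRecDepth 100000 in
theorem divCertB2 : DivCert chevB2 wsB2 2 := by
  decide +kernel

set_option maxHeartbeats 0 in
set_option maxRecDepth 100000 in
theorem orbitCertB2 : OrbitCert chevB2 0 1 := by
  decide +kernel

set_option maxHeartbeats 0 in
set_option maxRecDepth 100000 in
theorem pointedRigidB2 : PointedRigid chevB2 0 := by
  decide +kernel

set_option maxHeartbeats 0 in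
set_option maxRecDepth 100000 in
theorem flipCertB2 : FlipCert chevB2 [1, 0] := by
  decide +kernel

set_option maxHeartbeats 0 in
set_option maxRecDepth 100000 in
theorem swapCertB2 : SwapCertA chevB2 [1, 0] 1 0 7 2 := by
  decide +kernel

set_option maxHeartbeats 0 in
set_option maxRecDepth 100000 in
theorem symCertB2 : SymCert chevB2 [1, 0] [1, 0] := by
  decide +kernel

set_option maxHeartbeats 0 in
set_option maxRecDepth 100000 in
theorem graphFormCertB2 : GraphFormCert chevB2 2 [1, 0] piB2 lamB2 epsB2 := by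
  decide +kernel

/-- Every automorphism of the group of type B2 over a finite field is the product of an inner, a diagonal, a graph
and a field automorphism. -/
theorem steinberg {F : Type*} [Field F] [Fintype F] (p : ℕ) [Fact p.Prime] [CharP F p]
    (θ : MulAut ↥(chevB2.group F)) :
    ∃ (x : ↥(chevB2.group F)) (d g f : ↥(chevB2.group F) ≃* ↥(chevB2.group F)),
      chevB2.IsDiagonalAut d ∧ chevB2.IsGraphAut g ∧ chevB2.IsFieldAut f ∧
        ∀ y : ↥(chevB2.group F), θ y = x * d (g (f y)) * x⁻¹ := by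
  have c := Cfsg.Agent.Lib.Helper18_ChevDatumB2.dcert
  have tc := Cfsg.Agent.Lib.Helper18_ChevTCertB2.tcert
  have gc := Cfsg.Agent.Lib.Helper18_ChevGCertB2.gcert
  have pc := Cfsg.Agent.Lib.Helper18_ChevPCertB2.pcert
  have ac := Cfsg.Agent.Lib.Helper18_ChevACerts.acertB2
  have hdesc := Cfsg.Agent.Lib.Helper18_ChevJCerts.descent_all Cfsg.Lie.chevB2 (by simp)
  have hR2 := Cfsg.Agent.Lib.Helper18_ChevComm2.r2_all c pc (F := F)
  have A : AutBase2 Cfsg.Lie.chevB2 _ _ _ _ _ _ Cfsg.Agent.Lib.Helper18_ChevW0Certs.w0B2 F :=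
    ⟨Cfsg.Agent.Lib.Helper18_ChevDatumB2.dcert, tc, ac, gc, hdesc, hR2,
      Cfsg.Agent.Lib.Helper18_ChevW0Certs.w0CertB2, w0SimpleB2, headCertB2⟩
  apply steinberg_flip2 p A connCertB2 Cfsg.Agent.Lib.Helper18_ChevOCerts.ocertB2 repCertB2 divCertB2
    orbitCertB2 pointedRigidB2 flipCertB2 (by decide) ?_ θ
  rintro ⟨θ₂, h1, h2⟩
  by_cases hp : p = 2
  · subst hp
    exact realized_of_graphCert (by simp) _ graphCertB2 symCertB2 graphFormCertB2
  · exfalso
    have hC : ((2 : ℤ) : F) ≠ 0 := by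
      apply intCast_ne_zero_of_not_dvd p
      intro hdvd
      have h1 : p ∣ 2 := by exact_mod_cast hdvd
      exact hp ((Nat.prime_dvd_prime_iff_eq (Fact.out : p.Prime) Nat.prime_two).mp h1)
    exact false_of_swapA c tc ac gc hR2 swapCertB2 hC θ₂ h1 h2

end Cfsg.Agent.Lib.Helper18_SteinbergB2
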