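import Cfsg.Agent.Lib.Helper18_ChevAutH
import Cfsg.Agent.Lib.Helper18_ChevACerts
import Cfsg.Prelude.Def_ChevE7

set_option autoImplicit false

/-! The certificates on the Cartan matrix of type E7 used for the diagonal automorphisms. -/

namespace Cfsg.Agent.Lib.Helper18_ChevAutCertsE7

open Cfsg Cfsg.Lie Cfsg.Agent.Lib.Helper18_ChevAutG Cfsg.Agent.Lib.Helper18_ChevAutH
  Cfsg.Agent.Lib.Helper18_TorusKer Cfsg.Agent.Lib.Helper18_ChevACerts

/-- An integer matrix given by its rows, as a function. -/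
def matFn (r : ℕ) (M : List (List ℤ)) (i j : Fin r) : ℤ := (M.getD i []).getD j 0

/-- A vector of natural numbers given by a list, as a function. -/
def vecFn (r : ℕ) (v : List ℕ) (i : Fin r) : ℕ := v.getD i 0

set_option maxHeartbeats 0 in
set_option maxRecDepth 100000 in
theorem divCertE7 : DivCert chevE7 wsE7 2 := by
  decide +kernel

set_option maxHeartbeats 0 in
set_option maxRecDepth 100000 in
theorem kerCertE7 : KerCert (cartanFin chevE7) 2 (vecFn chevE7.rank [0, 1, 0, 0, 1, 0, 1]) ⟨1, by decide⟩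
    (matFn chevE7.rank [[4, 4, 6, 8, 6, 4, 2], [4, 7, 8, 12, 9, 6, 3], [6, 8, 12, 16, 12, 8, 4],
      [8, 12, 16, 24, 18, 12, 6], [6, 9, 12, 18, 15, 10, 5], [4, 6, 8, 12, 10, 8, 4], [2, 3, 4, 6, 5, 4, 3]])
    (matFn chevE7.rank [[0, 0, 1, 0, 1, 0, 1], [1, 0, 0, 1, 0, 1, 0], [1, 0, 0, 0, 0, 0, 0], [0, 0, 0, 0, 1, 0, 1],
      [0, 0, 0, 0, 0, 1, 0], [0, 0, 0, 0, 0, 0, 1], [0, 0, 0, 0, 0, 0, 0]]) := by
  decide +kernel

end Cfsg.Agent.Lib.Helper18_ChevAutCertsE7
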