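import Cfsg.Agent.Lib.Helper36_ChevAut
import Cfsg.Agent.Lib.Helper36_ChevDataE6

set_option autoImplicit false
set_option Elab.async false

/-! Type E6: the graph automorphism for the permutation [5, 1, 4, 3, 2, 0] of the nodes, as conjugation by a signed permutation matrix (table checks). Generated file. -/

namespace Cfsg.Agent.Lib.Helper36_ChevDataE6Aut

open Cfsg Cfsg.Lie Cfsg.Agent.Lib.Helper36_ChevSparse Cfsg.Agent.Lib.Helper36_ChevCoeff
  Cfsg.Agent.Lib.Helper36_ChevCoo Cfsg.Agent.Lib.Helper36_ChevAdd Cfsg.Agent.Lib.Helper36_ChevIdx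
  Cfsg.Agent.Lib.Helper36_ChevWeyl Cfsg.Agent.Lib.Helper36_ChevGen Cfsg.Agent.Lib.Helper36_ChevAut
  Cfsg.Agent.Lib.Helper36_ChevDataE6

/-- The permutation of the nodes. -/
def sigma : List ℕ := [5, 1, 4, 3, 2, 0]

/-- The signed permutation matrix, the permutation of the roots and the signs. -/
def autData : AutData where
  Pc := [[(5, 1)], [(1, 1)], [(4, 1)], [(3, 1)], [(2, 1)], [(0, 1)], [(6, 1)], [(7, 1)], [(8, 1)], [(11, 1)], [(22, -1)], [(9, 1)], [(12, 1)], [(23, -1)], [(14, 1)], [(25, -1)], [(28, -1)], [(17, 1)], [(32, -1)], [(36, 1)], [(39, -1)], [(41, 1)], [(10, -1)], [(13, -1)], [(24, 1)], [(15, -1)], [(26, 1)], [(29, 1)], [(16, -1)], [(27, 1)], [(30, 1)], [(31, 1)], [(18, -1)], [(33, 1)], [(37, -1)], [(40, 1)], [(19, 1)], [(34, -1)], [(38, 1)], [(20, -1)], [(35, 1)], [(21, 1)], [(62, 1)], [(48, 1)], [(63, -1)], [(45, 1)], [(49, -1)], [(64, 1)], [(43, 1)], [(46, -1)], [(50, 1)],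 [(65, -1)], [(52, 1)], [(53, 1)], [(56, 1)], [(67, -1)], [(54, 1)], [(57, 1)], [(68, -1)], [(59, 1)], [(70, -1)], [(73, -1)], [(42, 1)], [(44, -1)], [(47, 1)], [(51, -1)], [(66, 1)], [(55, -1)], [(58, -1)], [(69, 1)], [(60, -1)], [(71, 1)], [(74, 1)], [(61, -1)], [(72, 1)], [(75, 1)], [(76, 1)], [(77, 1)]]
  Pr := [[(5, 1)], [(1, 1)], [(4, 1)], [(3, 1)], [(2, 1)], [(0, 1)], [(6, 1)], [(7, 1)], [(8, 1)], [(11, 1)], [(22, -1)], [(9, 1)], [(12, 1)], [(23, -1)], [(14, 1)], [(25, -1)], [(28, -1)], [(17, 1)], [(32, -1)], [(36, 1)], [(39, -1)], [(41, 1)], [(10, -1)], [(13, -1)], [(24, 1)], [(15, -1)], [(26, 1)], [(29, 1)], [(16, -1)], [(27, 1)], [(30, 1)], [(31, 1)], [(18, -1)], [(33, 1)], [(37, -1)], [(40, 1)], [(19, 1)], [(34, -1)], [(38, 1)], [(20, -1)], [(35, 1)], [(21, 1)], [(62, 1)], [(48, 1)], [(63, -1)], [(45, 1)], [(49, -1)], [(64, 1)], [(43, 1)], [(46, -1)], [(50, 1)], [(65, -1)], [(52,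 1)], [(53, 1)], [(56, 1)], [(67, -1)], [(54, 1)], [(57, 1)], [(68, -1)], [(59, 1)], [(70, -1)], [(73, -1)], [(42, 1)], [(44, -1)], [(47, 1)], [(51, -1)], [(66, 1)], [(55, -1)], [(58, -1)], [(69, 1)], [(60, -1)], [(71, 1)], [(74, 1)], [(61, -1)], [(72, 1)], [(75, 1)], [(76, 1)], [(77, 1)]]
  Qc := [[(5, 1)], [(1, 1)], [(4, 1)], [(3, 1)], [(2, 1)], [(0, 1)], [(6, 1)], [(7, 1)], [(8, 1)], [(11, 1)], [(22, -1)], [(9, 1)], [(12, 1)], [(23, -1)], [(14, 1)], [(25, -1)], [(28, -1)], [(17, 1)], [(32, -1)], [(36, 1)], [(39, -1)], [(41, 1)], [(10, -1)], [(13, -1)], [(24, 1)], [(15, -1)], [(26, 1)], [(29, 1)], [(16, -1)], [(27, 1)], [(30, 1)], [(31, 1)], [(18, -1)], [(33, 1)], [(37, -1)], [(40, 1)], [(19, 1)], [(34, -1)], [(38, 1)], [(20, -1)], [(35, 1)], [(21, 1)], [(62, 1)], [(48, 1)], [(63, -1)], [(45, 1)], [(49, -1)], [(64, 1)], [(43, 1)], [(46, -1)], [(50, 1)], [(65, -1)], [(52, 1)], [(53, 1)],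 [(56, 1)], [(67, -1)], [(54, 1)], [(57, 1)], [(68, -1)], [(59, 1)], [(70, -1)], [(73, -1)], [(42, 1)], [(44, -1)], [(47, 1)], [(51, -1)], [(66, 1)], [(55, -1)], [(58, -1)], [(69, 1)], [(60, -1)], [(71, 1)], [(74, 1)], [(61, -1)], [(72, 1)], [(75, 1)], [(76, 1)], [(77, 1)]]
  pi := [0, 1, 2, 5, 16, 3, 6, 17, 8, 19, 22, 11, 26, 30, 33, 35, 4, 7, 18, 9, 20, 23, 10, 21, 24, 25, 12, 27, 31, 34, 13, 28, 32, 14, 29, 15, 56, 42, 57, 39, 43, 58, 37, 40, 44, 59, 46, 47, 50, 61, 48, 51, 62, 53, 64, 67, 36, 38, 41, 45, 60, 49, 52, 63, 54, 65, 68, 55, 66, 69, 70, 71]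
  piInv := [0, 1, 2, 5, 16, 3, 6, 17, 8, 19, 22, 11, 26, 30, 33, 35, 4, 7, 18, 9, 20, 23, 10, 21, 24, 25, 12, 27, 31, 34, 13, 28, 32, 14, 29, 15, 56, 42, 57, 39, 43, 58, 37, 40, 44, 59, 46, 47, 50, 61, 48, 51, 62, 53, 64, 67, 36, 38, 41, 45, 60, 49, 52, 63, 54, 65, 68, 55, 66, 69, 70, 71]
  eps := [1, 1, 1, 1, -1, 1, 1, -1, 1, -1, -1, 1, -1, 1, -1, 1, -1, -1, 1, -1, 1, 1, -1, 1, 1, 1, -1, 1, -1, 1, 1, -1, 1, -1, 1, 1, 1, 1, -1, 1, -1, 1, 1, -1, 1, -1, 1, 1, 1, -1, 1, 1, -1, 1, -1, -1, 1, -1, 1, -1, 1, -1, -1, 1, -1, 1, 1, -1, 1, 1, 1, 1]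

theorem matOK : autMatCheck chevE6 12 autData = true := by decide +kernel

theorem aut_0_24 : AutRange chevE6 12 autData 0 24 := by decide +kernel

theorem aut_24_48 : AutRange chevE6 12 autData 24 48 := by decide +kernel

theorem aut_48_72 : AutRange chevE6 12 autData 48 72 := by decide +kernel

theorem rangeOK : AutRange chevE6 12 autData 0 chevE6.nroots := autRange_trans chevE6 12 autData (autRange_trans chevE6 12 autData (aut_0_24) aut_24_48) aut_48_72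

theorem fundOK : ∀ i < chevE6.rank,
    autData.pi.getD (chevE6.simple i) 0 = chevE6.simple (sigma.getD i 0) ∧
    autData.eps.getD (chevE6.simple i) 0 = 1 ∧
    autData.pi.getD (chevE6.neg (chevE6.simple i)) 0 = chevE6.neg (chevE6.simple (sigma.getD i 0)) ∧
    autData.eps.getD (chevE6.neg (chevE6.simple i)) 0 = 1 := by decide +kernel

/-- Type E6: the graph automorphism attached to the permutation `sigma` of the nodes. -/
theorem exists_aut (F : Type*) [Field F] :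
    ∃ α : ↥(chevE6.group F) ≃* ↥(chevE6.group F), ∀ (g : ↥(chevE6.group F)) (i : ℕ) (t : F), i < chevE6.rank →
      (((g : GL chevE6.Idx F) : Matrix chevE6.Idx chevE6.Idx F) = chevE6.x F (chevE6.simple i) t →
        ((α g : GL chevE6.Idx F) : Matrix chevE6.Idx chevE6.Idx F) = chevE6.x F (chevE6.simple (sigma.getD i 0)) t) ∧
      (((g : GL chevE6.Idx F) : Matrix chevE6.Idx chevE6.Idx F) = chevE6.x F (chevE6.neg (chevE6.simple i)) t →
        ((α g : GL chevE6.Idx F) : Matrix chevE6.Idx chevE6.Idx F) =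
          chevE6.x F (chevE6.neg (chevE6.simple (sigma.getD i 0))) t) := by
  refine ⟨conjAut chevE6 lenOK addOK F 12 autData matOK rangeOK, fun g i t hi => ?_⟩
  obtain ⟨h1, h2, h3, h4⟩ := fundOK i hi
  constructor
  · intro hg
    rw [conjAut_x chevE6 lenOK addOK F 12 autData matOK rangeOK g _ (simpleOK i hi).1 t hg, h1, h2]
    simp
  · intro hg
    rw [conjAut_x chevE6 lenOK addOK F 12 autData matOK rangeOK g _ (simpleOK i hi).2 t hg, h3, h4]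
    simp

end Cfsg.Agent.Lib.Helper36_ChevDataE6Aut
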