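import Cfsg.Agent.Lib.Helper18_ChevAutI
import Cfsg.Agent.Lib.Helper18_ChevAutCerts
import Cfsg.Agent.Lib.Helper18_ChevAutCertsE7
import Cfsg.Agent.Lib.Helper18_ChevACerts
import Cfsg.Agent.Lib.Helper36_ChevDataE6Aut
import Cfsg.Prelude.Def_ChevE6

set_option autoImplicit false

/-! The certificates on the diagram of type E6 used for the automorphisms, and the graph automorphism. -/

namespace Cfsg.Agent.Lib.Helper18_ChevAutCertsE6

open Cfsg Cfsg.Lie Cfsg.Agent.Lib.Helper18_ChevFrob Cfsg.Agent.Lib.Helper18_ChevSimp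
  Cfsg.Agent.Lib.Helper18_ChevFast Cfsg.Agent.Lib.Helper18_ChevEngine Cfsg.Agent.Lib.Helper18_ChevN
  Cfsg.Agent.Lib.Helper18_ChevWeyl Cfsg.Agent.Lib.Helper18_ChevAutA Cfsg.Agent.Lib.Helper18_ChevAutB
  Cfsg.Agent.Lib.Helper18_ChevAutC
  Cfsg.Agent.Lib.Helper18_ChevW0Certs Cfsg.Agent.Lib.Helper18_ChevAutD Cfsg.Agent.Lib.Helper18_ChevAutE
  Cfsg.Agent.Lib.Helper18_ChevOCerts Cfsg.Agent.Lib.Helper18_ChevAutCerts Cfsg.Agent.Lib.Helper18_ChevAutG
  Cfsg.Agent.Lib.Helper18_ChevAutH Cfsg.Agent.Lib.Helper18_ChevAutI Cfsg.Agent.Lib.Helper18_TorusKer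
  Cfsg.Agent.Lib.Helper18_ChevACerts Cfsg.Agent.Lib.Helper18_ChevAutCertsE7 Cfsg.Agent.Lib.Helper18_ChevGL
  Cfsg.Agent.Lib.Helper18_ChevBruhat

set_option maxHeartbeats 0 in
set_option maxRecDepth 100000 in
theorem w0SimpleE6 : W0Simple chevE6 w0E6 := by
  apply w0Simple_of_fast Cfsg.Agent.Lib.Helper18_ChevDatumE6.dcert w0CertE6
  decide +kernel

set_option maxHeartbeats 0 in
set_option maxRecDepth 100000 in
theorem slCertE6 : SLCert chevE6 := by
  decide +kernel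

set_option maxHeartbeats 0 in
set_option maxRecDepth 100000 in
theorem connCertE6 : ConnCert chevE6 [0, 3, 0, 2, 3, 4] [0, 3, 1, 2, 3, 4] := by
  decide +kernel

set_option maxHeartbeats 0 in
set_option maxRecDepth 100000 in
theorem compE6_zero : ∀ r < chevE6.nroots, compE6.getD r 2 = 0 := by
  decide +kernel

set_option maxHeartbeats 0 in
set_option maxRecDepth 100000 in
theorem divCertE6 : DivCert chevE6 wsE6 3 := by
  decide +kernel

set_option maxHeartbeats 0 in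
set_option maxRecDepth 100000 in
theorem kerCertE6 : KerCert (cartanFin chevE6) 3 (vecFn chevE6.rank [1, 0, 2, 0, 1, 2]) ⟨0, by decide⟩
    (matFn chevE6.rank [[4, 3, 5, 6, 4, 2], [3, 6, 6, 9, 6, 3], [5, 6, 10, 12, 8, 4], [6, 9, 12, 18, 12, 6],
      [4, 6, 8, 12, 10, 5], [2, 3, 4, 6, 5, 4]])
    (matFn chevE6.rank [[0, 2, 2, 1, 1, 1], [0, 2, 0, 0, 1, 2], [0, 1, 0, 2, 0, 1], [0, 0, 0, 0, 2, 1],
      [0, 0, 0, 0, 0, 2], [0, 0, 0, 0, 0, 0]]) := by
  decide +kernel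

set_option maxHeartbeats 0 in
set_option maxRecDepth 100000 in
theorem orbitCertE6 : OrbitCert chevE6 0 5 := by
  decide +kernel

set_option maxHeartbeats 0 in
set_option maxRecDepth 100000 in
theorem pointedRigidE6 : PointedRigid chevE6 0 := by
  decide +kernel

/-! ### The graph automorphism -/

set_option maxHeartbeats 0 in
set_option maxRecDepth 100000 in
/-- The permutation of the roots of the graph automorphism, and its inverse, map positive roots to positive roots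
and negative roots to negative roots. -/
theorem posOK : ∀ r < chevE6.nroots,
    (chevE6.IsPosRoot r → chevE6.IsPosRoot (Cfsg.Agent.Lib.Helper36_ChevDataE6Aut.autData.pi.getD r 0) ∧
      chevE6.IsPosRoot (Cfsg.Agent.Lib.Helper36_ChevDataE6Aut.autData.piInv.getD r 0)) ∧
    (chevE6.IsNegRoot r → chevE6.IsNegRoot (Cfsg.Agent.Lib.Helper36_ChevDataE6Aut.autData.pi.getD r 0) ∧
      chevE6.IsNegRoot (Cfsg.Agent.Lib.Helper36_ChevDataE6Aut.autData.piInv.getD r 0)) := by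
  decide +kernel

set_option maxHeartbeats 0 in
set_option maxRecDepth 100000 in
theorem sigmaOK : ∀ i < chevE6.rank, Cfsg.Agent.Lib.Helper36_ChevDataE6Aut.sigma.getD i 0 < chevE6.rank ∧
    Cfsg.Agent.Lib.Helper36_ChevDataE6Aut.sigma.getD (Cfsg.Agent.Lib.Helper36_ChevDataE6Aut.sigma.getD i 0) 0 = i := by
  decide +kernel

variable (F : Type*) [Field F]

/-- The matrix of the graph automorphism. -/
noncomputable def graphMat : GL chevE6.Idx F :=
  Cfsg.Agent.Lib.Helper36_ChevAut.PGL chevE6 F 12 Cfsg.Agent.Lib.Helper36_ChevDataE6Aut.autData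
    Cfsg.Agent.Lib.Helper36_ChevDataE6Aut.matOK

/-- The graph automorphism of the group of type E6. -/
noncomputable def graphE6 : MulAut ↥(chevE6.group F) :=
  Cfsg.Agent.Lib.Helper36_ChevAut.conjAut chevE6 Cfsg.Agent.Lib.Helper36_ChevDataE6.lenOK
    Cfsg.Agent.Lib.Helper36_ChevDataE6.addOK F 12 Cfsg.Agent.Lib.Helper36_ChevDataE6Aut.autData
    Cfsg.Agent.Lib.Helper36_ChevDataE6Aut.matOK Cfsg.Agent.Lib.Helper36_ChevDataE6Aut.rangeOK

theorem graphE6_coe (g : ↥(chevE6.group F)) :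
    ((graphE6 F g : ↥(chevE6.group F)) : GL chevE6.Idx F) = graphMat F * (g : GL chevE6.Idx F) * (graphMat F)⁻¹ :=
  rfl

theorem graphMat_mul_x (r : ℕ) (hr : r < chevE6.nroots) (t : F) :
    ((graphMat F : GL chevE6.Idx F) : Matrix chevE6.Idx chevE6.Idx F) * chevE6.x F r t =
      chevE6.x F (Cfsg.Agent.Lib.Helper36_ChevDataE6Aut.autData.pi.getD r 0)
        (((Cfsg.Agent.Lib.Helper36_ChevDataE6Aut.autData.eps.getD r 0 : ℤ) : F) * t) *
      ((graphMat F : GL chevE6.Idx F) : Matrix chevE6.Idx chevE6.Idx F) :=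
  Cfsg.Agent.Lib.Helper36_ChevAut.PGL_mul_x chevE6 Cfsg.Agent.Lib.Helper36_ChevDataE6.lenOK
    Cfsg.Agent.Lib.Helper36_ChevDataE6.addOK F 12 Cfsg.Agent.Lib.Helper36_ChevDataE6Aut.autData
    Cfsg.Agent.Lib.Helper36_ChevDataE6Aut.matOK Cfsg.Agent.Lib.Helper36_ChevDataE6Aut.rangeOK r hr t

theorem graphMat_conj_xGL (r : ℕ) (hr : r < chevE6.nroots) (t : F) :
    graphMat F * xGL Cfsg.Agent.Lib.Helper18_ChevDatumE6.dcert r t * (graphMat F)⁻¹ =
      xGL Cfsg.Agent.Lib.Helper18_ChevDatumE6.dcert (Cfsg.Agent.Lib.Helper36_ChevDataE6Aut.autData.pi.getD r 0)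
        (((Cfsg.Agent.Lib.Helper36_ChevDataE6Aut.autData.eps.getD r 0 : ℤ) : F) * t) := by
  rw [mul_inv_eq_iff_eq_mul]
  apply Units.ext
  simp only [Units.val_mul, xGL_coe]
  exact graphMat_mul_x F r hr t

theorem graphMat_inv_conj_xGL (r : ℕ) (hr : r < chevE6.nroots) (t : F) :
    (graphMat F)⁻¹ * xGL Cfsg.Agent.Lib.Helper18_ChevDatumE6.dcert r t * graphMat F =
      xGL Cfsg.Agent.Lib.Helper18_ChevDatumE6.dcert (Cfsg.Agent.Lib.Helper36_ChevDataE6Aut.autData.piInv.getD r 0)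
        (((Cfsg.Agent.Lib.Helper36_ChevDataE6Aut.autData.eps.getD
          (Cfsg.Agent.Lib.Helper36_ChevDataE6Aut.autData.piInv.getD r 0) 0 : ℤ) : F) * t) := by
  have hr0 := Cfsg.Agent.Lib.Helper36_ChevAut.piInv_lt chevE6 12 Cfsg.Agent.Lib.Helper36_ChevDataE6Aut.autData
    Cfsg.Agent.Lib.Helper36_ChevDataE6Aut.rangeOK r hr
  have hpi := Cfsg.Agent.Lib.Helper36_ChevAut.pi_piInv chevE6 12 Cfsg.Agent.Lib.Helper36_ChevDataE6Aut.autData
    Cfsg.Agent.Lib.Helper36_ChevDataE6Aut.rangeOK r hr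
  have hε := Cfsg.Agent.Lib.Helper36_ChevAut.eps_sq chevE6 12 Cfsg.Agent.Lib.Helper36_ChevDataE6Aut.autData
    Cfsg.Agent.Lib.Helper36_ChevDataE6Aut.rangeOK _ hr0
  have h1 := graphMat_conj_xGL F _ hr0 (((Cfsg.Agent.Lib.Helper36_ChevDataE6Aut.autData.eps.getD
          (Cfsg.Agent.Lib.Helper36_ChevDataE6Aut.autData.piInv.getD r 0) 0 : ℤ) : F) * t)
  have hεε : ((Cfsg.Agent.Lib.Helper36_ChevDataE6Aut.autData.eps.getD
          (Cfsg.Agent.Lib.Helper36_ChevDataE6Aut.autData.piInv.getD r 0) 0 : ℤ) : F) *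
      (((Cfsg.Agent.Lib.Helper36_ChevDataE6Aut.autData.eps.getD
          (Cfsg.Agent.Lib.Helper36_ChevDataE6Aut.autData.piInv.getD r 0) 0 : ℤ) : F) * t) = t := by
    rcases hε with h | h <;> rw [h] <;> simp
  rw [hεε, hpi] at h1
  rw [← h1]
  group

theorem graphE6_preserves_closure (P : ℕ → Prop) (hP : ∀ r, P r → r < chevE6.nroots)
    (hpi : ∀ r, P r → P (Cfsg.Agent.Lib.Helper36_ChevDataE6Aut.autData.pi.getD r 0) ∧
      P (Cfsg.Agent.Lib.Helper36_ChevDataE6Aut.autData.piInv.getD r 0)) :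
    Preserves (graphE6 F)
      (Subgroup.closure {g : GL chevE6.Idx F | ∃ (r : ℕ) (t : F), P r ∧
        (g : Matrix chevE6.Idx chevE6.Idx F) = chevE6.x F r t}) := by
  intro x
  rw [graphE6_coe]
  constructor
  · intro h
    have := conj_closure_le (graphMat F)⁻¹ _ (Subgroup.closure {g : GL chevE6.Idx F | ∃ (r : ℕ) (t : F), P r ∧
        (g : Matrix chevE6.Idx chevE6.Idx F) = chevE6.x F r t}) ?_ _ h
    · rw [inv_inv] at this
      have e : (graphMat F)⁻¹ * (graphMat F * (x : GL chevE6.Idx F) * (graphMat F)⁻¹) * graphMat F = x := by group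
      rwa [e] at this
    · rintro s ⟨r, t, hr, hs⟩
      rw [eq_xGL Cfsg.Agent.Lib.Helper18_ChevDatumE6.dcert hs, inv_inv, graphMat_inv_conj_xGL F r (hP r hr)]
      exact Subgroup.subset_closure ⟨_, _, (hpi r hr).2, rfl⟩
  · intro h
    apply conj_closure_le (graphMat F) _ _ ?_ _ h
    rintro s ⟨r, t, hr, hs⟩
    rw [eq_xGL Cfsg.Agent.Lib.Helper18_ChevDatumE6.dcert hs, graphMat_conj_xGL F r (hP r hr)]
    exact Subgroup.subset_closure ⟨_, _, (hpi r hr).1, rfl⟩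

theorem graphE6_xG (r : ℕ) (hr : r < chevE6.nroots) (t : F) :
    graphE6 F (xG Cfsg.Agent.Lib.Helper18_ChevDatumE6.dcert r t) =
      xG Cfsg.Agent.Lib.Helper18_ChevDatumE6.dcert (Cfsg.Agent.Lib.Helper36_ChevDataE6Aut.autData.pi.getD r 0)
        (((Cfsg.Agent.Lib.Helper36_ChevDataE6Aut.autData.eps.getD r 0 : ℤ) : F) * t) := by
  apply Subtype.ext
  rw [graphE6_coe, xG_coe, xG_coe, graphMat_conj_xGL F r hr]

/-- The graph automorphism of the group of type E6 is a graph automorphism. -/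
theorem graphAutE6 : GraphAut (F := F) Cfsg.Agent.Lib.Helper18_ChevDatumE6.dcert
    (fun i => Cfsg.Agent.Lib.Helper36_ChevDataE6Aut.sigma.getD i 0) (graphE6 F) where
  lt := fun i hi => (sigmaOK i hi).1
  invol := fun i hi => (sigmaOK i hi).2
  pos := by
    intro i hi t
    obtain ⟨h1, h2, -, -⟩ := Cfsg.Agent.Lib.Helper36_ChevDataE6Aut.fundOK i hi
    rw [graphE6_xG F _ (Cfsg.Agent.Lib.Helper36_ChevDataE6.simpleOK i hi).1, h1, h2, Int.cast_one, one_mul]
  neg := by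
    intro i hi t
    obtain ⟨-, -, h3, h4⟩ := Cfsg.Agent.Lib.Helper36_ChevDataE6Aut.fundOK i hi
    rw [graphE6_xG F _ (Cfsg.Agent.Lib.Helper36_ChevDataE6.simpleOK i hi).2, h3, h4, Int.cast_one, one_mul]
  presU := graphE6_preserves_closure F chevE6.IsPosRoot (fun _ h => h.1) (fun r h => (posOK r h.1).1 h)
  presV := graphE6_preserves_closure F chevE6.IsNegRoot (fun _ h => h.1) (fun r h => (posOK r h.1).2 h)

end Cfsg.Agent.Lib.Helper18_ChevAutCertsE6
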