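import Cfsg.Agent.Lib.Helper18_ChevAutQ
import Cfsg.Agent.Lib.Helper18_ChevAutCertsE6
import Cfsg.Agent.Lib.Helper18_ChevData5

set_option autoImplicit false

/-! The decomposition of the automorphisms of the Chevalley groups of type E6 over the finite fields. -/

namespace Cfsg.Agent.Lib.Helper18_SteinbergE6

open Cfsg Cfsg.Lie Cfsg.Agent.Lib.Helper18_ChevAutA Cfsg.Agent.Lib.Helper18_ChevAutB
  Cfsg.Agent.Lib.Helper18_ChevAutF Cfsg.Agent.Lib.Helper18_ChevAutI Cfsg.Agent.Lib.Helper18_ChevAutK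
  Cfsg.Agent.Lib.Helper18_ChevAutG Cfsg.Agent.Lib.Helper18_ChevAutJ Cfsg.Agent.Lib.Helper18_ChevAutM
  Cfsg.Agent.Lib.Helper18_ChevAutP Cfsg.Agent.Lib.Helper18_ChevAutQ
  Cfsg.Agent.Lib.Helper18_ChevACerts Cfsg.Agent.Lib.Helper18_ChevAutCerts Cfsg.Agent.Lib.Helper18_ChevAutCertsE6

set_option maxHeartbeats 0 in
set_option maxRecDepth 100000 in
theorem flipCertE6 : FlipCert chevE6 [5, 1, 4, 3, 2, 0] := by
  decide +kernel

set_option maxHeartbeats 0 in
set_option maxRecDepth 100000 in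
theorem symCertE6 : SymCert chevE6 [5, 1, 4, 3, 2, 0] [5, 1, 4, 3, 2, 0] := by
  decide +kernel

set_option maxHeartbeats 0 in
set_option maxRecDepth 100000 in
theorem shortE6 : ∀ i < chevE6.rank, chevE6.isLong (chevE6.simple i) = false := by
  decide +kernel

/-- Every automorphism of the group of type E6 over a finite field is the product of an inner, a diagonal, a graph
and a field automorphism. -/
theorem steinberg {F : Type*} [Field F] [Fintype F] (p : ℕ) [Fact p.Prime] [CharP F p]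
    (θ : MulAut ↥(chevE6.group F)) :
    ∃ (x : ↥(chevE6.group F)) (d g f : ↥(chevE6.group F) ≃* ↥(chevE6.group F)),
      chevE6.IsDiagonalAut d ∧ chevE6.IsGraphAut g ∧ chevE6.IsFieldAut f ∧
        ∀ y : ↥(chevE6.group F), θ y = x * d (g (f y)) * x⁻¹ := by
  have c := Cfsg.Agent.Lib.Helper18_ChevDatumE6.dcert
  have tc := Cfsg.Agent.Lib.Helper18_ChevTCertE6.tcert
  have gc := Cfsg.Agent.Lib.Helper18_ChevGCertE6.gcert
  have pc := Cfsg.Agent.Lib.Helper18_ChevPCertE6.pcert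
  have ac := Cfsg.Agent.Lib.Helper18_ChevACerts.acertE6
  have hdesc := Cfsg.Agent.Lib.Helper18_ChevJCerts.descent_all Cfsg.Lie.chevE6 (by simp)
  have hR2 := Cfsg.Agent.Lib.Helper18_ChevComm2.r2_all c pc (F := F)
  have A : AutBase Cfsg.Lie.chevE6 _ _ _ _ _ _ Cfsg.Agent.Lib.Helper18_ChevW0Certs.w0E6 F :=
    ⟨Cfsg.Agent.Lib.Helper18_ChevDatumE6.dcert, tc, ac, gc, hdesc, hR2,
      Cfsg.Agent.Lib.Helper18_ChevW0Certs.w0CertE6, w0SimpleE6, slCertE6⟩
  apply steinberg_base p A connCertE6 Cfsg.Agent.Lib.Helper18_ChevOCerts.ocertE6 compE6_zero divCertE6 ?_ θ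
  intro θ₂ ρ hρ _ _ hinj hadj
  rcases mem_orbit orbitCertE6 ρ hρ hinj hadj with h | h
  · exact realized_id _ p ρ (eq_of_pointedRigid pointedRigidE6 ρ hρ hinj hadj h)
  · have hfl := eq_flip_of_swap orbitCertE6 pointedRigidE6 flipCertE6 (by decide) ρ hρ hinj hadj h
    have hg := graphAutE6 F
    exact realized_of_short _ p symCertE6 shortE6 ρ hfl (graphE6 F) hg.pos hg.neg

end Cfsg.Agent.Lib.Helper18_SteinbergE6
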