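import Cfsg.Agent.Lib.Helper18_ChevAutQ
import Cfsg.Agent.Lib.Helper18_ChevAutCerts
import Cfsg.Agent.Lib.Helper18_ChevAutCertsE7
import Cfsg.Agent.Lib.Helper18_ChevACerts
import Cfsg.Agent.Lib.Helper18_ChevData5

set_option autoImplicit false

/-! The decomposition of the automorphisms of the Chevalley groups of types E7 and E8 over the finite fields. -/

namespace Cfsg.Agent.Lib.Helper18_SteinbergE8

open Cfsg Cfsg.Lie Cfsg.Agent.Lib.Helper18_ChevAutA Cfsg.Agent.Lib.Helper18_ChevAutB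
  Cfsg.Agent.Lib.Helper18_ChevAutF
  Cfsg.Agent.Lib.Helper18_ChevAutG Cfsg.Agent.Lib.Helper18_ChevAutJ Cfsg.Agent.Lib.Helper18_ChevAutM
  Cfsg.Agent.Lib.Helper18_ChevAutP Cfsg.Agent.Lib.Helper18_ChevAutQ
  Cfsg.Agent.Lib.Helper18_ChevACerts Cfsg.Agent.Lib.Helper18_ChevAutCerts Cfsg.Agent.Lib.Helper18_ChevAutCertsE7

set_option maxHeartbeats 0 in
set_option maxRecDepth 100000 in
theorem divCertE8 : DivCert chevE8 wsE8 1 := by
  decide +kernel

/-- Every automorphism of the group of type E8 over a finite field is the product of an inner, a diagonal, a graph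
and a field automorphism. -/
theorem steinbergE8 {F : Type*} [Field F] [Fintype F] (p : ℕ) [Fact p.Prime] [CharP F p]
    (θ : MulAut ↥(chevE8.group F)) :
    ∃ (x : ↥(chevE8.group F)) (d g f : ↥(chevE8.group F) ≃* ↥(chevE8.group F)),
      chevE8.IsDiagonalAut d ∧ chevE8.IsGraphAut g ∧ chevE8.IsFieldAut f ∧
        ∀ y : ↥(chevE8.group F), θ y = x * d (g (f y)) * x⁻¹ := by
  have c := Cfsg.Agent.Lib.Helper18_ChevDatumE8.dcert
  have tc := Cfsg.Agent.Lib.Helper18_ChevTCertE8.tcert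
  have gc := Cfsg.Agent.Lib.Helper18_ChevGCertE8.gcert
  have pc := Cfsg.Agent.Lib.Helper18_ChevPCertE8.pcert
  have ac := Cfsg.Agent.Lib.Helper18_ChevACerts.acertE8
  have hdesc := Cfsg.Agent.Lib.Helper18_ChevJCerts.descent_all Cfsg.Lie.chevE8 (by simp)
  have hR2 := Cfsg.Agent.Lib.Helper18_ChevComm2.r2_all c pc (F := F)
  have A : AutData Cfsg.Lie.chevE8 _ _ _ _ _ _ Cfsg.Agent.Lib.Helper18_ChevW0Certs.w0E8 F :=
    ⟨c, tc, ac, gc, hdesc, hR2, Cfsg.Agent.Lib.Helper18_ChevW0Certs.w0CertE8, w0SimpleE8, slCertE8, rigidE8⟩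
  exact steinberg_rigid p A connCertE8 Cfsg.Agent.Lib.Helper18_ChevOCerts.ocertE8 compE8_zero divCertE8 θ

/-- Every automorphism of the group of type E7 over a finite field is the product of an inner, a diagonal, a graph
and a field automorphism. -/
theorem steinbergE7 {F : Type*} [Field F] [Fintype F] (p : ℕ) [Fact p.Prime] [CharP F p]
    (θ : MulAut ↥(chevE7.group F)) :
    ∃ (x : ↥(chevE7.group F)) (d g f : ↥(chevE7.group F) ≃* ↥(chevE7.group F)),
      chevE7.IsDiagonalAut d ∧ chevE7.IsGraphAut g ∧ chevE7.IsFieldAut f ∧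
        ∀ y : ↥(chevE7.group F), θ y = x * d (g (f y)) * x⁻¹ := by
  have c := Cfsg.Agent.Lib.Helper18_ChevDatumE7.dcert
  have tc := Cfsg.Agent.Lib.Helper18_ChevTCertE7.tcert
  have gc := Cfsg.Agent.Lib.Helper18_ChevGCertE7.gcert
  have pc := Cfsg.Agent.Lib.Helper18_ChevPCertE7.pcert
  have ac := Cfsg.Agent.Lib.Helper18_ChevACerts.acertE7
  have hdesc := Cfsg.Agent.Lib.Helper18_ChevJCerts.descent_all Cfsg.Lie.chevE7 (by simp)
  have hR2 := Cfsg.Agent.Lib.Helper18_ChevComm2.r2_all c pc (F := F)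
  have A : AutData Cfsg.Lie.chevE7 _ _ _ _ _ _ Cfsg.Agent.Lib.Helper18_ChevW0Certs.w0E7 F :=
    ⟨c, tc, ac, gc, hdesc, hR2, Cfsg.Agent.Lib.Helper18_ChevW0Certs.w0CertE7, w0SimpleE7, slCertE7, rigidE7⟩
  exact steinberg_rigid p A connCertE7 Cfsg.Agent.Lib.Helper18_ChevOCerts.ocertE7 compE7_zero divCertE7 θ

end Cfsg.Agent.Lib.Helper18_SteinbergE8
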