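import Cfsg.Agent.Lib.Helper18_ChevGraphU
import Cfsg.Prelude.Def_ChevF4

set_option autoImplicit false
set_option maxHeartbeats 0
set_option maxRecDepth 100000

/-! The certificate of the exceptional graph automorphism of type F4 in characteristic 2 (generated). -/

namespace Cfsg.Agent.Lib.Helper18_ChevGraphF4

open Cfsg Cfsg.Lie Cfsg.Agent.Lib.Helper36_ChevSparse Cfsg.Agent.Lib.Helper36_ChevCoeff
  Cfsg.Agent.Lib.Helper18_ChevGraphT Cfsg.Agent.Lib.Helper18_ChevGraphU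

/-- The columns of the intertwining matrix. -/
def tzColsF4 : List SVec := [[], [], [(1, 1)], [(0, 1)], [(7, 1)], [(11, 1)], [(12, 1)], [], [(13, 1)], [(15, 1)], [(22, 1)], [], [], [], [], [], [], [], [], [(14, 1)], [(16, 1)], [(23, 1)], [], [], [], [(17, 1)], [(24, 1)], [(18, 1)], [(37, 1)], [(31, 1)], [(38, 1)], [], [], [], [(32, 1)], [(39, 1)], [(41, 1)], [], [], [], [], [], [], [], [], [(33, 1)], [(40, 1)], [(42, 1)], [], [(43, 1)], [(44, 1)], [(48, 1)]]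

/-- The intertwining matrix. -/
def tzF4 : SMat := fun c => tzColsF4.getD c []

def piF4 : List ℕ := [3, 7, 8, 0, 9, 11, 18, 1, 2, 4, 15, 5, 16, 21, 23, 10, 12, 19, 6, 17, 22, 13, 20, 14, 33, 27, 34, 25, 30, 41, 28, 35, 37, 24, 26, 31, 42, 32, 43, 45, 46, 29, 36, 38, 47, 39, 40, 44]
def piInvF4 : List ℕ := [3, 7, 8, 0, 9, 11, 18, 1, 2, 4, 15, 5, 16, 21, 23, 10, 12, 19, 6, 17, 22, 13, 20, 14, 33, 27, 34, 25, 30, 41, 28, 35, 37, 24, 26, 31, 42, 32, 43, 45, 46, 29, 36, 38, 47, 39, 40, 44]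
def lamF4 : List ℕ := [1, 1, 1, 2, 1, 1, 1, 2, 2, 2, 2, 2, 2, 2, 2, 1, 1, 1, 2, 2, 2, 1, 1, 1, 1, 1, 1, 2, 2, 2, 1, 1, 1, 2, 2, 2, 2, 2, 2, 2, 2, 1, 1, 1, 2, 1, 1, 1]
def epsF4 : List ℤ := [1, 1, 1, 1, 1, 1, 1, 1, 1, 1, 1, 1, 1, 1, 1, 1, 1, 1, 1, 1, 1, 1, 1, 1, 1, 1, 1, 1, 1, 1, 1, 1, 1, 1, 1, 1, 1, 1, 1, 1, 1, 1, 1, 1, 1, 1, 1, 1]

theorem graphCertF4 : GraphCert chevF4 2 tzF4 piF4 piInvF4 lamF4 epsF4 0 1 51 := by
  constructor <;> decide +kernel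

end Cfsg.Agent.Lib.Helper18_ChevGraphF4
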