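import Cfsg.Agent.Lib.Helper18_ChevAutM
import Cfsg.Agent.Lib.Helper18_ChevAutCerts
import Cfsg.Agent.Lib.Helper18_ChevACerts
import Cfsg.Agent.Lib.Helper18_ChevGraphF4
import Cfsg.Prelude.Def_ChevF4

set_option autoImplicit false

/-! The certificates on the diagram of type F4 used for the automorphisms. -/

namespace Cfsg.Agent.Lib.Helper18_ChevAutCertsF4

open Cfsg Cfsg.Lie Cfsg.Agent.Lib.Helper18_ChevFrob Cfsg.Agent.Lib.Helper18_ChevSimp
  Cfsg.Agent.Lib.Helper18_ChevFast Cfsg.Agent.Lib.Helper18_ChevEngine Cfsg.Agent.Lib.Helper18_ChevN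
  Cfsg.Agent.Lib.Helper18_ChevWeyl Cfsg.Agent.Lib.Helper18_ChevAutA Cfsg.Agent.Lib.Helper18_ChevAutB
  Cfsg.Agent.Lib.Helper18_ChevAutC
  Cfsg.Agent.Lib.Helper18_ChevW0Certs Cfsg.Agent.Lib.Helper18_ChevAutD Cfsg.Agent.Lib.Helper18_ChevAutE
  Cfsg.Agent.Lib.Helper18_ChevOCerts Cfsg.Agent.Lib.Helper18_ChevAutCerts Cfsg.Agent.Lib.Helper18_ChevAutG
  Cfsg.Agent.Lib.Helper18_ChevAutH Cfsg.Agent.Lib.Helper18_ChevAutI Cfsg.Agent.Lib.Helper18_ChevAutJ
  Cfsg.Agent.Lib.Helper18_ChevAutK Cfsg.Agent.Lib.Helper18_ChevAutM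
  Cfsg.Agent.Lib.Helper18_ChevACerts Cfsg.Agent.Lib.Helper18_ChevGL
  Cfsg.Agent.Lib.Helper18_ChevBruhat Cfsg.Agent.Lib.Helper18_ChevGraphF4

set_option maxHeartbeats 0 in
set_option maxRecDepth 100000 in
theorem w0SimpleF4 : W0Simple chevF4 w0F4 := by
  apply w0Simple_of_fast Cfsg.Agent.Lib.Helper18_ChevDatumF4.dcert w0CertF4
  decide +kernel

set_option maxHeartbeats 0 in
set_option maxRecDepth 100000 in
theorem headCertF4 : HeadCert chevF4 := by
  decide +kernel

set_option maxHeartbeats 0 in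
set_option maxRecDepth 100000 in
theorem repCertF4 : RepCert chevF4 compF4 := by
  decide +kernel

set_option maxHeartbeats 0 in
set_option maxRecDepth 100000 in
theorem connCertF4 : ConnCert chevF4 [0, 0, 1, 2] [0, 1, 2, 3] := by
  decide +kernel

set_option maxHeartbeats 0 in
set_option maxRecDepth 100000 in
theorem invCartanLF4 : InvCartanL chevF4 [[2, 3, 4, 2], [3, 6, 8, 4], [2, 4, 6, 3], [1, 2, 3, 2]] := by
  decide +kernel

set_option maxHeartbeats 0 in
set_option maxRecDepth 100000 in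
theorem orbitCertF4 : OrbitCert chevF4 0 3 := by
  decide +kernel

set_option maxHeartbeats 0 in
set_option maxRecDepth 100000 in
theorem pointedRigidF4 : PointedRigid chevF4 0 := by
  decide +kernel

set_option maxHeartbeats 0 in
set_option maxRecDepth 100000 in
theorem flipCertF4 : FlipCert chevF4 [3, 2, 1, 0] := by
  decide +kernel

set_option maxHeartbeats 0 in
set_option maxRecDepth 100000 in
theorem swapCertF4 : SwapCertA chevF4 [3, 2, 1, 0] 2 1 30 2 := by
  decide +kernel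

set_option maxHeartbeats 0 in
set_option maxRecDepth 100000 in
theorem graphPermCertF4 : GraphPermCert chevF4 [3, 2, 1, 0] piF4 := by
  decide +kernel

end Cfsg.Agent.Lib.Helper18_ChevAutCertsF4
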