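import Cfsg.Agent.Lib.Helper18_ChevAutR
import Cfsg.Agent.Lib.Helper18_ChevAutCertsF4
import Cfsg.Agent.Lib.Helper18_ChevData5

set_option autoImplicit false

/-! The decomposition of the automorphisms of the Chevalley groups of type F4 over the finite fields. -/

namespace Cfsg.Agent.Lib.Helper18_SteinbergF4

open Cfsg Cfsg.Lie Cfsg.Agent.Lib.Helper18_ChevAutA Cfsg.Agent.Lib.Helper18_ChevAutB
  Cfsg.Agent.Lib.Helper18_ChevAutG Cfsg.Agent.Lib.Helper18_ChevAutJ Cfsg.Agent.Lib.Helper18_ChevAutM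
  Cfsg.Agent.Lib.Helper18_ChevAutP Cfsg.Agent.Lib.Helper18_ChevAutQ Cfsg.Agent.Lib.Helper18_ChevAutR
  Cfsg.Agent.Lib.Helper18_ChevACerts Cfsg.Agent.Lib.Helper18_ChevAutCertsF4 Cfsg.Agent.Lib.Helper18_ChevGraphF4

set_option maxHeartbeats 0 in
set_option maxRecDepth 100000 in
theorem divCertF4 : DivCert chevF4 wsF4 1 := by
  decide +kernel

set_option maxHeartbeats 0 in
set_option maxRecDepth 100000 in
theorem symCertF4 : SymCert chevF4 [3, 2, 1, 0] [3, 2, 1, 0] := by
  decide +kernel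

set_option maxHeartbeats 0 in
set_option maxRecDepth 100000 in
theorem graphFormCertF4 : GraphFormCert chevF4 2 [3, 2, 1, 0] piF4 lamF4 epsF4 := by
  decide +kernel

/-- Every automorphism of the group of type F4 over a finite field is the product of an inner, a diagonal, a graph
and a field automorphism. -/
theorem steinberg {F : Type*} [Field F] [Fintype F] (p : ℕ) [Fact p.Prime] [CharP F p]
    (θ : MulAut ↥(chevF4.group F)) :
    ∃ (x : ↥(chevF4.group F)) (d g f : ↥(chevF4.group F) ≃* ↥(chevF4.group F)),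
      chevF4.IsDiagonalAut d ∧ chevF4.IsGraphAut g ∧ chevF4.IsFieldAut f ∧
        ∀ y : ↥(chevF4.group F), θ y = x * d (g (f y)) * x⁻¹ := by
  have c := Cfsg.Agent.Lib.Helper18_ChevDatumF4.dcert
  have tc := Cfsg.Agent.Lib.Helper18_ChevTCertF4.tcert
  have gc := Cfsg.Agent.Lib.Helper18_ChevGCertF4.gcert
  have pc := Cfsg.Agent.Lib.Helper18_ChevPCertF4.pcert
  have ac := Cfsg.Agent.Lib.Helper18_ChevACerts.acertF4
  have hdesc := Cfsg.Agent.Lib.Helper18_ChevJCerts.descent_all Cfsg.Lie.chevF4 (by simp)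
  have hR2 := Cfsg.Agent.Lib.Helper18_ChevComm2.r2_all c pc (F := F)
  have A : AutBase2 Cfsg.Lie.chevF4 _ _ _ _ _ _ Cfsg.Agent.Lib.Helper18_ChevW0Certs.w0F4 F :=
    ⟨Cfsg.Agent.Lib.Helper18_ChevDatumF4.dcert, tc, ac, gc, hdesc, hR2,
      Cfsg.Agent.Lib.Helper18_ChevW0Certs.w0CertF4, w0SimpleF4, headCertF4⟩
  apply steinberg_flip2 p A connCertF4 Cfsg.Agent.Lib.Helper18_ChevOCerts.ocertF4 repCertF4 divCertF4
    orbitCertF4 pointedRigidF4 flipCertF4 (by decide) ?_ θ
  rintro ⟨θ₂, h1, h2⟩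
  by_cases hp : p = 2
  · subst hp
    exact realized_of_graphCert (by simp) _ graphCertF4 symCertF4 graphFormCertF4
  · exfalso
    have hC : ((2 : ℤ) : F) ≠ 0 := by
      apply intCast_ne_zero_of_not_dvd p
      intro hdvd
      have h1 : p ∣ 2 := by exact_mod_cast hdvd
      exact hp ((Nat.prime_dvd_prime_iff_eq (Fact.out : p.Prime) Nat.prime_two).mp h1)
    exact false_of_swapA c tc ac gc hR2 swapCertF4 hC θ₂ h1 h2

end Cfsg.Agent.Lib.Helper18_SteinbergF4
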