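import Cfsg.Agent.Lib.Helper18_ChevGraphU
import Cfsg.Prelude.Def_ChevG2

set_option autoImplicit false
set_option maxHeartbeats 0
set_option maxRecDepth 100000

/-! The certificate of the exceptional graph automorphism of type G2 in characteristic 3 (generated). -/

namespace Cfsg.Agent.Lib.Helper18_ChevGraphG2

open Cfsg Cfsg.Lie Cfsg.Agent.Lib.Helper36_ChevSparse Cfsg.Agent.Lib.Helper36_ChevCoeff
  Cfsg.Agent.Lib.Helper18_ChevGraphT Cfsg.Agent.Lib.Helper18_ChevGraphU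

/-- The columns of the intertwining matrix. -/
def tzColsG2 : List SVec := [[], [(0, 1)], [(4, 1)], [(5, 1)], [], [], [], [(6, 1)], [(9, 1)], [], [], [], [(10, 1)], [(11, 1)]]

/-- The intertwining matrix. -/
def tzG2 : SMat := fun c => tzColsG2.getD c []

def piG2 : List ℕ := [2, 3, 0, 1, 5, 4, 7, 6, 10, 11, 8, 9]
def piInvG2 : List ℕ := [2, 3, 0, 1, 5, 4, 7, 6, 10, 11, 8, 9]
def lamG2 : List ℕ := [1, 1, 3, 3, 3, 1, 1, 3, 3, 3, 1, 1]
def epsG2 : List ℤ := [1, 1, 1, 1, 1, 1, 1, 1, 1, 1, 1, 1]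

theorem graphCertG2 : GraphCert chevG2 3 tzG2 piG2 piInvG2 lamG2 epsG2 0 0 13 := by
  constructor <;> decide +kernel

end Cfsg.Agent.Lib.Helper18_ChevGraphG2
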