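import Cfsg.Agent.Lib.Helper18_ChevAutM
import Cfsg.Agent.Lib.Helper18_ChevAutCerts
import Cfsg.Agent.Lib.Helper18_ChevACerts
import Cfsg.Agent.Lib.Helper18_ChevGraphG2
import Cfsg.Prelude.Def_ChevG2

set_option autoImplicit false

/-! The certificates on the diagram of type G2 used for the automorphisms. -/

namespace Cfsg.Agent.Lib.Helper18_ChevAutCertsG2

open Cfsg Cfsg.Lie Cfsg.Agent.Lib.Helper18_ChevFrob Cfsg.Agent.Lib.Helper18_ChevSimp
  Cfsg.Agent.Lib.Helper18_ChevFast Cfsg.Agent.Lib.Helper18_ChevEngine Cfsg.Agent.Lib.Helper18_ChevN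
  Cfsg.Agent.Lib.Helper18_ChevWeyl Cfsg.Agent.Lib.Helper18_ChevAutA Cfsg.Agent.Lib.Helper18_ChevAutB
  Cfsg.Agent.Lib.Helper18_ChevAutC
  Cfsg.Agent.Lib.Helper18_ChevW0Certs Cfsg.Agent.Lib.Helper18_ChevAutD Cfsg.Agent.Lib.Helper18_ChevAutE
  Cfsg.Agent.Lib.Helper18_ChevOCerts Cfsg.Agent.Lib.Helper18_ChevAutCerts Cfsg.Agent.Lib.Helper18_ChevAutG
  Cfsg.Agent.Lib.Helper18_ChevAutH Cfsg.Agent.Lib.Helper18_ChevAutI Cfsg.Agent.Lib.Helper18_ChevAutJ
  Cfsg.Agent.Lib.Helper18_ChevAutK Cfsg.Agent.Lib.Helper18_ChevAutM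
  Cfsg.Agent.Lib.Helper18_ChevACerts Cfsg.Agent.Lib.Helper18_ChevGL
  Cfsg.Agent.Lib.Helper18_ChevBruhat Cfsg.Agent.Lib.Helper18_ChevGraphG2

set_option maxHeartbeats 0 in
set_option maxRecDepth 100000 in
theorem w0SimpleG2 : W0Simple chevG2 w0G2 := by
  apply w0Simple_of_fast Cfsg.Agent.Lib.Helper18_ChevDatumG2.dcert w0CertG2
  decide +kernel

set_option maxHeartbeats 0 in
set_option maxRecDepth 100000 in
theorem headCertG2 : HeadCert chevG2 := by
  decide +kernel

set_option maxHeartbeats 0 in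
set_option maxRecDepth 100000 in
theorem repCertG2 : RepCert chevG2 compG2 := by
  decide +kernel

set_option maxHeartbeats 0 in
set_option maxRecDepth 100000 in
theorem connCertG2 : ConnCert chevG2 [0, 0] [0, 1] := by
  decide +kernel

set_option maxHeartbeats 0 in
set_option maxRecDepth 100000 in
theorem invCartanLG2 : InvCartanL chevG2 [[2, 3], [1, 2]] := by
  decide +kernel

set_option maxHeartbeats 0 in
set_option maxRecDepth 100000 in
theorem orbitCertG2 : OrbitCert chevG2 0 1 := by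
  decide +kernel

set_option maxHeartbeats 0 in
set_option maxRecDepth 100000 in
theorem pointedRigidG2 : PointedRigid chevG2 0 := by
  decide +kernel

set_option maxHeartbeats 0 in
set_option maxRecDepth 100000 in
theorem flipCertG2 : FlipCert chevG2 [1, 0] := by
  decide +kernel

set_option maxHeartbeats 0 in
set_option maxRecDepth 100000 in
theorem swapCertG2 : SwapCertB chevG2 [1, 0] 1 0 1 (-2) (-3) 3 10 11 := by
  decide +kernel

set_option maxHeartbeats 0 in
set_option maxRecDepth 100000 in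
theorem graphPermCertG2 : GraphPermCert chevG2 [1, 0] piG2 := by
  decide +kernel

end Cfsg.Agent.Lib.Helper18_ChevAutCertsG2
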