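import Cfsg.Agent.Lib.Helper18_ChevAutR
import Cfsg.Agent.Lib.Helper18_ChevAutCertsG2
import Cfsg.Agent.Lib.Helper18_ChevData5

set_option autoImplicit false

/-! The decomposition of the automorphisms of the Chevalley groups of type G2 over the finite fields. -/

namespace Cfsg.Agent.Lib.Helper18_SteinbergG2

open Cfsg Cfsg.Lie Cfsg.Agent.Lib.Helper18_ChevAutA Cfsg.Agent.Lib.Helper18_ChevAutB
  Cfsg.Agent.Lib.Helper18_ChevAutG Cfsg.Agent.Lib.Helper18_ChevAutJ Cfsg.Agent.Lib.Helper18_ChevAutM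
  Cfsg.Agent.Lib.Helper18_ChevAutP Cfsg.Agent.Lib.Helper18_ChevAutQ Cfsg.Agent.Lib.Helper18_ChevAutR
  Cfsg.Agent.Lib.Helper18_ChevACerts Cfsg.Agent.Lib.Helper18_ChevAutCertsG2 Cfsg.Agent.Lib.Helper18_ChevGraphG2

set_option maxHeartbeats 0 in
set_option maxRecDepth 100000 in
theorem divCertG2 : DivCert chevG2 wsG2 1 := by
  decide +kernel

set_option maxHeartbeats 0 in
set_option maxRecDepth 100000 in
theorem symCertG2 : SymCert chevG2 [1, 0] [1, 0] := by
  decide +kernel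

set_option maxHeartbeats 0 in
set_option maxRecDepth 100000 in
theorem graphFormCertG2 : GraphFormCert chevG2 3 [1, 0] piG2 lamG2 epsG2 := by
  decide +kernel

/-- Every automorphism of the group of type G2 over a finite field is the product of an inner, a diagonal, a graph
and a field automorphism. -/
theorem steinberg {F : Type*} [Field F] [Fintype F] (p : ℕ) [Fact p.Prime] [CharP F p]
    (θ : MulAut ↥(chevG2.group F)) :
    ∃ (x : ↥(chevG2.group F)) (d g f : ↥(chevG2.group F) ≃* ↥(chevG2.group F)),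
      chevG2.IsDiagonalAut d ∧ chevG2.IsGraphAut g ∧ chevG2.IsFieldAut f ∧
        ∀ y : ↥(chevG2.group F), θ y = x * d (g (f y)) * x⁻¹ := by
  have c := Cfsg.Agent.Lib.Helper18_ChevDatumG2.dcert
  have tc := Cfsg.Agent.Lib.Helper18_ChevTCertG2.tcert
  have gc := Cfsg.Agent.Lib.Helper18_ChevGCertG2.gcert
  have pc := Cfsg.Agent.Lib.Helper18_ChevPCertG2.pcert
  have ac := Cfsg.Agent.Lib.Helper18_ChevACerts.acertG2
  have hdesc := Cfsg.Agent.Lib.Helper18_ChevJCerts.descent_all Cfsg.Lie.chevG2 (by simp)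
  have hR2 := Cfsg.Agent.Lib.Helper18_ChevComm2.r2_all c pc (F := F)
  have A : AutBase2 Cfsg.Lie.chevG2 _ _ _ _ _ _ Cfsg.Agent.Lib.Helper18_ChevW0Certs.w0G2 F :=
    ⟨Cfsg.Agent.Lib.Helper18_ChevDatumG2.dcert, tc, ac, gc, hdesc, hR2,
      Cfsg.Agent.Lib.Helper18_ChevW0Certs.w0CertG2, w0SimpleG2, headCertG2⟩
  apply steinberg_flip2 p A connCertG2 Cfsg.Agent.Lib.Helper18_ChevOCerts.ocertG2 repCertG2 divCertG2
    orbitCertG2 pointedRigidG2 flipCertG2 (by decide) ?_ θ
  rintro ⟨θ₂, h1, h2⟩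
  by_cases hp : p = 3
  · subst hp
    exact realized_of_graphCert (by simp) _ graphCertG2 symCertG2 graphFormCertG2
  · exfalso
    have hC : ((-3 : ℤ) : F) ≠ 0 := by
      apply intCast_ne_zero_of_not_dvd p
      intro hdvd
      have h0 : (p : ℤ) ∣ ((3 : ℕ) : ℤ) := by
        have := (dvd_neg (a := (p : ℤ)) (b := (-3 : ℤ))).mpr hdvd
        simpa using this
      have h1 : p ∣ 3 := by exact_mod_cast h0
      exact hp ((Nat.prime_dvd_prime_iff_eq (Fact.out : p.Prime) Nat.prime_three).mp h1)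
    exact false_of_swapB c tc ac gc hR2 swapCertG2 hC θ₂ h1 h2

end Cfsg.Agent.Lib.Helper18_SteinbergG2
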