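import Cfsg.Agent.Lib.Helper18_ChevAutT
import Cfsg.Agent.Lib.Helper18_ChevCCerts
import Cfsg.Agent.Lib.Helper18_SteinbergG2
import Cfsg.Agent.Lib.Helper18_SteinbergB2
import Cfsg.Agent.Lib.Helper18_SteinbergF4
import Cfsg.Agent.Lib.Helper18_SteinbergE6
import Cfsg.Agent.Lib.Helper18_SteinbergE8

set_option autoImplicit false

/-! The structure of the groups of outer automorphisms of the Chevalley groups of types G2, B2, F4, E6, E7, E8 over
the finite fields: the index of the product of the images of the diagonal and field automorphisms is at most two. -/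

namespace Cfsg.Agent.Lib.Helper18_OutStructAll

open Cfsg Cfsg.Lie Cfsg.Agent.Lib.Helper18_ChevAutA Cfsg.Agent.Lib.Helper18_ChevAutB
  Cfsg.Agent.Lib.Helper18_ChevAutF Cfsg.Agent.Lib.Helper18_ChevAutI Cfsg.Agent.Lib.Helper18_ChevAutK
  Cfsg.Agent.Lib.Helper18_ChevAutG Cfsg.Agent.Lib.Helper18_ChevAutJ Cfsg.Agent.Lib.Helper18_ChevAutM
  Cfsg.Agent.Lib.Helper18_ChevAutP Cfsg.Agent.Lib.Helper18_ChevAutQ Cfsg.Agent.Lib.Helper18_ChevAutS
  Cfsg.Agent.Lib.Helper18_ChevAutT Cfsg.Agent.Lib.Helper18_ChevACerts Cfsg.Agent.Lib.Helper18_ChevAutCerts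
  Cfsg.Agent.Lib.Helper18_ChevCCerts

variable {F : Type*} [Field F] [Finite F]

theorem steinberg_finite (D : ChevalleyDatum)
    (h : ∀ [Fintype F] (p : ℕ) [Fact p.Prime] [CharP F p] (θ : MulAut ↥(D.group F)),
      ∃ (x : ↥(D.group F)) (d g f : ↥(D.group F) ≃* ↥(D.group F)),
      D.IsDiagonalAut d ∧ D.IsGraphAut g ∧ D.IsFieldAut f ∧ ∀ y : ↥(D.group F), θ y = x * d (g (f y)) * x⁻¹)
    (θ : MulAut ↥(D.group F)) :
    ∃ (x : ↥(D.group F)) (d g f : ↥(D.group F) ≃* ↥(D.group F)),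
      D.IsDiagonalAut d ∧ D.IsGraphAut g ∧ D.IsFieldAut f ∧ ∀ y : ↥(D.group F), θ y = x * d (g (f y)) * x⁻¹ := by
  classical
  have : Fintype F := Fintype.ofFinite F
  have hchar : CharP F (ringChar F) := ringChar.charP F
  have hprime : Fact (ringChar F).Prime := ⟨CharP.char_is_prime F (ringChar F)⟩
  exact h (ringChar F) θ

theorem outStructureG2 : OutStructure chevG2 F 2 := by
  have c := Cfsg.Agent.Lib.Helper18_ChevDatumG2.dcert
  have pc := Cfsg.Agent.Lib.Helper18_ChevPCertG2.pcert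
  have A : AutBase2 chevG2 _ _ _ _ _ _ Cfsg.Agent.Lib.Helper18_ChevW0Certs.w0G2 F :=
    ⟨Cfsg.Agent.Lib.Helper18_ChevDatumG2.dcert, Cfsg.Agent.Lib.Helper18_ChevTCertG2.tcert, acertG2,
      Cfsg.Agent.Lib.Helper18_ChevGCertG2.gcert, Cfsg.Agent.Lib.Helper18_ChevJCerts.descent_all chevG2 (by simp),
      Cfsg.Agent.Lib.Helper18_ChevComm2.r2_all c pc (F := F), Cfsg.Agent.Lib.Helper18_ChevW0Certs.w0CertG2,
      Cfsg.Agent.Lib.Helper18_ChevAutCertsG2.w0SimpleG2, Cfsg.Agent.Lib.Helper18_ChevAutCertsG2.headCertG2⟩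
  exact outStructure_base2 A Cfsg.Agent.Lib.Helper18_ChevOCerts.ocertG2
    Cfsg.Agent.Lib.Helper18_ChevAutCertsG2.repCertG2 Cfsg.Agent.Lib.Helper18_SteinbergG2.divCertG2
    (chainCons_all chevG2 (by simp))
    (steinberg_finite chevG2 (fun p _ _ θ => Cfsg.Agent.Lib.Helper18_SteinbergG2.steinberg p θ)) [[0, 1], [1, 0]]
    (class_flip Cfsg.Agent.Lib.Helper18_ChevAutCertsG2.orbitCertG2
      Cfsg.Agent.Lib.Helper18_ChevAutCertsG2.pointedRigidG2 Cfsg.Agent.Lib.Helper18_ChevAutCertsG2.flipCertG2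
      (by decide) (by decide))

theorem outStructureB2 : OutStructure chevB2 F 2 := by
  have c := Cfsg.Agent.Lib.Helper18_ChevDatumB2.dcert
  have pc := Cfsg.Agent.Lib.Helper18_ChevPCertB2.pcert
  have A : AutBase2 chevB2 _ _ _ _ _ _ Cfsg.Agent.Lib.Helper18_ChevW0Certs.w0B2 F :=
    ⟨Cfsg.Agent.Lib.Helper18_ChevDatumB2.dcert, Cfsg.Agent.Lib.Helper18_ChevTCertB2.tcert, acertB2,
      Cfsg.Agent.Lib.Helper18_ChevGCertB2.gcert, Cfsg.Agent.Lib.Helper18_ChevJCerts.descent_all chevB2 (by simp),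
      Cfsg.Agent.Lib.Helper18_ChevComm2.r2_all c pc (F := F), Cfsg.Agent.Lib.Helper18_ChevW0Certs.w0CertB2,
      Cfsg.Agent.Lib.Helper18_SteinbergB2.w0SimpleB2, Cfsg.Agent.Lib.Helper18_SteinbergB2.headCertB2⟩
  exact outStructure_base2 A Cfsg.Agent.Lib.Helper18_ChevOCerts.ocertB2
    Cfsg.Agent.Lib.Helper18_SteinbergB2.repCertB2 Cfsg.Agent.Lib.Helper18_SteinbergB2.divCertB2
    (chainCons_all chevB2 (by simp))
    (steinberg_finite chevB2 (fun p _ _ θ => Cfsg.Agent.Lib.Helper18_SteinbergB2.steinberg p θ)) [[0, 1], [1, 0]]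
    (class_flip Cfsg.Agent.Lib.Helper18_SteinbergB2.orbitCertB2
      Cfsg.Agent.Lib.Helper18_SteinbergB2.pointedRigidB2 Cfsg.Agent.Lib.Helper18_SteinbergB2.flipCertB2
      (by decide) (by decide))

theorem outStructureF4 : OutStructure chevF4 F 2 := by
  have c := Cfsg.Agent.Lib.Helper18_ChevDatumF4.dcert
  have pc := Cfsg.Agent.Lib.Helper18_ChevPCertF4.pcert
  have A : AutBase2 chevF4 _ _ _ _ _ _ Cfsg.Agent.Lib.Helper18_ChevW0Certs.w0F4 F :=
    ⟨Cfsg.Agent.Lib.Helper18_ChevDatumF4.dcert, Cfsg.Agent.Lib.Helper18_ChevTCertF4.tcert, acertF4,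
      Cfsg.Agent.Lib.Helper18_ChevGCertF4.gcert, Cfsg.Agent.Lib.Helper18_ChevJCerts.descent_all chevF4 (by simp),
      Cfsg.Agent.Lib.Helper18_ChevComm2.r2_all c pc (F := F), Cfsg.Agent.Lib.Helper18_ChevW0Certs.w0CertF4,
      Cfsg.Agent.Lib.Helper18_ChevAutCertsF4.w0SimpleF4, Cfsg.Agent.Lib.Helper18_ChevAutCertsF4.headCertF4⟩
  exact outStructure_base2 A Cfsg.Agent.Lib.Helper18_ChevOCerts.ocertF4
    Cfsg.Agent.Lib.Helper18_ChevAutCertsF4.repCertF4 Cfsg.Agent.Lib.Helper18_SteinbergF4.divCertF4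
    (chainCons_all chevF4 (by simp))
    (steinberg_finite chevF4 (fun p _ _ θ => Cfsg.Agent.Lib.Helper18_SteinbergF4.steinberg p θ))
    [[0, 1, 2, 3], [3, 2, 1, 0]]
    (class_flip Cfsg.Agent.Lib.Helper18_ChevAutCertsF4.orbitCertF4
      Cfsg.Agent.Lib.Helper18_ChevAutCertsF4.pointedRigidF4 Cfsg.Agent.Lib.Helper18_ChevAutCertsF4.flipCertF4
      (by decide) (by decide))

theorem outStructureE6 : OutStructure chevE6 F 2 := by
  have c := Cfsg.Agent.Lib.Helper18_ChevDatumE6.dcert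
  have pc := Cfsg.Agent.Lib.Helper18_ChevPCertE6.pcert
  have A : AutBase chevE6 _ _ _ _ _ _ Cfsg.Agent.Lib.Helper18_ChevW0Certs.w0E6 F :=
    ⟨Cfsg.Agent.Lib.Helper18_ChevDatumE6.dcert, Cfsg.Agent.Lib.Helper18_ChevTCertE6.tcert, acertE6,
      Cfsg.Agent.Lib.Helper18_ChevGCertE6.gcert, Cfsg.Agent.Lib.Helper18_ChevJCerts.descent_all chevE6 (by simp),
      Cfsg.Agent.Lib.Helper18_ChevComm2.r2_all c pc (F := F), Cfsg.Agent.Lib.Helper18_ChevW0Certs.w0CertE6,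
      Cfsg.Agent.Lib.Helper18_ChevAutCertsE6.w0SimpleE6, Cfsg.Agent.Lib.Helper18_ChevAutCertsE6.slCertE6⟩
  exact outStructure_base A Cfsg.Agent.Lib.Helper18_ChevAutCertsE6.connCertE6
    Cfsg.Agent.Lib.Helper18_ChevOCerts.ocertE6 Cfsg.Agent.Lib.Helper18_ChevAutCertsE6.compE6_zero
    Cfsg.Agent.Lib.Helper18_ChevAutCertsE6.divCertE6 (chainCons_all chevE6 (by simp))
    (steinberg_finite chevE6 (fun p _ _ θ => Cfsg.Agent.Lib.Helper18_SteinbergE6.steinberg p θ))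
    [[0, 1, 2, 3, 4, 5], [5, 1, 4, 3, 2, 0]]
    (class_flip Cfsg.Agent.Lib.Helper18_ChevAutCertsE6.orbitCertE6
      Cfsg.Agent.Lib.Helper18_ChevAutCertsE6.pointedRigidE6 Cfsg.Agent.Lib.Helper18_SteinbergE6.flipCertE6
      (by decide) (by decide))

theorem outStructureE7 : OutStructure chevE7 F 1 := by
  have c := Cfsg.Agent.Lib.Helper18_ChevDatumE7.dcert
  have pc := Cfsg.Agent.Lib.Helper18_ChevPCertE7.pcert
  have A : AutBase chevE7 _ _ _ _ _ _ Cfsg.Agent.Lib.Helper18_ChevW0Certs.w0E7 F :=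
    ⟨Cfsg.Agent.Lib.Helper18_ChevDatumE7.dcert, Cfsg.Agent.Lib.Helper18_ChevTCertE7.tcert, acertE7,
      Cfsg.Agent.Lib.Helper18_ChevGCertE7.gcert, Cfsg.Agent.Lib.Helper18_ChevJCerts.descent_all chevE7 (by simp),
      Cfsg.Agent.Lib.Helper18_ChevComm2.r2_all c pc (F := F), Cfsg.Agent.Lib.Helper18_ChevW0Certs.w0CertE7,
      w0SimpleE7, slCertE7⟩
  exact outStructure_base A connCertE7 Cfsg.Agent.Lib.Helper18_ChevOCerts.ocertE7 compE7_zero
    Cfsg.Agent.Lib.Helper18_ChevAutCertsE7.divCertE7 (chainCons_all chevE7 (by simp))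
    (steinberg_finite chevE7 (fun p _ _ θ => Cfsg.Agent.Lib.Helper18_SteinbergE8.steinbergE7 p θ))
    [[0, 1, 2, 3, 4, 5, 6]] (class_rigid rigidE7 (by decide))

theorem outStructureE8 : OutStructure chevE8 F 1 := by
  have c := Cfsg.Agent.Lib.Helper18_ChevDatumE8.dcert
  have pc := Cfsg.Agent.Lib.Helper18_ChevPCertE8.pcert
  have A : AutBase chevE8 _ _ _ _ _ _ Cfsg.Agent.Lib.Helper18_ChevW0Certs.w0E8 F :=
    ⟨Cfsg.Agent.Lib.Helper18_ChevDatumE8.dcert, Cfsg.Agent.Lib.Helper18_ChevTCertE8.tcert, acertE8,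
      Cfsg.Agent.Lib.Helper18_ChevGCertE8.gcert, Cfsg.Agent.Lib.Helper18_ChevJCerts.descent_all chevE8 (by simp),
      Cfsg.Agent.Lib.Helper18_ChevComm2.r2_all c pc (F := F), Cfsg.Agent.Lib.Helper18_ChevW0Certs.w0CertE8,
      w0SimpleE8, slCertE8⟩
  exact outStructure_base A connCertE8 Cfsg.Agent.Lib.Helper18_ChevOCerts.ocertE8 compE8_zero
    Cfsg.Agent.Lib.Helper18_SteinbergE8.divCertE8 (chainCons_all chevE8 (by simp))
    (steinberg_finite chevE8 (fun p _ _ θ => Cfsg.Agent.Lib.Helper18_SteinbergE8.steinbergE8 p θ))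
    [[0, 1, 2, 3, 4, 5, 6, 7]] (class_rigid rigidE8 (by decide))

end Cfsg.Agent.Lib.Helper18_OutStructAll
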