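import Cfsg.Agent.Lib.Helper36_ChevAut
import Cfsg.Agent.Lib.Helper36_ChevDataD4

set_option autoImplicit false
set_option Elab.async false

/-! Type D4: the graph automorphism for the permutation [3, 1, 0, 2] of the nodes, as conjugation by a signed permutation matrix (table checks). Generated file. -/

namespace Cfsg.Agent.Lib.Helper36_ChevDataD4AutB

open Cfsg Cfsg.Lie Cfsg.Agent.Lib.Helper36_ChevSparse Cfsg.Agent.Lib.Helper36_ChevCoeff
  Cfsg.Agent.Lib.Helper36_ChevCoo Cfsg.Agent.Lib.Helper36_ChevAdd Cfsg.Agent.Lib.Helper36_ChevIdx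
  Cfsg.Agent.Lib.Helper36_ChevWeyl Cfsg.Agent.Lib.Helper36_ChevGen Cfsg.Agent.Lib.Helper36_ChevAut
  Cfsg.Agent.Lib.Helper36_ChevDataD4

/-- The permutation of the nodes. -/
def sigma : List ℕ := [3, 1, 0, 2]

/-- The signed permutation matrix, the permutation of the roots and the signs. -/
def autData : AutData where
  Pc := [[(3, 1)], [(1, 1)], [(0, 1)], [(2, 1)], [(4, 1)], [(5, 1)], [(7, 1)], [(10, -1)], [(12, -1)], [(15, 1)], [(6, -1)], [(8, -1)], [(11, 1)], [(13, 1)], [(9, 1)], [(14, 1)], [(17, 1)], [(22, 1)], [(18, 1)], [(20, 1)], [(23, -1)], [(25, -1)], [(16, 1)], [(19, -1)], [(21, -1)], [(24, 1)], [(26, 1)], [(27, 1)]]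
  Pr := [[(2, 1)], [(1, 1)], [(3, 1)], [(0, 1)], [(4, 1)], [(5, 1)], [(10, -1)], [(6, 1)], [(11, -1)], [(14, 1)], [(7, -1)], [(12, 1)], [(8, -1)], [(13, 1)], [(15, 1)], [(9, 1)], [(22, 1)], [(16, 1)], [(18, 1)], [(23, -1)], [(19, 1)], [(24, -1)], [(17, 1)], [(20, -1)], [(25, 1)], [(21, -1)], [(26, 1)], [(27, 1)]]
  Qc := [[(2, 1)], [(1, 1)], [(3, 1)], [(0, 1)], [(4, 1)], [(5, 1)], [(10, -1)], [(6, 1)], [(11, -1)], [(14, 1)], [(7, -1)], [(12, 1)], [(8, -1)], [(13, 1)], [(15, 1)], [(9, 1)], [(22, 1)], [(16, 1)], [(18, 1)], [(23, -1)], [(19, 1)], [(24, -1)], [(17, 1)], [(20, -1)], [(25, 1)], [(21, -1)], [(26, 1)], [(27, 1)]]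
  pi := [0, 1, 3, 6, 8, 11, 2, 4, 7, 9, 5, 10, 13, 18, 14, 16, 19, 21, 12, 15, 17, 20, 22, 23]
  piInv := [0, 1, 6, 2, 7, 10, 3, 8, 4, 9, 11, 5, 18, 12, 14, 19, 15, 20, 13, 16, 21, 17, 22, 23]
  eps := [1, 1, 1, -1, -1, 1, -1, -1, 1, 1, 1, 1, 1, 1, 1, 1, -1, -1, 1, -1, -1, 1, 1, 1]

theorem matOK : autMatCheck chevD4 12 autData = true := by decide +kernel

theorem aut_0_24 : AutRange chevD4 12 autData 0 24 := by decide +kernel

theorem rangeOK : AutRange chevD4 12 autData 0 chevD4.nroots := aut_0_24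

theorem fundOK : ∀ i < chevD4.rank,
    autData.pi.getD (chevD4.simple i) 0 = chevD4.simple (sigma.getD i 0) ∧
    autData.eps.getD (chevD4.simple i) 0 = 1 ∧
    autData.pi.getD (chevD4.neg (chevD4.simple i)) 0 = chevD4.neg (chevD4.simple (sigma.getD i 0)) ∧
    autData.eps.getD (chevD4.neg (chevD4.simple i)) 0 = 1 := by decide +kernel

/-- Type D4: the graph automorphism attached to the permutation `sigma` of the nodes. -/
theorem exists_aut (F : Type*) [Field F] :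
    ∃ α : ↥(chevD4.group F) ≃* ↥(chevD4.group F), ∀ (g : ↥(chevD4.group F)) (i : ℕ) (t : F), i < chevD4.rank →
      (((g : GL chevD4.Idx F) : Matrix chevD4.Idx chevD4.Idx F) = chevD4.x F (chevD4.simple i) t →
        ((α g : GL chevD4.Idx F) : Matrix chevD4.Idx chevD4.Idx F) = chevD4.x F (chevD4.simple (sigma.getD i 0)) t) ∧
      (((g : GL chevD4.Idx F) : Matrix chevD4.Idx chevD4.Idx F) = chevD4.x F (chevD4.neg (chevD4.simple i)) t →
        ((α g : GL chevD4.Idx F) : Matrix chevD4.Idx chevD4.Idx F) =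
          chevD4.x F (chevD4.neg (chevD4.simple (sigma.getD i 0))) t) := by
  refine ⟨conjAut chevD4 lenOK addOK F 12 autData matOK rangeOK, fun g i t hi => ?_⟩
  obtain ⟨h1, h2, h3, h4⟩ := fundOK i hi
  constructor
  · intro hg
    rw [conjAut_x chevD4 lenOK addOK F 12 autData matOK rangeOK g _ (simpleOK i hi).1 t hg, h1, h2]
    simp
  · intro hg
    rw [conjAut_x chevD4 lenOK addOK F 12 autData matOK rangeOK g _ (simpleOK i hi).2 t hg, h3, h4]
    simp

end Cfsg.Agent.Lib.Helper36_ChevDataD4AutB
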