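import Cfsg.Agent.Lib.Helper18_ChevAutQ
import Cfsg.Agent.Lib.Helper18_ChevAutCerts
import Cfsg.Agent.Lib.Helper18_ChevACerts
import Cfsg.Agent.Lib.Helper18_ChevData5
import Cfsg.Agent.Lib.Helper36_ChevDataD4AutA
import Cfsg.Agent.Lib.Helper36_ChevDataD4AutB
import Cfsg.Agent.Lib.Helper18_ChevDataD4AutC
import Cfsg.Agent.Lib.Helper18_ChevDataD4AutD
import Cfsg.Agent.Lib.Helper18_ChevDataD4AutE

set_option autoImplicit false

/-! The decomposition of the automorphisms of the Chevalley groups of type D4 over the finite fields, with the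
certificates on the diagram of type D4 used for the automorphisms. -/

namespace Cfsg.Agent.Lib.Helper18_SteinbergD4

open Cfsg Cfsg.Lie Cfsg.Agent.Lib.Helper18_ChevAutA Cfsg.Agent.Lib.Helper18_ChevAutB
  Cfsg.Agent.Lib.Helper18_ChevAutC Cfsg.Agent.Lib.Helper18_ChevAutD Cfsg.Agent.Lib.Helper18_ChevAutE
  Cfsg.Agent.Lib.Helper18_ChevAutF Cfsg.Agent.Lib.Helper18_ChevAutI Cfsg.Agent.Lib.Helper18_ChevAutK
  Cfsg.Agent.Lib.Helper18_ChevAutG Cfsg.Agent.Lib.Helper18_ChevAutJ Cfsg.Agent.Lib.Helper18_ChevAutM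
  Cfsg.Agent.Lib.Helper18_ChevAutP Cfsg.Agent.Lib.Helper18_ChevAutQ
  Cfsg.Agent.Lib.Helper18_ChevACerts Cfsg.Agent.Lib.Helper18_ChevAutCerts
  Cfsg.Agent.Lib.Helper18_ChevW0Certs Cfsg.Agent.Lib.Helper18_ChevOCerts

set_option maxHeartbeats 0 in
set_option maxRecDepth 100000 in
theorem w0SimpleD4 : W0Simple chevD4 w0D4 := by
  apply w0Simple_of_fast Cfsg.Agent.Lib.Helper18_ChevDatumD4.dcert w0CertD4
  decide +kernel

set_option maxHeartbeats 0 in
set_option maxRecDepth 100000 in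
theorem slCertD4 : SLCert chevD4 := by
  decide +kernel

set_option maxHeartbeats 0 in
set_option maxRecDepth 100000 in
theorem connCertD4 : ConnCert chevD4 [0, 0, 1, 1] [0, 1, 2, 2] := by
  decide +kernel

set_option maxHeartbeats 0 in
set_option maxRecDepth 100000 in
theorem compD4_zero : ∀ r < chevD4.nroots, compD4.getD r 2 = 0 := by
  decide +kernel

set_option maxHeartbeats 0 in
set_option maxRecDepth 100000 in
theorem divCertD4 : DivCert chevD4 wsD4 2 := by
  decide +kernel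

set_option maxHeartbeats 0 in
set_option maxRecDepth 100000 in
theorem shortD4 : ∀ i < chevD4.rank, chevD4.isLong (chevD4.simple i) = false := by
  decide +kernel

set_option maxHeartbeats 0 in
set_option maxRecDepth 100000 in
theorem symListCertD4 : SymListCert chevD4
    [[0, 1, 2, 3], [2, 1, 3, 0], [3, 1, 0, 2], [2, 1, 0, 3], [3, 1, 2, 0], [0, 1, 3, 2]] := by
  decide +kernel

set_option maxHeartbeats 0 in
set_option maxRecDepth 100000 in
theorem symCertD4A : SymCert chevD4 [2, 1, 3, 0] [3, 1, 0, 2] := by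
  decide +kernel

set_option maxHeartbeats 0 in
set_option maxRecDepth 100000 in
theorem symCertD4B : SymCert chevD4 [3, 1, 0, 2] [2, 1, 3, 0] := by
  decide +kernel

set_option maxHeartbeats 0 in
set_option maxRecDepth 100000 in
theorem symCertD4C : SymCert chevD4 [2, 1, 0, 3] [2, 1, 0, 3] := by
  decide +kernel

set_option maxHeartbeats 0 in
set_option maxRecDepth 100000 in
theorem symCertD4D : SymCert chevD4 [3, 1, 2, 0] [3, 1, 2, 0] := by
  decide +kernel

set_option maxHeartbeats 0 in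
set_option maxRecDepth 100000 in
theorem symCertD4E : SymCert chevD4 [0, 1, 3, 2] [0, 1, 3, 2] := by
  decide +kernel

/-- Every automorphism of the group of type D4 over a finite field is the product of an inner, a diagonal, a graph
and a field automorphism. -/
theorem steinberg {F : Type*} [Field F] [Fintype F] (p : ℕ) [Fact p.Prime] [CharP F p]
    (θ : MulAut ↥(chevD4.group F)) :
    ∃ (x : ↥(chevD4.group F)) (d g f : ↥(chevD4.group F) ≃* ↥(chevD4.group F)),
      chevD4.IsDiagonalAut d ∧ chevD4.IsGraphAut g ∧ chevD4.IsFieldAut f ∧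
        ∀ y : ↥(chevD4.group F), θ y = x * d (g (f y)) * x⁻¹ := by
  have c := Cfsg.Agent.Lib.Helper18_ChevDatumD4.dcert
  have tc := Cfsg.Agent.Lib.Helper18_ChevTCertD4.tcert
  have gc := Cfsg.Agent.Lib.Helper18_ChevGCertD4.gcert
  have pc := Cfsg.Agent.Lib.Helper18_ChevPCertD4.pcert
  have ac := Cfsg.Agent.Lib.Helper18_ChevACerts.acertD4
  have hdesc := Cfsg.Agent.Lib.Helper18_ChevJCerts.descent_all Cfsg.Lie.chevD4 (by simp)
  have hR2 := Cfsg.Agent.Lib.Helper18_ChevComm2.r2_all c pc (F := F)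
  have A : AutBase Cfsg.Lie.chevD4 _ _ _ _ _ _ Cfsg.Agent.Lib.Helper18_ChevW0Certs.w0D4 F :=
    ⟨Cfsg.Agent.Lib.Helper18_ChevDatumD4.dcert, tc, ac, gc, hdesc, hR2,
      Cfsg.Agent.Lib.Helper18_ChevW0Certs.w0CertD4, w0SimpleD4, slCertD4⟩
  apply steinberg_base p A connCertD4 Cfsg.Agent.Lib.Helper18_ChevOCerts.ocertD4 compD4_zero divCertD4 ?_ θ
  intro θ₂ ρ hρ _ _ hinj hadj
  obtain ⟨τ, hτ, hρτ⟩ := mem_of_symListCert symListCertD4 ρ hρ hinj hadj
  simp only [List.mem_cons, List.not_mem_nil, or_false] at hτ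
  rcases hτ with rfl | rfl | rfl | rfl | rfl | rfl
  · apply realized_id _ p ρ
    intro i hi
    rw [hρτ i hi]
    have : ∀ i < chevD4.rank, [0, 1, 2, 3].getD i 0 = i := by decide
    exact this i hi
  · exact realized_of_exists _ p symCertD4A shortD4 ρ hρτ (Cfsg.Agent.Lib.Helper36_ChevDataD4AutA.exists_aut F)
  · exact realized_of_exists _ p symCertD4B shortD4 ρ hρτ (Cfsg.Agent.Lib.Helper36_ChevDataD4AutB.exists_aut F)
  · exact realized_of_exists _ p symCertD4C shortD4 ρ hρτ (Cfsg.Agent.Lib.Helper18_ChevDataD4AutC.exists_aut F)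
  · exact realized_of_exists _ p symCertD4D shortD4 ρ hρτ (Cfsg.Agent.Lib.Helper18_ChevDataD4AutD.exists_aut F)
  · exact realized_of_exists _ p symCertD4E shortD4 ρ hρτ (Cfsg.Agent.Lib.Helper18_ChevDataD4AutE.exists_aut F)

end Cfsg.Agent.Lib.Helper18_SteinbergD4
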