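import Cfsg.Agent.Lib.Helper18_ChevAutT
import Cfsg.Agent.Lib.Helper18_ChevAutU
import Cfsg.Agent.Lib.Helper18_ChevCCerts
import Cfsg.Agent.Lib.Helper18_SteinbergD4
import Cfsg.Agent.Lib.Helper18_OutStructAll

set_option autoImplicit false

/-! The structure of the groups of outer automorphisms of the Chevalley groups of type D4 over the finite fields:
the index of the product of the images of the diagonal and field automorphisms is at most six, and the quotient is
not commutative. -/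

namespace Cfsg.Agent.Lib.Helper18_OutStructD4

open Cfsg Cfsg.Lie Cfsg.Agent.Lib.Helper18_ChevAutA Cfsg.Agent.Lib.Helper18_ChevAutB
  Cfsg.Agent.Lib.Helper18_ChevAutC Cfsg.Agent.Lib.Helper18_ChevGL
  Cfsg.Agent.Lib.Helper18_ChevAutF Cfsg.Agent.Lib.Helper18_ChevAutI Cfsg.Agent.Lib.Helper18_ChevAutK
  Cfsg.Agent.Lib.Helper18_ChevAutG Cfsg.Agent.Lib.Helper18_ChevAutJ Cfsg.Agent.Lib.Helper18_ChevAutM
  Cfsg.Agent.Lib.Helper18_ChevAutP Cfsg.Agent.Lib.Helper18_ChevAutQ Cfsg.Agent.Lib.Helper18_ChevAutS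
  Cfsg.Agent.Lib.Helper18_ChevAutT Cfsg.Agent.Lib.Helper18_ChevAutU Cfsg.Agent.Lib.Helper18_ChevACerts
  Cfsg.Agent.Lib.Helper18_ChevAutCerts Cfsg.Agent.Lib.Helper18_ChevCCerts Cfsg.Agent.Lib.Helper18_SteinbergD4
  Cfsg.Agent.Lib.Helper18_OutStructAll

set_option maxHeartbeats 0 in
set_option maxRecDepth 100000 in
theorem posCertD4A : PosCert chevD4 Cfsg.Agent.Lib.Helper36_ChevDataD4AutA.autData := by
  decide +kernel

set_option maxHeartbeats 0 in
set_option maxRecDepth 100000 in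
theorem posCertD4C : PosCert chevD4 Cfsg.Agent.Lib.Helper18_ChevDataD4AutC.autData := by
  decide +kernel

variable {F : Type*} [Field F]

open scoped commutatorElement

theorem outStructureD4 [Finite F] : OutStructure chevD4 F 6 := by
  have A : AutBase chevD4 _ _ _ _ _ _ Cfsg.Agent.Lib.Helper18_ChevW0Certs.w0D4 F :=
    ⟨Cfsg.Agent.Lib.Helper18_ChevDatumD4.dcert, Cfsg.Agent.Lib.Helper18_ChevTCertD4.tcert, acertD4,
      Cfsg.Agent.Lib.Helper18_ChevGCertD4.gcert, Cfsg.Agent.Lib.Helper18_ChevJCerts.descent_all chevD4 (by simp),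
      Cfsg.Agent.Lib.Helper18_ChevComm2.r2_all Cfsg.Agent.Lib.Helper18_ChevDatumD4.dcert
        Cfsg.Agent.Lib.Helper18_ChevPCertD4.pcert (F := F), Cfsg.Agent.Lib.Helper18_ChevW0Certs.w0CertD4,
      w0SimpleD4, slCertD4⟩
  exact outStructure_base A connCertD4 Cfsg.Agent.Lib.Helper18_ChevOCerts.ocertD4 compD4_zero divCertD4
    (chainCons_all chevD4 (by simp))
    (steinberg_finite chevD4 (fun p _ _ θ => Cfsg.Agent.Lib.Helper18_SteinbergD4.steinberg p θ))
    [[0, 1, 2, 3], [2, 1, 3, 0], [3, 1, 0, 2], [2, 1, 0, 3], [3, 1, 2, 0], [0, 1, 3, 2]]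
    (mem_of_symListCert symListCertD4)

/-- The graph automorphism of order three. -/
noncomputable def gammaA (F : Type*) [Field F] : MulAut ↥(chevD4.group F) :=
  sgnAut chevD4 Cfsg.Agent.Lib.Helper36_ChevDataD4.lenOK Cfsg.Agent.Lib.Helper36_ChevDataD4.addOK F 12
    Cfsg.Agent.Lib.Helper36_ChevDataD4AutA.autData Cfsg.Agent.Lib.Helper36_ChevDataD4AutA.matOK
    Cfsg.Agent.Lib.Helper36_ChevDataD4AutA.rangeOK

/-- A graph automorphism of order two. -/
noncomputable def gammaC (F : Type*) [Field F] : MulAut ↥(chevD4.group F) :=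
  sgnAut chevD4 Cfsg.Agent.Lib.Helper36_ChevDataD4.lenOK Cfsg.Agent.Lib.Helper36_ChevDataD4.addOK F 12
    Cfsg.Agent.Lib.Helper18_ChevDataD4AutC.autData Cfsg.Agent.Lib.Helper18_ChevDataD4AutC.matOK
    Cfsg.Agent.Lib.Helper18_ChevDataD4AutC.rangeOK

theorem gammaA_maps (i : ℕ) (hi : i < chevD4.rank) :
    Preserves' (gammaA F) (chevD4.rootSubgroup F (chevD4.simple i))
      (chevD4.rootSubgroup F (chevD4.simple ([2, 1, 3, 0].getD i 0))) := by
  apply preserves'_of_formula1 Cfsg.Agent.Lib.Helper18_ChevDatumD4.dcert _ _ _ (fun t => t) _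
    Function.surjective_id
  intro t
  obtain ⟨h1, h2, -, -⟩ := Cfsg.Agent.Lib.Helper36_ChevDataD4AutA.fundOK i hi
  unfold gammaA
  rw [sgnAut_xG _ _ _ _ _ _ _ _ _ _ (acertD4.simple i hi).1, h1, h2, Int.cast_one, one_mul]
  rfl

theorem gammaC_maps (i : ℕ) (hi : i < chevD4.rank) :
    Preserves' (gammaC F) (chevD4.rootSubgroup F (chevD4.simple i))
      (chevD4.rootSubgroup F (chevD4.simple ([2, 1, 0, 3].getD i 0))) := by
  apply preserves'_of_formula1 Cfsg.Agent.Lib.Helper18_ChevDatumD4.dcert _ _ _ (fun t => t) _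
    Function.surjective_id
  intro t
  obtain ⟨h1, h2, -, -⟩ := Cfsg.Agent.Lib.Helper18_ChevDataD4AutC.fundOK i hi
  unfold gammaC
  rw [sgnAut_xG _ _ _ _ _ _ _ _ _ _ (acertD4.simple i hi).1, h1, h2, Int.cast_one, one_mul]
  rfl

/-- The quotient of the group of outer automorphisms by the images of the diagonal and field automorphisms is not
commutative. -/
theorem not_commutator_le [Finite F] :
    ¬ commutator (Cfsg.Out ↥(chevD4.group F)) ≤
      (Subgroup.closure {φ : MulAut ↥(chevD4.group F) | chevD4.IsDiagonalAut φ}).map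
        (QuotientGroup.mk' (Cfsg.Inn ↥(chevD4.group F))) ⊔
      (Subgroup.closure {φ : MulAut ↥(chevD4.group F) | chevD4.IsFieldAut φ}).map
        (QuotientGroup.mk' (Cfsg.Inn ↥(chevD4.group F))) := by
  intro hle
  have A : AutBase chevD4 _ _ _ _ _ _ Cfsg.Agent.Lib.Helper18_ChevW0Certs.w0D4 F :=
    ⟨Cfsg.Agent.Lib.Helper18_ChevDatumD4.dcert, Cfsg.Agent.Lib.Helper18_ChevTCertD4.tcert, acertD4,
      Cfsg.Agent.Lib.Helper18_ChevGCertD4.gcert, Cfsg.Agent.Lib.Helper18_ChevJCerts.descent_all chevD4 (by simp),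
      Cfsg.Agent.Lib.Helper18_ChevComm2.r2_all Cfsg.Agent.Lib.Helper18_ChevDatumD4.dcert
        Cfsg.Agent.Lib.Helper18_ChevPCertD4.pcert (F := F), Cfsg.Agent.Lib.Helper18_ChevW0Certs.w0CertD4,
      w0SimpleD4, slCertD4⟩
  obtain ⟨c', tc, ac, gc, hdesc, hR2, hw, hws, hsl⟩ := A
  have h0 : 0 < chevD4.rank := by decide
  have hone : FixOne c' F := Cfsg.Agent.Lib.Helper18_ChevAutE.eq_one_of_fix
    Cfsg.Agent.Lib.Helper18_ChevOCerts.ocertD4 c' ac compD4_zero h0
  set θ₀ : MulAut ↥(chevD4.group F) := ⁅gammaA F, gammaC F⁆ with hθ₀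
  have hmem : QuotientGroup.mk' (Cfsg.Inn ↥(chevD4.group F)) θ₀ ∈ commutator (Cfsg.Out ↥(chevD4.group F)) := by
    rw [hθ₀, map_commutatorElement, commutator_def]
    exact Subgroup.commutator_mem_commutator (Subgroup.mem_top _) (Subgroup.mem_top _)
  have hAU : Preserves (gammaA F) (chevD4.posUnipotent F) := sgnAut_preserves_pos _ _ _ _ _ _ _ _ c' posCertD4A
  have hAV : Preserves (gammaA F) (chevD4.negUnipotent F) := sgnAut_preserves_neg _ _ _ _ _ _ _ _ c' posCertD4A
  have hCU : Preserves (gammaC F) (chevD4.posUnipotent F) := sgnAut_preserves_pos _ _ _ _ _ _ _ _ c' posCertD4C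
  have hCV : Preserves (gammaC F) (chevD4.negUnipotent F) := sgnAut_preserves_neg _ _ _ _ _ _ _ _ c' posCertD4C
  have hθdef : θ₀ = gammaA F * gammaC F * (gammaA F)⁻¹ * (gammaC F)⁻¹ := commutatorElement_def _ _
  have hU : Preserves θ₀ (chevD4.posUnipotent F) := by
    rw [hθdef]
    exact ((hAU.mul hCU).mul hAU.inv).mul hCU.inv
  have hV : Preserves θ₀ (chevD4.negUnipotent F) := by
    rw [hθdef]
    exact ((hAV.mul hCV).mul hAV.inv).mul hCV.inv
  have hmap : Preserves' θ₀ (chevD4.rootSubgroup F (chevD4.simple 0)) (chevD4.rootSubgroup F (chevD4.simple 3)) := by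
    rw [hθdef]
    have s1 : Preserves' (gammaC F)⁻¹ (chevD4.rootSubgroup F (chevD4.simple 0))
        (chevD4.rootSubgroup F (chevD4.simple 2)) := preserves'_inv (gammaC_maps 2 (by decide))
    have s2 : Preserves' (gammaA F)⁻¹ (chevD4.rootSubgroup F (chevD4.simple 2))
        (chevD4.rootSubgroup F (chevD4.simple 0)) := preserves'_inv (gammaA_maps 0 (by decide))
    have s3 : Preserves' (gammaC F) (chevD4.rootSubgroup F (chevD4.simple 0))
        (chevD4.rootSubgroup F (chevD4.simple 2)) := gammaC_maps 0 (by decide)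
    have s4 : Preserves' (gammaA F) (chevD4.rootSubgroup F (chevD4.simple 2))
        (chevD4.rootSubgroup F (chevD4.simple 3)) := gammaA_maps 2 (by decide)
    exact preserves'_mul (preserves'_mul (preserves'_mul s4 s3) s2) s1
  exact not_mem_of_moves c' tc ac gc hR2 hw divCertD4 (chainCons_all chevD4 (by simp)) hone θ₀ hU hV
    (by decide : 0 < chevD4.rank) (by decide : 3 < chevD4.rank) (by decide) hmap (hle hmem)

end Cfsg.Agent.Lib.Helper18_OutStructD4
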