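import Cfsg.Agent.Lib.Helper18_D4OutGen
import Cfsg.Agent.Lib.Helper18_OutStructD4
import Cfsg.Agent.Lib.Helper36_ChevDataD4HO
import Cfsg.Agent.Lib.Helper36_ChevSimpleAll

set_option autoImplicit false

/-!
The order of the group of outer automorphisms of the Chevalley group of type D4 over a field with `q = p ^ f`
elements is `6 * gcd (q - 1) 2 ^ 2 * f`; the images of the diagonal and of the field automorphisms have the orders
`gcd (q - 1) 2 ^ 2` and `f`.
-/

namespace Cfsg.Agent.Lib.Helper18_D4OutA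

open Cfsg Cfsg.Lie Cfsg.Agent.Lib.Helper18_ChevAutA Cfsg.Agent.Lib.Helper18_ChevAutB
  Cfsg.Agent.Lib.Helper18_ChevAutC Cfsg.Agent.Lib.Helper18_ChevGL
  Cfsg.Agent.Lib.Helper18_ChevAutF Cfsg.Agent.Lib.Helper18_ChevAutI Cfsg.Agent.Lib.Helper18_ChevAutK
  Cfsg.Agent.Lib.Helper18_ChevAutG Cfsg.Agent.Lib.Helper18_ChevAutJ Cfsg.Agent.Lib.Helper18_ChevAutM
  Cfsg.Agent.Lib.Helper18_ChevAutP Cfsg.Agent.Lib.Helper18_ChevAutQ Cfsg.Agent.Lib.Helper18_ChevAutS
  Cfsg.Agent.Lib.Helper18_ChevAutT Cfsg.Agent.Lib.Helper18_ChevAutU Cfsg.Agent.Lib.Helper18_ChevACerts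
  Cfsg.Agent.Lib.Helper18_ChevAutCerts Cfsg.Agent.Lib.Helper18_ChevCCerts Cfsg.Agent.Lib.Helper18_SteinbergD4
  Cfsg.Agent.Lib.Helper18_OutStructAll Cfsg.Agent.Lib.Helper18_D4OutGen Cfsg.Agent.Lib.Helper18_ChevAutE

variable {F : Type*} [Field F]

/-- The certificates of type D4. -/
abbrev cD4 := Cfsg.Agent.Lib.Helper18_ChevDatumD4.dcert
abbrev tcD4 := Cfsg.Agent.Lib.Helper18_ChevTCertD4.tcert
abbrev gcD4 := Cfsg.Agent.Lib.Helper18_ChevGCertD4.gcert

theorem hconsD4 : Cfsg.Agent.Lib.Helper18_ChevHhat.ChainCons chevD4 := chainCons_all chevD4 (by simp)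

theorem hR2D4 : Cfsg.Agent.Lib.Helper18_ChevUni.R2All chevD4 F :=
  Cfsg.Agent.Lib.Helper18_ChevComm2.r2_all cD4 Cfsg.Agent.Lib.Helper18_ChevPCertD4.pcert

theorem honeD4 : FixOne cD4 F :=
  Cfsg.Agent.Lib.Helper18_ChevAutE.eq_one_of_fix Cfsg.Agent.Lib.Helper18_ChevOCerts.ocertD4 cD4 acertD4 compD4_zero
    (by decide)

/-- The diagonal automorphisms of the group of type D4. -/
noncomputable def diagD4 (F : Type*) [Field F] : Subgroup (MulAut ↥(chevD4.group F)) :=
  (diagHom (F := F) cD4 tcD4 acertD4 divCertD4).range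

/-- The field automorphisms of the group of type D4. -/
noncomputable def fieldD4 (F : Type*) [Field F] : Subgroup (MulAut ↥(chevD4.group F)) :=
  (fieldAutHom (F := F) cD4).range

theorem closure_diag_eq : Subgroup.closure {φ : MulAut ↥(chevD4.group F) | chevD4.IsDiagonalAut φ} = diagD4 F := by
  have : {φ : MulAut ↥(chevD4.group F) | chevD4.IsDiagonalAut φ} = (diagD4 F : Set (MulAut ↥(chevD4.group F))) := by
    ext φ
    exact isDiagonalAut_iff cD4 tcD4 acertD4 divCertD4 hconsD4 honeD4 φ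
  rw [this, Subgroup.closure_eq]

theorem closure_field_eq : Subgroup.closure {φ : MulAut ↥(chevD4.group F) | chevD4.IsFieldAut φ} = fieldD4 F := by
  have : {φ : MulAut ↥(chevD4.group F) | chevD4.IsFieldAut φ} = (fieldD4 F : Set (MulAut ↥(chevD4.group F))) := by
    ext φ
    exact isFieldAut_iff cD4 acertD4 honeD4 φ
  rw [this, Subgroup.closure_eq]

theorem centerD4 : Subgroup.center ↥(chevD4.group F) = ⊥ := by
  obtain ⟨hs, hnc⟩ := Cfsg.Agent.Lib.Helper36_ChevSimpleAll.simple_of_mem (F := F) chevD4 (by simp)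
    (by
      intro h
      exfalso
      have hr : chevD4.rank ≠ 2 := by decide
      rcases h with h | h
      · exact hr (by rw [h]; rfl)
      · exact hr (by rw [h]; rfl))
  apply center_eq_bot_of_simple hs
  intro h
  exact hnc ⟨⟨h⟩⟩

theorem prod_gcd_diagD (n : ℕ) :
    (∏ k, n.gcd (Cfsg.Agent.Lib.Helper36_ChevDataD4HO.diagD k)) = n.gcd 2 ^ 2 := by
  have h4 : chevD4.rank = 4 := by decide
  show (∏ k : Fin 4, n.gcd ((![1, 1, 2, 2] : Fin 4 → ℕ) k)) = n.gcd 2 ^ 2
  rw [Fin.prod_univ_four]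
  simp [pow_two]

variable [Fintype F]

theorem card_Hpos : 0 < Nat.card ↥(chevD4.diagonalSubgroup F) := Nat.card_pos

/-- The order of the image of the diagonal automorphisms. -/
theorem card_Dbar :
    Nat.card ↥((diagD4 F).map (QuotientGroup.mk' (Cfsg.Inn ↥(chevD4.group F)))) =
      (Fintype.card F - 1).gcd 2 ^ 2 := by
  have h1 := card_diag_bar_mul (F := F) cD4 tcD4 acertD4 gcD4 hR2D4 Cfsg.Agent.Lib.Helper18_ChevW0Certs.w0CertD4
    divCertD4 hconsD4 honeD4 centerD4
  have h2 := Cfsg.Agent.Lib.Helper36_ChevDataD4HO.card_diag F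
  rw [prod_gcd_diagD] at h2
  rw [← h2] at h1
  exact Nat.eq_of_mul_eq_mul_right card_Hpos h1

/-- The order of the image of the field automorphisms. -/
theorem card_Fbar {p f : ℕ} [Fact p.Prime] (hF : Fintype.card F = p ^ f) :
    Nat.card ↥((fieldD4 F).map (QuotientGroup.mk' (Cfsg.Inn ↥(chevD4.group F)))) = f := by
  rw [← card_ringAut_eq hF]
  exact card_field_bar (F := F) cD4 tcD4 acertD4 gcD4 hR2D4 Cfsg.Agent.Lib.Helper18_ChevW0Certs.w0CertD4
    divCertD4 hconsD4 honeD4 (by decide)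

/-- The order of the image of the products of diagonal and field automorphisms. -/
theorem card_DFbar {p f : ℕ} [Fact p.Prime] (hF : Fintype.card F = p ^ f) :
    Nat.card ↥((diagD4 F ⊔ fieldD4 F).map (QuotientGroup.mk' (Cfsg.Inn ↥(chevD4.group F)))) =
      (Fintype.card F - 1).gcd 2 ^ 2 * f := by
  have h1 := card_sup_bar_mul (F := F) cD4 tcD4 acertD4 gcD4 hR2D4 Cfsg.Agent.Lib.Helper18_ChevW0Certs.w0CertD4
    divCertD4 hconsD4 honeD4 (by decide) centerD4
  have h2 := Cfsg.Agent.Lib.Helper36_ChevDataD4HO.card_diag F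
  rw [prod_gcd_diagD] at h2
  rw [← h2, card_ringAut_eq hF] at h1
  have h3 : Nat.card ↥((diagD4 F ⊔ fieldD4 F).map (QuotientGroup.mk' (Cfsg.Inn ↥(chevD4.group F)))) *
      Nat.card ↥(chevD4.diagonalSubgroup F) =
      ((Fintype.card F - 1).gcd 2 ^ 2 * f) * Nat.card ↥(chevD4.diagonalSubgroup F) := by
    rw [show diagD4 F = (diagHom (F := F) cD4 tcD4 acertD4 divCertD4).range from rfl,
      show fieldD4 F = (fieldAutHom (F := F) cD4).range from rfl, h1]
    ring
  exact Nat.eq_of_mul_eq_mul_right card_Hpos h3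

/-- The index of the image of the products of diagonal and field automorphisms is six. -/
theorem index_DFbar :
    ((diagD4 F ⊔ fieldD4 F).map (QuotientGroup.mk' (Cfsg.Inn ↥(chevD4.group F)))).index = 6 := by
  have : Finite F := inferInstance
  obtain ⟨h1, h2, h3, h4, h5, h6⟩ :=
    Cfsg.Agent.Lib.Helper18_OutStructD4.outStructureD4 (F := F) _ _ rfl rfl
  have hnc := Cfsg.Agent.Lib.Helper18_OutStructD4.not_commutator_le (F := F)
  have h := Cfsg.Agent.Lib.Helper18_OutStruct.index_eq_six _ h5 h6 hnc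
  rw [closure_diag_eq, closure_field_eq, ← Subgroup.map_sup] at h
  exact h

/-- The order of the group of outer automorphisms of the Chevalley group of type D4. -/
theorem card_out_chevD4 {p f : ℕ} [Fact p.Prime] (hF : Fintype.card F = p ^ f) :
    Nat.card (Cfsg.Out ↥(chevD4.group F)) = 6 * (Nat.gcd (Fintype.card F - 1) 2) ^ 2 * f := by
  rw [← Subgroup.card_mul_index ((diagD4 F ⊔ fieldD4 F).map (QuotientGroup.mk' (Cfsg.Inn ↥(chevD4.group F)))),
    index_DFbar, card_DFbar hF]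
  ring

end Cfsg.Agent.Lib.Helper18_D4OutA
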