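import Mathlib
import Cfsg.Agent.Lib.Helper45_OutAbs

/-!
# Abstract assembly of `Out ≃* S₃ × C_f` and `Out ≃* S₄ × C_f` from a factorisation `Aut = Inn · 𝒟 · Γ · Φ`
-/

set_option autoImplicit false

namespace Cfsg.Agent.Lib.Helper45_OutAbs2

open Cfsg.Agent.Lib.Helper45_OutAbs

variable {A : Type*} [Group A] [Finite A] (I : Subgroup A) [I.Normal]

/-- Even characteristic: `Out = Γ̄ × Φ̄`, `Γ̄ ≃ S₃`. -/
theorem out_even_abs (Γ Φ : Subgroup A) {f : ℕ} (hf : 1 ≤ f)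
    (hdec : ∀ θ : A, ∃ g ∈ Γ, ∃ φ ∈ Φ, QuotientGroup.mk' I θ = QuotientGroup.mk' I g * QuotientGroup.mk' I φ)
    (hcomm : ∀ g ∈ Γ, ∀ φ ∈ Φ, g * φ = φ * g) (hΓ : Nat.card Γ ≤ 6)
    (hΦc : IsCyclic ↥(Φ.map (QuotientGroup.mk' I))) (hΦ : Nat.card ↥(Φ.map (QuotientGroup.mk' I)) = f)
    (hO : Nat.card (A ⧸ I) = 6 * f) (hnc : ∃ x y : A ⧸ I, x * y ≠ y * x) :
    Nonempty (A ⧸ I ≃* Equiv.Perm (Fin 3) × Multiplicative (ZMod f)) := by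
  classical
  set Gb : Subgroup (A ⧸ I) := Γ.map (QuotientGroup.mk' I) with hGb
  set Fb : Subgroup (A ⧸ I) := Φ.map (QuotientGroup.mk' I) with hFb
  have hGbcard : Nat.card ↥Gb ≤ 6 := by
    have h1 : Nat.card ↥Gb ∣ Nat.card ↥Γ := Subgroup.card_map_dvd Γ (QuotientGroup.mk' I)
    exact (Nat.le_of_dvd Nat.card_pos h1).trans hΓ
  let m : ↥Gb × ↥Fb → A ⧸ I := fun p => (p.1 : A ⧸ I) * (p.2 : A ⧸ I)
  have hsurj : Function.Surjective m := by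
    intro o
    obtain ⟨θ, rfl⟩ := QuotientGroup.mk'_surjective I o
    obtain ⟨g, hg, φ, hφ, e⟩ := hdec θ
    exact ⟨(⟨_, Subgroup.mem_map_of_mem _ hg⟩, ⟨_, Subgroup.mem_map_of_mem _ hφ⟩), e.symm⟩
  have hcardle : Nat.card (↥Gb × ↥Fb) ≤ Nat.card (A ⧸ I) := by
    rw [Nat.card_prod, hΦ, hO]
    exact Nat.mul_le_mul_right f hGbcard
  have hbij : Function.Bijective m := hsurj.bijective_of_nat_card_le hcardle
  have hGb6 : Nat.card ↥Gb = 6 := by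
    have h1 : Nat.card (↥Gb × ↥Fb) = Nat.card (A ⧸ I) := Nat.card_congr (Equiv.ofBijective m hbij)
    rw [Nat.card_prod, hΦ, hO] at h1
    exact Nat.eq_of_mul_eq_mul_right (by omega) h1
  have hdisj : Gb ⊓ Fb = ⊥ := by
    rw [eq_bot_iff]
    intro x hx
    rw [Subgroup.mem_bot]
    have h1 : m (⟨x, hx.1⟩, 1) = m (1, ⟨x, hx.2⟩) := by simp [m]
    have h2 := hbij.1 h1
    have h3 := congrArg (fun p : ↥Gb × ↥Fb => (p.1 : A ⧸ I)) h2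
    simpa using h3
  have hsup : Gb ⊔ Fb = ⊤ := by
    rw [eq_top_iff]
    intro o _
    obtain ⟨p, rfl⟩ := hsurj o
    exact Subgroup.mul_mem _ (Subgroup.mem_sup_left p.1.2) (Subgroup.mem_sup_right p.2.2)
  have hcommO : ∀ x ∈ Gb, ∀ c ∈ Fb, x * c = c * x := by
    rintro _ ⟨g, hg, rfl⟩ _ ⟨φ, hφ, rfl⟩
    rw [← map_mul, ← map_mul, hcomm g hg φ hφ]
  obtain ⟨e₁⟩ := prod_of_commute Gb Fb hcommO hdisj hsup
  have hGnc : ∃ a b : ↥Gb, a * b ≠ b * a := by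
    by_contra hcon
    have hGc : ∀ a b : ↥Gb, a * b = b * a := fun a b => by_contra fun h => hcon ⟨a, b, h⟩
    obtain ⟨x, y, hxy⟩ := hnc
    apply hxy
    apply e₁.injective
    rw [map_mul, map_mul]
    have hFc : ∀ a b : ↥Fb, a * b = b * a := fun a b => by
      have hcg : IsMulCommutative ↥Fb := inferInstance
      exact hcg.is_comm.comm a b
    exact Prod.ext (hGc _ _) (hFc _ _)
  obtain ⟨e₂⟩ := perm_three_of_card_six hGb6 hGnc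
  obtain ⟨e₃⟩ := cyclic_equiv_zmod (C := ↥Fb) hf hΦ
  exact ⟨e₁.trans (MulEquiv.prodCongr e₂ e₃)⟩

/-- Odd characteristic: `Out = (D̄ ⋊ Γ̄) × Φ̄`, `D̄ ⋊ Γ̄ ≃ S₄`. -/
theorem out_odd_abs (𝒟 Γ Φ : Subgroup A) {f : ℕ} (hf : 1 ≤ f)
    (hdec : ∀ θ : A, ∃ d ∈ 𝒟, ∃ g ∈ Γ, ∃ φ ∈ Φ,
      QuotientGroup.mk' I θ = QuotientGroup.mk' I d * QuotientGroup.mk' I g * QuotientGroup.mk' I φ)
    (hΓ𝒟 : ∀ g ∈ Γ, ∀ d ∈ 𝒟, g * d * g⁻¹ ∈ 𝒟)
    (hcomm : ∀ g ∈ Γ, ∀ φ ∈ Φ, g * φ = φ * g)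
    (hΦ𝒟 : ∀ φ ∈ Φ, ∀ d ∈ 𝒟, φ * d * φ⁻¹ * d⁻¹ ∈ I)
    (hfaith : ∀ g ∈ Γ, (∀ d ∈ 𝒟, g * d * g⁻¹ * d⁻¹ ∈ I) → g ∈ I)
    (hΓ : Nat.card Γ ≤ 6) (hD : Nat.card ↥(𝒟.map (QuotientGroup.mk' I)) = 4)
    (hΦc : IsCyclic ↥(Φ.map (QuotientGroup.mk' I))) (hΦ : Nat.card ↥(Φ.map (QuotientGroup.mk' I)) = f)
    (hO : Nat.card (A ⧸ I) = 24 * f) :
    Nonempty (A ⧸ I ≃* Equiv.Perm (Fin 4) × Multiplicative (ZMod f)) := by
  classical
  set Db : Subgroup (A ⧸ I) := 𝒟.map (QuotientGroup.mk' I) with hDb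
  set Gb : Subgroup (A ⧸ I) := Γ.map (QuotientGroup.mk' I) with hGb
  set Fb : Subgroup (A ⧸ I) := Φ.map (QuotientGroup.mk' I) with hFb
  have hGbcard : Nat.card ↥Gb ≤ 6 := by
    have h1 : Nat.card ↥Gb ∣ Nat.card ↥Γ := Subgroup.card_map_dvd Γ (QuotientGroup.mk' I)
    exact (Nat.le_of_dvd Nat.card_pos h1).trans hΓ
  let m : ↥Db × ↥Gb × ↥Fb → A ⧸ I := fun p => (p.1 : A ⧸ I) * (p.2.1 : A ⧸ I) * (p.2.2 : A ⧸ I)
  have hsurj : Function.Surjective m := by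
    intro o
    obtain ⟨θ, rfl⟩ := QuotientGroup.mk'_surjective I o
    obtain ⟨d, hd, g, hg, φ, hφ, e⟩ := hdec θ
    exact ⟨(⟨_, Subgroup.mem_map_of_mem _ hd⟩, ⟨_, Subgroup.mem_map_of_mem _ hg⟩,
      ⟨_, Subgroup.mem_map_of_mem _ hφ⟩), e.symm⟩
  have hcardle : Nat.card (↥Db × ↥Gb × ↥Fb) ≤ Nat.card (A ⧸ I) := by
    rw [Nat.card_prod, Nat.card_prod, hΦ, hO, hD]
    calc 4 * (Nat.card ↥Gb * f) ≤ 4 * (6 * f) :=
          Nat.mul_le_mul_left 4 (Nat.mul_le_mul_right f hGbcard)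
      _ = 24 * f := by ring
  have hbij : Function.Bijective m := hsurj.bijective_of_nat_card_le hcardle
  have hGb6 : Nat.card ↥Gb = 6 := by
    have h1 : Nat.card (↥Db × ↥Gb × ↥Fb) = Nat.card (A ⧸ I) := Nat.card_congr (Equiv.ofBijective m hbij)
    rw [Nat.card_prod, Nat.card_prod, hΦ, hO, hD] at h1
    have h2 : Nat.card ↥Gb * (4 * f) = 6 * (4 * f) := by
      calc Nat.card ↥Gb * (4 * f) = 4 * (Nat.card ↥Gb * f) := by ring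
        _ = 24 * f := h1
        _ = 6 * (4 * f) := by ring
    exact Nat.eq_of_mul_eq_mul_right (by omega) h2
  -- conjugation rules in the quotient
  have hGD : ∀ g ∈ Gb, ∀ d ∈ Db, g * d * g⁻¹ ∈ Db := by
    rintro _ ⟨g, hg, rfl⟩ _ ⟨d, hd, rfl⟩
    exact ⟨g * d * g⁻¹, hΓ𝒟 g hg d hd, by simp⟩
  have hGF : ∀ x ∈ Gb, ∀ c ∈ Fb, x * c = c * x := by
    rintro _ ⟨g, hg, rfl⟩ _ ⟨φ, hφ, rfl⟩
    rw [← map_mul, ← map_mul, hcomm g hg φ hφ]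
  have hDF : ∀ x ∈ Db, ∀ c ∈ Fb, x * c = c * x := by
    rintro _ ⟨d, hd, rfl⟩ _ ⟨φ, hφ, rfl⟩
    have h1 : QuotientGroup.mk' I (φ * d * φ⁻¹ * d⁻¹) = 1 := by
      rw [QuotientGroup.mk'_apply, QuotientGroup.eq_one_iff]
      exact hΦ𝒟 φ hφ d hd
    rw [map_mul, map_mul, map_mul, map_inv, map_inv] at h1
    have h2 : QuotientGroup.mk' I φ * QuotientGroup.mk' I d =
        (QuotientGroup.mk' I φ * QuotientGroup.mk' I d * (QuotientGroup.mk' I φ)⁻¹ *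
          (QuotientGroup.mk' I d)⁻¹) * QuotientGroup.mk' I d * QuotientGroup.mk' I φ := by group
    rw [h1, one_mul] at h2
    exact h2.symm
  -- the subgroup `X = D̄ Γ̄`
  let X : Subgroup (A ⧸ I) :=
    { carrier := {x | ∃ d ∈ Db, ∃ g ∈ Gb, x = d * g}
      one_mem' := ⟨1, Db.one_mem, 1, Gb.one_mem, by simp⟩
      mul_mem' := by
        rintro _ _ ⟨d, hd, g, hg, rfl⟩ ⟨d', hd', g', hg', rfl⟩
        refine ⟨d * (g * d' * g⁻¹), Db.mul_mem hd (hGD g hg d' hd'), g * g', Gb.mul_mem hg hg', ?_⟩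
        group
      inv_mem' := by
        rintro _ ⟨d, hd, g, hg, rfl⟩
        refine ⟨g⁻¹ * d⁻¹ * (g⁻¹)⁻¹, hGD g⁻¹ (Gb.inv_mem hg) d⁻¹ (Db.inv_mem hd), g⁻¹, Gb.inv_mem hg, ?_⟩
        group }
  have hDX : Db ≤ X := fun d hd => ⟨d, hd, 1, Gb.one_mem, by simp⟩
  have hGX : Gb ≤ X := fun g hg => ⟨1, Db.one_mem, g, hg, by simp⟩
  have hXcard : Nat.card ↥X = 24 := by
    let m' : ↥Db × ↥Gb → ↥X := fun p => ⟨(p.1 : A ⧸ I) * (p.2 : A ⧸ I), p.1, p.1.2, p.2, p.2.2, rfl⟩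
    have hinj' : Function.Injective m' := by
      rintro ⟨d, g⟩ ⟨d', g'⟩ h
      have h1 : m (d, g, 1) = m (d', g', 1) := by
        have := congrArg (fun x : ↥X => (x : A ⧸ I)) h
        simpa [m, m'] using this
      have h2 := hbij.1 h1
      simp only [Prod.mk.injEq, and_true] at h2
      exact Prod.ext h2.1 h2.2
    have hsurj' : Function.Surjective m' := by
      rintro ⟨_, d, hd, g, hg, rfl⟩
      exact ⟨(⟨d, hd⟩, ⟨g, hg⟩), rfl⟩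
    rw [← Nat.card_congr (Equiv.ofBijective m' ⟨hinj', hsurj'⟩), Nat.card_prod, hD, hGb6]
  have hXF : X ⊓ Fb = ⊥ := by
    rw [eq_bot_iff]
    rintro x ⟨⟨d, hd, g, hg, rfl⟩, hxF⟩
    rw [Subgroup.mem_bot]
    have h1 : m (⟨d, hd⟩, ⟨g, hg⟩, 1) = m (1, 1, ⟨d * g, hxF⟩) := by simp [m]
    have h2 := hbij.1 h1
    simp only [Prod.mk.injEq] at h2
    have h3 : d = 1 := congrArg Subtype.val h2.1
    have h4 : g = 1 := congrArg Subtype.val h2.2.1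
    rw [h3, h4, one_mul]
  have hXFsup : X ⊔ Fb = ⊤ := by
    rw [eq_top_iff]
    intro o _
    obtain ⟨p, rfl⟩ := hsurj o
    exact Subgroup.mul_mem _ (Subgroup.mem_sup_left ⟨p.1, p.1.2, p.2.1, p.2.1.2, rfl⟩)
      (Subgroup.mem_sup_right p.2.2.2)
  have hXFcomm : ∀ x ∈ X, ∀ c ∈ Fb, x * c = c * x := by
    rintro _ ⟨d, hd, g, hg, rfl⟩ c hc
    rw [mul_assoc, hGF g hg c hc, ← mul_assoc, hDF d hd c hc, mul_assoc]
  obtain ⟨e₁⟩ := prod_of_commute X Fb hXFcomm hXF hXFsup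
  -- `X` is `S₄`
  have hVn : (Db.subgroupOf X).Normal := by
    constructor
    rintro ⟨v, hvX⟩ hv ⟨x, d, hd, g, hg, rfl⟩
    rw [Subgroup.mem_subgroupOf] at hv ⊢
    show d * g * v * (d * g)⁻¹ ∈ Db
    have h1 : g * v * g⁻¹ ∈ Db := hGD g hg v hv
    have h2 : d * g * v * (d * g)⁻¹ = d * (g * v * g⁻¹) * d⁻¹ := by group
    rw [h2]
    exact Db.mul_mem (Db.mul_mem hd h1) (Db.inv_mem hd)
  have hScard : Nat.card ↥(Gb.subgroupOf X) = 6 := by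
    rw [Nat.card_congr (Subgroup.subgroupOfEquivOfLe hGX).toEquiv, hGb6]
  have hVS : Db.subgroupOf X ⊓ Gb.subgroupOf X = ⊥ := by
    rw [eq_bot_iff]
    rintro ⟨x, hxX⟩ hx
    obtain ⟨hx1, hx2⟩ := Subgroup.mem_inf.mp hx
    rw [Subgroup.mem_subgroupOf] at hx1 hx2
    rw [Subgroup.mem_bot]
    apply Subtype.ext
    show x = 1
    have h1 : m (⟨x, hx1⟩, 1, 1) = m (1, ⟨x, hx2⟩, 1) := by simp [m]
    have h2 := hbij.1 h1
    simp only [Prod.mk.injEq] at h2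
    exact congrArg Subtype.val h2.1
  have hfaithX : ∀ s ∈ Gb.subgroupOf X, (∀ v ∈ Db.subgroupOf X, s * v = v * s) → s = 1 := by
    rintro ⟨s, hsX⟩ hs hcen
    rw [Subgroup.mem_subgroupOf] at hs
    obtain ⟨g, hg, rfl⟩ := hs
    apply Subtype.ext
    show QuotientGroup.mk' I g = 1
    rw [QuotientGroup.mk'_apply, QuotientGroup.eq_one_iff]
    apply hfaith g hg
    intro d hd
    rw [← QuotientGroup.eq_one_iff, ← QuotientGroup.mk'_apply, map_mul, map_mul, map_mul, map_inv, map_inv]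
    have hdX : QuotientGroup.mk' I d ∈ X := hDX (Subgroup.mem_map_of_mem _ hd)
    have h1 := hcen ⟨QuotientGroup.mk' I d, hdX⟩
      (by rw [Subgroup.mem_subgroupOf]; exact Subgroup.mem_map_of_mem _ hd)
    have h2 : QuotientGroup.mk' I g * QuotientGroup.mk' I d = QuotientGroup.mk' I d * QuotientGroup.mk' I g :=
      congrArg Subtype.val h1
    rw [h2]
    group
  haveI := hVn
  obtain ⟨e₂⟩ := perm_four_of_faithful (X := ↥X) hXcard (Db.subgroupOf X) (Gb.subgroupOf X) hScard hVS hfaithX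
  obtain ⟨e₃⟩ := cyclic_equiv_zmod (C := ↥Fb) hf hΦ
  exact ⟨e₁.trans (MulEquiv.prodCongr e₂ e₃)⟩

end Cfsg.Agent.Lib.Helper45_OutAbs2
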