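import Cfsg.Agent.Lib.Helper18_D4OutA
import Cfsg.Agent.Lib.Helper45_OutAbs2

set_option autoImplicit false

/-!
The graph automorphisms of a Chevalley group with one root length form a group; for the type D4 it has at most six
elements. The group of outer automorphisms of the Chevalley group of type D4 over a field with `2 ^ f` elements is
the product of the symmetric group on three letters and a cyclic group of order `f`.
-/

namespace Cfsg.Agent.Lib.Helper18_D4OutB

open Cfsg Cfsg.Lie Cfsg.Agent.Lib.Helper18_ChevFast Cfsg.Agent.Lib.Helper18_ChevEngine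
  Cfsg.Agent.Lib.Helper18_ChevR1 Cfsg.Agent.Lib.Helper18_ChevN Cfsg.Agent.Lib.Helper18_ChevR4
  Cfsg.Agent.Lib.Helper18_ChevSimple Cfsg.Agent.Lib.Helper18_ChevSimple2 Cfsg.Agent.Lib.Helper18_ChevFacts
  Cfsg.Agent.Lib.Helper18_ChevWeyl Cfsg.Agent.Lib.Helper18_ChevDiag Cfsg.Agent.Lib.Helper18_ChevCar
  Cfsg.Agent.Lib.Helper18_ChevTorus Cfsg.Agent.Lib.Helper18_ChevGL Cfsg.Agent.Lib.Helper18_ChevComm
  Cfsg.Agent.Lib.Helper18_ChevComm2 Cfsg.Agent.Lib.Helper18_MatTri Cfsg.Agent.Lib.Helper18_ChevTri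
  Cfsg.Agent.Lib.Helper18_ChevBorel Cfsg.Agent.Lib.Helper18_ChevAdd Cfsg.Agent.Lib.Helper18_ChevUni
  Cfsg.Agent.Lib.Helper18_ChevBN Cfsg.Agent.Lib.Helper18_ChevMono Cfsg.Agent.Lib.Helper18_ChevBNPair
  Cfsg.Agent.Lib.Helper18_ChevSimp Cfsg.Agent.Lib.Helper18_ChevJCerts Cfsg.Agent.Lib.Helper18_ChevLevi
  Cfsg.Agent.Lib.Helper18_ChevBruhat Cfsg.Agent.Lib.Helper18_ChevPar Cfsg.Agent.Lib.Helper18_ChevRootHom
  Cfsg.Agent.Lib.Helper18_ChevOrder Cfsg.Agent.Lib.Helper18_ChevSylow Cfsg.Agent.Lib.Helper18_ChevCent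
  Cfsg.Agent.Lib.Helper18_ChevFrob Cfsg.Agent.Lib.Helper18_ChevAutA Cfsg.Agent.Lib.Helper18_ChevAutB
  Cfsg.Agent.Lib.Helper18_ChevAutC Cfsg.Agent.Lib.Helper18_ChevAutD Cfsg.Agent.Lib.Helper18_ChevGen
  Cfsg.Agent.Lib.Helper18_ChevField Cfsg.Agent.Lib.Helper18_ChevAutE Cfsg.Agent.Lib.Helper18_ChevAutF
  Cfsg.Agent.Lib.Helper18_ChevAutG Cfsg.Agent.Lib.Helper18_ChevAutH Cfsg.Agent.Lib.Helper18_TorusKer
  Cfsg.Agent.Lib.Helper18_ChevAutI Cfsg.Agent.Lib.Helper18_ChevAutJ Cfsg.Agent.Lib.Helper18_ChevAutK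
  Cfsg.Agent.Lib.Helper18_ChevAutM Cfsg.Agent.Lib.Helper18_ChevHhat Cfsg.Agent.Lib.Helper18_ChevAutP
  Cfsg.Agent.Lib.Helper18_ChevAutQ Cfsg.Agent.Lib.Helper18_OutStruct Cfsg.Agent.Lib.Helper18_ChevAutS
  Cfsg.Agent.Lib.Helper18_ChevAutT
  Cfsg.Agent.Lib.Helper18_ChevAutU Cfsg.Agent.Lib.Helper18_ChevACerts
  Cfsg.Agent.Lib.Helper18_ChevAutCerts Cfsg.Agent.Lib.Helper18_ChevCCerts Cfsg.Agent.Lib.Helper18_SteinbergD4
  Cfsg.Agent.Lib.Helper18_OutStructAll Cfsg.Agent.Lib.Helper18_D4OutGen Cfsg.Agent.Lib.Helper18_D4OutA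

variable {D : ChevalleyDatum} {Ns : List NData} {F : Type*} [Field F]
variable {wl : List ℤ} {ws : List (List ℤ)} {sc : ℤ} {w : List ℤ} {d : ℕ} {w0 : List ℕ}

/-! ### Graph automorphisms of a datum with one root length -/

theorem graphExp_eq_one (hshort : ∀ i < D.rank, D.isLong (D.simple i) = false) (p i : ℕ) (j : Fin D.rank) :
    D.graphExp p i j = 1 := by
  unfold ChevalleyDatum.graphExp
  rw [hshort j j.isLt]
  simp

/-- The formula of a graph automorphism for a datum with one root length. -/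
def GraphForm (c : DCert D Ns) (π : Equiv.Perm (Fin D.rank)) (g : MulAut ↥(D.group F)) : Prop :=
  ∀ (i : Fin D.rank) (t : F), g (xG c (D.simple i) t) = xG c (D.simple (π i)) t ∧
    g (xG c (D.neg (D.simple i)) t) = xG c (D.neg (D.simple (π i))) t

theorem isGraphAut_iff_form (c : DCert D Ns) (hshort : ∀ i < D.rank, D.isLong (D.simple i) = false)
    (g : MulAut ↥(D.group F)) :
    D.IsGraphAut g ↔ ∃ π : Equiv.Perm (Fin D.rank), D.IsDiagramSymmetry π ∧ GraphForm c π g := by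
  constructor
  · rintro ⟨π, hπs, hπ⟩
    refine ⟨π, hπs, fun i t => ?_⟩
    have h1 := hπ (xG c (D.simple i) t) i t
    have h2 := hπ (xG c (D.neg (D.simple i)) t) i t
    rw [graphExp_eq_one hshort, pow_one] at h1 h2
    exact ⟨Subtype.ext (Units.ext (h1.1 rfl)), Subtype.ext (Units.ext (h2.2 rfl))⟩
  · rintro ⟨π, hπs, hform⟩
    refine ⟨π, hπs, fun g' i t => ⟨fun hg => ?_, fun hg => ?_⟩⟩
    · have e1 : g' = xG c (D.simple i) t := Subtype.ext (eq_xGL c hg)
      rw [e1, (hform i t).1, graphExp_eq_one hshort, pow_one]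
      rfl
    · have e1 : g' = xG c (D.neg (D.simple i)) t := Subtype.ext (eq_xGL c hg)
      rw [e1, (hform i t).2, graphExp_eq_one hshort, pow_one]
      rfl

theorem graphForm_one (c : DCert D Ns) : GraphForm c 1 (1 : MulAut ↥(D.group F)) :=
  fun _ _ => ⟨rfl, rfl⟩

theorem GraphForm.mul {c : DCert D Ns} {π π' : Equiv.Perm (Fin D.rank)} {g g' : MulAut ↥(D.group F)}
    (h : GraphForm c π g) (h' : GraphForm c π' g') : GraphForm c (π * π') (g * g') := by
  intro i t
  rw [MulAut.mul_apply, MulAut.mul_apply, (h' i t).1, (h' i t).2, (h (π' i) t).1, (h (π' i) t).2]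
  exact ⟨rfl, rfl⟩

theorem GraphForm.inv {c : DCert D Ns} {π : Equiv.Perm (Fin D.rank)} {g : MulAut ↥(D.group F)}
    (h : GraphForm c π g) : GraphForm c π⁻¹ g⁻¹ := by
  intro j t
  have h1 := h (π⁻¹ j) t
  have e : π (π⁻¹ j) = j := Equiv.apply_symm_apply π j
  rw [e] at h1
  constructor
  · rw [← h1.1, MulAut.inv_apply_self]
  · rw [← h1.2, MulAut.inv_apply_self]

theorem GraphForm.unique {c : DCert D Ns} (hone : FixOne c F) {π : Equiv.Perm (Fin D.rank)}
    {g g' : MulAut ↥(D.group F)} (h : GraphForm c π g) (h' : GraphForm c π g') : g = g' := by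
  apply eq_of_agree hone
  intro i hi t
  exact ⟨by rw [(h ⟨i, hi⟩ t).1, (h' ⟨i, hi⟩ t).1], by rw [(h ⟨i, hi⟩ t).2, (h' ⟨i, hi⟩ t).2]⟩

theorem isDiagramSymmetry_one : D.IsDiagramSymmetry 1 := fun _ _ _ => rfl

theorem isDiagramSymmetry_mul {π π' : Equiv.Perm (Fin D.rank)} (h : D.IsDiagramSymmetry π)
    (h' : D.IsDiagramSymmetry π') : D.IsDiagramSymmetry (π * π') := by
  intro i j hij
  rw [Equiv.Perm.mul_apply, Equiv.Perm.mul_apply, h _ _ (fun e => hij (π'.injective e)), h' i j hij]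

theorem isDiagramSymmetry_inv {π : Equiv.Perm (Fin D.rank)} (h : D.IsDiagramSymmetry π) :
    D.IsDiagramSymmetry π⁻¹ := by
  intro i j hij
  have := h (π⁻¹ i) (π⁻¹ j) (fun e => hij (π⁻¹.injective e))
  have ei : π (π⁻¹ i) = i := Equiv.apply_symm_apply π i
  have ej : π (π⁻¹ j) = j := Equiv.apply_symm_apply π j
  rw [ei, ej] at this
  exact this.symm

/-- The group of the graph automorphisms of a datum with one root length. -/
def graphSub (c : DCert D Ns) (hshort : ∀ i < D.rank, D.isLong (D.simple i) = false) (F : Type*) [Field F] :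
    Subgroup (MulAut ↥(D.group F)) where
  carrier := {g | D.IsGraphAut g}
  one_mem' := isGraphAut_one c
  mul_mem' := by
    intro g g' hg hg'
    rw [Set.mem_ofPred_eq, isGraphAut_iff_form c hshort] at hg hg' ⊢
    obtain ⟨π, hπ, hf⟩ := hg
    obtain ⟨π', hπ', hf'⟩ := hg'
    exact ⟨π * π', isDiagramSymmetry_mul hπ hπ', hf.mul hf'⟩
  inv_mem' := by
    intro g hg
    rw [Set.mem_ofPred_eq, isGraphAut_iff_form c hshort] at hg ⊢
    obtain ⟨π, hπ, hf⟩ := hg
    exact ⟨π⁻¹, isDiagramSymmetry_inv hπ, hf.inv⟩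

theorem mem_graphSub (c : DCert D Ns) (hshort : ∀ i < D.rank, D.isLong (D.simple i) = false)
    (g : MulAut ↥(D.group F)) : g ∈ graphSub c hshort F ↔ D.IsGraphAut g := Iff.rfl

/-- The number of graph automorphisms is at most the number of symmetries of the graph. -/
theorem card_graphSub_le (c : DCert D Ns) (hshort : ∀ i < D.rank, D.isLong (D.simple i) = false)
    (hone : FixOne c F) (Lτ : List (List ℕ))
    (hcl : ∀ g : MulAut ↥(D.group F), D.IsGraphAut g → ∃ τ ∈ Lτ, Along c τ g) :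
    Nat.card ↥(graphSub c hshort F) ≤ Lτ.length := by
  classical
  obtain ⟨L, hLlen, hL⟩ := exists_list_of_along hone Lτ
  have hsub : ((graphSub c hshort F : Subgroup (MulAut ↥(D.group F))) : Set (MulAut ↥(D.group F))) ⊆
      (L.toFinset : Set (MulAut ↥(D.group F))) := by
    intro g hg
    rw [Finset.mem_coe, List.mem_toFinset]
    exact hL g (hcl g hg)
  calc Nat.card ↥(graphSub c hshort F)
      = Set.ncard ((graphSub c hshort F : Subgroup (MulAut ↥(D.group F))) : Set (MulAut ↥(D.group F))) := rfl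
    _ ≤ Set.ncard (L.toFinset : Set (MulAut ↥(D.group F))) := Set.ncard_le_ncard hsub (Finset.finite_toSet _)
    _ = L.toFinset.card := Set.ncard_coe_finset _
    _ ≤ L.length := List.toFinset_card_le L
    _ = Lτ.length := hLlen

/-- Graph automorphisms commute with field automorphisms. -/
theorem graph_comm_field (c : DCert D Ns) (hshort : ∀ i < D.rank, D.isLong (D.simple i) = false)
    (hone : FixOne c F) (g : MulAut ↥(D.group F)) (hg : D.IsGraphAut g) (σ : F ≃+* F) :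
    g * fieldAutOf c σ = fieldAutOf c σ * g := by
  obtain ⟨π, -, hf⟩ := (isGraphAut_iff_form c hshort g).mp hg
  apply eq_of_agree hone
  intro i hi t
  constructor
  · rw [MulAut.mul_apply, MulAut.mul_apply, fieldAutOf_xG, (hf ⟨i, hi⟩ _).1, (hf ⟨i, hi⟩ _).1, fieldAutOf_xG]
  · rw [MulAut.mul_apply, MulAut.mul_apply, fieldAutOf_xG, (hf ⟨i, hi⟩ _).2, (hf ⟨i, hi⟩ _).2, fieldAutOf_xG]


/-! ### Type D4 -/

/-- The graph automorphisms of the group of type D4. -/
def graphD4 (F : Type*) [Field F] : Subgroup (MulAut ↥(chevD4.group F)) := graphSub cD4 shortD4 F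

theorem finite_mulAut [Finite F] : Finite (MulAut ↥(chevD4.group F)) := by
  have : Finite ↥(chevD4.group F) := inferInstance
  exact Finite.of_injective (fun φ : MulAut ↥(chevD4.group F) => (φ : ↥(chevD4.group F) → ↥(chevD4.group F)))
    (fun φ ψ h => MulEquiv.ext (congrFun h))

theorem card_graphD4_le [Finite F] : Nat.card ↥(graphD4 F) ≤ 6 := by
  have h := card_graphSub_le (F := F) cD4 shortD4 honeD4
    [[0, 1, 2, 3], [2, 1, 3, 0], [3, 1, 0, 2], [2, 1, 0, 3], [3, 1, 2, 0], [0, 1, 3, 2]]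
    (exists_along_of_isGraphAut cD4 _
      (fun θ ρ hρ hm => perm_props_of_maps cD4 tcD4 acertD4 hR2D4 slCertD4 θ ρ hρ hm)
      (mem_of_symListCert symListCertD4))
  exact h

/-- Every automorphism is a product of an inner, a diagonal, a graph and a field automorphism. -/
theorem decomp_out_D4 [Finite F] (θ : MulAut ↥(chevD4.group F)) :
    ∃ d ∈ diagD4 F, ∃ g ∈ graphD4 F, ∃ φ ∈ fieldD4 F,
      QuotientGroup.mk' (Cfsg.Inn ↥(chevD4.group F)) θ =
        QuotientGroup.mk' (Cfsg.Inn ↥(chevD4.group F)) d * QuotientGroup.mk' (Cfsg.Inn ↥(chevD4.group F)) g *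
          QuotientGroup.mk' (Cfsg.Inn ↥(chevD4.group F)) φ := by
  obtain ⟨x, d, g, f, hd, hg, hf, hθ⟩ :=
    steinberg_finite chevD4 (fun p _ _ θ => Cfsg.Agent.Lib.Helper18_SteinbergD4.steinberg p θ) θ
  refine ⟨d, (isDiagonalAut_iff cD4 tcD4 acertD4 divCertD4 hconsD4 honeD4 d).mp hd, g, hg, f,
    (isFieldAut_iff cD4 acertD4 honeD4 f).mp hf, ?_⟩
  have e : θ = MulAut.conj x * d * g * f := by
    apply MulEquiv.ext
    intro y
    rw [hθ y]
    rfl
  have h1 : QuotientGroup.mk' (Cfsg.Inn ↥(chevD4.group F)) (MulAut.conj x) = 1 :=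
    (QuotientGroup.eq_one_iff _).mpr ⟨x, rfl⟩
  rw [e, map_mul, map_mul, map_mul, h1, one_mul]

theorem graphD4_comm_fieldD4 (g : MulAut ↥(chevD4.group F)) (hg : g ∈ graphD4 F)
    (φ : MulAut ↥(chevD4.group F)) (hφ : φ ∈ fieldD4 F) : g * φ = φ * g := by
  obtain ⟨σ, rfl⟩ := hφ
  exact graph_comm_field cD4 shortD4 honeD4 g hg σ

theorem isCyclic_FbarD4 [Finite F] :
    IsCyclic ↥((fieldD4 F).map (QuotientGroup.mk' (Cfsg.Inn ↥(chevD4.group F)))) := by
  obtain ⟨h1, h2, h3, h4, h5, h6⟩ :=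
    Cfsg.Agent.Lib.Helper18_OutStructD4.outStructureD4 (F := F) _ _ rfl rfl
  rw [closure_field_eq] at h3
  exact h3

theorem not_comm_outD4 [Finite F] :
    ∃ x y : Cfsg.Out ↥(chevD4.group F), x * y ≠ y * x := by
  by_contra hcon
  have hc : ∀ x y : Cfsg.Out ↥(chevD4.group F), x * y = y * x := fun x y => by_contra fun h => hcon ⟨x, y, h⟩
  apply Cfsg.Agent.Lib.Helper18_OutStructD4.not_commutator_le (F := F)
  have : commutator (Cfsg.Out ↥(chevD4.group F)) = ⊥ := by
    rw [commutator_def, Subgroup.commutator_eq_bot_iff_le_centralizer]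
    intro x _
    rw [Subgroup.mem_centralizer_iff]
    intro y _
    exact hc y x
  rw [this]
  exact bot_le

variable [Fintype F]

theorem one_le_of_card {p f : ℕ} (hF : Fintype.card F = p ^ f) : 1 ≤ f := by
  by_contra h
  have h0 : f = 0 := by omega
  rw [h0, pow_zero] at hF
  have := Fintype.one_lt_card (α := F)
  omega

/-- In characteristic two the diagonal automorphisms are inner. -/
theorem diagD4_le_inn_of_even {f : ℕ} (hF : Fintype.card F = 2 ^ f) :
    diagD4 F ≤ Cfsg.Inn ↥(chevD4.group F) := by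
  have hf := one_le_of_card hF
  have h1 := card_Dbar (F := F)
  have hg : (Fintype.card F - 1).gcd 2 = 1 := by
    rw [hF]
    have h2 : 2 ^ f = 2 * 2 ^ (f - 1) := by
      rw [← pow_succ']
      congr 1
      omega
    have hodd : (2 ^ f - 1) % 2 = 1 := by
      have : 0 < 2 ^ (f - 1) := Nat.pos_of_ne_zero (by positivity)
      omega
    rw [Nat.gcd_comm, Nat.gcd_rec, hodd]
    rfl
  rw [hg, one_pow] at h1
  intro d hd
  have h2 : QuotientGroup.mk' (Cfsg.Inn ↥(chevD4.group F)) d ∈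
      (diagD4 F).map (QuotientGroup.mk' (Cfsg.Inn ↥(chevD4.group F))) := Subgroup.mem_map_of_mem _ hd
  rw [Subgroup.card_eq_one.mp h1, Subgroup.mem_bot] at h2
  exact (QuotientGroup.eq_one_iff d).mp h2

/-- The group of outer automorphisms of the Chevalley group of type D4 over a field with `2 ^ f` elements. -/
theorem out_chevD4_even {f : ℕ} (hF : Fintype.card F = 2 ^ f) :
    Nonempty (Cfsg.Out ↥(chevD4.group F) ≃* Equiv.Perm (Fin 3) × Multiplicative (ZMod f)) := by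
  have : Fact (Nat.Prime 2) := ⟨Nat.prime_two⟩
  have hfin : Finite (MulAut ↥(chevD4.group F)) := finite_mulAut
  have hf := one_le_of_card hF
  have hO : Nat.card (Cfsg.Out ↥(chevD4.group F)) = 6 * f := by
    rw [card_out_chevD4 hF]
    have h1 := card_Dbar (F := F)
    have h2 : Nat.card ↥((diagD4 F).map (QuotientGroup.mk' (Cfsg.Inn ↥(chevD4.group F)))) = 1 := by
      rw [Subgroup.card_eq_one, Subgroup.map_eq_bot_iff, QuotientGroup.ker_mk']
      exact diagD4_le_inn_of_even hF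
    rw [← h1, h2, mul_one]
  refine Cfsg.Agent.Lib.Helper45_OutAbs2.out_even_abs (Cfsg.Inn ↥(chevD4.group F)) (graphD4 F) (fieldD4 F) hf
    ?_ graphD4_comm_fieldD4 card_graphD4_le isCyclic_FbarD4 (card_Fbar hF) hO not_comm_outD4
  intro θ
  obtain ⟨d, hd, g, hg, φ, hφ, e⟩ := decomp_out_D4 θ
  refine ⟨g, hg, φ, hφ, ?_⟩
  have h1 : QuotientGroup.mk' (Cfsg.Inn ↥(chevD4.group F)) d = 1 :=
    (QuotientGroup.eq_one_iff d).mpr (diagD4_le_inn_of_even hF hd)
  rw [e, h1, one_mul]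

end Cfsg.Agent.Lib.Helper18_D4OutB
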