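import Mathlib
import Cfsg.Agent.Lib.Helper14_D4Iso
import Cfsg.Agent.Lib.Helper18_D4OutA
import Cfsg.Agent.Lib.Helper18_D4OutB
import Cfsg.Agent.Lib.Helper18_D4OutC
import Cfsg.Agent.Lib.Helper45_OutTransport

/-!
# `|Aut PΩ₈⁺(q)|` and `Out PΩ₈⁺(q)` (the `m = 4` halves of S0817, S2607, S2608)

Transport of helper18's determination of `Out D₄(q)` (`Helper18_D4OutA/B/C`) along the isomorphism
`D₄(F) ≃* PΩ₈⁺(F)` (`Helper14_D4Iso.d4_iso`, assembled from helper45's S1082 packages) by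
`Helper45_OutTransport`.
-/

set_option autoImplicit false
set_option linter.unusedVariables false

namespace Cfsg.Agent.Lib.Helper14_D4Out

open Cfsg

theorem gcd_two_pow_sub_one {f : ℕ} (hf : 1 ≤ f) : Nat.gcd (2 ^ f - 1) 2 = 1 := by
  have h1 : 1 ≤ 2 ^ f := Nat.one_le_two_pow
  have hodd : ¬ 2 ∣ 2 ^ f - 1 := by
    have h2 : 2 ∣ 2 ^ f := dvd_pow_self 2 (by omega)
    omega
  rw [Nat.gcd_comm]
  exact (Nat.Prime.coprime_iff_not_dvd Nat.prime_two).2 hodd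

theorem gcd_odd_pow_sub_one {p f : ℕ} (hp : p.Prime) (hp2 : p ≠ 2) : Nat.gcd (p ^ f - 1) 2 = 2 := by
  have hodd : Odd p := hp.odd_of_ne_two hp2
  have hq : Odd (p ^ f) := hodd.pow
  have h1 : 1 ≤ p ^ f := Nat.one_le_pow _ _ hp.pos
  apply Nat.gcd_eq_right
  obtain ⟨k, hk⟩ := hq
  exact ⟨k, by omega⟩

theorem card_aut_D4 {F : Type*} [Field F] [Fintype F] (p f : ℕ) [Fact p.Prime] (hf : 1 ≤ f)
    (hF : Fintype.card F = p ^ f) :
    Nat.card (MulAut (Cfsg.POmega F (Cfsg.quadFormPlus 4 F))) =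
      3 * (if p = 2 then 2 else 8) * f * Nat.card (Cfsg.POmega F (Cfsg.quadFormPlus 4 F)) := by
  obtain ⟨e⟩ := Cfsg.Agent.Lib.Helper14_D4Iso.d4_iso (F := F)
  rw [← Cfsg.Agent.Lib.Helper45_OutTransport.card_mulAut_congr e,
    Cfsg.Agent.Lib.Helper45_OutTransport.card_mulAut_eq Cfsg.Agent.Lib.Helper18_D4OutA.centerD4,
    Cfsg.Agent.Lib.Helper18_D4OutA.card_out_chevD4 hF, Nat.card_congr e.toEquiv, hF]
  congr 1
  split_ifs with h2
  · subst h2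
    rw [gcd_two_pow_sub_one hf]
    ring
  · rw [gcd_odd_pow_sub_one (Fact.out : p.Prime) h2]
    ring

theorem out_D4_even {F : Type*} [Field F] [Fintype F] {f : ℕ} (hf : 1 ≤ f)
    (hF : Fintype.card F = 2 ^ f) :
    Nonempty (Cfsg.Out (Cfsg.POmega F (Cfsg.quadFormPlus 4 F)) ≃*
      Equiv.Perm (Fin 3) × Multiplicative (ZMod f)) := by
  obtain ⟨e⟩ := Cfsg.Agent.Lib.Helper14_D4Iso.d4_iso (F := F)
  obtain ⟨e'⟩ := Cfsg.Agent.Lib.Helper18_D4OutB.out_chevD4_even hF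
  exact ⟨(Cfsg.Agent.Lib.Helper45_OutTransport.outCongr e).symm.trans e'⟩

theorem out_D4_odd {F : Type*} [Field F] [Fintype F] {p f : ℕ} [Fact p.Prime] (hf : 1 ≤ f)
    (hF : Fintype.card F = p ^ f) (hp : p ≠ 2) :
    Nonempty (Cfsg.Out (Cfsg.POmega F (Cfsg.quadFormPlus 4 F)) ≃*
      Equiv.Perm (Fin 4) × Multiplicative (ZMod f)) := by
  obtain ⟨e⟩ := Cfsg.Agent.Lib.Helper14_D4Iso.d4_iso (F := F)
  obtain ⟨e'⟩ := Cfsg.Agent.Lib.Helper18_D4OutC.out_chevD4_odd hF hp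
  exact ⟨(Cfsg.Agent.Lib.Helper45_OutTransport.outCongr e).symm.trans e'⟩

end Cfsg.Agent.Lib.Helper14_D4Out
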