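import Mathlib
import Cfsg.Prelude.Def_Characters

/-!
# Definitions for S3331 (Feit–Thompson: groups with a self-centralizing subgroup of order 3)

Architect: helper6.  Paper proof: team finding 167 = `pending/helper6/S3331_endgame.md`.
Package statements: `pending/helper6/FT3_packages.lean.txt`.
-/

set_option autoImplicit false

namespace Cfsg.Agent.Lib.Helper6_FT3Defs

universe u

/-- The hypothesis of S3331: `X` has order 3 and is its own centralizer. -/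
def Hyp (G : Type u) [Group G] (X : Subgroup G) : Prop :=
  Nat.card X = 3 ∧ Subgroup.centralizer (X : Set G) = X

/-- The conclusion of S3331 (verbatim). -/
def Concl (G : Type u) [Group G] : Prop :=
  (∃ (N : Subgroup G) (hN : N.Normal), Group.IsNilpotent N ∧ (Nat.card N).Coprime 3 ∧
        (Nat.card (G ⧸ N) = 3 ∨ Nonempty (G ⧸ N ≃* Equiv.Perm (Fin 3)))) ∨
    (∃ (N : Subgroup G) (hN : N.Normal), IsMulCommutative N ∧ (∀ n ∈ N, n ^ 2 = 1) ∧
        Nonempty (G ⧸ N ≃* alternatingGroup (Fin 5))) ∨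
    Nonempty (G ≃* Matrix.ProjectiveSpecialLinearGroup (Fin 2) (ZMod 7))

/-- The induction hypothesis: the theorem for all groups (in the same universe) of smaller order. -/
def IH (G : Type u) [Group G] : Prop :=
  ∀ (H : Type u) [Group H] [Finite H], Nat.card H < Nat.card G →
    ∀ Y : Subgroup H, Hyp H Y → Concl H

/-- `A` is an `X`-signalizer: a subgroup of order prime to 3 normalized by `X`. -/
def IsSig {G : Type u} [Group G] (X A : Subgroup G) : Prop :=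
  X ≤ Subgroup.normalizer (A : Set G) ∧ ¬ 3 ∣ Nat.card A

/-- `A` is a maximal `X`-signalizer. -/
def IsMaxSig {G : Type u} [Group G] (X A : Subgroup G) : Prop :=
  IsSig X A ∧ ∀ B : Subgroup G, IsSig X B → A ≤ B → B = A

/-- Conjugate of a subgroup. -/
abbrev cj {G : Type u} [Group G] (g : G) (A : Subgroup G) : Subgroup G :=
  A.map (MulAut.conj g).toMonoidHom

/-- The union of all `X`-signalizers. -/
def sigUnion {G : Type u} [Group G] (X : Subgroup G) : Set G :=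
  {v | ∃ A : Subgroup G, IsSig X A ∧ v ∈ A}

/-- The maximal `X`-signalizers of even order. -/
def evenMembers {G : Type u} [Group G] (X : Subgroup G) : Set (Subgroup G) :=
  {A | IsMaxSig X A ∧ 2 ∣ Nat.card A}

/-- The nontrivial maximal `X`-signalizers of odd order. -/
def oddMembers {G : Type u} [Group G] (X : Subgroup G) : Set (Subgroup G) :=
  {A | IsMaxSig X A ∧ ¬ 2 ∣ Nat.card A ∧ A ≠ ⊥}

/-- The `X`-invariant Klein four-subgroups. -/
def fourGroups {G : Type u} [Group G] (X : Subgroup G) : Set (Subgroup G) :=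
  {V | IsKleinFour V ∧ X ≤ Subgroup.normalizer (V : Set G)}

/-- The three irreducible characters not vanishing on `X \ 1` (case `|N_G(X)| = 6`):
`1`, `θ` (`θ(x) = 1`, degree `d`) and `φ` (`φ(x) = -1`, degree `d + 1`). -/
structure ThreeChars (G : Type u) [Group G] (X : Subgroup G) where
  d : ℕ
  θ : G → ℂ
  φ : G → ℂ
  hθ : Cfsg.IsIrrCharacter G θ
  hφ : Cfsg.IsIrrCharacter G φ
  hθ1 : θ 1 = d
  hφ1 : φ 1 = d + 1
  hd3 : d % 3 = 1
  hθne : θ ≠ (fun _ => 1)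
  hθx : ∀ x ∈ X, x ≠ 1 → θ x = 1
  hφx : ∀ x ∈ X, x ≠ 1 → φ x = -1
  /-- every other irreducible character vanishes on `X \ 1` -/
  hother : ∀ χ : G → ℂ, Cfsg.IsIrrCharacter G χ → χ ≠ θ → χ ≠ φ → χ ≠ (fun _ => 1) →
    ∀ x ∈ X, x ≠ 1 → χ x = 0
  /-- `φ = 1 + θ` on 3-regular elements -/
  hreg : ∀ g : G, ¬ 3 ∣ orderOf g → φ g = 1 + θ g

/-- The numerical data delivered by the character theory in the simple case
(`d = θ(1)`, `a = θ(t)`, `m = |C(t)|/(d-a)`), together with the integer valued class function `θ`. -/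
structure CharData (G : Type u) [Group G] (X : Subgroup G) where
  d : ℕ
  m : ℕ
  a : ℤ
  θ : G → ℤ
  hd4 : 4 ≤ d
  hd3 : d % 3 = 1
  hm : 1 ≤ m
  /-- `|G| = 3 d (d+1) m²` -/
  hcard : Nat.card G = 3 * d * (d + 1) * m ^ 2
  /-- all involutions are conjugate -/
  hconj : ∀ s t : G, orderOf s = 2 → orderOf t = 2 → IsConj s t
  /-- value at involutions -/
  hθt : ∀ t : G, orderOf t = 2 → θ t = a
  /-- `|C(t)| = m (d - a)` -/
  hcent : ∀ t : G, orderOf t = 2 →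
    (Nat.card (Subgroup.centralizer ({t} : Set G)) : ℤ) = m * (d - a)
  /-- `a ≤ (d-4)/3` (multiplicity of the sign character in `φ|_{N(X)}`) -/
  ha_le : 3 * a ≤ (d : ℤ) - 4
  /-- `tau(g) = m (d - θ g)` for 3-regular `g ≠ 1` -/
  htau : ∀ g : G, g ≠ 1 → ¬ 3 ∣ orderOf g →
    (Nat.card {s : G // orderOf s = 2 ∧ orderOf (s * g) = 3} : ℤ) = m * (d - θ g)
  /-- `θ(1) = d` -/
  hθ1 : θ 1 = d
  /-- `θ(g) < d` for `g ≠ 1` (faithfulness) -/
  hθlt : ∀ g : G, g ≠ 1 → θ g < d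
  /-- the number of involutions `s` with `s x` of order 3 (for any `x ∈ X`, `x ≠ 1`) -/
  hw : ∀ x ∈ X, x ≠ 1 →
    (Nat.card {s : G // orderOf s = 2 ∧ orderOf (s * x) = 3} : ℤ) * (d - a) =
      m * (d ^ 2 + 2 * d + (2 * d + 1) * a)
  /-- `|U| = m² (d²+d+1)/3` -/
  hU : ∀ x ∈ X, x ≠ 1 →
    3 * Nat.card {v : G // orderOf (v * x) = 3 ∧ orderOf (v * x⁻¹) = 3} = m ^ 2 * (d ^ 2 + d + 1)
  /-- restriction to a Klein four-group normalized by `X`: `12 ∣ d + 3a - 4 ≥ 0` (so `4 ∣ d - a`) -/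
  hV : (∃ V : Subgroup G, IsKleinFour V ∧ X ≤ Subgroup.normalizer (V : Set G)) →
    (12 : ℤ) ∣ (d : ℤ) + 3 * a - 4 ∧ 0 ≤ (d : ℤ) + 3 * a - 4
  /-- `θ` is a class function -/
  hθcl : ∀ g h : G, θ (h * g * h⁻¹) = θ g
  /-- for an `X`-signalizer `B`, `θ|_B` contains the trivial character: `∑_{b ∈ B} θ b ≥ |B|` -/
  hsig : ∀ B : Subgroup G, IsSig X B → ∀ [Fintype B], (Fintype.card B : ℤ) ≤ ∑ b : B, θ (b : G)

/-- The bound for the even members (`d - a = 4 e`, `c = |C(t)| = 4 m e`). -/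
def EV (m e w : ℕ) : ℕ :=
  if (4 * m * e) % 3 = 2 then w * (2 * m * e - 1)
  else min 2 w * (4 * m * e - 1) + (w - min 2 w) * (m * e - 1)

/-- The purely numerical hypotheses of the arithmetic lemma (`d - a = 4 e`, `w` = number of
`X`-invariant four-groups, `os` = orders of the odd members). -/
structure NumHyp (d m e w : ℕ) (os : Finset ℕ) : Prop where
  hd4 : 4 ≤ d
  hd3 : d % 3 = 1
  hm : 1 ≤ m
  hm3 : ¬ 3 ∣ m
  he3 : ¬ 3 ∣ e
  /-- `a ≤ (d-4)/3` -/
  he_lo : d + 2 ≤ 6 * e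
  /-- `a ≥ (4-d)/3` -/
  he_hi : 3 * e + 1 ≤ d
  /-- `3 w (d - a) = m (d² + 2d + (2d+1) a)` with `a = d - 4e` -/
  hw : 12 * w * e + 4 * m * e * (2 * d + 1) = m * (3 * d ^ 2 + 3 * d)
  hos_dvd : ∀ o ∈ os, o ∣ 3 * d * (d + 1) * m ^ 2
  hos_hall : ∀ o ∈ os, o.Coprime (3 * d * (d + 1) * m ^ 2 / o)
  hos_mod : ∀ o ∈ os, o % 6 = 1
  hos_gt : ∀ o ∈ os, 1 < o
  hos_le : ∀ o ∈ os, 6 * o ≤ 7 * m * (d - 1)
  hos_cop : ∀ o ∈ os, ∀ o' ∈ os, o ≠ o' → o.Coprime o'
  /-- the signalizer inequality `|U| - 1 ≤ EV + 2 ∑ (o - 1)` times 3 -/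
  hineq : m ^ 2 * (d ^ 2 + d + 1) ≤ 3 * (1 + EV m e w + 2 * ∑ o ∈ os, (o - 1))

end Cfsg.Agent.Lib.Helper6_FT3Defs
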