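import Mathlib
import Cfsg.Agent.Lib.Helper6_FT3Defs

/-!
# S3331 package ODDN (architect helper6): the normalizer of a normal `p`-subgroup of an odd maximal signalizer
-/

set_option autoImplicit false

namespace Cfsg.Agent.Lib.Helper14_FT3_ODDN

open Cfsg Cfsg.Agent.Lib.Helper6_FT3Defs

universe u

variable {G : Type u} [Group G] [Finite G] {X : Subgroup G}

omit [Finite G] in
/-- The hypothesis passes to any subgroup containing `X`. -/
theorem hyp_subgroupOf (h : Hyp G X) {H : Subgroup G} (hXH : X ≤ H) : Hyp H (X.subgroupOf H) := by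
  refine ⟨?_, ?_⟩
  · rw [Nat.card_congr (Subgroup.subgroupOfEquivOfLe hXH).toEquiv]
    exact h.1
  · ext z
    rw [Subgroup.mem_subgroupOf]
    constructor
    · intro hz
      have h1 : (z : G) ∈ Subgroup.centralizer (X : Set G) := by
        rw [Subgroup.mem_centralizer_iff]
        intro y hy
        have h2 := hz ⟨y, hXH hy⟩ (by
          show (⟨y, hXH hy⟩ : H) ∈ X.subgroupOf H
          rw [Subgroup.mem_subgroupOf]
          exact hy)
        exact congrArg Subtype.val h2
      rwa [h.2] at h1
    · intro hz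
      rw [Subgroup.mem_centralizer_iff]
      intro y hy
      have hy' : (y : G) ∈ X := by
        have : y ∈ X.subgroupOf H := hy
        rwa [Subgroup.mem_subgroupOf] at this
      have h1 : (z : G) ∈ Subgroup.centralizer (X : Set G) := by
        rw [h.2]
        exact hz
      rw [Subgroup.mem_centralizer_iff] at h1
      exact Subtype.ext (h1 y hy')

/-- Numerical part of Type I. -/
theorem typeI_numeric {a n₁ c m hh : ℕ} (hn₁ : 0 < n₁) (hc : c = 3 ∨ c = 6) (hH : hh = c * n₁)
    (hna : n₁ ∣ a) (h3a : ¬ 3 ∣ a) (ham : 3 * a ∣ m) (hm : m ∣ hh) :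
    (a = n₁ ∨ hh ≤ m) ∧ hh ∣ 6 * a := by
  obtain ⟨j, rfl⟩ := hna
  have hj : 0 < j := by
    rcases Nat.eq_zero_or_pos j with rfl | h
    · simp at h3a
    · exact h
  have h1 : 3 * (n₁ * j) ∣ c * n₁ := by
    rw [← hH]
    exact ham.trans hm
  have h2 : 3 * j ∣ c := by
    have : n₁ * (3 * j) ∣ n₁ * c := by
      have e1 : n₁ * (3 * j) = 3 * (n₁ * j) := by ring
      have e2 : n₁ * c = c * n₁ := by ring
      rw [e1, e2]
      exact h1
    exact (Nat.mul_dvd_mul_iff_left hn₁).1 this
  have h3j : ¬ 3 ∣ j := fun h => h3a (Dvd.dvd.mul_left h n₁)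
  have hc6 : c ∣ 6 := by
    rcases hc with rfl | rfl <;> norm_num
  refine ⟨?_, ?_⟩
  · rcases hc with rfl | rfl
    · left
      obtain ⟨k, hk⟩ := h2
      have : j = 1 := by
        have h5 : 3 * (j * k) = 3 := by rw [← mul_assoc]; exact hk.symm
        have : j * k = 1 := by omega
        exact Nat.eq_one_of_mul_eq_one_right this
      rw [this, mul_one]
    · obtain ⟨k, hk⟩ := h2
      have h5 : 3 * (j * k) = 6 := by rw [← mul_assoc]; exact hk.symm
      have hjk : j * k = 2 := by omega
      have hj2 : j ∣ 2 := ⟨k, hjk.symm⟩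
      have hjle : j ≤ 2 := Nat.le_of_dvd (by norm_num) hj2
      interval_cases j
      · left; rw [mul_one]
      · right
        have h4 : 3 * (n₁ * 2) ≤ m := by
          refine Nat.le_of_dvd ?_ ham
          rcases Nat.eq_zero_or_pos m with rfl | h
          · rw [hH] at hm
            have := Nat.eq_zero_of_zero_dvd hm
            omega
          · exact h
        omega
  · rw [hH]
    exact Nat.mul_dvd_mul hc6 (Dvd.intro j rfl)

theorem odd_normalizer (h : Hyp G X) [IsSimpleGroup G] (hna : ∃ a b : G, a * b ≠ b * a) (ih : IH G)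
    {A : Subgroup G} (hA : IsMaxSig X A) {p : ℕ} [Fact p.Prime] (hp2 : p ≠ 2)
    (P : Subgroup G) (hPA : P ≤ A) (hP1 : P ≠ ⊥) (hP : IsPGroup p P)
    (hAP : A ≤ Subgroup.normalizer (P : Set G)) (hXP : X ≤ Subgroup.normalizer (P : Set G)) :
    Subgroup.normalizer (P : Set G) ≤ Subgroup.normalizer (A : Set G) ∧
      Nat.card (Subgroup.normalizer (P : Set G)) ∣ 6 * Nat.card A := by
  have hpp : p.Prime := Fact.out
  have h3A : ¬ 3 ∣ Nat.card A := hA.1.2
  have hXA : X ≤ Subgroup.normalizer (A : Set G) := hA.1.1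
  -- `p` divides `|P|`, hence `|A|`
  have hpP : p ∣ Nat.card P := by
    obtain ⟨k, hk⟩ := IsPGroup.iff_card.1 hP
    rcases Nat.eq_zero_or_pos k with rfl | hk0
    · exfalso
      apply hP1
      rw [pow_zero] at hk
      exact Subgroup.card_eq_one.1 hk
    · rw [hk]
      exact dvd_pow_self p hk0.ne'
  have hpA : p ∣ Nat.card A := hpP.trans (Subgroup.card_dvd_of_le hPA)
  have hp3 : p ≠ 3 := by
    rintro rfl
    exact h3A hpA
  have h3G : 3 ∣ Nat.card G := by
    rw [← h.1]
    exact Subgroup.card_subgroup_dvd_card X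
  -- the normalizer is proper
  have hHne : Subgroup.normalizer (P : Set G) ≠ ⊤ := by
    intro htop
    have hPn : P.Normal := Subgroup.normalizer_eq_top_iff.1 htop
    rcases hPn.eq_bot_or_eq_top with h0 | h1
    · exact hP1 h0
    · have hAtop : A = ⊤ := top_le_iff.1 (h1 ▸ hPA)
      apply h3A
      rw [hAtop, Subgroup.card_top]
      exact h3G
  have hHlt : Nat.card (Subgroup.normalizer (P : Set G)) < Nat.card G := by
    rcases lt_or_eq_of_le (Subgroup.card_le_card_group (Subgroup.normalizer (P : Set G))) with h1 | h1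
    · exact h1
    · exact absurd (Subgroup.eq_top_of_card_eq _ h1) hHne
  have hY := hyp_subgroupOf h hXP
  have hC := ih (Subgroup.normalizer (P : Set G)) hHlt (X.subgroupOf _) hY
  set H : Subgroup G := Subgroup.normalizer (P : Set G) with hHdef
  have hP'n : (P.subgroupOf H).Normal := Subgroup.normal_in_normalizer
  have hP' : IsPGroup p (P.subgroupOf H) := hP.comap_subtype
  -- elements of `P` viewed in `H`
  have hmemP' : ∀ x : G, ∀ hx : x ∈ H, (⟨x, hx⟩ : H) ∈ P.subgroupOf H ↔ x ∈ P := by
    intro x hx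
    rw [Subgroup.mem_subgroupOf]
  have hPH : P ≤ H := Subgroup.le_normalizer
  rcases hC with ⟨N, hNn, hnil, hcop, hq⟩ | ⟨N, hNn, hcomm, hexp, ⟨e⟩⟩ | ⟨⟨e⟩⟩
  · -- Type I
    have hNn' : N.Normal := hNn
    set N₁ : Subgroup G := N.map H.subtype with hN₁
    have hcN : Nat.card N₁ = Nat.card N := Subgroup.card_map_of_injective H.subtype_injective
    have h3N : ¬ 3 ∣ Nat.card N := by
      intro hd
      have h1 := Nat.Coprime.eq_one_of_dvd hcop.symm hd
      omega
    have hN₁H : N₁ ≤ H := Subgroup.map_subtype_le N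
    have hHN₁ : H ≤ Subgroup.normalizer (N₁ : Set G) := by
      have h1 := Subgroup.le_normalizer_map (H := N) H.subtype
      rw [Subgroup.normalizer_eq_top, ← MonoidHom.range_eq_map, Subgroup.range_subtype] at h1
      exact h1
    -- `B = A N₁` is a signalizer
    have hXB : X ≤ Subgroup.normalizer ((A ⊔ N₁ : Subgroup G) : Set G) := fun x hx =>
      Subgroup.normalizer_inf_normalizer_le_normalizer_sup A N₁ ⟨hXA hx, hHN₁ (hXP hx)⟩
    have hBeq : A ⊔ N₁ = (A.subgroupOf H ⊔ N).map H.subtype := by
      rw [Subgroup.map_sup, Subgroup.map_subgroupOf_eq_of_le hAP]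
    have hcB : Nat.card (A ⊔ N₁ : Subgroup G) = Nat.card N * N.relIndex (A.subgroupOf H) := by
      rw [hBeq, Subgroup.card_map_of_injective H.subtype_injective]
      have h1 := Subgroup.relIndex_mul_relIndex (H := (⊥ : Subgroup H)) (K := N)
        (L := A.subgroupOf H ⊔ N) bot_le le_sup_right
      rw [Subgroup.relIndex_bot_left, Subgroup.relIndex_bot_left, Subgroup.relIndex_sup_right] at h1
      exact h1.symm
    have hcA' : Nat.card (A.subgroupOf H) = Nat.card A :=
      Nat.card_congr (Subgroup.subgroupOfEquivOfLe hAP).toEquiv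
    have h3B : ¬ 3 ∣ Nat.card (A ⊔ N₁ : Subgroup G) := by
      rw [hcB]
      intro hd
      rcases (Nat.Prime.dvd_mul Nat.prime_three).1 hd with h1 | h1
      · exact h3N h1
      · apply h3A
        rw [← hcA']
        exact h1.trans (Subgroup.relIndex_dvd_card _ _)
    have hBA : A ⊔ N₁ = A := hA.2 _ ⟨hXB, h3B⟩ le_sup_left
    have hN₁A : N₁ ≤ A := by
      rw [← hBA]
      exact le_sup_right
    -- numerics
    have hc : Nat.card (H ⧸ N) = 3 ∨ Nat.card (H ⧸ N) = 6 := by
      rcases hq with h1 | ⟨⟨e⟩⟩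
      · exact Or.inl h1
      · right
        rw [Nat.card_congr e.toEquiv, Nat.card_perm, Nat.card_eq_fintype_card, Fintype.card_fin]
        rfl
    have hcH : Nat.card H = Nat.card (H ⧸ N) * Nat.card N₁ := by
      rw [hcN]
      exact Subgroup.card_eq_card_quotient_mul_card_subgroup N
    have hMH : X ⊔ A ≤ H := sup_le hXP hAP
    have hMA : X ⊔ A ≤ Subgroup.normalizer (A : Set G) := sup_le hXA Subgroup.le_normalizer
    have ham : 3 * Nat.card A ∣ Nat.card (X ⊔ A : Subgroup G) := by
      apply Nat.Coprime.mul_dvd_of_dvd_of_dvd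
      · exact (Nat.Prime.coprime_iff_not_dvd Nat.prime_three).2 h3A
      · rw [← h.1]
        exact Subgroup.card_dvd_of_le le_sup_left
      · exact Subgroup.card_dvd_of_le le_sup_right
    have hm : Nat.card (X ⊔ A : Subgroup G) ∣ Nat.card H := Subgroup.card_dvd_of_le hMH
    have hnum := typeI_numeric (a := Nat.card A) (n₁ := Nat.card N₁) (c := Nat.card (H ⧸ N))
      (m := Nat.card (X ⊔ A : Subgroup G)) (hh := Nat.card H) Nat.card_pos hc hcH
      (Subgroup.card_dvd_of_le hN₁A) h3A ham hm
    refine ⟨?_, hnum.2⟩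
    rcases hnum.1 with h1 | h1
    · have : N₁ = A := Subgroup.eq_of_le_of_card_ge hN₁A (le_of_eq h1)
      rw [← this]
      exact hHN₁
    · have : X ⊔ A = H := Subgroup.eq_of_le_of_card_ge hMH h1
      rw [← this]
      exact hMA
  · -- Type II
    exfalso
    have hNn' : N.Normal := hNn
    have hQn : ((P.subgroupOf H).map (QuotientGroup.mk' N)).Normal :=
      Subgroup.Normal.map hP'n _ (QuotientGroup.mk'_surjective N)
    have hQ'n : (((P.subgroupOf H).map (QuotientGroup.mk' N)).map e.toMonoidHom).Normal :=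
      Subgroup.Normal.map hQn _ e.surjective
    have hs5 : IsSimpleGroup (alternatingGroup (Fin 5)) := alternatingGroup.isSimpleGroup (by simp)
    rcases hQ'n.eq_bot_or_eq_top with h0 | h1
    · -- `P ≤ N`
      rw [Subgroup.map_eq_bot_iff_of_injective _ e.injective, Subgroup.map_eq_bot_iff,
        QuotientGroup.ker_mk'] at h0
      apply hP1
      rw [Subgroup.eq_bot_iff_forall]
      intro x hx
      have hxN : (⟨x, hPH hx⟩ : H) ∈ N := h0 ((hmemP' x (hPH hx)).2 hx)
      have hx2 : x ^ 2 = 1 := by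
        have := hexp _ hxN
        exact congrArg Subtype.val this
      obtain ⟨k, hk⟩ := hP ⟨x, hx⟩
      have hxk : x ^ p ^ k = 1 := congrArg Subtype.val hk
      have h2 : orderOf x ∣ 2 := orderOf_dvd_of_pow_eq_one hx2
      have h3 : orderOf x ∣ p ^ k := orderOf_dvd_of_pow_eq_one hxk
      have hco : Nat.Coprime 2 (p ^ k) := by
        apply Nat.Coprime.pow_right
        rw [Nat.coprime_primes Nat.prime_two hpp]
        exact fun h => hp2 h.symm
      have : orderOf x = 1 := Nat.eq_one_of_dvd_coprimes hco h2 h3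
      exact orderOf_eq_one_iff.1 this
    · -- `A5` would be a `p`-group
      have hQ'p : IsPGroup p (((P.subgroupOf H).map (QuotientGroup.mk' N)).map e.toMonoidHom) :=
        (hP'.map _).map _
      obtain ⟨k, hk⟩ := IsPGroup.iff_card.1 hQ'p
      rw [h1, Subgroup.card_top, nat_card_alternatingGroup] at hk
      have h60 : (Nat.card (Fin 5)).factorial / 2 = 60 := by
        rw [Nat.card_eq_fintype_card, Fintype.card_fin]
        rfl
      rw [h60] at hk
      have h2 : 2 ∣ p ^ k := by
        rw [← hk]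
        norm_num
      have := (Nat.prime_dvd_prime_iff_eq Nat.prime_two hpp).1 (Nat.prime_two.dvd_of_dvd_pow h2)
      exact hp2 this.symm
  · -- Type III
    exfalso
    have : Fact (Nat.Prime 7) := ⟨by norm_num⟩
    have hs7 : IsSimpleGroup (Matrix.ProjectiveSpecialLinearGroup (Fin 2) (ZMod 7)) :=
      Matrix.ProjectiveSpecialLinearGroup.rank_two_simple (by
        rw [Nat.card_zmod]
        norm_num)
    have hQn : ((P.subgroupOf H).map e.toMonoidHom).Normal :=
      Subgroup.Normal.map hP'n _ e.surjective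
    rcases hQn.eq_bot_or_eq_top with h0 | h1
    · rw [Subgroup.map_eq_bot_iff_of_injective _ e.injective] at h0
      apply hP1
      rw [Subgroup.eq_bot_iff_forall]
      intro x hx
      have h1 : (⟨x, hPH hx⟩ : H) ∈ P.subgroupOf H := (hmemP' x (hPH hx)).2 hx
      rw [h0, Subgroup.mem_bot] at h1
      exact congrArg Subtype.val h1
    · -- `P = H ≥ X`
      have hXle : X ≤ P := by
        intro x hx
        have h2 : e ⟨x, hXP hx⟩ ∈ (P.subgroupOf H).map e.toMonoidHom := by
          rw [h1]
          exact Subgroup.mem_top _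
        obtain ⟨y, hy, hye⟩ := Subgroup.mem_map.1 h2
        have : y = ⟨x, hXP hx⟩ := e.injective hye
        rw [this] at hy
        exact (hmemP' x (hXP hx)).1 hy
      apply h3A
      rw [← h.1]
      exact Subgroup.card_dvd_of_le (hXle.trans hPA)

end Cfsg.Agent.Lib.Helper14_FT3_ODDN
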