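import Mathlib
import Cfsg.Agent.Lib.Helper14_PSLCent
import Cfsg.Agent.Lib.Helper14_SplitClass
import Cfsg.Agent.Lib.Helper14_Char2Groups

set_option autoImplicit false
set_option linter.unusedSectionVars false

/-!
Splitting of `Inndiag(PSL_n)`-classes into `PSL_n`-classes: the number of `T`-classes in the `G`-class of
an automorphism `x` is the index in `Fˣ` of `(Fˣ)ⁿ · det (C)` where `C` is the preimage in `GL_n` of the
centralizer of `x` (helper14).
-/

namespace Cfsg.Agent.Lib.Helper14_PSLSplit

open Matrix Cfsg.Agent.Lib.Helper14_PSLAut Cfsg.Agent.Lib.Helper14_PSLCent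
  Cfsg.Agent.Lib.Helper14_Char2Groups

variable {F : Type*} [Field F] {n : ℕ}

local notation "PSLn" => Matrix.ProjectiveSpecialLinearGroup (Fin n) F
local notation "SLn" => Matrix.SpecialLinearGroup (Fin n) F

theorem conjAut_toGL (s : SLn) :
    conjAut (Matrix.SpecialLinearGroup.toGL s) = MulAut.conj (QuotientGroup.mk s : PSLn) := by
  ext x : 1
  induction x using QuotientGroup.induction_on with
  | H t =>
    rw [conjAut_mk, MulAut.conj_apply]
    show _ = (QuotientGroup.mk (s * t * s⁻¹) : PSLn)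
    congr 1

theorem inn_le_inndiag : Cfsg.Inn PSLn ≤ Cfsg.inndiagPSL n F := by
  rw [inndiagPSL_eq]
  rintro _ ⟨x, rfl⟩
  induction x using QuotientGroup.induction_on with
  | H s => exact ⟨Matrix.SpecialLinearGroup.toGL s, conjAut_toGL s⟩

theorem det_surjective (hn : 0 < n) :
    Function.Surjective (Matrix.GeneralLinearGroup.det : GL (Fin n) F →* Fˣ) := by
  intro x
  have hdet : (Matrix.diagonal (Function.update (fun _ : Fin n => (1 : F)) ⟨0, hn⟩ (x : F))).det = (x : F) := by
    rw [Matrix.det_diagonal, Finset.prod_update_of_mem (Finset.mem_univ _)]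
    simp
  refine ⟨Matrix.GeneralLinearGroup.mkOfDetNeZero
    (Matrix.diagonal (Function.update (fun _ : Fin n => (1 : F)) ⟨0, hn⟩ (x : F))) ?_, ?_⟩
  · rw [hdet]; exact x.ne_zero
  · apply Units.ext
    rw [Matrix.GeneralLinearGroup.val_det_apply]
    exact hdet

theorem det_scalarGL (c : Fˣ) :
    Matrix.GeneralLinearGroup.det (scalarGL c : GL (Fin n) F) = c ^ n := by
  apply Units.ext
  rw [Matrix.GeneralLinearGroup.val_det_apply, scalarGL_coe, Matrix.det_smul, Matrix.det_one, mul_one,
    Fintype.card_fin, Units.val_pow_eq_pow_val]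

/-- The preimage of the inner automorphisms under `conjAut` has determinants the `n`-th powers. -/
theorem map_det_comap_inn :
    ((Cfsg.Inn PSLn).comap (conjAut (n := n) (F := F))).map Matrix.GeneralLinearGroup.det
      = (powMonoidHom n : Fˣ →* Fˣ).range := by
  ext y
  constructor
  · rintro ⟨g, hg, rfl⟩
    obtain ⟨t, ht⟩ := hg
    induction t using QuotientGroup.induction_on with
    | H s =>
      have ht' : conjAut g = conjAut (Matrix.SpecialLinearGroup.toGL s) := by
        rw [conjAut_toGL]; exact ht.symm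
      rw [conjAut_eq_iff, Cfsg.Geo.mem_scalars_iff] at ht'
      obtain ⟨c, hc⟩ := ht'
      refine ⟨c, ?_⟩
      apply Units.ext
      have h1 := congrArg Matrix.det hc
      rw [Units.val_mul, Matrix.det_mul, Matrix.det_smul, Matrix.det_one, mul_one, Fintype.card_fin] at h1
      have h2 : (((Matrix.SpecialLinearGroup.toGL s)⁻¹ : GL (Fin n) F) : Matrix (Fin n) (Fin n) F).det = 1 := by
        rw [← map_inv]
        exact (s⁻¹).2
      rw [h2, one_mul] at h1
      rw [powMonoidHom_apply, Units.val_pow_eq_pow_val, Matrix.GeneralLinearGroup.val_det_apply]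
      exact h1.symm
  · rintro ⟨c, rfl⟩
    refine ⟨scalarGL c, ?_, ?_⟩
    · show conjAut (scalarGL c) ∈ Cfsg.Inn PSLn
      rw [conjAut_eq_one_of_mem_scalars _ (scalarGL_mem c)]
      exact Subgroup.one_mem _
    · rw [det_scalarGL, powMonoidHom_apply]

/-- **Splitting formula** for `Inndiag(PSL_n)`-classes. -/
theorem splitClassCount_eq (hn : 0 < n) (x : MulAut PSLn) :
    Cfsg.splitClassCount (Cfsg.inndiagPSL n F) (Cfsg.Inn PSLn) x =
      ((powMonoidHom n : Fˣ →* Fˣ).range ⊔
        ((Subgroup.centralizer {x}).comap (conjAut (n := n) (F := F))).map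
          Matrix.GeneralLinearGroup.det).index := by
  classical
  have hKH : Cfsg.Inn PSLn ≤ Cfsg.inndiagPSL n F := inn_le_inndiag
  have hN : ((Cfsg.Inn PSLn).subgroupOf (Cfsg.inndiagPSL n F)).Normal := inferInstance
  rw [Cfsg.Agent.Lib.Helper14_SplitClass.splitClassCount_eq_index _ _ hKH hN x]
  let c' : GL (Fin n) F →* ↥(Cfsg.inndiagPSL n F) :=
    (conjAut (n := n) (F := F)).codRestrict (Cfsg.inndiagPSL n F)
      (fun g => by rw [inndiagPSL_eq]; exact ⟨g, rfl⟩)
  have hc' : Function.Surjective c' := by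
    rintro ⟨β, hβ⟩
    have hβ' := hβ
    rw [inndiagPSL_eq] at hβ'
    obtain ⟨g, rfl⟩ := hβ'
    exact ⟨g, rfl⟩
  rw [← Subgroup.index_comap_of_surjective _ hc', ← Subgroup.comap_sup_eq c' _ _ hc']
  have h1 : ((Cfsg.Inn PSLn).subgroupOf (Cfsg.inndiagPSL n F)).comap c'
      = (Cfsg.Inn PSLn).comap (conjAut (n := n) (F := F)) := by
    ext g; rfl
  have h2 : ((Subgroup.centralizer {x}).subgroupOf (Cfsg.inndiagPSL n F)).comap c'
      = (Subgroup.centralizer {x}).comap (conjAut (n := n) (F := F)) := by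
    ext g; rfl
  rw [h1, h2]
  have hker : (Matrix.GeneralLinearGroup.det : GL (Fin n) F →* Fˣ).ker ≤
      (Cfsg.Inn PSLn).comap (conjAut (n := n) (F := F)) ⊔
        (Subgroup.centralizer {x}).comap (conjAut (n := n) (F := F)) := by
    intro g hg
    apply Subgroup.mem_sup_left
    rw [MonoidHom.mem_ker] at hg
    have hdet : (g : Matrix (Fin n) (Fin n) F).det = 1 := by
      rw [← Matrix.GeneralLinearGroup.val_det_apply, hg, Units.val_one]
    set s : SLn := ⟨(g : Matrix (Fin n) (Fin n) F), hdet⟩ with hs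
    have hg' : g = Matrix.SpecialLinearGroup.toGL s := by
      apply Units.ext; rfl
    rw [Subgroup.mem_comap, hg', conjAut_toGL]
    exact ⟨_, rfl⟩
  rw [← Subgroup.index_map_eq _ (det_surjective hn) hker, Subgroup.map_sup, map_det_comap_inn]

end Cfsg.Agent.Lib.Helper14_PSLSplit
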