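import Mathlib
import Cfsg.Agent.Lib.Helper14_FieldAutPSL
import Cfsg.Agent.Lib.Helper14_PSLSplit
import Cfsg.Agent.Lib.Helper13_GU

set_option autoImplicit false
set_option linter.unusedSectionVars false

/-!
Involutory graph-field automorphisms of `PSL_n(F)`: conjugacy to the standard one, the centralizer
`PGU_n`, and the number of `PSL_n`-classes (helper14).
-/

namespace Cfsg.Agent.Lib.Helper14_GraphFieldPSL

open Matrix Cfsg.Agent.Lib.Helper14_PSLAut Cfsg.Agent.Lib.Helper14_PSLCent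
  Cfsg.Agent.Lib.Helper14_PSLGraph Cfsg.Agent.Lib.Helper14_Char2Groups
  Cfsg.Agent.Lib.Helper44_PSLnRoot Cfsg.Agent.Lib.Helper14_FieldAutPSL Cfsg.Agent.Lib.Helper14_PSLSplit

section group

variable {X : Type*} [Group X]

/-- Centralizers (inside `G`) of `G`-conjugate elements are isomorphic. -/
def centConjEquiv (G : Subgroup X) (d : X) (hd : d ∈ G) (x₀ : X) :
    ↥(G ⊓ Subgroup.centralizer {d * x₀ * d⁻¹}) ≃* ↥(G ⊓ Subgroup.centralizer {x₀}) where
  toFun h := ⟨d⁻¹ * h.1 * d, by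
    obtain ⟨h1, h2⟩ := Subgroup.mem_inf.mp h.2
    refine Subgroup.mem_inf.mpr ⟨G.mul_mem (G.mul_mem (G.inv_mem hd) h1) hd, ?_⟩
    rw [Subgroup.mem_centralizer_singleton_iff] at h2 ⊢
    calc d⁻¹ * h.1 * d * x₀ = d⁻¹ * (h.1 * (d * x₀ * d⁻¹)) * d := by group
      _ = d⁻¹ * (d * x₀ * d⁻¹ * h.1) * d := by rw [h2]
      _ = x₀ * (d⁻¹ * h.1 * d) := by group⟩
  invFun h := ⟨d * h.1 * d⁻¹, by
    obtain ⟨h1, h2⟩ := Subgroup.mem_inf.mp h.2
    refine Subgroup.mem_inf.mpr ⟨G.mul_mem (G.mul_mem hd h1) (G.inv_mem hd), ?_⟩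
    rw [Subgroup.mem_centralizer_singleton_iff] at h2 ⊢
    calc d * h.1 * d⁻¹ * (d * x₀ * d⁻¹) = d * (h.1 * x₀) * d⁻¹ := by group
      _ = d * (x₀ * h.1) * d⁻¹ := by rw [h2]
      _ = d * x₀ * d⁻¹ * (d * h.1 * d⁻¹) := by group⟩
  left_inv h := Subtype.ext (by show d * (d⁻¹ * h.1 * d) * d⁻¹ = h.1; group)
  right_inv h := Subtype.ext (by show d⁻¹ * (d * h.1 * d⁻¹) * d = h.1; group)
  map_mul' a b := Subtype.ext (by
    show d⁻¹ * (a.1 * b.1) * d = d⁻¹ * a.1 * d * (d⁻¹ * b.1 * d)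
    group)

/-- Subgroups `range (pow a) ⊔ range (pow b) = range (pow (gcd a b))` in a commutative group. -/
theorem range_pow_sup {C : Type*} [CommGroup C] (a b : ℕ) :
    (powMonoidHom a : C →* C).range ⊔ (powMonoidHom b : C →* C).range
      = (powMonoidHom (Nat.gcd a b) : C →* C).range := by
  apply le_antisymm
  · apply sup_le
    · rintro _ ⟨x, rfl⟩
      obtain ⟨a', ha'⟩ := Nat.gcd_dvd_left a b
      refine ⟨x ^ a', ?_⟩
      simp only [powMonoidHom_apply]
      rw [← pow_mul, mul_comm, ← ha']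
    · rintro _ ⟨x, rfl⟩
      obtain ⟨b', hb'⟩ := Nat.gcd_dvd_right a b
      refine ⟨x ^ b', ?_⟩
      simp only [powMonoidHom_apply]
      rw [← pow_mul, mul_comm, ← hb']
  · rintro _ ⟨x, rfl⟩
    have h := Nat.gcd_eq_gcd_ab a b
    have h1 : x ^ (Nat.gcd a b) = (x ^ (Nat.gcdA a b)) ^ a * (x ^ (Nat.gcdB a b)) ^ b := by
      rw [← zpow_natCast x (Nat.gcd a b), h, _root_.zpow_add, ← zpow_natCast (x ^ Nat.gcdA a b) a,
        ← zpow_natCast (x ^ Nat.gcdB a b) b, ← _root_.zpow_mul, ← _root_.zpow_mul, mul_comm (a : ℤ), mul_comm (b : ℤ)]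
    simp only [powMonoidHom_apply]
    rw [h1]
    exact Subgroup.mul_mem _ (Subgroup.mem_sup_left ⟨_, rfl⟩) (Subgroup.mem_sup_right ⟨_, rfl⟩)

end group

variable {F : Type*} [Field F] {n : ℕ}

local notation "PSLn" => Matrix.ProjectiveSpecialLinearGroup (Fin n) F
local notation "SLn" => Matrix.SpecialLinearGroup (Fin n) F
local notation "Mn" => Matrix (Fin n) (Fin n) F

section cyclic

variable [Fintype F]

/-- In `Fˣ` of order `a * b`, the `a`-torsion is the group of `b`-th powers. -/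
theorem ker_pow_eq_range_pow {a b : ℕ} (hab : Fintype.card F - 1 = a * b) (ha : 0 < a) (hb : 0 < b) :
    (powMonoidHom a : Fˣ →* Fˣ).ker = (powMonoidHom b : Fˣ →* Fˣ).range := by
  have hN : Nat.card Fˣ = a * b := by rw [Nat.card_units, Nat.card_eq_fintype_card, hab]
  symm
  apply Subgroup.eq_of_le_of_card_ge
  · rintro _ ⟨x, rfl⟩
    rw [MonoidHom.mem_ker, powMonoidHom_apply, powMonoidHom_apply, ← pow_mul, mul_comm, ← hN]
    exact pow_card_eq_one'
  · rw [IsCyclic.card_powMonoidHom_ker, IsCyclic.card_powMonoidHom_range, hN,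
      Nat.gcd_eq_right (Dvd.intro_left a rfl), Nat.gcd_eq_right (Dvd.intro b rfl),
      Nat.mul_div_cancel _ hb]

end cyclic

section main

variable [Fintype F] {p f : ℕ} [hp : Fact p.Prime]

/-- **Structure of involutory graph-field automorphisms**: `f` is even and the automorphism is conjugate
under `Inndiag` to the standard one attached to the `p ^ (f / 2)`-th power map. -/
theorem exists_conj_gfAut (hF : Fintype.card F = p ^ f) (hn : 3 ≤ n) (x : MulAut PSLn)
    (hx : Cfsg.IsGraphFieldAutClassPSL x) (hx2 : orderOf x = 2) :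
    Even f ∧ ∃ (σ : F ≃+* F) (k : GL (Fin n) F), (∀ a, σ a = a ^ (p ^ (f / 2))) ∧
      x = conjAut k * gfAut σ * (conjAut k)⁻¹ := by
  obtain ⟨-, α, φ, γ, σ, hσ, hφ, hγ, hconj⟩ := hx
  rw [eq_fieldAut_of_isStd hφ, (isInverseTranspose_iff γ).mp hγ] at hconj
  have hx0 : α * x * α⁻¹ = gfAut σ := hconj
  have hxx : x * x = 1 := by rw [← pow_two, ← hx2, pow_orderOf_eq_one]
  have hsq : (gfAut σ : MulAut PSLn) * gfAut σ = 1 := by
    rw [← hx0]
    calc α * x * α⁻¹ * (α * x * α⁻¹) = α * (x * x) * α⁻¹ := by group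
      _ = 1 := by rw [hxx]; group
  rw [gfAut_mul_self, ← fieldAut_one] at hsq
  have hσσ : σ * σ = 1 := fieldAut_injective hn hsq
  have h2 : ∀ a, σ (σ a) = a := fun a => by
    have := congrArg (fun τ : F ≃+* F => τ a) hσσ
    exact this
  obtain ⟨hev, hpow⟩ := involution_eq_pow hF σ hσ h2
  refine ⟨hev, σ, ?_⟩
  obtain ⟨g, τ, ε, hα⟩ := Cfsg.Agent.Lib.Helper44_PSL2Aut.aut_PSL hF (by omega : 2 ≤ n) α⁻¹
  refine ⟨g, hpow, ?_⟩
  have hx' : x = α⁻¹ * gfAut σ * (α⁻¹)⁻¹ := by rw [← hx0]; group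
  have hτσ : τ * σ = σ * τ := by
    apply RingEquiv.ext
    intro a
    show τ (σ a) = σ (τ a)
    rw [hpow, hpow, map_pow]
  have ht : (fieldAut τ : MulAut PSLn) * gfAut σ = gfAut σ * fieldAut τ := by
    unfold gfAut
    rw [← mul_assoc, ← fieldAut_mul, hτσ, fieldAut_mul, mul_assoc, mul_assoc, itAut_mul_fieldAut]
  have hE : (if ε then itAut else 1 : MulAut PSLn) * gfAut σ = gfAut σ * (if ε then itAut else 1) := by
    cases ε
    · simp
    · simp only [if_true]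
      unfold gfAut
      rw [← mul_assoc, itAut_mul_fieldAut]
  set B : MulAut PSLn := fieldAut τ * (if ε then itAut else 1) with hB
  have hBc : B * gfAut σ = gfAut σ * B := by
    rw [hB, mul_assoc, hE, ← mul_assoc, ht, mul_assoc]
  rw [hx', hα, mul_assoc (conjAut g), ← hB]
  calc conjAut g * B * gfAut σ * (conjAut g * B)⁻¹
      = conjAut g * (B * gfAut σ) * B⁻¹ * (conjAut g)⁻¹ := by group
    _ = conjAut g * gfAut σ * (conjAut g)⁻¹ := by rw [hBc]; group

/-- The preimage in `GL_n` of the centralizer of the standard graph-field automorphism: the similarities of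
the Hermitian form. -/
theorem mem_comap_centralizer_gfAut (σ : F ≃+* F) (g : GL (Fin n) F) :
    g ∈ (Subgroup.centralizer {gfAut σ}).comap (conjAut (n := n) (F := F)) ↔
      ∃ c : Fˣ, ((g : Mn)ᵀ).map σ * (g : Mn) = (c : F) • 1 := by
  rw [Subgroup.mem_comap, Subgroup.mem_centralizer_singleton_iff]
  have h1 : conjAut g * gfAut σ = gfAut σ * conjAut g ↔ conjAut (glMap σ (glT g)⁻¹) = conjAut g := by
    rw [← gfAut_conj, mul_inv_eq_iff_eq_mul, eq_comm]
  rw [h1, conjAut_eq_iff]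
  have h2 : g⁻¹ * glMap σ (glT g)⁻¹ = (glMap σ (glT g) * g)⁻¹ := by rw [_root_.mul_inv_rev, map_inv]
  rw [h2, Subgroup.inv_mem_iff, Cfsg.Geo.mem_scalars_iff]
  rfl

theorem mem_GU_iff_map {q₀ : ℕ} (σ : F ≃+* F) (hσ : ∀ a, σ a = a ^ q₀) (hq₀ : q₀ ≠ 0)
    (g : GL (Fin n) F) :
    g ∈ Cfsg.GU n F q₀ ↔ ((g : Mn)ᵀ).map σ * (g : Mn) = 1 := by
  have hmap : (g : Mn).map (fun x => x ^ q₀) = (g : Mn).map σ := by
    ext i j; simp [hσ]
  constructor
  · intro hg
    have h1 := Cfsg.Agent.Lib.Helper13_GU.transpose_mul_map hq₀ g hg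
    rw [hmap] at h1
    have h3 := congrArg Matrix.transpose h1
    rw [Matrix.transpose_mul, Matrix.transpose_transpose, Matrix.transpose_one] at h3
    exact h3
  · intro h
    have h' : (g : Mn)ᵀ * (g : Mn).map σ = 1 := by
      have h3 := congrArg Matrix.transpose h
      rw [Matrix.transpose_mul, Matrix.transpose_one] at h3
      exact h3
    rw [Cfsg.Agent.Lib.Helper13_GU.mem_GU_iff]
    intro u v
    unfold Cfsg.hermForm
    have h1 : ∀ w : Fin n → F, (fun i => (w i) ^ q₀) = (σ : F →+* F) ∘ w := fun w => by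
      funext i
      show w i ^ q₀ = σ (w i)
      rw [hσ]
    have h4 : ∀ a b : Fin n → F, ∑ i, a i * (b i) ^ q₀ = a ⬝ᵥ ((σ : F →+* F) ∘ b) := by
      intro a b
      unfold dotProduct
      apply Finset.sum_congr rfl
      intro i _
      show a i * b i ^ q₀ = a i * σ (b i)
      rw [hσ]
    rw [h4, h4]
    have h5 : (σ : F →+* F) ∘ ((g : Mn) *ᵥ v) = ((g : Mn).map (σ : F →+* F)) *ᵥ ((σ : F →+* F) ∘ v) := by
      funext i
      exact RingHom.map_mulVec (σ : F →+* F) (g : Mn) v i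
    rw [h5, Matrix.dotProduct_mulVec, ← Matrix.mulVec_transpose, Matrix.mulVec_mulVec]
    have h6 : ((g : Mn).map (σ : F →+* F))ᵀ * (g : Mn) = 1 := h
    rw [h6, Matrix.one_mulVec]

end main

section unitary

variable [Fintype F] {q₀ : ℕ}

theorem card_sub_one_eq (hF : Fintype.card F = q₀ ^ 2) (hq : 1 ≤ q₀) :
    Fintype.card F - 1 = (q₀ - 1) * (q₀ + 1) := by
  obtain ⟨k, rfl⟩ : ∃ k, q₀ = k + 1 := ⟨q₀ - 1, by omega⟩
  rw [hF, Nat.add_sub_cancel]
  have : (k + 1) ^ 2 = k * (k + 1 + 1) + 1 := by ring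
  omega

/-- A similarity of the Hermitian form is a scalar times an isometry. -/
theorem exists_scalar_mul_GU (hn : 0 < n) (hF : Fintype.card F = q₀ ^ 2) (σ : F ≃+* F)
    (hσ : ∀ a, σ a = a ^ q₀) (g : GL (Fin n) F) (c : Fˣ)
    (h : ((g : Mn)ᵀ).map σ * (g : Mn) = (c : F) • 1) :
    ∃ (l : Fˣ) (g₁ : GL (Fin n) F), g₁ ∈ Cfsg.GU n F q₀ ∧ g = scalarGL l * g₁ := by
  have hq2 : 2 ≤ q₀ := Cfsg.Agent.Lib.Helper13_Herm.two_le_q hF
  have hσσ : ∀ a, σ (σ a) = a := fun a => by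
    rw [hσ, hσ, ← pow_mul, ← pow_two, ← hF, FiniteField.pow_card]
  set A : Mn := ((g : Mn)ᵀ).map σ with hA
  have hgi : (g : Mn) * ((g⁻¹ : GL (Fin n) F) : Mn) = 1 := by
    rw [← Units.val_mul, mul_inv_cancel, Units.val_one]
  have hA' : A = (c : F) • ((g⁻¹ : GL (Fin n) F) : Mn) := by
    calc A = A * ((g : Mn) * ((g⁻¹ : GL (Fin n) F) : Mn)) := by rw [hgi, Matrix.mul_one]
      _ = (A * (g : Mn)) * ((g⁻¹ : GL (Fin n) F) : Mn) := by rw [Matrix.mul_assoc]
      _ = (c : F) • ((g⁻¹ : GL (Fin n) F) : Mn) := by rw [h, Matrix.smul_mul, Matrix.one_mul]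
  have hgA : (g : Mn) * A = (c : F) • 1 := by rw [hA', Matrix.mul_smul, hgi]
  have hAσ : (A.map σ)ᵀ = (g : Mn) := by
    ext i j
    simp only [hA, Matrix.transpose_apply, Matrix.map_apply]
    exact hσσ _
  have h3 : (((g : Mn) * A).map σ)ᵀ = (g : Mn) * A := by
    have h4 := Matrix.map_mul (L := (g : Mn)) (M := A) (f := (σ : F →+* F))
    have h5 : ((g : Mn) * A).map σ = (g : Mn).map σ * A.map σ := h4
    rw [h5, Matrix.transpose_mul, hAσ]
    rfl
  rw [hgA] at h3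
  have hσc : σ (c : F) = c := by
    have := congrFun (congrFun h3 ⟨0, hn⟩) ⟨0, hn⟩
    simpa using this
  have hc1 : c ^ (q₀ - 1) = 1 := by
    apply Units.ext
    rw [Units.val_pow_eq_pow_val, Units.val_one]
    have h6 : (c : F) ^ (q₀ - 1) * (c : F) = (c : F) := by
      rw [← pow_succ, Nat.sub_add_cancel (by omega), ← hσ, hσc]
    exact mul_right_cancel₀ c.ne_zero (by rw [h6, one_mul])
  have hker : c ∈ (powMonoidHom (q₀ - 1) : Fˣ →* Fˣ).ker := by
    rw [MonoidHom.mem_ker, powMonoidHom_apply]; exact hc1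
  rw [ker_pow_eq_range_pow (card_sub_one_eq hF (by omega)) (by omega) (by omega)] at hker
  obtain ⟨l, hl⟩ := hker
  rw [powMonoidHom_apply] at hl
  refine ⟨l, (scalarGL l)⁻¹ * g, ?_, by rw [mul_inv_cancel_left]⟩
  rw [mem_GU_iff_map σ hσ (by omega)]
  have e1 : (((scalarGL l)⁻¹ * g : GL (Fin n) F) : Mn) = ((l : F))⁻¹ • (g : Mn) := by
    rw [Units.val_mul]
    show ((((l)⁻¹ : Fˣ) : F) • (1 : Mn)) * (g : Mn) = _
    rw [Matrix.smul_mul, Matrix.one_mul]
    simp
  have e2 : ((((l : F))⁻¹ • (g : Mn))ᵀ).map σ = (σ ((l : F))⁻¹) • A := by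
    ext i j
    simp [hA, Matrix.map_apply, map_mul]
  rw [e1, e2, Matrix.smul_mul, Matrix.mul_smul, h, smul_smul, smul_smul]
  have hl' : (l : F) ^ q₀ * (l : F) = (c : F) := by
    rw [← pow_succ, ← Units.val_pow_eq_pow_val, hl]
  have hl0 : (l : F) ≠ 0 := l.ne_zero
  have : σ ((l : F))⁻¹ * (l : F)⁻¹ * (c : F) = 1 := by
    rw [map_inv₀, hσ, ← hl']
    have : (l : F) ^ q₀ ≠ 0 := pow_ne_zero _ hl0
    field_simp
  rw [this, one_smul]

/-- The centralizer of the standard graph-field automorphism in `Inndiag` is the image of `GU_n`. -/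
theorem inf_centralizer_gfAut (hn : 0 < n) (hF : Fintype.card F = q₀ ^ 2) (σ : F ≃+* F)
    (hσ : ∀ a, σ a = a ^ q₀) :
    Cfsg.inndiagPSL n F ⊓ Subgroup.centralizer {gfAut σ}
      = (Cfsg.GU n F q₀).map (conjAut (n := n) (F := F)) := by
  have hq2 : 2 ≤ q₀ := Cfsg.Agent.Lib.Helper13_Herm.two_le_q hF
  ext β
  rw [Subgroup.mem_inf, inndiagPSL_eq, Subgroup.mem_map]
  constructor
  · rintro ⟨⟨g, rfl⟩, h2⟩
    have hg : g ∈ (Subgroup.centralizer {gfAut σ}).comap (conjAut (n := n) (F := F)) := h2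
    rw [mem_comap_centralizer_gfAut] at hg
    obtain ⟨c, hc⟩ := hg
    obtain ⟨l, g₁, hg₁, rfl⟩ := exists_scalar_mul_GU hn hF σ hσ g c hc
    refine ⟨g₁, hg₁, ?_⟩
    rw [map_mul, conjAut_eq_one_of_mem_scalars _ (scalarGL_mem l), one_mul]
  · rintro ⟨g, hg, rfl⟩
    refine ⟨⟨g, rfl⟩, ?_⟩
    show g ∈ (Subgroup.centralizer {gfAut σ}).comap (conjAut (n := n) (F := F))
    rw [mem_comap_centralizer_gfAut]
    exact ⟨1, by rw [(mem_GU_iff_map σ hσ (by omega) g).mp hg, Units.val_one, one_smul]⟩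

/-- The centralizer of the standard graph-field automorphism in `Inndiag` is `PGU_n`. -/
theorem nonempty_cent_gfAut_equiv (hn : 0 < n) (hF : Fintype.card F = q₀ ^ 2) (σ : F ≃+* F)
    (hσ : ∀ a, σ a = a ^ q₀) :
    Nonempty (↥(Cfsg.inndiagPSL n F ⊓ Subgroup.centralizer {gfAut σ}) ≃* Cfsg.PGU n F q₀) :=
  ⟨(MulEquiv.subgroupCongr (inf_centralizer_gfAut hn hF σ hσ)).trans (projQuotEquivMap _).symm⟩

/-- The class of the standard graph-field automorphism splits into `gcd(n, q₀ - 1)` classes. -/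
theorem count_gfAut (hn : 0 < n) (hF : Fintype.card F = q₀ ^ 2) (σ : F ≃+* F)
    (hσ : ∀ a, σ a = a ^ q₀) :
    Cfsg.splitClassCount (Cfsg.inndiagPSL n F) (Cfsg.Inn PSLn) (gfAut σ) = Nat.gcd n (q₀ - 1) := by
  have hq2 : 2 ≤ q₀ := Cfsg.Agent.Lib.Helper13_Herm.two_le_q hF
  have hN := card_sub_one_eq hF (by omega : 1 ≤ q₀)
  rw [splitClassCount_eq hn]
  have hR : (powMonoidHom (q₀ + 1) : Fˣ →* Fˣ).ker = (powMonoidHom (q₀ - 1) : Fˣ →* Fˣ).range :=
    ker_pow_eq_range_pow (by rw [hN, mul_comm]) (by omega) (by omega)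
  have h1 : ((Subgroup.centralizer {gfAut σ}).comap (conjAut (n := n) (F := F))).map
      Matrix.GeneralLinearGroup.det ≤
      (powMonoidHom n : Fˣ →* Fˣ).range ⊔ (powMonoidHom (q₀ - 1) : Fˣ →* Fˣ).range := by
    rintro _ ⟨g, hg, rfl⟩
    have hg' : g ∈ (Subgroup.centralizer {gfAut σ}).comap (conjAut (n := n) (F := F)) := hg
    rw [mem_comap_centralizer_gfAut] at hg'
    obtain ⟨c, hc⟩ := hg'
    obtain ⟨l, g₁, hg₁, rfl⟩ := exists_scalar_mul_GU hn hF σ hσ g c hc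
    rw [map_mul, det_scalarGL]
    refine Subgroup.mul_mem _ (Subgroup.mem_sup_left ⟨l, rfl⟩) (Subgroup.mem_sup_right ?_)
    rw [← hR, MonoidHom.mem_ker, powMonoidHom_apply]
    exact Cfsg.Agent.Lib.Helper13_GU.det_unit_pow_eq_one hF g₁ hg₁
  have h2 : (powMonoidHom (q₀ - 1) : Fˣ →* Fˣ).range ≤
      ((Subgroup.centralizer {gfAut σ}).comap (conjAut (n := n) (F := F))).map
        Matrix.GeneralLinearGroup.det := by
    rw [← hR]
    intro u hu
    rw [MonoidHom.mem_ker, powMonoidHom_apply] at hu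
    have hmem : Cfsg.Agent.Lib.Helper13_GU.diagGL (Function.update (fun _ : Fin n => (1 : Fˣ)) ⟨0, hn⟩ u)
        ∈ Cfsg.GU n F q₀ := by
      apply Cfsg.Agent.Lib.Helper13_GU.diagGL_mem
      intro i
      by_cases hi : i = ⟨0, hn⟩
      · rw [hi, Function.update_self]; exact hu
      · rw [Function.update_of_ne hi, one_pow]
    refine ⟨Cfsg.Agent.Lib.Helper13_GU.diagGL (Function.update (fun _ : Fin n => (1 : Fˣ)) ⟨0, hn⟩ u),
      ?_, ?_⟩
    · show _ ∈ (Subgroup.centralizer {gfAut σ}).comap (conjAut (n := n) (F := F))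
      rw [mem_comap_centralizer_gfAut]
      exact ⟨1, by rw [(mem_GU_iff_map σ hσ (by omega) _).mp hmem, Units.val_one, one_smul]⟩
    · rw [Cfsg.Agent.Lib.Helper13_GU.det_diagGL, Finset.prod_update_of_mem (Finset.mem_univ _)]
      simp
  have h3 : (powMonoidHom n : Fˣ →* Fˣ).range ⊔
      ((Subgroup.centralizer {gfAut σ}).comap (conjAut (n := n) (F := F))).map
        Matrix.GeneralLinearGroup.det
      = (powMonoidHom n : Fˣ →* Fˣ).range ⊔ (powMonoidHom (q₀ - 1) : Fˣ →* Fˣ).range :=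
    le_antisymm (sup_le le_sup_left h1) (sup_le le_sup_left (h2.trans le_sup_right))
  rw [h3, range_pow_sup, IsCyclic.index_powMonoidHom_range, Nat.card_units, Nat.card_eq_fintype_card, hN]
  apply Nat.gcd_eq_right
  exact Dvd.dvd.mul_right (Nat.gcd_dvd_right n (q₀ - 1)) _

/-- Conjugate automorphisms have the same determinant group of centralizer preimages. -/
theorem map_det_comap_conj (k : GL (Fin n) F) (x₀ : MulAut PSLn) :
    ((Subgroup.centralizer {conjAut k * x₀ * (conjAut k)⁻¹}).comap (conjAut (n := n) (F := F))).map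
        Matrix.GeneralLinearGroup.det
      = ((Subgroup.centralizer {x₀}).comap (conjAut (n := n) (F := F))).map
        Matrix.GeneralLinearGroup.det := by
  ext y
  constructor
  · rintro ⟨g, hg, rfl⟩
    have hg' : conjAut g ∈ Subgroup.centralizer {conjAut k * x₀ * (conjAut k)⁻¹} := hg
    rw [Subgroup.mem_centralizer_singleton_iff] at hg'
    refine ⟨k⁻¹ * g * k, ?_, ?_⟩
    · show conjAut (k⁻¹ * g * k) ∈ Subgroup.centralizer {x₀}
      rw [Subgroup.mem_centralizer_singleton_iff, map_mul, map_mul, map_inv]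
      calc (conjAut k)⁻¹ * conjAut g * conjAut k * x₀
          = (conjAut k)⁻¹ * (conjAut g * (conjAut k * x₀ * (conjAut k)⁻¹)) * conjAut k := by group
        _ = (conjAut k)⁻¹ * (conjAut k * x₀ * (conjAut k)⁻¹ * conjAut g) * conjAut k := by rw [hg']
        _ = x₀ * ((conjAut k)⁻¹ * conjAut g * conjAut k) := by group
    · rw [map_mul, map_mul, map_inv, mul_comm, ← mul_assoc, mul_inv_cancel, one_mul]
  · rintro ⟨g, hg, rfl⟩
    have hg' : conjAut g ∈ Subgroup.centralizer {x₀} := hg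
    rw [Subgroup.mem_centralizer_singleton_iff] at hg'
    refine ⟨k * g * k⁻¹, ?_, ?_⟩
    · show conjAut (k * g * k⁻¹) ∈ Subgroup.centralizer {conjAut k * x₀ * (conjAut k)⁻¹}
      rw [Subgroup.mem_centralizer_singleton_iff, map_mul, map_mul, map_inv]
      calc conjAut k * conjAut g * (conjAut k)⁻¹ * (conjAut k * x₀ * (conjAut k)⁻¹)
          = conjAut k * (conjAut g * x₀) * (conjAut k)⁻¹ := by group
        _ = conjAut k * (x₀ * conjAut g) * (conjAut k)⁻¹ := by rw [hg']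
        _ = conjAut k * x₀ * (conjAut k)⁻¹ * (conjAut k * conjAut g * (conjAut k)⁻¹) := by group
    · rw [map_mul, map_mul, map_inv, mul_comm, ← mul_assoc, inv_mul_cancel, one_mul]

end unitary

end Cfsg.Agent.Lib.Helper14_GraphFieldPSL
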