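import Mathlib
import Cfsg.Agent.Lib.Helper44_OrthPlusMain
import Cfsg.Agent.Lib.Helper14_OrthTop

/-!
# `Inndiag(PΩ⁺_{2m}(q))` is normal in `Aut(PΩ⁺_{2m}(q))` for `m ≥ 5` (helper14)

From `gammaPOmega = ⊤` (S2695) every automorphism is `Phi g * fieldO σ`, and the class character
`chiP` is invariant under field automorphisms (helper44's `map_ker_normal`).
-/

set_option autoImplicit false
set_option linter.unusedSectionVars false
set_option linter.unusedVariables false

namespace Cfsg.Agent.Lib.Helper14_InndiagPlusNormal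

open Cfsg Cfsg.Agent.Lib.Helper44_OrthField Cfsg.Agent.Lib.Helper44_OrthPlusMain
  Cfsg.Agent.Lib.Helper44_StdForms Cfsg.Agent.Lib.Helper44_OrthEvenCoset
  Cfsg.Agent.Lib.Helper44_OrthChi

variable {F : Type*} [Field F] [Fintype F]

theorem dgen_normal_aux {m : ℕ} (Qf : (Fin m ⊕ Fin m → F) → F) (hQf : Qf = ⇑(qfPlus m F))
    (hAut : gammaPOmega F Qf = ⊤) : (Dgen Qf).Normal := by
  subst hQf
  rw [Dgen_eq]
  exact map_ker_normal (qfPlus m F) (stdAut_eq_top _ (sigInv_qfPlus m) hAut) (chiP m)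
    (fun σ g => chiGO_mapGO _ _ _ _ _ (X0_sigma m) σ g)

/-- `Inndiag` is normal whenever every automorphism is induced by a semisimilarity. -/
theorem inndiag_plus_normal_of_top {m : ℕ}
    (hAut : gammaPOmega F (quadFormPlus m F) = ⊤) : (inndiagPOmegaPlus m F).Normal :=
  dgen_normal_aux (quadFormPlus m F) (coe_qfPlus m F).symm hAut

/-- **`Inndiag(PΩ⁺_{2m}(q)) ⊴ Aut(PΩ⁺_{2m}(q))`, `m ≥ 5`.** -/
theorem inndiag_plus_normal {m : ℕ} (hm : 5 ≤ m) : (inndiagPOmegaPlus m F).Normal :=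
  inndiag_plus_normal_of_top (Cfsg.Agent.Lib.Helper14_OrthTop.gamma_plus hm)

end Cfsg.Agent.Lib.Helper14_InndiagPlusNormal
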