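import Cfsg.Agent.Lib.Helper49_KnDefs

/-!
# S3687 market (architect helper49), package ALTPOINT: `as_point`

The point stabilizer `T` of an `AS d M T` configuration (`5 ≤ d`) acts as `AS (d - 1)` on the cosets of
`T ⊓ cj m T` (`m ∈ M ∖ T`), with the same core.

* `double_coset`, `card_point`: the type-level statements (`H` a finite group, `T` a subgroup with
  `d! |core| ≤ 2 |H|`): `H ∖ T` is one double coset of `T`, and `|T| = (d - 1) |T ∩ a T a⁻¹|`.
* `as_double_coset`: the subgroup-level double coset statement.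
* `as_point`: the package statement, verbatim.
-/

set_option linter.unusedSectionVars false

namespace Cfsg.Agent.Lib.Helper41_Kn_ALTPOINT

open Cfsg Cfsg.Agent.Lib.Helper47_TW Cfsg.Agent.Lib.Helper49_KnDefs

universe u v

section TypeLevel

variable {H : Type u} [Group H] [Finite H]

/-- the coset action of `H` on `H ⧸ T` contains the alternating group and is `2`-transitive:
elementary form -/
theorem double_coset (T : Subgroup H) (d : ℕ) (hd : 4 ≤ d) (hcard : Nat.card H = d * Nat.card T)
    (hcore : d.factorial * Nat.card T.normalCore ≤ 2 * Nat.card H) (a b : H) (ha : a ∉ T)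
    (hb : b ∉ T) : ∃ t ∈ T, ∃ t' ∈ T, b = t * a * t' := by
  classical
  let _ : Fintype (H ⧸ T) := Fintype.ofFinite _
  have hX : Nat.card (H ⧸ T) = d := by
    have h1 := T.card_mul_index
    have hT : 0 < Nat.card T := Nat.card_pos
    have h2 : T.index = d := by
      rw [hcard, mul_comm] at h1
      exact Nat.eq_of_mul_eq_mul_right hT h1
    rw [← h2]
    rfl
  have hker : (MulAction.toPermHom H (H ⧸ T)).ker = T.normalCore :=
    (Subgroup.normalCore_eq_ker T).symm
  have hrange : Nat.card (MulAction.toPermHom H (H ⧸ T)).range * Nat.card T.normalCore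
      = Nat.card H := by
    rw [← hker, ← Subgroup.index_ker, mul_comm]
    exact Subgroup.card_mul_index _
  have hperm : Nat.card (Equiv.Perm (H ⧸ T)) = d.factorial := by rw [Nat.card_perm, hX]
  have hidx : (MulAction.toPermHom H (H ⧸ T)).range.index ≤ 2 := by
    have h1 := (MulAction.toPermHom H (H ⧸ T)).range.card_mul_index
    rw [hperm] at h1
    have hK : 0 < Nat.card T.normalCore := Nat.card_pos
    have hR : 0 < Nat.card (MulAction.toPermHom H (H ⧸ T)).range := Nat.card_pos
    have h2 : d.factorial ≤ 2 * Nat.card (MulAction.toPermHom H (H ⧸ T)).range := by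
      rw [← hrange] at hcore
      have : d.factorial * Nat.card T.normalCore
          ≤ (2 * Nat.card (MulAction.toPermHom H (H ⧸ T)).range) * Nat.card T.normalCore := by
        rw [mul_assoc]
        exact hcore
      exact Nat.le_of_mul_le_mul_right this hK
    rw [← h1, mul_comm 2] at h2
    exact Nat.le_of_mul_le_mul_left h2 hR
  have hAlt : alternatingGroup (H ⧸ T) ≤ (MulAction.toPermHom H (H ⧸ T)).range :=
    Equiv.Perm.alternatingGroup_le_of_index_le_two hidx
  have h2t : MulAction.IsMultiplyPretransitive (alternatingGroup (H ⧸ T)) (H ⧸ T) 2 := by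
    have := alternatingGroup.isMultiplyPretransitive (H ⧸ T)
    exact MulAction.isMultiplyPretransitive_of_le (n := Nat.card (H ⧸ T) - 2)
      (by rw [hX]; omega) (by omega)
  rw [MulAction.is_two_pretransitive_iff] at h2t
  have hx0a : ((1 : H) : H ⧸ T) ≠ ((a : H) : H ⧸ T) := by
    intro h
    apply ha
    have := QuotientGroup.eq.mp h
    simpa using this
  have hx0b : ((1 : H) : H ⧸ T) ≠ ((b : H) : H ⧸ T) := by
    intro h
    apply hb
    have := QuotientGroup.eq.mp h
    simpa using this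
  obtain ⟨σ, hσ0, hσa⟩ := h2t hx0a hx0b
  obtain ⟨h, hh⟩ := hAlt σ.2
  have e0 : ∀ c : H, σ • ((c : H) : H ⧸ T) = ((h * c : H) : H ⧸ T) := by
    intro c
    rw [Subgroup.smul_def, Equiv.Perm.smul_def, ← hh]
    rfl
  rw [e0] at hσ0 hσa
  have hhT : h ∈ T := by
    have := QuotientGroup.eq.mp hσ0
    simpa using this
  have h3 : (h * a)⁻¹ * b ∈ T := QuotientGroup.eq.mp hσa
  exact ⟨h, hhT, (h * a)⁻¹ * b, h3, by group⟩

/-- `|T| = (d - 1) |T ∩ a T a⁻¹|` -/
theorem card_point (T : Subgroup H) (d : ℕ) (hd : 4 ≤ d) (hcard : Nat.card H = d * Nat.card T)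
    (hcore : d.factorial * Nat.card T.normalCore ≤ 2 * Nat.card H) (a : H) (ha : a ∉ T) :
    Nat.card T = (d - 1) * Nat.card (T ⊓ T.map (MulAut.conj a).toMonoidHom : Subgroup H) := by
  classical
  have hX : Nat.card (H ⧸ T) = d := by
    have h1 := T.card_mul_index
    have hT : 0 < Nat.card T := Nat.card_pos
    have h2 : T.index = d := by
      rw [hcard, mul_comm] at h1
      exact Nat.eq_of_mul_eq_mul_right hT h1
    rw [← h2]
    rfl
  have horb : MulAction.orbit T ((a : H) : H ⧸ T) = ({((1 : H) : H ⧸ T)} : Set (H ⧸ T))ᶜ := by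
    ext x
    rw [Set.mem_compl_iff, Set.mem_singleton_iff, MulAction.mem_orbit_iff]
    constructor
    · rintro ⟨t, rfl⟩ h
      apply ha
      have h1 : (((t : H) * a : H) : H ⧸ T) = ((1 : H) : H ⧸ T) := h
      have h2 := QuotientGroup.eq.mp h1
      have h3 : a⁻¹ * (t : H)⁻¹ ∈ T := by simpa using h2
      have h4 : a⁻¹ ∈ T := by
        have := T.mul_mem h3 t.2
        simpa using this
      simpa using T.inv_mem h4
    · intro hx
      obtain ⟨b, rfl⟩ := QuotientGroup.mk_surjective x
      have hb : b ∉ T := by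
        intro hb
        apply hx
        apply QuotientGroup.eq.mpr
        simpa using T.inv_mem hb
      obtain ⟨t, ht, t', ht', rfl⟩ := double_coset T d hd hcard hcore a b ha hb
      refine ⟨⟨t, ht⟩, ?_⟩
      show (((t * a : H)) : H ⧸ T) = ((t * a * t' : H) : H ⧸ T)
      apply QuotientGroup.eq.mpr
      have : (t * a)⁻¹ * (t * a * t') = t' := by group
      rw [this]
      exact ht'
  have hncard : (MulAction.orbit T ((a : H) : H ⧸ T)).ncard = d - 1 := by
    rw [horb, Set.ncard_compl, Set.ncard_singleton, hX]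
  have hstab : MulAction.stabilizer T ((a : H) : H ⧸ T)
      = (T.map (MulAut.conj a).toMonoidHom).subgroupOf T := by
    ext t
    rw [Subgroup.mem_subgroupOf, MulAction.mem_stabilizer_iff]
    have h1 : ((a : H) : H ⧸ T) = a • ((1 : H) : H ⧸ T) := by
      show _ = (((a * 1 : H)) : H ⧸ T)
      rw [mul_one]
    have h2 := MulAction.stabilizer_smul_eq_stabilizer_map_conj a ((1 : H) : H ⧸ T)
    rw [MulAction.stabilizer_quotient] at h2
    rw [← h2, MulAction.mem_stabilizer_iff, ← h1]
    rfl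
  have hstabcard : Nat.card (MulAction.stabilizer T ((a : H) : H ⧸ T))
      = Nat.card (T ⊓ T.map (MulAut.conj a).toMonoidHom : Subgroup H) := by
    rw [hstab, ← Subgroup.inf_subgroupOf_left]
    exact Nat.card_congr (Subgroup.subgroupOfEquivOfLe inf_le_left).toEquiv
  have h5 := Subgroup.card_mul_index (MulAction.stabilizer T ((a : H) : H ⧸ T))
  rw [MulAction.index_stabilizer, hncard, hstabcard] at h5
  rw [← h5, mul_comm]

end TypeLevel

section SubgroupLevel

variable {G : Type u} [Group G] [Finite G]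

/-- the hypotheses of the type-level statements, for `↥M` and `T.subgroupOf M` -/
theorem as_transfer {d : ℕ} {M T : Subgroup G} (h : AS d M T) :
    Nat.card M = d * Nat.card (T.subgroupOf M) ∧
    d.factorial * Nat.card (T.subgroupOf M).normalCore ≤ 2 * Nat.card M := by
  obtain ⟨hTM, hc, hk⟩ := h
  have e1 : Nat.card (T.subgroupOf M) = Nat.card T :=
    Nat.card_congr (Subgroup.subgroupOfEquivOfLe hTM).toEquiv
  have e2 : Nat.card (relCore M T) = Nat.card (T.subgroupOf M).normalCore := by
    unfold relCore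
    exact Subgroup.card_map_of_injective M.subtype_injective
  rw [e1, ← e2]
  exact ⟨hc, hk⟩

/-- `M ∖ T` is one double coset of `T` -/
theorem as_double_coset {d : ℕ} {M T : Subgroup G} (h : AS d M T) (hd : 4 ≤ d) {a b : G}
    (ha : a ∈ M) (haT : a ∉ T) (hb : b ∈ M) (hbT : b ∉ T) :
    ∃ t ∈ T, ∃ t' ∈ T, b = t * a * t' := by
  obtain ⟨h1, h2⟩ := as_transfer h
  obtain ⟨t, ht, t', ht', e⟩ := double_coset (T.subgroupOf M) d hd h1 h2 ⟨a, ha⟩ ⟨b, hb⟩
    (by rw [Subgroup.mem_subgroupOf]; exact haT) (by rw [Subgroup.mem_subgroupOf]; exact hbT)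
  exact ⟨t, Subgroup.mem_subgroupOf.mp ht, t', Subgroup.mem_subgroupOf.mp ht',
    congrArg Subtype.val e⟩

/-- PACKAGE ALTPOINT. -/
theorem as_point {d : ℕ} {M T : Subgroup G} (h : AS d M T) (hd : 5 ≤ d) {m : G}
    (hm : m ∈ M) (hmT : m ∉ T) :
    AS (d - 1) T (T ⊓ cj m T) ∧ relCore T (T ⊓ cj m T) = relCore M T := by
  have hTM : T ≤ M := h.1
  have hcore : relCore T (T ⊓ cj m T) = relCore M T := by
    ext x
    rw [mem_relCore, mem_relCore]
    constructor
    · rintro ⟨hxT, hx⟩
      refine ⟨hTM hxT, ?_⟩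
      intro g hg
      by_cases hgT : g ∈ T
      · exact T.mul_mem (T.mul_mem hgT hxT) (T.inv_mem hgT)
      · have hg' : g⁻¹ ∉ T := fun h' => hgT (by simpa using T.inv_mem h')
        obtain ⟨t, ht, t', ht', e⟩ := as_double_coset h (by omega) hm hmT (M.inv_mem hg) hg'
        have hx1 := (hx t⁻¹ (T.inv_mem ht)).2
        obtain ⟨y, hy, hy'⟩ := Subgroup.mem_map.mp hx1
        have hy'' : m * y * m⁻¹ = t⁻¹ * x * t⁻¹⁻¹ := hy'
        have hg_eq : g = t'⁻¹ * m⁻¹ * t⁻¹ := by
          rw [← inv_inv g, e]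
          group
        have e2 : g * x * g⁻¹ = t'⁻¹ * y * t' := by
          have e3 : y = m⁻¹ * (t⁻¹ * x * t⁻¹⁻¹) * m := by
            rw [← hy'']
            group
          rw [e3, hg_eq]
          group
        rw [e2]
        exact T.mul_mem (T.mul_mem (T.inv_mem ht') hy) ht'
    · rintro ⟨hxM, hx⟩
      have hxT : x ∈ T := by simpa using hx 1 M.one_mem
      refine ⟨hxT, fun t ht => ⟨T.mul_mem (T.mul_mem ht hxT) (T.inv_mem ht), ?_⟩⟩
      refine Subgroup.mem_map.mpr ⟨m⁻¹ * (t * x * t⁻¹) * m, ?_, ?_⟩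
      · have h1 := hx (m⁻¹ * t) (M.mul_mem (M.inv_mem hm) (hTM ht))
        have e1 : m⁻¹ * t * x * (m⁻¹ * t)⁻¹ = m⁻¹ * (t * x * t⁻¹) * m := by group
        rwa [e1] at h1
      · show m * (m⁻¹ * (t * x * t⁻¹) * m) * m⁻¹ = t * x * t⁻¹
        group
  refine ⟨⟨inf_le_left, ?_, ?_⟩, hcore⟩
  · obtain ⟨h1, h2⟩ := as_transfer h
    have h3 := card_point (T.subgroupOf M) d (by omega) h1 h2 ⟨m, hm⟩
      (by rw [Subgroup.mem_subgroupOf]; exact hmT)
    have e1 : Nat.card (T.subgroupOf M) = Nat.card T :=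
      Nat.card_congr (Subgroup.subgroupOfEquivOfLe hTM).toEquiv
    have e2 : (T.subgroupOf M ⊓ (T.subgroupOf M).map
        (MulAut.conj (⟨m, hm⟩ : M)).toMonoidHom : Subgroup M) = (T ⊓ cj m T).subgroupOf M := by
      ext ⟨x, hx⟩
      simp only [Subgroup.mem_inf, Subgroup.mem_subgroupOf, Subgroup.mem_map]
      constructor
      · rintro ⟨hxT, ⟨y, hy⟩, hyT, e⟩
        refine ⟨hxT, y, hyT, ?_⟩
        exact congrArg Subtype.val e
      · rintro ⟨hxT, y, hyT, e⟩
        exact ⟨hxT, ⟨y, hTM hyT⟩, hyT, Subtype.ext e⟩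
    have e3 : Nat.card ((T ⊓ cj m T).subgroupOf M) = Nat.card (T ⊓ cj m T : Subgroup G) :=
      Nat.card_congr (Subgroup.subgroupOfEquivOfLe (inf_le_left.trans hTM)).toEquiv
    rw [e2, e1, e3] at h3
    exact h3
  · rw [hcore]
    obtain ⟨-, hc, hk⟩ := h
    have hd0 : 0 < d := by omega
    have hf : d * (d - 1).factorial = d.factorial := Nat.mul_factorial_pred (by omega)
    rw [← hf, hc] at hk
    have h4 : d * ((d - 1).factorial * Nat.card (relCore M T)) ≤ d * (2 * Nat.card T) := by
      calc d * ((d - 1).factorial * Nat.card (relCore M T))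
          = d * (d - 1).factorial * Nat.card (relCore M T) := by ring
        _ ≤ 2 * (d * Nat.card T) := hk
        _ = d * (2 * Nat.card T) := by ring
    exact Nat.le_of_mul_le_mul_left h4 hd0

end SubgroupLevel

end Cfsg.Agent.Lib.Helper41_Kn_ALTPOINT
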