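import Cfsg.Agent.Lib.Helper49_KnDefs

/-!
S3687 market, package BASIC (helper49): `cfg_basic`, `step0`, `sym_symm`, `sym_not_le`.
-/

namespace Cfsg.Agent.Lib.Helper49_Kn_BASIC

open Cfsg Cfsg.Agent.Lib.Helper47_TW Cfsg.Agent.Lib.Helper49_KnDefs Cfsg.Agent.Lib.Helper47_Conj

universe u

variable {G : Type u} [Group G]

theorem mem_cj {g x : G} {H : Subgroup G} : x ∈ cj g H ↔ g⁻¹ * x * g ∈ H := by
  constructor
  · rintro ⟨y, hy, rfl⟩
    simp only [MulEquiv.coe_toMonoidHom, MulAut.conj_apply]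
    have : g⁻¹ * (g * y * g⁻¹) * g = y := by group
    rw [this]; exact hy
  · intro h
    refine ⟨g⁻¹ * x * g, h, ?_⟩
    simp only [MulEquiv.coe_toMonoidHom, MulAut.conj_apply]
    group

theorem card_cj [Finite G] (g : G) (H : Subgroup G) : Nat.card (cj g H) = Nat.card H :=
  Subgroup.card_map_of_injective (MulAut.conj g).injective

theorem relCore_cj' (g : G) (M H : Subgroup G) :
    relCore (cj g M) (cj g H) = cj g (relCore M H) := by
  ext x
  rw [mem_relCore, mem_cj, mem_cj, mem_relCore]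
  constructor
  · rintro ⟨hx, h⟩
    refine ⟨hx, fun m hm => ?_⟩
    have h1 : g * m * g⁻¹ ∈ cj g M := by
      rw [mem_cj]
      have : g⁻¹ * (g * m * g⁻¹) * g = m := by group
      rw [this]; exact hm
    have h2 := h _ h1
    rw [mem_cj] at h2
    have : g⁻¹ * (g * m * g⁻¹ * x * (g * m * g⁻¹)⁻¹) * g = m * (g⁻¹ * x * g) * m⁻¹ := by group
    rw [this] at h2
    exact h2
  · rintro ⟨hx, h⟩
    refine ⟨hx, fun m hm => ?_⟩
    rw [mem_cj] at hm ⊢
    have h2 := h _ hm
    have : g⁻¹ * (m * x * m⁻¹) * g = g⁻¹ * m * g * (g⁻¹ * x * g) * (g⁻¹ * m * g)⁻¹ := by group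
    rw [this]
    exact h2

theorem cj_mono {g : G} {A B : Subgroup G} (h : A ≤ B) : cj g A ≤ cj g B := Subgroup.map_mono h

theorem cj_inf (g : G) (A B : Subgroup G) : cj g (A ⊓ B) = cj g A ⊓ cj g B :=
  Subgroup.map_inf_eq A B _ (MulAut.conj g).injective

theorem le_normalizer_cj {g : G} {A B : Subgroup G} (h : A ≤ Subgroup.normalizer (B : Set G)) :
    cj g A ≤ Subgroup.normalizer (cj g B : Set G) := by
  intro x hx
  rw [mem_cj] at hx
  have h1 := h hx
  rw [Subgroup.mem_normalizer_iff] at h1 ⊢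
  intro y
  rw [mem_cj, mem_cj]
  have e : g⁻¹ * (x * y * x⁻¹) * g = (g⁻¹ * x * g) * (g⁻¹ * y * g) * (g⁻¹ * x * g)⁻¹ := by group
  rw [e]
  exact h1 _

theorem as_cj' [Finite G] {d : ℕ} {M T : Subgroup G} (g : G) (h : AS d M T) :
    AS d (cj g M) (cj g T) := by
  obtain ⟨h1, h2, h3⟩ := h
  refine ⟨cj_mono h1, ?_, ?_⟩
  · rw [card_cj, card_cj]; exact h2
  · rw [relCore_cj', card_cj, card_cj]; exact h3

section Fin
variable [Finite G]

theorem eq_of_le_of_card_le {A B : Subgroup G} (h : A ≤ B) (hc : Nat.card B ≤ Nat.card A) : A = B := by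
  have h1 : (A : Set G) = (B : Set G) := by
    apply Set.eq_of_subset_of_ncard_le h
    · show (B : Set G).ncard ≤ (A : Set G).ncard
      have e1 : (B : Set G).ncard = Nat.card B := rfl
      have e2 : (A : Set G).ncard = Nat.card A := rfl
      rw [e1, e2]; exact hc
  exact SetLike.coe_injective h1

/-- PACKAGE BASIC. -/
theorem cfg_basic {d : ℕ} {M N : Subgroup G} {g : G} (h : Cfg d M N g) :
    Nat.card N = Nat.card M ∧ Nat.card N = d * Nat.card ↥(M ⊓ N) ∧
      AS d N (cj g (M ⊓ N)) ∧ relCore N (cj g (M ⊓ N)) = cj g (c1 M N) ∧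
      cj g (c1 M N) ≤ N ∧ N ≤ Subgroup.normalizer (cj g (c1 M N) : Set G) ∧
      Nat.card (cj g (c1 M N)) = Nat.card (c1 M N) := by
  have hN : N = cj g M := h.conj
  have hc : Nat.card N = Nat.card M := by rw [hN, card_cj]
  refine ⟨hc, ?_, ?_, ?_, ?_, ?_, card_cj g _⟩
  · rw [hc]; exact h.as.2.1
  · have := as_cj' g h.as
    rw [← hN] at this
    exact this
  · have := relCore_cj' g M (M ⊓ N)
    rw [← hN] at this
    exact this
  · have := cj_mono (g := g) (c1_le_left M N)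
    rw [← hN] at this
    exact this
  · have := le_normalizer_cj (g := g) (le_normalizer_relCore M (M ⊓ N))
    rw [← hN] at this
    exact this

/-- PACKAGE STEP0. -/
theorem step0 {d : ℕ} {M N : Subgroup G} {g : G} (h : Cfg d M N g) :
    ¬ c1 M N ≤ cj g (c1 M N) ∧ ¬ cj g (c1 M N) ≤ c1 M N := by
  obtain ⟨-, -, -, -, hKbN, hNKb, hcard⟩ := cfg_basic h
  have key : c1 M N ≠ cj g (c1 M N) := by
    intro he
    apply h.ne
    apply h.setup.eq_bot_of_normalized (c1_le_left M N) (le_normalizer_relCore M (M ⊓ N))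
    rw [he]
    exact hNKb
  constructor
  · intro hle
    exact key (eq_of_le_of_card_le hle (le_of_eq hcard))
  · intro hle
    exact key (eq_of_le_of_card_le hle (le_of_eq hcard.symm)).symm

omit [Finite G] in
theorem cj_inv_cj (g : G) (H : Subgroup G) : cj g⁻¹ (cj g H) = H := map_conj_inv_map_conj g H

omit [Finite G] in
theorem cj_cj_inv (g : G) (H : Subgroup G) : cj g (cj g⁻¹ H) = H := map_conj_map_conj_inv g H

/-- PACKAGE SYMM. -/
theorem sym_symm {d : ℕ} {M N : Subgroup G} {g : G} (h : Sym d M N g) : Sym d N M g⁻¹ := by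
  have hM : M = cj g⁻¹ N := by rw [h.conj, cj_inv_cj]
  refine ⟨h.setup.symm, hM, h.hd, ?_, ?_, ?_, ?_⟩
  · rw [inf_comm]; exact h.asN
  · rw [inf_comm]; exact h.asM
  · rw [h.hK]
    intro h0
    apply h.ne
    have := congrArg (cj g⁻¹) h0
    rw [cj_inv_cj] at this
    rw [this]
    exact Subgroup.map_bot _
  · rw [h.hK, cj_inv_cj]

/-- PACKAGE SYMNLE. -/
theorem sym_not_le {d : ℕ} {M N : Subgroup G} {g : G} (h : Sym d M N g) :
    ¬ c1 M N ≤ c1 N M := by
  intro hle
  have hcard : Nat.card (c1 N M) = Nat.card (c1 M N) := by rw [h.hK, card_cj]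
  have he : c1 M N = c1 N M := eq_of_le_of_card_le hle (le_of_eq hcard)
  apply h.ne
  apply h.setup.eq_bot_of_normalized (c1_le_left M N) (le_normalizer_relCore M (M ⊓ N))
  rw [he]
  exact le_normalizer_relCore N (N ⊓ M)

end Fin

end Cfsg.Agent.Lib.Helper49_Kn_BASIC
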