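import Cfsg.Agent.Lib.Helper49_KnDefs

set_option autoImplicit false

/-!
S3687 market (architect helper49): the cores of the packages ALTPP and ALTSOLV, with the statements of the packages
ALTCOMM and ALTPART (for the fixed data `d M T U`) as hypotheses.
-/

namespace Cfsg.Agent.Lib.Helper60_Kn_ALTcore

open Cfsg Cfsg.Agent.Lib.Helper47_TW Cfsg.Agent.Lib.Helper49_KnDefs
open scoped commutatorElement

universe u v

variable {G : Type u} [Group G]

/-- an element normalizing `A` and `B` normalizes `⁅A, B⁆` -/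
theorem mem_normalizer_commutator {A B : Subgroup G} {x : G}
    (hA : x ∈ Subgroup.normalizer (A : Set G)) (hB : x ∈ Subgroup.normalizer (B : Set G)) :
    x ∈ Subgroup.normalizer ((⁅A, B⁆ : Subgroup G) : Set G) := by
  rw [Subgroup.mem_normalizer_iff_map_conj_eq] at hA hB ⊢
  rw [Subgroup.map_commutator, hA, hB]

/-- if `B` normalizes `A` then `⁅A, B⁆ ≤ A` -/
theorem commutator_le_left_of_le_normalizer {A B : Subgroup G}
    (hBA : B ≤ Subgroup.normalizer (A : Set G)) : ⁅A, B⁆ ≤ A := by
  rw [Subgroup.commutator_le]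
  intro a ha b hb
  have h1 : b * a⁻¹ * b⁻¹ ∈ A := (Subgroup.mem_normalizer_iff.mp (hBA hb) a⁻¹).mp (A.inv_mem ha)
  have h2 : ⁅a, b⁆ = a * (b * a⁻¹ * b⁻¹) := by
    rw [commutatorElement_def]
    group
  rw [h2]
  exact A.mul_mem ha h1

/-- if `A` normalizes `B` then `⁅A, B⁆ ≤ B` -/
theorem commutator_le_right_of_le_normalizer {A B : Subgroup G}
    (hAB : A ≤ Subgroup.normalizer (B : Set G)) : ⁅A, B⁆ ≤ B := by
  rw [Subgroup.commutator_comm]
  exact commutator_le_left_of_le_normalizer hAB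

theorem commutator_self_le (A : Subgroup G) : ⁅A, A⁆ ≤ A :=
  commutator_le_left_of_le_normalizer Subgroup.le_normalizer

section

variable [Finite G] {d : ℕ} {M T U : Subgroup G}

/-- `altPart` is not contained in the core. -/
theorem not_altPart_le (hd : 5 ≤ d)
    (hfacts : relCore M T ≤ altPart M T ∧
      2 * Nat.card (altPart M T) = d.factorial * Nat.card (relCore M T)) :
    ¬ altPart M T ≤ relCore M T := by
  intro hle
  have heq : altPart M T = relCore M T := le_antisymm hle hfacts.1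
  have h2 := hfacts.2
  rw [heq] at h2
  have hpos : 0 < Nat.card (relCore M T) := Nat.card_pos
  have hfac : 5 ≤ d.factorial := hd.trans (Nat.self_le_factorial d)
  have : 2 = d.factorial := Nat.eq_of_mul_eq_mul_right hpos h2
  omega

/-- the core of ALTSOLV -/
theorem as_solv_of (hd : 5 ≤ d)
    (hcomm : ∀ Z₁ Z₂ : Subgroup G, Z₁ ≤ U → U ≤ Subgroup.normalizer (Z₁ : Set G) →
      ¬ Z₁ ≤ relCore M T → Z₂ ≤ U → U ≤ Subgroup.normalizer (Z₂ : Set G) → ¬ Z₂ ≤ relCore M T →
      altPart M T ≤ ⁅Z₁, Z₂⁆ ⊔ relCore M T)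
    (hfacts : relCore M T ≤ altPart M T ∧
      2 * Nat.card (altPart M T) = d.factorial * Nat.card (relCore M T))
    {Z : Subgroup G} (hZU : Z ≤ U) (hZn : U ≤ Subgroup.normalizer (Z : Set G))
    (hsolv : Group.IsSolvable ↥Z) : Z ≤ relCore M T := by
  by_contra hZK
  -- the derived series inside `G`
  have key : ∀ n : ℕ, (derivedSeries ↥Z n).map Z.subtype ≤ U ∧
      U ≤ Subgroup.normalizer (((derivedSeries ↥Z n).map Z.subtype : Subgroup G) : Set G) ∧
      ¬ (derivedSeries ↥Z n).map Z.subtype ≤ relCore M T := by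
    intro n
    induction n with
    | zero =>
      have h0 : (derivedSeries ↥Z 0).map Z.subtype = Z := by
        rw [derivedSeries_zero, ← MonoidHom.range_eq_map, Subgroup.range_subtype]
      rw [h0]
      exact ⟨hZU, hZn, hZK⟩
    | succ n ih =>
      obtain ⟨h1, h2, h3⟩ := ih
      have hs : (derivedSeries ↥Z (n + 1)).map Z.subtype =
          ⁅(derivedSeries ↥Z n).map Z.subtype, (derivedSeries ↥Z n).map Z.subtype⁆ := by
        rw [derivedSeries_succ, Subgroup.map_commutator]
      rw [hs]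
      refine ⟨(commutator_self_le _).trans h1,
        fun x hx => mem_normalizer_commutator (h2 hx) (h2 hx), ?_⟩
      intro hle
      have := hcomm _ _ h1 h2 h3 h1 h2 h3
      exact not_altPart_le hd hfacts (this.trans (sup_le hle le_rfl))
  obtain ⟨n, hn⟩ := (Group.isSolvable_def ↥Z).mp hsolv
  have := (key n).2.2
  rw [hn, Subgroup.map_bot] at this
  exact this bot_le

/-- the core of ALTPP -/
theorem as_pp_of (hd : 5 ≤ d)
    (hcomm : ∀ Z₁ Z₂ : Subgroup G, Z₁ ≤ U → U ≤ Subgroup.normalizer (Z₁ : Set G) →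
      ¬ Z₁ ≤ relCore M T → Z₂ ≤ U → U ≤ Subgroup.normalizer (Z₂ : Set G) → ¬ Z₂ ≤ relCore M T →
      altPart M T ≤ ⁅Z₁, Z₂⁆ ⊔ relCore M T)
    (hfacts : relCore M T ≤ altPart M T ∧
      2 * Nat.card (altPart M T) = d.factorial * Nat.card (relCore M T))
    {ι : Type v} [Finite ι] [Nonempty ι] (Z : ι → Subgroup G)
    (hZ : ∀ i, Z i ≤ U ∧ U ≤ Subgroup.normalizer (Z i : Set G) ∧ ¬ Z i ≤ relCore M T) :
    altPart M T ≤ (⨅ i, Z i) ⊔ relCore M T := by
  classical
  have := Fintype.ofFinite ι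
  have key : ∀ s : Finset ι, s.Nonempty → s.inf Z ≤ U ∧
      U ≤ Subgroup.normalizer ((s.inf Z : Subgroup G) : Set G) ∧
      altPart M T ≤ s.inf Z ⊔ relCore M T := by
    intro s hs
    induction hs using Finset.Nonempty.cons_induction with
    | singleton i =>
      rw [Finset.inf_singleton]
      obtain ⟨h1, h2, h3⟩ := hZ i
      refine ⟨h1, h2, ?_⟩
      exact (hcomm _ _ h1 h2 h3 h1 h2 h3).trans (sup_le_sup_right (commutator_self_le _) _)
    | cons j s hj hs ih =>
      obtain ⟨h1, h2, h3⟩ := ih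
      obtain ⟨k1, k2, k3⟩ := hZ j
      rw [Finset.inf_cons]
      have hW : ¬ s.inf Z ≤ relCore M T := by
        intro hle
        exact not_altPart_le hd hfacts (h3.trans (sup_le hle le_rfl))
      refine ⟨inf_le_left.trans k1, fun x hx => mem_normalizer_inf (k2 hx) (h2 hx), ?_⟩
      have hc := hcomm _ _ k1 k2 k3 h1 h2 hW
      refine hc.trans (sup_le_sup_right ?_ _)
      exact le_inf (commutator_le_left_of_le_normalizer (h1.trans k2))
        (commutator_le_right_of_le_normalizer (k1.trans h2))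
  have h := (key Finset.univ Finset.univ_nonempty).2.2
  rwa [Finset.inf_univ_eq_iInf] at h

end

end Cfsg.Agent.Lib.Helper60_Kn_ALTcore
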