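import Cfsg.Agent.Lib.Helper49_KnDefs
import Cfsg.Agent.Lib.Helper49_Kn_BASIC

/-!
# S3687 market (architect helper49), package STEP6A, auxiliary form (helper71)

`step6a_aux` = the statement of STEP6A with the statements of ALTPOINT, ALTSOLV, ALTCOMM, ALTPART, ALTTRANS as
explicit hypotheses (SYMNLE = `Helper49_Kn_BASIC.sym_not_le` is used directly).
-/

set_option autoImplicit false

namespace Cfsg.Agent.Lib.Helper71_Kn_STEP6Aaux

open Cfsg Cfsg.Agent.Lib.Helper47_TW Cfsg.Agent.Lib.Helper49_KnDefs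
open scoped Pointwise

universe u

variable {G : Type u} [Group G]

/-- a criterion for `U ≤ N(H)` -/
theorem le_normalizer_of_conj_mem {H U : Subgroup G}
    (h : ∀ u ∈ U, ∀ x ∈ H, u * x * u⁻¹ ∈ H) : U ≤ Subgroup.normalizer (H : Set G) := by
  intro u hu
  rw [Subgroup.mem_normalizer_iff]
  intro x
  constructor
  · exact h u hu x
  · intro hx
    have := h u⁻¹ (U.inv_mem hu) _ hx
    have e : u⁻¹ * (u * x * u⁻¹) * u⁻¹⁻¹ = x := by group
    rwa [e] at this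

/-- the centralizer of a subgroup normalized by `M`, intersected with `M`, is normalized by `M` -/
theorem le_normalizer_cent_inf {M K : Subgroup G} (hMK : M ≤ Subgroup.normalizer (K : Set G)) :
    M ≤ Subgroup.normalizer ((Subgroup.centralizer (K : Set G) ⊓ M : Subgroup G) : Set G) := by
  apply le_normalizer_of_conj_mem
  intro m hm c hc
  refine ⟨?_, M.mul_mem (M.mul_mem hm hc.2) (M.inv_mem hm)⟩
  show m * c * m⁻¹ ∈ Subgroup.centralizer (K : Set G)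
  rw [Subgroup.mem_centralizer_iff]
  intro k hk
  have hk' : m⁻¹ * k * m⁻¹⁻¹ ∈ K :=
    (Subgroup.mem_normalizer_iff.mp (hMK (M.inv_mem hm)) k).mp hk
  have h1 := (Subgroup.mem_centralizer_iff.mp hc.1) _ hk'
  have e1 : k * (m * c * m⁻¹) = m * ((m⁻¹ * k * m⁻¹⁻¹) * c) * m⁻¹ := by group
  have e2 : m * c * m⁻¹ * k = m * (c * (m⁻¹ * k * m⁻¹⁻¹)) * m⁻¹ := by group
  rw [e1, e2, h1]

/-- two subgroups normalizing each other with trivial intersection commute elementwise -/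
theorem commute_of_inf_eq_bot {K L : Subgroup G} (hLK : L ≤ Subgroup.normalizer (K : Set G))
    (hKL : K ≤ Subgroup.normalizer (L : Set G)) (hinf : K ⊓ L = ⊥) :
    ∀ k ∈ K, ∀ l ∈ L, k * l = l * k := by
  intro k hk l hl
  have h1 : k * l * k⁻¹ * l⁻¹ ∈ K := by
    have : l * k⁻¹ * l⁻¹ ∈ K :=
      (Subgroup.mem_normalizer_iff.mp (hLK hl) k⁻¹).mp (K.inv_mem hk)
    have e : k * l * k⁻¹ * l⁻¹ = k * (l * k⁻¹ * l⁻¹) := by group
    rw [e]
    exact K.mul_mem hk this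
  have h2 : k * l * k⁻¹ * l⁻¹ ∈ L := by
    have : k * l * k⁻¹ ∈ L := (Subgroup.mem_normalizer_iff.mp (hKL hk) l).mp hl
    exact L.mul_mem this (L.inv_mem hl)
  have h3 : k * l * k⁻¹ * l⁻¹ ∈ K ⊓ L := ⟨h1, h2⟩
  rw [hinf, Subgroup.mem_bot] at h3
  have e : k * l = (k * l * k⁻¹ * l⁻¹) * (l * k) := by group
  rw [e, h3, one_mul]

variable [Finite G]

/-- STEP6A with the statements of ALTPOINT, ALTSOLV, ALTCOMM, ALTPART, ALTTRANS as hypotheses -/
theorem step6a_aux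
    (hPOINT : ∀ (d : ℕ) (M T : Subgroup G), AS d M T → 5 ≤ d → ∀ m : G, m ∈ M → m ∉ T →
      AS (d - 1) T (T ⊓ cj m T) ∧ relCore T (T ⊓ cj m T) = relCore M T)
    (hSOLV : ∀ (d : ℕ) (M T U Z : Subgroup G), AS d M T → 5 ≤ d → U ≤ M →
      altPart M T ≤ U ⊔ relCore M T → Z ≤ U → U ≤ Subgroup.normalizer (Z : Set G) →
      Group.IsSolvable ↥Z → Z ≤ relCore M T)
    (hCOMM : ∀ (d : ℕ) (M T U Z₁ Z₂ : Subgroup G), AS d M T → 5 ≤ d → U ≤ M →
      altPart M T ≤ U ⊔ relCore M T → Z₁ ≤ U → U ≤ Subgroup.normalizer (Z₁ : Set G) →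
      ¬ Z₁ ≤ relCore M T → Z₂ ≤ U → U ≤ Subgroup.normalizer (Z₂ : Set G) →
      ¬ Z₂ ≤ relCore M T → altPart M T ≤ ⁅Z₁, Z₂⁆ ⊔ relCore M T)
    (hPART : ∀ (d : ℕ) (M T : Subgroup G), AS d M T → 5 ≤ d →
      relCore M T ≤ altPart M T ∧ altPart M T ≤ M ∧
        M ≤ Subgroup.normalizer (altPart M T : Set G) ∧
        2 * Nat.card (altPart M T) = d.factorial * Nat.card (relCore M T))
    (hTRANS : ∀ (d : ℕ) (M T H : Subgroup G), AS d M T → 5 ≤ d → altPart M T ≤ H →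
      ∀ m ∈ M, ∃ x ∈ H, ∃ t ∈ T, m = x * t)
    {d : ℕ} {M N : Subgroup G} {g : G} (h : Sym d M N g)
    (hX : c1 M N ⊓ c1 N M = ⊥) :
    c1 N M ≤ Subgroup.centralizer (c1 M N : Set G) ⊓ M ∧
      (Subgroup.centralizer (c1 M N : Set G) ⊓ M) ⊓ c1 M N = ⊥ ∧
      (Subgroup.centralizer (c1 M N : Set G) ⊓ M) ⊓ (M ⊓ N) = c1 N M ∧
      ∀ m ∈ M, ∃ c ∈ Subgroup.centralizer (c1 M N : Set G) ⊓ M, ∃ t ∈ M ⊓ N, m = c * t := by
  have hd := h.hd
  -- basic inclusions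
  have hKM : c1 M N ≤ M := c1_le_left M N
  have hKN : c1 M N ≤ N := c1_le_right M N
  have hKT : c1 M N ≤ M ⊓ N := le_inf hKM hKN
  have hLN : c1 N M ≤ N := c1_le_left N M
  have hLM : c1 N M ≤ M := c1_le_right N M
  have hLT : c1 N M ≤ M ⊓ N := le_inf hLM hLN
  have hMK : M ≤ Subgroup.normalizer (c1 M N : Set G) := le_normalizer_relCore M (M ⊓ N)
  have hNL : N ≤ Subgroup.normalizer (c1 N M : Set G) := le_normalizer_relCore N (N ⊓ M)
  have hTK : M ⊓ N ≤ Subgroup.normalizer (c1 M N : Set G) := inf_le_left.trans hMK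
  have hTL : M ⊓ N ≤ Subgroup.normalizer (c1 N M : Set G) := inf_le_right.trans hNL
  have hTM : M ⊓ N ≤ M := inf_le_left
  -- (i)
  have hcomm : ∀ k ∈ c1 M N, ∀ l ∈ c1 N M, k * l = l * k :=
    commute_of_inf_eq_bot (hLT.trans hTK) (hKT.trans hTL) hX
  have hLC : c1 N M ≤ Subgroup.centralizer (c1 M N : Set G) ⊓ M := by
    refine le_inf ?_ hLM
    intro l hl
    rw [Subgroup.mem_centralizer_iff]
    intro k hk
    exact hcomm k hk l hl
  have hMC : M ≤ Subgroup.normalizer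
      ((Subgroup.centralizer (c1 M N : Set G) ⊓ M : Subgroup G) : Set G) :=
    le_normalizer_cent_inf hMK
  -- the point stabilizer data
  obtain ⟨n, hnN, hnT⟩ : ∃ n ∈ N, n ∉ M ⊓ N := by
    by_contra hcon
    push Not at hcon
    have hNT : N ≤ M ⊓ N := fun x hx => hcon x hx
    have hEq : M ⊓ N = N := le_antisymm inf_le_right hNT
    have hc := h.asN.2.1
    rw [hEq] at hc
    have hpos : 0 < Nat.card N := Nat.card_pos
    have : Nat.card N * 1 = Nat.card N * d := by rw [mul_one, mul_comm]; exact hc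
    have := Nat.eq_of_mul_eq_mul_left hpos this
    omega
  have hd5 : 5 ≤ d - 1 := by omega
  obtain ⟨hAS, hcore⟩ := hPOINT d N (M ⊓ N) h.asN (by omega) n hnN hnT
  have hLeq : relCore N (M ⊓ N) = c1 N M := by
    unfold c1
    rw [inf_comm]
  rw [hLeq] at hcore
  obtain ⟨hP1, hP2, -, hP4⟩ := hPART (d - 1) (M ⊓ N) (M ⊓ N ⊓ cj n (M ⊓ N)) hAS hd5
  rw [hcore] at hP1 hP4
  have hAU : altPart (M ⊓ N) (M ⊓ N ⊓ cj n (M ⊓ N)) ≤
      (M ⊓ N) ⊔ relCore (M ⊓ N) (M ⊓ N ⊓ cj n (M ⊓ N)) := hP2.trans le_sup_left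
  have hfac : 2 < (d - 1).factorial := by
    have h1 : d - 1 ≤ (d - 1).factorial := Nat.self_le_factorial _
    omega
  have hLpos : 0 < Nat.card (c1 N M) := Nat.card_pos
  -- the alternating part is not inside `L`
  have hBL : ¬ altPart (M ⊓ N) (M ⊓ N ⊓ cj n (M ⊓ N)) ≤ c1 N M := by
    intro hle
    have hc1 : Nat.card (altPart (M ⊓ N) (M ⊓ N ⊓ cj n (M ⊓ N))) ≤ Nat.card (c1 N M) :=
      Subgroup.card_le_of_le hle
    have : (d - 1).factorial * Nat.card (c1 N M) ≤ 2 * Nat.card (c1 N M) := by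
      rw [← hP4]
      omega
    have := Nat.le_of_mul_le_mul_right this hLpos
    omega
  -- (ii)
  have hCK : (Subgroup.centralizer (c1 M N : Set G) ⊓ M) ⊓ c1 M N = ⊥ := by
    have hZT : (Subgroup.centralizer (c1 M N : Set G) ⊓ M) ⊓ c1 M N ≤ M ⊓ N :=
      inf_le_right.trans hKT
    have hZn : M ⊓ N ≤ Subgroup.normalizer
        (((Subgroup.centralizer (c1 M N : Set G) ⊓ M) ⊓ c1 M N : Subgroup G) : Set G) := by
      apply le_normalizer_of_conj_mem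
      intro t ht x hx
      exact ⟨(Subgroup.mem_normalizer_iff.mp (hMC (hTM ht)) x).mp hx.1,
        (Subgroup.mem_normalizer_iff.mp (hTK ht) x).mp hx.2⟩
    have hsolv : Group.IsSolvable
        ↥((Subgroup.centralizer (c1 M N : Set G) ⊓ M) ⊓ c1 M N : Subgroup G) := by
      apply Group.isSolvable_of_comm
      rintro ⟨a, ha⟩ ⟨b, hb⟩
      apply Subtype.ext
      show a * b = b * a
      exact ((Subgroup.mem_centralizer_iff.mp ha.1.1) b hb.2).symm
    have hZL := hSOLV (d - 1) (M ⊓ N) (M ⊓ N ⊓ cj n (M ⊓ N)) (M ⊓ N) _ hAS hd5 le_rfl hAU hZT hZn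
      hsolv
    rw [hcore] at hZL
    rw [eq_bot_iff, ← hX]
    exact le_inf inf_le_right hZL
  -- (iii)
  have hCT : (Subgroup.centralizer (c1 M N : Set G) ⊓ M) ⊓ (M ⊓ N) = c1 N M := by
    apply le_antisymm _ (le_inf hLC hLT)
    by_contra hWL
    have hWn : M ⊓ N ≤ Subgroup.normalizer
        (((Subgroup.centralizer (c1 M N : Set G) ⊓ M) ⊓ (M ⊓ N) : Subgroup G) : Set G) := by
      apply le_normalizer_of_conj_mem
      intro t ht x hx
      exact ⟨(Subgroup.mem_normalizer_iff.mp (hMC (hTM ht)) x).mp hx.1,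
        (M ⊓ N).mul_mem ((M ⊓ N).mul_mem ht hx.2) ((M ⊓ N).inv_mem ht)⟩
    have hKL : ¬ c1 M N ≤ c1 N M := Cfsg.Agent.Lib.Helper49_Kn_BASIC.sym_not_le h
    have hB := hCOMM (d - 1) (M ⊓ N) (M ⊓ N ⊓ cj n (M ⊓ N)) (M ⊓ N)
      ((Subgroup.centralizer (c1 M N : Set G) ⊓ M) ⊓ (M ⊓ N)) (c1 M N) hAS hd5 le_rfl hAU
      inf_le_right hWn (by rw [hcore]; exact hWL) hKT hTK (by rw [hcore]; exact hKL)
    rw [hcore] at hB
    have hWK : ⁅(Subgroup.centralizer (c1 M N : Set G) ⊓ M) ⊓ (M ⊓ N), c1 M N⁆ = ⊥ := by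
      rw [Subgroup.commutator_eq_bot_iff_le_centralizer]
      exact inf_le_left.trans inf_le_left
    rw [hWK, bot_sup_eq] at hB
    exact hBL hB
  refine ⟨hLC, hCK, hCT, ?_⟩
  -- (iv)
  have hLne : c1 N M ≠ ⊥ := by
    intro hbot
    have hcard : Nat.card (c1 N M) = Nat.card (c1 M N) := by
      rw [h.hK, Cfsg.Agent.Lib.Helper49_Kn_BASIC.card_cj]
    rw [hbot, Subgroup.card_bot] at hcard
    exact h.ne (Subgroup.card_eq_one.mp hcard.symm)
  have hLK : ¬ c1 N M ≤ c1 M N := by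
    intro hle
    apply hLne
    rw [eq_bot_iff, ← hX]
    exact le_inf hle le_rfl
  have hCnK : ¬ Subgroup.centralizer (c1 M N : Set G) ⊓ M ≤ relCore M (M ⊓ N) :=
    fun hle => hLK (hLC.trans hle)
  have hd5' : 5 ≤ d := by omega
  obtain ⟨-, hQ2, -, -⟩ := hPART d M (M ⊓ N) h.asM hd5'
  have hA := hCOMM d M (M ⊓ N) M (Subgroup.centralizer (c1 M N : Set G) ⊓ M)
    (Subgroup.centralizer (c1 M N : Set G) ⊓ M) h.asM hd5' le_rfl (hQ2.trans le_sup_left)
    inf_le_right hMC hCnK inf_le_right hMC hCnK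
  have hA' : altPart M (M ⊓ N) ≤ (Subgroup.centralizer (c1 M N : Set G) ⊓ M) ⊔ c1 M N := by
    refine hA.trans (sup_le_sup_right ?_ _)
    exact Subgroup.commutator_le_self _
  intro m hm
  obtain ⟨x, hx, t, ht, rfl⟩ := hTRANS d M (M ⊓ N) _ h.asM hd5' hA' m hm
  have hCnorm : Subgroup.centralizer (c1 M N : Set G) ⊓ M ≤
      Subgroup.normalizer (c1 M N : Set G) := inf_le_right.trans hMK
  have hx' : x ∈ ((Subgroup.centralizer (c1 M N : Set G) ⊓ M : Subgroup G) : Set G) *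
      ((c1 M N : Subgroup G) : Set G) := by
    rw [← Subgroup.coe_mul_of_left_le_normalizer_right _ _ hCnorm]
    exact hx
  obtain ⟨c, hc, k, hk, rfl⟩ := Set.mem_mul.mp hx'
  refine ⟨c, hc, k * t, (M ⊓ N).mul_mem (hKT hk) ht, ?_⟩
  rw [mul_assoc]

end Cfsg.Agent.Lib.Helper71_Kn_STEP6Aaux
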