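import Cfsg.Agent.Lib.Helper49_KnDefs
import Cfsg.Agent.Lib.Helper65_S3693

/-!
# S3687 market (architect helper49), package ALTPART: `K ≤ altPart ≤ M`, normal, `2 |altPart| = d! |K|`
-/

set_option linter.unusedSectionVars false

namespace Cfsg.Agent.Lib.Helper82_Kn_ALTPART

open Cfsg Cfsg.Agent.Lib.Helper47_TW Cfsg.Agent.Lib.Helper49_KnDefs

universe u v

section TypeLevel

/-- a subgroup containing the kernel: `|A| = |ker| |f(A)|` -/
theorem card_eq_card_ker_mul_card_map {H P : Type*} [Group H] [Group P] (f : H →* P) (A : Subgroup H)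
    (hA : f.ker ≤ A) : Nat.card A = Nat.card f.ker * Nat.card (A.map f) := by
  have h1 := Subgroup.relIndex_mul_relIndex (⊥ : Subgroup H) f.ker A bot_le hA
  rw [Subgroup.relIndex_bot_left, Subgroup.relIndex_bot_left, Subgroup.relIndex_ker] at h1
  exact h1.symm

/-- the type-level statement: `H` acts on the `d ≥ 5` cosets of `T` as `Alt` or `Sym`; then the product of the
commutator subgroup and the core has order `d!/2` times the order of the core -/
theorem card_altPart_type {H : Type*} [Group H] [Finite H] (T : Subgroup H) (d : ℕ) (hd : 5 ≤ d)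
    (hidx : T.index = d) (hAS : d.factorial * Nat.card T.normalCore ≤ 2 * Nat.card H) :
    2 * Nat.card ↥(⁅(⊤ : Subgroup H), ⊤⁆ ⊔ T.normalCore) = d.factorial * Nat.card T.normalCore := by
  classical
  have : Fintype (H ⧸ T) := Fintype.ofFinite _
  obtain ⟨φ, hφ⟩ : ∃ φ : H →* Equiv.Perm (H ⧸ T), φ = MulAction.toPermHom H (H ⧸ T) := ⟨_, rfl⟩
  have hker : φ.ker = T.normalCore := by
    rw [hφ]
    exact (Subgroup.normalCore_eq_ker T).symm
  have hcardα : Nat.card (H ⧸ T) = d := hidx
  have hperm : Nat.card (Equiv.Perm (H ⧸ T)) = d.factorial := by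
    rw [Nat.card_perm, hcardα]
  have h1 : Nat.card T.normalCore * Nat.card φ.range = Nat.card H := by
    rw [← hker, ← Subgroup.index_ker, Subgroup.card_mul_index]
  have h2 : Nat.card φ.range * φ.range.index = d.factorial := by
    rw [Subgroup.card_mul_index, hperm]
  have hKpos : 0 < Nat.card T.normalCore := Nat.card_pos
  have hRpos : 0 < Nat.card φ.range := Nat.card_pos
  have hidx2 : φ.range.index ≤ 2 := by
    by_contra hc
    push Not at hc
    have h3 : 3 * (Nat.card φ.range * Nat.card T.normalCore) ≤
        2 * (Nat.card T.normalCore * Nat.card φ.range) := by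
      calc 3 * (Nat.card φ.range * Nat.card T.normalCore)
          ≤ φ.range.index * (Nat.card φ.range * Nat.card T.normalCore) := Nat.mul_le_mul_right _ hc
        _ = (Nat.card φ.range * φ.range.index) * Nat.card T.normalCore := by ring
        _ = d.factorial * Nat.card T.normalCore := by rw [h2]
        _ ≤ 2 * Nat.card H := hAS
        _ = 2 * (Nat.card T.normalCore * Nat.card φ.range) := by rw [h1]
    have h4 : 0 < Nat.card φ.range * Nat.card T.normalCore := Nat.mul_pos hRpos hKpos
    nlinarith
  have hAlt : alternatingGroup (H ⧸ T) ≤ φ.range :=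
    Equiv.Perm.alternatingGroup_le_of_index_le_two hidx2
  have h5 : 5 ≤ Nat.card (H ⧸ T) := by rw [hcardα]; exact hd
  have hcomm : ⁅φ.range, φ.range⁆ = alternatingGroup (H ⧸ T) := by
    apply le_antisymm
    · exact (Subgroup.commutator_mono le_top le_top).trans alternatingGroup.commutator_perm_le
    · rw [← commutator_alternatingGroup_eq_self h5]
      exact Subgroup.commutator_mono hAlt hAlt
  have hmapA : (⁅(⊤ : Subgroup H), ⊤⁆ ⊔ T.normalCore).map φ = alternatingGroup (H ⧸ T) := by
    rw [Subgroup.map_sup, Subgroup.map_commutator, ← MonoidHom.range_eq_map, hcomm,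
      (Subgroup.map_eq_bot_iff _).mpr (le_of_eq hker.symm), sup_bot_eq]
  have hle : φ.ker ≤ ⁅(⊤ : Subgroup H), ⊤⁆ ⊔ T.normalCore := by
    rw [hker]
    exact le_sup_right
  have hcardA := card_eq_card_ker_mul_card_map φ _ hle
  rw [hmapA, hker] at hcardA
  have : Nontrivial (H ⧸ T) := by
    rw [← Finite.one_lt_card_iff_nontrivial]
    omega
  have h6 : 2 * Nat.card (alternatingGroup (H ⧸ T)) = d.factorial := by
    rw [two_mul_nat_card_alternatingGroup, hperm]
  rw [hcardA, ← h6]
  ring

end TypeLevel

section Abstract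

variable {G : Type u} [Group G] [Finite G]

theorem altPart_facts {d : ℕ} {M T : Subgroup G} (h : AS d M T) (hd : 5 ≤ d) :
    relCore M T ≤ altPart M T ∧ altPart M T ≤ M ∧
      M ≤ Subgroup.normalizer (altPart M T : Set G) ∧
      2 * Nat.card (altPart M T) = d.factorial * Nat.card (relCore M T) := by
  obtain ⟨hTM, hcard, hAS⟩ := h
  have hcommM : ⁅M, M⁆ ≤ M := by
    rw [Subgroup.commutator_le]
    intro a ha b hb
    rw [commutatorElement_def]
    exact M.mul_mem (M.mul_mem (M.mul_mem ha hb) (M.inv_mem ha)) (M.inv_mem hb)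
  refine ⟨le_sup_right, sup_le hcommM (relCore_le_left M T), ?_, ?_⟩
  · intro m hm
    rw [Subgroup.mem_normalizer_iff_map_conj_eq]
    unfold altPart
    have hM := Subgroup.mem_normalizer_iff_map_conj_eq.mp (Subgroup.le_normalizer (H := M) hm)
    have hK := Subgroup.mem_normalizer_iff_map_conj_eq.mp (le_normalizer_relCore M T hm)
    rw [Subgroup.map_sup, Subgroup.map_commutator, hM, hK]
  · -- transfer to the type `↥M`
    have hTpos : 0 < Nat.card T := Nat.card_pos
    have hidx : (T.subgroupOf M).index = d := by
      have h1 := Subgroup.relIndex_mul_relIndex (⊥ : Subgroup G) T M bot_le hTM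
      rw [Subgroup.relIndex_bot_left, Subgroup.relIndex_bot_left, hcard] at h1
      have h2 : T.relIndex M = d := by
        have h3 : Nat.card T * T.relIndex M = Nat.card T * d := by rw [h1]; ring
        exact Nat.eq_of_mul_eq_mul_left hTpos h3
      exact h2
    have hinj : Function.Injective M.subtype := Subgroup.subtype_injective M
    have hcore : Nat.card (relCore M T) = Nat.card (T.subgroupOf M).normalCore := by
      unfold relCore
      exact Nat.card_congr ((T.subgroupOf M).normalCore.equivMapOfInjective _ hinj).symm.toEquiv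
    have hAS' : d.factorial * Nat.card (T.subgroupOf M).normalCore ≤ 2 * Nat.card ↥M := by
      rw [← hcore]
      exact hAS
    have key := card_altPart_type (T.subgroupOf M) d hd hidx hAS'
    have hmap : altPart M T =
        (⁅(⊤ : Subgroup ↥M), ⊤⁆ ⊔ (T.subgroupOf M).normalCore).map M.subtype := by
      unfold altPart relCore
      rw [Subgroup.map_sup, ← commutator_def, Subgroup.map_subtype_commutator]
    have hcardA : Nat.card (altPart M T) =
        Nat.card ↥(⁅(⊤ : Subgroup ↥M), ⊤⁆ ⊔ (T.subgroupOf M).normalCore) := by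
      rw [hmap]
      exact Nat.card_congr (Subgroup.equivMapOfInjective _ _ hinj).symm.toEquiv
    rw [hcardA, hcore]
    exact key

end Abstract

end Cfsg.Agent.Lib.Helper82_Kn_ALTPART
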