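import Cfsg.Agent.Lib.Helper49_KnDefs
import Cfsg.Agent.Lib.Helper65_S3693

set_option autoImplicit false

/-!
S3687 market (architect helper49), package COREDVD: `|M|` divides `d! · |core_M(T)|` when `|M : T| = d`
(`M / core_M(T)` embeds in the symmetric group of the `d` cosets of `T`).
-/

namespace Cfsg.Agent.Lib.Helper99_Kn_COREDVD

open Cfsg Cfsg.Agent.Lib.Helper47_TW Cfsg.Agent.Lib.Helper49_KnDefs

universe u v

/-- Type-level form: `|H|` divides `|H : T|! · |core_H(T)|`. -/
theorem aux_card_dvd {H : Type*} [Group H] [Finite H] (T : Subgroup H) :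
    Nat.card H ∣ T.index.factorial * Nat.card T.normalCore := by
  set φ := MulAction.toPermHom H (H ⧸ T) with hφ
  have hker : T.normalCore = φ.ker := Subgroup.normalCore_eq_ker T
  have h1 : Nat.card φ.ker * Nat.card φ.range = Nat.card H := by
    rw [← Subgroup.index_ker]
    exact Subgroup.card_mul_index φ.ker
  have h2 : Nat.card φ.range ∣ T.index.factorial := by
    have := Subgroup.card_subgroup_dvd_card φ.range
    rw [Nat.card_perm] at this
    exact this
  rw [hker, ← h1, mul_comm]
  exact Nat.mul_dvd_mul h2 (dvd_refl _)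

section Abstract

variable {G : Type u} [Group G] [Finite G]

/-- the relative index of `T` in `M` is `d` -/
theorem aux_index {d : ℕ} {M T : Subgroup G} (hTM : T ≤ M) (hd : Nat.card M = d * Nat.card T) :
    (T.subgroupOf M).index = d := by
  have h1 : Nat.card (T.subgroupOf M) = Nat.card T :=
    Nat.card_congr (Subgroup.subgroupOfEquivOfLe hTM).toEquiv
  have h2 := Subgroup.card_mul_index (T.subgroupOf M)
  rw [h1, hd, mul_comm] at h2
  exact Nat.eq_of_mul_eq_mul_right Nat.card_pos h2

omit [Finite G] in
theorem aux_card_relCore (M T : Subgroup G) :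
    Nat.card (relCore M T) = Nat.card (T.subgroupOf M).normalCore := by
  unfold relCore
  exact Subgroup.card_map_of_injective M.subtype_injective

/-- PACKAGE COREDVD. -/
theorem card_dvd_relCore {d : ℕ} {M T : Subgroup G} (hTM : T ≤ M)
    (hd : Nat.card M = d * Nat.card T) :
    Nat.card M ∣ d.factorial * Nat.card (relCore M T) := by
  have h := aux_card_dvd (T.subgroupOf M)
  rw [aux_index hTM hd] at h
  rw [aux_card_relCore]
  exact h

end Abstract

end Cfsg.Agent.Lib.Helper99_Kn_COREDVD
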