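import Cfsg.Agent.Lib.Helper49_KnDefs
import Cfsg.Agent.Lib.Helper65_S3693
import Cfsg.Agent.Lib.Helper99_Kn_COREDVD

set_option autoImplicit false

/-!
S3687 market (architect helper49), package ALTCOMM (the key fact): if `M` acts on the `d ≥ 5` cosets of `T` as `Alt` or
`Sym`, with kernel `K = relCore M T`, and `Z₁`, `Z₂` are subgroups not inside `K`, normalized by a subgroup `U` whose
image contains `Alt`, then the preimage `altPart M T` of `Alt` lies in `⁅Z₁, Z₂⁆ K`.

Perm level: `aux_centralizer_alt` (trivial centralizer of `Alt`), `aux_alt_le` (a non-trivial subgroup normalized by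
`Alt` contains `Alt`); type level: `aux_type` (for a group `H` and `T.normalCore`); then transfer along `M.subtype`.
-/

namespace Cfsg.Agent.Lib.Helper99_Kn_ALTCOMM

open Cfsg Cfsg.Agent.Lib.Helper47_TW Cfsg.Agent.Lib.Helper49_KnDefs

universe u v

section PermLevel

variable {α : Type*} [Fintype α] [DecidableEq α]

/-- A permutation commuting with the alternating group (degree at least 4) is trivial. -/
theorem aux_centralizer_alt (h4 : 4 ≤ Nat.card α) (w : Equiv.Perm α)
    (hw : ∀ σ ∈ alternatingGroup α, w * σ = σ * w) : w = 1 := by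
  ext a
  rw [Equiv.Perm.one_apply]
  by_contra hab
  -- two more points
  have hcard : 2 ≤ (({a, w a} : Finset α)ᶜ).card := by
    have h1 : ({a, w a} : Finset α).card ≤ 2 := Finset.card_le_two
    have h2 := Finset.card_add_card_compl ({a, w a} : Finset α)
    rw [Nat.card_eq_fintype_card] at h4
    omega
  obtain ⟨c, hc, d, hd, hcd⟩ := Finset.one_lt_card.1 hcard
  rw [Finset.mem_compl, Finset.mem_insert, Finset.mem_singleton, not_or] at hc hd
  -- the three-cycle `(a c d)`
  have h3 : (Equiv.swap a c * Equiv.swap a d) ∈ alternatingGroup α :=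
    (Equiv.Perm.isThreeCycle_swap_mul_swap_same (Ne.symm hc.1) (Ne.symm hd.1) hcd).mem_alternatingGroup
  have h5 := congrArg (fun f => f a) (hw _ h3)
  simp only [Equiv.Perm.mul_apply] at h5
  -- `σ a = d`, `σ (w a) = w a`
  have e1 : Equiv.swap a d a = d := Equiv.swap_apply_left a d
  have e2 : Equiv.swap a c d = d := Equiv.swap_apply_of_ne_of_ne hd.1 (Ne.symm hcd)
  have e3 : Equiv.swap a d (w a) = w a := Equiv.swap_apply_of_ne_of_ne hab (Ne.symm hd.2)
  have e4 : Equiv.swap a c (w a) = w a := Equiv.swap_apply_of_ne_of_ne hab (Ne.symm hc.2)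
  rw [e1, e2, e3, e4] at h5
  exact hd.1 (w.injective h5)

/-- A non-trivial subgroup of `Perm α` normalized by the alternating group (degree at least 5) contains it. -/
theorem aux_alt_le (h5 : 5 ≤ Nat.card α) (W : Subgroup (Equiv.Perm α)) (hW : W ≠ ⊥)
    (hn : alternatingGroup α ≤ Subgroup.normalizer (W : Set (Equiv.Perm α))) :
    alternatingGroup α ≤ W := by
  have hsimple : IsSimpleGroup (alternatingGroup α) := alternatingGroup.isSimpleGroup h5
  have hnorm : ((W ⊓ alternatingGroup α).subgroupOf (alternatingGroup α)).Normal := by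
    constructor
    intro n hn' g
    rw [Subgroup.mem_subgroupOf] at hn' ⊢
    refine ⟨?_, (g * n * g⁻¹).2⟩
    have h1 := (Subgroup.mem_normalizer_iff.1 (hn g.2) (n : Equiv.Perm α)).1 hn'.1
    exact h1
  rcases hnorm.eq_bot_or_eq_top with h | h
  · exfalso
    apply hW
    rw [Subgroup.subgroupOf_eq_bot] at h
    rw [Subgroup.eq_bot_iff_forall]
    intro w hw
    apply aux_centralizer_alt (le_trans (by norm_num) h5) w
    intro σ hσ
    have hcomm : w * σ * w⁻¹ * σ⁻¹ ∈ W ⊓ alternatingGroup α := by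
      constructor
      · have h1 : σ * w⁻¹ * σ⁻¹ ∈ W :=
          (Subgroup.mem_normalizer_iff.1 (hn hσ) w⁻¹).1 (W.inv_mem hw)
        have h2 : w * σ * w⁻¹ * σ⁻¹ = w * (σ * w⁻¹ * σ⁻¹) := by group
        rw [h2]
        exact W.mul_mem hw h1
      · have hA : (alternatingGroup α).Normal := inferInstance
        exact (alternatingGroup α).mul_mem (hA.conj_mem σ hσ w) ((alternatingGroup α).inv_mem hσ)
    have h1 : w * σ * w⁻¹ * σ⁻¹ = 1 := by
      have := h.le_bot ⟨hcomm, hcomm.2⟩
      exact this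
    have h2 : w * σ = (w * σ * w⁻¹ * σ⁻¹) * (σ * w) := by group
    rw [h2, h1, one_mul]
  · rw [Subgroup.subgroupOf_eq_top] at h
    exact le_trans h inf_le_left

end PermLevel


section TypeLevel

/-- Type-level form of ALTCOMM. -/
theorem aux_type {H : Type*} [Group H] [Finite H] (T U Z₁ Z₂ : Subgroup H) (d : ℕ) (hd : 5 ≤ d)
    (hidx : T.index = d) (hAS : d.factorial * Nat.card T.normalCore ≤ 2 * Nat.card H)
    (hAU : ⁅(⊤ : Subgroup H), ⊤⁆ ⊔ T.normalCore ≤ U ⊔ T.normalCore)
    (h1 : Z₁ ≤ U) (h1n : U ≤ Subgroup.normalizer (Z₁ : Set H)) (h1K : ¬ Z₁ ≤ T.normalCore)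
    (h2 : Z₂ ≤ U) (h2n : U ≤ Subgroup.normalizer (Z₂ : Set H)) (h2K : ¬ Z₂ ≤ T.normalCore) :
    ⁅(⊤ : Subgroup H), ⊤⁆ ⊔ T.normalCore ≤ ⁅Z₁, Z₂⁆ ⊔ T.normalCore := by
  classical
  have : Fintype (H ⧸ T) := Fintype.ofFinite _
  set φ := MulAction.toPermHom H (H ⧸ T) with hφ
  have hker : T.normalCore = φ.ker := Subgroup.normalCore_eq_ker T
  have hcardα : Nat.card (H ⧸ T) = d := hidx
  have h5 : 5 ≤ Nat.card (H ⧸ T) := by rw [hcardα]; exact hd
  -- the range of `φ` contains the alternating group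
  have hA : alternatingGroup (H ⧸ T) ≤ φ.range := by
    apply Equiv.Perm.alternatingGroup_le_of_index_le_two
    have e1 : Nat.card φ.ker * Nat.card φ.range = Nat.card H := by
      rw [← Subgroup.index_ker]
      exact Subgroup.card_mul_index φ.ker
    have e2 : Nat.card φ.range * φ.range.index = d.factorial := by
      rw [Subgroup.card_mul_index, Nat.card_perm, hcardα]
    rw [hker, ← e1, ← e2] at hAS
    have hpos : 0 < Nat.card φ.ker := Nat.card_pos
    have hpos2 : 0 < Nat.card φ.range := Nat.card_pos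
    have e3 : Nat.card φ.ker * Nat.card φ.range * φ.range.index ≤
        Nat.card φ.ker * Nat.card φ.range * 2 := by
      calc Nat.card φ.ker * Nat.card φ.range * φ.range.index
          = Nat.card φ.range * φ.range.index * Nat.card φ.ker := by ring
        _ ≤ 2 * (Nat.card φ.ker * Nat.card φ.range) := hAS
        _ = Nat.card φ.ker * Nat.card φ.range * 2 := by ring
    exact Nat.le_of_mul_le_mul_left e3 (Nat.mul_pos hpos hpos2)
  -- the image of the alternating part is the alternating group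
  have hmapK : T.normalCore.map φ = ⊥ := by
    rw [Subgroup.map_eq_bot_iff, hker]
  have hmapL : (⁅(⊤ : Subgroup H), ⊤⁆ ⊔ T.normalCore).map φ = alternatingGroup (H ⧸ T) := by
    rw [Subgroup.map_sup, hmapK, sup_bot_eq, Subgroup.map_commutator, ← MonoidHom.range_eq_map]
    apply le_antisymm
    · calc ⁅φ.range, φ.range⁆ ≤ ⁅(⊤ : Subgroup (Equiv.Perm (H ⧸ T))), ⊤⁆ :=
            Subgroup.commutator_mono le_top le_top
        _ = alternatingGroup (H ⧸ T) := alternatingGroup.commutator_perm_eq h5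
    · calc alternatingGroup (H ⧸ T) = ⁅alternatingGroup (H ⧸ T), alternatingGroup (H ⧸ T)⁆ :=
            (commutator_alternatingGroup_eq_self h5).symm
        _ ≤ ⁅φ.range, φ.range⁆ := Subgroup.commutator_mono hA hA
  have hAU' : alternatingGroup (H ⧸ T) ≤ U.map φ := by
    have := Subgroup.map_mono (f := φ) hAU
    rw [hmapL, Subgroup.map_sup, hmapK, sup_bot_eq] at this
    exact this
  have hZ : ∀ Z : Subgroup H, Z ≤ U → U ≤ Subgroup.normalizer (Z : Set H) → ¬ Z ≤ T.normalCore →
      alternatingGroup (H ⧸ T) ≤ Z.map φ := by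
    intro Z hZU hZn hZK
    apply aux_alt_le h5
    · intro hbot
      rw [Subgroup.map_eq_bot_iff, ← hker] at hbot
      exact hZK hbot
    · exact le_trans hAU' (le_trans (Subgroup.map_mono hZn) (Subgroup.le_normalizer_map φ))
  have hZ1 := hZ Z₁ h1 h1n h1K
  have hZ2 := hZ Z₂ h2 h2n h2K
  have hfin : (⁅(⊤ : Subgroup H), ⊤⁆ ⊔ T.normalCore).map φ ≤ (⁅Z₁, Z₂⁆).map φ := by
    rw [hmapL, Subgroup.map_commutator]
    calc alternatingGroup (H ⧸ T) = ⁅alternatingGroup (H ⧸ T), alternatingGroup (H ⧸ T)⁆ :=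
          (commutator_alternatingGroup_eq_self h5).symm
      _ ≤ ⁅Z₁.map φ, Z₂.map φ⁆ := Subgroup.commutator_mono hZ1 hZ2
  rw [Subgroup.map_le_map_iff, ← hker] at hfin
  exact hfin

end TypeLevel


section Abstract

variable {G : Type u} [Group G] [Finite G]

omit [Finite G] in
theorem aux_altPart_eq (M T : Subgroup G) :
    altPart M T = (⁅(⊤ : Subgroup ↥M), ⊤⁆ ⊔ (T.subgroupOf M).normalCore).map M.subtype := by
  unfold altPart relCore
  rw [Subgroup.map_sup, Subgroup.map_commutator, ← MonoidHom.range_eq_map, Subgroup.range_subtype]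

/-- PACKAGE ALTCOMM - THE KEY FACT. -/
theorem as_comm {d : ℕ} {M T U Z₁ Z₂ : Subgroup G} (h : AS d M T) (hd : 5 ≤ d)
    (hUM : U ≤ M) (hAU : altPart M T ≤ U ⊔ relCore M T)
    (h1 : Z₁ ≤ U) (h1n : U ≤ Subgroup.normalizer (Z₁ : Set G)) (h1K : ¬ Z₁ ≤ relCore M T)
    (h2 : Z₂ ≤ U) (h2n : U ≤ Subgroup.normalizer (Z₂ : Set G)) (h2K : ¬ Z₂ ≤ relCore M T) :
    altPart M T ≤ ⁅Z₁, Z₂⁆ ⊔ relCore M T := by
  obtain ⟨hTM, hcard, hfac⟩ := h
  have hZ1M : Z₁ ≤ M := le_trans h1 hUM
  have hZ2M : Z₂ ≤ M := le_trans h2 hUM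
  have hmU : (U.subgroupOf M).map M.subtype = U := Subgroup.map_subgroupOf_eq_of_le hUM
  have hmZ1 : (Z₁.subgroupOf M).map M.subtype = Z₁ := Subgroup.map_subgroupOf_eq_of_le hZ1M
  have hmZ2 : (Z₂.subgroupOf M).map M.subtype = Z₂ := Subgroup.map_subgroupOf_eq_of_le hZ2M
  have hrel : relCore M T = ((T.subgroupOf M).normalCore).map M.subtype := rfl
  -- the hypotheses at the type level
  have hidx : (T.subgroupOf M).index = d := Cfsg.Agent.Lib.Helper99_Kn_COREDVD.aux_index hTM hcard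
  have hAS : d.factorial * Nat.card (T.subgroupOf M).normalCore ≤ 2 * Nat.card ↥M := by
    rw [← Cfsg.Agent.Lib.Helper99_Kn_COREDVD.aux_card_relCore]
    exact hfac
  have hAU' : ⁅(⊤ : Subgroup ↥M), ⊤⁆ ⊔ (T.subgroupOf M).normalCore ≤
      U.subgroupOf M ⊔ (T.subgroupOf M).normalCore := by
    rw [aux_altPart_eq, hrel, ← hmU, ← Subgroup.map_sup,
      Subgroup.map_le_map_iff_of_injective M.subtype_injective] at hAU
    exact hAU
  have hnorm : ∀ Z : Subgroup G, U ≤ Subgroup.normalizer (Z : Set G) →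
      U.subgroupOf M ≤ Subgroup.normalizer ((Z.subgroupOf M : Subgroup ↥M) : Set ↥M) := by
    intro Z hZn u hu
    rw [Subgroup.mem_subgroupOf] at hu
    rw [Subgroup.mem_normalizer_iff]
    intro z
    rw [Subgroup.mem_subgroupOf, Subgroup.mem_subgroupOf]
    exact (Subgroup.mem_normalizer_iff.1 (hZn hu)) (z : G)
  have hnot : ∀ Z : Subgroup G, Z ≤ M → ¬ Z ≤ relCore M T →
      ¬ Z.subgroupOf M ≤ (T.subgroupOf M).normalCore := by
    intro Z hZM hZK hle
    apply hZK
    rw [hrel, ← Subgroup.map_subgroupOf_eq_of_le hZM]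
    exact Subgroup.map_mono hle
  have key := aux_type (T.subgroupOf M) (U.subgroupOf M) (Z₁.subgroupOf M) (Z₂.subgroupOf M) d hd hidx hAS
    hAU' (Subgroup.comap_mono h1) (hnorm Z₁ h1n) (hnot Z₁ hZ1M h1K)
    (Subgroup.comap_mono h2) (hnorm Z₂ h2n) (hnot Z₂ hZ2M h2K)
  have key2 := Subgroup.map_mono (f := M.subtype) key
  rw [← aux_altPart_eq, Subgroup.map_sup, Subgroup.map_commutator, hmZ1, hmZ2, ← hrel] at key2
  exact key2

end Abstract

end Cfsg.Agent.Lib.Helper99_Kn_ALTCOMM
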