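import Cfsg.Agent.Lib.Helper49_KnDefs
import Cfsg.Agent.Lib.Helper49_Kn_BASIC
import Cfsg.Agent.Lib.Helper71_Kn_STEP6Aaux
import Cfsg.Agent.Lib.Helper41_Kn_ALTPOINT
import Cfsg.Agent.Lib.Helper99_Kn_ALTCOMM
import Cfsg.Agent.Lib.Helper82_Kn_ALTPART
import Cfsg.Agent.Lib.Helper10_Kn_ALTTRANS
import Cfsg.Agent.Lib.Helper60_Kn_ALTcore

/-!
# S3687 market (architect helper49), package STEP6A (helper71)

`C = C_M(K)`: `L ≤ C`, `C ∩ K = 1`, `C ∩ T = L`, `M = C T`.  `Helper71_Kn_STEP6Aaux.step6a_aux` with ALTPOINT (helper41),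
ALTCOMM (helper99), ALTPART (helper82), ALTTRANS (helper10) and the core of ALTSOLV (helper60, `as_solv_of`).
-/

set_option autoImplicit false
set_option linter.unusedVariables false

namespace Cfsg.Agent.Lib.Helper71_Kn_STEP6A

open Cfsg Cfsg.Agent.Lib.Helper47_TW Cfsg.Agent.Lib.Helper49_KnDefs

universe u

variable {G : Type u} [Group G] [Finite G]

/-- PACKAGE STEP6A -/
theorem step6a {d : ℕ} {M N : Subgroup G} {g : G} (h : Sym d M N g)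
    (hX : c1 M N ⊓ c1 N M = ⊥) :
    c1 N M ≤ Subgroup.centralizer (c1 M N : Set G) ⊓ M ∧
      (Subgroup.centralizer (c1 M N : Set G) ⊓ M) ⊓ c1 M N = ⊥ ∧
      (Subgroup.centralizer (c1 M N : Set G) ⊓ M) ⊓ (M ⊓ N) = c1 N M ∧
      ∀ m ∈ M, ∃ c ∈ Subgroup.centralizer (c1 M N : Set G) ⊓ M, ∃ t ∈ M ⊓ N, m = c * t :=
  Cfsg.Agent.Lib.Helper71_Kn_STEP6Aaux.step6a_aux
    (fun d M T h hd m hm hmT => Cfsg.Agent.Lib.Helper41_Kn_ALTPOINT.as_point h hd hm hmT)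
    (fun d M T U Z h hd hUM hAU hZU hZn hsolv =>
      Cfsg.Agent.Lib.Helper60_Kn_ALTcore.as_solv_of (d := d) (M := M) (T := T) (U := U) hd
        (fun Z₁ Z₂ h1 h1n h1K h2 h2n h2K =>
          Cfsg.Agent.Lib.Helper99_Kn_ALTCOMM.as_comm h hd hUM hAU h1 h1n h1K h2 h2n h2K)
        ⟨(Cfsg.Agent.Lib.Helper82_Kn_ALTPART.altPart_facts h hd).1,
          (Cfsg.Agent.Lib.Helper82_Kn_ALTPART.altPart_facts h hd).2.2.2⟩ hZU hZn hsolv)
    (fun d M T U Z₁ Z₂ h hd hUM hAU h1 h1n h1K h2 h2n h2K =>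
      Cfsg.Agent.Lib.Helper99_Kn_ALTCOMM.as_comm h hd hUM hAU h1 h1n h1K h2 h2n h2K)
    (fun d M T h hd => Cfsg.Agent.Lib.Helper82_Kn_ALTPART.altPart_facts h hd)
    (fun d M T H h hd hAH => Cfsg.Agent.Lib.Helper10_Kn_ALTTRANS.as_trans h hd hAH)
    h hX

end Cfsg.Agent.Lib.Helper71_Kn_STEP6A
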