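import Cfsg.Agent.Lib.Helper49_KnDefs
import Cfsg.Agent.Lib.Helper71_Kn_STEP6A
import Cfsg.Agent.Lib.Helper41_Kn_ALTPOINT

namespace Cfsg.Agent.Lib.Helper14_Kn_STEP6B

open Cfsg Cfsg.Agent.Lib.Helper47_TW Cfsg.Agent.Lib.Helper49_KnDefs Cfsg.Agent.Lib.Helper47_SubAPI
open Cfsg.Agent.Lib.Helper71_Kn_STEP6A Cfsg.Agent.Lib.Helper41_Kn_ALTPOINT

universe u

variable {G : Type u} [Group G] [Finite G]

omit [Finite G] in
/-- product formula for a subgroup `H` normalizing a subgroup `N`. -/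
theorem card_sup_mul_card_inf (H N : Subgroup G)
    (hLE : H ≤ Subgroup.normalizer (N : Set G)) :
    Nat.card ↥(H ⊔ N) * Nat.card ↥(H ⊓ N) = Nat.card H * Nat.card N := by
  have := Subgroup.normal_subgroupOf_of_le_normalizer hLE
  have := Subgroup.normal_subgroupOf_sup_of_le_normalizer hLE
  have e := QuotientGroup.quotientInfEquivProdNormalizerQuotient H N hLE
  have h1 : Nat.card ↥(H ⊔ N) =
      Nat.card (↥(H ⊔ N) ⧸ N.subgroupOf (H ⊔ N)) * Nat.card ↥(N.subgroupOf (H ⊔ N)) :=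
    Subgroup.card_eq_card_quotient_mul_card_subgroup _
  have h2 : Nat.card ↥(N.subgroupOf (H ⊔ N)) = Nat.card N :=
    Nat.card_congr (Subgroup.subgroupOfEquivOfLe (le_sup_right : N ≤ H ⊔ N)).toEquiv
  have h3 : Nat.card (↥(H ⊔ N) ⧸ N.subgroupOf (H ⊔ N)) = Nat.card (↥H ⧸ N.subgroupOf H) :=
    (Nat.card_congr e.toEquiv).symm
  have h4 : Nat.card H = Nat.card (↥H ⧸ N.subgroupOf H) * Nat.card ↥(N.subgroupOf H) :=
    Subgroup.card_eq_card_quotient_mul_card_subgroup _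
  have h5 : Nat.card ↥(N.subgroupOf H) = Nat.card ↥(H ⊓ N) := by
    rw [← Subgroup.card_map_of_injective (K := N.subgroupOf H) H.subtype_injective,
      Subgroup.subgroupOf_map_subtype, inf_comm]
  rw [h1, h2, h3, h4, h5]; ring

theorem step6b {d : ℕ} {M N : Subgroup G} {g : G} (h : Sym d M N g)
    (hX : c1 M N ⊓ c1 N M = ⊥) :
    ∃ R : Subgroup G, AS (d - 1) M R ∧ relCore M R ⊓ c1 M N = ⊥ ∧
      Nat.card (relCore M R) = d * Nat.card (c1 M N) := by
  obtain ⟨hLC, hCK, hCT, hMCT⟩ := step6a h hX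
  obtain ⟨hTM, hcM, hfM⟩ := h.asM
  obtain ⟨hTN, hcN, hfN⟩ := h.asN
  have hd := h.hd
  have hTpos : 0 < Nat.card ↥(M ⊓ N) := Nat.card_pos
  obtain ⟨n, hnN, hnT⟩ : ∃ n ∈ N, n ∉ M ⊓ N := by
    by_contra hcon
    push Not at hcon
    have h1 : N = M ⊓ N := le_antisymm hcon hTN
    have h2 : Nat.card N = Nat.card ↥(M ⊓ N) := by rw [← h1]
    rw [h2] at hcN
    nlinarith
  obtain ⟨hAS, hcore⟩ := as_point h.asN (by omega) hnN hnT
  set S : Subgroup G := (M ⊓ N) ⊓ cj n (M ⊓ N) with hSdef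
  set C : Subgroup G := Subgroup.centralizer (c1 M N : Set G) ⊓ M with hCdef
  have hcoreL : relCore (M ⊓ N) S = c1 N M := by
    rw [hcore]; unfold c1; rw [inf_comm]
  obtain ⟨hST, hcT, hfT⟩ := hAS
  rw [hcoreL] at hfT
  have hLS : c1 N M ≤ S := hcoreL ▸ relCore_le_right _ _
  have hCM : C ≤ M := inf_le_right
  have hMC : M ≤ Subgroup.normalizer ((C : Subgroup G) : Set G) := by
    refine le_trans ?_ (normalizer_inf_le_normalizer_inf _ _)
    exact le_inf ((le_normalizer_relCore M _).trans (normalizer_le_normalizer_centralizer _))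
      Subgroup.le_normalizer
  have hsupM : C ⊔ (M ⊓ N) = M := by
    apply le_antisymm (sup_le hCM hTM)
    intro m hm
    obtain ⟨c, hc, t, ht, rfl⟩ := hMCT m hm
    exact Subgroup.mul_mem _ (Subgroup.mem_sup_left hc) (Subgroup.mem_sup_right ht)
  have hpf1 := card_sup_mul_card_inf (M ⊓ N) C (hTM.trans hMC)
  rw [sup_comm, hsupM, inf_comm, hCT] at hpf1
  have hKL : Nat.card (c1 N M) = Nat.card (c1 M N) := by
    rw [h.hK]
    exact Subgroup.card_map_of_injective (f := (MulAut.conj g).toMonoidHom) (MulAut.conj g).injective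
  have hLpos : 0 < Nat.card (c1 N M) := Nat.card_pos
  have hCcard : Nat.card C = d * Nat.card (c1 M N) := by
    rw [hcM] at hpf1
    rw [← hKL]
    exact Nat.eq_of_mul_eq_mul_left hTpos (by linarith)
  refine ⟨C ⊔ S, ?_⟩
  have hSM : S ≤ M := hST.trans hTM
  have hRM : C ⊔ S ≤ M := sup_le hCM hSM
  have hCS : S ⊓ C = c1 N M := by
    apply le_antisymm
    · rw [← hCT, inf_comm]; exact inf_le_inf_left _ hST
    · exact le_inf hLS hLC
  have hpf2 := card_sup_mul_card_inf S C (hSM.trans hMC)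
  rw [hCS, sup_comm] at hpf2
  have hRcard : Nat.card ↥(C ⊔ S) = d * Nat.card S := by
    rw [hCcard, ← hKL] at hpf2
    exact Nat.eq_of_mul_eq_mul_right hLpos (by linarith)
  have hRT : (C ⊔ S) ⊓ (M ⊓ N) ≤ S := by
    rintro x ⟨hxR, hxT⟩
    have hx' : x ∈ ((C ⊔ S : Subgroup G) : Set G) := hxR
    rw [Subgroup.coe_mul_of_right_le_normalizer_left C S (hSM.trans hMC)] at hx'
    obtain ⟨c, hc, s, hs, rfl⟩ := hx'
    have hcT' : c ∈ M ⊓ N := by
      have := Subgroup.mul_mem _ hxT (Subgroup.inv_mem _ (hST hs))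
      simpa using this
    have hcL : c ∈ c1 N M := by rw [← hCT]; exact ⟨hc, hcT'⟩
    exact Subgroup.mul_mem _ (hLS hcL) hs
  have hcoreR : relCore M (C ⊔ S) = C := by
    apply le_antisymm
    · intro x hx
      rw [mem_relCore] at hx
      obtain ⟨hxM, hxc⟩ := hx
      obtain ⟨c, hc, t, ht, rfl⟩ := hMCT x hxM
      have htL : t ∈ relCore (M ⊓ N) S := by
        rw [mem_relCore]
        refine ⟨ht, fun t' ht' => hRT ⟨?_, ?_⟩⟩
        · have h1 := hxc t' (hTM ht')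
          have h2 : t' * c * t'⁻¹ ∈ C := (Subgroup.mem_normalizer_iff.mp (hMC (hTM ht')) c).mp hc
          have h3 : t' * t * t'⁻¹ = (t' * c * t'⁻¹)⁻¹ * (t' * (c * t) * t'⁻¹) := by group
          rw [h3]
          exact Subgroup.mul_mem _ (Subgroup.inv_mem _ (Subgroup.mem_sup_left h2)) h1
        · exact Subgroup.mul_mem _ (Subgroup.mul_mem _ ht' ht) (Subgroup.inv_mem _ ht')
      rw [hcoreL] at htL
      exact Subgroup.mul_mem _ hc (hLC htL)
    · exact le_relCore hCM le_sup_left hMC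
  refine ⟨⟨hRM, ?_, ?_⟩, ?_, ?_⟩
  · rw [hRcard, hcM, hcT]; ring
  · rw [hcoreR, hCcard, ← hKL, hcM]
    nlinarith [hfT]
  · rw [hcoreR]; exact hCK
  · rw [hcoreR]; exact hCcard

end Cfsg.Agent.Lib.Helper14_Kn_STEP6B
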