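import Mathlib
import Cfsg.Agent.Lib.Helper22_MI2Defs
import Cfsg.Agent.Lib.Helper14_POmegaSimple

/-!
# S2146 package MI2-BRLOW (architect helper22): transfer of the lower bound from `T Q` to `PΩ`
-/

set_option autoImplicit false

namespace Cfsg.Agent.Lib.Helper14_MI2_BRLOW

open Module Cfsg.Agent.Lib.Helper14_OmegaSimple Cfsg.Agent.Lib.Helper22_MI2Defs
  Cfsg.Agent.Lib.Helper44_StdForms Cfsg.Agent.Lib.Helper14_POmegaSimple
  Cfsg.Agent.Lib.Helper14_SiegelOmega2

variable {F : Type*} [Field F] [Fintype F]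

section gen

variable {ι : Type} [Fintype ι] [DecidableEq ι]

/-- The embedding of `Ω(Q)` into the linear automorphisms. -/
noncomputable def psi (Q : QuadraticForm F (ι → F)) :
    ↥(Cfsg.Omega F (⇑Q)) →* ((ι → F) ≃ₗ[F] (ι → F)) :=
  (phi Q).comp (Cfsg.Omega F (⇑Q)).subtype

omit [Fintype F] in
theorem psi_injective (Q : QuadraticForm F (ι → F)) : Function.Injective (psi Q) :=
  (phi_injective Q).comp (Subgroup.subtype_injective _)

theorem map_top_psi (Q : QuadraticForm F (ι → F))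
    (hQ : (QuadraticMap.polarBilin Q).Nondegenerate) (hn : 5 ≤ Fintype.card ι) :
    (⊤ : Subgroup ↥(Cfsg.Omega F (⇑Q))).map (psi Q) = T Q := by
  have hmap : (Cfsg.Omega F (⇑Q)).map (phi Q) = T Q := by
    rw [omega_eq_siegelGroup Q hQ hn, map_siegelGroup]
  rw [psi, ← Subgroup.map_map, ← MonoidHom.range_eq_map, Subgroup.range_subtype, hmap]

/-- The isomorphism `Ω(Q) ≃* T Q`. -/
noncomputable def omegaEquivT (Q : QuadraticForm F (ι → F))
    (hQ : (QuadraticMap.polarBilin Q).Nondegenerate) (hn : 5 ≤ Fintype.card ι) :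
    ↥(Cfsg.Omega F (⇑Q)) ≃* ↥(T Q) :=
  ((MonoidHom.ofInjective (psi_injective Q)).trans
    (MulEquiv.subgroupCongr (by rw [MonoidHom.range_eq_map, map_top_psi Q hQ hn])))

theorem omegaEquivT_coe (Q : QuadraticForm F (ι → F))
    (hQ : (QuadraticMap.polarBilin Q).Nondegenerate) (hn : 5 ≤ Fintype.card ι)
    (a : ↥(Cfsg.Omega F (⇑Q))) :
    ((omegaEquivT Q hQ hn a : ↥(T Q)) : (ι → F) ≃ₗ[F] (ι → F)) = psi Q a := rfl

theorem lower_gen (Q : QuadraticForm F (ι → F))
    (hQ : (QuadraticMap.polarBilin Q).Nondegenerate) (hn : 5 ≤ Fintype.card ι) (N : ℕ)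
    (habs : ∀ M : Subgroup ((ι → F) ≃ₗ[F] (ι → F)), M ≤ T Q → M ≠ T Q → N ≤ M.relIndex (T Q)) :
    ∀ H : Subgroup (Cfsg.POmega F (⇑Q)), H ≠ ⊤ → N ≤ H.index := by
  intro H hH
  have hidx : (H.comap (QuotientGroup.mk' (Subgroup.center ↥(Cfsg.Omega F (⇑Q))))).index =
      H.index :=
    Subgroup.index_comap_of_surjective H (QuotientGroup.mk'_surjective _)
  have hH' : H.comap (QuotientGroup.mk' (Subgroup.center ↥(Cfsg.Omega F (⇑Q)))) ≠ ⊤ := by
    intro h
    apply hH
    rw [← Subgroup.index_eq_one, ← hidx, Subgroup.index_eq_one]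
    exact h
  set H' := H.comap (QuotientGroup.mk' (Subgroup.center ↥(Cfsg.Omega F (⇑Q)))) with hH'def
  have htop := map_top_psi Q hQ hn
  have hle : H'.map (psi Q) ≤ T Q := by
    rw [← htop]
    exact Subgroup.map_mono le_top
  have hne : H'.map (psi Q) ≠ T Q := by
    intro h
    apply hH'
    rw [← htop] at h
    exact Subgroup.map_injective (psi_injective Q) h
  have h1 := habs _ hle hne
  rw [← htop, Subgroup.relIndex_map_map_of_injective _ _ (psi_injective Q),
    Subgroup.relIndex_top_right, hidx] at h1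
  exact h1

end gen

theorem lower_of_abstract (m : ℕ) (hm : 4 ≤ m) (N : ℕ)
    (habs : ∀ M : Subgroup ((Fin m ⊕ Fin m → F) ≃ₗ[F] (Fin m ⊕ Fin m → F)),
      M ≤ T (qfPlus m F) → M ≠ T (qfPlus m F) → N ≤ M.relIndex (T (qfPlus m F))) :
    ∀ H : Subgroup (Cfsg.POmega F (Cfsg.quadFormPlus m F)), H ≠ ⊤ → N ≤ H.index := by
  rw [← coe_qfPlus]
  apply lower_gen (qfPlus m F) (nondegenerate_qfPlus m) _ N habs
  rw [Fintype.card_sum, Fintype.card_fin]
  omega

end Cfsg.Agent.Lib.Helper14_MI2_BRLOW
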