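import Mathlib
import Cfsg.Agent.Lib.Helper22_MI2Defs
import Cfsg.Agent.Lib.Helper14_POmegaSimple
import Cfsg.Agent.Lib.Helper14_MI2_BRLOW

/-!
# S2146 package MI2-BREX (architect helper22): the minimal index is attained in `PΩ`
-/

set_option autoImplicit false

namespace Cfsg.Agent.Lib.Helper14_MI2_BREX

open Module Cfsg.Agent.Lib.Helper14_OmegaSimple Cfsg.Agent.Lib.Helper22_MI2Defs
  Cfsg.Agent.Lib.Helper44_StdForms Cfsg.Agent.Lib.Helper14_POmegaSimple
  Cfsg.Agent.Lib.Helper14_SiegelOmega2 Cfsg.Agent.Lib.Helper14_MI2_BRLOW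

open scoped commutatorElement

section abs

variable {G : Type*} [Group G]

theorem comm_mul_left_of_commute (x k y : G) (h : k * y = y * k) : ⁅x * k, y⁆ = ⁅x, y⁆ := by
  rw [commutatorElement_def, commutatorElement_def, mul_inv_rev]
  have h1 : k * y * k⁻¹ = y := by rw [h, mul_inv_cancel_right]
  calc x * k * y * (k⁻¹ * x⁻¹) * y⁻¹ = x * (k * y * k⁻¹) * x⁻¹ * y⁻¹ := by group
    _ = x * y * x⁻¹ * y⁻¹ := by rw [h1]

theorem comm_mul_right_of_commute (x y k : G) (h : k * x = x * k) : ⁅x, y * k⁆ = ⁅x, y⁆ := by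
  rw [commutatorElement_def, commutatorElement_def, mul_inv_rev]
  have h1 : k * x⁻¹ * k⁻¹ = x⁻¹ := by
    have : k * x⁻¹ = x⁻¹ * k := by
      calc k * x⁻¹ = x⁻¹ * (x * k) * x⁻¹ := by group
        _ = x⁻¹ * (k * x) * x⁻¹ := by rw [h]
        _ = x⁻¹ * k := by group
    rw [this, mul_inv_cancel_right]
  calc x * (y * k) * x⁻¹ * (k⁻¹ * y⁻¹) = x * y * (k * x⁻¹ * k⁻¹) * y⁻¹ := by group
    _ = x * y * x⁻¹ * y⁻¹ := by rw [h1]

/-- In a perfect group a proper subgroup stays proper modulo the centre. -/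
theorem map_center_ne_top (hperf : commutator G = ⊤) (K : Subgroup G) (hK : K ≠ ⊤) :
    K.map (QuotientGroup.mk' (Subgroup.center G)) ≠ ⊤ := by
  intro htop
  apply hK
  have hdec : ∀ a : G, ∃ k ∈ K, ∃ z ∈ Subgroup.center G, a = k * z := by
    intro a
    have h1 : (QuotientGroup.mk' (Subgroup.center G)) a ∈
        K.map (QuotientGroup.mk' (Subgroup.center G)) := by
      rw [htop]
      exact Subgroup.mem_top _
    obtain ⟨k, hk, hka⟩ := Subgroup.mem_map.1 h1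
    refine ⟨k, hk, k⁻¹ * a, ?_, ?_⟩
    · exact QuotientGroup.eq.1 hka
    · rw [mul_inv_cancel_left]
  rw [eq_top_iff, ← hperf, commutator_eq_closure, Subgroup.closure_le]
  rintro _ ⟨a, b, rfl⟩
  obtain ⟨k₁, hk₁, z₁, hz₁, rfl⟩ := hdec a
  obtain ⟨k₂, hk₂, z₂, hz₂, rfl⟩ := hdec b
  rw [Subgroup.mem_center_iff] at hz₁ hz₂
  rw [comm_mul_left_of_commute _ _ _ (hz₁ _).symm, comm_mul_right_of_commute _ _ _ (hz₂ _).symm]
  exact K.mul_mem (K.mul_mem (K.mul_mem hk₁ hk₂) (K.inv_mem hk₁)) (K.inv_mem hk₂)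

end abs

variable {F : Type*} [Field F] [Fintype F]

section gen

variable {ι : Type} [Fintype ι] [DecidableEq ι]

theorem exists_index_gen (Q : QuadraticForm F (ι → F))
    (hQ : (QuadraticMap.polarBilin Q).Nondegenerate) (hn : 5 ≤ Fintype.card ι) (n : ℕ)
    (hn2 : 2 ≤ n) (hf2 : ∀ c : F, c = 0 ∨ c = 1)
    (hns : Nat.card {x : ι → F // Q x ≠ 0} = n)
    (htrns : ∀ x y : ι → F, Q x ≠ 0 → Q x = Q y → ∃ g ∈ T Q, g x = y)
    (hlow : ∀ H : Subgroup (Cfsg.POmega F (⇑Q)), H ≠ ⊤ → n ≤ H.index) :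
    ∃ H : Subgroup (Cfsg.POmega F (⇑Q)), H.index = n := by
  have hdim : 5 ≤ finrank F (ι → F) := by
    rw [Module.finrank_fintype_fun_eq_card]; exact hn
  -- a nonsingular vector
  have hne : Nonempty {x : ι → F // Q x ≠ 0} := by
    have : 0 < Nat.card {x : ι → F // Q x ≠ 0} := by omega
    exact (Nat.card_pos_iff.1 this).1
  obtain ⟨⟨x₀, hx₀⟩⟩ := hne
  -- the stabiliser of `x₀` in `T Q`
  have horb : MulAction.orbit ↥(T Q) x₀ = {y : ι → F | Q y ≠ 0} := by
    ext y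
    constructor
    · rintro ⟨g, rfl⟩
      have hg := T_le_oG Q g.2
      show Q ((g : (ι → F) ≃ₗ[F] (ι → F)) x₀) ≠ 0
      rw [hg x₀]
      exact hx₀
    · intro hy
      have hy' : Q y ≠ 0 := hy
      have hxy : Q x₀ = Q y := by
        rcases hf2 (Q x₀) with h0 | h1
        · exact absurd h0 hx₀
        · rcases hf2 (Q y) with h0' | h1'
          · exact absurd h0' hy'
          · rw [h1, h1']
      obtain ⟨g, hg, hgx⟩ := htrns x₀ y hx₀ hxy
      exact ⟨⟨g, hg⟩, hgx⟩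
  have hSidx : (MulAction.stabilizer ↥(T Q) x₀).index = n := by
    rw [MulAction.index_stabilizer, horb, ← hns, ← Nat.card_coe_set_eq]
    rfl
  -- transport to `Ω`
  have hKidx : ((MulAction.stabilizer ↥(T Q) x₀).comap
      (omegaEquivT Q hQ hn).toMonoidHom).index = n := by
    rw [Subgroup.index_comap_of_surjective _ (omegaEquivT Q hQ hn).surjective, hSidx]
  have hKne : (MulAction.stabilizer ↥(T Q) x₀).comap (omegaEquivT Q hQ hn).toMonoidHom ≠ ⊤ := by
    intro h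
    rw [h, Subgroup.index_top] at hKidx
    omega
  have hperf : commutator ↥(Cfsg.Omega F (⇑Q)) = ⊤ := by
    have h1 := commutator_T_eq_top Q hQ hdim
    apply Subgroup.map_injective (f := (omegaEquivT Q hQ hn).toMonoidHom)
      (omegaEquivT Q hQ hn).injective
    rw [commutator_def, Subgroup.map_commutator,
      Subgroup.map_top_of_surjective _ (omegaEquivT Q hQ hn).surjective, ← commutator_def, h1]
  have hHne := map_center_ne_top hperf _ hKne
  have hdvd := Subgroup.index_map_dvd ((MulAction.stabilizer ↥(T Q) x₀).comap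
      (omegaEquivT Q hQ hn).toMonoidHom)
    (QuotientGroup.mk'_surjective (Subgroup.center ↥(Cfsg.Omega F (⇑Q))))
  rw [hKidx] at hdvd
  exact ⟨_, le_antisymm (Nat.le_of_dvd (by omega) hdvd) (hlow _ hHne)⟩

end gen

theorem Nmin_ge_two (m : ℕ) (hm : 4 ≤ m) : 2 ≤ Nmin m := by
  unfold Nmin
  have h1 : 2 ^ 3 ≤ 2 ^ (m - 1) := Nat.pow_le_pow_right (by norm_num) (by omega)
  have h2 : 2 ^ 4 ≤ 2 ^ m := Nat.pow_le_pow_right (by norm_num) hm
  have h3 : 1 ≤ 2 ^ m - 1 := by omega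
  calc 2 ≤ 2 ^ 3 * 1 := by norm_num
    _ ≤ 2 ^ (m - 1) * (2 ^ m - 1) := Nat.mul_le_mul h1 h3

theorem exists_index (hF : Fintype.card F = 2) (m : ℕ) (hm : 4 ≤ m)
    (hset : PlusSetting (qfPlus m F) m)
    (htrns : ∀ x y : Fin m ⊕ Fin m → F, qfPlus m F x ≠ 0 → qfPlus m F x = qfPlus m F y →
      ∃ g ∈ T (qfPlus m F), g x = y)
    (hlow : ∀ H : Subgroup (Cfsg.POmega F (Cfsg.quadFormPlus m F)), H ≠ ⊤ → Nmin m ≤ H.index) :
    ∃ H : Subgroup (Cfsg.POmega F (Cfsg.quadFormPlus m F)), H.index = Nmin m := by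
  rw [← coe_qfPlus] at hlow ⊢
  apply exists_index_gen (qfPlus m F) hset.nondeg _ (Nmin m) (Nmin_ge_two m hm) hset.f2 hset.ns
    htrns hlow
  rw [Fintype.card_sum, Fintype.card_fin]
  omega

end Cfsg.Agent.Lib.Helper14_MI2_BREX
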