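import Mathlib

set_option autoImplicit false

/-!
Finite groups `E` with a central involution `z` such that all commutators and all squares lie in `{1, z}`
(preimages of elementary abelian 2-subgroups of a quotient by a central subgroup of order two): a bound for
`|E|` from bounds on the elementary abelian subgroups of `E` (helper14).
-/

namespace Cfsg.Agent.Lib.Helper14_ProjRank

open scoped Classical

variable {E : Type*} [Group E]

/-- A subgroup `H ≤ K` such that any two elements of `K` outside `H` differ by an element of `H` has index at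
most two in `K`. -/
theorem card_le_two_mul (H K : Subgroup E) [Finite K] (hHK : H ≤ K)
    (h : ∀ a ∈ K, ∀ b ∈ K, a ∉ H → b ∉ H → a⁻¹ * b ∈ H) : Nat.card K ≤ 2 * Nat.card H := by
  haveI : Finite H := Finite.of_injective (Subgroup.inclusion hHK) (Subgroup.inclusion_injective hHK)
  by_cases hex : ∃ b ∈ K, b ∉ H
  · obtain ⟨b, hbK, hbH⟩ := hex
    let f : K → H × Bool := fun k =>
      if hk : (k : E) ∈ H then (⟨k, hk⟩, false) else (⟨b⁻¹ * k, h b hbK k k.2 hbH hk⟩, true)
    have hf : Function.Injective f := by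
      intro k₁ k₂ h12
      by_cases h1 : (k₁ : E) ∈ H <;> by_cases h2 : (k₂ : E) ∈ H
      · simp only [f, dif_pos h1, dif_pos h2, Prod.mk.injEq, Subtype.mk.injEq, and_true] at h12
        exact Subtype.ext h12
      · simp only [f, dif_pos h1, dif_neg h2, Prod.mk.injEq, Bool.false_eq_true, and_false] at h12
      · simp only [f, dif_neg h1, dif_pos h2, Prod.mk.injEq, Bool.true_eq_false, and_false] at h12
      · simp only [f, dif_neg h1, dif_neg h2, Prod.mk.injEq, Subtype.mk.injEq, and_true] at h12
        exact Subtype.ext (mul_left_cancel h12)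
    have := Nat.card_le_card_of_injective f hf
    rw [Nat.card_prod, Nat.card_eq_fintype_card (α := Bool), Fintype.card_bool] at this
    omega
  · push Not at hex
    have hKH : K ≤ H := fun k hk => hex k hk
    have := Subgroup.card_le_of_le hKH
    omega

/-- The hypotheses: `z` is a central involution and all commutators and squares lie in `{1, z}`. -/
structure PSetup (z : E) : Prop where
  z_ne : z ≠ 1
  z_sq : z * z = 1
  z_comm : ∀ x : E, x * z = z * x
  comm : ∀ x y : E, x * y = y * x ∨ x * y = z * (y * x)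
  sq : ∀ x : E, x * x = 1 ∨ x * x = z

/-- The commutation sign. -/
noncomputable def kappa (x a : E) : ℤ := if x * a = a * x then 1 else -1

theorem kappa_comm (x a : E) : kappa x a = kappa a x := by
  unfold kappa
  by_cases h : x * a = a * x
  · rw [if_pos h, if_pos h.symm]
  · rw [if_neg h, if_neg (fun h' => h h'.symm)]

variable {z : E}

theorem kappa_mul_right (hz : PSetup z) (x a b : E) : kappa x (a * b) = kappa x a * kappa x b := by
  unfold kappa
  by_cases ha : x * a = a * x <;> by_cases hb : x * b = b * x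
  · have : x * (a * b) = a * b * x := by rw [← mul_assoc, ha, mul_assoc, hb, mul_assoc]
    rw [if_pos ha, if_pos hb, if_pos this]; norm_num
  · have hb' : x * b = z * (b * x) := (hz.comm x b).resolve_left hb
    have : x * (a * b) ≠ a * b * x := by
      intro h
      apply hz.z_ne
      have h1 : x * (a * b) = z * (a * b * x) := by
        rw [← mul_assoc, ha, mul_assoc, hb', ← mul_assoc a z, hz.z_comm a]
        group
      rw [h] at h1
      have := mul_right_cancel (b := a * b * x) (a := 1) (c := z) (by rw [one_mul]; exact h1)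
      exact this.symm
    rw [if_pos ha, if_neg hb, if_neg this]; norm_num
  · have ha' : x * a = z * (a * x) := (hz.comm x a).resolve_left ha
    have : x * (a * b) ≠ a * b * x := by
      intro h
      apply hz.z_ne
      have h1 : x * (a * b) = z * (a * b * x) := by
        rw [← mul_assoc, ha', mul_assoc, mul_assoc, hb]
        group
      rw [h] at h1
      have := mul_right_cancel (b := a * b * x) (a := 1) (c := z) (by rw [one_mul]; exact h1)
      exact this.symm
    rw [if_neg ha, if_pos hb, if_neg this]; norm_num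
  · have ha' : x * a = z * (a * x) := (hz.comm x a).resolve_left ha
    have hb' : x * b = z * (b * x) := (hz.comm x b).resolve_left hb
    have : x * (a * b) = a * b * x := by
      rw [← mul_assoc, ha', mul_assoc z, mul_assoc a, hb', ← mul_assoc a z, hz.z_comm a, mul_assoc z,
        ← mul_assoc z z, hz.z_sq, one_mul]
      group
    rw [if_neg ha, if_neg hb, if_pos this]; norm_num

theorem kappa_mul_left (hz : PSetup z) (x y a : E) : kappa (x * y) a = kappa x a * kappa y a := by
  rw [kappa_comm, kappa_mul_right hz, kappa_comm a x, kappa_comm a y]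

variable [Fintype E]

/-- Row sums: summing the commutation sign of `x` over a subgroup. -/
theorem sum_kappa_right (hz : PSetup z) (M : Subgroup E) (x : E) :
    ∑ a : M, kappa x (a : E) = if ∀ a ∈ M, x * a = a * x then (Fintype.card M : ℤ) else 0 := by
  by_cases h : ∀ a ∈ M, x * a = a * x
  · rw [if_pos h]
    have : ∀ a : M, kappa x (a : E) = 1 := fun a => by
      unfold kappa; rw [if_pos (h a a.2)]
    simp [this]
  · rw [if_neg h]
    push Not at h
    obtain ⟨a₀, ha₀, hne⟩ := h
    have hk : kappa x a₀ = -1 := by unfold kappa; rw [if_neg hne]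
    have h1 : ∑ a : M, kappa x (a : E) = ∑ a : M, kappa x ((a * ⟨a₀, ha₀⟩ : M) : E) :=
      (Fintype.sum_equiv (Equiv.mulRight (⟨a₀, ha₀⟩ : M))
        (fun a : M => kappa x ((a * ⟨a₀, ha₀⟩ : M) : E)) (fun a : M => kappa x (a : E))
        (fun a => rfl)).symm
    have h2 : ∑ a : M, kappa x ((a * ⟨a₀, ha₀⟩ : M) : E) = -∑ a : M, kappa x (a : E) := by
      rw [← Finset.sum_neg_distrib]
      apply Finset.sum_congr rfl
      intro a _
      rw [Subgroup.coe_mul, kappa_mul_right hz, hk]
      ring
    linarith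

/-- Column sums. -/
theorem sum_kappa_left (hz : PSetup z) (a : E) :
    ∑ x : E, kappa x a = if ∀ x : E, x * a = a * x then (Fintype.card E : ℤ) else 0 := by
  by_cases h : ∀ x : E, x * a = a * x
  · rw [if_pos h]
    have : ∀ x : E, kappa x a = 1 := fun x => by
      unfold kappa; rw [if_pos (h x)]
    simp [this]
  · rw [if_neg h]
    push Not at h
    obtain ⟨x₀, hne⟩ := h
    have hk : kappa x₀ a = -1 := by unfold kappa; rw [if_neg hne]
    have h1 : ∑ x : E, kappa x a = ∑ x : E, kappa (x * x₀) a :=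
      (Fintype.sum_equiv (Equiv.mulRight x₀) (fun x : E => kappa (x * x₀) a) (fun x : E => kappa x a)
        (fun x => rfl)).symm
    have h2 : ∑ x : E, kappa (x * x₀) a = -∑ x : E, kappa x a := by
      rw [← Finset.sum_neg_distrib]
      apply Finset.sum_congr rfl
      intro x _
      rw [kappa_mul_left hz, hk]
      ring
    linarith

/-- **Double counting**: for a self-centralising subgroup `M` and a subgroup `S ≤ M` of central elements,
`|E| |S| ≤ |M|²`. -/
theorem card_mul_card_le (hz : PSetup z) (M S : Subgroup E)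
    (hself : ∀ x : E, (∀ a ∈ M, x * a = a * x) ↔ x ∈ M) (hSM : S ≤ M)
    (hS : ∀ s ∈ S, ∀ x : E, x * s = s * x) :
    Nat.card E * Nat.card S ≤ Nat.card M * Nat.card M := by
  have h1 : ∑ x : E, ∑ a : M, kappa x (a : E) = (Fintype.card M : ℤ) * Fintype.card M := by
    have : ∀ x : E, ∑ a : M, kappa x (a : E) = if x ∈ M then (Fintype.card M : ℤ) else 0 := by
      intro x
      rw [sum_kappa_right hz M x]
      by_cases hx : x ∈ M
      · rw [if_pos hx, if_pos ((hself x).mpr hx)]
      · rw [if_neg hx, if_neg (fun h => hx ((hself x).mp h))]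
    simp only [this]
    rw [Finset.sum_ite, Finset.sum_const_zero, add_zero, Finset.sum_const, nsmul_eq_mul]
    congr 1
    rw [← Fintype.card_subtype]
  have h2 : (Fintype.card E : ℤ) * Fintype.card S ≤ ∑ a : M, ∑ x : E, kappa x (a : E) := by
    have : ∀ a : M, (if (a : E) ∈ S then (Fintype.card E : ℤ) else 0) ≤ ∑ x : E, kappa x (a : E) := by
      intro a
      rw [sum_kappa_left hz]
      by_cases ha : (a : E) ∈ S
      · rw [if_pos ha, if_pos (hS a ha)]
      · rw [if_neg ha]
        split_ifs
        · exact Int.natCast_nonneg _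
        · exact le_refl _
    refine le_trans ?_ (Finset.sum_le_sum (fun a _ => this a))
    rw [Finset.sum_ite, Finset.sum_const_zero, add_zero, Finset.sum_const, nsmul_eq_mul, mul_comm]
    apply mul_le_mul_of_nonneg_right _ (Int.natCast_nonneg _)
    norm_cast
    rw [← Fintype.card_subtype]
    apply le_of_eq
    apply Fintype.card_congr
    exact
      { toFun := fun s => ⟨⟨s.1, hSM s.2⟩, s.2⟩
        invFun := fun a => ⟨a.1.1, a.2⟩
        left_inv := fun s => rfl
        right_inv := fun a => rfl }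
  rw [Finset.sum_comm] at h2
  rw [h1] at h2
  rw [Nat.card_eq_fintype_card, Nat.card_eq_fintype_card, Nat.card_eq_fintype_card]
  exact_mod_cast h2

omit [Fintype E] in
/-- The elements of order at most two of an abelian subgroup. -/
def omega1 (M : Subgroup E) (hM : ∀ a ∈ M, ∀ b ∈ M, a * b = b * a) : Subgroup E where
  carrier := {x | x ∈ M ∧ x * x = 1}
  mul_mem' := by
    rintro a b ⟨ha, ha2⟩ ⟨hb, hb2⟩
    refine ⟨M.mul_mem ha hb, ?_⟩
    calc a * b * (a * b) = a * (b * a) * b := by group
      _ = a * (a * b) * b := by rw [hM b hb a ha]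
      _ = (a * a) * (b * b) := by group
      _ = 1 := by rw [ha2, hb2, one_mul]
  one_mem' := ⟨M.one_mem, one_mul 1⟩
  inv_mem' := by
    rintro a ⟨ha, ha2⟩
    refine ⟨M.inv_mem ha, ?_⟩
    rw [← mul_inv_rev, ha2, inv_one]

omit [Fintype E] in
theorem omega1_le (M : Subgroup E) (hM : ∀ a ∈ M, ∀ b ∈ M, a * b = b * a) : omega1 M hM ≤ M :=
  fun _ hx => hx.1

omit [Fintype E] in
theorem card_le_two_mul_omega1 (hz : PSetup z) [Finite E] (M : Subgroup E)
    (hM : ∀ a ∈ M, ∀ b ∈ M, a * b = b * a) : Nat.card M ≤ 2 * Nat.card (omega1 M hM) := by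
  apply card_le_two_mul _ _ (omega1_le M hM)
  intro a ha b hb hna hnb
  have ha2 : a * a = z := by
    rcases hz.sq a with h | h
    · exact absurd ⟨ha, h⟩ hna
    · exact h
  have hb2 : b * b = z := by
    rcases hz.sq b with h | h
    · exact absurd ⟨hb, h⟩ hnb
    · exact h
  refine ⟨M.mul_mem (M.inv_mem ha) hb, ?_⟩
  have hcomm : b * a⁻¹ = a⁻¹ * b := hM b hb a⁻¹ (M.inv_mem ha)
  calc a⁻¹ * b * (a⁻¹ * b) = a⁻¹ * (b * a⁻¹) * b := by group
    _ = a⁻¹ * (a⁻¹ * b) * b := by rw [hcomm]
    _ = (a * a)⁻¹ * (b * b) := by group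
    _ = 1 := by rw [ha2, hb2, inv_mul_cancel]

/-- A maximal abelian subgroup containing `z` is self-centralising. -/
theorem exists_maximal_abelian (z : E) :
    ∃ M : Subgroup E, z ∈ M ∧ (∀ a ∈ M, ∀ b ∈ M, a * b = b * a) ∧
      ∀ x : E, (∀ a ∈ M, x * a = a * x) ↔ x ∈ M := by
  obtain ⟨M, ⟨hzM, hMab⟩, hmax⟩ := Set.exists_max_image
    {M : Subgroup E | z ∈ M ∧ ∀ a ∈ M, ∀ b ∈ M, a * b = b * a} (fun M => Nat.card M)
    (Set.toFinite _) ⟨Subgroup.zpowers z, Subgroup.mem_zpowers z, by
      intro a ha b hb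
      obtain ⟨i, rfl⟩ := Subgroup.mem_zpowers_iff.mp ha
      obtain ⟨j, rfl⟩ := Subgroup.mem_zpowers_iff.mp hb
      rw [← zpow_add, ← zpow_add, add_comm]⟩
  refine ⟨M, hzM, hMab, fun x => ⟨fun hx => ?_, fun hx a ha => hMab x hx a ha⟩⟩
  have hcl : ∀ a ∈ insert x (M : Set E), ∀ b ∈ insert x (M : Set E), a * b = b * a := by
    intro a ha b hb
    rcases ha with rfl | ha <;> rcases hb with rfl | hb
    · rfl
    · exact hx b hb
    · exact (hx a ha).symm
    · exact hMab a ha b hb
  have hcomm := Subgroup.isMulCommutative_closure hcl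
  have hle : M ≤ Subgroup.closure (insert x (M : Set E)) := fun a ha =>
    Subgroup.subset_closure (Set.mem_insert_of_mem x ha)
  have hmem : Subgroup.closure (insert x (M : Set E)) ∈
      {M : Subgroup E | z ∈ M ∧ ∀ a ∈ M, ∀ b ∈ M, a * b = b * a} := by
    refine ⟨hle hzM, fun a ha b hb => ?_⟩
    have := hcomm.is_comm.comm ⟨a, ha⟩ ⟨b, hb⟩
    exact congrArg Subtype.val this
  have hcard := hmax _ hmem
  have heq : M = Subgroup.closure (insert x (M : Set E)) :=
    Subgroup.eq_of_le_of_card_ge hle hcard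
  rw [heq]
  exact Subgroup.subset_closure (Set.mem_insert x _)

/-- **The bound**: if elementary abelian subgroups of `E` have order at most `2 ^ m`, and those of order
exactly `2 ^ m` are central, then `|E| ≤ 2 ^ (2 m)`. -/
theorem card_le_of_bounds (hz : PSetup z) (m : ℕ) (hm : 2 ≤ m)
    (hR1 : ∀ A : Subgroup E, (∀ a ∈ A, ∀ b ∈ A, a * b = b * a) → (∀ a ∈ A, a * a = 1) →
      Nat.card A ≤ 2 ^ m)
    (hR2 : ∀ A : Subgroup E, (∀ a ∈ A, ∀ b ∈ A, a * b = b * a) → (∀ a ∈ A, a * a = 1) →
      Nat.card A = 2 ^ m → ∀ a ∈ A, ∀ x : E, x * a = a * x) :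
    Nat.card E ≤ 2 ^ (2 * m) := by
  obtain ⟨M, hzM, hMab, hself⟩ := exists_maximal_abelian z
  have hOab : ∀ a ∈ omega1 M hMab, ∀ b ∈ omega1 M hMab, a * b = b * a :=
    fun a ha b hb => hMab a ha.1 b hb.1
  have hOsq : ∀ a ∈ omega1 M hMab, a * a = 1 := fun a ha => ha.2
  have h1 := hR1 _ hOab hOsq
  have h2 := card_le_two_mul_omega1 hz M hMab
  have hp : IsPGroup 2 (omega1 M hMab) := by
    intro g
    refine ⟨1, ?_⟩
    apply Subtype.ext
    rw [pow_one, pow_two]
    exact g.2.2
  haveI : Fact (Nat.Prime 2) := ⟨Nat.prime_two⟩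
  obtain ⟨j, hj⟩ := IsPGroup.iff_card.mp hp
  have hjm : j ≤ m := by
    rw [hj] at h1
    exact (Nat.pow_le_pow_iff_right (by norm_num)).mp h1
  have hpow : (2 : ℕ) ^ (2 * m) = 2 ^ m * 2 ^ m := by rw [two_mul, pow_add]
  rcases Nat.lt_or_ge j m with hlt | hge
  · -- small case
    have hj' : (2 : ℕ) ^ j * 2 ≤ 2 ^ m := by
      rw [← pow_succ]
      exact Nat.pow_le_pow_right (by norm_num) hlt
    have hM : Nat.card M ≤ 2 ^ m := by rw [hj] at h2; omega
    have hS : Nat.card (Subgroup.zpowers z) = 2 := by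
      rw [Nat.card_zpowers]
      exact orderOf_eq_prime (by rw [pow_two]; exact hz.z_sq) hz.z_ne
    have h3 := card_mul_card_le hz M (Subgroup.zpowers z) hself
      (by rw [Subgroup.zpowers_le]; exact hzM)
      (by
        intro s hs x
        obtain ⟨i, rfl⟩ := Subgroup.mem_zpowers_iff.mp hs
        exact (Commute.zpow_right (hz.z_comm x) i))
    rw [hS] at h3
    have h4 : Nat.card M * Nat.card M ≤ 2 ^ m * 2 ^ m := Nat.mul_le_mul hM hM
    rw [hpow]
    omega
  · -- extremal case
    have hjm' : j = m := le_antisymm hjm hge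
    rw [hjm'] at hj
    have hcent := hR2 _ hOab hOsq hj
    have h3 := card_mul_card_le hz M (omega1 M hMab) hself (omega1_le M hMab) hcent
    rw [hj] at h3 h2
    have h4 : Nat.card M * Nat.card M ≤ (2 * 2 ^ m) * (2 * 2 ^ m) := Nat.mul_le_mul h2 h2
    have h5 : Nat.card E * 2 ^ m ≤ (4 * 2 ^ m) * 2 ^ m := by
      calc Nat.card E * 2 ^ m ≤ Nat.card M * Nat.card M := h3
        _ ≤ (2 * 2 ^ m) * (2 * 2 ^ m) := h4
        _ = (4 * 2 ^ m) * 2 ^ m := by ring
    have h6 : Nat.card E ≤ 4 * 2 ^ m := Nat.le_of_mul_le_mul_right h5 (by positivity)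
    have h7 : 4 * 2 ^ m ≤ 2 ^ (2 * m) := by
      have : (4 : ℕ) = 2 ^ 2 := by norm_num
      rw [this, ← pow_add]
      exact Nat.pow_le_pow_right (by norm_num) (by omega)
    omega

end Cfsg.Agent.Lib.Helper14_ProjRank
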