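import Mathlib
import Cfsg.Prelude.Def_Classical
import Cfsg.Prelude.Def_CaseTheorems
import Cfsg.Agent.Lib.Helper14_ProjRank
import Cfsg.Agent.S2234
import Cfsg.Agent.S0246
import Cfsg.Agent.Lib.Helper1_Transport

set_option autoImplicit false

/-!
The 2-rank of `PSp_{2m}(q)`, `q` odd, `m ≥ 3`, is at most `2m - 1` (helper14).
-/

namespace Cfsg.Agent.Lib.Helper14_PSpRank

open Matrix Module Cfsg.Agent.Lib.Helper14_ProjRank

variable {F : Type*} [Field F] {m : ℕ}

/-- The standard alternating form. -/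
noncomputable def Bf (m : ℕ) (F : Type*) [Field F] :
    (Fin m ⊕ Fin m → F) →ₗ[F] (Fin m ⊕ Fin m → F) →ₗ[F] F :=
  Matrix.toLinearMap₂' F (Matrix.J (Fin m) F)

theorem Bf_apply (x y : Fin m ⊕ Fin m → F) : Bf m F x y = x ⬝ᵥ ((Matrix.J (Fin m) F) *ᵥ y) :=
  Matrix.toLinearMap₂'_apply' (Matrix.J (Fin m) F) x y

theorem Bf_alt (h2 : (2 : F) ≠ 0) (x : Fin m ⊕ Fin m → F) : Bf m F x x = 0 := by
  rw [Bf_apply]
  have h : x ⬝ᵥ ((Matrix.J (Fin m) F) *ᵥ x) = - (x ⬝ᵥ ((Matrix.J (Fin m) F) *ᵥ x)) := by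
    calc x ⬝ᵥ ((Matrix.J (Fin m) F) *ᵥ x) = (x ᵥ* (Matrix.J (Fin m) F)) ⬝ᵥ x :=
          Matrix.dotProduct_mulVec x _ x
      _ = ((Matrix.J (Fin m) F)ᵀ *ᵥ x) ⬝ᵥ x := by rw [Matrix.mulVec_transpose]
      _ = ((-(Matrix.J (Fin m) F)) *ᵥ x) ⬝ᵥ x := by rw [Matrix.J_transpose]
      _ = - (((Matrix.J (Fin m) F) *ᵥ x) ⬝ᵥ x) := by rw [Matrix.neg_mulVec, neg_dotProduct]
      _ = - (x ⬝ᵥ ((Matrix.J (Fin m) F) *ᵥ x)) := by rw [dotProduct_comm]
  have h3 : (2 : F) * (x ⬝ᵥ ((Matrix.J (Fin m) F) *ᵥ x)) = 0 := by linear_combination h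
  rcases mul_eq_zero.mp h3 with h | h
  · exact absurd h h2
  · exact h

theorem Bf_nondeg (x : Fin m ⊕ Fin m → F) (hx : ∀ y, Bf m F x y = 0) : x = 0 := by
  have h1 : x ᵥ* (Matrix.J (Fin m) F) = 0 := by
    apply dotProduct_eq_zero
    intro y
    rw [← Matrix.dotProduct_mulVec, ← Bf_apply]
    exact hx y
  have h3 : (x ᵥ* (Matrix.J (Fin m) F)) ᵥ* (Matrix.J (Fin m) F) = 0 := by
    rw [h1, Matrix.zero_vecMul]
  rw [Matrix.vecMul_vecMul, Matrix.J_squared, Matrix.vecMul_neg, Matrix.vecMul_one,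
    neg_eq_zero] at h3
  exact h3

theorem Bf_inv (g : Matrix.symplecticGroup (Fin m) F) (x y : Fin m ⊕ Fin m → F) :
    Bf m F (g.1 *ᵥ x) (g.1 *ᵥ y) = Bf m F x y := by
  rw [Bf_apply, Bf_apply]
  have hg : (g.1)ᵀ * Matrix.J (Fin m) F * g.1 = Matrix.J (Fin m) F :=
    SymplecticGroup.mem_iff'.mp g.2
  calc (g.1 *ᵥ x) ⬝ᵥ ((Matrix.J (Fin m) F) *ᵥ (g.1 *ᵥ y))
      = (x ᵥ* (g.1)ᵀ) ⬝ᵥ ((Matrix.J (Fin m) F) *ᵥ (g.1 *ᵥ y)) := by
        rw [Matrix.vecMul_transpose]
    _ = x ⬝ᵥ ((g.1)ᵀ *ᵥ ((Matrix.J (Fin m) F) *ᵥ (g.1 *ᵥ y))) :=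
        (Matrix.dotProduct_mulVec x _ _).symm
    _ = x ⬝ᵥ (((g.1)ᵀ * Matrix.J (Fin m) F * g.1) *ᵥ y) := by
        rw [Matrix.mulVec_mulVec, Matrix.mulVec_mulVec, Matrix.mul_assoc]
    _ = x ⬝ᵥ ((Matrix.J (Fin m) F) *ᵥ y) := by rw [hg]

/-- The element `-1` of the symplectic group. -/
def negOne (m : ℕ) (F : Type*) [Field F] : Matrix.symplecticGroup (Fin m) F :=
  ⟨-1, SymplecticGroup.neg_mem (Submonoid.one_mem _)⟩

theorem negOne_coe : ((negOne m F : Matrix.symplecticGroup (Fin m) F) :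
    Matrix (Fin m ⊕ Fin m) (Fin m ⊕ Fin m) F) = -1 := rfl

theorem coe_mul' (a b : Matrix.symplecticGroup (Fin m) F) : (a * b).1 = a.1 * b.1 := rfl

theorem coe_one' : (1 : Matrix.symplecticGroup (Fin m) F).1 = 1 := rfl

theorem inv_mul_coe (x : Matrix.symplecticGroup (Fin m) F) : (x⁻¹).1 * x.1 = 1 := by
  rw [← coe_mul', inv_mul_cancel, coe_one']

theorem mul_inv_coe (x : Matrix.symplecticGroup (Fin m) F) : x.1 * (x⁻¹).1 = 1 := by
  rw [← coe_mul', mul_inv_cancel, coe_one']

/-- The fixed space of a matrix. -/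
def fixSp (T : Matrix (Fin m ⊕ Fin m) (Fin m ⊕ Fin m) F) : Submodule F (Fin m ⊕ Fin m → F) where
  carrier := {v | T *ᵥ v = v}
  add_mem' := by
    intro a b ha hb
    show T *ᵥ (a + b) = a + b
    rw [Matrix.mulVec_add, ha, hb]
  zero_mem' := Matrix.mulVec_zero T
  smul_mem' := by
    intro c a ha
    show T *ᵥ (c • a) = c • a
    rw [Matrix.mulVec_smul, ha]

/-- The `-1`-eigenspace of a matrix. -/
def negSp (T : Matrix (Fin m ⊕ Fin m) (Fin m ⊕ Fin m) F) : Submodule F (Fin m ⊕ Fin m → F) where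
  carrier := {v | T *ᵥ v = -v}
  add_mem' := by
    intro a b ha hb
    show T *ᵥ (a + b) = -(a + b)
    rw [Matrix.mulVec_add, ha, hb, neg_add]
  zero_mem' := by
    show T *ᵥ 0 = -0
    rw [Matrix.mulVec_zero, neg_zero]
  smul_mem' := by
    intro c a ha
    show T *ᵥ (c • a) = -(c • a)
    rw [Matrix.mulVec_smul, ha, smul_neg]

theorem mem_fixSp {T : Matrix (Fin m ⊕ Fin m) (Fin m ⊕ Fin m) F} {v : Fin m ⊕ Fin m → F} :
    v ∈ fixSp T ↔ T *ᵥ v = v := Iff.rfl

theorem mem_negSp {T : Matrix (Fin m ⊕ Fin m) (Fin m ⊕ Fin m) F} {v : Fin m ⊕ Fin m → F} :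
    v ∈ negSp T ↔ T *ᵥ v = -v := Iff.rfl

/-- If an invertible `X` anticommutes with `T`, the fixed space of `T` has dimension at most `m`. -/
theorem finrank_fixSp_le (h2 : (2 : F) ≠ 0) {T X X' : Matrix (Fin m ⊕ Fin m) (Fin m ⊕ Fin m) F}
    (hX : X' * X = 1) (hXT : X * T = -(T * X)) : finrank F (fixSp T) ≤ m := by
  have hinj : Function.Injective (Matrix.toLin' X) := by
    intro a b hab
    have := congrArg (fun v => X' *ᵥ v) hab
    simp only [Matrix.toLin'_apply, Matrix.mulVec_mulVec, hX, Matrix.one_mulVec] at this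
    exact this
  have hTX : T * X = -(X * T) := by rw [hXT, neg_neg]
  have h1 : (fixSp T).map (Matrix.toLin' X) ≤ negSp T := by
    rintro _ ⟨v, hv, rfl⟩
    rw [mem_negSp, Matrix.toLin'_apply, Matrix.mulVec_mulVec, hTX, Matrix.neg_mulVec,
      ← Matrix.mulVec_mulVec, mem_fixSp.mp hv]
  have h2' : (negSp T).map (Matrix.toLin' X) ≤ fixSp T := by
    rintro _ ⟨v, hv, rfl⟩
    rw [mem_fixSp, Matrix.toLin'_apply, Matrix.mulVec_mulVec, hTX, Matrix.neg_mulVec,
      ← Matrix.mulVec_mulVec, mem_negSp.mp hv, Matrix.mulVec_neg, neg_neg]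
  have e1 : finrank F ((fixSp T).map (Matrix.toLin' X)) = finrank F (fixSp T) :=
    (Submodule.equivMapOfInjective _ hinj (fixSp T)).finrank_eq.symm
  have e2 : finrank F ((negSp T).map (Matrix.toLin' X)) = finrank F (negSp T) :=
    (Submodule.equivMapOfInjective _ hinj (negSp T)).finrank_eq.symm
  have l1 := Submodule.finrank_mono h1
  have l2 := Submodule.finrank_mono h2'
  have hdisj : fixSp T ⊓ negSp T = ⊥ := by
    rw [eq_bot_iff]
    rintro v ⟨hv1, hv2⟩
    have h3 : v = -v := (mem_fixSp.mp hv1).symm.trans (mem_negSp.mp hv2)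
    have h4 : (2 : F) • v = 0 := by
      rw [two_smul]
      nth_rewrite 2 [h3]
      exact add_neg_cancel v
    rcases smul_eq_zero.mp h4 with h | h
    · exact absurd h h2
    · exact h
  have h5 := Submodule.finrank_sup_add_finrank_inf_eq (fixSp T) (negSp T)
  rw [hdisj, finrank_bot, add_zero] at h5
  have h6 : finrank F ↥(fixSp T ⊔ negSp T) ≤ finrank F (Fin m ⊕ Fin m → F) := Submodule.finrank_le _
  have h7 : finrank F (Fin m ⊕ Fin m → F) = 2 * m := by
    rw [Module.finrank_fintype_fun_eq_card, Fintype.card_sum, Fintype.card_fin]; ring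
  omega

theorem negOne_mul (g : Matrix.symplecticGroup (Fin m) F) : negOne m F * g = g * negOne m F := by
  apply Subtype.ext
  rw [coe_mul', coe_mul', negOne_coe]
  simp

theorem negOne_mul_self : negOne m F * negOne m F = 1 := by
  apply Subtype.ext
  rw [coe_mul', negOne_coe, coe_one']
  simp

/-- An element normalising an elementary abelian subgroup of order `2 ^ m` of `Sp_{2m}`, `m ≥ 3`, up to signs,
centralises it. -/
theorem commute_of_card (h2 : (2 : F) ≠ 0) (hm : 3 ≤ m)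
    (A : Subgroup (Matrix.symplecticGroup (Fin m) F)) [Finite A]
    (hAab : ∀ a ∈ A, ∀ b ∈ A, a * b = b * a) (hAsq : ∀ a ∈ A, a * a = 1)
    (hcard : Nat.card A = 2 ^ m) (x : Matrix.symplecticGroup (Fin m) F)
    (hx : ∀ a ∈ A, x * a = a * x ∨ x * a = negOne m F * (a * x)) :
    ∀ a ∈ A, x * a = a * x := by
  by_contra hcon
  push Not at hcon
  obtain ⟨t, htA, htx⟩ := hcon
  have htx' : x * t = negOne m F * (t * x) := (hx t htA).resolve_left htx
  obtain ⟨A₂, hA₂⟩ : ∃ A₂, A₂ = A ⊓ Subgroup.centralizer {x} := ⟨_, rfl⟩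
  have hmemA₂ : ∀ a, a ∈ A₂ ↔ a ∈ A ∧ x * a = a * x := by
    intro a
    rw [hA₂, Subgroup.mem_inf, Subgroup.mem_centralizer_iff]
    simp
  have hA₂le : A₂ ≤ A := by rw [hA₂]; exact inf_le_left
  have hidx : Nat.card A ≤ 2 * Nat.card A₂ := by
    apply card_le_two_mul A₂ A hA₂le
    intro a ha b hb hna hnb
    have ha' : x * a = negOne m F * (a * x) :=
      (hx a ha).resolve_left (fun h => hna ((hmemA₂ a).mpr ⟨ha, h⟩))
    have hb' : x * b = negOne m F * (b * x) :=
      (hx b hb).resolve_left (fun h => hnb ((hmemA₂ b).mpr ⟨hb, h⟩))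
    have hainv : a⁻¹ = a := inv_eq_of_mul_eq_one_left (hAsq a ha)
    rw [hainv, hmemA₂]
    refine ⟨A.mul_mem ha hb, ?_⟩
    calc x * (a * b) = (x * a) * b := by group
      _ = negOne m F * (a * x) * b := by rw [ha']
      _ = negOne m F * a * (x * b) := by group
      _ = negOne m F * a * (negOne m F * (b * x)) := by rw [hb']
      _ = negOne m F * (a * negOne m F) * (b * x) := by group
      _ = negOne m F * (negOne m F * a) * (b * x) := by rw [negOne_mul a]
      _ = (negOne m F * negOne m F) * a * (b * x) := by group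
      _ = a * b * x := by rw [negOne_mul_self]; group
  haveI : Finite A₂ := Finite.of_injective (Subgroup.inclusion hA₂le)
    (Subgroup.inclusion_injective hA₂le)
  -- matrices
  obtain ⟨T, hT⟩ : ∃ T, T = t.1 := ⟨_, rfl⟩
  obtain ⟨X, hX⟩ : ∃ X, X = x.1 := ⟨_, rfl⟩
  have hXT : X * T = -(T * X) := by
    have := congrArg Subtype.val htx'
    rw [coe_mul', coe_mul', coe_mul', negOne_coe] at this
    rw [hX, hT, this]
    simp
  have hX'X : (x⁻¹).1 * X = 1 := by rw [hX]; exact inv_mul_coe x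
  have hXX' : X * (x⁻¹).1 = 1 := by rw [hX]; exact mul_inv_coe x
  have hTT : T * T = 1 := by
    have := congrArg Subtype.val (hAsq t htA)
    rw [coe_mul', coe_one'] at this
    rw [hT]; exact this
  have hfr := finrank_fixSp_le h2 hX'X hXT
  -- the elements of `A₂` commute with `T` and `X`
  have hcT : ∀ a : A₂, T * a.1.1 = a.1.1 * T := by
    intro a
    have := congrArg Subtype.val (hAab t htA a.1 (hA₂le a.2))
    rw [coe_mul', coe_mul'] at this
    rw [hT]; exact this
  have hcX : ∀ a : A₂, X * a.1.1 = a.1.1 * X := by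
    intro a
    have := congrArg Subtype.val ((hmemA₂ a.1).mp a.2).2
    rw [coe_mul', coe_mul'] at this
    rw [hX]; exact this
  have hinv : ∀ a : A₂, ∀ v ∈ fixSp T, Matrix.toLin' a.1.1 v ∈ fixSp T := by
    intro a v hv
    rw [mem_fixSp, Matrix.toLin'_apply, Matrix.mulVec_mulVec, hcT a, ← Matrix.mulVec_mulVec,
      mem_fixSp.mp hv]
  let ρ : A₂ →* Module.End F (fixSp T) :=
    { toFun := fun a => (Matrix.toLin' a.1.1).restrict (hinv a)
      map_one' := by
        apply LinearMap.ext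
        intro v
        apply Subtype.ext
        rw [LinearMap.coe_restrict_apply]
        simp
      map_mul' := by
        intro a b
        apply LinearMap.ext
        intro v
        apply Subtype.ext
        rw [LinearMap.coe_restrict_apply, Module.End.mul_apply, LinearMap.coe_restrict_apply,
          LinearMap.coe_restrict_apply, Matrix.toLin'_apply, Matrix.toLin'_apply,
          Matrix.toLin'_apply, Matrix.mulVec_mulVec]
        rfl }
  have hρ : ∀ (a : A₂) (v : fixSp T), ((ρ a v : fixSp T) : Fin m ⊕ Fin m → F) = a.1.1 *ᵥ v.1 := by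
    intro a v
    show ((Matrix.toLin' a.1.1).restrict (hinv a) v : Fin m ⊕ Fin m → F) = _
    rw [LinearMap.coe_restrict_apply, Matrix.toLin'_apply]
  -- the restricted form
  obtain ⟨B', hB'⟩ : ∃ B' : (fixSp T) →ₗ[F] (fixSp T) →ₗ[F] F, B' =
      (Bf m F).compl₁₂ (fixSp T).subtype (fixSp T).subtype := ⟨_, rfl⟩
  have hB'app : ∀ u v : fixSp T, B' u v = Bf m F u.1 v.1 := by
    intro u v
    rw [hB']
    rfl
  have halt : ∀ u : fixSp T, B' u u = 0 := fun u => by rw [hB'app]; exact Bf_alt h2 u.1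
  have hTisom : ∀ u v, Bf m F (T *ᵥ u) (T *ᵥ v) = Bf m F u v := by
    intro u v
    rw [hT]; exact Bf_inv t u v
  have hnd : ∀ u : fixSp T, (∀ v : fixSp T, B' u v = 0) → u = 0 := by
    intro u hu
    apply Subtype.ext
    apply Bf_nondeg
    intro y
    have hy1 : y + T *ᵥ y ∈ fixSp T := by
      rw [mem_fixSp, Matrix.mulVec_add, Matrix.mulVec_mulVec, hTT, Matrix.one_mulVec, add_comm]
    have h3 := hu ⟨_, hy1⟩
    rw [hB'app] at h3
    have h4 : Bf m F u.1 (T *ᵥ y) = Bf m F u.1 y := by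
      have := hTisom u.1 y
      rw [mem_fixSp.mp u.2] at this
      exact this
    have h5 : (2 : F) * Bf m F u.1 y = 0 := by
      rw [map_add, h4] at h3
      linear_combination h3
    rcases mul_eq_zero.mp h5 with h | h
    · exact absurd h h2
    · exact h
  have hinj : Function.Injective ρ := by
    rw [injective_iff_map_eq_one]
    intro a ha
    have hfix : ∀ v ∈ fixSp T, a.1.1 *ᵥ v = v := by
      intro v hv
      have : ((ρ a ⟨v, hv⟩ : fixSp T) : Fin m ⊕ Fin m → F) =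
          (((1 : Module.End F (fixSp T)) ⟨v, hv⟩ : fixSp T) : Fin m ⊕ Fin m → F) := by rw [ha]
      rw [hρ] at this
      exact this
    have hTX' : T * (x⁻¹).1 = -((x⁻¹).1 * T) := by
      calc T * (x⁻¹).1 = ((x⁻¹).1 * X) * T * (x⁻¹).1 := by rw [hX'X, Matrix.one_mul]
        _ = (x⁻¹).1 * (X * T) * (x⁻¹).1 := by simp only [Matrix.mul_assoc]
        _ = -((x⁻¹).1 * T * (X * (x⁻¹).1)) := by rw [hXT]; simp [Matrix.mul_assoc]
        _ = -((x⁻¹).1 * T) := by rw [hXX', Matrix.mul_one]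
    have hall : ∀ y, a.1.1 *ᵥ y = y := by
      intro y
      have hy1 : y + T *ᵥ y ∈ fixSp T := by
        rw [mem_fixSp, Matrix.mulVec_add, Matrix.mulVec_mulVec, hTT, Matrix.one_mulVec, add_comm]
      have hy2 : (x⁻¹).1 *ᵥ (y - T *ᵥ y) ∈ fixSp T := by
        rw [mem_fixSp, Matrix.mulVec_mulVec, hTX', Matrix.neg_mulVec, ← Matrix.mulVec_mulVec,
          Matrix.mulVec_sub, Matrix.mulVec_mulVec, hTT, Matrix.one_mulVec, ← Matrix.mulVec_neg,
          neg_sub]
      have e1 := hfix _ hy1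
      have e2 := hfix _ hy2
      have e3 : a.1.1 *ᵥ (y - T *ᵥ y) = y - T *ᵥ y := by
        have : y - T *ᵥ y = X *ᵥ ((x⁻¹).1 *ᵥ (y - T *ᵥ y)) := by
          rw [Matrix.mulVec_mulVec, hXX', Matrix.one_mulVec]
        rw [this, Matrix.mulVec_mulVec, ← hcX a, ← Matrix.mulVec_mulVec, e2]
      have e4 : (2 : F) • (a.1.1 *ᵥ y) = (2 : F) • y := by
        have : (2 : F) • y = (y + T *ᵥ y) + (y - T *ᵥ y) := by rw [two_smul]; abel
        rw [← Matrix.mulVec_smul, this, Matrix.mulVec_add, e1, e3]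
      exact smul_right_injective _ h2 e4
    apply Subtype.ext
    apply Subtype.ext
    show a.1.1 = 1
    apply Matrix.toLin'.injective
    apply LinearMap.ext
    intro y
    rw [Matrix.toLin'_apply, hall y, Matrix.toLin'_one]
    rfl
  have hsq : ∀ g : A₂, g * g = 1 := by
    intro g
    apply Subtype.ext
    exact hAsq g.1 (hA₂le g.2)
  have hBinv : ∀ (g : A₂) (u v : fixSp T), B' (ρ g u) (ρ g v) = B' u v := by
    intro g u v
    rw [hB'app, hB'app, hρ, hρ]
    exact Bf_inv g.1 u.1 v.1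
  obtain ⟨k, hk⟩ : ∃ k, m = k + 3 := ⟨m - 3, by omega⟩
  have hbound := Cfsg.Agent.S2234.card_le_symplectic h2 (k + 1) B' halt hnd ρ hinj hsq hBinv
    (by omega)
  rw [hcard] at hidx
  have h9 : (2 : ℕ) ^ m = 2 ^ (k + 3) := congrArg (fun n => 2 ^ n) hk
  have h8 : (2 : ℕ) ^ (k + 3) = 4 * 2 ^ (k + 1) := by ring
  have h10 : 0 < (2 : ℕ) ^ (k + 1) := by positivity
  omega

/-- **The 2-rank of `PSp_{2m}(q)`**, `q` odd, `m ≥ 3`, is at most `2m - 1`. -/
theorem psp_rank_le [Fintype F] (hF : Odd (Fintype.card F)) (hm : 3 ≤ m) :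
    Cfsg.PRankLE 2 (2 * m - 1) (Cfsg.PSp m F) := by
  classical
  have h2 : (2 : F) ≠ 0 := by
    apply Ring.two_ne_zero
    intro h
    have := FiniteField.even_card_of_char_two h
    rcases hF with ⟨r, hr⟩
    omega
  intro Abar hcomm hexp
  obtain ⟨E₀, hE₀⟩ : ∃ E₀ : Subgroup (Matrix.symplecticGroup (Fin m) F), E₀ =
      Abar.comap (QuotientGroup.mk' (Subgroup.center (Matrix.symplecticGroup (Fin m) F))) :=
    ⟨_, rfl⟩
  have hsurj := QuotientGroup.mk'_surjective (Subgroup.center (Matrix.symplecticGroup (Fin m) F))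
  have hmemE : ∀ g, g ∈ E₀ ↔
      (QuotientGroup.mk' (Subgroup.center (Matrix.symplecticGroup (Fin m) F))) g ∈ Abar := by
    intro g; rw [hE₀]; rfl
  haveI : Finite (Matrix.symplecticGroup (Fin m) F) := Subtype.finite
  haveI : Fintype ↥E₀ := Fintype.ofFinite _
  -- the centre
  have hnegZ : negOne m F ∈ Subgroup.center (Matrix.symplecticGroup (Fin m) F) := by
    rw [Subgroup.mem_center_iff]
    intro g
    exact (negOne_mul g).symm
  have hZ : ∀ c ∈ Subgroup.center (Matrix.symplecticGroup (Fin m) F), c = 1 ∨ c = negOne m F := by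
    intro c hc
    rcases Cfsg.Agent.S0246.center_eq_one_or_neg_one m (by omega) c hc with h | h
    · left; exact Subtype.ext h
    · right; exact Subtype.ext h
  have hnegE : negOne m F ∈ E₀ := by
    rw [hmemE, QuotientGroup.mk'_apply, (QuotientGroup.eq_one_iff _).mpr hnegZ]
    exact Abar.one_mem
  have hneg1 : negOne m F ≠ 1 := by
    intro h
    have h3 := congrArg Subtype.val h
    rw [negOne_coe, coe_one'] at h3
    have h4 := congrFun (congrFun h3 (Sum.inl ⟨0, by omega⟩)) (Sum.inl ⟨0, by omega⟩)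
    simp only [Matrix.neg_apply, Matrix.one_apply_eq] at h4
    apply h2
    linear_combination -h4
  -- the setup
  have hz : PSetup (⟨negOne m F, hnegE⟩ : E₀) := by
    refine ⟨?_, ?_, ?_, ?_, ?_⟩
    · intro h
      exact hneg1 (congrArg Subtype.val h)
    · apply Subtype.ext
      exact negOne_mul_self
    · intro x
      apply Subtype.ext
      exact (negOne_mul x.1).symm
    · intro x y
      have hxy : (QuotientGroup.mk' (Subgroup.center (Matrix.symplecticGroup (Fin m) F))) (x.1 * y.1) =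
          (QuotientGroup.mk' (Subgroup.center (Matrix.symplecticGroup (Fin m) F))) (y.1 * x.1) := by
        rw [map_mul, map_mul]
        have := hcomm.is_comm.comm ⟨_, (hmemE x.1).mp x.2⟩ ⟨_, (hmemE y.1).mp y.2⟩
        exact congrArg Subtype.val this
      have hc : (y.1 * x.1)⁻¹ * (x.1 * y.1) ∈
          Subgroup.center (Matrix.symplecticGroup (Fin m) F) := by
        rw [← QuotientGroup.eq_one_iff, ← QuotientGroup.mk'_apply, map_mul, map_inv, hxy,
          inv_mul_cancel]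
      rcases hZ _ hc with h | h
      · left
        apply Subtype.ext
        show x.1 * y.1 = y.1 * x.1
        have := inv_mul_eq_one.mp h
        exact this.symm
      · right
        apply Subtype.ext
        show x.1 * y.1 = negOne m F * (y.1 * x.1)
        rw [negOne_mul, ← h]
        group
    · intro x
      have hc : x.1 * x.1 ∈ Subgroup.center (Matrix.symplecticGroup (Fin m) F) := by
        rw [← QuotientGroup.eq_one_iff, ← QuotientGroup.mk'_apply, map_mul, ← pow_two]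
        exact hexp _ ((hmemE x.1).mp x.2)
      rcases hZ _ hc with h | h
      · left; exact Subtype.ext h
      · right; exact Subtype.ext h
  -- bounds on elementary abelian subgroups
  have hmapab : ∀ A : Subgroup E₀, (∀ a ∈ A, ∀ b ∈ A, a * b = b * a) →
      ∀ a ∈ A.map E₀.subtype, ∀ b ∈ A.map E₀.subtype, a * b = b * a := by
    rintro A hA _ ⟨a, ha, rfl⟩ _ ⟨b, hb, rfl⟩
    exact congrArg Subtype.val (hA a ha b hb)
  have hmapsq : ∀ A : Subgroup E₀, (∀ a ∈ A, a * a = 1) →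
      ∀ a ∈ A.map E₀.subtype, a * a = 1 := by
    rintro A hA _ ⟨a, ha, rfl⟩
    exact congrArg Subtype.val (hA a ha)
  have hmapcard : ∀ A : Subgroup E₀, Nat.card (A.map E₀.subtype) = Nat.card A := fun A =>
    Subgroup.card_map_of_injective E₀.subtype_injective
  have hR1 : ∀ A : Subgroup E₀, (∀ a ∈ A, ∀ b ∈ A, a * b = b * a) → (∀ a ∈ A, a * a = 1) →
      Nat.card A ≤ 2 ^ m := by
    intro A hAab hAsq
    rw [← hmapcard A]
    apply Cfsg.Agent.S2234.sp_upper hF m (A.map E₀.subtype)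
    · exact ⟨⟨fun a b => Subtype.ext (hmapab A hAab a.1 a.2 b.1 b.2)⟩⟩
    · intro a ha
      rw [pow_two]
      exact hmapsq A hAsq a ha
  have hR2 : ∀ A : Subgroup E₀, (∀ a ∈ A, ∀ b ∈ A, a * b = b * a) → (∀ a ∈ A, a * a = 1) →
      Nat.card A = 2 ^ m → ∀ a ∈ A, ∀ x : E₀, x * a = a * x := by
    intro A hAab hAsq hAcard a ha x
    haveI : Finite (A.map E₀.subtype) := Subtype.finite
    have := commute_of_card h2 hm (A.map E₀.subtype) (hmapab A hAab) (hmapsq A hAsq)
      (by rw [hmapcard A, hAcard]) x.1 (by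
        rintro _ ⟨b, hb, rfl⟩
        rcases hz.comm x b with h | h
        · left; exact congrArg Subtype.val h
        · right; exact congrArg Subtype.val h) a.1 ⟨a, ha, rfl⟩
    exact Subtype.ext this
  have hcardE := card_le_of_bounds hz m (by omega) hR1 hR2
  -- back to the quotient
  have h3 := Cfsg.Agent.Lib.Helper1_Transport.card_map_mul_card_inf_ker
    (QuotientGroup.mk' (Subgroup.center (Matrix.symplecticGroup (Fin m) F))) E₀
  have h4 : E₀.map (QuotientGroup.mk' (Subgroup.center (Matrix.symplecticGroup (Fin m) F))) = Abar := by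
    rw [hE₀]; exact Subgroup.map_comap_eq_self_of_surjective hsurj Abar
  have h5 : E₀ ⊓ (QuotientGroup.mk' (Subgroup.center (Matrix.symplecticGroup (Fin m) F))).ker =
      Subgroup.center (Matrix.symplecticGroup (Fin m) F) := by
    rw [QuotientGroup.ker_mk']
    apply inf_eq_right.mpr
    intro c hc
    rw [hmemE, QuotientGroup.mk'_apply, (QuotientGroup.eq_one_iff _).mpr hc]
    exact Abar.one_mem
  have h6 : Nat.card (Subgroup.center (Matrix.symplecticGroup (Fin m) F)) = 2 := by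
    have := Cfsg.Agent.S0246.result (F := F) rfl m (by omega)
    rw [this]
    obtain ⟨r, hr⟩ := hF
    have hr1 : 1 ≤ r := by
      by_contra hcon
      have : r = 0 := by omega
      rw [this] at hr
      have := Fintype.one_lt_card (α := F)
      omega
    rw [hr]
    have : 2 * r + 1 - 1 = 2 * r := by omega
    rw [this]
    exact Nat.gcd_eq_left (dvd_mul_right 2 r)
  rw [h4, h5, h6] at h3
  have h7 : (2 : ℕ) ^ (2 * m) = 2 * 2 ^ (2 * m - 1) := by
    rw [← pow_succ']
    congr 1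
    omega
  have h8 : Nat.card ↥Abar * 2 ≤ 2 ^ (2 * m - 1) * 2 := by
    calc Nat.card ↥Abar * 2 = Nat.card ↥E₀ := h3
      _ ≤ 2 ^ (2 * m) := hcardE
      _ = 2 ^ (2 * m - 1) * 2 := by rw [h7, mul_comm]
  exact Nat.le_of_mul_le_mul_right h8 (by norm_num)

end Cfsg.Agent.Lib.Helper14_PSpRank
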