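import Mathlib
import Cfsg.Prelude.Def_EvenType
import Cfsg.Prelude.Def_CaseTheorems
import Cfsg.Agent.Lib.Helper14_NegOne
import Cfsg.Agent.Lib.Helper14_SiegelOmega
import Cfsg.Agent.Lib.Helper44_QuadClass
import Cfsg.Agent.Lib.Helper44_OmegaOdd
import Cfsg.Agent.S2233

set_option autoImplicit false

/-!
2-ranks of `Ω(Q)` (commutator subgroup of the isometry group) in odd characteristic (helper14):

* `exists_frame`: a non-degenerate quadratic space over a finite field of odd order has an orthogonal frame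
  with all norms `1` except possibly the last;
* `pRankAtLeast_of_frame`: pairwise orthogonal non-singular vectors `x₀, x_j (j ∈ J)` with all
  `r_{x₀} r_{x_j} ∈ Ω` give an elementary abelian `2`-subgroup of `Ω` of order at least `2 ^ |J|`;
* `card_le_of_omega`, `card_le_of_omega_of_negOne`: upper bounds for elementary abelian `2`-subgroups of `Ω`.
-/

namespace Cfsg.Agent.Lib.Helper14_TwoRank

open Cfsg Matrix Module Cfsg.Agent.Lib.Helper44_Orth Cfsg.Agent.Lib.Helper44_Refl
  Cfsg.Agent.Lib.Helper44_Spinor Cfsg.Agent.Lib.Helper44_QuadClass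
open scoped commutatorElement

universe u v

/-! ### Orthogonal frames in abstract quadratic spaces -/

section abstract

variable {F : Type u} [Field F] {V : Type v} [AddCommGroup V] [Module F V]

/-- The orthogonal complement of a vector, as the kernel of `B(u, ·)`. -/
def perp1 (Q : QuadraticForm F V) (u : V) : Submodule F V :=
  LinearMap.ker (QuadraticMap.polarBilin Q u)

theorem mem_perp1 (Q : QuadraticForm F V) (u w : V) :
    w ∈ perp1 Q u ↔ QuadraticMap.polar (⇑Q) u w = 0 := by
  simp [perp1, LinearMap.mem_ker]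

theorem finrank_perp1 [FiniteDimensional F V] (h2 : (2 : F) ≠ 0) (Q : QuadraticForm F V) {u : V}
    (hu : Q u ≠ 0) : finrank F (perp1 Q u) + 1 = finrank F V := by
  have hsurj : LinearMap.range (QuadraticMap.polarBilin Q u) = ⊤ := by
    rw [LinearMap.range_eq_top]
    intro c
    refine ⟨(c / (2 * Q u)) • u, ?_⟩
    rw [map_smul, QuadraticMap.polarBilin_apply_apply, polar_self', smul_eq_mul]
    field_simp
  have h := LinearMap.finrank_range_add_finrank_ker (QuadraticMap.polarBilin Q u)
  rw [hsurj, finrank_top, Module.finrank_self] at h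
  rw [perp1]
  omega

theorem nondegenerate_perp1 (h2 : (2 : F) ≠ 0) (Q : QuadraticForm F V)
    (hQ : (QuadraticMap.polarBilin Q).Nondegenerate) {u : V} (hu : Q u ≠ 0) :
    (QuadraticMap.polarBilin (Q.comp (perp1 Q u).subtype)).Nondegenerate := by
  have key : ∀ w : perp1 Q u,
      (∀ p : perp1 Q u, QuadraticMap.polar (⇑Q) (w : V) (p : V) = 0) → w = 0 := by
    intro w hw
    have hwu : QuadraticMap.polar (⇑Q) u (w : V) = 0 := (mem_perp1 Q u w).mp w.2
    apply Subtype.ext
    apply hQ.1 (w : V)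
    intro y
    rw [QuadraticMap.polarBilin_apply_apply]
    obtain ⟨c, hc⟩ : ∃ c, c = QuadraticMap.polar (⇑Q) u y / (2 * Q u) := ⟨_, rfl⟩
    have hp : y - c • u ∈ perp1 Q u := by
      rw [mem_perp1, QuadraticMap.polar_sub_right, QuadraticMap.polar_smul_right, polar_self',
        smul_eq_mul, hc]
      field_simp
      ring
    have h1 := hw ⟨y - c • u, hp⟩
    simp only at h1
    rw [QuadraticMap.polar_sub_right, QuadraticMap.polar_smul_right,
      QuadraticMap.polar_comm (⇑Q) (w : V) u, hwu, smul_zero, sub_zero] at h1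
    exact h1
  constructor
  · intro w hw
    apply key w
    intro p
    have := hw p
    rwa [QuadraticMap.polarBilin_apply_apply, polar_comp_subtype] at this
  · intro w hw
    apply key w
    intro p
    have := hw p
    rw [QuadraticMap.polarBilin_apply_apply, polar_comp_subtype] at this
    rw [QuadraticMap.polar_comm]
    exact this

/-- A non-zero non-degenerate quadratic space contains a non-singular vector. -/
theorem exists_nonsing [Nontrivial V] (Q : QuadraticForm F V)
    (hQ : (QuadraticMap.polarBilin Q).Nondegenerate) : ∃ y : V, Q y ≠ 0 := by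
  obtain ⟨x, hx⟩ := exists_ne (0 : V)
  by_contra hcon
  push Not at hcon
  apply hx
  apply hQ.1 x
  intro y
  rw [QuadraticMap.polarBilin_apply_apply, QuadraticMap.polar, hcon, hcon, hcon]
  ring

/-- A non-degenerate quadratic space of dimension at least two over a finite field of odd order represents
`1`. -/
theorem exists_norm_one' [Finite F] [FiniteDimensional F V] (h2 : (2 : F) ≠ 0)
    (Q : QuadraticForm F V) (hQ : (QuadraticMap.polarBilin Q).Nondegenerate)
    (hdim : 2 ≤ finrank F V) : ∃ u : V, Q u = 1 := by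
  have : Nontrivial V := Module.nontrivial_of_finrank_pos (R := F) (by omega)
  obtain ⟨y, hy⟩ := exists_nonsing Q hQ
  have hfr := finrank_perp1 h2 Q hy
  have hnd := nondegenerate_perp1 h2 Q hQ hy
  have : Nontrivial (perp1 Q y) := Module.nontrivial_of_finrank_pos (R := F) (by omega)
  obtain ⟨y', hy'⟩ := exists_nonsing (Q.comp (perp1 Q y).subtype) hnd
  have hy'' : Q (y' : V) ≠ 0 := hy'
  obtain ⟨a, b, hab⟩ := exists_sq_sum h2 hy hy'' (-1)
  refine ⟨a • y + b • (y' : V), ?_⟩
  have hyy' : QuadraticMap.polar (⇑Q) y (y' : V) = 0 := (mem_perp1 Q y y').mp y'.2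
  rw [QuadraticMap.map_add (⇑Q), QuadraticMap.map_smul, QuadraticMap.map_smul,
    QuadraticMap.polar_smul_left, QuadraticMap.polar_smul_right, hyy']
  simp only [smul_eq_mul, mul_zero, add_zero]
  linear_combination hab

/-- **Orthogonal frames**: all norms equal to `1`, except possibly the last one. -/
theorem exists_frame [Finite F] (h2 : (2 : F) ≠ 0) : ∀ (k : ℕ) (V : Type v) [AddCommGroup V]
    [Module F V] [FiniteDimensional F V] (Q : QuadraticForm F V), finrank F V = k + 1 →
    (QuadraticMap.polarBilin Q).Nondegenerate →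
    ∃ x : Fin (k + 1) → V, (∀ i j, i ≠ j → QuadraticMap.polar (⇑Q) (x i) (x j) = 0) ∧
      (∀ i, i ≠ Fin.last k → Q (x i) = 1) ∧ Q (x (Fin.last k)) ≠ 0 := by
  intro k
  induction k with
  | zero =>
    intro V _ _ _ Q hdim hQ
    have : Nontrivial V := Module.nontrivial_of_finrank_pos (R := F) (by omega)
    obtain ⟨y, hy⟩ := exists_nonsing Q hQ
    refine ⟨fun _ => y, ?_, ?_, hy⟩
    · intro i j hij
      exact absurd (Fin.ext (by omega)) hij
    · intro i hi
      exact absurd (Fin.ext (by simp only [Fin.val_last]; omega)) hi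
  | succ k ih =>
    intro V _ _ _ Q hdim hQ
    obtain ⟨u, hu⟩ := exists_norm_one' h2 Q hQ (by omega)
    have hu0 : Q u ≠ 0 := by rw [hu]; exact one_ne_zero
    have hfr := finrank_perp1 h2 Q hu0
    have hnd := nondegenerate_perp1 h2 Q hQ hu0
    obtain ⟨x', hortho, hone, hlast⟩ := ih (perp1 Q u) (Q.comp (perp1 Q u).subtype) (by omega) hnd
    refine ⟨Fin.cons u (fun i => (x' i : V)), ?_, ?_, ?_⟩
    · intro i j
      cases i using Fin.cases with
      | zero =>
        cases j using Fin.cases with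
        | zero => intro h; exact absurd rfl h
        | succ j' =>
          intro _
          simp only [Fin.cons_zero, Fin.cons_succ]
          exact (mem_perp1 Q u _).mp (x' j').2
      | succ i' =>
        cases j using Fin.cases with
        | zero =>
          intro _
          simp only [Fin.cons_zero, Fin.cons_succ]
          rw [QuadraticMap.polar_comm]
          exact (mem_perp1 Q u _).mp (x' i').2
        | succ j' =>
          intro h
          simp only [Fin.cons_succ]
          have hne : i' ≠ j' := fun h' => h (by rw [h'])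
          have := hortho i' j' hne
          rwa [polar_comp_subtype] at this
    · intro i
      refine Fin.cases ?_ (fun i' => ?_) i
      · intro _
        simp only [Fin.cons_zero]
        exact hu
      · intro h
        simp only [Fin.cons_succ]
        have hne : i' ≠ Fin.last k := by
          intro h'
          apply h
          rw [h', Fin.succ_last]
        exact hone i' hne
    · have : Fin.last (k + 1) = (Fin.last k).succ := (Fin.succ_last k).symm
      rw [this]
      simp only [Fin.cons_succ]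
      exact hlast

end abstract

/-! ### Elementary abelian subgroups of `Ω` from orthogonal frames -/

section concrete

variable {ι : Type} [Fintype ι] [DecidableEq ι] {F : Type u} [Field F] [Fintype F]

/-- `r_v r_w ∈ Ω` when the norms of `v` and `w` differ by a square. -/
theorem refl_mul_refl_mem_omega_of_sq (h2 : (2 : F) ≠ 0) (Q : QuadraticForm F (ι → F)) {v w : ι → F}
    (hv : Q v ≠ 0) (hw : Q w ≠ 0) {s : F} (hs : Q w = s * s * Q v) :
    refl Q v hv * refl Q w hw ∈ Cfsg.Omega F (⇑Q) := by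
  obtain ⟨h, hh⟩ := exists_conj_refl_of_sq Q h2 hv hw hs
  have hinv : (refl Q v hv)⁻¹ = refl Q v hv := inv_eq_of_mul_eq_one_right (refl_mul_self Q v hv)
  have key : refl Q v hv * refl Q w hw = ⁅refl Q v hv, h⁆ := by
    rw [commutatorElement_def, hinv, ← hh]
    group
  rw [key]
  show _ ∈ commutator _
  rw [commutator_def]
  exact Subgroup.commutator_mem_commutator (Subgroup.mem_top _) (Subgroup.mem_top _)

/-- The action of an element of `Ω` on vectors. -/
def ev (Q : QuadraticForm F (ι → F)) (g : ↥(Cfsg.Omega F (⇑Q))) (y : ι → F) : ι → F :=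
  (((g : ↥(Cfsg.isometryGroup F (⇑Q))) : Matrix.GeneralLinearGroup ι F) : Matrix ι ι F) *ᵥ y

theorem ev_one (Q : QuadraticForm F (ι → F)) (y : ι → F) : ev Q 1 y = y := by
  show (1 : Matrix ι ι F) *ᵥ y = y
  rw [Matrix.one_mulVec]

theorem ev_mul (Q : QuadraticForm F (ι → F)) (g h : ↥(Cfsg.Omega F (⇑Q))) (y : ι → F) :
    ev Q (g * h) y = ev Q g (ev Q h y) := by
  show ((((g : ↥(Cfsg.isometryGroup F (⇑Q))) : Matrix.GeneralLinearGroup ι F) : Matrix ι ι F)
    * (((h : ↥(Cfsg.isometryGroup F (⇑Q))) : Matrix.GeneralLinearGroup ι F) : Matrix ι ι F)) *ᵥ y = _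
  rw [← Matrix.mulVec_mulVec]
  rfl

theorem pRankAtLeast_of_frame (h2 : (2 : F) ≠ 0) (Q : QuadraticForm F (ι → F))
    {J : Type} [Fintype J] [DecidableEq J] (x₀ : ι → F) (x : J → ι → F) (hx₀ : Q x₀ ≠ 0)
    (hx : ∀ j, Q (x j) ≠ 0) (h0 : ∀ j, QuadraticMap.polar (⇑Q) x₀ (x j) = 0)
    (hpw : ∀ i j, i ≠ j → QuadraticMap.polar (⇑Q) (x i) (x j) = 0)
    (hΩ : ∀ j, refl Q x₀ hx₀ * refl Q (x j) (hx j) ∈ Cfsg.Omega F (⇑Q)) :
    Cfsg.PRankAtLeast 2 (Fintype.card J) ↥(Cfsg.Omega F (⇑Q)) := by
  classical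
  obtain ⟨γ, hγ⟩ : ∃ γ : J → ↥(Cfsg.Omega F (⇑Q)),
      ∀ j, (γ j : ↥(Cfsg.isometryGroup F (⇑Q))) = refl Q x₀ hx₀ * refl Q (x j) (hx j) :=
    ⟨fun j => ⟨_, hΩ j⟩, fun j => rfl⟩
  have hc0 : ∀ j, Commute (refl Q x₀ hx₀) (refl Q (x j) (hx j)) :=
    fun j => Cfsg.Agent.Lib.Helper14_SiegelOmega.refl_comm_of_orth Q hx₀ (hx j) (h0 j)
  have hcc : ∀ i j, Commute (refl Q (x i) (hx i)) (refl Q (x j) (hx j)) := by
    intro i j
    by_cases hij : i = j
    · subst hij; exact Commute.refl _
    · exact Cfsg.Agent.Lib.Helper14_SiegelOmega.refl_comm_of_orth Q (hx i) (hx j) (hpw i j hij)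
  have hcomm : ∀ i j, γ i * γ j = γ j * γ i := by
    intro i j
    apply Subtype.ext
    show (γ i : ↥(Cfsg.isometryGroup F (⇑Q))) * (γ j : ↥(Cfsg.isometryGroup F (⇑Q)))
      = (γ j : ↥(Cfsg.isometryGroup F (⇑Q))) * (γ i : ↥(Cfsg.isometryGroup F (⇑Q)))
    rw [hγ, hγ]
    have h1 : Commute (refl Q x₀ hx₀) (refl Q x₀ hx₀ * refl Q (x j) (hx j)) :=
      (Commute.refl _).mul_right (hc0 j)
    have h2' : Commute (refl Q (x i) (hx i)) (refl Q x₀ hx₀ * refl Q (x j) (hx j)) :=
      (hc0 i).symm.mul_right (hcc i j)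
    exact (h1.mul_left h2').eq
  have hsq : ∀ j, γ j * γ j = 1 := by
    intro j
    apply Subtype.ext
    show (γ j : ↥(Cfsg.isometryGroup F (⇑Q))) * (γ j : ↥(Cfsg.isometryGroup F (⇑Q))) = 1
    rw [hγ, (hc0 j).symm.mul_mul_mul_comm, refl_mul_self, refl_mul_self, one_mul]
  -- action of the generators on the frame
  have hev_ne : ∀ i j, i ≠ j → ev Q (γ i) (x j) = x j := by
    intro i j hij
    show (((γ i : ↥(Cfsg.isometryGroup F (⇑Q))) : Matrix.GeneralLinearGroup ι F) : Matrix ι ι F)
      *ᵥ x j = x j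
    rw [hγ]
    show (Cfsg.reflectionMatrix (⇑Q) x₀ * Cfsg.reflectionMatrix (⇑Q) (x i)) *ᵥ x j = x j
    have hin : Cfsg.reflectionMatrix (⇑Q) (x i) *ᵥ x j = x j := by
      rw [reflectionMatrix_mulVec, hpw i j hij]; simp
    rw [← Matrix.mulVec_mulVec, hin, reflectionMatrix_mulVec, h0 j]
    simp
  have hev_eq : ∀ j, ev Q (γ j) (x j) = -x j := by
    intro j
    show (((γ j : ↥(Cfsg.isometryGroup F (⇑Q))) : Matrix.GeneralLinearGroup ι F) : Matrix ι ι F)
      *ᵥ x j = -x j
    rw [hγ]
    show (Cfsg.reflectionMatrix (⇑Q) x₀ * Cfsg.reflectionMatrix (⇑Q) (x j)) *ᵥ x j = -x j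
    have hin : Cfsg.reflectionMatrix (⇑Q) (x j) *ᵥ x j = -x j := by
      rw [reflectionMatrix_mulVec, Helper44_Refl.polar_self]
      have : (Q (x j))⁻¹ * (2 * Q (x j)) = 2 := by
        have := hx j
        field_simp
      rw [this, two_smul]; abel
    rw [← Matrix.mulVec_mulVec, hin, Matrix.mulVec_neg, reflectionMatrix_mulVec, h0 j]
    simp
  have hev_neg : ∀ (g : ↥(Cfsg.Omega F (⇑Q))) (y : ι → F), ev Q g (-y) = -ev Q g y := by
    intro g y
    exact Matrix.mulVec_neg _ _
  have hpc : ∀ S : Finset J, (S : Set J).Pairwise (fun i j => Commute (γ i) (γ j)) :=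
    fun S i _ j _ _ => hcomm i j
  have hprod : ∀ (S : Finset J) (j : J),
      ev Q (S.noncommProd γ (hpc S)) (x j) = if j ∈ S then -x j else x j := by
    intro S j
    induction S using Finset.induction_on with
    | empty => simp [ev_one]
    | insert a S ha ih =>
      rw [Finset.noncommProd_insert_of_notMem _ _ _ _ ha, ev_mul, ih]
      by_cases hjS : j ∈ S
      · have hja : a ≠ j := fun h => ha (h ▸ hjS)
        rw [if_pos hjS, if_pos (Finset.mem_insert_of_mem hjS), hev_neg, hev_ne a j hja]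
      · rw [if_neg hjS]
        by_cases hja : a = j
        · subst hja
          rw [if_pos (Finset.mem_insert_self _ _), hev_eq]
        · rw [if_neg (by
            intro h
            rcases Finset.mem_insert.mp h with h | h
            · exact hja h.symm
            · exact hjS h), hev_ne a j hja]
  have hxne : ∀ j, x j ≠ -x j := by
    intro j h
    apply hx j
    have h3 : (2 : F) • x j = 0 := by
      rw [two_smul]
      nth_rewrite 2 [h]
      exact add_neg_cancel _
    rcases smul_eq_zero.mp h3 with h4 | h4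
    · exact absurd h4 h2
    · rw [h4, map_zero]
  refine ⟨Subgroup.closure (Set.range γ), ?_, ?_, ?_⟩
  · apply Subgroup.isMulCommutative_closure
    rintro _ ⟨i, rfl⟩ _ ⟨j, rfl⟩
    exact hcomm i j
  · have hcl := Subgroup.isMulCommutative_closure (k := Set.range γ) (by
      rintro _ ⟨i, rfl⟩ _ ⟨j, rfl⟩
      exact hcomm i j)
    intro a ha
    induction ha using Subgroup.closure_induction with
    | mem y hy =>
      obtain ⟨j, rfl⟩ := hy
      rw [pow_two]; exact hsq j
    | one => simp
    | mul y z hy hz ihy ihz =>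
      have hyz : y * z = z * y := setLike_mul_comm hy hz
      rw [pow_two, mul_assoc, ← mul_assoc z, ← hyz, mul_assoc y, ← mul_assoc, ← pow_two, ← pow_two,
        ihy, ihz, one_mul]
    | inv y hy ihy => rw [inv_pow, ihy, inv_one]
  · have hmem : ∀ S : Finset J, S.noncommProd γ (hpc S) ∈ Subgroup.closure (Set.range γ) := by
      intro S
      apply Subgroup.noncommProd_mem
      intro c _
      exact Subgroup.subset_closure ⟨c, rfl⟩
    have hinj : Function.Injective
        (fun S : Finset J => (⟨S.noncommProd γ (hpc S), hmem S⟩ : Subgroup.closure (Set.range γ))) := by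
      intro S T hST
      have hval : S.noncommProd γ (hpc S) = T.noncommProd γ (hpc T) := congrArg Subtype.val hST
      ext j
      have h1 := hprod S j
      rw [hval, hprod T j] at h1
      by_cases hjS : j ∈ S <;> by_cases hjT : j ∈ T
      · exact iff_of_true hjS hjT
      · rw [if_neg hjT, if_pos hjS] at h1
        exact absurd h1 (hxne j)
      · rw [if_pos hjT, if_neg hjS] at h1
        exact absurd h1.symm (hxne j)
      · exact iff_of_false hjS hjT
    have := Nat.card_le_card_of_injective _ hinj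
    rw [Nat.card_eq_fintype_card, Fintype.card_finset] at this
    exact this

/-! ### Upper bounds -/

/-- The linear map attached to an element of `Ω`. -/
noncomputable def rhoHom (Q : QuadraticForm F (ι → F)) (A : Subgroup ↥(Cfsg.Omega F (⇑Q))) :
    A →* Module.End F (ι → F) where
  toFun a := Matrix.toLin'
    ((((a : ↥(Cfsg.Omega F (⇑Q))) : ↥(Cfsg.isometryGroup F (⇑Q))) : Matrix.GeneralLinearGroup ι F) :
      Matrix ι ι F)
  map_one' := by
    show Matrix.toLin' (1 : Matrix ι ι F) = 1
    rw [Matrix.toLin'_one]; rfl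
  map_mul' a b := by
    show Matrix.toLin' (((((a : ↥(Cfsg.Omega F (⇑Q))) : ↥(Cfsg.isometryGroup F (⇑Q))) :
        Matrix.GeneralLinearGroup ι F) : Matrix ι ι F)
      * ((((b : ↥(Cfsg.Omega F (⇑Q))) : ↥(Cfsg.isometryGroup F (⇑Q))) :
        Matrix.GeneralLinearGroup ι F) : Matrix ι ι F)) = _
    rw [Matrix.toLin'_mul]; rfl

theorem rhoHom_injective (Q : QuadraticForm F (ι → F)) (A : Subgroup ↥(Cfsg.Omega F (⇑Q))) :
    Function.Injective (rhoHom Q A) := by
  intro a b h
  apply Subtype.ext
  apply Subtype.ext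
  apply Subtype.ext
  apply Units.ext
  exact Matrix.toLin'.injective h

theorem det_rhoHom (h2 : (2 : F) ≠ 0) (Q : QuadraticForm F (ι → F))
    (hQ : (QuadraticMap.polarBilin Q).Nondegenerate) (A : Subgroup ↥(Cfsg.Omega F (⇑Q))) (a : A) :
    LinearMap.det (rhoHom Q A a) = 1 := by
  show LinearMap.det (Matrix.toLin'
    ((((a : ↥(Cfsg.Omega F (⇑Q))) : ↥(Cfsg.isometryGroup F (⇑Q))) : Matrix.GeneralLinearGroup ι F) :
      Matrix ι ι F)) = 1
  rw [LinearMap.det_toLin']
  exact ((Cfsg.Agent.Lib.Helper44_OmegaOdd.mem_omega_iff_det_theta h2 Q hQ _).mp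
    (a : ↥(Cfsg.Omega F (⇑Q))).2).1

/-- An elementary abelian `2`-subgroup of `Ω` has order at most `2 ^ (n - 1)`. -/
theorem card_le_of_omega (h2 : (2 : F) ≠ 0) (Q : QuadraticForm F (ι → F))
    (hQ : (QuadraticMap.polarBilin Q).Nondegenerate) {d : ℕ} (hd : Fintype.card ι = d + 1)
    (A : Subgroup ↥(Cfsg.Omega F (⇑Q))) (hA : ∀ a ∈ A, a ^ 2 = 1) : Nat.card A ≤ 2 ^ d := by
  have hsq : ∀ g : A, g * g = 1 := by
    intro g
    apply Subtype.ext
    have := hA g.1 g.2
    rw [pow_two] at this
    exact this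
  have hfr : Module.finrank F (ι → F) = d + 1 := by
    rw [Module.finrank_fintype_fun_eq_card]; exact hd
  exact Cfsg.Agent.S2233.card_le_of_det_one h2 d (rhoHom Q A) (rhoHom_injective Q A) hsq
    (det_rhoHom h2 Q hQ A) hfr

/-- In even dimension, if `-1 ∉ Ω`, an elementary abelian `2`-subgroup of `Ω` has order at most
`2 ^ (n - 2)`. -/
theorem card_le_of_omega_of_negOne (h2 : (2 : F) ≠ 0) (Q : QuadraticForm F (ι → F))
    (hQ : (QuadraticMap.polarBilin Q).Nondegenerate) {d : ℕ} (hd : Fintype.card ι = d + 2)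
    (heven : Even (Fintype.card ι))
    (hneg : ¬ ∃ g : ↥(Cfsg.isometryGroup F (⇑Q)), g ∈ Cfsg.Omega F (⇑Q) ∧
      ((g : Matrix.GeneralLinearGroup ι F) : Matrix ι ι F) = -1)
    (A : Subgroup ↥(Cfsg.Omega F (⇑Q))) (hA : ∀ a ∈ A, a ^ 2 = 1) : Nat.card A ≤ 2 ^ d := by
  have hsqA : ∀ g : A, g * g = 1 := by
    intro g
    apply Subtype.ext
    have := hA g.1 g.2
    rw [pow_two] at this
    exact this
  have hfr : Module.finrank F (ι → F) = (d + 1) + 1 := by
    rw [Module.finrank_fintype_fun_eq_card]; omega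
  -- the representation of `A × {±1}`
  let ρ' : A × ℤˣ →* Module.End F (ι → F) :=
    { toFun := fun p => (((p.2 : ℤ) : F)) • rhoHom Q A p.1
      map_one' := by simp
      map_mul' := by
        intro p p'
        simp only [Prod.fst_mul, Prod.snd_mul, Units.val_mul, Int.cast_mul, map_mul]
        rw [smul_mul_smul_comm] }
  have hρ' : ∀ p : A × ℤˣ, ρ' p = (((p.2 : ℤ) : F)) • rhoHom Q A p.1 := fun p => rfl
  have hunit : ∀ ε : ℤˣ, (((ε : ℤ) : F)) = 1 ∨ (((ε : ℤ) : F)) = -1 := by
    intro ε
    rcases Int.units_eq_one_or ε with h | h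
    · left; rw [h]; simp
    · right; rw [h]; simp
  have hmat : ∀ a : A, rhoHom Q A a * rhoHom Q A a = 1 := by
    intro a
    rw [← map_mul, hsqA, map_one]
  have hinj : Function.Injective ρ' := by
    rintro ⟨a, ε⟩ ⟨a', ε'⟩ h
    rw [hρ', hρ'] at h
    simp only at h
    by_cases hε : ε = ε'
    · subst hε
      have hne : (((ε : ℤ) : F)) ≠ 0 := by
        rcases hunit ε with h1 | h1 <;> rw [h1] <;> simp
      have h1 : rhoHom Q A a = rhoHom Q A a' := smul_right_injective _ hne h
      rw [rhoHom_injective Q A h1]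
    · exfalso
      have e1 : ((((1 : ℤˣ) : ℤ)) : F) = 1 := by simp
      have e2 : ((((-1 : ℤˣ) : ℤ)) : F) = -1 := by simp
      have hns : ∀ X : Module.End F (ι → F), (-1 : F) • X = -X := by
        intro X
        apply LinearMap.ext
        intro y
        simp
      have hneg' : rhoHom Q A a = -rhoHom Q A a' := by
        rcases Int.units_eq_one_or ε with h1 | h1 <;> rcases Int.units_eq_one_or ε' with h1' | h1'
        · exact absurd (h1.trans h1'.symm) hε
        · rw [h1, h1', e1, e2, one_smul, hns] at h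
          exact h
        · rw [h1, h1', e1, e2, one_smul, hns] at h
          rw [← h, neg_neg]
        · exact absurd (h1.trans h1'.symm) hε
      apply hneg
      refine ⟨((a * a' : A) : ↥(Cfsg.Omega F (⇑Q))), ((a * a' : A) : ↥(Cfsg.Omega F (⇑Q))).2, ?_⟩
      apply Matrix.toLin'.injective
      have h3 : rhoHom Q A (a * a') = -1 := by
        rw [map_mul, hneg']
        apply LinearMap.ext
        intro y
        have := congrArg (fun f : Module.End F (ι → F) => f y) (hmat a')
        simp only [Module.End.mul_apply, Module.End.one_apply] at this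
        simp [Module.End.mul_apply, this]
      have h4 : Matrix.toLin' (-1 : Matrix ι ι F) = -1 := by
        rw [map_neg, Matrix.toLin'_one]; rfl
      rw [h4]
      exact h3
  have hsq : ∀ p : A × ℤˣ, p * p = 1 := by
    rintro ⟨a, ε⟩
    rw [Prod.mk_mul_mk, hsqA, Int.units_mul_self]
    rfl
  have hdet : ∀ p, LinearMap.det (ρ' p) = 1 := by
    intro p
    rw [hρ', LinearMap.det_smul, det_rhoHom h2 Q hQ, mul_one, Module.finrank_fintype_fun_eq_card]
    obtain ⟨k, hk⟩ := heven
    rw [hk, ← two_mul, pow_mul]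
    rcases hunit p.2 with h1 | h1 <;> rw [h1] <;> simp
  have hcard := Cfsg.Agent.S2233.card_le_of_det_one h2 (d + 1) ρ' hinj hsq hdet hfr
  rw [Nat.card_prod, Nat.card_eq_fintype_card (α := ℤˣ), Fintype.card_units_int, pow_succ] at hcard
  omega

/-! ### Frames as bases, and the norm of the last vector -/

omit [DecidableEq ι] [Fintype F] in
/-- A frame of full size is a basis. -/
theorem exists_basis_of_frame (h2 : (2 : F) ≠ 0) (Q : QuadraticForm F (ι → F)) {k : ℕ}
    (hn : Fintype.card ι = k + 1) (x : Fin (k + 1) → ι → F)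
    (hortho : ∀ i j, i ≠ j → QuadraticMap.polar (⇑Q) (x i) (x j) = 0) (hne : ∀ i, Q (x i) ≠ 0) :
    ∃ b : Module.Basis (Fin (k + 1)) F (ι → F), ⇑b = x := by
  have hli : LinearIndependent F x := by
    apply LinearMap.BilinForm.linearIndependent_of_iIsOrtho (B := QuadraticMap.polarBilin Q)
    · rw [LinearMap.BilinForm.iIsOrtho_def]
      intro i j hij
      rw [QuadraticMap.polarBilin_apply_apply]
      exact hortho i j hij
    · intro i
      rw [QuadraticMap.polarBilin_apply_apply, Helper44_Refl.polar_self]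
      exact mul_ne_zero h2 (hne i)
  have hcard : Fintype.card (Fin (k + 1)) = finrank F (ι → F) := by
    rw [Fintype.card_fin, Module.finrank_fintype_fun_eq_card, hn]
  exact ⟨basisOfLinearIndependentOfCardEqFinrank hli hcard,
    coe_basisOfLinearIndependentOfCardEqFinrank _ _⟩

/-- If `-1 ∈ Ω` (even dimension) and all vectors of a frame but the last have norm `1`, then the last
norm is a square. -/
theorem isSquare_last_of_negOne_mem (h2 : (2 : F) ≠ 0) (Q : QuadraticForm F (ι → F)) {k : ℕ}
    (hcard : Fintype.card ι = k + 1) (x : Fin (k + 1) → ι → F)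
    (hortho : ∀ i j, i ≠ j → QuadraticMap.polar (⇑Q) (x i) (x j) = 0)
    (hone : ∀ i, i ≠ Fin.last k → Q (x i) = 1) (hlast : Q (x (Fin.last k)) ≠ 0)
    (hneg : negOne Q ∈ Cfsg.Omega F (⇑Q)) : IsSquare (Q (x (Fin.last k))) := by
  have hne : ∀ i, Q (x i) ≠ 0 := by
    intro i
    by_cases hi : i = Fin.last k
    · rw [hi]; exact hlast
    · rw [hone i hi]; exact one_ne_zero
  obtain ⟨b, hb⟩ := exists_basis_of_frame h2 Q hcard x hortho hne
  have hortho' : ∀ i j : Fin (k + 1), i ≠ j → QuadraticMap.polar (⇑Q) (b i) (b j) = 0 := by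
    rw [hb]; exact hortho
  have hne' : ∀ i, Q (b i) ≠ 0 := by rw [hb]; exact hne
  have hprod := Cfsg.Agent.Lib.Helper14_NegOne.prod_refl_eq_neg_one Q b hortho' hne'
  have hmem := mem_omega_iff Q h2 (negOne Q) (List.ofFn b)
    (fun w hw => by
      obtain ⟨i, rfl⟩ := (List.mem_ofFn' _ _).mp hw
      exact hne' i)
    (by rw [negOne_coe, hprod])
  have hsq := (hmem.mp hneg).2
  rw [hb, List.map_ofFn, List.prod_ofFn, Fin.prod_univ_castSucc] at hsq
  have h1 : ∏ i : Fin k, ((fun v => Q v) ∘ x) (Fin.castSucc i) = 1 := by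
    apply Finset.prod_eq_one
    intro i _
    simp only [Function.comp_apply]
    apply hone
    exact (Fin.castSucc_lt_last i).ne
  rw [h1, one_mul] at hsq
  exact hsq

/-! ### The three cases -/

/-- Even dimension `m + 2`, `-1 ∈ Ω`: the `2`-rank of `Ω` is `m + 1`. -/
theorem even_case_pos (h2 : (2 : F) ≠ 0) (Q : QuadraticForm F (ι → F))
    (hQ : (QuadraticMap.polarBilin Q).Nondegenerate) {m : ℕ} (hcard : Fintype.card ι = m + 2)
    (hneg : negOne Q ∈ Cfsg.Omega F (⇑Q)) :
    Cfsg.PRankAtLeast 2 (m + 1) ↥(Cfsg.Omega F (⇑Q)) ∧ Cfsg.PRankLE 2 (m + 1) ↥(Cfsg.Omega F (⇑Q)) := by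
  constructor
  · have hfr : finrank F (ι → F) = (m + 1) + 1 := by
      rw [Module.finrank_fintype_fun_eq_card]; exact hcard
    obtain ⟨x, hortho, hone, hlast⟩ := exists_frame h2 (m + 1) (ι → F) Q hfr hQ
    obtain ⟨s, hs⟩ := isSquare_last_of_negOne_mem h2 Q hcard x hortho hone hlast hneg
    have h0ne : (0 : Fin (m + 1 + 1)) ≠ Fin.last (m + 1) := by
      intro h
      have := congrArg Fin.val h
      simp at this
    have hx0 : Q (x 0) = 1 := hone 0 h0ne
    have hx0' : Q (x 0) ≠ 0 := by rw [hx0]; exact one_ne_zero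
    have hne : ∀ i, Q (x i) ≠ 0 := by
      intro i
      by_cases hi : i = Fin.last (m + 1)
      · rw [hi]; exact hlast
      · rw [hone i hi]; exact one_ne_zero
    have hres := pRankAtLeast_of_frame h2 Q (J := Fin (m + 1)) (x 0) (fun j => x j.succ) hx0'
      (fun j => hne j.succ) (fun j => hortho 0 j.succ (Fin.succ_ne_zero j).symm)
      (fun i j hij => hortho i.succ j.succ (fun h => hij (Fin.succ_injective _ h)))
      (by
        intro j
        by_cases hj : j.succ = Fin.last (m + 1)
        · apply refl_mul_refl_mem_omega_of_sq h2 Q hx0' (hne j.succ) (s := s)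
          rw [hj, hs, hx0, mul_one]
        · apply refl_mul_refl_mem_omega_of_sq h2 Q hx0' (hne j.succ) (s := 1)
          rw [hone _ hj, hx0]; ring)
    rwa [Fintype.card_fin] at hres
  · intro A _ hA
    exact card_le_of_omega h2 Q hQ (d := m + 1) hcard A hA

/-- Even dimension `m + 2`, `-1 ∉ Ω`: the `2`-rank of `Ω` is `m`. -/
theorem even_case_neg (h2 : (2 : F) ≠ 0) (Q : QuadraticForm F (ι → F))
    (hQ : (QuadraticMap.polarBilin Q).Nondegenerate) {m : ℕ} (hcard : Fintype.card ι = m + 2)
    (heven : Even (Fintype.card ι))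
    (hneg : ¬ ∃ g : ↥(Cfsg.isometryGroup F (⇑Q)), g ∈ Cfsg.Omega F (⇑Q) ∧
      ((g : Matrix.GeneralLinearGroup ι F) : Matrix ι ι F) = -1) :
    Cfsg.PRankAtLeast 2 m ↥(Cfsg.Omega F (⇑Q)) ∧ Cfsg.PRankLE 2 m ↥(Cfsg.Omega F (⇑Q)) := by
  constructor
  · have hfr : finrank F (ι → F) = (m + 1) + 1 := by
      rw [Module.finrank_fintype_fun_eq_card]; exact hcard
    obtain ⟨x, hortho, hone, hlast⟩ := exists_frame h2 (m + 1) (ι → F) Q hfr hQ
    have h0ne : (0 : Fin (m + 1 + 1)) ≠ Fin.last (m + 1) := by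
      intro h
      have := congrArg Fin.val h
      simp at this
    have hx0 : Q (x 0) = 1 := hone 0 h0ne
    have hx0' : Q (x 0) ≠ 0 := by rw [hx0]; exact one_ne_zero
    have hidx : ∀ j : Fin m, (Fin.castSucc j.succ : Fin (m + 1 + 1)) ≠ Fin.last (m + 1) :=
      fun j => (Fin.castSucc_lt_last _).ne
    have hidx0 : ∀ j : Fin m, (0 : Fin (m + 1 + 1)) ≠ Fin.castSucc j.succ := by
      intro j h
      have := congrArg Fin.val h
      simp at this
    have hJ : ∀ j : Fin m, Q (x (Fin.castSucc j.succ)) = 1 := fun j => hone _ (hidx j)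
    have hres := pRankAtLeast_of_frame h2 Q (J := Fin m) (x 0) (fun j => x (Fin.castSucc j.succ)) hx0'
      (fun j => by rw [hJ j]; exact one_ne_zero) (fun j => hortho 0 _ (hidx0 j))
      (fun i j hij => hortho _ _ (fun h => hij (Fin.succ_injective _ (Fin.castSucc_injective _ h))))
      (by
        intro j
        apply refl_mul_refl_mem_omega_of_sq h2 Q hx0' _ (s := 1)
        rw [hJ j, hx0]; ring)
    rwa [Fintype.card_fin] at hres
  · intro A _ hA
    exact card_le_of_omega_of_negOne h2 Q hQ hcard heven hneg A hA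

omit [Fintype ι] [DecidableEq ι] [Fintype F] in
theorem polar_comb (Q : QuadraticForm F (ι → F)) (α β α' β' : F) (u w u' w' : ι → F) :
    QuadraticMap.polar (⇑Q) (α • u + β • w) (α' • u' + β' • w') =
      α * α' * QuadraticMap.polar (⇑Q) u u' + α * β' * QuadraticMap.polar (⇑Q) u w'
        + β * α' * QuadraticMap.polar (⇑Q) w u' + β * β' * QuadraticMap.polar (⇑Q) w w' := by
  simp only [QuadraticMap.polar_add_left, QuadraticMap.polar_add_right, QuadraticMap.polar_smul_left,
    QuadraticMap.polar_smul_right, smul_eq_mul]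
  ring

/-- Odd dimension `2n + 1`: the `2`-rank of `Ω` is `2n`. -/
theorem odd_case (h2 : (2 : F) ≠ 0) (Q : QuadraticForm F (ι → F))
    (hQ : (QuadraticMap.polarBilin Q).Nondegenerate) {n : ℕ} (hcard : Fintype.card ι = 2 * n + 1) :
    Cfsg.PRankAtLeast 2 (2 * n) ↥(Cfsg.Omega F (⇑Q)) ∧ Cfsg.PRankLE 2 (2 * n) ↥(Cfsg.Omega F (⇑Q)) := by
  constructor
  · have hfr : finrank F (ι → F) = 2 * n + 1 := by
      rw [Module.finrank_fintype_fun_eq_card]; exact hcard
    obtain ⟨x, hortho, hone, hlast⟩ := exists_frame h2 (2 * n) (ι → F) Q hfr hQ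
    obtain ⟨c, hc⟩ : ∃ c, c = Q (x (Fin.last (2 * n))) := ⟨_, rfl⟩
    obtain ⟨a, b, hab⟩ := exists_sq_sum h2 (one_ne_zero : (1 : F) ≠ 0) (one_ne_zero : (1 : F) ≠ 0) (-c)
    have hab' : a * a + b * b = c := by linear_combination hab
    -- indices
    obtain ⟨i0, hi0⟩ : ∃ i0 : Fin n → Fin (2 * n + 1), ∀ i, (i0 i : ℕ) = 2 * i :=
      ⟨fun i => ⟨2 * i, by have := i.2; omega⟩, fun i => rfl⟩
    obtain ⟨i1, hi1⟩ : ∃ i1 : Fin n → Fin (2 * n + 1), ∀ i, (i1 i : ℕ) = 2 * i + 1 :=
      ⟨fun i => ⟨2 * i + 1, by have := i.2; omega⟩, fun i => rfl⟩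
    have hne_of : ∀ i j : Fin (2 * n + 1), (i : ℕ) ≠ j → i ≠ j := fun i j h h' => h (by rw [h'])
    have hl0 : ∀ i, i0 i ≠ Fin.last (2 * n) := by
      intro i
      apply hne_of
      rw [hi0, Fin.val_last]
      have := i.2
      omega
    have hl1 : ∀ i, i1 i ≠ Fin.last (2 * n) := by
      intro i
      apply hne_of
      rw [hi1, Fin.val_last]
      have := i.2
      omega
    have hQ0 : ∀ i, Q (x (i0 i)) = 1 := fun i => hone _ (hl0 i)
    have hQ1 : ∀ i, Q (x (i1 i)) = 1 := fun i => hone _ (hl1 i)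
    have h01 : ∀ i i', QuadraticMap.polar (⇑Q) (x (i0 i)) (x (i1 i')) = 0 := by
      intro i i'
      apply hortho
      apply hne_of
      rw [hi0, hi1]
      omega
    have h10 : ∀ i i', QuadraticMap.polar (⇑Q) (x (i1 i)) (x (i0 i')) = 0 := by
      intro i i'
      rw [QuadraticMap.polar_comm]; exact h01 i' i
    have h00 : ∀ i i', i ≠ i' → QuadraticMap.polar (⇑Q) (x (i0 i)) (x (i0 i')) = 0 := by
      intro i i' hii
      apply hortho
      apply hne_of
      rw [hi0, hi0]
      have : (i : ℕ) ≠ i' := fun h => hii (Fin.ext h)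
      omega
    have h11 : ∀ i i', i ≠ i' → QuadraticMap.polar (⇑Q) (x (i1 i)) (x (i1 i')) = 0 := by
      intro i i' hii
      apply hortho
      apply hne_of
      rw [hi1, hi1]
      have : (i : ℕ) ≠ i' := fun h => hii (Fin.ext h)
      omega
    have hs0 : ∀ i, QuadraticMap.polar (⇑Q) (x (i0 i)) (x (i0 i)) = 2 := by
      intro i; rw [Helper44_Refl.polar_self, hQ0, mul_one]
    have hs1 : ∀ i, QuadraticMap.polar (⇑Q) (x (i1 i)) (x (i1 i)) = 2 := by
      intro i; rw [Helper44_Refl.polar_self, hQ1, mul_one]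
    have hL0 : ∀ i, QuadraticMap.polar (⇑Q) (x (Fin.last (2 * n))) (x (i0 i)) = 0 :=
      fun i => hortho _ _ (hl0 i).symm
    have hL1 : ∀ i, QuadraticMap.polar (⇑Q) (x (Fin.last (2 * n))) (x (i1 i)) = 0 :=
      fun i => hortho _ _ (hl1 i).symm
    -- the new frame
    obtain ⟨y, hy⟩ : ∃ y : Fin n ⊕ Fin n → ι → F,
        (∀ i, y (Sum.inl i) = a • x (i0 i) + b • x (i1 i)) ∧
        (∀ i, y (Sum.inr i) = (-b) • x (i0 i) + a • x (i1 i)) :=
      ⟨fun j => Sum.elim (fun i => a • x (i0 i) + b • x (i1 i))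
        (fun i => (-b) • x (i0 i) + a • x (i1 i)) j, fun i => rfl, fun i => rfl⟩
    have hQy : ∀ j, Q (y j) = c := by
      intro j
      rcases j with i | i
      · rw [hy.1, QuadraticMap.map_add (⇑Q), QuadraticMap.map_smul, QuadraticMap.map_smul,
          QuadraticMap.polar_smul_left, QuadraticMap.polar_smul_right, h01, hQ0, hQ1]
        simp only [smul_eq_mul, mul_zero, add_zero, mul_one]
        exact hab'
      · rw [hy.2, QuadraticMap.map_add (⇑Q), QuadraticMap.map_smul, QuadraticMap.map_smul,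
          QuadraticMap.polar_smul_left, QuadraticMap.polar_smul_right, h01, hQ0, hQ1]
        simp only [smul_eq_mul, mul_zero, add_zero, mul_one]
        linear_combination hab'
    have hc0 : c ≠ 0 := by rw [hc]; exact hlast
    have hyne : ∀ j, Q (y j) ≠ 0 := fun j => by rw [hQy]; exact hc0
    have hres := pRankAtLeast_of_frame h2 Q (J := Fin n ⊕ Fin n) (x (Fin.last (2 * n))) y hlast hyne
      (by
        intro j
        rcases j with i | i
        · rw [hy.1, QuadraticMap.polar_add_right, QuadraticMap.polar_smul_right,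
            QuadraticMap.polar_smul_right, hL0, hL1]; simp
        · rw [hy.2, QuadraticMap.polar_add_right, QuadraticMap.polar_smul_right,
            QuadraticMap.polar_smul_right, hL0, hL1]; simp)
      (by
        intro j j' hjj
        rcases j with i | i <;> rcases j' with i' | i'
        · have hii : i ≠ i' := fun h => hjj (by rw [h])
          rw [hy.1, hy.1, polar_comb, h00 i i' hii, h01, h10, h11 i i' hii]; ring
        · rw [hy.1, hy.2, polar_comb, h01, h10]
          by_cases hii : i = i'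
          · subst hii
            rw [hs0, hs1]; ring
          · rw [h00 i i' hii, h11 i i' hii]; ring
        · rw [hy.2, hy.1, polar_comb, h01, h10]
          by_cases hii : i = i'
          · subst hii
            rw [hs0, hs1]; ring
          · rw [h00 i i' hii, h11 i i' hii]; ring
        · have hii : i ≠ i' := fun h => hjj (by rw [h])
          rw [hy.2, hy.2, polar_comb, h00 i i' hii, h01, h10, h11 i i' hii]; ring)
      (by
        intro j
        apply refl_mul_refl_mem_omega_of_sq h2 Q hlast (hyne j) (s := 1)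
        rw [hQy, ← hc]; ring)
    rw [Fintype.card_sum, Fintype.card_fin] at hres
    rw [two_mul]
    exact hres
  · intro A _ hA
    exact card_le_of_omega h2 Q hQ (d := 2 * n) hcard A hA

end concrete

end Cfsg.Agent.Lib.Helper14_TwoRank
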