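import Mathlib
import Cfsg.Agent.Lib.Helper14_OrthGamma
import Cfsg.Agent.Lib.Helper14_OrthTop
import Cfsg.Agent.Lib.Helper14_OmegaIndex
import Cfsg.Agent.Lib.Helper14_GOChars
import Cfsg.Agent.Lib.Helper44_OrthOddMain
import Cfsg.Agent.S0821

/-!
# `Aut(Ω_{2m+1}(q))`, `q` odd (helper14)

`|Aut(PΩ)| = 2 f |PΩ|` and the data for `Out ≅ C₂ × C_f`.
-/

set_option autoImplicit false
set_option linter.unusedSectionVars false
set_option linter.unusedVariables false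

namespace Cfsg.Agent.Lib.Helper14_OrthOddAut

open Cfsg Matrix Cfsg.Agent.Lib.Helper44_Orth Cfsg.Agent.Lib.Helper14_AutOmega
  Cfsg.Agent.Lib.Helper7_OrthInduced Cfsg.Agent.Lib.Helper44_OrthField
  Cfsg.Agent.Lib.Helper44_OrthFaith Cfsg.Agent.Lib.Helper14_OrthGamma
  Cfsg.Agent.Lib.Helper14_OmegaIndex Cfsg.Agent.Lib.Helper14_GOChars
  Cfsg.Agent.Lib.Helper44_StdForms Cfsg.Agent.Lib.Helper14_OrthChars
  Cfsg.Agent.Lib.Helper44_Spinor

/-! ### A counting lemma -/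

theorem card_map_of_inj_on {G G' : Type*} [Group G] [Group G'] (f : G →* G') (H : Subgroup G)
    (h : ∀ x ∈ H, f x = 1 → x = 1) : Nat.card (H.map f) = Nat.card H := by
  have hinj : Function.Injective (f.comp H.subtype) := by
    rw [injective_iff_map_eq_one]
    intro x hx
    exact Subtype.ext (h x x.2 hx)
  have hr : (f.comp H.subtype).range = H.map f := by
    rw [MonoidHom.range_comp, Subgroup.range_subtype]
  rw [← hr]
  exact (Nat.card_congr (MonoidHom.ofInjective hinj).toEquiv).symm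

variable {ι : Type} [Fintype ι] [DecidableEq ι] {F : Type*} [Field F] [Fintype F]

/-! ### In odd dimension every similarity is a scalar times a special isometry -/

theorem exists_SO_of_GO_odd (h2 : (2 : F) ≠ 0) (Q : QuadraticForm F (ι → F))
    (hQ : (QuadraticMap.polarBilin Q).Nondegenerate) (hn : 5 ≤ Fintype.card ι) {k : ℕ}
    (hcard : Fintype.card ι = 2 * k + 1) (g : ↥(GO (⇑Q))) :
    ∃ s ∈ specialIsometryGroup F (⇑Q), Phi (⇑Q) g = PhiO (⇑Q) s := by
  obtain ⟨c, hc⟩ : ∃ c : Fˣ, c = mu (⇑Q) g := ⟨_, rfl⟩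
  have hspec : ∀ v, Q (((g : GL ι F) : Matrix ι ι F) *ᵥ v) = (c : F) * Q v := by
    intro v
    rw [hc]
    exact mu_spec (⇑Q) g v
  have hd := det_sq Q hQ g
  rw [← hc, hcard] at hd
  obtain ⟨d, hdd⟩ : ∃ d : F, d = ((g : GL ι F) : Matrix ι ι F).det := ⟨_, rfl⟩
  rw [← hdd] at hd
  have hck : (c : F) ^ k ≠ 0 := pow_ne_zero _ c.ne_zero
  have hrr : d / (c : F) ^ k * (d / (c : F) ^ k) = (c : F) := by
    rw [div_mul_div_comm, ← pow_two, hd]
    field_simp
    ring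
  have hr0 : d / (c : F) ^ k ≠ 0 := by
    intro h0
    rw [h0, mul_zero] at hrr
    exact c.ne_zero hrr.symm
  obtain ⟨r, hr⟩ : ∃ r : Fˣ, (r : F) = d / (c : F) ^ k := ⟨Units.mk0 _ hr0, rfl⟩
  have hrc : (r : F) * r = c := by rw [hr]; exact hrr
  -- the isometry `r⁻¹ g`
  have hs0 : ((scalarGO Q r⁻¹ : ↥(GO (⇑Q))) : GL ι F) * (g : GL ι F) ∈ isometryGroup F (⇑Q) := by
    rw [mem_isometryGroup_iff]
    intro v
    rw [Units.val_mul, ← Matrix.mulVec_mulVec, scalarGO_coe, Matrix.smul_mulVec,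
      Matrix.one_mulVec, QuadraticMap.map_smul, hspec, ← hrc, smul_eq_mul, Units.val_inv_eq_inv_val]
    field_simp
  obtain ⟨s0, hs0'⟩ : ∃ s0 : ↥(isometryGroup F (⇑Q)),
      (s0 : GL ι F) = ((scalarGO Q r⁻¹ : ↥(GO (⇑Q))) : GL ι F) * (g : GL ι F) := ⟨⟨_, hs0⟩, rfl⟩
  have hg : g = scalarGO Q r * Subgroup.inclusion (isometryGroup_le_GO (⇑Q)) s0 := by
    apply Subtype.ext
    show (g : GL ι F) = ((scalarGO Q r : ↥(GO (⇑Q))) : GL ι F) * (s0 : GL ι F)
    rw [hs0', ← mul_assoc]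
    have : ((scalarGO Q r : ↥(GO (⇑Q))) : GL ι F) * ((scalarGO Q r⁻¹ : ↥(GO (⇑Q))) : GL ι F) = 1 := by
      show Units.map _ r * Units.map _ r⁻¹ = 1
      rw [← map_mul, mul_inv_cancel, map_one]
    rw [this, one_mul]
  have hPhi : Phi (⇑Q) g = PhiO (⇑Q) s0 := by
    rw [hg, map_mul, Cfsg.Agent.Lib.Helper14_CentOmega.Phi_eq_one_of_scalar (⇑Q) _
      (scalarGO_mem Q r), one_mul]
    rfl
  rcases det_eq_or h2 Q hQ s0 with h1 | h1
  · exact ⟨s0, (Cfsg.Agent.S0787.mem_SO_iff Q s0).mpr h1, hPhi⟩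
  · refine ⟨negOne Q * s0, ?_, ?_⟩
    · rw [Cfsg.Agent.S0787.mem_SO_iff]
      show ((negOne Q : GL ι F) * (s0 : GL ι F) : GL ι F).1.det = 1
      rw [Units.val_mul, Matrix.det_mul, h1, negOne_coe, Matrix.det_neg, Matrix.det_one, hcard,
        pow_succ, pow_mul]
      norm_num
    · rw [hPhi, map_mul]
      have : PhiO (⇑Q) (negOne Q) = 1 :=
        MonoidHom.mem_ker.mp ((mem_ker_PhiO h2 Q hQ hn _).mpr (Or.inr rfl))
      rw [this, one_mul]

theorem range_Phi_eq_odd (h2 : (2 : F) ≠ 0) (Q : QuadraticForm F (ι → F))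
    (hQ : (QuadraticMap.polarBilin Q).Nondegenerate) (hn : 5 ≤ Fintype.card ι) {k : ℕ}
    (hcard : Fintype.card ι = 2 * k + 1) :
    (Phi (⇑Q)).range = (specialIsometryGroup F (⇑Q)).map (PhiO (⇑Q)) := by
  apply le_antisymm
  · rintro _ ⟨g, rfl⟩
    obtain ⟨s, hs, h⟩ := exists_SO_of_GO_odd h2 Q hQ hn hcard g
    exact ⟨s, hs, h.symm⟩
  · rintro _ ⟨s, hs, rfl⟩
    exact ⟨Subgroup.inclusion (isometryGroup_le_GO (⇑Q)) s, rfl⟩

theorem card_range_Phi_odd (h2 : (2 : F) ≠ 0) (Q : QuadraticForm F (ι → F))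
    (hQ : (QuadraticMap.polarBilin Q).Nondegenerate) (hn : 5 ≤ Fintype.card ι) {k : ℕ}
    (hcard : Fintype.card ι = 2 * k + 1) :
    Nat.card (Phi (⇑Q)).range = 2 * Nat.card (Omega F (⇑Q)) := by
  rw [range_Phi_eq_odd h2 Q hQ hn hcard, card_map_of_inj_on]
  · have hle : Omega F (⇑Q) ≤ specialIsometryGroup F (⇑Q) := by
      rw [omega_eq_inf h2 Q hQ]
      exact inf_le_left
    have h1 := Subgroup.relIndex_mul_relIndex (⊥ : Subgroup ↥(isometryGroup F (⇑Q)))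
      (Omega F (⇑Q)) (specialIsometryGroup F (⇑Q)) bot_le hle
    rw [Subgroup.relIndex_bot_left, Subgroup.relIndex_bot_left,
      relIndex_omega h2 Q hQ (by omega)] at h1
    rw [← h1, mul_comm]
  · intro x hx h1
    rcases (mem_ker_PhiO h2 Q hQ hn x).mp (MonoidHom.mem_ker.mpr h1) with h | h
    · exact h
    · exfalso
      rw [h, Cfsg.Agent.S0787.mem_SO_iff, negOne_coe, Matrix.det_neg, Matrix.det_one, hcard,
        pow_succ, pow_mul] at hx
      norm_num at hx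
      exact one_ne_neg_one h2 hx.symm

/-! ### The odd-dimensional standard form -/

section odd

open Cfsg.Agent.Lib.Helper14_OrthTop0

theorem setup_odd (hodd : Odd (Fintype.card F)) {m : ℕ} (hm : 3 ≤ m) : Setup (qfOdd m F) where
  nd := Cfsg.Agent.Lib.Helper14_POmegaSimple.nondegenerate_qfOdd (two_ne_zero_of_odd hodd) m
  hn := card_odd m hm
  top := by
    rw [coe_qfOdd]
    exact Cfsg.Agent.Lib.Helper14_OrthTop.gamma_odd hodd hm
  semi := by
    intro σ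
    rw [coe_qfOdd]
    exact Cfsg.Agent.Lib.Helper21_OrthSemisim.semisim_odd m σ
  ts := by
    obtain ⟨u, w, hu, hw, huw, hN, -, -⟩ :=
      Cfsg.Agent.Lib.Helper44_OrthOddMain.faithData_qfOdd (F := F) (m := m) (by omega)
    exact ⟨u, w, hu, hw, huw, hN⟩

theorem card_omega_odd (hodd : Odd (Fintype.card F)) {m : ℕ} (hm : 3 ≤ m) :
    Nat.card (POmega F (⇑(qfOdd m F))) = Nat.card (Omega F (⇑(qfOdd m F))) := by
  have hcen : Subgroup.center ↥(Omega F (⇑(qfOdd m F))) = ⊥ := by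
    rw [coe_qfOdd]
    exact Cfsg.Agent.S0821.center_omega_odd hodd m hm
  have h := Subgroup.card_eq_card_quotient_mul_card_subgroup
    (Subgroup.center ↥(Omega F (⇑(qfOdd m F))))
  have hc : Nat.card ↥(Subgroup.center ↥(Omega F (⇑(qfOdd m F)))) = 1 := by
    rw [hcen]
    exact Subgroup.card_bot
  rw [hc, mul_one] at h
  exact h.symm

/-- `|Aut(Ω_{2m+1}(q))| = 2 |Aut(F)| |Ω_{2m+1}(q)|`. -/
theorem card_aut_odd (hodd : Odd (Fintype.card F)) {m : ℕ} (hm : 3 ≤ m) :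
    Nat.card (MulAut (POmega F (Cfsg.quadFormOdd m F))) =
      2 * Nat.card (RingAut F) * Nat.card (POmega F (Cfsg.quadFormOdd m F)) := by
  rw [← coe_qfOdd]
  have h2 := two_ne_zero_of_odd hodd
  have hS := setup_odd hodd hm
  have hcard : Fintype.card (Unit ⊕ (Fin m ⊕ Fin m)) = 2 * m + 1 := by
    simp only [Fintype.card_sum, Fintype.card_fin, Fintype.card_unit]
    omega
  rw [hS.card_aut, card_range_Phi_odd h2 (qfOdd m F) hS.nd hS.hn hcard, card_omega_odd hodd hm]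
  ring

end odd

end Cfsg.Agent.Lib.Helper14_OrthOddAut
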