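import Mathlib
import Cfsg.Agent.Lib.Helper14_OrthMinusAut
import Cfsg.Agent.S2722
import Cfsg.Agent.S2723
import Cfsg.Agent.Lib.Helper44_PSLnOut

/-!
# `|Aut(PΩ⁺_{2m}(q))|` for `m ≥ 5` (helper14)

The plus-type analogue of `Helper14_OrthMinusAut`: `|Aut(PΩ⁺_{2m}(q))| = |PGO image| * |Aut(F)|`
with `|PGO image : Inn| = 2` (`q` even), `4` (`q ≡ 3 mod 4`, `m` odd) or `8` (otherwise).
-/

set_option autoImplicit false
set_option linter.unusedSectionVars false
set_option linter.unusedSimpArgs false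

namespace Cfsg.Agent.Lib.Helper14_OrthPlusAut

open Cfsg Matrix Cfsg.Agent.Lib.Helper44_Orth Cfsg.Agent.Lib.Helper14_AutOmega
  Cfsg.Agent.Lib.Helper7_OrthInduced Cfsg.Agent.Lib.Helper44_OrthField
  Cfsg.Agent.Lib.Helper44_OrthFaith Cfsg.Agent.Lib.Helper14_OrthGamma
  Cfsg.Agent.Lib.Helper14_OmegaIndex Cfsg.Agent.Lib.Helper14_GOChars
  Cfsg.Agent.Lib.Helper44_StdForms Cfsg.Agent.Lib.Helper14_OrthAut
  Cfsg.Agent.Lib.Helper14_Siegel Cfsg.Agent.Lib.Helper14_OrthMinusAut
  Cfsg.Agent.Lib.Helper14_OrthTop0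

variable {F : Type*} [Field F] [Fintype F] {m : ℕ} (hm : 5 ≤ m)
include hm

theorem setup_plus : Setup (qfPlus m F) :=
  setup_of _ (Cfsg.Agent.Lib.Helper71_OrthHyp.hyp_plus hm) (card_plus m hm)
    (by rw [coe_qfPlus]; exact Cfsg.Agent.Lib.Helper14_OrthTop.gamma_plus hm)
    (fun σ => by
      rw [coe_qfPlus]
      exact Cfsg.Agent.Lib.Helper21_OrthSemisim.semisim_plus m σ)

omit hm in
theorem nonsing_plus (hm1 : 1 ≤ m) :
    qfPlus m F (Pi.single (Sum.inl ⟨0, hm1⟩) 1 + Pi.single (Sum.inr ⟨0, hm1⟩) 1) ≠ 0 := by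
  rw [coe_qfPlus, Cfsg.quadFormPlus]
  rw [Finset.sum_eq_single (⟨0, hm1⟩ : Fin m)]
  · simp
  · intro j _ hj
    simp [Pi.single_apply, hj]
  · intro h
    exact absurd (Finset.mem_univ _) h

theorem card_pgo_plus_even (h2 : (2 : F) = 0) :
    Nat.card (Phi (Cfsg.quadFormPlus m F)).range =
      2 * Nat.card (POmega F (Cfsg.quadFormPlus m F)) := by
  have := card_range_Phi_even h2 (qfPlus m F)
    (Cfsg.Agent.Lib.Helper14_POmegaSimple.nondegenerate_qfPlus m) (card_plus m hm)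
    (nonsing_plus (by omega))
  rw [coe_qfPlus] at this
  exact this

theorem card_pgo_plus_odd (hodd : Odd (Fintype.card F)) :
    Nat.card (Phi (Cfsg.quadFormPlus m F)).range =
      (if Odd m ∧ Fintype.card F % 4 = 3 then 4 else 8) *
        Nat.card (POmega F (Cfsg.quadFormPlus m F)) := by
  have h2 : (2 : F) ≠ 0 := two_ne_zero_of_odd hodd
  have hQ := Cfsg.Agent.Lib.Helper14_POmegaSimple.nondegenerate_qfPlus (F := F) m
  have hn := card_plus m hm
  obtain ⟨φ, hφs, hφk⟩ := Cfsg.Agent.S2722.result (F := F) hodd (m := m) (by omega)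
  have h23 := Cfsg.Agent.S2723.result (F := F) hodd (m := m) (by omega)
  have hSG : psoAut F (Cfsg.quadFormPlus m F) ≤ pgoAut F (Cfsg.quadFormPlus m F) := by
    rw [psoAut_eq, pgoAut_eq]
    rintro _ ⟨g, -, rfl⟩
    exact ⟨g, rfl⟩
  have hIS : Inn (POmega F (Cfsg.quadFormPlus m F)) ≤ psoAut F (Cfsg.quadFormPlus m F) := by
    rw [psoAut_eq_map, inn_eq_map]
    apply Subgroup.map_mono
    exact Abelianization.commutator_subset_ker _
  have h1 : Nat.card (pgoAut F (Cfsg.quadFormPlus m F)) =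
      4 * Nat.card (psoAut F (Cfsg.quadFormPlus m F)) := by
    rw [Subgroup.card_eq_card_quotient_mul_card_subgroup φ.ker,
      Nat.card_congr (QuotientGroup.quotientKerEquivOfSurjective φ hφs).toEquiv, hφk,
      Nat.card_congr (Subgroup.subgroupOfEquivOfLe hSG).toEquiv]
    congr 1
    rw [Nat.card_eq_fintype_card]
    rfl
  have h3 := Subgroup.relIndex_mul_relIndex
    (⊥ : Subgroup (MulAut (POmega F (Cfsg.quadFormPlus m F))))
    (Inn (POmega F (Cfsg.quadFormPlus m F))) (psoAut F (Cfsg.quadFormPlus m F))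
    bot_le hIS
  have hci := Cfsg.Agent.Lib.Helper44_OrthOddOut.card_inn (qfPlus m F) hQ hn
  rw [coe_qfPlus] at hci
  rw [Subgroup.relIndex_bot_left, Subgroup.relIndex_bot_left, hci] at h3
  rw [← pgoAut_eq, h1, ← h3]
  split_ifs with hc
  · rw [h23.1 hc]
    ring
  · rw [h23.2 hc]
    ring

theorem card_aut_plus_eq :
    Nat.card (MulAut (POmega F (Cfsg.quadFormPlus m F))) =
      Nat.card (Phi (Cfsg.quadFormPlus m F)).range * Nat.card (RingAut F) := by
  have := (setup_plus (F := F) hm).card_aut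
  rw [coe_qfPlus] at this
  exact this

/-- `|Aut(PΩ⁺_{2m}(q))|`, `q` even, `m ≥ 5`. -/
theorem card_aut_plus_even (h2 : (2 : F) = 0) :
    Nat.card (MulAut (POmega F (Cfsg.quadFormPlus m F))) =
      2 * Nat.card (RingAut F) * Nat.card (POmega F (Cfsg.quadFormPlus m F)) := by
  rw [card_aut_plus_eq hm, card_pgo_plus_even hm h2]
  ring

/-- `|Aut(PΩ⁺_{2m}(q))|`, `q` odd, `m ≥ 5`. -/
theorem card_aut_plus_odd (hodd : Odd (Fintype.card F)) :
    Nat.card (MulAut (POmega F (Cfsg.quadFormPlus m F))) =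
      (if Odd m ∧ Fintype.card F % 4 = 3 then 4 else 8) * Nat.card (RingAut F) *
        Nat.card (POmega F (Cfsg.quadFormPlus m F)) := by
  rw [card_aut_plus_eq hm, card_pgo_plus_odd hm hodd]
  ring

end Cfsg.Agent.Lib.Helper14_OrthPlusAut

namespace Cfsg.Agent.Lib.Helper14_OrthPlusAut

open Cfsg

/-- The `m ≥ 5` half of S0817, in the shape of the frozen statement. -/
theorem card_aut_plus_main {F : Type*} [Field F] [Fintype F] (p f : ℕ) [Fact p.Prime]
    (hf : 1 ≤ f) (hF : Fintype.card F = p ^ f) (m : ℕ) (hm : 5 ≤ m) :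
    Nat.card (MulAut (Cfsg.POmega F (Cfsg.quadFormPlus m F))) =
      (if m = 4 then 3 else 1) *
        (if p = 2 then 2 else (if Even (m * (p ^ f - 1) / 2) then 8 else 4)) * f *
        Nat.card (Cfsg.POmega F (Cfsg.quadFormPlus m F)) := by
  have hR := Cfsg.Agent.Lib.Helper44_PSLnOut.card_ringAut hF
  rw [if_neg (by omega : ¬ m = 4), one_mul]
  by_cases hp : p = 2
  · subst hp
    rw [if_pos rfl]
    have hch : ringChar F = 2 := by
      apply FiniteField.even_card_iff_char_two.mpr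
      rw [hF]
      obtain ⟨k, rfl⟩ : ∃ k, f = k + 1 := ⟨f - 1, by omega⟩
      rw [pow_succ]
      omega
    have h2 : (2 : F) = 0 := by
      have := ringChar.Nat.cast_ringChar (R := F)
      rw [hch] at this
      exact_mod_cast this
    rw [card_aut_plus_even hm h2, hR]
  · rw [if_neg hp]
    have hpodd : Odd p := (Fact.out : p.Prime).odd_of_ne_two hp
    have hodd : Odd (Fintype.card F) := by
      rw [hF]
      exact hpodd.pow
    rw [card_aut_plus_odd hm hodd, hR, hF]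
    have hq : Odd (p ^ f) := hpodd.pow
    obtain ⟨t, ht⟩ := hq
    have hmt : m * (p ^ f - 1) / 2 = m * t := by
      rw [ht, Nat.add_sub_cancel, mul_left_comm, Nat.mul_div_cancel_left _ (by norm_num : 0 < 2)]
    rw [hmt]
    congr 2
    have hiff : Even (m * t) ↔ ¬ (Odd m ∧ p ^ f % 4 = 3) := by
      rw [Nat.even_mul, Nat.even_iff, Nat.even_iff, Nat.odd_iff]
      omega
    by_cases h1 : Odd m ∧ p ^ f % 4 = 3
    · rw [if_pos h1, if_neg (fun h => hiff.mp h h1)]
    · rw [if_neg h1, if_pos (hiff.mpr h1)]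

end Cfsg.Agent.Lib.Helper14_OrthPlusAut
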