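import Mathlib

set_option autoImplicit false

/-!
# OUTPLUS package EQXE (architect helper14; helper47)

Kernel `K = ker κ` dihedral of order eight, `T = {1, z} ≤ K` containing all commutators `[g, k]`, `f` even,
`x ^ f = 1`, `x` commuting with an involution `r ∈ K ∖ T`: one of `x`, `r * x` centralises `K`.
The maps `k ↦ [x, k]` and `k ↦ [r, k]` are homomorphisms `K → T` trivial on `V = {1, r, z, r z}`, which has index two
in `K` (`decide` in `DihedralGroup 4`); `[r, ·]` is nontrivial (`r` is not central in `D₈`); so if `[x, ·]` is nontrivial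
the two maps agree and `r * x` centralises `K`.
-/

namespace Cfsg.Agent.Lib.Helper47_OUTPLUS_EQXE

/-- the centre of `D₈` -/
theorem d8_center : ∀ w : DihedralGroup 4, (∀ k : DihedralGroup 4, w * k = k * w) →
    w = 1 ∨ w = DihedralGroup.r 2 := by decide

/-- `{1, r', z', r' z'}` has index two in `D₈` -/
theorem d8_index_two : ∀ r' a b : DihedralGroup 4, r' * r' = 1 → r' ≠ 1 → r' ≠ DihedralGroup.r 2 →
    ¬ (a = 1 ∨ a = r' ∨ a = DihedralGroup.r 2 ∨ a = r' * DihedralGroup.r 2) →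
    ¬ (b = 1 ∨ b = r' ∨ b = DihedralGroup.r 2 ∨ b = r' * DihedralGroup.r 2) →
    (a * b = 1 ∨ a * b = r' ∨ a * b = DihedralGroup.r 2 ∨ a * b = r' * DihedralGroup.r 2) := by
  decide

theorem exists_central_lift {G C : Type*} [Group G] [Group C] (κ : G →* C) (x : G) (f : ℕ)
    (hfe : Even f) (hxf : x ^ f = 1)
    (T : Subgroup G) (hT2 : Nat.card T = 2) (hTK : T ≤ κ.ker)
    (hcomm : ∀ g : G, ∀ k ∈ κ.ker, g * k * g⁻¹ * k⁻¹ ∈ T) (e : κ.ker ≃* DihedralGroup 4)
    (r : G) (hrK : r ∈ κ.ker) (hrr : r * r = 1) (hrT : r ∉ T) (hxr : x * r = r * x) :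
    ∃ x' : G, κ x' = κ x ∧ x' ^ f = 1 ∧ ∀ k ∈ κ.ker, x' * k = k * x' := by
  classical
  -- `T = {1, z}`
  obtain ⟨z, hzT, hz1, hTz⟩ : ∃ z ∈ T, z ≠ 1 ∧ ∀ t ∈ T, t = 1 ∨ t = z := by
    obtain ⟨⟨z, hz⟩, hz1, hzu⟩ := (Nat.card_eq_two_iff' (1 : T)).1 hT2
    refine ⟨z, hz, fun h => hz1 (Subtype.ext h), ?_⟩
    intro t ht
    by_cases h1 : t = 1
    · exact Or.inl h1
    · right
      have := hzu ⟨t, ht⟩ (fun h => h1 (congrArg Subtype.val h))
      exact congrArg Subtype.val this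
  have hzK : z ∈ κ.ker := hTK hzT
  have hzz : z * z = 1 := by
    rcases hTz _ (T.mul_mem hzT hzT) with h | h
    · exact h
    · exfalso
      apply hz1
      have : z * z = z * 1 := by rw [h, mul_one]
      exact mul_left_cancel this
  have hzinv : z⁻¹ = z := inv_eq_of_mul_eq_one_left hzz
  -- `z` is central in `G`
  have hzc : ∀ g : G, g * z = z * g := by
    intro g
    have h1 : g * z * g⁻¹ ∈ T := by
      have h2 := T.mul_mem (hcomm g z hzK) hzT
      have h3 : g * z * g⁻¹ * z⁻¹ * z = g * z * g⁻¹ := by group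
      rwa [h3] at h2
    rcases hTz _ h1 with h | h
    · exfalso
      apply hz1
      have : z = g⁻¹ * (g * z * g⁻¹) * g := by group
      rw [this, h]; group
    · have : g * z = g * z * g⁻¹ * g := by group
      rw [this, h]
  have hTc : ∀ t ∈ T, ∀ g : G, g * t = t * g := by
    intro t ht g
    rcases hTz t ht with h | h
    · rw [h, mul_one, one_mul]
    · rw [h]; exact hzc g
  -- the commutator maps
  have hmul : ∀ g : G, ∀ k ∈ κ.ker, ∀ k' ∈ κ.ker,
      g * (k * k') * g⁻¹ * (k * k')⁻¹ = (g * k * g⁻¹ * k⁻¹) * (g * k' * g⁻¹ * k'⁻¹) := by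
    intro g k hk k' hk'
    have h1 := hTc _ (hcomm g k' hk') (g * k * g⁻¹)
    calc g * (k * k') * g⁻¹ * (k * k')⁻¹
        = (g * k * g⁻¹) * (g * k' * g⁻¹ * k'⁻¹) * k⁻¹ := by group
      _ = (g * k' * g⁻¹ * k'⁻¹) * (g * k * g⁻¹) * k⁻¹ := by rw [h1]
      _ = (g * k' * g⁻¹ * k'⁻¹) * (g * k * g⁻¹ * k⁻¹) := by group
      _ = (g * k * g⁻¹ * k⁻¹) * (g * k' * g⁻¹ * k'⁻¹) :=
          hTc _ (hcomm g k hk) _
  -- membership in `V = {1, r, z, r z}`
  let inV : G → Prop := fun k => k = 1 ∨ k = r ∨ k = z ∨ k = r * z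
  have hrzK : r * z ∈ κ.ker := κ.ker.mul_mem hrK hzK
  have hr1 : r ≠ 1 := fun h => hrT (h ▸ T.one_mem)
  have hrz : r ≠ z := fun h => hrT (h ▸ hzT)
  have hrinv : r⁻¹ = r := inv_eq_of_mul_eq_one_left hrr
  -- transport to `D₈`
  set r' : DihedralGroup 4 := e ⟨r, hrK⟩ with hr'
  have hez : e ⟨z, hzK⟩ = DihedralGroup.r 2 := by
    have hcen : ∀ k' : DihedralGroup 4, e ⟨z, hzK⟩ * k' = k' * e ⟨z, hzK⟩ := by
      intro k'
      obtain ⟨⟨k, hk⟩, rfl⟩ := e.surjective k'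
      rw [← map_mul, ← map_mul]
      congr 1
      apply Subtype.ext
      show z * k = k * z
      exact (hzc k).symm
    rcases d8_center _ hcen with h | h
    · exfalso
      apply hz1
      have h2 : (⟨z, hzK⟩ : κ.ker) = 1 := e.injective (by rw [h, map_one])
      exact congrArg Subtype.val h2
    · exact h
  have hr'r' : r' * r' = 1 := by
    rw [hr', ← map_mul]
    have : (⟨r, hrK⟩ : κ.ker) * ⟨r, hrK⟩ = 1 := Subtype.ext hrr
    rw [this, map_one]
  have hr'1 : r' ≠ 1 := by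
    intro h
    apply hr1
    have h2 : (⟨r, hrK⟩ : κ.ker) = 1 := e.injective (by rw [← hr', h, map_one])
    exact congrArg Subtype.val h2
  have hr'z : r' ≠ DihedralGroup.r 2 := by
    intro h
    apply hrz
    have h2 : (⟨r, hrK⟩ : κ.ker) = ⟨z, hzK⟩ := e.injective (by rw [← hr', h, hez])
    exact congrArg Subtype.val h2
  have hinV : ∀ (k : G) (hk : k ∈ κ.ker), inV k ↔
      (e ⟨k, hk⟩ = 1 ∨ e ⟨k, hk⟩ = r' ∨ e ⟨k, hk⟩ = DihedralGroup.r 2 ∨
        e ⟨k, hk⟩ = r' * DihedralGroup.r 2) := by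
    intro k hk
    have e1 : e ⟨k, hk⟩ = 1 ↔ k = 1 := by
      constructor
      · intro h
        have h2 : (⟨k, hk⟩ : κ.ker) = 1 := e.injective (by rw [h, map_one])
        exact congrArg Subtype.val h2
      · rintro rfl
        exact map_one e
    have e2 : e ⟨k, hk⟩ = r' ↔ k = r := by
      constructor
      · intro h
        have h2 : (⟨k, hk⟩ : κ.ker) = ⟨r, hrK⟩ := e.injective h
        exact congrArg Subtype.val h2
      · rintro rfl
        rfl
    have e3 : e ⟨k, hk⟩ = DihedralGroup.r 2 ↔ k = z := by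
      rw [← hez]
      constructor
      · intro h
        have h2 : (⟨k, hk⟩ : κ.ker) = ⟨z, hzK⟩ := e.injective h
        exact congrArg Subtype.val h2
      · rintro rfl
        rfl
    have e4 : e ⟨k, hk⟩ = r' * DihedralGroup.r 2 ↔ k = r * z := by
      rw [← hez, hr', ← map_mul]
      constructor
      · intro h
        have h2 : (⟨k, hk⟩ : κ.ker) = ⟨r, hrK⟩ * ⟨z, hzK⟩ := e.injective h
        exact congrArg Subtype.val h2
      · rintro rfl
        rfl
    show (k = 1 ∨ k = r ∨ k = z ∨ k = r * z) ↔ _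
    rw [e1, e2, e3, e4]
  -- (F2) `V` has index two
  have hF2 : ∀ a ∈ κ.ker, ∀ b ∈ κ.ker, ¬ inV a → ¬ inV b → inV (a * b) := by
    intro a ha b hb hna hnb
    rw [hinV a ha] at hna
    rw [hinV b hb] at hnb
    have h1 := d8_index_two r' (e ⟨a, ha⟩) (e ⟨b, hb⟩) hr'r' hr'1 hr'z hna hnb
    rw [hinV (a * b) (κ.ker.mul_mem ha hb)]
    have h2 : e ⟨a * b, κ.ker.mul_mem ha hb⟩ = e ⟨a, ha⟩ * e ⟨b, hb⟩ := by
      rw [← map_mul]
      rfl
    rw [h2]
    exact h1
  -- (F1) `r` is not central in `K`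
  have hF1 : ∃ k₂ ∈ κ.ker, r * k₂ * r⁻¹ * k₂⁻¹ ≠ 1 := by
    by_contra hcon
    push Not at hcon
    have hcen : ∀ k' : DihedralGroup 4, r' * k' = k' * r' := by
      intro k'
      obtain ⟨⟨k, hk⟩, rfl⟩ := e.surjective k'
      rw [hr', ← map_mul, ← map_mul]
      congr 1
      apply Subtype.ext
      show r * k = k * r
      have h1 := hcon k hk
      have h2 : r * k = (r * k * r⁻¹ * k⁻¹) * k * r := by group
      rw [h2, h1, one_mul]
    rcases d8_center _ hcen with h | h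
    · exact hr'1 h
    · exact hr'z h
  -- values of the commutator maps on `V`
  have hV1 : ∀ g : G, g * r = r * g → ∀ k : G, inV k → g * k * g⁻¹ * k⁻¹ = 1 := by
    intro g hgr k hk
    rcases hk with rfl | rfl | rfl | rfl
    · group
    · rw [hgr]; group
    · rw [hzc g]; group
    · rw [← mul_assoc, hgr, mul_assoc r g z, hzc g]; group
  -- a hom `K → T` trivial on `V` and nontrivial at one point is `z` outside `V`
  have hout : ∀ g : G, g * r = r * g → (∃ k₁ ∈ κ.ker, g * k₁ * g⁻¹ * k₁⁻¹ ≠ 1) →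
      ∀ k ∈ κ.ker, ¬ inV k → g * k * g⁻¹ * k⁻¹ = z := by
    intro g hgr hex k hk hnk
    obtain ⟨k₁, hk₁, hne⟩ := hex
    have hk₁z : g * k₁ * g⁻¹ * k₁⁻¹ = z := (hTz _ (hcomm g k₁ hk₁)).resolve_left hne
    have hnk₁ : ¬ inV k₁ := fun h => hne (hV1 g hgr k₁ h)
    have h1 := hV1 g hgr (k * k₁) (hF2 k hk k₁ hk₁ hnk hnk₁)
    rw [hmul g k hk k₁ hk₁, hk₁z] at h1
    -- `c k * z = 1`, so `c k = z`
    have h2 : g * k * g⁻¹ * k⁻¹ = z⁻¹ := eq_inv_of_mul_eq_one_left h1
    rw [h2, hzinv]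
  -- conclusion
  by_cases htriv : ∀ k ∈ κ.ker, x * k * x⁻¹ * k⁻¹ = 1
  · refine ⟨x, rfl, hxf, ?_⟩
    intro k hk
    have h1 := htriv k hk
    have h2 : x * k = (x * k * x⁻¹ * k⁻¹) * k * x := by group
    rw [h2, h1, one_mul]
  · push Not at htriv
    have hrr' : r * r = r * r := rfl
    refine ⟨r * x, ?_, ?_, ?_⟩
    · rw [map_mul, MonoidHom.mem_ker.1 hrK, one_mul]
    · have hc : Commute r x := hxr.symm
      rw [hc.mul_pow, hxf, mul_one]
      obtain ⟨m, hm⟩ := hfe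
      rw [hm, ← two_mul, pow_mul, pow_two, hrr, one_pow]
    · intro k hk
      -- `c_x k * c_r k = 1`
      have hprod : (x * k * x⁻¹ * k⁻¹) * (r * k * r⁻¹ * k⁻¹) = 1 := by
        by_cases hkV : inV k
        · rw [hV1 x hxr k hkV, hV1 r rfl k hkV, one_mul]
        · rw [hout x hxr htriv k hk hkV, hout r rfl hF1 k hk hkV, hzz]
      -- `(r x) k (r x)⁻¹ = c_x k * c_r k * k`
      have hcx := hTc _ (hcomm x k hk) r
      have h3 : r * x * k = (x * k * x⁻¹ * k⁻¹) * (r * k * r⁻¹ * k⁻¹) * k * (r * x) := by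
        calc r * x * k = r * (x * k * x⁻¹ * k⁻¹) * k * x := by group
          _ = (x * k * x⁻¹ * k⁻¹) * r * k * x := by rw [hcx]
          _ = (x * k * x⁻¹ * k⁻¹) * (r * k * r⁻¹ * k⁻¹) * k * (r * x) := by group
      rw [h3, hprod, one_mul]

end Cfsg.Agent.Lib.Helper47_OUTPLUS_EQXE
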