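import Mathlib

set_option autoImplicit false

/-!
# OUTPLUS package EQZ (architect helper14; helper47)

`κ : G →* C` with `C` generated by `κ x` of order `f`, `x ^ f = 1`, `x` centralising `ker κ ≃* D`:
then `G ≃* D × Z/f` via `(d, j) ↦ e.symm d * x ^ j`.
-/

namespace Cfsg.Agent.Lib.Helper47_OUTPLUS_EQZ

theorem pow_mod_of_pow_eq_one {G : Type*} [Group G] {x : G} {f : ℕ} (hxf : x ^ f = 1) (n : ℕ) :
    x ^ (n % f) = x ^ n := by
  conv_rhs => rw [← Nat.mod_add_div n f]
  rw [pow_add, pow_mul, hxf, one_pow, mul_one]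

theorem equiv_Z {G C D : Type*} [Group G] [Group C] [Group D] (κ : G →* C) (x : G) (f : ℕ)
    (hf : 1 ≤ f) (hgen : ∀ c : C, ∃ k : ℕ, c = (κ x) ^ k) (hord : orderOf (κ x) = f)
    (hcent : ∀ k ∈ κ.ker, x * k = k * x) (hxf : x ^ f = 1) (e : κ.ker ≃* D) :
    Nonempty (G ≃* D × Multiplicative (ZMod f)) := by
  have : NeZero f := ⟨by omega⟩
  -- powers of `x` commute with the kernel
  have hcomm : ∀ (n : ℕ) (k : κ.ker), x ^ n * (k : G) = (k : G) * x ^ n := by
    intro n k
    have h1 : Commute x (k : G) := hcent k k.2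
    exact (h1.pow_left n).eq
  let ψ : D × Multiplicative (ZMod f) →* G :=
    { toFun := fun p => (e.symm p.1 : G) * x ^ (Multiplicative.toAdd p.2).val
      map_one' := by
        show ((e.symm (1 : D) : κ.ker) : G) * x ^ (Multiplicative.toAdd (1 : Multiplicative (ZMod f))).val = 1
        rw [map_one, toAdd_one, ZMod.val_zero, pow_zero, mul_one]
        rfl
      map_mul' := by
        intro p q
        show ((e.symm (p.1 * q.1) : κ.ker) : G) *
            x ^ (Multiplicative.toAdd (p.2 * q.2)).val =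
          ((e.symm p.1 : κ.ker) : G) * x ^ (Multiplicative.toAdd p.2).val *
            (((e.symm q.1 : κ.ker) : G) * x ^ (Multiplicative.toAdd q.2).val)
        rw [map_mul, toAdd_mul, ZMod.val_add, pow_mod_of_pow_eq_one hxf, pow_add, Subgroup.coe_mul]
        calc ((e.symm p.1 : κ.ker) : G) * ((e.symm q.1 : κ.ker) : G) *
              (x ^ (Multiplicative.toAdd p.2).val * x ^ (Multiplicative.toAdd q.2).val)
            = ((e.symm p.1 : κ.ker) : G) *
                (((e.symm q.1 : κ.ker) : G) * x ^ (Multiplicative.toAdd p.2).val) *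
                x ^ (Multiplicative.toAdd q.2).val := by group
          _ = ((e.symm p.1 : κ.ker) : G) *
                (x ^ (Multiplicative.toAdd p.2).val * ((e.symm q.1 : κ.ker) : G)) *
                x ^ (Multiplicative.toAdd q.2).val := by rw [hcomm]
          _ = _ := by group }
  have hψ : ∀ p : D × Multiplicative (ZMod f),
      ψ p = (e.symm p.1 : G) * x ^ (Multiplicative.toAdd p.2).val := fun _ => rfl
  have hinj : Function.Injective ψ := by
    rw [injective_iff_map_eq_one]
    rintro ⟨d, j⟩ h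
    rw [hψ] at h
    simp only at h
    have h1 : κ (((e.symm d : κ.ker) : G) * x ^ (Multiplicative.toAdd j).val) = 1 := by
      rw [h, map_one]
    have hk : κ ((e.symm d : κ.ker) : G) = 1 := (e.symm d).2
    rw [map_mul, hk, one_mul, map_pow] at h1
    have h2 : f ∣ (Multiplicative.toAdd j).val := by
      have h8 := orderOf_dvd_of_pow_eq_one h1
      rw [hord] at h8
      exact h8
    have h3 : (Multiplicative.toAdd j).val = 0 :=
      Nat.eq_zero_of_dvd_of_lt h2 (ZMod.val_lt _)
    have h4 : Multiplicative.toAdd j = 0 := (ZMod.val_eq_zero _).1 h3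
    rw [h3, pow_zero, mul_one] at h
    have h5 : e.symm d = 1 := Subtype.ext h
    have h6 : d = 1 := by
      have := congrArg e h5
      rwa [MulEquiv.apply_symm_apply, map_one] at this
    have h7 : j = 1 := by
      have := congrArg Multiplicative.ofAdd h4
      rwa [ofAdd_toAdd, ofAdd_zero] at this
    rw [h6, h7]
    rfl
  have hsurj : Function.Surjective ψ := by
    intro g
    obtain ⟨k, hk⟩ := hgen (κ g)
    have hmem : g * (x ^ k)⁻¹ ∈ κ.ker := by
      rw [MonoidHom.mem_ker, map_mul, map_inv, map_pow, hk, mul_inv_cancel]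
    refine ⟨(e ⟨g * (x ^ k)⁻¹, hmem⟩, Multiplicative.ofAdd ((k : ℕ) : ZMod f)), ?_⟩
    rw [hψ]
    simp only [MulEquiv.symm_apply_apply, toAdd_ofAdd]
    rw [ZMod.val_natCast, pow_mod_of_pow_eq_one hxf, inv_mul_cancel_right]
  exact ⟨(MulEquiv.ofBijective ψ ⟨hinj, hsurj⟩).symm⟩

end Cfsg.Agent.Lib.Helper47_OUTPLUS_EQZ
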