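import Mathlib
import Cfsg.Agent.Lib.Helper14_OrthPlusAut
import Cfsg.Agent.Lib.Helper14_OrthMinusOut3
import Cfsg.Agent.Lib.Helper44_OrthPlusMain
import Cfsg.Agent.S2724
import Cfsg.Agent.Lib.Helper47_OUTPLUS_EQZ
import Cfsg.Agent.Lib.Helper47_OUTPLUS_EQXE

/-!
# `Out(PΩ⁺_{2m}(q))` for `m ≥ 5` (helper14)

Generic part: the standard field automorphisms `fieldO σ` are lifts of `σ` under the companion
homomorphism, and their classes in `Out` have order dividing the order of `σ`.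
-/

set_option autoImplicit false
set_option linter.unusedSectionVars false
set_option linter.unusedVariables false

namespace Cfsg.Agent.Lib.Helper14_OrthPlusOut

open Cfsg Matrix Cfsg.Agent.Lib.Helper44_Orth Cfsg.Agent.Lib.Helper14_AutOmega
  Cfsg.Agent.Lib.Helper7_OrthInduced Cfsg.Agent.Lib.Helper44_OrthField
  Cfsg.Agent.Lib.Helper44_OrthFaith Cfsg.Agent.Lib.Helper14_OrthGamma
  Cfsg.Agent.Lib.Helper14_OrthGamma2

section generic

variable {ι : Type} [Fintype ι] [DecidableEq ι] {F : Type*} [Field F] [Fintype F]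
  {Q : QuadraticForm F (ι → F)}

theorem semisim_of_sigInv (σ : ↥(invSub (⇑Q))) :
    IsSemisimilarityPair (⇑Q) (1 : GL ι F) σ.1 := by
  refine ⟨1, fun v => ?_⟩
  rw [Units.val_one, Matrix.one_mulVec, Units.val_one, one_mul]
  exact σ.2 v

theorem fieldO_eq_twistP (σ : ↥(invSub (⇑Q))) :
    fieldO (⇑Q) σ = twistP (⇑Q) (1 : GL ι F) σ.1 (semisim_of_sigInv σ) := by
  have h1 := isInduced_twistP (⇑Q) (1 : GL ι F) σ.1 (semisim_of_sigInv σ)
  have h2 := (isInduced_iff' (⇑Q) (1 : ↥(GO (⇑Q))) σ _).mp h1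
  rw [h2, map_one, one_mul]

theorem compHom_fieldO (S : Setup Q) (σ : ↥(invSub (⇑Q))) :
    S.compHom (fieldO (⇑Q) σ) = σ.1 := by
  rw [fieldO_eq_twistP, Setup.compHom_apply, S.comp_twistP]

end generic

/-! ### The plus-type form -/

section plus

open Cfsg.Agent.Lib.Helper14_OrthPlusAut Cfsg.Agent.Lib.Helper44_StdForms
  Cfsg.Agent.Lib.Helper44_OrthPlusMain Cfsg.Agent.Lib.Helper14_OrthTop0

variable {F : Type*} [Field F] [Fintype F] {m : ℕ}

/-- The reflection in `e₀ + f₀`. -/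
noncomputable def rho0 (hm1 : 1 ≤ m) : ↥(GO (⇑(qfPlus m F))) :=
  reflGO (qfPlus m F) (v₀ hm1) (by rw [qfPlus_v₀]; exact one_ne_zero)

/-- The standard lift of the Frobenius generator: it has order dividing `f` and commutes with the
reflection in `e₀ + f₀`. -/
theorem exists_frob_plus {p f : ℕ} [Fact p.Prime] (hF : Fintype.card F = p ^ f) (hm : 5 ≤ m) :
    ∃ (φ : RingAut F) (β : MulAut (POmega F (⇑(qfPlus m F)))), orderOf φ = f ∧
      (∀ σ : RingAut F, ∃ k : ℕ, σ = φ ^ k) ∧ (setup_plus (F := F) hm).compHom β = φ ∧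
      β ^ f = 1 ∧
      β * Phi (⇑(qfPlus m F)) (rho0 (by omega)) = Phi (⇑(qfPlus m F)) (rho0 (by omega)) * β := by
  obtain ⟨φ, hφ, hord, hgen⟩ := exists_frob hF
  obtain ⟨σ, hσ⟩ : ∃ σ : ↥(invSub (⇑(qfPlus m F))), σ = ⟨φ, sigInv_qfPlus m φ⟩ := ⟨_, rfl⟩
  refine ⟨φ, fieldO (⇑(qfPlus m F)) σ, hord, hgen, ?_, ?_, ?_⟩
  · rw [compHom_fieldO, hσ]
  · rw [← map_pow]
    have : σ ^ f = 1 := by
      apply Subtype.ext
      rw [Subgroup.coe_pow, hσ, Subgroup.coe_one]
      show φ ^ f = 1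
      rw [← hord]
      exact pow_orderOf_eq_one φ
    rw [this, map_one]
  · rw [fieldO_mul_Phi]
    congr 2
    exact mapGO_reflGO (qfPlus m F) σ _ _ (fun i => v₀_fixed _ σ.1 i)

/-- **`Out(PΩ⁺_{2m}(2^f)) ≅ Z/2 × Z/f`, `m ≥ 5`.** -/
theorem out_plus_even {f : ℕ} (hf : 1 ≤ f) (hF : Fintype.card F = 2 ^ f) (hm : 5 ≤ m) :
    Nonempty (Out (POmega F (Cfsg.quadFormPlus m F)) ≃* Multiplicative (ZMod 2 × ZMod f)) := by
  have : Fact (Nat.Prime 2) := Nat.fact_prime_two
  have : CharP F 2 := charP_of_card_eq_prime_pow hF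
  have h2 : (2 : F) = 0 := CharTwo.two_eq_zero
  have S := setup_plus (F := F) hm
  have hRA : Nat.card (RingAut F) = f := Cfsg.Agent.Lib.Helper44_PSLnOut.card_ringAut hF
  have hcard : Nat.card (Out (POmega F (⇑(qfPlus m F)))) = 2 * f := by
    have h1 := card_out_mul S
    have h3 := card_pgo_plus_even (F := F) hm h2
    rw [← coe_qfPlus] at h3
    rw [h3, hRA] at h1
    have hpos : 0 < Nat.card (POmega F (⇑(qfPlus m F))) := Nat.card_pos
    apply Nat.eq_of_mul_eq_mul_right hpos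
    rw [h1]
    ring
  have hker : Nat.card (outHom S).ker = 2 := by
    have h1 := card_out_eq S
    rw [hcard, hRA] at h1
    exact (Nat.eq_of_mul_eq_mul_right (by omega : 0 < f) h1).symm
  obtain ⟨φ, β, hord, hgen, hβφ, hβf, -⟩ := exists_frob_plus (p := 2) hF hm
  obtain ⟨x, hx⟩ : ∃ x : Out (POmega F (⇑(qfPlus m F))), x = QuotientGroup.mk β := ⟨_, rfl⟩
  have hκx : outHom S x = φ := by rw [hx, outHom_mk, hβφ]
  have hgen' : ∀ c : RingAut F, ∃ k : ℕ, c = (outHom S x) ^ k := by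
    intro c
    rw [hκx]
    exact hgen c
  have hord' : orderOf (outHom S x) = f := by rw [hκx, hord]
  have hxf : x ^ f = 1 := by rw [hx, ← QuotientGroup.mk_pow, hβf]; rfl
  obtain ⟨n0, hn0N, hn01, hn0sq, hall, hcen⟩ :=
    Cfsg.Agent.Lib.Helper14_CyclicExt.exists_of_card_two (outHom S).ker hker
  have hcent : ∀ k ∈ (outHom S).ker, x * k = k * x := by
    intro k hk
    rcases hall k hk with rfl | rfl
    · rw [mul_one, one_mul]
    · exact hcen x
  have e : ↥(outHom S).ker ≃* Multiplicative (ZMod 2) :=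
    mulEquivOfPrimeCardEq (p := 2) hker
      (by rw [Nat.card_congr Multiplicative.toAdd, Nat.card_zmod])
  obtain ⟨E⟩ := Cfsg.Agent.Lib.Helper47_OUTPLUS_EQZ.equiv_Z (outHom S) x f hf hgen' hord' hcent hxf e
  rw [coe_qfPlus] at E
  exact ⟨E.trans (MulEquiv.prodMultiplicative _ _).symm⟩

theorem rho0_mul_self (hm1 : 1 ≤ m) : (rho0 (F := F) hm1) * rho0 hm1 = 1 := by
  apply Subtype.ext
  exact reflGO_mul_self (qfPlus m F) _ _

set_option maxHeartbeats 1600000 in
open Cfsg.Agent.Lib.Helper14_OrthMinusAut Cfsg.Agent.Lib.Helper14_OutExt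
  Cfsg.Agent.Lib.Helper14_OrthMinusOut3 Cfsg.Agent.Lib.Helper14_OmegaIndex
  Cfsg.Agent.Lib.Helper14_OrthPsiInv Cfsg.Agent.Lib.Helper14_GOChars in
/-- **`Out(PΩ⁺_{2m}(q))`, `q = p^f` odd, `m ≥ 5`.** -/
theorem out_plus_odd {p f : ℕ} [Fact p.Prime] (hf : 1 ≤ f) (hF : Fintype.card F = p ^ f)
    (hp : p ≠ 2) (hm : 5 ≤ m) :
    ((Odd m ∧ Fintype.card F % 4 = 3) →
      Nonempty (Out (POmega F (Cfsg.quadFormPlus m F)) ≃*
        Multiplicative (ZMod 2 × ZMod 2 × ZMod f))) ∧
    (¬ (Odd m ∧ Fintype.card F % 4 = 3) →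
      Nonempty (Out (POmega F (Cfsg.quadFormPlus m F)) ≃*
        DihedralGroup 4 × Multiplicative (ZMod f))) := by
  have hodd : Odd (Fintype.card F) := by
    rw [hF]
    exact ((Fact.out : p.Prime).eq_two_or_odd'.resolve_left hp).pow
  have h2 : (2 : F) ≠ 0 := two_ne_zero_of_odd hodd
  have S := setup_plus (F := F) hm
  have hm1 : 1 ≤ m := by omega
  have hne : ∃ v, qfPlus m F v ≠ 0 := ⟨_, nonsing_plus hm1⟩
  have hci : Fintype.card (Fin m ⊕ Fin m) = 2 * m := Cfsg.Agent.Lib.Helper44_OrthPlusMain.card_plus m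
  obtain ⟨φ, β, hord, hgen, hβφ, hβf, hβρ⟩ := exists_frob_plus hF hm
  have h23 := Cfsg.Agent.S2723.result hodd (m := m) (by omega)
  have h24 := Cfsg.Agent.S2724.result hodd (m := m) (by omega)
  rw [← coe_qfPlus] at h23 h24
  -- the generator
  obtain ⟨x, hx⟩ : ∃ x : Out (POmega F (⇑(qfPlus m F))), x = QuotientGroup.mk β := ⟨_, rfl⟩
  have hκx : outHom S x = φ := by rw [hx, outHom_mk, hβφ]
  have hgen' : ∀ c : RingAut F, ∃ k : ℕ, c = (outHom S x) ^ k := by
    intro c
    rw [hκx]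
    exact hgen c
  have hord' : orderOf (outHom S x) = f := by rw [hκx, hord]
  have hxf : x ^ f = 1 := by rw [hx, ← QuotientGroup.mk_pow, hβf]; rfl
  -- general facts
  have hIS : Inn (POmega F (⇑(qfPlus m F))) ≤ psoAut F (⇑(qfPlus m F)) := by
    rw [psoAut_eq_map, inn_eq_map]
    apply Subgroup.map_mono
    exact Abelianization.commutator_subset_ker _
  have hSP : psoAut F (⇑(qfPlus m F)) ≤ (Phi (⇑(qfPlus m F))).range := by
    rw [psoAut_eq]
    rintro _ ⟨g, -, rfl⟩
    exact ⟨g, rfl⟩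
  obtain ⟨T, hT⟩ : ∃ T : Subgroup (Out (POmega F (⇑(qfPlus m F)))),
      T = (psoAut F (⇑(qfPlus m F))).map
        (QuotientGroup.mk' (Inn (POmega F (⇑(qfPlus m F))))) := ⟨_, rfl⟩
  have hcommT : ∀ g : Out (POmega F (⇑(qfPlus m F))), ∀ k ∈ (outHom S).ker,
      g * k * g⁻¹ * k⁻¹ ∈ T := by
    intro g k hk
    induction g using QuotientGroup.induction_on with
    | H γ =>
      induction k using QuotientGroup.induction_on with
      | H π =>
        rw [mem_ker_outHom] at hk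
        obtain ⟨d, rfl⟩ := hk
        rw [hT]
        exact ⟨_, comm_mem_pso S h2 hne hci γ d, rfl⟩
  constructor
  · intro hX
    obtain ⟨φ24, hs24, hk24⟩ := h24.1 hX
    obtain ⟨e⟩ := iso_ker S φ24 hs24 hk24
    have hSI : psoAut F (⇑(qfPlus m F)) ≤ Inn (POmega F (⇑(qfPlus m F))) :=
      Subgroup.relIndex_eq_one.mp (h23.1 hX)
    have hTbot : ∀ t ∈ T, t = 1 := by
      rw [hT]
      rintro _ ⟨π, hπ, rfl⟩
      exact (QuotientGroup.eq_one_iff π).mpr (hSI hπ)
    have hcent : ∀ k ∈ (outHom S).ker, x * k = k * x := by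
      intro k hk
      have h1 := hTbot _ (hcommT x k hk)
      have h3 : x * k * x⁻¹ = k := by
        have := congrArg (· * k) h1
        simpa using this
      have := congrArg (· * x) h3
      simpa using this
    obtain ⟨E⟩ := Cfsg.Agent.Lib.Helper47_OUTPLUS_EQZ.equiv_Z (outHom S) x f hf hgen' hord' hcent
      hxf e
    rw [coe_qfPlus] at E
    exact ⟨(E.trans (MulEquiv.prodMultiplicative _ _).symm).trans
      (AddEquiv.toMultiplicative AddEquiv.prodAssoc)⟩
  · intro hY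
    obtain ⟨φ24, hs24, hk24⟩ := h24.2 hY
    obtain ⟨e⟩ := iso_ker S φ24 hs24 hk24
    have hT2 : Nat.card T = 2 := by
      rw [← Subgroup.relIndex_bot_left, hT]
      have hbot : (⊥ : Subgroup (Out (POmega F (⇑(qfPlus m F))))) =
          (Inn (POmega F (⇑(qfPlus m F)))).map
            (QuotientGroup.mk' (Inn (POmega F (⇑(qfPlus m F))))) := by
        rw [QuotientGroup.map_mk'_self]
      rw [hbot, Subgroup.relIndex_map_map, QuotientGroup.ker_mk', sup_idem,
        sup_eq_left.mpr hIS]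
      exact h23.2 hY
    have hTK : T ≤ (outHom S).ker := by
      rw [hT]
      rintro _ ⟨π, hπ, rfl⟩
      exact (mem_ker_outHom S π).mpr (hSP hπ)
    rcases Nat.even_or_odd f with hfe | hfo
    · -- `f` even: correct the lift by the reflection if necessary
      obtain ⟨r, hr⟩ : ∃ r : Out (POmega F (⇑(qfPlus m F))),
          r = QuotientGroup.mk (Phi (⇑(qfPlus m F)) (rho0 hm1)) := ⟨_, rfl⟩
      have hrK : r ∈ (outHom S).ker := by
        rw [hr]
        exact (mem_ker_outHom S _).mpr ⟨_, rfl⟩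
      have hrr : r * r = 1 := by
        rw [hr, ← QuotientGroup.mk_mul, ← map_mul, rho0_mul_self, map_one]
        rfl
      have hrT : r ∉ T := by
        rw [hr, hT]
        rintro ⟨π, hπ, hπr⟩
        have h1 : (QuotientGroup.mk π : Out (POmega F (⇑(qfPlus m F)))) =
            QuotientGroup.mk (Phi (⇑(qfPlus m F)) (rho0 hm1)) := hπr
        rw [QuotientGroup.eq] at h1
        have h3 : Phi (⇑(qfPlus m F)) (rho0 hm1) ∈ psoAut F (⇑(qfPlus m F)) := by
          have := Subgroup.mul_mem _ hπ (hIS h1)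
          rwa [mul_inv_cancel_left] at this
        have hQ := Cfsg.Agent.Lib.Helper14_POmegaSimple.nondegenerate_qfPlus (F := F) m
        have h4 := psi_of_Phi_mem_pso (qfPlus m F) h2 hQ S.hn hne hci _ h3
        have h5 := psi_refl h2 (qfPlus m F) hQ hne hci (v₀ hm1)
          (by rw [qfPlus_v₀]; exact one_ne_zero)
        have h6 : psi h2 (qfPlus m F) hQ hne hci (rho0 hm1) = (1, -1) := h5
        rw [h4] at h6
        have := congrArg Prod.snd h6
        revert this
        decide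
      have hxr : x * r = r * x := by
        rw [hx, hr, ← QuotientGroup.mk_mul, ← QuotientGroup.mk_mul, hβρ]
      obtain ⟨x', hκx', hx'f, hcent'⟩ :=
        Cfsg.Agent.Lib.Helper47_OUTPLUS_EQXE.exists_central_lift (outHom S) x f hfe hxf T hT2 hTK
          hcommT e r hrK hrr hrT hxr
      obtain ⟨E⟩ := Cfsg.Agent.Lib.Helper47_OUTPLUS_EQZ.equiv_Z (outHom S) x' f hf
        (by rw [hκx']; exact hgen') (by rw [hκx']; exact hord') hcent' hx'f e
      rw [coe_qfPlus] at E
      exact ⟨E⟩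
    · obtain ⟨E⟩ := equiv_X (outHom S) x f hfo hgen' hord' T hT2 hTK hcommT e
      rw [coe_qfPlus] at E
      exact ⟨E⟩

end plus

end Cfsg.Agent.Lib.Helper14_OrthPlusOut
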