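import Mathlib
import Cfsg.Agent.Lib.Helper14_OrthLocal1
import Cfsg.Agent.Lib.Helper97_OrthPB0

/-!
# Orthogonal groups: shared lemmas on the radical `R_e` (helper14)

* `eq_E_of_trivial` : an isometry fixing the singular vector `e` and acting trivially on
  `e^⊥ / e` is a Siegel element `E(e, w)`.
-/

set_option autoImplicit false
set_option linter.unusedSectionVars false
set_option linter.unusedVariables false

namespace Cfsg.Agent.Lib.Helper14_OrthShared

open Module Cfsg.Agent.Lib.Helper14_OmegaSimple Cfsg.Agent.Lib.Helper14_OrthAut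
  Cfsg.Agent.Lib.Helper94_OrthSmall Cfsg.Agent.Lib.Helper44_QuadClass
  Cfsg.Agent.Lib.Helper94_Symp Cfsg.Agent.Lib.Helper14_OrthLocal1

variable {F V : Type*} [Field F] [AddCommGroup V] [Module F V]
variable {Q : QuadraticForm F V}

set_option quotPrecheck false in
local notation "P" => QuadraticMap.polar (⇑Q)

/-- (SL1) An isometry fixing `e` and trivial on `e^⊥ / e` is a Siegel element `E(e, w)`. -/
theorem eq_E_of_trivial (hQ : (QuadraticMap.polarBilin Q).Nondegenerate) {e : V} (he0 : e ≠ 0)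
    (he : Q e = 0) {g : V ≃ₗ[F] V} (hg : g ∈ oG (⇑Q)) (hge : g e = e)
    (htriv : ∀ x, P e x = 0 → ∃ c : F, g x = x + c • e) :
    ∃ w, P e w = 0 ∧ g = E Q e w := by
  obtain ⟨f, hf, hef⟩ := exists_hyperbolic_partner Q hQ he0 he
  have h : HypPair Q e f := ⟨he, hf, hef⟩
  set d : V := g f - f with hd
  have hde : P d e = 0 := by
    have h1 := oG_polar Q hg f e
    rw [hge] at h1
    rw [hd, QuadraticMap.polar_sub_left, h1, sub_self]
  set w : V := d - P d f • e with hw
  have hwW : w ∈ Wp Q e f := by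
    have := h.comp_mem d
    rwa [hde, zero_smul, sub_zero] at this
  have hew : P e w = 0 := polar_e_of_mem h hwW
  have hdw : d = w + P d f • e := by rw [hw]; abel
  have hQd : Q d = Q w := by
    rw [hdw, QuadraticMap.map_add (⇑Q), QuadraticMap.map_smul, he, QuadraticMap.polar_smul_right,
      QuadraticMap.polar_comm (⇑Q) w e, hew]
    simp
  have hgf : g f = f + d := by rw [hd]; abel
  have hQgf : Q (g f) = 0 := by rw [hg f, hf]
  have hdf : P d f = - Q w := by
    rw [hgf, QuadraticMap.map_add (⇑Q), hf, hQd, QuadraticMap.polar_comm (⇑Q) f d] at hQgf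
    linear_combination hQgf
  refine ⟨w, hew, ?_⟩
  apply LinearEquiv.ext
  intro x
  rw [h.decomp x, map_add, map_add, map_add, map_add, map_smul, map_smul, map_smul, map_smul]
  have hx' := h.comp_mem x
  set x' : V := x - P x f • e - P x e • f with hx'def
  congr 1
  · congr 1
    · rw [hge, E_e h hwW]
    · rw [E_f h hwW, hgf, hdw, hdf]
      congr 1
      rw [neg_smul]
      abel
  · obtain ⟨c, hc⟩ := htriv x' (polar_e_of_mem h hx')
    rw [E_w h hwW hx', hc]
    have h1 : P (g f) (g x') = 0 := by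
      rw [oG_polar Q hg, polar_f_of_mem h hx']
    rw [hgf, hc, QuadraticMap.polar_add_left, QuadraticMap.polar_add_right,
      QuadraticMap.polar_add_right, polar_f_of_mem h hx', QuadraticMap.polar_smul_right,
      QuadraticMap.polar_smul_right, h.fe, hde, hdw, QuadraticMap.polar_add_left,
      QuadraticMap.polar_smul_left, polar_e_of_mem h hx'] at h1
    have hc' : c = - P x' w := by
      rw [QuadraticMap.polar_comm (⇑Q) x' w]
      simp only [smul_eq_mul, mul_one, mul_zero, add_zero, zero_add] at h1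
      linear_combination h1
    rw [hc', neg_smul]
    abel

/-- A vector orthogonal to `e^⊥` is a multiple of `e`. -/
theorem eq_smul_of_perp_perp (hQ : (QuadraticMap.polarBilin Q).Nondegenerate) {e f : V}
    (h : HypPair Q e f) {y : V} (hy : ∀ z, P e z = 0 → P y z = 0) : y = P y f • e := by
  have hye : P y e = 0 := hy e h.pee
  have hy' := h.comp_mem y
  rw [hye, zero_smul, sub_zero] at hy'
  set y' : V := y - P y f • e with hy'def
  suffices h0 : y' = 0 by
    rw [hy'def, sub_eq_zero] at h0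
    exact h0
  apply hQ.1
  intro x
  show P y' x = 0
  rw [h.decomp x, QuadraticMap.polar_add_right, QuadraticMap.polar_add_right,
    QuadraticMap.polar_smul_right, QuadraticMap.polar_smul_right, (mem_Wp.mp hy').1,
    (mem_Wp.mp hy').2]
  have hx' := h.comp_mem x
  set x' : V := x - P x f • e - P x e • f
  rw [hy'def, QuadraticMap.polar_sub_left, hy x' (polar_e_of_mem h hx'),
    QuadraticMap.polar_smul_left, polar_e_of_mem h hx']
  simp

/-- (SL1') Scaled form of `eq_E_of_trivial`. -/
theorem eq_smul_E_of_trivial (hQ : (QuadraticMap.polarBilin Q).Nondegenerate) {e : V}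
    (he0 : e ≠ 0) (he : Q e = 0) {g : V ≃ₗ[F] V} (hg : g ∈ oG (⇑Q)) {lam : F}
    (hlam : lam * lam = 1) (hge : g e = lam • e)
    (htriv : ∀ x, P e x = 0 → ∃ c : F, g x = lam • x + c • e) :
    ∃ w, P e w = 0 ∧ ∀ x, g x = lam • E Q e w x := by
  have hl0 : lam ≠ 0 := by
    rintro rfl
    simp at hlam
  set s : V ≃ₗ[F] V := LinearEquiv.smulOfNeZero F V lam hl0 with hs
  have hsx : ∀ x, s x = lam • x := fun x => rfl
  have hsO : s ∈ oG (⇑Q) := by
    intro x
    rw [hsx, QuadraticMap.map_smul, hlam, smul_eq_mul, one_mul]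
  have hsg : s * g ∈ oG (⇑Q) := Subgroup.mul_mem _ hsO hg
  obtain ⟨w, hw, hE⟩ := eq_E_of_trivial hQ he0 he hsg
    (by rw [LinearEquiv.mul_apply, hsx, hge, smul_smul, hlam, one_smul])
    (by
      intro x hx
      obtain ⟨c, hc⟩ := htriv x hx
      refine ⟨lam * c, ?_⟩
      rw [LinearEquiv.mul_apply, hsx, hc, smul_add, smul_smul, smul_smul, hlam, one_smul])
  refine ⟨w, hw, fun x => ?_⟩
  have := congrArg (fun k : V ≃ₗ[F] V => lam • k x) hE
  simp only [LinearEquiv.mul_apply, hsx, smul_smul, hlam, one_smul] at this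
  exact this

/-- (SL2) The centraliser of `R_e` in the isometry group is `± R_e`. -/
theorem cent_rad [FiniteDimensional F V] (hQ : (QuadraticMap.polarBilin Q).Nondegenerate)
    (hdim : 5 ≤ finrank F V) {e : V} (he0 : e ≠ 0) (he : Q e = 0) {g : V ≃ₗ[F] V}
    (hg : g ∈ oG (⇑Q)) (hcomm : ∀ z, P e z = 0 → g * E Q e z = E Q e z * g) :
    ∃ (lam : F) (w : V), lam * lam = 1 ∧ P e w = 0 ∧ ∀ x, g x = lam • E Q e w x := by
  obtain ⟨f, hf, hef⟩ := exists_hyperbolic_partner Q hQ he0 he
  have h : HypPair Q e f := ⟨he, hf, hef⟩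
  -- a nonzero vector of `W`
  obtain ⟨z0, hz0W, hz0⟩ : ∃ z0 ∈ Wp Q e f, z0 ≠ 0 := by
    have h1 := h.finrank_Wp
    have h2 : 0 < finrank F (Wp Q e f) := by omega
    obtain ⟨⟨z, hz⟩, hz0⟩ := (Module.finrank_pos_iff_exists_ne_zero).mp h2
    exact ⟨z, hz, fun h0 => hz0 (Subtype.ext h0)⟩
  -- commutation applied to a vector
  have hkey : ∀ z, P e z = 0 → ∀ x, g (E Q e z x) = E Q e z (g x) := by
    intro z hz x
    have := congrArg (fun k : V ≃ₗ[F] V => k x) (hcomm z hz)
    simpa only [LinearEquiv.mul_apply] using this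
  -- `g e ⊥ e^⊥`
  have h1 : ∀ z, P e z = 0 → P (g e) e • z = (P (g e) z + Q z * P (g e) e) • e := by
    intro z hz
    have h2 := hkey z hz e
    rw [E_apply Q he hz, E_apply Q he hz, h.pee, hz] at h2
    simp only [zero_smul, mul_zero, sub_zero, add_zero] at h2
    have h3 : P (g e) e • z - P (g e) z • e - (Q z * P (g e) e) • e = 0 := by
      have h4 : g e + (P (g e) e • z - P (g e) z • e - (Q z * P (g e) e) • e) = g e + 0 := by
        rw [add_zero, ← add_sub_assoc, ← add_sub_assoc]
        exact h2.symm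
      exact add_left_cancel h4
    rw [add_smul]
    rw [sub_sub, sub_eq_zero] at h3
    exact h3
  have hgee : P (g e) e = 0 := by
    have h2 := h1 z0 (polar_e_of_mem h hz0W)
    have h3 := congrArg (fun v => P v f) h2
    simp only [QuadraticMap.polar_smul_left, (mem_Wp.mp hz0W).2, hef, smul_eq_mul, mul_zero,
      mul_one] at h3
    rw [← h3, zero_smul] at h2
    rcases smul_eq_zero.mp h2 with h4 | h4
    · exact h4
    · exact absurd h4 hz0
  have hgez : ∀ z, P e z = 0 → P (g e) z = 0 := by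
    intro z hz
    have h2 := h1 z hz
    rw [hgee, zero_smul, mul_zero, add_zero] at h2
    rcases smul_eq_zero.mp h2.symm with h4 | h4
    · exact h4
    · exact absurd h4 he0
  have hge : g e = P (g e) f • e := eq_smul_of_perp_perp hQ h hgez
  set a : F := P (g e) f with ha
  have ha0 : a ≠ 0 := by
    intro h0
    rw [h0, zero_smul] at hge
    exact he0 (g.map_eq_zero_iff.mp hge)
  -- `g x ≡ a x` on `e^⊥`
  have hgx : ∀ x, P e x = 0 → g x = a • x + P (g x - a • x) f • e := by
    intro x hx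
    have hgxe : P (g x) e = 0 := by
      have h2 := oG_polar Q hg x e
      rw [hge, QuadraticMap.polar_smul_right, QuadraticMap.polar_comm (⇑Q) x e, hx,
        smul_eq_mul] at h2
      rcases mul_eq_zero.mp h2 with h3 | h3
      · exact absurd h3 ha0
      · exact h3
    have h2 : g x - a • x = P (g x - a • x) f • e := by
      apply eq_smul_of_perp_perp hQ h
      intro z hz
      have h3 := hkey z hz x
      rw [E_apply Q he hz, E_apply Q he hz, hgxe, QuadraticMap.polar_comm (⇑Q) x e, hx] at h3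
      simp only [zero_smul, mul_zero, sub_zero, add_zero] at h3
      rw [map_sub, map_smul, hge] at h3
      have h4 : (P x z * a - P (g x) z) • e = 0 := by
        rw [sub_smul, mul_smul, sub_right_inj.mp h3, sub_self]
      rcases smul_eq_zero.mp h4 with h5 | h5
      · rw [QuadraticMap.polar_sub_left, QuadraticMap.polar_smul_left, smul_eq_mul]
        linear_combination -h5
      · exact absurd h5 he0
    rw [← h2]
    abel
  -- `a ^ 2 = 1`
  have haa : a * a = 1 := by
    obtain ⟨x, hx⟩ : ∃ x, P z0 x ≠ 0 := by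
      by_contra hcon
      push Not at hcon
      exact hz0 (hQ.1 z0 hcon)
    have hx' := h.comp_mem x
    set x' : V := x - P x f • e - P x e • f with hx'def
    have hzx' : P z0 x' ≠ 0 := by
      rw [hx'def, QuadraticMap.polar_sub_right, QuadraticMap.polar_sub_right,
        QuadraticMap.polar_smul_right, QuadraticMap.polar_smul_right, (mem_Wp.mp hz0W).1,
        (mem_Wp.mp hz0W).2]
      simpa using hx
    have h2 := oG_polar Q hg z0 x'
    obtain ⟨c1, hc1⟩ : ∃ c : F, g z0 = a • z0 + c • e := ⟨_, hgx z0 (polar_e_of_mem h hz0W)⟩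
    obtain ⟨c2, hc2⟩ : ∃ c : F, g x' = a • x' + c • e := ⟨_, hgx x' (polar_e_of_mem h hx')⟩
    rw [hc1, hc2] at h2
    simp only [QuadraticMap.polar_add_left, QuadraticMap.polar_add_right,
      QuadraticMap.polar_smul_left, QuadraticMap.polar_smul_right, h.pee,
      polar_e_of_mem h hx', (mem_Wp.mp hz0W).1, smul_eq_mul, mul_zero, add_zero] at h2
    have h3 : (a * a - 1) * P z0 x' = 0 := by linear_combination h2
    rcases mul_eq_zero.mp h3 with h4 | h4
    · exact sub_eq_zero.mp h4
    · exact absurd h4 hzx'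
  obtain ⟨w, hw, hgw⟩ := eq_smul_E_of_trivial hQ he0 he hg haa hge
    (fun x hx => ⟨_, hgx x hx⟩)
  exact ⟨a, w, haa, hw, hgw⟩

/-- (SL2') In `𝔾 = T Q / Z`, the image of `R_e` is self-centralising. -/
theorem mem_radSet_of_comm [Finite F] [FiniteDimensional F V] {𝔾 : Type*} [Group 𝔾]
    (hQ : (QuadraticMap.polarBilin Q).Nondegenerate)
    (hdim : 5 ≤ finrank F V) (mk : ↥(T Q) →* 𝔾) (hsurj : Function.Surjective mk)
    (hker : mk.ker = Subgroup.center ↥(T Q)) {e : V} (he0 : e ≠ 0) (he : Q e = 0) {t : 𝔾}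
    (ht : ∀ r ∈ radSet mk e, t * r = r * t) : t ∈ radSet mk e := by
  have hk : KerScalar mk := kerScalar_of_ker hQ hdim hker
  obtain ⟨g, hgT, rfl⟩ := exists_mkT mk hsurj t
  have hgO := T_le_oG Q hgT
  obtain ⟨lam, w, hlam, hw, hgw⟩ := cent_rad hQ hdim he0 he hgO (fun z hz =>
    Cfsg.Agent.Lib.Helper97_OrthPB0.comm_of_mkT_comm Q hQ hdim mk hker hgT he hz
      (ht _ ⟨z, hz, rfl⟩))
  refine ⟨w, hw, ?_⟩
  rw [eq_comm, mkT_eq_iff hk (E_mem_T Q hQ hdim he hw) hgT]
  exact ⟨lam, hgw⟩

end Cfsg.Agent.Lib.Helper14_OrthShared
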