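import Mathlib
import Cfsg.Agent.Lib.Helper14_GraphFieldPSL
import Cfsg.Agent.Lib.Helper44_PSL2Aut
import Cfsg.Agent.Lib.Helper44_BalanceGen
import Cfsg.Agent.Lib.Helper14_BalAbs

/-!
# Local balance at a graph-type involution of `PSL_n(q)`, `q` odd: the abstract skeleton (helper14)

`core_of_R` : let `x` be an automorphism of `PSL_n(F)` and `R ≤ SL_n(F)` a subgroup whose image in
`PSL_n(F)` is fixed elementwise by `x`, normalised by every element of `SL_n(F)` whose class is fixed by
`x`, whose image in `Aut(PSL_n(F))` has the property `OddComm`, and such that the only semilinear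
bijection of `F^n` commuting up to scalars with all elements of `R` are the scalars.  Then
`O_{2'}(C_A(x)) = 1` for every group `A` of automorphisms containing the inner ones.
-/

set_option autoImplicit false
set_option linter.unusedSectionVars false
set_option linter.unusedVariables false

namespace Cfsg.Agent.Lib.Helper14_PSLBalCore

open Matrix Cfsg Cfsg.Agent.Lib.Helper14_PSLAut Cfsg.Agent.Lib.Helper14_PSLGraph
  Cfsg.Agent.Lib.Helper44_PSLnRoot Cfsg.Agent.Lib.Helper14_FieldAutPSL
  Cfsg.Agent.Lib.Helper14_BalAbs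

variable {n : ℕ} {F : Type*} [Field F]

local notation "SLn" => Matrix.SpecialLinearGroup (Fin n) F
local notation "PSLn" => Matrix.ProjectiveSpecialLinearGroup (Fin n) F
local notation "Mn" => Matrix (Fin n) (Fin n) F

/-- the inner automorphism of `PSL_n` attached to an element of `SL_n` -/
def innSL : SLn →* MulAut PSLn :=
  (MulAut.conj : PSLn →* MulAut PSLn).comp (QuotientGroup.mk' _)

theorem innSL_apply (s : SLn) : innSL s = MulAut.conj (QuotientGroup.mk s : PSLn) := rfl

/-- the subgroup `PΓL_n` of `Aut(PSL_n)` -/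
def PGam (n : ℕ) (F : Type*) [Field F] :
    Subgroup (MulAut (Matrix.ProjectiveSpecialLinearGroup (Fin n) F)) where
  carrier := {y | ∃ (h : GL (Fin n) F) (τ : F ≃+* F), y = conjAut h * fieldAut τ}
  one_mem' := ⟨1, 1, by rw [map_one, fieldAut_one, one_mul]⟩
  mul_mem' := by
    rintro _ _ ⟨h, τ, rfl⟩ ⟨h', τ', rfl⟩
    refine ⟨h * glMap τ h', τ * τ', ?_⟩
    rw [map_mul, fieldAut_mul]
    calc conjAut h * fieldAut τ * (conjAut h' * fieldAut τ')
        = conjAut h * (fieldAut τ * conjAut h') * fieldAut τ' := by group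
      _ = conjAut h * conjAut (glMap τ h') * (fieldAut τ * fieldAut τ') := by
          rw [fieldAut_mul_conjAut]; group
  inv_mem' := by
    rintro _ ⟨h, τ, rfl⟩
    refine ⟨glMap τ⁻¹ h⁻¹, τ⁻¹, ?_⟩
    rw [← fieldAut_mul_conjAut, _root_.mul_inv_rev, map_inv]
    congr 1

theorem mem_PGam (y : MulAut PSLn) :
    y ∈ PGam n F ↔ ∃ (h : GL (Fin n) F) (τ : F ≃+* F), y = conjAut h * fieldAut τ := Iff.rfl

theorem conjAut_mem_PGam (h : GL (Fin n) F) : conjAut h ∈ PGam n F :=
  ⟨h, 1, by rw [fieldAut_one, mul_one]⟩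

theorem fieldAut_mem_PGam (τ : F ≃+* F) : (fieldAut τ : MulAut PSLn) ∈ PGam n F :=
  ⟨1, τ, by rw [map_one, one_mul]⟩

/-- conjugation by `itAut` preserves `PΓL` -/
theorem itAut_conj_mem_PGam {a : MulAut PSLn} (ha : a ∈ PGam n F) : itAut * a * itAut ∈ PGam n F := by
  obtain ⟨h, τ, rfl⟩ := ha
  have h1 : itAut * (conjAut h * fieldAut τ) * itAut = conjAut (glT h)⁻¹ * fieldAut τ := by
    calc itAut * (conjAut h * fieldAut τ) * itAut
        = (itAut * conjAut h) * (fieldAut τ * itAut) := by group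
      _ = conjAut (glT h)⁻¹ * itAut * (itAut * fieldAut τ) := by
          rw [itAut_mul_conjAut, itAut_mul_fieldAut]
      _ = conjAut (glT h)⁻¹ * (itAut * itAut) * fieldAut τ := by group
      _ = conjAut (glT h)⁻¹ * fieldAut τ := by rw [itAut_mul_self, mul_one]
  rw [h1]
  exact ⟨_, _, rfl⟩

/-- an element of `SL_n` inducing the trivial inner automorphism is central -/
theorem mk_eq_one_of_conj_eq_one (u : SLn)
    (h : MulAut.conj (QuotientGroup.mk u : PSLn) = 1) : (QuotientGroup.mk u : PSLn) = 1 := by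
  rw [Cfsg.Agent.Lib.Helper44_PSL2Aut.conj_mk_eq, conjAut_eq_one_iff, Cfsg.Geo.mem_scalars_iff] at h
  obtain ⟨c, hc⟩ := h
  rw [QuotientGroup.eq_one_iff, Matrix.SpecialLinearGroup.mem_center_iff]
  have hu : (u : Mn) = (c : F) • (1 : Mn) := hc
  refine ⟨(c : F), ?_, ?_⟩
  · have hdet := u.2
    rw [hu, Matrix.det_smul, Matrix.det_one, mul_one] at hdet
    exact hdet
  · rw [hu, Matrix.scalar_apply, ← Matrix.smul_one_eq_diagonal]

theorem conj_injective_PSL : Function.Injective (MulAut.conj : PSLn →* MulAut PSLn) := by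
  rw [injective_iff_map_eq_one]
  intro k hk
  induction k using QuotientGroup.induction_on with
  | H u => exact mk_eq_one_of_conj_eq_one u hk

/-- no normal subgroup of odd order: the statement about `pPrimeCore 2` -/
theorem oddCore_bot {G : Type*} [Group G] (B : Subgroup G)
    (h : ∀ N : Subgroup G, N ≤ B → (∀ c ∈ B, ∀ n ∈ N, c * n * c⁻¹ ∈ N) → Odd (Nat.card N) →
      N = ⊥) : pPrimeCore 2 ↥B = ⊥ := by
  by_contra hcon
  rw [← Ne, Cfsg.Agent.Lib.Helper44_BalanceGen.pPrimeCore_ne_bot_iff] at hcon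
  obtain ⟨N, hNn, hcop, hN⟩ := hcon
  apply hN
  have h1 := h (N.map B.subtype) (Subgroup.map_subtype_le N) (by
    rintro c hc _ ⟨n, hn, rfl⟩
    exact ⟨⟨c, hc⟩ * n * ⟨c, hc⟩⁻¹, hNn.conj_mem n hn ⟨c, hc⟩, rfl⟩) (by
    rw [Subgroup.card_map_of_injective (Subgroup.subtype_injective _)]
    exact Nat.Coprime.odd_of_right hcop)
  rwa [Subgroup.map_eq_bot_iff_of_injective _ (Subgroup.subtype_injective _)] at h1

/-- an automorphism fixing the class of `r` commutes with the inner automorphism of `r` -/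
theorem comm_innSL_of_fix (y : MulAut PSLn) (r : SLn)
    (h : y (QuotientGroup.mk r) = QuotientGroup.mk r) : y * innSL r = innSL r * y := by
  rw [innSL_apply, Cfsg.Agent.Lib.Helper44_BalanceGen.conj_comm_aut', h]

theorem fix_of_comm_innSL (y : MulAut PSLn) (r : SLn) (h : y * innSL r = innSL r * y) :
    y (QuotientGroup.mk r) = QuotientGroup.mk r := by
  rw [innSL_apply, Cfsg.Agent.Lib.Helper44_BalanceGen.conj_comm_aut', mul_left_inj] at h
  exact conj_injective_PSL h

section finite

variable [Fintype F] {p f : ℕ} [hp : Fact p.Prime] (hF : Fintype.card F = p ^ f)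
include hF

/-- the square of every automorphism lies in `PΓL` -/
theorem sq_mem_PGam (hn : 2 ≤ n) (y : MulAut PSLn) : y * y ∈ PGam n F := by
  obtain ⟨g, σ, ε, rfl⟩ := Cfsg.Agent.Lib.Helper44_PSL2Aut.aut_PSL hF hn y
  have ha : conjAut g * fieldAut σ ∈ PGam n F := ⟨g, σ, rfl⟩
  cases ε
  · simp only [Bool.false_eq_true, if_false, mul_one]
    exact (PGam n F).mul_mem ha ha
  · simp only [if_true]
    have h1 : conjAut g * fieldAut σ * itAut * (conjAut g * fieldAut σ * itAut)
        = (conjAut g * fieldAut σ) * (itAut * (conjAut g * fieldAut σ) * itAut) := by group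
    rw [h1]
    exact (PGam n F).mul_mem ha (itAut_conj_mem_PGam ha)

/-- an automorphism of odd order lies in `PΓL` -/
theorem mem_PGam_of_odd (hn : 2 ≤ n) (y : MulAut PSLn) {k : ℕ} (hk : Odd k) (hy : y ^ k = 1) :
    y ∈ PGam n F := by
  rw [Cfsg.Agent.Lib.Helper44_BalanceGen.sq_pow_of_odd y hk hy]
  exact (PGam n F).pow_mem (sq_mem_PGam hF hn y) _

/-- **The abstract skeleton of local balance at a graph-type involution of `PSL_n(q)`.** -/
theorem core_of_R (hn : 3 ≤ n) (x : MulAut PSLn) (R : Subgroup SLn)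
    (hfix : ∀ r ∈ R, x (QuotientGroup.mk r) = QuotientGroup.mk r)
    (hnorm : ∀ s : SLn, x (QuotientGroup.mk s) = QuotientGroup.mk s → ∀ r ∈ R, s * r * s⁻¹ ∈ R)
    (hOC : OddComm (R.map innSL))
    (hkey : ∀ (τ : F ≃+* F) (hh : (Fin n → F) → (Fin n → F)),
      (∀ v w, hh (v + w) = hh v + hh w) → (∀ (a : F) v, hh (a • v) = τ a • hh v) →
      Function.Bijective hh →
      (∀ r ∈ R, ∃ c : F, ∀ v, hh ((r : Mn) *ᵥ v) = c • ((r : Mn) *ᵥ hh v)) →
      τ = RingEquiv.refl F ∧ ∃ a : F, ∀ v, hh v = a • v)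
    (A : Subgroup (MulAut PSLn)) (hinn : ∀ k : PSLn, MulAut.conj k ∈ A) :
    pPrimeCore 2 ↥(A ⊓ Subgroup.centralizer {x}) = ⊥ := by
  apply oddCore_bot
  intro N hNle hNnorm hNodd
  have hfinN : Finite N := Nat.finite_of_card_ne_zero (by
    intro h; rw [h] at hNodd; exact absurd hNodd (by decide))
  obtain ⟨I₀, hI₀⟩ : ∃ I₀ : Subgroup (MulAut PSLn),
      I₀ = (MulAut.conj : PSLn →* MulAut PSLn).range ⊓ Subgroup.centralizer {x} := ⟨_, rfl⟩
  obtain ⟨H, hH⟩ : ∃ H : Subgroup (MulAut PSLn), H = R.map innSL := ⟨_, rfl⟩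
  have hHI : H ≤ I₀ := by
    rw [hH, hI₀]
    rintro _ ⟨r, hr, rfl⟩
    refine Subgroup.mem_inf.mpr ⟨⟨_, rfl⟩, ?_⟩
    rw [Subgroup.mem_centralizer_singleton_iff]
    exact (comm_innSL_of_fix x r (hfix r hr)).symm
  have hI₀A : I₀ ≤ A ⊓ Subgroup.centralizer {x} := by
    rw [hI₀]
    intro c hc
    obtain ⟨⟨k, rfl⟩, hc2⟩ := Subgroup.mem_inf.mp hc
    exact Subgroup.mem_inf.mpr ⟨hinn k, hc2⟩
  apply core_trivial I₀ H N (fun _ : Unit => H) (fun _ => le_refl H) hHI
  · -- `I₀` normalises `H`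
    intro c hc h hh
    rw [hI₀] at hc
    obtain ⟨⟨k, rfl⟩, hc2⟩ := Subgroup.mem_inf.mp hc
    induction k using QuotientGroup.induction_on with
    | H s =>
      rw [hH] at hh ⊢
      obtain ⟨r, hr, rfl⟩ := hh
      rw [Subgroup.mem_centralizer_singleton_iff] at hc2
      have hs : x (QuotientGroup.mk s) = QuotientGroup.mk s :=
        fix_of_comm_innSL x s hc2.symm
      refine ⟨s * r * s⁻¹, hnorm s hs r hr, ?_⟩
      rw [map_mul, map_mul, map_inv]
      rfl
  · intro _ h hh r hr
    exact H.mul_mem (H.mul_mem hh hr) (H.inv_mem hh)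
  · -- `N` normalises `I₀`
    intro m hm c hc
    rw [hI₀] at hc ⊢
    obtain ⟨⟨k, rfl⟩, hc2⟩ := Subgroup.mem_inf.mp hc
    refine Subgroup.mem_inf.mpr ⟨⟨m k, ?_⟩, ?_⟩
    · show MulAut.conj (m k) = _
      rw [Cfsg.Agent.Lib.Helper44_BalanceGen.conj_comm_aut' m k, mul_inv_cancel_right]
    · have hm2 := (Subgroup.mem_inf.mp (hNle hm)).2
      exact Subgroup.mul_mem _ (Subgroup.mul_mem _ hm2 hc2) (Subgroup.inv_mem _ hm2)
  · intro c hc m hm
    exact hNnorm c (hI₀A hc) m hm
  · exact hNodd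
  · intro _
    rw [hH]
    exact hOC
  · -- the key step
    intro y hy hcomm
    have hyk : y ^ Nat.card N = 1 := by
      have h1 : (⟨y, hy⟩ : N) ^ Nat.card N = 1 := pow_card_eq_one'
      have h2 := congrArg (fun z : N => (z : MulAut PSLn)) h1
      exact h2
    obtain ⟨h, τ, rfl⟩ := mem_PGam_of_odd hF (by omega) y hNodd hyk
    have hhi : ((h⁻¹ : GL (Fin n) F) : Mn) * (h : Mn) = 1 := by
      rw [← Units.val_mul, inv_mul_cancel, Units.val_one]
    have hhi' : (h : Mn) * ((h⁻¹ : GL (Fin n) F) : Mn) = 1 := by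
      rw [← Units.val_mul, mul_inv_cancel, Units.val_one]
    obtain ⟨hh, hhdef⟩ : ∃ hh : (Fin n → F) → (Fin n → F),
        hh = fun v => (h : Mn) *ᵥ (fun i => τ (v i)) := ⟨_, rfl⟩
    have hmap : ∀ (X : Mn) (v : Fin n → F), (fun i => τ ((X *ᵥ v) i)) =
        X.map τ *ᵥ (fun i => τ (v i)) := by
      intro X v
      ext i
      simp only [Matrix.mulVec, dotProduct, map_sum, map_mul, Matrix.map_apply]
    have hres := hkey τ hh
      (by
        intro v w
        rw [hhdef]
        show (h : Mn) *ᵥ (fun i => τ ((v + w) i)) = _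
        rw [← Matrix.mulVec_add]
        congr 1
        ext i
        simp only [Pi.add_apply, map_add])
      (by
        intro a v
        rw [hhdef]
        show (h : Mn) *ᵥ (fun i => τ ((a • v) i)) = τ a • ((h : Mn) *ᵥ (fun i => τ (v i)))
        rw [← Matrix.mulVec_smul]
        congr 1
        ext i
        simp only [Pi.smul_apply, smul_eq_mul, map_mul])
      (by
        rw [hhdef]
        constructor
        · intro v w hvw
          have h1 := congrArg (fun z => ((h⁻¹ : GL (Fin n) F) : Mn) *ᵥ z) hvw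
          simp only [Matrix.mulVec_mulVec, hhi, Matrix.one_mulVec] at h1
          ext i
          exact τ.injective (congrFun h1 i)
        · intro w
          refine ⟨fun i => τ.symm ((((h⁻¹ : GL (Fin n) F) : Mn) *ᵥ w) i), ?_⟩
          simp only [RingEquiv.apply_symm_apply]
          rw [Matrix.mulVec_mulVec, hhi', Matrix.one_mulVec])
      (by
        intro r hr
        have hfr : (conjAut h * fieldAut τ : MulAut PSLn) (QuotientGroup.mk r) = QuotientGroup.mk r :=
          fix_of_comm_innSL _ r (hcomm () (innSL r) (by rw [hH]; exact ⟨r, hr, rfl⟩))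
        rw [MulAut.mul_apply, fieldAut_mk, conjAut_mk] at hfr
        obtain ⟨c, hc⟩ := exists_smul_of_mk_eq _ _ hfr.symm
        rw [slConj_coe, fieldSL_coe] at hc
        refine ⟨c, ?_⟩
        intro v
        rw [hhdef]
        show (h : Mn) *ᵥ (fun i => τ (((r : Mn) *ᵥ v) i)) = _
        rw [hmap, Matrix.mulVec_mulVec, Matrix.mulVec_mulVec, ← Matrix.smul_mulVec]
        congr 1
        have h2 := congrArg (fun X => X * (h : Mn)) hc
        simp only [Matrix.mul_assoc, hhi, Matrix.mul_one, Matrix.smul_mul] at h2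
        exact h2)
    obtain ⟨hτ, a, ha⟩ := hres
    have hscal : (h : Mn) = a • (1 : Mn) := by
      apply Matrix.toLin'.injective
      apply LinearMap.ext
      intro v
      have := ha v
      rw [hhdef, hτ] at this
      simp only [RingEquiv.refl_apply] at this
      rw [Matrix.toLin'_apply, this, Matrix.toLin'_apply, Matrix.smul_mulVec, Matrix.one_mulVec]
    have ha0 : a ≠ 0 := by
      rintro rfl
      rw [zero_smul] at hscal
      rw [hscal, Matrix.mul_zero] at hhi
      have := congrFun (congrFun hhi ⟨0, by omega⟩) ⟨0, by omega⟩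
      simp at this
    have hsc : h ∈ Cfsg.Geo.scalars (Fin n) F :=
      (Cfsg.Geo.mem_scalars_iff h).mpr ⟨Units.mk0 a ha0, hscal⟩
    rw [conjAut_eq_one_of_mem_scalars h hsc, one_mul, hτ]
    exact fieldAut_one

end finite

end Cfsg.Agent.Lib.Helper14_PSLBalCore
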