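import Mathlib
import Cfsg.Agent.Lib.Helper14_BalDefs
import Cfsg.Agent.Lib.Helper14_PSLBalCore

/-!
# Definitions for the local balance argument at a graph-type involution of `PSL_n(q)` (helper14)

* `SemiBij τ hh` : `hh : V → V` is a bijective `τ`-semilinear map;
* `QM M`  : the quadratic form `v ↦ vᵀ M v` on `Fin n → F`;
* `RO M`  : the subgroup of `SL_n(F)` of all elements acting on `Fin n → F` as an element of
  `TE (QM M)` (the group generated by the Eichler–Siegel transformations, `= Ω(QM M)`);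
* `RS M`  : the subgroup of `SL_n(F)` of all `s` with `sᵀ M s = M`.
-/

set_option autoImplicit false

namespace Cfsg.Agent.Lib.Helper14_PSLBalDefs

open Matrix Cfsg Cfsg.Agent.Lib.Helper14_BalDefs

/-- `hh` is a bijective `τ`-semilinear map -/
structure SemiBij {F V : Type*} [Field F] [AddCommGroup V] [Module F V] (τ : F ≃+* F)
    (hh : V → V) : Prop where
  add : ∀ v w : V, hh (v + w) = hh v + hh w
  smul : ∀ (a : F) (v : V), hh (a • v) = τ a • hh v
  bij : Function.Bijective hh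

variable {n : ℕ} {F : Type*} [Field F]

/-- the quadratic form `v ↦ vᵀ M v` -/
def QM (M : Matrix (Fin n) (Fin n) F) : QuadraticForm F (Fin n → F) := Matrix.toQuadraticForm' M

theorem QM_apply (M : Matrix (Fin n) (Fin n) F) (v : Fin n → F) : QM M v = v ⬝ᵥ M *ᵥ v := by
  simp only [QM, Matrix.toQuadraticForm', LinearMap.BilinMap.toQuadraticMap_apply,
    Matrix.toLinearMap₂'_apply']

/-- the elements of `SL_n(F)` acting as an element of the group generated by the Eichler–Siegel
transformations of the quadratic form `QM M` -/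
def RO (M : Matrix (Fin n) (Fin n) F) : Subgroup (Matrix.SpecialLinearGroup (Fin n) F) :=
  (TE (QM M)).comap Matrix.SpecialLinearGroup.toLin'

theorem mem_RO (M : Matrix (Fin n) (Fin n) F) (s : Matrix.SpecialLinearGroup (Fin n) F) :
    s ∈ RO M ↔ Matrix.SpecialLinearGroup.toLin' s ∈ TE (QM M) := Iff.rfl

/-- the elements of `SL_n(F)` preserving the bilinear form with Gram matrix `M` -/
def RS (M : Matrix (Fin n) (Fin n) F) : Subgroup (Matrix.SpecialLinearGroup (Fin n) F) where
  carrier := {s | (s : Matrix (Fin n) (Fin n) F)ᵀ * M * (s : Matrix (Fin n) (Fin n) F) = M}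
  one_mem' := by
    show ((1 : Matrix.SpecialLinearGroup (Fin n) F) : Matrix (Fin n) (Fin n) F)ᵀ * M *
      ((1 : Matrix.SpecialLinearGroup (Fin n) F) : Matrix (Fin n) (Fin n) F) = M
    rw [Matrix.SpecialLinearGroup.coe_one, Matrix.transpose_one, Matrix.one_mul, Matrix.mul_one]
  mul_mem' := by
    intro s t hs ht
    show ((s * t : Matrix.SpecialLinearGroup (Fin n) F) : Matrix (Fin n) (Fin n) F)ᵀ * M *
      ((s * t : Matrix.SpecialLinearGroup (Fin n) F) : Matrix (Fin n) (Fin n) F) = M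
    have hs' : (s : Matrix (Fin n) (Fin n) F)ᵀ * M * (s : Matrix (Fin n) (Fin n) F) = M := hs
    have ht' : (t : Matrix (Fin n) (Fin n) F)ᵀ * M * (t : Matrix (Fin n) (Fin n) F) = M := ht
    rw [Matrix.SpecialLinearGroup.coe_mul, Matrix.transpose_mul]
    calc (t : Matrix (Fin n) (Fin n) F)ᵀ * (s : Matrix (Fin n) (Fin n) F)ᵀ * M *
          ((s : Matrix (Fin n) (Fin n) F) * (t : Matrix (Fin n) (Fin n) F))
        = (t : Matrix (Fin n) (Fin n) F)ᵀ * ((s : Matrix (Fin n) (Fin n) F)ᵀ * M *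
          (s : Matrix (Fin n) (Fin n) F)) * (t : Matrix (Fin n) (Fin n) F) := by
          simp only [Matrix.mul_assoc]
      _ = M := by rw [hs', ht']
  inv_mem' := by
    intro s hs
    show ((s⁻¹ : Matrix.SpecialLinearGroup (Fin n) F) : Matrix (Fin n) (Fin n) F)ᵀ * M *
      ((s⁻¹ : Matrix.SpecialLinearGroup (Fin n) F) : Matrix (Fin n) (Fin n) F) = M
    have hs' : (s : Matrix (Fin n) (Fin n) F)ᵀ * M * (s : Matrix (Fin n) (Fin n) F) = M := hs
    have h1 : (s : Matrix (Fin n) (Fin n) F) *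
        ((s⁻¹ : Matrix.SpecialLinearGroup (Fin n) F) : Matrix (Fin n) (Fin n) F) = 1 := by
      rw [← Matrix.SpecialLinearGroup.coe_mul, mul_inv_cancel, Matrix.SpecialLinearGroup.coe_one]
    have h2 : ((s⁻¹ : Matrix.SpecialLinearGroup (Fin n) F) : Matrix (Fin n) (Fin n) F)ᵀ *
        (s : Matrix (Fin n) (Fin n) F)ᵀ = 1 := by
      rw [← Matrix.transpose_mul, h1, Matrix.transpose_one]
    calc ((s⁻¹ : Matrix.SpecialLinearGroup (Fin n) F) : Matrix (Fin n) (Fin n) F)ᵀ * M *
          ((s⁻¹ : Matrix.SpecialLinearGroup (Fin n) F) : Matrix (Fin n) (Fin n) F)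
        = ((s⁻¹ : Matrix.SpecialLinearGroup (Fin n) F) : Matrix (Fin n) (Fin n) F)ᵀ *
          ((s : Matrix (Fin n) (Fin n) F)ᵀ * M * (s : Matrix (Fin n) (Fin n) F)) *
          ((s⁻¹ : Matrix.SpecialLinearGroup (Fin n) F) : Matrix (Fin n) (Fin n) F) := by rw [hs']
      _ = (((s⁻¹ : Matrix.SpecialLinearGroup (Fin n) F) : Matrix (Fin n) (Fin n) F)ᵀ *
          (s : Matrix (Fin n) (Fin n) F)ᵀ) * M * ((s : Matrix (Fin n) (Fin n) F) *
          ((s⁻¹ : Matrix.SpecialLinearGroup (Fin n) F) : Matrix (Fin n) (Fin n) F)) := by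
          simp only [Matrix.mul_assoc]
      _ = M := by rw [h1, h2, Matrix.one_mul, Matrix.mul_one]

theorem mem_RS (M : Matrix (Fin n) (Fin n) F) (s : Matrix.SpecialLinearGroup (Fin n) F) :
    s ∈ RS M ↔ (s : Matrix (Fin n) (Fin n) F)ᵀ * M * (s : Matrix (Fin n) (Fin n) F) = M := Iff.rfl

end Cfsg.Agent.Lib.Helper14_PSLBalDefs
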