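import Mathlib
import Cfsg.Agent.Lib.Helper14_PSLBalDefs

/-!
# Fixed points of graph-type automorphisms of `PSL_n(F)` in matrix terms (helper14)

* `gam M` (`s ↦ M⁻¹ s⁻ᵀ M`): the class of `s` is fixed if `sᵀ M s = M`, and only if `sᵀ M s = c • M`;
* `gfAut σ` (`s ↦ σ(s)⁻ᵀ`): the class of `s` is fixed if `sᵀ σ(s) = 1`, and only if `sᵀ σ(s) = c • 1`.
-/

set_option autoImplicit false
set_option linter.unusedSectionVars false
set_option linter.unusedVariables false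

namespace Cfsg.Agent.Lib.Helper14_PSLBalFix

open Matrix Cfsg Cfsg.Agent.Lib.Helper14_PSLAut Cfsg.Agent.Lib.Helper14_PSLGraph
  Cfsg.Agent.Lib.Helper44_PSLnRoot Cfsg.Agent.Lib.Helper14_FieldAutPSL
  Cfsg.Agent.Lib.Helper14_PSLBalCore Cfsg.Agent.Lib.Helper14_PSLBalDefs

variable {n : ℕ} {F : Type*} [Field F]

local notation "SLn" => Matrix.SpecialLinearGroup (Fin n) F
local notation "PSLn" => Matrix.ProjectiveSpecialLinearGroup (Fin n) F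
local notation "Mn" => Matrix (Fin n) (Fin n) F

theorem sl_mul_inv (s : SLn) : (s : Mn) * ((s⁻¹ : SLn) : Mn) = 1 := by
  rw [← Matrix.SpecialLinearGroup.coe_mul, mul_inv_cancel, Matrix.SpecialLinearGroup.coe_one]

theorem sl_inv_mul (s : SLn) : ((s⁻¹ : SLn) : Mn) * (s : Mn) = 1 := by
  rw [← Matrix.SpecialLinearGroup.coe_mul, inv_mul_cancel, Matrix.SpecialLinearGroup.coe_one]

theorem gl_mul_inv (M : GL (Fin n) F) : (M : Mn) * ((M⁻¹ : GL (Fin n) F) : Mn) = 1 := by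
  rw [← Units.val_mul, mul_inv_cancel, Units.val_one]

theorem gl_inv_mul (M : GL (Fin n) F) : ((M⁻¹ : GL (Fin n) F) : Mn) * (M : Mn) = 1 := by
  rw [← Units.val_mul, inv_mul_cancel, Units.val_one]

/-- the matrix of `gam M` applied to `s` -/
theorem gam_mk (M : GL (Fin n) F) (s : SLn) :
    gam M (QuotientGroup.mk s : PSLn) = QuotientGroup.mk (slConj M⁻¹ (slIT s)) := rfl

theorem gam_coe (M : GL (Fin n) F) (s : SLn) :
    ((slConj M⁻¹ (slIT s) : SLn) : Mn) =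
      ((M⁻¹ : GL (Fin n) F) : Mn) * ((s⁻¹ : SLn) : Mn)ᵀ * (M : Mn) := by
  rw [slConj_coe, slIT_coe, inv_inv]

/-- an isometry of the form `M` is fixed by `gam M` -/
theorem gam_fix_of_isom (M : GL (Fin n) F) (s : SLn)
    (h : (s : Mn)ᵀ * (M : Mn) * (s : Mn) = (M : Mn)) :
    gam M (QuotientGroup.mk s : PSLn) = QuotientGroup.mk s := by
  rw [gam_mk]
  congr 1
  apply Subtype.ext
  rw [gam_coe]
  -- `M⁻¹ s⁻ᵀ M = s`
  have h1 : ((s⁻¹ : SLn) : Mn)ᵀ * (s : Mn)ᵀ = 1 := by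
    rw [← Matrix.transpose_mul, sl_mul_inv, Matrix.transpose_one]
  have h2 : ((s⁻¹ : SLn) : Mn)ᵀ * (M : Mn) = (M : Mn) * (s : Mn) := by
    calc ((s⁻¹ : SLn) : Mn)ᵀ * (M : Mn)
        = ((s⁻¹ : SLn) : Mn)ᵀ * ((s : Mn)ᵀ * (M : Mn) * (s : Mn)) := by rw [h]
      _ = (((s⁻¹ : SLn) : Mn)ᵀ * (s : Mn)ᵀ) * (M : Mn) * (s : Mn) := by
          simp only [Matrix.mul_assoc]
      _ = (M : Mn) * (s : Mn) := by rw [h1, Matrix.one_mul]
  rw [Matrix.mul_assoc, h2, ← Matrix.mul_assoc, gl_inv_mul, Matrix.one_mul]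

/-- an element whose class is fixed by `gam M` is a similitude of the form `M` -/
theorem sim_of_gam_fix (hn : 0 < n) (M : GL (Fin n) F) (s : SLn)
    (h : gam M (QuotientGroup.mk s : PSLn) = QuotientGroup.mk s) :
    ∃ c : F, c ≠ 0 ∧ (s : Mn)ᵀ * (M : Mn) * (s : Mn) = c • (M : Mn) := by
  have : Nonempty (Fin n) := ⟨⟨0, hn⟩⟩
  rw [gam_mk] at h
  obtain ⟨c, hc⟩ := exists_smul_of_mk_eq _ _ h
  rw [gam_coe] at hc
  -- `s = c • M⁻¹ s⁻ᵀ M`, so `sᵀ M s = c • M`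
  have h1 : (s : Mn)ᵀ * ((s⁻¹ : SLn) : Mn)ᵀ = 1 := by
    rw [← Matrix.transpose_mul, sl_inv_mul, Matrix.transpose_one]
  have h2 : (s : Mn)ᵀ * (M : Mn) * (s : Mn) = c • (M : Mn) := by
    have h3 : (s : Mn)ᵀ * (M : Mn) * (s : Mn) = (s : Mn)ᵀ * (M : Mn) *
        (c • (((M⁻¹ : GL (Fin n) F) : Mn) * ((s⁻¹ : SLn) : Mn)ᵀ * (M : Mn))) :=
      congrArg (fun X : Mn => (s : Mn)ᵀ * (M : Mn) * X) hc
    rw [h3, Matrix.mul_smul]
    congr 1
    calc (s : Mn)ᵀ * (M : Mn) * (((M⁻¹ : GL (Fin n) F) : Mn) * ((s⁻¹ : SLn) : Mn)ᵀ * (M : Mn))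
        = (s : Mn)ᵀ * ((M : Mn) * ((M⁻¹ : GL (Fin n) F) : Mn)) * ((s⁻¹ : SLn) : Mn)ᵀ * (M : Mn) := by
          simp only [Matrix.mul_assoc]
      _ = (M : Mn) := by rw [gl_mul_inv, Matrix.mul_one, h1, Matrix.one_mul]
  refine ⟨c, ?_, h2⟩
  rintro rfl
  rw [zero_smul] at hc
  have hdet := s.2
  rw [hc, Matrix.det_zero] at hdet
  exact zero_ne_one hdet

/-- the matrix of `gfAut σ` applied to `s` -/
theorem gfAut_mk (σ : F ≃+* F) (s : SLn) :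
    gfAut σ (QuotientGroup.mk s : PSLn) = QuotientGroup.mk (fieldSL σ (slIT s)) := rfl

theorem gfAut_coe (σ : F ≃+* F) (s : SLn) :
    ((fieldSL σ (slIT s) : SLn) : Mn) = (((s⁻¹ : SLn) : Mn)ᵀ).map σ := by
  rw [fieldSL_coe]
  rfl

theorem map_one' (σ : F ≃+* F) : (1 : Mn).map σ = 1 :=
  Matrix.map_one _ (map_zero σ) (map_one σ)

theorem map_mul' (σ : F ≃+* F) (A B : Mn) : (A * B).map σ = A.map σ * B.map σ :=
  Matrix.map_mul (f := (σ : F →+* F))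

/-- a unitary matrix is fixed by `gfAut σ`, `σ` an involution -/
theorem gfAut_fix_of_unitary (σ : F ≃+* F) (hσσ : ∀ a, σ (σ a) = a) (s : SLn)
    (h : (s : Mn)ᵀ * (s : Mn).map σ = 1) :
    gfAut σ (QuotientGroup.mk s : PSLn) = QuotientGroup.mk s := by
  rw [gfAut_mk]
  congr 1
  apply Subtype.ext
  rw [gfAut_coe]
  -- `σ(s) = s⁻ᵀ`
  have h1 : ((s⁻¹ : SLn) : Mn)ᵀ * (s : Mn)ᵀ = 1 := by
    rw [← Matrix.transpose_mul, sl_mul_inv, Matrix.transpose_one]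
  have h2 : (s : Mn).map σ = ((s⁻¹ : SLn) : Mn)ᵀ := by
    calc (s : Mn).map σ = (((s⁻¹ : SLn) : Mn)ᵀ * (s : Mn)ᵀ) * (s : Mn).map σ := by
          rw [h1, Matrix.one_mul]
      _ = ((s⁻¹ : SLn) : Mn)ᵀ * ((s : Mn)ᵀ * (s : Mn).map σ) := by rw [Matrix.mul_assoc]
      _ = ((s⁻¹ : SLn) : Mn)ᵀ := by rw [h, Matrix.mul_one]
  rw [← h2]
  ext i j
  simp only [Matrix.map_apply, hσσ]

/-- an element whose class is fixed by `gfAut σ` is a similitude of the hermitian form -/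
theorem sim_of_gfAut_fix (hn : 0 < n) (σ : F ≃+* F) (s : SLn)
    (h : gfAut σ (QuotientGroup.mk s : PSLn) = QuotientGroup.mk s) :
    ∃ c : F, c ≠ 0 ∧ (s : Mn)ᵀ * (s : Mn).map σ = c • (1 : Mn) := by
  have : Nonempty (Fin n) := ⟨⟨0, hn⟩⟩
  rw [gfAut_mk] at h
  obtain ⟨c, hc⟩ := exists_smul_of_mk_eq _ _ h
  rw [gfAut_coe] at hc
  -- `s = c • σ(s⁻¹)ᵀ`; so `sᵀ = c • σ(s⁻¹)` and `sᵀ σ(s) = c`
  have hc0 : c ≠ 0 := by
    rintro rfl
    rw [zero_smul] at hc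
    have hdet := s.2
    rw [hc, Matrix.det_zero] at hdet
    exact zero_ne_one hdet
  refine ⟨c, hc0, ?_⟩
  have h1 : (s : Mn)ᵀ = c • (((s⁻¹ : SLn) : Mn).map σ) := by
    have h3 := congrArg Matrix.transpose hc
    rw [h3, Matrix.transpose_smul]
    congr 1
  rw [h1, Matrix.smul_mul, ← map_mul', sl_inv_mul, map_one']

end Cfsg.Agent.Lib.Helper14_PSLBalFix
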