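import Mathlib
import Cfsg.Agent.Lib.Helper14_PSLBalFix
import Cfsg.Agent.Lib.Helper14_PSLGraphOdd
import Cfsg.Agent.Lib.Helper52_Bal_D1

/-!
# The quadratic form `QM M` of a symmetric matrix and the group `RO M` (helper14)

`polar_QM`, `nondeg_QM`, `eq_of_quad_eq`, `isom_of_mem_RO` (elements of `RO M` are isometries of `M`),
`exists_sl_of_mem_TE` (every element of `TE (QM M)` is `toLin'` of an element of `SL_n`).
-/

set_option autoImplicit false
set_option linter.unusedSectionVars false
set_option linter.unusedVariables false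

namespace Cfsg.Agent.Lib.Helper14_PSLBalQM

open Matrix Module Cfsg Cfsg.Agent.Lib.Helper14_PSLAut Cfsg.Agent.Lib.Helper14_PSLGraph
  Cfsg.Agent.Lib.Helper44_PSLnRoot Cfsg.Agent.Lib.Helper14_FieldAutPSL
  Cfsg.Agent.Lib.Helper14_PSLBalCore Cfsg.Agent.Lib.Helper14_PSLBalDefs
  Cfsg.Agent.Lib.Helper14_PSLBalFix Cfsg.Agent.Lib.Helper14_BalAbs
  Cfsg.Agent.Lib.Helper14_BalDefs Cfsg.Agent.Lib.Helper14_OmegaSimple
  Cfsg.Agent.Lib.Helper14_PSLCent Cfsg.Agent.Lib.Helper14_PSLGraphOdd

variable {n : ℕ} {F : Type*} [Field F]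

local notation "SLn" => Matrix.SpecialLinearGroup (Fin n) F
local notation "PSLn" => Matrix.ProjectiveSpecialLinearGroup (Fin n) F
local notation "Mn" => Matrix (Fin n) (Fin n) F
local notation "Vn" => Fin n → F

theorem QM_eq_bilOf (M : Mn) (v : Vn) : QM M v = bilOf M v v := QM_apply M v

theorem bilOf_add_left (M : Mn) (u u' v : Vn) : bilOf M (u + u') v = bilOf M u v + bilOf M u' v := by
  unfold bilOf
  rw [add_dotProduct]

theorem bilOf_add_right (M : Mn) (u v v' : Vn) : bilOf M u (v + v') = bilOf M u v + bilOf M u v' := by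
  unfold bilOf
  rw [Matrix.mulVec_add, dotProduct_add]

theorem bilOf_symm {M : Mn} (hM : Mᵀ = M) (u v : Vn) : bilOf M u v = bilOf M v u := by
  have := bilOf_transpose M v u
  rw [hM] at this
  exact this.symm

theorem polar_QM {M : Mn} (hM : Mᵀ = M) (u v : Vn) :
    QuadraticMap.polar (⇑(QM M)) u v = 2 * bilOf M u v := by
  rw [QuadraticMap.polar, QM_eq_bilOf, QM_eq_bilOf, QM_eq_bilOf, bilOf_add_left, bilOf_add_right,
    bilOf_add_right, bilOf_symm hM v u]
  ring

theorem nondeg_QM (h2 : (2 : F) ≠ 0) {M : Mn} (hM : Mᵀ = M) (hdet : M.det ≠ 0) :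
    (QuadraticMap.polarBilin (QM M)).Nondegenerate := by
  have key : ∀ u : Vn, (∀ v, bilOf M u v = 0) → u = 0 := by
    intro u hu
    have h1 : Mᵀ *ᵥ u = 0 := by
      ext i
      have := hu (Pi.single i 1)
      unfold bilOf at this
      rw [Matrix.dotProduct_mulVec, dotProduct_single, mul_one, ← Matrix.mulVec_transpose] at this
      exact this
    rw [hM] at h1
    exact Matrix.eq_zero_of_mulVec_eq_zero hdet h1
  constructor
  · intro u hu
    apply key u
    intro v
    have := hu v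
    rw [QuadraticMap.polarBilin_apply_apply, polar_QM hM] at this
    exact (mul_eq_zero.mp this).resolve_left h2
  · intro u hu
    apply key u
    intro v
    have := hu v
    rw [QuadraticMap.polarBilin_apply_apply, polar_QM hM, bilOf_symm hM] at this
    exact (mul_eq_zero.mp this).resolve_left h2

/-- a symmetric matrix is determined by its quadratic form -/
theorem eq_of_quad_eq (h2 : (2 : F) ≠ 0) {N M : Mn} (hN : Nᵀ = N) (hM : Mᵀ = M)
    (h : ∀ v : Vn, bilOf N v v = bilOf M v v) : N = M := by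
  apply bilOf_ext
  intro u v
  have h1 := h (u + v)
  rw [bilOf_add_left, bilOf_add_right, bilOf_add_right, bilOf_add_left, bilOf_add_right,
    bilOf_add_right, h u, h v, bilOf_symm hN v u, bilOf_symm hM v u] at h1
  have h3 : (2 : F) * (bilOf N u v - bilOf M u v) = 0 := by linear_combination h1
  have := (mul_eq_zero.mp h3).resolve_left h2
  linear_combination this

theorem QM_mulVec (M : Mn) (s : Mn) (v : Vn) : QM M (s *ᵥ v) = bilOf (sᵀ * M * s) v v := by
  rw [QM_eq_bilOf, ← bilOf_mulVec]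

/-- an element of `RO M` is an isometry of the bilinear form -/
theorem isom_of_mem_RO (h2 : (2 : F) ≠ 0) {M : Mn} (hM : Mᵀ = M) (r : SLn) (hr : r ∈ RO M) :
    (r : Mn)ᵀ * M * (r : Mn) = M := by
  have h1 : ∀ v : Vn, QM M ((r : Mn) *ᵥ v) = QM M v := by
    intro v
    have := TE_le_oG (QM M) ((mem_RO M r).mp hr) v
    rw [Matrix.SpecialLinearGroup.toLin'_apply, Matrix.toLin'_apply] at this
    exact this
  apply eq_of_quad_eq h2 _ hM
  · intro v
    rw [← QM_mulVec, h1, QM_eq_bilOf]
  · rw [Matrix.transpose_mul, Matrix.transpose_mul, Matrix.transpose_transpose, hM, Matrix.mul_assoc]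

section finite

variable [Fintype F]

/-- the elements of `TE (QM M)` have determinant one, hence come from `SL_n` -/
theorem exists_sl_of_mem_TE (M : Mn) (t : Vn ≃ₗ[F] Vn) (ht : t ∈ TE (QM M)) :
    ∃ s : SLn, Matrix.SpecialLinearGroup.toLin' s = t := by
  have hle : TE (QM M) ≤ (LinearEquiv.det (R := F) (M := Vn)).ker := by
    rw [TE, Subgroup.closure_le]
    rintro g ⟨u, z, hu, huz, rfl⟩
    exact Cfsg.Agent.Lib.Helper52_Bal_D1.det_E (QM M) hu huz
  have hdet : LinearEquiv.det t = 1 := hle ht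
  have hdet' : LinearMap.det (t : Vn →ₗ[F] Vn) = 1 := by
    have := congrArg Units.val hdet
    rw [LinearEquiv.coe_det] at this
    exact this
  obtain ⟨s, hs⟩ : ∃ s : SLn, (s : Mn) = LinearMap.toMatrix' (t : Vn →ₗ[F] Vn) :=
    ⟨⟨LinearMap.toMatrix' (t : Vn →ₗ[F] Vn), by rw [LinearMap.det_toMatrix', hdet']⟩, rfl⟩
  refine ⟨s, ?_⟩
  apply LinearEquiv.ext
  intro v
  rw [Matrix.SpecialLinearGroup.toLin'_apply, hs, Matrix.toLin'_toMatrix']
  rfl

end finite

end Cfsg.Agent.Lib.Helper14_PSLBalQM
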