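import Mathlib
import Cfsg.Agent.S0768
import Cfsg.Agent.S0767
import Cfsg.Agent.Lib.Helper5_SpPerfect

/-!
# Simplicity of PSp via the Iwasawa criterion (helper5)

The symplectic group acts on projective space through `spGL` (primitively, by S0768);
root subgroups `rootSub`, the Iwasawa structure `iwasawa`, the kernel of the action is central
(`mem_center_of_fixes`), and `psp_simple`.
-/

set_option autoImplicit false

namespace Cfsg.Agent.Lib.Helper5_PSpSimple

open scoped LinearAlgebra.Projectivization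
open scoped commutatorElement Pointwise
open Matrix MulAction Cfsg.Agent.Lib.Helper13_Symp Cfsg.Agent.Lib.Helper13_SympTrans
  Cfsg.Agent.Lib.Helper5_SpPerfect

variable {F : Type*} [Field F] (m : ℕ)

noncomputable def toSpGL : symplecticGroup (Fin m) F →* ↥(Cfsg.spGL m F) where
  toFun := Cfsg.Agent.S0768.ofSymp m
  map_one' := by apply Subtype.ext; apply Units.ext; rfl
  map_mul' a b := by apply Subtype.ext; apply Units.ext; rfl

def fromSpGL (g : ↥(Cfsg.spGL m F)) : symplecticGroup (Fin m) F :=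
  ⟨((g : GL (Fin m ⊕ Fin m) F) : Matrix (Fin m ⊕ Fin m) (Fin m ⊕ Fin m) F),
    mem_symplecticGroup_of_preserves m (fun u v => g.2 u v)⟩

lemma toSpGL_fromSpGL (g : ↥(Cfsg.spGL m F)) : toSpGL m (fromSpGL m g) = g := by
  apply Subtype.ext; apply Units.ext; rfl

noncomputable local instance spAction :
    MulAction (symplecticGroup (Fin m) F) (ℙ F (Fin m ⊕ Fin m → F)) :=
  MulAction.compHom _ (toSpGL m)

lemma mulVec_ne_zero (g : symplecticGroup (Fin m) F) {v : Fin m ⊕ Fin m → F} (hv : v ≠ 0) :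
    (g : Matrix (Fin m ⊕ Fin m) (Fin m ⊕ Fin m) F) *ᵥ v ≠ 0 := by
  intro h
  apply hv
  have : ((g⁻¹ * g : symplecticGroup (Fin m) F) : Matrix (Fin m ⊕ Fin m) (Fin m ⊕ Fin m) F) *ᵥ v = 0 := by
    rw [Submonoid.coe_mul, ← Matrix.mulVec_mulVec, h, Matrix.mulVec_zero]
  rwa [inv_mul_cancel, Submonoid.coe_one, Matrix.one_mulVec] at this

lemma smul_mk (g : symplecticGroup (Fin m) F) (v : Fin m ⊕ Fin m → F) (hv : v ≠ 0) :
    g • Projectivization.mk F v hv
      = Projectivization.mk F ((g : Matrix (Fin m ⊕ Fin m) (Fin m ⊕ Fin m) F) *ᵥ v) (mulVec_ne_zero m g hv) := rfl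

lemma isPreprimitive [Finite F] (hm : 1 ≤ m) :
    IsPreprimitive (symplecticGroup (Fin m) F) (ℙ F (Fin m ⊕ Fin m → F)) := by
  have := Cfsg.Agent.S0768.result (F := F) m hm
  let f : MulActionHom (fromSpGL (F := F) m) (ℙ F (Fin m ⊕ Fin m → F)) (ℙ F (Fin m ⊕ Fin m → F)) :=
    { toFun := id
      map_smul' := fun g p => by
        show g • p = toSpGL m (fromSpGL m g) • p
        rw [toSpGL_fromSpGL] }
  exact IsPreprimitive.of_surjective (f := f) Function.surjective_id

lemma transv_mul (v : Fin m ⊕ Fin m → F) (c d : F) : transv m v c * transv m v d = transv m v (c + d) :=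
  Subtype.ext ((Cfsg.Agent.S0767.result m v).1 c d)

lemma transv_zero (v : Fin m ⊕ Fin m → F) : transv m v 0 = 1 := by
  apply Subtype.ext
  show Cfsg.sympTransvection m v 0 = 1
  simp [Cfsg.sympTransvection]

lemma transv_zero_left (c : F) : transv m (0 : Fin m ⊕ Fin m → F) c = 1 := by
  apply Subtype.ext
  show Cfsg.sympTransvection m 0 c = 1
  simp [Cfsg.sympTransvection]

lemma transv_inv (v : Fin m ⊕ Fin m → F) (c : F) : (transv m v c)⁻¹ = transv m v (-c) := by
  rw [inv_eq_iff_mul_eq_one, transv_mul, add_neg_cancel, transv_zero]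

lemma transv_smul (a : F) (v : Fin m ⊕ Fin m → F) (c : F) : transv m (a • v) c = transv m v (a * a * c) := by
  apply Subtype.ext
  show Cfsg.sympTransvection m (a • v) c = Cfsg.sympTransvection m v (a * a * c)
  unfold Cfsg.sympTransvection
  rw [Matrix.mulVec_smul]
  ext i j
  simp only [Matrix.add_apply, Matrix.smul_apply, Matrix.vecMulVec_apply, Pi.smul_apply, smul_eq_mul]
  ring

/-- the root subgroup of a vector -/
def rootSub (v : Fin m ⊕ Fin m → F) : Subgroup (symplecticGroup (Fin m) F) where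
  carrier := {g | ∃ c, g = transv m v c}
  mul_mem' := by
    rintro _ _ ⟨c, rfl⟩ ⟨d, rfl⟩
    exact ⟨c + d, transv_mul m v c d⟩
  one_mem' := ⟨0, (transv_zero m v).symm⟩
  inv_mem' := by
    rintro _ ⟨c, rfl⟩
    exact ⟨-c, transv_inv m v c⟩

lemma mem_rootSub {v : Fin m ⊕ Fin m → F} {g : symplecticGroup (Fin m) F} :
    g ∈ rootSub m v ↔ ∃ c, g = transv m v c := Iff.rfl

lemma rootSub_comm (v : Fin m ⊕ Fin m → F) : IsMulCommutative (rootSub m v) := by
  refine ⟨⟨?_⟩⟩
  rintro ⟨a, c, rfl⟩ ⟨b, d, rfl⟩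
  apply Subtype.ext
  show transv m v c * transv m v d = transv m v d * transv m v c
  rw [transv_mul, transv_mul, add_comm]

lemma rootSub_smul (a : F) (ha : a ≠ 0) (v : Fin m ⊕ Fin m → F) : rootSub m (a • v) = rootSub m v := by
  ext g
  constructor
  · rintro ⟨c, rfl⟩
    exact ⟨a * a * c, transv_smul m a v c⟩
  · rintro ⟨c, rfl⟩
    refine ⟨c / (a * a), ?_⟩
    rw [transv_smul]
    congr 1
    field_simp

lemma rootSub_conj (g : symplecticGroup (Fin m) F) (v : Fin m ⊕ Fin m → F) :
    rootSub m ((g : Matrix (Fin m ⊕ Fin m) (Fin m ⊕ Fin m) F) *ᵥ v) = MulAut.conj g • rootSub m v := by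
  ext x
  rw [Subgroup.mem_pointwise_smul_iff_inv_smul_mem]
  constructor
  · rintro ⟨c, rfl⟩
    refine ⟨c, ?_⟩
    rw [← conj_transv]
    simp [MulAut.conj_apply, mul_assoc]
  · rintro ⟨c, hc⟩
    refine ⟨c, ?_⟩
    rw [← conj_transv, ← hc]
    simp [MulAut.conj_apply, mul_assoc]

noncomputable def iwasawa : IwasawaStructure (symplecticGroup (Fin m) F) (ℙ F (Fin m ⊕ Fin m → F)) where
  T p := rootSub m p.rep
  is_comm p := rootSub_comm m p.rep
  is_conj g p := by
    have h1 : g • p = Projectivization.mk F ((g : Matrix (Fin m ⊕ Fin m) (Fin m ⊕ Fin m) F) *ᵥ p.rep)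
        (mulVec_ne_zero m g p.rep_nonzero) := by
      conv_lhs => rw [← Projectivization.mk_rep p]
      rfl
    obtain ⟨a, ha⟩ := Projectivization.exists_smul_eq_mk_rep F
      ((g : Matrix (Fin m ⊕ Fin m) (Fin m ⊕ Fin m) F) *ᵥ p.rep) (mulVec_ne_zero m g p.rep_nonzero)
    rw [h1, ← ha, Units.smul_def, rootSub_smul m _ a.ne_zero, rootSub_conj]
  is_generator := by
    rw [eq_top_iff, ← Cfsg.Agent.S0765.result m, Subgroup.closure_le]
    rintro A ⟨w, c, hA⟩
    have hA' : A = transv m w c := Subtype.ext hA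
    by_cases hw : w = 0
    · rw [hA', hw, transv_zero_left]
      exact one_mem _
    · obtain ⟨a, ha⟩ := Projectivization.exists_smul_eq_mk_rep F w hw
      apply Subgroup.mem_iSup_of_mem (Projectivization.mk F w hw)
      show A ∈ rootSub m (Projectivization.mk F w hw).rep
      rw [← ha, Units.smul_def, rootSub_smul m _ a.ne_zero]
      exact ⟨c, hA'⟩

lemma mem_center_of_fixes (g : symplecticGroup (Fin m) F)
    (hg : ∀ p : ℙ F (Fin m ⊕ Fin m → F), g • p = p) : g ∈ Subgroup.center (symplecticGroup (Fin m) F) := by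
  set f : (Fin m ⊕ Fin m → F) →ₗ[F] (Fin m ⊕ Fin m → F) :=
    Matrix.toLin' (g : Matrix (Fin m ⊕ Fin m) (Fin m ⊕ Fin m) F) with hf
  obtain ⟨a, ha⟩ := f.exists_eq_smul_id_of_forall_notLinearIndependent fun (v : Fin m ⊕ Fin m → F) ↦ by
    by_cases hv : v = 0
    · simp [hv, linearIndependent_fin2]
    · have := hg (.mk F v hv)
      rw [smul_mk, Projectivization.mk_eq_mk_iff'] at this
      obtain ⟨c, hc⟩ := this
      rw [LinearIndependent.pair_iff' hv]
      push Not
      exact ⟨c, by rw [hf, Matrix.toLin'_apply]; exact hc⟩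
  have hscalar : (g : Matrix (Fin m ⊕ Fin m) (Fin m ⊕ Fin m) F) = Matrix.scalar (Fin m ⊕ Fin m) a := calc
    (g : Matrix (Fin m ⊕ Fin m) (Fin m ⊕ Fin m) F) = LinearMap.toMatrix' f := by
      rw [hf, LinearMap.toMatrix'_toLin']
    _ = (algebraMap F (Module.End F (Fin m ⊕ Fin m → F)) a).toMatrix' := congrArg LinearMap.toMatrix' ha
    _ = Matrix.scalar (Fin m ⊕ Fin m) a := LinearMap.toMatrix'_algebraMap a
  rw [Subgroup.mem_center_iff]
  intro h
  apply Subtype.ext
  show (h : Matrix (Fin m ⊕ Fin m) (Fin m ⊕ Fin m) F) * (g : Matrix (Fin m ⊕ Fin m) (Fin m ⊕ Fin m) F)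
    = (g : Matrix (Fin m ⊕ Fin m) (Fin m ⊕ Fin m) F) * (h : Matrix (Fin m ⊕ Fin m) (Fin m ⊕ Fin m) F)
  rw [hscalar]
  exact ((Matrix.scalar_commute a (fun r => mul_comm _ _)) _).symm

theorem psp_simple [Fintype F] (hm : 2 ≤ m) (h : m = 2 → 3 ≤ Fintype.card F) :
    IsSimpleGroup (Cfsg.PSp m F) := by
  have hperf : commutator (symplecticGroup (Fin m) F) = ⊤ := by
    apply sp_perfect
    rcases Nat.lt_or_ge 2 m with h3 | h3
    · left; omega
    · right; left
      have : m = 2 := by omega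
      exact ⟨this, h this⟩
  have hprim := isPreprimitive (F := F) m (by omega)
  have key : ∀ N : Subgroup (symplecticGroup (Fin m) F), N.Normal → N = ⊤ ∨ N ≤ Subgroup.center _ := by
    intro N hN
    by_cases hfix : fixedPoints N (ℙ F (Fin m ⊕ Fin m → F)) = Set.univ
    · right
      intro g hg
      apply mem_center_of_fixes
      intro p
      have : p ∈ fixedPoints N (ℙ F (Fin m ⊕ Fin m → F)) := by rw [hfix]; trivial
      exact this ⟨g, hg⟩
    · left
      have := (iwasawa m).commutator_le N hfix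
      rw [hperf] at this
      exact eq_top_iff.mpr this
  -- nontriviality
  have hnt : Subgroup.center (symplecticGroup (Fin m) F) ≠ ⊤ := by
    intro htop
    have h1 := (commutator_eq_bot_iff_center_eq_top _).mpr htop
    rw [hperf] at h1
    -- G is trivial, contradiction
    have h2 : transv m (Pi.single (Sum.inl (⟨0, by omega⟩ : Fin m)) 1) (1 : F) = 1 := by
      have : transv m (Pi.single (Sum.inl (⟨0, by omega⟩ : Fin m)) 1) (1 : F) ∈ (⊤ : Subgroup _) := trivial
      rw [h1] at this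
      exact this
    rw [transv_single] at h2
    have h3 := congrArg (fun M : symplecticGroup (Fin m) F =>
      (M : Matrix (Fin m ⊕ Fin m) (Fin m ⊕ Fin m) F) (Sum.inl ⟨0, by omega⟩) (Sum.inr ⟨0, by omega⟩)) h2
    simp [Xg, Xmat] at h3
  have hnt' : Nontrivial (Cfsg.PSp m F) := by
    by_contra hcon
    rw [not_nontrivial_iff_subsingleton] at hcon
    apply hnt
    rw [eq_top_iff]
    intro g _
    rw [← QuotientGroup.eq_one_iff]
    exact Subsingleton.elim _ _
  refine { toNontrivial := hnt', eq_bot_or_eq_top_of_normal := ?_ }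
  intro K hK
  have hN : (K.comap (QuotientGroup.mk' (Subgroup.center (symplecticGroup (Fin m) F)))).Normal :=
    hK.comap _
  rcases key _ hN with h1 | h1
  · right
    rw [← Subgroup.map_comap_eq_self_of_surjective (QuotientGroup.mk'_surjective _) K, h1]
    exact Subgroup.map_top_of_surjective _ (QuotientGroup.mk'_surjective _)
  · left
    rw [eq_bot_iff]
    intro k hk
    obtain ⟨g, rfl⟩ := QuotientGroup.mk_surjective k
    have : g ∈ K.comap (QuotientGroup.mk' (Subgroup.center (symplecticGroup (Fin m) F))) := hk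
    rw [Subgroup.mem_bot]
    exact (QuotientGroup.eq_one_iff g).mpr (h1 this)

end Cfsg.Agent.Lib.Helper5_PSpSimple
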