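import Mathlib
import Cfsg.Agent.Lib.Helper14_PSLBalDefs
import Cfsg.Agent.Lib.Helper14_PSLGraphOdd
import Cfsg.Agent.Lib.Helper5_PSpSimple

/-!
# PSLBAL package SSTR (helper20, for helper14's S2686 market)

`RS M = Sp(M)` for a skew invertible matrix `M` of size `n ≥ 3` over a finite field of odd
characteristic: perfect, simple central quotient, and it contains a non-scalar involution.
-/

set_option autoImplicit false

namespace Cfsg.Agent.Lib.Helper20_PSLBAL_SSTR

open Matrix Module Cfsg Cfsg.Agent.Lib.Helper14_BalDefs Cfsg.Agent.Lib.Helper14_BalAbs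
  Cfsg.Agent.Lib.Helper14_OmegaSimple Cfsg.Agent.Lib.Helper14_PSLBalCore
  Cfsg.Agent.Lib.Helper14_PSLBalDefs Cfsg.Agent.Lib.Helper14_PSLAut
  Cfsg.Agent.Lib.Helper44_PSLnRoot Cfsg.Agent.Lib.Helper14_FieldAutPSL

/-! ## transport of structure along a group isomorphism -/

theorem commutator_eq_top_of_mulEquiv {G H : Type*} [Group G] [Group H] (e : G ≃* H)
    (h : commutator H = ⊤) : commutator G = ⊤ := by
  have h1 : (commutator H).map e.symm.toMonoidHom = commutator G := by
    rw [commutator_def, commutator_def, Subgroup.map_commutator]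
    have : (⊤ : Subgroup H).map e.symm.toMonoidHom = ⊤ := by
      rw [← MonoidHom.range_eq_map]
      exact MonoidHom.range_eq_top.mpr e.symm.surjective
    rw [this]
  rw [← h1, h]
  rw [← MonoidHom.range_eq_map]
  exact MonoidHom.range_eq_top.mpr e.symm.surjective

theorem map_center_of_mulEquiv {G H : Type*} [Group G] [Group H] (e : G ≃* H) :
    (Subgroup.center G).map e.toMonoidHom = Subgroup.center H := by
  ext y
  constructor
  · rintro ⟨x, hx, rfl⟩
    rw [Subgroup.mem_center_iff]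
    intro z
    obtain ⟨w, rfl⟩ := e.surjective z
    have := Subgroup.mem_center_iff.mp hx w
    show e w * e x = e x * e w
    rw [← map_mul, ← map_mul, this]
  · intro hy
    refine ⟨e.symm y, ?_, by simp⟩
    show e.symm y ∈ Subgroup.center G
    rw [Subgroup.mem_center_iff]
    intro w
    apply e.injective
    rw [map_mul, map_mul, e.apply_symm_apply]
    exact Subgroup.mem_center_iff.mp hy (e w)

theorem isSimpleGroup_center_quotient_of_mulEquiv {G H : Type*} [Group G] [Group H] (e : G ≃* H)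
    (h : IsSimpleGroup (H ⧸ Subgroup.center H)) : IsSimpleGroup (G ⧸ Subgroup.center G) := by
  have e' : G ⧸ Subgroup.center G ≃* H ⧸ Subgroup.center H :=
    QuotientGroup.congr (Subgroup.center G) (Subgroup.center H) e (map_center_of_mulEquiv e)
  exact e'.isSimpleGroup

section matrix

variable {n : ℕ} {F : Type*} [Field F] [Fintype F]

local notation "SLn" => Matrix.SpecialLinearGroup (Fin n) F
local notation "PSLn" => Matrix.ProjectiveSpecialLinearGroup (Fin n) F
local notation "Mn" => Matrix (Fin n) (Fin n) F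

/-- a skew invertible matrix over a field with `2 ≠ 0` has even size -/
theorem even_of_skew (h2 : (2 : F) ≠ 0) (M : Mn) (hM : Mᵀ = -M) (hdet : M.det ≠ 0) : Even n := by
  by_contra hodd
  rw [Nat.not_even_iff_odd] at hodd
  have h1 : M.det = Mᵀ.det := (Matrix.det_transpose M).symm
  rw [hM, Matrix.det_neg, Fintype.card_fin, hodd.neg_one_pow] at h1
  have : (2 : F) * M.det = 0 := by linear_combination h1
  rcases mul_eq_zero.mp this with h | h
  · exact h2 h
  · exact hdet h

variable {m : ℕ}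

/-- the conjugation isomorphism `RS M ≃* Sp_{2m}(F)` coming from a congruence `M = Pᵀ J P` -/
noncomputable def rsEquiv (M : Mn) (P : Matrix (Fin m ⊕ Fin m) (Fin n) F)
    (P' : Matrix (Fin n) (Fin m ⊕ Fin m) F) (h1 : P * P' = 1) (h1' : P' * P = 1)
    (hP : Pᵀ * Matrix.J (Fin m) F * P = M) : ↥(RS M) ≃* ↥(Matrix.symplecticGroup (Fin m) F) where
  toFun s := ⟨P * (s.1 : Mn) * P', by
    rw [SymplecticGroup.mem_iff']
    have hs : ((s.1 : SLn) : Mn)ᵀ * M * ((s.1 : SLn) : Mn) = M := s.2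
    have hJ : P'ᵀ * M * P' = Matrix.J (Fin m) F := by
      rw [← hP]
      calc P'ᵀ * (Pᵀ * Matrix.J (Fin m) F * P) * P'
          = (P * P')ᵀ * Matrix.J (Fin m) F * (P * P') := by
            rw [Matrix.transpose_mul]; simp only [Matrix.mul_assoc]
        _ = Matrix.J (Fin m) F := by rw [h1, Matrix.transpose_one, Matrix.one_mul, Matrix.mul_one]
    calc (P * ((s.1 : SLn) : Mn) * P')ᵀ * Matrix.J (Fin m) F * (P * ((s.1 : SLn) : Mn) * P')
        = P'ᵀ * (((s.1 : SLn) : Mn)ᵀ * (Pᵀ * Matrix.J (Fin m) F * P) * ((s.1 : SLn) : Mn)) * P' := by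
          rw [Matrix.transpose_mul, Matrix.transpose_mul]; simp only [Matrix.mul_assoc]
      _ = Matrix.J (Fin m) F := by rw [hP, hs, hJ]⟩
  invFun A := ⟨⟨P' * (A.1 : Matrix (Fin m ⊕ Fin m) (Fin m ⊕ Fin m) F) * P, by
      rw [Matrix.det_conj_of_mul_eq_one h1' h1]
      exact SymplecticGroup.det_eq_one A.2⟩, by
    show (P' * (A.1 : Matrix (Fin m ⊕ Fin m) (Fin m ⊕ Fin m) F) * P)ᵀ * M *
      (P' * (A.1 : Matrix (Fin m ⊕ Fin m) (Fin m ⊕ Fin m) F) * P) = M
    have hA : (A.1 : Matrix (Fin m ⊕ Fin m) (Fin m ⊕ Fin m) F)ᵀ * Matrix.J (Fin m) F *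
        (A.1 : Matrix (Fin m ⊕ Fin m) (Fin m ⊕ Fin m) F) = Matrix.J (Fin m) F :=
      SymplecticGroup.mem_iff'.mp A.2
    rw [← hP]
    calc (P' * (A.1 : Matrix (Fin m ⊕ Fin m) (Fin m ⊕ Fin m) F) * P)ᵀ *
          (Pᵀ * Matrix.J (Fin m) F * P) *
          (P' * (A.1 : Matrix (Fin m ⊕ Fin m) (Fin m ⊕ Fin m) F) * P)
        = Pᵀ * ((A.1 : Matrix (Fin m ⊕ Fin m) (Fin m ⊕ Fin m) F)ᵀ *
            ((P * P')ᵀ * Matrix.J (Fin m) F * (P * P')) *
            (A.1 : Matrix (Fin m ⊕ Fin m) (Fin m ⊕ Fin m) F)) * P := by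
          rw [Matrix.transpose_mul, Matrix.transpose_mul, Matrix.transpose_mul]
          simp only [Matrix.mul_assoc]
      _ = Pᵀ * Matrix.J (Fin m) F * P := by
          rw [h1, Matrix.transpose_one, Matrix.one_mul, Matrix.mul_one, hA]⟩
  left_inv s := by
    apply Subtype.ext
    apply Subtype.ext
    show P' * (P * ((s.1 : SLn) : Mn) * P') * P = ((s.1 : SLn) : Mn)
    calc P' * (P * ((s.1 : SLn) : Mn) * P') * P
        = (P' * P) * ((s.1 : SLn) : Mn) * (P' * P) := by simp only [Matrix.mul_assoc]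
      _ = ((s.1 : SLn) : Mn) := by rw [h1', Matrix.one_mul, Matrix.mul_one]
  right_inv A := by
    apply Subtype.ext
    show P * (P' * (A.1 : Matrix (Fin m ⊕ Fin m) (Fin m ⊕ Fin m) F) * P) * P' = A.1
    calc P * (P' * (A.1 : Matrix (Fin m ⊕ Fin m) (Fin m ⊕ Fin m) F) * P) * P'
        = (P * P') * (A.1 : Matrix (Fin m ⊕ Fin m) (Fin m ⊕ Fin m) F) * (P * P') := by
          simp only [Matrix.mul_assoc]
      _ = A.1 := by rw [h1, Matrix.one_mul, Matrix.mul_one]
  map_mul' s t := by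
    apply Subtype.ext
    show P * (((s * t : ↥(RS M)).1 : SLn) : Mn) * P' =
      (P * ((s.1 : SLn) : Mn) * P') * (P * ((t.1 : SLn) : Mn) * P')
    have : (((s * t : ↥(RS M)).1 : SLn) : Mn) = ((s.1 : SLn) : Mn) * ((t.1 : SLn) : Mn) := by
      rw [Subgroup.coe_mul, Matrix.SpecialLinearGroup.coe_mul]
    rw [this]
    calc P * (((s.1 : SLn) : Mn) * ((t.1 : SLn) : Mn)) * P'
        = P * ((s.1 : SLn) : Mn) * (P' * P) * ((t.1 : SLn) : Mn) * P' := by
          rw [h1', Matrix.mul_one]; simp only [Matrix.mul_assoc]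
      _ = (P * ((s.1 : SLn) : Mn) * P') * (P * ((t.1 : SLn) : Mn) * P') := by
          simp only [Matrix.mul_assoc]

theorem three_le_card (h2 : (2 : F) ≠ 0) : 3 ≤ Fintype.card F := by
  have h1 := Fintype.one_lt_card (α := F)
  by_contra h
  have h3 : Fintype.card F = 2 := by omega
  apply h2
  have h4 := Nat.cast_card_eq_zero F
  rw [h3] at h4
  exact_mod_cast h4

/-- the involution `diag(-1, 1, …, 1; -1, 1, …, 1)` of `Sp_{2m}(F)` -/
noncomputable def dvec (m : ℕ) : Fin m → F := fun i => if (i : ℕ) = 0 then -1 else 1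

theorem dvec_mul_self (m : ℕ) (i : Fin m) : dvec (F := F) m i * dvec m i = 1 := by
  unfold dvec
  split_ifs <;> simp

noncomputable def tmat (m : ℕ) : Matrix (Fin m ⊕ Fin m) (Fin m ⊕ Fin m) F :=
  Matrix.fromBlocks (Matrix.diagonal (dvec m)) 0 0 (Matrix.diagonal (dvec m))

theorem diag_dvec_sq (m : ℕ) :
    (Matrix.diagonal (dvec (F := F) m)) * (Matrix.diagonal (dvec m)) = 1 := by
  rw [Matrix.diagonal_mul_diagonal]
  rw [← Matrix.diagonal_one]
  congr 1
  funext i
  exact dvec_mul_self m i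

theorem tmat_mul_self (m : ℕ) : tmat (F := F) m * tmat m = 1 := by
  unfold tmat
  rw [Matrix.fromBlocks_multiply]
  simp only [Matrix.mul_zero, Matrix.zero_mul, add_zero, zero_add, diag_dvec_sq]
  exact Matrix.fromBlocks_one

theorem tmat_mem (m : ℕ) : tmat (F := F) m ∈ Matrix.symplecticGroup (Fin m) F := by
  rw [SymplecticGroup.mem_iff']
  unfold tmat Matrix.J
  rw [Matrix.fromBlocks_transpose, Matrix.fromBlocks_multiply, Matrix.fromBlocks_multiply]
  simp only [Matrix.transpose_zero, Matrix.diagonal_transpose, Matrix.mul_zero, Matrix.zero_mul,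
    add_zero, zero_add, Matrix.mul_one, Matrix.mul_neg, Matrix.neg_mul, diag_dvec_sq, neg_zero]

theorem sp_structure (h2 : (2 : F) ≠ 0) (hn : 3 ≤ n) (M : Mn) (hM : Mᵀ = -M) (hdet : M.det ≠ 0) :
    commutator ↥(RS M) = ⊤ ∧ IsSimpleGroup (↥(RS M) ⧸ Subgroup.center ↥(RS M)) ∧
      ∃ t ∈ RS M, t * t = 1 ∧ ¬ ∃ c : F, (t : Mn) = c • (1 : Mn) := by
  obtain ⟨m, hm⟩ := even_of_skew h2 M hM hdet
  have hnm : n = 2 * m := by omega
  have hm2 : 2 ≤ m := by omega
  have halt : ∀ v, Cfsg.Agent.Lib.Helper14_PSLCent.bilOf M v v = 0 :=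
    Cfsg.Agent.Lib.Helper14_PSLGraphOdd.alt_of_skew h2 hM
  obtain ⟨P, P', h1, h1', hP⟩ :=
    Cfsg.Agent.Lib.Helper14_Congruence.exists_std_alt hnm halt hdet
  have key : ∀ u v : Fin n → F, u ⬝ᵥ ((Pᵀ * Matrix.J (Fin m) F * P) *ᵥ v) = u ⬝ᵥ (M *ᵥ v) := by
    intro u v
    have h := hP u v
    unfold Cfsg.sympForm Cfsg.Agent.Lib.Helper14_PSLCent.bilOf at h
    rw [← h, ← Matrix.mulVec_mulVec, ← Matrix.mulVec_mulVec, Matrix.dotProduct_mulVec,
      Matrix.vecMul_transpose]
  have hPM : Pᵀ * Matrix.J (Fin m) F * P = M := by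
    ext i j
    have h := key (Pi.single i 1) (Pi.single j 1)
    simpa [Matrix.mulVec_single_one, single_one_dotProduct] using h
  have hq3 : 3 ≤ Fintype.card F := three_le_card h2
  let e := rsEquiv M P P' h1 h1' hPM
  have hperf : commutator (Matrix.symplecticGroup (Fin m) F) = ⊤ := by
    apply Cfsg.Agent.Lib.Helper5_SpPerfect.sp_perfect
    rcases Nat.lt_or_ge 2 m with h3 | h3
    · left; omega
    · right; left; exact ⟨by omega, hq3⟩
  have hsimple : IsSimpleGroup (Cfsg.PSp m F) :=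
    Cfsg.Agent.Lib.Helper5_PSpSimple.psp_simple m hm2 (fun _ => hq3)
  refine ⟨commutator_eq_top_of_mulEquiv e hperf,
    isSimpleGroup_center_quotient_of_mulEquiv e hsimple, ?_⟩
  set T : ↥(Matrix.symplecticGroup (Fin m) F) := ⟨tmat m, tmat_mem m⟩ with hT
  have hTT : T * T = 1 := by
    apply Subtype.ext
    exact tmat_mul_self m
  refine ⟨((e.symm T : ↥(RS M)) : SLn), (e.symm T).2, ?_, ?_⟩
  · have : (e.symm T) * (e.symm T) = 1 := by rw [← map_mul, hTT, map_one]
    have h3 := congrArg (fun x : ↥(RS M) => (x : SLn)) this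
    simpa using h3
  · rintro ⟨c, hc⟩
    have hval : (((e.symm T : ↥(RS M)) : SLn) : Mn) = P' * tmat (F := F) m * P := rfl
    rw [hval] at hc
    have hTc : tmat (F := F) m = c • (1 : Matrix (Fin m ⊕ Fin m) (Fin m ⊕ Fin m) F) := by
      calc tmat (F := F) m = (P * P') * tmat (F := F) m * (P * P') := by
            rw [h1, Matrix.one_mul, Matrix.mul_one]
        _ = P * (P' * tmat (F := F) m * P) * P' := by simp only [Matrix.mul_assoc]
        _ = c • (1 : Matrix (Fin m ⊕ Fin m) (Fin m ⊕ Fin m) F) := by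
            rw [hc, Matrix.mul_smul, Matrix.smul_mul, Matrix.mul_one, h1]
    have e0 := congrFun (congrFun hTc (Sum.inl ⟨0, by omega⟩)) (Sum.inl ⟨0, by omega⟩)
    have e1 := congrFun (congrFun hTc (Sum.inl ⟨1, by omega⟩)) (Sum.inl ⟨1, by omega⟩)
    simp [tmat, dvec] at e0 e1
    apply h2
    rw [← e0] at e1
    linear_combination e1

end matrix

end Cfsg.Agent.Lib.Helper20_PSLBAL_SSTR
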