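import Mathlib
import Cfsg.Agent.Lib.Helper14_PSLBalDefs

/-!
# PSLBAL package ODDQ (for helper14, S2686)

A homomorphic image, with central kernel of exponent `2`, of a finite group without non-trivial
normal subgroups of odd order has `OddComm` (Schur-Zassenhaus).
-/

set_option autoImplicit false

namespace Cfsg.Agent.Lib.Helper24_PSLBAL_ODDQ

open Matrix Module Cfsg Cfsg.Agent.Lib.Helper14_BalDefs Cfsg.Agent.Lib.Helper14_BalAbs
  Cfsg.Agent.Lib.Helper14_OmegaSimple Cfsg.Agent.Lib.Helper14_PSLBalCore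
  Cfsg.Agent.Lib.Helper14_PSLBalDefs Cfsg.Agent.Lib.Helper14_PSLAut
  Cfsg.Agent.Lib.Helper44_PSLnRoot Cfsg.Agent.Lib.Helper14_FieldAutPSL

/-- In a finite group `T` with a central subgroup `Z` of exponent `2` and odd index `k`, there is a
subgroup `H` of order `k` consisting exactly of the elements with `m ^ k = 1`. -/
theorem exists_odd_complement {T : Type*} [Group T] [Finite T] (Z : Subgroup T) [Z.Normal]
    (hZ2 : ∀ z ∈ Z, z * z = 1) (hZc : ∀ z ∈ Z, ∀ x : T, z * x = x * z) (k : ℕ) (hk : Odd k)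
    (hidx : Z.index = k) :
    ∃ H : Subgroup T, Nat.card H = k ∧ ∀ m : T, m ∈ H ↔ m ^ k = 1 := by
  classical
  have hZp : IsPGroup 2 Z := by
    intro z
    refine ⟨1, ?_⟩
    apply Subtype.ext
    have := hZ2 z z.2
    simpa [pow_two] using this
  obtain ⟨a, ha⟩ := hZp.exists_card_eq
  have hcop : Nat.Coprime (Nat.card Z) Z.index := by
    rw [ha, hidx]
    apply Nat.Coprime.pow_left
    rw [Nat.coprime_two_left]
    exact hk
  obtain ⟨H, hH⟩ := Subgroup.exists_right_complement'_of_coprime hcop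
  have hHcard : Nat.card H = k := by
    rw [← hidx]
    exact (hH.symm.index_eq_card).symm
  refine ⟨H, hHcard, fun m => ⟨fun hm => ?_, fun hm => ?_⟩⟩
  · have h1 : (⟨m, hm⟩ : H) ^ Nat.card H = 1 := pow_card_eq_one'
    rw [hHcard] at h1
    exact congrArg Subtype.val h1
  · -- `m = z * h`
    obtain ⟨⟨z, h⟩, hzh⟩ := hH.2 m
    have hzh' : (z : T) * (h : T) = m := hzh
    have hcomm : Commute (z : T) (h : T) := hZc z z.2 h
    have hhk : (h : T) ^ k = 1 := by
      have h1 : h ^ Nat.card H = 1 := pow_card_eq_one'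
      rw [hHcard] at h1
      exact_mod_cast congrArg Subtype.val h1
    have hzk : (z : T) ^ k = z := by
      obtain ⟨j, rfl⟩ := hk
      have hz2 : (z : T) ^ 2 = 1 := by rw [pow_two]; exact hZ2 z z.2
      rw [pow_succ, pow_mul, hz2, one_pow, one_mul]
    have hz1 : (z : T) = 1 := by
      rw [← hzh', hcomm.mul_pow, hhk, mul_one, hzk] at hm
      exact hm
    rw [← hzh', hz1, one_mul]
    exact h.2

/-- **ODDQ** -/
theorem oddComm_range_of_no_odd_normal {G A : Type*} [Group G] [Finite G] [Group A] [Finite A]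
    (f : G →* A) (hker : ∀ g : G, f g = 1 → g * g = 1 ∧ ∀ x : G, g * x = x * g)
    (hG : ∀ M : Subgroup G, M.Normal → Odd (Nat.card M) → M = ⊥) : OddComm f.range := by
  classical
  apply oddComm_of_no_odd_normal
  intro M hMR hMnorm hModd
  have hMtn : (M.comap f).Normal := by
    constructor
    intro d hd g
    show f (g * d * g⁻¹) ∈ M
    rw [map_mul, map_mul, map_inv]
    exact hMnorm (f g) ⟨g, rfl⟩ (f d) hd
  -- the restriction `Mt → M`
  let fM : (M.comap f) →* M := (f.comp (M.comap f).subtype).codRestrict M (fun x => x.2)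
  have hfM : ∀ x : M.comap f, ((fM x : M) : A) = f (x : G) := fun x => rfl
  have hfMsurj : Function.Surjective fM := by
    intro y
    obtain ⟨d, hd⟩ := hMR y.2
    exact ⟨⟨d, by show f d ∈ M; rw [hd]; exact y.2⟩, Subtype.ext hd⟩
  have hidx : fM.ker.index = Nat.card M := by
    rw [Subgroup.index_eq_card]
    exact Nat.card_congr (QuotientGroup.quotientKerEquivOfSurjective fM hfMsurj).toEquiv
  have hkerM : ∀ z ∈ fM.ker, f ((z : M.comap f) : G) = 1 := by
    intro z hz
    have h1 : fM z = 1 := hz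
    have h2 := congrArg Subtype.val h1
    simpa [hfM] using h2
  obtain ⟨H, hHcard, hHmem⟩ := exists_odd_complement fM.ker
    (fun z hz => Subtype.ext (hker _ (hkerM z hz)).1)
    (fun z hz x => Subtype.ext ((hker _ (hkerM z hz)).2 x))
    (Nat.card M) hModd hidx
  -- the image of `H` in `G` is normal of odd order
  have hOn : (H.map (M.comap f).subtype).Normal := by
    constructor
    rintro _ ⟨m, hm, rfl⟩ g
    have hmem : g * (m : G) * g⁻¹ ∈ M.comap f := hMtn.conj_mem _ m.2 g
    refine ⟨⟨_, hmem⟩, ?_, rfl⟩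
    apply (hHmem _).2
    apply Subtype.ext
    have h1 : (m : G) ^ Nat.card M = 1 := by
      have := (hHmem m).1 hm
      exact_mod_cast congrArg Subtype.val this
    show (g * (m : G) * g⁻¹) ^ Nat.card M = 1
    rw [conj_pow, h1, mul_one, mul_inv_cancel]
  have hOcard : Nat.card (H.map (M.comap f).subtype) = Nat.card M := by
    rw [Subgroup.card_map_of_injective (Subgroup.subtype_injective _), hHcard]
  have hObot := hG _ hOn (hOcard ▸ hModd)
  have h1 : Nat.card M = 1 := by
    rw [← hOcard, hObot]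
    exact Subgroup.card_bot
  exact Subgroup.eq_bot_of_card_eq M h1

end Cfsg.Agent.Lib.Helper24_PSLBAL_ODDQ
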