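import Mathlib
import Cfsg.Agent.Lib.Helper14_PSLBalDefs
import Cfsg.Agent.Lib.Helper44_BalanceGen

/-!
# PSLBAL package QSA (for helper14, S2686)

The image of a perfect group with simple central quotient under a homomorphism not killing an
involution (mod its kernel) has `OddComm`.
-/

set_option autoImplicit false

namespace Cfsg.Agent.Lib.Helper24_PSLBAL_QSA

open Matrix Module Cfsg Cfsg.Agent.Lib.Helper14_BalDefs Cfsg.Agent.Lib.Helper14_BalAbs
  Cfsg.Agent.Lib.Helper14_OmegaSimple Cfsg.Agent.Lib.Helper14_PSLBalCore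
  Cfsg.Agent.Lib.Helper14_PSLBalDefs Cfsg.Agent.Lib.Helper14_PSLAut
  Cfsg.Agent.Lib.Helper44_PSLnRoot Cfsg.Agent.Lib.Helper14_FieldAutPSL

/-- **QSA** -/
theorem oddComm_range_of_quasisimple {G A : Type*} [Group G] [Group A] [Finite A]
    (f : G →* A) (hperf : commutator G = ⊤) (hs : IsSimpleGroup (G ⧸ Subgroup.center G))
    (t : G) (ht : f t ≠ 1) (htt : f (t * t) = 1) : OddComm f.range := by
  apply oddComm_of_quasisimple
  · -- perfect
    rw [MonoidHom.range_eq_map, ← Subgroup.map_commutator, ← commutator_def, hperf]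
  · -- dichotomy
    intro M hMR hMnorm
    have hDn : (M.comap f).Normal := by
      constructor
      intro d hd g
      show f (g * d * g⁻¹) ∈ M
      rw [map_mul, map_mul, map_inv]
      exact hMnorm (f g) ⟨g, rfl⟩ (f d) hd
    rcases Cfsg.Agent.Lib.Helper44_BalanceGen.normal_dichotomy hperf hs (M.comap f) with h | h
    · left
      intro x hx r hr
      obtain ⟨d, rfl⟩ := hMR hx
      obtain ⟨g, rfl⟩ := hr
      have hd : d ∈ Subgroup.center G := h hx
      rw [← map_mul, ← map_mul, (Subgroup.mem_center_iff.1 hd g)]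
    · right
      apply le_antisymm hMR
      rintro _ ⟨g, rfl⟩
      have hg : g ∈ M.comap f := h ▸ Subgroup.mem_top g
      exact hg
  · exact ⟨f t, ⟨t, rfl⟩, ht, by rw [← map_mul, htt]⟩

end Cfsg.Agent.Lib.Helper24_PSLBAL_QSA
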