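import Mathlib
import Cfsg.Agent.Lib.Helper14_PSLBalDefs

/-!
# PSLBAL package KEYOCOMM (helper14's market): a bijective semilinear map commuting up to scalars
with all Eichler–Siegel transformations fixes every singular point
-/

set_option autoImplicit false

namespace Cfsg.Agent.Lib.Helper32_PSLBAL_KEYOCOMM

open Matrix Module Cfsg Cfsg.Agent.Lib.Helper14_BalDefs Cfsg.Agent.Lib.Helper14_BalAbs
  Cfsg.Agent.Lib.Helper14_OmegaSimple Cfsg.Agent.Lib.Helper14_PSLBalCore
  Cfsg.Agent.Lib.Helper14_PSLBalDefs Cfsg.Agent.Lib.Helper14_PSLAut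
  Cfsg.Agent.Lib.Helper44_PSLnRoot Cfsg.Agent.Lib.Helper14_FieldAutPSL

section abstract

variable {F V : Type*} [Field F] [AddCommGroup V] [Module F V]

theorem semi_zero {τ : F ≃+* F} {hh : V → V} (hsb : SemiBij τ hh) : hh 0 = 0 := by
  have h := hsb.add 0 0
  rw [add_zero] at h
  have : hh 0 + 0 = hh 0 + hh 0 := by rw [add_zero]; exact h
  exact (add_left_cancel this).symm

theorem semi_neg {τ : F ≃+* F} {hh : V → V} (hsb : SemiBij τ hh) (v : V) : hh (-v) = -hh v := by
  have h := hsb.add v (-v)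
  rw [add_neg_cancel, semi_zero hsb] at h
  exact eq_neg_of_add_eq_zero_right h.symm

theorem semi_sub {τ : F ≃+* F} {hh : V → V} (hsb : SemiBij τ hh) (v w : V) :
    hh (v - w) = hh v - hh w := by
  rw [sub_eq_add_neg, hsb.add, semi_neg hsb, ← sub_eq_add_neg]

/-- A nilpotent endomorphism of a nontrivial module kills a nonzero vector. -/
theorem exists_ne_zero_ker_of_pow_eq_zero [Nontrivial V] (N : V →ₗ[F] V) (k : ℕ)
    (hnil : N ^ k = 0) : ∃ v : V, v ≠ 0 ∧ N v = 0 := by
  classical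
  have hex : ∃ j, N ^ j = 0 := ⟨k, hnil⟩
  have hj := Nat.find_spec hex
  have hj0 : Nat.find hex ≠ 0 := by
    intro h0
    rw [h0, pow_zero] at hj
    obtain ⟨x, hx⟩ := exists_ne (0 : V)
    have := LinearMap.congr_fun hj x
    simp at this
    exact hx this
  obtain ⟨j, hjs⟩ := Nat.exists_eq_succ_of_ne_zero hj0
  have hjn : N ^ j ≠ 0 := Nat.find_min hex (by omega)
  obtain ⟨x, hx⟩ : ∃ x, (N ^ j) x ≠ 0 := by
    by_contra hcon
    push Not at hcon
    exact hjn (LinearMap.ext hcon)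
  refine ⟨(N ^ j) x, hx, ?_⟩
  have : N ((N ^ j) x) = (N ^ (j + 1)) x := by
    rw [pow_succ']
    rfl
  rw [this, ← Nat.succ_eq_add_one, ← hjs, hj]
  rfl

/-- Local copy of **KUNI**: a bijective semilinear map commuting up to the scalar `c` with a
unipotent map forces `c = 1`. -/
theorem c_eq_one_of_unipotent' [Nontrivial V] (τ : F ≃+* F) (hh : V → V) (hsb : SemiBij τ hh)
    (t : V →ₗ[F] V) (k : ℕ) (hnil : (t - 1) ^ k = 0) (c : F)
    (hc : ∀ v, hh (t v) = c • t (hh v)) : c = 1 := by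
  obtain ⟨v, hv0, hv⟩ := exists_ne_zero_ker_of_pow_eq_zero (t - 1) k hnil
  have htv : t v = v := by
    have : (t - 1) v = t v - v := rfl
    rw [this, sub_eq_zero] at hv
    exact hv
  have hw0 : hh v ≠ 0 := by
    intro h
    apply hv0
    apply hsb.bij.1
    rw [h, semi_zero hsb]
  have h1 := hc v
  rw [htv] at h1
  -- `t w = c⁻¹ w`
  have hc0 : c ≠ 0 := by
    rintro rfl
    rw [zero_smul] at h1
    exact hw0 h1
  have htw : t (hh v) = c⁻¹ • hh v := by
    calc t (hh v) = c⁻¹ • (c • t (hh v)) := by rw [smul_smul, inv_mul_cancel₀ hc0, one_smul]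
      _ = c⁻¹ • hh v := by rw [← h1]
  have hpow : ∀ j : ℕ, ((t - 1) ^ j) (hh v) = (c⁻¹ - 1) ^ j • hh v := by
    intro j
    induction j with
    | zero => simp
    | succ j ih =>
      rw [pow_succ', Module.End.mul_apply, ih, map_smul]
      have : (t - 1) (hh v) = t (hh v) - hh v := rfl
      rw [this, htw, pow_succ, mul_smul, sub_smul, one_smul]
  have h2 := hpow k
  rw [hnil] at h2
  simp only [LinearMap.zero_apply] at h2
  have h3 : (c⁻¹ - 1) ^ k = 0 := by
    rcases smul_eq_zero.1 h2.symm with h | h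
    · exact h
    · exact absurd h hw0
  have h4 : c⁻¹ - 1 = 0 := by
    by_contra h
    exact pow_ne_zero k h h3
  have h5 : c⁻¹ = 1 := by rw [sub_eq_zero] at h4; exact h4
  rw [inv_eq_one] at h5
  exact h5

variable [Fintype F] [FiniteDimensional F V]

omit [Fintype F] in
/-- In dimension `≥ 3` the orthogonal complement of a hyperbolic pair contains a non-singular
vector. -/
theorem exists_nonsingular_perp_pair (Q : QuadraticForm F V)
    (hQ : (QuadraticMap.polarBilin Q).Nondegenerate) (hdim : 3 ≤ finrank F V)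
    {u x : V} (hu : Q u = 0) (hx : Q x = 0) (hux : QuadraticMap.polar (⇑Q) u x = 1) :
    ∃ z : V, QuadraticMap.polar (⇑Q) u z = 0 ∧ QuadraticMap.polar (⇑Q) x z = 0 ∧ Q z ≠ 0 := by
  -- a nonzero vector orthogonal to `u` and `x`
  let f : V →ₗ[F] F × F :=
    LinearMap.prod (QuadraticMap.polarBilin Q u) (QuadraticMap.polarBilin Q x)
  have hlt : finrank F (F × F) < finrank F V := by
    rw [Module.finrank_prod, Module.finrank_self]
    omega
  obtain ⟨w, hw, hw0⟩ : ∃ w : V, f w = 0 ∧ w ≠ 0 := by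
    have hker := LinearMap.ker_ne_bot_of_finrank_lt (f := f) hlt
    obtain ⟨w, hwk, hw0⟩ := Submodule.exists_mem_ne_zero_of_ne_bot hker
    exact ⟨w, LinearMap.mem_ker.1 hwk, hw0⟩
  have hwu : QuadraticMap.polar (⇑Q) u w = 0 := by
    have := congrArg Prod.fst hw
    simpa [f] using this
  have hwx : QuadraticMap.polar (⇑Q) x w = 0 := by
    have := congrArg Prod.snd hw
    simpa [f] using this
  by_cases hQw : Q w = 0
  · -- `w` is singular: find `y` with `polar w y ≠ 0`
    obtain ⟨y, hy⟩ : ∃ y, QuadraticMap.polarBilin Q w y ≠ 0 := by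
      by_contra hcon
      push Not at hcon
      exact hw0 (hQ.1 w hcon)
    rw [QuadraticMap.polarBilin_apply_apply] at hy
    -- project `y` to `⟨u, x⟩^⊥`
    obtain ⟨y', hy'⟩ : ∃ y' : V, y' = y - QuadraticMap.polar (⇑Q) y x • u
        - QuadraticMap.polar (⇑Q) y u • x := ⟨_, rfl⟩
    have hpuu : QuadraticMap.polar (⇑Q) u u = 0 := by
      rw [QuadraticMap.polar_self, hu, smul_zero]
    have hpxx : QuadraticMap.polar (⇑Q) x x = 0 := by
      rw [QuadraticMap.polar_self, hx, smul_zero]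
    have hxu : QuadraticMap.polar (⇑Q) x u = 1 := by
      rw [QuadraticMap.polar_comm]; exact hux
    have hy'u : QuadraticMap.polar (⇑Q) u y' = 0 := by
      rw [hy', QuadraticMap.polar_sub_right, QuadraticMap.polar_sub_right,
        QuadraticMap.polar_smul_right, QuadraticMap.polar_smul_right, hpuu, hux,
        QuadraticMap.polar_comm (⇑Q) u y]
      simp
    have hy'x : QuadraticMap.polar (⇑Q) x y' = 0 := by
      rw [hy', QuadraticMap.polar_sub_right, QuadraticMap.polar_sub_right,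
        QuadraticMap.polar_smul_right, QuadraticMap.polar_smul_right, hpxx, hxu,
        QuadraticMap.polar_comm (⇑Q) x y]
      simp
    have hwy' : QuadraticMap.polar (⇑Q) w y' = QuadraticMap.polar (⇑Q) w y := by
      rw [hy', QuadraticMap.polar_sub_right, QuadraticMap.polar_sub_right,
        QuadraticMap.polar_smul_right, QuadraticMap.polar_smul_right,
        QuadraticMap.polar_comm (⇑Q) w u, hwu, QuadraticMap.polar_comm (⇑Q) w x, hwx]
      simp
    by_cases hQy' : Q y' = 0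
    · refine ⟨y' + w, ?_, ?_, ?_⟩
      · rw [QuadraticMap.polar_add_right, hy'u, hwu, add_zero]
      · rw [QuadraticMap.polar_add_right, hy'x, hwx, add_zero]
      · have : Q (y' + w) = Q y' + Q w + QuadraticMap.polar (⇑Q) y' w := by
          unfold QuadraticMap.polar; ring
        rw [this, hQy', hQw, zero_add, zero_add, QuadraticMap.polar_comm, hwy']
        exact hy
    · exact ⟨y', hy'u, hy'x, hQy'⟩
  · exact ⟨w, hwu, hwx, hQw⟩

omit [Fintype F] in
/-- In dimension `≥ 3` a nonzero singular vector is orthogonal to a non-singular vector. -/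
theorem exists_nonsingular_perp (Q : QuadraticForm F V)
    (hQ : (QuadraticMap.polarBilin Q).Nondegenerate) (hdim : 3 ≤ finrank F V)
    {u : V} (hu0 : u ≠ 0) (hu : Q u = 0) :
    ∃ z : V, QuadraticMap.polar (⇑Q) u z = 0 ∧ Q z ≠ 0 := by
  obtain ⟨x, hx, hux⟩ := Cfsg.Agent.Lib.Helper44_QuadClass.exists_hyperbolic_partner Q hQ hu0 hu
  obtain ⟨z, h1, -, h3⟩ := exists_nonsingular_perp_pair Q hQ hdim hu hx hux
  exact ⟨z, h1, h3⟩

/-- **KEYOCOMM**. -/
theorem key_O_comm (h2 : (2 : F) ≠ 0) (Q : QuadraticForm F V)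
    (hQ : (QuadraticMap.polarBilin Q).Nondegenerate) (hdim : 3 ≤ finrank F V)
    (τ : F ≃+* F) (hh : V → V) (hsb : SemiBij τ hh)
    (hcomm : ∀ u z : V, Q u = 0 → QuadraticMap.polar (⇑Q) u z = 0 →
      ∃ c : F, ∀ v, hh (E Q u z v) = c • E Q u z (hh v)) :
    ∀ u : V, Q u = 0 → ∃ a : F, hh u = a • u := by
  intro u hu
  by_cases hu0 : u = 0
  · exact ⟨0, by rw [hu0, semi_zero hsb, zero_smul]⟩
  have hnt : Nontrivial V := ⟨⟨u, 0, hu0⟩⟩
  obtain ⟨z, huz, hQz⟩ := exists_nonsingular_perp Q hQ hdim hu0 hu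
  obtain ⟨c, hc⟩ := hcomm u z hu huz
  -- the linear map `t = E Q u z` and `D = t - 1`
  obtain ⟨t, ht⟩ : ∃ t : V →ₗ[F] V, t = (E Q u z).toLinearMap := ⟨_, rfl⟩
  have htE : ∀ v, t v = E Q u z v := by intro v; rw [ht]; rfl
  have hpuu : QuadraticMap.polar (⇑Q) u u = 0 := by
    rw [QuadraticMap.polar_self, hu, smul_zero]
  have hD : ∀ x, (t - 1) x = QuadraticMap.polar (⇑Q) x u • z - QuadraticMap.polar (⇑Q) x z • u -
      (Q z * QuadraticMap.polar (⇑Q) x u) • u := by
    intro x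
    have : (t - 1) x = t x - x := rfl
    rw [this, htE, E_apply Q hu huz]
    abel
  have hDu : (t - 1) u = 0 := by
    rw [hD, hpuu, huz]; simp
  have hDz : (t - 1) z = -(2 * Q z) • u := by
    rw [hD, QuadraticMap.polar_comm (⇑Q) z u, huz, QuadraticMap.polar_self]
    simp
  have hD2 : ∀ x, ((t - 1) ^ 2 : V →ₗ[F] V) x = -(2 * Q z * QuadraticMap.polar (⇑Q) x u) • u := by
    intro x
    rw [pow_two, Module.End.mul_apply, hD x]
    simp only [map_sub, map_smul, hDu, hDz, smul_zero, sub_zero]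
    rw [smul_smul]
    congr 1
    ring
  have hD3 : (t - 1) ^ 3 = 0 := by
    ext x
    rw [pow_succ', Module.End.mul_apply, hD2, map_smul, hDu, smul_zero]
    rfl
  have hc1 : c = 1 := c_eq_one_of_unipotent' τ hh hsb t 3 hD3 c
    (by intro v; rw [htE, htE]; exact hc v)
  rw [hc1] at hc
  simp only [one_smul] at hc
  have hcD : ∀ v, hh ((t - 1) v) = (t - 1) (hh v) := by
    intro v
    have e1 : (t - 1) v = t v - v := rfl
    have e2 : (t - 1) (hh v) = t (hh v) - hh v := rfl
    rw [e1, e2, semi_sub hsb, htE, htE, hc]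
  have hcD2 : ∀ v, hh (((t - 1) ^ 2 : V →ₗ[F] V) v) = ((t - 1) ^ 2 : V →ₗ[F] V) (hh v) := by
    intro v
    rw [pow_two, Module.End.mul_apply, Module.End.mul_apply, hcD, hcD]
  -- choose `x` with `polar x u ≠ 0`
  obtain ⟨x, hx⟩ : ∃ x, QuadraticMap.polarBilin Q u x ≠ 0 := by
    by_contra hcon
    push Not at hcon
    exact hu0 (hQ.1 u hcon)
  rw [QuadraticMap.polarBilin_apply_apply, QuadraticMap.polar_comm] at hx
  have h3 := hcD2 x
  rw [hD2, hD2, hsb.smul] at h3
  have hl0 : τ (-(2 * Q z * QuadraticMap.polar (⇑Q) x u)) ≠ 0 := by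
    rw [Ne, map_eq_zero_iff τ τ.injective, neg_eq_zero]
    exact mul_ne_zero (mul_ne_zero h2 hQz) hx
  refine ⟨(τ (-(2 * Q z * QuadraticMap.polar (⇑Q) x u)))⁻¹ *
    (-(2 * Q z * QuadraticMap.polar (⇑Q) (hh x) u)), ?_⟩
  rw [mul_smul, ← h3, smul_smul, inv_mul_cancel₀ hl0, one_smul]

end abstract

end Cfsg.Agent.Lib.Helper32_PSLBAL_KEYOCOMM
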