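import Mathlib
import Cfsg.Agent.Lib.Helper14_PSLBalDefs
import Cfsg.Agent.Lib.Helper32_PSLBAL_KEYOCOMM

/-!
# PSLBAL package KEYOGEOM (helper14's market): a bijective semilinear map fixing every singular
point of a non-degenerate quadratic space of dimension `≥ 3` (odd characteristic) is a scalar
-/

set_option autoImplicit false

namespace Cfsg.Agent.Lib.Helper32_PSLBAL_KEYOGEOM

open Matrix Module Cfsg Cfsg.Agent.Lib.Helper14_BalDefs Cfsg.Agent.Lib.Helper14_BalAbs
  Cfsg.Agent.Lib.Helper14_OmegaSimple Cfsg.Agent.Lib.Helper14_PSLBalCore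
  Cfsg.Agent.Lib.Helper14_PSLBalDefs Cfsg.Agent.Lib.Helper14_PSLAut
  Cfsg.Agent.Lib.Helper44_PSLnRoot Cfsg.Agent.Lib.Helper14_FieldAutPSL
  Cfsg.Agent.Lib.Helper32_PSLBAL_KEYOCOMM

section abstract

variable {F V : Type*} [Field F] [AddCommGroup V] [Module F V]

theorem polar_combo_f (Q : QuadraticForm F V) {e f w : V} (hf : Q f = 0)
    (hef : QuadraticMap.polar (⇑Q) e f = 1) (hfw : QuadraticMap.polar (⇑Q) f w = 0)
    (α β γ : F) : QuadraticMap.polar (⇑Q) (α • e + β • w + γ • f) f = α := by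
  rw [QuadraticMap.polar_add_left, QuadraticMap.polar_add_left, QuadraticMap.polar_smul_left,
    QuadraticMap.polar_smul_left, QuadraticMap.polar_smul_left, hef,
    QuadraticMap.polar_comm (⇑Q) w f, hfw, QuadraticMap.polar_self, hf]
  simp

theorem polar_combo_e (Q : QuadraticForm F V) {e f w : V} (he : Q e = 0)
    (hef : QuadraticMap.polar (⇑Q) e f = 1) (hew : QuadraticMap.polar (⇑Q) e w = 0)
    (α β γ : F) : QuadraticMap.polar (⇑Q) (α • e + β • w + γ • f) e = γ := by
  rw [QuadraticMap.polar_add_left, QuadraticMap.polar_add_left, QuadraticMap.polar_smul_left,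
    QuadraticMap.polar_smul_left, QuadraticMap.polar_smul_left,
    QuadraticMap.polar_comm (⇑Q) f e, hef,
    QuadraticMap.polar_comm (⇑Q) w e, hew, QuadraticMap.polar_self, he]
  simp

theorem polar_combo_w (Q : QuadraticForm F V) {e f w : V}
    (hew : QuadraticMap.polar (⇑Q) e w = 0) (hfw : QuadraticMap.polar (⇑Q) f w = 0)
    (α β γ : F) : QuadraticMap.polar (⇑Q) (α • e + β • w + γ • f) w = β * (2 * Q w) := by
  rw [QuadraticMap.polar_add_left, QuadraticMap.polar_add_left, QuadraticMap.polar_smul_left,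
    QuadraticMap.polar_smul_left, QuadraticMap.polar_smul_left, hew, hfw,
    QuadraticMap.polar_self]
  simp

theorem coords (h2 : (2 : F) ≠ 0) (Q : QuadraticForm F V) {e f w : V} (he : Q e = 0) (hf : Q f = 0)
    (hef : QuadraticMap.polar (⇑Q) e f = 1) (hew : QuadraticMap.polar (⇑Q) e w = 0)
    (hfw : QuadraticMap.polar (⇑Q) f w = 0) (hw : Q w ≠ 0) {α β γ α' β' γ' : F}
    (h : α • e + β • w + γ • f = α' • e + β' • w + γ' • f) : α = α' ∧ β = β' ∧ γ = γ' := by
  refine ⟨?_, ?_, ?_⟩
  · have := congrArg (fun v => QuadraticMap.polar (⇑Q) v f) h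
    simp only [polar_combo_f Q hf hef hfw] at this
    exact this
  · have := congrArg (fun v => QuadraticMap.polar (⇑Q) v w) h
    simp only [polar_combo_w Q hew hfw] at this
    exact mul_right_cancel₀ (mul_ne_zero h2 hw) this
  · have := congrArg (fun v => QuadraticMap.polar (⇑Q) v e) h
    simp only [polar_combo_e Q he hef hew] at this
    exact this

theorem Q_combo (Q : QuadraticForm F V) {e f w : V} (he : Q e = 0) (hf : Q f = 0)
    (hef : QuadraticMap.polar (⇑Q) e f = 1) (hew : QuadraticMap.polar (⇑Q) e w = 0)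
    (hfw : QuadraticMap.polar (⇑Q) f w = 0) (α β γ : F) :
    Q (α • e + β • w + γ • f) = β * β * Q w + α * γ := by
  rw [QuadraticMap.map_add (⇑Q), QuadraticMap.map_add (⇑Q), QuadraticMap.map_smul,
    QuadraticMap.map_smul, QuadraticMap.map_smul, he, hf,
    QuadraticMap.polar_add_left, QuadraticMap.polar_smul_left, QuadraticMap.polar_smul_left,
    QuadraticMap.polar_smul_right, QuadraticMap.polar_smul_right, QuadraticMap.polar_smul_right,
    hef, hew, QuadraticMap.polar_smul_left, QuadraticMap.polar_comm (⇑Q) w f, hfw]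
  simp only [smul_eq_mul]
  ring

/-- The core computation: for a hyperbolic pair `e, f` and a non-singular `w ⊥ e, f`. -/
theorem core (h2 : (2 : F) ≠ 0) (Q : QuadraticForm F V) (τ : F ≃+* F) (hh : V → V)
    (hsb : SemiBij τ hh) (hfix : ∀ u : V, Q u = 0 → ∃ a : F, hh u = a • u)
    {e f w : V} (he : Q e = 0) (hf : Q f = 0)
    (hef : QuadraticMap.polar (⇑Q) e f = 1) (hew : QuadraticMap.polar (⇑Q) e w = 0)
    (hfw : QuadraticMap.polar (⇑Q) f w = 0) (hw : Q w ≠ 0)
    {a b : F} (ha0 : a ≠ 0) (hae : hh e = a • e) (hbf : hh f = b • f) :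
    hh w = a • w ∧ (∀ t, τ t = t) ∧ b = a := by
  have hP : ∀ t : F, Q ((1 : F) • e + t • w + (-(t * t * Q w)) • f) = 0 := by
    intro t
    rw [Q_combo Q he hf hef hew hfw]
    ring
  have hhc : ∀ α β γ : F, hh (α • e + β • w + γ • f) =
      (τ α * a) • e + τ β • hh w + (τ γ * b) • f := by
    intro α β γ
    rw [hsb.add, hsb.add, hsb.smul, hsb.smul, hsb.smul, hae, hbf, smul_smul, smul_smul]
  choose lam hlam using fun t => hfix _ (hP t)
  have e1 := hlam 1
  have em := hlam (-1)
  rw [hhc] at e1 em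
  -- sum
  have hsum : (2 * a) • e + (0 : F) • w + (-(2 * τ (Q w) * b)) • f =
      (lam 1 + lam (-1)) • e + (lam 1 - lam (-1)) • w + (-((lam 1 + lam (-1)) * Q w)) • f := by
    simp only [map_one, map_neg, map_mul] at e1 em
    linear_combination (norm := module) e1 + em
  obtain ⟨c1, c2, c3⟩ := coords h2 Q he hf hef hew hfw hw hsum
  have hl : lam (-1) = lam 1 := by
    have := sub_eq_zero.1 c2.symm
    exact this.symm
  have hl1 : lam 1 = a := by
    rw [hl] at c1
    have : 2 * (lam 1 - a) = 0 := by linear_combination -c1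
    rcases mul_eq_zero.1 this with h | h
    · exact absurd h h2
    · exact sub_eq_zero.1 h
  have hcb : τ (Q w) * b = a * Q w := by
    rw [hl, hl1] at c3
    have : 2 * (τ (Q w) * b - a * Q w) = 0 := by linear_combination -c3
    rcases mul_eq_zero.1 this with h | h
    · exact absurd h h2
    · exact sub_eq_zero.1 h
  -- difference
  have hW : hh w = a • w := by
    rw [hl1] at e1
    simp only [map_one, map_neg, map_mul] at e1
    have : hh w = a • w + (τ (Q w) * b - a * Q w) • f := by
      linear_combination (norm := module) e1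
    rw [this, hcb, sub_self, zero_smul, add_zero]
  have hτ : ∀ t, τ t = t := by
    intro t
    have et := hlam t
    rw [hhc, hW, smul_smul, map_one, one_mul] at et
    have et' : a • e + (τ t * a) • w + (τ (-(t * t * Q w)) * b) • f =
        lam t • e + (lam t * t) • w + (lam t * (-(t * t * Q w))) • f := by
      rw [et]
      module
    obtain ⟨d1, d2, -⟩ := coords h2 Q he hf hef hew hfw hw et'
    rw [← d1] at d2
    have : a * (τ t - t) = 0 := by linear_combination d2
    rcases mul_eq_zero.1 this with h | h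
    · exact absurd h ha0
    · exact sub_eq_zero.1 h
  refine ⟨hW, hτ, ?_⟩
  rw [hτ] at hcb
  have : Q w * (b - a) = 0 := by linear_combination hcb
  rcases mul_eq_zero.1 this with h | h
  · exact absurd h hw
  · exact sub_eq_zero.1 h

variable [Fintype F] [FiniteDimensional F V]

/-- **KEYOGEOM**. -/
theorem key_O_geom (h2 : (2 : F) ≠ 0) (Q : QuadraticForm F V)
    (hQ : (QuadraticMap.polarBilin Q).Nondegenerate) (hdim : 3 ≤ finrank F V)
    (τ : F ≃+* F) (hh : V → V) (hsb : SemiBij τ hh)
    (hfix : ∀ u : V, Q u = 0 → ∃ a : F, hh u = a • u) :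
    τ = RingEquiv.refl F ∧ ∃ a : F, ∀ v, hh v = a • v := by
  obtain ⟨e, he0, he⟩ := Cfsg.Agent.Lib.Helper44_QuadClass.exists_singular Q hdim
  obtain ⟨f, hf, hef⟩ :=
    Cfsg.Agent.Lib.Helper44_QuadClass.exists_hyperbolic_partner Q hQ he0 he
  obtain ⟨a, hae⟩ := hfix e he
  obtain ⟨b, hbf⟩ := hfix f hf
  have ha0 : a ≠ 0 := by
    rintro rfl
    rw [zero_smul] at hae
    apply he0
    apply hsb.bij.1
    rw [hae, semi_zero hsb]
  obtain ⟨w₀, hew₀, hfw₀, hw₀⟩ := exists_nonsingular_perp_pair Q hQ hdim he hf hef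
  obtain ⟨-, hτ, hba⟩ := core h2 Q τ hh hsb hfix he hf hef hew₀ hfw₀ hw₀ ha0 hae hbf
  subst hba
  refine ⟨RingEquiv.ext hτ, b, ?_⟩
  have hperp : ∀ w : V, QuadraticMap.polar (⇑Q) e w = 0 → QuadraticMap.polar (⇑Q) f w = 0 →
      hh w = b • w := by
    intro w hew hfw
    by_cases hw : Q w = 0
    · obtain ⟨μ, hμ⟩ := hfix w hw
      have hs : Q (e + w) = 0 := by
        rw [QuadraticMap.map_add (⇑Q), he, hw, hew]
        simp
      obtain ⟨ν, hν⟩ := hfix _ hs
      rw [hsb.add, hae, hμ] at hν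
      have h3 := congrArg (fun v => QuadraticMap.polar (⇑Q) v f) hν
      simp only [QuadraticMap.polar_add_left, QuadraticMap.polar_smul_left, hef,
        QuadraticMap.polar_comm (⇑Q) w f, hfw, smul_add] at h3
      have hνa : ν = b := by simpa using h3.symm
      rw [hνa, smul_add] at hν
      rw [hμ]
      exact add_left_cancel hν
    · exact (core h2 Q τ hh hsb hfix he hf hef hew hfw hw ha0 hae hbf).1
  intro v
  obtain ⟨α, hα⟩ : ∃ α, α = QuadraticMap.polar (⇑Q) v f := ⟨_, rfl⟩
  obtain ⟨β, hβ⟩ : ∃ β, β = QuadraticMap.polar (⇑Q) v e := ⟨_, rfl⟩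
  obtain ⟨w', hw'⟩ : ∃ w', w' = v - α • e - β • f := ⟨_, rfl⟩
  have hv : v = α • e + β • f + w' := by rw [hw']; abel
  have hpee : QuadraticMap.polar (⇑Q) e e = 0 := by
    rw [QuadraticMap.polar_self, he, smul_zero]
  have hpff : QuadraticMap.polar (⇑Q) f f = 0 := by
    rw [QuadraticMap.polar_self, hf, smul_zero]
  have hfe : QuadraticMap.polar (⇑Q) f e = 1 := by
    rw [QuadraticMap.polar_comm]; exact hef
  have hew' : QuadraticMap.polar (⇑Q) e w' = 0 := by
    rw [hw', QuadraticMap.polar_sub_right, QuadraticMap.polar_sub_right,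
      QuadraticMap.polar_smul_right, QuadraticMap.polar_smul_right, hpee, hef,
      QuadraticMap.polar_comm (⇑Q) e v, ← hβ]
    simp
  have hfw' : QuadraticMap.polar (⇑Q) f w' = 0 := by
    rw [hw', QuadraticMap.polar_sub_right, QuadraticMap.polar_sub_right,
      QuadraticMap.polar_smul_right, QuadraticMap.polar_smul_right, hpff, hfe,
      QuadraticMap.polar_comm (⇑Q) f v, ← hα]
    simp
  calc hh v = hh (α • e + β • f + w') := by rw [← hv]
    _ = b • (α • e + β • f + w') := by
        rw [hsb.add, hsb.add, hsb.smul, hsb.smul, hτ, hτ, hae, hbf, hperp w' hew' hfw']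
        module
    _ = b • v := by rw [← hv]

end abstract

end Cfsg.Agent.Lib.Helper32_PSLBAL_KEYOGEOM
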