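import Mathlib
import Cfsg.Agent.Lib.Helper14_PSLBalDefs

/-!
# PSLBAL package ONORM (helper14's market): similitudes normalise `TE Q`
-/

set_option autoImplicit false

namespace Cfsg.Agent.Lib.Helper32_PSLBAL_ONORM

open Matrix Module Cfsg Cfsg.Agent.Lib.Helper14_BalDefs Cfsg.Agent.Lib.Helper14_BalAbs
  Cfsg.Agent.Lib.Helper14_OmegaSimple Cfsg.Agent.Lib.Helper14_PSLBalCore
  Cfsg.Agent.Lib.Helper14_PSLBalDefs Cfsg.Agent.Lib.Helper14_PSLAut
  Cfsg.Agent.Lib.Helper44_PSLnRoot Cfsg.Agent.Lib.Helper14_FieldAutPSL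

section abstract

variable {F V : Type*} [Field F] [AddCommGroup V] [Module F V]

/-- The polar form of a similitude. -/
theorem polar_similitude (Q : QuadraticForm F V) (g : V ≃ₗ[F] V) (μ : F)
    (hg : ∀ v, Q (g v) = μ * Q v) (x y : V) :
    QuadraticMap.polar (⇑Q) (g x) (g y) = μ * QuadraticMap.polar (⇑Q) x y := by
  unfold QuadraticMap.polar
  rw [← map_add, hg, hg, hg]
  ring

/-- Conjugating an Eichler–Siegel transformation by a similitude. -/
theorem conj_E_similitude (Q : QuadraticForm F V) (g : V ≃ₗ[F] V) (μ : F) (hμ : μ ≠ 0)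
    (hg : ∀ v, Q (g v) = μ * Q v) {u z : V} (hu : Q u = 0)
    (huz : QuadraticMap.polar (⇑Q) u z = 0) :
    g * E Q u z * g⁻¹ = E Q (g u) (μ⁻¹ • g z) ∧ Q (g u) = 0 ∧
      QuadraticMap.polar (⇑Q) (g u) (μ⁻¹ • g z) = 0 := by
  have hgu : Q (g u) = 0 := by rw [hg, hu, mul_zero]
  have hguz : QuadraticMap.polar (⇑Q) (g u) (μ⁻¹ • g z) = 0 := by
    rw [QuadraticMap.polar_smul_right, polar_similitude Q g μ hg, huz, mul_zero, smul_zero]
  refine ⟨?_, hgu, hguz⟩
  ext x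
  obtain ⟨y, rfl⟩ : ∃ y, x = g y := ⟨g⁻¹ x, by simp⟩
  have h1 : (g * E Q u z * g⁻¹) (g y) = g (E Q u z y) := by
    simp [LinearEquiv.mul_apply]
  rw [h1, E_apply Q hu huz, E_apply Q hgu hguz]
  simp only [map_sub, map_add, map_smul]
  rw [polar_similitude Q g μ hg, QuadraticMap.polar_smul_right, polar_similitude Q g μ hg,
    QuadraticMap.map_smul, hg]
  simp only [smul_eq_mul]
  have e1 : (μ * QuadraticMap.polar (⇑Q) y u) • μ⁻¹ • g z = QuadraticMap.polar (⇑Q) y u • g z := by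
    rw [smul_smul]
    congr 1
    field_simp
  have e2 : μ⁻¹ * (μ * QuadraticMap.polar (⇑Q) y z) = QuadraticMap.polar (⇑Q) y z := by
    field_simp
  have e3 : μ⁻¹ * μ⁻¹ * (μ * Q z) * (μ * QuadraticMap.polar (⇑Q) y u)
      = Q z * QuadraticMap.polar (⇑Q) y u := by
    field_simp
  rw [e1, e2, e3]

/-- **ONORM**. -/
theorem conj_mem_TE_of_similitude (Q : QuadraticForm F V) (g : V ≃ₗ[F] V) (μ : F) (hμ : μ ≠ 0)
    (hg : ∀ v, Q (g v) = μ * Q v) (t : V ≃ₗ[F] V) (ht : t ∈ TE Q) : g * t * g⁻¹ ∈ TE Q := by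
  have hle : TE Q ≤ (TE Q).comap (MulAut.conj g).toMonoidHom := by
    unfold TE
    rw [Subgroup.closure_le]
    rintro s ⟨u, z, hu, huz, rfl⟩
    show (MulAut.conj g).toMonoidHom (E Q u z) ∈ Subgroup.closure (eichSet Q)
    have h := conj_E_similitude Q g μ hμ hg hu huz
    have h1 : (MulAut.conj g).toMonoidHom (E Q u z) = g * E Q u z * g⁻¹ := rfl
    rw [h1, h.1]
    exact Subgroup.subset_closure ⟨_, _, h.2.1, h.2.2, rfl⟩
  exact hle ht

end abstract

end Cfsg.Agent.Lib.Helper32_PSLBAL_ONORM
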