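import Mathlib
import Cfsg.Agent.Lib.Helper14_PSLBalDefs

/-!
# PSLBAL-KUNI (for helper14, S2686)

A bijective semilinear map commuting up to a scalar `c` with a unipotent linear map: `c = 1`.
-/

set_option autoImplicit false

namespace Cfsg.Agent.Lib.Helper69_PSLBAL_KUNI

open Matrix Module Cfsg Cfsg.Agent.Lib.Helper14_PSLBalDefs

section abstract

variable {F V : Type*} [Field F] [AddCommGroup V] [Module F V]

theorem semiBij_zero (τ : F ≃+* F) (hh : V → V) (hsb : SemiBij τ hh) : hh 0 = 0 := by
  have h : hh 0 + hh 0 = hh 0 + 0 := by rw [← hsb.add, add_zero, add_zero]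
  exact add_left_cancel h

theorem semiBij_sub (τ : F ≃+* F) (hh : V → V) (hsb : SemiBij τ hh) (a b : V) :
    hh (a - b) = hh a - hh b := by
  have h := hsb.add (a - b) b
  rw [sub_add_cancel] at h
  rw [h]
  abel

/-- **KUNI** -/
theorem c_eq_one_of_unipotent [Nontrivial V] (τ : F ≃+* F) (hh : V → V) (hsb : SemiBij τ hh)
    (t : V →ₗ[F] V) (k : ℕ) (hnil : (t - 1) ^ k = 0) (c : F)
    (hc : ∀ v, hh (t v) = c • t (hh v)) : c = 1 := by
  set N' : Module.End F V := c • t - 1 with hN'
  have step : ∀ w : V, N' (hh w) = hh ((t - 1) w) := by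
    intro w
    rw [hN', LinearMap.sub_apply, LinearMap.smul_apply, Module.End.one_apply, ← hc,
      LinearMap.sub_apply, Module.End.one_apply, semiBij_sub τ hh hsb]
  have key : ∀ (j : ℕ) (v : V), (N' ^ j) (hh v) = hh (((t - 1) ^ j) v) := by
    intro j
    induction j with
    | zero => intro v; simp
    | succ j ih =>
      intro v
      rw [pow_succ', pow_succ', Module.End.mul_apply, Module.End.mul_apply, ih, step]
  have hN'nil : N' ^ k = 0 := by
    apply LinearMap.ext
    intro w
    obtain ⟨v, rfl⟩ := hsb.bij.2 w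
    rw [key, hnil, LinearMap.zero_apply, semiBij_zero τ hh hsb, LinearMap.zero_apply]
  have h1 : IsNilpotent N' := ⟨k, hN'nil⟩
  have h2 : IsNilpotent (c • (t - 1)) := by
    refine ⟨k, ?_⟩
    rw [smul_pow, hnil, smul_zero]
  have hcomm : Commute N' (c • (t - 1)) := by
    rw [hN']
    have hct : Commute (c • t) (c • (t - 1)) := by
      apply Commute.smul_left
      apply Commute.smul_right
      exact (Commute.refl t).sub_right (Commute.one_right t)
    exact hct.sub_left (Commute.one_left _)
  have h3 : IsNilpotent (N' - c • (t - 1)) := hcomm.isNilpotent_sub h1 h2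
  have h4 : N' - c • (t - 1) = (c - 1) • (1 : Module.End F V) := by
    rw [hN', smul_sub, sub_smul, one_smul]
    abel
  rw [h4] at h3
  obtain ⟨j, hj⟩ := h3
  rw [smul_pow, one_pow] at hj
  have h5 : (c - 1) ^ j = 0 := by
    by_contra hne
    have : (1 : Module.End F V) = 0 := by
      have := congrArg (fun x => ((c - 1) ^ j)⁻¹ • x) hj
      simpa [smul_smul, inv_mul_cancel₀ hne] using this
    exact one_ne_zero this
  have h6 : c - 1 = 0 := pow_eq_zero_iff (by
    intro hj0
    rw [hj0, pow_zero] at h5
    exact one_ne_zero h5) |>.mp h5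
  exact sub_eq_zero.mp h6

end abstract

end Cfsg.Agent.Lib.Helper69_PSLBAL_KUNI
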