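import Mathlib
import Cfsg.Agent.Lib.Helper14_PSLBalDefs
import Cfsg.Agent.Lib.Helper69_PSLBAL_KUNI

/-!
# PSLBAL-KEYS (for helper14, S2686)

A bijective semilinear map of `F^n` commuting up to scalars with all elements of `Sp(M)`
(`M` skew, invertible, `2 ≠ 0`) is a scalar (and linear).
-/

set_option autoImplicit false

namespace Cfsg.Agent.Lib.Helper69_PSLBAL_KEYS

open Matrix Module Cfsg Cfsg.Agent.Lib.Helper14_PSLBalDefs Cfsg.Agent.Lib.Helper69_PSLBAL_KUNI

section matrix

variable {n : ℕ} {F : Type*} [Field F]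

local notation "SLn" => Matrix.SpecialLinearGroup (Fin n) F
local notation "Mn" => Matrix (Fin n) (Fin n) F

/-- the bilinear form with Gram matrix `M` -/
def BB (M : Mn) (x y : Fin n → F) : F := x ⬝ᵥ M *ᵥ y

theorem BB_skew (M : Mn) (hM : Mᵀ = -M) (x y : Fin n → F) : BB M x y = - BB M y x := by
  have h : BB M y x = - BB M x y := by
    unfold BB
    rw [Matrix.dotProduct_mulVec, ← Matrix.mulVec_transpose, hM, Matrix.neg_mulVec,
      neg_dotProduct, dotProduct_comm]
  rw [h, neg_neg]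

theorem BB_self (h2 : (2 : F) ≠ 0) (M : Mn) (hM : Mᵀ = -M) (u : Fin n → F) : BB M u u = 0 := by
  have h := BB_skew M hM u u
  have h' : 2 * BB M u u = 0 := by linear_combination h
  rcases mul_eq_zero.mp h' with h3 | h3
  · exact absurd h3 h2
  · exact h3

theorem BB_add_smul_left (M : Mn) (x u y : Fin n → F) (c : F) :
    BB M (x + c • u) y = BB M x y + c * BB M u y := by
  unfold BB
  rw [add_dotProduct, smul_dotProduct, smul_eq_mul]

theorem BB_add_smul_right (M : Mn) (x y u : Fin n → F) (c : F) :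
    BB M x (y + c • u) = BB M x y + c * BB M x u := by
  unfold BB
  rw [Matrix.mulVec_add, Matrix.mulVec_smul, dotProduct_add, dotProduct_smul, smul_eq_mul]

/-- the symplectic transvection -/
def TV (M : Mn) (u : Fin n → F) (a : F) : Mn := 1 + a • Matrix.vecMulVec u (M *ᵥ u)

theorem TV_mulVec (M : Mn) (u : Fin n → F) (a : F) (x : Fin n → F) :
    TV M u a *ᵥ x = x + (a * BB M x u) • u := by
  unfold TV BB
  rw [Matrix.add_mulVec, Matrix.one_mulVec, Matrix.smul_mulVec, Matrix.vecMulVec_mulVec,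
    op_smul_eq_smul, smul_smul, dotProduct_comm]

theorem TV_det (h2 : (2 : F) ≠ 0) (M : Mn) (hM : Mᵀ = -M) (u : Fin n → F) (a : F) :
    (TV M u a).det = 1 := by
  unfold TV
  rw [← Matrix.smul_vecMulVec, Matrix.vecMulVec_eq Unit,
    Matrix.det_one_add_replicateCol_mul_replicateRow, dotProduct_smul, smul_eq_mul]
  have : M *ᵥ u ⬝ᵥ u = BB M u u := by
    unfold BB
    rw [dotProduct_comm]
  rw [this, BB_self h2 M hM, mul_zero, add_zero]

theorem ext_of_bilin (A B : Mn) (h : ∀ x y : Fin n → F, x ⬝ᵥ A *ᵥ y = x ⬝ᵥ B *ᵥ y) : A = B := by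
  ext i j
  have := h (Pi.single i 1) (Pi.single j 1)
  simpa using this

theorem TV_mem_RS (h2 : (2 : F) ≠ 0) (M : Mn) (hM : Mᵀ = -M) (u : Fin n → F) (a : F) :
    (TV M u a)ᵀ * M * (TV M u a) = M := by
  apply ext_of_bilin
  intro x y
  have e : x ⬝ᵥ ((TV M u a)ᵀ * M * (TV M u a)) *ᵥ y = BB M (TV M u a *ᵥ x) (TV M u a *ᵥ y) := by
    unfold BB
    rw [← Matrix.mulVec_mulVec, ← Matrix.mulVec_mulVec, Matrix.dotProduct_mulVec,
      Matrix.vecMul_transpose]
  rw [e, TV_mulVec, TV_mulVec, BB_add_smul_left, BB_add_smul_right, BB_add_smul_right,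
    BB_self h2 M hM, BB_skew M hM u y]
  show BB M x y + a * BB M y u * BB M x u + a * BB M x u * (-BB M y u + a * BB M y u * 0) = BB M x y
  ring

/-- a bijective semilinear map of `F^n`, `n ≥ 2`, fixing every point is a scalar -/
theorem scalar_of_fix_points (hn : 2 ≤ n) (τ : F ≃+* F) (hh : (Fin n → F) → (Fin n → F))
    (hsb : SemiBij τ hh) (hfix : ∀ u : Fin n → F, ∃ a : F, hh u = a • u) :
    τ = RingEquiv.refl F ∧ ∃ a : F, ∀ v, hh v = a • v := by
  choose a ha using fun i : Fin n => hfix (Pi.single i 1)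
  have h0 : hh 0 = 0 := semiBij_zero τ hh hsb
  have hane : ∀ i, a i ≠ 0 := by
    intro i hi
    have h1 : hh (Pi.single i 1) = hh 0 := by rw [ha i, hi, zero_smul, h0]
    have h2 := hsb.bij.1 h1
    have h3 := congrFun h2 i
    simp at h3
  have key : ∀ i j : Fin n, i ≠ j → ∀ t : F, τ t * a j = a i * t := by
    intro i j hij t
    obtain ⟨l, hl⟩ := hfix (Pi.single i 1 + t • Pi.single j 1)
    rw [hsb.add, hsb.smul, ha i, ha j] at hl
    have ei := congrFun hl i
    have ej := congrFun hl j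
    simp [hij, hij.symm] at ei ej
    rw [ej, ← ei]
  let i0 : Fin n := ⟨0, by omega⟩
  let i1 : Fin n := ⟨1, by omega⟩
  have h01 : i0 ≠ i1 := by
    intro h
    have := congrArg Fin.val h
    simp [i0, i1] at this
  have haeq : ∀ j : Fin n, a j = a i0 := by
    intro j
    by_cases hj : j = i0
    · rw [hj]
    · have := key i0 j (Ne.symm hj) 1
      rw [map_one, one_mul, mul_one] at this
      exact this
  have hτ : ∀ t : F, τ t = t := by
    intro t
    have := key i0 i1 h01 t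
    rw [haeq i1] at this
    have h' : (τ t - t) * a i0 = 0 := by linear_combination this
    rcases mul_eq_zero.mp h' with h3 | h3
    · exact sub_eq_zero.mp h3
    · exact absurd h3 (hane i0)
  refine ⟨RingEquiv.ext hτ, a i0, ?_⟩
  let L : (Fin n → F) →ₗ[F] (Fin n → F) :=
    { toFun := hh
      map_add' := hsb.add
      map_smul' := fun c v => by rw [hsb.smul, hτ]; rfl }
  have hL : L = a i0 • LinearMap.id := by
    apply (Pi.basisFun F (Fin n)).ext
    intro i
    show hh ((Pi.basisFun F (Fin n)) i) = a i0 • (Pi.basisFun F (Fin n)) i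
    rw [Pi.basisFun_apply, ha i, haeq i]
  intro v
  show L v = a i0 • v
  rw [hL]
  rfl

variable [Fintype F]

/-- **KEYS** -/
theorem key_S (h2 : (2 : F) ≠ 0) (hn : 2 ≤ n) (M : Mn) (hM : Mᵀ = -M) (hdet : M.det ≠ 0)
    (τ : F ≃+* F) (hh : (Fin n → F) → (Fin n → F)) (hsb : SemiBij τ hh)
    (hcomm : ∀ s : SLn, s ∈ RS M → ∃ c : F, ∀ v, hh ((s : Mn) *ᵥ v) = c • ((s : Mn) *ᵥ hh v)) :
    τ = RingEquiv.refl F ∧ ∃ a : F, ∀ v, hh v = a • v := by
  haveI : Nonempty (Fin n) := ⟨⟨0, by omega⟩⟩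
  apply scalar_of_fix_points hn τ hh hsb
  intro u
  by_cases hu : u = 0
  · exact ⟨1, by rw [hu, semiBij_zero τ hh hsb, smul_zero]⟩
  -- a vector `x` with `B(x,u) ≠ 0`
  have hMu : M *ᵥ u ≠ 0 := fun h => hu (Matrix.eq_zero_of_mulVec_eq_zero hdet h)
  obtain ⟨i, hi⟩ : ∃ i, (M *ᵥ u) i ≠ 0 := by
    by_contra hcon
    push Not at hcon
    exact hMu (funext hcon)
  set x : Fin n → F := Pi.single i 1 with hx
  have hBx : BB M x u ≠ 0 := by
    unfold BB
    rw [hx, single_one_dotProduct]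
    exact hi
  -- the transvection
  obtain ⟨s, hs⟩ : ∃ s : SLn, (s : Mn) = TV M u 1 := ⟨⟨_, TV_det h2 M hM u 1⟩, rfl⟩
  have hsRS : s ∈ RS M := by
    rw [mem_RS, hs]
    exact TV_mem_RS h2 M hM u 1
  obtain ⟨c, hc⟩ := hcomm s hsRS
  rw [hs] at hc
  have hnil : (Matrix.mulVecLin (TV M u 1) - 1) ^ 2 = 0 := by
    apply LinearMap.ext
    intro v
    rw [pow_two, Module.End.mul_apply]
    simp only [LinearMap.sub_apply, Module.End.one_apply, Matrix.mulVecLin_apply, TV_mulVec,
      add_sub_cancel_left, one_mul, LinearMap.zero_apply]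
    have : BB M (BB M v u • u) u = 0 := by
      have := BB_add_smul_left M 0 u u (BB M v u)
      rw [zero_add, BB_self h2 M hM, mul_zero, add_zero] at this
      unfold BB at this ⊢
      rw [this]
      simp
    rw [this, zero_smul]
  have hc1 : c = 1 := c_eq_one_of_unipotent τ hh hsb (Matrix.mulVecLin (TV M u 1)) 2 hnil c
    (fun v => by rw [Matrix.mulVecLin_apply, Matrix.mulVecLin_apply]; exact hc v)
  have h1 := hc x
  rw [hc1, one_smul, TV_mulVec, TV_mulVec, hsb.add, hsb.smul, one_mul, one_mul] at h1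
  have h3 : τ (BB M x u) • hh u = BB M (hh x) u • u := add_left_cancel h1
  have hτ0 : τ (BB M x u) ≠ 0 := by
    intro h
    apply hBx
    have := congrArg τ.symm h
    simpa using this
  refine ⟨(τ (BB M x u))⁻¹ * BB M (hh x) u, ?_⟩
  rw [mul_smul, ← h3, smul_smul, inv_mul_cancel₀ hτ0, one_smul]

end matrix

end Cfsg.Agent.Lib.Helper69_PSLBAL_KEYS
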