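import Mathlib
import Cfsg.Prelude.Def_GeometricClasses
import Cfsg.Prelude.Def_LieClassical
import Cfsg.Agent.Lib.Helper94_Bridge
import Cfsg.Agent.Lib.Helper94_Herm

set_option autoImplicit false

/-!
Bridge between the prelude's `hermForm n F q`, `GU n F q` (for `|F| = q ^ 2`) and the abstract
hermitian forms of `Helper94_Herm`.
-/

namespace Cfsg.Agent.Lib.Helper94_HermBridge

open Matrix Module Cfsg.Agent.Lib.Helper94_Symp Cfsg.Agent.Lib.Helper94_Bridge
  Cfsg.Agent.Lib.Helper94_Herm

variable {F : Type*} [Field F] [Fintype F]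

/-- For `|F| = q ^ 2` the map `x ↦ x ^ q` is a field involution different from the identity. -/
lemma exists_frob {q : ℕ} (hF : Fintype.card F = q ^ 2) :
    ∃ σ : F →+* F, (∀ x, σ x = x ^ q) ∧ Invol σ := by
  obtain ⟨p, hchar⟩ := CharP.exists F
  obtain ⟨e, hp, he⟩ := FiniteField.card F p
  haveI : ExpChar F p := ExpChar.prime hp
  have hdvd : q ∣ p ^ (e : ℕ) := by
    rw [← he, hF]
    exact dvd_pow_self q two_ne_zero
  obtain ⟨k, -, hk⟩ := (Nat.dvd_prime_pow hp).mp hdvd
  have hq2 : 2 ≤ q := by
    have h1 : 1 < Fintype.card F := Fintype.one_lt_card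
    rw [hF] at h1
    by_contra hlt
    push Not at hlt
    interval_cases q <;> simp at h1
  refine ⟨iterateFrobenius F p k, fun x => by rw [iterateFrobenius_def, hk], ?_, ?_⟩
  · intro a
    rw [iterateFrobenius_def, iterateFrobenius_def, ← hk, ← pow_mul, ← sq, ← hF,
      FiniteField.pow_card]
  · by_contra hcon
    push Not at hcon
    have h1 : ∀ x : Fˣ, x ^ (q - 1) = 1 := by
      intro x
      apply Units.ext
      have h2 := hcon (x : F)
      rw [iterateFrobenius_def, ← hk] at h2
      have h3 : (x : F) ^ (q - 1) * (x : F) = (x : F) := by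
        rw [← pow_succ, Nat.sub_add_cancel (by omega), h2]
      have hx0 : (x : F) ≠ 0 := x.ne_zero
      rw [Units.val_pow_eq_pow_val, Units.val_one]
      exact mul_right_cancel₀ hx0 (by rw [h3, one_mul])
    have h4 := (FiniteField.forall_pow_eq_one_iff F (q - 1)).mp h1
    rw [hF] at h4
    have h5 : q - 1 < q ^ 2 - 1 := by
      have : q < q ^ 2 := by nlinarith
      omega
    have h6 := Nat.le_of_dvd (by omega) h4
    omega

variable {n q : ℕ} (σ : F →+* F) (hσq : ∀ x, σ x = x ^ q)

/-- The standard hermitian form as a sesquilinear map. -/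
noncomputable def hermB (n : ℕ) {q : ℕ} (σ : F →+* F) (hσq : ∀ x, σ x = x ^ q) :
    (Fin n → F) →ₗ[F] (Fin n → F) →ₛₗ[σ] F :=
  LinearMap.mk₂'ₛₗ (RingHom.id F) σ (Cfsg.hermForm n F q)
    (fun x y v => by
      simp only [Cfsg.hermForm, Pi.add_apply, add_mul, Finset.sum_add_distrib])
    (fun c x v => by
      simp only [Cfsg.hermForm, Pi.smul_apply, smul_eq_mul, RingHom.id_apply, Finset.mul_sum,
        mul_assoc])
    (fun v x y => by
      simp only [Cfsg.hermForm, Pi.add_apply, ← hσq, map_add, mul_add, Finset.sum_add_distrib])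
    (fun c v x => by
      simp only [Cfsg.hermForm, Pi.smul_apply, smul_eq_mul, ← hσq, map_mul, Finset.mul_sum]
      exact Finset.sum_congr rfl (fun i _ => by ring))

lemma hermB_apply (u v : Fin n → F) : hermB n σ hσq u v = Cfsg.hermForm n F q u v := rfl

include hσq in
lemma hermB_isHerm (hσ : Invol σ) : IsHerm (hermB n σ hσq) := by
  intro x y
  rw [hermB_apply, hermB_apply]
  simp only [Cfsg.hermForm, map_sum, map_mul, ← hσq, hσ.invol]
  exact Finset.sum_congr rfl (fun i _ => mul_comm _ _)

lemma hermB_nondeg : NondegOn (hermB n σ hσq) ⊤ := by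
  have hq0 : q ≠ 0 := by
    rintro rfl
    have := hσq 0
    rw [map_zero, pow_zero] at this
    exact zero_ne_one this
  intro x _ hx0
  obtain ⟨i, hi⟩ := Function.ne_iff.mp hx0
  refine ⟨Pi.single i 1, trivial, ?_⟩
  rw [hermB_apply]
  simp only [Cfsg.hermForm, Pi.single_apply]
  rw [Finset.sum_eq_single i]
  · simpa using hi
  · intro j _ hji
    simp [hji, hq0]
  · intro h
    exact absurd (Finset.mem_univ i) h

/-- The prelude's `GU` is the pullback of the abstract isometry group. -/
lemma GU_eq : Cfsg.GU n F q = (uG (hermB n σ hσq)).comap (glEquiv (Fin n) F).toMonoidHom := by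
  ext g
  simp only [Cfsg.GU, Cfsg.preserving, Subgroup.mem_mk, Subgroup.mem_comap, mem_uG]
  constructor
  · intro h u v
    have := h u v
    simpa [hermB_apply] using this
  · intro h u v
    have := h u v
    simpa [hermB_apply] using this

end Cfsg.Agent.Lib.Helper94_HermBridge
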