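import Mathlib
import Cfsg.Agent.Lib.Helper14_PSLBalDefs
import Cfsg.Agent.S0283

/-!
# PSLBAL-USTR (for helper14, S2686)

`Cfsg.SU n F q₀`, `q₀` odd, `n ≥ 3`: perfect, simple central quotient, non-scalar involution.
-/

set_option autoImplicit false

namespace Cfsg.Agent.Lib.Helper69_PSLBAL_USTR

open Matrix Module Cfsg

section matrix

variable {n : ℕ} {F : Type*} [Field F] [Fintype F]

local notation "SLn" => Matrix.SpecialLinearGroup (Fin n) F
local notation "Mn" => Matrix (Fin n) (Fin n) F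

/-- the diagonal sign vector `(-1, -1, 1, …, 1)` -/
def sgn (n : ℕ) (F : Type*) [Field F] : Fin n → F := fun i => if i.val < 2 then -1 else 1

theorem sgn_mul_self (i : Fin n) : sgn n F i * sgn n F i = 1 := by
  unfold sgn
  split_ifs <;> simp

theorem prod_sgn (hn : 2 ≤ n) : ∏ i, sgn n F i = 1 := by
  obtain ⟨m, rfl⟩ : ∃ m, n = m + 2 := ⟨n - 2, by omega⟩
  rw [Fin.prod_univ_succ, Fin.prod_univ_succ]
  have h0 : sgn (m + 2) F 0 = -1 := by simp [sgn]
  have h1 : sgn (m + 2) F (Fin.succ 0) = -1 := by simp [sgn]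
  have h2 : ∀ i : Fin m, sgn (m + 2) F i.succ.succ = 1 := by
    intro i
    simp [sgn]
  rw [h0, h1, Finset.prod_congr rfl (fun i _ => h2 i)]
  simp

/-- **USTR** -/
theorem su_structure {q₀ : ℕ} (hF : Fintype.card F = q₀ ^ 2) (h2 : (2 : F) ≠ 0) (hn : 3 ≤ n) :
    commutator ↥(Cfsg.SU n F q₀) = ⊤ ∧
      IsSimpleGroup (↥(Cfsg.SU n F q₀) ⧸ Subgroup.center ↥(Cfsg.SU n F q₀)) ∧
      ∃ t ∈ Cfsg.SU n F q₀, t * t = 1 ∧ ¬ ∃ c : F, (t : Mn) = c • (1 : Mn) := by
  have hchar : ringChar F ≠ 2 := by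
    intro h
    haveI : CharP F 2 := ringChar.of_eq h
    apply h2
    have := CharP.cast_eq_zero F 2
    exact_mod_cast this
  have hcard : Fintype.card F % 2 = 1 := FiniteField.odd_card_of_char_ne_two hchar
  have hqodd : Odd q₀ := by
    rw [hF] at hcard
    rcases Nat.even_or_odd q₀ with he | ho
    · exfalso
      have : Even (q₀ ^ 2) := Nat.even_pow.mpr ⟨he, two_ne_zero⟩
      rw [Nat.even_iff] at this
      omega
    · exact ho
  have hq2 : ¬ (n = 3 ∧ q₀ = 2) := by
    rintro ⟨-, h⟩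
    rw [h] at hqodd
    exact absurd hqodd (by decide)
  refine ⟨Cfsg.Agent.S0283.su_perfect hF n hn hq2, Cfsg.Agent.S0283.result hF n hn hq2, ?_⟩
  have hdet : (Matrix.diagonal (sgn n F)).det = 1 := by
    rw [Matrix.det_diagonal, prod_sgn (by omega)]
  obtain ⟨t, ht⟩ : ∃ t : SLn, (t : Mn) = Matrix.diagonal (sgn n F) := ⟨⟨_, hdet⟩, rfl⟩
  refine ⟨t, ?_, ?_, ?_⟩
  · -- preserves the hermitian form
    intro u v
    show hermForm n F q₀ ((t : Mn) *ᵥ u) ((t : Mn) *ᵥ v) = hermForm n F q₀ u v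
    rw [ht]
    unfold hermForm
    refine Finset.sum_congr rfl fun i _ => ?_
    rw [Matrix.mulVec_diagonal, Matrix.mulVec_diagonal, mul_pow]
    have : sgn n F i * sgn n F i ^ q₀ = 1 := by
      unfold sgn
      split_ifs
      · rw [hqodd.neg_one_pow]
        norm_num
      · simp
    calc sgn n F i * u i * (sgn n F i ^ q₀ * v i ^ q₀)
        = (sgn n F i * sgn n F i ^ q₀) * (u i * v i ^ q₀) := by ring
      _ = u i * v i ^ q₀ := by rw [this, one_mul]
  · apply Subtype.ext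
    rw [Matrix.SpecialLinearGroup.coe_mul, Matrix.SpecialLinearGroup.coe_one, ht,
      Matrix.diagonal_mul_diagonal]
    have : (fun i => sgn n F i * sgn n F i) = fun _ => (1 : F) := by
      funext i
      exact sgn_mul_self i
    rw [this, Matrix.diagonal_one]
  · rintro ⟨c, hc⟩
    rw [ht] at hc
    have e0 := congrFun (congrFun hc ⟨0, by omega⟩) ⟨0, by omega⟩
    have e2 := congrFun (congrFun hc ⟨2, by omega⟩) ⟨2, by omega⟩
    simp [sgn] at e0 e2
    apply h2
    rw [← e0] at e2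
    linear_combination e2

end matrix

end Cfsg.Agent.Lib.Helper69_PSLBAL_USTR
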