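import Mathlib
import Cfsg.Agent.Lib.Helper14_PSLBalDefs
import Cfsg.Agent.Lib.Helper44_QuadClass
import Cfsg.Agent.Lib.Helper82_Bal_A2

/-!
# PSLBAL-A4DPT (helper7 for helper14, S2686)

In dimension four (odd characteristic) a normal subgroup of odd order of the group `TE Q` generated by
the Eichler–Siegel transformations fixes every singular point.

Proof: let `O` be the `M`-orbit of the point `F e`.  If two points of `O` are not orthogonal, then every
point of `O` has exactly `|W|` neighbours in `O` for the non-orthogonality graph (`W` the complement of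
a hyperbolic plane, of odd cardinality), so `|O|` is even by the handshake lemma.  Otherwise `O` is the
set of the `q + 1` points of a totally singular line.  In both cases `|O|` is even, but it divides `|M|`.
-/

set_option autoImplicit false

namespace Cfsg.Agent.Lib.Helper7_PSLBAL_A4DPT

open Module Cfsg Cfsg.Agent.Lib.Helper14_BalDefs Cfsg.Agent.Lib.Helper14_OmegaSimple
  Cfsg.Agent.Lib.Helper44_QuadClass

variable {F V : Type*} [Field F] [AddCommGroup V] [Module F V]

section chart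

variable (Q : QuadraticForm F V)

/-- the affine singular vector over `w` in the chart at the hyperbolic pair `u, f` -/
def ptv (u f w : V) : V := (-(Q w)) • u + f + w

variable {Q}
variable {u f : V}

theorem polar_self_zero {x : V} (hx : Q x = 0) : QuadraticMap.polar (⇑Q) x x = 0 := by
  rw [polar_self', hx, mul_zero]

theorem Q_ptv (hu : Q u = 0) (hf : Q f = 0) (huf : QuadraticMap.polar (⇑Q) u f = 1) {w : V}
    (hw : w ∈ perp Q u f) : Q (ptv Q u f w) = 0 := by
  obtain ⟨h1, h2⟩ := (mem_perp Q u f).mp hw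
  unfold ptv
  rw [QuadraticMap.map_add (⇑Q), QuadraticMap.map_add (⇑Q), QuadraticMap.map_smul, hu, hf,
    QuadraticMap.polar_add_left, QuadraticMap.polar_smul_left, QuadraticMap.polar_smul_left, huf,
    h1, h2]
  simp

theorem polar_ptv_u (hu : Q u = 0) (huf : QuadraticMap.polar (⇑Q) u f = 1) {w : V}
    (hw : w ∈ perp Q u f) : QuadraticMap.polar (⇑Q) (ptv Q u f w) u = 1 := by
  obtain ⟨h1, h2⟩ := (mem_perp Q u f).mp hw
  unfold ptv
  rw [QuadraticMap.polar_add_left, QuadraticMap.polar_add_left, QuadraticMap.polar_smul_left,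
    polar_self_zero hu, QuadraticMap.polar_comm (⇑Q) f u, huf, QuadraticMap.polar_comm (⇑Q) w u, h1]
  simp

theorem polar_ptv_f (hf : Q f = 0) (huf : QuadraticMap.polar (⇑Q) u f = 1) {w : V}
    (hw : w ∈ perp Q u f) : QuadraticMap.polar (⇑Q) (ptv Q u f w) f = -(Q w) := by
  obtain ⟨h1, h2⟩ := (mem_perp Q u f).mp hw
  unfold ptv
  rw [QuadraticMap.polar_add_left, QuadraticMap.polar_add_left, QuadraticMap.polar_smul_left,
    polar_self_zero hf, huf, QuadraticMap.polar_comm (⇑Q) w f, h2]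
  simp

/-- the chart is injective on points -/
theorem ptv_inj (hu : Q u = 0) (huf : QuadraticMap.polar (⇑Q) u f = 1) {w w' : V}
    (hw : w ∈ perp Q u f) (hw' : w' ∈ perp Q u f) {c : F}
    (h : ptv Q u f w = c • ptv Q u f w') : w = w' := by
  have hc : c = 1 := by
    have := polar_ptv_u hu huf hw
    rw [h, QuadraticMap.polar_smul_left, polar_ptv_u hu huf hw', smul_eq_mul, mul_one] at this
    exact this
  rw [hc, one_smul] at h
  -- `w - w' = (Q w - Q w') • u`
  have h1 : w - w' = (Q w - Q w') • u := by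
    unfold ptv at h
    have : w - w' = (-(Q w') • u + f + w') - (-(Q w) • u + f + w) + (w - w') := by rw [h]; simp
    rw [this]; module
  have hmem : w - w' ∈ perp Q u f := Submodule.sub_mem _ hw hw'
  have h2 := ((mem_perp Q u f).mp hmem).2
  rw [h1, QuadraticMap.polar_smul_right, QuadraticMap.polar_comm (⇑Q) f u, huf, smul_eq_mul,
    mul_one] at h2
  rw [h2, zero_smul] at h1
  exact sub_eq_zero.mp h1

/-- every singular vector not orthogonal to `u` is a multiple of a chart vector -/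
theorem exists_ptv (hu : Q u = 0) (hf : Q f = 0) (huf : QuadraticMap.polar (⇑Q) u f = 1) {v : V}
    (hv : Q v = 0) (hvu : QuadraticMap.polar (⇑Q) v u ≠ 0) :
    ∃ w ∈ perp Q u f, v = QuadraticMap.polar (⇑Q) v u • ptv Q u f w := by
  obtain ⟨β, hβ⟩ : ∃ β : F, β = QuadraticMap.polar (⇑Q) v u := ⟨_, rfl⟩
  obtain ⟨a, ha⟩ : ∃ a : F, a = QuadraticMap.polar (⇑Q) v f := ⟨_, rfl⟩
  rw [← hβ] at hvu ⊢
  have hfu : QuadraticMap.polar (⇑Q) f u = 1 := by rw [QuadraticMap.polar_comm, huf]
  obtain ⟨w', hw'⟩ : ∃ w' : V, w' = v - a • u - β • f := ⟨_, rfl⟩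
  have hw'mem : w' ∈ perp Q u f := by
    rw [mem_perp]
    constructor
    · rw [hw', QuadraticMap.polar_sub_right, QuadraticMap.polar_sub_right,
        QuadraticMap.polar_smul_right, QuadraticMap.polar_smul_right, polar_self_zero hu, huf,
        QuadraticMap.polar_comm (⇑Q) u v, ← hβ]
      simp
    · rw [hw', QuadraticMap.polar_sub_right, QuadraticMap.polar_sub_right,
        QuadraticMap.polar_smul_right, QuadraticMap.polar_smul_right, polar_self_zero hf, hfu,
        QuadraticMap.polar_comm (⇑Q) f v, ← ha]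
      simp
  obtain ⟨h1, h2⟩ := (mem_perp Q u f).mp hw'mem
  have hvdec : v = a • u + β • f + w' := by rw [hw']; abel
  have hQv : a * β + Q w' = 0 := by
    have := hv
    rw [hvdec, QuadraticMap.map_add (⇑Q), QuadraticMap.map_add (⇑Q), QuadraticMap.map_smul,
      QuadraticMap.map_smul, hu, hf, QuadraticMap.polar_add_left, QuadraticMap.polar_smul_left,
      QuadraticMap.polar_smul_left, QuadraticMap.polar_smul_left, QuadraticMap.polar_smul_right,
      huf, h1, h2] at this
    simp only [smul_eq_mul, mul_zero, add_zero, zero_add, mul_one] at this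
    linear_combination this
  refine ⟨β⁻¹ • w', Submodule.smul_mem _ _ hw'mem, ?_⟩
  unfold ptv
  rw [QuadraticMap.map_smul]
  have hQw : Q w' = -(a * β) := by linear_combination hQv
  rw [hQw]
  conv_lhs => rw [hvdec]
  rw [smul_add, smul_add, smul_smul, smul_smul]
  have e1 : β * -((β⁻¹ * β⁻¹) • -(a * β)) = a := by
    simp only [smul_eq_mul]
    field_simp
  have e2 : β * β⁻¹ = 1 := mul_inv_cancel₀ hvu
  rw [e1, e2, one_smul]

end chart

section eichler

variable {Q : QuadraticForm F V} {u : V}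

theorem E_fix (hu : Q u = 0) {z : V} (huz : QuadraticMap.polar (⇑Q) u z = 0) : E Q u z u = u := by
  rw [E_apply Q hu huz, polar_self_zero hu, huz]
  simp

theorem E_inv_fix (hu : Q u = 0) {z : V} (huz : QuadraticMap.polar (⇑Q) u z = 0) :
    (E Q u z)⁻¹ u = u := by
  calc (E Q u z)⁻¹ u = (E Q u z)⁻¹ (E Q u z u) := by rw [E_fix hu huz]
    _ = u := by rw [← LinearEquiv.mul_apply, inv_mul_cancel, LinearEquiv.coe_one, id_eq]

/-- on `u^⊥` the Eichler transformations act as transvections in the direction of `u` -/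
theorem E_perp (hu : Q u = 0) {z x : V} (huz : QuadraticMap.polar (⇑Q) u z = 0)
    (hxu : QuadraticMap.polar (⇑Q) x u = 0) :
    E Q u z x = x - QuadraticMap.polar (⇑Q) x z • u := by
  rw [E_apply Q hu huz, hxu]
  simp

/-- the unipotent radical at `u` is transitive on the singular vectors `x` with `B(x, u) = 1` -/
theorem E_move (hu : Q u = 0) {x v : V} (hx : Q x = 0) (hv : Q v = 0)
    (hxu : QuadraticMap.polar (⇑Q) x u = 1) (hvu : QuadraticMap.polar (⇑Q) v u = 1) :
    QuadraticMap.polar (⇑Q) u (v - x) = 0 ∧ E Q u (v - x) x = v := by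
  have huz : QuadraticMap.polar (⇑Q) u (v - x) = 0 := by
    rw [QuadraticMap.polar_sub_right, QuadraticMap.polar_comm (⇑Q) u v, hvu,
      QuadraticMap.polar_comm (⇑Q) u x, hxu, sub_self]
  refine ⟨huz, ?_⟩
  rw [E_apply Q hu huz, hxu, map_sub' Q v x, hv, hx, QuadraticMap.polar_sub_right,
    polar_self_zero hx, QuadraticMap.polar_comm (⇑Q) x v]
  module

end eichler

section group

variable (Q : QuadraticForm F V) (M : Subgroup (V ≃ₗ[F] V)) (e : V)

/-- the point `F v` lies in the `M`-orbit of the point `F e` -/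
def InOrb (v : V) : Prop := ∃ m ∈ M, ∃ c : F, c ≠ 0 ∧ (m : V ≃ₗ[F] V) e = c • v

variable {Q M e}

theorem inOrb_self : InOrb M e e := ⟨1, M.one_mem, 1, one_ne_zero, by simp⟩

theorem InOrb.map {v : V} (h : InOrb M e v) {m' : V ≃ₗ[F] V} (hm' : m' ∈ M) : InOrb M e (m' v) := by
  obtain ⟨m, hm, c, hc, hmc⟩ := h
  exact ⟨m' * m, M.mul_mem hm' hm, c, hc, by rw [LinearEquiv.mul_apply, hmc, map_smul]⟩

theorem InOrb.smul {v : V} (h : InOrb M e v) {a : F} (ha : a ≠ 0) : InOrb M e (a • v) := by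
  obtain ⟨m, hm, c, hc, hmc⟩ := h
  refine ⟨m, hm, c * a⁻¹, mul_ne_zero hc (inv_ne_zero ha), ?_⟩
  rw [hmc, smul_smul, mul_assoc, inv_mul_cancel₀ ha, mul_one]

theorem InOrb.of_smul {v : V} {a : F} (h : InOrb M e (a • v)) (ha : a ≠ 0) : InOrb M e v := by
  have := h.smul (inv_ne_zero ha)
  rwa [smul_smul, inv_mul_cancel₀ ha, one_smul] at this

theorem InOrb.ne_zero (he0 : e ≠ 0) {v : V} (h : InOrb M e v) : v ≠ 0 := by
  obtain ⟨m, hm, c, hc, hmc⟩ := h
  intro h0
  rw [h0, smul_zero] at hmc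
  exact he0 ((LinearEquiv.map_eq_zero_iff _).mp hmc)

theorem InOrb.singular (hoG : ∀ m ∈ M, ∀ v, Q ((m : V ≃ₗ[F] V) v) = Q v) (he : Q e = 0) {v : V}
    (h : InOrb M e v) : Q v = 0 := by
  obtain ⟨m, hm, c, hc, hmc⟩ := h
  have := hoG m hm e
  rw [hmc, he, QuadraticMap.map_smul, smul_eq_mul] at this
  exact (mul_eq_zero.mp this).resolve_left (mul_ne_zero hc hc)

/-- conjugation by an element of `TE Q` fixing a point of the orbit preserves the orbit -/
theorem InOrb.conj (hnorm : ∀ t ∈ TE Q, ∀ m ∈ M, t * m * t⁻¹ ∈ M) {v₁ v : V}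
    (h₁ : InOrb M e v₁) (h : InOrb M e v) {t : V ≃ₗ[F] V} (ht : t ∈ TE Q) {a : F} (ha : a ≠ 0)
    (htv : t v₁ = a • v₁) : InOrb M e (t v) := by
  obtain ⟨m₁, hm₁, c₁, hc₁, hmc₁⟩ := h₁
  obtain ⟨m, hm, c, hc, hmc⟩ := h
  have hmem : t * (m * m₁⁻¹) * t⁻¹ ∈ M := hnorm t ht _ (M.mul_mem hm (M.inv_mem hm₁))
  refine ⟨t * (m * m₁⁻¹) * t⁻¹ * m₁, M.mul_mem hmem hm₁, a⁻¹ * c, mul_ne_zero (inv_ne_zero ha) hc, ?_⟩
  have hinv : t⁻¹ v₁ = a⁻¹ • v₁ := by
    have : t⁻¹ (t v₁) = v₁ := by
      rw [← LinearEquiv.mul_apply, inv_mul_cancel, LinearEquiv.coe_one, id_eq]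
    rw [htv, map_smul] at this
    calc t⁻¹ v₁ = a⁻¹ • (a • t⁻¹ v₁) := by rw [smul_smul, inv_mul_cancel₀ ha, one_smul]
      _ = a⁻¹ • v₁ := by rw [this]
  have hm₁inv : m₁⁻¹ v₁ = c₁⁻¹ • e := by
    have h1 : m₁⁻¹ (m₁ e) = e := by
      rw [← LinearEquiv.mul_apply, inv_mul_cancel, LinearEquiv.coe_one, id_eq]
    rw [hmc₁, map_smul] at h1
    calc m₁⁻¹ v₁ = c₁⁻¹ • (c₁ • m₁⁻¹ v₁) := by rw [smul_smul, inv_mul_cancel₀ hc₁, one_smul]
      _ = c₁⁻¹ • e := by rw [h1]
  rw [LinearEquiv.mul_apply, LinearEquiv.mul_apply, LinearEquiv.mul_apply, LinearEquiv.mul_apply,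
    hmc₁, map_smul, hinv, smul_smul, map_smul, hm₁inv, smul_smul, map_smul, hmc, smul_smul,
    map_smul]
  congr 1
  field_simp

/-- the set of points of the orbit -/
def orbPts (M : Subgroup (V ≃ₗ[F] V)) (e : V) : Set (Submodule F V) :=
  {P | ∃ v, InOrb M e v ∧ P = Submodule.span F {v}}

/-- two subspaces are not orthogonal -/
def nonOrth (Q : QuadraticForm F V) (P P' : Submodule F V) : Prop :=
  ∃ v ∈ P, ∃ v' ∈ P', QuadraticMap.polar (⇑Q) v v' ≠ 0

theorem nonOrth_span {v v' : V} :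
    nonOrth Q (Submodule.span F {v}) (Submodule.span F {v'}) ↔ QuadraticMap.polar (⇑Q) v v' ≠ 0 := by
  constructor
  · rintro ⟨x, hx, x', hx', h⟩
    obtain ⟨a, rfl⟩ := Submodule.mem_span_singleton.mp hx
    obtain ⟨b, rfl⟩ := Submodule.mem_span_singleton.mp hx'
    intro h0
    apply h
    rw [QuadraticMap.polar_smul_left, QuadraticMap.polar_smul_right, h0, smul_zero, smul_zero]
  · intro h
    exact ⟨v, Submodule.mem_span_singleton_self v, v', Submodule.mem_span_singleton_self v', h⟩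

theorem nonOrth_symm {P P' : Submodule F V} (h : nonOrth Q P P') : nonOrth Q P' P := by
  obtain ⟨v, hv, v', hv', h⟩ := h
  exact ⟨v', hv', v, hv, by rwa [QuadraticMap.polar_comm]⟩

end group

section handshake

/-- the handshake lemma: if every vertex has an odd number of neighbours, the number of vertices is even -/
theorem even_card_of_odd_nbrs {X : Type*} [Finite X] (R : X → X → Prop)
    (hs : ∀ x y, R x y → R y x)
    (hi : ∀ x, ¬ R x x) (hodd : ∀ x, Odd (Nat.card {y // R x y})) : Even (Nat.card X) := by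
  classical
  have : Fintype X := Fintype.ofFinite X
  let G : SimpleGraph X := { Adj := R, symm := ⟨fun x y h => hs x y h⟩, loopless := ⟨hi⟩ }
  have h := G.even_card_odd_degree_vertices
  have hall : (Finset.univ.filter fun v => Odd (G.degree v)) = Finset.univ := by
    apply Finset.filter_true_of_mem
    intro x _
    rw [← G.card_neighborSet_eq_degree, ← Nat.card_eq_fintype_card]
    exact hodd x
  rw [hall, Finset.card_univ, ← Nat.card_eq_fintype_card] at h
  exact h

end handshake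

section caseI

variable {Q : QuadraticForm F V} {M : Subgroup (V ≃ₗ[F] V)} {e : V}

/-- if two points of the orbit are not orthogonal, every singular point not orthogonal to the first
one lies in the orbit -/
theorem InOrb.of_nonorth (hoG : ∀ m ∈ M, ∀ v, Q ((m : V ≃ₗ[F] V) v) = Q v)
    (hnorm : ∀ t ∈ TE Q, ∀ m ∈ M, t * m * t⁻¹ ∈ M) (he : Q e = 0) {v v₁ x : V}
    (hv : InOrb M e v) (hv₁ : InOrb M e v₁) (h1 : QuadraticMap.polar (⇑Q) v₁ v ≠ 0)
    (hx : Q x = 0) (hxv : QuadraticMap.polar (⇑Q) x v ≠ 0) : InOrb M e x := by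
  have hQv := hv.singular hoG he
  have hQv₁ := hv₁.singular hoG he
  have hx₁ : Q ((QuadraticMap.polar (⇑Q) v₁ v)⁻¹ • v₁) = 0 := by
    rw [QuadraticMap.map_smul, hQv₁, smul_zero]
  have hx' : Q ((QuadraticMap.polar (⇑Q) x v)⁻¹ • x) = 0 := by
    rw [QuadraticMap.map_smul, hx, smul_zero]
  have hp₁ : QuadraticMap.polar (⇑Q) ((QuadraticMap.polar (⇑Q) v₁ v)⁻¹ • v₁) v = 1 := by
    rw [QuadraticMap.polar_smul_left, smul_eq_mul, inv_mul_cancel₀ h1]
  have hp' : QuadraticMap.polar (⇑Q) ((QuadraticMap.polar (⇑Q) x v)⁻¹ • x) v = 1 := by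
    rw [QuadraticMap.polar_smul_left, smul_eq_mul, inv_mul_cancel₀ hxv]
  obtain ⟨huz, hE⟩ := E_move hQv hx₁ hx' hp₁ hp'
  have ht := E_mem_TE Q hQv huz
  have hfix := E_fix hQv huz
  have := InOrb.conj hnorm hv (hv₁.smul (inv_ne_zero h1)) ht (one_ne_zero)
    (by rw [hfix, one_smul])
  rw [hE] at this
  exact this.of_smul (inv_ne_zero hxv)

theorem InOrb.exists_nonorth
    (hpol : ∀ m ∈ M, ∀ x y, QuadraticMap.polar (⇑Q) ((m : V ≃ₗ[F] V) x) (m y) =
      QuadraticMap.polar (⇑Q) x y)
    (hI : ∃ m₁ ∈ M, QuadraticMap.polar (⇑Q) ((m₁ : V ≃ₗ[F] V) e) e ≠ 0) {v : V}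
    (hv : InOrb M e v) : ∃ v₁, InOrb M e v₁ ∧ QuadraticMap.polar (⇑Q) v₁ v ≠ 0 := by
  obtain ⟨m₁, hm₁, h1⟩ := hI
  obtain ⟨m, hm, c, hc, hmc⟩ := hv
  refine ⟨m (m₁ e), (inOrb_self.map hm₁).map hm, ?_⟩
  intro h0
  apply h1
  rw [← hpol m hm, hmc, QuadraticMap.polar_smul_right, h0, smul_zero]

variable [Fintype F] [FiniteDimensional F V]

theorem odd_card_field (h2 : (2 : F) ≠ 0) : Odd (Nat.card F) := by
  rw [Nat.card_eq_fintype_card, Nat.odd_iff]
  apply FiniteField.odd_card_of_char_ne_two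
  intro h
  apply h2
  have : ((2 : ℕ) : F) = 0 := by rw [← h]; exact ringChar.Nat.cast_ringChar
  exact_mod_cast this

/-- Case I: if two points of the orbit are not orthogonal, the orbit has even cardinality -/
theorem even_card_orbPts_of_nonorth (h2 : (2 : F) ≠ 0)
    (hQ : (QuadraticMap.polarBilin Q).Nondegenerate)
    (hoG : ∀ m ∈ M, ∀ v, Q ((m : V ≃ₗ[F] V) v) = Q v)
    (hpol : ∀ m ∈ M, ∀ x y, QuadraticMap.polar (⇑Q) ((m : V ≃ₗ[F] V) x) (m y) =
      QuadraticMap.polar (⇑Q) x y)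
    (hnorm : ∀ t ∈ TE Q, ∀ m ∈ M, t * m * t⁻¹ ∈ M) (he0 : e ≠ 0) (he : Q e = 0)
    (hI : ∃ m₁ ∈ M, QuadraticMap.polar (⇑Q) ((m₁ : V ≃ₗ[F] V) e) e ≠ 0) :
    Even (Nat.card ↥(orbPts M e)) := by
  have hfinV : Finite V := Module.finite_of_finite F
  have hfinS : Finite (Submodule F V) :=
    Finite.of_injective (fun P : Submodule F V => (P : Set V)) SetLike.coe_injective
  apply even_card_of_odd_nbrs (fun P P' : ↥(orbPts M e) => nonOrth Q P.1 P'.1)
  · intro P P' h
    exact nonOrth_symm h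
  · rintro ⟨P, v, hv, rfl⟩
    show ¬ nonOrth Q (Submodule.span F {v}) (Submodule.span F {v})
    rw [nonOrth_span, not_not]
    exact polar_self_zero (hv.singular hoG he)
  · rintro ⟨P, v, hv, rfl⟩
    have hQv := hv.singular hoG he
    have hv0 := hv.ne_zero he0
    obtain ⟨f, hf, hvf⟩ := exists_hyperbolic_partner Q hQ hv0 hQv
    obtain ⟨v₁, hv₁, h1⟩ := hv.exists_nonorth hpol hI
    have hin : ∀ w ∈ perp Q v f, InOrb M e (ptv Q v f w) := by
      intro w hw
      apply InOrb.of_nonorth hoG hnorm he hv hv₁ h1 (Q_ptv hQv hf hvf hw)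
      rw [polar_ptv_u hQv hvf hw]
      exact one_ne_zero
    let φ : ↥(perp Q v f) → {y : ↥(orbPts M e) //
        nonOrth Q (Submodule.span F {v}) y.1} := fun w =>
      ⟨⟨Submodule.span F {ptv Q v f w.1}, ptv Q v f w.1, hin w.1 w.2, rfl⟩, by
        show nonOrth Q (Submodule.span F {v}) (Submodule.span F {ptv Q v f w.1})
        rw [nonOrth_span, QuadraticMap.polar_comm, polar_ptv_u hQv hvf w.2]
        exact one_ne_zero⟩
    have hφ : Function.Bijective φ := by
      constructor
      · intro w w' hww'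
        have h3 : Submodule.span F {ptv Q v f w.1} = Submodule.span F {ptv Q v f w'.1} :=
          congrArg (fun y => (y.1.1 : Submodule F V)) hww'
        have h4 : ptv Q v f w.1 ∈ Submodule.span F {ptv Q v f w'.1} := by
          rw [← h3]; exact Submodule.mem_span_singleton_self _
        obtain ⟨c, hc⟩ := Submodule.mem_span_singleton.mp h4
        exact Subtype.ext (ptv_inj hQv hvf w.2 w'.2 hc.symm)
      · rintro ⟨⟨P', x, hx, rfl⟩, hR⟩
        have hR' : QuadraticMap.polar (⇑Q) v x ≠ 0 := nonOrth_span.mp hR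
        have hxv : QuadraticMap.polar (⇑Q) x v ≠ 0 := by rwa [QuadraticMap.polar_comm]
        obtain ⟨w, hw, hxw⟩ := exists_ptv hQv hf hvf (hx.singular hoG he) hxv
        refine ⟨⟨w, hw⟩, ?_⟩
        apply Subtype.ext
        apply Subtype.ext
        show Submodule.span F {ptv Q v f w} = Submodule.span F {x}
        conv_rhs => rw [hxw]
        rw [Submodule.span_singleton_smul_eq (IsUnit.mk0 _ hxv)]
    show Odd (Nat.card {y : ↥(orbPts M e) // nonOrth Q (Submodule.span F {v}) y.1})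
    rw [← Nat.card_congr (Equiv.ofBijective φ hφ), Module.natCard_eq_pow_finrank (K := F)]
    exact (odd_card_field h2).pow

end caseI

section caseII

variable {Q : QuadraticForm F V} {M : Subgroup (V ≃ₗ[F] V)} {e : V}

theorem proj_mem_perp {u f : V} (hu : Q u = 0) (hf : Q f = 0)
    (huf : QuadraticMap.polar (⇑Q) u f = 1) (y : V) :
    y - QuadraticMap.polar (⇑Q) y f • u - QuadraticMap.polar (⇑Q) y u • f ∈ perp Q u f := by
  have hfu : QuadraticMap.polar (⇑Q) f u = 1 := by rw [QuadraticMap.polar_comm, huf]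
  rw [mem_perp]
  constructor
  · rw [QuadraticMap.polar_sub_right, QuadraticMap.polar_sub_right,
      QuadraticMap.polar_smul_right, QuadraticMap.polar_smul_right, polar_self_zero hu, huf,
      QuadraticMap.polar_comm (⇑Q) u y]
    simp
  · rw [QuadraticMap.polar_sub_right, QuadraticMap.polar_sub_right,
      QuadraticMap.polar_smul_right, QuadraticMap.polar_smul_right, polar_self_zero hf, hfu,
      QuadraticMap.polar_comm (⇑Q) f y]
    simp

variable [FiniteDimensional F V]

/-- in a two-dimensional non-degenerate complement, a vector orthogonal to a non-zero singular vector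
`w₀` is a multiple of `w₀` -/
theorem mem_span_of_orth {u f : V} (hQ : (QuadraticMap.polarBilin Q).Nondegenerate)
    (hu : Q u = 0) (hf : Q f = 0) (huf : QuadraticMap.polar (⇑Q) u f = 1)
    (hdim : finrank F V = 4) {w₀ w : V} (hw₀ : w₀ ∈ perp Q u f) (hw : w ∈ perp Q u f)
    (hw₀0 : w₀ ≠ 0) (hQw₀ : Q w₀ = 0) (hww₀ : QuadraticMap.polar (⇑Q) w₀ w = 0) :
    ∃ c : F, w = c • w₀ := by
  have hW2 : finrank F ↥(perp Q u f) = 2 := by
    have := finrank_perp (Q := Q) hu hf huf
    omega
  -- the functional `B(w₀, ·)` on the complement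
  let ψ : ↥(perp Q u f) →ₗ[F] F := (QuadraticMap.polarBilin Q w₀).domRestrict (perp Q u f)
  have hψ : ∀ y : ↥(perp Q u f), ψ y = QuadraticMap.polar (⇑Q) w₀ (y : V) := fun y => rfl
  obtain ⟨h1, h2⟩ := (mem_perp Q u f).mp hw₀
  have hψne : ψ ≠ 0 := by
    intro h0
    apply hw₀0
    apply hQ.1
    intro y
    rw [QuadraticMap.polarBilin_apply_apply]
    have hy := proj_mem_perp hu hf huf y
    have h3 : ψ ⟨_, hy⟩ = 0 := by rw [h0]; rfl
    rw [hψ] at h3
    simp only at h3
    rw [QuadraticMap.polar_sub_right, QuadraticMap.polar_sub_right, QuadraticMap.polar_smul_right,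
      QuadraticMap.polar_smul_right, QuadraticMap.polar_comm (⇑Q) w₀ u, h1,
      QuadraticMap.polar_comm (⇑Q) w₀ f, h2] at h3
    simpa using h3
  have hsurj : LinearMap.range ψ = ⊤ := by
    rw [LinearMap.range_eq_top]
    exact LinearMap.surjective_of_ne_zero hψne
  have hker : finrank F ↥(LinearMap.ker ψ) = 1 := by
    have := LinearMap.finrank_range_add_finrank_ker ψ
    rw [hsurj, finrank_top, Module.finrank_self, hW2] at this
    omega
  have hmem₀ : (⟨w₀, hw₀⟩ : ↥(perp Q u f)) ∈ LinearMap.ker ψ := by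
    rw [LinearMap.mem_ker, hψ]
    exact polar_self_zero hQw₀
  have hmem : (⟨w, hw⟩ : ↥(perp Q u f)) ∈ LinearMap.ker ψ := by
    rw [LinearMap.mem_ker, hψ]
    exact hww₀
  have hne : (⟨⟨w₀, hw₀⟩, hmem₀⟩ : ↥(LinearMap.ker ψ)) ≠ 0 := by
    intro h0
    apply hw₀0
    have := congrArg (fun y : ↥(LinearMap.ker ψ) => ((y : ↥(perp Q u f)) : V)) h0
    simpa using this
  obtain ⟨c, hc⟩ := (finrank_eq_one_iff_of_nonzero' _ hne).mp hker ⟨⟨w, hw⟩, hmem⟩
  refine ⟨c, ?_⟩
  have := congrArg (fun y : ↥(LinearMap.ker ψ) => ((y : ↥(perp Q u f)) : V)) hc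
  simpa using this.symm

variable [Fintype F]

/-- Case II: if the points of the orbit are pairwise orthogonal, the orbit consists of the `q + 1`
points of a totally singular line -/
theorem even_card_orbPts_of_orth (h2 : (2 : F) ≠ 0)
    (hQ : (QuadraticMap.polarBilin Q).Nondegenerate) (hdim : finrank F V = 4)
    (hoG : ∀ m ∈ M, ∀ v, Q ((m : V ≃ₗ[F] V) v) = Q v)
    (hpol : ∀ m ∈ M, ∀ x y, QuadraticMap.polar (⇑Q) ((m : V ≃ₗ[F] V) x) (m y) =
      QuadraticMap.polar (⇑Q) x y)
    (hnorm : ∀ t ∈ TE Q, ∀ m ∈ M, t * m * t⁻¹ ∈ M) (he0 : e ≠ 0) (he : Q e = 0)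
    (hII : ∀ m ∈ M, QuadraticMap.polar (⇑Q) ((m : V ≃ₗ[F] V) e) e = 0)
    {m₀ : V ≃ₗ[F] V} (hm₀ : m₀ ∈ M) (hm₀e : ∀ a : F, m₀ e ≠ a • e) :
    Even (Nat.card ↥(orbPts M e)) := by
  obtain ⟨f, hf, hef⟩ := exists_hyperbolic_partner Q hQ he0 he
  have hfe : QuadraticMap.polar (⇑Q) f e = 1 := by rw [QuadraticMap.polar_comm, hef]
  obtain ⟨x, hx⟩ : ∃ x : V, x = m₀ e := ⟨_, rfl⟩
  have hxin : InOrb M e x := ⟨m₀, hm₀, 1, one_ne_zero, by rw [one_smul, hx]⟩
  have hxe : ∀ a : F, x ≠ a • e := by rw [hx]; exact hm₀e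
  -- orbit vectors are orthogonal to `e` and to each other
  have horth : ∀ v v' : V, InOrb M e v → InOrb M e v' → QuadraticMap.polar (⇑Q) v v' = 0 := by
    rintro v v' ⟨m, hm, c, hc, hmc⟩ ⟨m', hm', c', hc', hmc'⟩
    have h1 : QuadraticMap.polar (⇑Q) (m e) (m' e) = 0 := by
      have h3 := hII (m'⁻¹ * m) (M.mul_mem (M.inv_mem hm') hm)
      rw [← hpol m' hm', LinearEquiv.mul_apply] at h3
      have h4 : m' (m'⁻¹ (m e)) = m e := by
        rw [← LinearEquiv.mul_apply, mul_inv_cancel, LinearEquiv.coe_one, id_eq]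
      rwa [h4] at h3
    rw [hmc, hmc', QuadraticMap.polar_smul_left, QuadraticMap.polar_smul_right, smul_eq_mul,
      smul_eq_mul] at h1
    rcases mul_eq_zero.mp h1 with h | h
    · exact absurd h hc
    · rcases mul_eq_zero.mp h with h | h
      · exact absurd h hc'
      · exact h
  -- decomposition of vectors orthogonal to `e`
  have hdec : ∀ v : V, QuadraticMap.polar (⇑Q) v e = 0 →
      ∃ w ∈ perp Q e f, v = QuadraticMap.polar (⇑Q) v f • e + w := by
    intro v hve
    refine ⟨_, proj_mem_perp he hf hef v, ?_⟩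
    rw [hve, zero_smul]
    abel
  have hxQ : Q x = 0 := hxin.singular hoG he
  have hxe0 : QuadraticMap.polar (⇑Q) x e = 0 := horth x e hxin inOrb_self
  obtain ⟨w₀, hw₀, hxw₀⟩ := hdec x hxe0
  obtain ⟨α₀, hα₀⟩ : ∃ α₀ : F, α₀ = QuadraticMap.polar (⇑Q) x f := ⟨_, rfl⟩
  rw [← hα₀] at hxw₀
  obtain ⟨hw₀1, hw₀2⟩ := (mem_perp Q e f).mp hw₀
  have hw₀0 : w₀ ≠ 0 := by
    intro h0
    rw [h0, add_zero] at hxw₀
    exact hxe α₀ hxw₀
  have hQw₀ : Q w₀ = 0 := by
    have := hxQ
    rw [hxw₀, QuadraticMap.map_add (⇑Q), QuadraticMap.map_smul, he, QuadraticMap.polar_smul_left,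
      hw₀1] at this
    simpa using this
  -- every orbit vector lies in the span of `e` and `x`
  have hline : ∀ v : V, InOrb M e v → ∃ a c : F, v = a • e + c • x := by
    intro v hv
    have hve : QuadraticMap.polar (⇑Q) v e = 0 := horth v e hv inOrb_self
    have hvx : QuadraticMap.polar (⇑Q) x v = 0 := horth x v hxin hv
    obtain ⟨w, hw, hvw⟩ := hdec v hve
    obtain ⟨hw1, hw2⟩ := (mem_perp Q e f).mp hw
    have hww₀ : QuadraticMap.polar (⇑Q) w₀ w = 0 := by
      have := hvx
      rw [hxw₀, hvw, QuadraticMap.polar_add_left, QuadraticMap.polar_add_right,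
        QuadraticMap.polar_add_right, QuadraticMap.polar_smul_left, QuadraticMap.polar_smul_left,
        QuadraticMap.polar_smul_right, QuadraticMap.polar_smul_right, polar_self_zero he, hw1,
        QuadraticMap.polar_comm (⇑Q) w₀ e, hw₀1] at this
      simpa using this
    obtain ⟨c, hc⟩ := mem_span_of_orth hQ he hf hef hdim hw₀ hw hw₀0 hQw₀ hww₀
    refine ⟨QuadraticMap.polar (⇑Q) v f - c * α₀, c, ?_⟩
    conv_lhs => rw [hvw, hc]
    rw [hxw₀]
    module
  -- all the points `x + α e` lie in the orbit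
  obtain ⟨z₁, hz₁e, hz₁x⟩ : ∃ z₁ : V, QuadraticMap.polar (⇑Q) e z₁ = 0 ∧
      QuadraticMap.polar (⇑Q) x z₁ = 1 := by
    obtain ⟨y, hy⟩ : ∃ y, QuadraticMap.polarBilin Q w₀ y ≠ 0 := by
      by_contra hcon
      push Not at hcon
      exact hw₀0 (hQ.1 w₀ hcon)
    rw [QuadraticMap.polarBilin_apply_apply] at hy
    have hy' := proj_mem_perp he hf hef y
    obtain ⟨hy1, hy2⟩ := (mem_perp Q e f).mp hy'
    have h3 : QuadraticMap.polar (⇑Q) w₀
        (y - QuadraticMap.polar (⇑Q) y f • e - QuadraticMap.polar (⇑Q) y e • f) =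
        QuadraticMap.polar (⇑Q) w₀ y := by
      rw [QuadraticMap.polar_sub_right, QuadraticMap.polar_sub_right,
        QuadraticMap.polar_smul_right, QuadraticMap.polar_smul_right,
        QuadraticMap.polar_comm (⇑Q) w₀ e, hw₀1, QuadraticMap.polar_comm (⇑Q) w₀ f, hw₀2]
      simp
    refine ⟨(QuadraticMap.polar (⇑Q) w₀ y)⁻¹ •
      (y - QuadraticMap.polar (⇑Q) y f • e - QuadraticMap.polar (⇑Q) y e • f), ?_, ?_⟩
    · rw [QuadraticMap.polar_smul_right, hy1, smul_zero]
    · rw [QuadraticMap.polar_smul_right, hxw₀, QuadraticMap.polar_add_left,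
        QuadraticMap.polar_smul_left, hy1, h3, smul_zero, zero_add, smul_eq_mul,
        inv_mul_cancel₀ hy]
  have hall : ∀ α : F, InOrb M e (x + α • e) := by
    intro α
    have huz : QuadraticMap.polar (⇑Q) e ((-α) • z₁) = 0 := by
      rw [QuadraticMap.polar_smul_right, hz₁e, smul_zero]
    have ht := E_mem_TE Q he huz
    have := InOrb.conj hnorm inOrb_self hxin ht one_ne_zero (by rw [E_fix he huz, one_smul])
    rw [E_perp he huz hxe0, QuadraticMap.polar_smul_right, hz₁x] at this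
    have h5 : x - ((-α) • (1 : F)) • e = x + α • e := by
      simp only [smul_eq_mul, mul_one]
      module
    rwa [h5] at this
  -- the parametrisation of the orbit
  let g : Option F → ↥(orbPts M e) := fun o =>
    match o with
    | none => ⟨Submodule.span F {e}, e, inOrb_self, rfl⟩
    | some α => ⟨Submodule.span F {x + α • e}, x + α • e, hall α, rfl⟩
  have hg : Function.Bijective g := by
    constructor
    · intro o o' hoo'
      have hval : (g o).1 = (g o').1 := congrArg Subtype.val hoo'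
      rcases o with _ | α <;> rcases o' with _ | β
      · rfl
      · exfalso
        have hmem : x + β • e ∈ Submodule.span F {e} := by
          show x + β • e ∈ (g none).1
          rw [hval]
          exact Submodule.mem_span_singleton_self _
        obtain ⟨a, ha⟩ := Submodule.mem_span_singleton.mp hmem
        apply hxe (a - β)
        rw [sub_smul, ha]
        abel
      · exfalso
        have hmem : x + α • e ∈ Submodule.span F {e} := by
          show x + α • e ∈ (g none).1
          rw [← hval]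
          exact Submodule.mem_span_singleton_self _
        obtain ⟨a, ha⟩ := Submodule.mem_span_singleton.mp hmem
        apply hxe (a - α)
        rw [sub_smul, ha]
        abel
      · have hmem : x + α • e ∈ Submodule.span F {x + β • e} := by
          show x + α • e ∈ (g (some β)).1
          rw [← hval]
          exact Submodule.mem_span_singleton_self _
        obtain ⟨a, ha⟩ := Submodule.mem_span_singleton.mp hmem
        have ha1 : a = 1 := by
          by_contra hne
          have hne' : (1 : F) - a ≠ 0 := sub_ne_zero.mpr (Ne.symm hne)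
          apply hxe ((1 - a)⁻¹ * (a * β - α))
          have h6 : (1 - a) • x = (a * β - α) • e := by
            have : (1 - a) • x = (x + α • e) - a • (x + β • e) + (a * β - α) • e := by module
            rw [this, ← ha]
            simp
          rw [mul_smul, ← h6, smul_smul, inv_mul_cancel₀ hne', one_smul]
        rw [ha1, one_smul] at ha
        have h7 : (β - α) • e = 0 := by
          have : (β - α) • e = (x + β • e) - (x + α • e) := by module
          rw [this, ha, sub_self]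
        rcases smul_eq_zero.mp h7 with h | h
        · rw [sub_eq_zero.mp h]
        · exact absurd h he0
    · rintro ⟨P, v, hv, rfl⟩
      obtain ⟨a, c, hac⟩ := hline v hv
      by_cases hc : c = 0
      · refine ⟨none, ?_⟩
        apply Subtype.ext
        show Submodule.span F {e} = Submodule.span F {v}
        rw [hc, zero_smul, add_zero] at hac
        have ha0 : a ≠ 0 := by
          intro h0
          rw [h0, zero_smul] at hac
          exact hv.ne_zero he0 hac
        rw [hac, Submodule.span_singleton_smul_eq (IsUnit.mk0 a ha0)]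
      · refine ⟨some (c⁻¹ * a), ?_⟩
        apply Subtype.ext
        show Submodule.span F {x + (c⁻¹ * a) • e} = Submodule.span F {v}
        have : v = c • (x + (c⁻¹ * a) • e) := by
          rw [hac, smul_add, smul_smul, ← mul_assoc, mul_inv_cancel₀ hc, one_mul, add_comm]
        rw [this, Submodule.span_singleton_smul_eq (IsUnit.mk0 c hc)]
  rw [← Nat.card_congr (Equiv.ofBijective g hg), Finite.card_option]
  exact Odd.add_one (odd_card_field h2)

end caseII

section main

variable [Fintype F] [FiniteDimensional F V]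

/-- **A4DPT**: in dimension four a normal subgroup of odd order of `TE Q` fixes every singular point. -/
theorem A4D_fix_point (h2 : (2 : F) ≠ 0) (Q : QuadraticForm F V)
    (hQ : (QuadraticMap.polarBilin Q).Nondegenerate) (hdim : finrank F V = 4)
    (M : Subgroup (V ≃ₗ[F] V)) (hM : M ≤ TE Q) (hnorm : ∀ t ∈ TE Q, ∀ m ∈ M, t * m * t⁻¹ ∈ M)
    (hodd : Odd (Nat.card M)) {e : V} (he0 : e ≠ 0) (he : Q e = 0) :
    ∀ m ∈ M, ∃ a : F, m e = a • e := by
  by_contra hcon
  push Not at hcon
  obtain ⟨m₀, hm₀, hm₀e⟩ := hcon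
  have hoG : ∀ m ∈ M, ∀ v, Q ((m : V ≃ₗ[F] V) v) = Q v := fun m hm => TE_le_oG Q (hM hm)
  have hpol : ∀ m ∈ M, ∀ x y, QuadraticMap.polar (⇑Q) ((m : V ≃ₗ[F] V) x) (m y) =
      QuadraticMap.polar (⇑Q) x y := fun m hm => oG_polar Q (TE_le_oG Q (hM hm))
  have heven : Even (Nat.card ↥(orbPts M e)) := by
    by_cases hI : ∃ m₁ ∈ M, QuadraticMap.polar (⇑Q) ((m₁ : V ≃ₗ[F] V) e) e ≠ 0
    · exact even_card_orbPts_of_nonorth h2 hQ hoG hpol hnorm he0 he hI
    · push Not at hI
      exact even_card_orbPts_of_orth h2 hQ hdim hoG hpol hnorm he0 he hI hm₀ hm₀e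
  -- orbit–stabiliser
  let _ : MulAction ↥M (Submodule F V) := Cfsg.Agent.Lib.Helper82_Bal_A2.subAction M
  have horb : MulAction.orbit ↥M (Submodule.span F {e}) = orbPts M e := by
    ext P
    constructor
    · rintro ⟨m, rfl⟩
      have hme : (fun x : ↥M => x • Submodule.span F {e}) m =
          Submodule.span F {(m : V ≃ₗ[F] V) e} :=
        Cfsg.Agent.Lib.Helper82_Bal_A2.subAction_span M m e
      exact ⟨(m : V ≃ₗ[F] V) e, ⟨m.1, m.2, 1, one_ne_zero, by rw [one_smul]⟩, hme⟩
    · rintro ⟨v, ⟨m, hm, c, hc, hmc⟩, rfl⟩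
      refine ⟨⟨m, hm⟩, ?_⟩
      have hme : (fun x : ↥M => x • Submodule.span F {e}) ⟨m, hm⟩ =
          Submodule.span F {m e} :=
        Cfsg.Agent.Lib.Helper82_Bal_A2.subAction_span M ⟨m, hm⟩ e
      rw [hme, hmc, Submodule.span_singleton_smul_eq (IsUnit.mk0 c hc)]
  have hdvd : Nat.card ↥(orbPts M e) ∣ Nat.card M := by
    rw [← horb, Nat.card_coe_set_eq, ← MulAction.index_stabilizer]
    exact Subgroup.index_dvd_card _
  obtain ⟨k, hk⟩ := heven
  obtain ⟨j, hj⟩ := hodd
  obtain ⟨d, hd⟩ := hdvd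
  rw [hk] at hd
  rw [hd] at hj
  have : (k + k) * d = 2 * (k * d) := by ring
  omega

end main

end Cfsg.Agent.Lib.Helper7_PSLBAL_A4DPT
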