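import Mathlib
import Cfsg.Agent.Lib.Helper94_HermWitt

/-!
# Orthonormal bases for hermitian forms over finite fields (helper44)

A nondegenerate hermitian form over a finite field (with a nontrivial involution) has an
orthonormal basis; in matrix terms, an invertible hermitian matrix `H` is of the form
`aᵀ * H * a^ρ = 1`.
-/

set_option autoImplicit false
set_option linter.unusedSectionVars false
set_option linter.unusedVariables false
set_option linter.unusedSimpArgs false

namespace Cfsg.Agent.Lib.Helper44_HermOrtho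

open Module Matrix Cfsg.Agent.Lib.Helper94_Herm Cfsg.Agent.Lib.Helper94_HermWitt

section abstract

variable {F V : Type*} [Field F] [AddCommGroup V] [Module F V] {σ : F →+* F}
  {B : V →ₗ[F] V →ₛₗ[σ] F}

theorem exists_unit_vector [Finite F] (hσ : Invol σ) (hB : IsHerm B) {U : Submodule F V}
    (hU : NondegOn B U) {x : V} (hxU : x ∈ U) (hx0 : x ≠ 0) : ∃ v ∈ U, B v v = 1 := by
  obtain ⟨d, hdU, hd⟩ := exists_aniso hσ hB hU hxU hx0
  have hfix : σ (B d d)⁻¹ = (B d d)⁻¹ := by rw [map_inv₀, herm_self hB]
  obtain ⟨l, hl⟩ := norm_surj hσ _ hfix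
  refine ⟨l • d, U.smul_mem _ hdU, ?_⟩
  rw [self_smul, hl, inv_mul_cancel₀ hd]

theorem exists_orthonormal [Finite F] [FiniteDimensional F V] (hσ : Invol σ) (hB : IsHerm B) :
    ∀ (k : ℕ) (U : Submodule F V), NondegOn B U → finrank F U = k →
      ∃ w : Fin k → V, (∀ i, w i ∈ U) ∧ ∀ i j, B (w i) (w j) = if i = j then 1 else 0 := by
  intro k
  induction k with
  | zero =>
    intro U _ _
    exact ⟨Fin.elim0, fun i => i.elim0, fun i => i.elim0⟩
  | succ k ih =>
    intro U hU hk
    obtain ⟨x, hxU, hx0⟩ := exists_ne_zero_of_finrank_pos (by omega : 1 ≤ finrank F U)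
    obtain ⟨v, hvU, hv⟩ := exists_unit_vector hσ hB hU hxU hx0
    have hvne : B v v ≠ 0 := by rw [hv]; exact one_ne_zero
    have hU' := nondegOn_orthV hB hU hvU hvne
    have hk' : finrank F (U ⊓ orthV B v : Submodule F V) = k := by
      have h1 := finrank_le_inf_orthV_add_one (B := B) U v
      have h2 : finrank F (U ⊓ orthV B v : Submodule F V) < finrank F U := by
        apply Submodule.finrank_lt_finrank_of_lt
        refine lt_of_le_of_ne inf_le_left ?_
        intro heq
        have : v ∈ U ⊓ orthV B v := by rw [heq]; exact hvU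
        exact hvne (mem_orthV.mp this.2)
      omega
    obtain ⟨w', hw'U, hw'⟩ := ih _ hU' hk'
    refine ⟨Fin.cons v w', ?_, ?_⟩
    · intro i
      refine Fin.cases ?_ (fun i => ?_) i
      · exact hvU
      · rw [Fin.cons_succ]
        exact (hw'U i).1
    · intro i j
      refine Fin.cases ?_ (fun i => ?_) i <;> refine Fin.cases ?_ (fun j => ?_) j
      · simpa using hv
      · rw [Fin.cons_zero, Fin.cons_succ, if_neg (Fin.succ_ne_zero j).symm]
        exact herm_eq_zero hB (mem_orthV.mp (hw'U j).2)
      · rw [Fin.cons_zero, Fin.cons_succ, if_neg (Fin.succ_ne_zero i)]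
        exact mem_orthV.mp (hw'U i).2
      · rw [Fin.cons_succ, Fin.cons_succ]
        have := hw' i j
        simp only [Fin.succ_inj]
        exact this

end abstract

/-! ### matrix version -/

section matrix

variable {K : Type*} [Field K] {n : ℕ}

/-- the sesquilinear form with Gram matrix `H` -/
noncomputable def gramB (H : Matrix (Fin n) (Fin n) K) (ρ : K →+* K) :
    (Fin n → K) →ₗ[K] (Fin n → K) →ₛₗ[ρ] K :=
  LinearMap.mk₂'ₛₗ (RingHom.id K) ρ (fun u v => u ⬝ᵥ (H *ᵥ (fun i => ρ (v i))))
    (fun x y v => by simp only [add_dotProduct])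
    (fun c x v => by simp only [smul_dotProduct, RingHom.id_apply, smul_eq_mul])
    (fun v x y => by
      have : (fun i => ρ ((x + y) i)) = (fun i => ρ (x i)) + (fun i => ρ (y i)) := by
        funext i; simp
      rw [this, Matrix.mulVec_add, dotProduct_add])
    (fun c v x => by
      have : (fun i => ρ ((c • x) i)) = ρ c • (fun i => ρ (x i)) := by
        funext i; simp
      rw [this, Matrix.mulVec_smul, dotProduct_smul])

theorem gramB_apply (H : Matrix (Fin n) (Fin n) K) (ρ : K →+* K) (u v : Fin n → K) :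
    gramB H ρ u v = u ⬝ᵥ (H *ᵥ (fun i => ρ (v i))) := rfl

theorem gramB_apply' (H : Matrix (Fin n) (Fin n) K) (ρ : K →+* K) (u v : Fin n → K) :
    gramB H ρ u v = ∑ i, ∑ j, u i * H i j * ρ (v j) := by
  rw [gramB_apply]
  simp only [dotProduct, Matrix.mulVec, Finset.mul_sum, mul_assoc]

theorem gramB_isHerm (H : Matrix (Fin n) (Fin n) K) (ρ : K →+* K) (hρ : ∀ a, ρ (ρ a) = a)
    (hH : Hᵀ = H.map ρ) : IsHerm (gramB H ρ) := by
  intro x y
  rw [gramB_apply', gramB_apply']
  simp only [map_sum, map_mul, hρ]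
  rw [Finset.sum_comm]
  refine Finset.sum_congr rfl fun i _ => Finset.sum_congr rfl fun j _ => ?_
  have h1 : ρ (H i j) = H j i := by
    have := congrFun (congrFun hH i) j
    rw [Matrix.transpose_apply, Matrix.map_apply] at this
    exact this.symm
  rw [h1]
  ring

theorem gramB_nondeg (H : Matrix (Fin n) (Fin n) K) (ρ : K →+* K) (hdet : H.det ≠ 0) :
    NondegOn (gramB H ρ) ⊤ := by
  intro x _ hx0
  have h1 : Matrix.vecMul x H ≠ 0 := by
    intro h0
    apply hx0
    have hu : IsUnit H.det := isUnit_iff_ne_zero.mpr hdet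
    have := congrArg (fun w => Matrix.vecMul w H⁻¹) h0
    simp only [Matrix.vecMul_vecMul, Matrix.mul_nonsing_inv _ hu, Matrix.vecMul_one,
      Matrix.zero_vecMul] at this
    exact this
  obtain ⟨j, hj⟩ := Function.ne_iff.mp h1
  refine ⟨Pi.single j 1, trivial, ?_⟩
  rw [gramB_apply]
  have h2 : (fun i => ρ ((Pi.single j (1 : K) : Fin n → K) i)) = Pi.single j 1 := by
    funext i
    by_cases hij : i = j
    · subst hij; simp
    · simp [Pi.single_apply, hij]
  rw [h2, Matrix.dotProduct_mulVec, dotProduct_single_one]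
  exact hj

/-- an invertible hermitian matrix over a finite field is congruent to the identity -/
theorem exists_congr_one [Finite K] (H : Matrix (Fin n) (Fin n) K) (ρ : K →+* K)
    (hρ : Invol ρ) (hH : Hᵀ = H.map ρ) (hdet : H.det ≠ 0) :
    ∃ a : Matrix (Fin n) (Fin n) K, aᵀ * H * a.map ρ = 1 := by
  have hB := gramB_isHerm H ρ hρ.invol hH
  have hN := gramB_nondeg H ρ hdet
  have hfr : finrank K (⊤ : Submodule K (Fin n → K)) = n := by
    rw [finrank_top, Module.finrank_fintype_fun_eq_card, Fintype.card_fin]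
  obtain ⟨w, -, hw⟩ := exists_orthonormal hρ hB n ⊤ hN hfr
  refine ⟨Matrix.of (fun i j => w j i), ?_⟩
  ext i j
  have := hw i j
  rw [gramB_apply'] at this
  rw [Matrix.one_apply, ← this, Matrix.mul_apply]
  simp only [Matrix.mul_apply, Matrix.transpose_apply, Matrix.of_apply, Matrix.map_apply,
    Finset.sum_mul]
  rw [Finset.sum_comm]

end matrix

end Cfsg.Agent.Lib.Helper44_HermOrtho
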