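import Mathlib
import Cfsg.Agent.Lib.Helper14_PSLBalDefs
import Cfsg.Agent.Lib.Helper44_HermOrtho

set_option autoImplicit false

namespace Cfsg.Agent.Lib.Helper80_PSLBAL_HERMNF

open Matrix Module Cfsg

section matrix

variable {n : ℕ} {F : Type*} [Field F] [Fintype F]

local notation "Mn" => Matrix (Fin n) (Fin n) F

/-- **HERMNF**: hermitian normal form. -/
theorem herm_normal_form (hn : 1 ≤ n) (σ : F ≃+* F) (hσ : σ ≠ RingEquiv.refl F)
    (hσσ : ∀ a, σ (σ a) = a) (g : GL (Fin n) F) (μ : F)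
    (hg : (g : Mn) = μ • ((g : Mn).map σ)ᵀ) :
    ∃ (k : GL (Fin n) F) (c : F), (k : Mn) * (g : Mn) * ((k : Mn).map σ)ᵀ = c • (1 : Mn) := by
  classical
  -- the involution structure
  have hInv : Cfsg.Agent.Lib.Helper94_Herm.Invol (σ : F →+* F) := by
    refine ⟨fun a => hσσ a, ?_⟩
    by_contra hcon
    push Not at hcon
    apply hσ
    ext a
    exact hcon a
  have hgdet : (g : Mn).det ≠ 0 := by
    have := (Matrix.isUnit_iff_isUnit_det (g : Mn)).mp ⟨g, rfl⟩
    exact this.ne_zero
  -- transposed relation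
  have hgT : (g : Mn)ᵀ = μ • (g : Mn).map σ := by
    have := congrArg Matrix.transpose hg
    rw [Matrix.transpose_smul, Matrix.transpose_transpose] at this
    exact this
  -- `μ * σ μ = 1`
  have hμ : μ * σ μ = 1 := by
    have h1 : ((g : Mn).map σ)ᵀ = σ μ • (g : Mn) := by
      have h2 : (g : Mn).map σ = σ μ • ((g : Mn)ᵀ) := by
        conv_lhs => rw [hg]
        ext i j
        simp [Matrix.map_apply, Matrix.smul_apply, hσσ]
      rw [h2, Matrix.transpose_smul, Matrix.transpose_transpose]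
    have h3 : (g : Mn) = (μ * σ μ) • (g : Mn) := by
      conv_lhs => rw [hg, h1, smul_smul]
    have h4 : (g : Mn).det = (μ * σ μ) ^ n * (g : Mn).det := by
      conv_lhs => rw [h3, Matrix.det_smul, Fintype.card_fin]
    -- entrywise instead: pick a nonzero entry
    have hne : (g : Mn) ≠ 0 := by
      intro h0
      apply hgdet
      rw [h0]
      haveI : Nonempty (Fin n) := ⟨⟨0, hn⟩⟩
      exact Matrix.det_zero
    obtain ⟨i, j, hij⟩ : ∃ i j, (g : Mn) i j ≠ 0 := by
      by_contra hcon
      push Not at hcon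
      apply hne
      ext i j
      exact hcon i j
    have h5 := congrFun (congrFun h3 i) j
    rw [Matrix.smul_apply, smul_eq_mul] at h5
    have h6 : (1 - μ * σ μ) * (g : Mn) i j = 0 := by linear_combination h5
    rcases mul_eq_zero.mp h6 with h7 | h7
    · linear_combination -h7
    · exact absurd h7 hij
  -- Hilbert 90
  obtain ⟨y, hy0, hy⟩ := Cfsg.Agent.Lib.Helper94_Herm.hilbert90 hInv
    (x := μ) (by simpa using hμ)
  have hy' : y = μ * σ y := by simpa using hy
  set c : F := σ y with hc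
  have hc0 : c ≠ 0 := by
    rw [hc]
    intro h0
    apply hy0
    have := congrArg σ h0
    rwa [hσσ, map_zero] at this
  set H : Mn := c • (g : Mn) with hH
  have hHherm : Hᵀ = H.map (σ : F →+* F) := by
    rw [hH, Matrix.transpose_smul, hgT, smul_smul]
    ext i j
    simp only [Matrix.smul_apply, Matrix.map_apply, smul_eq_mul, RingHom.coe_coe, map_mul]
    rw [hc, hσσ]
    rw [show σ y * μ = y by rw [mul_comm]; exact hy'.symm]
  have hHdet : H.det ≠ 0 := by
    rw [hH, Matrix.det_smul]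
    exact mul_ne_zero (pow_ne_zero _ hc0) hgdet
  obtain ⟨a, ha⟩ := Cfsg.Agent.Lib.Helper44_HermOrtho.exists_congr_one H (σ : F →+* F) hInv
    hHherm hHdet
  -- `aᵀ` is invertible
  have hadet : (aᵀ).det ≠ 0 := by
    intro h0
    have := congrArg Matrix.det ha
    rw [Matrix.det_mul, Matrix.det_mul, h0, zero_mul, zero_mul, Matrix.det_one] at this
    exact zero_ne_one this
  let k : GL (Fin n) F := Matrix.GeneralLinearGroup.mkOfDetNeZero aᵀ hadet
  refine ⟨k, c⁻¹, ?_⟩
  have hk : (k : Mn) = aᵀ := rfl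
  rw [hk]
  have hmapT : ((aᵀ).map σ)ᵀ = a.map (σ : F →+* F) := by
    ext i j
    simp [Matrix.map_apply, Matrix.transpose_apply]
  rw [hmapT]
  have h8 : aᵀ * H * a.map (σ : F →+* F) = c • (aᵀ * (g : Mn) * a.map (σ : F →+* F)) := by
    rw [hH, Matrix.mul_smul, Matrix.smul_mul]
  rw [h8] at ha
  rw [← ha, smul_smul, inv_mul_cancel₀ hc0, one_smul]

end matrix

end Cfsg.Agent.Lib.Helper80_PSLBAL_HERMNF
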