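import Mathlib
import Cfsg.Agent.Lib.Helper14_PSLBalDefs
import Cfsg.Agent.Lib.Helper24_PSLBAL_ODDQ
import Cfsg.Agent.Lib.Helper24_PSLBAL_QSA
import Cfsg.Agent.Lib.Helper69_PSLBAL_KUNI
import Cfsg.Agent.Lib.Helper69_PSLBAL_KEYS
import Cfsg.Agent.Lib.Helper69_PSLBAL_USTR
import Cfsg.Agent.Lib.Helper80_PSLBAL_HERMNF
import Cfsg.Agent.Lib.Helper20_PSLBAL_SSTR
import Cfsg.Agent.Lib.Helper32_PSLBAL_ONORM
import Cfsg.Agent.Lib.Helper32_PSLBAL_KEYOCOMM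
import Cfsg.Agent.Lib.Helper32_PSLBAL_KEYOGEOM
import Cfsg.Agent.Lib.Helper7_PSLBAL_A4DPT

set_option autoImplicit false

namespace Cfsg.Agent.Lib.Helper14_PSLBalPk

open Matrix Module Cfsg Cfsg.Agent.Lib.Helper14_BalDefs Cfsg.Agent.Lib.Helper14_BalAbs
  Cfsg.Agent.Lib.Helper14_OmegaSimple Cfsg.Agent.Lib.Helper14_PSLBalCore
  Cfsg.Agent.Lib.Helper14_PSLBalDefs Cfsg.Agent.Lib.Helper14_PSLAut
  Cfsg.Agent.Lib.Helper44_PSLnRoot Cfsg.Agent.Lib.Helper14_FieldAutPSL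

/-! ## abstract group theory -/

/-- ODDQ -/
theorem oddComm_range_of_no_odd_normal {G A : Type*} [Group G] [Finite G] [Group A] [Finite A]
    (f : G →* A) (hker : ∀ g : G, f g = 1 → g * g = 1 ∧ ∀ x : G, g * x = x * g)
    (hG : ∀ M : Subgroup G, M.Normal → Odd (Nat.card M) → M = ⊥) : OddComm f.range :=
  Cfsg.Agent.Lib.Helper24_PSLBAL_ODDQ.oddComm_range_of_no_odd_normal f hker hG

/-- QSA -/
theorem oddComm_range_of_quasisimple {G A : Type*} [Group G] [Group A] [Finite A]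
    (f : G →* A) (hperf : commutator G = ⊤) (hs : IsSimpleGroup (G ⧸ Subgroup.center G))
    (t : G) (ht : f t ≠ 1) (htt : f (t * t) = 1) : OddComm f.range :=
  Cfsg.Agent.Lib.Helper24_PSLBAL_QSA.oddComm_range_of_quasisimple f hperf hs t ht htt

/-! ## abstract linear algebra -/

section abstract

variable {F V : Type*} [Field F] [AddCommGroup V] [Module F V]

/-- KUNI -/
theorem c_eq_one_of_unipotent [Nontrivial V] (τ : F ≃+* F) (hh : V → V) (hsb : SemiBij τ hh)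
    (t : V →ₗ[F] V) (k : ℕ) (hnil : (t - 1) ^ k = 0) (c : F)
    (hc : ∀ v, hh (t v) = c • t (hh v)) : c = 1 :=
  Cfsg.Agent.Lib.Helper69_PSLBAL_KUNI.c_eq_one_of_unipotent τ hh hsb t k hnil c hc

/-- ONORM -/
theorem conj_mem_TE_of_similitude (Q : QuadraticForm F V) (g : V ≃ₗ[F] V) (μ : F) (hμ : μ ≠ 0)
    (hg : ∀ v, Q (g v) = μ * Q v) (t : V ≃ₗ[F] V) (ht : t ∈ TE Q) : g * t * g⁻¹ ∈ TE Q :=
  Cfsg.Agent.Lib.Helper32_PSLBAL_ONORM.conj_mem_TE_of_similitude Q g μ hμ hg t ht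

variable [Fintype F] [FiniteDimensional F V]

/-- A4DPT -/
theorem A4D_fix_point (h2 : (2 : F) ≠ 0) (Q : QuadraticForm F V)
    (hQ : (QuadraticMap.polarBilin Q).Nondegenerate) (hdim : finrank F V = 4)
    (M : Subgroup (V ≃ₗ[F] V)) (hM : M ≤ TE Q) (hnorm : ∀ t ∈ TE Q, ∀ m ∈ M, t * m * t⁻¹ ∈ M)
    (hodd : Odd (Nat.card M)) {e : V} (he0 : e ≠ 0) (he : Q e = 0) :
    ∀ m ∈ M, ∃ a : F, m e = a • e :=
  Cfsg.Agent.Lib.Helper7_PSLBAL_A4DPT.A4D_fix_point h2 Q hQ hdim M hM hnorm hodd he0 he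

/-- KEYOCOMM -/
theorem key_O_comm (h2 : (2 : F) ≠ 0) (Q : QuadraticForm F V)
    (hQ : (QuadraticMap.polarBilin Q).Nondegenerate) (hdim : 3 ≤ finrank F V)
    (τ : F ≃+* F) (hh : V → V) (hsb : SemiBij τ hh)
    (hcomm : ∀ u z : V, Q u = 0 → QuadraticMap.polar (⇑Q) u z = 0 →
      ∃ c : F, ∀ v, hh (E Q u z v) = c • E Q u z (hh v)) :
    ∀ u : V, Q u = 0 → ∃ a : F, hh u = a • u :=
  Cfsg.Agent.Lib.Helper32_PSLBAL_KEYOCOMM.key_O_comm h2 Q hQ hdim τ hh hsb hcomm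

/-- KEYOGEOM -/
theorem key_O_geom (h2 : (2 : F) ≠ 0) (Q : QuadraticForm F V)
    (hQ : (QuadraticMap.polarBilin Q).Nondegenerate) (hdim : 3 ≤ finrank F V)
    (τ : F ≃+* F) (hh : V → V) (hsb : SemiBij τ hh)
    (hfix : ∀ u : V, Q u = 0 → ∃ a : F, hh u = a • u) :
    τ = RingEquiv.refl F ∧ ∃ a : F, ∀ v, hh v = a • v :=
  Cfsg.Agent.Lib.Helper32_PSLBAL_KEYOGEOM.key_O_geom h2 Q hQ hdim τ hh hsb hfix

/-- `A4D`: no non-trivial normal subgroup of odd order in dimension four -/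
theorem A4D (h2 : (2 : F) ≠ 0) (Q : QuadraticForm F V)
    (hQ : (QuadraticMap.polarBilin Q).Nondegenerate) (hdim : finrank F V = 4)
    (M : Subgroup (V ≃ₗ[F] V)) (hM : M ≤ TE Q) (hnorm : ∀ t ∈ TE Q, ∀ m ∈ M, t * m * t⁻¹ ∈ M)
    (hodd : Odd (Nat.card M)) : M = ⊥ := by
  have hfin : Finite M := Nat.finite_of_card_ne_zero (by
    intro h; rw [h] at hodd; exact absurd hodd (by decide))
  rw [Subgroup.eq_bot_iff_forall]
  intro m hm
  -- `m` fixes all singular points, hence is a scalar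
  have hsb : SemiBij (RingEquiv.refl F) (fun v => m v) :=
    ⟨fun v w => map_add m v w, fun a v => by simp, m.bijective⟩
  obtain ⟨-, a, ha⟩ := key_O_geom h2 Q hQ (by omega) (RingEquiv.refl F) (fun v => m v) hsb (by
    intro u hu
    by_cases hu0 : u = 0
    · exact ⟨1, by simp [hu0]⟩
    · exact A4D_fix_point h2 Q hQ hdim M hM hnorm hodd hu0 hu m hm)
  -- `a² = 1`
  obtain ⟨x, hx⟩ : ∃ x : V, Q x ≠ 0 := by
    by_contra hcon
    push Not at hcon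
    have hpos : 0 < finrank F V := by omega
    have : Nontrivial V := (Module.finrank_pos_iff (R := F)).mp hpos
    obtain ⟨v, hv⟩ := exists_ne (0 : V)
    apply hv
    apply hQ.1 v
    intro y
    rw [QuadraticMap.polarBilin_apply_apply, QuadraticMap.polar, hcon, hcon, hcon]
    ring
  have hmO := TE_le_oG Q (hM hm) x
  have ha' : m x = a • x := ha x
  rw [ha', QuadraticMap.map_smul, smul_eq_mul] at hmO
  have haa : a * a = 1 := by
    have h3 : (a * a - 1) * Q x = 0 := by linear_combination hmO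
    rcases mul_eq_zero.mp h3 with h4 | h4
    · linear_combination h4
    · exact absurd h4 hx
  have hmm : m * m = 1 := by
    apply LinearEquiv.ext
    intro v
    have h1 : m (m v) = a • (a • v) := by
      rw [ha (m v), ha v]
    rw [LinearEquiv.mul_apply, h1, smul_smul, haa, one_smul]
    rfl
  obtain ⟨k, hk⟩ := hodd
  have h1 : (⟨m, hm⟩ : M) ^ Nat.card M = 1 := pow_card_eq_one'
  have h3 : m ^ (2 * k + 1) = 1 := by
    have := congrArg (fun z : M => (z : V ≃ₗ[F] V)) h1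
    rw [hk] at this
    exact this
  rw [pow_succ, pow_mul, pow_two, hmm, one_pow, one_mul] at h3
  exact h3

/-- `KEYO` -/
theorem key_O (h2 : (2 : F) ≠ 0) (Q : QuadraticForm F V)
    (hQ : (QuadraticMap.polarBilin Q).Nondegenerate) (hdim : 3 ≤ finrank F V)
    (τ : F ≃+* F) (hh : V → V) (hsb : SemiBij τ hh)
    (hcomm : ∀ u z : V, Q u = 0 → QuadraticMap.polar (⇑Q) u z = 0 →
      ∃ c : F, ∀ v, hh (E Q u z v) = c • E Q u z (hh v)) :
    τ = RingEquiv.refl F ∧ ∃ a : F, ∀ v, hh v = a • v :=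
  key_O_geom h2 Q hQ hdim τ hh hsb (key_O_comm h2 Q hQ hdim τ hh hsb hcomm)

end abstract

/-! ## matrices -/

section matrix

variable {n : ℕ} {F : Type*} [Field F] [Fintype F]

local notation "SLn" => Matrix.SpecialLinearGroup (Fin n) F
local notation "PSLn" => Matrix.ProjectiveSpecialLinearGroup (Fin n) F
local notation "Mn" => Matrix (Fin n) (Fin n) F

/-- KEYS -/
theorem key_S (h2 : (2 : F) ≠ 0) (hn : 2 ≤ n) (M : Mn) (hM : Mᵀ = -M) (hdet : M.det ≠ 0)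
    (τ : F ≃+* F) (hh : (Fin n → F) → (Fin n → F)) (hsb : SemiBij τ hh)
    (hcomm : ∀ s : SLn, s ∈ RS M → ∃ c : F, ∀ v, hh ((s : Mn) *ᵥ v) = c • ((s : Mn) *ᵥ hh v)) :
    τ = RingEquiv.refl F ∧ ∃ a : F, ∀ v, hh v = a • v :=
  Cfsg.Agent.Lib.Helper69_PSLBAL_KEYS.key_S h2 hn M hM hdet τ hh hsb hcomm

/-- SSTR -/
theorem sp_structure (h2 : (2 : F) ≠ 0) (hn : 3 ≤ n) (M : Mn) (hM : Mᵀ = -M) (hdet : M.det ≠ 0) :
    commutator ↥(RS M) = ⊤ ∧ IsSimpleGroup (↥(RS M) ⧸ Subgroup.center ↥(RS M)) ∧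
      ∃ t ∈ RS M, t * t = 1 ∧ ¬ ∃ c : F, (t : Mn) = c • (1 : Mn) :=
  Cfsg.Agent.Lib.Helper20_PSLBAL_SSTR.sp_structure h2 hn M hM hdet

/-- USTR -/
theorem su_structure {q₀ : ℕ} (hF : Fintype.card F = q₀ ^ 2) (h2 : (2 : F) ≠ 0) (hn : 3 ≤ n) :
    commutator ↥(Cfsg.SU n F q₀) = ⊤ ∧
      IsSimpleGroup (↥(Cfsg.SU n F q₀) ⧸ Subgroup.center ↥(Cfsg.SU n F q₀)) ∧
      ∃ t ∈ Cfsg.SU n F q₀, t * t = 1 ∧ ¬ ∃ c : F, (t : Mn) = c • (1 : Mn) :=
  Cfsg.Agent.Lib.Helper69_PSLBAL_USTR.su_structure hF h2 hn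

/-- HERMNF -/
theorem herm_normal_form (hn : 1 ≤ n) (σ : F ≃+* F) (hσ : σ ≠ RingEquiv.refl F)
    (hσσ : ∀ a, σ (σ a) = a) (g : GL (Fin n) F) (μ : F)
    (hg : (g : Mn) = μ • ((g : Mn).map σ)ᵀ) :
    ∃ (k : GL (Fin n) F) (c : F), (k : Mn) * (g : Mn) * ((k : Mn).map σ)ᵀ = c • (1 : Mn) :=
  Cfsg.Agent.Lib.Helper80_PSLBAL_HERMNF.herm_normal_form hn σ hσ hσσ g μ hg

end matrix

end Cfsg.Agent.Lib.Helper14_PSLBalPk
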