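import Mathlib
import Cfsg.Agent.Lib.Helper14_PSLBalFix
import Cfsg.Agent.Lib.Helper14_PSLBalPk

/-!
# Local balance at a graph involution of symplectic type of `PSL_n(q)`, `q` odd (helper14)
-/

set_option autoImplicit false
set_option linter.unusedSectionVars false
set_option linter.unusedVariables false

namespace Cfsg.Agent.Lib.Helper14_PSLBalS

open Matrix Cfsg Cfsg.Agent.Lib.Helper14_PSLAut Cfsg.Agent.Lib.Helper14_PSLGraph
  Cfsg.Agent.Lib.Helper44_PSLnRoot Cfsg.Agent.Lib.Helper14_FieldAutPSL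
  Cfsg.Agent.Lib.Helper14_PSLBalCore Cfsg.Agent.Lib.Helper14_PSLBalDefs
  Cfsg.Agent.Lib.Helper14_PSLBalFix Cfsg.Agent.Lib.Helper14_BalAbs

variable {n : ℕ} {F : Type*} [Field F]

local notation "SLn" => Matrix.SpecialLinearGroup (Fin n) F
local notation "PSLn" => Matrix.ProjectiveSpecialLinearGroup (Fin n) F
local notation "Mn" => Matrix (Fin n) (Fin n) F

/-- the image in `Aut(PSL_n)` of a subgroup of `SL_n`, as a range -/
theorem map_innSL_eq_range (R : Subgroup SLn) :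
    R.map innSL = ((innSL (n := n) (F := F)).comp R.subtype).range := by
  rw [MonoidHom.range_comp, Subgroup.range_subtype]

/-- an element of `SL_n` with trivial inner automorphism is a scalar matrix -/
theorem scalar_of_innSL_eq_one (t : SLn) (h : innSL t = 1) : ∃ c : F, (t : Mn) = c • (1 : Mn) := by
  have h1 := mk_eq_one_of_conj_eq_one t h
  rw [QuotientGroup.eq_one_iff, Matrix.SpecialLinearGroup.mem_center_iff] at h1
  obtain ⟨c, -, hc⟩ := h1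
  refine ⟨c, ?_⟩
  rw [← hc, Matrix.scalar_apply, ← Matrix.smul_one_eq_diagonal]

/-- `OddComm` for the image of a quasisimple subgroup of `SL_n` containing a non-scalar involution -/
theorem oddComm_of_structure [Fintype F] (R : Subgroup SLn)
    (h : commutator ↥R = ⊤ ∧ IsSimpleGroup (↥R ⧸ Subgroup.center ↥R) ∧
      ∃ t ∈ R, t * t = 1 ∧ ¬ ∃ c : F, (t : Mn) = c • (1 : Mn)) : OddComm (R.map innSL) := by
  obtain ⟨hperf, hs, t, htR, htt, hns⟩ := h
  rw [map_innSL_eq_range]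
  apply Cfsg.Agent.Lib.Helper14_PSLBalPk.oddComm_range_of_quasisimple _ hperf hs ⟨t, htR⟩
  · intro h1
    exact hns (scalar_of_innSL_eq_one t h1)
  · have : (⟨t, htR⟩ : ↥R) * ⟨t, htR⟩ = 1 := Subtype.ext htt
    rw [this, map_one]

/-- similitudes normalise the isometry group -/
theorem conj_mem_RS (M : Mn) (s r : SLn) {c : F} (hc0 : c ≠ 0)
    (hc : (s : Mn)ᵀ * M * (s : Mn) = c • M) (hr : r ∈ RS M) : s * r * s⁻¹ ∈ RS M := by
  rw [mem_RS] at hr ⊢
  have hsi : ((s⁻¹ : SLn) : Mn)ᵀ * M * ((s⁻¹ : SLn) : Mn) = c⁻¹ • M := by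
    have h3 : ((s⁻¹ : SLn) : Mn)ᵀ * (s : Mn)ᵀ = 1 := by
      rw [← Matrix.transpose_mul, sl_mul_inv, Matrix.transpose_one]
    calc ((s⁻¹ : SLn) : Mn)ᵀ * M * ((s⁻¹ : SLn) : Mn)
        = ((s⁻¹ : SLn) : Mn)ᵀ * (c⁻¹ • (c • M)) * ((s⁻¹ : SLn) : Mn) := by
          rw [smul_smul, inv_mul_cancel₀ hc0, one_smul]
      _ = ((s⁻¹ : SLn) : Mn)ᵀ * (c⁻¹ • ((s : Mn)ᵀ * M * (s : Mn))) * ((s⁻¹ : SLn) : Mn) := by
          rw [hc]
      _ = c⁻¹ • ((((s⁻¹ : SLn) : Mn)ᵀ * (s : Mn)ᵀ) * M * ((s : Mn) * ((s⁻¹ : SLn) : Mn))) := by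
          simp only [Matrix.mul_assoc, Matrix.mul_smul, Matrix.smul_mul]
      _ = c⁻¹ • M := by rw [h3, sl_mul_inv, Matrix.one_mul, Matrix.mul_one]
  have hcoe : ((s * r * s⁻¹ : SLn) : Mn) = (s : Mn) * (r : Mn) * ((s⁻¹ : SLn) : Mn) := by
    rw [Matrix.SpecialLinearGroup.coe_mul, Matrix.SpecialLinearGroup.coe_mul]
  rw [hcoe, Matrix.transpose_mul, Matrix.transpose_mul]
  calc ((s⁻¹ : SLn) : Mn)ᵀ * ((r : Mn)ᵀ * (s : Mn)ᵀ) * M *
        ((s : Mn) * (r : Mn) * ((s⁻¹ : SLn) : Mn))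
      = ((s⁻¹ : SLn) : Mn)ᵀ * ((r : Mn)ᵀ * ((s : Mn)ᵀ * M * (s : Mn)) * (r : Mn)) *
        ((s⁻¹ : SLn) : Mn) := by simp only [Matrix.mul_assoc]
    _ = c • (((s⁻¹ : SLn) : Mn)ᵀ * ((r : Mn)ᵀ * M * (r : Mn)) * ((s⁻¹ : SLn) : Mn)) := by
        rw [hc]
        simp only [Matrix.mul_smul, Matrix.smul_mul, Matrix.mul_assoc]
    _ = M := by
        rw [hr, hsi, smul_smul, mul_inv_cancel₀ hc0, one_smul]

theorem gl_det_ne_zero (M : GL (Fin n) F) : (M : Mn).det ≠ 0 := by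
  have : IsUnit (M : Mn).det := (Matrix.isUnit_iff_isUnit_det _).mp M.isUnit
  exact this.ne_zero

variable [Fintype F]

/-- **Local balance at a graph involution of symplectic type.** -/
theorem balance_S {p f : ℕ} [hp : Fact p.Prime] (hFp : Fintype.card F = p ^ f)
    (h2 : (2 : F) ≠ 0) (hn : 3 ≤ n) (M : GL (Fin n) F) (hM : (M : Mn)ᵀ = -(M : Mn))
    (A : Subgroup (MulAut PSLn)) (hinn : ∀ k : PSLn, MulAut.conj k ∈ A) :
    pPrimeCore 2 ↥(A ⊓ Subgroup.centralizer {gam M}) = ⊥ := by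
  have hdet : (M : Mn).det ≠ 0 := gl_det_ne_zero M
  apply core_of_R hFp hn (gam M) (RS (M : Mn))
  · intro r hr
    exact gam_fix_of_isom M r ((mem_RS _ r).mp hr)
  · intro s hs r hr
    obtain ⟨c, hc0, hc⟩ := sim_of_gam_fix (by omega) M s hs
    exact conj_mem_RS (M : Mn) s r hc0 hc hr
  · exact oddComm_of_structure _
      (Cfsg.Agent.Lib.Helper14_PSLBalPk.sp_structure h2 hn (M : Mn) hM hdet)
  · intro τ hh hadd hsm hbij hcomm
    exact Cfsg.Agent.Lib.Helper14_PSLBalPk.key_S h2 (by omega) (M : Mn) hM hdet τ hh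
      ⟨hadd, hsm, hbij⟩ hcomm
  · exact hinn

end Cfsg.Agent.Lib.Helper14_PSLBalS
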