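import Mathlib
import Cfsg.Agent.Lib.Helper14_PSLBalS
import Cfsg.Agent.Lib.Helper14_PSLBalQM
import Cfsg.Agent.Lib.Helper52_Bal_D1
import Cfsg.Agent.Lib.Helper82_Bal_A2
import Cfsg.Agent.Lib.Helper52_Bal_A3
import Cfsg.Agent.Lib.Helper58_Bal_A3i

/-!
# Local balance at a graph involution of orthogonal type of `PSL_n(q)`, `q` odd (helper14)
-/

set_option autoImplicit false
set_option linter.unusedSectionVars false
set_option linter.unusedVariables false

namespace Cfsg.Agent.Lib.Helper14_PSLBalO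

open Matrix Module Cfsg Cfsg.Agent.Lib.Helper14_PSLAut Cfsg.Agent.Lib.Helper14_PSLGraph
  Cfsg.Agent.Lib.Helper44_PSLnRoot Cfsg.Agent.Lib.Helper14_FieldAutPSL
  Cfsg.Agent.Lib.Helper14_PSLBalCore Cfsg.Agent.Lib.Helper14_PSLBalDefs
  Cfsg.Agent.Lib.Helper14_PSLBalFix Cfsg.Agent.Lib.Helper14_BalAbs
  Cfsg.Agent.Lib.Helper14_PSLBalS
  Cfsg.Agent.Lib.Helper14_BalDefs Cfsg.Agent.Lib.Helper14_OmegaSimple
  Cfsg.Agent.Lib.Helper14_PSLCent Cfsg.Agent.Lib.Helper14_PSLGraphOdd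
  Cfsg.Agent.Lib.Helper14_PSLBalQM

variable {n : ℕ} {F : Type*} [Field F]

local notation "SLn" => Matrix.SpecialLinearGroup (Fin n) F
local notation "PSLn" => Matrix.ProjectiveSpecialLinearGroup (Fin n) F
local notation "Mn" => Matrix (Fin n) (Fin n) F
local notation "Vn" => Fin n → F

section finite

variable [Fintype F]

/-- `RO M` has no non-trivial normal subgroup of odd order -/
theorem no_odd_normal_RO (h2 : (2 : F) ≠ 0) (hn : 3 ≤ n) {M : Mn} (hM : Mᵀ = M) (hdet : M.det ≠ 0)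
    (N : Subgroup ↥(RO M)) (hN : N.Normal) (hodd : Odd (Nat.card N)) : N = ⊥ := by
  obtain ⟨φ, hφ⟩ : ∃ φ : ↥(RO M) →* (Vn ≃ₗ[F] Vn),
      φ = (Matrix.SpecialLinearGroup.toLin').comp (RO M).subtype := ⟨_, rfl⟩
  have hφinj : Function.Injective φ := by
    rw [hφ]
    exact Matrix.SpecialLinearGroup.toLin'_injective.comp (Subgroup.subtype_injective _)
  have hQ := nondeg_QM h2 hM hdet
  have hfr : finrank F Vn = n := Module.finrank_fin_fun F
  have hle : N.map φ ≤ TE (QM M) := by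
    rintro _ ⟨m, -, rfl⟩
    rw [hφ]
    show Matrix.SpecialLinearGroup.toLin' (m : SLn) ∈ TE (QM M)
    exact (mem_RO M (m : SLn)).mp m.2
  have hnorm : ∀ t ∈ TE (QM M), ∀ m ∈ N.map φ, t * m * t⁻¹ ∈ N.map φ := by
    rintro t ht _ ⟨m, hm, rfl⟩
    obtain ⟨s, hs⟩ := exists_sl_of_mem_TE M t ht
    have hsR : s ∈ RO M := by rw [mem_RO, hs]; exact ht
    obtain ⟨s', hs'⟩ : ∃ s' : ↥(RO M), (s' : SLn) = s := ⟨⟨s, hsR⟩, rfl⟩
    have hφs : φ s' = t := by
      rw [hφ]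
      show Matrix.SpecialLinearGroup.toLin' (s' : SLn) = t
      rw [hs', hs]
    rw [Subgroup.mem_map]
    refine ⟨s' * m * s'⁻¹, hN.conj_mem m hm s', ?_⟩
    rw [map_mul, map_mul, map_inv, hφs]
  have hcard : Odd (Nat.card (N.map φ)) := by
    rw [Subgroup.card_map_of_injective hφinj]
    exact hodd
  have hbot : N.map φ = ⊥ := by
    rcases Nat.lt_or_ge n 4 with h4 | h4
    · exact Cfsg.Agent.Lib.Helper82_Bal_A2.A2 h2 (QM M) hQ (by omega) _ hle hnorm hcard
    · rcases Nat.lt_or_ge n 5 with h5 | h5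
      · exact Cfsg.Agent.Lib.Helper14_PSLBalPk.A4D h2 (QM M) hQ (by omega) _ hle hnorm hcard
      · exact Cfsg.Agent.Lib.Helper52_Bal_A3.A3 h2 (QM M) hQ (by omega)
          (Cfsg.Agent.Lib.Helper58_Bal_A3i.A3i h2 (QM M) hQ (by omega)) _ hle hnorm hcard
  rwa [Subgroup.map_eq_bot_iff_of_injective _ hφinj] at hbot

/-- similitudes normalise `RO M` -/
theorem conj_mem_RO (M : Mn) (s r : SLn) {c : F} (hc0 : c ≠ 0)
    (hc : (s : Mn)ᵀ * M * (s : Mn) = c • M) (hr : r ∈ RO M) : s * r * s⁻¹ ∈ RO M := by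
  rw [mem_RO] at hr ⊢
  rw [map_mul, map_mul, map_inv]
  apply Cfsg.Agent.Lib.Helper14_PSLBalPk.conj_mem_TE_of_similitude (QM M) _ c hc0 _ _ hr
  intro v
  rw [Matrix.SpecialLinearGroup.toLin'_apply, Matrix.toLin'_apply, QM_mulVec, hc, bilOf_smul,
    QM_eq_bilOf]

/-- the kernel of `RO M → Aut(PSL_n)` consists of central involutions -/
theorem ker_RO (h2 : (2 : F) ≠ 0) (hn : 0 < n) {M : Mn} (hM : Mᵀ = M) (hdet : M.det ≠ 0)
    (g : ↥(RO M)) (hg : innSL (g : SLn) = 1) : g * g = 1 ∧ ∀ x : ↥(RO M), g * x = x * g := by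
  obtain ⟨c, hc⟩ := scalar_of_innSL_eq_one (g : SLn) hg
  have hiso := isom_of_mem_RO h2 hM (g : SLn) g.2
  rw [hc, Matrix.transpose_smul, Matrix.transpose_one, Matrix.smul_mul, Matrix.one_mul,
    Matrix.mul_smul, Matrix.mul_one, smul_smul] at hiso
  have hcc : c * c = 1 := by
    by_contra hne
    have h1 : (c * c - 1) • M = 0 := by rw [sub_smul, hiso, one_smul, sub_self]
    rcases smul_eq_zero.mp h1 with h | h
    · exact hne (by linear_combination h)
    · have : Nonempty (Fin n) := ⟨⟨0, hn⟩⟩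
      rw [h, Matrix.det_zero] at hdet
      exact hdet rfl
  constructor
  · apply Subtype.ext
    apply Subtype.ext
    show ((g : SLn) : Mn) * ((g : SLn) : Mn) = 1
    rw [hc, Matrix.smul_mul, Matrix.one_mul, smul_smul, hcc, one_smul]
  · intro x
    apply Subtype.ext
    apply Subtype.ext
    show ((g : SLn) : Mn) * ((x : SLn) : Mn) = ((x : SLn) : Mn) * ((g : SLn) : Mn)
    rw [hc, Matrix.smul_mul, Matrix.one_mul, Matrix.mul_smul, Matrix.mul_one]

/-- **Local balance at a graph involution of orthogonal type.** -/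
theorem balance_O {p f : ℕ} [hp : Fact p.Prime] (hFp : Fintype.card F = p ^ f)
    (h2 : (2 : F) ≠ 0) (hn : 3 ≤ n) (M : GL (Fin n) F) (hM : (M : Mn)ᵀ = (M : Mn))
    (A : Subgroup (MulAut PSLn)) (hinn : ∀ k : PSLn, MulAut.conj k ∈ A) :
    pPrimeCore 2 ↥(A ⊓ Subgroup.centralizer {gam M}) = ⊥ := by
  have hdet : (M : Mn).det ≠ 0 := gl_det_ne_zero M
  have hQ := nondeg_QM h2 hM hdet
  have hfinG : Finite ↥(RO (M : Mn)) := inferInstance
  apply core_of_R hFp hn (gam M) (RO (M : Mn))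
  · intro r hr
    exact gam_fix_of_isom M r (isom_of_mem_RO h2 hM r hr)
  · intro s hs r hr
    obtain ⟨c, hc0, hc⟩ := sim_of_gam_fix (by omega) M s hs
    exact conj_mem_RO (M : Mn) s r hc0 hc hr
  · rw [map_innSL_eq_range]
    apply Cfsg.Agent.Lib.Helper14_PSLBalPk.oddComm_range_of_no_odd_normal
    · intro g hg
      exact ker_RO h2 (by omega) hM hdet g hg
    · intro N hN hodd
      exact no_odd_normal_RO h2 hn hM hdet N hN hodd
  · intro τ hh hadd hsm hbij hcomm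
    apply Cfsg.Agent.Lib.Helper14_PSLBalPk.key_O h2 (QM (M : Mn)) hQ
      (by rw [Module.finrank_fin_fun]; exact hn) τ hh ⟨hadd, hsm, hbij⟩
    intro u z hu huz
    obtain ⟨s, hs⟩ := exists_sl_of_mem_TE (M : Mn) (E (QM (M : Mn)) u z)
      (E_mem_TE (QM (M : Mn)) hu huz)
    have hsR : s ∈ RO (M : Mn) := by rw [mem_RO, hs]; exact E_mem_TE (QM (M : Mn)) hu huz
    obtain ⟨c, hc⟩ := hcomm s hsR
    refine ⟨c, ?_⟩
    intro v
    have h1 : ∀ w : Vn, (s : Mn) *ᵥ w = E (QM (M : Mn)) u z w := by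
      intro w
      rw [← hs, Matrix.SpecialLinearGroup.toLin'_apply, Matrix.toLin'_apply]
    rw [← h1, ← h1]
    exact hc v
  · exact hinn

end finite

end Cfsg.Agent.Lib.Helper14_PSLBalO
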