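import Mathlib
import Cfsg.Agent.Lib.Helper14_GraphFieldPSL
import Cfsg.Agent.Lib.Helper5_SUCenter

set_option autoImplicit false
set_option linter.unusedSectionVars false

/-!
# Automorphisms of `PSU_n` (helper14)

The automorphisms of `PSU_n` induced by conjugation with matrices normalizing `SU_n` (`conjN`) and by field
automorphisms (`fieldU`), the translation of the Prelude predicates into these, and their commutation rules.
-/

namespace Cfsg.Agent.Lib.Helper14_PSUAut

open Matrix Cfsg.Agent.Lib.Helper14_PSLAut Cfsg.Agent.Lib.Helper14_PSLGraph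
  Cfsg.Agent.Lib.Helper44_PSLnRoot Cfsg.Agent.Lib.Helper14_FieldAutPSL
  Cfsg.Agent.Lib.Helper14_Char2Groups

variable {F : Type*} [Field F] {n q : ℕ}

local notation "SLn" => Matrix.SpecialLinearGroup (Fin n) F
set_option quotPrecheck false in
local notation "SUn" => ↥(Cfsg.SU n F q)
local notation "PSUn" => Cfsg.PSU n F q
local notation "Mn" => Matrix (Fin n) (Fin n) F

/-! ### The normalizer of `SU_n` in `GL_n` -/

theorem slConj_slConj_inv (x : GL (Fin n) F) (s : SLn) : slConj x (slConj x⁻¹ s) = s := by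
  have h := slConj_mul x x⁻¹
  rw [mul_inv_cancel, slConj_one] at h
  have h2 := congrArg (fun e : SLn ≃* SLn => e s) h
  exact h2.symm

theorem slConj_inv_slConj (x : GL (Fin n) F) (s : SLn) : slConj x⁻¹ (slConj x s) = s := by
  have h := slConj_mul x⁻¹ x
  rw [inv_mul_cancel, slConj_one] at h
  have h2 := congrArg (fun e : SLn ≃* SLn => e s) h
  exact h2.symm

/-- The matrices whose conjugation action on `SL_n` stabilizes `SU_n`. -/
def normSU (n : ℕ) (F : Type*) [Field F] (q : ℕ) : Subgroup (GL (Fin n) F) where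
  carrier := {x | ∀ s : Matrix.SpecialLinearGroup (Fin n) F,
    slConj x s ∈ Cfsg.SU n F q ↔ s ∈ Cfsg.SU n F q}
  one_mem' := by
    intro s
    rw [slConj_one]
    rfl
  mul_mem' := by
    intro a b ha hb s
    rw [slConj_mul]
    show slConj a (slConj b s) ∈ _ ↔ _
    rw [ha, hb]
  inv_mem' := by
    intro a ha s
    have h := ha (slConj a⁻¹ s)
    rw [slConj_slConj_inv] at h
    exact h.symm

theorem mem_normSU_iff (x : GL (Fin n) F) :
    x ∈ normSU n F q ↔ ∀ s : SLn, slConj x s ∈ Cfsg.SU n F q ↔ s ∈ Cfsg.SU n F q := Iff.rfl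

/-- Conjugation by an element of the normalizer, on `SU_n`. -/
def suConj (x : ↥(normSU n F q)) : SUn ≃* SUn where
  toFun s := ⟨slConj x.1 s.1, (x.2 s.1).mpr s.2⟩
  invFun s := ⟨slConj x.1⁻¹ s.1, ((normSU n F q).inv_mem x.2 s.1).mpr s.2⟩
  left_inv s := Subtype.ext (slConj_inv_slConj x.1 s.1)
  right_inv s := Subtype.ext (slConj_slConj_inv x.1 s.1)
  map_mul' s t := Subtype.ext (map_mul (slConj x.1) s.1 t.1)

theorem suConj_coe (x : ↥(normSU n F q)) (s : SUn) :
    ((suConj x s : SUn) : SLn) = slConj x.1 s.1 := rfl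

theorem suConj_one : suConj (1 : ↥(normSU n F q)) = MulEquiv.refl SUn := by
  ext s : 1
  apply Subtype.ext
  show slConj (1 : GL (Fin n) F) s.1 = s.1
  rw [slConj_one]
  rfl

theorem suConj_mul (x y : ↥(normSU n F q)) : suConj (x * y) = (suConj y).trans (suConj x) := by
  ext s : 1
  apply Subtype.ext
  show slConj (x.1 * y.1) s.1 = slConj x.1 (slConj y.1 s.1)
  rw [slConj_mul]
  rfl

/-- An automorphism of `SU_n` descends to `PSU_n`. -/
def descendU (e : SUn ≃* SUn) : PSUn ≃* PSUn :=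
  QuotientGroup.congr (Subgroup.center SUn) (Subgroup.center SUn) e
    (Subgroup.characteristic_iff_map_eq.mp inferInstance e)

theorem descendU_mk (e : SUn ≃* SUn) (s : SUn) :
    descendU e (QuotientGroup.mk s) = QuotientGroup.mk (e s) := rfl

theorem descendU_refl : descendU (MulEquiv.refl SUn) = MulEquiv.refl PSUn := by
  ext x : 1
  induction x using QuotientGroup.induction_on with
  | H s => rfl

theorem descendU_trans (e e' : SUn ≃* SUn) :
    descendU (e.trans e') = (descendU e).trans (descendU e') := by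
  ext x : 1
  induction x using QuotientGroup.induction_on with
  | H s => rfl

/-- The automorphism of `PSU_n` induced by conjugation with an element of the normalizer. -/
def conjN : ↥(normSU n F q) →* MulAut PSUn where
  toFun x := descendU (suConj x)
  map_one' := by rw [suConj_one, descendU_refl]; rfl
  map_mul' x y := by rw [suConj_mul, descendU_trans]; rfl

theorem conjN_mk (x : ↥(normSU n F q)) (s : SUn) :
    conjN x (QuotientGroup.mk s) = QuotientGroup.mk (suConj x s) := rfl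

/-! ### Field automorphisms -/

theorem hermForm_map (σ : F ≃+* F) (u v : Fin n → F) :
    Cfsg.hermForm n F q (fun i => σ (u i)) (fun i => σ (v i)) = σ (Cfsg.hermForm n F q u v) := by
  unfold Cfsg.hermForm
  rw [map_sum]
  apply Finset.sum_congr rfl
  intro i _
  rw [map_mul, map_pow]

theorem map_mulVec (σ : F ≃+* F) (M : Mn) (u : Fin n → F) :
    (M.map σ) *ᵥ (fun i => σ (u i)) = fun i => σ ((M *ᵥ u) i) := by
  funext i
  simp only [Matrix.mulVec, dotProduct, Matrix.map_apply, map_sum, map_mul]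

theorem fieldSL_mem (σ : F ≃+* F) (s : SLn) (hs : s ∈ Cfsg.SU n F q) :
    fieldSL σ s ∈ Cfsg.SU n F q := by
  intro u v
  have hu : u = fun i => σ (σ.symm (u i)) := by funext i; simp
  have hv : v = fun i => σ (σ.symm (v i)) := by funext i; simp
  show Cfsg.hermForm n F q ((fieldSL σ s).1 *ᵥ u) ((fieldSL σ s).1 *ᵥ v) = _
  rw [fieldSL_coe, hu, hv, map_mulVec, map_mulVec, hermForm_map, hermForm_map]
  congr 1
  exact hs _ _

theorem fieldSL_mem_iff (σ : F ≃+* F) (s : SLn) :
    fieldSL σ s ∈ Cfsg.SU n F q ↔ s ∈ Cfsg.SU n F q := by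
  constructor
  · intro h
    have h2 := fieldSL_mem σ.symm _ h
    have h3 : fieldSL σ.symm (fieldSL σ s) = s := (fieldSL σ).left_inv s
    rw [h3] at h2
    exact h2
  · exact fieldSL_mem σ s

/-- The entrywise field automorphism on `SU_n`. -/
def suField (σ : F ≃+* F) : SUn ≃* SUn where
  toFun s := ⟨fieldSL σ s.1, fieldSL_mem σ s.1 s.2⟩
  invFun s := ⟨fieldSL σ.symm s.1, fieldSL_mem σ.symm s.1 s.2⟩
  left_inv s := Subtype.ext ((fieldSL σ).left_inv s.1)
  right_inv s := Subtype.ext ((fieldSL σ).right_inv s.1)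
  map_mul' s t := Subtype.ext (map_mul (fieldSL σ) s.1 t.1)

theorem suField_coe (σ : F ≃+* F) (s : SUn) :
    (((suField σ s : SUn) : SLn) : Mn) = ((s : SLn) : Mn).map σ := rfl

/-- The standard field automorphism of `PSU_n`. -/
def fieldU : (F ≃+* F) →* MulAut PSUn where
  toFun σ := descendU (suField σ)
  map_one' := by
    ext x : 1
    induction x using QuotientGroup.induction_on with
    | H s =>
      show (QuotientGroup.mk (suField 1 s) : PSUn) = QuotientGroup.mk s
      congr 1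
  map_mul' σ τ := by
    ext x : 1
    induction x using QuotientGroup.induction_on with
    | H s =>
      show (QuotientGroup.mk (suField (σ * τ) s) : PSUn) = QuotientGroup.mk (suField σ (suField τ s))
      congr 1

theorem fieldU_mk (σ : F ≃+* F) (s : SUn) :
    fieldU σ (QuotientGroup.mk s : PSUn) = QuotientGroup.mk (suField σ s) := rfl

theorem isFieldAutPSUOf_iff (σ : F ≃+* F) (φ : PSUn ≃* PSUn) :
    Cfsg.IsFieldAutPSUOf σ φ ↔ φ = fieldU σ := by
  constructor
  · intro h
    ext x : 1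
    induction x using QuotientGroup.induction_on with
    | H s => exact h s (suField σ s) rfl
  · rintro rfl s s' hs
    rw [fieldU_mk]
    congr 1
    apply Subtype.ext
    apply Subtype.ext
    rw [hs]
    rfl

/-! ### The unitary group and the scalars normalize -/

theorem slConj_coe' (x : GL (Fin n) F) (s : SLn) :
    ((slConj x s : SLn) : Mn) = (x : Mn) * (s : Mn) * ((x⁻¹ : GL (Fin n) F) : Mn) := rfl

theorem GU_le_normSU : Cfsg.GU n F q ≤ normSU n F q := by
  have key : ∀ x : GL (Fin n) F, x ∈ Cfsg.GU n F q → ∀ s : SLn, s ∈ Cfsg.SU n F q →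
      slConj x s ∈ Cfsg.SU n F q := by
    intro x hx s hs u v
    have hxi : x⁻¹ ∈ Cfsg.GU n F q := (Cfsg.GU n F q).inv_mem hx
    show Cfsg.hermForm n F q ((slConj x s).1 *ᵥ u) ((slConj x s).1 *ᵥ v) = _
    rw [slConj_coe', ← Matrix.mulVec_mulVec, ← Matrix.mulVec_mulVec, ← Matrix.mulVec_mulVec,
      ← Matrix.mulVec_mulVec]
    have h1 := hx ((s : Mn) *ᵥ (((x⁻¹ : GL (Fin n) F) : Mn) *ᵥ u))
      ((s : Mn) *ᵥ (((x⁻¹ : GL (Fin n) F) : Mn) *ᵥ v))
    have h2 := hs (((x⁻¹ : GL (Fin n) F) : Mn) *ᵥ u) (((x⁻¹ : GL (Fin n) F) : Mn) *ᵥ v)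
    have h3 := hxi u v
    exact h1.trans (h2.trans h3)
  intro x hx s
  constructor
  · intro h
    have h2 := key x⁻¹ ((Cfsg.GU n F q).inv_mem hx) _ h
    rw [slConj_inv_slConj] at h2
    exact h2
  · exact key x hx s

theorem slConj_scalar (c : Fˣ) (s : SLn) : slConj (scalarGL c : GL (Fin n) F) s = s := by
  apply Subtype.ext
  rw [slConj_coe']
  have h1 : (((scalarGL c : GL (Fin n) F)⁻¹ : GL (Fin n) F) : Mn) = ((c⁻¹ : Fˣ) : F) • (1 : Mn) := rfl
  rw [scalarGL_coe, h1, Matrix.smul_mul, Matrix.one_mul, Matrix.mul_smul, Matrix.mul_one, smul_smul,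
    ← Units.val_mul, inv_mul_cancel, Units.val_one, one_smul]

theorem scalars_le_normSU : Cfsg.Geo.scalars (Fin n) F ≤ normSU n F q := by
  intro x hx s
  obtain ⟨c, hc⟩ := (Cfsg.Geo.mem_scalars_iff x).mp hx
  have hx' : x = scalarGL c := Units.ext (by rw [hc, scalarGL_coe])
  rw [hx', slConj_scalar]

theorem conjN_eq_one_of_scalar (x : ↥(normSU n F q)) (hx : x.1 ∈ Cfsg.Geo.scalars (Fin n) F) :
    conjN x = 1 := by
  obtain ⟨c, hc⟩ := (Cfsg.Geo.mem_scalars_iff x.1).mp hx
  have hx' : x.1 = scalarGL c := Units.ext (by rw [hc, scalarGL_coe])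
  ext y : 1
  induction y using QuotientGroup.induction_on with
  | H s =>
    rw [conjN_mk]
    show _ = (QuotientGroup.mk s : PSUn)
    congr 1
    apply Subtype.ext
    rw [suConj_coe, hx', slConj_scalar]

/-- Conjugation by a unitary matrix. -/
def conjU : ↥(Cfsg.GU n F q) →* MulAut PSUn := conjN.comp (Subgroup.inclusion GU_le_normSU)

theorem conjU_apply (g : ↥(Cfsg.GU n F q)) : conjU g = conjN ⟨g.1, GU_le_normSU g.2⟩ := rfl

theorem isInnerDiagonalPSU_iff (β : PSUn ≃* PSUn) :
    Cfsg.IsInnerDiagonalAutPSU β ↔ ∃ g : ↥(Cfsg.GU n F q), β = conjU g := by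
  constructor
  · rintro ⟨g, hg, h⟩
    refine ⟨⟨g, hg⟩, ?_⟩
    ext x : 1
    induction x using QuotientGroup.induction_on with
    | H s => exact h s (suConj ⟨g, GU_le_normSU hg⟩ s) rfl
  · rintro ⟨g, rfl⟩
    refine ⟨g.1, g.2, fun s s' hs => ?_⟩
    rw [conjU_apply, conjN_mk]
    congr 1
    apply Subtype.ext
    apply Subtype.ext
    rw [hs]
    rfl

theorem inndiagPSU_eq : Cfsg.inndiagPSU n F q = (conjU (n := n) (F := F) (q := q)).range := by
  unfold Cfsg.inndiagPSU Cfsg.autSubgroupOf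
  have : {β : MulAut PSUn | Cfsg.IsInnerDiagonalAutPSU β}
      = ((conjU (n := n) (F := F) (q := q)).range : Set (MulAut PSUn)) := by
    ext β
    rw [Set.mem_ofPred_eq, isInnerDiagonalPSU_iff]
    constructor
    · rintro ⟨g, rfl⟩; exact ⟨g, rfl⟩
    · rintro ⟨g, rfl⟩; exact ⟨g, rfl⟩
  rw [this, Subgroup.closure_eq]

/-! ### Commutation of field automorphisms and conjugations -/

theorem glMap_mem_normSU (σ : F ≃+* F) (x : GL (Fin n) F) (hx : x ∈ normSU n F q) :
    glMap σ x ∈ normSU n F q := by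
  intro s
  have h1 : slConj (glMap σ x) s = fieldSL σ (slConj x (fieldSL σ.symm s)) := by
    apply Subtype.ext
    rw [slConj_coe', fieldSL_coe]
    show _ = ((x : Mn) * ((fieldSL σ.symm s : SLn) : Mn) * ((x⁻¹ : GL (Fin n) F) : Mn)).map σ
    rw [Matrix.map_mul, Matrix.map_mul, fieldSL_coe]
    have h2 : (((s : SLn) : Mn).map σ.symm).map σ = (s : Mn) := by
      ext i j; simp
    rw [h2]
    have h3 : (((glMap σ x)⁻¹ : GL (Fin n) F) : Mn) = ((x⁻¹ : GL (Fin n) F) : Mn).map σ := by
      rw [← map_inv]; rfl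
    rw [h3]
    rfl
  rw [h1, fieldSL_mem_iff, hx, fieldSL_mem_iff]

/-- Entrywise field automorphism on the normalizer. -/
def mapN (σ : F ≃+* F) : ↥(normSU n F q) →* ↥(normSU n F q) :=
  ((glMap σ).comp (normSU n F q).subtype).codRestrict (normSU n F q)
    (fun x => glMap_mem_normSU σ x.1 x.2)

theorem mapN_coe (σ : F ≃+* F) (x : ↥(normSU n F q)) : (mapN σ x).1 = glMap σ x.1 := rfl

theorem fieldU_mul_conjN (σ : F ≃+* F) (x : ↥(normSU n F q)) :
    fieldU σ * conjN x = conjN (mapN σ x) * fieldU σ := by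
  ext y : 1
  induction y using QuotientGroup.induction_on with
  | H s =>
    show fieldU σ (conjN x (QuotientGroup.mk s)) = conjN (mapN σ x) (fieldU σ (QuotientGroup.mk s))
    rw [conjN_mk, fieldU_mk, fieldU_mk, conjN_mk]
    congr 1
    apply Subtype.ext
    apply Subtype.ext
    rw [suField_coe, suConj_coe, suConj_coe, slConj_coe', slConj_coe', Matrix.map_mul, Matrix.map_mul,
      mapN_coe]
    have h3 : (((glMap σ x.1)⁻¹ : GL (Fin n) F) : Mn) = ((x.1⁻¹ : GL (Fin n) F) : Mn).map σ := by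
      rw [← map_inv]; rfl
    rw [h3]
    rfl

theorem fieldU_conj (σ : F ≃+* F) (x : ↥(normSU n F q)) :
    fieldU σ * conjN x * (fieldU σ)⁻¹ = conjN (mapN σ x) := by
  rw [fieldU_mul_conjN, mul_inv_cancel_right]

/-! ### Graph automorphisms -/

theorem isGraphAutClassPSU_iff (β : MulAut PSUn) :
    Cfsg.IsGraphAutClassPSU β ↔ 3 ≤ n ∧ ∃ (g : ↥(Cfsg.GU n F q)) (σ : F ≃+* F),
      Even (orderOf σ) ∧ β = conjU g * fieldU σ := by
  unfold Cfsg.IsGraphAutClassPSU
  constructor
  · rintro ⟨hn, δ, φ, σ, hσ, hδ, hφ, rfl⟩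
    obtain ⟨g, rfl⟩ := (isInnerDiagonalPSU_iff δ).mp hδ
    rw [(isFieldAutPSUOf_iff σ φ).mp hφ]
    exact ⟨hn, g, σ, hσ, rfl⟩
  · rintro ⟨hn, g, σ, hσ, rfl⟩
    exact ⟨hn, conjU g, fieldU σ, σ, hσ, (isInnerDiagonalPSU_iff _).mpr ⟨g, rfl⟩,
      (isFieldAutPSUOf_iff σ _).mpr rfl, rfl⟩

end Cfsg.Agent.Lib.Helper14_PSUAut
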