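import Mathlib
import Cfsg.Agent.Lib.Helper14_PSUAut

set_option autoImplicit false
set_option linter.unusedSectionVars false

/-!
# Kernel of the conjugation action on `PSU_n` and faithfulness of the field automorphisms (helper14)

If the automorphism of `PSU_n` (`n ≥ 3`) induced by a matrix `x` normalizing `SU_n` equals a standard field
automorphism `fieldU ρ`, then `ρ = 1` and `x` is a scalar matrix.  The proof uses unitary transvections.
-/

namespace Cfsg.Agent.Lib.Helper14_PSUKer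

open Matrix Cfsg.Agent.Lib.Helper14_PSLAut Cfsg.Agent.Lib.Helper14_PSUAut
  Cfsg.Agent.Lib.Helper13_Herm Cfsg.Agent.Lib.Helper5_GUOrder Cfsg.Agent.Lib.Helper5_SUOrder
  Cfsg.Agent.Lib.Helper5_SUCenter Cfsg.Agent.Lib.Helper14_FieldAutPSL

variable {F : Type*} [Field F] [Fintype F] {n q : ℕ}

local notation "SLn" => Matrix.SpecialLinearGroup (Fin n) F
set_option quotPrecheck false in
local notation "SUn" => ↥(Cfsg.SU n F q)
local notation "PSUn" => Cfsg.PSU n F q
local notation "Mn" => Matrix (Fin n) (Fin n) F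

/-! ### Field facts -/

/-- The trace `c ↦ c + c ^ q` is onto the fixed field. -/
theorem exists_trace_eq (hF : Fintype.card F = q ^ 2) (t : F) (ht : t ^ q = t) :
    ∃ c : F, c + c ^ q = t := by
  obtain ⟨b, hb⟩ : ∃ b : F, b + b ^ q ≠ 0 := by
    by_contra hcon
    push Not at hcon
    obtain ⟨b, hb⟩ := exists_pow_q_ne hF
    have h1 := hcon 1
    rw [one_pow] at h1
    have h2 := hcon b
    apply hb
    have h3 : b ^ q = -b := by linear_combination h2
    have h4 : (-1 : F) = 1 := by linear_combination -h1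
    rw [h3, neg_eq_neg_one_mul, h4, one_mul]
  set s := b + b ^ q with hs
  have hsq : s ^ q = s := by
    rw [hs, add_pow_q hF, pow_q_pow_q hF, add_comm]
  refine ⟨t * (b / s), ?_⟩
  rw [mul_pow, div_pow, ht, hsq]
  field_simp
  rw [hs]

theorem norm_pow_q (hF : Fintype.card F = q ^ 2) (d : F) : (d * d ^ q) ^ q = d * d ^ q := by
  rw [mul_pow, pow_q_pow_q hF, mul_comm]

/-! ### Elements of `PSU_n` with equal classes -/

theorem exists_smul_of_mk_eq (hF : Fintype.card F = q ^ 2) (hn : 0 < n) (s t : SUn)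
    (h : (QuotientGroup.mk s : PSUn) = QuotientGroup.mk t) :
    ∃ r : F, ((t : SLn) : Mn) = r • ((s : SLn) : Mn) := by
  have h2 := QuotientGroup.eq.mp h
  have h3 := center_eq_smul hF (s⁻¹ * t) h2 ⟨0, hn⟩
  refine ⟨(((s⁻¹ * t : SUn) : SLn) : Mn) ⟨0, hn⟩ ⟨0, hn⟩, ?_⟩
  have h4 : ((t : SLn) : Mn) = ((s : SLn) : Mn) * (((s⁻¹ * t : SUn) : SLn) : Mn) := by
    have : t = s * (s⁻¹ * t) := by group
    conv_lhs => rw [this]
    rfl
  rw [h4, h3, Matrix.mul_smul, Matrix.mul_one]
  congr 1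
  rw [← h3]

/-! ### A unipotent lemma -/

theorem eq_one_of_unipotent (hn : 0 < n) {X Y : Mn} (hX : X * X = 0) (hY : Y * Y = 0) (r : F)
    (h : 1 + Y = r • (1 + X)) : r = 1 := by
  haveI : Nonempty (Fin n) := ⟨⟨0, hn⟩⟩
  have hr0 : r ≠ 0 := by
    rintro rfl
    rw [zero_smul] at h
    have h1 : Y = -1 := by
      rw [eq_neg_iff_add_eq_zero, add_comm]; exact h
    rw [h1] at hY
    simp at hY
  have hXe : X = (r⁻¹ - 1) • (1 : Mn) + r⁻¹ • Y := by
    have h1 : r⁻¹ • (1 + Y) = 1 + X := by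
      rw [h, smul_smul, inv_mul_cancel₀ hr0, one_smul]
    have h2 : X = r⁻¹ • (1 + Y) - 1 := by rw [h1]; abel
    rw [h2, smul_add, sub_smul, one_smul]
    abel
  set z := r⁻¹ - 1 with hz
  have hsq : (z * z) • (1 : Mn) + (2 * z * r⁻¹) • Y = 0 := by
    have h1 : X * X = (z * z) • (1 : Mn) + (2 * z * r⁻¹) • Y + (r⁻¹ * r⁻¹) • (Y * Y) := by
      rw [hXe]
      simp only [Matrix.add_mul, Matrix.mul_add, Matrix.smul_mul, Matrix.mul_smul, Matrix.one_mul,
        Matrix.mul_one, smul_smul, smul_add]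
      rw [two_mul, add_mul, add_smul, mul_comm r⁻¹ z]
      abel
    rw [hX, hY, smul_zero, add_zero] at h1
    exact h1.symm
  have hzz : z * z = 0 := by
    by_cases hY0 : Y = 0
    · rw [hY0, smul_zero, add_zero] at hsq
      have h1 := congrFun (congrFun hsq ⟨0, hn⟩) ⟨0, hn⟩
      simpa using h1
    · have h1 : ((z * z) • (1 : Mn) + (2 * z * r⁻¹) • Y) * Y = 0 := by rw [hsq, Matrix.zero_mul]
      rw [Matrix.add_mul, Matrix.smul_mul, Matrix.smul_mul, Matrix.one_mul, hY, smul_zero, add_zero] at h1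
      by_contra hne
      apply hY0
      have := congrArg (fun M : Mn => (z * z)⁻¹ • M) h1
      simp only [smul_smul, inv_mul_cancel₀ hne, one_smul, smul_zero] at this
      exact this
  have hz0 : z = 0 := by
    rcases mul_eq_zero.mp hzz with h1 | h1 <;> exact h1
  have h1 : r⁻¹ = 1 := by rw [hz] at hz0; exact sub_eq_zero.mp hz0
  rw [inv_eq_one] at h1
  exact h1

/-! ### Transvections -/

theorem trans_sub_one_sq (v : Fin n → F) (c : F) (hv : Cfsg.hermForm n F q v v = 0) :
    (Cfsg.unitaryTransvection n q v c - 1) * (Cfsg.unitaryTransvection n q v c - 1) = 0 := by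
  unfold Cfsg.unitaryTransvection
  rw [add_sub_cancel_left, Matrix.smul_mul, Matrix.mul_smul, Matrix.vecMulVec_mul_vecMulVec]
  have : (fun j => v j ^ q) ⬝ᵥ v = 0 := by
    rw [dotProduct_comm]; exact hv
  rw [this, zero_smul]
  simp

theorem trans_map (ρ : F ≃+* F) (v : Fin n → F) (c : F) :
    (Cfsg.unitaryTransvection n q v c).map ρ
      = Cfsg.unitaryTransvection n q (fun i => ρ (v i)) (ρ c) := by
  unfold Cfsg.unitaryTransvection
  ext i j
  simp only [Matrix.map_apply, Matrix.add_apply, Matrix.smul_apply, Matrix.vecMulVec_apply, smul_eq_mul,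
    map_add, map_mul, map_pow, Matrix.one_apply]
  rw [apply_ite ρ, map_one, map_zero]

/-- The special unitary transvection attached to an isotropic vector and a scalar of trace zero. -/
def tvSU (hF : Fintype.card F = q ^ 2) (v : Fin n → F) (c : F) (hv : Cfsg.hermForm n F q v v = 0)
    (hc : c + c ^ q = 0) : SUn :=
  mkSU (Cfsg.unitaryTransvection n q v c)
    (isU_transvection hF v c (by rw [hv, mul_zero, add_zero]; exact hc))
    (by rw [det_unitaryTransvection, hv, mul_zero, add_zero])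

theorem tvSU_coe (hF : Fintype.card F = q ^ 2) (v : Fin n → F) (c : F)
    (hv : Cfsg.hermForm n F q v v = 0) (hc : c + c ^ q = 0) :
    (((tvSU hF v c hv hc : SUn) : SLn) : Mn) = Cfsg.unitaryTransvection n q v c := rfl

/-! ### The induced action on isotropic lines -/

/-- If conjugation by `x` and the field automorphism `ρ` induce the same automorphism of `PSU_n`, then `x` maps every
isotropic vector `v` to a multiple of `ρ v`. -/
theorem exists_smul_of_conjN_eq (hF : Fintype.card F = q ^ 2) (hn : 0 < n) (x : ↥(normSU n F q))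
    (ρ : F ≃+* F) (h : conjN x = fieldU ρ) (v : Fin n → F) (hv : Cfsg.hermForm n F q v v = 0) :
    ∃ l : F, ((x.1 : GL (Fin n) F) : Mn) *ᵥ v = l • (fun i => ρ (v i)) := by
  have hq0 : q ≠ 0 := by have := two_le_q hF; omega
  by_cases hv0 : v = 0
  · refine ⟨0, ?_⟩
    rw [hv0, Matrix.mulVec_zero, zero_smul]
  obtain ⟨c, hc0, hc⟩ := exists_trace_zero hF
  set t : SUn := tvSU hF v c hv hc with ht
  have h1 : conjN x (QuotientGroup.mk t) = fieldU ρ (QuotientGroup.mk t) := by rw [h]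
  rw [conjN_mk, fieldU_mk] at h1
  obtain ⟨r, hr⟩ := exists_smul_of_mk_eq hF hn _ _ h1
  rw [suField_coe, suConj_coe, slConj_coe', tvSU_coe] at hr
  set T := Cfsg.unitaryTransvection n q v c with hT
  set xm : Mn := ((x.1 : GL (Fin n) F) : Mn) with hxm
  set xi : Mn := ((x.1⁻¹ : GL (Fin n) F) : Mn) with hxi
  have hxx : xm * xi = 1 := by rw [hxm, hxi, ← Units.val_mul, mul_inv_cancel, Units.val_one]
  have hxx' : xi * xm = 1 := by rw [hxm, hxi, ← Units.val_mul, inv_mul_cancel, Units.val_one]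
  -- the unipotent parts
  have hX : (xm * (T - 1) * xi) * (xm * (T - 1) * xi) = 0 := by
    have : (xm * (T - 1) * xi) * (xm * (T - 1) * xi) = xm * ((T - 1) * (xi * xm) * (T - 1)) * xi := by
      simp only [Matrix.mul_assoc]
    rw [this, hxx', Matrix.mul_one, trans_sub_one_sq v c hv, Matrix.mul_zero, Matrix.zero_mul]
  have hY : (T.map ρ - 1) * (T.map ρ - 1) = 0 := by
    rw [trans_map]
    apply trans_sub_one_sq
    rw [hermForm_map, hv, map_zero]
  have hr1 : r = 1 := by
    apply eq_one_of_unipotent hn hX hY r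
    have e1 : (1 : Mn) + (T.map ρ - 1) = T.map ρ := by abel
    have e2 : (1 : Mn) + xm * (T - 1) * xi = xm * T * xi := by
      rw [Matrix.mul_sub, Matrix.sub_mul, Matrix.mul_one, hxx]; abel
    rw [e1, e2, hr]
  rw [hr1, one_smul] at hr
  -- compare the actions on a vector pairing non-trivially with `v`
  obtain ⟨i, hi⟩ : ∃ i, v i ≠ 0 := by
    by_contra hcon
    push Not at hcon
    exact hv0 (funext hcon)
  set w : Fin n → F := Pi.single i 1 with hw
  have hwv : Cfsg.hermForm n F q w v = (v i) ^ q := hermForm_single_left n i v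
  have hwv0 : Cfsg.hermForm n F q w v ≠ 0 := by rw [hwv]; exact pow_ne_zero _ hi
  have h2 : T.map ρ * xm = xm * T := by
    rw [hr, Matrix.mul_assoc, hxx', Matrix.mul_one]
  have h3 := congrArg (fun M : Mn => M *ᵥ w) h2
  simp only [← Matrix.mulVec_mulVec] at h3
  rw [trans_map, unitaryTransvection_mulVec, hT, unitaryTransvection_mulVec, Matrix.mulVec_add,
    Matrix.mulVec_smul] at h3
  have h4 : (ρ c * Cfsg.hermForm n F q (xm *ᵥ w) (fun i => ρ (v i))) • (fun i => ρ (v i))
      = (c * Cfsg.hermForm n F q w v) • (xm *ᵥ v) := add_left_cancel h3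
  refine ⟨(c * Cfsg.hermForm n F q w v)⁻¹ *
    (ρ c * Cfsg.hermForm n F q (xm *ᵥ w) (fun i => ρ (v i))), ?_⟩
  rw [mul_smul, h4, smul_smul, inv_mul_cancel₀ (mul_ne_zero hc0 hwv0), one_smul]

/-! ### Vectors supported on three coordinates -/

/-- The vector with entries `y₀, y₁, y₂` at three given positions. -/
def vec3 (i0 i1 i2 : Fin n) (y0 y1 y2 : F) : Fin n → F :=
  y0 • Pi.single i0 1 + y1 • Pi.single i1 1 + y2 • Pi.single i2 1

theorem vec3_apply0 {i0 i1 i2 : Fin n} (h01 : i0 ≠ i1) (h02 : i0 ≠ i2) (y0 y1 y2 : F) :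
    vec3 i0 i1 i2 y0 y1 y2 i0 = y0 := by
  simp [vec3, h01, h02]

theorem vec3_apply1 {i0 i1 i2 : Fin n} (h01 : i0 ≠ i1) (h12 : i1 ≠ i2) (y0 y1 y2 : F) :
    vec3 i0 i1 i2 y0 y1 y2 i1 = y1 := by
  simp [vec3, h01.symm, h12]

theorem vec3_apply2 {i0 i1 i2 : Fin n} (h02 : i0 ≠ i2) (h12 : i1 ≠ i2) (y0 y1 y2 : F) :
    vec3 i0 i1 i2 y0 y1 y2 i2 = y2 := by
  simp [vec3, h02.symm, h12.symm]

theorem vec3_apply_ne {i0 i1 i2 k : Fin n} (h0 : k ≠ i0) (h1 : k ≠ i1) (h2 : k ≠ i2) (y0 y1 y2 : F) :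
    vec3 i0 i1 i2 y0 y1 y2 k = 0 := by
  simp [vec3, h0, h1, h2]

theorem hermForm_vec3 (hq : q ≠ 0) {i0 i1 i2 : Fin n} (h01 : i0 ≠ i1) (h02 : i0 ≠ i2) (h12 : i1 ≠ i2)
    (y0 y1 y2 : F) :
    Cfsg.hermForm n F q (vec3 i0 i1 i2 y0 y1 y2) (vec3 i0 i1 i2 y0 y1 y2)
      = y0 * y0 ^ q + y1 * y1 ^ q + y2 * y2 ^ q := by
  have hsupp : ∀ k : Fin n, k ∉ ({i0, i1, i2} : Finset (Fin n)) →
      vec3 i0 i1 i2 y0 y1 y2 k * vec3 i0 i1 i2 y0 y1 y2 k ^ q = 0 := by
    intro k hk
    simp only [Finset.mem_insert, Finset.mem_singleton, not_or] at hk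
    rw [vec3_apply_ne hk.1 hk.2.1 hk.2.2, zero_mul]
  unfold Cfsg.hermForm
  rw [← Finset.sum_subset (Finset.subset_univ ({i0, i1, i2} : Finset (Fin n))) (fun k _ hk => hsupp k hk)]
  rw [Finset.sum_insert (by simp [h01, h02]), Finset.sum_insert (by simp [h12]), Finset.sum_singleton,
    vec3_apply0 h01 h02, vec3_apply1 h01 h12, vec3_apply2 h02 h12]
  ring

theorem map_vec3 (ρ : F ≃+* F) (i0 i1 i2 : Fin n) (y0 y1 y2 : F) :
    (fun i => ρ (vec3 i0 i1 i2 y0 y1 y2 i)) = vec3 i0 i1 i2 (ρ y0) (ρ y1) (ρ y2) := by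
  funext i
  simp only [vec3, Pi.add_apply, Pi.smul_apply, Pi.single_apply, smul_eq_mul, map_add, map_mul]
  rw [apply_ite ρ, apply_ite ρ, apply_ite ρ, map_one, map_zero]

theorem mulVec_vec3 (x : Mn) (i0 i1 i2 : Fin n) (y0 y1 y2 : F) :
    x *ᵥ vec3 i0 i1 i2 y0 y1 y2
      = y0 • (x *ᵥ Pi.single i0 1) + y1 • (x *ᵥ Pi.single i1 1) + y2 • (x *ᵥ Pi.single i2 1) := by
  unfold vec3
  rw [Matrix.mulVec_add, Matrix.mulVec_add, Matrix.mulVec_smul, Matrix.mulVec_smul, Matrix.mulVec_smul]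

theorem single_col (x : Mn) (i k : Fin n) : (x *ᵥ Pi.single i 1) k = x k i := by
  rw [Matrix.mulVec_single_one]
  rfl

theorem exists_third (hn : 3 ≤ n) (i k : Fin n) : ∃ j : Fin n, j ≠ i ∧ j ≠ k := by
  classical
  by_contra hcon
  push Not at hcon
  have hsub : (Finset.univ : Finset (Fin n)) ⊆ {i, k} := by
    intro j _
    by_cases hji : j = i
    · simp [hji]
    · simp [hcon j hji]
  have h1 := Finset.card_le_card hsub
  have h2 : ({i, k} : Finset (Fin n)).card ≤ 2 := Finset.card_le_two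
  rw [Finset.card_univ, Fintype.card_fin] at h1
  omega

/-- Two distinct scalars of norm `-1`. -/
theorem exists_two_norm_neg_one (hF : Fintype.card F = q ^ 2) :
    ∃ a a' : F, a * a ^ q = -1 ∧ a' * a' ^ q = -1 ∧ a ≠ a' ∧ a ≠ 0 ∧ 1 + a ^ q * a' ≠ 0 := by
  obtain ⟨a, ha⟩ := exists_norm_neg_one hF
  obtain ⟨l, hl, hl1⟩ := exists_norm_one_ne_one hF
  have ha0 : a ≠ 0 := by
    rintro rfl
    rw [zero_mul] at ha
    exact one_ne_zero (neg_eq_zero.mp ha.symm)
  refine ⟨a, a * l, ha, ?_, ?_, ha0, ?_⟩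
  · rw [mul_pow]
    linear_combination (l * l ^ q) * ha - hl
  · intro h
    apply hl1
    have : a * l = a * 1 := by rw [mul_one]; exact h.symm
    exact mul_left_cancel₀ ha0 this
  · intro h
    apply hl1
    have : (a * a ^ q) * l = -1 := by linear_combination h
    rw [ha] at this
    linear_combination -this

/-! ### The core arguments -/

/-- A matrix mapping every isotropic vector to a multiple of itself is scalar (`n ≥ 3`). -/
theorem scalar_of_iso (hF : Fintype.card F = q ^ 2) (hn : 3 ≤ n) (x : Mn)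
    (hiso : ∀ v : Fin n → F, Cfsg.hermForm n F q v v = 0 → ∃ l : F, x *ᵥ v = l • v) :
    ∃ r : F, x = r • (1 : Mn) := by
  have hq0 : q ≠ 0 := by have := two_le_q hF; omega
  obtain ⟨a, a', ha, ha', haa', ha0, -⟩ := exists_two_norm_neg_one hF
  -- the equations given by an isotropic vector supported on two coordinates
  have hvec : ∀ (b : F), b * b ^ q = -1 → ∀ i j k : Fin n, i ≠ j → i ≠ k → j ≠ k →
      ∃ l : F, x i i + b * x i j = l ∧ x j i + b * x j j = l * b ∧ x k i + b * x k j = 0 := by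
    intro b hb i j k hij hik hjk
    have hv : Cfsg.hermForm n F q (vec3 i j k 1 b 0) (vec3 i j k 1 b 0) = 0 := by
      rw [hermForm_vec3 hq0 hij hik hjk, one_pow, zero_pow hq0]
      linear_combination hb
    obtain ⟨l, hl⟩ := hiso _ hv
    rw [mulVec_vec3] at hl
    refine ⟨l, ?_, ?_, ?_⟩
    · have := congrFun hl i
      simp only [Pi.add_apply, Pi.smul_apply, single_col, smul_eq_mul, vec3_apply0 hij hik] at this
      linear_combination this
    · have := congrFun hl j
      simp only [Pi.add_apply, Pi.smul_apply, single_col, smul_eq_mul, vec3_apply1 hij hjk] at this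
      linear_combination this
    · have := congrFun hl k
      simp only [Pi.add_apply, Pi.smul_apply, single_col, smul_eq_mul, vec3_apply2 hik hjk] at this
      linear_combination this
  have hoff : ∀ k i : Fin n, k ≠ i → x k i = 0 := by
    intro k i hki
    obtain ⟨j, hji, hjk⟩ := exists_third hn i k
    obtain ⟨l, -, -, h1⟩ := hvec a ha i j k hji.symm hki.symm hjk
    obtain ⟨l', -, -, h2⟩ := hvec a' ha' i j k hji.symm hki.symm hjk
    have h3 : (a - a') * x k j = 0 := by linear_combination h1 - h2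
    rcases mul_eq_zero.mp h3 with h4 | h4
    · exact absurd (sub_eq_zero.mp h4) haa'
    · rw [h4, mul_zero, add_zero] at h1
      exact h1
  have hdiag : ∀ i j : Fin n, i ≠ j → x j j = x i i := by
    intro i j hij
    obtain ⟨k, hki, hkj⟩ := exists_third hn i j
    obtain ⟨l, h1, h2, -⟩ := hvec a ha i j k hij hki.symm hkj.symm
    rw [hoff i j hij, mul_zero, add_zero] at h1
    rw [hoff j i hij.symm, zero_add] at h2
    have h3 : a * x j j = a * x i i := by rw [h2, h1, mul_comm]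
    exact mul_left_cancel₀ ha0 h3
  refine ⟨x ⟨0, by omega⟩ ⟨0, by omega⟩, ?_⟩
  ext k l
  by_cases hkl : k = l
  · subst hkl
    rw [Matrix.smul_apply, Matrix.one_apply_eq, smul_eq_mul, mul_one]
    by_cases hk0 : k = ⟨0, by omega⟩
    · rw [hk0]
    · exact hdiag _ _ (Ne.symm hk0)
  · rw [Matrix.smul_apply, Matrix.one_apply_ne hkl, smul_zero]
    exact hoff k l hkl

/-- If an injective matrix maps every isotropic vector `v` to a multiple of `ρ v`, then `ρ = 1` (`n ≥ 3`). -/
theorem rho_eq_id_of_iso (hF : Fintype.card F = q ^ 2) (hn : 3 ≤ n) (x : Mn) (ρ : F ≃+* F)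
    (hinj : ∀ v : Fin n → F, x *ᵥ v = 0 → v = 0)
    (hiso : ∀ v : Fin n → F, Cfsg.hermForm n F q v v = 0 →
      ∃ l : F, x *ᵥ v = l • (fun i => ρ (v i))) : ∀ d : F, ρ d = d := by
  have hq0 : q ≠ 0 := by have := two_le_q hF; omega
  obtain ⟨a, a', ha, ha', haa', ha0, hη⟩ := exists_two_norm_neg_one hF
  set i0 : Fin n := ⟨0, by omega⟩ with hi0
  set i1 : Fin n := ⟨1, by omega⟩ with hi1
  set i2 : Fin n := ⟨2, by omega⟩ with hi2
  have h01 : i0 ≠ i1 := by rw [hi0, hi1]; intro h; simp [Fin.ext_iff] at h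
  have h02 : i0 ≠ i2 := by rw [hi0, hi2]; intro h; simp [Fin.ext_iff] at h
  have h12 : i1 ≠ i2 := by rw [hi1, hi2]; intro h; simp [Fin.ext_iff] at h
  -- coordinates of the image of an isotropic vector
  have hcoord : ∀ y0 y1 y2 : F, y0 * y0 ^ q + y1 * y1 ^ q + y2 * y2 ^ q = 0 → ∃ l : F,
      y0 * x i0 i0 + y1 * x i0 i1 + y2 * x i0 i2 = l * ρ y0 ∧
      y0 * x i1 i0 + y1 * x i1 i1 + y2 * x i1 i2 = l * ρ y1 ∧
      y0 * x i2 i0 + y1 * x i2 i1 + y2 * x i2 i2 = l * ρ y2 ∧
      (l = 0 → y0 = 0 ∧ y1 = 0 ∧ y2 = 0) := by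
    intro y0 y1 y2 hy
    have hv : Cfsg.hermForm n F q (vec3 i0 i1 i2 y0 y1 y2) (vec3 i0 i1 i2 y0 y1 y2) = 0 := by
      rw [hermForm_vec3 hq0 h01 h02 h12]; exact hy
    obtain ⟨l, hl⟩ := hiso _ hv
    have hl0 : l = 0 → y0 = 0 ∧ y1 = 0 ∧ y2 = 0 := by
      intro h0
      rw [h0, zero_smul] at hl
      have h1 := hinj _ hl
      refine ⟨?_, ?_, ?_⟩
      · have := congrFun h1 i0
        rw [vec3_apply0 h01 h02] at this; exact this
      · have := congrFun h1 i1
        rw [vec3_apply1 h01 h12] at this; exact this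
      · have := congrFun h1 i2
        rw [vec3_apply2 h02 h12] at this; exact this
    rw [mulVec_vec3, map_vec3] at hl
    refine ⟨l, ?_, ?_, ?_, hl0⟩
    · have := congrFun hl i0
      simp only [Pi.add_apply, Pi.smul_apply, single_col, smul_eq_mul, vec3_apply0 h01 h02] at this
      exact this
    · have := congrFun hl i1
      simp only [Pi.add_apply, Pi.smul_apply, single_col, smul_eq_mul, vec3_apply1 h01 h12] at this
      exact this
    · have := congrFun hl i2
      simp only [Pi.add_apply, Pi.smul_apply, single_col, smul_eq_mul, vec3_apply2 h02 h12] at this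
      exact this
  obtain ⟨le, E0, E1, E2, hle0⟩ := hcoord 1 a 0 (by
    rw [one_pow, zero_pow hq0]; linear_combination ha)
  obtain ⟨lf, F0, F1, F2, -⟩ := hcoord 1 a' 0 (by
    rw [one_pow, zero_pow hq0]; linear_combination ha')
  have hle : le ≠ 0 := fun h => one_ne_zero (hle0 h).1
  simp only [map_one, map_zero, one_mul, zero_mul, add_zero, mul_one, mul_zero] at E0 E1 E2 F0 F1 F2
  set D := ρ a' - ρ a with hD
  have hD0 : D ≠ 0 := by
    rw [hD]
    intro h
    exact haa' (ρ.injective (sub_eq_zero.mp h)).symm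
  set B := ρ a' * x i0 i2 - x i1 i2 with hB
  set C := x i2 i2 with hC
  have key : ∀ d : F, d * (C * D) = (le * D + d * B) * ρ d := by
    intro d
    obtain ⟨c', hc'⟩ := exists_trace_eq hF (-(d * d ^ q)) (by rw [neg_pow_q hF, norm_pow_q hF])
    set η := 1 + a ^ q * a' with hηdef
    set c := η⁻¹ * c' with hc
    have hcη : η * c = c' := by rw [hc, ← mul_assoc, mul_inv_cancel₀ hη, one_mul]
    have hηq : η ^ q = 1 + a * a' ^ q := by
      rw [hηdef, add_pow_q hF, one_pow, mul_pow, pow_q_pow_q hF]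
    have hc2 : η * c + (1 + a * a' ^ q) * c ^ q = -(d * d ^ q) := by
      rw [← hηq, ← mul_pow, hcη]; exact hc'
    obtain ⟨lv, V0, V1, V2, -⟩ := hcoord (1 + c) (a + c * a') d (by
      rw [add_pow_q hF, add_pow_q hF, one_pow, mul_pow]
      rw [hηdef] at hc2
      linear_combination hc2 + ha + c * c ^ q * ha')
    simp only [map_add, map_mul, map_one] at V0 V1
    have h1 : d * C = lv * ρ d := by
      rw [hC]; linear_combination V2 - E2 - c * F2
    have h2 : le * D + d * B = lv * D := by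
      rw [hD, hB]
      linear_combination (ρ a') * V0 - V1 - (ρ a') * E0 - (ρ a') * c * F0 + E1 + c * F1
    rw [h2]
    linear_combination D * h1
  have k1 := key 1
  rw [map_one, one_mul, one_mul, mul_one] at k1
  have hL : le * D ≠ 0 := mul_ne_zero hle hD0
  by_cases hB0 : B = 0
  · intro d
    have k2 := key d
    rw [k1] at k2
    simp only [hB0, mul_zero, add_zero] at k2
    have : (le * D) * (ρ d - d) = 0 := by linear_combination -k2
    rcases mul_eq_zero.mp this with h | h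
    · exact absurd h hL
    · exact sub_eq_zero.mp h
  · exfalso
    set d₀ := -(le * D) / B with hd₀
    have hd₀0 : d₀ ≠ 0 := by
      rw [hd₀]
      exact div_ne_zero (neg_ne_zero.mpr hL) hB0
    have k3 := key d₀
    have h3 : le * D + d₀ * B = 0 := by
      rw [hd₀]; field_simp; ring
    rw [h3, zero_mul] at k3
    have hCD : C * D = 0 := by
      rcases mul_eq_zero.mp k3 with h | h
      · exact absurd h hd₀0
      · exact h
    obtain ⟨b, hb⟩ := exists_pow_q_ne hF
    have hb0 : b ≠ 0 := by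
      rintro rfl
      exact hb (zero_pow hq0)
    have hb1 : b ≠ 1 := by
      rintro rfl
      exact hb (one_pow q)
    have k4 := key b
    rw [hCD, mul_zero] at k4
    have hBL : B = -(le * D) := by linear_combination k1.symm + hCD
    rw [hBL] at k4
    have : (le * D) * (1 - b) * ρ b = 0 := by linear_combination -k4
    rcases mul_eq_zero.mp this with h | h
    · rcases mul_eq_zero.mp h with h' | h'
      · exact hL h'
      · exact hb1 (sub_eq_zero.mp h').symm
    · exact hb0 ((map_eq_zero ρ).mp h)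

/-! ### Main results -/

theorem mulVec_injective_of_GL (x : GL (Fin n) F) (v : Fin n → F) (h : (x : Mn) *ᵥ v = 0) : v = 0 := by
  have h1 := congrArg (fun w => ((x⁻¹ : GL (Fin n) F) : Mn) *ᵥ w) h
  simp only [Matrix.mulVec_mulVec, Matrix.mulVec_zero] at h1
  rw [← Units.val_mul, inv_mul_cancel, Units.val_one, Matrix.one_mulVec] at h1
  exact h1

/-- **Faithfulness**: if conjugation by `x` and the field automorphism `ρ` induce the same automorphism of
`PSU_n`, `n ≥ 3`, then `ρ` is trivial and `x` is scalar. -/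
theorem eq_one_and_scalar_of_conjN_eq_fieldU (hF : Fintype.card F = q ^ 2) (hn : 3 ≤ n)
    (x : ↥(normSU n F q)) (ρ : F ≃+* F) (h : conjN x = fieldU ρ) :
    ρ = 1 ∧ x.1 ∈ Cfsg.Geo.scalars (Fin n) F := by
  have hn0 : 0 < n := by omega
  have hiso := exists_smul_of_conjN_eq hF hn0 x ρ h
  have hρ : ∀ d : F, ρ d = d :=
    rho_eq_id_of_iso hF hn _ ρ (mulVec_injective_of_GL x.1) hiso
  refine ⟨RingEquiv.ext hρ, ?_⟩
  have hiso' : ∀ v : Fin n → F, Cfsg.hermForm n F q v v = 0 →
      ∃ l : F, ((x.1 : GL (Fin n) F) : Mn) *ᵥ v = l • v := by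
    intro v hv
    obtain ⟨l, hl⟩ := hiso v hv
    refine ⟨l, ?_⟩
    rw [hl]
    congr 1
    funext i
    exact hρ (v i)
  obtain ⟨r, hr⟩ := scalar_of_iso hF hn _ hiso'
  rw [Cfsg.Geo.mem_scalars_iff]
  have hr0 : r ≠ 0 := by
    rintro rfl
    rw [zero_smul] at hr
    have h1 : ((x.1 : GL (Fin n) F) : Mn) * ((x.1⁻¹ : GL (Fin n) F) : Mn) = 1 := by
      rw [← Units.val_mul, mul_inv_cancel, Units.val_one]
    rw [hr, Matrix.zero_mul] at h1
    have h2 := congrFun (congrFun h1 ⟨0, hn0⟩) ⟨0, hn0⟩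
    simp at h2
  exact ⟨Units.mk0 r hr0, hr⟩

theorem conjN_eq_one_iff (hF : Fintype.card F = q ^ 2) (hn : 3 ≤ n) (x : ↥(normSU n F q)) :
    conjN x = 1 ↔ x.1 ∈ Cfsg.Geo.scalars (Fin n) F := by
  constructor
  · intro h
    have h1 : conjN x = fieldU (1 : F ≃+* F) := by rw [h, map_one]
    exact (eq_one_and_scalar_of_conjN_eq_fieldU hF hn x 1 h1).2
  · exact conjN_eq_one_of_scalar x

theorem conjN_eq_iff (hF : Fintype.card F = q ^ 2) (hn : 3 ≤ n) (x y : ↥(normSU n F q)) :
    conjN x = conjN y ↔ y.1⁻¹ * x.1 ∈ Cfsg.Geo.scalars (Fin n) F := by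
  have h1 : conjN x = conjN y ↔ conjN (y⁻¹ * x) = 1 := by
    rw [map_mul, map_inv, inv_mul_eq_one, eq_comm]
  rw [h1, conjN_eq_one_iff hF hn]
  rfl

end Cfsg.Agent.Lib.Helper14_PSUKer
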