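import Mathlib
import Cfsg.Agent.Lib.Helper14_PSLBalDefs
import Cfsg.Agent.Lib.Helper14_PSUKer
import Cfsg.Agent.Lib.Helper69_PSLBAL_KUNI

/-!
# PSLBAL-KEYU (for helper14, S2686)

A bijective semilinear map of `F^n` (`n ≥ 3`, `|F| = q₀²`) commuting up to scalars with all elements
of `Cfsg.SU n F q₀` is a scalar (and linear).

Proof: by KUNI the scalar attached to a unitary transvection is `1`, so `hh` fixes every isotropic
point.  Writing `hh v = X *ᵥ τ v` for the matrix `X` of `hh`, the two core lemmas of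
`Helper14_PSUKer` (`rho_eq_id_of_iso`, `scalar_of_iso`) give `τ = 1` and `X` scalar.
-/

set_option autoImplicit false

namespace Cfsg.Agent.Lib.Helper55_PSLBAL_KEYU

open Matrix Module Cfsg Cfsg.Agent.Lib.Helper14_BalDefs Cfsg.Agent.Lib.Helper14_BalAbs
  Cfsg.Agent.Lib.Helper14_OmegaSimple Cfsg.Agent.Lib.Helper14_PSLBalCore
  Cfsg.Agent.Lib.Helper14_PSLBalDefs Cfsg.Agent.Lib.Helper14_PSLAut
  Cfsg.Agent.Lib.Helper44_PSLnRoot Cfsg.Agent.Lib.Helper14_FieldAutPSL

section abstract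

variable {F V : Type*} [Field F] [AddCommGroup V] [Module F V]

theorem semiBij_sum (τ : F ≃+* F) (hh : V → V) (hsb : SemiBij τ hh)
    {ι : Type*} (s : Finset ι) (f : ι → V) : hh (∑ i ∈ s, f i) = ∑ i ∈ s, hh (f i) := by
  classical
  induction s using Finset.induction_on with
  | empty =>
    rw [Finset.sum_empty, Finset.sum_empty]
    exact Cfsg.Agent.Lib.Helper69_PSLBAL_KUNI.semiBij_zero τ hh hsb
  | insert a s ha ih => rw [Finset.sum_insert ha, Finset.sum_insert ha, hsb.add, ih]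

end abstract

section matrix

variable {n : ℕ} {F : Type*} [Field F] [Fintype F]

local notation "SLn" => Matrix.SpecialLinearGroup (Fin n) F
local notation "Mn" => Matrix (Fin n) (Fin n) F

/-- the matrix whose columns are the images of the standard basis vectors -/
def matOf (hh : (Fin n → F) → (Fin n → F)) : Mn := Matrix.of fun i j => hh (Pi.single j 1) i

omit [Fintype F] in
theorem hh_eq_mulVec (τ : F ≃+* F) (hh : (Fin n → F) → (Fin n → F)) (hsb : SemiBij τ hh)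
    (v : Fin n → F) : hh v = matOf hh *ᵥ (fun i => τ (v i)) := by
  have hv : v = ∑ j, v j • (Pi.single j 1 : Fin n → F) := by
    ext i
    simp [Finset.sum_apply, Pi.single_apply]
  conv_lhs => rw [hv]
  rw [semiBij_sum τ hh hsb]
  funext i
  rw [Finset.sum_apply]
  simp only [hsb.smul, Pi.smul_apply, smul_eq_mul, Matrix.mulVec, dotProduct, matOf, Matrix.of_apply]
  apply Finset.sum_congr rfl
  intro j _
  ring

/-- `hh` fixes every isotropic point -/
theorem fix_isotropic {q₀ : ℕ} (hF : Fintype.card F = q₀ ^ 2) (hn : 0 < n)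
    (τ : F ≃+* F) (hh : (Fin n → F) → (Fin n → F)) (hsb : SemiBij τ hh)
    (hcomm : ∀ s : SLn, s ∈ Cfsg.SU n F q₀ →
      ∃ c : F, ∀ v, hh ((s : Mn) *ᵥ v) = c • ((s : Mn) *ᵥ hh v))
    (u : Fin n → F) (hu : Cfsg.hermForm n F q₀ u u = 0) : ∃ l : F, hh u = l • u := by
  have : Nonempty (Fin n) := ⟨⟨0, hn⟩⟩
  have h0 : hh 0 = 0 := Cfsg.Agent.Lib.Helper69_PSLBAL_KUNI.semiBij_zero τ hh hsb
  by_cases hu0 : u = 0
  · exact ⟨1, by rw [hu0, h0, smul_zero]⟩
  obtain ⟨c, hc0, hc⟩ := Cfsg.Agent.Lib.Helper5_SUCenter.exists_trace_zero hF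
  obtain ⟨c', hc'⟩ := hcomm ((Cfsg.Agent.Lib.Helper14_PSUKer.tvSU hF u c hu hc : ↥(Cfsg.SU n F q₀)) : SLn)
    (Cfsg.Agent.Lib.Helper14_PSUKer.tvSU hF u c hu hc).2
  rw [Cfsg.Agent.Lib.Helper14_PSUKer.tvSU_coe] at hc'
  set T : Mn := Cfsg.unitaryTransvection n q₀ u c with hT
  have hnil : (Matrix.mulVecLin T - 1) ^ 2 = 0 := by
    have h1 : Matrix.mulVecLin T - 1 = Matrix.mulVecLin (T - 1) := by
      apply LinearMap.ext
      intro v
      rw [LinearMap.sub_apply, Module.End.one_apply, Matrix.mulVecLin_apply, Matrix.mulVecLin_apply,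
        Matrix.sub_mulVec, Matrix.one_mulVec]
    rw [h1, pow_two, Module.End.mul_eq_comp, ← Matrix.mulVecLin_mul,
      Cfsg.Agent.Lib.Helper14_PSUKer.trans_sub_one_sq u c hu, Matrix.mulVecLin_zero]
  have hc1 : c' = 1 :=
    Cfsg.Agent.Lib.Helper69_PSLBAL_KUNI.c_eq_one_of_unipotent τ hh hsb (Matrix.mulVecLin T) 2 hnil c'
      (fun v => by rw [Matrix.mulVecLin_apply, Matrix.mulVecLin_apply]; exact hc' v)
  obtain ⟨i, hi⟩ : ∃ i, u i ≠ 0 := by
    by_contra hcon
    push Not at hcon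
    exact hu0 (funext hcon)
  set x : Fin n → F := Pi.single i 1 with hx
  have hxu : Cfsg.hermForm n F q₀ x u = (u i) ^ q₀ :=
    Cfsg.Agent.Lib.Helper13_Herm.hermForm_single_left n i u
  have hxu0 : Cfsg.hermForm n F q₀ x u ≠ 0 := by rw [hxu]; exact pow_ne_zero _ hi
  have h1 := hc' x
  rw [hc1, one_smul, hT, Cfsg.Agent.Lib.Helper13_Herm.unitaryTransvection_mulVec,
    Cfsg.Agent.Lib.Helper13_Herm.unitaryTransvection_mulVec, hsb.add, hsb.smul] at h1
  have h3 : τ (c * Cfsg.hermForm n F q₀ x u) • hh u = (c * Cfsg.hermForm n F q₀ (hh x) u) • u :=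
    add_left_cancel h1
  have hτ0 : τ (c * Cfsg.hermForm n F q₀ x u) ≠ 0 := by
    intro h
    apply mul_ne_zero hc0 hxu0
    have := congrArg τ.symm h
    simpa using this
  refine ⟨(τ (c * Cfsg.hermForm n F q₀ x u))⁻¹ * (c * Cfsg.hermForm n F q₀ (hh x) u), ?_⟩
  rw [mul_smul, ← h3, smul_smul, inv_mul_cancel₀ hτ0, one_smul]

/-- **KEYU** -/
theorem key_U {q₀ : ℕ} (hF : Fintype.card F = q₀ ^ 2) (h2 : (2 : F) ≠ 0) (hn : 3 ≤ n)
    (τ : F ≃+* F) (hh : (Fin n → F) → (Fin n → F)) (hsb : SemiBij τ hh)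
    (hcomm : ∀ s : SLn, s ∈ Cfsg.SU n F q₀ →
      ∃ c : F, ∀ v, hh ((s : Mn) *ᵥ v) = c • ((s : Mn) *ᵥ hh v)) :
    τ = RingEquiv.refl F ∧ ∃ a : F, ∀ v, hh v = a • v := by
  have hn0 : 0 < n := by omega
  have h0 : hh 0 = 0 := Cfsg.Agent.Lib.Helper69_PSLBAL_KUNI.semiBij_zero τ hh hsb
  have hfix : ∀ u : Fin n → F, Cfsg.hermForm n F q₀ u u = 0 → ∃ l : F, hh u = l • u :=
    fun u hu => fix_isotropic hF hn0 τ hh hsb hcomm u hu
  set X : Mn := matOf hh with hX
  have hrep : ∀ v, hh v = X *ᵥ (fun i => τ (v i)) := hh_eq_mulVec τ hh hsb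
  have hrep2 : ∀ v : Fin n → F, hh (fun i => τ.symm (v i)) = X *ᵥ v := by
    intro v
    rw [hrep]
    congr 1
    funext i
    exact τ.apply_symm_apply (v i)
  have hτs : ∀ d : F, τ.symm d = d := by
    apply Cfsg.Agent.Lib.Helper14_PSUKer.rho_eq_id_of_iso hF hn X τ.symm
    · intro v hv
      have h2' : hh (fun i => τ.symm (v i)) = hh 0 := by rw [hrep2, hv, h0]
      have h3 := hsb.bij.1 h2'
      funext i
      have h4 := congrFun h3 i
      have h5 : τ.symm (v i) = 0 := h4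
      have h6 := congrArg τ h5
      rw [τ.apply_symm_apply, map_zero] at h6
      exact h6
    · intro v hv
      have hu : Cfsg.hermForm n F q₀ (fun i => τ.symm (v i)) (fun i => τ.symm (v i)) = 0 := by
        rw [Cfsg.Agent.Lib.Helper14_PSUAut.hermForm_map, hv, map_zero]
      obtain ⟨l, hl⟩ := hfix _ hu
      exact ⟨l, by rw [← hl, hrep2]⟩
  have hτ : ∀ d : F, τ d = d := by
    intro d
    have h := hτs (τ d)
    rw [τ.symm_apply_apply] at h
    exact h.symm
  refine ⟨RingEquiv.ext hτ, ?_⟩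
  have hrep' : ∀ v, hh v = X *ᵥ v := by
    intro v
    rw [hrep]
    congr 1
    funext i
    exact hτ _
  obtain ⟨r, hr⟩ := Cfsg.Agent.Lib.Helper14_PSUKer.scalar_of_iso hF hn X (fun v hv => by
    obtain ⟨l, hl⟩ := hfix v hv
    exact ⟨l, by rw [← hrep', hl]⟩)
  refine ⟨r, fun v => ?_⟩
  rw [hrep', hr, Matrix.smul_mulVec, Matrix.one_mulVec]

end matrix

end Cfsg.Agent.Lib.Helper55_PSLBAL_KEYU
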