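import Mathlib
import Cfsg.Agent.Lib.Helper14_PSLBalDefs
import Cfsg.Agent.Lib.Helper55_PSLBAL_KEYU

set_option autoImplicit false

namespace Cfsg.Agent.Lib.Helper14_PSLBalPkU

open Matrix Module Cfsg Cfsg.Agent.Lib.Helper14_PSLBalDefs

variable {n : ℕ} {F : Type*} [Field F] [Fintype F]

local notation "SLn" => Matrix.SpecialLinearGroup (Fin n) F
local notation "Mn" => Matrix (Fin n) (Fin n) F

/-- KEYU (package by helper55) -/
theorem key_U {q₀ : ℕ} (hF : Fintype.card F = q₀ ^ 2) (h2 : (2 : F) ≠ 0) (hn : 3 ≤ n)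
    (τ : F ≃+* F) (hh : (Fin n → F) → (Fin n → F)) (hsb : SemiBij τ hh)
    (hcomm : ∀ s : SLn, s ∈ Cfsg.SU n F q₀ →
      ∃ c : F, ∀ v, hh ((s : Mn) *ᵥ v) = c • ((s : Mn) *ᵥ hh v)) :
    τ = RingEquiv.refl F ∧ ∃ a : F, ∀ v, hh v = a • v :=
  Cfsg.Agent.Lib.Helper55_PSLBAL_KEYU.key_U hF h2 hn τ hh hsb hcomm

end Cfsg.Agent.Lib.Helper14_PSLBalPkU
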