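import Mathlib
import Cfsg.Agent.Lib.Helper14_PSLBalS
import Cfsg.Agent.Lib.Helper14_PSLBalPkU

/-!
# Local balance at the standard graph-field involution of `PSL_n(q₀²)`, `q₀` odd (helper14)
-/

set_option autoImplicit false
set_option linter.unusedSectionVars false
set_option linter.unusedVariables false

namespace Cfsg.Agent.Lib.Helper14_PSLBalU

open Matrix Cfsg Cfsg.Agent.Lib.Helper14_PSLAut Cfsg.Agent.Lib.Helper14_PSLGraph
  Cfsg.Agent.Lib.Helper44_PSLnRoot Cfsg.Agent.Lib.Helper14_FieldAutPSL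
  Cfsg.Agent.Lib.Helper14_PSLBalCore Cfsg.Agent.Lib.Helper14_PSLBalDefs
  Cfsg.Agent.Lib.Helper14_PSLBalFix Cfsg.Agent.Lib.Helper14_BalAbs
  Cfsg.Agent.Lib.Helper14_PSLBalS

variable {n : ℕ} {F : Type*} [Field F]

local notation "SLn" => Matrix.SpecialLinearGroup (Fin n) F
local notation "PSLn" => Matrix.ProjectiveSpecialLinearGroup (Fin n) F
local notation "Mn" => Matrix (Fin n) (Fin n) F

section unitary

variable [Fintype F] {q₀ : ℕ}

theorem mem_SU_iff (hF : Fintype.card F = q₀ ^ 2) (σ : F ≃+* F) (hσ : ∀ a, σ a = a ^ q₀) (s : SLn) :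
    s ∈ Cfsg.SU n F q₀ ↔ (s : Mn)ᵀ * (s : Mn).map σ = 1 := by
  have hq₀ : q₀ ≠ 0 := by
    rintro rfl
    have := Fintype.card_pos (α := F)
    rw [hF] at this
    simp at this
  have h1 : s ∈ Cfsg.SU n F q₀ ↔ Matrix.SpecialLinearGroup.toGL s ∈ Cfsg.GU n F q₀ := Iff.rfl
  rw [h1, Cfsg.Agent.Lib.Helper14_GraphFieldPSL.mem_GU_iff_map σ hσ hq₀]
  have h2 : ((Matrix.SpecialLinearGroup.toGL s : GL (Fin n) F) : Mn) = (s : Mn) := rfl
  rw [h2]
  constructor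
  · intro h
    have := congrArg Matrix.transpose h
    rw [Matrix.transpose_mul, Matrix.transpose_one, Matrix.transpose_map, Matrix.transpose_transpose]
      at this
    exact this
  · intro h
    have := congrArg Matrix.transpose h
    rw [Matrix.transpose_mul, Matrix.transpose_one, Matrix.transpose_transpose,
      ← Matrix.transpose_map] at this
    exact this

theorem sigma_sigma (hF : Fintype.card F = q₀ ^ 2) (σ : F ≃+* F) (hσ : ∀ a, σ a = a ^ q₀) (a : F) :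
    σ (σ a) = a := by
  rw [hσ, hσ, ← pow_mul, ← pow_two, ← hF, FiniteField.pow_card]

/-- **Local balance at the standard graph-field involution.** -/
theorem balance_U {p f : ℕ} [hp : Fact p.Prime] (hFp : Fintype.card F = p ^ f)
    (hF : Fintype.card F = q₀ ^ 2) (h2 : (2 : F) ≠ 0) (hn : 3 ≤ n)
    (σ : F ≃+* F) (hσ : ∀ a, σ a = a ^ q₀)
    (A : Subgroup (MulAut PSLn)) (hinn : ∀ k : PSLn, MulAut.conj k ∈ A) :
    pPrimeCore 2 ↥(A ⊓ Subgroup.centralizer {gfAut σ}) = ⊥ := by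
  have hσσ := sigma_sigma hF σ hσ
  apply core_of_R hFp hn (gfAut σ) (Cfsg.SU n F q₀)
  · intro r hr
    exact gfAut_fix_of_unitary σ hσσ r ((mem_SU_iff hF σ hσ r).mp hr)
  · intro s hs r hr
    obtain ⟨c, hc0, hc⟩ := sim_of_gfAut_fix (by omega) σ s hs
    rw [mem_SU_iff hF σ hσ] at hr ⊢
    -- `(s r s⁻¹)ᵀ σ(s r s⁻¹) = 1`
    have hsi : ((s⁻¹ : SLn) : Mn)ᵀ * ((s⁻¹ : SLn) : Mn).map σ = c⁻¹ • (1 : Mn) := by
      have h1 : (s : Mn)ᵀ * ((s : Mn).map σ) * (c⁻¹ • (1 : Mn)) = 1 := by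
        rw [hc, Matrix.smul_mul, Matrix.one_mul, smul_smul, mul_inv_cancel₀ hc0, one_smul]
      have h3 : ((s⁻¹ : SLn) : Mn)ᵀ * (s : Mn)ᵀ = 1 := by
        rw [← Matrix.transpose_mul, sl_mul_inv, Matrix.transpose_one]
      have h4 : ((s : Mn).map σ) * ((s⁻¹ : SLn) : Mn).map σ = 1 := by
        rw [← map_mul', sl_mul_inv, map_one']
      -- multiply `h1` on the left by `s⁻ᵀ` and on the right by `σ(s⁻¹)`
      calc ((s⁻¹ : SLn) : Mn)ᵀ * ((s⁻¹ : SLn) : Mn).map σ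
          = ((s⁻¹ : SLn) : Mn)ᵀ * ((s : Mn)ᵀ * ((s : Mn).map σ) * (c⁻¹ • (1 : Mn))) *
            ((s⁻¹ : SLn) : Mn).map σ := by rw [h1, Matrix.mul_one]
        _ = (((s⁻¹ : SLn) : Mn)ᵀ * (s : Mn)ᵀ) * (c⁻¹ • (((s : Mn).map σ) *
            ((s⁻¹ : SLn) : Mn).map σ)) := by
            simp only [Matrix.mul_assoc, Matrix.mul_smul, Matrix.smul_mul, Matrix.one_mul]
        _ = c⁻¹ • (1 : Mn) := by rw [h3, h4, Matrix.one_mul]
    have hcoe : ((s * r * s⁻¹ : SLn) : Mn) = (s : Mn) * (r : Mn) * ((s⁻¹ : SLn) : Mn) := by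
      rw [Matrix.SpecialLinearGroup.coe_mul, Matrix.SpecialLinearGroup.coe_mul]
    rw [hcoe, Matrix.transpose_mul, Matrix.transpose_mul, map_mul', map_mul']
    calc ((s⁻¹ : SLn) : Mn)ᵀ * ((r : Mn)ᵀ * (s : Mn)ᵀ) *
          ((s : Mn).map σ * (r : Mn).map σ * ((s⁻¹ : SLn) : Mn).map σ)
        = ((s⁻¹ : SLn) : Mn)ᵀ * ((r : Mn)ᵀ * ((s : Mn)ᵀ * (s : Mn).map σ) * (r : Mn).map σ) *
          ((s⁻¹ : SLn) : Mn).map σ := by simp only [Matrix.mul_assoc]
      _ = c • (((s⁻¹ : SLn) : Mn)ᵀ * ((r : Mn)ᵀ * (r : Mn).map σ) * ((s⁻¹ : SLn) : Mn).map σ) := by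
          rw [hc]
          simp only [Matrix.mul_smul, Matrix.smul_mul, Matrix.mul_one]
      _ = 1 := by
          rw [hr, Matrix.mul_one, hsi, smul_smul, mul_inv_cancel₀ hc0, one_smul]
  · exact oddComm_of_structure _ (Cfsg.Agent.Lib.Helper14_PSLBalPk.su_structure hF h2 hn)
  · intro τ hh hadd hsm hbij hcomm
    exact Cfsg.Agent.Lib.Helper14_PSLBalPkU.key_U hF h2 hn τ hh ⟨hadd, hsm, hbij⟩ hcomm
  · exact hinn

end unitary

end Cfsg.Agent.Lib.Helper14_PSLBalU
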