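import Mathlib
import Cfsg.Agent.Lib.Helper14_PSLBalO
import Cfsg.Agent.Lib.Helper14_PSLBalU
import Cfsg.Agent.Lib.Helper44_PSLnOut

/-!
# Local balance at a graph-type involution of `PSL_n(q)`, `q` odd, `n ≥ 3` (helper14)

`balance_PSL_graph` : for an involution `x = conjAut g * fieldAut σ * itAut` of `Aut(PSL_n(F))`
(that is, an involution outside `PΓL_n(F)`) and `Inn ≤ A ≤ Aut(PSL_n(F))`: `O_{2'}(C_A(x)) = 1`.
-/

set_option autoImplicit false
set_option linter.unusedSectionVars false
set_option linter.unusedVariables false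

namespace Cfsg.Agent.Lib.Helper14_PSLBalGraph

open Matrix Module Cfsg Cfsg.Agent.Lib.Helper14_PSLAut Cfsg.Agent.Lib.Helper14_PSLGraph
  Cfsg.Agent.Lib.Helper44_PSLnRoot Cfsg.Agent.Lib.Helper14_FieldAutPSL
  Cfsg.Agent.Lib.Helper14_PSLBalCore Cfsg.Agent.Lib.Helper14_PSLBalDefs
  Cfsg.Agent.Lib.Helper14_PSLBalFix Cfsg.Agent.Lib.Helper14_BalAbs
  Cfsg.Agent.Lib.Helper14_PSLBalU Cfsg.Agent.Lib.Helper14_PSLBalS
  Cfsg.Agent.Lib.Helper14_PSLBalO

variable {n : ℕ} {F : Type*} [Field F]

local notation "SLn" => Matrix.SpecialLinearGroup (Fin n) F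
local notation "PSLn" => Matrix.ProjectiveSpecialLinearGroup (Fin n) F
local notation "Mn" => Matrix (Fin n) (Fin n) F

/-- the square of an automorphism outside `PΓL` -/
theorem sq_formula (g : GL (Fin n) F) (σ : F ≃+* F) :
    (conjAut g * fieldAut σ * itAut : MulAut PSLn) * (conjAut g * fieldAut σ * itAut) =
      conjAut (g * glMap σ (glT g)⁻¹) * fieldAut (σ * σ) := by
  rw [map_mul, fieldAut_mul]
  calc (conjAut g * fieldAut σ * itAut : MulAut PSLn) * (conjAut g * fieldAut σ * itAut)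
      = conjAut g * fieldAut σ * (itAut * conjAut g) * fieldAut σ * itAut := by group
    _ = conjAut g * (fieldAut σ * conjAut (glT g)⁻¹) * (itAut * fieldAut σ) * itAut := by
        rw [itAut_mul_conjAut]; group
    _ = conjAut g * (conjAut (glMap σ (glT g)⁻¹) * fieldAut σ) * (fieldAut σ * itAut) * itAut := by
        rw [fieldAut_mul_conjAut, itAut_mul_fieldAut]
    _ = conjAut g * conjAut (glMap σ (glT g)⁻¹) * (fieldAut σ * fieldAut σ) * (itAut * itAut) := by
        group
    _ = conjAut g * conjAut (glMap σ (glT g)⁻¹) * (fieldAut σ * fieldAut σ) := by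
        rw [itAut_mul_self, mul_one]

/-- conjugating an automorphism outside `PΓL` by an inner-diagonal automorphism -/
theorem conj_formula (k g : GL (Fin n) F) (σ : F ≃+* F) :
    conjAut k * (conjAut g * fieldAut σ * itAut : MulAut PSLn) * (conjAut k)⁻¹ =
      conjAut (k * g * glMap σ (glT k)) * (fieldAut σ * itAut) := by
  have h1 : (itAut : MulAut PSLn) * (conjAut k)⁻¹ = conjAut (glT k) * itAut := by
    rw [← map_inv, itAut_mul_conjAut, glT_inv, inv_inv]
  rw [map_mul, map_mul]
  calc conjAut k * (conjAut g * fieldAut σ * itAut : MulAut PSLn) * (conjAut k)⁻¹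
      = conjAut k * conjAut g * fieldAut σ * (itAut * (conjAut k)⁻¹) := by group
    _ = conjAut k * conjAut g * (fieldAut σ * conjAut (glT k)) * itAut := by rw [h1]; group
    _ = conjAut k * conjAut g * (conjAut (glMap σ (glT k)) * fieldAut σ) * itAut := by
        rw [fieldAut_mul_conjAut]
    _ = conjAut k * conjAut g * conjAut (glMap σ (glT k)) * (fieldAut σ * itAut) := by group

section finite

variable [Fintype F] {p f : ℕ} [hp : Fact p.Prime]

/-- transport of the statement along conjugation -/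
theorem core_bot_of_conj (A : Subgroup (MulAut PSLn)) (hinn : ∀ k : PSLn, MulAut.conj k ∈ A)
    (x c : MulAut PSLn)
    (h : ∀ A' : Subgroup (MulAut PSLn), (∀ k : PSLn, MulAut.conj k ∈ A') →
      pPrimeCore 2 ↥(A' ⊓ Subgroup.centralizer {c * x * c⁻¹}) = ⊥) :
    pPrimeCore 2 ↥(A ⊓ Subgroup.centralizer {x}) = ⊥ := by
  by_contra hne
  rw [← Ne, Cfsg.Agent.Lib.Helper44_BalanceGen.pPrimeCore_conj_iff A x c 2] at hne
  apply hne
  apply h
  intro k
  refine ⟨MulAut.conj (c⁻¹ k), hinn _, ?_⟩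
  show c * MulAut.conj (c⁻¹ k) * c⁻¹ = MulAut.conj k
  rw [Cfsg.Agent.Lib.Helper44_BalanceGen.conj_comm_aut', mul_inv_cancel_right]
  congr 1
  exact MulAut.apply_inv_self PSLn c k

/-- **Local balance at an involution outside `PΓL_n(q)`, `q` odd, `n ≥ 3`.** -/
theorem balance_PSL_graph (hFp : Fintype.card F = p ^ f) (h2 : (2 : F) ≠ 0) (hn : 3 ≤ n)
    (g : GL (Fin n) F) (σ : F ≃+* F)
    (hxx : (conjAut g * fieldAut σ * itAut : MulAut PSLn) * (conjAut g * fieldAut σ * itAut) = 1)
    (A : Subgroup (MulAut PSLn)) (hinn : ∀ k : PSLn, MulAut.conj k ∈ A) :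
    pPrimeCore 2 ↥(A ⊓ Subgroup.centralizer {conjAut g * fieldAut σ * itAut}) = ⊥ := by
  have hsq := hxx
  rw [sq_formula] at hsq
  -- `σ² = 1`
  have hσσ1 : σ * σ = 1 := by
    apply Cfsg.Agent.Lib.Helper44_PSLnOut.eq_one_of_fieldAut_eq_conjAut (by omega : 2 ≤ n) (σ * σ)
      (g * glMap σ (glT g)⁻¹)⁻¹
    rw [map_inv]
    exact eq_inv_of_mul_eq_one_right hsq
  have hσσ : ∀ a, σ (σ a) = a := by
    intro a
    have := congrArg (fun τ : F ≃+* F => τ a) hσσ1
    exact this
  -- `g σ(g)⁻ᵀ` is scalar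
  have hsc : g * glMap σ (glT g)⁻¹ ∈ Cfsg.Geo.scalars (Fin n) F := by
    rw [← conjAut_eq_one_iff]
    rw [hσσ1, fieldAut_one, mul_one] at hsq
    exact hsq
  obtain ⟨μ, hμ⟩ := (Cfsg.Geo.mem_scalars_iff _).mp hsc
  have hg : (g : Mn) = (μ : F) • ((g : Mn).map σ)ᵀ := by
    have h1 : g = (g * glMap σ (glT g)⁻¹) * glMap σ (glT g) := by
      rw [map_inv, inv_mul_cancel_right]
    have h3 := congrArg (fun z : GL (Fin n) F => (z : Mn)) h1
    simp only [Units.val_mul] at h3
    rw [← Units.val_mul, hμ, glMap_coe, glT_coe, Matrix.smul_mul, Matrix.one_mul] at h3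
    rw [← Matrix.transpose_map]
    exact h3
  by_cases hσ : σ = RingEquiv.refl F
  · -- graph automorphism
    subst hσ
    have hf1 : (fieldAut (RingEquiv.refl F) : MulAut PSLn) = 1 := fieldAut_one
    have hx : (conjAut g * fieldAut (RingEquiv.refl F) * itAut : MulAut PSLn) = gam g⁻¹ := by
      rw [hf1, mul_one]
      unfold gam graphAut
      rw [inv_inv]
    rw [hx] at hxx ⊢
    have hord : orderOf (gam g⁻¹ : MulAut PSLn) = 2 := by
      apply orderOf_eq_prime
      · rw [pow_two]; exact hxx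
      · unfold gam; exact graphAut_ne_one hn _
    rcases (orderOf_gam_iff hn g⁻¹).mp hord with h | h
    · exact balance_O hFp h2 hn g⁻¹ h A hinn
    · exact balance_S hFp h2 hn g⁻¹ h A hinn
  · -- graph-field automorphism
    obtain ⟨hev, hpow⟩ := involution_eq_pow hFp σ hσ hσσ
    have hF2 : Fintype.card F = (p ^ (f / 2)) ^ 2 := by
      obtain ⟨j, hj⟩ := hev
      rw [hFp, ← pow_mul]
      congr 1
      omega
    obtain ⟨k, c, hk⟩ := Cfsg.Agent.Lib.Helper14_PSLBalPk.herm_normal_form (by omega : 1 ≤ n) σ hσ hσσ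
      g (μ : F) hg
    apply core_bot_of_conj A hinn _ (conjAut k)
    intro A' hinn'
    have hconj : conjAut k * (conjAut g * fieldAut σ * itAut : MulAut PSLn) * (conjAut k)⁻¹ =
        gfAut σ := by
      rw [conj_formula]
      have hc0 : c ≠ 0 := by
        rintro rfl
        rw [zero_smul] at hk
        have h5 := congrArg Matrix.det hk
        have : Nonempty (Fin n) := ⟨⟨0, by omega⟩⟩
        rw [Matrix.det_mul, Matrix.det_mul, Matrix.det_zero] at h5
        have hk0 := gl_det_ne_zero k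
        have hg0 := gl_det_ne_zero g
        have hk1 : (((k : Mn).map σ)ᵀ).det ≠ 0 := by
          rw [Matrix.det_transpose]
          have : ((k : Mn).map σ).det = σ ((k : Mn).det) := by
            rw [← RingEquiv.coe_toRingHom, RingHom.map_det]
            rfl
          rw [this]
          exact (map_ne_zero σ).mpr hk0
        exact (mul_ne_zero (mul_ne_zero hk0 hg0) hk1) h5
      have hsc' : k * g * glMap σ (glT k) ∈ Cfsg.Geo.scalars (Fin n) F := by
        rw [Cfsg.Geo.mem_scalars_iff]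
        refine ⟨Units.mk0 c hc0, ?_⟩
        rw [Units.val_mul, Units.val_mul, glMap_coe, glT_coe, Matrix.transpose_map]
        exact hk
      rw [conjAut_eq_one_of_mem_scalars _ hsc', one_mul]
      rfl
    rw [hconj]
    exact balance_U hFp hF2 h2 hn σ hpow A' hinn'

end finite

end Cfsg.Agent.Lib.Helper14_PSLBalGraph
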