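import Mathlib
import Cfsg.Agent.Lib.Helper14_PSLGraphOdd

set_option autoImplicit false
set_option linter.unusedSectionVars false

/-!
Determinants of similarities of a non-degenerate bilinear form `M`: `det g ^ 2 = c ^ n`; for an
alternating form `det g = c ^ m`; existence of similarities with prescribed multiplier and of isometries
of determinant `-1` (helper14).
-/

namespace Cfsg.Agent.Lib.Helper14_SimDet

open Matrix Cfsg.Agent.Lib.Helper14_PSLAut Cfsg.Agent.Lib.Helper14_PSLCent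
  Cfsg.Agent.Lib.Helper14_PGOTransport Cfsg.Agent.Lib.Helper14_SymForms
  Cfsg.Agent.Lib.Helper14_Congruence Cfsg.Agent.Lib.Helper14_PSLGraph Cfsg.Agent.Lib.Helper14_PSLGraphOdd

variable {F : Type*} [Field F] {n : ℕ}

local notation "Mn" => Matrix (Fin n) (Fin n) F

theorem det_sq_of_sim {M : Mn} (hd : M.det ≠ 0) {g : Mn} {c : F} (h : gᵀ * M * g = c • M) :
    g.det ^ 2 = c ^ n := by
  have hdet := congrArg Matrix.det h
  rw [Matrix.det_mul, Matrix.det_mul, Matrix.det_transpose, Matrix.det_smul, Fintype.card_fin] at hdet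
  have h1 : (g.det ^ 2 - c ^ n) * M.det = 0 := by linear_combination hdet
  rcases mul_eq_zero.mp h1 with h | h
  · linear_combination h
  · exact absurd h hd

theorem det_of_sim_sq {M : Mn} (hd : M.det ≠ 0) {g : Mn} {r : F} (h : gᵀ * M * g = (r * r) • M) :
    g.det = r ^ n ∨ g.det = -r ^ n := by
  have h1 := det_sq_of_sim hd h
  have h2 : (r * r) ^ n = (r ^ n) ^ 2 := by rw [← pow_two, ← pow_mul, ← pow_mul, mul_comm]
  have h3 : (g.det - r ^ n) * (g.det + r ^ n) = 0 := by linear_combination h1 - h2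
  rcases mul_eq_zero.mp h3 with h | h
  · left; linear_combination h
  · right; linear_combination h

/-- In odd dimension the multiplier of a similarity is a square. -/
theorem exists_sqrt_of_sim_odd {k : ℕ} (hn : n = 2 * k + 1) {M : Mn} (hd : M.det ≠ 0) {g : Mn} {c : F}
    (hc : c ≠ 0) (h : gᵀ * M * g = c • M) : ∃ r : F, r * r = c := by
  have h1 := det_sq_of_sim hd h
  have h2 : c ^ n = c * (c ^ k * c ^ k) := by rw [hn]; ring
  refine ⟨g.det / c ^ k, ?_⟩
  have hck : c ^ k ≠ 0 := pow_ne_zero _ hc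
  rw [div_mul_div_comm, ← pow_two, h1, h2]
  field_simp

section symp

variable {m : ℕ}

/-- `diag(c, …, c, 1, …, 1)`, a conformal symplectic matrix with multiplier `c`. -/
def dC (c : F) : Matrix (Fin m ⊕ Fin m) (Fin m ⊕ Fin m) F := Matrix.fromBlocks (c • 1) 0 0 1

theorem dC_J (c : F) : (dC (m := m) c)ᵀ * Matrix.J (Fin m) F * dC c = c • Matrix.J (Fin m) F := by
  unfold dC Matrix.J
  rw [Matrix.fromBlocks_transpose, Matrix.fromBlocks_multiply, Matrix.fromBlocks_multiply,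
    Matrix.fromBlocks_smul]
  simp

theorem det_dC (c : F) : (dC (m := m) c).det = c ^ m := by
  unfold dC
  rw [Matrix.det_fromBlocks_zero₂₁, Matrix.det_smul, Matrix.det_one, Fintype.card_fin]
  ring

theorem det_of_gsp {h : Matrix (Fin m ⊕ Fin m) (Fin m ⊕ Fin m) F} {c : F} (hc : c ≠ 0)
    (hh : hᵀ * Matrix.J (Fin m) F * h = c • Matrix.J (Fin m) F) : h.det = c ^ m := by
  have h1 : h * dC c⁻¹ ∈ Matrix.symplecticGroup (Fin m) F := by
    rw [SymplecticGroup.mem_iff', Matrix.transpose_mul]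
    calc (dC c⁻¹)ᵀ * hᵀ * Matrix.J (Fin m) F * (h * dC c⁻¹)
        = (dC c⁻¹)ᵀ * (hᵀ * Matrix.J (Fin m) F * h) * dC c⁻¹ := by simp only [Matrix.mul_assoc]
      _ = c • ((dC c⁻¹)ᵀ * Matrix.J (Fin m) F * dC c⁻¹) := by
          rw [hh, Matrix.mul_smul, Matrix.smul_mul]
      _ = Matrix.J (Fin m) F := by rw [dC_J, smul_smul, mul_inv_cancel₀ hc, one_smul]
  have h2 := SymplecticGroup.det_eq_one h1
  rw [Matrix.det_mul, det_dC, inv_pow] at h2
  have hcm : c ^ m ≠ 0 := pow_ne_zero _ hc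
  field_simp at h2
  exact h2

theorem bilOf_rect {κ : Type} [Fintype κ] [DecidableEq κ] (N : Matrix κ κ F) (P : Matrix κ (Fin n) F)
    (u v : Fin n → F) : bilOf (Pᵀ * N * P) u v = bilOf N (P *ᵥ u) (P *ᵥ v) := by
  unfold bilOf
  rw [← Matrix.mulVec_mulVec, ← Matrix.mulVec_mulVec, Matrix.dotProduct_mulVec, Matrix.vecMul_transpose]

/-- A similarity of a non-degenerate alternating form with multiplier `c` has determinant `c ^ m`. -/
theorem det_of_sim_alt (hnm : n = 2 * m) {M : Mn} (hM : ∀ v, bilOf M v v = 0) (hd : M.det ≠ 0) {g : Mn}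
    {c : F} (hc : c ≠ 0) (h : gᵀ * M * g = c • M) : g.det = c ^ m := by
  obtain ⟨P, P', h1, h2, hP⟩ := exists_std_alt hnm hM hd
  have hPM : Pᵀ * Matrix.J (Fin m) F * P = M := by
    apply bilOf_ext
    intro u v
    rw [bilOf_rect, ← hP]
    rfl
  have hPP : (P * P')ᵀ = 1 := by rw [h1, Matrix.transpose_one]
  have hh : (P * g * P')ᵀ * Matrix.J (Fin m) F * (P * g * P') = c • Matrix.J (Fin m) F := by
    calc (P * g * P')ᵀ * Matrix.J (Fin m) F * (P * g * P')
        = P'ᵀ * (gᵀ * (Pᵀ * Matrix.J (Fin m) F * P) * g) * P' := by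
          simp only [Matrix.transpose_mul, Matrix.mul_assoc]
      _ = c • (P'ᵀ * (Pᵀ * Matrix.J (Fin m) F * P) * P') := by
          rw [hPM, h, Matrix.mul_smul, Matrix.smul_mul]
      _ = c • ((P * P')ᵀ * Matrix.J (Fin m) F * (P * P')) := by
          simp only [Matrix.transpose_mul, Matrix.mul_assoc]
      _ = c • Matrix.J (Fin m) F := by rw [h1, Matrix.transpose_one, Matrix.one_mul, Matrix.mul_one]
  rw [← det_of_gsp hc hh, Matrix.det_conj_of_mul_eq_one h1 h2]

/-- Every scalar is the multiplier of a similarity of a non-degenerate alternating form. -/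
theorem exists_sim_alt (hnm : n = 2 * m) {M : Mn} (hM : ∀ v, bilOf M v v = 0) (hd : M.det ≠ 0) {c : F}
    (hc : c ≠ 0) : ∃ k : GL (Fin n) F, (k : Mn)ᵀ * M * (k : Mn) = c • M := by
  apply exists_congr_alt hnm hM _ hd
  · rw [Matrix.det_smul]; exact mul_ne_zero (pow_ne_zero _ hc) hd
  · intro v; rw [bilOf_smul, hM, mul_zero]

end symp

section sym

variable [Fintype F]

/-- Every scalar is the multiplier of a similarity of a non-degenerate symmetric form of even
dimension (odd characteristic). -/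
theorem exists_sim_sym (h2 : (2 : F) ≠ 0) {m : ℕ} (hnm : n = 2 * m) {M : Mn} (hM : Mᵀ = M)
    (hd : M.det ≠ 0) {c : F} (hc : c ≠ 0) : ∃ k : GL (Fin n) F, (k : Mn)ᵀ * M * (k : Mn) = c • M := by
  apply exists_congr_sym h2 hM _ hd
  · rw [Matrix.det_smul]; exact mul_ne_zero (pow_ne_zero _ hc) hd
  · rw [Matrix.det_smul, Fintype.card_fin]
    have hcn : c ^ n = c ^ m * c ^ m := by rw [hnm, two_mul, pow_add]
    exact ⟨c ^ m * M.det, by rw [hcn]; ring⟩
  · rw [Matrix.transpose_smul, hM]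

theorem dmat_conj (hn : 0 < n) (d : F) : (dmat hn (-1 : F))ᵀ * dmat hn d * dmat hn (-1) = dmat hn d := by
  unfold dmat
  rw [Matrix.diagonal_transpose, Matrix.diagonal_mul_diagonal, Matrix.diagonal_mul_diagonal]
  congr 1
  funext i
  split_ifs <;> ring

/-- A non-degenerate symmetric form in odd characteristic has an isometry of determinant `-1`. -/
theorem exists_iso_det_neg_one (h2 : (2 : F) ≠ 0) (hn : 0 < n) {M : Mn} (hM : Mᵀ = M) (hd : M.det ≠ 0) :
    ∃ R : GL (Fin n) F, (R : Mn)ᵀ * M * (R : Mn) = M ∧ (R : Mn).det = -1 := by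
  obtain ⟨k, hk⟩ := exists_congr_sym h2 hM (dmat_transpose hn M.det) hd
    (by rw [det_dmat]; exact hd) (by rw [det_dmat]; exact ⟨M.det, rfl⟩)
  have hki : ((k⁻¹ : GL (Fin n) F) : Mn) * (k : Mn) = 1 := by
    rw [← Units.val_mul, inv_mul_cancel, Units.val_one]
  have hki' : (k : Mn) * ((k⁻¹ : GL (Fin n) F) : Mn) = 1 := by
    rw [← Units.val_mul, mul_inv_cancel, Units.val_one]
  have hM' : M = ((k⁻¹ : GL (Fin n) F) : Mn)ᵀ * dmat hn M.det * ((k⁻¹ : GL (Fin n) F) : Mn) := by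
    rw [← hk]
    calc M = ((k : Mn) * ((k⁻¹ : GL (Fin n) F) : Mn))ᵀ * M * ((k : Mn) * ((k⁻¹ : GL (Fin n) F) : Mn)) := by
          rw [hki', Matrix.transpose_one, Matrix.one_mul, Matrix.mul_one]
      _ = ((k⁻¹ : GL (Fin n) F) : Mn)ᵀ * ((k : Mn)ᵀ * M * (k : Mn)) * ((k⁻¹ : GL (Fin n) F) : Mn) := by
          simp only [Matrix.transpose_mul, Matrix.mul_assoc]
  refine ⟨k * dGL hn (-1 : F) (by simp) * k⁻¹, ?_, ?_⟩
  · rw [Units.val_mul, Units.val_mul, dGL_coe]
    calc ((k : Mn) * dmat hn (-1) * ((k⁻¹ : GL (Fin n) F) : Mn))ᵀ * M *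
          ((k : Mn) * dmat hn (-1) * ((k⁻¹ : GL (Fin n) F) : Mn))
        = ((k⁻¹ : GL (Fin n) F) : Mn)ᵀ * ((dmat hn (-1 : F))ᵀ * ((k : Mn)ᵀ * M * (k : Mn)) * dmat hn (-1)) *
            ((k⁻¹ : GL (Fin n) F) : Mn) := by
          simp only [Matrix.transpose_mul, Matrix.mul_assoc]
      _ = M := by rw [hk, dmat_conj, ← hM']
  · rw [Units.val_mul, Units.val_mul, dGL_coe, Matrix.det_mul, Matrix.det_mul, det_dmat]
    have h3 : (k : Mn).det * ((k⁻¹ : GL (Fin n) F) : Mn).det = 1 := by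
      rw [← Matrix.det_mul, hki', Matrix.det_one]
    linear_combination (-1 : F) * h3

end sym

end Cfsg.Agent.Lib.Helper14_SimDet
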