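import Mathlib
import Cfsg.Agent.Lib.Helper14_Char2Even
import Cfsg.Agent.Lib.Helper14_SimDet

set_option autoImplicit false
set_option linter.unusedSectionVars false

/-!
The multiplier homomorphism of a similarity group and the orders of projective similarity groups:
`|PGO(Q)| ≤ |O(Q)|` and `|PGSp_{2m}(F)| = |Sp_{2m}(F)|` (helper14).
-/

namespace Cfsg.Agent.Lib.Helper14_SimCard

open Matrix Cfsg.Agent.Lib.Helper14_PSLCent Cfsg.Agent.Lib.Helper14_PGOTransport
  Cfsg.Agent.Lib.Helper14_Char2Groups Cfsg.Agent.Lib.Helper14_Char2Even Cfsg.Agent.Lib.Helper14_SimDet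

variable {F : Type*} [Field F] {ι : Type} [Fintype ι] [DecidableEq ι]

/-- A multiplier homomorphism from a functional multiplicative relation. -/
theorem exists_mult_hom (S O : Subgroup (GL ι F)) (P : GL ι F → Fˣ → Prop)
    (hS : ∀ g, g ∈ S ↔ ∃ c, P g c) (huniq : ∀ g c d, P g c → P g d → c = d)
    (hmul : ∀ g h c d, P g c → P h d → P (g * h) (c * d)) (hO : ∀ g, g ∈ O ↔ P g 1) :
    ∃ μ : ↥S →* Fˣ, μ.ker = O.subgroupOf S ∧ ∀ g : ↥S, P g (μ g) := by
  classical
  have hex : ∀ g : ↥S, ∃ c, P g c := fun g => (hS g).mp g.2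
  let m : ↥S → Fˣ := fun g => Classical.choose (hex g)
  have hm : ∀ g : ↥S, P g (m g) := fun g => Classical.choose_spec (hex g)
  refine ⟨MonoidHom.mk' m (fun a b => huniq _ _ _ (hm (a * b)) (hmul _ _ _ _ (hm a) (hm b))), ?_, hm⟩
  ext g
  rw [MonoidHom.mem_ker, Subgroup.mem_subgroupOf, hO]
  constructor
  · intro h
    have h1 := hm g
    rw [show m g = 1 from h] at h1
    exact h1
  · intro h
    exact huniq _ _ _ (hm g) h

theorem card_scalars [Fintype F] [Nonempty ι] : Nat.card ↥(Cfsg.Geo.scalars ι F) = Fintype.card F - 1 := by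
  unfold Cfsg.Geo.scalars
  have hinj : Function.Injective (Units.map (Matrix.scalar ι : F →+* Matrix ι ι F).toMonoidHom) := by
    apply Units.map_injective
    intro a b h
    exact Matrix.scalar_inj.mp h
  rw [← Nat.card_congr (MonoidHom.ofInjective hinj).toEquiv, Nat.card_units, Nat.card_eq_fintype_card]

/-- Order of a projective group through a multiplier homomorphism. -/
theorem card_projQuot_mul [Fintype F] [Nonempty ι] (S O : Subgroup (GL ι F)) (μ : ↥S →* Fˣ)
    (hker : μ.ker = O.subgroupOf S) (hOS : O ≤ S) (hZ : Cfsg.Geo.scalars ι F ≤ S) :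
    Nat.card (Cfsg.projQuot S) * (Fintype.card F - 1) = Nat.card ↥O * Nat.card ↥μ.range := by
  have h1 : Nat.card ↥S = Nat.card (Cfsg.projQuot S) * Nat.card ↥((Cfsg.Geo.scalars ι F).subgroupOf S) :=
    Subgroup.card_eq_card_quotient_mul_card_subgroup _
  have h2 : Nat.card ↥((Cfsg.Geo.scalars ι F).subgroupOf S) = Fintype.card F - 1 := by
    rw [Nat.card_congr (Subgroup.subgroupOfEquivOfLe hZ).toEquiv, card_scalars]
  have h3 : Nat.card ↥S = Nat.card ↥μ.ker * Nat.card ↥μ.range := by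
    rw [← Subgroup.index_ker, Subgroup.card_mul_index]
  have h4 : Nat.card ↥μ.ker = Nat.card ↥O := by
    rw [hker, Nat.card_congr (Subgroup.subgroupOfEquivOfLe hOS).toEquiv]
  rw [← h2, ← h1, h3, h4]

/-- The multiplier homomorphism of the similarity group of a non-zero bilinear form. -/
theorem exists_mult_hom_bil {M : Matrix ι ι F} (hM0 : M ≠ 0) :
    ∃ μ : ↥(Cfsg.Geo.similarityGroup (bilOf M)) →* Fˣ,
      μ.ker = (isoBil M).subgroupOf (Cfsg.Geo.similarityGroup (bilOf M)) ∧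
      ∀ g : ↥(Cfsg.Geo.similarityGroup (bilOf M)),
        ((g : GL ι F) : Matrix ι ι F)ᵀ * M * ((g : GL ι F) : Matrix ι ι F) = ((μ g : Fˣ) : F) • M := by
  apply exists_mult_hom (Cfsg.Geo.similarityGroup (bilOf M)) (isoBil M)
    (fun g c => (g : Matrix ι ι F)ᵀ * M * (g : Matrix ι ι F) = (c : F) • M)
  · intro g; exact mem_similarityGroup_bilOf M g
  · intro g c d hc hd
    have h1 : ((c : F) - (d : F)) • M = 0 := by rw [sub_smul, ← hc, ← hd, sub_self]
    rcases smul_eq_zero.mp h1 with h | h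
    · exact Units.ext (sub_eq_zero.mp h)
    · exact absurd h hM0
  · intro g h c d hc hd
    show ((g * h : GL ι F) : Matrix ι ι F)ᵀ * M * ((g * h : GL ι F) : Matrix ι ι F) = ((c * d : Fˣ) : F) • M
    rw [Units.val_mul, Units.val_mul, Matrix.transpose_mul]
    calc (h : Matrix ι ι F)ᵀ * (g : Matrix ι ι F)ᵀ * M * ((g : Matrix ι ι F) * (h : Matrix ι ι F))
        = (h : Matrix ι ι F)ᵀ * ((g : Matrix ι ι F)ᵀ * M * (g : Matrix ι ι F)) * (h : Matrix ι ι F) := by
          simp only [Matrix.mul_assoc]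
      _ = ((c : F) * (d : F)) • M := by
          rw [hc, Matrix.mul_smul, Matrix.smul_mul, hd, smul_smul]
  · intro g
    rw [mem_isoBil, Units.val_one, one_smul]

/-- The multiplier homomorphism of the similarity group of a non-zero quadratic function. -/
theorem exists_mult_hom_quad (Q : (ι → F) → F) (hne : ∃ v, Q v ≠ 0) :
    ∃ μ : ↥(Cfsg.Geo.quadSimilarityGroup Q) →* Fˣ,
      μ.ker = (Cfsg.isometryGroup F Q).subgroupOf (Cfsg.Geo.quadSimilarityGroup Q) := by
  obtain ⟨v₀, hv₀⟩ := hne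
  obtain ⟨μ, hμ, -⟩ := exists_mult_hom (Cfsg.Geo.quadSimilarityGroup Q) (Cfsg.isometryGroup F Q)
    (fun g c => ∀ v, Q ((g : Matrix ι ι F) *ᵥ v) = (c : F) * Q v)
    (fun g => Iff.rfl)
    (fun g c d hc hd => by
      have h1 : ((c : F) - (d : F)) * Q v₀ = 0 := by rw [sub_mul, ← hc, ← hd, sub_self]
      rcases mul_eq_zero.mp h1 with h | h
      · exact Units.ext (sub_eq_zero.mp h)
      · exact absurd h hv₀)
    (fun g h c d hc hd v => by
      rw [Units.val_mul, ← Matrix.mulVec_mulVec, hc, hd, Units.val_mul, mul_assoc])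
    (fun g => by
      rw [Cfsg.Agent.Lib.Helper44_Orth.mem_isometryGroup_iff]
      constructor
      · intro h v; rw [h v, Units.val_one, one_mul]
      · intro h v; rw [h v, Units.val_one, one_mul])
  exact ⟨μ, hμ⟩

/-- `|PGO(Q)| ≤ |O(Q)|`. -/
theorem card_pgo_le [Fintype F] [Nonempty ι] (Q : (ι → F) → F)
    (hQ : ∀ (a : F) (v : ι → F), Q (a • v) = a * a * Q v) (hne : ∃ v, Q v ≠ 0) :
    Nat.card (Cfsg.PGO F Q) ≤ Nat.card ↥(Cfsg.isometryGroup F Q) := by
  obtain ⟨μ, hμ⟩ := exists_mult_hom_quad Q hne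
  have hOS : Cfsg.isometryGroup F Q ≤ Cfsg.Geo.quadSimilarityGroup Q := by
    intro g hg
    rw [Cfsg.Agent.Lib.Helper44_Orth.mem_isometryGroup_iff] at hg
    exact ⟨1, fun v => by rw [hg v, Units.val_one, one_mul]⟩
  have hZ : Cfsg.Geo.scalars ι F ≤ Cfsg.Geo.quadSimilarityGroup Q := by
    intro g hg
    rw [Cfsg.Geo.mem_scalars_iff] at hg
    obtain ⟨c, hc⟩ := hg
    exact ⟨c * c, fun v => by rw [hc, Matrix.smul_mulVec, Matrix.one_mulVec, hQ, Units.val_mul]⟩
  have h1 := card_projQuot_mul _ _ μ hμ hOS hZ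
  have h2 : Nat.card ↥μ.range ≤ Fintype.card F - 1 := by
    rw [← Nat.card_eq_fintype_card, ← Nat.card_units]
    exact Subgroup.card_le_card_group _
  have hq : 0 < Fintype.card F - 1 := by
    have := Fintype.one_lt_card (α := F)
    omega
  have h3 : Nat.card (Cfsg.PGO F Q) * (Fintype.card F - 1)
      ≤ Nat.card ↥(Cfsg.isometryGroup F Q) * (Fintype.card F - 1) := by
    rw [h1]; exact Nat.mul_le_mul_left _ h2
  exact Nat.le_of_mul_le_mul_right h3 hq

/-- `|PGSp_{2m}(F)| = |Sp_{2m}(F)|`. -/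
theorem card_pgsp [Fintype F] {m : ℕ} (hm : 1 ≤ m) :
    Nat.card (Cfsg.PGSp m F) = Nat.card ↥(Matrix.symplecticGroup (Fin m) F) := by
  haveI : Nonempty (Fin m ⊕ Fin m) := ⟨Sum.inl ⟨0, hm⟩⟩
  have hJ0 : Matrix.J (Fin m) F ≠ 0 := by
    intro h
    have hd := (Matrix.isUnit_det_J (Fin m) F).ne_zero
    rw [h, Matrix.det_zero] at hd
    exact hd rfl
  obtain ⟨μ, hμ, hspec⟩ := exists_mult_hom_bil hJ0
  have hOS : isoBil (Matrix.J (Fin m) F) ≤ Cfsg.Geo.similarityGroup (bilOf (Matrix.J (Fin m) F)) := by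
    intro g hg
    rw [mem_similarityGroup_bilOf]
    exact ⟨1, by rw [Units.val_one, one_smul]; exact hg⟩
  have hZ : Cfsg.Geo.scalars (Fin m ⊕ Fin m) F ≤ Cfsg.Geo.similarityGroup (bilOf (Matrix.J (Fin m) F)) := by
    intro g hg
    rw [Cfsg.Geo.mem_scalars_iff] at hg
    obtain ⟨c, hc⟩ := hg
    rw [mem_similarityGroup_bilOf]
    refine ⟨c * c, ?_⟩
    rw [hc, Matrix.transpose_smul, Matrix.transpose_one, Matrix.smul_mul, Matrix.smul_mul, Matrix.mul_smul,
      Matrix.one_mul, Matrix.mul_one, smul_smul, Units.val_mul]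
  have h1 := card_projQuot_mul _ _ μ hμ hOS hZ
  have hsurj : μ.range = ⊤ := by
    rw [eq_top_iff]
    intro c _
    have hdet : (dC (m := m) (c : F)).det ≠ 0 := by rw [det_dC]; exact pow_ne_zero _ c.ne_zero
    have hmem : Matrix.GeneralLinearGroup.mkOfDetNeZero (dC (m := m) (c : F)) hdet ∈
        Cfsg.Geo.similarityGroup (bilOf (Matrix.J (Fin m) F)) := by
      rw [mem_similarityGroup_bilOf]
      exact ⟨c, dC_J (c : F)⟩
    refine ⟨⟨_, hmem⟩, ?_⟩
    have h2 := hspec ⟨_, hmem⟩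
    have h3 : ((Matrix.GeneralLinearGroup.mkOfDetNeZero (dC (m := m) (c : F)) hdet : GL (Fin m ⊕ Fin m) F) :
        Matrix (Fin m ⊕ Fin m) (Fin m ⊕ Fin m) F) = dC (c : F) := rfl
    rw [h3, dC_J] at h2
    have h4 : ((c : F) - ((μ ⟨_, hmem⟩ : Fˣ) : F)) • Matrix.J (Fin m) F = 0 := by
      rw [sub_smul, h2, sub_self]
    rcases smul_eq_zero.mp h4 with h | h
    · exact (Units.ext (sub_eq_zero.mp h)).symm
    · exact absurd h hJ0
  obtain ⟨e⟩ := nonempty_sp_equiv_isoBil_J (F := F) (m := m)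
  have hq : 0 < Fintype.card F - 1 := by
    have := Fintype.one_lt_card (α := F)
    omega
  rw [hsurj, Nat.card_congr Subgroup.topEquiv.toEquiv, Nat.card_units, Nat.card_eq_fintype_card (α := F),
    ← Nat.card_congr e.toEquiv] at h1
  exact Nat.eq_of_mul_eq_mul_right hq h1

end Cfsg.Agent.Lib.Helper14_SimCard
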