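import Mathlib
import Cfsg.Prelude.Def_Classical
import Cfsg.Agent.Lib.Helper5_OrthOrder

set_option autoImplicit false
set_option linter.unusedSectionVars false

namespace Cfsg.Agent.Lib.Helper5_OMinus2

open Matrix Cfsg Cfsg.Agent.Lib.Helper5_OrthOrder

variable {F : Type*} [Field F]

/-- binary form `z₀² + a z₀ z₁ + b z₁²` on `Fin 2 → F` -/
def R2 (a b : F) (z : Fin 2 → F) : F := z 0 ^ 2 + a * z 0 * z 1 + b * z 1 ^ 2

/-- the hypothesis: anisotropic -/
def Aniso (a b : F) : Prop := ∀ z₁ z₂ : F, z₁ ^ 2 + a * z₁ * z₂ + b * z₂ ^ 2 = 0 → z₁ = 0 ∧ z₂ = 0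

lemma den_ne_zero {a b : F} (hab : Aniso a b) (s : F) : s ^ 2 + a * s + b ≠ 0 := by
  intro h
  have := (hab s 1 (by linear_combination h)).2
  exact one_ne_zero this

/-- the parameter of the second intersection point -/
noncomputable def lam (a b s : F) : F := -(2 * s + a) / (s ^ 2 + a * s + b)

lemma R2_param {a b : F} (hab : Aniso a b) (s : F) :
    R2 a b ![1 + lam a b s * s, lam a b s] = 1 := by
  have hD := den_ne_zero hab s
  have key : ∀ D : F, D ≠ 0 → D = s ^ 2 + a * s + b →
      (1 + -(2 * s + a) / D * s) ^ 2 + a * (1 + -(2 * s + a) / D * s) * (-(2 * s + a) / D)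
        + b * (-(2 * s + a) / D) ^ 2 = 1 := by
    intro D hD0 hDe
    field_simp
    rw [hDe]
    ring
  simp only [R2, lam, Matrix.cons_val_zero, Matrix.cons_val_one]
  exact key _ hD rfl

/-- the rational parametrisation of the conic `R2 = 1` -/
noncomputable def param {a b : F} (hab : Aniso a b) : Option F → {z : Fin 2 → F // R2 a b z = 1}
  | none => ⟨![-1, 0], by simp [R2]⟩
  | some s => ⟨![1 + lam a b s * s, lam a b s], R2_param hab s⟩

lemma not_two_and_a {a b : F} (hd : 4 * b - a ^ 2 ≠ 0) (h2 : (2 : F) = 0) (ha : a = 0) : False := by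
  apply hd
  have h4 : (4 : F) = 2 * 2 := by norm_num
  rw [h4, h2, ha]; ring

lemma lam_eq_zero_iff {a b : F} (hab : Aniso a b) (s : F) : lam a b s = 0 ↔ 2 * s + a = 0 := by
  have hD := den_ne_zero hab s
  unfold lam
  rw [div_eq_zero_iff, neg_eq_zero]
  simp [hD]

theorem param_bijective {a b : F} (hab : Aniso a b) (hd : 4 * b - a ^ 2 ≠ 0) :
    Function.Bijective (param hab) := by
  constructor
  · intro x y hxy
    have key : ∀ s : F, param hab none ≠ param hab (some s) := by
      intro s h
      have h0 := congrFun (congrArg Subtype.val h) 0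
      have h1 := congrFun (congrArg Subtype.val h) 1
      simp only [param, Matrix.cons_val_zero, Matrix.cons_val_one] at h0 h1
      rw [← h1] at h0
      have h2 : (2 : F) = 0 := by linear_combination -h0
      have ha : a = 0 := by
        have := (lam_eq_zero_iff hab s).mp h1.symm
        rw [h2, zero_mul, zero_add] at this
        exact this
      exact not_two_and_a hd h2 ha
    rcases x with _ | s <;> rcases y with _ | s'
    · rfl
    · exact absurd hxy (key s')
    · exact absurd hxy.symm (key s)
    · have h0 := congrFun (congrArg Subtype.val hxy) 0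
      have h1 := congrFun (congrArg Subtype.val hxy) 1
      simp only [param, Matrix.cons_val_zero, Matrix.cons_val_one] at h0 h1
      by_cases hl : lam a b s = 0
      · have hl' : lam a b s' = 0 := by rw [← h1]; exact hl
        have e1 := (lam_eq_zero_iff hab s).mp hl
        have e2 := (lam_eq_zero_iff hab s').mp hl'
        by_cases hss : s = s'
        · rw [hss]
        · exfalso
          have h2 : (2 : F) = 0 := by
            have : 2 * (s - s') = 0 := by linear_combination e1 - e2
            rcases mul_eq_zero.mp this with h | h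
            · exact h
            · exact absurd (sub_eq_zero.mp h) hss
          have ha : a = 0 := by rw [h2, zero_mul, zero_add] at e1; exact e1
          exact not_two_and_a hd h2 ha
      · have : lam a b s * s = lam a b s * s' := by
          rw [← h1] at h0
          linear_combination h0
        rw [mul_left_cancel₀ hl this]
  · rintro ⟨z, hz⟩
    by_cases hy : z 1 = 0
    · have hx : z 0 ^ 2 = 1 := by
        simp only [R2, hy] at hz
        linear_combination hz
      have hx' : (z 0 - 1) * (z 0 + 1) = 0 := by linear_combination hx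
      rcases mul_eq_zero.mp hx' with h | h
      · by_cases h2 : (2 : F) = 0
        · refine ⟨none, ?_⟩
          apply Subtype.ext
          ext i
          fin_cases i
          · simp only [param, Matrix.cons_val_zero]
            show (-1 : F) = z 0
            linear_combination -h - h2
          · simp only [param, Matrix.cons_val_one]
            exact hy.symm
        · refine ⟨some (-a / 2), ?_⟩
          have hl : lam a b (-a / 2) = 0 := by
            rw [lam_eq_zero_iff hab]
            field_simp
            ring
          apply Subtype.ext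
          ext i
          fin_cases i
          · simp only [param, hl]
            show 1 + 0 * (-a / 2) = z 0
            linear_combination -h
          · simp only [param, hl]
            exact hy.symm
      · refine ⟨none, ?_⟩
        apply Subtype.ext
        ext i
        fin_cases i
        · simp only [param, Matrix.cons_val_zero]
          show (-1 : F) = z 0
          linear_combination -h
        · simp only [param, Matrix.cons_val_one]
          exact hy.symm
    · set s := (z 0 - 1) / z 1 with hs
      have hx : z 0 = 1 + s * z 1 := by rw [hs]; field_simp; ring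
      have hD := den_ne_zero hab s
      have hrel : 2 * s + a = - z 1 * (s ^ 2 + a * s + b) := by
        have h1 : z 1 * ((2 * s + a) + z 1 * (s ^ 2 + a * s + b)) = 0 := by
          simp only [R2] at hz
          rw [hx] at hz
          linear_combination hz
        rcases mul_eq_zero.mp h1 with h | h
        · exact absurd h hy
        · linear_combination h
      have hl : lam a b s = z 1 := by
        unfold lam
        rw [hrel, neg_mul, neg_neg, mul_div_assoc, div_self hD, mul_one]
      refine ⟨some s, ?_⟩
      apply Subtype.ext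
      ext i
      fin_cases i
      · simp only [param, hl]
        show 1 + z 1 * s = z 0
        rw [hx]; ring
      · simp only [param, hl]
        rfl

theorem card_S1 [Fintype F] {a b : F} (hab : Aniso a b) (hd : 4 * b - a ^ 2 ≠ 0) :
    Nat.card {z : Fin 2 → F // R2 a b z = 1} = Fintype.card F + 1 := by
  rw [← Nat.card_congr (Equiv.ofBijective _ (param_bijective hab hd)), Nat.card_eq_fintype_card,
    Fintype.card_option]

/-! ### The isometry group of the binary form -/

/-- multiplication matrix -/
def Mv (a b : F) (v : Fin 2 → F) : Matrix (Fin 2) (Fin 2) F :=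
  !![v 0, -b * v 1; v 1, v 0 + a * v 1]

lemma Mv_mulVec (a b : F) (v z : Fin 2 → F) :
    Mv a b v *ᵥ z = ![v 0 * z 0 + -b * v 1 * z 1, v 1 * z 0 + (v 0 + a * v 1) * z 1] := by
  ext i
  fin_cases i <;> simp [Mv, Matrix.mulVec, dotProduct, Fin.sum_univ_two]

lemma R2_Mv (a b : F) (v z : Fin 2 → F) : R2 a b (Mv a b v *ᵥ z) = R2 a b v * R2 a b z := by
  rw [Mv_mulVec]
  simp only [R2, Matrix.cons_val_zero, Matrix.cons_val_one]
  ring

lemma det_Mv (a b : F) (v : Fin 2 → F) : (Mv a b v).det = R2 a b v := by
  rw [Mv, Matrix.det_fin_two_of, R2]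
  ring

lemma Mv_e1 (a b : F) (v : Fin 2 → F) : Mv a b v *ᵥ ![1, 0] = v := by
  rw [Mv_mulVec]
  ext i
  fin_cases i <;> simp

/-- the conjugation matrix -/
def Cm (a : F) : Matrix (Fin 2) (Fin 2) F := !![1, a; 0, -1]

lemma Cm_mulVec (a : F) (z : Fin 2 → F) : Cm a *ᵥ z = ![z 0 + a * z 1, - z 1] := by
  ext i
  fin_cases i <;> simp [Cm, Matrix.mulVec, dotProduct, Fin.sum_univ_two]

lemma R2_Cm (a b : F) (z : Fin 2 → F) : R2 a b (Cm a *ᵥ z) = R2 a b z := by
  rw [Cm_mulVec]
  simp only [R2, Matrix.cons_val_zero, Matrix.cons_val_one]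
  ring

lemma det_Cm (a : F) : (Cm a).det = -1 := by
  rw [Cm, Matrix.det_fin_two_of]
  ring

/-- the vectors of norm one -/
abbrev S1 (a b : F) : Type _ := {z : Fin 2 → F // R2 a b z = 1}

instance (a b : F) : MulAction (isometryGroup F (R2 a b)) (S1 a b) where
  smul g z := ⟨(g.1 : Matrix (Fin 2) (Fin 2) F) *ᵥ z.1, by
    rw [(mem_iso _ g.1).mp g.2]; exact z.2⟩
  one_smul z := by
    apply Subtype.ext
    show ((1 : isometryGroup F (R2 a b)).1 : Matrix (Fin 2) (Fin 2) F) *ᵥ z.1 = z.1
    simp
  mul_smul g h z := by
    apply Subtype.ext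
    show ((g * h).1 : Matrix (Fin 2) (Fin 2) F) *ᵥ z.1
      = (g.1 : Matrix (Fin 2) (Fin 2) F) *ᵥ ((h.1 : Matrix (Fin 2) (Fin 2) F) *ᵥ z.1)
    rw [Matrix.mulVec_mulVec]
    rfl

lemma smul_S1_val (a b : F) (g : isometryGroup F (R2 a b)) (z : S1 a b) :
    (g • z).1 = (g.1 : Matrix (Fin 2) (Fin 2) F) *ᵥ z.1 := rfl

/-- the base point `(1, 0)` -/
def pt (a b : F) : S1 a b := ⟨![1, 0], by simp [R2]⟩

instance (a b : F) : MulAction.IsPretransitive (isometryGroup F (R2 a b)) (S1 a b) := by
  rw [MulAction.isPretransitive_iff_base (pt a b)]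
  intro z
  have hdet : IsUnit (Mv a b z.1).det := by
    rw [det_Mv, z.2]; exact isUnit_one
  refine ⟨⟨Matrix.GeneralLinearGroup.mk'' (Mv a b z.1) hdet, ?_⟩, ?_⟩
  · rw [mem_iso]
    intro v
    show R2 a b (Mv a b z.1 *ᵥ v) = R2 a b v
    rw [R2_Mv, z.2, one_mul]
  · apply Subtype.ext
    rw [smul_S1_val]
    show Mv a b z.1 *ᵥ ![1, 0] = z.1
    exact Mv_e1 a b z.1

lemma Cm_mem (a b : F) :
    Matrix.GeneralLinearGroup.mk'' (Cm a) (by rw [det_Cm]; exact isUnit_one.neg) ∈ isometryGroup F (R2 a b) := by
  rw [mem_iso]
  intro v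
  exact R2_Cm a b v

/-- the conjugation as an element of the stabiliser of `(1, 0)` -/
noncomputable def Cst (a b : F) : MulAction.stabilizer (isometryGroup F (R2 a b)) (pt a b) :=
  ⟨⟨Matrix.GeneralLinearGroup.mk'' (Cm a) (by rw [det_Cm]; exact isUnit_one.neg), Cm_mem a b⟩, by
    rw [MulAction.mem_stabilizer_iff]
    apply Subtype.ext
    rw [smul_S1_val]
    show Cm a *ᵥ ![1, 0] = ![1, 0]
    rw [Cm_mulVec]
    simp⟩

lemma Cst_coe (a b : F) : ((Cst a b).1.1 : Matrix (Fin 2) (Fin 2) F) = Cm a := rfl

theorem card_stabilizer (a b : F) (hd : 4 * b - a ^ 2 ≠ 0) :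
    Nat.card (MulAction.stabilizer (isometryGroup F (R2 a b)) (pt a b)) = 2 := by
  rw [Nat.card_eq_two_iff]
  refine ⟨1, Cst a b, ?_, ?_⟩
  · intro h
    have hM : (1 : Matrix (Fin 2) (Fin 2) F) = Cm a := by
      rw [← Cst_coe a b, ← h]; rfl
    have h01 := congrFun (congrFun hM 0) 1
    have h11 := congrFun (congrFun hM 1) 1
    simp [Cm] at h01 h11
    apply not_two_and_a hd _ h01.symm
    linear_combination h11
  · rw [Set.eq_univ_iff_forall]
    intro g
    set M : Matrix (Fin 2) (Fin 2) F := (g.1.1 : Matrix (Fin 2) (Fin 2) F) with hM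
    have hiso : ∀ z, R2 a b (M *ᵥ z) = R2 a b z := (mem_iso _ g.1.1).mp g.1.2
    have hfix : M *ᵥ ![1, 0] = ![1, 0] := by
      have := congrArg Subtype.val (MulAction.mem_stabilizer_iff.mp g.2)
      rw [smul_S1_val] at this
      exact this
    have hmv : ∀ z : Fin 2 → F, M *ᵥ z = ![M 0 0 * z 0 + M 0 1 * z 1, M 1 0 * z 0 + M 1 1 * z 1] := by
      intro z
      ext i
      fin_cases i <;> simp [Matrix.mulVec, dotProduct, Fin.sum_univ_two]
    have h00 : M 0 0 = 1 := by
      have := congrFun hfix 0
      rw [hmv] at this
      simpa using this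
    have h10 : M 1 0 = 0 := by
      have := congrFun hfix 1
      rw [hmv] at this
      simpa using this
    have E1 : M 0 1 ^ 2 + a * M 0 1 * M 1 1 + b * M 1 1 ^ 2 = b := by
      have := hiso ![0, 1]
      rw [hmv] at this
      simpa [R2] using this
    have E2 : 2 * M 0 1 + a * M 1 1 = a := by
      have := hiso ![1, 1]
      rw [hmv] at this
      simp only [R2, Matrix.cons_val_zero, Matrix.cons_val_one, h00, h10] at this
      linear_combination this - E1
    have hone : M 0 1 = 0 → M 1 1 = 1 → g ∈ ({1, Cst a b} : Set _) := by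
      intro h01 h11
      left
      apply Subtype.ext
      apply Subtype.ext
      apply Units.ext
      show M = 1
      rw [Matrix.eta_fin_two M, h00, h10, h01, h11]
      exact Matrix.one_fin_two.symm
    have hC : M 0 1 = a → M 1 1 = -1 → g ∈ ({1, Cst a b} : Set _) := by
      intro h01 h11
      right
      show g = Cst a b
      apply Subtype.ext
      apply Subtype.ext
      apply Units.ext
      show M = Cm a
      rw [Matrix.eta_fin_two M, h00, h10, h01, h11]
      rfl
    by_cases h2 : (2 : F) = 0
    · have ha : a ≠ 0 := fun ha => not_two_and_a hd h2 ha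
      have h11 : M 1 1 = 1 := by
        have : a * (M 1 1 - 1) = 0 := by linear_combination E2 - M 0 1 * h2
        rcases mul_eq_zero.mp this with h | h
        · exact absurd h ha
        · linear_combination h
      have : M 0 1 * (M 0 1 + a) = 0 := by
        rw [h11] at E1
        linear_combination E1
      rcases mul_eq_zero.mp this with h | h
      · exact hone h h11
      · apply hC
        · linear_combination h - a * h2
        · rw [h11]; linear_combination h2
    · have hprod : (1 - M 1 1) * (1 + M 1 1) * (4 * b - a ^ 2) = 0 := by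
        linear_combination (2 * M 0 1 + a * M 1 1 + a) * E2 - 4 * E1
      rcases mul_eq_zero.mp hprod with h | h
      · rcases mul_eq_zero.mp h with h | h
        · have h11 : M 1 1 = 1 := by linear_combination -h
          apply hone _ h11
          have : 2 * M 0 1 = 0 := by rw [h11] at E2; linear_combination E2
          rcases mul_eq_zero.mp this with h | h
          · exact absurd h h2
          · exact h
        · have h11 : M 1 1 = -1 := by linear_combination h
          apply hC _ h11
          have : 2 * (M 0 1 - a) = 0 := by rw [h11] at E2; linear_combination E2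
          rcases mul_eq_zero.mp this with h | h
          · exact absurd h h2
          · linear_combination h
      · exact absurd h hd

/-- `|O₂⁻(q)| = 2 (q + 1)` -/
theorem card_isometryGroup_R2 [Fintype F] {a b : F} (hab : Aniso a b) (hd : 4 * b - a ^ 2 ≠ 0) :
    Nat.card (isometryGroup F (R2 a b)) = 2 * (Fintype.card F + 1) := by
  have h1 := Subgroup.card_mul_index (MulAction.stabilizer (isometryGroup F (R2 a b)) (pt a b))
  rw [MulAction.index_stabilizer_of_transitive, card_stabilizer a b hd, card_S1 hab hd] at h1
  exact h1.symm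

end Cfsg.Agent.Lib.Helper5_OMinus2
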