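import Mathlib
import Cfsg.Agent.Lib.Helper14_PSLSplit
import Cfsg.Agent.Lib.Helper14_SimDet
import Cfsg.Agent.Lib.Helper14_SimCard
import Cfsg.Agent.Lib.Helper14_SymForms
import Cfsg.Agent.Lib.Helper5_SpOrder
import Cfsg.Agent.S0287
import Cfsg.Agent.S0288

set_option autoImplicit false
set_option linter.unusedSectionVars false

/-!
Splitting of the `Inndiag(PSL_n)`-class of an involutory graph automorphism into `PSL_n`-classes
(helper14).
-/

namespace Cfsg.Agent.Lib.Helper14_PSLSplitGraph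

open Matrix Cfsg.Agent.Lib.Helper14_PSLAut Cfsg.Agent.Lib.Helper14_PSLCent
  Cfsg.Agent.Lib.Helper14_PGOTransport Cfsg.Agent.Lib.Helper14_SymForms
  Cfsg.Agent.Lib.Helper44_StdForms
  Cfsg.Agent.Lib.Helper14_Congruence Cfsg.Agent.Lib.Helper14_PSLGraph Cfsg.Agent.Lib.Helper14_PSLGraphOdd
  Cfsg.Agent.Lib.Helper14_PSLSplit Cfsg.Agent.Lib.Helper14_SimDet Cfsg.Agent.Lib.Helper14_SimCard

variable {F : Type*} [Field F] [Fintype F] {n : ℕ}

local notation "Mn" => Matrix (Fin n) (Fin n) F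
local notation "PSLn" => Matrix.ProjectiveSpecialLinearGroup (Fin n) F

section cyclic

theorem index_pow_range (d : ℕ) :
    (powMonoidHom d : Fˣ →* Fˣ).range.index = Nat.gcd d (Fintype.card F - 1) := by
  rw [IsCyclic.index_powMonoidHom_range, Nat.card_units, Nat.card_eq_fintype_card, Nat.gcd_comm]

theorem index_comap_sq {m : ℕ} (hnm : n = 2 * m) (hodd : Odd (Fintype.card F)) :
    ((powMonoidHom n : Fˣ →* Fˣ).range.comap (powMonoidHom 2 : Fˣ →* Fˣ)).index
      = Nat.gcd n (Fintype.card F - 1) / 2 := by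
  have hle : (powMonoidHom n : Fˣ →* Fˣ).range ≤ (powMonoidHom 2 : Fˣ →* Fˣ).range := by
    rintro _ ⟨x, rfl⟩
    refine ⟨x ^ m, ?_⟩
    simp only [powMonoidHom_apply]
    rw [← pow_mul, hnm, mul_comm]
  have h1 := Subgroup.relIndex_mul_index hle
  rw [index_pow_range, index_pow_range] at h1
  have h2 : Nat.gcd 2 (Fintype.card F - 1) = 2 := by
    apply Nat.gcd_eq_left
    obtain ⟨k, hk⟩ := hodd
    exact ⟨k, by omega⟩
  rw [h2] at h1
  rw [Subgroup.index_comap, ← h1, Nat.mul_div_cancel _ (by norm_num : 0 < 2)]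

end cyclic

section count

theorem comap_centralizer_gam (M : GL (Fin n) F) :
    (Subgroup.centralizer {gam M}).comap (conjAut (n := n) (F := F))
      = Cfsg.Geo.similarityGroup (bilOf ((M : GL (Fin n) F) : Mn)) := by
  ext g
  rw [Subgroup.mem_comap]
  unfold gam graphAut
  rw [mem_centralizer_iff_sim, inv_inv]

theorem count_eq (hn : 0 < n) (M : GL (Fin n) F) :
    Cfsg.splitClassCount (Cfsg.inndiagPSL n F) (Cfsg.Inn PSLn) (gam M) =
      ((powMonoidHom n : Fˣ →* Fˣ).range ⊔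
        (Cfsg.Geo.similarityGroup (bilOf ((M : GL (Fin n) F) : Mn))).map
          Matrix.GeneralLinearGroup.det).index := by
  rw [splitClassCount_eq hn, comap_centralizer_gam]

theorem det_ne_zero_of_GL (M : GL (Fin n) F) : ((M : GL (Fin n) F) : Mn).det ≠ 0 := by
  have : IsUnit ((M : GL (Fin n) F) : Mn).det := (Matrix.isUnit_iff_isUnit_det _).mp M.isUnit
  exact this.ne_zero

/-- If all similarities have determinant an `n`-th power, the class splits into `gcd(n, q-1)` classes. -/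
theorem count_of_pow (hn : 0 < n) (M : GL (Fin n) F)
    (h : ∀ g ∈ Cfsg.Geo.similarityGroup (bilOf ((M : GL (Fin n) F) : Mn)),
      ∃ y : Fˣ, (y : F) ^ n = ((g : GL (Fin n) F) : Mn).det) :
    Cfsg.splitClassCount (Cfsg.inndiagPSL n F) (Cfsg.Inn PSLn) (gam M)
      = Nat.gcd n (Fintype.card F - 1) := by
  rw [count_eq hn, sup_of_le_left, index_pow_range]
  rintro _ ⟨g, hg, rfl⟩
  obtain ⟨y, hy⟩ := h g hg
  refine ⟨y, ?_⟩
  apply Units.ext
  rw [powMonoidHom_apply, Units.val_pow_eq_pow_val, Matrix.GeneralLinearGroup.val_det_apply]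
  exact hy

/-- Alternating type: `gcd(n/2, q-1)` classes. -/
theorem count_alt {m : ℕ} (hnm : n = 2 * m) (hn : 0 < n) (M : GL (Fin n) F)
    (hM : ∀ v, bilOf ((M : GL (Fin n) F) : Mn) v v = 0) :
    Cfsg.splitClassCount (Cfsg.inndiagPSL n F) (Cfsg.Inn PSLn) (gam M)
      = Nat.gcd m (Fintype.card F - 1) := by
  have hd := det_ne_zero_of_GL M
  rw [count_eq hn, ← index_pow_range m]
  congr 1
  apply le_antisymm
  · apply sup_le
    · rintro _ ⟨x, rfl⟩
      refine ⟨x ^ 2, ?_⟩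
      simp only [powMonoidHom_apply]
      rw [← pow_mul, hnm]
    · rintro _ ⟨g, hg, rfl⟩
      obtain ⟨c, hc⟩ := (mem_similarityGroup_bilOf _ _).mp hg
      refine ⟨c, ?_⟩
      apply Units.ext
      rw [powMonoidHom_apply, Units.val_pow_eq_pow_val, Matrix.GeneralLinearGroup.val_det_apply]
      exact (det_of_sim_alt hnm hM hd c.ne_zero hc).symm
  · rintro _ ⟨c, rfl⟩
    apply Subgroup.mem_sup_right
    obtain ⟨k, hk⟩ := exists_sim_alt hnm hM hd c.ne_zero
    refine ⟨k, (mem_similarityGroup_bilOf _ _).mpr ⟨c, hk⟩, ?_⟩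
    apply Units.ext
    rw [powMonoidHom_apply, Units.val_pow_eq_pow_val, Matrix.GeneralLinearGroup.val_det_apply]
    exact det_of_sim_alt hnm hM hd c.ne_zero hk

/-- Symmetric type in even dimension and odd characteristic: `gcd(n, q-1)/2` classes. -/
theorem count_sym {m : ℕ} (hnm : n = 2 * m) (hn : 0 < n) (h2 : (2 : F) ≠ 0)
    (hodd : Odd (Fintype.card F)) (M : GL (Fin n) F)
    (hM : ((M : GL (Fin n) F) : Mn)ᵀ = ((M : GL (Fin n) F) : Mn)) :
    Cfsg.splitClassCount (Cfsg.inndiagPSL n F) (Cfsg.Inn PSLn) (gam M)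
      = Nat.gcd n (Fintype.card F - 1) / 2 := by
  have hd := det_ne_zero_of_GL M
  rw [count_eq hn, ← index_comap_sq hnm hodd]
  congr 1
  apply le_antisymm
  · apply sup_le
    · rintro _ ⟨x, rfl⟩
      rw [Subgroup.mem_comap]
      refine ⟨x ^ 2, ?_⟩
      simp only [powMonoidHom_apply]
      rw [← pow_mul, ← pow_mul, mul_comm]
    · rintro _ ⟨g, hg, rfl⟩
      obtain ⟨c, hc⟩ := (mem_similarityGroup_bilOf _ _).mp hg
      rw [Subgroup.mem_comap]
      refine ⟨c, ?_⟩
      apply Units.ext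
      rw [powMonoidHom_apply, powMonoidHom_apply, Units.val_pow_eq_pow_val, Units.val_pow_eq_pow_val,
        Matrix.GeneralLinearGroup.val_det_apply]
      exact (det_sq_of_sim hd hc).symm
  · intro x hx
    rw [Subgroup.mem_comap] at hx
    obtain ⟨y, hy⟩ := hx
    have hy' : (y : F) ^ n = (x : F) ^ 2 := by
      have := congrArg (fun u : Fˣ => (u : F)) hy
      simpa only [powMonoidHom_apply, Units.val_pow_eq_pow_val] using this
    obtain ⟨k, hk⟩ := exists_sim_sym h2 hnm hM hd y.ne_zero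
    have h3 := det_sq_of_sim hd hk
    obtain ⟨R, hR, hRdet⟩ := exists_iso_det_neg_one h2 hn hM hd
    apply Subgroup.mem_sup_right
    have h4 : ((x : F) - ((k : GL (Fin n) F) : Mn).det) * ((x : F) + ((k : GL (Fin n) F) : Mn).det) = 0 := by
      linear_combination (-1 : F) * hy' - h3
    have hkmem : k ∈ Cfsg.Geo.similarityGroup (bilOf ((M : GL (Fin n) F) : Mn)) :=
      (mem_similarityGroup_bilOf _ _).mpr ⟨y, hk⟩
    have hRmem : R ∈ Cfsg.Geo.similarityGroup (bilOf ((M : GL (Fin n) F) : Mn)) :=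
      (mem_similarityGroup_bilOf _ _).mpr ⟨1, by rw [hR, Units.val_one, one_smul]⟩
    rcases mul_eq_zero.mp h4 with h | h
    · refine ⟨k, hkmem, ?_⟩
      apply Units.ext
      rw [Matrix.GeneralLinearGroup.val_det_apply]
      linear_combination (-1 : F) * h
    · refine ⟨R * k, Subgroup.mul_mem _ hRmem hkmem, ?_⟩
      apply Units.ext
      rw [Matrix.GeneralLinearGroup.val_det_apply, Units.val_mul, Matrix.det_mul, hRdet]
      linear_combination (-1 : F) * h

end count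

section order

theorem order_lt {q m : ℕ} (hq : 3 ≤ q) (hm : 2 ≤ m) :
    2 * q ^ (m * (m - 1)) * (q ^ m + 1) * ∏ i ∈ Finset.range (m - 1), (q ^ (2 * (i + 1)) - 1)
      < q ^ (m ^ 2) * ∏ i ∈ Finset.range m, (q ^ (2 * (i + 1)) - 1) := by
  obtain ⟨k, rfl⟩ : ∃ k, m = k + 1 := ⟨m - 1, by omega⟩
  rw [Finset.prod_range_succ, Nat.add_sub_cancel]
  set Pr := ∏ i ∈ Finset.range k, (q ^ (2 * (i + 1)) - 1) with hPr
  have hPrpos : 0 < Pr := by
    apply Finset.prod_pos
    intro i _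
    have : 1 < q ^ (2 * (i + 1)) := Nat.one_lt_pow (by omega) (by omega)
    omega
  set T := q ^ (k + 1) with hT
  have hT9 : 9 ≤ T := by
    calc 9 ≤ q ^ 2 := by nlinarith
      _ ≤ q ^ (k + 1) := Nat.pow_le_pow_right (by omega) (by omega)
  have hTT : q ^ (2 * (k + 1)) = T * T := by rw [hT, ← pow_add]; congr 1; ring
  have hA : q ^ ((k + 1) ^ 2) = q ^ ((k + 1) * k) * T := by rw [hT, ← pow_add]; congr 1; ring
  rw [hTT, hA]
  set A := q ^ ((k + 1) * k) with hAdef
  have hApos : 0 < A := Nat.pos_of_ne_zero (pow_ne_zero _ (by omega))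
  have hU : 9 * (T + 1) ≤ T * (T * T - 1) := by
    have h1 : T + 1 ≤ T * T - 1 := by
      have : T + 2 ≤ T * T := by nlinarith
      omega
    calc 9 * (T + 1) ≤ T * (T + 1) := Nat.mul_le_mul_right _ hT9
      _ ≤ T * (T * T - 1) := Nat.mul_le_mul_left _ h1
  calc 2 * A * (T + 1) * Pr = (A * Pr) * (2 * (T + 1)) := by ring
    _ < (A * Pr) * (T * (T * T - 1)) := by
        apply Nat.mul_lt_mul_of_pos_left _ (Nat.mul_pos hApos hPrpos)
        omega
    _ = A * T * (Pr * (T * T - 1)) := by ring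

end order

section iso

/-- Alternating type: the centralizer is `PGSp`. -/
theorem nonempty_cent_pgsp {m : ℕ} (hnm : n = 2 * m) (M : GL (Fin n) F)
    (hM : ∀ v, bilOf ((M : GL (Fin n) F) : Mn) v v = 0) :
    Nonempty (↥(Cfsg.inndiagPSL n F ⊓ Subgroup.centralizer {gam M}) ≃* Cfsg.PGSp m F) := by
  obtain ⟨e0⟩ := nonempty_centEquiv M
  obtain ⟨P, P', h1, h1', hP⟩ := exists_std_alt hnm hM (det_ne_zero_of_GL M)
  exact ⟨e0.trans (pgsCongr _ _ P P' h1 h1' hP)⟩

theorem quadFormPlus_smul (m : ℕ) (a : F) (v : Fin m ⊕ Fin m → F) :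
    Cfsg.quadFormPlus m F (a • v) = a * a * Cfsg.quadFormPlus m F v := by
  rw [← coe_qfPlus, QuadraticMap.map_smul, smul_eq_mul]

theorem quadFormPlus_ne_zero {m : ℕ} (hm : 1 ≤ m) : ∃ v, Cfsg.quadFormPlus m F v ≠ 0 := by
  refine ⟨Pi.single (Sum.inl ⟨0, by omega⟩) 1 + Pi.single (Sum.inr ⟨0, by omega⟩) 1, ?_⟩
  unfold Cfsg.quadFormPlus
  rw [Finset.sum_eq_single ⟨0, by omega⟩]
  · simp
  · intro i _ hi
    simp [hi]
  · simp

theorem quadFormMinus_smul (m : ℕ) (a₁ b₁ a : F) (v : (Fin m ⊕ Fin m) ⊕ Fin 2 → F) :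
    Cfsg.quadFormMinus m F a₁ b₁ (a • v) = a * a * Cfsg.quadFormMinus m F a₁ b₁ v := by
  rw [← coe_qfMinus, QuadraticMap.map_smul, smul_eq_mul]

/-- Symmetric type (even dimension at least four, odd characteristic): the centralizer is not `PGSp`. -/
theorem not_nonempty_cent_pgsp_of_sym {m : ℕ} (hnm : n = 2 * m) (hm : 2 ≤ m) (h2 : (2 : F) ≠ 0)
    (hodd : Odd (Fintype.card F)) (M : GL (Fin n) F)
    (hM : ((M : GL (Fin n) F) : Mn)ᵀ = ((M : GL (Fin n) F) : Mn)) :
    ¬ Nonempty (↥(Cfsg.inndiagPSL n F ⊓ Subgroup.centralizer {gam M}) ≃* Cfsg.PGSp m F) := by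
  rintro ⟨e⟩
  have hMdet := det_ne_zero_of_GL M
  have hq3 : 3 ≤ Fintype.card F := by
    have h1 := Fintype.one_lt_card (α := F)
    obtain ⟨k, hk⟩ := hodd
    omega
  obtain ⟨ε, hε⟩ := FiniteField.exists_nonsquare
    (Cfsg.Agent.Lib.Helper44_FinSq.ringChar_ne_two_of_two_ne_zero h2)
  have hε0 : ε ≠ 0 := by
    rintro rfl; exact hε ⟨0, by simp⟩
  set s : F := (-1) ^ m with hs
  have hss : s * s = 1 := by
    rw [hs, ← pow_add, ← two_mul, pow_mul]; simp
  have hs0 : s ≠ 0 := by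
    intro h; rw [h, zero_mul] at hss; exact zero_ne_one hss
  have hpow : ((2 : F) ^ n) = (2 ^ m) * (2 ^ m) := by rw [hnm, two_mul, pow_add]
  have ecard : Fintype.card (Fin m ⊕ Fin m) = n := by
    rw [Fintype.card_sum, Fintype.card_fin, hnm]; ring
  have ecard' : Fintype.card ((Fin (m - 1) ⊕ Fin (m - 1)) ⊕ Fin 2) = n := by
    rw [Fintype.card_sum, Fintype.card_sum, Fintype.card_fin, Fintype.card_fin, hnm]; omega
  have hm1 : (-1 : F) ^ (m - 1) * (-1) = s := by
    rw [hs, ← pow_succ]; congr 1; omega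
  have hab : ∀ z₁ z₂ : F, z₁ ^ 2 + (0 : F) * z₁ * z₂ + (-ε) * z₂ ^ 2 = 0 → z₁ = 0 ∧ z₂ = 0 := by
    intro z₁ z₂ h
    by_cases hz : z₂ = 0
    · subst hz
      refine ⟨?_, rfl⟩
      have : z₁ ^ 2 = 0 := by linear_combination h
      exact pow_eq_zero_iff (two_ne_zero) |>.mp this
    · exfalso
      apply hε
      refine ⟨z₁ / z₂, ?_⟩
      field_simp
      linear_combination (-1 : F) * h
  obtain ⟨e0⟩ := nonempty_centEquiv M
  rw [similarityGroup_eq_quad h2 hM] at e0
  have hsp := Cfsg.Agent.Lib.Helper5_SpOrder.card_sp (F := F) (q := Fintype.card F) rfl m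
  have hpg := card_pgsp (F := F) (m := m) (by omega)
  have hlt := order_lt hq3 hm
  by_cases hD : IsSquare (s * ((M : GL (Fin n) F) : Mn).det)
  · obtain ⟨P, P', h1, h1', hQ⟩ := exists_iso h2 (Fintype.equivFinOfCardEq ecard) hM hMdet (qfPlus m F)
      (by rw [coe_qfPlus, det_gram_quadFormPlus]; exact pow_ne_zero _ (by simp))
      (by
        rw [coe_qfPlus, det_gram_quadFormPlus, hpow, ← hs]
        obtain ⟨r, hr⟩ := hD
        refine ⟨2 ^ m * r, ?_⟩
        linear_combination (2 ^ m * 2 ^ m : F) * hr)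
    have e1 := pgoCongr (F := F) (fun v => bilOf ((M : GL (Fin n) F) : Mn) v v) (Cfsg.quadFormPlus m F)
      P P' h1 h1' (fun u => by rw [← coe_qfPlus]; exact hQ u)
    have hcard : Nat.card (Cfsg.PGO F (Cfsg.quadFormPlus m F)) = Nat.card (Cfsg.PGSp m F) :=
      Nat.card_congr ((e1.symm.trans e0.symm).trans e).toEquiv
    haveI : Nonempty (Fin m ⊕ Fin m) := ⟨Sum.inl ⟨0, by omega⟩⟩
    have hle := card_pgo_le (F := F) (Cfsg.quadFormPlus m F) (quadFormPlus_smul m)
      (quadFormPlus_ne_zero (by omega))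
    rw [hcard, hpg, hsp, Cfsg.Agent.S0287.result (F := F) rfl m (by omega)] at hle
    have hle2 : 2 * Fintype.card F ^ (m * (m - 1)) * (Fintype.card F ^ m - 1) *
        ∏ i ∈ Finset.range (m - 1), (Fintype.card F ^ (2 * (i + 1)) - 1) ≤
        2 * Fintype.card F ^ (m * (m - 1)) * (Fintype.card F ^ m + 1) *
        ∏ i ∈ Finset.range (m - 1), (Fintype.card F ^ (2 * (i + 1)) - 1) := by
      apply Nat.mul_le_mul_right
      apply Nat.mul_le_mul_left
      omega
    omega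
  · have hgd : (-1 : F) ^ (m - 1) * (4 * (-ε) - 0 ^ 2) = 4 * (s * ε) := by
      rw [← hm1]; ring
    obtain ⟨P, P', h1, h1', hQ⟩ := exists_iso h2 (Fintype.equivFinOfCardEq ecard') hM hMdet
      (qfMinus (m - 1) F 0 (-ε))
      (by
        rw [coe_qfMinus, det_gram_quadFormMinus, hgd]
        have h4 : (4 : F) ≠ 0 := by
          have : (4 : F) = 2 * 2 := by norm_num
          rw [this]; exact mul_ne_zero h2 h2
        exact mul_ne_zero h4 (mul_ne_zero hs0 hε0))
      (by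
        rw [coe_qfMinus, det_gram_quadFormMinus, hpow, hgd]
        have h5 := Cfsg.Agent.Lib.Helper44_FinSq.isSquare_mul_of_nonsq_of_nonsq hε hD
        obtain ⟨r, hr⟩ := h5
        refine ⟨2 ^ m * 2 * r, ?_⟩
        linear_combination (2 ^ m * 2 ^ m * 4 : F) * hr)
    have e1 := pgoCongr (F := F) (fun v => bilOf ((M : GL (Fin n) F) : Mn) v v)
      (Cfsg.quadFormMinus (m - 1) F 0 (-ε)) P P' h1 h1' (fun u => by rw [← coe_qfMinus]; exact hQ u)
    have hcard : Nat.card (Cfsg.PGO F (Cfsg.quadFormMinus (m - 1) F 0 (-ε))) = Nat.card (Cfsg.PGSp m F) :=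
      Nat.card_congr ((e1.symm.trans e0.symm).trans e).toEquiv
    have hle := card_pgo_le (F := F) (Cfsg.quadFormMinus (m - 1) F 0 (-ε)) (quadFormMinus_smul (m - 1) 0 (-ε))
      ⟨Pi.single (Sum.inr 0) 1, by simp [Cfsg.quadFormMinus]⟩
    rw [hcard, hpg, hsp, Cfsg.Agent.S0288.result (F := F) rfl m (by omega) 0 (-ε) hab] at hle
    omega

end iso

end Cfsg.Agent.Lib.Helper14_PSLSplitGraph
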