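import Mathlib
import Cfsg.Agent.Lib.Helper14_PSULocal1

/-!
# The commutant of the Levi action on the complement of a hyperbolic pair

Let `e`, `f` be a hyperbolic pair of a nondegenerate hermitian space over a finite field, and
`W` its orthogonal complement.  An element `l` of the special unitary group with `l e = λ e`,
`l f = μ f` acts on `W` by `w ↦ σ λ • l w` (this is the conjugation action on the Eichler
elements modulo transvections).  We show that an additive map of `W` commuting with all these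
maps is a scalar.
-/

set_option autoImplicit false
set_option linter.unusedVariables false
set_option linter.unusedSectionVars false

namespace Cfsg.Agent.Lib.Helper14_PSULocal2

open Module Cfsg.Agent.Lib.Helper94_Symp Cfsg.Agent.Lib.Helper94_Herm
  Cfsg.Agent.Lib.Helper94_HermOrth Cfsg.Agent.Lib.Helper94_HermEich
  Cfsg.Agent.Lib.Helper94_HermPara Cfsg.Agent.Lib.Helper13_SUGen
  Cfsg.Agent.Lib.Helper13_PSUSimple Cfsg.Agent.Lib.Helper14_PSULocal1

variable {F V : Type*} [Field F] [AddCommGroup V] [Module F V]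
variable {σ : F →+* F} {B : V →ₗ[F] V →ₛₗ[σ] F}

/-- Additivity of a map on a subspace. -/
structure AddOn (W : Submodule F V) (φ : V → V) : Prop where
  mem : ∀ w ∈ W, φ w ∈ W
  add : ∀ w ∈ W, ∀ w' ∈ W, φ (w + w') = φ w + φ w'

namespace AddOn

variable {W : Submodule F V} {φ : V → V} (hφ : AddOn W φ)
include hφ

lemma zero : φ 0 = 0 := by
  have := hφ.add 0 W.zero_mem 0 W.zero_mem
  rw [add_zero] at this
  exact left_eq_add.mp this

lemma neg {w : V} (hw : w ∈ W) : φ (-w) = -φ w := by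
  have := hφ.add w hw (-w) (W.neg_mem hw)
  rw [add_neg_cancel, hφ.zero] at this
  exact (neg_eq_of_add_eq_zero_right this.symm).symm

lemma sub {w w' : V} (hw : w ∈ W) (hw' : w' ∈ W) : φ (w - w') = φ w - φ w' := by
  rw [sub_eq_add_neg, hφ.add w hw _ (W.neg_mem hw'), hφ.neg hw', sub_eq_add_neg]

end AddOn

/-- `φ` commutes with the twisted action of the Levi subgroup on `W`. -/
def LeviComm (B : V →ₗ[F] V →ₛₗ[σ] F) (e f : V) (φ : V → V) : Prop :=
  ∀ (l : V ≃ₗ[F] V) (lam mu : F), l ∈ SUg B → l e = lam • e → l f = mu • f →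
    ∀ w ∈ Wp B e f, φ (σ lam • l w) = σ lam • l (φ w)

section

variable [Finite F] [FiniteDimensional F V]
variable (hσ : Invol σ) (hB : IsHerm B) (hN : NondegOn B ⊤)

omit [Finite F] [FiniteDimensional F V] in
include hσ hB hN in
/-- Step (i): `φ` maps the line of an isotropic vector of `W` into itself. -/
lemma line_stable {e f : V} (h : HypPair B e f) {φ : V → V} (hφ : AddOn (Wp B e f) φ)
    (hc : LeviComm B e f φ) {u : V} (hu : u ∈ Wp B e f) (hu0 : u ≠ 0) (hui : B u u = 0)
    (s : F) : ∃ t : F, φ (s • u) = t • u := by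
  have hW := nondegOn_Wp hB hN h
  obtain ⟨ζ, hζ0, hζ⟩ := exists_skew hσ
  obtain ⟨v, hv, hvi, huv⟩ := exists_partner hσ hB hW hu hu0 hui
  have hvu : B v u = 1 := by rw [hB u v, huv, map_one]
  obtain ⟨hue, huf⟩ := mem_Wp.mp hu
  have hl : utv B u ζ ∈ SUg B := utv_mem_SUg hB u hζ
  have hle : utv B u ζ e = (1 : F) • e := by
    rw [one_smul, utv_fix B u ζ (herm_eq_zero hB hue)]
  have hlf : utv B u ζ f = (1 : F) • f := by
    rw [one_smul, utv_fix B u ζ (herm_eq_zero hB huf)]
  set w := (s / ζ) • v with hw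
  have hwW : w ∈ Wp B e f := (Wp B e f).smul_mem _ hv
  have key := hc _ 1 1 hl hle hlf w hwW
  rw [map_one, one_smul, one_smul] at key
  have hwu : B w u = s / ζ := by
    rw [hw, map_smul, LinearMap.smul_apply, hvu, smul_eq_mul, mul_one]
  rw [utv_apply B hui, utv_apply B hui, hwu, mul_div_cancel₀ _ hζ0,
    hφ.add w hwW _ ((Wp B e f).smul_mem _ hu)] at key
  exact ⟨_, add_left_cancel key⟩

omit [Finite F] in
include hσ hB hN in
/-- Step (ii): homogeneity with respect to squares. -/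
lemma sq_homog {e f : V} (h : HypPair B e f) {φ : V → V} (hφ : AddOn (Wp B e f) φ)
    (hc : LeviComm B e f φ) {u : V} (hu : u ∈ Wp B e f) (hu0 : u ≠ 0) (hui : B u u = 0)
    (r s : F) (hr : r ≠ 0) : φ ((r * r * s) • u) = (r * r) • φ (s • u) := by
  have hW := nondegOn_Wp hB hN h
  obtain ⟨v, hv, hvi, huv⟩ := exists_partner hσ hB hW hu hu0 hui
  have h' : HypPair B u v := hypPair_mk hB hui hvi huv
  obtain ⟨hue, huf⟩ := mem_Wp.mp hu
  obtain ⟨hve, hvf⟩ := mem_Wp.mp hv
  have heu := herm_eq_zero hB hue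
  have hfu := herm_eq_zero hB huf
  have hev := herm_eq_zero hB hve
  have hfv := herm_eq_zero hB hvf
  obtain ⟨t, ht⟩ := line_stable hσ hB hN h hφ hc hu hu0 hui s
  -- `lam = σ r`
  set lam := σ r with hlam
  have hslam : σ lam = r := by rw [hlam, hσ.invol]
  have hlam0 : lam ≠ 0 := by
    intro h0
    apply hr
    rw [← hslam, h0, map_zero]
  have hri : r⁻¹ ≠ 0 := inv_ne_zero hr
  have hlami : lam⁻¹ ≠ 0 := inv_ne_zero hlam0
  have h1 : (1 : F) ≠ 0 := one_ne_zero
  set d1 := dgE h hlam0 hri h1 with hd1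
  set d2 := dgE h' hr hlami h1 with hd2
  have hd1U : d1 ∈ uG B := dgE_mem_uG hσ hB h hlam0 hri h1
    (by rw [map_inv₀, ← hslam, hσ.invol, mul_inv_cancel₀ hlam0]) (by simp)
  have hd2U : d2 ∈ uG B := dgE_mem_uG hσ hB h' hr hlami h1
    (by rw [map_inv₀, hslam, mul_inv_cancel₀ hr]) (by simp)
  have hdet : LinearEquiv.det (d1 * d2) = 1 := by
    apply Units.ext
    rw [map_mul, Units.val_mul, det_dgE, det_dgE]
    simp only [one_pow, div_one, one_mul, Units.val_one]
    field_simp
  have hl : d1 * d2 ∈ SUg B := mem_SUg.mpr ⟨(uG B).mul_mem hd1U hd2U, hdet⟩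
  have hle : (d1 * d2) e = lam • e := by
    rw [LinearEquiv.mul_apply, hd2, dgE_W h' _ _ _ heu hev, one_smul, hd1, dgE_e]
  have hlf : (d1 * d2) f = r⁻¹ • f := by
    rw [LinearEquiv.mul_apply, hd2, dgE_W h' _ _ _ hfu hfv, one_smul, hd1, dgE_f]
  have hlu : ∀ a : F, (d1 * d2) (a • u) = (a * r) • u := by
    intro a
    rw [LinearEquiv.mul_apply, map_smul, hd2, dgE_e, map_smul, map_smul, hd1,
      dgE_W h _ _ _ hue huf, one_smul, smul_smul]
  have key := hc _ lam r⁻¹ hl hle hlf (s • u) ((Wp B e f).smul_mem _ hu)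
  rw [hslam, ht, hlu, hlu, smul_smul, smul_smul] at key
  rw [ht, smul_smul]
  convert key using 2 <;> ring

include hσ hB hN in
/-- Step (ii'): full homogeneity on isotropic lines. -/
lemma homog {e f : V} (h : HypPair B e f) {φ : V → V} (hφ : AddOn (Wp B e f) φ)
    (hc : LeviComm B e f φ) {u : V} (hu : u ∈ Wp B e f) (hu0 : u ≠ 0) (hui : B u u = 0)
    (t s : F) : φ ((t * s) • u) = t • φ (s • u) := by
  have hsq : ∀ r s : F, φ ((r * r * s) • u) = (r * r) • φ (s • u) := by
    intro r s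
    by_cases hr : r = 0
    · subst hr
      simp [hφ.zero]
    · exact sq_homog hσ hB hN h hφ hc hu hu0 hui r s hr
  by_cases h2 : (2 : F) = 0
  · -- characteristic two: every element is a square
    have : Fintype F := Fintype.ofFinite F
    have hchar : ringChar F = 2 := by
      have : CharP F 2 := by
        refine CharTwo.of_one_ne_zero_of_two_eq_zero one_ne_zero h2
      exact ringChar.eq F 2
    obtain ⟨r, hr⟩ := FiniteField.isSquare_of_char_two hchar t
    rw [hr]
    exact hsq r s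
  · have e1 : t = ((t + 1) / 2) * ((t + 1) / 2) - ((t - 1) / 2) * ((t - 1) / 2) := by
      field_simp
      ring
    have hmem : ∀ a : F, a • u ∈ Wp B e f := fun a => (Wp B e f).smul_mem a hu
    have e2 : (t * s) • u = (((t + 1) / 2) * ((t + 1) / 2) * s) • u -
        (((t - 1) / 2) * ((t - 1) / 2) * s) • u := by
      rw [← sub_smul, ← sub_mul, ← e1]
    rw [e2, hφ.sub (hmem _) (hmem _), hsq, hsq, ← sub_smul, ← e1]

include hσ hB hN in
/-- Step (iii): the scalar is the same on all isotropic lines. -/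
lemma scalar_const {e f : V} (h : HypPair B e f) {φ : V → V} (hφ : AddOn (Wp B e f) φ)
    (hc : LeviComm B e f φ) {u u' : V} (hu : u ∈ Wp B e f) (hu0 : u ≠ 0) (hui : B u u = 0)
    (hu' : u' ∈ Wp B e f) (hu'0 : u' ≠ 0) (hui' : B u' u' = 0) {k k' : F}
    (hk : φ u = k • u) (hk' : φ u' = k' • u') : k = k' := by
  have hom : ∀ (x : V), x ∈ Wp B e f → x ≠ 0 → B x x = 0 → ∀ t : F, φ (t • x) = t • φ x := by
    intro x hx hx0 hxi t
    have := homog hσ hB hN h hφ hc hx hx0 hxi t 1
    rwa [mul_one, one_smul] at this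
  by_cases hdep : u' ∈ Submodule.span F {u}
  · obtain ⟨t, rfl⟩ := Submodule.mem_span_singleton.mp hdep
    rw [hom u hu hu0 hui, hk, smul_comm] at hk'
    have := sub_eq_zero.mpr hk'
    rw [← sub_smul] at this
    rcases smul_eq_zero.mp this with h1 | h1
    · exact sub_eq_zero.mp h1
    · exact absurd h1 hu'0
  · -- an isotropic combination `u + s • u'`
    obtain ⟨s, hs0, hsi⟩ : ∃ s : F, s ≠ 0 ∧ B (u + s • u') (u + s • u') = 0 := by
      by_cases hb : B u' u = 0
      · refine ⟨1, one_ne_zero, ?_⟩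
        rw [one_smul, self_add hB, hui, hui', herm_eq_zero hB hb]
        simp
      · obtain ⟨ζ, hζ0, hζ⟩ := exists_skew hσ
        refine ⟨ζ / B u' u, div_ne_zero hζ0 hb, ?_⟩
        have hbb : B u u' = σ (B u' u) := hB u' u
        have hb' : σ (B u' u) ≠ 0 := by
          intro h0
          apply hb
          have := congrArg σ h0
          rwa [hσ.invol, map_zero] at this
        rw [self_add hB, hui, self_smul, hui', map_smulₛₗ, hbb]
        simp only [smul_eq_mul, map_mul, map_div₀, hσ.invol, hζ, mul_zero, add_zero, zero_add]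
        field_simp
        rw [map_neg, hζ]
        ring
    set z := u + s • u' with hz
    have hzW : z ∈ Wp B e f := (Wp B e f).add_mem hu ((Wp B e f).smul_mem _ hu')
    have hz0 : z ≠ 0 := by
      intro h0
      apply hdep
      rw [Submodule.mem_span_singleton]
      refine ⟨-s⁻¹, ?_⟩
      have : s • u' = -u := by
        rw [hz] at h0
        exact (neg_eq_of_add_eq_zero_right h0).symm
      calc (-s⁻¹) • u = s⁻¹ • (-u) := by rw [neg_smul, smul_neg]
        _ = s⁻¹ • (s • u') := by rw [this]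
        _ = u' := by rw [smul_smul, inv_mul_cancel₀ hs0, one_smul]
    obtain ⟨k'', hk''⟩ := line_stable hσ hB hN h hφ hc hzW hz0 hsi 1
    rw [one_smul] at hk''
    have e1 : φ z = k • u + (s * k') • u' := by
      rw [hz, hφ.add u hu _ ((Wp B e f).smul_mem _ hu'), hom u' hu' hu'0 hui', hk, hk',
        smul_smul]
    rw [hk'', hz, smul_add, smul_smul] at e1
    have e2 : (k'' - k) • u + (k'' * s - s * k') • u' = 0 := by
      have := sub_eq_zero.mpr e1
      rw [← this]
      module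
    have h3 : k'' * s - s * k' = 0 := by
      by_contra hne
      apply hdep
      rw [Submodule.mem_span_singleton]
      refine ⟨-(k'' * s - s * k')⁻¹ * (k'' - k), ?_⟩
      have h4 : (k'' * s - s * k') • u' = -((k'' - k) • u) :=
        (neg_eq_of_add_eq_zero_right e2).symm
      calc (-(k'' * s - s * k')⁻¹ * (k'' - k)) • u
          = (k'' * s - s * k')⁻¹ • (-((k'' - k) • u)) := by
            rw [smul_neg, smul_smul, neg_mul, neg_smul]
        _ = (k'' * s - s * k')⁻¹ • ((k'' * s - s * k') • u') := by rw [h4]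
        _ = u' := by rw [smul_smul, inv_mul_cancel₀ hne, one_smul]
    rw [h3, zero_smul, add_zero] at e2
    have h5 : k'' = k := by
      rcases smul_eq_zero.mp e2 with h6 | h6
      · exact sub_eq_zero.mp h6
      · exact absurd h6 hu0
    rw [h5] at h3
    have : s * (k - k') = 0 := by linear_combination h3
    rcases mul_eq_zero.mp this with h6 | h6
    · exact absurd h6 hs0
    · exact sub_eq_zero.mp h6

include hσ hB hN in
/-- The commutant lemma when the complement contains an isotropic vector. -/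
theorem commutant_iso {e f : V} (h : HypPair B e f) {φ : V → V} (hφ : AddOn (Wp B e f) φ)
    (hc : LeviComm B e f φ) {u : V} (hu : u ∈ Wp B e f) (hu0 : u ≠ 0) (hui : B u u = 0) :
    ∃ k : F, ∀ w ∈ Wp B e f, φ w = k • w := by
  have hW := nondegOn_Wp hB hN h
  obtain ⟨v, hv, hvi, huv⟩ := exists_partner hσ hB hW hu hu0 hui
  obtain ⟨k, hk⟩ := line_stable hσ hB hN h hφ hc hu hu0 hui 1
  rw [one_smul] at hk
  refine ⟨k, ?_⟩
  have hiso : ∀ z ∈ Wp B e f, B z z = 0 → ∀ t : F, φ (t • z) = k • (t • z) := by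
    intro z hz hzi t
    by_cases hz0 : z = 0
    · subst hz0
      simp [hφ.zero]
    · obtain ⟨k', hk'⟩ := line_stable hσ hB hN h hφ hc hz hz0 hzi 1
      rw [one_smul] at hk'
      have := scalar_const hσ hB hN h hφ hc hu hu0 hui hz hz0 hzi hk hk'
      have h2 := homog hσ hB hN h hφ hc hz hz0 hzi t 1
      rw [mul_one, one_smul, hk', ← this] at h2
      rw [h2, smul_comm]
  have key : ∀ x ∈ Submodule.span F {z | z ∈ Wp B e f ∧ B z z = 0},
      x ∈ Wp B e f ∧ ∀ t : F, φ (t • x) = k • (t • x) := by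
    intro x hx'
    induction hx' using Submodule.span_induction with
    | mem z hz => exact ⟨hz.1, hiso z hz.1 hz.2⟩
    | zero => exact ⟨Submodule.zero_mem _, fun t => by simp [hφ.zero]⟩
    | add x y _ _ hx hy =>
      refine ⟨Submodule.add_mem _ hx.1 hy.1, fun t => ?_⟩
      rw [smul_add, hφ.add _ (Submodule.smul_mem _ _ hx.1) _ (Submodule.smul_mem _ _ hy.1),
        hx.2, hy.2, smul_add]
    | smul a x _ hx =>
      refine ⟨Submodule.smul_mem _ _ hx.1, fun t => ?_⟩
      rw [smul_smul, hx.2]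
  intro w hw
  have := (key w (span_iso hσ hB hu hv hui hvi huv w hw)).2 1
  rwa [one_smul] at this

/-! ### Dimension three -/

omit [Finite F] in
include hB in
/-- In dimension three the complement of a hyperbolic pair is a line. -/
lemma exists_Wp_gen {e f : V} (h : HypPair B e f) (h3 : finrank F V = 3) :
    ∃ w₀ ∈ Wp B e f, w₀ ≠ 0 ∧ ∀ w ∈ Wp B e f, ∃ c : F, w = c • w₀ := by
  let L : V →ₗ[F] F × F := (B.flip e).prod (B.flip f)
  have hker : LinearMap.ker L = Wp B e f := by
    rw [LinearMap.ker_prod]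
    rfl
  have hrange : LinearMap.range L = ⊤ := by
    rw [LinearMap.range_eq_top]
    rintro ⟨a, b⟩
    refine ⟨a • f + b • e, ?_⟩
    simp [L, h.ee, h.ff, h.ef, h.fe]
  have hrk := LinearMap.finrank_range_add_finrank_ker L
  rw [hrange, finrank_top, Module.finrank_prod, Module.finrank_self, h3, hker] at hrk
  have h1 : finrank F (Wp B e f) = 1 := by omega
  obtain ⟨v, hv0, hv⟩ := finrank_eq_one_iff'.mp h1
  refine ⟨v.1, v.2, fun h0 => hv0 (Subtype.ext h0), fun w hw => ?_⟩
  obtain ⟨c, hc⟩ := hv ⟨w, hw⟩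
  exact ⟨c, (congrArg Subtype.val hc).symm⟩

/-- Outside the field with four elements some `λ` has `λ ^ 3 ≠ σ λ ^ 3`. -/
lemma exists_cube_ne {q : ℕ} (hσq : ∀ x : F, σ x = x ^ q) (hF : Nat.card F = q ^ 2)
    (hq2 : q ≠ 2) : ∃ lam : F, lam ≠ 0 ∧ lam ^ 3 ≠ σ lam ^ 3 := by
  have : Fintype F := Fintype.ofFinite F
  by_contra hcon
  push Not at hcon
  have hq1 : 2 ≤ q := by
    have h1 : 1 < Nat.card F := Finite.one_lt_card
    rw [hF] at h1
    by_contra hlt
    have : q ≤ 1 := by omega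
    have : q ^ 2 ≤ 1 := by
      calc q ^ 2 ≤ 1 ^ 2 := Nat.pow_le_pow_left this 2
        _ = 1 := one_pow 2
    omega
  have hall : ∀ x : Fˣ, x ^ (3 * q - 3) = 1 := by
    intro x
    have h1 := hcon (x : F) x.ne_zero
    rw [hσq] at h1
    have h2 : (x : F) ^ (3 * q - 3) * (x : F) ^ 3 = (x : F) ^ 3 := by
      rw [← pow_add, show 3 * q - 3 + 3 = q * 3 by omega, pow_mul]
      exact h1.symm
    have h3 : (x : F) ^ (3 * q - 3) = 1 :=
      mul_right_cancel₀ (pow_ne_zero 3 x.ne_zero) (h2.trans (one_mul _).symm)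
    apply Units.ext
    rw [Units.val_pow_eq_pow_val, h3, Units.val_one]
  rw [FiniteField.forall_pow_eq_one_iff, ← Nat.card_eq_fintype_card, hF] at hall
  have hq3 : 3 ≤ q := by omega
  have hpos : 0 < 3 * q - 3 := by omega
  have hle := Nat.le_of_dvd hpos hall
  have h9 : 3 * q ≤ q ^ 2 := by nlinarith
  omega

include hσ hB hN in
/-- The commutant lemma in dimension three. -/
theorem commutant_three {e f : V} (h : HypPair B e f) {φ : V → V} (hφ : AddOn (Wp B e f) φ)
    (hc : LeviComm B e f φ) (h3 : finrank F V = 3) {q : ℕ} (hσq : ∀ x : F, σ x = x ^ q)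
    (hF : Nat.card F = q ^ 2) (hq2 : q ≠ 2) :
    ∃ k : F, ∀ w ∈ Wp B e f, φ w = k • w := by
  obtain ⟨w₀, hw₀, hw₀0, hgen⟩ := exists_Wp_gen hB h h3
  -- the homogeneity set
  have hfix : ∀ a : F, σ a = a → ∀ w ∈ Wp B e f, φ (a • w) = a • φ w := by
    intro a ha w hw
    by_cases ha0 : a = 0
    · subst ha0
      simp [hφ.zero]
    · have hai : a⁻¹ ≠ 0 := inv_ne_zero ha0
      have hU : dgE h ha0 hai one_ne_zero ∈ uG B :=
        dgE_mem_uG hσ hB h ha0 hai one_ne_zero (by rw [map_inv₀, ha, mul_inv_cancel₀ ha0])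
          (by simp)
      have hdet : LinearEquiv.det (dgE h ha0 hai one_ne_zero) = 1 := by
        apply Units.ext
        rw [det_dgE]
        simp only [one_pow, div_one, one_mul, Units.val_one]
        exact mul_inv_cancel₀ ha0
      obtain ⟨hwe, hwf⟩ := mem_Wp.mp hw
      obtain ⟨hpe, hpf⟩ := mem_Wp.mp (hφ.mem w hw)
      have key := hc _ a a⁻¹ (mem_SUg.mpr ⟨hU, hdet⟩) (dgE_e h _ _ _) (dgE_f h _ _ _) w hw
      rwa [ha, dgE_W h _ _ _ hwe hwf, dgE_W h _ _ _ hpe hpf, one_smul, one_smul] at key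
  obtain ⟨lam, hlam0, hlam⟩ := exists_cube_ne hσq hF hq2
  have hs0 : σ lam ≠ 0 := by
    intro h0
    apply hlam0
    have := congrArg σ h0
    rwa [hσ.invol, map_zero] at this
  set γ := σ lam * σ lam / lam with hγ
  have hγfix : σ γ ≠ γ := by
    intro heq
    apply hlam
    rw [hγ, map_div₀, map_mul, hσ.invol] at heq
    field_simp at heq
    linear_combination heq
  have hγhom : ∀ w ∈ Wp B e f, φ (γ • w) = γ • φ w := by
    intro w hw
    have hsi : (σ lam)⁻¹ ≠ 0 := inv_ne_zero hs0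
    have hc0 : σ lam / lam ≠ 0 := div_ne_zero hs0 hlam0
    have hU : dgE h hlam0 hsi hc0 ∈ uG B :=
      dgE_mem_uG hσ hB h hlam0 hsi hc0
        (by rw [map_inv₀, hσ.invol, mul_inv_cancel₀ hlam0])
        (by rw [map_div₀, hσ.invol]; field_simp)
    have hdet : LinearEquiv.det (dgE h hlam0 hsi hc0) = 1 := by
      apply Units.ext
      rw [det_dgE, h3]
      simp only [Units.val_one]
      field_simp
    obtain ⟨hwe, hwf⟩ := mem_Wp.mp hw
    obtain ⟨hpe, hpf⟩ := mem_Wp.mp (hφ.mem w hw)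
    have key := hc _ lam (σ lam)⁻¹ (mem_SUg.mpr ⟨hU, hdet⟩) (dgE_e h _ _ _) (dgE_f h _ _ _) w hw
    rw [dgE_W h _ _ _ hwe hwf, dgE_W h _ _ _ hpe hpf, smul_smul, smul_smul] at key
    have e1 : σ lam * (σ lam / lam) = γ := by rw [hγ]; ring
    rwa [e1] at key
  have hall : ∀ a : F, ∀ w ∈ Wp B e f, φ (a • w) = a • φ w := by
    intro a w hw
    obtain ⟨r, s, hr, hs, rfl⟩ := decomp hσ hγfix a
    have hmem : ∀ a : F, a • w ∈ Wp B e f := fun a => (Wp B e f).smul_mem a hw
    rw [add_smul, hφ.add _ (hmem _) _ (hmem _), hfix r hr w hw, mul_smul,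
      hfix s hs _ (hmem _), hγhom w hw, add_smul, mul_smul]
  obtain ⟨k, hk⟩ := hgen _ (hφ.mem w₀ hw₀)
  refine ⟨k, fun w hw => ?_⟩
  obtain ⟨c, rfl⟩ := hgen w hw
  rw [hall c w₀ hw₀, hk, smul_comm]

end

end Cfsg.Agent.Lib.Helper14_PSULocal2
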