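import Mathlib
import Cfsg.Agent.Lib.Helper14_PSULocal1

/-!
# Projective special unitary groups: the generic quotient framework

`Q` is a group with a homomorphism `mk : SUg B →* Q` whose kernel consists of the scalars.  We
extend `mk` to a total function `mkT` on linear equivalences, and prove the basic projective
rigidity statements for unitary transvections.
-/

set_option autoImplicit false
set_option linter.unusedVariables false
set_option linter.unusedSectionVars false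

namespace Cfsg.Agent.Lib.Helper14_PSULocal3

open Module Cfsg.Agent.Lib.Helper94_Symp Cfsg.Agent.Lib.Helper94_Herm
  Cfsg.Agent.Lib.Helper94_HermOrth Cfsg.Agent.Lib.Helper94_HermEich
  Cfsg.Agent.Lib.Helper94_HermPara Cfsg.Agent.Lib.Helper13_SUGen
  Cfsg.Agent.Lib.Helper13_PSUSimple Cfsg.Agent.Lib.Helper46_U3TI
  Cfsg.Agent.Lib.Helper14_PSULocal1

variable {F V : Type*} [Field F] [AddCommGroup V] [Module F V]
variable {σ : F →+* F} {B : V →ₗ[F] V →ₛₗ[σ] F}
variable {Q : Type*} [Group Q] (mk : ↥(SUg B) →* Q)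

open Classical in
/-- The quotient map extended by `1` outside the special unitary group. -/
noncomputable def mkT (g : V ≃ₗ[F] V) : Q := if h : g ∈ SUg B then mk ⟨g, h⟩ else 1

lemma mkT_of_mem {g : V ≃ₗ[F] V} (h : g ∈ SUg B) : mkT mk g = mk ⟨g, h⟩ := dif_pos h

lemma mkT_coe (g : ↥(SUg B)) : mkT mk (g : V ≃ₗ[F] V) = mk g := by
  rw [mkT_of_mem mk g.2]

lemma mkT_mul {g g' : V ≃ₗ[F] V} (hg : g ∈ SUg B) (hg' : g' ∈ SUg B) :
    mkT mk (g * g') = mkT mk g * mkT mk g' := by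
  rw [mkT_of_mem mk hg, mkT_of_mem mk hg', mkT_of_mem mk ((SUg B).mul_mem hg hg'), ← map_mul]
  rfl

lemma mkT_one : mkT mk (1 : V ≃ₗ[F] V) = 1 := by
  rw [mkT_of_mem mk (SUg B).one_mem]
  exact map_one mk

lemma mkT_inv {g : V ≃ₗ[F] V} (hg : g ∈ SUg B) : mkT mk g⁻¹ = (mkT mk g)⁻¹ := by
  rw [mkT_of_mem mk hg, mkT_of_mem mk ((SUg B).inv_mem hg), ← map_inv]
  rfl

lemma exists_mkT (hs : Function.Surjective mk) (t : Q) :
    ∃ g : V ≃ₗ[F] V, g ∈ SUg B ∧ t = mkT mk g := by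
  obtain ⟨g, rfl⟩ := hs t
  exact ⟨g.1, g.2, (mkT_coe mk g).symm⟩

/-- The kernel of `mk` consists of the scalar maps. -/
def KerScalar : Prop :=
  ∀ g : ↥(SUg B), mk g = 1 ↔ ∃ l : F, ∀ x, (g : V ≃ₗ[F] V) x = l • x

variable {mk}

lemma mkT_eq_iff (hk : KerScalar mk) {g g' : V ≃ₗ[F] V} (hg : g ∈ SUg B) (hg' : g' ∈ SUg B) :
    mkT mk g = mkT mk g' ↔ ∃ l : F, ∀ x, g' x = l • g x := by
  rw [mkT_of_mem mk hg, mkT_of_mem mk hg', ← inv_mul_eq_one, ← map_inv, ← map_mul, hk]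
  constructor
  · rintro ⟨l, hl⟩
    refine ⟨l, fun x => ?_⟩
    have := hl x
    change g⁻¹ (g' x) = l • x at this
    have h2 := congrArg g this
    rwa [apply_inv_apply', map_smul] at h2
  · rintro ⟨l, hl⟩
    refine ⟨l, fun x => ?_⟩
    change g⁻¹ (g' x) = l • x
    rw [hl x, map_smul, inv_apply_apply']

/-! ### Root sets and the unipotent radical -/

variable (mk)

/-- The image of the root group of the isotropic vector `v`. -/
def rootSet (v : V) : Set Q := {t | ∃ c : F, σ c = -c ∧ t = mkT mk (utv B v c)}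

/-- The image of the unipotent radical of the stabiliser of `v`. -/
def unipSet (v : V) : Set Q := {t | ∃ g : V ≃ₗ[F] V, g ∈ SUg B ∧ g ∈ unip B v ∧ t = mkT mk g}

variable {mk}

/-! ### Projective rigidity of transvections -/

section

variable [FiniteDimensional F V] (hσ : Invol σ) (hB : IsHerm B) (hN : NondegOn B ⊤)

include hσ hB hN in
lemma utv_proj (h3 : 3 ≤ finrank F V) {v v' : V} (hv : B v v = 0) (hv' : B v' v' = 0)
    (hv0 : v ≠ 0) {c c' l : F} (hc : c ≠ 0) (heq : ∀ x, utv B v' c' x = l • utv B v c x) :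
    l = 1 ∧ ∃ k : F, v = k • v' := by
  have htop : 3 ≤ finrank F (⊤ : Submodule F V) := by rw [finrank_top]; exact h3
  obtain ⟨x, -, hx0, hxv, hxv'⟩ :=
    Cfsg.Agent.Lib.Helper94_HermTI.exists_ne_zero_orth2 B ⊤ htop v v'
  have hl : l = 1 := by
    have := heq x
    rw [utv_fix B v' c' hxv', utv_fix B v c hxv] at this
    have h2 : (1 - l) • x = 0 := by rw [sub_smul, one_smul, ← this, sub_self]
    rcases smul_eq_zero.mp h2 with h | h
    · exact (sub_eq_zero.mp h).symm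
    · exact absurd h hx0
  refine ⟨hl, ?_⟩
  obtain ⟨y, -, hy⟩ := hN v Submodule.mem_top hv0
  have hyv : B y v ≠ 0 := herm_ne_zero hσ hB hy
  have := heq y
  rw [hl, one_smul, utv_apply B hv', utv_apply B hv] at this
  have h2 : (c * B y v) • v = (c' * B y v') • v' := (add_left_cancel this).symm
  refine ⟨(c * B y v)⁻¹ * (c' * B y v'), ?_⟩
  rw [← smul_smul, ← h2, smul_smul, inv_mul_cancel₀ (mul_ne_zero hc hyv), one_smul]

include hσ hB hN in
/-- An element conjugating a nontrivial transvection at `v` into the root set of `v'`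
maps `v` into the line of `v'`. -/
lemma normalizer_lemma (hk : KerScalar mk) (h3 : 3 ≤ finrank F V) {v v' : V}
    (hv : B v v = 0) (hv' : B v' v' = 0) (hv0 : v ≠ 0) {g : V ≃ₗ[F] V} (hg : g ∈ SUg B)
    {c c' : F} (hc0 : c ≠ 0) (hc : σ c = -c) (hc' : σ c' = -c')
    (heq : mkT mk (g * utv B v c * g⁻¹) = mkT mk (utv B v' c')) : ∃ k : F, g v = k • v' := by
  have hgU : g ∈ uG B := (mem_SUg.mp hg).1
  rw [conj_utv hgU] at heq
  obtain ⟨l, hl⟩ := (mkT_eq_iff hk (utv_mem_SUg hB _ hc) (utv_mem_SUg hB _ hc')).mp heq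
  have hgv : B (g v) (g v) = 0 := by rw [hgU, hv]
  have hgv0 : g v ≠ 0 := fun h0 => hv0 (by simpa using h0)
  exact (utv_proj hσ hB hN h3 hgv hv' hgv0 hc0 hl).2

include hσ hB hN in
/-- Root sets of non-orthogonal points do not commute. -/
lemma perp_of_commute (hk : KerScalar mk) (h3 : 3 ≤ finrank F V) {v v' : V}
    (hv : B v v = 0) (hv' : B v' v' = 0) (hv0 : v ≠ 0) (hv'0 : v' ≠ 0)
    (hcomm : ∀ s ∈ rootSet mk v, ∀ t ∈ rootSet mk v', s * t = t * s) : B v v' = 0 := by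
  by_contra hne
  obtain ⟨ζ, hζ0, hζ⟩ := exists_skew hσ
  have h1 := hcomm _ ⟨ζ, hζ, rfl⟩ _ ⟨ζ, hζ, rfl⟩
  have hS := utv_mem_SUg hB v hζ
  have hS' := utv_mem_SUg hB v' hζ
  have h2 : mkT mk (utv B v ζ * utv B v' ζ * (utv B v ζ)⁻¹) = mkT mk (utv B v' ζ) := by
    rw [mkT_mul mk ((SUg B).mul_mem hS hS') ((SUg B).inv_mem hS), mkT_mul mk hS hS',
      mkT_inv mk hS, h1, mul_inv_cancel_right]
  obtain ⟨k, hk'⟩ := normalizer_lemma hσ hB hN hk h3 hv' hv' hv'0 hS hζ0 hζ hζ h2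
  rw [utv_apply B hv] at hk'
  have h3' : (ζ * B v' v) • v = (k - 1) • v' := by
    rw [sub_smul, one_smul, ← hk']; abel
  have hvv' : B v' v ≠ 0 := herm_ne_zero hσ hB hne
  have h4 : v = ((ζ * B v' v)⁻¹ * (k - 1)) • v' := by
    rw [← smul_smul, ← h3', smul_smul, inv_mul_cancel₀ (mul_ne_zero hζ0 hvv'), one_smul]
  apply hne
  rw [h4, map_smul, LinearMap.smul_apply, hv', smul_zero]

end

end Cfsg.Agent.Lib.Helper14_PSULocal3
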