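import Mathlib
import Cfsg.Agent.Lib.Helper14_PSULocal3
import Cfsg.Agent.Lib.Helper46_U3Center

/-!
# Normalised automorphisms: the Levi subgroup and the Eichler group

An automorphism `α` of `Q` is *normalised* with respect to a hyperbolic pair `e`, `f` when it
stabilises the root sets of `e` and `f` and the image of the unipotent radical `unip B e`.
Such an automorphism maps elements fixing the points `F e`, `F f` to elements with the same
property, and induces a map `A` of the complement `W` of the pair (its action on the Eichler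
group modulo the transvections), which is additive and equivariant for the Levi action.
-/

set_option autoImplicit false
set_option linter.unusedVariables false
set_option linter.unusedSectionVars false

namespace Cfsg.Agent.Lib.Helper14_PSULocal4

open Module Cfsg.Agent.Lib.Helper94_Symp Cfsg.Agent.Lib.Helper94_Herm
  Cfsg.Agent.Lib.Helper94_HermOrth Cfsg.Agent.Lib.Helper94_HermEich
  Cfsg.Agent.Lib.Helper94_HermPara Cfsg.Agent.Lib.Helper13_SUGen
  Cfsg.Agent.Lib.Helper13_PSUSimple Cfsg.Agent.Lib.Helper46_U3TI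
  Cfsg.Agent.Lib.Helper14_PSULocal1 Cfsg.Agent.Lib.Helper14_PSULocal3
  Cfsg.Agent.Lib.Helper46_U3Center

variable {F V : Type*} [Field F] [AddCommGroup V] [Module F V]
variable {σ : F →+* F} {B : V →ₗ[F] V →ₛₗ[σ] F}
variable {Q : Type*} [Group Q] {mk : ↥(SUg B) →* Q}

/-- `α` is normalised with respect to the pair `e`, `f`. -/
structure Norm (mk : ↥(SUg B) →* Q) (e f : V) (α : Q ≃* Q) : Prop where
  re : ∀ t ∈ rootSet mk e, α t ∈ rootSet mk e
  rf : ∀ t ∈ rootSet mk f, α t ∈ rootSet mk f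
  un : ∀ t ∈ unipSet mk e, α t ∈ unipSet mk e

lemma mapsTo_symm [Finite Q] {S : Set Q} {α : Q ≃* Q} (h : ∀ t ∈ S, α t ∈ S) :
    ∀ t ∈ S, α.symm t ∈ S := by
  have hb := ((Set.toFinite S).injOn_iff_bijOn_of_mapsTo (f := α) h).mp
    (α.injective.injOn)
  intro t ht
  obtain ⟨s, hs, rfl⟩ := hb.surjOn ht
  rwa [MulEquiv.symm_apply_apply]

lemma Norm.symm [Finite Q] {e f : V} {α : Q ≃* Q} (h : Norm mk e f α) : Norm mk e f α.symm :=
  ⟨mapsTo_symm h.re, mapsTo_symm h.rf, mapsTo_symm h.un⟩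

lemma Norm.mul {e f : V} {α β : Q ≃* Q} (ha : Norm mk e f α) (hb : Norm mk e f β) :
    Norm mk e f (α * β) :=
  ⟨fun t ht => ha.re _ (hb.re t ht), fun t ht => ha.rf _ (hb.rf t ht),
    fun t ht => ha.un _ (hb.un t ht)⟩

section

variable [FiniteDimensional F V] (hσ : Invol σ) (hB : IsHerm B) (hN : NondegOn B ⊤)

omit [FiniteDimensional F V] in
include hσ hB hN in
/-- Nontrivial transvections are nontrivial in the quotient. -/
lemma mkT_utv_ne_one (hk : KerScalar mk) {v : V} (hv : B v v = 0) (hv0 : v ≠ 0) {c : F}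
    (hc0 : c ≠ 0) (hc : σ c = -c) : mkT mk (utv B v c) ≠ 1 := by
  intro h1
  rw [← mkT_one mk] at h1
  obtain ⟨l, hl⟩ := (mkT_eq_iff hk (utv_mem_SUg hB v hc) (SUg B).one_mem).mp h1
  have hl1 : l = 1 := by
    have := hl v
    rw [utv_self] at this
    change v = l • v at this
    have h2 : (1 - l) • v = 0 := by rw [sub_smul, one_smul, ← this, sub_self]
    rcases smul_eq_zero.mp h2 with h | h
    · exact (sub_eq_zero.mp h).symm
    · exact absurd h hv0
  obtain ⟨y, -, hy⟩ := hN v Submodule.mem_top hv0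
  have hyv : B y v ≠ 0 := herm_ne_zero hσ hB hy
  have := hl y
  rw [hl1, one_smul, utv_apply B hv] at this
  change y = _ at this
  have h2 : (c * B y v) • v = 0 := by
    have := sub_eq_zero.mpr this.symm
    rwa [add_sub_cancel_left] at this
  rcases smul_eq_zero.mp h2 with h | h
  · exact mul_ne_zero hc0 hyv h
  · exact hv0 h

include hσ hB hN in
/-- An automorphism stabilising the root set of `v` maps elements fixing the point `F v` to
elements fixing that point. -/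
lemma fix_point_of_root (hk : KerScalar mk) (h3 : 3 ≤ finrank F V) {v : V} (hv : B v v = 0)
    (hv0 : v ≠ 0) {α : Q ≃* Q} (hα : ∀ t ∈ rootSet mk v, α t ∈ rootSet mk v)
    {l l' : V ≃ₗ[F] V} (hl : l ∈ SUg B) (hl' : l' ∈ SUg B) {lam : F} (hlv : l v = lam • v)
    (hll' : α (mkT mk l) = mkT mk l') : ∃ lam' : F, l' v = lam' • v := by
  obtain ⟨ζ, hζ0, hζ⟩ := exists_skew hσ
  have hlU : l ∈ uG B := (mem_SUg.mp hl).1
  obtain ⟨c₁, hc₁, h1⟩ := hα _ ⟨ζ, hζ, rfl⟩
  have hc₁0 : c₁ ≠ 0 := by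
    rintro rfl
    have h0 : utv B v (0 : F) = 1 := by
      ext x; rw [utv_apply B hv]; simp
    rw [h0, mkT_one, ← map_one α] at h1
    exact mkT_utv_ne_one hσ hB hN hk hv hv0 hζ0 hζ (α.injective h1)
  have hS := utv_mem_SUg (B := B) hB v hζ
  have hconj : l * utv B v ζ * l⁻¹ = utv B v (lam * σ lam * ζ) := by
    rw [conj_utv hlU, hlv, utv_smul]
  have hskew : σ (lam * σ lam * ζ) = -(lam * σ lam * ζ) := by
    rw [map_mul, map_mul, hσ.invol, hζ]; ring
  obtain ⟨c₂, hc₂, h2⟩ := hα _ ⟨_, hskew, rfl⟩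
  rw [← hconj, mkT_mul mk ((SUg B).mul_mem hl hS) ((SUg B).inv_mem hl), mkT_mul mk hl hS,
    mkT_inv mk hl, map_mul, map_mul, map_inv, hll', h1, ← mkT_inv mk hl',
    ← mkT_mul mk hl' (utv_mem_SUg hB v hc₁),
    ← mkT_mul mk ((SUg B).mul_mem hl' (utv_mem_SUg hB v hc₁)) ((SUg B).inv_mem hl')] at h2
  exact normalizer_lemma hσ hB hN hk h3 hv hv hv0 hl' hc₁0 hc₁ hc₂ h2

/-! ### The induced map on the Eichler group -/

omit [FiniteDimensional F V] in
include hσ hB in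
lemma tr_add {w₁ w₂ : V} {a₁ a₂ : F} (h1 : a₁ + σ a₁ = -(B w₁ w₁))
    (h2 : a₂ + σ a₂ = -(B w₂ w₂)) :
    (a₁ + a₂ - B w₂ w₁) + σ (a₁ + a₂ - B w₂ w₁) = -(B (w₁ + w₂) (w₁ + w₂)) := by
  have e1 : B w₂ w₁ = σ (B w₁ w₂) := hB w₁ w₂
  rw [self_add hB, e1, map_sub, map_add, hσ.invol]
  linear_combination h1 + h2

omit [FiniteDimensional F V] in
include hB in
/-- The quotient map is injective on Eichler elements. -/
lemma mkT_eich_inj (hk : KerScalar mk) {e f : V} (h : HypPair B e f) (he0 : e ≠ 0) {w w' : V}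
    (hw : w ∈ Wp B e f) (hw' : w' ∈ Wp B e f) {a a' : F} (ha : a + σ a = -(B w w))
    (ha' : a' + σ a' = -(B w' w'))
    (heq : mkT mk (eich B e w a) = mkT mk (eich B e w' a')) : w = w' ∧ a = a' := by
  obtain ⟨hwe, hwf⟩ := mem_Wp.mp hw
  obtain ⟨hwe', hwf'⟩ := mem_Wp.mp hw'
  have hew := herm_eq_zero hB hwe
  have hfw := herm_eq_zero hB hwf
  have hew' := herm_eq_zero hB hwe'
  have hfw' := herm_eq_zero hB hwf'
  obtain ⟨l, hl⟩ := (mkT_eq_iff hk (eich_mem_SUg hB ha) (eich_mem_SUg hB ha')).mp heq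
  have hl1 : l = 1 := by
    have := hl e
    rw [eich_e h.ee hwe' hew', eich_e h.ee hwe hew] at this
    have h2 : (1 - l) • e = 0 := by rw [sub_smul, one_smul, ← this, sub_self]
    rcases smul_eq_zero.mp h2 with h | h
    · exact (sub_eq_zero.mp h).symm
    · exact absurd h he0
  have heq' : eich B e w a = eich B e w' a' := by
    ext x
    rw [hl x, hl1, one_smul]
  exact eich_inj h hwe hwf hew hfw hwe' hwf' hew' hfw' heq'

/-- `A` describes the action of `α` on the Eichler group modulo transvections. -/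
def IsInd (mk : ↥(SUg B) →* Q) (e f : V) (α : Q ≃* Q) (A : V → V) : Prop :=
  ∀ w ∈ Wp B e f, A w ∈ Wp B e f ∧ ∀ a, a + σ a = -(B w w) →
    ∃ a', a' + σ a' = -(B (A w) (A w)) ∧
      α (mkT mk (eich B e w a)) = mkT mk (eich B e (A w) a')

omit [FiniteDimensional F V] in
include hσ hB in
lemma exists_isInd {e f : V} (h : HypPair B e f) {α : Q ≃* Q} (hα : Norm mk e f α) :
    ∃ A : V → V, IsInd mk e f α A := by
  have key : ∀ w : V, ∃ w' : V, w ∈ Wp B e f → (w' ∈ Wp B e f ∧ ∀ a, a + σ a = -(B w w) →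
      ∃ a', a' + σ a' = -(B w' w') ∧
        α (mkT mk (eich B e w a)) = mkT mk (eich B e w' a')) := by
    intro w
    by_cases hw : w ∈ Wp B e f
    · obtain ⟨hwe, hwf⟩ := mem_Wp.mp hw
      have hew := herm_eq_zero hB hwe
      obtain ⟨a₀, ha₀⟩ := tr_surj hσ (-(B w w)) (by rw [map_neg, herm_self hB])
      have hE₀ := eich_mem_unip hB h.ee hew ha₀
      obtain ⟨g, hgS, hgu, hg⟩ := hα.un _ ⟨_, eich_mem_SUg hB ha₀, hE₀, rfl⟩
      obtain ⟨w', a₀', hwe', hwf', ha₀', rfl⟩ := (mem_unip_iff hB h g).mp hgu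
      refine ⟨w', fun _ => ⟨mem_Wp.mpr ⟨hwe', hwf'⟩, fun a ha => ?_⟩⟩
      have hew' := herm_eq_zero hB hwe'
      -- `a = a₀ + c` with `c` skew
      have hc : σ (a - a₀) = -(a - a₀) := by
        rw [map_sub]; linear_combination ha - ha₀
      obtain ⟨c', hc', hcc'⟩ := hα.re _ ⟨a - a₀, hc, rfl⟩
      refine ⟨a₀' + c', ?_, ?_⟩
      · rw [map_add]; linear_combination ha₀' + hc'
      · have e1 : eich B e w a = eich B e w a₀ * utv B e (a - a₀) := by
          rw [eich_mul_utv h.ee hwe hew]; congr 1; ring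
        rw [e1, mkT_mul mk (eich_mem_SUg hB ha₀) (utv_mem_SUg hB e hc), map_mul, hg, hcc',
          ← mkT_mul mk (eich_mem_SUg hB ha₀') (utv_mem_SUg hB e hc'),
          eich_mul_utv h.ee hwe' hew']
    · exact ⟨0, fun h' => absurd h' hw⟩
  choose A hA using key
  exact ⟨A, fun w hw => hA w hw⟩

omit [FiniteDimensional F V] in
include hσ hB in
/-- The induced map is additive. -/
lemma IsInd.add (hk : KerScalar mk) {e f : V} (h : HypPair B e f) (he0 : e ≠ 0) {α : Q ≃* Q}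
    {A : V → V} (hA : IsInd mk e f α A) {w₁ w₂ : V} (hw₁ : w₁ ∈ Wp B e f)
    (hw₂ : w₂ ∈ Wp B e f) : A (w₁ + w₂) = A w₁ + A w₂ := by
  obtain ⟨hwe₁, hwf₁⟩ := mem_Wp.mp hw₁
  obtain ⟨hwe₂, hwf₂⟩ := mem_Wp.mp hw₂
  obtain ⟨a₁, ha₁⟩ := tr_surj hσ (-(B w₁ w₁)) (by rw [map_neg, herm_self hB])
  obtain ⟨a₂, ha₂⟩ := tr_surj hσ (-(B w₂ w₂)) (by rw [map_neg, herm_self hB])
  obtain ⟨hA₁, hA₁'⟩ := hA w₁ hw₁
  obtain ⟨hA₂, hA₂'⟩ := hA w₂ hw₂
  have hw₁₂ := (Wp B e f).add_mem hw₁ hw₂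
  obtain ⟨hA₁₂, hA₁₂'⟩ := hA _ hw₁₂
  obtain ⟨a₁', ha₁', h1⟩ := hA₁' a₁ ha₁
  obtain ⟨a₂', ha₂', h2⟩ := hA₂' a₂ ha₂
  have htr := tr_add hσ hB ha₁ ha₂
  obtain ⟨a₁₂', ha₁₂', h12⟩ := hA₁₂' _ htr
  rw [← eich_mul' hB h.ee hwe₁ hwe₂, mkT_mul mk (eich_mem_SUg hB ha₁) (eich_mem_SUg hB ha₂),
    map_mul, h1, h2, ← mkT_mul mk (eich_mem_SUg hB ha₁') (eich_mem_SUg hB ha₂'),
    eich_mul' hB h.ee (mem_Wp.mp hA₁).1 (mem_Wp.mp hA₂).1] at h12
  exact (mkT_eich_inj hB hk h he0 ((Wp B e f).add_mem hA₁ hA₂) hA₁₂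
    (tr_add hσ hB ha₁' ha₂') ha₁₂' h12).1.symm

omit [FiniteDimensional F V] in
include hσ hB in
/-- Induced maps compose. -/
lemma IsInd.comp_apply (hk : KerScalar mk) {e f : V} (h : HypPair B e f) (he0 : e ≠ 0)
    {α β γ : Q ≃* Q} {A A' A'' : V → V} (hA : IsInd mk e f α A) (hA' : IsInd mk e f β A')
    (hA'' : IsInd mk e f γ A'') (hγ : ∀ t, γ t = α (β t)) {w : V} (hw : w ∈ Wp B e f) :
    A'' w = A (A' w) := by
  obtain ⟨a, ha⟩ := tr_surj hσ (-(B w w)) (by rw [map_neg, herm_self hB])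
  obtain ⟨hm', hs'⟩ := hA' w hw
  obtain ⟨a', ha', h1⟩ := hs' a ha
  obtain ⟨hm, hs⟩ := hA _ hm'
  obtain ⟨a'', ha'', h2⟩ := hs a' ha'
  obtain ⟨hm'', hs''⟩ := hA'' w hw
  obtain ⟨a₃, ha₃, h3⟩ := hs'' a ha
  rw [hγ, h1, h2] at h3
  exact (mkT_eich_inj hB hk h he0 hm hm'' ha'' ha₃ h3).1.symm

/-! ### Equivariance for the Levi action -/

omit [FiniteDimensional F V] in
include hσ in
lemma levi_mem_Wp {e f : V} {l : V ≃ₗ[F] V} (hl : l ∈ uG B) {lam mu : F} (hlam : lam ≠ 0)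
    (hmu : mu ≠ 0) (hle : l e = lam • e) (hlf : l f = mu • f) {w : V} (hw : w ∈ Wp B e f) :
    l w ∈ Wp B e f := by
  obtain ⟨hwe, hwf⟩ := mem_Wp.mp hw
  have hs : ∀ x : F, x ≠ 0 → σ x ≠ 0 := by
    intro x hx h0
    apply hx
    have := congrArg σ h0
    rwa [hσ.invol, map_zero] at this
  refine mem_Wp.mpr ⟨?_, ?_⟩
  · have := hl w e
    rw [hle, map_smulₛₗ, hwe, smul_eq_mul] at this
    exact (mul_eq_zero.mp this).resolve_left (hs _ hlam)
  · have := hl w f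
    rw [hlf, map_smulₛₗ, hwf, smul_eq_mul] at this
    exact (mul_eq_zero.mp this).resolve_left (hs _ hmu)

omit [FiniteDimensional F V] in
lemma smul_ne_zero_of_apply {v : V} (hv0 : v ≠ 0) {l : V ≃ₗ[F] V} {lam : F}
    (hlv : l v = lam • v) : lam ≠ 0 := by
  rintro rfl
  rw [zero_smul] at hlv
  exact hv0 (by simpa using hlv)

omit [FiniteDimensional F V] in
include hσ hB in
/-- The induced map is equivariant for the twisted Levi action. -/
lemma IsInd.equivariant (hk : KerScalar mk) {e f : V} (h : HypPair B e f) {α : Q ≃* Q}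
    {A : V → V} (hA : IsInd mk e f α A) {l l' : V ≃ₗ[F] V} (hl : l ∈ SUg B)
    (hl' : l' ∈ SUg B) {lam mu lam' mu' : F} (hle : l e = lam • e) (hlf : l f = mu • f)
    (hle' : l' e = lam' • e) (hlf' : l' f = mu' • f) (hll' : α (mkT mk l) = mkT mk l')
    {w : V} (hw : w ∈ Wp B e f) : A (σ lam • l w) = σ lam' • l' (A w) := by
  obtain ⟨he0, hf0⟩ := hypPair_ne_zero h
  have hlam := smul_ne_zero_of_apply he0 hle
  have hmu := smul_ne_zero_of_apply hf0 hlf
  have hlam' := smul_ne_zero_of_apply he0 hle'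
  have hmu' := smul_ne_zero_of_apply hf0 hlf'
  have hlU := (mem_SUg.mp hl).1
  have hlU' := (mem_SUg.mp hl').1
  obtain ⟨hwe, hwf⟩ := mem_Wp.mp hw
  have hew := herm_eq_zero hB hwe
  obtain ⟨a, ha⟩ := tr_surj hσ (-(B w w)) (by rw [map_neg, herm_self hB])
  obtain ⟨hAw, hs⟩ := hA w hw
  obtain ⟨a', ha', h1⟩ := hs a ha
  obtain ⟨hAwe, hAwf⟩ := mem_Wp.mp hAw
  have hAew := herm_eq_zero hB hAwe
  -- the conjugates
  have hc1 := conj_eich_levi hσ h.ee hwe hew hlU hlam hle a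
  have hc2 := conj_eich_levi hσ h.ee hAwe hAew hlU' hlam' hle' a'
  have hw2 : σ lam • l w ∈ Wp B e f :=
    (Wp B e f).smul_mem _ (levi_mem_Wp hσ hlU hlam hmu hle hlf hw)
  have hw3 : σ lam' • l' (A w) ∈ Wp B e f :=
    (Wp B e f).smul_mem _ (levi_mem_Wp hσ hlU' hlam' hmu' hle' hlf' hAw)
  have htr2 : lam * σ lam * a + σ (lam * σ lam * a) = -(B (σ lam • l w) (σ lam • l w)) := by
    rw [self_smul, hσ.invol, hlU w w, map_mul, map_mul, hσ.invol]
    linear_combination (lam * σ lam) * ha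
  have htr3 : lam' * σ lam' * a' + σ (lam' * σ lam' * a') =
      -(B (σ lam' • l' (A w)) (σ lam' • l' (A w))) := by
    rw [self_smul, hσ.invol, hlU' (A w) (A w), map_mul, map_mul, hσ.invol]
    linear_combination (lam' * σ lam') * ha'
  obtain ⟨hm4, hs4⟩ := hA _ hw2
  obtain ⟨a₄, ha₄, h4⟩ := hs4 _ htr2
  have hE := eich_mem_SUg (e := e) hB ha
  have hE' := eich_mem_SUg (e := e) hB ha'
  rw [← hc1, mkT_mul mk ((SUg B).mul_mem hl hE) ((SUg B).inv_mem hl), mkT_mul mk hl hE,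
    mkT_inv mk hl, map_mul, map_mul, map_inv, hll', h1, ← mkT_inv mk hl',
    ← mkT_mul mk hl' hE', ← mkT_mul mk ((SUg B).mul_mem hl' hE') ((SUg B).inv_mem hl'),
    hc2] at h4
  exact (mkT_eich_inj hB hk h he0 hw3 hm4 htr3 ha₄ h4).1.symm

end

end Cfsg.Agent.Lib.Helper14_PSULocal4
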