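import Mathlib
import Cfsg.Agent.Lib.Helper14_PSULocal2
import Cfsg.Agent.Lib.Helper14_PSULocal4

/-!
# Semilinearity of the map induced by a normalised automorphism
-/

set_option autoImplicit false
set_option linter.unusedVariables false
set_option linter.unusedSectionVars false

namespace Cfsg.Agent.Lib.Helper14_PSULocal5

open Module Cfsg.Agent.Lib.Helper94_Symp Cfsg.Agent.Lib.Helper94_Herm
  Cfsg.Agent.Lib.Helper94_HermOrth Cfsg.Agent.Lib.Helper94_HermEich
  Cfsg.Agent.Lib.Helper94_HermPara Cfsg.Agent.Lib.Helper13_SUGen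
  Cfsg.Agent.Lib.Helper13_PSUSimple Cfsg.Agent.Lib.Helper46_U3TI
  Cfsg.Agent.Lib.Helper14_PSULocal1 Cfsg.Agent.Lib.Helper14_PSULocal2
  Cfsg.Agent.Lib.Helper14_PSULocal3 Cfsg.Agent.Lib.Helper14_PSULocal4

variable {F V : Type*} [Field F] [AddCommGroup V] [Module F V]
variable {σ : F →+* F} {B : V →ₗ[F] V →ₛₗ[σ] F}
variable {Q : Type*} [Group Q] {mk : ↥(SUg B) →* Q}

/-- The commutant property of the Levi action (proved in `Helper14_PSULocal2`). -/
def Commutant (B : V →ₗ[F] V →ₛₗ[σ] F) (e f : V) : Prop :=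
  ∀ φ : V → V, AddOn (Wp B e f) φ → LeviComm B e f φ → ∃ k : F, ∀ w ∈ Wp B e f, φ w = k • w

lemma isInd_one (e f : V) : IsInd mk e f (1 : Q ≃* Q) id := by
  intro w hw
  exact ⟨hw, fun a ha => ⟨a, ha, rfl⟩⟩

section

variable [FiniteDimensional F V] [Finite Q]
variable (hσ : Invol σ) (hB : IsHerm B) (hN : NondegOn B ⊤)

omit [FiniteDimensional F V] in
include hσ hB in
/-- The induced maps of `α` and `α.symm` are mutually inverse. -/
lemma IsInd.symm_apply (hk : KerScalar mk) {e f : V} (h : HypPair B e f) {α : Q ≃* Q}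
    {A A' : V → V} (hA : IsInd mk e f α A) (hA' : IsInd mk e f α.symm A') {w : V}
    (hw : w ∈ Wp B e f) : A' (A w) = w ∧ A (A' w) = w := by
  have he0 := (hypPair_ne_zero h).1
  constructor
  · exact (IsInd.comp_apply hσ hB hk h he0 hA' hA (isInd_one e f)
      (fun t => (α.symm_apply_apply t).symm) hw).symm
  · exact (IsInd.comp_apply hσ hB hk h he0 hA hA' (isInd_one e f)
      (fun t => (α.apply_symm_apply t).symm) hw).symm

include hσ hB hN in
/-- The map induced by a normalised automorphism is semilinear. -/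
theorem exists_semilinear (hk : KerScalar mk) (hs : Function.Surjective mk)
    (h3 : 3 ≤ finrank F V) {e f : V} (h : HypPair B e f) (hcm : Commutant B e f)
    {α : Q ≃* Q} (hα : Norm mk e f α) {A : V → V} (hA : IsInd mk e f α A) :
    ∃ τ : F →+* F, ∀ (a : F), ∀ w ∈ Wp B e f, A (a • w) = τ a • A w := by
  obtain ⟨he0, hf0⟩ := hypPair_ne_zero h
  have hα' := hα.symm
  obtain ⟨A', hA'⟩ := exists_isInd hσ hB h hα'
  have hinv : ∀ w ∈ Wp B e f, A' (A w) = w ∧ A (A' w) = w :=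
    fun w hw => IsInd.symm_apply hσ hB hk h hA hA' hw
  have hAm : ∀ w ∈ Wp B e f, A w ∈ Wp B e f := fun w hw => (hA w hw).1
  have hAm' : ∀ w ∈ Wp B e f, A' w ∈ Wp B e f := fun w hw => (hA' w hw).1
  have hAadd : ∀ w₁ ∈ Wp B e f, ∀ w₂ ∈ Wp B e f, A (w₁ + w₂) = A w₁ + A w₂ :=
    fun w₁ h₁ w₂ h₂ => IsInd.add hσ hB hk h he0 hA h₁ h₂
  have hAadd' : ∀ w₁ ∈ Wp B e f, ∀ w₂ ∈ Wp B e f, A' (w₁ + w₂) = A' w₁ + A' w₂ :=
    fun w₁ h₁ w₂ h₂ => IsInd.add hσ hB hk h he0 hA' h₁ h₂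
  -- the conjugated scalar maps
  have key : ∀ a : F, ∃ k : F, ∀ w ∈ Wp B e f, A (a • A' w) = k • w := by
    intro a
    apply hcm (fun x => A (a • A' x))
    · refine ⟨fun w hw => hAm _ ((Wp B e f).smul_mem _ (hAm' w hw)), fun w hw w' hw' => ?_⟩
      change A (a • A' (w + w')) = A (a • A' w) + A (a • A' w')
      rw [hAadd' w hw w' hw', smul_add,
        hAadd _ ((Wp B e f).smul_mem _ (hAm' w hw)) _ ((Wp B e f).smul_mem _ (hAm' w' hw'))]
    · intro l lam mu hl hle hlf w hw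
      change A (a • A' (σ lam • l w)) = σ lam • l (A (a • A' w))
      obtain ⟨l'', hl'', hll''⟩ := exists_mkT mk hs (α.symm (mkT mk l))
      obtain ⟨lam'', hle''⟩ := fix_point_of_root hσ hB hN hk h3 h.ee he0 hα'.re hl hl'' hle hll''
      obtain ⟨mu'', hlf''⟩ := fix_point_of_root hσ hB hN hk h3 h.ff hf0 hα'.rf hl hl'' hlf hll''
      have hback : α (mkT mk l'') = mkT mk l := by
        rw [← hll'', MulEquiv.apply_symm_apply]
      have e1 := IsInd.equivariant hσ hB hk h hA' hl hl'' hle hlf hle'' hlf'' hll'' hw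
      have hlam'' := smul_ne_zero_of_apply he0 hle''
      have hmu'' := smul_ne_zero_of_apply hf0 hlf''
      have hx : a • A' w ∈ Wp B e f := (Wp B e f).smul_mem _ (hAm' w hw)
      have e2 := IsInd.equivariant hσ hB hk h hA hl'' hl hle'' hlf'' hle hlf hback hx
      rw [e1, ← e2, map_smul, smul_comm a (σ lam'')]
  choose τ hτ using key
  have hτ' : ∀ a : F, ∀ w ∈ Wp B e f, A (a • w) = τ a • A w := by
    intro a w hw
    have := hτ a (A w) (hAm w hw)
    rwa [(hinv w hw).1] at this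
  -- a nonzero vector of `W`
  have htop : 3 ≤ finrank F (⊤ : Submodule F V) := by rw [finrank_top]; exact h3
  obtain ⟨w₀, -, hw₀0, hw₀e, hw₀f⟩ :=
    Cfsg.Agent.Lib.Helper94_HermTI.exists_ne_zero_orth2 B ⊤ htop e f
  have hw₀ : w₀ ∈ Wp B e f := mem_Wp.mpr ⟨hw₀e, hw₀f⟩
  have hA0 : A 0 = 0 := by
    have := hAadd 0 (Wp B e f).zero_mem 0 (Wp B e f).zero_mem
    rw [add_zero] at this
    exact left_eq_add.mp this
  have hAw₀ : A w₀ ≠ 0 := by
    intro h0
    apply hw₀0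
    rw [← (hinv w₀ hw₀).1, h0]
    have := hAadd' 0 (Wp B e f).zero_mem 0 (Wp B e f).zero_mem
    rw [add_zero] at this
    exact left_eq_add.mp this
  have hcancel : ∀ x y : F, x • A w₀ = y • A w₀ → x = y := by
    intro x y hxy
    have h2 : (x - y) • A w₀ = 0 := by rw [sub_smul, hxy, sub_self]
    rcases smul_eq_zero.mp h2 with h | h
    · exact sub_eq_zero.mp h
    · exact absurd h hAw₀
  have hmem : ∀ a : F, a • w₀ ∈ Wp B e f := fun a => (Wp B e f).smul_mem a hw₀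
  refine ⟨{ toFun := τ, map_one' := ?_, map_mul' := ?_, map_zero' := ?_, map_add' := ?_ },
    hτ'⟩
  · apply hcancel
    rw [← hτ' 1 w₀ hw₀, one_smul, one_smul]
  · intro a b
    apply hcancel
    rw [← hτ' (a * b) w₀ hw₀, mul_smul, hτ' a _ (hmem b), hτ' b w₀ hw₀, smul_smul]
  · apply hcancel
    rw [← hτ' 0 w₀ hw₀, zero_smul, zero_smul, hA0]
  · intro a b
    apply hcancel
    rw [← hτ' (a + b) w₀ hw₀, add_smul, hAadd _ (hmem a) _ (hmem b), hτ' a w₀ hw₀,
      hτ' b w₀ hw₀, add_smul]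

end

end Cfsg.Agent.Lib.Helper14_PSULocal5
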