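import Mathlib
import Cfsg.Agent.Lib.Helper14_PSULocal4
import Cfsg.Agent.Lib.Helper94_HermTrans

/-!
# Automorphisms induced by semilinear isometries, and transitivity on hyperbolic pairs
-/

set_option autoImplicit false
set_option linter.unusedVariables false
set_option linter.unusedSectionVars false

namespace Cfsg.Agent.Lib.Helper14_PSULocal6

open Module Cfsg.Agent.Lib.Helper94_Symp Cfsg.Agent.Lib.Helper94_Herm
  Cfsg.Agent.Lib.Helper94_HermOrth Cfsg.Agent.Lib.Helper94_HermEich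
  Cfsg.Agent.Lib.Helper94_HermPara Cfsg.Agent.Lib.Helper13_SUGen
  Cfsg.Agent.Lib.Helper13_PSUSimple Cfsg.Agent.Lib.Helper46_U3TI
  Cfsg.Agent.Lib.Helper46_U3Center Cfsg.Agent.Lib.Helper94_HermTrans
  Cfsg.Agent.Lib.Helper14_PSULocal1 Cfsg.Agent.Lib.Helper14_PSULocal3
  Cfsg.Agent.Lib.Helper14_PSULocal4

variable {F V : Type*} [Field F] [AddCommGroup V] [Module F V]
variable {σ : F →+* F} {B : V →ₗ[F] V →ₛₗ[σ] F}
variable {Q : Type*} [Group Q] {mk : ↥(SUg B) →* Q}

/-- `φ` is induced by the `τ`-semilinear isometry `T`. -/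
structure SemiAut (mk : ↥(SUg B) →* Q) (φ : Q ≃* Q) (τ : F →+* F) (T : V → V) : Prop where
  add : ∀ x y, T (x + y) = T x + T y
  smul : ∀ (a : F) x, T (a • x) = τ a • T x
  surj : Function.Surjective T
  form : ∀ x y, B (T x) (T y) = τ (B x y)
  spec : ∀ s ∈ SUg B, ∃ s' ∈ SUg B, (∀ x, s' (T x) = T (s x)) ∧ φ (mkT mk s) = mkT mk s'

namespace SemiAut

variable {φ : Q ≃* Q} {τ : F →+* F} {T : V → V} (hT : SemiAut mk φ τ T)
include hT

lemma map_zero : T 0 = 0 := by
  have := hT.add 0 0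
  rw [add_zero] at this
  exact left_eq_add.mp this

lemma map_neg (x : V) : T (-x) = -T x := by
  have := hT.add x (-x)
  rw [add_neg_cancel, hT.map_zero] at this
  exact (neg_eq_of_add_eq_zero_right this.symm).symm

lemma map_sub (x y : V) : T (x - y) = T x - T y := by
  rw [sub_eq_add_neg, hT.add, hT.map_neg, sub_eq_add_neg]

/-- `τ` commutes with the involution. -/
lemma comm (hB : IsHerm B) {e f : V} (h : HypPair B e f) (a : F) : σ (τ a) = τ (σ a) := by
  have h1 : B (T (a • e)) (T f) = τ a := by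
    rw [hT.form, LinearMap.map_smul, LinearMap.smul_apply, h.ef, smul_eq_mul, mul_one]
  have h2 : B (T f) (T (a • e)) = τ (σ a) := by
    rw [hT.form, map_smulₛₗ, h.fe, smul_eq_mul, mul_one]
  rw [← h1, ← hB, h2]

/-- The image of a transvection. -/
lemma utv_image (hB : IsHerm B) {e f : V} (h : HypPair B e f) {v : V} (hv : B v v = 0) {c : F}
    (hc : σ c = -c) :
    σ (τ c) = -τ c ∧ φ (mkT mk (utv B v c)) = mkT mk (utv B (T v) (τ c)) := by
  have hc' : σ (τ c) = -τ c := by rw [hT.comm hB h, hc, _root_.map_neg]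
  refine ⟨hc', ?_⟩
  obtain ⟨s', hs', hs'T, hφ⟩ := hT.spec _ (utv_mem_SUg hB v hc)
  rw [hφ]
  congr 1
  ext y
  obtain ⟨x, rfl⟩ := hT.surj y
  have hTv : B (T v) (T v) = 0 := by rw [hT.form, hv, _root_.map_zero]
  rw [hs'T, utv_apply B hv, utv_apply B hTv, hT.add, hT.smul, hT.form, _root_.map_mul]

/-- The image of an Eichler element. -/
lemma eich_image (hB : IsHerm B) {e f : V} (h : HypPair B e f) {w : V} (hwe : B w e = 0) {a : F}
    (ha : a + σ a = -(B w w)) :
    τ a + σ (τ a) = -(B (T w) (T w)) ∧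
      φ (mkT mk (eich B e w a)) = mkT mk (eich B (T e) (T w) (τ a)) := by
  have ha' : τ a + σ (τ a) = -(B (T w) (T w)) := by
    rw [hT.comm hB h, ← _root_.map_add, ha, _root_.map_neg, hT.form]
  refine ⟨ha', ?_⟩
  obtain ⟨s', hs', hs'T, hφ⟩ := hT.spec _ (eich_mem_SUg (e := e) hB ha)
  rw [hφ]
  congr 1
  ext y
  obtain ⟨x, rfl⟩ := hT.surj y
  have hew : B e w = 0 := herm_eq_zero hB hwe
  have h1 : B (T e) (T e) = 0 := by rw [hT.form, h.ee, _root_.map_zero]
  have h2 : B (T w) (T e) = 0 := by rw [hT.form, hwe, _root_.map_zero]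
  have h3 : B (T e) (T w) = 0 := by rw [hT.form, hew, _root_.map_zero]
  rw [hs'T, eich_apply B h.ee hwe hew, eich_apply B h1 h2 h3, hT.add, hT.map_sub, hT.add,
    hT.smul, hT.smul, hT.smul, hT.form, hT.form, _root_.map_mul]

end SemiAut

section

variable (hσ : Invol σ) (hB : IsHerm B)

include hσ hB in
/-- A semilinear isometry scaling `e` and `f` induces a normalised automorphism, and its induced
map on `W` is `w ↦ σ lam • T w`. -/
lemma SemiAut.norm_isInd {φ : Q ≃* Q} {τ : F →+* F} {T : V → V} (hT : SemiAut mk φ τ T)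
    {e f : V} (h : HypPair B e f) {lam mu : F} (hlam : lam ≠ 0) (hmu : mu ≠ 0)
    (hTe : T e = lam • e) (hTf : T f = mu • f) :
    Norm mk e f φ ∧ IsInd mk e f φ (fun w => σ lam • T w) := by
  have hs : ∀ x : F, x ≠ 0 → σ x ≠ 0 := by
    intro x hx h0
    apply hx
    have := congrArg σ h0
    rwa [hσ.invol, _root_.map_zero] at this
  have hTW : ∀ w ∈ Wp B e f, T w ∈ Wp B e f := by
    intro w hw
    obtain ⟨hwe, hwf⟩ := mem_Wp.mp hw
    refine mem_Wp.mpr ⟨?_, ?_⟩
    · have := hT.form w e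
      rw [hTe, map_smulₛₗ, hwe, _root_.map_zero, smul_eq_mul] at this
      exact (mul_eq_zero.mp this).resolve_left (hs _ hlam)
    · have := hT.form w f
      rw [hTf, map_smulₛₗ, hwf, _root_.map_zero, smul_eq_mul] at this
      exact (mul_eq_zero.mp this).resolve_left (hs _ hmu)
  have hroot : ∀ (v : V) (k : F), B v v = 0 → T v = k • v →
      ∀ t ∈ rootSet mk v, φ t ∈ rootSet mk v := by
    rintro v k hv hTv _ ⟨c, hc, rfl⟩
    obtain ⟨hc', himg⟩ := hT.utv_image hB h hv hc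
    rw [himg, hTv, utv_smul]
    refine ⟨_, ?_, rfl⟩
    rw [map_mul, map_mul, hσ.invol, hc']
    ring
  have hE : ∀ w ∈ Wp B e f, ∀ a, a + σ a = -(B w w) →
      lam * σ lam * τ a + σ (lam * σ lam * τ a) = -(B (σ lam • T w) (σ lam • T w)) ∧
      φ (mkT mk (eich B e w a)) = mkT mk (eich B e (σ lam • T w) (lam * σ lam * τ a)) := by
    intro w hw a ha
    obtain ⟨hwe, hwf⟩ := mem_Wp.mp hw
    obtain ⟨hTwe, hTwf⟩ := mem_Wp.mp (hTW w hw)
    obtain ⟨ha', himg⟩ := hT.eich_image hB h hwe ha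
    constructor
    · rw [self_smul, hσ.invol, map_mul, map_mul, hσ.invol]
      linear_combination (lam * σ lam) * ha'
    · rw [himg, hTe, eich_smul_left' hσ h.ee hTwe (herm_eq_zero hB hTwe)]
  refine ⟨⟨hroot e lam h.ee hTe, hroot f mu h.ff hTf, ?_⟩, ?_⟩
  · rintro _ ⟨g, hgS, hgu, rfl⟩
    obtain ⟨w, a, hwe, hwf, ha, rfl⟩ := (mem_unip_iff hB h g).mp hgu
    have hw := mem_Wp.mpr ⟨hwe, hwf⟩
    obtain ⟨htr, himg⟩ := hE w hw a ha
    have hmem := (Wp B e f).smul_mem (σ lam) (hTW w hw)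
    exact ⟨_, eich_mem_SUg hB htr,
      eich_mem_unip hB h.ee (herm_eq_zero hB (mem_Wp.mp hmem).1) htr, himg⟩
  · intro w hw
    refine ⟨(Wp B e f).smul_mem (σ lam) (hTW w hw), fun a ha => ?_⟩
    obtain ⟨htr, himg⟩ := hE w hw a ha
    exact ⟨_, htr, himg⟩

end

lemma SemiAut.comp {φ ψ : Q ≃* Q} {τ ρ : F →+* F} {T S : V → V} (hT : SemiAut mk φ τ T)
    (hS : SemiAut mk ψ ρ S) : SemiAut mk (φ * ψ) (τ.comp ρ) (T ∘ S) where
  add x y := by simp only [Function.comp_apply, hS.add, hT.add]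
  smul a x := by simp only [Function.comp_apply, hS.smul, hT.smul, RingHom.comp_apply]
  surj := hT.surj.comp hS.surj
  form x y := by simp only [Function.comp_apply, hT.form, hS.form, RingHom.comp_apply]
  spec s hs := by
    obtain ⟨s', hs', h1, h2⟩ := hS.spec s hs
    obtain ⟨s'', hs'', h3, h4⟩ := hT.spec s' hs'
    refine ⟨s'', hs'', fun x => ?_, ?_⟩
    · simp only [Function.comp_apply, h3, h1]
    · rw [MulAut.mul_apply, h2, h4]

/-! ### Transitivity on hyperbolic pairs -/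

section

variable (hσ : Invol σ) (hB : IsHerm B) (hN : NondegOn B ⊤)

include hσ hB hN in
/-- The isometry group is transitive on hyperbolic pairs. -/
theorem exists_uG_map_pair {e f e' f' : V} (h : HypPair B e f) (h' : HypPair B e' f') :
    ∃ g ∈ uG B, g e' = e ∧ g f' = f := by
  obtain ⟨he0, hf0⟩ := hypPair_ne_zero h
  obtain ⟨he0', hf0'⟩ := hypPair_ne_zero h'
  -- move `e'` to a multiple of `e`
  obtain ⟨t, ht, μ, hμ0, hte⟩ := exists_tv_move_point hσ hB hN (u := e') (u' := e)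
    Submodule.mem_top Submodule.mem_top he0' he0 h'.ee h.ee
  have htU : t ∈ uG B := tvGroup_le_uG hB ⊤ ht
  have hsμ : σ μ ≠ 0 := by
    intro h0
    apply hμ0
    have := congrArg σ h0
    rwa [hσ.invol, map_zero] at this
  have hμi : μ⁻¹ ≠ 0 := inv_ne_zero hμ0
  set d := dgE h hμi hsμ one_ne_zero with hd
  have hdU : d ∈ uG B := dgE_mem_uG hσ hB h hμi hsμ one_ne_zero
    (by rw [hσ.invol, inv_mul_cancel₀ hμ0]) (by simp)
  have hdte : (d * t) e' = e := by
    rw [LinearEquiv.mul_apply, hte, map_smul, hd, dgE_e, smul_smul, mul_inv_cancel₀ hμ0,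
      one_smul]
  have hdtU : d * t ∈ uG B := (uG B).mul_mem hdU htU
  set f₃ := (d * t) f' with hf₃
  have hef₃ : B e f₃ = 1 := by rw [← hdte, hf₃, hdtU, h'.ef]
  have hf₃e : B f₃ e = 1 := by rw [hB e f₃, hef₃, map_one]
  have hf₃i : B f₃ f₃ = 0 := by rw [hf₃, hdtU, h'.ff]
  -- `f₃ = f + w + a e`
  set w := perpPart B e f f₃ with hw
  set a := B f₃ f with ha
  have hwe : B w e = 0 := perpPart_e h _
  have hwf : B w f = 0 := perpPart_f h _
  have hew : B e w = 0 := herm_eq_zero hB hwe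
  have hfw : B f w = 0 := herm_eq_zero hB hwf
  have hf₃eq : f₃ = f + w + a • e := by
    have := eq_add_perpPart (B := B) e f f₃
    rw [hf₃e, one_smul] at this
    conv_lhs => rw [this]
    abel
  have htr : a + σ a = -(B w w) := by
    have h0 := hf₃i
    rw [hf₃eq] at h0
    simp only [map_add, map_smul, map_smulₛₗ, LinearMap.add_apply, LinearMap.smul_apply,
      smul_eq_mul, h.ee, h.ff, h.ef, h.fe, hwe, hwf, hew, hfw, mul_zero, mul_one, add_zero,
      zero_add] at h0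
    linear_combination h0
  have hEU : eich B e w a ∈ uG B := eich_mem_uG hB htr
  refine ⟨(eich B e w a)⁻¹ * (d * t), (uG B).mul_mem ((uG B).inv_mem hEU) hdtU, ?_, ?_⟩
  · rw [LinearEquiv.mul_apply, hdte]
    have := inv_apply_apply' (eich B e w a) e
    rwa [eich_e h.ee hwe hew] at this
  · rw [LinearEquiv.mul_apply, ← hf₃]
    have := inv_apply_apply' (eich B e w a) f
    rwa [eich_f h hwe hew hfw, ← hf₃eq] at this

end

end Cfsg.Agent.Lib.Helper14_PSULocal6
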