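import Mathlib
import Cfsg.Agent.Lib.Helper14_PSULocal5
import Cfsg.Agent.Lib.Helper14_PSULocal6

/-!
# The induced map of a normalised automorphism is a similitude
-/

set_option autoImplicit false
set_option linter.unusedVariables false
set_option linter.unusedSectionVars false

namespace Cfsg.Agent.Lib.Helper14_PSULocal7

open Module Cfsg.Agent.Lib.Helper94_Symp Cfsg.Agent.Lib.Helper94_Herm
  Cfsg.Agent.Lib.Helper94_HermOrth Cfsg.Agent.Lib.Helper94_HermEich
  Cfsg.Agent.Lib.Helper94_HermPara Cfsg.Agent.Lib.Helper13_SUGen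
  Cfsg.Agent.Lib.Helper13_PSUSimple Cfsg.Agent.Lib.Helper46_U3TI
  Cfsg.Agent.Lib.Helper46_U3Center
  Cfsg.Agent.Lib.Helper14_PSULocal1 Cfsg.Agent.Lib.Helper14_PSULocal2
  Cfsg.Agent.Lib.Helper14_PSULocal3 Cfsg.Agent.Lib.Helper14_PSULocal4
  Cfsg.Agent.Lib.Helper14_PSULocal5 Cfsg.Agent.Lib.Helper14_PSULocal6

variable {F V : Type*} [Field F] [AddCommGroup V] [Module F V]
variable {σ : F →+* F} {B : V →ₗ[F] V →ₛₗ[σ] F}
variable {Q : Type*} [Group Q] {mk : ↥(SUg B) →* Q}

section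

variable (hσ : Invol σ) (hB : IsHerm B) (hN : NondegOn B ⊤)

include hσ hB in
/-- The commutator relation: the action on the transvections at `e` is determined by the
induced map. -/
lemma IsInd.comm_rel {e f : V} (h : HypPair B e f) {α : Q ≃* Q} {A : V → V}
    (hA : IsInd mk e f α A) {w w' : V} (hw : w ∈ Wp B e f) (hw' : w' ∈ Wp B e f) :
    α (mkT mk (utv B e (B w w' - B w' w))) =
      mkT mk (utv B e (B (A w) (A w') - B (A w') (A w))) := by
  obtain ⟨hwe, hwf⟩ := mem_Wp.mp hw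
  obtain ⟨hwe', hwf'⟩ := mem_Wp.mp hw'
  obtain ⟨a, ha⟩ := tr_surj hσ (-(B w w)) (by rw [map_neg, herm_self hB])
  obtain ⟨a', ha'⟩ := tr_surj hσ (-(B w' w')) (by rw [map_neg, herm_self hB])
  obtain ⟨hAw, hs⟩ := hA w hw
  obtain ⟨hAw', hs'⟩ := hA w' hw'
  obtain ⟨z, hz, h1⟩ := hs a ha
  obtain ⟨z', hz', h1'⟩ := hs' a' ha'
  have hskew : ∀ x y : V, σ (B x y - B y x) = -(B x y - B y x) := by
    intro x y
    rw [map_sub, ← hB x y, ← hB y x]; ring
  have hE := eich_mem_SUg (e := e) hB ha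
  have hE' := eich_mem_SUg (e := e) hB ha'
  have hF := eich_mem_SUg (e := e) hB hz
  have hF' := eich_mem_SUg (e := e) hB hz'
  have hu := utv_mem_SUg hB e (hskew w w')
  have hu2 := utv_mem_SUg hB e (hskew (A w) (A w'))
  have e1 := congrArg (mkT mk) (eich_comm' hB h.ee hwe hwe' a a')
  rw [mkT_mul mk hE hE', mkT_mul mk ((SUg B).mul_mem hE' hE) hu, mkT_mul mk hE' hE] at e1
  have e2 := congrArg (mkT mk) (eich_comm' hB h.ee (mem_Wp.mp hAw).1 (mem_Wp.mp hAw').1 z z')
  rw [mkT_mul mk hF hF', mkT_mul mk ((SUg B).mul_mem hF' hF) hu2, mkT_mul mk hF' hF] at e2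
  have e3 := congrArg α e1
  rw [map_mul, map_mul, map_mul, h1, h1', e2] at e3
  exact (mul_left_cancel e3).symm

include hσ hB hN in
/-- A linear induced map preserves orthogonality. -/
lemma IsInd.perp (hk : KerScalar mk) {e f : V} (h : HypPair B e f) {α : Q ≃* Q} {A : V → V}
    (hA : IsInd mk e f α A) (hlin : ∀ (a : F), ∀ w ∈ Wp B e f, A (a • w) = a • A w)
    {w w' : V} (hw : w ∈ Wp B e f) (hw' : w' ∈ Wp B e f) (hww' : B w w' = 0) :
    B (A w) (A w') = 0 := by
  obtain ⟨he0, hf0⟩ := hypPair_ne_zero h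
  have hskew : ∀ x y : V, σ (B x y - B y x) = -(B x y - B y x) := by
    intro x y
    rw [map_sub, ← hB x y, ← hB y x]; ring
  -- for every scalar `t`, `t * B (A w) (A w')` is fixed by `σ`
  have key : ∀ t : F, σ (t * B (A w) (A w')) = t * B (A w) (A w') := by
    intro t
    have htw : t • w ∈ Wp B e f := (Wp B e f).smul_mem t hw
    have h0 : B (t • w) w' = 0 := by rw [map_smul, LinearMap.smul_apply, hww', smul_zero]
    have h0' : B w' (t • w) = 0 := herm_eq_zero hB h0
    have := IsInd.comm_rel hσ hB h hA htw hw'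
    rw [h0, h0', sub_zero] at this
    have hone : utv B e (0 : F) = 1 := by
      ext x; rw [utv_apply B h.ee]; simp
    rw [hone, mkT_one, map_one] at this
    by_contra hne
    have hne' : B (A (t • w)) (A w') - B (A w') (A (t • w)) ≠ 0 := by
      rw [hlin t w hw, map_smul, LinearMap.smul_apply, smul_eq_mul, map_smulₛₗ, smul_eq_mul,
        hB (A w) (A w')]
      intro h5
      apply hne
      rw [map_mul]
      linear_combination -h5
    exact mkT_utv_ne_one hσ hB hN hk h.ee he0 hne' (hskew _ _) this.symm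
  by_contra hne
  obtain ⟨θ, hθ⟩ := hσ.ne_id
  have := key (θ / B (A w) (A w'))
  rw [div_mul_cancel₀ θ hne] at this
  exact hθ this

include hσ hB hN in
/-- A linear bijection of `W` preserving orthogonality is a similitude, with multiplier in the
fixed field. -/
theorem conformal [Finite F] {e f : V} (h : HypPair B e f) {A A' : V → V}
    (hAm : ∀ w ∈ Wp B e f, A w ∈ Wp B e f)
    (hadd : ∀ w ∈ Wp B e f, ∀ w' ∈ Wp B e f, A (w + w') = A w + A w')
    (hlin : ∀ (a : F), ∀ w ∈ Wp B e f, A (a • w) = a • A w)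
    (hinv : ∀ w ∈ Wp B e f, A' w ∈ Wp B e f ∧ A (A' w) = w ∧ A' (A w) = w)
    (hperp : ∀ w ∈ Wp B e f, ∀ w' ∈ Wp B e f, B w w' = 0 → B (A w) (A w') = 0)
    {w₀ : V} (hw₀ : w₀ ∈ Wp B e f) (hw₀0 : w₀ ≠ 0) :
    ∃ c : F, c ≠ 0 ∧ σ c = c ∧ ∀ w ∈ Wp B e f, ∀ w' ∈ Wp B e f,
      B (A w) (A w') = c * B w w' := by
  have hW := nondegOn_Wp hB hN h
  have hA0 : A 0 = 0 := by
    have := hlin 0 0 (Wp B e f).zero_mem
    rwa [zero_smul, zero_smul] at this
  have hsub : ∀ w ∈ Wp B e f, ∀ w' ∈ Wp B e f, A (w - w') = A w - A w' := by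
    intro w hw w' hw'
    have h1 : A (-w') = -A w' := by
      have := hlin (-1) w' hw'
      rwa [neg_one_smul, neg_one_smul] at this
    rw [sub_eq_add_neg, hadd w hw _ ((Wp B e f).neg_mem hw'), h1, sub_eq_add_neg]
  -- Step 1
  have step1 : ∀ w' : V, ∃ c : F, w' ∈ Wp B e f → w' ≠ 0 →
      ∀ w ∈ Wp B e f, B (A w) (A w') = c * B w w' := by
    intro w'
    by_cases hw' : w' ∈ Wp B e f ∧ w' ≠ 0
    · obtain ⟨hw', hw'0⟩ := hw'
      obtain ⟨y, hy, hyne⟩ := hW w' hw' hw'0
      have hyw' : B y w' ≠ 0 := herm_ne_zero hσ hB hyne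
      set w₁ := (B y w')⁻¹ • y with hw₁
      have hw₁W : w₁ ∈ Wp B e f := (Wp B e f).smul_mem _ hy
      have hw₁w' : B w₁ w' = 1 := by
        rw [hw₁, map_smul, LinearMap.smul_apply, smul_eq_mul, inv_mul_cancel₀ hyw']
      refine ⟨B (A w₁) (A w'), fun _ _ w hw => ?_⟩
      have hx : w - B w w' • w₁ ∈ Wp B e f :=
        (Wp B e f).sub_mem hw ((Wp B e f).smul_mem _ hw₁W)
      have hx0 : B (w - B w w' • w₁) w' = 0 := by
        rw [map_sub, LinearMap.sub_apply, map_smul, LinearMap.smul_apply, hw₁w', smul_eq_mul,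
          mul_one, sub_self]
      have := hperp _ hx w' hw' hx0
      rw [hsub w hw _ ((Wp B e f).smul_mem _ hw₁W), hlin _ w₁ hw₁W, map_sub,
        LinearMap.sub_apply, map_smul, LinearMap.smul_apply, smul_eq_mul] at this
      linear_combination this
    · exact ⟨0, fun h1 h2 => absurd ⟨h1, h2⟩ hw'⟩
  choose c hc using step1
  -- Step 2
  have step2 : ∀ w ∈ Wp B e f, ∀ w' ∈ Wp B e f, B w w' ≠ 0 → σ (c w') = c w := by
    intro w hw w' hw' hne
    have hw0 : w ≠ 0 := by
      rintro rfl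
      simp at hne
    have hw'0 : w' ≠ 0 := by
      rintro rfl
      simp at hne
    have h1 := hc w' hw' hw'0 w hw
    have h2 := hc w hw hw0 w' hw'
    rw [hB (A w) (A w'), h1, hB w w', map_mul] at h2
    have hne' : σ (B w w') ≠ 0 := by
      intro h0
      apply hne
      have := congrArg σ h0
      rwa [hσ.invol, map_zero] at this
    exact mul_right_cancel₀ hne' h2
  -- Step 3
  have step3 : ∀ w₁ ∈ Wp B e f, w₁ ≠ 0 → ∀ w₂ ∈ Wp B e f, w₂ ≠ 0 → c w₁ = c w₂ := by
    intro w₁ hw₁ hw₁0 w₂ hw₂ hw₂0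
    have h1 : ∃ x ∈ Wp B e f, B x w₁ ≠ 0 := by
      obtain ⟨y, hy, hyne⟩ := hW w₁ hw₁ hw₁0
      exact ⟨y, hy, herm_ne_zero hσ hB hyne⟩
    have h2 : ∃ x ∈ Wp B e f, B x w₂ ≠ 0 := by
      obtain ⟨y, hy, hyne⟩ := hW w₂ hw₂ hw₂0
      exact ⟨y, hy, herm_ne_zero hσ hB hyne⟩
    obtain ⟨z, hz, hz1, hz2⟩ :=
      Cfsg.Agent.Lib.Helper94_HermTI.exists_both_ne_zero' B (Wp B e f) h1 h2
    have e1 := step2 z hz w₁ hw₁ hz1
    have e2 := step2 z hz w₂ hw₂ hz2
    have := e1.trans e2.symm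
    have h3 := congrArg σ this
    rwa [hσ.invol, hσ.invol] at h3
  have step4 : ∀ w ∈ Wp B e f, ∀ w' ∈ Wp B e f, B (A w) (A w') = c w₀ * B w w' := by
    intro w hw w' hw'
    by_cases hw'0 : w' = 0
    · subst hw'0
      rw [hA0]
      simp
    · rw [step3 w₀ hw₀ hw₀0 w' hw' hw'0]
      exact hc w' hw' hw'0 w hw
  refine ⟨c w₀, ?_, ?_, step4⟩
  · intro h0
    have hAw₀ : A w₀ ≠ 0 := by
      intro h1
      apply hw₀0
      rw [← (hinv w₀ hw₀).2.2, h1]
      have := (hinv 0 (Wp B e f).zero_mem).2.2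
      rwa [hA0] at this
    obtain ⟨y, hy, hyne⟩ := hW _ (hAm w₀ hw₀) hAw₀
    apply hyne
    rw [← (hinv y hy).2.1, step4 w₀ hw₀ _ (hinv y hy).1, h0, zero_mul]
  · obtain ⟨d, hd, hdne⟩ := exists_aniso hσ hB hW hw₀ hw₀0
    have hd0 : d ≠ 0 := by
      rintro rfl
      simp at hdne
    rw [step3 w₀ hw₀ hw₀0 d hd hd0]
    exact step2 d hd d hd hdne

/-! ### The Levi element attached to a similitude of `W` -/

include hB in
lemma form_decomp {e f : V} (h : HypPair B e f) (x y : V) :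
    B x y = B x f * σ (B y e) + B x e * σ (B y f) +
      B (perpPart B e f x) (perpPart B e f y) := by
  simp only [perpPart, map_sub, map_smul, map_smulₛₗ, LinearMap.sub_apply, LinearMap.smul_apply,
    smul_eq_mul, h.ee, h.ff, h.ef, h.fe, mul_zero, mul_one, sub_zero]
  rw [hB y e, hB y f]
  ring

lemma perpPart_add (e f x y : V) :
    perpPart B e f (x + y) = perpPart B e f x + perpPart B e f y := by
  simp only [perpPart, map_add, LinearMap.add_apply, add_smul]
  abel

lemma perpPart_smul (e f : V) (a : F) (x : V) :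
    perpPart B e f (a • x) = a • perpPart B e f x := by
  simp only [perpPart, map_smul, LinearMap.smul_apply, smul_eq_mul, smul_sub, smul_smul]

include hσ hB hN in
/-- A similitude of `W` with multiplier `lam * σ lam` comes from an isometry of `V` scaling
`e` by `lam`. -/
theorem exists_levi_of_similitude [FiniteDimensional F V] {e f : V} (h : HypPair B e f)
    {A : V → V} (hAm : ∀ w ∈ Wp B e f, A w ∈ Wp B e f)
    (hadd : ∀ w ∈ Wp B e f, ∀ w' ∈ Wp B e f, A (w + w') = A w + A w')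
    (hlin : ∀ (a : F), ∀ w ∈ Wp B e f, A (a • w) = a • A w) {lam : F} (hlam : lam ≠ 0)
    (hsim : ∀ w ∈ Wp B e f, ∀ w' ∈ Wp B e f, B (A w) (A w') = lam * σ lam * B w w') :
    ∃ d ∈ uG B, d e = lam • e ∧ d f = (σ lam)⁻¹ • f ∧ ∀ w ∈ Wp B e f, σ lam • d w = A w := by
  have hs : σ lam ≠ 0 := by
    intro h0
    apply hlam
    have := congrArg σ h0
    rwa [hσ.invol, map_zero] at this
  have hA0 : A 0 = 0 := by
    have := hlin 0 0 (Wp B e f).zero_mem
    rwa [zero_smul, zero_smul] at this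
  let D : V →ₗ[F] V :=
    { toFun := fun x => (lam * B x f) • e + ((σ lam)⁻¹ * B x e) • f +
        (σ lam)⁻¹ • A (perpPart B e f x)
      map_add' := by
        intro x y
        rw [perpPart_add, hadd _ (perpPart_mem_Wp h x) _ (perpPart_mem_Wp h y)]
        simp only [map_add, LinearMap.add_apply]
        module
      map_smul' := by
        intro a x
        rw [perpPart_smul, hlin a _ (perpPart_mem_Wp h x)]
        simp only [map_smul, LinearMap.smul_apply, smul_eq_mul, RingHom.id_apply]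
        module }
  have hD : ∀ x, D x = (lam * B x f) • e + ((σ lam)⁻¹ * B x e) • f +
      (σ lam)⁻¹ • A (perpPart B e f x) := fun x => rfl
  have hiso : ∀ x y, B (D x) (D y) = B x y := by
    intro x y
    have hpx := hAm _ (perpPart_mem_Wp h x)
    have hpy := hAm _ (perpPart_mem_Wp h y)
    obtain ⟨h1, h2⟩ := mem_Wp.mp hpx
    obtain ⟨h3, h4⟩ := mem_Wp.mp hpy
    have h3' := herm_eq_zero hB h3
    have h4' := herm_eq_zero hB h4
    rw [hD, hD, form_decomp hB h x y]
    simp only [map_add, map_smul, map_smulₛₗ, LinearMap.add_apply, LinearMap.smul_apply,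
      smul_eq_mul, h.ee, h.ff, h.ef, h.fe, h1, h2, h3', h4', mul_zero, mul_one, add_zero,
      zero_add, map_mul, map_inv₀, hσ.invol,
      hsim _ (perpPart_mem_Wp h x) _ (perpPart_mem_Wp h y)]
    field_simp
    ring
  have hinj : Function.Injective D := by
    rw [← LinearMap.ker_eq_bot, LinearMap.ker_eq_bot']
    intro x hx
    by_contra hx0
    obtain ⟨y, -, hy⟩ := hN x Submodule.mem_top hx0
    apply hy
    rw [← hiso x y, hx]
    simp
  have hap : ∀ x, LinearEquiv.ofInjectiveEndo D hinj x = D x := fun x => by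
    rw [LinearEquiv.coe_ofInjectiveEndo]
  refine ⟨LinearEquiv.ofInjectiveEndo D hinj, fun x y => ?_, ?_, ?_, ?_⟩
  · rw [hap, hap]
    exact hiso x y
  · rw [hap, hD]
    have : perpPart B e f e = 0 := by
      simp [perpPart, h.ee, h.ef]
    rw [this, hA0, h.ee, h.ef]
    simp
  · rw [hap, hD]
    have : perpPart B e f f = 0 := by
      simp [perpPart, h.ff, h.fe]
    rw [this, hA0, h.ff, h.fe]
    simp
  · intro w hw
    obtain ⟨hwe, hwf⟩ := mem_Wp.mp hw
    rw [hap, hD, perpPart_of_mem hw, hwe, hwf]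
    simp only [mul_zero, zero_smul, zero_add]
    rw [smul_smul, mul_inv_cancel₀ hs, one_smul]

end

end Cfsg.Agent.Lib.Helper14_PSULocal7
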