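import Mathlib
import Cfsg.Agent.Lib.Helper14_PSULocal7

/-!
# Killing the twist: an automorphism inducing the identity on `W` is trivial on the Eichler group
-/

set_option autoImplicit false
set_option linter.unusedVariables false
set_option linter.unusedSectionVars false

namespace Cfsg.Agent.Lib.Helper14_PSULocal8

open Module Cfsg.Agent.Lib.Helper94_Symp Cfsg.Agent.Lib.Helper94_Herm
  Cfsg.Agent.Lib.Helper94_HermOrth Cfsg.Agent.Lib.Helper94_HermEich
  Cfsg.Agent.Lib.Helper94_HermPara Cfsg.Agent.Lib.Helper13_SUGen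
  Cfsg.Agent.Lib.Helper13_PSUSimple Cfsg.Agent.Lib.Helper46_U3TI
  Cfsg.Agent.Lib.Helper46_U3Center
  Cfsg.Agent.Lib.Helper14_PSULocal1 Cfsg.Agent.Lib.Helper14_PSULocal2
  Cfsg.Agent.Lib.Helper14_PSULocal3 Cfsg.Agent.Lib.Helper14_PSULocal4
  Cfsg.Agent.Lib.Helper14_PSULocal5 Cfsg.Agent.Lib.Helper14_PSULocal6
  Cfsg.Agent.Lib.Helper14_PSULocal7

variable {F V : Type*} [Field F] [AddCommGroup V] [Module F V]
variable {σ : F →+* F} {B : V →ₗ[F] V →ₛₗ[σ] F}
variable {Q : Type*} [Group Q] {mk : ↥(SUg B) →* Q}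

section

variable (hσ : Invol σ) (hB : IsHerm B) (hN : NondegOn B ⊤)

include hσ hB hN in
/-- (T1) If the induced map is the identity, the transvections at `e` are fixed. -/
lemma fix_utv_e {e f : V} (h : HypPair B e f) {α : Q ≃* Q}
    (hA : IsInd mk e f α id) {w₀ : V} (hw₀ : w₀ ∈ Wp B e f) (hw₀0 : w₀ ≠ 0) {c : F}
    (hc : σ c = -c) : α (mkT mk (utv B e c)) = mkT mk (utv B e c) := by
  have hW := nondegOn_Wp hB hN h
  obtain ⟨d, hd, hdne⟩ := exists_aniso hσ hB hW hw₀ hw₀0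
  have hb : σ (B d d) = B d d := herm_self hB d
  have hc1 : σ (c / B d d) = -(c / B d d) := by
    rw [map_div₀, hc, hb]; ring
  obtain ⟨t, ht⟩ := Cfsg.Agent.Lib.Helper94_HermTI.exists_sub_conj hσ hc1
  have := IsInd.comm_rel hσ hB h hA ((Wp B e f).smul_mem t hd) hd
  simp only [id] at this
  have e1 : B (t • d) d - B d (t • d) = c := by
    rw [map_smul, LinearMap.smul_apply, map_smulₛₗ, smul_eq_mul, smul_eq_mul, ← sub_mul, ht,
      div_mul_cancel₀ c hdne]
  rwa [e1] at this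

include hσ hB hN in
/-- (T2) The twist. -/
lemma exists_zeta {e f : V} (h : HypPair B e f) {α : Q ≃* Q}
    (hA : IsInd mk e f α id) {w₀ : V} (hw₀ : w₀ ∈ Wp B e f) (hw₀0 : w₀ ≠ 0) :
    ∃ ζ : V → F, ∀ w ∈ Wp B e f, σ (ζ w) = -ζ w ∧ ∀ a, a + σ a = -(B w w) →
      α (mkT mk (eich B e w a)) = mkT mk (eich B e w (a + ζ w)) := by
  have key : ∀ w : V, ∃ z : F, w ∈ Wp B e f → (σ z = -z ∧ ∀ a, a + σ a = -(B w w) →
      α (mkT mk (eich B e w a)) = mkT mk (eich B e w (a + z))) := by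
    intro w
    by_cases hw : w ∈ Wp B e f
    · obtain ⟨hwe, hwf⟩ := mem_Wp.mp hw
      have hew := herm_eq_zero hB hwe
      obtain ⟨a₀, ha₀⟩ := tr_surj hσ (-(B w w)) (by rw [map_neg, herm_self hB])
      obtain ⟨-, hs⟩ := hA w hw
      obtain ⟨a₀', ha₀', h1⟩ := hs a₀ ha₀
      simp only [id] at ha₀' h1
      refine ⟨a₀' - a₀, fun _ => ⟨?_, fun a ha => ?_⟩⟩
      · rw [map_sub]; linear_combination ha₀' - ha₀
      · have hc : σ (a - a₀) = -(a - a₀) := by
          rw [map_sub]; linear_combination ha - ha₀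
        have e1 : eich B e w a = eich B e w a₀ * utv B e (a - a₀) := by
          rw [eich_mul_utv h.ee hwe hew]; congr 1; ring
        rw [e1, mkT_mul mk (eich_mem_SUg hB ha₀) (utv_mem_SUg hB e hc), map_mul, h1,
          fix_utv_e hσ hB hN h hA hw₀ hw₀0 hc,
          ← mkT_mul mk (eich_mem_SUg hB ha₀') (utv_mem_SUg hB e hc),
          eich_mul_utv h.ee hwe hew]
        congr 2
        ring
    · exact ⟨0, fun h' => absurd h' hw⟩
  choose ζ hζ using key
  exact ⟨ζ, fun w hw => hζ w hw⟩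

include hσ hB in
/-- (T3) The twist is additive. -/
lemma zeta_add (hk : KerScalar mk) {e f : V} (h : HypPair B e f) {α : Q ≃* Q} {ζ : V → F}
    (hζ : ∀ w ∈ Wp B e f, σ (ζ w) = -ζ w ∧ ∀ a, a + σ a = -(B w w) →
      α (mkT mk (eich B e w a)) = mkT mk (eich B e w (a + ζ w)))
    {w₁ w₂ : V} (hw₁ : w₁ ∈ Wp B e f) (hw₂ : w₂ ∈ Wp B e f) :
    ζ (w₁ + w₂) = ζ w₁ + ζ w₂ := by
  have he0 := (hypPair_ne_zero h).1
  obtain ⟨hwe₁, hwf₁⟩ := mem_Wp.mp hw₁
  obtain ⟨hwe₂, hwf₂⟩ := mem_Wp.mp hw₂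
  obtain ⟨a₁, ha₁⟩ := tr_surj hσ (-(B w₁ w₁)) (by rw [map_neg, herm_self hB])
  obtain ⟨a₂, ha₂⟩ := tr_surj hσ (-(B w₂ w₂)) (by rw [map_neg, herm_self hB])
  have hw₁₂ := (Wp B e f).add_mem hw₁ hw₂
  have htr := tr_add hσ hB ha₁ ha₂
  have h12 := (hζ _ hw₁₂).2 _ htr
  have ha₁' : (a₁ + ζ w₁) + σ (a₁ + ζ w₁) = -(B w₁ w₁) := by
    rw [map_add, (hζ w₁ hw₁).1]; linear_combination ha₁
  have ha₂' : (a₂ + ζ w₂) + σ (a₂ + ζ w₂) = -(B w₂ w₂) := by
    rw [map_add, (hζ w₂ hw₂).1]; linear_combination ha₂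
  have htr' : (a₁ + a₂ - B w₂ w₁ + ζ (w₁ + w₂)) + σ (a₁ + a₂ - B w₂ w₁ + ζ (w₁ + w₂)) =
      -(B (w₁ + w₂) (w₁ + w₂)) := by
    rw [map_add, (hζ _ hw₁₂).1]; linear_combination htr
  rw [← eich_mul' hB h.ee hwe₁ hwe₂, mkT_mul mk (eich_mem_SUg hB ha₁) (eich_mem_SUg hB ha₂),
    map_mul, (hζ w₁ hw₁).2 a₁ ha₁, (hζ w₂ hw₂).2 a₂ ha₂,
    ← mkT_mul mk (eich_mem_SUg hB ha₁') (eich_mem_SUg hB ha₂'),
    eich_mul' hB h.ee hwe₁ hwe₂] at h12
  have := (mkT_eich_inj hB hk h he0 hw₁₂ hw₁₂ (tr_add hσ hB ha₁' ha₂') htr' h12).2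
  linear_combination -this

include hσ hB hN in
/-- (T4) The relation between the twist and the action on the transvections at `f`. -/
lemma twist_rel [FiniteDimensional F V] (hk : KerScalar mk) (h3 : 3 ≤ finrank F V) {e f : V}
    (h : HypPair B e f) {α : Q ≃* Q} (hα : Norm mk e f α) {ζ : V → F}
    (hζ : ∀ w ∈ Wp B e f, σ (ζ w) = -ζ w ∧ ∀ a, a + σ a = -(B w w) →
      α (mkT mk (eich B e w a)) = mkT mk (eich B e w (a + ζ w)))
    {w : V} (hw : w ∈ Wp B e f) (hw0 : w ≠ 0) {a : F} (ha : a + σ a = -(B w w)) {s s' : F}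
    (hs : σ s = -s) (hs' : σ s' = -s')
    (hss' : α (mkT mk (utv B f s)) = mkT mk (utv B f s')) (hκ : 1 + s * a ≠ 0) :
    s' * (a + ζ w) = s * a ∧ ζ ((1 + s * a)⁻¹ • w) = (1 + s * a)⁻¹ * ζ w := by
  obtain ⟨he0, hf0⟩ := hypPair_ne_zero h
  obtain ⟨hwe, hwf⟩ := mem_Wp.mp hw
  have hew := herm_eq_zero hB hwe
  have hfw := herm_eq_zero hB hwf
  set κ' := 1 + s * a with hκ'
  set κ := κ'⁻¹ with hκd
  have hκκ : κ' * κ = 1 := mul_inv_cancel₀ hκ
  have hκ0 : κ ≠ 0 := inv_ne_zero hκ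
  have hw2 : κ • w ∈ Wp B e f := (Wp B e f).smul_mem κ hw
  obtain ⟨hwe2, hwf2⟩ := mem_Wp.mp hw2
  have hew2 := herm_eq_zero hB hwe2
  have hfw2 := herm_eq_zero hB hwf2
  have hsκ' : σ κ' = 1 - s * σ a := by
    rw [hκ', map_add, map_one, map_mul, hs]; ring
  have hsκ'0 : σ κ' ≠ 0 := by
    intro h0
    apply hκ
    have := congrArg σ h0
    rwa [hσ.invol, map_zero] at this
  -- (T4a)
  have ha2 : κ * a + σ (κ * a) = -(B (κ • w) (κ • w)) := by
    rw [self_smul, map_mul, hκd, map_inv₀]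
    have e1 : a * σ κ' + σ a * κ' + B w w = 0 := by
      rw [hsκ', hκ']; linear_combination ha
    field_simp
    linear_combination e1
  have hζ1 := hζ w hw
  have hζ2 := hζ _ hw2
  have ha' : (a + ζ w) + σ (a + ζ w) = -(B w w) := by
    rw [map_add, hζ1.1]; linear_combination ha
  have ha2' : (κ * a + ζ (κ • w)) + σ (κ * a + ζ (κ • w)) = -(B (κ • w) (κ • w)) := by
    rw [map_add, hζ2.1]; linear_combination ha2
  have hE₁ := eich_mem_SUg (e := e) hB ha
  have hE₂ := eich_mem_SUg (e := e) hB ha2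
  have hE₁' := eich_mem_SUg (e := e) hB ha'
  have hE₂' := eich_mem_SUg (e := e) hB ha2'
  have hU := utv_mem_SUg hB f hs
  have hU' := utv_mem_SUg hB f hs'
  set g := (eich B e (κ • w) (κ * a))⁻¹ * utv B f s * eich B e w a with hg
  set g' := (eich B e (κ • w) (κ * a + ζ (κ • w)))⁻¹ * utv B f s' * eich B e w (a + ζ w)
    with hg'
  have hgS : g ∈ SUg B := (SUg B).mul_mem ((SUg B).mul_mem ((SUg B).inv_mem hE₂) hU) hE₁
  have hgS' : g' ∈ SUg B := (SUg B).mul_mem ((SUg B).mul_mem ((SUg B).inv_mem hE₂') hU') hE₁'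
  have hgg' : α (mkT mk g) = mkT mk g' := by
    rw [hg, mkT_mul mk ((SUg B).mul_mem ((SUg B).inv_mem hE₂) hU) hE₁,
      mkT_mul mk ((SUg B).inv_mem hE₂) hU, mkT_inv mk hE₂, map_mul, map_mul, map_inv,
      hζ1.2 a ha, hζ2.2 _ ha2, hss', hg',
      mkT_mul mk ((SUg B).mul_mem ((SUg B).inv_mem hE₂') hU') hE₁',
      mkT_mul mk ((SUg B).inv_mem hE₂') hU', mkT_inv mk hE₂']
  have hgf : g f = κ' • f := by
    have e1 : utv B f s (eich B e w a f) = eich B e (κ • w) (κ * a) (κ' • f) := by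
      rw [eich_f h hwe hew hfw, map_smul, eich_f h hwe2 hew2 hfw2, utv_apply B h.ff]
      simp only [map_add, map_smul, LinearMap.add_apply, LinearMap.smul_apply, smul_eq_mul,
        h.ff, hwf, h.ef, mul_zero, zero_add, mul_one, smul_add, smul_smul]
      rw [← mul_assoc, hκκ, one_mul, one_smul, hκ']
      module
    rw [hg, LinearEquiv.mul_apply, LinearEquiv.mul_apply, e1]
    exact inv_apply_apply' _ _
  obtain ⟨k, hk'⟩ := fix_point_of_root hσ hB hN hk h3 h.ff hf0 hα.rf hgS hgS' hgf hgg'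
  -- the vector equation
  have e2 : utv B f s' (eich B e w (a + ζ w) f) =
      eich B e (κ • w) (κ * a + ζ (κ • w)) (k • f) := by
    rw [← hk', hg', LinearEquiv.mul_apply, LinearEquiv.mul_apply]
    exact (apply_inv_apply' _ _).symm
  rw [eich_f h hwe hew hfw, map_smul, eich_f h hwe2 hew2 hfw2, utv_apply B h.ff] at e2
  simp only [map_add, map_smul, LinearMap.add_apply, LinearMap.smul_apply, smul_eq_mul,
    h.ff, hwf, h.ef, mul_zero, zero_add, mul_one] at e2
  have c1 := congrArg (fun x => B x e) e2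
  simp only [map_add, map_smul, LinearMap.add_apply, LinearMap.smul_apply, smul_eq_mul,
    h.fe, hwe, h.ee, mul_zero, add_zero, mul_one, smul_add] at c1
  have c2 := congrArg (fun x => B x f) e2
  simp only [map_add, map_smul, LinearMap.add_apply, LinearMap.smul_apply, smul_eq_mul,
    h.ff, hwf, h.ef, mul_zero, add_zero, zero_add, mul_one, smul_add] at c2
  have c3 : (1 - k * κ) • w = 0 := by
    have e3 := sub_eq_zero.mpr e2
    have e4 : (1 - k * κ) • w = (f + w + (a + ζ w) • e + (s' * (a + ζ w)) • f -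
        k • (f + κ • w + (κ * a + ζ (κ • w)) • e)) -
        (1 + s' * (a + ζ w) - k) • f - ((a + ζ w) - k * (κ * a + ζ (κ • w))) • e := by
      module
    rw [e4, e3, zero_sub, c1, sub_self, ← c2, sub_self]
    simp
  have hkκ : k * κ = 1 := by
    rcases smul_eq_zero.mp c3 with h5 | h5
    · exact (sub_eq_zero.mp h5).symm
    · exact absurd h5 hw0
  have hkk : k = κ' := by
    have : k * (κ * κ') = κ' := by rw [← mul_assoc, hkκ, one_mul]
    rwa [mul_comm κ κ', hκκ, mul_one] at this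
  constructor
  · have : 1 + s' * (a + ζ w) = 1 + s * a := by rw [c1, hkk]
    exact add_left_cancel this
  · rw [hkk] at c2
    have e5 : κ * (a + ζ w) = κ * (κ' * (κ * a + ζ (κ • w))) := by rw [← c2]
    rw [← mul_assoc, mul_comm κ κ', hκκ, one_mul] at e5
    linear_combination -e5

include hσ hB hN in
/-- A normalised automorphism inducing the identity on `W` fixes the Eichler group and the
transvections at `f` elementwise. -/
theorem fix_of_isInd_id [FiniteDimensional F V] (hk : KerScalar mk) (h3 : 3 ≤ finrank F V)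
    {e f : V} (h : HypPair B e f) {α : Q ≃* Q} (hα : Norm mk e f α)
    (hA : IsInd mk e f α id) :
    (∀ w ∈ Wp B e f, ∀ a, a + σ a = -(B w w) →
      α (mkT mk (eich B e w a)) = mkT mk (eich B e w a)) ∧
    (∀ s, σ s = -s → α (mkT mk (utv B f s)) = mkT mk (utv B f s)) := by
  obtain ⟨he0, hf0⟩ := hypPair_ne_zero h
  have hW := nondegOn_Wp hB hN h
  have htop : 3 ≤ finrank F (⊤ : Submodule F V) := by rw [finrank_top]; exact h3
  obtain ⟨w₀, -, hw₀0, hw₀e, hw₀f⟩ :=
    Cfsg.Agent.Lib.Helper94_HermTI.exists_ne_zero_orth2 B ⊤ htop e f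
  have hw₀ : w₀ ∈ Wp B e f := mem_Wp.mpr ⟨hw₀e, hw₀f⟩
  obtain ⟨ζ, hζ⟩ := exists_zeta hσ hB hN h hA hw₀ hw₀0
  -- (T5)
  have aniso : ∀ w ∈ Wp B e f, B w w ≠ 0 → ζ w = 0 ∧
      ∀ s s', σ s = -s → σ s' = -s' → s ≠ 0 →
        α (mkT mk (utv B f s)) = mkT mk (utv B f s') → s' = s := by
    intro w hw hww
    have hw0 : w ≠ 0 := by
      rintro rfl
      simp at hww
    obtain ⟨a, ha⟩ := tr_surj hσ (-(B w w)) (by rw [map_neg, herm_self hB])
    have htr0 : a + σ a ≠ 0 := by rw [ha]; exact neg_ne_zero.mpr hww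
    have ha0 : a ≠ 0 := by
      rintro rfl
      simp at htr0
    have hfix : ∀ s : F, σ s = -s → s ≠ 0 → σ (s * a) ≠ s * a := by
      intro s hs hs0 h1
      rw [map_mul, hs] at h1
      have : s * (a + σ a) = 0 := by linear_combination -h1
      rcases mul_eq_zero.mp this with h2 | h2
      · exact hs0 h2
      · exact htr0 h2
    have hκne : ∀ s : F, σ s = -s → s ≠ 0 → 1 + s * a ≠ 0 := by
      intro s hs hs0 h1
      apply hfix s hs hs0
      have : s * a = -1 := by linear_combination h1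
      rw [this, map_neg, map_one]
    have hz : ζ w = 0 := by
      by_contra hne
      obtain ⟨s, hs0, hs⟩ := exists_skew hσ
      obtain ⟨s', hs', hss'⟩ := hα.rf _ ⟨s, hs, rfl⟩
      obtain ⟨-, r2⟩ := twist_rel hσ hB hN hk h3 h hα hζ hw hw0 ha hs hs' hss'
        (hκne s hs hs0)
      have hκ := hκne s hs hs0
      have hmem : (1 + s * a)⁻¹ • w ∈ Wp B e f := (Wp B e f).smul_mem _ hw
      have sk1 := (hζ _ hmem).1
      rw [r2, map_mul, (hζ w hw).1] at sk1
      have h4 : σ ((1 + s * a)⁻¹) = (1 + s * a)⁻¹ := by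
        have : (σ ((1 + s * a)⁻¹) - (1 + s * a)⁻¹) * ζ w = 0 := by linear_combination -sk1
        rcases mul_eq_zero.mp this with h5 | h5
        · exact sub_eq_zero.mp h5
        · exact absurd h5 hne
      rw [map_inv₀, inv_inj, map_add, map_one] at h4
      exact hfix s hs hs0 (add_left_cancel h4)
    refine ⟨hz, fun s s' hs hs' hs0 hss' => ?_⟩
    obtain ⟨r1, -⟩ := twist_rel hσ hB hN hk h3 h hα hζ hw hw0 ha hs hs' hss' (hκne s hs hs0)
    rw [hz, add_zero] at r1
    exact mul_right_cancel₀ ha0 r1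
  -- (T6)
  have hzero : ∀ w ∈ Wp B e f, ζ w = 0 := by
    intro u hu
    by_cases hui : B u u = 0
    · by_cases hu0 : u = 0
      · subst hu0
        have := zeta_add hσ hB hk h hζ (Wp B e f).zero_mem (Wp B e f).zero_mem
        rw [add_zero] at this
        exact left_eq_add.mp this
      · obtain ⟨v, hv, hvi, huv⟩ := exists_partner hσ hB hW hu hu0 hui
        have hvu : B v u = 1 := by rw [hB u v, huv, map_one]
        obtain ⟨a₁, ha₁⟩ := tr_surj hσ 1 (map_one σ)
        set w₁ := a₁ • u + v with hw₁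
        set w₂ := (1 - a₁) • u - v with hw₂
        have hw₁W : w₁ ∈ Wp B e f := (Wp B e f).add_mem ((Wp B e f).smul_mem _ hu) hv
        have hw₂W : w₂ ∈ Wp B e f := (Wp B e f).sub_mem ((Wp B e f).smul_mem _ hu) hv
        have h1 : B w₁ w₁ ≠ 0 := by
          have : B w₁ w₁ = 1 := by
            rw [hw₁]
            simp only [map_add, map_smul, map_smulₛₗ, LinearMap.add_apply, LinearMap.smul_apply,
              smul_eq_mul, hui, hvi, huv, hvu, mul_zero, mul_one, add_zero, zero_add]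
            linear_combination ha₁
          rw [this]; exact one_ne_zero
        have h2 : B w₂ w₂ ≠ 0 := by
          have : B w₂ w₂ = -1 := by
            rw [hw₂]
            simp only [map_sub, map_smul, map_smulₛₗ, LinearMap.sub_apply, LinearMap.smul_apply,
              smul_eq_mul, hui, hvi, huv, hvu, mul_zero, mul_one, sub_zero, zero_sub, map_one]
            linear_combination ha₁
          rw [this]; exact neg_ne_zero.mpr one_ne_zero
        have hsum : u = w₁ + w₂ := by rw [hw₁, hw₂]; module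
        rw [hsum, zeta_add hσ hB hk h hζ hw₁W hw₂W, (aniso w₁ hw₁W h1).1,
          (aniso w₂ hw₂W h2).1, add_zero]
    · exact (aniso u hu hui).1
  constructor
  · intro w hw a ha
    rw [(hζ w hw).2 a ha, hzero w hw, add_zero]
  · intro s hs
    by_cases hs0 : s = 0
    · subst hs0
      have hone : utv B f (0 : F) = 1 := by
        ext x; rw [utv_apply B h.ff]; simp
      rw [hone, mkT_one, map_one]
    · obtain ⟨d, hd, hdne⟩ := exists_aniso hσ hB hW hw₀ hw₀0
      obtain ⟨s', hs', hss'⟩ := hα.rf _ ⟨s, hs, rfl⟩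
      rw [hss', (aniso d hd hdne).2 s s' hs hs' hs0 hss']

end

end Cfsg.Agent.Lib.Helper14_PSULocal8
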