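import Mathlib
import Cfsg.Agent.Lib.Helper14_PSULocal8

/-!
# Generation of the special unitary group by the Eichler group and an opposite root group
-/

set_option autoImplicit false
set_option linter.unusedVariables false
set_option linter.unusedSectionVars false

namespace Cfsg.Agent.Lib.Helper14_PSULocal9

open Module Cfsg.Agent.Lib.Helper94_Symp Cfsg.Agent.Lib.Helper94_Herm
  Cfsg.Agent.Lib.Helper94_HermOrth Cfsg.Agent.Lib.Helper94_HermEich
  Cfsg.Agent.Lib.Helper94_HermPara Cfsg.Agent.Lib.Helper94_HermTrans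
  Cfsg.Agent.Lib.Helper13_SUGen
  Cfsg.Agent.Lib.Helper13_PSUSimple Cfsg.Agent.Lib.Helper46_U3TI
  Cfsg.Agent.Lib.Helper46_U3Center
  Cfsg.Agent.Lib.Helper14_PSULocal1 Cfsg.Agent.Lib.Helper14_PSULocal2
  Cfsg.Agent.Lib.Helper14_PSULocal3 Cfsg.Agent.Lib.Helper14_PSULocal4
  Cfsg.Agent.Lib.Helper14_PSULocal5 Cfsg.Agent.Lib.Helper14_PSULocal6
  Cfsg.Agent.Lib.Helper14_PSULocal7 Cfsg.Agent.Lib.Helper14_PSULocal8

variable {F V : Type*} [Field F] [AddCommGroup V] [Module F V]
variable {σ : F →+* F} {B : V →ₗ[F] V →ₛₗ[σ] F}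
variable {Q : Type*} [Group Q] {mk : ↥(SUg B) →* Q}

/-- The generating set: Eichler elements at `e` and transvections at `f`. -/
def genSet (B : V →ₗ[F] V →ₛₗ[σ] F) (e f : V) : Set (V ≃ₗ[F] V) :=
  {g | ∃ (w : V) (a : F), w ∈ Wp B e f ∧ a + σ a = -(B w w) ∧ g = eich B e w a} ∪
    {g | ∃ s : F, σ s = -s ∧ g = utv B f s}

section

variable (hσ : Invol σ) (hB : IsHerm B) (hN : NondegOn B ⊤)

include hσ hB hN in
/-- Every unitary transvection lies in the group generated by `genSet`. -/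
theorem utv_mem_closure_genSet {e f : V} (h : HypPair B e f) (v : V) {c : F}
    (hc : σ c = -c) : utv B v c ∈ Subgroup.closure (genSet B e f) := by
  set M := Subgroup.closure (genSet B e f) with hM
  have hW := nondegOn_Wp hB hN h
  have hEM : ∀ (w : V) (a : F), w ∈ Wp B e f → a + σ a = -(B w w) → eich B e w a ∈ M :=
    fun w a hw ha => Subgroup.subset_closure (Or.inl ⟨w, a, hw, ha, rfl⟩)
  have hFM : ∀ s : F, σ s = -s → utv B f s ∈ M :=
    fun s hs => Subgroup.subset_closure (Or.inr ⟨s, hs, rfl⟩)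
  have hEe : ∀ s : F, σ s = -s → utv B e s ∈ M := by
    intro s hs
    rw [← eich_zero h.ee]
    exact hEM 0 s (Wp B e f).zero_mem (by rw [hs]; simp)
  have hs0 : ∀ x : F, x ≠ 0 → σ x ≠ 0 := by
    intro x hx h0
    apply hx
    have := congrArg σ h0
    rwa [hσ.invol, map_zero] at this
  -- (G1)
  have G1 : ∀ v : V, B v v = 0 → B v e ≠ 0 → ∀ c : F, σ c = -c → utv B v c ∈ M := by
    intro v hv hve c hc
    set v' := (B v e)⁻¹ • v with hv'
    have hv'e : B v' e = 1 := by
      rw [hv', map_smul, LinearMap.smul_apply, smul_eq_mul, inv_mul_cancel₀ hve]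
    have hv'i : B v' v' = 0 := by rw [hv', self_smul, hv, mul_zero]
    have hvv' : v = (B v e) • v' := by rw [hv', smul_smul, mul_inv_cancel₀ hve, one_smul]
    set w := perpPart B e f v' with hw
    set a := B v' f with ha
    have hwe : B w e = 0 := perpPart_e h _
    have hwf : B w f = 0 := perpPart_f h _
    have hew : B e w = 0 := herm_eq_zero hB hwe
    have hfw : B f w = 0 := herm_eq_zero hB hwf
    have hv'eq : v' = f + w + a • e := by
      have := eq_add_perpPart (B := B) e f v'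
      rw [hv'e, one_smul] at this
      conv_lhs => rw [this]
      abel
    have htr : a + σ a = -(B w w) := by
      have h0 := hv'i
      rw [hv'eq] at h0
      simp only [map_add, map_smul, map_smulₛₗ, LinearMap.add_apply, LinearMap.smul_apply,
        smul_eq_mul, h.ee, h.ff, h.ef, h.fe, hwe, hwf, hew, hfw, mul_zero, mul_one, add_zero,
        zero_add] at h0
      linear_combination h0
    have hE := hEM w a (mem_Wp.mpr ⟨hwe, hwf⟩) htr
    have hv'E : v' = eich B e w a f := by rw [eich_f h hwe hew hfw, hv'eq]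
    rw [hvv', utv_smul, hv'E, ← conj_utv (eich_mem_uG hB htr)]
    refine M.mul_mem (M.mul_mem hE (hFM _ ?_)) (M.inv_mem hE)
    rw [map_mul, map_mul, hσ.invol, hc]; ring
  -- the Weyl element
  obtain ⟨s, hs0', hs⟩ := exists_skew hσ
  have ht : σ (-s⁻¹) = -(-s⁻¹) := by rw [map_neg, map_inv₀, hs]; ring
  set n₀ := utv B e s * utv B f (-s⁻¹) * utv B e s with hn₀
  have hn₀M : n₀ ∈ M := M.mul_mem (M.mul_mem (hEe s hs) (hFM _ ht)) (hEe s hs)
  have hn₀U : n₀ ∈ uG B :=
    (uG B).mul_mem ((uG B).mul_mem (utv_mem_uG hB e hs) (utv_mem_uG hB f ht))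
      (utv_mem_uG hB e hs)
  have hn₀e : n₀ e = (-s⁻¹) • f := by
    rw [hn₀, LinearEquiv.mul_apply, LinearEquiv.mul_apply, utv_self, utv_f_e h, map_add,
      map_smul, utv_self, utv_e_f h]
    have : s * s⁻¹ = 1 := mul_inv_cancel₀ hs0'
    calc e + (-s⁻¹) • (f + s • e) = (1 - s * s⁻¹) • e + (-s⁻¹) • f := by module
      _ = (-s⁻¹) • f := by rw [this, sub_self, zero_smul, zero_add]
  -- (G2)
  have G2 : ∀ v : V, B v v = 0 → B v f ≠ 0 → ∀ c : F, σ c = -c → utv B v c ∈ M := by
    intro v hv hvf c hc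
    have h1 : B (n₀⁻¹ v) e ≠ 0 := by
      rw [uG_inv_apply B hn₀U, hn₀e, map_smulₛₗ, smul_eq_mul]
      exact mul_ne_zero (hs0 _ (neg_ne_zero.mpr (inv_ne_zero hs0'))) hvf
    have h2 : B (n₀⁻¹ v) (n₀⁻¹ v) = 0 := by rw [(uG B).inv_mem hn₀U, hv]
    have h3 := G1 _ h2 h1 c hc
    have h4 := conj_utv hn₀U (n₀⁻¹ v) c
    rw [apply_inv_apply'] at h4
    rw [← h4]
    exact M.mul_mem (M.mul_mem hn₀M h3) (M.inv_mem hn₀M)
  by_cases hv : B v v = 0
  · by_cases hve : B v e = 0
    · by_cases hvf : B v f = 0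
      · by_cases hv0 : v = 0
        · subst hv0
          have : utv B (0 : V) c = 1 := by
            ext x; rw [utv_apply B hv]; simp
          rw [this]; exact M.one_mem
        · -- (G3)
          have hvW : v ∈ Wp B e f := mem_Wp.mpr ⟨hve, hvf⟩
          obtain ⟨w, hw, hvw⟩ := hW v hvW hv0
          obtain ⟨hwe, hwf⟩ := mem_Wp.mp hw
          have hew := herm_eq_zero hB hwe
          have hfw := herm_eq_zero hB hwf
          obtain ⟨a, ha⟩ := tr_surj hσ (-(B w w)) (by rw [map_neg, herm_self hB])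
          have hE := hEM w a hw ha
          have hEU := eich_mem_uG (w := e) hB ha
          have h1 : B ((eich B e w a)⁻¹ v) f ≠ 0 := by
            rw [uG_inv_apply B hEU, eich_f h hwe hew hfw]
            simp only [map_add, map_smulₛₗ, hvf, hve, smul_zero, add_zero, zero_add]
            exact hvw
          have h2 : B ((eich B e w a)⁻¹ v) ((eich B e w a)⁻¹ v) = 0 := by
            rw [(uG B).inv_mem hEU, hv]
          have h3 := G2 _ h2 h1 c hc
          have h4 := conj_utv hEU ((eich B e w a)⁻¹ v) c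
          rw [apply_inv_apply'] at h4
          rw [← h4]
          exact M.mul_mem (M.mul_mem hE h3) (M.inv_mem hE)
      · exact G2 v hv hvf c hc
    · exact G1 v hv hve c hc
  · have : utv B v c = 1 := by
      unfold utv
      rw [dif_neg hv]
    rw [this]; exact M.one_mem

include hσ hB hN in
/-- An automorphism fixing the images of the generators is trivial. -/
theorem eq_one_of_fix (hs : Function.Surjective mk)
    (hgen : ∀ g ∈ uG B, LinearEquiv.det g = 1 → g ∈ tvGroup B ⊤) {e f : V}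
    (h : HypPair B e f) {α : Q ≃* Q}
    (h1 : ∀ w ∈ Wp B e f, ∀ a, a + σ a = -(B w w) →
      α (mkT mk (eich B e w a)) = mkT mk (eich B e w a))
    (h2 : ∀ s, σ s = -s → α (mkT mk (utv B f s)) = mkT mk (utv B f s)) : α = 1 := by
  have key : ∀ g ∈ Subgroup.closure (genSet B e f), g ∈ SUg B ∧ α (mkT mk g) = mkT mk g := by
    intro g hg
    induction hg using Subgroup.closure_induction with
    | mem g hg =>
      rcases hg with ⟨w, a, hw, ha, rfl⟩ | ⟨s, hs', rfl⟩
      · exact ⟨eich_mem_SUg hB ha, h1 w hw a ha⟩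
      · exact ⟨utv_mem_SUg hB f hs', h2 s hs'⟩
    | one => exact ⟨(SUg B).one_mem, by rw [mkT_one, map_one]⟩
    | mul x y _ _ hx hy =>
      exact ⟨(SUg B).mul_mem hx.1 hy.1, by rw [mkT_mul mk hx.1 hy.1, map_mul, hx.2, hy.2]⟩
    | inv x _ hx =>
      exact ⟨(SUg B).inv_mem hx.1, by rw [mkT_inv mk hx.1, map_inv, hx.2]⟩
  have hle : SUg B ≤ Subgroup.closure (genSet B e f) := by
    intro g hg
    have hg' := mem_SUg.mp hg
    have := hgen g hg'.1 hg'.2
    have hle2 : tvGroup B ⊤ ≤ Subgroup.closure (genSet B e f) :=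
      tvGroup_le ⊤ _ (fun a _ _ c hc => utv_mem_closure_genSet hσ hB hN h a hc)
    exact hle2 this
  ext t
  obtain ⟨g, hg, rfl⟩ := exists_mkT mk hs t
  rw [MulAut.one_apply]
  exact (key g (hle hg)).2

end

end Cfsg.Agent.Lib.Helper14_PSULocal9
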