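import Mathlib
import Cfsg.Agent.Lib.Helper94_Symp
import Cfsg.Agent.Lib.Helper94_Herm
import Cfsg.Agent.Lib.Helper94_HermOrth
import Cfsg.Agent.Lib.Helper94_HermEich
import Cfsg.Agent.Lib.Helper94_HermIrr
import Cfsg.Agent.Lib.Helper94_HermWitt
import Cfsg.Agent.Lib.Helper99_UnitaryTv
import Cfsg.Agent.Lib.Helper46_U3TI
import Cfsg.Agent.Lib.Helper46_U3Center
import Cfsg.Agent.Lib.Helper13_PSUSimple

/-!
# Root elements of projective special unitary groups, generically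

Setting: a nondegenerate hermitian space `(V, B)` of dimension at least three over a finite field
of characteristic `p`, and a surjection `mk : SUg B →* Q` whose kernel is the centre.
For a nonzero isotropic vector `v`:

* `rootSet mk v` is the image of the long root group `{utv B v c | σ c = -c}`;
* `zSet S` is the centre of the subgroup `S`, as a set.

Main results (Piece A for the automorphism group of `PSU`):

* `A1`: the centre of a Sylow `p`-subgroup of `Q` is `rootSet mk v` for some isotropic `v`;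
* `A2`: every `rootSet mk v` arises in this way;
* `A3`: the intersection of the Sylow `p`-subgroups with centre `rootSet mk v` is the image of
  the unipotent radical `unip B v` of the stabiliser of `v`.
-/

set_option autoImplicit false
set_option linter.unusedVariables false
set_option linter.unusedSectionVars false

namespace Cfsg.Agent.Lib.Helper45_PSURoot

open Module Cfsg.Agent.Lib.Helper94_Symp Cfsg.Agent.Lib.Helper94_Herm
  Cfsg.Agent.Lib.Helper94_HermOrth Cfsg.Agent.Lib.Helper94_HermEich Cfsg.Agent.Lib.Helper46_U3TI Cfsg.Agent.Lib.Helper46_U3Center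
  Cfsg.Agent.Lib.Helper13_PSUSimple

open scoped Pointwise

variable {F V : Type*} [Field F] [Finite F] [AddCommGroup V] [Module F V] [FiniteDimensional F V]
variable {σ : F →+* F} {B : V →ₗ[F] V →ₛₗ[σ] F}
variable {p : ℕ} [Fact p.Prime] [CharP F p]
variable {Q : Type*} [Group Q]

/-- the image of the root group `{utv B v c | σ c = -c}` -/
def rootSet (mk : ↥(SUg B) →* Q) (v : V) : Set Q :=
  {t | ∃ (g : ↥(SUg B)) (c : F), σ c = -c ∧ (g : V ≃ₗ[F] V) = utv B v c ∧ t = mk g}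

/-- the centre of a subgroup, as a set of the ambient group -/
def zSet (S : Subgroup Q) : Set Q := {t | t ∈ S ∧ ∀ s ∈ S, s * t = t * s}

/-! ### generalities -/

theorem finite_linearEquiv' : Finite (V ≃ₗ[F] V) := by
  have : Finite V := Module.finite_of_finite F
  exact Finite.of_injective (fun g : V ≃ₗ[F] V => (g : V → V)) DFunLike.coe_injective

theorem finrank_orthS_singleton' (hB : IsHerm B) (hN : NondegOn B ⊤) (v : V) (hv : v ≠ 0) :
    finrank F (orthS B (Submodule.span F {v})) + 1 = finrank F V := by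
  have h := finrank_orthS hB hN (Submodule.span F {v})
  rw [finrank_span_singleton hv] at h
  omega

/-- a `p`-group of isometries of a unitary space of dimension at least two fixes a nonzero
isotropic vector -/
theorem exists_fixed_iso' (hσ : Invol σ) (hB : IsHerm B) (hN : NondegOn B ⊤)
    (h2 : 2 ≤ finrank F V) (P : Subgroup (V ≃ₗ[F] V)) (hPU : P ≤ uG B) (hP : IsPGroup p P) :
    ∃ v : V, v ≠ 0 ∧ B v v = 0 ∧ ∀ g ∈ P, g v = v := by
  have htop : (⊤ : Submodule F V) ≠ ⊥ := by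
    intro h
    have := finrank_top F V
    rw [h, finrank_bot] at this
    omega
  obtain ⟨v₁, -, hv₁, hfix₁⟩ := exists_fixed P hP ⊤ htop (fun _ _ _ _ => Submodule.mem_top)
  by_cases h1 : B v₁ v₁ = 0
  · exact ⟨v₁, hv₁, h1, hfix₁⟩
  have hW1 : orthS B (Submodule.span F {v₁}) ≠ ⊥ := by
    intro h
    have := finrank_orthS_singleton' hB hN v₁ hv₁
    rw [h, finrank_bot] at this
    omega
  obtain ⟨v₂, hv₂W, hv₂, hfix₂⟩ := exists_fixed P hP _ hW1 (by
    intro g hg w hw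
    rw [mem_orthS_singleton] at hw ⊢
    rw [← hfix₁ g hg, hPU hg, hw])
  rw [mem_orthS_singleton] at hv₂W
  have hindep : v₂ ∉ Submodule.span F {v₁} := by
    intro hmem
    obtain ⟨c, rfl⟩ := Submodule.mem_span_singleton.mp hmem
    rw [map_smulₛₗ, smul_eq_mul] at hv₂W
    rcases mul_eq_zero.mp hv₂W with h | h
    · rw [map_eq_zero] at h
      rw [h, zero_smul] at hv₂
      exact hv₂ rfl
    · exact h1 h
  obtain ⟨a, b, hne, hiso⟩ := exists_iso hσ hB hv₁ hindep
  refine ⟨a • v₁ + b • v₂, hne, hiso, ?_⟩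
  intro g hg
  rw [map_add, map_smul, map_smul, hfix₁ g hg, hfix₂ g hg]

/-! ### the unipotent radical `unip B v` -/

theorem pow_eq_one_of_mem_unip' (hnt : Nontrivial V) (v : V)
    (g : V ≃ₗ[F] V) (hg : g ∈ unip B v) : g ^ (p ^ 2) = 1 := by
  obtain ⟨hgU, hgv, hgu⟩ := hg
  have hchar : CharP (Module.End F V) p :=
    charP_of_injective_algebraMap (algebraMap F (Module.End F V)).injective p
  let φ := LinearEquiv.automorphismGroup.toLinearMapMonoidHom (R := F) (M := V)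
  have hφ : Function.Injective φ := by
    intro a b hab
    apply LinearEquiv.ext
    intro z
    exact congrArg (fun t : V →ₗ[F] V => t z) hab
  apply hφ
  rw [map_pow, map_one]
  set N : Module.End F V := φ g - 1 with hN
  have hNz : ∀ z, N z = g z - z := fun z => rfl
  have hN1 : ∀ z, B v (N z) = 0 := by
    intro z
    rw [hNz, map_sub]
    conv_lhs => rw [← hgv, hgU, hgv]
    exact sub_self _
  have hNv : N v = 0 := by rw [hNz, hgv, sub_self]
  have hN3 : N ^ 3 = 0 := by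
    apply LinearMap.ext
    intro z
    rw [pow_succ, pow_succ, pow_one, Module.End.mul_apply, Module.End.mul_apply]
    obtain ⟨c, hc⟩ := hgu (N z) (hN1 z)
    rw [← hNz] at hc
    rw [hc, map_smul, hNv, smul_zero]
    simp
  have hp2 : 3 ≤ p ^ 2 := by
    have := (Fact.out : p.Prime).two_le
    nlinarith
  have hNp : N ^ (p ^ 2) = 0 := by
    rw [← Nat.sub_add_cancel hp2, pow_add, hN3, mul_zero]
  have hsum : φ g = 1 + N := by rw [hN]; abel
  rw [hsum, add_pow_char_pow_of_commute p 2 (Commute.one_left N), one_pow, hNp,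
    add_zero]

theorem det_eq_one_of_pow (g : V ≃ₗ[F] V) (k : ℕ) (hg : g ^ (p ^ k) = 1) :
    LinearEquiv.det g = 1 := by
  have h1 : (LinearEquiv.det g) ^ (p ^ k) = 1 := by rw [← map_pow, hg, map_one]
  have h2 : ((LinearEquiv.det g : Fˣ) : F) ^ (p ^ k) = 1 := by
    rw [← Units.val_pow_eq_pow_val, h1, Units.val_one]
  exact Units.ext (eq_one_of_pow_char_pow _ k h2)

theorem unip_le_SUg (p : ℕ) [Fact p.Prime] [CharP F p] (hnt : Nontrivial V) (v : V) :
    unip B v ≤ SUg B := by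
  intro g hg
  exact mem_SUg.mpr ⟨hg.1, det_eq_one_of_pow (p := p) g 2 (pow_eq_one_of_mem_unip' hnt v g hg)⟩

theorem utv_mem_unip (hB : IsHerm B) {v : V} (hv : B v v = 0) {c : F} (hc : σ c = -c) :
    utv B v c ∈ unip B v := by
  refine ⟨utv_mem_uG hB v hc, utv_self B v c, ?_⟩
  intro u hu
  refine ⟨0, ?_⟩
  rw [utv_fix B v c (herm_eq_zero hB hu), sub_self, zero_smul]

theorem utv_mem_SUg (hB : IsHerm B) (v : V) {c : F} (hc : σ c = -c) : utv B v c ∈ SUg B :=
  mem_SUg.mpr ⟨utv_mem_uG hB v hc, Cfsg.Agent.Lib.Helper99_UnitaryTv.det_utv v c⟩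

/-- the vectors fixed by the whole of `unip B v` are the multiples of `v` -/
theorem mem_span_of_fixed (hσ : Invol σ) (hB : IsHerm B) (hN : NondegOn B ⊤) {v : V}
    (hv0 : v ≠ 0) (hv : B v v = 0) (w : V) (hw : ∀ g ∈ unip B v, g w = w) :
    w ∈ Submodule.span F {v} := by
  obtain ⟨ζ, hζ0, hζ⟩ := exists_skew hσ
  have hwv : B w v = 0 := by
    have h1 := hw _ (utv_mem_unip hB hv hζ)
    rw [utv_apply B hv] at h1
    have h2 : (ζ * B w v) • v = 0 := by
      have := congrArg (fun t => t - w) h1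
      simpa using this
    rcases smul_eq_zero.mp h2 with h | h
    · exact (mul_eq_zero.mp h).resolve_left hζ0
    · exact absurd h hv0
  rw [← orthS_orthS hB hN (Submodule.span F {v}), mem_orthS]
  intro y hy
  rw [mem_orthS_singleton] at hy
  have hyv : B y v = 0 := herm_eq_zero hB hy
  obtain ⟨c, hc⟩ := tr_surj hσ (-(B y y)) (by rw [map_neg, herm_self hB])
  have h1 := hw _ (eich_mem_unip hB hv hy hc)
  rw [eich_apply B hv hyv hy, hwv] at h1
  have h2 : B w y • v = 0 := by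
    have := congrArg (fun t => w - t) h1
    simpa using this
  have h3 : B w y = 0 := (smul_eq_zero.mp h2).resolve_right hv0
  exact herm_eq_zero hB h3

/-- isometries fixing `v` normalise `unip B v` -/
theorem conj_mem_unip {v : V} {g u : V ≃ₗ[F] V} (hg : g ∈ uG B) (hgv : g v = v)
    (hu : u ∈ unip B v) : g * u * g⁻¹ ∈ unip B v := by
  obtain ⟨huU, huv, huu⟩ := hu
  have hgiv : g⁻¹ v = v := by
    conv_lhs => rw [← hgv]
    exact inv_apply_apply' g v
  refine ⟨(uG B).mul_mem ((uG B).mul_mem hg huU) ((uG B).inv_mem hg), ?_, ?_⟩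
  · rw [LinearEquiv.mul_apply, LinearEquiv.mul_apply, hgiv, huv, hgv]
  · intro w hw
    have hw' : B v (g⁻¹ w) = 0 := by
      have h5 := hg v (g⁻¹ w)
      rw [hgv, apply_inv_apply'] at h5
      rw [← h5]
      exact hw
    obtain ⟨c, hc⟩ := huu (g⁻¹ w) hw'
    refine ⟨c, ?_⟩
    rw [LinearEquiv.mul_apply, LinearEquiv.mul_apply]
    have h6 : g (u (g⁻¹ w)) - w = g (u (g⁻¹ w) - g⁻¹ w) := by
      rw [map_sub, apply_inv_apply']
    rw [h6, hc, map_smul, hgv]

/-! ### Sylow subgroups of `SUg B` fixing an isotropic vector -/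

/-- `unip B v` as a subgroup of `SUg B` -/
noncomputable def unipS (B : V →ₗ[F] V →ₛₗ[σ] F) (v : V) : Subgroup ↥(SUg B) :=
  (unip B v).subgroupOf (SUg B)

theorem mem_unipS {v : V} {g : ↥(SUg B)} : g ∈ unipS B v ↔ (g : V ≃ₗ[F] V) ∈ unip B v :=
  Subgroup.mem_subgroupOf

theorem isPGroup_unipS (hnt : Nontrivial V) (v : V) : IsPGroup p (unipS B v) := by
  intro g
  refine ⟨2, ?_⟩
  apply Subtype.ext
  apply Subtype.ext
  have h := pow_eq_one_of_mem_unip' (p := p) hnt v _ (mem_unipS.mp g.2)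
  simpa using h

/-- a Sylow `p`-subgroup of `SUg B` fixing `v` contains `unip B v` -/
theorem unipS_le_of_fix (hnt : Nontrivial V) {v : V} (P : Sylow p ↥(SUg B))
    (hfix : ∀ g ∈ P, (g : V ≃ₗ[F] V) v = v) : unipS B v ≤ P := by
  have hnorm : (P : Subgroup ↥(SUg B)) ≤ Subgroup.normalizer (unipS B v) := by
    intro g hg
    have hgU : (g : V ≃ₗ[F] V) ∈ uG B := (mem_SUg.mp g.2).1
    rw [Subgroup.mem_normalizer_iff]
    intro h
    constructor
    · intro hh
      rw [mem_unipS] at hh ⊢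
      exact conj_mem_unip hgU (hfix g hg) hh
    · intro hh
      rw [mem_unipS] at hh ⊢
      have hgi : ((g : V ≃ₗ[F] V)⁻¹) v = v := by
        conv_lhs => rw [← hfix g hg]
        exact inv_apply_apply' _ v
      have h1 := conj_mem_unip ((uG B).inv_mem hgU) hgi hh
      have h2 : ((g : V ≃ₗ[F] V))⁻¹ * ((g * h * g⁻¹ : ↥(SUg B)) : V ≃ₗ[F] V) *
          ((g : V ≃ₗ[F] V))⁻¹⁻¹ = (h : V ≃ₗ[F] V) := by
        simp [mul_assoc]
      rw [h2] at h1
      exact h1
  have hp := IsPGroup.to_sup_of_normal_right' P.isPGroup' (isPGroup_unipS (p := p) hnt v) hnorm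
  have h3 := P.is_maximal' hp le_sup_left
  intro g hg
  have : g ∈ (P : Subgroup ↥(SUg B)) ⊔ unipS B v := (le_sup_right : unipS B v ≤ _) hg
  rw [h3] at this
  exact this

theorem utv_zero {v : V} (hv : B v v = 0) : utv B v 0 = 1 := by
  ext x
  rw [utv_apply B hv]
  simp

/-- the centre of a Sylow `p`-subgroup of `SUg B` fixing `v` is the root group of `v` -/
theorem center_sylow (hσ : Invol σ) (hB : IsHerm B) (hN : NondegOn B ⊤) (hnt : Nontrivial V)
    {v : V} (hv0 : v ≠ 0) (hv : B v v = 0) (P : Sylow p ↥(SUg B))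
    (hfix : ∀ g ∈ P, (g : V ≃ₗ[F] V) v = v) (z : ↥(SUg B)) (hz : z ∈ P) :
    (∀ s ∈ P, s * z = z * s) ↔ ∃ c : F, σ c = -c ∧ (z : V ≃ₗ[F] V) = utv B v c := by
  have hle := unipS_le_of_fix hnt P hfix
  have hzU : (z : V ≃ₗ[F] V) ∈ uG B := (mem_SUg.mp z.2).1
  have hzv : (z : V ≃ₗ[F] V) v = v := hfix z hz
  constructor
  · intro hcen
    have hcomm : ∀ g ∈ unip B v, g * (z : V ≃ₗ[F] V) = (z : V ≃ₗ[F] V) * g := by
      intro g hg
      have hgS : g ∈ SUg B := unip_le_SUg p hnt v hg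
      have h1 := hcen ⟨g, hgS⟩ (hle (mem_unipS.mpr hg))
      exact congrArg Subtype.val h1
    have hzunip : (z : V ≃ₗ[F] V) ∈ unip B v := by
      refine ⟨hzU, hzv, ?_⟩
      intro u hu
      have huv : B u v = 0 := herm_eq_zero hB hu
      obtain ⟨c, hc⟩ := tr_surj hσ (-(B u u)) (by rw [map_neg, herm_self hB])
      have hE := eich_mem_unip hB hv hu hc
      have h1 := hcomm _ hE
      have h2 := conj_eich hzU v u c
      rw [hzv] at h2
      have h3 : (z : V ≃ₗ[F] V) * eich B v u c * (z : V ≃ₗ[F] V)⁻¹ = eich B v u c := by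
        rw [← h1, mul_assoc, mul_inv_cancel, mul_one]
      rw [h3] at h2
      obtain ⟨x₀, -, hx₀⟩ := hN v trivial hv0
      have hx₀' : B x₀ v ≠ 0 := herm_ne_zero hσ hB hx₀
      set x := (B x₀ v)⁻¹ • x₀ with hx
      have hxv : B x v = 1 := by
        rw [hx, map_smul, LinearMap.smul_apply, smul_eq_mul, inv_mul_cancel₀ hx₀']
      clear_value x
      have hvzu : B v ((z : V ≃ₗ[F] V) u) = 0 := by
        have h5 := hzU v u
        rw [hzv] at h5
        rw [h5]
        exact hu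
      have hzuv : B ((z : V ≃ₗ[F] V) u) v = 0 := herm_eq_zero hB hvzu
      have h4 := LinearEquiv.congr_fun h2 x
      rw [eich_apply B hv huv hu, eich_apply B hv hzuv hvzu, hxv] at h4
      refine ⟨B x ((z : V ≃ₗ[F] V) u) - B x u, ?_⟩
      have e : (z : V ≃ₗ[F] V) u - u - (B x ((z : V ≃ₗ[F] V) u) - B x u) • v =
          (x + (1 : F) • (z : V ≃ₗ[F] V) u - B x ((z : V ≃ₗ[F] V) u) • v + (c * 1) • v) -
          (x + (1 : F) • u - B x u • v + (c * 1) • v) := by
        module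
      rw [← sub_eq_zero, e, h4, sub_self]
    by_cases hz1 : (z : V ≃ₗ[F] V) = 1
    · exact ⟨0, by simp, by rw [hz1, utv_zero hv]⟩
    · obtain ⟨c, -, hc, hzc⟩ := eq_utv_of_central hσ hB hN hv0 hv hzunip hz1 hcomm
      exact ⟨c, hc, hzc⟩
  · rintro ⟨c, hc, hzc⟩ s hs
    have hsU : (s : V ≃ₗ[F] V) ∈ uG B := (mem_SUg.mp s.2).1
    have h1 := conj_utv hsU v c
    rw [hfix s hs, ← hzc] at h1
    apply Subtype.ext
    rw [Subgroup.coe_mul, Subgroup.coe_mul]
    exact mul_inv_eq_iff_eq_mul.mp h1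

/-! ### the centre of `SUg B` -/

/-- a central element of `SUg B` fixes every isotropic point -/
theorem central_eigen (hσ : Invol σ) (hB : IsHerm B) (hN : NondegOn B ⊤)
    (z : ↥(SUg B)) (hz : z ∈ Subgroup.center ↥(SUg B)) {a : V} (ha0 : a ≠ 0) (ha : B a a = 0) :
    ∃ l : F, (z : V ≃ₗ[F] V) a = l • a := by
  obtain ⟨ζ, hζ0, hζ⟩ := exists_skew hσ
  have hzU : (z : V ≃ₗ[F] V) ∈ uG B := (mem_SUg.mp z.2).1
  have h1 := (Subgroup.mem_center_iff.mp hz) ⟨utv B a ζ, utv_mem_SUg hB a hζ⟩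
  have h2 : utv B a ζ * (z : V ≃ₗ[F] V) = (z : V ≃ₗ[F] V) * utv B a ζ := congrArg Subtype.val h1
  have h3 := conj_utv hzU a ζ
  rw [← h2, mul_assoc, mul_inv_cancel, mul_one] at h3
  have hza0 : (z : V ≃ₗ[F] V) a ≠ 0 := fun h => ha0 ((LinearEquiv.map_eq_zero_iff _).mp h)
  have hza : B ((z : V ≃ₗ[F] V) a) ((z : V ≃ₗ[F] V) a) = 0 := by rw [hzU, ha]
  obtain ⟨x, -, hx⟩ := hN _ trivial hza0
  have hx' : B x ((z : V ≃ₗ[F] V) a) ≠ 0 := herm_ne_zero hσ hB hx
  have h4 := LinearEquiv.congr_fun h3 x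
  rw [utv_apply B ha, utv_apply B hza] at h4
  have h5 : (ζ * B x a) • a = (ζ * B x ((z : V ≃ₗ[F] V) a)) • (z : V ≃ₗ[F] V) a :=
    add_left_cancel h4
  have h6 : ζ * B x ((z : V ≃ₗ[F] V) a) ≠ 0 := mul_ne_zero hζ0 hx'
  refine ⟨(ζ * B x ((z : V ≃ₗ[F] V) a))⁻¹ * (ζ * B x a), ?_⟩
  rw [← smul_smul, h5, smul_smul, inv_mul_cancel₀ h6, one_smul]

/-- `V` is spanned by its isotropic vectors -/
theorem span_iso_top (hσ : Invol σ) (hB : IsHerm B) (hN : NondegOn B ⊤) (h2 : 2 ≤ finrank F V)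
    (x : V) : x ∈ Submodule.span F {z : V | B z z = 0} := by
  obtain ⟨e, f, h⟩ := exists_hypPair hσ hB hN h2
  have h1 := span_iso hσ hB (U := ⊤) (e := e) (f := f) Submodule.mem_top Submodule.mem_top
    h.ee h.ff h.ef x Submodule.mem_top
  refine Submodule.span_mono ?_ h1
  rintro z ⟨-, hz⟩
  exact hz

/-- a central element of `SUg B` has order dividing `|F| - 1` -/
theorem central_pow (hσ : Invol σ) (hB : IsHerm B) (hN : NondegOn B ⊤) (h2 : 2 ≤ finrank F V)
    (z : ↥(SUg B)) (hz : z ∈ Subgroup.center ↥(SUg B)) : z ^ (Nat.card F - 1) = 1 := by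
  have : Fintype F := Fintype.ofFinite F
  apply Subtype.ext
  rw [Subgroup.coe_pow, Subgroup.coe_one]
  ext x
  rw [LinearEquiv.coe_one, id_eq]
  have hx := span_iso_top hσ hB hN h2 x
  refine Submodule.span_induction (p := fun y _ => ((z : V ≃ₗ[F] V) ^ (Nat.card F - 1)) y = y)
    ?_ ?_ ?_ ?_ hx
  · intro a ha
    by_cases ha0 : a = 0
    · rw [ha0, map_zero]
    obtain ⟨l, hl⟩ := central_eigen hσ hB hN z hz ha0 ha
    have hl0 : l ≠ 0 := by
      rintro rfl
      rw [zero_smul] at hl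
      exact ha0 ((LinearEquiv.map_eq_zero_iff _).mp hl)
    rw [pow_apply_of_eigen _ a l hl, Nat.card_eq_fintype_card,
      FiniteField.pow_card_sub_one_eq_one l hl0, one_smul]
  · rw [map_zero]
  · intro x y _ _ hx hy
    rw [map_add, hx, hy]
  · intro c x _ hx
    rw [map_smul, hx]

theorem coprime_pow_card_sub_one (F : Type*) [Field F] [Finite F] (p : ℕ) [hp : Fact p.Prime]
    [CharP F p] (k : ℕ) : Nat.Coprime (p ^ k) (Nat.card F - 1) := by
  apply Nat.Coprime.pow_left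
  rw [Nat.Prime.coprime_iff_not_dvd hp.out]
  intro h
  have h1 := prime_dvd_card_field F p
  have hpos : 0 < Nat.card F := Nat.card_pos
  have h2 : p ∣ Nat.card F - (Nat.card F - 1) := Nat.dvd_sub h1 h
  have h3 : Nat.card F - (Nat.card F - 1) = 1 := by omega
  rw [h3] at h2
  exact hp.out.one_lt.ne' (Nat.dvd_one.mp h2)

/-- a central `p`-element of `SUg B` is trivial -/
theorem central_p_eq_one (hσ : Invol σ) (hB : IsHerm B) (hN : NondegOn B ⊤)
    (h2 : 2 ≤ finrank F V) (z : ↥(SUg B)) (hz : z ∈ Subgroup.center ↥(SUg B)) (k : ℕ)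
    (hk : z ^ (p ^ k) = 1) : z = 1 := by
  have h1 := central_pow hσ hB hN h2 z hz
  have h3 : z ^ Nat.gcd (p ^ k) (Nat.card F - 1) = 1 := pow_gcd_eq_one.mpr ⟨hk, h1⟩
  rw [Nat.Coprime.gcd_eq_one (coprime_pow_card_sub_one F p k), pow_one] at h3
  exact h3

/-- `p`-elements of `SUg B` with the same image in `Q` are equal -/
theorem eq_of_mk_eq (hσ : Invol σ) (hB : IsHerm B) (hN : NondegOn B ⊤) (h2 : 2 ≤ finrank F V)
    (mk : ↥(SUg B) →* Q) (hker : mk.ker = Subgroup.center ↥(SUg B)) (u u' : ↥(SUg B))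
    (k k' : ℕ) (hu : u ^ (p ^ k) = 1) (hu' : u' ^ (p ^ k') = 1) (h : mk u = mk u') : u = u' := by
  have hζ : u⁻¹ * u' ∈ Subgroup.center ↥(SUg B) := by
    rw [← hker, MonoidHom.mem_ker, map_mul, map_inv, h, inv_mul_cancel]
  have hcomm : Commute u (u⁻¹ * u') := (Subgroup.mem_center_iff.mp hζ) u
  have h3 : (u⁻¹ * u') ^ (p ^ (k + k')) = 1 := by
    have h4 : u' ^ (p ^ (k + k')) = 1 := by
      rw [pow_add, mul_comm, pow_mul, hu', one_pow]
    have h5 : u ^ (p ^ (k + k')) = 1 := by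
      rw [pow_add, pow_mul, hu, one_pow]
    have h6 : u' = u * (u⁻¹ * u') := by group
    rw [h6, hcomm.mul_pow, h5, one_mul] at h4
    exact h4
  have h7 := central_p_eq_one hσ hB hN h2 _ hζ _ h3
  calc u = u * 1 := (mul_one u).symm
    _ = u * (u⁻¹ * u') := by rw [h7]
    _ = u' := by group

/-- the centre of the image of a Sylow `p`-subgroup is the image of the centre -/
theorem zSet_map (hσ : Invol σ) (hB : IsHerm B) (hN : NondegOn B ⊤) (h2 : 2 ≤ finrank F V)
    (mk : ↥(SUg B) →* Q) (hker : mk.ker = Subgroup.center ↥(SUg B)) (P : Sylow p ↥(SUg B))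
    (t : Q) : t ∈ zSet ((P : Subgroup ↥(SUg B)).map mk) ↔
      ∃ z ∈ P, (∀ s ∈ P, s * z = z * s) ∧ t = mk z := by
  constructor
  · rintro ⟨⟨z, hz, rfl⟩, hcen⟩
    refine ⟨z, hz, ?_, rfl⟩
    intro s hs
    have h1 := hcen (mk s) (Subgroup.mem_map_of_mem mk hs)
    obtain ⟨k, hk⟩ := P.isPGroup' ⟨z, hz⟩
    have hk' : z ^ (p ^ k) = 1 := by
      have := congrArg Subtype.val hk
      simpa using this
    have hk'' : (s * z * s⁻¹) ^ (p ^ k) = 1 := by
      rw [conj_pow, hk', mul_one, mul_inv_cancel]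
    have h3 : mk (s * z * s⁻¹) = mk z := by
      rw [map_mul, map_mul, h1, map_inv, mul_inv_cancel_right]
    have h4 := eq_of_mk_eq hσ hB hN h2 mk hker _ _ k k hk'' hk' h3
    exact mul_inv_eq_iff_eq_mul.mp h4
  · rintro ⟨z, hz, hcen, rfl⟩
    refine ⟨Subgroup.mem_map_of_mem mk hz, ?_⟩
    rintro _ ⟨s, hs, rfl⟩
    rw [← map_mul, ← map_mul, hcen s hs]

/-- the centre of the image of a Sylow `p`-subgroup fixing `v` is the root set of `v` -/
theorem zSet_eq_rootSet (hσ : Invol σ) (hB : IsHerm B) (hN : NondegOn B ⊤)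
    (h2 : 2 ≤ finrank F V) (mk : ↥(SUg B) →* Q) (hker : mk.ker = Subgroup.center ↥(SUg B))
    {v : V} (hv0 : v ≠ 0) (hv : B v v = 0) (P : Sylow p ↥(SUg B))
    (hfix : ∀ g ∈ P, (g : V ≃ₗ[F] V) v = v) :
    zSet ((P : Subgroup ↥(SUg B)).map mk) = rootSet mk v := by
  have hnt : Nontrivial V := by
    apply Module.nontrivial_of_finrank_pos (R := F)
    omega
  ext t
  rw [zSet_map hσ hB hN h2 mk hker P t]
  constructor
  · rintro ⟨z, hz, hcen, rfl⟩
    obtain ⟨c, hc, hzc⟩ := (center_sylow hσ hB hN hnt hv0 hv P hfix z hz).mp hcen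
    exact ⟨z, c, hc, hzc, rfl⟩
  · rintro ⟨g, c, hc, hgc, rfl⟩
    have hgP : g ∈ P := by
      apply unipS_le_of_fix hnt P hfix
      rw [mem_unipS, hgc]
      exact utv_mem_unip hB hv hc
    exact ⟨g, hgP, (center_sylow hσ hB hN hnt hv0 hv P hfix g hgP).mpr ⟨c, hc, hgc⟩, rfl⟩

/-- every Sylow `p`-subgroup of `SUg B` fixes a nonzero isotropic vector -/
theorem sylow_fixes (hσ : Invol σ) (hB : IsHerm B) (hN : NondegOn B ⊤) (h2 : 2 ≤ finrank F V)
    (P : Sylow p ↥(SUg B)) :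
    ∃ v : V, v ≠ 0 ∧ B v v = 0 ∧ ∀ g ∈ P, (g : V ≃ₗ[F] V) v = v := by
  have hP : IsPGroup p ((P : Subgroup ↥(SUg B)).map (SUg B).subtype) := P.isPGroup'.map _
  have hPU : (P : Subgroup ↥(SUg B)).map (SUg B).subtype ≤ uG B := by
    rintro _ ⟨g, -, rfl⟩
    exact (mem_SUg.mp g.2).1
  obtain ⟨v, hv0, hv, hf⟩ := exists_fixed_iso' hσ hB hN h2 _ hPU hP
  exact ⟨v, hv0, hv, fun g hg => hf _ (Subgroup.mem_map_of_mem _ hg)⟩

/-- **A1**: the centre of a Sylow `p`-subgroup of `Q` is a root set -/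
theorem A1 (hσ : Invol σ) (hB : IsHerm B) (hN : NondegOn B ⊤) (h3 : 3 ≤ finrank F V)
    (mk : ↥(SUg B) →* Q) (hsurj : Function.Surjective mk)
    (hker : mk.ker = Subgroup.center ↥(SUg B)) (S : Sylow p Q) :
    ∃ v : V, v ≠ 0 ∧ B v v = 0 ∧ zSet (S : Subgroup Q) = rootSet mk v := by
  have : Finite (V ≃ₗ[F] V) := finite_linearEquiv'
  obtain ⟨P, rfl⟩ := Sylow.mapSurjective_surjective hsurj p S
  obtain ⟨v, hv0, hv, hfix⟩ := sylow_fixes hσ hB hN (by omega) P
  refine ⟨v, hv0, hv, ?_⟩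
  rw [Sylow.coe_mapSurjective]
  exact zSet_eq_rootSet hσ hB hN (by omega) mk hker hv0 hv P hfix

/-- a Sylow `p`-subgroup of `SUg B` containing `unip B v` fixes `v` -/
theorem fixes_of_unipS_le (hσ : Invol σ) (hB : IsHerm B) (hN : NondegOn B ⊤)
    (h2 : 2 ≤ finrank F V) {v : V} (hv0 : v ≠ 0) (hv : B v v = 0) (P : Sylow p ↥(SUg B))
    (hle : unipS B v ≤ P) : ∀ g ∈ P, (g : V ≃ₗ[F] V) v = v := by
  have hnt : Nontrivial V := by
    apply Module.nontrivial_of_finrank_pos (R := F)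
    omega
  obtain ⟨v', hv'0, hv', hfix⟩ := sylow_fixes hσ hB hN h2 P
  have hmem : v' ∈ Submodule.span F {v} := by
    apply mem_span_of_fixed hσ hB hN hv0 hv
    intro g hg
    exact hfix ⟨g, unip_le_SUg p hnt v hg⟩ (hle (mem_unipS.mpr hg))
  obtain ⟨c, rfl⟩ := Submodule.mem_span_singleton.mp hmem
  have hc0 : c ≠ 0 := by
    rintro rfl
    rw [zero_smul] at hv'0
    exact hv'0 rfl
  intro g hg
  have h1 := hfix g hg
  rw [map_smul] at h1
  exact smul_right_injective V hc0 h1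

/-- there is a Sylow `p`-subgroup of `SUg B` fixing a given isotropic vector -/
theorem exists_sylow_fixing (hσ : Invol σ) (hB : IsHerm B) (hN : NondegOn B ⊤)
    (h2 : 2 ≤ finrank F V) {v : V} (hv0 : v ≠ 0) (hv : B v v = 0) :
    ∃ P : Sylow p ↥(SUg B), ∀ g ∈ P, (g : V ≃ₗ[F] V) v = v := by
  have hnt : Nontrivial V := by
    apply Module.nontrivial_of_finrank_pos (R := F)
    omega
  obtain ⟨P, hP⟩ := (isPGroup_unipS (p := p) (B := B) hnt v).exists_le_sylow
  exact ⟨P, fixes_of_unipS_le hσ hB hN h2 hv0 hv P hP⟩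

/-- **A2**: every root set is the centre of a Sylow `p`-subgroup of `Q` -/
theorem A2 (hσ : Invol σ) (hB : IsHerm B) (hN : NondegOn B ⊤) (h3 : 3 ≤ finrank F V)
    (mk : ↥(SUg B) →* Q) (hsurj : Function.Surjective mk)
    (hker : mk.ker = Subgroup.center ↥(SUg B)) (v : V) (hv0 : v ≠ 0) (hv : B v v = 0) :
    ∃ S : Sylow p Q, zSet (S : Subgroup Q) = rootSet mk v := by
  have : Finite (V ≃ₗ[F] V) := finite_linearEquiv'
  obtain ⟨P, hfix⟩ := exists_sylow_fixing (p := p) hσ hB hN (by omega) hv0 hv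
  refine ⟨P.mapSurjective hsurj, ?_⟩
  rw [Sylow.coe_mapSurjective]
  exact zSet_eq_rootSet hσ hB hN (by omega) mk hker hv0 hv P hfix

/-! ### recovering the point from the root set -/

/-- the root set determines the isotropic point -/
theorem mem_span_of_rootSet_le (p : ℕ) [Fact p.Prime] [CharP F p] (hσ : Invol σ) (hB : IsHerm B) (hN : NondegOn B ⊤)
    (h2 : 2 ≤ finrank F V) (mk : ↥(SUg B) →* Q) (hker : mk.ker = Subgroup.center ↥(SUg B))
    {v v₁ : V} (hv0 : v ≠ 0) (hv : B v v = 0) (hv₁0 : v₁ ≠ 0) (hv₁ : B v₁ v₁ = 0)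
    (hle : rootSet mk v₁ ⊆ rootSet mk v) : v₁ ∈ Submodule.span F {v} := by
  have hnt : Nontrivial V := by
    apply Module.nontrivial_of_finrank_pos (R := F)
    omega
  obtain ⟨ζ, hζ0, hζ⟩ := exists_skew hσ
  have hmem : mk ⟨utv B v₁ ζ, utv_mem_SUg hB v₁ hζ⟩ ∈ rootSet mk v₁ :=
    ⟨_, ζ, hζ, rfl, rfl⟩
  obtain ⟨g, c, hc, hgc, hmk⟩ := hle hmem
  have hp1 : (⟨utv B v₁ ζ, utv_mem_SUg hB v₁ hζ⟩ : ↥(SUg B)) ^ (p ^ 2) = 1 := by
    apply Subtype.ext
    rw [Subgroup.coe_pow, Subgroup.coe_one]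
    exact pow_eq_one_of_mem_unip' hnt v₁ _ (utv_mem_unip hB hv₁ hζ)
  have hp2 : g ^ (p ^ 2) = 1 := by
    apply Subtype.ext
    rw [Subgroup.coe_pow, Subgroup.coe_one, hgc]
    exact pow_eq_one_of_mem_unip' hnt v _ (utv_mem_unip hB hv hc)
  have h3 := eq_of_mk_eq hσ hB hN h2 mk hker _ _ 2 2 hp1 hp2 hmk
  have h4 : utv B v₁ ζ = utv B v c := by
    rw [← hgc, ← h3]
  obtain ⟨x, -, hx⟩ := hN v₁ trivial hv₁0
  have hx' : B x v₁ ≠ 0 := herm_ne_zero hσ hB hx
  have h5 := LinearEquiv.congr_fun h4 x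
  rw [utv_apply B hv₁, utv_apply B hv] at h5
  have h6 : (ζ * B x v₁) • v₁ = (c * B x v) • v := add_left_cancel h5
  have h7 : ζ * B x v₁ ≠ 0 := mul_ne_zero hζ0 hx'
  rw [Submodule.mem_span_singleton]
  refine ⟨(ζ * B x v₁)⁻¹ * (c * B x v), ?_⟩
  rw [← smul_smul, ← h6, smul_smul, inv_mul_cancel₀ h7, one_smul]

/-- a Sylow `p`-subgroup of `Q` whose centre is the root set of `v` is the image of a Sylow
`p`-subgroup of `SUg B` fixing `v` -/
theorem sylow_of_zSet (hσ : Invol σ) (hB : IsHerm B) (hN : NondegOn B ⊤)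
    (h2 : 2 ≤ finrank F V) (mk : ↥(SUg B) →* Q) (hsurj : Function.Surjective mk)
    (hker : mk.ker = Subgroup.center ↥(SUg B))
    {v : V} (hv0 : v ≠ 0) (hv : B v v = 0) (S : Sylow p Q)
    (hS : zSet (S : Subgroup Q) = rootSet mk v) :
    ∃ P : Sylow p ↥(SUg B), (S : Subgroup Q) = (P : Subgroup ↥(SUg B)).map mk ∧
      ∀ g ∈ P, (g : V ≃ₗ[F] V) v = v := by
  have : Finite (V ≃ₗ[F] V) := finite_linearEquiv'
  obtain ⟨P, rfl⟩ := Sylow.mapSurjective_surjective hsurj p S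
  refine ⟨P, Sylow.coe_mapSurjective hsurj P, ?_⟩
  obtain ⟨v₁, hv₁0, hv₁, hfix⟩ := sylow_fixes hσ hB hN h2 P
  have h1 := zSet_eq_rootSet hσ hB hN h2 mk hker hv₁0 hv₁ P hfix
  rw [Sylow.coe_mapSurjective] at hS
  rw [hS] at h1
  have hmem := mem_span_of_rootSet_le p hσ hB hN h2 mk hker hv0 hv hv₁0 hv₁ h1.symm.le
  obtain ⟨c, rfl⟩ := Submodule.mem_span_singleton.mp hmem
  have hc0 : c ≠ 0 := by
    rintro rfl
    rw [zero_smul] at hv₁0
    exact hv₁0 rfl
  intro g hg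
  have h3 := hfix g hg
  rw [map_smul] at h3
  exact smul_right_injective V hc0 h3

/-! ### the intersection of the Sylow subgroups fixing `v` -/

theorem mem_smul_sylow {G : Type*} [Group G] (h g : G) (P : Sylow p G) :
    g ∈ h • P ↔ h⁻¹ * g * h ∈ P := by
  show g ∈ MulAut.conj h • (P : Subgroup G) ↔ _
  rw [Subgroup.mem_pointwise_smul_iff_inv_smul_mem]
  simp only [MulAut.smul_def, MulAut.conj_inv_apply]
  exact Iff.rfl

/-- the intersection of the Sylow `p`-subgroups of `SUg B` fixing `v` -/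
noncomputable def coreS (p : ℕ) (B : V →ₗ[F] V →ₛₗ[σ] F) (v : V) : Subgroup ↥(SUg B) :=
  ⨅ P : {P : Sylow p ↥(SUg B) // ∀ g ∈ P, (g : V ≃ₗ[F] V) v = v}, (P.1 : Subgroup ↥(SUg B))

theorem mem_coreS {v : V} {u : ↥(SUg B)} : u ∈ coreS p B v ↔
    ∀ P : Sylow p ↥(SUg B), (∀ g ∈ P, (g : V ≃ₗ[F] V) v = v) → u ∈ P := by
  unfold coreS
  rw [Subgroup.mem_iInf]
  constructor
  · intro h P hP
    exact h ⟨P, hP⟩
  · intro h P
    exact h P.1 P.2

theorem coreS_conj {v : V} (h : ↥(SUg B)) (hv : (h : V ≃ₗ[F] V) v = v) (d : ↥(SUg B))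
    (hd : d ∈ coreS p B v) : h⁻¹ * d * h ∈ coreS p B v := by
  rw [mem_coreS] at hd ⊢
  intro P hP
  have h1 : ∀ g ∈ h • P, (g : V ≃ₗ[F] V) v = v := by
    intro g hg
    rw [mem_smul_sylow] at hg
    have h2 := hP _ hg
    rw [Subgroup.coe_mul, Subgroup.coe_mul, Subgroup.coe_inv, LinearEquiv.mul_apply,
      LinearEquiv.mul_apply, hv] at h2
    have h3 := congrArg (fun t => (h : V ≃ₗ[F] V) t) h2
    simp only [apply_inv_apply'] at h3
    rw [h3, hv]
  have h3 := hd (h • P) h1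
  rwa [mem_smul_sylow] at h3

/-- the vectors of `v^⊥` moved by `coreS` only along `v` -/
def layer (p : ℕ) (B : V →ₗ[F] V →ₛₗ[σ] F) (v : V) : Submodule F V where
  carrier := {w | B v w = 0 ∧ ∀ d ∈ coreS p B v, ∃ c : F, (d : V ≃ₗ[F] V) w - w = c • v}
  add_mem' := by
    rintro a b ⟨ha, ha'⟩ ⟨hb, hb'⟩
    refine ⟨by rw [map_add, ha, hb, add_zero], ?_⟩
    intro d hd
    obtain ⟨c₁, h₁⟩ := ha' d hd
    obtain ⟨c₂, h₂⟩ := hb' d hd
    refine ⟨c₁ + c₂, ?_⟩
    rw [map_add, add_smul, ← h₁, ← h₂]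
    abel
  zero_mem' := ⟨by simp, fun d hd => ⟨0, by simp⟩⟩
  smul_mem' := by
    rintro k a ⟨ha, ha'⟩
    refine ⟨by rw [map_smulₛₗ, ha, smul_zero], ?_⟩
    intro d hd
    obtain ⟨c, hc⟩ := ha' d hd
    refine ⟨k * c, ?_⟩
    rw [map_smul, ← smul_sub, hc, smul_smul]

theorem mem_layer {v w : V} : w ∈ layer p B v ↔
    B v w = 0 ∧ ∀ d ∈ coreS p B v, ∃ c : F, (d : V ≃ₗ[F] V) w - w = c • v := Iff.rfl

theorem layer_inv {v : V} (h : ↥(SUg B)) (hv : (h : V ≃ₗ[F] V) v = v) {w : V}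
    (hw : w ∈ layer p B v) : (h : V ≃ₗ[F] V) w ∈ layer p B v := by
  obtain ⟨hw1, hw2⟩ := hw
  have hU : (h : V ≃ₗ[F] V) ∈ uG B := (mem_SUg.mp h.2).1
  refine ⟨?_, ?_⟩
  · have h5 := hU v w
    rw [hv] at h5
    rw [h5]
    exact hw1
  · intro d hd
    obtain ⟨c, hc⟩ := hw2 _ (coreS_conj h hv d hd)
    refine ⟨c, ?_⟩
    rw [Subgroup.coe_mul, Subgroup.coe_mul, Subgroup.coe_inv, LinearEquiv.mul_apply,
      LinearEquiv.mul_apply] at hc
    have h1 := congrArg (fun t => (h : V ≃ₗ[F] V) t) hc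
    simp only [map_sub, apply_inv_apply', map_smul, hv] at h1
    exact h1

/-- the common orthogonal complement of `v` and `f` -/
def Wc (B : V →ₗ[F] V →ₛₗ[σ] F) (v f : V) : Submodule F V := ⊤ ⊓ orthV B v ⊓ orthV B f

theorem mem_Wc {v f x : V} : x ∈ Wc B v f ↔ B x v = 0 ∧ B x f = 0 := by
  simp [Wc, mem_orthV]

theorem finrank_Wc (hB : IsHerm B) (hN : NondegOn B ⊤) (v f : V) :
    finrank F V ≤ finrank F (Wc B v f) + 2 := by
  classical
  have he : Wc B v f = orthS B (Submodule.span F {v, f}) := by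
    ext x
    rw [mem_Wc, mem_orthS_pair]
    constructor
    · rintro ⟨h1, h2⟩
      exact ⟨herm_eq_zero hB h1, herm_eq_zero hB h2⟩
    · rintro ⟨h1, h2⟩
      exact ⟨herm_eq_zero hB h1, herm_eq_zero hB h2⟩
  have h := finrank_orthS hB hN (Submodule.span F {v, f})
  rw [← he] at h
  have h1 := finrank_span_finset_le_card (R := F) ({v, f} : Finset V)
  have h2 : (({v, f} : Finset V) : Set V) = {v, f} := by simp
  rw [h2, Set.finrank] at h1
  have h3 : ({v, f} : Finset V).card ≤ 2 := Finset.card_le_two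
  omega

theorem coreS_isPGroup (hσ : Invol σ) (hB : IsHerm B) (hN : NondegOn B ⊤)
    (h2 : 2 ≤ finrank F V) {v : V} (hv0 : v ≠ 0) (hv : B v v = 0) :
    IsPGroup p (coreS p B v) ∧ ∀ d ∈ coreS p B v, (d : V ≃ₗ[F] V) v = v := by
  obtain ⟨P₀, hP₀⟩ := exists_sylow_fixing (p := p) hσ hB hN h2 hv0 hv
  have hle : coreS p B v ≤ P₀ := fun u hu => mem_coreS.mp hu P₀ hP₀
  exact ⟨P₀.isPGroup'.to_le hle, fun d hd => hP₀ d (hle hd)⟩

/-- `coreS` fixes a nonzero vector of `⟨v, f⟩^⊥` modulo `v` -/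
theorem layer_ne (hσ : Invol σ) (hB : IsHerm B) (hN : NondegOn B ⊤)
    (h3 : 3 ≤ finrank F V) {v f : V} (hv0 : v ≠ 0) (hv : B v v = 0) (hf : B f f = 0)
    (hvf : B v f = 1) :
    ∃ w ∈ layer p B v, w ≠ 0 ∧ w ∈ Wc B v f := by
  have hfv : B f v = 1 := by rw [hB v f, hvf, map_one]
  obtain ⟨hD, hDv⟩ := coreS_isPGroup (p := p) hσ hB hN (by omega) hv0 hv
  have hDU : ∀ d : ↥(SUg B), (d : V ≃ₗ[F] V) ∈ uG B := fun d => (mem_SUg.mp d.2).1
  have : Finite V := Module.finite_of_finite F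
  let _ : MulAction (coreS p B v) (Wc B v f) :=
    { smul := fun d w => ⟨((d : ↥(SUg B)) : V ≃ₗ[F] V) w -
          B (((d : ↥(SUg B)) : V ≃ₗ[F] V) w) f • v, by
        have hw := mem_Wc.mp w.2
        have h5 := hDU d ((w : V)) v
        rw [hDv d d.2] at h5
        rw [mem_Wc]
        constructor
        · rw [map_sub, LinearMap.sub_apply, map_smul, LinearMap.smul_apply, hv, smul_zero,
            sub_zero, h5]
          exact hw.1
        · rw [map_sub, LinearMap.sub_apply, map_smul, LinearMap.smul_apply, hvf, smul_eq_mul,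
            mul_one, sub_self]⟩
      one_smul := by
        intro w
        apply Subtype.ext
        have hw := mem_Wc.mp w.2
        show ((((1 : ↥(coreS p B v)) : ↥(SUg B)) : V ≃ₗ[F] V)) (w : V) -
          B ((((1 : ↥(coreS p B v)) : ↥(SUg B)) : V ≃ₗ[F] V) (w : V)) f • v = (w : V)
        rw [Subgroup.coe_one, Subgroup.coe_one, LinearEquiv.coe_one, id_eq, hw.2, zero_smul,
          sub_zero]
      mul_smul := by
        intro d₁ d₂ w
        apply Subtype.ext
        show ((((d₁ * d₂ : ↥(coreS p B v)) : ↥(SUg B)) : V ≃ₗ[F] V)) (w : V) -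
          B ((((d₁ * d₂ : ↥(coreS p B v)) : ↥(SUg B)) : V ≃ₗ[F] V) (w : V)) f • v =
          (((d₁ : ↥(SUg B)) : V ≃ₗ[F] V)) ((((d₂ : ↥(SUg B)) : V ≃ₗ[F] V)) (w : V) -
            B ((((d₂ : ↥(SUg B)) : V ≃ₗ[F] V)) (w : V)) f • v) -
          B ((((d₁ : ↥(SUg B)) : V ≃ₗ[F] V)) ((((d₂ : ↥(SUg B)) : V ≃ₗ[F] V)) (w : V) -
            B ((((d₂ : ↥(SUg B)) : V ≃ₗ[F] V)) (w : V)) f • v)) f • v
        rw [Subgroup.coe_mul, Subgroup.coe_mul, LinearEquiv.mul_apply, map_sub, map_smul,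
          hDv d₁ d₁.2, map_sub, LinearMap.sub_apply, map_smul, LinearMap.smul_apply, hvf,
          smul_eq_mul, mul_one]
        module }
  have hsmul : ∀ (d : ↥(coreS p B v)) (w : ↥(Wc B v f)),
      ((d • w : ↥(Wc B v f)) : V) = ((d : ↥(SUg B)) : V ≃ₗ[F] V) w -
          B (((d : ↥(SUg B)) : V ≃ₗ[F] V) w) f • v := fun d w => rfl
  have hcard : p ∣ Nat.card (Wc B v f) := by
    rw [Module.natCard_eq_pow_finrank (K := F) (V := Wc B v f)]
    have hpos : 0 < finrank F (Wc B v f) := by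
      have := finrank_Wc hB hN v f
      omega
    exact Dvd.dvd.trans (prime_dvd_card_field F p) (dvd_pow_self _ hpos.ne')
  have h0 : (0 : Wc B v f) ∈ MulAction.fixedPoints (coreS p B v) (Wc B v f) := by
    intro d
    apply Subtype.ext
    rw [hsmul]
    simp
  obtain ⟨b, hb, hne⟩ :=
    hD.exists_fixed_point_of_prime_dvd_card_of_fixed_point (Wc B v f) hcard h0
  have hbW := mem_Wc.mp b.2
  refine ⟨b, ⟨herm_eq_zero hB hbW.1, ?_⟩, ?_, b.2⟩
  · intro d hd
    have h1 := congrArg Subtype.val (hb ⟨d, hd⟩)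
    rw [hsmul] at h1
    refine ⟨B ((d : V ≃ₗ[F] V) (b : V)) f, ?_⟩
    have h2 := congrArg (fun t => t + B ((d : V ≃ₗ[F] V) (b : V)) f • v - (b : V)) h1
    simp only [sub_add_cancel] at h2
    rw [h2]
    abel
  · intro hb0
    apply hne
    exact (Subtype.ext hb0).symm

/-- transfer along a transvection fixing `v` -/
theorem layer_step (hσ : Invol σ) (hB : IsHerm B) {v b x : V} (hbv : B b v = 0)
    (hb : B b b = 0) (hx : x ∈ layer p B v) (hxb : B x b ≠ 0) : b ∈ layer p B v := by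
  obtain ⟨ζ, hζ0, hζ⟩ := exists_skew hσ
  have hfixv : utv B b ζ v = v := utv_fix B b ζ (herm_eq_zero hB hbv)
  have h1 := layer_inv (p := p) ⟨utv B b ζ, utv_mem_SUg hB b hζ⟩ hfixv hx
  have h2 : utv B b ζ x = x + (ζ * B x b) • b := utv_apply B hb ζ x
  have h3 : (ζ * B x b) • b ∈ layer p B v := by
    have h4 := (layer p B v).sub_mem h1 hx
    have h5 : ((⟨utv B b ζ, utv_mem_SUg hB b hζ⟩ : ↥(SUg B)) : V ≃ₗ[F] V) x - x =
        (ζ * B x b) • b := by
      show utv B b ζ x - x = _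
      rw [h2, add_sub_cancel_left]
    rwa [h5] at h4
  exact ((layer p B v).smul_mem_iff (mul_ne_zero hζ0 hxb)).mp h3

/-- `coreS` moves every vector of `v^⊥` along `v` only -/
theorem layer_eq (hσ : Invol σ) (hB : IsHerm B) (hN : NondegOn B ⊤)
    (h3 : 3 ≤ finrank F V) {v : V} (hv0 : v ≠ 0) (hv : B v v = 0) (w : V) (hw : B v w = 0) :
    w ∈ layer p B v := by
  obtain ⟨f, -, hf, hvf⟩ := exists_partner hσ hB hN (Submodule.mem_top) hv0 hv
  have hfv : B f v = 1 := by rw [hB v f, hvf, map_one]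
  obtain ⟨w₀, hw₀T, hw₀0, hw₀W⟩ := layer_ne (p := p) hσ hB hN h3 hv0 hv hf hvf
  obtain ⟨hD, hDv⟩ := coreS_isPGroup (p := p) hσ hB hN (by omega) hv0 hv
  have hvT : v ∈ layer p B v := by
    refine ⟨hv, fun d hd => ⟨0, ?_⟩⟩
    rw [hDv d hd, sub_self, zero_smul]
  have hWT : ∀ y ∈ Wc B v f, y ∈ layer p B v := by
    by_cases hdim : finrank F (Wc B v f) ≤ 1
    · obtain ⟨u, hu⟩ := finrank_le_one_iff.mp hdim
      obtain ⟨a, ha⟩ := hu ⟨w₀, hw₀W⟩
      have ha' : a • (u : V) = w₀ := congrArg Subtype.val ha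
      have ha0 : a ≠ 0 := by
        rintro rfl
        rw [zero_smul] at ha'
        exact hw₀0 ha'.symm
      intro y hy
      obtain ⟨b, hb⟩ := hu ⟨y, hy⟩
      have hb' : b • (u : V) = y := congrArg Subtype.val hb
      have : y = (b * a⁻¹) • w₀ := by
        rw [← ha', smul_smul, mul_assoc, inv_mul_cancel₀ ha0, mul_one, hb']
      rw [this]
      exact (layer p B v).smul_mem _ hw₀T
    · have hdim2 : 2 ≤ finrank F (Wc B v f) := by omega
      have hW : NondegOn B (Wc B v f) :=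
        nondegOn_pair hB hN Submodule.mem_top Submodule.mem_top hv hf hvf
      obtain ⟨e', he'W, f', hf'W, he', hf', hef'⟩ :=
        Cfsg.Agent.Lib.Helper94_HermIrr.exists_pair hσ hB hW
        (Cfsg.Agent.Lib.Helper94_HermWitt.exists_notMem_span1 hdim2)
      have hspan := span_iso hσ hB he'W hf'W he' hf' hef'
      -- an isotropic vector of the complement non-orthogonal to `w₀`
      obtain ⟨a, haW, ha, hwa⟩ : ∃ a ∈ Wc B v f, B a a = 0 ∧ B w₀ a ≠ 0 := by
        by_contra hcon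
        push Not at hcon
        obtain ⟨y, hyW, hy⟩ := hW w₀ hw₀W hw₀0
        apply hy
        have := hspan y hyW
        refine Submodule.span_induction (p := fun y _ => B w₀ y = 0) ?_ ?_ ?_ ?_ this
        · rintro z ⟨hzW, hz⟩
          exact hcon z hzW hz
        · simp
        · intro x y _ _ hx hy
          rw [map_add, hx, hy, add_zero]
        · intro c x _ hx
          rw [map_smulₛₗ, hx, smul_zero]
      have ha0 : a ≠ 0 := by
        rintro rfl
        simp at hwa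
      have haT : a ∈ layer p B v := layer_step hσ hB (mem_Wc.mp haW).1 ha hw₀T hwa
      have hiso : ∀ a' ∈ Wc B v f, B a' a' = 0 → a' ∈ layer p B v := by
        intro a' ha'W ha'
        by_cases ha'0 : a' = 0
        · rw [ha'0]
          exact (layer p B v).zero_mem
        by_cases haa' : B a a' = 0
        · obtain ⟨a'', ha''W, ha'', h1, h2⟩ :=
            exists_connect hσ hB hW haW ha'W ha0 ha'0 ha haa'
          have ha''T : a'' ∈ layer p B v :=
            layer_step hσ hB (mem_Wc.mp ha''W).1 ha'' haT h1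
          exact layer_step hσ hB (mem_Wc.mp ha'W).1 ha' ha''T (herm_ne_zero hσ hB h2)
        · exact layer_step hσ hB (mem_Wc.mp ha'W).1 ha' haT haa'
      intro y hy
      have h1 : Submodule.span F {z | z ∈ Wc B v f ∧ B z z = 0} ≤ layer p B v := by
        rw [Submodule.span_le]
        rintro z ⟨hzW, hz⟩
        exact hiso z hzW hz
      exact h1 (hspan y hy)
  have hwv : B w v = 0 := herm_eq_zero hB hw
  have hdec : w = B w f • v + (w - B w f • v) := by abel
  rw [hdec]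
  refine (layer p B v).add_mem ((layer p B v).smul_mem _ hvT) (hWT _ ?_)
  rw [mem_Wc]
  constructor
  · rw [map_sub, LinearMap.sub_apply, map_smul, LinearMap.smul_apply, hv, smul_zero, sub_zero,
      hwv]
  · rw [map_sub, LinearMap.sub_apply, map_smul, LinearMap.smul_apply, hvf, smul_eq_mul, mul_one,
      sub_self]

/-- the intersection of the Sylow `p`-subgroups fixing `v` lies in `unip B v` -/
theorem mem_unip_of_mem_coreS (hσ : Invol σ) (hB : IsHerm B) (hN : NondegOn B ⊤)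
    (h3 : 3 ≤ finrank F V) {v : V} (hv0 : v ≠ 0) (hv : B v v = 0) {u : ↥(SUg B)}
    (hu : u ∈ coreS p B v) : (u : V ≃ₗ[F] V) ∈ unip B v := by
  obtain ⟨hD, hDv⟩ := coreS_isPGroup (p := p) hσ hB hN (by omega) hv0 hv
  refine ⟨(mem_SUg.mp u.2).1, hDv u hu, ?_⟩
  intro w hw
  exact (layer_eq (p := p) hσ hB hN h3 hv0 hv w hw).2 u hu

/-- **A3**: the intersection of the Sylow `p`-subgroups of `Q` with centre `rootSet mk v` is the
image of `unip B v` -/
theorem A3 (hσ : Invol σ) (hB : IsHerm B) (hN : NondegOn B ⊤) (h3 : 3 ≤ finrank F V)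
    (mk : ↥(SUg B) →* Q) (hsurj : Function.Surjective mk)
    (hker : mk.ker = Subgroup.center ↥(SUg B)) (v : V) (hv0 : v ≠ 0) (hv : B v v = 0) (t : Q) :
    (∀ S : Sylow p Q, zSet (S : Subgroup Q) = rootSet mk v → t ∈ S) ↔
      ∃ g : ↥(SUg B), (g : V ≃ₗ[F] V) ∈ unip B v ∧ t = mk g := by
  have : Finite (V ≃ₗ[F] V) := finite_linearEquiv'
  have h2 : 2 ≤ finrank F V := by omega
  have hnt : Nontrivial V := by
    apply Module.nontrivial_of_finrank_pos (R := F)
    omega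
  constructor
  · intro ht
    obtain ⟨P₀, hP₀⟩ := exists_sylow_fixing (p := p) hσ hB hN h2 hv0 hv
    have hmem : ∀ P : Sylow p ↥(SUg B), (∀ g ∈ P, (g : V ≃ₗ[F] V) v = v) →
        t ∈ (P : Subgroup ↥(SUg B)).map mk := by
      intro P hP
      have h1 := ht (P.mapSurjective hsurj) (by
        rw [Sylow.coe_mapSurjective]
        exact zSet_eq_rootSet hσ hB hN h2 mk hker hv0 hv P hP)
      exact h1
    obtain ⟨u, hu, rfl⟩ := hmem P₀ hP₀
    obtain ⟨k, hk⟩ := P₀.isPGroup' ⟨u, hu⟩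
    have hk' : u ^ (p ^ k) = 1 := by
      have := congrArg Subtype.val hk
      simpa using this
    refine ⟨u, mem_unip_of_mem_coreS hσ hB hN h3 hv0 hv (mem_coreS.mpr ?_), rfl⟩
    intro P hP
    obtain ⟨u', hu', h⟩ := hmem P hP
    obtain ⟨k', hk'⟩ := P.isPGroup' ⟨u', hu'⟩
    have hk'' : u' ^ (p ^ k') = 1 := by
      have := congrArg Subtype.val hk'
      simpa using this
    have h4 := eq_of_mk_eq hσ hB hN h2 mk hker u' u k' k hk'' (by assumption) h
    rw [← h4]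
    exact hu'
  · rintro ⟨g, hg, rfl⟩ S hS
    obtain ⟨P, hSP, hfix⟩ := sylow_of_zSet hσ hB hN h2 mk hsurj hker hv0 hv S hS
    have h1 : mk g ∈ (S : Subgroup Q) := by
      rw [hSP]
      exact Subgroup.mem_map_of_mem mk (unipS_le_of_fix hnt P hfix (mem_unipS.mpr hg))
    exact h1

end Cfsg.Agent.Lib.Helper45_PSURoot
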