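import Mathlib
import Cfsg.Agent.Lib.Helper14_PSULocal9
import Cfsg.Agent.Lib.Helper45_PSURoot

/-!
# Root sets are permuted by automorphisms (via Sylow subgroups)

We combine the Sylow characterisation of root sets (`Helper45_PSURoot`) with the generic
framework: every automorphism of `Q` maps root sets to root sets, and an automorphism
stabilising the root set of `v` stabilises the image of the unipotent radical `unip B v`.
-/

set_option autoImplicit false
set_option linter.unusedVariables false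
set_option linter.unusedSectionVars false

namespace Cfsg.Agent.Lib.Helper14_PSULocal10

open Module Cfsg.Agent.Lib.Helper94_Symp Cfsg.Agent.Lib.Helper94_Herm
  Cfsg.Agent.Lib.Helper94_HermOrth Cfsg.Agent.Lib.Helper94_HermEich
  Cfsg.Agent.Lib.Helper94_HermPara Cfsg.Agent.Lib.Helper94_HermTrans
  Cfsg.Agent.Lib.Helper13_SUGen
  Cfsg.Agent.Lib.Helper13_PSUSimple Cfsg.Agent.Lib.Helper46_U3TI
  Cfsg.Agent.Lib.Helper46_U3Center
  Cfsg.Agent.Lib.Helper14_PSULocal1 Cfsg.Agent.Lib.Helper14_PSULocal2
  Cfsg.Agent.Lib.Helper14_PSULocal3 Cfsg.Agent.Lib.Helper14_PSULocal4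
  Cfsg.Agent.Lib.Helper14_PSULocal5 Cfsg.Agent.Lib.Helper14_PSULocal6
  Cfsg.Agent.Lib.Helper14_PSULocal7 Cfsg.Agent.Lib.Helper14_PSULocal8
  Cfsg.Agent.Lib.Helper14_PSULocal9

open scoped Pointwise

variable {F V : Type*} [Field F] [Finite F] [AddCommGroup V] [Module F V] [FiniteDimensional F V]
variable {σ : F →+* F} {B : V →ₗ[F] V →ₛₗ[σ] F}
variable {p : ℕ} [Fact p.Prime] [CharP F p]
variable {Q : Type*} [Group Q] {mk : ↥(SUg B) →* Q}

section

variable (hσ : Invol σ) (hB : IsHerm B) (hN : NondegOn B ⊤)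

include hσ hB hN in
/-- A central element of the special unitary group is a scalar. -/
theorem center_scalar (h2 : 2 ≤ finrank F V) (z : ↥(SUg B))
    (hz : z ∈ Subgroup.center ↥(SUg B)) : ∃ l : F, ∀ x, (z : V ≃ₗ[F] V) x = l • x := by
  obtain ⟨e, f, h⟩ := exists_hypPair hσ hB hN h2
  obtain ⟨he0, hf0⟩ := hypPair_ne_zero h
  have heig := fun (a : V) (ha0 : a ≠ 0) (ha : B a a = 0) =>
    Cfsg.Agent.Lib.Helper45_PSURoot.central_eigen hσ hB hN z hz ha0 ha
  obtain ⟨l, hl⟩ := heig e he0 h.ee
  -- Case 1: isotropic vectors not orthogonal to an eigenvector with eigenvalue `l`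
  have case1 : ∀ (b : V) (lb : F), B b b = 0 → (z : V ≃ₗ[F] V) b = lb • b →
      ∀ a : V, a ≠ 0 → B a a = 0 → B a b ≠ 0 → ∀ la : F, (z : V ≃ₗ[F] V) a = la • a →
        la = lb := by
    intro b lb hb hlb a ha0 ha hab la hla
    obtain ⟨ζ, hζ0, hζ⟩ := exists_skew hσ
    have hba : B b a ≠ 0 := herm_ne_zero hσ hB hab
    set s := ζ / B b a with hs
    have hs0 : s ≠ 0 := div_ne_zero hζ0 hba
    have hiso : B (a + s • b) (a + s • b) = 0 := by
      have hbb : B a b = σ (B b a) := hB b a
      have hba' : σ (B b a) ≠ 0 := by rw [← hbb]; exact hab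
      rw [self_add hB, ha, self_smul, hb, map_smulₛₗ, hbb]
      simp only [smul_eq_mul, map_mul, map_div₀, hσ.invol, hζ, mul_zero, add_zero, zero_add, hs]
      field_simp
      rw [map_neg, hζ]
      ring
    have hne : a + s • b ≠ 0 := by
      intro h0
      have := congrArg (fun x => B x b) h0
      simp only [map_add, map_smul, LinearMap.add_apply, LinearMap.smul_apply, hb, smul_zero,
        add_zero, LinearMap.zero_apply, map_zero] at this
      exact hab this
    obtain ⟨ν, hν⟩ := heig _ hne hiso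
    rw [map_add, map_smul, hla, hlb, smul_add] at hν
    have e1 := congrArg (fun x => B x b) hν
    simp only [map_add, map_smul, LinearMap.add_apply, LinearMap.smul_apply, hb, smul_zero,
      add_zero, smul_eq_mul, mul_zero] at e1
    have h1 : la = ν := mul_right_cancel₀ hab e1
    have e2 := congrArg (fun x => B x a) hν
    simp only [map_add, map_smul, LinearMap.add_apply, LinearMap.smul_apply, ha, smul_zero,
      zero_add, smul_eq_mul, mul_zero] at e2
    have h2' : s * lb = ν * s := by
      have := mul_right_cancel₀ hba (by linear_combination e2 : s * lb * B b a = ν * s * B b a)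
      exact this
    rw [h1]
    have : s * (lb - ν) = 0 := by linear_combination h2'
    rcases mul_eq_zero.mp this with h5 | h5
    · exact absurd h5 hs0
    · exact (sub_eq_zero.mp h5).symm
  obtain ⟨lf, hlf⟩ := heig f hf0 h.ff
  have hlfl : lf = l := case1 e l h.ee hl f hf0 h.ff (by rw [h.fe]; exact one_ne_zero) lf hlf
  rw [hlfl] at hlf
  have hall : ∀ a : V, B a a = 0 → (z : V ≃ₗ[F] V) a = l • a := by
    intro a ha
    by_cases ha0 : a = 0
    · rw [ha0, map_zero, smul_zero]
    obtain ⟨la, hla⟩ := heig a ha0 ha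
    by_cases hae : B a e = 0
    · by_cases haf : B a f = 0
      · -- `a + e` is isotropic and not orthogonal to `f`
        have hea : B e a = 0 := herm_eq_zero hB hae
        have hiso : B (a + e) (a + e) = 0 := by
          rw [self_add hB, ha, h.ee, hae]; simp
        have hne : a + e ≠ 0 := by
          intro h0
          have := congrArg (fun x => B x f) h0
          simp only [map_add, LinearMap.add_apply, haf, h.ef, zero_add, LinearMap.zero_apply,
            map_zero] at this
          exact one_ne_zero this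
        obtain ⟨ν, hν⟩ := heig _ hne hiso
        have hνl : ν = l := case1 f l h.ff hlf _ hne hiso (by
          rw [map_add, LinearMap.add_apply, haf, h.ef, zero_add]; exact one_ne_zero) ν hν
        rw [hνl, map_add, hl, smul_add] at hν
        exact add_right_cancel hν
      · rw [hla, case1 f l h.ff hlf a ha0 ha haf la hla]
    · rw [hla, case1 e l h.ee hl a ha0 ha hae la hla]
  refine ⟨l, fun x => ?_⟩
  have hx := Cfsg.Agent.Lib.Helper45_PSURoot.span_iso_top hσ hB hN h2 x
  induction hx using Submodule.span_induction with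
  | mem a ha => exact hall a ha
  | zero => simp
  | add x y _ _ hx hy => rw [map_add, hx, hy, smul_add]
  | smul c x _ hx => rw [map_smul, hx, smul_comm]

include hσ hB hN in
/-- The kernel of `mk` consists of the scalars. -/
theorem kerScalar_of_ker (h2 : 2 ≤ finrank F V)
    (hker : mk.ker = Subgroup.center ↥(SUg B)) : KerScalar mk := by
  intro g
  rw [← MonoidHom.mem_ker, hker]
  constructor
  · exact center_scalar hσ hB hN h2 g
  · rintro ⟨l, hl⟩
    rw [Subgroup.mem_center_iff]
    intro x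
    apply Subtype.ext
    rw [Subgroup.coe_mul, Subgroup.coe_mul]
    ext y
    rw [LinearEquiv.mul_apply, LinearEquiv.mul_apply, hl, hl, map_smul]

end

/-! ### Bridging the two descriptions of root sets -/

omit [Finite F] [FiniteDimensional F V] in
lemma rootSet_eq (hB : IsHerm B) (v : V) :
    Cfsg.Agent.Lib.Helper45_PSURoot.rootSet mk v = rootSet mk v := by
  ext t
  constructor
  · rintro ⟨g, c, hc, hg, rfl⟩
    exact ⟨c, hc, by rw [← hg, mkT_coe]⟩
  · rintro ⟨c, hc, rfl⟩
    exact ⟨⟨_, utv_mem_SUg hB v hc⟩, c, hc, rfl, mkT_of_mem mk _⟩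

omit [Finite F] [FiniteDimensional F V] in
lemma mem_unipSet_iff (v : V) (t : Q) :
    t ∈ unipSet mk v ↔ ∃ g : ↥(SUg B), (g : V ≃ₗ[F] V) ∈ unip B v ∧ t = mk g := by
  constructor
  · rintro ⟨g, hgS, hgu, rfl⟩
    exact ⟨⟨g, hgS⟩, hgu, mkT_of_mem mk hgS⟩
  · rintro ⟨g, hgu, rfl⟩
    exact ⟨g.1, g.2, hgu, (mkT_coe mk g).symm⟩

/-! ### Automorphisms permute the centres of Sylow subgroups -/

omit [Finite F] [FiniteDimensional F V] [CharP F p] in
lemma zSet_smul (α : MulAut Q) (S : Sylow p Q) :
    Cfsg.Agent.Lib.Helper45_PSURoot.zSet ((α • S : Sylow p Q) : Subgroup Q) =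
      α '' Cfsg.Agent.Lib.Helper45_PSURoot.zSet (S : Subgroup Q) := by
  ext t
  rw [Sylow.pointwise_smul_def]
  constructor
  · rintro ⟨ht, hcomm⟩
    rw [Subgroup.mem_pointwise_smul_iff_inv_smul_mem] at ht
    refine ⟨α⁻¹ • t, ⟨ht, fun s hs => ?_⟩, ?_⟩
    · have := hcomm (α • s) (Subgroup.smul_mem_pointwise_smul _ _ _ hs)
      have h2 := congrArg (fun x => α⁻¹ • x) this
      simpa only [smul_mul', inv_smul_smul] using h2
    · change α (α⁻¹ • t) = t
      exact smul_inv_smul α t
  · rintro ⟨u, ⟨hu, hcomm⟩, rfl⟩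
    refine ⟨Subgroup.smul_mem_pointwise_smul _ _ _ hu, fun s hs => ?_⟩
    rw [Subgroup.mem_pointwise_smul_iff_inv_smul_mem] at hs
    have := hcomm _ hs
    have h2 := congrArg (fun x => α • x) this
    simp only [smul_mul', smul_inv_smul] at h2
    exact h2

section

variable (hσ : Invol σ) (hB : IsHerm B) (hN : NondegOn B ⊤)

include hσ hB hN in
/-- Every automorphism maps root sets to root sets. -/
theorem root_image (p : ℕ) [Fact p.Prime] [CharP F p] (h3 : 3 ≤ finrank F V)
    (hsurj : Function.Surjective mk)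
    (hker : mk.ker = Subgroup.center ↥(SUg B)) (α : MulAut Q) {v : V} (hv0 : v ≠ 0)
    (hv : B v v = 0) : ∃ v' : V, v' ≠ 0 ∧ B v' v' = 0 ∧ α '' rootSet mk v = rootSet mk v' := by
  obtain ⟨S, hS⟩ := Cfsg.Agent.Lib.Helper45_PSURoot.A2 (p := p) hσ hB hN h3 mk hsurj hker v
    hv0 hv
  obtain ⟨v', hv'0, hv', hS'⟩ :=
    Cfsg.Agent.Lib.Helper45_PSURoot.A1 hσ hB hN h3 mk hsurj hker (α • S)
  refine ⟨v', hv'0, hv', ?_⟩
  rw [← rootSet_eq hB, ← rootSet_eq hB, ← hS, ← hS', zSet_smul]

include hσ hB hN in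
/-- An automorphism stabilising the root set of `v` stabilises the image of `unip B v`. -/
theorem unip_invariant (p : ℕ) [Fact p.Prime] [CharP F p] (h3 : 3 ≤ finrank F V)
    (hsurj : Function.Surjective mk)
    (hker : mk.ker = Subgroup.center ↥(SUg B)) (α : MulAut Q) {v : V} (hv0 : v ≠ 0)
    (hv : B v v = 0) (hα : α '' rootSet mk v = rootSet mk v) :
    ∀ t ∈ unipSet mk v, α t ∈ unipSet mk v := by
  intro t ht
  rw [mem_unipSet_iff,
    ← Cfsg.Agent.Lib.Helper45_PSURoot.A3 (p := p) hσ hB hN h3 mk hsurj hker v hv0 hv] at ht ⊢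
  intro S hS
  have h1 : Cfsg.Agent.Lib.Helper45_PSURoot.zSet ((α⁻¹ • S : Sylow p Q) : Subgroup Q) =
      Cfsg.Agent.Lib.Helper45_PSURoot.rootSet mk v := by
    rw [zSet_smul, hS, rootSet_eq hB]
    conv_lhs => rw [← hα]
    rw [Set.image_image]
    simp
  have h2 : t ∈ ((α⁻¹ • S : Sylow p Q) : Subgroup Q) := ht _ h1
  rw [Sylow.pointwise_smul_def, Subgroup.mem_pointwise_smul_iff_inv_smul_mem, inv_inv] at h2
  exact h2

end

end Cfsg.Agent.Lib.Helper14_PSULocal10
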