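import Mathlib
import Cfsg.Agent.Lib.Helper14_PSULocal10

/-!
# The generic factorisation theorem for automorphisms of a projective special unitary group
-/

set_option autoImplicit false
set_option linter.unusedVariables false
set_option linter.unusedSectionVars false

namespace Cfsg.Agent.Lib.Helper14_PSULocal11

open Module Cfsg.Agent.Lib.Helper94_Symp Cfsg.Agent.Lib.Helper94_Herm
  Cfsg.Agent.Lib.Helper94_HermOrth Cfsg.Agent.Lib.Helper94_HermEich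
  Cfsg.Agent.Lib.Helper94_HermPara Cfsg.Agent.Lib.Helper94_HermTrans
  Cfsg.Agent.Lib.Helper13_SUGen
  Cfsg.Agent.Lib.Helper13_PSUSimple Cfsg.Agent.Lib.Helper46_U3TI
  Cfsg.Agent.Lib.Helper46_U3Center
  Cfsg.Agent.Lib.Helper14_PSULocal1 Cfsg.Agent.Lib.Helper14_PSULocal2
  Cfsg.Agent.Lib.Helper14_PSULocal3 Cfsg.Agent.Lib.Helper14_PSULocal4
  Cfsg.Agent.Lib.Helper14_PSULocal5 Cfsg.Agent.Lib.Helper14_PSULocal6
  Cfsg.Agent.Lib.Helper14_PSULocal7 Cfsg.Agent.Lib.Helper14_PSULocal8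
  Cfsg.Agent.Lib.Helper14_PSULocal9 Cfsg.Agent.Lib.Helper14_PSULocal10

variable {F V : Type*} [Field F] [AddCommGroup V] [Module F V]
variable {σ : F →+* F} {B : V →ₗ[F] V →ₛₗ[σ] F}
variable {Q : Type*} [Group Q] {mk : ↥(SUg B) →* Q}

/-! ### Small helpers -/

lemma rootSet_smul (hσ : Invol σ) (v : V) {μ : F} (hμ : μ ≠ 0) :
    rootSet mk (μ • v) = rootSet mk v := by
  have hsμ : σ μ ≠ 0 := by
    intro h0
    apply hμ
    have := congrArg σ h0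
    rwa [hσ.invol, map_zero] at this
  ext t
  constructor
  · rintro ⟨c, hc, rfl⟩
    refine ⟨μ * σ μ * c, ?_, by rw [utv_smul]⟩
    rw [map_mul, map_mul, hσ.invol, hc]; ring
  · rintro ⟨c, hc, rfl⟩
    refine ⟨(μ * σ μ)⁻¹ * c, ?_, ?_⟩
    · rw [map_mul, map_inv₀, map_mul, hσ.invol, hc]; ring
    · rw [utv_smul, ← mul_assoc, mul_inv_cancel₀ (mul_ne_zero hμ hsμ), one_mul]

lemma commute_of_perp {v v' : V} (hv : B v v = 0) (hv' : B v' v' = 0)
    (h1 : B v v' = 0) (h2 : B v' v = 0) (hB : IsHerm B) :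
    ∀ s ∈ rootSet mk v, ∀ t ∈ rootSet mk v', s * t = t * s := by
  rintro _ ⟨c, hc, rfl⟩ _ ⟨c', hc', rfl⟩
  rw [← mkT_mul mk (utv_mem_SUg hB v hc) (utv_mem_SUg hB v' hc'),
    ← mkT_mul mk (utv_mem_SUg hB v' hc') (utv_mem_SUg hB v hc), utv_comm hv hv' h1 h2]

lemma SemiAut.root_mapsTo {φ : Q ≃* Q} {τ : F →+* F} {T : V → V} (hT : SemiAut mk φ τ T)
    (hB : IsHerm B) {e f : V} (h : HypPair B e f) {v : V} (hv : B v v = 0) :
    ∀ t ∈ rootSet mk v, φ t ∈ rootSet mk (T v) := by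
  rintro _ ⟨c, hc, rfl⟩
  obtain ⟨hc', himg⟩ := hT.utv_image hB h hv hc
  exact ⟨_, hc', himg⟩

lemma SemiAut.injective {φ : Q ≃* Q} {τ : F →+* F} {T : V → V} (hT : SemiAut mk φ τ T)
    (hN : NondegOn B ⊤) : Function.Injective T := by
  intro x y hxy
  by_contra hne
  have hne' : x - y ≠ 0 := sub_ne_zero.mpr hne
  obtain ⟨z, -, hz⟩ := hN _ Submodule.mem_top hne'
  apply hz
  have h1 : T (x - y) = 0 := by rw [hT.map_sub, hxy, sub_self]
  have h2 := hT.form (x - y) z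
  rw [h1, LinearMap.map_zero, LinearMap.zero_apply] at h2
  exact (map_eq_zero τ).mp h2.symm

lemma IsInd.congr {e f : V} {α : Q ≃* Q} {A A' : V → V} (hA : IsInd mk e f α A)
    (hAA' : ∀ w ∈ Wp B e f, A w = A' w) : IsInd mk e f α A' := by
  intro w hw
  rw [← hAA' w hw]
  exact hA w hw

lemma image_eq_of_mapsTo [Finite Q] {S : Set Q} {α : Q ≃* Q} (h : ∀ t ∈ S, α t ∈ S) :
    α '' S = S := by
  apply Set.Subset.antisymm
  · rintro _ ⟨t, ht, rfl⟩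
    exact h t ht
  · intro t ht
    exact ⟨α.symm t, mapsTo_symm h t ht, α.apply_symm_apply t⟩

/-! ### The main theorem -/

/-- **Generic factorisation theorem.**  Let `𝒜` be a subgroup of the automorphism group of `Q`
containing the automorphisms induced by all isometries, and, for every field automorphism `τ`,
the automorphism induced by some `τ`-semilinear isometry.  Then `𝒜` is everything. -/
theorem main_generic [Finite F] [FiniteDimensional F V] [Finite Q] (p : ℕ) [Fact p.Prime]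
    [CharP F p] (hσ : Invol σ) (hB : IsHerm B) (hN : NondegOn B ⊤) (h3 : 3 ≤ finrank F V)
    (hsurj : Function.Surjective mk) (hker : mk.ker = Subgroup.center ↥(SUg B))
    (hgen : ∀ g ∈ uG B, LinearEquiv.det g = 1 → g ∈ tvGroup B ⊤)
    (hcm : ∀ e f : V, HypPair B e f → Commutant B e f)
    (𝒜 : Subgroup (MulAut Q))
    (H1 : ∀ g ∈ uG B, ∃ φ ∈ 𝒜, SemiAut mk φ (RingHom.id F) g)
    (H2 : ∀ τ : F ≃+* F, ∃ φ ∈ 𝒜, ∃ T : V → V, SemiAut mk φ (τ : F →+* F) T)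
    (α : MulAut Q) : α ∈ 𝒜 := by
  have hk : KerScalar mk := kerScalar_of_ker hσ hB hN (by omega) hker
  obtain ⟨e, f, h⟩ := exists_hypPair hσ hB hN (by omega)
  obtain ⟨he0, hf0⟩ := hypPair_ne_zero h
  -- Step 1: normalise by an isometry
  obtain ⟨e', he'0, he', hαe⟩ := root_image hσ hB hN p h3 hsurj hker α he0 h.ee
  obtain ⟨f', hf'0, hf', hαf⟩ := root_image hσ hB hN p h3 hsurj hker α hf0 h.ff
  have hne : B e' f' ≠ 0 := by
    intro h0
    have : B e f = 0 := perp_of_commute hσ hB hN hk h3 h.ee h.ff he0 hf0 (by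
      intro s hs t ht
      have hs' : α s ∈ rootSet mk e' := by rw [← hαe]; exact Set.mem_image_of_mem α hs
      have ht' : α t ∈ rootSet mk f' := by rw [← hαf]; exact Set.mem_image_of_mem α ht
      have := commute_of_perp he' hf' h0 (herm_eq_zero hB h0) hB _ hs' _ ht'
      apply α.injective
      rw [map_mul, map_mul]
      exact this)
    rw [h.ef] at this
    exact one_ne_zero this
  have hsne : σ (B e' f') ≠ 0 := by
    intro h0
    apply hne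
    have := congrArg σ h0
    rwa [hσ.invol, map_zero] at this
  set f'' := (σ (B e' f'))⁻¹ • f' with hf''
  have h' : HypPair B e' f'' := hypPair_mk hB he' (by rw [hf'', self_smul, hf', mul_zero])
    (by rw [hf'', map_smulₛₗ, map_inv₀, hσ.invol, smul_eq_mul, inv_mul_cancel₀ hne])
  obtain ⟨g, hgU, hge, hgf⟩ := exists_uG_map_pair hσ hB hN h h'
  obtain ⟨φg, hφg𝒜, hφg⟩ := H1 g hgU
  obtain ⟨α₁, hα₁def⟩ : ∃ α₁ : MulAut Q, α₁ = φg * α := ⟨_, rfl⟩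
  have hα₁ : Norm mk e f α₁ := by
    have hre : ∀ t ∈ rootSet mk e, α₁ t ∈ rootSet mk e := by
      intro t ht
      have h1 : α t ∈ rootSet mk e' := by rw [← hαe]; exact Set.mem_image_of_mem α ht
      have h2 := SemiAut.root_mapsTo hφg hB h he' _ h1
      rw [hge] at h2
      rw [hα₁def]
      exact h2
    have hrf : ∀ t ∈ rootSet mk f, α₁ t ∈ rootSet mk f := by
      intro t ht
      have h1 : α t ∈ rootSet mk f'' := by
        rw [hf'', rootSet_smul hσ f' (inv_ne_zero hsne), ← hαf]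
        exact Set.mem_image_of_mem α ht
      have h2 := SemiAut.root_mapsTo hφg hB h h'.ff _ h1
      rw [hgf] at h2
      rw [hα₁def]
      exact h2
    exact ⟨hre, hrf, unip_invariant hσ hB hN p h3 hsurj hker α₁ he0 h.ee
      (image_eq_of_mapsTo hre)⟩
  suffices hα₁𝒜 : α₁ ∈ 𝒜 by
    have : α = φg⁻¹ * α₁ := by rw [hα₁def, inv_mul_cancel_left]
    rw [this]
    exact 𝒜.mul_mem (𝒜.inv_mem hφg𝒜) hα₁𝒜
  -- Step 2: normalise by a field automorphism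
  obtain ⟨A₁, hA₁⟩ := exists_isInd hσ hB h hα₁
  obtain ⟨τ₁, hτ₁⟩ := exists_semilinear hσ hB hN hk hsurj h3 h (hcm e f h) hα₁ hA₁
  have hτ₁bij : Function.Bijective τ₁ := Finite.injective_iff_bijective.mp τ₁.injective
  obtain ⟨φ, hφ𝒜, T, hT⟩ := H2 (RingEquiv.ofBijective τ₁ hτ₁bij)
  have hTpair : HypPair B (T e) (T f) :=
    ⟨by rw [hT.form, h.ee, map_zero], by rw [hT.form, h.ff, map_zero],
      by rw [hT.form, h.ef, map_one], by rw [hT.form, h.fe, map_one]⟩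
  obtain ⟨k, hkU, hke, hkf⟩ := exists_uG_map_pair hσ hB hN h hTpair
  obtain ⟨φk, hφk𝒜, hφk⟩ := H1 k hkU
  have hγ := hφk.comp hT
  obtain ⟨γ, hγdef⟩ : ∃ γ : MulAut Q, γ = φk * φ := ⟨_, rfl⟩
  rw [← hγdef] at hγ
  have hγe : ((k : V → V) ∘ T) e = (1 : F) • e := by
    rw [Function.comp_apply, hke, one_smul]
  have hγf : ((k : V → V) ∘ T) f = (1 : F) • f := by
    rw [Function.comp_apply, hkf, one_smul]
  obtain ⟨hγN, hγI⟩ := hγ.norm_isInd hσ hB h one_ne_zero one_ne_zero hγe hγf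
  obtain ⟨α₂, hα₂def⟩ : ∃ α₂ : MulAut Q, α₂ = γ⁻¹ * α₁ := ⟨_, rfl⟩
  have hα₂ : Norm mk e f α₂ := by
    rw [hα₂def]
    exact Norm.mul hγN.symm hα₁
  suffices hα₂𝒜 : α₂ ∈ 𝒜 by
    have : α₁ = γ * α₂ := by rw [hα₂def, mul_inv_cancel_left]
    rw [this]
    refine 𝒜.mul_mem ?_ hα₂𝒜
    rw [hγdef]
    exact 𝒜.mul_mem hφk𝒜 hφ𝒜
  obtain ⟨A₂, hA₂⟩ := exists_isInd hσ hB h hα₂
  have hA₂m : ∀ w ∈ Wp B e f, A₂ w ∈ Wp B e f := fun w hw => (hA₂ w hw).1
  have hrel : ∀ w ∈ Wp B e f, A₁ w = k (T (A₂ w)) := by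
    intro w hw
    have := IsInd.comp_apply hσ hB hk h he0 hγI hA₂ hA₁ (fun t => by
      have h5 : α₁ = γ * α₂ := by rw [hα₂def, mul_inv_cancel_left]
      rw [h5]; rfl) hw
    rw [this, map_one, one_smul]
    rfl
  have hγinj := SemiAut.injective hγ hN
  have hlin₂ : ∀ (a : F), ∀ w ∈ Wp B e f, A₂ (a • w) = a • A₂ w := by
    intro a w hw
    apply hγinj
    have e1 := hrel (a • w) ((Wp B e f).smul_mem a hw)
    have e2 := hrel w hw
    rw [hτ₁ a w hw, e2] at e1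
    change k (T (A₂ (a • w))) = k (T (a • A₂ w))
    rw [← e1, hT.smul, map_smul]
    rfl
  have hadd₂ : ∀ w ∈ Wp B e f, ∀ w' ∈ Wp B e f, A₂ (w + w') = A₂ w + A₂ w' :=
    fun w hw w' hw' => IsInd.add hσ hB hk h he0 hA₂ hw hw'
  -- Step 3: normalise by a Levi element
  obtain ⟨A₂', hA₂'⟩ := exists_isInd hσ hB h hα₂.symm
  have hinv₂ : ∀ w ∈ Wp B e f, A₂' w ∈ Wp B e f ∧ A₂ (A₂' w) = w ∧ A₂' (A₂ w) = w :=
    fun w hw => ⟨(hA₂' w hw).1, (IsInd.symm_apply hσ hB hk h hA₂ hA₂' hw).2,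
      (IsInd.symm_apply hσ hB hk h hA₂ hA₂' hw).1⟩
  have htop : 3 ≤ finrank F (⊤ : Submodule F V) := by rw [finrank_top]; exact h3
  obtain ⟨w₀, -, hw₀0, hw₀e, hw₀f⟩ :=
    Cfsg.Agent.Lib.Helper94_HermTI.exists_ne_zero_orth2 B ⊤ htop e f
  have hw₀ : w₀ ∈ Wp B e f := mem_Wp.mpr ⟨hw₀e, hw₀f⟩
  obtain ⟨c, hc0, hcσ, hsim⟩ := conformal hσ hB hN h hA₂m hadd₂ hlin₂ hinv₂
    (fun w hw w' hw' hww' => IsInd.perp hσ hB hN hk h hA₂ hlin₂ hw hw' hww') hw₀ hw₀0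
  obtain ⟨lam, hlam⟩ := norm_surj hσ c hcσ
  have hlam0 : lam ≠ 0 := by
    rintro rfl
    rw [zero_mul] at hlam
    exact hc0 hlam.symm
  have hslam0 : σ lam ≠ 0 := by
    intro h0
    rw [h0, mul_zero] at hlam
    exact hc0 hlam.symm
  obtain ⟨d, hdU, hde, hdf, hdW⟩ := exists_levi_of_similitude hσ hB hN h hA₂m hadd₂ hlin₂ hlam0
    (by intro w hw w' hw'; rw [hlam]; exact hsim w hw w' hw')
  obtain ⟨φd, hφd𝒜, hφd⟩ := H1 d hdU
  obtain ⟨hdN, hdI⟩ := hφd.norm_isInd hσ hB h hlam0 (inv_ne_zero hslam0) hde hdf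
  obtain ⟨α₃, hα₃def⟩ : ∃ α₃ : MulAut Q, α₃ = φd⁻¹ * α₂ := ⟨_, rfl⟩
  have hα₃ : Norm mk e f α₃ := by
    rw [hα₃def]
    exact Norm.mul hdN.symm hα₂
  suffices hα₃𝒜 : α₃ ∈ 𝒜 by
    have : α₂ = φd * α₃ := by rw [hα₃def, mul_inv_cancel_left]
    rw [this]
    exact 𝒜.mul_mem hφd𝒜 hα₃𝒜
  obtain ⟨A₃, hA₃⟩ := exists_isInd hσ hB h hα₃
  have hA₃id : ∀ w ∈ Wp B e f, A₃ w = w := by
    intro w hw
    have h1 := IsInd.comp_apply hσ hB hk h he0 hdI hA₃ hA₂ (fun t => by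
      have h5 : α₂ = φd * α₃ := by rw [hα₃def, mul_inv_cancel_left]
      rw [h5]; rfl) hw
    change A₂ w = σ lam • d (A₃ w) at h1
    rw [hdW _ (hA₃ w hw).1] at h1
    have h2 := congrArg A₂' h1
    rw [(hinv₂ w hw).2.2, (hinv₂ _ (hA₃ w hw).1).2.2] at h2
    exact h2.symm
  have hA₃' : IsInd mk e f α₃ id := IsInd.congr hA₃ hA₃id
  obtain ⟨f1, f2⟩ := fix_of_isInd_id hσ hB hN hk h3 h hα₃ hA₃'
  have h1 : α₃ = 1 := eq_one_of_fix hσ hB hN hsurj hgen h f1 f2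
  rw [h1]
  exact 𝒜.one_mem

end Cfsg.Agent.Lib.Helper14_PSULocal11
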