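import Mathlib
import Cfsg.Agent.Lib.Helper14_PSUKer
import Cfsg.Agent.Lib.Helper44_H90
import Cfsg.Agent.Lib.Helper41_Subfield

set_option autoImplicit false
set_option linter.unusedSectionVars false

/-!
# Conjugate transpose on `GL_n`, the subfield embedding, unitary similitudes (helper14)

Group-level algebra used for the descent of the involutory graph automorphisms of `PSU_n` to forms over the
fixed field.
-/

namespace Cfsg.Agent.Lib.Helper14_PSUStar

open Matrix Cfsg.Agent.Lib.Helper14_PSLAut Cfsg.Agent.Lib.Helper14_PSLGraph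
  Cfsg.Agent.Lib.Helper14_FieldAutPSL Cfsg.Agent.Lib.Helper14_Char2Groups
  Cfsg.Agent.Lib.Helper14_PSUAut Cfsg.Agent.Lib.Helper14_GraphFieldPSL
  Cfsg.Agent.Lib.Helper13_Herm

variable {F : Type*} [Field F] {K : Type*} [Field K] {n q : ℕ}

local notation "Mn" => Matrix (Fin n) (Fin n) F

/-! ### Scalars -/

theorem scalarGL_mul (a b : Fˣ) : (scalarGL (a * b) : GL (Fin n) F) = scalarGL a * scalarGL b := by
  apply Units.ext
  rw [Units.val_mul, scalarGL_coe, scalarGL_coe, scalarGL_coe, Matrix.smul_mul, Matrix.one_mul, smul_smul,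
    Units.val_mul]

theorem scalarGL_one : (scalarGL (1 : Fˣ) : GL (Fin n) F) = 1 := by
  apply Units.ext
  rw [scalarGL_coe, Units.val_one, one_smul, Units.val_one]

theorem scalarGL_inv (a : Fˣ) : (scalarGL a⁻¹ : GL (Fin n) F) = (scalarGL a)⁻¹ := by
  apply eq_inv_of_mul_eq_one_left
  rw [← scalarGL_mul, inv_mul_cancel, scalarGL_one]

theorem scalarGL_comm (a : Fˣ) (x : GL (Fin n) F) : scalarGL a * x = x * scalarGL a := by
  apply Units.ext
  rw [Units.val_mul, Units.val_mul, scalarGL_coe, Matrix.smul_mul, Matrix.one_mul, Matrix.mul_smul,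
    Matrix.mul_one]

theorem scalarGL_injective (hn : 0 < n) {a b : Fˣ}
    (h : (scalarGL a : GL (Fin n) F) = scalarGL b) : a = b := by
  have h1 := congrArg (fun x : GL (Fin n) F => (x : Mn) ⟨0, hn⟩ ⟨0, hn⟩) h
  simp only [scalarGL_coe, Matrix.smul_apply, Matrix.one_apply_eq, smul_eq_mul, mul_one] at h1
  exact Units.ext h1

theorem mem_scalars_iff_scalarGL (x : GL (Fin n) F) :
    x ∈ Cfsg.Geo.scalars (Fin n) F ↔ ∃ c : Fˣ, x = scalarGL c := by
  rw [Cfsg.Geo.mem_scalars_iff]
  constructor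
  · rintro ⟨c, hc⟩
    exact ⟨c, Units.ext (by rw [hc, scalarGL_coe])⟩
  · rintro ⟨c, rfl⟩
    exact ⟨c, rfl⟩

/-! ### Entrywise automorphism and conjugate transpose -/

theorem glMap_glT (τ : F ≃+* F) (x : GL (Fin n) F) : glMap τ (glT x) = glT (glMap τ x) := by
  apply Units.ext
  rw [glMap_coe, glT_coe, glT_coe, glMap_coe, Matrix.transpose_map]

theorem glMap_scalarGL (τ : F ≃+* F) (c : Fˣ) :
    glMap τ (scalarGL c : GL (Fin n) F) = scalarGL (Units.map (τ : F →* F) c) := by
  apply Units.ext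
  rw [glMap_coe, scalarGL_coe, scalarGL_coe]
  ext i j
  simp only [Matrix.map_apply, Matrix.smul_apply, Matrix.one_apply, smul_eq_mul, Units.coe_map,
    MonoidHom.coe_coe]
  rw [map_mul, apply_ite τ, map_one, map_zero]

theorem glMap_glMap (τ : F ≃+* F) (hττ : ∀ a, τ (τ a) = a) (x : GL (Fin n) F) :
    glMap τ (glMap τ x) = x := by
  apply Units.ext
  rw [glMap_coe, glMap_coe]
  ext i j
  simp only [Matrix.map_apply]
  exact hττ _

theorem glT_scalarGL (c : Fˣ) : glT (scalarGL c : GL (Fin n) F) = scalarGL c := by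
  apply Units.ext
  rw [glT_coe, scalarGL_coe, Matrix.transpose_smul, Matrix.transpose_one]

/-- The conjugate transpose. -/
def cstar (τ : F ≃+* F) (x : GL (Fin n) F) : GL (Fin n) F := glT (glMap τ x)

theorem cstar_coe (τ : F ≃+* F) (x : GL (Fin n) F) :
    ((cstar τ x : GL (Fin n) F) : Mn) = ((x : Mn)ᵀ).map τ := by
  unfold cstar
  rw [glT_coe, glMap_coe, Matrix.transpose_map]

theorem cstar_mul (τ : F ≃+* F) (x y : GL (Fin n) F) : cstar τ (x * y) = cstar τ y * cstar τ x := by
  unfold cstar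
  rw [map_mul, glT_mul]

theorem cstar_one (τ : F ≃+* F) : cstar τ (1 : GL (Fin n) F) = 1 := by
  unfold cstar
  rw [map_one, glT_one]

theorem cstar_inv (τ : F ≃+* F) (x : GL (Fin n) F) : cstar τ x⁻¹ = (cstar τ x)⁻¹ := by
  unfold cstar
  rw [map_inv, glT_inv]

theorem cstar_scalarGL (τ : F ≃+* F) (c : Fˣ) :
    cstar τ (scalarGL c : GL (Fin n) F) = scalarGL (Units.map (τ : F →* F) c) := by
  unfold cstar
  rw [glMap_scalarGL, glT_scalarGL]

theorem cstar_glMap (τ : F ≃+* F) (hττ : ∀ a, τ (τ a) = a) (x : GL (Fin n) F) :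
    cstar τ (glMap τ x) = glT x := by
  unfold cstar
  rw [glMap_glMap τ hττ]

theorem glMap_cstar (τ : F ≃+* F) (hττ : ∀ a, τ (τ a) = a) (x : GL (Fin n) F) :
    glMap τ (cstar τ x) = glT x := by
  unfold cstar
  rw [glMap_glT, glMap_glMap τ hττ]

/-! ### The embedding of the fixed field -/

/-- Entrywise embedding `GL_n(K) → GL_n(F)`. -/
def glι (ι : K →+* F) : GL (Fin n) K →* GL (Fin n) F := Matrix.GeneralLinearGroup.map ι

theorem glι_coe (ι : K →+* F) (k : GL (Fin n) K) :
    ((glι ι k : GL (Fin n) F) : Mn) = (k : Matrix (Fin n) (Fin n) K).map ι := rfl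

theorem glι_injective (ι : K →+* F) : Function.Injective (glι (n := n) ι) := by
  intro a b h
  apply Units.ext
  have h1 := congrArg (fun x : GL (Fin n) F => (x : Mn)) h
  simp only [glι_coe] at h1
  ext i j
  have h2 := congrFun (congrFun h1 i) j
  simp only [Matrix.map_apply] at h2
  exact ι.injective h2

theorem glT_glι (ι : K →+* F) (k : GL (Fin n) K) : glT (glι ι k) = glι ι (glT k) := by
  apply Units.ext
  rw [glT_coe, glι_coe, glι_coe, glT_coe, Matrix.transpose_map]

theorem glι_scalarGL (ι : K →+* F) (c : Kˣ) :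
    glι ι (scalarGL c : GL (Fin n) K) = scalarGL (Units.map (ι : K →* F) c) := by
  apply Units.ext
  rw [glι_coe, scalarGL_coe, scalarGL_coe]
  ext i j
  simp only [Matrix.map_apply, Matrix.smul_apply, Matrix.one_apply, smul_eq_mul, Units.coe_map,
    MonoidHom.coe_coe]
  rw [map_mul, apply_ite ι, map_one, map_zero]

theorem glMap_glι (ι : K →+* F) (τ : F ≃+* F) (hι : ∀ y, τ (ι y) = ι y) (k : GL (Fin n) K) :
    glMap τ (glι ι k) = glι ι k := by
  apply Units.ext
  rw [glMap_coe, glι_coe]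
  ext i j
  simp only [Matrix.map_apply]
  exact hι _

theorem cstar_glι (ι : K →+* F) (τ : F ≃+* F) (hι : ∀ y, τ (ι y) = ι y) (k : GL (Fin n) K) :
    cstar τ (glι ι k) = glι ι (glT k) := by
  unfold cstar
  rw [glMap_glι ι τ hι, glT_glι]

theorem exists_glι_of_fixed (ι : K →+* F) (τ : F ≃+* F) (hι2 : ∀ x, τ x = x → ∃ y, ι y = x)
    (x : GL (Fin n) F) (hx : glMap τ x = x) : ∃ k : GL (Fin n) K, glι ι k = x := by
  have h1 : ∀ i j, ∃ y, ι y = (x : Mn) i j := by
    intro i j
    apply hι2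
    have h2 := congrArg (fun z : GL (Fin n) F => (z : Mn) i j) hx
    simpa [glMap_coe] using h2
  choose A hA using h1
  have hmap : (Matrix.of A).map ι = (x : Mn) := by
    ext i j
    simp [hA]
  have hdet : (Matrix.of A).det ≠ 0 := by
    intro h0
    have h3 : ((Matrix.of A).map ι).det = 0 := by
      have := (RingHom.map_det ι (Matrix.of A)).symm
      rw [RingHom.mapMatrix_apply] at this
      rw [this, h0, map_zero]
    rw [hmap] at h3
    have : IsUnit (x : Mn).det := (Matrix.isUnit_iff_isUnit_det _).mp x.isUnit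
    exact this.ne_zero h3
  refine ⟨Matrix.GeneralLinearGroup.mkOfDetNeZero (Matrix.of A) hdet, ?_⟩
  apply Units.ext
  rw [glι_coe]
  exact hmap

theorem glι_mem_scalars_iff (ι : K →+* F) (k : GL (Fin n) K) :
    glι ι k ∈ Cfsg.Geo.scalars (Fin n) F ↔ k ∈ Cfsg.Geo.scalars (Fin n) K := by
  constructor
  · intro h
    obtain ⟨c, hc⟩ := (Cfsg.Geo.mem_scalars_iff _).mp h
    rw [glι_coe] at hc
    rw [Cfsg.Geo.mem_scalars_iff]
    by_cases hn : 0 < n
    · have hent : ∀ i j, ι ((k : Matrix (Fin n) (Fin n) K) i j) = if i = j then (c : F) else 0 := by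
        intro i j
        have := congrFun (congrFun hc i) j
        simpa [Matrix.one_apply] using this
      set d : K := (k : Matrix (Fin n) (Fin n) K) ⟨0, hn⟩ ⟨0, hn⟩ with hd
      have hdc : ι d = c := by rw [hd, hent]; simp
      have hd0 : d ≠ 0 := by
        intro h0
        rw [h0, map_zero] at hdc
        exact c.ne_zero hdc.symm
      refine ⟨Units.mk0 d hd0, ?_⟩
      ext i j
      apply ι.injective
      rw [hent]
      simp only [Units.val_mk0, Matrix.smul_apply, Matrix.one_apply, smul_eq_mul]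
      by_cases hij : i = j
      · simp [hij, hdc]
      · simp [hij]
    · have hn0 : n = 0 := by omega
      subst hn0
      exact ⟨1, by ext i; exact i.elim0⟩
  · intro h
    obtain ⟨c, hc⟩ := (mem_scalars_iff_scalarGL k).mp h
    rw [hc, glι_scalarGL]
    exact scalarGL_mem _

/-! ### Unitary similitudes -/

section finite

variable [Fintype F]

theorem mem_GU_iff_cstar (hF : Fintype.card F = q ^ 2) (τ : F ≃+* F) (hτ : ∀ a, τ a = a ^ q)
    (g : GL (Fin n) F) : g ∈ Cfsg.GU n F q ↔ cstar τ g * g = 1 := by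
  have hq : q ≠ 0 := by have := two_le_q hF; omega
  rw [mem_GU_iff_map τ hτ hq]
  constructor
  · intro h
    apply Units.ext
    rw [Units.val_mul, cstar_coe, h, Units.val_one]
  · intro h
    have := congrArg (fun x : GL (Fin n) F => (x : Mn)) h
    simp only [Units.val_mul, cstar_coe, Units.val_one] at this
    exact this

/-- A similitude of the Hermitian form is a scalar times a unitary matrix. -/
theorem sim_decomp (hn : 0 < n) (hF : Fintype.card F = q ^ 2) (τ : F ≃+* F) (hτ : ∀ a, τ a = a ^ q)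
    (x : GL (Fin n) F) (c : Fˣ) (h : cstar τ x * x = scalarGL c) :
    ∃ (l : Fˣ) (u : GL (Fin n) F), u ∈ Cfsg.GU n F q ∧ x = scalarGL l * u := by
  apply exists_scalar_mul_GU hn hF τ hτ x c
  have := congrArg (fun x : GL (Fin n) F => (x : Mn)) h
  simp only [Units.val_mul, cstar_coe, scalarGL_coe] at this
  exact this

theorem mem_normSU_of_sim (hn : 0 < n) (hF : Fintype.card F = q ^ 2) (τ : F ≃+* F)
    (hτ : ∀ a, τ a = a ^ q) (x : GL (Fin n) F) (c : Fˣ) (h : cstar τ x * x = scalarGL c) :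
    x ∈ normSU n F q := by
  obtain ⟨l, u, hu, rfl⟩ := sim_decomp hn hF τ hτ x c h
  exact (normSU n F q).mul_mem (scalars_le_normSU (scalarGL_mem l)) (GU_le_normSU hu)

end finite

end Cfsg.Agent.Lib.Helper14_PSUStar
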