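import Mathlib
import Cfsg.Agent.Lib.Helper14_PSUStar

set_option autoImplicit false
set_option linter.unusedSectionVars false

/-!
# Descent of the involutory graph automorphisms of `PSU_n` (helper14)

An involutory graph automorphism `γ = δ φ_q` of `PSU_n(q)` is attached to a symmetric or skew-symmetric matrix `M₀`
over the fixed field `K` of the `q`-th power map (`Rel`).  Conjugacy under `Inndiag` corresponds to similarity of the
forms, and the centralizer in `Inndiag` is the projective similarity group of `M₀`.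
-/

namespace Cfsg.Agent.Lib.Helper14_PSUBridge

open Matrix Cfsg.Agent.Lib.Helper14_PSLAut Cfsg.Agent.Lib.Helper14_PSLGraph
  Cfsg.Agent.Lib.Helper14_FieldAutPSL Cfsg.Agent.Lib.Helper14_Char2Groups
  Cfsg.Agent.Lib.Helper14_PSUAut Cfsg.Agent.Lib.Helper14_GraphFieldPSL
  Cfsg.Agent.Lib.Helper13_Herm Cfsg.Agent.Lib.Helper14_PSUKer Cfsg.Agent.Lib.Helper14_PSUStar
  Cfsg.Agent.Lib.Helper14_PSLCent

variable {F : Type*} [Field F] [Fintype F] {K : Type*} [Field K] {n q : ℕ}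

local notation "Mn" => Matrix (Fin n) (Fin n) F
local notation "PSUn" => Cfsg.PSU n F q

/-- The data of the descent: `F` of order `q²`, the `q`-th power map `τ`, and an embedding `ι` of a field `K` onto the
fixed field of `τ`. -/
structure Descent (F : Type*) [Field F] [Fintype F] (K : Type*) [Field K] (q : ℕ) where
  hF : Fintype.card F = q ^ 2
  ι : K →+* F
  τ : F ≃+* F
  hτ : ∀ a, τ a = a ^ q
  hι1 : ∀ y, τ (ι y) = ι y
  hι2 : ∀ x, τ x = x → ∃ y, ι y = x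

namespace Descent

variable (D : Descent F K q)

theorem hττ (a : F) : D.τ (D.τ a) = a := by
  rw [D.hτ, D.hτ, pow_q_pow_q D.hF]

include D in
theorem hq : 2 ≤ q := two_le_q D.hF

theorem τ_ne_one : D.τ ≠ 1 := by
  intro h
  obtain ⟨b, hb⟩ := Cfsg.Agent.Lib.Helper5_SUCenter.exists_pow_q_ne D.hF
  apply hb
  rw [← D.hτ, h]
  rfl

theorem τ_sq : D.τ * D.τ = 1 := by
  apply RingEquiv.ext
  intro a
  exact D.hττ a

theorem orderOf_τ : orderOf D.τ = 2 := by
  have : Fact (Nat.Prime 2) := ⟨Nat.prime_two⟩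
  apply orderOf_eq_prime
  · rw [pow_two]; exact D.τ_sq
  · exact D.τ_ne_one

end Descent

/-- A descent exists for every field `K` of order `q`. -/
theorem nonempty_descent [Fintype K] (hF : Fintype.card F = q ^ 2) (hK : Fintype.card K = q) :
    Nonempty (Descent F K q) := by
  classical
  have hq2 : 2 ≤ q := two_le_q hF
  obtain ⟨ι⟩ := Cfsg.Agent.Lib.Helper41_Subfield.exists_ringHom (F := F) (K := K) 2 (by rw [hK, hF])
  let τ : F ≃+* F :=
    { toFun := fun x => x ^ q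
      invFun := fun x => x ^ q
      left_inv := fun x => pow_q_pow_q hF x
      right_inv := fun x => pow_q_pow_q hF x
      map_mul' := fun x y => mul_pow x y q
      map_add' := fun x y => add_pow_q hF x y }
  have hτ : ∀ a, τ a = a ^ q := fun a => rfl
  have hι1 : ∀ y, τ (ι y) = ι y := by
    intro y
    rw [hτ, ← map_pow, ← hK, FiniteField.pow_card]
  refine ⟨⟨hF, ι, τ, hτ, hι1, ?_⟩⟩
  -- the fixed field has at most `q` elements
  have hroots : (Finset.univ.filter (fun x : F => x ^ q = x)).card ≤ q := by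
    have hne : (Polynomial.X ^ q - Polynomial.X : Polynomial F) ≠ 0 :=
      FiniteField.X_pow_card_sub_X_ne_zero F (by omega)
    have hdeg : (Polynomial.X ^ q - Polynomial.X : Polynomial F).natDegree = q :=
      FiniteField.X_pow_card_sub_X_natDegree_eq F (by omega)
    have hsub : Finset.univ.filter (fun x : F => x ^ q = x)
        ⊆ (Polynomial.X ^ q - Polynomial.X : Polynomial F).roots.toFinset := by
      intro x hx
      rw [Multiset.mem_toFinset, Polynomial.mem_roots hne]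
      simp only [Polynomial.IsRoot, Polynomial.eval_sub, Polynomial.eval_pow, Polynomial.eval_X]
      rw [(Finset.mem_filter.mp hx).2, sub_self]
    calc (Finset.univ.filter (fun x : F => x ^ q = x)).card
        ≤ (Polynomial.X ^ q - Polynomial.X : Polynomial F).roots.toFinset.card := Finset.card_le_card hsub
      _ ≤ Multiset.card (Polynomial.X ^ q - Polynomial.X : Polynomial F).roots := Multiset.toFinset_card_le _
      _ ≤ (Polynomial.X ^ q - Polynomial.X : Polynomial F).natDegree := Polynomial.card_roots' _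
      _ = q := hdeg
  have himg : (Finset.univ.image (fun y : K => ι y)) ⊆ Finset.univ.filter (fun x : F => x ^ q = x) := by
    intro x hx
    obtain ⟨y, -, rfl⟩ := Finset.mem_image.mp hx
    rw [Finset.mem_filter]
    exact ⟨Finset.mem_univ _, by rw [← hτ]; exact hι1 y⟩
  have hcard : (Finset.univ.image (fun y : K => ι y)).card = q := by
    rw [Finset.card_image_of_injective _ ι.injective, Finset.card_univ, hK]
  have heq := Finset.eq_of_subset_of_card_le himg (by rw [hcard]; exact hroots)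
  intro x hx
  have hmem : x ∈ Finset.univ.filter (fun x : F => x ^ q = x) := by
    rw [Finset.mem_filter]
    exact ⟨Finset.mem_univ _, by rw [← hτ]; exact hx⟩
  rw [← heq] at hmem
  obtain ⟨y, -, hy⟩ := Finset.mem_image.mp hmem
  exact ⟨y, hy⟩

/-! ### Conjugating graph-type automorphisms -/

theorem conj_gam (τ : F ≃+* F) (u g : ↥(normSU n F q)) :
    conjN u * (conjN g * fieldU τ) * (conjN u)⁻¹ = conjN (u * g * (mapN τ u)⁻¹) * fieldU τ := by
  have h1 : fieldU τ * (conjN u)⁻¹ = conjN (mapN τ u)⁻¹ * fieldU (n := n) (q := q) τ := by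
    rw [← map_inv, fieldU_mul_conjN, map_inv, map_inv]
  rw [mul_assoc, mul_assoc, h1, ← mul_assoc, ← mul_assoc, ← map_mul, ← map_mul]

open scoped Classical in
/-- The graph-type automorphism `s ↦ g s̄ g⁻¹` with `g = P P̄⁻¹` (trivial if `g` does not normalize `SU_n`). -/
noncomputable def gamOf (τ : F ≃+* F) (P : GL (Fin n) F) : MulAut PSUn :=
  if h : P * (glMap τ P)⁻¹ ∈ normSU n F q then conjN ⟨P * (glMap τ P)⁻¹, h⟩ * fieldU τ else 1

theorem gamOf_eq (τ : F ≃+* F) (P : GL (Fin n) F) (h : P * (glMap τ P)⁻¹ ∈ normSU n F q) :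
    gamOf (q := q) τ P = conjN ⟨P * (glMap τ P)⁻¹, h⟩ * fieldU τ := by
  unfold gamOf
  rw [dif_pos h]

/-- The automorphism `γ` of `PSU_n` is attached to the form `M₀` over the fixed field. -/
def Rel (D : Descent F K q) (γ : MulAut PSUn) (M₀ : GL (Fin n) K) : Prop :=
  ∃ (P : GL (Fin n) F) (e : Fˣ), glι D.ι M₀ = scalarGL e * (cstar D.τ P * P) ∧ γ = gamOf D.τ P

section rel

variable (D : Descent F K q)

/-- Under the form equation, `P P̄⁻¹` is a unitary similitude. -/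
theorem sim_of_form {P : GL (Fin n) F} {e : Fˣ} {M₀ : GL (Fin n) K}
    (h : glι D.ι M₀ = scalarGL e * (cstar D.τ P * P)) :
    cstar D.τ (P * (glMap D.τ P)⁻¹) * (P * (glMap D.τ P)⁻¹)
      = scalarGL (Units.map (D.τ : F →* F) e * e⁻¹) := by
  have h1 : glMap D.τ (glι D.ι M₀) = glι D.ι M₀ := glMap_glι D.ι D.τ D.hι1 M₀
  rw [h, map_mul, map_mul, glMap_scalarGL, glMap_cstar D.τ D.hττ] at h1
  -- `ē • (Pᵀ P̄) = e • (P̄ᵀ P)`
  have h2 : cstar D.τ P * P = scalarGL (Units.map (D.τ : F →* F) e * e⁻¹) * (glT P * glMap D.τ P) := by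
    calc cstar D.τ P * P = (scalarGL e)⁻¹ * (scalarGL e * (cstar D.τ P * P)) := by
          rw [inv_mul_cancel_left]
      _ = (scalarGL e)⁻¹ * (scalarGL (Units.map (D.τ : F →* F) e) * (glT P * glMap D.τ P)) := by rw [h1]
      _ = scalarGL (Units.map (D.τ : F →* F) e * e⁻¹) * (glT P * glMap D.τ P) := by
          rw [← mul_assoc]
          congr 1
          rw [scalarGL_mul, ← scalarGL_inv, scalarGL_comm e⁻¹]
  rw [cstar_mul, cstar_inv, cstar_glMap D.τ D.hττ]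
  calc (glT P)⁻¹ * cstar D.τ P * (P * (glMap D.τ P)⁻¹)
      = (glT P)⁻¹ * ((cstar D.τ P * P) * (glMap D.τ P)⁻¹) := by simp only [mul_assoc]
    _ = scalarGL (Units.map (D.τ : F →* F) e * e⁻¹) := by
        rw [h2, mul_assoc, mul_assoc, mul_inv_cancel, mul_one, scalarGL_comm, inv_mul_cancel_left]

theorem mem_normSU_of_form (hn : 0 < n) {P : GL (Fin n) F} {e : Fˣ} {M₀ : GL (Fin n) K}
    (h : glι D.ι M₀ = scalarGL e * (cstar D.τ P * P)) :
    P * (glMap D.τ P)⁻¹ ∈ normSU n F q :=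
  mem_normSU_of_sim hn D.hF D.τ D.hτ _ _ (sim_of_form D h)

/-- **Key lemma**: conjugating `gamOf P` to `gamOf P'` by (the automorphism of) `u` amounts to
`u = ν⁻¹ P' k₀ P⁻¹` with `k₀` a matrix over the fixed field. -/
theorem conj_gamOf_iff (hn : 3 ≤ n) {P P' : GL (Fin n) F}
    (hP : P * (glMap D.τ P)⁻¹ ∈ normSU n F q) (hP' : P' * (glMap D.τ P')⁻¹ ∈ normSU n F q)
    (u : ↥(normSU n F q)) :
    conjN u * gamOf D.τ P * (conjN u)⁻¹ = gamOf D.τ P' ↔
      ∃ (ν : Fˣ) (k₀ : GL (Fin n) K), scalarGL ν * u.1 = P' * glι D.ι k₀ * P⁻¹ := by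
  have hn0 : 0 < n := by omega
  rw [gamOf_eq D.τ P hP, gamOf_eq D.τ P' hP', conj_gam, mul_left_inj, conjN_eq_iff D.hF hn]
  show (P' * (glMap D.τ P')⁻¹)⁻¹ * (u.1 * (P * (glMap D.τ P)⁻¹) * (glMap D.τ u.1)⁻¹) ∈ _ ↔ _
  rw [mem_scalars_iff_scalarGL]
  set w := P'⁻¹ * u.1 * P with hw
  have hbw : glMap D.τ w = (glMap D.τ P')⁻¹ * glMap D.τ u.1 * glMap D.τ P := by
    rw [hw, map_mul, map_mul, map_inv]
  have hiff : ∀ μ : Fˣ,
      (P' * (glMap D.τ P')⁻¹)⁻¹ * (u.1 * (P * (glMap D.τ P)⁻¹) * (glMap D.τ u.1)⁻¹) = scalarGL μ ↔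
        w = scalarGL μ * glMap D.τ w := by
    intro μ
    constructor
    · intro h
      have e1 : w = (glMap D.τ P')⁻¹ *
          ((P' * (glMap D.τ P')⁻¹)⁻¹ * (u.1 * (P * (glMap D.τ P)⁻¹) * (glMap D.τ u.1)⁻¹)) *
            (glMap D.τ u.1 * glMap D.τ P) := by
        rw [hw]; group
      conv_lhs => rw [e1, h]
      rw [hbw, ← scalarGL_comm μ (glMap D.τ P')⁻¹]
      simp only [mul_assoc]
    · intro h
      have e1 : (P' * (glMap D.τ P')⁻¹)⁻¹ * (u.1 * (P * (glMap D.τ P)⁻¹) * (glMap D.τ u.1)⁻¹)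
          = glMap D.τ P' * w * (glMap D.τ P)⁻¹ * (glMap D.τ u.1)⁻¹ := by
        rw [hw]; group
      rw [e1, h, hbw]
      calc glMap D.τ P' * (scalarGL μ * ((glMap D.τ P')⁻¹ * glMap D.τ u.1 * glMap D.τ P)) *
            (glMap D.τ P)⁻¹ * (glMap D.τ u.1)⁻¹
          = scalarGL μ * (glMap D.τ P' * ((glMap D.τ P')⁻¹ * glMap D.τ u.1 * glMap D.τ P) *
            (glMap D.τ P)⁻¹ * (glMap D.τ u.1)⁻¹) := by
            rw [← mul_assoc (glMap D.τ P'), ← scalarGL_comm μ (glMap D.τ P')]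
            simp only [mul_assoc]
        _ = scalarGL μ := by
            rw [show glMap D.τ P' * ((glMap D.τ P')⁻¹ * glMap D.τ u.1 * glMap D.τ P) *
              (glMap D.τ P)⁻¹ * (glMap D.τ u.1)⁻¹ = 1 by group, mul_one]
  constructor
  · rintro ⟨μ, hμ⟩
    have hw1 := (hiff μ).mp hμ
    have hw2 : glMap D.τ w = scalarGL (Units.map (D.τ : F →* F) μ) * w := by
      conv_lhs => rw [hw1]
      rw [map_mul, glMap_scalarGL, glMap_glMap D.τ D.hττ]
    have hμ1 : μ * Units.map (D.τ : F →* F) μ = 1 := by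
      have h3 : scalarGL (μ * Units.map (D.τ : F →* F) μ) * w = 1 * w := by
        rw [scalarGL_mul, mul_assoc, ← hw2, ← hw1, one_mul]
      have h4 := mul_right_cancel h3
      exact scalarGL_injective hn0 (h4.trans scalarGL_one.symm)
    obtain ⟨b, hb⟩ := Cfsg.Agent.Lib.Helper44_H90.hilbert90_units D.τ (r := 2) two_pos D.orderOf_τ μ (by
      rw [Cfsg.Agent.Lib.Helper44_H90.Nm_apply, Finset.prod_range_succ, Finset.prod_range_one, pow_zero,
        pow_one, Cfsg.Agent.Lib.Helper44_H90.sigU_one]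
      exact hμ1)
    set ν : Fˣ := Units.map (D.τ : F →* F) b with hν
    have hνb : Units.map (D.τ : F →* F) ν = b := by
      apply Units.ext
      rw [hν]
      exact D.hττ _
    have hνμ : μ * ν = b := hb
    have hfix : glMap D.τ (scalarGL ν * w) = scalarGL ν * w := by
      rw [map_mul, glMap_scalarGL, hw2, ← mul_assoc, ← scalarGL_mul, hνb]
      congr 2
      rw [← hνμ, mul_right_comm, hμ1, one_mul]
    obtain ⟨k₀, hk₀⟩ := exists_glι_of_fixed D.ι D.τ D.hι2 _ hfix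
    refine ⟨ν, k₀, ?_⟩
    rw [hk₀, hw]
    calc scalarGL ν * u.1 = scalarGL ν * (P' * (P'⁻¹ * u.1 * P) * P⁻¹) := by
          rw [show P' * (P'⁻¹ * u.1 * P) * P⁻¹ = u.1 by group]
      _ = P' * (scalarGL ν * (P'⁻¹ * u.1 * P)) * P⁻¹ := by
          rw [← mul_assoc P' (scalarGL ν), ← scalarGL_comm ν P']
          simp only [mul_assoc]
  · rintro ⟨ν, k₀, h⟩
    have hu : u.1 = scalarGL ν⁻¹ * (P' * glι D.ι k₀ * P⁻¹) := by
      rw [← h, ← mul_assoc, ← scalarGL_mul, inv_mul_cancel, scalarGL_one, one_mul]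
    have hw3 : w = scalarGL ν⁻¹ * glι D.ι k₀ := by
      rw [hw, hu, ← mul_assoc P'⁻¹, ← scalarGL_comm ν⁻¹ P'⁻¹]
      simp only [mul_assoc]
      rw [inv_mul_cancel_left, inv_mul_cancel, mul_one]
    refine ⟨Units.map (D.τ : F →* F) ν * ν⁻¹, (hiff _).mpr ?_⟩
    rw [hw3, map_mul, glMap_scalarGL, glMap_glι D.ι D.τ D.hι1, ← mul_assoc, ← scalarGL_mul]
    congr 2
    rw [map_inv, mul_comm (Units.map (D.τ : F →* F) ν), mul_assoc, mul_inv_cancel, mul_one]

/-- Membership in the similarity group of a bilinear form, at the level of `GL`. -/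
theorem mem_sim_iff_GL (M₀ k₀ : GL (Fin n) K) :
    k₀ ∈ Cfsg.Geo.similarityGroup (bilOf (M₀ : Matrix (Fin n) (Fin n) K)) ↔
      ∃ c : Kˣ, glT k₀ * M₀ * k₀ = scalarGL c * M₀ := by
  rw [mem_similarityGroup_bilOf]
  constructor
  · rintro ⟨c, hc⟩
    refine ⟨c, Units.ext ?_⟩
    rw [Units.val_mul, Units.val_mul, Units.val_mul, glT_coe, scalarGL_coe, hc, Matrix.smul_mul,
      Matrix.one_mul]
  · rintro ⟨c, hc⟩
    refine ⟨c, ?_⟩
    have := congrArg (fun x : GL (Fin n) K => (x : Matrix (Fin n) (Fin n) K)) hc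
    simp only [Units.val_mul, glT_coe, scalarGL_coe, Matrix.smul_mul, Matrix.one_mul] at this
    exact this

/-- A scalar relating two matrices over the fixed field lies in the fixed field. -/
theorem descend_scalar (hn : 0 < n) (A M₀ : GL (Fin n) K) (t : Fˣ)
    (h : glι D.ι A = scalarGL t * glι D.ι M₀) : ∃ c₀ : Kˣ, A = scalarGL c₀ * M₀ := by
  have h1 : glMap D.τ (glι D.ι A) = glι D.ι A := glMap_glι D.ι D.τ D.hι1 A
  rw [h, map_mul, glMap_scalarGL, glMap_glι D.ι D.τ D.hι1] at h1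
  have h2 := scalarGL_injective hn (mul_right_cancel h1)
  have h3 : D.τ (t : F) = t := congrArg Units.val h2
  obtain ⟨y, hy⟩ := D.hι2 _ h3
  have hy0 : y ≠ 0 := by
    rintro rfl
    rw [map_zero] at hy
    exact t.ne_zero hy.symm
  refine ⟨Units.mk0 y hy0, glι_injective D.ι ?_⟩
  rw [h, map_mul, glι_scalarGL]
  congr 2
  apply Units.ext
  exact hy.symm

/-- The similitude equation for `P' k₀ P⁻¹`. -/
theorem sim_conj_iff {P P' : GL (Fin n) F} {e e' : Fˣ} {M₀ M₀' : GL (Fin n) K}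
    (h : glι D.ι M₀ = scalarGL e * (cstar D.τ P * P))
    (h' : glι D.ι M₀' = scalarGL e' * (cstar D.τ P' * P')) (k₀ : GL (Fin n) K) (s : Fˣ) :
    cstar D.τ (P' * glι D.ι k₀ * P⁻¹) * (P' * glι D.ι k₀ * P⁻¹) = scalarGL s ↔
      glι D.ι (glT k₀ * M₀' * k₀) = scalarGL (s * e' * e⁻¹) * glι D.ι M₀ := by
  have hH : cstar D.τ P * P = scalarGL e⁻¹ * glι D.ι M₀ := by
    rw [h, ← mul_assoc, ← scalarGL_mul, inv_mul_cancel, scalarGL_one, one_mul]
  have hH' : cstar D.τ P' * P' = scalarGL e'⁻¹ * glι D.ι M₀' := by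
    rw [h', ← mul_assoc, ← scalarGL_mul, inv_mul_cancel, scalarGL_one, one_mul]
  have e1 : cstar D.τ (P' * glι D.ι k₀ * P⁻¹) * (P' * glι D.ι k₀ * P⁻¹)
      = (cstar D.τ P)⁻¹ * (glι D.ι (glT k₀) * (cstar D.τ P' * P') * glι D.ι k₀) * P⁻¹ := by
    rw [cstar_mul, cstar_mul, cstar_inv, cstar_glι D.ι D.τ D.hι1]
    simp only [mul_assoc]
  have e2 : glι D.ι (glT k₀) * (cstar D.τ P' * P') * glι D.ι k₀
      = scalarGL e'⁻¹ * glι D.ι (glT k₀ * M₀' * k₀) := by
    rw [hH', map_mul, map_mul, ← mul_assoc (glι D.ι (glT k₀)), ← scalarGL_comm e'⁻¹]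
    simp only [mul_assoc]
  rw [e1, e2]
  constructor
  · intro h3
    have h4 : scalarGL e'⁻¹ * glι D.ι (glT k₀ * M₀' * k₀) = cstar D.τ P * scalarGL s * P := by
      rw [← h3]; group
    have h5 : glι D.ι (glT k₀ * M₀' * k₀) = scalarGL e' * (cstar D.τ P * scalarGL s * P) := by
      rw [← h4, ← mul_assoc, ← scalarGL_mul, mul_inv_cancel, scalarGL_one, one_mul]
    rw [h5, ← scalarGL_comm s, mul_assoc, hH, ← mul_assoc, ← mul_assoc, ← scalarGL_mul, ← scalarGL_mul]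
    congr 2
    rw [mul_comm e' s]
  · intro h3
    have e3 : e'⁻¹ * (s * e' * e⁻¹) = s * e⁻¹ := by
      rw [mul_comm s e', mul_assoc, inv_mul_cancel_left]
    have e4 : scalarGL e'⁻¹ * (scalarGL (s * e' * e⁻¹) * glι D.ι M₀) = scalarGL s * (cstar D.τ P * P) := by
      rw [← mul_assoc, ← scalarGL_mul, e3, scalarGL_mul, mul_assoc, ← hH]
    rw [h3, e4]
    calc (cstar D.τ P)⁻¹ * (scalarGL s * (cstar D.τ P * P)) * P⁻¹
        = scalarGL s * ((cstar D.τ P)⁻¹ * (cstar D.τ P * P) * P⁻¹) := by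
          rw [← mul_assoc (cstar D.τ P)⁻¹ (scalarGL s), ← scalarGL_comm s]
          simp only [mul_assoc]
      _ = scalarGL s := by rw [inv_mul_cancel_left, mul_inv_cancel, mul_one]

/-- A matrix of the form `l • u` with `u` unitary induces the same automorphism as `u`. -/
theorem conjN_scalar_mul (x y : ↥(normSU n F q)) (l : Fˣ) (h : x.1 = scalarGL l * y.1) :
    conjN x = conjN y := by
  have hz : scalarGL l ∈ normSU n F q := scalars_le_normSU (scalarGL_mem l)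
  have hx : x = ⟨scalarGL l, hz⟩ * y := Subtype.ext h
  rw [hx, map_mul, conjN_eq_one_of_scalar ⟨scalarGL l, hz⟩ (scalarGL_mem l), one_mul]

/-- **Conjugacy from similarity.** -/
theorem isConjUnder_of_sim (hn : 3 ≤ n) {γ γ' : MulAut PSUn} {M₀ M₀' : GL (Fin n) K}
    (hγ : Rel D γ M₀) (hγ' : Rel D γ' M₀')
    (hsim : ∃ (k₀ : GL (Fin n) K) (c₀ : Kˣ), glT k₀ * M₀' * k₀ = scalarGL c₀ * M₀) :
    Cfsg.IsConjUnder (Cfsg.inndiagPSU n F q) γ γ' := by
  have hn0 : 0 < n := by omega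
  obtain ⟨P, e, hP, rfl⟩ := hγ
  obtain ⟨P', e', hP', rfl⟩ := hγ'
  obtain ⟨k₀, c₀, hk⟩ := hsim
  have hs := (sim_conj_iff D hP hP' k₀ (Units.map (D.ι : K →* F) c₀ * e * e'⁻¹)).mpr (by
    rw [hk, map_mul, glι_scalarGL]
    congr 2
    rw [mul_assoc, mul_assoc, mul_assoc, inv_mul_cancel_left, mul_inv_cancel, mul_one])
  obtain ⟨l, u, hu, hx⟩ := sim_decomp hn0 D.hF D.τ D.hτ _ _ hs
  refine ⟨conjU ⟨u, hu⟩, ?_, ?_⟩
  · rw [inndiagPSU_eq]; exact ⟨_, rfl⟩
  · rw [conjU_apply]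
    symm
    rw [conj_gamOf_iff D hn (mem_normSU_of_form D hn0 hP) (mem_normSU_of_form D hn0 hP')]
    exact ⟨l, k₀, hx.symm⟩

/-- The form equation behind `scalarGL ν * g = P' k₀ P⁻¹` with `g` unitary. -/
theorem sim_of_eq (hn0 : 0 < n) {P P' : GL (Fin n) F} {e e' : Fˣ} {M₀ M₀' : GL (Fin n) K}
    (hP : glι D.ι M₀ = scalarGL e * (cstar D.τ P * P))
    (hP' : glι D.ι M₀' = scalarGL e' * (cstar D.τ P' * P')) (g : GL (Fin n) F)
    (hg : g ∈ Cfsg.GU n F q) (ν : Fˣ) (k₀ : GL (Fin n) K)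
    (hk : scalarGL ν * g = P' * glι D.ι k₀ * P⁻¹) :
    ∃ c₀ : Kˣ, glT k₀ * M₀' * k₀ = scalarGL c₀ * M₀ := by
  have hg1 : cstar D.τ g * g = 1 := (mem_GU_iff_cstar D.hF D.τ D.hτ g).mp hg
  have hs : cstar D.τ (P' * glι D.ι k₀ * P⁻¹) * (P' * glι D.ι k₀ * P⁻¹)
      = scalarGL (Units.map (D.τ : F →* F) ν * ν) := by
    rw [← hk, cstar_mul, cstar_scalarGL, mul_assoc, ← mul_assoc (scalarGL _) (scalarGL ν), ← scalarGL_mul,
      scalarGL_comm, ← mul_assoc, hg1, one_mul]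
  have h3 := (sim_conj_iff D hP hP' k₀ _).mp hs
  exact descend_scalar D hn0 _ _ _ h3

/-- **Similarity from conjugacy.** -/
theorem sim_of_isConjUnder (hn : 3 ≤ n) {γ γ' : MulAut PSUn} {M₀ M₀' : GL (Fin n) K}
    (hγ : Rel D γ M₀) (hγ' : Rel D γ' M₀')
    (hconj : Cfsg.IsConjUnder (Cfsg.inndiagPSU n F q) γ γ') :
    ∃ (k₀ : GL (Fin n) K) (c₀ : Kˣ), glT k₀ * M₀' * k₀ = scalarGL c₀ * M₀ := by
  have hn0 : 0 < n := by omega
  obtain ⟨P, e, hP, rfl⟩ := hγ
  obtain ⟨P', e', hP', rfl⟩ := hγ'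
  obtain ⟨β, hβ, hc⟩ := hconj
  rw [inndiagPSU_eq] at hβ
  obtain ⟨g, rfl⟩ := hβ
  rw [conjU_apply] at hc
  obtain ⟨ν, k₀, hk⟩ := (conj_gamOf_iff D hn (mem_normSU_of_form D hn0 hP)
    (mem_normSU_of_form D hn0 hP') _).mp hc.symm
  exact ⟨k₀, sim_of_eq D hn0 hP hP' g.1 g.2 ν k₀ hk⟩

/-! ### The centralizer -/

/-- The homomorphism `k₀ ↦ P k₀ P⁻¹` from the similarity group of `M₀` to the normalizer of `SU_n`. -/
noncomputable def simHom (hn0 : 0 < n) {P : GL (Fin n) F} {e : Fˣ} {M₀ : GL (Fin n) K}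
    (h : glι D.ι M₀ = scalarGL e * (cstar D.τ P * P)) :
    ↥(Cfsg.Geo.similarityGroup (bilOf (M₀ : Matrix (Fin n) (Fin n) K))) →* ↥(normSU n F q) :=
  (((MulAut.conj P).toMonoidHom.comp (glι D.ι)).comp (Subgroup.subtype _)).codRestrict (normSU n F q)
    (fun k₀ => by
      obtain ⟨c₀, hc₀⟩ := (mem_sim_iff_GL M₀ k₀.1).mp k₀.2
      show P * glι D.ι k₀.1 * P⁻¹ ∈ normSU n F q
      apply mem_normSU_of_sim hn0 D.hF D.τ D.hτ _ (Units.map (D.ι : K →* F) c₀)
      rw [sim_conj_iff D h h k₀.1, hc₀, map_mul, glι_scalarGL, mul_assoc, mul_inv_cancel, mul_one])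

theorem simHom_coe (hn0 : 0 < n) {P : GL (Fin n) F} {e : Fˣ} {M₀ : GL (Fin n) K}
    (h : glι D.ι M₀ = scalarGL e * (cstar D.τ P * P))
    (k₀ : ↥(Cfsg.Geo.similarityGroup (bilOf (M₀ : Matrix (Fin n) (Fin n) K)))) :
    (simHom D hn0 h k₀).1 = P * glι D.ι k₀.1 * P⁻¹ := rfl

theorem centHom_ker (hn : 3 ≤ n) {P : GL (Fin n) F} {e : Fˣ} {M₀ : GL (Fin n) K}
    (h : glι D.ι M₀ = scalarGL e * (cstar D.τ P * P)) :
    (Cfsg.Geo.scalars (Fin n) K).subgroupOf
        (Cfsg.Geo.similarityGroup (bilOf (M₀ : Matrix (Fin n) (Fin n) K)))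
      = ((conjN (n := n) (F := F) (q := q)).comp (simHom D (by omega) h)).ker := by
  ext k₀
  rw [Subgroup.mem_subgroupOf, MonoidHom.mem_ker, MonoidHom.comp_apply, conjN_eq_one_iff D.hF hn,
    simHom_coe, ← glι_mem_scalars_iff D.ι]
  constructor
  · intro h1
    exact (Cfsg.Geo.scalars_normal).conj_mem _ h1 P
  · intro h1
    have h2 := (Cfsg.Geo.scalars_normal).conj_mem _ h1 P⁻¹
    have h3 : P⁻¹ * (P * glι D.ι k₀.1 * P⁻¹) * P⁻¹⁻¹ = glι D.ι k₀.1 := by group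
    rw [h3] at h2
    exact h2

theorem centHom_range (hn : 3 ≤ n) {P : GL (Fin n) F} {e : Fˣ} {M₀ : GL (Fin n) K}
    (h : glι D.ι M₀ = scalarGL e * (cstar D.τ P * P)) :
    ((conjN (n := n) (F := F) (q := q)).comp (simHom D (by omega) h)).range
      = Cfsg.inndiagPSU n F q ⊓ Subgroup.centralizer {gamOf D.τ P} := by
  have hn0 : 0 < n := by omega
  have hPn := mem_normSU_of_form D hn0 h
  ext β
  rw [Subgroup.mem_inf, Subgroup.mem_centralizer_singleton_iff, inndiagPSU_eq]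
  constructor
  · rintro ⟨k₀, rfl⟩
    rw [MonoidHom.comp_apply]
    obtain ⟨c₀, hc₀⟩ := (mem_sim_iff_GL M₀ k₀.1).mp k₀.2
    have hs : cstar D.τ (P * glι D.ι k₀.1 * P⁻¹) * (P * glι D.ι k₀.1 * P⁻¹)
        = scalarGL (Units.map (D.ι : K →* F) c₀) := by
      rw [sim_conj_iff D h h k₀.1, hc₀, map_mul, glι_scalarGL, mul_assoc, mul_inv_cancel, mul_one]
    obtain ⟨l, u, hu, hx⟩ := sim_decomp hn0 D.hF D.τ D.hτ _ _ hs
    constructor
    · refine ⟨⟨u, hu⟩, ?_⟩
      rw [conjU_apply]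
      exact (conjN_scalar_mul _ _ l (by rw [simHom_coe]; exact hx)).symm
    · have h1 := (conj_gamOf_iff D hn hPn hPn (simHom D hn0 h k₀)).mpr
        ⟨1, k₀.1, by rw [scalarGL_one, one_mul, simHom_coe]⟩
      rw [mul_inv_eq_iff_eq_mul] at h1
      exact h1
  · rintro ⟨⟨g, rfl⟩, hcomm⟩
    rw [conjU_apply] at hcomm
    have h1 : conjN ⟨g.1, GU_le_normSU g.2⟩ * gamOf D.τ P * (conjN ⟨g.1, GU_le_normSU g.2⟩)⁻¹
        = gamOf (q := q) D.τ P := by
      rw [mul_inv_eq_iff_eq_mul]; exact hcomm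
    obtain ⟨ν, k₀, hk⟩ := (conj_gamOf_iff D hn hPn hPn _).mp h1
    obtain ⟨c₀, hc₀⟩ := sim_of_eq D hn0 h h g.1 g.2 ν k₀ hk
    refine ⟨⟨k₀, (mem_sim_iff_GL M₀ k₀).mpr ⟨c₀, hc₀⟩⟩, ?_⟩
    rw [MonoidHom.comp_apply, conjU_apply]
    apply conjN_scalar_mul _ _ ν
    rw [simHom_coe]
    exact hk.symm

/-- **The centralizer** of an involutory graph automorphism attached to `M₀` is the projective similarity group of
`M₀` over the fixed field. -/
theorem nonempty_centEquiv_of_rel (hn : 3 ≤ n) {γ : MulAut PSUn} {M₀ : GL (Fin n) K} (hγ : Rel D γ M₀) :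
    Nonempty (↥(Cfsg.inndiagPSU n F q ⊓ Subgroup.centralizer {γ}) ≃*
      Cfsg.projQuot (Cfsg.Geo.similarityGroup (bilOf (M₀ : Matrix (Fin n) (Fin n) K)))) := by
  obtain ⟨P, e, h, rfl⟩ := hγ
  set φ := (conjN (n := n) (F := F) (q := q)).comp (simHom D (by omega) h) with hφ
  exact ⟨((QuotientGroup.quotientMulEquivOfEq (centHom_ker D hn h)).trans
    ((QuotientGroup.quotientKerEquivRange φ).trans
      (MulEquiv.subgroupCongr (centHom_range D hn h)))).symm⟩

/-! ### Existence: every form equation gives an involutory graph automorphism -/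

theorem gam_sq (τ : F ≃+* F) (g : ↥(normSU n F q)) :
    (conjN g * fieldU τ) * (conjN g * fieldU τ) = conjN (g * mapN τ g) * fieldU (τ * τ) := by
  rw [mul_assoc, ← mul_assoc (fieldU τ), fieldU_mul_conjN, mul_assoc, ← map_mul fieldU, ← mul_assoc,
    ← map_mul]

theorem graph_of_form (hn : 3 ≤ n) {P : GL (Fin n) F} {e : Fˣ} {M₀ : GL (Fin n) K}
    (h : glι D.ι M₀ = scalarGL e * (cstar D.τ P * P)) :
    Cfsg.IsGraphAutClassPSU (gamOf (q := q) D.τ P) ∧ orderOf (gamOf (q := q) D.τ P) = 2 ∧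
      Rel D (gamOf (q := q) D.τ P) M₀ := by
  have hn0 : 0 < n := by omega
  have hPn := mem_normSU_of_form D hn0 h
  refine ⟨?_, ?_, ⟨P, e, h, rfl⟩⟩
  · obtain ⟨l, u, hu, hx⟩ := sim_decomp hn0 D.hF D.τ D.hτ _ _ (sim_of_form D h)
    rw [isGraphAutClassPSU_iff]
    refine ⟨hn, ⟨u, hu⟩, D.τ, by rw [D.orderOf_τ]; exact even_two, ?_⟩
    rw [gamOf_eq D.τ P hPn, conjU_apply]
    congr 1
    exact conjN_scalar_mul _ _ l hx
  · have : Fact (Nat.Prime 2) := ⟨Nat.prime_two⟩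
    apply orderOf_eq_prime
    · rw [pow_two, gamOf_eq D.τ P hPn, gam_sq, D.τ_sq, map_one, mul_one]
      have h1 : (⟨P * (glMap D.τ P)⁻¹, hPn⟩ * mapN D.τ ⟨P * (glMap D.τ P)⁻¹, hPn⟩ : ↥(normSU n F q)) = 1 := by
        apply Subtype.ext
        show P * (glMap D.τ P)⁻¹ * glMap D.τ (P * (glMap D.τ P)⁻¹) = 1
        rw [map_mul, map_inv, glMap_glMap D.τ D.hττ]
        group
      rw [h1, map_one]
    · intro h1
      rw [gamOf_eq D.τ P hPn, mul_eq_one_iff_eq_inv', ← map_inv] at h1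
      exact D.τ_ne_one (eq_one_and_scalar_of_conjN_eq_fieldU D.hF hn _ D.τ h1.symm).1

end rel

end Cfsg.Agent.Lib.Helper14_PSUBridge
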