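import Mathlib
import Cfsg.Agent.Lib.Helper14_PSUBridge

set_option autoImplicit false
set_option linter.unusedSectionVars false

/-!
# Involutory graph automorphisms of `PSU_n` come from forms over the fixed field (helper14)

Every involutory graph automorphism `γ = δ φ_σ` of `PSU_n`, `n ≥ 3`, has `σ` the `q`-th power map, and is attached
(`Rel`) to a symmetric or skew-symmetric invertible matrix over the fixed field (Hilbert 90 for `GL_n`).
-/

namespace Cfsg.Agent.Lib.Helper14_PSUGraph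

open Matrix Cfsg.Agent.Lib.Helper14_PSLAut Cfsg.Agent.Lib.Helper14_PSLGraph
  Cfsg.Agent.Lib.Helper14_FieldAutPSL Cfsg.Agent.Lib.Helper14_Char2Groups
  Cfsg.Agent.Lib.Helper14_PSUAut Cfsg.Agent.Lib.Helper14_GraphFieldPSL
  Cfsg.Agent.Lib.Helper13_Herm Cfsg.Agent.Lib.Helper14_PSUKer Cfsg.Agent.Lib.Helper14_PSUStar
  Cfsg.Agent.Lib.Helper14_PSLCent Cfsg.Agent.Lib.Helper14_PSUBridge

variable {F : Type*} [Field F] [Fintype F] {K : Type*} [Field K] {n q : ℕ}

local notation "Mn" => Matrix (Fin n) (Fin n) F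
local notation "PSUn" => Cfsg.PSU n F q

variable (D : Descent F K q)

/-- An involutory graph automorphism involves the `q`-th power map. -/
theorem exists_tau_of_graph (hn : 3 ≤ n) (γ : MulAut PSUn) (hγ : Cfsg.IsGraphAutClassPSU γ)
    (hγ2 : orderOf γ = 2) : ∃ g : ↥(Cfsg.GU n F q), γ = conjU g * fieldU D.τ := by
  obtain ⟨-, g, σ, hσ, rfl⟩ := (isGraphAutClassPSU_iff γ).mp hγ
  refine ⟨g, ?_⟩
  congr 2
  -- `σ * σ = 1`
  have hsq : (conjU g * fieldU σ) ^ 2 = 1 := by rw [← hγ2]; exact pow_orderOf_eq_one _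
  rw [pow_two, conjU_apply, Cfsg.Agent.Lib.Helper14_PSUBridge.gam_sq, mul_eq_one_iff_eq_inv', ← map_inv] at hsq
  have hσσ : σ * σ = 1 := (eq_one_and_scalar_of_conjN_eq_fieldU D.hF hn _ _ hsq.symm).1
  have hord : orderOf σ = 2 := by
    have h1 : orderOf σ ∣ 2 := orderOf_dvd_of_pow_eq_one (by rw [pow_two]; exact hσσ)
    rcases (Nat.dvd_prime Nat.prime_two).mp h1 with h2 | h2
    · rw [h2] at hσ
      exact absurd hσ (by decide)
    · exact h2
  have hσ1 : σ ≠ RingEquiv.refl F := by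
    intro h
    have : orderOf σ = 1 := by rw [h]; exact orderOf_one
    omega
  have hσinv : ∀ a, σ (σ a) = a := fun a => by
    have := congrArg (fun ρ : F ≃+* F => ρ a) hσσ
    exact this
  obtain ⟨p, j, hp, hchar, hqp⟩ := exists_char_pow D.hF
  haveI : Fact p.Prime := ⟨hp⟩
  have hcard : Fintype.card F = p ^ (2 * j) := by rw [D.hF, hqp, ← pow_mul, mul_comm]
  obtain ⟨-, hpow⟩ := involution_eq_pow hcard σ hσ1 hσinv
  apply RingEquiv.ext
  intro a
  rw [hpow a, D.hτ a, hqp]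
  congr 2
  omega

theorem map_bilOf (ι : K →+* F) (M : Matrix (Fin n) (Fin n) K) (u v : Fin n → K) :
    ι (bilOf M u v) = bilOf (M.map ι) (fun i => ι (u i)) (fun i => ι (v i)) := by
  unfold bilOf
  simp only [dotProduct, Matrix.mulVec, Matrix.map_apply, map_sum, map_mul]

/-- **Descent**: an involutory automorphism `δ φ_q`, `δ` induced by the unitary matrix `g`, is attached to a
symmetric or skew-symmetric form over the fixed field, alternating if `g` is. -/
theorem exists_rel_of_order_two (hn : 3 ≤ n) (g : ↥(Cfsg.GU n F q))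
    (h2 : orderOf (conjU g * fieldU (n := n) (q := q) D.τ) = 2) :
    ∃ M₀ : GL (Fin n) K,
      ((M₀ : Matrix (Fin n) (Fin n) K)ᵀ = M₀ ∨ (M₀ : Matrix (Fin n) (Fin n) K)ᵀ = -M₀) ∧
      ((∀ v, bilOf ((g.1 : GL (Fin n) F) : Mn) v v = 0) →
        ∀ v, bilOf (M₀ : Matrix (Fin n) (Fin n) K) v v = 0) ∧
      Rel D (conjU g * fieldU D.τ) M₀ := by
  have hn0 : 0 < n := by omega
  set gN : ↥(normSU n F q) := ⟨g.1, GU_le_normSU g.2⟩ with hgN
  have hγ : conjU g * fieldU (n := n) (q := q) D.τ = conjN gN * fieldU D.τ := rfl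
  -- the square
  have hsq : conjN (gN * mapN D.τ gN) = 1 := by
    have h4 : (conjU g * fieldU (n := n) (q := q) D.τ) ^ 2 = 1 := by
      rw [← h2]; exact pow_orderOf_eq_one _
    rw [pow_two, hγ, Cfsg.Agent.Lib.Helper14_PSUBridge.gam_sq, D.τ_sq, map_one, mul_one] at h4
    exact h4
  obtain ⟨lam, hlam⟩ := (mem_scalars_iff_scalarGL _).mp ((conjN_eq_one_iff D.hF hn _).mp hsq)
  have hlam' : g.1 * glMap D.τ g.1 = scalarGL lam := hlam
  have hgU : cstar D.τ g.1 * g.1 = 1 := (mem_GU_iff_cstar D.hF D.τ D.hτ g.1).mp g.2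
  have hbar : glMap D.τ g.1 = glT g.1⁻¹ := by
    have h3 : cstar D.τ g.1 = g.1⁻¹ := eq_inv_of_mul_eq_one_left hgU
    unfold cstar at h3
    rw [← h3, glT_glT]
  have hsym : g.1 = scalarGL lam * glT g.1 := by
    rw [hbar, glT_inv] at hlam'
    rw [← hlam']
    group
  have hsymT : glT g.1 = scalarGL lam * g.1 := by
    conv_lhs => rw [hsym]
    rw [glT_mul, glT_glT, glT_scalarGL, scalarGL_comm]
  have hlam2 : lam * lam = 1 := by
    have h3 : scalarGL (lam * lam) * g.1 = 1 * g.1 := by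
      rw [scalarGL_mul, mul_assoc, ← hsymT, ← hsym, one_mul]
    exact scalarGL_injective hn0 ((mul_right_cancel h3).trans scalarGL_one.symm)
  have hlamcases : (lam : F) = 1 ∨ (lam : F) = -1 := by
    have h3 : ((lam : F) - 1) * ((lam : F) + 1) = 0 := by
      have h4 := congrArg Units.val hlam2
      rw [Units.val_mul, Units.val_one] at h4
      linear_combination h4
    rcases mul_eq_zero.mp h3 with h5 | h5
    · left; exact sub_eq_zero.mp h5
    · right; exact eq_neg_of_add_eq_zero_left h5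
  have hlamτ : Units.map (D.τ : F →* F) lam = lam := by
    apply Units.ext
    show D.τ (lam : F) = lam
    rcases hlamcases with h3 | h3
    · rw [h3, map_one]
    · rw [h3, map_neg, map_one]
  have hlaminv : lam⁻¹ = lam := inv_eq_of_mul_eq_one_left hlam2
  -- rescale `g` to norm one
  obtain ⟨c, hc⟩ := Cfsg.Agent.Lib.Helper44_H90.exists_norm_eq D.τ (r := 2) two_pos D.orderOf_τ lam
    hlamτ
  rw [Cfsg.Agent.Lib.Helper44_H90.Nm_apply, Finset.prod_range_succ, Finset.prod_range_one, pow_zero,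
    pow_one, Cfsg.Agent.Lib.Helper44_H90.sigU_one] at hc
  have hc' : c * Units.map (D.τ : F →* F) c = lam := hc
  set g₁ : GL (Fin n) F := scalarGL c * g.1 with hg₁
  have hg₁1 : g₁ * glMap D.τ g₁ = 1 := by
    rw [hg₁, map_mul, glMap_scalarGL]
    calc scalarGL c * g.1 * (scalarGL (Units.map (D.τ : F →* F) c) * glMap D.τ g.1)
        = scalarGL (c * Units.map (D.τ : F →* F) c) * (g.1 * glMap D.τ g.1) := by
          rw [scalarGL_mul, mul_assoc, ← mul_assoc g.1, ← scalarGL_comm _ g.1]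
          simp only [mul_assoc]
      _ = 1 := by rw [hc', hlam', ← scalarGL_mul, hlam2, scalarGL_one]
  -- Hilbert 90
  obtain ⟨P, hP⟩ := Cfsg.Agent.Lib.Helper44_H90.hilbert90_GL D.τ (r := 2) two_pos D.orderOf_τ g₁ (by
    rw [Cfsg.Agent.Lib.Helper44_H90.PN_succ', Cfsg.Agent.Lib.Helper44_H90.PN_succ',
      Cfsg.Agent.Lib.Helper44_H90.PN_zero, map_one, mul_one]
    exact hg₁1)
  have hP' : g₁ * glMap D.τ P = P := hP
  have hgP : g₁ = P * (glMap D.τ P)⁻¹ := eq_mul_inv_of_mul_eq hP'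
  -- symmetry
  have hg₁T : glT g₁ = scalarGL lam * g₁ := by
    rw [hg₁, glT_mul, glT_scalarGL, hsymT, ← scalarGL_comm c, ← mul_assoc, ← mul_assoc,
      scalarGL_comm c (scalarGL lam)]
  have hHbar : glT P * glMap D.τ P = scalarGL lam * (cstar D.τ P * P) := by
    have h3 : glT g₁ = (cstar D.τ P)⁻¹ * glT P := by
      rw [hgP, glT_mul, glT_inv]
      rfl
    rw [h3, hgP] at hg₁T
    have h4 : glT P * glMap D.τ P
        = cstar D.τ P * ((cstar D.τ P)⁻¹ * glT P) * glMap D.τ P := by group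
    rw [h4, hg₁T, ← mul_assoc (cstar D.τ P), ← scalarGL_comm lam (cstar D.τ P)]
    group
  -- the auxiliary scalar
  obtain ⟨ε, hε⟩ := Cfsg.Agent.Lib.Helper44_H90.hilbert90_units D.τ (r := 2) two_pos D.orderOf_τ lam (by
    rw [Cfsg.Agent.Lib.Helper44_H90.Nm_apply, Finset.prod_range_succ, Finset.prod_range_one, pow_zero,
      pow_one, Cfsg.Agent.Lib.Helper44_H90.sigU_one]
    show lam * Units.map (D.τ : F →* F) lam = 1
    rw [hlamτ, hlam2])
  have hε' : lam * Units.map (D.τ : F →* F) ε = ε := hε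
  set X : GL (Fin n) F := scalarGL ε * (cstar D.τ P * P) with hX
  have hXfix : glMap D.τ X = X := by
    rw [hX, map_mul, map_mul, glMap_scalarGL, glMap_cstar D.τ D.hττ, hHbar, ← mul_assoc, ← scalarGL_mul,
      mul_comm, hε']
  obtain ⟨M₀, hM₀⟩ := exists_glι_of_fixed D.ι D.τ D.hι2 X hXfix
  have hXT : glT X = scalarGL lam * X := by
    have h3 : glT (cstar D.τ P) = glMap D.τ P := by unfold cstar; rw [glT_glT]
    rw [hX, glT_mul, glT_mul, h3, glT_scalarGL, hHbar, scalarGL_comm ε, mul_assoc]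
  have hM₀T : glι D.ι (glT M₀) = scalarGL lam * glι D.ι M₀ := by
    rw [← glT_glι, hM₀, hXT]
  have hM₀Tm : ((M₀ : Matrix (Fin n) (Fin n) K)ᵀ).map D.ι
      = (lam : F) • (M₀ : Matrix (Fin n) (Fin n) K).map D.ι := by
    have h3 := congrArg (fun x : GL (Fin n) F => (x : Mn)) hM₀T
    simp only [Units.val_mul, glι_coe, glT_coe, scalarGL_coe, Matrix.smul_mul, Matrix.one_mul] at h3
    exact h3
  refine ⟨M₀, ?_, ?_, ⟨P, ε, hM₀, ?_⟩⟩
  · rcases hlamcases with h3 | h3
    · left
      rw [h3, one_smul] at hM₀Tm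
      ext i j
      have h4 := congrFun (congrFun hM₀Tm i) j
      simp only [Matrix.map_apply] at h4
      exact D.ι.injective h4
    · right
      rw [h3, neg_smul, one_smul] at hM₀Tm
      ext i j
      have h4 := congrFun (congrFun hM₀Tm i) j
      simp only [Matrix.map_apply, Matrix.neg_apply] at h4
      apply D.ι.injective
      rw [h4, Matrix.neg_apply, map_neg]
  · intro halt v₀
    apply D.ι.injective
    rw [map_zero, map_bilOf]
    have hMι : (M₀ : Matrix (Fin n) (Fin n) K).map D.ι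
        = (ε : F) • (((P : Mn).map D.τ)ᵀ * (P : Mn)) := by
      have h3 := congrArg (fun x : GL (Fin n) F => (x : Mn)) hM₀
      simp only [hX, Units.val_mul, glι_coe, cstar_coe, scalarGL_coe, Matrix.smul_mul, Matrix.one_mul] at h3
      rw [h3, Matrix.transpose_map]
    rw [hMι, bilOf_smul]
    set v₁ : Fin n → F := fun i => D.ι (v₀ i) with hv₁
    have hv₁τ : (fun i => D.τ (v₁ i)) = v₁ := by
      funext i
      exact D.hι1 _
    set w : Fin n → F := (P : Mn) *ᵥ v₁ with hw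
    have hwτ : ((P : Mn).map D.τ) *ᵥ v₁ = fun i => D.τ (w i) := by
      conv_lhs => rw [← hv₁τ]
      rw [map_mulVec]
    have hPg : (P : Mn) = (g₁ : Mn) * (P : Mn).map D.τ := by
      have h3 := congrArg (fun x : GL (Fin n) F => (x : Mn)) hP'
      simp only [Units.val_mul, glMap_coe] at h3
      exact h3.symm
    have hw2 : w = (g₁ : Mn) *ᵥ (fun i => D.τ (w i)) := by
      rw [← hwτ, Matrix.mulVec_mulVec, ← hPg]
    have h5 : bilOf (((P : Mn).map D.τ)ᵀ * (P : Mn)) v₁ v₁
        = bilOf (g₁ : Mn) (fun i => D.τ (w i)) (fun i => D.τ (w i)) := by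
      unfold bilOf
      rw [← Matrix.mulVec_mulVec, ← hw, Matrix.dotProduct_mulVec, Matrix.vecMul_transpose, hwτ, ← hw2]
    rw [h5]
    have hg₁m : (g₁ : Mn) = (c : F) • ((g.1 : GL (Fin n) F) : Mn) := by
      rw [hg₁, Units.val_mul, scalarGL_coe, Matrix.smul_mul, Matrix.one_mul]
    rw [hg₁m, bilOf_smul, halt, mul_zero, mul_zero]
  · rw [hγ, gamOf_eq D.τ P (mem_normSU_of_form D hn0 hM₀)]
    congr 1
    symm
    apply conjN_scalar_mul _ _ c
    show P * (glMap D.τ P)⁻¹ = scalarGL c * g.1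
    rw [← hgP]

end Cfsg.Agent.Lib.Helper14_PSUGraph
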