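import Mathlib
import Cfsg.Agent.Lib.Helper14_PSUGraph
import Cfsg.Agent.Lib.Helper14_PSLGraphOdd
import Cfsg.Agent.Lib.Helper14_Char2Even

set_option autoImplicit false
set_option linter.unusedSectionVars false

/-!
# Involutory graph automorphisms of `PSU_n`: the interface (helper14)

Matrix-level versions of the descent results, and the standard representatives.
-/

namespace Cfsg.Agent.Lib.Helper14_PSUGraphMain

open Matrix Cfsg.Agent.Lib.Helper14_PSLAut Cfsg.Agent.Lib.Helper14_PSLGraph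
  Cfsg.Agent.Lib.Helper14_FieldAutPSL Cfsg.Agent.Lib.Helper14_Char2Groups
  Cfsg.Agent.Lib.Helper14_PSUAut Cfsg.Agent.Lib.Helper14_GraphFieldPSL
  Cfsg.Agent.Lib.Helper13_Herm Cfsg.Agent.Lib.Helper14_PSUKer Cfsg.Agent.Lib.Helper14_PSUStar
  Cfsg.Agent.Lib.Helper14_PSLCent Cfsg.Agent.Lib.Helper14_PSUBridge Cfsg.Agent.Lib.Helper14_PSUGraph
  Cfsg.Agent.Lib.Helper14_PSLGraphOdd Cfsg.Agent.Lib.Helper14_Char2Even

variable {F : Type*} [Field F] [Fintype F] {K : Type*} [Field K] {n q : ℕ}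

local notation "Mn" => Matrix (Fin n) (Fin n) F
local notation "Kn" => Matrix (Fin n) (Fin n) K
local notation "PSUn" => Cfsg.PSU n F q

variable (D : Descent F K q)

/-- Every involutory graph automorphism is attached to a symmetric or skew-symmetric form. -/
theorem exists_form_of_graph (hn : 3 ≤ n) (γ : MulAut PSUn) (hγ : Cfsg.IsGraphAutClassPSU γ)
    (hγ2 : orderOf γ = 2) :
    ∃ M₀ : GL (Fin n) K, ((M₀ : Kn)ᵀ = (M₀ : Kn) ∨ (M₀ : Kn)ᵀ = -(M₀ : Kn)) ∧ Rel D γ M₀ := by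
  obtain ⟨g, rfl⟩ := exists_tau_of_graph D hn γ hγ hγ2
  obtain ⟨M₀, h1, -, h3⟩ := exists_rel_of_order_two D hn g hγ2
  exact ⟨M₀, h1, h3⟩

theorem isConjUnder_symm {X : Type*} [Group X] (H : Subgroup X) {x y : X}
    (h : Cfsg.IsConjUnder H x y) : Cfsg.IsConjUnder H y x := by
  obtain ⟨k, hk, rfl⟩ := h
  exact ⟨k⁻¹, H.inv_mem hk, by group⟩

theorem congr_GL_iff (M₀ M₀' k₀ : GL (Fin n) K) (c₀ : Kˣ) :
    glT k₀ * M₀ * k₀ = scalarGL c₀ * M₀' ↔ (k₀ : Kn)ᵀ * (M₀ : Kn) * (k₀ : Kn) = (c₀ : K) • (M₀' : Kn) := by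
  constructor
  · intro h
    have := congrArg (fun x : GL (Fin n) K => (x : Kn)) h
    simp only [Units.val_mul, glT_coe, scalarGL_coe, Matrix.smul_mul, Matrix.one_mul] at this
    exact this
  · intro h
    apply Units.ext
    rw [Units.val_mul, Units.val_mul, Units.val_mul, glT_coe, scalarGL_coe, h, Matrix.smul_mul,
      Matrix.one_mul]

/-- **Conjugacy under `Inndiag` is similarity of the attached forms.** -/
theorem isConjUnder_iff_of_rel (hn : 3 ≤ n) {γ γ' : MulAut PSUn} {M₀ M₀' : GL (Fin n) K}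
    (hγ : Rel D γ M₀) (hγ' : Rel D γ' M₀') :
    Cfsg.IsConjUnder (Cfsg.inndiagPSU n F q) γ γ' ↔
      ∃ (k : GL (Fin n) K) (c : Kˣ), (k : Kn)ᵀ * (M₀ : Kn) * (k : Kn) = (c : K) • (M₀' : Kn) := by
  constructor
  · intro h
    obtain ⟨k₀, c₀, hk⟩ := sim_of_isConjUnder D hn hγ' hγ (isConjUnder_symm _ h)
    exact ⟨k₀, c₀, (congr_GL_iff _ _ _ _).mp hk⟩
  · rintro ⟨k, c, hk⟩
    apply isConjUnder_symm
    exact isConjUnder_of_sim D hn hγ' hγ ⟨k, c, (congr_GL_iff _ _ _ _).mpr hk⟩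

/-- The form equation at the level of matrices. -/
theorem form_GL_iff (P : GL (Fin n) F) (e : Fˣ) (M₀ : GL (Fin n) K) :
    glι D.ι M₀ = scalarGL e * (cstar D.τ P * P) ↔
      (M₀ : Kn).map D.ι = (e : F) • (((P : Mn)ᵀ).map D.τ * (P : Mn)) := by
  constructor
  · intro h
    have := congrArg (fun x : GL (Fin n) F => (x : Mn)) h
    simp only [Units.val_mul, glι_coe, cstar_coe, scalarGL_coe, Matrix.smul_mul, Matrix.one_mul] at this
    exact this
  · intro h
    apply Units.ext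
    rw [Units.val_mul, Units.val_mul, glι_coe, cstar_coe, scalarGL_coe, h, Matrix.smul_mul, Matrix.one_mul]

/-- The standard field automorphism of the `q`-th power map is attached to the identity matrix. -/
theorem rel_fieldU (hn : 3 ≤ n) :
    Cfsg.IsGraphAutClassPSU (fieldU (n := n) (q := q) D.τ) ∧ orderOf (fieldU (n := n) (q := q) D.τ) = 2 ∧
      Rel D (fieldU (n := n) (q := q) D.τ) (1 : GL (Fin n) K) := by
  have hn0 : 0 < n := by omega
  have h : glι D.ι (1 : GL (Fin n) K) = scalarGL 1 * (cstar D.τ (1 : GL (Fin n) F) * 1) := by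
    rw [map_one, scalarGL_one, cstar_one, one_mul, one_mul]
  have h1 : gamOf (q := q) D.τ (1 : GL (Fin n) F) = fieldU D.τ := by
    rw [gamOf_eq D.τ 1 (mem_normSU_of_form D hn0 h)]
    have : (⟨1 * (glMap D.τ (1 : GL (Fin n) F))⁻¹, mem_normSU_of_form D hn0 h⟩ : ↥(normSU n F q)) = 1 := by
      apply Subtype.ext
      show 1 * (glMap D.τ (1 : GL (Fin n) F))⁻¹ = 1
      rw [map_one, inv_one, one_mul]
    rw [this, map_one, one_mul]
  have h2 := graph_of_form D hn h
  rw [h1] at h2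
  exact h2

/-- Norms: every non-zero element of the fixed field is a norm. -/
theorem exists_norm_eq_ι (d : Kˣ) : ∃ p : Fˣ, (p : F) * D.τ (p : F) = D.ι (d : K) := by
  obtain ⟨a, ha⟩ := Cfsg.Agent.Lib.Helper44_H90.exists_norm_eq D.τ (r := 2) two_pos D.orderOf_τ
    (Units.map (D.ι : K →* F) d) (by
      apply Units.ext
      exact D.hι1 _)
  rw [Cfsg.Agent.Lib.Helper44_H90.Nm_apply, Finset.prod_range_succ, Finset.prod_range_one, pow_zero,
    pow_one, Cfsg.Agent.Lib.Helper44_H90.sigU_one] at ha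
  refine ⟨a, ?_⟩
  have := congrArg Units.val ha
  exact this

/-- The involutory graph automorphism attached to the diagonal form `diag(d, 1, …, 1)`. -/
theorem exists_diag_graph (hn : 3 ≤ n) (d : K) (hd : d ≠ 0) :
    ∃ γ : MulAut PSUn, Cfsg.IsGraphAutClassPSU γ ∧ orderOf γ = 2 ∧
      Rel D γ (dGL (by omega : 0 < n) d hd) := by
  have hn0 : 0 < n := by omega
  obtain ⟨p, hp⟩ := exists_norm_eq_ι D (Units.mk0 d hd)
  rw [Units.val_mk0] at hp
  have h : glι D.ι (dGL hn0 d hd) = scalarGL 1 * (cstar D.τ (dGL hn0 (p : F) p.ne_zero) * dGL hn0 (p : F) p.ne_zero) := by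
    rw [form_GL_iff, dGL_coe, dGL_coe, Units.val_one, one_smul]
    unfold dmat
    rw [Matrix.diagonal_transpose, Matrix.diagonal_map (map_zero _), Matrix.diagonal_map (map_zero _),
      Matrix.diagonal_mul_diagonal]
    congr 1
    funext i
    by_cases hi : i = ⟨0, hn0⟩
    · simp only [hi, if_true]
      rw [mul_comm, hp]
    · simp only [hi, if_false, map_one, mul_one]
  exact ⟨gamOf D.τ (dGL hn0 (p : F) p.ne_zero), graph_of_form D hn h⟩

/-- An element `g` of `GU_n` with `g ḡ` scalar gives an involution `δ_g φ_q`. -/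
theorem orderOf_graph (hn : 3 ≤ n) (g : ↥(Cfsg.GU n F q)) (c : Fˣ)
    (hg : g.1 * glMap D.τ g.1 = scalarGL c) :
    orderOf (conjU g * fieldU (n := n) (q := q) D.τ) = 2 := by
  have : Fact (Nat.Prime 2) := ⟨Nat.prime_two⟩
  apply orderOf_eq_prime
  · rw [pow_two, conjU_apply, Cfsg.Agent.Lib.Helper14_PSUBridge.gam_sq, D.τ_sq, map_one, mul_one]
    apply conjN_eq_one_of_scalar
    show g.1 * glMap D.τ g.1 ∈ _
    rw [hg]
    exact scalarGL_mem c
  · intro h1
    rw [conjU_apply, mul_eq_one_iff_eq_inv', ← map_inv] at h1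
    exact D.τ_ne_one (eq_one_and_scalar_of_conjN_eq_fieldU D.hF hn _ D.τ h1.symm).1

/-- An involutory graph automorphism attached to an alternating form (even dimension). -/
theorem exists_alt_graph (hn : 3 ≤ n) {m : ℕ} (hnm : n = 2 * m) :
    ∃ (γ : MulAut PSUn) (M₀ : GL (Fin n) K), Cfsg.IsGraphAutClassPSU γ ∧ orderOf γ = 2 ∧
      Rel D γ M₀ ∧ ∀ v, bilOf (M₀ : Kn) v v = 0 := by
  have hq0 : q ≠ 0 := by have := D.hq; omega
  have ecard : Fintype.card (Fin m ⊕ Fin m) = n := by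
    rw [Fintype.card_sum, Fintype.card_fin, hnm]; ring
  set e : Fin n ≃ Fin m ⊕ Fin m := (Fintype.equivFinOfCardEq ecard).symm with he
  set J : GL (Fin n) F := jGL e with hJ
  have hJc : ((J : GL (Fin n) F) : Mn) = jmat e := rfl
  have hJmap : (jmat (F := F) e).map D.τ = jmat e := by
    unfold jmat
    ext i j
    simp only [Matrix.map_apply, Matrix.submatrix_apply, Matrix.J]
    rcases e i with a | a <;> rcases e j with b | b <;>
      simp [Matrix.fromBlocks, Matrix.one_apply, apply_ite D.τ, map_neg]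
  have hJJ : jmat (F := F) e * jmat e = -1 := by
    unfold jmat
    rw [Matrix.submatrix_mul_equiv, Matrix.J_squared]
    ext i j
    simp [Matrix.one_apply]
  have hJbar : glMap D.τ J = J := by
    apply Units.ext
    rw [glMap_coe, hJc, hJmap]
  have hJU : J ∈ Cfsg.GU n F q := by
    rw [mem_GU_iff_map D.τ D.hτ hq0, hJc, jmat_transpose, Matrix.map_neg _ (fun a => map_neg D.τ a), hJmap,
      Matrix.neg_mul, hJJ, neg_neg]
  have hJsq : J * glMap D.τ J = scalarGL (-1) := by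
    rw [hJbar]
    apply Units.ext
    rw [Units.val_mul, hJc, hJJ, scalarGL_coe, Units.val_neg, Units.val_one, neg_smul, one_smul]
  have hord := orderOf_graph D hn ⟨J, hJU⟩ (-1) hJsq
  obtain ⟨M₀, -, halt, hrel⟩ := exists_rel_of_order_two D hn ⟨J, hJU⟩ hord
  refine ⟨conjU ⟨J, hJU⟩ * fieldU D.τ, M₀, ?_, hord, hrel, halt (fun v => ?_)⟩
  · rw [isGraphAutClassPSU_iff]
    exact ⟨hn, ⟨J, hJU⟩, D.τ, by rw [D.orderOf_τ]; exact even_two, rfl⟩
  · show bilOf ((J : GL (Fin n) F) : Mn) v v = 0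
    rw [hJc]
    exact jmat_alt e v

end Cfsg.Agent.Lib.Helper14_PSUGraphMain
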