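import Mathlib
import Cfsg.Agent.Lib.Helper14_PSUGraphMain
import Cfsg.Agent.Lib.Helper14_SplitClass
import Cfsg.Agent.Lib.Helper14_PSLSplitGraph

set_option autoImplicit false
set_option linter.unusedSectionVars false

/-!
# Splitting of `Inndiag(PSU_n)`-classes into `Inn`-classes (helper14)

The number of `PSU_n`-classes in the `Inndiag(PSU_n)`-class of an automorphism `x`, through determinants: it is the index
of a subgroup of `Fˣ` (the preimage under `y ↦ y ^ (q - 1)` of the `n`-th powers of norm-one elements together with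
the determinants of the unitary matrices inducing automorphisms commuting with `x`).
-/

namespace Cfsg.Agent.Lib.Helper14_PSUSplit

open Matrix Cfsg.Agent.Lib.Helper14_PSLAut Cfsg.Agent.Lib.Helper14_PSLGraph
  Cfsg.Agent.Lib.Helper14_FieldAutPSL Cfsg.Agent.Lib.Helper14_Char2Groups
  Cfsg.Agent.Lib.Helper14_PSUAut Cfsg.Agent.Lib.Helper14_GraphFieldPSL
  Cfsg.Agent.Lib.Helper13_Herm Cfsg.Agent.Lib.Helper14_PSUKer Cfsg.Agent.Lib.Helper14_PSUStar
  Cfsg.Agent.Lib.Helper14_PSLCent Cfsg.Agent.Lib.Helper14_PSUBridge Cfsg.Agent.Lib.Helper14_PSUGraph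
  Cfsg.Agent.Lib.Helper14_PSUGraphMain Cfsg.Agent.Lib.Helper14_PSLSplit

variable {F : Type*} [Field F] [Fintype F] {n q : ℕ}

local notation "Mn" => Matrix (Fin n) (Fin n) F
local notation "SLn" => Matrix.SpecialLinearGroup (Fin n) F
set_option quotPrecheck false in
local notation "SUn" => ↥(Cfsg.SU n F q)
local notation "PSUn" => Cfsg.PSU n F q

/-- The determinant on the unitary group. -/
def detU : ↥(Cfsg.GU n F q) →* Fˣ := Matrix.GeneralLinearGroup.det.comp (Cfsg.GU n F q).subtype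

theorem detU_apply (g : ↥(Cfsg.GU n F q)) : detU g = Matrix.GeneralLinearGroup.det g.1 := rfl

theorem toGL_mem_GU (s : SUn) : Matrix.SpecialLinearGroup.toGL s.1 ∈ Cfsg.GU n F q := by
  intro u v
  exact s.2 u v

theorem conjU_toGL (s : SUn) :
    conjU ⟨Matrix.SpecialLinearGroup.toGL s.1, toGL_mem_GU s⟩ = MulAut.conj (QuotientGroup.mk s : PSUn) := by
  ext x : 1
  induction x using QuotientGroup.induction_on with
  | H t =>
    rw [conjU_apply, conjN_mk, MulAut.conj_apply]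
    show _ = (QuotientGroup.mk (s * t * s⁻¹) : PSUn)
    congr 1

theorem inn_le_inndiagU : Cfsg.Inn PSUn ≤ Cfsg.inndiagPSU n F q := by
  rw [inndiagPSU_eq]
  rintro _ ⟨x, rfl⟩
  induction x using QuotientGroup.induction_on with
  | H s => exact ⟨_, conjU_toGL s⟩

theorem ker_detU_le (K : Subgroup (MulAut PSUn)) :
    (detU (n := n) (F := F) (q := q)).ker ≤ (Cfsg.Inn PSUn).comap conjU ⊔ K.comap conjU := by
  intro g hg
  apply Subgroup.mem_sup_left
  rw [MonoidHom.mem_ker, detU_apply] at hg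
  have hdet : ((g.1 : GL (Fin n) F) : Mn).det = 1 := by
    rw [← Matrix.GeneralLinearGroup.val_det_apply, hg, Units.val_one]
  set s0 : SLn := ⟨((g.1 : GL (Fin n) F) : Mn), hdet⟩ with hs0
  have hs0U : s0 ∈ Cfsg.SU n F q := by
    intro u v
    exact g.2 u v
  have hg' : g = ⟨Matrix.SpecialLinearGroup.toGL (⟨s0, hs0U⟩ : SUn).1, toGL_mem_GU _⟩ := by
    apply Subtype.ext
    apply Units.ext
    rfl
  rw [Subgroup.mem_comap, hg', conjU_toGL]
  exact ⟨_, rfl⟩

theorem card_sub_one_eq' (hF : Fintype.card F = q ^ 2) :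
    Fintype.card F - 1 = (q + 1) * (q - 1) := by
  have hq2 : 2 ≤ q := two_le_q hF
  rw [card_sub_one_eq hF (by omega), mul_comm]

/-- The determinants of the unitary matrices are the `(q - 1)`-th powers. -/
theorem range_detU (hF : Fintype.card F = q ^ 2) (hn : 0 < n) :
    (detU (n := n) (F := F) (q := q)).range = (powMonoidHom (q - 1) : Fˣ →* Fˣ).range := by
  have hq2 : 2 ≤ q := two_le_q hF
  rw [← ker_pow_eq_range_pow (card_sub_one_eq' hF) (by omega) (by omega)]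
  ext y
  constructor
  · rintro ⟨g, rfl⟩
    rw [MonoidHom.mem_ker, powMonoidHom_apply, detU_apply]
    exact Cfsg.Agent.Lib.Helper13_GU.det_unit_pow_eq_one hF g.1 g.2
  · intro hy
    rw [MonoidHom.mem_ker, powMonoidHom_apply] at hy
    refine ⟨⟨Cfsg.Agent.Lib.Helper13_GU.diagGL (Function.update (fun _ : Fin n => (1 : Fˣ)) ⟨0, hn⟩ y),
      Cfsg.Agent.Lib.Helper13_GU.diagGL_mem _ ?_⟩, ?_⟩
    · intro i
      by_cases hi : i = ⟨0, hn⟩
      · rw [hi, Function.update_self]; exact hy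
      · rw [Function.update_of_ne hi, one_pow]
    · rw [detU_apply, Cfsg.Agent.Lib.Helper13_GU.det_diagGL,
        Finset.prod_update_of_mem (Finset.mem_univ _)]
      simp

theorem scalarGL_mem_GU (hF : Fintype.card F = q ^ 2) (τ : F ≃+* F) (hτ : ∀ a, τ a = a ^ q) (c : Fˣ)
    (hc : c ^ (q + 1) = 1) : (scalarGL c : GL (Fin n) F) ∈ Cfsg.GU n F q := by
  rw [mem_GU_iff_cstar hF τ hτ, cstar_scalarGL, ← scalarGL_mul]
  have : Units.map (τ : F →* F) c * c = 1 := by
    apply Units.ext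
    rw [Units.val_mul, Units.val_one]
    show τ (c : F) * c = 1
    rw [hτ, ← pow_succ, ← Units.val_pow_eq_pow_val, hc, Units.val_one]
  rw [this, scalarGL_one]

/-- The preimage of the inner automorphisms under `conjU` has determinants the `n`-th powers of norm-one elements. -/
theorem map_detU_comap_inn (hF : Fintype.card F = q ^ 2) (hn : 3 ≤ n) (τ : F ≃+* F)
    (hτ : ∀ a, τ a = a ^ q) :
    ((Cfsg.Inn PSUn).comap (conjU (n := n) (F := F) (q := q))).map detU
      = (powMonoidHom (q - 1) : Fˣ →* Fˣ).range.map (powMonoidHom n) := by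
  have hq2 : 2 ≤ q := two_le_q hF
  have hker := ker_pow_eq_range_pow (F := F) (card_sub_one_eq' hF) (by omega : 0 < q + 1)
    (by omega : 0 < q - 1)
  rw [← hker]
  ext y
  constructor
  · rintro ⟨g, hg, rfl⟩
    obtain ⟨t, ht⟩ := hg
    induction t using QuotientGroup.induction_on with
    | H s =>
      have ht' : conjU g = conjU ⟨Matrix.SpecialLinearGroup.toGL s.1, toGL_mem_GU s⟩ := by
        rw [conjU_toGL]; exact ht.symm
      rw [conjU_apply, conjU_apply, conjN_eq_iff hF hn, mem_scalars_iff_scalarGL] at ht'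
      obtain ⟨c, hc⟩ := ht'
      have hc' : g.1 = Matrix.SpecialLinearGroup.toGL s.1 * scalarGL c := by
        rw [← hc]; group
      -- `c` has norm one
      have hcU : (scalarGL c : GL (Fin n) F) ∈ Cfsg.GU n F q := by
        rw [← hc]
        exact (Cfsg.GU n F q).mul_mem ((Cfsg.GU n F q).inv_mem (toGL_mem_GU s)) g.2
      have hc1 : c ^ (q + 1) = 1 := by
        have h1 := (mem_GU_iff_cstar hF τ hτ _).mp hcU
        rw [cstar_scalarGL, ← scalarGL_mul] at h1
        have h2 := scalarGL_injective (by omega : 0 < n) (h1.trans scalarGL_one.symm)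
        apply Units.ext
        have h3 := congrArg Units.val h2
        rw [Units.val_mul, Units.val_one] at h3
        rw [Units.val_pow_eq_pow_val, Units.val_one, pow_succ, ← hτ]
        exact h3
      refine ⟨c, ?_, ?_⟩
      · show c ∈ (powMonoidHom (q + 1) : Fˣ →* Fˣ).ker
        rw [MonoidHom.mem_ker, powMonoidHom_apply]; exact hc1
      · rw [powMonoidHom_apply, detU_apply, hc', map_mul, det_scalarGL]
        have : Matrix.GeneralLinearGroup.det (Matrix.SpecialLinearGroup.toGL s.1) = 1 := by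
          apply Units.ext
          rw [Matrix.GeneralLinearGroup.val_det_apply, Units.val_one]
          exact s.1.2
        rw [this, one_mul]
  · rintro ⟨c, hc, rfl⟩
    have hc1 : c ^ (q + 1) = 1 := by
      have : c ∈ (powMonoidHom (q + 1) : Fˣ →* Fˣ).ker := hc
      rw [MonoidHom.mem_ker, powMonoidHom_apply] at this; exact this
    refine ⟨⟨scalarGL c, scalarGL_mem_GU hF τ hτ c hc1⟩, ?_, ?_⟩
    · show conjU _ ∈ Cfsg.Inn PSUn
      rw [conjU_apply, conjN_eq_one_of_scalar _ (scalarGL_mem c)]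
      exact Subgroup.one_mem _
    · rw [detU_apply, det_scalarGL, powMonoidHom_apply]

/-- **Splitting formula** for `Inndiag(PSU_n)`-classes. -/
theorem splitClassCountU_eq (hF : Fintype.card F = q ^ 2) (hn : 3 ≤ n) (τ : F ≃+* F)
    (hτ : ∀ a, τ a = a ^ q) (x : MulAut PSUn) :
    Cfsg.splitClassCount (Cfsg.inndiagPSU n F q) (Cfsg.Inn PSUn) x =
      (((powMonoidHom (q - 1) : Fˣ →* Fˣ).range.map (powMonoidHom n) ⊔
        ((Subgroup.centralizer {x}).comap (conjU (n := n) (F := F) (q := q))).map detU).comap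
          (powMonoidHom (q - 1) : Fˣ →* Fˣ)).index := by
  classical
  have hn0 : 0 < n := by omega
  have hKH : Cfsg.Inn PSUn ≤ Cfsg.inndiagPSU n F q := inn_le_inndiagU
  have hN : ((Cfsg.Inn PSUn).subgroupOf (Cfsg.inndiagPSU n F q)).Normal := inferInstance
  rw [Cfsg.Agent.Lib.Helper14_SplitClass.splitClassCount_eq_index _ _ hKH hN x]
  let c' : ↥(Cfsg.GU n F q) →* ↥(Cfsg.inndiagPSU n F q) :=
    (conjU (n := n) (F := F) (q := q)).codRestrict (Cfsg.inndiagPSU n F q)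
      (fun g => by rw [inndiagPSU_eq]; exact ⟨g, rfl⟩)
  have hc' : Function.Surjective c' := by
    rintro ⟨β, hβ⟩
    have hβ' := hβ
    rw [inndiagPSU_eq] at hβ'
    obtain ⟨g, rfl⟩ := hβ'
    exact ⟨g, rfl⟩
  rw [← Subgroup.index_comap_of_surjective _ hc', ← Subgroup.comap_sup_eq c' _ _ hc']
  have h1 : ((Cfsg.Inn PSUn).subgroupOf (Cfsg.inndiagPSU n F q)).comap c'
      = (Cfsg.Inn PSUn).comap (conjU (n := n) (F := F) (q := q)) := by
    ext g; rfl
  have h2 : ((Subgroup.centralizer {x}).subgroupOf (Cfsg.inndiagPSU n F q)).comap c'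
      = (Subgroup.centralizer {x}).comap (conjU (n := n) (F := F) (q := q)) := by
    ext g; rfl
  rw [h1, h2]
  set H := (Cfsg.Inn PSUn).comap (conjU (n := n) (F := F) (q := q)) ⊔
    (Subgroup.centralizer {x}).comap (conjU (n := n) (F := F) (q := q)) with hH
  have hker : (detU (n := n) (F := F) (q := q)).ker ≤ H := ker_detU_le _
  have h3 : H.index = (H.map detU).relIndex (detU (n := n) (F := F) (q := q)).range := by
    have h4 := Subgroup.relIndex_map_map (detU (n := n) (F := F) (q := q)) H ⊤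
    rw [← MonoidHom.range_eq_map, sup_of_le_left hker, top_sup_eq, Subgroup.relIndex_top_right] at h4
    exact h4.symm
  rw [h3, range_detU hF hn0, ← Subgroup.index_comap, hH, Subgroup.map_sup, map_detU_comap_inn hF hn τ hτ]


/-! ### Part 2: the cyclic-group computations -/

section cyclic

theorem q_add_one_dvd (hF : Fintype.card F = q ^ 2) : q + 1 ∣ Fintype.card F - 1 := by
  rw [card_sub_one_eq' hF]
  exact Dvd.intro _ rfl

/-- The preimage under `y ↦ y ^ (q - 1)` of the `d`-th powers of norm-one elements. -/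
theorem comap_pow_map (hF : Fintype.card F = q ^ 2) (d : ℕ) :
    ((powMonoidHom (q - 1) : Fˣ →* Fˣ).range.map (powMonoidHom d)).comap
        (powMonoidHom (q - 1) : Fˣ →* Fˣ)
      = (powMonoidHom (Nat.gcd d (q + 1)) : Fˣ →* Fˣ).range := by
  have hq2 : 2 ≤ q := two_le_q hF
  have h1 : (powMonoidHom (q - 1) : Fˣ →* Fˣ).range.map (powMonoidHom d)
      = (powMonoidHom d : Fˣ →* Fˣ).range.map (powMonoidHom (q - 1)) := by
    rw [MonoidHom.range_eq_map, MonoidHom.range_eq_map, Subgroup.map_map, Subgroup.map_map]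
    congr 1
    ext x
    simp only [MonoidHom.comp_apply, powMonoidHom_apply]
    rw [← pow_mul, ← pow_mul, mul_comm]
  have hab : Fintype.card F - 1 = (q - 1) * (q + 1) := by
    rw [card_sub_one_eq' hF, mul_comm]
  rw [h1, Subgroup.comap_map_eq, ker_pow_eq_range_pow hab (by omega) (by omega), range_pow_sup]

theorem index_comap_pow_map (hF : Fintype.card F = q ^ 2) (d : ℕ) :
    (((powMonoidHom (q - 1) : Fˣ →* Fˣ).range.map (powMonoidHom d)).comap
        (powMonoidHom (q - 1) : Fˣ →* Fˣ)).index = Nat.gcd d (q + 1) := by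
  rw [comap_pow_map hF, Cfsg.Agent.Lib.Helper14_PSLSplitGraph.index_pow_range]
  exact Nat.gcd_eq_left ((Nat.gcd_dvd_right d (q + 1)).trans (q_add_one_dvd hF))

end cyclic

/-! ### Part 3: determinants of the centralizer of a graph automorphism -/

section cent

variable {K : Type*} [Field K] (D : Descent F K q)

theorem det_glι (k₀ : GL (Fin n) K) :
    Matrix.GeneralLinearGroup.det (glι D.ι k₀)
      = Units.map (D.ι : K →* F) (Matrix.GeneralLinearGroup.det k₀) :=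
  Matrix.GeneralLinearGroup.map_det _ _

/-- The determinants of the unitary matrices inducing automorphisms commuting with `gamOf P`. -/
theorem mem_map_detU_cent (hn : 3 ≤ n) {P : GL (Fin n) F} {e : Fˣ} {M₀ : GL (Fin n) K}
    (h : glι D.ι M₀ = scalarGL e * (cstar D.τ P * P)) (y : Fˣ) :
    y ∈ ((Subgroup.centralizer {gamOf (q := q) D.τ P}).comap
        (conjU (n := n) (F := F) (q := q))).map detU ↔
      ∃ (k₀ : GL (Fin n) K) (c₀ : Kˣ) (ν : Fˣ), glT k₀ * M₀ * k₀ = scalarGL c₀ * M₀ ∧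
        ν * Units.map (D.τ : F →* F) ν = Units.map (D.ι : K →* F) c₀ ∧
        y * ν ^ n = Units.map (D.ι : K →* F) (Matrix.GeneralLinearGroup.det k₀) := by
  have hn0 : 0 < n := by omega
  have hPn := mem_normSU_of_form D hn0 h
  constructor
  · rintro ⟨g, hg, rfl⟩
    rw [SetLike.mem_coe, Subgroup.mem_comap, Subgroup.mem_centralizer_singleton_iff, conjU_apply] at hg
    have h1 : conjN ⟨g.1, GU_le_normSU g.2⟩ * gamOf D.τ P * (conjN ⟨g.1, GU_le_normSU g.2⟩)⁻¹
        = gamOf (q := q) D.τ P := by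
      rw [mul_inv_eq_iff_eq_mul]; exact hg
    obtain ⟨ν, k₀, hk⟩ := (conj_gamOf_iff D hn hPn hPn _).mp h1
    have hk' : scalarGL ν * g.1 = P * glι D.ι k₀ * P⁻¹ := hk
    have hg1 : cstar D.τ g.1 * g.1 = 1 := (mem_GU_iff_cstar D.hF D.τ D.hτ g.1).mp g.2
    have hs : cstar D.τ (P * glι D.ι k₀ * P⁻¹) * (P * glι D.ι k₀ * P⁻¹)
        = scalarGL (Units.map (D.τ : F →* F) ν * ν) := by
      rw [← hk', cstar_mul, cstar_scalarGL, mul_assoc, ← mul_assoc (scalarGL _) (scalarGL ν), ← scalarGL_mul,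
        scalarGL_comm, ← mul_assoc, hg1, one_mul]
    have h3 := (sim_conj_iff D h h k₀ _).mp hs
    obtain ⟨c₀, hc₀⟩ := descend_scalar D hn0 _ _ _ h3
    refine ⟨k₀, c₀, ν, hc₀, ?_, ?_⟩
    · rw [hc₀, map_mul, glι_scalarGL] at h3
      have h4 := scalarGL_injective hn0 (mul_right_cancel h3)
      rw [h4, mul_assoc, mul_inv_cancel, mul_one, mul_comm]
    · have h5 := congrArg Matrix.GeneralLinearGroup.det hk'
      rw [map_mul, map_mul, map_mul, map_inv, det_scalarGL, det_glι, mul_comm _ (Matrix.GeneralLinearGroup.det P)⁻¹,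
        ← mul_assoc, inv_mul_cancel, one_mul] at h5
      rw [detU_apply, mul_comm]
      exact h5
  · rintro ⟨k₀, c₀, ν, hk, hν, hy⟩
    set X := P * glι D.ι k₀ * P⁻¹ with hX
    have hXs : cstar D.τ X * X = scalarGL (Units.map (D.ι : K →* F) c₀) := by
      rw [hX, sim_conj_iff D h h k₀, hk, map_mul, glι_scalarGL, mul_assoc, mul_inv_cancel, mul_one]
    set u := scalarGL ν⁻¹ * X with hu
    have huU : u ∈ Cfsg.GU n F q := by
      rw [mem_GU_iff_cstar D.hF D.τ D.hτ, hu, cstar_mul, cstar_scalarGL, mul_assoc,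
        ← mul_assoc (scalarGL _) (scalarGL ν⁻¹), ← scalarGL_mul, scalarGL_comm, ← mul_assoc, hXs, ← scalarGL_mul,
        ← hν, map_inv]
      have : ν * (Units.map (D.τ : F →* F)) ν * ((Units.map (D.τ : F →* F)) ν)⁻¹ * ν⁻¹ = 1 := by
        rw [mul_inv_cancel_right, mul_inv_cancel]
      rw [show ν * (Units.map (D.τ : F →* F)) ν * (((Units.map (D.τ : F →* F)) ν)⁻¹ * ν⁻¹)
        = ν * (Units.map (D.τ : F →* F)) ν * ((Units.map (D.τ : F →* F)) ν)⁻¹ * ν⁻¹ by rw [mul_assoc, mul_assoc, mul_assoc],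
        this, scalarGL_one]
    refine ⟨⟨u, huU⟩, ?_, ?_⟩
    · show conjU ⟨u, huU⟩ ∈ Subgroup.centralizer {gamOf (q := q) D.τ P}
      rw [Subgroup.mem_centralizer_singleton_iff, conjU_apply]
      have h1 := (conj_gamOf_iff D hn hPn hPn ⟨u, GU_le_normSU huU⟩).mpr ⟨ν, k₀, by
        show scalarGL ν * u = _
        rw [hu, ← mul_assoc, ← scalarGL_mul, mul_inv_cancel, scalarGL_one, one_mul]⟩
      rw [mul_inv_eq_iff_eq_mul] at h1
      exact h1
    · rw [detU_apply]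
      show Matrix.GeneralLinearGroup.det u = y
      rw [hu, map_mul, det_scalarGL, hX, map_mul, map_mul, map_inv, det_glι,
        mul_comm _ (Matrix.GeneralLinearGroup.det P)⁻¹, ← mul_assoc (Matrix.GeneralLinearGroup.det P)⁻¹,
        inv_mul_cancel, one_mul, ← hy, inv_pow, mul_comm y, inv_mul_cancel_left]

end cent


/-! ### Part 4: the counts -/

section grp

variable {C : Type*} [CommGroup C]

theorem sq_eq_of_mul {y ν a : C} {n : ℕ} (h : (y * ν ^ n) ^ 2 = (ν ^ 2 * a) ^ n) : y ^ 2 = a ^ n := by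
  rw [mul_pow, mul_pow, ← pow_mul, ← pow_mul, mul_comm n 2, mul_comm (ν ^ (2 * n))] at h
  exact mul_right_cancel h

theorem eq_of_mul {y ν a : C} {r : ℕ} (h : y * ν ^ (2 * r) = (ν ^ 2 * a) ^ r) : y = a ^ r := by
  rw [mul_pow, ← pow_mul, mul_comm (ν ^ (2 * r))] at h
  exact mul_right_cancel h

theorem pow_eq_self_of_sq {b a : C} {n r : ℕ} (hn : n = 2 * r + 1) (h : b ^ 2 = a ^ n) :
    (b * (a⁻¹) ^ r) ^ n = b := by
  have h1 : ((a⁻¹) ^ r) ^ n = ((b ^ 2) ^ r)⁻¹ := by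
    rw [h, ← pow_mul, ← pow_mul, inv_pow, mul_comm]
  rw [mul_pow, h1, hn, pow_succ, pow_mul, mul_comm _ b, mul_assoc, mul_inv_cancel, mul_one]

end grp

section count

variable {K : Type*} [Field K] (D : Descent F K q)

local notation "Kn" => Matrix (Fin n) (Fin n) K

theorem map_τ_unit (ν : Fˣ) : Units.map (D.τ : F →* F) ν = ν ^ q := by
  apply Units.ext
  rw [Units.val_pow_eq_pow_val]
  exact D.hτ _

theorem norm_unit_eq (ν : Fˣ) :
    ν * Units.map (D.τ : F →* F) ν = ν ^ 2 * (powMonoidHom (q - 1) : Fˣ →* Fˣ) ν := by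
  have hq := D.hq
  rw [map_τ_unit, powMonoidHom_apply, ← pow_succ', ← pow_add]
  congr 1
  omega

/-- Every element `ν τ(ν)` comes from the fixed field. -/
theorem exists_norm_unit (ν : Fˣ) :
    ∃ c₀ : Kˣ, ν * Units.map (D.τ : F →* F) ν = Units.map (D.ι : K →* F) c₀ := by
  have h1 : D.τ ((ν : F) * D.τ (ν : F)) = (ν : F) * D.τ (ν : F) := by
    rw [map_mul, D.hττ, mul_comm]
  obtain ⟨y, hy⟩ := D.hι2 _ h1
  have hy0 : y ≠ 0 := by
    rintro rfl
    rw [map_zero] at hy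
    have h2 : (ν : F) * D.τ (ν : F) ≠ 0 :=
      mul_ne_zero ν.ne_zero ((map_ne_zero_iff _ D.τ.injective).mpr ν.ne_zero)
    exact h2 hy.symm
  refine ⟨Units.mk0 y hy0, Units.ext ?_⟩
  rw [Units.val_mul]
  exact hy.symm

theorem det_ne_zero_GL (M : GL (Fin n) K) : ((M : GL (Fin n) K) : Kn).det ≠ 0 := by
  have : IsUnit ((M : GL (Fin n) K) : Kn).det := (Matrix.isUnit_iff_isUnit_det _).mp M.isUnit
  exact this.ne_zero

theorem det_sq_of_simGL (M₀ k₀ : GL (Fin n) K) (c₀ : Kˣ) (hk : glT k₀ * M₀ * k₀ = scalarGL c₀ * M₀) :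
    (Matrix.GeneralLinearGroup.det k₀) ^ 2 = c₀ ^ n := by
  apply Units.ext
  rw [Units.val_pow_eq_pow_val, Units.val_pow_eq_pow_val, Matrix.GeneralLinearGroup.val_det_apply]
  exact Cfsg.Agent.Lib.Helper14_SimDet.det_sq_of_sim (det_ne_zero_GL M₀) ((congr_GL_iff _ _ _ _).mp hk)

/-- The square of the determinant of a centralizing unitary matrix. -/
theorem sq_of_mem_cent (hn : 3 ≤ n) {P : GL (Fin n) F} {e : Fˣ} {M₀ : GL (Fin n) K}
    (h : glι D.ι M₀ = scalarGL e * (cstar D.τ P * P)) {y : Fˣ}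
    (hy : y ∈ ((Subgroup.centralizer {gamOf (q := q) D.τ P}).comap
        (conjU (n := n) (F := F) (q := q))).map detU) :
    ∃ ν : Fˣ, y ^ 2 = ((powMonoidHom (q - 1) : Fˣ →* Fˣ) ν) ^ n := by
  obtain ⟨k₀, c₀, ν, hk, hν, hy'⟩ := (mem_map_detU_cent D hn h y).mp hy
  refine ⟨ν, ?_⟩
  apply sq_eq_of_mul (ν := ν)
  rw [hy', ← map_pow, det_sq_of_simGL M₀ k₀ c₀ hk, map_pow, ← hν, norm_unit_eq]

/-- **Odd dimension**: the class splits into `gcd(n, q + 1)` classes. -/
theorem count_odd (hn : 3 ≤ n) {r : ℕ} (hnr : n = 2 * r + 1) {γ : MulAut PSUn} {M₀ : GL (Fin n) K}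
    (hγ : Rel D γ M₀) :
    Cfsg.splitClassCount (Cfsg.inndiagPSU n F q) (Cfsg.Inn PSUn) γ = Nat.gcd n (q + 1) := by
  have hn0 : 0 < n := by omega
  obtain ⟨P, e, h, rfl⟩ := hγ
  rw [splitClassCountU_eq D.hF hn D.τ D.hτ, sup_of_le_left, index_comap_pow_map D.hF]
  intro y hy
  have hyr : y ∈ (detU (n := n) (F := F) (q := q)).range := Subgroup.map_le_range _ _ hy
  rw [range_detU D.hF hn0] at hyr
  obtain ⟨w, rfl⟩ := hyr
  obtain ⟨ν, hν⟩ := sq_of_mem_cent D hn h hy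
  refine ⟨(powMonoidHom (q - 1) : Fˣ →* Fˣ) (w * (ν⁻¹) ^ r), ⟨_, rfl⟩, ?_⟩
  rw [map_mul, map_pow, map_inv, powMonoidHom_apply n]
  exact pow_eq_self_of_sq hnr hν

/-- **Even dimension, determinants determined by the multiplier**: `gcd(n/2, q + 1)` classes. -/
theorem count_of_det_pow (hn : 3 ≤ n) {r : ℕ} (hnr : n = 2 * r) {γ : MulAut PSUn} {M₀ : GL (Fin n) K}
    (hγ : Rel D γ M₀)
    (H1 : ∀ (k₀ : GL (Fin n) K) (c₀ : Kˣ), glT k₀ * M₀ * k₀ = scalarGL c₀ * M₀ →
      Matrix.GeneralLinearGroup.det k₀ = c₀ ^ r)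
    (H2 : ∀ c₀ : Kˣ, ∃ k₀ : GL (Fin n) K, glT k₀ * M₀ * k₀ = scalarGL c₀ * M₀) :
    Cfsg.splitClassCount (Cfsg.inndiagPSU n F q) (Cfsg.Inn PSUn) γ = Nat.gcd r (q + 1) := by
  have hn0 : 0 < n := by omega
  obtain ⟨P, e, h, rfl⟩ := hγ
  have hA2 : ((Subgroup.centralizer {gamOf (q := q) D.τ P}).comap
        (conjU (n := n) (F := F) (q := q))).map detU
      = (powMonoidHom (q - 1) : Fˣ →* Fˣ).range.map (powMonoidHom r) := by
    ext y
    rw [mem_map_detU_cent D hn h]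
    constructor
    · rintro ⟨k₀, c₀, ν, hk, hν, hy⟩
      refine ⟨(powMonoidHom (q - 1) : Fˣ →* Fˣ) ν, ⟨_, rfl⟩, ?_⟩
      rw [powMonoidHom_apply r]
      symm
      apply eq_of_mul (ν := ν)
      rw [← hnr, hy, H1 k₀ c₀ hk, map_pow, ← hν, norm_unit_eq]
    · rintro ⟨_, ⟨ν, rfl⟩, rfl⟩
      obtain ⟨c₀, hc₀⟩ := exists_norm_unit D ν
      obtain ⟨k₀, hk⟩ := H2 c₀
      refine ⟨k₀, c₀, ν, hk, hc₀, ?_⟩
      rw [H1 k₀ c₀ hk, map_pow, ← hc₀, norm_unit_eq, powMonoidHom_apply r, mul_pow, ← pow_mul, ← hnr, mul_comm]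
  have hA1 : (powMonoidHom (q - 1) : Fˣ →* Fˣ).range.map (powMonoidHom n)
      ≤ (powMonoidHom (q - 1) : Fˣ →* Fˣ).range.map (powMonoidHom r) := by
    rintro _ ⟨_, ⟨z, rfl⟩, rfl⟩
    refine ⟨(powMonoidHom (q - 1) : Fˣ →* Fˣ) (z ^ 2), ⟨_, rfl⟩, ?_⟩
    rw [map_pow, powMonoidHom_apply r, powMonoidHom_apply n, ← pow_mul, hnr]
  rw [splitClassCountU_eq D.hF hn D.τ D.hτ, hA2, sup_of_le_right hA1, index_comap_pow_map D.hF]

/-- **Alternating type**: `gcd(n/2, q + 1)` classes. -/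
theorem count_alt (hn : 3 ≤ n) {r : ℕ} (hnr : n = 2 * r) {γ : MulAut PSUn} {M₀ : GL (Fin n) K}
    (hγ : Rel D γ M₀) (hM : ∀ v, bilOf ((M₀ : GL (Fin n) K) : Kn) v v = 0) :
    Cfsg.splitClassCount (Cfsg.inndiagPSU n F q) (Cfsg.Inn PSUn) γ = Nat.gcd r (q + 1) := by
  have hd := det_ne_zero_GL M₀
  apply count_of_det_pow D hn hnr hγ
  · intro k₀ c₀ hk
    apply Units.ext
    rw [Units.val_pow_eq_pow_val, Matrix.GeneralLinearGroup.val_det_apply]
    exact Cfsg.Agent.Lib.Helper14_SimDet.det_of_sim_alt hnr hM hd c₀.ne_zero ((congr_GL_iff _ _ _ _).mp hk)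
  · intro c₀
    obtain ⟨k, hk⟩ := Cfsg.Agent.Lib.Helper14_SimDet.exists_sim_alt hnr hM hd c₀.ne_zero
    exact ⟨k, (congr_GL_iff _ _ _ _).mpr hk⟩

/-- **Characteristic two, even dimension**: `gcd(n/2, q + 1)` classes. -/
theorem count_char_two (hn : 3 ≤ n) [Fintype K] [CharP K 2] {r : ℕ} (hnr : n = 2 * r) {γ : MulAut PSUn}
    {M₀ : GL (Fin n) K} (hγ : Rel D γ M₀) :
    Cfsg.splitClassCount (Cfsg.inndiagPSU n F q) (Cfsg.Inn PSUn) γ = Nat.gcd r (q + 1) := by
  apply count_of_det_pow D hn hnr hγ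
  · intro k₀ c₀ hk
    have h1 : (Matrix.GeneralLinearGroup.det k₀) ^ 2 = (c₀ ^ r) ^ 2 := by
      rw [det_sq_of_simGL M₀ k₀ c₀ hk, ← pow_mul]
      congr 1
      omega
    rcases Units.eq_or_eq_neg_of_sq_eq_sq _ _ h1 with h2 | h2
    · exact h2
    · rw [h2]
      apply Units.ext
      rw [Units.val_neg, CharTwo.neg_eq]
  · intro c₀
    obtain ⟨s, hs⟩ := FiniteField.isSquare_of_char_two (ringChar.eq K 2) (c₀ : K)
    have hs0 : s ≠ 0 := by
      rintro rfl
      rw [mul_zero] at hs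
      exact c₀.ne_zero hs
    refine ⟨scalarGL (Units.mk0 s hs0), ?_⟩
    rw [glT_scalarGL, scalarGL_comm _ M₀, mul_assoc, ← scalarGL_mul, ← scalarGL_comm]
    congr 2
    apply Units.ext
    rw [Units.val_mul, Units.val_mk0]
    exact hs.symm


theorem units_map_neg (u : Kˣ) : Units.map (D.ι : K →* F) (-u) = -Units.map (D.ι : K →* F) u := by
  apply Units.ext
  rw [Units.val_neg]
  show D.ι (-(u : K)) = -D.ι (u : K)
  exact map_neg _ _

/-- Similarities of a symmetric form of even dimension (odd characteristic) with prescribed multiplier and either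
sign of the determinant. -/
theorem exists_sim_det_pm [Fintype K] (hn0 : 0 < n) {r : ℕ} (hnr : n = 2 * r) (h2 : (2 : K) ≠ 0)
    (M₀ : GL (Fin n) K) (hM : ((M₀ : GL (Fin n) K) : Kn)ᵀ = ((M₀ : GL (Fin n) K) : Kn)) (c₀ : Kˣ) :
    (∃ k₀ : GL (Fin n) K, glT k₀ * M₀ * k₀ = scalarGL c₀ * M₀ ∧
        Matrix.GeneralLinearGroup.det k₀ = c₀ ^ r) ∧
      (∃ k₀ : GL (Fin n) K, glT k₀ * M₀ * k₀ = scalarGL c₀ * M₀ ∧
        Matrix.GeneralLinearGroup.det k₀ = -c₀ ^ r) := by
  have hd := det_ne_zero_GL M₀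
  obtain ⟨k, hk⟩ := Cfsg.Agent.Lib.Helper14_SimDet.exists_sim_sym h2 hnr hM hd c₀.ne_zero
  obtain ⟨R, hR, hRdet⟩ := Cfsg.Agent.Lib.Helper14_SimDet.exists_iso_det_neg_one h2 hn0 hM hd
  have hk' : glT k * M₀ * k = scalarGL c₀ * M₀ := (congr_GL_iff _ _ _ _).mpr hk
  have hRk : glT (R * k) * M₀ * (R * k) = scalarGL c₀ * M₀ := by
    rw [congr_GL_iff, Units.val_mul, ← hk]
    calc (((R : GL (Fin n) K) : Kn) * ((k : GL (Fin n) K) : Kn))ᵀ * ((M₀ : GL (Fin n) K) : Kn) *
          (((R : GL (Fin n) K) : Kn) * ((k : GL (Fin n) K) : Kn))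
        = ((k : GL (Fin n) K) : Kn)ᵀ * (((R : GL (Fin n) K) : Kn)ᵀ * ((M₀ : GL (Fin n) K) : Kn) *
            ((R : GL (Fin n) K) : Kn)) * ((k : GL (Fin n) K) : Kn) := by
          simp only [Matrix.transpose_mul, Matrix.mul_assoc]
      _ = ((k : GL (Fin n) K) : Kn)ᵀ * ((M₀ : GL (Fin n) K) : Kn) * ((k : GL (Fin n) K) : Kn) := by rw [hR]
  have hdetR : Matrix.GeneralLinearGroup.det R = -1 := by
    apply Units.ext
    rw [Matrix.GeneralLinearGroup.val_det_apply, hRdet, Units.val_neg, Units.val_one]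
  have h1 : (Matrix.GeneralLinearGroup.det k) ^ 2 = (c₀ ^ r) ^ 2 := by
    rw [det_sq_of_simGL M₀ k c₀ hk', ← pow_mul]
    congr 1
    omega
  rcases Units.eq_or_eq_neg_of_sq_eq_sq _ _ h1 with h | h
  · exact ⟨⟨k, hk', h⟩, ⟨R * k, hRk, by rw [map_mul, hdetR, h, neg_one_mul]⟩⟩
  · exact ⟨⟨R * k, hRk, by rw [map_mul, hdetR, h, neg_one_mul, neg_neg]⟩, ⟨k, hk', h⟩⟩

/-- In the symmetric case, `± (z ^ (q - 1)) ^ r` are determinants of centralizing unitary matrices. -/
theorem pm_mem_cent [Fintype K] (hn : 3 ≤ n) {r : ℕ} (hnr : n = 2 * r) (h2 : (2 : K) ≠ 0)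
    {P : GL (Fin n) F} {e : Fˣ} {M₀ : GL (Fin n) K}
    (h : glι D.ι M₀ = scalarGL e * (cstar D.τ P * P))
    (hM : ((M₀ : GL (Fin n) K) : Kn)ᵀ = ((M₀ : GL (Fin n) K) : Kn)) (z : Fˣ) :
    ((powMonoidHom (q - 1) : Fˣ →* Fˣ) z) ^ r ∈ ((Subgroup.centralizer {gamOf (q := q) D.τ P}).comap
        (conjU (n := n) (F := F) (q := q))).map detU ∧
      -((powMonoidHom (q - 1) : Fˣ →* Fˣ) z) ^ r ∈ ((Subgroup.centralizer {gamOf (q := q) D.τ P}).comap
        (conjU (n := n) (F := F) (q := q))).map detU := by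
  have hn0 : 0 < n := by omega
  obtain ⟨c₀, hc₀⟩ := exists_norm_unit D z
  obtain ⟨⟨k₁, hk₁, hd₁⟩, ⟨k₂, hk₂, hd₂⟩⟩ := exists_sim_det_pm (n := n) hn0 hnr h2 M₀ hM c₀
  have hcomp : ((powMonoidHom (q - 1) : Fˣ →* Fˣ) z) ^ r * z ^ n
      = (Units.map (D.ι : K →* F) c₀) ^ r := by
    rw [← hc₀, norm_unit_eq, mul_pow, ← pow_mul, ← hnr, mul_comm]
  constructor
  · rw [mem_map_detU_cent D hn h]
    exact ⟨k₁, c₀, z, hk₁, hc₀, by rw [hd₁, map_pow, hcomp]⟩
  · rw [mem_map_detU_cent D hn h]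
    exact ⟨k₂, c₀, z, hk₂, hc₀, by rw [hd₂, units_map_neg, map_pow, neg_mul, hcomp]⟩

/-- **Symmetric type, even dimension, odd characteristic**: `gcd(n, q + 1) / 2` classes. -/
theorem count_sym [Fintype K] (hn : 3 ≤ n) {r : ℕ} (hnr : n = 2 * r) (h2 : (2 : K) ≠ 0) (hodd : Odd q)
    {γ : MulAut PSUn} {M₀ : GL (Fin n) K} (hγ : Rel D γ M₀)
    (hM : ((M₀ : GL (Fin n) K) : Kn)ᵀ = ((M₀ : GL (Fin n) K) : Kn)) :
    Cfsg.splitClassCount (Cfsg.inndiagPSU n F q) (Cfsg.Inn PSUn) γ = Nat.gcd n (q + 1) / 2 := by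
  have hn0 : 0 < n := by omega
  obtain ⟨P, e, h, rfl⟩ := hγ
  have hkey : ((powMonoidHom (q - 1) : Fˣ →* Fˣ).range.map (powMonoidHom n) ⊔
        ((Subgroup.centralizer {gamOf (q := q) D.τ P}).comap
          (conjU (n := n) (F := F) (q := q))).map detU).comap (powMonoidHom (q - 1) : Fˣ →* Fˣ)
      = ((powMonoidHom (Nat.gcd n (q + 1)) : Fˣ →* Fˣ).range).comap (powMonoidHom 2 : Fˣ →* Fˣ) := by
    rw [← comap_pow_map D.hF n]
    apply le_antisymm
    · have hle : (powMonoidHom (q - 1) : Fˣ →* Fˣ).range.map (powMonoidHom n) ⊔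
          ((Subgroup.centralizer {gamOf (q := q) D.τ P}).comap
            (conjU (n := n) (F := F) (q := q))).map detU
          ≤ ((powMonoidHom (q - 1) : Fˣ →* Fˣ).range.map (powMonoidHom n)).comap
            (powMonoidHom 2 : Fˣ →* Fˣ) := by
        apply sup_le
        · intro a ha
          rw [Subgroup.mem_comap, powMonoidHom_apply]
          exact Subgroup.pow_mem _ ha 2
        · intro b hb
          rw [Subgroup.mem_comap, powMonoidHom_apply]
          obtain ⟨ν, hν⟩ := sq_of_mem_cent D hn h hb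
          rw [hν]
          exact ⟨(powMonoidHom (q - 1) : Fˣ →* Fˣ) ν, ⟨ν, rfl⟩, rfl⟩
      intro x hx
      rw [Subgroup.mem_comap] at hx
      have h3 := hle hx
      rw [Subgroup.mem_comap, powMonoidHom_apply 2] at h3
      rw [Subgroup.mem_comap, Subgroup.mem_comap, powMonoidHom_apply 2, map_pow]
      exact h3
    · intro x hx
      rw [Subgroup.mem_comap, Subgroup.mem_comap, powMonoidHom_apply 2, map_pow] at hx
      obtain ⟨_, ⟨z, rfl⟩, hz⟩ := hx
      rw [powMonoidHom_apply n] at hz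
      have hz' : ((powMonoidHom (q - 1) : Fˣ →* Fˣ) x) ^ 2
          = (((powMonoidHom (q - 1) : Fˣ →* Fˣ) z) ^ r) ^ 2 := by
        rw [← hz, ← pow_mul]
        congr 1
        omega
      rw [Subgroup.mem_comap]
      apply Subgroup.mem_sup_right
      obtain ⟨hp, hm⟩ := pm_mem_cent D hn hnr h2 h hM z
      rcases Units.eq_or_eq_neg_of_sq_eq_sq _ _ hz' with h4 | h4
      · rw [h4]; exact hp
      · rw [h4]; exact hm
  rw [splitClassCountU_eq D.hF hn D.τ D.hτ, hkey]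
  have hoddF : Odd (Fintype.card F) := by rw [D.hF]; exact hodd.pow
  have h2g : 2 ∣ Nat.gcd n (q + 1) := by
    apply Nat.dvd_gcd
    · exact ⟨r, hnr⟩
    · obtain ⟨t, ht⟩ := hodd
      exact ⟨t + 1, by omega⟩
  have hg2 : Nat.gcd n (q + 1) = 2 * (Nat.gcd n (q + 1) / 2) := (Nat.mul_div_cancel' h2g).symm
  rw [Cfsg.Agent.Lib.Helper14_PSLSplitGraph.index_comap_sq hg2 hoddF]
  congr 1
  exact Nat.gcd_eq_left ((Nat.gcd_dvd_right n (q + 1)).trans (q_add_one_dvd D.hF))

end count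

end Cfsg.Agent.Lib.Helper14_PSUSplit
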