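import Mathlib
import Cfsg.Agent.Lib.Helper14_PSUSplit
import Cfsg.Agent.Lib.Helper5_SUCenter
import Cfsg.Agent.Lib.Helper42_AutPSL2
import Cfsg.Prelude.Def_KGroupFacts

/-!
# Order and outer structure of `Aut (PSU_n(q))`, given the factorisation (helper45)

Everything here is relative to the hypothesis `Fac n F q`: every automorphism of `PSU_n` is
`conjU g * fieldU σ` (a unitary conjugation times an entrywise field automorphism); this is the content of
the Dieudonne-type theorem for the unitary groups.  From it: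

* `DDU_normal`: the inner-diagonal group `conjU.range` is normal in `Aut (PSU_n)`;
* `ThetaU` : `RingAut F ≃ Aut / Inndiag`;
* `card_DDU` : `|Inndiag| = gcd(n, q + 1) * |PSU_n|`;
* `card_aut` : `|Aut| = gcd(n, q + 1) * 2f * |PSU_n|`;
* `out_structure` : `Out` maps onto `Z/2f` with cyclic kernel of order `gcd(n, q + 1)`.
-/

set_option autoImplicit false
set_option linter.unusedSectionVars false
set_option linter.unusedVariables false

namespace Cfsg.Agent.Lib.Helper45_PSUOut

open Matrix Cfsg.Agent.Lib.Helper14_PSLAut Cfsg.Agent.Lib.Helper14_FieldAutPSL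
  Cfsg.Agent.Lib.Helper14_Char2Groups Cfsg.Agent.Lib.Helper14_PSUAut Cfsg.Agent.Lib.Helper13_Herm
  Cfsg.Agent.Lib.Helper14_PSUKer Cfsg.Agent.Lib.Helper14_PSUStar Cfsg.Agent.Lib.Helper14_PSUSplit

variable {F : Type*} [Field F] {n q : ℕ}

local notation "Mn" => Matrix (Fin n) (Fin n) F
local notation "SLn" => Matrix.SpecialLinearGroup (Fin n) F
set_option quotPrecheck false in
local notation "SUn" => ↥(Cfsg.SU n F q)
local notation "PSUn" => Cfsg.PSU n F q

/-- The factorisation property: every automorphism of `PSU_n` is a unitary conjugation times a standard field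
automorphism. -/
def Fac (n : ℕ) (F : Type*) [Field F] (q : ℕ) : Prop :=
  ∀ β : MulAut (Cfsg.PSU n F q), ∃ (g : ↥(Cfsg.GU n F q)) (σ : F ≃+* F), β = conjU g * fieldU σ

/-- The factorisation in the form of the Prelude predicates gives `Fac`. -/
theorem fac_of_statement
    (h : ∀ β : MulAut (Cfsg.PSU n F q), ∃ (δ φ : MulAut (Cfsg.PSU n F q)) (σ : F ≃+* F),
      Cfsg.IsInnerDiagonalAutPSU δ ∧ Cfsg.IsFieldAutPSUOf σ φ ∧ β = δ * φ) : Fac n F q := by
  intro β
  obtain ⟨δ, φ, σ, hδ, hφ, rfl⟩ := h β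
  obtain ⟨g, rfl⟩ := (isInnerDiagonalPSU_iff δ).mp hδ
  rw [(isFieldAutPSUOf_iff σ φ).mp hφ]
  exact ⟨g, σ, rfl⟩

/-! ### Field automorphisms preserve the unitary group -/

theorem glMap_mem_GU (σ : F ≃+* F) (g : GL (Fin n) F) (hg : g ∈ Cfsg.GU n F q) :
    glMap σ g ∈ Cfsg.GU n F q := by
  intro u v
  have hu : u = fun i => σ (σ.symm (u i)) := by funext i; simp
  have hv : v = fun i => σ (σ.symm (v i)) := by funext i; simp
  show Cfsg.hermForm n F q (((glMap σ g : GL (Fin n) F) : Mn) *ᵥ u)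
    (((glMap σ g : GL (Fin n) F) : Mn) *ᵥ v) = Cfsg.hermForm n F q u v
  rw [glMap_coe]
  conv_lhs => rw [hu, hv]
  rw [map_mulVec, map_mulVec, hermForm_map]
  have h1 := hg (fun i => σ.symm (u i)) (fun i => σ.symm (v i))
  have h2 : Cfsg.hermForm n F q ((g : Mn) *ᵥ fun i => σ.symm (u i))
      ((g : Mn) *ᵥ fun i => σ.symm (v i))
      = Cfsg.hermForm n F q (fun i => σ.symm (u i)) (fun i => σ.symm (v i)) := h1
  rw [h2, ← hermForm_map, ← hu, ← hv]

/-- Entrywise field automorphism on the unitary group. -/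
def mapU (σ : F ≃+* F) : ↥(Cfsg.GU n F q) →* ↥(Cfsg.GU n F q) :=
  ((glMap σ).comp (Cfsg.GU n F q).subtype).codRestrict (Cfsg.GU n F q)
    (fun x => glMap_mem_GU σ x.1 x.2)

theorem mapU_coe (σ : F ≃+* F) (g : ↥(Cfsg.GU n F q)) : (mapU σ g).1 = glMap σ g.1 := rfl

theorem fieldU_conjU (σ : F ≃+* F) (g : ↥(Cfsg.GU n F q)) :
    fieldU σ * conjU g * (fieldU σ)⁻¹ = conjU (mapU σ g) := by
  rw [conjU_apply, fieldU_conj, conjU_apply]
  rfl

/-! ### The inner-diagonal group is normal -/

/-- The inner-diagonal group `Inndiag(PSU_n)` as the range of `conjU`. -/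
def DDU (n : ℕ) (F : Type*) [Field F] (q : ℕ) : Subgroup (MulAut (Cfsg.PSU n F q)) :=
  (conjU (n := n) (F := F) (q := q)).range

theorem conjU_mem_DDU (g : ↥(Cfsg.GU n F q)) : conjU g ∈ DDU n F q := ⟨g, rfl⟩

theorem DDU_eq_inndiag : DDU n F q = Cfsg.inndiagPSU n F q := inndiagPSU_eq.symm

theorem DDU_normal (hfac : Fac n F q) : (DDU n F q).Normal := by
  constructor
  rintro _ ⟨h, rfl⟩ β
  obtain ⟨g, σ, rfl⟩ := hfac β
  refine ⟨g * mapU σ h * g⁻¹, ?_⟩
  rw [map_mul, map_mul, map_inv, ← fieldU_conjU]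
  group

/-! ### The quotient by the inner-diagonal group -/

section quot

variable [hN : (DDU n F q).Normal]

/-- Field automorphisms modulo inner-diagonal automorphisms. -/
def ThetaU : RingAut F →* MulAut (Cfsg.PSU n F q) ⧸ DDU n F q :=
  (QuotientGroup.mk' (DDU n F q)).comp fieldU

theorem ThetaU_apply (σ : RingAut F) :
    ThetaU (n := n) (q := q) σ = QuotientGroup.mk (fieldU σ) := rfl

theorem ThetaU_surjective (hfac : Fac n F q) : Function.Surjective (ThetaU (n := n) (F := F) (q := q)) := by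
  intro x
  obtain ⟨β, rfl⟩ := QuotientGroup.mk_surjective x
  obtain ⟨g, σ, rfl⟩ := hfac β
  refine ⟨σ, ?_⟩
  rw [ThetaU_apply, QuotientGroup.mk_mul _ (conjU g),
    (QuotientGroup.eq_one_iff (conjU g)).mpr (conjU_mem_DDU g), one_mul]

theorem ThetaU_injective [Fintype F] (hF : Fintype.card F = q ^ 2) (hn : 3 ≤ n) :
    Function.Injective (ThetaU (n := n) (F := F) (q := q)) := by
  rw [injective_iff_map_eq_one]
  intro σ h
  rw [ThetaU_apply, QuotientGroup.eq_one_iff] at h
  obtain ⟨g, hg⟩ := h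
  rw [conjU_apply] at hg
  exact (eq_one_and_scalar_of_conjN_eq_fieldU hF hn _ σ hg).1

end quot

/-! ### The kernel of `conjU` and the order of the inner-diagonal group -/

section card

variable [Fintype F]

/-- The `q`-th power map as a field automorphism. -/
def tauQ (hF : Fintype.card F = q ^ 2) : F ≃+* F where
  toFun x := x ^ q
  invFun x := x ^ q
  left_inv x := pow_q_pow_q hF x
  right_inv x := pow_q_pow_q hF x
  map_mul' x y := mul_pow x y q
  map_add' x y := add_pow_q hF x y

theorem tauQ_apply (hF : Fintype.card F = q ^ 2) (a : F) : tauQ hF a = a ^ q := rfl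

/-- The unitary scalars. -/
def scalarU (hF : Fintype.card F = q ^ 2) :
    ↥(powMonoidHom (q + 1) : Fˣ →* Fˣ).ker → ↥(conjU (n := n) (F := F) (q := q)).ker := fun c =>
  ⟨⟨scalarGL c.1, scalarGL_mem_GU hF (tauQ hF) (tauQ_apply hF) c.1 (by
      have := c.2
      rw [MonoidHom.mem_ker, powMonoidHom_apply] at this
      exact this)⟩, by
    rw [MonoidHom.mem_ker, conjU_apply]
    exact conjN_eq_one_of_scalar _ (scalarGL_mem c.1)⟩

theorem scalarU_bijective (hF : Fintype.card F = q ^ 2) (hn : 3 ≤ n) :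
    Function.Bijective (scalarU (n := n) (F := F) (q := q) hF) := by
  have hn0 : 0 < n := by omega
  constructor
  · intro c d h
    have h1 : (scalarGL c.1 : GL (Fin n) F) = scalarGL d.1 := by
      have := congrArg (fun x : ↥(conjU (n := n) (F := F) (q := q)).ker => (x.1.1 : GL (Fin n) F)) h
      exact this
    exact Subtype.ext (scalarGL_injective hn0 h1)
  · rintro ⟨g, hg⟩
    rw [MonoidHom.mem_ker, conjU_apply, conjN_eq_one_iff hF hn, mem_scalars_iff_scalarGL] at hg
    obtain ⟨c, hc⟩ := hg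
    have hc' : (scalarGL c : GL (Fin n) F) = g.1 := hc.symm
    have hcU : (scalarGL c : GL (Fin n) F) ∈ Cfsg.GU n F q := by rw [hc']; exact g.2
    have hc1 : c ^ (q + 1) = 1 := by
      have h1 := (mem_GU_iff_cstar hF (tauQ hF) (tauQ_apply hF) _).mp hcU
      rw [cstar_scalarGL, ← scalarGL_mul] at h1
      have h2 := scalarGL_injective hn0 (h1.trans scalarGL_one.symm)
      apply Units.ext
      have h3 := congrArg Units.val h2
      rw [Units.val_mul, Units.val_one] at h3
      rw [Units.val_pow_eq_pow_val, Units.val_one, pow_succ, ← tauQ_apply hF]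
      exact h3
    refine ⟨⟨c, by rw [MonoidHom.mem_ker, powMonoidHom_apply]; exact hc1⟩, ?_⟩
    apply Subtype.ext
    apply Subtype.ext
    exact hc'

theorem card_units_eq (hF : Fintype.card F = q ^ 2) : Nat.card Fˣ = (q + 1) * (q - 1) := by
  rw [Nat.card_units, Nat.card_eq_fintype_card]
  exact card_sub_one_eq' hF

theorem card_ker_conjU (hF : Fintype.card F = q ^ 2) (hn : 3 ≤ n) :
    Nat.card (conjU (n := n) (F := F) (q := q)).ker = q + 1 := by
  rw [← Nat.card_congr (Equiv.ofBijective _ (scalarU_bijective hF hn)),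
    IsCyclic.card_powMonoidHom_ker, card_units_eq hF]
  exact Nat.gcd_eq_right (Dvd.intro _ rfl)

/-- `|Inndiag(PSU_n)| = |SU_n|`. -/
theorem card_DDU_eq_card_SU (hF : Fintype.card F = q ^ 2) (hn : 3 ≤ n) :
    Nat.card (DDU n F q) = Nat.card (Cfsg.SU n F q) := by
  have e1 := QuotientGroup.quotientKerEquivRange (conjU (n := n) (F := F) (q := q))
  have h1 : Nat.card (↥(Cfsg.GU n F q) ⧸ (conjU (n := n) (F := F) (q := q)).ker)
      = Nat.card (DDU n F q) := Nat.card_congr e1.toEquiv
  have h2 := Subgroup.card_eq_card_quotient_mul_card_subgroup (conjU (n := n) (F := F) (q := q)).ker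
  rw [h1, card_ker_conjU hF hn] at h2
  have h3 := Cfsg.Agent.Lib.Helper5_GUOrder.card_GU hF n
  have h4 := Cfsg.Agent.Lib.Helper5_SUOrder.card_SU hF n (by omega)
  rw [← h3, h2, mul_comm] at h4
  exact (Nat.eq_of_mul_eq_mul_right (by omega : 0 < q + 1) h4).symm

theorem card_SU_eq (hF : Fintype.card F = q ^ 2) (hn : 3 ≤ n) :
    Nat.card (Cfsg.SU n F q) = Nat.gcd n (q + 1) * Nat.card (Cfsg.PSU n F q) := by
  rw [Subgroup.card_eq_card_quotient_mul_card_subgroup (Subgroup.center (Cfsg.SU n F q)),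
    Cfsg.Agent.Lib.Helper5_SUCenter.card_center_SU hF n (by omega), mul_comm]

/-- `|Inndiag(PSU_n)| = gcd(n, q + 1) * |PSU_n|`. -/
theorem card_DDU (hF : Fintype.card F = q ^ 2) (hn : 3 ≤ n) :
    Nat.card (DDU n F q) = Nat.gcd n (q + 1) * Nat.card (Cfsg.PSU n F q) := by
  rw [card_DDU_eq_card_SU hF hn, card_SU_eq hF hn]

theorem card_ringAut' {p f : ℕ} [Fact p.Prime] (hq : q = p ^ f) (hF : Fintype.card F = q ^ 2) :
    Nat.card (RingAut F) = 2 * f := by
  have hF' : Fintype.card F = p ^ (2 * f) := by rw [hF, hq, ← pow_mul, mul_comm]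
  obtain ⟨e⟩ := Cfsg.Agent.Lib.Helper42_AutPSL2.ringAut_mulEquiv hF'
  rw [Nat.card_congr e.toEquiv]
  exact Nat.card_zmod (2 * f)

/-- **Order of `Aut (PSU_n(q))`**, given the factorisation. -/
theorem card_aut (hfac : Fac n F q) {p f : ℕ} [Fact p.Prime] (hq : q = p ^ f)
    (hF : Fintype.card F = q ^ 2) (hn : 3 ≤ n) :
    Nat.card (MulAut (Cfsg.PSU n F q)) = Nat.gcd n (q + 1) * (2 * f) * Nat.card (Cfsg.PSU n F q) := by
  have := DDU_normal hfac
  rw [Subgroup.card_eq_card_quotient_mul_card_subgroup (DDU n F q), card_DDU hF hn,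
    ← Nat.card_congr (Equiv.ofBijective _ ⟨ThetaU_injective hF hn, ThetaU_surjective hfac⟩),
    card_ringAut' hq hF]
  ring

end card

/-! ### The outer automorphism group -/

section out

variable [Fintype F]

/-- Diagonal (unitary conjugation) outer automorphisms. -/
def deltaU : ↥(Cfsg.GU n F q) →* Cfsg.Out (Cfsg.PSU n F q) :=
  (QuotientGroup.mk' (Cfsg.Inn (Cfsg.PSU n F q))).comp conjU

theorem deltaU_apply (g : ↥(Cfsg.GU n F q)) :
    deltaU g = QuotientGroup.mk (conjU g) := rfl

theorem deltaU_ker :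
    (deltaU (n := n) (F := F) (q := q)).ker = (Cfsg.Inn PSUn).comap conjU := by
  ext g
  rw [MonoidHom.mem_ker, deltaU_apply, QuotientGroup.eq_one_iff, Subgroup.mem_comap]

theorem ker_detU_le_ker_deltaU :
    (detU (n := n) (F := F) (q := q)).ker ≤ (deltaU (n := n) (F := F) (q := q)).ker := by
  have h := ker_detU_le (n := n) (F := F) (q := q) (⊥ : Subgroup (MulAut PSUn))
  rw [deltaU_ker]
  intro g hg
  have h1 := h hg
  have h2 : (⊥ : Subgroup (MulAut PSUn)).comap (conjU (n := n) (F := F) (q := q))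
      ≤ (Cfsg.Inn PSUn).comap conjU := Subgroup.comap_mono bot_le
  exact (sup_le le_rfl h2) h1

theorem card_deltaU_range (hF : Fintype.card F = q ^ 2) (hn : 3 ≤ n) :
    Nat.card (deltaU (n := n) (F := F) (q := q)).range = Nat.gcd n (q + 1) := by
  have hn0 : 0 < n := by omega
  rw [← Subgroup.index_ker]
  set H := (deltaU (n := n) (F := F) (q := q)).ker with hH
  have hker : (detU (n := n) (F := F) (q := q)).ker ≤ H := ker_detU_le_ker_deltaU
  have h3 : H.index = (H.map detU).relIndex (detU (n := n) (F := F) (q := q)).range := by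
    have h4 := Subgroup.relIndex_map_map (detU (n := n) (F := F) (q := q)) H ⊤
    rw [← MonoidHom.range_eq_map, sup_of_le_left hker, top_sup_eq, Subgroup.relIndex_top_right] at h4
    exact h4.symm
  rw [h3, range_detU hF hn0, ← Subgroup.index_comap, hH, deltaU_ker,
    map_detU_comap_inn hF hn (tauQ hF) (tauQ_apply hF)]
  exact index_comap_pow_map hF n

theorem isCyclic_deltaU_range :
    IsCyclic (deltaU (n := n) (F := F) (q := q)).range := by
  -- `deltaU` factors through the determinant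
  have hcyc : IsCyclic (detU (n := n) (F := F) (q := q)).range := inferInstance
  let e1 := QuotientGroup.quotientKerEquivRange (detU (n := n) (F := F) (q := q))
  have hc2 : IsCyclic (↥(Cfsg.GU n F q) ⧸ (detU (n := n) (F := F) (q := q)).ker) :=
    isCyclic_of_surjective e1.symm.toMonoidHom e1.symm.surjective
  let ψ : ↥(Cfsg.GU n F q) ⧸ (detU (n := n) (F := F) (q := q)).ker →*
      ↥(deltaU (n := n) (F := F) (q := q)).range :=
    QuotientGroup.lift _ (deltaU (n := n) (F := F) (q := q)).rangeRestrict (by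
      intro g hg
      have := ker_detU_le_ker_deltaU hg
      rw [MonoidHom.mem_ker] at this ⊢
      exact Subtype.ext this)
  have hψ : Function.Surjective ψ := by
    rintro ⟨_, g, rfl⟩
    exact ⟨QuotientGroup.mk g, rfl⟩
  exact isCyclic_of_surjective ψ hψ

/-- **Outer automorphism group of `PSU_n(q)`**, given the factorisation. -/
theorem out_structure (hfac : Fac n F q) {p f : ℕ} [Fact p.Prime] (hq : q = p ^ f)
    (hF : Fintype.card F = q ^ 2) (hn : 3 ≤ n) :
    ∃ φ : Cfsg.Out (Cfsg.PSU n F q) →* Multiplicative (ZMod (2 * f)),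
      Function.Surjective φ ∧ IsCyclic φ.ker ∧ Nat.card φ.ker = Nat.gcd n (q + 1) := by
  classical
  have hN : (DDU n F q).Normal := DDU_normal hfac
  have hF' : Fintype.card F = p ^ (2 * f) := by rw [hF, hq, ← pow_mul, mul_comm]
  obtain ⟨e⟩ := Cfsg.Agent.Lib.Helper42_AutPSL2.ringAut_mulEquiv hF'
  let T : RingAut F ≃* MulAut (Cfsg.PSU n F q) ⧸ DDU n F q :=
    MulEquiv.ofBijective ThetaU ⟨ThetaU_injective hF hn, ThetaU_surjective hfac⟩
  let Ψ : MulAut (Cfsg.PSU n F q) →* Multiplicative (ZMod (2 * f)) :=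
    (T.symm.trans e).toMonoidHom.comp (QuotientGroup.mk' (DDU n F q))
  have hΨ : ∀ β, Ψ β = 1 ↔ β ∈ DDU n F q := by
    intro β
    show (T.symm.trans e) (QuotientGroup.mk β) = 1 ↔ _
    rw [MulEquiv.map_eq_one_iff, QuotientGroup.eq_one_iff]
  have hΨs : Function.Surjective Ψ := by
    intro y
    obtain ⟨β, hβ⟩ := QuotientGroup.mk_surjective ((T.symm.trans e).symm y)
    refine ⟨β, ?_⟩
    show (T.symm.trans e) (QuotientGroup.mk β) = y
    rw [hβ, MulEquiv.apply_symm_apply]
  have hInn : Cfsg.Inn PSUn ≤ Ψ.ker := by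
    rintro _ ⟨x, rfl⟩
    induction x using QuotientGroup.induction_on with
    | H s =>
      rw [MonoidHom.mem_ker, hΨ, ← conjU_toGL]
      exact conjU_mem_DDU _
  let φ : Cfsg.Out PSUn →* Multiplicative (ZMod (2 * f)) :=
    QuotientGroup.lift (Cfsg.Inn PSUn) Ψ hInn
  have φ_mk : ∀ β : MulAut PSUn, φ (QuotientGroup.mk β) = Ψ β := fun β => rfl
  have hker : φ.ker = (deltaU (n := n) (F := F) (q := q)).range := by
    ext x
    obtain ⟨β, rfl⟩ := QuotientGroup.mk_surjective x
    rw [MonoidHom.mem_ker, φ_mk, hΨ]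
    constructor
    · rintro ⟨g, rfl⟩
      exact ⟨g, rfl⟩
    · rintro ⟨g, hg⟩
      rw [deltaU_apply, QuotientGroup.eq] at hg
      obtain ⟨y, hy⟩ := hg
      induction y using QuotientGroup.induction_on with
      | H s =>
        rw [← conjU_toGL] at hy
        have : β = conjU g * conjU ⟨Matrix.SpecialLinearGroup.toGL s.1, toGL_mem_GU s⟩ := by
          rw [hy, mul_inv_cancel_left]
        rw [this]
        exact Subgroup.mul_mem _ (conjU_mem_DDU _) (conjU_mem_DDU _)
  refine ⟨φ, ?_, ?_, ?_⟩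
  · intro y
    obtain ⟨β, hβ⟩ := hΨs y
    exact ⟨QuotientGroup.mk β, hβ⟩
  · rw [hker]
    exact isCyclic_deltaU_range
  · rw [hker]
    exact card_deltaU_range hF hn

end out

end Cfsg.Agent.Lib.Helper45_PSUOut
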