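import Mathlib
import Cfsg.Agent.Lib.Helper14_PSULocal11
import Cfsg.Agent.Lib.Helper14_PSUAut
import Cfsg.Agent.Lib.Helper45_PSUOut
import Cfsg.Agent.Lib.Helper94_HermBridge
import Cfsg.Agent.S2644
import Cfsg.Agent.S0780

/-!
# Every automorphism of `PSU_n(q)` is a unitary conjugation times a field automorphism

We instantiate the generic factorisation theorem `Helper14_PSULocal11.main_generic` with
`V = F^n`, the standard hermitian form, `Q = PSU n F q`.
-/

set_option autoImplicit false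
set_option linter.unusedVariables false
set_option linter.unusedSectionVars false

namespace Cfsg.Agent.Lib.Helper14_PSUFac

open Matrix Module Cfsg.Agent.Lib.Helper94_Symp Cfsg.Agent.Lib.Helper94_Bridge
  Cfsg.Agent.Lib.Helper94_Herm
  Cfsg.Agent.Lib.Helper94_HermTrans Cfsg.Agent.Lib.Helper94_HermBridge
  Cfsg.Agent.Lib.Helper13_SUGen Cfsg.Agent.Lib.Helper13_PSUSimple
  Cfsg.Agent.Lib.Helper14_PSLAut Cfsg.Agent.Lib.Helper14_PSLGraph
  Cfsg.Agent.Lib.Helper14_PSUAut Cfsg.Agent.Lib.Helper45_PSUOut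
  Cfsg.Agent.Lib.Helper14_PSULocal1 Cfsg.Agent.Lib.Helper14_PSULocal2
  Cfsg.Agent.Lib.Helper14_PSULocal3 Cfsg.Agent.Lib.Helper14_PSULocal5
  Cfsg.Agent.Lib.Helper14_PSULocal6 Cfsg.Agent.Lib.Helper14_PSULocal11
  Cfsg.Agent.S2644

variable {F : Type*} [Field F] [Fintype F] {n q : ℕ}

local notation "SLn" => Matrix.SpecialLinearGroup (Fin n) F
set_option quotPrecheck false in
local notation "SUn" => ↥(Cfsg.SU n F q)
local notation "PSUn" => Cfsg.PSU n F q
local notation "Mn" => Matrix (Fin n) (Fin n) F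

section

variable (σ : F →+* F) (hσq : ∀ x, σ x = x ^ q)

/-- `psi` as an isomorphism onto the abstract special unitary group. -/
noncomputable def psiE : SUn ≃* ↥(SUg (hermB n σ hσq)) :=
  MulEquiv.ofBijective
    ((psi (K := F) (q := q) (n := n)).codRestrict (SUg (hermB n σ hσq))
      (fun s => mem_SUg.mpr ⟨psi_mem_uG σ hσq s, det_psi s⟩))
    ⟨fun s t h => psi_injective (congrArg Subtype.val h), fun g => by
      obtain ⟨s, hs⟩ := exists_psi_eq σ hσq g.1 (mem_SUg.mp g.2).1 (mem_SUg.mp g.2).2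
      exact ⟨s, Subtype.ext hs⟩⟩

lemma psiE_coe (s : SUn) : ((psiE σ hσq s : ↥(SUg (hermB n σ hσq))) :
    (Fin n → F) ≃ₗ[F] (Fin n → F)) = psi s := rfl

/-- The quotient map from the abstract special unitary group onto `PSU`. -/
noncomputable def mkP : ↥(SUg (hermB n σ hσq)) →* PSUn :=
  (QuotientGroup.mk' (Subgroup.center SUn)).comp (psiE σ hσq).symm.toMonoidHom

lemma mkP_psiE (s : SUn) : mkP σ hσq (psiE σ hσq s) = (QuotientGroup.mk s : PSUn) := by
  change (QuotientGroup.mk ((psiE σ hσq).symm (psiE σ hσq s)) : PSUn) = _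
  rw [MulEquiv.symm_apply_apply]

lemma mkT_psi (s : SUn) : mkT (mkP σ hσq) (psi s) = (QuotientGroup.mk s : PSUn) := by
  rw [← psiE_coe σ hσq s, mkT_coe, mkP_psiE]

lemma mkP_surjective : Function.Surjective (mkP (n := n) σ hσq) := by
  intro t
  obtain ⟨s, rfl⟩ := QuotientGroup.mk_surjective t
  exact ⟨psiE σ hσq s, mkP_psiE σ hσq s⟩

lemma mkP_ker : (mkP (n := n) σ hσq).ker = Subgroup.center ↥(SUg (hermB n σ hσq)) := by
  ext x
  obtain ⟨s, rfl⟩ := (psiE σ hσq).surjective x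
  rw [MonoidHom.mem_ker, mkP_psiE, QuotientGroup.eq_one_iff, Subgroup.mem_center_iff,
    Subgroup.mem_center_iff]
  constructor
  · intro h y
    obtain ⟨t, rfl⟩ := (psiE σ hσq).surjective y
    rw [← map_mul, ← map_mul, h t]
  · intro h t
    apply (psiE σ hσq).injective
    rw [map_mul, map_mul]
    exact h _

end

/-! ### The group of standard automorphisms -/

/-- The automorphisms of the form `conjU g * fieldU τ`. -/
def stdAut (n : ℕ) (F : Type*) [Field F] (q : ℕ) : Subgroup (MulAut (Cfsg.PSU n F q)) where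
  carrier := {β | ∃ (g : ↥(Cfsg.GU n F q)) (τ : F ≃+* F), β = conjU g * fieldU τ}
  one_mem' := ⟨1, 1, by rw [map_one, map_one, one_mul]⟩
  mul_mem' := by
    rintro _ _ ⟨g, τ, rfl⟩ ⟨g', τ', rfl⟩
    refine ⟨g * mapU τ g', τ * τ', ?_⟩
    rw [map_mul, map_mul, ← fieldU_conjU]
    group
  inv_mem' := by
    rintro _ ⟨g, τ, rfl⟩
    refine ⟨mapU τ⁻¹ g⁻¹, τ⁻¹, ?_⟩
    rw [← fieldU_conjU, map_inv, map_inv]
    group

lemma mem_stdAut {β : MulAut (Cfsg.PSU n F q)} :
    β ∈ stdAut n F q ↔ ∃ (g : ↥(Cfsg.GU n F q)) (τ : F ≃+* F), β = conjU g * fieldU τ := Iff.rfl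

/-! ### The hypotheses of the generic theorem -/

section

variable (σ : F →+* F) (hσq : ∀ x, σ x = x ^ q)

lemma psi_mem_SUg (s : SUn) : psi s ∈ SUg (hermB n σ hσq) :=
  mem_SUg.mpr ⟨psi_mem_uG σ hσq s, det_psi s⟩

/-- Isometries induce standard automorphisms. -/
lemma H1 (g : (Fin n → F) ≃ₗ[F] (Fin n → F)) (hg : g ∈ uG (hermB n σ hσq)) :
    ∃ φ ∈ stdAut n F q, SemiAut (mkP σ hσq) φ (RingHom.id F) g := by
  obtain ⟨G, hGg⟩ : ∃ G : GL (Fin n) F, glEquiv (Fin n) F G = g :=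
    ⟨(glEquiv (Fin n) F).symm g, (glEquiv (Fin n) F).apply_symm_apply g⟩
  have hGU : G ∈ Cfsg.GU n F q := by
    rw [GU_eq σ hσq, Subgroup.mem_comap]
    change glEquiv (Fin n) F G ∈ _
    rw [hGg]
    exact hg
  have hgx : ∀ x, g x = (G : Mn) *ᵥ x := by
    intro x
    rw [← hGg, glEquiv_apply]
  refine ⟨conjU ⟨G, hGU⟩, ⟨⟨G, hGU⟩, 1, by rw [map_one, mul_one]⟩, ?_⟩
  refine ⟨map_add g, fun a x => by rw [map_smul, RingHom.id_apply], g.surjective,
    fun x y => by rw [RingHom.id_apply]; exact hg x y, ?_⟩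
  intro s hs
  obtain ⟨s₀, rfl⟩ := exists_psi_eq σ hσq s (mem_SUg.mp hs).1 (mem_SUg.mp hs).2
  refine ⟨psi (suConj ⟨G, GU_le_normSU hGU⟩ s₀), psi_mem_SUg σ hσq _, fun x => ?_, ?_⟩
  · rw [psi_apply, psi_apply, hgx, hgx]
    change ((slConj G s₀.1 : SLn) : Mn) *ᵥ ((G : Mn) *ᵥ x) = (G : Mn) *ᵥ ((s₀.1 : Mn) *ᵥ x)
    rw [slConj_coe', Matrix.mulVec_mulVec, Matrix.mulVec_mulVec, mul_assoc,
      ← Matrix.GeneralLinearGroup.coe_mul, inv_mul_cancel, Matrix.GeneralLinearGroup.coe_one,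
      mul_one]
  · rw [mkT_psi, mkT_psi, conjU_apply, conjN_mk]

/-- Field automorphisms induce standard automorphisms. -/
lemma H2 (τ : F ≃+* F) : ∃ φ ∈ stdAut n F q, ∃ T : (Fin n → F) → (Fin n → F),
    SemiAut (mkP σ hσq) φ (τ : F →+* F) T := by
  refine ⟨fieldU τ, ⟨1, τ, by rw [map_one, one_mul]⟩, fun v i => τ (v i), ?_⟩
  refine ⟨fun x y => by funext i; simp, fun a x => by funext i; simp, fun v =>
    ⟨fun i => τ.symm (v i), by funext i; simp⟩, fun x y => ?_, ?_⟩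
  · rw [hermB_apply, hermB_apply]
    exact hermForm_map τ x y
  · intro s hs
    obtain ⟨s₀, rfl⟩ := exists_psi_eq σ hσq s (mem_SUg.mp hs).1 (mem_SUg.mp hs).2
    refine ⟨psi (suField τ s₀), psi_mem_SUg σ hσq _, fun x => ?_, ?_⟩
    · rw [psi_apply, psi_apply]
      change (((suField τ s₀ : SUn) : SLn) : Mn) *ᵥ (fun i => τ (x i)) = _
      rw [suField_coe, map_mulVec]
      rfl
    · rw [mkT_psi, mkT_psi, fieldU_mk]

end

/-! ### Isotropic vectors in the complement of a hyperbolic pair, dimension at least four -/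

section Abstract

variable {K V : Type*} [Field K] [AddCommGroup V] [Module K V]
variable {ρ : K →+* K} (C : V →ₗ[K] V →ₛₗ[ρ] K)

lemma exists_ne_zero_orth3 [FiniteDimensional K V] (h : 4 ≤ finrank K V) (p q r : V) :
    ∃ w : V, w ≠ 0 ∧ C w p = 0 ∧ C w q = 0 ∧ C w r = 0 := by
  let f : V →ₗ[K] K × K × K := (C.flip p).prod ((C.flip q).prod (C.flip r))
  have hlt : finrank K (K × K × K) < finrank K V := by
    rw [Module.finrank_prod, Module.finrank_prod, Module.finrank_self]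
    omega
  have hker := LinearMap.ker_ne_bot_of_finrank_lt (f := f) hlt
  obtain ⟨w, hw, hw0⟩ := Submodule.exists_mem_ne_zero_of_ne_bot hker
  have hw' : f w = 0 := LinearMap.mem_ker.mp hw
  refine ⟨w, hw0, ?_, ?_, ?_⟩
  · have := congrArg Prod.fst hw'
    simpa [f] using this
  · have := congrArg (fun x => x.2.1) hw'
    simpa [f] using this
  · have := congrArg (fun x => x.2.2) hw'
    simpa [f] using this

variable {C}

lemma exists_iso_Wp [Finite K] [FiniteDimensional K V] (hρ : Invol ρ) (hC : IsHerm C)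
    (h4 : 4 ≤ finrank K V) (e f : V) :
    ∃ u ∈ Wp C e f, u ≠ 0 ∧ C u u = 0 := by
  obtain ⟨w₁, hw₁0, hw₁e, hw₁f, -⟩ := exists_ne_zero_orth3 C h4 e f 0
  have hw₁ : w₁ ∈ Wp C e f := mem_Wp.mpr ⟨hw₁e, hw₁f⟩
  by_cases hi : C w₁ w₁ = 0
  · exact ⟨w₁, hw₁, hw₁0, hi⟩
  · obtain ⟨w₂, hw₂0, hw₂e, hw₂f, hw₂w⟩ := exists_ne_zero_orth3 C h4 e f w₁
    have hw₂ : w₂ ∈ Wp C e f := mem_Wp.mpr ⟨hw₂e, hw₂f⟩
    have hnot : w₂ ∉ Submodule.span K {w₁} := by
      intro hmem
      obtain ⟨t, rfl⟩ := Submodule.mem_span_singleton.mp hmem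
      rw [map_smul, LinearMap.smul_apply, smul_eq_mul] at hw₂w
      rcases mul_eq_zero.mp hw₂w with h0 | h0
      · apply hw₂0
        rw [h0, zero_smul]
      · exact hi h0
    obtain ⟨a, b, hne, hiso⟩ := exists_iso hρ hC hw₁0 hnot
    exact ⟨_, (Wp C e f).add_mem ((Wp C e f).smul_mem a hw₁) ((Wp C e f).smul_mem b hw₂),
      hne, hiso⟩

end Abstract

/-! ### The factorisation theorem -/

/-- **Every automorphism of `PSU_n(q)` is a unitary conjugation times a field automorphism.** -/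
theorem psu_fac (hF : Fintype.card F = q ^ 2) (hn : 3 ≤ n) (hs : ¬ (n = 3 ∧ q = 2))
    (β : MulAut (Cfsg.PSU n F q)) :
    ∃ (g : ↥(Cfsg.GU n F q)) (τ : F ≃+* F), β = conjU g * fieldU τ := by
  obtain ⟨σ, hσq, hσ⟩ := exists_frob hF
  have hB := hermB_isHerm (n := n) σ hσq hσ
  have hN := hermB_nondeg (n := n) σ hσq
  have hfr : finrank F (Fin n → F) = n := Module.finrank_fin_fun F
  have hq2 : 2 ≤ q := by
    have h1 : 1 < Fintype.card F := Fintype.one_lt_card
    rw [hF] at h1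
    by_contra hlt
    push Not at hlt
    interval_cases q <;> simp at h1
  obtain ⟨p, hchar⟩ := CharP.exists F
  have hp : Fact p.Prime := ⟨CharP.char_is_prime F p⟩
  have hgen : ∀ g ∈ uG (hermB n σ hσq), LinearEquiv.det g = 1 →
      g ∈ tvGroup (hermB n σ hσq) ⊤ := by
    intro g hgU hgdet
    by_cases h4 : 4 ≤ n
    · exact mem_tvGroup_of_four_le hσ hB hN (by rw [hfr]; exact h4) hgU hgdet
    · have hn3 : n = 3 := by omega
      have hq3 : 3 ≤ q := by
        have : q ≠ 2 := fun h2 => hs ⟨hn3, h2⟩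
        omega
      obtain ⟨y, hy0, hy1⟩ := Cfsg.Agent.S0780.exists_norm_ne_one hF hq3
      refine mem_tvGroup_of_three hσ hB hN (by rw [hfr]; exact hn3) (a := y * y ^ q) ?_ ?_ hy1
        hgU hgdet
      · rw [map_mul, ← hσq y, hσ.invol, mul_comm]
      · exact mul_ne_zero hy0 (pow_ne_zero _ hy0)
  have hcm : ∀ e f : Fin n → F, HypPair (hermB n σ hσq) e f →
      Commutant (hermB n σ hσq) e f := by
    intro e f h φ hφ hc
    by_cases h4 : 4 ≤ n
    · obtain ⟨u, hu, hu0, hui⟩ := exists_iso_Wp hσ hB (by rw [hfr]; exact h4) e f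
      exact commutant_iso hσ hB hN h hφ hc hu hu0 hui
    · have hn3 : n = 3 := by omega
      have hq2' : q ≠ 2 := fun h2 => hs ⟨hn3, h2⟩
      exact commutant_three hσ hB hN h hφ hc (by rw [hfr]; exact hn3) hσq
        (by rw [Nat.card_eq_fintype_card]; exact hF) hq2'
  have : Finite (Cfsg.PSU n F q) := inferInstance
  exact mem_stdAut.mp (main_generic (mk := mkP σ hσq) p hσ hB hN (by rw [hfr]; exact hn)
    (mkP_surjective σ hσq) (mkP_ker σ hσq) hgen hcm (stdAut n F q) (H1 σ hσq) (H2 σ hσq) β)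

end Cfsg.Agent.Lib.Helper14_PSUFac
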