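import Mathlib
import Cfsg.Agent.Lib.Helper14_PSUFac
import Cfsg.Agent.Lib.Helper14_PSUKer
import Cfsg.Agent.Lib.Helper14_PSLBalCore

/-!
# Local balance at a graph involution of `PSU_n(q)`, `q` odd: the abstract skeleton (helper14)

`core_of_R_U` : let `x = conjU g * fieldU τ` be an involutory automorphism of `PSU_n(q)` and
`R ≤ SU_n(q)` a subgroup whose image in `PSU_n(q)` is fixed elementwise by `x`, normalised by every
element of `SU_n(q)` whose class is fixed by `x`, whose image in `Aut(PSU_n(q))` has the property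
`OddComm`, and such that the only bijective semilinear maps of `F^n` commuting up to scalars with all
elements of `R` are the scalars and the scalar multiples of `v ↦ g τ(v)`.  Then
`O_{2'}(C_A(x)) = 1` for every group `A` of automorphisms containing the inner ones.
-/

set_option autoImplicit false
set_option linter.unusedSectionVars false
set_option linter.unusedVariables false

namespace Cfsg.Agent.Lib.Helper14_PSUBalCore

open Matrix Cfsg Cfsg.Agent.Lib.Helper14_PSLAut Cfsg.Agent.Lib.Helper14_PSLGraph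
  Cfsg.Agent.Lib.Helper44_PSLnRoot Cfsg.Agent.Lib.Helper14_FieldAutPSL
  Cfsg.Agent.Lib.Helper14_BalAbs Cfsg.Agent.Lib.Helper14_PSUAut Cfsg.Agent.Lib.Helper14_PSUKer
  Cfsg.Agent.Lib.Helper14_PSLBalCore

variable {F : Type*} [Field F] {n q : ℕ}

local notation "SLn" => Matrix.SpecialLinearGroup (Fin n) F
set_option quotPrecheck false in
local notation "SUn" => ↥(Cfsg.SU n F q)
local notation "PSUn" => Cfsg.PSU n F q
local notation "Mn" => Matrix (Fin n) (Fin n) F

/-- the inner automorphism of `PSU_n` attached to an element of `SU_n` -/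
def innSU : SUn →* MulAut PSUn :=
  (MulAut.conj : PSUn →* MulAut PSUn).comp (QuotientGroup.mk' _)

theorem innSU_apply (s : SUn) : innSU s = MulAut.conj (QuotientGroup.mk s : PSUn) := rfl

/-- an element of `SU_n` as an element of the normaliser of `SU_n` in `GL_n` -/
def suN (s : SUn) : ↥(normSU n F q) :=
  ⟨Matrix.SpecialLinearGroup.toGL (s : SLn), GU_le_normSU (show _ ∈ Cfsg.GU n F q from s.2)⟩

theorem innSU_eq_conjN (s : SUn) : innSU s = conjN (suN s) := by
  ext x : 1
  induction x using QuotientGroup.induction_on with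
  | H t =>
    rw [innSU_apply, MulAut.conj_apply, conjN_mk]
    show (QuotientGroup.mk (s * t * s⁻¹) : PSUn) = _
    congr 1

/-- a generic version: an automorphism fixing `k` commutes with the inner automorphism of `k` -/
theorem comm_conj_of_fix {G : Type*} [Group G] (y : MulAut G) (k : G) (h : y k = k) :
    y * MulAut.conj k = MulAut.conj k * y := by
  rw [Cfsg.Agent.Lib.Helper44_BalanceGen.conj_comm_aut', h]

section finite

variable [Fintype F]

theorem mk_eq_one_of_innSU_eq_one (hF : Fintype.card F = q ^ 2) (hn : 3 ≤ n) (s : SUn)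
    (h : innSU s = 1) : (QuotientGroup.mk s : PSUn) = 1 := by
  rw [innSU_eq_conjN, conjN_eq_one_iff hF hn, Cfsg.Geo.mem_scalars_iff] at h
  obtain ⟨c, hc⟩ := h
  have hs : ((s : SLn) : Mn) = (c : F) • (1 : Mn) := hc
  rw [QuotientGroup.eq_one_iff, Subgroup.mem_center_iff]
  intro t
  apply Subtype.ext
  apply Subtype.ext
  show ((t : SLn) : Mn) * ((s : SLn) : Mn) = ((s : SLn) : Mn) * ((t : SLn) : Mn)
  rw [hs, Matrix.mul_smul, Matrix.mul_one, Matrix.smul_mul, Matrix.one_mul]

theorem conj_injective_PSU (hF : Fintype.card F = q ^ 2) (hn : 3 ≤ n) :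
    Function.Injective (MulAut.conj : PSUn →* MulAut PSUn) := by
  rw [injective_iff_map_eq_one]
  intro k hk
  induction k using QuotientGroup.induction_on with
  | H u => exact mk_eq_one_of_innSU_eq_one hF hn u hk

theorem fix_of_comm_innSU (hF : Fintype.card F = q ^ 2) (hn : 3 ≤ n) (y : MulAut PSUn) (r : SUn)
    (h : y * innSU r = innSU r * y) : y (QuotientGroup.mk r) = QuotientGroup.mk r := by
  rw [innSU_apply, Cfsg.Agent.Lib.Helper44_BalanceGen.conj_comm_aut', mul_left_inj] at h
  exact conj_injective_PSU hF hn h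

/-- **The abstract skeleton of local balance at a graph involution of `PSU_n(q)`.** -/
theorem core_of_R_U (hF : Fintype.card F = q ^ 2) (hn : 3 ≤ n) (hs : ¬ (n = 3 ∧ q = 2))
    (g : ↥(Cfsg.GU n F q)) (τ : F ≃+* F)
    (hx1 : (conjU g * fieldU τ : MulAut PSUn) ≠ 1)
    (hx2 : (conjU g * fieldU τ : MulAut PSUn) * (conjU g * fieldU τ) = 1)
    (R : Subgroup SUn)
    (hfix : ∀ r ∈ R, (conjU g * fieldU τ : MulAut PSUn) (QuotientGroup.mk r) = QuotientGroup.mk r)
    (hnorm : ∀ s : SUn, (conjU g * fieldU τ : MulAut PSUn) (QuotientGroup.mk s) = QuotientGroup.mk s →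
      ∀ r ∈ R, s * r * s⁻¹ ∈ R)
    (hOC : OddComm (R.map innSU))
    (hkey : ∀ (τ' : F ≃+* F) (hh : (Fin n → F) → (Fin n → F)),
      (∀ v w, hh (v + w) = hh v + hh w) → (∀ (a : F) v, hh (a • v) = τ' a • hh v) →
      Function.Bijective hh →
      (∀ r ∈ R, ∃ c : F, ∀ v, hh (((r : SLn) : Mn) *ᵥ v) = c • (((r : SLn) : Mn) *ᵥ hh v)) →
      (τ' = RingEquiv.refl F ∧ ∃ a : F, ∀ v, hh v = a • v) ∨
      (τ' = τ ∧ ∃ a : F, ∀ v, hh v = a • (((g : GL (Fin n) F) : Mn) *ᵥ (fun i => τ (v i)))))
    (A : Subgroup (MulAut PSUn)) (hinn : ∀ k : PSUn, MulAut.conj k ∈ A) :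
    pPrimeCore 2 ↥(A ⊓ Subgroup.centralizer {(conjU g * fieldU τ : MulAut PSUn)}) = ⊥ := by
  obtain ⟨x, hx⟩ : ∃ x : MulAut PSUn, x = conjU g * fieldU τ := ⟨_, rfl⟩
  rw [← hx] at hx1 hx2 hfix hnorm ⊢
  apply oddCore_bot
  intro N hNle hNnorm hNodd
  have hfinN : Finite N := Nat.finite_of_card_ne_zero (by
    intro h; rw [h] at hNodd; exact absurd hNodd (by decide))
  obtain ⟨I₀, hI₀⟩ : ∃ I₀ : Subgroup (MulAut PSUn),
      I₀ = (MulAut.conj : PSUn →* MulAut PSUn).range ⊓ Subgroup.centralizer {x} := ⟨_, rfl⟩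
  obtain ⟨H, hH⟩ : ∃ H : Subgroup (MulAut PSUn), H = R.map innSU := ⟨_, rfl⟩
  have hHI : H ≤ I₀ := by
    rw [hH, hI₀]
    rintro _ ⟨r, hr, rfl⟩
    refine Subgroup.mem_inf.mpr ⟨⟨_, rfl⟩, ?_⟩
    rw [Subgroup.mem_centralizer_singleton_iff]
    exact (comm_conj_of_fix x _ (hfix r hr)).symm
  have hI₀A : I₀ ≤ A ⊓ Subgroup.centralizer {x} := by
    rw [hI₀]
    intro c hc
    obtain ⟨⟨k, rfl⟩, hc2⟩ := Subgroup.mem_inf.mp hc
    exact Subgroup.mem_inf.mpr ⟨hinn k, hc2⟩
  apply core_trivial I₀ H N (fun _ : Unit => H) (fun _ => le_refl H) hHI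
  · intro c hc h hh
    rw [hI₀] at hc
    obtain ⟨⟨k, rfl⟩, hc2⟩ := Subgroup.mem_inf.mp hc
    induction k using QuotientGroup.induction_on with
    | H s =>
      rw [hH] at hh ⊢
      obtain ⟨r, hr, rfl⟩ := hh
      rw [Subgroup.mem_centralizer_singleton_iff] at hc2
      have hs' : x (QuotientGroup.mk s) = QuotientGroup.mk s :=
        fix_of_comm_innSU hF hn x s hc2.symm
      refine ⟨s * r * s⁻¹, hnorm s hs' r hr, ?_⟩
      rw [map_mul, map_mul, map_inv]
      rfl
  · intro _ h hh r hr
    exact H.mul_mem (H.mul_mem hh hr) (H.inv_mem hh)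
  · intro m hm c hc
    rw [hI₀] at hc ⊢
    obtain ⟨⟨k, rfl⟩, hc2⟩ := Subgroup.mem_inf.mp hc
    refine Subgroup.mem_inf.mpr ⟨⟨m k, ?_⟩, ?_⟩
    · show MulAut.conj (m k) = _
      rw [Cfsg.Agent.Lib.Helper44_BalanceGen.conj_comm_aut' m k, mul_inv_cancel_right]
    · have hm2 := (Subgroup.mem_inf.mp (hNle hm)).2
      exact Subgroup.mul_mem _ (Subgroup.mul_mem _ hm2 hc2) (Subgroup.inv_mem _ hm2)
  · intro c hc m hm
    exact hNnorm c (hI₀A hc) m hm
  · exact hNodd
  · intro _
    rw [hH]
    exact hOC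
  · -- the key step
    intro y hy hcomm
    have hyk : y ^ Nat.card N = 1 := by
      have h1 : (⟨y, hy⟩ : N) ^ Nat.card N = 1 := pow_card_eq_one'
      have h2 := congrArg (fun z : N => (z : MulAut PSUn)) h1
      exact h2
    obtain ⟨h, τ', hyeq⟩ := Cfsg.Agent.Lib.Helper14_PSUFac.psu_fac hF hn hs y
    have hhi : (((h : GL (Fin n) F)⁻¹ : GL (Fin n) F) : Mn) * ((h : GL (Fin n) F) : Mn) = 1 := by
      rw [← Units.val_mul, inv_mul_cancel, Units.val_one]
    have hhi' : ((h : GL (Fin n) F) : Mn) * (((h : GL (Fin n) F)⁻¹ : GL (Fin n) F) : Mn) = 1 := by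
      rw [← Units.val_mul, mul_inv_cancel, Units.val_one]
    obtain ⟨hh, hhdef⟩ : ∃ hh : (Fin n → F) → (Fin n → F),
        hh = fun v => ((h : GL (Fin n) F) : Mn) *ᵥ (fun i => τ' (v i)) := ⟨_, rfl⟩
    have hmap : ∀ (X : Mn) (v : Fin n → F), (fun i => τ' ((X *ᵥ v) i)) =
        X.map τ' *ᵥ (fun i => τ' (v i)) := by
      intro X v
      ext i
      simp only [Matrix.mulVec, dotProduct, map_sum, map_mul, Matrix.map_apply]
    have hres := hkey τ' hh
      (by
        intro v w
        rw [hhdef]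
        show ((h : GL (Fin n) F) : Mn) *ᵥ (fun i => τ' ((v + w) i)) = _
        rw [← Matrix.mulVec_add]
        congr 1
        ext i
        simp only [Pi.add_apply, map_add])
      (by
        intro a v
        rw [hhdef]
        show ((h : GL (Fin n) F) : Mn) *ᵥ (fun i => τ' ((a • v) i)) =
          τ' a • (((h : GL (Fin n) F) : Mn) *ᵥ (fun i => τ' (v i)))
        rw [← Matrix.mulVec_smul]
        congr 1
        ext i
        simp only [Pi.smul_apply, smul_eq_mul, map_mul])
      (by
        rw [hhdef]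
        constructor
        · intro v w hvw
          have h1 := congrArg (fun z => (((h : GL (Fin n) F)⁻¹ : GL (Fin n) F) : Mn) *ᵥ z) hvw
          simp only [Matrix.mulVec_mulVec, hhi, Matrix.one_mulVec] at h1
          ext i
          exact τ'.injective (congrFun h1 i)
        · intro w
          refine ⟨fun i => τ'.symm (((((h : GL (Fin n) F)⁻¹ : GL (Fin n) F) : Mn) *ᵥ w) i), ?_⟩
          simp only [RingEquiv.apply_symm_apply]
          rw [Matrix.mulVec_mulVec, hhi', Matrix.one_mulVec])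
      (by
        intro r hr
        have hfr : y (QuotientGroup.mk r) = QuotientGroup.mk r :=
          fix_of_comm_innSU hF hn _ r (hcomm () (innSU r) (by rw [hH]; exact ⟨r, hr, rfl⟩))
        rw [hyeq, MulAut.mul_apply, fieldU_mk, conjU_apply, conjN_mk] at hfr
        obtain ⟨c, hc⟩ := exists_smul_of_mk_eq hF (by omega) _ _ hfr.symm
        rw [suConj_coe, slConj_coe', suField_coe] at hc
        refine ⟨c, ?_⟩
        intro v
        rw [hhdef]
        show ((h : GL (Fin n) F) : Mn) *ᵥ (fun i => τ' ((((r : SLn) : Mn) *ᵥ v) i)) = _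
        rw [hmap, Matrix.mulVec_mulVec, Matrix.mulVec_mulVec, ← Matrix.smul_mulVec]
        congr 1
        have h2 := congrArg (fun X => X * ((h : GL (Fin n) F) : Mn)) hc
        simp only [Matrix.mul_assoc, hhi, Matrix.mul_one, Matrix.smul_mul] at h2
        exact h2)
    have hscal_of : ∀ (a : F) (k : GL (Fin n) F), (∀ v : Fin n → F,
        ((h : GL (Fin n) F) : Mn) *ᵥ v = a • ((k : Mn) *ᵥ v)) →
        ((h : GL (Fin n) F) : Mn) = a • (k : Mn) := by
      intro a k hak
      apply Matrix.toLin'.injective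
      apply LinearMap.ext
      intro v
      rw [Matrix.toLin'_apply, hak v, Matrix.toLin'_apply, Matrix.smul_mulVec]
    have hne0 : ∀ (a : F) (k : GL (Fin n) F), ((h : GL (Fin n) F) : Mn) = a • (k : Mn) → a ≠ 0 := by
      intro a k hak ha
      rw [ha, zero_smul] at hak
      rw [hak, Matrix.mul_zero] at hhi
      have := congrFun (congrFun hhi ⟨0, by omega⟩) ⟨0, by omega⟩
      simp at this
    rcases hres with ⟨hτ, a, ha⟩ | ⟨hτ, a, ha⟩
    · -- `y = 1`
      have hscal : ((h : GL (Fin n) F) : Mn) = a • ((1 : GL (Fin n) F) : Mn) := by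
        apply hscal_of
        intro v
        have := ha v
        rw [hhdef, hτ] at this
        simp only [RingEquiv.refl_apply] at this
        rw [this, Units.val_one, Matrix.one_mulVec]
      have ha0 := hne0 a 1 hscal
      rw [Units.val_one] at hscal
      have hsc : (h : GL (Fin n) F) ∈ Cfsg.Geo.scalars (Fin n) F :=
        (Cfsg.Geo.mem_scalars_iff _).mpr ⟨Units.mk0 a ha0, hscal⟩
      rw [hyeq, conjU_apply, conjN_eq_one_of_scalar _ hsc, one_mul, hτ]
      exact map_one fieldU
    · -- `y = x`, impossible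
      exfalso
      have hscal : ((h : GL (Fin n) F) : Mn) = a • ((g : GL (Fin n) F) : Mn) := by
        apply hscal_of
        intro v
        have := ha (fun i => τ'.symm (v i))
        rw [hhdef] at this
        simp only [RingEquiv.apply_symm_apply] at this
        rw [this, hτ]
        simp only [RingEquiv.apply_symm_apply]
      have ha0 := hne0 a _ hscal
      have hyx : y = x := by
        rw [hyeq, hx, hτ]
        congr 1
        rw [conjU_apply, conjU_apply, conjN_eq_iff hF hn, Cfsg.Geo.mem_scalars_iff]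
        refine ⟨Units.mk0 a ha0, ?_⟩
        show ((((g : GL (Fin n) F)⁻¹ * (h : GL (Fin n) F) : GL (Fin n) F)) : Mn) = _
        rw [Units.val_mul, hscal, Matrix.mul_smul, ← Units.val_mul, inv_mul_cancel, Units.val_one]
        rfl
      -- `x` has odd order and order two
      apply hx1
      rw [← hyx]
      have h5 := Cfsg.Agent.Lib.Helper44_BalanceGen.sq_pow_of_odd y hNodd hyk
      rw [h5, hyx, hx2, one_pow]

end finite

end Cfsg.Agent.Lib.Helper14_PSUBalCore
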