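import Mathlib
import Cfsg.Agent.Lib.Helper14_ThreeRefl
import Cfsg.Agent.Lib.Helper14_OrthChars
import Cfsg.Agent.Lib.Helper14_CartanDieudonne

set_option autoImplicit false
open Cfsg

/-!
Reflections of one norm class in odd characteristic (helper14): the subgroup `HH Q c` generated by the
reflections `r_v` with `Q v ∈ c (F^×)²` is normal of index 2 (dimension ≠ 3, (n,q) ≠ (4,3)).
Generalizes the machinery of `Cfsg.Agent.S0798`.
-/

namespace Cfsg.Agent.Lib.Helper14_ReflClass

open Matrix Cfsg.Agent.Lib.Helper44_Orth Cfsg.Agent.Lib.Helper44_Refl Cfsg.Agent.Lib.Helper44_Spinor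
  Cfsg.Agent.Lib.Helper44_FinSq
  Cfsg.Agent.Lib.Helper14_OrthChars Cfsg.Agent.Lib.Helper14_CartanDieudonne
  Cfsg.Agent.Lib.Helper14_ThreeRefl

variable {ι : Type} [Fintype ι] [DecidableEq ι] {F : Type*} [Field F]

/-- vectors whose norm lies in the class `c·(F^×)²` -/
def Good (Q : QuadraticForm F (ι → F)) (c : F) (v : ι → F) : Prop := ∃ t : F, t ≠ 0 ∧ Q v = c * t ^ 2

/-- non-singular vectors of the other class -/
def Bad (Q : QuadraticForm F (ι → F)) (c : F) (v : ι → F) : Prop := Q v ≠ 0 ∧ ¬ Good Q c v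

def gens (Q : QuadraticForm F (ι → F)) (c : F) : Set ↥(Cfsg.isometryGroup F (⇑Q)) :=
  {g | ∃ (v : ι → F) (t : F), t ≠ 0 ∧ Q v = c * t ^ 2 ∧
    ((g : Matrix.GeneralLinearGroup ι F) : Matrix ι ι F) = Cfsg.reflectionMatrix (⇑Q) v}

def HH (Q : QuadraticForm F (ι → F)) (c : F) : Subgroup ↥(Cfsg.isometryGroup F (⇑Q)) :=
  Subgroup.closure (gens Q c)

variable {Q : QuadraticForm F (ι → F)} {c : F}

omit [Fintype ι] [DecidableEq ι] in
theorem Good.ne (hc : c ≠ 0) {v : ι → F} (h : Good Q c v) : Q v ≠ 0 := by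
  obtain ⟨t, ht, h⟩ := h
  rw [h]; exact mul_ne_zero hc (pow_ne_zero 2 ht)

theorem refl_mem_HH {v : ι → F} (hv : Q v ≠ 0) (h : Good Q c v) : refl Q v hv ∈ HH Q c := by
  obtain ⟨t, ht, h⟩ := h
  exact Subgroup.subset_closure ⟨v, t, ht, h, refl_coe Q v hv⟩

theorem mem_gens_iff (hc : c ≠ 0) (g : ↥(Cfsg.isometryGroup F (⇑Q))) :
    g ∈ gens Q c ↔ ∃ (v : ι → F) (hv : Q v ≠ 0), Good Q c v ∧ g = refl Q v hv := by
  constructor
  · rintro ⟨v, t, ht, h, hg⟩
    have hv : Q v ≠ 0 := Good.ne hc ⟨t, ht, h⟩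
    exact ⟨v, hv, ⟨t, ht, h⟩, Subtype.ext (Units.ext (by rw [hg, refl_coe]))⟩
  · rintro ⟨v, hv, ⟨t, ht, h⟩, rfl⟩
    exact ⟨v, t, ht, h, refl_coe Q v hv⟩

theorem conj_refl (g : ↥(Cfsg.isometryGroup F (⇑Q))) (v : ι → F) (hv : Q v ≠ 0) :
    ∃ hv' : Q ((g : Matrix.GeneralLinearGroup ι F).1 *ᵥ v) ≠ 0,
      g * refl Q v hv * g⁻¹ = refl Q ((g : Matrix.GeneralLinearGroup ι F).1 *ᵥ v) hv' := by
  have hg := (mem_isometryGroup_iff (⇑Q) g.1).mp g.2 v
  refine ⟨by rw [hg]; exact hv, ?_⟩
  apply Subtype.ext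
  apply Units.ext
  exact conj_reflectionMatrix Q g v

theorem HH_normal (hc : c ≠ 0) : (HH Q c).Normal := by
  have : HH Q c = Subgroup.normalClosure (gens Q c) := by
    apply le_antisymm
    · exact Subgroup.closure_le_normalClosure
    · rw [Subgroup.normalClosure]
      apply Subgroup.closure_mono
      intro a ha
      rw [Group.mem_conjugatesOfSet_iff] at ha
      obtain ⟨b, hb, hba⟩ := ha
      rw [isConj_iff] at hba
      obtain ⟨g, rfl⟩ := hba
      rw [mem_gens_iff hc] at hb ⊢
      obtain ⟨v, hv, hgood, rfl⟩ := hb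
      obtain ⟨hv', hconj⟩ := conj_refl g v hv
      refine ⟨_, hv', ?_, hconj⟩
      obtain ⟨t, ht, h⟩ := hgood
      exact ⟨t, ht, by rw [(mem_isometryGroup_iff (⇑Q) g.1).mp g.2 v]; exact h⟩
  rw [this]
  exact Subgroup.normalClosure_normal

/-! ### squares bookkeeping -/

section sq

variable [Fintype F]

omit [Fintype ι] [DecidableEq ι] [Fintype F] in
theorem good_iff (hc : c ≠ 0) (v : ι → F) : Good Q c v ↔ Q v ≠ 0 ∧ IsSquare (Q v / c) := by
  constructor
  · intro h
    refine ⟨h.ne hc, ?_⟩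
    obtain ⟨t, ht, h⟩ := h
    exact ⟨t, by rw [h]; field_simp⟩
  · rintro ⟨hv, t, ht⟩
    refine ⟨t, ?_, ?_⟩
    · rintro rfl
      apply hv
      have : Q v / c = 0 := by rw [ht]; ring
      rcases div_eq_zero_iff.mp this with h | h
      · exact h
      · exact absurd h hc
    · field_simp at ht
      linear_combination ht

omit [Fintype ι] [DecidableEq ι] [Fintype F] in
theorem bad_iff (hc : c ≠ 0) (v : ι → F) : Bad Q c v ↔ Q v ≠ 0 ∧ ¬ IsSquare (Q v / c) := by
  unfold Bad
  rw [good_iff hc]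
  constructor
  · rintro ⟨h1, h2⟩
    exact ⟨h1, fun h => h2 ⟨h1, h⟩⟩
  · rintro ⟨h1, h2⟩
    exact ⟨h1, fun h => h2 h.2⟩

omit [Fintype ι] [DecidableEq ι] in
/-- the product of two bad norms is a non-zero square -/
theorem bad_mul (hc : c ≠ 0) {v w : ι → F} (hv : Bad Q c v) (hw : Bad Q c w) :
    ∃ s : F, s ≠ 0 ∧ Q v * Q w = s ^ 2 := by
  rw [bad_iff hc] at hv hw
  obtain ⟨s, hs⟩ := isSquare_mul_of_nonsq_of_nonsq hv.2 hw.2
  refine ⟨s * c, ?_, ?_⟩
  · apply mul_ne_zero _ hc
    rintro rfl
    have : Q v / c * (Q w / c) ≠ 0 :=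
      mul_ne_zero (div_ne_zero hv.1 hc) (div_ne_zero hw.1 hc)
    apply this; rw [hs]; ring
  · field_simp at hs
    rw [hs]; ring

omit [Fintype ι] [DecidableEq ι] [Fintype F] in
theorem good_of_mul_sq {u x : ι → F} (hu : Good Q c u) {m : F} (hm : m ≠ 0)
    (hx : Q x = m ^ 2 * Q u) : Good Q c x := by
  obtain ⟨t, ht, h⟩ := hu
  exact ⟨m * t, mul_ne_zero hm ht, by rw [hx, h]; ring⟩

omit [Fintype ι] [DecidableEq ι] [Fintype F] in
theorem bad_of_mul_sq {u x : ι → F} (hu : Bad Q c u) {m : F} (hm : m ≠ 0)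
    (hx : Q x = m ^ 2 * Q u) : Bad Q c x := by
  refine ⟨by rw [hx]; exact mul_ne_zero (pow_ne_zero 2 hm) hu.1, ?_⟩
  intro hgood
  apply hu.2
  apply good_of_mul_sq hgood (inv_ne_zero hm)
  rw [hx]; field_simp

omit [Fintype ι] [DecidableEq ι] [Fintype F] in
theorem good_or_bad {v : ι → F} (hv : Q v ≠ 0) : Good Q c v ∨ Bad Q c v := by
  by_cases h : Good Q c v
  · exact Or.inl h
  · exact Or.inr ⟨hv, h⟩

end sq

/-! ### the character separating the two classes of reflections -/

section chars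

variable [Fintype F]

theorem exists_char (h2 : (2 : F) ≠ 0) (hQ : (QuadraticMap.polarBilin Q).Nondegenerate) (hc : c ≠ 0) :
    ∃ χ : ↥(Cfsg.isometryGroup F (⇑Q)) →* ℤˣ,
      (∀ (v : ι → F) (hv : Q v ≠ 0), Good Q c v → χ (refl Q v hv) = 1) ∧
      (∀ (v : ι → F) (hv : Q v ≠ 0), Bad Q c v → χ (refl Q v hv) = -1) := by
  by_cases hsq : IsSquare c
  · refine ⟨theta Q * detSign h2 Q hQ, ?_, ?_⟩
    · intro v hv hgood
      have h1 : IsSquare (Q v) := by
        have := ((good_iff hc v).mp hgood).2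
        have h3 := (isSquare_mul_sq_iff hc hsq).mpr this
        rwa [div_mul_cancel₀ _ hc] at h3
      rw [MonoidHom.mul_apply, (theta_refl Q h2 v hv).1 h1, detSign_refl]
      rfl
    · intro v hv hbad
      have h1 : ¬ IsSquare (Q v) := by
        intro h
        apply ((bad_iff hc v).mp hbad).2
        have h3 := (isSquare_mul_sq_iff (x := Q v / c) hc hsq).mp
        apply h3
        rwa [div_mul_cancel₀ _ hc]
      rw [MonoidHom.mul_apply, (theta_refl Q h2 v hv).2 h1, detSign_refl]
      rfl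
  · refine ⟨theta Q, ?_, ?_⟩
    · intro v hv hgood
      have h1 : ¬ IsSquare (Q v) := by
        have := ((good_iff hc v).mp hgood).2
        have hne : Q v / c ≠ 0 := div_ne_zero hv hc
        have h3 := (isSquare_mul_nonsq_iff hne hsq).not.mpr (not_not.mpr this)
        rwa [div_mul_cancel₀ _ hc] at h3
      exact (theta_refl Q h2 v hv).2 h1
    · intro v hv hbad
      have h1 : IsSquare (Q v) := by
        have := ((bad_iff hc v).mp hbad).2
        have hne : Q v / c ≠ 0 := div_ne_zero hv hc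
        have h3 := (isSquare_mul_nonsq_iff hne hsq).mpr this
        rwa [div_mul_cancel₀ _ hc] at h3
      exact (theta_refl Q h2 v hv).1 h1

omit [DecidableEq ι] in
theorem exists_bad (h2 : (2 : F) ≠ 0) (hQ : (QuadraticMap.polarBilin Q).Nondegenerate) (hc : c ≠ 0)
    (hn : 2 ≤ Fintype.card ι) : ∃ w : ι → F, Bad Q c w := by
  obtain ⟨ν, hν⟩ := FiniteField.exists_nonsquare (ringChar_ne_two_of_two_ne_zero h2)
  obtain ⟨w, hw⟩ := exists_norm_eq h2 Q hQ hn (c * ν)
  refine ⟨w, ?_⟩
  rw [bad_iff hc, hw]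
  have hν0 : ν ≠ 0 := by
    rintro rfl; exact hν ⟨0, by simp⟩
  refine ⟨mul_ne_zero hc hν0, ?_⟩
  rwa [mul_div_cancel_left₀ _ hc]

end chars

/-! ### products of two bad reflections -/

section key

variable [Fintype F]

theorem pair_mem (h2 : (2 : F) ≠ 0) (hc : c ≠ 0) {v w : ι → F} (hv : Bad Q c v) (hw : Bad Q c w)
    (hD : 4 * Q v * Q w - QuadraticMap.polar (⇑Q) v w ^ 2 ≠ 0) :
    refl Q v hv.1 * refl Q w hw.1 ∈ HH Q c := by
  obtain ⟨l, m, hu⟩ := binary_universal h2 Q v w hv.1 hD c
  have hugood : Good Q c (l • v + m • w) := ⟨1, one_ne_zero, by rw [hu]; ring⟩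
  have hune : Q (l • v + m • w) ≠ 0 := hugood.ne hc
  obtain ⟨hQx, hmat⟩ := three_refl Q v w l m hv.1 hw.1 hune
  obtain ⟨x, hx⟩ : ∃ x, x = (l * Q v + m * QuadraticMap.polar (⇑Q) v w) • w - (m * Q w) • v :=
    ⟨_, rfl⟩
  rw [← hx] at hQx hmat
  obtain ⟨s, hs0, hs⟩ := bad_mul hc hv hw
  have hxgood : Good Q c x := good_of_mul_sq hugood hs0 (by rw [hQx, hs])
  have hxne := hxgood.ne hc
  have h3 : refl Q (l • v + m • w) hune * refl Q v hv.1 * refl Q w hw.1 = refl Q x hxne := by
    apply Subtype.ext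
    apply Units.ext
    exact hmat
  have heq : refl Q v hv.1 * refl Q w hw.1 = refl Q (l • v + m • w) hune * refl Q x hxne := by
    rw [← h3, ← mul_assoc, ← mul_assoc, refl_mul_self, one_mul]
  rw [heq]
  exact (HH Q c).mul_mem (refl_mem_HH hune hugood) (refl_mem_HH hxne hxgood)

omit [Fintype ι] [DecidableEq ι] [Fintype F] in
theorem four_ne_zero' (h2 : (2 : F) ≠ 0) : (4 : F) ≠ 0 := by
  have : (4 : F) = 2 * 2 := by norm_num
  rw [this]; exact mul_ne_zero h2 h2

theorem key_of_bad_orth (h2 : (2 : F) ≠ 0) (hc : c ≠ 0) {v w y : ι → F} (hv : Bad Q c v)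
    (hw : Bad Q c w) (hy : Bad Q c y) (hvy : QuadraticMap.polar (⇑Q) v y = 0)
    (hwy : QuadraticMap.polar (⇑Q) w y = 0) : refl Q v hv.1 * refl Q w hw.1 ∈ HH Q c := by
  have h4 := four_ne_zero' h2
  have h1 := pair_mem h2 hc hv hy (by
    rw [hvy]
    have : 4 * Q v * Q y - 0 ^ 2 = 4 * Q v * Q y := by ring
    rw [this]
    exact mul_ne_zero (mul_ne_zero h4 hv.1) hy.1)
  have h2' := pair_mem h2 hc hy hw (by
    rw [QuadraticMap.polar_comm, hwy]
    have : 4 * Q y * Q w - 0 ^ 2 = 4 * Q y * Q w := by ring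
    rw [this]
    exact mul_ne_zero (mul_ne_zero h4 hy.1) hw.1)
  have : refl Q v hv.1 * refl Q w hw.1
      = (refl Q v hv.1 * refl Q y hy.1) * (refl Q y hy.1 * refl Q w hw.1) := by
    rw [mul_assoc, ← mul_assoc (refl Q y hy.1), refl_mul_self, one_mul]
  rw [this]
  exact (HH Q c).mul_mem h1 h2'

omit [Fintype ι] [DecidableEq ι] in
theorem exists_param (h2 : (2 : F) ≠ 0) (hcard : 3 < Fintype.card F) (δ : F) :
    ∃ α γ : F, γ ≠ 0 ∧ α ^ 2 + δ = γ ^ 2 := by
  classical
  obtain ⟨l, hl0, hl⟩ : ∃ l : F, l ≠ 0 ∧ l ^ 2 ≠ -δ := by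
    by_contra hcon
    push Not at hcon
    have h1 : (1 : F) ^ 2 = -δ := hcon 1 one_ne_zero
    have hall : ∀ x : F, x ∈ ({0, 1, -1} : Finset F) := by
      intro x
      by_cases hx : x = 0
      · simp [hx]
      · have := hcon x hx
        rw [← h1] at this
        have : (x - 1) * (x + 1) = 0 := by linear_combination this
        rcases mul_eq_zero.mp this with h | h
        · have : x = 1 := by linear_combination h
          simp [this]
        · have : x = -1 := by linear_combination h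
          simp [this]
    have : Fintype.card F ≤ 3 := by
      calc Fintype.card F = (Finset.univ : Finset F).card := Finset.card_univ.symm
        _ ≤ ({0, 1, -1} : Finset F).card := Finset.card_le_card (fun x _ => hall x)
        _ ≤ 3 := Finset.card_le_three
    omega
  refine ⟨(δ / l - l) / 2, (l + δ / l) / 2, ?_, ?_⟩
  · intro h
    apply hl
    field_simp at h
    linear_combination h
  · field_simp
    ring

omit [DecidableEq ι] [Fintype F] in
theorem no_isotropic_dim_two (h2 : (2 : F) ≠ 0) (hQ : (QuadraticMap.polarBilin Q).Nondegenerate)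
    (hn2 : Fintype.card ι = 2) {v z : ι → F} (hv : Q v ≠ 0) (hz : z ≠ 0) (hQz : Q z = 0)
    (hvz : QuadraticMap.polar (⇑Q) v z = 0) : False := by
  set B : LinearMap.BilinForm F (ι → F) := QuadraticMap.polarBilin Q with hB
  have hS : Module.finrank F (Submodule.span F {z}) = 1 := finrank_span_singleton hz
  have hO : Module.finrank F (LinearMap.BilinForm.orthogonal B (Submodule.span F {z})) = 1 := by
    rw [LinearMap.BilinForm.finrank_orthogonal hQ, Module.finrank_fintype_fun_eq_card, hS, hn2]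
  have hli : LinearIndependent F ![v, z] := by
    rw [LinearIndependent.pair_iff]
    intro s t hst
    have h1 := congrArg (fun x => QuadraticMap.polar (⇑Q) v x) hst
    simp only [QuadraticMap.polar_add_right, QuadraticMap.polar_smul_right, polar_self, hvz,
      QuadraticMap.polar_zero_right, smul_eq_mul, mul_zero, add_zero] at h1
    have hs : s = 0 := by
      rcases mul_eq_zero.mp h1 with h | h
      · exact h
      · exact absurd h (mul_ne_zero h2 hv)
    rw [hs, zero_smul, zero_add] at hst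
    rcases smul_eq_zero.mp hst with h | h
    · exact ⟨hs, h⟩
    · exact absurd h hz
  have hT : Module.finrank F (Submodule.span F (Set.range ![v, z])) = 2 := by
    rw [finrank_span_eq_card hli]; simp
  have hle : Submodule.span F (Set.range ![v, z])
      ≤ LinearMap.BilinForm.orthogonal B (Submodule.span F {z}) := by
    rw [Submodule.span_le]
    rintro x ⟨i, rfl⟩
    rw [SetLike.mem_coe, LinearMap.BilinForm.mem_orthogonal_iff]
    intro n hn
    obtain ⟨k, rfl⟩ := Submodule.mem_span_singleton.mp hn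
    rw [hB, QuadraticMap.polarBilin_apply_apply, QuadraticMap.polar_smul_left]
    fin_cases i
    · simp [QuadraticMap.polar_comm (⇑Q) z v, hvz]
    · simp [hQz]
  have := Submodule.finrank_mono hle
  omega

omit [DecidableEq ι] [Fintype F] in
/-- Refined version of `exists_nonsingular_orth`: it suffices that the radical `S ⊓ S^⊥` is small. -/
theorem exists_nonsingular_orth'
    (hQ : (QuadraticMap.polarBilin Q).Nondegenerate) (S : Submodule F (ι → F)) (r : ℕ)
    (hR : Module.finrank F ↥(S ⊓ LinearMap.BilinForm.orthogonal (QuadraticMap.polarBilin Q) S) ≤ r)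
    (hdim : r + Module.finrank F S < Fintype.card ι) :
    ∃ y, Q y ≠ 0 ∧ ∀ s ∈ S, QuadraticMap.polar (⇑Q) s y = 0 := by
  by_contra hcon
  push Not at hcon
  set B : LinearMap.BilinForm F (ι → F) := QuadraticMap.polarBilin Q with hB
  have hrefl : LinearMap.BilinForm.IsRefl B := by
    intro x y hxy
    rw [hB, QuadraticMap.polarBilin_apply_apply] at hxy ⊢
    rw [QuadraticMap.polar_comm]; exact hxy
  have hsing : ∀ y ∈ LinearMap.BilinForm.orthogonal B S, Q y = 0 := by
    intro y hy
    by_contra hne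
    obtain ⟨s, hs, hne'⟩ := hcon y hne
    apply hne'
    have := (LinearMap.BilinForm.mem_orthogonal_iff.mp hy) s hs
    rwa [hB, QuadraticMap.polarBilin_apply_apply] at this
  have hle : LinearMap.BilinForm.orthogonal B S ≤ S := by
    intro y hy
    rw [← LinearMap.BilinForm.orthogonal_orthogonal hQ hrefl S]
    rw [LinearMap.BilinForm.mem_orthogonal_iff]
    intro y' hy'
    rw [hB, QuadraticMap.polarBilin_apply_apply]
    have h1 := hsing _ (Submodule.add_mem _ hy' hy)
    simp only [QuadraticMap.polar, h1, hsing y hy, hsing y' hy']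
    ring
  have hfr : Module.finrank F (LinearMap.BilinForm.orthogonal B S)
      = Fintype.card ι - Module.finrank F S := by
    rw [LinearMap.BilinForm.finrank_orthogonal hQ, Module.finrank_fintype_fun_eq_card]
  have hle2 : LinearMap.BilinForm.orthogonal B S ≤ S ⊓ LinearMap.BilinForm.orthogonal B S :=
    le_inf hle le_rfl
  have := Submodule.finrank_mono hle2
  omega

theorem key (h2 : (2 : F) ≠ 0) (hQ : (QuadraticMap.polarBilin Q).Nondegenerate) (hc : c ≠ 0)
    (hn2 : 2 ≤ Fintype.card ι) (hn3 : Fintype.card ι ≠ 3)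
    (h43 : ¬ (Fintype.card ι = 4 ∧ Fintype.card F = 3)) {v w : ι → F} (hv : Bad Q c v)
    (hw : Bad Q c w) : refl Q v hv.1 * refl Q w hw.1 ∈ HH Q c := by
  have h4 := four_ne_zero' h2
  by_cases hD : 4 * Q v * Q w - QuadraticMap.polar (⇑Q) v w ^ 2 ≠ 0
  · exact pair_mem h2 hc hv hw hD
  rw [not_not] at hD
  have hpv := hv.1
  have hpw := hw.1
  obtain ⟨γ, hγdef⟩ : ∃ γ, γ = QuadraticMap.polar (⇑Q) v w / (2 * Q v) := ⟨_, rfl⟩
  obtain ⟨z, hzdef⟩ : ∃ z, z = w - γ • v := ⟨_, rfl⟩
  have hQz : Q z = 0 := by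
    rw [hzdef, map_sub_smul, hγdef]
    field_simp
    linear_combination hD
  have hvz : QuadraticMap.polar (⇑Q) v z = 0 := by
    rw [hzdef, QuadraticMap.polar_sub_right, QuadraticMap.polar_smul_right, polar_self, hγdef,
      smul_eq_mul]
    field_simp
    ring
  by_cases hz : z = 0
  · have hwv : w = γ • v := by
      rw [hz] at hzdef
      exact sub_eq_zero.mp hzdef.symm
    have hγ : γ ≠ 0 := by
      rintro rfl
      apply hpw
      rw [hwv, zero_smul, map_zero]
    have hm : Cfsg.reflectionMatrix (⇑Q) w = Cfsg.reflectionMatrix (⇑Q) v := by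
      rw [hwv]; exact reflectionMatrix_smul Q v hγ
    have : refl Q w hw.1 = refl Q v hv.1 := by
      apply Subtype.ext
      apply Units.ext
      rw [refl_coe, refl_coe, hm]
    rw [this, refl_mul_self]
    exact (HH Q c).one_mem
  have h3 : 3 ≤ Fintype.card ι := by
    by_contra hlt
    have hn2' : Fintype.card ι = 2 := by omega
    exact no_isotropic_dim_two h2 hQ hn2' hpv hz hQz hvz
  have h4' : 4 ≤ Fintype.card ι := by omega
  have hS2 : Module.finrank F (Submodule.span F (Set.range ![v, w])) ≤ 2 := by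
    have := finrank_range_le_card (R := F) ![v, w]
    simpa [Set.finrank] using this
  obtain ⟨y, hy, hyS⟩ := exists_nonsingular_orth h2 Q hQ (Submodule.span F (Set.range ![v, w]))
    (v := v) (Submodule.subset_span ⟨0, rfl⟩) hpv (by omega)
  have hvy : QuadraticMap.polar (⇑Q) v y = 0 := hyS v (Submodule.subset_span ⟨0, rfl⟩)
  have hwy : QuadraticMap.polar (⇑Q) w y = 0 := hyS w (Submodule.subset_span ⟨1, rfl⟩)
  rcases good_or_bad (c := c) hy with hgood | hbad
  swap
  · exact key_of_bad_orth h2 hc hv hw hbad hvy hwy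
  by_cases h5 : 5 ≤ Fintype.card ι
  · have hS3 : Module.finrank F (Submodule.span F (Set.range ![v, w, y])) ≤ 3 := by
      have := finrank_range_le_card (R := F) ![v, w, y]
      simpa [Set.finrank] using this
    have hwz : w = γ • v + z := by rw [hzdef]; abel
    have hrad : Submodule.span F (Set.range ![v, w, y]) ⊓
        LinearMap.BilinForm.orthogonal (QuadraticMap.polarBilin Q)
          (Submodule.span F (Set.range ![v, w, y])) ≤ Submodule.span F {z} := by
      intro s hs
      obtain ⟨hs1, hs2⟩ := Submodule.mem_inf.mp hs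
      obtain ⟨cf, rfl⟩ := (Submodule.mem_span_range_iff_exists_fun F).mp hs1
      rw [LinearMap.BilinForm.mem_orthogonal_iff] at hs2
      have ey := hs2 y (Submodule.subset_span ⟨2, rfl⟩)
      have ev := hs2 v (Submodule.subset_span ⟨0, rfl⟩)
      simp only [Fin.sum_univ_three, Matrix.cons_val_zero, Matrix.cons_val_one, Matrix.cons_val_two,
        Matrix.head_cons, Matrix.tail_cons, QuadraticMap.polarBilin_apply_apply,
        QuadraticMap.polar_add_right, QuadraticMap.polar_smul_right, polar_self, smul_eq_mul,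
        QuadraticMap.polar_comm (⇑Q) y v, QuadraticMap.polar_comm (⇑Q) y w, hvy, hwy, mul_zero,
        zero_add, add_zero] at ey ev
      have hc2 : cf 2 = 0 := by
        rcases mul_eq_zero.mp ey with h | h
        · exact h
        · exact absurd h (mul_ne_zero h2 hy)
      have hc0 : cf 0 = -(cf 1 * γ) := by
        rw [hγdef]
        field_simp
        linear_combination ev
      rw [Submodule.mem_span_singleton]
      refine ⟨cf 1, ?_⟩
      simp only [Fin.sum_univ_three, Matrix.cons_val_zero, Matrix.cons_val_one, Matrix.cons_val_two,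
        Matrix.head_cons, Matrix.tail_cons, hc2, hc0, zero_smul, add_zero]
      rw [hzdef]
      module
    have hrad1 : Module.finrank F ↥(Submodule.span F (Set.range ![v, w, y]) ⊓
        LinearMap.BilinForm.orthogonal (QuadraticMap.polarBilin Q)
          (Submodule.span F (Set.range ![v, w, y]))) ≤ 1 := by
      have := Submodule.finrank_mono hrad
      rwa [finrank_span_singleton hz] at this
    obtain ⟨y', hy', hyS'⟩ := exists_nonsingular_orth' hQ
      (Submodule.span F (Set.range ![v, w, y])) 1 hrad1 (by omega)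
    have hvy' : QuadraticMap.polar (⇑Q) v y' = 0 := hyS' v (Submodule.subset_span ⟨0, rfl⟩)
    have hwy' : QuadraticMap.polar (⇑Q) w y' = 0 := hyS' w (Submodule.subset_span ⟨1, rfl⟩)
    have hyy' : QuadraticMap.polar (⇑Q) y y' = 0 := hyS' y (Submodule.subset_span ⟨2, rfl⟩)
    obtain ⟨ν, hν⟩ := FiniteField.exists_nonsquare (F := F) (ringChar_ne_two_of_two_ne_zero h2)
    have hν0 : ν ≠ 0 := by
      rintro rfl; exact hν ⟨0, by simp⟩
    obtain ⟨l, m, hlm⟩ := binary_universal h2 Q y y' hy (by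
      rw [hyy']
      have : 4 * Q y * Q y' - 0 ^ 2 = 4 * Q y * Q y' := by ring
      rw [this]
      exact mul_ne_zero (mul_ne_zero h4 hy) hy') (c * ν)
    have hbad'' : Bad Q c (l • y + m • y') := by
      rw [bad_iff hc, hlm]
      refine ⟨mul_ne_zero hc hν0, ?_⟩
      rwa [mul_div_cancel_left₀ _ hc]
    refine key_of_bad_orth h2 hc hv hw hbad'' ?_ ?_
    · rw [QuadraticMap.polar_add_right, QuadraticMap.polar_smul_right, QuadraticMap.polar_smul_right,
        hvy, hvy']
      simp
    · rw [QuadraticMap.polar_add_right, QuadraticMap.polar_smul_right, QuadraticMap.polar_smul_right,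
        hwy, hwy']
      simp
  · have hn4 : Fintype.card ι = 4 := by omega
    have hq : 3 < Fintype.card F := by
      have hodd := odd_card_of_two_ne_zero h2
      have h1 := Fintype.one_lt_card (α := F)
      have : Fintype.card F ≠ 3 := fun h => h43 ⟨hn4, h⟩
      obtain ⟨k, hk⟩ := hodd
      omega
    obtain ⟨α, γ', hγ', hαγ⟩ := exists_param h2 hq (Q y / Q v)
    obtain ⟨x, hxdef⟩ : ∃ x, x = α • v + (1 : F) • y := ⟨_, rfl⟩
    have hQx' : Q x = α ^ 2 * Q v + Q y := by
      rw [hxdef, map_lin_comb, hvy]; ring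
    have hQx : Q x = γ' ^ 2 * Q v := by
      rw [hQx', ← hαγ]
      field_simp
    have hxbad : Bad Q c x := bad_of_mul_sq hv hγ' hQx
    have hvx : QuadraticMap.polar (⇑Q) v x = 2 * α * Q v := by
      rw [hxdef, QuadraticMap.polar_add_right, QuadraticMap.polar_smul_right,
        QuadraticMap.polar_smul_right, polar_self, hvy]
      simp only [smul_eq_mul]
      ring
    have hxw : QuadraticMap.polar (⇑Q) x w = α * QuadraticMap.polar (⇑Q) v w := by
      rw [hxdef, QuadraticMap.polar_add_left, QuadraticMap.polar_smul_left,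
        QuadraticMap.polar_smul_left, QuadraticMap.polar_comm (⇑Q) y w, hwy]
      simp
    have h1 := pair_mem h2 hc hv hxbad (by
      rw [hvx, hQx']
      have : 4 * Q v * (α ^ 2 * Q v + Q y) - (2 * α * Q v) ^ 2 = 4 * Q v * Q y := by ring
      rw [this]
      exact mul_ne_zero (mul_ne_zero h4 hpv) hy)
    have h2' := pair_mem h2 hc hxbad hw (by
      rw [hxw, hQx']
      have : 4 * (α ^ 2 * Q v + Q y) * Q w - (α * QuadraticMap.polar (⇑Q) v w) ^ 2
          = 4 * Q y * Q w := by linear_combination α ^ 2 * hD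
      rw [this]
      exact mul_ne_zero (mul_ne_zero h4 hy) hpw)
    have : refl Q v hv.1 * refl Q w hw.1
        = (refl Q v hv.1 * refl Q x hxbad.1) * (refl Q x hxbad.1 * refl Q w hw.1) := by
      rw [mul_assoc, ← mul_assoc (refl Q x hxbad.1), refl_mul_self, one_mul]
    rw [this]
    exact (HH Q c).mul_mem h1 h2'

end key

/-- The subgroup generated by the reflections of one norm class has index two. -/
theorem HH_index [Fintype F] (h2 : (2 : F) ≠ 0) (hQ : (QuadraticMap.polarBilin Q).Nondegenerate)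
    (hc : c ≠ 0) (hn2 : 2 ≤ Fintype.card ι) (hn3 : Fintype.card ι ≠ 3)
    (h43 : ¬ (Fintype.card ι = 4 ∧ Fintype.card F = 3)) : (HH Q c).index = 2 := by
  classical
  obtain ⟨χ, hχg, hχb⟩ := exists_char h2 hQ hc
  obtain ⟨w₀, hw₀⟩ := exists_bad h2 hQ hc hn2
  have hnormal : (HH Q c).Normal := HH_normal hc
  have hle : HH Q c ≤ χ.ker := by
    rw [HH, Subgroup.closure_le]
    intro g hg
    rw [mem_gens_iff hc] at hg
    obtain ⟨v, hv, hgood, rfl⟩ := hg
    exact MonoidHom.mem_ker.mpr (hχg v hv hgood)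
  have hindex : χ.ker.index = 2 := index_ker_eq_two χ (refl Q w₀ hw₀.1) (hχb w₀ hw₀.1 hw₀)
  have hkey : ∀ (v w : ι → F) (hv : Bad Q c v) (hw : Bad Q c w),
      refl Q v hv.1 * refl Q w hw.1 ∈ HH Q c := fun v w hv hw =>
    key h2 hQ hc hn2 hn3 h43 hv hw
  obtain ⟨r₀, hr₀⟩ : ∃ r, r = refl Q w₀ hw₀.1 := ⟨_, rfl⟩
  have hrr : r₀ * r₀ = 1 := by rw [hr₀]; exact refl_mul_self Q w₀ hw₀.1
  have hrinv : r₀⁻¹ = r₀ := inv_eq_of_mul_eq_one_left hrr
  have hneg : (1 : ℤˣ) ≠ -1 := by decide
  have hall : ∀ g : ↥(Cfsg.isometryGroup F ⇑Q),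
      (χ g = 1 → g ∈ HH Q c) ∧ (χ g = -1 → g * r₀ ∈ HH Q c) := by
    intro g
    have hg : g ∈ Subgroup.closure {g : ↥(Cfsg.isometryGroup F (⇑Q)) |
        ∃ (v : ι → F) (hv : Q v ≠ 0), g = refl Q v hv} := by
      rw [closure_refl_eq_top h2 Q hQ]; trivial
    refine Subgroup.closure_induction
      (p := fun g _ => (χ g = 1 → g ∈ HH Q c) ∧ (χ g = -1 → g * r₀ ∈ HH Q c)) ?_ ?_ ?_ ?_ hg
    · rintro x ⟨v, hv, rfl⟩
      rcases good_or_bad (c := c) hv with hgood | hbad
      · refine ⟨fun _ => refl_mem_HH hv hgood, fun h => ?_⟩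
        rw [hχg v hv hgood] at h
        exact absurd h hneg
      · refine ⟨fun h => ?_, fun _ => ?_⟩
        · rw [hχb v hv hbad] at h
          exact absurd h.symm hneg
        · rw [hr₀]
          exact hkey v w₀ hbad hw₀
    · refine ⟨fun _ => (HH Q c).one_mem, fun h => ?_⟩
      rw [map_one] at h
      exact absurd h hneg
    · intro x y _ _ px py
      rcases Int.units_eq_one_or (χ x) with hx1 | hx1 <;>
        rcases Int.units_eq_one_or (χ y) with hy1 | hy1
      · refine ⟨fun _ => (HH Q c).mul_mem (px.1 hx1) (py.1 hy1), fun h => ?_⟩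
        rw [map_mul, hx1, hy1] at h
        exact absurd h (by decide)
      · refine ⟨fun h => ?_, fun _ => ?_⟩
        · rw [map_mul, hx1, hy1] at h
          exact absurd h (by decide)
        · rw [mul_assoc]
          exact (HH Q c).mul_mem (px.1 hx1) (py.2 hy1)
      · refine ⟨fun h => ?_, fun _ => ?_⟩
        · rw [map_mul, hx1, hy1] at h
          exact absurd h (by decide)
        · have h1 : r₀ * y * r₀ ∈ HH Q c := by
            have := hnormal.conj_mem y (py.1 hy1) r₀
            rwa [hrinv] at this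
          have h3 : x * y * r₀ = (x * r₀) * (r₀ * y * r₀) := by
            have : (x * r₀) * (r₀ * y * r₀) = x * (r₀ * r₀) * y * r₀ := by group
            rw [this, hrr, mul_one]
          rw [h3]
          exact (HH Q c).mul_mem (px.2 hx1) h1
      · refine ⟨fun _ => ?_, fun h => ?_⟩
        · have h1 : r₀ * y ∈ HH Q c := by
            have := hnormal.conj_mem (y * r₀) (py.2 hy1) r₀
            have e : r₀ * (y * r₀) * r₀⁻¹ = r₀ * y := by group
            rwa [e] at this
          have h3 : x * y = (x * r₀) * (r₀ * y) := by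
            have : (x * r₀) * (r₀ * y) = x * (r₀ * r₀) * y := by group
            rw [this, hrr, mul_one]
          rw [h3]
          exact (HH Q c).mul_mem (px.2 hx1) h1
        · rw [map_mul, hx1, hy1] at h
          exact absurd h (by decide)
    · intro x _ px
      rcases Int.units_eq_one_or (χ x) with hx1 | hx1
      · refine ⟨fun _ => (HH Q c).inv_mem (px.1 hx1), fun h => ?_⟩
        rw [map_inv, hx1] at h
        exact absurd h (by decide)
      · refine ⟨fun h => ?_, fun _ => ?_⟩
        · rw [map_inv, hx1] at h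
          exact absurd h (by decide)
        · have h1 : r₀ * x ∈ HH Q c := by
            have := hnormal.conj_mem (x * r₀) (px.2 hx1) r₀
            have e : r₀ * (x * r₀) * r₀⁻¹ = r₀ * x := by group
            rwa [e] at this
          have h3 : x⁻¹ * r₀ = (r₀ * x)⁻¹ := by
            rw [_root_.mul_inv_rev, hrinv]
          rw [h3]
          exact (HH Q c).inv_mem h1
  have heq : HH Q c = χ.ker :=
    le_antisymm hle (fun g hg => (hall g).1 (MonoidHom.mem_ker.mp hg))
  rw [heq]
  exact hindex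


end Cfsg.Agent.Lib.Helper14_ReflClass
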