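import Mathlib
import Cfsg.Agent.Lib.Helper40_GLClassDefs

set_option autoImplicit false

/-!
S2478-CONJ (helper14): invertible matrices with the same multiset of elementary divisors are
conjugate in `GL_n(F)`.
-/

namespace Cfsg.Agent.Lib.Helper14_S2478_CONJ

open Polynomial DirectSum Cfsg.Agent.Lib.Helper40_GLClassDefs

universe u

/-- two indexings of the same multiset differ by a bijection of the index types -/
theorem exists_equiv_of_map_eq {ι ι' : Type u} [Fintype ι] [Fintype ι'] {α : Type*}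
    (f : ι → α) (f' : ι' → α)
    (h : (Finset.univ : Finset ι).val.map f = (Finset.univ : Finset ι').val.map f') :
    ∃ σ : ι ≃ ι', ∀ i, f' (σ i) = f i := by
  classical
  have hc : ∀ c : α, Fintype.card {i // f i = c} = Fintype.card {i' // f' i' = c} := by
    intro c
    have h1 := congrArg (Multiset.count c) h
    rw [Multiset.count_map, Multiset.count_map] at h1
    rw [Fintype.card_subtype, Fintype.card_subtype]
    have e1 : (Finset.univ.filter (fun i : ι => f i = c)).card
        = Multiset.card (Multiset.filter (fun a => c = f a) (Finset.univ : Finset ι).val) := by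
      rw [← Finset.filter_val, Finset.card_def]
      congr 2
      ext i
      simp [eq_comm]
    have e2 : (Finset.univ.filter (fun i : ι' => f' i = c)).card
        = Multiset.card (Multiset.filter (fun a => c = f' a) (Finset.univ : Finset ι').val) := by
      rw [← Finset.filter_val, Finset.card_def]
      congr 2
      ext i
      simp [eq_comm]
    rw [e1, e2, h1]
  let ec : ∀ c : α, {i // f i = c} ≃ {i' // f' i' = c} := fun c => Fintype.equivOfCardEq (hc c)
  exact ⟨Equiv.ofFiberEquiv ec, fun i => Equiv.ofFiberEquiv_map ec i⟩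

theorem conj {F : Type u} [Field F] (n : ℕ) (g g' : Matrix.GeneralLinearGroup (Fin n) F)
    (μ : Multiset (F[X] × ℕ))
    (h : Rep (Matrix.toLin' (g : Matrix (Fin n) (Fin n) F)) μ)
    (h' : Rep (Matrix.toLin' (g' : Matrix (Fin n) (Fin n) F)) μ) : IsConj g g' := by
  classical
  obtain ⟨ι, _, p, e, hμ, ⟨φ⟩⟩ := h
  obtain ⟨ι', _, p', e', hμ', ⟨φ'⟩⟩ := h'
  set T := Matrix.toLin' (g : Matrix (Fin n) (Fin n) F) with hT
  set T' := Matrix.toLin' (g' : Matrix (Fin n) (Fin n) F) with hT'
  obtain ⟨σ, hσ⟩ := exists_equiv_of_map_eq (fun i => (p i, e i)) (fun i' => (p' i', e' i'))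
    (hμ.symm.trans hμ')
  -- reindexing the direct sum
  have hsp : ∀ k : ι', Submodule.span F[X] {p (σ.symm k) ^ e (σ.symm k)}
      = Submodule.span F[X] {p' k ^ e' k} := by
    intro k
    have h1 := hσ (σ.symm k)
    rw [Equiv.apply_symm_apply] at h1
    have h2 : p' k = p (σ.symm k) := congrArg Prod.fst h1
    have h3 : e' k = e (σ.symm k) := congrArg Prod.snd h1
    rw [h2, h3]
  let ψ1 : (⨁ i : ι, F[X] ⧸ Submodule.span F[X] {p i ^ e i})
      ≃ₗ[F[X]] ⨁ k : ι', F[X] ⧸ Submodule.span F[X] {p (σ.symm k) ^ e (σ.symm k)} :=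
    DirectSum.lequivCongrLeft F[X] σ
  let ψ2 : (⨁ k : ι', F[X] ⧸ Submodule.span F[X] {p (σ.symm k) ^ e (σ.symm k)})
      ≃ₗ[F[X]] ⨁ k : ι', F[X] ⧸ Submodule.span F[X] {p' k ^ e' k} :=
    DFinsupp.mapRange.linearEquiv (fun k => Submodule.quotEquivOfEq _ _ (hsp k))
  let Φ : Module.AEval' T ≃ₗ[F[X]] Module.AEval' T' := (φ.trans (ψ1.trans ψ2)).trans φ'.symm
  -- the `F`-linear equivalence of `F ^ n`
  let Ψ : (Fin n → F) ≃ₗ[F] (Fin n → F) :=
    ((Module.AEval'.of T).trans (Φ.restrictScalars F)).trans (Module.AEval'.of T').symm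
  have hΨ : ∀ v, Ψ (T v) = T' (Ψ v) := by
    intro v
    show (Module.AEval'.of T').symm (Φ (Module.AEval'.of T (T v)))
      = T' ((Module.AEval'.of T').symm (Φ (Module.AEval'.of T v)))
    rw [← Module.AEval'.X_smul_of, map_smul, Module.AEval'.of_symm_X_smul]
  -- matrices
  set P : Matrix (Fin n) (Fin n) F := LinearMap.toMatrix' (Ψ : (Fin n → F) →ₗ[F] (Fin n → F))
    with hP
  set Q : Matrix (Fin n) (Fin n) F := LinearMap.toMatrix' (Ψ.symm : (Fin n → F) →ₗ[F] (Fin n → F))
    with hQ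
  have hPQ : P * Q = 1 := by
    rw [hP, hQ, ← LinearMap.toMatrix'_comp]
    have : (Ψ : (Fin n → F) →ₗ[F] (Fin n → F)).comp (Ψ.symm : (Fin n → F) →ₗ[F] (Fin n → F))
        = LinearMap.id := by
      ext v : 1
      simp
    rw [this, LinearMap.toMatrix'_id]
  have hQP : Q * P = 1 := by
    rw [hP, hQ, ← LinearMap.toMatrix'_comp]
    have : (Ψ.symm : (Fin n → F) →ₗ[F] (Fin n → F)).comp (Ψ : (Fin n → F) →ₗ[F] (Fin n → F))
        = LinearMap.id := by
      ext v : 1
      simp
    rw [this, LinearMap.toMatrix'_id]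
  have hPg : P * (g : Matrix (Fin n) (Fin n) F) = (g' : Matrix (Fin n) (Fin n) F) * P := by
    have h1 : (Ψ : (Fin n → F) →ₗ[F] (Fin n → F)).comp T
        = T'.comp (Ψ : (Fin n → F) →ₗ[F] (Fin n → F)) :=
      LinearMap.ext fun v => hΨ v
    have h2 := congrArg LinearMap.toMatrix' h1
    rw [LinearMap.toMatrix'_comp, LinearMap.toMatrix'_comp, hT, hT', LinearMap.toMatrix'_toLin',
      LinearMap.toMatrix'_toLin'] at h2
    exact h2
  rw [isConj_iff]
  refine ⟨⟨P, Q, hPQ, hQP⟩, ?_⟩
  rw [mul_inv_eq_iff_eq_mul]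
  apply Units.ext
  rw [Units.val_mul, Units.val_mul]
  exact hPg

end Cfsg.Agent.Lib.Helper14_S2478_CONJ
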