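import Mathlib
import Cfsg.Agent.Lib.Helper40_GLClassDefs

set_option autoImplicit false

/-!
S2478-UNIT (helper14): the elementary divisors of an injective endomorphism have nonzero constant
term.
-/

namespace Cfsg.Agent.Lib.Helper14_S2478_UNIT

open Polynomial DirectSum Cfsg.Agent.Lib.Helper40_GLClassDefs

universe u

theorem unit {F : Type u} [Field F] {V : Type u} [AddCommGroup V] [Module F V]
    (T : Module.End F V) (hT : Function.Injective T) (μ : Multiset (F[X] × ℕ)) (h : Rep T μ) :
    ∀ x ∈ μ, Irreducible x.1 → 0 < x.2 → x.1.coeff 0 ≠ 0 := by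
  classical
  obtain ⟨ι, _, p, e, rfl, ⟨φ⟩⟩ := h
  intro x hx hirr hpos h0
  rw [Multiset.mem_map] at hx
  obtain ⟨i, -, rfl⟩ := hx
  simp only at hirr hpos h0
  -- `p i = X * u`
  obtain ⟨u, hu⟩ : (X : F[X]) ∣ p i := Polynomial.X_dvd_iff.mpr h0
  have hp0 : p i ≠ 0 := hirr.ne_zero
  have hu0 : u ≠ 0 := by
    rintro rfl
    rw [mul_zero] at hu
    exact hp0 hu
  set w : F[X] := u * p i ^ (e i - 1) with hw
  have hw0 : w ≠ 0 := mul_ne_zero hu0 (pow_ne_zero _ hp0)
  have hXw : X * w = p i ^ e i := by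
    have he : e i = (e i - 1) + 1 := by omega
    rw [hw, ← mul_assoc, ← hu]
    conv_rhs => rw [he, pow_succ']
  -- `w` is not divisible by `p i ^ e i`
  have hndvd : ¬ p i ^ e i ∣ w := by
    intro hd
    have h1 := Polynomial.natDegree_le_of_dvd hd hw0
    have h2 : (X * w).natDegree = w.natDegree + 1 := by
      rw [mul_comm, Polynomial.natDegree_mul_X hw0]
    rw [hXw] at h2
    omega
  set m : ⨁ j : ι, F[X] ⧸ Submodule.span F[X] {p j ^ e j} :=
    DirectSum.of (fun j : ι => F[X] ⧸ Submodule.span F[X] {p j ^ e j}) i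
      (Submodule.Quotient.mk w) with hm
  have hm0 : m ≠ 0 := by
    intro h
    have h1 : (Submodule.Quotient.mk w : F[X] ⧸ Submodule.span F[X] {p i ^ e i}) = 0 := by
      have := congrArg (fun z : ⨁ j : ι, F[X] ⧸ Submodule.span F[X] {p j ^ e j} => z i) h
      simpa [hm, DirectSum.of_eq_same] using this
    rw [Submodule.Quotient.mk_eq_zero, Submodule.mem_span_singleton] at h1
    obtain ⟨c, hc⟩ := h1
    exact hndvd ⟨c, by rw [← hc]; exact (smul_eq_mul c _).symm.trans (mul_comm _ _) |>.symm ▸ rfl⟩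
  have hXm : (X : F[X]) • m = 0 := by
    rw [hm]
    have h1 : (X : F[X]) • (Submodule.Quotient.mk w : F[X] ⧸ Submodule.span F[X] {p i ^ e i}) = 0 := by
      rw [← Submodule.Quotient.mk_smul, smul_eq_mul, hXw, Submodule.Quotient.mk_eq_zero]
      exact Submodule.mem_span_singleton_self _
    rw [← DirectSum.of_smul, h1, map_zero]
  -- pull back
  set v : Module.AEval' T := φ.symm m with hv
  have hv0 : v ≠ 0 := by
    intro h
    apply hm0
    have := congrArg φ h
    rwa [hv, LinearEquiv.apply_symm_apply, map_zero] at this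
  have hXv : (X : F[X]) • v = 0 := by
    rw [hv, ← map_smul, hXm, map_zero]
  set v0 : V := (Module.AEval'.of T).symm v with hv0def
  have hvv : v = Module.AEval'.of T v0 := by rw [hv0def, LinearEquiv.apply_symm_apply]
  rw [hvv, Module.AEval'.X_smul_of] at hXv
  have h1 : T v0 = 0 := by
    have := congrArg (Module.AEval'.of T).symm hXv
    rwa [LinearEquiv.symm_apply_apply, map_zero] at this
  have h2 : v0 = 0 := hT (by rw [h1, map_zero])
  apply hv0
  rw [hvv, h2, map_zero]

end Cfsg.Agent.Lib.Helper14_S2478_UNIT
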