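import Mathlib

/-!
A verified checker for coset-table certificates (Todd-Coxeter style), for groups generated by
involutions `S 0, …, S (k-1)` subject to relations `(S i * S j) ^ mat i j = 1`, relative to a
subgroup `H` containing the generators flagged by `inH`.  By helper19.

A certificate lists, for cosets `0, …, N-1`: the table `tbl` (row `x`, column `i` is the coset
`S i • x`), a word for each coset representative, and for each edge `(x, i)` a rank together with a
justification why `S i * rep x ∈ rep (act i x) * H`, using only edges of smaller rank.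
-/

set_option autoImplicit false

namespace Cfsg.Agent.Lib.helper19_TC

/-- Justification of an edge of the coset table. -/
inductive Just where
  | base : Just
  | tree : Just
  | mirror : Just
  | scan (x0 i j e : ℕ) : Just

/-- A coset-table certificate. -/
structure Cert where
  k : ℕ
  N : ℕ
  tbl : List (List ℕ)
  words : List (List ℕ)
  rk : List (List ℕ)
  just : List (List Just)

/-- The alternating word `[j, i, j, i, …]` of length `2 m`. -/
def relWord (i j : ℕ) : ℕ → List ℕ
  | 0 => []
  | m + 1 => j :: i :: relWord i j m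

namespace Cert
variable (c : Cert)

def act (i x : ℕ) : ℕ := (c.tbl.getD x []).getD i 0
def rank (x i : ℕ) : ℕ := (c.rk.getD x []).getD i 0
def jst (x i : ℕ) : Just := (c.just.getD x []).getD i Just.base
def word (x : ℕ) : List ℕ := c.words.getD x []

/-- endpoint of the path from `x` along the word `w` (first letter first). -/
def trace : List ℕ → ℕ → ℕ
  | [], x => x
  | g :: w, x => trace w (c.act g x)

/-- all edges along the path from `x` along `w` have rank `< r`. -/
def lowRank (r : ℕ) : List ℕ → ℕ → Bool
  | [], _ => true
  | g :: w, x => decide (c.rank x g < r) && lowRank r w (c.act g x)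

/-- the check of one edge. -/
def validEdge (mat : ℕ → ℕ → ℕ) (inH : ℕ → Bool) (x i : ℕ) : Bool :=
  match c.jst x i with
  | .base => (x == 0) && (c.act i x == 0) && inH i
  | .tree => c.word (c.act i x) == i :: c.word x
  | .mirror => (c.act i (c.act i x) == x) && decide (c.rank (c.act i x) i < c.rank x i)
  | .scan x0 i' j' e =>
      decide (x0 < c.N) && decide (i' < c.k) && decide (j' < c.k) &&
      ((relWord i' j' (mat i' j'))[e]? == some i) &&
      (c.trace ((relWord i' j' (mat i' j')).take e) x0 == x) &&
      c.lowRank (c.rank x i) ((relWord i' j' (mat i' j')).take e) x0 &&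
      c.lowRank (c.rank x i) ((relWord i' j' (mat i' j')).drop (e + 1)) (c.act i x) &&
      (c.trace ((relWord i' j' (mat i' j')).drop (e + 1)) (c.act i x) == x0)

/-- the full check. -/
def check (mat : ℕ → ℕ → ℕ) (inH : ℕ → Bool) : Bool :=
  decide (0 < c.N) && (c.word 0 == []) &&
  (List.range c.N).all (fun x => (List.range c.k).all fun i =>
    decide (c.act i x < c.N) && c.validEdge mat inH x i)

end Cert

section sound
variable {W : Type*} [Group W] (S : ℕ → W)

/-- product of a word, head leftmost. -/
def wprodL : List ℕ → W
  | [] => 1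
  | g :: w => S g * wprodL w

/-- product of a word, head rightmost (first letter acts first). -/
def wprodR : List ℕ → W
  | [] => 1
  | g :: w => wprodR w * S g

lemma wprodR_append (w1 w2 : List ℕ) : wprodR S (w1 ++ w2) = wprodR S w2 * wprodR S w1 := by
  induction w1 with
  | nil => simp [wprodR]
  | cons g w ih => simp [wprodR, ih, mul_assoc]

lemma wprodR_relWord (i j m : ℕ) : wprodR S (relWord i j m) = (S i * S j) ^ m := by
  induction m with
  | zero => simp [relWord, wprodR]
  | succ m ih => simp [relWord, wprodR, ih, pow_succ, mul_assoc]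

variable (c : Cert)

/-- the coset representative of `x`. -/
def rep (x : ℕ) : W := wprodL S (c.word x)

/-- the label of the edge `(x, i)`; the edge is good when the label lies in `H`. -/
def lbl (x i : ℕ) : W := (rep S c (c.act i x))⁻¹ * S i * rep S c x

/-- the product of the labels along a path. -/
def lab : List ℕ → ℕ → W
  | [], _ => 1
  | g :: w, x => lab w (c.act g x) * lbl S c x g

lemma lab_eq (w : List ℕ) (x : ℕ) :
    lab S c w x = (rep S c (c.trace w x))⁻¹ * wprodR S w * rep S c x := by
  induction w generalizing x with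
  | nil => simp [lab, Cert.trace, wprodR]
  | cons g w ih =>
    simp only [lab, Cert.trace, wprodR, ih, lbl]
    group

lemma lab_append (w1 w2 : List ℕ) (x : ℕ) :
    lab S c (w1 ++ w2) x = lab S c w2 (c.trace w1 x) * lab S c w1 x := by
  induction w1 generalizing x with
  | nil => simp [lab, Cert.trace]
  | cons g w ih => simp [lab, Cert.trace, ih, mul_assoc]

lemma trace_append (w1 w2 : List ℕ) (x : ℕ) :
    c.trace (w1 ++ w2) x = c.trace w2 (c.trace w1 x) := by
  induction w1 generalizing x with
  | nil => simp [Cert.trace]
  | cons g w ih => simp [Cert.trace, ih]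

variable {S c}

/-- along a path of low rank, all labels lie in `H`. -/
lemma lab_mem (H : Subgroup W) {r : ℕ}
    (hclosed : ∀ x < c.N, ∀ i < c.k, c.act i x < c.N)
    (ih : ∀ x < c.N, ∀ i < c.k, c.rank x i < r → lbl S c x i ∈ H)
    (w : List ℕ) (hw : ∀ g ∈ w, g < c.k) (x : ℕ) (hx : x < c.N) (hlow : c.lowRank r w x = true) :
    lab S c w x ∈ H := by
  induction w generalizing x with
  | nil => simp [lab]
  | cons g w ihw =>
    simp only [Cert.lowRank, Bool.and_eq_true, decide_eq_true_eq] at hlow
    have hg : g < c.k := hw g (by simp)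
    simp only [lab]
    apply H.mul_mem
    · exact ihw (fun g' hg' => hw g' (by simp [hg'])) _ (hclosed x hx g hg) hlow.2
    · exact ih x hx g hg hlow.1

lemma mem_relWord {i j m g : ℕ} (hg : g ∈ relWord i j m) : g = i ∨ g = j := by
  induction m with
  | zero => simp [relWord] at hg
  | succ m ih =>
    simp only [relWord, List.mem_cons] at hg
    rcases hg with h | h | h
    · exact Or.inr h
    · exact Or.inl h
    · exact ih h

/-- soundness of the checker: every edge is good. -/
theorem lbl_mem_of_check (H : Subgroup W) (mat : ℕ → ℕ → ℕ) (inH : ℕ → Bool)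
    (hS2 : ∀ i < c.k, S i * S i = 1)
    (hrel : ∀ i < c.k, ∀ j < c.k, (S i * S j) ^ mat i j = 1)
    (hH : ∀ i < c.k, inH i = true → S i ∈ H)
    (hc : c.check mat inH = true) :
    ∀ x < c.N, ∀ i < c.k, lbl S c x i ∈ H := by
  simp only [Cert.check, Bool.and_eq_true, decide_eq_true_eq, List.all_eq_true, List.mem_range,
    beq_iff_eq] at hc
  obtain ⟨⟨-, hw0⟩, hall⟩ := hc
  have hclosed : ∀ x < c.N, ∀ i < c.k, c.act i x < c.N := fun x hx i hi => (hall x hx i hi).1
  have hvalid : ∀ x < c.N, ∀ i < c.k, c.validEdge mat inH x i = true :=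
    fun x hx i hi => (hall x hx i hi).2
  have hrep0 : rep S c 0 = 1 := by simp [rep, hw0, wprodL]
  -- strong induction on the rank
  have key : ∀ r : ℕ, ∀ x < c.N, ∀ i < c.k, c.rank x i = r → lbl S c x i ∈ H := by
    intro r
    induction r using Nat.strong_induction_on with
    | _ r ihr =>
      intro x hx i hi hr
      have ih : ∀ x' < c.N, ∀ i' < c.k, c.rank x' i' < r → lbl S c x' i' ∈ H :=
        fun x' hx' i' hi' hlt => ihr _ hlt x' hx' i' hi' rfl
      have hv := hvalid x hx i hi
      cases hj : c.jst x i with
      | base =>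
        simp only [Cert.validEdge, hj, Bool.and_eq_true, beq_iff_eq] at hv
        obtain ⟨⟨hx0, hy0⟩, hin⟩ := hv
        subst hx0
        simp only [lbl, hy0, hrep0, inv_one, one_mul, mul_one]
        exact hH i hi hin
      | tree =>
        simp only [Cert.validEdge, hj, beq_iff_eq] at hv
        have : rep S c (c.act i x) = S i * rep S c x := by
          simp [rep, hv, wprodL]
        simp only [lbl, this]
        have : (S i * rep S c x)⁻¹ * S i * rep S c x = 1 := by group
        rw [this]; exact H.one_mem
      | mirror =>
        simp only [Cert.validEdge, hj, Bool.and_eq_true, beq_iff_eq, decide_eq_true_eq] at hv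
        obtain ⟨hyx, hlt⟩ := hv
        have hy : c.act i x < c.N := hclosed x hx i hi
        have h1 : lbl S c (c.act i x) i ∈ H := ih _ hy i hi (hr ▸ hlt)
        simp only [lbl, hyx] at h1
        have hSi : (S i)⁻¹ = S i := inv_eq_of_mul_eq_one_right (hS2 i hi)
        have h2 : lbl S c x i = ((rep S c x)⁻¹ * S i * rep S c (c.act i x))⁻¹ := by
          simp only [lbl, mul_inv_rev, inv_inv, hSi, mul_assoc]
        rw [h2]; exact H.inv_mem h1
      | scan x0 i' j' e =>
        simp only [Cert.validEdge, hj, Bool.and_eq_true, beq_iff_eq, decide_eq_true_eq] at hv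
        obtain ⟨⟨⟨⟨⟨⟨⟨hx0, hi'⟩, hj'⟩, hget⟩, htr1⟩, hlow1⟩, hlow2⟩, htr2⟩ := hv
        set w := relWord i' j' (mat i' j') with hwdef
        have hwk : ∀ g ∈ w, g < c.k := by
          intro g hg
          rcases mem_relWord hg with h | h <;> rw [h] <;> assumption
        have hwsplit : w = w.take e ++ i :: w.drop (e + 1) := by
          have he : e < w.length := by
            by_contra hcon
            rw [List.getElem?_eq_none (not_lt.mp hcon)] at hget
            exact absurd hget (by simp)
          have hge : w[e] = i := by
            rw [List.getElem?_eq_getElem he] at hget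
            exact Option.some.inj hget
          rw [← hge]
          exact (List.take_append_drop e w).symm.trans (by rw [List.drop_eq_getElem_cons he])
        have hpre : ∀ g ∈ w.take e, g < c.k := fun g hg => hwk g (List.mem_of_mem_take hg)
        have hpost : ∀ g ∈ w.drop (e + 1), g < c.k := fun g hg => hwk g (List.mem_of_mem_drop hg)
        rw [hr] at hlow1 hlow2
        have hy : c.act i x < c.N := hclosed x hx i hi
        have m1 : lab S c (w.take e) x0 ∈ H := lab_mem H hclosed ih _ hpre x0 hx0 hlow1
        have m2 : lab S c (w.drop (e + 1)) (c.act i x) ∈ H := lab_mem H hclosed ih _ hpost _ hy hlow2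
        -- the whole loop has trivial label
        have htot : lab S c w x0 = 1 := by
          have htr : c.trace w x0 = x0 := by
            rw [hwsplit, trace_append, htr1]
            simp only [Cert.trace]
            exact htr2
          rw [lab_eq, htr, hwdef, wprodR_relWord, hrel i' hi' j' hj']
          group
        have hsplit : lab S c w x0 =
            lab S c (w.drop (e + 1)) (c.act i x) * lbl S c x i * lab S c (w.take e) x0 := by
          conv_lhs => rw [hwsplit]
          rw [lab_append, htr1]
          simp only [lab]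
        rw [htot] at hsplit
        have : lbl S c x i =
            (lab S c (w.drop (e + 1)) (c.act i x))⁻¹ * (lab S c (w.take e) x0)⁻¹ := by
          have h3 := hsplit.symm
          calc lbl S c x i = (lab S c (w.drop (e + 1)) (c.act i x))⁻¹ *
                (lab S c (w.drop (e + 1)) (c.act i x) * lbl S c x i * lab S c (w.take e) x0) *
                (lab S c (w.take e) x0)⁻¹ := by group
            _ = _ := by rw [h3]; group
        rw [this]
        exact H.mul_mem (H.inv_mem m2) (H.inv_mem m1)
  intro x hx i hi
  exact key _ x hx i hi rfl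

/-- the cosets `rep x * H`, `x < N`, cover the subgroup generated by the `S i`. -/
theorem exists_rep_of_mem_closure (H : Subgroup W) (mat : ℕ → ℕ → ℕ) (inH : ℕ → Bool)
    (hS2 : ∀ i < c.k, S i * S i = 1)
    (hrel : ∀ i < c.k, ∀ j < c.k, (S i * S j) ^ mat i j = 1)
    (hH : ∀ i < c.k, inH i = true → S i ∈ H)
    (hc : c.check mat inH = true) {g : W} (hg : g ∈ Subgroup.closure (S '' {i | i < c.k})) :
    ∃ x < c.N, (rep S c x)⁻¹ * g ∈ H := by
  have hgood := lbl_mem_of_check H mat inH hS2 hrel hH hc
  have hc' := hc
  simp only [Cert.check, Bool.and_eq_true, decide_eq_true_eq, List.all_eq_true, List.mem_range,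
    beq_iff_eq] at hc'
  obtain ⟨⟨hN, hw0⟩, hall⟩ := hc'
  have hclosed : ∀ x < c.N, ∀ i < c.k, c.act i x < c.N := fun x hx i hi => (hall x hx i hi).1
  have hrep0 : rep S c 0 = 1 := by simp [rep, hw0, wprodL]
  have step : ∀ i < c.k, ∀ y : W, (∃ x < c.N, (rep S c x)⁻¹ * y ∈ H) →
      ∃ x < c.N, (rep S c x)⁻¹ * (S i * y) ∈ H := by
    intro i hi y ⟨x, hx, hxy⟩
    refine ⟨c.act i x, hclosed x hx i hi, ?_⟩
    have h1 := hgood x hx i hi
    have : (rep S c (c.act i x))⁻¹ * (S i * y) = lbl S c x i * ((rep S c x)⁻¹ * y) := by
      simp only [lbl]; group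
    rw [this]
    exact H.mul_mem h1 hxy
  induction hg using Subgroup.closure_induction_left with
  | one => exact ⟨0, hN, by rw [hrep0]; simp⟩
  | mul_left s hs y _ ih =>
    obtain ⟨i, hi, rfl⟩ := hs
    exact step i hi y ih
  | inv_mul_cancel s hs y _ ih =>
    obtain ⟨i, hi, rfl⟩ := hs
    have hSi : (S i)⁻¹ = S i := inv_eq_of_mul_eq_one_right (hS2 i hi)
    rw [hSi]
    exact step i hi y ih

/-- the index bound: if the `S i` generate `W` and `H` is finite then `|W| ≤ N |H|`. -/
theorem card_le_of_check (H : Subgroup W) [Finite H] (mat : ℕ → ℕ → ℕ) (inH : ℕ → Bool)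
    (hS2 : ∀ i < c.k, S i * S i = 1)
    (hrel : ∀ i < c.k, ∀ j < c.k, (S i * S j) ^ mat i j = 1)
    (hH : ∀ i < c.k, inH i = true → S i ∈ H)
    (hc : c.check mat inH = true)
    (hgen : Subgroup.closure (S '' {i | i < c.k}) = ⊤) :
    Finite W ∧ Nat.card W ≤ c.N * Nat.card H := by
  let f : Fin c.N × H → W := fun p => rep S c p.1 * p.2
  have hf : Function.Surjective f := by
    intro g
    have hg : g ∈ Subgroup.closure (S '' {i | i < c.k}) := by rw [hgen]; trivial
    obtain ⟨x, hx, hxg⟩ := exists_rep_of_mem_closure H mat inH hS2 hrel hH hc hg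
    refine ⟨(⟨x, hx⟩, ⟨_, hxg⟩), ?_⟩
    simp [f]
  have hfin : Finite W := Finite.of_surjective f hf
  refine ⟨hfin, ?_⟩
  have := Nat.card_le_card_of_surjective f hf
  rwa [Nat.card_prod, Nat.card_fin] at this

end sound

end Cfsg.Agent.Lib.helper19_TC
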