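import Mathlib
import Cfsg.Agent.Lib.helper19_TC

/-!
Orders of finite Coxeter groups through chains of parabolic subgroups: upper bounds from coset-table
certificates (`helper19_TC`), lower bounds from orbits of an integral reflection representation.
By helper19.
-/

set_option autoImplicit false

namespace Cfsg.Agent.Lib.helper19_CoxChain

open Cfsg.Agent.Lib.helper19_TC

section trunc
variable {n : ℕ}

/-- The Coxeter matrix on the first `k` nodes. -/
def truncTo (M : CoxeterMatrix (Fin n)) (k : ℕ) (hk : k ≤ n) : CoxeterMatrix (Fin k) where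
  M := Matrix.of fun i j => M (Fin.castLE hk i) (Fin.castLE hk j)
  isSymm := by
    ext i j
    simp only [Matrix.transpose_apply, Matrix.of_apply]
    exact M.symmetric _ _
  diagonal i := by simp
  off_diagonal i j hij := by
    simp only [Matrix.of_apply]
    apply M.off_diagonal
    intro h
    apply hij
    exact Fin.castLE_injective hk h

lemma truncTo_apply (M : CoxeterMatrix (Fin n)) (k : ℕ) (hk : k ≤ n) (i j : Fin k) :
    truncTo M k hk i j = M (Fin.castLE hk i) (Fin.castLE hk j) := rfl

lemma truncTo_self (M : CoxeterMatrix (Fin n)) : truncTo M n le_rfl = M := by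
  apply CoxeterMatrix.ext
  ext i j
  rfl

/-- the generators of a Coxeter group on `Fin k`, as a function on `ℕ`. -/
noncomputable def gen {k : ℕ} (M : CoxeterMatrix (Fin k)) (i : ℕ) : M.Group :=
  if h : i < k then M.simple ⟨i, h⟩ else 1

lemma gen_of_lt {k : ℕ} (M : CoxeterMatrix (Fin k)) {i : ℕ} (h : i < k) :
    gen M i = M.simple ⟨i, h⟩ := by simp [gen, h]

lemma gen_mul_self {k : ℕ} (M : CoxeterMatrix (Fin k)) {i : ℕ} (h : i < k) :
    gen M i * gen M i = 1 := by
  rw [gen_of_lt M h]
  exact M.toCoxeterSystem.simple_mul_simple_self _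

lemma closure_gen {k : ℕ} (M : CoxeterMatrix (Fin k)) :
    Subgroup.closure (gen M '' {i | i < k}) = ⊤ := by
  have h := M.toCoxeterSystem.subgroup_closure_range_simple
  rw [CoxeterMatrix.toCoxeterSystem_simple] at h
  rw [← h]
  congr 1
  ext g
  constructor
  · rintro ⟨i, hi, rfl⟩
    exact ⟨⟨i, hi⟩, (gen_of_lt M hi).symm⟩
  · rintro ⟨i, rfl⟩
    exact ⟨i.1, i.2, gen_of_lt M i.2⟩

/-- the homomorphism from the Coxeter group on the first `k` nodes to the one on the first `k+1`. -/
noncomputable def truncHom (M : CoxeterMatrix (Fin n)) (k : ℕ) (hk : k + 1 ≤ n) :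
    (truncTo M k (Nat.le_of_succ_le hk)).Group →* (truncTo M (k + 1) hk).Group :=
  (truncTo M k (Nat.le_of_succ_le hk)).toCoxeterSystem.lift
    ⟨fun i => (truncTo M (k + 1) hk).simple i.castSucc, fun i j => by
      have := (truncTo M (k + 1) hk).toCoxeterSystem.simple_mul_simple_pow i.castSucc j.castSucc
      exact this⟩

lemma truncHom_simple (M : CoxeterMatrix (Fin n)) (k : ℕ) (hk : k + 1 ≤ n) (i : Fin k) :
    truncHom M k hk ((truncTo M k (Nat.le_of_succ_le hk)).simple i) =
      (truncTo M (k + 1) hk).simple i.castSucc := by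
  have := (truncTo M k (Nat.le_of_succ_le hk)).toCoxeterSystem.lift_apply_simple
    (f := fun i => (truncTo M (k + 1) hk).simple i.castSucc) (fun i j => by
      have := (truncTo M (k + 1) hk).toCoxeterSystem.simple_mul_simple_pow i.castSucc j.castSucc
      exact this) i
  exact this

/-- one step of the upper bound. -/
theorem ub_step (M : CoxeterMatrix (Fin n)) (k : ℕ) (hk : k + 1 ≤ n) (c : Cert) (hck : c.k = k + 1)
    (mat : ℕ → ℕ → ℕ) (hmat : ∀ i j : Fin n, M i j = mat i j)
    (hc : c.check mat (fun i => decide (i < k)) = true) (B : ℕ)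
    (hB : Finite (truncTo M k (Nat.le_of_succ_le hk)).Group ∧
      Nat.card (truncTo M k (Nat.le_of_succ_le hk)).Group ≤ B) :
    Finite (truncTo M (k + 1) hk).Group ∧ Nat.card (truncTo M (k + 1) hk).Group ≤ c.N * B := by
  obtain ⟨hfin, hcard⟩ := hB
  set M1 := truncTo M (k + 1) hk with hM1
  set φ := truncHom M k hk with hφ
  have hHfin : Finite φ.range := by
    have : Finite (truncTo M k (Nat.le_of_succ_le hk)).Group := hfin
    exact Finite.of_surjective φ.rangeRestrict φ.rangeRestrict_surjective
  have hHcard : Nat.card φ.range ≤ B := by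
    have : Finite (truncTo M k (Nat.le_of_succ_le hk)).Group := hfin
    exact (Nat.card_le_card_of_surjective φ.rangeRestrict φ.rangeRestrict_surjective).trans hcard
  have hS2 : ∀ i < c.k, gen M1 i * gen M1 i = 1 := by
    intro i hi
    rw [hck] at hi
    exact gen_mul_self M1 hi
  have hrel : ∀ i < c.k, ∀ j < c.k, (gen M1 i * gen M1 j) ^ mat i j = 1 := by
    intro i hi j hj
    rw [hck] at hi hj
    rw [gen_of_lt M1 hi, gen_of_lt M1 hj]
    have h1 := M1.toCoxeterSystem.simple_mul_simple_pow ⟨i, hi⟩ ⟨j, hj⟩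
    rw [CoxeterMatrix.toCoxeterSystem_simple] at h1
    have h2 : M1 ⟨i, hi⟩ ⟨j, hj⟩ = mat i j := by
      rw [hM1, truncTo_apply, hmat]
      rfl
    rw [← h2]
    exact h1
  have hH : ∀ i < c.k, (fun i => decide (i < k)) i = true → gen M1 i ∈ φ.range := by
    intro i hi hik
    simp only [decide_eq_true_eq] at hik
    rw [hck] at hi
    refine ⟨(truncTo M k (Nat.le_of_succ_le hk)).simple ⟨i, hik⟩, ?_⟩
    rw [hφ, truncHom_simple, gen_of_lt M1 hi]
    rfl
  have hgen : Subgroup.closure (gen M1 '' {i | i < c.k}) = ⊤ := by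
    rw [hck]; exact closure_gen M1
  obtain ⟨h1, h2⟩ := card_le_of_check (S := gen M1) (c := c) φ.range mat _ hS2 hrel hH hc hgen
  exact ⟨h1, h2.trans (Nat.mul_le_mul_left _ hHcard)⟩

/-- the Coxeter group on no generators is trivial. -/
theorem ub_zero (M : CoxeterMatrix (Fin n)) :
    Finite (truncTo M 0 (Nat.zero_le n)).Group ∧ Nat.card (truncTo M 0 (Nat.zero_le n)).Group ≤ 1 := by
  have h := closure_gen (truncTo M 0 (Nat.zero_le n))
  have h0 : (gen (truncTo M 0 (Nat.zero_le n)) '' {i | i < 0}) = ∅ := by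
    ext g; simp
  rw [h0, Subgroup.closure_empty] at h
  have hsub : Subsingleton (truncTo M 0 (Nat.zero_le n)).Group := by
    constructor
    intro a b
    have ha : a ∈ (⊥ : Subgroup _) := by rw [h]; trivial
    have hb : b ∈ (⊥ : Subgroup _) := by rw [h]; trivial
    rw [Subgroup.mem_bot] at ha hb
    rw [ha, hb]
  exact ⟨inferInstance, by rw [Nat.card_unique]⟩

end trunc

section lower
variable {A X : Type*} [Group A] (act : A → X → X)

/-- elements of the subgroup generated by elements fixing `v` fix `v`. -/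
lemma act_eq_of_mem_closure (h1v : ∀ v, act 1 v = v) (hm : ∀ g h v, act (g * h) v = act g (act h v))
    (s : Set A) (v : X) (hfix : ∀ a ∈ s, act a v = v) {g : A} (hg : g ∈ Subgroup.closure s) :
    act g v = v := by
  induction hg using Subgroup.closure_induction_left with
  | one => exact h1v v
  | mul_left a ha y _ ih => rw [hm, ih, hfix a ha]
  | inv_mul_cancel a ha y _ ih =>
    rw [hm, ih]
    have : act a⁻¹ (act a v) = v := by rw [← hm, inv_mul_cancel, h1v]
    rw [hfix a ha] at this
    exact this

/-- one step of the lower bound. -/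
theorem lb_step (h1v : ∀ v, act 1 v = v) (hm : ∀ g h v, act (g * h) v = act g (act h v))
    (r : ℕ → A) (k : ℕ) (v : X) (hfix : ∀ i < k, act (r i) v = v)
    (pts : List X) (hnd : pts.Nodup)
    (horb : ∀ u ∈ pts, ∃ g ∈ Subgroup.closure (r '' {i | i < k + 1}), act g v = u)
    (hfin : Finite (Subgroup.closure (r '' {i | i < k + 1}))) :
    pts.length * Nat.card (Subgroup.closure (r '' {i | i < k})) ≤
      Nat.card (Subgroup.closure (r '' {i | i < k + 1})) := by
  classical
  set G1 := Subgroup.closure (r '' {i | i < k + 1}) with hG1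
  set G0 := Subgroup.closure (r '' {i | i < k}) with hG0
  have hle : G0 ≤ G1 := by
    apply Subgroup.closure_mono
    rintro _ ⟨i, hi, rfl⟩
    exact ⟨i, Nat.lt_succ_of_lt hi, rfl⟩
  have hfix0 : ∀ g ∈ G0, act g v = v := by
    intro g hg
    apply act_eq_of_mem_closure act h1v hm _ v _ hg
    rintro _ ⟨i, hi, rfl⟩
    exact hfix i hi
  choose! w hw using horb
  let f : Fin pts.length × G0 → G1 := fun p =>
    ⟨w (pts.get p.1) * (p.2 : A), G1.mul_mem (hw _ (List.get_mem _ _)).1 (hle p.2.2)⟩
  have hf : Function.Injective f := by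
    rintro ⟨t, g⟩ ⟨t', g'⟩ h
    have h' : w (pts.get t) * (g : A) = w (pts.get t') * (g' : A) := congrArg Subtype.val h
    have e1 : act (w (pts.get t) * (g : A)) v = pts.get t := by
      rw [hm, hfix0 g g.2, (hw _ (List.get_mem _ _)).2]
    have e2 : act (w (pts.get t') * (g' : A)) v = pts.get t' := by
      rw [hm, hfix0 g' g'.2, (hw _ (List.get_mem _ _)).2]
    have e3 : pts.get t = pts.get t' := by rw [← e1, ← e2, h']
    have e4 : t = t' := (List.Nodup.get_inj_iff hnd).mp e3
    subst e4
    have e5 : (g : A) = g' := mul_left_cancel h'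
    have e6 : g = g' := Subtype.ext e5
    rw [e6]
  have := Nat.card_le_card_of_injective f hf
  rwa [Nat.card_prod, Nat.card_fin] at this

end lower

end Cfsg.Agent.Lib.helper19_CoxChain
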