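import Mathlib
import Cfsg.Agent.Lib.helper19_CoxChain

set_option autoImplicit false

/-!
Matrices for S2093 (the Schur multiplier of `Sp_6(2)` has order `2`), architect helper14:
the Clifford elements of the simple roots of `E_7` mod `3` and their relations.

Lower bound model: the Weyl group `W7 = W(E_7) = 2 x Sp_6(2)` (helper19's Coxeter group
`truncTo CoxeterMatrix.E₇ 7`), its reduction mod `2` `phi : W7 -> Sp_6(2)` (simple reflections go to the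
transvections of the vectors `vv i`), its sign `sgn`, and its projective spin representation
`theta : W7 -> GL_16(3) / {1, -1}` (simple reflections go to the Clifford elements `Rm i` of the simple
roots mod `3`).  `Gam` is the pull back of `theta` restricted to the even subgroup; it is the double
cover `2.Sp_6(2)`, with `sig : Gam -> Sp_6(2)`.
-/

namespace Cfsg.Agent.Lib.Helper14_S93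

open Cfsg.Agent.Lib.helper19_CoxChain

/-- the Coxeter matrix of type `E_7` in the form used by helper19's `card7`;
edges `0-2, 1-3, 2-3, 3-4, 4-5, 5-6` -/
abbrev M7 : CoxeterMatrix (Fin 7) := truncTo CoxeterMatrix.E₇ 7 (by decide)

/-- the Weyl group of type `E_7` -/
abbrev W7 : Type := M7.Group



/-- the Clifford element of the simple root `0` of `E_7` mod `3` (spin representation of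
dimension `16` over the field with `3` elements) -/
def Rm0 : Matrix (Fin 16) (Fin 16) (ZMod 3) := !![0, 1, 2, 0, 0, 0, 0, 0, 0, 0, 0, 0, 0, 0, 0, 0; 2, 0, 0, 2, 0, 0, 0, 0, 0, 0, 0, 0, 0, 0, 0, 0; 1, 0, 0, 2, 0, 0, 0, 0, 0, 0, 0, 0, 0, 0, 0, 0; 0, 1, 1, 0, 0, 0, 0, 0, 0, 0, 0, 0, 0, 0, 0, 0; 1, 0, 0, 0, 0, 2, 1, 0, 0, 0, 0, 0, 0, 0, 0, 0; 0, 1, 0, 0, 1, 0, 0, 1, 0, 0, 0, 0, 0, 0, 0, 0; 0, 0, 1, 0, 2, 0, 0, 1, 0, 0, 0, 0, 0, 0, 0, 0; 0, 0, 0, 1, 0, 2, 2, 0, 0, 0, 0, 0, 0, 0, 0, 0; 1, 0, 0, 0, 0, 0, 0, 0, 0, 2, 1, 0, 0, 0, 0, 0; 0, 1, 0, 0, 0, 0, 0, 0, 1, 0, 0, 1, 0, 0, 0, 0; 0, 0, 1, 0, 0, 0, 0, 0, 2, 0, 0, 1, 0, 0, 0, 0; 0, 0, 0, 1, 0, 0, 0, 0, 0, 2, 2, 0, 0, 0, 0, 0; 0, 0, 0, 0, 1, 0, 0, 0, 2, 0, 0, 0, 0, 1, 2, 0; 0, 0, 0, 0, 0, 1, 0, 0, 0, 2, 0, 0, 2,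 0, 0, 2; 0, 0, 0, 0, 0, 0, 1, 0, 0, 0, 2, 0, 1, 0, 0, 2; 0, 0, 0, 0, 0, 0, 0, 1, 0, 0, 0, 2, 0, 1, 1, 0]

/-- the Clifford element of the simple root `1` of `E_7` mod `3` (spin representation of
dimension `16` over the field with `3` elements) -/
def Rm1 : Matrix (Fin 16) (Fin 16) (ZMod 3) := !![0, 2, 0, 0, 0, 0, 0, 0, 2, 0, 0, 0, 0, 0, 0, 0; 1, 0, 0, 0, 0, 0, 0, 0, 0, 2, 0, 0, 0, 0, 0, 0; 1, 0, 0, 1, 0, 0, 0, 0, 0, 0, 2, 0, 0, 0, 0, 0; 0, 1, 2, 0, 0, 0, 0, 0, 0, 0, 0, 2, 0, 0, 0, 0; 0, 0, 0, 0, 0, 1, 0, 0, 0, 0, 0, 0, 2, 0, 0, 0; 0, 0, 0, 0, 2, 0, 0, 0, 0, 0, 0, 0, 0, 2, 0, 0; 0, 0, 0, 0, 2, 0, 0, 2, 0, 0, 0, 0, 0, 0, 2, 0; 0, 0, 0, 0, 0, 2, 1, 0, 0, 0, 0, 0, 0, 0, 0, 2; 1, 0, 0, 0, 0, 0, 0, 0, 0, 1, 0, 0, 0, 0, 0, 0; 0, 1, 0, 0, 0, 0, 0, 0, 2, 0, 0, 0,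 0, 0, 0, 0; 0, 0, 1, 0, 0, 0, 0, 0, 2, 0, 0, 2, 0, 0, 0, 0; 0, 0, 0, 1, 0, 0, 0, 0, 0, 2, 1, 0, 0, 0, 0, 0; 0, 0, 0, 0, 1, 0, 0, 0, 0, 0, 0, 0, 0, 2, 0, 0; 0, 0, 0, 0, 0, 1, 0, 0, 0, 0, 0, 0, 1, 0, 0, 0; 0, 0, 0, 0, 0, 0, 1, 0, 0, 0, 0, 0, 1, 0, 0, 1; 0, 0, 0, 0, 0, 0, 0, 1, 0, 0, 0, 0, 0, 1, 2, 0]

/-- the Clifford element of the simple root `2` of `E_7` mod `3` (spin representation of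
dimension `16` over the field with `3` elements) -/
def Rm2 : Matrix (Fin 16) (Fin 16) (ZMod 3) := !![0, 2, 0, 0, 1, 0, 0, 0, 2, 0, 0, 0, 0, 0, 0, 0; 1, 0, 0, 0, 0, 1, 0, 0, 0, 2, 0, 0, 0, 0, 0, 0; 0, 0, 0, 1, 0, 0, 1, 0, 0, 0, 2, 0, 0, 0, 0, 0; 0, 0, 2, 0, 0, 0, 0, 1, 0, 0, 0, 2, 0, 0, 0, 0; 2, 0, 0, 0, 0, 1, 0, 0, 0, 0, 0, 0, 2, 0, 0, 0; 0, 2, 0, 0, 2, 0, 0, 0, 0, 0, 0, 0, 0, 2, 0, 0; 0, 0, 2, 0, 0, 0, 0, 2, 0, 0, 0, 0, 0, 0, 2, 0; 0, 0, 0, 2, 0, 0, 1, 0, 0, 0, 0, 0, 0, 0, 0, 2; 0, 0, 0, 0, 0, 0, 0, 0, 0, 1, 0, 0, 2, 0, 0, 0; 0, 0, 0, 0, 0, 0, 0, 0, 2, 0, 0, 0, 0, 2, 0, 0; 0, 0, 0, 0, 0, 0, 0, 0, 0, 0, 0, 2, 0, 0, 2, 0; 0, 0, 0, 0, 0, 0, 0, 0, 0, 0, 1, 0, 0, 0, 0, 2; 0, 0, 0, 0, 0, 0, 0, 0, 1, 0, 0, 0, 0, 2, 0, 0; 0, 0, 0, 0, 0, 0, 0, 0, 0, 1, 0, 0, 1,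 0, 0, 0; 0, 0, 0, 0, 0, 0, 0, 0, 0, 0, 1, 0, 0, 0, 0, 1; 0, 0, 0, 0, 0, 0, 0, 0, 0, 0, 0, 1, 0, 0, 2, 0]

/-- the Clifford element of the simple root `3` of `E_7` mod `3` (spin representation of
dimension `16` over the field with `3` elements) -/
def Rm3 : Matrix (Fin 16) (Fin 16) (ZMod 3) := !![0, 1, 2, 0, 1, 0, 0, 0, 0, 0, 0, 0, 0, 0, 0, 0; 2, 0, 0, 2, 0, 1, 0, 0, 0, 0, 0, 0, 0, 0, 0, 0; 1, 0, 0, 2, 0, 0, 1, 0, 0, 0, 0, 0, 0, 0, 0, 0; 0, 1, 1, 0, 0, 0, 0, 1, 0, 0, 0, 0, 0, 0, 0, 0; 0, 0, 0, 0, 0, 2, 1, 0, 0, 0, 0, 0, 0, 0, 0, 0; 0, 0, 0, 0, 1, 0, 0, 1, 0, 0, 0, 0, 0, 0, 0, 0; 0, 0, 0, 0, 2, 0, 0, 1, 0, 0, 0, 0, 0, 0, 0, 0; 0, 0, 0, 0, 0, 2, 2, 0, 0, 0, 0, 0, 0, 0, 0, 0; 2, 0, 0, 0, 0, 0, 0, 0, 0, 2, 1, 0, 2, 0, 0, 0; 0, 2, 0, 0, 0, 0, 0, 0, 1, 0, 0, 1,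 0, 2, 0, 0; 0, 0, 2, 0, 0, 0, 0, 0, 2, 0, 0, 1, 0, 0, 2, 0; 0, 0, 0, 2, 0, 0, 0, 0, 0, 2, 2, 0, 0, 0, 0, 2; 0, 0, 0, 0, 2, 0, 0, 0, 0, 0, 0, 0, 0, 1, 2, 0; 0, 0, 0, 0, 0, 2, 0, 0, 0, 0, 0, 0, 2, 0, 0, 2; 0, 0, 0, 0, 0, 0, 2, 0, 0, 0, 0, 0, 1, 0, 0, 2; 0, 0, 0, 0, 0, 0, 0, 2, 0, 0, 0, 0, 0, 1, 1, 0]

/-- the Clifford element of the simple root `4` of `E_7` mod `3` (spin representation of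
dimension `16` over the field with `3` elements) -/
def Rm4 : Matrix (Fin 16) (Fin 16) (ZMod 3) := !![0, 0, 2, 0, 0, 0, 0, 0, 0, 0, 0, 0, 0, 0, 0, 0; 0, 0, 0, 2, 0, 0, 0, 0, 0, 0, 0, 0, 0, 0, 0, 0; 2, 0, 0, 0, 0, 0, 0, 0, 0, 0, 0, 0, 0, 0, 0, 0; 0, 2, 0, 0, 0, 0, 0, 0, 0, 0, 0, 0, 0, 0, 0, 0; 2, 0, 0, 0, 0, 0, 1, 0, 0, 0, 0, 0, 0, 0, 0, 0; 0, 2, 0, 0, 0, 0, 0, 1, 0, 0, 0, 0, 0, 0, 0, 0; 0, 0, 2, 0, 1, 0, 0, 0, 0, 0, 0, 0, 0, 0, 0, 0; 0, 0, 0, 2, 0, 1, 0, 0, 0, 0, 0, 0, 0, 0, 0, 0; 2, 0, 0, 0, 0, 0, 0, 0, 0, 0, 1, 0, 0, 0, 0, 0; 0, 2, 0, 0, 0, 0, 0, 0, 0, 0, 0, 1, 0, 0, 0, 0; 0, 0, 2, 0, 0, 0, 0, 0, 1, 0, 0, 0, 0, 0, 0, 0; 0, 0, 0, 2, 0, 0, 0, 0, 0, 1, 0, 0, 0, 0, 0, 0; 0, 0, 0, 0, 2, 0, 0, 0, 1, 0, 0, 0, 0, 0, 2, 0; 0, 0, 0, 0, 0, 2, 0, 0, 0, 1, 0, 0, 0,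 0, 0, 2; 0, 0, 0, 0, 0, 0, 2, 0, 0, 0, 1, 0, 2, 0, 0, 0; 0, 0, 0, 0, 0, 0, 0, 2, 0, 0, 0, 1, 0, 2, 0, 0]

/-- the Clifford element of the simple root `5` of `E_7` mod `3` (spin representation of
dimension `16` over the field with `3` elements) -/
def Rm5 : Matrix (Fin 16) (Fin 16) (ZMod 3) := !![0, 1, 2, 0, 2, 0, 0, 0, 2, 0, 0, 0, 0, 0, 0, 0; 2, 0, 0, 2, 0, 2, 0, 0, 0, 2, 0, 0, 0, 0, 0, 0; 1, 0, 0, 2, 0, 0, 2, 0, 0, 0, 2, 0, 0, 0, 0, 0; 0, 1, 1, 0, 0, 0, 0, 2, 0, 0, 0, 2, 0, 0, 0, 0; 0, 0, 0, 0, 0, 2, 1, 0, 0, 0, 0, 0, 2, 0, 0, 0; 0, 0, 0, 0, 1, 0, 0, 1, 0, 0, 0, 0, 0, 2, 0, 0; 0, 0, 0, 0, 2, 0, 0, 1, 0, 0, 0, 0, 0, 0, 2, 0; 0, 0, 0, 0, 0, 2, 2, 0, 0, 0, 0, 0, 0, 0, 0, 2; 0, 0, 0, 0, 0, 0, 0, 0, 0, 2, 1, 0, 1, 0, 0, 0; 0, 0, 0, 0, 0, 0, 0, 0, 1, 0, 0, 1,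 0, 1, 0, 0; 0, 0, 0, 0, 0, 0, 0, 0, 2, 0, 0, 1, 0, 0, 1, 0; 0, 0, 0, 0, 0, 0, 0, 0, 0, 2, 2, 0, 0, 0, 0, 1; 0, 0, 0, 0, 0, 0, 0, 0, 0, 0, 0, 0, 0, 1, 2, 0; 0, 0, 0, 0, 0, 0, 0, 0, 0, 0, 0, 0, 2, 0, 0, 2; 0, 0, 0, 0, 0, 0, 0, 0, 0, 0, 0, 0, 1, 0, 0, 2; 0, 0, 0, 0, 0, 0, 0, 0, 0, 0, 0, 0, 0, 1, 1, 0]

/-- the Clifford element of the simple root `6` of `E_7` mod `3` (spin representation of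
dimension `16` over the field with `3` elements) -/
def Rm6 : Matrix (Fin 16) (Fin 16) (ZMod 3) := !![0, 2, 2, 0, 1, 0, 0, 0, 2, 0, 0, 0, 0, 0, 0, 0; 1, 0, 0, 2, 0, 1, 0, 0, 0, 2, 0, 0, 0, 0, 0, 0; 1, 0, 0, 1, 0, 0, 1, 0, 0, 0, 2, 0, 0, 0, 0, 0; 0, 1, 2, 0, 0, 0, 0, 1, 0, 0, 0, 2, 0, 0, 0, 0; 2, 0, 0, 0, 0, 1, 1, 0, 0, 0, 0, 0, 2, 0, 0, 0; 0, 2, 0, 0, 2, 0, 0, 1, 0, 0, 0, 0, 0, 2, 0, 0; 0, 0, 2, 0, 2, 0, 0, 2, 0, 0, 0, 0, 0, 0, 2, 0; 0, 0, 0, 2, 0, 2, 1, 0, 0, 0, 0, 0, 0, 0, 0, 2; 2, 0, 0, 0, 0, 0, 0, 0, 0, 1, 1, 0, 2, 0, 0, 0; 0, 2, 0, 0, 0, 0, 0, 0, 2, 0, 0, 1, 0, 2, 0, 0; 0, 0, 2, 0, 0, 0, 0, 0, 2, 0, 0, 2, 0, 0, 2, 0; 0, 0, 0, 2, 0, 0, 0, 0, 0, 2, 1, 0, 0, 0, 0, 2; 0, 0, 0, 0, 2, 0, 0, 0, 1, 0, 0, 0, 0, 2, 2, 0; 0, 0, 0, 0, 0, 2, 0, 0, 0, 1, 0, 0, 1,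 0, 0, 2; 0, 0, 0, 0, 0, 0, 2, 0, 0, 0, 1, 0, 1, 0, 0, 1; 0, 0, 0, 0, 0, 0, 0, 2, 0, 0, 0, 1, 0, 1, 2, 0]

/-- the Clifford elements of the simple roots -/
def Rm : Fin 7 → Matrix (Fin 16) (Fin 16) (ZMod 3) := ![Rm0, Rm1, Rm2, Rm3, Rm4, Rm5, Rm6]

set_option maxRecDepth 100000 in
theorem Rm_sq : ∀ i : Fin 7, Rm i * Rm i = 1 := by
  have h0 : Rm0 * Rm0 = 1 := by decide +kernel
  have h1 : Rm1 * Rm1 = 1 := by decide +kernel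
  have h2 : Rm2 * Rm2 = 1 := by decide +kernel
  have h3 : Rm3 * Rm3 = 1 := by decide +kernel
  have h4 : Rm4 * Rm4 = 1 := by decide +kernel
  have h5 : Rm5 * Rm5 = 1 := by decide +kernel
  have h6 : Rm6 * Rm6 = 1 := by decide +kernel
  intro i
  fin_cases i
  · exact h0
  · exact h1
  · exact h2
  · exact h3
  · exact h4
  · exact h5
  · exact h6

set_option maxRecDepth 100000 in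
set_option maxHeartbeats 4000000 in
/-- the Coxeter relations in braid form, up to sign -/
theorem Rm_braid : ∀ i j : Fin 7, (M7 i j = 1 ∧ i = j) ∨
    (M7 i j = 3 ∧ Rm i * Rm j * Rm i = Rm j * Rm i * Rm j) ∨
    (M7 i j = 2 ∧ Rm i * Rm j = -(Rm j * Rm i)) := by
  have a01 : Rm0 * Rm1 = -(Rm1 * Rm0) := by decide +kernel
  have b02 : Rm0 * Rm2 * Rm0 = Rm2 * Rm0 * Rm2 := by decide +kernel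
  have a03 : Rm0 * Rm3 = -(Rm3 * Rm0) := by decide +kernel
  have a04 : Rm0 * Rm4 = -(Rm4 * Rm0) := by decide +kernel
  have a05 : Rm0 * Rm5 = -(Rm5 * Rm0) := by decide +kernel
  have a06 : Rm0 * Rm6 = -(Rm6 * Rm0) := by decide +kernel
  have a12 : Rm1 * Rm2 = -(Rm2 * Rm1) := by decide +kernel
  have b13 : Rm1 * Rm3 * Rm1 = Rm3 * Rm1 * Rm3 := by decide +kernel
  have a14 : Rm1 * Rm4 = -(Rm4 * Rm1) := by decide +kernel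
  have a15 : Rm1 * Rm5 = -(Rm5 * Rm1) := by decide +kernel
  have a16 : Rm1 * Rm6 = -(Rm6 * Rm1) := by decide +kernel
  have b23 : Rm2 * Rm3 * Rm2 = Rm3 * Rm2 * Rm3 := by decide +kernel
  have a24 : Rm2 * Rm4 = -(Rm4 * Rm2) := by decide +kernel
  have a25 : Rm2 * Rm5 = -(Rm5 * Rm2) := by decide +kernel
  have a26 : Rm2 * Rm6 = -(Rm6 * Rm2) := by decide +kernel
  have b34 : Rm3 * Rm4 * Rm3 = Rm4 * Rm3 * Rm4 := by decide +kernel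
  have a35 : Rm3 * Rm5 = -(Rm5 * Rm3) := by decide +kernel
  have a36 : Rm3 * Rm6 = -(Rm6 * Rm3) := by decide +kernel
  have b45 : Rm4 * Rm5 * Rm4 = Rm5 * Rm4 * Rm5 := by decide +kernel
  have a46 : Rm4 * Rm6 = -(Rm6 * Rm4) := by decide +kernel
  have b56 : Rm5 * Rm6 * Rm5 = Rm6 * Rm5 * Rm6 := by decide +kernel
  have hM : ∀ p : Fin 7 × Fin 7, M7 p.1 p.2 = (![![1, 2, 3, 2, 2, 2, 2], ![2, 1, 2, 3, 2, 2, 2], ![3, 2, 1, 3, 2, 2, 2], ![2, 3, 3, 1, 3, 2, 2], ![2, 2, 2, 3, 1, 3, 2], ![2, 2, 2, 2, 3, 1, 3], ![2, 2, 2, 2, 2, 3, 1]] : Fin 7 → Fin 7 → ℕ) p.1 p.2 := by decide +kernel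
  intro i j
  have hm := hM (i, j)
  fin_cases i <;> fin_cases j
  · exact Or.inl ⟨hm, rfl⟩
  · exact Or.inr (Or.inr ⟨hm, a01⟩)
  · exact Or.inr (Or.inl ⟨hm, b02⟩)
  · exact Or.inr (Or.inr ⟨hm, a03⟩)
  · exact Or.inr (Or.inr ⟨hm, a04⟩)
  · exact Or.inr (Or.inr ⟨hm, a05⟩)
  · exact Or.inr (Or.inr ⟨hm, a06⟩)
  · exact Or.inr (Or.inr ⟨hm, (neg_eq_iff_eq_neg.mpr a01).symm⟩)
  · exact Or.inl ⟨hm, rfl⟩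
  · exact Or.inr (Or.inr ⟨hm, a12⟩)
  · exact Or.inr (Or.inl ⟨hm, b13⟩)
  · exact Or.inr (Or.inr ⟨hm, a14⟩)
  · exact Or.inr (Or.inr ⟨hm, a15⟩)
  · exact Or.inr (Or.inr ⟨hm, a16⟩)
  · exact Or.inr (Or.inl ⟨hm, b02.symm⟩)
  · exact Or.inr (Or.inr ⟨hm, (neg_eq_iff_eq_neg.mpr a12).symm⟩)
  · exact Or.inl ⟨hm, rfl⟩
  · exact Or.inr (Or.inl ⟨hm, b23⟩)
  · exact Or.inr (Or.inr ⟨hm, a24⟩)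
  · exact Or.inr (Or.inr ⟨hm, a25⟩)
  · exact Or.inr (Or.inr ⟨hm, a26⟩)
  · exact Or.inr (Or.inr ⟨hm, (neg_eq_iff_eq_neg.mpr a03).symm⟩)
  · exact Or.inr (Or.inl ⟨hm, b13.symm⟩)
  · exact Or.inr (Or.inl ⟨hm, b23.symm⟩)
  · exact Or.inl ⟨hm, rfl⟩
  · exact Or.inr (Or.inl ⟨hm, b34⟩)
  · exact Or.inr (Or.inr ⟨hm, a35⟩)
  · exact Or.inr (Or.inr ⟨hm, a36⟩)
  · exact Or.inr (Or.inr ⟨hm, (neg_eq_iff_eq_neg.mpr a04).symm⟩)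
  · exact Or.inr (Or.inr ⟨hm, (neg_eq_iff_eq_neg.mpr a14).symm⟩)
  · exact Or.inr (Or.inr ⟨hm, (neg_eq_iff_eq_neg.mpr a24).symm⟩)
  · exact Or.inr (Or.inl ⟨hm, b34.symm⟩)
  · exact Or.inl ⟨hm, rfl⟩
  · exact Or.inr (Or.inl ⟨hm, b45⟩)
  · exact Or.inr (Or.inr ⟨hm, a46⟩)
  · exact Or.inr (Or.inr ⟨hm, (neg_eq_iff_eq_neg.mpr a05).symm⟩)
  · exact Or.inr (Or.inr ⟨hm, (neg_eq_iff_eq_neg.mpr a15).symm⟩)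
  · exact Or.inr (Or.inr ⟨hm, (neg_eq_iff_eq_neg.mpr a25).symm⟩)
  · exact Or.inr (Or.inr ⟨hm, (neg_eq_iff_eq_neg.mpr a35).symm⟩)
  · exact Or.inr (Or.inl ⟨hm, b45.symm⟩)
  · exact Or.inl ⟨hm, rfl⟩
  · exact Or.inr (Or.inl ⟨hm, b56⟩)
  · exact Or.inr (Or.inr ⟨hm, (neg_eq_iff_eq_neg.mpr a06).symm⟩)
  · exact Or.inr (Or.inr ⟨hm, (neg_eq_iff_eq_neg.mpr a16).symm⟩)
  · exact Or.inr (Or.inr ⟨hm, (neg_eq_iff_eq_neg.mpr a26).symm⟩)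
  · exact Or.inr (Or.inr ⟨hm, (neg_eq_iff_eq_neg.mpr a36).symm⟩)
  · exact Or.inr (Or.inr ⟨hm, (neg_eq_iff_eq_neg.mpr a46).symm⟩)
  · exact Or.inr (Or.inl ⟨hm, b56.symm⟩)
  · exact Or.inl ⟨hm, rfl⟩

/-- the Coxeter relations hold up to sign -/
theorem Rm_rel (i j : Fin 7) : (Rm i * Rm j) ^ (M7 i j) = 1 ∨ (Rm i * Rm j) ^ (M7 i j) = -1 := by
  have hi := Rm_sq i
  have hj := Rm_sq j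
  rcases Rm_braid i j with ⟨hm, rfl⟩ | ⟨hm, h⟩ | ⟨hm, h⟩
  · left
    rw [hm, pow_one, hi]
  · left
    rw [hm]
    calc (Rm i * Rm j) ^ 3 = (Rm i * Rm j * Rm i) * (Rm j * Rm i * Rm j) := by
          simp only [pow_succ, pow_zero, one_mul, mul_assoc]
      _ = (Rm j * Rm i * Rm j) * (Rm j * Rm i * Rm j) := by rw [h]
      _ = Rm j * Rm i * (Rm j * Rm j) * Rm i * Rm j := by simp only [mul_assoc]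
      _ = 1 := by rw [hj, mul_one, mul_assoc (Rm j), hi, mul_one, hj]
  · right
    rw [hm]
    calc (Rm i * Rm j) ^ 2 = Rm i * (Rm j * Rm i) * Rm j := by
          simp only [pow_succ, pow_zero, one_mul, mul_assoc]
      _ = -(Rm i * (Rm i * Rm j) * Rm j) := by
          have : Rm j * Rm i = -(Rm i * Rm j) := by rw [h, neg_neg]
          rw [this, mul_neg, neg_mul]
      _ = -1 := by rw [← mul_assoc, hi, one_mul, hj]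

/-- non-adjacent nodes give anticommuting Clifford elements -/
theorem Rm_anti (i j : Fin 7) (h : M7 i j = 2) : Rm i * Rm j = -(Rm j * Rm i) := by
  rcases Rm_braid i j with ⟨hm, -⟩ | ⟨hm, -⟩ | ⟨-, h'⟩
  · omega
  · omega
  · exact h'

end Cfsg.Agent.Lib.Helper14_S93
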