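import Mathlib
import Cfsg.Prelude.Def_ClassicalGeometry
import Cfsg.Agent.Lib.Helper14_S93Mat

set_option autoImplicit false

/-!
Definitions for S2093 (the Schur multiplier of `Sp_6(2)` has order `2`), architect helper14.

Lower bound model: the Weyl group `W7 = W(E_7) = 2 x Sp_6(2)` (helper19's Coxeter group
`truncTo CoxeterMatrix.E₇ 7`), its reduction mod `2` `phi : W7 -> Sp_6(2)` (simple reflections go to the
transvections of the vectors `vv i`), its sign `sgn`, and its projective spin representation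
`theta : W7 -> GL_16(3) / {1, -1}` (simple reflections go to the Clifford elements `Rm i` of the simple
roots mod `3`, see `Helper14_S93Mat`).  `Gam` is the pull back of `theta` restricted to the even
subgroup; it is the double cover `2.Sp_6(2)`, with `sig : Gam -> Sp_6(2)`.
-/

namespace Cfsg.Agent.Lib.Helper14_S93

open Cfsg.Agent.Lib.helper19_CoxChain

/-- the Clifford elements as invertible matrices (they are involutions) -/
def RU (i : Fin 7) : GL (Fin 16) (ZMod 3) := ⟨Rm i, Rm i, Rm_sq i, Rm_sq i⟩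

theorem RU_val (i : Fin 7) :
    ((RU i : GL (Fin 16) (ZMod 3)) : Matrix (Fin 16) (Fin 16) (ZMod 3)) = Rm i := rfl

theorem RU_mul_self (i : Fin 7) : RU i * RU i = 1 := Units.ext (Rm_sq i)

theorem RU_inv (i : Fin 7) : (RU i)⁻¹ = RU i := rfl

/-- the subgroup `{1, -1}` of the unit group of a ring -/
def pmOne (M : Type*) [Ring M] : Subgroup Mˣ where
  carrier := {p | p = 1 ∨ p = -1}
  mul_mem' := by
    rintro a b (rfl | rfl) (rfl | rfl)
    · exact Or.inl (one_mul 1)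
    · exact Or.inr (one_mul _)
    · exact Or.inr (mul_one _)
    · exact Or.inl (by rw [neg_mul_neg, one_mul])
  one_mem' := Or.inl rfl
  inv_mem' := by
    rintro a (rfl | rfl)
    · exact Or.inl inv_one
    · exact Or.inr (by rw [inv_neg, inv_one])

theorem mem_pmOne {M : Type*} [Ring M] (p : Mˣ) : p ∈ pmOne M ↔ p = 1 ∨ p = -1 := Iff.rfl

instance pmOne_normal (M : Type*) [Ring M] : (pmOne M).Normal where
  conj_mem := by
    rintro n (rfl | rfl) g
    · exact Or.inl (by rw [mul_one, mul_inv_cancel])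
    · exact Or.inr (by rw [mul_neg, mul_one, neg_mul, mul_inv_cancel])

/-- the subgroup `{1, -1}` of `GL_16(3)` -/
abbrev Zpm : Subgroup (GL (Fin 16) (ZMod 3)) := pmOne (Matrix (Fin 16) (Fin 16) (ZMod 3))

theorem mem_Zpm (p : GL (Fin 16) (ZMod 3)) : p ∈ Zpm ↔ p = 1 ∨ p = -1 := Iff.rfl

theorem theta_liftable :
    M7.IsLiftable (fun i => (QuotientGroup.mk (RU i) : GL (Fin 16) (ZMod 3) ⧸ Zpm)) := by
  intro i j
  show ((QuotientGroup.mk (RU i) : GL (Fin 16) (ZMod 3) ⧸ Zpm) * QuotientGroup.mk (RU j)) ^ (M7 i j) = 1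
  rw [← QuotientGroup.mk_mul, ← QuotientGroup.mk_pow, QuotientGroup.eq_one_iff, mem_Zpm]
  rcases Rm_rel i j with h | h
  · left
    apply Units.ext
    rw [Units.val_pow_eq_pow_val, Units.val_mul]
    exact h
  · right
    apply Units.ext
    rw [Units.val_pow_eq_pow_val, Units.val_mul]
    exact h

/-- the projective spin representation of `W(E_7)` -/
noncomputable def theta : W7 →* GL (Fin 16) (ZMod 3) ⧸ Zpm :=
  M7.toCoxeterSystem.lift ⟨_, theta_liftable⟩

theorem theta_simple (i : Fin 7) : theta (M7.simple i) = QuotientGroup.mk (RU i) :=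
  M7.toCoxeterSystem.lift_apply_simple theta_liftable i

/-- the simple roots of `E_7` mod `2`, as vectors of the symplectic space `F_2^6` -/
def vv : Fin 7 → (Fin 3 ⊕ Fin 3 → ZMod 2) := ![
  Sum.elim ![0, 0, 0] ![0, 0, 1],
  Sum.elim ![0, 0, 0] ![0, 1, 0],
  Sum.elim ![0, 0, 1] ![0, 0, 0],
  Sum.elim ![0, 1, 0] ![0, 0, 1],
  Sum.elim ![0, 0, 0] ![1, 1, 0],
  Sum.elim ![1, 0, 0] ![0, 0, 0],
  Sum.elim ![0, 0, 0] ![1, 0, 0]]

/-- the transvection of a vector of `F_2^6` -/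
def Tv (w : Fin 3 ⊕ Fin 3 → ZMod 2) : Matrix (Fin 3 ⊕ Fin 3) (Fin 3 ⊕ Fin 3) (ZMod 2) :=
  Cfsg.sympTransvection 3 w 1

theorem Tv_mem : ∀ w : Fin 3 ⊕ Fin 3 → ZMod 2, Tv w ∈ Matrix.symplecticGroup (Fin 3) (ZMod 2) := by
  simp only [SymplecticGroup.mem_iff]
  decide +kernel

/-- the transvections as elements of `Sp_6(2)` -/
def TS (w : Fin 3 ⊕ Fin 3 → ZMod 2) : Matrix.symplecticGroup (Fin 3) (ZMod 2) := ⟨Tv w, Tv_mem w⟩

theorem phi_liftable : M7.IsLiftable (fun i => TS (vv i)) := by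
  have h : ∀ p : Fin 7 × Fin 7, (Tv (vv p.1) * Tv (vv p.2)) ^ (M7 p.1 p.2) = 1 := by decide +kernel
  intro i j
  apply Subtype.ext
  show ((TS (vv i) * TS (vv j)) ^ (M7 i j)).1 = 1
  rw [SubmonoidClass.coe_pow]
  exact h (i, j)

/-- reduction mod `2` of the reflection representation of `W(E_7)` -/
noncomputable def phi : W7 →* Matrix.symplecticGroup (Fin 3) (ZMod 2) :=
  M7.toCoxeterSystem.lift ⟨_, phi_liftable⟩

theorem phi_simple (i : Fin 7) : phi (M7.simple i) = TS (vv i) :=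
  M7.toCoxeterSystem.lift_apply_simple phi_liftable i

theorem sgn_liftable : M7.IsLiftable (fun _ : Fin 7 => (-1 : ℤˣ)) := by
  intro i j
  show ((-1 : ℤˣ) * -1) ^ (M7 i j) = 1
  simp

/-- the sign character of `W(E_7)` -/
noncomputable def sgn : W7 →* ℤˣ := M7.toCoxeterSystem.lift ⟨_, sgn_liftable⟩

theorem sgn_simple (i : Fin 7) : sgn (M7.simple i) = -1 :=
  M7.toCoxeterSystem.lift_apply_simple sgn_liftable i

/-- the double cover `2.Sp_6(2)`: pairs `(p, w)` with `w` even and `p` a lift of `theta w` -/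
def Gam : Subgroup (GL (Fin 16) (ZMod 3) × W7) where
  carrier := {x | (QuotientGroup.mk x.1 : GL (Fin 16) (ZMod 3) ⧸ Zpm) = theta x.2 ∧ sgn x.2 = 1}
  mul_mem' := by
    rintro a b ⟨ha1, ha2⟩ ⟨hb1, hb2⟩
    refine ⟨?_, ?_⟩
    · show (QuotientGroup.mk (a.1 * b.1) : GL (Fin 16) (ZMod 3) ⧸ Zpm) = theta (a.2 * b.2)
      rw [QuotientGroup.mk_mul, map_mul, ha1, hb1]
    · show sgn (a.2 * b.2) = 1
      rw [map_mul, ha2, hb2, one_mul]
  one_mem' := by
    refine ⟨?_, ?_⟩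
    · show (QuotientGroup.mk (1 : GL (Fin 16) (ZMod 3)) : GL (Fin 16) (ZMod 3) ⧸ Zpm) = theta 1
      rw [map_one, QuotientGroup.mk_one]
    · show sgn 1 = 1
      rw [map_one]
  inv_mem' := by
    rintro a ⟨ha1, ha2⟩
    refine ⟨?_, ?_⟩
    · show (QuotientGroup.mk (a.1⁻¹) : GL (Fin 16) (ZMod 3) ⧸ Zpm) = theta (a.2⁻¹)
      rw [QuotientGroup.mk_inv, map_inv, ha1]
    · show sgn (a.2⁻¹) = 1
      rw [map_inv, ha2, inv_one]

theorem mem_Gam (x : GL (Fin 16) (ZMod 3) × W7) :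
    x ∈ Gam ↔ (QuotientGroup.mk x.1 : GL (Fin 16) (ZMod 3) ⧸ Zpm) = theta x.2 ∧ sgn x.2 = 1 := Iff.rfl

/-- the covering map `2.Sp_6(2) → Sp_6(2)` -/
noncomputable def sig : ↥Gam →* Matrix.symplecticGroup (Fin 3) (ZMod 2) :=
  phi.comp ((MonoidHom.snd (GL (Fin 16) (ZMod 3)) W7).comp Gam.subtype)

theorem sig_apply (g : ↥Gam) : sig g = phi (g : GL (Fin 16) (ZMod 3) × W7).2 := rfl

end Cfsg.Agent.Lib.Helper14_S93
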