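import Mathlib
import Cfsg.Agent.Lib.Helper14_S96_STEIN4

set_option autoImplicit false
set_option linter.unusedVariables false
set_option linter.unusedSectionVars false

/-!
# Lifting a `DStAB` family to a central extension with THREE indices, from three hypotheses (helper14)

The construction of `Helper14_S96_STEIN4` (`h14q_exists_of_LC`) uses a fourth index only for the
independence of the auxiliary index (`h14q_ph_indep`) and the product formula (`h14q_ph_prod`).  Here the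
same construction is done from `3 ≤ card ι`, the commutation property `h14q_LC` and these two
properties as hypotheses (`h14b_PI`, `h14b_PP`).  Used for the types `B_m` / `²D_l` (S2094 / S2099), where
the short root elements provide them.
-/

namespace Cfsg.Agent.Lib.Helper66_S96

open Cfsg.Agent.Lib.Helper66_S92 Cfsg.Agent.Lib.Helper81_UceA Cfsg.Agent.Lib.Helper35_SteinAbs
open scoped commutatorElement

section h14b_stein

variable {K : Type*} [Field K] {ι : Type*} {E S : Type*} [Group E] [Group S] {π : E →* S}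
  {XS : ι ⊕ ι → ι ⊕ ι → K → S}

variable [Fintype ι] [DecidableEq ι]

theorem h14b_ph_add_left (L : h14q_LC π XS) (hπ : CExt π) (h : DStAB XS) {e a c : ι ⊕ ι}
    (hac : h14_sp a ≠ h14_sp c) (hae : h14_sp a ≠ h14_sp e) (hce : h14_sp c ≠ h14_sp e)
    (t t' u : K) :
    h14_ph hπ XS e a c (t + t') u = h14_ph hπ XS e a c t u * h14_ph hπ XS e a c t' u := by
  set x := lft hπ (XS a e t) with hx
  set x' := lft hπ (XS a e t') with hx'
  set y := lft hπ (XS (ng e) c u) with hy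
  have hxm : π x = XS a e t := map_lft hπ _
  have hxm' : π x' = XS a e t' := map_lft hπ _
  have hym : π y = XS (ng e) c u := map_lft hπ _
  have h1 : π (x * x') = XS a e (t + t') := by rw [map_mul, hxm, hxm', h.add]
  rw [← h14_ph_eq hπ h1 hym, commutator_mul_left]
  have hm : π ⁅x, y⁆ = XS a c (t * u) := h14_map_comm h hac hae hce hxm hym
  have hm' : π ⁅x', y⁆ = XS a c (t' * u) := h14_map_comm h hac hae hce hxm' hym
  have hc : Commute x ⁅x', y⁆ :=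
    h14q_lc L hae (ne_ng a) (h14_n2 hae) (h14_n2 hac.symm) (h14_n2 hce) hxm hm'
  have h3 : x * ⁅x', y⁆ * x⁻¹ = ⁅x', y⁆ := by
    rw [hc.eq]
    group
  rw [h3]
  have hc2 : Commute ⁅x', y⁆ ⁅x, y⁆ :=
    h14q_lc L hac (ne_ng a) (h14_n2 hac) (h14_n2 hac.symm) (ne_ng c) hm' hm
  rw [hc2.eq]
  rfl

theorem h14b_ph_add_right (L : h14q_LC π XS) (hπ : CExt π) (h : DStAB XS) {e a c : ι ⊕ ι}
    (hac : h14_sp a ≠ h14_sp c) (hae : h14_sp a ≠ h14_sp e) (hce : h14_sp c ≠ h14_sp e)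
    (t u u' : K) :
    h14_ph hπ XS e a c t (u + u') = h14_ph hπ XS e a c t u * h14_ph hπ XS e a c t u' := by
  set x := lft hπ (XS a e t) with hx
  set y := lft hπ (XS (ng e) c u) with hy
  set y' := lft hπ (XS (ng e) c u') with hy'
  have hxm : π x = XS a e t := map_lft hπ _
  have hym : π y = XS (ng e) c u := map_lft hπ _
  have hym' : π y' = XS (ng e) c u' := map_lft hπ _
  have h1 : π (y * y') = XS (ng e) c (u + u') := by rw [map_mul, hym, hym', h.add]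
  rw [← h14_ph_eq hπ hxm h1, commutator_mul_right]
  have hm' : π ⁅x, y'⁆ = XS a c (t * u') := h14_map_comm h hac hae hce hxm hym'
  have hec : h14_sp (ng e) ≠ h14_sp c := by rw [h14_sp_ng]; exact hce.symm
  have hc : Commute y ⁅x, y'⁆ :=
    h14q_lc L hec (h14_n5 hae) (h14_n2 hac) (h14_n5 hce) (ne_ng c) hym hm'
  have h3 : y * ⁅x, y'⁆ * y⁻¹ = ⁅x, y'⁆ := by
    rw [hc.eq]
    group
  rw [h3]
  rfl

theorem h14b_ph_zero_left (L : h14q_LC π XS) (hπ : CExt π) (h : DStAB XS) {e a c : ι ⊕ ι}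
    (hac : h14_sp a ≠ h14_sp c) (hae : h14_sp a ≠ h14_sp e) (hce : h14_sp c ≠ h14_sp e) (u : K) :
    h14_ph hπ XS e a c 0 u = 1 := by
  have := h14b_ph_add_left L hπ h hac hae hce 0 0 u
  rw [add_zero] at this
  exact mul_eq_left.mp this.symm

theorem h14b_ph_zero_right (L : h14q_LC π XS) (hπ : CExt π) (h : DStAB XS) {e a c : ι ⊕ ι}
    (hac : h14_sp a ≠ h14_sp c) (hae : h14_sp a ≠ h14_sp e) (hce : h14_sp c ≠ h14_sp e) (t : K) :
    h14_ph hπ XS e a c t 0 = 1 := by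
  have := h14b_ph_add_right L hπ h hac hae hce t 0 0
  rw [add_zero] at this
  exact mul_eq_left.mp this.symm

theorem h14b_ph_neg_left (L : h14q_LC π XS) (hπ : CExt π) (h : DStAB XS) {e a c : ι ⊕ ι}
    (hac : h14_sp a ≠ h14_sp c) (hae : h14_sp a ≠ h14_sp e) (hce : h14_sp c ≠ h14_sp e) (t u : K) :
    h14_ph hπ XS e a c (-t) u = (h14_ph hπ XS e a c t u)⁻¹ := by
  rw [eq_inv_iff_mul_eq_one, ← h14b_ph_add_left L hπ h hac hae hce, neg_add_cancel,
    h14b_ph_zero_left L hπ h hac hae hce]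

theorem h14b_ph_neg_right (L : h14q_LC π XS) (hπ : CExt π) (h : DStAB XS) {e a c : ι ⊕ ι}
    (hac : h14_sp a ≠ h14_sp c) (hae : h14_sp a ≠ h14_sp e) (hce : h14_sp c ≠ h14_sp e) (t u : K) :
    h14_ph hπ XS e a c t (-u) = (h14_ph hπ XS e a c t u)⁻¹ := by
  rw [eq_inv_iff_mul_eq_one, ← h14b_ph_add_right L hπ h hac hae hce, neg_add_cancel,
    h14b_ph_zero_right L hπ h hac hae hce]

/-- (L2) the Hall-Witt comparison -/
theorem h14b_hw (L : h14q_LC π XS) (hπ : CExt π) (h : DStAB XS) {a c e f : ι ⊕ ι}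
    (hac : h14_sp a ≠ h14_sp c) (hae : h14_sp a ≠ h14_sp e) (haf : h14_sp a ≠ h14_sp f)
    (hce : h14_sp c ≠ h14_sp e) (hcf : h14_sp c ≠ h14_sp f) (hef : h14_sp e ≠ h14_sp f)
    (t u v : K) :
    h14_ph hπ XS f a c (t * u) v = h14_ph hπ XS e a c t (u * v) := by
  set x := lft hπ (XS a e t) with hx
  set y := lft hπ (XS (ng e) f u) with hy
  set z := lft hπ (XS (ng f) c v) with hz
  have hxm : π x = XS a e t := map_lft hπ _
  have hym : π y = XS (ng e) f u := map_lft hπ _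
  have hzm : π z = XS (ng f) c v := map_lft hπ _
  have hnec : h14_sp (ng e) ≠ h14_sp c := by rw [h14_sp_ng]; exact hce.symm
  have hnef : h14_sp (ng e) ≠ h14_sp f := by rw [h14_sp_ng]; exact hef
  -- P' = ⁅x, y⁆ lifts XS a f (t u), Q' = ⁅y, z⁆ lifts XS (ng e) c (u v)
  have hP : π ⁅x, y⁆ = XS a f (t * u) := h14_map_comm h haf hae hef.symm hxm hym
  have hQ : π ⁅y, z⁆ = XS (ng e) c (u * v) := h14_map_comm h hnec hnef hcf hym hzm
  have hPi : π (⁅x, y⁆)⁻¹ = XS a f (-(t * u)) := by rw [map_inv, hP, h.X_inv]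
  have hQi : π (⁅y, z⁆)⁻¹ = XS (ng e) c (-(u * v)) := by rw [map_inv, hQ, h.X_inv]
  have e1 : ⁅z, ⁅y, x⁆⁆ = h14_ph hπ XS f a c (t * u) v := by
    rw [← commutatorElement_inv x y, ← commutatorElement_inv (⁅x, y⁆)⁻¹ z,
      h14_ph_eq hπ hPi hzm, h14b_ph_neg_left L hπ h hac haf hcf, inv_inv]
  have e2 : ⁅⁅z, y⁆, x⁆ = h14_ph hπ XS e a c t (u * v) := by
    rw [← commutatorElement_inv y z, ← commutatorElement_inv x (⁅y, z⁆)⁻¹,
      h14_ph_eq hπ hxm hQi, h14b_ph_neg_right L hπ h hac hae hce, inv_inv]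
  rw [← e1, ← e2]
  have hR : π ⁅⁅z, y⁆, x⁆ = XS a c (t * (u * v)) := by
    rw [e2]; exact h14_map_ph hπ h hac hae hce _ _
  apply hall_witt_special
  · exact h14q_lc L hae (h14_n4 haf.symm) (h14_n4 hef.symm) (h14_n2 hac.symm)
      (h14_n2 hce) hxm hzm
  · have hPQ : Commute ⁅x, y⁆ ⁅y, z⁆ :=
      h14q_lc L haf (h14_n4 hae.symm) (h14_n4 hef) (h14_n2 hac.symm)
        (h14_n2 hcf) hP hQ
    rw [← commutatorElement_inv x y, ← commutatorElement_inv y z]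
    exact hPQ.inv_inv
  · have hRP : Commute ⁅⁅z, y⁆, x⁆ ⁅x, y⁆ :=
      h14q_lc L hac (ne_ng a) (h14_n2 hac) (h14_n2 haf.symm) (h14_n2 hcf.symm)
        hR hP
    rw [← commutatorElement_inv x y]
    exact hRP.inv_right

theorem h14b_ph_indep_ne (L : h14q_LC π XS) (hπ : CExt π) (h : DStAB XS) {a c e f : ι ⊕ ι}
    (hac : h14_sp a ≠ h14_sp c) (hae : h14_sp a ≠ h14_sp e) (haf : h14_sp a ≠ h14_sp f)
    (hce : h14_sp c ≠ h14_sp e) (hcf : h14_sp c ≠ h14_sp f) (hef : h14_sp e ≠ h14_sp f)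
    (t v : K) :
    h14_ph hπ XS f a c t v = h14_ph hπ XS e a c t v := by
  have := h14b_hw L hπ h hac hae haf hce hcf hef t 1 v
  rwa [mul_one, one_mul] at this

/-- independence of the auxiliary index (hypothesis of the engine) -/
def h14b_PI (hπ : CExt π) (XS : ι ⊕ ι → ι ⊕ ι → K → S) : Prop :=
  ∀ (a c e f : ι ⊕ ι) (t v : K), h14_sp a ≠ h14_sp c → h14_sp a ≠ h14_sp e → h14_sp a ≠ h14_sp f →
    h14_sp c ≠ h14_sp e → h14_sp c ≠ h14_sp f →
    h14_ph hπ XS f a c t v = h14_ph hπ XS e a c t v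

/-- the product formula (hypothesis of the engine) -/
def h14b_PP (hπ : CExt π) (XS : ι ⊕ ι → ι ⊕ ι → K → S) : Prop :=
  ∀ (a c e : ι ⊕ ι) (t v : K), h14_sp a ≠ h14_sp c → h14_sp a ≠ h14_sp e → h14_sp c ≠ h14_sp e →
    h14_ph hπ XS e a c t v = h14_ph hπ XS e a c (t * v) 1

theorem h14b_ph_indep (L : h14q_LC π XS) (h3 : 3 ≤ Fintype.card ι) (hπ : CExt π) (h : DStAB XS)
    (PI : h14b_PI hπ XS) (PP : h14b_PP hπ XS) {a c e f : ι ⊕ ι}
    (hac : h14_sp a ≠ h14_sp c) (hae : h14_sp a ≠ h14_sp e) (haf : h14_sp a ≠ h14_sp f)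
    (hce : h14_sp c ≠ h14_sp e) (hcf : h14_sp c ≠ h14_sp f) (t v : K) :
    h14_ph hπ XS f a c t v = h14_ph hπ XS e a c t v := PI a c e f t v hac hae haf hce hcf

theorem h14b_ph_prod (L : h14q_LC π XS) (h3 : 3 ≤ Fintype.card ι) (hπ : CExt π) (h : DStAB XS)
    (PI : h14b_PI hπ XS) (PP : h14b_PP hπ XS) {a c e : ι ⊕ ι}
    (hac : h14_sp a ≠ h14_sp c) (hae : h14_sp a ≠ h14_sp e) (hce : h14_sp c ≠ h14_sp e)
    (t v : K) :
    h14_ph hπ XS e a c t v = h14_ph hπ XS e a c (t * v) 1 := PP a c e t v hac hae hce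

/-- the lifts -/
theorem h14b_Y_eq (L : h14q_LC π XS) (h3 : 3 ≤ Fintype.card ι) (hπ : CExt π) (h : DStAB XS)
    (PI : h14b_PI hπ XS) (PP : h14b_PP hπ XS) {a c e : ι ⊕ ι}
    (hac : h14_sp a ≠ h14_sp c) (hae : h14_sp a ≠ h14_sp e) (hce : h14_sp c ≠ h14_sp e) (t : K) :
    h14_Y hπ XS a c t = h14_ph hπ XS e a c t 1 := by
  have hr : h14_sp a ≠ h14_sp c ∧ ∃ e : ι ⊕ ι, h14_sp a ≠ h14_sp e ∧ h14_sp c ≠ h14_sp e :=
    ⟨hac, e, hae, hce⟩
  unfold h14_Y
  rw [dif_pos hr]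
  obtain ⟨h1, h2⟩ := Classical.choose_spec hr.2
  exact h14b_ph_indep L h3 hπ h PI PP hac hae h1 hce h2 t 1

theorem h14b_map_Y (L : h14q_LC π XS) (h3 : 3 ≤ Fintype.card ι) (hπ : CExt π) (h : DStAB XS)
    (PI : h14b_PI hπ XS) (PP : h14b_PP hπ XS) (a c : ι ⊕ ι) (t : K) :
    π (h14_Y hπ XS a c t) = XS a c t := by
  by_cases hac : h14_sp a = h14_sp c
  · rw [h14_Y_one hπ hac, map_one, h14_XS_one h hac]
  · obtain ⟨e, hae, hce⟩ := h14_fresh2 (by omega) a c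
    rw [h14b_Y_eq L h3 hπ h PI PP hac hae hce, h14_map_ph hπ h hac hae hce, mul_one]

theorem h14b_Y_add (L : h14q_LC π XS) (h3 : 3 ≤ Fintype.card ι) (hπ : CExt π) (h : DStAB XS)
    (PI : h14b_PI hπ XS) (PP : h14b_PP hπ XS) (a c : ι ⊕ ι) (t u : K) :
    h14_Y hπ XS a c t * h14_Y hπ XS a c u = h14_Y hπ XS a c (t + u) := by
  by_cases hac : h14_sp a = h14_sp c
  · rw [h14_Y_one hπ hac, h14_Y_one hπ hac, h14_Y_one hπ hac, mul_one]
  · obtain ⟨e, hae, hce⟩ := h14_fresh2 (by omega) a c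
    rw [h14b_Y_eq L h3 hπ h PI PP hac hae hce, h14b_Y_eq L h3 hπ h PI PP hac hae hce, h14b_Y_eq L h3 hπ h PI PP hac hae hce,
      h14b_ph_add_left L hπ h hac hae hce]

theorem h14b_Y_anti (L : h14q_LC π XS) (h3 : 3 ≤ Fintype.card ι) (hπ : CExt π) (h : DStAB XS)
    (PI : h14b_PI hπ XS) (PP : h14b_PP hπ XS) (a c : ι ⊕ ι) (t : K) :
    h14_Y hπ XS c a t = h14_Y hπ XS a c (-t) := by
  by_cases hac : h14_sp a = h14_sp c
  · rw [h14_Y_one hπ hac, h14_Y_one hπ hac.symm]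
  · obtain ⟨e, hae, hce⟩ := h14_fresh2 (by omega) a c
    have hca : h14_sp c ≠ h14_sp a := fun H => hac H.symm
    have hce' : h14_sp c ≠ h14_sp (ng e) := by rw [h14_sp_ng]; exact hce
    have hae' : h14_sp a ≠ h14_sp (ng e) := by rw [h14_sp_ng]; exact hae
    rw [h14b_Y_eq L h3 hπ h PI PP hac hae hce, h14b_ph_neg_left L hπ h hac hae hce,
      h14b_Y_eq L h3 hπ h PI PP hca hce' hae']
    -- `(ph e a c t 1)⁻¹ = ⁅lift X e' c 1, lift X a e t⁆`
    unfold h14_ph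
    rw [commutatorElement_inv]
    have e1 : π (lft hπ (XS (ng e) c 1)) = XS c (ng e) (-1) := by
      rw [map_lft, h.anti (ng e) c (-1), neg_neg]
    have e2 : π (lft hπ (XS a e t)) = XS (ng (ng e)) a (-t) := by
      rw [map_lft, ng_ng, h.anti e a t]
    have e3 := h14_ph_eq hπ e1 e2
    rw [e3, h14b_ph_prod L h3 hπ h PI PP hca hce' hae']
    unfold h14_ph
    rw [neg_mul_neg, one_mul]

theorem h14b_Y_comm (L : h14q_LC π XS) (h3 : 3 ≤ Fintype.card ι) (hπ : CExt π) (h : DStAB XS)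
    (PI : h14b_PI hπ XS) (PP : h14b_PP hπ XS) (a c d e : ι ⊕ ι)
    (t u : K) (k1 : d ≠ ng a) (k2 : d ≠ ng c) (k3 : e ≠ ng a) (k4 : e ≠ ng c) :
    h14_Y hπ XS a c t * h14_Y hπ XS d e u = h14_Y hπ XS d e u * h14_Y hπ XS a c t := by
  by_cases hac : h14_sp a = h14_sp c
  · rw [h14_Y_one hπ hac, one_mul, mul_one]
  · exact (h14q_lc L hac k1 k2 k3 k4 (h14b_map_Y L h3 hπ h PI PP a c t)
      (h14b_map_Y L h3 hπ h PI PP d e u)).eq

theorem h14b_Y_a2 (L : h14q_LC π XS) (h3 : 3 ≤ Fintype.card ι) (hπ : CExt π) (h : DStAB XS)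
    (PI : h14b_PI hπ XS) (PP : h14b_PP hπ XS) (a c e : ι ⊕ ι) (t u : K)
    (hac : h14_sp a ≠ h14_sp c) (hae : h14_sp a ≠ h14_sp e) (hce : h14_sp c ≠ h14_sp e) :
    ⁅h14_Y hπ XS a c t, h14_Y hπ XS (ng c) e u⁆ = h14_Y hπ XS a e (t * u) := by
  rw [h14_ph_eq hπ (h14b_map_Y L h3 hπ h PI PP a c t) (h14b_map_Y L h3 hπ h PI PP (ng c) e u),
    h14b_ph_prod L h3 hπ h PI PP hae hac hce.symm, h14b_Y_eq L h3 hπ h PI PP hae hac hce.symm]


/-- the group-theoretic core of the `comm2` argument -/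
theorem h14b_Y_comm2 (L : h14q_LC π XS) (h3 : 3 ≤ Fintype.card ι) (hπ : CExt π) (h : DStAB XS)
    (PI : h14b_PI hπ XS) (PP : h14b_PP hπ XS) (p q : ι ⊕ ι)
    (t u : K) :
    h14_Y hπ XS p q t * h14_Y hπ XS (ng p) q u = h14_Y hπ XS (ng p) q u * h14_Y hπ XS p q t := by
  by_cases hpq : h14_sp p = h14_sp q
  · rw [h14_Y_one hπ hpq, one_mul, mul_one]
  · obtain ⟨o, hpo, hqo⟩ := h14_fresh2 (by omega) p q
    have hop : h14_sp o ≠ h14_sp p := hpo.symm
    have hoq : h14_sp o ≠ h14_sp q := hqo.symm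
    have hnpq : h14_sp (ng p) ≠ h14_sp q := by rw [h14_sp_ng]; exact hpq
    have hnpo : h14_sp (ng p) ≠ h14_sp o := by rw [h14_sp_ng]; exact hpo
    have hqno : h14_sp q ≠ h14_sp (ng o) := by rw [h14_sp_ng]; exact hqo
    have hnop : h14_sp (ng o) ≠ h14_sp p := by rw [h14_sp_ng]; exact hop
    have hnonp : h14_sp (ng o) ≠ h14_sp (ng p) := by rw [h14_sp_ng, h14_sp_ng]; exact hop
    have hqp : h14_sp q ≠ h14_sp p := fun H => hpq H.symm
    have hqnp : h14_sp q ≠ h14_sp (ng p) := by rw [h14_sp_ng]; exact hqp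
    have honp : h14_sp o ≠ h14_sp (ng p) := by rw [h14_sp_ng]; exact hop
    -- notation
    have hg : h14_Y hπ XS (ng o) q 1 = h14_Y hπ XS q (ng o) (-1) :=
      h14b_Y_anti L h3 hπ h PI PP q (ng o) 1
    have hA : ⁅h14_Y hπ XS (ng o) q 1, h14_Y hπ XS o p t⁆ = h14_Y hπ XS p q t := by
      have := h14b_Y_a2 L h3 hπ h PI PP q (ng o) p (-1) t hqno hqp hnop
      rw [ng_ng] at this
      rw [hg, this, h14b_Y_anti L h3 hπ h PI PP p q, neg_mul, one_mul, neg_neg]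
    have hB : ⁅h14_Y hπ XS (ng o) q 1, h14_Y hπ XS o (ng p) u⁆ = h14_Y hπ XS (ng p) q u := by
      have := h14b_Y_a2 L h3 hπ h PI PP q (ng o) (ng p) (-1) u hqno hqnp hnonp
      rw [ng_ng] at this
      rw [hg, this, h14b_Y_anti L h3 hπ h PI PP (ng p) q, neg_mul, one_mul, neg_neg]
    have hD : ⁅h14_Y hπ XS o p t, h14_Y hπ XS (ng p) q u⁆ = h14_Y hπ XS o q (t * u) :=
      h14b_Y_a2 L h3 hπ h PI PP o p q t u hop hoq hpq
    have hD' : ⁅h14_Y hπ XS p q t, h14_Y hπ XS o (ng p) u⁆ = (h14_Y hπ XS o q (t * u))⁻¹ := by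
      have := h14b_Y_a2 L h3 hπ h PI PP o (ng p) q u t honp hoq hnpq
      rw [ng_ng] at this
      rw [← commutatorElement_inv, this, mul_comm]
    have hAD : Commute (h14_Y hπ XS p q t) (h14_Y hπ XS o q (t * u)) :=
      h14b_Y_comm L h3 hπ h PI PP p q o q t (t * u) (h14_n2 hop) (h14_n2 hoq) (h14_n2 hqp) (ne_ng q)
    have hBD : Commute (h14_Y hπ XS (ng p) q u) (h14_Y hπ XS o q (t * u)) :=
      h14b_Y_comm L h3 hπ h PI PP (ng p) q o q u (t * u) (h14_n5 hop) (h14_n2 hoq) (h14_n5 hqp) (ne_ng q)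
    have hκ : ∀ x : E, Commute ⁅h14_Y hπ XS o p t, h14_Y hπ XS o (ng p) u⁆ x := by
      apply hπ.commute_of_ker
      rw [map_commutatorElement, h14b_map_Y L h3 hπ h PI PP, h14b_map_Y L h3 hπ h PI PP,
        commutatorElement_eq_one_iff_commute, h.anti p o t, h.anti (ng p) o u]
      exact h.comm2 p o (-t) (-u)
    have hc₀ : ∀ x : E, Commute ⁅h14_Y hπ XS p q t, h14_Y hπ XS (ng p) q u⁆ x := by
      apply hπ.commute_of_ker
      rw [map_commutatorElement, h14b_map_Y L h3 hπ h PI PP, h14b_map_Y L h3 hπ h PI PP,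
        commutatorElement_eq_one_iff_commute]
      exact h.comm2 p q t u
    have hk := h14_kappa hκ hc₀ hD hD' hAD hBD
    -- the left side is the conjugate of `κ` by `g`
    have hconj : ⁅h14_Y hπ XS p q t * h14_Y hπ XS o p t,
        h14_Y hπ XS (ng p) q u * h14_Y hπ XS o (ng p) u⁆ =
        ⁅h14_Y hπ XS o p t, h14_Y hπ XS o (ng p) u⁆ := by
      have e1 : h14_Y hπ XS p q t * h14_Y hπ XS o p t =
          h14_Y hπ XS (ng o) q 1 * h14_Y hπ XS o p t * (h14_Y hπ XS (ng o) q 1)⁻¹ := by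
        rw [← hA, commutatorElement_def]
        group
      have e2 : h14_Y hπ XS (ng p) q u * h14_Y hπ XS o (ng p) u =
          h14_Y hπ XS (ng o) q 1 * h14_Y hπ XS o (ng p) u * (h14_Y hπ XS (ng o) q 1)⁻¹ := by
        rw [← hB, commutatorElement_def]
        group
      rw [e1, e2, ← conj_commutator, ← (hκ (h14_Y hπ XS (ng o) q 1)).eq]
      group
    rw [hconj] at hk
    have h1 : ⁅h14_Y hπ XS p q t, h14_Y hπ XS (ng p) q u⁆ = 1 := by
      have := hk.symm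
      exact mul_eq_left.mp this
    exact (commutatorElement_eq_one_iff_commute.mp h1).eq

/-- the lifting theorem from the commutation property and four indices -/
theorem h14b_exists_of_LC (L : h14q_LC π XS) (h3 : 3 ≤ Fintype.card ι) (hπ : CExt π)
    (h : DStAB XS) (PI : h14b_PI hπ XS) (PP : h14b_PP hπ XS) :
    ∃ Y : ι ⊕ ι → ι ⊕ ι → K → E, (∀ a c t, π (Y a c t) = XS a c t) ∧ DStAB Y := by
  refine ⟨h14_Y hπ XS, h14b_map_Y L h3 hπ h PI PP, ?_⟩
  exact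
    { anti := fun a c t => h14b_Y_anti L h3 hπ h PI PP a c t
      opp := fun a t => h14_Y_one hπ (h14_sp_ng a).symm t
      diag := fun a t => h14_Y_one hπ rfl t
      add := h14b_Y_add L h3 hπ h PI PP
      comm := h14b_Y_comm L h3 hπ h PI PP
      comm2 := h14b_Y_comm2 L h3 hπ h PI PP
      a2 := fun a c e t u k1 k2 k3 k4 k5 k6 => by
        have := h14b_Y_a2 L h3 hπ h PI PP a c e t u ((h14_sp_ne_iff a c).mpr ⟨k1, k2⟩)
          ((h14_sp_ne_iff a e).mpr ⟨k3, k4⟩) ((h14_sp_ne_iff c e).mpr ⟨k5, k6⟩)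
        rw [commutatorElement_def] at this
        exact this }

end h14b_stein

end Cfsg.Agent.Lib.Helper66_S96
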