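import Mathlib
import Cfsg.Agent.Lib.Helper14_S94_LIFTA
import Cfsg.Agent.Lib.Helper74_S94Defs

set_option autoImplicit false
set_option linter.unusedVariables false
set_option linter.unusedSectionVars false

/-!
# S94 (S2094 / S2099), block LIFT: lifting a `BStAB` family to a central extension (helper14)

`π : E →* S` a central extension, `(X, XS)` a family in `S` with the relations `BStAB Q0 X XS` of type
`B_m` / `²D_l` (long root elements `X a c t`, short root elements `XS a v`, `v ∈ V0`), at least three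
indices.  Then there are lifts `(Y, YS)` in `E` with the same relations, provided
* the polar form of `Q0` takes the value `1`, and
* either there are at least four indices, or (three indices) every short root group `XS a` is
  normalised by an element `h` acting on it through `φ` with `φ - 1` onto and commuting with the long
  root elements not involving `a` (in the applications `h` is a torus element of the rank one group
  `⟨XS a, XS (ng a)⟩`; for `B_3(3)` there is none, and the statement is false there).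

Method (Steinberg, Stein): `br x y`, the commutator of any lifts of `x, y ∈ S`, depends only on `x, y`; `CL x y`
says that any lifts of `x` and `y` commute.
-/

namespace Cfsg.Agent.Lib.Helper74_S94

open Cfsg.Agent.Lib.Helper66_S92 Cfsg.Agent.Lib.Helper66_S96 Cfsg.Agent.Lib.Helper81_UceA
  Cfsg.Agent.Lib.Helper35_SteinAbs
open scoped commutatorElement

/-! ## the calculus of lifts in a central extension -/

section h14c_calc

variable {E S : Type*} [Group E] [Group S] {π : E →* S}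

/-- any lifts of `x` and `y` commute -/
def h14c_CL (π : E →* S) (x y : S) : Prop := ∀ x' y' : E, π x' = x → π y' = y → Commute x' y'

theorem h14c_CL_symm {x y : S} (h : h14c_CL π x y) : h14c_CL π y x :=
  fun x' y' hx hy => (h y' x' hy hx).symm

theorem h14c_CL_of_lifts (hπ : CExt π) {x' y' : E} (h : Commute x' y') : h14c_CL π (π x') (π y') := by
  intro a b ha hb
  have h1 : Commute a y' := commute_of_lift_eq hπ ha.symm h
  exact (commute_of_lift_eq hπ hb.symm h1.symm).symm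

theorem h14c_CL_of_lifts' (hπ : CExt π) {x y : S} {x' y' : E} (hx : π x' = x) (hy : π y' = y)
    (h : Commute x' y') : h14c_CL π x y := by
  subst hx; subst hy
  exact h14c_CL_of_lifts hπ h

theorem h14c_CL_one_left (hπ : CExt π) (y : S) : h14c_CL π 1 y :=
  fun x' y' hx _ => hπ.commute_of_ker hx y'

theorem h14c_CL_one_right (hπ : CExt π) (x : S) : h14c_CL π x 1 :=
  h14c_CL_symm (h14c_CL_one_left hπ x)

theorem h14c_CL_mul_left (hπ : CExt π) {x y z : S} (h1 : h14c_CL π x z) (h2 : h14c_CL π y z) :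
    h14c_CL π (x * y) z := by
  have hc : Commute (lft hπ x * lft hπ y) (lft hπ z) :=
    (h1 _ _ (map_lft hπ x) (map_lft hπ z)).mul_left (h2 _ _ (map_lft hπ y) (map_lft hπ z))
  exact h14c_CL_of_lifts' hπ (by rw [map_mul, map_lft, map_lft]) (map_lft hπ z) hc

theorem h14c_CL_mul_right (hπ : CExt π) {x y z : S} (h1 : h14c_CL π x y) (h2 : h14c_CL π x z) :
    h14c_CL π x (y * z) :=
  h14c_CL_symm (h14c_CL_mul_left hπ (h14c_CL_symm h1) (h14c_CL_symm h2))

theorem h14c_CL_inv_left (hπ : CExt π) {x y : S} (h : h14c_CL π x y) : h14c_CL π x⁻¹ y := by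
  have hc : Commute (lft hπ x)⁻¹ (lft hπ y) := (h _ _ (map_lft hπ x) (map_lft hπ y)).inv_left
  exact h14c_CL_of_lifts' hπ (by rw [map_inv, map_lft]) (map_lft hπ y) hc

theorem h14c_CL_inv_right (hπ : CExt π) {x y : S} (h : h14c_CL π x y) : h14c_CL π x y⁻¹ :=
  h14c_CL_symm (h14c_CL_inv_left hπ (h14c_CL_symm h))

/-- if `z` commutes with `p` and `q` then the lifts of `z` commute with the lifts of `⁅p, q⁆` -/
theorem h14c_CL_comm (hπ : CExt π) {z p q : S} (hp : Commute z p) (hq : Commute z q) :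
    h14c_CL π z ⁅p, q⁆ := by
  have hc : Commute (lft hπ z) ⁅lft hπ p, lft hπ q⁆ := by
    apply commute_commutator_of_commute hπ
    · rw [map_lft, map_lft]; exact hp
    · rw [map_lft, map_lft]; exact hq
  exact h14c_CL_of_lifts' hπ (map_lft hπ z) (by rw [map_commutatorElement, map_lft, map_lft]) hc

/-- the commutator of the lifts -/
noncomputable def h14c_br (hπ : CExt π) (x y : S) : E := ⁅lft hπ x, lft hπ y⁆

theorem h14c_br_eq (hπ : CExt π) {x y : S} {x' y' : E} (hx : π x' = x) (hy : π y' = y) :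
    ⁅x', y'⁆ = h14c_br hπ x y := by
  unfold h14c_br
  apply lift_comm_eq hπ
  · rw [hx, map_lft]
  · rw [hy, map_lft]

theorem h14c_map_br (hπ : CExt π) (x y : S) : π (h14c_br hπ x y) = ⁅x, y⁆ := by
  unfold h14c_br
  rw [map_commutatorElement, map_lft, map_lft]

theorem h14c_br_eq_one (hπ : CExt π) {x y : S} (h : h14c_CL π x y) : h14c_br hπ x y = 1 :=
  commutatorElement_eq_one_iff_commute.mpr (h _ _ (map_lft hπ x) (map_lft hπ y))

theorem h14c_br_inv (hπ : CExt π) (x y : S) : (h14c_br hπ x y)⁻¹ = h14c_br hπ y x := by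
  unfold h14c_br
  rw [commutatorElement_inv]

/-- the bracket is multiplicative in the second variable -/
theorem h14c_br_mul_right (hπ : CExt π) {x y y' : S} (h : h14c_CL π y ⁅x, y'⁆) :
    h14c_br hπ x (y * y') = h14c_br hπ x y * h14c_br hπ x y' := by
  have h1 : π (lft hπ y * lft hπ y') = y * y' := by rw [map_mul, map_lft, map_lft]
  rw [← h14c_br_eq hπ (map_lft hπ x) h1, commutator_mul_right]
  have hc : Commute (lft hπ y) ⁅lft hπ x, lft hπ y'⁆ :=
    h _ _ (map_lft hπ y) (by rw [map_commutatorElement, map_lft, map_lft])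
  have h3 : lft hπ y * ⁅lft hπ x, lft hπ y'⁆ * (lft hπ y)⁻¹ = ⁅lft hπ x, lft hπ y'⁆ := by
    rw [hc.eq]; group
  rw [h3]
  rfl

/-- the bracket is (anti)multiplicative in the first variable -/
theorem h14c_br_mul_left (hπ : CExt π) {x x' y : S} (h : h14c_CL π x ⁅x', y⁆) :
    h14c_br hπ (x * x') y = h14c_br hπ x' y * h14c_br hπ x y := by
  have h1 : π (lft hπ x * lft hπ x') = x * x' := by rw [map_mul, map_lft, map_lft]
  rw [← h14c_br_eq hπ h1 (map_lft hπ y), commutator_mul_left]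
  have hc : Commute (lft hπ x) ⁅lft hπ x', lft hπ y⁆ :=
    h _ _ (map_lft hπ x) (by rw [map_commutatorElement, map_lft, map_lft])
  have h3 : lft hπ x * ⁅lft hπ x', lft hπ y⁆ * (lft hπ x)⁻¹ = ⁅lft hπ x', lft hπ y⁆ := by
    rw [hc.eq]; group
  rw [h3]
  rfl

/-- the general formula in the first variable -/
theorem h14c_br_mul_left' (hπ : CExt π) (x x' y : S) :
    h14c_br hπ (x * x') y = h14c_br hπ x ⁅x', y⁆ * h14c_br hπ x' y * h14c_br hπ x y := by
  have h1 : π (lft hπ x * lft hπ x') = x * x' := by rw [map_mul, map_lft, map_lft]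
  rw [← h14c_br_eq hπ h1 (map_lft hπ y), commutator_mul_left]
  have h2 : ⁅lft hπ x, ⁅lft hπ x', lft hπ y⁆⁆ = h14c_br hπ x ⁅x', y⁆ :=
    h14c_br_eq hπ (map_lft hπ x) (by rw [map_commutatorElement, map_lft, map_lft])
  rw [← h2]
  unfold h14c_br
  simp only [commutatorElement_def]
  group

/-- conjugation of the bracket -/
theorem h14c_br_conj (hπ : CExt π) (e : E) (x y : S) :
    e * h14c_br hπ x y * e⁻¹ = h14c_br hπ (π e * x * (π e)⁻¹) (π e * y * (π e)⁻¹) := by
  unfold h14c_br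
  rw [conj_commutator]
  apply lift_comm_eq hπ
  · rw [map_mul, map_mul, map_inv, map_lft, map_lft]
  · rw [map_mul, map_mul, map_inv, map_lft, map_lft]

/-- the Hall-Witt identity when the outer elements commute -/
theorem h14c_hw_elem {g k u : E} (h : Commute g u) : ⁅g, ⁅k, u⁆⁆ = ⁅⁅g, k⁆, ⁅k, u⁆ * u⁆ := by
  have h1 : g⁻¹ * u * g = u := by rw [mul_assoc, ← h.eq, inv_mul_cancel_left]
  have h2 : u⁻¹ * g⁻¹ * u = g⁻¹ := by
    have := h.inv_left.eq
    rw [mul_assoc, this, inv_mul_cancel_left]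
  have e1 : ⁅g, ⁅k, u⁆⁆ = g * k * u * k⁻¹ * (u⁻¹ * g⁻¹ * u) * k * u⁻¹ * k⁻¹ := by
    simp only [commutatorElement_def]; group
  have e2 : ⁅⁅g, k⁆, ⁅k, u⁆ * u⁆ = g * k * (g⁻¹ * u * g) * k⁻¹ * g⁻¹ * k * u⁻¹ * k⁻¹ := by
    simp only [commutatorElement_def]; group
  rw [e1, e2, h1, h2]

theorem h14c_hw (hπ : CExt π) {g k u : S} (h : h14c_CL π g u) :
    h14c_br hπ g ⁅k, u⁆ = h14c_br hπ ⁅g, k⁆ (⁅k, u⁆ * u) := by
  have hc : Commute (lft hπ g) (lft hπ u) := h _ _ (map_lft hπ g) (map_lft hπ u)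
  have e := h14c_hw_elem (k := lft hπ k) hc
  rw [h14c_br_eq hπ (map_lft hπ g) (by rw [map_commutatorElement, map_lft, map_lft] : π ⁅lft hπ k, lft hπ u⁆ = ⁅k, u⁆)] at e
  rw [e]
  apply h14c_br_eq hπ
  · rw [map_commutatorElement, map_lft, map_lft]
  · rw [map_mul, map_commutatorElement, map_lft, map_lft]

/-- a lift of `x * y` as a product of lifts, up to the centre: commutation with it -/
theorem h14c_commute_of_CL (hπ : CExt π) {x y : S} (h : h14c_CL π x y) {x' y' : E} (hx : π x' = x)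
    (hy : π y' = y) : Commute x' y' := h x' y' hx hy

end h14c_calc

/-! ## the root elements -/

section h14c_lift

variable {K : Type*} [Field K] {V0 : Type*} [AddCommGroup V0] [Module K V0]
  {Q0 : QuadraticForm K V0} {ι : Type*} {E S : Type*} [Group E] [Group S] {π : E →* S}
  {X : ι ⊕ ι → ι ⊕ ι → K → S} {XS : ι ⊕ ι → V0 → S}

theorem h14c_XS_zero (h : BStAB Q0 X XS) (a : ι ⊕ ι) : XS a 0 = 1 := by
  have := h.sadd a 0 0
  rw [add_zero] at this
  exact mul_eq_left.mp this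

theorem h14c_XS_inv (h : BStAB Q0 X XS) (a : ι ⊕ ι) (v : V0) : (XS a v)⁻¹ = XS a (-v) := by
  rw [inv_eq_iff_mul_eq_one, h.sadd, add_neg_cancel, h14c_XS_zero h]

theorem h14c_scomm (h : BStAB Q0 X XS) {a d e : ι ⊕ ι} (hd : d ≠ ng a) (he : e ≠ ng a) (v : V0) (t : K) :
    Commute (XS a v) (X d e t) := h.scomm a d e v t hd he

theorem h14c_ss (h : BStAB Q0 X XS) {a c : ι ⊕ ι} (hac : h14_sp a ≠ h14_sp c) (v w : V0) :
    ⁅XS a v, XS c w⁆ = X a c (-(QuadraticMap.polar Q0 v w)) := by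
  rw [commutatorElement_def]
  exact h.ss a c v w (h14_n1 hac.symm) (h14_n2 hac.symm)

/-- the relation `ls` with the short root element in front -/
theorem h14c_ls (h : BStAB Q0 X XS) {a c : ι ⊕ ι} (hac : h14_sp a ≠ h14_sp c) (v : V0) (t : K) :
    ⁅XS a v, X (ng a) c t⁆ = XS c (t • v) * X c a (t * Q0 v) := by
  have h1 := h.ls c (ng a) (-t) v (h14_n3 hac) (h14_n4 hac)
  rw [ng_ng] at h1
  have h2 : X (ng a) c t = X c (ng a) (-t) := h.long.anti c (ng a) t
  have hc : Commute (XS c (t • v)) (X c a (t * Q0 v)) :=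
    h14c_scomm h (ne_ng c) (h14_n2 hac) _ _
  rw [h2, ← commutatorElement_inv, commutatorElement_def, h1, mul_inv_rev, h14c_XS_inv h,
    h.long.X_inv, neg_smul, neg_neg, neg_mul, neg_neg]
  exact hc.eq.symm

/-- lifts of commuting long root elements commute -/
theorem h14c_LC (hπ : CExt π) (h : BStAB Q0 X XS) (hB : ∃ v w : V0, QuadraticMap.polar Q0 v w = 1) :
    h14q_LC π X := by
  obtain ⟨v0, w0, hvw⟩ := hB
  intro a c d e x y t u hac h1 h2 h3 h4 hx hy
  have hX : X a c t = ⁅XS a ((-t) • v0), XS c w0⁆ := by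
    rw [h14c_ss h hac, QuadraticMap.polar_smul_left, hvw, smul_eq_mul, mul_one, neg_neg]
  have hcl : h14c_CL π (X d e u) ⁅XS a ((-t) • v0), XS c w0⁆ :=
    h14c_CL_comm hπ (h14c_scomm h h1 h3 _ _).symm (h14c_scomm h h2 h4 _ _).symm
  rw [← hX] at hcl
  exact (hcl y x hy hx).symm

theorem h14c_CL_of_LC (L : h14q_LC π X) {a c d e : ι ⊕ ι} (hac : h14_sp a ≠ h14_sp c)
    (h1 : d ≠ ng a) (h2 : d ≠ ng c) (h3 : e ≠ ng a) (h4 : e ≠ ng c) (t u : K) :
    h14c_CL π (X a c t) (X d e u) :=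
  fun x y hx hy => L a c d e x y t u hac h1 h2 h3 h4 hx hy

/-- lifts of commuting long and short root elements commute -/
def h14c_LCS (π : E →* S) (X : ι ⊕ ι → ι ⊕ ι → K → S) (XS : ι ⊕ ι → V0 → S) : Prop :=
  ∀ (a c d : ι ⊕ ι) (t : K) (v : V0), h14_sp a ≠ h14_sp c → d ≠ ng a → d ≠ ng c →
    h14c_CL π (X a c t) (XS d v)

theorem h14c_LS_of_fresh (hπ : CExt π) (h : BStAB Q0 X XS) {a c d e : ι ⊕ ι}
    (hac : h14_sp a ≠ h14_sp c) (hda : d ≠ ng a) (hdc : d ≠ ng c) (hae : h14_sp a ≠ h14_sp e)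
    (hce : h14_sp c ≠ h14_sp e) (hde : h14_sp d ≠ h14_sp e) (t : K) (v : V0) :
    h14c_CL π (X a c t) (XS d v) := by
  have hX : X a c t = ⁅X a e t, X (ng e) c 1⁆ := by
    rw [commutatorElement_def, h.long.a2 a e c t 1 (h14_n1 hae) (h14_n2 hae) (h14_n1 hac)
      (h14_n2 hac) (h14_n1 hce.symm) (h14_n2 hce.symm), mul_one]
  have h1 : Commute (XS d v) (X a e t) :=
    h14c_scomm h (fun H => hda (by rw [H, ng_ng])) (h14_n2 hde.symm) v t
  have h2 : Commute (XS d v) (X (ng e) c 1) :=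
    h14c_scomm h (h14_n4 hde.symm) (fun H => hdc (by rw [H, ng_ng])) v 1
  rw [hX]
  exact h14c_CL_symm (h14c_CL_comm hπ h1 h2)

variable [Fintype ι] [DecidableEq ι]

/-- the case where the short root is one of the two constituents of the long root -/
theorem h14c_LS_same (h3 : 3 ≤ Fintype.card ι) (hπ : CExt π) (h : BStAB Q0 X XS) {a c d : ι ⊕ ι}
    (hac : h14_sp a ≠ h14_sp c) (hda : d ≠ ng a) (hdc : d ≠ ng c)
    (hd : h14_sp d = h14_sp a ∨ h14_sp d = h14_sp c) (t : K) (v : V0) :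
    h14c_CL π (X a c t) (XS d v) := by
  obtain ⟨e, hae, hce⟩ := h14_fresh2 h3 a c
  have hde : h14_sp d ≠ h14_sp e := by
    rcases hd with hd | hd
    · rw [hd]; exact hae
    · rw [hd]; exact hce
  exact h14c_LS_of_fresh hπ h hac hda hdc hae hce hde t v

theorem h14c_LCS_of_four (h4 : 4 ≤ Fintype.card ι) (hπ : CExt π) (h : BStAB Q0 X XS) :
    h14c_LCS π X XS := by
  intro a c d t v hac hda hdc
  obtain ⟨e, hae, hce, hde⟩ := h14_fresh3 h4 a c d
  exact h14c_LS_of_fresh hπ h hac hda hdc hae hce hde t v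

/-- the torus hypothesis: every short root group is normalised by an element acting on it through
some `φ` with `φ - 1` onto and commuting with the long root elements of the other indices -/
def h14c_Tor (X : ι ⊕ ι → ι ⊕ ι → K → S) (XS : ι ⊕ ι → V0 → S) : Prop :=
  ∀ d : ι ⊕ ι, ∃ (hh : S) (φ : V0 → V0), (∀ v, hh * XS d v * hh⁻¹ = XS d (φ v)) ∧
    (∀ a c t, h14_sp a ≠ h14_sp d → h14_sp c ≠ h14_sp d → Commute hh (X a c t)) ∧
    (∀ w, ∃ v, φ v - v = w)

theorem h14c_LCS_of_tor (h3 : 3 ≤ Fintype.card ι) (hπ : CExt π) (h : BStAB Q0 X XS)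
    (hT : h14c_Tor X XS) : h14c_LCS π X XS := by
  intro a c d t v hac hda hdc
  by_cases hd : h14_sp d = h14_sp a ∨ h14_sp d = h14_sp c
  · exact h14c_LS_same h3 hπ h hac hda hdc hd t v
  push Not at hd
  obtain ⟨hd1, hd2⟩ := hd
  obtain ⟨hh, φ, hφ, hcom, hsurj⟩ := hT d
  have hcS : ∀ w, Commute (X a c t) (XS d w) := fun w =>
    (h14c_scomm h (fun H => hda (by rw [H, ng_ng])) (fun H => hdc (by rw [H, ng_ng])) w t).symm
  -- the central commutator
  have hcen : ∀ w (x : E), Commute (h14c_br hπ (X a c t) (XS d w)) x := by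
    intro w
    apply hπ.commute_of_ker
    rw [h14c_map_br, commutatorElement_eq_one_iff_commute]
    exact hcS w
  have hadd : ∀ w w', h14c_br hπ (X a c t) (XS d (w + w')) =
      h14c_br hπ (X a c t) (XS d w) * h14c_br hπ (X a c t) (XS d w') := by
    intro w w'
    rw [← h.sadd]
    apply h14c_br_mul_right
    rw [commutatorElement_eq_one_iff_commute.mpr (hcS w')]
    exact h14c_CL_one_right hπ _
  have hzero : h14c_br hπ (X a c t) (XS d 0) = 1 := by
    have := hadd 0 0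
    rw [add_zero] at this
    exact mul_eq_left.mp this.symm
  have hinv : ∀ w, h14c_br hπ (X a c t) (XS d w) = h14c_br hπ (X a c t) (XS d (φ w)) := by
    intro w
    have e1 := h14c_br_conj hπ (lft hπ hh) (X a c t) (XS d w)
    rw [map_lft, hφ w] at e1
    have e2 : hh * X a c t * hh⁻¹ = X a c t := by
      rw [(hcom a c t (Ne.symm hd1) (Ne.symm hd2)).eq, mul_inv_cancel_right]
    rw [e2] at e1
    rw [← e1, (hcen w (lft hπ hh)).symm.eq, mul_inv_cancel_right]
  have hone : ∀ w, h14c_br hπ (X a c t) (XS d w) = 1 := by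
    intro w
    obtain ⟨v', hv'⟩ := hsurj w
    have e1 : h14c_br hπ (X a c t) (XS d (φ v' - v')) * h14c_br hπ (X a c t) (XS d v') =
        h14c_br hπ (X a c t) (XS d (φ v')) := by
      rw [← hadd, sub_add_cancel]
    rw [← hinv v'] at e1
    rw [← hv']
    exact mul_eq_right.mp e1
  apply h14c_CL_of_lifts' hπ (map_lft hπ _) (map_lft hπ _)
  exact commutatorElement_eq_one_iff_commute.mp (hone v)

omit [Fintype ι] [DecidableEq ι] in
/-- the Hall-Witt comparison of the commutator of two short root elements with the commutator of two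
long root elements (`e` any third index) -/
theorem h14c_H1 (hπ : CExt π) (h : BStAB Q0 X XS) (L : h14q_LC π X) (LS : h14c_LCS π X XS)
    {a c e : ι ⊕ ι} (hac : h14_sp a ≠ h14_sp c) (hae : h14_sp a ≠ h14_sp e)
    (hce : h14_sp c ≠ h14_sp e) (v w : V0) (u : K) :
    h14c_br hπ (XS a v) (XS c (u • w)) =
      h14_ph hπ X e a c (-(QuadraticMap.polar Q0 v w)) u := by
  have hec : h14_sp e ≠ h14_sp c := hce.symm
  have hku : ⁅XS e w, X (ng e) c u⁆ = XS c (u • w) * X c e (u * Q0 w) := h14c_ls h hec w u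
  have hgk : ⁅XS a v, XS e w⁆ = X a e (-(QuadraticMap.polar Q0 v w)) := h14c_ss h hae v w
  have hnec : h14_sp (ng e) ≠ h14_sp c := by rw [h14_sp_ng]; exact hec
  have hgu : h14c_CL π (XS a v) (X (ng e) c u) :=
    h14c_CL_symm (LS (ng e) c a u v hnec (h14_n5 hae) (h14_n2 hac))
  have hw := h14c_hw hπ (k := XS e w) hgu
  rw [hku, hgk] at hw
  -- the left side
  have hl : h14c_br hπ (XS a v) (XS c (u • w) * X c e (u * Q0 w)) =
      h14c_br hπ (XS a v) (XS c (u • w)) := by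
    have hc1 : Commute (XS a v) (X c e (u * Q0 w)) :=
      h14c_scomm h (h14_n2 hac.symm) (h14_n2 hae.symm) _ _
    rw [h14c_br_mul_right hπ (by
      rw [commutatorElement_eq_one_iff_commute.mpr hc1]; exact h14c_CL_one_right hπ _),
      h14c_br_eq_one hπ (h14c_CL_symm (LS c e a _ v hce (h14_n2 hac) (h14_n2 hae))), mul_one]
  -- the right side
  have hr : h14c_br hπ (X a e (-(QuadraticMap.polar Q0 v w)))
      (XS c (u • w) * X c e (u * Q0 w) * X (ng e) c u) =
      h14_ph hπ X e a c (-(QuadraticMap.polar Q0 v w)) u := by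
    have ha2 : ⁅X a e (-(QuadraticMap.polar Q0 v w)), X (ng e) c u⁆ =
        X a c (-(QuadraticMap.polar Q0 v w) * u) := by
      rw [commutatorElement_def]
      exact h.long.a2 a e c _ u (h14_n1 hae) (h14_n2 hae) (h14_n1 hac) (h14_n2 hac)
        (h14_n1 hce.symm) (h14_n2 hce.symm)
    have hcl1 : h14c_CL π (XS c (u • w) * X c e (u * Q0 w))
        ⁅X a e (-(QuadraticMap.polar Q0 v w)), X (ng e) c u⁆ := by
      rw [ha2]
      apply h14c_CL_mul_left hπ
      · exact h14c_CL_symm (LS a c c _ _ hac (h14_n2 hac.symm) (ne_ng c))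
      · exact h14c_CL_of_LC L hce (h14_n2 hac) (h14_n2 hae) (ne_ng c) (h14_n2 hce) _ _
    have hcl2 : h14c_CL π (X a e (-(QuadraticMap.polar Q0 v w)))
        (XS c (u • w) * X c e (u * Q0 w)) := by
      apply h14c_CL_mul_right hπ
      · exact LS a e c _ _ hae (h14_n2 hac.symm) (h14_n2 hce)
      · exact h14c_CL_of_LC L hae (h14_n2 hac.symm) (h14_n2 hce) (h14_n2 hae.symm) (ne_ng e) _ _
    rw [h14c_br_mul_right hπ hcl1, h14c_br_eq_one hπ hcl2, one_mul]
    rfl
  rw [hl, hr] at hw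
  exact hw

omit [Fintype ι] [DecidableEq ι] in
theorem h14c_PI (hπ : CExt π) (h : BStAB Q0 X XS) (hB : ∃ v w : V0, QuadraticMap.polar Q0 v w = 1)
    (L : h14q_LC π X) (LS : h14c_LCS π X XS) : h14b_PI hπ X := by
  obtain ⟨v0, w0, hvw⟩ := hB
  intro a c e f t u hac hae haf hce hcf
  have e1 := h14c_H1 hπ h L LS hac hae hce ((-t) • v0) w0 u
  have e2 := h14c_H1 hπ h L LS hac haf hcf ((-t) • v0) w0 u
  rw [QuadraticMap.polar_smul_left, hvw, smul_eq_mul, mul_one, neg_neg] at e1 e2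
  rw [← e1, ← e2]

omit [Fintype ι] [DecidableEq ι] in
theorem h14c_PP (hπ : CExt π) (h : BStAB Q0 X XS) (hB : ∃ v w : V0, QuadraticMap.polar Q0 v w = 1)
    (L : h14q_LC π X) (LS : h14c_LCS π X XS) : h14b_PP hπ X := by
  obtain ⟨v0, w0, hvw⟩ := hB
  intro a c e t u hac hae hce
  have e1 := h14c_H1 hπ h L LS hac hae hce ((-t) • v0) w0 u
  have e2 := h14c_H1 hπ h L LS hac hae hce ((-t) • v0) (u • w0) 1
  rw [QuadraticMap.polar_smul_left, hvw, smul_eq_mul, mul_one, neg_neg] at e1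
  rw [QuadraticMap.polar_smul_left, QuadraticMap.polar_smul_right, hvw, smul_eq_mul, smul_eq_mul,
    mul_one, one_smul] at e2
  rw [← e1, e2]
  congr 1
  ring

/-! ### the context of the construction, and the long root lifts -/

/-- the context of the construction -/
structure h14c_Ctx (hπ : CExt π) (Q0 : QuadraticForm K V0) (X : ι ⊕ ι → ι ⊕ ι → K → S)
    (XS : ι ⊕ ι → V0 → S) : Prop where
  h : BStAB Q0 X XS
  h3 : 3 ≤ Fintype.card ι
  L : h14q_LC π X
  LS : h14c_LCS π X XS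
  PI : h14b_PI hπ X
  PP : h14b_PP hπ X

namespace h14c_Ctx

variable {hπ : CExt π} (C : h14c_Ctx hπ Q0 X XS)
include C

theorem map_Y (a c : ι ⊕ ι) (t : K) : π (h14_Y hπ X a c t) = X a c t :=
  h14b_map_Y C.L C.h3 hπ C.h.long C.PI C.PP a c t

theorem Y_eq {a c e : ι ⊕ ι} (hac : h14_sp a ≠ h14_sp c) (hae : h14_sp a ≠ h14_sp e)
    (hce : h14_sp c ≠ h14_sp e) (t : K) : h14_Y hπ X a c t = h14_ph hπ X e a c t 1 :=
  h14b_Y_eq C.L C.h3 hπ C.h.long C.PI C.PP hac hae hce t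

theorem Y_add (a c : ι ⊕ ι) (t u : K) :
    h14_Y hπ X a c t * h14_Y hπ X a c u = h14_Y hπ X a c (t + u) :=
  h14b_Y_add C.L C.h3 hπ C.h.long C.PI C.PP a c t u

theorem Y_anti (a c : ι ⊕ ι) (t : K) : h14_Y hπ X c a t = h14_Y hπ X a c (-t) :=
  h14b_Y_anti C.L C.h3 hπ C.h.long C.PI C.PP a c t

theorem dY : DStAB (h14_Y hπ X) :=
  { anti := fun a c t => C.Y_anti a c t
    opp := fun a t => h14_Y_one hπ (h14_sp_ng a).symm t
    diag := fun a t => h14_Y_one hπ rfl t
    add := C.Y_add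
    comm := h14b_Y_comm C.L C.h3 hπ C.h.long C.PI C.PP
    comm2 := h14b_Y_comm2 C.L C.h3 hπ C.h.long C.PI C.PP
    a2 := fun a c e t u k1 k2 k3 k4 k5 k6 => by
      have := h14b_Y_a2 C.L C.h3 hπ C.h.long C.PI C.PP a c e t u ((h14_sp_ne_iff a c).mpr ⟨k1, k2⟩)
        ((h14_sp_ne_iff a e).mpr ⟨k3, k4⟩) ((h14_sp_ne_iff c e).mpr ⟨k5, k6⟩)
      rw [commutatorElement_def] at this
      exact this }

theorem Y_inv (a c : ι ⊕ ι) (t : K) : (h14_Y hπ X a c t)⁻¹ = h14_Y hπ X a c (-t) :=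
  C.dY.X_inv a c t

theorem Y_commute (a c : ι ⊕ ι) (t u : K) : Commute (h14_Y hπ X a c t) (h14_Y hπ X a c u) := by
  show _ * _ = _ * _
  rw [C.Y_add, C.Y_add, add_comm]

/-- `ph` in terms of the lifts -/
theorem ph_eq_Y {a c e : ι ⊕ ι} (hac : h14_sp a ≠ h14_sp c) (hae : h14_sp a ≠ h14_sp e)
    (hce : h14_sp c ≠ h14_sp e) (t u : K) : h14_ph hπ X e a c t u = h14_Y hπ X a c (t * u) := by
  rw [C.Y_eq hac hae hce, C.PP a c e t u hac hae hce]

/-- long root elements, general position -/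
theorem CL_LL {a c d e : ι ⊕ ι} (h1 : d ≠ ng a) (h2 : d ≠ ng c) (h3 : e ≠ ng a) (h4 : e ≠ ng c)
    (t u : K) : h14c_CL π (X a c t) (X d e u) := by
  by_cases hac : h14_sp a = h14_sp c
  · rw [h14_XS_one C.h.long hac]
    exact h14c_CL_one_left hπ _
  · exact h14c_CL_of_LC C.L hac h1 h2 h3 h4 t u

/-- long root elements, the pair `ε_a + ε_c`, `-ε_a + ε_c` -/
theorem CL_LL2 (a c : ι ⊕ ι) (t u : K) : h14c_CL π (X a c t) (X (ng a) c u) :=
  h14c_CL_of_lifts' hπ (C.map_Y a c t) (C.map_Y (ng a) c u) (C.dY.comm2 a c t u)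

/-- two long root elements with the same first index -/
theorem CL_LLc {c d a : ι ⊕ ι} (hd : h14_sp d ≠ h14_sp c) (ha : h14_sp a ≠ h14_sp c) (s r : K) :
    h14c_CL π (X c d s) (X c a r) := by
  by_cases had : a = ng d
  · subst had
    rw [C.h.long.anti d c s, C.h.long.anti (ng d) c r]
    exact C.CL_LL2 d c _ _
  · exact C.CL_LL (ne_ng c) (h14_n2 hd.symm) (h14_n2 ha) had s r

theorem CL_LS {a c d : ι ⊕ ι} (hda : d ≠ ng a) (hdc : d ≠ ng c) (t : K) (v : V0) :
    h14c_CL π (X a c t) (XS d v) := by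
  by_cases hac : h14_sp a = h14_sp c
  · rw [h14_XS_one C.h.long hac]
    exact h14c_CL_one_left hπ _
  · exact C.LS a c d t v hac hda hdc

/-- the elements whose lifts commute with the lifts of the unipotent radical `U_c` -/
theorem CL_U {c a : ι ⊕ ι} {z : S} (h1 : ∀ w, h14c_CL π z (XS c w))
    (h2 : ∀ a r, h14_sp a ≠ h14_sp c → h14c_CL π z (X c a r)) (ha : h14_sp a ≠ h14_sp c)
    (w : V0) (r : K) : h14c_CL π z (XS c w * X c a r) :=
  h14c_CL_mul_right hπ (h1 w) (h2 a r ha)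

theorem CL_U_long {c d a : ι ⊕ ι} (hd : h14_sp d ≠ h14_sp c) (ha : h14_sp a ≠ h14_sp c)
    (s : K) (w : V0) (r : K) : h14c_CL π (X c d s) (XS c w * X c a r) :=
  C.CL_U (fun w => C.CL_LS (ne_ng c) (h14_n2 hd.symm) s w)
    (fun a r ha => C.CL_LLc hd ha s r) ha w r

theorem CL_U_long' {c d a : ι ⊕ ι} (hd : h14_sp d ≠ h14_sp c) (ha : h14_sp a ≠ h14_sp c)
    (s : K) (w : V0) (r : K) : h14c_CL π (X d c s) (XS c w * X c a r) := by
  rw [C.h.long.anti c d s]
  exact C.CL_U_long hd ha _ w r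

/-- lifts of two elements of the same short root group commute -/
theorem CL_SS (c : ι ⊕ ι) (v w : V0) : h14c_CL π (XS c v) (XS c w) := by
  obtain ⟨a, hca, -⟩ := h14_fresh2 C.h3 c c
  have hac : h14_sp a ≠ h14_sp c := hca.symm
  have hm : ⁅XS a w, X (ng a) c 1⁆ = XS c w * X c a (Q0 w) := by
    rw [h14c_ls C.h hac, one_smul, one_mul]
  -- the lifts of `XS c v` commute with the bracket
  have hcl : h14c_CL π (XS c v) ⁅XS a w, X (ng a) c 1⁆ := by
    have e1 := h14c_br_conj hπ (lft hπ (XS c v)) (XS a w) (X (ng a) c 1)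
    rw [map_lft] at e1
    have e2 : XS c v * X (ng a) c 1 * (XS c v)⁻¹ = X (ng a) c 1 := by
      rw [(h14c_scomm C.h (h14_n4 hac) (ne_ng c) v 1).eq, mul_inv_cancel_right]
    have e3 : XS c v * XS a w * (XS c v)⁻¹ = X c a (-(QuadraticMap.polar Q0 v w)) * XS a w := by
      rw [← h14c_ss C.h hca, commutatorElement_def]
      group
    rw [e2, e3] at e1
    have e4 : h14c_br hπ (X c a (-(QuadraticMap.polar Q0 v w)) * XS a w) (X (ng a) c 1) =
        h14c_br hπ (XS a w) (X (ng a) c 1) := by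
      rw [h14c_br_mul_left hπ (by rw [hm]; exact C.CL_U_long hac hac _ _ _)]
      have h1 : h14c_CL π (X c a (-(QuadraticMap.polar Q0 v w))) (X (ng a) c 1) := by
        rw [C.h.long.anti a c]
        exact C.CL_LL2 a c _ _
      rw [h14c_br_eq_one hπ h1, mul_one]
    rw [e4] at e1
    have hc : Commute (lft hπ (XS c v)) (h14c_br hπ (XS a w) (X (ng a) c 1)) := by
      have := e1
      rw [mul_inv_eq_iff_eq_mul] at this
      exact this
    exact h14c_CL_of_lifts' hπ (map_lft hπ _) (h14c_map_br hπ _ _) hc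
  rw [hm] at hcl
  have h2 : h14c_CL π (XS c v) (X c a (Q0 w)) :=
    h14c_CL_symm (C.CL_LS (ne_ng c) (h14_n2 hac.symm) _ v)
  have h3 := h14c_CL_mul_right hπ hcl (h14c_CL_inv_right hπ h2)
  rwa [mul_inv_cancel_right] at h3

theorem CL_U_short {c a : ι ⊕ ι} (ha : h14_sp a ≠ h14_sp c) (v w : V0) (r : K) :
    h14c_CL π (XS c v) (XS c w * X c a r) :=
  C.CL_U (fun w => C.CL_SS c v w)
    (fun a r ha => h14c_CL_symm (C.CL_LS (ne_ng c) (h14_n2 ha.symm) r v)) ha w r

/-- lifts of two elements of the form `XS c w * X c a r` commute -/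
theorem CL_UU {c a a' : ι ⊕ ι} (ha : h14_sp a ≠ h14_sp c) (ha' : h14_sp a' ≠ h14_sp c)
    (w w' : V0) (r r' : K) : h14c_CL π (XS c w * X c a r) (XS c w' * X c a' r') :=
  h14c_CL_mul_left hπ (C.CL_U_short ha' w w' r') (C.CL_U_long ha ha' r w' r')

end h14c_Ctx

/-! ### the short root lifts -/

/-- the commutator of the lifts of `XS a v` and `X (ng a) c t`: a lift of
`XS c (t • v) * X c a (t * Q0 v)` -/
noncomputable def h14c_A (hπ : CExt π) (X : ι ⊕ ι → ι ⊕ ι → K → S) (XS : ι ⊕ ι → V0 → S)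
    (a c : ι ⊕ ι) (v : V0) (t : K) : E := h14c_br hπ (XS a v) (X (ng a) c t)

/-- a lift of `XS c (t • v)` -/
noncomputable def h14c_Z (hπ : CExt π) (Q0 : QuadraticForm K V0) (X : ι ⊕ ι → ι ⊕ ι → K → S)
    (XS : ι ⊕ ι → V0 → S) (a c : ι ⊕ ι) (v : V0) (t : K) : E :=
  h14c_A hπ X XS a c v t * (h14_Y hπ X c a (t * Q0 v))⁻¹

/-- the lifts of the short root elements -/
noncomputable def h14c_YS (hπ : CExt π) (Q0 : QuadraticForm K V0) (X : ι ⊕ ι → ι ⊕ ι → K → S)
    (XS : ι ⊕ ι → V0 → S) (c : ι ⊕ ι) (v : V0) : E :=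
  open Classical in
  if hr : ∃ a : ι ⊕ ι, h14_sp a ≠ h14_sp c then h14c_Z hπ Q0 X XS (Classical.choose hr) c v 1 else 1

namespace h14c_Ctx

variable {hπ : CExt π} (C : h14c_Ctx hπ Q0 X XS)
include C

theorem map_A {a c : ι ⊕ ι} (hac : h14_sp a ≠ h14_sp c) (v : V0) (t : K) :
    π (h14c_A hπ X XS a c v t) = XS c (t • v) * X c a (t * Q0 v) := by
  unfold h14c_A
  rw [h14c_map_br, h14c_ls C.h hac]

theorem map_Z {a c : ι ⊕ ι} (hac : h14_sp a ≠ h14_sp c) (v : V0) (t : K) :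
    π (h14c_Z hπ Q0 X XS a c v t) = XS c (t • v) := by
  unfold h14c_Z
  rw [map_mul, C.map_A hac, map_inv, C.map_Y, mul_inv_cancel_right]

/-- anything whose lifts commute with the lifts of `U_c` commutes with `A` -/
theorem commute_A {a c : ι ⊕ ι} (hac : h14_sp a ≠ h14_sp c) {z : S}
    (hz : ∀ w r, h14c_CL π z (XS c w * X c a r)) {z' : E} (hz' : π z' = z) (v : V0) (t : K) :
    Commute z' (h14c_A hπ X XS a c v t) :=
  hz _ _ z' _ hz' (C.map_A hac v t)

theorem commute_Y_A {a c d : ι ⊕ ι} (hac : h14_sp a ≠ h14_sp c) (hd : h14_sp d ≠ h14_sp c) (s : K)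
    (v : V0) (t : K) : Commute (h14_Y hπ X c d s) (h14c_A hπ X XS a c v t) :=
  C.commute_A hac (fun w r => C.CL_U_long hd hac s w r) (C.map_Y c d s) v t

theorem commute_Y_A' {a c d : ι ⊕ ι} (hac : h14_sp a ≠ h14_sp c) (hd : h14_sp d ≠ h14_sp c) (s : K)
    (v : V0) (t : K) : Commute (h14_Y hπ X d c s) (h14c_A hπ X XS a c v t) :=
  C.commute_A hac (fun w r => C.CL_U_long' hd hac s w r) (C.map_Y d c s) v t

theorem commute_A_A {a a' c : ι ⊕ ι} (hac : h14_sp a ≠ h14_sp c) (hac' : h14_sp a' ≠ h14_sp c)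
    (v v' : V0) (t t' : K) :
    Commute (h14c_A hπ X XS a c v t) (h14c_A hπ X XS a' c v' t') :=
  C.CL_UU hac hac' _ _ _ _ _ _ (C.map_A hac v t) (C.map_A hac' v' t')

/-- the commutator of the lifts of two short root elements -/
theorem br_SS {a c : ι ⊕ ι} (hac : h14_sp a ≠ h14_sp c) (v w : V0) :
    h14c_br hπ (XS a v) (XS c w) = h14_Y hπ X a c (-(QuadraticMap.polar Q0 v w)) := by
  obtain ⟨e, hae, hce⟩ := h14_fresh2 C.h3 a c
  have := h14c_H1 hπ C.h C.L C.LS hac hae hce v w 1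
  rw [one_smul] at this
  rw [this, C.ph_eq_Y hac hae hce, mul_one]

/-- additivity of `A` in the vector, up to the long root correction -/
theorem A_add {a c : ι ⊕ ι} (hac : h14_sp a ≠ h14_sp c) (v v' : V0) (t : K) :
    h14c_A hπ X XS a c (v + v') t =
      h14_Y hπ X c a (t * QuadraticMap.polar Q0 v v') * h14c_A hπ X XS a c v' t *
        h14c_A hπ X XS a c v t := by
  unfold h14c_A
  rw [← C.h.sadd, h14c_br_mul_left', h14c_ls C.h hac]
  congr 2
  have hc1 : Commute (XS a v) (X c a (t * Q0 v')) :=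
    h14c_scomm C.h (h14_n2 hac.symm) (ne_ng a) _ _
  rw [h14c_br_mul_right hπ (by
    rw [commutatorElement_eq_one_iff_commute.mpr hc1]; exact h14c_CL_one_right hπ _),
    h14c_br_eq_one hπ (h14c_CL_symm (C.CL_LS (h14_n2 hac) (ne_ng a) _ v)), mul_one,
    C.br_SS hac, QuadraticMap.polar_smul_right, smul_eq_mul, C.Y_anti a c]

theorem Z_add {a c : ι ⊕ ι} (hac : h14_sp a ≠ h14_sp c) (v v' : V0) (t : K) :
    h14c_Z hπ Q0 X XS a c v t * h14c_Z hπ Q0 X XS a c v' t = h14c_Z hπ Q0 X XS a c (v + v') t := by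
  unfold h14c_Z
  rw [C.A_add hac]
  have hQ : t * Q0 (v + v') = t * QuadraticMap.polar Q0 v v' + t * Q0 v' + t * Q0 v := by
    have : Q0 (v + v') = Q0 v + Q0 v' + QuadraticMap.polar Q0 v v' := by
      unfold QuadraticMap.polar; ring
    rw [this]; ring
  rw [hQ, ← C.Y_add, ← C.Y_add]
  set p := h14_Y hπ X c a (t * QuadraticMap.polar Q0 v v') with hp
  set yv := h14_Y hπ X c a (t * Q0 v) with hyv
  set yv' := h14_Y hπ X c a (t * Q0 v') with hyv'
  set A1 := h14c_A hπ X XS a c v t with hA1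
  set A2 := h14c_A hπ X XS a c v' t with hA2
  have c1 : Commute p A2 := C.commute_Y_A hac hac _ _ _
  have c2 : Commute p A1 := C.commute_Y_A hac hac _ _ _
  have c3 : Commute yv A2 := C.commute_Y_A hac hac _ _ _
  have c4 : Commute yv' A1 := C.commute_Y_A hac hac _ _ _
  have c5 : Commute A1 A2 := C.commute_A_A hac hac _ _ _ _
  have c6 : Commute p yv := C.Y_commute c a _ _
  have c7 : Commute p yv' := C.Y_commute c a _ _
  have hpM : Commute p (A2 * A1) := c1.mul_right c2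
  have hpN : Commute p (yv⁻¹ * yv'⁻¹) := (c6.inv_right).mul_right (c7.inv_right)
  calc A1 * yv⁻¹ * (A2 * yv'⁻¹) = A1 * ((yv⁻¹ * A2) * yv'⁻¹) := by simp only [mul_assoc]
    _ = A1 * ((A2 * yv⁻¹) * yv'⁻¹) := by rw [(c3.inv_left).eq]
    _ = (A1 * A2) * (yv⁻¹ * yv'⁻¹) := by simp only [mul_assoc]
    _ = (A2 * A1) * (yv⁻¹ * yv'⁻¹) := by rw [c5.eq]
    _ = p * ((A2 * A1) * (yv⁻¹ * yv'⁻¹)) * p⁻¹ := by
        rw [(hpM.mul_right hpN).eq, mul_inv_cancel_right]
    _ = p * A2 * A1 * (p * yv' * yv)⁻¹ := by simp only [mul_inv_rev, mul_assoc]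

/-- the Hall-Witt comparison of two decompositions of a short root -/
theorem A_hw {a a' c : ι ⊕ ι} (haa' : h14_sp a ≠ h14_sp a') (hac : h14_sp a ≠ h14_sp c)
    (ha'c : h14_sp a' ≠ h14_sp c) (v : V0) (s u : K) :
    h14c_A hπ X XS a c v (s * u) =
      h14_Y hπ X a' c (s * Q0 v * (s * u)) * (h14_Y hπ X a c (-(s * Q0 v) * u) *
        h14c_A hπ X XS a' c (s • v) u) := by
  have hgu : h14c_CL π (XS a v) (X (ng a') c u) :=
    h14c_CL_symm (C.CL_LS (h14_n5 haa') (h14_n2 hac) u v)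
  have hkU : ⁅X (ng a) a' s, X (ng a') c u⁆ = X (ng a) c (s * u) := by
    rw [commutatorElement_def]
    exact C.h.long.a2 (ng a) a' c s u (h14_n3 haa') (h14_n4 haa') (h14_n3 hac) (h14_n4 hac)
      (h14_n1 ha'c) (h14_n2 ha'c)
  have hgk : ⁅XS a v, X (ng a) a' s⁆ = XS a' (s • v) * X a' a (s * Q0 v) := h14c_ls C.h haa' v s
  have hw := h14c_hw hπ (k := X (ng a) a' s) hgu
  rw [hkU, hgk] at hw
  -- step 1
  have hq2U : ⁅X a' a (s * Q0 v), X (ng a') c u⁆ = X a c (-(s * Q0 v) * u) := by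
    rw [C.h.long.anti a a' (s * Q0 v), commutatorElement_def]
    exact C.h.long.a2 a a' c _ u (h14_n1 haa') (h14_n2 haa') (h14_n1 hac) (h14_n2 hac)
      (h14_n1 ha'c) (h14_n2 ha'c)
  have hQU : h14c_br hπ (XS a' (s • v) * X a' a (s * Q0 v)) (X (ng a') c u) =
      h14_Y hπ X a c (-(s * Q0 v) * u) * h14c_A hπ X XS a' c (s • v) u := by
    rw [h14c_br_mul_left hπ (by
      rw [hq2U]
      exact h14c_CL_symm (C.CL_LS (h14_n2 haa'.symm) (h14_n2 ha'c) _ _))]
    congr 1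
    rw [C.h.long.anti a a' (s * Q0 v), ← C.ph_eq_Y hac haa' ha'c.symm]
    rfl
  -- step 2
  have hcl : h14c_CL π (X (ng a) c (s * u))
      ⁅XS a' (s • v) * X a' a (s * Q0 v), X (ng a') c u⁆ := by
    rw [← h14c_map_br hπ, hQU, map_mul, C.map_Y, C.map_A ha'c]
    apply h14c_CL_mul_right hπ
    · exact h14c_CL_symm (C.CL_LL2 a c _ _)
    · exact C.CL_U_long' (by rw [h14_sp_ng]; exact hac) ha'c _ _ _
  -- step 4
  have hq2P : ⁅X a' a (s * Q0 v), X (ng a) c (s * u)⁆ = X a' c (s * Q0 v * (s * u)) := by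
    rw [commutatorElement_def]
    exact C.h.long.a2 a' a c _ _ (h14_n1 haa'.symm) (h14_n2 haa'.symm) (h14_n1 ha'c)
      (h14_n2 ha'c) (h14_n1 hac) (h14_n2 hac)
  have hQP : h14c_br hπ (XS a' (s • v) * X a' a (s * Q0 v)) (X (ng a) c (s * u)) =
      h14_Y hπ X a' c (s * Q0 v * (s * u)) := by
    rw [h14c_br_mul_left hπ (by
      rw [hq2P]
      exact h14c_CL_symm (C.CL_LS (ne_ng a') (h14_n2 ha'c) _ _)),
      h14c_br_eq_one hπ (h14c_CL_symm (C.CL_LS (h14_n5 haa'.symm) (h14_n2 ha'c) _ _)), mul_one,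
      ← C.ph_eq_Y ha'c haa'.symm hac.symm]
    rfl
  rw [h14c_br_mul_right hπ hcl, hQP, hQU] at hw
  exact hw

theorem Z_indep {a a' c : ι ⊕ ι} (haa' : h14_sp a ≠ h14_sp a') (hac : h14_sp a ≠ h14_sp c)
    (ha'c : h14_sp a' ≠ h14_sp c) (v : V0) (s u : K) :
    h14c_Z hπ Q0 X XS a' c (s • v) u = h14c_Z hπ Q0 X XS a c v (s * u) := by
  unfold h14c_Z
  rw [C.A_hw haa' hac ha'c, C.Y_inv, C.Y_inv, C.Y_anti a' c, C.Y_anti a c, neg_neg, neg_neg,
    QuadraticMap.map_smul, smul_eq_mul]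
  have e1 : u * (s * s * Q0 v) = s * Q0 v * (s * u) := by ring
  have e2 : s * u * Q0 v = s * Q0 v * u := by ring
  rw [e1, e2]
  set A' := h14c_A hπ X XS a' c (s • v) u with hA'
  set P := h14_Y hπ X a' c (s * Q0 v * (s * u)) with hP
  set M := h14_Y hπ X a c (-(s * Q0 v) * u) with hM
  set N := h14_Y hπ X a c (s * Q0 v * u) with hN
  have c1 : Commute N A' := C.commute_Y_A' ha'c hac _ _ _
  have c2 : Commute P A' := C.commute_Y_A' ha'c ha'c _ _ _
  have hMN : M * N = 1 := by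
    rw [hM, hN, C.Y_add, neg_mul, neg_add_cancel, C.dY.X_zero]
  calc A' * P = P * A' := c2.eq.symm
    _ = P * ((M * N) * A') := by rw [hMN, one_mul]
    _ = P * (M * (A' * N)) := by rw [mul_assoc, c1.eq]
    _ = P * (M * A') * N := by simp only [mul_assoc]

/-- the lifts `Z` do not depend on the auxiliary index -/
theorem Z_indep_all {a a0 c : ι ⊕ ι} (hac : h14_sp a ≠ h14_sp c) (ha0c : h14_sp a0 ≠ h14_sp c)
    (v : V0) (t : K) :
    h14c_Z hπ Q0 X XS a c v t = h14c_Z hπ Q0 X XS a0 c (t • v) 1 := by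
  by_cases haa0 : h14_sp a = h14_sp a0
  · obtain ⟨a', haa', hca'⟩ := h14_fresh2 C.h3 a c
    have h1 := C.Z_indep haa' hac hca'.symm v t 1
    have ha'a0 : h14_sp a' ≠ h14_sp a0 := fun H => haa' (haa0.trans H.symm)
    have h2 := C.Z_indep ha'a0 hca'.symm ha0c (t • v) 1 1
    rw [mul_one] at h1 h2
    rw [one_smul] at h2
    rw [← h1, ← h2]
  · have h1 := C.Z_indep haa0 hac ha0c v t 1
    rw [mul_one] at h1
    exact h1.symm

theorem YS_eq {a c : ι ⊕ ι} (hac : h14_sp a ≠ h14_sp c) (v : V0) :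
    h14c_YS hπ Q0 X XS c v = h14c_Z hπ Q0 X XS a c v 1 := by
  have hr : ∃ a : ι ⊕ ι, h14_sp a ≠ h14_sp c := ⟨a, hac⟩
  unfold h14c_YS
  rw [dif_pos hr]
  have := C.Z_indep_all (Classical.choose_spec hr) hac v 1
  rw [one_smul] at this
  exact this

theorem exists_aux (c : ι ⊕ ι) : ∃ a : ι ⊕ ι, h14_sp a ≠ h14_sp c := by
  obtain ⟨a, hca, -⟩ := h14_fresh2 C.h3 c c
  exact ⟨a, hca.symm⟩

theorem map_YS (c : ι ⊕ ι) (v : V0) : π (h14c_YS hπ Q0 X XS c v) = XS c v := by
  obtain ⟨a, hac⟩ := C.exists_aux c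
  rw [C.YS_eq hac, C.map_Z hac, one_smul]

theorem YS_add (c : ι ⊕ ι) (v w : V0) :
    h14c_YS hπ Q0 X XS c v * h14c_YS hπ Q0 X XS c w = h14c_YS hπ Q0 X XS c (v + w) := by
  obtain ⟨a, hac⟩ := C.exists_aux c
  rw [C.YS_eq hac, C.YS_eq hac, C.YS_eq hac, C.Z_add hac]

/-- the relation `ls` for the lifts, with the short root element in front -/
theorem A_eq {a c : ι ⊕ ι} (hac : h14_sp a ≠ h14_sp c) (v : V0) (t : K) :
    h14c_A hπ X XS a c v t = h14c_YS hπ Q0 X XS c (t • v) * h14_Y hπ X c a (t * Q0 v) := by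
  rw [C.YS_eq hac, ← C.Z_indep_all hac hac]
  unfold h14c_Z
  rw [inv_mul_cancel_right]

theorem YS_zero (c : ι ⊕ ι) : h14c_YS hπ Q0 X XS c 0 = 1 := by
  have := C.YS_add c 0 0
  rw [add_zero] at this
  exact mul_eq_left.mp this

theorem YS_inv (c : ι ⊕ ι) (v : V0) : (h14c_YS hπ Q0 X XS c v)⁻¹ = h14c_YS hπ Q0 X XS c (-v) := by
  rw [inv_eq_iff_mul_eq_one, C.YS_add, add_neg_cancel, C.YS_zero]

theorem commute_YS_Y {a d e : ι ⊕ ι} (hd : d ≠ ng a) (he : e ≠ ng a) (v : V0) (t : K) :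
    Commute (h14c_YS hπ Q0 X XS a v) (h14_Y hπ X d e t) :=
  (C.CL_LS (fun H => hd (by rw [H, ng_ng])) (fun H => he (by rw [H, ng_ng])) t v _ _
    (C.map_Y d e t) (C.map_YS a v)).symm

/-- the relations for the lifts -/
theorem bStAB : BStAB Q0 (h14_Y hπ X) (h14c_YS hπ Q0 X XS) where
  long := C.dY
  sadd := C.YS_add
  scomm := fun a d e v t hd he => (C.commute_YS_Y hd he v t).eq
  ss := fun a c v w hca hca' => by
    have hac : h14_sp a ≠ h14_sp c :=
      (h14_sp_ne_iff a c).mpr ⟨hca.symm, fun H => hca' (by rw [H, ng_ng])⟩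
    rw [← commutatorElement_def, h14c_br_eq hπ (C.map_YS a v) (C.map_YS c w), C.br_SS hac]
  ls := fun a c t v hca hca' => by
    have hac : h14_sp a ≠ h14_sp c :=
      (h14_sp_ne_iff a c).mpr ⟨hca.symm, fun H => hca' (by rw [H, ng_ng])⟩
    have hba : h14_sp (ng c) ≠ h14_sp a := by rw [h14_sp_ng]; exact hac.symm
    have e1 := C.A_eq hba v (-t)
    unfold h14c_A at e1
    rw [ng_ng] at e1
    rw [← commutatorElement_def, h14c_br_eq hπ (C.map_Y a c t) (C.map_YS (ng c) v),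
      ← h14c_br_inv, C.h.long.anti c a t, e1, mul_inv_rev, C.YS_inv, C.Y_inv, neg_smul, neg_neg,
      neg_mul, neg_neg]
    exact (C.commute_YS_Y (ne_ng a) (h14_n4 hac.symm) _ _).eq.symm

end h14c_Ctx

variable (hπ : CExt π)

/-- the context from the commutation of the lifts of long and short root elements -/
theorem h14c_ctx (h3 : 3 ≤ Fintype.card ι) (hB : ∃ v w : V0, QuadraticMap.polar Q0 v w = 1)
    (h : BStAB Q0 X XS) (LS : h14c_LCS π X XS) : h14c_Ctx hπ Q0 X XS :=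
  { h := h
    h3 := h3
    L := h14c_LC hπ h hB
    LS := LS
    PI := h14c_PI hπ h hB (h14c_LC hπ h hB) LS
    PP := h14c_PP hπ h hB (h14c_LC hπ h hB) LS }

end h14c_lift

/-! ## The lifting theorems -/

/-- at least four indices: no further hypothesis -/
theorem exists_bStAB_lift_four {K : Type*} [Field K] {V0 : Type*} [AddCommGroup V0] [Module K V0]
    {Q0 : QuadraticForm K V0} {ι : Type*} [Fintype ι] [DecidableEq ι] (h4 : 4 ≤ Fintype.card ι)
    (hB : ∃ v w : V0, QuadraticMap.polar Q0 v w = 1) {E S : Type*} [Group E] [Group S]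
    {π : E →* S} (hπ : CExt π) {X : ι ⊕ ι → ι ⊕ ι → K → S} {XS : ι ⊕ ι → V0 → S}
    (h : BStAB Q0 X XS) :
    ∃ (Y : ι ⊕ ι → ι ⊕ ι → K → E) (YS : ι ⊕ ι → V0 → E), (∀ a c t, π (Y a c t) = X a c t) ∧
      (∀ a v, π (YS a v) = XS a v) ∧ BStAB Q0 Y YS := by
  have C := h14c_ctx hπ (by omega) hB h (h14c_LCS_of_four h4 hπ h)
  exact ⟨h14_Y hπ X, h14c_YS hπ Q0 X XS, C.map_Y, C.map_YS, C.bStAB⟩

/-- at least three indices, and every short root group `XS d` is normalised by some `hh` which acts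
on it through `φ` with `φ - 1` onto and commutes with the long root elements `X a c t`,
`a, c ∉ {d, ng d}` -/
theorem exists_bStAB_lift_three {K : Type*} [Field K] {V0 : Type*} [AddCommGroup V0] [Module K V0]
    {Q0 : QuadraticForm K V0} {ι : Type*} [Fintype ι] [DecidableEq ι] (h3 : 3 ≤ Fintype.card ι)
    (hB : ∃ v w : V0, QuadraticMap.polar Q0 v w = 1) {E S : Type*} [Group E] [Group S]
    {π : E →* S} (hπ : CExt π) {X : ι ⊕ ι → ι ⊕ ι → K → S} {XS : ι ⊕ ι → V0 → S}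
    (h : BStAB Q0 X XS)
    (hT : ∀ d : ι ⊕ ι, ∃ (hh : S) (φ : V0 → V0), (∀ v, hh * XS d v * hh⁻¹ = XS d (φ v)) ∧
      (∀ a c t, a ≠ d → a ≠ ng d → c ≠ d → c ≠ ng d → hh * X a c t = X a c t * hh) ∧
      (∀ w, ∃ v, φ v - v = w)) :
    ∃ (Y : ι ⊕ ι → ι ⊕ ι → K → E) (YS : ι ⊕ ι → V0 → E), (∀ a c t, π (Y a c t) = X a c t) ∧
      (∀ a v, π (YS a v) = XS a v) ∧ BStAB Q0 Y YS := by
  have hT' : h14c_Tor X XS := by
    intro d
    obtain ⟨hh, φ, h1, h2, h3'⟩ := hT d
    refine ⟨hh, φ, h1, ?_, h3'⟩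
    intro a c t had hcd
    exact h2 a c t (h14_n1 had) (h14_n2 had) (h14_n1 hcd) (h14_n2 hcd)
  have C := h14c_ctx hπ h3 hB h (h14c_LCS_of_tor h3 hπ h hT')
  exact ⟨h14_Y hπ X, h14c_YS hπ Q0 X XS, C.map_Y, C.map_YS, C.bStAB⟩

end Cfsg.Agent.Lib.Helper74_S94
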