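import Mathlib
import Cfsg.Agent.Lib.Helper74_S94Defs
import Cfsg.Agent.Lib.Helper66_S96Calc

set_option autoImplicit false
set_option linter.unusedSectionVars false

/-!
Basic calculus for families of root elements of type `B` / `²D` (helper74): conjugation forms of
the commutator relations, membership and monotonicity lemmas for the subgroups of the vector
stabiliser argument (`Qs ≤ QsB`, `Gs ≤ GsB`, `Ls ≤ LsB`, `Ps ≤ PsB`, `RkD → RkB`).
-/

namespace Cfsg.Agent.Lib.Helper74_S94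

open Cfsg.Agent.Lib.Helper66_S92 Cfsg.Agent.Lib.Helper66_S96

variable {ι : Type*} {K : Type*} [Field K] {V0 : Type*} [AddCommGroup V0] [Module K V0]
  {G : Type*} [Group G] {X : ι ⊕ ι → ι ⊕ ι → K → G} {XS : ι ⊕ ι → V0 → G}

/-! ### membership -/

theorem X_mem_GsB (o a c : ι ⊕ ι) (t : K) (ha : a ≠ ng o) (hc : c ≠ ng o) :
    X a c t ∈ GsB X XS o :=
  Subgroup.subset_closure (Or.inl ⟨a, c, t, ha, hc, rfl⟩)

theorem XS_mem_GsB (o a : ι ⊕ ι) (v : V0) (ha : a ≠ ng o) : XS a v ∈ GsB X XS o :=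
  Subgroup.subset_closure (Or.inr ⟨a, v, ha, rfl⟩)

theorem X_mem_LsB (o a c : ι ⊕ ι) (t : K) (ha : a ≠ o) (ha' : a ≠ ng o) (hc : c ≠ o)
    (hc' : c ≠ ng o) : X a c t ∈ LsB X XS o :=
  Subgroup.subset_closure (Or.inl ⟨a, c, t, ha, ha', hc, hc', rfl⟩)

theorem XS_mem_LsB (o a : ι ⊕ ι) (v : V0) (ha : a ≠ o) (ha' : a ≠ ng o) :
    XS a v ∈ LsB X XS o :=
  Subgroup.subset_closure (Or.inr ⟨a, v, ha, ha', rfl⟩)

theorem XS_mem_QsB (j : ι ⊕ ι) (v : V0) : XS j v ∈ QsB X XS j :=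
  Subgroup.subset_closure (Or.inr ⟨v, rfl⟩)

theorem Qs_le_QsB (j : ι ⊕ ι) : Qs X j ≤ QsB X XS j := by
  unfold Qs QsB
  exact Subgroup.closure_mono Set.subset_union_left

theorem Gs_le_GsB (o : ι ⊕ ι) : Gs X o ≤ GsB X XS o := by
  unfold Gs GsB
  exact Subgroup.closure_mono Set.subset_union_left

theorem Ls_le_LsB (o : ι ⊕ ι) : Ls X o ≤ LsB X XS o := by
  unfold Ls LsB
  exact Subgroup.closure_mono Set.subset_union_left

theorem LsB_le_GsB (o : ι ⊕ ι) : LsB X XS o ≤ GsB X XS o := by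
  unfold LsB
  rw [Subgroup.closure_le]
  rintro _ (⟨a, c, t, -, ha', -, hc', rfl⟩ | ⟨a, v, -, ha', rfl⟩)
  · exact X_mem_GsB o a c t ha' hc'
  · exact XS_mem_GsB o a v ha'

theorem QsB_le_GsB (o : ι ⊕ ι) : QsB X XS o ≤ GsB X XS o := by
  unfold QsB
  rw [Subgroup.closure_le]
  rintro _ (⟨c, t, hc, rfl⟩ | ⟨v, rfl⟩)
  · exact X_mem_GsB o o c t (ne_ng o) hc
  · exact XS_mem_GsB o o v (ne_ng o)

theorem GsB_le_PsB (o : ι ⊕ ι) : GsB X XS o ≤ PsB X XS o := le_sup_left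

theorem Ts_le_PsB (o : ι ⊕ ι) : Ts X ≤ PsB X XS o := le_sup_right

theorem Ps_le_PsB (o : ι ⊕ ι) : Ps X o ≤ PsB X XS o :=
  sup_le ((Gs_le_GsB o).trans (GsB_le_PsB o)) (Ts_le_PsB o)

/-- the coset relation of type `D` (long roots only) implies the one of type `B` -/
theorem RkB_of_RkD (o k : ι ⊕ ι) {g : G} (h : RkD X o k g) : RkB X XS o k g := by
  obtain ⟨q, hq, d, hd, p, hp, rfl⟩ := h
  exact ⟨q, Qs_le_QsB (ng k) hq, d, hd, p, Ps_le_PsB o hp, rfl⟩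

/-- the coset relation is stable under right multiplication by `PsB X XS o` -/
theorem RkB_mul_PsB (o k : ι ⊕ ι) {g p : G} (hR : RkB X XS o k g) (hp : p ∈ PsB X XS o) :
    RkB X XS o k (g * p) := by
  obtain ⟨q, hq, d, hd, p', hp', rfl⟩ := hR
  exact ⟨q, hq, d, hd, p' * p, mul_mem hp' hp, by rw [mul_assoc]⟩

/-- the coset relation is stable under left multiplication by `QsB X XS (ng k)` -/
theorem RkB_QsB_mul (o k : ι ⊕ ι) {g q : G} (hq : q ∈ QsB X XS (ng k)) (hR : RkB X XS o k g) :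
    RkB X XS o k (q * g) := by
  obtain ⟨q', hq', d, hd, p, hp, rfl⟩ := hR
  exact ⟨q * q', mul_mem hq hq', d, hd, p, hp, by simp only [mul_assoc]⟩

namespace BStAB

variable {Q0 : QuadraticForm K V0} (h : BStAB Q0 X XS)
include h

theorem XS_zero (a : ι ⊕ ι) : XS a 0 = 1 := by
  have := h.sadd a 0 0
  rw [add_zero] at this
  exact mul_eq_left.mp this

theorem XS_inv (a : ι ⊕ ι) (v : V0) : (XS a v)⁻¹ = XS a (-v) := by
  rw [inv_eq_iff_mul_eq_one, h.sadd, add_neg_cancel, h.XS_zero]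

theorem XS_comm (a : ι ⊕ ι) (v w : V0) : XS a v * XS a w = XS a w * XS a v := by
  rw [h.sadd, h.sadd, add_comm]

/-- `X d e t` commutes with `XS a v` when `d, e ≠ ng a` -/
theorem cj_scomm (a d e : ι ⊕ ι) (v : V0) (t : K) (hd : d ≠ ng a) (he : e ≠ ng a) :
    X d e t * XS a v * (X d e t)⁻¹ = XS a v := by
  rw [← h.scomm a d e v t hd he, mul_inv_cancel_right]

theorem cj_scomm' (a d e : ι ⊕ ι) (v : V0) (t : K) (hd : d ≠ ng a) (he : e ≠ ng a) :
    XS a v * X d e t * (XS a v)⁻¹ = X d e t := by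
  rw [h.scomm a d e v t hd he, mul_inv_cancel_right]

theorem cj_ss (a c : ι ⊕ ι) (v w : V0) (h1 : c ≠ a) (h2 : c ≠ ng a) :
    XS a v * XS c w * (XS a v)⁻¹ = X a c (-(QuadraticMap.polar Q0 v w)) * XS c w := by
  rw [← h.ss a c v w h1 h2]
  group

theorem cj_ss' (a c : ι ⊕ ι) (v w : V0) (h1 : c ≠ a) (h2 : c ≠ ng a) :
    XS c w * XS a v * (XS c w)⁻¹ = X a c (QuadraticMap.polar Q0 v w) * XS a v := by
  have e1 : X a c (QuadraticMap.polar Q0 v w) = (X a c (-(QuadraticMap.polar Q0 v w)))⁻¹ := by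
    rw [h.long.X_inv, neg_neg]
  rw [e1, ← h.ss a c v w h1 h2]
  group

theorem cj_ls (a c : ι ⊕ ι) (t : K) (v : V0) (h1 : c ≠ a) (h2 : c ≠ ng a) :
    X a c t * XS (ng c) v * (X a c t)⁻¹ = XS a (t • v) * X a (ng c) (t * Q0 v) * XS (ng c) v := by
  rw [← h.ls a c t v h1 h2]
  group

theorem cj_ls' (a c : ι ⊕ ι) (t : K) (v : V0) (h1 : c ≠ a) (h2 : c ≠ ng a) :
    XS (ng c) v * X a c t * (XS (ng c) v)⁻¹ =
      X a (ng c) (-(t * Q0 v)) * XS a (-(t • v)) * X a c t := by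
  have e1 : X a (ng c) (-(t * Q0 v)) * XS a (-(t • v)) =
      (XS a (t • v) * X a (ng c) (t * Q0 v))⁻¹ := by
    rw [mul_inv_rev, h.long.X_inv, h.XS_inv]
  rw [e1, ← h.ls a c t v h1 h2]
  group

/-- a long root element with first index `j` lies in `QsB X XS j` -/
theorem X_mem_QsB (j c : ι ⊕ ι) (t : K) : X j c t ∈ QsB X XS j :=
  Qs_le_QsB j (h.long.X_mem_Qs j c t)

theorem X_mem_QsB' (j c : ι ⊕ ι) (t : K) : X c j t ∈ QsB X XS j :=
  Qs_le_QsB j (h.long.X_mem_Qs' j c t)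

end BStAB

end Cfsg.Agent.Lib.Helper74_S94
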