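import Mathlib
import Cfsg.Agent.Lib.Helper74_S94Calc

set_option autoImplicit false
set_option linter.unusedSectionVars false

/-!
Complements to `Helper74_S94Defs` (helper74): the short Weyl element in generic form `WSg`, and
consequences of `IsNrm` (anisotropy, `σ 0 = 0`, `σ (-w) = -σ w`, `σ 1 = 1`, `σ w⁻¹ = (σ w)⁻¹`).
-/

namespace Cfsg.Agent.Lib.Helper74_S94

open Cfsg.Agent.Lib.Helper5_SteinbergA Cfsg.Agent.Lib.Helper66_S92 Cfsg.Agent.Lib.Helper66_S96

variable {ι : Type*} {K : Type*} [Field K]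

section generic

variable {V0 : Type*} [AddCommGroup V0] [Module K V0] {G : Type*} [Group G]

/-- the short Weyl element in generic form (`= WS σ XS a w` when `V0 = L`, `w ≠ 0`): in the model it
maps `b_a ↦ -(Q0 w)⁻¹ b_{ng a}`, `b_{ng a} ↦ -(Q0 w) b_a`, acts on `V0` as minus the reflection in `w`
and fixes the other basis vectors -/
def WSg (Q0 : QuadraticForm K V0) (XS : ι ⊕ ι → V0 → G) (a : ι ⊕ ι) (w : V0) : G :=
  XS a w * XS (ng a) ((Q0 w)⁻¹ • w) * XS a w

end generic

section field

variable {L : Type*} [Field L] [Algebra K L] {Q0 : QuadraticForm K L} {σ : L → L}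

namespace IsNrm

variable (hN : IsNrm Q0 σ)
include hN

theorem map_zero : σ 0 = 0 := by
  have := hN.map_add 0 0
  rw [add_zero] at this
  exact left_eq_add.mp this

theorem map_neg (w : L) : σ (-w) = -σ w := by
  have := hN.map_add w (-w)
  rw [add_neg_cancel, hN.map_zero] at this
  exact (neg_eq_of_add_eq_zero_right this.symm).symm

theorem injective : Function.Injective σ := fun v w hvw => by
  have := congrArg σ hvw
  rwa [hN.invol, hN.invol] at this

theorem map_eq_zero {w : L} : σ w = 0 ↔ w = 0 := by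
  constructor
  · intro hw
    apply hN.injective
    rw [hw, hN.map_zero]
  · rintro rfl
    exact hN.map_zero

theorem map_one : σ 1 = 1 := by
  have := hN.fix 1
  rwa [_root_.map_one] at this

theorem map_inv (w : L) : σ w⁻¹ = (σ w)⁻¹ := by
  by_cases hw : w = 0
  · subst hw
    rw [inv_zero, hN.map_zero, inv_zero]
  · have h1 : σ w⁻¹ * σ w = 1 := by
      rw [← hN.map_mul, inv_mul_cancel₀ hw, hN.map_one]
    exact eq_inv_of_mul_eq_one_left h1

/-- the norm form is anisotropic -/
theorem aniso (w : L) (hw : Q0 w = 0) : w = 0 := by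
  have := hN.nrm w
  rw [hw, _root_.map_zero] at this
  rcases mul_eq_zero.mp this.symm with h | h
  · exact h
  · exact hN.map_eq_zero.mp h

theorem nrm_ne_zero {w : L} (hw : w ≠ 0) : Q0 w ≠ 0 := fun h => hw (hN.aniso w h)

/-- `(σ w)⁻¹ = (Q0 w)⁻¹ • w` -/
theorem inv_map (w : L) : (σ w)⁻¹ = (Q0 w)⁻¹ • w := by
  by_cases hw : w = 0
  · subst hw
    rw [hN.map_zero, inv_zero, smul_zero]
  · have hσ : σ w ≠ 0 := fun h => hw (hN.map_eq_zero.mp h)
    have hq : Q0 w ≠ 0 := hN.nrm_ne_zero hw
    rw [Algebra.smul_def, _root_.map_inv₀, hN.nrm w, mul_inv, mul_comm w⁻¹, mul_assoc,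
      inv_mul_cancel₀ hw, mul_one]

end IsNrm

end field

end Cfsg.Agent.Lib.Helper74_S94
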