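import Mathlib
import Cfsg.Agent.Lib.Helper74_S94Defs2
import Cfsg.Agent.Lib.Helper66_S96Asm
import Cfsg.Agent.Lib.Helper66_S96Rank
import Cfsg.Agent.Lib.Helper5_SLPresA

set_option autoImplicit false
set_option linter.unusedVariables false
set_option linter.unusedSectionVars false

/-!
Package B_ACTW of the market `s94_packages` (helper74; proved by helper20): the action of the short Weyl
element `WSg Q0 XS a w` in the model.
-/

namespace Cfsg.Agent.Lib.Helper74_S94

open Cfsg.Agent.Lib.Helper5_SteinbergA Cfsg.Agent.Lib.Helper5_SLPresA Cfsg.Agent.Lib.Helper66_StCalc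
  Cfsg.Agent.Lib.Helper66_S92 Cfsg.Agent.Lib.Helper66_S96

section generic

variable {ι : Type*} [DecidableEq ι] {K : Type*} [Field K] {V0 : Type*} [AddCommGroup V0]
  [Module K V0] {G : Type*} [Group G] {Q0 : QuadraticForm K V0}
  {X : ι ⊕ ι → ι ⊕ ι → K → G} {XS : ι ⊕ ι → V0 → G}

section eval

variable (ρ : G →* Module.End K ((ι ⊕ ι → K) × V0)) (hρ : IsActB Q0 X XS ρ)
include hρ

/-- B_ACTW : the action of the short Weyl element `WSg Q0 XS a w = XS a w * XS (ng a) ((Q0 w)⁻¹ • w) * XS a w` -/
theorem act_WSg (a : ι ⊕ ι) (w : V0) (hw : Q0 w ≠ 0) (x : (ι ⊕ ι → K) × V0) :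
    ρ (WSg Q0 XS a w) x =
      (Function.update (Function.update x.1 a (-(Q0 w * x.1 (ng a)))) (ng a) (-((Q0 w)⁻¹ * x.1 a)),
        x.2 - ((Q0 w)⁻¹ * QuadraticMap.polar Q0 x.2 w) • w) := by
  have hna : ng a ≠ a := ng_ne a
  have hQw' : Q0 ((Q0 w)⁻¹ • w) = (Q0 w)⁻¹ := by
    rw [QuadraticMap.map_smul, smul_eq_mul]
    field_simp
  have hpw : QuadraticMap.polar Q0 w w = 2 * Q0 w := by
    rw [QuadraticMap.polar_self, two_nsmul, two_mul]
  unfold WSg
  rw [map_mul, map_mul, Module.End.mul_apply, Module.End.mul_apply, hρ.short, hρ.short, hρ.short]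
  unfold xactS
  simp only [ng_ng]
  refine Prod.ext ?_ ?_
  · funext d
    by_cases hda : d = a
    · subst hda
      simp only [Pi.add_apply, Pi.single_eq_same, Pi.single_eq_of_ne hna, Pi.single_eq_of_ne hna.symm,
        Function.update_of_ne hna.symm, Function.update_self, add_zero,
        QuadraticMap.polar_sub_left, QuadraticMap.polar_smul_left, QuadraticMap.polar_smul_right,
        hpw, hQw', smul_eq_mul]
      field_simp
      ring
    · by_cases hda' : d = ng a
      · subst hda'
        simp only [Pi.add_apply, Pi.single_eq_same, Pi.single_eq_of_ne hna,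
          Function.update_self, add_zero,
          QuadraticMap.polar_sub_left, QuadraticMap.polar_smul_left, QuadraticMap.polar_smul_right,
          hpw, hQw', smul_eq_mul]
        field_simp
        ring
      · simp only [Pi.add_apply, Pi.single_eq_of_ne hda, Pi.single_eq_of_ne hda',
          Function.update_of_ne hda, Function.update_of_ne hda', add_zero]
  · simp only [Pi.add_apply, Pi.single_eq_same, Pi.single_eq_of_ne hna, add_zero,
      QuadraticMap.polar_sub_left, QuadraticMap.polar_smul_left, QuadraticMap.polar_smul_right,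
      hpw, hQw', smul_eq_mul]
    match_scalars
    · ring
    · field_simp
      ring

end eval

end generic

end Cfsg.Agent.Lib.Helper74_S94
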