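import Mathlib
import Cfsg.Agent.Lib.Helper74_S94Defs2
import Cfsg.Agent.Lib.Helper66_S96Rank
import Cfsg.Agent.Lib.Helper5_SLPresA

set_option autoImplicit false
set_option linter.unusedVariables false
set_option linter.unusedSectionVars false

/-!
Package B_RANKS of the market `s94_packages` (helper74): rank one calculus of the pair of opposite short
root subgroups of a Steinberg family of type `B` / `²D` (port of `Helper66_S96Rank`).
-/

namespace Cfsg.Agent.Lib.Helper74_S94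

open Cfsg.Agent.Lib.Helper5_SteinbergA Cfsg.Agent.Lib.Helper5_SLPresA Cfsg.Agent.Lib.Helper66_StCalc
  Cfsg.Agent.Lib.Helper66_S92 Cfsg.Agent.Lib.Helper66_S96

section field

variable {ι : Type*} [DecidableEq ι] {K : Type*} [Field K] {L : Type*} [Field L] [Algebra K L]
  {G : Type*} [Group G] {Q0 : QuadraticForm K L} {σ : L → L}
  {X : ι ⊕ ι → ι ⊕ ι → K → G} {XS : ι ⊕ ι → L → G}

theorem WS_eq_WSg (hN : IsNrm Q0 σ) (a : ι ⊕ ι) (w : L) (hw : w ≠ 0) :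
    WS σ XS a w = WSg Q0 XS a w := by
  rw [WS_eq]
  unfold WSg
  rw [hN.map_neg, neg_neg, hN.map_inv, hN.inv_map]

theorem exists_phiS [Finite L] (h : BSt Q0 σ X XS) (a : ι ⊕ ι) :
    ∃ Φ : Matrix.SpecialLinearGroup (Fin 2) L →* G,
      (∀ t, Φ (mx (true, t)) = XS a t) ∧
      (∀ t, Φ (mx (false, t)) = XS (ng a) (-σ t)) ∧
      (∀ s (hs : s ≠ 0), Φ (Wm s hs) = WS σ XS a s) ∧
      (∀ s (hs : s ≠ 0), Φ (Dm s hs) = HS σ XS a s) := by
  obtain ⟨Φ, hΦ⟩ := exists_hom_of_rel (h.rank1S a)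
  have e1 : ∀ t, Φ (mx (true, t)) = XS a t := fun t => hΦ true t
  have e2 : ∀ t, Φ (mx (false, t)) = XS (ng a) (-σ t) := fun t => hΦ false t
  have e3 : ∀ s (hs : s ≠ 0), Φ (Wm s hs) = WS σ XS a s := by
    intro s hs
    rw [← Wm_eq s hs, map_mul, map_mul, e1, e2]
    rfl
  refine ⟨Φ, e1, e2, e3, ?_⟩
  intro s hs
  have e : Dm s hs = Wm s hs * (Wm 1 one_ne_zero)⁻¹ := by
    rw [Wm_mul_inv]
    congr 1
    rw [inv_one, mul_one]
  rw [e, map_mul, map_inv, e3, e3]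
  rfl

theorem WS_mem_LsB (o a : ι ⊕ ι) (w : L) (ha : a ≠ o) (ha' : a ≠ ng o) :
    WS σ XS a w ∈ LsB X XS o := by
  rw [WS_eq]
  have e1 : XS a w ∈ LsB X XS o := XS_mem_LsB o a w ha ha'
  have e2 : XS (ng a) (-σ (-w⁻¹)) ∈ LsB X XS o :=
    XS_mem_LsB o (ng a) _ (fun e => ha' (by rw [← e, ng_ng])) (fun e => ha (ng_injective e))
  exact (LsB X XS o).mul_mem ((LsB X XS o).mul_mem e1 e2) e1

theorem HS_mem_LsB (o a : ι ⊕ ι) (w : L) (ha : a ≠ o) (ha' : a ≠ ng o) :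
    HS σ XS a w ∈ LsB X XS o := by
  unfold HS
  exact (LsB X XS o).mul_mem (WS_mem_LsB o a w ha ha')
    ((LsB X XS o).inv_mem (WS_mem_LsB o a 1 ha ha'))

theorem HS_one (h : BSt Q0 σ X XS) (a : ι ⊕ ι) : HS σ XS a 1 = 1 := by
  unfold HS
  exact mul_inv_cancel _

theorem HS_conj_XS [Finite L] (h : BSt Q0 σ X XS) (a : ι ⊕ ι) (s : L) (hs : s ≠ 0) (t : L) :
    HS σ XS a s * XS a t * (HS σ XS a s)⁻¹ = XS a (s * s * t) := by
  obtain ⟨Φ, h1, -, -, h4⟩ := exists_phiS h a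
  rw [← h4 s hs, ← h1 t, ← h1 (s * s * t), ← map_inv, ← map_mul, ← map_mul]
  congr 1
  rw [mul_inv_eq_iff_eq_mul]
  apply Subtype.ext
  rw [Matrix.SpecialLinearGroup.coe_mul, Matrix.SpecialLinearGroup.coe_mul, Dm_coe, mx_true, mx_true,
    Matrix.mul_fin_two, Matrix.mul_fin_two]
  ext p q
  fin_cases p <;> fin_cases q <;> simp <;> field_simp

theorem HS_mul [Finite L] (h : BSt Q0 σ X XS) (a : ι ⊕ ι) (s t : L) (hs : s ≠ 0) (ht : t ≠ 0) :
    HS σ XS a s * HS σ XS a t = HS σ XS a (s * t) := by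
  obtain ⟨Φ, -, -, -, h4⟩ := exists_phiS h a
  rw [← h4 s hs, ← h4 t ht, ← map_mul, Dm_mul_Dm, h4]

theorem WS_mul_inv [Finite L] (h : BSt Q0 σ X XS) (a : ι ⊕ ι) (s t : L) (hs : s ≠ 0) (ht : t ≠ 0) :
    WS σ XS a s * (WS σ XS a t)⁻¹ = HS σ XS a (s * t⁻¹) := by
  obtain ⟨Φ, -, -, h3, h4⟩ := exists_phiS h a
  rw [← h3 s hs, ← h3 t ht, ← map_inv, ← map_mul, Wm_mul_inv, h4]

end field

end Cfsg.Agent.Lib.Helper74_S94
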