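import Mathlib
import Cfsg.Agent.Lib.Helper74_S94Defs2
import Cfsg.Agent.Lib.Helper66_S96Asm
import Cfsg.Agent.Lib.Helper66_S96Rank
import Cfsg.Agent.Lib.Helper5_SLPresA

set_option autoImplicit false
set_option linter.unusedVariables false
set_option linter.unusedSectionVars false

/-!
Market `s94_packages` (helper74), package **B_WCJS_A** (helper77): conjugation of the short root
elements `XS d v` by the long Weyl element `WD X a c s`, for `d` outside `{a, a', c, c'}`,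
`d = ng a` and `d = c`.  Also the common tools for B_WCJS_B.
-/

namespace Cfsg.Agent.Lib.Helper74_S94

open Cfsg.Agent.Lib.Helper5_SteinbergA Cfsg.Agent.Lib.Helper5_SLPresA Cfsg.Agent.Lib.Helper66_StCalc
  Cfsg.Agent.Lib.Helper66_S92 Cfsg.Agent.Lib.Helper66_S96

section generic

variable {ι : Type*} [DecidableEq ι] {K : Type*} [Field K] {V0 : Type*} [AddCommGroup V0]
  [Module K V0] {G : Type*} [Group G] {Q0 : QuadraticForm K V0}
  {X : ι ⊕ ι → ι ⊕ ι → K → G} {XS : ι ⊕ ι → V0 → G}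

/-- abstract collapse of a sandwich in a group of class two -/
theorem h77_collapse {H : Type*} [Group H] (p p' z1 z2 z3 r : H) (hpp' : p * p' = 1)
    (hc : p * r * p⁻¹ = z3 * r) (h1 : p * z1 = z1 * p) (h2 : z2 * p' = p' * z2)
    (h3 : r * z2 = z2 * r) (hz : z1 * z3 * z2 = 1) : p * z1 * r * z2 * p' = r := by
  have hp' : p' = p⁻¹ := eq_inv_of_mul_eq_one_right hpp'
  subst hp'
  calc p * z1 * r * z2 * p⁻¹ = z1 * (p * r * p⁻¹) * z2 := by
        rw [h1, mul_assoc (z1 * p * r), h2]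
        group
    _ = z1 * z3 * z2 * r := by
        rw [hc]
        simp only [mul_assoc]
        rw [h3]
    _ = r := by rw [hz, one_mul]

/-- collapse in the Heisenberg group `⟨XS p, XS r, X p r⟩` -/
theorem h77_heis (h : BStAB Q0 X XS) (p r : ι ⊕ ι) (hr1 : r ≠ p) (hr2 : r ≠ ng p) (u u' w : V0)
    (t1 t2 : K) (hu : u + u' = 0) (ht : t1 + -(QuadraticMap.polar Q0 u w) + -t2 = 0) :
    XS p u * X p r t1 * XS r w * X r p t2 * XS p u' = XS r w := by
  apply h77_collapse (XS p u) (XS p u') (X p r t1) (X r p t2)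
    (X p r (-(QuadraticMap.polar Q0 u w))) (XS r w)
  · rw [h.sadd, hu, h.XS_zero]
  · exact h.cj_ss p r u w hr1 hr2
  · exact h.scomm p p r u t1 (ne_ng p) hr2
  · exact (h.scomm p r p u' t2 hr2 (ne_ng p)).symm
  · exact h.scomm r r p w t2 (ne_ng r) (h46_ne_ng_of hr2)
  · rw [h.long.anti p r t2, h.long.add, h.long.add, ht, h.long.X_zero]

/-- `X a c s` moves `XS (ng a) v` -/
theorem h77_mvS_a (h : BStAB Q0 X XS) (a c : ι ⊕ ι) (s : K) (v : V0) (h1 : c ≠ a)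
    (h2 : c ≠ ng a) :
    MulAut.conj (X a c s) (XS (ng a) v) =
      XS c ((-s) • v) * X c (ng a) (-s * Q0 v) * XS (ng a) v := by
  rw [MulAut.conj_apply, h.long.anti c a s]
  exact h.cj_ls c a (-s) v h1.symm (h46_ne_ng_of h2)

/-- `X a c s` moves `XS (ng c) v` -/
theorem h77_mvS_c (h : BStAB Q0 X XS) (a c : ι ⊕ ι) (s : K) (v : V0) (h1 : c ≠ a)
    (h2 : c ≠ ng a) :
    MulAut.conj (X a c s) (XS (ng c) v) = XS a (s • v) * X a (ng c) (s * Q0 v) * XS (ng c) v := by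
  rw [MulAut.conj_apply]
  exact h.cj_ls a c s v h1 h2

/-- `X a c s` fixes `XS d v` for `d ≠ ng a`, `d ≠ ng c` -/
theorem h77_fixS (h : BStAB Q0 X XS) (a c d : ι ⊕ ι) (s : K) (v : V0) (hd1 : d ≠ ng a)
    (hd2 : d ≠ ng c) : MulAut.conj (X a c s) (XS d v) = XS d v := by
  rw [MulAut.conj_apply]
  exact h.cj_scomm d a c v s (h46_ne_ng_of hd1) (h46_ne_ng_of hd2)

/-- `X a c s` fixes `X (ng c) a t` -/
theorem h77_fixL (h : BStAB Q0 X XS) (a c : ι ⊕ ι) (s t : K) :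
    MulAut.conj (X a c s) (X (ng c) a t) = X (ng c) a t := by
  rw [MulAut.conj_apply, h.long.anti c a s]
  exact h.long.cj_comm2 c a (-s) t

/-- `X a c s` fixes `X (ng a) c t` -/
theorem h77_fixL' (h : BStAB Q0 X XS) (a c : ι ⊕ ι) (s t : K) :
    MulAut.conj (X a c s) (X (ng a) c t) = X (ng a) c t := by
  rw [MulAut.conj_apply]
  exact h.long.cj_comm2 a c s t

theorem wcjS_out (h : BStAB Q0 X XS) (a c d : ι ⊕ ι) (s : K) (v : V0)
    (hd1 : d ≠ a) (hd2 : d ≠ ng a) (hd3 : d ≠ c) (hd4 : d ≠ ng c) :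
    WD X a c s * XS d v * (WD X a c s)⁻¹ = XS d v := by
  rw [h46_WD_conj, h77_fixS h a c d s v hd2 hd4,
    h77_fixS h (ng a) (ng c) d s⁻¹ v (by rw [ng_ng]; exact hd1) (by rw [ng_ng]; exact hd3),
    h77_fixS h a c d s v hd2 hd4]

theorem wcjS_1 (h : BStAB Q0 X XS) (a c : ι ⊕ ι) (s : K) (v : V0) (hs : s ≠ 0) (h1 : c ≠ a)
    (h2 : c ≠ ng a) : WD X a c s * XS (ng a) v * (WD X a c s)⁻¹ = XS c ((-s) • v) := by
  have hn1 : ng c ≠ ng a := h46_ng_ne_ng h1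
  have hn2 : ng c ≠ ng (ng a) := by rw [ng_ng]; exact h46_ng_ne_of h2
  have e2a : MulAut.conj (X (ng a) (ng c) s⁻¹) (XS c ((-s) • v)) =
      XS (ng a) (s⁻¹ • (-s) • v) * X (ng a) c (s⁻¹ * Q0 ((-s) • v)) * XS c ((-s) • v) := by
    have := h77_mvS_c h (ng a) (ng c) s⁻¹ ((-s) • v) hn1 hn2
    rw [ng_ng] at this
    exact this
  have e2b : MulAut.conj (X (ng a) (ng c) s⁻¹) (X c (ng a) (-s * Q0 v)) =
      X c (ng a) (-s * Q0 v) := by
    have := h77_fixL h (ng a) (ng c) s⁻¹ (-s * Q0 v)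
    rw [ng_ng] at this
    exact this
  have e2c : MulAut.conj (X (ng a) (ng c) s⁻¹) (XS (ng a) v) = XS (ng a) v :=
    h77_fixS h (ng a) (ng c) (ng a) s⁻¹ v (by rw [ng_ng]; exact ng_ne a)
      (by rw [ng_ng]; exact h2.symm)
  have hu : s⁻¹ • (-s) • v + v = 0 := by
    rw [smul_smul, mul_neg, inv_mul_cancel₀ hs, neg_one_smul, neg_add_cancel]
  have ht : s⁻¹ * Q0 ((-s) • v) + -(QuadraticMap.polar Q0 (s⁻¹ • (-s) • v) ((-s) • v)) +
      -(-s * Q0 v) = 0 := by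
    rw [QuadraticMap.polar_smul_left, QuadraticMap.polar_self, QuadraticMap.map_smul]
    simp only [smul_eq_mul, nsmul_eq_mul, Nat.cast_ofNat]
    field_simp
    ring
  have e12 : MulAut.conj (X (ng a) (ng c) s⁻¹) (MulAut.conj (X a c s) (XS (ng a) v)) =
      XS (ng a) (s⁻¹ • (-s) • v) * X (ng a) c (s⁻¹ * Q0 ((-s) • v)) * XS c ((-s) • v) *
        X c (ng a) (-s * Q0 v) * XS (ng a) v := by
    rw [h77_mvS_a h a c s v h1 h2, map_mul, map_mul, e2a, e2b, e2c]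
  rw [h46_WD_conj, e12, h77_heis h (ng a) c h2 (by rw [ng_ng]; exact h1) _ _ _ _ _ hu ht,
    h77_fixS h a c c s _ h2 (ne_ng c)]

theorem wcjS_2 (h : BStAB Q0 X XS) (a c : ι ⊕ ι) (s : K) (v : V0) (hs : s ≠ 0) (h1 : c ≠ a)
    (h2 : c ≠ ng a) : WD X a c s * XS c v * (WD X a c s)⁻¹ = XS (ng a) (s⁻¹ • v) := by
  have hn1 : ng c ≠ ng a := h46_ng_ne_ng h1
  have hn2 : ng c ≠ ng (ng a) := by rw [ng_ng]; exact h46_ng_ne_of h2
  have e2 : MulAut.conj (X (ng a) (ng c) s⁻¹) (XS c v) =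
      XS (ng a) (s⁻¹ • v) * X (ng a) c (s⁻¹ * Q0 v) * XS c v := by
    have := h77_mvS_c h (ng a) (ng c) s⁻¹ v hn1 hn2
    rw [ng_ng] at this
    exact this
  have hu : (-s) • s⁻¹ • v + v = 0 := by
    rw [smul_smul, neg_mul, mul_inv_cancel₀ hs, neg_one_smul, neg_add_cancel]
  have ht : -s * Q0 (s⁻¹ • v) + -(QuadraticMap.polar Q0 ((-s) • s⁻¹ • v) (s⁻¹ • v)) +
      -(s⁻¹ * Q0 v) = 0 := by
    rw [QuadraticMap.polar_smul_left, QuadraticMap.polar_self, QuadraticMap.map_smul]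
    simp only [smul_eq_mul, nsmul_eq_mul, Nat.cast_ofNat]
    field_simp
    ring
  rw [h46_WD_conj, h77_fixS h a c c s v h2 (ne_ng c), e2, map_mul, map_mul,
    h77_mvS_a h a c s _ h1 h2, h77_fixL' h a c s _, h77_fixS h a c c s v h2 (ne_ng c),
    h77_heis h c (ng a) h2.symm hn1.symm _ _ _ _ _ hu ht]

end generic

end Cfsg.Agent.Lib.Helper74_S94
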