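import Mathlib
import Cfsg.Agent.Lib.Helper74_S94Defs2
import Cfsg.Agent.Lib.Helper66_S96Asm
import Cfsg.Agent.Lib.Helper66_S96Rank
import Cfsg.Agent.Lib.Helper5_SLPresA
import Cfsg.Agent.Lib.Helper77_S94_WCJS_A

set_option autoImplicit false
set_option linter.unusedVariables false
set_option linter.unusedSectionVars false

/-!
Market `s94_packages` (helper74), package **B_WCJS_B** (helper77): conjugation of the short root
elements `XS d v` by the long Weyl element `WD X a c s`, for `d = ng c` and `d = a`.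
-/

namespace Cfsg.Agent.Lib.Helper74_S94

open Cfsg.Agent.Lib.Helper5_SteinbergA Cfsg.Agent.Lib.Helper5_SLPresA Cfsg.Agent.Lib.Helper66_StCalc
  Cfsg.Agent.Lib.Helper66_S92 Cfsg.Agent.Lib.Helper66_S96

section generic

variable {ι : Type*} [DecidableEq ι] {K : Type*} [Field K] {V0 : Type*} [AddCommGroup V0]
  [Module K V0] {G : Type*} [Group G] {Q0 : QuadraticForm K V0}
  {X : ι ⊕ ι → ι ⊕ ι → K → G} {XS : ι ⊕ ι → V0 → G}

theorem wcjS_3 (h : BStAB Q0 X XS) (a c : ι ⊕ ι) (s : K) (v : V0) (hs : s ≠ 0) (h1 : c ≠ a)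
    (h2 : c ≠ ng a) : WD X a c s * XS (ng c) v * (WD X a c s)⁻¹ = XS a (s • v) := by
  have hn1 : ng c ≠ ng a := h46_ng_ne_ng h1
  have hn2 : ng c ≠ ng (ng a) := by rw [ng_ng]; exact h46_ng_ne_of h2
  have e2a : MulAut.conj (X (ng a) (ng c) s⁻¹) (XS a (s • v)) =
      XS (ng c) ((-s⁻¹) • s • v) * X (ng c) a (-s⁻¹ * Q0 (s • v)) * XS a (s • v) := by
    have := h77_mvS_a h (ng a) (ng c) s⁻¹ (s • v) hn1 hn2
    rw [ng_ng] at this
    exact this
  have e2b : MulAut.conj (X (ng a) (ng c) s⁻¹) (X a (ng c) (s * Q0 v)) =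
      X a (ng c) (s * Q0 v) := by
    have := h77_fixL' h (ng a) (ng c) s⁻¹ (s * Q0 v)
    rw [ng_ng] at this
    exact this
  have e2c : MulAut.conj (X (ng a) (ng c) s⁻¹) (XS (ng c) v) = XS (ng c) v :=
    h77_fixS h (ng a) (ng c) (ng c) s⁻¹ v hn2 (by rw [ng_ng]; exact ng_ne c)
  have hu : (-s⁻¹) • s • v + v = 0 := by
    rw [smul_smul, neg_mul, inv_mul_cancel₀ hs, neg_one_smul, neg_add_cancel]
  have ht : -s⁻¹ * Q0 (s • v) + -(QuadraticMap.polar Q0 ((-s⁻¹) • s • v) (s • v)) +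
      -(s * Q0 v) = 0 := by
    rw [QuadraticMap.polar_smul_left, QuadraticMap.polar_self, QuadraticMap.map_smul]
    simp only [smul_eq_mul, nsmul_eq_mul, Nat.cast_ofNat]
    field_simp
    ring
  have e12 : MulAut.conj (X (ng a) (ng c) s⁻¹) (MulAut.conj (X a c s) (XS (ng c) v)) =
      XS (ng c) ((-s⁻¹) • s • v) * X (ng c) a (-s⁻¹ * Q0 (s • v)) * XS a (s • v) *
        X a (ng c) (s * Q0 v) * XS (ng c) v := by
    rw [h77_mvS_c h a c s v h1 h2, map_mul, map_mul, e2a, e2b, e2c]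
  rw [h46_WD_conj, e12,
    h77_heis h (ng c) a (h46_ne_ng_of h2) (by rw [ng_ng]; exact h1.symm) _ _ _ _ _ hu ht,
    h77_fixS h a c a s _ (ne_ng a) (h46_ne_ng_of h2)]

theorem wcjS_4 (h : BStAB Q0 X XS) (a c : ι ⊕ ι) (s : K) (v : V0) (hs : s ≠ 0) (h1 : c ≠ a)
    (h2 : c ≠ ng a) : WD X a c s * XS a v * (WD X a c s)⁻¹ = XS (ng c) ((-s⁻¹) • v) := by
  have hn1 : ng c ≠ ng a := h46_ng_ne_ng h1
  have hn2 : ng c ≠ ng (ng a) := by rw [ng_ng]; exact h46_ng_ne_of h2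
  have ha1 : a ≠ ng c := h46_ne_ng_of h2
  have e2 : MulAut.conj (X (ng a) (ng c) s⁻¹) (XS a v) =
      XS (ng c) ((-s⁻¹) • v) * X (ng c) a (-s⁻¹ * Q0 v) * XS a v := by
    have := h77_mvS_a h (ng a) (ng c) s⁻¹ v hn1 hn2
    rw [ng_ng] at this
    exact this
  have hu : s • (-s⁻¹) • v + v = 0 := by
    rw [smul_smul, mul_neg, mul_inv_cancel₀ hs, neg_one_smul, neg_add_cancel]
  have ht : s * Q0 ((-s⁻¹) • v) + -(QuadraticMap.polar Q0 (s • (-s⁻¹) • v) ((-s⁻¹) • v)) +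
      -(-s⁻¹ * Q0 v) = 0 := by
    rw [QuadraticMap.polar_smul_left, QuadraticMap.polar_self, QuadraticMap.map_smul]
    simp only [smul_eq_mul, nsmul_eq_mul, Nat.cast_ofNat]
    field_simp
    ring
  rw [h46_WD_conj, h77_fixS h a c a s v (ne_ng a) ha1, e2, map_mul, map_mul,
    h77_mvS_c h a c s _ h1 h2, h77_fixL h a c s _, h77_fixS h a c a s v (ne_ng a) ha1,
    h77_heis h a (ng c) ha1.symm hn1 _ _ _ _ _ hu ht]

end generic

end Cfsg.Agent.Lib.Helper74_S94
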