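import Mathlib
import Cfsg.Agent.Lib.Helper74_S94Defs2
import Cfsg.Agent.Lib.Helper66_S96Rank
import Cfsg.Agent.Lib.Helper99_S96_TOR

set_option autoImplicit false
set_option linter.unusedVariables false
set_option linter.unusedSectionVars false

/-!
# s94 market (helper74), package B_WCALCS (core, helper78)

`h78_wCalcS_aux`: `WCalcS X XS` from the five conjugation formulas `wcjS_out`, `wcjS_1` .. `wcjS_4`
(packages B_WCJS_A, B_WCJS_B) taken as hypotheses.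
-/

namespace Cfsg.Agent.Lib.Helper74_S94

open Cfsg.Agent.Lib.Helper5_SteinbergA Cfsg.Agent.Lib.Helper66_S92 Cfsg.Agent.Lib.Helper66_S96

section generic

variable {ι : Type*} [DecidableEq ι] {K : Type*} [Field K] {V0 : Type*} [AddCommGroup V0]
  [Module K V0] {G : Type*} [Group G] {Q0 : QuadraticForm K V0}
  {X : ι ⊕ ι → ι ⊕ ι → K → G} {XS : ι ⊕ ι → V0 → G}

/-- the Weyl part of `WCalcS` from the five cases -/
theorem h78_wd_conjS_aux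
    (hout : ∀ (a c d : ι ⊕ ι) (s : K) (v : V0), d ≠ a → d ≠ ng a → d ≠ c → d ≠ ng c →
      WD X a c s * XS d v * (WD X a c s)⁻¹ = XS d v)
    (hw1 : ∀ (a c : ι ⊕ ι) (s : K) (v : V0), s ≠ 0 → c ≠ a → c ≠ ng a →
      WD X a c s * XS (ng a) v * (WD X a c s)⁻¹ = XS c ((-s) • v))
    (hw2 : ∀ (a c : ι ⊕ ι) (s : K) (v : V0), s ≠ 0 → c ≠ a → c ≠ ng a →
      WD X a c s * XS c v * (WD X a c s)⁻¹ = XS (ng a) (s⁻¹ • v))
    (hw3 : ∀ (a c : ι ⊕ ι) (s : K) (v : V0), s ≠ 0 → c ≠ a → c ≠ ng a →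
      WD X a c s * XS (ng c) v * (WD X a c s)⁻¹ = XS a (s • v))
    (hw4 : ∀ (a c : ι ⊕ ι) (s : K) (v : V0), s ≠ 0 → c ≠ a → c ≠ ng a →
      WD X a c s * XS a v * (WD X a c s)⁻¹ = XS (ng c) ((-s⁻¹) • v))
    (a c : ι ⊕ ι) (h1 : c ≠ a) (h2 : c ≠ ng a) (s : K) (hs : s ≠ 0) (d : ι ⊕ ι) (v : V0) :
    WD X a c s * XS d v * (WD X a c s)⁻¹ = XS (sgD a c d) (muD a c s d • v) := by
  rcases h99_classify a c d with hd | hd | hd | hd | ⟨hd1, hd2, hd3, hd4⟩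
  · rw [hd, h99_sgD_a, h99_muD_a, hw4 a c s v hs h1 h2]
  · rw [hd, h99_sgD_ngc a c h2, h99_muD_ngc a c s h2, hw3 a c s v hs h1 h2]
  · rw [hd, h99_sgD_c a c h1, h99_muD_c a c s h1, hw2 a c s v hs h1 h2]
  · rw [hd, h99_sgD_nga a c h1 h2, h99_muD_nga a c s h1 h2, hw1 a c s v hs h1 h2]
  · rw [h99_sgD_out a c d hd1 hd2 hd3 hd4, h99_muD_out a c d s hd1 hd2 hd3 hd4, one_smul,
      hout a c d s v hd1 hd4 hd3 hd2]

/-- the torus part of `WCalcS` from the Weyl part (as `Helper99_S96_TOR.hd_conj_all`) -/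
theorem h78_hd_conjS_aux (hD : DSt X)
    (hW : ∀ a c : ι ⊕ ι, c ≠ a → c ≠ ng a → ∀ s : K, s ≠ 0 → ∀ (d : ι ⊕ ι) (v : V0),
      WD X a c s * XS d v * (WD X a c s)⁻¹ = XS (sgD a c d) (muD a c s d • v))
    (a c : ι ⊕ ι) (h1 : c ≠ a) (h2 : c ≠ ng a) (s : K) (hs : s ≠ 0) (d : ι ⊕ ι) (v : V0) :
    HD X a c s * XS d v * (HD X a c s)⁻¹ = XS d (chD a c s d • v) := by
  have hm1 : (-1 : K) ≠ 0 := neg_ne_zero.mpr one_ne_zero
  rw [h99_hd_eq hD a c h1 h2 s]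
  have e2 : WD X a c s * WD X a c (-1) * XS d v * (WD X a c s * WD X a c (-1))⁻¹ =
      WD X a c s * (WD X a c (-1) * XS d v * (WD X a c (-1))⁻¹) * (WD X a c s)⁻¹ := by group
  rw [e2, hW a c h1 h2 (-1) hm1 d v, hW a c h1 h2 s hs, h99_sgD_sgD a c d h1 h2, smul_smul,
    h99_mu_mul a c d h1 h2 s]

/-- B_WCALCS with the statements of B_WCJS_A, B_WCJS_B as hypotheses -/
theorem h78_wCalcS_aux (hD : DSt X)
    (hout : ∀ (a c d : ι ⊕ ι) (s : K) (v : V0), d ≠ a → d ≠ ng a → d ≠ c → d ≠ ng c →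
      WD X a c s * XS d v * (WD X a c s)⁻¹ = XS d v)
    (hw1 : ∀ (a c : ι ⊕ ι) (s : K) (v : V0), s ≠ 0 → c ≠ a → c ≠ ng a →
      WD X a c s * XS (ng a) v * (WD X a c s)⁻¹ = XS c ((-s) • v))
    (hw2 : ∀ (a c : ι ⊕ ι) (s : K) (v : V0), s ≠ 0 → c ≠ a → c ≠ ng a →
      WD X a c s * XS c v * (WD X a c s)⁻¹ = XS (ng a) (s⁻¹ • v))
    (hw3 : ∀ (a c : ι ⊕ ι) (s : K) (v : V0), s ≠ 0 → c ≠ a → c ≠ ng a →
      WD X a c s * XS (ng c) v * (WD X a c s)⁻¹ = XS a (s • v))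
    (hw4 : ∀ (a c : ι ⊕ ι) (s : K) (v : V0), s ≠ 0 → c ≠ a → c ≠ ng a →
      WD X a c s * XS a v * (WD X a c s)⁻¹ = XS (ng c) ((-s⁻¹) • v)) :
    WCalcS X XS where
  wd_conjS := h78_wd_conjS_aux hout hw1 hw2 hw3 hw4
  hd_conjS := h78_hd_conjS_aux hD (h78_wd_conjS_aux hout hw1 hw2 hw3 hw4)

end generic

end Cfsg.Agent.Lib.Helper74_S94
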