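import Mathlib
import Cfsg.Agent.Lib.Helper74_S94_RANKS
import Cfsg.Agent.Lib.Helper55_S94_EVALB
import Cfsg.Agent.Lib.Helper17_S96_TS
import Cfsg.Agent.Lib.Helper53_S96_NEGWORD
import Cfsg.Agent.Lib.Helper99_S96_WW
import Cfsg.Agent.Lib.Helper20_S94_ACTW
import Cfsg.Agent.Lib.Helper78_S94_WCALCSaux
import Cfsg.Agent.Lib.Helper77_S94_WCJS_A
import Cfsg.Agent.Lib.Helper77_S94_WCJS_B

set_option autoImplicit false
set_option linter.unusedVariables false
set_option linter.unusedSectionVars false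
set_option linter.unusedSimpArgs false

/-!
# S94 (S2094 / S2099), package NEGWORD_MINUS of helper66's FINAL block (helper14)

For `²D_l`, `l - 1 = card ι` even, an element `c` of a group with a `BSt` family acting as `-1` whose square is
the central element `z = zS σ XS a`:
`c = c₁ * (HD X a e μ⁻¹ * HD X a (ng e) μ⁻¹) * HS σ XS a λ` with `σ λ = -λ`, `μ² = N λ`, and `c₁` the product of
the `HD X (inl i) (inl j) (-1)` over a pairing of the indices.
-/

namespace Cfsg.Agent.Lib.Helper66_S94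

open Cfsg.Agent.Lib.Helper5_SteinbergA Cfsg.Agent.Lib.Helper66_S92 Cfsg.Agent.Lib.Helper66_S96
  Cfsg.Agent.Lib.Helper74_S94

section h14n

variable {ι : Type*} [Fintype ι] [DecidableEq ι] {K : Type*} [Field K] [Finite K]
  {L : Type*} [Field L] [Algebra K L] [Finite L] {Q0 : QuadraticForm K L} {σ : L → L}
  {G : Type*} [Group G] {X : ι ⊕ ι → ι ⊕ ι → K → G} {XS : ι ⊕ ι → L → G}

/-- two endomorphisms agreeing on the `bB d` and on `0 × L` are equal -/
theorem h14n_ext {f g : Module.End K ((ι ⊕ ι → K) × L)} (h1 : ∀ d, f (bB d) = g (bB d))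
    (h2 : ∀ v : L, f (0, v) = g (0, v)) : f = g := by
  apply LinearMap.prod_ext
  · apply LinearMap.pi_ext'
    intro d
    apply LinearMap.ext_ring
    simpa [bB] using h1 d
  · apply LinearMap.ext
    intro v
    simpa using h2 v

/-- `g` acts diagonally: by `χ d` on the coordinate `d`, by multiplication with `m` on `L` -/
def h14n_Diag (ρ : G →* Module.End K ((ι ⊕ ι → K) × L)) (g : G) (χ : ι ⊕ ι → K) (m : L) : Prop :=
  ∀ x : (ι ⊕ ι → K) × L, ρ g x = (fun d => χ d * x.1 d, m * x.2)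

/-- the diagonal endomorphism -/
def h14n_dg (χ : ι ⊕ ι → K) (m : L) : Module.End K ((ι ⊕ ι → K) × L) :=
  LinearMap.prodMap (LinearMap.pi (fun d => χ d • LinearMap.proj d)) (LinearMap.mulLeft K m)

theorem h14n_dg_apply (χ : ι ⊕ ι → K) (m : L) (x : (ι ⊕ ι → K) × L) :
    h14n_dg χ m x = (fun d => χ d * x.1 d, m * x.2) := by
  unfold h14n_dg
  refine Prod.ext ?_ ?_
  · funext d
    simp
  · simp

theorem h14n_diag_of (ρ : G →* Module.End K ((ι ⊕ ι → K) × L)) (g : G) (χ : ι ⊕ ι → K) (m : L)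
    (h1 : ∀ d, ρ g (bB d) = χ d • bB d) (h2 : ∀ v : L, ρ g (0, v) = (0, m * v)) :
    h14n_Diag ρ g χ m := by
  have : ρ g = h14n_dg χ m := by
    apply h14n_ext
    · intro d
      rw [h1 d, h14n_dg_apply]
      unfold bB
      refine Prod.ext ?_ ?_
      · funext e
        by_cases he : e = d
        · subst he; simp
        · simp [he]
      · simp
    · intro v
      rw [h2 v, h14n_dg_apply]
      refine Prod.ext ?_ ?_
      · funext e; simp
      · simp
  intro x
  rw [this, h14n_dg_apply]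

theorem h14n_diag_mul {ρ : G →* Module.End K ((ι ⊕ ι → K) × L)} {g g' : G} {χ χ' : ι ⊕ ι → K}
    {m m' : L} (h : h14n_Diag ρ g χ m) (h' : h14n_Diag ρ g' χ' m') :
    h14n_Diag ρ (g * g') (fun d => χ d * χ' d) (m * m') := by
  intro x
  rw [map_mul, Module.End.mul_apply, h' x, h _]
  refine Prod.ext ?_ ?_
  · funext d
    simp only
    ring
  · simp only
    ring

theorem h14n_diag_one {ρ : G →* Module.End K ((ι ⊕ ι → K) × L)} {g : G} {χ : ι ⊕ ι → K} {m : L}
    (h : h14n_Diag ρ g χ m) (hχ : ∀ d, χ d = 1) (hm : m = 1) : ρ g = 1 := by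
  apply LinearMap.ext
  intro x
  rw [h x, Module.End.one_apply]
  refine Prod.ext ?_ ?_
  · funext d
    simp [hχ d]
  · simp [hm]

theorem h14n_diag_neg {ρ : G →* Module.End K ((ι ⊕ ι → K) × L)} {g : G} {χ : ι ⊕ ι → K} {m : L}
    (h : h14n_Diag ρ g χ m) (hχ : ∀ d, χ d = -1) (hm : m = -1) : ρ g = -1 := by
  apply LinearMap.ext
  intro x
  rw [h x, LinearMap.neg_apply, Module.End.one_apply]
  refine Prod.ext ?_ ?_
  · funext d
    simp [hχ d]
  · simp [hm]

/-! ### the long torus elements -/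

/-- `g` fixes the vectors of `0 × L` -/
def h14n_FixV (ρ : G →* Module.End K ((ι ⊕ ι → K) × L)) (g : G) : Prop :=
  ∀ v : L, ρ g ((0 : ι ⊕ ι → K), v) = (0, v)

theorem h14n_fixV_mul {ρ : G →* Module.End K ((ι ⊕ ι → K) × L)} {g g' : G} (h : h14n_FixV ρ g)
    (h' : h14n_FixV ρ g') : h14n_FixV ρ (g * g') := by
  intro v
  rw [map_mul, Module.End.mul_apply, h' v, h v]

theorem h14n_fixV_inv {ρ : G →* Module.End K ((ι ⊕ ι → K) × L)} {g : G} (h : h14n_FixV ρ g) :
    h14n_FixV ρ g⁻¹ := by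
  intro v
  have e : ρ g⁻¹ (ρ g (0, v)) = (0, v) := by
    rw [← Module.End.mul_apply, ← map_mul, inv_mul_cancel, map_one, Module.End.one_apply]
  rw [h v] at e
  exact e

theorem h14n_fixV_X {ρ : G →* Module.End K ((ι ⊕ ι → K) × L)} (hρ : IsActB Q0 X XS ρ)
    (a c : ι ⊕ ι) (t : K) : h14n_FixV ρ (X a c t) := by
  intro v
  rw [hρ.long a c t]
  refine Prod.ext ?_ rfl
  show xactD a c t 0 = 0
  unfold xactD
  split_ifs
  · rfl
  · simp

theorem h14n_fixV_HD {ρ : G →* Module.End K ((ι ⊕ ι → K) × L)} (hρ : IsActB Q0 X XS ρ)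
    (a c : ι ⊕ ι) (s : K) : h14n_FixV ρ (HD X a c s) := by
  have hW : ∀ u : K, h14n_FixV ρ (WD X a c u) := by
    intro u
    rw [WD_eq]
    exact h14n_fixV_mul (h14n_fixV_mul (h14n_fixV_X hρ _ _ _) (h14n_fixV_X hρ _ _ _))
      (h14n_fixV_X hρ _ _ _)
  unfold HD
  exact h14n_fixV_mul (hW s) (h14n_fixV_inv (hW 1))

theorem h14n_diag_HD (ρ : G →* Module.End K ((ι ⊕ ι → K) × L)) (hρ : IsActB Q0 X XS ρ)
    (a c : ι ⊕ ι) (h1 : c ≠ a) (h2 : c ≠ ng a) (s : K) (hs : s ≠ 0) :
    h14n_Diag ρ (HD X a c s) (chD a c s) 1 := by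
  apply h14n_diag_of
  · intro d
    exact act_HDB ρ hρ a c h1 h2 s hs d
  · intro v
    rw [one_mul]
    exact h14n_fixV_HD hρ a c s v

/-- the word for an even set of indices -/
theorem h14n_even_word (C : WCalcD X) (ρ : G →* Module.End K ((ι ⊕ ι → K) × L))
    (hρ : IsActB Q0 X XS ρ) :
    ∀ (n : ℕ) (s : Finset ι), s.card = 2 * n →
      ∃ c ∈ Ts X, c * c = 1 ∧ h14n_Diag ρ c (h53_sg K s) 1 := by
  intro n
  induction n with
  | zero =>
    intro s hs
    have hs0 : s = ∅ := Finset.card_eq_zero.mp (by simpa using hs)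
    refine ⟨1, one_mem _, by simp, ?_⟩
    intro x
    rw [hs0, map_one, Module.End.one_apply]
    refine Prod.ext ?_ ?_
    · funext d
      simp [h53_sg]
    · simp
  | succ n ih =>
    intro s hs
    have hpos : 0 < s.card := by omega
    obtain ⟨i, hi⟩ := Finset.card_pos.mp hpos
    have h1 : (s.erase i).card = 2 * n + 1 := by
      rw [Finset.card_erase_of_mem hi]
      omega
    have hpos' : 0 < (s.erase i).card := by omega
    obtain ⟨j, hj⟩ := Finset.card_pos.mp hpos'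
    have hji : j ≠ i := Finset.ne_of_mem_erase hj
    have hjs : j ∈ s := Finset.mem_of_mem_erase hj
    have h2 : ((s.erase i).erase j).card = 2 * n := by
      rw [Finset.card_erase_of_mem hj]
      omega
    obtain ⟨c', hc'T, hc'2, hc'act⟩ := ih _ h2
    have hne1 : (Sum.inl j : ι ⊕ ι) ≠ Sum.inl i := fun e => hji (Sum.inl.inj e)
    have hne2 : (Sum.inl j : ι ⊕ ι) ≠ ng (Sum.inl i) := by
      rw [ng_inl]
      exact fun e => by cases e
    have hm1 : (-1 : K) ≠ 0 := neg_ne_zero.mpr one_ne_zero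
    set hh : G := HD X (Sum.inl i) (Sum.inl j) (-1) with hhdef
    have hhT : hh ∈ Ts X := HD_mem_Ts _ _ _ hne1 hne2 hm1
    have hh2 : hh * hh = 1 := by
      rw [hhdef, C.hd_mul _ _ hne1 hne2 _ _ hm1 hm1]
      have : (-1 : K) * -1 = 1 := by ring
      rw [this, HD_one]
    refine ⟨hh * c', (Ts X).mul_mem hhT hc'T, ?_, ?_⟩
    · have hcm : c' * hh = hh * c' := Ts_comm C hc'T hhT
      calc hh * c' * (hh * c') = hh * (c' * hh) * c' := by group
        _ = hh * (hh * c') * c' := by rw [hcm]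
        _ = (hh * hh) * (c' * c') := by group
        _ = 1 := by rw [hh2, hc'2, one_mul]
    · have hd1 := h14n_diag_mul (h14n_diag_HD ρ hρ _ _ hne1 hne2 (-1) hm1) hc'act
      intro x
      rw [hd1 x]
      refine Prod.ext ?_ ?_
      · funext d
        simp only
        congr 1
        rw [h53_chD_pair i j (fun e => hji e.symm) d]
        unfold h53_sg
        have hmem : h53_ix d ∈ s ↔
            (h53_ix d ∈ ({i, j} : Finset ι) ∨ h53_ix d ∈ (s.erase i).erase j) := by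
          simp only [Finset.mem_insert, Finset.mem_singleton, Finset.mem_erase]
          constructor
          · intro hd
            by_cases hdi : h53_ix d = i
            · exact Or.inl (Or.inl hdi)
            · by_cases hdj : h53_ix d = j
              · exact Or.inl (Or.inr hdj)
              · exact Or.inr ⟨hdj, hdi, hd⟩
          · rintro ((hd | hd) | ⟨-, -, hd⟩)
            · rw [hd]; exact hi
            · rw [hd]; exact hjs
            · exact hd
        have hdisj : h53_ix d ∈ ({i, j} : Finset ι) → h53_ix d ∉ (s.erase i).erase j := by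
          simp only [Finset.mem_insert, Finset.mem_singleton, Finset.mem_erase]
          rintro (hd | hd) ⟨h3, h4, -⟩
          · exact h4 hd
          · exact h3 hd
        by_cases ha : h53_ix d ∈ ({i, j} : Finset ι)
        · have hb := hdisj ha
          have hc : h53_ix d ∈ s := hmem.mpr (Or.inl ha)
          rw [if_pos ha, if_neg hb, if_pos hc]
          ring
        · by_cases hb : h53_ix d ∈ (s.erase i).erase j
          · have hc : h53_ix d ∈ s := hmem.mpr (Or.inr hb)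
            rw [if_neg ha, if_pos hb, if_pos hc]
            ring
          · have hc : h53_ix d ∉ s := fun h => (hmem.mp h).elim ha hb
            rw [if_neg ha, if_neg hb, if_neg hc]
            ring
      · simp

/-! ### the short torus elements -/

/-- the character of the short torus element `HS σ XS a w`, `N = Q0 w` -/
def h14n_chS (a : ι ⊕ ι) (N : K) (d : ι ⊕ ι) : K :=
  if d = a then N else if d = ng a then N⁻¹ else 1

omit [Fintype ι] [Finite K] [Finite L] in
theorem h14n_Q0_algebraMap (hN : IsNrm Q0 σ) (s : K) : Q0 (algebraMap K L s) = s * s := by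
  apply (algebraMap K L).injective
  rw [hN.nrm, hN.fix, map_mul]

omit [Fintype ι] [Finite K] [Finite L] in
theorem h14n_Q0_one (hN : IsNrm Q0 σ) : Q0 (1 : L) = 1 := by
  have := h14n_Q0_algebraMap hN (1 : K)
  rwa [map_one, mul_one] at this

omit [Fintype ι] [Finite K] [Finite L] in
/-- the polar form of the norm -/
theorem h14n_polar (hN : IsNrm Q0 σ) (w u : L) :
    algebraMap K L (QuadraticMap.polar Q0 w u) = w * σ u + u * σ w := by
  unfold QuadraticMap.polar
  rw [map_sub, map_sub, hN.nrm, hN.nrm, hN.nrm, hN.map_add]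
  ring

omit [Fintype ι] [Finite K] [Finite L] in
/-- the reflection in `w`, in the field -/
theorem h14n_refl (hN : IsNrm Q0 σ) (w y : L) (hw : w ≠ 0) :
    y - ((Q0 w)⁻¹ * QuadraticMap.polar Q0 y w) • w = -(w * (σ w)⁻¹ * σ y) := by
  have hσ : σ w ≠ 0 := fun H => hw (hN.map_eq_zero.mp H)
  rw [Algebra.smul_def, map_mul, map_inv₀, hN.nrm, h14n_polar hN]
  field_simp
  ring

theorem h14n_act_WSg (hN : IsNrm Q0 σ) (ρ : G →* Module.End K ((ι ⊕ ι → K) × L))
    (hρ : IsActB Q0 X XS ρ) (a : ι ⊕ ι) (w : L) (hw : w ≠ 0) (x : (ι ⊕ ι → K) × L) :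
    ρ (WSg Q0 XS a w) x =
      (Function.update (Function.update x.1 a (-(Q0 w * x.1 (ng a)))) (ng a) (-((Q0 w)⁻¹ * x.1 a)),
        -(w * (σ w)⁻¹ * σ x.2)) := by
  rw [act_WSg ρ hρ a w (hN.nrm_ne_zero hw) x, h14n_refl hN w x.2 hw]

theorem h14n_diag_HS (hN : IsNrm Q0 σ) (h : BSt Q0 σ X XS)
    (ρ : G →* Module.End K ((ι ⊕ ι → K) × L)) (hρ : IsActB Q0 X XS ρ) (a : ι ⊕ ι) (w : L)
    (hw : w ≠ 0) : h14n_Diag ρ (HS σ XS a w) (h14n_chS a (Q0 w)) (w * (σ w)⁻¹) := by
  have hm : (-1 : L) ≠ 0 := neg_ne_zero.mpr one_ne_zero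
  have e1 : HS σ XS a w = WSg Q0 XS a w * WSg Q0 XS a (-1) := by
    unfold HS
    have : (WS σ XS a 1)⁻¹ = WS σ XS a (-1) := (h.rank1S a).W_inv true 1
    rw [this, WS_eq_WSg hN a w hw, WS_eq_WSg hN a (-1) hm]
  have hq1 : Q0 (-1 : L) = 1 := by rw [QuadraticMap.map_neg, h14n_Q0_one hN]
  have hs1 : σ (-1 : L) = -1 := by rw [hN.map_neg, hN.map_one]
  intro x
  rw [e1, map_mul, Module.End.mul_apply, h14n_act_WSg hN ρ hρ a (-1) hm x,
    h14n_act_WSg hN ρ hρ a w hw]
  have hna : ng a ≠ a := (ne_ng a).symm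
  refine Prod.ext ?_ ?_
  · funext d
    simp only [hq1, one_mul, inv_one]
    unfold h14n_chS
    have hna' : a ≠ ng a := ne_ng a
    by_cases hd1 : d = ng a
    · subst hd1
      simp [Function.update_apply, hna, hna']
    · by_cases hd2 : d = a
      · subst hd2
        simp [Function.update_apply, hna, hna']
      · simp [Function.update_apply, hd1, hd2]
  · simp only [hs1]
    rw [hN.map_neg, hN.map_mul, hN.map_mul, hN.invol, hN.map_inv, hN.map_neg, hN.map_one]
    field_simp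

/-! ### the long torus commutes with the short torus elements -/

omit [Fintype ι] [Finite K] in
theorem h14n_HD_conj_WS (hN : IsNrm Q0 σ) (CS : WCalcS X XS) (a' c' : ι ⊕ ι) (h1 : c' ≠ a')
    (h2 : c' ≠ ng a') (s : K) (hs : s ≠ 0) (a : ι ⊕ ι) (u : L) :
    HD X a' c' s * WS σ XS a u * (HD X a' c' s)⁻¹ = WS σ XS a (chD a' c' s a • u) := by
  rw [WS_eq, WS_eq]
  have e : HD X a' c' s * (XS a u * XS (ng a) (-σ (-u⁻¹)) * XS a u) * (HD X a' c' s)⁻¹ =
      (HD X a' c' s * XS a u * (HD X a' c' s)⁻¹) *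
        (HD X a' c' s * XS (ng a) (-σ (-u⁻¹)) * (HD X a' c' s)⁻¹) *
        (HD X a' c' s * XS a u * (HD X a' c' s)⁻¹) := by group
  rw [e, CS.hd_conjS a' c' h1 h2 s hs, CS.hd_conjS a' c' h1 h2 s hs, h99_chD_ng a' c' a h1 h2 s]
  congr 3
  rw [hN.map_neg, neg_neg, hN.map_neg, neg_neg, Algebra.smul_def, Algebra.smul_def, mul_inv,
    hN.map_mul, ← map_inv₀, hN.fix]

theorem h14n_HD_comm_HS (hN : IsNrm Q0 σ) (h : BSt Q0 σ X XS) (CS : WCalcS X XS) (a' c' : ι ⊕ ι)
    (h1 : c' ≠ a') (h2 : c' ≠ ng a') (s : K) (hs : s ≠ 0) (a : ι ⊕ ι) (w : L) (hw : w ≠ 0) :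
    Commute (HD X a' c' s) (HS σ XS a w) := by
  have hχ : chD a' c' s a ≠ 0 := by
    unfold chD
    split_ifs
    · exact hs
    · exact inv_ne_zero hs
    · exact one_ne_zero
  have hχL : algebraMap K L (chD a' c' s a) ≠ 0 := by
    rw [Ne, map_eq_zero]
    exact hχ
  have e1 : HD X a' c' s * HS σ XS a w * (HD X a' c' s)⁻¹ = HS σ XS a w := by
    have e : HD X a' c' s * HS σ XS a w * (HD X a' c' s)⁻¹ =
        (HD X a' c' s * WS σ XS a w * (HD X a' c' s)⁻¹) *
          (HD X a' c' s * WS σ XS a 1 * (HD X a' c' s)⁻¹)⁻¹ := by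
      unfold HS
      group
    rw [e, h14n_HD_conj_WS hN CS a' c' h1 h2 s hs, h14n_HD_conj_WS hN CS a' c' h1 h2 s hs,
      WS_mul_inv h a _ _ (by rw [Algebra.smul_def]; exact mul_ne_zero hχL hw)
        (by rw [Algebra.smul_def]; exact mul_ne_zero hχL one_ne_zero)]
    congr 1
    rw [Algebra.smul_def, Algebra.smul_def, mul_one]
    field_simp
  show _ * _ = _ * _
  rw [mul_inv_eq_iff_eq_mul] at e1
  exact e1

theorem h14n_Ts_comm_HS (hN : IsNrm Q0 σ) (h : BSt Q0 σ X XS) (CS : WCalcS X XS) (a : ι ⊕ ι)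
    (w : L) (hw : w ≠ 0) {t : G} (ht : t ∈ Ts X) : Commute t (HS σ XS a w) := by
  unfold Ts at ht
  induction ht using Subgroup.closure_induction with
  | mem x hx =>
    obtain ⟨a', c', s, h1, h2, hs, rfl⟩ := hx
    exact h14n_HD_comm_HS hN h CS a' c' h1 h2 s hs a w hw
  | one => exact Commute.one_left _
  | mul x y _ _ hx hy => exact hx.mul_left hy
  | inv x _ hx => exact hx.inv_left

/-! ### the characters -/

omit [Fintype ι] [Finite K] in
theorem h14n_key (a e : ι ⊕ ι) (hea : e ≠ a) (hea' : e ≠ ng a) (mu : K) (hmu : mu ≠ 0)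
    (d : ι ⊕ ι) :
    chD a e mu⁻¹ d * chD a (ng e) mu⁻¹ d * h14n_chS a (mu * mu) d = 1 := by
  have hna : ng a ≠ a := (ne_ng a).symm
  have hne : ng e ≠ e := (ne_ng e).symm
  have h1 : ng e ≠ a := fun H => hea' (by rw [← H, ng_ng])
  have h2 : ng e ≠ ng a := fun H => hea (ng_injective H)
  have h3 : a ≠ e := fun H => hea H.symm
  have h4 : ng a ≠ e := fun H => hea' H.symm
  have h5 : ng a ≠ ng e := fun H => h2 H.symm
  have h6 : a ≠ ng e := fun H => h1 H.symm
  unfold chD h14n_chS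
  rw [ng_ng]
  by_cases hd1 : d = a
  · subst hd1
    simp [hna, hna.symm, h3, h6]
    field_simp
  by_cases hd2 : d = ng a
  · subst hd2
    simp [hna, h4, h5]
    field_simp
  by_cases hd3 : d = e
  · subst hd3
    simp [hea, hea', hne, hne.symm]
    field_simp
  by_cases hd4 : d = ng e
  · subst hd4
    simp [h1, h2, hne, hne.symm]
    field_simp
  simp [hd1, hd2, hd3, hd4]

end h14n

/-! ## NEGWORD_MINUS -/

section pres

variable {ι : Type*} [Fintype ι] [DecidableEq ι] {K : Type*} [Field K] [Finite K]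
  {L : Type*} [Field L] [Algebra K L] [Finite L] {Q0 : QuadraticForm K L} {σ : L → L}
  {G : Type*} [Group G] {X : ι ⊕ ι → ι ⊕ ι → K → G} {XS : ι ⊕ ι → L → G}

/-- NEGWORD_MINUS : the word for `-1` with square `z` -/
theorem exists_neg_minus (hσ : IsNrm Q0 σ) (h : BSt Q0 σ X XS)
    (hgen : Subgroup.closure ({g | ∃ a c t, g = X a c t} ∪ {g | ∃ a v, g = XS a v}) = ⊤)
    (ρ : G →* Module.End K ((ι ⊕ ι → K) × L)) (hρ : IsActB Q0 X XS ρ)
    (hev : Even (Fintype.card ι)) (h3 : 3 ≤ Fintype.card ι) (lam : L) (hlam : lam ≠ 0)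
    (hs : σ lam = -lam) (mu : K) (hmu : mu * mu = Q0 lam) (z : G) (hz : ∀ a, zS σ XS a = z)
    (hk : ∀ g, ρ g = 1 → g = 1 ∨ g = z) :
    ∃ c : G, ρ c = -1 ∧ c * c = z := by
  have hD : DSt X := { toDStAB := h.long, rank1 := h.rank1 }
  have C : WCalcD X := wCalcD_of_dSt hD
  have CS : WCalcS X XS := h78_wCalcS_aux hD (wcjS_out h.toBStAB) (wcjS_1 h.toBStAB) (wcjS_2 h.toBStAB)
    (wcjS_3 h.toBStAB) (wcjS_4 h.toBStAB)
  -- two indices
  have hcard : 1 < Fintype.card ι := by omega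
  obtain ⟨k₀, k₁, hk01⟩ := Fintype.exists_pair_of_one_lt_card hcard
  set a : ι ⊕ ι := Sum.inl k₀ with ha
  set e : ι ⊕ ι := Sum.inl k₁ with he
  have hea : e ≠ a := fun H => hk01 (Sum.inl.inj H).symm
  have hea' : e ≠ ng a := by rw [ha, he, ng_inl]; exact fun H => by cases H
  have hnea : ng e ≠ a := fun H => hea' (by rw [← H, ng_ng])
  have hnea' : ng e ≠ ng a := fun H => hea (ng_injective H)
  -- the scalars
  have hq : Q0 lam ≠ 0 := hσ.nrm_ne_zero hlam
  have hmu0 : mu ≠ 0 := by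
    intro H
    rw [H, mul_zero] at hmu
    exact hq hmu.symm
  have hmi : mu⁻¹ ≠ 0 := inv_ne_zero hmu0
  set m : L := algebraMap K L mu with hm
  have hm0 : m ≠ 0 := by
    rw [hm, Ne, map_eq_zero]
    exact hmu0
  have hm1 : (-1 : L) ≠ 0 := neg_ne_zero.mpr one_ne_zero
  have hll : lam * lam = (-1) * (m * m) := by
    have e1 := hσ.nrm lam
    rw [← hmu, map_mul, hs] at e1
    rw [hm, e1]
    ring
  -- the three parts of the word
  obtain ⟨n, hn⟩ := hev
  obtain ⟨c1, hc1T, hc12, hc1d⟩ := h14n_even_word C ρ hρ n (Finset.univ : Finset ι)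
    (by rw [Finset.card_univ, hn]; ring)
  set h2 : G := HD X a e mu⁻¹ * HD X a (ng e) mu⁻¹ with hh2
  have hh2T : h2 ∈ Ts X :=
    (Ts X).mul_mem (HD_mem_Ts _ _ _ hea hea' hmi) (HD_mem_Ts _ _ _ hnea hnea' hmi)
  have dh2 : h14n_Diag ρ h2 (fun d => chD a e mu⁻¹ d * chD a (ng e) mu⁻¹ d) (1 * 1) :=
    h14n_diag_mul (h14n_diag_HD ρ hρ a e hea hea' mu⁻¹ hmi)
      (h14n_diag_HD ρ hρ a (ng e) hnea hnea' mu⁻¹ hmi)
  set hsl : G := HS σ XS a lam with hhsl
  set hsm : G := HS σ XS a m with hhsm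
  have dhsl := h14n_diag_HS hσ h ρ hρ a lam hlam
  have dhsm := h14n_diag_HS hσ h ρ hρ a m hm0
  -- the element `x = h2 * hsm` acts trivially
  have hx1 : ρ (h2 * hsm) = 1 := by
    apply h14n_diag_one (h14n_diag_mul dh2 dhsm)
    · intro d
      rw [hm, h14n_Q0_algebraMap hσ]
      exact h14n_key a e hea hea' mu hmu0 d
    · rw [hm, hσ.fix, one_mul, one_mul, mul_inv_cancel₀ hm0]
  -- the word acts as `-1`
  have hc : ρ (c1 * h2 * hsl) = -1 := by
    apply h14n_diag_neg (h14n_diag_mul (h14n_diag_mul hc1d dh2) dhsl)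
    · intro d
      have e1 : h53_sg K (Finset.univ : Finset ι) d = -1 := by simp [h53_sg]
      have e2 := h14n_key a e hea hea' mu hmu0 d
      rw [hmu] at e2
      show h53_sg K (Finset.univ : Finset ι) d * (chD a e mu⁻¹ d * chD a (ng e) mu⁻¹ d) *
        h14n_chS a (Q0 lam) d = -1
      rw [e1, mul_assoc, e2]
      ring
    · rw [hs, one_mul, one_mul, one_mul, inv_neg, mul_neg, mul_inv_cancel₀ hlam]
  refine ⟨c1 * h2 * hsl, hc, ?_⟩
  -- the square
  have hzz : z = HS σ XS a (-1) := (hz a).symm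
  have hz2 : z * z = 1 := by
    rw [hzz, HS_mul h a _ _ hm1 hm1, neg_mul_neg, one_mul, HS_one h]
  have hx2 : (h2 * hsm) * (h2 * hsm) = 1 := by
    rcases hk _ hx1 with H | H
    · rw [H, one_mul]
    · rw [H, hz2]
  have k1 : Commute c1 h2 := Ts_comm C hc1T hh2T
  have k2 : Commute (c1 * h2) hsl :=
    h14n_Ts_comm_HS hσ h CS a lam hlam ((Ts X).mul_mem hc1T hh2T)
  have k3 : Commute h2 hsm := h14n_Ts_comm_HS hσ h CS a m hm0 hh2T
  have k4 : Commute h2 z := by
    rw [hzz]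
    exact h14n_Ts_comm_HS hσ h CS a (-1) hm1 hh2T
  have e1 : hsl * hsl = z * (hsm * hsm) := by
    rw [hhsl, HS_mul h a _ _ hlam hlam, hll, ← HS_mul h a _ _ hm1 (mul_ne_zero hm0 hm0),
      ← HS_mul h a _ _ hm0 hm0, ← hzz]
  have e2 : (c1 * h2) * (c1 * h2) = h2 * h2 := by
    calc (c1 * h2) * (c1 * h2) = c1 * (h2 * c1) * h2 := by group
      _ = c1 * (c1 * h2) * h2 := by rw [k1.eq]
      _ = (c1 * c1) * (h2 * h2) := by group
      _ = h2 * h2 := by rw [hc12, one_mul]
  calc c1 * h2 * hsl * (c1 * h2 * hsl) = (c1 * h2) * (hsl * (c1 * h2)) * hsl := by group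
    _ = (c1 * h2) * ((c1 * h2) * hsl) * hsl := by rw [k2.eq]
    _ = ((c1 * h2) * (c1 * h2)) * (hsl * hsl) := by group
    _ = (h2 * h2) * (z * (hsm * hsm)) := by rw [e1, e2]
    _ = h2 * (h2 * z) * (hsm * hsm) := by group
    _ = h2 * (z * h2) * (hsm * hsm) := by rw [k4.eq]
    _ = (h2 * z) * (h2 * hsm) * hsm := by group
    _ = (z * h2) * (hsm * h2) * hsm := by rw [k4.eq, k3.eq]
    _ = z * (h2 * hsm) * (h2 * hsm) := by group
    _ = z := by rw [mul_assoc, hx2, mul_one]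

end pres

end Cfsg.Agent.Lib.Helper66_S94
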