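import Mathlib
import Cfsg.Prelude.Def_Classical
import Cfsg.Agent.Lib.Helper74_S94Defs

set_option autoImplicit false

/-!
The interface between the MODEL block and the FINAL assembly of S2094 / S2099 (helper66): a model of the
Steinberg relations of type `B` / `²D` inside `Ω(Q)`, for a quadratic function `Q` on `F^κ` isometric to
`qB Q0` on `F^(ι ⊕ ι) × V0`.
-/

namespace Cfsg.Agent.Lib.Helper66_S94

open Cfsg.Agent.Lib.Helper66_S92 Cfsg.Agent.Lib.Helper66_S96 Cfsg.Agent.Lib.Helper74_S94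

/-- `Ω(Q)` acts faithfully on `F^(ι ⊕ ι) × V0`, contains root elements `XO a c t`, `XSO a v` acting as in the
model of `Helper74_S94Defs` and generating it, and its centre consists of the elements acting as `±1` -/
structure IsModelB {κ : Type} [Fintype κ] [DecidableEq κ] {F : Type*} [Field F] (Q : (κ → F) → F)
    {ι : Type*} [DecidableEq ι] {V0 : Type*} [AddCommGroup V0] [Module F V0] (Q0 : QuadraticForm F V0)
    (act : ↥(Cfsg.Omega F Q) →* Module.End F ((ι ⊕ ι → F) × V0))
    (XO : ι ⊕ ι → ι ⊕ ι → F → ↥(Cfsg.Omega F Q)) (XSO : ι ⊕ ι → V0 → ↥(Cfsg.Omega F Q)) : Prop where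
  inj : Function.Injective act
  isAct : IsActB Q0 XO XSO act
  gen : Subgroup.closure ({g | ∃ a c t, g = XO a c t} ∪ {g | ∃ a v, g = XSO a v}) = ⊤
  center : ∀ g, g ∈ Subgroup.center ↥(Cfsg.Omega F Q) ↔ (act g = 1 ∨ act g = -1)

end Cfsg.Agent.Lib.Helper66_S94
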