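import Mathlib
import Cfsg.Agent.Lib.Helper66_S94ModelDefs
import Cfsg.Agent.Lib.Helper68_StOoDefs

set_option autoImplicit false
set_option linter.unusedVariables false
set_option linter.unusedSectionVars false

/-!
The model of the Steinberg relations of type `B_m` inside `Ω_{2m+1}(F)` (helper66, S2094), in the vocabulary
of `Helper68_StOoDefs`: the action on `F^(Fin m ⊕ Fin m) × F` and the root elements.
-/

namespace Cfsg.Agent.Lib.Helper66_S94

open Matrix Cfsg.Agent.Lib.Helper66_S92 Cfsg.Agent.Lib.Helper66_S96 Cfsg.Agent.Lib.Helper74_S94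
  Cfsg.Agent.Lib.Helper68_StOoDefs

section odd

variable (m : ℕ) (F : Type*) [Field F]

/-- the identification of `F^(Unit ⊕ (Fin m ⊕ Fin m))` with `F^(Fin m ⊕ Fin m) × F` -/
def thO : (I m → F) ≃ₗ[F] (Fin m ⊕ Fin m → F) × F where
  toFun v := (fun d => v (Sum.inr d), v (Sum.inl ()))
  invFun x := Sum.elim (fun _ => x.2) x.1
  map_add' v w := rfl
  map_smul' c v := rfl
  left_inv v := by
    funext d
    rcases d with d | d <;> rfl
  right_inv x := rfl

/-- the action of `Ω_{2m+1}(F)` on `F^(Fin m ⊕ Fin m) × F` -/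
noncomputable def actOdd : GO m F →* Module.End F ((Fin m ⊕ Fin m → F) × F) where
  toFun g := (thO m F).conj (Matrix.toLin' (φ m F g))
  map_one' := by
    rw [map_one, Matrix.toLin'_one]
    ext x <;> simp [LinearEquiv.conj_apply]
  map_mul' g h := by
    rw [map_mul, Matrix.toLin'_mul]
    exact LinearEquiv.conj_comp _ _ _

theorem actOdd_apply (g : GO m F) (x : (Fin m ⊕ Fin m → F) × F) :
    actOdd m F g x = thO m F (φ m F g *ᵥ (thO m F).symm x) := rfl

theorem actOdd_injective : Function.Injective (actOdd m F) := by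
  intro g h hgh
  apply φ_injective
  have h1 : (thO m F).conj (Matrix.toLin' (φ m F g)) = (thO m F).conj (Matrix.toLin' (φ m F h)) :=
    hgh
  exact Matrix.toLin'.injective ((thO m F).conj.injective h1)

variable {m F}

/-- the long root elements of the model: `XOo a c t = lx (inr a) (inr (ng c)) t`, with matrix
`1 + t E_{a, ng c} - t E_{c, ng a}` -/
noncomputable def XOo [Fintype F] [NeZero (2 : F)] (a c : Fin m ⊕ Fin m) (t : F) : GO m F :=
  if c = a ∨ c = ng a then 1 else lx (Sum.inr a) (Sum.inr (ng c)) t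

/-- the short root elements of the model: `XSOo a v = sx (inr a) (-v)` -/
noncomputable def XSOo [Fintype F] [NeZero (2 : F)] (a : Fin m ⊕ Fin m) (v : F) : GO m F :=
  sx (Sum.inr a) (-v)

end odd

end Cfsg.Agent.Lib.Helper66_S94
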