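import Mathlib
import Cfsg.Agent.Lib.Helper68_StOoDefs

/-!
# S2547 market (architect helper68), package GENB

Every non-zero singular vector of the odd-dimensional orthogonal space is `b (α e_a)` with `b` in the Borel
subgroup `Boo` of `Ω_{2m+1}(F)` and `a ≠ z0`.  Proof: `a` = the index of maximal height in the support; the other
coordinates are killed one at a time by upper triangular root elements (`lx c a t`, then `sx (op a) t`), the last
one vanishes because the vector is singular.
-/

set_option autoImplicit false
set_option linter.unusedSectionVars false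
set_option linter.unusedSimpArgs false

namespace Cfsg.Agent.Lib.Helper88_StOo_GENB

open Matrix Cfsg.Agent.Lib.Helper68_MatGrp Cfsg.Agent.Lib.Helper68_StOoDefs

variable {m : ℕ} {F : Type*} [Field F] [Fintype F] [NeZero (2 : F)]

/-- long root elements `x_{ε_p - ε_r}` with `ht p < ht r` are upper triangular -/
theorem lx_mem_Boo_of_ht {p r : I m} (h : LxOK p r) (hlt : ht m p < ht m r) (t : F) :
    lx p r t ∈ Boo m F := by
  rw [mem_Boo]
  intro a b hab
  rw [lx_val h]
  unfold lxM
  have hab' : a ≠ b := fun h => by rw [h] at hab; exact lt_irrefl _ hab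
  rw [Matrix.sub_apply, Matrix.add_apply, Matrix.one_apply_ne hab', Matrix.single_apply,
    Matrix.single_apply, if_neg, if_neg]
  · simp
  · rintro ⟨h1, h2⟩
    rw [← h1, ← h2, ht_op, ht_op] at hab
    have := ht_le r
    omega
  · rintro ⟨h1, h2⟩
    rw [← h1, ← h2] at hab
    omega

/-- short root elements `x_{ε_p}` with `ht p < m` are upper triangular -/
theorem sx_mem_Boo_of_ht {p : I m} (hp : p ≠ z0) (hlt : ht m p < m) (t : F) :
    sx p t ∈ Boo m F := by
  rw [mem_Boo]
  intro a b hab
  rw [sx_val hp]
  unfold sxM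
  have hab' : a ≠ b := fun h => by rw [h] at hab; exact lt_irrefl _ hab
  rw [Matrix.sub_apply, Matrix.sub_apply, Matrix.add_apply, Matrix.one_apply_ne hab',
    Matrix.single_apply, Matrix.single_apply, Matrix.single_apply, if_neg, if_neg, if_neg]
  · simp
  · rintro ⟨h1, h2⟩
    rw [← h1, ← h2, ht_op] at hab
    omega
  · rintro ⟨h1, h2⟩
    rw [← h1, ← h2, ht_z0] at hab
    omega
  · rintro ⟨h1, h2⟩
    rw [← h1, ← h2, ht_op, ht_z0] at hab
    omega

theorem lxM_mulVec (p r : I m) (t : F) (w : I m → F) :
    (lxM p r t : Matrix (I m) (I m) F) *ᵥ w =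
      w + Pi.single p (t * w r) - Pi.single (op r) (t * w (op p)) := by
  unfold lxM
  rw [Matrix.sub_mulVec, Matrix.add_mulVec, Matrix.one_mulVec, Matrix.single_mulVec,
    Matrix.single_mulVec]
  rfl

theorem sxM_mulVec (p : I m) (t : F) (w : I m → F) :
    (sxM p t : Matrix (I m) (I m) F) *ᵥ w =
      w + Pi.single z0 (t * w (op p)) - Pi.single p (2 * t * w z0) -
        Pi.single p (t ^ 2 * w (op p)) := by
  unfold sxM
  rw [Matrix.sub_mulVec, Matrix.sub_mulVec, Matrix.add_mulVec, Matrix.one_mulVec,
    Matrix.single_mulVec, Matrix.single_mulVec, Matrix.single_mulVec]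
  rfl

/-- the target property -/
def P (w : I m → F) : Prop :=
  ∃ b ∈ Boo m F, ∃ a : I m, a ≠ z0 ∧ ∃ α : F, φ m F b *ᵥ (Pi.single a α) = w

theorem P_of_step (x : GO m F) (hx : x ∈ Boo m F) (w : I m → F) (h : P (φ m F x *ᵥ w)) : P w := by
  obtain ⟨b, hb, a, ha, α, e⟩ := h
  refine ⟨x⁻¹ * b, mul_mem (inv_mem hx) hb, a, ha, α, ?_⟩
  rw [map_mul, ← Matrix.mulVec_mulVec, e, Matrix.mulVec_mulVec, ← map_mul, inv_mul_cancel, map_one,
    Matrix.one_mulVec]

theorem Q_step (x : GO m F) (w : I m → F) :
    Cfsg.quadFormOdd m F (φ m F x *ᵥ w) = Cfsg.quadFormOdd m F w :=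
  quadFormOdd_mulVec _ (φO_gram x.1) w

theorem op_ne_self {a : I m} (ha : a ≠ z0) : op a ≠ a := fun e => ha (op_eq_self_iff.mp e)

/-- the quadratic form of a vector supported on `{a, op a}` -/
theorem Q_of_supp {a : I m} (ha : a ≠ z0) (w : I m → F)
    (hs : ∀ c, w c ≠ 0 → c = a ∨ c = op a) :
    Cfsg.quadFormOdd m F w = w a * w (op a) := by
  have hz : w (Sum.inl ()) = 0 := by
    by_contra h
    rcases hs _ h with e | e
    · exact ha e.symm
    · exact ha (op_eq_z0_iff.mp e.symm)
  have key : ∀ i : Fin m, (a = ie i ∨ a = jf i) →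
      Cfsg.quadFormOdd m F w = w (ie i) * w (jf i) := by
    intro i hi
    unfold Cfsg.quadFormOdd
    rw [hz, Finset.sum_eq_single i]
    · show (0 : F) ^ 2 + w (ie i) * w (jf i) = _
      ring
    · intro k _ hk
      have : w (Sum.inr (Sum.inl k)) = 0 := by
        by_contra h
        rcases hi with rfl | rfl
        · rcases hs _ h with e | e
          · exact hk (ie_injective e)
          · exact ie_ne_jf k i e
        · rcases hs _ h with e | e
          · exact ie_ne_jf k i e
          · exact hk (ie_injective e)
      rw [this, zero_mul]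
    · intro h; exact absurd (Finset.mem_univ _) h
  rcases index_cases a with h | ⟨i, rfl⟩ | ⟨i, rfl⟩
  · exact absurd h ha
  · rw [key i (Or.inl rfl), op_ie]
  · rw [key i (Or.inr rfl), op_jf, mul_comm]

/-- base case: support in `{a, op a}` -/
theorem base0 {a : I m} (ha : a ≠ z0) (w : I m → F) (hwa : w a ≠ 0)
    (hQ : Cfsg.quadFormOdd m F w = 0) (hs : ∀ c, w c ≠ 0 → c = a ∨ c = op a) : P w := by
  rw [Q_of_supp ha w hs] at hQ
  have h0 : w (op a) = 0 := by
    rcases mul_eq_zero.mp hQ with h | h
    · exact absurd h hwa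
    · exact h
  refine ⟨1, one_mem _, a, ha, w a, ?_⟩
  rw [map_one, Matrix.one_mulVec]
  ext c
  rw [Pi.single_apply]
  split_ifs with h
  · rw [h]
  · by_contra hc
    rcases hs c (Ne.symm hc) with e | e
    · exact h e
    · rw [e] at hc; exact hc h0.symm

/-- base case: support in `{a, op a, z0}` -/
theorem base1 {a : I m} (ha : a ≠ z0) (w : I m → F) (hwa : w a ≠ 0)
    (htop : ∀ x, ht m a < ht m x → w x = 0)
    (hQ : Cfsg.quadFormOdd m F w = 0) (hs : ∀ c, w c ≠ 0 → c = a ∨ c = op a ∨ c = z0) : P w := by
  by_cases hz : w z0 = 0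
  · refine base0 ha w hwa hQ fun c hc => ?_
    rcases hs c hc with e | e | e
    · exact Or.inl e
    · exact Or.inr e
    · rw [e] at hc; exact absurd hz hc
  · -- `m < ht a`
    have h1 : ¬ ht m a < ht m (z0 : I m) := fun h => hz (htop z0 h)
    have h2 : ht m a ≠ ht m (z0 : I m) := fun h => ha (ht_injective m h)
    rw [ht_z0] at h1 h2
    have hop : op a ≠ z0 := fun e => ha (op_eq_z0_iff.mp e)
    have hopa : op a ≠ a := op_ne_self ha
    have hlt : ht m (op a) < m := by rw [ht_op]; have := ht_le a; omega
    set t : F := -(w z0 / w a) with htdef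
    have hx : sx (op a) t ∈ Boo m F := sx_mem_Boo_of_ht hop hlt t
    apply P_of_step _ hx
    have hw' : φ m F (sx (op a) t) *ᵥ w =
        w + Pi.single z0 (t * w a) - Pi.single (op a) (2 * t * w z0) -
          Pi.single (op a) (t ^ 2 * w a) := by
      rw [sx_val hop, sxM_mulVec, op_op]
    have hQ' := Q_step (sx (op a) t) w
    rw [hQ] at hQ'
    rw [hw'] at hQ' ⊢
    have hval : ∀ c, c ≠ op a →
        (w + Pi.single z0 (t * w a) - Pi.single (op a) (2 * t * w z0) -
          Pi.single (op a) (t ^ 2 * w a) : I m → F) c = if c = z0 then 0 else w c := by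
      intro c hc
      simp only [Pi.add_apply, Pi.sub_apply, Pi.single_apply, if_neg hc, sub_zero]
      split_ifs with h
      · rw [h, htdef]; field_simp; ring
      · rw [add_zero]
    refine base0 ha _ ?_ hQ' ?_
    · rw [hval a hopa.symm, if_neg ha]; exact hwa
    · intro c hc
      by_cases hca : c = op a
      · exact Or.inr hca
      · rw [hval c hca] at hc
        split_ifs at hc with h
        · exact absurd rfl hc
        · rcases hs c hc with e | e | e
          · exact Or.inl e
          · exact Or.inr e
          · exact absurd e h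

/-- the induction: kill the coordinates outside `{a, op a, z0}` one at a time -/
theorem main {a : I m} (ha : a ≠ z0) (s : Finset (I m)) :
    ∀ w : I m → F, w a ≠ 0 → (∀ x, ht m a < ht m x → w x = 0) →
      Cfsg.quadFormOdd m F w = 0 →
      (∀ c, w c ≠ 0 → c = a ∨ c = op a ∨ c = z0 ∨ c ∈ s) → P w := by
  classical
  induction s using Finset.induction_on with
  | empty =>
    intro w hwa htop hQ hs
    refine base1 ha w hwa htop hQ fun c hc => ?_
    rcases hs c hc with e | e | e | e
    · exact Or.inl e
    · exact Or.inr (Or.inl e)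
    · exact Or.inr (Or.inr e)
    · exact absurd e (Finset.notMem_empty c)
  | insert c s hcs ih =>
    intro w hwa htop hQ hs
    by_cases hc : c = a ∨ c = op a ∨ c = z0 ∨ w c = 0
    · refine ih w hwa htop hQ fun c' hc' => ?_
      rcases hs c' hc' with e | e | e | e
      · exact Or.inl e
      · exact Or.inr (Or.inl e)
      · exact Or.inr (Or.inr (Or.inl e))
      · rcases Finset.mem_insert.mp e with e | e
        · rw [e] at hc'
          rcases hc with h | h | h | h
          · exact Or.inl (e.trans h)
          · exact Or.inr (Or.inl (e.trans h))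
          · exact Or.inr (Or.inr (Or.inl (e.trans h)))
          · exact absurd h hc'
        · exact Or.inr (Or.inr (Or.inr e))
    · push Not at hc
      obtain ⟨hca, hcoa, hcz, hwc⟩ := hc
      have hopa : op a ≠ a := op_ne_self ha
      -- `ht c < ht a`
      have h1 : ¬ ht m a < ht m c := fun h => hwc (htop c h)
      have h2 : ht m c ≠ ht m a := fun h => hca (ht_injective m h)
      have hlt : ht m c < ht m a := by omega
      have hok : LxOK c a := ⟨hcz, ha, fun e => hca e.symm, fun e => hcoa (by rw [e, op_op])⟩
      set t : F := -(w c / w a) with htdef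
      have hx : lx c a t ∈ Boo m F := lx_mem_Boo_of_ht hok hlt t
      apply P_of_step _ hx
      have hw' : φ m F (lx c a t) *ᵥ w =
          w + Pi.single c (t * w a) - Pi.single (op a) (t * w (op c)) := by
        rw [lx_val hok, lxM_mulVec]
      have hQ' := Q_step (lx c a t) w
      rw [hQ] at hQ'
      rw [hw'] at hQ' ⊢
      have hval : ∀ y, y ≠ op a →
          (w + Pi.single c (t * w a) - Pi.single (op a) (t * w (op c)) : I m → F) y =
            if y = c then 0 else w y := by
        intro y hy
        simp only [Pi.add_apply, Pi.sub_apply, Pi.single_apply, if_neg hy, sub_zero]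
        split_ifs with h
        · rw [h, htdef]; field_simp; ring
        · rw [add_zero]
      refine ih _ ?_ ?_ hQ' ?_
      · rw [hval a hopa.symm, if_neg (fun e => hca e.symm)]; exact hwa
      · intro y hy
        by_cases hyo : y = op a
        · -- then `w (op c) = 0`
          have h3 : w (op c) = 0 := by
            apply htop
            rw [hyo, ht_op] at hy
            rw [ht_op]
            have := ht_le a
            omega
          simp only [Pi.add_apply, Pi.sub_apply, Pi.single_apply, h3, mul_zero]
          rw [if_neg (fun e => hcoa (e.symm.trans hyo))]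
          simp [htop y hy]
        · rw [hval y hyo]
          split_ifs
          · rfl
          · exact htop y hy
      · intro y hy
        by_cases hyo : y = op a
        · exact Or.inr (Or.inl hyo)
        · rw [hval y hyo] at hy
          split_ifs at hy with h
          · exact absurd rfl hy
          · rcases hs y hy with e | e | e | e
            · exact Or.inl e
            · exact Or.inr (Or.inl e)
            · exact Or.inr (Or.inr (Or.inl e))
            · rcases Finset.mem_insert.mp e with e | e
              · exact absurd e h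
              · exact Or.inr (Or.inr (Or.inr e))

theorem genB (w : I m → F) (hw : w ≠ 0) (hQ : Cfsg.quadFormOdd m F w = 0) :
    ∃ b ∈ Boo m F, ∃ a : I m, a ≠ z0 ∧ ∃ α : F, φ m F b *ᵥ (Pi.single a α) = w := by
  classical
  have hex : ∃ c, w c ≠ 0 := by
    by_contra h
    push Not at h
    exact hw (funext h)
  obtain ⟨a, hwa, htop⟩ : ∃ a, w a ≠ 0 ∧ ∀ x, ht m a < ht m x → w x = 0 := by
    obtain ⟨c0, hc0⟩ := hex
    have hne : (Finset.univ.filter (fun c : I m => w c ≠ 0)).Nonempty :=
      ⟨c0, Finset.mem_filter.mpr ⟨Finset.mem_univ _, hc0⟩⟩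
    obtain ⟨a, ha, hmx⟩ := Finset.exists_max_image _ (fun c : I m => ht m c) hne
    refine ⟨a, (Finset.mem_filter.mp ha).2, fun x hx => ?_⟩
    by_contra hx0
    have := hmx x (Finset.mem_filter.mpr ⟨Finset.mem_univ _, hx0⟩)
    omega
  have ha : a ≠ z0 := by
    intro e
    subst e
    -- all `f`-coordinates vanish, so `Q w = (w z0)^2 ≠ 0`
    have hf : ∀ i : Fin m, w (Sum.inr (Sum.inr i)) = 0 := by
      intro i
      apply htop (jf i)
      rw [ht_z0, ht_jf]
      have := i.2
      omega
    unfold Cfsg.quadFormOdd at hQ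
    rw [Finset.sum_eq_zero (fun i _ => by rw [hf i, mul_zero]), add_zero] at hQ
    exact hwa ((pow_eq_zero_iff (two_ne_zero)).mp hQ)
  exact main ha Finset.univ w hwa htop hQ fun c _ => Or.inr (Or.inr (Or.inr (Finset.mem_univ c)))

end Cfsg.Agent.Lib.Helper88_StOo_GENB
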