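import Mathlib
import Cfsg.Agent.Lib.Helper66_S94OddDefs
import Cfsg.Agent.Lib.Helper88_StOo_GENB

set_option autoImplicit false
set_option linter.unusedVariables false
set_option linter.unusedSectionVars false
set_option linter.unusedSimpArgs false

/-!
# S94 (S2094), package ODD_ACT of helper66's odd model (helper14)

The root elements `XOo`, `XSOo` of `Ω_{2m+1}(F)` act on `F^(Fin m ⊕ Fin m) × F` as in the model of
`Helper74_S94Defs` with `V0 = F`, `Q0 = QuadraticMap.sq`.
-/

namespace Cfsg.Agent.Lib.Helper66_S94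

open Matrix Cfsg.Agent.Lib.Helper66_S92 Cfsg.Agent.Lib.Helper66_S96 Cfsg.Agent.Lib.Helper74_S94
  Cfsg.Agent.Lib.Helper68_StOoDefs

variable {m : ℕ} {F : Type*} [Field F] [Fintype F] [NeZero (2 : F)]

theorem h14o_op_inr (a : Fin m ⊕ Fin m) : op (Sum.inr a : I m) = Sum.inr (ng a) := rfl

theorem h14o_inr_ne_z0 (a : Fin m ⊕ Fin m) : (Sum.inr a : I m) ≠ z0 := by
  intro h
  exact Sum.inr_ne_inl h

theorem h14o_lxOK (a c : Fin m ⊕ Fin m) (h1 : c ≠ a) (h2 : c ≠ ng a) :
    LxOK (Sum.inr a : I m) (Sum.inr (ng c)) := by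
  refine ⟨h14o_inr_ne_z0 a, h14o_inr_ne_z0 _, ?_, ?_⟩
  · intro e
    have e' : ng c = a := Sum.inr_injective e
    exact h2 (by rw [← e', ng_ng])
  · intro e
    rw [h14o_op_inr] at e
    have e' : ng c = ng a := Sum.inr_injective e
    exact h1 (ng_injective e')

theorem h14o_thO_fst (v : I m → F) (d : Fin m ⊕ Fin m) : (thO m F v).1 d = v (Sum.inr d) := rfl

theorem h14o_thO_snd (v : I m → F) : (thO m F v).2 = v (Sum.inl ()) := rfl

theorem h14o_act_long (a c : Fin m ⊕ Fin m) (t : F) (x : (Fin m ⊕ Fin m → F) × F) :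
    actOdd m F (XOo a c t) x = (xactD a c t x.1, x.2) := by
  by_cases hc : c = a ∨ c = ng a
  · have e : XOo (m := m) (F := F) a c t = 1 := by
      unfold XOo
      rw [if_pos hc]
    rw [e, map_one]
    rcases hc with hc | hc
    · subst hc
      unfold xactD
      rw [if_neg (ng_ne c).symm, add_sub_cancel_right]
      rfl
    · unfold xactD
      rw [if_pos hc]
      rfl
  · have h1 : c ≠ a := fun e => hc (Or.inl e)
    have h2 : c ≠ ng a := fun e => hc (Or.inr e)
    have e : XOo (m := m) (F := F) a c t = lx (Sum.inr a) (Sum.inr (ng c)) t := by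
      unfold XOo
      rw [if_neg hc]
    rw [e, actOdd_apply, lx_val (h14o_lxOK a c h1 h2),
      Cfsg.Agent.Lib.Helper88_StOo_GENB.lxM_mulVec, h14o_op_inr, h14o_op_inr, ng_ng]
    unfold xactD
    rw [if_neg h2]
    apply Prod.ext
    · funext d
      rw [h14o_thO_fst]
      have e1 : ∀ d : Fin m ⊕ Fin m, (thO m F).symm x (Sum.inr d) = x.1 d := fun d => rfl
      simp only [Pi.add_apply, Pi.sub_apply, e1, Pi.single_apply, Sum.inr.injEq]
    · rw [h14o_thO_snd]
      have e0 : (thO m F).symm x (Sum.inl ()) = x.2 := rfl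
      simp only [Pi.add_apply, Pi.sub_apply, e0, Pi.single_apply, reduceCtorEq, if_false, add_zero,
        sub_zero]

theorem h14o_act_short (a : Fin m ⊕ Fin m) (v : F) (x : (Fin m ⊕ Fin m → F) × F) :
    actOdd m F (XSOo a v) x = xactS (QuadraticMap.sq (R := F)) a v x := by
  have e : XSOo (m := m) (F := F) a v = sx (Sum.inr a) (-v) := rfl
  rw [e, actOdd_apply, sx_val (h14o_inr_ne_z0 a), Cfsg.Agent.Lib.Helper88_StOo_GENB.sxM_mulVec,
    h14o_op_inr]
  have e1 : ∀ d : Fin m ⊕ Fin m, (thO m F).symm x (Sum.inr d) = x.1 d := fun d => rfl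
  have e0 : (thO m F).symm x (z0 : I m) = x.2 := rfl
  have e0' : (thO m F).symm x (Sum.inl ()) = x.2 := rfl
  have hp : QuadraticMap.polar (QuadraticMap.sq (R := F)) x.2 v = 2 * x.2 * v := by
    unfold QuadraticMap.polar
    simp only [QuadraticMap.sq_apply]
    ring
  unfold xactS
  apply Prod.ext
  · funext d
    rw [h14o_thO_fst]
    rw [hp]
    simp only [Pi.add_apply, Pi.sub_apply, e1, e0, e0', Pi.single_apply, z0, reduceCtorEq, if_false,
      add_zero, Sum.inr.injEq, QuadraticMap.sq_apply]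
    by_cases hd : d = a
    · simp only [hd, if_true]
      ring
    · simp only [hd, if_false]
      ring
  · rw [h14o_thO_snd]
    simp only [Pi.add_apply, Pi.sub_apply, e1, e0', Pi.single_apply, z0, reduceCtorEq, if_false,
      if_true, sub_zero, smul_eq_mul]
    ring

/-- ODD_ACT (M): `lx_val`, `sx_val`, `Helper88_StOo_GENB.lxM_mulVec`, `sxM_mulVec`; `QuadraticMap.sq`,
`polar (sq) x v = 2 * x * v` -/
theorem isActB_odd : IsActB (QuadraticMap.sq (R := F)) (XOo (m := m) (F := F)) XSOo (actOdd m F) where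
  long := h14o_act_long
  short := h14o_act_short

end Cfsg.Agent.Lib.Helper66_S94
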