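import Mathlib
import Cfsg.Agent.Lib.Helper74_S94Calc
import Cfsg.Agent.Lib.Helper14_S96_STEIN

set_option autoImplicit false
set_option linter.unusedVariables false
set_option linter.unusedSectionVars false

/-!
# S94 (S2094 / S2099), package PERF_B of helper66's FINAL block (helper14)

A group generated by a `BStAB` family with at least three indices is perfect: the long root elements are
commutators by the relation `a2`, the short ones by the relation `ls`.
-/

namespace Cfsg.Agent.Lib.Helper66_S94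

open Cfsg.Agent.Lib.Helper5_SteinbergA Cfsg.Agent.Lib.Helper66_S92 Cfsg.Agent.Lib.Helper66_S96
  Cfsg.Agent.Lib.Helper74_S94
open scoped commutatorElement

section pres

variable {ι : Type*} [Fintype ι] [DecidableEq ι] {K : Type*} [Field K] [Finite K]
  {G : Type*} [Group G] {X : ι ⊕ ι → ι ⊕ ι → K → G}

/-- the long root elements are commutators -/
theorem h14p_long_mem {V0 : Type*} [AddCommGroup V0] [Module K V0]
    {Q0 : QuadraticForm K V0} {XS : ι ⊕ ι → V0 → G} (h : BStAB Q0 X XS)
    (h3 : 3 ≤ Fintype.card ι) (a e : ι ⊕ ι) (v : K) : X a e v ∈ commutator G := by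
  by_cases hae : h14_sp a = h14_sp e
  · rw [h14_XS_one h.long hae]
    exact Subgroup.one_mem _
  · obtain ⟨k, hak, hek⟩ := h14_fresh2 h3 a e
    have key := h.long.a2 a k e 1 v (h14_n1 hak) (h14_n2 hak) (h14_n1 hae) (h14_n2 hae)
      (h14_n1 hek.symm) (h14_n2 hek.symm)
    rw [one_mul] at key
    rw [← key, ← commutatorElement_def]
    exact Subgroup.commutator_mem_commutator (Subgroup.mem_top _) (Subgroup.mem_top _)

/-- PERF_B -/
theorem commutator_eq_top_of_bStAB {V0 : Type*} [AddCommGroup V0] [Module K V0]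
    {Q0 : QuadraticForm K V0} {XS : ι ⊕ ι → V0 → G} (h : BStAB Q0 X XS)
    (h3 : 3 ≤ Fintype.card ι)
    (hgen : Subgroup.closure ({g | ∃ a c t, g = X a c t} ∪ {g | ∃ a v, g = XS a v}) = ⊤) :
    commutator G = ⊤ := by
  rw [eq_top_iff, ← hgen, Subgroup.closure_le]
  rintro g (⟨a, e, v, rfl⟩ | ⟨a, v, rfl⟩)
  · exact h14p_long_mem h h3 a e v
  · obtain ⟨c, hac, -⟩ := h14_fresh2 h3 a a
    have key := h.ls a c 1 v (h14_n1 hac.symm) (h14_n2 hac.symm)
    rw [one_smul, one_mul, ← commutatorElement_def] at key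
    have e1 : XS a v = ⁅X a c 1, XS (ng c) v⁆ * (X a (ng c) (Q0 v))⁻¹ := by
      rw [key, mul_inv_cancel_right]
    rw [e1]
    exact Subgroup.mul_mem _
      (Subgroup.commutator_mem_commutator (Subgroup.mem_top _) (Subgroup.mem_top _))
      (Subgroup.inv_mem _ (h14p_long_mem h h3 a (ng c) (Q0 v)))

end pres

end Cfsg.Agent.Lib.Helper66_S94
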