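import Mathlib
import Cfsg.Agent.Lib.Helper74_S94Defs2
import Cfsg.Agent.Lib.Helper66_S96Rank
import Cfsg.Agent.Lib.Helper5_SLPresA

set_option autoImplicit false
set_option linter.unusedVariables false
set_option linter.unusedSectionVars false

/-!
Package B_WSL of the market `s94_packages` (helper74; delivered by helper30): conjugation of the long root
elements `X a c t`, `X (ng a) c t` by the short Weyl element `WSg Q0 XS a w`, generic form (only `BStAB`).
Everything happens in the abelian group `⟨X a c ·, X (ng a) c ·, XS c ·⟩`, parametrised by `h30_F`.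
-/

namespace Cfsg.Agent.Lib.Helper74_S94

open Cfsg.Agent.Lib.Helper5_SteinbergA Cfsg.Agent.Lib.Helper5_SLPresA Cfsg.Agent.Lib.Helper66_StCalc
  Cfsg.Agent.Lib.Helper66_S92 Cfsg.Agent.Lib.Helper66_S96

section generic

variable {ι : Type*} [DecidableEq ι] {K : Type*} [Field K] {V0 : Type*} [AddCommGroup V0]
  [Module K V0] {G : Type*} [Group G] {Q0 : QuadraticForm K V0}
  {X : ι ⊕ ι → ι ⊕ ι → K → G} {XS : ι ⊕ ι → V0 → G}

/-- the element `X a c p * X (ng a) c q * XS c u` of the abelian group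
`⟨X a c ·, X (ng a) c ·, XS c ·⟩` -/
def h30_F (X : ι ⊕ ι → ι ⊕ ι → K → G) (XS : ι ⊕ ι → V0 → G) (a c : ι ⊕ ι) (p q : K) (u : V0) : G :=
  X a c p * X (ng a) c q * XS c u

theorem h30_F_congr (a c : ι ⊕ ι) {p q p' q' : K} {u u' : V0} (hp : p = p') (hq : q = q')
    (hu : u = u') : h30_F X XS a c p q u = h30_F X XS a c p' q' u' := by
  rw [hp, hq, hu]

theorem h30_F_mul (h : BStAB Q0 X XS) (a c : ι ⊕ ι) (h1 : c ≠ a) (h2 : c ≠ ng a)
    (p q p' q' : K) (u u' : V0) :
    h30_F X XS a c p q u * h30_F X XS a c p' q' u' =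
      h30_F X XS a c (p + p') (q + q') (u + u') := by
  unfold h30_F
  have ha : a ≠ ng c := fun e => h2 (by rw [e, ng_ng])
  have ha' : ng a ≠ ng c := fun e => h1 (ng_injective e).symm
  have e1 : XS c u * X a c p' = X a c p' * XS c u := h.scomm c a c u p' ha (ne_ng c)
  have e2 : XS c u * X (ng a) c q' = X (ng a) c q' * XS c u :=
    h.scomm c (ng a) c u q' ha' (ne_ng c)
  have e3 : X (ng a) c q * X a c p' = X a c p' * X (ng a) c q := (h.long.comm2 a c p' q).symm
  calc X a c p * X (ng a) c q * XS c u * (X a c p' * X (ng a) c q' * XS c u')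
      = X a c p * X (ng a) c q * (XS c u * X a c p') * X (ng a) c q' * XS c u' := by group
    _ = X a c p * (X (ng a) c q * X a c p') * (XS c u * X (ng a) c q') * XS c u' := by
        rw [e1]; group
    _ = (X a c p * X a c p') * (X (ng a) c q * X (ng a) c q') * (XS c u * XS c u') := by
        rw [e3, e2]; group
    _ = _ := by rw [h.long.add, h.long.add, h.sadd]

theorem h30_F_X1 (h : BStAB Q0 X XS) (a c : ι ⊕ ι) (p : K) :
    X a c p = h30_F X XS a c p 0 0 := by
  unfold h30_F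
  rw [h.long.X_zero, h.XS_zero, mul_one, mul_one]

theorem h30_F_X2 (h : BStAB Q0 X XS) (a c : ι ⊕ ι) (q : K) :
    X (ng a) c q = h30_F X XS a c 0 q 0 := by
  unfold h30_F
  rw [h.long.X_zero, h.XS_zero, mul_one, one_mul]

theorem h30_F_XS (h : BStAB Q0 X XS) (a c : ι ⊕ ι) (u : V0) :
    XS c u = h30_F X XS a c 0 0 u := by
  unfold h30_F
  rw [h.long.X_zero, h.long.X_zero, one_mul, one_mul]

/-- `XS a v` conjugates `X (ng a) c t` -/
theorem h30_cjB (h : BStAB Q0 X XS) (a c : ι ⊕ ι) (h1 : c ≠ a) (h2 : c ≠ ng a) (v : V0) (t : K) :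
    XS a v * X (ng a) c t * (XS a v)⁻¹ =
      X a c (-(t * Q0 v)) * XS c (t • v) * X (ng a) c t := by
  have k := h.cj_ls' c (ng a) (-t) v (fun e => h2 e.symm)
    (fun e => h1 (ng_injective e).symm)
  rw [ng_ng] at k
  have a1 : X c (ng a) (-t) = X (ng a) c t := by rw [h.long.anti (ng a) c (-t), neg_neg]
  have a2 : X c a (-(-t * Q0 v)) = X a c (-(t * Q0 v)) := by
    rw [h.long.anti a c, neg_mul, neg_neg]
  rw [a1, a2, neg_smul, neg_neg] at k
  exact k

/-- conjugation by `XS a w` in the parametrisation `h30_F` -/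
theorem h30_conjA (h : BStAB Q0 X XS) (a c : ι ⊕ ι) (h1 : c ≠ a) (h2 : c ≠ ng a) (w : V0)
    (p q : K) (u : V0) :
    XS a w * h30_F X XS a c p q u * (XS a w)⁻¹ =
      h30_F X XS a c (p - q * Q0 w - QuadraticMap.polar Q0 w u) q (u + q • w) := by
  have c1 : XS a w * X a c p * (XS a w)⁻¹ = X a c p := h.cj_scomm' a a c w p (ne_ng a) h2
  have c2 := h30_cjB h a c h1 h2 w q
  have c3 := h.cj_ss a c w u h1 h2
  have split : XS a w * h30_F X XS a c p q u * (XS a w)⁻¹ =
      (XS a w * X a c p * (XS a w)⁻¹) * (XS a w * X (ng a) c q * (XS a w)⁻¹) *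
        (XS a w * XS c u * (XS a w)⁻¹) := by
    unfold h30_F; group
  rw [split, c1, c2, c3]
  rw [h30_F_X1 h a c p, h30_F_X1 h a c (-(q * Q0 w)), h30_F_X2 h a c q,
    h30_F_X1 h a c (-(QuadraticMap.polar Q0 w u)), h30_F_XS h a c u, h30_F_XS h a c (q • w)]
  simp only [h30_F_mul h a c h1 h2]
  apply h30_F_congr
  · ring
  · ring
  · abel

/-- conjugation by `XS (ng a) v` in the parametrisation `h30_F` -/
theorem h30_conjB (h : BStAB Q0 X XS) (a c : ι ⊕ ι) (h1 : c ≠ a) (h2 : c ≠ ng a) (v : V0)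
    (p q : K) (u : V0) :
    XS (ng a) v * h30_F X XS a c p q u * (XS (ng a) v)⁻¹ =
      h30_F X XS a c p (q - p * Q0 v - QuadraticMap.polar Q0 v u) (u + p • v) := by
  have h1' : c ≠ ng (ng a) := by rw [ng_ng]; exact h1
  have c1 := h30_cjB h (ng a) c h2 h1' v p
  rw [ng_ng] at c1
  have c2 : XS (ng a) v * X (ng a) c q * (XS (ng a) v)⁻¹ = X (ng a) c q :=
    h.cj_scomm' (ng a) (ng a) c v q (ne_ng (ng a)) h1'
  have c3 := h.cj_ss (ng a) c v u h2 h1'
  have split : XS (ng a) v * h30_F X XS a c p q u * (XS (ng a) v)⁻¹ =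
      (XS (ng a) v * X a c p * (XS (ng a) v)⁻¹) * (XS (ng a) v * X (ng a) c q * (XS (ng a) v)⁻¹) *
        (XS (ng a) v * XS c u * (XS (ng a) v)⁻¹) := by
    unfold h30_F; group
  rw [split, c1, c2, c3]
  rw [h30_F_X1 h a c p, h30_F_X2 h a c (-(p * Q0 v)), h30_F_X2 h a c q,
    h30_F_X2 h a c (-(QuadraticMap.polar Q0 v u)), h30_F_XS h a c u, h30_F_XS h a c (p • v)]
  simp only [h30_F_mul h a c h1 h2]
  apply h30_F_congr
  · ring
  · ring
  · abel

/-- conjugation by the short Weyl element `WSg Q0 XS a w` in the parametrisation `h30_F` -/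
theorem h30_conjW (h : BStAB Q0 X XS) (a c : ι ⊕ ι) (h1 : c ≠ a) (h2 : c ≠ ng a) (w : V0)
    (hw : Q0 w ≠ 0) (p q : K) (u : V0) :
    WSg Q0 XS a w * h30_F X XS a c p q u * (WSg Q0 XS a w)⁻¹ =
      h30_F X XS a c (-(Q0 w * q)) (-((Q0 w)⁻¹ * p))
        (u - ((Q0 w)⁻¹ * QuadraticMap.polar Q0 w u) • w) := by
  unfold WSg
  have split : ∀ g1 g2 x : G, (g1 * g2 * g1) * x * (g1 * g2 * g1)⁻¹ =
      g1 * (g2 * (g1 * x * g1⁻¹) * g2⁻¹) * g1⁻¹ := by
    intros; group
  rw [split, h30_conjA h a c h1 h2, h30_conjB h a c h1 h2, h30_conjA h a c h1 h2]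
  apply h30_F_congr
  · simp only [QuadraticMap.map_smul, QuadraticMap.polar_add_right,
      QuadraticMap.polar_smul_right, QuadraticMap.polar_smul_left, QuadraticMap.polar_self,
      smul_eq_mul]
    field_simp
    ring
  · simp only [QuadraticMap.map_smul, QuadraticMap.polar_add_right,
      QuadraticMap.polar_smul_right, QuadraticMap.polar_smul_left, QuadraticMap.polar_self,
      smul_eq_mul]
    field_simp
    ring
  · simp only [QuadraticMap.map_smul, QuadraticMap.polar_add_right,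
      QuadraticMap.polar_smul_right, QuadraticMap.polar_smul_left, QuadraticMap.polar_self,
      smul_eq_mul]
    match_scalars <;> field_simp
    ring

theorem wsL1 (h : BStAB Q0 X XS) (a c : ι ⊕ ι) (w : V0) (hw : Q0 w ≠ 0) (t : K) (h1 : c ≠ a)
    (h2 : c ≠ ng a) :
    WSg Q0 XS a w * X a c t * (WSg Q0 XS a w)⁻¹ = X (ng a) c (-((Q0 w)⁻¹ * t)) := by
  rw [h30_F_X1 h a c t, h30_conjW h a c h1 h2 w hw, h30_F_X2 h a c]
  apply h30_F_congr
  · rw [mul_zero, neg_zero]
  · rfl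
  · rw [QuadraticMap.polar_zero_right, mul_zero, zero_smul, sub_zero]

theorem wsL2 (h : BStAB Q0 X XS) (a c : ι ⊕ ι) (w : V0) (hw : Q0 w ≠ 0) (t : K) (h1 : c ≠ a)
    (h2 : c ≠ ng a) :
    WSg Q0 XS a w * X (ng a) c t * (WSg Q0 XS a w)⁻¹ = X a c (-(Q0 w * t)) := by
  rw [h30_F_X2 h a c t, h30_conjW h a c h1 h2 w hw, h30_F_X1 h a c]
  apply h30_F_congr
  · rfl
  · rw [mul_zero, neg_zero]
  · rw [QuadraticMap.polar_zero_right, mul_zero, zero_smul, sub_zero]

/-- the statement of `wsS` (package B_WSS), a by-product of `h30_conjW` -/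
theorem h30_wsS (h : BStAB Q0 X XS) (a c : ι ⊕ ι) (w : V0) (hw : Q0 w ≠ 0) (u : V0) (h1 : c ≠ a)
    (h2 : c ≠ ng a) :
    WSg Q0 XS a w * XS c u * (WSg Q0 XS a w)⁻¹ =
      XS c (u - ((Q0 w)⁻¹ * QuadraticMap.polar Q0 w u) • w) := by
  rw [h30_F_XS h a c u, h30_conjW h a c h1 h2 w hw, h30_F_XS h a c]
  apply h30_F_congr
  · rw [mul_zero, neg_zero]
  · rw [mul_zero, neg_zero]
  · rfl

end generic

end Cfsg.Agent.Lib.Helper74_S94
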