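import Mathlib
import Cfsg.Agent.Lib.Helper74_S94Defs2
import Cfsg.Agent.Lib.Helper66_S96Asm
import Cfsg.Agent.Lib.Helper66_S96Rank
import Cfsg.Agent.Lib.Helper5_SLPresA

set_option autoImplicit false
set_option linter.unusedVariables false
set_option linter.unusedSectionVars false

/-!
Market `s94_packages` (helper74, PRES block of S2094 / S2099), package B_WSS: conjugation of the short root elements
`XS c u` (`c ≠ a, ng a`) by the short Weyl element `WSg Q0 XS a w` is the reflection in `w` on the parameter.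

Everything happens in the abelian group `⟨X c a ·, X c (ng a) ·, XS c ·⟩`, parametrised by
`φ (s, r, v) = X c a s * X c (ng a) r * XS c v`.
-/

namespace Cfsg.Agent.Lib.Helper74_S94

open Cfsg.Agent.Lib.Helper5_SteinbergA Cfsg.Agent.Lib.Helper5_SLPresA Cfsg.Agent.Lib.Helper66_StCalc
  Cfsg.Agent.Lib.Helper66_S92 Cfsg.Agent.Lib.Helper66_S96

section generic

variable {ι : Type*} [DecidableEq ι] {K : Type*} [Field K] {V0 : Type*} [AddCommGroup V0]
  [Module K V0] {G : Type*} [Group G] {Q0 : QuadraticForm K V0}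
  {X : ι ⊕ ι → ι ⊕ ι → K → G} {XS : ι ⊕ ι → V0 → G}

/-- rearranging a product of two triples of pairwise commuting elements -/
theorem h69_triple (p1 r1 s1 p2 r2 s2 : G) (h1 : Commute s1 p2) (h2 : Commute r1 p2)
    (h3 : Commute s1 r2) :
    p1 * r1 * s1 * (p2 * r2 * s2) = (p1 * p2) * (r1 * r2) * (s1 * s2) := by
  calc p1 * r1 * s1 * (p2 * r2 * s2) = p1 * r1 * (s1 * p2) * r2 * s2 := by group
    _ = p1 * r1 * (p2 * s1) * r2 * s2 := by rw [h1.eq]
    _ = p1 * (r1 * p2) * (s1 * r2) * s2 := by group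
    _ = p1 * (p2 * r1) * (r2 * s1) * s2 := by rw [h2.eq, h3.eq]
    _ = (p1 * p2) * (r1 * r2) * (s1 * s2) := by group

theorem wsS (h : BStAB Q0 X XS) (a c : ι ⊕ ι) (w : V0) (hw : Q0 w ≠ 0) (u : V0) (h1 : c ≠ a)
    (h2 : c ≠ ng a) :
    WSg Q0 XS a w * XS c u * (WSg Q0 XS a w)⁻¹ =
      XS c (u - ((Q0 w)⁻¹ * QuadraticMap.polar Q0 w u) • w) := by
  -- index facts
  have hca' : a ≠ ng c := fun e => h2 (by rw [e, ng_ng])
  have hnn : ng a ≠ ng c := fun e => h1 (ng_injective e).symm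
  -- the parametrisation of the abelian group
  obtain ⟨φ, hφ⟩ : ∃ φ : K × K × V0 → G,
      ∀ x, φ x = X c a x.1 * X c (ng a) x.2.1 * XS c x.2.2 := ⟨_, fun _ => rfl⟩
  have cPR : ∀ s r : K, Commute (X c (ng a) r) (X c a s) := by
    intro s r
    have := h.long.comm2 a c (-s) (-r)
    rw [← h.long.anti a c s, ← h.long.anti (ng a) c r] at this
    exact this.symm
  have cSP : ∀ (v : V0) (s : K), Commute (XS c v) (X c a s) :=
    fun v s => h.scomm c c a v s (ne_ng c) hca'
  have cSR : ∀ (v : V0) (r : K), Commute (XS c v) (X c (ng a) r) :=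
    fun v r => h.scomm c c (ng a) v r (ne_ng c) hnn
  have hadd : ∀ x y, φ x * φ y = φ (x + y) := by
    intro x y
    rw [hφ, hφ, hφ, h69_triple _ _ _ _ _ _ (cSP _ _) (cPR _ _) (cSR _ _), h.long.add, h.long.add,
      h.sadd]
    rfl
  have hP : ∀ s : K, X c a s = φ (s, 0, 0) := by
    intro s
    rw [hφ]
    show X c a s = X c a s * X c (ng a) 0 * XS c 0
    rw [h.long.X_zero, h.XS_zero, mul_one, mul_one]
  have hR : ∀ r : K, X c (ng a) r = φ (0, r, 0) := by
    intro r
    rw [hφ]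
    show X c (ng a) r = X c a 0 * X c (ng a) r * XS c 0
    rw [h.long.X_zero, h.XS_zero, mul_one, one_mul]
  have hS : ∀ v : V0, XS c v = φ (0, 0, v) := by
    intro v
    rw [hφ]
    show XS c v = X c a 0 * X c (ng a) 0 * XS c v
    rw [h.long.X_zero, h.long.X_zero, one_mul, one_mul]
  -- conjugation by `XS (ng a) v`
  have cjB : ∀ (v : V0) (x : K × K × V0), XS (ng a) v * φ x * (XS (ng a) v)⁻¹ =
      φ (x.1, -(x.1 * Q0 v) + x.2.1 + QuadraticMap.polar Q0 v x.2.2, -(x.1 • v) + x.2.2) := by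
    intro v x
    have e1 : XS (ng a) v * X c a x.1 * (XS (ng a) v)⁻¹ =
        φ (x.1, -(x.1 * Q0 v), -(x.1 • v)) := by
      rw [h.cj_ls' c a x.1 v h1.symm hca', hR, hS, hP, hadd, hadd]
      congr 1
      ext <;> simp
    have e2 : XS (ng a) v * X c (ng a) x.2.1 * (XS (ng a) v)⁻¹ = φ (0, x.2.1, 0) := by
      rw [h.cj_scomm' (ng a) c (ng a) v x.2.1 (by rw [ng_ng]; exact h1)
        (by rw [ng_ng]; exact ng_ne a), hR]
    have e3 : XS (ng a) v * XS c x.2.2 * (XS (ng a) v)⁻¹ =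
        φ (0, QuadraticMap.polar Q0 v x.2.2, x.2.2) := by
      rw [h.cj_ss (ng a) c v x.2.2 h2 (by rw [ng_ng]; exact h1),
        ← h.long.anti (ng a) c (QuadraticMap.polar Q0 v x.2.2), hR, hS, hadd]
      congr 1
      ext <;> simp
    have split : XS (ng a) v * φ x * (XS (ng a) v)⁻¹ =
        (XS (ng a) v * X c a x.1 * (XS (ng a) v)⁻¹) *
          (XS (ng a) v * X c (ng a) x.2.1 * (XS (ng a) v)⁻¹) *
          (XS (ng a) v * XS c x.2.2 * (XS (ng a) v)⁻¹) := by
      rw [hφ]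
      group
    rw [split, e1, e2, e3, hadd, hadd]
    congr 1
    ext <;> simp <;> ring
  -- conjugation by `XS a v`
  have cjA : ∀ (v : V0) (y : K × K × V0), XS a v * φ y * (XS a v)⁻¹ =
      φ (y.1 - y.2.1 * Q0 v + QuadraticMap.polar Q0 v y.2.2, y.2.1, -(y.2.1 • v) + y.2.2) := by
    intro v y
    have e1 : XS a v * X c a y.1 * (XS a v)⁻¹ = φ (y.1, 0, 0) := by
      rw [h.cj_scomm' a c a v y.1 h2 (ne_ng a), hP]
    have e2 : XS a v * X c (ng a) y.2.1 * (XS a v)⁻¹ =
        φ (-(y.2.1 * Q0 v), y.2.1, -(y.2.1 • v)) := by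
      have := h.cj_ls' c (ng a) y.2.1 v h2.symm hnn
      rw [ng_ng] at this
      rw [this, hP, hS, hR, hadd, hadd]
      congr 1
      ext <;> simp
    have e3 : XS a v * XS c y.2.2 * (XS a v)⁻¹ =
        φ (QuadraticMap.polar Q0 v y.2.2, 0, y.2.2) := by
      rw [h.cj_ss a c v y.2.2 h1 h2, ← h.long.anti a c (QuadraticMap.polar Q0 v y.2.2), hP, hS, hadd]
      congr 1
      ext <;> simp
    have split : XS a v * φ y * (XS a v)⁻¹ =
        (XS a v * X c a y.1 * (XS a v)⁻¹) * (XS a v * X c (ng a) y.2.1 * (XS a v)⁻¹) *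
          (XS a v * XS c y.2.2 * (XS a v)⁻¹) := by
      rw [hφ]
      group
    rw [split, e1, e2, e3, hadd, hadd]
    congr 1
    ext <;> simp <;> ring
  -- the three factors of the Weyl element
  have hW : WSg Q0 XS a w * XS c u * (WSg Q0 XS a w)⁻¹ =
      XS a w * (XS (ng a) ((Q0 w)⁻¹ • w) * (XS a w * XS c u * (XS a w)⁻¹) *
        (XS (ng a) ((Q0 w)⁻¹ • w))⁻¹) * (XS a w)⁻¹ := by
    unfold WSg
    group
  rw [hW, hS u, cjA, cjB, cjA, hS]
  congr 1
  have hlam : (Q0 w)⁻¹ * Q0 w = 1 := inv_mul_cancel₀ hw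
  have hpw : QuadraticMap.polar Q0 w w = 2 * Q0 w := by
    rw [QuadraticMap.polar_self, two_mul]
    first | exact two_nsmul _ | exact two_smul _ _
  have hc : -(QuadraticMap.polar Q0 w u * ((Q0 w)⁻¹ * (Q0 w)⁻¹ * Q0 w)) +
      (Q0 w)⁻¹ * QuadraticMap.polar Q0 w u = 0 := by
    linear_combination (-((Q0 w)⁻¹ * QuadraticMap.polar Q0 w u)) * hlam
  ext
  · simp only [QuadraticMap.map_smul, QuadraticMap.polar_smul_left, QuadraticMap.polar_smul_right,
      QuadraticMap.polar_add_right, QuadraticMap.polar_neg_right, smul_eq_mul, hpw, zero_smul,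
      neg_zero, zero_add, zero_mul, sub_zero, add_zero]
    rw [hc]
    linear_combination (-(2 * QuadraticMap.polar Q0 w u)) * hlam
  · simp only [QuadraticMap.map_smul, QuadraticMap.polar_smul_left, smul_eq_mul, zero_mul, neg_zero,
      zero_add, add_zero, sub_zero, zero_smul]
    exact hc
  · simp only [QuadraticMap.map_smul, QuadraticMap.polar_smul_left, smul_eq_mul, zero_mul, neg_zero,
      zero_add, add_zero, sub_zero, zero_smul]
    rw [hc, zero_smul, neg_zero, zero_add, smul_smul, mul_comm, sub_eq_add_neg, add_comm]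

end generic

end Cfsg.Agent.Lib.Helper74_S94
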