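import Mathlib
import Cfsg.Agent.Lib.Helper30_S94_WSL
import Cfsg.Agent.Lib.Helper69_S94_WSS
import Cfsg.Agent.Lib.Helper66_S96Asm
import Cfsg.Agent.Lib.Helper14_S96_STEIN

set_option autoImplicit false
set_option linter.unusedVariables false
set_option linter.unusedSectionVars false

/-!
# S94 market (helper74's PRES block of S2094 / S2099), package `B_RANK1S` (helper14)

The rank one relations `Rel (pairS σ XS a)` of a short pair follow from `BStAB` and a second index `c`: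
`XS a u = [X a c 1, XS (ng c) u] * X a (ng c) (-Q0 u)` (relation `ls`), and the conjugates of the three
factors by the short Weyl element `WSg Q0 XS a w` are known (`wsL1`, `wsS`); this gives
`WSg a w * XS a u * (WSg a w)⁻¹ = XS (ng a) (σ (w⁻² u))` (`h14r_wsSelf`).
-/

namespace Cfsg.Agent.Lib.Helper74_S94

open Cfsg.Agent.Lib.Helper5_SteinbergA Cfsg.Agent.Lib.Helper66_S92 Cfsg.Agent.Lib.Helper66_S96

section h14r_generic

variable {ι : Type*} [DecidableEq ι] {K : Type*} [Field K] {V0 : Type*} [AddCommGroup V0]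
  [Module K V0] {G : Type*} [Group G] {Q0 : QuadraticForm K V0}
  {X : ι ⊕ ι → ι ⊕ ι → K → G} {XS : ι ⊕ ι → V0 → G}

/-- the reflection in `w` preserves `Q0` -/
theorem h14r_Q0_refl (Q0 : QuadraticForm K V0) (w u : V0) (hw : Q0 w ≠ 0) :
    Q0 (u - ((Q0 w)⁻¹ * QuadraticMap.polar Q0 w u) • w) = Q0 u := by
  set lam := (Q0 w)⁻¹ * QuadraticMap.polar Q0 w u with hlam
  have h1 : u - lam • w = u + (-lam) • w := by rw [neg_smul, sub_eq_add_neg]
  have h2 : Q0 (u + (-lam) • w) = Q0 u + Q0 ((-lam) • w) + QuadraticMap.polar Q0 u ((-lam) • w) := by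
    unfold QuadraticMap.polar; ring
  rw [h1, h2, QuadraticMap.map_smul, QuadraticMap.polar_smul_right, QuadraticMap.polar_comm Q0 u w,
    smul_eq_mul, smul_eq_mul, hlam]
  field_simp
  ring

/-- the conjugate of a short root element by the short Weyl element of the same root, in generic form -/
theorem h14r_wsSelf_g (h : BStAB Q0 X XS) (a c : ι ⊕ ι) (h1 : c ≠ a) (h2 : c ≠ ng a) (w : V0)
    (hw : Q0 w ≠ 0) (u : V0) :
    WSg Q0 XS a w * XS a u * (WSg Q0 XS a w)⁻¹ =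
      XS (ng a) ((-(Q0 w)⁻¹) • (u - ((Q0 w)⁻¹ * QuadraticMap.polar Q0 w u) • w)) := by
  have h1' : ng c ≠ a := fun H => h2 (by rw [← H, ng_ng])
  have h2' : ng c ≠ ng a := fun H => h1 (ng_injective H)
  have h3 : c ≠ ng (ng a) := by rw [ng_ng]; exact h1
  set n := WSg Q0 XS a w with hn
  set u' := u - ((Q0 w)⁻¹ * QuadraticMap.polar Q0 w u) • w with hu'
  -- `XS a u` from the relation `ls`
  have e0 : XS a u = X a c 1 * XS (ng c) u * (X a c 1)⁻¹ * (XS (ng c) u)⁻¹ *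
      (X a (ng c) (Q0 u))⁻¹ := by
    rw [h.ls a c 1 u h1 h2, one_smul, one_mul, mul_inv_cancel_right]
  have c1 : n * X a c 1 * n⁻¹ = X (ng a) c (-(Q0 w)⁻¹) := by
    rw [wsL1 h a c w hw 1 h1 h2, mul_one]
  have c2 : n * XS (ng c) u * n⁻¹ = XS (ng c) u' := wsS h a (ng c) w hw u h1' h2'
  have c3 : n * X a (ng c) (Q0 u) * n⁻¹ = X (ng a) (ng c) (-((Q0 w)⁻¹ * Q0 u)) :=
    wsL1 h a (ng c) w hw (Q0 u) h1' h2'
  have e1 : n * XS a u * n⁻¹ = (n * X a c 1 * n⁻¹) * (n * XS (ng c) u * n⁻¹) *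
      (n * X a c 1 * n⁻¹)⁻¹ * (n * XS (ng c) u * n⁻¹)⁻¹ * (n * X a (ng c) (Q0 u) * n⁻¹)⁻¹ := by
    rw [e0]
    group
  rw [e1, c1, c2, c3, h.ls (ng a) c (-(Q0 w)⁻¹) u' h2 h3, h.long.X_inv, mul_assoc, h.long.add,
    hu', h14r_Q0_refl Q0 w u hw]
  have : -(Q0 w)⁻¹ * Q0 u + - -((Q0 w)⁻¹ * Q0 u) = 0 := by ring
  rw [this, h.long.X_zero, mul_one]

/-- part of B_RANK1S (verbatim statement of the market) -/
theorem wsSelf (h : BStAB Q0 X XS) (a c : ι ⊕ ι) (w : V0) (hw : Q0 w ≠ 0) (u : V0) (h1 : c ≠ a)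
    (h2 : c ≠ ng a) :
    WSg Q0 XS a w * XS a u * (WSg Q0 XS a w)⁻¹ =
      XS (ng a) ((-(Q0 w)⁻¹) • (u - ((Q0 w)⁻¹ * QuadraticMap.polar Q0 w u) • w)) :=
  h14r_wsSelf_g h a c h1 h2 w hw u

end h14r_generic

section h14r_field

variable {ι : Type*} [DecidableEq ι] {K : Type*} [Field K] {L : Type*} [Field L] [Algebra K L]
  {G : Type*} [Group G] {Q0 : QuadraticForm K L} {σ : L → L}
  {X : ι ⊕ ι → ι ⊕ ι → K → G} {XS : ι ⊕ ι → L → G}

/-- the polar form of the norm -/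
theorem h14r_polar (hN : IsNrm Q0 σ) (w u : L) :
    algebraMap K L (QuadraticMap.polar Q0 w u) = w * σ u + u * σ w := by
  unfold QuadraticMap.polar
  rw [map_sub, map_sub, hN.nrm, hN.nrm, hN.nrm, hN.map_add]
  ring

/-- the short Weyl element in the two forms -/
theorem h14r_WS_eq_WSg (hN : IsNrm Q0 σ) (a : ι ⊕ ι) (w : L) :
    WS σ XS a w = WSg Q0 XS a w := by
  rw [WS_eq]
  unfold WSg
  rw [hN.map_neg, neg_neg, hN.map_inv, hN.inv_map]

/-- the parameter of the conjugate, in the field -/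
theorem h14r_param (hN : IsNrm Q0 σ) (w u : L) (hw : w ≠ 0) :
    (-(Q0 w)⁻¹) • (u - ((Q0 w)⁻¹ * QuadraticMap.polar Q0 w u) • w) = -σ (-(w⁻¹ ^ 2 * u)) := by
  have hσ : σ w ≠ 0 := fun H => hw (hN.map_eq_zero.mp H)
  rw [Algebra.smul_def, Algebra.smul_def, map_neg, map_inv₀, map_mul, map_inv₀, hN.nrm,
    h14r_polar hN, hN.map_neg, neg_neg, hN.map_mul, pow_two, hN.map_mul, hN.map_inv]
  field_simp
  ring

/-- the conjugate of a short root element by the short Weyl element of the same root -/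
theorem h14r_wsSelf (h : BStAB Q0 X XS) (hN : IsNrm Q0 σ) (a c : ι ⊕ ι) (h1 : c ≠ a) (h2 : c ≠ ng a)
    (w : L) (hw : w ≠ 0) (u : L) :
    WS σ XS a w * XS a u * (WS σ XS a w)⁻¹ = XS (ng a) (-σ (-(w⁻¹ ^ 2 * u))) := by
  rw [h14r_WS_eq_WSg hN, h14r_wsSelf_g h a c h1 h2 w (hN.nrm_ne_zero hw) u, h14r_param hN w u hw]

end h14r_field

/-! ## B_RANK1S -/

theorem rank1S_of_bStAB {ι : Type*} [DecidableEq ι] {K : Type*} [Field K] {L : Type*} [Field L]
    [Algebra K L] {G : Type*} [Group G] {Q0 : QuadraticForm K L} {σ : L → L}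
    {X : ι ⊕ ι → ι ⊕ ι → K → G} {XS : ι ⊕ ι → L → G} (h : BStAB Q0 X XS) (hN : IsNrm Q0 σ)
    (a c : ι ⊕ ι) (h1 : c ≠ a) (h2 : c ≠ ng a) : Rel (pairS σ XS a) := by
  have h1' : c ≠ ng a := h2
  have h2' : c ≠ ng (ng a) := by rw [ng_ng]; exact h1
  refine ⟨?_, ?_⟩
  · intro b t u
    cases b
    · rw [pairS_false, pairS_false, pairS_false, h.sadd, hN.map_add, neg_add]
    · rw [pairS_true, pairS_true, pairS_true, h.sadd]
  · intro b t u ht
    cases b
    · -- the pair at `ng a`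
      have hσt : -σ t ≠ 0 := neg_ne_zero.mpr (fun H => ht (hN.map_eq_zero.mp H))
      have key := h14r_wsSelf h hN (ng a) c h1' h2' (-σ t) hσt (-σ u)
      rw [WS_eq, ng_ng] at key
      simp only [Bool.not_false, pairS_false, pairS_true]
      have e1 : -σ (-(-σ t)⁻¹) = -t⁻¹ := by
        rw [inv_neg, neg_neg, hN.map_inv, hN.invol]
      have e2 : -σ (-((-σ t)⁻¹ ^ 2 * -σ u)) = -(t⁻¹ ^ 2 * u) := by
        rw [inv_neg, neg_sq, mul_neg, neg_neg, hN.map_mul, pow_two, hN.map_mul, hN.map_inv,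
          hN.invol, hN.invol, pow_two]
      rw [e1, e2] at key
      exact key
    · have key := h14r_wsSelf h hN a c h1 h2 t ht u
      rw [WS_eq] at key
      simp only [Bool.not_true, pairS_false, pairS_true]
      exact key

theorem bSt_of_bStAB {ι : Type*} [Fintype ι] [DecidableEq ι] {K : Type*} [Field K] {L : Type*}
    [Field L] [Algebra K L] {G : Type*} [Group G] {Q0 : QuadraticForm K L} {σ : L → L}
    {X : ι ⊕ ι → ι ⊕ ι → K → G} {XS : ι ⊕ ι → L → G} (h : BStAB Q0 X XS) (hN : IsNrm Q0 σ)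
    (h3 : 3 ≤ Fintype.card ι) : BSt Q0 σ X XS := by
  have hD : DSt X := dSt_of_dStAB h.long h3
  refine { toBStAB := h, rank1 := hD.rank1, rank1S := ?_ }
  intro a
  obtain ⟨c, hac, -⟩ := h14_fresh2 h3 a a
  exact rank1S_of_bStAB h hN a c (h14_n1 hac.symm) (h14_n2 hac.symm)

end Cfsg.Agent.Lib.Helper74_S94

namespace Cfsg.Agent.Lib.Helper66_S94

open Cfsg.Agent.Lib.Helper5_SteinbergA Cfsg.Agent.Lib.Helper66_S92 Cfsg.Agent.Lib.Helper66_S96
  Cfsg.Agent.Lib.Helper74_S94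

section pres

variable {ι : Type*} [Fintype ι] [DecidableEq ι] {K : Type*} [Field K] [Finite K]
  {L : Type*} [Field L] [Algebra K L] [Finite L] {Q0 : QuadraticForm K L} {σ : L → L}
  {G : Type*} [Group G] {X : ι ⊕ ι → ι ⊕ ι → K → G} {XS : ι ⊕ ι → L → G}

/-- RANK1S in the shape of helper66's FINAL block -/
theorem rank1S_of_bStAB (hσ : IsNrm Q0 σ) (h : BStAB Q0 X XS) (h2 : 2 ≤ Fintype.card ι)
    (a : ι ⊕ ι) : Rel (pairS σ XS a) := by
  obtain ⟨c, hc⟩ : ∃ c : ι, c ≠ h14_sp a := by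
    by_contra hcon
    push Not at hcon
    have : Fintype.card ι ≤ 1 :=
      Fintype.card_le_one_iff.mpr (fun x y => by rw [hcon x, hcon y])
    omega
  have hac : h14_sp (Sum.inl c : ι ⊕ ι) ≠ h14_sp a := hc
  exact Cfsg.Agent.Lib.Helper74_S94.rank1S_of_bStAB h hσ a (Sum.inl c) (h14_n1 hac) (h14_n2 hac)

end pres

end Cfsg.Agent.Lib.Helper66_S94
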