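import Mathlib
import Cfsg.Agent.Lib.Helper14_S94_LIFT

set_option autoImplicit false
set_option linter.unusedVariables false
set_option linter.unusedSectionVars false

/-!
# S94 (S2094 / S2099), block LIFT: the torus hypothesis from the rank one relations (helper14)

For a `BStAB` family whose short pairs `pairS σ XS a` satisfy the rank one relations `Rel` over the
field `L = V0`, the torus element `HS σ XS d w` normalises `XS d` (acting by `w²`) and commutes with
the long root elements of the other indices; so the hypothesis of `exists_bStAB_lift_three` holds as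
soon as some `w ≠ 0` has `w * w ≠ 1`.  Consequently a `BSt` family lifts to every central extension
if there are at least four indices, or at least three and such a `w`.
-/

namespace Cfsg.Agent.Lib.Helper74_S94

open Cfsg.Agent.Lib.Helper5_SteinbergA Cfsg.Agent.Lib.Helper66_S92 Cfsg.Agent.Lib.Helper66_S96
  Cfsg.Agent.Lib.Helper81_UceA

section h14t

variable {ι : Type*} {K : Type*} [Field K] {L : Type*} [Field L] [Algebra K L] {G : Type*} [Group G]
  {σ : L → L} {XS : ι ⊕ ι → L → G}

/-- the torus element of a short root acts on its root group by the square -/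
theorem h14t_HS_conj {a : ι ⊕ ι} (h : Rel (pairS σ XS a)) {w : L} (hw : w ≠ 0) (v : L) :
    HS σ XS a w * XS a v * (HS σ XS a w)⁻¹ = XS a (w ^ 2 * v) := by
  have h1 : (WS σ XS a 1)⁻¹ = W (pairS σ XS a) true (-1) := h.W_inv true 1
  have hm : (-1 : L) ≠ 0 := neg_ne_zero.mpr one_ne_zero
  have h2 : W (pairS σ XS a) true (-1) * pairS σ XS a true v * (W (pairS σ XS a) true (-1))⁻¹ =
      pairS σ XS a false (-v) := by
    rw [h.conjW_t hm]
    congr 1
    rw [inv_neg_one]
    ring
  have h3 : W (pairS σ XS a) true w * pairS σ XS a false (-v) * (W (pairS σ XS a) true w)⁻¹ =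
      pairS σ XS a true (w ^ 2 * v) := by
    rw [h.conjW_f hw]
    congr 1
    ring
  unfold HS
  rw [h1]
  have e : WS σ XS a w * W (pairS σ XS a) true (-1) * XS a v *
      (WS σ XS a w * W (pairS σ XS a) true (-1))⁻¹ =
      W (pairS σ XS a) true w * (W (pairS σ XS a) true (-1) * pairS σ XS a true v *
        (W (pairS σ XS a) true (-1))⁻¹) * (W (pairS σ XS a) true w)⁻¹ := by
    unfold WS
    rw [pairS_true]
    group
  rw [e, h2, h3, pairS_true]

variable {V0' : Type*} {X : ι ⊕ ι → ι ⊕ ι → K → G}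

/-- the torus element of a short root commutes with the long root elements of the other indices -/
theorem h14t_HS_comm {Q0 : QuadraticForm K L} (h : BStAB Q0 X XS) {d a c : ι ⊕ ι} (had : a ≠ d)
    (had' : a ≠ ng d) (hcd : c ≠ d) (hcd' : c ≠ ng d) (w : L) (t : K) :
    HS σ XS d w * X a c t = X a c t * HS σ XS d w := by
  have h1 : ∀ v, Commute (XS d v) (X a c t) := fun v => h.scomm d a c v t had' hcd'
  have h2 : ∀ v, Commute (XS (ng d) v) (X a c t) := fun v =>
    h.scomm (ng d) a c v t (by rw [ng_ng]; exact had) (by rw [ng_ng]; exact hcd)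
  have h3 : ∀ u, Commute (WS σ XS d u) (X a c t) := by
    intro u
    rw [WS_eq]
    exact ((h1 u).mul_left (h2 _)).mul_left (h1 u)
  have h4 : Commute (HS σ XS d w) (X a c t) := by
    unfold HS
    exact (h3 w).mul_left (h3 1).inv_left
  exact h4.eq

/-- the torus hypothesis of `exists_bStAB_lift_three` from the rank one relations -/
theorem tor_of_rel {Q0 : QuadraticForm K L} (h : BStAB Q0 X XS) (hr : ∀ a, Rel (pairS σ XS a))
    (hw : ∃ w : L, w ≠ 0 ∧ w * w ≠ 1) :
    ∀ d : ι ⊕ ι, ∃ (hh : G) (φ : L → L), (∀ v, hh * XS d v * hh⁻¹ = XS d (φ v)) ∧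
      (∀ a c t, a ≠ d → a ≠ ng d → c ≠ d → c ≠ ng d → hh * X a c t = X a c t * hh) ∧
      (∀ w', ∃ v, φ v - v = w') := by
  obtain ⟨w, hw0, hw1⟩ := hw
  intro d
  refine ⟨HS σ XS d w, fun v => w ^ 2 * v, fun v => h14t_HS_conj (hr d) hw0 v,
    fun a c t h1 h2 h3 h4 => h14t_HS_comm h h1 h2 h3 h4 w t, ?_⟩
  intro w'
  have hne : w ^ 2 - 1 ≠ 0 := by
    rw [pow_two]
    exact sub_ne_zero.mpr hw1
  refine ⟨w' / (w ^ 2 - 1), ?_⟩
  field_simp

end h14t

/-- a `BSt` family lifts to every central extension: at least four indices, or at least three and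
some `w ≠ 0` in `L` with `w * w ≠ 1` -/
theorem exists_bStAB_lift {K : Type*} [Field K] {L : Type*} [Field L] [Algebra K L]
    {Q0 : QuadraticForm K L} {σ : L → L} {ι : Type*} [Fintype ι] [DecidableEq ι]
    (h3 : 3 ≤ Fintype.card ι)
    (h4 : 4 ≤ Fintype.card ι ∨ ∃ w : L, w ≠ 0 ∧ w * w ≠ 1)
    (hB : ∃ v w : L, QuadraticMap.polar Q0 v w = 1) {E S : Type*} [Group E] [Group S]
    {π : E →* S} (hπ : CExt π) {X : ι ⊕ ι → ι ⊕ ι → K → S} {XS : ι ⊕ ι → L → S}
    (h : BSt Q0 σ X XS) :
    ∃ (Y : ι ⊕ ι → ι ⊕ ι → K → E) (YS : ι ⊕ ι → L → E), (∀ a c t, π (Y a c t) = X a c t) ∧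
      (∀ a v, π (YS a v) = XS a v) ∧ BStAB Q0 Y YS := by
  rcases h4 with h4 | hw
  · exact exists_bStAB_lift_four h4 hB hπ h.toBStAB
  · exact exists_bStAB_lift_three h3 hB hπ h.toBStAB (tor_of_rel h.toBStAB h.rank1S hw)

end Cfsg.Agent.Lib.Helper74_S94
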