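import Mathlib
import Cfsg.Agent.Lib.Helper14_S94_TOR

set_option autoImplicit false
set_option linter.unusedVariables false
set_option linter.unusedSectionVars false

/-!
# S94 (S2094 / S2099), package TORUS_HYP of helper66's FINAL block (helper14)

The hypothesis `hT` of `exists_bStAB_lift_three` for a `BSt` family over a field `L` with more than
three elements: the torus element `HS σ XS d w` with `w ≠ 0`, `w * w ≠ 1`.
-/

namespace Cfsg.Agent.Lib.Helper66_S94

open Cfsg.Agent.Lib.Helper5_SteinbergA Cfsg.Agent.Lib.Helper66_S92 Cfsg.Agent.Lib.Helper66_S96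
  Cfsg.Agent.Lib.Helper74_S94

/-- a field with more than three elements has some `w ≠ 0` with `w * w ≠ 1` -/
theorem h14u_exists_sq_ne_one {L : Type*} [Field L] [Finite L] (hL : 3 < Nat.card L) :
    ∃ w : L, w ≠ 0 ∧ w * w ≠ 1 := by
  classical
  by_contra hcon
  push Not at hcon
  have := Fintype.ofFinite L
  have hsub : (Finset.univ : Finset L) ⊆ {0, 1, -1} := by
    intro w _
    by_cases hw : w = 0
    · simp [hw]
    · have h1 := hcon w hw
      have h2 : (w - 1) * (w + 1) = 0 := by
        have e : (w - 1) * (w + 1) = w * w - 1 := by ring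
        rw [e, h1, sub_self]
      rcases mul_eq_zero.mp h2 with h3 | h3
      · have : w = 1 := sub_eq_zero.mp h3
        simp [this]
      · have : w = -1 := eq_neg_of_add_eq_zero_left h3
        simp [this]
  have h3 := Finset.card_le_card hsub
  have h4 : ({0, 1, -1} : Finset L).card ≤ 3 := Finset.card_le_three
  rw [Finset.card_univ, ← Nat.card_eq_fintype_card] at h3
  omega

section pres

variable {ι : Type*} [Fintype ι] [DecidableEq ι] {K : Type*} [Field K] [Finite K]
  {L : Type*} [Field L] [Algebra K L] [Finite L] {Q0 : QuadraticForm K L} {σ : L → L}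
  {G : Type*} [Group G] {X : ι ⊕ ι → ι ⊕ ι → K → G} {XS : ι ⊕ ι → L → G}

/-- TORUS_HYP (helper14): the hypothesis `hT` of `exists_bStAB_lift_three` -/
theorem torus_hyp_of_bSt (hσ : IsNrm Q0 σ) (h : BSt Q0 σ X XS) (hL : 3 < Nat.card L)
    (d : ι ⊕ ι) : ∃ (hh : G) (φ : L → L), (∀ v, hh * XS d v * hh⁻¹ = XS d (φ v)) ∧
      (∀ a c t, a ≠ d → a ≠ ng d → c ≠ d → c ≠ ng d → hh * X a c t = X a c t * hh) ∧
      (∀ w, ∃ v, φ v - v = w) :=
  tor_of_rel h.toBStAB h.rank1S (h14u_exists_sq_ne_one hL) d

end pres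

end Cfsg.Agent.Lib.Helper66_S94
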