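import Mathlib

/-!
# Group-theoretic preliminaries for S4484 (helper15)
-/

set_option autoImplicit false

namespace Cfsg.Agent.Lib.Helper15_B6Group

variable {G : Type*} [Group G]

/-- A `p`-central element of order `p`. -/
theorem exists_central_order_p [Finite G] (p : ℕ) [hp : Fact p.Prime] (hpG : p ∣ Nat.card G) :
    ∃ x : G, orderOf x = p ∧ ¬ p ∣ (Subgroup.centralizer ({x} : Set G)).index := by
  classical
  obtain P : Sylow p G := default
  have hPcard : p ∣ Nat.card P := by
    have h1 := P.card_eq_multiplicity
    rw [h1]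
    apply dvd_pow_self
    intro h0
    have := (Nat.factorization_eq_zero_iff (Nat.card G) p).mp h0
    rcases this with h | h | h
    · exact h hp.out
    · exact h hpG
    · exact (Nat.card_pos (α := G)).ne' h
  have hPnt : Nontrivial P := by
    rw [← Finite.one_lt_card_iff_nontrivial]
    exact lt_of_lt_of_le hp.out.one_lt (Nat.le_of_dvd Nat.card_pos hPcard)
  have hZnt : Nontrivial (Subgroup.center P) := P.isPGroup'.center_nontrivial
  have hZp : IsPGroup p (Subgroup.center P) := P.isPGroup'.to_subgroup _
  have hZcard : p ∣ Nat.card (Subgroup.center P) := by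
    obtain ⟨k, hk⟩ := IsPGroup.iff_card.mp hZp
    rw [hk]
    apply dvd_pow_self
    intro h0
    rw [h0, pow_zero] at hk
    have : Subsingleton (Subgroup.center P) := (Nat.card_eq_one_iff_unique.mp hk).1
    exact not_nontrivial _ hZnt
  obtain ⟨z, hz⟩ := exists_prime_orderOf_dvd_card' p hZcard
  refine ⟨((z : P) : G), ?_, ?_⟩
  · rw [Subgroup.orderOf_coe, Subgroup.orderOf_coe, hz]
  · have hle : (P : Subgroup G) ≤ Subgroup.centralizer ({((z : P) : G)} : Set G) := by
      intro g hg
      rw [Subgroup.mem_centralizer_iff]
      intro w hw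
      rw [Set.mem_singleton_iff] at hw
      subst hw
      have h1 := Subgroup.mem_center_iff.mp z.2 ⟨g, hg⟩
      have h2 := congrArg (Subtype.val) h1
      simpa using h2.symm
    intro hdvd
    exact P.not_dvd_index (dvd_trans hdvd (Subgroup.index_dvd_of_le hle))

/-- Nonidentity powers of an element of prime order have the same centralizer. -/
theorem centralizer_eq_of_mem_zpowers {p : ℕ} (hp : p.Prime) {x : G} (hx : orderOf x = p)
    {z : G} (hz : z ∈ Subgroup.zpowers x) (hz1 : z ≠ 1) :
    Subgroup.centralizer ({z} : Set G) = Subgroup.centralizer ({x} : Set G) := by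
  have hxz : x ∈ Subgroup.zpowers z := by
    have hcard : Nat.card (Subgroup.zpowers x) = p := by rw [Nat.card_zpowers, hx]
    have hle : Subgroup.zpowers z ≤ Subgroup.zpowers x := by
      rw [Subgroup.zpowers_le]; exact hz
    have hfin : Finite (Subgroup.zpowers x) := by
      apply Nat.finite_of_card_ne_zero
      rw [hcard]; exact hp.ne_zero
    have hdvd : Nat.card (Subgroup.zpowers z) ∣ p := by
      rw [← hcard]
      exact Subgroup.card_dvd_of_le hle
    have hne1 : Nat.card (Subgroup.zpowers z) ≠ 1 := by
      rw [Nat.card_zpowers]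
      intro h
      exact hz1 (orderOf_eq_one_iff.mp h)
    have heq : Nat.card (Subgroup.zpowers z) = p :=
      ((Nat.dvd_prime hp).mp hdvd).resolve_left hne1
    have : Subgroup.zpowers z = Subgroup.zpowers x := by
      have hfin' : Finite (Subgroup.zpowers x) := hfin
      apply Subgroup.eq_of_le_of_card_ge hle
      rw [heq, hcard]
    rw [this]
    exact Subgroup.mem_zpowers x
  apply le_antisymm
  · intro g hg
    rw [Subgroup.mem_centralizer_iff] at hg ⊢
    intro w hw
    rw [Set.mem_singleton_iff] at hw
    subst hw
    obtain ⟨k, rfl⟩ := Subgroup.mem_zpowers_iff.mp hxz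
    have h1 : Commute z g := hg z rfl
    exact (h1.zpow_left k).eq
  · intro g hg
    rw [Subgroup.mem_centralizer_iff] at hg ⊢
    intro w hw
    rw [Set.mem_singleton_iff] at hw
    subst hw
    obtain ⟨k, rfl⟩ := Subgroup.mem_zpowers_iff.mp hz
    have h1 : Commute x g := hg x rfl
    exact (h1.zpow_left k).eq

/-- A finite simple group whose order has a prime divisor `p` and is not `p` is not abelian. -/
theorem not_comm_of_simple [Finite G] [IsSimpleGroup G] {p : ℕ} (hp : p.Prime)
    (hpG : p ∣ Nat.card G) (hne : Nat.card G ≠ p) : ¬ ∀ a b : G, a * b = b * a := by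
  intro hcomm
  let inst : CommGroup G := { (inferInstance : Group G) with mul_comm := hcomm }
  have hprime : (Nat.card G).Prime := @IsSimpleGroup.prime_card G inst _
  exact hne ((Nat.prime_dvd_prime_iff_eq hp hprime).mp hpG).symm

end Cfsg.Agent.Lib.Helper15_B6Group
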