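import Mathlib

/-!
# Frobenius' commutation theorem for finite groups of isometries (helper74)

Let the finite group `G` act faithfully by linear isometries on a normed space `W`.  If `g, h ∈ G`
are both within operator-norm distance `< 1/2` of scalar operators, then `g` and `h` commute.
(For unitary operators this means that the eigenvalues lie on an arc of length less than 60°.)
-/

set_option autoImplicit false
set_option linter.unusedSectionVars false
set_option linter.unusedVariables false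

namespace Cfsg.Agent.Lib.Helper74_JordanNorm

variable {G : Type*} [Group G] [Finite G]
variable {W : Type*} [NormedAddCommGroup W] [NormedSpace ℂ W]
variable (ρ : G →* (W →L[ℂ] W))

/-- the action is by isometries -/
def IsIso : Prop := ∀ (g : G) (v : W), ‖ρ g v‖ = ‖v‖

variable {ρ}

theorem norm_le_one (hiso : IsIso ρ) (g : G) : ‖ρ g‖ ≤ 1 := by
  apply ContinuousLinearMap.opNorm_le_bound _ zero_le_one
  intro v
  rw [hiso g v, one_mul]

theorem comm_identity (a b : W →L[ℂ] W) (c c' : ℂ) :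
    (a - c • 1) * (b - c' • 1) - (b - c' • 1) * (a - c • 1) = a * b - b * a := by
  simp only [sub_mul, mul_sub, smul_mul_assoc, mul_smul_comm, one_mul, mul_one, smul_sub]
  rw [smul_comm c' c]
  abel

theorem norm_comm_le (a b : W →L[ℂ] W) (c c' : ℂ) :
    ‖a * b - b * a‖ ≤ 2 * ‖a - c • 1‖ * ‖b - c' • 1‖ := by
  rw [← comm_identity a b c c']
  calc ‖(a - c • 1) * (b - c' • 1) - (b - c' • 1) * (a - c • 1)‖
      ≤ ‖(a - c • 1) * (b - c' • 1)‖ + ‖(b - c' • 1) * (a - c • 1)‖ := norm_sub_le _ _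
    _ ≤ ‖a - c • 1‖ * ‖b - c' • 1‖ + ‖b - c' • 1‖ * ‖a - c • 1‖ :=
        add_le_add (norm_mul_le _ _) (norm_mul_le _ _)
    _ = 2 * ‖a - c • 1‖ * ‖b - c' • 1‖ := by ring

/-- the commutator is close to the identity -/
theorem norm_commutator_le (hiso : IsIso ρ) (g x : G) (c c' : ℂ) :
    ‖ρ (g * x * g⁻¹ * x⁻¹) - 1‖ ≤ 2 * ‖ρ g - c • 1‖ * ‖ρ x - c' • 1‖ := by
  have h1 : ρ (g * x * g⁻¹ * x⁻¹) - 1 = (ρ g * ρ x - ρ x * ρ g) * ρ (g⁻¹ * x⁻¹) := by
    rw [sub_mul, ← map_mul, ← map_mul, ← map_mul, ← map_mul]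
    congr 1
    · congr 1; group
    · rw [← map_one ρ]; congr 1; group
  rw [h1]
  calc ‖(ρ g * ρ x - ρ x * ρ g) * ρ (g⁻¹ * x⁻¹)‖
      ≤ ‖ρ g * ρ x - ρ x * ρ g‖ * ‖ρ (g⁻¹ * x⁻¹)‖ := norm_mul_le _ _
    _ ≤ ‖ρ g * ρ x - ρ x * ρ g‖ * 1 :=
        mul_le_mul_of_nonneg_left (norm_le_one hiso _) (norm_nonneg _)
    _ = ‖ρ g * ρ x - ρ x * ρ g‖ := mul_one _
    _ ≤ _ := norm_comm_le _ _ c c'

/-- conjugation does not increase the distance to a scalar -/
theorem norm_conj_le (hiso : IsIso ρ) (x g : G) (c : ℂ) :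
    ‖ρ (x * g * x⁻¹) - c • 1‖ ≤ ‖ρ g - c • 1‖ := by
  have h1 : ρ (x * g * x⁻¹) - c • 1 = ρ x * (ρ g - c • 1) * ρ x⁻¹ := by
    have h2 : ρ x * ρ x⁻¹ = 1 := by rw [← map_mul, mul_inv_cancel, map_one]
    rw [mul_sub, sub_mul, map_mul, map_mul, mul_smul_comm, mul_one, smul_mul_assoc, h2]
  rw [h1]
  calc ‖ρ x * (ρ g - c • 1) * ρ x⁻¹‖ ≤ ‖ρ x * (ρ g - c • 1)‖ * ‖ρ x⁻¹‖ := norm_mul_le _ _
    _ ≤ (‖ρ x‖ * ‖ρ g - c • 1‖) * ‖ρ x⁻¹‖ :=
        mul_le_mul_of_nonneg_right (norm_mul_le _ _) (norm_nonneg _)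
    _ ≤ (1 * ‖ρ g - c • 1‖) * 1 := by
        apply mul_le_mul _ (norm_le_one hiso _) (norm_nonneg _)
        · positivity
        · exact mul_le_mul_of_nonneg_right (norm_le_one hiso _) (norm_nonneg _)
    _ = ‖ρ g - c • 1‖ := by ring

/-- **Frobenius' lemma**: if `a` commutes with the commutator `[a, b]` and `b` is close to a
scalar, then `a` commutes with `b`. -/
theorem frobenius_lemma (hiso : IsIso ρ) (hfaith : ∀ g : G, ρ g = 1 → g = 1) (a b : G) (c : ℂ)
    (hb : ‖ρ b - c • 1‖ < 1 / 2)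
    (hcomm : a * (a * b * a⁻¹ * b⁻¹) = (a * b * a⁻¹ * b⁻¹) * a) :
    a * b * a⁻¹ * b⁻¹ = 1 := by
  set C := a * b * a⁻¹ * b⁻¹ with hC
  have hcommk : ∀ k : ℕ, a * C ^ k = C ^ k * a := by
    intro k
    exact (Commute.pow_right (show Commute a C from hcomm) k).eq
  have h1 : ∀ k : ℕ, a ^ k * b * (a ^ k)⁻¹ = C ^ k * b := by
    intro k
    induction k with
    | zero => simp
    | succ k ih =>
      have h0 : a * b * a⁻¹ = C * b := by rw [hC]; group
      calc a ^ (k + 1) * b * (a ^ (k + 1))⁻¹ = a * (a ^ k * b * (a ^ k)⁻¹) * a⁻¹ := by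
            rw [pow_succ']; group
        _ = a * (C ^ k * b) * a⁻¹ := by rw [ih]
        _ = (a * C ^ k) * b * a⁻¹ := by group
        _ = C ^ k * (a * b * a⁻¹) := by rw [hcommk k]; group
        _ = C ^ (k + 1) * b := by rw [h0, pow_succ]; group
  set m := orderOf C with hm
  have hmpos : 0 < m := orderOf_pos C
  set N : W →L[ℂ] W := ∑ k ∈ Finset.range m, ρ (C ^ k) with hN
  have h2 : N * ρ C = N := by
    rw [hN, Finset.sum_mul]
    have h3 : ∀ k ∈ Finset.range m, ρ (C ^ k) * ρ C = ρ (C ^ (k + 1)) := by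
      intro k _
      rw [← map_mul, pow_succ]
    rw [Finset.sum_congr rfl h3]
    have h4 := Finset.sum_range_succ' (fun k => ρ (C ^ k)) m
    have h5 := Finset.sum_range_succ (fun k => ρ (C ^ k)) m
    rw [h5] at h4
    simp only [pow_zero] at h4
    rw [hm, pow_orderOf_eq_one] at h4
    exact (add_right_cancel h4).symm
  have h5 : ‖N * ρ b - ((m : ℂ) * c) • 1‖ ≤ (m : ℝ) * ‖ρ b - c • 1‖ := by
    have h6 : N * ρ b - ((m : ℂ) * c) • 1 =
        ∑ k ∈ Finset.range m, (ρ (a ^ k * b * (a ^ k)⁻¹) - c • 1) := by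
      rw [Finset.sum_sub_distrib, hN, Finset.sum_mul, Finset.sum_const, Finset.card_range,
        ← Nat.cast_smul_eq_nsmul ℂ, smul_smul]
      congr 1
      apply Finset.sum_congr rfl
      intro k _
      rw [h1 k, map_mul]
    rw [h6]
    calc ‖∑ k ∈ Finset.range m, (ρ (a ^ k * b * (a ^ k)⁻¹) - c • 1)‖
        ≤ ∑ k ∈ Finset.range m, ‖ρ (a ^ k * b * (a ^ k)⁻¹) - c • 1‖ := norm_sum_le _ _
      _ ≤ ∑ k ∈ Finset.range m, ‖ρ b - c • 1‖ :=
          Finset.sum_le_sum (fun k _ => norm_conj_le hiso _ _ _)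
      _ = (m : ℝ) * ‖ρ b - c • 1‖ := by
          rw [Finset.sum_const, Finset.card_range, nsmul_eq_mul]
  have h6 : ∀ u : W, N (ρ b u) = 0 → u = 0 := by
    intro u hu
    by_contra hne
    have hupos : 0 < ‖u‖ := norm_pos_iff.mpr hne
    have h7 : ‖u‖ ≤ ‖ρ b - c • 1‖ * ‖u‖ + ‖c‖ * ‖u‖ := by
      calc ‖u‖ = ‖ρ b u‖ := (hiso b u).symm
        _ = ‖(ρ b - c • 1) u + c • u‖ := by
            congr 1
            simp
        _ ≤ ‖(ρ b - c • 1) u‖ + ‖c • u‖ := norm_add_le _ _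
        _ ≤ ‖ρ b - c • 1‖ * ‖u‖ + ‖c‖ * ‖u‖ := by
            apply add_le_add (ContinuousLinearMap.le_opNorm _ _)
            rw [norm_smul]
    have h8 : 1 ≤ ‖ρ b - c • 1‖ + ‖c‖ := by
      by_contra hcon
      push Not at hcon
      nlinarith
    have h9 : ‖((m : ℂ) * c) • u‖ ≤ (m : ℝ) * ‖ρ b - c • 1‖ * ‖u‖ := by
      have h10 : ((m : ℂ) * c) • u = -((N * ρ b - ((m : ℂ) * c) • 1) u) := by
        simp [hu]
      rw [h10, norm_neg]
      calc ‖(N * ρ b - ((m : ℂ) * c) • 1) u‖ ≤ ‖N * ρ b - ((m : ℂ) * c) • 1‖ * ‖u‖ :=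
            ContinuousLinearMap.le_opNorm _ _
        _ ≤ (m : ℝ) * ‖ρ b - c • 1‖ * ‖u‖ := mul_le_mul_of_nonneg_right h5 (norm_nonneg _)
    rw [norm_smul, norm_mul, Complex.norm_natCast] at h9
    have hmr : (0 : ℝ) < (m : ℝ) := by exact_mod_cast hmpos
    have h11 : ‖c‖ ≤ ‖ρ b - c • 1‖ := by
      have h12 : (m : ℝ) * ‖u‖ * ‖c‖ ≤ (m : ℝ) * ‖u‖ * ‖ρ b - c • 1‖ := by nlinarith
      exact le_of_mul_le_mul_left h12 (mul_pos hmr hupos)
    linarith
  have h7 : ∀ v : W, ρ C v = v := by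
    intro v
    have h8 : N (ρ C v - v) = 0 := by
      rw [map_sub]
      have := congrArg (fun T : W →L[ℂ] W => T v) h2
      simp only [ContinuousLinearMap.mul_apply] at this
      rw [this, sub_self]
    have h9 : ρ b (ρ b⁻¹ (ρ C v - v)) = ρ C v - v := by
      rw [← ContinuousLinearMap.mul_apply, ← map_mul, mul_inv_cancel, map_one]
      rfl
    have h10 := h6 (ρ b⁻¹ (ρ C v - v)) (by rw [h9]; exact h8)
    rw [h10, map_zero] at h9
    exact sub_eq_zero.mp h9.symm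
  apply hfaith
  ext v
  exact h7 v

/-- iterated commutators with `g` -/
def iter (g h : G) : ℕ → G
  | 0 => h
  | (k + 1) => g * iter g h k * g⁻¹ * (iter g h k)⁻¹

theorem iter_zero (g h : G) : iter g h 0 = h := rfl

theorem iter_succ (g h : G) (k : ℕ) :
    iter g h (k + 1) = g * iter g h k * g⁻¹ * (iter g h k)⁻¹ := rfl

theorem norm_iter_le (hiso : IsIso ρ) (g h : G) (c c' : ℂ) (k : ℕ) :
    ‖ρ (iter g h (k + 1)) - 1‖ ≤ (2 * ‖ρ g - c • 1‖) ^ (k + 1) * ‖ρ h - c' • 1‖ := by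
  induction k with
  | zero =>
    rw [iter_succ, iter_zero, zero_add, pow_one]
    exact norm_commutator_le hiso g h c c'
  | succ k ih =>
    rw [iter_succ]
    have h1 := norm_commutator_le hiso g (iter g h (k + 1)) c 1
    rw [one_smul] at h1
    calc _ ≤ 2 * ‖ρ g - c • 1‖ * ‖ρ (iter g h (k + 1)) - 1‖ := h1
      _ ≤ 2 * ‖ρ g - c • 1‖ * ((2 * ‖ρ g - c • 1‖) ^ (k + 1) * ‖ρ h - c' • 1‖) :=
          mul_le_mul_of_nonneg_left ih (by positivity)
      _ = (2 * ‖ρ g - c • 1‖) ^ (k + 1 + 1) * ‖ρ h - c' • 1‖ := by ring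

/-- the iterated commutators are eventually trivial -/
theorem exists_iter_eq_one (hiso : IsIso ρ) (hfaith : ∀ g : G, ρ g = 1 → g = 1) (g h : G)
    (c c' : ℂ) (hg : ‖ρ g - c • 1‖ < 1 / 2) :
    ∃ K : ℕ, iter g h (K + 1) = 1 := by
  classical
  have : Fintype G := Fintype.ofFinite G
  by_contra hcon
  push Not at hcon
  set T : Finset G := Finset.univ.filter (fun y : G => y ≠ 1) with hT
  have hTne : T.Nonempty := ⟨iter g h 1, by rw [hT, Finset.mem_filter]; exact ⟨Finset.mem_univ _, hcon 0⟩⟩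
  obtain ⟨y₀, hy₀, hmin⟩ := Finset.exists_min_image T (fun y => ‖ρ y - 1‖) hTne
  have hy₀1 : y₀ ≠ 1 := by
    rw [hT, Finset.mem_filter] at hy₀; exact hy₀.2
  have hδ : 0 < ‖ρ y₀ - 1‖ := by
    rw [norm_pos_iff]
    intro h0
    exact hy₀1 (hfaith y₀ (sub_eq_zero.mp h0))
  set q := 2 * ‖ρ g - c • 1‖ with hq
  have hq0 : 0 ≤ q := by positivity
  have hq1 : q < 1 := by rw [hq]; linarith
  -- choose k
  have hpos : 0 < ‖ρ y₀ - 1‖ / (‖ρ h - c' • 1‖ + 1) := by
    apply div_pos hδ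
    positivity
  obtain ⟨k, hk⟩ := exists_pow_lt_of_lt_one hpos hq1
  have h1 := norm_iter_le hiso g h c c' k
  have h2 : ‖ρ y₀ - 1‖ ≤ ‖ρ (iter g h (k + 1)) - 1‖ := by
    apply hmin
    rw [hT, Finset.mem_filter]
    exact ⟨Finset.mem_univ _, hcon k⟩
  have h3 : q ^ (k + 1) ≤ q ^ k := by
    rw [pow_succ]
    calc q ^ k * q ≤ q ^ k * 1 := mul_le_mul_of_nonneg_left hq1.le (pow_nonneg hq0 k)
      _ = q ^ k := mul_one _
  have h4 : q ^ (k + 1) * ‖ρ h - c' • 1‖ < ‖ρ y₀ - 1‖ := by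
    have h5 : q ^ k * (‖ρ h - c' • 1‖ + 1) < ‖ρ y₀ - 1‖ := by
      rwa [lt_div_iff₀ (by positivity)] at hk
    have h6 : q ^ (k + 1) * ‖ρ h - c' • 1‖ ≤ q ^ k * (‖ρ h - c' • 1‖ + 1) := by
      apply mul_le_mul h3 (by linarith) (norm_nonneg _) (pow_nonneg hq0 k)
    linarith
  linarith

/-- **Frobenius' theorem**: two elements of a finite group of isometries which are close to scalars
commute. -/
theorem commute_of_near_scalar (hiso : IsIso ρ) (hfaith : ∀ g : G, ρ g = 1 → g = 1) (g h : G)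
    (c c' : ℂ) (hg : ‖ρ g - c • 1‖ < 1 / 2) (hh : ‖ρ h - c' • 1‖ < 1 / 2) : g * h = h * g := by
  obtain ⟨K, hK⟩ := exists_iter_eq_one hiso hfaith g h c c' hg
  -- closeness of the iterates
  have hclose : ∀ k : ℕ, ‖ρ (iter g h (k + 1)) - (1 : ℂ) • 1‖ < 1 / 2 := by
    intro k
    rw [one_smul]
    have h1 := norm_iter_le hiso g h c c' k
    have hq0 : 0 ≤ 2 * ‖ρ g - c • 1‖ := by positivity
    have hq1 : 2 * ‖ρ g - c • 1‖ ≤ 1 := by linarith
    have h2 : (2 * ‖ρ g - c • 1‖) ^ (k + 1) ≤ 1 := pow_le_one₀ hq0 hq1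
    have h3 : (2 * ‖ρ g - c • 1‖) ^ (k + 1) * ‖ρ h - c' • 1‖ ≤ 1 * ‖ρ h - c' • 1‖ :=
      mul_le_mul_of_nonneg_right h2 (norm_nonneg _)
    linarith
  -- downward induction
  have hstep : ∀ k : ℕ, iter g h (k + 1 + 1) = 1 → iter g h (k + 1) = 1 := by
    intro k hk
    rw [iter_succ]
    rcases Nat.eq_zero_or_pos k with h0 | h0
    · subst h0
      apply frobenius_lemma hiso hfaith g (iter g h 0) c' hh
      rw [iter_succ g h (0 + 1), iter_succ g h 0] at hk
      have : g * (g * iter g h 0 * g⁻¹ * (iter g h 0)⁻¹) * g⁻¹ *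
          (g * iter g h 0 * g⁻¹ * (iter g h 0)⁻¹)⁻¹ = 1 := hk
      have h2 := mul_inv_eq_one.mp this
      calc g * (g * iter g h 0 * g⁻¹ * (iter g h 0)⁻¹)
          = (g * (g * iter g h 0 * g⁻¹ * (iter g h 0)⁻¹) * g⁻¹) * g := by group
        _ = _ := by rw [h2]
    · obtain ⟨j, rfl⟩ : ∃ j, k = j + 1 := ⟨k - 1, by omega⟩
      apply frobenius_lemma hiso hfaith g (iter g h (j + 1)) 1 (hclose j)
      rw [iter_succ g h (j + 1 + 1), iter_succ g h (j + 1)] at hk
      have h2 := mul_inv_eq_one.mp hk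
      calc g * (g * iter g h (j + 1) * g⁻¹ * (iter g h (j + 1))⁻¹)
          = (g * (g * iter g h (j + 1) * g⁻¹ * (iter g h (j + 1))⁻¹) * g⁻¹) * g := by group
        _ = _ := by rw [h2]
  have hall : ∀ K : ℕ, iter g h (K + 1) = 1 → iter g h 1 = 1 := by
    intro K
    induction K with
    | zero => exact fun h0 => h0
    | succ K ih => exact fun h0 => ih (hstep K h0)
  have h1 := hall K hK
  rw [iter_succ, iter_zero] at h1
  have h2 := mul_inv_eq_one.mp h1
  calc g * h = (g * h * g⁻¹) * g := by group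
    _ = h * g := by rw [h2]

variable (ρ)

/-- the elements which are close to scalar operators -/
def nearScalar : Set G := {g | ∃ c : ℂ, ‖ρ g - c • 1‖ < 1 / 2}

/-- the subgroup generated by the elements close to scalars -/
def frobSubgroup : Subgroup G := Subgroup.closure (nearScalar ρ)

variable {ρ}

theorem normal_closure_of_conj_invariant (S : Set G)
    (hS : ∀ (g s : G), s ∈ S → g * s * g⁻¹ ∈ S) : (Subgroup.closure S).Normal := by
  constructor
  intro n hn g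
  induction hn using Subgroup.closure_induction with
  | mem x hx => exact Subgroup.subset_closure (hS g x hx)
  | one => simp
  | mul x y _ _ hx hy =>
    have : g * (x * y) * g⁻¹ = (g * x * g⁻¹) * (g * y * g⁻¹) := by group
    rw [this]; exact mul_mem hx hy
  | inv x _ hx =>
    have : g * x⁻¹ * g⁻¹ = (g * x * g⁻¹)⁻¹ := by group
    rw [this]; exact inv_mem hx

theorem comm_closure_of_comm (S : Set G) (hS : ∀ x ∈ S, ∀ y ∈ S, x * y = y * x) :
    ∀ x ∈ Subgroup.closure S, ∀ y ∈ Subgroup.closure S, x * y = y * x := by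
  intro x hx y hy
  induction hx, hy using Subgroup.closure_induction₂ with
  | mem x y hx hy => exact hS x hx y hy
  | one_left x hx => simp
  | one_right x hx => simp
  | mul_left x y z _ _ _ h1 h2 =>
    calc x * y * z = x * (y * z) := mul_assoc _ _ _
      _ = x * (z * y) := by rw [h2]
      _ = (x * z) * y := (mul_assoc _ _ _).symm
      _ = (z * x) * y := by rw [h1]
      _ = z * (x * y) := mul_assoc _ _ _
  | mul_right y z x _ _ _ h1 h2 =>
    calc x * (y * z) = (x * y) * z := (mul_assoc _ _ _).symm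
      _ = (y * x) * z := by rw [h1]
      _ = y * (x * z) := mul_assoc _ _ _
      _ = y * (z * x) := by rw [h2]
      _ = y * z * x := (mul_assoc _ _ _).symm
  | inv_left x y _ _ h =>
    calc x⁻¹ * y = x⁻¹ * (y * x) * x⁻¹ := by group
      _ = x⁻¹ * (x * y) * x⁻¹ := by rw [h]
      _ = y * x⁻¹ := by group
  | inv_right x y _ _ h =>
    calc x * y⁻¹ = y⁻¹ * (y * x) * y⁻¹ := by group
      _ = y⁻¹ * (x * y) * y⁻¹ := by rw [h]
      _ = y⁻¹ * x := by group

theorem frobSubgroup_normal (hiso : IsIso ρ) : (frobSubgroup ρ).Normal := by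
  apply normal_closure_of_conj_invariant
  rintro g s ⟨c, hc⟩
  exact ⟨c, lt_of_le_of_lt (norm_conj_le hiso g s c) hc⟩

theorem frobSubgroup_comm (hiso : IsIso ρ) (hfaith : ∀ g : G, ρ g = 1 → g = 1) :
    ∀ x ∈ frobSubgroup ρ, ∀ y ∈ frobSubgroup ρ, x * y = y * x := by
  apply comm_closure_of_comm
  rintro x ⟨c, hc⟩ y ⟨c', hc'⟩
  exact commute_of_near_scalar hiso hfaith x y c c' hc hc'

theorem mem_frobSubgroup {g : G} (c : ℂ) (h : ‖ρ g - c • 1‖ < 1 / 2) : g ∈ frobSubgroup ρ :=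
  Subgroup.subset_closure ⟨c, h⟩

end Cfsg.Agent.Lib.Helper74_JordanNorm
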