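import Mathlib
import Cfsg.Agent.Lib.Helper74_JordanNorm

/-!
# Blichfeldt's sixty degree lemma (helper15)

Let the finite group `G` act irreducibly by isometries on a complex inner product space `W`,
and let `y ∈ G` be an element of finite order, with an eigenvalue `ε`, such that the numerical
range of `conj ε • ρ y` lies strictly to the right of `1/2` (for a unitary operator: every
eigenvalue of `y` is at an angle of less than 60 degrees from `ε`).  If `G` is the normal closure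
of `y` (for instance if `G` is simple), then `y` acts as the scalar `ε`.

The proof is a closest pair argument on the orbit of a vector fixed (up to `ε`) by as many
conjugates of `y` as possible.
-/

set_option autoImplicit false
set_option linter.unusedSectionVars false
set_option linter.unusedVariables false

namespace Cfsg.Agent.Lib.Helper15_Blichfeldt

open Cfsg.Agent.Lib.Helper74_JordanNorm
open scoped ComplexConjugate

variable {G : Type*} [Group G]
variable {W : Type*} [NormedAddCommGroup W] [InnerProductSpace ℂ W]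
variable {ρ : G →* (W →L[ℂ] W)}

/-- isometries preserve the inner product -/
theorem inner_map (hiso : IsIso ρ) (g : G) (u v : W) :
    inner ℂ (ρ g u) (ρ g v) = inner ℂ u v :=
  (LinearMap.norm_map_iff_inner_map_map (ρ g)).mp (fun w => hiso g w) u v

theorem map_inv_map (g : G) (u : W) : ρ g⁻¹ (ρ g u) = u := by
  have h : (ρ g⁻¹ * ρ g) u = u := by
    rw [← map_mul, inv_mul_cancel, map_one]; rfl
  exact h

theorem map_map_inv (g : G) (u : W) : ρ g (ρ g⁻¹ u) = u := by
  have h : (ρ g * ρ g⁻¹) u = u := by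
    rw [← map_mul, mul_inv_cancel, map_one]; rfl
  exact h

theorem map_mul_apply (g h : G) (u : W) : ρ (g * h) u = ρ g (ρ h u) := by
  rw [map_mul]; rfl

/-- the conjugates of `y` acting on `v` as the scalar `ε` -/
def T (ρ : G →* (W →L[ℂ] W)) (y : G) (ε : ℂ) (v : W) : Set G :=
  {z | IsConj y z ∧ ρ z v = ε • v}

theorem T_smul (y : G) (ε : ℂ) (c : ℂ) (hc : c ≠ 0) (v : W) :
    T ρ y ε (c • v) = T ρ y ε v := by
  ext z
  simp only [T, Set.mem_ofPred_eq]
  constructor
  · rintro ⟨h1, h2⟩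
    refine ⟨h1, ?_⟩
    rw [map_smul, smul_comm] at h2
    exact smul_right_injective W hc h2
  · rintro ⟨h1, h2⟩
    refine ⟨h1, ?_⟩
    rw [map_smul, h2, smul_comm]

theorem mem_T_map (y : G) (ε : ℂ) (g z : G) (v : W) :
    z ∈ T ρ y ε (ρ g v) ↔ g⁻¹ * z * g ∈ T ρ y ε v := by
  simp only [T, Set.mem_ofPred_eq]
  constructor
  · rintro ⟨h1, h2⟩
    refine ⟨?_, ?_⟩
    · rw [isConj_iff] at h1 ⊢
      obtain ⟨c, hc⟩ := h1
      refine ⟨g⁻¹ * c, ?_⟩
      rw [← hc]; group
    · rw [map_mul_apply, map_mul_apply, h2, map_smul, map_inv_map]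
  · rintro ⟨h1, h2⟩
    refine ⟨?_, ?_⟩
    · rw [isConj_iff] at h1 ⊢
      obtain ⟨c, hc⟩ := h1
      refine ⟨g * c, ?_⟩
      have : z = g * (g⁻¹ * z * g) * g⁻¹ := by group
      rw [this, ← hc]; group
    · rw [map_mul_apply, map_mul_apply] at h2
      have h3 := congrArg (ρ g) h2
      rw [map_map_inv, map_smul] at h3
      exact h3


/-- `T` of a translate has the same number of elements -/
theorem ncard_T_map [Finite G] (y : G) (ε : ℂ) (g : G) (v : W) :
    (T ρ y ε (ρ g v)).ncard = (T ρ y ε v).ncard := by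
  have h : T ρ y ε (ρ g v) = (fun z => g * z * g⁻¹) '' (T ρ y ε v) := by
    ext z
    rw [mem_T_map]
    constructor
    · intro hz
      exact ⟨g⁻¹ * z * g, hz, by group⟩
    · rintro ⟨w, hw, rfl⟩
      have : g⁻¹ * (g * w * g⁻¹) * g = w := by group
      rw [this]; exact hw
  rw [h]
  apply Set.ncard_image_of_injective
  intro a b hab
  simpa using hab

/-- the key inequality of the closest pair argument -/
theorem key_ineq (hiso : IsIso ρ) (z : G) (ε : ℂ) (hε : ‖ε‖ = 1) (a b : W)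
    (ha : ‖a‖ = 1) (hb : ‖b‖ = 1) (hza : ρ z a = ε • a)
    (hH : ∀ u : W, u ≠ 0 → ‖u‖ ^ 2 / 2 < (conj ε * inner ℂ u (ρ z u)).re)
    (hne : b - inner ℂ a b • a ≠ 0) :
    ‖inner ℂ a b‖ < ‖inner ℂ (ρ z b) b‖ := by
  set α : ℂ := inner ℂ a b with hα
  set u : W := b - α • a with hu
  have haa : inner ℂ a a = (1 : ℂ) := by
    rw [inner_self_eq_norm_sq_to_K, ha]; simp
  have hau : inner ℂ a u = 0 := by
    rw [hu, inner_sub_right, inner_smul_right, haa, mul_one, ← hα, sub_self]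
  have hua : inner ℂ u a = 0 := by
    rw [← inner_conj_symm, hau, map_zero]
  have hεε : conj ε * ε = 1 := by
    rw [Complex.conj_mul', hε]; simp
  have hε0 : ε ≠ 0 := by
    intro h; rw [h] at hε; simp at hε
  -- `ρ z⁻¹ a = ε⁻¹ • a`
  have hzinv : ρ z⁻¹ a = ε⁻¹ • a := by
    have h1 := congrArg (ρ z⁻¹) hza
    rw [map_inv_map, map_smul] at h1
    rw [h1, smul_smul, inv_mul_cancel₀ hε0, one_smul, ← h1]
  have hazu : inner ℂ a (ρ z u) = 0 := by
    have h1 := inner_map hiso z⁻¹ a (ρ z u)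
    rw [map_inv_map, hzinv, inner_smul_left, hau, mul_zero] at h1
    exact h1.symm
  have hb' : b = α • a + u := by rw [hu]; abel
  have hzb : ρ z b = (α * ε) • a + ρ z u := by
    conv_lhs => rw [hb']
    rw [map_add, map_smul, hza, smul_smul]
  -- the inner product
  have hinner : inner ℂ b (ρ z b) = (conj α * α) * ε + inner ℂ u (ρ z u) := by
    rw [hzb]
    conv_lhs => rw [hb']
    rw [inner_add_left, inner_add_right, inner_add_right, inner_smul_left, inner_smul_left,
      inner_smul_right, inner_smul_right, haa, hazu, hua]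
    ring
  -- norms
  have hnorm : ‖α‖ ^ 2 + ‖u‖ ^ 2 = 1 := by
    have h1 : ‖b‖ ^ 2 = ‖α • a‖ ^ 2 + ‖u‖ ^ 2 := by
      conv_lhs => rw [hb']
      rw [pow_two, pow_two, pow_two]
      apply norm_add_sq_eq_norm_sq_add_norm_sq_of_inner_eq_zero (𝕜 := ℂ)
      rw [inner_smul_left, hau, mul_zero]
    rw [hb, norm_smul, ha, mul_one] at h1
    linarith
  have hstrict := hH u hne
  have hre : (conj ε * inner ℂ b (ρ z b)).re = ‖α‖ ^ 2 + (conj ε * inner ℂ u (ρ z u)).re := by
    rw [hinner, mul_add, ← mul_assoc, mul_comm (conj ε), mul_assoc, hεε, mul_one,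
      Complex.add_re, Complex.conj_mul']
    norm_cast
  have h2 : ‖α‖ < (conj ε * inner ℂ b (ρ z b)).re := by
    rw [hre]
    nlinarith [sq_nonneg (‖α‖ - 1), norm_nonneg α]
  have h3 : (conj ε * inner ℂ b (ρ z b)).re ≤ ‖inner ℂ (ρ z b) b‖ := by
    calc (conj ε * inner ℂ b (ρ z b)).re ≤ ‖conj ε * inner ℂ b (ρ z b)‖ := Complex.re_le_norm _
      _ = ‖inner ℂ b (ρ z b)‖ := by
          rw [norm_mul, RCLike.norm_conj, hε, one_mul]
      _ = ‖inner ℂ (ρ z b) b‖ := by
          rw [← inner_conj_symm, RCLike.norm_conj]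
  linarith


/-- the averaging vector -/
noncomputable def Q (ρ : G →* (W →L[ℂ] W)) (z : G) (ε : ℂ) (N : ℕ) (b : W) : W :=
  ∑ k ∈ Finset.range N, (conj ε) ^ k • ρ (z ^ k) b

theorem map_Q (z : G) (ε : ℂ) (hε : ‖ε‖ = 1) (N : ℕ) (hz : z ^ N = 1) (hεN : ε ^ N = 1)
    (b : W) : ρ z (Q ρ z ε N b) = ε • Q ρ z ε N b := by
  have hεε : ε * conj ε = 1 := by
    rw [Complex.mul_conj']; rw [hε]; simp
  unfold Q
  rw [map_sum, Finset.smul_sum]
  have h1 : ∀ k ∈ Finset.range N, ρ z ((conj ε) ^ k • ρ (z ^ k) b) =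
      ε • ((conj ε) ^ (k + 1) • ρ (z ^ (k + 1)) b) := by
    intro k _
    have hsc : (conj ε) ^ k = ε * (conj ε) ^ (k + 1) := by
      rw [pow_succ, mul_comm ((conj ε) ^ k), ← mul_assoc, hεε, one_mul]
    rw [map_smul, ← map_mul_apply, ← pow_succ', smul_smul, ← hsc]
  rw [Finset.sum_congr rfl h1, ← Finset.smul_sum, ← Finset.smul_sum]
  congr 1
  have h2 := Finset.sum_range_succ (fun k => (conj ε) ^ k • ρ (z ^ k) b) N
  have h3 := Finset.sum_range_succ' (fun k => (conj ε) ^ k • ρ (z ^ k) b) N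
  rw [h2] at h3
  have h4 : (conj ε) ^ N • ρ (z ^ N) b = (conj ε) ^ 0 • ρ (z ^ 0) b := by
    rw [hz, ← map_pow, hεN, map_one, pow_zero, pow_zero]
  rw [h4] at h3
  exact (add_right_cancel h3).symm

theorem map_Q_of_mem (y z : G) (ε : ℂ) (N : ℕ) (b : W)
    (hnorm : ∀ w ∈ T ρ y ε b, z⁻¹ * w * z ∈ T ρ y ε b) (w : G) (hw : w ∈ T ρ y ε b) :
    ρ w (Q ρ z ε N b) = ε • Q ρ z ε N b := by
  have hpow : ∀ k : ℕ, ∀ w ∈ T ρ y ε b, (z ^ k)⁻¹ * w * z ^ k ∈ T ρ y ε b := by
    intro k
    induction k with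
    | zero => intro w hw; simpa using hw
    | succ k ih =>
      intro w hw
      have h1 := hnorm _ (ih w hw)
      have h2 : z⁻¹ * ((z ^ k)⁻¹ * w * z ^ k) * z = (z ^ (k + 1))⁻¹ * w * z ^ (k + 1) := by
        rw [pow_succ]; group
      rwa [h2] at h1
  unfold Q
  rw [map_sum, Finset.smul_sum]
  apply Finset.sum_congr rfl
  intro k _
  have h1 : w * z ^ k = z ^ k * ((z ^ k)⁻¹ * w * z ^ k) := by group
  rw [map_smul, ← map_mul_apply, h1, map_mul_apply, (hpow k w hw).2, map_smul, smul_comm]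

theorem inner_Q (hiso : IsIso ρ) (z : G) (ε : ℂ) (N : ℕ) (a b : W) (hza : ρ z a = ε • a) :
    inner ℂ a (Q ρ z ε N b) = (N : ℂ) * inner ℂ a b := by
  have hpow : ∀ k : ℕ, ρ (z ^ k) a = ε ^ k • a := by
    intro k
    induction k with
    | zero => simp
    | succ k ih =>
      rw [pow_succ, map_mul_apply, hza, map_smul, ih, smul_smul, pow_succ, mul_comm]
  unfold Q
  rw [inner_sum]
  have h1 : ∀ k ∈ Finset.range N, inner ℂ a ((conj ε) ^ k • ρ (z ^ k) b) = inner ℂ a b := by
    intro k _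
    have h2 := inner_map hiso (z ^ k) a b
    rw [hpow k, inner_smul_left] at h2
    rw [inner_smul_right, ← h2, map_pow (starRingEnd ℂ) ε k]
  rw [Finset.sum_congr rfl h1, Finset.sum_const, Finset.card_range, nsmul_eq_mul]


/-- **Blichfeldt's sixty degree lemma**, for a group that is the normal closure of `y`. -/
theorem scalar_of_sixty [Finite G] (hiso : IsIso ρ)
    (hirr : ∀ U : Submodule ℂ W, (∀ g : G, ∀ u ∈ U, ρ g u ∈ U) → U = ⊥ ∨ U = ⊤)
    (y : G) (N : ℕ) (hN : 0 < N) (hy : y ^ N = 1) (ε : ℂ) (hεN : ε ^ N = 1)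
    (hev : ∃ v : W, v ≠ 0 ∧ ρ y v = ε • v)
    (hH : ∀ u : W, u ≠ 0 → ‖u‖ ^ 2 / 2 < (conj ε * inner ℂ u (ρ y u)).re)
    (hgen : Subgroup.normalClosure {y} = ⊤) :
    ρ y = ε • 1 := by
  classical
  have hε : ‖ε‖ = 1 := Complex.norm_eq_one_of_pow_eq_one hεN hN.ne'
  -- the hypotheses pass to conjugates
  have hHc : ∀ z, IsConj y z → ∀ u : W, u ≠ 0 →
      ‖u‖ ^ 2 / 2 < (conj ε * inner ℂ u (ρ z u)).re := by
    intro z hz u hu
    rw [isConj_iff] at hz
    obtain ⟨c, rfl⟩ := hz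
    have hne : ρ c⁻¹ u ≠ 0 := by
      intro h0
      apply hu
      have := congrArg (ρ c) h0
      rwa [map_map_inv, map_zero] at this
    have h1 := hH (ρ c⁻¹ u) hne
    rw [hiso c⁻¹ u] at h1
    have h2 : inner ℂ (ρ c⁻¹ u) (ρ y (ρ c⁻¹ u)) = inner ℂ u (ρ (c * y * c⁻¹) u) := by
      rw [← inner_map hiso c (ρ c⁻¹ u), map_map_inv, map_mul_apply, map_mul_apply]
    rwa [h2] at h1
  have hzN : ∀ z, IsConj y z → z ^ N = 1 := by
    intro z hz
    rw [isConj_iff] at hz
    obtain ⟨c, rfl⟩ := hz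
    rw [conj_pow, hy]; group
  -- a vector fixed by as many conjugates as possible
  obtain ⟨a₀, ha₀, hmax⟩ : ∃ a₀ : W, a₀ ≠ 0 ∧
      ∀ v : W, v ≠ 0 → (T ρ y ε v).ncard ≤ (T ρ y ε a₀).ncard := by
    let S : Set ℕ := {k | ∃ v : W, v ≠ 0 ∧ (T ρ y ε v).ncard = k}
    have hne : S.Nonempty := by
      obtain ⟨v, hv, _⟩ := hev
      exact ⟨_, v, hv, rfl⟩
    have hbdd : BddAbove S := by
      refine ⟨Nat.card G, ?_⟩
      rintro k ⟨v, _, rfl⟩
      exact Set.ncard_le_card _
    obtain ⟨a₀, ha₀, hk⟩ := Nat.sSup_mem hne hbdd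
    refine ⟨a₀, ha₀, fun v hv => ?_⟩
    rw [hk]
    exact le_csSup hbdd ⟨v, hv, rfl⟩
  -- normalise
  set a₁ : W := ((‖a₀‖ : ℂ)⁻¹) • a₀ with ha₁
  have hna₁ : ‖a₁‖ = 1 := norm_smul_inv_norm ha₀
  have hTa₁ : T ρ y ε a₁ = T ρ y ε a₀ := by
    apply T_smul
    apply inv_ne_zero
    exact_mod_cast (norm_ne_zero_iff.mpr ha₀)
  set M : ℕ := (T ρ y ε a₁).ncard with hM
  have hmax' : ∀ v : W, v ≠ 0 → (T ρ y ε v).ncard ≤ M := by
    intro v hv
    rw [hM, hTa₁]
    exact hmax v hv
  have hXnorm : ∀ g : G, ‖ρ g a₁‖ = 1 := fun g => by rw [hiso g a₁, hna₁]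
  have hXcard : ∀ g : G, (T ρ y ε (ρ g a₁)).ncard = M := fun g => ncard_T_map y ε g a₁
  have hXne : ∀ g : G, ρ g a₁ ≠ 0 := by
    intro g h0
    have := hXnorm g
    rw [h0, norm_zero] at this
    exact zero_ne_one this
  have hMpos : 0 < M := by
    obtain ⟨v, hv, hyv⟩ := hev
    have h1 : y ∈ T ρ y ε v := ⟨IsConj.refl y, hyv⟩
    have h2 : 0 < (T ρ y ε v).ncard := (Set.ncard_pos (Set.toFinite _)).mpr ⟨y, h1⟩
    exact lt_of_lt_of_le h2 (hmax' v hv)
  -- orthogonality of vectors of the orbit with different `T`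
  have horth : ∀ g h : G, T ρ y ε (ρ g a₁) ≠ T ρ y ε (ρ h a₁) →
      inner ℂ (ρ g a₁) (ρ h a₁) = 0 := by
    intro g h hgh
    let P : Set (G × G) := {gh | T ρ y ε (ρ gh.1 a₁) ≠ T ρ y ε (ρ gh.2 a₁)}
    have hPfin : P.Finite := Set.toFinite P
    have hPne : P.Nonempty := ⟨(g, h), hgh⟩
    obtain ⟨⟨g₀, h₀⟩, hmem, hmaxP⟩ := Set.exists_max_image P
      (fun gh : G × G => ‖inner ℂ (ρ gh.1 a₁) (ρ gh.2 a₁)‖) hPfin hPne
    have hmem' : T ρ y ε (ρ g₀ a₁) ≠ T ρ y ε (ρ h₀ a₁) := hmem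
    suffices hzero : inner ℂ (ρ g₀ a₁) (ρ h₀ a₁) = 0 by
      have h1 := hmaxP (g, h) hgh
      simp only [hzero, norm_zero] at h1
      exact norm_le_zero_iff.mp h1
    by_contra hnz
    set a : W := ρ g₀ a₁ with ha
    set b : W := ρ h₀ a₁ with hb
    -- an element of `T a` outside `T b`
    obtain ⟨z, hza, hzb⟩ : ∃ z, z ∈ T ρ y ε a ∧ z ∉ T ρ y ε b := by
      by_contra hcon
      push Not at hcon
      apply hmem'
      apply Set.eq_of_subset_of_ncard_le hcon _ (Set.toFinite _)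
      rw [hXcard, hXcard]
    have hne : b - inner ℂ a b • a ≠ 0 := by
      intro h0
      apply hmem'
      have h1 : b = inner ℂ a b • a := sub_eq_zero.mp h0
      conv_rhs => rw [h1]
      exact (T_smul y ε _ hnz a).symm
    have hkey := key_ineq hiso z ε hε a b (hXnorm g₀) (hXnorm h₀) hza.2 (hHc z hza.1) hne
    have hzb_eq : ρ z b = ρ (z * h₀) a₁ := by rw [hb, map_mul_apply]
    have hTeq : T ρ y ε (ρ z b) = T ρ y ε b := by
      by_contra hne2
      have h1 := hmaxP (z * h₀, h₀) (by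
        show T ρ y ε (ρ (z * h₀) a₁) ≠ T ρ y ε (ρ h₀ a₁)
        rw [← hzb_eq]; exact hne2)
      simp only at h1
      rw [← hzb_eq] at h1
      exact absurd hkey (not_lt.mpr h1)
    have hnorm : ∀ w ∈ T ρ y ε b, z⁻¹ * w * z ∈ T ρ y ε b := by
      intro w hw
      rw [← hTeq] at hw
      exact (mem_T_map y ε z w b).mp hw
    -- the averaging vector vanishes
    have hQ0 : Q ρ z ε N b = 0 := by
      by_contra hQne
      have hsub : insert z (T ρ y ε b) ⊆ T ρ y ε (Q ρ z ε N b) := by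
        intro w hw
        rcases Set.mem_insert_iff.mp hw with rfl | hw
        · exact ⟨hza.1, map_Q w ε hε N (hzN w hza.1) hεN b⟩
        · exact ⟨hw.1, map_Q_of_mem y z ε N b hnorm w hw⟩
      have h1 := Set.ncard_le_ncard hsub (Set.toFinite _)
      rw [Set.ncard_insert_of_notMem hzb (Set.toFinite _), hXcard] at h1
      have h2 := hmax' _ hQne
      omega
    have h3 := inner_Q hiso z ε N a b hza.2
    rw [hQ0, inner_zero_right] at h3
    have hN0 : (N : ℂ) ≠ 0 := by exact_mod_cast hN.ne'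
    exact hnz ((mul_eq_zero.mp h3.symm).resolve_left hN0)
  -- every conjugate of `y` preserves `T` on the orbit
  have hpres : ∀ z, IsConj y z → ∀ g : G, T ρ y ε (ρ z (ρ g a₁)) = T ρ y ε (ρ g a₁) := by
    intro z hz g
    by_contra hne
    have h1 : inner ℂ (ρ (z * g) a₁) (ρ g a₁) = 0 := by
      apply horth
      rw [map_mul_apply]; exact hne
    have h2 := hHc z hz (ρ g a₁) (hXne g)
    rw [← map_mul_apply, ← inner_conj_symm, h1, map_zero, mul_zero, Complex.zero_re,
      hXnorm g] at h2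
    norm_num at h2
  -- hence so does the whole group
  let S : Subgroup G :=
    { carrier := {k | ∀ g : G, T ρ y ε (ρ k (ρ g a₁)) = T ρ y ε (ρ g a₁)}
      one_mem' := by intro g; rw [map_one]; rfl
      mul_mem' := by
        intro k l hk hl g
        rw [map_mul_apply, ← map_mul_apply l g, hk (l * g), map_mul_apply, hl g]
      inv_mem' := by
        intro k hk g
        have h1 := hk (k⁻¹ * g)
        rw [← map_mul_apply, mul_inv_cancel_left] at h1
        rw [← map_mul_apply]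
        exact h1.symm }
  have hStop : S = ⊤ := by
    rw [eq_top_iff, ← hgen]
    show Subgroup.closure (Group.conjugatesOfSet {y}) ≤ S
    rw [Subgroup.closure_le]
    intro w hw
    obtain ⟨a, ha, haw⟩ := Group.mem_conjugatesOfSet_iff.mp hw
    rw [Set.mem_singleton_iff] at ha
    subst ha
    exact fun g => hpres w haw g
  have hall : ∀ g : G, T ρ y ε (ρ g a₁) = T ρ y ε a₁ := by
    intro g
    have h1 : g ∈ S := by rw [hStop]; exact Subgroup.mem_top g
    have h2 := h1 1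
    rwa [map_one] at h2
  -- an element of `T a₁` acts as `ε` on the span of the orbit, which is everything
  obtain ⟨z₁, hz₁⟩ : (T ρ y ε a₁).Nonempty := (Set.ncard_pos (Set.toFinite _)).mp hMpos
  let U : Submodule ℂ W := Submodule.span ℂ (Set.range fun g : G => ρ g a₁)
  have hUinv : ∀ g : G, ∀ u ∈ U, ρ g u ∈ U := by
    intro g u hu
    induction hu using Submodule.span_induction with
    | mem x hx =>
      obtain ⟨k, rfl⟩ := hx
      apply Submodule.subset_span
      exact ⟨g * k, map_mul_apply g k a₁⟩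
    | zero => rw [map_zero]; exact U.zero_mem
    | add x x' _ _ hx hx' => rw [map_add]; exact U.add_mem hx hx'
    | smul c x _ hx => rw [map_smul]; exact U.smul_mem c hx
  have hUtop : U = ⊤ := by
    rcases hirr U hUinv with h | h
    · exfalso
      have h1 : ρ 1 a₁ ∈ U := Submodule.subset_span ⟨1, rfl⟩
      rw [h, Submodule.mem_bot] at h1
      exact hXne 1 h1
    · exact h
  have hz₁all : ∀ u ∈ U, ρ z₁ u = ε • u := by
    intro u hu
    induction hu using Submodule.span_induction with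
    | mem x hx =>
      obtain ⟨k, rfl⟩ := hx
      have h1 : z₁ ∈ T ρ y ε (ρ k a₁) := by rw [hall k]; exact hz₁
      exact h1.2
    | zero => rw [map_zero, smul_zero]
    | add x x' _ _ hx hx' => rw [map_add, hx, hx', smul_add]
    | smul c x _ hx => rw [map_smul, hx, smul_comm]
  have hz₁sc : ρ z₁ = ε • 1 := by
    ext u
    have hu : u ∈ U := by rw [hUtop]; exact Submodule.mem_top
    rw [hz₁all u hu]; rfl
  obtain ⟨c, hc⟩ := isConj_iff.mp hz₁.1
  have hyc : y = c⁻¹ * z₁ * c := by rw [← hc]; group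
  rw [hyc, map_mul, map_mul, hz₁sc]
  ext u
  simp only [ContinuousLinearMap.mul_apply, ContinuousLinearMap.smul_apply,
    ContinuousLinearMap.one_apply, map_smul]
  rw [map_inv_map]

end Cfsg.Agent.Lib.Helper15_Blichfeldt
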