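import Mathlib

/-!
# B6-PIGEON (helper15's S4484 market): Blichfeldt's pigeonhole

Among `p > 6^(m-1)` powers of at most `m` roots of unity some nontrivial power brings them all
within 60 degrees of the chosen one.  helper64.
-/

set_option autoImplicit false

namespace Cfsg.Agent.Lib.Helper64_B6_PIGEON

open scoped ComplexConjugate

/-- the sector (of width `π / 3`) of the argument of a complex number: a value in `{1, …, 6}` -/
noncomputable def sector (z : ℂ) : ℤ := ⌈(Complex.arg z + Real.pi) / (Real.pi / 3)⌉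

theorem sector_mem (z : ℂ) : sector z ∈ Finset.Icc (1 : ℤ) 6 := by
  have hpi := Real.pi_pos
  have hc : 0 < Real.pi / 3 := by positivity
  have h1 := Complex.neg_pi_lt_arg z
  have h2 := Complex.arg_le_pi z
  rw [Finset.mem_Icc]
  unfold sector
  constructor
  · have : (0 : ℝ) < (Complex.arg z + Real.pi) / (Real.pi / 3) := by
      apply div_pos _ hc
      linarith
    have h3 := Int.ceil_pos.mpr this
    omega
  · apply Int.ceil_le.mpr
    rw [div_le_iff₀ hc]
    push_cast
    linarith

/-- two unit complex numbers in the same sector are within 60 degrees of each other -/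
theorem re_of_sector_eq {z w : ℂ} (hz : ‖z‖ = 1) (hw : ‖w‖ = 1) (h : sector z = sector w) :
    1 / 2 < (z * conj w).re := by
  have hpi := Real.pi_pos
  have hc : 0 < Real.pi / 3 := by positivity
  set a := Complex.arg z with ha
  set b := Complex.arg w with hb
  set x := (a + Real.pi) / (Real.pi / 3) with hx
  set y := (b + Real.pi) / (Real.pi / 3) with hy
  have hax : a = x * (Real.pi / 3) - Real.pi := by
    rw [hx, div_mul_cancel₀ _ hc.ne']
    ring
  have hby : b = y * (Real.pi / 3) - Real.pi := by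
    rw [hy, div_mul_cancel₀ _ hc.ne']
    ring
  have h1 : x ≤ ((sector z : ℤ) : ℝ) := Int.le_ceil x
  have h2 : ((sector z : ℤ) : ℝ) < x + 1 := Int.ceil_lt_add_one x
  have h3 : y ≤ ((sector w : ℤ) : ℝ) := Int.le_ceil y
  have h4 : ((sector w : ℤ) : ℝ) < y + 1 := Int.ceil_lt_add_one y
  rw [h] at h1 h2
  have hxy1 : x - y < 1 := by linarith
  have hxy2 : -1 < x - y := by linarith
  have habs : |a - b| < Real.pi / 3 := by
    rw [abs_lt, hax, hby]
    constructor <;> nlinarith
  -- the real part is `cos (a - b)`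
  have hzre : z.re = Real.cos a := by
    have := Complex.norm_mul_cos_arg z
    rw [hz, one_mul] at this
    exact this.symm
  have hzim : z.im = Real.sin a := by
    have := Complex.norm_mul_sin_arg z
    rw [hz, one_mul] at this
    exact this.symm
  have hwre : w.re = Real.cos b := by
    have := Complex.norm_mul_cos_arg w
    rw [hw, one_mul] at this
    exact this.symm
  have hwim : w.im = Real.sin b := by
    have := Complex.norm_mul_sin_arg w
    rw [hw, one_mul] at this
    exact this.symm
  have hre : (z * conj w).re = Real.cos (a - b) := by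
    rw [Complex.mul_re, Complex.conj_re, Complex.conj_im, hzre, hzim, hwre, hwim, Real.cos_sub]
    ring
  rw [hre, ← Real.cos_abs, ← Real.cos_pi_div_three]
  apply Real.cos_lt_cos_of_nonneg_of_le_pi (abs_nonneg _) _ habs
  linarith

theorem pigeon (p : ℕ) (hp : p.Prime) (S : Finset ℂ) (hS : ∀ s ∈ S, s ^ p = 1)
    (ε : ℂ) (hε : ε ∈ S) (m : ℕ) (hm : S.card ≤ m) (hpm : 6 ^ (m - 1) < p) :
    ∃ k : ℕ, 0 < k ∧ k < p ∧ ∀ s ∈ S, 1 / 2 < (conj (ε ^ k) * s ^ k).re := by
  classical
  have hnorm : ∀ s ∈ S, ‖s‖ = 1 := fun s hs =>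
    Complex.norm_eq_one_of_pow_eq_one (hS s hs) hp.ne_zero
  have hεn : ‖ε‖ = 1 := hnorm ε hε
  -- `w s = conj ε * s` has norm one
  have hwn : ∀ s ∈ S, ∀ k : ℕ, ‖(conj ε * s) ^ k‖ = 1 := by
    intro s hs k
    rw [norm_pow, norm_mul, Complex.norm_conj, hεn, hnorm s hs, one_mul, one_pow]
  have hpow : ∀ (s : ℂ) (k : ℕ), conj (ε ^ k) * s ^ k = (conj ε * s) ^ k := by
    intro s k
    rw [map_pow, mul_pow]
  -- the record of `k`
  let rec_ : ℕ → (↥(S.erase ε) → ℤ) := fun k s => sector ((conj ε * (s : ℂ)) ^ k)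
  let t : Finset (↥(S.erase ε) → ℤ) := Fintype.piFinset fun _ => Finset.Icc (1 : ℤ) 6
  have htcard : t.card = 6 ^ (S.card - 1) := by
    rw [Fintype.card_piFinset, Finset.prod_const, Finset.card_univ, Fintype.card_coe,
      Finset.card_erase_of_mem hε]
    rfl
  have hlt : t.card < (Finset.range p).card := by
    rw [htcard, Finset.card_range]
    refine lt_of_le_of_lt ?_ hpm
    exact Nat.pow_le_pow_right (by norm_num) (by omega)
  have hmaps : ∀ k ∈ Finset.range p, rec_ k ∈ t := by
    intro k _
    rw [Fintype.mem_piFinset]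
    intro s
    exact sector_mem _
  obtain ⟨k₁, hk₁, k₂, hk₂, hne, hrec⟩ :=
    Finset.exists_ne_map_eq_of_card_lt_of_maps_to hlt hmaps
  rw [Finset.mem_range] at hk₁ hk₂
  -- the general step
  have hstep : ∀ a b : ℕ, a < b → b < p → rec_ a = rec_ b →
      ∃ k : ℕ, 0 < k ∧ k < p ∧ ∀ s ∈ S, 1 / 2 < (conj (ε ^ k) * s ^ k).re := by
    intro a b hab hbp hrec'
    refine ⟨b - a, by omega, by omega, ?_⟩
    intro s hs
    rw [hpow]
    by_cases hsε : s = ε
    · rw [hsε]
      have h1 : conj ε * ε = 1 := by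
        rw [Complex.conj_mul', hεn]
        norm_num
      rw [h1, one_pow, Complex.one_re]
      norm_num
    · have hs' : s ∈ S.erase ε := Finset.mem_erase.mpr ⟨hsε, hs⟩
      have h1 : sector ((conj ε * s) ^ b) = sector ((conj ε * s) ^ a) := by
        have := congrFun hrec' ⟨s, hs'⟩
        exact this.symm
      have h2 := re_of_sector_eq (hwn s hs b) (hwn s hs a) h1
      have h3 : (conj ε * s) ^ b * conj ((conj ε * s) ^ a) = (conj ε * s) ^ (b - a) := by
        have hb : b = (b - a) + a := by omega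
        conv_lhs => rw [hb, pow_add]
        rw [mul_assoc, Complex.mul_conj', hwn s hs a]
        norm_num
      rw [h3] at h2
      exact h2
  rcases lt_or_gt_of_ne hne with h | h
  · exact hstep k₁ k₂ h hk₂ hrec
  · exact hstep k₂ k₁ h hk₁ hrec.symm

end Cfsg.Agent.Lib.Helper64_B6_PIGEON
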