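import Mathlib
import Cfsg.Agent.Lib.Helper74_JordanNorm
import Cfsg.Agent.Lib.Helper74_GoingUp
import Cfsg.Agent.Lib.Helper74_LinAct

/-!
# Isotypic projections for a finite abelian group of isometries of an inner product space
(helper74)
-/

set_option autoImplicit false
set_option linter.unusedSectionVars false
set_option linter.unusedVariables false

namespace Cfsg.Agent.Lib.Helper74_JordanProj

open Cfsg.Agent.Lib.Helper74_JordanNorm
open scoped ComplexConjugate Classical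

section Pyth

variable {W : Type*} [NormedAddCommGroup W] [InnerProductSpace ℂ W]

/-- Pythagoras for a finite pairwise orthogonal family -/
theorem norm_sq_sum_of_orthogonal {ι : Type*} [Fintype ι] (x : ι → W)
    (horth : ∀ i j, i ≠ j → inner ℂ (x i) (x j) = 0) :
    ‖∑ i, x i‖ ^ 2 = ∑ i, ‖x i‖ ^ 2 := by
  have h1 : inner ℂ (∑ i, x i) (∑ i, x i) = ∑ i, inner ℂ (x i) (x i) := by
    rw [sum_inner]
    apply Finset.sum_congr rfl
    intro i _
    rw [inner_sum, Finset.sum_eq_single i]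
    · intro j _ hj
      exact horth i j (Ne.symm hj)
    · intro h
      exact absurd (Finset.mem_univ _) h
  have h2 := congrArg Complex.re h1
  rw [Complex.re_sum] at h2
  have h3 : ∀ y : W, ‖y‖ ^ 2 = (inner ℂ y y).re := fun y => (@inner_self_eq_norm_sq ℂ _ _ _ _ y).symm
  rw [h3, h2]
  apply Finset.sum_congr rfl
  intro i _
  rw [h3]

end Pyth

variable {Z : Type*} [Group Z] [Finite Z] (hcomm : ∀ a b : Z, a * b = b * a)
variable {W : Type*} [NormedAddCommGroup W] [InnerProductSpace ℂ W]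
variable (σ : Z →* (W →L[ℂ] W))

/-- the isotypic projection attached to a linear character -/
noncomputable def proj [Fintype Z] (lam : Z →* ℂˣ) : W →L[ℂ] W :=
  (Nat.card Z : ℂ)⁻¹ • ∑ z : Z, (((lam z)⁻¹ : ℂˣ) : ℂ) • σ z

theorem card_ne_zero : (Nat.card Z : ℂ) ≠ 0 := by
  rw [Nat.cast_ne_zero]; exact Nat.card_pos.ne'

include hcomm in
/-- the projections add up to the identity -/
theorem sum_proj [Fintype Z] [Fintype (Z →* ℂˣ)] : ∑ lam : Z →* ℂˣ, proj σ lam = 1 := by
  unfold proj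
  rw [← Finset.smul_sum, Finset.sum_comm]
  have h1 : ∀ z : Z, ∑ lam : Z →* ℂˣ, (((lam z)⁻¹ : ℂˣ) : ℂ) • σ z =
      (if z = 1 then (Nat.card Z : ℂ) else 0) • σ z := by
    intro z
    rw [← Finset.sum_smul]
    congr 1
    have h2 := Cfsg.Agent.Lib.Helper74_GoingUp.sum_dual_apply hcomm z⁻¹
    simp only [map_inv, inv_eq_one] at h2
    exact h2
  simp_rw [h1]
  rw [Finset.sum_eq_single (1 : Z)]
  · rw [if_pos rfl, map_one, smul_smul, inv_mul_cancel₀ card_ne_zero, one_smul]
  · intro z _ hz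
    rw [if_neg hz, zero_smul]
  · intro h
    exact absurd (Finset.mem_univ _) h

/-- the group acts on the image of a projection by the character -/
theorem mul_proj [Fintype Z] (lam : Z →* ℂˣ) (z₀ : Z) :
    σ z₀ * proj σ lam = ((lam z₀ : ℂˣ) : ℂ) • proj σ lam := by
  unfold proj
  rw [mul_smul_comm, smul_comm, Finset.mul_sum]
  congr 1
  rw [Finset.smul_sum]
  have h1 : ∑ z : Z, σ z₀ * ((((lam z)⁻¹ : ℂˣ) : ℂ) • σ z) =
      ∑ z : Z, (((lam z₀ : ℂˣ) : ℂ) * (((lam (z₀ * z))⁻¹ : ℂˣ) : ℂ)) • σ (z₀ * z) := by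
    apply Finset.sum_congr rfl
    intro z _
    rw [mul_smul_comm, ← map_mul]
    congr 1
    rw [map_mul, mul_inv_rev, ← Units.val_mul]
    congr 1
    rw [mul_comm (lam z₀), mul_assoc, inv_mul_cancel, mul_one]

  rw [h1]
  have h2 := Fintype.sum_equiv (Equiv.mulLeft z₀)
    (fun z => (((lam z₀ : ℂˣ) : ℂ) * (((lam (z₀ * z))⁻¹ : ℂˣ) : ℂ)) • σ (z₀ * z))
    (fun z => (((lam z₀ : ℂˣ) : ℂ) * (((lam z)⁻¹ : ℂˣ) : ℂ)) • σ z) (fun z => rfl)
  rw [h2]
  apply Finset.sum_congr rfl
  intro z _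
  rw [mul_smul]

theorem apply_proj [Fintype Z] (lam : Z →* ℂˣ) (z₀ : Z) (v : W) :
    σ z₀ (proj σ lam v) = ((lam z₀ : ℂˣ) : ℂ) • proj σ lam v := by
  have := congrArg (fun T : W →L[ℂ] W => T v) (mul_proj σ lam z₀)
  simpa using this

/-- different isotypic components are orthogonal -/
theorem inner_proj_eq_zero [Fintype Z] (hiso : IsIso σ) {lam mu : Z →* ℂˣ} (hne : lam ≠ mu)
    (v w : W) : inner ℂ (proj σ lam v) (proj σ mu w) = 0 := by
  obtain ⟨z₀, hz₀⟩ : ∃ z₀ : Z, lam z₀ ≠ mu z₀ := by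
    by_contra hcon
    push Not at hcon
    exact hne (MonoidHom.ext hcon)
  -- isometries preserve the inner product
  have hpres : ∀ x y : W, inner ℂ (σ z₀ x) (σ z₀ y) = inner ℂ x y := by
    intro x y
    exact (LinearMap.norm_map_iff_inner_map_map (σ z₀)).mp (fun u => hiso z₀ u) x y
  have h1 := hpres (proj σ lam v) (proj σ mu w)
  rw [apply_proj, apply_proj, inner_smul_left, inner_smul_right] at h1
  have h2 : conj ((lam z₀ : ℂˣ) : ℂ) * ((mu z₀ : ℂˣ) : ℂ) ≠ 1 := by
    rw [Cfsg.Agent.Lib.Helper74_LinAct.conj_hom]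
    intro h3
    apply hz₀
    have h4 : ((lam⁻¹ z₀ : ℂˣ) * mu z₀ : ℂˣ) = 1 := by
      apply Units.ext
      rw [Units.val_mul]
      exact h3
    rw [MonoidHom.inv_apply] at h4
    exact (inv_mul_eq_one.mp h4)
  by_contra h0
  apply h2
  have h5 : (conj ((lam z₀ : ℂˣ) : ℂ) * ((mu z₀ : ℂˣ) : ℂ)) *
      inner ℂ (proj σ lam v) (proj σ mu w) = 1 * inner ℂ (proj σ lam v) (proj σ mu w) := by
    rw [one_mul, mul_assoc]; exact h1
  exact mul_right_cancel₀ h0 h5

include hcomm in
/-- the distance of a group element to a scalar is governed by the characters that occur -/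
theorem norm_sub_smul_le [Fintype Z] [Fintype (Z →* ℂˣ)] (hiso : IsIso σ) (u : Z) (c : ℂ) (r : ℝ)
    (hr : 0 ≤ r)
    (hbound : ∀ lam : Z →* ℂˣ, proj σ lam ≠ 0 → ‖((lam u : ℂˣ) : ℂ) - c‖ ≤ r) :
    ‖σ u - c • 1‖ ≤ r := by
  apply ContinuousLinearMap.opNorm_le_bound _ hr
  intro v
  have hv : v = ∑ lam : Z →* ℂˣ, proj σ lam v := by
    have := congrArg (fun T : W →L[ℂ] W => T v) (sum_proj hcomm σ)
    simp only [ContinuousLinearMap.coe_sum', Finset.sum_apply, ContinuousLinearMap.one_apply]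
      at this
    exact this.symm
  have h1 : (σ u - c • 1) v = ∑ lam : Z →* ℂˣ, (((lam u : ℂˣ) : ℂ) - c) • proj σ lam v := by
    have h2 : (σ u - c • 1) v = σ u v - c • v := by simp
    rw [h2]
    conv_lhs => rw [hv]
    rw [map_sum, Finset.smul_sum, ← Finset.sum_sub_distrib]
    apply Finset.sum_congr rfl
    intro lam _
    rw [apply_proj, sub_smul]
  have horth : ∀ lam mu : Z →* ℂˣ, lam ≠ mu →
      inner ℂ ((((lam u : ℂˣ) : ℂ) - c) • proj σ lam v) ((((mu u : ℂˣ) : ℂ) - c) • proj σ mu v) =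
        0 := by
    intro lam mu hne
    rw [inner_smul_left, inner_smul_right, inner_proj_eq_zero σ hiso hne, mul_zero, mul_zero]
  have horth' : ∀ lam mu : Z →* ℂˣ, lam ≠ mu →
      inner ℂ (proj σ lam v) (proj σ mu v) = 0 := fun lam mu hne =>
    inner_proj_eq_zero σ hiso hne v v
  have h3 : ‖(σ u - c • 1) v‖ ^ 2 ≤ (r * ‖v‖) ^ 2 := by
    rw [h1, norm_sq_sum_of_orthogonal _ horth, mul_pow]
    have h4 : ‖v‖ ^ 2 = ∑ lam : Z →* ℂˣ, ‖proj σ lam v‖ ^ 2 := by
      conv_lhs => rw [hv]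
      exact norm_sq_sum_of_orthogonal _ horth'
    rw [h4, Finset.mul_sum]
    apply Finset.sum_le_sum
    intro lam _
    rw [norm_smul, mul_pow]
    by_cases h0 : proj σ lam = 0
    · rw [h0]
      simp
    · apply mul_le_mul_of_nonneg_right _ (by positivity)
      exact pow_le_pow_left₀ (norm_nonneg _) (hbound lam h0) 2
  exact le_of_sq_le_sq h3 (by positivity)

/-- the number of linear characters that occur is at most the dimension -/
theorem card_occurring_le [Fintype Z] [Fintype (Z →* ℂˣ)] [FiniteDimensional ℂ W]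
    (hiso : IsIso σ) :
    (Finset.univ.filter (fun lam : Z →* ℂˣ => proj σ lam ≠ 0)).card ≤ Module.finrank ℂ W := by
  set S := Finset.univ.filter (fun lam : Z →* ℂˣ => proj σ lam ≠ 0) with hS
  have hex : ∀ lam : S, ∃ v : W, proj σ (lam : Z →* ℂˣ) v ≠ 0 := by
    intro lam
    have h1 : proj σ (lam : Z →* ℂˣ) ≠ 0 := (Finset.mem_filter.mp lam.2).2
    by_contra hcon
    push Not at hcon
    apply h1
    ext v
    simpa using hcon v
  choose v hv using hex
  have hli : LinearIndependent ℂ (fun lam : S => proj σ (lam : Z →* ℂˣ) (v lam)) := by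
    apply linearIndependent_of_ne_zero_of_inner_eq_zero hv
    intro lam mu hne
    exact inner_proj_eq_zero σ hiso (fun h0 => hne (Subtype.ext h0)) _ _
  have := hli.fintype_card_le_finrank
  rwa [Fintype.card_coe] at this

end Cfsg.Agent.Lib.Helper74_JordanProj
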