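import Mathlib
import Cfsg.Prelude.Def_Blocks
import Cfsg.Agent.Lib.Helper74_JordanProj

/-!
# S4484 market (architect helper15): package B6-MULT (helper74)

Multiplicities of the linear characters of a finite abelian group of isometries of a finite
dimensional space: `c lam = finrank (range (proj σ lam))`, computed as the trace of the
idempotent `proj σ lam`.
-/

set_option autoImplicit false
set_option linter.unusedVariables false

namespace Cfsg.Agent.Lib.Helper74_B6_MULT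

open Cfsg Cfsg.Agent.Lib.Helper74_JordanNorm Cfsg.Agent.Lib.Helper74_JordanProj
open scoped ComplexConjugate

variable {Z : Type*} [Group Z] [Fintype Z]
variable {W : Type*} [NormedAddCommGroup W] [InnerProductSpace ℂ W]

/-- `proj σ lam` is idempotent. -/
theorem proj_mul_proj (σ : Z →* (W →L[ℂ] W)) (lam : Z →* ℂˣ) :
    proj σ lam * proj σ lam = proj σ lam := by
  have hcard : (Nat.card Z : ℂ) ≠ 0 := by
    rw [Nat.cast_ne_zero]; exact Nat.card_pos.ne'
  conv_lhs => lhs; unfold proj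
  rw [smul_mul_assoc, Finset.sum_mul]
  have h1 : ∀ z : Z, ((((lam z)⁻¹ : ℂˣ) : ℂ) • σ z) * proj σ lam = proj σ lam := by
    intro z
    rw [smul_mul_assoc, mul_proj, smul_smul, ← Units.val_mul, inv_mul_cancel, Units.val_one,
      one_smul]
  rw [Finset.sum_congr rfl (fun z _ => h1 z), Finset.sum_const, Finset.card_univ,
    ← Nat.card_eq_fintype_card, ← Nat.cast_smul_eq_nsmul ℂ, smul_smul,
    inv_mul_cancel₀ hcard, one_smul]

/-- The trace of `proj σ lam` by linearity. -/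
theorem trace_proj [FiniteDimensional ℂ W] (σ : Z →* (W →L[ℂ] W)) (lam : Z →* ℂˣ) :
    LinearMap.trace ℂ W ((proj σ lam : W →L[ℂ] W) : W →ₗ[ℂ] W) =
      (Fintype.card Z : ℂ)⁻¹ *
        ∑ z : Z, (((lam z)⁻¹ : ℂˣ) : ℂ) *
          LinearMap.trace ℂ W ((σ z : W →L[ℂ] W) : W →ₗ[ℂ] W) := by
  unfold proj
  rw [ContinuousLinearMap.toLinearMap_smul, map_smul, smul_eq_mul, Nat.card_eq_fintype_card,
    ContinuousLinearMap.toLinearMap_sum, map_sum]
  congr 1
  apply Finset.sum_congr rfl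
  intro z _
  rw [ContinuousLinearMap.toLinearMap_smul, map_smul, smul_eq_mul]

theorem mult_facts {Z : Type*} [Group Z] [Fintype Z] (hcomm : ∀ a b : Z, a * b = b * a)
    {W : Type*} [NormedAddCommGroup W] [InnerProductSpace ℂ W] [FiniteDimensional ℂ W]
    (σ : Z →* (W →L[ℂ] W)) [Fintype (Z →* ℂˣ)] (hiso : IsIso σ) :
    ∃ c : (Z →* ℂˣ) → ℕ, (∀ lam, c lam = 0 ↔ proj σ lam = 0) ∧
      (∑ lam, c lam = Module.finrank ℂ W) ∧
      ∀ lam : Z →* ℂˣ, (c lam : ℂ) = (Fintype.card Z : ℂ)⁻¹ *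
        ∑ z : Z, (((lam z)⁻¹ : ℂˣ) : ℂ) * LinearMap.trace ℂ W ((σ z : W →L[ℂ] W) : W →ₗ[ℂ] W) := by
  have hidem : ∀ lam : Z →* ℂˣ,
      IsIdempotentElem ((proj σ lam : W →L[ℂ] W) : W →ₗ[ℂ] W) := by
    intro lam
    have h := proj_mul_proj σ lam
    show ((proj σ lam : W →L[ℂ] W) : W →ₗ[ℂ] W) * ((proj σ lam : W →L[ℂ] W) : W →ₗ[ℂ] W) = _
    rw [← ContinuousLinearMap.toLinearMap_mul, h]
  have htr : ∀ lam : Z →* ℂˣ,
      LinearMap.trace ℂ W ((proj σ lam : W →L[ℂ] W) : W →ₗ[ℂ] W) =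
        (Module.finrank ℂ (LinearMap.range ((proj σ lam : W →L[ℂ] W) : W →ₗ[ℂ] W)) : ℂ) :=
    fun lam => (LinearMap.IsIdempotentElem.isProj_range _ (hidem lam)).trace
  refine ⟨fun lam => Module.finrank ℂ
    (LinearMap.range ((proj σ lam : W →L[ℂ] W) : W →ₗ[ℂ] W)), ?_, ?_, ?_⟩
  · intro lam
    rw [Submodule.finrank_eq_zero, LinearMap.range_eq_bot]
    constructor
    · intro h
      ext v
      have := congrArg (fun T : W →ₗ[ℂ] W => T v) h
      simpa using this
    · intro h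
      rw [h]; rfl
  · have h1 : ((∑ lam : Z →* ℂˣ, Module.finrank ℂ
        (LinearMap.range ((proj σ lam : W →L[ℂ] W) : W →ₗ[ℂ] W)) : ℕ) : ℂ) =
        (Module.finrank ℂ W : ℂ) := by
      push_cast
      rw [← Finset.sum_congr rfl (fun lam _ => htr lam), ← map_sum,
        ← ContinuousLinearMap.toLinearMap_sum, sum_proj hcomm σ]
      exact LinearMap.trace_one ℂ W
    exact_mod_cast h1
  · intro lam
    rw [← htr lam, trace_proj]

end Cfsg.Agent.Lib.Helper74_B6_MULT
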