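import Mathlib
import Cfsg.Prelude.Def_Blocks
import Cfsg.Agent.Lib.Helper74_JordanProj

/-!
# S4484 market (architect helper15): package B6-NUMRANGE (helper74)

Numerical range of an element of a finite abelian group of isometries: if every linear character
`lam` occurring in `σ` has `c < re (conj ε * lam z)`, then `c ‖u‖² < re (conj ε * ⟨u, σ z u⟩)`
for every `u ≠ 0`.
-/

set_option autoImplicit false

namespace Cfsg.Agent.Lib.Helper74_B6_NUMRANGE

open Cfsg Cfsg.Agent.Lib.Helper74_JordanNorm Cfsg.Agent.Lib.Helper74_JordanProj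
open scoped ComplexConjugate

/-- The abstract computation: an orthogonal decomposition `u = ∑ x i` into eigenvectors. -/
theorem numrange_aux {ι : Type*} [Fintype ι] {W : Type*} [NormedAddCommGroup W]
    [InnerProductSpace ℂ W] (x : ι → W) (a : ι → ℂ)
    (horth : ∀ i j, i ≠ j → inner ℂ (x i) (x j) = 0) (ε : ℂ) (c : ℝ)
    (h : ∀ i, x i ≠ 0 → c < (conj ε * a i).re) (hne : ∑ i, x i ≠ 0) :
    c * ‖∑ i, x i‖ ^ 2 < (conj ε * inner ℂ (∑ i, x i) (∑ i, a i • x i)).re := by
  classical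
  have hinner : inner ℂ (∑ i, x i) (∑ i, a i • x i) = ∑ i, a i * ((‖x i‖ ^ 2 : ℝ) : ℂ) := by
    rw [sum_inner]
    apply Finset.sum_congr rfl
    intro i _
    rw [inner_sum, Finset.sum_eq_single i]
    · rw [inner_smul_right, inner_self_eq_norm_sq_to_K]
      push_cast
      rfl
    · intro j _ hj
      rw [inner_smul_right, horth i j (Ne.symm hj), mul_zero]
    · intro hh
      exact absurd (Finset.mem_univ _) hh
  rw [hinner, norm_sq_sum_of_orthogonal x horth, Finset.mul_sum, Finset.mul_sum, Complex.re_sum]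
  have hterm : ∀ i, (conj ε * (a i * ((‖x i‖ ^ 2 : ℝ) : ℂ))).re =
      (conj ε * a i).re * ‖x i‖ ^ 2 := by
    intro i
    rw [← mul_assoc, Complex.re_mul_ofReal]
  simp_rw [hterm]
  obtain ⟨i₀, hi₀⟩ : ∃ i, x i ≠ 0 := by
    by_contra hcon
    push Not at hcon
    apply hne
    exact Finset.sum_eq_zero (fun i _ => hcon i)
  apply Finset.sum_lt_sum
  · intro i _
    by_cases hi : x i = 0
    · rw [hi]; simp
    · exact mul_le_mul_of_nonneg_right (h i hi).le (by positivity)
  · refine ⟨i₀, Finset.mem_univ _, ?_⟩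
    have hpos : 0 < ‖x i₀‖ ^ 2 := by
      have := norm_pos_iff.mpr hi₀
      positivity
    exact mul_lt_mul_of_pos_right (h i₀ hi₀) hpos

theorem numrange {Z : Type*} [Group Z] [Fintype Z] (hcomm : ∀ a b : Z, a * b = b * a)
    {W : Type*} [NormedAddCommGroup W] [InnerProductSpace ℂ W]
    (σ : Z →* (W →L[ℂ] W)) [Fintype (Z →* ℂˣ)] (hiso : IsIso σ)
    (z : Z) (ε : ℂ) (c : ℝ)
    (h : ∀ lam : Z →* ℂˣ, proj σ lam ≠ 0 → c < (conj ε * ((lam z : ℂˣ) : ℂ)).re)
    (u : W) (hu : u ≠ 0) :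
    c * ‖u‖ ^ 2 < (conj ε * inner ℂ u (σ z u)).re := by
  have hu' : u = ∑ lam : Z →* ℂˣ, proj σ lam u := by
    have := congrArg (fun T : W →L[ℂ] W => T u) (sum_proj hcomm σ)
    simp only [FunLike.coe_sum, Finset.sum_apply, one_apply_eq_self]
      at this
    exact this.symm
  have hσ : σ z u = ∑ lam : Z →* ℂˣ, ((lam z : ℂˣ) : ℂ) • proj σ lam u := by
    conv_lhs => rw [hu']
    rw [map_sum]
    exact Finset.sum_congr rfl (fun lam _ => apply_proj σ lam z u)
  have key := numrange_aux (fun lam : Z →* ℂˣ => proj σ lam u)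
    (fun lam : Z →* ℂˣ => ((lam z : ℂˣ) : ℂ))
    (fun lam mu hne => inner_proj_eq_zero σ hiso hne u u) ε c
    (fun lam hlam => h lam (fun h0 => hlam (by rw [h0]; rfl)))
    (by rw [← hu']; exact hu)
  rw [← hσ, ← hu'] at key
  exact key

end Cfsg.Agent.Lib.Helper74_B6_NUMRANGE
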