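import Mathlib

/-!
# Twelve arcs on the unit circle (helper74)
-/

set_option autoImplicit false
set_option linter.unusedSectionVars false
set_option linter.unusedVariables false

namespace Cfsg.Agent.Lib.Helper74_JordanArc

open scoped ComplexConjugate

/-- the index (from `1` to `12`) of the arc of length 30° containing `z` -/
noncomputable def arcIdx (z : ℂ) : ℤ := ⌈(Complex.arg z + Real.pi) * 6 / Real.pi⌉

theorem arcIdx_mem (z : ℂ) : arcIdx z ∈ Finset.Icc (1 : ℤ) 12 := by
  unfold arcIdx
  have hpi := Real.pi_pos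
  have h1 := Complex.neg_pi_lt_arg z
  have h2 := Complex.arg_le_pi z
  rw [Finset.mem_Icc]
  constructor
  · have : (0 : ℝ) < (Complex.arg z + Real.pi) * 6 / Real.pi := by
      apply div_pos _ hpi
      nlinarith
    have h3 := Int.ceil_pos.mpr this
    omega
  · rw [Int.ceil_le]
    rw [div_le_iff₀ hpi]
    push_cast
    nlinarith

/-- two points of the unit circle in the same arc: the quotient is within `1/2` of `√3/2` -/
theorem norm_sub_lt_of_arcIdx_eq {z w : ℂ} (hz : ‖z‖ = 1) (hw : ‖w‖ = 1)
    (h : arcIdx z = arcIdx w) :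
    ‖conj z * w - ((Real.sqrt 3 / 2 : ℝ) : ℂ)‖ < 1 / 2 := by
  have hpi := Real.pi_pos
  set a := Complex.arg z with ha
  set b := Complex.arg w with hb
  -- the arguments are close
  have hab : |b - a| < Real.pi / 6 := by
    unfold arcIdx at h
    rw [← ha, ← hb] at h
    have h1 := Int.ceil_lt_add_one ((a + Real.pi) * 6 / Real.pi)
    have h2 := Int.le_ceil ((a + Real.pi) * 6 / Real.pi)
    have h3 := Int.ceil_lt_add_one ((b + Real.pi) * 6 / Real.pi)
    have h4 := Int.le_ceil ((b + Real.pi) * 6 / Real.pi)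
    rw [h] at h1 h2
    have h5 : |(b + Real.pi) * 6 / Real.pi - (a + Real.pi) * 6 / Real.pi| < 1 := by
      rw [abs_lt]; constructor <;> linarith
    have h6 : (b + Real.pi) * 6 / Real.pi - (a + Real.pi) * 6 / Real.pi = (b - a) * (6 / Real.pi) := by
      field_simp
      ring
    rw [h6, abs_mul, abs_of_pos (div_pos (by norm_num : (0 : ℝ) < 6) hpi)] at h5
    rw [← lt_div_iff₀ (div_pos (by norm_num : (0 : ℝ) < 6) hpi)] at h5
    have h7 : (1 : ℝ) / (6 / Real.pi) = Real.pi / 6 := by field_simp
    rw [h7] at h5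
    exact h5
  -- polar form
  have hzp : z = Complex.exp (a * Complex.I) := by
    have := Complex.norm_mul_exp_arg_mul_I z
    rw [hz] at this
    simpa using this.symm
  have hwp : w = Complex.exp (b * Complex.I) := by
    have := Complex.norm_mul_exp_arg_mul_I w
    rw [hw] at this
    simpa using this.symm
  have hu : conj z * w = Complex.exp (((b - a : ℝ) : ℂ) * Complex.I) := by
    rw [hzp, hwp, ← Complex.exp_conj, ← Complex.exp_add]
    congr 1
    simp only [map_mul, Complex.conj_ofReal, Complex.conj_I]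
    push_cast
    ring
  set θ := b - a with hθ
  have hcos : Real.sqrt 3 / 2 < Real.cos θ := by
    rw [← Real.cos_pi_div_six, ← Real.cos_abs θ]
    apply Real.cos_lt_cos_of_nonneg_of_le_pi_div_two (abs_nonneg _) _ hab
    linarith
  have hs3 : Real.sqrt 3 ^ 2 = 3 := Real.sq_sqrt (by norm_num)
  have hs0 : 0 ≤ Real.sqrt 3 := Real.sqrt_nonneg _
  have hnorm : ‖conj z * w - ((Real.sqrt 3 / 2 : ℝ) : ℂ)‖ ^ 2 < (1 / 2) ^ 2 := by
    rw [hu, ← Complex.normSq_eq_norm_sq, Complex.normSq_apply]
    simp only [Complex.sub_re, Complex.sub_im, Complex.exp_ofReal_mul_I_re,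
      Complex.exp_ofReal_mul_I_im, Complex.ofReal_re, Complex.ofReal_im, sub_zero]
    have h1 := Real.sin_sq_add_cos_sq θ
    nlinarith
  exact lt_of_pow_lt_pow_left₀ 2 (by norm_num) hnorm

end Cfsg.Agent.Lib.Helper74_JordanArc
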