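import Mathlib
import Cfsg.Agent.Lib.Helper74_JordanProj
import Cfsg.Agent.Lib.Helper74_JordanArc

/-!
# A Jordan type theorem for finite groups of isometries (helper74)

A finite group `G` of linear isometries of an `n`-dimensional complex inner product space has an
abelian normal subgroup `A` such that `|H : H ∩ A| ≤ 12 ^ n` for every abelian subgroup `H`.
-/

set_option autoImplicit false
set_option linter.unusedSectionVars false
set_option linter.unusedVariables false

namespace Cfsg.Agent.Lib.Helper74_JordanMain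

open Cfsg.Agent.Lib.Helper74_JordanNorm Cfsg.Agent.Lib.Helper74_JordanProj
  Cfsg.Agent.Lib.Helper74_JordanArc
open scoped ComplexConjugate Classical

variable {G : Type*} [Group G] [Finite G]
variable {W : Type*} [NormedAddCommGroup W] [InnerProductSpace ℂ W] [FiniteDimensional ℂ W]
variable (ρ : G →* (W →L[ℂ] W))

/-- elements of an abelian subgroup with the same arc pattern differ by an element of the Frobenius
subgroup -/
theorem mem_of_pattern_eq (hiso : IsIso ρ) (H : Subgroup G)
    (hH : ∀ x ∈ H, ∀ y ∈ H, x * y = y * x) [Fintype H] [Fintype (H →* ℂˣ)] (h h' : H)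
    (hpat : ∀ lam : H →* ℂˣ, proj (ρ.comp H.subtype) lam ≠ 0 →
      arcIdx ((lam h : ℂˣ) : ℂ) = arcIdx ((lam h' : ℂˣ) : ℂ)) :
    ((h⁻¹ * h' : H) : G) ∈ frobSubgroup ρ := by
  set σ : H →* (W →L[ℂ] W) := ρ.comp H.subtype with hσ
  have hcomm : ∀ a b : H, a * b = b * a := by
    intro a b
    apply Subtype.ext
    exact hH a a.2 b b.2
  have hisoσ : IsIso σ := fun z v => hiso (z : G) v
  set c : ℂ := ((Real.sqrt 3 / 2 : ℝ) : ℂ) with hc
  set u : H := h⁻¹ * h' with hu
  set S := Finset.univ.filter (fun lam : H →* ℂˣ => proj σ lam ≠ 0) with hS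
  set f : (H →* ℂˣ) → NNReal := fun lam => ‖((lam u : ℂˣ) : ℂ) - c‖₊ with hf
  have hlt : S.sup f < (1 / 2 : NNReal) := by
    rw [Finset.sup_lt_iff (by norm_num : (⊥ : NNReal) < 1 / 2)]
    intro lam hl
    rw [hS, Finset.mem_filter] at hl
    have h1 := norm_sub_lt_of_arcIdx_eq
      (Cfsg.Agent.Lib.Helper74_LinAct.norm_hom lam h)
      (Cfsg.Agent.Lib.Helper74_LinAct.norm_hom lam h') (hpat lam hl.2)
    have h2 : ((lam u : ℂˣ) : ℂ) = conj ((lam h : ℂˣ) : ℂ) * ((lam h' : ℂˣ) : ℂ) := by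
      rw [hu, map_mul, Units.val_mul, Cfsg.Agent.Lib.Helper74_LinAct.conj_hom,
        MonoidHom.inv_apply, map_inv]
    rw [← h2] at h1
    rw [← NNReal.coe_lt_coe]
    simp only [hf, coe_nnnorm]
    rw [hc]
    convert h1 using 1
    norm_num
  have hbound := norm_sub_smul_le hcomm σ hisoσ u c (S.sup f : NNReal) (NNReal.coe_nonneg _)
    (by
      intro lam hl
      have h1 : f lam ≤ S.sup f := Finset.le_sup (f := f)
        (by rw [hS, Finset.mem_filter]; exact ⟨Finset.mem_univ _, hl⟩)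
      have h2 := NNReal.coe_le_coe.mpr h1
      simp only [hf, coe_nnnorm] at h2
      exact h2)
  apply mem_frobSubgroup c
  have h3 : σ u = ρ ((u : H) : G) := rfl
  rw [← h3]
  apply lt_of_le_of_lt hbound
  have := NNReal.coe_lt_coe.mpr hlt
  simpa using this

/-- **Jordan type theorem** (Frobenius' method). -/
theorem exists_abelian_normal (hiso : IsIso ρ) (hfaith : ∀ g : G, ρ g = 1 → g = 1) :
    ∃ A : Subgroup G, A.Normal ∧ (∀ x ∈ A, ∀ y ∈ A, x * y = y * x) ∧
      ∀ H : Subgroup G, (∀ x ∈ H, ∀ y ∈ H, x * y = y * x) →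
        (A.subgroupOf H).index ≤ 12 ^ (Module.finrank ℂ W) := by
  refine ⟨frobSubgroup ρ, frobSubgroup_normal hiso, frobSubgroup_comm hiso hfaith, ?_⟩
  intro H hH
  have : Fintype H := Fintype.ofFinite H
  have hcomm : ∀ a b : H, a * b = b * a := by
    intro a b
    apply Subtype.ext
    exact hH a a.2 b b.2
  have hfin : Finite (H →* ℂˣ) := Cfsg.Agent.Lib.Helper74_GoingUp.finite_dual hcomm
  have : Fintype (H →* ℂˣ) := Fintype.ofFinite _
  set σ : H →* (W →L[ℂ] W) := ρ.comp H.subtype with hσ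
  have hisoσ : IsIso σ := fun z v => hiso (z : G) v
  set S := Finset.univ.filter (fun lam : H →* ℂˣ => proj σ lam ≠ 0) with hS
  set K := (frobSubgroup ρ).subgroupOf H with hK
  -- the pattern map
  let pat : H → (S → Finset.Icc (1 : ℤ) 12) := fun h lam =>
    ⟨arcIdx (((lam : H →* ℂˣ) h : ℂˣ) : ℂ), arcIdx_mem _⟩
  have hpat : ∀ h h' : H, pat h = pat h' → h⁻¹ * h' ∈ K := by
    intro h h' heq
    rw [hK, Subgroup.mem_subgroupOf]
    apply mem_of_pattern_eq ρ hiso H hH h h'
    intro lam hl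
    have hlS : lam ∈ S := by rw [hS, Finset.mem_filter]; exact ⟨Finset.mem_univ _, hl⟩
    have := congrFun heq ⟨lam, hlS⟩
    exact congrArg Subtype.val this
  let F : H ⧸ K → (S → Finset.Icc (1 : ℤ) 12) := fun q => pat (Quotient.out q)
  have hFinj : Function.Injective F := by
    intro q q' hqq
    have h1 := hpat _ _ hqq
    have h2 : (QuotientGroup.mk (Quotient.out q) : H ⧸ K) = QuotientGroup.mk (Quotient.out q') :=
      QuotientGroup.eq.mpr h1
    have h3 : ∀ x : H ⧸ K, (QuotientGroup.mk (Quotient.out x) : H ⧸ K) = x := fun x =>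
      Quotient.out_eq' x
    rw [h3, h3] at h2
    exact h2
  have h1 : Nat.card (H ⧸ K) ≤ Nat.card (S → Finset.Icc (1 : ℤ) 12) :=
    Nat.card_le_card_of_injective F hFinj
  have h2 : Nat.card (S → Finset.Icc (1 : ℤ) 12) = 12 ^ S.card := by
    rw [Nat.card_fun, Nat.card_eq_fintype_card, Nat.card_eq_fintype_card, Fintype.card_coe,
      Fintype.card_coe, Int.card_Icc]
    rfl
  have h3 : S.card ≤ Module.finrank ℂ W := card_occurring_le σ hisoσ
  calc K.index = Nat.card (H ⧸ K) := rfl
    _ ≤ 12 ^ S.card := by rw [← h2]; exact h1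
    _ ≤ 12 ^ (Module.finrank ℂ W) := Nat.pow_le_pow_right (by norm_num) h3

end Cfsg.Agent.Lib.Helper74_JordanMain
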