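import Mathlib
import Cfsg.Prelude.Def_Characters
import Cfsg.Agent.Lib.Helper74_JordanMain

/-!
# Weyl's unitary trick and the Jordan type theorem for faithful characters (helper74)
-/

set_option autoImplicit false
set_option linter.unusedSectionVars false
set_option linter.unusedVariables false

namespace Cfsg.Agent.Lib.Helper74_JordanUnitary

open Cfsg.Agent.Lib.Helper74_JordanNorm Cfsg.Agent.Lib.Helper74_JordanMain
open scoped ComplexConjugate

/-- the coordinate space with the inner product averaged over the group -/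
def UW {G : Type*} [Group G] {n : ℕ} (ρ : Representation ℂ G (Fin n → ℂ)) : Type := Fin n → ℂ

namespace UW

variable {G : Type*} [Group G] [Fintype G] {n : ℕ} (ρ : Representation ℂ G (Fin n → ℂ))

noncomputable instance : AddCommGroup (UW ρ) := inferInstanceAs (AddCommGroup (Fin n → ℂ))

noncomputable instance : Module ℂ (UW ρ) := inferInstanceAs (Module ℂ (Fin n → ℂ))

instance : FiniteDimensional ℂ (UW ρ) := inferInstanceAs (FiniteDimensional ℂ (Fin n → ℂ))

/-- the underlying vector -/
def val (v : UW ρ) : Fin n → ℂ := v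

/-- the action of the group on the new space -/
def act (g : G) : UW ρ →ₗ[ℂ] UW ρ := ρ g

theorem act_mul (g h : G) (v : UW ρ) : act ρ (g * h) v = act ρ g (act ρ h v) := by
  unfold act
  rw [map_mul]
  rfl

theorem act_one (v : UW ρ) : act ρ 1 v = v := by
  unfold act
  rw [map_one]
  rfl

/-- the averaged form -/
noncomputable def form (v w : UW ρ) : ℂ :=
  ∑ g : G, ∑ i : Fin n, conj (val ρ (act ρ g v) i) * val ρ (act ρ g w) i

theorem form_act (h : G) (v w : UW ρ) : form ρ (act ρ h v) (act ρ h w) = form ρ v w := by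
  unfold form
  have := Fintype.sum_equiv (Equiv.mulRight h)
    (fun g => ∑ i : Fin n, conj (val ρ (act ρ (g * h) v) i) * val ρ (act ρ (g * h) w) i)
    (fun g => ∑ i : Fin n, conj (val ρ (act ρ g v) i) * val ρ (act ρ g w) i) (fun g => rfl)
  rw [← this]
  apply Finset.sum_congr rfl
  intro g _
  rw [act_mul, act_mul]

noncomputable instance core : InnerProductSpace.Core ℂ (UW ρ) where
  inner v w := form ρ v w
  conj_inner_symm v w := by
    unfold form
    rw [map_sum]
    apply Finset.sum_congr rfl
    intro g _
    rw [map_sum]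
    apply Finset.sum_congr rfl
    intro i _
    rw [map_mul, Complex.conj_conj, mul_comm]
  re_inner_nonneg v := by
    show 0 ≤ (form ρ v v).re
    unfold form
    rw [Complex.re_sum]
    apply Finset.sum_nonneg
    intro g _
    rw [Complex.re_sum]
    apply Finset.sum_nonneg
    intro i _
    rw [mul_comm, Complex.mul_conj]
    exact_mod_cast Complex.normSq_nonneg _
  add_left u v w := by
    unfold form
    rw [← Finset.sum_add_distrib]
    apply Finset.sum_congr rfl
    intro g _
    rw [← Finset.sum_add_distrib]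
    apply Finset.sum_congr rfl
    intro i _
    rw [map_add]
    have : val ρ (act ρ g u + act ρ g v) i = val ρ (act ρ g u) i + val ρ (act ρ g v) i := rfl
    rw [this, map_add, add_mul]
  smul_left v w r := by
    unfold form
    rw [Finset.mul_sum]
    apply Finset.sum_congr rfl
    intro g _
    rw [Finset.mul_sum]
    apply Finset.sum_congr rfl
    intro i _
    rw [map_smul]
    have : val ρ (r • act ρ g v) i = r * val ρ (act ρ g v) i := rfl
    rw [this, map_mul, mul_assoc]
  definite v hv := by
    unfold form at hv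
    have h1 := congrArg Complex.re hv
    rw [Complex.re_sum, Complex.zero_re] at h1
    have hnn : ∀ g : G, 0 ≤ (∑ i : Fin n, conj (val ρ (act ρ g v) i) * val ρ (act ρ g v) i).re := by
      intro g
      rw [Complex.re_sum]
      apply Finset.sum_nonneg
      intro i _
      rw [mul_comm, Complex.mul_conj]
      exact_mod_cast Complex.normSq_nonneg _
    have h2 := (Finset.sum_eq_zero_iff_of_nonneg (fun g _ => hnn g)).mp h1 1 (Finset.mem_univ _)
    rw [Complex.re_sum] at h2
    have hnn' : ∀ i : Fin n, 0 ≤ (conj (val ρ (act ρ 1 v) i) * val ρ (act ρ 1 v) i).re := by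
      intro i
      rw [mul_comm, Complex.mul_conj]
      exact_mod_cast Complex.normSq_nonneg _
    have h3 := (Finset.sum_eq_zero_iff_of_nonneg (fun i _ => hnn' i)).mp h2
    funext i
    have h4 := h3 i (Finset.mem_univ _)
    rw [act_one, mul_comm, Complex.mul_conj] at h4
    have h5 : Complex.normSq (val ρ v i) = 0 := by exact_mod_cast h4
    exact Complex.normSq_eq_zero.mp h5

noncomputable instance : NormedAddCommGroup (UW ρ) :=
  InnerProductSpace.Core.toNormedAddCommGroup (𝕜 := ℂ)

noncomputable instance : InnerProductSpace ℂ (UW ρ) := InnerProductSpace.ofCore _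

theorem inner_eq (v w : UW ρ) : inner ℂ v w = form ρ v w := rfl

theorem norm_act (h : G) (v : UW ρ) : ‖act ρ h v‖ = ‖v‖ := by
  rw [@norm_eq_sqrt_re_inner ℂ, @norm_eq_sqrt_re_inner ℂ, inner_eq, inner_eq, form_act]

/-- the action by continuous linear maps -/
noncomputable def actL : G →* (UW ρ →L[ℂ] UW ρ) where
  toFun g := LinearMap.toContinuousLinearMap (act ρ g)
  map_one' := by
    ext v
    simp only [LinearMap.coe_toContinuousLinearMap', ContinuousLinearMap.one_apply]
    exact act_one ρ v
  map_mul' g h := by
    ext v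
    simp only [LinearMap.coe_toContinuousLinearMap', ContinuousLinearMap.mul_apply]
    exact act_mul ρ g h v

theorem actL_apply (g : G) (v : UW ρ) : actL ρ g v = act ρ g v := by
  simp [actL]

theorem isIso_actL : IsIso (actL ρ) := by
  intro g v
  rw [actL_apply]
  exact norm_act ρ g v

theorem act_eq_of_actL_eq_one (g : G) (h : actL ρ g = 1) (v : UW ρ) : act ρ g v = v := by
  have h1 : actL ρ g v = (1 : UW ρ →L[ℂ] UW ρ) v := DFunLike.congr_fun h v
  rw [actL_apply, ContinuousLinearMap.one_apply] at h1
  exact h1

theorem actL_eq_one (g : G) (h : actL ρ g = 1) : ρ g = 1 := by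
  apply LinearMap.ext
  intro v
  exact act_eq_of_actL_eq_one ρ g h v

theorem finrank_eq : Module.finrank ℂ (UW ρ) = n := by
  show Module.finrank ℂ (Fin n → ℂ) = n
  exact Module.finrank_fin_fun ℂ

end UW

/-- **Jordan type theorem** for groups with a faithful character of degree `n`. -/
theorem exists_abelian_normal_of_character {G : Type*} [Group G] [Finite G] (χ : G → ℂ)
    (hχ : Cfsg.IsCharacter G χ) (hfaith : ∀ g : G, χ g = χ 1 → g = 1) (n : ℕ)
    (hn : χ 1 = n) :
    ∃ A : Subgroup G, A.Normal ∧ (∀ x ∈ A, ∀ y ∈ A, x * y = y * x) ∧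
      ∀ H : Subgroup G, (∀ x ∈ H, ∀ y ∈ H, x * y = y * x) → (A.subgroupOf H).index ≤ 12 ^ n := by
  have : Fintype G := Fintype.ofFinite G
  obtain ⟨m, ρ, rfl⟩ := hχ
  have hmn : m = n := by
    have h1 : ρ.character 1 = (m : ℂ) := by simp [Representation.character]
    rw [h1] at hn
    exact_mod_cast hn
  subst hmn
  have hf : ∀ g : G, UW.actL ρ g = 1 → g = 1 := by
    intro g hg
    apply hfaith
    have h1 := UW.actL_eq_one ρ g hg
    show LinearMap.trace ℂ _ (ρ g) = LinearMap.trace ℂ _ (ρ 1)
    congr 1
    rw [h1, map_one]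
  obtain ⟨A, hA1, hA2, hA3⟩ := exists_abelian_normal (UW.actL ρ) (UW.isIso_actL ρ) hf
  refine ⟨A, hA1, hA2, ?_⟩
  intro H hH
  have := hA3 H hH
  rwa [UW.finrank_eq] at this

end Cfsg.Agent.Lib.Helper74_JordanUnitary
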