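import Mathlib
import Cfsg.Prelude.Def_Blocks
import Cfsg.Agent.Lib.Helper78_LocalRing
import Cfsg.Agent.Lib.Helper77_PRoots

/-!
B6-ARITH (architect helper15, S4484): `p^h` divides the multiplicity.
-/

set_option autoImplicit false

namespace Cfsg.Agent.Lib.Helper79_B6_ARITH

open Cfsg Cfsg.Agent.Lib.Helper78_LocalRing Cfsg.Agent.Lib.Helper77_PRoots

/-- A rational number that is an algebraic integer is an integer. -/
theorem exists_int_of_isIntegral_rat' (q : ℚ) (h : IsIntegral ℤ ((q : ℂ))) : ∃ m : ℤ, q = m := by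
  have h1 : ((q : ℂ)) = algebraMap ℚ ℂ q := rfl
  rw [h1] at h
  have h2 : IsIntegral ℤ q := (isIntegral_algebraMap_iff (algebraMap ℚ ℂ).injective).mp h
  obtain ⟨y, hy⟩ := IsIntegrallyClosed.isIntegral_iff.mp h2
  exact ⟨y, hy.symm⟩

theorem pow_dvd_mult {p : ℕ} {M : Ideal AlgInt} (hM : IsPModular p M)
    {Z : Type*} [Group Z] [Fintype Z] (hZ : Fintype.card Z = p)
    (f : Z → ℂ) (n h m K : ℕ) (hn : n = p ^ h * m) (hn0 : 0 < n) (hf1 : f 1 = n)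
    (hK : ¬ p ∣ K)
    (hint : ∀ z : Z, IsIntegral ℤ ((K : ℂ) * f z / n))
    (hω : ∀ z : Z, MemLocalIdeal M ((K : ℂ) - (K : ℂ) * f z / n))
    (lam : Z →* ℂˣ) (c : ℕ)
    (hc : (c : ℂ) = (p : ℂ)⁻¹ * ∑ z : Z, (((lam z)⁻¹ : ℂˣ) : ℂ) * f z) :
    p ^ h ∣ c := by
  have hMp := isPrime_of_isPModular hM
  have hp : p.Prime := hM.1
  have hp0 : (p : ℂ) ≠ 0 := Nat.cast_ne_zero.2 hp.ne_zero
  have hn0' : (n : ℂ) ≠ 0 := Nat.cast_ne_zero.2 hn0.ne'
  -- `(lam z)⁻¹` is a `p`-th root of unity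
  have hlam_pow : ∀ z : Z, ((((lam z)⁻¹ : ℂˣ) : ℂ)) ^ (p ^ 1) = 1 := by
    intro z
    have h1 : ((lam z)⁻¹ : ℂˣ) ^ Fintype.card Z = 1 := by
      rw [← map_inv, ← map_pow, pow_card_eq_one, map_one]
    rw [pow_one, ← hZ, ← Units.val_pow_eq_pow_val, h1, Units.val_one]
  have hlam_int : ∀ z : Z, IsIntegral ℤ ((((lam z)⁻¹ : ℂˣ) : ℂ)) := by
    intro z
    refine IsIntegral.of_pow (pow_pos hp.pos 1) ?_
    rw [hlam_pow z]; exact isIntegral_one
  set β : ℂ := ∑ z : Z, (((lam z)⁻¹ : ℂˣ) : ℂ) * ((K : ℂ) * f z / n) with hβ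
  have hβint : IsIntegral ℤ β := IsIntegral.sum _ (fun z _ => (hlam_int z).mul (hint z))
  -- `β = K p c / n`
  have hsum : ∑ z : Z, (((lam z)⁻¹ : ℂˣ) : ℂ) * f z = p * c := by
    rw [hc]; field_simp
  have hβval : β = (K : ℂ) * p * c / n := by
    rw [hβ]
    have : ∀ z : Z, (((lam z)⁻¹ : ℂˣ) : ℂ) * ((K : ℂ) * f z / n)
        = (K : ℂ) / n * ((((lam z)⁻¹ : ℂˣ) : ℂ) * f z) := by
      intro z; ring
    rw [Finset.sum_congr rfl (fun z _ => this z), ← Finset.mul_sum, hsum]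
    ring
  -- `β` is a rational integer
  obtain ⟨b, hb⟩ : ∃ b : ℤ, β = b := by
    have hq : β = (((K : ℚ) * p * c / n : ℚ) : ℂ) := by
      rw [hβval]; push_cast; rfl
    rw [hq] at hβint
    obtain ⟨b, hb⟩ := exists_int_of_isIntegral_rat' _ hβint
    refine ⟨b, ?_⟩
    rw [hq, hb]; push_cast; rfl
  -- `β` lies in the local ideal
  have hterm : ∀ z : Z, MemLocalIdeal M ((((lam z)⁻¹ : ℂˣ) : ℂ) * ((K : ℂ) * f z / n) - K) := by
    intro z
    have e : (((lam z)⁻¹ : ℂˣ) : ℂ) * ((K : ℂ) * f z / n) - K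
        = ((((lam z)⁻¹ : ℂˣ) : ℂ) - 1) * K
          - (((lam z)⁻¹ : ℂˣ) : ℂ) * ((K : ℂ) - (K : ℂ) * f z / n) := by ring
    rw [e]
    apply memLocalIdeal_sub hMp
    · exact memLocalIdeal_mul_right hMp (memLocalIdeal_sub_one_of_pow_eq_one hM _ 1 (hlam_pow z))
        (memLocalRing_natCast hMp K)
    · exact memLocalIdeal_mul_left hMp (memLocalRing_algInt hMp ⟨_, hlam_int z⟩) (hω z)
  have hβM : MemLocalIdeal M β := by
    have e : β = ∑ z : Z, ((((lam z)⁻¹ : ℂˣ) : ℂ) * ((K : ℂ) * f z / n) - K) + ((p * K : ℕ) : ℂ) := by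
      rw [Finset.sum_sub_distrib, Finset.sum_const, Finset.card_univ, hZ, nsmul_eq_mul, ← hβ]
      push_cast; ring
    rw [e]
    apply memLocalIdeal_add hMp
    · exact memLocalIdeal_sum hMp _ _ (fun z _ => hterm z)
    · exact (memLocalIdeal_natCast_iff hM _).2 (Dvd.intro _ rfl)
  rw [hb] at hβM
  obtain ⟨b', hb'⟩ := (memLocalIdeal_intCast_iff hM b).1 hβM
  -- `K c = n b'`
  have hKc : ((K * c : ℕ) : ℤ) = (n : ℤ) * b' := by
    have h1 : (K : ℂ) * p * c / n = ((p : ℤ) * b' : ℤ) := by rw [← hβval, hb, hb']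
    have h2 : (K : ℂ) * p * c = (p : ℂ) * b' * n := by
      rw [div_eq_iff hn0'] at h1
      rw [h1]; push_cast; ring
    have h3 : (K : ℂ) * c = (n : ℂ) * b' := by
      have : (p : ℂ) * ((K : ℂ) * c) = (p : ℂ) * ((n : ℂ) * b') := by
        calc (p : ℂ) * ((K : ℂ) * c) = (K : ℂ) * p * c := by ring
          _ = (p : ℂ) * b' * n := h2
          _ = (p : ℂ) * ((n : ℂ) * b') := by ring
      exact mul_left_cancel₀ hp0 this
    exact_mod_cast h3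
  have hdvdZ : ((p ^ h : ℕ) : ℤ) ∣ ((K * c : ℕ) : ℤ) := by
    rw [hKc, hn]
    push_cast
    exact ⟨(m : ℤ) * b', by ring⟩
  have hdvd : p ^ h ∣ K * c := Int.natCast_dvd_natCast.1 hdvdZ
  have hcop : Nat.Coprime (p ^ h) K :=
    Nat.Coprime.pow_left h ((Nat.Prime.coprime_iff_not_dvd hp).2 hK)
  exact hcop.dvd_of_dvd_mul_left hdvd

end Cfsg.Agent.Lib.Helper79_B6_ARITH
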