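import Mathlib
import Cfsg.Prelude.Def_Blocks
import Cfsg.Agent.Lib.Helper15_Blichfeldt
import Cfsg.Agent.Lib.Helper15_B6Group
import Cfsg.Agent.Lib.Helper74_JordanUnitary
import Cfsg.Agent.Lib.Helper74_B6_NUMRANGE
import Cfsg.Agent.Lib.Helper74_B6_MULT
import Cfsg.Agent.Lib.Helper79_B6_ARITH
import Cfsg.Agent.Lib.Helper64_B6_PIGEON
import Cfsg.Agent.Lib.Helper78_CentralChar
import Cfsg.Agent.Lib.Helper3_CharBurnside
import Cfsg.Agent.Lib.Helper16_Char

/-!
# The core of Brauer's `6^(g₀-1)` bound (helper15)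
-/

set_option autoImplicit false
set_option linter.unusedSectionVars false
set_option linter.unusedVariables false

namespace Cfsg.Agent.Lib.Helper15_B6Main

open Cfsg Cfsg.Agent.Lib.Helper74_JordanNorm Cfsg.Agent.Lib.Helper74_JordanProj
  Cfsg.Agent.Lib.Helper74_JordanUnitary
open scoped ComplexConjugate

variable {G : Type*} [Group G] [Fintype G] {n : ℕ} (ρ : Representation ℂ G (Fin n → ℂ))

/-- the trace of the unitarised action is the character -/
theorem trace_actL (g : G) :
    LinearMap.trace ℂ (UW ρ) ((UW.actL ρ g : UW ρ →L[ℂ] UW ρ) : UW ρ →ₗ[ℂ] UW ρ) =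
      ρ.character g := by
  rfl

/-- invariant subspaces of the unitarised action -/
theorem irr_actL [ρ.IsIrreducible] (U : Submodule ℂ (UW ρ))
    (hU : ∀ g : G, ∀ u ∈ U, UW.actL ρ g u ∈ U) : U = ⊥ ∨ U = ⊤ := by
  let Wsub : Subrepresentation ρ :=
    { toSubmodule := U
      apply_mem_toSubmodule := by
        intro g v hv
        exact hU g v hv }
  rcases eq_bot_or_eq_top Wsub with h | h
  · left
    exact congrArg Subrepresentation.toSubmodule h
  · right
    exact congrArg Subrepresentation.toSubmodule h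


/-- **Core**: in a non-abelian simple group, a nonprincipal irreducible character `χ` of the
principal `p`-block, of degree `p^h m`, forces `p ≤ 6^(m-1)`. -/
theorem core [IsSimpleGroup G] (hna : ¬ ∀ a b : G, a * b = b * a)
    {p : ℕ} (hp : p.Prime) {M : Ideal AlgInt} (hM : IsPModular p M)
    (x : G) (hx : orderOf x = p)
    (hK : ¬ p ∣ (Subgroup.centralizer ({x} : Set G)).index)
    [ρ.IsIrreducible] (hnt : ρ.character ≠ fun _ => 1)
    (hB : SameBlock M (fun _ : G => (1 : ℂ)) ρ.character)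
    (h m : ℕ) (hn : n = p ^ h * m) (hpm : 6 ^ (m - 1) < p) : False := by
  classical
  have hirrc : IsIrrCharacter G ρ.character := ⟨n, ρ, inferInstance, rfl⟩
  have hχ1 : ρ.character 1 = (n : ℂ) := by
    rw [Representation.char_one]; simp
  have hn0 : 0 < n := by
    rcases Nat.eq_zero_or_pos n with h0 | h0
    · exfalso
      have := Cfsg.Agent.Lib.Helper16_Char.finrank_pos_of_irreducible (ρ := ρ)
      rw [Module.finrank_fin_fun] at this
      omega
    · exact h0
  -- the cyclic group generated by `x`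
  set Z : Subgroup G := Subgroup.zpowers x with hZdef
  have hcomm : ∀ a b : Z, a * b = b * a := by
    intro a b
    obtain ⟨i, hi⟩ := Subgroup.mem_zpowers_iff.mp a.2
    obtain ⟨j, hj⟩ := Subgroup.mem_zpowers_iff.mp b.2
    apply Subtype.ext
    rw [Subgroup.coe_mul, Subgroup.coe_mul, ← hi, ← hj]
    exact zpow_mul_comm x i j
  have hZcard : Fintype.card Z = p := by
    rw [← Nat.card_eq_fintype_card, Nat.card_zpowers, hx]
  set x' : Z := ⟨x, Subgroup.mem_zpowers x⟩ with hx'
  have hx'p : x' ^ p = 1 := by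
    apply Subtype.ext
    rw [Subgroup.coe_pow, Subgroup.coe_one, ← hx]
    exact pow_orderOf_eq_one x
  set σ : Z →* (UW ρ →L[ℂ] UW ρ) := (UW.actL ρ).comp Z.subtype with hσ
  have hisoσ : IsIso σ := fun z v => UW.isIso_actL ρ (z : G) v
  have hfin : Finite (Z →* ℂˣ) := Cfsg.Agent.Lib.Helper74_GoingUp.finite_dual hcomm
  have : Fintype (Z →* ℂˣ) := Fintype.ofFinite _
  obtain ⟨c, hc0, hcsum, hcval⟩ := Cfsg.Agent.Lib.Helper74_B6_MULT.mult_facts hcomm σ hisoσ
  rw [UW.finrank_eq] at hcsum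
  set K : ℕ := (Subgroup.centralizer ({x} : Set G)).index with hKdef
  set f : Z → ℂ := fun z => ρ.character (z : G) with hf
  have hcval' : ∀ lam : Z →* ℂˣ, (c lam : ℂ) =
      (p : ℂ)⁻¹ * ∑ z : Z, (((lam z)⁻¹ : ℂˣ) : ℂ) * f z := by
    intro lam
    rw [hcval lam, hZcard]
    rfl
  -- central character facts
  have hcc : ∀ z : Z, z ≠ 1 → centralChar ρ.character (z : G) = (K : ℂ) * f z / n := by
    intro z hz
    unfold centralChar
    rw [Cfsg.Agent.Lib.Helper15_B6Group.centralizer_eq_of_mem_zpowers hp hx z.2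
      (fun h0 => hz (Subtype.ext h0)), hχ1]
  have hint : ∀ z : Z, IsIntegral ℤ ((K : ℂ) * f z / n) := by
    intro z
    by_cases hz : z = 1
    · subst hz
      have h1 : (K : ℂ) * f 1 / n = ((K : ℤ) : ℂ) := by
        have hn0' : (n : ℂ) ≠ 0 := by exact_mod_cast hn0.ne'
        show (K : ℂ) * ρ.character ((1 : Z) : G) / n = _
        rw [Subgroup.coe_one, hχ1]
        field_simp
        simp
      rw [h1]
      exact isIntegral_algebraMap
    · rw [← hcc z hz]
      exact Cfsg.Agent.Lib.Helper78_CentralChar.isIntegral_centralChar_of_isIrrCharacter hirrc _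
  have hω : ∀ z : Z, MemLocalIdeal M ((K : ℂ) - (K : ℂ) * f z / n) := by
    intro z
    by_cases hz : z = 1
    · subst hz
      have h1 : (K : ℂ) - (K : ℂ) * f 1 / n = 0 := by
        have hn0' : (n : ℂ) ≠ 0 := by exact_mod_cast hn0.ne'
        show (K : ℂ) - (K : ℂ) * ρ.character ((1 : Z) : G) / n = 0
        rw [Subgroup.coe_one, hχ1]
        field_simp
        simp
      rw [h1]
      refine ⟨0, 1, M.zero_mem, ?_, by simp⟩
      intro h1M
      exact hM.2.1.ne_top ((Ideal.eq_top_iff_one M).mpr h1M)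
    · have h1 := hB (z : G)
      rw [hcc z hz] at h1
      unfold centralChar at h1
      rw [Cfsg.Agent.Lib.Helper15_B6Group.centralizer_eq_of_mem_zpowers hp hx z.2
        (fun h0 => hz (Subtype.ext h0))] at h1
      simpa using h1
  have hdiv : ∀ lam : Z →* ℂˣ, p ^ h ∣ c lam := fun lam =>
    Cfsg.Agent.Lib.Helper79_B6_ARITH.pow_dvd_mult hM hZcard f n h m K hn hn0
      (by show ρ.character ((1 : Z) : G) = n; rw [Subgroup.coe_one, hχ1]) hK hint hω lam (c lam)
      (hcval' lam)
  -- at most `m` characters occur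
  set Socc : Finset (Z →* ℂˣ) := Finset.univ.filter (fun lam => c lam ≠ 0) with hSocc
  have hphpos : 0 < p ^ h := pow_pos hp.pos h
  have hScard : Socc.card ≤ m := by
    have h1 : Socc.card * p ^ h ≤ ∑ lam ∈ Socc, c lam := by
      rw [← smul_eq_mul, ← Finset.sum_const]
      apply Finset.sum_le_sum
      intro lam hlam
      have h2 : c lam ≠ 0 := (Finset.mem_filter.mp hlam).2
      exact Nat.le_of_dvd (Nat.pos_of_ne_zero h2) (hdiv lam)
    have h2 : ∑ lam ∈ Socc, c lam ≤ ∑ lam, c lam :=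
      Finset.sum_le_sum_of_subset (Finset.subset_univ _)
    rw [hcsum, hn] at h2
    have h3 : Socc.card * p ^ h ≤ m * p ^ h := by
      calc Socc.card * p ^ h ≤ p ^ h * m := le_trans h1 h2
        _ = m * p ^ h := mul_comm _ _
    exact Nat.le_of_mul_le_mul_right h3 hphpos
  have hSne : Socc.Nonempty := by
    by_contra hemp
    rw [Finset.not_nonempty_iff_eq_empty] at hemp
    have h1 : ∑ lam, c lam = 0 := by
      apply Finset.sum_eq_zero
      intro lam _
      by_contra hne
      have : lam ∈ Socc := Finset.mem_filter.mpr ⟨Finset.mem_univ _, hne⟩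
      rw [hemp] at this
      exact absurd this (Finset.notMem_empty _)
    rw [hcsum] at h1
    omega
  obtain ⟨lam₀, hlam₀⟩ := hSne
  -- the eigenvalues
  set Sev : Finset ℂ := Socc.image (fun lam => ((lam x' : ℂˣ) : ℂ)) with hSev
  set ε : ℂ := ((lam₀ x' : ℂˣ) : ℂ) with hε
  have hSevp : ∀ s ∈ Sev, s ^ p = 1 := by
    intro s hs
    obtain ⟨lam, _, rfl⟩ := Finset.mem_image.mp hs
    rw [← Units.val_pow_eq_pow_val, ← map_pow, hx'p, map_one, Units.val_one]
  have hεS : ε ∈ Sev := Finset.mem_image.mpr ⟨lam₀, hlam₀, rfl⟩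
  have hSevcard : Sev.card ≤ m := le_trans Finset.card_image_le hScard
  obtain ⟨k, hk0, hkp, hkS⟩ :=
    Cfsg.Agent.Lib.Helper64_B6_PIGEON.pigeon p hp Sev hSevp ε hεS m hSevcard hpm
  -- the element `y = x^k`
  set y' : Z := x' ^ k with hy'
  have hH : ∀ u : UW ρ, u ≠ 0 →
      ‖u‖ ^ 2 / 2 < (conj (ε ^ k) * inner ℂ u (UW.actL ρ (x ^ k) u)).re := by
    intro u hu
    have h1 := Cfsg.Agent.Lib.Helper74_B6_NUMRANGE.numrange hcomm σ hisoσ y' (ε ^ k) (1 / 2)
      (by
        intro lam hlam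
        have h2 : lam ∈ Socc := by
          apply Finset.mem_filter.mpr
          refine ⟨Finset.mem_univ _, ?_⟩
          intro h0
          exact hlam ((hc0 lam).mp h0)
        have h3 := hkS _ (Finset.mem_image.mpr ⟨lam, h2, rfl⟩)
        rw [hy', show lam (x' ^ k) = (lam x') ^ k from map_pow lam x' k,
          Units.val_pow_eq_pow_val]
        exact h3) u hu
    have h4 : σ y' u = UW.actL ρ (x ^ k) u := by
      rw [hσ, hy']
      rfl
    rw [h4] at h1
    linarith
  -- an eigenvector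
  have hev : ∃ v : UW ρ, v ≠ 0 ∧ UW.actL ρ (x ^ k) v = (ε ^ k) • v := by
    have h1 : proj σ lam₀ ≠ 0 := by
      intro h0
      exact (Finset.mem_filter.mp hlam₀).2 ((hc0 lam₀).mpr h0)
    obtain ⟨w, hw⟩ : ∃ w : UW ρ, proj σ lam₀ w ≠ 0 := by
      by_contra hcon
      push Not at hcon
      apply h1
      ext w
      simpa using hcon w
    refine ⟨proj σ lam₀ w, hw, ?_⟩
    have h2 := apply_proj σ lam₀ y' w
    rw [hy', show lam₀ (x' ^ k) = (lam₀ x') ^ k from map_pow lam₀ x' k,
      Units.val_pow_eq_pow_val] at h2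
    have h4 : σ (x' ^ k) (proj σ lam₀ w) = UW.actL ρ (x ^ k) (proj σ lam₀ w) := by
      rw [hσ]
      rfl
    rw [← h4]
    exact h2
  have hyN : (x ^ k) ^ p = 1 := by
    rw [← pow_mul, mul_comm, pow_mul, ← hx, pow_orderOf_eq_one, one_pow]
  have hεN : (ε ^ k) ^ p = 1 := by
    rw [← pow_mul, mul_comm, pow_mul, hSevp ε hεS, one_pow]
  have hy1 : x ^ k ≠ 1 := by
    intro h0
    have := orderOf_dvd_of_pow_eq_one h0
    rw [hx] at this
    exact absurd (Nat.le_of_dvd hk0 this) (not_le.mpr hkp)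
  have hgen : Subgroup.normalClosure ({x ^ k} : Set G) = ⊤ := by
    rcases (Subgroup.normalClosure_normal (s := ({x ^ k} : Set G))).eq_bot_or_eq_top with h0 | h0
    · exfalso
      have : x ^ k ∈ Subgroup.normalClosure ({x ^ k} : Set G) :=
        Subgroup.subset_normalClosure (Set.mem_singleton _)
      rw [h0, Subgroup.mem_bot] at this
      exact hy1 this
    · exact h0
  have hsc := Cfsg.Agent.Lib.Helper15_Blichfeldt.scalar_of_sixty (UW.isIso_actL ρ)
    (irr_actL ρ) (x ^ k) p hp.pos hyN (ε ^ k) hεN hev hH hgen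
  apply Cfsg.Agent.Lib.Helper3_CharBurnside.not_scalar_of_simple_nonabelian hna ρ hnt (x ^ k) hy1
  refine ⟨ε ^ k, ?_⟩
  apply LinearMap.ext
  intro v
  have h1 : UW.actL ρ (x ^ k) v = ((ε ^ k) • (1 : UW ρ →L[ℂ] UW ρ)) v := by rw [hsc]
  exact h1

end Cfsg.Agent.Lib.Helper15_B6Main
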