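import Mathlib
import Cfsg.Prelude.Def_Characters
import Cfsg.Agent.Lib.Helper3_CharOrtho
import Cfsg.Agent.Lib.Helper3_CharBridge
import Cfsg.Agent.Lib.Helper75_CharArith
import Cfsg.Agent.Lib.Helper75_CharProd
import Cfsg.Agent.Lib.Helper80_CharBasic
import Cfsg.Agent.Lib.Helper80_CharInd
import Cfsg.Agent.Lib.Helper57_GalOrbit

/-!
# Package PK-F of S4503 (Brauer's `(p - 1) / 2` bound): the final counting argument (helper15)

Inputs: the local structure of the small faithful irreducible character `z` (package PK-L), the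
principal block data (package PK-X, `Helper78_Brauer503X.pkx`) and the fact that only the principal
character has `P` in its kernel (package PK-R).  Output: `False`.

The argument (finding 129, steps 4-7): with `z₂ = z ∘ (· ^ k)`, `β = z conj z₂`, `γ = z conj z`,
the class function `γ - β` vanishes on the `p`-regular elements, so `⟨γ - β, χ⟩ = ε_χ` for the
non-exceptional `χ` of the principal block, which are constant `ε_χ` on `p`-singular elements.
Hence every negative `χ` is a constituent of `β`, has no `P`-fixed points, and contributes at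
least `p - 1` to `⟨β|_V, 1_V⟩ = ⟨z|_V, z|_V⟩ ≤ f ^ 2`.  The degree relation gives
`2 n₋ ≥ f - 1`, and `3 f ≤ p - 1` finishes.
-/

set_option autoImplicit false
set_option linter.unusedSectionVars false

namespace Cfsg.Agent.Lib.Helper15_Brauer503F

open Cfsg Cfsg.Agent.Lib.Helper80_CharBasic Cfsg.Agent.Lib.Helper57_GalOrbit
open scoped ComplexConjugate

variable {G : Type*} [Group G] [Fintype G]

/-- The sum of a character over a subgroup is a natural multiple of the order of the subgroup. -/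
theorem sum_subgroup_nat (H : Subgroup G) [Fintype ↥H] {ψ : G → ℂ} (hψ : IsCharacter G ψ) :
    ∃ t : ℕ, ∑ h : ↥H, ψ (h : G) = (t : ℂ) * (Nat.card ↥H : ℂ) := by
  have h1 : IsCharacter ↥H (fun h : ↥H => ψ (h : G)) :=
    Cfsg.Agent.Lib.Helper75_CharArith.isCharacter_restrict H hψ
  have h2 : IsCharacter ↥H (fun _ : ↥H => (1 : ℂ)) :=
    Cfsg.Agent.Lib.Helper3_CharBridge.isCharacter_of_isIrrCharacter (isIrrCharacter_one ↥H)
  obtain ⟨t, ht⟩ := Cfsg.Agent.Lib.Helper75_CharArith.classInner_isCharacter_nat h1 h2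
  refine ⟨t, ?_⟩
  unfold classInner at ht
  have hc : (Nat.card ↥H : ℂ) ≠ 0 := by
    exact_mod_cast (Nat.card_pos (α := ↥H)).ne'
  have h3 : ∑ h : ↥H, ψ (h : G) = ∑ h : ↥H, ψ (h : G) * conj (1 : ℂ) := by
    refine Finset.sum_congr rfl fun h _ => ?_
    rw [map_one, mul_one]
  rw [h3, ← ht, mul_comm ((Nat.card ↥H : ℂ)⁻¹ * _), ← mul_assoc, mul_inv_cancel₀ hc, one_mul]

/-- A `p`-conjugation fixes the `p`-regular elements. -/
theorem pow_eq_self_of_reg' {p : ℕ} [hp : Fact p.Prime] {k : ℕ}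
    (hk1 : k ≡ 1 [MOD Nat.card G / p ^ (Nat.card G).factorization p]) {g : G}
    (hg : ¬ p ∣ orderOf g) : g ^ k = g := by
  have h1 : orderOf g ∣ Nat.card G := orderOf_dvd_natCard g
  have h2 : Nat.card G = p ^ (Nat.card G).factorization p *
      (Nat.card G / p ^ (Nat.card G).factorization p) :=
    (Nat.ordProj_mul_ordCompl_eq_self (Nat.card G) p).symm
  rw [h2] at h1
  have hcop : (orderOf g).Coprime (p ^ (Nat.card G).factorization p) :=
    Nat.Coprime.pow_right _ ((Nat.Prime.coprime_iff_not_dvd hp.out).mpr hg).symm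
  have h3 : orderOf g ∣ Nat.card G / p ^ (Nat.card G).factorization p :=
    hcop.dvd_of_dvd_mul_left h1
  have h4 : k ≡ 1 [MOD orderOf g] := hk1.of_dvd h3
  have := (pow_eq_pow_iff_modEq (x := g)).mpr h4
  rw [this, pow_one]

/-- If `δ` vanishes on the `p`-regular elements and `c` is constant `= ε` on the `p`-singular
ones, then `∑ δ conj c = conj ε ∑ δ`. -/
theorem sum_mul_conj_of_const {p : ℕ} (δ c : G → ℂ) (ε : ℂ)
    (hδ : ∀ g : G, ¬ p ∣ orderOf g → δ g = 0)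
    (hc : ∀ g : G, p ∣ orderOf g → c g = ε) :
    ∑ g : G, δ g * conj (c g) = conj ε * ∑ g : G, δ g := by
  rw [Finset.mul_sum]
  refine Finset.sum_congr rfl fun g _ => ?_
  by_cases hg : p ∣ orderOf g
  · rw [hc g hg, mul_comm]
  · rw [hδ g hg, zero_mul, mul_zero]

theorem eq_mul_of_inv_mul {a S c : ℂ} (ha : a ≠ 0) (h : a⁻¹ * S = c) : S = c * a := by
  rw [← h, mul_comm, ← mul_assoc, mul_inv_cancel₀ ha, one_mul]

/-- Elements `≠ 1` of a subgroup of prime order `p` are `p`-singular. -/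
theorem dvd_orderOf_of_ne_one {p : ℕ} [hp : Fact p.Prime] (H : Subgroup G)
    (hH : Nat.card ↥H = p) (y : ↥H) (hy : y ≠ 1) : p ∣ orderOf (y : G) := by
  have h1 : orderOf y ∣ p := hH ▸ orderOf_dvd_natCard y
  rcases (Nat.dvd_prime hp.out).mp h1 with h | h
  · exact absurd (orderOf_eq_one_iff.mp h) hy
  · rw [Subgroup.orderOf_coe, h]

/-- The sum over a subgroup `H` of prime order `p` of a function which takes the constant value
`ε` on the `p`-singular elements. -/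
theorem sum_prime_subgroup {p : ℕ} [hp : Fact p.Prime] (H : Subgroup G) [Fintype ↥H]
    (hH : Nat.card ↥H = p) (χ : G → ℂ) (ε : ℂ)
    (hχ : ∀ g : G, p ∣ orderOf g → χ g = ε) :
    ∑ y : ↥H, χ (y : G) = χ 1 + ((p : ℂ) - 1) * ε := by
  classical
  rw [← Finset.add_sum_erase Finset.univ (fun y : ↥H => χ (y : G)) (Finset.mem_univ (1 : ↥H))]
  have h1 : ∀ y ∈ (Finset.univ : Finset ↥H).erase 1, χ (y : G) = ε := by
    intro y hy
    exact hχ _ (dvd_orderOf_of_ne_one H hH y (Finset.ne_of_mem_erase hy))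
  rw [Finset.sum_congr rfl h1, Finset.sum_const, Finset.card_erase_of_mem (Finset.mem_univ _),
    Finset.card_univ, ← Nat.card_eq_fintype_card, hH, nsmul_eq_mul,
    Nat.cast_sub hp.out.one_lt.le, Nat.cast_one]
  rfl

open scoped Classical in
/-- **PK-F** (S4503): the final counting argument. -/
theorem pkf {p : ℕ} [hp : Fact p.Prime] {P : Sylow p G} {V : Subgroup G}
    [Fintype ↥(P : Subgroup G)] [Fintype ↥V]
    (hP : Nat.card P = p) (hpV : ∀ v : ↥V, ¬ p ∣ orderOf (v : G))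
    (z : IrrCharacter G)
    (hker : ∀ η : IrrCharacter G,
      (∀ x : ↥(P : Subgroup G), (η : G → ℂ) (x : G) = (η : G → ℂ) 1) → η = oneIrr G)
    (f : ℕ) (hf2 : 2 ≤ f) (h3f : 3 * f ≤ p - 1)
    (k : ℕ) (hk : k.Coprime (Nat.card G))
    (hk1 : k ≡ 1 [MOD Nat.card G / p ^ (Nat.card G).factorization p])
    (horth : ∑ y : ↥(P : Subgroup G),
      (z : G → ℂ) (y : G) * conj ((z : G → ℂ) ((y : G) ^ k)) = 0)
    (m : ℕ) (hm : m ≤ f ^ 2)
    (hmV : ∑ v : ↥V, (z : G → ℂ) (v : G) * conj ((z : G → ℂ) (v : G)) =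
      (m : ℂ) * (Nat.card ↥V : ℂ))
    (X0 Y0 : Finset (IrrCharacter G)) (εX : IrrCharacter G → ℤ) (ε0 : ℤ)
    (hX0 : X0.card = f) (hY0 : f * Y0.card = p - 1)
    (h1X : oneIrr G ∈ X0) (hε1 : εX (oneIrr G) = 1)
    (hεX : ∀ χ ∈ X0, εX χ = 1 ∨ εX χ = -1)
    (hXval : ∀ χ ∈ X0, ∀ g : G, p ∣ orderOf g → (χ : G → ℂ) g = (εX χ : ℂ))
    (hε0 : ε0 = 1 ∨ ε0 = -1)
    (hYval : ∀ g : G, p ∣ orderOf g → ∑ ξ ∈ Y0, (ξ : G → ℂ) g = -(ε0 : ℂ))
    (hYP : ∀ ξ ∈ Y0, ∑ h : ↥(P : Subgroup G), (ξ : G → ℂ) (h : G) =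
      (ξ : G → ℂ) 1 - (ε0 : ℂ) * (f : ℂ))
    (hYreg : ∀ g : G, ¬ p ∣ orderOf g → ∀ ξ ∈ Y0,
      (ε0 : ℂ) * (ξ : G → ℂ) g = ∑ χ ∈ X0, (εX χ : ℂ) * (χ : G → ℂ) g)
    (hXV : ∀ χ ∈ X0, ∃ m' : ℕ, (Nat.card ↥V : ℂ)⁻¹ * ∑ v : ↥V, (χ : G → ℂ) (v : G) =
      (p : ℂ) * (m' : ℂ) - ((p : ℂ) - 1) * (εX χ : ℂ)) : False := by
  let _ : Fintype (IrrCharacter G) := Fintype.ofFinite _
  have hpp : p.Prime := hp.out
  have hp2 : 2 ≤ p := hpp.two_le
  have hp0 : (p : ℂ) ≠ 0 := by exact_mod_cast hpp.ne_zero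
  have hcard : (Nat.card G : ℂ) ≠ 0 := by exact_mod_cast (Nat.card_pos (α := G)).ne'
  have hcardV : (Nat.card ↥V : ℂ) ≠ 0 := by exact_mod_cast (Nat.card_pos (α := ↥V)).ne'
  have hPc : Nat.card ↥(P : Subgroup G) = p := hP
  set z2 : IrrCharacter G := pw k hk z with hz2
  have hzc : IsCharacter G (z : G → ℂ) :=
    Cfsg.Agent.Lib.Helper3_CharBridge.isCharacter_of_isIrrCharacter z.2
  have hz2c : IsCharacter G (z2 : G → ℂ) :=
    Cfsg.Agent.Lib.Helper3_CharBridge.isCharacter_of_isIrrCharacter z2.2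
  -- the two product characters
  set γ : G → ℂ := (z : G → ℂ) * (fun g => conj ((z : G → ℂ) g)) with hγ
  set β : G → ℂ := (z : G → ℂ) * (fun g => conj ((z2 : G → ℂ) g)) with hβ
  have hγc : IsCharacter G γ := Cfsg.Agent.Lib.Helper75_CharProd.isCharacter_mul hzc
    (Cfsg.Agent.Lib.Helper75_CharProd.isCharacter_conj hzc)
  have hβc : IsCharacter G β := Cfsg.Agent.Lib.Helper75_CharProd.isCharacter_mul hzc
    (Cfsg.Agent.Lib.Helper75_CharProd.isCharacter_conj hz2c)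
  have hγa : ∀ g, γ g = (z : G → ℂ) g * conj ((z : G → ℂ) g) := fun g => rfl
  have hβa : ∀ g, β g = (z : G → ℂ) g * conj ((z : G → ℂ) (g ^ k)) := fun g => rfl
  have hβγ : ∀ g : G, ¬ p ∣ orderOf g → γ g - β g = 0 := by
    intro g hg
    rw [hγa, hβa, pow_eq_self_of_reg' hk1 hg, sub_self]
  -- `z ≠ z2`
  have hne : (z : G → ℂ) ≠ (z2 : G → ℂ) := by
    intro h
    have h0 : ∑ y : ↥(P : Subgroup G), (z : G → ℂ) (y : G) * conj ((z : G → ℂ) (y : G)) = 0 := by
      rw [← horth]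
      refine Finset.sum_congr rfl fun y _ => ?_
      have h' : (z : G → ℂ) ((y : G) ^ k) = (z2 : G → ℂ) (y : G) := rfl
      rw [h', ← h]
    have h1 : ∀ y : ↥(P : Subgroup G), (z : G → ℂ) (y : G) * conj ((z : G → ℂ) (y : G)) =
        ((Complex.normSq ((z : G → ℂ) (y : G)) : ℝ) : ℂ) := fun y => Complex.mul_conj _
    simp_rw [h1] at h0
    have h2 : ∑ y : ↥(P : Subgroup G), Complex.normSq ((z : G → ℂ) (y : G)) = 0 := by
      exact_mod_cast h0
    have h3 := (Finset.sum_eq_zero_iff_of_nonneg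
      (fun y _ => Complex.normSq_nonneg _)).mp h2 1 (Finset.mem_univ _)
    have h4 : (z : G → ℂ) 1 = 0 := by
      have := Complex.normSq_eq_zero.mp h3
      simpa using this
    obtain ⟨n, hn, hn1⟩ := irr_apply_one z
    rw [hn1] at h4
    exact hn.ne' (by exact_mod_cast h4)
  have hSγ : ∑ g : G, γ g = (Nat.card G : ℂ) := by
    have h := Cfsg.Agent.Lib.Helper3_CharOrtho.classInner_irr z.2 z.2
    rw [if_pos rfl] at h
    unfold classInner at h
    have := eq_mul_of_inv_mul hcard h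
    rw [one_mul] at this
    exact this
  have hSβ : ∑ g : G, β g = 0 := by
    have h := Cfsg.Agent.Lib.Helper3_CharOrtho.classInner_irr z.2 z2.2
    rw [if_neg hne] at h
    unfold classInner at h
    have := eq_mul_of_inv_mul hcard h
    rw [zero_mul] at this
    exact this
  have hSδ : ∑ g : G, (γ g - β g) = (Nat.card G : ℂ) := by
    rw [Finset.sum_sub_distrib, hSγ, hSβ, sub_zero]
  -- multiplicities
  have hcn : ∀ ψ : IrrCharacter G, ∃ n : ℕ, classInner γ (ψ : G → ℂ) = n := fun ψ =>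
    Cfsg.Agent.Lib.Helper75_CharArith.classInner_isCharacter_nat hγc
      (Cfsg.Agent.Lib.Helper3_CharBridge.isCharacter_of_isIrrCharacter ψ.2)
  choose c hc using hcn
  obtain ⟨b, hb, hbsum⟩ := Cfsg.Agent.Lib.Helper80_CharInd.char_decomp β hβc
  have hdiff : ∀ ψ : IrrCharacter G, (c ψ : ℂ) - (b ψ : ℂ) =
      (Nat.card G : ℂ)⁻¹ * ∑ g : G, (γ g - β g) * conj ((ψ : G → ℂ) g) := by
    intro ψ
    rw [← hc ψ, ← hb ψ]
    unfold classInner
    rw [← mul_sub, ← Finset.sum_sub_distrib]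
    congr 1
    refine Finset.sum_congr rfl fun g _ => ?_
    ring
  have hX : ∀ χ ∈ X0, (c χ : ℤ) - (b χ : ℤ) = εX χ := by
    intro χ hχ
    have h1 := hdiff χ
    rw [sum_mul_conj_of_const (p := p) (fun g => γ g - β g) (χ : G → ℂ) (εX χ : ℂ) hβγ
      (hXval χ hχ), hSδ, map_intCast, mul_comm ((εX χ : ℤ) : ℂ), ← mul_assoc,
      inv_mul_cancel₀ hcard, one_mul] at h1
    exact_mod_cast h1
  have hY : ∑ ξ ∈ Y0, ((c ξ : ℤ) - (b ξ : ℤ)) = -ε0 := by
    have h1 : ∑ ξ ∈ Y0, ((c ξ : ℂ) - (b ξ : ℂ)) = -(ε0 : ℂ) := by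
      rw [Finset.sum_congr rfl (fun ξ _ => hdiff ξ), ← Finset.mul_sum, Finset.sum_comm]
      have h2 : ∀ g : G, ∑ ξ ∈ Y0, (γ g - β g) * conj ((ξ : G → ℂ) g) =
          (γ g - β g) * conj ((fun g => ∑ ξ ∈ Y0, (ξ : G → ℂ) g) g) := by
        intro g
        rw [← Finset.mul_sum, map_sum]
      rw [Finset.sum_congr rfl (fun g _ => h2 g),
        sum_mul_conj_of_const (p := p) (fun g => γ g - β g)
          (fun g => ∑ ξ ∈ Y0, (ξ : G → ℂ) g) (-(ε0 : ℂ)) hβγ hYval, hSδ, map_neg, map_intCast,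
        mul_comm (-((ε0 : ℤ) : ℂ)), ← mul_assoc, inv_mul_cancel₀ hcard, one_mul]
    exact_mod_cast h1
  -- fixed points on `P` and on `V`
  have hsn : ∀ ψ : IrrCharacter G, ∃ s : ℕ,
      ∑ y : ↥(P : Subgroup G), (ψ : G → ℂ) (y : G) = (s : ℂ) * (p : ℂ) := by
    intro ψ
    obtain ⟨s, hs⟩ := sum_subgroup_nat (P : Subgroup G)
      (Cfsg.Agent.Lib.Helper3_CharBridge.isCharacter_of_isIrrCharacter ψ.2)
    exact ⟨s, by rw [hs, hPc]⟩
  choose s hs using hsn
  have htn : ∀ ψ : IrrCharacter G, ∃ t : ℕ,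
      ∑ v : ↥V, (ψ : G → ℂ) (v : G) = (t : ℂ) * (Nat.card ↥V : ℂ) := fun ψ =>
    sum_subgroup_nat V (Cfsg.Agent.Lib.Helper3_CharBridge.isCharacter_of_isIrrCharacter ψ.2)
  choose t ht using htn
  have hdn : ∀ ψ : IrrCharacter G, ∃ n : ℕ, 0 < n ∧ (ψ : G → ℂ) 1 = n := fun ψ => irr_apply_one ψ
  choose d hdpos hd using hdn
  have hβexp : ∀ g : G, β g = ∑ ψ : IrrCharacter G, (b ψ : ℂ) * (ψ : G → ℂ) g := by
    intro g
    have := congrFun hbsum g
    rw [this, Finset.sum_apply]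
    refine Finset.sum_congr rfl fun ψ _ => ?_
    rw [Pi.smul_apply, smul_eq_mul]
  have hbs : ∀ ψ : IrrCharacter G, b ψ * s ψ = 0 := by
    have h1 : (∑ ψ : IrrCharacter G, ((b ψ * s ψ : ℕ) : ℂ)) * (p : ℂ) = 0 := by
      have h2 : ∑ y : ↥(P : Subgroup G), β (y : G) = 0 := horth
      have h2' : ∑ y : ↥(P : Subgroup G), β (y : G) =
          ∑ y : ↥(P : Subgroup G), ∑ ψ : IrrCharacter G, (b ψ : ℂ) * (ψ : G → ℂ) (y : G) :=
        Finset.sum_congr rfl (fun y _ => hβexp (y : G))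
      rw [← h2, h2', Finset.sum_comm, Finset.sum_mul]
      refine Finset.sum_congr rfl fun ψ _ => ?_
      rw [← Finset.mul_sum, hs ψ]
      push_cast
      ring
    have h3 := (mul_eq_zero.mp h1).resolve_right hp0
    have h4 : ∑ ψ : IrrCharacter G, b ψ * s ψ = 0 := by exact_mod_cast h3
    intro ψ
    exact (Finset.sum_eq_zero_iff.mp h4) ψ (Finset.mem_univ _)
  have hbt : ∑ ψ : IrrCharacter G, b ψ * t ψ = m := by
    have h2 : ∑ v : ↥V, β (v : G) = (m : ℂ) * (Nat.card ↥V : ℂ) := by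
      rw [← hmV]
      refine Finset.sum_congr rfl fun v _ => ?_
      rw [hβa, pow_eq_self_of_reg' hk1 (hpV v)]
    have h1 : (∑ ψ : IrrCharacter G, ((b ψ * t ψ : ℕ) : ℂ)) * (Nat.card ↥V : ℂ) =
        (m : ℂ) * (Nat.card ↥V : ℂ) := by
      have h2' : ∑ v : ↥V, β (v : G) =
          ∑ v : ↥V, ∑ ψ : IrrCharacter G, (b ψ : ℂ) * (ψ : G → ℂ) (v : G) :=
        Finset.sum_congr rfl (fun v _ => hβexp (v : G))
      rw [← h2, h2', Finset.sum_comm, Finset.sum_mul]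
      refine Finset.sum_congr rfl fun ψ _ => ?_
      rw [← Finset.mul_sum, ht ψ]
      push_cast
      ring
    have h3 := mul_right_cancel₀ hcardV h1
    exact_mod_cast h3
  -- degree relations
  have hXdeg : ∀ χ ∈ X0, (s χ : ℤ) * (p : ℤ) = (d χ : ℤ) + ((p : ℤ) - 1) * εX χ := by
    intro χ hχ
    have h1 := sum_prime_subgroup (P : Subgroup G) hPc (χ : G → ℂ) (εX χ : ℂ) (hXval χ hχ)
    rw [hs χ, hd χ] at h1
    exact_mod_cast h1
  have hYdeg : ∀ ξ ∈ Y0, (s ξ : ℤ) * (p : ℤ) = (d ξ : ℤ) - ε0 * (f : ℤ) := by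
    intro ξ hξ
    have h1 := hYP ξ hξ
    rw [hs ξ, hd ξ] at h1
    exact_mod_cast h1
  have hreg1 : ∀ ξ ∈ Y0, ε0 * (d ξ : ℤ) = ∑ χ ∈ X0, εX χ * (d χ : ℤ) := by
    intro ξ hξ
    have h1 := hYreg 1 (by rw [orderOf_one]; exact hpp.not_dvd_one) ξ hξ
    rw [hd ξ, Finset.sum_congr rfl (fun χ _ => by rw [hd χ])] at h1
    exact_mod_cast h1
  have hsq : ∀ χ ∈ X0, εX χ * εX χ = 1 := by
    intro χ hχ
    rcases hεX χ hχ with h | h <;> rw [h] <;> norm_num
  have hsq0 : ε0 * ε0 = 1 := by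
    rcases hε0 with h | h <;> rw [h] <;> norm_num
  -- the key identity `ε0 s_ξ = ∑_{X0} (ε_χ s_χ - 1)`
  have hkey : ∀ ξ ∈ Y0, ε0 * (s ξ : ℤ) = ∑ χ ∈ X0, (εX χ * (s χ : ℤ) - 1) := by
    intro ξ hξ
    have h1 : ∀ χ ∈ X0, εX χ * (d χ : ℤ) = (εX χ * (s χ : ℤ)) * (p : ℤ) - ((p : ℤ) - 1) := by
      intro χ hχ
      have h2 := hXdeg χ hχ
      have h3 := hsq χ hχ
      have h4 : (d χ : ℤ) = (s χ : ℤ) * (p : ℤ) - ((p : ℤ) - 1) * εX χ := by linarith
      rw [h4]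
      have : εX χ * ((s χ : ℤ) * (p : ℤ) - ((p : ℤ) - 1) * εX χ) =
          εX χ * (s χ : ℤ) * (p : ℤ) - ((p : ℤ) - 1) * (εX χ * εX χ) := by ring
      rw [this, h3, mul_one]
    have h5 := hreg1 ξ hξ
    rw [Finset.sum_congr rfl h1, Finset.sum_sub_distrib, Finset.sum_const, hX0, ← Finset.sum_mul,
      nsmul_eq_mul] at h5
    have h6 := hYdeg ξ hξ
    have h7 : (d ξ : ℤ) = (s ξ : ℤ) * (p : ℤ) + ε0 * (f : ℤ) := by linarith
    rw [h7] at h5
    have h8 : ε0 * ((s ξ : ℤ) * (p : ℤ) + ε0 * (f : ℤ)) =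
        ε0 * (s ξ : ℤ) * (p : ℤ) + (ε0 * ε0) * (f : ℤ) := by ring
    rw [h8, hsq0, one_mul] at h5
    rw [Finset.sum_sub_distrib, Finset.sum_const, hX0, nsmul_eq_mul, mul_one]
    have hpz : (p : ℤ) ≠ 0 := by exact_mod_cast hpp.ne_zero
    have h9 : (ε0 * (s ξ : ℤ)) * (p : ℤ) =
        ((∑ χ ∈ X0, εX χ * (s χ : ℤ)) - (f : ℤ)) * (p : ℤ) := by linarith
    exact mul_right_cancel₀ hpz h9
  -- pointwise lower bound
  have hs1 : s (oneIrr G) = 1 := by
    have h1 := hs (oneIrr G)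
    have h2 : ∑ y : ↥(P : Subgroup G), ((oneIrr G : IrrCharacter G) : G → ℂ) (y : G) =
        (p : ℂ) := by
      have : ∀ y : ↥(P : Subgroup G), ((oneIrr G : IrrCharacter G) : G → ℂ) (y : G) = 1 :=
        fun y => rfl
      rw [Finset.sum_congr rfl (fun y _ => this y), Finset.sum_const, Finset.card_univ,
        ← Nat.card_eq_fintype_card, hPc, nsmul_eq_mul, mul_one]
    rw [h2] at h1
    have h3 : (1 : ℂ) * (p : ℂ) = (s (oneIrr G) : ℂ) * (p : ℂ) := by rw [one_mul]; exact h1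
    have h4 := mul_right_cancel₀ hp0 h3
    exact_mod_cast h4.symm
  have hneg : ∀ χ ∈ X0, εX χ = -1 → 1 ≤ b χ ∧ s χ = 0 := by
    intro χ hχ hε
    have h1 := hX χ hχ
    rw [hε] at h1
    have h2 : 1 ≤ b χ := by omega
    refine ⟨h2, ?_⟩
    rcases Nat.eq_zero_or_pos (s χ) with h | h
    · exact h
    · have := hbs χ
      have : 0 < b χ * s χ := Nat.mul_pos h2 h
      omega
  have hpos : ∀ χ ∈ X0, εX χ = 1 → χ ≠ oneIrr G → 2 ≤ s χ := by
    intro χ hχ hε hχ1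
    have h1 := hXdeg χ hχ
    rw [hε, mul_one] at h1
    have hdp := hdpos χ
    by_contra hlt
    have hs01 : s χ = 0 ∨ s χ = 1 := by omega
    rcases hs01 with h | h
    · rw [h] at h1
      have : (2 : ℤ) ≤ (p : ℤ) := by exact_mod_cast hp2
      have : (0 : ℤ) < (d χ : ℤ) := by exact_mod_cast hdp
      push_cast at h1
      linarith
    · rw [h] at h1
      have hd1 : d χ = 1 := by
        have : (d χ : ℤ) = 1 := by push_cast at h1; linarith
        exact_mod_cast this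
      apply hχ1
      apply hker χ
      intro x
      by_cases hx : x = 1
      · rw [hx]; rfl
      · rw [hXval χ hχ _ (dvd_orderOf_of_ne_one (P : Subgroup G) hPc x hx), hd χ, hd1, hε]
        norm_num
  have hlow : ∀ χ ∈ X0, (1 : ℤ) - (if χ = oneIrr G then 1 else 0) -
      2 * (if εX χ = -1 then 1 else 0) ≤ εX χ * (s χ : ℤ) - 1 := by
    intro χ hχ
    rcases hεX χ hχ with hε | hε
    · have hne1 : ¬ εX χ = -1 := by rw [hε]; norm_num
      rw [if_neg hne1, hε]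
      by_cases h1 : χ = oneIrr G
      · rw [if_pos h1, h1, hs1]; norm_num
      · rw [if_neg h1]
        have := hpos χ hχ hε h1
        have : (2 : ℤ) ≤ (s χ : ℤ) := by exact_mod_cast this
        linarith
    · have h1 : χ ≠ oneIrr G := by
        intro h; rw [h, hε1] at hε; norm_num at hε
      rw [if_neg h1, if_pos hε, hε, (hneg χ hχ hε).2]
      norm_num
  set nm : ℕ := (X0.filter (fun χ => εX χ = -1)).card with hnm
  have hsumlow : ∑ χ ∈ X0, ((1 : ℤ) - (if χ = oneIrr G then 1 else 0) -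
      2 * (if εX χ = -1 then 1 else 0)) = (f : ℤ) - 1 - 2 * (nm : ℤ) := by
    rw [Finset.sum_sub_distrib, Finset.sum_sub_distrib, Finset.sum_const, hX0, nsmul_eq_mul,
      mul_one, Finset.sum_ite_eq' X0 (oneIrr G) (fun _ => (1 : ℤ)), if_pos h1X, ← Finset.mul_sum,
      Finset.sum_boole, hnm]
  have hY0ne : Y0.Nonempty := by
    rcases Finset.eq_empty_or_nonempty Y0 with h | h
    · rw [h, Finset.card_empty, mul_zero] at hY0
      omega
    · exact h
  -- `2 n₋ ≥ f - 1`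
  have hnm2 : (f : ℤ) - 1 - 2 * (nm : ℤ) ≤ 0 := by
    have hge : ∀ ξ ∈ Y0, (f : ℤ) - 1 - 2 * (nm : ℤ) ≤ ε0 * (s ξ : ℤ) := by
      intro ξ hξ
      rw [hkey ξ hξ, ← hsumlow]
      exact Finset.sum_le_sum hlow
    rcases hε0 with h0 | h0
    · -- some exceptional character is a constituent of `β`
      have h1 := hY
      rw [h0, Finset.sum_sub_distrib] at h1
      have h2 : (0 : ℤ) ≤ ∑ ξ ∈ Y0, (c ξ : ℤ) :=
        Finset.sum_nonneg fun ξ _ => by positivity
      have h3 : (1 : ℤ) ≤ ∑ ξ ∈ Y0, (b ξ : ℤ) := by linarith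
      have h4 : ∑ ξ ∈ Y0, (b ξ : ℤ) ≠ 0 := by omega
      obtain ⟨ξ, hξ, hbξ⟩ := Finset.exists_ne_zero_of_sum_ne_zero h4
      have hbξ' : b ξ ≠ 0 := by exact_mod_cast hbξ
      have hsξ : s ξ = 0 := by
        have := hbs ξ
        rcases Nat.mul_eq_zero.mp this with h | h
        · exact absurd h hbξ'
        · exact h
      have := hge ξ hξ
      rw [hsξ] at this
      simpa using this
    · obtain ⟨ξ, hξ⟩ := hY0ne
      have := hge ξ hξ
      rw [h0] at this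
      have h5 : (0 : ℤ) ≤ (s ξ : ℤ) := by positivity
      linarith
  -- the count
  have htneg : ∀ χ ∈ X0, εX χ = -1 → p - 1 ≤ t χ := by
    intro χ hχ hε
    obtain ⟨m', hm'⟩ := hXV χ hχ
    rw [ht χ, hε, mul_comm ((t χ : ℂ)), ← mul_assoc, inv_mul_cancel₀ hcardV, one_mul] at hm'
    have h1 : (t χ : ℤ) = (p : ℤ) * (m' : ℤ) - ((p : ℤ) - 1) * (-1) := by exact_mod_cast hm'
    have h2 : (0 : ℤ) ≤ (p : ℤ) * (m' : ℤ) := by positivity
    have h3 : ((p - 1 : ℕ) : ℤ) = (p : ℤ) - 1 := by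
      rw [Nat.cast_sub hpp.one_lt.le, Nat.cast_one]
    have h4 : ((p - 1 : ℕ) : ℤ) ≤ (t χ : ℤ) := by rw [h3, h1]; linarith
    exact_mod_cast h4
  have hcount : nm * (p - 1) ≤ m := by
    rw [← hbt, hnm, ← smul_eq_mul, ← Finset.sum_const]
    calc ∑ _χ ∈ X0.filter (fun χ => εX χ = -1), (p - 1)
        ≤ ∑ χ ∈ X0.filter (fun χ => εX χ = -1), b χ * t χ := by
          refine Finset.sum_le_sum fun χ hχ => ?_
          obtain ⟨hχ0, hε⟩ := Finset.mem_filter.mp hχ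
          calc p - 1 ≤ t χ := htneg χ hχ0 hε
            _ = 1 * t χ := (one_mul _).symm
            _ ≤ b χ * t χ := Nat.mul_le_mul_right _ (hneg χ hχ0 hε).1
      _ ≤ ∑ χ : IrrCharacter G, b χ * t χ :=
          Finset.sum_le_sum_of_subset (Finset.subset_univ _)
  -- arithmetic
  have hf0 : 0 < f := by omega
  have h1 : nm * (3 * f) ≤ f * f := by
    calc nm * (3 * f) ≤ nm * (p - 1) := Nat.mul_le_mul_left _ h3f
      _ ≤ m := hcount
      _ ≤ f ^ 2 := hm
      _ = f * f := sq f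
  have h2 : nm * 3 ≤ f := by
    have : (nm * 3) * f ≤ f * f := by rw [mul_assoc]; exact h1
    exact Nat.le_of_mul_le_mul_right this hf0
  have h3 : f ≤ 1 + 2 * nm := by omega
  have hf3 : f ≤ 3 := by omega
  have hfcases : f = 2 ∨ f = 3 := by omega
  rcases hfcases with h | h
  · omega
  · have hnm1 : nm = 1 := by omega
    rw [hnm1, one_mul] at hcount
    have hm9 : m ≤ 9 := by rw [h] at hm; simpa using hm
    have hp10 : p = 10 := by omega
    rw [hp10] at hpp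
    exact absurd hpp (by norm_num)

end Cfsg.Agent.Lib.Helper15_Brauer503F
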