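import Cfsg.Agent.Lib.Helper74_GoingUp
import Cfsg.Agent.Lib.Helper75_Gallagher

/-!
# Norms of characters on cosets of a normal subgroup with abelian quotient (helper75)

`N ⊴ Γ` with `Γ ⧸ N` abelian.
* `fourier_coset`: if `∑ₓ c(xN) F(x) = [c = 1] K` for all characters `c` of `Γ ⧸ N`, then
  `∑_{n ∈ N} F(n y) = K / |Γ : N|` for every `y`.
* `sum_coset_norm`: `ψ ∈ Irr Γ` with `ψ|_N` irreducible has `∑_{n ∈ N} |ψ(n y)|² = |N|`.
* `sum_coset_orth`: `ψ₁, ψ₂ ∈ Irr Γ` with different restrictions to `N` have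
  `∑_{n ∈ N} ψ₁(n y) conj ψ₂(n y) = 0`.
-/

set_option autoImplicit false
open scoped ComplexConjugate

namespace Cfsg.Agent.Lib.Helper75_CosetNorm

open Cfsg.Agent.Lib.Helper3_CharBridge Cfsg.Agent.Lib.Helper3_CharOrtho
  Cfsg.Agent.Lib.Helper75_CharArith Cfsg.Agent.Lib.Helper75_LinChar
  Cfsg.Agent.Lib.Helper75_Gallagher Cfsg.Agent.Lib.Helper74_GoingUp
  Cfsg.Agent.Lib.Helper74_LinAct

variable {Γ : Type*} [Group Γ] [Fintype Γ]

/-- Sum over a coset as a sum over the fibre of the quotient map. -/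
theorem sum_fiber_eq (N : Subgroup Γ) [N.Normal] [Fintype N] [DecidableEq (Γ ⧸ N)] (F : Γ → ℂ)
    (y : Γ) :
    ∑ x : Γ, (if (x : Γ ⧸ N) = (y : Γ ⧸ N) then F x else 0) = ∑ n : N, F ((n : Γ) * y) := by
  classical
  rw [← Finset.sum_filter]
  symm
  apply Finset.sum_bij (fun (n : N) _ => (n : Γ) * y)
  · intro n _
    rw [Finset.mem_filter]
    refine ⟨Finset.mem_univ _, ?_⟩
    rw [QuotientGroup.mk_mul, (QuotientGroup.eq_one_iff (n : Γ)).mpr n.2, one_mul]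
  · intro a _ b _ h
    exact Subtype.ext (mul_right_cancel h)
  · intro x hx
    rw [Finset.mem_filter] at hx
    have h1 : x * y⁻¹ ∈ N := by
      rw [← QuotientGroup.eq_one_iff, QuotientGroup.mk_mul, QuotientGroup.mk_inv, hx.2,
        mul_inv_cancel]
    exact ⟨⟨x * y⁻¹, h1⟩, Finset.mem_univ _, by simp⟩
  · intro n _
    rfl

/-- Fourier inversion on the abelian quotient `Γ ⧸ N`. -/
theorem fourier_coset (N : Subgroup Γ) [N.Normal] [Fintype N]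
    (hcomm : ∀ a b : Γ ⧸ N, a * b = b * a) (F : Γ → ℂ) (K : ℂ)
    [DecidableEq ((Γ ⧸ N) →* ℂˣ)]
    (hF : ∀ c : (Γ ⧸ N) →* ℂˣ,
      ∑ x : Γ, ((c (x : Γ ⧸ N) : ℂˣ) : ℂ) * F x = if c = 1 then K else 0) (y : Γ) :
    (N.index : ℂ) * ∑ n : N, F ((n : Γ) * y) = K := by
  classical
  have hfin : Finite ((Γ ⧸ N) →* ℂˣ) := finite_dual hcomm
  have := Fintype.ofFinite ((Γ ⧸ N) →* ℂˣ)
  have h1 : ∑ c : (Γ ⧸ N) →* ℂˣ, ((c ((y : Γ ⧸ N)⁻¹) : ℂˣ) : ℂ) *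
      ∑ x : Γ, ((c (x : Γ ⧸ N) : ℂˣ) : ℂ) * F x = K := by
    simp_rw [hF]
    rw [Finset.sum_eq_single (1 : (Γ ⧸ N) →* ℂˣ)]
    · simp
    · intro c _ hc
      rw [if_neg hc, mul_zero]
    · intro h; exact absurd (Finset.mem_univ _) h
  rw [← h1]
  simp_rw [Finset.mul_sum]
  rw [Finset.sum_comm]
  have h2 : ∀ x : Γ, ∑ c : (Γ ⧸ N) →* ℂˣ, ((c ((y : Γ ⧸ N)⁻¹) : ℂˣ) : ℂ) *
      (((c (x : Γ ⧸ N) : ℂˣ) : ℂ) * F x) =
      if (x : Γ ⧸ N) = (y : Γ ⧸ N) then (N.index : ℂ) * F x else 0 := by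
    intro x
    have h3 : ∀ c : (Γ ⧸ N) →* ℂˣ, ((c ((y : Γ ⧸ N)⁻¹) : ℂˣ) : ℂ) *
        (((c (x : Γ ⧸ N) : ℂˣ) : ℂ) * F x) =
        ((c ((y : Γ ⧸ N)⁻¹ * (x : Γ ⧸ N)) : ℂˣ) : ℂ) * F x := by
      intro c
      rw [map_mul, Units.val_mul, mul_assoc]
    simp_rw [h3]
    rw [← Finset.sum_mul, sum_dual_apply hcomm]
    have h4 : ((y : Γ ⧸ N)⁻¹ * (x : Γ ⧸ N) = 1) ↔ (x : Γ ⧸ N) = (y : Γ ⧸ N) := by
      rw [inv_mul_eq_one, eq_comm]
    by_cases hxy : (x : Γ ⧸ N) = (y : Γ ⧸ N)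
    · rw [if_pos (h4.mpr hxy), if_pos hxy, Subgroup.index_eq_card]
    · rw [if_neg (fun h => hxy (h4.mp h)), if_neg hxy, zero_mul]
  simp_rw [h2]
  exact (sum_fiber_eq N (fun x => (N.index : ℂ) * F x) y).symm

/-- Gallagher uniqueness: a linear character trivial on `N` fixing (by multiplication) an
irreducible character with irreducible restriction to `N` is trivial. -/
theorem lin_eq_one_of_mul_eq (N : Subgroup Γ) [hN : N.Normal] {ψ β : Γ → ℂ}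
    (hψ : Cfsg.IsIrrCharacter Γ ψ) (hψN : Cfsg.IsIrrCharacter N (fun n : N => ψ n))
    (hβ : IsLin Γ β) (hβN : ∀ n : N, β n = 1) (h : β * ψ = ψ) : β = fun _ => 1 := by
  classical
  have : Fintype N := Fintype.ofFinite N
  have hone : Cfsg.IsIrrCharacter N (fun _ : N => (1 : ℂ)) :=
    Cfsg.Agent.Lib.Helper80_CharBasic.isIrrCharacter_one N
  have hprodeq : (fun _ : N => (1 : ℂ)) * (fun n : N => ψ n) = fun n : N => ψ n := by
    funext n; simp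
  have hψc : Cfsg.IsClassFunction Γ ψ := isClassFunction_of_isIrrCharacter hψ
  have hbij := Cfsg.Agent.S0856.result N (fun _ => 1) (fun n : N => ψ n) hone hψN
    (fun _ _ => rfl) (fun g n => hψc n g) (by rw [hprodeq]; exact hψN) ψ hψ (fun _ => rfl)
  have hmem : ∀ γ : Γ → ℂ, IsLin Γ γ → (∀ n : N, γ n = 1) →
      γ ∈ {β : Γ → ℂ | Cfsg.IsIrrCharacter Γ β ∧
        Cfsg.classInner (Cfsg.indFun N (fun _ : N => (1 : ℂ))) β ≠ 0} := by
    intro γ hγ hγN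
    refine ⟨hγ.irr, ?_⟩
    rw [Cfsg.Agent.Lib.Helper75_Induced.frobenius_reciprocity N _ γ
      (isClassFunction_of_isIrrCharacter hγ.irr)]
    have : (fun h : N => γ h) = fun _ => 1 := funext hγN
    rw [this, classInner_self_of_isIrrCharacter hone]
    exact one_ne_zero
  have h1 := hmem β hβ hβN
  have h2 := hmem (fun _ => 1) isLin_one (fun _ => rfl)
  apply hbij.injOn h1 h2
  show β * ψ = (fun _ => (1 : ℂ)) * ψ
  rw [h]
  funext x
  simp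

theorem sum_twist_eq (N : Subgroup Γ) [N.Normal] (c : (Γ ⧸ N) →* ℂˣ) (ψ₁ : Cfsg.IrrCharacter Γ)
    (ψ₂ : Γ → ℂ) :
    ∑ x : Γ, ((c (x : Γ ⧸ N) : ℂˣ) : ℂ) * (ψ₁.1 x * conj (ψ₂ x)) =
      (Nat.card Γ : ℂ) * Cfsg.classInner (twist (infl N c) ψ₁ : Γ → ℂ) ψ₂ := by
  have hne : (Nat.card Γ : ℂ) ≠ 0 := by
    rw [Nat.cast_ne_zero]; exact Nat.card_pos.ne'
  unfold Cfsg.classInner
  rw [← mul_assoc, mul_inv_cancel₀ hne, one_mul]
  apply Finset.sum_congr rfl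
  intro x _
  rw [twist_apply, infl_apply, mul_assoc]

/-- `∑_{n ∈ N} |ψ(n y)|² = |N|` when `ψ ∈ Irr Γ` restricts irreducibly to `N` and `Γ ⧸ N` is
abelian. -/
theorem sum_coset_norm (N : Subgroup Γ) [hN : N.Normal] [Fintype N]
    (hcomm : ∀ a b : Γ ⧸ N, a * b = b * a) {ψ : Γ → ℂ}
    (hψ : Cfsg.IsIrrCharacter Γ ψ) (hψN : Cfsg.IsIrrCharacter N (fun n : N => ψ n)) (y : Γ) :
    ∑ n : N, ψ ((n : Γ) * y) * conj (ψ ((n : Γ) * y)) = (Nat.card N : ℂ) := by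
  classical
  have h := fourier_coset N hcomm (fun x => ψ x * conj (ψ x)) (Nat.card Γ : ℂ) (fun c => by
    rw [sum_twist_eq N c ⟨ψ, hψ⟩ ψ, classInner_irr (twist (infl N c) ⟨ψ, hψ⟩).2 hψ]
    by_cases hc : c = 1
    · subst hc
      rw [if_pos rfl, if_pos, mul_one]
      funext x
      simp [infl_apply]
    · rw [if_neg hc, if_neg, mul_zero]
      intro h
      apply hc
      have hβ : IsLin Γ (fun x => ((infl N c x : ℂˣ) : ℂ)) :=
        isLin_of_hom ((Units.coeHom ℂ).comp (infl N c))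
      have h1 := lin_eq_one_of_mul_eq N hψ hψN hβ
        (fun n => by simp [infl_of_mem N c n.2]) h
      refine MonoidHom.ext (fun q => ?_)
      obtain ⟨x, rfl⟩ := QuotientGroup.mk_surjective q
      have := congrFun h1 x
      apply Units.ext
      simpa [infl_apply] using this) y
  have hidx : (N.index : ℂ) ≠ 0 := by
    rw [Nat.cast_ne_zero]; exact Subgroup.index_ne_zero_of_finite
  apply mul_left_cancel₀ hidx
  rw [h, ← Nat.cast_mul, mul_comm, Subgroup.card_mul_index]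

/-- `∑_{n ∈ N} ψ₁(n y) conj ψ₂(n y) = 0` when `ψ₁, ψ₂ ∈ Irr Γ` have different restrictions
to `N` and `Γ ⧸ N` is abelian. -/
theorem sum_coset_orth (N : Subgroup Γ) [hN : N.Normal] [Fintype N]
    (hcomm : ∀ a b : Γ ⧸ N, a * b = b * a) {ψ₁ ψ₂ : Γ → ℂ}
    (h₁ : Cfsg.IsIrrCharacter Γ ψ₁) (h₂ : Cfsg.IsIrrCharacter Γ ψ₂)
    (hne : (fun n : N => ψ₁ n) ≠ fun n : N => ψ₂ n) (y : Γ) :
    ∑ n : N, ψ₁ ((n : Γ) * y) * conj (ψ₂ ((n : Γ) * y)) = 0 := by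
  classical
  have h := fourier_coset N hcomm (fun x => ψ₁ x * conj (ψ₂ x)) 0 (fun c => by
    rw [sum_twist_eq N c ⟨ψ₁, h₁⟩ ψ₂, classInner_irr (twist (infl N c) ⟨ψ₁, h₁⟩).2 h₂]
    rw [if_neg, mul_zero, ite_self]
    intro h
    apply hne
    funext n
    have := congrFun h (n : Γ)
    rw [twist_apply, infl_of_mem N c n.2] at this
    simpa using this) y
  have hidx : (N.index : ℂ) ≠ 0 := by
    rw [Nat.cast_ne_zero]; exact Subgroup.index_ne_zero_of_finite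
  exact (mul_eq_zero.mp h).resolve_left hidx

end Cfsg.Agent.Lib.Helper75_CosetNorm
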