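import Cfsg.Agent.Lib.Helper75_RelGlaubQuot
import Cfsg.Agent.S0856

/-!
# Gallagher's correspondence, packaged over the quotient group (helper75)

For `N ⊴ X`, an `X`-invariant `ϑ ∈ Irr N` and an extension `ψ ∈ Irr X` of `ϑ`, the map
`gal : Irr (X ⧸ N) → Irr X`, `δ ↦ (δ ∘ mk) * ψ`, is injective with image the irreducible
characters over `ϑ`, and `[(Φ ∘ mk) * ψ, gal δ] = [Φ, δ]` for every character `Φ` of `X ⧸ N`.
-/

set_option autoImplicit false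
set_option linter.unusedSectionVars false
open scoped ComplexConjugate

namespace Cfsg.Agent.Lib.Helper75_RelGlaubGal

open Cfsg.Agent.Lib.Helper3_CharBridge Cfsg.Agent.Lib.Helper3_CharOrtho
  Cfsg.Agent.Lib.Helper75_CharArith Cfsg.Agent.Lib.Helper75_Clifford
  Cfsg.Agent.Lib.Helper75_Induced Cfsg.Agent.Lib.Helper75_CharProd
  Cfsg.Agent.Lib.Helper75_RelGlaubBasic Cfsg.Agent.Lib.Helper75_RelGlaubQuot

section overdef

variable {X : Type*} [Group X] [Fintype X]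

/-- `χ` lies over `ϑ`. -/
def Over (N : Subgroup X) [Fintype N] (ϑ : N → ℂ) (χ : X → ℂ) : Prop :=
  Cfsg.classInner (res N χ) ϑ ≠ 0

theorem over_iff_ind (N : Subgroup X) [Fintype N] (ϑ : N → ℂ) {χ : X → ℂ}
    (hχ : Cfsg.IsClassFunction X χ) :
    Over N ϑ χ ↔ Cfsg.classInner (Cfsg.indFun N ϑ) χ ≠ 0 := by
  unfold Over
  rw [frobenius_reciprocity N ϑ χ hχ]
  have h : Cfsg.classInner ϑ (fun h : N => χ h) = conj (Cfsg.classInner (res N χ) ϑ) :=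
    (classInner_conj_symm (res N χ) ϑ).symm
  rw [h]
  exact (map_ne_zero _).symm

end overdef

section gal

variable {X : Type*} [Group X] [Fintype X] (N : Subgroup X) [hN : N.Normal] [Fintype N]
  [Fintype (X ⧸ N)]

/-- Inflation from `X ⧸ N`. -/
noncomputable abbrev inflN (δ : Cfsg.IrrCharacter (X ⧸ N)) : Cfsg.IrrCharacter X :=
  infl (QuotientGroup.mk' N) (QuotientGroup.mk'_surjective N) δ

/-- The facts making up Gallagher's correspondence. -/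
structure GalPkg (ϑ : N → ℂ) (ψ : X → ℂ) : Prop where
  irr : ∀ δ : Cfsg.IrrCharacter (X ⧸ N), Cfsg.IsIrrCharacter X ((inflN N δ : X → ℂ) * ψ)
  inj : ∀ δ δ' : Cfsg.IrrCharacter (X ⧸ N),
    (inflN N δ : X → ℂ) * ψ = (inflN N δ' : X → ℂ) * ψ → δ = δ'
  isOver : ∀ δ : Cfsg.IrrCharacter (X ⧸ N), Over N ϑ ((inflN N δ : X → ℂ) * ψ)
  surj : ∀ ξ : X → ℂ, Cfsg.IsIrrCharacter X ξ → Over N ϑ ξ →
    ∃ δ : Cfsg.IrrCharacter (X ⧸ N), ξ = (inflN N δ : X → ℂ) * ψ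

theorem galPkg_of_ext {ϑ : N → ℂ} (hϑ : Cfsg.IsIrrCharacter N ϑ)
    (hinv : ∀ (g : X) (n : N), ϑ ⟨g * n * g⁻¹, hN.conj_mem (n : X) n.2 g⟩ = ϑ n)
    {ψ : X → ℂ} (hψ : Cfsg.IsIrrCharacter X ψ) (hext : ∀ n : N, ψ n = ϑ n) :
    GalPkg N ϑ ψ := by
  have h1 : (fun _ : N => (1 : ℂ)) * ϑ = ϑ := by
    funext n
    rw [Pi.mul_apply, one_mul]
  have hone : Cfsg.IsIrrCharacter N (fun _ : N => (1 : ℂ)) :=
    Cfsg.Agent.Lib.Helper80_CharBasic.isIrrCharacter_one N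
  have hbij := Cfsg.Agent.S0856.result N (fun _ : N => (1 : ℂ)) ϑ hone hϑ (fun _ _ => rfl) hinv
    (by rw [h1]; exact hϑ) ψ hψ hext
  rw [h1] at hbij
  have hA : ∀ δ : Cfsg.IrrCharacter (X ⧸ N), (inflN N δ : X → ℂ) ∈
      {β : X → ℂ | Cfsg.IsIrrCharacter X β ∧
        Cfsg.classInner (Cfsg.indFun N (fun _ : N => (1 : ℂ))) β ≠ 0} := by
    intro δ
    refine ⟨(inflN N δ).2, ?_⟩
    rw [← over_iff_ind N _ (isClassFunction_of_isIrrCharacter (inflN N δ).2)]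
    apply over_one_of_eq_one N (irr_one_ne_zero (inflN N δ).2)
    intro n
    exact infl_trivial (QuotientGroup.mk' N) (QuotientGroup.mk'_surjective N) δ (n : X)
      ((QuotientGroup.eq_one_iff _).mpr n.2)
  refine ⟨?_, ?_, ?_, ?_⟩
  · intro δ
    exact (hbij.mapsTo (hA δ)).1
  · intro δ δ' h
    exact infl_injective _ _ (Subtype.ext (hbij.injOn (hA δ) (hA δ') h))
  · intro δ
    have h2 := hbij.mapsTo (hA δ)
    rw [over_iff_ind N ϑ (isClassFunction_of_isIrrCharacter h2.1)]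
    exact h2.2
  · intro ξ hξ hover
    have hB : ξ ∈ {ψ' : X → ℂ | Cfsg.IsIrrCharacter X ψ' ∧
        Cfsg.classInner (Cfsg.indFun N ϑ) ψ' ≠ 0} :=
      ⟨hξ, (over_iff_ind N ϑ (isClassFunction_of_isIrrCharacter hξ)).mp hover⟩
    obtain ⟨β, ⟨hβirr, hβ1⟩, hβξ⟩ := hbij.surjOn hB
    have h3 : Over N (fun _ : N => (1 : ℂ)) β :=
      (over_iff_ind N _ (isClassFunction_of_isIrrCharacter hβirr)).mpr hβ1
    have h4 : ∀ n : N, β n = β 1 := eq_one_of_over_one N hN hβirr h3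
    obtain ⟨δ, hδ⟩ := exists_infl (QuotientGroup.mk' N) (QuotientGroup.mk'_surjective N)
      ⟨β, hβirr⟩ (fun c hc => h4 ⟨c, (QuotientGroup.eq_one_iff _).mp hc⟩)
    refine ⟨δ, ?_⟩
    rw [← hβξ]
    have h5 : β = (inflN N δ : X → ℂ) := congrArg Subtype.val hδ
    show β * ψ = _
    rw [h5]

variable {N}

/-- `[(Φ ∘ mk) * ψ, (δ ∘ mk) * ψ] = [Φ, δ]`. -/
theorem GalPkg.classInner_eq {ϑ : N → ℂ} {ψ : X → ℂ} (h : GalPkg N ϑ ψ)
    {Φ : X ⧸ N → ℂ} (hΦ : Cfsg.IsCharacter (X ⧸ N) Φ) (δ : Cfsg.IrrCharacter (X ⧸ N)) :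
    Cfsg.classInner ((fun x : X => Φ (QuotientGroup.mk' N x)) * ψ) ((inflN N δ : X → ℂ) * ψ) =
      Cfsg.classInner Φ (δ : X ⧸ N → ℂ) := by
  classical
  obtain ⟨m, hm, hsum⟩ := exists_multiplicities hΦ
  have h1 : (fun x : X => Φ (QuotientGroup.mk' N x)) * ψ =
      ∑ δ' : Cfsg.IrrCharacter (X ⧸ N), (m δ' : ℂ) • ((inflN N δ' : X → ℂ) * ψ) := by
    funext x
    rw [Pi.mul_apply, hsum]
    simp only [Finset.sum_apply, Pi.smul_apply, Pi.mul_apply, infl_apply, smul_eq_mul,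
      Finset.sum_mul, mul_assoc]
  rw [h1, classInner_sum_left, hm δ, Finset.sum_eq_single δ]
  · rw [classInner_smul_left, classInner_self_of_isIrrCharacter (h.irr δ), mul_one]
  · intro δ' _ hne
    rw [classInner_smul_left,
      classInner_of_isIrrCharacter_of_ne (h.irr δ') (h.irr δ) (fun h0 => hne (h.inj _ _ h0)),
      mul_zero]
  · intro h0; exact absurd (Finset.mem_univ _) h0

/-- `(Φ ∘ mk) * ψ` is orthogonal to the irreducible characters outside the image of Gallagher's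
map. -/
theorem GalPkg.classInner_orth {ϑ : N → ℂ} {ψ : X → ℂ} (h : GalPkg N ϑ ψ)
    {Φ : X ⧸ N → ℂ} (hΦ : Cfsg.IsCharacter (X ⧸ N) Φ) {ξ : X → ℂ}
    (hξ : Cfsg.IsIrrCharacter X ξ)
    (hne : ∀ δ : Cfsg.IrrCharacter (X ⧸ N), ξ ≠ (inflN N δ : X → ℂ) * ψ) :
    Cfsg.classInner ((fun x : X => Φ (QuotientGroup.mk' N x)) * ψ) ξ = 0 := by
  classical
  obtain ⟨m, hm, hsum⟩ := exists_multiplicities hΦ
  have h1 : (fun x : X => Φ (QuotientGroup.mk' N x)) * ψ =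
      ∑ δ' : Cfsg.IrrCharacter (X ⧸ N), (m δ' : ℂ) • ((inflN N δ' : X → ℂ) * ψ) := by
    funext x
    rw [Pi.mul_apply, hsum]
    simp only [Finset.sum_apply, Pi.smul_apply, Pi.mul_apply, infl_apply, smul_eq_mul,
      Finset.sum_mul, mul_assoc]
  rw [h1, classInner_sum_left]
  apply Finset.sum_eq_zero
  intro δ' _
  rw [classInner_smul_left,
    classInner_of_isIrrCharacter_of_ne (h.irr δ') hξ (fun h0 => hne δ' h0.symm), mul_zero]

end gal

end Cfsg.Agent.Lib.Helper75_RelGlaubGal
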