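import Mathlib
import Cfsg.Prelude.Def_Local
import Cfsg.Prelude.Def_Blocks
import Cfsg.Agent.S4387
import Cfsg.Agent.Lib.Helper75_BrauerPerm
import Cfsg.Agent.Lib.Helper75_LinChar
import Cfsg.Agent.Lib.Helper3_CharDegree
import Cfsg.Agent.Lib.Helper3_CharColumn
import Cfsg.Agent.Lib.Helper3_CharBridge
import Cfsg.Agent.Lib.Helper81_CharOrth
import Cfsg.Agent.Lib.Helper16_Cover
import Cfsg.Agent.Lib.Helper76_PSolvable
import Cfsg.Agent.Lib.Helper57_FrobNorm

/-!
# Towards Ito-Michler for `p`-solvable groups (helper82)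

Group theory: `mem_sylow_of_mem_normalizer`, `sylow_eq_of_normal`, `le_of_normal_of_isPGroup`,
`relIndex_dvd_index_of_normal_right`, `sylow_le_comap`, `relIndex_comap_eq`, `normal_of_centralizes`,
`centralizes_of_fixes_classes`.
Characters: conjugation action on functions of a normal subgroup (`CF`, `stab`, `mem_stab`),
`clifford_degree` (`χ(1) = e [G:T] θ(1)`), `isConj_of_fix_all` (Brauer permutation lemma),
`key_degree`, `centralizes_of_degrees`, `comm_of_degrees`, and the generic induction `core`.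
-/

set_option autoImplicit false

namespace Cfsg.Agent.Lib.Helper82_ItoMichler

open scoped Pointwise ComplexConjugate
open Cfsg.Agent.Lib.Helper75_Clifford

section grp0

variable {G : Type*} [Group G]

/-- a `p`-element normalizing a Sylow `p`-subgroup lies in it -/
theorem mem_sylow_of_mem_normalizer {p : ℕ} (P : Sylow p G) {y : G}
    (hy : y ∈ Subgroup.normalizer ((P : Subgroup G) : Set G))
    (hyp : IsPGroup p (Subgroup.zpowers y)) : y ∈ (P : Subgroup G) := by
  have h0 := IsPGroup.inf_normalizer_sylow hyp P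
  exact (h0.le ⟨Subgroup.mem_zpowers y, hy⟩).2

/-- a normal `p`-subgroup of index prime to `p` is the unique Sylow `p`-subgroup -/
theorem sylow_eq_of_normal {p : ℕ} [Fact p.Prime] (Q : Subgroup G) [Q.Normal] (hQ : IsPGroup p Q)
    (hidx : ¬ p ∣ Q.index) (P : Sylow p G) : (P : Subgroup G) = Q := by
  have h1 : Q ≤ P := hQ.le_sylow_of_normal P
  exact ((hQ.toSylow hidx).is_maximal' P.isPGroup' h1)

/-- every `p`-subgroup lies in a normal `p`-subgroup of index prime to `p` -/
theorem le_of_normal_of_isPGroup {p : ℕ} [Fact p.Prime] (Q : Subgroup G) [Q.Normal]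
    (hQ : IsPGroup p Q) (hidx : ¬ p ∣ Q.index) (R : Subgroup G) (hR : IsPGroup p R) : R ≤ Q := by
  obtain ⟨S, hS⟩ := hR.exists_le_sylow
  rw [sylow_eq_of_normal Q hQ hidx S] at hS
  exact hS

end grp0

section grp1

variable {G : Type*} [Group G] [Finite G]


/-- for `K` normal, `[K : K ∩ T]` divides `[G : T]` -/
theorem relIndex_dvd_index_of_normal_right (T K : Subgroup G) [K.Normal] :
    T.relIndex K ∣ T.index := by
  have h1 : T.relIndex (T ⊔ K) ∣ T.index := Subgroup.relIndex_dvd_index_of_le le_sup_left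
  suffices h : T.relIndex (T ⊔ K) = T.relIndex K by rwa [h] at h1
  -- cardinalities
  have e1 : Nat.card K * K.relIndex (T ⊔ K) = Nat.card (T ⊔ K : Subgroup G) := by
    have := Subgroup.relIndex_mul_relIndex ⊥ K (T ⊔ K) bot_le le_sup_right
    rwa [Subgroup.relIndex_bot_left, Subgroup.relIndex_bot_left] at this
  have e2 : Nat.card T * T.relIndex (T ⊔ K) = Nat.card (T ⊔ K : Subgroup G) := by
    have := Subgroup.relIndex_mul_relIndex ⊥ T (T ⊔ K) bot_le le_sup_left
    rwa [Subgroup.relIndex_bot_left, Subgroup.relIndex_bot_left] at this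
  have e3 : Nat.card (T ⊓ K : Subgroup G) * K.relIndex T = Nat.card T := by
    have := Subgroup.relIndex_mul_relIndex ⊥ (T ⊓ K) T bot_le inf_le_left
    rwa [Subgroup.relIndex_bot_left, Subgroup.relIndex_bot_left, Subgroup.inf_relIndex_left] at this
  have e4 : Nat.card (T ⊓ K : Subgroup G) * T.relIndex K = Nat.card K := by
    have := Subgroup.relIndex_mul_relIndex ⊥ (T ⊓ K) K bot_le inf_le_right
    rwa [Subgroup.relIndex_bot_left, Subgroup.relIndex_bot_left, Subgroup.inf_relIndex_right] at this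
  have e5 : K.relIndex (T ⊔ K) = K.relIndex T := Subgroup.relIndex_sup_right T K
  have hpos : 0 < Nat.card (T ⊓ K : Subgroup G) * K.relIndex T := by
    rw [e3]; exact Nat.card_pos
  have key : Nat.card (T ⊓ K : Subgroup G) * K.relIndex T * T.relIndex (T ⊔ K) =
      Nat.card (T ⊓ K : Subgroup G) * K.relIndex T * T.relIndex K := by
    calc Nat.card (T ⊓ K : Subgroup G) * K.relIndex T * T.relIndex (T ⊔ K)
        = Nat.card T * T.relIndex (T ⊔ K) := by rw [e3]
      _ = Nat.card (T ⊔ K : Subgroup G) := e2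
      _ = Nat.card K * K.relIndex T := by rw [← e1, e5]
      _ = Nat.card (T ⊓ K : Subgroup G) * T.relIndex K * K.relIndex T := by rw [e4]
      _ = Nat.card (T ⊓ K : Subgroup G) * K.relIndex T * T.relIndex K := by ring
  exact Nat.eq_of_mul_eq_mul_left hpos key

end grp1

section grp3

variable {G : Type*} [Group G] [Finite G] {p : ℕ} [Fact p.Prime]

omit [Finite G] in
/-- the preimage `K` of a normal Sylow `p`-subgroup of `G ⧸ N` contains each Sylow
`p`-subgroup of `G`. -/
theorem sylow_le_comap (N : Subgroup G) [N.Normal] (Qb : Subgroup (G ⧸ N)) [Qb.Normal]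
    (hQb : IsPGroup p Qb) (hidx : ¬ p ∣ Qb.index) (P : Sylow p G) :
    (P : Subgroup G) ≤ Qb.comap (QuotientGroup.mk' N) := by
  rw [← Subgroup.map_le_iff_le_comap]
  exact le_of_normal_of_isPGroup Qb hQb hidx _ (P.isPGroup'.map _)

omit [Finite G] in
theorem relIndex_comap_eq (N : Subgroup G) [N.Normal] (Qb : Subgroup (G ⧸ N)) :
    N.relIndex (Qb.comap (QuotientGroup.mk' N)) = Nat.card Qb := by
  have h : (Subgroup.comap (QuotientGroup.mk' N) ⊥).relIndex (Qb.comap (QuotientGroup.mk' N)) =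
      Nat.card Qb := by
    rw [Subgroup.relIndex_comap, Subgroup.map_comap_eq_self_of_surjective
      (QuotientGroup.mk'_surjective N), Subgroup.relIndex_bot_left]
  have h1 : Subgroup.comap (QuotientGroup.mk' N) ⊥ = N := by
    rw [MonoidHom.comap_bot, QuotientGroup.ker_mk']
  rw [h1] at h
  exact h

/-- **Group-theoretic step, `p'`-case.**  If `N` is a normal `p'`-subgroup, `G ⧸ N` has a normal
abelian Sylow `p`-subgroup and a Sylow `p`-subgroup `P` of `G` centralizes `N`, then `P` is normal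
and abelian. -/
theorem normal_of_centralizes (N : Subgroup G) [N.Normal] (hNp : (Nat.card N).Coprime p)
    (Qb : Subgroup (G ⧸ N)) [Qb.Normal] (hQb : IsPGroup p Qb) (hidx : ¬ p ∣ Qb.index)
    (hcomm : ∀ a ∈ Qb, ∀ b ∈ Qb, a * b = b * a) (P : Sylow p G)
    (hcent : ∀ x ∈ (P : Subgroup G), ∀ n ∈ N, x * n = n * x) :
    (P : Subgroup G).Normal ∧ ∀ x ∈ (P : Subgroup G), ∀ y ∈ (P : Subgroup G), x * y = y * x := by
  have hp : p.Prime := Fact.out
  set K : Subgroup G := Qb.comap (QuotientGroup.mk' N) with hK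
  have hKn : K.Normal := Subgroup.Normal.comap inferInstance _
  have hPK : (P : Subgroup G) ≤ K := sylow_le_comap N Qb hQb hidx P
  have hNK : N ≤ K := by
    intro n hn
    rw [hK, Subgroup.mem_comap]
    have : QuotientGroup.mk' N n = 1 := (QuotientGroup.eq_one_iff n).2 hn
    rw [this]
    exact one_mem _
  -- K = P ⊔ N
  have hsup : (P : Subgroup G) ⊔ N ≤ K := sup_le hPK hNK
  have hKle : K ≤ (P : Subgroup G) ⊔ N := by
    rw [← Subgroup.relIndex_eq_one]
    have h1 : ((P : Subgroup G) ⊔ N).relIndex K ∣ N.relIndex K :=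
      Subgroup.relIndex_dvd_of_le_left K le_sup_right
    rw [relIndex_comap_eq] at h1
    obtain ⟨m, hm⟩ := IsPGroup.iff_card.1 hQb
    rw [hm] at h1
    obtain ⟨j, -, hj⟩ := (Nat.dvd_prime_pow hp).1 h1
    have h2 : ((P : Subgroup G) ⊔ N).relIndex K ∣ (P : Subgroup G).index :=
      (Subgroup.relIndex_dvd_index_of_le hsup).trans (Subgroup.index_dvd_of_le le_sup_left)
    rcases j with _ | j
    · rw [hj, pow_zero]
    · exfalso
      apply P.not_dvd_index
      refine dvd_trans ?_ h2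
      rw [hj]
      exact dvd_pow_self p (Nat.succ_ne_zero j)
  -- K normalizes P
  have hKnorm : K ≤ Subgroup.normalizer ((P : Subgroup G) : Set G) := by
    refine hKle.trans (sup_le Subgroup.le_normalizer ?_)
    intro n hn
    rw [Subgroup.mem_normalizer_iff]
    intro h
    constructor
    · intro hh
      have : n * h * n⁻¹ = h := by
        have := hcent h hh n hn
        rw [← this]; group
      rw [this]; exact hh
    · intro hh
      have h3 := hcent _ hh n hn
      -- (n h n⁻¹) n = n (n h n⁻¹)  ⇒ h = n h n⁻¹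
      have : h = n * h * n⁻¹ := by
        have h4 : n * h * n⁻¹ * n = n * (n * h * n⁻¹) := h3
        have h5 : n * h = n * (n * h * n⁻¹) := by
          rw [← h4]; group
        exact mul_left_cancel h5
      rw [this]; exact hh
  constructor
  · refine ⟨fun h hh g => ?_⟩
    apply mem_sylow_of_mem_normalizer P (hKnorm (hKn.conj_mem h (hPK hh) g))
    -- g h g⁻¹ generates a p-group
    have h6 : Subgroup.zpowers (g * h * g⁻¹) ≤ ((P : Subgroup G).map (MulAut.conj g).toMonoidHom) := by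
      rw [Subgroup.zpowers_le]
      exact ⟨h, hh, by simp⟩
    exact (P.isPGroup'.map _).to_le h6
  · intro x hx y hy
    have h7 : x * y * x⁻¹ * y⁻¹ ∈ N := by
      rw [← QuotientGroup.eq_one_iff]
      have hx' : (QuotientGroup.mk' N x) ∈ Qb := hPK hx
      have hy' : (QuotientGroup.mk' N y) ∈ Qb := hPK hy
      have h8 := hcomm _ hx' _ hy'
      have : ((x * y * x⁻¹ * y⁻¹ : G) : G ⧸ N) =
          QuotientGroup.mk' N x * QuotientGroup.mk' N y * (QuotientGroup.mk' N x)⁻¹ *
            (QuotientGroup.mk' N y)⁻¹ := by simp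
      rw [this, h8]
      group
    have h9 : x * y * x⁻¹ * y⁻¹ ∈ (P : Subgroup G) :=
      mul_mem (mul_mem (mul_mem hx hy) (inv_mem hx)) (inv_mem hy)
    have hbot : (P : Subgroup G) ⊓ N = ⊥ := by
      apply disjoint_iff.1
      apply Subgroup.disjoint_of_coprime_natCard
      obtain ⟨m, hm⟩ := IsPGroup.iff_card.1 P.isPGroup'
      rw [hm]
      exact Nat.Coprime.pow_left m hNp.symm
    have h10 : x * y * x⁻¹ * y⁻¹ ∈ (P : Subgroup G) ⊓ N := ⟨h9, h7⟩
    rw [hbot, Subgroup.mem_bot] at h10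
    calc x * y = x * y * x⁻¹ * y⁻¹ * (y * x) := by group
      _ = y * x := by rw [h10, one_mul]

end grp3

section grp2

variable {G : Type*} [Group G] [Finite G]

/-- A `p`-element of `G` stabilizing every conjugacy class of the normal `p'`-subgroup `N`
centralizes `N`. -/
theorem centralizes_of_fixes_classes {p : ℕ} [Fact p.Prime] (N : Subgroup G) [hN : N.Normal]
    (hNp : (Nat.card N).Coprime p) (x : G) {k : ℕ} (hx : x ^ p ^ k = 1)
    (hfix : ∀ n : N, IsConj (⟨x * n * x⁻¹, hN.conj_mem n n.2 x⟩ : N) n) :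
    ∀ n ∈ N, x * n = n * x := by
  classical
  have hp : p.Prime := Fact.out
  have := Fintype.ofFinite N
  set C : Subgroup N := (Subgroup.centralizer ({x} : Set G)).subgroupOf N with hC
  have hCmem : ∀ n : N, n ∈ C ↔ x * (n : G) = (n : G) * x := by
    intro n
    rw [hC, Subgroup.mem_subgroupOf, Subgroup.mem_centralizer_singleton_iff]
    exact eq_comm
  suffices hCtop : C = ⊤ by
    intro n hn
    have : (⟨n, hn⟩ : N) ∈ C := by rw [hCtop]; trivial
    exact (hCmem ⟨n, hn⟩).1 this
  by_contra hne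
  obtain ⟨n₀, hn₀⟩ := Cfsg.Agent.S4387.exists_not_mem_conj C hne
  -- the action of `x` on the class of `n₀`
  let α := {n : N // IsConj n n₀}
  let g : α → α := fun a =>
    ⟨⟨x * (a.1 : G) * x⁻¹, hN.conj_mem _ a.1.2 x⟩, (hfix a.1).trans a.2⟩
  have hgpow : ∀ j : ℕ, ∀ a : α, (((g^[j]) a).1 : G) = x ^ j * (a.1 : G) * (x ^ j)⁻¹ := by
    intro j
    induction j with
    | zero => intro a; simp
    | succ j ih =>
      intro a
      rw [Function.iterate_succ_apply']
      show x * (((g^[j]) a).1 : G) * x⁻¹ = _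
      rw [ih a, pow_succ']
      group
  let f : Function.End α := g
  have hf1 : f ^ p ^ k = 1 := by
    funext a
    show (g^[p ^ k]) a = a
    apply Subtype.ext
    apply Subtype.ext
    rw [hgpow, hx]
    simp
  have hmod := Equiv.Perm.card_fixedPoints_modEq (p := p) (n := k) hf1
  have hcardα : Fintype.card α = (Cfsg.Agent.Lib.Helper3_CharColumn.conjFinset n₀).card :=
    Fintype.card_of_subtype _ (fun g => Cfsg.Agent.Lib.Helper3_CharColumn.mem_conjFinset)
  have hdvd : Fintype.card α ∣ Nat.card N := by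
    rw [hcardα]
    exact Dvd.intro _ (Cfsg.Agent.Lib.Helper3_CharColumn.card_conjFinset_mul_card_centralizer n₀)
  have hnd : ¬ p ∣ Fintype.card α := by
    intro h
    have h1 : p ∣ Nat.card N := h.trans hdvd
    have h2 : p ∣ Nat.gcd (Nat.card N) p := Nat.dvd_gcd h1 dvd_rfl
    rw [hNp] at h2
    exact hp.one_lt.ne' (Nat.dvd_one.1 h2)
  have hfp : 0 < Fintype.card (Function.fixedPoints f) := by
    by_contra h0
    have h0' : Fintype.card (Function.fixedPoints f) = 0 := by omega
    rw [h0'] at hmod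
    exact hnd ((Nat.modEq_zero_iff_dvd).1 hmod)
  obtain ⟨⟨a, ha⟩⟩ := Fintype.card_pos_iff.1 hfp
  have ha' : f a = a := ha
  have hxa : x * (a.1 : G) * x⁻¹ = (a.1 : G) := by
    have := congrArg (fun b : α => ((b.1 : N) : G)) ha'
    exact this
  have haC : a.1 ∈ C := by
    rw [hCmem]
    calc x * (a.1 : G) = x * (a.1 : G) * x⁻¹ * x := by group
      _ = (a.1 : G) * x := by rw [hxa]
  obtain ⟨c, hc⟩ := isConj_iff.1 a.2
  -- c * a.1 * c⁻¹ = n₀
  apply hn₀ c
  rw [Subgroup.mem_pointwise_smul_iff_inv_smul_mem]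
  have h3 : ∀ b : N, c * b * c⁻¹ = n₀ → ((MulAut.conj c)⁻¹ • n₀ : N) = b := by
    intro b hb
    rw [← hb, ← map_inv, MulAut.smul_def, MulAut.conj_apply]
    group
  rw [h3 a.1 hc]
  exact haC

end grp2

section chr

variable {G : Type*} [Group G]

/-- functions on a normal subgroup, as a `G`-set under conjugation -/
def CF (N : Subgroup G) : Type _ := N → ℂ

theorem conjFun_inv_one (N : Subgroup G) [hN : N.Normal] (ψ : N → ℂ) :
    Helper75_Clifford.conjFun N hN ψ (1 : G)⁻¹ = ψ := by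
  rw [inv_one, conjFun_one]

theorem conjFun_mul_inv (N : Subgroup G) [hN : N.Normal] (g h : G) (ψ : N → ℂ) :
    Helper75_Clifford.conjFun N hN ψ (g * h)⁻¹ = Helper75_Clifford.conjFun N hN (Helper75_Clifford.conjFun N hN ψ h⁻¹) g⁻¹ := by
  rw [conjFun_conjFun, mul_inv_rev]

instance instMulActionCF (N : Subgroup G) [hN : N.Normal] : MulAction G (CF N) where
  smul g ψ := Helper75_Clifford.conjFun N hN ψ g⁻¹
  one_smul ψ := conjFun_inv_one N ψ
  mul_smul g h ψ := conjFun_mul_inv N g h ψ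

theorem smul_CF_def (N : Subgroup G) [hN : N.Normal] (g : G) (ψ : CF N) :
    g • ψ = Helper75_Clifford.conjFun N hN ψ g⁻¹ := rfl

/-- the inertia group of a function on a normal subgroup -/
def stab (N : Subgroup G) [N.Normal] (θ : N → ℂ) : Subgroup G :=
  MulAction.stabilizer G (show CF N from θ)

theorem mem_stab (N : Subgroup G) [hN : N.Normal] (θ : N → ℂ) (g : G) :
    g ∈ stab N θ ↔ Helper75_Clifford.conjFun N hN θ g = θ := by
  unfold stab
  rw [MulAction.mem_stabilizer_iff, smul_CF_def]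
  constructor
  · intro h
    have h1 : Helper75_Clifford.conjFun N hN (Helper75_Clifford.conjFun N hN θ g⁻¹) g = Helper75_Clifford.conjFun N hN θ g := by
      exact congrArg (fun ψ => Helper75_Clifford.conjFun N hN ψ g) h
    rw [conjFun_conjFun, inv_mul_cancel, conjFun_one] at h1
    exact h1.symm
  · intro h
    have h1 : Helper75_Clifford.conjFun N hN (Helper75_Clifford.conjFun N hN θ g) g⁻¹ = Helper75_Clifford.conjFun N hN θ g⁻¹ := by
      exact congrArg (fun ψ => Helper75_Clifford.conjFun N hN ψ g⁻¹) h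
    rw [conjFun_conjFun, mul_inv_cancel, conjFun_one] at h1
    exact h1.symm

theorem orbit_eq (N : Subgroup G) [hN : N.Normal] (θ : N → ℂ) :
    MulAction.orbit G (show CF N from θ) = {ψ : N → ℂ | ∃ g : G, ψ = Helper75_Clifford.conjFun N hN θ g} := by
  ext ψ
  constructor
  · rintro ⟨g, rfl⟩
    exact ⟨g⁻¹, rfl⟩
  · rintro ⟨g, rfl⟩
    refine ⟨g⁻¹, ?_⟩
    show Helper75_Clifford.conjFun N hN θ g⁻¹⁻¹ = _
    rw [inv_inv]

theorem le_stab (N : Subgroup G) [hN : N.Normal] {θ : N → ℂ}
    (hθ : Cfsg.IsClassFunction N θ) : N ≤ stab N θ := by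
  intro n hn
  rw [mem_stab]
  exact conjFun_of_mem N hN hθ ⟨n, hn⟩

theorem charDegree_eq {H : Type*} [Group H] (χ : H → ℂ) (a : ℕ) (h : χ 1 = a) :
    Cfsg.charDegree χ = a := by
  unfold Cfsg.charDegree
  rw [h]
  simp

/-- **Clifford degree formula**: `χ(1) = e · [G : T] · θ(1)`. -/
theorem clifford_degree [Fintype G] (N : Subgroup G) [hN : N.Normal] [Fintype N]
    {χ : G → ℂ} (hχ : Cfsg.IsIrrCharacter G χ) {θ : N → ℂ} (hθ : Cfsg.IsIrrCharacter N θ)
    (h1 : Cfsg.classInner (res N χ) θ ≠ 0) (a b : ℕ) (ha : χ 1 = a) (hb : θ 1 = b) :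
    ∃ e : ℕ, a = e * ((stab N θ).index * b) := by
  classical
  obtain ⟨e, he⟩ := Cfsg.Agent.Lib.Helper75_CharArith.classInner_isCharacter_nat
    (isCharacter_res N (Cfsg.Agent.Lib.Helper3_CharBridge.isCharacter_of_isIrrCharacter hχ))
    (Cfsg.Agent.Lib.Helper3_CharBridge.isCharacter_of_isIrrCharacter hθ)
  refine ⟨e, ?_⟩
  have hcl := clifford N hN hχ hθ h1
  set A : Set (N → ℂ) := {ψ : N → ℂ | ∃ g : G, ψ = Helper75_Clifford.conjFun N hN θ g} with hA
  have hAfin : A.Finite := by
    have : Finite (Cfsg.IrrCharacter N) := Cfsg.Agent.Lib.Helper81_CharOrth.finite_irrCharacter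
    refine Set.Finite.subset (Set.finite_range (Subtype.val : Cfsg.IrrCharacter N → (N → ℂ))) ?_
    rintro ψ ⟨g, rfl⟩
    exact ⟨⟨_, isIrrCharacter_conjFun N hN hθ g⟩, rfl⟩
  have hcard : hAfin.toFinset.card = (stab N θ).index := by
    have h := MulAction.index_stabilizer (G := G) (x := (show CF N from θ))
    have h' : (stab N θ).index = A.ncard := by
      unfold stab
      rw [h]
      exact congrArg Set.ncard (orbit_eq N θ)
    rw [h', Set.ncard_eq_toFinset_card A hAfin]
  have h2 := congrFun hcl 1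
  rw [he, finsum_mem_eq_finite_toFinset_sum _ hAfin] at h2
  simp only [Pi.smul_apply, Finset.sum_apply, smul_eq_mul] at h2
  have h3 : ∀ ψ ∈ hAfin.toFinset, ψ 1 = (b : ℂ) := by
    intro ψ hψ
    obtain ⟨g, rfl⟩ := (Set.Finite.mem_toFinset hAfin).1 hψ
    rw [conjFun_apply, ← hb]
    congr 1
    apply Subtype.ext
    simp
  rw [Finset.sum_congr rfl h3, Finset.sum_const, nsmul_eq_mul, hcard] at h2
  have h4 : (a : ℂ) = ((e * ((stab N θ).index * b) : ℕ) : ℂ) := by
    push_cast
    rw [← ha, ← h2]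
    rfl
  exact_mod_cast h4

end chr

section chr2

variable {G : Type*} [Group G]

/-- **Brauer's permutation lemma** (one element): an element fixing every irreducible character of
the normal subgroup `N` stabilizes every conjugacy class of `N`. -/
theorem isConj_of_fix_all [Finite G] (N : Subgroup G) [hN : N.Normal] (x : G)
    (hx : ∀ θ : Cfsg.IrrCharacter N, Helper75_Clifford.conjFun N hN (θ : N → ℂ) x = θ) (n₁ : N) :
    IsConj (⟨x * n₁ * x⁻¹, hN.conj_mem n₁ n₁.2 x⟩ : N) n₁ := by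
  classical
  have := Fintype.ofFinite N
  have hN0 : (Nat.card N : ℂ) ≠ 0 := by
    rw [Nat.cast_ne_zero]; exact Nat.card_pos.ne'
  have e1 := Cfsg.Agent.Lib.Helper75_BrauerPerm.sum_classInner_conjFun N hN x
  have e2 := Cfsg.Agent.Lib.Helper75_BrauerPerm.sum_classInner_conjFun N hN (1 : G)
  have hL : ∑ χ : Cfsg.IrrCharacter N, Cfsg.classInner (Helper75_Clifford.conjFun N hN (χ : N → ℂ) x) (χ : N → ℂ) =
      ∑ χ : Cfsg.IrrCharacter N, Cfsg.classInner (Helper75_Clifford.conjFun N hN (χ : N → ℂ) 1) (χ : N → ℂ) :=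
    Finset.sum_congr rfl (fun χ _ => by rw [hx χ, conjFun_one])
  rw [hL, e2] at e1
  have e3 := mul_left_cancel₀ (inv_ne_zero hN0) e1
  -- rewrite both sums as casts of natural numbers
  have hS1 : (∑ n : N, if IsConj (⟨(1 : G) * n * (1 : G)⁻¹, hN.conj_mem n n.2 1⟩ : N) n then
      (Nat.card (Subgroup.centralizer
        ({(⟨(1 : G) * n * (1 : G)⁻¹, hN.conj_mem n n.2 1⟩ : N)} : Set N)) : ℂ) else 0) =
      ((∑ n : N, Nat.card (Subgroup.centralizer ({n} : Set N)) : ℕ) : ℂ) := by
    rw [Nat.cast_sum]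
    refine Finset.sum_congr rfl fun n _ => ?_
    have h1 : (⟨(1 : G) * n * (1 : G)⁻¹, hN.conj_mem n n.2 1⟩ : N) = n := Subtype.ext (by simp)
    rw [h1, if_pos (IsConj.refl n)]
  have hSx : (∑ n : N, if IsConj (⟨x * n * x⁻¹, hN.conj_mem n n.2 x⟩ : N) n then
      (Nat.card (Subgroup.centralizer
        ({(⟨x * n * x⁻¹, hN.conj_mem n n.2 x⟩ : N)} : Set N)) : ℂ) else 0) =
      ((∑ n : N, if IsConj (⟨x * n * x⁻¹, hN.conj_mem n n.2 x⟩ : N) n then
        Nat.card (Subgroup.centralizer ({n} : Set N)) else 0 : ℕ) : ℂ) := by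
    rw [Nat.cast_sum]
    refine Finset.sum_congr rfl fun n _ => ?_
    by_cases hc : IsConj (⟨x * n * x⁻¹, hN.conj_mem n n.2 x⟩ : N) n
    · rw [if_pos hc, if_pos hc,
        Cfsg.Agent.Lib.Helper3_CharColumn.card_centralizer_eq_of_isConj hc]
    · rw [if_neg hc, if_neg hc, Nat.cast_zero]
  rw [hS1, hSx] at e3
  have e4 : (∑ n : N, Nat.card (Subgroup.centralizer ({n} : Set N))) =
      ∑ n : N, if IsConj (⟨x * n * x⁻¹, hN.conj_mem n n.2 x⟩ : N) n then
        Nat.card (Subgroup.centralizer ({n} : Set N)) else 0 := by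
    exact_mod_cast e3
  by_contra hcon
  have hlt : (∑ n : N, if IsConj (⟨x * n * x⁻¹, hN.conj_mem n n.2 x⟩ : N) n then
        Nat.card (Subgroup.centralizer ({n} : Set N)) else 0) <
      ∑ n : N, Nat.card (Subgroup.centralizer ({n} : Set N)) := by
    apply Finset.sum_lt_sum
    · intro n _
      split_ifs
      · exact le_rfl
      · exact Nat.zero_le _
    · refine ⟨n₁, Finset.mem_univ _, ?_⟩
      rw [if_neg hcon]
      exact Nat.card_pos
  omega

end chr2

section conseq

variable {G : Type*} [Group G] [Finite G] {p : ℕ} [Fact p.Prime]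

omit [Fact p.Prime] in
/-- if all irreducible degrees of `G` are prime to `p`, then for `θ ∈ Irr(N)`, `N ⊴ G`, the
product `[G : T_θ] θ(1)` is prime to `p`. -/
theorem key_degree (N : Subgroup G) [hN : N.Normal]
    (hdeg : ∀ χ : Cfsg.IrrCharacter G, ¬ p ∣ Cfsg.charDegree (χ : G → ℂ))
    (θ : Cfsg.IrrCharacter N) :
    ∃ b : ℕ, (θ : N → ℂ) 1 = b ∧ ¬ p ∣ (stab N (θ : N → ℂ)).index * b := by
  classical
  have := Fintype.ofFinite G
  have := Fintype.ofFinite N
  obtain ⟨χ, hχ⟩ := Cfsg.Agent.Lib.Helper16_Cover.exists_over N θ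
  obtain ⟨a, -, ha⟩ := Cfsg.Agent.Lib.Helper3_CharColumn.irr_one_eq_natCast χ.2
  obtain ⟨b, -, hb⟩ := Cfsg.Agent.Lib.Helper3_CharColumn.irr_one_eq_natCast θ.2
  obtain ⟨e, he⟩ := clifford_degree N χ.2 θ.2 hχ a b ha hb
  refine ⟨b, hb, ?_⟩
  intro hdvd
  apply hdeg χ
  rw [charDegree_eq _ a ha, he]
  exact Dvd.dvd.mul_left hdvd e

/-- `p'`-case: `p`-elements of `K` (with `K/N` a `p`-group, `N` a normal `p'`-subgroup) centralize
`N` when all irreducible degrees are prime to `p`. -/
theorem centralizes_of_degrees (N : Subgroup G) [hN : N.Normal] (hNp : (Nat.card N).Coprime p)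
    (K : Subgroup G) [K.Normal] {m : ℕ} (hidx : N.relIndex K = p ^ m)
    (hdeg : ∀ χ : Cfsg.IrrCharacter G, ¬ p ∣ Cfsg.charDegree (χ : G → ℂ))
    (x : G) (hxK : x ∈ K) {k : ℕ} (hx : x ^ p ^ k = 1) : ∀ n ∈ N, x * n = n * x := by
  have hp : p.Prime := Fact.out
  apply centralizes_of_fixes_classes N hNp x hx
  apply isConj_of_fix_all N x
  intro θ
  rw [← mem_stab]
  obtain ⟨b, hb, hnd⟩ := key_degree N hdeg θ
  have hnd' : ¬ p ∣ (stab N (θ : N → ℂ)).index := fun h => hnd (Dvd.dvd.mul_right h b)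
  have hNT : N ≤ stab N (θ : N → ℂ) :=
    le_stab N (Cfsg.Agent.Lib.Helper3_CharBridge.isClassFunction_of_isIrrCharacter θ.2)
  have h1 : (stab N (θ : N → ℂ)).relIndex K ∣ p ^ m := by
    rw [← hidx]
    exact Subgroup.relIndex_dvd_of_le_left K hNT
  have h2 : (stab N (θ : N → ℂ)).relIndex K ∣ (stab N (θ : N → ℂ)).index :=
    relIndex_dvd_index_of_normal_right _ K
  obtain ⟨j, -, hj⟩ := (Nat.dvd_prime_pow hp).1 h1
  have hj0 : j = 0 := by
    by_contra h0
    apply hnd'
    refine dvd_trans ?_ h2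
    rw [hj]
    exact dvd_pow_self p h0
  rw [hj0, pow_zero, Subgroup.relIndex_eq_one] at hj
  exact hj hxK

/-- `p`-case: a normal `p`-subgroup is abelian when all irreducible degrees are prime to `p`. -/
theorem comm_of_degrees (Q : Subgroup G) [hQn : Q.Normal] (hQ : IsPGroup p Q)
    (hdeg : ∀ χ : Cfsg.IrrCharacter G, ¬ p ∣ Cfsg.charDegree (χ : G → ℂ)) :
    ∀ x ∈ Q, ∀ y ∈ Q, x * y = y * x := by
  classical
  have hp : p.Prime := Fact.out
  have := Fintype.ofFinite Q
  -- all irreducible characters of `Q` are linear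
  have hlin : ∀ θ : Cfsg.IrrCharacter Q, (θ : Q → ℂ) 1 = 1 := by
    intro θ
    obtain ⟨b, hb, hnd⟩ := key_degree Q hdeg θ
    have hnd' : ¬ p ∣ b := fun h => hnd (Dvd.dvd.mul_left h _)
    obtain ⟨n, ρ, hρ, hρθ⟩ := θ.2
    have hfr : Module.finrank ℂ (Fin n → ℂ) = b := by
      have h1 : (θ : Q → ℂ) 1 = (Module.finrank ℂ (Fin n → ℂ) : ℂ) := by
        rw [← hρθ, Representation.char_one]
      rw [hb] at h1
      exact_mod_cast h1.symm
    have hdvd : b ∣ Nat.card Q := by
      rw [← hfr]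
      exact Cfsg.Agent.Lib.Helper3_CharDegree.finrank_dvd_card ρ
    obtain ⟨m, hm⟩ := IsPGroup.iff_card.1 hQ
    rw [hm] at hdvd
    obtain ⟨j, -, hj⟩ := (Nat.dvd_prime_pow hp).1 hdvd
    have hj0 : j = 0 := by
      by_contra h0
      apply hnd'
      rw [hj]
      exact dvd_pow_self p h0
    rw [hb, hj, hj0, pow_zero, Nat.cast_one]
  intro x hx y hy
  set q : Q := ⟨x, hx⟩ * ⟨y, hy⟩ * (⟨x, hx⟩ : Q)⁻¹ * (⟨y, hy⟩ : Q)⁻¹ with hq
  have hq1 : q = 1 := by
    rw [← isConj_one_left, Cfsg.Agent.Lib.Helper3_CharColumn.isConj_iff_forall_irr]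
    intro θ
    have hL : Cfsg.Agent.Lib.Helper75_LinChar.IsLin Q (θ : Q → ℂ) :=
      ⟨Cfsg.Agent.Lib.Helper3_CharBridge.isCharacter_of_isIrrCharacter θ.2, hlin θ⟩
    rw [hq, hL.map_mul, hL.map_mul, hL.map_mul, hL.map_inv, hL.map_inv, hlin θ]
    have h1 := hL.ne_zero ⟨x, hx⟩
    have h2 := hL.ne_zero ⟨y, hy⟩
    field_simp
  have h3 := congrArg (fun z : Q => (z : G)) hq1
  simp only [hq, Subgroup.coe_mul, Subgroup.coe_inv, Subgroup.coe_one] at h3
  calc x * y = x * y * x⁻¹ * y⁻¹ * (y * x) := by group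
    _ = y * x := by rw [h3, one_mul]

end conseq

section induction

universe u

/-- degrees of a quotient are degrees of the group -/
theorem degrees_quotient {G : Type*} [Group G] {p : ℕ} (N : Subgroup G) [N.Normal]
    (hdeg : ∀ χ : Cfsg.IrrCharacter G, ¬ p ∣ Cfsg.charDegree (χ : G → ℂ))
    (χ : Cfsg.IrrCharacter (G ⧸ N)) : ¬ p ∣ Cfsg.charDegree (χ : G ⧸ N → ℂ) := by
  have h := hdeg ⟨fun x => (χ : G ⧸ N → ℂ) (QuotientGroup.mk' N x),
    Cfsg.Agent.Lib.Helper57_FrobNorm.isIrrCharacter_comp_surjective (QuotientGroup.mk' N)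
      (QuotientGroup.mk'_surjective N) χ.2⟩
  unfold Cfsg.charDegree at h ⊢
  simpa using h

/-- **Itô–Michler, generic inductive core.** -/
theorem core (p : ℕ) [Fact p.Prime] (Good : ∀ (H : Type u) [Group H], Prop)
    (hA : ∀ (H : Type u) [Group H] [Finite H] [Nontrivial H], Good H →
      Cfsg.pPrimeCore p H ≠ ⊥ ∨ Cfsg.pCore p H ≠ ⊥)
    (hB : ∀ (H : Type u) [Group H] [Finite H] (N : Subgroup H) [N.Normal], Good H →
      Good (H ⧸ N)) :
    ∀ (n : ℕ) (G : Type u) [Group G] [Finite G], Nat.card G = n → Good G →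
      (∀ χ : Cfsg.IrrCharacter G, ¬ p ∣ Cfsg.charDegree (χ : G → ℂ)) →
      ∃ Q : Subgroup G, Q.Normal ∧ (∀ x ∈ Q, ∀ y ∈ Q, x * y = y * x) ∧ IsPGroup p Q ∧
        ¬ p ∣ Q.index := by
  have hp : p.Prime := Fact.out
  intro n
  induction n using Nat.strong_induction_on with
  | _ n ih =>
    intro G _ _ hcard hgood hdeg
    by_cases htriv : Subsingleton G
    · refine ⟨⊥, inferInstance, ?_, IsPGroup.of_bot, ?_⟩
      · intro x hx y hy
        rw [Subgroup.mem_bot] at hx hy
        rw [hx, hy]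
      · rw [Subgroup.index_bot, Nat.card_unique]
        exact hp.one_lt.ne' ∘ Nat.dvd_one.1
    · have hnt : Nontrivial G := not_subsingleton_iff_nontrivial.1 htriv
      have hlt : ∀ N : Subgroup G, N ≠ ⊥ → Nat.card (G ⧸ N) < n := by
        intro N hN
        have h1 := Subgroup.card_eq_card_quotient_mul_card_subgroup N
        have h2 : 1 < Nat.card N := (Subgroup.one_lt_card_iff_ne_bot N).2 hN
        have h3 : 0 < Nat.card (G ⧸ N) := Nat.card_pos
        rw [← hcard, h1]
        nlinarith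
      rcases hA G hgood with h | h
      · -- `p'`-case
        set N := Cfsg.pPrimeCore p G with hNdef
        have hNn : N.Normal := Cfsg.Agent.Lib.Helper76_PSolvable.pPrimeCore_normal p
        have hNp : (Nat.card N).Coprime p :=
          Cfsg.Agent.Lib.Helper76_PSolvable.pPrimeCore_card_coprime p
        obtain ⟨Qb, hQbn, hQbc, hQbp, hQbi⟩ := ih _ (hlt N h) (G ⧸ N) rfl (hB G N hgood)
          (degrees_quotient N hdeg)
        have := hQbn
        obtain ⟨P⟩ := (inferInstance : Nonempty (Sylow p G))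
        set K : Subgroup G := Qb.comap (QuotientGroup.mk' N) with hK
        have hKn : K.Normal := Subgroup.Normal.comap inferInstance _
        have hPK : (P : Subgroup G) ≤ K := sylow_le_comap N Qb hQbp hQbi P
        obtain ⟨m, hm⟩ := IsPGroup.iff_card.1 hQbp
        have hidx : N.relIndex K = p ^ m := by rw [hK, relIndex_comap_eq, hm]
        have hcent : ∀ x ∈ (P : Subgroup G), ∀ n ∈ N, x * n = n * x := by
          intro x hx
          obtain ⟨k, hk⟩ := P.isPGroup' ⟨x, hx⟩
          have hk' : x ^ p ^ k = 1 := by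
            have := congrArg Subtype.val hk
            simpa using this
          exact centralizes_of_degrees N hNp K hidx hdeg x (hPK hx) hk'
        obtain ⟨hPn, hPc⟩ := normal_of_centralizes N hNp Qb hQbp hQbi hQbc P hcent
        exact ⟨P, hPn, hPc, P.isPGroup', P.not_dvd_index⟩
      · -- `p`-case
        set N := Cfsg.pCore p G with hNdef
        have hNn : N.Normal := Cfsg.Agent.Lib.Helper76_PSolvable.pCore_normal p
        have hNp : IsPGroup p N := Cfsg.Agent.Lib.Helper76_PSolvable.pCore_isPGroup p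
        obtain ⟨Qb, hQbn, hQbc, hQbp, hQbi⟩ := ih _ (hlt N h) (G ⧸ N) rfl (hB G N hgood)
          (degrees_quotient N hdeg)
        have := hQbn
        set Q : Subgroup G := Qb.comap (QuotientGroup.mk' N) with hQ
        have hQn : Q.Normal := Subgroup.Normal.comap inferInstance _
        have hQp : IsPGroup p Q := by
          apply IsPGroup.comap_of_ker_isPGroup hQbp
          rw [QuotientGroup.ker_mk']
          exact hNp
        refine ⟨Q, hQn, comm_of_degrees Q hQp hdeg, hQp, ?_⟩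
        rw [hQ, Subgroup.index_comap_of_surjective _ (QuotientGroup.mk'_surjective N)]
        exact hQbi


end induction

end Cfsg.Agent.Lib.Helper82_ItoMichler
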