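import Cfsg.Agent.S0164
import Cfsg.Agent.S0890
import Cfsg.Agent.Lib.Helper75_CosetNorm
import Cfsg.Agent.Lib.Helper75_ExtendSolvable
import Cfsg.Agent.Lib.Helper75_GalConj
import Cfsg.Agent.Lib.Helper75_Gallagher
import Cfsg.Agent.Lib.Helper25_VirtNorm
import Cfsg.Agent.Lib.Helper25_FrobTI
import Cfsg.Agent.Lib.Helper75_RelGlaubGal
import Cfsg.Agent.Lib.Helper82_ItoMichler

/-!
# Galois-fixed extensions over normal subgroups of odd index (helper15)

`k` is an exponent prime to the group order with `g ^ k = g⁻¹` on elements of odd order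
(`KInv`).  A function `f` is `KFix k` when `f (g ^ k) = f g`.  For `N ⊴ H` of odd index and an
`H`-invariant `k`-fixed `ϑ ∈ Irr N`:

* `kfix_ext_unique`: at most one `k`-fixed irreducible extension to `H`;
* `cyclic_step`: it exists when `H ⧸ N` is cyclic;
* `exists_kfix_ext_solvable`: it exists when `H ⧸ N` is solvable;
* `exists_kfix_ext`: it always exists (Brauer's characterization of characters; no
  Feit–Thompson).
-/

set_option autoImplicit false
set_option linter.unusedSectionVars false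
set_option linter.style.haveILetI false
open scoped ComplexConjugate

namespace Cfsg.Agent.Lib.Helper15_KFix

open Cfsg.Agent.Lib.Helper3_CharBridge Cfsg.Agent.Lib.Helper3_CharOrtho
  Cfsg.Agent.Lib.Helper75_Induced Cfsg.Agent.Lib.Helper75_Clifford
  Cfsg.Agent.Lib.Helper75_LinChar Cfsg.Agent.Lib.Helper75_ExtendCyclic
  Cfsg.Agent.Lib.Helper75_ExtendSolvable

universe u

/-- `k`-th powers invert the elements of odd order. -/
def KInv (H : Type*) [Group H] (k : ℕ) : Prop := ∀ h : H, Odd (orderOf h) → h ^ k = h⁻¹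

/-- `f` is fixed by the `k`-th power map. -/
def KFix {H : Type*} [Group H] (k : ℕ) (f : H → ℂ) : Prop := ∀ h : H, f (h ^ k) = f h

theorem KInv.subgroup {H : Type*} [Group H] {k : ℕ} (h : KInv H k) (L : Subgroup H) :
    KInv L k := by
  intro l hl
  apply Subtype.ext
  rw [Subgroup.coe_pow, Subgroup.coe_inv]
  apply h
  rwa [Subgroup.orderOf_coe]

section basic

variable {H : Type*} [Group H] [Finite H] {k : ℕ}

/-- In a quotient of odd order, `h ^ (k + 1)` is trivial. -/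
theorem pow_succ_mem (N : Subgroup H) [N.Normal] (hodd : Odd N.index) (hinv : KInv H k)
    (h : H) : h ^ (k + 1) ∈ N := by
  have ho : orderOf h ≠ 0 := (orderOf_pos h).ne'
  obtain ⟨a, r, hr, hor⟩ := Nat.exists_eq_two_pow_mul_odd ho
  have h2a : (2 : ℕ) ^ a ≠ 0 := pow_ne_zero _ (by norm_num)
  have hy : orderOf (h ^ (2 ^ a)) = r := by
    rw [orderOf_pow' h h2a, hor]
    have : Nat.gcd (2 ^ a * r) (2 ^ a) = 2 ^ a := Nat.gcd_eq_right (Dvd.intro _ rfl)
    rw [this]
    exact Nat.mul_div_cancel_left r (Nat.pos_of_ne_zero h2a)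
  have h1 : (h ^ (2 ^ a)) ^ k = (h ^ (2 ^ a))⁻¹ := hinv _ (by rw [hy]; exact hr)
  have h2 : (h ^ (k + 1)) ^ (2 ^ a) = 1 := by
    rw [← pow_mul, mul_comm, pow_mul, pow_succ, h1, inv_mul_cancel]
  have h3 : ((h ^ (k + 1) : H) : H ⧸ N) ^ (2 ^ a) = 1 := by
    rw [← QuotientGroup.mk_pow, h2, QuotientGroup.mk_one]
  have h4 : ((h ^ (k + 1) : H) : H ⧸ N) ^ N.index = 1 := by
    rw [Subgroup.index_eq_card]
    exact pow_card_eq_one'
  have h5 := pow_gcd_eq_one.mpr ⟨h3, h4⟩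
  have h6 : Nat.gcd (2 ^ a) N.index = 1 := by
    apply Nat.Coprime.pow_left
    exact (Nat.coprime_two_left.mpr hodd)
  rw [h6, pow_one] at h5
  exact (QuotientGroup.eq_one_iff _).mp h5

/-- A linear character trivial on an odd-index normal subgroup is inverted by the `k`-th power
map. -/
theorem lin_pow_k (N : Subgroup H) [N.Normal] (hodd : Odd N.index) (hinv : KInv H k)
    {β : H → ℂ} (hβ : IsLin H β) (hβN : ∀ n : N, β n = 1) (h : H) : β (h ^ k) = (β h)⁻¹ := by
  have h1 := hβN ⟨h ^ (k + 1), pow_succ_mem N hodd hinv h⟩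
  simp only at h1
  rw [pow_succ, hβ.map_mul] at h1
  exact eq_inv_of_mul_eq_one_left h1

/-- A root of unity of odd order whose square is one is one. -/
theorem eq_one_of_sq_of_odd_pow {b : ℂ} {m : ℕ} (hm : Odd m) (h2 : b ^ 2 = 1) (hmb : b ^ m = 1) :
    b = 1 := by
  obtain ⟨j, rfl⟩ := hm
  rw [pow_succ, pow_mul, h2, one_pow, one_mul] at hmb
  exact hmb

end basic

section unique

variable {H : Type*} [Group H] [Fintype H] {k : ℕ}

/-- Uniqueness of the `k`-fixed extension over a normal subgroup of odd index. -/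
theorem kfix_ext_unique (N : Subgroup H) [hN : N.Normal] (hodd : Odd N.index) (hinv : KInv H k)
    {χ χ' : H → ℂ} (hχ : Cfsg.IsIrrCharacter H χ) (hχ' : Cfsg.IsIrrCharacter H χ')
    (hχN : Cfsg.IsIrrCharacter N (fun n : N => χ n)) (hres : ∀ n : N, χ' n = χ n)
    (hf : KFix k χ) (hf' : KFix k χ') : χ' = χ := by
  obtain ⟨β, hβ, hβN, hβχ⟩ :=
    Cfsg.Agent.Lib.Helper75_Gallagher.exists_lin_of_extensions N hχ hχ' hχN hres
  have hβ2 : IsLin H (β ^ 2) := hβ.pow 2
  have hβ2N : ∀ n : N, (β ^ 2) n = 1 := by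
    intro n
    rw [Pi.pow_apply, hβN, one_pow]
  have hmul : β ^ 2 * χ = χ := by
    funext h
    have h1 := hf' h
    rw [hβχ, Pi.mul_apply, Pi.mul_apply, lin_pow_k N hodd hinv hβ hβN, hf h] at h1
    have hb : β h ≠ 0 := hβ.ne_zero h
    rw [Pi.mul_apply, Pi.pow_apply]
    have h2 : χ h = β h * (β h * χ h) := by
      rw [← h1, ← mul_assoc, mul_inv_cancel₀ hb, one_mul]
    rw [pow_two, mul_assoc]
    exact h2.symm
  have h1 := Cfsg.Agent.Lib.Helper75_CosetNorm.lin_eq_one_of_mul_eq N hχ hχN hβ2 hβ2N hmul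
  have hβ1 : β = fun _ => 1 := by
    funext h
    have h2 : β h ^ 2 = 1 := by
      have := congrFun h1 h
      simpa using this
    exact eq_one_of_sq_of_odd_pow hodd h2 (hβ.pow_index_eq_one N hβN h)
  rw [hβχ, hβ1]
  funext h
  simp

end unique

section cyclic

variable {H : Type*} [Group H] [Fintype H] {k : ℕ}

/-- Existence of the `k`-fixed extension over a cyclic quotient of odd order. -/
theorem cyclic_step (N : Subgroup H) [hN : N.Normal] (hcyc : IsCyclic (H ⧸ N))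
    (hodd : Odd N.index) (hk : k.Coprime (Nat.card H)) (hinv : KInv H k)
    (ϑ : N → ℂ) (hϑ : Cfsg.IsIrrCharacter N ϑ)
    (hinvϑ : ∀ (g : H) (n : N), ϑ ⟨g * n * g⁻¹, hN.conj_mem (n : H) n.2 g⟩ = ϑ n)
    (hfix : KFix k ϑ) :
    ∃ χ : H → ℂ, Cfsg.IsIrrCharacter H χ ∧ (∀ n : N, χ n = ϑ n) ∧ KFix k χ := by
  obtain ⟨χ₀, hχ₀, hχ₀N⟩ := exists_irr_extension_of_cyclic N hN hcyc ϑ hϑ hinvϑ
  have hχ₁ : Cfsg.IsIrrCharacter H (fun h => χ₀ (h ^ k)) :=
    Cfsg.Agent.Lib.Helper75_GalConj.isIrrCharacter_powMap hχ₀ k hk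
  have hχ₀N' : Cfsg.IsIrrCharacter N (fun n : N => χ₀ n) := by
    have : (fun n : N => χ₀ n) = ϑ := funext hχ₀N
    rw [this]; exact hϑ
  have hres : ∀ n : N, (fun h => χ₀ (h ^ k)) (n : H) = χ₀ n := by
    intro n
    show χ₀ ((n : H) ^ k) = χ₀ n
    have h1 := hχ₀N (n ^ k)
    rw [Subgroup.coe_pow] at h1
    rw [h1, hfix n, hχ₀N n]
  obtain ⟨β, hβ, hβN, hβχ⟩ :=
    Cfsg.Agent.Lib.Helper75_Gallagher.exists_lin_of_extensions N hχ₀ hχ₁ hχ₀N' hres
  obtain ⟨j, hj⟩ := hodd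
  have hlam : IsLin H (β ^ (j + 1)) := hβ.pow (j + 1)
  refine ⟨β ^ (j + 1) * χ₀, hlam.mul_irr hχ₀, ?_, ?_⟩
  · intro n
    rw [Pi.mul_apply, Pi.pow_apply, hβN, one_pow, one_mul, hχ₀N]
  · intro h
    have hb : β h ≠ 0 := hβ.ne_zero h
    have h1 : χ₀ (h ^ k) = β h * χ₀ h := by
      have := congrFun hβχ h
      simpa using this
    have h2 : β h ^ (2 * j + 1) = 1 := by
      rw [← hj]; exact hβ.pow_index_eq_one N hβN h
    rw [Pi.mul_apply, Pi.pow_apply, Pi.mul_apply, Pi.pow_apply,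
      lin_pow_k N (⟨j, hj⟩ : Odd N.index) hinv hβ hβN, h1]
    have h3 : (β h)⁻¹ ^ (j + 1) * β h = β h ^ (j + 1) := by
      rw [inv_pow]
      rw [inv_mul_eq_iff_eq_mul₀ (pow_ne_zero _ hb)]
      calc β h = β h ^ (2 * j + 1) * β h := by rw [h2, one_mul]
        _ = β h ^ (j + 1) * β h ^ (j + 1) := by ring
    rw [← mul_assoc, h3]

end cyclic


section transport

variable {H : Type*} [Group H] [Finite H] {k : ℕ}

theorem kfix_resSubgroupOf (N M : Subgroup H) {ϑ : N → ℂ} (hfix : KFix k ϑ) :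
    KFix k (resSubgroupOf N M ϑ) := by
  intro x
  unfold resSubgroupOf
  have h1 := hfix ⟨((x : M) : H), Subgroup.mem_subgroupOf.mp x.2⟩
  rw [← h1]
  congr 1

theorem odd_index_subgroupOf (N M : Subgroup H) (hNM : N ≤ M) (hodd : Odd N.index) :
    Odd (N.subgroupOf M).index ∧ Odd M.index := by
  have h1 : (N.subgroupOf M).index * M.index = N.index := Subgroup.relIndex_mul_index hNM
  rw [← h1] at hodd
  exact Nat.odd_mul.mp hodd

theorem coprime_card_subgroup (M : Subgroup H) (hk : k.Coprime (Nat.card H)) :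
    k.Coprime (Nat.card M) :=
  Nat.Coprime.coprime_dvd_right (Subgroup.card_subgroup_dvd_card M) hk

theorem kfix_conjFun (M : Subgroup H) (hM : M.Normal) {ψ : M → ℂ} (hf : KFix k ψ) (g : H) :
    KFix k (Helper75_Clifford.conjFun M hM ψ g) := by
  intro x
  rw [conjFun_apply, conjFun_apply]
  have h1 := hf ⟨g * x * g⁻¹, hM.conj_mem x x.2 g⟩
  rw [← h1]
  congr 1
  apply Subtype.ext
  simp only [Subgroup.coe_pow]
  rw [conj_pow]

end transport

/-- Induction on the index: `k`-fixed extension over a solvable quotient of odd order. -/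
theorem exists_kfix_ext_solvable_aux (k : ℕ) : ∀ (n : ℕ) (H : Type u) [Group H] [Finite H]
    (N : Subgroup H) [hN : N.Normal], N.index = n → Odd N.index → Group.IsSolvable (H ⧸ N) →
    k.Coprime (Nat.card H) → KInv H k → ∀ (ϑ : N → ℂ), Cfsg.IsIrrCharacter N ϑ →
    (∀ (g : H) (n : N), ϑ ⟨g * n * g⁻¹, hN.conj_mem (n : H) n.2 g⟩ = ϑ n) → KFix k ϑ →
    ∃ χ : H → ℂ, Cfsg.IsIrrCharacter H χ ∧ (∀ n : N, χ n = ϑ n) ∧ KFix k χ := by
  intro n
  induction n using Nat.strong_induction_on with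
  | _ n ih =>
  intro H _ _ N hN hn hodd hsolv hk hinv ϑ hϑ hinvϑ hfix
  classical
  have : Fintype H := Fintype.ofFinite H
  by_cases hNtop : N = ⊤
  · have hsub : Subsingleton (H ⧸ N) := by
      rw [hNtop]
      exact QuotientGroup.subsingleton_quotient_top
    have hcyc : IsCyclic (H ⧸ N) := isCyclic_of_subsingleton
    exact cyclic_step N hcyc hodd hk hinv ϑ hϑ hinvϑ hfix
  · obtain ⟨M, hMn, hNM, hMtop, hcyc⟩ := exists_normal_cyclic_quotient N hNtop hsolv
    have hlt : (N.subgroupOf M).index < n := by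
      have h1 : (N.subgroupOf M).index * M.index = n := by
        rw [← hn]; exact Subgroup.relIndex_mul_index hNM
      have h2 : M.index ≠ 1 := fun h => hMtop (Subgroup.index_eq_one.mp h)
      have h3 : M.index ≠ 0 := Subgroup.index_ne_zero_of_finite
      have h4 : (N.subgroupOf M).index ≠ 0 := Subgroup.index_ne_zero_of_finite
      have h5 : 2 ≤ M.index := by omega
      nlinarith [Nat.pos_of_ne_zero h4]
    obtain ⟨hoddNM, hoddM⟩ := odd_index_subgroupOf N M hNM hodd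
    have : Fintype M := Fintype.ofFinite M
    have hϑ' : Cfsg.IsIrrCharacter (N.subgroupOf M) (resSubgroupOf N M ϑ) :=
      isIrrCharacter_resSubgroupOf N M hNM hϑ
    have hinv' : ∀ (g : M) (n : N.subgroupOf M), resSubgroupOf N M ϑ
        ⟨g * n * g⁻¹, (inferInstance : (N.subgroupOf M).Normal).conj_mem (n : M) n.2 g⟩ =
          resSubgroupOf N M ϑ n := by
      intro g n
      exact hinvϑ (g : H) ⟨((n : M) : H), Subgroup.mem_subgroupOf.mp n.2⟩
    obtain ⟨ψ₀, hψ₀, hψ₀N, hψ₀f⟩ := ih (N.subgroupOf M).index hlt M (N.subgroupOf M) rfl hoddNM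
      (isSolvable_quotient_subgroupOf N M hsolv) (coprime_card_subgroup M hk) (hinv.subgroup M)
      (resSubgroupOf N M ϑ) hϑ' hinv' (kfix_resSubgroupOf N M hfix)
    have hψ₀N' : Cfsg.IsIrrCharacter (N.subgroupOf M) (fun n : N.subgroupOf M => ψ₀ n) := by
      have : (fun n : N.subgroupOf M => ψ₀ n) = resSubgroupOf N M ϑ := funext hψ₀N
      rw [this]; exact hϑ'
    -- invariance of ψ₀
    have hψ₀inv : ∀ (g : H) (x : M), ψ₀ ⟨g * x * g⁻¹, hMn.conj_mem (x : H) x.2 g⟩ = ψ₀ x := by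
      intro g x
      have hconj : Helper75_Clifford.conjFun M hMn ψ₀ g = ψ₀ := by
        apply kfix_ext_unique (N.subgroupOf M) hoddNM (hinv.subgroup M) hψ₀
          (isIrrCharacter_conjFun M hMn hψ₀ g) hψ₀N' ?_ hψ₀f (kfix_conjFun M hMn hψ₀f g)
        intro n
        rw [conjFun_apply]
        have hmem : (⟨g * ((n : M) : H) * g⁻¹, hMn.conj_mem _ (n : M).2 g⟩ : M) ∈ N.subgroupOf M :=
          Subgroup.mem_subgroupOf.mpr (hN.conj_mem _ (Subgroup.mem_subgroupOf.mp n.2) g)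
        have h7 := hψ₀N ⟨_, hmem⟩
        rw [h7, hψ₀N n]
        exact hinvϑ g ⟨((n : M) : H), Subgroup.mem_subgroupOf.mp n.2⟩
      exact congrFun hconj x
    obtain ⟨χ, hχ, hχM, hχf⟩ := cyclic_step M hcyc hoddM hk hinv ψ₀ hψ₀ hψ₀inv hψ₀f
    refine ⟨χ, hχ, fun n => ?_, hχf⟩
    have h1 := hχM ⟨n, hNM n.2⟩
    have h2 := hψ₀N ⟨⟨n, hNM n.2⟩, Subgroup.mem_subgroupOf.mpr n.2⟩
    rw [show χ (n : H) = χ ((⟨n, hNM n.2⟩ : M) : H) from rfl, h1, h2]
    rfl

/-- `k`-fixed extension over a solvable quotient of odd order. -/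
theorem exists_kfix_ext_solvable {H : Type u} [Group H] [Finite H] {k : ℕ}
    (N : Subgroup H) [hN : N.Normal] (hodd : Odd N.index) (hsolv : Group.IsSolvable (H ⧸ N))
    (hk : k.Coprime (Nat.card H)) (hinv : KInv H k) (ϑ : N → ℂ) (hϑ : Cfsg.IsIrrCharacter N ϑ)
    (hinvϑ : ∀ (g : H) (n : N), ϑ ⟨g * n * g⁻¹, hN.conj_mem (n : H) n.2 g⟩ = ϑ n)
    (hfix : KFix k ϑ) :
    ∃ χ : H → ℂ, Cfsg.IsIrrCharacter H χ ∧ (∀ n : N, χ n = ϑ n) ∧ KFix k χ :=
  exists_kfix_ext_solvable_aux k N.index H N rfl hodd hsolv hk hinv ϑ hϑ hinvϑ hfix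


section sup

variable {H : Type u} [Group H] (N : Subgroup H) [hN : N.Normal]

/-- The natural map from `E` onto `(N ⊔ E) ⧸ N`. -/
def quotHom (E : Subgroup H) : E →* (↥(N ⊔ E) ⧸ N.subgroupOf (N ⊔ E)) :=
  (QuotientGroup.mk' (N.subgroupOf (N ⊔ E))).comp (Subgroup.inclusion le_sup_right)

theorem quotHom_surjective (E : Subgroup H) : Function.Surjective (quotHom N E) := by
  intro q
  obtain ⟨⟨x, hx⟩, rfl⟩ := QuotientGroup.mk_surjective q
  have hx' : x ∈ ((N ⊔ E : Subgroup H) : Set H) := hx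
  rw [Subgroup.normal_mul] at hx'
  obtain ⟨n, hn, e, he, rfl⟩ := Set.mem_mul.mp hx'
  refine ⟨⟨e, he⟩, ?_⟩
  show QuotientGroup.mk' _ _ = _
  rw [QuotientGroup.mk'_apply]
  apply QuotientGroup.eq.mpr
  rw [Subgroup.mem_subgroupOf]
  simp only [Subgroup.coe_mul, Subgroup.coe_inv, Subgroup.coe_inclusion]
  have : e⁻¹ * (n * e) = e⁻¹ * n * e⁻¹⁻¹ := by group
  rw [this]
  exact hN.conj_mem n hn e⁻¹

theorem isSolvable_quot_sup (E : Subgroup H) [Group.IsSolvable E] :
    Group.IsSolvable (↥(N ⊔ E) ⧸ N.subgroupOf (N ⊔ E)) :=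
  Group.isSolvable_of_surjective (quotHom_surjective N E)

theorem comm_quot_sup_zpowers (g : H) (a b : ↥(N ⊔ Subgroup.zpowers g) ⧸
    N.subgroupOf (N ⊔ Subgroup.zpowers g)) : a * b = b * a := by
  obtain ⟨x, rfl⟩ := quotHom_surjective N (Subgroup.zpowers g) a
  obtain ⟨y, rfl⟩ := quotHom_surjective N (Subgroup.zpowers g) b
  rw [← map_mul, ← map_mul]
  congr 1
  obtain ⟨x, hx⟩ := x
  obtain ⟨y, hy⟩ := y
  obtain ⟨i, rfl⟩ := Subgroup.mem_zpowers_iff.mp hx
  obtain ⟨j, rfl⟩ := Subgroup.mem_zpowers_iff.mp hy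
  apply Subtype.ext
  simp only [Subgroup.coe_mul]
  rw [← zpow_add, ← zpow_add, add_comm]

end sup

section main

variable {H : Type u} [Group H] [Fintype H] {k : ℕ} (N : Subgroup H) [hN : N.Normal]

/-- `k`-fixed extension to `N ⊔ E` for solvable `E`. -/
theorem exists_local (hodd : Odd N.index) (hk : k.Coprime (Nat.card H)) (hinv : KInv H k)
    (ϑ : N → ℂ) (hϑ : Cfsg.IsIrrCharacter N ϑ)
    (hinvϑ : ∀ (g : H) (n : N), ϑ ⟨g * n * g⁻¹, hN.conj_mem (n : H) n.2 g⟩ = ϑ n)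
    (hfix : KFix k ϑ) (E : Subgroup H) [Group.IsSolvable E] :
    ∃ ψ : ↥(N ⊔ E) → ℂ, Cfsg.IsIrrCharacter ↥(N ⊔ E) ψ ∧
      (∀ n : N, ψ ⟨n, (le_sup_left : N ≤ N ⊔ E) n.2⟩ = ϑ n) ∧ KFix k ψ := by
  have hNL : N ≤ N ⊔ E := le_sup_left
  obtain ⟨hoddL, -⟩ := odd_index_subgroupOf N (N ⊔ E) hNL hodd
  have hϑ' : Cfsg.IsIrrCharacter (N.subgroupOf (N ⊔ E)) (resSubgroupOf N (N ⊔ E) ϑ) :=
    isIrrCharacter_resSubgroupOf N (N ⊔ E) hNL hϑ
  have hinv' : ∀ (g : ↥(N ⊔ E)) (n : N.subgroupOf (N ⊔ E)), resSubgroupOf N (N ⊔ E) ϑ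
      ⟨g * n * g⁻¹, (inferInstance : (N.subgroupOf (N ⊔ E)).Normal).conj_mem
        (n : ↥(N ⊔ E)) n.2 g⟩ = resSubgroupOf N (N ⊔ E) ϑ n := by
    intro g n
    exact hinvϑ (g : H) ⟨((n : ↥(N ⊔ E)) : H), Subgroup.mem_subgroupOf.mp n.2⟩
  obtain ⟨ψ, hψ, hψN, hψf⟩ := exists_kfix_ext_solvable (N.subgroupOf (N ⊔ E)) hoddL
    (isSolvable_quot_sup N E) (coprime_card_subgroup (N ⊔ E) hk) (hinv.subgroup (N ⊔ E))
    (resSubgroupOf N (N ⊔ E) ϑ) hϑ' hinv' (kfix_resSubgroupOf N (N ⊔ E) hfix)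
  refine ⟨ψ, hψ, fun n => ?_, hψf⟩
  have h2 := hψN ⟨⟨n, hNL n.2⟩, Subgroup.mem_subgroupOf.mpr n.2⟩
  exact h2

/-- Restricting an extension of `ϑ` to an intermediate subgroup gives an irreducible character. -/
theorem restrict_irr (L K : Subgroup H) (hNL : N ≤ L) (hLK : L ≤ K) {ϑ : N → ℂ} {ξ : K → ℂ}
    (hξ : Cfsg.IsCharacter K ξ) (hϑ : Cfsg.IsIrrCharacter N ϑ)
    (hξN : ∀ n : N, ξ ⟨n, hLK (hNL n.2)⟩ = ϑ n) :
    Cfsg.IsIrrCharacter L (fun l : L => ξ ⟨l, hLK l.2⟩) := by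
  classical
  have h1 : Cfsg.IsCharacter L (fun l : L => ξ ⟨l, hLK l.2⟩) :=
    Cfsg.Agent.Lib.Helper75_CharArith.isCharacter_comp (Subgroup.inclusion hLK) hξ
  apply Cfsg.Agent.S0890.irr_of_res_irr (N.subgroupOf L) h1
  have h2 : (fun n : N.subgroupOf L => (fun l : L => ξ ⟨l, hLK l.2⟩) (n : L)) =
      resSubgroupOf N L ϑ := by
    funext n
    exact hξN ⟨((n : L) : H), Subgroup.mem_subgroupOf.mp n.2⟩
  rw [h2]
  exact isIrrCharacter_resSubgroupOf N L hNL hϑ

/-- Uniqueness of `k`-fixed extensions on an intermediate subgroup. -/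
theorem unique_on (K : Subgroup H) (hNK : N ≤ K) (hodd : Odd N.index) (hinv : KInv H k)
    {ϑ : N → ℂ} (hϑ : Cfsg.IsIrrCharacter N ϑ) {ξ ξ' : K → ℂ}
    (hξ : Cfsg.IsIrrCharacter K ξ) (hξ' : Cfsg.IsIrrCharacter K ξ')
    (hξN : ∀ n : N, ξ ⟨n, hNK n.2⟩ = ϑ n) (hξ'N : ∀ n : N, ξ' ⟨n, hNK n.2⟩ = ϑ n)
    (hf : KFix k ξ) (hf' : KFix k ξ') : ξ' = ξ := by
  classical
  obtain ⟨hoddK, -⟩ := odd_index_subgroupOf N K hNK hodd
  have h1 : (fun n : N.subgroupOf K => ξ n) = resSubgroupOf N K ϑ := by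
    funext n
    exact hξN ⟨((n : K) : H), Subgroup.mem_subgroupOf.mp n.2⟩
  have h2 : Cfsg.IsIrrCharacter (N.subgroupOf K) (fun n : N.subgroupOf K => ξ n) := by
    rw [h1]; exact isIrrCharacter_resSubgroupOf N K hNK hϑ
  apply kfix_ext_unique (N.subgroupOf K) hoddK (hinv.subgroup K) hξ hξ' h2 ?_ hf hf'
  intro n
  have h3 := hξN ⟨((n : K) : H), Subgroup.mem_subgroupOf.mp n.2⟩
  have h4 := hξ'N ⟨((n : K) : H), Subgroup.mem_subgroupOf.mp n.2⟩
  exact h4.trans h3.symm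

theorem isCharacter_one_nat {K : Type*} [Group K] {χ : K → ℂ} (hχ : Cfsg.IsCharacter K χ) :
    ∃ d : ℕ, χ 1 = d := by
  obtain ⟨n, ρ, rfl⟩ := hχ
  refine ⟨n, ?_⟩
  rw [Representation.char_one]
  simp


/-- An elementary group is solvable. -/
theorem isSolvable_of_isElementary {E : Type*} [Group E] [Finite E] {p : ℕ} (hp : p.Prime)
    (hE : Cfsg.IsElementary p E) : Group.IsSolvable E := by
  obtain ⟨x, hx, -, a, ha⟩ := hE
  have hle : Subgroup.zpowers x ≤ Subgroup.center E := by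
    rw [Subgroup.zpowers_le]; exact hx
  have hnorm : (Subgroup.zpowers x).Normal := by
    constructor
    intro n hn g
    have : g * n * g⁻¹ = n := by
      have := Subgroup.mem_center_iff.mp (hle hn) g
      rw [this, mul_inv_cancel_right]
    rw [this]; exact hn
  have : Fact p.Prime := ⟨hp⟩
  have hq : IsPGroup p (E ⧸ Subgroup.zpowers x) := by
    apply IsPGroup.of_card (n := a)
    rw [← Subgroup.index_eq_card, ha]
  have hnil : Group.IsNilpotent (E ⧸ Subgroup.zpowers x) := hq.isNilpotent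
  have hsq : Group.IsSolvable (E ⧸ Subgroup.zpowers x) := inferInstance
  have hsz : Group.IsSolvable (Subgroup.zpowers x) := inferInstance
  apply Group.isSolvable_of_ker_le_range (Subgroup.zpowers x).subtype
    (QuotientGroup.mk' (Subgroup.zpowers x))
  rw [QuotientGroup.ker_mk', Subgroup.range_subtype]

/-- **Main theorem**: over a normal subgroup of odd index an invariant `k`-fixed irreducible
character has a `k`-fixed irreducible extension (no solvability assumption). -/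
theorem exists_kfix_ext (hodd : Odd N.index) (hk : k.Coprime (Nat.card H)) (hinv : KInv H k)
    (ϑ : N → ℂ) (hϑ : Cfsg.IsIrrCharacter N ϑ)
    (hinvϑ : ∀ (g : H) (n : N), ϑ ⟨g * n * g⁻¹, hN.conj_mem (n : H) n.2 g⟩ = ϑ n)
    (hfix : KFix k ϑ) :
    ∃ χ : H → ℂ, Cfsg.IsIrrCharacter H χ ∧ (∀ n : N, χ n = ϑ n) ∧ KFix k χ := by
  classical
  have hloc := fun g : H =>
    exists_local N hodd hk hinv ϑ hϑ hinvϑ hfix (Subgroup.zpowers g)
  choose ψ hψirr hψN hψf using hloc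
  have hmem : ∀ g : H, g ∈ N ⊔ Subgroup.zpowers g := fun g =>
    (le_sup_right : Subgroup.zpowers g ≤ N ⊔ Subgroup.zpowers g) (Subgroup.mem_zpowers g)
  set φ : H → ℂ := fun g => ψ g ⟨g, hmem g⟩ with hφ
  -- key property
  have hP : ∀ (K : Subgroup H) (hNK : N ≤ K) (ξ : K → ℂ), Cfsg.IsIrrCharacter K ξ →
      (∀ n : N, ξ ⟨n, hNK n.2⟩ = ϑ n) → KFix k ξ → ∀ (x : H) (hx : x ∈ K), φ x = ξ ⟨x, hx⟩ := by
    intro K hNK ξ hξ hξN hξf x hx
    have hLK : N ⊔ Subgroup.zpowers x ≤ K := sup_le hNK ((Subgroup.zpowers_le).mpr hx)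
    have hNL : N ≤ N ⊔ Subgroup.zpowers x := le_sup_left
    have h1 : Cfsg.IsIrrCharacter ↥(N ⊔ Subgroup.zpowers x)
        (fun l : ↥(N ⊔ Subgroup.zpowers x) => ξ ⟨l, hLK l.2⟩) :=
      restrict_irr N _ K hNL hLK (isCharacter_of_isIrrCharacter hξ) hϑ hξN
    have h2 : KFix k (fun l : ↥(N ⊔ Subgroup.zpowers x) => ξ ⟨l, hLK l.2⟩) := by
      intro l
      have := hξf ⟨l, hLK l.2⟩
      show ξ ⟨((l ^ k : ↥(N ⊔ Subgroup.zpowers x)) : H), hLK (l ^ k).2⟩ = ξ ⟨(l : H), hLK l.2⟩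
      rw [← this]
      congr 1
    have h3 := unique_on N (N ⊔ Subgroup.zpowers x) hNL hodd hinv hϑ (hψirr x) h1 (hψN x)
      (fun n => hξN n) (hψf x) h2
    have h4 := congrFun h3 ⟨x, hmem x⟩
    exact h4.symm
  -- restriction to N
  have hφN : ∀ n : N, φ n = ϑ n := by
    intro n
    have := hP N le_rfl ϑ hϑ (fun n => rfl) hfix (n : H) n.2
    rw [this]
  -- k-fixed
  have hφf : KFix k φ := by
    intro g
    have h1 := hP (N ⊔ Subgroup.zpowers g) le_sup_left (ψ g) (hψirr g) (hψN g) (hψf g) (g ^ k)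
      (Subgroup.pow_mem _ (hmem g) k)
    rw [h1]
    have h2 := hψf g ⟨g, hmem g⟩
    show ψ g ⟨g ^ k, _⟩ = ψ g ⟨g, hmem g⟩
    rw [← h2]
    congr 1
  -- class function
  have hφcf : Cfsg.IsClassFunction H φ := by
    intro g h
    set K : Subgroup H := N ⊔ Subgroup.zpowers g with hK
    set c : H →* H := (MulAut.conj h).toMonoidHom with hc
    have hcinj : Function.Injective c := (MulAut.conj h).injective
    set e : K ≃* K.map c := K.equivMapOfInjective c hcinj with he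
    have hNK' : N ≤ K.map c := by
      intro n hn
      refine ⟨h⁻¹ * n * h, (le_sup_left : N ≤ K) ?_, ?_⟩
      · have := hN.conj_mem n hn h⁻¹
        simpa using this
      · simp [hc, MulAut.conj_apply]; group
    have hξ : Cfsg.IsIrrCharacter ↥(K.map c) (fun y => ψ g (e.symm y)) :=
      isIrrCharacter_comp_equiv e.symm (hψirr g)
    have hesymm : ∀ (x : H) (hx : x ∈ K) (hx' : h * x * h⁻¹ ∈ K.map c),
        e.symm ⟨h * x * h⁻¹, hx'⟩ = ⟨x, hx⟩ := by
      intro x hx hx'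
      rw [MulEquiv.symm_apply_eq]
      apply Subtype.ext
      rw [he, Subgroup.coe_equivMapOfInjective_apply]
      simp [hc, MulAut.conj_apply]
    have hξN : ∀ n : N, (fun y => ψ g (e.symm y)) ⟨n, hNK' n.2⟩ = ϑ n := by
      intro n
      have hmem' : h⁻¹ * (n : H) * h ∈ N := by
        have := hN.conj_mem n n.2 h⁻¹
        simpa using this
      have h1 : (⟨(n : H), hNK' n.2⟩ : ↥(K.map c)) =
          ⟨h * (h⁻¹ * (n : H) * h) * h⁻¹, by
            have : h * (h⁻¹ * (n : H) * h) * h⁻¹ = n := by group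
            rw [this]; exact hNK' n.2⟩ := by
        apply Subtype.ext
        show (n : H) = h * (h⁻¹ * (n : H) * h) * h⁻¹
        group
      show ψ g (e.symm ⟨n, hNK' n.2⟩) = ϑ n
      rw [h1, hesymm (h⁻¹ * (n : H) * h) ((le_sup_left : N ≤ K) hmem')]
      have h2 := hψN g ⟨h⁻¹ * (n : H) * h, hmem'⟩
      rw [h2]
      have h3 := hinvϑ h⁻¹ n
      simp only [inv_inv] at h3
      exact h3
    have hξf : KFix k (fun y => ψ g (e.symm y)) := by
      intro y
      show ψ g (e.symm (y ^ k)) = ψ g (e.symm y)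
      rw [map_pow]
      exact hψf g (e.symm y)
    have hx' : h * g * h⁻¹ ∈ K.map c := ⟨g, hmem g, by simp [hc, MulAut.conj_apply]⟩
    have h1 := hP (K.map c) hNK' _ hξ hξN hξf (h * g * h⁻¹) hx'
    rw [h1]
    show ψ g (e.symm ⟨h * g * h⁻¹, hx'⟩) = ψ g ⟨g, hmem g⟩
    rw [hesymm g (hmem g)]
  -- generalized character
  have hφgen : Cfsg.IsGeneralizedCharacter H φ := by
    apply Cfsg.Agent.S0164.result φ hφcf
    intro E p hp hE
    have hsolv : Group.IsSolvable E := isSolvable_of_isElementary hp hE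
    obtain ⟨ξ, hξ, hξN, hξf⟩ := exists_local N hodd hk hinv ϑ hϑ hinvϑ hfix E
    have h1 : (fun e : E => φ e) = fun e : E => ξ (Subgroup.inclusion le_sup_right e) := by
      funext e
      exact hP (N ⊔ E) le_sup_left ξ hξ hξN hξf (e : H) ((le_sup_right : E ≤ N ⊔ E) e.2)
    rw [h1]
    refine ⟨_, 0, Cfsg.Agent.Lib.Helper75_CharArith.isCharacter_comp
      (Subgroup.inclusion le_sup_right) (isCharacter_of_isIrrCharacter hξ),
      Cfsg.Agent.Lib.Helper75_CharArith.isCharacter_zero, by simp⟩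
  -- norm one
  have hcoset : ∀ g : H, ∑ n : N, φ ((n : H) * g) * conj (φ ((n : H) * g)) = (Nat.card N : ℂ) := by
    intro g
    set L : Subgroup H := N ⊔ Subgroup.zpowers g with hL
    have hNL : N ≤ L := le_sup_left
    have hψN' : Cfsg.IsIrrCharacter (N.subgroupOf L) (fun n : N.subgroupOf L => ψ g n) := by
      have : (fun n : N.subgroupOf L => ψ g n) = resSubgroupOf N L ϑ := by
        funext n
        exact hψN g ⟨((n : L) : H), Subgroup.mem_subgroupOf.mp n.2⟩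
      rw [this]
      exact isIrrCharacter_resSubgroupOf N L hNL hϑ
    have h1 := Cfsg.Agent.Lib.Helper75_CosetNorm.sum_coset_norm (N.subgroupOf L)
      (comm_quot_sup_zpowers N g) (hψirr g) hψN' ⟨g, hmem g⟩
    have hcard : Nat.card (N.subgroupOf L) = Nat.card N :=
      Nat.card_congr (Subgroup.subgroupOfEquivOfLe hNL).toEquiv
    rw [hcard] at h1
    rw [← h1]
    symm
    apply Fintype.sum_equiv (Subgroup.subgroupOfEquivOfLe hNL).toEquiv
    intro n
    have h2 : φ (((Subgroup.subgroupOfEquivOfLe hNL) n : N) * g) =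
        ψ g ((n : L) * ⟨g, hmem g⟩) := by
      have hmem2 : (((Subgroup.subgroupOfEquivOfLe hNL) n : N) : H) * g ∈ L :=
        L.mul_mem (hNL ((Subgroup.subgroupOfEquivOfLe hNL) n).2) (hmem g)
      rw [hP L hNL (ψ g) (hψirr g) (hψN g) (hψf g) _ hmem2]
      congr 1
    show ψ g ((n : L) * ⟨g, hmem g⟩) * conj (ψ g ((n : L) * ⟨g, hmem g⟩)) = _
    rw [← h2]
    rfl
  have hnorm : Cfsg.classInner φ φ = 1 := by
    unfold Cfsg.classInner
    have hN0 : (Nat.card N : ℂ) ≠ 0 := by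
      rw [Nat.cast_ne_zero]; exact Nat.card_pos.ne'
    have hH0 : (Nat.card H : ℂ) ≠ 0 := by
      rw [Nat.cast_ne_zero]; exact Nat.card_pos.ne'
    have h1 : ∀ n : N, ∑ g : H, φ ((n : H) * g) * conj (φ ((n : H) * g)) =
        ∑ g : H, φ g * conj (φ g) := by
      intro n
      exact Fintype.sum_equiv (Equiv.mulLeft (n : H)) _ _ (fun g => rfl)
    have h2 : (Nat.card N : ℂ) * ∑ g : H, φ g * conj (φ g) = (Nat.card N : ℂ) * (Nat.card H : ℂ) := by
      calc (Nat.card N : ℂ) * ∑ g : H, φ g * conj (φ g)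
          = ∑ n : N, ∑ g : H, φ ((n : H) * g) * conj (φ ((n : H) * g)) := by
            rw [Finset.sum_congr rfl (fun n _ => h1 n), Finset.sum_const, Finset.card_univ,
              nsmul_eq_mul, Nat.card_eq_fintype_card]
        _ = ∑ g : H, ∑ n : N, φ ((n : H) * g) * conj (φ ((n : H) * g)) := Finset.sum_comm
        _ = ∑ g : H, (Nat.card N : ℂ) := Finset.sum_congr rfl (fun g _ => hcoset g)
        _ = (Nat.card N : ℂ) * (Nat.card H : ℂ) := by
            rw [Finset.sum_const, Finset.card_univ, nsmul_eq_mul, Nat.card_eq_fintype_card,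
              Nat.card_eq_fintype_card]
            ring
    have h3 := mul_left_cancel₀ hN0 h2
    rw [h3, inv_mul_cancel₀ hH0]
  rcases Cfsg.Agent.Lib.Helper25_VirtNorm.norm_one φ hφgen hnorm with h | h
  · exact ⟨φ, h, hφN, hφf⟩
  · exfalso
    obtain ⟨d, hd⟩ := isCharacter_one_nat (isCharacter_of_isIrrCharacter hϑ)
    obtain ⟨d', hd'⟩ := isCharacter_one_nat (isCharacter_of_isIrrCharacter h)
    have h1 : φ 1 = ϑ 1 := hφN 1
    rw [Pi.neg_apply, h1, hd] at hd'
    have h2 : ((d + d' : ℕ) : ℂ) = 0 := by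
      push_cast
      rw [← hd']; ring
    have h3 : d + d' = 0 := by exact_mod_cast h2
    have h4 : d = 0 := by omega
    have h5 : ϑ 1 ≠ 0 := irr_one_ne_zero hϑ
    apply h5
    rw [hd, h4, Nat.cast_zero]

end main


section uniqueOver

open Cfsg.Agent.Lib.Helper75_RelGlaubGal Cfsg.Agent.Lib.Helper75_RelGlaubQuot

variable {X : Type u} [Group X] [Fintype X] {k : ℕ} (N : Subgroup X) [hN : N.Normal] [Fintype N]

theorem quot_pow_k (hodd : Odd N.index) (hinv : KInv X k) (q : X ⧸ N) : q ^ k = q⁻¹ := by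
  obtain ⟨x, rfl⟩ := QuotientGroup.mk_surjective q
  have h := pow_succ_mem N hodd hinv x
  have h1 : ((x ^ (k + 1) : X) : X ⧸ N) = 1 := (QuotientGroup.eq_one_iff _).mpr h
  rw [QuotientGroup.mk_pow, pow_succ] at h1
  exact eq_inv_of_mul_eq_one_left h1

/-- Over an invariant `ϑ` with a `k`-fixed extension `φ`, the only `k`-fixed irreducible
character over `ϑ` is `φ`. -/
theorem unique_over_invariant (hodd : Odd N.index) (hk : k.Coprime (Nat.card X))
    (hinv : KInv X k) {ϑ : N → ℂ} (hϑ : Cfsg.IsIrrCharacter N ϑ)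
    (hinvϑ : ∀ (g : X) (n : N), ϑ ⟨g * n * g⁻¹, hN.conj_mem (n : X) n.2 g⟩ = ϑ n)
    {φ ξ : X → ℂ} (hφ : Cfsg.IsIrrCharacter X φ) (hext : ∀ n : N, φ n = ϑ n) (hφf : KFix k φ)
    (hξ : Cfsg.IsIrrCharacter X ξ) (hover : Cfsg.classInner (res N ξ) ϑ ≠ 0) (hξf : KFix k ξ) :
    ξ = φ := by
  classical
  haveI : Fintype (X ⧸ N) := Fintype.ofFinite _
  have pkg := galPkg_of_ext N hϑ hinvϑ hφ hext
  obtain ⟨δ, hδ⟩ := pkg.surj ξ hξ hover
  have hkq : k.Coprime (Nat.card (X ⧸ N)) :=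
    Nat.Coprime.coprime_dvd_right (Subgroup.card_quotient_dvd_card N) hk
  set δk : Cfsg.IrrCharacter (X ⧸ N) := ⟨fun q => (δ : X ⧸ N → ℂ) (q ^ k),
    Cfsg.Agent.Lib.Helper75_GalConj.isIrrCharacter_powMap δ.2 k hkq⟩ with hδk
  have h1 : (inflN N δk : X → ℂ) * φ = (inflN N δ : X → ℂ) * φ := by
    funext x
    rw [Pi.mul_apply, Pi.mul_apply, infl_apply, infl_apply]
    show (δ : X ⧸ N → ℂ) ((QuotientGroup.mk' N x) ^ k) * φ x = _
    have h2 : ξ (x ^ k) = ξ x := hξf x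
    rw [hδ, Pi.mul_apply, Pi.mul_apply, infl_apply, infl_apply, hφf x, map_pow] at h2
    exact h2
  have h3 : δk = δ := pkg.inj _ _ h1
  have h4 : ∀ q : X ⧸ N, (δ : X ⧸ N → ℂ) (q⁻¹) = (δ : X ⧸ N → ℂ) q := by
    intro q
    have := congrFun (congrArg Subtype.val h3) q
    rw [← quot_pow_k N hodd hinv q]
    exact this
  have h5 : Cfsg.conjFun (δ : X ⧸ N → ℂ) = (δ : X ⧸ N → ℂ) := by
    funext q
    unfold Cfsg.conjFun
    obtain ⟨n, ρ, -, hρ⟩ := δ.2
    rw [← hρ, ← Cfsg.Agent.Lib.Helper80_CharBasic.char_inv_eq_conj ρ q, hρ]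
    exact h4 q
  have hoddq : Odd (Nat.card (X ⧸ N)) := by
    rw [← Subgroup.index_eq_card]; exact hodd
  have h6 := Cfsg.Agent.Lib.Helper25_FrobTI.eq_one_of_real hoddq δ.2 h5
  rw [hδ]
  funext x
  rw [Pi.mul_apply, infl_apply, h6, one_mul]

end uniqueOver


section clifford

open Cfsg.Agent.Lib.Helper82_ItoMichler Cfsg.Agent.Lib.Helper75_CharArith
  Cfsg.Agent.Lib.Helper75_IndChar

variable {G : Type u} [Group G] [Fintype G] {k : ℕ}

theorem pow_mem_iff (T : Subgroup G) (hk : k.Coprime (Nat.card G)) (y : G) :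
    y ^ k ∈ T ↔ y ∈ T := by
  constructor
  · intro h
    have h1 : k.Coprime (orderOf y) :=
      Nat.Coprime.coprime_dvd_right (orderOf_dvd_natCard y) hk
    obtain ⟨m, hm⟩ := exists_pow_eq_self_of_coprime h1
    rw [← hm]
    exact T.pow_mem h m
  · intro h
    exact T.pow_mem h k

theorem extendByZero_powMap (T : Subgroup G) (hk : k.Coprime (Nat.card G)) (ψ : T → ℂ) (y : G) :
    Cfsg.extendByZero T (fun t : T => ψ (t ^ k)) y = Cfsg.extendByZero T ψ (y ^ k) := by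
  by_cases hy : y ∈ T
  · rw [extendByZero_of_mem T _ hy, extendByZero_of_mem T ψ (T.pow_mem hy k)]
    congr 1
  · rw [extendByZero_of_not_mem T _ hy,
      extendByZero_of_not_mem T ψ (fun h => hy ((pow_mem_iff T hk y).mp h))]

theorem indFun_powMap (T : Subgroup G) (hk : k.Coprime (Nat.card G)) (ψ : T → ℂ) (g : G) :
    Cfsg.indFun T (fun t : T => ψ (t ^ k)) g = Cfsg.indFun T ψ (g ^ k) := by
  rw [indFun_apply, indFun_apply]
  congr 1
  apply Finset.sum_congr rfl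
  intro x _
  rw [extendByZero_powMap T hk]
  congr 1
  have := conj_pow (a := x⁻¹) (b := g) (i := k)
  simpa using this

theorem classInner_powMap {N : Type*} [Group N] [Fintype N] (hk : k.Coprime (Nat.card N))
    (α β : N → ℂ) :
    Cfsg.classInner (fun n => α (n ^ k)) (fun n => β (n ^ k)) = Cfsg.classInner α β := by
  unfold Cfsg.classInner
  congr 1
  exact Fintype.sum_equiv (powCoprime hk.symm) _ _ (fun n => rfl)

/-- **Unique `k`-fixed character over a `k`-fixed character of a normal subgroup of odd index.** -/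
theorem exists_unique_kfix_over (N : Subgroup G) [hN : N.Normal] [Fintype N]
    (hodd : Odd N.index) (hk : k.Coprime (Nat.card G)) (hinv : KInv G k) (θ : N → ℂ)
    (hθ : Cfsg.IsIrrCharacter N θ) (hfix : KFix k θ) :
    ∃ χ : G → ℂ, Cfsg.IsIrrCharacter G χ ∧ Cfsg.classInner (res N χ) θ ≠ 0 ∧ KFix k χ ∧
      ((∀ (g : G) (n : N), θ ⟨g * n * g⁻¹, hN.conj_mem (n : G) n.2 g⟩ = θ n) →
        ∀ n : N, χ n = θ n) ∧
      ∀ χ' : G → ℂ, Cfsg.IsIrrCharacter G χ' → Cfsg.classInner (res N χ') θ ≠ 0 → KFix k χ' →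
        χ' = χ := by
  classical
  set T : Subgroup G := stab N θ with hTdef
  have hT : ∀ g : G, g ∈ T ↔ Helper75_Clifford.conjFun N hN θ g = θ := mem_stab N θ
  have hNT : N ≤ T := le_stab N (isClassFunction_of_isIrrCharacter hθ)
  haveI : Fintype T := Fintype.ofFinite T
  haveI : Fintype (N.subgroupOf T) := Fintype.ofFinite _
  have hϑ' : Cfsg.IsIrrCharacter (N.subgroupOf T) (resSubgroupOf N T θ) :=
    isIrrCharacter_resSubgroupOf N T hNT hθ
  have hinv' : ∀ (g : T) (n : N.subgroupOf T), resSubgroupOf N T θ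
      ⟨g * n * g⁻¹, (inferInstance : (N.subgroupOf T).Normal).conj_mem (n : T) n.2 g⟩ =
        resSubgroupOf N T θ n := by
    intro g n
    have h1 := (hT g).mp g.2
    have h2 := congrFun h1 ⟨((n : T) : G), Subgroup.mem_subgroupOf.mp n.2⟩
    rw [conjFun_apply] at h2
    exact h2
  obtain ⟨hoddT, -⟩ := odd_index_subgroupOf N T hNT hodd
  have hkT : k.Coprime (Nat.card T) := coprime_card_subgroup T hk
  obtain ⟨φ, hφ, hφN, hφf⟩ := exists_kfix_ext (N.subgroupOf T) hoddT hkT (hinv.subgroup T)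
    (resSubgroupOf N T θ) hϑ' hinv' (kfix_resSubgroupOf N T hfix)
  -- over in the `T`-sense
  have hoverT : ∀ ξ : T → ℂ, Cfsg.IsClassFunction T ξ →
      Cfsg.classInner (Cfsg.indFun (N.subgroupOf T) (resSubgroupOf N T θ)) ξ =
        Cfsg.classInner θ (fun n : N => ξ ⟨(n : G), hNT n.2⟩) := by
    intro ξ hξ
    rw [frobenius_reciprocity (N.subgroupOf T) (resSubgroupOf N T θ) ξ hξ]
    exact classInner_resSubgroupOf N T hNT θ ξ
  have hφres : (fun n : N => φ ⟨(n : G), hNT n.2⟩) = θ := by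
    funext n
    exact hφN ⟨⟨n, hNT n.2⟩, Subgroup.mem_subgroupOf.mpr n.2⟩
  set ψ : Cfsg.IrrCharacter T := ⟨φ, hφ⟩ with hψ
  have hψ1 : Cfsg.classInner (Cfsg.indFun (N.subgroupOf T) (resSubgroupOf N T θ))
      (ψ : T → ℂ) = 1 := by
    rw [hoverT φ (isClassFunction_of_isIrrCharacter hφ), hφres,
      classInner_self_of_isIrrCharacter hθ]
  have hψ0 : Cfsg.classInner (Cfsg.indFun (N.subgroupOf T) (resSubgroupOf N T θ))
      (ψ : T → ℂ) ≠ 0 := by
    rw [hψ1]; exact one_ne_zero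
  have core := corr_core N T hN hNT hθ hT ψ hψ0
  have hχirr : Cfsg.IsIrrCharacter G (Cfsg.indFun T φ) :=
    isIrrCharacter_of_classInner_self
      (isCharacter_indFun T (isCharacter_of_isIrrCharacter hφ)) core.1
  have hχc : Cfsg.IsClassFunction G (Cfsg.indFun T φ) := isClassFunction_of_isIrrCharacter hχirr
  -- k-fixed
  have hχf : KFix k (Cfsg.indFun T φ) := by
    intro g
    rw [← indFun_powMap T hk φ g]
    have : (fun t : T => φ (t ^ k)) = φ := funext hφf
    rw [this]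
  -- over
  have hover : Cfsg.classInner (res N (Cfsg.indFun T φ)) θ ≠ 0 := by
    have h1 : Cfsg.classInner (Cfsg.indFun N θ) (Cfsg.indFun T φ) =
        conj (Cfsg.classInner (res N (Cfsg.indFun T φ)) θ) := by
      rw [frobenius_reciprocity N θ _ hχc, classInner_conj_symm]
      rfl
    have h2 : Cfsg.classInner (Cfsg.indFun N θ) (Cfsg.indFun T φ) = 1 := by
      obtain ⟨m, hm, hΦ⟩ := exists_mult_decomp N T hNT hθ
      rw [hΦ, classInner_sum_left, Finset.sum_eq_single ψ]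
      · rw [classInner_smul_left, core.1, mul_one, ← hm ψ, hψ1]
      · intro ξ _ hne
        rw [classInner_smul_left]
        by_cases h0 : m ξ = 0
        · rw [h0, Nat.cast_zero, zero_mul]
        · have hξ'' : Cfsg.classInner (Cfsg.indFun (N.subgroupOf T) (resSubgroupOf N T θ))
              (ξ : T → ℂ) ≠ 0 := by
            rw [hm ξ]
            exact_mod_cast h0
          have := core.2 ξ hne hξ''
          rw [← classInner_conj_symm, this, map_zero, mul_zero]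
      · intro h; exact absurd (Finset.mem_univ _) h
    intro h0
    rw [h0, map_zero] at h1
    rw [h1] at h2
    exact zero_ne_one h2
  -- uniqueness
  have huniq : ∀ χ' : G → ℂ, Cfsg.IsIrrCharacter G χ' → Cfsg.classInner (res N χ') θ ≠ 0 →
      KFix k χ' → χ' = Cfsg.indFun T φ := by
    intro χ' hχ' hover' hχ'f
    obtain ⟨ψ', hψ'irr, hψ'ind, hψ'in⟩ := corr_surj N T hN hNT hθ hT hχ' hover'
    have hψ'c : Cfsg.IsClassFunction T ψ' := isClassFunction_of_isIrrCharacter hψ'irr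
    have hψ'k : Cfsg.IsIrrCharacter T (fun t : T => ψ' (t ^ k)) :=
      Cfsg.Agent.Lib.Helper75_GalConj.isIrrCharacter_powMap hψ'irr k hkT
    have hindk : Cfsg.indFun T (fun t : T => ψ' (t ^ k)) = χ' := by
      funext g
      rw [indFun_powMap T hk ψ' g, hψ'ind]
      exact hχ'f g
    have hne0 : Cfsg.classInner θ (fun n : N => ψ' ⟨(n : G), hNT n.2⟩) ≠ 0 := by
      rw [← classInner_conj_symm, hψ'in]
      exact (map_ne_zero _).mpr hover'
    have hov1 : Cfsg.classInner (Cfsg.indFun (N.subgroupOf T) (resSubgroupOf N T θ)) ψ' ≠ 0 := by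
      rw [hoverT ψ' hψ'c]; exact hne0
    have hov2 : Cfsg.classInner (Cfsg.indFun (N.subgroupOf T) (resSubgroupOf N T θ))
        (fun t : T => ψ' (t ^ k)) ≠ 0 := by
      rw [hoverT _ (isClassFunction_of_isIrrCharacter hψ'k)]
      have hkN : k.Coprime (Nat.card N) := coprime_card_subgroup N hk
      have h1 := classInner_powMap hkN θ (fun n : N => ψ' ⟨(n : G), hNT n.2⟩)
      have h2 : (fun n : N => θ (n ^ k)) = θ := funext hfix
      rw [h2] at h1
      have h3 : (fun n : N => (fun t : T => ψ' (t ^ k)) ⟨(n : G), hNT n.2⟩) =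
          fun n : N => (fun n : N => ψ' ⟨(n : G), hNT n.2⟩) (n ^ k) := by
        funext n
        show ψ' (⟨(n : G), hNT n.2⟩ ^ k) = ψ' ⟨((n ^ k : N) : G), hNT (n ^ k).2⟩
        congr 1
      rw [h3, h1]
      exact hne0
    have hψ'f : KFix k ψ' := by
      by_contra hcon
      have hne : (⟨fun t : T => ψ' (t ^ k), hψ'k⟩ : Cfsg.IrrCharacter T) ≠ ⟨ψ', hψ'irr⟩ := by
        intro h
        apply hcon
        intro t
        exact congrFun (congrArg Subtype.val h) t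
      have core' := corr_core N T hN hNT hθ hT ⟨ψ', hψ'irr⟩ hov1
      have h1 := core'.2 ⟨fun t : T => ψ' (t ^ k), hψ'k⟩ hne hov2
      simp only at h1
      rw [hindk, hψ'ind, classInner_self_of_isIrrCharacter hχ'] at h1
      exact one_ne_zero h1
    have hovN : Cfsg.classInner (res (N.subgroupOf T) ψ') (resSubgroupOf N T θ) ≠ 0 := by
      rw [← classInner_conj_symm]
      apply (map_ne_zero _).mpr
      have := classInner_resSubgroupOf N T hNT θ ψ'
      show Cfsg.classInner (resSubgroupOf N T θ) (fun x : N.subgroupOf T => ψ' x) ≠ 0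
      rw [this]
      exact hne0
    have h5 := unique_over_invariant (N.subgroupOf T) hoddT hkT (hinv.subgroup T) hϑ' hinv'
      hφ hφN hφf hψ'irr hovN hψ'f
    rw [← hψ'ind, h5]
  refine ⟨Cfsg.indFun T φ, hχirr, hover, hχf, ?_, huniq⟩
  intro hinvθ n
  obtain ⟨φG, hφG, hφGN, hφGf⟩ := exists_kfix_ext N hodd hk hinv θ hθ hinvθ hfix
  have h1 : Cfsg.classInner (res N φG) θ ≠ 0 := by
    have : res N φG = θ := funext hφGN
    rw [this, classInner_self_of_isIrrCharacter hθ]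
    exact one_ne_zero
  have h2 := huniq φG hφG h1 hφGf
  rw [← h2]
  exact hφGN n

end clifford

end Cfsg.Agent.Lib.Helper15_KFix
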