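import Cfsg.Agent.Lib.Helper15_KFix
import Cfsg.Agent.Lib.Helper57_CoverUnder
import Cfsg.Agent.Lib.Helper76_PrincipalOver
import Cfsg.Agent.S0859

/-!
# Galois-fixed characters over odd-index normal subgroups and the principal 2-block (helper15)

`N ⊴ G` of odd index, `M` a 2-modular maximal ideal, `k` as in `Helper15_KFix`.  For `k`-fixed
`θ ∈ Irr N` and the `k`-fixed `χ ∈ Irr G` over it: `χ ∈ B₀(G) ↔ θ ∈ B₀(N)`.
-/

set_option autoImplicit false
set_option linter.unusedSectionVars false
set_option linter.style.haveILetI false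
open scoped ComplexConjugate

namespace Cfsg.Agent.Lib.Helper15_KFixBlock

open Cfsg Cfsg.Agent.Lib.Helper15_KFix Cfsg.Agent.Lib.Helper78_LocalRing
  Cfsg.Agent.Lib.Helper3_CharBridge Cfsg.Agent.Lib.Helper3_CharOrtho
  Cfsg.Agent.Lib.Helper75_Induced Cfsg.Agent.Lib.Helper75_Clifford
  Cfsg.Agent.Lib.Helper75_LinChar

universe u

section transport

variable {K N : Type*} [Group K] [Group N] {M : Ideal AlgInt}

theorem index_centralizer_mulEquiv (e : K ≃* N) (g : K) :
    (Subgroup.centralizer ({e g} : Set N)).index = (Subgroup.centralizer ({g} : Set K)).index := by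
  have h : Subgroup.centralizer ({e g} : Set N)
      = (Subgroup.centralizer ({g} : Set K)).map (e : K →* N) := by
    ext x
    rw [Subgroup.mem_centralizer_singleton_iff]
    constructor
    · intro hx
      refine ⟨e.symm x, ?_, by simp⟩
      rw [SetLike.mem_coe, Subgroup.mem_centralizer_singleton_iff]
      apply e.injective
      rw [map_mul, map_mul, MulEquiv.apply_symm_apply]
      exact hx
    · rintro ⟨y, hy, rfl⟩
      rw [SetLike.mem_coe, Subgroup.mem_centralizer_singleton_iff] at hy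
      show e y * e g = e g * e y
      rw [← map_mul, ← map_mul, hy]
  rw [h, Subgroup.index_map_equiv]

theorem centralChar_comp_equiv (e : K ≃* N) (χ : N → ℂ) (g : K) :
    centralChar (fun x : K => χ (e x)) g = centralChar χ (e g) := by
  unfold centralChar
  rw [index_centralizer_mulEquiv e g]
  show _ * χ (e g) / χ (e 1) = _
  rw [map_one]

theorem sameBlock_comp_equiv (e : K ≃* N) {χ ψ : N → ℂ} (h : SameBlock M χ ψ) :
    SameBlock M (fun x : K => χ (e x)) (fun x : K => ψ (e x)) := by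
  intro g
  rw [centralChar_comp_equiv, centralChar_comp_equiv]
  exact h (e g)

end transport

section ops

variable {H : Type*} [Group H] [Finite H] {k : ℕ} {M : Ideal AlgInt}

theorem centralizer_pow_eq (hk : k.Coprime (Nat.card H)) (g : H) :
    Subgroup.centralizer ({g ^ k} : Set H) = Subgroup.centralizer ({g} : Set H) := by
  obtain ⟨m, hm⟩ := exists_pow_eq_self_of_coprime
    (Nat.Coprime.coprime_dvd_right (orderOf_dvd_natCard g) hk)
  ext x
  rw [Subgroup.mem_centralizer_singleton_iff, Subgroup.mem_centralizer_singleton_iff]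
  constructor
  · intro h
    have h1 : Commute x (g ^ k) := h
    have h2 := h1.pow_right m
    rw [hm] at h2
    exact h2
  · intro h
    have h1 : Commute x g := h
    exact h1.pow_right k

theorem centralChar_powMap (hk : k.Coprime (Nat.card H)) (χ : H → ℂ) (g : H) :
    centralChar (fun h : H => χ (h ^ k)) g = centralChar χ (g ^ k) := by
  unfold centralChar
  rw [centralizer_pow_eq hk g]
  show _ * χ (g ^ k) / χ (1 ^ k) = _
  rw [one_pow]

theorem sameBlock_powMap (hk : k.Coprime (Nat.card H)) {χ ψ : H → ℂ} (h : SameBlock M χ ψ) :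
    SameBlock M (fun x : H => χ (x ^ k)) (fun x : H => ψ (x ^ k)) := by
  intro g
  rw [centralChar_powMap hk, centralChar_powMap hk]
  exact h (g ^ k)

theorem centralChar_lin_mul {lam : H → ℂ} (h1 : lam 1 = 1) (χ : H → ℂ) (g : H) :
    centralChar (lam * χ) g = lam g * centralChar χ g := by
  unfold centralChar
  rw [Pi.mul_apply, Pi.mul_apply, h1, one_mul]
  ring

theorem memLocalRing_lin (hM : M.IsPrime) {lam : H → ℂ} (hl : IsLin H lam) (g : H) :
    MemLocalRing M (lam g) := by
  have h1 : lam g ^ Nat.card H = 1 := hl.pow_card_eq_one g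
  have h2 : IsIntegral ℤ (lam g) := by
    apply IsIntegral.of_pow (n := Nat.card H) Nat.card_pos
    rw [h1]
    exact isIntegral_one
  exact memLocalRing_algInt hM ⟨lam g, h2⟩

theorem sameBlock_lin_mul (hM : M.IsPrime) {lam : H → ℂ} (hl : IsLin H lam) {χ ψ : H → ℂ}
    (h : SameBlock M χ ψ) : SameBlock M (lam * χ) (lam * ψ) := by
  intro g
  rw [centralChar_lin_mul hl.2, centralChar_lin_mul hl.2, ← mul_sub]
  exact memLocalIdeal_mul_left hM (memLocalRing_lin hM hl g) (h g)

/-- The linear characters in the principal block form a group. -/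
theorem sameBlock_one_lin_mul (hM : M.IsPrime) {lam mu : H → ℂ} (hl : IsLin H lam)
    (h1 : SameBlock M (fun _ : H => (1 : ℂ)) lam) (h2 : SameBlock M (fun _ : H => (1 : ℂ)) mu) :
    SameBlock M (fun _ : H => (1 : ℂ)) (lam * mu) := by
  have h3 := sameBlock_lin_mul hM hl h2
  have h4 : lam * (fun _ : H => (1 : ℂ)) = lam := by
    funext x
    rw [Pi.mul_apply, mul_one]
  rw [h4] at h3
  exact sameBlock_trans hM h1 h3

theorem sameBlock_one_lin_pow (hM : M.IsPrime) {lam : H → ℂ} (hl : IsLin H lam)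
    (h1 : SameBlock M (fun _ : H => (1 : ℂ)) lam) (n : ℕ) :
    SameBlock M (fun _ : H => (1 : ℂ)) (lam ^ n) := by
  induction n with
  | zero =>
    have : lam ^ 0 = fun _ : H => (1 : ℂ) := by
      funext x
      rw [Pi.pow_apply, pow_zero]
    rw [this]
    exact sameBlock_refl hM _
  | succ n ih =>
    have : lam ^ (n + 1) = lam * lam ^ n := by
      funext x
      rw [Pi.mul_apply, Pi.pow_apply, Pi.pow_apply, pow_succ, mul_comm]
    rw [this]
    exact sameBlock_one_lin_mul hM hl h1 ih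

/-- A linear character of odd order whose square lies in the principal block lies in the
principal block. -/
theorem sameBlock_one_of_sq (hM : M.IsPrime) {lam : H → ℂ} (hl : IsLin H lam) {m : ℕ}
    (hm : Odd m) (hpow : ∀ x : H, lam x ^ m = 1)
    (h2 : SameBlock M (fun _ : H => (1 : ℂ)) (lam ^ 2)) :
    SameBlock M (fun _ : H => (1 : ℂ)) lam := by
  obtain ⟨j, rfl⟩ := hm
  have h3 := sameBlock_one_lin_pow hM (hl.pow 2) h2 (j + 1)
  have h4 : (lam ^ 2) ^ (j + 1) = lam := by
    funext x
    rw [Pi.pow_apply, Pi.pow_apply, ← pow_mul]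
    have : 2 * (j + 1) = (2 * j + 1) + 1 := by ring
    rw [this, pow_succ, hpow x, one_mul]
  rw [h4] at h3
  exact h3

end ops

section stepInv

open Cfsg.Agent.Lib.Helper75_RelGlaubGal Cfsg.Agent.Lib.Helper75_RelGlaubQuot

/-- Irreducible characters of a commutative group are linear. -/
theorem irr_one_eq_one_of_comm {A : Type u} [Group A] [Fintype A]
    (hab : ∀ a b : A, a * b = b * a) {δ : A → ℂ} (hδ : IsIrrCharacter A δ) : δ 1 = 1 := by
  obtain ⟨n, σ, hσ, rfl⟩ := hδ
  haveI := hσ
  have hc : ∀ a b : A, σ a * σ b = σ b * σ a := by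
    intro a b
    rw [← map_mul, ← map_mul, hab a b]
  obtain ⟨hn, -⟩ := Cfsg.Agent.S0859.linear_of_comm_image σ hc
  subst hn
  rw [Representation.char_one]
  simp

variable {H : Type u} [Group H] [Fintype H] {k : ℕ} {M : Ideal AlgInt}
  (N : Subgroup H) [hN : N.Normal] [Fintype N]

/-- **Step 1a**: abelian odd quotient, invariant `θ` in the principal block: the `k`-fixed
extension lies in the principal block. -/
theorem step_invariant (hodd : Odd N.index) (hab : ∀ a b : H ⧸ N, a * b = b * a)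
    (hk : k.Coprime (Nat.card H)) (hinv : KInv H k) (hM : IsPModular 2 M)
    {θ : N → ℂ} (hθ : IsIrrCharacter N θ)
    (hinvθ : ∀ (g : H) (n : N), θ ⟨g * n * g⁻¹, hN.conj_mem (n : H) n.2 g⟩ = θ n)
    (hθB : SameBlock M (fun _ : N => (1 : ℂ)) θ)
    {η : H → ℂ} (hη : IsIrrCharacter H η) (hηN : ∀ n : N, η n = θ n) (hηf : KFix k η) :
    SameBlock M (fun _ : H => (1 : ℂ)) η := by
  classical
  have hMp := isPrime_of_isPModular hM
  haveI : Fintype (H ⧸ N) := Fintype.ofFinite _
  have pkg := galPkg_of_ext N hθ hinvθ hη hηN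
  have hcov : ∃ χ ∈ principalBlock M H, ∃ ψ ∈ principalBlock M N,
      classInner (fun n : N => (χ : H → ℂ) n) (ψ : N → ℂ) ≠ 0 := by
    refine ⟨⟨fun _ => 1, Cfsg.Agent.Lib.Helper80_CharBasic.isIrrCharacter_one H⟩,
      sameBlock_refl hMp _,
      ⟨fun _ => 1, Cfsg.Agent.Lib.Helper80_CharBasic.isIrrCharacter_one N⟩,
      sameBlock_refl hMp _, ?_⟩
    show classInner (fun _ : N => (1 : ℂ)) (fun _ : N => (1 : ℂ)) ≠ 0
    rw [classInner_self_of_isIrrCharacter (Cfsg.Agent.Lib.Helper80_CharBasic.isIrrCharacter_one N)]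
    exact one_ne_zero
  obtain ⟨χ₁, hχ₁B, hχ₁over⟩ := Cfsg.Agent.Lib.Helper57_CoverUnder.exists_over_of_covers N hM
    (Cfsg.Agent.Lib.Helper76_PrincipalOver.isPBlock_principal H)
    (Cfsg.Agent.Lib.Helper76_PrincipalOver.isPBlock_principal N) hcov ⟨θ, hθ⟩ hθB
  obtain ⟨δ, hδ⟩ := pkg.surj χ₁ χ₁.2 hχ₁over
  set lam : H → ℂ := (inflN N δ : H → ℂ) with hlam
  have hl : IsLin H lam := by
    refine ⟨isCharacter_of_isIrrCharacter (inflN N δ).2, ?_⟩
    rw [hlam, infl_apply, map_one]
    exact irr_one_eq_one_of_comm hab δ.2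
  have hlN : ∀ n : N, lam n = 1 := by
    intro n
    rw [hlam, infl_apply]
    have : (QuotientGroup.mk' N) (n : H) = 1 := (QuotientGroup.eq_one_iff _).mpr n.2
    rw [this]
    exact irr_one_eq_one_of_comm hab δ.2
  have hli : IsLin H (fun g => (lam g)⁻¹) := hl.inv
  -- 1 ~ lam * η
  have h1 : SameBlock M (fun _ : H => (1 : ℂ)) (lam * η) := by
    have : SameBlock M (fun _ : H => (1 : ℂ)) (χ₁ : H → ℂ) := hχ₁B
    rw [hδ] at this
    exact this
  -- 1 ~ lam⁻¹ * η
  have h2 : SameBlock M (fun _ : H => (1 : ℂ)) ((fun g => (lam g)⁻¹) * η) := by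
    have h := sameBlock_powMap (k := k) hk h1
    have e : (fun x : H => (lam * η) (x ^ k)) = (fun g => (lam g)⁻¹) * η := by
      funext x
      rw [Pi.mul_apply, Pi.mul_apply, lin_pow_k N hodd hinv hl hlN, hηf x]
    rw [e] at h
    exact h
  -- lam⁻¹ ~ η and lam ~ η
  have h3 : SameBlock M (fun g => (lam g)⁻¹) η := by
    have h := sameBlock_lin_mul hMp hli h1
    have e1 : (fun g => (lam g)⁻¹) * (fun _ : H => (1 : ℂ)) = fun g => (lam g)⁻¹ := by
      funext x
      rw [Pi.mul_apply, mul_one]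
    have e2 : (fun g => (lam g)⁻¹) * (lam * η) = η := by
      funext x
      rw [Pi.mul_apply, Pi.mul_apply, ← mul_assoc, inv_mul_cancel₀ (hl.ne_zero x), one_mul]
    rw [e1, e2] at h
    exact h
  have h4 : SameBlock M lam η := by
    have h := sameBlock_lin_mul hMp hl h2
    have e1 : lam * (fun _ : H => (1 : ℂ)) = lam := by
      funext x
      rw [Pi.mul_apply, mul_one]
    have e2 : lam * ((fun g => (lam g)⁻¹) * η) = η := by
      funext x
      rw [Pi.mul_apply, Pi.mul_apply, ← mul_assoc, mul_inv_cancel₀ (hl.ne_zero x), one_mul]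
    rw [e1, e2] at h
    exact h
  -- lam ~ lam⁻¹, hence 1 ~ lam ^ 2
  have h5 : SameBlock M lam (fun g => (lam g)⁻¹) := sameBlock_trans hMp h4 (sameBlock_symm h3)
  have h6 : SameBlock M (fun _ : H => (1 : ℂ)) (lam ^ 2) := by
    have h := sameBlock_lin_mul hMp hl h5
    have e1 : lam * lam = lam ^ 2 := by
      funext x
      rw [Pi.mul_apply, Pi.pow_apply, pow_two]
    have e2 : lam * (fun g => (lam g)⁻¹) = fun _ : H => (1 : ℂ) := by
      funext x
      rw [Pi.mul_apply, mul_inv_cancel₀ (hl.ne_zero x)]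
    rw [e1, e2] at h
    exact sameBlock_symm h
  have h7 : SameBlock M (fun _ : H => (1 : ℂ)) lam :=
    sameBlock_one_of_sq hMp hl hodd (fun x => hl.pow_index_eq_one N hlN x) h6
  exact sameBlock_trans hMp h7 h4

end stepInv

section struct

open Cfsg.Agent.Lib.Helper82_ItoMichler Cfsg.Agent.Lib.Helper75_CharArith
  Cfsg.Agent.Lib.Helper75_IndChar

variable {G : Type u} [Group G] [Fintype G] {k : ℕ}

/-- The `k`-fixed irreducible character over a `k`-fixed `θ` is induced from the `k`-fixed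
extension of `θ` to its stabilizer, and contains `θ` with multiplicity one. -/
theorem kfix_over_structure (N : Subgroup G) [hN : N.Normal] [Fintype N]
    (hodd : Odd N.index) (hk : k.Coprime (Nat.card G)) (hinv : KInv G k) {θ : N → ℂ}
    (hθ : IsIrrCharacter N θ) (hfix : KFix k θ) {χ : G → ℂ} (hχ : IsIrrCharacter G χ)
    (hover : classInner (res N χ) θ ≠ 0) (hχf : KFix k χ) :
    ∃ (hNT : N ≤ stab N θ) (φ : stab N θ → ℂ), IsIrrCharacter (stab N θ) φ ∧
      (∀ n : N, φ ⟨(n : G), hNT n.2⟩ = θ n) ∧ KFix k φ ∧ χ = indFun (stab N θ) φ ∧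
      classInner (indFun N θ) χ = 1 := by
  classical
  set T : Subgroup G := stab N θ with hTdef
  have hT : ∀ g : G, g ∈ T ↔ Helper75_Clifford.conjFun N hN θ g = θ := mem_stab N θ
  have hNT : N ≤ T := le_stab N (isClassFunction_of_isIrrCharacter hθ)
  haveI : Fintype T := Fintype.ofFinite T
  haveI : Fintype (N.subgroupOf T) := Fintype.ofFinite _
  have hϑ' : IsIrrCharacter (N.subgroupOf T) (resSubgroupOf N T θ) :=
    isIrrCharacter_resSubgroupOf N T hNT hθ
  have hinv' : ∀ (g : T) (n : N.subgroupOf T), resSubgroupOf N T θ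
      ⟨g * n * g⁻¹, (inferInstance : (N.subgroupOf T).Normal).conj_mem (n : T) n.2 g⟩ =
        resSubgroupOf N T θ n := by
    intro g n
    have h1 := (hT g).mp g.2
    have h2 := congrFun h1 ⟨((n : T) : G), Subgroup.mem_subgroupOf.mp n.2⟩
    rw [conjFun_apply] at h2
    exact h2
  obtain ⟨hoddT, -⟩ := odd_index_subgroupOf N T hNT hodd
  have hkT : k.Coprime (Nat.card T) := coprime_card_subgroup T hk
  obtain ⟨φ, hφ, hφN, hφf⟩ := exists_kfix_ext (N.subgroupOf T) hoddT hkT (hinv.subgroup T)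
    (resSubgroupOf N T θ) hϑ' hinv' (kfix_resSubgroupOf N T hfix)
  have hoverT : ∀ ξ : T → ℂ, IsClassFunction T ξ →
      classInner (indFun (N.subgroupOf T) (resSubgroupOf N T θ)) ξ =
        classInner θ (fun n : N => ξ ⟨(n : G), hNT n.2⟩) := by
    intro ξ hξ
    rw [frobenius_reciprocity (N.subgroupOf T) (resSubgroupOf N T θ) ξ hξ]
    exact classInner_resSubgroupOf N T hNT θ ξ
  have hφres : (fun n : N => φ ⟨(n : G), hNT n.2⟩) = θ := by
    funext n
    exact hφN ⟨⟨n, hNT n.2⟩, Subgroup.mem_subgroupOf.mpr n.2⟩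
  set ψ : IrrCharacter T := ⟨φ, hφ⟩ with hψ
  have hψ1 : classInner (indFun (N.subgroupOf T) (resSubgroupOf N T θ))
      (ψ : T → ℂ) = 1 := by
    rw [hoverT φ (isClassFunction_of_isIrrCharacter hφ), hφres,
      classInner_self_of_isIrrCharacter hθ]
  have hψ0 : classInner (indFun (N.subgroupOf T) (resSubgroupOf N T θ))
      (ψ : T → ℂ) ≠ 0 := by
    rw [hψ1]; exact one_ne_zero
  have core := corr_core N T hN hNT hθ hT ψ hψ0
  have hχirr : IsIrrCharacter G (indFun T φ) :=
    isIrrCharacter_of_classInner_self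
      (isCharacter_indFun T (isCharacter_of_isIrrCharacter hφ)) core.1
  have hχc : IsClassFunction G (indFun T φ) := isClassFunction_of_isIrrCharacter hχirr
  have hχf' : KFix k (indFun T φ) := by
    intro g
    rw [← indFun_powMap T hk φ g]
    have : (fun t : T => φ (t ^ k)) = φ := funext hφf
    rw [this]
  have h2 : classInner (indFun N θ) (indFun T φ) = 1 := by
    obtain ⟨m, hm, hΦ⟩ := exists_mult_decomp N T hNT hθ
    rw [hΦ, classInner_sum_left, Finset.sum_eq_single ψ]
    · rw [classInner_smul_left, core.1, mul_one, ← hm ψ, hψ1]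
    · intro ξ _ hne
      rw [classInner_smul_left]
      by_cases h0 : m ξ = 0
      · rw [h0, Nat.cast_zero, zero_mul]
      · have hξ'' : classInner (indFun (N.subgroupOf T) (resSubgroupOf N T θ))
            (ξ : T → ℂ) ≠ 0 := by
          rw [hm ξ]
          exact_mod_cast h0
        have := core.2 ξ hne hξ''
        rw [← classInner_conj_symm, this, map_zero, mul_zero]
    · intro h; exact absurd (Finset.mem_univ _) h
  have hover' : classInner (res N (indFun T φ)) θ ≠ 0 := by
    have h1 : classInner (indFun N θ) (indFun T φ) =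
        conj (classInner (res N (indFun T φ)) θ) := by
      rw [frobenius_reciprocity N θ _ hχc, classInner_conj_symm]
      rfl
    intro h0
    rw [h0, map_zero] at h1
    rw [h1] at h2
    exact zero_ne_one h2
  obtain ⟨χ', -, -, -, -, huniq⟩ := exists_unique_kfix_over N hodd hk hinv θ hθ hfix
  have e1 : χ = χ' := huniq χ hχ hover hχf
  have e2 : indFun T φ = χ' := huniq _ hχirr hover' hχf'
  have e3 : χ = indFun T φ := by rw [e1, e2]
  refine ⟨hNT, φ, hφ, fun n => congrFun hφres n, hφf, e3, ?_⟩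
  rw [e3]
  exact h2

end struct

section stepAb

open Cfsg.Agent.Lib.Helper82_ItoMichler Cfsg.Agent.Lib.Helper75_CharArith
  Cfsg.Agent.Lib.Helper75_IndChar

variable {H : Type u} [Group H] [Fintype H] {k : ℕ} {M : Ideal AlgInt}
  (N : Subgroup H) [hN : N.Normal] [Fintype N]

theorem comm_quot_subgroupOf (T : Subgroup H) (hab : ∀ a b : H ⧸ N, a * b = b * a)
    (a b : T ⧸ N.subgroupOf T) : a * b = b * a := by
  obtain ⟨x, rfl⟩ := QuotientGroup.mk_surjective a
  obtain ⟨y, rfl⟩ := QuotientGroup.mk_surjective b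
  rw [← QuotientGroup.mk_mul, ← QuotientGroup.mk_mul]
  apply QuotientGroup.eq.mpr
  rw [Subgroup.mem_subgroupOf]
  have h := hab ((x : H) : H ⧸ N) ((y : H) : H ⧸ N)
  rw [← QuotientGroup.mk_mul, ← QuotientGroup.mk_mul] at h
  have h2 := QuotientGroup.eq.mp h
  simpa using h2

theorem commutator_mem_of_comm (hab : ∀ a b : H ⧸ N, a * b = b * a) (g t : H) :
    g * t * g⁻¹ * t⁻¹ ∈ N := by
  rw [← QuotientGroup.eq_one_iff]
  rw [QuotientGroup.mk_mul, QuotientGroup.mk_mul, QuotientGroup.mk_mul, QuotientGroup.mk_inv,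
    QuotientGroup.mk_inv, hab (g : H ⧸ N) (t : H ⧸ N)]
  group

theorem stab_normal_of_comm (hab : ∀ a b : H ⧸ N, a * b = b * a) {θ : N → ℂ}
    (hθ : IsClassFunction N θ) : (stab N θ).Normal := by
  constructor
  intro t ht g
  have h1 : g * t * g⁻¹ * t⁻¹ ∈ stab N θ := le_stab N hθ (commutator_mem_of_comm N hab g t)
  have h2 := (stab N θ).mul_mem h1 ht
  have e : g * t * g⁻¹ * t⁻¹ * t = g * t * g⁻¹ := by group
  rw [e] at h2
  exact h2

/-- **Step 1**: abelian odd quotient: a `k`-fixed irreducible character over a `k`-fixed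
character in the principal block lies in the principal block. -/
theorem step_abelian (hodd : Odd N.index) (hab : ∀ a b : H ⧸ N, a * b = b * a)
    (hk : k.Coprime (Nat.card H)) (hinv : KInv H k) (hM : IsPModular 2 M)
    {θ : N → ℂ} (hθ : IsIrrCharacter N θ) (hfix : KFix k θ)
    (hθB : SameBlock M (fun _ : N => (1 : ℂ)) θ)
    {η : H → ℂ} (hη : IsIrrCharacter H η) (hover : classInner (res N η) θ ≠ 0)
    (hηf : KFix k η) : SameBlock M (fun _ : H => (1 : ℂ)) η := by
  classical
  have hMp := isPrime_of_isPModular hM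
  have hstr := kfix_over_structure N hodd hk hinv hθ hfix hη hover hηf
  set T : Subgroup H := stab N θ with hTdef
  obtain ⟨hNT, φ, hφ, hφN, hφf, hηind, -⟩ := hstr
  have hT : ∀ g : H, g ∈ T ↔ Helper75_Clifford.conjFun N hN θ g = θ := mem_stab N θ
  haveI : Fintype T := Fintype.ofFinite T
  haveI : Fintype (N.subgroupOf T) := Fintype.ofFinite _
  have hϑ' : IsIrrCharacter (N.subgroupOf T) (resSubgroupOf N T θ) :=
    isIrrCharacter_resSubgroupOf N T hNT hθ
  have hinv' : ∀ (g : T) (n : N.subgroupOf T), resSubgroupOf N T θ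
      ⟨g * n * g⁻¹, (inferInstance : (N.subgroupOf T).Normal).conj_mem (n : T) n.2 g⟩ =
        resSubgroupOf N T θ n := by
    intro g n
    have h1 := (hT g).mp g.2
    have h2 := congrFun h1 ⟨((n : T) : H), Subgroup.mem_subgroupOf.mp n.2⟩
    rw [conjFun_apply] at h2
    exact h2
  obtain ⟨hoddT, -⟩ := odd_index_subgroupOf N T hNT hodd
  have hkT : k.Coprime (Nat.card T) := coprime_card_subgroup T hk
  have hθB' : SameBlock M (fun _ : N.subgroupOf T => (1 : ℂ)) (resSubgroupOf N T θ) := by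
    rw [resSubgroupOf_eq_comp N T hNT]
    exact sameBlock_comp_equiv (Subgroup.subgroupOfEquivOfLe hNT) hθB
  have hφN' : ∀ n : N.subgroupOf T, φ n = resSubgroupOf N T θ n := by
    intro n
    exact hφN ⟨((n : T) : H), Subgroup.mem_subgroupOf.mp n.2⟩
  have hφB : SameBlock M (fun _ : T => (1 : ℂ)) φ :=
    step_invariant (N.subgroupOf T) hoddT (comm_quot_subgroupOf N T hab) hkT (hinv.subgroup T) hM
      hϑ' hinv' hθB' hφ hφN' hφf
  haveI hTn : T.Normal := stab_normal_of_comm N hab (isClassFunction_of_isIrrCharacter hθ)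
  have hcov : ∃ χ ∈ principalBlock M H, ∃ ψ ∈ principalBlock M T,
      classInner (fun n : T => (χ : H → ℂ) n) (ψ : T → ℂ) ≠ 0 := by
    refine ⟨⟨fun _ => 1, Cfsg.Agent.Lib.Helper80_CharBasic.isIrrCharacter_one H⟩,
      sameBlock_refl hMp _,
      ⟨fun _ => 1, Cfsg.Agent.Lib.Helper80_CharBasic.isIrrCharacter_one T⟩,
      sameBlock_refl hMp _, ?_⟩
    show classInner (fun _ : T => (1 : ℂ)) (fun _ : T => (1 : ℂ)) ≠ 0
    rw [classInner_self_of_isIrrCharacter (Cfsg.Agent.Lib.Helper80_CharBasic.isIrrCharacter_one T)]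
    exact one_ne_zero
  obtain ⟨χ₂, hχ₂B, hχ₂over⟩ := Cfsg.Agent.Lib.Helper57_CoverUnder.exists_over_of_covers T hM
    (Cfsg.Agent.Lib.Helper76_PrincipalOver.isPBlock_principal H)
    (Cfsg.Agent.Lib.Helper76_PrincipalOver.isPBlock_principal T) hcov ⟨φ, hφ⟩ hφB
  have h1 : classInner (indFun T φ) (χ₂ : H → ℂ) ≠ 0 := by
    rw [frobenius_reciprocity T φ _ (isClassFunction_of_isIrrCharacter χ₂.2),
      ← classInner_conj_symm]
    exact (map_ne_zero _).mpr hχ₂over
  have h2 : η = (χ₂ : H → ℂ) := by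
    by_contra hne
    apply h1
    rw [← hηind]
    exact classInner_of_isIrrCharacter_of_ne hη χ₂.2 hne
  rw [h2]
  exact hχ₂B

end stepAb

section facts

open Cfsg.Agent.Lib.Helper82_ItoMichler Cfsg.Agent.Lib.Helper75_CharArith
  Cfsg.Agent.Lib.Helper75_IndChar

variable {G : Type u} [Group G] [Fintype G] {k : ℕ}

theorem indFun_one (T : Subgroup G) (φ : T → ℂ) : indFun T φ 1 = (T.index : ℂ) * φ 1 := by
  classical
  rw [indFun_apply]
  have h2 : ∀ y : G, extendByZero T φ (y⁻¹ * 1 * y) = φ 1 := by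
    intro y
    have : y⁻¹ * 1 * y = ((1 : T) : G) := by simp
    rw [this, extendByZero_coe]
  rw [Finset.sum_congr rfl (fun y _ => h2 y), Finset.sum_const, Finset.card_univ, nsmul_eq_mul]
  have h3 : (Fintype.card G : ℂ) = (T.index : ℂ) * (Nat.card T : ℂ) := by
    rw [← Nat.cast_mul, Subgroup.index_mul_card, Nat.card_eq_fintype_card]
  have h4 : (Nat.card T : ℂ) ≠ 0 := by
    rw [Nat.cast_ne_zero]; exact Nat.card_pos.ne'
  rw [h3]
  field_simp

/-- Degree and multiplicity of the `k`-fixed character over `θ`. -/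
theorem kfix_over_facts (N : Subgroup G) [hN : N.Normal] [Fintype N]
    (hodd : Odd N.index) (hk : k.Coprime (Nat.card G)) (hinv : KInv G k) {θ : N → ℂ}
    (hθ : IsIrrCharacter N θ) (hfix : KFix k θ) {χ : G → ℂ} (hχ : IsIrrCharacter G χ)
    (hover : classInner (res N χ) θ ≠ 0) (hχf : KFix k χ) :
    ∃ t : ℕ, Odd t ∧ χ 1 = (t : ℂ) * θ 1 ∧ classInner (res N χ) θ = 1 := by
  obtain ⟨hNT, φ, hφ, hφN, hφf, hχind, hmult⟩ :=
    kfix_over_structure N hodd hk hinv hθ hfix hχ hover hχf
  obtain ⟨-, hoddT⟩ := odd_index_subgroupOf N (stab N θ) hNT hodd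
  refine ⟨(stab N θ).index, hoddT, ?_, ?_⟩
  · rw [hχind, indFun_one]
    congr 1
    exact hφN 1
  · have h1 := frobenius_reciprocity N θ χ (isClassFunction_of_isIrrCharacter hχ)
    rw [hmult] at h1
    have h2 : classInner (res N χ) θ = conj (classInner θ (fun h : N => χ h)) :=
      (classInner_conj_symm θ (fun h : N => χ h)).symm
    rw [h2, ← h1, map_one]

/-- Class sizes of `x` in `G` and in a subgroup `L ≥ N` differ by a ratio of odd numbers. -/
theorem odd_ratio {G : Type*} [Group G] [Finite G] (N L : Subgroup G) [N.Normal] (hNL : N ≤ L)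
    (hodd : Odd N.index) (x : G) (hx : x ∈ L) :
    ∃ r s : ℕ, Odd r ∧ Odd s ∧ (Subgroup.centralizer ({x} : Set G)).index * r =
      s * (Subgroup.centralizer ({(⟨x, hx⟩ : L)} : Set L)).index := by
  set C : Subgroup G := Subgroup.centralizer ({x} : Set G) with hC
  have hCL : Subgroup.centralizer ({(⟨x, hx⟩ : L)} : Set L) = C.subgroupOf L := by
    ext y
    rw [Subgroup.mem_centralizer_singleton_iff, Subgroup.mem_subgroupOf, hC,
      Subgroup.mem_centralizer_singleton_iff, Subtype.ext_iff]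
    rfl
  have h1 : (C ⊓ L).relIndex C * C.index = (C ⊓ L).index := Subgroup.relIndex_mul_index inf_le_left
  have h2 : (C ⊓ L).relIndex L * L.index = (C ⊓ L).index := Subgroup.relIndex_mul_index inf_le_right
  rw [Subgroup.inf_relIndex_left] at h1
  rw [Subgroup.inf_relIndex_right] at h2
  refine ⟨L.relIndex C, L.index, ?_, (odd_index_subgroupOf N L hNL hodd).2, ?_⟩
  · have h3 : L.relIndex C ∣ N.relIndex C := Subgroup.relIndex_dvd_of_le_left C hNL
    have h4 : N.relIndex C ∣ N.index := Subgroup.relIndex_dvd_index_of_normal N C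
    exact Odd.of_dvd_nat hodd (dvd_trans h3 h4)
  · rw [hCL]
    show C.index * L.relIndex C = L.index * C.relIndex L
    rw [mul_comm, h1, mul_comm, h2]

end facts

section stepGen

open Cfsg.Agent.Lib.Helper75_CharArith Cfsg.Agent.Lib.Helper75_IndChar

variable {G : Type u} [Group G] [Fintype G] {k : ℕ} {M : Ideal AlgInt}
  (N : Subgroup G) [hN : N.Normal] [Fintype N]

/-- Conjugation preserves the principal block of a normal subgroup. -/
theorem sameBlock_one_conjFun {θ : N → ℂ} (h : SameBlock M (fun _ : N => (1 : ℂ)) θ) (g : G) :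
    SameBlock M (fun _ : N => (1 : ℂ)) (Helper75_Clifford.conjFun N hN θ g) := by
  rw [conjFun_eq_comp]
  exact sameBlock_comp_equiv (MulAut.conjNormal (H := N) g) h

/-- Constituents of the restriction of the `k`-fixed character to an intermediate subgroup
with abelian quotient over `N`. -/
theorem constituent_facts (hodd : Odd N.index) (hk : k.Coprime (Nat.card G)) (hinv : KInv G k)
    (hM : IsPModular 2 M) {θ : N → ℂ} (hθ : IsIrrCharacter N θ) (hfix : KFix k θ)
    (hθB : SameBlock M (fun _ : N => (1 : ℂ)) θ) {χ : G → ℂ} (hχ : IsIrrCharacter G χ)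
    (hover : classInner (res N χ) θ ≠ 0) (hχf : KFix k χ)
    (L : Subgroup G) [Fintype L] (hNL : N ≤ L)
    (hab : ∀ a b : L ⧸ N.subgroupOf L, a * b = b * a)
    (η : L → ℂ) (hη : IsIrrCharacter L η) (hηχ : classInner (res L χ) η ≠ 0) :
    (∃ t' : ℕ, η 1 = (t' : ℂ) * θ 1) ∧ SameBlock M (fun _ : L => (1 : ℂ)) η := by
  classical
  haveI : Fintype (N.subgroupOf L) := Fintype.ofFinite _
  obtain ⟨t, htodd, hdeg, hmult⟩ := kfix_over_facts N hodd hk hinv hθ hfix hχ hover hχf
  have hχchar := isCharacter_of_isIrrCharacter hχ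
  have hkL : k.Coprime (Nat.card L) := coprime_card_subgroup L hk
  have hkN : k.Coprime (Nat.card N) := coprime_card_subgroup N hk
  -- restriction from `L` to `N`
  set rNL : (L → ℂ) → (N → ℂ) := fun f n => f ⟨(n : G), hNL n.2⟩ with hrNL
  have hrchar : ∀ f : L → ℂ, IsCharacter L f → IsCharacter N (rNL f) :=
    fun f hf => isCharacter_comp (Subgroup.inclusion hNL) hf
  obtain ⟨a, ha, hρ⟩ := exists_multiplicities (isCharacter_res L hχchar)
  -- a constituent `θ'` of `η|_N`
  have hη1 : rNL η 1 ≠ 0 := by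
    have e : rNL η 1 = η 1 := by
      show η ⟨((1 : N) : G), _⟩ = η 1
      congr 1
    rw [e]
    exact irr_one_ne_zero hη
  obtain ⟨θ', hθ', hθ'η⟩ := Cfsg.Agent.Lib.Helper15_QuasiElem.exists_constituent
    (hrchar η (isCharacter_of_isIrrCharacter hη)) hη1
  have hm : ∀ η' : IrrCharacter L, ∃ n : ℕ, classInner (rNL (η' : L → ℂ)) θ' = n :=
    fun η' => classInner_isCharacter_nat (hrchar η' (isCharacter_of_isIrrCharacter η'.2))
      (isCharacter_of_isIrrCharacter hθ')
  choose m hm using hm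
  have hresN : res N χ = ∑ η' : IrrCharacter L, (a η' : ℂ) • rNL (η' : L → ℂ) := by
    funext n
    have h1 := congrFun hρ ⟨(n : G), hNL n.2⟩
    rw [Finset.sum_apply] at h1
    rw [Finset.sum_apply]
    exact h1
  have hsum : classInner (res N χ) θ' = ((∑ η' : IrrCharacter L, a η' * m η' : ℕ) : ℂ) := by
    rw [hresN, classInner_sum_left]
    push_cast
    apply Finset.sum_congr rfl
    intro η' _
    rw [classInner_smul_left, hm η']
  set η₀ : IrrCharacter L := ⟨η, hη⟩ with hη₀
  have ha0 : a η₀ ≠ 0 := by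
    intro h0
    apply hηχ
    have := ha η₀
    rw [h0, Nat.cast_zero] at this
    exact this
  have hm0 : m η₀ ≠ 0 := by
    intro h0
    apply hθ'η
    have := hm η₀
    rw [h0, Nat.cast_zero] at this
    exact this
  have hpos : 0 < a η₀ * m η₀ := Nat.pos_of_ne_zero (Nat.mul_ne_zero ha0 hm0)
  have hle : a η₀ * m η₀ ≤ ∑ η' : IrrCharacter L, a η' * m η' :=
    Finset.single_le_sum (f := fun η' => a η' * m η') (fun _ _ => Nat.zero_le _)
      (Finset.mem_univ η₀)
  have hover' : classInner (res N χ) θ' ≠ 0 := by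
    rw [hsum]
    have : (∑ η' : IrrCharacter L, a η' * m η') ≠ 0 := by omega
    exact_mod_cast this
  obtain ⟨g, hg⟩ := exists_conj_of_constituent N hN hχ hθ hθ' hover hover'
  have hfix' : KFix k θ' := by
    rw [hg]; exact kfix_conjFun N hN hfix g
  have hθ'B : SameBlock M (fun _ : N => (1 : ℂ)) θ' := by
    rw [hg]; exact sameBlock_one_conjFun N hθB g
  have hθ'1 : θ' 1 = θ 1 := by
    rw [hg, conjFun_apply]
    congr 1
    apply Subtype.ext
    simp
  have hmult' : classInner (res N χ) θ' = 1 := by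
    rw [hg, classInner_res_conjFun N hN (isClassFunction_of_isIrrCharacter hχ), hmult]
  have hsum1 : ∑ η' : IrrCharacter L, a η' * m η' = 1 := by
    rw [hsum] at hmult'
    exact_mod_cast hmult'
  -- `η` is `k`-fixed
  have hηf : KFix k η := by
    by_contra hcon
    set ησ : IrrCharacter L := ⟨fun l => η (l ^ k),
      Cfsg.Agent.Lib.Helper75_GalConj.isIrrCharacter_powMap hη k hkL⟩ with hησ
    have hne : ησ ≠ η₀ := by
      intro h
      apply hcon
      intro l
      exact congrFun (congrArg Subtype.val h) l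
    have haσ : a ησ = a η₀ := by
      have h1 : (a ησ : ℂ) = a η₀ := by
        rw [← ha ησ, ← ha η₀]
        have h2 := classInner_powMap hkL (res L χ) η
        have h3 : (fun l : L => res L χ (l ^ k)) = res L χ := by
          funext l
          show χ ((l ^ k : L) : G) = χ l
          rw [Subgroup.coe_pow]
          exact hχf l
        rw [h3] at h2
        exact h2
      exact_mod_cast h1
    have hmσ : m ησ = m η₀ := by
      have h1 : (m ησ : ℂ) = m η₀ := by
        rw [← hm ησ, ← hm η₀]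
        have h2 := classInner_powMap hkN (rNL η) θ'
        have h3 : (fun n : N => θ' (n ^ k)) = θ' := funext hfix'
        rw [h3] at h2
        exact h2
      exact_mod_cast h1
    have h2 : a ησ * m ησ + a η₀ * m η₀ ≤ ∑ η' : IrrCharacter L, a η' * m η' := by
      have h3 : ∑ η' ∈ ({ησ, η₀} : Finset (IrrCharacter L)), a η' * m η' ≤
          ∑ η' : IrrCharacter L, a η' * m η' :=
        Finset.sum_le_sum_of_subset (Finset.subset_univ _)
      rw [Finset.sum_pair hne] at h3
      exact h3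
    rw [haσ, hmσ, hsum1] at h2
    omega
  -- apply Step 1 on `L`
  obtain ⟨hoddL, -⟩ := odd_index_subgroupOf N L hNL hodd
  have hθ'' : IsIrrCharacter (N.subgroupOf L) (resSubgroupOf N L θ') :=
    isIrrCharacter_resSubgroupOf N L hNL hθ'
  have hfix'' : KFix k (resSubgroupOf N L θ') := kfix_resSubgroupOf N L hfix'
  have hθ''B : SameBlock M (fun _ : N.subgroupOf L => (1 : ℂ)) (resSubgroupOf N L θ') := by
    rw [resSubgroupOf_eq_comp N L hNL]
    exact sameBlock_comp_equiv (Subgroup.subgroupOfEquivOfLe hNL) hθ'B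
  have hover'' : classInner (res (N.subgroupOf L) η) (resSubgroupOf N L θ') ≠ 0 := by
    rw [← classInner_conj_symm]
    apply (map_ne_zero _).mpr
    have h1 := classInner_resSubgroupOf N L hNL θ' η
    show classInner (resSubgroupOf N L θ') (fun x : N.subgroupOf L => η x) ≠ 0
    rw [h1, ← classInner_conj_symm]
    exact (map_ne_zero _).mpr hθ'η
  refine ⟨?_, step_abelian (N.subgroupOf L) hoddL hab hkL (hinv.subgroup L) hM hθ'' hfix''
    hθ''B hη hover'' hηf⟩
  obtain ⟨t', -, ht', -⟩ := kfix_over_facts (N.subgroupOf L) hoddL hkL (hinv.subgroup L) hθ''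
    hfix'' hη hover'' hηf
  refine ⟨t', ?_⟩
  rw [ht', ← hθ'1]
  rfl

/-- **Step 2**: the `k`-fixed irreducible character over a `k`-fixed character in the principal
2-block of a normal subgroup of odd index lies in the principal 2-block. -/
theorem step_general (hodd : Odd N.index) (hk : k.Coprime (Nat.card G)) (hinv : KInv G k)
    (hM : IsPModular 2 M) {θ : N → ℂ} (hθ : IsIrrCharacter N θ) (hfix : KFix k θ)
    (hθB : SameBlock M (fun _ : N => (1 : ℂ)) θ) {χ : G → ℂ} (hχ : IsIrrCharacter G χ)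
    (hover : classInner (res N χ) θ ≠ 0) (hχf : KFix k χ) :
    SameBlock M (fun _ : G => (1 : ℂ)) χ := by
  classical
  have hMp := isPrime_of_isPModular hM
  intro x
  obtain ⟨t, htodd, hdeg, hmult⟩ := kfix_over_facts N hodd hk hinv hθ hfix hχ hover hχf
  set L : Subgroup G := N ⊔ Subgroup.zpowers x with hL
  have hNL : N ≤ L := le_sup_left
  have hxL : x ∈ L := (le_sup_right : Subgroup.zpowers x ≤ L) (Subgroup.mem_zpowers x)
  haveI : Fintype L := Fintype.ofFinite L
  obtain ⟨r, s, hr, hs, hrs⟩ := odd_ratio N L hNL hodd x hxL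
  obtain ⟨a, ha, hρ⟩ :=
    exists_multiplicities (isCharacter_res L (isCharacter_of_isIrrCharacter hχ))
  have key : ∀ η : IrrCharacter L, ∃ t' : ℕ, a η ≠ 0 →
      ((η : L → ℂ) 1 = (t' : ℂ) * θ 1 ∧ SameBlock M (fun _ : L => (1 : ℂ)) (η : L → ℂ)) := by
    intro η
    by_cases h0 : a η = 0
    · exact ⟨0, fun h => absurd h0 h⟩
    · have hηχ : classInner (res L χ) (η : L → ℂ) ≠ 0 := by
        rw [ha η]
        exact_mod_cast h0
      obtain ⟨⟨t', ht'⟩, hB⟩ := constituent_facts N hodd hk hinv hM hθ hfix hθB hχ hover hχf L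
        hNL (comm_quot_sup_zpowers N x) η η.2 hηχ
      exact ⟨t', fun _ => ⟨ht', hB⟩⟩
  choose t' ht' using key
  set xL : L := ⟨x, hxL⟩ with hxLdef
  set iG : ℕ := (Subgroup.centralizer ({x} : Set G)).index with hiG
  set iL : ℕ := (Subgroup.centralizer ({xL} : Set L)).index with hiL
  have hχx : χ x = ∑ η : IrrCharacter L, (a η : ℂ) * (η : L → ℂ) xL := by
    have h1 := congrFun hρ xL
    rw [Finset.sum_apply] at h1
    exact h1
  have hχ1 : χ 1 = ∑ η : IrrCharacter L, (a η : ℂ) * (η : L → ℂ) 1 := by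
    have h1 := congrFun hρ 1
    rw [Finset.sum_apply] at h1
    exact h1
  have hθ1 : θ 1 ≠ 0 := irr_one_ne_zero hθ
  have hχ10 : χ 1 ≠ 0 := irr_one_ne_zero hχ
  have hr0 : (r : ℂ) ≠ 0 := by
    have : r ≠ 0 := fun h => by rw [h] at hr; exact absurd hr (by decide)
    exact_mod_cast this
  have ht0 : (t : ℂ) ≠ 0 := by
    have : t ≠ 0 := fun h => by rw [h] at htodd; exact absurd htodd (by decide)
    exact_mod_cast this
  have hrs' : (iG : ℂ) * r = s * iL := by exact_mod_cast hrs
  have hterm : ∀ η : IrrCharacter L,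
      ((a η * t' η * s : ℕ) : ℂ) / ((r * t : ℕ) : ℂ) *
        (centralChar (fun _ : L => (1 : ℂ)) xL - centralChar (η : L → ℂ) xL) =
      (iG : ℂ) / χ 1 * ((a η : ℂ) * ((η : L → ℂ) 1 - (η : L → ℂ) xL)) := by
    intro η
    by_cases h0 : a η = 0
    · rw [h0]
      simp
    · obtain ⟨hd, -⟩ := ht' η h0
      have hη1 : (η : L → ℂ) 1 ≠ 0 := irr_one_ne_zero η.2
      have ht'0 : (t' η : ℂ) ≠ 0 := by
        intro h
        rw [h, zero_mul] at hd
        exact hη1 hd
      unfold centralChar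
      rw [← hiL, hdeg, hd]
      push_cast
      field_simp
      linear_combination (-((t' η : ℂ) * θ 1 - (η : L → ℂ) xL)) * hrs'
  have hgoal : centralChar (fun _ : G => (1 : ℂ)) x - centralChar χ x =
      ∑ η : IrrCharacter L, ((a η * t' η * s : ℕ) : ℂ) / ((r * t : ℕ) : ℂ) *
        (centralChar (fun _ : L => (1 : ℂ)) xL - centralChar (η : L → ℂ) xL) := by
    rw [Finset.sum_congr rfl (fun η _ => hterm η), ← Finset.mul_sum]
    have h1 : ∑ η : IrrCharacter L, (a η : ℂ) * ((η : L → ℂ) 1 - (η : L → ℂ) xL) =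
        χ 1 - χ x := by
      rw [hχ1, hχx, ← Finset.sum_sub_distrib]
      apply Finset.sum_congr rfl
      intro η _
      ring
    rw [h1]
    unfold centralChar
    rw [← hiG]
    field_simp
  rw [hgoal]
  apply memLocalIdeal_sum hMp
  intro η _
  by_cases h0 : a η = 0
  · rw [h0]
    simp only [zero_mul, Nat.cast_zero, zero_div]
    exact memLocalIdeal_zero hMp
  · have hrt : ¬ 2 ∣ r * t := by
      rw [← even_iff_two_dvd, Nat.not_even_iff_odd]
      exact hr.mul htodd
    exact memLocalIdeal_mul_left hMp (memLocalRing_natCast_div hM _ hrt) ((ht' η h0).2 xL)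

end stepGen

end Cfsg.Agent.Lib.Helper15_KFixBlock
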