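import Cfsg.Agent.S0859
import Cfsg.Agent.S0185

set_option autoImplicit false
open Cfsg

/-!
# Minimal non-`p`-closed groups with a normal `p`-complement (helper15)

Core ("endgame") of Ito's theorem and of the Feit–Thompson–Blichfeldt theorem:
a `q`-group `S` with an automorphism `α` of order `p` all of whose proper invariant subgroups
are centralized, carrying a faithful `α`-invariant character of degree `n ≤ p - 1`,
has `n = p - 1` a power of `2` and the character is irreducible.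
-/

namespace Cfsg.Agent.Lib.Helper15_MinNonPClosed

open scoped ComplexConjugate
open Cfsg.Agent.Lib.Helper3_CharBridge Cfsg.Agent.Lib.Helper3_CharOrtho
  Cfsg.Agent.Lib.Helper3_CharComplete Cfsg.Agent.Lib.Helper75_CharArith
  Cfsg.Agent.Lib.Helper75_Induced
  Cfsg.Agent.Lib.Helper75_IndChar Cfsg.Agent.Lib.Helper75_Clifford
  Cfsg.Agent.Lib.Helper3_CharEigen Cfsg.Agent.Lib.Helper3_NilpMono

universe u

open scoped commutatorElement

section Abstract

variable {S : Type u} [Group S]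

/-- the fixed-point subgroup of an automorphism -/
def fixedSub (α : S ≃* S) : Subgroup S where
  carrier := {s | α s = s}
  one_mem' := map_one α
  mul_mem' := by
    intro a b ha hb
    change α (a * b) = a * b
    rw [map_mul, ha, hb]
  inv_mem' := by
    intro a ha
    change α a⁻¹ = a⁻¹
    rw [map_inv, ha]

theorem mem_fixedSub (α : S ≃* S) (s : S) : s ∈ fixedSub α ↔ α s = s := Iff.rfl

/-- iterating `α` on an element moved by a fixed element. -/
theorem iterate_of_fixed (α : S ≃* S) (s c : S) (hc : α c = c) (hs : α s = c * s) (k : ℕ) :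
    (α ^ k) s = c ^ k * s := by
  induction k with
  | zero => simp
  | succ k ih =>
    rw [pow_succ', MulAut.mul_apply, ih, map_mul, map_pow, hc, hs, pow_succ, mul_assoc]

theorem commutator_le_fixedSub [Finite S] (q : ℕ) [Fact q.Prime] (hS : IsPGroup q S)
    (α : S ≃* S)
    (hinv : ∀ T : Subgroup S, T ≠ ⊤ → (∀ t ∈ T, α t ∈ T) → ∀ t ∈ T, α t = t)
    (hne : ∃ s, α s ≠ s) : commutator S ≤ fixedSub α := by
  have : Nontrivial S := by
    obtain ⟨s, hs⟩ := hne
    refine ⟨⟨s, 1, ?_⟩⟩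
    rintro rfl
    exact hs (map_one α)
  have : Group.IsNilpotent S := hS.isNilpotent
  have h1 : commutator S ≠ ⊤ := (Group.IsSolvable.commutator_lt_top_of_nontrivial S).ne
  have h2 : ∀ t ∈ commutator S, α t ∈ commutator S := by
    intro t ht
    have hchar : (commutator S).Characteristic := inferInstance
    have := hchar.fixed α
    rw [← this] at ht
    exact ht
  intro t ht
  exact hinv _ h1 h2 t ht

theorem fixedSub_le_center [Finite S] (p q : ℕ) [hp : Fact p.Prime] [Fact q.Prime] (hpq : p ≠ q)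
    (hS : IsPGroup q S) (α : S ≃* S) (hαp : α ^ p = 1)
    (hinv : ∀ T : Subgroup S, T ≠ ⊤ → (∀ t ∈ T, α t ∈ T) → ∀ t ∈ T, α t = t)
    (hne : ∃ s, α s ≠ s) : fixedSub α ≤ Subgroup.center S := by
  have hcomm := commutator_le_fixedSub q hS α hinv hne
  set C := fixedSub α with hC
  -- elements α(s) s⁻¹ commute with C
  have he : ∀ s : S, ∀ c ∈ C, (α s * s⁻¹) * c = c * (α s * s⁻¹) := by
    intro s c hc
    have hc' : α c = c := hc
    have h1 : s⁻¹ * c⁻¹ * s * c ∈ commutator S := by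
      have : s⁻¹ * c⁻¹ * s * c = ⁅s⁻¹, c⁻¹⁆ := by
        rw [commutatorElement_def]; simp
      rw [this, commutator_def]
      exact Subgroup.commutator_mem_commutator (Subgroup.mem_top _) (Subgroup.mem_top _)
    have h2 : α (s⁻¹ * c⁻¹ * s * c) = s⁻¹ * c⁻¹ * s * c := hcomm h1
    simp only [map_mul, map_inv, hc'] at h2
    -- (α s)⁻¹ c⁻¹ (α s) c = s⁻¹ c⁻¹ s c
    have h3 : (α s)⁻¹ * c⁻¹ * α s = s⁻¹ * c⁻¹ * s := mul_right_cancel h2
    have h4 : (α s * s⁻¹) * c⁻¹ = c⁻¹ * (α s * s⁻¹) := by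
      have : c⁻¹ * α s = α s * (s⁻¹ * c⁻¹ * s) := by
        rw [← h3]; group
      calc (α s * s⁻¹) * c⁻¹ = α s * (s⁻¹ * c⁻¹ * s) * s⁻¹ := by group
        _ = c⁻¹ * α s * s⁻¹ := by rw [← this]
        _ = c⁻¹ * (α s * s⁻¹) := by group
    have h5 : c * (α s * s⁻¹ * c⁻¹) * c = c * (c⁻¹ * (α s * s⁻¹)) * c := by rw [h4]
    have h6 : c * (α s * s⁻¹ * c⁻¹) * c = c * (α s * s⁻¹) := by group
    have h7 : c * (c⁻¹ * (α s * s⁻¹)) * c = (α s * s⁻¹) * c := by group
    rw [h6, h7] at h5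
    exact h5.symm
  -- centralizer of C is invariant
  set Z := Subgroup.centralizer (C : Set S) with hZ
  have hZinv : ∀ t ∈ Z, α t ∈ Z := by
    intro t ht
    rw [hZ, Subgroup.mem_centralizer_iff] at ht ⊢
    intro c hc
    have hc' : α c = c := hc
    have := congrArg α (ht c hc)
    rw [map_mul, map_mul, hc'] at this
    exact this
  have hZe : ∀ s : S, α s * s⁻¹ ∈ Z := by
    intro s
    rw [hZ, Subgroup.mem_centralizer_iff]
    intro c hc
    exact (he s c hc).symm
  by_cases hZtop : Z = ⊤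
  · intro c hc
    rw [Subgroup.mem_center_iff]
    intro s
    have hs : s ∈ Z := by rw [hZtop]; exact Subgroup.mem_top _
    rw [hZ, Subgroup.mem_centralizer_iff] at hs
    exact (hs c hc).symm
  · exfalso
    have hZfix := hinv Z hZtop hZinv
    obtain ⟨s, hs⟩ := hne
    apply hs
    set c := α s * s⁻¹ with hc
    have hcfix : α c = c := hZfix c (hZe s)
    have hsc : α s = c * s := by rw [hc]; group
    have h1 := iterate_of_fixed α s c hcfix hsc p
    rw [hαp] at h1
    have h2 : c ^ p = 1 := by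
      have : (1 : S ≃* S) s = s := rfl
      rw [this] at h1
      exact (mul_eq_right).1 h1.symm
    have h3 : orderOf c ∣ p := orderOf_dvd_of_pow_eq_one h2
    obtain ⟨k, hk⟩ := hS c
    have h4 : orderOf c ∣ q ^ k := orderOf_dvd_of_pow_eq_one hk
    have h5 : orderOf c = 1 := by
      have hcop : Nat.Coprime p (q ^ k) :=
        Nat.Coprime.pow_right k ((Nat.coprime_primes hp.out (Fact.out)).2 hpq)
      exact Nat.eq_one_of_dvd_coprimes hcop h3 h4
    rw [orderOf_eq_one_iff] at h5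
    rw [hsc, h5, one_mul]

/-- decomposition of a character with natural multiplicities and natural degrees. -/
theorem exists_decomp [Fintype S] {Ψ : S → ℂ} (hΨ : IsCharacter S Ψ) :
    ∃ (m d : IrrCharacter S → ℕ), (∀ χ : IrrCharacter S, classInner Ψ (χ : S → ℂ) = m χ) ∧
      (∀ χ : IrrCharacter S, (χ : S → ℂ) 1 = d χ) ∧ (∀ χ, 1 ≤ d χ) ∧
      (∀ s : S, Ψ s = ∑ χ : IrrCharacter S, (m χ : ℂ) * (χ : S → ℂ) s) := by
  obtain ⟨m, hm, hsum⟩ := exists_multiplicities hΨ
  have hd : ∀ χ : IrrCharacter S, ∃ k : ℕ, (χ : S → ℂ) 1 = k := fun χ =>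
    Cfsg.Agent.S0890.char_one_nat (isCharacter_of_isIrrCharacter χ.2)
  choose d hd using hd
  refine ⟨m, d, hm, hd, ?_, ?_⟩
  · intro χ
    rcases Nat.eq_zero_or_pos (d χ) with h | h
    · exfalso
      have := irr_one_ne_zero χ.2
      rw [hd χ, h] at this
      simp at this
    · exact h
  · intro s
    have := congrFun hsum s
    rw [this]
    simp [Finset.sum_apply]

theorem degree_eq_sum [Fintype S] {Ψ : S → ℂ} (m d : IrrCharacter S → ℕ)
    (hd : ∀ χ : IrrCharacter S, (χ : S → ℂ) 1 = d χ)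
    (hsum : ∀ s : S, Ψ s = ∑ χ : IrrCharacter S, (m χ : ℂ) * (χ : S → ℂ) s) (n : ℕ)
    (hn : Ψ 1 = n) : n = ∑ χ : IrrCharacter S, m χ * d χ := by
  have h1 := hsum 1
  rw [hn] at h1
  have : (n : ℂ) = ((∑ χ : IrrCharacter S, m χ * d χ : ℕ) : ℂ) := by
    rw [h1]
    push_cast
    apply Finset.sum_congr rfl
    intro χ _
    rw [hd χ]
  exact_mod_cast this

theorem exists_constituent_ne [Fintype S] {Ψ : S → ℂ} (m : IrrCharacter S → ℕ)
    (hsum : ∀ s : S, Ψ s = ∑ χ : IrrCharacter S, (m χ : ℂ) * (χ : S → ℂ) s)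
    (e : S) (he : Ψ e ≠ Ψ 1) :
    ∃ θ : IrrCharacter S, 1 ≤ m θ ∧ (θ : S → ℂ) e ≠ (θ : S → ℂ) 1 := by
  by_contra hcon
  push Not at hcon
  apply he
  rw [hsum e, hsum 1]
  apply Finset.sum_congr rfl
  intro χ _
  rcases Nat.eq_zero_or_pos (m χ) with h | h
  · rw [h]; simp
  · rw [hcon χ h]

/-- the stabilizer of a function in the automorphism group -/
def stabAut (θ : S → ℂ) : Subgroup (MulAut S) where
  carrier := {β | ∀ s, θ (β s) = θ s}
  one_mem' := fun s => rfl
  mul_mem' := by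
    intro a b ha hb s
    rw [MulAut.mul_apply, ha, hb]
  inv_mem' := by
    intro a ha s
    have := ha (a⁻¹ s)
    rw [MulAut.apply_inv_self] at this
    exact this.symm

theorem mem_stabAut_of_pow (p : ℕ) [hp : Fact p.Prime] (α : MulAut S) (hαp : α ^ p = 1)
    (θ : S → ℂ) (k : ℕ) (hk0 : 0 < k) (hkp : k < p) (hk : α ^ k ∈ stabAut θ) : α ∈ stabAut θ := by
  have hcop : Nat.Coprime k p :=
    ((Nat.Prime.coprime_iff_not_dvd hp.out).2 (Nat.not_dvd_of_pos_of_lt hk0 hkp)).symm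
  have h1 : IsCoprime (k : ℤ) (p : ℤ) := Nat.isCoprime_iff_coprime.2 hcop
  obtain ⟨a, b, hab⟩ := h1
  have h2 : α = (α ^ k) ^ a * (α ^ p) ^ b := by
    rw [← zpow_natCast α k, ← zpow_natCast α p, ← zpow_mul, ← zpow_mul, ← zpow_add]
    have : (k : ℤ) * a + (p : ℤ) * b = 1 := by linarith
    rw [this, zpow_one]
  rw [h2, hαp, one_zpow, mul_one]
  exact Subgroup.zpow_mem _ hk a

theorem comp_pow_eq {Ψ : S → ℂ} (α : MulAut S) (hΨα : ∀ s, Ψ (α s) = Ψ s) (k : ℕ) (s : S) :
    Ψ ((α ^ k) s) = Ψ s := by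
  induction k with
  | zero => simp
  | succ k ih => rw [pow_succ', MulAut.mul_apply, hΨα, ih]

theorem caseA [Fintype S] (p : ℕ) [hp : Fact p.Prime] (α : MulAut S) (hαp : α ^ p = 1)
    {Ψ : S → ℂ} (hΨα : ∀ s, Ψ (α s) = Ψ s) (m d : IrrCharacter S → ℕ)
    (hm : ∀ χ : IrrCharacter S, classInner Ψ (χ : S → ℂ) = m χ)
    (hd : ∀ χ : IrrCharacter S, (χ : S → ℂ) 1 = d χ) (hd1 : ∀ χ, 1 ≤ d χ)
    (n : ℕ) (hn : n = ∑ χ : IrrCharacter S, m χ * d χ)
    (θ : IrrCharacter S) (hθm : 1 ≤ m θ) (hθα : α ∉ stabAut (θ : S → ℂ)) : p ≤ n := by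
  classical
  let f : Fin p → IrrCharacter S := fun i =>
    ⟨fun s => (θ : S → ℂ) ((α ^ (i : ℕ)) s), isIrrCharacter_comp_equiv (α ^ (i : ℕ)) θ.2⟩
  have hf : Function.Injective f := by
    intro i j hij
    by_contra hne
    wlog hlt : (i : ℕ) < (j : ℕ) generalizing i j with H
    · have hne' : (i : ℕ) ≠ (j : ℕ) := fun h => hne (Fin.ext h)
      have : (j : ℕ) < (i : ℕ) := by omega
      exact H hij.symm (fun h => hne h.symm) this
    apply hθα
    apply mem_stabAut_of_pow p α hαp _ ((j : ℕ) - (i : ℕ)) (by omega) (by have := j.2; omega)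
    intro s
    have h1 := congrFun (congrArg Subtype.val hij) ((α ^ (i : ℕ))⁻¹ s)
    simp only [f] at h1
    rw [MulAut.apply_inv_self] at h1
    have h2 : (α ^ (j : ℕ)) ((α ^ (i : ℕ))⁻¹ s) = (α ^ ((j : ℕ) - (i : ℕ))) s := by
      have : α ^ (j : ℕ) = α ^ ((j : ℕ) - (i : ℕ)) * α ^ (i : ℕ) := by
        rw [← pow_add]; congr 1; omega
      rw [this, MulAut.mul_apply, MulAut.apply_inv_self]
    rw [h2] at h1
    exact h1.symm
  have hmf : ∀ i, m (f i) = m θ := by
    intro i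
    have h1 := hm (f i)
    have h2 := classInner_comp_equiv (α ^ (i : ℕ)) Ψ (θ : S → ℂ)
    have h3 : (fun k => Ψ ((α ^ (i : ℕ)) k)) = Ψ := funext (comp_pow_eq α hΨα i)
    rw [h3] at h2
    have h4 : classInner Ψ ((f i : IrrCharacter S) : S → ℂ) = classInner Ψ (θ : S → ℂ) := h2
    rw [h4, hm θ] at h1
    exact_mod_cast h1.symm
  have hdf : ∀ i, d (f i) = d θ := by
    intro i
    have h1 := hd (f i)
    have h2 : ((f i : IrrCharacter S) : S → ℂ) 1 = (θ : S → ℂ) 1 := by
      simp only [f, map_one]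
    rw [h2, hd θ] at h1
    exact_mod_cast h1.symm
  calc p = ∑ _i : Fin p, 1 := by simp
    _ ≤ ∑ i : Fin p, m (f i) * d (f i) := by
        apply Finset.sum_le_sum
        intro i _
        rw [hmf, hdf]
        exact Nat.one_le_iff_ne_zero.2 (Nat.mul_ne_zero (by omega) (by have := hd1 θ; omega))
    _ = ∑ χ ∈ Finset.univ.image f, m χ * d χ := by
        rw [Finset.sum_image (fun a _ b _ h => hf h)]
    _ ≤ ∑ χ : IrrCharacter S, m χ * d χ :=
        Finset.sum_le_sum_of_subset (Finset.subset_univ _)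
    _ = n := hn.symm

theorem char_of_scalar {k : ℕ} (σ : Representation ℂ S (Fin k → ℂ)) (s : S) (c : ℂ)
    (h : σ s = c • (LinearMap.id : (Fin k → ℂ) →ₗ[ℂ] (Fin k → ℂ))) :
    σ.character s = c * k := by
  unfold Representation.character
  rw [h, map_smul, LinearMap.trace_id, Module.finrank_fin_fun, smul_eq_mul]

theorem char_mul_scalar {k : ℕ} (σ : Representation ℂ S (Fin k → ℂ)) (s z : S) (c : ℂ)
    (h : σ z = c • (LinearMap.id : (Fin k → ℂ) →ₗ[ℂ] (Fin k → ℂ))) :
    σ.character (s * z) = c * σ.character s := by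
  unfold Representation.character
  rw [map_mul, h]
  have : σ s * c • (LinearMap.id : (Fin k → ℂ) →ₗ[ℂ] (Fin k → ℂ)) = c • σ s := by
    ext v
    simp
  rw [this, map_smul, smul_eq_mul]

/-- Structure in the invariant case: the scalar subgroup equals the fixed subgroup and the
character vanishes off it. -/
theorem caseB_structure [Fintype S] (p q : ℕ) [hp : Fact p.Prime] [hq : Fact q.Prime] (hpq : p ≠ q)
    (hS : IsPGroup q S) (α : MulAut S) (hαp : α ^ p = 1)
    (hinv : ∀ T : Subgroup S, T ≠ ⊤ → (∀ t ∈ T, α t ∈ T) → ∀ t ∈ T, α t = t)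
    (hne : ∃ s, α s ≠ s)
    {k : ℕ} (σ : Representation ℂ S (Fin k → ℂ)) [hσ : σ.IsIrreducible]
    (hθα : ∀ s, σ.character (α s) = σ.character s)
    (s0 : S) (hs0 : σ.character (α s0 * s0⁻¹) ≠ σ.character 1) :
    (∀ s ∈ fixedSub α, ‖σ.character s‖ = (k : ℝ)) ∧ (∀ s ∉ fixedSub α, σ.character s = 0) := by
  have hcomm := commutator_le_fixedSub q hS α hinv hne
  have hcent := fixedSub_le_center p q hpq hS α hαp hinv hne
  have hfin : Module.finrank ℂ (Fin k → ℂ) = k := Module.finrank_fin_fun ℂ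
  have hk0 : k ≠ 0 := by
    rintro rfl
    apply hs0
    have h1 : ∀ s, σ.character s = 0 := by
      intro s
      unfold Representation.character
      have : σ s = 0 := by
        ext v i
        exact i.elim0
      rw [this, map_zero]
    rw [h1, h1]
  have : Nonempty (Fin k) := ⟨⟨0, Nat.pos_of_ne_zero hk0⟩⟩
  set Z := scalarSubgroup σ with hZ
  have hZiff : ∀ t, t ∈ Z ↔ ‖σ.character t‖ = (k : ℝ) := by
    intro t
    rw [hZ, mem_scalarSubgroup, ← norm_char_eq_iff, hfin]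
  have hZinv : ∀ t ∈ Z, α t ∈ Z := by
    intro t ht
    rw [hZiff] at ht ⊢
    rw [hθα, ht]
  have hZne : Z ≠ ⊤ := by
    intro htop
    apply hs0
    have h1 : α s0 ∈ Z := by rw [htop]; exact Subgroup.mem_top _
    have h2 : s0 ∈ Z := by rw [htop]; exact Subgroup.mem_top _
    obtain ⟨c1, hc1⟩ := (mem_scalarSubgroup σ _).1 h1
    obtain ⟨c2, hc2⟩ := (mem_scalarSubgroup σ _).1 h2
    have h3 := char_of_scalar σ _ c1 hc1
    have h4 := char_of_scalar σ _ c2 hc2
    rw [hθα, h4] at h3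
    have hkc : (k : ℂ) ≠ 0 := by exact_mod_cast hk0
    have h5 : c1 = c2 := (mul_right_cancel₀ hkc h3).symm
    have h6 : σ (α s0 * s0⁻¹) = 1 := by
      rw [map_mul, hc1, h5, ← hc2, ← map_mul, mul_inv_cancel, map_one]
    have h7 : σ (α s0 * s0⁻¹) = σ 1 := by rw [h6, map_one]
    unfold Representation.character
    rw [h7]
  have hZC : Z ≤ fixedSub α := fun t ht => hinv Z hZne hZinv t ht
  have hCZ : fixedSub α ≤ Z := by
    intro c hc
    have hcc := hcent hc
    rw [Subgroup.mem_center_iff] at hcc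
    obtain ⟨w, hw⟩ := Cfsg.Agent.Lib.Helper16_Char.schur_scalar σ (σ c) (by
      intro g
      have := congrArg σ (hcc g)
      rw [map_mul, map_mul] at this
      exact this.symm)
    exact (mem_scalarSubgroup σ c).2 ⟨w, hw⟩
  refine ⟨fun s hs => (hZiff s).1 (hCZ hs), ?_⟩
  intro s hs
  by_contra hχ
  apply hs
  apply hZC
  -- show σ s commutes with everything
  have hcm : ∀ t : S, σ s ∘ₗ σ t = σ t ∘ₗ σ s := by
    intro t
    set z := s⁻¹ * t⁻¹ * s * t with hz
    have hzc : z ∈ commutator S := by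
      have : z = ⁅s⁻¹, t⁻¹⁆ := by
        rw [commutatorElement_def]; simp [hz]
      rw [this, commutator_def]
      exact Subgroup.commutator_mem_commutator (Subgroup.mem_top _) (Subgroup.mem_top _)
    have hzZ : z ∈ Z := hCZ (hcomm hzc)
    obtain ⟨w, hw⟩ := (mem_scalarSubgroup σ z).1 hzZ
    have h1 : σ.character (s * z) = w * σ.character s := char_mul_scalar σ s z w hw
    have h2 : s * z = t⁻¹ * s * t⁻¹⁻¹ := by rw [hz]; group
    rw [h2, Representation.char_conj] at h1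
    have h3 : w = 1 := by
      have : (1 : ℂ) * σ.character s = w * σ.character s := by rw [one_mul]; exact h1
      exact (mul_right_cancel₀ hχ this).symm
    rw [h3, one_smul] at hw
    have h4 : s * t = t * s * z := by rw [hz]; group
    have h5 := congrArg σ h4
    rw [map_mul, map_mul, map_mul, hw] at h5
    exact h5
  obtain ⟨w, hw⟩ := Cfsg.Agent.Lib.Helper16_Char.schur_scalar σ (σ s) hcm
  exact (mem_scalarSubgroup σ s).2 ⟨w, hw⟩

theorem card_eq_of_vanish [Fintype S] (C : Subgroup S) {θ : S → ℂ} (hθ : IsIrrCharacter S θ)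
    (k : ℕ) (h1 : ∀ s ∈ C, ‖θ s‖ = (k : ℝ)) (h2 : ∀ s ∉ C, θ s = 0) :
    Nat.card S = Nat.card C * k ^ 2 := by
  classical
  have h3 := Cfsg.Agent.S0890.sum_normSq_of_irr hθ
  have h4 : ∀ s : S, θ s * conj (θ s) = if s ∈ C then ((k : ℂ) ^ 2) else 0 := by
    intro s
    by_cases hs : s ∈ C
    · rw [if_pos hs, Complex.mul_conj, Complex.normSq_eq_norm_sq, h1 s hs]
      push_cast
      rfl
    · rw [if_neg hs, h2 s hs, zero_mul]
  rw [Finset.sum_congr rfl (fun s _ => h4 s), Finset.sum_ite, Finset.sum_const_zero, add_zero,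
    Finset.sum_const, nsmul_eq_mul] at h3
  have h5 : (Finset.univ.filter (fun s : S => s ∈ C)).card = Nat.card C := by
    rw [Nat.card_eq_fintype_card, Fintype.card_subtype]
  rw [h5] at h3
  exact_mod_cast h3.symm

theorem card_modEq_fixedSub [Fintype S] (p : ℕ) [hp : Fact p.Prime] (α : MulAut S)
    (hαp : α ^ p = 1) : Nat.card S ≡ Nat.card (fixedSub α) [MOD p] := by
  classical
  let f : Function.End S := (α : S → S)
  have hpow : ∀ n : ℕ, ∀ s : S, (f ^ n) s = (α ^ n) s := by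
    intro n
    induction n with
    | zero => intro s; rfl
    | succ n ih =>
      intro s
      rw [pow_succ', pow_succ', MulAut.mul_apply, ← ih]
      rfl
  have hf : f ^ p ^ 1 = 1 := by
    funext s
    rw [pow_one, hpow, hαp]
    rfl
  have h1 := Equiv.Perm.card_fixedPoints_modEq (p := p) (n := 1) hf
  have h2 : Fintype.card (Function.fixedPoints f) = Nat.card (fixedSub α) := by
    rw [← Nat.card_eq_fintype_card]
    apply Nat.card_congr
    exact Equiv.subtypeEquivRight (fun s => Iff.rfl)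
  rw [h2, ← Nat.card_eq_fintype_card] at h1
  exact h1

/-- arithmetic at the end of case B -/
theorem arithB (p q k n cS cC a : ℕ) (hp : p.Prime) (hq : q.Prime) (hpq : p ≠ q)
    (hcS : cS = q ^ a) (hcard : cS = cC * k ^ 2) (hmod : cS ≡ cC [MOD p]) (hlt : cC < cS)
    (hkn : k ≤ n) (hnp : n + 1 ≤ p) :
    n + 1 = p ∧ n = k ∧ ∃ b : ℕ, n = 2 ^ b := by
  have hcC0 : 0 < cC := by
    rcases Nat.eq_zero_or_pos cC with h | h
    · rw [h, zero_mul] at hcard
      have : 0 < q ^ a := pow_pos hq.pos a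
      omega
    · exact h
  have hk2 : 2 ≤ k := by
    by_contra hk
    have : k ^ 2 ≤ 1 := by
      have : k ≤ 1 := by omega
      calc k ^ 2 ≤ 1 ^ 2 := Nat.pow_le_pow_left this 2
        _ = 1 := by norm_num
    have : cC * k ^ 2 ≤ cC * 1 := Nat.mul_le_mul_left cC this
    omega
  have hcCdvd : cC ∣ q ^ a := by rw [← hcS, hcard]; exact Dvd.intro _ rfl
  obtain ⟨c, -, hc⟩ := (Nat.dvd_prime_pow hq).1 hcCdvd
  have hcop : Nat.Coprime p cC := by
    rw [hc]
    exact Nat.Coprime.pow_right c ((Nat.coprime_primes hp hq).2 hpq)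
  have hmod2 : cC * k ^ 2 ≡ cC * 1 [MOD p] := by
    rw [mul_one, ← hcard]; exact hmod
  have hmod3 : k ^ 2 ≡ 1 [MOD p] := Nat.ModEq.cancel_left_of_coprime hcop hmod2
  have hk1 : 1 ≤ k ^ 2 := Nat.one_le_pow _ _ (by omega)
  have hdvd : p ∣ k ^ 2 - 1 := (Nat.modEq_iff_dvd' hk1).1 hmod3.symm
  have hfac : k ^ 2 - 1 = (k - 1) * (k + 1) := by
    obtain ⟨j, rfl⟩ : ∃ j, k = j + 1 := ⟨k - 1, by omega⟩
    simp only [Nat.add_sub_cancel]
    have : (j + 1) ^ 2 = j * (j + 1 + 1) + 1 := by ring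
    omega
  rw [hfac] at hdvd
  have hkdvd : k ∣ q ^ a := by
    rw [← hcS, hcard]
    exact ⟨cC * k, by ring⟩
  obtain ⟨b, -, hb⟩ := (Nat.dvd_prime_pow hq).1 hkdvd
  rcases (Nat.Prime.dvd_mul hp).1 hdvd with h | h
  · exfalso
    have := Nat.le_of_dvd (by omega) h
    omega
  · have h1 := Nat.le_of_dvd (by omega) h
    have hkp : k + 1 = p := by omega
    have hnk : n = k := by omega
    refine ⟨by omega, hnk, b, ?_⟩
    rw [hnk, hb]
    -- q = 2
    have hb0 : b ≠ 0 := by
      rintro rfl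
      rw [pow_zero] at hb
      omega
    have hq2 : q = 2 := by
      by_contra hq2
      have hqodd : Odd q := hq.odd_of_ne_two hq2
      have hkodd : Odd k := by rw [hb]; exact hqodd.pow
      have hpeven : Even p := by
        rw [← hkp]
        exact Odd.add_odd hkodd odd_one
      have hp2 : p = 2 := (Nat.Prime.even_iff hp).1 hpeven
      omega
    rw [hq2]

/-- **Core theorem**: a `q`-group with an automorphism of order dividing `p`, all of whose
proper invariant subgroups are centralized, carrying a faithful invariant character of degree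
`n ≤ p - 1`. -/
theorem core [Fintype S] (p q : ℕ) [hp : Fact p.Prime] [hq : Fact q.Prime] (hpq : p ≠ q)
    (hS : IsPGroup q S) (α : MulAut S) (hαp : α ^ p = 1)
    (hinv : ∀ T : Subgroup S, T ≠ ⊤ → (∀ t ∈ T, α t ∈ T) → ∀ t ∈ T, α t = t)
    (hne : ∃ s, α s ≠ s)
    (Ψ : S → ℂ) (hΨ : IsCharacter S Ψ) (hfaith : ∀ s, Ψ s = Ψ 1 → s = 1)
    (hΨα : ∀ s, Ψ (α s) = Ψ s) (n : ℕ) (hn : Ψ 1 = n) (hnp : n + 1 ≤ p) :
    n + 1 = p ∧ (∃ b : ℕ, n = 2 ^ b) ∧ IsIrrCharacter S Ψ := by
  classical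
  obtain ⟨m, d, hm, hd, hd1, hsum⟩ := exists_decomp hΨ
  have hnsum := degree_eq_sum m d hd hsum n hn
  obtain ⟨s0, hs0⟩ := hne
  have he1 : α s0 * s0⁻¹ ≠ 1 := by
    intro h
    apply hs0
    rw [mul_inv_eq_one] at h
    exact h
  have hΨe : Ψ (α s0 * s0⁻¹) ≠ Ψ 1 := fun h => he1 (hfaith _ h)
  obtain ⟨θ, hθm, hθe⟩ := exists_constituent_ne m hsum _ hΨe
  by_cases hθα : α ∈ stabAut (θ : S → ℂ)
  · -- invariant case
    obtain ⟨k, σ, hσ, hσθ⟩ := θ.2
    haveI := hσ
    have hθα' : ∀ s, σ.character (α s) = σ.character s := by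
      intro s
      rw [hσθ]
      exact hθα s
    have hs0' : σ.character (α s0 * s0⁻¹) ≠ σ.character 1 := by
      rw [hσθ]; exact hθe
    obtain ⟨hB1, hB2⟩ := caseB_structure p q hpq hS α hαp hinv ⟨s0, hs0⟩ σ hθα' s0 hs0'
    rw [hσθ] at hB1 hB2
    have hcard := card_eq_of_vanish (fixedSub α) θ.2 k hB1 hB2
    have hmod := card_modEq_fixedSub p α hαp
    have hdk : d θ = k := by
      have h1 := hd θ
      rw [← hσθ, Representation.char_one, Module.finrank_fin_fun] at h1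
      exact_mod_cast h1.symm
    have hkn : k ≤ n := by
      rw [hnsum, ← hdk]
      calc d θ ≤ m θ * d θ := Nat.le_mul_of_pos_left _ (by omega)
        _ ≤ ∑ χ : IrrCharacter S, m χ * d χ :=
          Finset.single_le_sum (f := fun χ => m χ * d χ) (fun _ _ => Nat.zero_le _)
            (Finset.mem_univ θ)
    obtain ⟨a, ha⟩ := (IsPGroup.iff_card (p := q)).1 hS
    have hlt : Nat.card (fixedSub α) < Nat.card S := by
      apply lt_of_le_of_ne (Subgroup.card_le_card_group _)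
      intro h
      have := Subgroup.eq_top_of_card_eq _ h
      apply hs0
      have h2 : s0 ∈ fixedSub α := by rw [this]; exact Subgroup.mem_top _
      exact h2
    obtain ⟨h1, h2, h3⟩ := arithB p q k n _ _ a hp.out hq.out hpq ha hcard hmod hlt hkn hnp
    refine ⟨h1, h3, ?_⟩
    -- Ψ = θ
    have hmθ : m θ * d θ + ∑ χ ∈ Finset.univ.erase θ, m χ * d χ = n := by
      rw [hnsum]
      exact Finset.add_sum_erase Finset.univ (fun χ => m χ * d χ) (Finset.mem_univ θ)
    rw [hdk, ← h2] at hmθ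
    have hmθ1 : m θ = 1 := by
      have hn0 : 0 < n := by have := hp.out.two_le; omega
      have : m θ * n ≤ n := by omega
      have : m θ ≤ 1 := by
        by_contra hh
        have : 2 * n ≤ m θ * n := Nat.mul_le_mul_right n (by omega)
        omega
      omega
    have hrest : ∑ χ ∈ Finset.univ.erase θ, m χ * d χ = 0 := by
      rw [hmθ1] at hmθ
      omega
    have hm0 : ∀ χ : IrrCharacter S, χ ≠ θ → m χ = 0 := by
      intro χ hχ
      have := (Finset.sum_eq_zero_iff.1 hrest) χ (Finset.mem_erase.2 ⟨hχ, Finset.mem_univ _⟩)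
      rcases Nat.mul_eq_zero.1 this with h | h
      · exact h
      · have := hd1 χ; omega
    have hΨθ : Ψ = (θ : S → ℂ) := by
      funext s
      rw [hsum s, Finset.sum_eq_single θ]
      · rw [hmθ1]; simp
      · intro χ _ hχ
        rw [hm0 χ hχ]; simp
      · intro h; exact absurd (Finset.mem_univ θ) h
    rw [hΨθ]
    exact θ.2
  · exfalso
    have := caseA p α hαp hΨα m d hm hd hd1 n hnsum θ hθm hθα
    omega

open scoped Pointwise in
/-- Under the invariance hypotheses the group is a `q`-group for some prime `q`. -/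
theorem isPGroup_of_inv [Finite S] (p : ℕ) [hp : Fact p.Prime] (hSp : (Nat.card S).Coprime p)
    (α : MulAut S) (hαp : α ^ p = 1)
    (hinv : ∀ T : Subgroup S, T ≠ ⊤ → (∀ t ∈ T, α t ∈ T) → ∀ t ∈ T, α t = t)
    (hne : ∃ s, α s ≠ s) : ∃ q : ℕ, q.Prime ∧ IsPGroup q S := by
  classical
  have hCne : fixedSub α ≠ ⊤ := by
    intro h
    obtain ⟨s, hs⟩ := hne
    apply hs
    have : s ∈ fixedSub α := by rw [h]; exact Subgroup.mem_top _
    exact this
  have hidx : (fixedSub α).index ≠ 1 := by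
    intro h
    exact hCne (Subgroup.index_eq_one.1 h)
  obtain ⟨q, hq, hqdvd⟩ := Nat.exists_prime_and_dvd hidx
  haveI : Fact q.Prime := ⟨hq⟩
  refine ⟨q, hq, ?_⟩
  haveI : Fintype (Sylow q S) := Fintype.ofFinite _
  -- a fixed Sylow q-subgroup
  let σ : Equiv.Perm (Sylow q S) := MulAction.toPermHom (MulAut S) (Sylow q S) α
  have hσ : σ ^ p ^ 1 = 1 := by
    rw [pow_one]
    change (MulAction.toPermHom (MulAut S) (Sylow q S) α) ^ p = 1
    rw [← map_pow, hαp, map_one]
  have hcard : ¬ p ∣ Fintype.card (Sylow q S) := by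
    intro h
    have h1 : Fintype.card (Sylow q S) ∣ Nat.card S := by
      rw [← Nat.card_eq_fintype_card]
      obtain Q : Sylow q S := default
      exact (Sylow.card_dvd_index Q).trans (Subgroup.index_dvd_card _)
    have h2 : p ∣ Nat.card S := h.trans h1
    have := Nat.Coprime.eq_one_of_dvd hSp.symm h2
    exact hp.out.one_lt.ne' this
  obtain ⟨Q, hQ⟩ := Equiv.Perm.exists_fixed_point_of_prime hcard hσ
  have hQ' : α • Q = Q := hQ
  have hQinv : ∀ t ∈ (Q : Subgroup S), α t ∈ (Q : Subgroup S) := by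
    intro t ht
    have h1 : α • t ∈ α • (Q : Subgroup S) := Subgroup.smul_mem_pointwise_smul t α _ ht
    have h2 : α • (Q : Subgroup S) = ((α • Q : Sylow q S) : Subgroup S) := rfl
    rw [h2, hQ'] at h1
    exact h1
  by_cases hQtop : (Q : Subgroup S) = ⊤
  · intro s
    have hs : s ∈ (Q : Subgroup S) := by rw [hQtop]; exact Subgroup.mem_top _
    obtain ⟨k, hk⟩ := Q.isPGroup' ⟨s, hs⟩
    refine ⟨k, ?_⟩
    have := congrArg Subtype.val hk
    simpa using this
  · exfalso
    have hQC : (Q : Subgroup S) ≤ fixedSub α := fun t ht => hinv _ hQtop hQinv t ht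
    have h1 : Nat.card (Q : Subgroup S) ∣ Nat.card (fixedSub α) := Subgroup.card_dvd_of_le hQC
    rw [Sylow.card_eq_multiplicity] at h1
    have h2 : Nat.card (fixedSub α) * (fixedSub α).index = Nat.card S :=
      Subgroup.card_mul_index _
    have h3 : q ^ ((Nat.card S).factorization q + 1) ∣ Nat.card S := by
      rw [pow_succ]
      conv_rhs => rw [← h2]
      exact Nat.mul_dvd_mul h1 hqdvd
    exact Nat.pow_succ_factorization_not_dvd Nat.card_pos.ne' hq h3

end Abstract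

section Concrete

variable {H : Type u} [Group H]

/-- A subgroup all of whose Sylow `p`-subgroups are normal has a largest `p`-subgroup. -/
theorem exists_Op_of_pclosed [Finite H] (p : ℕ) [Fact p.Prime] (L : Subgroup H)
    (hL : ∀ Q : Sylow p L, (Q : Subgroup L).Normal) :
    ∃ U : Subgroup H, U ≤ L ∧ IsPGroup p U ∧ (∀ g ∈ L, ∀ u ∈ U, g * u * g⁻¹ ∈ U) ∧
      (∀ A : Subgroup H, A ≤ L → IsPGroup p A → A ≤ U) := by
  obtain Q : Sylow p L := default
  have hQ := hL Q
  refine ⟨(Q : Subgroup L).map L.subtype, Subgroup.map_subtype_le _, Q.isPGroup'.map _, ?_, ?_⟩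
  · rintro g hg u ⟨v, hv, rfl⟩
    refine ⟨⟨g, hg⟩ * v * ⟨g, hg⟩⁻¹, hQ.conj_mem v hv ⟨g, hg⟩, ?_⟩
    simp
  · intro A hAL hA
    have hA' : IsPGroup p (A.subgroupOf L) := hA.comap_subtype
    obtain ⟨Q', hQ'⟩ := hA'.exists_le_sylow
    have hQQ : Q' = Q := by
      have := Sylow.unique_of_normal Q hQ
      exact Subsingleton.elim _ _
    rw [hQQ] at hQ'
    intro a ha
    exact ⟨⟨a, hAL ha⟩, hQ' (by simpa [Subgroup.mem_subgroupOf] using ha), rfl⟩

/-- an element of a `p'`-subgroup killed by a power of `p` is trivial -/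
theorem eq_one_of_coprime [Finite H] (p : ℕ) (K : Subgroup H) (hKp : (Nat.card K).Coprime p)
    (k : H) (hk : k ∈ K) (j : ℕ) (hkj : k ^ p ^ j = 1) : k = 1 := by
  have h1 : orderOf k ∣ p ^ j := orderOf_dvd_of_pow_eq_one hkj
  have h2 : orderOf k ∣ Nat.card K := by
    have := orderOf_dvd_natCard (⟨k, hk⟩ : K)
    rwa [Subgroup.orderOf_mk] at this
  have h3 : Nat.Coprime (Nat.card K) (p ^ j) := Nat.Coprime.pow_right j hKp
  have := Nat.eq_one_of_dvd_coprimes h3 h2 h1
  exact orderOf_eq_one_iff.1 this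

/-- In a group all of whose proper subgroups are `p`-closed, a `p`-element `y` commutes with any
`y`-invariant `p'`-subgroup `T` such that `T` and `y` lie in a proper subgroup. -/
theorem commute_of_proper [Finite H] (p : ℕ) [Fact p.Prime]
    (hmin : ∀ L : Subgroup H, L ≠ ⊤ → ∀ Q : Sylow p L, (Q : Subgroup L).Normal)
    (K : Subgroup H) (hKp : (Nat.card K).Coprime p) (T : Subgroup H) (hTK : T ≤ K)
    (y : H) (j : ℕ) (hy : y ^ p ^ j = 1) (hTy : ∀ t ∈ T, y * t * y⁻¹ ∈ T)
    (L : Subgroup H) (hL : L ≠ ⊤) (hTL : T ≤ L) (hyL : y ∈ L) :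
    ∀ t ∈ T, y * t = t * y := by
  obtain ⟨U, hUL, hUp, hUn, hUmax⟩ := exists_Op_of_pclosed p L (hmin L hL)
  have hyU : y ∈ U := by
    have h1 : Subgroup.zpowers y ≤ L := by
      rw [Subgroup.zpowers_le]; exact hyL
    have h2 : IsPGroup p (Subgroup.zpowers y) := by
      apply IsPGroup.of_card (n := (Nat.card (Subgroup.zpowers y)).factorization p)
      have h3 : Nat.card (Subgroup.zpowers y) ∣ p ^ j := by
        rw [Nat.card_zpowers]; exact orderOf_dvd_of_pow_eq_one hy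
      obtain ⟨i, -, hi⟩ := (Nat.dvd_prime_pow Fact.out).1 h3
      rw [hi, Nat.Prime.factorization_pow Fact.out]
      simp
    exact hUmax _ h1 h2 (Subgroup.mem_zpowers y)
  intro t ht
  have h1 : t * y * t⁻¹ ∈ U := hUn t (hTL ht) y hyU
  have h2 : t * y * t⁻¹ * y⁻¹ ∈ U := U.mul_mem h1 (U.inv_mem hyU)
  have h3 : t * y * t⁻¹ * y⁻¹ ∈ T := by
    have : t * y * t⁻¹ * y⁻¹ = t * (y * t⁻¹ * y⁻¹) := by group
    rw [this]
    exact T.mul_mem ht (hTy _ (T.inv_mem ht))
  obtain ⟨i, hi⟩ := hUp ⟨_, h2⟩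
  have hi' : (t * y * t⁻¹ * y⁻¹) ^ p ^ i = 1 := by
    have := congrArg Subtype.val hi
    simpa using this
  have h4 := eq_one_of_coprime p K hKp _ (hTK h3) i hi'
  have h5 : t * y = y * t := by
    have : t * y = (t * y * t⁻¹ * y⁻¹) * (y * t) := by group
    rw [this, h4, one_mul]
  exact h5.symm

theorem conj_pow_mem (T : Subgroup H) (y : H) (hTy : ∀ t ∈ T, y * t * y⁻¹ ∈ T) (i : ℕ) :
    ∀ t ∈ T, y ^ i * t * (y ^ i)⁻¹ ∈ T := by
  induction i with
  | zero => intro t ht; simpa using ht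
  | succ i ih =>
    intro t ht
    have h1 := hTy _ (ih t ht)
    have : y ^ (i + 1) * t * (y ^ (i + 1))⁻¹ = y * (y ^ i * t * (y ^ i)⁻¹) * y⁻¹ := by
      rw [pow_succ']; group
    rw [this]
    exact h1

theorem exists_pow_eq_inv [Finite H] (y : H) (i : ℕ) : ∃ m : ℕ, y ^ m = (y ^ i)⁻¹ := by
  refine ⟨(orderOf y - 1) * i, ?_⟩
  have hpos : 0 < orderOf y := orderOf_pos y
  have h1 : y ^ (orderOf y - 1) = y⁻¹ := by
    rw [eq_inv_iff_mul_eq_one, ← pow_succ, Nat.sub_add_cancel hpos, pow_orderOf_eq_one]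
  rw [pow_mul, h1, inv_pow]

/-- the product `T⟨y⟩` of a `y`-invariant subgroup with the powers of `y`. -/
def prodSub [Finite H] (T : Subgroup H) (y : H) (hTy : ∀ t ∈ T, y * t * y⁻¹ ∈ T) : Subgroup H where
  carrier := {g | ∃ t ∈ T, ∃ i : ℕ, g = t * y ^ i}
  one_mem' := ⟨1, T.one_mem, 0, by simp⟩
  mul_mem' := by
    rintro _ _ ⟨t, ht, i, rfl⟩ ⟨t', ht', j, rfl⟩
    refine ⟨t * (y ^ i * t' * (y ^ i)⁻¹), T.mul_mem ht (conj_pow_mem T y hTy i t' ht'), i + j, ?_⟩
    rw [pow_add]; group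
  inv_mem' := by
    rintro _ ⟨t, ht, i, rfl⟩
    obtain ⟨m, hm⟩ := exists_pow_eq_inv y i
    refine ⟨y ^ m * t⁻¹ * (y ^ m)⁻¹, conj_pow_mem T y hTy m _ (T.inv_mem ht), m, ?_⟩
    rw [mul_inv_rev, ← hm]; group

theorem le_prodSub [Finite H] (T : Subgroup H) (y : H) (hTy : ∀ t ∈ T, y * t * y⁻¹ ∈ T) :
    T ≤ prodSub T y hTy := fun t ht => ⟨t, ht, 0, by simp⟩

theorem mem_prodSub_self [Finite H] (T : Subgroup H) (y : H) (hTy : ∀ t ∈ T, y * t * y⁻¹ ∈ T) :
    y ∈ prodSub T y hTy := ⟨1, T.one_mem, 1, by simp⟩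

theorem prodSub_ne_top [Finite H] (p : ℕ) (K : Subgroup H) (hKp : (Nat.card K).Coprime p)
    (T : Subgroup H) (hTK : T ≤ K) (hne : T ≠ K) (y : H) (j : ℕ) (hy : y ^ p ^ j = 1)
    (hTy : ∀ t ∈ T, y * t * y⁻¹ ∈ T) : prodSub T y hTy ≠ ⊤ := by
  intro htop
  apply hne
  apply le_antisymm hTK
  intro k hk
  have hk' : k ∈ prodSub T y hTy := by rw [htop]; exact Subgroup.mem_top _
  obtain ⟨t, ht, i, hi⟩ := hk'
  have h1 : y ^ i = t⁻¹ * k := by rw [hi]; group
  have h2 : y ^ i ∈ K := by rw [h1]; exact K.mul_mem (K.inv_mem (hTK ht)) hk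
  have h3 : (y ^ i) ^ p ^ j = 1 := by rw [← pow_mul, mul_comm, pow_mul, hy, one_pow]
  have h4 := eq_one_of_coprime p K hKp _ h2 j h3
  rw [hi, h4, mul_one]
  exact ht

/-- if every element of `P` commutes with `K` and `K ⊔ P = ⊤` with `K` normal, `P` is normal. -/
theorem normal_of_commute (K P : Subgroup H) (hKn : K.Normal) (hKP : K ⊔ P = ⊤)
    (hc : ∀ x ∈ P, ∀ k ∈ K, x * k = k * x) : P.Normal := by
  constructor
  intro u hu g
  obtain ⟨k, hk, y, hy, rfl⟩ := Cfsg.Agent.S0890.exists_mul_of_sup_eq_top K P hKn hKP g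
  have h1 : y * u * y⁻¹ ∈ P := P.mul_mem (P.mul_mem hy hu) (P.inv_mem hy)
  have h2 : k * y * u * (k * y)⁻¹ = k * (y * u * y⁻¹) * k⁻¹ := by group
  rw [h2, ← hc _ h1 k hk, mul_assoc, mul_inv_cancel, mul_one]
  exact h1

/-- **Endgame**: a group, all of whose proper subgroups are `p`-closed, which is not `p`-closed
and has a normal `p`-complement, with a faithful character of degree `n ≤ p - 1`. -/
theorem endgame [Finite H] (p : ℕ) [hp : Fact p.Prime]
    (hmin : ∀ L : Subgroup H, L ≠ ⊤ → ∀ Q : Sylow p L, (Q : Subgroup L).Normal)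
    (K : Subgroup H) (hKn : K.Normal) (hKp : (Nat.card K).Coprime p)
    (P : Subgroup H) (hP : IsPGroup p P) (hKP : K ⊔ P = ⊤) (hPn : ¬ P.Normal)
    (χ : H → ℂ) (hχ : IsCharacter H χ) (hfaith : ∀ g, χ g = χ 1 → g = 1) (n : ℕ)
    (hn : χ 1 = n) (hnp : n + 1 ≤ p) :
    n + 1 = p ∧ (∃ b : ℕ, n = 2 ^ b) ∧ IsIrrCharacter H χ := by
  classical
  haveI : Fintype H := Fintype.ofFinite H
  haveI := hKn
  -- 1. an element of P not centralizing K
  have h1 : ∃ x ∈ P, ∃ k ∈ K, x * k ≠ k * x := by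
    by_contra hcon
    push Not at hcon
    exact hPn (normal_of_commute K P hKn hKP hcon)
  obtain ⟨x, hxP, k0, hk0, hxk0⟩ := h1
  obtain ⟨j, hj⟩ := hP ⟨x, hxP⟩
  have hxj : x ^ p ^ j = 1 := by
    have := congrArg Subtype.val hj
    simpa using this
  have hKinv : ∀ y : H, ∀ t ∈ K, y * t * y⁻¹ ∈ K := fun y t ht => hKn.conj_mem t ht y
  -- 3. K ⊔ zpowers x = ⊤
  have hx_top : K ⊔ Subgroup.zpowers x = ⊤ := by
    by_contra hne
    exact hxk0 (commute_of_proper p hmin K hKp K le_rfl x j hxj (hKinv x) _ hne le_sup_left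
      (le_sup_right (a := K) (Subgroup.mem_zpowers x)) k0 hk0)
  -- 4. x^p centralizes K
  have hxp : ∀ k ∈ K, x ^ p * k = k * x ^ p := by
    have hxpj : (x ^ p) ^ p ^ j = 1 := by rw [← pow_mul, mul_comm, pow_mul, hxj, one_pow]
    apply commute_of_proper p hmin K hKp K le_rfl (x ^ p) j hxpj (hKinv _)
      (K ⊔ Subgroup.zpowers (x ^ p)) _ le_sup_left
      (le_sup_right (a := K) (Subgroup.mem_zpowers _))
    intro htop
    obtain ⟨k, hk, h, hh, hxkh⟩ :=
      Cfsg.Agent.S0890.exists_mul_of_sup_eq_top K _ hKn htop x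
    obtain ⟨i, rfl⟩ := Subgroup.mem_zpowers_iff.1 hh
    -- k = x * ((x^p)^i)⁻¹ is a power of x in K
    have hk1 : k = x ^ (1 - (p : ℤ) * i) := by
      have : k = x * ((x ^ p) ^ i)⁻¹ := eq_mul_inv_of_mul_eq hxkh.symm
      rw [this, ← zpow_natCast x p, ← zpow_mul, ← zpow_neg, sub_eq_add_neg, zpow_add, zpow_one]
    have hk2 : k ^ p ^ j = 1 := by
      rw [hk1, ← zpow_natCast, ← zpow_mul, mul_comm, zpow_mul, zpow_natCast, hxj, one_zpow]
    have hk3 := eq_one_of_coprime p K hKp k hk j hk2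
    rw [hk3] at hk1
    have h2 : (orderOf x : ℤ) ∣ 1 - (p : ℤ) * i := orderOf_dvd_iff_zpow_eq_one.2 hk1.symm
    have h3 : orderOf x ∣ p ^ j := orderOf_dvd_of_pow_eq_one hxj
    obtain ⟨a, -, ha⟩ := (Nat.dvd_prime_pow hp.out).1 h3
    have hx1 : x = 1 := by
      rcases Nat.eq_zero_or_pos a with h0 | h0
      · rw [h0, pow_zero] at ha
        exact orderOf_eq_one_iff.1 ha
      · exfalso
        have h4 : (p : ℤ) ∣ (orderOf x : ℤ) := by
          rw [ha]; exact_mod_cast dvd_pow_self p (by omega)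
        have h5 : (p : ℤ) ∣ 1 - (p : ℤ) * i := h4.trans h2
        have h6 : (p : ℤ) ∣ 1 := by
          have := dvd_add h5 (Dvd.intro i rfl : (p : ℤ) ∣ (p : ℤ) * i)
          simpa using this
        have := Int.le_of_dvd one_pos h6
        have := hp.out.two_le
        omega
    apply hxk0
    rw [hx1, one_mul, mul_one]
  -- 5. set-up
  haveI : Fintype K := Fintype.ofFinite K
  set α : MulAut K := MulAut.conjNormal x with hα
  have hαapp : ∀ k : K, ((α k : K) : H) = x * k * x⁻¹ := fun k => MulAut.conjNormal_apply x k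
  have hαp : α ^ p = 1 := by
    rw [hα, ← map_pow]
    ext k
    rw [MulAut.conjNormal_apply, MulAut.one_apply, hxp k k.2]
    group
  have hne : ∃ s, α s ≠ s := by
    refine ⟨⟨k0, hk0⟩, ?_⟩
    intro h
    have := congrArg Subtype.val h
    rw [hαapp] at this
    apply hxk0
    have h2 : x * k0 = x * k0 * x⁻¹ * x := by group
    rw [h2, this]
  have hinv : ∀ T : Subgroup K, T ≠ ⊤ → (∀ t ∈ T, α t ∈ T) → ∀ t ∈ T, α t = t := by
    intro T' hT' hT'inv t ht
    set T := T'.map K.subtype with hT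
    have hTK : T ≤ K := Subgroup.map_subtype_le _
    have hTne : T ≠ K := by
      intro h
      apply hT'
      rw [eq_top_iff]
      intro k _
      have : (k : H) ∈ T := by rw [h]; exact k.2
      obtain ⟨k', hk', hkk⟩ := this
      have : k' = k := Subtype.ext hkk
      rw [← this]; exact hk'
    have hTy : ∀ t ∈ T, x * t * x⁻¹ ∈ T := by
      rintro _ ⟨t', ht', rfl⟩
      exact ⟨α t', hT'inv t' ht', hαapp t'⟩
    have hLne := prodSub_ne_top p K hKp T hTK hTne x j hxj hTy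
    have hcomm := commute_of_proper p hmin K hKp T hTK x j hxj hTy _ hLne
      (le_prodSub T x hTy) (mem_prodSub_self T x hTy) (t : H) ⟨t, ht, rfl⟩
    apply Subtype.ext
    rw [hαapp, hcomm]
    group
  obtain ⟨q, hq, hKq⟩ := isPGroup_of_inv p hKp α hαp hinv hne
  haveI : Fact q.Prime := ⟨hq⟩
  have hpq : p ≠ q := by
    rintro rfl
    obtain ⟨a, ha⟩ := (IsPGroup.iff_card (p := p)).1 hKq
    have h0 : a = 0 := by
      by_contra h0
      have : p ∣ Nat.card K := by rw [ha]; exact dvd_pow_self p h0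
      have := Nat.Coprime.eq_one_of_dvd hKp.symm this
      exact hp.out.one_lt.ne' this
    rw [h0, pow_zero] at ha
    haveI : Subsingleton K := (Nat.card_eq_one_iff_unique.1 ha).1
    obtain ⟨s, hs⟩ := hne
    exact hs (Subsingleton.elim _ _)
  have hΨ : IsCharacter K (fun k : K => χ k) := isCharacter_restrict K hχ
  have hcf := isClassFunction_of_isCharacter hχ
  obtain ⟨h1, h2, h3⟩ := core p q hpq hKq α hαp hinv hne (fun k : K => χ k) hΨ
    (fun s hs => Subtype.ext (hfaith _ hs)) (fun s => by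
      change χ ((α s : K) : H) = χ s
      rw [hαapp]
      exact hcf _ _) n hn hnp
  exact ⟨h1, h2, Cfsg.Agent.S0890.irr_of_res_irr K hχ h3⟩

/-- `p`-subgroups of a group with a faithful character of degree `< p` are abelian. -/
theorem comm_of_faithful_lt [Finite H] (p : ℕ) [hp : Fact p.Prime] (χ : H → ℂ)
    (hχ : IsCharacter H χ) (hfaith : ∀ g, χ g = χ 1 → g = 1) (n : ℕ) (hn : χ 1 = n) (hnp : n < p)
    (P : Subgroup H) (hP : IsPGroup p P) : ∀ a ∈ P, ∀ b ∈ P, a * b = b * a := by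
  obtain ⟨k, ρ, rfl⟩ := hχ
  have hkn : k = n := by
    rw [Representation.char_one, Module.finrank_fin_fun] at hn
    exact_mod_cast hn
  let ρ' : Representation ℂ P (Fin k → ℂ) := ρ.comp P.subtype
  have hinj : Function.Injective ρ' := by
    intro a b hab
    have h1 : ρ (a : H) = ρ (b : H) := hab
    have h2 : ρ ((a : H) * (b : H)⁻¹) = ρ 1 := by
      rw [map_mul, h1, ← map_mul, mul_inv_cancel]
    have h3 : ρ.character ((a : H) * (b : H)⁻¹) = ρ.character 1 := by
      unfold Representation.character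
      rw [h2]
    have h4 := hfaith _ h3
    exact Subtype.ext (mul_inv_eq_one.1 h4)
  have hdeg : ∀ r : ℕ, r.Prime → r ∣ Nat.card P → Module.finrank ℂ (Fin k → ℂ) < r := by
    intro r hr hrd
    obtain ⟨a, ha⟩ := (IsPGroup.iff_card (p := p)).1 hP
    rw [ha] at hrd
    have : r = p := (Nat.prime_dvd_prime_iff_eq hr hp.out).1 (hr.dvd_of_dvd_pow hrd)
    rw [Module.finrank_fin_fun, this, hkn]
    exact hnp
  intro a ha b hb
  have := Cfsg.Agent.S0185.result ρ' hinj hdeg ⟨a, ha⟩ ⟨b, hb⟩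
  exact congrArg Subtype.val this

/-- a Sylow subgroup contained in a proper normal subgroup is normal (when all proper subgroups
are `p`-closed). -/
theorem normal_of_le_normal_proper [Finite H] (p : ℕ) [Fact p.Prime]
    (hmin : ∀ L : Subgroup H, L ≠ ⊤ → ∀ Q : Sylow p L, (Q : Subgroup L).Normal)
    (P : Sylow p H) (M : Subgroup H) (hM : M.Normal) (hMne : M ≠ ⊤)
    (hPM : (P : Subgroup H) ≤ M) : (P : Subgroup H).Normal := by
  obtain ⟨U, hUM, hUp, hUn, hUmax⟩ := exists_Op_of_pclosed p M (hmin M hMne)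
  have hPU : (P : Subgroup H) ≤ U := hUmax _ hPM P.isPGroup'
  have hUP : U = P := P.is_maximal' hUp hPU
  constructor
  intro u hu g
  set A := (P : Subgroup H).map (MulAut.conj g).toMonoidHom with hA
  have hAM : A ≤ M := by
    rintro _ ⟨v, hv, rfl⟩
    exact hM.conj_mem v (hPM hv) g
  have hAp : IsPGroup p A := P.isPGroup'.map _
  have := hUmax A hAM hAp
  rw [hUP] at this
  exact this ⟨u, hu, rfl⟩

end Concrete

end Cfsg.Agent.Lib.Helper15_MinNonPClosed
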