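/-
Helper library (helper15): in `PSL₂(F)`, `F` a field of odd characteristic `p`, every element
`x ≠ 1` with `x ^ p = 1` has a conjugate `y` such that `x * y * x` is an involution.
Also: an element of `SL₂(F)` of square one is `±1` (characteristic not two).
-/
import Mathlib

set_option autoImplicit false

namespace Cfsg.Agent.Lib.Helper15_PSL2Quad

open Matrix

section raw

variable {F : Type*} [Field F]

/-- raw computation, upper right entry nonzero -/
theorem raw_upper (a b : F) (hb : b ≠ 0) :
    (!![a, b; -(a - 1) ^ 2 / b, 2 - a] *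
      (!![1, 0; 1 / b, 1] * !![a, b; -(a - 1) ^ 2 / b, 2 - a] * !![1, 0; -(1 / b), 1]) *
        !![a, b; -(a - 1) ^ 2 / b, 2 - a]) *
    (!![a, b; -(a - 1) ^ 2 / b, 2 - a] *
      (!![1, 0; 1 / b, 1] * !![a, b; -(a - 1) ^ 2 / b, 2 - a] * !![1, 0; -(1 / b), 1]) *
        !![a, b; -(a - 1) ^ 2 / b, 2 - a]) = (-1 : Matrix (Fin 2) (Fin 2) F) := by
  ext i j
  fin_cases i <;> fin_cases j <;>
    simp [Matrix.mul_apply, Fin.sum_univ_two] <;> field_simp <;> ring

/-- raw computation, lower left entry nonzero -/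
theorem raw_lower (a c : F) (hc : c ≠ 0) :
    (!![a, -(a - 1) ^ 2 / c; c, 2 - a] *
      (!![1, 1 / c; 0, 1] * !![a, -(a - 1) ^ 2 / c; c, 2 - a] * !![1, -(1 / c); 0, 1]) *
        !![a, -(a - 1) ^ 2 / c; c, 2 - a]) *
    (!![a, -(a - 1) ^ 2 / c; c, 2 - a] *
      (!![1, 1 / c; 0, 1] * !![a, -(a - 1) ^ 2 / c; c, 2 - a] * !![1, -(1 / c); 0, 1]) *
        !![a, -(a - 1) ^ 2 / c; c, 2 - a]) = (-1 : Matrix (Fin 2) (Fin 2) F) := by
  ext i j
  fin_cases i <;> fin_cases j <;>
    simp [Matrix.mul_apply, Fin.sum_univ_two] <;> field_simp <;> ring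

end raw

section SL

variable {F : Type*} [Field F]

/-- lower unitriangular element of `SL₂` -/
def lo (t : F) : SpecialLinearGroup (Fin 2) F := ⟨!![1, 0; t, 1], by simp [Matrix.det_fin_two]⟩

/-- upper unitriangular element of `SL₂` -/
def up (t : F) : SpecialLinearGroup (Fin 2) F := ⟨!![1, t; 0, 1], by simp [Matrix.det_fin_two]⟩

theorem lo_inv (t : F) : (lo t)⁻¹ = lo (-t) := by
  apply inv_eq_of_mul_eq_one_right
  apply Matrix.SpecialLinearGroup.ext
  intro i j
  rw [Matrix.SpecialLinearGroup.coe_mul, Matrix.SpecialLinearGroup.coe_one]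
  fin_cases i <;> fin_cases j <;> simp [lo, Matrix.mul_apply, Fin.sum_univ_two]

theorem up_inv (t : F) : (up t)⁻¹ = up (-t) := by
  apply inv_eq_of_mul_eq_one_right
  apply Matrix.SpecialLinearGroup.ext
  intro i j
  rw [Matrix.SpecialLinearGroup.coe_mul, Matrix.SpecialLinearGroup.coe_one]
  fin_cases i <;> fin_cases j <;> simp [up, Matrix.mul_apply, Fin.sum_univ_two]

/-- A non-identity element of `SL₂(F)` of trace two has a conjugate `Y` with `(X Y X)² = -1`. -/
theorem exists_conj_sq (X : SpecialLinearGroup (Fin 2) F)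
    (htr : (X : Matrix (Fin 2) (Fin 2) F) 0 0 + (X : Matrix (Fin 2) (Fin 2) F) 1 1 = 2)
    (hX : X ≠ 1) :
    ∃ g : SpecialLinearGroup (Fin 2) F,
      (((X * (g * X * g⁻¹) * X) * (X * (g * X * g⁻¹) * X) : SpecialLinearGroup (Fin 2) F) :
        Matrix (Fin 2) (Fin 2) F) = -1 := by
  set a := (X : Matrix (Fin 2) (Fin 2) F) 0 0 with ha
  set b := (X : Matrix (Fin 2) (Fin 2) F) 0 1 with hb
  set c := (X : Matrix (Fin 2) (Fin 2) F) 1 0 with hc
  set d := (X : Matrix (Fin 2) (Fin 2) F) 1 1 with hd
  have hdet : a * d - b * c = 1 := by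
    have := X.2
    rw [Matrix.det_fin_two] at this
    exact this
  have hd2 : d = 2 - a := by linear_combination htr
  have hXeq : (X : Matrix (Fin 2) (Fin 2) F) = !![a, b; c, d] := by
    ext i j
    fin_cases i <;> fin_cases j <;> rfl
  by_cases hb0 : b = 0
  · by_cases hc0 : c = 0
    · exfalso
      apply hX
      have ha1 : a = 1 := by
        have h : (a - 1) ^ 2 = 0 := by
          rw [hb0, hd2] at hdet
          linear_combination (-1 : F) * hdet
        have := pow_eq_zero_iff (two_ne_zero) |>.1 h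
        linear_combination this
      apply Matrix.SpecialLinearGroup.ext
      intro i j
      rw [Matrix.SpecialLinearGroup.coe_one, hXeq]
      have hd1 : d = 1 := by rw [hd2, ha1]; ring
      fin_cases i <;> fin_cases j <;> simp [hb0, hc0, ha1, hd1]
    · -- use the upper unitriangular conjugator
      have hbc : b = -(a - 1) ^ 2 / c := by
        field_simp
        rw [hd2] at hdet
        linear_combination (-1 : F) * hdet
      refine ⟨up (1 / c), ?_⟩
      rw [up_inv]
      simp only [Matrix.SpecialLinearGroup.coe_mul]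
      rw [hXeq, hd2, hbc]
      exact raw_lower a c hc0
  · have hcb : c = -(a - 1) ^ 2 / b := by
      field_simp
      rw [hd2] at hdet
      linear_combination (-1 : F) * hdet
    refine ⟨lo (1 / b), ?_⟩
    rw [lo_inv]
    simp only [Matrix.SpecialLinearGroup.coe_mul]
    rw [hXeq, hd2, hcb]
    exact raw_upper a b hb0

/-- An element of `SL₂(F)` of square one is a scalar matrix `±1` (characteristic not two):
it commutes with everything. -/
theorem commute_of_sq_eq_one (h2 : (2 : F) ≠ 0) (M : SpecialLinearGroup (Fin 2) F)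
    (hM : M * M = 1) (Y : SpecialLinearGroup (Fin 2) F) : M * Y = Y * M := by
  set a := (M : Matrix (Fin 2) (Fin 2) F) 0 0 with ha
  set b := (M : Matrix (Fin 2) (Fin 2) F) 0 1 with hb
  set c := (M : Matrix (Fin 2) (Fin 2) F) 1 0 with hc
  set d := (M : Matrix (Fin 2) (Fin 2) F) 1 1 with hd
  have hdet : a * d - b * c = 1 := by
    have := M.2
    rw [Matrix.det_fin_two] at this
    exact this
  have hMeq : (M : Matrix (Fin 2) (Fin 2) F) = !![a, b; c, d] := by
    ext i j
    fin_cases i <;> fin_cases j <;> rfl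
  have hsq : (M : Matrix (Fin 2) (Fin 2) F) * (M : Matrix (Fin 2) (Fin 2) F) = 1 := by
    have := congrArg (fun N : SpecialLinearGroup (Fin 2) F => (N : Matrix (Fin 2) (Fin 2) F)) hM
    simpa using this
  rw [hMeq] at hsq
  have e00 : a * a + b * c = 1 := by
    have := congrFun (congrFun hsq 0) 0
    simpa [Matrix.mul_apply, Fin.sum_univ_two] using this
  have e01 : a * b + b * d = 0 := by
    have := congrFun (congrFun hsq 0) 1
    simpa [Matrix.mul_apply, Fin.sum_univ_two] using this
  have e10 : c * a + d * c = 0 := by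
    have := congrFun (congrFun hsq 1) 0
    simpa [Matrix.mul_apply, Fin.sum_univ_two] using this
  have hs : a + d ≠ 0 := by
    intro h
    have hd' : d = -a := by linear_combination h
    rw [hd'] at hdet
    apply h2
    linear_combination (-1 : F) * hdet - e00
  have hb0 : b = 0 := by
    have : b * (a + d) = 0 := by linear_combination e01
    rcases mul_eq_zero.1 this with h | h
    · exact h
    · exact absurd h hs
  have hc0 : c = 0 := by
    have : c * (a + d) = 0 := by linear_combination e10
    rcases mul_eq_zero.1 this with h | h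
    · exact h
    · exact absurd h hs
  have had : a = d := by
    rw [hb0] at hdet e00
    have h1 : a * (a - d) = 0 := by linear_combination e00 - hdet
    rcases mul_eq_zero.1 h1 with h | h
    · exfalso
      rw [h] at e00
      simp at e00
    · linear_combination h
  apply Matrix.SpecialLinearGroup.ext
  intro i j
  rw [Matrix.SpecialLinearGroup.coe_mul, Matrix.SpecialLinearGroup.coe_mul, hMeq, hb0, hc0, ← had]
  fin_cases i <;> fin_cases j <;> simp [Matrix.mul_apply, Fin.sum_univ_two, mul_comm]

end SL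

section PSL

variable {F : Type*} [Field F] {p : ℕ} [Fact p.Prime] [CharP F p]

omit [Fact p.Prime] in
/-- `2 ≠ 0` in odd characteristic. -/
theorem two_ne_zero_of_char (hpp : p.Prime) (hp : p ≠ 2) : (2 : F) ≠ 0 := by
  intro h
  have h' : ((2 : ℕ) : F) = 0 := by exact_mod_cast h
  rw [CharP.cast_eq_zero_iff F p] at h'
  exact hp ((Nat.prime_dvd_prime_iff_eq hpp Nat.prime_two).1 h')

/-- A `p`-element of `SL(2, F)` in characteristic `p` has trace `2`. -/
theorem trace_eq_two (M : SpecialLinearGroup (Fin 2) F) (h : M ^ p = 1) :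
    (M : Matrix (Fin 2) (Fin 2) F) 0 0 + (M : Matrix (Fin 2) (Fin 2) F) 1 1 = 2 := by
  set A : Matrix (Fin 2) (Fin 2) F := (M : Matrix (Fin 2) (Fin 2) F) with hA
  have h1 : A ^ p = 1 := by
    have := congrArg (fun N : SpecialLinearGroup (Fin 2) F => (N : Matrix (Fin 2) (Fin 2) F)) h
    simpa using this
  have : CharP (Matrix (Fin 2) (Fin 2) F) p := Matrix.charP p
  have h2 : (A - 1) ^ p = 0 := by
    rw [sub_pow_char_of_commute p (Commute.one_right A), h1, one_pow, sub_self]
  have h3 : IsNilpotent (A - 1) := ⟨_, h2⟩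
  have h4 : IsNilpotent (A - 1).trace := Matrix.isNilpotent_trace_of_isNilpotent h3
  have h5 : (A - 1).trace = 0 := h4.eq_zero
  rw [Matrix.trace_sub, Matrix.trace_one, sub_eq_zero, Matrix.trace_fin_two] at h5
  rw [h5]
  simp

/-- In `PSL₂(F)` (odd characteristic `p`): a non-identity element `x` with `x ^ p = 1` has a
conjugate `y` such that `x * y * x` is an involution. -/
theorem exists_conj_involution (hp : p ≠ 2)
    (x : Matrix.ProjectiveSpecialLinearGroup (Fin 2) F) (hx1 : x ≠ 1) (hxp : x ^ p = 1) :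
    ∃ g : Matrix.ProjectiveSpecialLinearGroup (Fin 2) F,
      (x * (g * x * g⁻¹) * x) * (x * (g * x * g⁻¹) * x) = 1 ∧ x * (g * x * g⁻¹) * x ≠ 1 := by
  have hpp : p.Prime := Fact.out
  have hodd : Odd p := hpp.odd_of_ne_two hp
  have h2 : (2 : F) ≠ 0 := by
    intro h
    have h' : ((2 : ℕ) : F) = 0 := by exact_mod_cast h
    rw [CharP.cast_eq_zero_iff F p] at h'
    exact hp ((Nat.prime_dvd_prime_iff_eq hpp Nat.prime_two).1 h')
  have hneg : (-1 : F) ≠ 1 := by
    intro h
    apply h2
    linear_combination (-1 : F) * h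
  obtain ⟨X₀, rfl⟩ := QuotientGroup.mk_surjective x
  -- adjust the sign of the lift
  have hX0 : X₀ ^ p ∈ Subgroup.center (SpecialLinearGroup (Fin 2) F) := by
    rw [← QuotientGroup.eq_one_iff, QuotientGroup.mk_pow]
    exact hxp
  obtain ⟨X, hXmk, hXp⟩ : ∃ X : SpecialLinearGroup (Fin 2) F,
      (QuotientGroup.mk X : Matrix.ProjectiveSpecialLinearGroup (Fin 2) F) = QuotientGroup.mk X₀ ∧
        X ^ p = 1 := by
    rw [Matrix.SpecialLinearGroup.mem_center_iff] at hX0
    obtain ⟨r, hr, hrX⟩ := hX0
    have hr2 : r = 1 ∨ r = -1 := by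
      have : (r - 1) * (r + 1) = 0 := by
        simp only [Fintype.card_fin] at hr
        linear_combination hr
      rcases mul_eq_zero.1 this with h | h
      · left; linear_combination h
      · right; linear_combination h
    rcases hr2 with h | h
    · refine ⟨X₀, rfl, ?_⟩
      apply Matrix.SpecialLinearGroup.ext
      intro i j
      rw [← hrX, h]
      simp
    · refine ⟨-X₀, ?_, ?_⟩
      · rw [QuotientGroup.eq]
        rw [Matrix.SpecialLinearGroup.mem_center_iff]
        refine ⟨-1, by simp, ?_⟩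
        have : (-X₀)⁻¹ * X₀ = -1 := by
          rw [inv_mul_eq_iff_eq_mul]
          simp
        rw [this, map_neg, map_one, Matrix.SpecialLinearGroup.coe_neg,
          Matrix.SpecialLinearGroup.coe_one]
      · rw [hodd.neg_pow]
        apply Matrix.SpecialLinearGroup.ext
        intro i j
        rw [Matrix.SpecialLinearGroup.coe_neg, ← hrX, h, map_neg, map_one, neg_neg,
          Matrix.SpecialLinearGroup.coe_one]
  have hXne : X ≠ 1 := by
    intro h
    apply hx1
    rw [← hXmk, h]
    rfl
  have htr := trace_eq_two X hXp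
  obtain ⟨g, hg⟩ := exists_conj_sq X htr hXne
  set Z : SpecialLinearGroup (Fin 2) F := X * (g * X * g⁻¹) * X with hZ
  have hZZ : Z * Z = -1 := by
    apply Matrix.SpecialLinearGroup.ext
    intro i j
    rw [hg, Matrix.SpecialLinearGroup.coe_neg, Matrix.SpecialLinearGroup.coe_one]
  refine ⟨QuotientGroup.mk g, ?_, ?_⟩
  · rw [← hXmk]
    have : ((QuotientGroup.mk X : Matrix.ProjectiveSpecialLinearGroup (Fin 2) F) *
        (QuotientGroup.mk g * QuotientGroup.mk X * (QuotientGroup.mk g)⁻¹) * QuotientGroup.mk X) =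
        QuotientGroup.mk Z := rfl
    rw [this, ← QuotientGroup.mk_mul, hZZ, QuotientGroup.eq_one_iff,
      Matrix.SpecialLinearGroup.mem_center_iff]
    refine ⟨-1, by simp, ?_⟩
    rw [map_neg, map_one, Matrix.SpecialLinearGroup.coe_neg, Matrix.SpecialLinearGroup.coe_one]
  · rw [← hXmk]
    have : ((QuotientGroup.mk X : Matrix.ProjectiveSpecialLinearGroup (Fin 2) F) *
        (QuotientGroup.mk g * QuotientGroup.mk X * (QuotientGroup.mk g)⁻¹) * QuotientGroup.mk X) =
        QuotientGroup.mk Z := rfl
    rw [this]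
    intro h
    rw [QuotientGroup.eq_one_iff, Matrix.SpecialLinearGroup.mem_center_iff] at h
    obtain ⟨r, hr, hrZ⟩ := h
    have hr2 : r * r = 1 := by
      simp only [Fintype.card_fin] at hr
      linear_combination hr
    have h00 : ((Z * Z : SpecialLinearGroup (Fin 2) F) : Matrix (Fin 2) (Fin 2) F) 0 0 = r * r := by
      rw [Matrix.SpecialLinearGroup.coe_mul, ← hrZ]
      simp [Matrix.mul_apply, Matrix.scalar_apply, Matrix.diagonal_apply]
    rw [hZZ, hr2, Matrix.SpecialLinearGroup.coe_neg, Matrix.SpecialLinearGroup.coe_one] at h00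
    apply hneg
    simpa using h00

end PSL

end Cfsg.Agent.Lib.Helper15_PSL2Quad
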