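import Mathlib
import Cfsg.Agent.Lib.Helper51_Offender

/-!
# Rank-one pushing up (S2768, S2769, S2770): definitions (helper15)

Everything lives inside one ambient group `Γ`; the groups of the theory are subgroups of `Γ`.
Paper proof: `pending/helper15/S2768_proof.md`.
-/

set_option autoImplicit false

namespace Cfsg.Agent.Lib.Helper15_PUDefs

open Cfsg.Agent.Lib.Helper51_Offender

variable {Γ : Type*} [Group Γ]

/-- The conjugate `g H g⁻¹`. -/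
def cj (g : Γ) (H : Subgroup Γ) : Subgroup Γ := H.map (MulAut.conj g).toMonoidHom

/-- `C_H(X) = H ⊓ C(X)`; this is `Helper51_Offender.CV`. -/
abbrev cz (H X : Subgroup Γ) : Subgroup Γ := CV H X

/-- The centre of the subgroup `P`, as a subgroup of `Γ`. -/
def ZZ (P : Subgroup Γ) : Subgroup Γ := cz P P

/-- `A` is an abelian subgroup of `P` of largest order. -/
def MaxAb (P A : Subgroup Γ) : Prop :=
  A ≤ P ∧ (∀ x ∈ A, ∀ y ∈ A, x * y = y * x) ∧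
    ∀ D : Subgroup Γ, D ≤ P → (∀ x ∈ D, ∀ y ∈ D, x * y = y * x) → Nat.card D ≤ Nat.card A

/-- The (abelian version) Thompson subgroup `J(P)`. -/
def JJ (P : Subgroup Γ) : Subgroup Γ := sSup {A | MaxAb P A}

/-- `Z(J(P))`. -/
def ZJ (P : Subgroup Γ) : Subgroup Γ := cz (JJ P) (JJ P)

/-- The Baumann subgroup `C_P(Z(J(P)))`. -/
def BB (P : Subgroup Γ) : Subgroup Γ := cz P (ZJ P)

/-- The normal closure of `X` under `G`: generated by the conjugates `g X g⁻¹`, `g ∈ G`. -/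
def ncl (G X : Subgroup Γ) : Subgroup Γ := ⨆ g : G, cj (g : Γ) X

/-- The abstract rank-one setting: `S` Sylow in `G`, `Q = O_p(G)`, `M` the unique maximal subgroup
over `S`, `S/Q` elementary abelian of order `q`, and the `PSL₂(q)`-like properties. -/
structure EGrp (p q : ℕ) (G S Q M : Subgroup Γ) : Prop where
  hSG : S ≤ G
  hSp : IsPGroup p S
  hSyl : ∀ P : Subgroup Γ, P ≤ G → IsPGroup p P → ∃ g ∈ G, P ≤ cj g S
  hQS : Q ≤ S
  hQn : G ≤ Subgroup.normalizer (Q : Set Γ)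
  hCQ : cz G Q ≤ Q
  hSM : S ≤ M
  hMG : M ≤ G
  hMne : M ≠ G
  hMmax : ∀ H : Subgroup Γ, S ≤ H → H ≤ G → H ≠ G → H ≤ M
  hq : Q.relIndex S = q
  hab : ⁅S, S⁆ ≤ Q
  hexp : ∀ s ∈ S, s ^ p ∈ Q
  hgen : ∀ g ∈ G, g ∉ M → S ⊔ cj g S = G
  hti : ∀ g ∈ G, g ∉ M → S ⊓ cj g M ≤ Q
  hirr : ∀ R : Subgroup Γ, Q ≤ R → R ≤ S → (∀ h ∈ G, cj h S = S → cj h R = R) → R = Q ∨ R = S
  hcnt : q + 1 ≤ M.relIndex G

/-- Hypotheses of the FF-structure theorem for a normal abelian subgroup `V ≤ Z(Q)`. -/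
structure FFHyp (G S Q V : Subgroup Γ) : Prop where
  hVQ : V ≤ Q
  hVc : V ≤ Subgroup.centralizer (Q : Set Γ)
  hVn : G ≤ Subgroup.normalizer (V : Set Γ)
  hgenV : ∀ Y : Subgroup Γ, cz V S ≤ Y → G ≤ Subgroup.normalizer (Y : Set Γ) → V ≤ Y
  hne : ¬ cz V S ≤ cz V G
  hA : ∃ A, MaxAb S A ∧ ¬ A ≤ Q

/-- The abstract properties of `PSL₂(q)`, `q` a power of `p`, used in the bridge. -/
structure RankOne (p q : ℕ) (H : Type*) [Group H] : Prop where
  hcard : ∀ U : Sylow p H, Nat.card U = q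
  hcomm : ∀ U : Sylow p H, ∀ x ∈ U, ∀ y ∈ U, x * y = y * x
  hexp : ∀ U : Sylow p H, ∀ x ∈ U, x ^ p = 1
  hti : ∀ U : Sylow p H, ∀ g : H, (U : Subgroup H) ⊓ cj g U = ⊥ ∨ cj g (U : Subgroup H) = U
  hgen : ∀ U : Sylow p H, ∀ g : H, cj g (U : Subgroup H) ≠ U → (U : Subgroup H) ⊔ cj g U = ⊤
  hcnt : ∀ U : Sylow p H, (Subgroup.normalizer ((U : Subgroup H) : Set H)).index = q + 1
  hirr : ∀ U : Sylow p H, ∀ R : Subgroup H, R ≤ U →
    (∀ h ∈ Subgroup.normalizer ((U : Subgroup H) : Set H), cj h R = R) → R = ⊥ ∨ R = U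

end Cfsg.Agent.Lib.Helper15_PUDefs
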