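import Mathlib
import Cfsg.Agent.Lib.Helper15_PUDefs

/-!
# Rank-one pushing up: basic calculus of conjugates, centralizers, `MaxAb`, `JJ`, `ncl` (helper15)
-/

set_option autoImplicit false

namespace Cfsg.Agent.Lib.Helper15_PUBasic

open Cfsg.Agent.Lib.Helper51_Offender Cfsg.Agent.Lib.Helper15_PUDefs

variable {Γ : Type*} [Group Γ]

theorem mem_cj {g x : Γ} {H : Subgroup Γ} : x ∈ cj g H ↔ g⁻¹ * x * g ∈ H := by
  unfold cj
  constructor
  · rintro ⟨y, hy, rfl⟩
    simpa [MulAut.conj_apply, mul_assoc] using hy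
  · intro h
    exact ⟨g⁻¹ * x * g, h, by simp [MulAut.conj_apply, mul_assoc]⟩

theorem conj_mem_cj {g x : Γ} {H : Subgroup Γ} (hx : x ∈ H) : g * x * g⁻¹ ∈ cj g H := by
  rw [mem_cj]; simpa [mul_assoc] using hx

@[simp] theorem cj_one (H : Subgroup Γ) : cj 1 H = H := by
  ext x; simp [mem_cj]

theorem cj_mul (g h : Γ) (H : Subgroup Γ) : cj (g * h) H = cj g (cj h H) := by
  ext x; simp [mem_cj, mul_assoc]

@[simp] theorem cj_inv_cj (g : Γ) (H : Subgroup Γ) : cj g⁻¹ (cj g H) = H := by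
  rw [← cj_mul]; simp

@[simp] theorem cj_cj_inv (g : Γ) (H : Subgroup Γ) : cj g (cj g⁻¹ H) = H := by
  rw [← cj_mul]; simp

theorem cj_mono (g : Γ) {H K : Subgroup Γ} (h : H ≤ K) : cj g H ≤ cj g K :=
  Subgroup.map_mono h

theorem cj_le_iff {g : Γ} {H K : Subgroup Γ} : cj g H ≤ K ↔ H ≤ cj g⁻¹ K := by
  constructor
  · intro h; have := cj_mono g⁻¹ h; rwa [cj_inv_cj] at this
  · intro h; have := cj_mono g h; rwa [cj_cj_inv] at this

theorem cj_le_cj_iff {g : Γ} {H K : Subgroup Γ} : cj g H ≤ cj g K ↔ H ≤ K := by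
  rw [cj_le_iff, cj_inv_cj]

theorem cj_injective (g : Γ) : Function.Injective (cj g : Subgroup Γ → Subgroup Γ) := by
  intro H K h
  have := congrArg (cj g⁻¹) h
  simpa using this

theorem cj_inf (g : Γ) (H K : Subgroup Γ) : cj g (H ⊓ K) = cj g H ⊓ cj g K := by
  ext x; simp [mem_cj]

theorem cj_sup (g : Γ) (H K : Subgroup Γ) : cj g (H ⊔ K) = cj g H ⊔ cj g K :=
  Subgroup.map_sup H K _

@[simp] theorem cj_bot (g : Γ) : cj g (⊥ : Subgroup Γ) = ⊥ := Subgroup.map_bot _

@[simp] theorem cj_top (g : Γ) : cj g (⊤ : Subgroup Γ) = ⊤ := by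
  ext x; simp [mem_cj]

theorem card_cj (g : Γ) (H : Subgroup Γ) : Nat.card (cj g H) = Nat.card H :=
  Subgroup.card_map_of_injective (MulAut.conj g).injective

theorem cj_centralizer (g : Γ) (H : Subgroup Γ) :
    cj g (Subgroup.centralizer (H : Set Γ)) = Subgroup.centralizer ((cj g H : Subgroup Γ) : Set Γ) := by
  ext x
  rw [mem_cj, Subgroup.mem_centralizer_iff, Subgroup.mem_centralizer_iff]
  constructor
  · intro h y hy
    have hy' := mem_cj.mp hy
    have := h _ hy'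
    have e : y * x = g * ((g⁻¹ * y * g) * (g⁻¹ * x * g)) * g⁻¹ := by group
    have e' : x * y = g * ((g⁻¹ * x * g) * (g⁻¹ * y * g)) * g⁻¹ := by group
    rw [e, e', this]
  · intro h y hy
    have := h _ (conj_mem_cj (g := g) hy)
    have e : y * (g⁻¹ * x * g) = g⁻¹ * ((g * y * g⁻¹) * x) * g := by group
    have e' : g⁻¹ * x * g * y = g⁻¹ * (x * (g * y * g⁻¹)) * g := by group
    rw [e, e', this]

theorem cj_cz (g : Γ) (H X : Subgroup Γ) : cj g (cz H X) = cz (cj g H) (cj g X) := by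
  show cj g (H ⊓ _) = cj g H ⊓ _
  rw [cj_inf, cj_centralizer]

theorem cj_ZZ (g : Γ) (P : Subgroup Γ) : cj g (ZZ P) = ZZ (cj g P) := cj_cz g P P

theorem cj_commutator (g : Γ) (H K : Subgroup Γ) : cj g ⁅H, K⁆ = ⁅cj g H, cj g K⁆ :=
  Subgroup.map_commutator H K _

theorem isPGroup_cj {p : ℕ} {g : Γ} {H : Subgroup Γ} (h : IsPGroup p H) : IsPGroup p (cj g H) :=
  h.map _

theorem mem_normalizer_iff_cj {g : Γ} {H : Subgroup Γ} :
    g ∈ Subgroup.normalizer (H : Set Γ) ↔ cj g H = H := by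
  constructor
  · intro hg
    ext x
    rw [mem_cj]
    have := Subgroup.mem_normalizer_iff.mp (Subgroup.inv_mem _ hg) x
    simpa using this.symm
  · intro h
    rw [Subgroup.mem_normalizer_iff]
    intro x
    constructor
    · intro hx; rw [← h]; exact conj_mem_cj hx
    · intro hx
      have : g * x * g⁻¹ ∈ cj g H := by rw [h]; exact hx
      have := mem_cj.mp this
      simpa [mul_assoc] using this

theorem cj_eq_of_mem {g : Γ} {H : Subgroup Γ} (hg : g ∈ H) : cj g H = H :=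
  mem_normalizer_iff_cj.mp (Subgroup.le_normalizer hg)

theorem le_normalizer_iff_cj {G H : Subgroup Γ} :
    G ≤ Subgroup.normalizer (H : Set Γ) ↔ ∀ g ∈ G, cj g H = H :=
  ⟨fun h g hg => mem_normalizer_iff_cj.mp (h hg), fun h g hg => mem_normalizer_iff_cj.mpr (h g hg)⟩

theorem cj_le_of_le_normalizer {G H : Subgroup Γ} (h : G ≤ Subgroup.normalizer (H : Set Γ))
    {g : Γ} (hg : g ∈ G) : cj g H = H := le_normalizer_iff_cj.mp h g hg

theorem relIndex_cj (g : Γ) (H K : Subgroup Γ) : (cj g H).relIndex (cj g K) = H.relIndex K := by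
  unfold cj
  exact Subgroup.relIndex_map_map_of_injective H K (MulAut.conj g).injective

theorem cj_zpowers (g x : Γ) : cj g (Subgroup.zpowers x) = Subgroup.zpowers (g * x * g⁻¹) := by
  unfold cj
  rw [MonoidHom.map_zpowers]
  rfl

theorem maxAb_cj {P A : Subgroup Γ} (h : MaxAb P A) (g : Γ) : MaxAb (cj g P) (cj g A) := by
  obtain ⟨h1, h2, h3⟩ := h
  refine ⟨cj_mono g h1, ?_, ?_⟩
  · intro x hx y hy
    have := h2 _ (mem_cj.mp hx) _ (mem_cj.mp hy)
    have e : x * y = g * ((g⁻¹ * x * g) * (g⁻¹ * y * g)) * g⁻¹ := by group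
    have e' : y * x = g * ((g⁻¹ * y * g) * (g⁻¹ * x * g)) * g⁻¹ := by group
    rw [e, e', this]
  · intro D hD hDc
    have hD' : cj g⁻¹ D ≤ P := cj_le_iff.mpr (by simpa using hD)
    have hc : ∀ x ∈ cj g⁻¹ D, ∀ y ∈ cj g⁻¹ D, x * y = y * x := by
      intro x hx y hy
      have := hDc _ (mem_cj.mp hx) _ (mem_cj.mp hy)
      simp only [inv_inv] at this
      have e : x * y = g⁻¹ * ((g * x * g⁻¹) * (g * y * g⁻¹)) * g := by group
      have e' : y * x = g⁻¹ * ((g * y * g⁻¹) * (g * x * g⁻¹)) * g := by group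
      rw [e, e', this]
    have := h3 _ hD' hc
    rw [card_cj] at this
    rwa [card_cj]

theorem maxAb_cj_iff {P A : Subgroup Γ} (g : Γ) : MaxAb (cj g P) (cj g A) ↔ MaxAb P A := by
  constructor
  · intro h
    have := maxAb_cj h g⁻¹
    simpa using this
  · intro h; exact maxAb_cj h g

theorem cj_JJ (g : Γ) (P : Subgroup Γ) : cj g (JJ P) = JJ (cj g P) := by
  unfold JJ
  apply le_antisymm
  · rw [cj_le_iff, sSup_le_iff]
    intro A hA
    rw [← cj_le_iff]
    exact le_sSup (maxAb_cj hA g)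
  · rw [sSup_le_iff]
    intro A hA
    have hA' : MaxAb P (cj g⁻¹ A) := by
      have := maxAb_cj hA g⁻¹
      simpa using this
    have : cj g⁻¹ A ≤ sSup {A | MaxAb P A} := le_sSup hA'
    have := cj_mono g this
    simpa using this

theorem cj_ZJ (g : Γ) (P : Subgroup Γ) : cj g (ZJ P) = ZJ (cj g P) := by
  unfold ZJ; rw [cj_cz, cj_JJ]

theorem cj_BB (g : Γ) (P : Subgroup Γ) : cj g (BB P) = BB (cj g P) := by
  unfold BB; rw [cj_cz, cj_ZJ]

theorem mem_cz {H X : Subgroup Γ} {x : Γ} : x ∈ cz H X ↔ x ∈ H ∧ ∀ b ∈ X, b * x = x * b := mem_CV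

theorem cz_le (H X : Subgroup Γ) : cz H X ≤ H := CV_le H X

theorem cz_anti (H : Subgroup Γ) {X Y : Subgroup Γ} (h : X ≤ Y) : cz H Y ≤ cz H X := CV_anti H h

theorem cz_mono {H K : Subgroup Γ} (h : H ≤ K) (X : Subgroup Γ) : cz H X ≤ cz K X :=
  inf_le_inf_right _ h

theorem cz_sup (H X Y : Subgroup Γ) : cz H (X ⊔ Y) = cz H X ⊓ cz H Y := by
  apply le_antisymm
  · exact le_inf (cz_anti H le_sup_left) (cz_anti H le_sup_right)
  · intro x hx
    rw [Subgroup.mem_inf] at hx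
    obtain ⟨h1, h2⟩ := hx
    rw [mem_cz] at h1 h2 ⊢
    refine ⟨h1.1, ?_⟩
    intro b hb
    have hb' : b ∈ Subgroup.centralizer ({x} : Set Γ) → b * x = x * b := by
      intro h
      exact Subgroup.mem_centralizer_singleton_iff.mp h
    apply hb'
    have hle : X ⊔ Y ≤ Subgroup.centralizer ({x} : Set Γ) := by
      apply sup_le
      · intro c hc
        rw [Subgroup.mem_centralizer_singleton_iff]
        exact h1.2 c hc
      · intro c hc
        rw [Subgroup.mem_centralizer_singleton_iff]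
        exact h2.2 c hc
    exact hle hb

theorem JJ_le (P : Subgroup Γ) : JJ P ≤ P := by
  unfold JJ; exact sSup_le fun A hA => hA.1

theorem MaxAb.le_JJ {P A : Subgroup Γ} (h : MaxAb P A) : A ≤ JJ P := le_sSup h

theorem ZJ_le_JJ (P : Subgroup Γ) : ZJ P ≤ JJ P := cz_le _ _

theorem BB_le (P : Subgroup Γ) : BB P ≤ P := cz_le _ _

theorem ZZ_le (P : Subgroup Γ) : ZZ P ≤ P := cz_le _ _

theorem le_ncl (G X : Subgroup Γ) : X ≤ ncl G X := by
  unfold ncl
  have := le_iSup (fun g : G => cj (g : Γ) X) 1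
  simpa using this

theorem cj_le_ncl {G X : Subgroup Γ} {g : Γ} (hg : g ∈ G) : cj g X ≤ ncl G X := by
  unfold ncl
  exact le_iSup (fun g : G => cj (g : Γ) X) ⟨g, hg⟩

theorem ncl_le {G X Y : Subgroup Γ} (hX : X ≤ Y) (hY : G ≤ Subgroup.normalizer (Y : Set Γ)) :
    ncl G X ≤ Y := by
  unfold ncl
  apply iSup_le
  intro g
  have := cj_mono (g : Γ) hX
  rwa [cj_le_of_le_normalizer hY g.2] at this

theorem cj_ncl {G X : Subgroup Γ} {h : Γ} (hh : h ∈ G) : cj h (ncl G X) = ncl G X := by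
  have key : ∀ k ∈ G, cj k (ncl G X) ≤ ncl G X := by
    intro k hk
    unfold ncl cj
    rw [Subgroup.map_iSup]
    apply iSup_le
    intro g
    have : cj (k * g) X ≤ ncl G X := cj_le_ncl (G.mul_mem hk g.2)
    rw [cj_mul] at this
    exact this
  apply le_antisymm (key h hh)
  have := key h⁻¹ (G.inv_mem hh)
  rwa [cj_le_iff, inv_inv] at this

theorem normalizer_ncl (G X : Subgroup Γ) : G ≤ Subgroup.normalizer ((ncl G X : Subgroup Γ) : Set Γ) :=
  le_normalizer_iff_cj.mpr fun _ hh => cj_ncl hh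

theorem ncl_le_of_le {G X : Subgroup Γ} (hX : X ≤ G) : ncl G X ≤ G :=
  ncl_le hX Subgroup.le_normalizer

theorem ncl_top_eq (X : Subgroup Γ) : ncl ⊤ X = Subgroup.normalClosure (X : Set Γ) := by
  apply le_antisymm
  · apply ncl_le Subgroup.le_normalClosure
    intro g _
    have hn : (Subgroup.normalClosure (X : Set Γ)).Normal := Subgroup.normalClosure_normal
    rw [Subgroup.normalizer_eq_top_iff.mpr hn]
    exact Subgroup.mem_top g
  · have hn : (ncl ⊤ X).Normal := by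
      rw [← Subgroup.normalizer_eq_top_iff]
      exact top_le_iff.mp (normalizer_ncl ⊤ X)
    exact Subgroup.normalClosure_le_normal (le_ncl ⊤ X)

end Cfsg.Agent.Lib.Helper15_PUBasic
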