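import Mathlib
import Cfsg.Agent.Lib.Helper37_SL2Bruhat

/-!
# Rank-one pushing up: the unitriangular and Borel subgroups of `SL₂(F)` (helper15)
-/

set_option autoImplicit false

namespace Cfsg.Agent.Lib.Helper15_PUPSLDefs

open Matrix Cfsg.Agent.Lib.Helper37_SL2Bruhat

/-- The upper unitriangular subgroup `{up t}` of `SL₂(F)`. -/
def UP (F : Type*) [Field F] : Subgroup (SpecialLinearGroup (Fin 2) F) where
  carrier := {g | ∃ t : F, g = up t}
  one_mem' := ⟨0, up_zero.symm⟩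
  mul_mem' := by rintro _ _ ⟨s, rfl⟩ ⟨t, rfl⟩; exact ⟨s + t, (up_add s t).symm⟩
  inv_mem' := by rintro _ ⟨s, rfl⟩; exact ⟨-s, up_inv s⟩

theorem mem_UP {F : Type*} [Field F] {g : SpecialLinearGroup (Fin 2) F} :
    g ∈ UP F ↔ ∃ t : F, g = up t := Iff.rfl

/-- The Borel subgroup `{g | g 1 0 = 0}` of `SL₂(F)`. -/
def BO (F : Type*) [Field F] : Subgroup (SpecialLinearGroup (Fin 2) F) where
  carrier := {g | g.1 1 0 = 0}
  one_mem' := by
    show (1 : SpecialLinearGroup (Fin 2) F).1 1 0 = 0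
    simp
  mul_mem' := by
    intro a b ha hb
    have ha' : a.1 1 0 = 0 := ha
    have hb' : b.1 1 0 = 0 := hb
    show (a * b).1 1 0 = 0
    have := Matrix.SpecialLinearGroup.coe_mul a b
    rw [this, Matrix.mul_apply, Fin.sum_univ_two, ha', hb']; simp
  inv_mem' := by
    intro a ha
    have ha' : a.1 1 0 = 0 := ha
    show (a⁻¹).1 1 0 = 0
    have := Matrix.SpecialLinearGroup.coe_inv a
    rw [this, Matrix.adjugate_fin_two]; simp [ha']

theorem mem_BO {F : Type*} [Field F] {g : SpecialLinearGroup (Fin 2) F} :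
    g ∈ BO F ↔ (g : Matrix (Fin 2) (Fin 2) F) 1 0 = 0 := Iff.rfl

end Cfsg.Agent.Lib.Helper15_PUPSLDefs
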