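import Mathlib
import Cfsg.Prelude.Def_Characters
import Cfsg.Agent.S0188
import Cfsg.Agent.Lib.Helper75_Clifford
import Cfsg.Agent.Lib.Helper15_QuasiElem

/-!
# Characters of finite direct powers / products `ι → M` (helper15)

* `exists_pi_of_isIrr`: every irreducible character of `ι → M` is `f ↦ ∏ i, φ i (f i)` with
  `φ i ∈ Irr M`.
* `indFun_pi`: induction from `Subgroup.pi univ H` of a product function is the product of the
  induced functions.
* `IsMGroup`, `isMGroup_of_mulEquiv`, `isMGroup_pi`.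
-/

set_option autoImplicit false
set_option linter.unusedSectionVars false

namespace Cfsg.Agent.Lib.Helper15_PiChar

open Cfsg Cfsg.Agent.Lib.Helper75_Induced Cfsg.Agent.Lib.Helper75_Clifford
  Cfsg.Agent.Lib.Helper3_CharBridge

universe u v

/-- `M` is an M-group: every irreducible character is induced from a linear character. -/
def IsMGroup (M : Type u) [Group M] [Fintype M] : Prop :=
  ∀ χ : M → ℂ, Cfsg.IsIrrCharacter M χ →
    ∃ (H : Subgroup M) (lam : ↥H →* ℂˣ), χ = Cfsg.indFun H (fun h => ((lam h : ℂˣ) : ℂ))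

section Irr

variable {M : Type u} [Group M] [Finite M]

/-- `(Option α → M) ≃* M × (α → M)`. -/
def optionMulEquiv (α : Type v) : (Option α → M) ≃* M × (α → M) where
  toFun f := (f none, fun a => f (some a))
  invFun p := fun o => Option.elim o p.1 p.2
  left_inv f := by
    funext o
    cases o <;> rfl
  right_inv p := rfl
  map_mul' f g := rfl

theorem exists_pi_of_isIrr (ι : Type v) [Fintype ι] :
    ∀ θ : (ι → M) → ℂ, Cfsg.IsIrrCharacter (ι → M) θ →
      ∃ φ : ι → M → ℂ, (∀ i, Cfsg.IsIrrCharacter M (φ i)) ∧ ∀ f : ι → M, θ f = ∏ i, φ i (f i) := by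
  refine Fintype.induction_empty_option
    (P := fun (α : Type v) [Fintype α] => ∀ θ : (α → M) → ℂ, Cfsg.IsIrrCharacter (α → M) θ →
      ∃ φ : α → M → ℂ, (∀ i, Cfsg.IsIrrCharacter M (φ i)) ∧ ∀ f : α → M, θ f = ∏ i, φ i (f i))
    ?_ ?_ ?_ ι
  · intro α β _ e ih θ hθ
    let _ : Fintype α := Fintype.ofEquiv β e.symm
    set E : (α → M) ≃* (β → M) := MulEquiv.arrowCongr e (MulEquiv.refl M) with hE
    have hθ' : Cfsg.IsIrrCharacter (α → M) (fun h => θ (E h)) := isIrrCharacter_comp_equiv E hθ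
    obtain ⟨φ', hφ', hprod⟩ := ih _ hθ'
    refine ⟨fun b => φ' (e.symm b), fun b => hφ' _, ?_⟩
    intro f
    have h1 : f = E (fun a => f (e a)) := by
      funext b
      simp [hE, MulEquiv.arrowCongr]
    have h2 := hprod (fun a => f (e a))
    rw [← h1] at h2
    rw [h2]
    exact Fintype.prod_equiv e _ _ (fun a => by simp)
  · intro θ hθ
    refine ⟨fun i => PEmpty.elim i, fun i => PEmpty.elim i, ?_⟩
    intro f
    have hcomm : ∀ a b : (PEmpty → M), a * b = b * a := fun a b => Subsingleton.elim _ _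
    have h1 : θ 1 = 1 := Cfsg.Agent.Lib.Helper15_QuasiElem.irr_one_eq_one_of_comm hcomm hθ
    have h2 : f = 1 := Subsingleton.elim _ _
    rw [h2, h1]
    simp
  · intro α _ ih θ hθ
    set E : (Option α → M) ≃* M × (α → M) := optionMulEquiv α with hE
    have hθ' : Cfsg.IsIrrCharacter (M × (α → M)) (fun p => θ (E.symm p)) :=
      isIrrCharacter_comp_equiv E.symm hθ
    obtain ⟨φ₀, ψ, hφ₀, hψ, hθψ⟩ := Cfsg.Agent.S0188.exists_of_isIrr hθ'
    obtain ⟨φ', hφ', hprod⟩ := ih ψ hψ
    refine ⟨fun o => Option.elim o φ₀ φ', ?_, ?_⟩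
    · intro o
      cases o with
      | none => exact hφ₀
      | some a => exact hφ' a
    · intro f
      have h1 := congrFun hθψ (E f)
      simp only [MulEquiv.symm_apply_apply] at h1
      rw [h1, Fintype.prod_option]
      unfold Cfsg.Agent.S0188.prodChar
      simp only [Option.elim]
      rw [hprod]
      rfl

end Irr


section Ind

set_option linter.unusedSectionVars false

variable {M : Type u} [Group M] [Fintype M] {ι : Type v} [Fintype ι]

/-- the product function on `Subgroup.pi univ H`. -/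
def piFun (H : ι → Subgroup M) (lam : ∀ i, ↥(H i) → ℂ) :
    ↥(Subgroup.pi Set.univ H) → ℂ :=
  fun f => ∏ i, lam i ⟨f.1 i, f.2 i (Set.mem_univ i)⟩

theorem extendByZero_piFun (H : ι → Subgroup M) (lam : ∀ i, ↥(H i) → ℂ) (f : ι → M) :
    Cfsg.extendByZero (Subgroup.pi Set.univ H) (piFun H lam) f =
      ∏ i, Cfsg.extendByZero (H i) (lam i) (f i) := by
  by_cases hf : f ∈ Subgroup.pi Set.univ H
  · rw [extendByZero_of_mem _ _ hf]
    unfold piFun
    refine Finset.prod_congr rfl (fun i _ => ?_)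
    rw [extendByZero_of_mem _ _ (hf i (Set.mem_univ i))]
  · rw [extendByZero_of_not_mem _ _ hf]
    have : ∃ i, f i ∉ H i := by
      by_contra hcon
      push Not at hcon
      exact hf (fun i _ => hcon i)
    obtain ⟨i, hi⟩ := this
    symm
    apply Finset.prod_eq_zero (Finset.mem_univ i)
    exact extendByZero_of_not_mem _ _ hi

theorem card_pi_subgroup (H : ι → Subgroup M) :
    Nat.card ↥(Subgroup.pi Set.univ H) = ∏ i, Nat.card ↥(H i) := by
  rw [← Nat.card_pi]
  apply Nat.card_congr
  exact {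
    toFun := fun f i => ⟨f.1 i, f.2 i (Set.mem_univ i)⟩
    invFun := fun g => ⟨fun i => (g i).1, fun i _ => (g i).2⟩
    left_inv := fun f => rfl
    right_inv := fun g => rfl }

theorem indFun_pi [inst : Fintype (ι → M)] (H : ι → Subgroup M) (lam : ∀ i, ↥(H i) → ℂ)
    (g : ι → M) :
    Cfsg.indFun (Subgroup.pi Set.univ H) (piFun H lam) g =
      ∏ i, Cfsg.indFun (H i) (lam i) (g i) := by
  classical
  obtain rfl : inst = Pi.instFintype := Subsingleton.elim _ _
  rw [indFun_apply]
  simp only [indFun_apply]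
  rw [Finset.prod_mul_distrib, Finset.prod_univ_sum, Fintype.piFinset_univ, card_pi_subgroup]
  push_cast
  rw [Finset.prod_inv_distrib]
  congr 1
  refine Finset.sum_congr rfl (fun x _ => ?_)
  rw [extendByZero_piFun]
  rfl

end Ind


section Transport

variable {K : Type u} {L : Type v} [Group K] [Group L] [Fintype K] [Fintype L]

theorem toMonoidHom_injective (E : K ≃* L) : Function.Injective E.toMonoidHom := E.injective

/-- `H ≃* H.map E`. -/
noncomputable def mapEquiv (E : K ≃* L) (H : Subgroup K) : ↥H ≃* ↥(H.map E.toMonoidHom) :=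
  H.equivMapOfInjective E.toMonoidHom (toMonoidHom_injective E)

theorem extendByZero_map_equiv (E : K ≃* L) (H : Subgroup K) (μ : ↥H → ℂ) (z : K) :
    Cfsg.extendByZero (H.map E.toMonoidHom)
      (fun x => μ ((mapEquiv E H).symm x)) (E z) =
      Cfsg.extendByZero H μ z := by
  by_cases hz : z ∈ H
  · have hz' : E z ∈ H.map E.toMonoidHom := Subgroup.mem_map_of_mem E.toMonoidHom hz
    rw [extendByZero_of_mem _ _ hz, extendByZero_of_mem _ _ hz']
    congr 1
    rw [MulEquiv.symm_apply_eq]
    apply Subtype.ext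
    rfl
  · have hz' : E z ∉ H.map E.toMonoidHom := by
      rintro ⟨y, hy, hyz⟩
      have : y = z := E.injective hyz
      exact hz (this ▸ hy)
    rw [extendByZero_of_not_mem _ _ hz, extendByZero_of_not_mem _ _ hz']

theorem indFun_map_equiv (E : K ≃* L) (H : Subgroup K) (μ : ↥H → ℂ) (k : K) :
    Cfsg.indFun (H.map E.toMonoidHom)
      (fun x => μ ((mapEquiv E H).symm x)) (E k) =
      Cfsg.indFun H μ k := by
  rw [indFun_apply, indFun_apply,
    Nat.card_congr (mapEquiv E H).symm.toEquiv]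
  congr 1
  symm
  apply Fintype.sum_equiv E.toEquiv
  intro y
  rw [← extendByZero_map_equiv E H μ]
  simp

theorem isMGroup_of_mulEquiv (E : K ≃* L) (hK : IsMGroup K) : IsMGroup L := by
  intro χ hχ
  have h1 : Cfsg.IsIrrCharacter K (fun k => χ (E k)) := isIrrCharacter_comp_equiv E hχ
  obtain ⟨H, lam, hlam⟩ := hK _ h1
  refine ⟨H.map E.toMonoidHom,
    lam.comp (mapEquiv E H).symm.toMonoidHom, ?_⟩
  funext l
  have h2 := congrFun hlam (E.symm l)
  simp only [MulEquiv.apply_symm_apply] at h2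
  rw [h2, ← indFun_map_equiv E H _ (E.symm l), MulEquiv.apply_symm_apply]
  rfl

end Transport

section PiM

set_option linter.unusedSectionVars false

variable {M : Type u} [Group M] [Fintype M] {ι : Type v} [Fintype ι]

/-- projection `Subgroup.pi univ H →* H i`. -/
def projHom (H : ι → Subgroup M) (i : ι) : ↥(Subgroup.pi Set.univ H) →* ↥(H i) where
  toFun f := ⟨f.1 i, f.2 i (Set.mem_univ i)⟩
  map_one' := rfl
  map_mul' _ _ := rfl

/-- product of linear characters on `Subgroup.pi univ H`. -/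
noncomputable def piHom (H : ι → Subgroup M) (lam : ∀ i, ↥(H i) →* ℂˣ) :
    ↥(Subgroup.pi Set.univ H) →* ℂˣ :=
  ∏ i, (lam i).comp (projHom H i)

theorem piHom_apply (H : ι → Subgroup M) (lam : ∀ i, ↥(H i) →* ℂˣ)
    (f : ↥(Subgroup.pi Set.univ H)) :
    ((piHom H lam f : ℂˣ) : ℂ) = piFun H (fun i h => ((lam i h : ℂˣ) : ℂ)) f := by
  unfold piHom piFun
  rw [MonoidHom.finsetProd_apply, Units.coe_prod]
  rfl

theorem isMGroup_pi [Fintype (ι → M)] (hM : IsMGroup M) : IsMGroup (ι → M) := by
  intro θ hθ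
  obtain ⟨φ, hφ, hprod⟩ := exists_pi_of_isIrr ι θ hθ
  choose H lam hlam using fun i => hM (φ i) (hφ i)
  refine ⟨Subgroup.pi Set.univ H, piHom H lam, ?_⟩
  funext f
  rw [hprod f]
  have h1 : (fun h : ↥(Subgroup.pi Set.univ H) => ((piHom H lam h : ℂˣ) : ℂ)) =
      piFun H (fun i h => ((lam i h : ℂˣ) : ℂ)) := funext (piHom_apply H lam)
  rw [h1, indFun_pi]
  refine Finset.prod_congr rfl (fun i _ => ?_)
  rw [hlam i]

end PiM

end Cfsg.Agent.Lib.Helper15_PiChar
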