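import Cfsg.Agent.Lib.Helper36_TwistBN
import Cfsg.Agent.S0319

set_option autoImplicit false

/-!
Simplicity of a twisted group from its `(B, N)`-pair: irreducibility of the pair, the group is not trivial, and the
assembly of the hypotheses of the simplicity criterion.
-/

namespace Cfsg.Agent.Lib.Helper36_TwistSimple

open Cfsg Cfsg.Lie Cfsg.Agent.Lib.Helper36_ChevCoeff Cfsg.Agent.Lib.Helper36_ChevAdd
  Cfsg.Agent.Lib.Helper36_ChevWeyl Cfsg.Agent.Lib.Helper36_ChevGen Cfsg.Agent.Lib.Helper36_ChevTables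
  Cfsg.Agent.Lib.Helper36_ChevTorus Cfsg.Agent.Lib.Helper36_ChevBorel Cfsg.Agent.Lib.Helper36_ChevW0
  Cfsg.Agent.Lib.Helper36_ChevCore Cfsg.Agent.Lib.Helper36_ChevCommU Cfsg.Agent.Lib.Helper36_WeylChain
  Cfsg.Agent.Lib.Helper36_WeylLit Cfsg.Agent.Lib.Helper36_WeylLit.RootLit Cfsg.Agent.Lib.Helper36_ChevOrder
  Cfsg.Agent.Lib.Helper36_TwistU Cfsg.Agent.Lib.Helper36_TwistW Cfsg.Agent.Lib.Helper36_TwistC
  Cfsg.Agent.Lib.Helper36_TwistWeyl Cfsg.Agent.Lib.Helper36_TwistH Cfsg.Agent.Lib.Helper36_ChevHOrder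
  Cfsg.Agent.Lib.Helper36_TwistOrder Cfsg.Agent.Lib.Helper36_TwistBN
  Cfsg.Agent.Lib.Helper18_ChevFast Cfsg.Agent.Lib.Helper18_ChevEngine

/-- A group with a `(B, N)`-pair with at least one distinguished generator is not trivial. -/
theorem nontrivial_of_bnPair {G : Type*} [Group G] (P : Cfsg.BNPair G) (s : G) (hs : s ∈ P.S) : Nontrivial G := by
  by_contra hcon
  rw [not_nontrivial_iff_subsingleton] at hcon
  apply P.conj_ne s hs
  ext x
  have hx : x = 1 := Subsingleton.elim _ _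
  constructor
  · intro _
    rw [hx]
    exact P.B.one_mem
  · intro _
    exact ⟨1, P.B.one_mem, Subsingleton.elim _ _⟩

/-- Two reflections of a table of roots which do not commute at some root. -/
theorem sPerm_ne_comm (L : RootLit) (h : L.WF) (a b : ℕ) (ha : a < L.rank) (hb : b < L.rank) (s : ℕ) (hs : s < L.n)
    (hne : L.r a (L.r b s) ≠ L.r b (L.r a s)) : L.sPerm h a * L.sPerm h b ≠ L.sPerm h b * L.sPerm h a := by
  intro e
  have e1 : (((L.sPerm h a * L.sPerm h b) ⟨s, hs⟩ : Fin L.n) : ℕ) =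
      (((L.sPerm h b * L.sPerm h a) ⟨s, hs⟩ : Fin L.n) : ℕ) := by rw [e]
  rw [Equiv.Perm.mul_apply, Equiv.Perm.mul_apply, L.sPerm_val h a ha, L.sPerm_val h b hb, L.sPerm_val h b hb,
    L.sPerm_val h a ha] at e1
  exact hne e1

/-- The path `0 — 1 — 3 — 2` is connected. -/
theorem conn4 (Pred : ℕ → Prop) (h1 : ∃ a < 4, Pred a) (h2 : ∃ b < 4, ¬ Pred b) :
    ∃ e ∈ [((0 : ℕ), (1 : ℕ)), (1, 3), (3, 2)], (Pred e.1 ∧ ¬ Pred e.2) ∨ (Pred e.2 ∧ ¬ Pred e.1) := by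
  obtain ⟨a, ha, hPa⟩ := h1
  obtain ⟨b, hb, hPb⟩ := h2
  by_cases p0 : Pred 0 <;> by_cases p1 : Pred 1 <;> by_cases p2 : Pred 2 <;> by_cases p3 : Pred 3
  all_goals first
    | exact ⟨(0, 1), by simp, Or.inl ⟨p0, p1⟩⟩
    | exact ⟨(0, 1), by simp, Or.inr ⟨p1, p0⟩⟩
    | exact ⟨(1, 3), by simp, Or.inl ⟨p1, p3⟩⟩
    | exact ⟨(1, 3), by simp, Or.inr ⟨p3, p1⟩⟩
    | exact ⟨(3, 2), by simp, Or.inl ⟨p3, p2⟩⟩
    | exact ⟨(3, 2), by simp, Or.inr ⟨p2, p3⟩⟩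
    | (exfalso; interval_cases b <;> first | exact hPb p0 | exact hPb p1 | exact hPb p2 | exact hPb p3)
    | (exfalso; interval_cases a <;> first | exact p0 hPa | exact p1 hPa | exact p2 hPa | exact p3 hPa)

/-- The path `0 — 1` is connected. -/
theorem conn2 (Pred : ℕ → Prop) (h1 : ∃ a < 2, Pred a) (h2 : ∃ b < 2, ¬ Pred b) :
    ∃ e ∈ [((0 : ℕ), (1 : ℕ))], (Pred e.1 ∧ ¬ Pred e.2) ∨ (Pred e.2 ∧ ¬ Pred e.1) := by
  obtain ⟨a, ha, hPa⟩ := h1
  obtain ⟨b, hb, hPb⟩ := h2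
  by_cases p0 : Pred 0 <;> by_cases p1 : Pred 1
  all_goals first
    | exact ⟨(0, 1), by simp, Or.inl ⟨p0, p1⟩⟩
    | exact ⟨(0, 1), by simp, Or.inr ⟨p1, p0⟩⟩
    | (exfalso; interval_cases b <;> first | exact hPb p0 | exact hPb p1)
    | (exfalso; interval_cases a <;> first | exact p0 hPa | exact p1 hPa)

section

variable {D : ChevalleyDatum} {K : Type*} [Field K] (hf : Facts D K) {L : RootLit}
  {π : Equiv.Perm (Fin L.n)} {W1 : Subgroup (Equiv.Perm (Fin L.n))}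
  {G1 : Subgroup (GL D.Idx K)}
  (hl : LitOK D L) (hchain : ChainOK D) (hx : XInj D K)
  (hBN : D.borelSubgroup K ⊓ D.monomialSubgroup K = D.diagonalSubgroup K)
  {k' : ℕ} {sg : ℕ → GL D.Idx K} {wa : ℕ → Equiv.Perm (Fin L.n)}
  (Y : GenData hf (L := L) (π := π) (W1 := W1) (G1 := G1) k' sg wa)

include hl hchain hx hBN Y in
/-- The commutator of two distinguished elements whose actions do not commute is not in `B`. -/
theorem comm_not_mem (a b : ℕ) (ha : a < k') (hb : b < k') (hne : wa a * wa b ≠ wa b * wa a) :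
    sg a * sg b * (sg a)⁻¹ * (sg b)⁻¹ ∉ D.borelSubgroup K := by
  intro hmem
  have hN : sg a * sg b * (sg a)⁻¹ * (sg b)⁻¹ ∈ D.monomialSubgroup K :=
    Subgroup.mul_mem _ (Subgroup.mul_mem _ (Subgroup.mul_mem _ (Y.sN a ha) (Y.sN b hb))
      (Subgroup.inv_mem _ (Y.sN a ha))) (Subgroup.inv_mem _ (Y.sN b hb))
  have hH : sg a * sg b * (sg a)⁻¹ * (sg b)⁻¹ ∈ D.diagonalSubgroup K := by
    rw [← hBN]
    exact Subgroup.mem_inf.mpr ⟨hmem, hN⟩
  have h1 := actsAs_diag D K hf L hchain hl _ hH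
  have h2 := actsAs_mul D K hf L (actsAs_mul D K hf L (actsAs_mul D K hf L (Y.act a ha) (Y.act b hb))
    (actsAs_inv D K hf L (Y.act a ha))) (actsAs_inv D K hf L (Y.act b hb))
  have h3 := actsAs_unique D K hf L hl hx h2 h1
  apply hne
  calc wa a * wa b = (wa a * wa b * (wa a)⁻¹ * (wa b)⁻¹) * (wa b * wa a) := by group
    _ = wa b * wa a := by rw [h3, one_mul]

include hl hchain hx hBN Y in
/-- The `(B, N)`-pair of the twisted group is irreducible when the diagram of the distinguished generators is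
connected. -/
theorem twisted_irreducible (Q : Cfsg.BNPair ↥G1) (hQB : Q.B = (D.borelSubgroup K ⊓ G1).subgroupOf G1)
    (hQS : Q.S = S1 G1 k' sg) (edges : List (ℕ × ℕ))
    (hedge : ∀ e ∈ edges, e.1 < k' ∧ e.2 < k' ∧ wa e.1 * wa e.2 ≠ wa e.2 * wa e.1)
    (hconn : ∀ Pred : ℕ → Prop, (∃ a < k', Pred a) → (∃ b < k', ¬ Pred b) →
      ∃ e ∈ edges, (Pred e.1 ∧ ¬ Pred e.2) ∨ (Pred e.2 ∧ ¬ Pred e.1)) :
    Q.Irreducible := by
  intro J hJ hJne hcne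
  let Pred : ℕ → Prop := fun a => ∃ x ∈ J, (x : GL D.Idx K) = sg a
  obtain ⟨x0, hx0⟩ := hJne
  obtain ⟨a0, ha0, hxa0⟩ : ∃ a < k', (x0 : GL D.Idx K) = sg a := by
    have := hJ hx0
    rw [hQS] at this
    exact this
  obtain ⟨y0, hy0, hy0'⟩ := hcne
  obtain ⟨b0, hb0, hyb0⟩ : ∃ b < k', (y0 : GL D.Idx K) = sg b := by
    rw [hQS] at hy0
    exact hy0
  have hPa : Pred a0 := ⟨x0, hx0, hxa0⟩
  have hPb : ¬ Pred b0 := by
    rintro ⟨x, hx, hxb⟩
    have : x = y0 := Subtype.ext (hxb.trans hyb0.symm)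
    exact hy0' (this ▸ hx)
  have key : ∀ a b : ℕ, a < k' → b < k' → wa a * wa b ≠ wa b * wa a → Pred a → ¬ Pred b →
      ∃ s ∈ J, ∃ s' ∈ Q.S \ J, s * s' * s⁻¹ * s'⁻¹ ∉ Q.B := by
    rintro a b ha hb hne ⟨x, hxJ, hxa⟩ hPb
    have hbS : (⟨sg b, Y.sG b hb⟩ : ↥G1) ∈ Q.S := by
      rw [hQS]
      exact ⟨b, hb, rfl⟩
    refine ⟨x, hxJ, ⟨sg b, Y.sG b hb⟩, ⟨hbS, fun h => hPb ⟨_, h, rfl⟩⟩, ?_⟩
    rw [hQB, Subgroup.mem_subgroupOf]
    intro hmem
    apply comm_not_mem hf hl hchain hx hBN Y a b ha hb hne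
    have e : ((x * ⟨sg b, Y.sG b hb⟩ * x⁻¹ * (⟨sg b, Y.sG b hb⟩ : ↥G1)⁻¹ : ↥G1) : GL D.Idx K) =
        sg a * sg b * (sg a)⁻¹ * (sg b)⁻¹ := by
      rw [Subgroup.coe_mul, Subgroup.coe_mul, Subgroup.coe_mul, Subgroup.coe_inv, Subgroup.coe_inv, hxa]
    rw [e] at hmem
    exact hmem.1
  obtain ⟨e, he, h | h⟩ := hconn Pred ⟨a0, ha0, hPa⟩ ⟨b0, hb0, hPb⟩
  · obtain ⟨h1, h2, h3⟩ := hedge e he
    exact key e.1 e.2 h1 h2 h3 h.1 h.2
  · obtain ⟨h1, h2, h3⟩ := hedge e he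
    exact key e.2 e.1 h2 h1 (fun h' => h3 h'.symm) h.1 h.2

include hl hchain hx hBN Y in
/-- The assembly: simplicity and non-commutativity from the criterion for `(B, N)`-pairs. -/
theorem twisted_simple (Q : Cfsg.BNPair ↥G1) (hQB : Q.B = (D.borelSubgroup K ⊓ G1).subgroupOf G1)
    (hQS : Q.S = S1 G1 k' sg) (edges : List (ℕ × ℕ))
    (hedge : ∀ e ∈ edges, e.1 < k' ∧ e.2 < k' ∧ wa e.1 * wa e.2 ≠ wa e.2 * wa e.1)
    (hconn : ∀ Pred : ℕ → Prop, (∃ a < k', Pred a) → (∃ b < k', ¬ Pred b) →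
      ∃ e ∈ edges, (Pred e.1 ∧ ¬ Pred e.2) ∨ (Pred e.2 ∧ ¬ Pred e.1))
    (hk : 0 < k')
    (hsolv : Group.IsSolvable ↥(D.borelSubgroup K)) (hperf : commutator ↥G1 = ⊤)
    (hcore : ((D.borelSubgroup K ⊓ G1).subgroupOf G1).normalCore = ⊥) :
    IsSimpleGroup ↥G1 ∧ ¬ IsMulCommutative ↥G1 := by
  have hS0 : (⟨sg 0, Y.sG 0 hk⟩ : ↥G1) ∈ Q.S := by
    rw [hQS]
    exact ⟨0, hk, rfl⟩
  haveI hnt : Nontrivial ↥G1 := nontrivial_of_bnPair Q _ hS0
  have hirr := twisted_irreducible hf hl hchain hx hBN Y Q hQB hQS edges hedge hconn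
  have hsolv' : Group.IsSolvable Q.B := by
    rw [hQB]
    let φ : ↥((D.borelSubgroup K ⊓ G1).subgroupOf G1) →* ↥(D.borelSubgroup K) :=
      { toFun := fun g => ⟨((g : ↥G1) : GL D.Idx K), (Subgroup.mem_subgroupOf.mp g.2).1⟩
        map_one' := rfl
        map_mul' := fun _ _ => rfl }
    have hφ : Function.Injective φ := by
      intro g h e
      apply Subtype.ext
      apply Subtype.ext
      exact congrArg (fun z : ↥(D.borelSubgroup K) => (z : GL D.Idx K)) e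
    exact Group.isSolvable_of_isSolvable_injective (f := φ) hφ
  have hcore' : Q.B.normalCore = ⊥ := by rw [hQB]; exact hcore
  refine ⟨Cfsg.Agent.S0319.result Q hirr hsolv' hperf hcore', ?_⟩
  intro hcomm
  have hbot : commutator ↥G1 = ⊥ := by
    rw [eq_bot_iff]
    unfold commutator
    rw [Subgroup.commutator_le]
    intro g₁ _ g₂ _
    rw [Subgroup.mem_bot, commutatorElement_def, hcomm.is_comm.comm g₁ g₂]
    group
  rw [hbot] at hperf
  exact bot_ne_top hperf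

end

end Cfsg.Agent.Lib.Helper36_TwistSimple
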