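import Cfsg.Agent.Lib.Helper18_ChevTri
import Cfsg.Prelude.Def_ChevE6

set_option autoImplicit false

/-! The height certificate of the datum of type E6 (kernel computation). -/

namespace Cfsg.Agent.Lib.Helper18_ChevGCertE6

open Cfsg Cfsg.Lie Cfsg.Agent.Lib.Helper18_ChevFast Cfsg.Agent.Lib.Helper18_ChevEngine
  Cfsg.Agent.Lib.Helper18_ChevR1 Cfsg.Agent.Lib.Helper18_ChevN Cfsg.Agent.Lib.Helper18_ChevR4
  Cfsg.Agent.Lib.Helper18_ChevSimple Cfsg.Agent.Lib.Helper18_ChevChunk Cfsg.Agent.Lib.Helper18_ChevDiag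
  Cfsg.Agent.Lib.Helper18_ChevH Cfsg.Agent.Lib.Helper18_ChevSimple2 Cfsg.Agent.Lib.Helper18_ChevFacts
  Cfsg.Agent.Lib.Helper18_ChevWeyl Cfsg.Agent.Lib.Helper18_ChevCar
  Cfsg.Agent.Lib.Helper18_ChevTorus Cfsg.Agent.Lib.Helper18_ChevGL
  Cfsg.Agent.Lib.Helper18_MatTri Cfsg.Agent.Lib.Helper18_ChevTri

def w : List ℤ := [8, 11, 15, 21, 15, 8]

set_option maxHeartbeats 0 in
theorem gall_c0 : allRange (gAt chevE6 w 1) (0 * 36) 36 = true := by decide +kernel

set_option maxHeartbeats 0 in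
theorem gall_c1 : allRange (gAt chevE6 w 1) (1 * 36) 36 = true := by decide +kernel

theorem gall : ∀ r < 72, gAt chevE6 w 1 r = true := by
  intro r hr
  refine all_of_chunks _ 36 2 ?_ r (by omega)
  intro k hk
  interval_cases k
  · exact gall_c0
  · exact gall_c1

theorem gcert : GCert chevE6 w 1 where
  d_pos := by decide
  all := gall

end Cfsg.Agent.Lib.Helper18_ChevGCertE6
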