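import Cfsg.Agent.Lib.Helper18_ChevTri
import Cfsg.Prelude.Def_ChevE7

set_option autoImplicit false

/-! The height certificate of the datum of type E7 (kernel computation). -/

namespace Cfsg.Agent.Lib.Helper18_ChevGCertE7

open Cfsg Cfsg.Lie Cfsg.Agent.Lib.Helper18_ChevFast Cfsg.Agent.Lib.Helper18_ChevEngine
  Cfsg.Agent.Lib.Helper18_ChevR1 Cfsg.Agent.Lib.Helper18_ChevN Cfsg.Agent.Lib.Helper18_ChevR4
  Cfsg.Agent.Lib.Helper18_ChevSimple Cfsg.Agent.Lib.Helper18_ChevChunk Cfsg.Agent.Lib.Helper18_ChevDiag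
  Cfsg.Agent.Lib.Helper18_ChevH Cfsg.Agent.Lib.Helper18_ChevSimple2 Cfsg.Agent.Lib.Helper18_ChevFacts
  Cfsg.Agent.Lib.Helper18_ChevWeyl Cfsg.Agent.Lib.Helper18_ChevCar
  Cfsg.Agent.Lib.Helper18_ChevTorus Cfsg.Agent.Lib.Helper18_ChevGL
  Cfsg.Agent.Lib.Helper18_MatTri Cfsg.Agent.Lib.Helper18_ChevTri

def w : List ℤ := [34, 49, 66, 96, 75, 52, 27]

set_option maxHeartbeats 0 in
theorem gall_c0 : allRange (gAt chevE7 w 2) (0 * 21) 21 = true := by decide +kernel

set_option maxHeartbeats 0 in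
theorem gall_c1 : allRange (gAt chevE7 w 2) (1 * 21) 21 = true := by decide +kernel

set_option maxHeartbeats 0 in
theorem gall_c2 : allRange (gAt chevE7 w 2) (2 * 21) 21 = true := by decide +kernel

set_option maxHeartbeats 0 in
theorem gall_c3 : allRange (gAt chevE7 w 2) (3 * 21) 21 = true := by decide +kernel

set_option maxHeartbeats 0 in
theorem gall_c4 : allRange (gAt chevE7 w 2) (4 * 21) 21 = true := by decide +kernel

set_option maxHeartbeats 0 in
theorem gall_c5 : allRange (gAt chevE7 w 2) (5 * 21) 21 = true := by decide +kernel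

theorem gall : ∀ r < 126, gAt chevE7 w 2 r = true := by
  intro r hr
  refine all_of_chunks _ 21 6 ?_ r (by omega)
  intro k hk
  interval_cases k
  · exact gall_c0
  · exact gall_c1
  · exact gall_c2
  · exact gall_c3
  · exact gall_c4
  · exact gall_c5

theorem gcert : GCert chevE7 w 2 where
  d_pos := by decide
  all := gall

end Cfsg.Agent.Lib.Helper18_ChevGCertE7
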