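import Cfsg.Agent.Lib.Helper18_ChevTri
import Cfsg.Prelude.Def_ChevE8

set_option autoImplicit false

/-! The height certificate of the datum of type E8 (kernel computation). -/

namespace Cfsg.Agent.Lib.Helper18_ChevGCertE8

open Cfsg Cfsg.Lie Cfsg.Agent.Lib.Helper18_ChevFast Cfsg.Agent.Lib.Helper18_ChevEngine
  Cfsg.Agent.Lib.Helper18_ChevR1 Cfsg.Agent.Lib.Helper18_ChevN Cfsg.Agent.Lib.Helper18_ChevR4
  Cfsg.Agent.Lib.Helper18_ChevSimple Cfsg.Agent.Lib.Helper18_ChevChunk Cfsg.Agent.Lib.Helper18_ChevDiag
  Cfsg.Agent.Lib.Helper18_ChevH Cfsg.Agent.Lib.Helper18_ChevSimple2 Cfsg.Agent.Lib.Helper18_ChevFacts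
  Cfsg.Agent.Lib.Helper18_ChevWeyl Cfsg.Agent.Lib.Helper18_ChevCar
  Cfsg.Agent.Lib.Helper18_ChevTorus Cfsg.Agent.Lib.Helper18_ChevGL
  Cfsg.Agent.Lib.Helper18_MatTri Cfsg.Agent.Lib.Helper18_ChevTri

def w : List ℤ := [46, 68, 91, 135, 110, 84, 57, 29]

set_option maxHeartbeats 0 in
theorem gall_c0 : allRange (gAt chevE8 w 1) (0 * 15) 15 = true := by decide +kernel

set_option maxHeartbeats 0 in
theorem gall_c1 : allRange (gAt chevE8 w 1) (1 * 15) 15 = true := by decide +kernel

set_option maxHeartbeats 0 in
theorem gall_c2 : allRange (gAt chevE8 w 1) (2 * 15) 15 = true := by decide +kernel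

set_option maxHeartbeats 0 in
theorem gall_c3 : allRange (gAt chevE8 w 1) (3 * 15) 15 = true := by decide +kernel

set_option maxHeartbeats 0 in
theorem gall_c4 : allRange (gAt chevE8 w 1) (4 * 15) 15 = true := by decide +kernel

set_option maxHeartbeats 0 in
theorem gall_c5 : allRange (gAt chevE8 w 1) (5 * 15) 15 = true := by decide +kernel

set_option maxHeartbeats 0 in
theorem gall_c6 : allRange (gAt chevE8 w 1) (6 * 15) 15 = true := by decide +kernel

set_option maxHeartbeats 0 in
theorem gall_c7 : allRange (gAt chevE8 w 1) (7 * 15) 15 = true := by decide +kernel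

set_option maxHeartbeats 0 in
theorem gall_c8 : allRange (gAt chevE8 w 1) (8 * 15) 15 = true := by decide +kernel

set_option maxHeartbeats 0 in
theorem gall_c9 : allRange (gAt chevE8 w 1) (9 * 15) 15 = true := by decide +kernel

set_option maxHeartbeats 0 in
theorem gall_c10 : allRange (gAt chevE8 w 1) (10 * 15) 15 = true := by decide +kernel

set_option maxHeartbeats 0 in
theorem gall_c11 : allRange (gAt chevE8 w 1) (11 * 15) 15 = true := by decide +kernel

set_option maxHeartbeats 0 in
theorem gall_c12 : allRange (gAt chevE8 w 1) (12 * 15) 15 = true := by decide +kernel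

set_option maxHeartbeats 0 in
theorem gall_c13 : allRange (gAt chevE8 w 1) (13 * 15) 15 = true := by decide +kernel

set_option maxHeartbeats 0 in
theorem gall_c14 : allRange (gAt chevE8 w 1) (14 * 15) 15 = true := by decide +kernel

set_option maxHeartbeats 0 in
theorem gall_c15 : allRange (gAt chevE8 w 1) (15 * 15) 15 = true := by decide +kernel

theorem gall : ∀ r < 240, gAt chevE8 w 1 r = true := by
  intro r hr
  refine all_of_chunks _ 15 16 ?_ r (by omega)
  intro k hk
  interval_cases k
  · exact gall_c0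
  · exact gall_c1
  · exact gall_c2
  · exact gall_c3
  · exact gall_c4
  · exact gall_c5
  · exact gall_c6
  · exact gall_c7
  · exact gall_c8
  · exact gall_c9
  · exact gall_c10
  · exact gall_c11
  · exact gall_c12
  · exact gall_c13
  · exact gall_c14
  · exact gall_c15

theorem gcert : GCert chevE8 w 1 where
  d_pos := by decide
  all := gall

end Cfsg.Agent.Lib.Helper18_ChevGCertE8
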