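import Cfsg.Agent.Lib.Helper18_ChevTri
import Cfsg.Prelude.Def_ChevG2

set_option autoImplicit false

/-! The height certificate of the datum of type G2 (kernel computation). -/

namespace Cfsg.Agent.Lib.Helper18_ChevGCertG2

open Cfsg Cfsg.Lie Cfsg.Agent.Lib.Helper18_ChevFast Cfsg.Agent.Lib.Helper18_ChevEngine
  Cfsg.Agent.Lib.Helper18_ChevR1 Cfsg.Agent.Lib.Helper18_ChevN Cfsg.Agent.Lib.Helper18_ChevR4
  Cfsg.Agent.Lib.Helper18_ChevSimple Cfsg.Agent.Lib.Helper18_ChevChunk Cfsg.Agent.Lib.Helper18_ChevDiag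
  Cfsg.Agent.Lib.Helper18_ChevH Cfsg.Agent.Lib.Helper18_ChevSimple2 Cfsg.Agent.Lib.Helper18_ChevFacts
  Cfsg.Agent.Lib.Helper18_ChevWeyl Cfsg.Agent.Lib.Helper18_ChevCar
  Cfsg.Agent.Lib.Helper18_ChevTorus Cfsg.Agent.Lib.Helper18_ChevGL
  Cfsg.Agent.Lib.Helper18_MatTri Cfsg.Agent.Lib.Helper18_ChevTri

def w : List ℤ := [3, 5]

set_option maxHeartbeats 0 in
theorem gall_c0 : allRange (gAt chevG2 w 1) (0 * 12) 12 = true := by decide +kernel

theorem gall : ∀ r < 12, gAt chevG2 w 1 r = true := by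
  intro r hr
  refine all_of_chunks _ 12 1 ?_ r (by omega)
  intro k hk
  interval_cases k
  · exact gall_c0

theorem gcert : GCert chevG2 w 1 where
  d_pos := by decide
  all := gall

end Cfsg.Agent.Lib.Helper18_ChevGCertG2
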