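import Cfsg.Agent.Lib.Helper18_ChevData2
import Cfsg.Agent.Lib.Helper18_ChevGCertG2
import Cfsg.Agent.Lib.Helper18_ChevGCertB2
import Cfsg.Agent.Lib.Helper18_ChevGCertD4
import Cfsg.Agent.Lib.Helper18_ChevGCertF4
import Cfsg.Agent.Lib.Helper18_ChevGCertE6
import Cfsg.Agent.Lib.Helper18_ChevGCertE7
import Cfsg.Agent.Lib.Helper18_ChevGCertE8

set_option autoImplicit false

/-! The certificates of the seven tabulated data, with the torus and height certificates. -/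

namespace Cfsg.Agent.Lib.Helper18_ChevData3

open Cfsg Cfsg.Lie Cfsg.Agent.Lib.Helper18_ChevFast Cfsg.Agent.Lib.Helper18_ChevEngine
  Cfsg.Agent.Lib.Helper18_ChevR1 Cfsg.Agent.Lib.Helper18_ChevN Cfsg.Agent.Lib.Helper18_ChevR4
  Cfsg.Agent.Lib.Helper18_ChevSimple Cfsg.Agent.Lib.Helper18_ChevChunk Cfsg.Agent.Lib.Helper18_ChevDiag
  Cfsg.Agent.Lib.Helper18_ChevH Cfsg.Agent.Lib.Helper18_ChevSimple2 Cfsg.Agent.Lib.Helper18_ChevFacts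
  Cfsg.Agent.Lib.Helper18_ChevWeyl Cfsg.Agent.Lib.Helper18_ChevCar
  Cfsg.Agent.Lib.Helper18_ChevTorus Cfsg.Agent.Lib.Helper18_ChevGL
  Cfsg.Agent.Lib.Helper18_MatTri Cfsg.Agent.Lib.Helper18_ChevTri

theorem exists_cert3 (D : ChevalleyDatum)
    (hD : D ∈ [chevG2, chevB2, chevD4, chevF4, chevE6, chevE7, chevE8]) :
    ∃ (Ns : List NData) (w : List ℤ) (d : ℕ), DCert D Ns ∧ TCert D ∧ GCert D w d := by
  simp only [List.mem_cons, List.not_mem_nil, or_false] at hD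
  rcases hD with rfl | rfl | rfl | rfl | rfl | rfl | rfl
  · exact ⟨_, _, _, Cfsg.Agent.Lib.Helper18_ChevDatumG2.dcert, Cfsg.Agent.Lib.Helper18_ChevTCertG2.tcert,
      Cfsg.Agent.Lib.Helper18_ChevGCertG2.gcert⟩
  · exact ⟨_, _, _, Cfsg.Agent.Lib.Helper18_ChevDatumB2.dcert, Cfsg.Agent.Lib.Helper18_ChevTCertB2.tcert,
      Cfsg.Agent.Lib.Helper18_ChevGCertB2.gcert⟩
  · exact ⟨_, _, _, Cfsg.Agent.Lib.Helper18_ChevDatumD4.dcert, Cfsg.Agent.Lib.Helper18_ChevTCertD4.tcert,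
      Cfsg.Agent.Lib.Helper18_ChevGCertD4.gcert⟩
  · exact ⟨_, _, _, Cfsg.Agent.Lib.Helper18_ChevDatumF4.dcert, Cfsg.Agent.Lib.Helper18_ChevTCertF4.tcert,
      Cfsg.Agent.Lib.Helper18_ChevGCertF4.gcert⟩
  · exact ⟨_, _, _, Cfsg.Agent.Lib.Helper18_ChevDatumE6.dcert, Cfsg.Agent.Lib.Helper18_ChevTCertE6.tcert,
      Cfsg.Agent.Lib.Helper18_ChevGCertE6.gcert⟩
  · exact ⟨_, _, _, Cfsg.Agent.Lib.Helper18_ChevDatumE7.dcert, Cfsg.Agent.Lib.Helper18_ChevTCertE7.tcert,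
      Cfsg.Agent.Lib.Helper18_ChevGCertE7.gcert⟩
  · exact ⟨_, _, _, Cfsg.Agent.Lib.Helper18_ChevDatumE8.dcert, Cfsg.Agent.Lib.Helper18_ChevTCertE8.tcert,
      Cfsg.Agent.Lib.Helper18_ChevGCertE8.gcert⟩

end Cfsg.Agent.Lib.Helper18_ChevData3
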