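import Cfsg.Agent.Lib.Helper18_ChevBorel

set_option autoImplicit false

/-!
The subgroup `B = U H` is solvable.
-/

namespace Cfsg.Agent.Lib.Helper18_ChevSolv

open Cfsg Cfsg.Lie Cfsg.Agent.Lib.Helper18_ChevFast Cfsg.Agent.Lib.Helper18_ChevEngine
  Cfsg.Agent.Lib.Helper18_ChevR1 Cfsg.Agent.Lib.Helper18_ChevN Cfsg.Agent.Lib.Helper18_ChevR4
  Cfsg.Agent.Lib.Helper18_ChevSimple Cfsg.Agent.Lib.Helper18_ChevSimple2 Cfsg.Agent.Lib.Helper18_ChevFacts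
  Cfsg.Agent.Lib.Helper18_ChevWeyl Cfsg.Agent.Lib.Helper18_ChevDiag Cfsg.Agent.Lib.Helper18_ChevCar
  Cfsg.Agent.Lib.Helper18_ChevTorus Cfsg.Agent.Lib.Helper18_ChevGL Cfsg.Agent.Lib.Helper18_MatTri
  Cfsg.Agent.Lib.Helper18_ChevTri Cfsg.Agent.Lib.Helper18_ChevBorel

variable {D : ChevalleyDatum} {Ns : List NData} {F : Type*} [Field F]

/-- Elements of `H` commute. -/
theorem diagonal_comm (c : DCert D Ns) (tc : TCert D) (a b : GL D.Idx F) (ha : a ∈ D.diagonalSubgroup F)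
    (hb : b ∈ D.diagonalSubgroup F) : a * b = b * a := by
  obtain ⟨t, _, hat⟩ := exists_torus_of_mem c tc a ha
  obtain ⟨t', _, hbt⟩ := exists_torus_of_mem c tc b hb
  apply Units.ext
  rw [Units.val_mul, Units.val_mul, hat, hbt, torusMat_mul, torusMat_mul]
  congr 1
  funext i
  exact mul_comm _ _

/-- A general fact: if `H` normalizes `U` and `H` is commutative then commutators of `U ⊔ H` lie in `U`. -/
theorem commutator_mem_of_sup {G : Type*} [Group G] (U H : Subgroup G)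
    (hN : H ≤ Subgroup.normalizer (U : Set G)) (hc : ∀ a ∈ H, ∀ b ∈ H, a * b = b * a)
    (a b : G) (ha : a ∈ U ⊔ H) (hb : b ∈ U ⊔ H) : a * b * a⁻¹ * b⁻¹ ∈ U := by
  have hset := Subgroup.coe_mul_of_right_le_normalizer_left U H hN
  have ha' : a ∈ ((U ⊔ H : Subgroup G) : Set G) := ha
  have hb' : b ∈ ((U ⊔ H : Subgroup G) : Set G) := hb
  rw [hset] at ha' hb'
  obtain ⟨u₁, hu₁, h₁, hh₁, rfl⟩ := ha'
  obtain ⟨u₂, hu₂, h₂, hh₂, rfl⟩ := hb'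
  have hu₁' : u₁ ∈ U := hu₁
  have hu₂' : u₂ ∈ U := hu₂
  have hh₁' : h₁ ∈ H := hh₁
  have hh₂' : h₂ ∈ H := hh₂
  have hcomm : h₂ * h₁⁻¹ = h₁⁻¹ * h₂ := by
    have := hc h₁ hh₁' h₂ hh₂'
    calc h₂ * h₁⁻¹ = h₁⁻¹ * (h₁ * h₂) * h₁⁻¹ := by group
      _ = h₁⁻¹ * (h₂ * h₁) * h₁⁻¹ := by rw [this]
      _ = h₁⁻¹ * h₂ := by group
  have e : u₁ * h₁ * (u₂ * h₂) * (u₁ * h₁)⁻¹ * (u₂ * h₂)⁻¹ =
      u₁ * (h₁ * u₂ * h₁⁻¹) * (h₂ * u₁⁻¹ * h₂⁻¹) * u₂⁻¹ := by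
    calc u₁ * h₁ * (u₂ * h₂) * (u₁ * h₁)⁻¹ * (u₂ * h₂)⁻¹
        = u₁ * h₁ * u₂ * (h₂ * h₁⁻¹) * u₁⁻¹ * h₂⁻¹ * u₂⁻¹ := by group
      _ = u₁ * h₁ * u₂ * (h₁⁻¹ * h₂) * u₁⁻¹ * h₂⁻¹ * u₂⁻¹ := by rw [hcomm]
      _ = _ := by group
  rw [e]
  have n1 : h₁ * u₂ * h₁⁻¹ ∈ U := (Subgroup.mem_normalizer_iff.mp (hN hh₁') u₂).mp hu₂'
  have n2 : h₂ * u₁⁻¹ * h₂⁻¹ ∈ U := (Subgroup.mem_normalizer_iff.mp (hN hh₂') u₁⁻¹).mp (U.inv_mem hu₁')
  exact U.mul_mem (U.mul_mem (U.mul_mem hu₁' n1) n2) (U.inv_mem hu₂')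

/-- `B` is solvable. -/
theorem borel_isSolvable (c : DCert D Ns) (tc : TCert D) {w : List ℤ} {d : ℕ} (gc : GCert D w d) :
    Group.IsSolvable ↥(D.borelSubgroup F) := by
  have hUB : D.posUnipotent F ≤ D.borelSubgroup F := le_sup_left
  have : Group.IsNilpotent ↥(D.posUnipotent F) := posUnipotent_isNilpotent c tc gc
  apply Group.isSolvable_of_ker_le_range (Subgroup.inclusion hUB) (Abelianization.of (G := ↥(D.borelSubgroup F)))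
  rw [Abelianization.ker_of, commutator_def, Subgroup.commutator_le]
  intro a _ b _
  have key := commutator_mem_of_sup (D.posUnipotent F) (D.diagonalSubgroup F)
    (diagonal_le_normalizer_pos c tc) (fun x hx y hy => diagonal_comm c tc x y hx hy)
    (a : GL D.Idx F) (b : GL D.Idx F) a.2 b.2
  rw [MonoidHom.mem_range]
  refine ⟨⟨_, key⟩, ?_⟩
  apply Subtype.ext
  simp [commutatorElement_def]

end Cfsg.Agent.Lib.Helper18_ChevSolv
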