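import Cfsg.Agent.Lib.Helper36_ReeCore
import Cfsg.Agent.Lib.Helper36_TwistSimple
import Cfsg.Agent.S1050
import Cfsg.Agent.S0319

set_option autoImplicit false

/-!
The twisted group of type `²G₂` over a field with more than three elements is simple.
-/

namespace Cfsg.Agent.Lib.Helper36_ReeSimple

open Cfsg Cfsg.Lie Cfsg.Agent.Lib.Helper36_ReeFix Cfsg.Agent.Lib.Helper36_ReeBruhat
  Cfsg.Agent.Lib.Helper36_ReeBN Cfsg.Agent.Lib.Helper36_ReePerf Cfsg.Agent.Lib.Helper36_ReeCore
  Cfsg.Agent.Lib.Helper36_ReeTw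

section

variable {K : Type*} [Field K] [Fintype K] [CharP K 3] {m : ℕ} (hK : Fintype.card K = 3 ^ (2 * m + 1))

include hK in
/-- Simplicity and non-commutativity from the criterion for `(B, N)`-pairs. -/
theorem simple (hm : 1 ≤ m) :
    IsSimpleGroup ↥(twistedG2 K (3 ^ m)) ∧ ¬ IsMulCommutative ↥(twistedG2 K (3 ^ m)) := by
  obtain ⟨Q, hQB, -, hQS⟩ := exists_bnPair hK
  have hS0 : (⟨m0 hK, m0_mem hK⟩ : ↥(twistedG2 K (3 ^ m))) ∈ Q.S := by
    rw [hQS]
    rfl
  haveI hnt : Nontrivial ↥(twistedG2 K (3 ^ m)) :=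
    Cfsg.Agent.Lib.Helper36_TwistSimple.nontrivial_of_bnPair Q _ hS0
  have hirr : Q.Irreducible := by
    intro J hJ hJne hcne
    exfalso
    obtain ⟨x, hx⟩ := hJne
    obtain ⟨y, hy, hy'⟩ := hcne
    have hx' := hJ hx
    rw [hQS, Set.mem_singleton_iff] at hy hx'
    apply hy'
    rw [hy, ← hx']
    exact hx
  have hperf := perfect hK hm
  have hsolv' : Group.IsSolvable Q.B := by
    rw [hQB]
    haveI : Group.IsSolvable ↥(chevG2.borelSubgroup K) := Cfsg.Agent.S1050.result chevG2 hD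
    let φ : ↥((chevG2.borelSubgroup K ⊓ twistedG2 K (3 ^ m)).subgroupOf (twistedG2 K (3 ^ m))) →*
        ↥(chevG2.borelSubgroup K) :=
      { toFun := fun g => ⟨((g : ↥(twistedG2 K (3 ^ m))) : GL chevG2.Idx K), (Subgroup.mem_subgroupOf.mp g.2).1⟩
        map_one' := rfl
        map_mul' := fun _ _ => rfl }
    have hφ : Function.Injective φ := by
      intro g h e
      apply Subtype.ext
      apply Subtype.ext
      exact congrArg (fun z : ↥(chevG2.borelSubgroup K) => (z : GL chevG2.Idx K)) e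
    exact Group.isSolvable_of_isSolvable_injective (f := φ) hφ
  have hcore' : Q.B.normalCore = ⊥ := by
    rw [hQB]
    exact core_trivial hK
  refine ⟨Cfsg.Agent.S0319.result Q hirr hsolv' hperf hcore', ?_⟩
  intro hcomm
  have hbot : commutator ↥(twistedG2 K (3 ^ m)) = ⊥ := by
    rw [eq_bot_iff]
    unfold commutator
    rw [Subgroup.commutator_le]
    intro g₁ _ g₂ _
    rw [Subgroup.mem_bot, commutatorElement_def, hcomm.is_comm.comm g₁ g₂]
    group
  rw [hbot] at hperf
  exact bot_ne_top hperf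

end

end Cfsg.Agent.Lib.Helper36_ReeSimple
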