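import Mathlib

set_option autoImplicit false

/-!
Abstract set-up for the Sylow 2-normaliser of a group in which the centraliser of an involution `a` is
`⟨a⟩ × L`, with `L` having a self-centralising four-group `V` of exponent 2 with `|N_L(V)| = 12`:
the hypotheses, the subgroup `S = ⟨a⟩ × V` and its first properties.
-/

namespace Cfsg.Agent.Lib.Helper37_InvCentDefs

variable {G : Type*} [Group G]

/-- The hypotheses: `C(a) = ⟨a⟩ × L`, and `V ≤ L` is a self-centralising four-group of exponent 2 with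
`|N_L(V)| = 12`. -/
structure Hyp (a : G) (L V : Subgroup G) : Prop where
  ha : orderOf a = 2
  hLa : ∀ x ∈ L, a * x = x * a
  haL : a ∉ L
  hC : ∀ g : G, a * g = g * a → g ∈ L ∨ a * g ∈ L
  hVL : V ≤ L
  hV4 : Nat.card V = 4
  hV2 : ∀ v ∈ V, v * v = 1
  hVc : ∀ x ∈ L, (∀ v ∈ V, x * v = v * x) → x ∈ V
  hVn : Nat.card {x : G // x ∈ L ∧ ∀ v, v ∈ V ↔ x * v * x⁻¹ ∈ V} = 12

/-- The subgroup `S = ⟨a⟩ × V`. -/
def Sgp (a : G) (V : Subgroup G) : Subgroup G := V ⊔ Subgroup.zpowers a

namespace Hyp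

variable {a : G} {L V : Subgroup G}

theorem a_sq (h : Hyp a L V) : a * a = 1 := by
  have := pow_orderOf_eq_one a
  rw [h.ha, pow_two] at this
  exact this

theorem a_ne_one (h : Hyp a L V) : a ≠ 1 := by
  intro e
  have := h.ha
  rw [e, orderOf_one] at this
  omega

theorem a_inv (h : Hyp a L V) : a⁻¹ = a := inv_eq_of_mul_eq_one_left h.a_sq

theorem a_comm_V (h : Hyp a L V) (v : G) (hv : v ∈ V) : a * v = v * a := h.hLa v (h.hVL hv)

theorem V_comm (h : Hyp a L V) (v w : G) (hv : v ∈ V) (hw : w ∈ V) : v * w = w * v := by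
  have h1 := h.hV2 v hv
  have h2 := h.hV2 w hw
  have h3 := h.hV2 (v * w) (V.mul_mem hv hw)
  have e : v * w = w⁻¹ * v⁻¹ := by
    rw [← mul_inv_rev]
    exact (inv_eq_of_mul_eq_one_left h3).symm
  rw [e, inv_eq_of_mul_eq_one_left h1, inv_eq_of_mul_eq_one_left h2]

theorem a_mul_a_mul (h : Hyp a L V) (x : G) : a * (a * x) = x := by
  rw [← mul_assoc, h.a_sq, one_mul]

theorem a_zpow (h : Hyp a L V) (k : ℤ) : a ^ k = 1 ∨ a ^ k = a := by
  have h2 : a ^ (2 : ℤ) = 1 := by
    rw [zpow_ofNat, pow_two]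
    exact h.a_sq
  rcases Int.even_or_odd' k with ⟨j, rfl | rfl⟩
  · left
    rw [zpow_mul, h2, one_zpow]
  · right
    rw [zpow_add, zpow_mul, h2, one_zpow, one_mul, zpow_one]

theorem comm_of_mem (h : Hyp a L V) (x : G) (hx : a * x ∈ V) : a * x = x * a := by
  have h1 := h.a_comm_V (a * x) hx
  rw [h.a_mul_a_mul] at h1
  calc a * x = a * (a * x * a) := by rw [← h1]
    _ = x * a := by rw [mul_assoc a x a, h.a_mul_a_mul]

/-- `S = V ∪ aV`. -/
theorem mem_Sgp (h : Hyp a L V) (g : G) : g ∈ Sgp a V ↔ g ∈ V ∨ a * g ∈ V := by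
  constructor
  · intro hg
    unfold Sgp at hg
    rw [Subgroup.sup_eq_closure] at hg
    induction hg using Subgroup.closure_induction with
    | mem x hx =>
      rcases hx with hx | hx
      · exact Or.inl hx
      · obtain ⟨k, rfl⟩ := Subgroup.mem_zpowers_iff.mp hx
        rcases h.a_zpow k with e | e
        · left
          rw [e]
          exact V.one_mem
        · right
          rw [e, h.a_sq]
          exact V.one_mem
    | one => exact Or.inl V.one_mem
    | mul x y _ _ hx hy =>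
      rcases hx with hx | hx <;> rcases hy with hy | hy
      · exact Or.inl (V.mul_mem hx hy)
      · right
        have e : a * (x * y) = x * (a * y) := by
          rw [← mul_assoc, h.a_comm_V x hx, mul_assoc]
        rw [e]
        exact V.mul_mem hx hy
      · right
        rw [← mul_assoc]
        exact V.mul_mem hx hy
      · left
        have e : x * y = (a * x) * (a * y) := by
          calc x * y = a * (a * x) * y := by rw [h.a_mul_a_mul]
            _ = a * (x * a) * y := by rw [h.comm_of_mem x hx]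
            _ = (a * x) * (a * y) := by simp only [mul_assoc]
        rw [e]
        exact V.mul_mem hx hy
    | inv x _ hx =>
      rcases hx with hx | hx
      · exact Or.inl (V.inv_mem hx)
      · right
        have hc : Commute a x := h.comm_of_mem x hx
        have e : a * x⁻¹ = (a * x)⁻¹ := by
          rw [mul_inv_rev, h.a_inv]
          exact hc.inv_right.eq
        rw [e]
        exact V.inv_mem hx
  · rintro (hg | hg)
    · exact (le_sup_left : V ≤ Sgp a V) hg
    · have e : g = a⁻¹ * (a * g) := by group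
      rw [e]
      exact Subgroup.mul_mem _ (Subgroup.inv_mem _ ((le_sup_right : Subgroup.zpowers a ≤ Sgp a V)
        (Subgroup.mem_zpowers a))) ((le_sup_left : V ≤ Sgp a V) hg)

theorem a_mem_Sgp (_h : Hyp a L V) : a ∈ Sgp a V :=
  (le_sup_right : Subgroup.zpowers a ≤ Sgp a V) (Subgroup.mem_zpowers a)

theorem V_le_Sgp (a : G) (V : Subgroup G) : V ≤ Sgp a V := le_sup_left

/-- The elements of `S` have square one. -/
theorem sq_Sgp (h : Hyp a L V) (g : G) (hg : g ∈ Sgp a V) : g * g = 1 := by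
  rcases (h.mem_Sgp g).mp hg with hv | hv
  · exact h.hV2 g hv
  · have h1 := h.hV2 (a * g) hv
    have hc := h.comm_of_mem g hv
    calc g * g = a * (a * g) * g := by rw [h.a_mul_a_mul]
      _ = a * (g * a) * g := by rw [hc]
      _ = (a * g) * (a * g) := by simp only [mul_assoc]
      _ = 1 := h1

/-- `S` is commutative. -/
theorem comm_Sgp (h : Hyp a L V) (g k : G) (hg : g ∈ Sgp a V) (hk : k ∈ Sgp a V) : g * k = k * g := by
  have h1 := h.sq_Sgp g hg
  have h2 := h.sq_Sgp k hk
  have h3 := h.sq_Sgp (g * k) (Subgroup.mul_mem _ hg hk)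
  have e : g * k = k⁻¹ * g⁻¹ := by
    rw [← mul_inv_rev]
    exact (inv_eq_of_mul_eq_one_left h3).symm
  rw [e, inv_eq_of_mul_eq_one_left h1, inv_eq_of_mul_eq_one_left h2]

/-- `S ∩ L = V`. -/
theorem Sgp_inf (h : Hyp a L V) : Sgp a V ⊓ L = V := by
  apply le_antisymm
  · rintro g ⟨hg, hgL⟩
    rcases (h.mem_Sgp g).mp hg with hv | hv
    · exact hv
    · exfalso
      apply h.haL
      have e : a = (a * g) * g⁻¹ := by group
      rw [e]
      exact L.mul_mem (h.hVL hv) (L.inv_mem hgL)
  · exact le_inf (V_le_Sgp a V) h.hVL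

/-- `a ∉ V`. -/
theorem a_not_mem_V (h : Hyp a L V) : a ∉ V := fun hv => h.haL (h.hVL hv)

/-- `S` has 8 elements. -/
theorem card_Sgp (h : Hyp a L V) : Nat.card (Sgp a V) = 8 := by
  -- `V` has index 2 in `S`
  have hle : V ≤ Sgp a V := V_le_Sgp a V
  have hidx : (V.subgroupOf (Sgp a V)).index = 2 := by
    apply Subgroup.index_eq_two_iff.mpr
    refine ⟨⟨a, h.a_mem_Sgp⟩, ?_⟩
    intro b
    rw [Subgroup.mem_subgroupOf, Subgroup.mem_subgroupOf]
    have hb := (h.mem_Sgp b).mp b.2
    have hcoe : ((b * ⟨a, h.a_mem_Sgp⟩ : ↥(Sgp a V)) : G) = (b : G) * a := rfl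
    rw [hcoe]
    have hba : (b : G) * a = a * b := (h.comm_Sgp _ _ h.a_mem_Sgp b.2).symm
    rw [hba]
    rcases hb with hv | hv
    · refine Or.inr ⟨hv, ?_⟩
      intro h2
      apply h.a_not_mem_V
      have e : a = (a * b) * (b : G)⁻¹ := by group
      rw [e]
      exact V.mul_mem h2 (V.inv_mem hv)
    · refine Or.inl ⟨hv, ?_⟩
      intro h2
      apply h.a_not_mem_V
      have e : a = (a * b) * (b : G)⁻¹ := by group
      rw [e]
      exact V.mul_mem hv (V.inv_mem h2)
  have h1 := (V.subgroupOf (Sgp a V)).card_mul_index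
  have h2 : Nat.card ↥(V.subgroupOf (Sgp a V)) = Nat.card V :=
    Nat.card_congr (Subgroup.subgroupOfEquivOfLe hle).toEquiv
  rw [hidx, h2, h.hV4] at h1
  omega

end Hyp

end Cfsg.Agent.Lib.Helper37_InvCentDefs
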