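import Mathlib
import Cfsg.Agent.Lib.Helper37_InvCentDefs

set_option autoImplicit false
set_option linter.unusedSectionVars false

/-!
# REE-INV package ORBIT (helper43 for helper37): `|N_G(S)| = 7 · 24 = 168` by orbit–stabiliser.
-/

namespace Cfsg.Agent.Lib.Helper43_ReeInv_ORBIT

open Cfsg.Agent.Lib.Helper37_InvCentDefs

section abstract

variable {G : Type*} [Group G] [Finite G]

/-- generic orbit–stabiliser count: if every element of `T = S \ {1}` is an `N`-conjugate of `a` and `N` normalises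
`S ∋ a`, then `|N| = |S \ {1}| · |N ∩ C(a)|`. -/
theorem card_eq_mul (S N : Subgroup G) (a : G) (haS : a ∈ S) (ha1 : a ≠ 1)
    (hN : ∀ n ∈ N, ∀ s ∈ S, n * s * n⁻¹ ∈ S)
    (h7 : ∀ t : G, t ∈ S → t ≠ 1 → ∃ n ∈ N, n * a * n⁻¹ = t) :
    Nat.card N = Nat.card {x : S // x ≠ 1} * Nat.card ↥(N ⊓ Subgroup.centralizer {a}) := by
  classical
  have hrep : ∀ t : {x : S // x ≠ 1}, ∃ n : G, n ∈ N ∧ n * a * n⁻¹ = (t.1 : G) := by
    intro t
    obtain ⟨n, hn, hn2⟩ := h7 t.1.1 t.1.2 (fun e => t.2 (Subtype.ext e))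
    exact ⟨n, hn, hn2⟩
  choose rep hrepN hrepa using hrep
  have hne : ∀ n : G, n * a * n⁻¹ ≠ 1 := by
    intro n e
    apply ha1
    have h1 : a = n⁻¹ * (n * a * n⁻¹) * n := by group
    rw [h1, e]
    group
  -- the first component
  let t1 : N → {x : S // x ≠ 1} := fun n =>
    ⟨⟨(n : G) * a * (n : G)⁻¹, hN n n.2 a haS⟩, fun e => hne n (congrArg Subtype.val e)⟩
  have ht1 : ∀ n : N, ((t1 n).1 : G) = (n : G) * a * (n : G)⁻¹ := fun n => rfl
  have hmem : ∀ n : N, (rep (t1 n))⁻¹ * (n : G) ∈ N ⊓ Subgroup.centralizer {a} := by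
    intro n
    refine ⟨N.mul_mem (N.inv_mem (hrepN _)) n.2, ?_⟩
    show _ ∈ Subgroup.centralizer {a}
    rw [Subgroup.mem_centralizer_iff]
    intro x hx
    rw [Set.mem_singleton_iff] at hx
    subst hx
    have h1 := hrepa (t1 n)
    rw [ht1] at h1
    -- rep * x * rep⁻¹ = n * x * n⁻¹
    calc x * ((rep (t1 n))⁻¹ * (n : G))
        = (rep (t1 n))⁻¹ * (rep (t1 n) * x * (rep (t1 n))⁻¹) * (n : G) := by group
      _ = (rep (t1 n))⁻¹ * ((n : G) * x * (n : G)⁻¹) * (n : G) := by rw [h1]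
      _ = (rep (t1 n))⁻¹ * (n : G) * x := by group
  have hcomm : ∀ c : ↥(N ⊓ Subgroup.centralizer {a}), a * (c : G) = (c : G) * a := by
    intro c
    have : (c : G) ∈ Subgroup.centralizer {a} := c.2.2
    rw [Subgroup.mem_centralizer_iff] at this
    exact this a rfl
  have hkey : ∀ (t : {x : S // x ≠ 1}) (c : ↥(N ⊓ Subgroup.centralizer {a})),
      rep t * (c : G) * a * (rep t * (c : G))⁻¹ = (t.1 : G) := by
    intro t c
    rw [← hrepa t]
    calc rep t * (c : G) * a * (rep t * (c : G))⁻¹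
        = rep t * ((c : G) * a) * (c : G)⁻¹ * (rep t)⁻¹ := by group
      _ = rep t * (a * (c : G)) * (c : G)⁻¹ * (rep t)⁻¹ := by rw [hcomm c]
      _ = rep t * a * (rep t)⁻¹ := by group
  let e : N ≃ {x : S // x ≠ 1} × ↥(N ⊓ Subgroup.centralizer {a}) :=
    { toFun := fun n => (t1 n, ⟨(rep (t1 n))⁻¹ * (n : G), hmem n⟩)
      invFun := fun p => ⟨rep p.1 * (p.2 : G), N.mul_mem (hrepN _) p.2.2.1⟩
      left_inv := by
        intro n
        apply Subtype.ext
        show rep (t1 n) * ((rep (t1 n))⁻¹ * (n : G)) = n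
        rw [mul_inv_cancel_left]
      right_inv := by
        rintro ⟨t, c⟩
        have h1 : t1 ⟨rep t * (c : G), N.mul_mem (hrepN _) c.2.1⟩ = t := by
          apply Subtype.ext
          apply Subtype.ext
          exact hkey t c
        have h2 : ∀ t' : {x : S // x ≠ 1}, t' = t → (rep t')⁻¹ * (rep t * (c : G)) = c := by
          rintro t' rfl
          rw [inv_mul_cancel_left]
        apply Prod.ext
        · exact h1
        · apply Subtype.ext
          exact h2 _ h1 }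
  rw [Nat.card_congr e, Nat.card_prod]

/-- PKG ORBIT (M, ~120 l).  `|N_G(S)| = 7 · 24 = 168` by orbit–stabiliser. -/
theorem card_normalizer_Sgp {a : G} {L V : Subgroup G} (h : Hyp a L V)
    (h24 : Nat.card ↥(Subgroup.normalizer (Sgp a V : Set G) ⊓ Subgroup.centralizer {a}) = 24)
    (h7 : ∀ t : G, t ∈ Sgp a V → t ≠ 1 → ∃ n ∈ Subgroup.normalizer (Sgp a V : Set G), n * a * n⁻¹ = t) :
    Nat.card ↥(Subgroup.normalizer (Sgp a V : Set G)) = 168 := by
  classical
  have h1 := card_eq_mul (Sgp a V) (Subgroup.normalizer (Sgp a V : Set G)) a h.a_mem_Sgp h.a_ne_one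
    (fun n hn s hs => (Subgroup.mem_normalizer_iff.1 hn s).1 hs) h7
  have h2 : Nat.card {x : Sgp a V // x ≠ 1} + 1 = 8 := by
    rw [← Finite.card_option, Nat.card_congr (Equiv.optionSubtypeNe (1 : Sgp a V)), h.card_Sgp]
  rw [h1, h24]
  omega

end abstract

end Cfsg.Agent.Lib.Helper43_ReeInv_ORBIT
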