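import Mathlib
import Cfsg.Agent.Lib.Helper37_InvCentDefs

set_option autoImplicit false
set_option linter.unusedSectionVars false

/-!
REEINV-CENT (helper37's market, S1157): `C_G(S) = S` for `S = ⟨a⟩ × V`.
-/

namespace Cfsg.Agent.Lib.Helper52_ReeInv_CENT

open Cfsg.Agent.Lib.Helper37_InvCentDefs

variable {G : Type*} [Group G] [Finite G]

/-- PKG CENT.  `C_G(S) = S`. -/
theorem centralizer_Sgp {a : G} {L V : Subgroup G} (h : Hyp a L V) :
    Subgroup.centralizer (Sgp a V : Set G) = Sgp a V := by
  apply le_antisymm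
  · intro g hg
    rw [Subgroup.mem_centralizer_iff] at hg
    have hag : a * g = g * a := hg a h.a_mem_Sgp
    have hgv : ∀ v ∈ V, v * g = g * v := fun v hv => hg v (Hyp.V_le_Sgp a V hv)
    rw [h.mem_Sgp]
    rcases h.hC g hag with hL | hL
    · left
      apply h.hVc g hL
      intro v hv
      exact (hgv v hv).symm
    · right
      apply h.hVc (a * g) hL
      intro v hv
      rw [mul_assoc, ← hgv v hv, ← mul_assoc, h.a_comm_V v hv, mul_assoc]
  · intro g hg
    rw [Subgroup.mem_centralizer_iff]
    intro s hs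
    exact h.comm_Sgp s g hs hg

end Cfsg.Agent.Lib.Helper52_ReeInv_CENT
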