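import Mathlib
import Cfsg.Agent.Lib.Helper37_InvCentDefs

set_option autoImplicit false
set_option linter.unusedSectionVars false

/-!
REEINV-SYLCONJ (helper37's market, S1157): transport of `C(S) = S`, `|N(S)| = 168` to all Sylow 2-subgroups.
-/

namespace Cfsg.Agent.Lib.Helper52_ReeInv_SYLCONJ

open Cfsg.Agent.Lib.Helper37_InvCentDefs

variable {G : Type*} [Group G] [Finite G]

/-- a subgroup of order 8 in a group of order not divisible by 16 is conjugate to every Sylow 2-subgroup -/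
theorem exists_conj (S : Subgroup G) (h8 : Nat.card S = 8) (h16 : ¬ 16 ∣ Nat.card G) (P : Sylow 2 G) :
    ∃ g : G, ∀ x : G, x ∈ (P : Subgroup G) ↔ g⁻¹ * x * g ∈ S := by
  have : Fact (Nat.Prime 2) := ⟨Nat.prime_two⟩
  have hS : IsPGroup 2 S := IsPGroup.of_card (n := 3) (by rw [h8]; norm_num)
  obtain ⟨Q, hQ⟩ := hS.exists_le_sylow
  have hQcard : Nat.card (Q : Subgroup G) = 8 := by
    obtain ⟨k, hk⟩ := (IsPGroup.iff_card.mp Q.isPGroup')
    have h1 : Nat.card S ∣ Nat.card (Q : Subgroup G) := Subgroup.card_dvd_of_le hQ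
    have h2 : Nat.card (Q : Subgroup G) ∣ Nat.card G := Subgroup.card_subgroup_dvd_card _
    rw [h8] at h1
    rw [hk] at h1 h2 ⊢
    have hk3 : 3 ≤ k := by
      by_contra hlt
      push Not at hlt
      have : (2 : ℕ) ^ k ≤ 2 ^ 2 := Nat.pow_le_pow_right (by norm_num) (by omega)
      have := Nat.le_of_dvd (by positivity) h1
      omega
    have hk4 : k < 4 := by
      by_contra hge
      push Not at hge
      apply h16
      exact dvd_trans (pow_dvd_pow 2 hge : (2 : ℕ) ^ 4 ∣ 2 ^ k) h2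
    have : k = 3 := by omega
    rw [this]
    norm_num
  have hSQ : S = (Q : Subgroup G) := by
    apply Subgroup.eq_of_le_of_card_ge hQ
    rw [h8, hQcard]
  obtain ⟨g, hg⟩ := MulAction.exists_smul_eq G Q P
  refine ⟨g, fun x => ?_⟩
  rw [← hg, Sylow.coe_subgroup_smul, Subgroup.mem_pointwise_smul_iff_inv_smul_mem, MulAut.smul_def,
    ← map_inv, MulAut.conj_apply, inv_inv, hSQ]

/-- PKG SYLCONJ -/
theorem sylow_two (S : Subgroup G) (h8 : Nat.card S = 8) (h16 : ¬ 16 ∣ Nat.card G)
    (hc : Subgroup.centralizer (S : Set G) = S) (hn : Nat.card ↥(Subgroup.normalizer (S : Set G)) = 168)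
    (P : Sylow 2 G) :
    Subgroup.centralizer ((P : Subgroup G) : Set G) = P ∧
      Nat.card ↥(Subgroup.normalizer ((P : Subgroup G) : Set G)) = 168 := by
  obtain ⟨g, hg⟩ := exists_conj S h8 h16 P
  have hSc : ∀ s ∈ S, ∀ t ∈ S, t * s = s * t := by
    intro s hs t ht
    have : s ∈ Subgroup.centralizer (S : Set G) := by rw [hc]; exact hs
    exact (Subgroup.mem_centralizer_iff.mp this) t ht
  constructor
  · ext x
    rw [Subgroup.mem_centralizer_iff, hg x]
    constructor
    · intro hx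
      have : g⁻¹ * x * g ∈ Subgroup.centralizer (S : Set G) := by
        rw [Subgroup.mem_centralizer_iff]
        intro s hs
        have hs' : g * s * g⁻¹ ∈ ((P : Subgroup G) : Set G) := by
          rw [SetLike.mem_coe, hg]
          have : g⁻¹ * (g * s * g⁻¹) * g = s := by group
          rw [this]
          exact hs
        have := hx _ hs'
        calc s * (g⁻¹ * x * g) = g⁻¹ * (g * s * g⁻¹ * x) * g := by group
          _ = g⁻¹ * (x * (g * s * g⁻¹)) * g := by rw [this]
          _ = g⁻¹ * x * g * s := by group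
      rwa [hc] at this
    · intro hx y hy
      rw [SetLike.mem_coe, hg] at hy
      have := hSc _ hx _ hy
      calc y * x = g * (g⁻¹ * y * g * (g⁻¹ * x * g)) * g⁻¹ := by group
        _ = g * (g⁻¹ * x * g * (g⁻¹ * y * g)) * g⁻¹ := by rw [this]
        _ = x * y := by group
  · rw [← hn]
    refine Nat.card_congr ⟨fun x => ⟨g⁻¹ * x.1 * g, ?_⟩, fun y => ⟨g * y.1 * g⁻¹, ?_⟩, ?_, ?_⟩
    · have hx := x.2
      rw [Subgroup.mem_normalizer_iff] at hx ⊢
      intro s
      have h1 := hx (g * s * g⁻¹)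
      rw [hg, hg] at h1
      have e1 : g⁻¹ * (g * s * g⁻¹) * g = s := by group
      have e2 : g⁻¹ * (x.1 * (g * s * g⁻¹) * x.1⁻¹) * g = g⁻¹ * x.1 * g * s * (g⁻¹ * x.1 * g)⁻¹ := by group
      rw [e1, e2] at h1
      exact h1
    · have hy := y.2
      rw [Subgroup.mem_normalizer_iff] at hy ⊢
      intro p
      rw [hg, hg]
      have h1 := hy (g⁻¹ * p * g)
      have e2 : g⁻¹ * (g * y.1 * g⁻¹ * p * (g * y.1 * g⁻¹)⁻¹) * g = y.1 * (g⁻¹ * p * g) * y.1⁻¹ := by group
      rw [e2]
      exact h1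
    · intro x
      apply Subtype.ext
      show g * (g⁻¹ * x.1 * g) * g⁻¹ = x.1
      group
    · intro y
      apply Subtype.ext
      show g⁻¹ * (g * y.1 * g⁻¹) * g = y.1
      group

end Cfsg.Agent.Lib.Helper52_ReeInv_SYLCONJ
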