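import Mathlib

set_option autoImplicit false

namespace Cfsg.Agent.Lib.Helper21_Transfer

/-- A homomorphism from a group without subgroups of index 2 to a finite 2-group is trivial. -/
theorem hom_eq_one_of_no_index_two {G P : Type*} [Group G] [Group P] [Finite P]
    (hP : IsPGroup 2 P) (hG : ∀ H : Subgroup G, H.index ≠ 2) (f : G →* P) (g : G) : f g = 1 := by
  have : Fact (Nat.Prime 2) := ⟨Nat.prime_two⟩
  by_contra hne
  have hQ : IsPGroup 2 ↥f.range := hP.to_subgroup f.range
  obtain ⟨k, hk⟩ := hQ.exists_card_eq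
  have hk1 : 1 ≤ k := by
    rcases Nat.eq_zero_or_pos k with h0 | h0
    · exfalso
      rw [h0, pow_zero] at hk
      have hsub : Subsingleton ↥f.range := (Nat.card_eq_one_iff_unique.mp hk).1
      have h1 : (⟨f g, g, rfl⟩ : ↥f.range) = 1 := Subsingleton.elim _ _
      exact hne (congrArg Subtype.val h1)
    · exact h0
  obtain ⟨K, hK⟩ := Sylow.exists_subgroup_card_pow_prime 2 (G := ↥f.range) (n := k - 1)
    (by rw [hk]; exact pow_dvd_pow 2 (Nat.sub_le k 1))
  have hidx : K.index = 2 := by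
    have h := K.card_mul_index
    rw [hK, hk] at h
    have h2 : (2 : ℕ) ^ k = 2 ^ (k - 1) * 2 := by
      rw [← pow_succ]; congr 1; omega
    rw [h2] at h
    exact Nat.eq_of_mul_eq_mul_left (by positivity) h
  have hsurj : Function.Surjective f.rangeRestrict := f.rangeRestrict_surjective
  have := Subgroup.index_comap_of_surjective K hsurj
  exact hG _ (this.trans hidx)

open Classical in
/-- Parity of a product in a group with a subgroup of index 2. -/
theorem prod_mem_iff_even {C : Type*} [CommGroup C] (W W₀ : Subgroup C)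
    (h2 : ∀ x ∈ W, ∀ y ∈ W, x ∉ W₀ → y ∉ W₀ → x * y ∈ W₀) {ι : Type*}
    (I : Finset ι) (f : ι → C) (hf : ∀ i ∈ I, f i ∈ W) :
    (∏ i ∈ I, f i ∈ W₀) ↔ Even (I.filter (fun i => f i ∉ W₀)).card := by
  induction I using Finset.induction_on with
  | empty => simp
  | insert a I ha ih =>
    have hfI : ∀ i ∈ I, f i ∈ W := fun i hi => hf i (Finset.mem_insert_of_mem hi)
    have hP : ∏ i ∈ I, f i ∈ W := Subgroup.prod_mem W hfI
    have hfa : f a ∈ W := hf a (Finset.mem_insert_self a I)
    rw [Finset.prod_insert ha, Finset.filter_insert]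
    by_cases hfa0 : f a ∈ W₀
    · rw [if_neg (not_not.mpr hfa0), Subgroup.mul_mem_cancel_left W₀ hfa0]
      exact ih hfI
    · rw [if_pos hfa0, Finset.card_insert_of_notMem (fun h => ha (Finset.mem_filter.mp h).1),
        Nat.even_add_one, ← ih hfI]
      constructor
      · intro h hP0
        apply hfa0
        have := W₀.mul_mem h (W₀.inv_mem hP0)
        rwa [mul_inv_cancel_right] at this
      · intro hP0
        exact h2 _ hfa _ hP hfa0 hP0

open MulAction Subgroup in
open scoped IsMulCommutative in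
/-- The transfer of an involution `t` into a commutative subgroup `H` of odd index, when all
conjugates of `t` in `H` lie in `W` but outside its subgroup `W₀` of index 2, lies outside `W₀`. -/
theorem transfer_notMem_of_involution {G : Type*} [Group G] [Finite G] (H : Subgroup G)
    [IsMulCommutative H] (hodd : Odd H.index) (W W₀ : Subgroup ↥H)
    (h2 : ∀ x ∈ W, ∀ y ∈ W, x ∉ W₀ → y ∉ W₀ → x * y ∈ W₀)
    (t : G) (ht : orderOf t = 2)
    (hconj : ∀ (g : G) (hg : g⁻¹ * t * g ∈ H),
      (⟨g⁻¹ * t * g, hg⟩ : ↥H) ∈ W ∧ (⟨g⁻¹ * t * g, hg⟩ : ↥H) ∉ W₀) :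
    MonoidHom.transfer (MonoidHom.id ↥H) t ∉ W₀ := by
  classical
  have : Fintype (Quotient (orbitRel (zpowers t) (G ⧸ H))) := Fintype.ofFinite _
  have ht2 : t ^ 2 = 1 := by rw [← ht]; exact pow_orderOf_eq_one t
  have key : ∀ (g₀ : G) (k : ℕ) (_ : k ∣ 2) (hmem : g₀⁻¹ * t ^ k * g₀ ∈ H),
      (⟨g₀⁻¹ * t ^ k * g₀, hmem⟩ : ↥H) ∈ W ∧
        ((⟨g₀⁻¹ * t ^ k * g₀, hmem⟩ : ↥H) ∉ W₀ ↔ k = 1) := by
    intro g₀ k hk hmem
    rcases (Nat.dvd_prime Nat.prime_two).mp hk with h1 | h2'
    · subst h1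
      have hmem' : g₀⁻¹ * t * g₀ ∈ H := by simpa using hmem
      have e : (⟨g₀⁻¹ * t ^ 1 * g₀, hmem⟩ : ↥H) = ⟨g₀⁻¹ * t * g₀, hmem'⟩ :=
        Subtype.ext (show g₀⁻¹ * t ^ 1 * g₀ = g₀⁻¹ * t * g₀ by rw [pow_one])
      rw [e]
      exact ⟨(hconj g₀ hmem').1, ⟨fun _ => rfl, fun _ => (hconj g₀ hmem').2⟩⟩
    · subst h2'
      have e : (⟨g₀⁻¹ * t ^ 2 * g₀, hmem⟩ : ↥H) = 1 :=
        Subtype.ext (show g₀⁻¹ * t ^ 2 * g₀ = 1 by rw [ht2, mul_one, inv_mul_cancel])
      rw [e]
      exact ⟨W.one_mem, ⟨fun h => absurd W₀.one_mem h, fun h => absurd h (by norm_num)⟩⟩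
  have hper : ∀ q : Quotient (orbitRel (zpowers t) (G ⧸ H)),
      Function.minimalPeriod (t • ·) q.out ∣ 2 := by
    intro q
    rw [← ht, ← MulAction.pow_smul_eq_iff_minimalPeriod_dvd, pow_orderOf_eq_one, one_smul]
  rw [MonoidHom.transfer_eq_prod_quotient_orbitRel_zpowers_quot]
  simp only [MonoidHom.id_apply]
  rw [prod_mem_iff_even W W₀ h2 Finset.univ _ (fun q _ => (key _ _ (hper q) _).1)]
  have hfilter : (Finset.univ.filter (fun q : Quotient (orbitRel (zpowers t) (G ⧸ H)) =>
      (⟨q.out.out⁻¹ * t ^ Function.minimalPeriod (t • ·) q.out * q.out.out,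
        QuotientGroup.out_conj_pow_minimalPeriod_mem H t q.out⟩ : ↥H) ∉ W₀))
      = Finset.univ.filter (fun q : Quotient (orbitRel (zpowers t) (G ⧸ H)) =>
        Function.minimalPeriod (t • ·) q.out = 1) := by
    apply Finset.filter_congr
    intro q _
    exact (key _ _ (hper q) _).2
  rw [hfilter, ← Nat.not_odd_iff_even, not_not]
  -- parity of the number of fixed points
  have hsum := Subgroup.index_eq_sum_minimalPeriod H t
  rw [← Finset.sum_filter_add_sum_filter_not Finset.univ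
    (fun q : Quotient (orbitRel (zpowers t) (G ⧸ H)) =>
      Function.minimalPeriod (t • ·) q.out = 1)] at hsum
  rw [Finset.sum_congr rfl (g := fun _ => 1) (fun q hq => (Finset.mem_filter.1 hq).2)] at hsum
  rw [Finset.sum_const, smul_eq_mul, mul_one] at hsum
  have heven : Even (∑ q ∈ Finset.univ.filter (fun q : Quotient (orbitRel (zpowers t) (G ⧸ H)) =>
      ¬ Function.minimalPeriod (t • ·) q.out = 1), Function.minimalPeriod (t • ·) q.out) := by
    apply Finset.even_sum
    intro q hq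
    have h1 := (Finset.mem_filter.1 hq).2
    rcases (Nat.dvd_prime Nat.prime_two).mp (hper q) with h | h
    · exact absurd h h1
    · rw [h]; exact even_two
  rw [hsum] at hodd
  by_contra hne
  rw [Nat.not_odd_iff_even] at hne
  exact (Nat.not_odd_iff_even.2 (hne.add heven)) hodd

end Cfsg.Agent.Lib.Helper21_Transfer
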