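import Mathlib
import Cfsg.Agent.Lib.Helper37_InvCentDefs
import Cfsg.Agent.S1244

/-!
# REE-INV package THOMPSON (helper37's market, S1157)

Every non-identity element of `S = ⟨a⟩ × V` is conjugate to `a` under `N_G(S)`: `S` is an abelian
Sylow 2-subgroup of order 8, so Thompson transfer (`Cfsg.Agent.S1244.result`, with `r = 3`, `R = V`)
conjugates every involution of `S` into `V` inside `N_G(S)`; the non-identity elements of `V` are
conjugate by hypothesis.
-/

set_option autoImplicit false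

namespace Cfsg.Agent.Lib.Helper65_ReeInv_THOMPSON

open Cfsg.Agent.Lib.Helper37_InvCentDefs

variable {G : Type*} [Group G] [Finite G]

/-- a subgroup of order 8 of a group of order not divisible by 16 is a Sylow 2-subgroup -/
theorem exists_sylow_eq (S : Subgroup G) (h8 : Nat.card S = 8) (h16 : ¬ 16 ∣ Nat.card G) :
    ∃ P : Sylow 2 G, (P : Subgroup G) = S := by
  have : Fact (Nat.Prime 2) := ⟨Nat.prime_two⟩
  have hn : Nat.card G ≠ 0 := Nat.card_pos.ne'
  have hdvd : 2 ^ 3 ∣ Nat.card G := by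
    have := Subgroup.card_subgroup_dvd_card S
    rw [h8] at this
    exact this
  have h3 : 3 ≤ (Nat.card G).factorization 2 :=
    (Nat.Prime.pow_dvd_iff_le_factorization Nat.prime_two hn).1 hdvd
  have h4 : ¬ 4 ≤ (Nat.card G).factorization 2 := by
    intro h
    apply h16
    have := (Nat.Prime.pow_dvd_iff_le_factorization Nat.prime_two hn).2 h
    exact this
  have hf : (Nat.card G).factorization 2 = 3 := by omega
  exact ⟨Sylow.ofCard S (by rw [h8, hf]; norm_num), rfl⟩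

theorem conj_to_a {a : G} {L V : Subgroup G} (h : Hyp a L V) (hG : ∀ H : Subgroup G, H.index ≠ 2)
    (h16 : ¬ 16 ∣ Nat.card G)
    (hconj : ∀ v w : G, v ∈ V → w ∈ V → v ≠ 1 → w ≠ 1 →
      ∃ n ∈ Subgroup.normalizer (Sgp a V : Set G), n * v * n⁻¹ = w)
    (t : G) (ht : t ∈ Sgp a V) (ht1 : t ≠ 1) :
    ∃ n ∈ Subgroup.normalizer (Sgp a V : Set G), n * a * n⁻¹ = t := by
  have : Fact (Nat.Prime 2) := ⟨Nat.prime_two⟩
  obtain ⟨P, hP⟩ := exists_sylow_eq (Sgp a V) h.card_Sgp h16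
  have hcardP : Nat.card (P : Subgroup G) = 8 := by rw [hP]; exact h.card_Sgp
  have hVP : V ≤ (P : Subgroup G) := by rw [hP]; exact Hyp.V_le_Sgp a V
  -- commutativity
  have hcomm : IsMulCommutative (P : Subgroup G) := by
    refine ⟨⟨fun x y => Subtype.ext ?_⟩⟩
    have hx : (x : G) ∈ Sgp a V := by rw [← hP]; exact x.2
    have hy : (y : G) ∈ Sgp a V := by rw [← hP]; exact y.2
    exact h.comm_Sgp _ _ hx hy
  have hcommV : IsMulCommutative V := by
    refine ⟨⟨fun x y => Subtype.ext ?_⟩⟩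
    exact h.V_comm _ _ x.2 y.2
  -- the ranks
  have r1 : Cfsg.PRankLE 2 3 (P : Subgroup G) := by
    intro A _ _
    calc Nat.card A ≤ Nat.card (P : Subgroup G) := Subgroup.card_le_card_group A
      _ = 2 ^ 3 := by rw [hcardP]; norm_num
  have r2 : ¬ Cfsg.PRankLE 2 (3 - 1) (P : Subgroup G) := by
    intro hr
    have hc : IsMulCommutative (⊤ : Subgroup (P : Subgroup G)) := by
      refine ⟨⟨fun x y => Subtype.ext ?_⟩⟩
      exact hcomm.is_comm.comm x.1 y.1
    have := hr ⊤ hc (by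
      intro x _
      apply Subtype.ext
      have hx : (x : G) ∈ Sgp a V := by rw [← hP]; exact x.2
      show (x : G) ^ 2 = 1
      rw [pow_two]
      exact h.sq_Sgp _ hx)
    rw [Subgroup.card_top, hcardP] at this
    norm_num at this
  have r3 : Cfsg.PRankLE 2 (3 - 1) V := by
    intro A _ _
    calc Nat.card A ≤ Nat.card V := Subgroup.card_le_card_group A
      _ = 2 ^ (3 - 1) := by rw [h.hV4]; norm_num
  have r4 : ¬ Cfsg.PRankLE 2 (3 - 2) V := by
    intro hr
    have hc : IsMulCommutative (⊤ : Subgroup V) := by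
      refine ⟨⟨fun x y => Subtype.ext ?_⟩⟩
      exact hcommV.is_comm.comm x.1 y.1
    have := hr ⊤ hc (by
      intro x _
      apply Subtype.ext
      show (x : G) ^ 2 = 1
      rw [pow_two]
      exact h.hV2 _ x.2)
    rw [Subgroup.card_top, h.hV4] at this
    norm_num at this
  -- Thompson transfer
  have key : ∀ s : G, s ∈ Sgp a V → s ≠ 1 →
      ∃ n ∈ Subgroup.normalizer (Sgp a V : Set G), n * s * n⁻¹ ∈ V ∧ n * s * n⁻¹ ≠ 1 := by
    intro s hs hs1
    have hord : orderOf s = 2 := by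
      apply orderOf_eq_prime
      · rw [pow_two]; exact h.sq_Sgp s hs
      · exact hs1
    have hsP : s ∈ (P : Subgroup G) := by rw [hP]; exact hs
    obtain ⟨n, hn, hnV⟩ := Cfsg.Agent.S1244.result hG P hcomm 3 (by norm_num) ⟨r1, r2⟩ V hVP
      ⟨r3, Or.inr r4⟩ s hord hsP
    rw [hP] at hn
    refine ⟨n, hn, hnV, ?_⟩
    intro h1
    apply hs1
    have : s = n⁻¹ * (n * s * n⁻¹) * n := by group
    rw [this, h1]
    group
  obtain ⟨n1, hn1, hv, hv1⟩ := key t ht ht1
  obtain ⟨n2, hn2, hw, hw1⟩ := key a h.a_mem_Sgp h.a_ne_one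
  obtain ⟨n3, hn3, e3⟩ := hconj _ _ hw hv hw1 hv1
  refine ⟨n1⁻¹ * n3 * n2, Subgroup.mul_mem _ (Subgroup.mul_mem _ (Subgroup.inv_mem _ hn1) hn3) hn2, ?_⟩
  have : n1⁻¹ * n3 * n2 * a * (n1⁻¹ * n3 * n2)⁻¹ = n1⁻¹ * (n3 * (n2 * a * n2⁻¹) * n3⁻¹) * n1 := by
    group
  rw [this, e3]
  group

end Cfsg.Agent.Lib.Helper65_ReeInv_THOMPSON
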