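import Mathlib
import Cfsg.Agent.Lib.Helper37_InvCentDefs

set_option autoImplicit false

/-!
REEINV-NA24 (architect helper37): `N_G(S) ∩ C_G(a)` has 24 elements.
-/

namespace Cfsg.Agent.Lib.Helper79_ReeInv_NA24

open Cfsg.Agent.Lib.Helper37_InvCentDefs

variable {G : Type*} [Group G]

/-- an element of `L` normalising `V` normalises `S` -/
theorem norm_S_of_norm_V {a : G} {L V : Subgroup G} (h : Hyp a L V) (x : G) (hxL : x ∈ L)
    (hxV : ∀ v, v ∈ V ↔ x * v * x⁻¹ ∈ V) : x ∈ Subgroup.normalizer (Sgp a V : Set G) := by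
  rw [Subgroup.mem_set_normalizer_iff]
  intro s
  rw [SetLike.mem_coe, SetLike.mem_coe, h.mem_Sgp, h.mem_Sgp]
  have hax : a * x = x * a := h.hLa x hxL
  have e : a * (x * s * x⁻¹) = x * (a * s) * x⁻¹ := by
    have : a * (x * s * x⁻¹) = (a * x) * s * x⁻¹ := by group
    rw [this, hax]; group
  rw [e, ← hxV s, ← hxV (a * s)]

/-- an element of `L` normalising `S` normalises `V` -/
theorem norm_V_of_norm_S {a : G} {L V : Subgroup G} (h : Hyp a L V) (x : G) (hxL : x ∈ L)
    (hxS : x ∈ Subgroup.normalizer (Sgp a V : Set G)) : ∀ v, v ∈ V ↔ x * v * x⁻¹ ∈ V := by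
  intro v
  have hS := Subgroup.mem_set_normalizer_iff.1 hxS
  constructor
  · intro hv
    have h1 : x * v * x⁻¹ ∈ Sgp a V := (hS v).1 (Hyp.V_le_Sgp a V hv)
    have h2 : x * v * x⁻¹ ∈ L := L.mul_mem (L.mul_mem hxL (h.hVL hv)) (L.inv_mem hxL)
    rw [← h.Sgp_inf]; exact ⟨h1, h2⟩
  · intro hv
    have h1 : v ∈ Sgp a V := (hS v).2 (Hyp.V_le_Sgp a V hv)
    have h2 : v ∈ L := by
      have : v = x⁻¹ * (x * v * x⁻¹) * x := by group
      rw [this]; exact L.mul_mem (L.mul_mem (L.inv_mem hxL) (h.hVL hv)) hxL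
    rw [← h.Sgp_inf]; exact ⟨h1, h2⟩

theorem card_normalizer_inf [Finite G] {a : G} {L V : Subgroup G} (h : Hyp a L V) :
    Nat.card ↥(Subgroup.normalizer (Sgp a V : Set G) ⊓ Subgroup.centralizer {a}) = 24 := by
  classical
  have haN : a ∈ Subgroup.normalizer (Sgp a V : Set G) := Subgroup.le_normalizer h.a_mem_Sgp
  have haC : a ∈ Subgroup.centralizer ({a} : Set G) := Subgroup.mem_centralizer_singleton_iff.2 rfl
  have h1M : ∀ b : Bool, (if b then a else 1) ∈
      Subgroup.normalizer (Sgp a V : Set G) ⊓ Subgroup.centralizer {a} := by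
    intro b
    cases b
    · exact Subgroup.one_mem _
    · exact ⟨haN, haC⟩
  have hxM : ∀ x : {x : G // x ∈ L ∧ ∀ v, v ∈ V ↔ x * v * x⁻¹ ∈ V}, (x : G) ∈
      Subgroup.normalizer (Sgp a V : Set G) ⊓ Subgroup.centralizer {a} := by
    intro x
    exact ⟨norm_S_of_norm_V h x x.2.1 x.2.2,
      Subgroup.mem_centralizer_singleton_iff.2 (h.hLa x x.2.1).symm⟩
  let f : Bool × {x : G // x ∈ L ∧ ∀ v, v ∈ V ↔ x * v * x⁻¹ ∈ V} →
      ↥(Subgroup.normalizer (Sgp a V : Set G) ⊓ Subgroup.centralizer {a}) :=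
    fun p => ⟨(if p.1 then a else 1) * (p.2 : G), Subgroup.mul_mem _ (h1M p.1) (hxM p.2)⟩
  have hinj : Function.Injective f := by
    rintro ⟨i, x⟩ ⟨j, y⟩ hxy
    have hxy' : (if i then a else 1) * (x : G) = (if j then a else 1) * (y : G) :=
      congrArg Subtype.val hxy
    cases i <;> cases j
    · simp only [Bool.false_eq_true, if_false, one_mul] at hxy'
      exact Prod.ext rfl (Subtype.ext hxy')
    · exfalso
      simp only [Bool.false_eq_true, if_false, one_mul, if_true] at hxy'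
      apply h.haL
      have : a = (x : G) * (y : G)⁻¹ := by rw [hxy']; group
      rw [this]
      exact L.mul_mem x.2.1 (L.inv_mem y.2.1)
    · exfalso
      simp only [Bool.false_eq_true, if_false, one_mul, if_true] at hxy'
      apply h.haL
      have : a = (y : G) * (x : G)⁻¹ := by rw [← hxy']; group
      rw [this]
      exact L.mul_mem y.2.1 (L.inv_mem x.2.1)
    · simp only [if_true] at hxy'
      exact Prod.ext rfl (Subtype.ext (mul_left_cancel hxy'))
  have hsurj : Function.Surjective f := by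
    rintro ⟨g, hgN, hgC⟩
    have hga : a * g = g * a := (Subgroup.mem_centralizer_singleton_iff.1 hgC).symm
    rcases h.hC g hga with hgL | hgL
    · refine ⟨(false, ⟨g, hgL, norm_V_of_norm_S h g hgL hgN⟩), ?_⟩
      apply Subtype.ext
      show (if false = true then a else 1) * g = g
      simp
    · have hN : a * g ∈ Subgroup.normalizer (Sgp a V : Set G) := Subgroup.mul_mem _ haN hgN
      refine ⟨(true, ⟨a * g, hgL, norm_V_of_norm_S h (a * g) hgL hN⟩), ?_⟩
      apply Subtype.ext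
      show (if true = true then a else 1) * (a * g) = g
      rw [if_pos rfl, h.a_mul_a_mul]
  rw [← Nat.card_congr (Equiv.ofBijective f ⟨hinj, hsurj⟩), Nat.card_prod, h.hVn,
    Nat.card_eq_fintype_card, Fintype.card_bool]

end Cfsg.Agent.Lib.Helper79_ReeInv_NA24
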