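import Mathlib
import Cfsg.Agent.Lib.Helper37_InvCentDefs
import Cfsg.Agent.Lib.Helper79_ReeInv_NA24

set_option autoImplicit false

/-!
REEINV-CONJV (architect helper37): the non-identity elements of `V` are conjugate under
`N_L(V) ≤ N_G(S)`.
-/

namespace Cfsg.Agent.Lib.Helper79_ReeInv_CONJV

open Cfsg.Agent.Lib.Helper37_InvCentDefs Cfsg.Agent.Lib.Helper79_ReeInv_NA24

variable {G : Type*} [Group G]

/-- a four-group of exponent 2 is `{1, p, r, rp}` -/
theorem enumV [Finite G] {a : G} {L V : Subgroup G} (h : Hyp a L V) {p r : G} (hp : p ∈ V)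
    (hr : r ∈ V) (hp1 : p ≠ 1) (hr1 : r ≠ 1) (hrp : r ≠ p) :
    ∀ y ∈ V, y = 1 ∨ y = p ∨ y = r ∨ y = r * p := by
  classical
  have hpp : p * p = 1 := h.hV2 p hp
  have hrp1 : r * p ≠ 1 := by
    intro e
    apply hrp
    calc r = r * (p * p) := by rw [hpp, mul_one]
      _ = (r * p) * p := by rw [mul_assoc]
      _ = p := by rw [e, one_mul]
  have hprp : p ≠ r * p := by
    intro e
    apply hr1
    have : 1 * p = r * p := by rw [one_mul]; exact e
    exact (mul_right_cancel this).symm
  have hrrp : r ≠ r * p := by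
    intro e
    apply hp1
    have : r * 1 = r * p := by rw [mul_one]; exact e
    exact (mul_left_cancel this).symm
  set T : Finset G := {1, p, r, r * p} with hT
  have hTcard : T.card = 4 := by
    rw [hT, Finset.card_insert_of_notMem, Finset.card_insert_of_notMem,
      Finset.card_insert_of_notMem, Finset.card_singleton]
    · simpa using hrrp
    · simp only [Finset.mem_insert, Finset.mem_singleton, not_or]
      exact ⟨fun e => hrp e.symm, hprp⟩
    · simp only [Finset.mem_insert, Finset.mem_singleton, not_or]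
      exact ⟨fun e => hp1 e.symm, fun e => hr1 e.symm, fun e => hrp1 e.symm⟩
  have hsub : (T : Set G) ⊆ (V : Set G) := by
    intro y hy
    rw [Finset.mem_coe, hT] at hy
    simp only [Finset.mem_insert, Finset.mem_singleton] at hy
    rcases hy with rfl | rfl | rfl | rfl
    · exact V.one_mem
    · exact hp
    · exact hr
    · exact V.mul_mem hr hp
  have hVcard : (V : Set G).ncard = 4 := by
    rw [← Nat.card_coe_set_eq]; exact h.hV4
  have heq : (T : Set G) = (V : Set G) := by
    apply Set.eq_of_subset_of_ncard_le hsub _ (Set.toFinite _)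
    rw [hVcard, Set.ncard_coe_finset, hTcard]
  intro y hy
  have : y ∈ (T : Set G) := by rw [heq]; exact hy
  rw [Finset.mem_coe, hT] at this
  simpa only [Finset.mem_insert, Finset.mem_singleton] using this

/-- there is a third element -/
theorem exists_third [Finite G] {a : G} {L V : Subgroup G} (h : Hyp a L V) (p : G) :
    ∃ r ∈ V, r ≠ 1 ∧ r ≠ p := by
  classical
  by_contra hcon
  push Not at hcon
  have hsub : (V : Set G) ⊆ ({1, p} : Set G) := by
    intro y hy
    by_cases hy1 : y = 1
    · left; exact hy1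
    · right; exact hcon y hy hy1
  have h1 : (V : Set G).ncard ≤ ({1, p} : Set G).ncard :=
    Set.ncard_le_ncard hsub (Set.toFinite _)
  have h2 : ({1, p} : Set G).ncard ≤ 2 := by
    have := Set.ncard_insert_le (1 : G) ({p} : Set G)
    rw [Set.ncard_singleton] at this
    exact this
  have hVcard : (V : Set G).ncard = 4 := by
    rw [← Nat.card_coe_set_eq]; exact h.hV4
  omega

/-- an element of `L` normalising `V`, of order 3, fixes no non-identity element of `V` -/
theorem no_fix [Finite G] {a : G} {L V : Subgroup G} (h : Hyp a L V) {x : G} (hxL : x ∈ L)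
    (hxV : ∀ v, v ∈ V ↔ x * v * x⁻¹ ∈ V) (hx3 : x * x * x = 1) (hx1 : x ≠ 1) {p : G} (hp : p ∈ V)
    (hp1 : p ≠ 1) : x * p * x⁻¹ ≠ p := by
  intro hfix
  have hxp : x * p = p * x := by
    calc x * p = x * p * x⁻¹ * x := by group
      _ = p * x := by rw [hfix]
  obtain ⟨r, hr, hr1, hrp⟩ := exists_third h p
  have hen := enumV h hp hr hp1 hr1 hrp
  -- an element of `L` commuting with `p` and `r` lies in `V`, so has square one
  have key : ∀ y : G, y ∈ L → y * p = p * y → y * r = r * y → y * y = 1 := by
    intro y hyL hyp hyr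
    apply h.hV2
    apply h.hVc y hyL
    intro v hv
    rcases hen v hv with rfl | rfl | rfl | rfl
    · rw [mul_one, one_mul]
    · exact hyp
    · exact hyr
    · rw [← mul_assoc, hyr, mul_assoc, hyp, mul_assoc]
  have hcr : x * r * x⁻¹ ∈ V := (hxV r).1 hr
  rcases hen _ hcr with e | e | e | e
  · apply hr1
    have : x * r = x := by
      calc x * r = x * r * x⁻¹ * x := by group
        _ = x := by rw [e, one_mul]
    exact mul_left_cancel (this.trans (mul_one x).symm)
  · apply hrp
    have : x * r * x⁻¹ = x * p * x⁻¹ := by rw [e, hfix]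
    exact mul_left_cancel (mul_right_cancel this)
  · -- `x` centralises `V`
    have hxr : x * r = r * x := by
      calc x * r = x * r * x⁻¹ * x := by group
        _ = r * x := by rw [e]
    have hxx := key x hxL hxp hxr
    apply hx1
    calc x = (x * x) * x * (x * x)⁻¹ := by group
      _ = 1 := by rw [hx3, hxx]; group
  · -- `x²` centralises `V`
    have hxr : x * r = r * p * x := by
      calc x * r = x * r * x⁻¹ * x := by group
        _ = r * p * x := by rw [e]
    have hpp : p * p = 1 := h.hV2 p hp
    have hyp : (x * x) * p = p * (x * x) := by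
      rw [mul_assoc, hxp, ← mul_assoc, hxp, mul_assoc]
    have hyr : (x * x) * r = r * (x * x) := by
      calc (x * x) * r = x * (x * r) := by rw [mul_assoc]
        _ = x * (r * p * x) := by rw [hxr]
        _ = (x * r) * (p * x) := by simp only [mul_assoc]
        _ = (r * p * x) * (p * x) := by rw [hxr]
        _ = r * p * (x * p) * x := by simp only [mul_assoc]
        _ = r * p * (p * x) * x := by rw [hxp]
        _ = r * (p * p) * (x * x) := by simp only [mul_assoc]
        _ = r * (x * x) := by rw [hpp, mul_one]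
    have hxx := key (x * x) (L.mul_mem hxL hxL) hyp hyr
    apply hx1
    calc x = (x * x * (x * x)) * (x * x * x)⁻¹ := by group
      _ = 1 := by rw [hx3, hxx]; group

theorem conj_in_V [Finite G] {a : G} {L V : Subgroup G} (h : Hyp a L V) (v w : G) (hv : v ∈ V)
    (hw : w ∈ V) (hv1 : v ≠ 1) (hw1 : w ≠ 1) :
    ∃ n ∈ Subgroup.normalizer (Sgp a V : Set G), n * v * n⁻¹ = w := by
  classical
  by_cases hvw : w = v
  · exact ⟨1, Subgroup.one_mem _, by rw [hvw]; group⟩
  -- the subgroup `N_L(V)` has 12 elements
  set N0 : Subgroup G := Subgroup.normalizer (V : Set G) ⊓ L with hN0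
  have hN0card : Nat.card N0 = 12 := by
    rw [← h.hVn]
    apply Nat.card_congr
    apply Equiv.subtypeEquivRight
    intro x
    rw [hN0, Subgroup.mem_inf, Subgroup.mem_set_normalizer_iff]
    simp only [SetLike.mem_coe]
    tauto
  have h3 : 3 ∣ Nat.card N0 := by rw [hN0card]; norm_num
  have : Fact (Nat.Prime 3) := ⟨by norm_num⟩
  obtain ⟨x0, hx0⟩ := exists_prime_orderOf_dvd_card' (G := N0) 3 h3
  set x : G := (x0 : G) with hx
  have hox : orderOf x = 3 := by rw [hx, Subgroup.orderOf_coe]; exact hx0
  have hxmem : x ∈ N0 := x0.2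
  have hxL : x ∈ L := hxmem.2
  have hxV : ∀ v, v ∈ V ↔ x * v * x⁻¹ ∈ V := by
    intro v
    have := Subgroup.mem_set_normalizer_iff.1 hxmem.1 v
    simpa only [SetLike.mem_coe] using this
  have hx3 : x * x * x = 1 := by
    have := pow_orderOf_eq_one x
    rw [hox, pow_succ, pow_two] at this
    exact this
  have hx1 : x ≠ 1 := by
    intro e
    rw [e, orderOf_one] at hox
    omega
  have hxN : x ∈ Subgroup.normalizer (Sgp a V : Set G) := norm_S_of_norm_V h x hxL hxV
  have hen := enumV h hv hw hv1 hw1 hvw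
  have hnf := fun {p : G} (hp : p ∈ V) (hp1 : p ≠ 1) => no_fix h hxL hxV hx3 hx1 hp hp1
  have hvv : v * v = 1 := h.hV2 v hv
  have hc1 : x * v * x⁻¹ ∈ V := (hxV v).1 hv
  have hne1 : ∀ y : G, y ≠ 1 → x * y * x⁻¹ ≠ 1 := by
    intro y hy e
    apply hy
    have : x * y = x := by
      calc x * y = x * y * x⁻¹ * x := by group
        _ = x := by rw [e, one_mul]
    exact mul_left_cancel (this.trans (mul_one x).symm)
  rcases hen _ hc1 with e | e | e | e
  · exact absurd e (hne1 v hv1)
  · exact absurd e (hnf hv hv1)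
  · exact ⟨x, hxN, e⟩
  · -- `x v x⁻¹ = w v`; then `x (w v) x⁻¹ = w`
    have hwv : w * v ∈ V := V.mul_mem hw hv
    have hwv1 : w * v ≠ 1 := by
      intro e1
      apply hvw
      calc w = w * (v * v) := by rw [hvv, mul_one]
        _ = (w * v) * v := by rw [mul_assoc]
        _ = v := by rw [e1, one_mul]
    have hc2 : x * (w * v) * x⁻¹ ∈ V := (hxV _).1 hwv
    refine ⟨x * x, Subgroup.mul_mem _ hxN hxN, ?_⟩
    have e2 : x * x * v * (x * x)⁻¹ = x * (w * v) * x⁻¹ := by
      calc x * x * v * (x * x)⁻¹ = x * (x * v * x⁻¹) * x⁻¹ := by group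
        _ = x * (w * v) * x⁻¹ := by rw [e]
    rw [e2]
    rcases hen _ hc2 with e3 | e3 | e3 | e3
    · exact absurd e3 (hne1 _ hwv1)
    · -- then `x` fixes `w`
      exfalso
      apply hnf hw hw1
      have hw_eq : w = (w * v) * v := by rw [mul_assoc, hvv, mul_one]
      calc x * w * x⁻¹ = x * ((w * v) * v) * x⁻¹ := by rw [← hw_eq]
        _ = (x * (w * v) * x⁻¹) * (x * v * x⁻¹) := by group
        _ = v * (w * v) := by rw [e3, e]
        _ = w * (v * v) := by rw [h.V_comm v (w * v) hv hwv, mul_assoc]
        _ = w := by rw [hvv, mul_one]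
    · exact e3
    · exact absurd e3 (hnf hwv hwv1)

end Cfsg.Agent.Lib.Helper79_ReeInv_CONJV
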