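import Cfsg.Agent.Lib.Helper37_InvCentDefs
import Cfsg.Agent.Lib.Helper52_ReeInv_CENT
import Cfsg.Agent.Lib.Helper79_ReeInv_CONJV
import Cfsg.Agent.Lib.Helper79_ReeInv_NA24
import Cfsg.Agent.Lib.Helper43_ReeInv_ORBIT
import Cfsg.Agent.Lib.Helper52_ReeInv_SYLCONJ
import Cfsg.Agent.Lib.Helper65_ReeInv_THOMPSON

set_option autoImplicit false

/-!
Assembly of the abstract part: in a finite group `G` without subgroups of index 2 and of order not divisible by 16, in
which the centraliser of an involution `a` is `⟨a⟩ × L` with `L` having a self-centralising four-group `V` of exponent 2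
with `|N_L(V)| = 12`, every Sylow 2-subgroup `P` satisfies `C(P) = P` and `|N(P)| = 168`.
-/

namespace Cfsg.Agent.Lib.Helper37_InvCentMain

open Cfsg.Agent.Lib.Helper37_InvCentDefs

variable {G : Type*} [Group G] [Finite G]

theorem sylow_two_of_hyp {a : G} {L V : Subgroup G} (h : Hyp a L V) (hG : ∀ H : Subgroup G, H.index ≠ 2)
    (h16 : ¬ 16 ∣ Nat.card G) (P : Sylow 2 G) :
    Subgroup.centralizer ((P : Subgroup G) : Set G) = P ∧
      Nat.card ↥(Subgroup.normalizer ((P : Subgroup G) : Set G)) = 168 := by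
  have hc := Cfsg.Agent.Lib.Helper52_ReeInv_CENT.centralizer_Sgp h
  have h24 := Cfsg.Agent.Lib.Helper79_ReeInv_NA24.card_normalizer_inf h
  have hconj := Cfsg.Agent.Lib.Helper79_ReeInv_CONJV.conj_in_V h
  have h7 := Cfsg.Agent.Lib.Helper65_ReeInv_THOMPSON.conj_to_a h hG h16 hconj
  have hn := Cfsg.Agent.Lib.Helper43_ReeInv_ORBIT.card_normalizer_Sgp h h24 h7
  exact Cfsg.Agent.Lib.Helper52_ReeInv_SYLCONJ.sylow_two (Sgp a V) h.card_Sgp h16 hc hn P

end Cfsg.Agent.Lib.Helper37_InvCentMain
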