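import Cfsg.Agent.Lib.Helper18_ChevCent

set_option autoImplicit false

/-!
Ring endomorphisms of the field acting entrywise on the Chevalley group; the subgroup of fixed points and the
subgroup generated by the root elements with fixed parameters.
-/

namespace Cfsg.Agent.Lib.Helper18_ChevFrob

open Cfsg Cfsg.Lie Cfsg.Agent.Lib.Helper18_ChevFast Cfsg.Agent.Lib.Helper18_ChevEngine
  Cfsg.Agent.Lib.Helper18_ChevR1 Cfsg.Agent.Lib.Helper18_ChevN Cfsg.Agent.Lib.Helper18_ChevR4
  Cfsg.Agent.Lib.Helper18_ChevSimple Cfsg.Agent.Lib.Helper18_ChevSimple2 Cfsg.Agent.Lib.Helper18_ChevFacts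
  Cfsg.Agent.Lib.Helper18_ChevWeyl Cfsg.Agent.Lib.Helper18_ChevDiag Cfsg.Agent.Lib.Helper18_ChevCar
  Cfsg.Agent.Lib.Helper18_ChevTorus Cfsg.Agent.Lib.Helper18_ChevGL Cfsg.Agent.Lib.Helper18_ChevComm
  Cfsg.Agent.Lib.Helper18_ChevComm2 Cfsg.Agent.Lib.Helper18_MatTri Cfsg.Agent.Lib.Helper18_ChevTri
  Cfsg.Agent.Lib.Helper18_ChevBorel Cfsg.Agent.Lib.Helper18_ChevAdd Cfsg.Agent.Lib.Helper18_ChevUni
  Cfsg.Agent.Lib.Helper18_ChevBN Cfsg.Agent.Lib.Helper18_ChevMono Cfsg.Agent.Lib.Helper18_ChevBNPair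
  Cfsg.Agent.Lib.Helper18_ChevSimp Cfsg.Agent.Lib.Helper18_ChevJCerts Cfsg.Agent.Lib.Helper18_ChevLevi
  Cfsg.Agent.Lib.Helper18_ChevBruhat Cfsg.Agent.Lib.Helper18_ChevPar Cfsg.Agent.Lib.Helper18_ChevRootHom
  Cfsg.Agent.Lib.Helper18_ChevOrder Cfsg.Agent.Lib.Helper18_ChevSylow Cfsg.Agent.Lib.Helper18_ChevCent

variable {D : ChevalleyDatum} {Ns : List NData} {F : Type*} [Field F]
variable {wl : List ℤ} {ws : List (List ℤ)} {sc : ℤ} {w : List ℤ} {d : ℕ}

/-! ### Entrywise maps -/

theorem xMat_map {F' : Type*} [Field F'] (f : F →+* F') (r : Fin D.nroots) (t : F) :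
    (D.xMat F r t).map f = D.xMat F' r (f t) := by
  ext row col
  rw [Matrix.map_apply]
  unfold ChevalleyDatum.xMat
  simp only [Matrix.of_apply]
  rcases col with i | s
  · rcases row with i' | u
    · simp only
      split_ifs <;> simp
    · simp only
      split_ifs <;> simp
  · simp only
    by_cases h1 : s = r
    · simp only [if_pos h1]
      rcases row with i' | u
      · simp
      · simp only
        split_ifs <;> simp
    · simp only [if_neg h1]
      by_cases h2 : s.val = D.negIdx.getD r.val 0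
      · simp only [if_pos h2]
        rcases row with i' | u
        · simp
        · simp only
          split_ifs <;> simp
      · simp only [if_neg h2]
        rcases row with i' | u
        · simp
        · simp only
          rw [map_add, map_list_sum, List.map_map]
          congr 1
          · split_ifs <;> simp
          · congr 1
            apply List.map_congr_left
            intro km _
            simp

theorem x_map {F' : Type*} [Field F'] (f : F →+* F') (r : ℕ) (t : F) :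
    (D.x F r t).map f = D.x F' r (f t) := by
  unfold ChevalleyDatum.x
  by_cases h : r < D.nroots
  · rw [dif_pos h, dif_pos h, xMat_map]
  · rw [dif_neg h, dif_neg h]
    exact Matrix.map_one f (map_zero f) (map_one f)

/-- The entrywise map on the general linear group. -/
def mapGL (D : ChevalleyDatum) (f : F →+* F) : GL D.Idx F →* GL D.Idx F :=
  Units.map (f.mapMatrix : Matrix D.Idx D.Idx F →+* Matrix D.Idx D.Idx F).toMonoidHom

theorem mapGL_coe (f : F →+* F) (g : GL D.Idx F) :
    ((mapGL D f g : GL D.Idx F) : Matrix D.Idx D.Idx F) = (g : Matrix D.Idx D.Idx F).map f := rfl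

theorem mapGL_xGL (c : DCert D Ns) (f : F →+* F) (r : ℕ) (t : F) : mapGL D f (xGL c r t) = xGL c r (f t) := by
  apply Units.ext
  rw [mapGL_coe, xGL_coe, xGL_coe, x_map]

theorem mapGL_wordGL (c : DCert D Ns) (f : F →+* F) (l : List (ℕ × F)) :
    mapGL D f (wordGL c l) = wordGL c (l.map fun p => (p.1, f p.2)) := by
  unfold wordGL
  rw [map_list_prod, List.map_map, List.map_map]
  congr 1
  apply List.map_congr_left
  intro p _
  exact mapGL_xGL c f p.1 p.2

theorem mapGL_nGL (c : DCert D Ns) (f : F →+* F) (i : ℕ) : mapGL D f (nGL c i : GL D.Idx F) = nGL c i := by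
  unfold nGL
  rw [mapGL_wordGL]
  unfold ChevalleyDatum.nWord
  simp

theorem mapGL_hGL (c : DCert D Ns) (f : F →+* F) (r : ℕ) (a : F) : mapGL D f (hGL c r a) = hGL c r (f a) := by
  unfold hGL
  rw [mapGL_wordGL]
  unfold ChevalleyDatum.hWord ChevalleyDatum.nWord
  simp

/-- The fixed points of the entrywise map. -/
theorem mapGL_eq_self_iff (f : F →+* F) (g : GL D.Idx F) :
    mapGL D f g = g ↔ ∀ i j : D.Idx, f ((g : Matrix D.Idx D.Idx F) i j) = (g : Matrix D.Idx D.Idx F) i j := by
  constructor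
  · intro h i j
    have := congrArg (fun x : GL D.Idx F => (x : Matrix D.Idx D.Idx F) i j) h
    exact this
  · intro h
    apply Units.ext
    ext i j
    exact h i j

theorem mapGL_mem_of_closure (f : F →+* F) (S : Set (GL D.Idx F)) (T : Subgroup (GL D.Idx F))
    (h : ∀ s ∈ S, mapGL D f s ∈ T) (g : GL D.Idx F) (hg : g ∈ Subgroup.closure S) : mapGL D f g ∈ T := by
  have : Subgroup.closure S ≤ T.comap (mapGL D f) := by
    rw [Subgroup.closure_le]
    exact h
  exact this hg

theorem mapGL_mem_group (c : DCert D Ns) (f : F →+* F) (g : GL D.Idx F) (hg : g ∈ D.group F) :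
    mapGL D f g ∈ D.group F := by
  apply mapGL_mem_of_closure f _ _ _ g hg
  rintro s ⟨r, t, hs⟩
  have : s = xGL c r.val t := by
    apply Units.ext
    rw [hs, xGL_coe]
    unfold ChevalleyDatum.x
    rw [dif_pos r.2]
  rw [this, mapGL_xGL]
  exact xGL_mem_group c _ _

theorem mapGL_mem_pos (c : DCert D Ns) (f : F →+* F) (g : GL D.Idx F) (hg : g ∈ D.posUnipotent F) :
    mapGL D f g ∈ D.posUnipotent F := by
  apply mapGL_mem_of_closure f _ _ _ g hg
  rintro s ⟨r, t, hr, hs⟩
  rw [eq_xGL c hs, mapGL_xGL]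
  exact Subgroup.subset_closure ⟨r, _, hr, rfl⟩

theorem mapGL_mem_diagonal (c : DCert D Ns) (f : F →+* F) (g : GL D.Idx F) (hg : g ∈ D.diagonalSubgroup F) :
    mapGL D f g ∈ D.diagonalSubgroup F := by
  apply mapGL_mem_of_closure f _ _ _ g hg
  rintro s ⟨r, t, hr, ht, hs⟩
  have : s = hGL c r t := by
    apply Units.ext
    rw [hs, hGL_coe]
  rw [this, mapGL_hGL]
  exact hGL_mem c r hr _ (by rwa [Ne, map_eq_zero])

theorem mapGL_mem_borel (c : DCert D Ns) (f : F →+* F) (g : GL D.Idx F) (hg : g ∈ D.borelSubgroup F) :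
    mapGL D f g ∈ D.borelSubgroup F := by
  unfold ChevalleyDatum.borelSubgroup at hg ⊢
  rw [Subgroup.sup_eq_closure] at hg
  apply mapGL_mem_of_closure f _ _ _ g hg
  rintro s (hs | hs)
  · exact Subgroup.mem_sup_left (mapGL_mem_pos c f s hs)
  · exact Subgroup.mem_sup_right (mapGL_mem_diagonal c f s hs)

theorem mapGL_simpleN (c : DCert D Ns) (f : F →+* F) (g : GL D.Idx F) (hg : g ∈ simpleN c F) :
    mapGL D f g = g := by
  unfold simpleN at hg
  induction hg using Subgroup.closure_induction with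
  | mem x hx =>
    obtain ⟨i, _, rfl⟩ := hx
    exact mapGL_nGL c f i
  | one => exact map_one _
  | mul x y _ _ ihx ihy => rw [map_mul, ihx, ihy]
  | inv x _ ih => rw [map_inv, ih]

/-! ### Elements that conjugate the fundamental root elements into `B` -/

theorem negGens_le_pos (c : DCert D Ns) (π : ℕ → ℕ) :
    Subgroup.closure (negGens c F π) ≤ D.posUnipotent F := by
  rw [Subgroup.closure_le]
  rintro x ⟨r, t, hr, -, rfl⟩
  exact Subgroup.subset_closure ⟨r, t, hr, rfl⟩

theorem conj_negGens (c : DCert D Ns) {n : GL D.Idx F} {π : ℕ → ℕ} (hact : ActsAs c n π) (u : GL D.Idx F)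
    (hu : u ∈ Subgroup.closure (negGens c F π)) : n * u * n⁻¹ ∈ D.negUnipotent F := by
  apply conj_closure_le n _ _ _ u hu
  rintro s ⟨r, t, hr, hneg, rfl⟩
  obtain ⟨-, a, -, e⟩ := hact r hr.1
  rw [e]
  exact Subgroup.subset_closure ⟨_, _, hneg, rfl⟩

/-- If `n` makes the fundamental root `p` negative and conjugates `y x_p(t)`, `y ∈ U_p`, into `B`, then `t = 0`. -/
theorem param_zero_of_conj_mem_borel (c : DCert D Ns) (tc : TCert D) (ac : ACert D wl ws sc) (gc : GCert D w d)
    (hdesc : Descent D) (hR2 : R2All D F) (n : GL D.Idx F) (π : ℕ → ℕ) (hact : ActsAs c n π) (hlin : LinMap D π)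
    (j : ℕ) (hj : j < D.rank) (hneg : D.IsNegRoot (π (D.simple j))) (y : GL D.Idx F)
    (hy : y ∈ Subgroup.closure (upGens D F j)) (t : F)
    (hB : n * (y * xGL c (D.simple j) t) * n⁻¹ ∈ D.borelSubgroup F) : t = 0 := by
  have hpj := (tc.simple_pos j hj).1
  have hact' : ActsAs c (n * nGL c j) (π ∘ D.reflectRoot j) := hact.mul c (actsAs_nGL c j hj)
  have hlin' : LinMap D (π ∘ D.reflectRoot j) := hlin.comp (linMap_reflect c j hj)
  have hni := Subgroup.inv_mem _ (nGL_mem_normalizer_up (F := F) c tc ac hR2 j hj)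
  have hy' : (nGL c j)⁻¹ * y * nGL c j ∈ Subgroup.closure (upGens D F j) := by
    have := (Subgroup.mem_normalizer_iff.mp hni y).mp hy
    rwa [inv_inv] at this
  obtain ⟨b₁, hb₁, u', hu', e⟩ :=
    mul_pos_decomp c tc ac hdesc hR2 _ (n * nGL c j) _ hact' hlin' rfl _ (up_le_pos j hy')
  obtain ⟨-, a, ha, ea⟩ := hact (D.simple j) hpj
  have hv : (n * nGL c j) * u' * (n * nGL c j)⁻¹ ∈ D.negUnipotent F := conj_negGens c hact' u' hu'
  have h1 : n * y * n⁻¹ = b₁ * ((n * nGL c j) * u' * (n * nGL c j)⁻¹) := by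
    have : n * y * n⁻¹ = ((n * nGL c j) * ((nGL c j)⁻¹ * y * nGL c j)) * (n * nGL c j)⁻¹ := by group
    rw [this, e]
    group
  have e2 : n * (y * xGL c (D.simple j) t) * n⁻¹ =
      b₁ * (((n * nGL c j) * u' * (n * nGL c j)⁻¹) * xGL c (π (D.simple j)) (a * t)) := by
    have : n * (y * xGL c (D.simple j) t) * n⁻¹ = (n * y * n⁻¹) * (n * xGL c (D.simple j) t * n⁻¹) := by group
    rw [this, h1, ea t, mul_assoc]
  have hv2 : ((n * nGL c j) * u' * (n * nGL c j)⁻¹) * xGL c (π (D.simple j)) (a * t) ∈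
      D.borelSubgroup F ⊓ D.negUnipotent F := by
    refine Subgroup.mem_inf.mpr ⟨?_, Subgroup.mul_mem _ hv (Subgroup.subset_closure ⟨_, _, hneg, rfl⟩)⟩
    have : ((n * nGL c j) * u' * (n * nGL c j)⁻¹) * xGL c (π (D.simple j)) (a * t) =
        b₁⁻¹ * (n * (y * xGL c (D.simple j) t) * n⁻¹) := by
      rw [e2]
      group
    rw [this]
    exact Subgroup.mul_mem _ (Subgroup.inv_mem _ (Subgroup.mem_sup_left hb₁)) hB
  rw [borel_inf_neg c tc gc, Subgroup.mem_bot] at hv2
  have e3 : u' = (n * nGL c j)⁻¹ * xGL c (π (D.simple j)) (-(a * t)) * (n * nGL c j) := by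
    have h3 : (n * nGL c j) * u' * (n * nGL c j)⁻¹ = (xGL c (π (D.simple j)) (a * t))⁻¹ :=
      eq_inv_of_mul_eq_one_left hv2
    rw [xGL_inv] at h3
    rw [← h3]
    group
  have e4 : n⁻¹ * xGL c (π (D.simple j)) (-(a * t)) * n = xGL c (D.simple j) (-t) := by
    have := ea (-t)
    rw [mul_neg] at this
    rw [← this]
    group
  have e5 : u' = xGL c (D.neg (D.simple j))
      (((etaZ Ns j (D.reflectRoot j (D.simple j)) : ℤ) : F) * (-t)) := by
    rw [e3]
    have : (n * nGL c j)⁻¹ * xGL c (π (D.simple j)) (-(a * t)) * (n * nGL c j) =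
        (nGL c j)⁻¹ * (n⁻¹ * xGL c (π (D.simple j)) (-(a * t)) * n) * nGL c j := by group
    rw [this, e4, nGL_inv_conj c j hj _ hpj, reflectRoot_simple]
  have hu'B : u' ∈ D.borelSubgroup F := Subgroup.mem_sup_left (negGens_le_pos c _ hu')
  rw [e5] at hu'B
  have h0 := eq_zero_of_xGL_neg_mem_borel c tc ac gc _ (neg_isNeg c tc ac _ (tc.simple_pos j hj)) _ hu'B
  have hη := eta_cast_ne_zero (F := F) c j hj _ (c.reflect_lt j hj _ hpj)
  rcases mul_eq_zero.mp h0 with h | h
  · exact absurd h hη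
  · exact neg_eq_zero.mp h

/-- An element of the group that conjugates every `x_p(1)`, `p` fundamental, into `B` lies in `B`. -/
theorem mem_borel_of_conj_simple (c : DCert D Ns) (tc : TCert D) (ac : ACert D wl ws sc) (gc : GCert D w d)
    (hdesc : Descent D) (hR2 : R2All D F) (g : GL D.Idx F) (hg : g ∈ D.group F)
    (h : ∀ j < D.rank, g * xGL c (D.simple j) 1 * g⁻¹ ∈ D.borelSubgroup F) : g ∈ D.borelSubgroup F := by
  obtain ⟨b, hb, n, hn, u, hu, rfl⟩ := canonical_exists c tc ac gc hdesc hR2 g hg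
  have huU : u ∈ D.posUnipotent F := flipGens_le_pos n hu
  obtain ⟨π, hact, hlin⟩ := nAct_of_mem_monomial c tc n hn
  by_cases hex : ∃ j < D.rank, D.IsNegRoot (π (D.simple j))
  · exfalso
    obtain ⟨j, hj, hneg⟩ := hex
    have hsc := simple_complement c tc ac hR2 j hj
    rw [← hsc.2] at huU
    obtain ⟨y₁, hy₁, x₁, hx₁, rfl⟩ := exists_mul_of_mem_sup _ _ (le_trans le_sup_left hsc.1) huU
    obtain ⟨t₁, rfl⟩ := (mem_rootSubgroup_iff c _ x₁).mp hx₁
    have hxn := xGL_mem_normalizer_up c tc ac hR2 j hj (D.simple j) (Or.inl rfl) (1 : F)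
    have hy₂ : xGL c (D.simple j) 1 * y₁⁻¹ * (xGL c (D.simple j) 1)⁻¹ ∈ Subgroup.closure (upGens D F j) :=
      (Subgroup.mem_normalizer_iff.mp hxn _).mp (Subgroup.inv_mem _ hy₁)
    have hz : (y₁ * xGL c (D.simple j) t₁) * xGL c (D.simple j) 1 * (y₁ * xGL c (D.simple j) t₁)⁻¹ =
        (y₁ * (xGL c (D.simple j) 1 * y₁⁻¹ * (xGL c (D.simple j) 1)⁻¹)) * xGL c (D.simple j) 1 := by
      have hcomm : xGL c (D.simple j) t₁ * xGL c (D.simple j) 1 = xGL c (D.simple j) 1 * xGL c (D.simple j) t₁ := by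
        rw [xGL_mul, xGL_mul, add_comm]
      have : (y₁ * xGL c (D.simple j) t₁) * xGL c (D.simple j) 1 * (y₁ * xGL c (D.simple j) t₁)⁻¹ =
          y₁ * (xGL c (D.simple j) t₁ * xGL c (D.simple j) 1) * (xGL c (D.simple j) t₁)⁻¹ * y₁⁻¹ := by group
      rw [this, hcomm]
      group
    have hB := h j hj
    have hB2 : n * ((y₁ * (xGL c (D.simple j) 1 * y₁⁻¹ * (xGL c (D.simple j) 1)⁻¹)) * xGL c (D.simple j) 1) * n⁻¹ ∈
        D.borelSubgroup F := by
      rw [← hz]
      have : n * ((y₁ * xGL c (D.simple j) t₁) * xGL c (D.simple j) 1 * (y₁ * xGL c (D.simple j) t₁)⁻¹) * n⁻¹ =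
          b⁻¹ * ((b * n * (y₁ * xGL c (D.simple j) t₁)) * xGL c (D.simple j) 1 *
            (b * n * (y₁ * xGL c (D.simple j) t₁))⁻¹) * b := by group
      rw [this]
      exact Subgroup.mul_mem _ (Subgroup.mul_mem _ (Subgroup.inv_mem _ hb) hB) hb
    have := param_zero_of_conj_mem_borel c tc ac gc hdesc hR2 n π hact hlin j hj hneg _
      (Subgroup.mul_mem _ hy₁ hy₂) 1 hB2
    exact one_ne_zero this
  · have hsimple : ∀ i < D.rank, D.IsPosRoot (π (D.simple i)) := by
      intro i hi
      rcases ac.posOrNeg _ (hlin.1 _ (tc.simple_pos i hi).1) with h | h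
      · exact h
      · exact absurd ⟨i, hi, h⟩ hex
    have hpos := hlin.pos c tc ac hdesc hsimple
    have hnH := mem_diagonal_of_actsAs_pos c tc ac gc hR2 n hn hact hpos
    exact Subgroup.mul_mem _ (Subgroup.mul_mem _ hb (Subgroup.mem_sup_right hnH)) (Subgroup.mem_sup_left huU)

/-! ### The longest element -/

/-- The certificate of the longest element: a word whose product of reflections makes all positive roots
negative. -/
def W0Cert (D : ChevalleyDatum) (w0 : List ℕ) : Prop :=
  (∀ i ∈ w0, i < D.rank) ∧ ∀ r < D.nroots, D.IsPosRoot r → D.IsNegRoot (wordRefl D w0 r)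

instance (D : ChevalleyDatum) (w0 : List ℕ) : Decidable (W0Cert D w0) := by
  unfold W0Cert
  infer_instance

variable {w0 : List ℕ}

/-- An element of `B` whose conjugate by the longest element is in `B` lies in `H`. -/
theorem mem_diagonal_of_conj_w0 (c : DCert D Ns) (tc : TCert D) (gc : GCert D w d) (hw : W0Cert D w0)
    (k : GL D.Idx F) (hk : k ∈ D.borelSubgroup F)
    (hk' : wordN c F w0 * k * (wordN c F w0)⁻¹ ∈ D.borelSubgroup F) : k ∈ D.diagonalSubgroup F := by
  obtain ⟨u, hu, h, hh, rfl⟩ := exists_mul_of_mem_sup _ _ (diagonal_le_normalizer_pos c tc) hk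
  set n0 := wordN c F w0 with hn0
  have hact := actsAs_wordN (F := F) c w0 hw.1
  have hv : n0 * u * n0⁻¹ ∈ D.negUnipotent F := by
    apply conj_closure_le n0 _ _ _ u hu
    rintro g ⟨r, t, hr, hg⟩
    rw [eq_xGL c hg]
    obtain ⟨_, a, _, e⟩ := hact r hr.1
    rw [e]
    exact Subgroup.subset_closure ⟨_, _, hw.2 r hr.1 hr, rfl⟩
  have hn0N := wordN_mem_monomial (F := F) c w0 hw.1
  have hh' : n0 * h * n0⁻¹ ∈ D.diagonalSubgroup F :=
    (Subgroup.mem_normalizer_iff.mp (monomial_le_normalizer_diagonal c tc hn0N) h).mp hh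
  have e : n0 * u * n0⁻¹ = (n0 * (u * h) * n0⁻¹) * (n0 * h * n0⁻¹)⁻¹ := by group
  have hvB : n0 * u * n0⁻¹ ∈ D.borelSubgroup F := by
    rw [e]
    exact Subgroup.mul_mem _ hk' (Subgroup.inv_mem _ (Subgroup.mem_sup_right hh'))
  have h1 : n0 * u * n0⁻¹ ∈ D.borelSubgroup F ⊓ D.negUnipotent F := Subgroup.mem_inf.mpr ⟨hvB, hv⟩
  rw [borel_inf_neg c tc gc, Subgroup.mem_bot] at h1
  have hu1 : u = 1 := by
    have : u = n0⁻¹ * (n0 * u * n0⁻¹) * n0 := by group
    rw [this, h1]
    group
  rw [hu1, one_mul]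
  exact hh

/-! ### The centralizer of the root elements with fixed parameters -/

theorem commute_wordGL (c : DCert D Ns) (f : F →+* F) (g : GL D.Idx F)
    (hcomm : ∀ (r : ℕ) (t : F), f t = t → g * xGL c r t = xGL c r t * g) (l : List (ℕ × F))
    (hl : ∀ p ∈ l, f p.2 = p.2) : g * wordGL c l = wordGL c l * g := by
  induction l with
  | nil => rw [wordGL_nil, mul_one, one_mul]
  | cons p l ih =>
    have h1 : wordGL c (p :: l) = xGL c p.1 p.2 * wordGL c l := by
      unfold wordGL
      rw [List.map_cons, List.prod_cons]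
    rw [h1, ← mul_assoc, hcomm p.1 p.2 (hl p (by simp)), mul_assoc,
      ih (fun q hq => hl q (List.mem_cons_of_mem _ hq)), mul_assoc]

theorem commute_nGL (c : DCert D Ns) (f : F →+* F) (g : GL D.Idx F)
    (hcomm : ∀ (r : ℕ) (t : F), f t = t → g * xGL c r t = xGL c r t * g) (i : ℕ) :
    g * nGL c i = nGL c i * g := by
  unfold nGL
  apply commute_wordGL c f g hcomm
  intro p hp
  unfold ChevalleyDatum.nWord at hp
  simp only [List.mem_cons, List.not_mem_nil, or_false] at hp
  rcases hp with rfl | rfl | rfl <;> simp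

/-- An element of the group commuting with all root elements with parameters fixed by `f` is trivial. -/
theorem eq_one_of_commute (c : DCert D Ns) (tc : TCert D) (ac : ACert D wl ws sc) (gc : GCert D w d)
    (hdesc : Descent D) (hR2 : R2All D F) (hw : W0Cert D w0) (f : F →+* F) (g : GL D.Idx F)
    (hg : g ∈ D.group F) (hcomm : ∀ (r : ℕ) (t : F), f t = t → g * xGL c r t = xGL c r t * g) : g = 1 := by
  -- `g ∈ B`
  have hB : g ∈ D.borelSubgroup F := by
    apply mem_borel_of_conj_simple c tc ac gc hdesc hR2 g hg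
    intro j hj
    rw [hcomm _ 1 (map_one f), mul_inv_cancel_right]
    exact xGL_pos_mem_borel c _ (tc.simple_pos j hj) 1
  -- `g ∈ H`
  have hn0 : g * wordN c F w0 = wordN c F w0 * g := by
    unfold wordN
    generalize w0 = l
    induction l with
    | nil => simp
    | cons i l ih =>
      rw [List.map_cons, List.prod_cons, ← mul_assoc, commute_nGL c f g hcomm i, mul_assoc, ih, mul_assoc]
  have hH : g ∈ D.diagonalSubgroup F := by
    apply mem_diagonal_of_conj_w0 c tc gc hw g hB
    rw [← hn0, mul_inv_cancel_right]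
    exact hB
  -- all characters are trivial
  obtain ⟨τ, hτ, hk⟩ := exists_torus_of_mem c tc g hH
  have hchar : ∀ r < D.nroots, torusChar D τ r = 1 := by
    intro r hr
    have e1 := torus_conj c tc τ hτ r hr (1 : F)
    rw [mul_one] at e1
    have e2 : (g : Matrix D.Idx D.Idx F) * D.x F r 1 = D.x F r 1 * (g : Matrix D.Idx D.Idx F) := by
      have := congrArg (fun x : GL D.Idx F => (x : Matrix D.Idx D.Idx F)) (hcomm r 1 (map_one f))
      simpa using this
    rw [hk, e1] at e2
    have e3 : D.x F r (torusChar D τ r) = D.x F r 1 := by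
      have hinv : torusMat D τ * ((g⁻¹ : GL D.Idx F) : Matrix D.Idx D.Idx F) = 1 := by
        rw [← hk, ← Units.val_mul, mul_inv_cancel]
        rfl
      have := congrArg (fun M => M * ((g⁻¹ : GL D.Idx F) : Matrix D.Idx D.Idx F)) e2
      simp only [mul_assoc, hinv, mul_one] at this
      exact this
    exact xGL_param_inj c tc ac r hr _ _ e3
  apply Units.ext
  rw [hk, Units.val_one]
  unfold torusMat
  rw [← diagMat_one]
  exact diagMat_congr hchar

/-! ### The fixed points -/

/-- The subgroup generated by the root elements with parameters fixed by `f`. -/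
def fixGens (D : ChevalleyDatum) (f : F →+* F) : Set (GL D.Idx F) :=
  {g | ∃ (s : ℕ) (t : F), f t = t ∧ (g : Matrix D.Idx D.Idx F) = D.x F s t}

theorem xGL_mem_fix (c : DCert D Ns) (f : F →+* F) (r : ℕ) (t : F) (ht : f t = t) :
    xGL c r t ∈ Subgroup.closure (fixGens D f) :=
  Subgroup.subset_closure ⟨r, t, ht, rfl⟩

theorem wordGL_mem_fix (c : DCert D Ns) (f : F →+* F) (l : List (ℕ × F)) (hl : ∀ p ∈ l, f p.2 = p.2) :
    wordGL c l ∈ Subgroup.closure (fixGens D f) := by
  unfold wordGL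
  apply Subgroup.list_prod_mem
  intro g hg
  rw [List.mem_map] at hg
  obtain ⟨p, hp, rfl⟩ := hg
  exact xGL_mem_fix c f p.1 p.2 (hl p hp)

theorem simpleN_le_fix (c : DCert D Ns) (f : F →+* F) : simpleN c F ≤ Subgroup.closure (fixGens D f) := by
  unfold simpleN
  rw [Subgroup.closure_le]
  rintro g ⟨i, _, rfl⟩
  unfold nGL
  apply wordGL_mem_fix c f
  intro p hp
  unfold ChevalleyDatum.nWord at hp
  simp only [List.mem_cons, List.not_mem_nil, or_false] at hp
  rcases hp with rfl | rfl | rfl <;> simp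

/-- A fixed element of `U` is a product of root elements with fixed parameters. -/
theorem pos_fixed_mem (c : DCert D Ns) (tc : TCert D) (ac : ACert D wl ws sc) (hR2 : R2All D F) (f : F →+* F)
    (u : GL D.Idx F) (hu : u ∈ D.posUnipotent F) (hfix : mapGL D f u = u) :
    u ∈ Subgroup.closure (fixGens D f) := by
  obtain ⟨t, rfl⟩ := posUnipotent_exists_word c tc ac hR2 u hu
  rw [mapGL_wordGL, List.map_map] at hfix
  have hw : D.wordMat F (D.posRoots.map fun r => (r, f (t r))) = D.wordMat F (D.posRoots.map fun r => (r, t r)) := by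
    have := congrArg (fun x : GL D.Idx F => (x : Matrix D.Idx D.Idx F)) hfix
    simp only [wordGL_coe] at this
    exact this
  have := unique_word c tc ac D.posRoots posRoots_nodup (fun s hs => (mem_posRoots s).mp hs) _ _ hw
  apply wordGL_mem_fix c f
  intro p hp
  rw [List.mem_map] at hp
  obtain ⟨r, hr, rfl⟩ := hp
  exact this r hr

/-- `mapGL` preserves the subgroups `U_n⁻`. -/
theorem mapGL_mem_negGens (c : DCert D Ns) (f : F →+* F) (π : ℕ → ℕ) (u : GL D.Idx F)
    (hu : u ∈ Subgroup.closure (negGens c F π)) : mapGL D f u ∈ Subgroup.closure (negGens c F π) := by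
  apply mapGL_mem_of_closure f _ _ _ u hu
  rintro s ⟨r, t, hr, hneg, rfl⟩
  rw [mapGL_xGL]
  exact Subgroup.subset_closure ⟨r, _, hr, hneg, rfl⟩

/-- The fixed points of the group: `G^f = L H^f L`. -/
theorem fixed_decomp (c : DCert D Ns) (tc : TCert D) (ac : ACert D wl ws sc) (gc : GCert D w d)
    (hdesc : Descent D) (hR2 : R2All D F) (f : F →+* F) (g : GL D.Idx F) (hg : g ∈ D.group F)
    (hfix : mapGL D f g = g) :
    ∃ l₁ ∈ Subgroup.closure (fixGens D f), ∃ h ∈ D.diagonalSubgroup F, mapGL D f h = h ∧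
      ∃ l₂ ∈ Subgroup.closure (fixGens D f), g = l₁ * h * l₂ := by
  obtain ⟨b, hb, n, hn, u, hu, rfl⟩ := canonical_exists c tc ac gc hdesc hR2 g hg
  obtain ⟨u₁, hu₁, h₁, hh₁, rfl⟩ := exists_mul_of_mem_sup _ _ (diagonal_le_normalizer_pos c tc) hb
  have hn' := hn
  rw [monomial_eq c] at hn'
  obtain ⟨h₂, hh₂, m, hm, rfl⟩ := exists_mul_of_mem_sup _ _
    (le_trans (simpleN_le_monomial c) (monomial_le_normalizer_diagonal c tc)) hn'
  have hmN : m ∈ D.monomialSubgroup F := simpleN_le_monomial c hm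
  obtain ⟨π, hact, hlin⟩ := nAct_of_mem_monomial c tc m hmN
  obtain ⟨π', hact', -⟩ := nAct_of_mem_monomial c tc (h₂ * m) hn
  have hππ : ∀ r < D.nroots, π' r = π r := by
    intro r hr
    have h2 : ActsAs c (h₂ * m) (id ∘ π) := (actsAs_diagonal c tc h₂ hh₂).mul c hact
    exact actsAs_unique c tc ac hact' h2 r hr
  rw [flipGens_eq_negGens c tc ac gc hact', negGens_congr c hππ] at hu
  have hum : u ∈ Subgroup.closure (flipGens D F m) := by
    rwa [flipGens_eq_negGens c tc ac gc hact]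
  have hfu : mapGL D f u ∈ Subgroup.closure (flipGens D F m) := by
    rw [flipGens_eq_negGens c tc ac gc hact]
    exact mapGL_mem_negGens c f π u hu
  set h := h₁ * h₂ with hh
  have hhH : h ∈ D.diagonalSubgroup F := Subgroup.mul_mem _ hh₁ hh₂
  have e : u₁ * h₁ * (h₂ * m) * u = (u₁ * h) * m * u := by
    rw [hh]
    group
  rw [e] at hfix
  have hbB : u₁ * h ∈ D.borelSubgroup F :=
    Subgroup.mul_mem _ (Subgroup.mem_sup_left hu₁) (Subgroup.mem_sup_right hhH)
  have hfix' : mapGL D f (u₁ * h) * m * mapGL D f u = (u₁ * h) * m * u := by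
    have h4 : mapGL D f ((u₁ * h) * m * u) = mapGL D f (u₁ * h) * m * mapGL D f u := by
      rw [map_mul, map_mul, mapGL_simpleN c f m hm]
    rw [← h4]
    exact hfix
  obtain ⟨-, huniq⟩ := canonical_unique c tc ac gc hR2 _ _ m m _ _ (mapGL_mem_borel c f _ hbB) hbB hmN hmN
    hfu hum hfix'
  obtain ⟨e1, e2⟩ := huniq rfl
  -- the parts of `B`
  rw [map_mul] at e1
  have hfu₁ := mapGL_mem_pos c f u₁ hu₁
  have hfh := mapGL_mem_diagonal c f h hhH
  have hinter : u₁⁻¹ * mapGL D f u₁ ∈ D.posUnipotent F ⊓ D.diagonalSubgroup F := by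
    refine Subgroup.mem_inf.mpr ⟨Subgroup.mul_mem _ (Subgroup.inv_mem _ hu₁) hfu₁, ?_⟩
    have : u₁⁻¹ * mapGL D f u₁ = h * (mapGL D f h)⁻¹ := by
      have h3 : mapGL D f u₁ = u₁ * h * (mapGL D f h)⁻¹ := by
        rw [← e1]
        group
      rw [h3]
      group
    rw [this]
    exact Subgroup.mul_mem _ hhH (Subgroup.inv_mem _ hfh)
  rw [pos_inf_diagonal c tc gc, Subgroup.mem_bot] at hinter
  have hu₁fix : mapGL D f u₁ = u₁ := by
    have : mapGL D f u₁ = u₁ * (u₁⁻¹ * mapGL D f u₁) := by group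
    rw [this, hinter, mul_one]
  have hhfix : mapGL D f h = h := by
    rw [hu₁fix] at e1
    exact mul_left_cancel e1
  refine ⟨u₁, pos_fixed_mem c tc ac hR2 f u₁ hu₁ hu₁fix, h, hhH, hhfix, m * u, ?_, ?_⟩
  · exact Subgroup.mul_mem _ (simpleN_le_fix c f hm)
      (pos_fixed_mem c tc ac hR2 f u (flipGens_le_pos m hum) e2)
  · rw [e]
    group

/-! ### The normalizer of a group between `L` and the fixed points -/

theorem diagonal_comm (c : DCert D Ns) (tc : TCert D) (h h' : GL D.Idx F) (hh : h ∈ D.diagonalSubgroup F)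
    (hh' : h' ∈ D.diagonalSubgroup F) : h * h' = h' * h := by
  obtain ⟨τ, -, hk⟩ := exists_torus_of_mem c tc h hh
  obtain ⟨τ', -, hk'⟩ := exists_torus_of_mem c tc h' hh'
  apply Units.ext
  rw [Units.val_mul, Units.val_mul, hk, hk', torusMat_mul, torusMat_mul]
  congr 1
  funext i
  exact mul_comm _ _

/-- Conjugation by a fixed element of `H` preserves `L`. -/
theorem diagonal_fixed_conj_mem (c : DCert D Ns) (tc : TCert D) (f : F →+* F) (h : GL D.Idx F)
    (hh : h ∈ D.diagonalSubgroup F) (hfix : mapGL D f h = h) (l : GL D.Idx F)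
    (hl : l ∈ Subgroup.closure (fixGens D f)) : h * l * h⁻¹ ∈ Subgroup.closure (fixGens D f) := by
  apply conj_closure_le h _ _ _ l hl
  rintro s ⟨r, t, ht, hs⟩
  by_cases hr : r < D.nroots
  · obtain ⟨τ, hτ, hk⟩ := exists_torus_of_mem c tc h hh
    have e : h * s * h⁻¹ = xGL c r (torusChar D τ r * t) := by
      rw [mul_inv_eq_iff_eq_mul]
      apply Units.ext
      rw [Units.val_mul, Units.val_mul, hs, hk, xGL_coe]
      exact torus_conj c tc τ hτ r hr t
    rw [e]
    apply xGL_mem_fix c f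
    have hent := (mapGL_eq_self_iff f h).mp hfix (Sum.inr ⟨r, hr⟩) (Sum.inr ⟨r, hr⟩)
    rw [hk] at hent
    have hval : torusMat D τ (Sum.inr ⟨r, hr⟩) (Sum.inr ⟨r, hr⟩) = torusChar D τ r := by
      unfold torusMat diagMat
      rw [Matrix.diagonal_apply_eq]
      rfl
    rw [hval] at hent
    rw [map_mul, hent, ht]
  · have hs1 : s = 1 := by
      apply Units.ext
      rw [hs]
      unfold ChevalleyDatum.x
      rw [dif_neg hr]
      rfl
    rw [hs1, mul_one, mul_inv_cancel]
    exact Subgroup.one_mem _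

/-- The normalizer in the group of a subgroup `K` between `L` and the fixed points is the group of fixed points;
the centralizer of `K` is trivial. -/
theorem normalizer_iff (c : DCert D Ns) (tc : TCert D) (ac : ACert D wl ws sc) (gc : GCert D w d)
    (hdesc : Descent D) (hR2 : R2All D F) (hw : W0Cert D w0) (f : F →+* F) (K : Subgroup (GL D.Idx F))
    (hKG : K ≤ D.group F) (hLK : Subgroup.closure (fixGens D f) ≤ K) (hKfix : ∀ g ∈ K, mapGL D f g = g)
    (g : GL D.Idx F) (hg : g ∈ D.group F) :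
    g ∈ Subgroup.normalizer (K : Set (GL D.Idx F)) ↔ mapGL D f g = g := by
  constructor
  · intro hgn
    have hz : g⁻¹ * mapGL D f g = 1 := by
      apply eq_one_of_commute c tc ac gc hdesc hR2 hw f _
        (Subgroup.mul_mem _ (Subgroup.inv_mem _ hg) (mapGL_mem_group c f g hg))
      intro r t ht
      have hy : xGL c r t ∈ K := hLK (xGL_mem_fix c f r t ht)
      have hyfix : mapGL D f (xGL c r t) = xGL c r t := by rw [mapGL_xGL, ht]
      have h1 := hKfix _ ((Subgroup.mem_normalizer_iff.mp hgn _).mp hy)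
      rw [map_mul, map_mul, hyfix, map_inv] at h1
      have h2 : g⁻¹ * mapGL D f g * xGL c r t = g⁻¹ * (mapGL D f g * xGL c r t * (mapGL D f g)⁻¹) * mapGL D f g := by
        group
      rw [h2, h1]
      group
    have : mapGL D f g = g * (g⁻¹ * mapGL D f g) := by group
    rw [this, hz, mul_one]
  · intro hfix
    -- fixed elements of `H` normalize `K`
    have claimA : ∀ h ∈ D.diagonalSubgroup F, mapGL D f h = h → ∀ y ∈ K, h * y * h⁻¹ ∈ K := by
      intro h hh hhfix y hy
      obtain ⟨l₁, hl₁, h', hh', -, l₂, hl₂, rfl⟩ :=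
        fixed_decomp c tc ac gc hdesc hR2 f y (hKG hy) (hKfix y hy)
      have hh'K : h' ∈ K := by
        have : h' = l₁⁻¹ * (l₁ * h' * l₂) * l₂⁻¹ := by group
        rw [this]
        exact Subgroup.mul_mem _ (Subgroup.mul_mem _ (Subgroup.inv_mem _ (hLK hl₁)) hy)
          (Subgroup.inv_mem _ (hLK hl₂))
      have e : h * (l₁ * h' * l₂) * h⁻¹ = (h * l₁ * h⁻¹) * (h * h' * h⁻¹) * (h * l₂ * h⁻¹) := by group
      have e2 : h * h' * h⁻¹ = h' := by
        rw [diagonal_comm c tc h h' hh hh', mul_inv_cancel_right]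
      rw [e, e2]
      exact Subgroup.mul_mem _ (Subgroup.mul_mem _ (hLK (diagonal_fixed_conj_mem c tc f h hh hhfix l₁ hl₁)) hh'K)
        (hLK (diagonal_fixed_conj_mem c tc f h hh hhfix l₂ hl₂))
    obtain ⟨l₁, hl₁, h, hh, hhfix, l₂, hl₂, rfl⟩ := fixed_decomp c tc ac gc hdesc hR2 f g hg hfix
    have hhn : h ∈ Subgroup.normalizer (K : Set (GL D.Idx F)) := by
      rw [Subgroup.mem_normalizer_iff]
      intro y
      constructor
      · exact claimA h hh hhfix y
      · intro hy
        have := claimA h⁻¹ (Subgroup.inv_mem _ hh) (by rw [map_inv, hhfix]) _ hy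
        rw [inv_inv] at this
        have e : h⁻¹ * (h * y * h⁻¹) * h = y := by group
        rwa [e] at this
    exact Subgroup.mul_mem _ (Subgroup.mul_mem _ (Subgroup.le_normalizer (hLK hl₁)) hhn)
      (Subgroup.le_normalizer (hLK hl₂))

/-- The centralizer of `K` in the group is trivial. -/
theorem centralizer_eq_bot (c : DCert D Ns) (tc : TCert D) (ac : ACert D wl ws sc) (gc : GCert D w d)
    (hdesc : Descent D) (hR2 : R2All D F) (hw : W0Cert D w0) (f : F →+* F) (K : Subgroup (GL D.Idx F))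
    (hLK : Subgroup.closure (fixGens D f) ≤ K) :
    D.group F ⊓ Subgroup.centralizer (K : Set (GL D.Idx F)) = ⊥ := by
  rw [eq_bot_iff]
  intro g hg
  rw [Subgroup.mem_inf] at hg
  rw [Subgroup.mem_bot]
  apply eq_one_of_commute c tc ac gc hdesc hR2 hw f g hg.1
  intro r t ht
  exact (Subgroup.mem_centralizer_iff.mp hg.2 _ (hLK (xGL_mem_fix c f r t ht))).symm

end Cfsg.Agent.Lib.Helper18_ChevFrob
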