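import Cfsg.Agent.Lib.Helper36_ChevTorus

set_option autoImplicit false

/-!
The order of the diagonal subgroup over a finite field: `H` is the image of `(Fˣ)^l` under `u ↦ diag(chi u)`, and
the kernel is computed from a diagonalisation `P C Q = diag(d)` of the Cartan matrix by unimodular integer matrices.
-/

namespace Cfsg.Agent.Lib.Helper36_ChevHOrder

open Cfsg Cfsg.Lie Cfsg.Agent.Lib.Helper36_ChevWeyl Cfsg.Agent.Lib.Helper36_ChevGen
  Cfsg.Agent.Lib.Helper36_ChevHAll Cfsg.Agent.Lib.Helper36_ChevTorus

/-! ### integer matrices acting on tuples of elements of a commutative group -/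

section zact
variable {G : Type*} [CommGroup G] {l : ℕ}

/-- The action of an integer matrix on tuples: `(u M)_k = ∏_j u_j^{M_{jk}}`. -/
def zact (M : Matrix (Fin l) (Fin l) ℤ) (u : Fin l → G) : Fin l → G := fun k => ∏ j, u j ^ M j k

theorem prod_zpow_eq (a : G) (s : Finset (Fin l)) (f : Fin l → ℤ) : ∏ i ∈ s, a ^ f i = a ^ ∑ i ∈ s, f i := by
  induction s using Finset.induction_on with
  | empty => simp
  | insert i s hi ih => rw [Finset.prod_insert hi, Finset.sum_insert hi, ih, zpow_add]

theorem zact_mul (M N : Matrix (Fin l) (Fin l) ℤ) (u : Fin l → G) : zact N (zact M u) = zact (M * N) u := by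
  funext k
  simp only [zact, Matrix.mul_apply]
  calc ∏ i, (∏ j, u j ^ M j i) ^ N i k = ∏ i, ∏ j, u j ^ (M j i * N i k) := by
        apply Finset.prod_congr rfl
        intro i _
        rw [← Finset.prod_zpow]
        apply Finset.prod_congr rfl
        intro j _
        rw [zpow_mul]
    _ = ∏ j, ∏ i, u j ^ (M j i * N i k) := Finset.prod_comm
    _ = ∏ j, u j ^ ∑ i, M j i * N i k := by
        apply Finset.prod_congr rfl
        intro j _
        exact prod_zpow_eq _ _ _

theorem zact_one_left (u : Fin l → G) : zact (1 : Matrix (Fin l) (Fin l) ℤ) u = u := by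
  funext k
  simp only [zact]
  rw [Finset.prod_eq_single k]
  · rw [Matrix.one_apply_eq, zpow_one]
  · intro j _ hjk
    rw [Matrix.one_apply_ne hjk, zpow_zero]
  · intro h
    exact absurd (Finset.mem_univ k) h

theorem zact_apply_one (M : Matrix (Fin l) (Fin l) ℤ) : zact M (1 : Fin l → G) = 1 := by
  funext k
  simp [zact]

theorem zact_diagonal (d : Fin l → ℤ) (u : Fin l → G) (k : Fin l) : zact (Matrix.diagonal d) u k = u k ^ d k := by
  simp only [zact]
  rw [Finset.prod_eq_single k]
  · rw [Matrix.diagonal_apply_eq]
  · intro j _ hjk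
    rw [Matrix.diagonal_apply_ne _ hjk, zpow_zero]
  · intro h
    exact absurd (Finset.mem_univ k) h

/-- The kernel of the action of `C`, counted with a diagonalisation `P C Q = diag(d)` by invertible matrices. -/
theorem card_ker_zact [Finite G] [IsCyclic G] (P P' Q Q' C : Matrix (Fin l) (Fin l) ℤ) (d : Fin l → ℕ)
    (h1 : P * C * Q = Matrix.diagonal (fun k => (d k : ℤ))) (h2 : P * P' = 1) (h3 : P' * P = 1) (h4 : Q * Q' = 1) :
    Nat.card {u : Fin l → G // zact C u = 1} = ∏ k, (Nat.card G).gcd (d k) := by
  have e1 : {u : Fin l → G // zact C u = 1} ≃ {v : Fin l → G // ∀ k, v k ^ d k = 1} :=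
    { toFun := fun u => ⟨zact P' u.1, by
        intro k
        have : zact (Matrix.diagonal (fun k => (d k : ℤ))) (zact P' u.1) = 1 := by
          rw [← h1, zact_mul, ← Matrix.mul_assoc, ← Matrix.mul_assoc, h3, Matrix.one_mul, ← zact_mul, u.2,
            zact_apply_one]
        have := congrFun this k
        rw [zact_diagonal, zpow_natCast] at this
        exact this⟩
      invFun := fun v => ⟨zact P v.1, by
        have hv : zact (Matrix.diagonal (fun k => (d k : ℤ))) v.1 = 1 := by
          funext k
          rw [zact_diagonal, zpow_natCast]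
          exact v.2 k
        rw [← h1, ← zact_mul, ← zact_mul] at hv
        have := congrArg (zact Q') hv
        rw [zact_mul, h4, zact_one_left, zact_apply_one] at this
        exact this⟩
      left_inv := fun u => by
        apply Subtype.ext
        show zact P (zact P' u.1) = u.1
        rw [zact_mul, h3, zact_one_left]
      right_inv := fun v => by
        apply Subtype.ext
        show zact P' (zact P v.1) = v.1
        rw [zact_mul, h2, zact_one_left] }
  have e2 : {v : Fin l → G // ∀ k, v k ^ d k = 1} ≃ ∀ k : Fin l, {g : G // g ^ d k = 1} :=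
    Equiv.subtypePiEquivPi (β := fun _ => G) (p := fun k g => g ^ d k = 1)
  rw [Nat.card_congr e1, Nat.card_congr e2, Nat.card_pi]
  apply Finset.prod_congr rfl
  intro k _
  rw [← IsCyclic.card_powMonoidHom_ker G (d k)]
  apply Nat.card_congr
  exact Equiv.subtypeEquivRight (fun g => by rw [MonoidHom.mem_ker, powMonoidHom_apply])

end zact

/-! ### induction over the roots -/

/-- Induction over the roots: a property that holds for the fundamental roots and is preserved by the fundamental
reflections holds for all roots. -/
def RootInd (D : ChevalleyDatum) : Prop :=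
  ∀ Q : ℕ → Prop, (∀ j < D.rank, Q (D.simple j)) → (∀ i < D.rank, ∀ s < D.nroots, Q s → Q (D.reflectRoot i s)) →
    ∀ r < D.nroots, Q r

theorem rootInd_of_tree (D : ChevalleyDatum) (Nl : NLits) (k : ℕ) (hsimple : SimpleOK D) (hrc : ReflCartanOK D)
    (tbl : List (List ℤ)) (hF : FundOK D Nl k tbl) (T : List (ℕ × ℕ × ℤ)) (hT : PairsOK D k Nl T)
    (hsym : treeSymCheck D T = true) (hreach : reachCheck D T = true) : RootInd D := by
  intro Q hfund hstep r hr
  have := tree_ind D Nl k (fun r => r < D.nroots ∧ Q r) (fun _ h => h.1)
    (fun j hj => ⟨(hsimple j hj).1, hfund j hj⟩)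
    (fun i s η h hs => ⟨reflect_lt D hrc i h.1 s hs.1, hstep i h.1 s hs.1 hs.2⟩)
    tbl hF T hT hsym hreach r hr
  exact this.2

/-! ### the diagonal subgroup as an image of `(Fˣ)^l` -/

section
variable (D : ChevalleyDatum) (F : Type*) [Field F]

/-- Extension of a tuple by `1`. -/
def ext (u : Fin D.rank → Fˣ) : ℕ → Fˣ := fun j => if h : j < D.rank then u ⟨j, h⟩ else 1

theorem ext_mul (u v : Fin D.rank → Fˣ) : ext D F (u * v) = ext D F u * ext D F v := by
  funext j
  simp only [ext, Pi.mul_apply]
  split_ifs <;> simp

theorem ext_one : ext D F 1 = 1 := by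
  funext j
  simp only [ext, Pi.one_apply]
  split_ifs <;> rfl

/-- The homomorphism `u ↦ diag(chi u)`. -/
def torusHom : (Fin D.rank → Fˣ) →* GL D.Idx F where
  toFun u := torusGL D F (chi D F (ext D F u))
  map_one' := by rw [ext_one, chi_one, torusGL_one]
  map_mul' u v := by rw [ext_mul, chi_mul, torusGL_mul]

theorem range_torusHom (hf : Facts D F) : (torusHom D F).range = D.diagonalSubgroup F := by
  ext g
  rw [hf.mem_diag, MonoidHom.mem_range]
  constructor
  · rintro ⟨u, rfl⟩
    exact ⟨ext D F u, rfl⟩
  · rintro ⟨u, rfl⟩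
    refine ⟨fun j => u j.val, ?_⟩
    show torusGL D F (chi D F (ext D F fun j => u j.val)) = _
    congr 1
    apply chi_congr
    intro j hj
    simp only [ext, dif_pos hj]

/-- The Cartan matrix of the datum. -/
def cartanMat : Matrix (Fin D.rank) (Fin D.rank) ℤ := Matrix.of fun j k => D.cartan j.val (D.simple k.val)

theorem chi_ext_simple (u : Fin D.rank → Fˣ) (k : Fin D.rank) :
    chi D F (ext D F u) (D.simple k.val) = zact (cartanMat D) u k := by
  unfold chi zact cartanMat
  rw [Finset.prod_range]
  apply Finset.prod_congr rfl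
  intro j _
  simp only [ext, dif_pos j.isLt, Matrix.of_apply]

theorem mem_ker_torusHom (hf : Facts D F) (hind : RootInd D) (u : Fin D.rank → Fˣ) :
    u ∈ (torusHom D F).ker ↔ zact (cartanMat D) u = 1 := by
  rw [MonoidHom.mem_ker]
  show torusGL D F (chi D F (ext D F u)) = 1 ↔ _
  constructor
  · intro h
    funext k
    rw [← chi_ext_simple]
    have h1 : D.charDiag F (chi D F (ext D F u)) = 1 := by
      rw [← torusGL_coe, h]
      rfl
    unfold ChevalleyDatum.charDiag at h1
    rw [← Matrix.diagonal_one] at h1
    have h2 := congrFun (Matrix.diagonal_injective h1) (Sum.inr ⟨D.simple k.val, (hf.hsimple k.val k.isLt).1⟩)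
    simp only [Sum.elim_inr] at h2
    exact Units.ext h2
  · intro h
    have hs : ∀ k < D.rank, chi D F (ext D F u) (D.simple k) = 1 := by
      intro k hk
      have := congrFun h ⟨k, hk⟩
      rw [← chi_ext_simple] at this
      exact this
    have hall : ∀ r < D.nroots, chi D F (ext D F u) r = 1 := by
      apply hind
      · exact hs
      · intro i hi s hs' hq
        rw [chi_reflect D F hf.hrc hf.hsimple i hi _ s hs']
        have hP : (∏ j ∈ Finset.range D.rank, (ext D F u j) ^ (-(D.cartan j (D.simple i)))) = 1 := by
          have := hs i hi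
          unfold chi at this
          rw [← inv_eq_one, ← Finset.prod_inv_distrib] at this
          rw [← this]
          apply Finset.prod_congr rfl
          intro j _
          rw [zpow_neg]
        unfold reflU
        rw [hP]
        have : Function.update (1 : ℕ → Fˣ) i 1 = 1 := by
          funext j
          by_cases hj : j = i
          · subst hj; simp
          · rw [Function.update_of_ne hj]
        rw [this, mul_one]
        exact hq
    apply Units.ext
    rw [torusGL_coe, Units.val_one, charDiag_congr D F _ 1 (fun s hs' => by rw [hall s hs']; rfl)]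
    exact charDiag_one D F

/-- `|ker| · |H| = (q - 1)^l`. -/
theorem card_ker_mul_card_diag [Fintype F] (hf : Facts D F) (hind : RootInd D) :
    Nat.card {u : Fin D.rank → Fˣ // zact (cartanMat D) u = 1} * Nat.card (D.diagonalSubgroup F) =
      (Fintype.card F - 1) ^ D.rank := by
  have h1 : Nat.card {u : Fin D.rank → Fˣ // zact (cartanMat D) u = 1} = Nat.card (torusHom D F).ker := by
    apply Nat.card_congr
    exact Equiv.subtypeEquivRight (fun u => (mem_ker_torusHom D F hf hind u).symm)
  have h2 : Nat.card (D.diagonalSubgroup F) = (torusHom D F).ker.index := by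
    rw [← range_torusHom D F hf, Subgroup.index_ker]
  rw [h1, h2, Subgroup.card_mul_index, Nat.card_pi]
  simp only [Finset.prod_const, Finset.card_univ, Fintype.card_fin]
  classical
  rw [Nat.card_eq_fintype_card, Fintype.card_units]

end

end Cfsg.Agent.Lib.Helper36_ChevHOrder
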