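import Cfsg.Prelude.Def_ChevAutomorphisms
import Cfsg.Prelude.Def_LieTypes
import Cfsg.Prelude.Def_ChevB2
import Cfsg.Prelude.Def_ChevD4

set_option autoImplicit false

namespace Cfsg.Agent.Lib.Helper36_ChevTables

open Cfsg Cfsg.Lie Cfsg.Lie.ChevalleyDatum

/-- Well-formedness of the chain table: every entry `(s, [(u_1, M_1), (u_2, M_2), …])` of `chain[r]` has
`s` in range and `u_i` is the root `r + u_{i-1}` according to `chainRoot` (with `u_0 = s`). -/
def ChainOK (D : ChevalleyDatum) : Prop :=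
  ∀ r < D.nroots, ∀ e ∈ (D.chain.getD r #[]).toList, e.1 < D.nroots ∧
    ∀ q ∈ e.2.toList.zipIdx,
      (if q.2 = 0 then e.1 else (e.2.toList.getD (q.2 - 1) (0, 0)).1) < D.nroots ∧
      D.chainRoot r (if q.2 = 0 then e.1 else (e.2.toList.getD (q.2 - 1) (0, 0)).1) 1 = some q.1.1

instance (D : ChevalleyDatum) : Decidable (ChainOK D) := by
  unfold ChainOK
  infer_instance

theorem chainOK_G2 : ChainOK chevG2 := by decide +kernel
theorem chainOK_B2 : ChainOK chevB2 := by decide +kernel
theorem chainOK_D4 : ChainOK chevD4 := by decide +kernel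
theorem chainOK_F4 : ChainOK chevF4 := by decide +kernel
theorem chainOK_E6 : ChainOK chevE6 := by decide +kernel
theorem chainOK_E7 : ChainOK chevE7 := by decide +kernel
theorem chainOK_E8 : ChainOK chevE8 := by decide +kernel

/-- The seven tabulated data all have well-formed chain tables. -/
theorem chainOK_of_mem (D : ChevalleyDatum)
    (hD : D ∈ [chevG2, chevB2, chevD4, chevF4, chevE6, chevE7, chevE8]) : ChainOK D := by
  simp only [List.mem_cons, List.not_mem_nil, or_false] at hD
  rcases hD with rfl | rfl | rfl | rfl | rfl | rfl | rfl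
  · exact chainOK_G2
  · exact chainOK_B2
  · exact chainOK_D4
  · exact chainOK_F4
  · exact chainOK_E6
  · exact chainOK_E7
  · exact chainOK_E8

/-- A root character is multiplicative along chains: if `(u, M)` is the entry with index `idx` of the chain
through `e.1` in `chain[r]`, then `χ u = χ r ^ (idx + 1) * χ e.1`. -/
theorem char_chain {F : Type*} [Field F] (D : ChevalleyDatum) (hOK : ChainOK D) (χ : ℕ → Fˣ)
    (hχ : D.IsRootCharacter χ) (r : ℕ) (hr : r < D.nroots) (e : ℕ × Array (ℕ × ℤ))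
    (he : e ∈ (D.chain.getD r #[]).toList) :
    ∀ (idx : ℕ) (x : ℕ × ℤ), e.2.toList[idx]? = some x → χ x.1 = χ r ^ (idx + 1) * χ e.1 := by
  obtain ⟨he1, hq⟩ := hOK r hr e he
  intro idx
  induction idx with
  | zero =>
    intro x hx
    have hmem : (x, 0) ∈ e.2.toList.zipIdx := by
      rw [List.mem_zipIdx_iff_getElem?]; exact hx
    obtain ⟨_, h2⟩ := hq (x, 0) hmem
    simp only [if_true] at h2
    rw [hχ.2 r e.1 x.1 hr he1 h2]
    simp
  | succ j ih =>
    intro x hx
    have hmem : (x, j + 1) ∈ e.2.toList.zipIdx := by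
      rw [List.mem_zipIdx_iff_getElem?]; exact hx
    obtain ⟨h1, h2⟩ := hq (x, j + 1) hmem
    have hjlt : j < e.2.toList.length := by
      have := (List.getElem?_eq_some_iff.mp hx).1
      omega
    have hj : e.2.toList[j]? = some (e.2.toList[j]) := List.getElem?_eq_getElem hjlt
    have hprev : (e.2.toList.getD j (0, 0)) = e.2.toList[j] := by
      rw [List.getD_eq_getElem?_getD, hj]; rfl
    simp only [Nat.add_one_ne_zero, if_false, Nat.add_sub_cancel, hprev] at h1 h2
    rw [hχ.2 r _ x.1 hr h1 h2, ih _ hj]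
    rw [pow_succ (χ r) (j + 1)]
    rw [mul_comm (χ r ^ (j + 1)) (χ r), mul_assoc]

theorem mem_chainCoeff (D : ChevalleyDatum) (r s u : ℕ) (km : ℕ × ℤ) (h : km ∈ D.chainCoeff r s u) :
    ∃ e ∈ (D.chain.getD r #[]).toList, e.1 = s ∧ ∃ x : ℕ × ℤ, 1 ≤ km.1 ∧ e.2.toList[km.1 - 1]? = some x ∧ x.1 = u := by
  unfold ChevalleyDatum.chainCoeff at h
  rw [List.mem_flatMap] at h
  obtain ⟨e, he, hkm⟩ := h
  rw [List.mem_filter] at he
  rw [List.mem_map] at hkm
  obtain ⟨q, hq, rfl⟩ := hkm
  rw [List.mem_filter] at hq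
  refine ⟨e, he.1, by simpa using he.2, q.1, by simp, ?_, by simpa using hq.2⟩
  have := hq.1
  have hq' : (q.1, q.2) ∈ e.2.toList.zipIdx := this
  rw [List.mem_zipIdx_iff_getElem?] at hq'
  simpa using hq'

/-- A root character on the chain coefficients: `χ u = χ r ^ k * χ s` for every `(k, M)` in `chainCoeff r s u`. -/
theorem char_chainCoeff {F : Type*} [Field F] (D : ChevalleyDatum) (hOK : ChainOK D) (χ : ℕ → Fˣ)
    (hχ : D.IsRootCharacter χ) (r : ℕ) (hr : r < D.nroots) (s u : ℕ) (km : ℕ × ℤ)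
    (h : km ∈ D.chainCoeff r s u) : χ u = χ r ^ km.1 * χ s := by
  obtain ⟨e, he, hes, x, hk, hx, hxu⟩ := mem_chainCoeff D r s u km h
  have := char_chain D hOK χ hχ r hr e he (km.1 - 1) x hx
  rw [hxu, hes, Nat.sub_add_cancel hk] at this
  exact this

end Cfsg.Agent.Lib.Helper36_ChevTables
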