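import Cfsg.Agent.Lib.Helper36_TwistW
import Cfsg.Agent.Lib.Helper36_ChevHOrder
import Cfsg.Agent.S2157

set_option autoImplicit false

/-!
Perfectness of a twisted group `G¹`: the fixed elements of the root subgroups of the classes of roots lie in the
derived subgroup, by the commutator formula for a class with one root, by the action of a diagonal element for a
larger class, and by transport with the elements `n_J`.
-/

namespace Cfsg.Agent.Lib.Helper36_TwistPerf

open Cfsg Cfsg.Lie Cfsg.Agent.Lib.Helper18_ChevFast Cfsg.Agent.Lib.Helper18_ChevEngine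
  Cfsg.Agent.Lib.Helper18_ChevR1 Cfsg.Agent.Lib.Helper18_ChevN Cfsg.Agent.Lib.Helper18_ChevR4
  Cfsg.Agent.Lib.Helper18_ChevSimple Cfsg.Agent.Lib.Helper18_ChevSimple2 Cfsg.Agent.Lib.Helper18_ChevFacts
  Cfsg.Agent.Lib.Helper18_ChevWeyl Cfsg.Agent.Lib.Helper18_ChevDiag Cfsg.Agent.Lib.Helper18_ChevCar
  Cfsg.Agent.Lib.Helper18_ChevTorus Cfsg.Agent.Lib.Helper18_ChevGL Cfsg.Agent.Lib.Helper18_ChevComm
  Cfsg.Agent.Lib.Helper18_ChevComm2 Cfsg.Agent.Lib.Helper18_MatTri Cfsg.Agent.Lib.Helper18_ChevTri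
  Cfsg.Agent.Lib.Helper18_ChevBorel Cfsg.Agent.Lib.Helper18_ChevAdd Cfsg.Agent.Lib.Helper18_ChevUni
  Cfsg.Agent.Lib.Helper36_TwistU Cfsg.Agent.Lib.Helper36_TwistW Cfsg.Agent.Lib.Helper36_ChevTorus
  Cfsg.Agent.Lib.Helper36_ChevTables Cfsg.Agent.Lib.Helper36_ChevHOrder

open scoped commutatorElement

/-- The derived subgroup of a subgroup is normalized by the subgroup. -/
theorem conj_mem_commutator {G : Type*} [Group G] (H : Subgroup G) (n g : G) (hn : n ∈ H) (hg : g ∈ ⁅H, H⁆) :
    n⁻¹ * g * n ∈ ⁅H, H⁆ := by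
  have hgH : g ∈ H := Subgroup.commutator_le_self H hg
  have e : n⁻¹ * g * n = g * ⁅g⁻¹, n⁻¹⁆ := by
    rw [commutatorElement_def]
    group
  rw [e]
  exact Subgroup.mul_mem _ hg
    (Subgroup.commutator_mem_commutator (Subgroup.inv_mem _ hgH) (Subgroup.inv_mem _ hn))

variable {D : ChevalleyDatum} {Ns : List NData} {K : Type*} [Field K]
variable {wl : List ℤ} {ws : List (List ℤ)} {sc : ℤ} {w : List ℤ}

section

variable (C : Certs D Ns K wl ws sc w) {σ : GL D.Idx K →* GL D.Idx K}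

include C in
/-- Transport of the property `Good` by an element `n_J` which is fixed and normalizes the subgroup. -/
theorem good_step' (G0 : Subgroup (GL D.Idx K)) (S S' J : List ℕ)
    (hJ : ∀ i ∈ J, i < D.rank) (hσn : σ (nJ C.c K J) = nJ C.c K J)
    (hnorm : ∀ g ∈ G0, (nJ C.c K J)⁻¹ * g * nJ C.c K J ∈ G0)
    (hS' : ∀ r ∈ S', r < D.nroots ∧ reflJ D J r ∈ S)
    (hgood : Good C.c σ G0 S) : Good C.c σ G0 S' := by
  intro g hg hσ
  set n := nJ C.c K J with hn'
  have h1 : XS C.c K S' ≤ (XS C.c K S).comap (MulAut.conj n).toMonoidHom := by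
    unfold XS
    rw [Subgroup.closure_le]
    rintro x ⟨r, hr, t, rfl⟩
    obtain ⟨η, hη⟩ := nJ_conj C J hJ r (hS' r hr).1 t
    simp only [Subgroup.coe_comap, Set.mem_preimage, MulEquiv.coe_toMonoidHom, MulAut.conj_apply, SetLike.mem_coe]
    rw [hη]
    exact Subgroup.subset_closure ⟨_, (hS' r hr).2, _, rfl⟩
  have h2 : n * g * n⁻¹ ∈ XS C.c K S := h1 hg
  have h3 : σ (n * g * n⁻¹) = n * g * n⁻¹ := by
    rw [map_mul, map_mul, map_inv, hσn, hσ]
  have h4 := hgood _ h2 h3
  have : g = n⁻¹ * (n * g * n⁻¹) * n := by group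
  rw [this]
  exact hnorm _ h4

include C in
theorem chain_good' (G0 : Subgroup (GL D.Idx K)) (Js : List (List ℕ))
    (hJs : ∀ J ∈ Js, (∀ i ∈ J, i < D.rank) ∧ σ (nJ C.c K J) = nJ C.c K J ∧
      ∀ g ∈ G0, (nJ C.c K J)⁻¹ * g * nJ C.c K J ∈ G0) :
    ∀ (steps : List (List ℕ × List ℕ)) (acc : List (List ℕ)), (∀ st ∈ steps, st.2 ∈ Js) →
      (∀ S ∈ acc, Good C.c σ G0 S) → chainValid D acc steps = true →
      ∀ S ∈ chainOut acc steps, Good C.c σ G0 S
  | [], acc, _, hacc, _ => hacc
  | st :: rest, acc, hst, hacc, hv => by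
    rw [chainValid, Bool.and_eq_true] at hv
    have h1 : Good C.c σ G0 st.1 := by
      have := hv.1
      unfold stepValid at this
      rw [List.any_eq_true] at this
      obtain ⟨S, hS, hall⟩ := this
      rw [List.all_eq_true] at hall
      have hJ := hJs st.2 (hst st (by simp))
      apply good_step' C G0 S st.1 st.2 hJ.1 hJ.2.1 hJ.2.2 _ (hacc S hS)
      intro r hr
      have := hall r hr
      rw [Bool.and_eq_true, decide_eq_true_eq, decide_eq_true_eq] at this
      exact this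
    apply chain_good' G0 Js hJs rest (st.1 :: acc) (fun s hs => hst s (List.mem_cons_of_mem _ hs)) _ hv.2
    intro S hS
    rcases List.mem_cons.mp hS with rfl | hS
    · exact h1
    · exact hacc S hS

end

/-! ### Conjugation by diagonal elements -/

section

variable (c : DCert D Ns) (hchain : ChainOK D)

include hchain in
/-- Conjugation of a root element by the diagonal element of a character. -/
theorem torus_conj_x (χ : ℕ → Kˣ) (hχ : D.IsRootCharacter χ) (r : ℕ) (hr : r < D.nroots) (t : K) :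
    torusGL D K χ * xGL c r t * (torusGL D K χ)⁻¹ = xGL c r ((χ r : K) * t) := by
  apply Units.ext
  rw [Units.val_mul, Units.val_mul, torusGL_inv, torusGL_coe, torusGL_coe, xGL_coe, xGL_coe]
  have hx : ∀ a : K, D.x K r a = D.xMat K ⟨r, hr⟩ a := by
    intro a
    unfold ChevalleyDatum.x
    rw [dif_pos hr]
  rw [hx, hx]
  exact Cfsg.Agent.S2157.conj_xMat D hchain χ hχ ⟨r, hr⟩ t

include hchain in
/-- The diagonal element of a character normalizes the subgroup generated by root subgroups. -/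
theorem torus_conj_XS (χ : ℕ → Kˣ) (hχ : D.IsRootCharacter χ) (S : List ℕ) (hS : ∀ r ∈ S, r < D.nroots)
    (g : GL D.Idx K) (hg : g ∈ XS c K S) : torusGL D K χ * g * (torusGL D K χ)⁻¹ ∈ XS c K S := by
  have h1 : XS c K S ≤ (XS c K S).comap (MulAut.conj (torusGL D K χ)).toMonoidHom := by
    unfold XS
    rw [Subgroup.closure_le]
    rintro x ⟨r, hr, t, rfl⟩
    simp only [Subgroup.coe_comap, Set.mem_preimage, MulEquiv.coe_toMonoidHom, MulAut.conj_apply, SetLike.mem_coe]
    rw [torus_conj_x c hchain χ hχ r (hS r hr) t]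
    exact Subgroup.subset_closure ⟨r, hr, _, rfl⟩
  exact h1 hg

end

section

variable (C : Certs D Ns K wl ws sc w) {σ : GL D.Idx K →* GL D.Idx K} {pi : ℕ → ℕ} {eps : ℕ → ℤ} {f : K →+* K}
  (T : Twist C.c w σ pi eps f) (hchain : ChainOK D)

/-- The elements of a class are in the subgroup of its root subgroups. -/
theorem yS_mem_XS (p : ℕ × ℕ) (x : K) : yS C.c pi eps f p x ∈ XS C.c K (orbRoots pi p.2 p.1) := by
  unfold yS
  exact wordGL_mem_XS C.c _ _ (fun l hl => orbWord_mem_fst p.2 _ l hl)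

include T hchain in
/-- Conjugation of the element of a class by a fixed diagonal element. -/
theorem torus_conj_yS (χ : ℕ → Kˣ) (hχ : D.IsRootCharacter χ) (hσh : σ (torusGL D K χ) = torusGL D K χ)
    (p : ℕ × ℕ) (hp : ClassOK D pi p) (t : K) (ht : Closes pi eps f p t) :
    Closes pi eps f p ((χ p.1 : K) * t) ∧
      torusGL D K χ * yS C.c pi eps f p t * (torusGL D K χ)⁻¹ = yS C.c pi eps f p ((χ p.1 : K) * t) := by
  set h := torusGL D K χ with hh
  set y := yS C.c pi eps f p t with hy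
  have hp1 : D.IsPosRoot p.1 := hp.pos _ (head_mem p hp)
  have hk := ht_pos C p.1 hp1
  have h1 : h * y * h⁻¹ ∈ XS C.c K (orbRoots pi p.2 p.1) :=
    torus_conj_XS C.c hchain χ hχ _ (fun r hr => (hp.pos r hr).1) y (yS_mem_XS C p t)
  have h2 : σ (h * y * h⁻¹) = h * y * h⁻¹ := by
    rw [map_mul, map_mul, map_inv, hσh, yS_fixed C T p hp t ht]
  obtain ⟨x', hx', e⟩ := fixed_class C T p hp _ h1 h2
  have hval : x' = (χ p.1 : K) * t := by
    have hns := DCert.neg_lt C.c p.1 hp1.1
    apply eq_of_entries C _ _ p.1 hp1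
    intro i
    have e1 := coord C _ (yS_mem C T p hp x') _ hk (yS_raises C T p hp x') p.1 hp1 rfl i hns
    have e2 := coord C _ (yS_mem C T p hp t) _ hk (yS_raises C T p hp t) p.1 hp1 rfl i hns
    rw [yS_tOf_head C T p hp] at e1 e2
    rw [← e1, ← e, Units.val_mul, Units.val_mul, hh, torusGL_inv, torusGL_coe, torusGL_coe]
    simp only [ChevalleyDatum.charDiag, Matrix.mul_diagonal, Matrix.diagonal_mul, Sum.elim_inl, Sum.elim_inr,
      one_mul]
    rw [hy, e2]
    have hneg : χ⁻¹ (D.neg p.1) = χ p.1 := by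
      rw [Pi.inv_apply, hχ.1 p.1 hp1.1, inv_inv]
    rw [hneg]
    ring
  rw [← hval]
  exact ⟨hx', e⟩

include T in
/-- The product of two elements of a class. -/
theorem yS_mul (p : ℕ × ℕ) (hp : ClassOK D pi p) (a b : K) (ha : Closes pi eps f p a) (hb : Closes pi eps f p b) :
    Closes pi eps f p (a + b) ∧
      yS C.c pi eps f p a * yS C.c pi eps f p b = yS C.c pi eps f p (a + b) := by
  have hp1 : D.IsPosRoot p.1 := hp.pos _ (head_mem p hp)
  have hk := ht_pos C p.1 hp1
  have h1 : yS C.c pi eps f p a * yS C.c pi eps f p b ∈ XS C.c K (orbRoots pi p.2 p.1) :=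
    Subgroup.mul_mem _ (yS_mem_XS C p a) (yS_mem_XS C p b)
  have h2 : σ (yS C.c pi eps f p a * yS C.c pi eps f p b) = yS C.c pi eps f p a * yS C.c pi eps f p b := by
    rw [map_mul, yS_fixed C T p hp a ha, yS_fixed C T p hp b hb]
  obtain ⟨x', hx', e⟩ := fixed_class C T p hp _ h1 h2
  have hval : x' = a + b := by
    have e1 := tOf_mul C _ _ (yS_mem C T p hp a) (yS_mem C T p hp b) _ hk (yS_raises C T p hp a)
      (yS_raises C T p hp b) p.1 hp1 rfl
    rw [e, yS_tOf_head C T p hp, yS_tOf_head C T p hp, yS_tOf_head C T p hp] at e1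
    exact e1
  rw [← hval]
  exact ⟨hx', e⟩

include T in
/-- The inverse of an element of a class. -/
theorem yS_inv (p : ℕ × ℕ) (hp : ClassOK D pi p) (a : K) (ha : Closes pi eps f p a) :
    Closes pi eps f p (-a) ∧ (yS C.c pi eps f p a)⁻¹ = yS C.c pi eps f p (-a) := by
  have hp1 : D.IsPosRoot p.1 := hp.pos _ (head_mem p hp)
  have hk := ht_pos C p.1 hp1
  have h1 : (yS C.c pi eps f p a)⁻¹ ∈ XS C.c K (orbRoots pi p.2 p.1) :=
    Subgroup.inv_mem _ (yS_mem_XS C p a)
  have h2 : σ (yS C.c pi eps f p a)⁻¹ = (yS C.c pi eps f p a)⁻¹ := by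
    rw [map_inv, yS_fixed C T p hp a ha]
  obtain ⟨x', hx', e⟩ := fixed_class C T p hp _ h1 h2
  have hval : x' = -a := by
    have e1 := tOf_inv C _ (yS_mem C T p hp a) _ hk (yS_raises C T p hp a) p.1 hp1 rfl
    rw [e, yS_tOf_head C T p hp, yS_tOf_head C T p hp] at e1
    exact e1
  rw [← hval]
  exact ⟨hx', e⟩

include T hchain in
/-- A class all of whose parameters are admissible, moved by a fixed diagonal element of `G¹` whose character is not `1`
on the class: its elements lie in the derived subgroup. -/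
theorem good_torus (G1 : Subgroup (GL D.Idx K)) (χ : ℕ → Kˣ) (hχ : D.IsRootCharacter χ)
    (hσh : σ (torusGL D K χ) = torusGL D K χ) (hh : torusGL D K χ ∈ G1)
    (p : ℕ × ℕ) (hp : ClassOK D pi p) (hall : ∀ t : K, Closes pi eps f p t)
    (hy : ∀ t : K, yS C.c pi eps f p t ∈ G1) (hne : (χ p.1 : K) ≠ 1) :
    Good C.c σ ⁅G1, G1⁆ (orbRoots pi p.2 p.1) := by
  apply good_base C T _ p hp
  intro x _
  have hne' : (χ p.1 : K) - 1 ≠ 0 := sub_ne_zero.mpr hne
  set t := x / ((χ p.1 : K) - 1) with ht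
  obtain ⟨-, e1⟩ := torus_conj_yS C T hchain χ hχ hσh p hp t (hall t)
  obtain ⟨-, e2⟩ := yS_inv C T p hp t (hall t)
  obtain ⟨-, e3⟩ := yS_mul C T p hp ((χ p.1 : K) * t) (-t) (hall _) (hall _)
  have e4 : (χ p.1 : K) * t + -t = x := by
    rw [ht]
    field_simp
    ring
  have e5 : yS C.c pi eps f p x = ⁅torusGL D K χ, yS C.c pi eps f p t⁆ := by
    rw [commutatorElement_def, e1, e2, e3, e4]
  rw [e5]
  exact Subgroup.commutator_mem_commutator hh (hy t)

end

/-! ### A fixed root which is the sum of two fixed roots -/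

section

variable (C : Certs D Ns K wl ws sc w) {σ : GL D.Idx K →* GL D.Idx K} {pi : ℕ → ℕ} {eps : ℕ → ℤ} {f : K →+* K}
  (T : Twist C.c w σ pi eps f)

include C in
/-- The root elements of the sum of two roots are commutators. -/
theorem x_comm (a b c : ℕ) (ha : a < D.nroots) (hb : b < D.nroots) (hba : b ≠ a) (hbn : b ≠ D.neg a)
    (hterms : D.commTerms a b = [(c, 1, 1, 1)]) (t u : K) :
    xGL C.c c (-t * u) = ⁅(xGL C.c b u)⁻¹, (xGL C.c a t)⁻¹⁆ := by
  have h := conj_of_R2 C.c (C.r2 a b ha hb hba hbn) t u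
  rw [commWord_eq, hterms] at h
  have h3 : wordGL C.c (termWord t u [(c, (1 : ℤ), 1, 1)]) = xGL C.c c (-t * u) := by
    unfold termWord
    rw [List.map_cons, List.map_nil, wordGL_cons, wordGL_nil, mul_one]
    congr 1
    push_cast
    ring
  rw [h3] at h
  rw [commutatorElement_def, inv_inv, inv_inv]
  have : xGL C.c c (-t * u) = (xGL C.c b u)⁻¹ * ((xGL C.c a t)⁻¹ * xGL C.c b u * xGL C.c a t) := by
    rw [h]
    group
  rw [this]
  group

include T in
/-- A class with one root which is the sum of two roots whose fixed root elements lie in `G¹`: its elements lie in the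
derived subgroup. -/
theorem good_comm (G1 : Subgroup (GL D.Idx K)) (a b c : ℕ) (ha : a < D.nroots) (hb : b < D.nroots) (hba : b ≠ a)
    (hbn : b ≠ D.neg a) (hterms : D.commTerms a b = [(c, 1, 1, 1)])
    (hp : ClassOK D pi (c, 1))
    (hmem : ∀ x : K, Closes pi eps f (c, 1) x → xGL C.c a (-x) ∈ G1)
    (hb1 : xGL C.c b (1 : K) ∈ G1) :
    Good C.c σ ⁅G1, G1⁆ (orbRoots pi 1 c) := by
  apply good_base C T _ (c, 1) hp
  intro x hx
  have e : yS C.c pi eps f (c, 1) x = xGL C.c c x := by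
    unfold yS
    simp only [orbWord]
    rw [wordGL_cons, wordGL_nil, mul_one]
  rw [e]
  have e2 := x_comm C a b c ha hb hba hbn hterms (-x) 1
  rw [neg_neg, mul_one] at e2
  rw [e2]
  exact Subgroup.commutator_mem_commutator (Subgroup.inv_mem _ hb1) (Subgroup.inv_mem _ (hmem x hx))

end

end Cfsg.Agent.Lib.Helper36_TwistPerf
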