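import Cfsg.Agent.Lib.Helper36_ReeBN
import Cfsg.Agent.Lib.Helper36_TwistPerf

set_option autoImplicit false

/-!
The twisted group of type `²G₂` over a field with more than three elements is perfect: a suitable element of `H¹`
has no fixed points on `U¹`, so that every element of `U¹` is a commutator.
-/

namespace Cfsg.Agent.Lib.Helper36_ReePerf

open Cfsg Cfsg.Lie Cfsg.Agent.Lib.Helper18_ChevFast Cfsg.Agent.Lib.Helper18_ChevEngine
  Cfsg.Agent.Lib.Helper18_ChevN Cfsg.Agent.Lib.Helper18_ChevWeyl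
  Cfsg.Agent.Lib.Helper18_ChevGL Cfsg.Agent.Lib.Helper18_ChevTri
  Cfsg.Agent.Lib.Helper18_ChevAdd Cfsg.Agent.Lib.Helper18_ChevUni Cfsg.Agent.Lib.Helper18_ChevComm
  Cfsg.Agent.Lib.Helper36_TwistU Cfsg.Agent.Lib.Helper36_TwistW
  Cfsg.Agent.Lib.Helper36_GraphAut Cfsg.Agent.Lib.Helper36_GraphAutG2 Cfsg.Agent.Lib.Helper36_GraphAutG2Main
  Cfsg.Agent.Lib.Helper36_ReeAlg Cfsg.Agent.Lib.Helper36_ReeSetup Cfsg.Agent.Lib.Helper36_ReeFix
  Cfsg.Agent.Lib.Helper36_TwistGen Cfsg.Agent.Lib.Helper36_TwistWeyl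
  Cfsg.Agent.Lib.Helper36_ChevTorus Cfsg.Agent.Lib.Helper36_ChevTorusAll
  Cfsg.Agent.Lib.Helper36_ChevW0 Cfsg.Agent.Lib.Helper36_ChevW0All Cfsg.Agent.Lib.Helper36_ChevTables
  Cfsg.Agent.Lib.Helper36_ChevOrder Cfsg.Agent.Lib.Helper36_ChevOrderAll Cfsg.Agent.Lib.Helper36_WeylChain
  Cfsg.Agent.Lib.Helper36_WeylLit Cfsg.Agent.Lib.Helper36_WeylLit.RootLit
  Cfsg.Agent.Lib.Helper36_ChevDataG2Lit Cfsg.Agent.Lib.Helper36_ChevDataG2LitOK Cfsg.Agent.Lib.Helper36_ReeTw
  Cfsg.Agent.Lib.Helper36_ChevBorel Cfsg.Agent.Lib.Helper36_ChevCore Cfsg.Agent.Lib.Helper36_ReeBruhat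
  Cfsg.Agent.Lib.Helper36_ReeEntry Cfsg.Agent.Lib.Helper36_ReeH Cfsg.Agent.Lib.Helper36_ReeOrder
  Cfsg.Agent.Lib.Helper36_ReeN Cfsg.Agent.Lib.Helper36_ReeBN

open scoped commutatorElement

theorem cartanOK2 : chevG2.cartan 0 6 = -3 ∧ chevG2.cartan 1 6 = 2 ∧ chevG2.cartan 0 8 = -1 ∧
    chevG2.cartan 1 8 = 1 ∧ chevG2.cartan 0 9 = 1 ∧ chevG2.cartan 1 9 = 0 ∧ chevG2.cartan 0 11 = 0 ∧
    chevG2.cartan 1 11 = 1 := by decide +kernel

section

variable {K : Type*} [Field K] [Fintype K] [CharP K 3] {m : ℕ} (hK : Fintype.card K = 3 ^ (2 * m + 1))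

/-- The normal form as a product of root elements. -/
theorem N_coe (t6 t7 c1 c2 c3 c4 : K) :
    (((posSys hK).N t6 t7 c1 c2 c3 c4 : ↥(chevG2.group K)) : GL chevG2.Idx K) =
      xGL dc 6 t6 * xGL dc 7 t7 * (xGL dc 8 c1 * xGL dc 9 c2 * xGL dc 10 c3 * xGL dc 11 c4) := rfl

/-- Conjugation of the normal form by a diagonal element. -/
theorem conj_N (χ : ℕ → Kˣ) (hχ : chevG2.IsRootCharacter χ) (t6 t7 c1 c2 c3 c4 : K) :
    torusGL chevG2 K χ * (((posSys hK).N t6 t7 c1 c2 c3 c4 : ↥(chevG2.group K)) : GL chevG2.Idx K) *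
        (torusGL chevG2 K χ)⁻¹ =
      (((posSys hK).N ((χ 6 : K) * t6) ((χ 7 : K) * t7) ((χ 8 : K) * c1) ((χ 9 : K) * c2) ((χ 10 : K) * c3)
        ((χ 11 : K) * c4) : ↥(chevG2.group K)) : GL chevG2.Idx K) := by
  have hc := chainOK_of_mem chevG2 hD
  rw [N_coe, N_coe, ← Cfsg.Agent.Lib.Helper36_TwistPerf.torus_conj_x dc hc χ hχ 6 (by decide),
    ← Cfsg.Agent.Lib.Helper36_TwistPerf.torus_conj_x dc hc χ hχ 7 (by decide),
    ← Cfsg.Agent.Lib.Helper36_TwistPerf.torus_conj_x dc hc χ hχ 8 (by decide),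
    ← Cfsg.Agent.Lib.Helper36_TwistPerf.torus_conj_x dc hc χ hχ 9 (by decide),
    ← Cfsg.Agent.Lib.Helper36_TwistPerf.torus_conj_x dc hc χ hχ 10 (by decide),
    ← Cfsg.Agent.Lib.Helper36_TwistPerf.torus_conj_x dc hc χ hχ 11 (by decide)]
  group

theorem W_pos_zero : (posSys hK).W 0 0 0 = 1 := by
  rw [(posSys hK).W_eq_N]
  have hθ0 : (posSys hK).θ 0 = 0 := map_zero _
  simp only [hθ0, mul_zero, add_zero, ne_eq, OfNat.ofNat_ne_zero, not_false_eq_true, zero_pow]
  apply Subtype.ext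
  rw [N_coe]
  simp only [xGL_zero, mul_one]
  rfl

include hK in
/-- The values of the character of a fixed torus element. -/
theorem chi_values (μ : Kˣ) (hμ : μ ^ 2 ≠ 1) :
    chi chevG2 K (uu K m μ) 6 ≠ 1 ∧ chi chevG2 K (uu K m μ) 8 ≠ 1 ∧ chi chevG2 K (uu K m μ) 9 ≠ 1 := by
  set ν : Kˣ := Units.map (theta K m : K →* K) μ with hν
  have h0 : uu K m μ 0 = ν := by
    unfold uu
    rw [if_pos rfl]
  have h1 : uu K m μ 1 = μ := by
    unfold uu
    rw [if_neg (by decide)]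
  have hθθ : (Units.map (theta K m : K →* K) ν) ^ 3 = μ := by
    apply Units.ext
    rw [Units.val_pow_eq_pow_val]
    exact theta_theta hK (μ : K)
  have hinj : ∀ a : Kˣ, Units.map (theta K m : K →* K) a = 1 → a = 1 := by
    intro a ha
    apply Units.ext
    have h2 : theta K m (a : K) = theta K m 1 := by
      rw [map_one]
      exact congrArg Units.val ha
    exact (theta K m).injective h2
  have hμ1 : μ ≠ 1 := by
    intro h
    apply hμ
    rw [h, one_pow]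
  have hν1 : ν ≠ 1 := fun h => hμ1 (hinj μ h)
  rw [chi_two, chi_two, chi_two, h0, h1, cartanOK2.1, cartanOK2.2.1, cartanOK2.2.2.1, cartanOK2.2.2.2.1,
    cartanOK2.2.2.2.2.1, cartanOK2.2.2.2.2.2.1]
  refine ⟨?_, ?_, ?_⟩
  · intro h
    -- `ν⁻³ μ² = 1`
    have e1 : μ ^ 2 = ν ^ 3 := by
      have : ν ^ (-3 : ℤ) * μ ^ (2 : ℤ) = 1 := h
      rw [zpow_neg, inv_mul_eq_one] at this
      exact_mod_cast this.symm
    have e2 : ν ^ 2 = μ := by
      have := congrArg (Units.map (theta K m : K →* K)) e1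
      rw [map_pow, map_pow, hθθ] at this
      exact this
    have e3 : ν ^ 4 = ν ^ 3 := by
      calc ν ^ 4 = (ν ^ 2) ^ 2 := by rw [← pow_mul]
        _ = μ ^ 2 := by rw [e2]
        _ = ν ^ 3 := e1
    apply hν1
    have e4 : ν ^ 3 * ν = ν ^ 3 * 1 := by
      rw [mul_one, ← pow_succ]
      exact e3
    exact mul_left_cancel e4
  · intro h
    have e1 : μ = ν := by
      have : ν ^ (-1 : ℤ) * μ ^ (1 : ℤ) = 1 := h
      rw [zpow_neg, inv_mul_eq_one, zpow_one, zpow_one] at this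
      exact this.symm
    have e2 : Units.map (theta K m : K →* K) ν = μ := by
      rw [← e1]
      exact e1.symm
    have e3 : μ ^ 3 = μ := by
      rw [e2] at hθθ
      exact hθθ
    apply hμ
    have e4 : μ * μ ^ 2 = μ * 1 := by
      rw [mul_one, ← pow_succ']
      exact e3
    exact mul_left_cancel e4
  · intro h
    apply hν1
    have : ν ^ (1 : ℤ) * μ ^ (0 : ℤ) = 1 := h
    rw [zpow_one, zpow_zero, mul_one] at this
    exact this

include hK in
/-- A fixed torus element with parameter not of order dividing two has no fixed point on `U¹`. -/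
theorem cent_trivial (μ : Kˣ) (hμ : μ ^ 2 ≠ 1) (w : GL chevG2.Idx K)
    (hw : w ∈ chevG2.posUnipotent K ⊓ twistedG2 K (3 ^ m))
    (hc : hfix K m μ * w * (hfix K m μ)⁻¹ = w) : w = 1 := by
  obtain ⟨t, u, v, rfl⟩ := (mem_U_inf hK w).mp hw
  have hχ : chevG2.IsRootCharacter (chi chevG2 K (uu K m μ)) := isRootCharacter_chi chevG2 K (hfK K).hca _
  have he : (posSys hK).ε = 1 := by
    show (((1 : ℤ) : K)) = 1
    simp
  rw [(posSys hK).W_eq_N] at hc
  have hc' : torusGL chevG2 K (chi chevG2 K (uu K m μ)) * _ * (torusGL chevG2 K (chi chevG2 K (uu K m μ)))⁻¹ = _ := hc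
  rw [conj_N hK _ hχ] at hc'
  obtain ⟨h6, -, h8, h9, -, -⟩ := N_inj hK _ _ _ _ _ _ _ _ _ _ _ _ (Subtype.ext hc')
  obtain ⟨n6, n8, n9⟩ := chi_values hK μ hμ
  rw [he, one_mul] at h6 h8 h9
  have key : ∀ (c : Kˣ) (x : K), c ≠ 1 → (c : K) * x = x → x = 0 := by
    intro c x hc1 hx
    have h2 : ((c : K) - 1) * x = 0 := by rw [sub_mul, hx, one_mul, sub_self]
    rcases mul_eq_zero.mp h2 with h3 | h3
    · exfalso
      apply hc1
      apply Units.ext
      rw [Units.val_one]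
      exact sub_eq_zero.mp h3
    · exact h3
  have ht : t = 0 := key _ _ n6 h6
  have hu : u = 0 := by
    have := key _ _ n8 h8
    rw [← map_zero (posSys hK).θ] at this
    exact (posSys hK).θ.injective this
  have hv : v = 0 := by
    have := key _ _ n9 h9
    rw [← map_zero (posSys hK).θ] at this
    exact (posSys hK).θ.injective this
  rw [ht, hu, hv, W_pos_zero]
  rfl

omit [Fintype K] [CharP K 3] in
/-- The diagonal elements normalise `U`. -/
theorem diag_conj_U (h : GL chevG2.Idx K) (hh : h ∈ chevG2.diagonalSubgroup K) (u : GL chevG2.Idx K)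
    (hu : u ∈ chevG2.posUnipotent K) : h * u * h⁻¹ ∈ chevG2.posUnipotent K := by
  have h1 := diag_le_normalizer chevG2 K (hfK K) (chainOK_of_mem chevG2 hD) chevG2.IsPosRoot (fun r hr => hr.1) hh
  rw [posUnipotent_eq] at hu ⊢
  exact (Subgroup.mem_normalizer_iff.mp h1 u).mp hu

include hK in
/-- Every element of `U¹` is a commutator, if the field has more than three elements. -/
theorem U_le_commutator (μ : Kˣ) (hμ : μ ^ 2 ≠ 1) :
    chevG2.posUnipotent K ⊓ twistedG2 K (3 ^ m) ≤ ⁅twistedG2 K (3 ^ m), twistedG2 K (3 ^ m)⁆ := by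
  set h := hfix K m μ with hh
  have hmem : h ∈ twistedG2 K (3 ^ m) := hfix_mem hK μ
  have hdiag : h ∈ chevG2.diagonalSubgroup K := hfix_mem_diag μ
  let f : ↥(chevG2.posUnipotent K ⊓ twistedG2 K (3 ^ m)) → ↥(chevG2.posUnipotent K ⊓ twistedG2 K (3 ^ m)) :=
    fun w => ⟨h * (w : GL chevG2.Idx K) * h⁻¹ * (w : GL chevG2.Idx K)⁻¹,
      Subgroup.mul_mem _ ⟨diag_conj_U h hdiag _ w.2.1,
        Subgroup.mul_mem _ (Subgroup.mul_mem _ hmem w.2.2) (Subgroup.inv_mem _ hmem)⟩ (Subgroup.inv_mem _ w.2)⟩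
  have hinj : Function.Injective f := by
    intro w w' e
    have e1 : h * (w : GL chevG2.Idx K) * h⁻¹ * (w : GL chevG2.Idx K)⁻¹ =
        h * (w' : GL chevG2.Idx K) * h⁻¹ * (w' : GL chevG2.Idx K)⁻¹ := congrArg Subtype.val e
    have e2 : h * (w : GL chevG2.Idx K) * h⁻¹ = h * (w' : GL chevG2.Idx K) * h⁻¹ * (w' : GL chevG2.Idx K)⁻¹ * w := by
      rw [← e1]
      group
    have e3 : h * ((w' : GL chevG2.Idx K)⁻¹ * w) * h⁻¹ = (w' : GL chevG2.Idx K)⁻¹ * w := by
      calc h * ((w' : GL chevG2.Idx K)⁻¹ * w) * h⁻¹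
          = (h * (w' : GL chevG2.Idx K) * h⁻¹)⁻¹ * (h * (w : GL chevG2.Idx K) * h⁻¹) := by group
        _ = (w' : GL chevG2.Idx K)⁻¹ * w := by
          rw [e2]
          group
    have e4 := cent_trivial hK μ hμ _ (Subgroup.mul_mem _ (Subgroup.inv_mem _ w'.2) w.2) e3
    apply Subtype.ext
    exact (inv_mul_eq_one.mp e4).symm
  have hsurj : Function.Surjective f := Finite.injective_iff_surjective.mp hinj
  intro g hg
  obtain ⟨w, hw⟩ := hsurj ⟨g, hg⟩
  have e : g = ⁅h, (w : GL chevG2.Idx K)⁆ := by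
    rw [commutatorElement_def]
    exact (congrArg Subtype.val hw).symm
  rw [e]
  exact Subgroup.commutator_mem_commutator hmem w.2.2

/-- Conjugation with the chosen monomial element maps `V` into `U`. -/
theorem m0_conj_V (v : GL chevG2.Idx K) (hv : v ∈ chevG2.negUnipotent K) :
    m0 hK * v * (m0 hK)⁻¹ ∈ chevG2.posUnipotent K := by
  rw [negUnipotent_eq] at hv
  rw [posUnipotent_eq]
  refine conj_rootClosure chevG2 K (hfK K) lit litOK (m0_acts hK) chevG2.IsNegRoot chevG2.IsPosRoot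
    (fun r hr => hr.1) ?_ v hv
  intro r hr
  have h1 : lit.ps (w0Perm r) = (!lit.ps r) := (wf.2 r r.2).2.2
  have hr12 : (r : ℕ) < chevG2.nroots := r.2
  rw [(litOK.hneg r hr12).mpr hr] at h1
  exact (litOK.hpos _ (w0Perm r).2).mp h1

/-- The generators of the second kind lie in `V`. -/
theorem W_neg_memV (t u v : K) :
    (((negSys hK).W t u v : ↥(chevG2.group K)) : GL chevG2.Idx K) ∈ chevG2.negUnipotent K := by
  unfold ReeSys.W ReeSys.M
  simp only [Subgroup.coe_mul]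
  refine Subgroup.mul_mem _ (Subgroup.mul_mem _ (xGL_mem_neg 4 (by decide) _) (xGL_mem_neg 5 (by decide) _))
    (Subgroup.mul_mem _ (Subgroup.mul_mem _ (Subgroup.mul_mem _ (xGL_mem_neg 3 (by decide) _)
      (xGL_mem_neg 2 (by decide) _)) (xGL_mem_neg 1 (by decide) _)) (xGL_mem_neg 0 (by decide) _))

include hK in
theorem le_commutator (μ : Kˣ) (hμ : μ ^ 2 ≠ 1) :
    twistedG2 K (3 ^ m) ≤ ⁅twistedG2 K (3 ^ m), twistedG2 K (3 ^ m)⁆ := by
  have hU := U_le_commutator hK μ hμ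
  intro g hg
  have hg' := hg
  unfold twistedG2 ChevalleyDatum.genSubgroup at hg'
  induction hg' using Subgroup.closure_induction with
  | mem g hgen =>
    obtain ⟨w, ⟨t, u, v, hw | hw⟩, hgw⟩ := hgen
    · rw [hw, reeU_eq hK] at hgw
      rw [Units.ext hgw]
      exact hU ⟨W_pos_memU hK t u v, W_pos_mem hK t u v⟩
    · rw [hw, reeV_eq hK] at hgw
      rw [Units.ext hgw]
      set x := (((negSys hK).W t u v : ↥(chevG2.group K)) : GL chevG2.Idx K) with hx
      have h1 : m0 hK * x * (m0 hK)⁻¹ ∈ chevG2.posUnipotent K ⊓ twistedG2 K (3 ^ m) :=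
        ⟨m0_conj_V hK x (W_neg_memV hK t u v),
          Subgroup.mul_mem _ (Subgroup.mul_mem _ (m0_mem hK) (W_neg_mem hK t u v)) (Subgroup.inv_mem _ (m0_mem hK))⟩
      have h2 := Cfsg.Agent.Lib.Helper36_TwistPerf.conj_mem_commutator (twistedG2 K (3 ^ m)) (m0 hK) _ (m0_mem hK)
        (hU h1)
      have e : x = (m0 hK)⁻¹ * (m0 hK * x * (m0 hK)⁻¹) * m0 hK := by group
      rw [e]
      exact h2
  | one => exact Subgroup.one_mem _
  | mul a b _ _ iha ihb => exact Subgroup.mul_mem _ (iha (by assumption)) (ihb (by assumption))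
  | inv a _ iha => exact Subgroup.inv_mem _ (iha (by assumption))

include hK in
/-- There is a unit whose square is not one, if the field has more than three elements. -/
theorem exists_unit (hm : 1 ≤ m) : ∃ μ : Kˣ, μ ^ 2 ≠ 1 := by
  obtain ⟨g, hg⟩ := IsCyclic.exists_generator (α := Kˣ)
  refine ⟨g, ?_⟩
  intro h
  have h1 : orderOf g = Nat.card Kˣ := orderOf_eq_card_of_forall_mem_zpowers hg
  have h2 : orderOf g ∣ 2 := orderOf_dvd_of_pow_eq_one h
  have h3 : Nat.card Kˣ = 3 ^ (2 * m + 1) - 1 := by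
    rw [Nat.card_units, Nat.card_eq_fintype_card, hK]
  have h4 : orderOf g ≤ 2 := Nat.le_of_dvd (by norm_num) h2
  have h5 : (3 : ℕ) ^ 3 ≤ 3 ^ (2 * m + 1) := Nat.pow_le_pow_right (by norm_num) (by omega)
  rw [h1, h3] at h4
  omega

include hK in
/-- The twisted group is perfect, if the field has more than three elements. -/
theorem perfect (hm : 1 ≤ m) : commutator ↥(twistedG2 K (3 ^ m)) = ⊤ := by
  obtain ⟨μ, hμ⟩ := exists_unit hK hm
  have heq : ⁅twistedG2 K (3 ^ m), twistedG2 K (3 ^ m)⁆ = twistedG2 K (3 ^ m) :=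
    le_antisymm (Subgroup.commutator_le_self _) (le_commutator hK μ hμ)
  apply Subgroup.map_injective (twistedG2 K (3 ^ m)).subtype_injective
  rw [Subgroup.map_subtype_commutator, heq, ← MonoidHom.range_eq_map, Subgroup.range_subtype]

end

end Cfsg.Agent.Lib.Helper36_ReePerf
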