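import Cfsg.Agent.Lib.Helper36_ReeCubeAlg
import Cfsg.Agent.Lib.Helper36_ReePerf

set_option autoImplicit false

/-!
The elements of order 3 of `U¹` in the twisted group of type `²G₂`.
-/

namespace Cfsg.Agent.Lib.Helper36_ReeCube

open Cfsg Cfsg.Lie Cfsg.Agent.Lib.Helper18_ChevFast Cfsg.Agent.Lib.Helper18_ChevEngine
  Cfsg.Agent.Lib.Helper18_ChevGL Cfsg.Agent.Lib.Helper18_ChevComm Cfsg.Agent.Lib.Helper18_ChevUni
  Cfsg.Agent.Lib.Helper36_TwistU Cfsg.Agent.Lib.Helper36_TwistW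
  Cfsg.Agent.Lib.Helper36_ReeAlg Cfsg.Agent.Lib.Helper36_ReeSetup Cfsg.Agent.Lib.Helper36_ReeFix
  Cfsg.Agent.Lib.Helper36_ReeCubeAlg Cfsg.Agent.Lib.Helper36_ReePerf

theorem termsOK : chevG2.commTerms 7 8 = [(9, -2, 1, 1), (10, -3, 2, 1), (11, 3, 1, 2)] ∧
    chevG2.commTerms 7 9 = [(10, 3 * 1, 1, 1)] ∧ chevG2.commTerms 7 10 = [] ∧ chevG2.commTerms 7 11 = [] ∧
    chevG2.commTerms 6 8 = [] ∧ chevG2.commTerms 6 9 = [] ∧ chevG2.commTerms 6 10 = [(11, 1, 1, 1)] ∧
    chevG2.commTerms 6 11 = [] ∧ chevG2.neg 7 = 4 ∧ chevG2.neg 6 = 5 := by decide +kernel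

section

variable {K : Type*} [Field K] [Fintype K] [CharP K 3] {m : ℕ} (hK : Fintype.card K = 3 ^ (2 * m + 1))

/-- The remaining relations of the system of the positive roots. -/
theorem posRel : ReeRel (posSys hK) (2 : K) (-1 : K) where
  three := three_eq_zero
  a1 := by
    intro t c
    have h2 := (certs (K := K)).r2 7 8 (by decide) (by decide) (by decide) (by rw [termsOK.2.2.2.2.2.2.2.2.1]; decide) t c
    rw [commWord_eq, termsOK.1] at h2
    apply Subtype.ext
    apply Units.ext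
    show chevG2.x K 8 c * chevG2.x K 7 t = chevG2.x K 7 t * chevG2.x K 8 c * chevG2.x K 9 (2 * t * c)
    rw [h2]
    congr 1
    unfold termWord ChevalleyDatum.wordMat
    simp only [List.map_cons, List.map_nil, List.prod_cons, List.prod_nil, mul_one]
    have h3 : (3 : K) = 0 := three_eq_zero
    have e1 : (((-3 : ℤ) : K)) * (-t) ^ 2 * c ^ 1 = 0 := by
      push_cast
      linear_combination (-(t ^ 2 * c)) * h3
    have e2 : (((3 : ℤ) : K)) * (-t) ^ 1 * c ^ 2 = 0 := by
      push_cast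
      linear_combination (-(t * c ^ 2)) * h3
    have e3 : (((-2 : ℤ) : K)) * (-t) ^ 1 * c ^ 1 = 2 * t * c := by
      push_cast
      ring
    have hz : ∀ k : ℕ, chevG2.x K k 0 = 1 := by
      intro k
      have := xGL_zero (F := K) dc k
      have h4 := congrArg (fun g : GL chevG2.Idx K => (g : Matrix chevG2.Idx chevG2.Idx K)) this
      simpa using h4
    rw [e1, e2, e3, hz, hz, mul_one, mul_one]
  a2 := fun t c => xG_comm3 7 9 10 1 (by decide) (by decide) (by decide) (by rw [termsOK.2.2.2.2.2.2.2.2.1]; decide)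
    termsOK.2.1 t c
  a3 := fun t c => xG_comm 7 10 (by decide) (by decide) (by decide) (by rw [termsOK.2.2.2.2.2.2.2.2.1]; decide)
    termsOK.2.2.1 t c
  a4 := fun t c => xG_comm 7 11 (by decide) (by decide) (by decide) (by rw [termsOK.2.2.2.2.2.2.2.2.1]; decide)
    termsOK.2.2.2.1 t c
  b1 := fun u c => xG_comm 6 8 (by decide) (by decide) (by decide) (by rw [termsOK.2.2.2.2.2.2.2.2.2]; decide)
    termsOK.2.2.2.2.1 u c
  b2 := fun u c => xG_comm 6 9 (by decide) (by decide) (by decide) (by rw [termsOK.2.2.2.2.2.2.2.2.2]; decide)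
    termsOK.2.2.2.2.2.1 u c
  b3 := by
    intro u c
    have h2 := (certs (K := K)).r2 6 10 (by decide) (by decide) (by decide) (by rw [termsOK.2.2.2.2.2.2.2.2.2]; decide) u c
    rw [commWord_eq, termsOK.2.2.2.2.2.2.1] at h2
    apply Subtype.ext
    apply Units.ext
    show chevG2.x K 10 c * chevG2.x K 6 u = chevG2.x K 6 u * chevG2.x K 10 c * chevG2.x K 11 (-1 * u * c)
    rw [h2]
    congr 1
    unfold termWord ChevalleyDatum.wordMat
    simp only [List.map_cons, List.map_nil, List.prod_cons, List.prod_nil, mul_one]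
    congr 1
    push_cast
    ring
  b4 := fun u c => xG_comm 6 11 (by decide) (by decide) (by decide) (by rw [termsOK.2.2.2.2.2.2.2.2.2]; decide)
    termsOK.2.2.2.2.2.2.2.1 u c

/-- The cube of a fixed element of `U` is trivial exactly when the first parameter vanishes. -/
theorem W_cube_eq_one (t u v : K) : ((posSys hK).W t u v) ^ 3 = 1 ↔ t = 0 := by
  have he : (posSys hK).ε = 1 := by
    show (((1 : ℤ) : K)) = 1
    simp
  rw [W_cube (posRel hK), he]
  constructor
  · intro h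
    rw [← N_zero (S := posSys hK)] at h
    obtain ⟨-, -, -, -, -, h6⟩ := N_inj hK _ _ _ _ _ _ _ _ _ _ _ _ h
    have h7 : ((posSys hK).θ t) ^ 3 * t ^ 2 = 0 := by linear_combination -h6
    rcases mul_eq_zero.mp h7 with h8 | h8
    · have h9 : (posSys hK).θ t = 0 := by
        by_contra hne
        exact pow_ne_zero 3 hne h8
      rw [← map_zero (posSys hK).θ] at h9
      exact (posSys hK).θ.injective h9
    · by_contra hne
      exact pow_ne_zero 2 hne h8
  · intro h
    rw [h, map_zero]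
    simp only [mul_zero, ne_eq, OfNat.ofNat_ne_zero, not_false_eq_true, zero_pow]
    exact N_zero

/-- A fixed element of `U` is trivial exactly when all parameters vanish. -/
theorem W_eq_one (t u v : K) : (posSys hK).W t u v = 1 ↔ t = 0 ∧ u = 0 ∧ v = 0 := by
  constructor
  · intro h
    rw [← W_pos_zero hK] at h
    exact W_pos_inj hK _ _ _ _ _ _ h
  · rintro ⟨rfl, rfl, rfl⟩
    exact W_pos_zero hK

/-- The fixed elements of `U` of order 3. -/
theorem orderOf_W (t u v : K) :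
    orderOf ((((posSys hK).W t u v : ↥(chevG2.group K))) : GL chevG2.Idx K) = 3 ↔ t = 0 ∧ ¬ (u = 0 ∧ v = 0) := by
  haveI : Fact (Nat.Prime 3) := ⟨Nat.prime_three⟩
  rw [Subgroup.orderOf_coe, orderOf_eq_prime_iff, W_cube_eq_one, Ne, W_eq_one]
  constructor
  · rintro ⟨h1, h2⟩
    exact ⟨h1, fun h => h2 ⟨h1, h⟩⟩
  · rintro ⟨h1, h2⟩
    exact ⟨h1, fun h => h2 h.2⟩

include hK in
/-- The number of elements of order 3 of `U¹`. -/
theorem card_order_three :
    Nat.card {w : ↥(chevG2.posUnipotent K ⊓ twistedG2 K (3 ^ m)) // orderOf w = 3} = (3 ^ (2 * m + 1)) ^ 2 - 1 := by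
  classical
  have hbij : Function.Bijective (fun p : {p : K × K // ¬ p = 0} =>
      (⟨⟨(((posSys hK).W 0 p.1.1 p.1.2 : ↥(chevG2.group K)) : GL chevG2.Idx K),
        (mem_U_inf hK _).mpr ⟨_, _, _, rfl⟩⟩, by
          rw [Subgroup.orderOf_mk, orderOf_W]
          refine ⟨rfl, fun h => p.2 ?_⟩
          exact Prod.ext h.1 h.2⟩ :
        {w : ↥(chevG2.posUnipotent K ⊓ twistedG2 K (3 ^ m)) // orderOf w = 3})) := by
    constructor
    · rintro ⟨⟨u, v⟩, hp⟩ ⟨⟨u', v'⟩, hp'⟩ h
      have h1 := congrArg (fun w : {w : ↥(chevG2.posUnipotent K ⊓ twistedG2 K (3 ^ m)) // orderOf w = 3} =>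
        ((w : ↥(chevG2.posUnipotent K ⊓ twistedG2 K (3 ^ m))) : GL chevG2.Idx K)) h
      have h2 : (posSys hK).W 0 u v = (posSys hK).W 0 u' v' := Subtype.ext h1
      obtain ⟨-, rfl, rfl⟩ := W_pos_inj hK _ _ _ _ _ _ h2
      rfl
    · rintro ⟨⟨g, hg⟩, ho⟩
      obtain ⟨t, u, v, rfl⟩ := (mem_U_inf hK g).mp hg
      rw [Subgroup.orderOf_mk, orderOf_W] at ho
      obtain ⟨rfl, h2⟩ := ho
      refine ⟨⟨(u, v), fun h => h2 ?_⟩, rfl⟩
      exact ⟨congrArg Prod.fst h, congrArg Prod.snd h⟩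
  rw [← Nat.card_congr (Equiv.ofBijective _ hbij), Nat.card_eq_fintype_card, Fintype.card_subtype_compl,
    Fintype.card_subtype_eq, Fintype.card_prod, hK, sq]

end

end Cfsg.Agent.Lib.Helper36_ReeCube
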