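import Cfsg.Agent.Lib.Helper18_ChevTri

set_option autoImplicit false

/-!
The structure of the diagonal subgroup `H` and of `B = U H`.
-/

namespace Cfsg.Agent.Lib.Helper18_ChevBorel

open Cfsg Cfsg.Lie Cfsg.Agent.Lib.Helper18_ChevFast Cfsg.Agent.Lib.Helper18_ChevEngine
  Cfsg.Agent.Lib.Helper18_ChevR1 Cfsg.Agent.Lib.Helper18_ChevN Cfsg.Agent.Lib.Helper18_ChevR4
  Cfsg.Agent.Lib.Helper18_ChevSimple Cfsg.Agent.Lib.Helper18_ChevSimple2 Cfsg.Agent.Lib.Helper18_ChevFacts
  Cfsg.Agent.Lib.Helper18_ChevWeyl Cfsg.Agent.Lib.Helper18_ChevDiag Cfsg.Agent.Lib.Helper18_ChevCar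
  Cfsg.Agent.Lib.Helper18_ChevTorus Cfsg.Agent.Lib.Helper18_ChevGL Cfsg.Agent.Lib.Helper18_MatTri
  Cfsg.Agent.Lib.Helper18_ChevTri

variable {D : ChevalleyDatum} {Ns : List NData} {F : Type*} [Field F]

/-! ### Torus characters -/

theorem zpow_sum_range (a : F) (ha : a ≠ 0) (f : ℕ → ℤ) : ∀ n : ℕ,
    a ^ (∑ j ∈ Finset.range n, f j) = ∏ j ∈ Finset.range n, a ^ f j
  | 0 => by simp
  | n + 1 => by
    rw [Finset.sum_range_succ, Finset.prod_range_succ, zpow_add₀ ha, zpow_sum_range a ha f n]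

theorem torusChar_mul (t t' : ℕ → F) (s : ℕ) :
    torusChar D t s * torusChar D t' s = torusChar D (fun i => t i * t' i) s := by
  unfold torusChar
  rw [← Finset.prod_mul_distrib]
  apply Finset.prod_congr rfl
  intro i _
  rw [mul_zpow]

theorem torusChar_inv (t : ℕ → F) (s : ℕ) : (torusChar D t s)⁻¹ = torusChar D (fun i => (t i)⁻¹) s := by
  unfold torusChar
  rw [← Finset.prod_inv_distrib]
  apply Finset.prod_congr rfl
  intro i _
  rw [inv_zpow]

theorem torusChar_one (s : ℕ) : torusChar D (fun _ => (1 : F)) s = 1 := by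
  unfold torusChar
  simp

/-- The character of `h_r(a)` is a torus character. -/
theorem cartanR_char (r : ℕ) (a : F) (ha : a ≠ 0) (s : ℕ) :
    a ^ cartanR D r s = torusChar D (fun j => a ^ cor D r j) s := by
  unfold cartanR torusChar
  rw [zpow_sum_range a ha]
  apply Finset.prod_congr rfl
  intro j _
  rw [zpow_mul]

/-- The torus element with parameters `t`. -/
def torusMat (D : ChevalleyDatum) (t : ℕ → F) : Matrix D.Idx D.Idx F := diagMat D (torusChar D t)

theorem torusMat_mul (t t' : ℕ → F) : torusMat D t * torusMat D t' = torusMat D (fun i => t i * t' i) := by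
  unfold torusMat
  rw [diagMat_mul]
  apply diagMat_congr
  intro s _
  exact torusChar_mul t t' s

theorem torusMat_one : torusMat D (fun _ => (1 : F)) = 1 := by
  unfold torusMat
  rw [← diagMat_one]
  apply diagMat_congr
  intro s _
  exact torusChar_one s

/-- Every element of `H` is a torus element. -/
theorem exists_torus_of_mem (c : DCert D Ns) (tc : TCert D) (g : GL D.Idx F) (hg : g ∈ D.diagonalSubgroup F) :
    ∃ t : ℕ → F, (∀ i, t i ≠ 0) ∧ (g : Matrix D.Idx D.Idx F) = torusMat D t := by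
  unfold ChevalleyDatum.diagonalSubgroup at hg
  induction hg using Subgroup.closure_induction with
  | mem g hg =>
    obtain ⟨r, a, hr, ha, hg⟩ := hg
    refine ⟨fun j => a ^ cor D r j, fun j => zpow_ne_zero _ ha, ?_⟩
    rw [hg, hMat_all c tc r hr a ha]
    apply diagMat_congr
    intro s _
    exact cartanR_char r a ha s
  | one => exact ⟨fun _ => 1, fun _ => one_ne_zero, by rw [torusMat_one]; rfl⟩
  | mul g h _ _ ihg ihh =>
    obtain ⟨t, ht, hg⟩ := ihg
    obtain ⟨t', ht', hh⟩ := ihh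
    refine ⟨fun i => t i * t' i, fun i => mul_ne_zero (ht i) (ht' i), ?_⟩
    rw [Units.val_mul, hg, hh, torusMat_mul]
  | inv g _ ih =>
    obtain ⟨t, ht, hg⟩ := ih
    refine ⟨fun i => (t i)⁻¹, fun i => inv_ne_zero (ht i), ?_⟩
    have h1 : (g : Matrix D.Idx D.Idx F) * torusMat D (fun i => (t i)⁻¹) = 1 := by
      rw [hg, torusMat_mul, ← torusMat_one]
      congr 1
      funext i
      exact mul_inv_cancel₀ (ht i)
    have h2 : ((g⁻¹ : GL D.Idx F) : Matrix D.Idx D.Idx F) * (g : Matrix D.Idx D.Idx F) = 1 := by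
      rw [← Units.val_mul, inv_mul_cancel, Units.val_one]
    calc ((g⁻¹ : GL D.Idx F) : Matrix D.Idx D.Idx F)
        = ((g⁻¹ : GL D.Idx F) : Matrix D.Idx D.Idx F) * ((g : Matrix D.Idx D.Idx F) *
            torusMat D (fun i => (t i)⁻¹)) := by rw [h1, mul_one]
      _ = _ := by rw [← mul_assoc, h2, one_mul]

theorem isChar_torus (c : DCert D Ns) (tc : TCert D) (t : ℕ → F) (ht : ∀ i, t i ≠ 0) :
    IsChar D (torusChar D t) :=
  (tc.carCompat c).isChar_torus t (fun i _ => ht i)

/-- Torus elements conjugate root elements to root elements of the same root. -/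
theorem torus_conj (c : DCert D Ns) (tc : TCert D) (t : ℕ → F) (ht : ∀ i, t i ≠ 0) (r : ℕ) (hr : r < D.nroots)
    (a : F) : torusMat D t * D.x F r a = D.x F r (torusChar D t r * a) * torusMat D t :=
  diag_conj (isChar_torus c tc t ht) r hr a

/-! ### Normalizers of closures -/

theorem mem_normalizer_closure {G : Type*} [Group G] (S : Set G) (g : G)
    (h1 : ∀ s ∈ S, g * s * g⁻¹ ∈ Subgroup.closure S) (h2 : ∀ s ∈ S, g⁻¹ * s * g ∈ Subgroup.closure S) :
    g ∈ Subgroup.normalizer (Subgroup.closure S : Set G) := by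
  have key : ∀ (k : G), (∀ s ∈ S, k * s * k⁻¹ ∈ Subgroup.closure S) →
      ∀ n ∈ Subgroup.closure S, k * n * k⁻¹ ∈ Subgroup.closure S := by
    intro k hk n hn
    induction hn using Subgroup.closure_induction with
    | mem s hs => exact hk s hs
    | one => simp
    | mul a b _ _ iha ihb =>
      have : k * (a * b) * k⁻¹ = (k * a * k⁻¹) * (k * b * k⁻¹) := by group
      rw [this]
      exact Subgroup.mul_mem _ iha ihb
    | inv a _ iha =>
      have : k * a⁻¹ * k⁻¹ = (k * a * k⁻¹)⁻¹ := by group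
      rw [this]
      exact Subgroup.inv_mem _ iha
  rw [Subgroup.mem_normalizer_iff]
  intro n
  constructor
  · intro hn
    exact key g h1 n hn
  · intro hn
    have := key g⁻¹ (by simpa using h2) _ hn
    have e : g⁻¹ * (g * n * g⁻¹) * g⁻¹⁻¹ = n := by group
    rwa [e] at this

/-- `H` normalizes `U`. -/
theorem diagonal_le_normalizer_pos (c : DCert D Ns) (tc : TCert D) :
    D.diagonalSubgroup F ≤ Subgroup.normalizer (D.posUnipotent F : Set (GL D.Idx F)) := by
  intro h hh
  have hconj : ∀ k ∈ D.diagonalSubgroup F, ∀ s ∈ {g : GL D.Idx F | ∃ (r : ℕ) (t : F), D.IsPosRoot r ∧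
      (g : Matrix D.Idx D.Idx F) = D.x F r t}, k * s * k⁻¹ ∈ D.posUnipotent F := by
    intro k hk s hs
    obtain ⟨r, a, hr, hs⟩ := hs
    obtain ⟨t, ht, hkt⟩ := exists_torus_of_mem c tc k hk
    have e : k * s * k⁻¹ = xGL c r (torusChar D t r * a) := by
      rw [mul_inv_eq_iff_eq_mul]
      apply Units.ext
      rw [Units.val_mul, Units.val_mul, hs, hkt, xGL_coe]
      exact torus_conj c tc t ht r hr.1 a
    rw [e]
    apply Subgroup.subset_closure
    exact ⟨r, _, hr, rfl⟩
  unfold ChevalleyDatum.posUnipotent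
  apply mem_normalizer_closure
  · exact hconj h hh
  · intro s hs
    have := hconj h⁻¹ (Subgroup.inv_mem _ hh) s hs
    rwa [inv_inv] at this

/-- `U ∩ H = 1`. -/
theorem pos_inf_diagonal (c : DCert D Ns) (tc : TCert D) {w : List ℤ} {d : ℕ} (gc : GCert D w d) :
    D.posUnipotent F ⊓ D.diagonalSubgroup F = ⊥ := by
  rw [eq_bot_iff]
  intro g hg
  rw [Subgroup.mem_inf] at hg
  rw [Subgroup.mem_bot]
  obtain ⟨t, _, hgt⟩ := exists_torus_of_mem c tc g hg.2
  have hU := posUnipotent_le_tri c tc gc hg.1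
  have hd : (1 : ℤ) ≤ d := by exact_mod_cast gc.d_pos
  apply Units.ext
  rw [Units.val_one]
  ext i j
  by_cases hij : i = j
  · subst hij
    have := hU i i (by omega)
    rw [Matrix.sub_apply] at this
    exact sub_eq_zero.mp this
  · rw [hgt, Matrix.one_apply, if_neg hij]
    unfold torusMat diagMat
    rw [Matrix.diagonal_apply, if_neg hij]

end Cfsg.Agent.Lib.Helper18_ChevBorel
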