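import Cfsg.Agent.Lib.Helper36_ReePerf
import Cfsg.Agent.S1036

set_option autoImplicit false

/-!
The Sylow 3-subgroups of the twisted group of type `²G₂`: the subgroup `U¹` is one of them, and two distinct ones
meet trivially.
-/

namespace Cfsg.Agent.Lib.Helper36_ReeSylow

open Cfsg Cfsg.Lie Cfsg.Agent.Lib.Helper36_ReeFix Cfsg.Agent.Lib.Helper36_ReeBruhat
  Cfsg.Agent.Lib.Helper36_ReeH Cfsg.Agent.Lib.Helper36_ReePerf Cfsg.Agent.Lib.Helper36_ReeOrder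
  Cfsg.Agent.Lib.Helper36_ReeBN Cfsg.Agent.Lib.Helper36_ChevBorel Cfsg.Agent.Lib.Helper36_ChevTables
  Cfsg.Agent.Lib.Helper36_ReeTw

open scoped Pointwise

section

variable {K : Type*} [Field K] [Fintype K] [CharP K 3] {m : ℕ} (hK : Fintype.card K = 3 ^ (2 * m + 1))

omit [Fintype K] [CharP K 3] in
/-- The diagonal elements normalise `V`. -/
theorem diag_conj_V (h : GL chevG2.Idx K) (hh : h ∈ chevG2.diagonalSubgroup K) (v : GL chevG2.Idx K)
    (hv : v ∈ chevG2.negUnipotent K) : h * v * h⁻¹ ∈ chevG2.negUnipotent K := by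
  have h1 := diag_le_normalizer chevG2 K (hfK K) (chainOK_of_mem chevG2 hD) chevG2.IsNegRoot (fun r hr => hr.1) hh
  rw [negUnipotent_eq] at hv ⊢
  exact (Subgroup.mem_normalizer_iff.mp h1 v).mp hv

omit [Fintype K] [CharP K 3] in
/-- The elements of `B` normalise `U`. -/
theorem borel_conj_U (b : GL chevG2.Idx K) (hb : b ∈ chevG2.borelSubgroup K) (u : GL chevG2.Idx K) :
    u ∈ chevG2.posUnipotent K ↔ b * u * b⁻¹ ∈ chevG2.posUnipotent K := by
  have h1 : chevG2.borelSubgroup K ≤ Subgroup.normalizer (chevG2.posUnipotent K : Set (GL chevG2.Idx K)) := by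
    apply sup_le
    · exact Subgroup.le_normalizer
    · exact (Cfsg.Agent.S1036.result (F := K) chevG2 hD).1
  exact Subgroup.mem_normalizer_iff.mp (h1 hb) u

include hK in
/-- An element of the twisted group outside `B` moves `U¹` to a subgroup which meets `U` trivially. -/
theorem conj_U_trivial (g : GL chevG2.Idx K) (hg : g ∈ twistedG2 K (3 ^ m)) (hgB : g ∉ chevG2.borelSubgroup K)
    (z : GL chevG2.Idx K) (hz : z ∈ chevG2.posUnipotent K) (hx : g * z * g⁻¹ ∈ chevG2.posUnipotent K) : z = 1 := by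
  have hBle : chevG2.posUnipotent K ≤ chevG2.borelSubgroup K := le_sup_left
  have hHle : chevG2.diagonalSubgroup K ≤ chevG2.borelSubgroup K := le_sup_right
  have hUV := (Cfsg.Agent.S1037.result (F := K) chevG2 hD).1
  rcases mem_cases hK g hg with ⟨u0, hu0, h0, hh0, e⟩ | ⟨u0, hu0, h0, hh0, u, hu, e⟩
  · exfalso
    apply hgB
    rw [e]
    exact Subgroup.mul_mem _ (hBle hu0.1) (hHle hh0.1)
  · -- `g z g⁻¹ = u0 (h0 (m0 (u z u⁻¹) m0⁻¹) h0⁻¹) u0⁻¹`
    have h1 : u * z * u⁻¹ ∈ chevG2.posUnipotent K :=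
      Subgroup.mul_mem _ (Subgroup.mul_mem _ hu.1 hz) (Subgroup.inv_mem _ hu.1)
    have h2 := m0_conj_U hK _ h1
    have h3 := diag_conj_V h0 hh0.1 _ h2
    have h4 : u0⁻¹ * (g * z * g⁻¹) * u0 ∈ chevG2.posUnipotent K :=
      Subgroup.mul_mem _ (Subgroup.mul_mem _ (Subgroup.inv_mem _ hu0.1) hx) hu0.1
    have e2 : u0⁻¹ * (g * z * g⁻¹) * u0 = h0 * (m0 hK * (u * z * u⁻¹) * (m0 hK)⁻¹) * h0⁻¹ := by
      rw [e]
      group
    rw [e2] at h4
    have h5 : h0 * (m0 hK * (u * z * u⁻¹) * (m0 hK)⁻¹) * h0⁻¹ ∈ chevG2.borelSubgroup K ⊓ chevG2.negUnipotent K :=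
      ⟨hBle h4, h3⟩
    rw [hUV, Subgroup.mem_bot] at h5
    have e3 : z = (h0 * m0 hK * u)⁻¹ * (h0 * (m0 hK * (u * z * u⁻¹) * (m0 hK)⁻¹) * h0⁻¹) * (h0 * m0 hK * u) := by
      group
    rw [e3, h5]
    group

include hK in
/-- `U¹` as a subgroup of the twisted group has `q ^ 3` elements. -/
theorem card_U1 : Nat.card ↥((chevG2.posUnipotent K ⊓ twistedG2 K (3 ^ m)).subgroupOf (twistedG2 K (3 ^ m))) =
    3 ^ (3 * (2 * m + 1)) := by
  rw [Nat.card_congr (Subgroup.subgroupOfEquivOfLe (inf_le_right : chevG2.posUnipotent K ⊓ twistedG2 K (3 ^ m) ≤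
    twistedG2 K (3 ^ m))).toEquiv, card_U_inf hK, ← pow_mul, mul_comm]

include hK in
/-- The index of `U¹` is prime to 3. -/
theorem index_U1 : ¬ 3 ∣ ((chevG2.posUnipotent K ⊓ twistedG2 K (3 ^ m)).subgroupOf (twistedG2 K (3 ^ m))).index := by
  intro h
  have h1 := Subgroup.card_mul_index ((chevG2.posUnipotent K ⊓ twistedG2 K (3 ^ m)).subgroupOf (twistedG2 K (3 ^ m)))
  rw [card_U1 hK, card_twistedG2 hK] at h1
  have e : (3 ^ (2 * m + 1)) ^ 3 = 3 ^ (3 * (2 * m + 1)) := by rw [← pow_mul, mul_comm]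
  rw [e, mul_assoc] at h1
  have h2 := Nat.eq_of_mul_eq_mul_left (by positivity) h1
  rw [h2] at h
  have hq : 3 ∣ 3 ^ (2 * m + 1) := dvd_pow_self 3 (by omega)
  have hq1 : 1 ≤ 3 ^ (2 * m + 1) := Nat.one_le_pow _ _ (by norm_num)
  rcases (Nat.Prime.dvd_mul Nat.prime_three).mp h with h3 | h3
  · have : 3 ∣ 1 := by
      have h4 := Nat.dvd_sub hq h3
      have e2 : 3 ^ (2 * m + 1) - (3 ^ (2 * m + 1) - 1) = 1 := by omega
      rw [e2] at h4
      exact h4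
    omega
  · have h4 : 3 ∣ 3 ^ (3 * (2 * m + 1)) := dvd_pow_self 3 (by omega)
    have : 3 ∣ 1 := by
      have h5 := Nat.dvd_sub h3 h4
      rw [Nat.add_sub_cancel_left] at h5
      exact h5
    omega

include hK in
/-- Two distinct Sylow 3-subgroups of the twisted group meet trivially. -/
theorem sylow_inf (P Q : Sylow 3 ↥(twistedG2 K (3 ^ m))) (hPQ : P ≠ Q) :
    (P : Subgroup ↥(twistedG2 K (3 ^ m))) ⊓ (Q : Subgroup ↥(twistedG2 K (3 ^ m))) = ⊥ := by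
  haveI : Fact (Nat.Prime 3) := ⟨Nat.prime_three⟩
  have hp : IsPGroup 3 ↥((chevG2.posUnipotent K ⊓ twistedG2 K (3 ^ m)).subgroupOf (twistedG2 K (3 ^ m))) :=
    IsPGroup.of_card (card_U1 hK)
  set S0 : Sylow 3 ↥(twistedG2 K (3 ^ m)) := hp.toSylow (index_U1 hK) with hS0
  have memS0 : ∀ x : ↥(twistedG2 K (3 ^ m)), x ∈ S0 ↔ (x : GL chevG2.Idx K) ∈ chevG2.posUnipotent K := by
    intro x
    rw [hS0, IsPGroup.mem_toSylow, Subgroup.mem_subgroupOf, Subgroup.mem_inf]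
    exact ⟨fun h => h.1, fun h => ⟨h, x.2⟩⟩
  have memSmul : ∀ (a x : ↥(twistedG2 K (3 ^ m))), x ∈ ((a • S0 : Sylow 3 ↥(twistedG2 K (3 ^ m))) :
      Subgroup ↥(twistedG2 K (3 ^ m))) ↔
      (a : GL chevG2.Idx K)⁻¹ * (x : GL chevG2.Idx K) * (a : GL chevG2.Idx K) ∈ chevG2.posUnipotent K := by
    intro a x
    rw [Sylow.coe_subgroup_smul, Subgroup.mem_pointwise_smul_iff_inv_smul_mem]
    have e : (MulAut.conj a)⁻¹ • x = a⁻¹ * x * a := by
      rw [MulAut.smul_def, ← map_inv, MulAut.conj_apply, inv_inv]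
    rw [e]
    exact memS0 _
  obtain ⟨a, rfl⟩ := MulAction.exists_smul_eq ↥(twistedG2 K (3 ^ m)) S0 P
  obtain ⟨b, rfl⟩ := MulAction.exists_smul_eq ↥(twistedG2 K (3 ^ m)) S0 Q
  -- the element `a⁻¹ b` does not lie in `B`
  have hgB : (a : GL chevG2.Idx K)⁻¹ * (b : GL chevG2.Idx K) ∉ chevG2.borelSubgroup K := by
    intro hB
    apply hPQ
    have h1 : (a⁻¹ * b) • S0 = S0 := by
      apply Sylow.ext
      ext x
      rw [memSmul]
      have : x ∈ (S0 : Subgroup ↥(twistedG2 K (3 ^ m))) ↔ x ∈ S0 := Iff.rfl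
      rw [this, memS0]
      have e : ((a⁻¹ * b : ↥(twistedG2 K (3 ^ m))) : GL chevG2.Idx K) =
          (a : GL chevG2.Idx K)⁻¹ * (b : GL chevG2.Idx K) := rfl
      rw [e]
      have h2 := borel_conj_U _ (Subgroup.inv_mem _ hB) (x : GL chevG2.Idx K)
      rw [inv_inv] at h2
      exact h2.symm
    calc a • S0 = a • ((a⁻¹ * b) • S0) := by rw [h1]
      _ = b • S0 := by rw [smul_smul, mul_inv_cancel_left]
  rw [eq_bot_iff]
  intro x hx
  obtain ⟨hxa, hxb⟩ := Subgroup.mem_inf.mp hx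
  rw [Subgroup.mem_bot]
  rw [memSmul] at hxa hxb
  have h1 := conj_U_trivial hK _ (Subgroup.mul_mem _ (Subgroup.inv_mem _ a.2) b.2) hgB _ hxb (by
    have e : (a : GL chevG2.Idx K)⁻¹ * (b : GL chevG2.Idx K) *
        ((b : GL chevG2.Idx K)⁻¹ * (x : GL chevG2.Idx K) * (b : GL chevG2.Idx K)) *
        ((a : GL chevG2.Idx K)⁻¹ * (b : GL chevG2.Idx K))⁻¹ =
        (a : GL chevG2.Idx K)⁻¹ * (x : GL chevG2.Idx K) * (a : GL chevG2.Idx K) := by group
    rw [e]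
    exact hxa)
  apply Subtype.ext
  have e : (x : GL chevG2.Idx K) = (b : GL chevG2.Idx K) *
      ((b : GL chevG2.Idx K)⁻¹ * (x : GL chevG2.Idx K) * (b : GL chevG2.Idx K)) * (b : GL chevG2.Idx K)⁻¹ := by group
  rw [e, h1]
  group
  rfl

end

end Cfsg.Agent.Lib.Helper36_ReeSylow
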