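import Cfsg.Agent.Lib.Helper36_TwistGen

set_option autoImplicit false

/-!
Conjugation of the elements of `H` by the elements of `N`: the character is transported by the permutation of the
roots.
-/

namespace Cfsg.Agent.Lib.Helper36_TwistGenTorus

open Cfsg Cfsg.Lie Cfsg.Agent.Lib.Helper36_ChevCoeff Cfsg.Agent.Lib.Helper36_ChevAdd
  Cfsg.Agent.Lib.Helper36_ChevWeyl Cfsg.Agent.Lib.Helper36_ChevGen Cfsg.Agent.Lib.Helper36_ChevTables
  Cfsg.Agent.Lib.Helper36_ChevTorus Cfsg.Agent.Lib.Helper36_ChevBorel Cfsg.Agent.Lib.Helper36_ChevW0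
  Cfsg.Agent.Lib.Helper36_ChevCore Cfsg.Agent.Lib.Helper36_ChevCommU Cfsg.Agent.Lib.Helper36_WeylChain
  Cfsg.Agent.Lib.Helper36_WeylLit Cfsg.Agent.Lib.Helper36_WeylLit.RootLit Cfsg.Agent.Lib.Helper36_ChevOrder

variable {D : ChevalleyDatum} {K : Type*} [Field K] (hf : Facts D K) {L : RootLit}
  (hl : LitOK D L) (hchain : ChainOK D) (hx1 : XOne D K)

include hx1 in
/-- The parameter of a root element is determined by the element. -/
theorem xGL_inj (r : ℕ) (hr : r < D.nroots) (a b : K)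
    (h : xGL D hf.hlen hf.hadd K r a = xGL D hf.hlen hf.hadd K r b) : a = b := by
  have h0 : D.x K r a = D.x K r b := by
    rw [← xGL_coe D hf.hlen hf.hadd K, h]
    rfl
  have h2 : D.x K r (a - b) = 1 := by
    have e : a - b = a + -b := sub_eq_add_neg a b
    rw [e, ← x_add D hf.hlen hf.hadd, h0, x_add D hf.hlen hf.hadd, add_neg_cancel, x_zero D hf.hlen]
  exact sub_eq_zero.mp (hx1 r hr _ h2)

include hl hchain hx1 in
/-- Conjugation of an element of `H` by an element of `N`. -/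
theorem conj_torus {n : GL D.Idx K} (hn : n ∈ D.monomialSubgroup K) {x : Equiv.Perm (Fin L.n)}
    (hact : ActsAs D K hf L n x) (u u' : ℕ → Kˣ)
    (h : ∀ r : Fin L.n, chi D K u' (x r) = chi D K u r) :
    n * torusGL D K (chi D K u) * n⁻¹ = torusGL D K (chi D K u') := by
  have hH : torusGL D K (chi D K u) ∈ D.diagonalSubgroup K := (hf.mem_diag _).mpr ⟨u, rfl⟩
  have hconj : n * torusGL D K (chi D K u) * n⁻¹ ∈ D.diagonalSubgroup K :=
    (Subgroup.mem_normalizer_iff.mp (monomial_le_normalizer D K hf hn) _).mp hH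
  obtain ⟨u'', e⟩ := (hf.mem_diag _).mp hconj
  rw [e]
  apply Units.ext
  rw [torusGL_coe, torusGL_coe]
  apply charDiag_congr
  intro s hs
  have hsn : s < L.n := hl.hn ▸ hs
  set r : Fin L.n := x⁻¹ ⟨s, hsn⟩ with hr
  have hxr : x r = ⟨s, hsn⟩ := by rw [hr]; exact x.apply_symm_apply _
  have hrn : (r : ℕ) < D.nroots := hl.hn ▸ r.2
  obtain ⟨c0, hc0⟩ := hact r
  have hs' : ((x r : Fin L.n) : ℕ) = s := by rw [hxr]
  rw [hs'] at hc0
  -- conjugate `x_s(c0)` by the torus element in two ways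
  have e1 : torusGL D K (chi D K u'') * xGL D hf.hlen hf.hadd K s ((c0 : K) * 1) *
      (torusGL D K (chi D K u''))⁻¹ = xGL D hf.hlen hf.hadd K s ((chi D K u'' s : K) * ((c0 : K) * 1)) := by
    apply Units.ext
    rw [Units.val_mul, Units.val_mul, torusGL_inv, torusGL_coe, torusGL_coe, xGL_coe, xGL_coe]
    exact torus_conj_x D K hf hchain u'' s hs _
  have e2 : torusGL D K (chi D K u) * xGL D hf.hlen hf.hadd K r 1 * (torusGL D K (chi D K u))⁻¹ =
      xGL D hf.hlen hf.hadd K r ((chi D K u r : K) * 1) := by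
    apply Units.ext
    rw [Units.val_mul, Units.val_mul, torusGL_inv, torusGL_coe, torusGL_coe, xGL_coe, xGL_coe]
    exact torus_conj_x D K hf hchain u r hrn _
  have e3 : torusGL D K (chi D K u'') * xGL D hf.hlen hf.hadd K s ((c0 : K) * 1) *
      (torusGL D K (chi D K u''))⁻¹ = xGL D hf.hlen hf.hadd K s ((c0 : K) * ((chi D K u r : K) * 1)) := by
    rw [← e, ← hc0 1, ← hc0, ← e2]
    group
  have e4 := xGL_inj hf hx1 s hs _ _ (e1.symm.trans e3)
  have e5 : (chi D K u'' s : K) = (chi D K u r : K) := by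
    have hc : (c0 : K) ≠ 0 := c0.ne_zero
    have : (chi D K u'' s : K) * (c0 : K) = (chi D K u r : K) * (c0 : K) := by
      rw [mul_one, mul_one] at e4
      rw [e4, mul_comm]
    exact mul_right_cancel₀ hc this
  have e6 : chi D K u'' s = chi D K u r := Units.ext e5
  rw [e6, ← h r, hs']

end Cfsg.Agent.Lib.Helper36_TwistGenTorus
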