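import Cfsg.Agent.Lib.Helper36_ReeOutAlg
import Cfsg.Agent.Lib.Helper36_ReeSylow
import Cfsg.Agent.Lib.Helper36_ReeCube
import Cfsg.Agent.Lib.Helper36_TwistGenTorus
import Cfsg.Agent.Lib.Helper18_ChevFrob

set_option autoImplicit false

/-!
The outer automorphism group of the twisted group of type `²G₂` over the field with `3 ^ (2 m + 1)` elements, `m ≥ 1`,
is cyclic of order `2 m + 1`: the data of the abstract normal form are verified for the concrete group.
-/

namespace Cfsg.Agent.Lib.Helper36_ReeOut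

open Cfsg Cfsg.Lie Cfsg.Agent.Lib.Helper18_ChevFast Cfsg.Agent.Lib.Helper18_ChevEngine
  Cfsg.Agent.Lib.Helper18_ChevN Cfsg.Agent.Lib.Helper18_ChevWeyl
  Cfsg.Agent.Lib.Helper18_ChevGL Cfsg.Agent.Lib.Helper18_ChevTri
  Cfsg.Agent.Lib.Helper18_ChevAdd Cfsg.Agent.Lib.Helper18_ChevUni Cfsg.Agent.Lib.Helper18_ChevComm
  Cfsg.Agent.Lib.Helper36_TwistU Cfsg.Agent.Lib.Helper36_TwistW
  Cfsg.Agent.Lib.Helper36_GraphAut Cfsg.Agent.Lib.Helper36_GraphAutG2 Cfsg.Agent.Lib.Helper36_GraphAutG2Main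
  Cfsg.Agent.Lib.Helper36_ReeAlg Cfsg.Agent.Lib.Helper36_ReeSetup Cfsg.Agent.Lib.Helper36_ReeFix
  Cfsg.Agent.Lib.Helper36_TwistGen Cfsg.Agent.Lib.Helper36_TwistWeyl
  Cfsg.Agent.Lib.Helper36_ChevTorus Cfsg.Agent.Lib.Helper36_ChevTorusAll
  Cfsg.Agent.Lib.Helper36_ChevW0 Cfsg.Agent.Lib.Helper36_ChevW0All Cfsg.Agent.Lib.Helper36_ChevTables
  Cfsg.Agent.Lib.Helper36_ChevOrder Cfsg.Agent.Lib.Helper36_ChevOrderAll Cfsg.Agent.Lib.Helper36_WeylChain
  Cfsg.Agent.Lib.Helper36_WeylLit Cfsg.Agent.Lib.Helper36_WeylLit.RootLit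
  Cfsg.Agent.Lib.Helper36_ChevDataG2Lit Cfsg.Agent.Lib.Helper36_ChevDataG2LitOK Cfsg.Agent.Lib.Helper36_ReeTw
  Cfsg.Agent.Lib.Helper36_ChevBorel Cfsg.Agent.Lib.Helper36_ChevCore Cfsg.Agent.Lib.Helper36_ReeBruhat
  Cfsg.Agent.Lib.Helper36_ReeEntry Cfsg.Agent.Lib.Helper36_ReeH Cfsg.Agent.Lib.Helper36_ReeOrder
  Cfsg.Agent.Lib.Helper36_ReeN Cfsg.Agent.Lib.Helper36_ReeBN Cfsg.Agent.Lib.Helper36_ReePerf
  Cfsg.Agent.Lib.Helper36_ReeCubeAlg Cfsg.Agent.Lib.Helper36_ReeCube Cfsg.Agent.Lib.Helper36_ReeSylow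
  Cfsg.Agent.Lib.Helper36_ReeOutAlg Cfsg.Agent.Lib.Helper18_ChevFrob

section

variable {K : Type*} [Field K] [Fintype K] [CharP K 3] {m : ℕ} (hK : Fintype.card K = 3 ^ (2 * m + 1))

theorem eps_one : (posSys hK).ε = 1 := by
  show (((1 : ℤ) : K)) = 1
  simp

theorem theta_eq : (posSys hK).θ = theta K m := rfl

/-- The product of two fixed elements of `U`. -/
theorem W_mul (t u v t' u' v' : K) : (posSys hK).W t u v * (posSys hK).W t' u' v' =
    (posSys hK).W (t + t') (u + u' - t * (theta K m t') ^ 3)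
      (v + v' - t' * u + t * t' * (theta K m t') ^ 3 - t ^ 2 * (theta K m t') ^ 3) := by
  have h3 : (3 : K) = 0 := three_eq_zero
  have hθθ : ∀ x : K, (theta K m (theta K m x)) ^ 3 = x := theta_theta hK
  rw [(posSys hK).W_eq_N, (posSys hK).W_eq_N, (posSys hK).W_eq_N, N_mul (posRel hK), eps_one hK, theta_eq hK]
  simp only [one_mul, map_add, map_sub, map_mul, map_pow, hθθ]
  congr 1
  · ring
  · linear_combination (theta K m t' * theta K m u - theta K m t * theta K m t' * t') * h3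
  · linear_combination (-((theta K m t) ^ 2 * theta K m t' + theta K m t * (theta K m t') ^ 2) * (t + t')) * h3
  · linear_combination (-((theta K m t) ^ 3 * t * t') - (theta K m t') ^ 3 * t * t' -
      ((theta K m t) ^ 2 * theta K m t' + theta K m t * (theta K m t') ^ 2) * (t + t') ^ 2) * h3

theorem cartanOK3 : chevG2.cartan 0 7 = 2 ∧ chevG2.cartan 1 7 = -1 ∧ chevG2.cartan 0 10 = 3 ∧
    chevG2.cartan 1 10 = -1 := by decide +kernel

omit [Fintype K] in
/-- The values of the character of a fixed torus element, in the field. -/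
theorem chi_val (μ : Kˣ) (s : ℕ) : ((chi chevG2 K (uu K m μ) s : Kˣ) : K) =
    (theta K m (μ : K)) ^ (chevG2.cartan 0 s) * (μ : K) ^ (chevG2.cartan 1 s) := by
  have h0 : uu K m μ 0 = Units.map (theta K m : K →* K) μ := by
    unfold uu
    rw [if_pos rfl]
  have h1 : uu K m μ 1 = μ := by
    unfold uu
    rw [if_neg (by decide)]
  rw [chi_two, h0, h1, Units.val_mul, Units.val_zpow_eq_zpow_val, Units.val_zpow_eq_zpow_val]
  rfl

/-- Conjugation of a fixed element of `U` by a fixed element of `H`. -/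
theorem hfix_conj (μ : Kˣ) (t u v : K) :
    hfix K m μ * (((posSys hK).W t u v : ↥(chevG2.group K)) : GL chevG2.Idx K) * (hfix K m μ)⁻¹ =
      (((posSys hK).W ((μ : K) ^ 2 * ((theta K m (μ : K)) ^ 3)⁻¹ * t) ((theta K m (μ : K)) ^ 3 * (μ : K)⁻¹ * u)
        ((μ : K) * v) : ↥(chevG2.group K)) : GL chevG2.Idx K) := by
  have hχ : chevG2.IsRootCharacter (chi chevG2 K (uu K m μ)) := isRootCharacter_chi chevG2 K (hfK K).hca _
  have hθθ : ∀ x : K, (theta K m (theta K m x)) ^ 3 = x := theta_theta hK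
  have hμ : (μ : K) ≠ 0 := μ.ne_zero
  have hν : theta K m (μ : K) ≠ 0 := by
    intro h
    apply hμ
    rw [← map_zero (theta K m)] at h
    exact (theta K m).injective h
  have hνν : theta K m (theta K m (μ : K)) ≠ 0 := by
    intro h
    apply hν
    rw [← map_zero (theta K m)] at h
    exact (theta K m).injective h
  rw [(posSys hK).W_eq_N, (posSys hK).W_eq_N]
  show torusGL chevG2 K (chi chevG2 K (uu K m μ)) * _ * (torusGL chevG2 K (chi chevG2 K (uu K m μ)))⁻¹ = _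
  rw [conj_N hK _ hχ, eps_one hK, theta_eq hK]
  simp only [chi_val, cartanOK2.1, cartanOK2.2.1, cartanOK2.2.2.1, cartanOK2.2.2.2.1, cartanOK2.2.2.2.2.1,
    cartanOK2.2.2.2.2.2.1, cartanOK2.2.2.2.2.2.2.1, cartanOK2.2.2.2.2.2.2.2, cartanOK3.1, cartanOK3.2.1,
    cartanOK3.2.2.1, cartanOK3.2.2.2, one_mul, map_mul, map_pow, map_inv₀, hθθ]
  set ν : K := theta K m (μ : K) with hνdef
  set ξ : K := theta K m ν with hξdef
  have hξ3 : ξ ^ 3 = (μ : K) := hθθ _
  congr 2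
  · simp only [zpow_neg, zpow_ofNat]
    ring
  · simp only [zpow_neg, zpow_ofNat, pow_one]
  · simp only [zpow_neg, zpow_ofNat, pow_one]
    ring
  · simp only [zpow_ofNat, pow_one, pow_zero]
    ring
  · simp only [zpow_neg, zpow_ofNat, pow_one]
    field_simp
  · simp only [zpow_ofNat, pow_one, pow_zero]
    field_simp

theorem ngCartan : ∀ r < lit.n, chevG2.cartan 0 (lit.ng r) = -chevG2.cartan 0 r ∧
    chevG2.cartan 1 (lit.ng r) = -chevG2.cartan 1 r := by decide +kernel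

/-- Conjugation of a fixed element of `H` by the chosen monomial element. -/
theorem m0_conj_hfix (μ : Kˣ) : m0 hK * hfix K m μ * (m0 hK)⁻¹ = hfix K m μ⁻¹ := by
  show m0 hK * torusGL chevG2 K (chi chevG2 K (uu K m μ)) * (m0 hK)⁻¹ = torusGL chevG2 K (chi chevG2 K (uu K m μ⁻¹))
  apply Cfsg.Agent.Lib.Helper36_TwistGenTorus.conj_torus (hfK K) litOK (chainOK_of_mem chevG2 hD) (hx1 K)
    (m0_mono hK) (m0_acts hK)
  intro r
  rw [w0Perm_val, chi_two, chi_two, (ngCartan r r.2).1, (ngCartan r r.2).2]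
  have h0 : uu K m μ⁻¹ 0 = (uu K m μ 0)⁻¹ := by
    unfold uu
    rw [if_pos rfl, if_pos rfl, map_inv]
  have h1 : uu K m μ⁻¹ 1 = (uu K m μ 1)⁻¹ := by
    unfold uu
    rw [if_neg (by decide), if_neg (by decide)]
  rw [h0, h1, inv_zpow, inv_zpow, zpow_neg, zpow_neg, inv_inv, inv_inv]

/-- The fixed elements of `U` as elements of the twisted group. -/
noncomputable def wU (t u v : K) : ↥(twistedG2 K (3 ^ m)) :=
  ⟨(((posSys hK).W t u v : ↥(chevG2.group K)) : GL chevG2.Idx K), W_pos_mem hK t u v⟩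

theorem wU_coe (t u v : K) : ((wU hK t u v : ↥(twistedG2 K (3 ^ m))) : GL chevG2.Idx K) =
    (((posSys hK).W t u v : ↥(chevG2.group K)) : GL chevG2.Idx K) := rfl

/-- The fixed elements of `H` as elements of the twisted group. -/
noncomputable def hH : Kˣ →* ↥(twistedG2 K (3 ^ m)) where
  toFun μ := ⟨hfix K m μ, hfix_mem hK μ⟩
  map_one' := Subtype.ext (map_one (hfix K m))
  map_mul' μ ν := Subtype.ext (map_mul (hfix K m) μ ν)

theorem hH_coe (μ : Kˣ) : ((hH hK μ : ↥(twistedG2 K (3 ^ m))) : GL chevG2.Idx K) = hfix K m μ := rfl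

/-- The chosen monomial element as an element of the twisted group. -/
noncomputable def nn : ↥(twistedG2 K (3 ^ m)) := ⟨m0 hK, m0_mem hK⟩

theorem nn_coe : ((nn hK : ↥(twistedG2 K (3 ^ m))) : GL chevG2.Idx K) = m0 hK := rfl

theorem wU_mul (t u v t' u' v' : K) : wU hK t u v * wU hK t' u' v' =
    wU hK (t + t') (u + u' - t * (theta K m t') ^ 3)
      (v + v' - t' * u + t * t' * (theta K m t') ^ 3 - t ^ 2 * (theta K m t') ^ 3) := by
  apply Subtype.ext
  rw [Subgroup.coe_mul, wU_coe, wU_coe, wU_coe, ← Subgroup.coe_mul, W_mul hK]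

theorem wU_inj (t u v t' u' v' : K) (h : wU hK t u v = wU hK t' u' v') : t = t' ∧ u = u' ∧ v = v' := by
  have h1 := congrArg (fun x : ↥(twistedG2 K (3 ^ m)) => (x : GL chevG2.Idx K)) h
  exact W_pos_inj hK _ _ _ _ _ _ (Subtype.ext h1)

theorem hH_inj : Function.Injective (hH hK) := by
  intro μ ν h
  have h1 := congrArg (fun x : ↥(twistedG2 K (3 ^ m)) => (x : GL chevG2.Idx K)) h
  exact hfix_injective h1

theorem hH_conj (μ : Kˣ) (t u v : K) : hH hK μ * wU hK t u v * (hH hK μ)⁻¹ =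
    wU hK ((μ : K) ^ 2 * ((theta K m (μ : K)) ^ 3)⁻¹ * t) ((theta K m (μ : K)) ^ 3 * (μ : K)⁻¹ * u)
      ((μ : K) * v) := by
  apply Subtype.ext
  rw [Subgroup.coe_mul, Subgroup.coe_mul, Subgroup.coe_inv, wU_coe, wU_coe, hH_coe, hfix_conj hK]

theorem nn_conj (μ : Kˣ) : nn hK * hH hK μ * (nn hK)⁻¹ = hH hK μ⁻¹ := by
  apply Subtype.ext
  rw [Subgroup.coe_mul, Subgroup.coe_mul, Subgroup.coe_inv, nn_coe, hH_coe, hH_coe, m0_conj_hfix hK]

theorem exists_wU (x : GL chevG2.Idx K) (hx : x ∈ chevG2.posUnipotent K ⊓ twistedG2 K (3 ^ m)) :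
    ∃ t u v : K, x = ((wU hK t u v : ↥(twistedG2 K (3 ^ m))) : GL chevG2.Idx K) :=
  (mem_U_inf hK x).mp hx

theorem exists_hH (x : GL chevG2.Idx K) (hx : x ∈ chevG2.diagonalSubgroup K ⊓ twistedG2 K (3 ^ m)) :
    ∃ μ : Kˣ, x = ((hH hK μ : ↥(twistedG2 K (3 ^ m))) : GL chevG2.Idx K) := by
  rw [diag_inf_eq hK] at hx
  obtain ⟨μ, rfl⟩ := hx
  exact ⟨μ, rfl⟩

theorem cases (g : ↥(twistedG2 K (3 ^ m))) :
    (∃ (t u v : K) (μ : Kˣ), g = wU hK t u v * hH hK μ) ∨
    (∃ (t u v : K) (μ : Kˣ) (t' u' v' : K), g = wU hK t u v * hH hK μ * nn hK * wU hK t' u' v') := by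
  rcases mem_cases hK g.1 g.2 with ⟨u0, hu0, h0, hh0, e⟩ | ⟨u0, hu0, h0, hh0, u1, hu1, e⟩
  · left
    obtain ⟨t, u, v, rfl⟩ := exists_wU hK u0 hu0
    obtain ⟨μ, rfl⟩ := exists_hH hK h0 hh0
    exact ⟨t, u, v, μ, Subtype.ext e⟩
  · right
    obtain ⟨t, u, v, rfl⟩ := exists_wU hK u0 hu0
    obtain ⟨μ, rfl⟩ := exists_hH hK h0 hh0
    obtain ⟨t', u', v', rfl⟩ := exists_wU hK u1 hu1
    exact ⟨t, u, v, μ, t', u', v', Subtype.ext e⟩

/-- The element of `U¹` with given parameters. -/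
noncomputable def uEl (t u v : K) : ↥(chevG2.posUnipotent K ⊓ twistedG2 K (3 ^ m)) :=
  ⟨(((posSys hK).W t u v : ↥(chevG2.group K)) : GL chevG2.Idx K), (mem_U_inf hK _).mpr ⟨t, u, v, rfl⟩⟩

/-- The element of `H¹` with given parameter. -/
noncomputable def hEl (μ : Kˣ) : ↥(chevG2.diagonalSubgroup K ⊓ twistedG2 K (3 ^ m)) :=
  ⟨hfix K m μ, hfix_mem_diag μ, hfix_mem hK μ⟩

theorem uEl_inj (t u v t' u' v' : K) (h : uEl hK t u v = uEl hK t' u' v') : t = t' ∧ u = u' ∧ v = v' := by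
  have h1 := congrArg Subtype.val h
  exact W_pos_inj hK _ _ _ _ _ _ (Subtype.ext h1)

theorem hEl_inj (μ ν : Kˣ) (h : hEl hK μ = hEl hK ν) : μ = ν := by
  have h1 := congrArg Subtype.val h
  exact hfix_injective h1

theorem uniq (t u v : K) (μ : Kˣ) (t' u' v' s x y : K) (ν : Kˣ) (s' x' y' : K)
    (h : wU hK t u v * hH hK μ * nn hK * wU hK t' u' v' = wU hK s x y * hH hK ν * nn hK * wU hK s' x' y') :
    (t = s ∧ u = x ∧ v = y) ∧ μ = ν ∧ (t' = s' ∧ u' = x' ∧ v' = y') := by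
  have h1 : param hK (Sum.inr ((uEl hK t u v, hEl hK μ), uEl hK t' u' v')) =
      param hK (Sum.inr ((uEl hK s x y, hEl hK ν), uEl hK s' x' y')) := h
  have h2 := (param_bijective hK).1 h1
  have h3 := Sum.inr_injective h2
  have h4 := Prod.ext_iff.mp h3
  have h5 := Prod.ext_iff.mp h4.1
  exact ⟨uEl_inj hK _ _ _ _ _ _ h5.1, hEl_inj hK _ _ h5.2, uEl_inj hK _ _ _ _ _ _ h4.2⟩

theorem disj (t u v : K) (μ : Kˣ) (s x y : K) (ν : Kˣ) (s' x' y' : K) :
    wU hK t u v * hH hK μ ≠ wU hK s x y * hH hK ν * nn hK * wU hK s' x' y' := by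
  intro h
  have h1 : param hK (Sum.inl (uEl hK t u v, hEl hK μ)) =
      param hK (Sum.inr ((uEl hK s x y, hEl hK ν), uEl hK s' x' y')) := h
  have h2 := (param_bijective hK).1 h1
  exact Sum.inl_ne_inr h2

theorem UH (t u v : K) (μ : Kˣ) (h : wU hK t u v = hH hK μ) : μ = 1 := by
  have h1 : ((wU hK t u v : ↥(twistedG2 K (3 ^ m))) : GL chevG2.Idx K) = hfix K m μ :=
    congrArg (fun x : ↥(twistedG2 K (3 ^ m)) => (x : GL chevG2.Idx K)) h
  have h2 : hfix K m μ ∈ chevG2.posUnipotent K ⊓ chevG2.diagonalSubgroup K := by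
    refine ⟨?_, hfix_mem_diag μ⟩
    rw [← h1]
    exact W_pos_memU hK t u v
  rw [(Cfsg.Agent.S1036.result (F := K) chevG2 hD).2, Subgroup.mem_bot] at h2
  apply hfix_injective (K := K) (m := m)
  rw [h2, map_one]

theorem sylow : ∃ S : Sylow 3 ↥(twistedG2 K (3 ^ m)), ∀ x : ↥(twistedG2 K (3 ^ m)),
    x ∈ S ↔ ∃ t u v : K, x = wU hK t u v := by
  have hp : IsPGroup 3 ↥((chevG2.posUnipotent K ⊓ twistedG2 K (3 ^ m)).subgroupOf (twistedG2 K (3 ^ m))) :=
    IsPGroup.of_card (card_U1 hK)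
  refine ⟨hp.toSylow (index_U1 hK), ?_⟩
  intro x
  rw [IsPGroup.mem_toSylow, Subgroup.mem_subgroupOf]
  constructor
  · intro h
    obtain ⟨t, u, v, e⟩ := exists_wU hK _ h
    exact ⟨t, u, v, Subtype.ext e⟩
  · rintro ⟨t, u, v, rfl⟩
    exact (mem_U_inf hK _).mpr ⟨t, u, v, rfl⟩

/-! ### the automorphisms induced by the automorphisms of the field -/

omit [Fintype K] in
theorem comm_theta (τ : K →+* K) (x : K) : τ (theta K m x) = theta K m (τ x) := by
  rw [theta_apply, theta_apply, map_pow]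

theorem eps_neg_one : (negSys hK).ε = -1 := by
  show (((-1 : ℤ) : K)) = -1
  simp

theorem theta_eq_neg : (negSys hK).θ = theta K m := rfl

/-- The image of a fixed element of `U` under the entrywise map. -/
theorem mapGL_W_pos (τ : K →+* K) (t u v : K) :
    mapGL chevG2 τ (((posSys hK).W t u v : ↥(chevG2.group K)) : GL chevG2.Idx K) =
      (((posSys hK).W (τ t) (τ u) (τ v) : ↥(chevG2.group K)) : GL chevG2.Idx K) := by
  unfold ReeSys.W ReeSys.M
  rw [eps_one hK, theta_eq hK]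
  simp only [one_mul]
  show mapGL chevG2 τ (xGL dc 7 _ * xGL dc 6 _ * (xGL dc 8 _ * xGL dc 9 _ * xGL dc 10 _ * xGL dc 11 _)) =
    xGL dc 7 _ * xGL dc 6 _ * (xGL dc 8 _ * xGL dc 9 _ * xGL dc 10 _ * xGL dc 11 _)
  simp only [map_mul, mapGL_xGL, map_add, map_pow, comm_theta]

/-- The image of a fixed element of `V` under the entrywise map. -/
theorem mapGL_W_neg (τ : K →+* K) (t u v : K) :
    mapGL chevG2 τ (((negSys hK).W t u v : ↥(chevG2.group K)) : GL chevG2.Idx K) =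
      (((negSys hK).W (τ t) (τ u) (τ v) : ↥(chevG2.group K)) : GL chevG2.Idx K) := by
  unfold ReeSys.W ReeSys.M
  rw [eps_neg_one hK, theta_eq_neg hK]
  simp only [neg_one_mul]
  show mapGL chevG2 τ (xGL dc 4 _ * xGL dc 5 _ * (xGL dc 3 _ * xGL dc 2 _ * xGL dc 1 _ * xGL dc 0 _)) =
    xGL dc 4 _ * xGL dc 5 _ * (xGL dc 3 _ * xGL dc 2 _ * xGL dc 1 _ * xGL dc 0 _)
  simp only [map_mul, mapGL_xGL, map_add, map_pow, map_neg, comm_theta]

include hK in
theorem mapGL_mem (τ : K →+* K) (g : GL chevG2.Idx K) (hg : g ∈ twistedG2 K (3 ^ m)) :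
    mapGL chevG2 τ g ∈ twistedG2 K (3 ^ m) := by
  have hg' := hg
  unfold twistedG2 ChevalleyDatum.genSubgroup at hg'
  apply mapGL_mem_of_closure τ _ _ _ g hg'
  rintro s ⟨w, ⟨t, u, v, hw | hw⟩, hs⟩
  · rw [hw, reeU_eq hK] at hs
    rw [Units.ext hs, mapGL_W_pos]
    exact W_pos_mem hK _ _ _
  · rw [hw, reeV_eq hK] at hs
    rw [Units.ext hs, mapGL_W_neg]
    exact W_neg_mem hK _ _ _

omit [Fintype K] [CharP K 3] in
theorem mapGL_symm (τ : K ≃+* K) (g : GL chevG2.Idx K) :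
    mapGL chevG2 (τ.symm : K →+* K) (mapGL chevG2 (τ : K →+* K) g) = g := by
  apply Units.ext
  ext i j
  rw [mapGL_coe, mapGL_coe]
  simp

omit [Fintype K] [CharP K 3] in
theorem mapGL_symm' (τ : K ≃+* K) (g : GL chevG2.Idx K) :
    mapGL chevG2 (τ : K →+* K) (mapGL chevG2 (τ.symm : K →+* K) g) = g := by
  apply Units.ext
  ext i j
  rw [mapGL_coe, mapGL_coe]
  simp

/-- The automorphism of the twisted group induced by an automorphism of the field. -/
noncomputable def faEquiv (τ : K ≃+* K) : MulAut ↥(twistedG2 K (3 ^ m)) where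
  toFun x := ⟨mapGL chevG2 (τ : K →+* K) x, mapGL_mem hK _ x.1 x.2⟩
  invFun x := ⟨mapGL chevG2 (τ.symm : K →+* K) x, mapGL_mem hK _ x.1 x.2⟩
  left_inv x := Subtype.ext (mapGL_symm τ x.1)
  right_inv x := Subtype.ext (mapGL_symm' τ x.1)
  map_mul' x y := Subtype.ext (map_mul (mapGL chevG2 (τ : K →+* K)) x.1 y.1)

theorem faEquiv_coe (τ : K ≃+* K) (x : ↥(twistedG2 K (3 ^ m))) :
    ((faEquiv hK τ x : ↥(twistedG2 K (3 ^ m))) : GL chevG2.Idx K) = mapGL chevG2 (τ : K →+* K) x := rfl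

/-- The homomorphism from the automorphisms of the field to the automorphisms of the twisted group. -/
noncomputable def fa : (K ≃+* K) →* MulAut ↥(twistedG2 K (3 ^ m)) where
  toFun := faEquiv hK
  map_one' := by
    apply MulEquiv.ext
    intro x
    apply Subtype.ext
    rw [faEquiv_coe]
    apply Units.ext
    ext i j
    rw [mapGL_coe]
    rfl
  map_mul' τ τ' := by
    apply MulEquiv.ext
    intro x
    apply Subtype.ext
    rw [MulAut.mul_apply, faEquiv_coe, faEquiv_coe, faEquiv_coe]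
    apply Units.ext
    ext i j
    rw [mapGL_coe, mapGL_coe, mapGL_coe]
    rfl

theorem fa_wU (τ : K ≃+* K) (t u v : K) : fa hK τ (wU hK t u v) = wU hK (τ t) (τ u) (τ v) := by
  apply Subtype.ext
  show mapGL chevG2 (τ : K →+* K) _ = _
  rw [wU_coe, mapGL_W_pos, wU_coe]
  rfl

theorem fa_hH (τ : K ≃+* K) (μ : Kˣ) : fa hK τ (hH hK μ) = hH hK (Units.map (τ : K →* K) μ) := by
  apply Subtype.ext
  show mapGL chevG2 (τ : K →+* K) (hfix K m μ) = hfix K m (Units.map (τ : K →* K) μ)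
  show mapGL chevG2 (τ : K →+* K) (torusGL chevG2 K (chi chevG2 K (uu K m μ))) =
    torusGL chevG2 K (chi chevG2 K (uu K m (Units.map (τ : K →* K) μ)))
  rw [torus_eq_word, torus_eq_word, map_mul]
  have e : ∀ (r : ℕ) (a : K), mapGL chevG2 (τ : K →+* K) (wordGL dc (chevG2.hWord r a)) =
      wordGL dc (chevG2.hWord r ((τ : K →+* K) a)) := fun r a => mapGL_hGL dc (τ : K →+* K) r a
  rw [e, e]
  have h0 : ((uu K m (Units.map (τ : K →* K) μ) 0 : Kˣ) : K) = (τ : K →+* K) ((uu K m μ 0 : Kˣ) : K) := by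
    unfold uu
    rw [if_pos rfl, if_pos rfl]
    exact (comm_theta (τ : K →+* K) (μ : K)).symm
  have h1 : ((uu K m (Units.map (τ : K →* K) μ) 1 : Kˣ) : K) = (τ : K →+* K) ((uu K m μ 1 : Kˣ) : K) := by
    unfold uu
    rw [if_neg (by decide), if_neg (by decide)]
    rfl
  rw [h0, h1]

/-! ### the data and the result -/

/-- The data of the normal form for the twisted group. -/
noncomputable def reeData : ReeData ↥(twistedG2 K (3 ^ m)) K where
  θ := theta K m
  hθθ := theta_theta hK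
  three := three_eq_zero
  wU := wU hK
  hH := hH hK
  n := nn hK
  wU_mul := wU_mul hK
  wU_inj := wU_inj hK
  hH_inj := hH_inj hK
  conj := hH_conj hK
  n_conj := nn_conj hK
  cases := cases hK
  uniq := uniq hK
  disj := disj hK
  UH := UH hK
  sylow := sylow hK
  fa := fa hK
  fa_wU := fa_wU hK
  fa_hH := fa_hH hK

include hK in
/-- A unit on which the square of the twisting endomorphism is not the identity. -/
theorem exists_mu (hm : 1 ≤ m) : ∃ μ : K, μ ≠ 0 ∧ μ + 1 ≠ 0 ∧ (theta K m μ) ^ 3 ≠ μ := by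
  obtain ⟨g, hg⟩ := IsCyclic.exists_generator (α := Kˣ)
  have h1 : orderOf g = Nat.card Kˣ := orderOf_eq_card_of_forall_mem_zpowers hg
  have h3 : Nat.card Kˣ = 3 ^ (2 * m + 1) - 1 := by
    rw [Nat.card_units, Nat.card_eq_fintype_card, hK]
  have hne : (theta K m (g : K)) ^ 3 ≠ (g : K) := by
    intro h
    rw [theta_apply, ← pow_mul, ← pow_succ] at h
    have h4 : g ^ (3 ^ (m + 1)) = g := by
      apply Units.ext
      rw [Units.val_pow_eq_pow_val]
      exact h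
    have hpos : 1 ≤ 3 ^ (m + 1) := Nat.one_le_pow _ _ (by norm_num)
    have h5 : g ^ (3 ^ (m + 1) - 1) = 1 := by
      have e : g * g ^ (3 ^ (m + 1) - 1) = g * 1 := by
        rw [mul_one, ← pow_succ', Nat.sub_add_cancel hpos]
        exact h4
      exact mul_left_cancel e
    have h6 : orderOf g ∣ 3 ^ (m + 1) - 1 := orderOf_dvd_of_pow_eq_one h5
    have h7 : (3 : ℕ) ^ (m + 1) < 3 ^ (2 * m + 1) := Nat.pow_lt_pow_right (by norm_num) (by omega)
    have h8 : (3 : ℕ) ^ 2 ≤ 3 ^ (m + 1) := Nat.pow_le_pow_right (by norm_num) (by omega)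
    have h9 : orderOf g ≤ 3 ^ (m + 1) - 1 := Nat.le_of_dvd (by omega) h6
    rw [h1, h3] at h9
    omega
  refine ⟨(g : K), g.ne_zero, ?_, hne⟩
  intro h
  apply hne
  have e : (g : K) = -1 := eq_neg_of_add_eq_zero_left h
  rw [e, map_neg, map_one]
  ring

include hK in
/-- The number of automorphisms of the field. -/
theorem card_ringAut : Nat.card (K ≃+* K) = 2 * m + 1 := by
  haveI : Fact (Nat.Prime 3) := ⟨Nat.prime_three⟩
  letI : Algebra (ZMod 3) K := ZMod.algebra K 3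
  have hrF : Module.finrank (ZMod 3) K = 2 * m + 1 :=
    Nat.pow_right_injective (by norm_num : 2 ≤ 3) (by
      show 3 ^ Module.finrank (ZMod 3) K = 3 ^ (2 * m + 1)
      rw [FiniteField.pow_finrank_eq_card, hK])
  have hgal : Nat.card (K ≃ₐ[ZMod 3] K) = 2 * m + 1 := by
    rw [IsGalois.card_aut_eq_finrank, hrF]
  have hcomm : ∀ (fe : K ≃+* K) (r : ZMod 3), fe (algebraMap (ZMod 3) K r) = algebraMap (ZMod 3) K r := by
    intro fe r
    exact RingHom.congr_fun
      (Subsingleton.elim ((fe : K →+* K).comp (algebraMap (ZMod 3) K)) (algebraMap (ZMod 3) K)) r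
  let e : (K ≃ₐ[ZMod 3] K) ≃ (K ≃+* K) :=
    { toFun := fun σ => (σ : K ≃+* K)
      invFun := fun fe => AlgEquiv.ofRingEquiv (hcomm fe)
      left_inv := fun σ => by
        ext x
        rfl
      right_inv := fun fe => by
        ext x
        rfl }
  rw [← Nat.card_congr e, hgal]

include hK in
/-- The outer automorphism group of the twisted group of type `²G₂` has `2 m + 1` elements. -/
theorem card_out (hm : 1 ≤ m) : Nat.card (Cfsg.Out ↥(twistedG2 K (3 ^ m))) = 2 * m + 1 := by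
  rw [(reeData hK).card_out (exists_mu hK hm) (exists_unit hK hm), card_ringAut hK]

end

end Cfsg.Agent.Lib.Helper36_ReeOut
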