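import Cfsg.Agent.Lib.Helper37_ReeCentDefs
import Cfsg.Agent.Lib.Helper36_ReeOut

set_option autoImplicit false

/-!
The centraliser, in the twisted group of type `²G₂`, of an element `hfix μ` of `H¹` with `μ² ≠ 1` is `H¹`
(Bruhat uniqueness).
-/

namespace Cfsg.Agent.Lib.Helper37_ReeTorusCent

open Cfsg Cfsg.Lie Cfsg.Agent.Lib.Helper36_ReeFix Cfsg.Agent.Lib.Helper36_ReeBruhat
  Cfsg.Agent.Lib.Helper36_ReeH Cfsg.Agent.Lib.Helper36_ReePerf Cfsg.Agent.Lib.Helper36_ReeOrder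
  Cfsg.Agent.Lib.Helper36_ReeBN Cfsg.Agent.Lib.Helper36_ChevBorel Cfsg.Agent.Lib.Helper36_ChevTables
  Cfsg.Agent.Lib.Helper36_ReeTw Cfsg.Agent.Lib.Helper36_ReeSylow Cfsg.Agent.Lib.Helper36_ReeOdd
  Cfsg.Agent.Lib.Helper36_ChevCore Cfsg.Agent.Lib.Helper36_ChevTorus Cfsg.Agent.Lib.Helper36_ReeAlg
  Cfsg.Agent.Lib.Helper36_ReeStab Cfsg.Agent.Lib.Helper36_ReeSetup Cfsg.Agent.Lib.Helper36_ReeOut
  Cfsg.Agent.Lib.Helper37_ReeCentDefs

section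

variable {K : Type*} [Field K] [Fintype K] [CharP K 3] {m : ℕ} (hK : Fintype.card K = 3 ^ (2 * m + 1))

include hK in
/-- The elements of `H¹` normalise `U¹`. -/
theorem hfix_conj_U (μ : Kˣ) (u : GL chevG2.Idx K) (hu : u ∈ chevG2.posUnipotent K ⊓ twistedG2 K (3 ^ m)) :
    hfix K m μ * u * (hfix K m μ)⁻¹ ∈ chevG2.posUnipotent K ⊓ twistedG2 K (3 ^ m) :=
  ⟨diag_conj_U _ (hfix_mem_diag μ) _ hu.1,
    Subgroup.mul_mem _ (Subgroup.mul_mem _ (hfix_mem hK μ) hu.2) (Subgroup.inv_mem _ (hfix_mem hK μ))⟩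

include hK in
/-- The elements of `H¹` commute. -/
theorem hfix_comm (μ : Kˣ) (h0 : GL chevG2.Idx K) (hh0 : h0 ∈ chevG2.diagonalSubgroup K ⊓ twistedG2 K (3 ^ m)) :
    hfix K m μ * h0 * (hfix K m μ)⁻¹ = h0 := by
  rw [diag_inf_eq hK] at hh0
  obtain ⟨ν, rfl⟩ := hh0
  rw [← map_mul, mul_comm, map_mul, mul_inv_cancel_right]

include hK in
/-- The centraliser of `hfix μ`, `μ² ≠ 1`, in the twisted group is contained in `H¹`. -/
theorem cent_hfix (μ : Kˣ) (hμ : μ ^ 2 ≠ 1) (g : GL chevG2.Idx K) (hg : g ∈ twistedG2 K (3 ^ m))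
    (hc : hfix K m μ * g * (hfix K m μ)⁻¹ = g) : g ∈ chevG2.diagonalSubgroup K ⊓ twistedG2 K (3 ^ m) := by
  have hinj := (param_bijective hK).1
  set a := hfix K m μ with ha
  rcases mem_cases hK g hg with ⟨u0, hu0, h0, hh0, e⟩ | ⟨u0, hu0, h0, hh0, u, hu, e⟩
  · have e1 : a * g * a⁻¹ = (a * u0 * a⁻¹) * h0 := by
      rw [e]
      calc a * (u0 * h0) * a⁻¹ = (a * u0 * a⁻¹) * (a * h0 * a⁻¹) := by group
        _ = (a * u0 * a⁻¹) * h0 := by rw [hfix_comm hK μ h0 hh0]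
    have e2 : param hK (Sum.inl (⟨a * u0 * a⁻¹, hfix_conj_U hK μ u0 hu0⟩, ⟨h0, hh0⟩)) =
        param hK (Sum.inl (⟨u0, hu0⟩, ⟨h0, hh0⟩)) := by
      apply Subtype.ext
      show (a * u0 * a⁻¹) * h0 = u0 * h0
      rw [← e1, hc, e]
    have e3 := hinj e2
    have e4 : a * u0 * a⁻¹ = u0 := by
      have := Sum.inl.inj e3
      exact congrArg (fun z : ↥(chevG2.posUnipotent K ⊓ twistedG2 K (3 ^ m)) ×
        ↥(chevG2.diagonalSubgroup K ⊓ twistedG2 K (3 ^ m)) => (z.1 : GL chevG2.Idx K)) this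
    have e5 : u0 = 1 := cent_trivial hK μ hμ u0 hu0 e4
    rw [e, e5, one_mul]
    exact hh0
  · exfalso
    have hm0 : a * m0 hK * a⁻¹ = a * a * m0 hK := by
      have h1 : m0 hK * a⁻¹ * (m0 hK)⁻¹ = a := by
        have := m0_conj_hfix hK μ⁻¹
        rw [inv_inv, map_inv] at this
        exact this
      calc a * m0 hK * a⁻¹ = a * (m0 hK * a⁻¹ * (m0 hK)⁻¹) * m0 hK := by group
        _ = a * a * m0 hK := by rw [h1]
    have haa : a * a ∈ chevG2.diagonalSubgroup K ⊓ twistedG2 K (3 ^ m) :=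
      Subgroup.mul_mem _ ⟨hfix_mem_diag μ, hfix_mem hK μ⟩ ⟨hfix_mem_diag μ, hfix_mem hK μ⟩
    have e1 : a * g * a⁻¹ = (a * u0 * a⁻¹) * (h0 * (a * a)) * m0 hK * (a * u * a⁻¹) := by
      rw [e]
      calc a * (u0 * h0 * m0 hK * u) * a⁻¹ =
          (a * u0 * a⁻¹) * (a * h0 * a⁻¹) * (a * m0 hK * a⁻¹) * (a * u * a⁻¹) := by group
        _ = (a * u0 * a⁻¹) * h0 * (a * a * m0 hK) * (a * u * a⁻¹) := by rw [hfix_comm hK μ h0 hh0, hm0]
        _ = (a * u0 * a⁻¹) * (h0 * (a * a)) * m0 hK * (a * u * a⁻¹) := by group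
    have e2 : param hK (Sum.inr ((⟨a * u0 * a⁻¹, hfix_conj_U hK μ u0 hu0⟩, ⟨h0 * (a * a), Subgroup.mul_mem _ hh0 haa⟩),
        ⟨a * u * a⁻¹, hfix_conj_U hK μ u hu⟩)) =
        param hK (Sum.inr ((⟨u0, hu0⟩, ⟨h0, hh0⟩), ⟨u, hu⟩)) := by
      apply Subtype.ext
      show (a * u0 * a⁻¹) * (h0 * (a * a)) * m0 hK * (a * u * a⁻¹) = u0 * h0 * m0 hK * u
      rw [← e1, hc, e]
    have e3 := Sum.inr.inj (hinj e2)
    have e4 : h0 * (a * a) = h0 :=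
      congrArg (fun z : (↥(chevG2.posUnipotent K ⊓ twistedG2 K (3 ^ m)) ×
        ↥(chevG2.diagonalSubgroup K ⊓ twistedG2 K (3 ^ m))) × ↥(chevG2.posUnipotent K ⊓ twistedG2 K (3 ^ m)) =>
          (z.1.2 : GL chevG2.Idx K)) e3
    have e5 : a * a = 1 := mul_left_cancel (a := h0) (by rw [e4, mul_one])
    apply hμ
    apply hfix_injective (K := K) (m := m)
    rw [map_one, pow_two, map_mul]
    exact e5

end

end Cfsg.Agent.Lib.Helper37_ReeTorusCent
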