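import Cfsg.Agent.Lib.Helper37_ReeCentDefs
import Cfsg.Agent.Lib.Helper37_ReeTorusCent

set_option autoImplicit false

/-!
REE-CENT package AM0: the involution `aa = hfix (-1)` of `H¹`: it is not 1; it is the only involution of `H¹`; it commutes
with `H¹` and with `m0`.
-/

namespace Cfsg.Agent.Lib.Helper37_ReeCent_AM0

open Cfsg Cfsg.Lie Cfsg.Agent.Lib.Helper36_ReeFix Cfsg.Agent.Lib.Helper36_ReeBruhat
  Cfsg.Agent.Lib.Helper36_ReeH Cfsg.Agent.Lib.Helper36_ReePerf Cfsg.Agent.Lib.Helper36_ReeOrder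
  Cfsg.Agent.Lib.Helper36_ReeBN Cfsg.Agent.Lib.Helper36_ChevBorel Cfsg.Agent.Lib.Helper36_ChevTables
  Cfsg.Agent.Lib.Helper36_ReeTw Cfsg.Agent.Lib.Helper36_ReeSylow Cfsg.Agent.Lib.Helper36_ReeOdd
  Cfsg.Agent.Lib.Helper36_ChevCore Cfsg.Agent.Lib.Helper36_ChevTorus Cfsg.Agent.Lib.Helper36_ReeAlg
  Cfsg.Agent.Lib.Helper36_ReeStab Cfsg.Agent.Lib.Helper36_ReeSetup Cfsg.Agent.Lib.Helper36_ReeOut
  Cfsg.Agent.Lib.Helper37_SL2Bruhat Cfsg.Agent.Lib.Helper37_ReeCentDefs Cfsg.Agent.Lib.Helper37_ReeTorusCent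

section

variable {K : Type*} [Field K] [Fintype K] [CharP K 3] {m : ℕ} (hK : Fintype.card K = 3 ^ (2 * m + 1))

omit [Fintype K] in
theorem neg_one_ne_one : (-1 : Kˣ) ≠ 1 := by
  intro h
  have h1 : ((-1 : Kˣ) : K) = ((1 : Kˣ) : K) := congrArg Units.val h
  rw [Units.val_neg, Units.val_one] at h1
  have h2 : ((2 : ℕ) : K) = 0 := by
    have : (2 : K) = 1 - -1 := by ring
    push_cast
    rw [this, h1]
    ring
  rw [CharP.cast_eq_zero_iff K 3] at h2
  omega

omit [Fintype K] in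
theorem aa_ne_one : aa K m ≠ 1 := by
  intro h
  apply neg_one_ne_one (K := K)
  apply hfix_injective (K := K) (m := m)
  rw [map_one]
  exact h

include hK in
theorem eq_aa (g : GL chevG2.Idx K) (hg : g ∈ chevG2.diagonalSubgroup K ⊓ twistedG2 K (3 ^ m)) (h1 : g ≠ 1)
    (h2 : g * g = 1) : g = aa K m := by
  rw [diag_inf_eq hK] at hg
  obtain ⟨μ, rfl⟩ := hg
  have hμ2 : μ * μ = 1 := by
    apply hfix_injective (K := K) (m := m)
    rw [map_mul, map_one]
    exact h2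
  have hμ1 : μ ≠ 1 := by
    rintro rfl
    exact h1 (map_one _)
  have h3 : ((μ : K) - 1) * ((μ : K) + 1) = 0 := by
    have := congrArg Units.val hμ2
    rw [Units.val_mul, Units.val_one] at this
    linear_combination this
  rcases mul_eq_zero.mp h3 with h | h
  · exfalso
    apply hμ1
    apply Units.ext
    rw [Units.val_one]
    exact sub_eq_zero.mp h
  · have : μ = -1 := by
      apply Units.ext
      rw [Units.val_neg, Units.val_one]
      exact eq_neg_of_add_eq_zero_left h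
    rw [this]
    rfl

include hK in
theorem aa_comm_H (h : GL chevG2.Idx K) (hh : h ∈ chevG2.diagonalSubgroup K ⊓ twistedG2 K (3 ^ m)) :
    aa K m * h * (aa K m)⁻¹ = h :=
  hfix_comm hK (-1) h hh

theorem aa_comm_m0 : aa K m * m0 hK * (aa K m)⁻¹ = m0 hK := by
  have h1 : m0 hK * aa K m * (m0 hK)⁻¹ = aa K m := by
    have := m0_conj_hfix hK (-1 : Kˣ)
    rw [inv_neg, inv_one] at this
    exact this
  calc aa K m * m0 hK * (aa K m)⁻¹ = aa K m * (m0 hK * aa K m * (m0 hK)⁻¹)⁻¹ * m0 hK := by group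
    _ = m0 hK := by
      rw [h1]
      group

end

end Cfsg.Agent.Lib.Helper37_ReeCent_AM0
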