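import Cfsg.Agent.Lib.Helper37_ReeCentDefs

set_option autoImplicit false

/-!
REE-CENT package CASES: the centraliser of the involution of `H¹` in the twisted group of type `²G₂`, in the Bruhat form.
-/

namespace Cfsg.Agent.Lib.Helper37_ReeCent_CASES

open Cfsg Cfsg.Lie Cfsg.Agent.Lib.Helper36_ReeFix Cfsg.Agent.Lib.Helper36_ReeBruhat
  Cfsg.Agent.Lib.Helper36_ReeH Cfsg.Agent.Lib.Helper36_ReePerf Cfsg.Agent.Lib.Helper36_ReeOrder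
  Cfsg.Agent.Lib.Helper36_ReeBN Cfsg.Agent.Lib.Helper36_ChevBorel Cfsg.Agent.Lib.Helper36_ChevTables
  Cfsg.Agent.Lib.Helper36_ReeTw Cfsg.Agent.Lib.Helper36_ReeSylow Cfsg.Agent.Lib.Helper36_ReeOdd
  Cfsg.Agent.Lib.Helper36_ChevCore Cfsg.Agent.Lib.Helper36_ChevTorus Cfsg.Agent.Lib.Helper36_ReeAlg
  Cfsg.Agent.Lib.Helper36_ReeStab Cfsg.Agent.Lib.Helper36_ReeSetup
  Cfsg.Agent.Lib.Helper37_SL2Bruhat Cfsg.Agent.Lib.Helper37_ReeCentDefs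

section

variable {K : Type*} [Field K] [Fintype K] [CharP K 3] {m : ℕ} (hK : Fintype.card K = 3 ^ (2 * m + 1))

include hK in
/-- The involution normalises `U¹`. -/
theorem aa_conj_U (u : GL chevG2.Idx K) (hu : u ∈ chevG2.posUnipotent K ⊓ twistedG2 K (3 ^ m)) :
    aa K m * u * (aa K m)⁻¹ ∈ chevG2.posUnipotent K ⊓ twistedG2 K (3 ^ m) :=
  ⟨diag_conj_U _ aa_mem_diag _ hu.1,
    Subgroup.mul_mem _ (Subgroup.mul_mem _ (aa_mem hK) hu.2) (Subgroup.inv_mem _ (aa_mem hK))⟩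

theorem cent_cases
    (hU : ∀ w : GL chevG2.Idx K, w ∈ chevG2.posUnipotent K ⊓ twistedG2 K (3 ^ m) → aa K m * w * (aa K m)⁻¹ = w →
      ∃ u : K, w = Wp hK 0 u 0)
    (hH : ∀ h : GL chevG2.Idx K, h ∈ chevG2.diagonalSubgroup K ⊓ twistedG2 K (3 ^ m) → aa K m * h * (aa K m)⁻¹ = h)
    (hm0 : aa K m * m0 hK * (aa K m)⁻¹ = m0 hK)
    (g : GL chevG2.Idx K) (hg : g ∈ twistedG2 K (3 ^ m)) (hc : aa K m * g * (aa K m)⁻¹ = g) :
    (∃ (u : K) (h0 : GL chevG2.Idx K), h0 ∈ chevG2.diagonalSubgroup K ⊓ twistedG2 K (3 ^ m) ∧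
      g = Wp hK 0 u 0 * h0) ∨
    (∃ (u : K) (h0 : GL chevG2.Idx K) (u' : K), h0 ∈ chevG2.diagonalSubgroup K ⊓ twistedG2 K (3 ^ m) ∧
      g = Wp hK 0 u 0 * h0 * m0 hK * Wp hK 0 u' 0) := by
  have hinj := (param_bijective hK).1
  rcases mem_cases hK g hg with ⟨u0, hu0, h0, hh0, e⟩ | ⟨u0, hu0, h0, hh0, u, hu, e⟩
  · left
    have e1 : aa K m * g * (aa K m)⁻¹ = (aa K m * u0 * (aa K m)⁻¹) * h0 := by
      rw [e]
      calc aa K m * (u0 * h0) * (aa K m)⁻¹ = (aa K m * u0 * (aa K m)⁻¹) * (aa K m * h0 * (aa K m)⁻¹) := by group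
        _ = (aa K m * u0 * (aa K m)⁻¹) * h0 := by rw [hH h0 hh0]
    have e2 : param hK (Sum.inl (⟨aa K m * u0 * (aa K m)⁻¹, aa_conj_U hK u0 hu0⟩, ⟨h0, hh0⟩)) =
        param hK (Sum.inl (⟨u0, hu0⟩, ⟨h0, hh0⟩)) := by
      apply Subtype.ext
      show (aa K m * u0 * (aa K m)⁻¹) * h0 = u0 * h0
      rw [← e1, hc, e]
    have e3 := hinj e2
    have e4 : aa K m * u0 * (aa K m)⁻¹ = u0 := by
      have := Sum.inl.inj e3
      exact congrArg (fun z : ↥(chevG2.posUnipotent K ⊓ twistedG2 K (3 ^ m)) ×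
        ↥(chevG2.diagonalSubgroup K ⊓ twistedG2 K (3 ^ m)) => (z.1 : GL chevG2.Idx K)) this
    obtain ⟨t, ht⟩ := hU u0 hu0 e4
    exact ⟨t, h0, hh0, by rw [e, ht]⟩
  · right
    have e1 : aa K m * g * (aa K m)⁻¹ =
        (aa K m * u0 * (aa K m)⁻¹) * h0 * m0 hK * (aa K m * u * (aa K m)⁻¹) := by
      rw [e]
      calc aa K m * (u0 * h0 * m0 hK * u) * (aa K m)⁻¹ =
          (aa K m * u0 * (aa K m)⁻¹) * (aa K m * h0 * (aa K m)⁻¹) * (aa K m * m0 hK * (aa K m)⁻¹) *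
            (aa K m * u * (aa K m)⁻¹) := by group
        _ = (aa K m * u0 * (aa K m)⁻¹) * h0 * m0 hK * (aa K m * u * (aa K m)⁻¹) := by rw [hH h0 hh0, hm0]
    have e2 : param hK (Sum.inr ((⟨aa K m * u0 * (aa K m)⁻¹, aa_conj_U hK u0 hu0⟩, ⟨h0, hh0⟩),
        ⟨aa K m * u * (aa K m)⁻¹, aa_conj_U hK u hu⟩)) =
        param hK (Sum.inr ((⟨u0, hu0⟩, ⟨h0, hh0⟩), ⟨u, hu⟩)) := by
      apply Subtype.ext
      show (aa K m * u0 * (aa K m)⁻¹) * h0 * m0 hK * (aa K m * u * (aa K m)⁻¹) = u0 * h0 * m0 hK * u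
      rw [← e1, hc, e]
    have e3 := Sum.inr.inj (hinj e2)
    have e4 : aa K m * u0 * (aa K m)⁻¹ = u0 :=
      congrArg (fun z : (↥(chevG2.posUnipotent K ⊓ twistedG2 K (3 ^ m)) ×
        ↥(chevG2.diagonalSubgroup K ⊓ twistedG2 K (3 ^ m))) × ↥(chevG2.posUnipotent K ⊓ twistedG2 K (3 ^ m)) =>
          (z.1.1 : GL chevG2.Idx K)) e3
    have e5 : aa K m * u * (aa K m)⁻¹ = u :=
      congrArg (fun z : (↥(chevG2.posUnipotent K ⊓ twistedG2 K (3 ^ m)) ×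
        ↥(chevG2.diagonalSubgroup K ⊓ twistedG2 K (3 ^ m))) × ↥(chevG2.posUnipotent K ⊓ twistedG2 K (3 ^ m)) =>
          (z.2 : GL chevG2.Idx K)) e3
    obtain ⟨t, ht⟩ := hU u0 hu0 e4
    obtain ⟨t', ht'⟩ := hU u hu e5
    exact ⟨t, h0, t', hh0, by rw [e, ht, ht']⟩

end

end Cfsg.Agent.Lib.Helper37_ReeCent_CASES
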