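import Cfsg.Agent.Lib.Helper37_ReeCentDefs

set_option autoImplicit false

/-!
REE-CENT package CENTU: the elements of `U¹` centralised by the involution of `H¹` are the `W⁺(0, u, 0)`.
-/

namespace Cfsg.Agent.Lib.Helper37_ReeCent_CENTU

open Cfsg Cfsg.Lie Cfsg.Agent.Lib.Helper36_ReeFix Cfsg.Agent.Lib.Helper36_ReeBruhat
  Cfsg.Agent.Lib.Helper36_ReeH Cfsg.Agent.Lib.Helper36_ReePerf Cfsg.Agent.Lib.Helper36_ReeOrder
  Cfsg.Agent.Lib.Helper36_ReeBN Cfsg.Agent.Lib.Helper36_ChevBorel Cfsg.Agent.Lib.Helper36_ChevTables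
  Cfsg.Agent.Lib.Helper36_ReeTw Cfsg.Agent.Lib.Helper36_ReeSylow Cfsg.Agent.Lib.Helper36_ReeOdd
  Cfsg.Agent.Lib.Helper36_ChevCore Cfsg.Agent.Lib.Helper36_ChevTorus Cfsg.Agent.Lib.Helper36_ReeAlg
  Cfsg.Agent.Lib.Helper36_ReeStab Cfsg.Agent.Lib.Helper36_ReeSetup
  Cfsg.Agent.Lib.Helper37_SL2Bruhat Cfsg.Agent.Lib.Helper37_ReeCentDefs

section

variable {K : Type*} [Field K] [Fintype K] [CharP K 3] {m : ℕ} (hK : Fintype.card K = 3 ^ (2 * m + 1))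

omit [Fintype K] in
theorem eq_zero_of_neg_eq (t : K) (h : -t = t) : t = 0 := by
  have h2 : (2 : K) ≠ 0 := by
    intro h0
    have h3 : ((2 : ℕ) : K) = 0 := by exact_mod_cast h0
    rw [CharP.cast_eq_zero_iff K 3] at h3
    omega
  have h1 : (2 : K) * t = 0 := by linear_combination -h
  rcases mul_eq_zero.mp h1 with h3 | h3
  · exact absurd h3 h2
  · exact h3

theorem centU (hconj : ∀ t u v : K, aa K m * Wp hK t u v * (aa K m)⁻¹ = Wp hK (-t) u (-v))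
    (w : GL chevG2.Idx K) (hw : w ∈ chevG2.posUnipotent K ⊓ twistedG2 K (3 ^ m))
    (hc : aa K m * w * (aa K m)⁻¹ = w) : ∃ u : K, w = Wp hK 0 u 0 := by
  obtain ⟨t, u, v, rfl⟩ := (mem_U_inf hK w).mp hw
  have h1 : Wp hK (-t) u (-v) = Wp hK t u v := by
    rw [← hconj t u v]
    exact hc
  obtain ⟨ht, -, hv⟩ := Wp_inj hK _ _ _ _ _ _ h1
  have ht0 : t = 0 := eq_zero_of_neg_eq t ht
  have hv0 : v = 0 := eq_zero_of_neg_eq v hv
  refine ⟨u, ?_⟩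
  rw [ht0, hv0]
  rfl

end

end Cfsg.Agent.Lib.Helper37_ReeCent_CENTU
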