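import Cfsg.Agent.Lib.Helper37_ReeCentDefs

set_option autoImplicit false

/-!
REE-CENT package CHI: the values of the character of the involution `aa = hfix (-1)` of `H¹` on the roots.
-/

namespace Cfsg.Agent.Lib.Helper37_ReeCent_CHI

open Cfsg Cfsg.Lie Cfsg.Agent.Lib.Helper36_ReeFix Cfsg.Agent.Lib.Helper36_ReeBruhat
  Cfsg.Agent.Lib.Helper36_ReeH Cfsg.Agent.Lib.Helper36_ReePerf Cfsg.Agent.Lib.Helper36_ReeOrder
  Cfsg.Agent.Lib.Helper36_ReeBN Cfsg.Agent.Lib.Helper36_ChevBorel Cfsg.Agent.Lib.Helper36_ChevTables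
  Cfsg.Agent.Lib.Helper36_ReeTw Cfsg.Agent.Lib.Helper36_ReeSylow Cfsg.Agent.Lib.Helper36_ReeOdd
  Cfsg.Agent.Lib.Helper36_ChevCore Cfsg.Agent.Lib.Helper36_ChevTorus Cfsg.Agent.Lib.Helper36_ReeAlg
  Cfsg.Agent.Lib.Helper36_ReeStab Cfsg.Agent.Lib.Helper36_ReeSetup
  Cfsg.Agent.Lib.Helper37_SL2Bruhat Cfsg.Agent.Lib.Helper37_ReeCentDefs

theorem cartanAll : chevG2.cartan 0 6 = -3 ∧ chevG2.cartan 1 6 = 2 ∧ chevG2.cartan 0 7 = 2 ∧ chevG2.cartan 1 7 = -1 ∧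
    chevG2.cartan 0 8 = -1 ∧ chevG2.cartan 1 8 = 1 ∧ chevG2.cartan 0 9 = 1 ∧ chevG2.cartan 1 9 = 0 ∧
    chevG2.cartan 0 10 = 3 ∧ chevG2.cartan 1 10 = -1 ∧ chevG2.cartan 0 11 = 0 ∧ chevG2.cartan 1 11 = 1 ∧
    chevG2.cartan 0 3 = 1 ∧ chevG2.cartan 1 3 = -1 ∧ chevG2.cartan 0 1 = -3 ∧ chevG2.cartan 1 1 = 1 := by
  decide +kernel

section

variable {K : Type*} [Field K] [Fintype K] [CharP K 3] {m : ℕ} (hK : Fintype.card K = 3 ^ (2 * m + 1))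

omit [Fintype K] in
theorem uu_neg_one (j : ℕ) : uu K m (-1) j = -1 := by
  unfold uu
  split_ifs
  · apply Units.ext
    rw [Units.coe_map]
    show (theta K m) ((-1 : Kˣ) : K) = ((-1 : Kˣ) : K)
    rw [Units.val_neg, Units.val_one, map_neg, map_one]
  · rfl

omit [Fintype K] in
theorem chi_neg_one :
    chi chevG2 K (uu K m (-1)) 6 = -1 ∧ chi chevG2 K (uu K m (-1)) 7 = -1 ∧ chi chevG2 K (uu K m (-1)) 8 = 1 ∧
    chi chevG2 K (uu K m (-1)) 9 = -1 ∧ chi chevG2 K (uu K m (-1)) 10 = 1 ∧ chi chevG2 K (uu K m (-1)) 11 = -1 ∧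
    chi chevG2 K (uu K m (-1)) 3 = 1 ∧ chi chevG2 K (uu K m (-1)) 1 = 1 := by
  obtain ⟨a06, a16, a07, a17, a08, a18, a09, a19, a010, a110, a011, a111, a03, a13, a01, a11⟩ := cartanAll
  have h2 : ((-1 : Kˣ)) ^ (2 : ℤ) = 1 := by
    rw [zpow_ofNat]
    simp
  have hm1 : ((-1 : Kˣ)) ^ (-1 : ℤ) = -1 := by
    rw [zpow_neg_one, inv_neg, inv_one]
  have h3 : ((-1 : Kˣ)) ^ (3 : ℤ) = -1 := by
    rw [zpow_ofNat]
    simp [pow_succ]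
  have hm3 : ((-1 : Kˣ)) ^ (-3 : ℤ) = -1 := by
    rw [zpow_neg, h3, inv_neg, inv_one]
  have h1 : ((-1 : Kˣ)) ^ (1 : ℤ) = -1 := zpow_one _
  have h0 : ((-1 : Kˣ)) ^ (0 : ℤ) = 1 := zpow_zero _
  refine ⟨?_, ?_, ?_, ?_, ?_, ?_, ?_, ?_⟩
  · rw [chi_two, uu_neg_one, uu_neg_one, a06, a16, hm3, h2, mul_one]
  · rw [chi_two, uu_neg_one, uu_neg_one, a07, a17, h2, hm1, one_mul]
  · rw [chi_two, uu_neg_one, uu_neg_one, a08, a18, hm1, h1, neg_mul_neg, one_mul]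
  · rw [chi_two, uu_neg_one, uu_neg_one, a09, a19, h1, h0, mul_one]
  · rw [chi_two, uu_neg_one, uu_neg_one, a010, a110, h3, hm1, neg_mul_neg, one_mul]
  · rw [chi_two, uu_neg_one, uu_neg_one, a011, a111, h0, h1, one_mul]
  · rw [chi_two, uu_neg_one, uu_neg_one, a03, a13, h1, hm1, neg_mul_neg, one_mul]
  · rw [chi_two, uu_neg_one, uu_neg_one, a01, a11, hm3, h1, neg_mul_neg, one_mul]

end

end Cfsg.Agent.Lib.Helper37_ReeCent_CHI
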