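import Mathlib
import Cfsg.Prelude.Def_ChevStructure
import Cfsg.Agent.Lib.Helper37_SL2Bruhat

/-!
# REECENT package PHI (helper37's market), abstract core (Mathlib + `Helper37_SL2Bruhat` only)

* `commute_of_closure` : elementwise commuting generating sets give elementwise commuting closures;
* `mulHom φ ψ h` : the pointwise product of two homomorphisms with elementwise commuting ranges;
* `slMap θ` : a ring endomorphism applied entrywise to `SL₂(K)`, and its values on `up`, `lo`, `dg`, `we`.
-/

set_option autoImplicit false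

namespace Cfsg.Agent.Lib.Helper24_ReeCent_PHIcore

open Matrix Cfsg.Agent.Lib.Helper37_SL2Bruhat

section grp

variable {X : Type*} [Group X]

theorem commute_of_closure {S T : Set X} (h : ∀ s ∈ S, ∀ t ∈ T, Commute s t) :
    ∀ a ∈ Subgroup.closure S, ∀ b ∈ Subgroup.closure T, Commute a b := by
  have h1 : Subgroup.closure S ≤ Subgroup.centralizer (Subgroup.closure T : Set X) := by
    rw [Subgroup.closure_le]
    intro s hs
    rw [SetLike.mem_coe, Subgroup.mem_centralizer_iff]
    have h2 : Subgroup.closure T ≤ Subgroup.centralizer ({s} : Set X) := by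
      rw [Subgroup.closure_le]
      intro t ht
      rw [SetLike.mem_coe, Subgroup.mem_centralizer_iff]
      intro x hx
      rw [Set.mem_singleton_iff] at hx
      subst hx
      exact (h x hs t ht).eq
    intro b hb
    have := h2 hb
    rw [Subgroup.mem_centralizer_iff] at this
    exact (this s (Set.mem_singleton s)).symm
  intro a ha b hb
  have := h1 ha
  rw [Subgroup.mem_centralizer_iff] at this
  exact (this b hb).symm

/-- the pointwise product of two homomorphisms whose values commute -/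
def mulHom {S2 : Type*} [Group S2] (φ ψ : S2 →* X) (h : ∀ g k, Commute (φ g) (ψ k)) : S2 →* X where
  toFun g := φ g * ψ g
  map_one' := by rw [map_one, map_one, one_mul]
  map_mul' g k := by
    rw [map_mul, map_mul]
    exact (h k g).mul_mul_mul_comm (φ g) (ψ k)

theorem mulHom_apply {S2 : Type*} [Group S2] (φ ψ : S2 →* X) (h : ∀ g k, Commute (φ g) (ψ k)) (g : S2) :
    mulHom φ ψ h g = φ g * ψ g := rfl

end grp

section sl

variable {K : Type*} [Field K]

/-- a ring endomorphism applied entrywise -/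
noncomputable def slMap (θ : K →+* K) : SpecialLinearGroup (Fin 2) K →* SpecialLinearGroup (Fin 2) K :=
  Matrix.SpecialLinearGroup.map θ

theorem slMap_coe (θ : K →+* K) (g : SpecialLinearGroup (Fin 2) K) (i j : Fin 2) :
    ((slMap θ g : SpecialLinearGroup (Fin 2) K) : Matrix (Fin 2) (Fin 2) K) i j =
      θ ((g : Matrix (Fin 2) (Fin 2) K) i j) := rfl

theorem slMap_up (θ : K →+* K) (t : K) : slMap θ (up t) = up (θ t) := by
  apply ext_mat
  ext i j
  rw [slMap_coe, up_coe, up_coe]
  fin_cases i <;> fin_cases j <;> simp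

theorem slMap_lo (θ : K →+* K) (t : K) : slMap θ (lo t) = lo (θ t) := by
  apply ext_mat
  ext i j
  rw [slMap_coe, lo_coe, lo_coe]
  fin_cases i <;> fin_cases j <;> simp

theorem slMap_we (θ : K →+* K) : slMap θ (we : SpecialLinearGroup (Fin 2) K) = we := by
  apply ext_mat
  ext i j
  rw [slMap_coe, we_coe]
  fin_cases i <;> fin_cases j <;> simp

theorem slMap_dg (θ : K →+* K) (l : Kˣ) : slMap θ (dg l) = dg (Units.map (θ : K →* K) l) := by
  apply ext_mat
  ext i j
  rw [slMap_coe, dg_coe, dg_coe]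
  fin_cases i <;> fin_cases j <;> simp

end sl

section chev

open Cfsg Cfsg.Lie

variable {K : Type*} [Field K] (D : ChevalleyDatum)

/-- the values of a homomorphism `SL₂(K) → GL` with `φ(up t) = x_r(t)`, `φ(lo t) = x_{-r}(t)` on the diagonal
elements: `φ(dg l) = h_r(l)` -/
theorem hom_dg (φ : SpecialLinearGroup (Fin 2) K →* GL D.Idx K) (r : ℕ)
    (hv : ∀ (g : SpecialLinearGroup (Fin 2) K) (t : K),
      ((g : Matrix (Fin 2) (Fin 2) K) = !![1, t; 0, 1] →
        ((φ g : GL D.Idx K) : Matrix D.Idx D.Idx K) = D.x K r t) ∧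
      ((g : Matrix (Fin 2) (Fin 2) K) = !![1, 0; t, 1] →
        ((φ g : GL D.Idx K) : Matrix D.Idx D.Idx K) = D.x K (D.neg r) t))
    (l : Kˣ) : ((φ (dg l) : GL D.Idx K) : Matrix D.Idx D.Idx K) = D.hMat K r (l : K) := by
  have hup : ∀ t : K, ((φ (up t) : GL D.Idx K) : Matrix D.Idx D.Idx K) = D.x K r t :=
    fun t => (hv (up t) t).1 (up_coe t)
  have hlo : ∀ t : K, ((φ (lo t) : GL D.Idx K) : Matrix D.Idx D.Idx K) = D.x K (D.neg r) t :=
    fun t => (hv (lo t) t).2 (lo_coe t)
  rw [dg_eq]
  simp only [map_mul, Units.val_mul, hup, hlo]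
  unfold ChevalleyDatum.hMat ChevalleyDatum.wordMat ChevalleyDatum.hWord ChevalleyDatum.nWord
  simp only [List.cons_append, List.nil_append, List.map_cons, List.map_nil, List.prod_cons, List.prod_nil,
    mul_one, mul_assoc, Units.val_inv_eq_inv_val, inv_neg, inv_one, neg_neg]

/-- `φ(we) = n_r(1)` -/
theorem hom_we (φ : SpecialLinearGroup (Fin 2) K →* GL D.Idx K) (r : ℕ)
    (hv : ∀ (g : SpecialLinearGroup (Fin 2) K) (t : K),
      ((g : Matrix (Fin 2) (Fin 2) K) = !![1, t; 0, 1] →
        ((φ g : GL D.Idx K) : Matrix D.Idx D.Idx K) = D.x K r t) ∧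
      ((g : Matrix (Fin 2) (Fin 2) K) = !![1, 0; t, 1] →
        ((φ g : GL D.Idx K) : Matrix D.Idx D.Idx K) = D.x K (D.neg r) t)) :
    ((φ we : GL D.Idx K) : Matrix D.Idx D.Idx K) = D.nMat K r 1 := by
  have hup : ∀ t : K, ((φ (up t) : GL D.Idx K) : Matrix D.Idx D.Idx K) = D.x K r t :=
    fun t => (hv (up t) t).1 (up_coe t)
  have hlo : ∀ t : K, ((φ (lo t) : GL D.Idx K) : Matrix D.Idx D.Idx K) = D.x K (D.neg r) t :=
    fun t => (hv (lo t) t).2 (lo_coe t)
  rw [we_eq]
  simp only [map_mul, Units.val_mul, hup, hlo]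
  unfold ChevalleyDatum.nMat ChevalleyDatum.wordMat ChevalleyDatum.nWord
  simp only [List.map_cons, List.map_nil, List.prod_cons, List.prod_nil, mul_one, mul_assoc, inv_one]

end chev

end Cfsg.Agent.Lib.Helper24_ReeCent_PHIcore
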