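import Mathlib
import Cfsg.Agent.Lib.Helper5_SteinbergE

/-!
The rank one Steinberg relations (A), (B') together with relation (C)
`h(t) h(u) = h(t u)`: the normal form over an arbitrary field.
-/

namespace Cfsg.Agent.Lib.Helper5_Steinberg3

open Cfsg.Agent.Lib.Helper5_SteinbergA

variable {K : Type*} [Field K] {G : Type*} [Group G] {X : Bool → K → G}

/-- relation (C) -/
def HMul (X : Bool → K → G) : Prop :=
  ∀ t u : K, t ≠ 0 → u ≠ 0 → hh X t * hh X u = hh X (t * u)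

theorem hh_neg_one_sq (h : Rel X) (hm : HMul X) : hh X (-1) * hh X (-1) = 1 := by
  rw [hm _ _ (by simp) (by simp), neg_one_mul, neg_neg, h.hh_one]

theorem w_sq (h : Rel X) (hm : HMul X) :
    W X true 1 * W X true 1 = hh X (-1) := by
  have e : hh X (-1) = (W X true 1)⁻¹ * (W X true 1)⁻¹ := by
    unfold hh; rw [h.W_inv true 1]
  have h2 := hh_neg_one_sq h hm
  have h3 : hh X (-1) = (hh X (-1))⁻¹ := eq_inv_of_mul_eq_one_left h2
  rw [h3, e, mul_inv_rev, inv_inv]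

theorem w_inv_eq (h : Rel X) (hm : HMul X) :
    (W X true 1)⁻¹ = W X true 1 * W X true 1 * W X true 1 := by
  have h2 := hh_neg_one_sq h hm
  rw [← w_sq h hm] at h2
  rw [inv_eq_iff_mul_eq_one]
  rw [← h2]; group

theorem wxw (h : Rel X) (hm : HMul X) {c : K} (hc : c ≠ 0) :
    W X true 1 * X true c * W X true 1 =
      X true (-c⁻¹) * hh X (-c⁻¹) * W X true 1 * X true (-c⁻¹) := by
  have hci : c⁻¹ ≠ 0 := inv_ne_zero hc
  have h1 : W X true 1 * X true c * W X true 1 =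
      (W X true 1 * X true c * (W X true 1)⁻¹) * (W X true 1 * W X true 1) := by group
  rw [h1, h.conjW_t one_ne_zero]
  have e : -((1 : K)⁻¹ ^ 2 * c) = -c := by simp
  rw [e, h.y_eq (neg_ne_zero.mpr hc)]
  have e2 : (-c)⁻¹ = -c⁻¹ := by rw [inv_neg]
  rw [e2, neg_neg]
  have e3 : W X true c⁻¹ = hh X c⁻¹ * W X true 1 := by unfold hh; group
  rw [e3, mul_assoc _ (X true (-c⁻¹)) _, ← h.w_sq_comm_x, w_sq h hm]
  have e4 : hh X (-c⁻¹) = hh X c⁻¹ * hh X (-1) := by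
    rw [hm _ _ hci (by simp)]; congr 1; ring
  rw [e4]
  have e5 := h.w_mul_hh (t := (-1 : K)) (by simp)
  have e6 : ((-1 : K))⁻¹ = -1 := by simp
  rw [e6] at e5
  calc X true (-c⁻¹) * (hh X c⁻¹ * W X true 1) * (hh X (-1) * X true (-c⁻¹))
      = X true (-c⁻¹) * hh X c⁻¹ * (W X true 1 * hh X (-1)) * X true (-c⁻¹) := by group
    _ = X true (-c⁻¹) * hh X c⁻¹ * (hh X (-1) * W X true 1) * X true (-c⁻¹) := by rw [e5]
    _ = _ := by group

theorem w_mul_nf (h : Rel X) (hm : HMul X) (s : (K × Kˣ) ⊕ (K × Kˣ × K)) :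
    W X true 1 * nf X s ∈ Set.range (nf X) := by
  rcases s with ⟨a, t⟩ | ⟨a, t, b⟩
  · refine ⟨Sum.inr (0, t⁻¹, (t : K)⁻¹ ^ 2 * a), ?_⟩
    simp only [nf]
    rw [h.X_zero, one_mul, Units.val_inv_eq_inv_val]
    have e1 := h.hh_mul_x t.ne_zero ((t : K)⁻¹ ^ 2 * a)
    have e2 : (t : K) ^ 2 * ((t : K)⁻¹ ^ 2 * a) = a := by
      have := t.ne_zero; field_simp
    rw [e2] at e1
    rw [← h.w_mul_hh t.ne_zero, mul_assoc (W X true 1), e1]
  · have e1 := h.hh_mul_x t.ne_zero ((t : K)⁻¹ ^ 2 * a)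
    have e2 : (t : K) ^ 2 * ((t : K)⁻¹ ^ 2 * a) = a := by
      have := t.ne_zero; field_simp
    rw [e2] at e1
    have e0 : W X true 1 * nf X (Sum.inr (a, t, b)) =
        hh X (t : K)⁻¹ * (W X true 1 * X true ((t : K)⁻¹ ^ 2 * a) * W X true 1) * X true b := by
      simp only [nf]
      rw [← e1]
      have := h.w_mul_hh t.ne_zero
      calc W X true 1 * (hh X ↑t * X true ((t : K)⁻¹ ^ 2 * a) * W X true 1 * X true b)
          = (W X true 1 * hh X ↑t) * X true ((t : K)⁻¹ ^ 2 * a) * W X true 1 * X true b := by group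
        _ = _ := by rw [this]; group
    rw [e0]
    by_cases ha : a = 0
    · subst ha
      rw [mul_zero, h.X_zero, mul_one, w_sq h hm]
      have hti : (t : K)⁻¹ ≠ 0 := inv_ne_zero t.ne_zero
      rw [hm _ _ hti (by simp)]
      have hne : (t : K)⁻¹ * -1 ≠ 0 := mul_ne_zero hti (by simp)
      refine ⟨Sum.inl (((t : K)⁻¹ * -1) ^ 2 * b, Units.mk0 _ hne), ?_⟩
      simp only [nf, Units.val_mk0]
      rw [h.hh_mul_x hne]
    · have hc : (t : K)⁻¹ ^ 2 * a ≠ 0 := mul_ne_zero (pow_ne_zero 2 (inv_ne_zero t.ne_zero)) ha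
      rw [wxw h hm hc]
      set c := (t : K)⁻¹ ^ 2 * a with hcdef
      have hti : (t : K)⁻¹ ≠ 0 := inv_ne_zero t.ne_zero
      have hci : -c⁻¹ ≠ 0 := neg_ne_zero.mpr (inv_ne_zero hc)
      have hne : (t : K)⁻¹ * -c⁻¹ ≠ 0 := mul_ne_zero hti hci
      refine ⟨Sum.inr ((t : K)⁻¹ ^ 2 * (-c⁻¹), Units.mk0 _ hne, -c⁻¹ + b), ?_⟩
      simp only [nf, Units.val_mk0]
      have e7 := h.hh_mul_x hti (-c⁻¹)
      rw [← hm _ _ hti hci, ← h.add, ← mul_assoc (X true _), ← e7]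
      group

theorem w_inv_mul_nf (h : Rel X) (hm : HMul X) (s : (K × Kˣ) ⊕ (K × Kˣ × K)) :
    (W X true 1)⁻¹ * nf X s ∈ Set.range (nf X) := by
  rw [w_inv_eq h hm]
  obtain ⟨s1, hs1⟩ := w_mul_nf h hm s
  obtain ⟨s2, hs2⟩ := w_mul_nf h hm s1
  obtain ⟨s3, hs3⟩ := w_mul_nf h hm s2
  refine ⟨s3, ?_⟩
  rw [hs3, hs2, hs1]; group

theorem y_mul_nf (h : Rel X) (hm : HMul X) (c : K) (s : (K × Kˣ) ⊕ (K × Kˣ × K)) :
    X false c * nf X s ∈ Set.range (nf X) := by
  have e : X false c = W X true 1 * X true (-c) * (W X true 1)⁻¹ := by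
    rw [h.conjW_t one_ne_zero]; congr 1; simp
  obtain ⟨s1, hs1⟩ := w_inv_mul_nf h hm s
  obtain ⟨s2, hs2⟩ := h.x_mul_nf (-c) s1
  obtain ⟨s3, hs3⟩ := w_mul_nf h hm s2
  refine ⟨s3, ?_⟩
  rw [hs3, hs2, hs1, e]; group

theorem nf_surjective (h : Rel X) (hm : HMul X) (hg : Gen X) : Function.Surjective (nf X) := by
  have key : ∀ g : G, g ∈ Subgroup.closure (Set.range fun p : Bool × K => X p.1 p.2) →
      ∀ s, g * nf X s ∈ Set.range (nf X) := by
    intro g hgm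
    induction hgm using Subgroup.closure_induction'' with
    | one => intro s; rw [one_mul]; exact ⟨s, rfl⟩
    | mem x hx =>
      obtain ⟨⟨b, v⟩, rfl⟩ := hx
      intro s
      cases b
      · exact y_mul_nf h hm v s
      · exact h.x_mul_nf v s
    | inv_mem x hx =>
      obtain ⟨⟨b, v⟩, rfl⟩ := hx
      intro s
      simp only
      rw [h.X_inv]
      cases b
      · exact y_mul_nf h hm (-v) s
      · exact h.x_mul_nf (-v) s
    | mul x y _ _ hx hy =>
      intro s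
      obtain ⟨s1, hs1⟩ := hy s
      obtain ⟨s2, hs2⟩ := hx s1
      exact ⟨s2, by rw [hs2, hs1, mul_assoc]⟩
  intro g
  have hgm : g ∈ Subgroup.closure (Set.range fun p : Bool × K => X p.1 p.2) := by
    rw [hg]; exact Subgroup.mem_top g
  obtain ⟨s, hs⟩ := key g hgm (Sum.inl (0, 1))
  refine ⟨s, ?_⟩
  rw [hs]
  simp only [nf, Units.val_one]
  rw [h.X_zero, h.hh_one, mul_one, mul_one]

/-! ### functoriality -/

variable {G' : Type*} [Group G']

theorem map_W (f : G →* G') (X : Bool → K → G) (b : Bool) (t : K) :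
    f (W X b t) = W (fun b a => f (X b a)) b t := by
  unfold W; simp only [map_mul]

theorem map_hh (f : G →* G') (X : Bool → K → G) (t : K) :
    f (hh X t) = hh (fun b a => f (X b a)) t := by
  unfold hh; rw [map_mul, map_inv, map_W, map_W]

theorem map_nf (f : G →* G') (X : Bool → K → G) (s : (K × Kˣ) ⊕ (K × Kˣ × K)) :
    f (nf X s) = nf (fun b a => f (X b a)) s := by
  rcases s with ⟨a, t⟩ | ⟨a, t, b⟩ <;> simp only [nf, map_mul, map_hh, map_W]

end Cfsg.Agent.Lib.Helper5_Steinberg3
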