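import Mathlib
import Cfsg.Agent.Lib.Helper5_Steinberg3A
import Cfsg.Agent.Lib.Helper5_SLPresA

/-!
The presentation of `SL₂(K)` by the relations (A), (B'), (C) over an arbitrary field `K`,
and the resulting universal property.
-/

namespace Cfsg.Agent.Lib.Helper5_Steinberg3

open Matrix Cfsg.Agent.Lib.Helper5_SteinbergA

variable {K : Type*} [Field K]

/-- the matrix generators as a function of two arguments -/
def mxf (b : Bool) (a : K) : Matrix.SpecialLinearGroup (Fin 2) K := mx (b, a)

theorem mxf_true (t : K) : (mxf true t : Matrix (Fin 2) (Fin 2) K) = !![1, t; 0, 1] := rfl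

theorem mxf_false (t : K) : (mxf false t : Matrix (Fin 2) (Fin 2) K) = !![1, 0; t, 1] := rfl

theorem rel_mxf : Rel (mxf (K := K)) :=
  ⟨fun b t u => mx_add b t u, fun b t u ht => by
    rw [mul_inv_eq_iff_eq_mul]; exact mx_conj b ht u⟩

theorem W_mxf {t : K} (ht : t ≠ 0) :
    ((W (mxf (K := K)) true t : Matrix.SpecialLinearGroup (Fin 2) K) : Matrix (Fin 2) (Fin 2) K) = !![0, t; -t⁻¹, 0] := by
  unfold W
  simp only [Bool.not_true, Matrix.SpecialLinearGroup.coe_mul, mxf_true, mxf_false, Matrix.mul_fin_two]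
  congr 1
  ext i j
  fin_cases i <;> fin_cases j <;>
  · simp only [Fin.zero_eta, Fin.mk_one, Fin.isValue, cons_val', cons_val_zero, cons_val_one,
      cons_val_fin_one]
    (try field_simp) <;> (try ring)

theorem hh_mxf {t : K} (ht : t ≠ 0) :
    ((hh (mxf (K := K)) t : Matrix.SpecialLinearGroup (Fin 2) K) : Matrix (Fin 2) (Fin 2) K) = !![t, 0; 0, t⁻¹] := by
  unfold hh
  rw [rel_mxf.W_inv, Matrix.SpecialLinearGroup.coe_mul, W_mxf ht, W_mxf (neg_ne_zero.mpr one_ne_zero),
    Matrix.mul_fin_two]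
  congr 1
  ext i j
  fin_cases i <;> fin_cases j <;>
  · simp only [Fin.zero_eta, Fin.mk_one, Fin.isValue, cons_val', cons_val_zero, cons_val_one,
      cons_val_fin_one]
    (try field_simp) <;> (try ring)

theorem hmul_mxf : HMul (mxf (K := K)) := by
  intro t u ht hu
  apply Subtype.ext
  rw [Matrix.SpecialLinearGroup.coe_mul, hh_mxf ht, hh_mxf hu, hh_mxf (mul_ne_zero ht hu),
    Matrix.mul_fin_two]
  congr 1
  ext i j
  fin_cases i <;> fin_cases j <;>
  · simp only [Fin.zero_eta, Fin.mk_one, Fin.isValue, cons_val', cons_val_zero, cons_val_one,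
      cons_val_fin_one]
    (try field_simp) <;> (try ring)

theorem nf_mxf_inl (a : K) (t : Kˣ) :
    ((nf (mxf (K := K)) (Sum.inl (a, t)) : Matrix.SpecialLinearGroup (Fin 2) K) : Matrix (Fin 2) (Fin 2) K) =
      !![(t : K), a * (t : K)⁻¹; 0, (t : K)⁻¹] := by
  simp only [nf]
  rw [Matrix.SpecialLinearGroup.coe_mul, hh_mxf t.ne_zero, mxf_true, Matrix.mul_fin_two]
  congr 1
  ext i j
  fin_cases i <;> fin_cases j <;>
  · simp only [Fin.zero_eta, Fin.mk_one, Fin.isValue, cons_val', cons_val_zero, cons_val_one,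
      cons_val_fin_one]
    (try ring)

theorem nf_mxf_inr (a : K) (t : Kˣ) (b : K) :
    ((nf (mxf (K := K)) (Sum.inr (a, t, b)) : Matrix.SpecialLinearGroup (Fin 2) K) : Matrix (Fin 2) (Fin 2) K) =
      !![-(a * (t : K)⁻¹), -(a * (t : K)⁻¹ * b) + (t : K); -(t : K)⁻¹, -((t : K)⁻¹ * b)] := by
  simp only [nf]
  rw [Matrix.SpecialLinearGroup.coe_mul, Matrix.SpecialLinearGroup.coe_mul,
    Matrix.SpecialLinearGroup.coe_mul, hh_mxf t.ne_zero, W_mxf one_ne_zero, mxf_true, mxf_true]
  simp only [Matrix.mul_fin_two]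
  congr 1
  ext i j
  fin_cases i <;> fin_cases j <;>
  · simp only [Fin.zero_eta, Fin.mk_one, Fin.isValue, cons_val', cons_val_zero, cons_val_one,
      cons_val_fin_one]
    (try simp) <;> (try ring)

theorem nf_mxf_injective : Function.Injective (nf (mxf (K := K))) := by
  intro s s' hss
  have hm : ((nf (mxf (K := K)) s : Matrix.SpecialLinearGroup (Fin 2) K) : Matrix (Fin 2) (Fin 2) K) =
      ((nf (mxf (K := K)) s' : Matrix.SpecialLinearGroup (Fin 2) K) : Matrix (Fin 2) (Fin 2) K) := by
    rw [hss]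
  rcases s with ⟨a, t⟩ | ⟨a, t, b⟩ <;> rcases s' with ⟨a', t'⟩ | ⟨a', t', b'⟩
  · rw [nf_mxf_inl, nf_mxf_inl] at hm
    have h00 := congrFun (congrFun hm 0) 0
    have h01 := congrFun (congrFun hm 0) 1
    simp only [Fin.isValue, of_apply, cons_val', cons_val_zero, cons_val_one, cons_val_fin_one] at h00 h01
    have ht : t = t' := Units.ext h00
    subst ht
    have ha : a = a' := by
      have := t.ne_zero
      field_simp at h01
      exact h01
    rw [ha]
  · exfalso
    rw [nf_mxf_inl, nf_mxf_inr] at hm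
    have h10 := congrFun (congrFun hm 1) 0
    simp only [Fin.isValue, of_apply, cons_val', cons_val_zero, cons_val_one, cons_val_fin_one] at h10
    have := inv_ne_zero t'.ne_zero
    exact this (neg_eq_zero.mp h10.symm)
  · exfalso
    rw [nf_mxf_inl, nf_mxf_inr] at hm
    have h10 := congrFun (congrFun hm 1) 0
    simp only [Fin.isValue, of_apply, cons_val', cons_val_zero, cons_val_one, cons_val_fin_one] at h10
    have := inv_ne_zero t.ne_zero
    exact this (neg_eq_zero.mp h10)
  · rw [nf_mxf_inr, nf_mxf_inr] at hm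
    have h00 := congrFun (congrFun hm 0) 0
    have h10 := congrFun (congrFun hm 1) 0
    have h11 := congrFun (congrFun hm 1) 1
    simp only [Fin.isValue, of_apply, cons_val', cons_val_zero, cons_val_one, cons_val_fin_one] at h00 h10 h11
    have ht : t = t' := by
      apply Units.ext
      have := neg_injective h10
      exact inv_injective this
    subst ht
    have hti := inv_ne_zero t.ne_zero
    have ha : a = a' := by
      have := neg_injective h00
      exact mul_right_cancel₀ hti this
    have hb : b = b' := by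
      have := neg_injective h11
      exact mul_left_cancel₀ hti this
    rw [ha, hb]

/-! ### the presented group -/

/-- the free generators -/
def fgen (K : Type*) [Field K] (b : Bool) (a : K) : FreeGroup (Bool × K) := FreeGroup.of (b, a)

/-- the relators (A), (B'), (C) -/
def relators3 (K : Type*) [Field K] : Set (FreeGroup (Bool × K)) :=
  relators K ∪ {g | ∃ t u : K, t ≠ 0 ∧ u ≠ 0 ∧
    g = hh (fgen K) t * hh (fgen K) u * (hh (fgen K) (t * u))⁻¹}

variable {G : Type*} [Group G]

theorem lift_fgen (X : Bool → K → G) :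
    (fun b a => FreeGroup.lift (fun p : Bool × K => X p.1 p.2) (fgen K b a)) = X := by
  funext b a
  unfold fgen
  rw [FreeGroup.lift_apply_of]

theorem lift_relators3 {X : Bool → K → G} (h : Rel X) (hm : HMul X) :
    ∀ r ∈ relators3 K, FreeGroup.lift (fun p : Bool × K => X p.1 p.2) r = 1 := by
  rintro r (hr | ⟨t, u, ht, hu, rfl⟩)
  · exact Cfsg.Agent.Lib.Helper5_SLPresA.lift_relators_of_rel h r hr
  · rw [map_mul, map_mul, map_inv, map_hh, map_hh, map_hh, lift_fgen, hm t u ht hu, mul_inv_cancel]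

/-- the generators of the presented group -/
def XX3 (K : Type*) [Field K] (b : Bool) (t : K) : PresentedGroup (relators3 K) :=
  PresentedGroup.of (b, t)

theorem mk_fgen :
    (fun b a => PresentedGroup.mk (relators3 K) (fgen K b a)) = XX3 K := by
  funext b a
  rfl

theorem rel_XX3 : Rel (XX3 K) := by
  constructor
  · intro b t u
    have h1 : (PresentedGroup.mk (relators3 K)) (FreeGroup.of (b, t) * FreeGroup.of (b, u) * (FreeGroup.of (b, t + u))⁻¹) = 1 :=
      PresentedGroup.one_of_mem (Or.inl (Or.inl ⟨b, t, u, rfl⟩))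
    rw [map_mul, map_mul, map_inv, mul_inv_eq_one] at h1
    exact h1
  · intro b t u ht
    have h1 : (PresentedGroup.mk (relators3 K)) ((FreeGroup.of (b, t) * FreeGroup.of (!b, -t⁻¹) * FreeGroup.of (b, t)) * FreeGroup.of (b, u) *
                  (FreeGroup.of (b, t) * FreeGroup.of (!b, -t⁻¹) * FreeGroup.of (b, t))⁻¹ * (FreeGroup.of (!b, -(t⁻¹ ^ 2 * u)))⁻¹) = 1 :=
      PresentedGroup.one_of_mem (Or.inl (Or.inr ⟨b, t, u, ht, rfl⟩))
    simp only [map_mul, map_inv] at h1
    rw [mul_inv_eq_one] at h1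
    exact h1

theorem hmul_XX3 : HMul (XX3 K) := by
  intro t u ht hu
  have h1 : (PresentedGroup.mk (relators3 K))
      (hh (fgen K) t * hh (fgen K) u * (hh (fgen K) (t * u))⁻¹) = 1 :=
    PresentedGroup.one_of_mem (Or.inr ⟨t, u, ht, hu, rfl⟩)
  rw [map_mul, map_mul, map_inv, map_hh, map_hh, map_hh, mk_fgen, mul_inv_eq_one] at h1
  exact h1

theorem gen_XX3 : Gen (XX3 K) := by
  unfold Gen
  have : (fun p : Bool × K => XX3 K p.1 p.2) = PresentedGroup.of := by
    funext p; rfl
  rw [this]
  exact PresentedGroup.closure_range_of _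

/-- the natural map -/
def proj3 (K : Type*) [Field K] :
    PresentedGroup (relators3 K) →* Matrix.SpecialLinearGroup (Fin 2) K :=
  PresentedGroup.toGroup (lift_relators3 rel_mxf hmul_mxf)

theorem proj3_of (b : Bool) (a : K) : proj3 K (PresentedGroup.of (b, a)) = mxf b a :=
  PresentedGroup.toGroup.of (lift_relators3 rel_mxf hmul_mxf)

theorem proj3_XX3 : (fun b a => proj3 K (XX3 K b a)) = mxf := by
  funext b a
  exact proj3_of b a

theorem proj3_bijective : Function.Bijective (proj3 K) := by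
  constructor
  · intro g g' hgg
    obtain ⟨s, rfl⟩ := nf_surjective rel_XX3 hmul_XX3 (gen_XX3 (K := K)) g
    obtain ⟨s', rfl⟩ := nf_surjective rel_XX3 hmul_XX3 (gen_XX3 (K := K)) g'
    rw [map_nf, map_nf, proj3_XX3] at hgg
    rw [nf_mxf_injective hgg]
  · rw [← MonoidHom.range_eq_top, eq_top_iff, ← Cfsg.Agent.Lib.Helper5_SLPresA.closure_mx,
      Subgroup.closure_le]
    rintro _ ⟨⟨b, a⟩, rfl⟩
    exact ⟨PresentedGroup.of (b, a), proj3_of b a⟩

/-- the universal property of `SL₂(K)` over an arbitrary field -/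
theorem exists_hom_of_rel3 {X : Bool → K → G} (h : Rel X) (hm : HMul X) :
    ∃ Φ : Matrix.SpecialLinearGroup (Fin 2) K →* G, ∀ b a, Φ (mx (b, a)) = X b a := by
  let e : PresentedGroup (relators3 K) ≃* Matrix.SpecialLinearGroup (Fin 2) K :=
    MulEquiv.ofBijective (proj3 K) proj3_bijective
  refine ⟨(PresentedGroup.toGroup (lift_relators3 h hm)).comp e.symm.toMonoidHom, ?_⟩
  intro b a
  have h1 : e.symm (mx (b, a)) = PresentedGroup.of (b, a) := by
    rw [MulEquiv.symm_apply_eq]
    exact (proj3_of b a).symm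
  rw [MonoidHom.comp_apply]
  show (PresentedGroup.toGroup (lift_relators3 h hm)) (e.symm (mx (b, a))) = X b a
  rw [h1, PresentedGroup.toGroup.of]

end Cfsg.Agent.Lib.Helper5_Steinberg3
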