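import Cfsg.Agent.Lib.Helper5_ChevSL2
import Cfsg.Agent.Lib.Helper5_Steinberg3B

set_option autoImplicit false

/-!
The homomorphism `SL₂(F) → GL` onto `⟨X_r, X_{-r}⟩`, from the relations (A), (B), (C).
-/

namespace Cfsg.Agent.Lib.Helper5_ChevSL2

open Cfsg Cfsg.Lie Cfsg.Agent.Lib.Helper36_ChevCoeff Cfsg.Agent.Lib.Helper36_ChevAdd
  Cfsg.Agent.Lib.Helper36_ChevHAll Cfsg.Agent.Lib.Helper5_SteinbergA Cfsg.Agent.Lib.Helper5_Steinberg3

variable (D : ChevalleyDatum)

section
variable (hlen : ChainLenOK D) (hadd : AddOK D) (F : Type*) [Field F]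

/-- the two root subgroups as a function `Bool → F → GL` -/
noncomputable def XG (r : ℕ) (b : Bool) (t : F) : GL D.Idx F :=
  if b then xGL D hlen hadd F r t else xGL D hlen hadd F (D.neg r) t

theorem XG_true (r : ℕ) (t : F) :
    ((XG D hlen hadd F r true t : GL D.Idx F) : Matrix D.Idx D.Idx F) = D.x F r t := by
  unfold XG
  rw [if_pos rfl, xGL_coe]

theorem XG_false (r : ℕ) (t : F) :
    ((XG D hlen hadd F r false t : GL D.Idx F) : Matrix D.Idx D.Idx F) = D.x F (D.neg r) t := by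
  unfold XG
  rw [if_neg (by simp), xGL_coe]

theorem W_XG_true (r : ℕ) (t : F) :
    ((W (XG D hlen hadd F r) true t : GL D.Idx F) : Matrix D.Idx D.Idx F) = D.nMat F r t := by
  unfold W
  rw [Units.val_mul, Units.val_mul, XG_true, Bool.not_true, XG_false, nMat_eq_prod, Matrix.mul_assoc]

theorem W_XG_false (r : ℕ) (hnn : D.neg (D.neg r) = r) (t : F) :
    ((W (XG D hlen hadd F r) false t : GL D.Idx F) : Matrix D.Idx D.Idx F) = D.nMat F (D.neg r) t := by
  unfold W
  rw [Units.val_mul, Units.val_mul, XG_false, Bool.not_false, XG_true, nMat_eq_prod, Matrix.mul_assoc, hnn]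

theorem rel_XG (r : ℕ) (hnn : D.neg (D.neg r) = r) (hB : GoodB D F r) (hB' : GoodB D F (D.neg r)) :
    Rel (XG D hlen hadd F r) := by
  constructor
  · intro b t u
    apply Units.ext
    rw [Units.val_mul]
    cases b
    · rw [XG_false, XG_false, XG_false, x_add D hlen hadd]
    · rw [XG_true, XG_true, XG_true, x_add D hlen hadd]
  · intro b t u ht
    rw [mul_inv_eq_iff_eq_mul]
    have hW : ∀ b : Bool, XG D hlen hadd F r b t * XG D hlen hadd F r (!b) (-t⁻¹) * XG D hlen hadd F r b t =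
        W (XG D hlen hadd F r) b t := fun _ => rfl
    rw [hW]
    apply Units.ext
    rw [Units.val_mul, Units.val_mul]
    cases b
    · rw [W_XG_false D hlen hadd F r hnn, XG_false, Bool.not_false, XG_true, hB'.2.2 t u ht, hnn]
    · rw [W_XG_true, XG_true, Bool.not_true, XG_false, hB.2.2 t u ht]

theorem hh_XG (r : ℕ) (h : Rel (XG D hlen hadd F r)) (t : F) :
    ((hh (XG D hlen hadd F r) t : GL D.Idx F) : Matrix D.Idx D.Idx F) = D.hMat F r t := by
  unfold hh
  rw [h.W_inv, Units.val_mul, W_XG_true, W_XG_true, hMat_eq]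

theorem hmul_XG (r : ℕ) (h : Rel (XG D hlen hadd F r))
    (hH : ∀ t₁ t₂ : F, t₁ ≠ 0 → t₂ ≠ 0 → D.hMat F r t₁ * D.hMat F r t₂ = D.hMat F r (t₁ * t₂)) :
    HMul (XG D hlen hadd F r) := by
  intro t u ht hu
  apply Units.ext
  rw [Units.val_mul, hh_XG D hlen hadd F r h, hh_XG D hlen hadd F r h, hh_XG D hlen hadd F r h, hH t u ht hu]

include hlen hadd in
/-- the homomorphism -/
theorem exists_sl2_hom (r : ℕ) (hnn : D.neg (D.neg r) = r) (hB : GoodB D F r) (hB' : GoodB D F (D.neg r))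
    (hH : ∀ t₁ t₂ : F, t₁ ≠ 0 → t₂ ≠ 0 → D.hMat F r t₁ * D.hMat F r t₂ = D.hMat F r (t₁ * t₂)) :
    ∃ φ : Matrix.SpecialLinearGroup (Fin 2) F →* GL D.Idx F,
      φ.range = D.rootSubgroup F r ⊔ D.rootSubgroup F (D.neg r) ∧
      ∀ (g : Matrix.SpecialLinearGroup (Fin 2) F) (t : F),
        ((g : Matrix (Fin 2) (Fin 2) F) = !![1, t; 0, 1] →
          ((φ g : GL D.Idx F) : Matrix D.Idx D.Idx F) = D.x F r t) ∧
        ((g : Matrix (Fin 2) (Fin 2) F) = !![1, 0; t, 1] →
          ((φ g : GL D.Idx F) : Matrix D.Idx D.Idx F) = D.x F (D.neg r) t) := by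
  have hrel := rel_XG D hlen hadd F r hnn hB hB'
  have hmul := hmul_XG D hlen hadd F r hrel hH
  obtain ⟨φ, hφ⟩ := exists_hom_of_rel3 hrel hmul
  refine ⟨φ, ?_, ?_⟩
  · rw [MonoidHom.range_eq_map, ← Cfsg.Agent.Lib.Helper5_SLPresA.closure_mx, MonoidHom.map_closure]
    unfold ChevalleyDatum.rootSubgroup
    rw [← Subgroup.closure_union]
    congr 1
    ext g
    constructor
    · rintro ⟨_, ⟨⟨b, a⟩, rfl⟩, rfl⟩
      rw [hφ]
      cases b
      · exact Or.inr ⟨a, XG_false D hlen hadd F r a⟩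
      · exact Or.inl ⟨a, XG_true D hlen hadd F r a⟩
    · rintro (⟨a, ha⟩ | ⟨a, ha⟩)
      · refine ⟨mx (true, a), ⟨(true, a), rfl⟩, ?_⟩
        rw [hφ]
        apply Units.ext
        rw [XG_true, ha]
      · refine ⟨mx (false, a), ⟨(false, a), rfl⟩, ?_⟩
        rw [hφ]
        apply Units.ext
        rw [XG_false, ha]
  · intro g t
    constructor
    · intro hg
      have : g = mx (true, t) := Subtype.ext hg
      rw [this, hφ, XG_true]
    · intro hg
      have : g = mx (false, t) := Subtype.ext hg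
      rw [this, hφ, XG_false]

end

end Cfsg.Agent.Lib.Helper5_ChevSL2
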