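import Cfsg.Agent.Lib.Helper36_ChevDataG2HA
import Cfsg.Agent.Lib.Helper36_ChevDataG2CA
import Cfsg.Agent.Lib.Helper36_ChevDataB2HA
import Cfsg.Agent.Lib.Helper36_ChevDataB2CA
import Cfsg.Agent.Lib.Helper36_ChevDataD4HA
import Cfsg.Agent.Lib.Helper36_ChevDataD4CA
import Cfsg.Agent.Lib.Helper36_ChevDataF4HA
import Cfsg.Agent.Lib.Helper36_ChevDataF4CA
import Cfsg.Agent.Lib.Helper36_ChevDataE6HA
import Cfsg.Agent.Lib.Helper36_ChevDataE6CA
import Cfsg.Agent.Lib.Helper36_ChevDataE7HA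
import Cfsg.Agent.Lib.Helper36_ChevDataE7CA
import Cfsg.Agent.Lib.Helper36_ChevDataE8HA
import Cfsg.Agent.Lib.Helper36_ChevDataE8CA
import Cfsg.Agent.Lib.Helper5_ChevSL2Hom

set_option autoImplicit false

/-!
Relation (B) for all roots of the seven tabulated Chevalley data, and the homomorphism from `SL₂`.
-/

namespace Cfsg.Agent.Lib.Helper5_ChevSL2

open Cfsg Cfsg.Lie Cfsg.Agent.Lib.Helper36_ChevHAll Cfsg.Agent.Lib.Helper36_ChevTables

theorem fundB_G2 : FundB chevG2 Cfsg.Agent.Lib.Helper36_ChevDataG2Eta.etaTable := by decide +kernel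

theorem negneg_G2 : ∀ r < chevG2.nroots, chevG2.neg (chevG2.neg r) = r := by decide +kernel

theorem neglt_G2 : ∀ r < chevG2.nroots, chevG2.neg r < chevG2.nroots := by decide +kernel

theorem goodB_G2 (F : Type*) [Field F] (r : ℕ) (hr : r < chevG2.nroots) : GoodB chevG2 F r :=
  goodB_all chevG2 Cfsg.Agent.Lib.Helper36_ChevDataG2.lenOK Cfsg.Agent.Lib.Helper36_ChevDataG2.addOK Cfsg.Agent.Lib.Helper36_ChevDataG2.simpleOK Cfsg.Agent.Lib.Helper36_ChevDataG2.nLits Cfsg.Agent.Lib.Helper36_ChevDataG2.nLitOK F 12 chainOK_G2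
    Cfsg.Agent.Lib.Helper36_ChevDataG2CA.cartanAddOK 12 Cfsg.Agent.Lib.Helper36_ChevDataG2H.hOK Cfsg.Agent.Lib.Helper36_ChevDataG2Eta.etaTable Cfsg.Agent.Lib.Helper36_ChevDataG2HA.fundOK fundB_G2
    Cfsg.Agent.Lib.Helper36_ChevDataG2.tree Cfsg.Agent.Lib.Helper36_ChevDataG2.pairsOK Cfsg.Agent.Lib.Helper36_ChevDataG2HA.treeSym Cfsg.Agent.Lib.Helper36_ChevDataG2.reachOK r hr

theorem hom_G2 (F : Type*) [Field F] (r : ℕ) (hr : r < chevG2.nroots) :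
    ∃ φ : Matrix.SpecialLinearGroup (Fin 2) F →* GL chevG2.Idx F,
      φ.range = chevG2.rootSubgroup F r ⊔ chevG2.rootSubgroup F (chevG2.neg r) ∧
      ∀ (g : Matrix.SpecialLinearGroup (Fin 2) F) (t : F),
        ((g : Matrix (Fin 2) (Fin 2) F) = !![1, t; 0, 1] →
          ((φ g : GL chevG2.Idx F) : Matrix chevG2.Idx chevG2.Idx F) = chevG2.x F r t) ∧
        ((g : Matrix (Fin 2) (Fin 2) F) = !![1, 0; t, 1] →
          ((φ g : GL chevG2.Idx F) : Matrix chevG2.Idx chevG2.Idx F) = chevG2.x F (chevG2.neg r) t) :=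
  exists_sl2_hom chevG2 Cfsg.Agent.Lib.Helper36_ChevDataG2.lenOK Cfsg.Agent.Lib.Helper36_ChevDataG2.addOK F r (negneg_G2 r hr) (goodB_G2 F r hr)
    (goodB_G2 F _ (neglt_G2 r hr)) (Cfsg.Agent.Lib.Helper36_ChevDataG2HA.goodH F r hr).2.2.2

theorem fundB_B2 : FundB chevB2 Cfsg.Agent.Lib.Helper36_ChevDataB2Eta.etaTable := by decide +kernel

theorem negneg_B2 : ∀ r < chevB2.nroots, chevB2.neg (chevB2.neg r) = r := by decide +kernel

theorem neglt_B2 : ∀ r < chevB2.nroots, chevB2.neg r < chevB2.nroots := by decide +kernel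

theorem goodB_B2 (F : Type*) [Field F] (r : ℕ) (hr : r < chevB2.nroots) : GoodB chevB2 F r :=
  goodB_all chevB2 Cfsg.Agent.Lib.Helper36_ChevDataB2.lenOK Cfsg.Agent.Lib.Helper36_ChevDataB2.addOK Cfsg.Agent.Lib.Helper36_ChevDataB2.simpleOK Cfsg.Agent.Lib.Helper36_ChevDataB2.nLits Cfsg.Agent.Lib.Helper36_ChevDataB2.nLitOK F 12 chainOK_B2
    Cfsg.Agent.Lib.Helper36_ChevDataB2CA.cartanAddOK 12 Cfsg.Agent.Lib.Helper36_ChevDataB2H.hOK Cfsg.Agent.Lib.Helper36_ChevDataB2Eta.etaTable Cfsg.Agent.Lib.Helper36_ChevDataB2HA.fundOK fundB_B2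
    Cfsg.Agent.Lib.Helper36_ChevDataB2.tree Cfsg.Agent.Lib.Helper36_ChevDataB2.pairsOK Cfsg.Agent.Lib.Helper36_ChevDataB2HA.treeSym Cfsg.Agent.Lib.Helper36_ChevDataB2.reachOK r hr

theorem hom_B2 (F : Type*) [Field F] (r : ℕ) (hr : r < chevB2.nroots) :
    ∃ φ : Matrix.SpecialLinearGroup (Fin 2) F →* GL chevB2.Idx F,
      φ.range = chevB2.rootSubgroup F r ⊔ chevB2.rootSubgroup F (chevB2.neg r) ∧
      ∀ (g : Matrix.SpecialLinearGroup (Fin 2) F) (t : F),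
        ((g : Matrix (Fin 2) (Fin 2) F) = !![1, t; 0, 1] →
          ((φ g : GL chevB2.Idx F) : Matrix chevB2.Idx chevB2.Idx F) = chevB2.x F r t) ∧
        ((g : Matrix (Fin 2) (Fin 2) F) = !![1, 0; t, 1] →
          ((φ g : GL chevB2.Idx F) : Matrix chevB2.Idx chevB2.Idx F) = chevB2.x F (chevB2.neg r) t) :=
  exists_sl2_hom chevB2 Cfsg.Agent.Lib.Helper36_ChevDataB2.lenOK Cfsg.Agent.Lib.Helper36_ChevDataB2.addOK F r (negneg_B2 r hr) (goodB_B2 F r hr)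
    (goodB_B2 F _ (neglt_B2 r hr)) (Cfsg.Agent.Lib.Helper36_ChevDataB2HA.goodH F r hr).2.2.2

theorem fundB_D4 : FundB chevD4 Cfsg.Agent.Lib.Helper36_ChevDataD4Eta.etaTable := by decide +kernel

theorem negneg_D4 : ∀ r < chevD4.nroots, chevD4.neg (chevD4.neg r) = r := by decide +kernel

theorem neglt_D4 : ∀ r < chevD4.nroots, chevD4.neg r < chevD4.nroots := by decide +kernel

theorem goodB_D4 (F : Type*) [Field F] (r : ℕ) (hr : r < chevD4.nroots) : GoodB chevD4 F r :=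
  goodB_all chevD4 Cfsg.Agent.Lib.Helper36_ChevDataD4.lenOK Cfsg.Agent.Lib.Helper36_ChevDataD4.addOK Cfsg.Agent.Lib.Helper36_ChevDataD4.simpleOK Cfsg.Agent.Lib.Helper36_ChevDataD4.nLits Cfsg.Agent.Lib.Helper36_ChevDataD4.nLitOK F 12 chainOK_D4
    Cfsg.Agent.Lib.Helper36_ChevDataD4CA.cartanAddOK 12 Cfsg.Agent.Lib.Helper36_ChevDataD4H.hOK Cfsg.Agent.Lib.Helper36_ChevDataD4Eta.etaTable Cfsg.Agent.Lib.Helper36_ChevDataD4HA.fundOK fundB_D4
    Cfsg.Agent.Lib.Helper36_ChevDataD4.tree Cfsg.Agent.Lib.Helper36_ChevDataD4.pairsOK Cfsg.Agent.Lib.Helper36_ChevDataD4HA.treeSym Cfsg.Agent.Lib.Helper36_ChevDataD4.reachOK r hr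

theorem hom_D4 (F : Type*) [Field F] (r : ℕ) (hr : r < chevD4.nroots) :
    ∃ φ : Matrix.SpecialLinearGroup (Fin 2) F →* GL chevD4.Idx F,
      φ.range = chevD4.rootSubgroup F r ⊔ chevD4.rootSubgroup F (chevD4.neg r) ∧
      ∀ (g : Matrix.SpecialLinearGroup (Fin 2) F) (t : F),
        ((g : Matrix (Fin 2) (Fin 2) F) = !![1, t; 0, 1] →
          ((φ g : GL chevD4.Idx F) : Matrix chevD4.Idx chevD4.Idx F) = chevD4.x F r t) ∧
        ((g : Matrix (Fin 2) (Fin 2) F) = !![1, 0; t, 1] →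
          ((φ g : GL chevD4.Idx F) : Matrix chevD4.Idx chevD4.Idx F) = chevD4.x F (chevD4.neg r) t) :=
  exists_sl2_hom chevD4 Cfsg.Agent.Lib.Helper36_ChevDataD4.lenOK Cfsg.Agent.Lib.Helper36_ChevDataD4.addOK F r (negneg_D4 r hr) (goodB_D4 F r hr)
    (goodB_D4 F _ (neglt_D4 r hr)) (Cfsg.Agent.Lib.Helper36_ChevDataD4HA.goodH F r hr).2.2.2

theorem fundB_F4 : FundB chevF4 Cfsg.Agent.Lib.Helper36_ChevDataF4Eta.etaTable := by decide +kernel

theorem negneg_F4 : ∀ r < chevF4.nroots, chevF4.neg (chevF4.neg r) = r := by decide +kernel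

theorem neglt_F4 : ∀ r < chevF4.nroots, chevF4.neg r < chevF4.nroots := by decide +kernel

theorem goodB_F4 (F : Type*) [Field F] (r : ℕ) (hr : r < chevF4.nroots) : GoodB chevF4 F r :=
  goodB_all chevF4 Cfsg.Agent.Lib.Helper36_ChevDataF4.lenOK Cfsg.Agent.Lib.Helper36_ChevDataF4.addOK Cfsg.Agent.Lib.Helper36_ChevDataF4.simpleOK Cfsg.Agent.Lib.Helper36_ChevDataF4.nLits Cfsg.Agent.Lib.Helper36_ChevDataF4.nLitOK F 12 chainOK_F4
    Cfsg.Agent.Lib.Helper36_ChevDataF4CA.cartanAddOK 12 Cfsg.Agent.Lib.Helper36_ChevDataF4H.hOK Cfsg.Agent.Lib.Helper36_ChevDataF4Eta.etaTable Cfsg.Agent.Lib.Helper36_ChevDataF4HA.fundOK fundB_F4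
    Cfsg.Agent.Lib.Helper36_ChevDataF4.tree Cfsg.Agent.Lib.Helper36_ChevDataF4.pairsOK Cfsg.Agent.Lib.Helper36_ChevDataF4HA.treeSym Cfsg.Agent.Lib.Helper36_ChevDataF4.reachOK r hr

theorem hom_F4 (F : Type*) [Field F] (r : ℕ) (hr : r < chevF4.nroots) :
    ∃ φ : Matrix.SpecialLinearGroup (Fin 2) F →* GL chevF4.Idx F,
      φ.range = chevF4.rootSubgroup F r ⊔ chevF4.rootSubgroup F (chevF4.neg r) ∧
      ∀ (g : Matrix.SpecialLinearGroup (Fin 2) F) (t : F),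
        ((g : Matrix (Fin 2) (Fin 2) F) = !![1, t; 0, 1] →
          ((φ g : GL chevF4.Idx F) : Matrix chevF4.Idx chevF4.Idx F) = chevF4.x F r t) ∧
        ((g : Matrix (Fin 2) (Fin 2) F) = !![1, 0; t, 1] →
          ((φ g : GL chevF4.Idx F) : Matrix chevF4.Idx chevF4.Idx F) = chevF4.x F (chevF4.neg r) t) :=
  exists_sl2_hom chevF4 Cfsg.Agent.Lib.Helper36_ChevDataF4.lenOK Cfsg.Agent.Lib.Helper36_ChevDataF4.addOK F r (negneg_F4 r hr) (goodB_F4 F r hr)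
    (goodB_F4 F _ (neglt_F4 r hr)) (Cfsg.Agent.Lib.Helper36_ChevDataF4HA.goodH F r hr).2.2.2

theorem fundB_E6 : FundB chevE6 Cfsg.Agent.Lib.Helper36_ChevDataE6Eta.etaTable := by decide +kernel

theorem negneg_E6 : ∀ r < chevE6.nroots, chevE6.neg (chevE6.neg r) = r := by decide +kernel

theorem neglt_E6 : ∀ r < chevE6.nroots, chevE6.neg r < chevE6.nroots := by decide +kernel

theorem goodB_E6 (F : Type*) [Field F] (r : ℕ) (hr : r < chevE6.nroots) : GoodB chevE6 F r :=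
  goodB_all chevE6 Cfsg.Agent.Lib.Helper36_ChevDataE6.lenOK Cfsg.Agent.Lib.Helper36_ChevDataE6.addOK Cfsg.Agent.Lib.Helper36_ChevDataE6.simpleOK Cfsg.Agent.Lib.Helper36_ChevDataE6.nLits Cfsg.Agent.Lib.Helper36_ChevDataE6.nLitOK F 12 chainOK_E6
    Cfsg.Agent.Lib.Helper36_ChevDataE6CA.cartanAddOK 12 Cfsg.Agent.Lib.Helper36_ChevDataE6H.hOK Cfsg.Agent.Lib.Helper36_ChevDataE6Eta.etaTable Cfsg.Agent.Lib.Helper36_ChevDataE6HA.fundOK fundB_E6
    Cfsg.Agent.Lib.Helper36_ChevDataE6.tree Cfsg.Agent.Lib.Helper36_ChevDataE6.pairsOK Cfsg.Agent.Lib.Helper36_ChevDataE6HA.treeSym Cfsg.Agent.Lib.Helper36_ChevDataE6.reachOK r hr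

theorem hom_E6 (F : Type*) [Field F] (r : ℕ) (hr : r < chevE6.nroots) :
    ∃ φ : Matrix.SpecialLinearGroup (Fin 2) F →* GL chevE6.Idx F,
      φ.range = chevE6.rootSubgroup F r ⊔ chevE6.rootSubgroup F (chevE6.neg r) ∧
      ∀ (g : Matrix.SpecialLinearGroup (Fin 2) F) (t : F),
        ((g : Matrix (Fin 2) (Fin 2) F) = !![1, t; 0, 1] →
          ((φ g : GL chevE6.Idx F) : Matrix chevE6.Idx chevE6.Idx F) = chevE6.x F r t) ∧
        ((g : Matrix (Fin 2) (Fin 2) F) = !![1, 0; t, 1] →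
          ((φ g : GL chevE6.Idx F) : Matrix chevE6.Idx chevE6.Idx F) = chevE6.x F (chevE6.neg r) t) :=
  exists_sl2_hom chevE6 Cfsg.Agent.Lib.Helper36_ChevDataE6.lenOK Cfsg.Agent.Lib.Helper36_ChevDataE6.addOK F r (negneg_E6 r hr) (goodB_E6 F r hr)
    (goodB_E6 F _ (neglt_E6 r hr)) (Cfsg.Agent.Lib.Helper36_ChevDataE6HA.goodH F r hr).2.2.2

theorem fundB_E7 : FundB chevE7 Cfsg.Agent.Lib.Helper36_ChevDataE7EtaTbl.etaTable := by decide +kernel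

theorem negneg_E7 : ∀ r < chevE7.nroots, chevE7.neg (chevE7.neg r) = r := by decide +kernel

theorem neglt_E7 : ∀ r < chevE7.nroots, chevE7.neg r < chevE7.nroots := by decide +kernel

theorem goodB_E7 (F : Type*) [Field F] (r : ℕ) (hr : r < chevE7.nroots) : GoodB chevE7 F r :=
  goodB_all chevE7 Cfsg.Agent.Lib.Helper36_ChevDataE7.lenOK Cfsg.Agent.Lib.Helper36_ChevDataE7.addOK Cfsg.Agent.Lib.Helper36_ChevDataE7.simpleOK Cfsg.Agent.Lib.Helper36_ChevDataE7.nLits Cfsg.Agent.Lib.Helper36_ChevDataE7.nLitOK F 12 chainOK_E7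
    Cfsg.Agent.Lib.Helper36_ChevDataE7CA.cartanAddOK 12 Cfsg.Agent.Lib.Helper36_ChevDataE7H.hOK Cfsg.Agent.Lib.Helper36_ChevDataE7EtaTbl.etaTable Cfsg.Agent.Lib.Helper36_ChevDataE7HA.fundOK fundB_E7
    Cfsg.Agent.Lib.Helper36_ChevDataE7.tree Cfsg.Agent.Lib.Helper36_ChevDataE7.pairsOK Cfsg.Agent.Lib.Helper36_ChevDataE7HA.treeSym Cfsg.Agent.Lib.Helper36_ChevDataE7.reachOK r hr

theorem hom_E7 (F : Type*) [Field F] (r : ℕ) (hr : r < chevE7.nroots) :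
    ∃ φ : Matrix.SpecialLinearGroup (Fin 2) F →* GL chevE7.Idx F,
      φ.range = chevE7.rootSubgroup F r ⊔ chevE7.rootSubgroup F (chevE7.neg r) ∧
      ∀ (g : Matrix.SpecialLinearGroup (Fin 2) F) (t : F),
        ((g : Matrix (Fin 2) (Fin 2) F) = !![1, t; 0, 1] →
          ((φ g : GL chevE7.Idx F) : Matrix chevE7.Idx chevE7.Idx F) = chevE7.x F r t) ∧
        ((g : Matrix (Fin 2) (Fin 2) F) = !![1, 0; t, 1] →
          ((φ g : GL chevE7.Idx F) : Matrix chevE7.Idx chevE7.Idx F) = chevE7.x F (chevE7.neg r) t) :=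
  exists_sl2_hom chevE7 Cfsg.Agent.Lib.Helper36_ChevDataE7.lenOK Cfsg.Agent.Lib.Helper36_ChevDataE7.addOK F r (negneg_E7 r hr) (goodB_E7 F r hr)
    (goodB_E7 F _ (neglt_E7 r hr)) (Cfsg.Agent.Lib.Helper36_ChevDataE7HA.goodH F r hr).2.2.2

theorem fundB_E8 : FundB chevE8 Cfsg.Agent.Lib.Helper36_ChevDataE8EtaTbl.etaTable := by decide +kernel

theorem negneg_E8 : ∀ r < chevE8.nroots, chevE8.neg (chevE8.neg r) = r := by decide +kernel

theorem neglt_E8 : ∀ r < chevE8.nroots, chevE8.neg r < chevE8.nroots := by decide +kernel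

theorem goodB_E8 (F : Type*) [Field F] (r : ℕ) (hr : r < chevE8.nroots) : GoodB chevE8 F r :=
  goodB_all chevE8 Cfsg.Agent.Lib.Helper36_ChevDataE8.lenOK Cfsg.Agent.Lib.Helper36_ChevDataE8.addOK Cfsg.Agent.Lib.Helper36_ChevDataE8.simpleOK Cfsg.Agent.Lib.Helper36_ChevDataE8.nLits Cfsg.Agent.Lib.Helper36_ChevDataE8.nLitOK F 12 chainOK_E8
    Cfsg.Agent.Lib.Helper36_ChevDataE8CA.cartanAddOK 12 Cfsg.Agent.Lib.Helper36_ChevDataE8H.hOK Cfsg.Agent.Lib.Helper36_ChevDataE8EtaTbl.etaTable Cfsg.Agent.Lib.Helper36_ChevDataE8HA.fundOK fundB_E8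
    Cfsg.Agent.Lib.Helper36_ChevDataE8.tree Cfsg.Agent.Lib.Helper36_ChevDataE8.pairsOK Cfsg.Agent.Lib.Helper36_ChevDataE8HA.treeSym Cfsg.Agent.Lib.Helper36_ChevDataE8.reachOK r hr

theorem hom_E8 (F : Type*) [Field F] (r : ℕ) (hr : r < chevE8.nroots) :
    ∃ φ : Matrix.SpecialLinearGroup (Fin 2) F →* GL chevE8.Idx F,
      φ.range = chevE8.rootSubgroup F r ⊔ chevE8.rootSubgroup F (chevE8.neg r) ∧
      ∀ (g : Matrix.SpecialLinearGroup (Fin 2) F) (t : F),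
        ((g : Matrix (Fin 2) (Fin 2) F) = !![1, t; 0, 1] →
          ((φ g : GL chevE8.Idx F) : Matrix chevE8.Idx chevE8.Idx F) = chevE8.x F r t) ∧
        ((g : Matrix (Fin 2) (Fin 2) F) = !![1, 0; t, 1] →
          ((φ g : GL chevE8.Idx F) : Matrix chevE8.Idx chevE8.Idx F) = chevE8.x F (chevE8.neg r) t) :=
  exists_sl2_hom chevE8 Cfsg.Agent.Lib.Helper36_ChevDataE8.lenOK Cfsg.Agent.Lib.Helper36_ChevDataE8.addOK F r (negneg_E8 r hr) (goodB_E8 F r hr)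
    (goodB_E8 F _ (neglt_E8 r hr)) (Cfsg.Agent.Lib.Helper36_ChevDataE8HA.goodH F r hr).2.2.2

end Cfsg.Agent.Lib.Helper5_ChevSL2
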