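import Cfsg.Agent.Lib.Helper37_ReeCentDefs
import Cfsg.Agent.Lib.Helper5_ChevSL2All
import Cfsg.Agent.S1037
import Cfsg.Agent.Lib.Helper24_ReeCent_PHIcore

set_option autoImplicit false

/-!
REECENT package PHI (helper37's market; proof by helper24, blind draft compiled by helper37): the homomorphism `Φ : SL₂(K) → GL`, `Φ(A) = φ₈(θ A) * φ₁₀(A)`.
-/

namespace Cfsg.Agent.Lib.Helper37_ReeCent_PHI

open Cfsg Cfsg.Lie Cfsg.Agent.Lib.Helper36_ReeFix Cfsg.Agent.Lib.Helper36_ReeBruhat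
  Cfsg.Agent.Lib.Helper36_ReeH Cfsg.Agent.Lib.Helper36_ReePerf Cfsg.Agent.Lib.Helper36_ReeOrder
  Cfsg.Agent.Lib.Helper36_ReeBN Cfsg.Agent.Lib.Helper36_ChevBorel Cfsg.Agent.Lib.Helper36_ChevTables
  Cfsg.Agent.Lib.Helper36_ReeTw Cfsg.Agent.Lib.Helper36_ReeSylow Cfsg.Agent.Lib.Helper36_ReeOdd
  Cfsg.Agent.Lib.Helper36_ChevCore Cfsg.Agent.Lib.Helper36_ChevTorus Cfsg.Agent.Lib.Helper36_ReeAlg
  Cfsg.Agent.Lib.Helper36_ReeStab Cfsg.Agent.Lib.Helper36_ReeSetup
  Cfsg.Agent.Lib.Helper37_SL2Bruhat Cfsg.Agent.Lib.Helper37_ReeCentDefs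
  Cfsg.Agent.Lib.Helper24_ReeCent_PHIcore

section

variable {K : Type*} [Field K] [Fintype K] [CharP K 3] {m : ℕ} (hK : Fintype.card K = 3 ^ (2 * m + 1))

/-- `W⁺(0, u, 0) = x₈(θ u) x₁₀(u)` -/
theorem W_pos_0u0 (u : K) : (posSys hK).W 0 u 0 = xG 8 (theta K m u) * xG 10 u := by
  unfold ReeSys.W ReeSys.M
  have hθ0 : (posSys hK).θ 0 = 0 := map_zero _
  simp only [hθ0, mul_zero, add_zero, zero_add, ne_eq, OfNat.ofNat_ne_zero, not_false_eq_true, zero_pow]
  have hA : (posSys hK).A 0 = 1 := xG_zero 7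
  have hB : (posSys hK).Bb 0 = 1 := xG_zero 6
  have h2 : (posSys hK).X2 0 = 1 := xG_zero 9
  have h4 : (posSys hK).X4 0 = 1 := xG_zero 11
  rw [hA, hB, h2, h4]
  simp only [one_mul, mul_one]
  have he : (posSys hK).ε = 1 := by
    show (((1 : ℤ) : K)) = 1
    simp
  rw [he, one_mul, one_mul]
  rfl

/-- `W⁻(0, u, 0) = x₃(-θ u) x₁(-u)` -/
theorem W_neg_0u0 (u : K) : (negSys hK).W 0 u 0 = xG 3 (-(theta K m u)) * xG 1 (-u) := by
  unfold ReeSys.W ReeSys.M
  have hθ0 : (negSys hK).θ 0 = 0 := map_zero _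
  simp only [hθ0, mul_zero, add_zero, zero_add, ne_eq, OfNat.ofNat_ne_zero, not_false_eq_true, zero_pow]
  have hA : (negSys hK).A 0 = 1 := xG_zero 4
  have hB : (negSys hK).Bb 0 = 1 := xG_zero 5
  have h2 : (negSys hK).X2 0 = 1 := xG_zero 2
  have h4 : (negSys hK).X4 0 = 1 := xG_zero 0
  rw [hA, hB, h2, h4]
  simp only [one_mul, mul_one]
  have he : (negSys hK).ε = -1 := by
    show (((-1 : ℤ) : K)) = -1
    simp
  rw [he, neg_one_mul, neg_one_mul]
  rfl

theorem Wp_0u0 (u : K) : Wp hK 0 u 0 =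
    ((xG 8 (theta K m u) : ↥(chevG2.group K)) : GL chevG2.Idx K) * ((xG 10 u : ↥(chevG2.group K)) : GL chevG2.Idx K) := by
  unfold Wp
  rw [W_pos_0u0 hK u, Subgroup.coe_mul]

theorem Wn_0u0 (u : K) : Wn hK 0 u 0 =
    ((xG 3 (-(theta K m u)) : ↥(chevG2.group K)) : GL chevG2.Idx K) *
      ((xG 1 (-u) : ↥(chevG2.group K)) : GL chevG2.Idx K) := by
  unfold Wn
  rw [W_neg_0u0 hK u, Subgroup.coe_mul]

omit [Fintype K] [CharP K 3] in
/-- an element of `GL` with the matrix of `x_r(t)` is `xG r t` -/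
theorem eq_xG {r : ℕ} {t : K} {g : GL chevG2.Idx K}
    (h : (g : Matrix chevG2.Idx chevG2.Idx K) = chevG2.x K r t) :
    g = ((xG r t : ↥(chevG2.group K)) : GL chevG2.Idx K) :=
  Units.ext (h.trans (xG_mat r t).symm)

omit [Fintype K] [CharP K 3] in
/-- commuting root elements, in `GL` -/
theorem xG_comm_GL (r s : ℕ) (hr : r < chevG2.nroots) (hs : s < chevG2.nroots) (hne : r ≠ s)
    (hsn : s ≠ chevG2.neg r) (h : chevG2.commTerms r s = []) (a b : K) :
    Commute ((xG r a : ↥(chevG2.group K)) : GL chevG2.Idx K) ((xG s b : ↥(chevG2.group K)) : GL chevG2.Idx K) :=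
  (xG_comm r s hr hs hne hsn h a b).map (chevG2.group K).subtype

omit [Fintype K] [CharP K 3] in
/-- the four commuting pairs of root subgroups -/
theorem comm_gens (g k : GL chevG2.Idx K)
    (hg : g ∈ ({g | ∃ t : K, (g : Matrix chevG2.Idx chevG2.Idx K) = chevG2.x K 8 t} ∪
      {g | ∃ t : K, (g : Matrix chevG2.Idx chevG2.Idx K) = chevG2.x K 3 t} : Set (GL chevG2.Idx K)))
    (hk : k ∈ ({g | ∃ t : K, (g : Matrix chevG2.Idx chevG2.Idx K) = chevG2.x K 10 t} ∪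
      {g | ∃ t : K, (g : Matrix chevG2.Idx chevG2.Idx K) = chevG2.x K 1 t} : Set (GL chevG2.Idx K))) :
    Commute g k := by
  rcases hg with ⟨a, ha⟩ | ⟨a, ha⟩ <;> rcases hk with ⟨b, hb⟩ | ⟨b, hb⟩
  · rw [eq_xG ha, eq_xG hb]
    exact xG_comm_GL 8 10 (by decide) (by decide) (by decide) (by decide +kernel) (by decide +kernel) a b
  · rw [eq_xG ha, eq_xG hb]
    exact xG_comm_GL 8 1 (by decide) (by decide) (by decide) (by decide +kernel) (by decide +kernel) a b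
  · rw [eq_xG ha, eq_xG hb]
    exact xG_comm_GL 3 10 (by decide) (by decide) (by decide) (by decide +kernel) (by decide +kernel) a b
  · rw [eq_xG ha, eq_xG hb]
    exact xG_comm_GL 3 1 (by decide) (by decide) (by decide) (by decide +kernel) (by decide +kernel) a b

/-- PKG PHI.  The homomorphism `Φ : SL₂(K) → GL`, `Φ(A) = φ₈(θ A) * φ₁₀(A)`. -/
theorem exists_Phi (hHH : chevG2.hMat K 8 (-1) * chevG2.hMat K 10 (-1) = 1) :
    ∃ Φ : Matrix.SpecialLinearGroup (Fin 2) K →* GL chevG2.Idx K, PhiOK hK Φ := by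
  have hn8 : chevG2.neg 8 = 3 := by decide +kernel
  have hn10 : chevG2.neg 10 = 1 := by decide +kernel
  obtain ⟨φ8, hr8, hv8⟩ := Cfsg.Agent.Lib.Helper5_ChevSL2.hom_G2 K 8 (by decide)
  obtain ⟨φ10, hr10, hv10⟩ := Cfsg.Agent.Lib.Helper5_ChevSL2.hom_G2 K 10 (by decide)
  rw [hn8] at hr8
  rw [hn10] at hr10
  -- values on the unitriangular elements
  have h8up : ∀ t : K, φ8 (up t) = ((xG 8 t : ↥(chevG2.group K)) : GL chevG2.Idx K) :=
    fun t => eq_xG ((hv8 (up t) t).1 (up_coe t))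
  have h8lo : ∀ t : K, φ8 (lo t) = ((xG 3 t : ↥(chevG2.group K)) : GL chevG2.Idx K) := by
    intro t
    have := (hv8 (lo t) t).2 (lo_coe t)
    rw [hn8] at this
    exact eq_xG this
  have h10up : ∀ t : K, φ10 (up t) = ((xG 10 t : ↥(chevG2.group K)) : GL chevG2.Idx K) :=
    fun t => eq_xG ((hv10 (up t) t).1 (up_coe t))
  have h10lo : ∀ t : K, φ10 (lo t) = ((xG 1 t : ↥(chevG2.group K)) : GL chevG2.Idx K) := by
    intro t
    have := (hv10 (lo t) t).2 (lo_coe t)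
    rw [hn10] at this
    exact eq_xG this
  -- the ranges commute
  have hcomm : ∀ g k : Matrix.SpecialLinearGroup (Fin 2) K, Commute (φ8 g) (φ10 k) := by
    intro g k
    have hg : φ8 g ∈ chevG2.rootSubgroup K 8 ⊔ chevG2.rootSubgroup K 3 := by
      rw [← hr8]; exact ⟨g, rfl⟩
    have hk : φ10 k ∈ chevG2.rootSubgroup K 10 ⊔ chevG2.rootSubgroup K 1 := by
      rw [← hr10]; exact ⟨k, rfl⟩
    unfold ChevalleyDatum.rootSubgroup at hg hk
    rw [← Subgroup.closure_union] at hg hk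
    exact commute_of_closure (fun s hs t ht => comm_gens s t hs ht) _ hg _ hk
  let θ' := slMap (theta K m)
  have hcomm' : ∀ g k : Matrix.SpecialLinearGroup (Fin 2) K, Commute ((φ8.comp θ') g) (φ10 k) :=
    fun g k => hcomm (θ' g) k
  refine ⟨mulHom (φ8.comp θ') φ10 hcomm', ?_⟩
  have hΦ : ∀ g, mulHom (φ8.comp θ') φ10 hcomm' g = φ8 (slMap (theta K m) g) * φ10 g := fun g => rfl
  constructor
  · intro t
    rw [hΦ, slMap_up, h8up, h10up, Wp_0u0]
  · intro t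
    rw [hΦ, slMap_lo, h8lo, h10lo, Wn_0u0, map_neg, neg_neg, neg_neg]
  · intro l
    rw [hΦ, slMap_dg]
    refine Subgroup.mul_mem _ ?_ ?_
    · refine Subgroup.subset_closure ⟨8, ((Units.map (theta K m : K →* K) l : Kˣ) : K), by decide,
        Units.ne_zero _, ?_⟩
      have := hom_dg chevG2 φ8 8 hv8 (Units.map (theta K m : K →* K) l)
      exact this
    · refine Subgroup.subset_closure ⟨10, (l : K), by decide, Units.ne_zero _, ?_⟩
      exact hom_dg chevG2 φ10 10 hv10 l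
  · rw [hΦ, slMap_we]
    refine Subgroup.mul_mem _ ?_ ?_
    · refine (le_sup_right : _ ≤ chevG2.monomialSubgroup K) (Subgroup.subset_closure ⟨8, by decide, ?_⟩)
      exact hom_we chevG2 φ8 8 hv8
    · refine (le_sup_right : _ ≤ chevG2.monomialSubgroup K) (Subgroup.subset_closure ⟨10, by decide, ?_⟩)
      exact hom_we chevG2 φ10 10 hv10
  · rw [hΦ, slMap_dg]
    have hm1 : Units.map (theta K m : K →* K) (-1 : Kˣ) = -1 := by
      apply Units.ext
      simp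
    rw [hm1]
    apply Units.ext
    rw [Units.val_mul, hom_dg chevG2 φ8 8 hv8 (-1), hom_dg chevG2 φ10 10 hv10 (-1)]
    have : (((-1 : Kˣ) : Kˣ) : K) = -1 := by simp
    rw [this, hHH]
    rfl

end

end Cfsg.Agent.Lib.Helper37_ReeCent_PHI
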