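import Cfsg.Agent.Lib.Helper37_ReeCentDefs
import Cfsg.Agent.Lib.Helper37_ReeCent_PHI

set_option autoImplicit false

/-!
REE-CENT package CONJW: conjugation of the generators `W⁺(t, u, v)`, `W⁻(0, u, 0)` by the involution of `H¹`.
-/

namespace Cfsg.Agent.Lib.Helper37_ReeCent_CONJW

open Cfsg Cfsg.Lie Cfsg.Agent.Lib.Helper36_ReeFix Cfsg.Agent.Lib.Helper36_ReeBruhat
  Cfsg.Agent.Lib.Helper36_ReeH Cfsg.Agent.Lib.Helper36_ReePerf Cfsg.Agent.Lib.Helper36_ReeOrder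
  Cfsg.Agent.Lib.Helper36_ReeBN Cfsg.Agent.Lib.Helper36_ChevBorel Cfsg.Agent.Lib.Helper36_ChevTables
  Cfsg.Agent.Lib.Helper36_ReeTw Cfsg.Agent.Lib.Helper36_ReeSylow Cfsg.Agent.Lib.Helper36_ReeOdd
  Cfsg.Agent.Lib.Helper36_ChevCore Cfsg.Agent.Lib.Helper36_ChevTorus Cfsg.Agent.Lib.Helper36_ReeAlg
  Cfsg.Agent.Lib.Helper36_ReeStab Cfsg.Agent.Lib.Helper36_ReeSetup
  Cfsg.Agent.Lib.Helper37_SL2Bruhat Cfsg.Agent.Lib.Helper37_ReeCentDefs Cfsg.Agent.Lib.Helper37_ReeCent_PHI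
  Cfsg.Agent.Lib.Helper18_ChevGL Cfsg.Agent.Lib.Helper18_ChevAdd

section

variable {K : Type*} [Field K] [Fintype K] [CharP K 3] {m : ℕ} (hK : Fintype.card K = 3 ^ (2 * m + 1))

theorem conj_Wp
    (hχ : chi chevG2 K (uu K m (-1)) 6 = -1 ∧ chi chevG2 K (uu K m (-1)) 7 = -1 ∧ chi chevG2 K (uu K m (-1)) 8 = 1 ∧
      chi chevG2 K (uu K m (-1)) 9 = -1 ∧ chi chevG2 K (uu K m (-1)) 10 = 1 ∧ chi chevG2 K (uu K m (-1)) 11 = -1 ∧
      chi chevG2 K (uu K m (-1)) 3 = 1 ∧ chi chevG2 K (uu K m (-1)) 1 = 1)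
    (t u v : K) : aa K m * Wp hK t u v * (aa K m)⁻¹ = Wp hK (-t) u (-v) := by
  obtain ⟨h6, h7, h8, h9, h10, h11, -, -⟩ := hχ
  have hχr : chevG2.IsRootCharacter (chi chevG2 K (uu K m (-1))) := isRootCharacter_chi chevG2 K (hfK K).hca _
  have he : (posSys hK).ε = 1 := by
    show (((1 : ℤ) : K)) = 1
    simp
  have hθn : ∀ x : K, (posSys hK).θ (-x) = -(posSys hK).θ x := fun x => map_neg _ x
  unfold Wp
  rw [(posSys hK).W_eq_N, (posSys hK).W_eq_N]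
  show torusGL chevG2 K (chi chevG2 K (uu K m (-1))) * _ * (torusGL chevG2 K (chi chevG2 K (uu K m (-1))))⁻¹ = _
  rw [conj_N hK _ hχr, h6, h7, h8, h9, h10, h11, he]
  have e : (posSys hK).N (((-1 : Kˣ) : K) * (1 * t)) (((-1 : Kˣ) : K) * (1 * (posSys hK).θ t))
      (((1 : Kˣ) : K) * (1 * (posSys hK).θ u)) (((-1 : Kˣ) : K) * (1 * (posSys hK).θ v))
      (((1 : Kˣ) : K) * (1 * ((posSys hK).θ t ^ 3 * t + u)))
      (((-1 : Kˣ) : K) * (1 * ((posSys hK).θ t ^ 3 * t ^ 2 + v))) =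
      (posSys hK).N (1 * -t) (1 * (posSys hK).θ (-t)) (1 * (posSys hK).θ u) (1 * (posSys hK).θ (-v))
        (1 * ((posSys hK).θ (-t) ^ 3 * -t + u)) (1 * ((posSys hK).θ (-t) ^ 3 * (-t) ^ 2 + -v)) := by
    congr 1 <;> simp only [hθn, Units.val_neg, Units.val_one] <;> ring
  rw [e]

theorem conj_Wn0
    (hχ : chi chevG2 K (uu K m (-1)) 6 = -1 ∧ chi chevG2 K (uu K m (-1)) 7 = -1 ∧ chi chevG2 K (uu K m (-1)) 8 = 1 ∧
      chi chevG2 K (uu K m (-1)) 9 = -1 ∧ chi chevG2 K (uu K m (-1)) 10 = 1 ∧ chi chevG2 K (uu K m (-1)) 11 = -1 ∧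
      chi chevG2 K (uu K m (-1)) 3 = 1 ∧ chi chevG2 K (uu K m (-1)) 1 = 1)
    (u : K) : aa K m * Wn hK 0 u 0 * (aa K m)⁻¹ = Wn hK 0 u 0 := by
  obtain ⟨-, -, -, -, -, -, h3, h1⟩ := hχ
  have hχr : chevG2.IsRootCharacter (chi chevG2 K (uu K m (-1))) := isRootCharacter_chi chevG2 K (hfK K).hca _
  have hc := chainOK_of_mem chevG2 hD
  rw [Wn_0u0 hK u, xG_coe, xG_coe]
  show torusGL chevG2 K (chi chevG2 K (uu K m (-1))) * _ * (torusGL chevG2 K (chi chevG2 K (uu K m (-1))))⁻¹ = _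
  have e3 := Cfsg.Agent.Lib.Helper36_TwistPerf.torus_conj_x dc hc _ hχr 3 (by decide) (-(theta K m u))
  have e1 := Cfsg.Agent.Lib.Helper36_TwistPerf.torus_conj_x dc hc _ hχr 1 (by decide) (-u)
  rw [h3, Units.val_one, one_mul] at e3
  rw [h1, Units.val_one, one_mul] at e1
  calc torusGL chevG2 K (chi chevG2 K (uu K m (-1))) * (xGL dc 3 (-(theta K m u)) * xGL dc 1 (-u)) *
        (torusGL chevG2 K (chi chevG2 K (uu K m (-1))))⁻¹
      = (torusGL chevG2 K (chi chevG2 K (uu K m (-1))) * xGL dc 3 (-(theta K m u)) *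
          (torusGL chevG2 K (chi chevG2 K (uu K m (-1))))⁻¹) *
        (torusGL chevG2 K (chi chevG2 K (uu K m (-1))) * xGL dc 1 (-u) *
          (torusGL chevG2 K (chi chevG2 K (uu K m (-1))))⁻¹) := by group
    _ = xGL dc 3 (-(theta K m u)) * xGL dc 1 (-u) := by rw [e3, e1]

end

end Cfsg.Agent.Lib.Helper37_ReeCent_CONJW
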