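import Cfsg.Agent.Lib.Helper37_ReeCentDefs
import Cfsg.Agent.Lib.Helper5_ChevSL2All
import Cfsg.Agent.S1037

set_option autoImplicit false

/-!
# REE-CENT package KER (architect helper37, proof helper9)

The kernel of the homomorphism `Φ : SL₂(K) → G¹` is `{1, -1}`: Bruhat form in `SL₂(K)` and the uniqueness of the Bruhat
form in the twisted group (`param_bijective`).
-/

namespace Cfsg.Agent.Lib.Helper37_ReeCent_KER

open Cfsg Cfsg.Lie Cfsg.Agent.Lib.Helper36_ReeFix Cfsg.Agent.Lib.Helper36_ReeBruhat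
  Cfsg.Agent.Lib.Helper36_ReeH Cfsg.Agent.Lib.Helper36_ReePerf Cfsg.Agent.Lib.Helper36_ReeOrder
  Cfsg.Agent.Lib.Helper36_ReeBN Cfsg.Agent.Lib.Helper36_ChevBorel Cfsg.Agent.Lib.Helper36_ChevTables
  Cfsg.Agent.Lib.Helper36_ReeTw Cfsg.Agent.Lib.Helper36_ReeSylow Cfsg.Agent.Lib.Helper36_ReeOdd
  Cfsg.Agent.Lib.Helper36_ChevCore Cfsg.Agent.Lib.Helper36_ChevTorus Cfsg.Agent.Lib.Helper36_ReeAlg
  Cfsg.Agent.Lib.Helper36_ReeStab Cfsg.Agent.Lib.Helper36_ReeSetup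
  Cfsg.Agent.Lib.Helper37_SL2Bruhat Cfsg.Agent.Lib.Helper37_ReeCentDefs

section

variable {K : Type*} [Field K] [Fintype K] [CharP K 3] {m : ℕ} (hK : Fintype.card K = 3 ^ (2 * m + 1))

include hK in
/-- Uniqueness of the Bruhat form in the small cell, compared with `1 = 1 * 1`. -/
theorem small_cell_unique (u0 : GL chevG2.Idx K) (hu0 : u0 ∈ chevG2.posUnipotent K ⊓ twistedG2 K (3 ^ m))
    (h0 : GL chevG2.Idx K) (hh0 : h0 ∈ chevG2.diagonalSubgroup K ⊓ twistedG2 K (3 ^ m))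
    (h1 : GL chevG2.Idx K) (hh1 : h1 ∈ chevG2.diagonalSubgroup K ⊓ twistedG2 K (3 ^ m))
    (e : u0 * h0 = h1) : u0 = 1 ∧ h0 = h1 := by
  have e1 : param hK (Sum.inl (⟨u0, hu0⟩, ⟨h0, hh0⟩)) = param hK (Sum.inl (1, ⟨h1, hh1⟩)) := by
    apply Subtype.ext
    show u0 * h0 = (1 : GL chevG2.Idx K) * h1
    rw [e, one_mul]
  have e2 := Sum.inl_injective ((param_bijective hK).1 e1)
  have e3 := Prod.ext_iff.mp e2
  exact ⟨congrArg Subtype.val e3.1, congrArg Subtype.val e3.2⟩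

include hK in
/-- An element of the big cell is not in `H`. -/
theorem big_cell_ne (u0 : GL chevG2.Idx K) (hu0 : u0 ∈ chevG2.posUnipotent K ⊓ twistedG2 K (3 ^ m))
    (h0 : GL chevG2.Idx K) (hh0 : h0 ∈ chevG2.diagonalSubgroup K ⊓ twistedG2 K (3 ^ m))
    (u1 : GL chevG2.Idx K) (hu1 : u1 ∈ chevG2.posUnipotent K ⊓ twistedG2 K (3 ^ m))
    (h1 : GL chevG2.Idx K) (hh1 : h1 ∈ chevG2.diagonalSubgroup K ⊓ twistedG2 K (3 ^ m)) :
    u0 * h0 * m0 hK * u1 ≠ h1 := by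
  intro e
  have e1 : param hK (Sum.inr ((⟨u0, hu0⟩, ⟨h0, hh0⟩), ⟨u1, hu1⟩)) =
      param hK (Sum.inl (1, ⟨h1, hh1⟩)) := by
    apply Subtype.ext
    show u0 * h0 * m0 hK * u1 = (1 : GL chevG2.Idx K) * h1
    rw [e, one_mul]
  exact Sum.inr_ne_inl ((param_bijective hK).1 e1)

theorem Wp_zero : Wp hK 0 0 0 = 1 := by
  unfold Wp
  rw [W_pos_zero hK]
  rfl

/-- The image of an element of the big cell of `SL₂(K)` lies in the big cell of `G¹`. -/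
theorem Phi_big (Φ : Matrix.SpecialLinearGroup (Fin 2) K →* GL chevG2.Idx K) (hΦ : PhiOK hK Φ)
    (hmem : ∀ g, Φ g ∈ twistedG2 K (3 ^ m)) (hwe : Φ we ∉ chevG2.diagonalSubgroup K) (t : K) (l : Kˣ) (s : K) :
    ∃ h0 : GL chevG2.Idx K, h0 ∈ chevG2.diagonalSubgroup K ⊓ twistedG2 K (3 ^ m) ∧
      Φ (up t * dg l * we * up s) = Wp hK 0 t 0 * h0 * m0 hK * Wp hK 0 s 0 := by
  have hnN : Φ we ∈ chevG2.monomialSubgroup K ⊓ twistedG2 K (3 ^ m) := ⟨hΦ.hwe, hmem _⟩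
  have hh' : (m0 hK)⁻¹ * Φ we ∈ chevG2.diagonalSubgroup K := inv_m0_mul hK (Φ we) hnN hwe
  have hh'G : (m0 hK)⁻¹ * Φ we ∈ twistedG2 K (3 ^ m) :=
    Subgroup.mul_mem _ (Subgroup.inv_mem _ (m0_mem hK)) (hmem _)
  have hnorm := monomial_le_normalizer chevG2 K (hfK K) (m0_mono hK)
  have hh'' : m0 hK * ((m0 hK)⁻¹ * Φ we) * (m0 hK)⁻¹ ∈ chevG2.diagonalSubgroup K :=
    (Subgroup.mem_normalizer_iff.mp hnorm _).mp hh'
  have hh''G : m0 hK * ((m0 hK)⁻¹ * Φ we) * (m0 hK)⁻¹ ∈ twistedG2 K (3 ^ m) :=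
    Subgroup.mul_mem _ (Subgroup.mul_mem _ (m0_mem hK) hh'G) (Subgroup.inv_mem _ (m0_mem hK))
  refine ⟨Φ (dg l) * (m0 hK * ((m0 hK)⁻¹ * Φ we) * (m0 hK)⁻¹),
    ⟨Subgroup.mul_mem _ (hΦ.hdg l) hh'', Subgroup.mul_mem _ (hmem _) hh''G⟩, ?_⟩
  rw [map_mul, map_mul, map_mul, hΦ.hup, hΦ.hup]
  group

/-- PKG KER.  The kernel of `Φ` is `{1, -1}`. -/
theorem ker_Phi (Φ : Matrix.SpecialLinearGroup (Fin 2) K →* GL chevG2.Idx K) (hΦ : PhiOK hK Φ)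
    (hmem : ∀ g, Φ g ∈ twistedG2 K (3 ^ m)) (hwe : Φ we ∉ chevG2.diagonalSubgroup K)
    (g : Matrix.SpecialLinearGroup (Fin 2) K) (hg : Φ g = 1) : g = 1 ∨ g = dg (-1) := by
  rcases bruhat g with ⟨t, l, rfl⟩ | ⟨t, l, s, rfl⟩
  · rw [map_mul, hΦ.hup] at hg
    obtain ⟨e1, e2⟩ := small_cell_unique hK _ ⟨Wp_memU hK 0 t 0, Wp_mem hK 0 t 0⟩ _
      ⟨hΦ.hdg l, hmem _⟩ 1 (Subgroup.one_mem _) hg
    have ht : t = 0 := (Wp_inj hK 0 t 0 0 0 0 (e1.trans (Wp_zero hK).symm)).2.1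
    have hl : Φ (up ((l : K) ^ 2 * 1)) = Φ (up 1) := by
      rw [← dg_conj_up, map_mul, map_mul, e2, map_inv, e2]
      simp
    rw [hΦ.hup, hΦ.hup] at hl
    have hl2 : (l : K) ^ 2 * 1 = 1 := (Wp_inj hK _ _ _ _ _ _ hl).2.1
    rw [mul_one] at hl2
    have hl3 : (l : K) = 1 ∨ (l : K) = -1 := by
      have h3 : ((l : K) - 1) * ((l : K) + 1) = 0 := by linear_combination hl2
      rcases mul_eq_zero.mp h3 with h | h
      · left; exact sub_eq_zero.mp h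
      · right; exact eq_neg_of_add_eq_zero_left h
    subst ht
    rw [up_zero, one_mul]
    rcases hl3 with h | h
    · left
      have h4 : l = 1 := Units.ext h
      rw [h4, dg_one]
    · right
      have h4 : l = -1 := Units.ext (by rw [h]; simp)
      rw [h4]
  · exfalso
    obtain ⟨h0, hh0, e⟩ := Phi_big hK Φ hΦ hmem hwe t l s
    rw [e] at hg
    exact big_cell_ne hK _ ⟨Wp_memU hK 0 t 0, Wp_mem hK 0 t 0⟩ h0 hh0 _
      ⟨Wp_memU hK 0 s 0, Wp_mem hK 0 s 0⟩ 1 (Subgroup.one_mem _) hg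

end

end Cfsg.Agent.Lib.Helper37_ReeCent_KER
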