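import Cfsg.Agent.Lib.Helper37_ReeCentDefs
import Cfsg.Agent.Lib.Helper5_ChevSL2All
import Cfsg.Agent.S1037

set_option autoImplicit false

/-!
REE-CENT package COVER (helper37's market): `C_{G¹}(aa) = L ∪ aa L`, `L = Φ.range`.
-/

namespace Cfsg.Agent.Lib.Helper46_ReeCent_COVER

open Cfsg Cfsg.Lie Cfsg.Agent.Lib.Helper36_ReeFix Cfsg.Agent.Lib.Helper36_ReeBruhat
  Cfsg.Agent.Lib.Helper36_ReeH Cfsg.Agent.Lib.Helper36_ReePerf Cfsg.Agent.Lib.Helper36_ReeOrder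
  Cfsg.Agent.Lib.Helper36_ReeBN Cfsg.Agent.Lib.Helper36_ChevBorel Cfsg.Agent.Lib.Helper36_ChevTables
  Cfsg.Agent.Lib.Helper36_ReeTw Cfsg.Agent.Lib.Helper36_ReeSylow Cfsg.Agent.Lib.Helper36_ReeOdd
  Cfsg.Agent.Lib.Helper36_ChevCore Cfsg.Agent.Lib.Helper36_ChevTorus Cfsg.Agent.Lib.Helper36_ReeAlg
  Cfsg.Agent.Lib.Helper36_ReeStab Cfsg.Agent.Lib.Helper36_ReeSetup
  Cfsg.Agent.Lib.Helper37_SL2Bruhat Cfsg.Agent.Lib.Helper37_ReeCentDefs

section

variable {K : Type*} [Field K] [Fintype K] [CharP K 3] {m : ℕ} (hK : Fintype.card K = 3 ^ (2 * m + 1))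

/-- `dg` as a homomorphism -/
def dgHom (K : Type*) [Field K] : Kˣ →* Matrix.SpecialLinearGroup (Fin 2) K where
  toFun := dg
  map_one' := dg_one
  map_mul' := dg_mul

omit [Fintype K] [CharP K 3] in
theorem dg_injective : Function.Injective (dg : Kˣ → Matrix.SpecialLinearGroup (Fin 2) K) := by
  intro l n h
  have h1 : dg (l * n⁻¹) = 1 := by rw [dg_mul, ← dg_inv, h, mul_inv_cancel]
  have h2 := (dg_eq_one_iff _).mp h1
  exact mul_inv_eq_one.mp h2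

omit [Fintype K] in
theorem neg_one_ne_one : (-1 : Kˣ) ≠ 1 := by
  intro h
  have h1 : ((-1 : Kˣ) : K) = 1 := by rw [h]; rfl
  have h2 : (2 : K) = 0 := by
    have : (-1 : K) = 1 := by simpa using h1
    linear_combination -this
  have h3 : ((2 : ℕ) : K) = 0 := by exact_mod_cast h2
  have h4 := (CharP.cast_eq_zero_iff K 3 2).mp h3
  omega

/-- the torus part: every element of `H¹` lies in `D = Φ (dg ·)` or in `aa D` -/
theorem torus_cover (Φ : Matrix.SpecialLinearGroup (Fin 2) K →* GL chevG2.Idx K) (hΦ : PhiOK hK Φ)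
    (hmem : ∀ g, Φ g ∈ twistedG2 K (3 ^ m))
    (hker : ∀ g : Matrix.SpecialLinearGroup (Fin 2) K, Φ g = 1 → g = 1 ∨ g = dg (-1))
    (hnot : aa K m ∉ Φ.range)
    (h0 : GL chevG2.Idx K) (hh0 : h0 ∈ chevG2.diagonalSubgroup K ⊓ twistedG2 K (3 ^ m)) :
    h0 ∈ Φ.range ∨ aa K m * h0 ∈ Φ.range := by
  classical
  set H1 : Subgroup (GL chevG2.Idx K) := chevG2.diagonalSubgroup K ⊓ twistedG2 K (3 ^ m) with hH1
  -- the homomorphism `l ↦ Φ (dg l)` into `H¹`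
  let ψ : Kˣ →* ↥H1 := (Φ.comp (dgHom K)).codRestrict H1 (fun l => ⟨hΦ.hdg l, hmem _⟩)
  have hψ : ∀ l : Kˣ, ((ψ l : ↥H1) : GL chevG2.Idx K) = Φ (dg l) := fun l => rfl
  -- its kernel is `{1, -1}`
  have hkerψ : ∀ l : Kˣ, l ∈ ψ.ker ↔ l = 1 ∨ l = -1 := by
    intro l
    rw [MonoidHom.mem_ker]
    constructor
    · intro h
      have h1 : Φ (dg l) = 1 := by rw [← hψ, h]; rfl
      rcases hker _ h1 with h2 | h2
      · exact Or.inl ((dg_eq_one_iff l).mp h2)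
      · exact Or.inr (dg_injective h2)
    · rintro (rfl | rfl)
      · exact map_one ψ
      · apply Subtype.ext
        rw [hψ, hΦ.hneg]
        rfl
  have hcardker : Nat.card ↥ψ.ker = 2 := by
    rw [Nat.card_eq_two_iff]
    refine ⟨⟨1, (hkerψ 1).mpr (Or.inl rfl)⟩, ⟨-1, (hkerψ (-1)).mpr (Or.inr rfl)⟩, ?_, ?_⟩
    · intro h
      have := congrArg Subtype.val h
      exact neg_one_ne_one this.symm
    · ext ⟨l, hl⟩
      simp only [Set.mem_insert_iff, Set.mem_singleton_iff, Set.mem_univ, iff_true]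
      rcases (hkerψ l).mp hl with rfl | rfl
      · exact Or.inl rfl
      · exact Or.inr rfl
  -- cardinalities
  have hcardK : Nat.card Kˣ = 3 ^ (2 * m + 1) - 1 := by
    rw [Nat.card_units, Nat.card_eq_fintype_card, hK]
  have hcardH : Nat.card ↥H1 = 3 ^ (2 * m + 1) - 1 := card_diag_inf hK
  have h1 : Nat.card ↥ψ.ker * Nat.card ↥ψ.range = Nat.card Kˣ := by
    rw [← Subgroup.index_ker, Subgroup.card_mul_index]
  have h2 : Nat.card ↥ψ.range * ψ.range.index = Nat.card ↥H1 := Subgroup.card_mul_index _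
  have hpos : 0 < Nat.card ↥ψ.range := Nat.card_pos
  have hidx : ψ.range.index = 2 := by
    rw [hcardker, hcardK] at h1
    rw [hcardH, ← h1] at h2
    have h3 : Nat.card ↥ψ.range * ψ.range.index = Nat.card ↥ψ.range * 2 := by
      rw [h2]; ring
    exact Nat.eq_of_mul_eq_mul_left hpos h3
  -- `aa ∉ range ψ`
  have haaH : aa K m ∈ H1 := ⟨aa_mem_diag, aa_mem hK⟩
  have haa : (⟨aa K m, haaH⟩ : ↥H1) ∉ ψ.range := by
    rintro ⟨l, hl⟩
    apply hnot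
    refine ⟨dg l, ?_⟩
    rw [← hψ, hl]
  by_cases hh : (⟨h0, hh0⟩ : ↥H1) ∈ ψ.range
  · left
    obtain ⟨l, hl⟩ := hh
    refine ⟨dg l, ?_⟩
    rw [← hψ, hl]
  · right
    have h3 : (⟨aa K m, haaH⟩ : ↥H1) * ⟨h0, hh0⟩ ∈ ψ.range := by
      rw [Subgroup.mul_mem_iff_of_index_two hidx]
      exact ⟨fun h => absurd h haa, fun h => absurd h hh⟩
    obtain ⟨l, hl⟩ := h3
    refine ⟨dg l, ?_⟩
    rw [← hψ, hl]
    rfl

/-- PKG COVER. -/
theorem cover (Φ : Matrix.SpecialLinearGroup (Fin 2) K →* GL chevG2.Idx K) (hΦ : PhiOK hK Φ)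
    (hmem : ∀ g, Φ g ∈ twistedG2 K (3 ^ m)) (hcomm : ∀ g, aa K m * Φ g * (aa K m)⁻¹ = Φ g)
    (hwe : Φ we ∉ chevG2.diagonalSubgroup K)
    (hker : ∀ g : Matrix.SpecialLinearGroup (Fin 2) K, Φ g = 1 → g = 1 ∨ g = dg (-1))
    (hnot : aa K m ∉ Φ.range)
    (hcases : ∀ g : GL chevG2.Idx K, g ∈ twistedG2 K (3 ^ m) → aa K m * g * (aa K m)⁻¹ = g →
      (∃ (u : K) (h0 : GL chevG2.Idx K), h0 ∈ chevG2.diagonalSubgroup K ⊓ twistedG2 K (3 ^ m) ∧
        g = Wp hK 0 u 0 * h0) ∨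
      (∃ (u : K) (h0 : GL chevG2.Idx K) (u' : K), h0 ∈ chevG2.diagonalSubgroup K ⊓ twistedG2 K (3 ^ m) ∧
        g = Wp hK 0 u 0 * h0 * m0 hK * Wp hK 0 u' 0))
    (g : GL chevG2.Idx K) (hg : g ∈ twistedG2 K (3 ^ m)) (hc : aa K m * g * (aa K m)⁻¹ = g) :
    g ∈ Φ.range ∨ aa K m * g ∈ Φ.range := by
  -- `aa` commutes with `L`
  have hcomm' : ∀ x ∈ Φ.range, aa K m * x = x * aa K m := by
    rintro _ ⟨y, rfl⟩
    have := hcomm y
    calc aa K m * Φ y = (aa K m * Φ y * (aa K m)⁻¹) * aa K m := by group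
      _ = Φ y * aa K m := by rw [this]
  have hinv : (aa K m)⁻¹ = aa K m := inv_eq_of_mul_eq_one_right aa_sq
  -- closure of `L ∪ aa L` under products
  have hmul : ∀ x y : GL chevG2.Idx K, (x ∈ Φ.range ∨ aa K m * x ∈ Φ.range) →
      (y ∈ Φ.range ∨ aa K m * y ∈ Φ.range) → (x * y ∈ Φ.range ∨ aa K m * (x * y) ∈ Φ.range) := by
    intro x y hx hy
    rcases hx with hx | hx <;> rcases hy with hy | hy
    · exact Or.inl (Subgroup.mul_mem _ hx hy)
    · right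
      have : aa K m * (x * y) = x * (aa K m * y) := by
        rw [← mul_assoc, hcomm' x hx, mul_assoc]
      rw [this]
      exact Subgroup.mul_mem _ hx hy
    · right
      rw [← mul_assoc]
      exact Subgroup.mul_mem _ hx hy
    · left
      have h1 : (aa K m * x) * (aa K m * y) = x * y := by
        calc (aa K m * x) * (aa K m * y) = ((aa K m * x) * aa K m) * y := by group
          _ = (aa K m * (aa K m * x)) * y := by rw [hcomm' _ hx]
          _ = ((aa K m * aa K m) * x) * y := by group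
          _ = x * y := by rw [aa_sq, one_mul]
      rw [← h1]
      exact Subgroup.mul_mem _ hx hy
  have hWp : ∀ u : K, Wp hK 0 u 0 ∈ Φ.range := fun u => ⟨up u, hΦ.hup u⟩
  have htor := torus_cover hK Φ hΦ hmem hker hnot
  -- the monomial element
  have hm0 : m0 hK ∈ Φ.range ∨ aa K m * m0 hK ∈ Φ.range := by
    have hn : Φ we ∈ chevG2.monomialSubgroup K ⊓ twistedG2 K (3 ^ m) := ⟨hΦ.hwe, hmem we⟩
    have h1 : (m0 hK)⁻¹ * Φ we ∈ chevG2.diagonalSubgroup K := inv_m0_mul hK (Φ we) hn hwe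
    have h2 : (m0 hK)⁻¹ * Φ we ∈ twistedG2 K (3 ^ m) :=
      Subgroup.mul_mem _ (Subgroup.inv_mem _ (m0_mem hK)) (hmem we)
    have h3 : ((m0 hK)⁻¹ * Φ we)⁻¹ ∈ chevG2.diagonalSubgroup K ⊓ twistedG2 K (3 ^ m) :=
      Subgroup.inv_mem _ ⟨h1, h2⟩
    have h4 : m0 hK = Φ we * ((m0 hK)⁻¹ * Φ we)⁻¹ := by group
    rw [h4]
    exact hmul _ _ (Or.inl ⟨we, rfl⟩) (htor _ h3)
  rcases hcases g hg hc with ⟨u, h0, hh0, rfl⟩ | ⟨u, h0, u', hh0, rfl⟩
  · exact hmul _ _ (Or.inl (hWp u)) (htor h0 hh0)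
  · exact hmul _ _ (hmul _ _ (hmul _ _ (Or.inl (hWp u)) (htor h0 hh0)) hm0) (Or.inl (hWp u'))

end

end Cfsg.Agent.Lib.Helper46_ReeCent_COVER
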