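import Cfsg.Agent.Lib.Helper37_ReeCentDefs
import Cfsg.Agent.Lib.Helper5_ChevSL2All
import Cfsg.Agent.Lib.Helper5_SLPresA
import Cfsg.Agent.S1037

set_option autoImplicit false

/-!
REE-CENT package PHIMEM (helper37's market): the image of `Φ : SL₂(K) → GL` lies in `G¹`, commutes with the
involution `aa`, and `Φ we` is not diagonal.
-/

namespace Cfsg.Agent.Lib.Helper46_ReeCent_PHIMEM

open Cfsg Cfsg.Lie Cfsg.Agent.Lib.Helper36_ReeFix Cfsg.Agent.Lib.Helper36_ReeBruhat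
  Cfsg.Agent.Lib.Helper36_ReeH Cfsg.Agent.Lib.Helper36_ReePerf Cfsg.Agent.Lib.Helper36_ReeOrder
  Cfsg.Agent.Lib.Helper36_ReeBN Cfsg.Agent.Lib.Helper36_ChevBorel Cfsg.Agent.Lib.Helper36_ChevTables
  Cfsg.Agent.Lib.Helper36_ReeTw Cfsg.Agent.Lib.Helper36_ReeSylow Cfsg.Agent.Lib.Helper36_ReeOdd
  Cfsg.Agent.Lib.Helper36_ChevCore Cfsg.Agent.Lib.Helper36_ChevTorus Cfsg.Agent.Lib.Helper36_ReeAlg
  Cfsg.Agent.Lib.Helper36_ReeStab Cfsg.Agent.Lib.Helper36_ReeSetup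
  Cfsg.Agent.Lib.Helper37_SL2Bruhat Cfsg.Agent.Lib.Helper37_ReeCentDefs

section

variable {K : Type*} [Field K] [Fintype K] [CharP K 3] {m : ℕ} (hK : Fintype.card K = 3 ^ (2 * m + 1))

omit [Fintype K] [CharP K 3] in
theorem mx_true_eq (t : K) : Cfsg.Agent.Lib.Helper5_SteinbergA.mx (true, t) = up t := rfl

omit [Fintype K] [CharP K 3] in
theorem mx_false_eq (t : K) : Cfsg.Agent.Lib.Helper5_SteinbergA.mx (false, t) = lo t := rfl

/-- PKG PHIMEM. -/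
theorem Phi_mem (Φ : Matrix.SpecialLinearGroup (Fin 2) K →* GL chevG2.Idx K) (hΦ : PhiOK hK Φ)
    (hp : ∀ u : K, aa K m * Wp hK 0 u 0 * (aa K m)⁻¹ = Wp hK 0 u 0)
    (hn : ∀ u : K, aa K m * Wn hK 0 u 0 * (aa K m)⁻¹ = Wn hK 0 u 0) :
    (∀ g, Φ g ∈ twistedG2 K (3 ^ m)) ∧ (∀ g, aa K m * Φ g * (aa K m)⁻¹ = Φ g) ∧
      Φ we ∉ chevG2.diagonalSubgroup K := by
  -- the subgroup of `GL` where both properties hold
  let T : Subgroup (GL chevG2.Idx K) :=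
    { carrier := {x | x ∈ twistedG2 K (3 ^ m) ∧ aa K m * x * (aa K m)⁻¹ = x}
      mul_mem' := by
        rintro a b ⟨ha1, ha2⟩ ⟨hb1, hb2⟩
        refine ⟨Subgroup.mul_mem _ ha1 hb1, ?_⟩
        calc aa K m * (a * b) * (aa K m)⁻¹
            = (aa K m * a * (aa K m)⁻¹) * (aa K m * b * (aa K m)⁻¹) := by group
          _ = a * b := by rw [ha2, hb2]
      one_mem' := ⟨Subgroup.one_mem _, by group⟩
      inv_mem' := by
        rintro a ⟨ha1, ha2⟩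
        refine ⟨Subgroup.inv_mem _ ha1, ?_⟩
        calc aa K m * a⁻¹ * (aa K m)⁻¹ = (aa K m * a * (aa K m)⁻¹)⁻¹ := by group
          _ = a⁻¹ := by rw [ha2] }
  have hgen : ∀ g, Φ g ∈ T := by
    intro g
    have hle : Subgroup.closure (Set.range (Cfsg.Agent.Lib.Helper5_SteinbergA.mx (K := K))) ≤
        T.comap Φ := by
      rw [Subgroup.closure_le]
      rintro _ ⟨⟨b, t⟩, rfl⟩
      show Φ (Cfsg.Agent.Lib.Helper5_SteinbergA.mx (b, t)) ∈ T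
      cases b
      · rw [mx_false_eq, hΦ.hlo]
        exact ⟨Wn_mem hK _ _ _, hn _⟩
      · rw [mx_true_eq, hΦ.hup]
        exact ⟨Wp_mem hK _ _ _, hp _⟩
    rw [Cfsg.Agent.Lib.Helper5_SLPresA.closure_mx] at hle
    exact hle (Subgroup.mem_top g)
  refine ⟨fun g => (hgen g).1, fun g => (hgen g).2, ?_⟩
  intro hwe
  -- `Φ we` conjugates `Wp 0 1 0 ∈ U` to `Wn 0 1 0 ∈ V`
  have h1 : Φ we * Wp hK 0 1 0 * (Φ we)⁻¹ ∈ chevG2.posUnipotent K :=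
    diag_conj_U (Φ we) hwe (Wp hK 0 1 0) (Wp_memU hK 0 1 0)
  have h2 : Φ we * Wp hK 0 1 0 * (Φ we)⁻¹ = Wn hK 0 1 0 := by
    rw [← hΦ.hup, ← map_inv, ← map_mul, ← map_mul, we_conj_up, hΦ.hlo, neg_neg]
  rw [h2] at h1
  have h3 : Wn hK 0 1 0 ∈ chevG2.borelSubgroup K ⊓ chevG2.negUnipotent K :=
    ⟨(le_sup_left : chevG2.posUnipotent K ≤ chevG2.borelSubgroup K) h1, Wn_memV hK 0 1 0⟩
  rw [(Cfsg.Agent.S1037.result chevG2 hD).1, Subgroup.mem_bot] at h3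
  -- so `Φ (lo (-1)) = 1`, hence `Φ (up 1) = 1`
  have h4 : Φ (lo (-1)) = 1 := by rw [hΦ.hlo, neg_neg, h3]
  have h5 : Φ (up 1) = 1 := by
    have h6 : up (1 : K) = we⁻¹ * lo (-1) * we := by
      rw [← we_conj_up]
      group
    rw [h6, map_mul, map_mul, h4, mul_one, ← map_mul, inv_mul_cancel, map_one]
  rw [hΦ.hup] at h5
  have h7 : Wp hK 0 1 0 = Wp hK 0 0 0 := by
    rw [h5]
    unfold Wp
    rw [W_pos_zero]
    rfl
  have := (Wp_inj hK _ _ _ _ _ _ h7).2.1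
  exact one_ne_zero this

end

end Cfsg.Agent.Lib.Helper46_ReeCent_PHIMEM
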