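import Mathlib
import Cfsg.Agent.Lib.Helper37_InvCentDefs
import Cfsg.Agent.S0276
import Cfsg.Agent.S2471

set_option autoImplicit false

/-!
# REE-INV package PSLC (architect helper37): in characteristic 3, `q ≡ 3, 5 (mod 8)`, a Sylow 2-subgroup of
`PSL₂(q)` is its own centraliser, given that its normaliser has 12 elements
-/

namespace Cfsg.Agent.Lib.Helper60_ReeInv_PSLC

open Cfsg.Agent.Lib.Helper37_InvCentDefs

/-- a Klein four-subgroup with normaliser of order 12 in a group without elements of order 6 is its own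
centraliser -/
theorem centralizer_eq_of_klein {G : Type*} [Group G] [Finite G] (P : Subgroup G) (hK : IsKleinFour P)
    (h12 : Nat.card ↥(Subgroup.normalizer (P : Set G)) = 12) (hno6 : ∀ g : G, orderOf g ≠ 6) :
    Subgroup.centralizer (P : Set G) = P := by
  classical
  have hP4 : Nat.card P = 4 := hK.card_four
  have hsq : ∀ x ∈ P, x * x = 1 := by
    intro x hx
    have h1 : (⟨x, hx⟩ : P) ^ 2 = 1 := by
      have := Monoid.pow_exponent_eq_one (⟨x, hx⟩ : P)
      rwa [hK.exponent_two] at this
    have h2 := congrArg Subtype.val h1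
    simpa [sq] using h2
  have hcomm : ∀ x ∈ P, ∀ y ∈ P, x * y = y * x := by
    intro x hx y hy
    have hxy : (x * y) * (x * y) = 1 := hsq (x * y) (mul_mem hx hy)
    have hx2 := hsq x hx
    have hy2 := hsq y hy
    calc x * y = x * ((x * y) * (x * y)) * y := by rw [hxy, mul_one]
      _ = (x * x) * (y * x) * (y * y) := by group
      _ = y * x := by rw [hx2, hy2, one_mul, mul_one]
  have hPC : P ≤ Subgroup.centralizer (P : Set G) := by
    intro x hx
    rw [Subgroup.mem_centralizer_iff]
    intro y hy
    exact hcomm y hy x hx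
  have hCN : Subgroup.centralizer (P : Set G) ≤ Subgroup.normalizer (P : Set G) :=
    Subgroup.centralizer_le_normalizer _
  have hd1 : Nat.card P ∣ Nat.card ↥(Subgroup.centralizer (P : Set G)) := Subgroup.card_dvd_of_le hPC
  have hd2 : Nat.card ↥(Subgroup.centralizer (P : Set G)) ∣ 12 := by
    rw [← h12]; exact Subgroup.card_dvd_of_le hCN
  rw [hP4] at hd1
  have hC : Nat.card ↥(Subgroup.centralizer (P : Set G)) = 4 ∨
      Nat.card ↥(Subgroup.centralizer (P : Set G)) = 12 := by
    have hle : Nat.card ↥(Subgroup.centralizer (P : Set G)) ≤ 12 := Nat.le_of_dvd (by norm_num) hd2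
    obtain ⟨k, hk⟩ := hd1
    rw [hk] at hd2 hle ⊢
    have : k ≤ 3 := by omega
    interval_cases k
    · simp at hd2
    · left; rfl
    · norm_num at hd2
    · right; rfl
  rcases hC with hC | hC
  · symm
    apply Subgroup.eq_of_le_of_card_ge hPC
    rw [hC, hP4]
  · exfalso
    -- an element of order 3 in the centraliser
    have : Fact (Nat.Prime 3) := ⟨Nat.prime_three⟩
    obtain ⟨x, hx⟩ := exists_prime_orderOf_dvd_card' (G := ↥(Subgroup.centralizer (P : Set G))) 3
      (by rw [hC]; norm_num)
    -- a non-identity element of `P`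
    have hnt : Nontrivial P := by
      rw [← Finite.one_lt_card_iff_nontrivial, hP4]; norm_num
    obtain ⟨v, hv⟩ := exists_ne (1 : P)
    have hv2 : orderOf (v : G) = 2 := by
      apply orderOf_eq_prime
      · rw [sq]; exact hsq v v.2
      · intro h
        apply hv
        exact Subtype.ext h
    have hx3 : orderOf (x : G) = 3 := by
      rw [Subgroup.orderOf_coe]; exact hx
    have hcm : Commute (x : G) (v : G) := by
      have := (Subgroup.mem_centralizer_iff.1 x.2) (v : G) v.2
      exact this.symm
    have h6 := hcm.orderOf_mul_eq_mul_orderOf_of_coprime (by rw [hx3, hv2]; norm_num)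
    rw [hx3, hv2] at h6
    exact hno6 _ h6

section psl

variable {F : Type*} [Field F] [Fintype F]

theorem centralizer_psl [CharP F 3] (h5 : 5 ≤ Fintype.card F)
    (hq : Fintype.card F % 8 = 3 ∨ Fintype.card F % 8 = 5)
    (P : Sylow 2 (Matrix.ProjectiveSpecialLinearGroup (Fin 2) F))
    (h12 : Nat.card ↥(Subgroup.normalizer ((P : Subgroup (Matrix.ProjectiveSpecialLinearGroup (Fin 2) F)) :
      Set (Matrix.ProjectiveSpecialLinearGroup (Fin 2) F))) = 12) :
    Subgroup.centralizer ((P : Subgroup (Matrix.ProjectiveSpecialLinearGroup (Fin 2) F)) :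
      Set (Matrix.ProjectiveSpecialLinearGroup (Fin 2) F)) = P := by
  classical
  have hK : IsKleinFour (P : Subgroup (Matrix.ProjectiveSpecialLinearGroup (Fin 2) F)) :=
    Cfsg.Agent.S0276.result rfl hq P
  have : Fact (Nat.Prime 3) := ⟨Nat.prime_three⟩
  exact centralizer_eq_of_klein _ hK h12
    (fun g => Cfsg.Agent.S2471.result (F := F) 3 (by norm_num) h5 g)

end psl

end Cfsg.Agent.Lib.Helper60_ReeInv_PSLC
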