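import Mathlib

/-!
REE-INV package ISO (helper37's market, S1152): if `Φ : SL₂(F) → G` has kernel the centre, its image
centralises the involution `a`, does not contain `a`, and `C_G(a) = L ∪ aL`, then
`C_G(a) ≃* Z₂ × PSL₂(F)`.  helper63.
-/

set_option autoImplicit false

namespace Cfsg.Agent.Lib.Helper63_ReeInv_ISO

/-- the homomorphism `Z₂ → G`, `1 ↦ a`, for an element with `a * a = 1` -/
def alpha {G : Type*} [Group G] (a : G) (ha : a * a = 1) : Multiplicative (ZMod 2) →* G where
  toFun i := a ^ (Multiplicative.toAdd i).val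
  map_one' := by
    show a ^ (Multiplicative.toAdd (1 : Multiplicative (ZMod 2))).val = 1
    rw [toAdd_one, ZMod.val_zero, pow_zero]
  map_mul' i j := by
    show a ^ (Multiplicative.toAdd (i * j)).val =
      a ^ (Multiplicative.toAdd i).val * a ^ (Multiplicative.toAdd j).val
    have h2 : a ^ 2 = 1 := by rw [pow_two]; exact ha
    rw [toAdd_mul, ZMod.val_add, ← pow_add, ← pow_eq_pow_mod _ h2]

theorem alpha_cases {G : Type*} [Group G] (a : G) (ha : a * a = 1) (i : Multiplicative (ZMod 2)) :
    (i = 1 ∧ alpha a ha i = 1) ∨ (i = Multiplicative.ofAdd 1 ∧ alpha a ha i = a) := by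
  have h : Multiplicative.toAdd i = 0 ∨ Multiplicative.toAdd i = 1 := by
    generalize Multiplicative.toAdd i = k
    fin_cases k
    · left; rfl
    · right; rfl
  rcases h with h | h
  · left
    refine ⟨Multiplicative.toAdd.injective h, ?_⟩
    show a ^ (Multiplicative.toAdd i).val = 1
    rw [h, ZMod.val_zero, pow_zero]
  · right
    refine ⟨Multiplicative.toAdd.injective h, ?_⟩
    show a ^ (Multiplicative.toAdd i).val = a
    rw [h, ZMod.val_one, pow_one]

theorem iso_of_phi {G : Type*} [Group G] {F : Type*} [Field F] (a : G) (ha : a * a = 1) (ha1 : a ≠ 1)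
    (Φ : Matrix.SpecialLinearGroup (Fin 2) F →* G)
    (hker : Φ.ker = Subgroup.center (Matrix.SpecialLinearGroup (Fin 2) F))
    (hcomm : ∀ g : Matrix.SpecialLinearGroup (Fin 2) F, a * Φ g = Φ g * a) (hnot : a ∉ Φ.range)
    (hcov : ∀ x : G, a * x = x * a → x ∈ Φ.range ∨ a * x ∈ Φ.range) :
    Nonempty (↥(Subgroup.centralizer ({a} : Set G)) ≃*
      Multiplicative (ZMod 2) × Matrix.ProjectiveSpecialLinearGroup (Fin 2) F) := by
  -- the induced map on `PSL₂`
  let Φb : Matrix.ProjectiveSpecialLinearGroup (Fin 2) F →* G :=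
    QuotientGroup.lift (Subgroup.center (Matrix.SpecialLinearGroup (Fin 2) F)) Φ
      (fun x hx => by rw [← hker] at hx; exact hx)
  have hΦb : ∀ g : Matrix.SpecialLinearGroup (Fin 2) F,
      Φb (QuotientGroup.mk g) = Φ g := fun g => rfl
  have hΦb_range : ∀ x, Φb x ∈ Φ.range := by
    intro x
    induction x using QuotientGroup.induction_on with
    | H g => exact ⟨g, rfl⟩
  have hΦb_inj : ∀ x, Φb x = 1 → x = 1 := by
    intro x
    induction x using QuotientGroup.induction_on with
    | H g =>
      intro h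
      have hg : g ∈ Φ.ker := h
      rw [hker] at hg
      exact (QuotientGroup.eq_one_iff g).2 hg
  have hΦb_comm : ∀ x, Commute a (Φb x) := by
    intro x
    induction x using QuotientGroup.induction_on with
    | H g => exact hcomm g
  have hainv : a⁻¹ = a := inv_eq_of_mul_eq_one_left ha
  have hcommAll : ∀ (i : Multiplicative (ZMod 2))
      (x : Matrix.ProjectiveSpecialLinearGroup (Fin 2) F), Commute (alpha a ha i) (Φb x) := by
    intro i x
    exact (hΦb_comm x).pow_left _
  let ψ0 : Multiplicative (ZMod 2) × Matrix.ProjectiveSpecialLinearGroup (Fin 2) F →* G :=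
    MonoidHom.noncommCoprod (alpha a ha) Φb hcommAll
  have hψ0 : ∀ i x, ψ0 (i, x) = alpha a ha i * Φb x := fun i x => rfl
  have hmem : ∀ p, ψ0 p ∈ Subgroup.centralizer ({a} : Set G) := by
    rintro ⟨i, x⟩
    rw [Subgroup.mem_centralizer_iff]
    intro h hh
    rw [Set.mem_singleton_iff] at hh
    subst hh
    rw [hψ0]
    have h1 : Commute h (alpha h ha i) := (Commute.refl h).pow_right _
    exact (h1.mul_right (hΦb_comm x)).eq
  let ψ : Multiplicative (ZMod 2) × Matrix.ProjectiveSpecialLinearGroup (Fin 2) F →*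
      ↥(Subgroup.centralizer ({a} : Set G)) := ψ0.codRestrict _ hmem
  have hψ : ∀ p, (ψ p : G) = ψ0 p := fun p => rfl
  have hinj : Function.Injective ψ := by
    rw [injective_iff_map_eq_one]
    rintro ⟨i, x⟩ h
    have h1 : ψ0 (i, x) = 1 := by rw [← hψ, h]; rfl
    rw [hψ0] at h1
    rcases alpha_cases a ha i with ⟨hi, hα⟩ | ⟨hi, hα⟩
    · rw [hα, one_mul] at h1
      rw [hi, hΦb_inj x h1]
      rfl
    · exfalso
      rw [hα] at h1
      apply hnot
      have h2 : a = (Φb x)⁻¹ := eq_inv_of_mul_eq_one_left h1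
      rw [h2]
      exact Φ.range.inv_mem (hΦb_range x)
  have hsurj : Function.Surjective ψ := by
    rintro ⟨y, hy⟩
    have hay : a * y = y * a := by
      rw [Subgroup.mem_centralizer_iff] at hy
      exact hy a (Set.mem_singleton a)
    rcases hcov y hay with ⟨g, hg⟩ | ⟨g, hg⟩
    · refine ⟨(1, QuotientGroup.mk g), ?_⟩
      apply Subtype.ext
      rw [hψ, hψ0, map_one, one_mul, hΦb]
      exact hg
    · refine ⟨(Multiplicative.ofAdd 1, QuotientGroup.mk g), ?_⟩
      apply Subtype.ext
      rw [hψ, hψ0, hΦb, hg]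
      rcases alpha_cases a ha (Multiplicative.ofAdd 1) with ⟨hi, -⟩ | ⟨-, hα⟩
      · exfalso
        have : (1 : ZMod 2) = 0 := congrArg Multiplicative.toAdd hi
        exact one_ne_zero this
      · rw [hα, ← mul_assoc, ha, one_mul]
  exact ⟨(MulEquiv.ofBijective ψ ⟨hinj, hsurj⟩).symm⟩

end Cfsg.Agent.Lib.Helper63_ReeInv_ISO
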