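import Mathlib
import Cfsg.Agent.S0276
import Cfsg.Agent.S0807

/-!
# REE-INV package PSLN (helper37's market, S1157)

For `q ≡ 3, 5 (mod 8)` the normaliser of a Sylow 2-subgroup of `PSL₂(q)` has 12 elements: the Sylow
2-subgroups are exactly the Klein four-subgroups (`Cfsg.Agent.S0276.result`), their number is the
index of the normaliser, and `12 *` that number is `|PSL₂(q)|` (`Cfsg.Agent.S0807.result`).
-/

set_option autoImplicit false

namespace Cfsg.Agent.Lib.Helper65_ReeInv_PSLN

variable {F : Type*} [Field F] [Fintype F]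

theorem card_normalizer_psl (hq : Fintype.card F % 8 = 3 ∨ Fintype.card F % 8 = 5)
    (P : Sylow 2 (Matrix.ProjectiveSpecialLinearGroup (Fin 2) F)) :
    Nat.card ↥(Subgroup.normalizer ((P : Subgroup (Matrix.ProjectiveSpecialLinearGroup (Fin 2) F)) :
      Set (Matrix.ProjectiveSpecialLinearGroup (Fin 2) F))) = 12 := by
  have : Fact (Nat.Prime 2) := ⟨Nat.prime_two⟩
  have hodd : Odd (Fintype.card F) := by
    rw [Nat.odd_iff]
    omega
  have hK : ∀ Q : Sylow 2 (Matrix.ProjectiveSpecialLinearGroup (Fin 2) F),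
      IsKleinFour (Q : Subgroup (Matrix.ProjectiveSpecialLinearGroup (Fin 2) F)) :=
    fun Q => Cfsg.Agent.S0276.result rfl hq Q
  have h4 : (2 : ℕ) ^ (Nat.card (Matrix.ProjectiveSpecialLinearGroup (Fin 2) F)).factorization 2 = 4 := by
    rw [← Sylow.card_eq_multiplicity P]
    exact (hK P).card_four
  -- the Klein four-subgroups are the Sylow 2-subgroups
  have e : {V : Subgroup (Matrix.ProjectiveSpecialLinearGroup (Fin 2) F) // IsKleinFour V} ≃
      Sylow 2 (Matrix.ProjectiveSpecialLinearGroup (Fin 2) F) :=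
    { toFun := fun V => Sylow.ofCard V.1 (by rw [h4]; exact V.2.card_four)
      invFun := fun Q => ⟨Q, hK Q⟩
      left_inv := fun V => Subtype.ext rfl
      right_inv := fun Q => Sylow.ext rfl }
  have h1 := Cfsg.Agent.S0807.result (F := F) rfl hodd
  rw [Nat.card_congr e, Sylow.card_eq_index_normalizer P] at h1
  have h2 := Subgroup.card_mul_index
    (Subgroup.normalizer ((P : Subgroup (Matrix.ProjectiveSpecialLinearGroup (Fin 2) F)) :
      Set (Matrix.ProjectiveSpecialLinearGroup (Fin 2) F)))
  have hpos : 0 < (Subgroup.normalizer ((P : Subgroup (Matrix.ProjectiveSpecialLinearGroup (Fin 2) F)) :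
      Set (Matrix.ProjectiveSpecialLinearGroup (Fin 2) F))).index := by
    apply Nat.pos_of_ne_zero
    exact Subgroup.index_ne_zero_of_finite
  rw [← h1] at h2
  exact Nat.eq_of_mul_eq_mul_right hpos h2

end Cfsg.Agent.Lib.Helper65_ReeInv_PSLN
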