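import Mathlib

/-!
# S1157 package TRANSPORT (architect helper37, proof helper69)

Transport of a self-centralising four-group `P ≤ Q` with `|N_Q(P)| = 12` along an isomorphism
`e : Q ≃* L`, `L ≤ G`.
-/

set_option autoImplicit false

namespace Cfsg.Agent.Lib.Helper69_ReeInv_TRANSPORT

theorem transport {G Q : Type*} [Group G] [Group Q] (L : Subgroup G) (e : Q ≃* ↥L) (P : Subgroup Q)
    (h4 : Nat.card P = 4) (h2 : ∀ x ∈ P, x * x = 1) (hc : Subgroup.centralizer (P : Set Q) = P)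
    (hn : Nat.card ↥(Subgroup.normalizer (P : Set Q)) = 12) :
    ∃ V : Subgroup G, V ≤ L ∧ Nat.card V = 4 ∧ (∀ v ∈ V, v * v = 1) ∧
      (∀ x ∈ L, (∀ v ∈ V, x * v = v * x) → x ∈ V) ∧
      Nat.card {x : G // x ∈ L ∧ ∀ v, v ∈ V ↔ x * v * x⁻¹ ∈ V} = 12 := by
  obtain ⟨ι, hι⟩ : ∃ ι : Q →* G, ∀ y, ι y = ((e y : ↥L) : G) :=
    ⟨L.subtype.comp e.toMonoidHom, fun y => rfl⟩
  have hinj : Function.Injective ι := by
    intro y y' h
    rw [hι, hι] at h
    exact e.injective (Subtype.ext h)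
  have hιL : ∀ y, ι y ∈ L := by
    intro y
    rw [hι]
    exact (e y).2
  have hsurj : ∀ x ∈ L, ∃ y, ι y = x := by
    intro x hx
    refine ⟨e.symm ⟨x, hx⟩, ?_⟩
    rw [hι, MulEquiv.apply_symm_apply]
  have hmemV : ∀ p, ι p ∈ P.map ι ↔ p ∈ P := fun p => Subgroup.mem_map_iff_mem hinj
  refine ⟨P.map ι, ?_, ?_, ?_, ?_, ?_⟩
  · rintro _ ⟨p, -, rfl⟩
    exact hιL p
  · rw [Subgroup.card_map_of_injective hinj, h4]
  · rintro _ ⟨p, hp, rfl⟩
    rw [← map_mul, h2 p hp, map_one]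
  · intro x hx hcomm
    obtain ⟨y, rfl⟩ := hsurj x hx
    rw [hmemV, ← hc, Subgroup.mem_centralizer_iff]
    intro p hp
    apply hinj
    rw [map_mul, map_mul]
    exact (hcomm (ι p) ((hmemV p).mpr hp)).symm
  · rw [← hn]
    symm
    have hwell : ∀ y : ↥(Subgroup.normalizer (P : Set Q)),
        ι y.1 ∈ L ∧ ∀ v, v ∈ P.map ι ↔ ι y.1 * v * (ι y.1)⁻¹ ∈ P.map ι := by
      intro y
      refine ⟨hιL y.1, ?_⟩
      intro v
      constructor
      · rintro ⟨p, hp, rfl⟩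
        rw [← map_inv, ← map_mul, ← map_mul, hmemV]
        exact (Subgroup.mem_normalizer_iff.mp y.2 p).mp hp
      · rintro ⟨p₂, hp₂, hv⟩
        have hyinv : y.1⁻¹ ∈ Subgroup.normalizer (P : Set Q) := inv_mem y.2
        have h1 := (Subgroup.mem_normalizer_iff.mp hyinv p₂).mp hp₂
        rw [inv_inv] at h1
        have h3 : v = ι (y.1⁻¹ * p₂ * y.1) := by
          rw [map_mul, map_mul, map_inv, hv]
          group
        rw [h3, hmemV]
        exact h1
    apply Nat.card_congr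
    refine Equiv.ofBijective (fun y => ⟨ι y.1, hwell y⟩) ⟨?_, ?_⟩
    · intro y y' h
      have h1 : ι y.1 = ι y'.1 := congrArg Subtype.val h
      exact Subtype.ext (hinj h1)
    · rintro ⟨x, hxL, hxV⟩
      obtain ⟨y, rfl⟩ := hsurj x hxL
      have hy : y ∈ Subgroup.normalizer (P : Set Q) := by
        rw [Subgroup.mem_normalizer_iff]
        intro p
        rw [← hmemV p, hxV (ι p), ← map_inv, ← map_mul, ← map_mul, hmemV]
      exact ⟨⟨y, hy⟩, rfl⟩

end Cfsg.Agent.Lib.Helper69_ReeInv_TRANSPORT
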