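import Cfsg.Agent.Lib.Helper36_ChevWeyl

set_option autoImplicit false

/-!
Generation of the Chevalley group by the fundamental root elements `x_{±p_i}(t)`, from a certificate:
a list of triples `(i, s, η)` such that the roots `w_i s` successively reach every root from the fundamental
roots and their negatives, each triple passing the check of `n_i x_s(t) = x_{w_i s}(η t) n_i`.
-/

namespace Cfsg.Agent.Lib.Helper36_ChevGen

open Cfsg Cfsg.Lie Cfsg.Agent.Lib.Helper36_ChevSparse Cfsg.Agent.Lib.Helper36_ChevCoeff
  Cfsg.Agent.Lib.Helper36_ChevAdd Cfsg.Agent.Lib.Helper36_ChevWeyl Cfsg.Agent.Lib.Helper36_ChevIdx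

variable (D : ChevalleyDatum)

/-- The fundamental root elements and their negatives, as a set of invertible matrices. -/
def fundGens (F : Type*) [Field F] : Set (GL D.Idx F) :=
  {g | ∃ i < D.rank, ∃ t : F, (g : Matrix D.Idx D.Idx F) = D.x F (D.simple i) t ∨
    (g : Matrix D.Idx D.Idx F) = D.x F (D.neg (D.simple i)) t}

/-- The subgroup generated by the fundamental root elements and their negatives. -/
def fundSubgroup (F : Type*) [Field F] : Subgroup (GL D.Idx F) := Subgroup.closure (fundGens D F)

/-- The check for one triple `(i, s, η)` of the certificate: `w_i s` is a root index, `η = ±1`, and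
`n_i E_{s,1} = η E_{w_i s,1} n_i`. -/
def pairCheck (k : ℕ) (Nl : NLits) (p : ℕ × ℕ × ℤ) : Bool :=
  decide (D.reflectRoot p.1 p.2.1 < D.nroots) && (p.2.2 == 1 || p.2.2 == -1) &&
    conjCheckEta D k (Nl.getD p.1 ([], [])).1 (Nl.getD p.1 ([], [])).2 p.1 p.2.1 p.2.2

/-- All triples of a certificate pass the check. -/
def PairsOK (k : ℕ) (Nl : NLits) (T : List (ℕ × ℕ × ℤ)) : Prop := ∀ p ∈ T, pairCheck D k Nl p = true

instance (k : ℕ) (Nl : NLits) (T : List (ℕ × ℕ × ℤ)) : Decidable (PairsOK D k Nl T) := by
  unfold PairsOK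
  infer_instance

theorem pairsOK_append (k : ℕ) (Nl : NLits) (T1 T2 : List (ℕ × ℕ × ℤ)) (h1 : PairsOK D k Nl T1)
    (h2 : PairsOK D k Nl T2) : PairsOK D k Nl (T1 ++ T2) := by
  intro p hp
  rcases List.mem_append.mp hp with h | h
  · exact h1 p h
  · exact h2 p h

/-- One step of the reachability bookkeeping. -/
def reachStep (R : List ℕ) (p : ℕ × ℕ × ℤ) : Option (List ℕ) :=
  if p.1 < D.rank ∧ p.2.1 ∈ R then some (D.reflectRoot p.1 p.2.1 :: R) else none

/-- Running the reachability bookkeeping. -/
def reachRun : List (ℕ × ℕ × ℤ) → List ℕ → Option (List ℕ)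
  | [], R => some R
  | p :: T, R => match reachStep D R p with
    | some R' => reachRun T R'
    | none => none

/-- The fundamental roots and their negatives. -/
def initReached : List ℕ := (List.range D.rank).flatMap fun i => [D.simple i, D.neg (D.simple i)]

/-- The reachability check: starting from the fundamental roots and their negatives, the steps reach all roots. -/
def reachCheck (T : List (ℕ × ℕ × ℤ)) : Bool :=
  match reachRun D T (initReached D) with
  | some R => (List.range D.nroots).all fun r => R.contains r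
  | none => false

section
variable (hlen : ChainLenOK D) (hadd : AddOK D) (hsimple : SimpleOK D) (Nl : NLits) (hNl : NLitOK D Nl)
  (F : Type*) [Field F] (k : ℕ)

/-- every root in the list is a root index whose root elements lie in the subgroup -/
def Good (R : List ℕ) : Prop :=
  ∀ r ∈ R, r < D.nroots ∧ ∀ t : F, xGL D hlen hadd F r t ∈ fundSubgroup D F

include hsimple in
theorem good_init : Good D hlen hadd F (initReached D) := by
  intro r hr
  unfold initReached at hr
  rw [List.mem_flatMap] at hr
  obtain ⟨i, hi, hr⟩ := hr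
  rw [List.mem_range] at hi
  simp only [List.mem_cons, List.not_mem_nil, or_false] at hr
  obtain ⟨h1, h2⟩ := hsimple i hi
  rcases hr with rfl | rfl
  · exact ⟨h1, fun t => Subgroup.subset_closure ⟨i, hi, t, Or.inl rfl⟩⟩
  · exact ⟨h2, fun t => Subgroup.subset_closure ⟨i, hi, t, Or.inr rfl⟩⟩

/-- `n_i` as an element of the general linear group. -/
noncomputable def nGL (i : ℕ) : GL D.Idx F :=
  xGL D hlen hadd F (D.simple i) 1 * (xGL D hlen hadd F (D.neg (D.simple i)) (-1) * xGL D hlen hadd F (D.simple i) 1)

theorem nGL_coe (i : ℕ) : ((nGL D hlen hadd F i : GL D.Idx F) : Matrix D.Idx D.Idx F) = D.nMat F (D.simple i) 1 := by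
  unfold nGL ChevalleyDatum.nMat ChevalleyDatum.nWord ChevalleyDatum.wordMat
  simp only [List.map_cons, List.map_nil, List.prod_cons, List.prod_nil, mul_one, inv_one, Units.val_mul, xGL_coe]

theorem nGL_mem (i : ℕ) (hi : i < D.rank) : nGL D hlen hadd F i ∈ fundSubgroup D F := by
  unfold nGL
  refine Subgroup.mul_mem _ ?_ (Subgroup.mul_mem _ ?_ ?_)
  · exact Subgroup.subset_closure ⟨i, hi, 1, Or.inl rfl⟩
  · exact Subgroup.subset_closure ⟨i, hi, -1, Or.inr rfl⟩
  · exact Subgroup.subset_closure ⟨i, hi, 1, Or.inl rfl⟩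

include hlen hadd hsimple hNl in
/-- From the check of a triple: `n_i x_s(t) = x_{w_i s}(η t) n_i`. -/
theorem nMat_mul_x_of_pairCheck (p : ℕ × ℕ × ℤ) (hi : p.1 < D.rank) (hs : p.2.1 < D.nroots)
    (h : pairCheck D k Nl p = true) :
    D.reflectRoot p.1 p.2.1 < D.nroots ∧ (p.2.2 = 1 ∨ p.2.2 = -1) ∧ ∀ t : F,
      D.nMat F (D.simple p.1) 1 * D.x F p.2.1 t =
        D.x F (D.reflectRoot p.1 p.2.1) ((p.2.2 : F) * t) * D.nMat F (D.simple p.1) 1 := by
  unfold pairCheck at h
  simp only [Bool.and_eq_true, Bool.or_eq_true, decide_eq_true_eq, beq_iff_eq] at h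
  obtain ⟨⟨hs', hη⟩, hc⟩ := h
  exact ⟨hs', hη, nMat_mul_x_of_rel D hlen hadd hsimple F p.1 p.2.1 hi hs hs' p.2.2
    (NZ_E1 D k _ _ p.1 p.2.1 p.2.2 (hNl p.1 hi) hc)⟩

include hsimple hNl in
theorem good_step (R : List ℕ) (hR : Good D hlen hadd F R) (p : ℕ × ℕ × ℤ) (R' : List ℕ)
    (hp : pairCheck D k Nl p = true) (h : reachStep D R p = some R') : Good D hlen hadd F R' := by
  unfold reachStep at h
  split_ifs at h with hc
  obtain ⟨hi, hmem⟩ := hc
  simp only [Option.some.injEq] at h
  subst h
  obtain ⟨hs, hsmem⟩ := hR p.2.1 hmem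
  obtain ⟨hs', hη, hconj⟩ := nMat_mul_x_of_pairCheck D hlen hadd hsimple Nl hNl F k p hi hs hp
  intro r hr
  rw [List.mem_cons] at hr
  rcases hr with rfl | hr
  · refine ⟨hs', fun t => ?_⟩
    have hηη : (p.2.2 : F) * ((p.2.2 : F) * t) = t := by
      rcases hη with h | h <;> rw [h] <;> simp
    have heq : xGL D hlen hadd F (D.reflectRoot p.1 p.2.1) t =
        nGL D hlen hadd F p.1 * xGL D hlen hadd F p.2.1 ((p.2.2 : F) * t) * (nGL D hlen hadd F p.1)⁻¹ := by
      rw [eq_mul_inv_iff_mul_eq]
      apply Units.ext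
      rw [Units.val_mul, Units.val_mul, xGL_coe, xGL_coe, nGL_coe, hconj, hηη]
    rw [heq]
    exact Subgroup.mul_mem _ (Subgroup.mul_mem _ (nGL_mem D hlen hadd F p.1 hi) (hsmem _))
      (Subgroup.inv_mem _ (nGL_mem D hlen hadd F p.1 hi))
  · exact hR r hr

include hsimple hNl in
theorem good_run (T : List (ℕ × ℕ × ℤ)) : ∀ (R R' : List ℕ), Good D hlen hadd F R → PairsOK D k Nl T →
    reachRun D T R = some R' → Good D hlen hadd F R' := by
  induction T with
  | nil =>
    intro R R' hR _ h
    simp only [reachRun, Option.some.injEq] at h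
    subst h
    exact hR
  | cons p T ih =>
    intro R R' hR hT h
    simp only [reachRun] at h
    cases hstep : reachStep D R p with
    | none => rw [hstep] at h; simp at h
    | some R1 =>
      rw [hstep] at h
      exact ih R1 R' (good_step D hlen hadd hsimple Nl hNl F k R hR p R1 (hT p List.mem_cons_self) hstep)
        (fun q hq => hT q (List.mem_cons_of_mem _ hq)) h

include hsimple hNl in
/-- From a valid certificate: every root element lies in the subgroup generated by the fundamental root elements. -/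
theorem x_mem_fundSubgroup (T : List (ℕ × ℕ × ℤ)) (hT : PairsOK D k Nl T) (hreach : reachCheck D T = true)
    (r : ℕ) (hr : r < D.nroots) (t : F) :
    xGL D hlen hadd F r t ∈ fundSubgroup D F := by
  unfold reachCheck at hreach
  cases hrun : reachRun D T (initReached D) with
  | none => rw [hrun] at hreach; simp at hreach
  | some R =>
    rw [hrun] at hreach
    simp only [List.all_eq_true, List.mem_range] at hreach
    have hmem : r ∈ R := by simpa using hreach r hr
    exact ((good_run D hlen hadd hsimple Nl hNl F k T _ R (good_init D hlen hadd hsimple F) hT hrun) r hmem).2 t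

include hlen hadd hsimple hNl in
/-- From a valid certificate: the Chevalley group is generated by the fundamental root elements and their negatives. -/
theorem group_eq_fundSubgroup (T : List (ℕ × ℕ × ℤ)) (hT : PairsOK D k Nl T) (hreach : reachCheck D T = true) :
    D.group F = fundSubgroup D F := by
  apply le_antisymm
  · unfold ChevalleyDatum.group
    rw [Subgroup.closure_le]
    rintro g ⟨r, t, hg⟩
    have : g = xGL D hlen hadd F r.val t := by
      apply Units.ext
      rw [hg, xGL_coe]
      unfold ChevalleyDatum.x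
      rw [dif_pos r.isLt]
    rw [this]
    exact x_mem_fundSubgroup D hlen hadd hsimple Nl hNl F k T hT hreach r.val r.isLt t
  · unfold fundSubgroup
    rw [Subgroup.closure_le]
    rintro g ⟨i, hi, t, hg | hg⟩
    · obtain ⟨h1, _⟩ := hsimple i hi
      apply Subgroup.subset_closure
      refine ⟨⟨D.simple i, h1⟩, t, ?_⟩
      rw [hg]; unfold ChevalleyDatum.x; rw [dif_pos h1]
    · obtain ⟨_, h2⟩ := hsimple i hi
      apply Subgroup.subset_closure
      refine ⟨⟨D.neg (D.simple i), h2⟩, t, ?_⟩
      rw [hg]; unfold ChevalleyDatum.x; rw [dif_pos h2]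

end

end Cfsg.Agent.Lib.Helper36_ChevGen
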