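import Cfsg.Agent.Lib.Helper36_ChevH
import Cfsg.Agent.Lib.Helper36_ChevGen

set_option autoImplicit false

/-!
The elements `n_r(c)` and `h_r(c)` for all roots `r`: conjugation by the `n_i`, the squares `n_r(c)²` do not
depend on `c`, and `h_r(t₁) h_r(t₂) = h_r(t₁ t₂)`, by induction along a reachability certificate.
-/

namespace Cfsg.Agent.Lib.Helper36_ChevHAll

open Cfsg Cfsg.Lie Cfsg.Agent.Lib.Helper36_ChevSparse Cfsg.Agent.Lib.Helper36_ChevCoeff
  Cfsg.Agent.Lib.Helper36_ChevCoo Cfsg.Agent.Lib.Helper36_ChevAdd Cfsg.Agent.Lib.Helper36_ChevIdx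
  Cfsg.Agent.Lib.Helper36_ChevWeyl Cfsg.Agent.Lib.Helper36_ChevGen Cfsg.Agent.Lib.Helper36_ChevH

variable (D : ChevalleyDatum)

section
variable (hlen : ChainLenOK D) (hadd : AddOK D) (F : Type*) [Field F]

theorem nMat_eq_prod (r : ℕ) (c : F) :
    D.nMat F r c = D.x F r c * (D.x F (D.neg r) (-c⁻¹) * D.x F r c) := by
  unfold ChevalleyDatum.nMat ChevalleyDatum.nWord ChevalleyDatum.wordMat
  simp only [List.map_cons, List.map_nil, List.prod_cons, List.prod_nil, mul_one]

include hlen hadd in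
theorem x_neg_mul (r : ℕ) (c : F) : D.x F r (-c) * D.x F r c = 1 := by
  rw [x_add D hlen hadd F, neg_add_cancel, x_zero D hlen F]

include hlen hadd in
theorem x_mul_neg (r : ℕ) (c : F) : D.x F r c * D.x F r (-c) = 1 := by
  rw [x_add D hlen hadd F, add_neg_cancel, x_zero D hlen F]

include hlen hadd in
/-- `n_r(-c) n_r(c) = 1`. -/
theorem nMat_neg_mul (r : ℕ) (c : F) : D.nMat F r (-c) * D.nMat F r c = 1 := by
  rw [nMat_eq_prod, nMat_eq_prod]
  have e : -(-c)⁻¹ = -(-c⁻¹) := by rw [inv_neg]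
  rw [e]
  calc D.x F r (-c) * (D.x F (D.neg r) (-(-c⁻¹)) * D.x F r (-c)) *
        (D.x F r c * (D.x F (D.neg r) (-c⁻¹) * D.x F r c))
      = D.x F r (-c) * (D.x F (D.neg r) (-(-c⁻¹)) * ((D.x F r (-c) * D.x F r c) *
          (D.x F (D.neg r) (-c⁻¹) * D.x F r c))) := by simp only [Matrix.mul_assoc]
    _ = D.x F r (-c) * ((D.x F (D.neg r) (-(-c⁻¹)) * D.x F (D.neg r) (-c⁻¹)) * D.x F r c) := by
        rw [x_neg_mul D hlen hadd F, Matrix.one_mul]; simp only [Matrix.mul_assoc]
    _ = 1 := by rw [x_neg_mul D hlen hadd F, Matrix.one_mul, x_neg_mul D hlen hadd F]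

include hlen hadd in
/-- `n_r(c) n_r(-c) = 1`. -/
theorem nMat_mul_neg (r : ℕ) (c : F) : D.nMat F r c * D.nMat F r (-c) = 1 := by
  have := nMat_neg_mul D hlen hadd F r (-c)
  rwa [neg_neg] at this

theorem hMat_eq (r : ℕ) (c : F) : D.hMat F r c = D.nMat F r c * D.nMat F r (-1) := hMat_eq_mul D F r c

end

section
variable (hlen : ChainLenOK D) (hadd : AddOK D) (hsimple : SimpleOK D) (Nl : NLits) (hNl : NLitOK D Nl)
  (F : Type*) [Field F] (k : ℕ)

/-- The data for conjugating `n_s(c)` by `n_i`: the checked relations for `(i, s)` and `(i, -s)` with the same sign,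
and compatibility of the reflection with negation. -/
def ConjPair (i s : ℕ) (η : ℤ) : Prop :=
  i < D.rank ∧ s < D.nroots ∧ D.neg s < D.nroots ∧ pairCheck D k Nl (i, s, η) = true ∧
    pairCheck D k Nl (i, D.neg s, η) = true ∧ D.reflectRoot i (D.neg s) = D.neg (D.reflectRoot i s)

instance (i s : ℕ) (η : ℤ) : Decidable (ConjPair D Nl k i s η) := by
  unfold ConjPair
  infer_instance

include hlen hadd hsimple hNl in
/-- `n_i n_s(c) = n_{w_i s}(η c) n_i`. -/
theorem nMat_conj (i s : ℕ) (η : ℤ) (h : ConjPair D Nl k i s η) (c : F) :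
    D.reflectRoot i s < D.nroots ∧ D.neg (D.reflectRoot i s) < D.nroots ∧ (η = 1 ∨ η = -1) ∧
    D.nMat F (D.simple i) 1 * D.nMat F s c = D.nMat F (D.reflectRoot i s) ((η : F) * c) * D.nMat F (D.simple i) 1 := by
  obtain ⟨hi, hs, hns, h1, h2, h3⟩ := h
  obtain ⟨hr1, hη, e1⟩ := nMat_mul_x_of_pairCheck D hlen hadd hsimple Nl hNl F k (i, s, η) hi hs h1
  obtain ⟨hr2, -, e2⟩ := nMat_mul_x_of_pairCheck D hlen hadd hsimple Nl hNl F k (i, D.neg s, η) hi hns h2
  simp only at hr1 hη e1 hr2 e2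
  rw [h3] at hr2 e2
  refine ⟨hr1, hr2, hη, ?_⟩
  have einv : -((η : F) * c)⁻¹ = (η : F) * (-c⁻¹) := by
    rcases hη with h | h <;> rw [h] <;> simp [mul_inv]
  generalize hN : D.nMat F (D.simple i) 1 = N at e1 e2 ⊢
  rw [nMat_eq_prod D F s c, nMat_eq_prod D F (D.reflectRoot i s), einv]
  calc N * (D.x F s c * (D.x F (D.neg s) (-c⁻¹) * D.x F s c))
      = (N * D.x F s c) * (D.x F (D.neg s) (-c⁻¹) * D.x F s c) := by rw [Matrix.mul_assoc]
    _ = D.x F (D.reflectRoot i s) ((η : F) * c) * ((N * D.x F (D.neg s) (-c⁻¹)) * D.x F s c) := by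
        rw [e1]; simp only [Matrix.mul_assoc]
    _ = D.x F (D.reflectRoot i s) ((η : F) * c) * (D.x F (D.neg (D.reflectRoot i s)) ((η : F) * (-c⁻¹)) *
          (N * D.x F s c)) := by
        rw [e2]; simp only [Matrix.mul_assoc]
    _ = D.x F (D.reflectRoot i s) ((η : F) * c) * (D.x F (D.neg (D.reflectRoot i s)) ((η : F) * -c⁻¹) *
          D.x F (D.reflectRoot i s) ((η : F) * c)) * N := by
        rw [e1]; simp only [Matrix.mul_assoc]

/-- The properties of a root `r` carried along the certificate: the squares `n_r(c)²` do not depend on `c`,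
and `h_r` is multiplicative. -/
def GoodH (r : ℕ) : Prop :=
  r < D.nroots ∧ D.neg r < D.nroots ∧
    (∀ c : F, c ≠ 0 → D.nMat F r c * D.nMat F r c = D.nMat F r 1 * D.nMat F r 1) ∧
    (∀ t₁ t₂ : F, t₁ ≠ 0 → t₂ ≠ 0 → D.hMat F r t₁ * D.hMat F r t₂ = D.hMat F r (t₁ * t₂))

include hlen hadd in
/-- If the squares `n_r(c)²` do not depend on `c` then `n_r(-t) n_r(1) = n_r(t) n_r(-1) = h_r(t)`. -/
theorem nMat_neg_mul_one (r : ℕ)
    (hsq : ∀ c : F, c ≠ 0 → D.nMat F r c * D.nMat F r c = D.nMat F r 1 * D.nMat F r 1) (t : F) (ht : t ≠ 0) :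
    D.nMat F r (-t) * D.nMat F r 1 = D.hMat F r t := by
  rw [hMat_eq]
  -- multiply `n(t) n(t) = n(1) n(1)` by `n(-t)` on the left and `n(-1)` on the right
  have h1 := hsq t ht
  have e1 : D.nMat F r (-t) * (D.nMat F r t * D.nMat F r t) * D.nMat F r (-1) =
      D.nMat F r t * D.nMat F r (-1) := by
    rw [← Matrix.mul_assoc, nMat_neg_mul D hlen hadd F, Matrix.one_mul]
  have e2 : D.nMat F r (-t) * (D.nMat F r 1 * D.nMat F r 1) * D.nMat F r (-1) =
      D.nMat F r (-t) * D.nMat F r 1 := by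
    rw [Matrix.mul_assoc, Matrix.mul_assoc, nMat_mul_neg D hlen hadd F, Matrix.mul_one]
  rw [← e1, h1, e2]

include hlen hadd hsimple hNl in
/-- One step: from `s` to `w_i s`. Also `n_i h_s(t) = h_{w_i s}(t) n_i`. -/
theorem goodH_step (i s : ℕ) (η : ℤ) (h : ConjPair D Nl k i s η) (hs : GoodH D F s) :
    GoodH D F (D.reflectRoot i s) ∧ ∀ t : F, t ≠ 0 →
      D.nMat F (D.simple i) 1 * D.hMat F s t = D.hMat F (D.reflectRoot i s) t * D.nMat F (D.simple i) 1 := by
  obtain ⟨-, -, hsq, hmul⟩ := hs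
  have hconj := fun c => nMat_conj D hlen hadd hsimple Nl hNl F k i s η h c
  obtain ⟨hr1, hr2, hη, -⟩ := hconj 1
  have hi : i < D.rank := h.1
  set N := D.nMat F (D.simple i) 1 with hN
  set r' := D.reflectRoot i s with hr'
  -- `n_i` is invertible
  have hunit : IsUnit N := ⟨nGL D hlen hadd F i, nGL_coe D hlen hadd F i⟩
  -- conjugation in the form `n_{r'}(c) N = N n_s(η c)`
  have hηη : ∀ c : F, (η : F) * ((η : F) * c) = c := by
    intro c
    rcases hη with h | h <;> rw [h] <;> simp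
  have hc' : ∀ c : F, D.nMat F r' c * N = N * D.nMat F s ((η : F) * c) := by
    intro c
    have := (hconj ((η : F) * c)).2.2.2
    rw [hηη] at this
    exact this.symm
  have hη0 : (η : F) ≠ 0 := by
    rcases hη with h | h <;> rw [h] <;> simp
  -- squares
  have hsq' : ∀ c : F, c ≠ 0 → D.nMat F r' c * D.nMat F r' c = D.nMat F r' 1 * D.nMat F r' 1 := by
    intro c hc
    apply hunit.mul_left_injective
    show D.nMat F r' c * D.nMat F r' c * N = D.nMat F r' 1 * D.nMat F r' 1 * N
    rw [Matrix.mul_assoc, hc', ← Matrix.mul_assoc, hc', Matrix.mul_assoc, hsq _ (mul_ne_zero hη0 hc),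
      Matrix.mul_assoc (D.nMat F r' 1), hc', ← Matrix.mul_assoc (D.nMat F r' 1), hc', Matrix.mul_assoc,
      hsq _ (mul_ne_zero hη0 one_ne_zero)]
  -- conjugation of `h`
  have hh : ∀ t : F, t ≠ 0 → N * D.hMat F s t = D.hMat F r' t * N := by
    intro t ht
    rw [hMat_eq D F r' t, Matrix.mul_assoc, hc', ← Matrix.mul_assoc, hc', Matrix.mul_assoc]
    congr 1
    rcases hη with h | h
    · rw [h]
      simp only [Int.cast_one, one_mul]
      exact hMat_eq D F s t
    · rw [h]
      simp only [Int.cast_neg, Int.cast_one, neg_mul, one_mul, neg_neg]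
      exact (nMat_neg_mul_one D hlen hadd F s hsq t ht).symm
  refine ⟨⟨hr1, hr2, hsq', ?_⟩, hh⟩
  intro t₁ t₂ h₁ h₂
  apply hunit.mul_left_injective
  show D.hMat F r' t₁ * D.hMat F r' t₂ * N = D.hMat F r' (t₁ * t₂) * N
  rw [Matrix.mul_assoc, ← hh t₂ h₂, ← Matrix.mul_assoc, ← hh t₁ h₁, Matrix.mul_assoc, hmul t₁ t₂ h₁ h₂,
    hh _ (mul_ne_zero h₁ h₂)]

/-! ### the fundamental roots -/

theorem Dg_mul (i : ℕ) (a b : F) : Dg D F i a * Dg D F i b = Dg D F i (a * b) := by
  unfold Dg
  rw [Matrix.diagonal_mul_diagonal]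
  congr 1
  funext col
  rw [mul_zpow]

theorem Dg_one (i : ℕ) : Dg D F i 1 = 1 := by
  unfold Dg
  rw [← Matrix.diagonal_one]
  congr 1
  funext col
  rw [one_zpow]

/-- The table checks for `n_p(c)` and `h_p(c)`, `p = p_i`. -/
def HChecks (n : ℕ) : Prop :=
  ∀ i < D.rank, nCheck D n i (Nl.getD i ([], [])).1 = true ∧ hCheck D n i (Nl.getD i ([], [])).1 = true

include hlen hadd hsimple hNl in
theorem goodH_fund (n : ℕ) (hH : HChecks D Nl n) (j : ℕ) (hj : j < D.rank) : GoodH D F (D.simple j) := by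
  obtain ⟨h1, h2⟩ := hH j hj
  have hn := fun (c : F) (hc : c ≠ 0) =>
    nMat_eq_mul_Dg D hlen hadd hsimple F n j hj _ _ (hNl j hj) h1 c hc
  have hh := fun (c : F) (hc : c ≠ 0) =>
    hMat_eq_Dg D hlen hadd hsimple F n j hj _ _ (hNl j hj) h1 h2 c hc
  refine ⟨(hsimple j hj).1, (hsimple j hj).2, ?_, ?_⟩
  · -- `n(c)² = Dg(-1)` for every `c ≠ 0`
    have key : ∀ c : F, c ≠ 0 → D.nMat F (D.simple j) c * D.nMat F (D.simple j) c = Dg D F j (-1) := by
      intro c hc
      have e1 := hh c hc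
      rw [hMat_eq D F, hn c hc, hn (-1) (by simp)] at e1
      -- e1 : N Dg(c) (N Dg(-1)) = Dg(c⁻¹)
      have e2 : D.nMat F (D.simple j) 1 * Dg D F j c * D.nMat F (D.simple j) 1 = Dg D F j c⁻¹ * Dg D F j (-1) := by
        have h3 : D.nMat F (D.simple j) 1 * Dg D F j c * (D.nMat F (D.simple j) 1 * Dg D F j (-1)) * Dg D F j (-1) =
            Dg D F j c⁻¹ * Dg D F j (-1) := by rw [e1]
        rw [Matrix.mul_assoc, Matrix.mul_assoc (D.nMat F (D.simple j) 1) (Dg D F j (-1)), Dg_mul, neg_mul_neg,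
          one_mul, Dg_one, Matrix.mul_one] at h3
        exact h3
      rw [hn c hc, ← Matrix.mul_assoc, e2, Dg_mul, Dg_mul]
      congr 1
      field_simp
    intro c hc
    rw [key c hc, key 1 one_ne_zero]
  · intro t₁ t₂ h₁ h₂
    rw [hh t₁ h₁, hh t₂ h₂, hh _ (mul_ne_zero h₁ h₂), Dg_mul, mul_inv]

/-- The check of the conjugation data for `n_i` and the fundamental roots `p_j`, signs from a table. -/
def FundRow (k i : ℕ) (etas : List ℤ) : Prop :=
  ∀ j < D.rank, ConjPair D Nl k i (D.simple j) (etas.getD (D.simple j) 0)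

instance (i : ℕ) (etas : List ℤ) : Decidable (FundRow D Nl k i etas) := by
  unfold FundRow
  infer_instance

/-- The check for all `i`. -/
def FundOK (k : ℕ) (tbl : List (List ℤ)) : Prop := ∀ i < D.rank, FundRow D Nl k i (tbl.getD i [])

include hlen hadd hsimple hNl in
/-- `n_i h_{p_j}(t) = h_{w_i p_j}(t) n_i`. -/
theorem n_mul_h_fund (n : ℕ) (hH : HChecks D Nl n) (tbl : List (List ℤ)) (hF : FundOK D Nl k tbl)
    (i j : ℕ) (hi : i < D.rank) (hj : j < D.rank) (t : F) (ht : t ≠ 0) :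
    D.nMat F (D.simple i) 1 * D.hMat F (D.simple j) t =
      D.hMat F (D.reflectRoot i (D.simple j)) t * D.nMat F (D.simple i) 1 :=
  (goodH_step D hlen hadd hsimple Nl hNl F k i (D.simple j) _ (hF i hi j hj)
    (goodH_fund D hlen hadd hsimple Nl hNl F n hH j hj)).2 t ht

/-! ### all roots -/

/-- The certificate is closed under `s ↦ -s`, compatibly with the reflections. -/
def treeSymCheck (T : List (ℕ × ℕ × ℤ)) : Bool :=
  T.all fun p => T.contains (p.1, D.neg p.2.1, p.2.2) &&
    decide (D.reflectRoot p.1 (D.neg p.2.1) = D.neg (D.reflectRoot p.1 p.2.1)) && decide (D.neg p.2.1 < D.nroots)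

include hlen hadd hsimple hNl in
theorem goodH_run (T0 : List (ℕ × ℕ × ℤ)) (hT0 : PairsOK D k Nl T0) (hsym : treeSymCheck D T0 = true)
    (T : List (ℕ × ℕ × ℤ)) : (∀ p ∈ T, p ∈ T0) → ∀ (R R' : List ℕ), (∀ r ∈ R, GoodH D F r) →
    reachRun D T R = some R' → ∀ r ∈ R', GoodH D F r := by
  induction T with
  | nil =>
    intro _ R R' hR h
    simp only [reachRun, Option.some.injEq] at h
    subst h
    exact hR
  | cons p T ih =>
    intro hsub R R' hR h
    simp only [reachRun] at h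
    cases hstep : reachStep D R p with
    | none => rw [hstep] at h; simp at h
    | some R1 =>
      rw [hstep] at h
      refine ih (fun q hq => hsub q (List.mem_cons_of_mem _ hq)) R1 R' ?_ h
      unfold reachStep at hstep
      split_ifs at hstep with hc
      obtain ⟨hi, hmem⟩ := hc
      simp only [Option.some.injEq] at hstep
      subst hstep
      intro r hr
      rw [List.mem_cons] at hr
      rcases hr with rfl | hr
      · have hp0 : p ∈ T0 := hsub p List.mem_cons_self
        unfold treeSymCheck at hsym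
        rw [List.all_eq_true] at hsym
        have hs := hsym p hp0
        simp only [Bool.and_eq_true, decide_eq_true_eq, List.contains_iff_mem] at hs
        obtain ⟨⟨hmem', hrefl⟩, hneg⟩ := hs
        have hgood := hR _ hmem
        have hcp : ConjPair D Nl k p.1 p.2.1 p.2.2 :=
          ⟨hi, hgood.1, hneg, hT0 p hp0, hT0 _ hmem', hrefl⟩
        exact (goodH_step D hlen hadd hsimple Nl hNl F k p.1 p.2.1 p.2.2 hcp hgood).1
      · exact hR r hr

include hlen hadd hsimple hNl in
/-- Every root has the properties `GoodH`. -/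
theorem goodH_all (n : ℕ) (hH : HChecks D Nl n) (tbl : List (List ℤ)) (hF : FundOK D Nl k tbl)
    (T : List (ℕ × ℕ × ℤ)) (hT : PairsOK D k Nl T) (hsym : treeSymCheck D T = true)
    (hreach : reachCheck D T = true) (r : ℕ) (hr : r < D.nroots) : GoodH D F r := by
  have hinit : ∀ r ∈ initReached D, GoodH D F r := by
    intro r hr
    unfold initReached at hr
    rw [List.mem_flatMap] at hr
    obtain ⟨j, hj, hr⟩ := hr
    rw [List.mem_range] at hj
    simp only [List.mem_cons, List.not_mem_nil, or_false] at hr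
    have hfund := goodH_fund D hlen hadd hsimple Nl hNl F n hH j hj
    rcases hr with rfl | rfl
    · exact hfund
    · have hcp := hF j hj j hj
      have hstep := (goodH_step D hlen hadd hsimple Nl hNl F k j (D.simple j) _ hcp hfund).1
      have : D.reflectRoot j (D.simple j) = D.neg (D.simple j) := by
        unfold ChevalleyDatum.reflectRoot
        simp
      rw [this] at hstep
      exact hstep
  unfold reachCheck at hreach
  cases hrun : reachRun D T (initReached D) with
  | none => rw [hrun] at hreach; simp at hreach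
  | some R =>
    rw [hrun] at hreach
    simp only [List.all_eq_true, List.mem_range] at hreach
    have hmem : r ∈ R := by simpa using hreach r hr
    exact goodH_run D hlen hadd hsimple Nl hNl F k T hT hsym T (fun _ h => h) _ R hinit hrun r hmem

end

end Cfsg.Agent.Lib.Helper36_ChevHAll
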