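import Cfsg.Agent.Lib.Helper36_ReeEntry
import Cfsg.Agent.Lib.Helper36_ChevHAll

/-!
# REE-CENT package HH (architect helper37): `h_{a+b}(-1) h_{3a+b}(-1) = 1` in the adjoint group of type `G₂`.
-/

set_option autoImplicit false
set_option linter.unusedSectionVars false

namespace Cfsg.Agent.Lib.Helper86_ReeCent_HH

open Cfsg Cfsg.Lie Cfsg.Agent.Lib.Helper36_ChevSparse Cfsg.Agent.Lib.Helper36_ChevCoeff
  Cfsg.Agent.Lib.Helper36_ChevCoo Cfsg.Agent.Lib.Helper36_ChevAdd Cfsg.Agent.Lib.Helper36_ChevIdx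
  Cfsg.Agent.Lib.Helper36_ChevWeyl Cfsg.Agent.Lib.Helper36_ChevLaurent Cfsg.Agent.Lib.Helper36_ChevH
  Cfsg.Agent.Lib.Helper36_ChevHAll Cfsg.Agent.Lib.Helper36_ReeEntry

/-- `n_r(-1) = x_r(-1) x_{-r}(1) x_r(-1)` as a sparse integer matrix (`s = -r`). -/
def nC (r s : ℕ) : Coo :=
  cmul (dim chevG2) (xCoo r (-1)) (cmul (dim chevG2) (xCoo s 1) (xCoo r (-1)))

/-- the normal form of `n_r(-1)`. -/
def nN (r s : ℕ) : Coo := norm2 8 (nC r s)

theorem castMat_norm2 (F : Type*) [Field F] (k : ℕ) (A : Coo) :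
    castMat chevG2 F (norm2 k A) = castMat chevG2 F A := by
  ext row col
  rw [castMat_apply, castMat_apply, entry_norm2]

theorem final_check : normEq2 8 (cmul (dim chevG2) (cmul (dim chevG2) (nN 8 3) (nN 8 3))
    (cmul (dim chevG2) (nN 10 1) (nN 10 1))) (cone (dim chevG2)) = true := by decide +kernel

theorem nMat_cast (F : Type*) [Field F] (r s : ℕ) (hr : r < chevG2.nroots) (hs : s < chevG2.nroots)
    (hneg : chevG2.neg r = s) : chevG2.nMat F r (-1) = castMat chevG2 F (nN r s) := by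
  rw [nMat_eq_prod, hneg]
  have e1 : (-1 : F) = ((-1 : ℤ) : F) := by push_cast; rfl
  have e2 : (-(-1 : F)⁻¹) = ((1 : ℤ) : F) := by
    rw [inv_neg, inv_one, neg_neg]; push_cast; rfl
  rw [e2, e1, x_cast r hr, x_cast s hs]
  unfold nN nC
  rw [castMat_norm2, castMat_mul, castMat_mul]

theorem hMat_mul_hMat' (F : Type*) [Field F] : chevG2.hMat F 8 (-1) * chevG2.hMat F 10 (-1) = 1 := by
  rw [hMat_eq, hMat_eq, nMat_cast F 8 3 (by decide) (by decide) (by decide),
    nMat_cast F 10 1 (by decide) (by decide) (by decide), ← castMat_mul, ← castMat_mul, ← castMat_mul,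
    castMat_eq_of_normEq2 chevG2 F 8 _ _ final_check, castMat_cone]

section

variable {K : Type*} [Field K] [Fintype K] [CharP K 3] {m : ℕ} (hK : Fintype.card K = 3 ^ (2 * m + 1))

omit [Fintype K] in
theorem hMat_mul_hMat : chevG2.hMat K 8 (-1) * chevG2.hMat K 10 (-1) = 1 :=
  hMat_mul_hMat' K

end

end Cfsg.Agent.Lib.Helper86_ReeCent_HH
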