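import Mathlib

set_option autoImplicit false

/-!
# Helper8_ReeInv_ARITH: `16 ∤ q³ (q - 1) (q³ + 1)` for `q = 3 ^ (2m+1)` (package REEINV-ARITH)
-/

namespace Cfsg.Agent.Lib.Helper8_ReeInv_ARITH

theorem pow_mod_sixteen (m : ℕ) : 3 ^ (2 * m + 1) % 16 = 3 ∨ 3 ^ (2 * m + 1) % 16 = 11 := by
  induction m with
  | zero => left; norm_num
  | succ k ih =>
    have e : 3 ^ (2 * (k + 1) + 1) = 3 ^ (2 * k + 1) * 9 := by
      rw [show 2 * (k + 1) + 1 = (2 * k + 1) + 2 by ring, pow_add]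
      norm_num
    rw [e, Nat.mul_mod]
    rcases ih with h | h <;> rw [h] <;> norm_num

theorem arith_aux (q : ℕ) (hpos : 1 ≤ q) (hq : q % 16 = 3 ∨ q % 16 = 11) :
    ¬ 16 ∣ q ^ 3 * (q - 1) * (q ^ 3 + 1) ∧ q % 8 = 3 := by
  refine ⟨?_, by omega⟩
  rw [Nat.dvd_iff_mod_eq_zero]
  rcases hq with h | h
  · have h3 : q ^ 3 % 16 = 11 := by rw [Nat.pow_mod, h]
    have h1 : (q - 1) % 16 = 2 := by omega
    have h4 : (q ^ 3 + 1) % 16 = 12 := by omega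
    rw [Nat.mul_mod, Nat.mul_mod (q ^ 3), h3, h1, h4]
    norm_num
  · have h3 : q ^ 3 % 16 = 3 := by rw [Nat.pow_mod, h]
    have h1 : (q - 1) % 16 = 10 := by omega
    have h4 : (q ^ 3 + 1) % 16 = 4 := by omega
    rw [Nat.mul_mod, Nat.mul_mod (q ^ 3), h3, h1, h4]
    norm_num

theorem arith (m : ℕ) :
    ¬ 16 ∣ (3 ^ (2 * m + 1)) ^ 3 * (3 ^ (2 * m + 1) - 1) * ((3 ^ (2 * m + 1)) ^ 3 + 1) ∧
      3 ^ (2 * m + 1) % 8 = 3 :=
  arith_aux _ (Nat.one_le_pow _ _ (by norm_num)) (pow_mod_sixteen m)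

end Cfsg.Agent.Lib.Helper8_ReeInv_ARITH
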