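import Mathlib
import Cfsg.Agent.S0276

set_option autoImplicit false

/-!
# Helper8_ReeInv_SYL2: Sylow 2-subgroups of a group containing `Z₂ × PSL₂(q)`, `q ≡ 3, 5 (mod 8)`,
with `16 ∤ |G|` (package REEINV-SYL2)
-/

namespace Cfsg.Agent.Lib.Helper8_ReeInv_SYL2

/-- a subgroup of order `8` and exponent `2` in a group of order not divisible by `16` forces all
Sylow 2-subgroups to have order `8` and exponent `2` -/
theorem sylow_of_subgroup {G : Type*} [Group G] [Finite G] (S₀ : Subgroup G)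
    (h8 : Nat.card S₀ = 8) (hexp : ∀ x ∈ S₀, x * x = 1) (h16 : ¬ 16 ∣ Nat.card G) (S : Sylow 2 G) :
    Nat.card S = 8 ∧ ∀ x ∈ S, x * x = 1 := by
  have : Fact (Nat.Prime 2) := ⟨Nat.prime_two⟩
  have hG0 : Nat.card G ≠ 0 := Nat.card_pos.ne'
  have hdvd : 2 ^ 3 ∣ Nat.card G := by
    have := Subgroup.card_subgroup_dvd_card S₀
    rw [h8] at this
    exact this
  have hf : (Nat.card G).factorization 2 = 3 := by
    have h3 : 3 ≤ (Nat.card G).factorization 2 :=
      (Nat.prime_two.pow_dvd_iff_le_factorization hG0).mp hdvd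
    have h4 : ¬ 4 ≤ (Nat.card G).factorization 2 := by
      intro h
      exact h16 ((Nat.prime_two.pow_dvd_iff_le_factorization hG0).mpr h)
    omega
  have hcardS : ∀ Q : Sylow 2 G, Nat.card Q = 8 := by
    intro Q
    rw [Sylow.card_eq_multiplicity, hf]
    norm_num
  refine ⟨hcardS S, ?_⟩
  have hp : IsPGroup 2 S₀ := IsPGroup.of_card (n := 3) (by rw [h8]; norm_num)
  obtain ⟨Q, hQ⟩ := hp.exists_le_sylow
  have hQeq : (Q : Subgroup G) = S₀ := by
    symm
    apply Subgroup.eq_of_le_of_card_ge hQ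
    rw [hcardS Q, h8]
  obtain ⟨g, hg⟩ := MulAction.exists_smul_eq G Q S
  intro x hx
  have hx' : x ∈ ((g • Q : Sylow 2 G) : Subgroup G) := by rw [hg]; exact hx
  rw [Sylow.coe_subgroup_smul, Subgroup.mem_pointwise_smul_iff_inv_smul_mem, hQeq,
    MulAut.smul_def, MulAut.conj_inv_apply] at hx'
  have h1 := hexp _ hx'
  have h2 : x * x = g * ((g⁻¹ * x * g) * (g⁻¹ * x * g)) * g⁻¹ := by group
  rw [h2, h1]
  group

theorem sylow_of_iso {G : Type*} [Group G] [Finite G] {F : Type*} [Field F] [Fintype F]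
    (hq : Fintype.card F % 8 = 3 ∨ Fintype.card F % 8 = 5) (C : Subgroup G)
    (e : ↥C ≃* Multiplicative (ZMod 2) × Matrix.ProjectiveSpecialLinearGroup (Fin 2) F)
    (h16 : ¬ 16 ∣ Nat.card G) (S : Sylow 2 G) :
    Nat.card S = 8 ∧ ∀ x ∈ S, x * x = 1 := by
  classical
  have : Finite (Multiplicative (ZMod 2) × Matrix.ProjectiveSpecialLinearGroup (Fin 2) F) :=
    Finite.of_equiv _ e.toEquiv
  have : Finite (Matrix.ProjectiveSpecialLinearGroup (Fin 2) F) :=
    Finite.of_injective (fun x => ((1 : Multiplicative (ZMod 2)), x)) (fun x y h => (Prod.ext_iff.mp h).2)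
  obtain ⟨P⟩ : Nonempty (Sylow 2 (Matrix.ProjectiveSpecialLinearGroup (Fin 2) F)) := inferInstance
  have hK := Cfsg.Agent.S0276.result (F := F) rfl hq P
  have hP4 : Nat.card (P : Subgroup (Matrix.ProjectiveSpecialLinearGroup (Fin 2) F)) = 4 :=
    hK.card_four
  have hPexp : ∀ x ∈ (P : Subgroup (Matrix.ProjectiveSpecialLinearGroup (Fin 2) F)), x * x = 1 := by
    intro x hx
    have h := Monoid.pow_exponent_eq_one
      (⟨x, hx⟩ : (P : Subgroup (Matrix.ProjectiveSpecialLinearGroup (Fin 2) F)))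
    rw [hK.exponent_two, pow_two] at h
    exact congrArg Subtype.val h
  let T : Subgroup (Multiplicative (ZMod 2) × Matrix.ProjectiveSpecialLinearGroup (Fin 2) F) :=
    (⊤ : Subgroup (Multiplicative (ZMod 2))).prod
      (P : Subgroup (Matrix.ProjectiveSpecialLinearGroup (Fin 2) F))
  have hT8 : Nat.card T = 8 := by
    have h1 : Nat.card T = Nat.card ((⊤ : Subgroup (Multiplicative (ZMod 2))) ×
        (P : Subgroup (Matrix.ProjectiveSpecialLinearGroup (Fin 2) F))) :=
      Nat.card_congr (Subgroup.prodEquiv _ _).toEquiv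
    rw [h1, Nat.card_prod, hP4, Subgroup.card_top]
    simp
  have hTexp : ∀ t ∈ T, t * t = 1 := by
    rintro ⟨i, x⟩ ht
    have hx : x ∈ (P : Subgroup (Matrix.ProjectiveSpecialLinearGroup (Fin 2) F)) :=
      (Subgroup.mem_prod.mp ht).2
    have hi : i * i = 1 := by
      have : ∀ j : ZMod 2, j + j = 0 := by decide
      exact congrArg Multiplicative.ofAdd (this (Multiplicative.toAdd i))
    exact Prod.ext hi (hPexp x hx)
  let S₀ : Subgroup G := (T.map e.symm.toMonoidHom).map C.subtype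
  have hS8 : Nat.card S₀ = 8 := by
    rw [Subgroup.card_map_of_injective C.subtype_injective,
      Subgroup.card_map_of_injective e.symm.injective, hT8]
  have hSexp : ∀ x ∈ S₀, x * x = 1 := by
    rintro x ⟨y, ⟨t, ht, rfl⟩, rfl⟩
    have h := hTexp t ht
    have h2 : e.symm.toMonoidHom t * e.symm.toMonoidHom t = 1 := by
      rw [← map_mul, h, map_one]
    have h3 := congrArg (C.subtype) h2
    simpa using h3
  exact sylow_of_subgroup S₀ hS8 hSexp h16 S

end Cfsg.Agent.Lib.Helper8_ReeInv_SYL2
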