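import Cfsg.Agent.Lib.Helper37_ReeCentDefs
import Cfsg.Agent.Lib.Helper5_ChevSL2All
import Cfsg.Agent.S1037
import Cfsg.Agent.Lib.Helper63_ReeInv_ISO
import Cfsg.Agent.Lib.Helper8_ReeInv_SYL2
import Cfsg.Agent.Lib.Helper8_ReeInv_ARITH
import Cfsg.Agent.Lib.Helper69_ReeInv_TRANSPORT
import Cfsg.Agent.Lib.Helper65_ReeInv_PSLN
import Cfsg.Agent.Lib.Helper60_ReeInv_PSLC
import Cfsg.Agent.Lib.Helper37_InvCentMain
import Cfsg.Agent.Lib.Helper37_ReeCent_AM0
import Cfsg.Agent.Lib.Helper37_ReeCent_ANOTIN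
import Cfsg.Agent.Lib.Helper37_ReeCent_CASES
import Cfsg.Agent.Lib.Helper37_ReeCent_CENTU
import Cfsg.Agent.Lib.Helper37_ReeCent_CHI
import Cfsg.Agent.Lib.Helper37_ReeCent_CONJW
import Cfsg.Agent.Lib.Helper37_ReeCent_KER
import Cfsg.Agent.Lib.Helper37_ReeCent_PHI
import Cfsg.Agent.Lib.Helper46_ReeCent_COVER
import Cfsg.Agent.Lib.Helper46_ReeCent_PHIMEM
import Cfsg.Agent.Lib.Helper86_ReeCent_HH

set_option autoImplicit false

/-!
Assembly for S1152 / S1157 (small Ree groups): the centraliser of the involution `a` of `H¹` in the twisted group of type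
`²G₂` is `Z₂ × PSL₂(K)`; the hypotheses of the abstract Sylow 2-normaliser theorem (`Helper37_InvCentMain`) hold.
The concrete facts come from the REE-CENT packages.
-/

namespace Cfsg.Agent.Lib.Helper37_ReeCentMain

open Cfsg Cfsg.Lie Cfsg.Agent.Lib.Helper36_ReeFix Cfsg.Agent.Lib.Helper36_ReeBruhat
  Cfsg.Agent.Lib.Helper36_ReeH Cfsg.Agent.Lib.Helper36_ReePerf Cfsg.Agent.Lib.Helper36_ReeOrder
  Cfsg.Agent.Lib.Helper36_ReeBN Cfsg.Agent.Lib.Helper36_ChevBorel Cfsg.Agent.Lib.Helper36_ChevTables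
  Cfsg.Agent.Lib.Helper36_ReeTw Cfsg.Agent.Lib.Helper36_ReeSylow Cfsg.Agent.Lib.Helper36_ReeOdd
  Cfsg.Agent.Lib.Helper36_ChevCore Cfsg.Agent.Lib.Helper36_ChevTorus Cfsg.Agent.Lib.Helper36_ReeAlg
  Cfsg.Agent.Lib.Helper36_ReeStab Cfsg.Agent.Lib.Helper36_ReeSetup
  Cfsg.Agent.Lib.Helper37_SL2Bruhat Cfsg.Agent.Lib.Helper37_ReeCentDefs
  Cfsg.Agent.Lib.Helper37_ReeCent_AM0 Cfsg.Agent.Lib.Helper37_ReeCent_ANOTIN Cfsg.Agent.Lib.Helper37_ReeCent_CASES
  Cfsg.Agent.Lib.Helper37_ReeCent_CENTU Cfsg.Agent.Lib.Helper37_ReeCent_CHI Cfsg.Agent.Lib.Helper37_ReeCent_CONJW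
  Cfsg.Agent.Lib.Helper37_ReeCent_KER Cfsg.Agent.Lib.Helper37_ReeCent_PHI Cfsg.Agent.Lib.Helper46_ReeCent_COVER
  Cfsg.Agent.Lib.Helper46_ReeCent_PHIMEM Cfsg.Agent.Lib.Helper86_ReeCent_HH

section

variable {K : Type*} [Field K] [Fintype K] [CharP K 3] {m : ℕ} (hK : Fintype.card K = 3 ^ (2 * m + 1))

/-- The centre of `SL₂(K)` consists of `1` and `dg (-1)`. -/
theorem mem_center_iff (g : Matrix.SpecialLinearGroup (Fin 2) K) :
    g ∈ Subgroup.center (Matrix.SpecialLinearGroup (Fin 2) K) ↔ g = 1 ∨ g = dg (-1) := by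
  rw [Matrix.SpecialLinearGroup.mem_center_iff]
  constructor
  · rintro ⟨r, hr, hg⟩
    have hr2 : r ^ 2 = 1 := by simpa using hr
    have h : (r - 1) * (r + 1) = 0 := by linear_combination hr2
    rcases mul_eq_zero.mp h with h1 | h1
    · left
      have e : r = 1 := sub_eq_zero.mp h1
      apply ext_mat
      rw [← hg, e, Matrix.SpecialLinearGroup.coe_one]
      simp
    · right
      have e : r = -1 := eq_neg_of_add_eq_zero_left h1
      apply ext_mat
      rw [← hg, e, dg_neg_one]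
      simp only [Matrix.scalar_apply]
      ext i j
      fin_cases i <;> fin_cases j <;> simp
  · rintro (rfl | rfl)
    · exact ⟨1, by simp, by simp⟩
    · refine ⟨-1, by simp, ?_⟩
      rw [dg_neg_one]
      simp only [Matrix.scalar_apply]
      ext i j
      fin_cases i <;> fin_cases j <;> simp


include hK in
/-- The structure of the centraliser of the involution `a` of `H¹`: a homomorphism `Φ' : SL₂(K) → G¹` with kernel the
centre whose image `L` centralises `a`, does not contain `a`, and `C(a) = L ∪ aL`. -/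
theorem exists_Phi' :
    ∃ Φ' : Matrix.SpecialLinearGroup (Fin 2) K →* ↥(twistedG2 K (3 ^ m)),
      Φ'.ker = Subgroup.center (Matrix.SpecialLinearGroup (Fin 2) K) ∧
      (∀ g, (⟨aa K m, aa_mem hK⟩ : ↥(twistedG2 K (3 ^ m))) * Φ' g = Φ' g * ⟨aa K m, aa_mem hK⟩) ∧
      (⟨aa K m, aa_mem hK⟩ : ↥(twistedG2 K (3 ^ m))) ∉ Φ'.range ∧
      ∀ x : ↥(twistedG2 K (3 ^ m)), (⟨aa K m, aa_mem hK⟩ : ↥(twistedG2 K (3 ^ m))) * x = x * ⟨aa K m, aa_mem hK⟩ →
        x ∈ Φ'.range ∨ (⟨aa K m, aa_mem hK⟩ : ↥(twistedG2 K (3 ^ m))) * x ∈ Φ'.range := by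
  have hχ := chi_neg_one (K := K) (m := m)
  have hWp := conj_Wp hK hχ
  have hWn := conj_Wn0 hK hχ
  have hU := centU hK hWp
  have hne := aa_ne_one (K := K) (m := m)
  have hH := aa_comm_H hK
  have hm0 := aa_comm_m0 hK
  have hcases := cent_cases hK hU hH hm0
  obtain ⟨Φ, hΦ⟩ := exists_Phi hK hMat_mul_hMat
  have hWp0 : ∀ u : K, aa K m * Wp hK 0 u 0 * (aa K m)⁻¹ = Wp hK 0 u 0 := by
    intro u
    have := hWp 0 u 0
    rwa [neg_zero] at this
  obtain ⟨hmem, hcomm, hwe⟩ := Phi_mem hK Φ hΦ hWp0 hWn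
  have hker := ker_Phi hK Φ hΦ hmem hwe
  have hnot := aa_not_mem hK Φ hΦ hmem hwe hne
  have hcov := cover hK Φ hΦ hmem hcomm hwe hker hnot hcases
  -- the corestriction
  let Φ' : Matrix.SpecialLinearGroup (Fin 2) K →* ↥(twistedG2 K (3 ^ m)) :=
    Φ.codRestrict (twistedG2 K (3 ^ m)) hmem
  have hΦ' : ∀ g, ((Φ' g : ↥(twistedG2 K (3 ^ m))) : GL chevG2.Idx K) = Φ g := fun g => rfl
  refine ⟨Φ', ?_, ?_, ?_, ?_⟩
  · ext g
    rw [MonoidHom.mem_ker, mem_center_iff]
    constructor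
    · intro h
      apply hker
      have := congrArg Subtype.val h
      rwa [hΦ'] at this
    · rintro (rfl | rfl)
      · exact map_one _
      · apply Subtype.ext
        rw [hΦ', hΦ.hneg]
        rfl
  · intro g
    apply Subtype.ext
    have h := hcomm g
    have e : aa K m * Φ g = Φ g * aa K m := by
      have := congrArg (fun x => x * aa K m) h
      simpa [mul_assoc] using this
    exact e
  · rintro ⟨g, hg⟩
    apply hnot
    refine ⟨g, ?_⟩
    have := congrArg Subtype.val hg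
    rwa [hΦ'] at this
  · intro x hx
    have hx' : aa K m * (x : GL chevG2.Idx K) * (aa K m)⁻¹ = x := by
      have := congrArg Subtype.val hx
      rw [Subgroup.coe_mul, Subgroup.coe_mul] at this
      rw [mul_inv_eq_iff_eq_mul]
      exact this
    rcases hcov x x.2 hx' with ⟨g, hg⟩ | ⟨g, hg⟩
    · left
      exact ⟨g, Subtype.ext hg⟩
    · right
      exact ⟨g, Subtype.ext hg⟩

include hK in
theorem aa'_sq : (⟨aa K m, aa_mem hK⟩ : ↥(twistedG2 K (3 ^ m))) * ⟨aa K m, aa_mem hK⟩ = 1 :=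
  Subtype.ext aa_sq

include hK in
theorem aa'_ne_one : (⟨aa K m, aa_mem hK⟩ : ↥(twistedG2 K (3 ^ m))) ≠ 1 := fun h =>
  aa_ne_one (K := K) (m := m) (congrArg Subtype.val h)

include hK in
/-- The centraliser of the involution of `H¹`. -/
theorem centralizer_aa :
    Nonempty (↥(Subgroup.centralizer ({(⟨aa K m, aa_mem hK⟩ : ↥(twistedG2 K (3 ^ m)))} :
      Set ↥(twistedG2 K (3 ^ m)))) ≃*
      Multiplicative (ZMod 2) × Matrix.ProjectiveSpecialLinearGroup (Fin 2) K) := by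
  obtain ⟨Φ', hker, hcomm, hnot, hcov⟩ := exists_Phi' hK
  exact Cfsg.Agent.Lib.Helper63_ReeInv_ISO.iso_of_phi _ (aa'_sq hK) (aa'_ne_one hK) Φ' hker hcomm hnot hcov

/-- A perfect group has no subgroup of index 2. -/
theorem no_index_two' {G : Type*} [Group G] (hperf : commutator G = ⊤) (H : Subgroup G) : H.index ≠ 2 := by
  intro h2
  have : H.Normal := Subgroup.normal_of_index_eq_two h2
  have hcard : Nat.card (G ⧸ H) = 2 := h2
  have : Fact (Nat.Prime 2) := ⟨Nat.prime_two⟩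
  have hc : IsCyclic (G ⧸ H) := isCyclic_of_prime_card hcard
  have hmc : IsMulCommutative (G ⧸ H) := IsCyclic.isMulCommutative
  have hle : commutator G ≤ H := by
    rw [commutator_def, Subgroup.commutator_le]
    intro g _ k _
    rw [← QuotientGroup.eq_one_iff, commutatorElement_def]
    simp only [QuotientGroup.mk_mul, QuotientGroup.mk_inv]
    have := hmc.is_comm.comm (g : G ⧸ H) (k : G ⧸ H)
    rw [this]
    group
  rw [hperf] at hle
  have : H = ⊤ := top_le_iff.mp hle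
  rw [this, Subgroup.index_top] at h2
  omega

include hK in
/-- The twisted group has no subgroup of index 2, if the field has more than three elements. -/
theorem no_index_two (hm : 1 ≤ m) (H : Subgroup ↥(twistedG2 K (3 ^ m))) : H.index ≠ 2 :=
  no_index_two' (perfect hK hm) H

include hK in
/-- The hypotheses of the abstract Sylow 2-normaliser theorem hold in the twisted group. -/
theorem exists_hyp (hm : 1 ≤ m) :
    ∃ (L V : Subgroup ↥(twistedG2 K (3 ^ m))),
      Cfsg.Agent.Lib.Helper37_InvCentDefs.Hyp (⟨aa K m, aa_mem hK⟩ : ↥(twistedG2 K (3 ^ m))) L V := by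
  obtain ⟨Φ', hker, hcomm, hnot, hcov⟩ := exists_Phi' hK
  -- `PSL₂(K) ≃* L`
  let e1 : Matrix.SpecialLinearGroup (Fin 2) K ⧸ Φ'.ker ≃* ↥Φ'.range := QuotientGroup.quotientKerEquivRange Φ'
  let e2 : Matrix.SpecialLinearGroup (Fin 2) K ⧸ Φ'.ker ≃*
      Matrix.SpecialLinearGroup (Fin 2) K ⧸ Subgroup.center (Matrix.SpecialLinearGroup (Fin 2) K) :=
    QuotientGroup.quotientMulEquivOfEq hker
  let e : Matrix.ProjectiveSpecialLinearGroup (Fin 2) K ≃* ↥Φ'.range := e2.symm.trans e1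
  have harith := Cfsg.Agent.Lib.Helper8_ReeInv_ARITH.arith m
  have hq : Fintype.card K % 8 = 3 ∨ Fintype.card K % 8 = 5 := by
    left
    rw [hK]
    exact harith.2
  have h5 : 5 ≤ Fintype.card K := by
    rw [hK]
    calc 5 ≤ 3 ^ 3 := by norm_num
      _ ≤ 3 ^ (2 * m + 1) := Nat.pow_le_pow_right (by norm_num) (by omega)
  have : Finite (Matrix.ProjectiveSpecialLinearGroup (Fin 2) K) := Finite.of_equiv _ e.symm.toEquiv
  obtain ⟨P⟩ : Nonempty (Sylow 2 (Matrix.ProjectiveSpecialLinearGroup (Fin 2) K)) := inferInstance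
  have hKl := Cfsg.Agent.S0276.result (F := K) rfl hq P
  have h12 := Cfsg.Agent.Lib.Helper65_ReeInv_PSLN.card_normalizer_psl hq P
  have hcP := Cfsg.Agent.Lib.Helper60_ReeInv_PSLC.centralizer_psl h5 hq P h12
  have h2 : ∀ x ∈ (P : Subgroup (Matrix.ProjectiveSpecialLinearGroup (Fin 2) K)), x * x = 1 := by
    intro x hx
    have h := Monoid.pow_exponent_eq_one
      (⟨x, hx⟩ : (P : Subgroup (Matrix.ProjectiveSpecialLinearGroup (Fin 2) K)))
    rw [hKl.exponent_two, pow_two] at h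
    exact congrArg Subtype.val h
  obtain ⟨V, hVL, hV4, hV2, hVc, hVn⟩ := Cfsg.Agent.Lib.Helper69_ReeInv_TRANSPORT.transport Φ'.range e
    (P : Subgroup (Matrix.ProjectiveSpecialLinearGroup (Fin 2) K)) hKl.card_four h2 hcP h12
  refine ⟨Φ'.range, V, ?_⟩
  refine ⟨?_, ?_, hnot, hcov, hVL, hV4, hV2, hVc, hVn⟩
  · exact orderOf_eq_prime (by rw [pow_two]; exact aa'_sq hK) (aa'_ne_one hK)
  · rintro x ⟨g, rfl⟩
    exact hcomm g

include hK in
/-- A Sylow 2-subgroup of the twisted group is its own centraliser and its normaliser has 168 elements. -/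
theorem sylow_two_normalizer (hm : 1 ≤ m) (S : Sylow 2 ↥(twistedG2 K (3 ^ m))) :
    Subgroup.centralizer ((S : Subgroup ↥(twistedG2 K (3 ^ m))) : Set ↥(twistedG2 K (3 ^ m))) = S ∧
      Nat.card (Subgroup.normalizer ((S : Subgroup ↥(twistedG2 K (3 ^ m))) : Set ↥(twistedG2 K (3 ^ m)))) = 168 := by
  obtain ⟨L, V, h⟩ := exists_hyp hK hm
  have harith := Cfsg.Agent.Lib.Helper8_ReeInv_ARITH.arith m
  have h16 : ¬ 16 ∣ Nat.card ↥(twistedG2 K (3 ^ m)) := by
    rw [card_twistedG2 hK]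
    exact harith.1
  exact Cfsg.Agent.Lib.Helper37_InvCentMain.sylow_two_of_hyp h (no_index_two hK hm) h16 S

end

end Cfsg.Agent.Lib.Helper37_ReeCentMain
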