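/-
Helper library (helper15): no quadratic action for `PSL₂(q)` (q odd, defining characteristic)
and for the small Ree groups (p = 3).  Abstract form: a finite group `Q` acting faithfully on a
finite commutative group `N` of exponent `p`; an element acting quadratically is trivial.
Uses helper10's quadratic-pair library (Dickson = S0274) and helper37's S1152.
-/
import Mathlib
import Cfsg.Prelude.Def_LieTwisted
import Cfsg.Agent.Lib.Helper10_QuadFinal
import Cfsg.Agent.Lib.Helper15_PSL2Quad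
import Cfsg.Agent.Lib.Helper36_ReeSimple
import Cfsg.Agent.Lib.Helper37_ReeCentMain
import Cfsg.Agent.S1152

set_option autoImplicit false

namespace Cfsg.Agent.Lib.Helper15_QuadCore

open Cfsg Cfsg.Lie Cfsg.Agent.Lib.Helper10_QuadPair Cfsg.Agent.Lib.Helper10_QuadAction
  Cfsg.Agent.Lib.Helper10_QuadFinal

section psl

variable {p : ℕ} [Fact p.Prime] {Q : Type*} [Group Q] [Finite Q] {N : Type*} [CommGroup N]
  [Finite N]

/-- `PSL₂(F)` in its defining odd characteristic has no non-trivial quadratic elements. -/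
theorem psl_branch (hp : p ≠ 2) (hN : ∀ n : N, n ^ p = 1) (c : Q →* MulAut N)
    (hfaith : ∀ γ, (∀ n, c γ n = n) → γ = 1)
    {F : Type*} [Field F] [CharP F p]
    (e : Q ≃* Matrix.ProjectiveSpecialLinearGroup (Fin 2) F)
    (a : Q) (ha : AQuad c a) : a = 1 := by
  classical
  have hpp : p.Prime := Fact.out
  by_contra ha1
  have hap : a ^ p = 1 := ha.pow_p hN hfaith
  have hx1 : e a ≠ 1 := fun h => ha1 ((MulEquiv.map_eq_one_iff e).1 h)
  have hxp : (e a) ^ p = 1 := by rw [← map_pow, hap, map_one]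
  obtain ⟨g, hgg, hg1⟩ := Cfsg.Agent.Lib.Helper15_PSL2Quad.exists_conj_involution hp (e a) hx1 hxp
  obtain ⟨γ, hγ⟩ : ∃ γ : Q, γ = e.symm g := ⟨_, rfl⟩
  obtain ⟨b, hbdef⟩ : ∃ b : Q, b = γ * a * γ⁻¹ := ⟨_, rfl⟩
  have hb : AQuad c b := by rw [hbdef]; exact ha.conj γ
  obtain ⟨z, hzdef⟩ : ∃ z : Q, z = a * b * a := ⟨_, rfl⟩
  have hez : e z = e a * (g * e a * g⁻¹) * e a := by
    rw [hzdef, hbdef, hγ]
    simp only [map_mul, map_inv, MulEquiv.apply_symm_apply]
  have hzz : z * z = 1 := by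
    apply e.injective
    rw [map_mul, hez, hgg, map_one]
  have hz1 : z ≠ 1 := by
    intro h
    apply hg1
    rw [← hez, h, map_one]
  have haH : a ∈ Subgroup.closure ({a, b} : Set Q) := Subgroup.subset_closure (by simp)
  have hbH : b ∈ Subgroup.closure ({a, b} : Set Q) := Subgroup.subset_closure (by simp)
  have hzH : z ∈ Subgroup.closure ({a, b} : Set Q) := by
    rw [hzdef]
    exact mul_mem (mul_mem haH hbH) haH
  have hnp : ¬ IsPGroup p (Subgroup.closure {a, b} : Subgroup Q) := by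
    intro hpg
    obtain ⟨k, hk⟩ := hpg ⟨z, hzH⟩
    have hk' : z ^ (p ^ k) = 1 := by
      have := congrArg Subtype.val hk
      simpa using this
    have hodd : Odd (p ^ k) := (hpp.odd_of_ne_two hp).pow
    obtain ⟨j, hj⟩ := hodd
    rw [hj, pow_succ, pow_mul, pow_two, hzz, one_pow, one_mul] at hk'
    exact hz1 hk'
  obtain ⟨m, φ, K₀, hK, ⟨e₀⟩⟩ := abs_core_pair (dicksonHyp p hp) c hN hfaith a b ha hb hnp
  have h2 : (2 : GaloisField p m) ≠ 0 :=
    Cfsg.Agent.Lib.Helper15_PSL2Quad.two_ne_zero_of_char (F := GaloisField p m) hpp hp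
  -- the images of `a` and `b` commute
  set A := φ ⟨a, haH⟩ with hA
  set B := φ ⟨b, hbH⟩ with hB
  have hM : (A * B * A) * (A * B * A) = 1 := by
    have h1 : (⟨z, hzH⟩ : (Subgroup.closure {a, b} : Subgroup Q)) =
        ⟨a, haH⟩ * ⟨b, hbH⟩ * ⟨a, haH⟩ := Subtype.ext hzdef
    have h3 : (⟨z, hzH⟩ : (Subgroup.closure {a, b} : Subgroup Q)) * ⟨z, hzH⟩ = 1 :=
      Subtype.ext hzz
    have h4 := congrArg φ h3
    rw [map_mul, h1, map_mul, map_mul, map_one] at h4
    exact h4
  have hcomm : A * B = B * A := by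
    have h5 := Cfsg.Agent.Lib.Helper15_PSL2Quad.commute_of_sq_eq_one h2 (A * B * A) hM A
    -- A B A A = A A B A
    have h6 : A * (B * A) = A * (A * B) := by
      have h7 : (A * B * A * A) * A⁻¹ = (A * (A * B * A)) * A⁻¹ := by rw [h5]
      calc A * (B * A) = (A * B * A * A) * A⁻¹ := by group
        _ = (A * (A * B * A)) * A⁻¹ := h7
        _ = A * (A * B) := by group
    exact (mul_left_cancel h6).symm
  -- the range of `φ` is commutative
  have hS : ∀ x ∈ ({A, B} : Set (Matrix.SpecialLinearGroup (Fin 2) (GaloisField p m))),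
      ∀ y ∈ ({A, B} : Set (Matrix.SpecialLinearGroup (Fin 2) (GaloisField p m))),
      x * y = y * x := by
    intro x hx y hy
    rcases hx with rfl | rfl <;> rcases hy with rfl | rfl
    · rfl
    · exact hcomm
    · exact hcomm.symm
    · rfl
  have hrange : φ.range ≤ Subgroup.closure ({A, B} : Set _) := by
    rw [MonoidHom.range_eq_map, ← closure_pair_top a b haH hbH, MonoidHom.map_closure,
      Set.image_pair]
  obtain ⟨Q₀, -, x, -, y, -, hxy⟩ := sl2_nonabelian_two_subgroup p hp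
  apply hxy
  have hu : ((e₀.symm x : K₀) : Matrix.SpecialLinearGroup (Fin 2) (GaloisField p m)) ∈
      Subgroup.closure ({A, B} : Set _) := hrange (hK (e₀.symm x).2)
  have hv : ((e₀.symm y : K₀) : Matrix.SpecialLinearGroup (Fin 2) (GaloisField p m)) ∈
      Subgroup.closure ({A, B} : Set _) := hrange (hK (e₀.symm y).2)
  have h8 := (Subgroup.isMulCommutative_closure hS).is_comm.comm ⟨_, hu⟩ ⟨_, hv⟩
  have h9 : ((e₀.symm x : K₀) : Matrix.SpecialLinearGroup (Fin 2) (GaloisField p m)) *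
      (e₀.symm y : K₀) = (e₀.symm y : K₀) * (e₀.symm x : K₀) := congrArg Subtype.val h8
  have h10 : e₀.symm x * e₀.symm y = e₀.symm y * e₀.symm x := Subtype.ext h9
  have h11 := congrArg e₀ h10
  simpa using h11

end psl

section ree

open Cfsg.Agent.Lib.Helper36_ReeFix Cfsg.Agent.Lib.Helper37_ReeCentDefs
  Cfsg.Agent.Lib.Helper37_ReeCentMain

variable {Q : Type*} [Group Q] [Finite Q] {N : Type*} [CommGroup N] [Finite N]

/-- The small Ree groups have no non-trivial quadratic elements in characteristic `3`. -/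
theorem ree_branch [Fact (Nat.Prime 3)] (hN : ∀ n : N, n ^ 3 = 1) (c : Q →* MulAut N)
    (hfaith : ∀ γ, (∀ n, c γ n = n) → γ = 1) (hR : Cfsg.Lie.IsoRee Q)
    (a : Q) (ha : AQuad c a) : a = 1 := by
  classical
  obtain ⟨K, _, _, m, hm, hK, ⟨e⟩⟩ := hR
  have := charP3 hK
  have hsimple : IsSimpleGroup ↥(twistedG2 K (3 ^ m)) :=
    (Cfsg.Agent.Lib.Helper36_ReeSimple.simple hK hm).1
  have hsyl := (Cfsg.Agent.S1152.result hK ⟨aa K m, aa_mem hK⟩ aa_mem_diag (aa'_ne_one hK)
    (aa'_sq hK)).2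
  -- Sylow 2-subgroups of the Ree group, hence of `Q`, are commutative
  have hcommR : ∀ T : Sylow 2 ↥(twistedG2 K (3 ^ m)), IsMulCommutative T := by
    intro T
    refine ⟨⟨?_⟩⟩
    rintro ⟨x, hx⟩ ⟨y, hy⟩
    apply Subtype.ext
    show x * y = y * x
    have hx2 := (hsyl T).2 x hx
    have hy2 := (hsyl T).2 y hy
    have hxy2 := (hsyl T).2 (x * y) (mul_mem hx hy)
    calc x * y = x * (x * y * (x * y)) * y := by rw [hxy2, mul_one]
      _ = (x * x) * (y * x) * (y * y) := by group
      _ = y * x := by rw [hx2, hy2, one_mul, mul_one]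
  have hcommQ : ∀ T : Sylow 2 Q, IsMulCommutative T :=
    fun T => sylow_comm_of_surjective e.symm.toMonoidHom e.symm.surjective hcommR T
  -- hence `a ∈ O_3(Q)`
  have hmem : a ∈ Cfsg.pCore 3 Q := by
    by_contra hna
    obtain ⟨T⟩ : Nonempty (Sylow 2 Q) := inferInstance
    exact abs_sylow_two_not_comm (dicksonHyp 3 (by norm_num)) (by norm_num) c hN hfaith a ha hna T
      (hcommQ T)
  -- `O_3(Q) = 1`
  have hsQ : IsSimpleGroup Q := by
    have : Nontrivial Q := e.toEquiv.nontrivial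
    exact IsSimpleGroup.isSimpleGroup_of_surjective e.symm.toMonoidHom e.symm.surjective
  have hnorm : (Cfsg.pCore 3 Q).Normal := Cfsg.Agent.Lib.Helper76_PSolvable.pCore_normal 3
  have hpg : IsPGroup 3 (Cfsg.pCore 3 Q) := Cfsg.Agent.Lib.Helper76_PSolvable.pCore_isPGroup 3
  rcases hnorm.eq_bot_or_eq_top with h | h
  · rw [h, Subgroup.mem_bot] at hmem
    exact hmem
  · exfalso
    -- an involution in a 3-group
    obtain ⟨t, ht⟩ : ∃ t : Q, t = e.symm ⟨aa K m, aa_mem hK⟩ := ⟨_, rfl⟩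
    have htt : t * t = 1 := by
      rw [ht, ← map_mul, aa'_sq hK, map_one]
    have ht1 : t ≠ 1 := by
      rw [ht]
      intro h1
      exact aa'_ne_one hK ((MulEquiv.map_eq_one_iff e.symm).1 h1)
    have htmem : t ∈ Cfsg.pCore 3 Q := by rw [h]; exact Subgroup.mem_top t
    obtain ⟨k, hk⟩ := hpg ⟨t, htmem⟩
    have hk' : t ^ (3 ^ k) = 1 := by
      have := congrArg Subtype.val hk
      simpa using this
    have hodd : Odd (3 ^ k) := Odd.pow (by decide)
    obtain ⟨j, hj⟩ := hodd
    rw [hj, pow_succ, pow_mul, pow_two, htt, one_pow, one_mul] at hk'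
    exact ht1 hk'

end ree

end Cfsg.Agent.Lib.Helper15_QuadCore
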