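import Cfsg.Agent.Lib.Helper3_GlaubInd
import Cfsg.Agent.Lib.Helper75_Clifford
import Cfsg.Agent.Lib.Helper75_CharProd
import Cfsg.Agent.Lib.Helper75_TripleReduce
import Cfsg.Agent.Lib.Helper80_CharBasic

/-!
# Basic tools for the relative Glauberman correspondence (helper75)

* `sum_modEq_sum_fixed`: for a `p`-group acting on a finite type and an invariant integer valued
  function, the total sum is congruent mod `p` to the sum over the fixed points.
* `classInner_comp_surjective`: the inner product is preserved by inflation along a surjection.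
-/

set_option autoImplicit false
set_option linter.unusedSectionVars false
open scoped ComplexConjugate

namespace Cfsg.Agent.Lib.Helper75_RelGlaubBasic

open Cfsg.Agent.Lib.Helper3_CharBridge Cfsg.Agent.Lib.Helper3_CharOrtho
  Cfsg.Agent.Lib.Helper75_CharArith

section orbit

variable {S X : Type*} [Group S] [MulAction S X] [Fintype X] [DecidableEq X]

/-- The level set of an invariant function as a sub-action. -/
def levelSub (F : X → ℤ) (hF : ∀ (s : S) (x : X), F (s • x) = F x) (v : ℤ) : SubMulAction S X where
  carrier := {x | F x = v}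
  smul_mem' := fun s x hx => by
    show F (s • x) = v
    rw [hF]; exact hx

open scoped Classical in
theorem card_level_modEq {p : ℕ} [Fact p.Prime] (hS : IsPGroup p S)
    (F : X → ℤ) (hF : ∀ (s : S) (x : X), F (s • x) = F x) (v : ℤ) :
    (Finset.univ.filter (fun x : X => F x = v)).card ≡
      (Finset.univ.filter (fun x : X => (∀ s : S, s • x = x) ∧ F x = v)).card [MOD p] := by
  have h := hS.card_modEq_card_fixedPoints (levelSub F hF v)
  have e1 : Nat.card (levelSub F hF v) = (Finset.univ.filter (fun x : X => F x = v)).card := by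
    rw [← Nat.card_eq_finsetCard]
    apply Nat.card_congr
    exact
      { toFun := fun x => ⟨x.1, by
          rw [Finset.mem_filter]; exact ⟨Finset.mem_univ _, x.2⟩⟩
        invFun := fun x => ⟨x.1, (Finset.mem_filter.mp x.2).2⟩
        left_inv := fun x => rfl
        right_inv := fun x => rfl }
  have e2 : Nat.card (MulAction.fixedPoints S (levelSub F hF v)) =
      (Finset.univ.filter (fun x : X => (∀ s : S, s • x = x) ∧ F x = v)).card := by
    rw [← Nat.card_eq_finsetCard]
    apply Nat.card_congr
    exact
      { toFun := fun x => ⟨x.1.1, by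
          rw [Finset.mem_filter]
          refine ⟨Finset.mem_univ _, fun s => ?_, x.1.2⟩
          have := x.2 s
          exact congrArg Subtype.val this⟩
        invFun := fun x => ⟨⟨x.1, (Finset.mem_filter.mp x.2).2.2⟩, fun s => by
          apply Subtype.ext
          exact (Finset.mem_filter.mp x.2).2.1 s⟩
        left_inv := fun x => rfl
        right_inv := fun x => rfl }
  rw [e1, e2] at h
  exact h

open scoped Classical in
/-- For a `p`-group acting on a finite type, the sum of an invariant integer valued function is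
congruent mod `p` to its sum over the fixed points. -/
theorem sum_modEq_sum_fixed {p : ℕ} [Fact p.Prime] (hS : IsPGroup p S)
    (F : X → ℤ) (hF : ∀ (s : S) (x : X), F (s • x) = F x) :
    ∑ x, F x ≡ ∑ x ∈ Finset.univ.filter (fun x : X => ∀ s : S, s • x = x), F x [ZMOD p] := by
  have h1 := Finset.sum_comp (s := (Finset.univ : Finset X)) (f := fun v : ℤ => v) (g := F)
  have h2 := Finset.sum_comp (s := Finset.univ.filter (fun x : X => ∀ s : S, s • x = x))
    (f := fun v : ℤ => v) (g := F)
  rw [h1, h2]
  have hsub : (Finset.univ.filter (fun x : X => ∀ s : S, s • x = x)).image F ⊆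
      (Finset.univ : Finset X).image F := Finset.image_subset_image (Finset.filter_subset _ _)
  have h6 : ∑ b ∈ (Finset.univ.filter (fun x : X => ∀ s : S, s • x = x)).image F,
      ((Finset.univ.filter (fun x : X => ∀ s : S, s • x = x)).filter (fun x => F x = b)).card • b =
      ∑ b ∈ (Finset.univ : Finset X).image F,
      ((Finset.univ.filter (fun x : X => ∀ s : S, s • x = x)).filter (fun x => F x = b)).card • b := by
    apply Finset.sum_subset hsub
    intro v _ hv
    have h5 : (Finset.univ.filter (fun x : X => ∀ s : S, s • x = x)).filter (fun x => F x = v) = ∅ := by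
      rw [Finset.filter_eq_empty_iff]
      intro x hx hFx
      apply hv
      rw [Finset.mem_image]
      exact ⟨x, hx, hFx⟩
    rw [h5, Finset.card_empty, zero_nsmul]
  rw [h6]
  apply Int.ModEq.sum
  intro v _
  rw [nsmul_eq_mul, nsmul_eq_mul]
  apply Int.ModEq.mul_right
  have h3 := card_level_modEq hS F hF v
  have h4 : (Finset.univ.filter (fun x : X => ∀ s : S, s • x = x)).filter (fun x => F x = v) =
      Finset.univ.filter (fun x : X => (∀ s : S, s • x = x) ∧ F x = v) := by
    rw [Finset.filter_filter]
  rw [h4]
  exact (Int.natCast_modEq_iff).mpr h3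

end orbit

section surj

variable {Y G : Type*} [Group Y] [Group G] [Fintype Y] [Fintype G]

open scoped Classical in
theorem sum_comp_surjective (f : Y →* G) (hf : Function.Surjective f) (F : G → ℂ) :
    ∑ y, F (f y) = ((Finset.univ.filter (fun y : Y => f y = 1)).card : ℂ) * ∑ g, F g := by
  rw [Finset.sum_comp (s := (Finset.univ : Finset Y)) (f := F) (g := f)]
  have himg : (Finset.univ : Finset Y).image f = Finset.univ := by
    apply Finset.eq_univ_of_forall
    intro g
    obtain ⟨y, rfl⟩ := hf g
    exact Finset.mem_image_of_mem _ (Finset.mem_univ _)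
  rw [himg, Finset.mul_sum]
  apply Finset.sum_congr rfl
  intro g _
  rw [nsmul_eq_mul]
  congr 2
  exact MonoidHom.card_fiber_eq_of_mem_range f (hf g) (hf 1)

open scoped Classical in
theorem card_eq_fiber_mul (f : Y →* G) (hf : Function.Surjective f) :
    (Nat.card Y : ℂ) = ((Finset.univ.filter (fun y : Y => f y = 1)).card : ℂ) * (Nat.card G : ℂ) := by
  have h := sum_comp_surjective f hf (fun _ => (1 : ℂ))
  simp only [Finset.sum_const, Finset.card_univ, nsmul_eq_mul, mul_one] at h
  rw [Nat.card_eq_fintype_card, Nat.card_eq_fintype_card]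
  exact h

/-- Inflation along a surjective homomorphism preserves the inner product. -/
theorem classInner_comp_surjective (f : Y →* G) (hf : Function.Surjective f) (α β : G → ℂ) :
    Cfsg.classInner (fun y => α (f y)) (fun y => β (f y)) = Cfsg.classInner α β := by
  classical
  unfold Cfsg.classInner
  rw [sum_comp_surjective f hf (fun g => α g * conj (β g)), card_eq_fiber_mul f hf]
  have hG0 : (Nat.card G : ℂ) ≠ 0 := by
    rw [Nat.cast_ne_zero]; exact Nat.card_pos.ne'
  have hc0 : ((Finset.univ.filter (fun y : Y => f y = 1)).card : ℂ) ≠ 0 := by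
    rw [Nat.cast_ne_zero]
    apply Finset.card_ne_zero.mpr
    exact ⟨1, by simp⟩
  field_simp

end surj

section kernel

variable {G : Type*} [Group G]

/-- A character taking the value `χ 1` at `n` is invariant under translation by `n`. -/
theorem mul_right_of_eq_one [Finite G] {χ : G → ℂ} (hχ : Cfsg.IsCharacter G χ) {n : G}
    (hn : χ n = χ 1) (g : G) : χ (g * n) = χ g := by
  obtain ⟨m, ρ, rfl⟩ := hχ
  rw [Representation.char_one] at hn
  have h1 := (Cfsg.Agent.Lib.Helper3_CharEigen.char_eq_finrank_iff ρ n).mp hn
  show LinearMap.trace ℂ _ (ρ (g * n)) = LinearMap.trace ℂ _ (ρ g)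
  rw [map_mul, h1]
  rfl

theorem mul_left_of_eq_one [Finite G] {χ : G → ℂ} (hχ : Cfsg.IsCharacter G χ) {n : G}
    (hn : χ n = χ 1) (g : G) : χ (n * g) = χ g := by
  obtain ⟨m, ρ, rfl⟩ := hχ
  rw [Representation.char_one] at hn
  have h1 := (Cfsg.Agent.Lib.Helper3_CharEigen.char_eq_finrank_iff ρ n).mp hn
  show LinearMap.trace ℂ _ (ρ (n * g)) = LinearMap.trace ℂ _ (ρ g)
  rw [map_mul, h1]
  rfl

open Cfsg.Agent.Lib.Helper75_Clifford Cfsg.Agent.Lib.Helper75_CharProd in
/-- An irreducible character of `G` lying over the trivial character of `N ⊴ G` is trivial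
on `N`. -/
theorem eq_one_of_over_one [Fintype G] (N : Subgroup G) (hN : N.Normal) [Fintype N]
    {β : G → ℂ} (hβ : Cfsg.IsIrrCharacter G β)
    (h : Cfsg.classInner (res N β) (fun _ : N => (1 : ℂ)) ≠ 0) (n : N) : β n = β 1 := by
  have h1 := res_eq_smul_of_invariant N hN hβ (Cfsg.Agent.Lib.Helper80_CharBasic.isIrrCharacter_one N)
    (fun g => by funext n; rfl) h
  have h2 := congrFun h1 n
  have h3 := congrFun h1 1
  rw [Pi.smul_apply, smul_eq_mul, mul_one, res_apply] at h2 h3
  rw [h2]
  exact h3.symm

open Cfsg.Agent.Lib.Helper75_Clifford in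
/-- Conversely, a nonzero character trivial on `N` lies over the trivial character. -/
theorem over_one_of_eq_one [Fintype G] (N : Subgroup G) [Fintype N]
    {β : G → ℂ} (h1 : β 1 ≠ 0) (h : ∀ n : N, β n = β 1) :
    Cfsg.classInner (res N β) (fun _ : N => (1 : ℂ)) ≠ 0 := by
  unfold Cfsg.classInner
  have hN0 : (Nat.card N : ℂ) ≠ 0 := by
    rw [Nat.cast_ne_zero]; exact Nat.card_pos.ne'
  have : ∑ n : N, res N β n * conj ((fun _ : N => (1 : ℂ)) n) = (Nat.card N : ℂ) * β 1 := by
    rw [Finset.sum_congr rfl (fun n _ => by rw [res_apply, h n, map_one, mul_one] :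
      ∀ n ∈ (Finset.univ : Finset N), res N β n * conj ((fun _ : N => (1 : ℂ)) n) = β 1)]
    rw [Finset.sum_const, Finset.card_univ, nsmul_eq_mul, Nat.card_eq_fintype_card]
  rw [this, ← mul_assoc, inv_mul_cancel₀ hN0, one_mul]
  exact h1

end kernel

end Cfsg.Agent.Lib.Helper75_RelGlaubBasic
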