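import Cfsg.Agent.Lib.Helper75_Clifford

/-!
# The Clifford orbit (helper75)

`card_constituents_dvd_index`: for `N ⊴ G` and `χ ∈ Irr G`, the number of irreducible
constituents of `χ|_N` divides `|G : N|` (it is the index of the inertia group of any of them).
-/

set_option autoImplicit false
open scoped ComplexConjugate

namespace Cfsg.Agent.Lib.Helper75_CliffordOrbit

open Cfsg.Agent.Lib.Helper3_CharBridge Cfsg.Agent.Lib.Helper3_CharOrtho
  Cfsg.Agent.Lib.Helper75_Clifford

variable {G : Type*} [Group G]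

/-- Wrapper for functions on `N`, carrying the conjugation action of `G`. -/
@[ext] structure Fn (N : Subgroup G) where
  /-- the underlying function -/
  f : N → ℂ

noncomputable instance instMulActionFn (N : Subgroup G) [hN : N.Normal] : MulAction G (Fn N) where
  smul g x := ⟨conjFun N hN x.f g⁻¹⟩
  one_smul x := by
    ext1
    show conjFun N hN x.f (1 : G)⁻¹ = x.f
    rw [inv_one, conjFun_one]
  mul_smul g h x := by
    ext1
    show conjFun N hN x.f (g * h)⁻¹ = conjFun N hN (conjFun N hN x.f h⁻¹) g⁻¹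
    rw [conjFun_conjFun, mul_inv_rev]

theorem smul_f (N : Subgroup G) [hN : N.Normal] (g : G) (x : Fn N) :
    (g • x).f = conjFun N hN x.f g⁻¹ := rfl

/-- The number of irreducible constituents of `χ|_N` divides `|G : N|`. -/
theorem card_constituents_dvd_index [Fintype G] (N : Subgroup G) [hN : N.Normal] [Fintype N]
    {χ : G → ℂ} (hχ : Cfsg.IsIrrCharacter G χ) (θ : Cfsg.IrrCharacter N)
    (hθ : Cfsg.classInner (res N χ) (θ : N → ℂ) ≠ 0) :
    Nat.card {ψ : Cfsg.IrrCharacter N // Cfsg.classInner (res N χ) (ψ : N → ℂ) ≠ 0} ∣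
      N.index := by
  classical
  set x : Fn N := ⟨(θ : N → ℂ)⟩ with hx
  have hχc : Cfsg.IsClassFunction G χ := isClassFunction_of_isIrrCharacter hχ
  -- the constituents are in bijection with the orbit of `θ`
  have hequiv : {ψ : Cfsg.IrrCharacter N // Cfsg.classInner (res N χ) (ψ : N → ℂ) ≠ 0} ≃
      MulAction.orbit G x := by
    refine Equiv.ofBijective (fun ψ => ⟨⟨(ψ.1 : N → ℂ)⟩, ?_⟩) ⟨?_, ?_⟩
    · obtain ⟨g, hg⟩ := exists_conj_of_constituent N hN hχ θ.2 ψ.1.2 hθ ψ.2
      refine ⟨g⁻¹, ?_⟩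
      ext1
      show conjFun N hN (θ : N → ℂ) g⁻¹⁻¹ = _
      rw [inv_inv, hg]
    · intro ψ ψ' h
      have h1 := congrArg (fun y => y.1.f) h
      exact Subtype.ext (Subtype.ext h1)
    · rintro ⟨y, g, rfl⟩
      have hirr : Cfsg.IsIrrCharacter N (conjFun N hN (θ : N → ℂ) g⁻¹) :=
        isIrrCharacter_conjFun N hN θ.2 g⁻¹
      refine ⟨⟨⟨_, hirr⟩, ?_⟩, ?_⟩
      · show Cfsg.classInner (res N χ) (conjFun N hN (θ : N → ℂ) g⁻¹) ≠ 0
        rw [classInner_res_conjFun N hN hχc]
        exact hθ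
      · apply Subtype.ext
        rfl
  rw [Nat.card_congr hequiv, Nat.card_coe_set_eq, ← MulAction.index_stabilizer]
  apply Subgroup.index_dvd_of_le
  intro n hn
  rw [MulAction.mem_stabilizer_iff]
  ext1
  show conjFun N hN (θ : N → ℂ) n⁻¹ = (θ : N → ℂ)
  exact conjFun_of_mem N hN (isClassFunction_of_isIrrCharacter θ.2) ⟨n⁻¹, N.inv_mem hn⟩

end Cfsg.Agent.Lib.Helper75_CliffordOrbit
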