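import Cfsg.Agent.Lib.Helper75_RelGlaubInv
import Cfsg.Agent.Lib.Helper75_CliffordOrbit

/-!
# Clifford theory with operators, for the relative Glauberman correspondence (helper75)

Generic lemmas for a group `X` with an operator group `S` (through `φ : S →* MulAut X`)
stabilising a normal subgroup `N`:
* `resHom`: the action restricted to a stable subgroup;
* `exists_inv_constituent`: an `S`-invariant irreducible character of `X` has an `S`-invariant
  irreducible constituent on `N`, when `S` is a `p`-group and `p ∤ |X : N|`;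
* `indFun_comp_aut`: induction commutes with automorphisms;
* `over_of_constituent`: if `ν` is a constituent of `Φ` and lies over `ϑ` then `Φ` lies over `ϑ`.
-/

set_option autoImplicit false
set_option linter.unusedSectionVars false
open scoped ComplexConjugate

namespace Cfsg.Agent.Lib.Helper75_RelGlaubCliff

open Cfsg.Agent.Lib.Helper3_CharBridge Cfsg.Agent.Lib.Helper3_CharOrtho
  Cfsg.Agent.Lib.Helper3_CharComplete
  Cfsg.Agent.Lib.Helper75_CharArith Cfsg.Agent.Lib.Helper3_GlaubGood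
  Cfsg.Agent.Lib.Helper3_GlaubInd Cfsg.Agent.Lib.Helper75_Clifford
  Cfsg.Agent.Lib.Helper75_Induced Cfsg.Agent.Lib.Helper75_IndChar
  Cfsg.Agent.Lib.Helper75_RelGlaubBasic Cfsg.Agent.Lib.Helper75_RelGlaubQuot
  Cfsg.Agent.Lib.Helper75_RelGlaubGal Cfsg.Agent.Lib.Helper75_RelGlaubInv
  Cfsg.Agent.Lib.Helper3_BrauerPermAut

universe u

section reshom

variable {X S : Type*} [Group X] [Group S]

/-- The action restricted to a stable subgroup. -/
def resHom (φ : S →* MulAut X) (H : Subgroup X) (hH : ∀ s, ∀ h ∈ H, φ s h ∈ H) :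
    S →* MulAut H where
  toFun s := resAut (φ s) H (hH s) (fun l hl => by
    rw [← map_inv]; exact hH s⁻¹ l hl)
  map_one' := by
    ext h
    simp
  map_mul' := fun s t => by
    ext h
    simp

@[simp] theorem resHom_apply (φ : S →* MulAut X) (H : Subgroup X)
    (hH : ∀ s, ∀ h ∈ H, φ s h ∈ H) (s : S) (h : H) :
    ((resHom φ H hH s h : H) : X) = φ s h := rfl

end reshom

section constituent

variable {X : Type*} [Group X] [Fintype X]

/-- If `ν` is a constituent of the character `Φ` and `ν` lies over `ϑ`, then `Φ` lies over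
`ϑ`. -/
theorem over_of_constituent (N : Subgroup X) [Fintype N] {Φ : X → ℂ}
    (hΦ : Cfsg.IsCharacter X Φ) (ν : Cfsg.IrrCharacter X)
    (hν : Cfsg.classInner Φ (ν : X → ℂ) ≠ 0) {ϑ : N → ℂ} (hϑ : Cfsg.IsCharacter N ϑ)
    (hover : Over N ϑ (ν : X → ℂ)) : Over N ϑ Φ := by
  classical
  obtain ⟨m, hm, hsum⟩ := exists_multiplicities hΦ
  have hb : ∀ ν' : Cfsg.IrrCharacter X, ∃ b : ℕ,
      Cfsg.classInner (res N (ν' : X → ℂ)) ϑ = b := fun ν' =>
    classInner_isCharacter_nat (isCharacter_res N (isCharacter_of_isIrrCharacter ν'.2)) hϑ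
  choose b hb using hb
  have h1 : res N Φ = ∑ ν' : Cfsg.IrrCharacter X, (m ν' : ℂ) • res N (ν' : X → ℂ) := by
    conv_lhs => rw [hsum]
    rw [res_sum]
    rfl
  unfold Over
  rw [h1, classInner_sum_left]
  have h2 : ∀ ν' : Cfsg.IrrCharacter X,
      Cfsg.classInner ((m ν' : ℂ) • res N (ν' : X → ℂ)) ϑ = ((m ν' * b ν' : ℕ) : ℂ) := by
    intro ν'
    rw [classInner_smul_left, hb ν']
    push_cast
    ring
  rw [Finset.sum_congr rfl (fun ν' _ => h2 ν'), ← Nat.cast_sum, Nat.cast_ne_zero]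
  have hmν : m ν ≠ 0 := by
    intro h0
    apply hν
    rw [hm ν, h0, Nat.cast_zero]
  have hbν : b ν ≠ 0 := by
    intro h0
    apply hover
    rw [hb ν, h0, Nat.cast_zero]
  have h3 : m ν * b ν ≤ ∑ ν' : Cfsg.IrrCharacter X, m ν' * b ν' :=
    Finset.single_le_sum (f := fun ν' => m ν' * b ν') (fun _ _ => Nat.zero_le _)
      (Finset.mem_univ ν)
  have h4 : 0 < m ν * b ν := Nat.mul_pos (Nat.pos_of_ne_zero hmν) (Nat.pos_of_ne_zero hbν)
  omega

/-- A nonzero character has an irreducible constituent. -/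
theorem exists_irr_constituent {χ : X → ℂ} (hχ : Cfsg.IsCharacter X χ) (h1 : χ 1 ≠ 0) :
    ∃ ν : Cfsg.IrrCharacter X, Cfsg.classInner χ (ν : X → ℂ) ≠ 0 := by
  classical
  by_contra hcon
  push Not at hcon
  apply h1
  have h2 := classFunction_eq_sum χ (isClassFunction_of_isCharacter hχ)
  rw [h2, Finset.sum_apply]
  apply Finset.sum_eq_zero
  intro ψ _
  rw [hcon ψ, zero_smul]
  rfl

end constituent

section invconst

variable {X S : Type u} [Group X] [Fintype X] [Group S]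

/-- Invariance of a function on a stable subgroup. -/
def SInvOn (φ : S →* MulAut X) (H : Subgroup X) (hH : ∀ s, ∀ h ∈ H, φ s h ∈ H) (θ : H → ℂ) :
    Prop :=
  ∀ (s : S) (h : H), θ ⟨φ s h, hH s h h.2⟩ = θ h

theorem sInvOn_iff (φ : S →* MulAut X) (H : Subgroup X) (hH : ∀ s, ∀ h ∈ H, φ s h ∈ H)
    (θ : H → ℂ) : SInvOn φ H hH θ ↔ SInv (resHom φ H hH) θ := Iff.rfl

/-- The constituents of `χ|_N`, with the action of `S`. -/
abbrev Constituents (N : Subgroup X) [Fintype N] (χ : X → ℂ) : Type _ :=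
  {ψ : Cfsg.IrrCharacter N // Cfsg.classInner (res N χ) (ψ : N → ℂ) ≠ 0}

/-- The action of `S` on the constituents of the restriction of an invariant character. -/
noncomputable def constituentsAction (φ : S →* MulAut X) (N : Subgroup X) [Fintype N]
    (hNφ : ∀ s, ∀ n ∈ N, φ s n ∈ N) {χ : X → ℂ} (hχ : SInv φ χ) :
    MulAction S (Constituents N χ) where
  smul s ψ := ⟨compAut (resHom φ N hNφ s⁻¹) ψ.1, by
    have h1 := Cfsg.Agent.Lib.Helper75_Clifford.classInner_comp_equiv (resHom φ N hNφ s⁻¹)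
      (res N χ) (ψ.1 : N → ℂ)
    have h2 : (fun n : N => res N χ (resHom φ N hNφ s⁻¹ n)) = res N χ := by
      funext n
      exact hχ s⁻¹ n
    rw [h2] at h1
    show Cfsg.classInner (res N χ) (fun n => (ψ.1 : N → ℂ) (resHom φ N hNφ s⁻¹ n)) ≠ 0
    rw [h1]
    exact ψ.2⟩
  one_smul ψ := by
    apply Subtype.ext
    apply Subtype.ext
    funext n
    show (ψ.1 : N → ℂ) (resHom φ N hNφ (1 : S)⁻¹ n) = (ψ.1 : N → ℂ) n
    rw [inv_one, map_one]
    rfl
  mul_smul s t ψ := by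
    apply Subtype.ext
    apply Subtype.ext
    funext n
    show (ψ.1 : N → ℂ) (resHom φ N hNφ (s * t)⁻¹ n) =
      (ψ.1 : N → ℂ) (resHom φ N hNφ t⁻¹ (resHom φ N hNφ s⁻¹ n))
    rw [mul_inv_rev, map_mul]
    rfl

/-- An invariant irreducible character has an invariant constituent on a stable normal subgroup
of index prime to `p`. -/
theorem exists_inv_constituent {p : ℕ} [hp : Fact p.Prime] (hS : IsPGroup p S)
    (φ : S →* MulAut X) (N : Subgroup X) [hN : N.Normal] [Fintype N]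
    (hNφ : ∀ s, ∀ n ∈ N, φ s n ∈ N) (hidx : ¬ p ∣ N.index)
    (χ : Cfsg.IrrCharacter X) (hχ : SInv φ (χ : X → ℂ)) :
    ∃ θ : Cfsg.IrrCharacter N, SInvOn φ N hNφ (θ : N → ℂ) ∧ Over N (θ : N → ℂ) (χ : X → ℂ) := by
  classical
  obtain ⟨θ₀, hθ₀⟩ := exists_irr_constituent
    (isCharacter_res N (isCharacter_of_isIrrCharacter χ.2))
    (by rw [res_apply]; exact irr_one_ne_zero χ.2)
  have hdvd := Cfsg.Agent.Lib.Helper75_CliffordOrbit.card_constituents_dvd_index N χ.2 θ₀ hθ₀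
  have hnd : ¬ p ∣ Nat.card (Constituents N (χ : X → ℂ)) := fun h => hidx (h.trans hdvd)
  letI := constituentsAction φ N hNφ hχ
  obtain ⟨ψ, hψ⟩ := hS.nonempty_fixed_point_of_prime_not_dvd_card (Constituents N (χ : X → ℂ)) hnd
  refine ⟨ψ.1, ?_, ψ.2⟩
  intro s n
  have h1 := hψ s⁻¹
  have h2 := congrFun (congrArg (fun z : Constituents N (χ : X → ℂ) => (z.1 : N → ℂ)) h1) n
  have h3 : (ψ.1 : N → ℂ) (resHom φ N hNφ s⁻¹⁻¹ n) = (ψ.1 : N → ℂ) n := h2
  rw [inv_inv] at h3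
  exact h3

end invconst

section indaut

variable {X : Type*} [Group X] [Fintype X]

theorem extendByZero_comp_aut (σ : MulAut X) (H : Subgroup X) (hH : ∀ h ∈ H, σ h ∈ H)
    (hH' : ∀ h ∈ H, σ⁻¹ h ∈ H) (ψ : H → ℂ) (w : X) :
    Cfsg.extendByZero H (fun h => ψ (resAut σ H hH hH' h)) w = Cfsg.extendByZero H ψ (σ w) := by
  by_cases hw : w ∈ H
  · rw [extendByZero_of_mem H _ hw, extendByZero_of_mem H ψ (hH w hw)]
    rfl
  · have hw' : σ w ∉ H := by
      intro h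
      apply hw
      have := hH' _ h
      rwa [MulAut.inv_apply_self] at this
    rw [extendByZero_of_not_mem H _ hw, extendByZero_of_not_mem H ψ hw']

/-- Induction commutes with automorphisms. -/
theorem indFun_comp_aut (σ : MulAut X) (H : Subgroup X) (hH : ∀ h ∈ H, σ h ∈ H)
    (hH' : ∀ h ∈ H, σ⁻¹ h ∈ H) (ψ : H → ℂ) :
    Cfsg.indFun H (fun h => ψ (resAut σ H hH hH' h)) = fun x => Cfsg.indFun H ψ (σ x) := by
  funext x
  rw [indFun_apply, indFun_apply]
  congr 1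
  apply Fintype.sum_equiv σ.toEquiv
  intro z
  rw [extendByZero_comp_aut]
  congr 1
  simp

end indaut

section inertia

variable {X S : Type u} [Group X] [Group S]

/-- The inertia group of a function on a normal subgroup. -/
def inertia (N : Subgroup X) (hN : N.Normal) (ϑ : N → ℂ) : Subgroup X where
  carrier := {g | Helper75_Clifford.conjFun N hN ϑ g = ϑ}
  mul_mem' := by
    intro a b ha hb
    show Helper75_Clifford.conjFun N hN ϑ (a * b) = ϑ
    rw [← conjFun_conjFun, show Helper75_Clifford.conjFun N hN ϑ a = ϑ from ha]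
    exact hb
  one_mem' := conjFun_one N hN ϑ
  inv_mem' := by
    intro a ha
    show Helper75_Clifford.conjFun N hN ϑ a⁻¹ = ϑ
    have h1 : Helper75_Clifford.conjFun N hN (Helper75_Clifford.conjFun N hN ϑ a) a⁻¹ = Helper75_Clifford.conjFun N hN ϑ (a * a⁻¹) :=
      conjFun_conjFun N hN ϑ a a⁻¹
    rw [show Helper75_Clifford.conjFun N hN ϑ a = ϑ from ha, mul_inv_cancel, conjFun_one] at h1
    exact h1

theorem mem_inertia (N : Subgroup X) (hN : N.Normal) (ϑ : N → ℂ) (g : X) :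
    g ∈ inertia N hN ϑ ↔ Helper75_Clifford.conjFun N hN ϑ g = ϑ := Iff.rfl

theorem le_inertia (N : Subgroup X) (hN : N.Normal) {ϑ : N → ℂ}
    (hϑ : Cfsg.IsClassFunction N ϑ) : N ≤ inertia N hN ϑ := fun n hn =>
  conjFun_of_mem N hN hϑ ⟨n, hn⟩

/-- Conjugating an invariant function by the image of `g` under an operator. -/
theorem conjFun_aut (φ : S →* MulAut X) (N : Subgroup X) (hN : N.Normal)
    (hNφ : ∀ s, ∀ n ∈ N, φ s n ∈ N) {ϑ : N → ℂ} (hϑ : SInvOn φ N hNφ ϑ) (s : S) (g : X) :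
    Helper75_Clifford.conjFun N hN ϑ (φ s g) = fun n : N => Helper75_Clifford.conjFun N hN ϑ g ⟨φ s⁻¹ n, hNφ s⁻¹ n n.2⟩ := by
  funext n
  rw [conjFun_apply, conjFun_apply]
  rw [← hϑ s ⟨g * (φ s⁻¹ n) * g⁻¹, hN.conj_mem _ (hNφ s⁻¹ n n.2) g⟩]
  congr 1
  apply Subtype.ext
  show φ s g * (n : X) * (φ s g)⁻¹ = φ s (g * (φ s⁻¹ n) * g⁻¹)
  have h1 : φ s (φ s⁻¹ (n : X)) = n := by
    rw [← MulAut.mul_apply, ← map_mul, mul_inv_cancel, map_one]
    rfl
  rw [map_mul, map_mul, h1, map_inv]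

theorem inertia_stable (φ : S →* MulAut X) (N : Subgroup X) (hN : N.Normal)
    (hNφ : ∀ s, ∀ n ∈ N, φ s n ∈ N) {ϑ : N → ℂ} (hϑ : SInvOn φ N hNφ ϑ) (s : S) (g : X)
    (hg : g ∈ inertia N hN ϑ) : φ s g ∈ inertia N hN ϑ := by
  rw [mem_inertia] at hg ⊢
  rw [conjFun_aut φ N hN hNφ hϑ s g, hg]
  funext n
  exact hϑ s⁻¹ n

/-- If `ϑ` and `ϑ^k` are both invariant, then `φ s k * k⁻¹` lies in the inertia group. -/
theorem mul_inv_mem_inertia (φ : S →* MulAut X) (N : Subgroup X) (hN : N.Normal)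
    (hNφ : ∀ s, ∀ n ∈ N, φ s n ∈ N) {ϑ : N → ℂ} (hϑ : SInvOn φ N hNφ ϑ) (k : X)
    (hk : SInvOn φ N hNφ (Helper75_Clifford.conjFun N hN ϑ k)) (s : S) :
    φ s k * k⁻¹ ∈ inertia N hN ϑ := by
  rw [mem_inertia, ← conjFun_conjFun, conjFun_aut φ N hN hNφ hϑ s k]
  have h1 : (fun n : N => Helper75_Clifford.conjFun N hN ϑ k ⟨φ s⁻¹ n, hNφ s⁻¹ n n.2⟩) = Helper75_Clifford.conjFun N hN ϑ k := by
    funext n
    exact hk s⁻¹ n
  rw [h1, conjFun_conjFun, mul_inv_cancel, conjFun_one]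

end inertia

section fixedconj

variable {K C S : Type u} [Group K] [Fintype K] [Group C] [Group S]

/-- **Glauberman's lemma** for the orbit of an invariant character: two invariant characters of
`Q` that are conjugate in `K` are conjugate under the fixed points. -/
theorem exists_conj_in_fixed {p : ℕ} [hp : Fact p.Prime] (hS : IsPGroup p S)
    (φ : S →* MulAut K) (ι : C →* K) (Q : Subgroup K) [hQ : Q.Normal]
    (hQφ : ∀ s, ∀ q ∈ Q, φ s q ∈ Q)
    (hrange : ∀ k : K, k ∈ ι.range ↔ ∀ s : S, φ s k * k⁻¹ ∈ Q) (hidx : ¬ p ∣ Q.index)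
    {θ : Q → ℂ} (hθc : Cfsg.IsClassFunction Q θ) (hθ : SInvOn φ Q hQφ θ) (k : K)
    (hk : SInvOn φ Q hQφ (Helper75_Clifford.conjFun Q hQ θ k)) :
    ∃ c : C, Helper75_Clifford.conjFun Q hQ θ (ι c) = Helper75_Clifford.conjFun Q hQ θ k := by
  classical
  set T := inertia Q hQ θ with hT
  letI : MulAction S (K ⧸ Q) := MulAction.compHom (K ⧸ Q) (quotHom φ Q hQφ)
  have hsmul : ∀ (s : S) (g : K), s • (g : K ⧸ Q) = ((φ s g : K) : K ⧸ Q) := fun s g => rfl
  let Y : SubMulAction S (K ⧸ Q) :=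
    { carrier := {x | ∃ t ∈ T, x = ((t * k : K) : K ⧸ Q)}
      smul_mem' := by
        rintro s x ⟨t, ht, rfl⟩
        refine ⟨φ s t * (φ s k * k⁻¹), T.mul_mem (inertia_stable φ Q hQ hQφ hθ s t ht)
          (mul_inv_mem_inertia φ Q hQ hQφ hθ k hk s), ?_⟩
        rw [hsmul, map_mul]
        congr 1
        group }
  let Tb : Subgroup (K ⧸ Q) := T.map (QuotientGroup.mk' Q)
  have hequiv : Y ≃ Tb :=
    { toFun := fun y => ⟨y.1 * ((k : K) : K ⧸ Q)⁻¹, by
        obtain ⟨t, ht, hy⟩ := y.2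
        refine ⟨t, ht, ?_⟩
        rw [hy]
        show ((t : K) : K ⧸ Q) = ((t * k : K) : K ⧸ Q) * ((k : K) : K ⧸ Q)⁻¹
        rw [QuotientGroup.mk_mul, mul_inv_cancel_right]⟩
      invFun := fun t => ⟨t.1 * ((k : K) : K ⧸ Q), by
        obtain ⟨t₀, ht₀, ht⟩ := t.2
        refine ⟨t₀, ht₀, ?_⟩
        rw [← ht]
        rfl⟩
      left_inv := fun y => by
        apply Subtype.ext
        show y.1 * ((k : K) : K ⧸ Q)⁻¹ * ((k : K) : K ⧸ Q) = y.1
        rw [inv_mul_cancel_right]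
      right_inv := fun t => by
        apply Subtype.ext
        show t.1 * ((k : K) : K ⧸ Q) * ((k : K) : K ⧸ Q)⁻¹ = t.1
        rw [mul_inv_cancel_right] }
  have hcard : ¬ p ∣ Nat.card Y := by
    rw [Nat.card_congr hequiv]
    intro h
    exact hidx (h.trans (Subgroup.card_subgroup_dvd_card Tb))
  obtain ⟨y, hy⟩ := hS.nonempty_fixed_point_of_prime_not_dvd_card Y hcard
  obtain ⟨t, ht, hyt⟩ := y.2
  have hfix : ∀ s : S, φ s (t * k) * (t * k)⁻¹ ∈ Q := by
    intro s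
    apply mul_inv_mem_of_mk_eq Q
    have h1 := congrArg Subtype.val (hy s)
    have h2 : s • (y : K ⧸ Q) = (y : K ⧸ Q) := h1
    rw [hyt, hsmul] at h2
    exact h2
  obtain ⟨c, hc⟩ := (hrange (t * k)).mpr hfix
  refine ⟨c, ?_⟩
  rw [hc, ← conjFun_conjFun]
  have h3 : Helper75_Clifford.conjFun Q hQ θ t = θ := ht
  rw [h3]

end fixedconj

section cliffpkg

variable {X : Type u} [Group X] [Fintype X]

/-- `ψ`, a function on `T ≥ H`, lies over `θ` (restriction form). -/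
def OverT (H T : Subgroup X) [Fintype H] (hHT : H ≤ T) (θ : H → ℂ) (ψ : T → ℂ) : Prop :=
  Cfsg.classInner (fun n : H => ψ ⟨(n : X), hHT n.2⟩) θ ≠ 0

theorem overT_iff_ind (H T : Subgroup X) [Fintype H] [Fintype T] [Fintype (H.subgroupOf T)]
    (hHT : H ≤ T) (θ : H → ℂ) {ψ : T → ℂ} (hψ : Cfsg.IsClassFunction T ψ) :
    OverT H T hHT θ ψ ↔
      Cfsg.classInner (Cfsg.indFun (H.subgroupOf T) (resSubgroupOf H T θ)) ψ ≠ 0 := by
  unfold OverT
  rw [frobenius_reciprocity (H.subgroupOf T) (resSubgroupOf H T θ) ψ hψ,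
    classInner_resSubgroupOf H T hHT θ ψ]
  have h : Cfsg.classInner θ (fun n : H => ψ ⟨(n : X), hHT n.2⟩) =
      conj (Cfsg.classInner (fun n : H => ψ ⟨(n : X), hHT n.2⟩) θ) :=
    (classInner_conj_symm _ θ).symm
  rw [h]
  exact (map_ne_zero _).symm

theorem overT_iff_over (H T : Subgroup X) [Fintype H] [Fintype (H.subgroupOf T)]
    (hHT : H ≤ T) (θ : H → ℂ) (ψ : T → ℂ) :
    OverT H T hHT θ ψ ↔ Over (H.subgroupOf T) (resSubgroupOf H T θ) ψ := by
  unfold OverT Over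
  have h1 := classInner_resSubgroupOf H T hHT θ ψ
  have h2 : Cfsg.classInner (res (H.subgroupOf T) ψ) (resSubgroupOf H T θ) =
      conj (Cfsg.classInner (resSubgroupOf H T θ) (fun x : H.subgroupOf T => ψ x)) :=
    (classInner_conj_symm _ _).symm
  have h3 : Cfsg.classInner (fun n : H => ψ ⟨(n : X), hHT n.2⟩) θ =
      conj (Cfsg.classInner θ (fun n : H => ψ ⟨(n : X), hHT n.2⟩)) :=
    (classInner_conj_symm _ _).symm
  rw [h2, h3, h1]

variable (H T : Subgroup X) (hN : H.Normal) [Fintype H] [Fintype T] (hHT : H ≤ T)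
  {θ : H → ℂ} (hθ : Cfsg.IsIrrCharacter H θ)
  (hT : ∀ g : X, g ∈ T ↔ Helper75_Clifford.conjFun H hN θ g = θ)

include hθ hT in
theorem cliff_irr (ψ : Cfsg.IrrCharacter T) (hψ : OverT H T hHT θ (ψ : T → ℂ)) :
    Cfsg.IsIrrCharacter X (Cfsg.indFun T (ψ : T → ℂ)) := by
  have : Fintype (H.subgroupOf T) := Fintype.ofFinite _
  have h1 := corr_core H T hN hHT hθ hT ψ
    ((overT_iff_ind H T hHT θ (isClassFunction_of_isIrrCharacter ψ.2)).mp hψ)
  exact isIrrCharacter_of_classInner_self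
    (isCharacter_indFun T (isCharacter_of_isIrrCharacter ψ.2)) h1.1

include hθ hT in
theorem cliff_orth (ψ ψ' : Cfsg.IrrCharacter T) (hψ : OverT H T hHT θ (ψ : T → ℂ))
    (hψ' : OverT H T hHT θ (ψ' : T → ℂ)) (hne : ψ' ≠ ψ) :
    Cfsg.classInner (Cfsg.indFun T (ψ : T → ℂ)) (Cfsg.indFun T (ψ' : T → ℂ)) = 0 := by
  have : Fintype (H.subgroupOf T) := Fintype.ofFinite _
  have h1 := corr_core H T hN hHT hθ hT ψ
    ((overT_iff_ind H T hHT θ (isClassFunction_of_isIrrCharacter ψ.2)).mp hψ)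
  exact h1.2 ψ' hne
    ((overT_iff_ind H T hHT θ (isClassFunction_of_isIrrCharacter ψ'.2)).mp hψ')

include hθ hT in
theorem cliff_inj (ψ ψ' : Cfsg.IrrCharacter T) (hψ : OverT H T hHT θ (ψ : T → ℂ))
    (hψ' : OverT H T hHT θ (ψ' : T → ℂ))
    (heq : Cfsg.indFun T (ψ : T → ℂ) = Cfsg.indFun T (ψ' : T → ℂ)) : ψ = ψ' := by
  by_contra hne
  have h1 := cliff_orth H T hN hHT hθ hT ψ ψ' hψ hψ' (fun h => hne h.symm)
  rw [← heq, classInner_self_of_isIrrCharacter (cliff_irr H T hN hHT hθ hT ψ hψ)] at h1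
  exact one_ne_zero h1

include hθ hT in
theorem cliff_surj (χ : Cfsg.IrrCharacter X) (hχ : Over H θ (χ : X → ℂ)) :
    ∃ ψ : Cfsg.IrrCharacter T, Cfsg.indFun T (ψ : T → ℂ) = (χ : X → ℂ) ∧
      OverT H T hHT θ (ψ : T → ℂ) := by
  obtain ⟨ψ, hψirr, hψind, hψov⟩ := corr_surj H T hN hHT hθ hT χ.2 hχ
  refine ⟨⟨ψ, hψirr⟩, hψind, ?_⟩
  unfold OverT
  rw [hψov]
  exact hχ

end cliffpkg

section cliffinv

variable {X S : Type u} [Group X] [Fintype X] [Group S]

theorem cliff_sinv_up (φ : S →* MulAut X) (T : Subgroup X)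
    (hTφ : ∀ s, ∀ t ∈ T, φ s t ∈ T) {ψ : T → ℂ} (hψ : SInv (resHom φ T hTφ) ψ) :
    SInv φ (Cfsg.indFun T ψ) := by
  intro s x
  have h1 := indFun_comp_aut (φ s) T (hTφ s) (fun l hl => by
    rw [← map_inv]; exact hTφ s⁻¹ l hl) ψ
  have h2 : (fun t : T => ψ (resAut (φ s) T (hTφ s) (fun l hl => by
      rw [← map_inv]; exact hTφ s⁻¹ l hl) t)) = ψ := by
    funext t
    exact hψ s t
  rw [h2] at h1
  exact (congrFun h1 x).symm

variable (φ : S →* MulAut X) (H T : Subgroup X) (hN : H.Normal) [Fintype H] [Fintype T]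
  (hHT : H ≤ T) (hHφ : ∀ s, ∀ h ∈ H, φ s h ∈ H) (hTφ : ∀ s, ∀ t ∈ T, φ s t ∈ T)
  {θ : H → ℂ} (hθ : Cfsg.IsIrrCharacter H θ) (hθS : SInvOn φ H hHφ θ)
  (hT : ∀ g : X, g ∈ T ↔ Helper75_Clifford.conjFun H hN θ g = θ)

include hθS in
theorem overT_compAut (ψ : Cfsg.IrrCharacter T) (hψ : OverT H T hHT θ (ψ : T → ℂ)) (s : S) :
    OverT H T hHT θ (compAut (resHom φ T hTφ s) ψ : T → ℂ) := by
  unfold OverT at hψ ⊢
  have h1 := Cfsg.Agent.Lib.Helper75_Clifford.classInner_comp_equiv (resHom φ H hHφ s)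
    (fun n : H => (ψ : T → ℂ) ⟨(n : X), hHT n.2⟩) θ
  have h2 : (fun n : H => θ (resHom φ H hHφ s n)) = θ := by
    funext n
    exact hθS s n
  rw [h2] at h1
  rw [← h1] at hψ
  exact hψ

include hθ hθS hT in
theorem cliff_sinv_down (ψ : Cfsg.IrrCharacter T) (hψ : OverT H T hHT θ (ψ : T → ℂ))
    (hind : SInv φ (Cfsg.indFun T (ψ : T → ℂ))) : SInv (resHom φ T hTφ) (ψ : T → ℂ) := by
  intro s t
  have h1 := overT_compAut φ H T hHT hHφ hTφ hθS ψ hψ s
  have h2 : Cfsg.indFun T (compAut (resHom φ T hTφ s) ψ : T → ℂ) =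
      Cfsg.indFun T (ψ : T → ℂ) := by
    have h3 := indFun_comp_aut (φ s) T (hTφ s) (fun l hl => by
      rw [← map_inv]; exact hTφ s⁻¹ l hl) (ψ : T → ℂ)
    have h4 : (fun x => Cfsg.indFun T (ψ : T → ℂ) (φ s x)) = Cfsg.indFun T (ψ : T → ℂ) := by
      funext x
      exact hind s x
    rw [h4] at h3
    exact h3
  have h5 := cliff_inj H T hN hHT hθ hT _ ψ h1 hψ h2
  exact congrFun (congrArg Subtype.val h5) t

end cliffinv

end Cfsg.Agent.Lib.Helper75_RelGlaubCliff
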