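import Cfsg.Agent.Lib.Helper75_RelGlaubBasic

/-!
# The relative Glauberman correspondence, stage I: characters trivial on `Q` (helper75)

A `p`-group `S` acts on `K` through `φ`, stabilising the normal subgroup `Q` of index prime to
`p`; `ι : C →* K` is injective onto the elements `k` with `φ s k * k⁻¹ ∈ Q` for all `s`.
The `p`-group Glauberman correspondence for `K ⧸ Q` is transported to the characters of `K`
and `C` that are trivial on `Q`.
-/

set_option autoImplicit false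
set_option linter.unusedSectionVars false
open scoped ComplexConjugate

namespace Cfsg.Agent.Lib.Helper75_RelGlaubQuot

open Cfsg.Agent.Lib.Helper3_CharBridge Cfsg.Agent.Lib.Helper3_CharOrtho
  Cfsg.Agent.Lib.Helper75_CharArith Cfsg.Agent.Lib.Helper3_GlaubGood
  Cfsg.Agent.Lib.Helper3_GlaubInd Cfsg.Agent.Lib.Helper75_RelGlaubBasic

universe u

section quotaction

variable {K S : Type*} [Group K] [Group S]

theorem map_eq_of_stable (φ : S →* MulAut K) (Q : Subgroup K)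
    (hQφ : ∀ s, ∀ q ∈ Q, φ s q ∈ Q) (s : S) :
    Q.map ((φ s : K ≃* K) : K →* K) = Q := by
  apply le_antisymm
  · rintro _ ⟨q, hq, rfl⟩
    exact hQφ s q hq
  · intro q hq
    refine ⟨φ s⁻¹ q, hQφ s⁻¹ q hq, ?_⟩
    show φ s (φ s⁻¹ q) = q
    rw [← MulAut.mul_apply, ← map_mul, mul_inv_cancel, map_one]
    rfl

/-- The action induced on the quotient by a stable normal subgroup. -/
def quotHom (φ : S →* MulAut K) (Q : Subgroup K) [Q.Normal]
    (hQφ : ∀ s, ∀ q ∈ Q, φ s q ∈ Q) : S →* MulAut (K ⧸ Q) where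
  toFun s := QuotientGroup.congr Q Q (φ s) (map_eq_of_stable φ Q hQφ s)
  map_one' := by
    ext x
    induction x using QuotientGroup.induction_on with
    | H k =>
      show ((φ 1 k : K) : K ⧸ Q) = (k : K ⧸ Q)
      rw [map_one]; rfl
  map_mul' := fun s t => by
    ext x
    induction x using QuotientGroup.induction_on with
    | H k =>
      show ((φ (s * t) k : K) : K ⧸ Q) = ((φ s (φ t k) : K) : K ⧸ Q)
      rw [map_mul]; rfl

@[simp] theorem quotHom_mk (φ : S →* MulAut K) (Q : Subgroup K) [Q.Normal]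
    (hQφ : ∀ s, ∀ q ∈ Q, φ s q ∈ Q) (s : S) (k : K) :
    quotHom φ Q hQφ s (k : K ⧸ Q) = ((φ s k : K) : K ⧸ Q) := rfl

end quotaction

section inflate

variable {C D : Type*} [Group C] [Group D] [Fintype C] [Fintype D]

/-- Inflation of an irreducible character along a surjection. -/
noncomputable def infl (f : C →* D) (hf : Function.Surjective f) (δ : Cfsg.IrrCharacter D) :
    Cfsg.IrrCharacter C :=
  ⟨fun c => (δ : D → ℂ) (f c),
    Cfsg.Agent.Lib.Helper57_FrobNorm.isIrrCharacter_comp_surjective f hf δ.2⟩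

@[simp] theorem infl_apply (f : C →* D) (hf : Function.Surjective f) (δ : Cfsg.IrrCharacter D)
    (c : C) : (infl f hf δ : C → ℂ) c = (δ : D → ℂ) (f c) := rfl

theorem infl_injective (f : C →* D) (hf : Function.Surjective f) :
    Function.Injective (infl f hf) := by
  intro δ δ' h
  apply Subtype.ext
  funext d
  obtain ⟨c, rfl⟩ := hf d
  exact congrFun (congrArg Subtype.val h) c

theorem exists_infl (f : C →* D) (hf : Function.Surjective f) (γ : Cfsg.IrrCharacter C)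
    (h : ∀ c : C, f c = 1 → (γ : C → ℂ) c = (γ : C → ℂ) 1) : ∃ δ, γ = infl f hf δ := by
  obtain ⟨ψ, hψ, hψf⟩ := Cfsg.Agent.Lib.Helper75_TripleReduce.descend f hf γ.2 h
  refine ⟨⟨ψ, hψ⟩, ?_⟩
  apply Subtype.ext
  funext c
  exact (hψf c).symm

theorem infl_trivial (f : C →* D) (hf : Function.Surjective f) (δ : Cfsg.IrrCharacter D)
    (c : C) (hc : f c = 1) : (infl f hf δ : C → ℂ) c = (infl f hf δ : C → ℂ) 1 := by
  rw [infl_apply, infl_apply, hc, map_one]

theorem classInner_infl (f : C →* D) (hf : Function.Surjective f) (Φ : D → ℂ)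
    (δ : Cfsg.IrrCharacter D) :
    Cfsg.classInner (fun c => Φ (f c)) (infl f hf δ : C → ℂ) =
      Cfsg.classInner Φ (δ : D → ℂ) :=
  classInner_comp_surjective f hf Φ (δ : D → ℂ)

/-- The inflation of a character is orthogonal to every irreducible character which is not an
inflation. -/
theorem classInner_infl_orth (f : C →* D) (hf : Function.Surjective f) {Φ : D → ℂ}
    (hΦ : Cfsg.IsCharacter D Φ) (γ : Cfsg.IrrCharacter C)
    (h : ¬ ∃ δ, γ = infl f hf δ) :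
    Cfsg.classInner (fun c => Φ (f c)) (γ : C → ℂ) = 0 := by
  classical
  obtain ⟨m, _, hsum⟩ := exists_multiplicities hΦ
  have h1 : (fun c => Φ (f c)) =
      ∑ δ : Cfsg.IrrCharacter D, (m δ : ℂ) • (infl f hf δ : C → ℂ) := by
    funext c
    rw [hsum]
    simp only [Finset.sum_apply, Pi.smul_apply, infl_apply]
  rw [h1, classInner_sum_left]
  apply Finset.sum_eq_zero
  intro δ _
  rw [classInner_smul_left]
  have hne : (infl f hf δ : C → ℂ) ≠ (γ : C → ℂ) := by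
    intro heq
    exact h ⟨δ, (Subtype.ext heq).symm⟩
  rw [classInner_of_isIrrCharacter_of_ne (infl f hf δ).2 γ.2 hne, mul_zero]

/-- Goodness is preserved and reflected by inflation. -/
theorem good_infl_iff (f : C →* D) (hf : Function.Surjective f) (p : ℕ) {Φ : D → ℂ}
    (hΦ : Cfsg.IsCharacter D Φ) (δ : Cfsg.IrrCharacter D) :
    Good p Φ δ ↔ Good p (fun c => Φ (f c)) (infl f hf δ) := by
  constructor
  · intro h
    refine ⟨?_, ?_⟩
    · obtain ⟨m, ε, hε, hm⟩ := h.1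
      exact ⟨m, ε, hε, by rw [classInner_infl, hm]⟩
    · intro γ hγ
      by_cases hex : ∃ δ', γ = infl f hf δ'
      · obtain ⟨δ', rfl⟩ := hex
        have hne : δ' ≠ δ := fun h0 => hγ (by rw [h0])
        obtain ⟨m', hm'⟩ := h.2 δ' hne
        exact ⟨m', by rw [classInner_infl, hm']⟩
      · exact ⟨0, by rw [classInner_infl_orth f hf hΦ γ hex]; simp⟩
  · intro h
    refine ⟨?_, ?_⟩
    · obtain ⟨m, ε, hε, hm⟩ := h.1
      exact ⟨m, ε, hε, by rw [← classInner_infl f hf, hm]⟩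
    · intro δ' hδ'
      have hne : infl f hf δ' ≠ infl f hf δ := fun h0 => hδ' (infl_injective f hf h0)
      obtain ⟨m', hm'⟩ := h.2 _ hne
      exact ⟨m', by rw [← classInner_infl f hf, hm']⟩

/-- If a constituent of an inflated character has nonzero multiplicity, it is an inflation. -/
theorem exists_infl_of_good (f : C →* D) (hf : Function.Surjective f) {p : ℕ} (hp : 2 ≤ p)
    {Φ : D → ℂ} (hΦ : Cfsg.IsCharacter D Φ) (γ : Cfsg.IrrCharacter C)
    (h : Good p (fun c => Φ (f c)) γ) : ∃ δ, γ = infl f hf δ := by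
  by_contra hex
  have h0 := classInner_infl_orth f hf hΦ γ hex
  obtain ⟨m, ε, hε, hm⟩ := h.1
  rw [h0] at hm
  have h1 : (0 : ℤ) = (p : ℤ) * m + ε := by
    have : ((0 : ℤ) : ℂ) = (((p : ℤ) * m + ε : ℤ) : ℂ) := by rw [← hm]; simp
    exact Int.cast_injective this
  exact not_dvd_of_pm_one hp hε (m' := 0) (m := m) (by rw [mul_zero]; exact h1)

end inflate

section abc

variable {K C S : Type u} [Group K] [Group C] [Group S] [Fintype K] [Fintype C]

/-- The map induced by `ι` on the quotients. -/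
def quotMap (ι : C →* K) (Q : Subgroup K) [Q.Normal] [(Q.comap ι).Normal] :
    C ⧸ Q.comap ι →* K ⧸ Q :=
  QuotientGroup.map (Q.comap ι) Q ι (le_refl _)

@[simp] theorem quotMap_mk (ι : C →* K) (Q : Subgroup K) [Q.Normal] [(Q.comap ι).Normal] (c : C) :
    quotMap ι Q (c : C ⧸ Q.comap ι) = ((ι c : K) : K ⧸ Q) := rfl

theorem mk_eq_of_mul_inv_mem (Q : Subgroup K) [hQ : Q.Normal] {a b : K} (h : a * b⁻¹ ∈ Q) :
    (a : K ⧸ Q) = (b : K ⧸ Q) := by
  rw [QuotientGroup.eq]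
  have h4 := hQ.conj_mem _ (Q.inv_mem h) a⁻¹
  have h5 : a⁻¹ * (a * b⁻¹)⁻¹ * a⁻¹⁻¹ = a⁻¹ * b := by group
  rw [h5] at h4
  exact h4

theorem mul_inv_mem_of_mk_eq (Q : Subgroup K) [hQ : Q.Normal] {a b : K}
    (h : (a : K ⧸ Q) = (b : K ⧸ Q)) : a * b⁻¹ ∈ Q := by
  rw [QuotientGroup.eq] at h
  have h4 := hQ.conj_mem _ (Q.inv_mem h) a
  have h5 : a * (a⁻¹ * b)⁻¹ * a⁻¹ = a * b⁻¹ := by group
  rw [h5] at h4
  exact h4

/-- The `p`-group Glauberman correspondence for the quotient `K ⧸ Q`. -/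
theorem quot_abc {p : ℕ} [hp : Fact p.Prime] (φ : S →* MulAut K) (ι : C →* K)
    (Q : Subgroup K) [hQ : Q.Normal] [hQC : (Q.comap ι).Normal]
    [Fintype (K ⧸ Q)] [Fintype (C ⧸ Q.comap ι)]
    (hQφ : ∀ s, ∀ q ∈ Q, φ s q ∈ Q)
    (hrange : ∀ k : K, k ∈ ι.range ↔ ∀ s : S, φ s k * k⁻¹ ∈ Q)
    {n : ℕ} (hS : Nat.card S = p ^ n) (hidx : ¬ p ∣ Q.index) :
    ABC p (Set.range (quotHom φ Q hQφ)) (quotMap ι Q) := by
  have hfKs : Function.Surjective (QuotientGroup.mk' Q) := QuotientGroup.mk'_surjective Q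
  have hfCs : Function.Surjective (QuotientGroup.mk' (Q.comap ι)) :=
    QuotientGroup.mk'_surjective _
  have hιbinj : Function.Injective (quotMap ι Q) := by
    rw [injective_iff_map_eq_one]
    intro x
    obtain ⟨c, rfl⟩ := hfCs x
    intro h
    have h1 : ι c ∈ Q := (QuotientGroup.eq_one_iff _).mp h
    exact (QuotientGroup.eq_one_iff _).mpr h1
  have hfix : ∀ x : K ⧸ Q, (∀ s : S, quotHom φ Q hQφ s x = x) ↔ x ∈ (quotMap ι Q).range := by
    intro x
    obtain ⟨k, rfl⟩ := hfKs x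
    constructor
    · intro h
      have hk : k ∈ ι.range := by
        rw [hrange]
        intro s
        exact mul_inv_mem_of_mk_eq Q (h s)
      obtain ⟨c, rfl⟩ := hk
      exact ⟨(c : C ⧸ Q.comap ι), rfl⟩
    · rintro ⟨y, hy⟩
      obtain ⟨c, rfl⟩ := hfCs y
      intro s
      rw [← hy]
      exact mk_eq_of_mul_inv_mem Q ((hrange (ι c)).mp ⟨c, rfl⟩ s)
  have hpG : n ≠ 0 → ¬ p ∣ Nat.card (K ⧸ Q) := fun _ => hidx
  exact glauberman_pgroup n hpG hS (quotHom φ Q hQφ) (quotMap ι Q) hιbinj hfix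

end abc

section main

variable {K C S : Type u} [Group K] [Group C] [Group S] [Fintype K] [Fintype C]

/-- Invariance of a function under the operator group. -/
def SInv (φ : S →* MulAut K) (χ : K → ℂ) : Prop := ∀ (s : S) (k : K), χ (φ s k) = χ k

/-- **Stage I**: the correspondence for the characters trivial on `Q`. -/
theorem quot_corr {p : ℕ} [hp : Fact p.Prime] (φ : S →* MulAut K) (ι : C →* K)
    (hι : Function.Injective ι) (Q : Subgroup K) [hQ : Q.Normal]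
    (hQφ : ∀ s, ∀ q ∈ Q, φ s q ∈ Q)
    (hrange : ∀ k : K, k ∈ ι.range ↔ ∀ s : S, φ s k * k⁻¹ ∈ Q)
    {n : ℕ} (hS : Nat.card S = p ^ n) (hidx : ¬ p ∣ Q.index) :
    (∀ β : Cfsg.IrrCharacter K, SInv φ (β : K → ℂ) →
      (∀ q ∈ Q, (β : K → ℂ) q = (β : K → ℂ) 1) →
      ∃ γ : Cfsg.IrrCharacter C, (∀ c : C, ι c ∈ Q → (γ : C → ℂ) c = (γ : C → ℂ) 1) ∧
        Good p (fun c => (β : K → ℂ) (ι c)) γ) ∧
    (∀ β β' : Cfsg.IrrCharacter K, SInv φ (β : K → ℂ) → SInv φ (β' : K → ℂ) →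
      (∀ q ∈ Q, (β : K → ℂ) q = (β : K → ℂ) 1) →
      (∀ q ∈ Q, (β' : K → ℂ) q = (β' : K → ℂ) 1) →
      ∀ γ : Cfsg.IrrCharacter C, Good p (fun c => (β : K → ℂ) (ι c)) γ →
        Good p (fun c => (β' : K → ℂ) (ι c)) γ → β = β') ∧
    (∀ γ : Cfsg.IrrCharacter C, (∀ c : C, ι c ∈ Q → (γ : C → ℂ) c = (γ : C → ℂ) 1) →
      ∃ β : Cfsg.IrrCharacter K, SInv φ (β : K → ℂ) ∧
        (∀ q ∈ Q, (β : K → ℂ) q = (β : K → ℂ) 1) ∧
        Good p (fun c => (β : K → ℂ) (ι c)) γ) := by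
  classical
  have hp2 : 2 ≤ p := hp.out.two_le
  set QC : Subgroup C := Q.comap ι with hQC
  have hQCn : QC.Normal := hQ.comap ι
  have : Fintype (K ⧸ Q) := Fintype.ofFinite _
  have : Fintype (C ⧸ QC) := Fintype.ofFinite _
  set fK : K →* K ⧸ Q := QuotientGroup.mk' Q with hfK
  set fC : C →* C ⧸ QC := QuotientGroup.mk' QC with hfC
  have hfKs : Function.Surjective fK := QuotientGroup.mk'_surjective Q
  have hfCs : Function.Surjective fC := QuotientGroup.mk'_surjective QC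
  set ιb : C ⧸ QC →* K ⧸ Q := QuotientGroup.map QC Q ι (le_refl _) with hιb
  have hιbmk : ∀ c : C, ιb (fC c) = fK (ι c) := fun c => rfl
  have hQle : ∀ q ∈ Q, q ∈ ι.range := by
    intro q hq
    rw [hrange]
    intro s
    exact Q.mul_mem (hQφ s q hq) (Q.inv_mem hq)
  have hιbinj : Function.Injective ιb := by
    rw [injective_iff_map_eq_one]
    intro x
    obtain ⟨c, rfl⟩ := hfCs x
    intro h
    rw [hιbmk] at h
    have h1 : ι c ∈ Q := (QuotientGroup.eq_one_iff _).mp h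
    exact (QuotientGroup.eq_one_iff _).mpr h1
  set φb : S →* MulAut (K ⧸ Q) := quotHom φ Q hQφ with hφb
  have hfix : ∀ x : K ⧸ Q, (∀ s : S, φb s x = x) ↔ x ∈ ιb.range := by
    intro x
    obtain ⟨k, rfl⟩ := hfKs x
    constructor
    · intro h
      have hk : k ∈ ι.range := by
        rw [hrange]
        intro s
        have h1 := h s
        have h2 : ((φ s k : K) : K ⧸ Q) = (k : K ⧸ Q) := h1
        rw [QuotientGroup.eq] at h2
        have h3 : (φ s k)⁻¹ * k ∈ Q := h2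
        have h4 := hQ.conj_mem _ (Q.inv_mem h3) (φ s k)
        have h5 : φ s k * ((φ s k)⁻¹ * k)⁻¹ * (φ s k)⁻¹ = φ s k * k⁻¹ := by group
        rw [h5] at h4
        exact h4
      obtain ⟨c, rfl⟩ := hk
      exact ⟨fC c, rfl⟩
    · rintro ⟨y, hy⟩
      obtain ⟨c, rfl⟩ := hfCs y
      rw [hιbmk] at hy
      intro s
      rw [← hy]
      have h1 := (hrange (ι c)).mp ⟨c, rfl⟩ s
      show ((φ s (ι c) : K) : K ⧸ Q) = ((ι c : K) : K ⧸ Q)
      rw [QuotientGroup.eq]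
      have h4 := hQ.conj_mem _ (Q.inv_mem h1) (φ s (ι c))⁻¹
      have h5 : (φ s (ι c))⁻¹ * (φ s (ι c) * (ι c)⁻¹)⁻¹ * (φ s (ι c))⁻¹⁻¹ = (φ s (ι c))⁻¹ * ι c := by
        group
      rw [h5] at h4
      exact h4
  have hpG : n ≠ 0 → ¬ p ∣ Nat.card (K ⧸ Q) := fun _ => hidx
  have ABC := glauberman_pgroup n hpG hS φb ιb hιbinj hfix
  -- transport
  have hKdesc : ∀ β : Cfsg.IrrCharacter K, (∀ q ∈ Q, (β : K → ℂ) q = (β : K → ℂ) 1) →
      ∃ βb, β = infl fK hfKs βb := by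
    intro β hβ
    apply exists_infl fK hfKs β
    intro k hk
    exact hβ k ((QuotientGroup.eq_one_iff _).mp hk)
  have hCdesc : ∀ γ : Cfsg.IrrCharacter C, (∀ c : C, ι c ∈ Q → (γ : C → ℂ) c = (γ : C → ℂ) 1) →
      ∃ γb, γ = infl fC hfCs γb := by
    intro γ hγ
    apply exists_infl fC hfCs γ
    intro c hc
    have hc' : c ∈ QC := (QuotientGroup.eq_one_iff c).mp hc
    exact hγ c hc'
  have hInv : ∀ βb : Cfsg.IrrCharacter (K ⧸ Q), SInv φ (infl fK hfKs βb : K → ℂ) →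
      InvSet (Set.range φb) (βb : K ⧸ Q → ℂ) := by
    rintro βb h a ⟨s, rfl⟩ x
    obtain ⟨k, rfl⟩ := hfKs x
    exact h s k
  have hInv' : ∀ βb : Cfsg.IrrCharacter (K ⧸ Q), InvSet (Set.range φb) (βb : K ⧸ Q → ℂ) →
      SInv φ (infl fK hfKs βb : K → ℂ) := by
    intro βb h s k
    exact h _ ⟨s, rfl⟩ (fK k)
  have hchar : ∀ βb : Cfsg.IrrCharacter (K ⧸ Q),
      Cfsg.IsCharacter (C ⧸ QC) (fun x => (βb : K ⧸ Q → ℂ) (ιb x)) := fun βb =>
    isCharacter_comp ιb (isCharacter_of_isIrrCharacter βb.2)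
  have hgood : ∀ (βb : Cfsg.IrrCharacter (K ⧸ Q)) (γb : Cfsg.IrrCharacter (C ⧸ QC)),
      Good p (fun x => (βb : K ⧸ Q → ℂ) (ιb x)) γb ↔
        Good p (fun c => (infl fK hfKs βb : K → ℂ) (ι c)) (infl fC hfCs γb) := fun βb γb =>
    good_infl_iff fC hfCs p (hchar βb) γb
  have htrivK : ∀ (βb : Cfsg.IrrCharacter (K ⧸ Q)), ∀ q ∈ Q,
      (infl fK hfKs βb : K → ℂ) q = (infl fK hfKs βb : K → ℂ) 1 := by
    intro βb q hq
    exact infl_trivial fK hfKs βb q ((QuotientGroup.eq_one_iff _).mpr hq)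
  have htrivC : ∀ (γb : Cfsg.IrrCharacter (C ⧸ QC)), ∀ c : C, ι c ∈ Q →
      (infl fC hfCs γb : C → ℂ) c = (infl fC hfCs γb : C → ℂ) 1 := by
    intro γb c hc
    exact infl_trivial fC hfCs γb c ((QuotientGroup.eq_one_iff _).mpr hc)
  refine ⟨?_, ?_, ?_⟩
  · intro β hβinv hβQ
    obtain ⟨βb, rfl⟩ := hKdesc β hβQ
    obtain ⟨γb, hγb⟩ := ABC.exists_good βb (hInv βb hβinv)
    exact ⟨infl fC hfCs γb, htrivC γb, (hgood βb γb).mp hγb⟩
  · intro β β' hβinv hβ'inv hβQ hβ'Q γ hg hg'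
    obtain ⟨βb, rfl⟩ := hKdesc β hβQ
    obtain ⟨βb', rfl⟩ := hKdesc β' hβ'Q
    obtain ⟨γb, rfl⟩ := exists_infl_of_good fC hfCs hp2 (hchar βb) γ hg
    have h1 := (hgood βb γb).mpr hg
    have h2 := (hgood βb' γb).mpr hg'
    rw [ABC.inj βb βb' (hInv βb hβinv) (hInv βb' hβ'inv) γb h1 h2]
  · intro γ hγQ
    obtain ⟨γb, rfl⟩ := hCdesc γ hγQ
    obtain ⟨βb, hβbinv, hβbg⟩ := ABC.surj γb
    exact ⟨infl fK hfKs βb, hInv' βb hβbinv, htrivK βb, (hgood βb γb).mp hβbg⟩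

end main

end Cfsg.Agent.Lib.Helper75_RelGlaubQuot
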