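import Mathlib
import Cfsg.Prelude.Def_Characters
import Cfsg.Prelude.Def_Blocks
import Cfsg.Agent.Lib.Helper75_Clifford
import Cfsg.Agent.Lib.Helper75_Induced
import Cfsg.Agent.Lib.Helper75_CharArith
import Cfsg.Agent.Lib.Helper75_CharProd
import Cfsg.Agent.Lib.Helper75_LinChar
import Cfsg.Agent.Lib.Helper75_RelGlaubQuot
import Cfsg.Agent.Lib.Helper75_RelGlaubBasic
import Cfsg.Agent.Lib.Helper75_RelGlaubCliff
import Cfsg.Agent.Lib.Helper77_BlockBasics
import Cfsg.Agent.Lib.Helper82_ItoMichler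

/-!
# Real odd-degree characters of solvable groups: ambient vocabulary (helper15)

All subgroups are subgroups of one fixed finite group `G`; characters of a subgroup `A` are
functions on `↥A`.  This file has the basic dictionary between this ambient language and the
lemmas on `B.subgroupOf A` in the Helper75 files.
-/

set_option autoImplicit false
set_option linter.unusedSectionVars false
set_option linter.unusedVariables false

namespace Cfsg.Agent.Lib.Helper15_ROBasic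

open Cfsg
open scoped ComplexConjugate
open Cfsg.Agent.Lib.Helper75_Induced Cfsg.Agent.Lib.Helper75_Clifford
  Cfsg.Agent.Lib.Helper75_CharArith Cfsg.Agent.Lib.Helper3_CharBridge
  Cfsg.Agent.Lib.Helper3_CharOrtho

universe u

variable {G : Type u} [Group G]

/-- restriction from `A` to `B ≤ A` -/
def rs {A B : Subgroup G} (h : B ≤ A) (f : A → ℂ) : B → ℂ := fun b => f ⟨(b : G), h b.2⟩

/-- `f` is constant (equal to `f 1`) on the elements of `L` -/
def TrivOn (L : Subgroup G) {A : Subgroup G} (f : A → ℂ) : Prop :=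
  ∀ a : A, (a : G) ∈ L → f a = f 1

/-- real-valued -/
def IsRealF {Y : Type*} (f : Y → ℂ) : Prop := ∀ y, (f y).im = 0

/-- the inner product on a subgroup of a finite group -/
noncomputable def ip [Finite G] {B : Subgroup G} (f g : B → ℂ) : ℂ :=
  letI : Fintype B := Fintype.ofFinite B
  classInner f g

theorem ip_eq [Finite G] {B : Subgroup G} [inst : Fintype B] (f g : B → ℂ) :
    ip f g = classInner f g := by
  unfold ip
  congr 1
  exact Subsingleton.elim _ _

/-- `ψ` on `B` is a constituent of the restriction of `f` -/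
def Ov [Finite G] {A B : Subgroup G} (h : B ≤ A) (f : A → ℂ) (ψ : B → ℂ) : Prop :=
  ip (rs h f) ψ ≠ 0

/-- induction from `B` to `A` -/
noncomputable def aInd [Finite G] (A : Subgroup G) {B : Subgroup G} (η : B → ℂ) : A → ℂ :=
  letI : Fintype A := Fintype.ofFinite A
  indFun (B.subgroupOf A) (resSubgroupOf B A η)

theorem aInd_eq [Finite G] {A B : Subgroup G} [inst : Fintype A] (η : B → ℂ) :
    aInd A η = indFun (B.subgroupOf A) (resSubgroupOf B A η) := by
  unfold aInd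
  congr 1
  exact Subsingleton.elim _ _

/-- conjugate of a function on `M` by `a` (zero where `a m a⁻¹ ∉ M`) -/
noncomputable def cj (M : Subgroup G) (a : G) (θ : M → ℂ) : M → ℂ :=
  fun m => extendByZero M θ (a * m * a⁻¹)

/-- the sign function of `V` on `M` -/
noncomputable def sgn (V M : Subgroup G) : M → ℂ := by
  classical exact fun m => if (m : G) ∈ V then 1 else -1

theorem sgn_of_mem {V M : Subgroup G} {m : M} (h : (m : G) ∈ V) : sgn V M m = 1 := by
  unfold sgn; simp [h]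

theorem sgn_of_not_mem {V M : Subgroup G} {m : M} (h : (m : G) ∉ V) : sgn V M m = -1 := by
  unfold sgn; simp [h]

/-- irreducible characters of `A` of odd degree, trivial on `L` -/
def XO (A L : Subgroup G) : Type u :=
  {χ : IrrCharacter A // Odd (charDegree (χ : A → ℂ)) ∧ TrivOn L (χ : A → ℂ)}

/-- real irreducible characters of `A` of odd degree, trivial on `L` -/
def RO (A L : Subgroup G) : Type u :=
  {χ : IrrCharacter A // IsRealF (χ : A → ℂ) ∧ Odd (charDegree (χ : A → ℂ)) ∧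
    TrivOn L (χ : A → ℂ)}

theorem rs_apply {A B : Subgroup G} (h : B ≤ A) (f : A → ℂ) (b : B) :
    rs h f b = f ⟨(b : G), h b.2⟩ := rfl

theorem rs_one {A B : Subgroup G} (h : B ≤ A) (f : A → ℂ) : rs h f 1 = f 1 := rfl

theorem rs_rs {A B C : Subgroup G} (h : B ≤ A) (h' : C ≤ B) (f : A → ℂ) :
    rs h' (rs h f) = rs (h'.trans h) f := rfl

theorem TrivOn.mono {L L' : Subgroup G} (hL : L' ≤ L) {A : Subgroup G} {f : A → ℂ}
    (h : TrivOn L f) : TrivOn L' f := fun a ha => h a (hL ha)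

theorem TrivOn.rs {L : Subgroup G} {A B : Subgroup G} (hBA : B ≤ A) {f : A → ℂ}
    (h : TrivOn L f) : TrivOn L (rs hBA f) := fun b hb => h ⟨(b : G), hBA b.2⟩ hb

theorem IsRealF.rs {A B : Subgroup G} (hBA : B ≤ A) {f : A → ℂ}
    (h : IsRealF f) : IsRealF (rs hBA f) := fun b => h _

/-- the dictionary: `rs` is `res` of the Helper75 files, after the canonical isomorphism -/
theorem resSubgroupOf_rs {A B : Subgroup G} (h : B ≤ A) (f : A → ℂ) :
    resSubgroupOf B A (rs h f) = res (B.subgroupOf A) f := by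
  funext x
  rfl

theorem isCharacter_rs {A B : Subgroup G} (h : B ≤ A) {f : A → ℂ} (hf : IsCharacter A f) :
    IsCharacter B (rs h f) :=
  isCharacter_comp (Subgroup.inclusion h) hf

theorem isClassFunction_rs {A B : Subgroup G} (h : B ≤ A) {f : A → ℂ}
    (hf : IsClassFunction A f) : IsClassFunction B (rs h f) := by
  intro g x
  exact hf ⟨(g : G), h g.2⟩ ⟨(x : G), h x.2⟩

/-! ### General facts on characters of a finite group -/

section typelevel

variable {Y : Type*} [Group Y] [Fintype Y]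

theorem norm_irr_le (χ : IrrCharacter Y) (g : Y) :
    ‖(χ : Y → ℂ) g‖ ≤ (charDegree (χ : Y → ℂ) : ℝ) := by
  obtain ⟨n, ρ, _, hρ⟩ := χ.2
  have h1 := Cfsg.Agent.Lib.Helper3_CharEigen.norm_char_le ρ g
  rw [Module.finrank_fin_fun] at h1
  have h2 : (χ : Y → ℂ) 1 = n := by
    rw [← hρ, Representation.char_one]
    simp
  have h3 : charDegree (χ : Y → ℂ) = n := by
    have := Cfsg.Agent.Lib.Helper77_BlockBasics.apply_one_eq_charDegree χ
    rw [h2] at this
    exact_mod_cast this.symm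
  rw [h3, ← hρ]
  exact h1

/-- a constituent of a character which is trivial at `g` is trivial at `g` -/
theorem constituent_trivial {Φ : Y → ℂ} (hΦ : IsCharacter Y Φ) {g : Y} (hg : Φ g = Φ 1)
    (χ : IrrCharacter Y) (hχ : classInner Φ (χ : Y → ℂ) ≠ 0) :
    (χ : Y → ℂ) g = (χ : Y → ℂ) 1 := by
  classical
  obtain ⟨m, hm, hsum⟩ := exists_multiplicities hΦ
  have hd : ∀ ψ : IrrCharacter Y, (ψ : Y → ℂ) 1 = (charDegree (ψ : Y → ℂ) : ℂ) :=
    fun ψ => Cfsg.Agent.Lib.Helper77_BlockBasics.apply_one_eq_charDegree ψ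
  have e1 : Φ g = ∑ ψ : IrrCharacter Y, (m ψ : ℂ) * (ψ : Y → ℂ) g := by
    conv_lhs => rw [hsum]
    simp [Finset.sum_apply]
  have e2 : Φ 1 = ∑ ψ : IrrCharacter Y, (m ψ : ℂ) * (ψ : Y → ℂ) 1 := by
    conv_lhs => rw [hsum]
    simp [Finset.sum_apply]
  have hre : ∀ ψ : IrrCharacter Y, ((ψ : Y → ℂ) g).re ≤ (charDegree (ψ : Y → ℂ) : ℝ) :=
    fun ψ => (Complex.re_le_norm _).trans (norm_irr_le ψ g)
  have h0 : ∑ ψ : IrrCharacter Y,
      (m ψ : ℝ) * ((charDegree (ψ : Y → ℂ) : ℝ) - ((ψ : Y → ℂ) g).re) = 0 := by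
    have h1 : (Φ 1 - Φ g).re = 0 := by rw [hg]; simp
    rw [e1, e2, ← Finset.sum_sub_distrib, Complex.re_sum] at h1
    rw [← h1]
    apply Finset.sum_congr rfl
    intro ψ _
    rw [hd ψ, ← mul_sub]
    have : ((m ψ : ℂ)) = ((m ψ : ℝ) : ℂ) := by push_cast; rfl
    rw [this, Complex.re_ofReal_mul]
    simp
  have h2 := (Finset.sum_eq_zero_iff_of_nonneg (fun ψ _ =>
    mul_nonneg (Nat.cast_nonneg _) (sub_nonneg.mpr (hre ψ)))).mp h0 χ (Finset.mem_univ _)
  have hmχ : (m χ : ℝ) ≠ 0 := by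
    intro h
    apply hχ
    rw [hm χ]
    have : m χ = 0 := by exact_mod_cast h
    rw [this, Nat.cast_zero]
  have h3 : ((χ : Y → ℂ) g).re = (charDegree (χ : Y → ℂ) : ℝ) := by
    rcases mul_eq_zero.mp h2 with h | h
    · exact absurd h hmχ
    · linarith
  have h4 := norm_irr_le χ g
  have h5 : ((χ : Y → ℂ) g).im = 0 := by
    have h6 := Complex.sq_norm ((χ : Y → ℂ) g)
    rw [Complex.normSq_apply] at h6
    have h7 : ‖(χ : Y → ℂ) g‖ ^ 2 ≤ (charDegree (χ : Y → ℂ) : ℝ) ^ 2 :=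
      pow_le_pow_left₀ (norm_nonneg _) h4 2
    rw [h6, h3] at h7
    have h8 : ((χ : Y → ℂ) g).im * ((χ : Y → ℂ) g).im ≤ 0 := by nlinarith
    have h9 := mul_self_nonneg ((χ : Y → ℂ) g).im
    have h10 : ((χ : Y → ℂ) g).im * ((χ : Y → ℂ) g).im = 0 := le_antisymm h8 h9
    exact mul_self_eq_zero.mp h10
  rw [hd χ]
  apply Complex.ext
  · rw [h3]; simp
  · rw [h5]; simp

/-- a character of odd degree has an irreducible constituent of odd degree -/
theorem exists_odd_constituent {Φ : Y → ℂ} (hΦ : IsCharacter Y Φ) {n : ℕ} (hn : Φ 1 = n)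
    (hodd : Odd n) :
    ∃ χ : IrrCharacter Y, classInner Φ (χ : Y → ℂ) ≠ 0 ∧ Odd (charDegree (χ : Y → ℂ)) := by
  classical
  obtain ⟨m, hm, hsum⟩ := exists_multiplicities hΦ
  have hd : ∀ ψ : IrrCharacter Y, (ψ : Y → ℂ) 1 = (charDegree (ψ : Y → ℂ) : ℂ) :=
    fun ψ => Cfsg.Agent.Lib.Helper77_BlockBasics.apply_one_eq_charDegree ψ
  have e2 : Φ 1 = ∑ ψ : IrrCharacter Y, (m ψ : ℂ) * (ψ : Y → ℂ) 1 := by
    conv_lhs => rw [hsum]
    simp [Finset.sum_apply]
  have e3 : n = ∑ ψ : IrrCharacter Y, m ψ * charDegree (ψ : Y → ℂ) := by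
    have : (n : ℂ) = ((∑ ψ : IrrCharacter Y, m ψ * charDegree (ψ : Y → ℂ) : ℕ) : ℂ) := by
      rw [← hn, e2]
      push_cast
      exact Finset.sum_congr rfl (fun ψ _ => by rw [hd ψ])
    exact_mod_cast this
  by_contra hcon
  push Not at hcon
  apply (Nat.not_even_iff_odd.mpr hodd)
  rw [e3]
  apply Finset.even_sum
  intro ψ _
  by_cases h0 : m ψ = 0
  · rw [h0, zero_mul]; exact Even.zero
  · have h1 : classInner Φ (ψ : Y → ℂ) ≠ 0 := by
      rw [hm ψ]; exact_mod_cast h0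
    have h2 := hcon ψ h1
    rw [Nat.not_odd_iff_even] at h2
    exact h2.mul_left _

end typelevel

/-! ### The dictionary with `subgroupOf` -/

section ambient

variable [Finite G]

theorem isIrr_up {A B : Subgroup G} (h : B ≤ A) {ψ : B → ℂ} (hψ : IsIrrCharacter B ψ) :
    IsIrrCharacter (B.subgroupOf A) (resSubgroupOf B A ψ) :=
  isIrrCharacter_resSubgroupOf B A h hψ

/-- a function on `B.subgroupOf A` read on `B` -/
def dn {A B : Subgroup G} (h : B ≤ A) (ψ' : B.subgroupOf A → ℂ) : B → ℂ :=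
  fun b => ψ' ⟨⟨(b : G), h b.2⟩, Subgroup.mem_subgroupOf.mpr b.2⟩

theorem up_dn {A B : Subgroup G} (h : B ≤ A) (ψ' : B.subgroupOf A → ℂ) :
    resSubgroupOf B A (dn h ψ') = ψ' := by
  funext x
  rfl

theorem dn_up {A B : Subgroup G} (h : B ≤ A) (ψ : B → ℂ) :
    dn h (resSubgroupOf B A ψ) = ψ := by
  funext b
  rfl

theorem up_injective {A B : Subgroup G} (h : B ≤ A) {ψ ψ' : B → ℂ}
    (he : resSubgroupOf B A ψ = resSubgroupOf B A ψ') : ψ = ψ' := by
  rw [← dn_up h ψ, ← dn_up h ψ', he]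

theorem isIrr_dn {A B : Subgroup G} (h : B ≤ A) {ψ' : B.subgroupOf A → ℂ}
    (hψ' : IsIrrCharacter (B.subgroupOf A) ψ') : IsIrrCharacter B (dn h ψ') :=
  isIrrCharacter_comp_equiv (Subgroup.subgroupOfEquivOfLe h).symm hψ'

theorem isCharacter_up {A B : Subgroup G} (h : B ≤ A) {ψ : B → ℂ} (hψ : IsCharacter B ψ) :
    IsCharacter (B.subgroupOf A) (resSubgroupOf B A ψ) := by
  rw [resSubgroupOf_eq_comp B A h]
  exact isCharacter_comp (Subgroup.subgroupOfEquivOfLe h).toMonoidHom hψ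

theorem ip_up {A B : Subgroup G} [Fintype (B.subgroupOf A)] (h : B ≤ A) (ψ ψ' : B → ℂ) :
    classInner (resSubgroupOf B A ψ) (resSubgroupOf B A ψ') = ip ψ ψ' := by
  have : Fintype B := Fintype.ofFinite B
  rw [ip_eq, resSubgroupOf_eq_comp B A h, resSubgroupOf_eq_comp B A h]
  exact classInner_comp_equiv (Subgroup.subgroupOfEquivOfLe h) ψ ψ'

/-- `Ov` in the language of the Helper75 files -/
theorem ov_iff {A B : Subgroup G} [Fintype (B.subgroupOf A)] (h : B ≤ A) (f : A → ℂ)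
    (ψ : B → ℂ) :
    Ov h f ψ ↔ classInner (res (B.subgroupOf A) f) (resSubgroupOf B A ψ) ≠ 0 := by
  unfold Ov
  rw [← ip_up h, resSubgroupOf_rs]

theorem ip_conj_symm {B : Subgroup G} (f g : B → ℂ) : conj (ip f g) = ip g f := by
  have : Fintype B := Fintype.ofFinite B
  rw [ip_eq, ip_eq]
  exact classInner_conj_symm f g

theorem ip_ne_zero_comm {B : Subgroup G} (f g : B → ℂ) : ip f g ≠ 0 ↔ ip g f ≠ 0 := by
  rw [← ip_conj_symm f g]
  exact (map_ne_zero _).symm

/-- Frobenius reciprocity -/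
theorem frob {A B : Subgroup G} (h : B ≤ A) (η : B → ℂ) {χ : A → ℂ}
    (hχ : IsClassFunction A χ) : ip (aInd A η) χ = ip η (rs h χ) := by
  have : Fintype A := Fintype.ofFinite A
  have : Fintype B := Fintype.ofFinite B
  have : Fintype (B.subgroupOf A) := Fintype.ofFinite _
  rw [ip_eq, ip_eq, aInd_eq, frobenius_reciprocity (B.subgroupOf A) _ χ hχ]
  exact classInner_resSubgroupOf B A h η χ

theorem ov_iff_aInd {A B : Subgroup G} (h : B ≤ A) (η : B → ℂ) {χ : A → ℂ}
    (hχ : IsClassFunction A χ) : Ov h χ η ↔ ip (aInd A η) χ ≠ 0 := by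
  unfold Ov
  rw [frob h η hχ]
  exact ip_ne_zero_comm _ _

theorem isCharacter_aInd {A B : Subgroup G} (h : B ≤ A) {η : B → ℂ} (hη : IsCharacter B η) :
    IsCharacter A (aInd A η) := by
  have : Fintype A := Fintype.ofFinite A
  rw [aInd_eq]
  exact Cfsg.Agent.Lib.Helper75_IndChar.isCharacter_indFun _ (isCharacter_up h hη)

theorem aInd_one {A B : Subgroup G} (h : B ≤ A) (η : B → ℂ) :
    aInd A η 1 = (B.relIndex A : ℂ) * η 1 := by
  have : Fintype A := Fintype.ofFinite A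
  rw [aInd_eq, indFun_one]
  have h1 : Nat.card (B.subgroupOf A) * B.relIndex A = Nat.card A :=
    Subgroup.card_mul_index (B.subgroupOf A)
  have h2 : (Nat.card (B.subgroupOf A) : ℂ) ≠ 0 := by
    rw [Nat.cast_ne_zero]; exact Nat.card_pos.ne'
  have h3 : resSubgroupOf B A η 1 = η 1 := rfl
  rw [h3, ← h1]
  push_cast
  field_simp

end ambient

/-! ### Conjugation and Clifford theory -/

section clifford

variable [Finite G]

theorem normal_sub {A M : Subgroup G} (hMA : M ≤ A)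
    (hn : A ≤ Subgroup.normalizer (M : Set G)) : (M.subgroupOf A).Normal :=
  (Subgroup.normal_subgroupOf_iff_le_normalizer hMA).mpr hn

theorem conj_mem_of_mem_normalizer {M : Subgroup G} {a : G}
    (ha : a ∈ Subgroup.normalizer (M : Set G)) {m : G} (hm : m ∈ M) : a * m * a⁻¹ ∈ M :=
  (Subgroup.mem_normalizer_iff.mp ha m).mp hm

theorem cj_apply {M : Subgroup G} {a : G} (ha : a ∈ Subgroup.normalizer (M : Set G))
    (θ : M → ℂ) (m : M) :
    cj M a θ m = θ ⟨a * m * a⁻¹, conj_mem_of_mem_normalizer ha m.2⟩ := by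
  unfold cj
  exact extendByZero_of_mem M θ (conj_mem_of_mem_normalizer ha m.2)

theorem cj_one (M : Subgroup G) (θ : M → ℂ) : cj M 1 θ = θ := by
  funext m
  rw [cj_apply (Subgroup.one_mem _)]
  congr 1
  ext
  simp

theorem cj_cj {M : Subgroup G} {a b : G} (ha : a ∈ Subgroup.normalizer (M : Set G))
    (hb : b ∈ Subgroup.normalizer (M : Set G)) (θ : M → ℂ) :
    cj M b (cj M a θ) = cj M (a * b) θ := by
  funext m
  rw [cj_apply hb, cj_apply ha, cj_apply (Subgroup.mul_mem _ ha hb)]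
  congr 1
  ext
  simp [mul_assoc]

theorem up_cj {A M : Subgroup G} (hMA : M ≤ A) (hn : A ≤ Subgroup.normalizer (M : Set G))
    (hN : (M.subgroupOf A).Normal) (θ : M → ℂ) (g : A) :
    Helper75_Clifford.conjFun (M.subgroupOf A) hN (resSubgroupOf M A θ) g =
      resSubgroupOf M A (cj M (g : G) θ) := by
  funext x
  rw [Helper75_Clifford.conjFun_apply]
  show θ _ = cj M (g : G) θ ⟨((x : A) : G), _⟩
  rw [cj_apply (hn g.2)]
  rfl

theorem isIrr_cj {A M : Subgroup G} (hMA : M ≤ A) (hn : A ≤ Subgroup.normalizer (M : Set G))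
    {θ : M → ℂ} (hθ : IsIrrCharacter M θ) {a : G} (ha : a ∈ A) :
    IsIrrCharacter M (cj M a θ) := by
  have hN := normal_sub hMA hn
  have h1 := isIrrCharacter_conjFun (M.subgroupOf A) hN (isIrr_up hMA hθ) ⟨a, ha⟩
  rw [up_cj hMA hn hN θ ⟨a, ha⟩] at h1
  have h2 := isIrr_dn hMA h1
  rw [dn_up] at h2
  exact h2

/-- the stabilizer in `A` of a function on `M` -/
def stb (A M : Subgroup G) (θ : M → ℂ) : Subgroup G where
  carrier := {a | a ∈ A ∧ a ∈ Subgroup.normalizer (M : Set G) ∧ cj M a θ = θ}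
  one_mem' := ⟨Subgroup.one_mem _, Subgroup.one_mem _, cj_one M θ⟩
  mul_mem' := by
    rintro a b ⟨ha, han, hae⟩ ⟨hb, hbn, hbe⟩
    refine ⟨Subgroup.mul_mem _ ha hb, Subgroup.mul_mem _ han hbn, ?_⟩
    rw [← cj_cj han hbn, hae, hbe]
  inv_mem' := by
    rintro a ⟨ha, han, hae⟩
    have han' := Subgroup.inv_mem _ han
    refine ⟨Subgroup.inv_mem _ ha, han', ?_⟩
    have h1 : cj M a⁻¹ (cj M a θ) = θ := by
      rw [cj_cj han han', mul_inv_cancel, cj_one]
    rw [hae] at h1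
    exact h1

theorem mem_stb {A M : Subgroup G} {θ : M → ℂ} {a : G} :
    a ∈ stb A M θ ↔ a ∈ A ∧ a ∈ Subgroup.normalizer (M : Set G) ∧ cj M a θ = θ := Iff.rfl

theorem stb_le (A M : Subgroup G) (θ : M → ℂ) : stb A M θ ≤ A := fun _ h => h.1

theorem stb_subgroupOf {A M : Subgroup G} (hMA : M ≤ A)
    (hn : A ≤ Subgroup.normalizer (M : Set G)) [hN : (M.subgroupOf A).Normal] (θ : M → ℂ) :
    (stb A M θ).subgroupOf A =
      Cfsg.Agent.Lib.Helper82_ItoMichler.stab (M.subgroupOf A) (resSubgroupOf M A θ) := by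
  ext g
  rw [Subgroup.mem_subgroupOf, Cfsg.Agent.Lib.Helper82_ItoMichler.mem_stab, mem_stb,
    up_cj hMA hn hN θ g]
  constructor
  · rintro ⟨_, _, h⟩
    rw [h]
  · intro h
    exact ⟨g.2, hn g.2, up_injective hMA h⟩

theorem exists_constituent {A B : Subgroup G} (h : B ≤ A) (χ : IrrCharacter A) :
    ∃ θ : IrrCharacter B, Ov h (χ : A → ℂ) (θ : B → ℂ) := by
  have : Fintype B := Fintype.ofFinite B
  have hc : IsCharacter B (rs h (χ : A → ℂ)) :=
    isCharacter_rs h (isCharacter_of_isIrrCharacter χ.2)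
  obtain ⟨θ, hθ⟩ := Cfsg.Agent.Lib.Helper75_RelGlaubCliff.exists_irr_constituent hc
    (by rw [rs_one]; exact irr_one_ne_zero χ.2)
  refine ⟨θ, ?_⟩
  unfold Ov
  rw [ip_eq]
  exact hθ

/-- constituents of the restriction to a normal subgroup are conjugate -/
theorem constituents_conj {A M : Subgroup G} (hMA : M ≤ A)
    (hn : A ≤ Subgroup.normalizer (M : Set G)) (χ : IrrCharacter A) (θ θ' : IrrCharacter M)
    (h1 : Ov hMA (χ : A → ℂ) (θ : M → ℂ)) (h2 : Ov hMA (χ : A → ℂ) (θ' : M → ℂ)) :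
    ∃ a ∈ A, (θ' : M → ℂ) = cj M a (θ : M → ℂ) := by
  have : Fintype A := Fintype.ofFinite A
  have : Fintype (M.subgroupOf A) := Fintype.ofFinite _
  have hN := normal_sub hMA hn
  rw [ov_iff] at h1 h2
  obtain ⟨g, hg⟩ := exists_conj_of_constituent (M.subgroupOf A) hN χ.2 (isIrr_up hMA θ.2)
    (isIrr_up hMA θ'.2) h1 h2
  refine ⟨(g : G), g.2, ?_⟩
  rw [up_cj hMA hn hN] at hg
  exact up_injective hMA hg

theorem ov_cj {A M : Subgroup G} (hMA : M ≤ A) (hn : A ≤ Subgroup.normalizer (M : Set G))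
    {χ : A → ℂ} (hχ : IsClassFunction A χ) (θ : M → ℂ) {a : G} (ha : a ∈ A) :
    Ov hMA χ (cj M a θ) ↔ Ov hMA χ θ := by
  have : Fintype A := Fintype.ofFinite A
  have : Fintype (M.subgroupOf A) := Fintype.ofFinite _
  have hN := normal_sub hMA hn
  rw [ov_iff, ov_iff, ← up_cj hMA hn hN θ ⟨a, ha⟩,
    classInner_res_conjFun (M.subgroupOf A) hN hχ]

/-- Clifford's theorem for an invariant constituent -/
theorem rs_eq_smul_of_inv {A M : Subgroup G} (hMA : M ≤ A)
    (hn : A ≤ Subgroup.normalizer (M : Set G)) (χ : IrrCharacter A) (θ : IrrCharacter M)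
    (hinv : ∀ a ∈ A, cj M a (θ : M → ℂ) = (θ : M → ℂ))
    (h : Ov hMA (χ : A → ℂ) (θ : M → ℂ)) :
    rs hMA (χ : A → ℂ) = ip (rs hMA (χ : A → ℂ)) (θ : M → ℂ) • (θ : M → ℂ) := by
  have : Fintype A := Fintype.ofFinite A
  have : Fintype (M.subgroupOf A) := Fintype.ofFinite _
  have hN := normal_sub hMA hn
  have h1 := (ov_iff hMA _ _).mp h
  have h2 := Cfsg.Agent.Lib.Helper75_CharProd.res_eq_smul_of_invariant (M.subgroupOf A) hN χ.2
    (isIrr_up hMA θ.2) (fun g => by rw [up_cj hMA hn hN, hinv g g.2]) h1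
  apply up_injective hMA
  rw [resSubgroupOf_rs, h2, ← ip_up hMA, resSubgroupOf_rs]
  rfl

/-- an irreducible character lying over the trivial character of a normal subgroup -/
theorem trivOn_of_ov_one {A M : Subgroup G} (hMA : M ≤ A)
    (hn : A ≤ Subgroup.normalizer (M : Set G)) (χ : IrrCharacter A)
    (h : Ov hMA (χ : A → ℂ) (fun _ : M => (1 : ℂ))) : TrivOn M (χ : A → ℂ) := by
  have : Fintype A := Fintype.ofFinite A
  have : Fintype (M.subgroupOf A) := Fintype.ofFinite _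
  have hN := normal_sub hMA hn
  have h1 := (ov_iff hMA _ _).mp h
  intro a ha
  exact Cfsg.Agent.Lib.Helper75_RelGlaubBasic.eq_one_of_over_one (M.subgroupOf A) hN χ.2 h1
    ⟨a, Subgroup.mem_subgroupOf.mpr ha⟩

theorem ov_one_of_trivOn {A M : Subgroup G} (hMA : M ≤ A) (χ : IrrCharacter A)
    (h : TrivOn M (χ : A → ℂ)) : Ov hMA (χ : A → ℂ) (fun _ : M => (1 : ℂ)) := by
  have : Fintype A := Fintype.ofFinite A
  have : Fintype (M.subgroupOf A) := Fintype.ofFinite _
  rw [ov_iff]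
  exact Cfsg.Agent.Lib.Helper75_RelGlaubBasic.over_one_of_eq_one (M.subgroupOf A)
    (irr_one_ne_zero χ.2) (fun n => h n.1 (Subgroup.mem_subgroupOf.mp n.2))

/-- the Clifford degree formula -/
theorem clifford_deg {A M : Subgroup G} (hMA : M ≤ A)
    (hn : A ≤ Subgroup.normalizer (M : Set G)) (χ : IrrCharacter A) (θ : IrrCharacter M)
    (h : Ov hMA (χ : A → ℂ) (θ : M → ℂ)) :
    ∃ e : ℕ, charDegree (χ : A → ℂ) =
      e * ((stb A M (θ : M → ℂ)).relIndex A * charDegree (θ : M → ℂ)) := by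
  have : Fintype A := Fintype.ofFinite A
  have : Fintype (M.subgroupOf A) := Fintype.ofFinite _
  have hN := normal_sub hMA hn
  have h1 := (ov_iff hMA _ _).mp h
  obtain ⟨e, he⟩ := Cfsg.Agent.Lib.Helper82_ItoMichler.clifford_degree (M.subgroupOf A) χ.2
    (isIrr_up hMA θ.2) h1 (charDegree (χ : A → ℂ)) (charDegree (θ : M → ℂ))
    (Cfsg.Agent.Lib.Helper77_BlockBasics.apply_one_eq_charDegree χ)
    (Cfsg.Agent.Lib.Helper77_BlockBasics.apply_one_eq_charDegree θ)
  refine ⟨e, ?_⟩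
  rw [he, ← stb_subgroupOf hMA hn]
  rfl

end clifford

end Cfsg.Agent.Lib.Helper15_ROBasic
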