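import Cfsg.Agent.Lib.Helper15_ROBasic
import Cfsg.Agent.Lib.Helper3_AbelianIndex

/-!
# Real odd-degree characters: degrees, linear characters, induction (helper15)
-/

set_option autoImplicit false
set_option linter.unusedSectionVars false
set_option linter.unusedVariables false

namespace Cfsg.Agent.Lib.Helper15_ROChar

open Cfsg
open scoped ComplexConjugate
open Cfsg.Agent.Lib.Helper75_Induced Cfsg.Agent.Lib.Helper75_Clifford
  Cfsg.Agent.Lib.Helper75_CharArith Cfsg.Agent.Lib.Helper3_CharBridge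
  Cfsg.Agent.Lib.Helper3_CharOrtho Cfsg.Agent.Lib.Helper15_ROBasic
  Cfsg.Agent.Lib.Helper75_LinChar

universe u

section typelevel

variable {Y : Type*} [Group Y] [Fintype Y]

/-- transitivity of "lies over" -/
theorem over_trans (N : Subgroup Y) [Fintype N] {Φ : Y → ℂ} (hΦ : IsCharacter Y Φ)
    (ψ : IrrCharacter Y) (hψ : classInner Φ (ψ : Y → ℂ) ≠ 0) {μ : N → ℂ}
    (hμ : IsCharacter N μ) (h : classInner (res N (ψ : Y → ℂ)) μ ≠ 0) :
    classInner (res N Φ) μ ≠ 0 := by
  classical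
  obtain ⟨m, hm, hsum⟩ := exists_multiplicities hΦ
  have hb : ∀ φ : IrrCharacter Y, ∃ n : ℕ, classInner (res N (φ : Y → ℂ)) μ = n :=
    fun φ => classInner_isCharacter_nat
      (isCharacter_res N (isCharacter_of_isIrrCharacter φ.2)) hμ
  choose b hb using hb
  have h4 : classInner (res N Φ) μ = ((∑ φ : IrrCharacter Y, m φ * b φ : ℕ) : ℂ) := by
    conv_lhs => rw [hsum]
    rw [res_sum, classInner_sum_left]
    push_cast
    apply Finset.sum_congr rfl
    intro φ _
    rw [res_smul, classInner_smul_left, hb φ]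
  rw [h4]
  have h5 : m ψ ≠ 0 := by
    intro h0
    apply hψ
    rw [hm ψ, h0, Nat.cast_zero]
  have h6 : b ψ ≠ 0 := by
    intro h0
    apply h
    rw [hb ψ, h0, Nat.cast_zero]
  have h7 : m ψ * b ψ ≤ ∑ φ : IrrCharacter Y, m φ * b φ :=
    Finset.single_le_sum (f := fun φ => m φ * b φ) (fun _ _ => Nat.zero_le _)
      (Finset.mem_univ ψ)
  have h8 : 0 < m ψ * b ψ := Nat.mul_pos (Nat.pos_of_ne_zero h5) (Nat.pos_of_ne_zero h6)
  have h9 : (∑ φ : IrrCharacter Y, m φ * b φ) ≠ 0 := by omega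
  exact_mod_cast h9

/-- irreducible characters of a commutative group are linear -/
theorem deg_one_of_comm (hc : ∀ a b : Y, a * b = b * a) (χ : IrrCharacter Y) :
    (χ : Y → ℂ) 1 = 1 := by
  obtain ⟨n, ρ, hirr, hρ⟩ := χ.2
  haveI := hirr
  have h1 := Cfsg.Agent.Lib.Helper3_AbelianIndex.finrank_le_index_of_abelian ρ ⊤
    (fun a _ b _ => hc a b)
  rw [Subgroup.index_top, Module.finrank_fin_fun] at h1
  have h2 : (χ : Y → ℂ) 1 = n := by
    rw [← hρ, Representation.char_one]
    simp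
  have h3 : n ≠ 0 := by
    intro h0
    have := irr_one_ne_zero χ.2
    rw [h2, h0] at this
    simp at this
  have h4 : n = 1 := by omega
  rw [h2, h4]
  simp

end typelevel

section ambient

variable {G : Type u} [Group G] [Finite G]

theorem ov_trans {A B C : Subgroup G} (hBA : B ≤ A) (hCB : C ≤ B) {Φ : A → ℂ}
    (hΦ : IsCharacter A Φ) (ψ : IrrCharacter B) (h1 : Ov hBA Φ (ψ : B → ℂ)) {μ : C → ℂ}
    (hμ : IsCharacter C μ) (h2 : Ov hCB (ψ : B → ℂ) μ) : Ov (hCB.trans hBA) Φ μ := by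
  have : Fintype B := Fintype.ofFinite B
  have : Fintype (C.subgroupOf B) := Fintype.ofFinite _
  have h3 : classInner (rs hBA Φ) (ψ : B → ℂ) ≠ 0 := by
    unfold Ov at h1
    rw [ip_eq] at h1
    exact h1
  have h4 := (ov_iff hCB _ _).mp h2
  have h5 := over_trans (C.subgroupOf B) (isCharacter_rs hBA hΦ) ψ h3 (isCharacter_up hCB hμ) h4
  exact (ov_iff hCB (rs hBA Φ) μ).mpr h5

/-- descent to the quotient by a normal subgroup in the kernel -/
theorem exists_descent {B L : Subgroup G} (hLB : L ≤ B)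
    (hN : (L.subgroupOf B).Normal) [Fintype B] [Fintype (B ⧸ L.subgroupOf B)]
    (χ : IrrCharacter B) (ht : TrivOn L (χ : B → ℂ)) :
    ∃ δ : IrrCharacter (B ⧸ L.subgroupOf B),
      ∀ b : B, (χ : B → ℂ) b = (δ : (B ⧸ L.subgroupOf B) → ℂ) (QuotientGroup.mk' _ b) := by
  obtain ⟨δ, hδ⟩ := Cfsg.Agent.Lib.Helper75_RelGlaubQuot.exists_infl
    (QuotientGroup.mk' (L.subgroupOf B)) (QuotientGroup.mk'_surjective _) χ
    (fun c hc => ht c (by
      rw [QuotientGroup.mk'_apply, QuotientGroup.eq_one_iff, Subgroup.mem_subgroupOf] at hc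
      exact hc))
  refine ⟨δ, fun b => ?_⟩
  rw [hδ]
  rfl

theorem deg_dvd_relIndex {B L : Subgroup G} (hLB : L ≤ B)
    (hn : B ≤ Subgroup.normalizer (L : Set G)) (χ : IrrCharacter B)
    (ht : TrivOn L (χ : B → ℂ)) : charDegree (χ : B → ℂ) ∣ L.relIndex B := by
  haveI hN := normal_sub hLB hn
  have : Fintype B := Fintype.ofFinite B
  have : Fintype (B ⧸ L.subgroupOf B) := Fintype.ofFinite _
  obtain ⟨δ, hδ⟩ := exists_descent hLB hN χ ht
  have h1 : charDegree (χ : B → ℂ) = charDegree (δ : (B ⧸ L.subgroupOf B) → ℂ) := by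
    unfold charDegree
    rw [hδ 1, map_one]
  rw [h1]
  have h2 := Cfsg.Agent.Lib.Helper77_BlockBasics.charDegree_dvd_card δ
  rw [← Subgroup.index_eq_card] at h2
  exact h2

theorem deg_one_of_abelian {B L : Subgroup G} (hLB : L ≤ B)
    (hn : B ≤ Subgroup.normalizer (L : Set G))
    (hab : ∀ x ∈ B, ∀ y ∈ B, x * y * x⁻¹ * y⁻¹ ∈ L) (χ : IrrCharacter B)
    (ht : TrivOn L (χ : B → ℂ)) : (χ : B → ℂ) 1 = 1 := by
  haveI hN := normal_sub hLB hn
  have : Fintype B := Fintype.ofFinite B
  have : Fintype (B ⧸ L.subgroupOf B) := Fintype.ofFinite _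
  obtain ⟨δ, hδ⟩ := exists_descent hLB hN χ ht
  rw [hδ 1, map_one]
  apply deg_one_of_comm
  intro a b
  induction a using QuotientGroup.induction_on with
  | H x =>
    induction b using QuotientGroup.induction_on with
    | H y =>
      rw [← QuotientGroup.mk_mul, ← QuotientGroup.mk_mul, QuotientGroup.eq,
        Subgroup.mem_subgroupOf]
      have := hab _ (Subgroup.inv_mem _ y.2) _ (Subgroup.inv_mem _ x.2)
      simp only [inv_inv] at this
      push_cast
      rw [mul_inv_rev, ← mul_assoc]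
      exact this

/-- an irreducible character of degree one, as a linear character -/
theorem isLin_of_one {B : Subgroup G} (χ : IrrCharacter B) (h : (χ : B → ℂ) 1 = 1) :
    IsLin B (χ : B → ℂ) := ⟨isCharacter_of_isIrrCharacter χ.2, h⟩

theorem one_of_charDegree {B : Subgroup G} (χ : IrrCharacter B)
    (h : charDegree (χ : B → ℂ) = 1) : (χ : B → ℂ) 1 = 1 := by
  rw [Cfsg.Agent.Lib.Helper77_BlockBasics.apply_one_eq_charDegree χ, h]
  simp

theorem isClassFunction_aInd (A : Subgroup G) {B : Subgroup G} (η : B → ℂ) :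
    IsClassFunction A (aInd A η) := by
  have : Fintype A := Fintype.ofFinite A
  rw [aInd_eq]
  exact isClassFunction_indFun _ _

theorem extendByZero_conj {Y : Type*} [Group Y] (H : Subgroup Y) (θ : H → ℂ) (y : Y) :
    conj (extendByZero H θ y) = extendByZero H (fun h => conj (θ h)) y := by
  by_cases hy : y ∈ H
  · rw [extendByZero_of_mem H θ hy, extendByZero_of_mem H _ hy]
  · rw [extendByZero_of_not_mem H θ hy, extendByZero_of_not_mem H _ hy, map_zero]

theorem conj_aInd (A : Subgroup G) {B : Subgroup G} (η : B → ℂ) (a : A) :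
    conj (aInd A η a) = aInd A (fun b => conj (η b)) a := by
  have : Fintype A := Fintype.ofFinite A
  rw [aInd_eq, aInd_eq, indFun_apply, indFun_apply, map_mul, map_inv₀, map_natCast, map_sum]
  congr 1
  apply Finset.sum_congr rfl
  intro x _
  rw [extendByZero_conj]
  rfl

theorem isRealF_iff_conj {Y : Type*} (f : Y → ℂ) : IsRealF f ↔ (fun y => conj (f y)) = f := by
  constructor
  · intro h
    funext y
    exact Complex.conj_eq_iff_im.mpr (h y)
  · intro h y
    exact Complex.conj_eq_iff_im.mp (congrFun h y)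

theorem isRealF_aInd (A : Subgroup G) {B : Subgroup G} {η : B → ℂ} (h : IsRealF η) :
    IsRealF (aInd A η) := by
  intro a
  apply Complex.conj_eq_iff_im.mp
  rw [conj_aInd, (isRealF_iff_conj η).mp h]

theorem trivOn_aInd {A B L : Subgroup G} (hLB : L ≤ B) (hBA : B ≤ A)
    (hn : A ≤ Subgroup.normalizer (L : Set G)) {η : B → ℂ} (ht : TrivOn L η) :
    TrivOn L (aInd A η) := by
  have : Fintype A := Fintype.ofFinite A
  intro a ha
  rw [aInd_eq, indFun_apply, indFun_apply]
  congr 1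
  apply Finset.sum_congr rfl
  intro x _
  have hx : (x : G)⁻¹ ∈ Subgroup.normalizer (L : Set G) := Subgroup.inv_mem _ (hn x.2)
  have h1 : ((x⁻¹ * a * x : A) : G) ∈ L := by
    have := conj_mem_of_mem_normalizer hx ha
    simpa using this
  have h2 : (x⁻¹ * a * x : A) ∈ B.subgroupOf A := Subgroup.mem_subgroupOf.mpr (hLB h1)
  have h3 : (x⁻¹ * 1 * x : A) ∈ B.subgroupOf A := by simp
  rw [extendByZero_of_mem _ _ h2, extendByZero_of_mem _ _ h3]
  show η ⟨_, _⟩ = η ⟨_, _⟩
  rw [ht ⟨_, hLB h1⟩ h1]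
  congr 1
  ext
  simp

end ambient

end Cfsg.Agent.Lib.Helper15_ROChar
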