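import Cfsg.Agent.Lib.Helper15_ROChar

/-!
# Real odd-degree characters: sign characters and their Clifford correspondence (helper15)
-/

set_option autoImplicit false
set_option linter.unusedSectionVars false
set_option linter.unusedVariables false

namespace Cfsg.Agent.Lib.Helper15_ROCliff

open Cfsg
open scoped ComplexConjugate
open Cfsg.Agent.Lib.Helper75_Induced Cfsg.Agent.Lib.Helper75_Clifford
  Cfsg.Agent.Lib.Helper75_CharArith Cfsg.Agent.Lib.Helper3_CharBridge
  Cfsg.Agent.Lib.Helper3_CharOrtho Cfsg.Agent.Lib.Helper15_ROBasic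
  Cfsg.Agent.Lib.Helper75_LinChar Cfsg.Agent.Lib.Helper15_ROChar

universe u

variable {G : Type u} [Group G] [Finite G]

/-! ### index two -/

theorem index_two {V M : Subgroup G} (h2 : V.relIndex M = 2) : (V.subgroupOf M).index = 2 := h2

theorem mul_mem_iff_two {V M : Subgroup G} (hVM : V ≤ M) (h2 : V.relIndex M = 2) {a b : G}
    (ha : a ∈ M) (hb : b ∈ M) : a * b ∈ V ↔ (a ∈ V ↔ b ∈ V) := by
  have := Subgroup.mul_mem_iff_of_index_two (index_two h2) (a := ⟨a, ha⟩) (b := ⟨b, hb⟩)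
  simpa [Subgroup.mem_subgroupOf] using this

theorem le_normalizer_of_two {V M : Subgroup G} (hVM : V ≤ M) (h2 : V.relIndex M = 2) :
    M ≤ Subgroup.normalizer (V : Set G) :=
  (Subgroup.normal_subgroupOf_iff_le_normalizer hVM).mp
    (Subgroup.normal_of_index_eq_two (index_two h2))

theorem exists_not_mem_of_two {V M : Subgroup G} (h2 : V.relIndex M = 2) :
    ∃ m ∈ M, m ∉ V := by
  by_contra hcon
  push Not at hcon
  have : V.relIndex M = 1 := Subgroup.relIndex_eq_one.mpr hcon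
  omega

theorem comm_mem_of_two {V M : Subgroup G} (hVM : V ≤ M) (h2 : V.relIndex M = 2) {x y : G}
    (hx : x ∈ M) (hy : y ∈ M) : x * y * x⁻¹ * y⁻¹ ∈ V := by
  have hx' := M.inv_mem hx
  have hy' := M.inv_mem hy
  rw [mul_mem_iff_two hVM h2 (M.mul_mem (M.mul_mem hx hy) hx') hy',
    mul_mem_iff_two hVM h2 (M.mul_mem hx hy) hx', mul_mem_iff_two hVM h2 hx hy,
    Subgroup.inv_mem_iff, Subgroup.inv_mem_iff]
  tauto

theorem sq_mem_of_two {V M : Subgroup G} (hVM : V ≤ M) (h2 : V.relIndex M = 2) {x : G}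
    (hx : x ∈ M) : x * x ∈ V := by
  rw [mul_mem_iff_two hVM h2 hx hx]

/-! ### the sign character -/

theorem sgn_mul {V M : Subgroup G} (hVM : V ≤ M) (h2 : V.relIndex M = 2) (a b : M) :
    sgn V M (a * b) = sgn V M a * sgn V M b := by
  have h := mul_mem_iff_two hVM h2 a.2 b.2
  by_cases ha : (a : G) ∈ V <;> by_cases hb : (b : G) ∈ V
  · rw [sgn_of_mem ha, sgn_of_mem hb, sgn_of_mem (V := V) (m := a * b) (h.mpr (by tauto))]
    simp
  · rw [sgn_of_mem ha, sgn_of_not_mem hb,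
      sgn_of_not_mem (V := V) (m := a * b) (fun hc => by have := h.mp hc; tauto)]
    simp
  · rw [sgn_of_not_mem ha, sgn_of_mem hb,
      sgn_of_not_mem (V := V) (m := a * b) (fun hc => by have := h.mp hc; tauto)]
    simp
  · rw [sgn_of_not_mem ha, sgn_of_not_mem hb,
      sgn_of_mem (V := V) (m := a * b) (h.mpr (by tauto))]
    simp

/-- the sign character as a homomorphism -/
noncomputable def sgnHom {V M : Subgroup G} (hVM : V ≤ M) (h2 : V.relIndex M = 2) : M →* ℂ where
  toFun := sgn V M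
  map_one' := sgn_of_mem (V.one_mem)
  map_mul' := sgn_mul hVM h2

theorem sgn_isLin {V M : Subgroup G} (hVM : V ≤ M) (h2 : V.relIndex M = 2) :
    IsLin M (sgn V M) := isLin_of_hom (sgnHom hVM h2)

theorem sgn_irr {V M : Subgroup G} (hVM : V ≤ M) (h2 : V.relIndex M = 2) :
    IsIrrCharacter M (sgn V M) := by
  have : Fintype M := Fintype.ofFinite M
  exact (sgn_isLin hVM h2).irr

theorem sgn_real (V M : Subgroup G) : IsRealF (sgn V M) := by
  intro m
  by_cases hm : (m : G) ∈ V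
  · rw [sgn_of_mem hm]; simp
  · rw [sgn_of_not_mem hm]; simp

theorem sgn_trivOn (V M : Subgroup G) : TrivOn V (sgn V M) := by
  intro m hm
  rw [sgn_of_mem hm, sgn_of_mem (V := V) (m := (1 : M)) V.one_mem]

/-- the sign character is fixed exactly by the normalizer of `V` -/
theorem cj_sgn_iff {V M : Subgroup G} (hVM : V ≤ M) {a : G}
    (ha : a ∈ Subgroup.normalizer (M : Set G)) :
    cj M a (sgn V M) = sgn V M ↔ a ∈ Subgroup.normalizer (V : Set G) := by
  constructor
  · intro h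
    have key : ∀ m : G, m ∈ M → (a * m * a⁻¹ ∈ V ↔ m ∈ V) := by
      intro m hm
      have h1 := congrFun h ⟨m, hm⟩
      rw [cj_apply ha] at h1
      by_cases h3 : m ∈ V
      · rw [sgn_of_mem (V := V) (m := ⟨m, hm⟩) h3] at h1
        by_cases h4 : a * m * a⁻¹ ∈ V
        · tauto
        · rw [sgn_of_not_mem (V := V) (m := ⟨a * m * a⁻¹, _⟩) h4] at h1
          norm_num at h1
      · rw [sgn_of_not_mem (V := V) (m := ⟨m, hm⟩) h3] at h1
        by_cases h4 : a * m * a⁻¹ ∈ V
        · rw [sgn_of_mem (V := V) (m := ⟨a * m * a⁻¹, _⟩) h4] at h1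
          norm_num at h1
        · tauto
    rw [Subgroup.mem_normalizer_iff]
    intro g
    constructor
    · intro hg
      exact (key g (hVM hg)).mpr hg
    · intro hg
      have hgM : g ∈ M := by
        have h5 := conj_mem_of_mem_normalizer (Subgroup.inv_mem _ ha) (hVM hg)
        have e : a⁻¹ * (a * g * a⁻¹) * a⁻¹⁻¹ = g := by group
        rw [e] at h5
        exact h5
      exact (key g hgM).mp hg
  · intro h
    funext m
    rw [cj_apply ha]
    have h1 := Subgroup.mem_normalizer_iff.mp h (m : G)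
    by_cases h3 : (m : G) ∈ V
    · rw [sgn_of_mem h3, sgn_of_mem (V := V) (m := ⟨a * m * a⁻¹, _⟩) (h1.mp h3)]
    · rw [sgn_of_not_mem h3,
        sgn_of_not_mem (V := V) (m := ⟨a * m * a⁻¹, _⟩) (fun hc => h3 (h1.mpr hc))]

theorem stb_sgn {A M V : Subgroup G} (hn : A ≤ Subgroup.normalizer (M : Set G))
    (hVM : V ≤ M) : stb A M (sgn V M) = A ⊓ Subgroup.normalizer (V : Set G) := by
  ext a
  rw [mem_stb, Subgroup.mem_inf]
  constructor
  · rintro ⟨h1, h2, h3⟩
    exact ⟨h1, (cj_sgn_iff hVM h2).mp h3⟩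
  · rintro ⟨h1, h2⟩
    exact ⟨h1, hn h1, (cj_sgn_iff hVM (hn h1)).mpr h2⟩

/-! ### constituents trivial on a subgroup -/

theorem trivOn_constituent {B L : Subgroup G} {Φ : B → ℂ} (hΦ : IsCharacter B Φ)
    (ht : TrivOn L Φ) (ψ : IrrCharacter B) (h : ip Φ (ψ : B → ℂ) ≠ 0) :
    TrivOn L (ψ : B → ℂ) := by
  have : Fintype B := Fintype.ofFinite B
  rw [ip_eq] at h
  intro b hb
  exact constituent_trivial hΦ (ht b hb) ψ h

/-- an irreducible character of `M` trivial on a subgroup of index two is `1` or the sign -/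
theorem eq_one_or_sgn {V M : Subgroup G} (hVM : V ≤ M) (h2 : V.relIndex M = 2)
    (θ : IrrCharacter M) (ht : TrivOn V (θ : M → ℂ)) :
    (θ : M → ℂ) = (fun _ => 1) ∨ (θ : M → ℂ) = sgn V M := by
  have hnV := le_normalizer_of_two hVM h2
  have h1 : (θ : M → ℂ) 1 = 1 :=
    deg_one_of_abelian hVM hnV (fun x hx y hy => comm_mem_of_two hVM h2 hx hy) θ ht
  have hl := isLin_of_one θ h1
  have hV : ∀ m : M, (m : G) ∈ V → (θ : M → ℂ) m = 1 := fun m hm => by rw [ht m hm, h1]
  have hsq : ∀ m : M, (θ : M → ℂ) m * (θ : M → ℂ) m = 1 := by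
    intro m
    rw [← hl.map_mul]
    exact hV (m * m) (sq_mem_of_two hVM h2 m.2)
  obtain ⟨m₀, hm₀M, hm₀V⟩ := exists_not_mem_of_two h2
  have hcos : ∀ m : M, (m : G) ∉ V → (θ : M → ℂ) m = (θ : M → ℂ) ⟨m₀, hm₀M⟩ := by
    intro m hm
    have h3 : ((m * ⟨m₀, hm₀M⟩ : M) : G) ∈ V :=
      (mul_mem_iff_two hVM h2 m.2 hm₀M).mpr (by tauto)
    have h4 := hV _ h3
    rw [hl.map_mul] at h4
    have h5 := hsq ⟨m₀, hm₀M⟩
    have h6 : (θ : M → ℂ) ⟨m₀, hm₀M⟩ ≠ 0 := hl.ne_zero _
    apply mul_right_cancel₀ h6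
    rw [h4, h5]
  have h7 : ((θ : M → ℂ) ⟨m₀, hm₀M⟩ - 1) * ((θ : M → ℂ) ⟨m₀, hm₀M⟩ + 1) = 0 := by
    have := hsq ⟨m₀, hm₀M⟩
    linear_combination this
  rcases mul_eq_zero.mp h7 with h8 | h8
  · left
    funext m
    by_cases hm : (m : G) ∈ V
    · exact hV m hm
    · rw [hcos m hm]
      exact sub_eq_zero.mp h8
  · right
    funext m
    by_cases hm : (m : G) ∈ V
    · rw [hV m hm, sgn_of_mem hm]
    · rw [hcos m hm, sgn_of_not_mem hm]
      exact eq_neg_of_add_eq_zero_left h8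

/-! ### characters lying over the sign character -/

/-- `η` lies over the sign character iff it is trivial on `V` and not on `M` -/
theorem ov_sgn_iff {T M V : Subgroup G} (hMT : M ≤ T)
    (hnM : T ≤ Subgroup.normalizer (M : Set G)) (hnV : T ≤ Subgroup.normalizer (V : Set G))
    (hVM : V ≤ M) (h2 : V.relIndex M = 2) (η : IrrCharacter T) :
    Ov hMT (η : T → ℂ) (sgn V M) ↔ TrivOn V (η : T → ℂ) ∧ ¬ TrivOn M (η : T → ℂ) := by
  constructor
  · intro h
    have h1 := rs_eq_smul_of_inv hMT hnM η ⟨sgn V M, sgn_irr hVM h2⟩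
      (fun a ha => (cj_sgn_iff hVM (hnM ha)).mpr (hnV ha)) h
    set c := ip (rs hMT (η : T → ℂ)) (sgn V M) with hc
    have hval : ∀ m : M, (η : T → ℂ) ⟨(m : G), hMT m.2⟩ = c * sgn V M m := by
      intro m
      have := congrFun h1 m
      rw [rs_apply] at this
      rw [this]
      rfl
    have h1' : (η : T → ℂ) 1 = c := by
      have := hval 1
      rw [sgn_of_mem (V := V) (m := (1 : M)) V.one_mem, mul_one] at this
      rw [← this]
      rfl
    refine ⟨?_, ?_⟩
    · intro t ht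
      have := hval ⟨(t : G), hVM ht⟩
      rw [sgn_of_mem (V := V) (m := ⟨(t : G), hVM ht⟩) ht, mul_one] at this
      rw [h1', ← this]
    · intro hcon
      obtain ⟨m₀, hm₀M, hm₀V⟩ := exists_not_mem_of_two h2
      have h3 := hval ⟨m₀, hm₀M⟩
      rw [sgn_of_not_mem (V := V) (m := ⟨m₀, hm₀M⟩) hm₀V, hcon ⟨m₀, hMT hm₀M⟩ hm₀M, h1'] at h3
      have h4 : c ≠ 0 := by
        rw [← h1']
        exact irr_one_ne_zero η.2
      apply h4
      linear_combination h3 / 2
  · rintro ⟨h1, h2'⟩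
    obtain ⟨θ, hθ⟩ := exists_constituent hMT η
    have hθt : TrivOn V (θ : M → ℂ) :=
      trivOn_constituent (isCharacter_rs hMT (isCharacter_of_isIrrCharacter η.2))
        (TrivOn.rs hMT h1) θ hθ
    rcases eq_one_or_sgn hVM h2 θ hθt with h3 | h3
    · exfalso
      apply h2'
      apply trivOn_of_ov_one hMT hnM η
      rw [← h3]
      exact hθ
    · rw [← h3]
      exact hθ

/-! ### the Clifford correspondence over a sign character -/

section corr

variable {A M V T : Subgroup G} (hMA : M ≤ A) (hnM : A ≤ Subgroup.normalizer (M : Set G))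
  (hVM : V ≤ M) (h2 : V.relIndex M = 2) (hT : T = A ⊓ Subgroup.normalizer (V : Set G))

include hMA hVM h2 hT in
theorem le_T : M ≤ T := by
  rw [hT]
  exact le_inf hMA (le_normalizer_of_two hVM h2)

include hT in
theorem T_le : T ≤ A := by
  rw [hT]
  exact inf_le_left

include hMA hnM hVM hT in
theorem mem_T_iff (g : A) :
    g ∈ T.subgroupOf A ↔
      Helper75_Clifford.conjFun (M.subgroupOf A) (normal_sub hMA hnM)
        (resSubgroupOf M A (sgn V M)) g = resSubgroupOf M A (sgn V M) := by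
  rw [up_cj hMA hnM, Subgroup.mem_subgroupOf, hT, Subgroup.mem_inf]
  constructor
  · rintro ⟨_, h⟩
    rw [(cj_sgn_iff hVM (hnM g.2)).mpr h]
  · intro h
    exact ⟨g.2, (cj_sgn_iff hVM (hnM g.2)).mp (up_injective hMA h)⟩

omit [Finite G] in
theorem sub_le {A M T : Subgroup G} (hMT : M ≤ T) : M.subgroupOf A ≤ T.subgroupOf A :=
  Subgroup.comap_mono hMT

theorem overT_iff' {A M T : Subgroup G} (hMT : M ≤ T) (θ : M → ℂ) (η : T → ℂ)
    [Fintype (M.subgroupOf A)] (hMA : M ≤ A) :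
    Cfsg.Agent.Lib.Helper75_RelGlaubCliff.OverT (M.subgroupOf A) (T.subgroupOf A)
      (sub_le hMT) (resSubgroupOf M A θ) (resSubgroupOf T A η) ↔ Ov hMT η θ := by
  unfold Cfsg.Agent.Lib.Helper75_RelGlaubCliff.OverT Ov
  have h1 : (fun n : M.subgroupOf A =>
      resSubgroupOf T A η ⟨(n : A), sub_le hMT n.2⟩) = resSubgroupOf M A (rs hMT η) := by
    funext n
    rfl
  rw [h1, ip_up hMA]

include hMA hnM hVM h2 hT in
/-- induction from the inertia group of the sign character is irreducible -/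
theorem ac_irr (η : IrrCharacter T) (hη : Ov (le_T hMA hVM h2 hT) (η : T → ℂ) (sgn V M)) :
    IsIrrCharacter A (aInd A (η : T → ℂ)) := by
  have : Fintype A := Fintype.ofFinite A
  have : Fintype (M.subgroupOf A) := Fintype.ofFinite _
  have : Fintype (T.subgroupOf A) := Fintype.ofFinite _
  have hMT := le_T hMA hVM h2 hT
  have hTA := T_le hT
  rw [aInd_eq]
  exact Cfsg.Agent.Lib.Helper75_RelGlaubCliff.cliff_irr (M.subgroupOf A) (T.subgroupOf A)
    (normal_sub hMA hnM) (sub_le hMT) (isIrr_up hMA (sgn_irr hVM h2))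
    (mem_T_iff hMA hnM hVM hT) ⟨resSubgroupOf T A (η : T → ℂ), isIrr_up hTA η.2⟩
    ((overT_iff' hMT _ _ hMA).mpr hη)

include hMA hnM hVM h2 hT in
theorem ac_inj (η η' : IrrCharacter T)
    (hη : Ov (le_T hMA hVM h2 hT) (η : T → ℂ) (sgn V M))
    (hη' : Ov (le_T hMA hVM h2 hT) (η' : T → ℂ) (sgn V M))
    (h : aInd A (η : T → ℂ) = aInd A (η' : T → ℂ)) : η = η' := by
  have : Fintype A := Fintype.ofFinite A
  have : Fintype (M.subgroupOf A) := Fintype.ofFinite _
  have : Fintype (T.subgroupOf A) := Fintype.ofFinite _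
  have hMT := le_T hMA hVM h2 hT
  have hTA := T_le hT
  rw [aInd_eq, aInd_eq] at h
  have h1 := Cfsg.Agent.Lib.Helper75_RelGlaubCliff.cliff_inj (M.subgroupOf A) (T.subgroupOf A)
    (normal_sub hMA hnM) (sub_le hMT) (isIrr_up hMA (sgn_irr hVM h2))
    (mem_T_iff hMA hnM hVM hT) ⟨resSubgroupOf T A (η : T → ℂ), isIrr_up hTA η.2⟩
    ⟨resSubgroupOf T A (η' : T → ℂ), isIrr_up hTA η'.2⟩
    ((overT_iff' hMT _ _ hMA).mpr hη) ((overT_iff' hMT _ _ hMA).mpr hη') h
  apply Subtype.ext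
  exact up_injective hTA (congrArg Subtype.val h1)

include hMA hnM hVM h2 hT in
theorem ac_surj (χ : IrrCharacter A) (hχ : Ov hMA (χ : A → ℂ) (sgn V M)) :
    ∃ η : IrrCharacter T, Ov (le_T hMA hVM h2 hT) (η : T → ℂ) (sgn V M) ∧
      aInd A (η : T → ℂ) = (χ : A → ℂ) := by
  have : Fintype A := Fintype.ofFinite A
  have : Fintype (M.subgroupOf A) := Fintype.ofFinite _
  have : Fintype (T.subgroupOf A) := Fintype.ofFinite _
  have hMT := le_T hMA hVM h2 hT
  have hTA := T_le hT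
  obtain ⟨ψ, hψ1, hψ2⟩ := Cfsg.Agent.Lib.Helper75_RelGlaubCliff.cliff_surj (M.subgroupOf A)
    (T.subgroupOf A) (normal_sub hMA hnM) (sub_le hMT) (isIrr_up hMA (sgn_irr hVM h2))
    (mem_T_iff hMA hnM hVM hT) χ ((ov_iff hMA _ _).mp hχ)
  refine ⟨⟨dn hTA (ψ : T.subgroupOf A → ℂ), isIrr_dn hTA ψ.2⟩, ?_, ?_⟩
  · rw [← overT_iff' hMT _ _ hMA, up_dn]
    exact hψ2
  · rw [aInd_eq, up_dn]
    exact hψ1

include hMA hnM hVM h2 hT in
/-- the induced character lies over the sign character -/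
theorem ac_ov (η : IrrCharacter T) (hη : Ov (le_T hMA hVM h2 hT) (η : T → ℂ) (sgn V M)) :
    Ov hMA (aInd A (η : T → ℂ)) (sgn V M) := by
  have hMT := le_T hMA hVM h2 hT
  have hTA := T_le hT
  have hirr := ac_irr hMA hnM hVM h2 hT η hη
  have h1 : Ov hTA (aInd A (η : T → ℂ)) (η : T → ℂ) := by
    rw [ov_iff_aInd hTA _ (isClassFunction_aInd A _)]
    have : Fintype A := Fintype.ofFinite A
    rw [ip_eq, classInner_self_of_isIrrCharacter hirr]
    exact one_ne_zero
  exact ov_trans hTA hMT (isCharacter_of_isIrrCharacter hirr) η h1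
    (isCharacter_of_isIrrCharacter (sgn_irr hVM h2)) hη

include hMA hnM hVM h2 hT in
/-- the correspondence preserves reality -/
theorem ac_real_iff (η : IrrCharacter T)
    (hη : Ov (le_T hMA hVM h2 hT) (η : T → ℂ) (sgn V M)) :
    IsRealF (aInd A (η : T → ℂ)) ↔ IsRealF (η : T → ℂ) := by
  constructor
  · intro h
    have : Fintype T := Fintype.ofFinite T
    have hMT := le_T hMA hVM h2 hT
    have hTA := T_le hT
    have hnMT : T ≤ Subgroup.normalizer (M : Set G) := hTA.trans hnM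
    have hnVT : T ≤ Subgroup.normalizer (V : Set G) := by rw [hT]; exact inf_le_right
    set η' : IrrCharacter T := ⟨fun t => conj ((η : T → ℂ) t),
      Cfsg.Agent.Lib.Helper75_CharProd.isIrrCharacter_conj η.2⟩ with hη'
    have h1 := (ov_sgn_iff hMT hnMT hnVT hVM h2 η).mp hη
    have h2' : Ov hMT (η' : T → ℂ) (sgn V M) := by
      rw [ov_sgn_iff hMT hnMT hnVT hVM h2]
      constructor
      · intro t ht
        show conj ((η : T → ℂ) t) = conj ((η : T → ℂ) 1)
        rw [h1.1 t ht]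
      · intro hcon
        apply h1.2
        intro t ht
        have := hcon t ht
        exact (starRingEnd ℂ).injective this
    have h3 : aInd A (η' : T → ℂ) = aInd A (η : T → ℂ) := by
      funext a
      rw [← conj_aInd]
      exact Complex.conj_eq_iff_im.mpr (h a)
    have h4 := ac_inj hMA hnM hVM h2 hT η' η h2' hη h3
    rw [isRealF_iff_conj]
    exact congrArg Subtype.val h4
  · intro h
    exact isRealF_aInd A h

end corr

/-! ### conjugate subgroups -/

omit [Finite G] in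
/-- the conjugate subgroup `a V a⁻¹` -/
def cjS (a : G) (V : Subgroup G) : Subgroup G := V.map (MulAut.conj a).toMonoidHom

omit [Finite G] in
theorem mem_cjS {a : G} {V : Subgroup G} {x : G} : x ∈ cjS a V ↔ a⁻¹ * x * a ∈ V := by
  unfold cjS
  rw [Subgroup.mem_map_equiv]
  simp [MulAut.conj_symm_apply]

omit [Finite G] in
theorem cjS_of_mem_normalizer {a : G} {M : Subgroup G}
    (ha : a ∈ Subgroup.normalizer (M : Set G)) : cjS a M = M := by
  ext x
  rw [mem_cjS]
  have h := Subgroup.mem_normalizer_iff.mp (Subgroup.inv_mem _ ha) x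
  rw [inv_inv] at h
  exact h.symm

omit [Finite G] in
theorem cjS_mono {a : G} {V M : Subgroup G} (h : V ≤ M) : cjS a V ≤ cjS a M :=
  Subgroup.map_mono h

omit [Finite G] in
theorem cjS_le {a : G} {V M : Subgroup G} (ha : a ∈ Subgroup.normalizer (M : Set G))
    (h : V ≤ M) : cjS a V ≤ M := by
  rw [← cjS_of_mem_normalizer ha]
  exact cjS_mono h

omit [Finite G] in
theorem le_cjS {a : G} {L V : Subgroup G} (ha : a ∈ Subgroup.normalizer (L : Set G))
    (h : L ≤ V) : L ≤ cjS a V := by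
  rw [← cjS_of_mem_normalizer ha]
  exact cjS_mono h

omit [Finite G] in
theorem relIndex_cjS {a : G} {V M : Subgroup G} (ha : a ∈ Subgroup.normalizer (M : Set G)) :
    (cjS a V).relIndex M = V.relIndex M := by
  conv_lhs => rw [← cjS_of_mem_normalizer ha]
  exact Subgroup.relIndex_map_map_of_injective V M (MulAut.conj a).injective

omit [Finite G] in
theorem cjS_cjS (a b : G) (V : Subgroup G) : cjS a (cjS b V) = cjS (a * b) V := by
  ext x
  rw [mem_cjS, mem_cjS, mem_cjS]
  have e : b⁻¹ * (a⁻¹ * x * a) * b = (a * b)⁻¹ * x * (a * b) := by group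
  rw [e]

omit [Finite G] in
theorem cjS_one (V : Subgroup G) : cjS 1 V = V := by
  ext x
  rw [mem_cjS]
  simp

omit [Finite G] in
theorem mem_normalizer_cjS {a q : G} {V : Subgroup G} :
    q ∈ Subgroup.normalizer ((cjS a V : Subgroup G) : Set G) ↔
      a⁻¹ * q * a ∈ Subgroup.normalizer (V : Set G) := by
  rw [Subgroup.mem_normalizer_iff, Subgroup.mem_normalizer_iff]
  constructor
  · intro h x
    have h1 := h (a * x * a⁻¹)
    rw [mem_cjS, mem_cjS] at h1
    have e1 : a⁻¹ * (a * x * a⁻¹) * a = x := by group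
    have e2 : a⁻¹ * (q * (a * x * a⁻¹) * q⁻¹) * a = a⁻¹ * q * a * x * (a⁻¹ * q * a)⁻¹ := by
      group
    rw [e1, e2] at h1
    exact h1
  · intro h x
    have h1 := h (a⁻¹ * x * a)
    rw [mem_cjS, mem_cjS]
    have e2 : a⁻¹ * (q * x * q⁻¹) * a = a⁻¹ * q * a * (a⁻¹ * x * a) * (a⁻¹ * q * a)⁻¹ := by
      group
    rw [e2]
    exact h1

theorem sgn_cjS {a : G} {V M : Subgroup G} (ha : a ∈ Subgroup.normalizer (M : Set G)) :
    sgn (cjS a⁻¹ V) M = cj M a (sgn V M) := by
  funext m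
  rw [cj_apply ha]
  have h : (m : G) ∈ cjS a⁻¹ V ↔ a * m * a⁻¹ ∈ V := by
    rw [mem_cjS, inv_inv]
  by_cases h1 : (m : G) ∈ cjS a⁻¹ V
  · rw [sgn_of_mem h1, sgn_of_mem (V := V) (m := ⟨a * m * a⁻¹, _⟩) (h.mp h1)]
  · rw [sgn_of_not_mem h1,
      sgn_of_not_mem (V := V) (m := ⟨a * m * a⁻¹, _⟩) (fun hc => h1 (h.mpr hc))]

/-! ### real linear characters are sign characters -/

/-- the kernel of a linear character, as a subgroup of `G` -/
def kerA (M : Subgroup G) (θ : M → ℂ) (h : IsLin M θ) : Subgroup G where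
  carrier := {g | ∃ hg : g ∈ M, θ ⟨g, hg⟩ = 1}
  one_mem' := ⟨M.one_mem, h.2⟩
  mul_mem' := by
    rintro a b ⟨ha, ha1⟩ ⟨hb, hb1⟩
    refine ⟨M.mul_mem ha hb, ?_⟩
    have := h.map_mul ⟨a, ha⟩ ⟨b, hb⟩
    rw [ha1, hb1, mul_one] at this
    exact this
  inv_mem' := by
    rintro a ⟨ha, ha1⟩
    refine ⟨M.inv_mem ha, ?_⟩
    have := h.map_inv ⟨a, ha⟩
    rw [ha1, inv_one] at this
    exact this

theorem mem_kerA {M : Subgroup G} {θ : M → ℂ} {h : IsLin M θ} {g : G} :
    g ∈ kerA M θ h ↔ ∃ hg : g ∈ M, θ ⟨g, hg⟩ = 1 := Iff.rfl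

theorem kerA_le {M : Subgroup G} {θ : M → ℂ} (h : IsLin M θ) : kerA M θ h ≤ M :=
  fun g hg => hg.1

/-- a real linear character is trivial or the sign character of its kernel -/
theorem real_lin_eq {M : Subgroup G} (θ : IrrCharacter M) (h1 : (θ : M → ℂ) 1 = 1)
    (hr : IsRealF (θ : M → ℂ)) :
    (θ : M → ℂ) = (fun _ => 1) ∨
      ∃ V : Subgroup G, V ≤ M ∧ V.relIndex M = 2 ∧ (θ : M → ℂ) = sgn V M ∧
        ∀ m : M, (θ : M → ℂ) m = 1 → (m : G) ∈ V := by
  have hl := isLin_of_one θ h1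
  have hsq : ∀ m : M, (θ : M → ℂ) m * (θ : M → ℂ) m = 1 := by
    intro m
    have := hl.mul_conj m
    rw [Complex.conj_eq_iff_im.mpr (hr m)] at this
    exact this
  by_cases hall : ∀ m : M, (θ : M → ℂ) m = 1
  · left
    funext m
    exact hall m
  · right
    push Not at hall
    obtain ⟨m₀, hm₀⟩ := hall
    have hm₀' : (θ : M → ℂ) m₀ = -1 := by
      have h7 : ((θ : M → ℂ) m₀ - 1) * ((θ : M → ℂ) m₀ + 1) = 0 := by
        have := hsq m₀
        linear_combination this
      rcases mul_eq_zero.mp h7 with h8 | h8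
      · exact absurd (sub_eq_zero.mp h8) hm₀
      · exact eq_neg_of_add_eq_zero_left h8
    have hpm : ∀ m : M, (θ : M → ℂ) m = 1 ∨ (θ : M → ℂ) m = -1 := by
      intro m
      have h7 : ((θ : M → ℂ) m - 1) * ((θ : M → ℂ) m + 1) = 0 := by
        have := hsq m
        linear_combination this
      rcases mul_eq_zero.mp h7 with h8 | h8
      · left; exact sub_eq_zero.mp h8
      · right; exact eq_neg_of_add_eq_zero_left h8
    have hV : kerA M (θ : M → ℂ) hl ≤ M := kerA_le hl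
    have hmem : ∀ m : M, (m : G) ∈ kerA M (θ : M → ℂ) hl ↔ (θ : M → ℂ) m = 1 := by
      intro m
      rw [mem_kerA]
      constructor
      · rintro ⟨_, h⟩
        exact h
      · intro h
        exact ⟨m.2, h⟩
    have h2 : (kerA M (θ : M → ℂ) hl).relIndex M = 2 := by
      show ((kerA M (θ : M → ℂ) hl).subgroupOf M).index = 2
      rw [Subgroup.index_eq_two_iff]
      refine ⟨m₀, fun b => ?_⟩
      rw [Subgroup.mem_subgroupOf, Subgroup.mem_subgroupOf, hmem, hmem, hl.map_mul, hm₀']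
      rcases hpm b with hb | hb
      · rw [hb]
        right
        constructor
        · rfl
        · norm_num
      · rw [hb]
        left
        constructor
        · norm_num
        · norm_num
    refine ⟨kerA M (θ : M → ℂ) hl, hV, h2, ?_, fun m hm => (hmem m).mpr hm⟩
    funext m
    by_cases hm : (m : G) ∈ kerA M (θ : M → ℂ) hl
    · rw [sgn_of_mem hm, (hmem m).mp hm]
    · rw [sgn_of_not_mem hm]
      rcases hpm m with hb | hb
      · exact absurd ((hmem m).mpr hb) hm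
      · exact hb

end Cfsg.Agent.Lib.Helper15_ROCliff
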