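import Mathlib

/-!
# Real odd-degree characters of solvable groups: valid triples (helper15)

`Valid A L Q`: `L ≤ Q ≤ A` are subgroups of `G`, `A` normalizes `L`, `|Q : L|` is a power of `2`
and `|A : Q|` is odd (so `Q / L` is a Sylow `2`-subgroup of `A / L`).
-/

set_option autoImplicit false

namespace Cfsg.Agent.Lib.Helper15_ROValid

variable {G : Type*} [Group G]

structure Valid (A L Q : Subgroup G) : Prop where
  hLQ : L ≤ Q
  hQA : Q ≤ A
  hn : A ≤ Subgroup.normalizer (L : Set G)
  h2 : ∃ k : ℕ, L.relIndex Q = 2 ^ k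
  hodd : Odd (Q.relIndex A)

end Cfsg.Agent.Lib.Helper15_ROValid
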