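import Cfsg.Agent.Lib.Helper82_ItoMichler
import Cfsg.Agent.Lib.Helper25_FrobTI
import Cfsg.Agent.Lib.Helper75_RelGlaubQuot
import Cfsg.Agent.Lib.Helper75_RelGlaubBasic

/-!
# Real constituents of real odd-degree irreducible characters (package S4581-P3)

* `exists_real_constituent`: a real irreducible character of odd degree has a real irreducible
  constituent on every normal subgroup.
* `odd_kill`: a real irreducible character of odd degree which is trivial on `L` is trivial on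
  every normal `K ≥ L` with `|K : L|` odd.
-/

set_option autoImplicit false
open scoped ComplexConjugate

namespace Cfsg.Agent.Lib.Helper21_ROReal

open Cfsg Cfsg.Agent.Lib.Helper75_Clifford Cfsg.Agent.Lib.Helper82_ItoMichler
  Cfsg.Agent.Lib.Helper75_CharProd Cfsg.Agent.Lib.Helper75_CharArith
  Cfsg.Agent.Lib.Helper3_CharBridge Cfsg.Agent.Lib.Helper3_CharOrtho
  Cfsg.Agent.Lib.Helper80_CharBasic

universe u

/-- A character which does not vanish at `1` has an irreducible constituent. -/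
theorem exists_constituent {H : Type*} [Group H] [Fintype H] {Φ : H → ℂ}
    (hΦ : IsCharacter H Φ) (h1 : Φ 1 ≠ 0) :
    ∃ θ : IrrCharacter H, classInner Φ (θ : H → ℂ) ≠ 0 := by
  classical
  obtain ⟨m, hm, hsum⟩ := exists_multiplicities hΦ
  by_contra hcon
  push Not at hcon
  apply h1
  rw [hsum]
  simp only [Finset.sum_apply, Pi.smul_apply]
  apply Finset.sum_eq_zero
  intro θ _
  have h2 := hm θ
  rw [hcon θ] at h2
  have h3 : m θ = 0 := by exact_mod_cast h2.symm
  rw [h3]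
  simp

variable {X : Type u} [Group X] [Fintype X]

theorem exists_real_constituent (N : Subgroup X) [hN : N.Normal] [Fintype N]
    (χ : IrrCharacter X) (hr : ∀ x, ((χ : X → ℂ) x).im = 0)
    (hd : Odd (charDegree (χ : X → ℂ))) :
    ∃ θ : IrrCharacter N, (∀ n, ((θ : N → ℂ) n).im = 0) ∧
      classInner (Helper75_Clifford.res N (χ : X → ℂ)) (θ : N → ℂ) ≠ 0 := by
  classical
  have hχc : IsCharacter X (χ : X → ℂ) := isCharacter_of_isIrrCharacter χ.2
  have hχcl : IsClassFunction X (χ : X → ℂ) := isClassFunction_of_isIrrCharacter χ.2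
  have hres : IsCharacter N (res N (χ : X → ℂ)) := isCharacter_res N hχc
  have hres1 : res N (χ : X → ℂ) 1 ≠ 0 := by
    rw [res_apply]
    exact Helper75_Clifford.irr_one_ne_zero χ.2
  obtain ⟨θ₀, hθ₀⟩ := exists_constituent hres hres1
  obtain ⟨a, _, ha⟩ := irr_apply_one χ
  obtain ⟨b, _, hb⟩ := irr_apply_one θ₀
  obtain ⟨e, he⟩ := clifford_degree N χ.2 θ₀.2 hθ₀ a b ha hb
  have hdeg : charDegree (χ : X → ℂ) = a := charDegree_eq _ a ha
  rw [hdeg, he] at hd
  have hidx : Odd (stab N (θ₀ : N → ℂ)).index := (Nat.odd_mul.mp (Nat.odd_mul.mp hd).2).1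
  have hχreal : ∀ x, conj ((χ : X → ℂ) x) = (χ : X → ℂ) x :=
    fun x => Complex.conj_eq_iff_im.mpr (hr x)
  -- the orbit of θ₀
  set O : Set (CF N) := MulAction.orbit X (show CF N from (θ₀ : N → ℂ)) with hO
  have hOeq : O = {ψ : N → ℂ | ∃ g : X, ψ = Helper75_Clifford.conjFun N hN (θ₀ : N → ℂ) g} := orbit_eq N _
  have hOfin : Finite O := by
    rw [hO]
    show Finite (Set.range _)
    infer_instance
  haveI : Fintype O := Fintype.ofFinite O
  have hcard : Fintype.card O = (stab N (θ₀ : N → ℂ)).index := by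
    rw [← Nat.card_eq_fintype_card, Nat.card_coe_set_eq]
    exact (MulAction.index_stabilizer (G := X) (x := (show CF N from (θ₀ : N → ℂ)))).symm
  -- complex conjugation on the orbit
  have hcθ₀ : IsIrrCharacter N (fun n => conj ((θ₀ : N → ℂ) n)) := isIrrCharacter_conj θ₀.2
  have hcθ₀' : classInner (res N (χ : X → ℂ)) (fun n => conj ((θ₀ : N → ℂ) n)) ≠ 0 := by
    have h1 : res N (χ : X → ℂ) = fun n => conj (res N (χ : X → ℂ) n) := by
      funext n
      rw [res_apply, hχreal]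
    rw [h1, classInner_conj_conj]
    intro h0
    exact hθ₀ ((map_eq_zero _).mp h0)
  obtain ⟨g₀, hg₀⟩ := exists_conj_of_constituent N hN χ.2 θ₀.2 hcθ₀ hθ₀ hcθ₀'
  have hmaps : ∀ ψ : CF N, ψ ∈ O → (show CF N from fun n => conj (ψ n)) ∈ O := by
    intro ψ hψ
    rw [hOeq] at hψ ⊢
    obtain ⟨g, rfl⟩ := hψ
    refine ⟨g₀ * g, ?_⟩
    rw [← conjFun_conjFun, ← hg₀]
    rfl
  let c : O → O := fun ψ => ⟨fun n => conj (ψ.1 n), hmaps ψ.1 ψ.2⟩
  have hinv : Function.Involutive c := by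
    intro ψ
    apply Subtype.ext
    funext n
    show conj (conj (ψ.1 n)) = ψ.1 n
    exact Complex.conj_conj _
  have hσ : hinv.toPerm ^ 2 ^ 1 = 1 := by
    ext ψ : 1
    rw [pow_one, pow_two]
    exact hinv ψ
  have hnd : ¬ 2 ∣ Fintype.card O := by
    rw [hcard]
    exact fun h => (Nat.not_even_iff_odd.mpr hidx) (even_iff_two_dvd.mpr h)
  obtain ⟨ψ, hψ⟩ := Equiv.Perm.exists_fixed_point_of_prime (p := 2) (n := 1) hnd hσ
  have hψO : ψ.1 ∈ {ψ : N → ℂ | ∃ g : X, ψ = Helper75_Clifford.conjFun N hN (θ₀ : N → ℂ) g} :=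
    hOeq ▸ ψ.2
  obtain ⟨g, hg⟩ := hψO
  refine ⟨⟨ψ.1, ?_⟩, ?_, ?_⟩
  · rw [hg]
    exact isIrrCharacter_conjFun N hN θ₀.2 g
  · intro n
    have h1 : c ψ = ψ := hψ
    have h2 : conj (ψ.1 n) = ψ.1 n := congrFun (congrArg Subtype.val h1) n
    exact Complex.conj_eq_iff_im.mp h2
  · show classInner (res N (χ : X → ℂ)) ψ.1 ≠ 0
    rw [hg, classInner_res_conjFun N hN hχcl]
    exact hθ₀

theorem odd_kill (L K : Subgroup X) [hL : L.Normal] [hK : K.Normal] (hLK : L ≤ K)
    (hodd : Odd (L.relIndex K)) (χ : IrrCharacter X) (hr : ∀ x, ((χ : X → ℂ) x).im = 0)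
    (hd : Odd (charDegree (χ : X → ℂ)))
    (ht : ∀ x ∈ L, (χ : X → ℂ) x = (χ : X → ℂ) 1) :
    ∀ x ∈ K, (χ : X → ℂ) x = (χ : X → ℂ) 1 := by
  classical
  haveI : Fintype (X ⧸ L) := Fintype.ofFinite _
  set f : X →* X ⧸ L := QuotientGroup.mk' L with hf
  have hfs : Function.Surjective f := QuotientGroup.mk'_surjective L
  have hker : ∀ c : X, f c = 1 → (χ : X → ℂ) c = (χ : X → ℂ) 1 := by
    intro c hc
    exact ht c ((QuotientGroup.eq_one_iff c).mp hc)
  obtain ⟨δ, hδ⟩ := Helper75_RelGlaubQuot.exists_infl f hfs χ hker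
  have hδv : ∀ x : X, (χ : X → ℂ) x = (δ : X ⧸ L → ℂ) (f x) := by
    intro x
    rw [hδ]
    rfl
  have hδr : ∀ y, ((δ : X ⧸ L → ℂ) y).im = 0 := by
    intro y
    obtain ⟨x, rfl⟩ := hfs y
    rw [← hδv]
    exact hr x
  have hδd : Odd (charDegree (δ : X ⧸ L → ℂ)) := by
    have h1 : charDegree (δ : X ⧸ L → ℂ) = charDegree (χ : X → ℂ) := by
      show ⌊((δ : X ⧸ L → ℂ) 1).re⌋₊ = ⌊((χ : X → ℂ) 1).re⌋₊
      rw [hδv 1, map_one]
    rw [h1]
    exact hd
  set N' : Subgroup (X ⧸ L) := K.map f with hN'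
  haveI hN'n : N'.Normal := hK.map f hfs
  haveI : Fintype N' := Fintype.ofFinite _
  obtain ⟨θ, hθr, hθc⟩ := exists_real_constituent N' δ hδr hδd
  have hcardN' : Nat.card N' = L.relIndex K := by
    have h1 := Subgroup.relIndex_comap (⊥ : Subgroup (X ⧸ L)) f K
    rw [Subgroup.relIndex_bot_left] at h1
    rw [← h1]
    congr 1
    rw [MonoidHom.comap_bot, hf, QuotientGroup.ker_mk']
  have hθ1 : (θ : N' → ℂ) = fun _ => 1 := by
    apply Helper25_FrobTI.eq_one_of_real (by rw [hcardN']; exact hodd) θ.2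
    funext n
    show conj ((θ : N' → ℂ) n) = _
    exact Complex.conj_eq_iff_im.mpr (hθr n)
  rw [hθ1] at hθc
  intro x hx
  have h2 := Helper75_RelGlaubBasic.eq_one_of_over_one N' hN'n δ.2 hθc
    ⟨f x, Subgroup.mem_map_of_mem f hx⟩
  rw [hδv x, hδv 1, map_one]
  exact h2

end Cfsg.Agent.Lib.Helper21_ROReal
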