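import Mathlib

set_option autoImplicit false

namespace Cfsg.Agent.Lib.Helper71_S3LinB

variable {𝒢 : Type*} [Group 𝒢]

theorem mem_normalizer_of_forall {H : Subgroup 𝒢} {g : 𝒢} (h1 : ∀ x ∈ H, g * x * g⁻¹ ∈ H)
    (h2 : ∀ x ∈ H, g⁻¹ * x * g ∈ H) : g ∈ Subgroup.normalizer (H : Set 𝒢) := by
  rw [Subgroup.mem_normalizer_iff]
  intro x
  constructor
  · exact h1 x
  · intro hx
    have := h2 _ hx
    have e : g⁻¹ * (g * x * g⁻¹) * g = x := by group
    rw [e] at this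
    exact this

theorem inv_conj_mem_of_mem_normalizer {H : Subgroup 𝒢} {g : 𝒢}
    (hg : g ∈ Subgroup.normalizer (H : Set 𝒢)) {x : 𝒢} (hx : x ∈ H) : g⁻¹ * x * g ∈ H :=
  (Subgroup.mem_normalizer_iff''.1 hg x).1 hx

theorem conj_mem_of_mem_normalizer {H : Subgroup 𝒢} {g : 𝒢}
    (hg : g ∈ Subgroup.normalizer (H : Set 𝒢)) {x : 𝒢} (hx : x ∈ H) : g * x * g⁻¹ ∈ H :=
  (Subgroup.mem_normalizer_iff.1 hg x).1 hx

/-- the commutator subgroup of `Z` is normalised by whatever normalises `Z` -/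
theorem mem_normalizer_commutator {Z : Subgroup 𝒢} {g : 𝒢}
    (hg : g ∈ Subgroup.normalizer (Z : Set 𝒢)) : g ∈ Subgroup.normalizer ((⁅Z, Z⁆ : Subgroup 𝒢) : Set 𝒢) := by
  have key : ∀ g : 𝒢, g ∈ Subgroup.normalizer (Z : Set 𝒢) → ∀ x ∈ ⁅Z, Z⁆, g * x * g⁻¹ ∈ ⁅Z, Z⁆ := by
    intro g hg x hx
    have h1 : (⁅Z, Z⁆ : Subgroup 𝒢).map (MulAut.conj g).toMonoidHom = ⁅Z, Z⁆ := by
      rw [Subgroup.map_commutator]
      have h2 : Z.map (MulAut.conj g).toMonoidHom = Z := by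
        ext y
        constructor
        · rintro ⟨z, hz, rfl⟩
          exact conj_mem_of_mem_normalizer hg hz
        · intro hy
          refine ⟨g⁻¹ * y * g, inv_conj_mem_of_mem_normalizer hg hy, ?_⟩
          show g * (g⁻¹ * y * g) * g⁻¹ = y
          group
      rw [h2]
    rw [← h1]
    exact ⟨x, hx, rfl⟩
  apply mem_normalizer_of_forall (key g hg)
  intro x hx
  have := key g⁻¹ (Subgroup.inv_mem _ hg) x hx
  rw [inv_inv] at this
  exact this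

/-- the elements of exponent `v` in a commutative subgroup -/
def omega (Z : Subgroup 𝒢) (hZc : ∀ x ∈ Z, ∀ y ∈ Z, x * y = y * x) (v : ℕ) : Subgroup 𝒢 where
  carrier := {z | z ∈ Z ∧ z ^ v = 1}
  mul_mem' := by
    rintro a b ⟨ha, ha'⟩ ⟨hb, hb'⟩
    refine ⟨Z.mul_mem ha hb, ?_⟩
    have hc : Commute a b := hZc a ha b hb
    rw [hc.mul_pow, ha', hb', one_mul]
  one_mem' := ⟨Z.one_mem, one_pow v⟩
  inv_mem' := by
    rintro a ⟨ha, ha'⟩
    exact ⟨Z.inv_mem ha, by rw [inv_pow, ha', inv_one]⟩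

theorem mem_omega {Z : Subgroup 𝒢} {hZc : ∀ x ∈ Z, ∀ y ∈ Z, x * y = y * x} {v : ℕ} {z : 𝒢} :
    z ∈ omega Z hZc v ↔ z ∈ Z ∧ z ^ v = 1 := Iff.rfl

theorem mem_normalizer_omega {Z : Subgroup 𝒢} (hZc : ∀ x ∈ Z, ∀ y ∈ Z, x * y = y * x) (v : ℕ)
    {g : 𝒢} (hg : g ∈ Subgroup.normalizer (Z : Set 𝒢)) :
    g ∈ Subgroup.normalizer ((omega Z hZc v : Subgroup 𝒢) : Set 𝒢) := by
  apply mem_normalizer_of_forall
  · rintro x ⟨hx, hx'⟩
    refine ⟨conj_mem_of_mem_normalizer hg hx, ?_⟩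
    rw [conj_pow, hx', mul_one, mul_inv_cancel]
  · rintro x ⟨hx, hx'⟩
    refine ⟨inv_conj_mem_of_mem_normalizer hg hx, ?_⟩
    have := conj_pow (a := g⁻¹) (b := x) (i := v)
    rw [inv_inv] at this
    rw [this, hx', mul_one, inv_mul_cancel]

/-- **Minimal invariant subgroups.**  A finite solvable subgroup `K ≠ ⊥` of a group `𝒢`, normalised
by a set `S` of elements, contains a non-trivial commutative subgroup of prime exponent normalised by
`K` and `S`. -/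
theorem exists_minimal_invariant (K : Subgroup 𝒢) [Finite K] (hsolv : Group.IsSolvable K)
    (hK0 : K ≠ ⊥) (S : Set 𝒢) (hS : ∀ g ∈ S, g ∈ Subgroup.normalizer (K : Set 𝒢)) :
    ∃ Z : Subgroup 𝒢, Z ≤ K ∧ Z ≠ ⊥ ∧ K ≤ Subgroup.normalizer (Z : Set 𝒢) ∧
      (∀ g ∈ S, g ∈ Subgroup.normalizer (Z : Set 𝒢)) ∧ (∀ x ∈ Z, ∀ y ∈ Z, x * y = y * x) ∧
      ∃ v : ℕ, v.Prime ∧ ∀ z ∈ Z, z ^ v = 1 := by
  classical
  let P : Subgroup 𝒢 → Prop := fun Z => Z ≤ K ∧ Z ≠ ⊥ ∧ K ≤ Subgroup.normalizer (Z : Set 𝒢) ∧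
    ∀ g ∈ S, g ∈ Subgroup.normalizer (Z : Set 𝒢)
  have hex : ∃ n, ∃ Z, P Z ∧ Nat.card Z = n :=
    ⟨_, K, ⟨le_rfl, hK0, Subgroup.le_normalizer, hS⟩, rfl⟩
  obtain ⟨Z, hZP, hZn⟩ := Nat.find_spec hex
  have hmin : ∀ Z', P Z' → Z' ≤ Z → Z' = Z := by
    intro Z' hZ' hle
    have hfinZ : Finite Z := Finite.of_injective (Subgroup.inclusion hZP.1)
      (Subgroup.inclusion_injective hZP.1)
    have h1 : Nat.find hex ≤ Nat.card Z' := Nat.find_min' hex ⟨Z', hZ', rfl⟩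
    rw [← hZn] at h1
    exact Subgroup.eq_of_le_of_card_ge hle h1
  obtain ⟨hZK, hZ0, hZnK, hZnS⟩ := hZP
  have hfinZ : Finite Z := Finite.of_injective (Subgroup.inclusion hZK)
    (Subgroup.inclusion_injective hZK)
  have hsolvZ : Group.IsSolvable Z :=
    Group.isSolvable_of_isSolvable_injective (Subgroup.inclusion_injective hZK)
  -- commutative
  have hcomm_lt : ⁅Z, Z⁆ < Z := by
    have hnt : Nontrivial Z := (Subgroup.nontrivial_iff_ne_bot Z).2 hZ0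
    have h1 := Group.IsSolvable.commutator_lt_top_of_nontrivial Z
    rw [← Subgroup.map_subtype_lt_map_subtype, commutator_def, Subgroup.map_commutator] at h1
    have e : (⊤ : Subgroup Z).map Z.subtype = Z := by
      rw [← MonoidHom.range_eq_map, Subgroup.range_subtype]
    rw [e] at h1
    exact h1
  have hcomm_bot : ⁅Z, Z⁆ = ⊥ := by
    by_contra hne
    have := hmin ⁅Z, Z⁆ ⟨hcomm_lt.le.trans hZK, hne,
      fun k hk => mem_normalizer_commutator (hZnK hk),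
      fun g hg => mem_normalizer_commutator (hZnS g hg)⟩ hcomm_lt.le
    exact hcomm_lt.ne this
  have hZc : ∀ x ∈ Z, ∀ y ∈ Z, x * y = y * x := by
    intro x hx y hy
    have := Subgroup.commutator_eq_bot_iff_le_centralizer.1 hcomm_bot hx
    exact (Subgroup.mem_centralizer_iff.1 this y hy).symm
  -- prime exponent
  have hcard : 1 < Nat.card Z := by
    have hnt : Nontrivial Z := (Subgroup.nontrivial_iff_ne_bot Z).2 hZ0
    exact Finite.one_lt_card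
  obtain ⟨v, hv, hvd⟩ := Nat.exists_prime_and_dvd hcard.ne'
  have : Fact v.Prime := ⟨hv⟩
  obtain ⟨z₀, hz₀⟩ := exists_prime_orderOf_dvd_card' v hvd
  have hom0 : omega Z hZc v ≠ ⊥ := by
    intro h
    have h1 : (z₀ : 𝒢) ∈ omega Z hZc v := by
      refine ⟨z₀.2, ?_⟩
      have := pow_orderOf_eq_one z₀
      rw [hz₀] at this
      have h2 := congrArg Subtype.val this
      exact h2
    rw [h, Subgroup.mem_bot] at h1
    have h3 : z₀ = 1 := Subtype.ext h1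
    rw [h3, orderOf_one] at hz₀
    exact hv.one_lt.ne hz₀
  have homle : omega Z hZc v ≤ Z := fun z hz => hz.1
  have hom := hmin (omega Z hZc v) ⟨homle.trans hZK, hom0,
    fun k hk => mem_normalizer_omega hZc v (hZnK hk),
    fun g hg => mem_normalizer_omega hZc v (hZnS g hg)⟩ homle
  refine ⟨Z, hZK, hZ0, hZnK, hZnS, hZc, v, hv, ?_⟩
  intro z hz
  rw [← hom] at hz
  exact hz.2

end Cfsg.Agent.Lib.Helper71_S3LinB
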