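import Mathlib
import Cfsg.Agent.Lib.Helper15_ROValid
import Cfsg.Agent.Lib.Helper1_Cores
import Cfsg.Agent.Lib.Helper71_S3LinB
import Cfsg.Agent.S4227

set_option autoImplicit false

namespace Cfsg.Agent.Lib.Helper71_ROStruct

open Cfsg.Agent.Lib.Helper15_ROValid Cfsg.Agent.Lib.Helper1_Cores Cfsg

variable {G : Type*} [Group G]

section pre

variable (A L : Subgroup G) [hN : (L.subgroupOf A).Normal]

/-- the preimage in `G` of a subgroup of `A / L` -/
def pre (Y : Subgroup (↥A ⧸ L.subgroupOf A)) : Subgroup G :=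
  (Y.comap (QuotientGroup.mk' (L.subgroupOf A))).map A.subtype

variable {A L}

theorem mem_pre {Y : Subgroup (↥A ⧸ L.subgroupOf A)} {x : G} :
    x ∈ pre A L Y ↔ ∃ h : x ∈ A, (QuotientGroup.mk' (L.subgroupOf A)) ⟨x, h⟩ ∈ Y := by
  unfold pre
  constructor
  · rintro ⟨a, ha, rfl⟩
    exact ⟨a.2, ha⟩
  · rintro ⟨h, hx⟩
    exact ⟨⟨x, h⟩, hx, rfl⟩

theorem pre_le (Y : Subgroup (↥A ⧸ L.subgroupOf A)) : pre A L Y ≤ A := by
  intro x hx
  obtain ⟨h, _⟩ := mem_pre.1 hx
  exact h

theorem le_pre (hLA : L ≤ A) (Y : Subgroup (↥A ⧸ L.subgroupOf A)) : L ≤ pre A L Y := by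
  intro x hx
  rw [mem_pre]
  refine ⟨hLA hx, ?_⟩
  have : (QuotientGroup.mk' (L.subgroupOf A)) ⟨x, hLA hx⟩ = 1 := by
    rw [QuotientGroup.mk'_apply, QuotientGroup.eq_one_iff]
    exact Subgroup.mem_subgroupOf.2 hx
  rw [this]
  exact Y.one_mem

theorem pre_mono {Y Y' : Subgroup (↥A ⧸ L.subgroupOf A)} (h : Y ≤ Y') : pre A L Y ≤ pre A L Y' := by
  intro x hx
  rw [mem_pre] at hx ⊢
  obtain ⟨h1, h2⟩ := hx
  exact ⟨h1, h h2⟩

theorem relIndex_pre (hLA : L ≤ A) (Y : Subgroup (↥A ⧸ L.subgroupOf A)) :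
    L.relIndex (pre A L Y) = Nat.card Y := by
  have h1 : (L.subgroupOf A).map A.subtype = L := Subgroup.map_subgroupOf_eq_of_le hLA
  have h2 : L.subgroupOf A = (⊥ : Subgroup (↥A ⧸ L.subgroupOf A)).comap
      (QuotientGroup.mk' (L.subgroupOf A)) := by
    rw [MonoidHom.comap_bot, QuotientGroup.ker_mk']
  calc L.relIndex (pre A L Y)
      = ((L.subgroupOf A).map A.subtype).relIndex
          ((Y.comap (QuotientGroup.mk' (L.subgroupOf A))).map A.subtype) := by
        rw [h1]
        rfl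
    _ = (L.subgroupOf A).relIndex (Y.comap (QuotientGroup.mk' (L.subgroupOf A))) :=
        Subgroup.relIndex_map_map_of_injective _ _ A.subtype_injective
    _ = ((⊥ : Subgroup (↥A ⧸ L.subgroupOf A)).comap (QuotientGroup.mk' (L.subgroupOf A))).relIndex
          (Y.comap (QuotientGroup.mk' (L.subgroupOf A))) := by
        rw [← h2]
    _ = Nat.card Y := by
        rw [Subgroup.relIndex_comap,
          Subgroup.map_comap_eq_self_of_surjective (QuotientGroup.mk'_surjective _),
          Subgroup.relIndex_bot_left]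

theorem le_normalizer_pre (Y : Subgroup (↥A ⧸ L.subgroupOf A)) [Y.Normal] :
    A ≤ Subgroup.normalizer (pre A L Y : Set G) := by
  have key : ∀ a ∈ A, ∀ x ∈ pre A L Y, a * x * a⁻¹ ∈ pre A L Y := by
    intro a ha x hx
    rw [mem_pre] at hx ⊢
    obtain ⟨h1, h2⟩ := hx
    refine ⟨A.mul_mem (A.mul_mem ha h1) (A.inv_mem ha), ?_⟩
    have e : (⟨a * x * a⁻¹, A.mul_mem (A.mul_mem ha h1) (A.inv_mem ha)⟩ : A) =
        ⟨a, ha⟩ * ⟨x, h1⟩ * ⟨a, ha⟩⁻¹ := rfl
    rw [e, map_mul, map_mul, map_inv]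
    exact ‹Y.Normal›.conj_mem _ h2 _
  intro a ha
  apply Cfsg.Agent.Lib.Helper71_S3LinB.mem_normalizer_of_forall (key a ha)
  intro x hx
  have := key a⁻¹ (A.inv_mem ha) x hx
  rwa [inv_inv] at this

theorem pre_map_subgroupOf {Q : Subgroup G} (hLQ : L ≤ Q) (hQA : Q ≤ A) :
    pre A L ((Q.subgroupOf A).map (QuotientGroup.mk' (L.subgroupOf A))) = Q := by
  unfold pre
  rw [Subgroup.comap_map_eq_self, Subgroup.map_subgroupOf_eq_of_le hQA]
  rw [QuotientGroup.ker_mk']
  intro x hx
  rw [Subgroup.mem_subgroupOf] at hx ⊢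
  exact hLQ hx

end pre

/-- a normal subgroup of order at most `2` is central -/
theorem le_center_of_card_le_two {X : Type*} [Group X] [Finite X] (P : Subgroup X) [P.Normal]
    (h : Nat.card P ≤ 2) : P ≤ Subgroup.center X := by
  classical
  intro z hz
  rw [Subgroup.mem_center_iff]
  intro g
  by_cases hz1 : z = 1
  · rw [hz1, mul_one, one_mul]
  · have hconj : g * z * g⁻¹ ∈ P := ‹P.Normal›.conj_mem z hz g
    have hne : g * z * g⁻¹ ≠ 1 := by
      intro h1
      apply hz1
      have : z = g⁻¹ * (g * z * g⁻¹) * g := by group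
      rw [this, h1]
      group
    by_contra hgz
    have hne2 : g * z * g⁻¹ ≠ z := by
      intro h1
      apply hgz
      calc g * z = (g * z * g⁻¹) * g := by group
        _ = z * g := by rw [h1]
    let _ : Fintype P := Fintype.ofFinite P
    have h3 : 3 ≤ Nat.card P := by
      have hc : ({⟨1, P.one_mem⟩, ⟨z, hz⟩, ⟨g * z * g⁻¹, hconj⟩} : Finset P).card = 3 := by
        rw [Finset.card_insert_of_notMem, Finset.card_insert_of_notMem, Finset.card_singleton]
        · rw [Finset.mem_singleton]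
          intro h
          exact hne2 (congrArg Subtype.val h).symm
        · rw [Finset.mem_insert, Finset.mem_singleton]
          rintro (h | h)
          · exact hz1 (congrArg Subtype.val h).symm
          · exact hne (congrArg Subtype.val h).symm
      rw [Nat.card_eq_fintype_card, ← hc]
      exact Finset.card_le_univ _
    omega

theorem struct [Finite G] [Group.IsSolvable G] {A L Q : Subgroup G} (hv : Valid A L Q)
    (hQA : Q ≠ A) :
    (∃ K : Subgroup G, L < K ∧ K ≤ A ∧ A ≤ Subgroup.normalizer (K : Set G) ∧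
        Odd (L.relIndex K) ∧ ∀ x ∈ K, ∀ y ∈ K, x * y * x⁻¹ * y⁻¹ ∈ L) ∨
    (∃ M : Subgroup G, L < M ∧ M ≤ Q ∧ A ≤ Subgroup.normalizer (M : Set G) ∧
        4 ≤ L.relIndex M) := by
  classical
  have hLA : L ≤ A := hv.hLQ.trans hv.hQA
  have hN : (L.subgroupOf A).Normal := Subgroup.normal_subgroupOf_of_le_normalizer hv.hn
  have h2prime : Fact (Nat.Prime 2) := ⟨Nat.prime_two⟩
  -- `L < pre Y` for `Y ≠ ⊥`
  have hlt : ∀ Y : Subgroup (↥A ⧸ L.subgroupOf A), Y ≠ ⊥ → L < pre A L Y := by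
    intro Y hY
    apply lt_of_le_of_ne (le_pre hLA Y)
    intro h
    have h1 := relIndex_pre hLA Y
    rw [← h, Subgroup.relIndex_self] at h1
    exact hY (Subgroup.card_eq_one.1 h1.symm)
  by_cases hO : pPrimeCore 2 (↥A ⧸ L.subgroupOf A) = ⊥
  · -- second alternative with `O_2`
    right
    have hcent := Cfsg.Agent.S4227.centralizer_pCore_le (X := ↥A ⧸ L.subgroupOf A) 2 hO
    obtain ⟨j, hj⟩ := IsPGroup.iff_card.1 (pCore_isPGroup (G := ↥A ⧸ L.subgroupOf A) 2)
    -- the Sylow subgroup `Q / L`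
    obtain ⟨Qb, hQb⟩ : ∃ Qb : Subgroup (↥A ⧸ L.subgroupOf A),
        Qb = (Q.subgroupOf A).map (QuotientGroup.mk' (L.subgroupOf A)) := ⟨_, rfl⟩
    have hpreQ : pre A L Qb = Q := by
      rw [hQb]
      exact pre_map_subgroupOf hv.hLQ hv.hQA
    have hQbcard : Nat.card Qb = L.relIndex Q := by
      rw [← relIndex_pre hLA Qb, hpreQ]
    have hQbindex : Qb.index = Q.relIndex A := by
      have h1 : (Qb.comap (QuotientGroup.mk' (L.subgroupOf A))).index = Qb.index :=
        Subgroup.index_comap_of_surjective Qb (QuotientGroup.mk'_surjective _)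
      rw [← h1, hQb, Subgroup.comap_map_eq_self]
      · rfl
      · rw [QuotientGroup.ker_mk']
        intro x hx
        rw [Subgroup.mem_subgroupOf] at hx ⊢
        exact hv.hLQ hx
    have hQbp : IsPGroup 2 Qb := by
      obtain ⟨k, hk⟩ := hv.h2
      exact IsPGroup.of_card (n := k) (by rw [hQbcard, hk])
    have hQbnd : ¬ 2 ∣ Qb.index := by
      rw [hQbindex]
      exact hv.hodd.not_two_dvd_nat
    have hcore_le : pCore 2 (↥A ⧸ L.subgroupOf A) ≤ Qb := by
      have := pCore_le_sylow 2 (hQbp.toSylow hQbnd)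
      exact this
    -- the quotient is not a `2`-group of order `≤ 2`
    have hXcard : Nat.card (↥A ⧸ L.subgroupOf A) = L.relIndex A := rfl
    have hmul : L.relIndex Q * Q.relIndex A = L.relIndex A :=
      Subgroup.relIndex_mul_relIndex L Q A hv.hLQ hv.hQA
    have hQAindex : Q.relIndex A ≠ 1 := by
      intro h
      apply hQA
      exact le_antisymm hv.hQA (Subgroup.relIndex_eq_one.1 h)
    have h4 : 4 ≤ Nat.card (pCore 2 (↥A ⧸ L.subgroupOf A)) := by
      by_contra hlt4
      have hj1 : j ≤ 1 := by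
        by_contra hj2
        apply hlt4
        rw [hj]
        calc 4 = 2 ^ 2 := by norm_num
          _ ≤ 2 ^ j := Nat.pow_le_pow_right (by norm_num) (by omega)
      have hle2 : Nat.card (pCore 2 (↥A ⧸ L.subgroupOf A)) ≤ 2 := by
        rw [hj]
        calc 2 ^ j ≤ 2 ^ 1 := Nat.pow_le_pow_right (by norm_num) hj1
          _ = 2 := by norm_num
      have hcen := le_center_of_card_le_two (pCore 2 (↥A ⧸ L.subgroupOf A)) hle2
      have htop : (⊤ : Subgroup (↥A ⧸ L.subgroupOf A)) ≤ pCore 2 (↥A ⧸ L.subgroupOf A) := by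
        apply le_trans _ hcent
        intro x _
        rw [Subgroup.mem_centralizer_iff]
        intro z hz
        exact (Subgroup.mem_center_iff.1 (hcen hz) x).symm
      have hXle : Nat.card (↥A ⧸ L.subgroupOf A) ≤ 2 := by
        rw [← Subgroup.card_top (G := ↥A ⧸ L.subgroupOf A)]
        exact le_trans (Subgroup.card_le_of_le htop) hle2
      -- `|A : L| ≤ 2` with `|A : Q|` odd and `≠ 1`
      rw [hXcard, ← hmul] at hXle
      have hodd := hv.hodd
      have hpos : 0 < L.relIndex Q := by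
        obtain ⟨k, hk⟩ := hv.h2
        rw [hk]
        positivity
      obtain ⟨m, hm⟩ := hodd
      have : 3 ≤ Q.relIndex A := by omega
      nlinarith
    refine ⟨pre A L (pCore 2 (↥A ⧸ L.subgroupOf A)), ?_, ?_, le_normalizer_pre _, ?_⟩
    · apply hlt
      intro h
      rw [h, Subgroup.card_bot] at h4
      omega
    · rw [← hpreQ]
      exact pre_mono hcore_le
    · rw [relIndex_pre hLA]
      exact h4
  · -- first alternative
    left
    obtain ⟨Z, hZO, hZ0, -, hZn, hZc, -⟩ :=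
      Cfsg.Agent.Lib.Helper71_S3LinB.exists_minimal_invariant
        (pPrimeCore 2 (↥A ⧸ L.subgroupOf A)) inferInstance hO Set.univ
        (fun g _ => by
          rw [Subgroup.normalizer_eq_top_iff.2
            (Cfsg.Agent.Lib.Helper1_Cores.pPrimeCore_normal (G := ↥A ⧸ L.subgroupOf A) 2)]
          exact Subgroup.mem_top g)
    have hZnormal : Z.Normal := by
      rw [← Subgroup.normalizer_eq_top_iff, eq_top_iff]
      intro g _
      exact hZn g (Set.mem_univ g)
    refine ⟨pre A L Z, hlt Z hZ0, pre_le Z, le_normalizer_pre Z, ?_, ?_⟩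
    · rw [relIndex_pre hLA]
      have h1 : (Nat.card Z).Coprime 2 :=
        Nat.Coprime.coprime_dvd_left (Subgroup.card_dvd_of_le hZO) (pPrimeCore_card_coprime 2)
      exact Nat.coprime_two_right.1 h1
    · intro x hx y hy
      obtain ⟨hxA, hx'⟩ := mem_pre.1 hx
      obtain ⟨hyA, hy'⟩ := mem_pre.1 hy
      have h1 := hZc _ hx' _ hy'
      have h2 : (QuotientGroup.mk' (L.subgroupOf A))
          (⟨x, hxA⟩ * ⟨y, hyA⟩ * ⟨x, hxA⟩⁻¹ * ⟨y, hyA⟩⁻¹) = 1 := by
        rw [map_mul, map_mul, map_mul, map_inv, map_inv, h1]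
        group
      rw [QuotientGroup.mk'_apply, QuotientGroup.eq_one_iff, Subgroup.mem_subgroupOf] at h2
      exact h2

end Cfsg.Agent.Lib.Helper71_ROStruct
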