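import Mathlib
import Cfsg.Agent.Lib.Helper15_ROValid
import Cfsg.Agent.Lib.Helper71_ROStruct
import Cfsg.Agent.Lib.Helper71_S3LinB
import Cfsg.Agent.Lib.Helper71_HHBGroup

set_option autoImplicit false

namespace Cfsg.Agent.Lib.Helper71_ROSylow

open Cfsg.Agent.Lib.Helper15_ROValid Cfsg.Agent.Lib.Helper71_ROStruct
open scoped Pointwise

section sylow

variable {X : Type*} [Group X] [Finite X] (p : ℕ) [Fact p.Prime]

/-- a `p`-subgroup is conjugate into a given Sylow `p`-subgroup -/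
theorem exists_conj_mem_sylow {Y : Subgroup X} (hY : IsPGroup p Y) (P : Sylow p X) :
    ∃ x : X, ∀ y ∈ Y, x * y * x⁻¹ ∈ (P : Subgroup X) := by
  obtain ⟨P', hP'⟩ := hY.exists_le_sylow
  obtain ⟨x, hx⟩ := MulAction.exists_smul_eq X P' P
  refine ⟨x, ?_⟩
  intro y hy
  have h1 : y ∈ (P' : Subgroup X) := hP' hy
  have h2 : MulAut.conj x • y ∈ MulAut.conj x • (P' : Subgroup X) :=
    Subgroup.smul_mem_pointwise_smul _ _ _ h1
  rw [← hx, Sylow.coe_subgroup_smul]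
  exact h2

/-- a Sylow `p`-subgroup is conjugate into any subgroup of index prime to `p` -/
theorem exists_conj_mem_of_index (P : Sylow p X) (S : Subgroup X) (hS : ¬ p ∣ S.index) :
    ∃ x : X, ∀ y ∈ (P : Subgroup X), x * y * x⁻¹ ∈ S := by
  obtain ⟨T⟩ : Nonempty (Sylow p S) := inferInstance
  have hTp : IsPGroup p ((T : Subgroup S).map S.subtype) := T.2.map _
  have hTi : ¬ p ∣ ((T : Subgroup S).map S.subtype).index := by
    rw [Subgroup.index_map_subtype]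
    intro h
    rcases (Nat.Prime.dvd_mul (Fact.out : p.Prime)).1 h with h | h
    · exact T.not_dvd_index h
    · exact hS h
  obtain ⟨x, hx⟩ := exists_conj_mem_sylow p P.2 (hTp.toSylow hTi)
  refine ⟨x, ?_⟩
  intro y hy
  have := hx y hy
  obtain ⟨t, _, ht⟩ := this
  rw [← ht]
  exact t.2

end sylow

variable {G : Type*} [Group G] [Finite G]

/-- a `2`-subgroup modulo `L` is conjugate into `Q` -/
theorem exists_conj_le_of_two {A L Q R : Subgroup G} (hv : Valid A L Q) (hRA : R ≤ A)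
    (hLR : L ≤ R) (hR : ∃ k : ℕ, L.relIndex R = 2 ^ k) :
    ∃ a ∈ A, ∀ r ∈ R, a * r * a⁻¹ ∈ Q := by
  classical
  have hLA : L ≤ A := hv.hLQ.trans hv.hQA
  have hN : (L.subgroupOf A).Normal := Subgroup.normal_subgroupOf_of_le_normalizer hv.hn
  have h2prime : Fact (Nat.Prime 2) := ⟨Nat.prime_two⟩
  obtain ⟨Qb, hQb⟩ : ∃ Qb : Subgroup (↥A ⧸ L.subgroupOf A),
      Qb = (Q.subgroupOf A).map (QuotientGroup.mk' (L.subgroupOf A)) := ⟨_, rfl⟩
  obtain ⟨Rb, hRb⟩ : ∃ Rb : Subgroup (↥A ⧸ L.subgroupOf A),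
      Rb = (R.subgroupOf A).map (QuotientGroup.mk' (L.subgroupOf A)) := ⟨_, rfl⟩
  have hpreQ : pre A L Qb = Q := by
    rw [hQb]
    exact pre_map_subgroupOf hv.hLQ hv.hQA
  have hpreR : pre A L Rb = R := by
    rw [hRb]
    exact pre_map_subgroupOf hLR hRA
  have hQbp : IsPGroup 2 Qb := by
    obtain ⟨k, hk⟩ := hv.h2
    exact IsPGroup.of_card (n := k) (by rw [← relIndex_pre hLA Qb, hpreQ, hk])
  have hRbp : IsPGroup 2 Rb := by
    obtain ⟨k, hk⟩ := hR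
    exact IsPGroup.of_card (n := k) (by rw [← relIndex_pre hLA Rb, hpreR, hk])
  have hQbindex : Qb.index = Q.relIndex A := by
    have h1 : (Qb.comap (QuotientGroup.mk' (L.subgroupOf A))).index = Qb.index :=
      Subgroup.index_comap_of_surjective Qb (QuotientGroup.mk'_surjective _)
    rw [← h1, hQb, Subgroup.comap_map_eq_self]
    · rfl
    · rw [QuotientGroup.ker_mk']
      intro x hx
      rw [Subgroup.mem_subgroupOf] at hx ⊢
      exact hv.hLQ hx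
  have hQbnd : ¬ 2 ∣ Qb.index := by
    rw [hQbindex]
    exact hv.hodd.not_two_dvd_nat
  obtain ⟨x, hx⟩ := exists_conj_mem_sylow 2 hRbp (hQbp.toSylow hQbnd)
  obtain ⟨a, rfl⟩ := QuotientGroup.mk'_surjective (L.subgroupOf A) x
  refine ⟨a, a.2, ?_⟩
  intro r hr
  have hrA : r ∈ A := hRA hr
  have h1 : (QuotientGroup.mk' (L.subgroupOf A)) ⟨r, hrA⟩ ∈ Rb := by
    rw [hRb]
    exact ⟨⟨r, hrA⟩, Subgroup.mem_subgroupOf.2 hr, rfl⟩
  have h2 := hx _ h1
  rw [← hpreQ, mem_pre]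
  refine ⟨A.mul_mem (A.mul_mem a.2 hrA) (A.inv_mem a.2), ?_⟩
  have e : (⟨(a : G) * r * (a : G)⁻¹, A.mul_mem (A.mul_mem a.2 hrA) (A.inv_mem a.2)⟩ : A) =
      a * ⟨r, hrA⟩ * a⁻¹ := rfl
  rw [e, map_mul, map_mul, map_inv]
  exact h2

theorem exists_conj_le {A L Q S : Subgroup G} (hv : Valid A L Q) (hSA : S ≤ A) (hLS : L ≤ S)
    (hodd : Odd (S.relIndex A)) : ∃ a ∈ A, ∀ q ∈ Q, a * q * a⁻¹ ∈ S := by
  classical
  have hLA : L ≤ A := hv.hLQ.trans hv.hQA
  have hN : (L.subgroupOf A).Normal := Subgroup.normal_subgroupOf_of_le_normalizer hv.hn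
  have h2prime : Fact (Nat.Prime 2) := ⟨Nat.prime_two⟩
  obtain ⟨Qb, hQb⟩ : ∃ Qb : Subgroup (↥A ⧸ L.subgroupOf A),
      Qb = (Q.subgroupOf A).map (QuotientGroup.mk' (L.subgroupOf A)) := ⟨_, rfl⟩
  obtain ⟨Sb, hSb⟩ : ∃ Sb : Subgroup (↥A ⧸ L.subgroupOf A),
      Sb = (S.subgroupOf A).map (QuotientGroup.mk' (L.subgroupOf A)) := ⟨_, rfl⟩
  have hpreQ : pre A L Qb = Q := by
    rw [hQb]
    exact pre_map_subgroupOf hv.hLQ hv.hQA
  have hpreS : pre A L Sb = S := by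
    rw [hSb]
    exact pre_map_subgroupOf hLS hSA
  have hQbp : IsPGroup 2 Qb := by
    obtain ⟨k, hk⟩ := hv.h2
    exact IsPGroup.of_card (n := k) (by rw [← relIndex_pre hLA Qb, hpreQ, hk])
  have hindex : ∀ (T : Subgroup G) (hLT : L ≤ T),
      ((T.subgroupOf A).map (QuotientGroup.mk' (L.subgroupOf A))).index = T.relIndex A := by
    intro T hLT
    have h1 := Subgroup.index_comap_of_surjective
      ((T.subgroupOf A).map (QuotientGroup.mk' (L.subgroupOf A)))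
      (QuotientGroup.mk'_surjective (L.subgroupOf A))
    rw [← h1, Subgroup.comap_map_eq_self]
    · rfl
    · rw [QuotientGroup.ker_mk']
      intro x hx
      rw [Subgroup.mem_subgroupOf] at hx ⊢
      exact hLT hx
  have hQbnd : ¬ 2 ∣ Qb.index := by
    rw [hQb, hindex Q hv.hLQ]
    exact hv.hodd.not_two_dvd_nat
  have hSbnd : ¬ 2 ∣ Sb.index := by
    rw [hSb, hindex S hLS]
    exact hodd.not_two_dvd_nat
  obtain ⟨x, hx⟩ := exists_conj_mem_of_index 2 (hQbp.toSylow hQbnd) Sb hSbnd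
  obtain ⟨a, rfl⟩ := QuotientGroup.mk'_surjective (L.subgroupOf A) x
  refine ⟨a, a.2, ?_⟩
  intro q hq
  have hqA : q ∈ A := hv.hQA hq
  have h1 : (QuotientGroup.mk' (L.subgroupOf A)) ⟨q, hqA⟩ ∈ Qb := by
    rw [hQb]
    exact ⟨⟨q, hqA⟩, Subgroup.mem_subgroupOf.2 hq, rfl⟩
  have h2 := hx _ h1
  rw [← hpreS, mem_pre]
  refine ⟨A.mul_mem (A.mul_mem a.2 hqA) (A.inv_mem a.2), ?_⟩
  have e : (⟨(a : G) * q * (a : G)⁻¹, A.mul_mem (A.mul_mem a.2 hqA) (A.inv_mem a.2)⟩ : A) =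
      a * ⟨q, hqA⟩ * a⁻¹ := rfl
  rw [e, map_mul, map_mul, map_inv]
  exact h2

theorem exists_mem_normalizer {A L Q S : Subgroup G} (hv : Valid A L Q) (hSA : S ≤ A)
    (hQS : Q ≤ S) {a : G} (ha : a ∈ A) (h : ∀ q ∈ Q, a * q * a⁻¹ ∈ S) :
    ∃ s ∈ S, s⁻¹ * a ∈ Subgroup.normalizer (Q : Set G) := by
  classical
  have hmul : Q.relIndex S * S.relIndex A = Q.relIndex A :=
    Subgroup.relIndex_mul_relIndex Q S A hQS hSA
  have hvS : Valid S L Q :=
    { hLQ := hv.hLQ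
      hQA := hQS
      hn := hSA.trans hv.hn
      h2 := hv.h2
      hodd := by
        have := hv.hodd
        rw [← hmul] at this
        exact (Nat.odd_mul.1 this).1 }
  have haL : a ∈ Subgroup.normalizer (L : Set G) := hv.hn ha
  obtain ⟨R, hR⟩ : ∃ R : Subgroup G, R = Q.map (MulAut.conj a).toMonoidHom := ⟨_, rfl⟩
  have hmemR : ∀ x, x ∈ R ↔ ∃ q ∈ Q, a * q * a⁻¹ = x := by
    intro x
    rw [hR]
    rfl
  have hRS : R ≤ S := by
    intro x hx
    obtain ⟨q, hq, rfl⟩ := (hmemR x).1 hx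
    exact h q hq
  have hLmap : L.map (MulAut.conj a).toMonoidHom = L := by
    ext x
    constructor
    · rintro ⟨y, hy, rfl⟩
      exact Cfsg.Agent.Lib.Helper71_S3LinB.conj_mem_of_mem_normalizer haL hy
    · intro hx
      refine ⟨a⁻¹ * x * a, Cfsg.Agent.Lib.Helper71_S3LinB.inv_conj_mem_of_mem_normalizer haL hx, ?_⟩
      show a * (a⁻¹ * x * a) * a⁻¹ = x
      group
  have hLR : L ≤ R := by
    rw [hR, ← hLmap]
    exact Subgroup.map_mono hv.hLQ
  have hRidx : ∃ k : ℕ, L.relIndex R = 2 ^ k := by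
    obtain ⟨k, hk⟩ := hv.h2
    refine ⟨k, ?_⟩
    rw [← hk, hR]
    conv_lhs => rw [← hLmap]
    exact Subgroup.relIndex_map_map_of_injective L Q (MulAut.conj a).injective
  obtain ⟨s', hs', hs'R⟩ := exists_conj_le_of_two hvS hRS hLR hRidx
  refine ⟨s'⁻¹, S.inv_mem hs', ?_⟩
  rw [inv_inv]
  have key : ∀ q ∈ Q, (s' * a) * q * (s' * a)⁻¹ ∈ Q := by
    intro q hq
    have h1 : a * q * a⁻¹ ∈ R := (hmemR _).2 ⟨q, hq, rfl⟩
    have h2 := hs'R _ h1
    have e : (s' * a) * q * (s' * a)⁻¹ = s' * (a * q * a⁻¹) * s'⁻¹ := by group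
    rw [e]
    exact h2
  exact Cfsg.Agent.Lib.Helper71_S3LinB.mem_normalizer_of_forall key
    (Cfsg.Agent.Lib.Helper71_HHBGroup.inv_conj_mem_of_finite Q (s' * a) key)

end Cfsg.Agent.Lib.Helper71_ROSylow
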