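import Cfsg.Agent.Lib.Helper15_ROChar

/-!
# S4581-P4 (helper15): characters of `K ⊔ B` trivial on `K` versus characters of `B` trivial on
`K ⊓ B`, when `B` normalizes `K`.
-/

set_option autoImplicit false
set_option linter.unusedSectionVars false

namespace Cfsg.Agent.Lib.Helper75_ROSupp

open Cfsg
open Cfsg.Agent.Lib.Helper15_ROBasic Cfsg.Agent.Lib.Helper15_ROChar
  Cfsg.Agent.Lib.Helper75_RelGlaubQuot

universe u

variable {G : Type u} [Group G] [Finite G]

/-- characters trivial on `L`, real of odd degree, correspond to the real odd-degree characters of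
a quotient with kernel `L` -/
theorem card_RO_eq_of_surj {A L : Subgroup G} {D : Type u} [Group D] [Finite D] (f : A →* D)
    (hf : Function.Surjective f) (hker : ∀ a : A, f a = 1 ↔ (a : G) ∈ L) :
    Nat.card (RO A L) =
      Nat.card {δ : IrrCharacter D // IsRealF (δ : D → ℂ) ∧ Odd (charDegree (δ : D → ℂ))} := by
  classical
  have : Fintype A := Fintype.ofFinite A
  have : Fintype D := Fintype.ofFinite D
  symm
  refine Nat.card_congr (Equiv.ofBijective
    (fun δ => (⟨infl f hf δ.1, ?_, ?_, ?_⟩ : RO A L)) ⟨?_, ?_⟩)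
  · intro a
    rw [infl_apply]
    exact δ.2.1 (f a)
  · have h1 : charDegree (infl f hf δ.1 : A → ℂ) = charDegree (δ.1 : D → ℂ) := by
      unfold charDegree
      rw [infl_apply, map_one]
    rw [h1]
    exact δ.2.2
  · intro a ha
    exact infl_trivial f hf δ.1 a ((hker a).2 ha)
  · intro δ δ' h
    apply Subtype.ext
    apply infl_injective f hf
    exact congrArg (fun x : RO A L => x.1) h
  · intro χ
    obtain ⟨δ, hδ⟩ := exists_infl f hf χ.1 (fun c hc => χ.2.2.2 c ((hker c).1 hc))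
    have hreal : IsRealF (δ : D → ℂ) := by
      intro d
      obtain ⟨a, rfl⟩ := hf d
      have := χ.2.1 a
      rw [hδ, infl_apply] at this
      exact this
    have hodd : Odd (charDegree (δ : D → ℂ)) := by
      have h1 : charDegree (χ.1 : A → ℂ) = charDegree (δ : D → ℂ) := by
        unfold charDegree
        rw [hδ, infl_apply, map_one]
      rw [← h1]
      exact χ.2.2.1
    refine ⟨⟨δ, hreal, hodd⟩, ?_⟩
    apply Subtype.ext
    exact hδ.symm

variable {K B : Subgroup G}

theorem sup_le_normalizer (hn : B ≤ Subgroup.normalizer (K : Set G)) :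
    K ⊔ B ≤ Subgroup.normalizer (K : Set G) :=
  sup_le Subgroup.le_normalizer hn

/-- the map `B → (K ⊔ B) / K` -/
noncomputable def toQuot (hn : B ≤ Subgroup.normalizer (K : Set G))
    [hN : (K.subgroupOf (K ⊔ B)).Normal] : ↥B →* ↥(K ⊔ B) ⧸ K.subgroupOf (K ⊔ B) :=
  (QuotientGroup.mk' (K.subgroupOf (K ⊔ B))).comp (Subgroup.inclusion le_sup_right)

theorem toQuot_surjective (hn : B ≤ Subgroup.normalizer (K : Set G))
    [hN : (K.subgroupOf (K ⊔ B)).Normal] : Function.Surjective (toQuot hn) := by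
  intro d
  induction d using QuotientGroup.induction_on with
  | H a =>
    have ha : (a : G) ∈ ((K ⊔ B : Subgroup G) : Set G) := a.2
    rw [Subgroup.coe_mul_of_right_le_normalizer_left K B hn] at ha
    obtain ⟨k, hk, b, hb, hkb⟩ := ha
    have hkb' : k * b = (a : G) := hkb
    refine ⟨⟨b, hb⟩, ?_⟩
    unfold toQuot
    rw [MonoidHom.comp_apply, QuotientGroup.mk'_apply, QuotientGroup.eq, Subgroup.mem_subgroupOf]
    have : (((Subgroup.inclusion (le_sup_right : B ≤ K ⊔ B) ⟨b, hb⟩)⁻¹ * a : ↥(K ⊔ B)) : G) =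
        b⁻¹ * (k * b) := by
      rw [hkb']
      rfl
    rw [this]
    have hbn : b⁻¹ ∈ Subgroup.normalizer (K : Set G) := Subgroup.inv_mem _ (hn hb)
    have := (Subgroup.mem_normalizer_iff.1 hbn k).1 hk
    rw [inv_inv] at this
    rw [← mul_assoc]
    exact this

theorem toQuot_eq_one_iff (hn : B ≤ Subgroup.normalizer (K : Set G))
    [hN : (K.subgroupOf (K ⊔ B)).Normal] (b : B) : toQuot hn b = 1 ↔ (b : G) ∈ K ⊓ B := by
  unfold toQuot
  rw [MonoidHom.comp_apply, QuotientGroup.mk'_apply, QuotientGroup.eq_one_iff,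
    Subgroup.mem_subgroupOf, Subgroup.mem_inf]
  constructor
  · intro h
    exact ⟨h, b.2⟩
  · intro h
    exact h.1

theorem mk_eq_one_iff [hN : (K.subgroupOf (K ⊔ B)).Normal] (a : ↥(K ⊔ B)) :
    QuotientGroup.mk' (K.subgroupOf (K ⊔ B)) a = 1 ↔ (a : G) ∈ K := by
  rw [QuotientGroup.mk'_apply, QuotientGroup.eq_one_iff, Subgroup.mem_subgroupOf]

/-- **S4581-P4, first part.** -/
theorem supp_ext (hn : B ≤ Subgroup.normalizer (K : Set G)) (η : IrrCharacter ↥B)
    (ht : TrivOn (K ⊓ B) (η : ↥B → ℂ)) :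
    ∃ χ : IrrCharacter ↥(K ⊔ B), TrivOn K (χ : ↥(K ⊔ B) → ℂ) ∧
      rs le_sup_right (χ : ↥(K ⊔ B) → ℂ) = (η : ↥B → ℂ) := by
  classical
  haveI hN : (K.subgroupOf (K ⊔ B)).Normal := normal_sub le_sup_left (sup_le_normalizer hn)
  have : Fintype ↥B := Fintype.ofFinite _
  have : Fintype ↥(K ⊔ B) := Fintype.ofFinite _
  have : Fintype (↥(K ⊔ B) ⧸ K.subgroupOf (K ⊔ B)) := Fintype.ofFinite _
  obtain ⟨δ, hδ⟩ := exists_infl (toQuot hn) (toQuot_surjective hn) η
    (fun c hc => ht c ((toQuot_eq_one_iff hn c).1 hc))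
  refine ⟨infl (QuotientGroup.mk' (K.subgroupOf (K ⊔ B))) (QuotientGroup.mk'_surjective _) δ,
    ?_, ?_⟩
  · intro a ha
    exact infl_trivial _ _ δ a ((mk_eq_one_iff a).2 ha)
  · funext b
    rw [rs_apply, infl_apply, hδ, infl_apply]
    rfl

/-- **S4581-P4, second part.** -/
theorem supp_card (hn : B ≤ Subgroup.normalizer (K : Set G)) :
    Nat.card (RO (K ⊔ B) K) = Nat.card (RO B (K ⊓ B)) := by
  haveI hN : (K.subgroupOf (K ⊔ B)).Normal := normal_sub le_sup_left (sup_le_normalizer hn)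
  rw [card_RO_eq_of_surj (QuotientGroup.mk' (K.subgroupOf (K ⊔ B)))
      (QuotientGroup.mk'_surjective _) (fun a => mk_eq_one_iff a),
    card_RO_eq_of_surj (toQuot hn) (toQuot_surjective hn) (fun b => toQuot_eq_one_iff hn b)]

end Cfsg.Agent.Lib.Helper75_ROSupp
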