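import Cfsg.Agent.Lib.Helper15_ROCliff
import Cfsg.Agent.Lib.Helper15_ROValid
import Cfsg.Agent.Lib.Helper71_ROStruct
import Cfsg.Agent.Lib.Helper71_ROSylow
import Cfsg.Agent.Lib.Helper21_ROReal
import Cfsg.Agent.Lib.Helper75_ROSupp
import Cfsg.Agent.Lib.Helper13_ROLin

/-!
# Real odd-degree characters: valid triples and glue lemmas (helper15)
-/

set_option autoImplicit false
set_option linter.unusedSectionVars false
set_option linter.unusedVariables false

namespace Cfsg.Agent.Lib.Helper15_ROGlue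

open Cfsg
open scoped ComplexConjugate
open Cfsg.Agent.Lib.Helper75_Induced Cfsg.Agent.Lib.Helper75_Clifford
  Cfsg.Agent.Lib.Helper75_CharArith Cfsg.Agent.Lib.Helper3_CharBridge
  Cfsg.Agent.Lib.Helper3_CharOrtho Cfsg.Agent.Lib.Helper15_ROBasic
  Cfsg.Agent.Lib.Helper75_LinChar Cfsg.Agent.Lib.Helper15_ROChar
  Cfsg.Agent.Lib.Helper15_ROCliff Cfsg.Agent.Lib.Helper15_ROValid
  Cfsg.Agent.Lib.Helper71_ROStruct
  Cfsg.Agent.Lib.Helper71_ROSylow Cfsg.Agent.Lib.Helper21_ROReal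
  Cfsg.Agent.Lib.Helper75_ROSupp Cfsg.Agent.Lib.Helper13_ROLin

universe u

variable {G : Type u} [Group G] [Finite G]

/-! ### indices -/

theorem relIndex_pos' (H K : Subgroup G) : 0 < H.relIndex K := by
  unfold Subgroup.relIndex
  exact Nat.pos_of_ne_zero Subgroup.index_ne_zero_of_finite

theorem relIndex_lt {L K A : Subgroup G} (hLK : L < K) (hKA : K ≤ A) :
    K.relIndex A < L.relIndex A := by
  have h1 := Subgroup.relIndex_mul_relIndex L K A hLK.le hKA
  have h2 : L.relIndex K ≠ 1 := fun h => (not_le_of_gt hLK) (Subgroup.relIndex_eq_one.mp h)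
  have h3 := relIndex_pos' L K
  have h4 := relIndex_pos' K A
  have h5 : 2 ≤ L.relIndex K := by omega
  nlinarith

theorem relIndex_le_of_le {V T A : Subgroup G} (hVT : V ≤ T) (hTA : T ≤ A) :
    V.relIndex T ≤ V.relIndex A := by
  have h1 := Subgroup.relIndex_mul_relIndex V T A hVT hTA
  have h4 := relIndex_pos' T A
  nlinarith

theorem pow_two_of_dvd {a k : ℕ} (h : a ∣ 2 ^ k) : ∃ j, a = 2 ^ j := by
  obtain ⟨j, _, hj⟩ := (Nat.dvd_prime_pow Nat.prime_two).mp h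
  exact ⟨j, hj⟩

theorem eq_one_of_odd_of_dvd_pow {a k : ℕ} (ho : Odd a) (h : a ∣ 2 ^ k) : a = 1 := by
  obtain ⟨j, rfl⟩ := pow_two_of_dvd h
  rcases Nat.eq_zero_or_pos j with h0 | h0
  · rw [h0]; rfl
  · exfalso
    rw [← Nat.not_even_iff_odd] at ho
    exact ho (Nat.even_pow.mpr ⟨even_two, h0.ne'⟩)

theorem odd_of_mul_odd_left {a b : ℕ} (h : Odd (a * b)) : Odd a := (Nat.odd_mul.mp h).1
theorem odd_of_mul_odd_right {a b : ℕ} (h : Odd (a * b)) : Odd b := (Nat.odd_mul.mp h).2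

/-! ### valid triples -/

theorem valid_hLA {A L Q : Subgroup G} (hv : Valid A L Q) : L ≤ A := hv.hLQ.trans hv.hQA

theorem valid_up {A L Q M : Subgroup G} (hv : Valid A L Q) (hLM : L ≤ M) (hMQ : M ≤ Q)
    (hnM : A ≤ Subgroup.normalizer (M : Set G)) : Valid A M Q := by
  refine ⟨hMQ, hv.hQA, hnM, ?_, hv.hodd⟩
  obtain ⟨k, hk⟩ := hv.h2
  have h1 := Subgroup.relIndex_mul_relIndex L M Q hLM hMQ
  exact pow_two_of_dvd (k := k) (by rw [← hk, ← h1]; exact Dvd.intro_left _ rfl)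

theorem valid_sub {A L Q T V : Subgroup G} (hv : Valid A L Q) (hQT : Q ≤ T) (hTA : T ≤ A)
    (hLV : L ≤ V) (hVQ : V ≤ Q) (hnV : T ≤ Subgroup.normalizer (V : Set G)) :
    Valid T V Q := by
  refine ⟨hVQ, hQT, hnV, ?_, ?_⟩
  · obtain ⟨k, hk⟩ := hv.h2
    have h1 := Subgroup.relIndex_mul_relIndex L V Q hLV hVQ
    exact pow_two_of_dvd (k := k) (by rw [← hk, ← h1]; exact Dvd.intro_left _ rfl)
  · have h1 := Subgroup.relIndex_mul_relIndex Q T A hQT hTA
    have h2 := hv.hodd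
    rw [← h1] at h2
    exact odd_of_mul_odd_left h2

theorem relIndex_sup_eq {Q K : Subgroup G} (hn : Q ≤ Subgroup.normalizer (K : Set G)) :
    K.relIndex (K ⊔ Q) = K.relIndex Q := by
  haveI := Subgroup.normal_subgroupOf_of_le_normalizer hn
  haveI := Subgroup.normal_subgroupOf_sup_of_le_normalizer hn
  have e := QuotientGroup.quotientInfEquivProdNormalizerQuotient Q K hn
  have h1 := Nat.card_congr e.toEquiv
  rw [sup_comm]
  unfold Subgroup.relIndex
  rw [Subgroup.index_eq_card, Subgroup.index_eq_card]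
  exact h1.symm

theorem inf_eq_of_odd {A L Q K : Subgroup G} (hv : Valid A L Q) (hLK : L ≤ K)
    (hodd : Odd (L.relIndex K)) : K ⊓ Q = L := by
  apply le_antisymm _ (le_inf hLK hv.hLQ)
  have h1 := Subgroup.relIndex_mul_relIndex L (K ⊓ Q) K (le_inf hLK hv.hLQ) inf_le_left
  have h2 := Subgroup.relIndex_mul_relIndex L (K ⊓ Q) Q (le_inf hLK hv.hLQ) inf_le_right
  obtain ⟨k, hk⟩ := hv.h2
  have h3 : Odd (L.relIndex (K ⊓ Q)) := by
    rw [← h1] at hodd
    exact odd_of_mul_odd_left hodd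
  have h4 : L.relIndex (K ⊓ Q) ∣ 2 ^ k := by
    rw [← hk, ← h2]
    exact Dvd.intro _ rfl
  exact Subgroup.relIndex_eq_one.mp (eq_one_of_odd_of_dvd_pow h3 h4)

theorem valid_oddUp {A L Q K : Subgroup G} (hv : Valid A L Q) (hLK : L ≤ K) (hKA : K ≤ A)
    (hnK : A ≤ Subgroup.normalizer (K : Set G)) (hodd : Odd (L.relIndex K)) :
    Valid A K (K ⊔ Q) := by
  refine ⟨le_sup_left, sup_le hKA hv.hQA, hnK, ?_, ?_⟩
  · rw [relIndex_sup_eq (hv.hQA.trans hnK), ← Subgroup.inf_relIndex_right,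
      inf_eq_of_odd hv hLK hodd]
    exact hv.h2
  · have h1 := Subgroup.relIndex_mul_relIndex Q (K ⊔ Q) A le_sup_right (sup_le hKA hv.hQA)
    have h2 := hv.hodd
    rw [← h1] at h2
    exact odd_of_mul_odd_right h2

theorem valid_normalizer {A L Q : Subgroup G} (hv : Valid A L Q) :
    Valid (A ⊓ Subgroup.normalizer (Q : Set G)) L Q :=
  valid_sub hv (le_inf hv.hQA Subgroup.le_normalizer) inf_le_left le_rfl hv.hLQ
    (inf_le_left.trans hv.hn)

/-! ### normalizers -/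

omit [Finite G] in
theorem mem_normalizer_iff_cjS {a : G} {S : Subgroup G} :
    a ∈ Subgroup.normalizer (S : Set G) ↔ cjS a S = S := by
  constructor
  · exact cjS_of_mem_normalizer
  · intro h
    rw [Subgroup.mem_normalizer_iff]
    intro x
    have h1 : a * x * a⁻¹ ∈ cjS a S ↔ x ∈ S := by
      rw [mem_cjS]
      have e : a⁻¹ * (a * x * a⁻¹) * a = x := by group
      rw [e]
    rw [h] at h1
    exact h1.symm

omit [Finite G] in
theorem mem_normalizer_sup {a : G} {S S' : Subgroup G}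
    (h1 : a ∈ Subgroup.normalizer (S : Set G)) (h2 : a ∈ Subgroup.normalizer (S' : Set G)) :
    a ∈ Subgroup.normalizer ((S ⊔ S' : Subgroup G) : Set G) := by
  rw [mem_normalizer_iff_cjS] at h1 h2 ⊢
  unfold cjS at h1 h2 ⊢
  rw [Subgroup.map_sup, h1, h2]

omit [Finite G] in
theorem exists_mul_of_mem_sup {Q K : Subgroup G} (hn : Q ≤ Subgroup.normalizer (K : Set G))
    {x : G} (hx : x ∈ K ⊔ Q) : ∃ k ∈ K, ∃ q ∈ Q, x = k * q := by
  have h1 : (x : G) ∈ ((K ⊔ Q : Subgroup G) : Set G) := hx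
  rw [Subgroup.coe_mul_of_right_le_normalizer_left K Q hn] at h1
  obtain ⟨k, hk, q, hq, rfl⟩ := Set.mem_mul.mp h1
  exact ⟨k, hk, q, hq, rfl⟩

/-- Frattini argument -/
theorem frattini {A L Q K : Subgroup G} (hv : Valid A L Q) (hKA : K ≤ A) :
    A ⊓ Subgroup.normalizer ((K ⊔ Q : Subgroup G) : Set G) ≤
      K ⊔ (A ⊓ Subgroup.normalizer (Q : Set G)) := by
  intro a ha
  obtain ⟨haA, haN⟩ := Subgroup.mem_inf.mp ha
  have h1 : ∀ q ∈ Q, a * q * a⁻¹ ∈ K ⊔ Q := fun q hq =>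
    conj_mem_of_mem_normalizer haN (Subgroup.mem_sup_right hq)
  obtain ⟨s, hs, hsn⟩ := exists_mem_normalizer hv (sup_le hKA hv.hQA) le_sup_right haA h1
  have hsA : s ∈ A := (sup_le hKA hv.hQA) hs
  have h2 : s⁻¹ * a ∈ A ⊓ Subgroup.normalizer (Q : Set G) :=
    Subgroup.mem_inf.mpr ⟨A.mul_mem (A.inv_mem hsA) haA, hsn⟩
  have h3 : K ⊔ Q ≤ K ⊔ (A ⊓ Subgroup.normalizer (Q : Set G)) :=
    sup_le le_sup_left (le_sup_of_le_right (le_inf hv.hQA Subgroup.le_normalizer))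
  have e : a = s * (s⁻¹ * a) := by group
  rw [e]
  exact Subgroup.mul_mem _ (h3 hs) (Subgroup.mem_sup_right h2)

/-! ### killing odd sections -/

theorem x1 {A L K : Subgroup G} (hLK : L ≤ K) (hKA : K ≤ A)
    (hnL : A ≤ Subgroup.normalizer (L : Set G)) (hnK : A ≤ Subgroup.normalizer (K : Set G))
    (hodd : Odd (L.relIndex K)) (χ : IrrCharacter A) (hr : IsRealF (χ : A → ℂ))
    (hd : Odd (charDegree (χ : A → ℂ))) (ht : TrivOn L (χ : A → ℂ)) :
    TrivOn K (χ : A → ℂ) := by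
  have : Fintype A := Fintype.ofFinite A
  have := normal_sub (hLK.trans hKA) hnL
  have := normal_sub hKA hnK
  have h1 := odd_kill (L.subgroupOf A) (K.subgroupOf A) (sub_le hLK)
    (by rw [Subgroup.relIndex_subgroupOf hKA]; exact hodd) χ hr hd
    (fun x hx => ht x (Subgroup.mem_subgroupOf.mp hx))
  intro a ha
  exact h1 a (Subgroup.mem_subgroupOf.mpr ha)

theorem exists_real_constituent_amb {A M : Subgroup G} (hMA : M ≤ A)
    (hnM : A ≤ Subgroup.normalizer (M : Set G)) (χ : IrrCharacter A)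
    (hr : IsRealF (χ : A → ℂ)) (hd : Odd (charDegree (χ : A → ℂ))) :
    ∃ θ : IrrCharacter M, IsRealF (θ : M → ℂ) ∧ Ov hMA (χ : A → ℂ) (θ : M → ℂ) := by
  have : Fintype A := Fintype.ofFinite A
  have : Fintype (M.subgroupOf A) := Fintype.ofFinite _
  have := normal_sub hMA hnM
  obtain ⟨θ, hθr, hθ⟩ := exists_real_constituent (M.subgroupOf A) χ hr hd
  refine ⟨⟨dn hMA (θ : M.subgroupOf A → ℂ), isIrr_dn hMA θ.2⟩, fun m => hθr _, ?_⟩
  rw [ov_iff, up_dn]
  exact hθ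

end Cfsg.Agent.Lib.Helper15_ROGlue
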