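import Cfsg.Agent.Lib.Helper15_ROMainE

set_option autoImplicit false
set_option linter.unusedSectionVars false
set_option linter.unusedVariables false

namespace Cfsg.Agent.Lib.Helper15_ROSgn

open Cfsg
open scoped ComplexConjugate
open Cfsg.Agent.Lib.Helper75_Induced Cfsg.Agent.Lib.Helper75_Clifford
  Cfsg.Agent.Lib.Helper75_CharArith Cfsg.Agent.Lib.Helper3_CharBridge
  Cfsg.Agent.Lib.Helper3_CharOrtho Cfsg.Agent.Lib.Helper15_ROBasic
  Cfsg.Agent.Lib.Helper75_LinChar Cfsg.Agent.Lib.Helper15_ROChar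
  Cfsg.Agent.Lib.Helper15_ROCliff Cfsg.Agent.Lib.Helper15_ROValid
  Cfsg.Agent.Lib.Helper71_ROSylow Cfsg.Agent.Lib.Helper15_ROGlue
  Cfsg.Agent.Lib.Helper15_ROMainD Cfsg.Agent.Lib.Helper15_ROMainE

universe u

variable {G : Type u} [Group G] [Finite G]

theorem exists_inv_sgn {A L Q M : Subgroup G} (hv : Valid A L Q) (hLM : L ≤ M) (hMQ : M ≤ Q)
    (hnM : A ≤ Subgroup.normalizer (M : Set G)) (χ : IrrCharacter ↥A)
    (hr : IsRealF (χ : ↥A → ℂ)) (hd : Odd (charDegree (χ : ↥A → ℂ)))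
    (ht : TrivOn L (χ : ↥A → ℂ)) (hM : ¬ TrivOn M (χ : ↥A → ℂ)) :
    ∃ V : Subgroup G, L ≤ V ∧ V ≤ M ∧ V.relIndex M = 2 ∧
      Q ≤ Subgroup.normalizer (V : Set G) ∧
      Ov (hMQ.trans hv.hQA) (χ : ↥A → ℂ) (sgn V M) := by
  have hMA := hMQ.trans hv.hQA
  have hχc := isCharacter_of_isIrrCharacter χ.2
  obtain ⟨θ, hθr, hθ⟩ := exists_real_constituent_amb hMA hnM χ hr hd
  obtain ⟨e, he⟩ := clifford_deg hMA hnM χ θ hθ
  have hθd : Odd (charDegree (θ : M → ℂ)) := by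
    rw [he] at hd
    exact odd_of_mul_odd_right (odd_of_mul_odd_right hd)
  have hθL : TrivOn L (θ : M → ℂ) :=
    trivOn_constituent (isCharacter_rs hMA hχc) (ht.rs hMA) θ hθ
  have h2M : ∃ k : ℕ, L.relIndex M = 2 ^ k := by
    obtain ⟨k, hk⟩ := hv.h2
    have h1 := Subgroup.relIndex_mul_relIndex L M Q hLM hMQ
    exact pow_two_of_dvd (k := k) (by rw [← hk, ← h1]; exact Dvd.intro _ rfl)
  have hθ1 := lin_of_odd_two hLM (hMA.trans hv.hn) h2M θ hθd hθL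
  rcases real_lin_eq θ hθ1 hθr with h1 | ⟨V₀, hV₀M, hV₀2, hV₀e, hV₀k⟩
  · exfalso
    apply hM
    apply trivOn_of_ov_one hMA hnM χ
    rw [← h1]
    exact hθ
  · have hLV₀ : L ≤ V₀ := by
      intro l hl
      apply hV₀k ⟨l, hLM hl⟩
      rw [hθL ⟨l, hLM hl⟩ hl, hθ1]
    have hS : stb A M (θ : M → ℂ) = A ⊓ Subgroup.normalizer (V₀ : Set G) := by
      rw [hV₀e]
      exact stb_sgn hnM hV₀M
    have hoddS : Odd ((A ⊓ Subgroup.normalizer (V₀ : Set G)).relIndex A) := by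
      rw [← hS]
      rw [he] at hd
      exact odd_of_mul_odd_left (odd_of_mul_odd_right hd)
    have hLS : L ≤ A ⊓ Subgroup.normalizer (V₀ : Set G) :=
      le_inf (valid_hLA hv) (hLV₀.trans Subgroup.le_normalizer)
    obtain ⟨a, ha, haQ⟩ := exists_conj_le hv inf_le_left hLS hoddS
    have haN := hnM ha
    have haN' := Subgroup.inv_mem _ haN
    refine ⟨cjS a⁻¹ V₀, le_cjS (Subgroup.inv_mem _ (hv.hn ha)) hLV₀, cjS_le haN' hV₀M, ?_, ?_, ?_⟩
    · rw [relIndex_cjS haN']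
      exact hV₀2
    · intro q hq
      rw [mem_normalizer_cjS, inv_inv]
      exact (Subgroup.mem_inf.mp (haQ q hq)).2
    · rw [sgn_cjS haN, ← hV₀e]
      exact (ov_cj hMA hnM (isClassFunction_of_isIrrCharacter χ.2) _ ha).mpr hθ

end Cfsg.Agent.Lib.Helper15_ROSgn
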