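import Cfsg.Agent.Lib.Helper15_ROMainE
import Cfsg.Agent.Lib.Helper15_ROSgn

/-!
# Real odd-degree characters: the count (helper15)

Claim B: `A` and `N_A(Q)` have the same number of real odd-degree irreducible characters trivial
on `L`.
-/

set_option autoImplicit false
set_option linter.unusedSectionVars false
set_option linter.unusedVariables false

namespace Cfsg.Agent.Lib.Helper15_ROMainB

open Cfsg
open scoped ComplexConjugate
open Cfsg.Agent.Lib.Helper75_Induced Cfsg.Agent.Lib.Helper75_Clifford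
  Cfsg.Agent.Lib.Helper75_CharArith Cfsg.Agent.Lib.Helper3_CharBridge
  Cfsg.Agent.Lib.Helper3_CharOrtho Cfsg.Agent.Lib.Helper15_ROBasic
  Cfsg.Agent.Lib.Helper75_LinChar Cfsg.Agent.Lib.Helper15_ROChar
  Cfsg.Agent.Lib.Helper15_ROCliff Cfsg.Agent.Lib.Helper15_ROValid
  Cfsg.Agent.Lib.Helper71_ROStruct
  Cfsg.Agent.Lib.Helper71_ROSylow Cfsg.Agent.Lib.Helper21_ROReal
  Cfsg.Agent.Lib.Helper75_ROSupp Cfsg.Agent.Lib.Helper13_ROLin Cfsg.Agent.Lib.Helper15_ROGlue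
  Cfsg.Agent.Lib.Helper15_ROMainD Cfsg.Agent.Lib.Helper15_ROMainE
  Cfsg.Agent.Lib.Helper15_ROSgn

universe u

variable {G : Type u} [Group G] [Finite G]

/-! ### finiteness -/

instance finite_RO (A L : Subgroup G) : Finite (RO A L) := by
  have : Fintype A := Fintype.ofFinite A
  unfold RO
  exact Subtype.finite

/-- real odd-degree characters trivial on `V` but not on `M` -/
def ROm (T V M : Subgroup G) : Type u :=
  {η : IrrCharacter T // IsRealF (η : T → ℂ) ∧ Odd (charDegree (η : T → ℂ)) ∧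
    TrivOn V (η : T → ℂ) ∧ ¬ TrivOn M (η : T → ℂ)}

instance finite_ROm (T V M : Subgroup G) : Finite (ROm T V M) := by
  have : Fintype T := Fintype.ofFinite T
  unfold ROm
  exact Subtype.finite

theorem card_split {T V M : Subgroup G} (hVM : V ≤ M) :
    Nat.card (RO T V) = Nat.card (RO T M) + Nat.card (ROm T V M) := by
  classical
  rw [← Nat.card_sum]
  apply Nat.card_congr
  symm
  refine Equiv.ofBijective (fun x => Sum.elim (fun χ : RO T M => (⟨χ.1, χ.2.1, χ.2.2.1,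
    χ.2.2.2.mono hVM⟩ : RO T V)) (fun η : ROm T V M => (⟨η.1, η.2.1, η.2.2.1, η.2.2.2.1⟩ : RO T V))
    x) ⟨?_, ?_⟩
  · rintro (x | x) (y | y) h
    · have h1 : x.1 = y.1 := congrArg (fun z : RO T V => z.1) h
      exact congrArg Sum.inl (Subtype.ext h1)
    · exfalso
      have h1 : x.1 = y.1 := congrArg (fun z : RO T V => z.1) h
      apply y.2.2.2.2
      rw [← h1]
      exact x.2.2.2
    · exfalso
      have h1 : x.1 = y.1 := congrArg (fun z : RO T V => z.1) h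
      apply x.2.2.2.2
      rw [h1]
      exact y.2.2.2
    · have h1 : x.1 = y.1 := congrArg (fun z : RO T V => z.1) h
      exact congrArg Sum.inr (Subtype.ext h1)
  · intro χ
    by_cases h : TrivOn M (χ.1 : T → ℂ)
    · exact ⟨Sum.inl ⟨χ.1, χ.2.1, χ.2.2.1, h⟩, rfl⟩
    · exact ⟨Sum.inr ⟨χ.1, χ.2.1, χ.2.2.1, χ.2.2.2, h⟩, rfl⟩

theorem card_RO_eq_of_odd {A L K : Subgroup G} (hLK : L ≤ K) (hKA : K ≤ A)
    (hnL : A ≤ Subgroup.normalizer (L : Set G)) (hnK : A ≤ Subgroup.normalizer (K : Set G))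
    (hodd : Odd (L.relIndex K)) : Nat.card (RO A L) = Nat.card (RO A K) := by
  apply Nat.card_congr
  symm
  refine Equiv.ofBijective (fun χ : RO A K => (⟨χ.1, χ.2.1, χ.2.2.1, χ.2.2.2.mono hLK⟩ : RO A L))
    ⟨?_, ?_⟩
  · intro x y h
    have h1 : x.1 = y.1 := congrArg (fun z : RO A L => z.1) h
    exact Subtype.ext h1
  · intro χ
    exact ⟨⟨χ.1, χ.2.1, χ.2.2.1, x1 hLK hKA hnL hnK hodd χ.1 χ.2.1 χ.2.2.1 χ.2.2.2⟩, rfl⟩

/-! ### the invariant subgroups of index two and their classes -/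

/-- the `Q`-invariant subgroups of index `2` in `M` containing `L` -/
def DSet (L M Q : Subgroup G) : Set (Subgroup G) :=
  {V | L ≤ V ∧ V ≤ M ∧ V.relIndex M = 2 ∧ Q ≤ Subgroup.normalizer (V : Set G)}

theorem dset_cjS {A L M Q V : Subgroup G} (hnL : A ≤ Subgroup.normalizer (L : Set G))
    (hnM : A ≤ Subgroup.normalizer (M : Set G)) {b : G}
    (hb : b ∈ A ⊓ Subgroup.normalizer (Q : Set G)) (hV : V ∈ DSet L M Q) :
    cjS b V ∈ DSet L M Q := by
  obtain ⟨hbA, hbQ⟩ := Subgroup.mem_inf.mp hb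
  obtain ⟨h1, h2, h3, h4⟩ := hV
  refine ⟨le_cjS (hnL hbA) h1, cjS_le (hnM hbA) h2, ?_, ?_⟩
  · rw [relIndex_cjS (hnM hbA)]
    exact h3
  · intro q hq
    rw [mem_normalizer_cjS]
    apply h4
    have := conj_mem_of_mem_normalizer (Subgroup.inv_mem _ hbQ) hq
    rw [inv_inv] at this
    exact this

theorem class_match {A L Q V V' : Subgroup G} (hv : Valid A L Q)
    (hQV : Q ≤ Subgroup.normalizer (V : Set G)) (hQV' : Q ≤ Subgroup.normalizer (V' : Set G))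
    {a : G} (ha : a ∈ A) (h : V' = cjS a V) :
    ∃ b ∈ A ⊓ Subgroup.normalizer (Q : Set G), V' = cjS b V := by
  have hQS : Q ≤ A ⊓ Subgroup.normalizer (V' : Set G) := le_inf hv.hQA hQV'
  have haQ : ∀ q ∈ Q, a * q * a⁻¹ ∈ A ⊓ Subgroup.normalizer (V' : Set G) := by
    intro q hq
    refine Subgroup.mem_inf.mpr ⟨A.mul_mem (A.mul_mem ha (hv.hQA hq)) (A.inv_mem ha), ?_⟩
    rw [h, mem_normalizer_cjS]
    have e : a⁻¹ * (a * q * a⁻¹) * a = q := by group
    rw [e]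
    exact hQV hq
  obtain ⟨s, hs, hsn⟩ := exists_mem_normalizer hv inf_le_left hQS ha haQ
  obtain ⟨hsA, hsV⟩ := Subgroup.mem_inf.mp hs
  refine ⟨s⁻¹ * a, Subgroup.mem_inf.mpr ⟨A.mul_mem (A.inv_mem hsA) ha, hsn⟩, ?_⟩
  rw [← cjS_cjS, ← h, cjS_of_mem_normalizer (Subgroup.inv_mem _ hsV)]

/-- a set of representatives of the `B`-classes of `DSet` -/
def IsReps (L M Q B : Subgroup G) (reps : Set (Subgroup G)) : Prop :=
  reps ⊆ DSet L M Q ∧ (∀ V ∈ DSet L M Q, ∃ c ∈ reps, ∃ b ∈ B, c = cjS b V) ∧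
    (∀ c ∈ reps, ∀ c' ∈ reps, (∃ b ∈ B, c' = cjS b c) → c = c')

theorem exists_reps {A L M Q : Subgroup G} (hnL : A ≤ Subgroup.normalizer (L : Set G))
    (hnM : A ≤ Subgroup.normalizer (M : Set G)) :
    ∃ reps : Set (Subgroup G),
      IsReps L M Q (A ⊓ Subgroup.normalizer (Q : Set G)) reps := by
  classical
  set B := A ⊓ Subgroup.normalizer (Q : Set G) with hB
  let s : Setoid (Subgroup G) :=
    { r := fun V V' => ∃ b ∈ B, V' = cjS b V
      iseqv := by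
        refine ⟨fun V => ⟨1, B.one_mem, (cjS_one V).symm⟩, ?_, ?_⟩
        · rintro V V' ⟨b, hb, rfl⟩
          refine ⟨b⁻¹, B.inv_mem hb, ?_⟩
          rw [cjS_cjS, inv_mul_cancel, cjS_one]
        · rintro V V' V'' ⟨b, hb, rfl⟩ ⟨b', hb', rfl⟩
          exact ⟨b' * b, B.mul_mem hb' hb, by rw [cjS_cjS]⟩ }
  refine ⟨{c | c ∈ DSet L M Q ∧ (Quotient.mk s c).out = c}, fun c hc => hc.1, ?_, ?_⟩
  · intro V hV
    have h1 : s.r (Quotient.mk s V).out V := Quotient.exact (Quotient.out_eq (Quotient.mk s V))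
    obtain ⟨b, hb, hb'⟩ := h1
    have h2 : (Quotient.mk s V).out = cjS b⁻¹ V := by
      have := congrArg (cjS b⁻¹) hb'
      rw [cjS_cjS, inv_mul_cancel, cjS_one] at this
      exact this.symm
    refine ⟨(Quotient.mk s V).out, ⟨?_, ?_⟩, b⁻¹, B.inv_mem hb, h2⟩
    · rw [h2]
      exact dset_cjS hnL hnM (B.inv_mem hb) hV
    · have h3 : Quotient.mk s (Quotient.mk s V).out = Quotient.mk s V := Quotient.out_eq _
      rw [h3]
  · rintro c ⟨_, hc⟩ c' ⟨_, hc'⟩ hr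
    have h1 : Quotient.mk s c = Quotient.mk s c' := Quotient.sound hr
    rw [← hc, ← hc', h1]

omit [Finite G] in
theorem sgn_inj {V V' M : Subgroup G} (hV : V ≤ M) (hV' : V' ≤ M)
    (h : sgn V M = sgn V' M) : V = V' := by
  have key : ∀ W W' : Subgroup G, W ≤ M → sgn W M = sgn W' M → W ≤ W' := by
    intro W W' hW hh x hx
    by_contra hx'
    have h1 := congrFun hh ⟨x, hW hx⟩
    rw [sgn_of_mem (V := W) (m := ⟨x, hW hx⟩) hx,
      sgn_of_not_mem (V := W') (m := ⟨x, hW hx⟩) hx'] at h1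
    norm_num at h1
  exact le_antisymm (key V V' hV h) (key V' V hV' h.symm)

theorem odd_relIndex_of_le {A L Q T : Subgroup G} (hv : Valid A L Q) (hQT : Q ≤ T)
    (hTA : T ≤ A) : Odd (T.relIndex A) := by
  have h2 := Subgroup.relIndex_mul_relIndex Q T A hQT hTA
  have h3 := hv.hodd
  rw [← h2] at h3
  exact odd_of_mul_odd_right h3

/-! ### the recursion formula -/

section recursion

variable {A L Q M : Subgroup G} (hv : Valid A L Q) (hLM : L ≤ M) (hMQ : M ≤ Q)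
  (hnM : A ≤ Subgroup.normalizer (M : Set G))

include hv hMQ in
theorem rom_le_T {c : Subgroup G} (hc : c ∈ DSet L M Q) :
    M ≤ A ⊓ Subgroup.normalizer (c : Set G) :=
  le_T (hMQ.trans hv.hQA) hc.2.1 hc.2.2.1 rfl

include hv hMQ hnM in
theorem rom_ov {c : Subgroup G} (hc : c ∈ DSet L M Q)
    (η : IrrCharacter ↥(A ⊓ Subgroup.normalizer (c : Set G))) :
    Ov (rom_le_T hv hMQ hc) (η : ↥(A ⊓ Subgroup.normalizer (c : Set G)) → ℂ) (sgn c M) ↔
      TrivOn c (η : ↥(A ⊓ Subgroup.normalizer (c : Set G)) → ℂ) ∧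
        ¬ TrivOn M (η : ↥(A ⊓ Subgroup.normalizer (c : Set G)) → ℂ) :=
  ov_sgn_iff _ (inf_le_left.trans hnM) inf_le_right hc.2.1 hc.2.2.1 η

include hv hLM hMQ hnM in
theorem ind_mem {c : Subgroup G} (hc : c ∈ DSet L M Q)
    (η : ROm (A ⊓ Subgroup.normalizer (c : Set G)) c M) :
    ∃ χ : RO A L, (χ.1 : A → ℂ) = aInd A (η.1 : ↥(A ⊓ Subgroup.normalizer (c : Set G)) → ℂ) := by
  have hMA := hMQ.trans hv.hQA
  have hη := (rom_ov hv hMQ hnM hc η.1).mpr ⟨η.2.2.2.1, η.2.2.2.2⟩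
  have hirr := ac_irr hMA hnM hc.2.1 hc.2.2.1 rfl η.1 hη
  have hQT : Q ≤ A ⊓ Subgroup.normalizer (c : Set G) := le_inf hv.hQA hc.2.2.2
  refine ⟨⟨⟨_, hirr⟩, isRealF_aInd A η.2.1, ?_, ?_⟩, rfl⟩
  · rw [charDegree_aInd inf_le_left η.1 ⟨_, hirr⟩ rfl]
    exact (odd_relIndex_of_le hv hQT inf_le_left).mul η.2.2.1
  · exact trivOn_aInd (hv.hLQ.trans hQT) inf_le_left hv.hn (η.2.2.2.1.mono hc.1)

/-- the induced character, as an element of `RO A L` -/
noncomputable def indRO {c : Subgroup G} (hc : c ∈ DSet L M Q)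
    (η : ROm (A ⊓ Subgroup.normalizer (c : Set G)) c M) : RO A L :=
  (ind_mem hv hLM hMQ hnM hc η).choose

theorem indRO_coe {c : Subgroup G} (hc : c ∈ DSet L M Q)
    (η : ROm (A ⊓ Subgroup.normalizer (c : Set G)) c M) :
    ((indRO hv hLM hMQ hnM hc η).1 : A → ℂ) =
      aInd A (η.1 : ↥(A ⊓ Subgroup.normalizer (c : Set G)) → ℂ) :=
  (ind_mem hv hLM hMQ hnM hc η).choose_spec

theorem indRO_ov {c : Subgroup G} (hc : c ∈ DSet L M Q)
    (η : ROm (A ⊓ Subgroup.normalizer (c : Set G)) c M) :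
    Ov (hMQ.trans hv.hQA) ((indRO hv hLM hMQ hnM hc η).1 : A → ℂ) (sgn c M) := by
  rw [indRO_coe]
  exact ac_ov (hMQ.trans hv.hQA) hnM hc.2.1 hc.2.2.1 rfl η.1
    ((rom_ov hv hMQ hnM hc η.1).mpr ⟨η.2.2.2.1, η.2.2.2.2⟩)

theorem not_trivOn_of_ov_sgn {c : Subgroup G} (hc : c ∈ DSet L M Q) (χ : IrrCharacter A)
    (h : Ov (hMQ.trans hv.hQA) (χ : A → ℂ) (sgn c M)) : ¬ TrivOn M (χ : A → ℂ) := by
  intro hcon
  have h1 : TrivOn M (sgn c M) :=
    trivOn_constituent (isCharacter_rs (hMQ.trans hv.hQA) (isCharacter_of_isIrrCharacter χ.2))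
      (hcon.rs _) ⟨sgn c M, sgn_irr hc.2.1 hc.2.2.1⟩ h
  obtain ⟨m₀, hm₀M, hm₀c⟩ := exists_not_mem_of_two hc.2.2.1
  have h2 := h1 ⟨m₀, hm₀M⟩ hm₀M
  rw [sgn_of_not_mem (V := c) (m := ⟨m₀, hm₀M⟩) hm₀c,
    sgn_of_mem (V := c) (m := (1 : M)) c.one_mem] at h2
  norm_num at h2

theorem indRO_inj {c : Subgroup G} (hc : c ∈ DSet L M Q)
    (η η' : ROm (A ⊓ Subgroup.normalizer (c : Set G)) c M)
    (h : indRO hv hLM hMQ hnM hc η = indRO hv hLM hMQ hnM hc η') : η = η' := by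
  have h1 : ((indRO hv hLM hMQ hnM hc η).1 : A → ℂ) = ((indRO hv hLM hMQ hnM hc η').1 : A → ℂ) := by
    rw [h]
  rw [indRO_coe, indRO_coe] at h1
  have h2 := ac_inj (hMQ.trans hv.hQA) hnM hc.2.1 hc.2.2.1 rfl η.1 η'.1
    ((rom_ov hv hMQ hnM hc η.1).mpr ⟨η.2.2.2.1, η.2.2.2.2⟩)
    ((rom_ov hv hMQ hnM hc η'.1).mpr ⟨η'.2.2.2.1, η'.2.2.2.2⟩) h1
  exact Subtype.ext h2

theorem indRO_surj {c : Subgroup G} (hc : c ∈ DSet L M Q) (χ : RO A L)
    (h : Ov (hMQ.trans hv.hQA) (χ.1 : A → ℂ) (sgn c M)) :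
    ∃ η : ROm (A ⊓ Subgroup.normalizer (c : Set G)) c M, indRO hv hLM hMQ hnM hc η = χ := by
  have hMA := hMQ.trans hv.hQA
  obtain ⟨η, hη, hηχ⟩ := ac_surj hMA hnM hc.2.1 hc.2.2.1 rfl χ.1 h
  have h1 := (rom_ov hv hMQ hnM hc η).mp hη
  have hr : IsRealF (η : ↥(A ⊓ Subgroup.normalizer (c : Set G)) → ℂ) := by
    apply (ac_real_iff hMA hnM hc.2.1 hc.2.2.1 rfl η hη).mp
    rw [hηχ]
    exact χ.2.1
  have hd : Odd (charDegree (η : ↥(A ⊓ Subgroup.normalizer (c : Set G)) → ℂ)) := by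
    have := χ.2.2.1
    rw [charDegree_aInd inf_le_left η χ.1 hηχ] at this
    exact odd_of_mul_odd_right this
  let η' : ROm (A ⊓ Subgroup.normalizer (c : Set G)) c M := ⟨η, hr, hd, h1.1, h1.2⟩
  refine ⟨η', ?_⟩
  apply Subtype.ext
  apply Subtype.ext
  exact (indRO_coe hv hLM hMQ hnM hc η').trans hηχ

include hv hMQ hnM in
theorem ov_sgn_unique {reps : Set (Subgroup G)}
    (hreps : IsReps L M Q (A ⊓ Subgroup.normalizer (Q : Set G)) reps) (χ : IrrCharacter A)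
    {c c' : Subgroup G} (hc : c ∈ reps) (hc' : c' ∈ reps)
    (h : Ov (hMQ.trans hv.hQA) (χ : A → ℂ) (sgn c M))
    (h' : Ov (hMQ.trans hv.hQA) (χ : A → ℂ) (sgn c' M)) : c = c' := by
  have hMA := hMQ.trans hv.hQA
  have hcD := hreps.1 hc
  have hc'D := hreps.1 hc'
  obtain ⟨a, ha, hae⟩ := constituents_conj hMA hnM χ ⟨sgn c M, sgn_irr hcD.2.1 hcD.2.2.1⟩
    ⟨sgn c' M, sgn_irr hc'D.2.1 hc'D.2.2.1⟩ h h'
  have haN := hnM ha
  have h1 : sgn c' M = sgn (cjS a⁻¹ c) M := by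
    rw [sgn_cjS haN]
    exact hae
  have h2 : c' = cjS a⁻¹ c :=
    sgn_inj hc'D.2.1 (cjS_le (Subgroup.inv_mem _ haN) hcD.2.1) h1
  obtain ⟨b, hb, hb'⟩ := class_match hv hcD.2.2.2 hc'D.2.2.2 (A.inv_mem ha) h2
  exact hreps.2.2 c hc c' hc' ⟨b, hb, hb'⟩

include hv hLM hMQ hnM in
theorem exists_rep_ov {reps : Set (Subgroup G)}
    (hreps : IsReps L M Q (A ⊓ Subgroup.normalizer (Q : Set G)) reps) (χ : RO A L)
    (hM : ¬ TrivOn M (χ.1 : A → ℂ)) :
    ∃ c ∈ reps, Ov (hMQ.trans hv.hQA) (χ.1 : A → ℂ) (sgn c M) := by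
  have hMA := hMQ.trans hv.hQA
  obtain ⟨V, h1, h2, h3, h4, h5⟩ := exists_inv_sgn hv hLM hMQ hnM χ.1 χ.2.1 χ.2.2.1 χ.2.2.2 hM
  obtain ⟨c, hc, b, hb, hcb⟩ := hreps.2.1 V ⟨h1, h2, h3, h4⟩
  refine ⟨c, hc, ?_⟩
  have hbA : b⁻¹ ∈ A := A.inv_mem (Subgroup.mem_inf.mp hb).1
  have h6 : sgn c M = cj M b⁻¹ (sgn V M) := by
    rw [← sgn_cjS (hnM hbA), inv_inv, hcb]
  rw [h6]
  exact (ov_cj hMA hnM (isClassFunction_of_isIrrCharacter χ.1.2) _ hbA).mpr h5

include hv hLM hMQ hnM in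
theorem rec_count {reps : Set (Subgroup G)}
    (hreps : IsReps L M Q (A ⊓ Subgroup.normalizer (Q : Set G)) reps) :
    Nat.card (RO A L) = Nat.card (RO A M) +
      Nat.card (Σ c : reps, ROm (A ⊓ Subgroup.normalizer ((c : Subgroup G) : Set G)) c M) := by
  classical
  rw [← Nat.card_sum]
  apply Nat.card_congr
  symm
  refine Equiv.ofBijective (fun x => Sum.elim
    (fun χ : RO A M => (⟨χ.1, χ.2.1, χ.2.2.1, χ.2.2.2.mono hLM⟩ : RO A L))
    (fun p : (Σ c : reps, ROm (A ⊓ Subgroup.normalizer ((c : Subgroup G) : Set G)) c M) =>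
      indRO hv hLM hMQ hnM (hreps.1 p.1.2) p.2) x) ⟨?_, ?_⟩
  · rintro (x | p) (y | p') h
    · have h1 : x.1 = y.1 := congrArg (fun z : RO A L => z.1) h
      exact congrArg Sum.inl (Subtype.ext h1)
    · exfalso
      have h1 : x.1 = (indRO hv hLM hMQ hnM (hreps.1 p'.1.2) p'.2).1 :=
        congrArg (fun z : RO A L => z.1) h
      apply not_trivOn_of_ov_sgn hv hMQ (hreps.1 p'.1.2) _
        (indRO_ov hv hLM hMQ hnM (hreps.1 p'.1.2) p'.2)
      rw [← h1]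
      exact x.2.2.2
    · exfalso
      have h1 : (indRO hv hLM hMQ hnM (hreps.1 p.1.2) p.2).1 = y.1 :=
        congrArg (fun z : RO A L => z.1) h
      apply not_trivOn_of_ov_sgn hv hMQ (hreps.1 p.1.2) _
        (indRO_ov hv hLM hMQ hnM (hreps.1 p.1.2) p.2)
      rw [h1]
      exact y.2.2.2
    · have h0 : indRO hv hLM hMQ hnM (hreps.1 p.1.2) p.2 =
          indRO hv hLM hMQ hnM (hreps.1 p'.1.2) p'.2 := h
      have h1 := indRO_ov hv hLM hMQ hnM (hreps.1 p.1.2) p.2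
      have h2 := indRO_ov hv hLM hMQ hnM (hreps.1 p'.1.2) p'.2
      rw [← h0] at h2
      have h3 := ov_sgn_unique hv hMQ hnM hreps _ p.1.2 p'.1.2 h1 h2
      obtain ⟨⟨c, hc⟩, η⟩ := p
      obtain ⟨⟨c', hc'⟩, η'⟩ := p'
      simp only at h3
      subst h3
      have h4 := indRO_inj hv hLM hMQ hnM (hreps.1 hc) η η' h0
      rw [h4]
  · intro χ
    by_cases h : TrivOn M (χ.1 : A → ℂ)
    · exact ⟨Sum.inl ⟨χ.1, χ.2.1, χ.2.2.1, h⟩, rfl⟩
    · obtain ⟨c, hc, hov⟩ := exists_rep_ov hv hLM hMQ hnM hreps χ h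
      obtain ⟨η, hη⟩ := indRO_surj hv hLM hMQ hnM (hreps.1 hc) χ hov
      exact ⟨Sum.inr ⟨⟨c, hc⟩, η⟩, hη⟩

end recursion

omit [Finite G] in
theorem mem_normalizer_inf {a : G} {S S' : Subgroup G}
    (h1 : a ∈ Subgroup.normalizer (S : Set G)) (h2 : a ∈ Subgroup.normalizer (S' : Set G)) :
    a ∈ Subgroup.normalizer ((S ⊓ S' : Subgroup G) : Set G) := by
  rw [mem_normalizer_iff_cjS] at h1 h2 ⊢
  unfold cjS at h1 h2 ⊢
  rw [Subgroup.map_inf _ _ _ (MulAut.conj a).injective, h1, h2]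

variable [Group.IsSolvable G]

theorem claimB : ∀ n : ℕ, ∀ A L Q : Subgroup G, Valid A L Q → L.relIndex A = n →
    Nat.card (RO A L) = Nat.card (RO (A ⊓ Subgroup.normalizer (Q : Set G)) L) := by
  intro n
  induction n using Nat.strong_induction_on with
  | _ n ih =>
  intro A L Q hv hn
  by_cases hQA : Q = A
  · subst hQA
    rw [inf_eq_left.mpr Subgroup.le_normalizer]
  rcases struct hv hQA with ⟨K, hLK, hKA, hnK, hodd, hab⟩ | ⟨M, hLM, hMQ, hnM, h4⟩
  · -- an odd normal section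
    have hv' := valid_oddUp hv hLK.le hKA hnK hodd
    have h1 := card_RO_eq_of_odd hLK.le hKA hv.hn hnK hodd
    have h2 := ih _ (by rw [← hn]; exact relIndex_lt hLK hKA) A K (K ⊔ Q) hv' rfl
    have hBK : A ⊓ Subgroup.normalizer (Q : Set G) ≤ Subgroup.normalizer (K : Set G) :=
      inf_le_left.trans hnK
    have h3 : A ⊓ Subgroup.normalizer ((K ⊔ Q : Subgroup G) : Set G) =
        K ⊔ (A ⊓ Subgroup.normalizer (Q : Set G)) := by
      apply le_antisymm (frattini hv hKA)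
      apply sup_le (le_inf hKA (le_sup_left.trans Subgroup.le_normalizer))
      intro b hb
      obtain ⟨hbA, hbQ⟩ := Subgroup.mem_inf.mp hb
      exact Subgroup.mem_inf.mpr ⟨hbA, mem_normalizer_sup (hnK hbA) hbQ⟩
    have h4 := supp_card hBK
    have hLB : L ≤ A ⊓ Subgroup.normalizer (Q : Set G) :=
      hv.hLQ.trans (le_inf hv.hQA Subgroup.le_normalizer)
    have hodd' : Odd (L.relIndex (K ⊓ (A ⊓ Subgroup.normalizer (Q : Set G)))) := by
      have h6 := Subgroup.relIndex_mul_relIndex L (K ⊓ (A ⊓ Subgroup.normalizer (Q : Set G))) K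
        (le_inf hLK.le hLB) inf_le_left
      rw [← h6] at hodd
      exact odd_of_mul_odd_left hodd
    have h5 := card_RO_eq_of_odd (A := A ⊓ Subgroup.normalizer (Q : Set G)) (L := L)
      (K := K ⊓ (A ⊓ Subgroup.normalizer (Q : Set G))) (le_inf hLK.le hLB) inf_le_right
      (inf_le_left.trans hv.hn)
      (fun b hb => mem_normalizer_inf (hBK hb) (Subgroup.le_normalizer hb)) hodd'
    rw [h1, h2, h3, h4, h5]
  · -- a normal 2-section
    have hMA := hMQ.trans hv.hQA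
    obtain ⟨reps, hreps⟩ := exists_reps (Q := Q) hv.hn hnM
    have hvB := valid_normalizer hv
    have hnMB : A ⊓ Subgroup.normalizer (Q : Set G) ≤ Subgroup.normalizer (M : Set G) :=
      inf_le_left.trans hnM
    have hBB : A ⊓ Subgroup.normalizer (Q : Set G) ⊓ Subgroup.normalizer (Q : Set G) =
        A ⊓ Subgroup.normalizer (Q : Set G) := inf_eq_left.mpr inf_le_right
    have hrepsB : IsReps L M Q
        (A ⊓ Subgroup.normalizer (Q : Set G) ⊓ Subgroup.normalizer (Q : Set G)) reps := by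
      rw [hBB]; exact hreps
    have hA := rec_count hv hLM.le hMQ hnM hreps
    have hB := rec_count hvB hLM.le hMQ hnMB hrepsB
    have hM := ih _ (by rw [← hn]; exact relIndex_lt hLM hMA) A M Q
      (valid_up hv hLM.le hMQ hnM) rfl
    have : Fintype reps := Fintype.ofFinite _
    rw [hA, hB, hM, Nat.card_sigma, Nat.card_sigma]
    congr 1
    apply Finset.sum_congr rfl
    intro c _
    obtain ⟨hLc, hcM, hc2, hQc⟩ := hreps.1 c.2
    have hTA : A ⊓ Subgroup.normalizer ((c : Subgroup G) : Set G) ≤ A := inf_le_left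
    have hQT : Q ≤ A ⊓ Subgroup.normalizer ((c : Subgroup G) : Set G) := le_inf hv.hQA hQc
    have hLltc : L < (c : Subgroup G) := by
      refine lt_of_le_of_ne hLc ?_
      intro h
      rw [← h] at hc2
      omega
    have hcT : (c : Subgroup G) ≤ A ⊓ Subgroup.normalizer ((c : Subgroup G) : Set G) :=
      (hcM.trans hMQ).trans hQT
    have e1 := ih _ (by
      rw [← hn]
      exact lt_of_le_of_lt (relIndex_le_of_le hcT hTA) (relIndex_lt hLltc (hcM.trans hMA)))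
      _ (c : Subgroup G) Q (valid_sub hv hQT hTA hLc (hcM.trans hMQ) inf_le_right) rfl
    have e2 := ih _ (by
      rw [← hn]
      exact lt_of_le_of_lt (relIndex_le_of_le (hMQ.trans hQT) hTA) (relIndex_lt hLM hMA))
      _ M Q (valid_sub hv hQT hTA hLM.le hMQ (hTA.trans hnM)) rfl
    have hTB : A ⊓ Subgroup.normalizer ((c : Subgroup G) : Set G) ⊓
        Subgroup.normalizer (Q : Set G) =
        A ⊓ Subgroup.normalizer (Q : Set G) ⊓ Subgroup.normalizer ((c : Subgroup G) : Set G) :=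
      inf_right_comm _ _ _
    rw [hTB] at e1 e2
    have s1 := card_split (T := A ⊓ Subgroup.normalizer ((c : Subgroup G) : Set G)) hcM
    have s2 := card_split (T := A ⊓ Subgroup.normalizer (Q : Set G) ⊓
      Subgroup.normalizer ((c : Subgroup G) : Set G)) hcM
    omega

end Cfsg.Agent.Lib.Helper15_ROMainB
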