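import Cfsg.Agent.Lib.Helper15_ROMainE

/-!
# Real odd-degree characters: non-real linear characters of `Q` lift (helper15)

Claim C: if `N_A(Q) = Q`, every non-real linear character of `Q` trivial on `L` lies under a
non-real odd-degree irreducible character of `A` trivial on `L`.
-/

set_option autoImplicit false
set_option linter.unusedSectionVars false
set_option linter.unusedVariables false

namespace Cfsg.Agent.Lib.Helper15_ROMainC

open Cfsg
open scoped ComplexConjugate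
open Cfsg.Agent.Lib.Helper75_Induced Cfsg.Agent.Lib.Helper75_Clifford
  Cfsg.Agent.Lib.Helper75_CharArith Cfsg.Agent.Lib.Helper3_CharBridge
  Cfsg.Agent.Lib.Helper3_CharOrtho Cfsg.Agent.Lib.Helper15_ROBasic
  Cfsg.Agent.Lib.Helper75_LinChar Cfsg.Agent.Lib.Helper15_ROChar
  Cfsg.Agent.Lib.Helper15_ROCliff Cfsg.Agent.Lib.Helper15_ROValid
  Cfsg.Agent.Lib.Helper71_ROStruct
  Cfsg.Agent.Lib.Helper71_ROSylow Cfsg.Agent.Lib.Helper21_ROReal
  Cfsg.Agent.Lib.Helper75_ROSupp Cfsg.Agent.Lib.Helper13_ROLin Cfsg.Agent.Lib.Helper15_ROGlue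
  Cfsg.Agent.Lib.Helper15_ROMainD Cfsg.Agent.Lib.Helper15_ROMainE

universe u

variable {G : Type u} [Group G] [Finite G]

theorem ov_self {B C : Subgroup G} (h : C ≤ B) (ψ : IrrCharacter B) {μ : C → ℂ}
    (hμ : IsIrrCharacter C μ) (he : rs h (ψ : B → ℂ) = μ) : Ov h (ψ : B → ℂ) μ := by
  have : Fintype C := Fintype.ofFinite C
  unfold Ov
  rw [he, ip_eq, classInner_self_of_isIrrCharacter hμ]
  exact one_ne_zero

theorem ov_aInd_self {A T : Subgroup G} (hTA : T ≤ A) (η : IrrCharacter T)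
    (hirr : IsIrrCharacter A (aInd A (η : T → ℂ))) :
    Ov hTA (aInd A (η : T → ℂ)) (η : T → ℂ) := by
  rw [ov_iff_aInd hTA _ (isClassFunction_aInd A _)]
  have : Fintype A := Fintype.ofFinite A
  rw [ip_eq, classInner_self_of_isIrrCharacter hirr]
  exact one_ne_zero

theorem ov_conj_of_real {A M : Subgroup G} (hMA : M ≤ A) {χ : A → ℂ} (hχ : IsRealF χ)
    (θ : M → ℂ) (h : Ov hMA χ θ) : Ov hMA χ (fun m => conj (θ m)) := by
  have : Fintype M := Fintype.ofFinite M
  unfold Ov at h ⊢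
  rw [ip_eq] at h ⊢
  have h1 := Cfsg.Agent.Lib.Helper75_CharProd.classInner_conj_conj (rs hMA χ) θ
  have h2 : (fun m => conj (rs hMA χ m)) = rs hMA χ :=
    (isRealF_iff_conj _).mp (hχ.rs hMA)
  rw [h2] at h1
  rw [h1]
  exact (map_ne_zero _).mpr h

variable [Group.IsSolvable G]

theorem claimC : ∀ n : ℕ, ∀ (A L Q : Subgroup G) (hv : Valid A L Q), L.relIndex A = n →
    A ⊓ Subgroup.normalizer (Q : Set G) ≤ Q → ∀ μ : IrrCharacter Q, (μ : Q → ℂ) 1 = 1 →
    TrivOn L (μ : Q → ℂ) → ¬ IsRealF (μ : Q → ℂ) →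
    ∃ χ : IrrCharacter A, Odd (charDegree (χ : A → ℂ)) ∧ TrivOn L (χ : A → ℂ) ∧
      Ov hv.hQA (χ : A → ℂ) (μ : Q → ℂ) ∧ ¬ IsRealF (χ : A → ℂ) := by
  intro n
  induction n using Nat.strong_induction_on with
  | _ n ih =>
  intro A L Q hv hn hN μ hμ1 hμL hμnr
  have hμc := isCharacter_of_isIrrCharacter μ.2
  by_cases hQA : Q = A
  · subst hQA
    refine ⟨μ, ?_, hμL, ov_self _ μ μ.2 rfl, hμnr⟩
    rw [Cfsg.Agent.Lib.Helper82_ItoMichler.charDegree_eq (μ : Q → ℂ) 1 (by rw [hμ1]; simp)]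
    exact odd_one
  rcases struct hv hQA with ⟨K, hLK, hKA, hnK, hodd, hab⟩ | ⟨M, hLM, hMQ, hnM, h4⟩
  · -- an odd normal section: extend `μ` to `K ⊔ Q`
    have hnQK : Q ≤ Subgroup.normalizer (K : Set G) := hv.hQA.trans hnK
    have hKQ := inf_eq_of_odd hv hLK.le hodd
    obtain ⟨μ', hμ'K, hμ'r⟩ := supp_ext hnQK μ (by rw [hKQ]; exact hμL)
    have hμ'1 : (μ' : ↥(K ⊔ Q) → ℂ) 1 = 1 := by
      have := congrFun hμ'r 1
      rw [rs_one, hμ1] at this
      exact this
    have hμ'nr : ¬ IsRealF (μ' : ↥(K ⊔ Q) → ℂ) := by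
      intro h
      apply hμnr
      rw [← hμ'r]
      exact h.rs le_sup_right
    have hv' := valid_oddUp hv hLK.le hKA hnK hodd
    have hN' : A ⊓ Subgroup.normalizer ((K ⊔ Q : Subgroup G) : Set G) ≤ K ⊔ Q :=
      (frattini hv hKA).trans (sup_le le_sup_left (hN.trans le_sup_right))
    obtain ⟨χ, hχd, hχK, hχov, hχnr⟩ := ih _ (by rw [← hn]; exact relIndex_lt hLK hKA)
      A K (K ⊔ Q) hv' rfl hN' μ' hμ'1 hμ'K hμ'nr
    refine ⟨χ, hχd, hχK.mono hLK.le, ?_, hχnr⟩
    exact ov_trans hv'.hQA le_sup_right (isCharacter_of_isIrrCharacter χ.2) μ' hχov hμc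
      (ov_self le_sup_right μ' μ.2 hμ'r)
  · -- a normal 2-section
    have hMA := hMQ.trans hv.hQA
    have : Fintype M := Fintype.ofFinite M
    have : Fintype A := Fintype.ofFinite A
    have hlμ := isLin_of_one μ hμ1
    have hlnu : IsLin M (rs hMQ (μ : Q → ℂ)) :=
      ⟨isCharacter_rs hMQ hlμ.1, by rw [rs_one]; exact hμ1⟩
    set nu : IrrCharacter M := ⟨rs hMQ (μ : Q → ℂ), hlnu.irr⟩ with hnu
    have hnuL : TrivOn L (nu : M → ℂ) := hμL.rs hMQ
    have hinv : ∀ q ∈ Q, cj M q (nu : M → ℂ) = (nu : M → ℂ) := by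
      intro q hq
      funext m
      rw [cj_apply (hnM (hv.hQA hq))]
      exact isClassFunction_of_isIrrCharacter μ.2 ⟨(m : G), hMQ m.2⟩ ⟨q, hq⟩
    by_cases hnur : IsRealF (nu : M → ℂ)
    · rcases real_lin_eq nu hlnu.2 hnur with h1 | ⟨V, hVM, hV2, hVe, hVk⟩
      · -- `μ` is trivial on `M`
        have hμM : TrivOn M (μ : Q → ℂ) := by
          intro x hx
          have := congrFun h1 ⟨(x : G), hx⟩
          rw [hμ1]
          exact this
        obtain ⟨χ, hχd, hχM, hχov, hχnr⟩ := ih _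
          (by rw [← hn]; exact relIndex_lt hLM hMA) A M Q (valid_up hv hLM.le hMQ hnM) rfl
          hN μ hμ1 hμM hμnr
        exact ⟨χ, hχd, hχM.mono hLM.le, hχov, hχnr⟩
      · -- `μ` restricts to a sign character
        have hLV : L ≤ V := by
          intro l hl
          apply hVk ⟨l, hLM.le hl⟩
          show (μ : Q → ℂ) ⟨l, _⟩ = 1
          rw [hμL ⟨l, _⟩ hl, hμ1]
        have hQV : Q ≤ Subgroup.normalizer (V : Set G) := by
          intro q hq
          apply (cj_sgn_iff hVM (hnM (hv.hQA hq))).mp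
          rw [← hVe]
          exact hinv q hq
        obtain ⟨T, hT⟩ : ∃ T : Subgroup G, T = A ⊓ Subgroup.normalizer (V : Set G) := ⟨_, rfl⟩
        have hQT : Q ≤ T := by rw [hT]; exact le_inf hv.hQA hQV
        have hMT := le_T hMA hVM hV2 hT
        have hTA := T_le hT
        have hnVT : T ≤ Subgroup.normalizer (V : Set G) := by rw [hT]; exact inf_le_right
        have hμV : TrivOn V (μ : Q → ℂ) := by
          intro x hx
          have := congrFun hVe ⟨(x : G), hVM hx⟩
          rw [sgn_of_mem (V := V) (m := ⟨(x : G), hVM hx⟩) hx] at this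
          rw [hμ1]
          exact this
        have hLneV : L < V := by
          refine lt_of_le_of_ne hLV ?_
          intro h
          rw [← h] at hV2
          omega
        have hv' := valid_sub hv hQT hTA hLV (hVM.trans hMQ) hnVT
        have hlt : V.relIndex T < n := by
          rw [← hn]
          exact lt_of_le_of_lt (relIndex_le_of_le (hVM.trans hMT) hTA)
            (relIndex_lt hLneV (hVM.trans hMA))
        obtain ⟨η, hηd, hηV, hηov, hηnr⟩ := ih _ hlt T V Q hv' rfl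
          ((inf_le_inf_right _ hTA).trans hN) μ hμ1 hμV hμnr
        have hηM : ¬ TrivOn M (η : T → ℂ) := by
          intro hcon
          have h5 : TrivOn M (μ : Q → ℂ) :=
            trivOn_constituent (isCharacter_rs hQT (isCharacter_of_isIrrCharacter η.2))
              (hcon.rs hQT) μ hηov
          obtain ⟨m₀, hm₀M, hm₀V⟩ := exists_not_mem_of_two hV2
          have h6 := congrFun hVe ⟨m₀, hm₀M⟩
          rw [sgn_of_not_mem (V := V) (m := ⟨m₀, hm₀M⟩) hm₀V] at h6
          have h7 : (μ : Q → ℂ) ⟨m₀, hMQ hm₀M⟩ = -1 := h6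
          rw [h5 ⟨m₀, hMQ hm₀M⟩ hm₀M, hμ1] at h7
          norm_num at h7
        have hη : Ov hMT (η : T → ℂ) (sgn V M) :=
          (ov_sgn_iff hMT (hTA.trans hnM) hnVT hVM hV2 η).mpr ⟨hηV, hηM⟩
        have hirr := ac_irr hMA hnM hVM hV2 hT η hη
        refine ⟨⟨aInd A (η : T → ℂ), hirr⟩, ?_, ?_, ?_, ?_⟩
        · rw [charDegree_aInd hTA η ⟨_, hirr⟩ rfl]
          have h2 := Subgroup.relIndex_mul_relIndex Q T A hQT hTA
          have h3 := hv.hodd
          rw [← h2] at h3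
          exact (odd_of_mul_odd_right h3).mul hηd
        · exact trivOn_aInd ((valid_hLA hv').trans' hLV) hTA hv.hn (hηV.mono hLV)
        · exact ov_trans hTA hQT (isCharacter_of_isIrrCharacter hirr) η
            (ov_aInd_self hTA η hirr) hμc hηov
        · exact fun h => hηnr ((ac_real_iff hMA hnM hVM hV2 hT η hη).mp h)
    · -- `μ` restricts to a non-real character of `M`
      have hΦ : IsCharacter A (aInd A (μ : Q → ℂ)) := isCharacter_aInd hv.hQA hμc
      obtain ⟨χ, hχ, hχd⟩ := exists_odd_constituent hΦ (n := Q.relIndex A)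
        (by rw [aInd_one hv.hQA, hμ1, mul_one]) hv.hodd
      rw [← ip_eq] at hχ
      have hχL : TrivOn L (χ : A → ℂ) :=
        trivOn_constituent hΦ (trivOn_aInd hv.hLQ hv.hQA hv.hn hμL) χ hχ
      have hov : Ov hv.hQA (χ : A → ℂ) (μ : Q → ℂ) :=
        (ov_iff_aInd hv.hQA _ (isClassFunction_of_isIrrCharacter χ.2)).mpr hχ
      refine ⟨χ, hχd, hχL, hov, ?_⟩
      intro hχr
      apply hnur
      have hovnu : Ov hMA (χ : A → ℂ) (nu : M → ℂ) :=
        ov_trans hv.hQA hMQ (isCharacter_of_isIrrCharacter χ.2) μ hov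
          (isCharacter_of_isIrrCharacter nu.2) (ov_self hMQ μ nu.2 rfl)
      set nuc : IrrCharacter M := ⟨fun m => conj ((nu : M → ℂ) m),
        Cfsg.Agent.Lib.Helper75_CharProd.isIrrCharacter_conj nu.2⟩ with hnuc
      have hovnuc : Ov hMA (χ : A → ℂ) (nuc : M → ℂ) := ov_conj_of_real hMA hχr _ hovnu
      obtain ⟨a, ha, hae⟩ := constituents_conj hMA hnM χ nu nuc hovnu hovnuc
      have haN := hnM ha
      have hinvc : ∀ q ∈ Q, cj M q (nuc : M → ℂ) = (nuc : M → ℂ) := by
        intro q hq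
        funext m
        rw [cj_apply (hnM (hv.hQA hq))]
        show conj ((nu : M → ℂ) _) = conj ((nu : M → ℂ) m)
        have := congrFun (hinv q hq) m
        rw [cj_apply (hnM (hv.hQA hq))] at this
        rw [this]
      have hQS : Q ≤ stb A M (nu : M → ℂ) := fun q hq =>
        ⟨hv.hQA hq, hnM (hv.hQA hq), hinv q hq⟩
      have haQ : ∀ q ∈ Q, a * q * a⁻¹ ∈ stb A M (nu : M → ℂ) := by
        intro q hq
        have hqA := hv.hQA hq
        have hqN := hnM hqA
        refine ⟨A.mul_mem (A.mul_mem ha hqA) (A.inv_mem ha),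
          hnM (A.mul_mem (A.mul_mem ha hqA) (A.inv_mem ha)), ?_⟩
        rw [← cj_cj (Subgroup.mul_mem _ haN hqN) (Subgroup.inv_mem _ haN),
          ← cj_cj haN hqN, ← hae, hinvc q hq, hae, cj_cj haN (Subgroup.inv_mem _ haN),
          mul_inv_cancel, cj_one]
      obtain ⟨s, hs, hsn⟩ := exists_mem_normalizer hv (stb_le A M _) hQS ha haQ
      have hsA : s ∈ A := stb_le A M _ hs
      have h8 : s⁻¹ * a ∈ Q :=
        hN (Subgroup.mem_inf.mpr ⟨A.mul_mem (A.inv_mem hsA) ha, hsn⟩)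
      have h9 : a ∈ stb A M (nu : M → ℂ) := by
        have := Subgroup.mul_mem _ hs (hQS h8)
        have e : s * (s⁻¹ * a) = a := by group
        rw [e] at this
        exact this
      rw [isRealF_iff_conj]
      show (nuc : M → ℂ) = (nu : M → ℂ)
      rw [hae]
      exact h9.2.2

end Cfsg.Agent.Lib.Helper15_ROMainC
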