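import Cfsg.Agent.Lib.Helper15_ROGlue

/-!
# Real odd-degree characters: self-normalizing Sylow 2-subgroups (helper15)

Claim D: if all odd-degree irreducible characters of `A` trivial on `L` are real then
`N_A(Q) = Q`.
-/

set_option autoImplicit false
set_option linter.unusedSectionVars false
set_option linter.unusedVariables false

namespace Cfsg.Agent.Lib.Helper15_ROMainD

open Cfsg
open scoped ComplexConjugate
open Cfsg.Agent.Lib.Helper75_Induced Cfsg.Agent.Lib.Helper75_Clifford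
  Cfsg.Agent.Lib.Helper75_CharArith Cfsg.Agent.Lib.Helper3_CharBridge
  Cfsg.Agent.Lib.Helper3_CharOrtho Cfsg.Agent.Lib.Helper15_ROBasic
  Cfsg.Agent.Lib.Helper75_LinChar Cfsg.Agent.Lib.Helper15_ROChar
  Cfsg.Agent.Lib.Helper15_ROCliff Cfsg.Agent.Lib.Helper15_ROValid
  Cfsg.Agent.Lib.Helper71_ROStruct
  Cfsg.Agent.Lib.Helper71_ROSylow Cfsg.Agent.Lib.Helper21_ROReal
  Cfsg.Agent.Lib.Helper75_ROSupp Cfsg.Agent.Lib.Helper13_ROLin Cfsg.Agent.Lib.Helper15_ROGlue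

universe u

variable {G : Type u} [Group G] [Finite G]

/-- all odd-degree irreducible characters of `A` trivial on `L` are real -/
def AllReal (A L : Subgroup G) : Prop :=
  ∀ χ : IrrCharacter A, Odd (charDegree (χ : A → ℂ)) → TrivOn L (χ : A → ℂ) →
    IsRealF (χ : A → ℂ)

/-- a linear character of `Q⟨k⟩` trivial on `Q` and not at `k` -/
theorem exists_lin_cyclic {Q : Subgroup G} {k : G}
    (hkN : k ∈ Subgroup.normalizer (Q : Set G)) (hkQ : k ∉ Q) :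
    ∃ Y : Subgroup G, Q ≤ Y ∧ Y ≤ Q ⊔ Subgroup.zpowers k ∧ ∃ hkY : k ∈ Y,
      ∃ ξ : IrrCharacter Y, (ξ : Y → ℂ) 1 = 1 ∧ TrivOn Q (ξ : Y → ℂ) ∧
        (ξ : Y → ℂ) ⟨k, hkY⟩ ≠ 1 := by
  have hzn : Subgroup.zpowers k ≤ Subgroup.normalizer (Q : Set G) := by
    rw [Subgroup.zpowers_le]
    exact hkN
  have hYn : Q ⊔ Subgroup.zpowers k ≤ Subgroup.normalizer (Q : Set G) :=
    sup_le Subgroup.le_normalizer hzn
  have hkY : k ∈ Q ⊔ Subgroup.zpowers k :=
    Subgroup.mem_sup_right (Subgroup.mem_zpowers k)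
  have hdec : ∀ y ∈ Q ⊔ Subgroup.zpowers k, ∃ q ∈ Q, ∃ i : ℤ, y = k ^ i * q := by
    intro y hy
    have h1 : (y : G) ∈ ((Q ⊔ Subgroup.zpowers k : Subgroup G) : Set G) := hy
    rw [sup_comm, Subgroup.coe_mul_of_left_le_normalizer_right _ Q hzn] at h1
    obtain ⟨z, hz, q, hq, rfl⟩ := Set.mem_mul.mp h1
    obtain ⟨i, rfl⟩ := Subgroup.mem_zpowers_iff.mp hz
    exact ⟨q, hq, i, rfl⟩
  have hab : ∀ x ∈ Q ⊔ Subgroup.zpowers k, ∀ y ∈ Q ⊔ Subgroup.zpowers k,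
      x * y * x⁻¹ * y⁻¹ ∈ Q := by
    intro x hx y hy
    haveI hN : (Q.subgroupOf (Q ⊔ Subgroup.zpowers k)).Normal :=
      (Subgroup.normal_subgroupOf_iff_le_normalizer le_sup_left).mpr hYn
    have key : ∀ z (hz : z ∈ Q ⊔ Subgroup.zpowers k), ∃ i : ℤ,
        (QuotientGroup.mk (⟨z, hz⟩ : ↥(Q ⊔ Subgroup.zpowers k)) :
          ↥(Q ⊔ Subgroup.zpowers k) ⧸ Q.subgroupOf (Q ⊔ Subgroup.zpowers k)) =
        (QuotientGroup.mk (⟨k, hkY⟩ : ↥(Q ⊔ Subgroup.zpowers k))) ^ i := by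
      intro z hz
      obtain ⟨q, hq, i, rfl⟩ := hdec z hz
      refine ⟨i, ?_⟩
      rw [← QuotientGroup.mk_zpow, QuotientGroup.eq, Subgroup.mem_subgroupOf]
      have e : ((⟨k ^ i * q, hz⟩ : ↥(Q ⊔ Subgroup.zpowers k))⁻¹ *
          (⟨k, hkY⟩ : ↥(Q ⊔ Subgroup.zpowers k)) ^ i : ↥(Q ⊔ Subgroup.zpowers k)).1 = q⁻¹ := by
        push_cast
        group
      rw [e]
      exact Q.inv_mem hq
    obtain ⟨i, hi⟩ := key x hx
    obtain ⟨j, hj⟩ := key y hy
    have h2 : (QuotientGroup.mk ((⟨x, hx⟩ * ⟨y, hy⟩ * ⟨x, hx⟩⁻¹ * ⟨y, hy⟩⁻¹ :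
        ↥(Q ⊔ Subgroup.zpowers k))) :
        ↥(Q ⊔ Subgroup.zpowers k) ⧸ Q.subgroupOf (Q ⊔ Subgroup.zpowers k)) = 1 := by
      rw [QuotientGroup.mk_mul, QuotientGroup.mk_mul, QuotientGroup.mk_mul, QuotientGroup.mk_inv,
        QuotientGroup.mk_inv, hi, hj]
      rw [← zpow_add, ← zpow_neg, ← zpow_add, ← zpow_neg, ← zpow_add]
      have : i + j + -i + -j = 0 := by ring
      rw [this, zpow_zero]
    rw [QuotientGroup.eq_one_iff, Subgroup.mem_subgroupOf] at h2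
    exact h2
  obtain ⟨ξ, h1, h2, h3⟩ := exists_lin_nontrivial le_sup_left hYn hab hkY hkQ
  exact ⟨_, le_sup_left, le_rfl, hkY, ξ, h1, h2, h3⟩

variable [Group.IsSolvable G]

theorem claimD : ∀ n : ℕ, ∀ A L Q : Subgroup G, Valid A L Q → L.relIndex A = n →
    AllReal A L → A ⊓ Subgroup.normalizer (Q : Set G) ≤ Q := by
  intro n
  induction n using Nat.strong_induction_on with
  | _ n ih =>
  intro A L Q hv hn hall
  by_cases hQA : Q = A
  · rw [hQA]; exact inf_le_left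
  rcases struct hv hQA with ⟨K, hLK, hKA, hnK, hodd, hab⟩ | ⟨M, hLM, hMQ, hnM, h4⟩
  · -- an odd normal section
    have hv' := valid_oddUp hv hLK.le hKA hnK hodd
    have hall' : AllReal A K := fun χ hd ht => hall χ hd (ht.mono hLK.le)
    have h1 := ih _ (by rw [← hn]; exact relIndex_lt hLK hKA) A K (K ⊔ Q) hv' rfl hall'
    intro x hx
    obtain ⟨hxA, hxN⟩ := Subgroup.mem_inf.mp hx
    have hxS : x ∈ K ⊔ Q :=
      h1 (Subgroup.mem_inf.mpr ⟨hxA, mem_normalizer_sup (hnK hxA) hxN⟩)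
    obtain ⟨k, hk, q, hq, rfl⟩ := exists_mul_of_mem_sup (hv.hQA.trans hnK) hxS
    have hkN : k ∈ Subgroup.normalizer (Q : Set G) := by
      have := Subgroup.mul_mem _ hxN (Subgroup.inv_mem _ (Subgroup.le_normalizer hq))
      simpa using this
    suffices hkQ : k ∈ Q from Q.mul_mem hkQ hq
    by_contra hkQ
    obtain ⟨Y, hQY, hYle, hkY, ξ, hξ1, hξQ, hξk⟩ := exists_lin_cyclic hkN hkQ
    have hkA : k ∈ A := hKA hk
    have hYA : Y ≤ A := hYle.trans (sup_le hv.hQA (by rw [Subgroup.zpowers_le]; exact hkA))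
    have : Fintype A := Fintype.ofFinite A
    have hΦ : IsCharacter A (aInd A (ξ : Y → ℂ)) :=
      isCharacter_aInd hYA (isCharacter_of_isIrrCharacter ξ.2)
    have hoddY : Odd (Y.relIndex A) := by
      have h2 := Subgroup.relIndex_mul_relIndex Q Y A hQY hYA
      have h3 := hv.hodd
      rw [← h2] at h3
      exact odd_of_mul_odd_right h3
    obtain ⟨χ, hχ, hχd⟩ := exists_odd_constituent hΦ (n := Y.relIndex A)
      (by rw [aInd_one hYA, hξ1, mul_one]) hoddY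
    rw [← ip_eq] at hχ
    have hΦL : TrivOn L (aInd A (ξ : Y → ℂ)) :=
      trivOn_aInd (hv.hLQ.trans hQY) hYA hv.hn (hξQ.mono hv.hLQ)
    have hχL : TrivOn L (χ : A → ℂ) := trivOn_constituent hΦ hΦL χ hχ
    have hχr := hall χ hχd hχL
    have hχK := x1 hLK.le hKA hv.hn hnK hodd χ hχr hχd hχL
    have hov : Ov hYA (χ : A → ℂ) (ξ : Y → ℂ) :=
      (ov_iff_aInd hYA _ (isClassFunction_of_isIrrCharacter χ.2)).mpr hχ
    have hξK : TrivOn K (ξ : Y → ℂ) :=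
      trivOn_constituent (isCharacter_rs hYA (isCharacter_of_isIrrCharacter χ.2))
        (hχK.rs hYA) ξ hov
    apply hξk
    rw [hξK ⟨k, hkY⟩ hk, hξ1]
  · -- a normal 2-section
    have hv' := valid_up hv hLM.le hMQ hnM
    have hall' : AllReal A M := fun χ hd ht => hall χ hd (ht.mono hLM.le)
    exact ih _ (by rw [← hn]; exact relIndex_lt hLM (hMQ.trans hv.hQA)) A M Q hv' rfl hall'

end Cfsg.Agent.Lib.Helper15_ROMainD
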