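import Cfsg.Agent.Lib.Helper15_ROMainD

/-!
# Real odd-degree characters: the sufficient condition (helper15)

Claim E: if `N_A(Q) = Q` and all linear characters of `Q` trivial on `L` are real, then all
odd-degree irreducible characters of `A` trivial on `L` are real.
-/

set_option autoImplicit false
set_option linter.unusedSectionVars false
set_option linter.unusedVariables false

namespace Cfsg.Agent.Lib.Helper15_ROMainE

open Cfsg
open scoped ComplexConjugate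
open Cfsg.Agent.Lib.Helper75_Induced Cfsg.Agent.Lib.Helper75_Clifford
  Cfsg.Agent.Lib.Helper75_CharArith Cfsg.Agent.Lib.Helper3_CharBridge
  Cfsg.Agent.Lib.Helper3_CharOrtho Cfsg.Agent.Lib.Helper15_ROBasic
  Cfsg.Agent.Lib.Helper75_LinChar Cfsg.Agent.Lib.Helper15_ROChar
  Cfsg.Agent.Lib.Helper15_ROCliff Cfsg.Agent.Lib.Helper15_ROValid
  Cfsg.Agent.Lib.Helper71_ROStruct
  Cfsg.Agent.Lib.Helper71_ROSylow Cfsg.Agent.Lib.Helper21_ROReal
  Cfsg.Agent.Lib.Helper75_ROSupp Cfsg.Agent.Lib.Helper13_ROLin Cfsg.Agent.Lib.Helper15_ROGlue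
  Cfsg.Agent.Lib.Helper15_ROMainD

universe u

variable {G : Type u} [Group G] [Finite G]

/-- all linear characters of `Q` trivial on `L` are real -/
def LinReal (Q L : Subgroup G) : Prop :=
  ∀ μ : IrrCharacter Q, (μ : Q → ℂ) 1 = 1 → TrivOn L (μ : Q → ℂ) → IsRealF (μ : Q → ℂ)

theorem lin_of_odd_two {B L : Subgroup G} (hLB : L ≤ B)
    (hn : B ≤ Subgroup.normalizer (L : Set G)) (h2 : ∃ k : ℕ, L.relIndex B = 2 ^ k)
    (χ : IrrCharacter B) (hd : Odd (charDegree (χ : B → ℂ))) (ht : TrivOn L (χ : B → ℂ)) :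
    (χ : B → ℂ) 1 = 1 := by
  obtain ⟨k, hk⟩ := h2
  have h1 := deg_dvd_relIndex hLB hn χ ht
  rw [hk] at h1
  exact one_of_charDegree χ (eq_one_of_odd_of_dvd_pow hd h1)

theorem charDegree_aInd {A T : Subgroup G} (hTA : T ≤ A) (η : IrrCharacter T)
    (χ : IrrCharacter A) (h : aInd A (η : T → ℂ) = (χ : A → ℂ)) :
    charDegree (χ : A → ℂ) = T.relIndex A * charDegree (η : T → ℂ) := by
  have h1 := Cfsg.Agent.Lib.Helper77_BlockBasics.apply_one_eq_charDegree χ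
  have h2 := Cfsg.Agent.Lib.Helper77_BlockBasics.apply_one_eq_charDegree η
  have h3 : (χ : A → ℂ) 1 = (T.relIndex A : ℂ) * (η : T → ℂ) 1 := by
    rw [← h, aInd_one hTA]
  rw [h1, h2] at h3
  exact_mod_cast h3

theorem le_stb_self {A K : Subgroup G} (hKA : K ≤ A) {θ : K → ℂ}
    (hθ : IsClassFunction K θ) : K ≤ stb A K θ := by
  intro k hk
  refine ⟨hKA hk, Subgroup.le_normalizer hk, ?_⟩
  funext m
  rw [cj_apply (Subgroup.le_normalizer hk)]
  exact hθ m ⟨k, hk⟩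

/-- an odd-degree character has a `Q`-invariant constituent on a normal subgroup -/
theorem exists_inv_constituent_amb {A L Q K : Subgroup G} (hv : Valid A L Q) (hLK : L ≤ K)
    (hKA : K ≤ A) (hnK : A ≤ Subgroup.normalizer (K : Set G)) (χ : IrrCharacter A)
    (hd : Odd (charDegree (χ : A → ℂ))) :
    ∃ θ : IrrCharacter K, Ov hKA (χ : A → ℂ) (θ : K → ℂ) ∧
      ∀ q ∈ Q, cj K q (θ : K → ℂ) = (θ : K → ℂ) := by
  obtain ⟨θ₀, hθ₀⟩ := exists_constituent hKA χ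
  obtain ⟨e, he⟩ := clifford_deg hKA hnK χ θ₀ hθ₀
  have hoddS : Odd ((stb A K (θ₀ : K → ℂ)).relIndex A) := by
    rw [he] at hd
    exact odd_of_mul_odd_left (odd_of_mul_odd_right hd)
  have hLS : L ≤ stb A K (θ₀ : K → ℂ) :=
    hLK.trans (le_stb_self hKA (isClassFunction_of_isIrrCharacter θ₀.2))
  obtain ⟨a, ha, haQ⟩ := exists_conj_le hv (stb_le A K _) hLS hoddS
  have haN := hnK ha
  refine ⟨⟨cj K a (θ₀ : K → ℂ), isIrr_cj hKA hnK θ₀.2 ha⟩,
    (ov_cj hKA hnK (isClassFunction_of_isIrrCharacter χ.2) _ ha).mpr hθ₀, ?_⟩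
  intro q hq
  have hqN := hnK (hv.hQA hq)
  show cj K q (cj K a (θ₀ : K → ℂ)) = cj K a (θ₀ : K → ℂ)
  have h1 := haQ q hq
  have h2 : cj K (a * q * a⁻¹) (θ₀ : K → ℂ) = (θ₀ : K → ℂ) := h1.2.2
  rw [cj_cj haN hqN]
  have e1 : a * q = a * q * a⁻¹ * a := by group
  rw [e1, ← cj_cj h1.2.1 haN, h2]

/-- a `Q`-invariant linear character of an odd normal section is trivial when `N_A(Q) = Q` -/
theorem inv_lin_trivial {A L Q K : Subgroup G} (hv : Valid A L Q) (hLK : L ≤ K) (hKA : K ≤ A)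
    (hnK : A ≤ Subgroup.normalizer (K : Set G)) (hodd : Odd (L.relIndex K))
    (hN : A ⊓ Subgroup.normalizer (Q : Set G) ≤ Q) (θ : IrrCharacter K)
    (h1 : (θ : K → ℂ) 1 = 1) (ht : TrivOn L (θ : K → ℂ))
    (hinv : ∀ q ∈ Q, cj K q (θ : K → ℂ) = (θ : K → ℂ)) : ∀ k : K, (θ : K → ℂ) k = 1 := by
  have hl := isLin_of_one θ h1
  set K₂ := kerA K (θ : K → ℂ) hl with hK₂
  have hK₂K : K₂ ≤ K := kerA_le hl
  have hinv' : ∀ q ∈ Q, ∀ (x : G) (hx : x ∈ K) (hx' : q * x * q⁻¹ ∈ K),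
      (θ : K → ℂ) ⟨q * x * q⁻¹, hx'⟩ = (θ : K → ℂ) ⟨x, hx⟩ := by
    intro q hq x hx hx'
    have := congrFun (hinv q hq) ⟨x, hx⟩
    rw [cj_apply (hnK (hv.hQA hq))] at this
    exact this
  have hQK₂ : Q ≤ Subgroup.normalizer (K₂ : Set G) := by
    intro q hq
    have hqN := hnK (hv.hQA hq)
    rw [Subgroup.mem_normalizer_iff]
    intro x
    constructor
    · rintro ⟨hx, hx1⟩
      have hx' := conj_mem_of_mem_normalizer hqN hx
      exact ⟨hx', by rw [hinv' q hq x hx hx']; exact hx1⟩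
    · rintro ⟨hx', hx1⟩
      have hx : x ∈ K := by
        have := conj_mem_of_mem_normalizer (Subgroup.inv_mem _ hqN) hx'
        have e : q⁻¹ * (q * x * q⁻¹) * q⁻¹⁻¹ = x := by group
        rw [e] at this
        exact this
      exact ⟨hx, by rw [← hinv' q hq x hx hx']; exact hx1⟩
  intro k
  obtain ⟨k, hk⟩ := k
  have hkA := hKA hk
  have hconj : ∀ q ∈ Q, k * q * k⁻¹ ∈ K₂ ⊔ Q := by
    intro q hq
    have hqN := hnK (hv.hQA hq)
    have hc' : q * k⁻¹ * q⁻¹ ∈ K := conj_mem_of_mem_normalizer hqN (K.inv_mem hk)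
    have hc : k * (q * k⁻¹ * q⁻¹) ∈ K₂ := by
      refine ⟨K.mul_mem hk hc', ?_⟩
      have h3 := hl.map_mul ⟨k, hk⟩ ⟨q * k⁻¹ * q⁻¹, hc'⟩
      have h4 : (θ : K → ℂ) (⟨k, hk⟩ * ⟨q * k⁻¹ * q⁻¹, hc'⟩) =
          (θ : K → ℂ) ⟨k * (q * k⁻¹ * q⁻¹), K.mul_mem hk hc'⟩ := rfl
      rw [← h4, h3, hinv' q hq k⁻¹ (K.inv_mem hk) hc']
      have h5 := hl.map_mul ⟨k, hk⟩ ⟨k⁻¹, K.inv_mem hk⟩
      rw [← h5]
      have h6 : (⟨k, hk⟩ * ⟨k⁻¹, K.inv_mem hk⟩ : K) = 1 := by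
        ext; simp
      rw [h6]
      exact h1
    have e : k * q * k⁻¹ = k * (q * k⁻¹ * q⁻¹) * q := by group
    rw [e]
    exact Subgroup.mul_mem _ (Subgroup.mem_sup_left hc) (Subgroup.mem_sup_right hq)
  have hSA : K₂ ⊔ Q ≤ A := sup_le (hK₂K.trans hKA) hv.hQA
  obtain ⟨s, hs, hsn⟩ := exists_mem_normalizer hv hSA le_sup_right hkA hconj
  obtain ⟨k₂, hk₂, q', hq', rfl⟩ := exists_mul_of_mem_sup hQK₂ hs
  have h7 : (k₂ * q')⁻¹ * k ∈ Q :=
    hN (Subgroup.mem_inf.mpr ⟨A.mul_mem (A.inv_mem (hSA hs)) hkA, hsn⟩)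
  have h8 : k₂⁻¹ * k ∈ Q := by
    have := Q.mul_mem hq' h7
    have e : q' * ((k₂ * q')⁻¹ * k) = k₂⁻¹ * k := by group
    rw [e] at this
    exact this
  have h9 : k₂⁻¹ * k ∈ L := by
    rw [← inf_eq_of_odd hv hLK hodd]
    exact Subgroup.mem_inf.mpr ⟨K.mul_mem (K.inv_mem (hK₂K hk₂)) hk, h8⟩
  obtain ⟨hk₂K, hk₂1⟩ := hk₂
  have h10 := hl.map_mul ⟨k₂, hk₂K⟩ ⟨k₂⁻¹ * k, hLK h9⟩
  have h11 : (⟨k₂, hk₂K⟩ * ⟨k₂⁻¹ * k, hLK h9⟩ : K) = ⟨k, hk⟩ := by
    ext; simp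
  rw [h11, hk₂1, ht ⟨k₂⁻¹ * k, hLK h9⟩ h9, h1, mul_one] at h10
  exact h10

theorem linReal_sup {L Q K : Subgroup G} (hLK : L ≤ K)
    (hn : Q ≤ Subgroup.normalizer (K : Set G)) (h : LinReal Q L) : LinReal (K ⊔ Q) K := by
  intro μ' h1 ht
  have hl' := isLin_of_one μ' h1
  have : Fintype Q := Fintype.ofFinite Q
  have hlμ : IsLin Q (rs le_sup_right (μ' : ↥(K ⊔ Q) → ℂ)) :=
    ⟨isCharacter_rs le_sup_right hl'.1, by rw [rs_one]; exact h1⟩
  have hμr := h ⟨_, hlμ.irr⟩ hlμ.2 ((ht.mono hLK).rs le_sup_right)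
  intro x
  obtain ⟨x, hx⟩ := x
  obtain ⟨k, hk, q, hq, rfl⟩ := exists_mul_of_mem_sup hn hx
  have h2 := hl'.map_mul ⟨k, Subgroup.mem_sup_left hk⟩ ⟨q, Subgroup.mem_sup_right hq⟩
  have h3 : (⟨k, Subgroup.mem_sup_left hk⟩ * ⟨q, Subgroup.mem_sup_right hq⟩ : ↥(K ⊔ Q)) =
      ⟨k * q, hx⟩ := rfl
  rw [← h3, h2, ht ⟨k, Subgroup.mem_sup_left hk⟩ hk, h1, one_mul]
  exact hμr ⟨q, hq⟩

variable [Group.IsSolvable G]

theorem claimE : ∀ n : ℕ, ∀ A L Q : Subgroup G, Valid A L Q → L.relIndex A = n →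
    A ⊓ Subgroup.normalizer (Q : Set G) ≤ Q → LinReal Q L → AllReal A L := by
  intro n
  induction n using Nat.strong_induction_on with
  | _ n ih =>
  intro A L Q hv hn hN hLR χ hd ht
  by_cases hQA : Q = A
  · subst hQA
    exact hLR χ (lin_of_odd_two hv.hLQ hv.hn hv.h2 χ hd ht) ht
  have hχc := isCharacter_of_isIrrCharacter χ.2
  rcases struct hv hQA with ⟨K, hLK, hKA, hnK, hodd, hab⟩ | ⟨M, hLM, hMQ, hnM, h4⟩
  · -- an odd normal abelian section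
    obtain ⟨θ, hθ, hinv⟩ := exists_inv_constituent_amb hv hLK.le hKA hnK χ hd
    have hθL : TrivOn L (θ : K → ℂ) :=
      trivOn_constituent (isCharacter_rs hKA hχc) (ht.rs hKA) θ hθ
    have hθ1 := deg_one_of_abelian hLK.le (hKA.trans hv.hn) hab θ hθL
    have hall := inv_lin_trivial hv hLK.le hKA hnK hodd hN θ hθ1 hθL hinv
    have hθe : (θ : K → ℂ) = fun _ => 1 := funext hall
    have hχK : TrivOn K (χ : A → ℂ) :=
      trivOn_of_ov_one hKA hnK χ (by rw [← hθe]; exact hθ)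
    have hv' := valid_oddUp hv hLK.le hKA hnK hodd
    have hN' : A ⊓ Subgroup.normalizer ((K ⊔ Q : Subgroup G) : Set G) ≤ K ⊔ Q :=
      (frattini hv hKA).trans (sup_le le_sup_left (hN.trans le_sup_right))
    exact ih _ (by rw [← hn]; exact relIndex_lt hLK hKA) A K (K ⊔ Q) hv' rfl hN'
      (linReal_sup hLK.le (hv.hQA.trans hnK) hLR) χ hd hχK
  · -- a normal 2-section
    have hMA := hMQ.trans hv.hQA
    have : Fintype Q := Fintype.ofFinite Q
    have : Fintype M := Fintype.ofFinite M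
    obtain ⟨μ, hμ, hμd⟩ := exists_odd_constituent (isCharacter_rs hv.hQA hχc)
      (n := charDegree (χ : A → ℂ))
      (by rw [rs_one]; exact Cfsg.Agent.Lib.Helper77_BlockBasics.apply_one_eq_charDegree χ) hd
    rw [← ip_eq] at hμ
    have hμL : TrivOn L (μ : Q → ℂ) :=
      trivOn_constituent (isCharacter_rs hv.hQA hχc) (ht.rs hv.hQA) μ hμ
    have hμ1 := lin_of_odd_two hv.hLQ (hv.hQA.trans hv.hn) hv.h2 μ hμd hμL
    have hμr := hLR μ hμ1 hμL
    have hlμ := isLin_of_one μ hμ1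
    have hlnu : IsLin M (rs hMQ (μ : Q → ℂ)) :=
      ⟨isCharacter_rs hMQ hlμ.1, by rw [rs_one]; exact hμ1⟩
    set lam : IrrCharacter M := ⟨rs hMQ (μ : Q → ℂ), hlnu.irr⟩ with hlam
    have hov2 : Ov hMQ (μ : Q → ℂ) (lam : M → ℂ) := by
      unfold Ov
      rw [ip_eq]
      show classInner (lam : M → ℂ) (lam : M → ℂ) ≠ 0
      rw [classInner_self_of_isIrrCharacter lam.2]
      exact one_ne_zero
    have hov : Ov hMA (χ : A → ℂ) (lam : M → ℂ) :=
      ov_trans hv.hQA hMQ hχc μ hμ (isCharacter_of_isIrrCharacter lam.2) hov2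
    have hlamr : IsRealF (lam : M → ℂ) := hμr.rs hMQ
    rcases real_lin_eq lam hlnu.2 hlamr with h1 | ⟨V, hVM, hV2, hVe, hVk⟩
    · have hχM : TrivOn M (χ : A → ℂ) :=
        trivOn_of_ov_one hMA hnM χ (by rw [← h1]; exact hov)
      exact ih _ (by rw [← hn]; exact relIndex_lt hLM hMA) A M Q (valid_up hv hLM.le hMQ hnM) rfl
        hN (fun μ h1 ht => hLR μ h1 (ht.mono hLM.le)) χ hd hχM
    · have hLV : L ≤ V := by
        intro l hl
        apply hVk ⟨l, hLM.le hl⟩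
        show (μ : Q → ℂ) ⟨l, _⟩ = 1
        rw [hμL ⟨l, _⟩ hl, hμ1]
      have hQV : Q ≤ Subgroup.normalizer (V : Set G) := by
        intro q hq
        apply (cj_sgn_iff hVM (hnM (hv.hQA hq))).mp
        rw [← hVe]
        funext m
        rw [cj_apply (hnM (hv.hQA hq))]
        exact isClassFunction_of_isIrrCharacter μ.2 ⟨(m : G), hMQ m.2⟩ ⟨q, hq⟩
      obtain ⟨T, hT⟩ : ∃ T : Subgroup G, T = A ⊓ Subgroup.normalizer (V : Set G) := ⟨_, rfl⟩
      have hQT : Q ≤ T := by rw [hT]; exact le_inf hv.hQA hQV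
      have hMT := le_T hMA hVM hV2 hT
      have hTA := T_le hT
      have hnVT : T ≤ Subgroup.normalizer (V : Set G) := by rw [hT]; exact inf_le_right
      obtain ⟨η, hη, hηχ⟩ := ac_surj hMA hnM hVM hV2 hT χ (by rw [← hVe]; exact hov)
      have hηV := ((ov_sgn_iff hMT (hTA.trans hnM) hnVT hVM hV2 η).mp hη).1
      have hdeg := charDegree_aInd hTA η χ hηχ
      have hηd : Odd (charDegree (η : T → ℂ)) := by
        rw [hdeg] at hd
        exact odd_of_mul_odd_right hd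
      have hLneV : L < V := by
        refine lt_of_le_of_ne hLV ?_
        intro h
        rw [← h] at hV2
        omega
      have hv' := valid_sub hv hQT hTA hLV (hVM.trans hMQ) hnVT
      have hlt : V.relIndex T < n := by
        rw [← hn]
        exact lt_of_le_of_lt (relIndex_le_of_le (hVM.trans hMT) hTA)
          (relIndex_lt hLneV (hVM.trans hMA))
      have hηr := ih _ hlt T V Q hv' rfl ((inf_le_inf_right _ hTA).trans hN)
        (fun μ h1 ht => hLR μ h1 (ht.mono hLV)) η hηd hηV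
      rw [← hηχ]
      exact isRealF_aInd A hηr

end Cfsg.Agent.Lib.Helper15_ROMainE
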