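import Cfsg.Agent.Lib.Helper75_ROSupp
import Cfsg.Agent.Lib.Helper15_ROMainD

/-!
# S4581: passage between a group `G` and its top subgroup (helper15)
-/

set_option autoImplicit false
set_option linter.unusedSectionVars false

namespace Cfsg.Agent.Lib.Helper15_ROTop

open Cfsg
open Cfsg.Agent.Lib.Helper15_ROBasic Cfsg.Agent.Lib.Helper15_ROChar
  Cfsg.Agent.Lib.Helper75_RelGlaubQuot Cfsg.Agent.Lib.Helper75_ROSupp
  Cfsg.Agent.Lib.Helper15_ROMainD

universe u

variable {G : Type u} [Group G]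

theorem trivOn_bot' {A : Subgroup G} (f : A → ℂ) : TrivOn (⊥ : Subgroup G) f := by
  intro a ha
  have : a = 1 := Subtype.ext (Subgroup.mem_bot.mp ha)
  rw [this]

variable [Finite G]

theorem card_sub (N : Subgroup G) : Nat.card {ψ : IrrCharacter ↥N //
    (∀ g, ((ψ : ↥N → ℂ) g).im = 0) ∧ Odd (charDegree (ψ : ↥N → ℂ))} = Nat.card (RO N ⊥) := by
  refine Nat.card_congr (Equiv.subtypeEquivRight ?_)
  intro ψ
  exact ⟨fun h => ⟨h.1, h.2, trivOn_bot' _⟩, fun h => ⟨h.1, h.2.1⟩⟩

theorem top_surj : Function.Surjective ((⊤ : Subgroup G).subtype) := by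
  intro g
  exact ⟨⟨g, Subgroup.mem_top g⟩, rfl⟩

theorem top_ker (a : (⊤ : Subgroup G)) :
    (⊤ : Subgroup G).subtype a = 1 ↔ (a : G) ∈ (⊥ : Subgroup G) := by
  rw [Subgroup.mem_bot]
  rfl

theorem card_top : Nat.card {χ : IrrCharacter G // (∀ g : G, ((χ : G → ℂ) g).im = 0) ∧
    Odd (charDegree (χ : G → ℂ))} = Nat.card (RO (⊤ : Subgroup G) ⊥) := by
  rw [card_RO_eq_of_surj ((⊤ : Subgroup G).subtype) top_surj top_ker]
  rfl

theorem allReal_top_iff : (∀ χ : IrrCharacter G, Odd (charDegree (χ : G → ℂ)) →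
    ∀ g : G, ((χ : G → ℂ) g).im = 0) ↔ AllReal (⊤ : Subgroup G) ⊥ := by
  classical
  have : Fintype G := Fintype.ofFinite G
  have : Fintype (⊤ : Subgroup G) := Fintype.ofFinite _
  constructor
  · intro hall χ hodd _ a
    obtain ⟨δ, hδ⟩ := exists_infl ((⊤ : Subgroup G).subtype) top_surj χ
      (fun c hc => by
        have : c = 1 := Subtype.ext hc
        rw [this])
    have hd : charDegree (δ : G → ℂ) = charDegree (χ : (⊤ : Subgroup G) → ℂ) := by
      unfold charDegree
      rw [hδ, infl_apply, map_one]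
    rw [hδ, infl_apply]
    exact hall δ (hd ▸ hodd) _
  · intro hA χ hodd g
    have hd : charDegree (infl ((⊤ : Subgroup G).subtype) top_surj χ : (⊤ : Subgroup G) → ℂ) =
        charDegree (χ : G → ℂ) := by
      unfold charDegree
      rw [infl_apply, map_one]
    have := hA (infl ((⊤ : Subgroup G).subtype) top_surj χ) (hd ▸ hodd) (trivOn_bot' _)
      ⟨g, Subgroup.mem_top g⟩
    rwa [infl_apply] at this

end Cfsg.Agent.Lib.Helper15_ROTop
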