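import Mathlib
import Cfsg.Agent.Lib.Helper81_JointEigen

/-!
# Heisenberg-type data and lower bounds for complex representations (helper15)

Abstract part of the minimal-degree bound for the Ree groups `²G₂(q)` (S2343).

`HeisData K G` : maps `z b a : K → G`, `h : Kˣ → G` with `z`, `b` additive, `z` commuting with
`b` and `a`, `b u * a t = a t * b u * z (c t u)` (`c ≠ 0`) and `h μ * z v = z (μ v) * h μ`.

* `card_le`  : a representation on which some `z v₀` acts non-trivially has dimension at least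
  `q (q - 1)`, `q = |K|`;
* `trace_eq_zero` : if the dimension is exactly `q (q - 1)`, then every `h ν`, `ν ≠ 1`, has
  trace zero.
-/

set_option autoImplicit false
set_option linter.unusedSectionVars false

namespace Cfsg.Agent.Lib.Helper15_ReeAbs

open Module Cfsg.Agent.Lib.Helper81_JointEigen Cfsg.Agent.Lib.Helper37_RepBound

/-- Heisenberg-type data inside a group `G`, parametrised by a field `K` -/
structure HeisData (K G : Type*) [Field K] [Group G] where
  z : K → G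
  b : K → G
  a : K → G
  h : Kˣ → G
  c : K
  hc : c ≠ 0
  z_add : ∀ u v, z (u + v) = z u * z v
  b_add : ∀ u v, b (u + v) = b u * b v
  zb : ∀ v u, z v * b u = b u * z v
  za : ∀ v t, z v * a t = a t * z v
  ba : ∀ u t, b u * a t = a t * b u * z (c * t * u)
  hz : ∀ (μ : Kˣ) v, h μ * z v = z (μ * v) * h μ

namespace HeisData

variable {K G : Type*} [Field K] [Group G] (D : HeisData K G)

theorem z_zero : D.z 0 = 1 := by
  have h := D.z_add 0 0
  rw [add_zero] at h
  have h2 : D.z 0 * D.z 0 = D.z 0 * 1 := by rw [← h, mul_one]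
  exact mul_left_cancel h2

theorem b_zero : D.b 0 = 1 := by
  have h := D.b_add 0 0
  rw [add_zero] at h
  have h2 : D.b 0 * D.b 0 = D.b 0 * 1 := by rw [← h, mul_one]
  exact mul_left_cancel h2

theorem z_nsmul (n : ℕ) (v : K) : D.z (n • v) = D.z v ^ n := by
  induction n with
  | zero => rw [zero_smul, pow_zero, z_zero]
  | succ n ih => rw [succ_nsmul, D.z_add, ih, pow_succ]

theorem b_nsmul (n : ℕ) (v : K) : D.b (n • v) = D.b v ^ n := by
  induction n with
  | zero => rw [zero_smul, pow_zero, b_zero]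
  | succ n ih => rw [succ_nsmul, D.b_add, ih, pow_succ]

theorem z_pow_char (p : ℕ) [CharP K p] (v : K) : D.z v ^ p = 1 := by
  rw [← z_nsmul, nsmul_eq_mul, CharP.cast_eq_zero, zero_mul, z_zero]

theorem b_pow_char (p : ℕ) [CharP K p] (v : K) : D.b v ^ p = 1 := by
  rw [← b_nsmul, nsmul_eq_mul, CharP.cast_eq_zero, zero_mul, b_zero]

theorem z_comm (u v : K) : D.z u * D.z v = D.z v * D.z u := by
  rw [← D.z_add, ← D.z_add, add_comm]

theorem b_comm (u v : K) : D.b u * D.b v = D.b v * D.b u := by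
  rw [← D.b_add, ← D.b_add, add_comm]

variable {V : Type*} [AddCommGroup V] [Module ℂ V] [FiniteDimensional ℂ V]
  (ρ : Representation ℂ G V)

theorem rho_inv_apply (g : G) (x : V) : ρ g⁻¹ (ρ g x) = x := by
  rw [← Module.End.mul_apply, ← map_mul, inv_mul_cancel, map_one, Module.End.one_apply]

theorem rho_injective (g : G) : Function.Injective (ρ g) := by
  intro x y hxy
  rw [← rho_inv_apply ρ g x, hxy, rho_inv_apply]

/-- the commuting family `z`, `b` -/
noncomputable def fam : K ⊕ K → Module.End ℂ V := Sum.elim (fun v => ρ (D.z v)) (fun u => ρ (D.b u))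

theorem fam_pow (p : ℕ) [CharP K p] (i : K ⊕ K) : D.fam ρ i ^ p = 1 := by
  rcases i with v | u
  · show ρ (D.z v) ^ p = 1
    rw [← map_pow, z_pow_char, map_one]
  · show ρ (D.b u) ^ p = 1
    rw [← map_pow, b_pow_char, map_one]

theorem fam_comm (i j : K ⊕ K) : Commute (D.fam ρ i) (D.fam ρ j) := by
  rcases i with v | u <;> rcases j with v' | u'
  · show ρ (D.z v) * ρ (D.z v') = ρ (D.z v') * ρ (D.z v)
    rw [← map_mul, ← map_mul, z_comm]
  · show ρ (D.z v) * ρ (D.b u') = ρ (D.b u') * ρ (D.z v)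
    rw [← map_mul, ← map_mul, D.zb]
  · show ρ (D.b u) * ρ (D.z v') = ρ (D.z v') * ρ (D.b u)
    rw [← map_mul, ← map_mul, D.zb]
  · show ρ (D.b u) * ρ (D.b u') = ρ (D.b u') * ρ (D.b u)
    rw [← map_mul, ← map_mul, b_comm]

/-- weight space of the `z`-family -/
noncomputable def E (χ : K → ℂ) : Submodule ℂ V := jointEigenspace (fun v => ρ (D.z v)) χ

/-- weight space of the `(z, b)`-family -/
noncomputable def F (χ β : K → ℂ) : Submodule ℂ V := jointEigenspace (D.fam ρ) (Sum.elim χ β)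

theorem mem_E {χ : K → ℂ} {x : V} : x ∈ D.E ρ χ ↔ ∀ v, ρ (D.z v) x = χ v • x :=
  mem_jointEigenspace _ _ _

theorem mem_F {χ β : K → ℂ} {x : V} :
    x ∈ D.F ρ χ β ↔ (∀ v, ρ (D.z v) x = χ v • x) ∧ (∀ u, ρ (D.b u) x = β u • x) := by
  unfold F
  rw [mem_jointEigenspace, Sum.forall]
  rfl

theorem F_le_E (χ β : K → ℂ) : D.F ρ χ β ≤ D.E ρ χ := fun _ hx =>
  (D.mem_E ρ).2 ((D.mem_F ρ).1 hx).1

/-- a non-zero weight space gives an additive character -/
theorem chi_add {χ : K → ℂ} (hE : D.E ρ χ ≠ ⊥) (u v : K) : χ (u + v) = χ u * χ v := by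
  obtain ⟨x, hxE, hx⟩ := Submodule.exists_mem_ne_zero_of_ne_bot hE
  rw [mem_E] at hxE
  have h1 : χ (u + v) • x = (χ u * χ v) • x := by
    rw [← hxE, D.z_add, map_mul, Module.End.mul_apply, hxE v, map_smul, hxE u, smul_smul,
      mul_comm]
  by_contra hne
  have h2 : (χ (u + v) - χ u * χ v) • x = 0 := by rw [sub_smul, h1, sub_self]
  rcases smul_eq_zero.1 h2 with h | h
  · exact hne (sub_eq_zero.1 h)
  · exact hx h

theorem chi_zero {χ : K → ℂ} (hE : D.E ρ χ ≠ ⊥) : χ 0 = 1 := by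
  obtain ⟨x, hxE, hx⟩ := Submodule.exists_mem_ne_zero_of_ne_bot hE
  rw [mem_E] at hxE
  have h1 := hxE 0
  rw [z_zero, map_one, Module.End.one_apply] at h1
  by_contra hne
  have h2 : (1 - χ 0) • x = 0 := by rw [sub_smul, one_smul, ← h1, sub_self]
  rcases smul_eq_zero.1 h2 with h | h
  · exact hne (sub_eq_zero.1 h).symm
  · exact hx h

/-- if two dilates of a non-trivial additive character agree, the dilation factors agree -/
theorem dilate_inj {χ : K → ℂ} (hadd : ∀ u v, χ (u + v) = χ u * χ v) (h0 : χ 0 = 1)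
    {v₀ : K} (hv₀ : χ v₀ ≠ 1) {k k' : K} (h : ∀ u, χ (k * u) = χ (k' * u)) : k = k' := by
  by_contra hne
  have hk : k - k' ≠ 0 := sub_ne_zero.2 hne
  have hnz : ∀ y, χ y ≠ 0 := by
    intro y hy
    have := hadd y (-y)
    rw [add_neg_cancel, h0, hy, zero_mul] at this
    exact one_ne_zero this
  apply hv₀
  have h1 := hadd ((k - k') * ((k - k')⁻¹ * v₀)) (k' * ((k - k')⁻¹ * v₀))
  have h2 : (k - k') * ((k - k')⁻¹ * v₀) + k' * ((k - k')⁻¹ * v₀) = k * ((k - k')⁻¹ * v₀) := by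
    ring
  rw [h2, h, mul_inv_cancel_left₀ hk] at h1
  exact (mul_eq_right₀ (hnz _)).1 h1.symm

/-- the torus permutes the `z`-weight spaces -/
theorem h_maps_E (μ : Kˣ) {χ : K → ℂ} {x : V} (hx : x ∈ D.E ρ χ) :
    ρ (D.h μ) x ∈ D.E ρ (fun v => χ ((μ⁻¹ : Kˣ) * v)) := by
  rw [mem_E] at hx ⊢
  intro v
  have h1 : D.z v * D.h μ = D.h μ * D.z ((μ⁻¹ : Kˣ) * v) := by
    rw [D.hz, Units.mul_inv_cancel_left]
  rw [← Module.End.mul_apply, ← map_mul, h1, map_mul, Module.End.mul_apply, hx, map_smul]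

/-- `a t` moves the `(z, b)`-weight spaces -/
theorem a_maps_F (t : K) {χ β : K → ℂ} {x : V} (hx : x ∈ D.F ρ χ β) :
    ρ (D.a t) x ∈ D.F ρ χ (fun u => β u * χ (D.c * t * u)) := by
  rw [mem_F] at hx ⊢
  refine ⟨fun v => ?_, fun u => ?_⟩
  · rw [← Module.End.mul_apply, ← map_mul, D.za, map_mul, Module.End.mul_apply, hx.1, map_smul]
  · rw [← Module.End.mul_apply, ← map_mul, D.ba, map_mul, map_mul, Module.End.mul_apply,
      Module.End.mul_apply, hx.1, map_smul, hx.2, map_smul, map_smul, smul_smul, mul_comm]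

section Main

variable [Fintype K]

/-- existence of a `(z, b)`-weight which is non-trivial at `v₀` -/
theorem exists_weight {v₀ : K} (hv₀ : ρ (D.z v₀) ≠ 1) :
    ∃ χ β : K → ℂ, D.F ρ χ β ≠ ⊥ ∧ χ v₀ ≠ 1 := by
  classical
  by_contra hcon
  push Not at hcon
  apply hv₀
  obtain ⟨p, hp⟩ := CharP.exists K
  have := hp
  have hp0 : (p : ℂ) ≠ 0 := by exact_mod_cast CharP.char_ne_zero_of_finite K p
  have htop := iSup_jointEigenspace hp0 (D.fam ρ) (D.fam_pow ρ p) (D.fam_comm ρ)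
  have hle : (⨆ ω : K ⊕ K → ℂ, jointEigenspace (D.fam ρ) ω) ≤
      Module.End.eigenspace (ρ (D.z v₀)) 1 := by
    apply iSup_le
    intro ω
    by_cases hω : jointEigenspace (D.fam ρ) ω = ⊥
    · rw [hω]; exact bot_le
    · have hω' : Sum.elim (fun v => ω (Sum.inl v)) (fun u => ω (Sum.inr u)) = ω := by
        funext i; cases i <;> rfl
      have h1 : ω (Sum.inl v₀) = 1 := by
        apply hcon (fun v => ω (Sum.inl v)) (fun u => ω (Sum.inr u))
        unfold F
        rw [hω']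
        exact hω
      intro x hx
      rw [mem_jointEigenspace] at hx
      rw [Module.End.mem_eigenspace_iff, ← h1]
      exact hx (Sum.inl v₀)
  rw [htop] at hle
  ext x
  have := hle (Submodule.mem_top : x ∈ ⊤)
  rw [Module.End.mem_eigenspace_iff, one_smul] at this
  rw [this, Module.End.one_apply]

/-- a non-trivial `z`-weight space containing a `(z, b)`-weight vector has dimension `≥ q` -/
theorem card_le_finrank_E {χ β : K → ℂ} (hF : D.F ρ χ β ≠ ⊥) {v₀ : K} (hv₀ : χ v₀ ≠ 1) :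
    Fintype.card K ≤ finrank ℂ (D.E ρ χ) := by
  classical
  obtain ⟨p, hp⟩ := CharP.exists K
  have := hp
  have hp0 : (p : ℂ) ≠ 0 := by exact_mod_cast CharP.char_ne_zero_of_finite K p
  have hE : D.E ρ χ ≠ ⊥ := fun h => hF (le_bot_iff.1 (h ▸ D.F_le_E ρ χ β))
  have hadd := D.chi_add ρ hE
  have h0 := D.chi_zero ρ hE
  obtain ⟨x, hxF, hx⟩ := Submodule.exists_mem_ne_zero_of_ne_bot hF
  have hβ : ∀ u, β u ≠ 0 := by
    intro u hu
    have h1 := ((D.mem_F ρ).1 hxF).2 u
    rw [hu, zero_smul] at h1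
    exact hx (rho_injective ρ (D.b u) (by rw [h1, map_zero]))
  let ω : K → (K ⊕ K → ℂ) := fun t => Sum.elim χ (fun u => β u * χ (D.c * t * u))
  have hω : Function.Injective ω := by
    intro t t' htt
    have h1 : ∀ u, χ (D.c * t * u) = χ (D.c * t' * u) := by
      intro u
      have := congrFun htt (Sum.inr u)
      simp only [ω, Sum.elim_inr] at this
      exact mul_left_cancel₀ (hβ u) this
    have h2 := dilate_inj hadd h0 hv₀ h1
    exact mul_left_cancel₀ D.hc h2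
  have hne : ∀ t, jointEigenspace (D.fam ρ) (ω t) ≠ ⊥ := by
    intro t hbot
    have h1 : ρ (D.a t) x ∈ jointEigenspace (D.fam ρ) (ω t) := D.a_maps_F ρ t hxF
    rw [hbot, Submodule.mem_bot] at h1
    exact hx (rho_injective ρ (D.a t) (by rw [h1, map_zero]))
  have hind : iSupIndep fun t : K => jointEigenspace (D.fam ρ) (ω t) :=
    (iSupIndep_jointEigenspace hp0 (D.fam ρ) (D.fam_pow ρ p) (D.fam_comm ρ)).comp hω
  have h1 := finrank_biSup_of_iSupIndep hind Finset.univ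
  have h2 : (⨆ t ∈ (Finset.univ : Finset K), jointEigenspace (D.fam ρ) (ω t)) ≤ D.E ρ χ := by
    apply iSup₂_le
    intro t _
    exact D.F_le_E ρ χ _
  have h3 := Submodule.finrank_mono h2
  rw [h1] at h3
  have h4 : ∀ t, 1 ≤ finrank ℂ (jointEigenspace (D.fam ρ) (ω t)) := fun t =>
    Nat.one_le_iff_ne_zero.mpr fun h0 => hne t (Submodule.finrank_eq_zero.mp h0)
  calc Fintype.card K = ∑ _t : K, 1 := by simp
    _ ≤ ∑ t : K, finrank ℂ (jointEigenspace (D.fam ρ) (ω t)) :=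
        Finset.sum_le_sum fun t _ => h4 t
    _ ≤ _ := h3

/-- dilates of a character -/
def dil (χ : K → ℂ) (μ : Kˣ) : K → ℂ := fun v => χ (μ * v)

omit [Fintype K] in
theorem dil_one (χ : K → ℂ) : dil χ 1 = χ := by
  funext v
  show χ (((1 : Kˣ) : K) * v) = χ v
  rw [Units.val_one, one_mul]

omit [Fintype K] in
theorem dil_injective {χ : K → ℂ} (hadd : ∀ u v, χ (u + v) = χ u * χ v) (h0 : χ 0 = 1)
    {v₀ : K} (hv₀ : χ v₀ ≠ 1) : Function.Injective (dil χ) := by
  intro μ μ' h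
  exact Units.ext (dilate_inj hadd h0 hv₀ (fun u => congrFun h u))

omit [Fintype K] in
theorem h_maps_dil (ν μ : Kˣ) {χ : K → ℂ} {x : V} (hx : x ∈ D.E ρ (dil χ μ)) :
    ρ (D.h ν) x ∈ D.E ρ (dil χ (μ * ν⁻¹)) := by
  have h1 := D.h_maps_E ρ ν hx
  have h2 : dil χ (μ * ν⁻¹) = fun v => dil χ μ ((ν⁻¹ : Kˣ) * v) := by
    funext v
    show χ (((μ * ν⁻¹ : Kˣ) : K) * v) = χ ((μ : K) * (((ν⁻¹ : Kˣ) : K) * v))
    rw [Units.val_mul, mul_assoc]
  rw [h2]
  exact h1

omit [Fintype K] in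
theorem finrank_E_dil_le (χ : K → ℂ) (μ ν : Kˣ) :
    finrank ℂ (D.E ρ (dil χ μ)) ≤ finrank ℂ (D.E ρ (dil χ (μ * ν⁻¹))) := by
  have hmap : (D.E ρ (dil χ μ)).map (ρ (D.h ν)) ≤ D.E ρ (dil χ (μ * ν⁻¹)) := by
    rintro _ ⟨x, hx, rfl⟩
    exact D.h_maps_dil ρ ν μ hx
  have h1 := Submodule.finrank_mono hmap
  rwa [← LinearEquiv.finrank_eq
    (Submodule.equivMapOfInjective (ρ (D.h ν)) (rho_injective ρ _) _)] at h1

theorem z_indep : iSupIndep (D.E ρ) := by
  obtain ⟨p, hp⟩ := CharP.exists K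
  have := hp
  have hp0 : (p : ℂ) ≠ 0 := by exact_mod_cast CharP.char_ne_zero_of_finite K p
  exact iSupIndep_jointEigenspace hp0 (fun v => ρ (D.z v))
    (fun v => by rw [← map_pow, z_pow_char, map_one])
    (fun u v => by
      show ρ (D.z u) * ρ (D.z v) = ρ (D.z v) * ρ (D.z u)
      rw [← map_mul, ← map_mul, z_comm])

/-- the sum of the dimensions of the dilated weight spaces is at least `q (q - 1)` -/
theorem card_le_sum {χ β : K → ℂ} (hF : D.F ρ χ β ≠ ⊥) {v₀ : K} (hv₀ : χ v₀ ≠ 1)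
    [Fintype Kˣ] :
    Fintype.card K * (Fintype.card K - 1) ≤ ∑ μ : Kˣ, finrank ℂ (D.E ρ (dil χ μ)) := by
  classical
  have hq := D.card_le_finrank_E ρ hF hv₀
  have hge : ∀ μ : Kˣ, Fintype.card K ≤ finrank ℂ (D.E ρ (dil χ μ)) := by
    intro μ
    have := D.finrank_E_dil_le ρ χ 1 μ⁻¹
    rw [one_mul, inv_inv, dil_one] at this
    exact hq.trans this
  calc Fintype.card K * (Fintype.card K - 1) = ∑ _μ : Kˣ, Fintype.card K := by
        rw [Finset.sum_const, Finset.card_univ, ← Nat.card_eq_fintype_card (α := Kˣ),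
          Nat.card_units, Nat.card_eq_fintype_card, smul_eq_mul, mul_comm]
    _ ≤ ∑ μ : Kˣ, finrank ℂ (D.E ρ (dil χ μ)) := Finset.sum_le_sum fun μ _ => hge μ

/-- **Lower bound**: a representation on which some `z v₀` acts non-trivially has dimension at
least `q (q - 1)`. -/
theorem card_le {v₀ : K} (hv₀ : ρ (D.z v₀) ≠ 1) :
    Fintype.card K * (Fintype.card K - 1) ≤ finrank ℂ V := by
  classical
  obtain ⟨χ, β, hF, hχ⟩ := D.exists_weight ρ hv₀
  have hE : D.E ρ χ ≠ ⊥ := fun h => hF (le_bot_iff.1 (h ▸ D.F_le_E ρ χ β))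
  have hinj := dil_injective (D.chi_add ρ hE) (D.chi_zero ρ hE) hχ
  have hind : iSupIndep fun μ : Kˣ => D.E ρ (dil χ μ) := (D.z_indep ρ).comp hinj
  exact (D.card_le_sum ρ hF hχ).trans (sum_finrank_le_of_iSupIndep hind Finset.univ)

/-- **Equality case**: if the dimension is exactly `q (q - 1)`, every `h ν` with `ν ≠ 1` has
trace zero. -/
theorem trace_eq_zero {v₀ : K} (hv₀ : ρ (D.z v₀) ≠ 1)
    (hdim : finrank ℂ V = Fintype.card K * (Fintype.card K - 1)) (ν : Kˣ) (hν : ν ≠ 1) :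
    LinearMap.trace ℂ V (ρ (D.h ν)) = 0 := by
  classical
  obtain ⟨χ, β, hF, hχ⟩ := D.exists_weight ρ hv₀
  have hE : D.E ρ χ ≠ ⊥ := fun h => hF (le_bot_iff.1 (h ▸ D.F_le_E ρ χ β))
  have hinj := dil_injective (D.chi_add ρ hE) (D.chi_zero ρ hE) hχ
  have hind : iSupIndep fun μ : Kˣ => D.E ρ (dil χ μ) := (D.z_indep ρ).comp hinj
  have hfin := finrank_biSup_of_iSupIndep hind Finset.univ
  have htop : (⨆ μ : Kˣ, D.E ρ (dil χ μ)) = ⊤ := by
    apply Submodule.eq_top_of_finrank_eq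
    apply le_antisymm (Submodule.finrank_le _)
    have h1 : (⨆ μ ∈ (Finset.univ : Finset Kˣ), D.E ρ (dil χ μ)) =
        ⨆ μ : Kˣ, D.E ρ (dil χ μ) := by simp
    rw [← h1, hfin, hdim]
    exact D.card_le_sum ρ hF hχ
  have hint : DirectSum.IsInternal fun μ : Kˣ => D.E ρ (dil χ μ) :=
    DirectSum.isInternal_submodule_of_iSupIndep_of_iSup_eq_top hind htop
  exact LinearMap.trace_eq_zero_of_mapsTo_ne hint (fun μ => μ * ν⁻¹)
    (fun μ h => hν (by simpa using h)) (fun μ x hx => D.h_maps_dil ρ ν μ hx)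

end Main

end HeisData

end Cfsg.Agent.Lib.Helper15_ReeAbs
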