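import Cfsg.Agent.Lib.Helper36_ReeCubeAlg

/-!
# The group law of the fixed elements `W t u v` and a generation criterion (helper15)

In an abstract system of root elements of type `G₂` in characteristic 3 (`ReeSys` with the
remaining relations `ReeRel S 2 (-1)` and `ε = 1`):

* `W_mul` : `W t u v * W t' u' v' = W (t + t') (u + u' - φ t' t) (v + v' - t' u - φ t' t² + φ t' t t')`,
  `φ = θ³`;
* `mem_of_first_coord` : a subgroup containing, for every `t`, some `W t u v`, contains all of them
  (the Burnside basis theorem for this group, by explicit commutators).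
-/

set_option autoImplicit false

namespace Cfsg.Agent.Lib.Helper15_ReeGenAbs

open Cfsg.Agent.Lib.Helper36_ReeAlg Cfsg.Agent.Lib.Helper36_ReeCubeAlg

variable {Γ K : Type*} [Group Γ] [Field K] {S : ReeSys Γ K}

/-- `φ = θ³` -/
def phi (S : ReeSys Γ K) (t : K) : K := (S.θ t) ^ 3

theorem theta_phi (t : K) : S.θ (phi S t) = t := by
  unfold phi
  rw [map_pow]
  exact S.hθ t

theorem phi_phi (t : K) : phi S (phi S t) = t ^ 3 := by
  unfold phi
  rw [map_pow, S.hθ]

theorem phi_add (s t : K) : phi S (s + t) = phi S s + phi S t := by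
  unfold phi
  rw [map_add, S.cube_add]

theorem phi_mul (s t : K) : phi S (s * t) = phi S s * phi S t := by
  unfold phi
  rw [map_mul, mul_pow]

theorem phi_zero : phi S 0 = 0 := by
  unfold phi
  rw [map_zero]
  ring

theorem phi_one : phi S 1 = 1 := by
  unfold phi
  rw [map_one, one_pow]

theorem phi_neg (t : K) : phi S (-t) = -phi S t := by
  unfold phi
  rw [map_neg]
  ring

theorem phi_sub (s t : K) : phi S (s - t) = phi S s - phi S t := by
  rw [sub_eq_add_neg, phi_add, phi_neg, ← sub_eq_add_neg]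

section

variable (R : ReeRel S 2 (-1)) (hε : S.ε = 1)

include hε in
/-- the normal form of a fixed element (`ε = 1`) -/
theorem W_eq (t u v : K) : S.W t u v =
    S.N t (S.θ t) (S.θ u) (S.θ v) ((S.θ t) ^ 3 * t + u) ((S.θ t) ^ 3 * t ^ 2 + v) := by
  rw [S.W_eq_N, hε]
  simp only [one_mul]

include R hε in
/-- the group law of the fixed elements -/
theorem W_mul (t u v t' u' v' : K) :
    S.W t u v * S.W t' u' v' =
      S.W (t + t') (u + u' - phi S t' * t)
        (v + v' - t' * u - phi S t' * t ^ 2 + phi S t' * t * t') := by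
  have h3 : (3 : K) = 0 := R.three
  have e1 : (S.θ (S.θ t')) ^ 3 = t' := S.hθ t'
  rw [W_eq hε, W_eq hε, W_eq hε, N_mul R, hε]
  unfold phi
  congr 1
  · rw [map_add]
  · simp only [map_add, map_sub, map_mul, map_pow, e1]
    ring
  · simp only [map_add, map_sub, map_mul, map_pow, e1]
    linear_combination (S.θ t' * S.θ u - S.θ t' * S.θ t * t') * h3
  · simp only [map_add]
    linear_combination (-((S.θ t) ^ 2 * S.θ t' + S.θ t * (S.θ t') ^ 2) * (t + t')) * h3
  · simp only [map_add]
    linear_combination (-((S.θ t) ^ 3 * t * t') - (S.θ t') ^ 3 * t * t' -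
      ((S.θ t) ^ 2 * S.θ t' + S.θ t * (S.θ t') ^ 2) * (t + t') ^ 2) * h3


include hε in
theorem W_zero : S.W 0 0 0 = 1 := by
  rw [W_eq hε, map_zero]
  have e1 : (0 : K) ^ 3 * 0 + 0 = 0 := by ring
  have e2 : (0 : K) ^ 3 * 0 ^ 2 + 0 = 0 := by ring
  rw [e1, e2]
  exact N_zero

include R hε in
theorem W_inv (t u v : K) :
    (S.W t u v)⁻¹ = S.W (-t) (-u - phi S t * t) (-v - t * u + phi S t * t ^ 2) := by
  have h3 : (3 : K) = 0 := R.three
  apply inv_eq_of_mul_eq_one_right
  rw [W_mul R hε, phi_neg, ← W_zero hε]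
  congr 1
  · ring
  · ring
  · linear_combination (phi S t * t ^ 2) * h3

include R hε in
/-- the first parameter of `P * Q⁻¹` -/
theorem exists_div (t u v t' u' v' : K) :
    ∃ u'' v'', S.W t u v * (S.W t' u' v')⁻¹ = S.W (t - t') u'' v'' := by
  rw [W_inv R hε, W_mul R hε, ← sub_eq_add_neg]
  exact ⟨_, _, rfl⟩

include R hε in
theorem W_mul_right0 (t a b x w : K) : S.W t a b * S.W 0 x w = S.W t (a + x) (b + w) := by
  rw [W_mul R hε, phi_zero]
  congr 1 <;> ring

include R hε in
theorem W_mul_left0 (t a b x w : K) : S.W 0 x w * S.W t a b = S.W t (x + a) (w + b - t * x) := by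
  rw [W_mul R hε]
  congr 1 <;> ring

include R hε in
theorem W_div (T U1 V1 U2 V2 : K) :
    S.W T U1 V1 * (S.W T U2 V2)⁻¹ = S.W 0 (U1 - U2) (V1 - V2 + T * (U1 - U2)) := by
  rw [mul_inv_eq_iff_eq_mul, W_mul_left0 R hε]
  congr 1 <;> ring

include R hε in
/-- the commutator of two fixed elements, modulo the centre -/
theorem exists_comm (Y : Subgroup Γ) {t a b t0 a0 b0 : K} (hP : S.W t a b ∈ Y)
    (hQ : S.W t0 a0 b0 ∈ Y) : ∃ w, S.W 0 (phi S t * t0 - phi S t0 * t) w ∈ Y := by
  have h := Y.mul_mem (Y.mul_mem hP hQ) (Y.inv_mem (Y.mul_mem hQ hP))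
  rw [W_mul R hε, W_mul R hε, add_comm t0 t, W_div R hε] at h
  have e : (a + a0 - phi S t0 * t) - (a0 + a - phi S t * t0) = phi S t * t0 - phi S t0 * t := by
    ring
  rw [e] at h
  exact ⟨_, h⟩

include R hε in
theorem exists_sub (Y : Subgroup Γ) {x w x' w' : K} (hP : S.W 0 x w ∈ Y) (hQ : S.W 0 x' w' ∈ Y) :
    ∃ w'', S.W 0 (x - x') w'' ∈ Y := by
  have h := Y.mul_mem hP (Y.inv_mem hQ)
  rw [W_div R hε] at h
  exact ⟨_, h⟩

include R in
theorem two_ne_zero' : (2 : K) ≠ 0 := by
  intro h2
  have h3 : (3 : K) = 0 := R.three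
  have : (1 : K) = 0 := by linear_combination h3 - h2
  exact one_ne_zero this

include R in
/-- `t ↦ φ t + t` is injective -/
theorem M_injective : Function.Injective (fun t : K => phi S t + t) := by
  intro t t' h
  have h3 : (3 : K) = 0 := R.three
  have hd : phi S (t - t') + (t - t') = 0 := by
    rw [phi_sub]
    have h' : phi S t + t = phi S t' + t' := h
    linear_combination h'
  set d := t - t' with hdd
  have h1 : phi S d = -d := by linear_combination hd
  have h2 : d ^ 3 = d := by
    rw [← phi_phi (S := S), h1, phi_neg, h1, neg_neg]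
  have h4 : d * (d - 1) * (d + 1) = 0 := by linear_combination h2
  have hd0 : d = 0 := by
    rcases mul_eq_zero.1 h4 with h5 | h5
    · rcases mul_eq_zero.1 h5 with h6 | h6
      · exact h6
      · exfalso
        have hd1 : d = 1 := by linear_combination h6
        rw [hd1, phi_one] at h1
        apply two_ne_zero' R
        linear_combination h1
    · exfalso
      have hd1 : d = -1 := by linear_combination h5
      rw [hd1, phi_neg, phi_one, neg_neg] at h1
      apply two_ne_zero' R
      linear_combination -h1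
  exact sub_eq_zero.1 hd0

include R hε in
/-- **Generation criterion**: a subgroup containing a fixed element with every prescribed first
parameter contains all fixed elements. -/
theorem mem_of_first_coord [Finite K] (Y : Subgroup Γ) (hφ : ∃ t0 : K, phi S t0 ≠ t0)
    (hY : ∀ t : K, ∃ u v, S.W t u v ∈ Y) : ∀ t u v : K, S.W t u v ∈ Y := by
  obtain ⟨t0, ht0⟩ := hφ
  have hL : phi S t0 - t0 ≠ 0 := sub_ne_zero.2 ht0
  have hsurj : Function.Surjective (fun t : K => phi S t + t) :=
    Finite.injective_iff_surjective.1 (M_injective R)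
  -- step 1: every second parameter occurs
  have step1 : ∀ x : K, ∃ w, S.W 0 x w ∈ Y := by
    intro x
    obtain ⟨t, ht⟩ := hsurj (x / (phi S t0 - t0))
    have ht' : (phi S t + t) * (phi S t0 - t0) = x := by
      have : phi S t + t = x / (phi S t0 - t0) := ht
      rw [this, div_mul_cancel₀ _ hL]
    obtain ⟨a1, b1, h1⟩ := hY (t * t0)
    obtain ⟨a2, b2, h2⟩ := hY 1
    obtain ⟨a3, b3, h3⟩ := hY t
    obtain ⟨a4, b4, h4⟩ := hY t0
    obtain ⟨w1, hw1⟩ := exists_comm R hε Y h1 h2
    obtain ⟨w2, hw2⟩ := exists_comm R hε Y h3 h4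
    obtain ⟨w3, hw3⟩ := exists_sub R hε Y hw1 hw2
    have e : phi S (t * t0) * 1 - phi S 1 * (t * t0) - (phi S t * t0 - phi S t0 * t) = x := by
      rw [phi_mul, phi_one, ← ht']
      ring
    rw [e] at hw3
    exact ⟨w3, hw3⟩
  -- step 2: the centre
  have step2 : ∀ v : K, S.W 0 0 v ∈ Y := by
    intro v
    obtain ⟨a, b, hP⟩ := hY 1
    obtain ⟨w, hQ⟩ := step1 v
    have h := Y.mul_mem (Y.mul_mem hP hQ) (Y.inv_mem (Y.mul_mem hQ hP))
    rw [W_mul_right0 R hε, W_mul_left0 R hε, W_div R hε] at h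
    have e1 : a + v - (v + a) = 0 := by ring
    have e2 : b + w - (w + b - 1 * v) + 1 * (a + v - (v + a)) = v := by ring
    rw [e2, e1] at h
    exact h
  -- step 3
  have step3 : ∀ u v : K, S.W 0 u v ∈ Y := by
    intro u v
    obtain ⟨w, hQ⟩ := step1 u
    have h := Y.mul_mem hQ (step2 (v - w))
    rw [W_mul_right0 R hε] at h
    have e1 : u + 0 = u := add_zero u
    have e2 : w + (v - w) = v := by ring
    rw [e1, e2] at h
    exact h
  intro t u v
  obtain ⟨a, b, hP⟩ := hY t
  have h := Y.mul_mem hP (step3 (u - a) (v - b))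
  rw [W_mul_right0 R hε] at h
  have e1 : a + (u - a) = u := by ring
  have e2 : b + (v - b) = v := by ring
  rw [e1, e2] at h
  exact h

end

end Cfsg.Agent.Lib.Helper15_ReeGenAbs
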