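import Cfsg.Agent.Lib.Helper36_ReeN
import Cfsg.Prelude.Def_LieExceptional

set_option autoImplicit false

/-!
The `(B, N)`-pair of rank 1 of the twisted group of type `²G₂`.
-/

namespace Cfsg.Agent.Lib.Helper36_ReeBN

open Cfsg Cfsg.Lie Cfsg.Agent.Lib.Helper18_ChevFast Cfsg.Agent.Lib.Helper18_ChevEngine
  Cfsg.Agent.Lib.Helper18_ChevN Cfsg.Agent.Lib.Helper18_ChevWeyl
  Cfsg.Agent.Lib.Helper18_ChevGL Cfsg.Agent.Lib.Helper18_ChevTri
  Cfsg.Agent.Lib.Helper18_ChevAdd Cfsg.Agent.Lib.Helper18_ChevUni Cfsg.Agent.Lib.Helper18_ChevComm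
  Cfsg.Agent.Lib.Helper36_TwistU Cfsg.Agent.Lib.Helper36_TwistW
  Cfsg.Agent.Lib.Helper36_GraphAut Cfsg.Agent.Lib.Helper36_GraphAutG2 Cfsg.Agent.Lib.Helper36_GraphAutG2Main
  Cfsg.Agent.Lib.Helper36_ReeAlg Cfsg.Agent.Lib.Helper36_ReeSetup Cfsg.Agent.Lib.Helper36_ReeFix
  Cfsg.Agent.Lib.Helper36_TwistGen Cfsg.Agent.Lib.Helper36_TwistWeyl
  Cfsg.Agent.Lib.Helper36_ChevTorus Cfsg.Agent.Lib.Helper36_ChevTorusAll
  Cfsg.Agent.Lib.Helper36_ChevW0 Cfsg.Agent.Lib.Helper36_ChevW0All Cfsg.Agent.Lib.Helper36_ChevTables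
  Cfsg.Agent.Lib.Helper36_ChevOrder Cfsg.Agent.Lib.Helper36_ChevOrderAll Cfsg.Agent.Lib.Helper36_WeylChain
  Cfsg.Agent.Lib.Helper36_WeylLit Cfsg.Agent.Lib.Helper36_WeylLit.RootLit
  Cfsg.Agent.Lib.Helper36_ChevDataG2Lit Cfsg.Agent.Lib.Helper36_ChevDataG2LitOK Cfsg.Agent.Lib.Helper36_ReeTw
  Cfsg.Agent.Lib.Helper36_ChevBorel Cfsg.Agent.Lib.Helper36_ChevCore Cfsg.Agent.Lib.Helper36_ReeBruhat
  Cfsg.Agent.Lib.Helper36_ReeEntry Cfsg.Agent.Lib.Helper36_ReeH Cfsg.Agent.Lib.Helper36_ReeOrder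
  Cfsg.Agent.Lib.Helper36_ReeN

section

variable {K : Type*} [Field K] [Fintype K] [CharP K 3] {m : ℕ} (hK : Fintype.card K = 3 ^ (2 * m + 1))

theorem m0_mem_N1 : m0 hK ∈ chevG2.monomialSubgroup K ⊓ twistedG2 K (3 ^ m) := ⟨m0_mono hK, m0_mem hK⟩

/-- The square of the chosen monomial element lies in `H`. -/
theorem m0_sq : m0 hK * m0 hK ∈ chevG2.diagonalSubgroup K :=
  (mul_mem_diag_iff hK _ _ (m0_mem_N1 hK) (m0_mem_N1 hK)).mpr Iff.rfl

/-- A monomial element of the twisted group outside `H` is the chosen one times an element of `H`. -/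
theorem inv_m0_mul (n : GL chevG2.Idx K) (hn : n ∈ chevG2.monomialSubgroup K ⊓ twistedG2 K (3 ^ m))
    (hnH : n ∉ chevG2.diagonalSubgroup K) : (m0 hK)⁻¹ * n ∈ chevG2.diagonalSubgroup K := by
  have h1 : (m0 hK)⁻¹ ∈ chevG2.monomialSubgroup K ⊓ twistedG2 K (3 ^ m) := Subgroup.inv_mem _ (m0_mem_N1 hK)
  rw [mul_mem_diag_iff hK _ _ h1 hn]
  constructor
  · intro h
    exact absurd ((Subgroup.inv_mem_iff _).mp h) (m0_not_diag hK)
  · intro h
    exact absurd h hnH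

/-- Conjugation with the chosen monomial element maps `U` into `V`. -/
theorem m0_conj_U (u : GL chevG2.Idx K) (hu : u ∈ chevG2.posUnipotent K) :
    m0 hK * u * (m0 hK)⁻¹ ∈ chevG2.negUnipotent K := by
  rw [posUnipotent_eq] at hu
  rw [negUnipotent_eq]
  refine conj_rootClosure chevG2 K (hfK K) lit litOK (m0_acts hK) chevG2.IsPosRoot chevG2.IsNegRoot
    (fun r hr => hr.1) ?_ u hu
  intro r hr
  have h1 : lit.ps (w0Perm r) = (!lit.ps r) := (wf.2 r r.2).2.2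
  have hr12 : (r : ℕ) < chevG2.nroots := r.2
  rw [(litOK.hpos r hr12).mpr hr] at h1
  exact (litOK.hneg _ (w0Perm r).2).mp h1

include hK in
/-- There is a non-identity element of the twisted group in `U`. -/
theorem exists_U_ne_one : ∃ u ∈ chevG2.posUnipotent K ⊓ twistedG2 K (3 ^ m), u ≠ 1 := by
  by_contra hcon
  have hcon' : ∀ u ∈ chevG2.posUnipotent K ⊓ twistedG2 K (3 ^ m), u = 1 := by
    intro u hu
    by_contra hne
    exact hcon ⟨u, hu, hne⟩
  have h1 := hcon' _ ((mem_U_inf hK _).mpr ⟨0, 0, 1, rfl⟩)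
  have h2 := hcon' _ ((mem_U_inf hK _).mpr ⟨0, 0, 0, rfl⟩)
  have h3 : (posSys hK).W 0 0 1 = (posSys hK).W 0 0 0 := Subtype.ext (h1.trans h2.symm)
  exact one_ne_zero (W_pos_inj hK _ _ _ _ _ _ h3).2.2

include hK in
/-- The `(B, N)`-pair of the twisted group. -/
theorem exists_bnPair : ∃ Q : Cfsg.BNPair ↥(twistedG2 K (3 ^ m)),
    Q.B = (chevG2.borelSubgroup K ⊓ twistedG2 K (3 ^ m)).subgroupOf (twistedG2 K (3 ^ m)) ∧
    Q.N = (chevG2.monomialSubgroup K ⊓ twistedG2 K (3 ^ m)).subgroupOf (twistedG2 K (3 ^ m)) ∧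
    Q.S = {⟨m0 hK, m0_mem hK⟩} := by
  have hBle : chevG2.posUnipotent K ≤ chevG2.borelSubgroup K := le_sup_left
  have hHle : chevG2.diagonalSubgroup K ≤ chevG2.borelSubgroup K := le_sup_right
  have hHN : chevG2.diagonalSubgroup K ≤ chevG2.monomialSubgroup K := le_sup_left
  have hBN := (Cfsg.Agent.S1040.result (F := K) chevG2 hD).2
  have hUV := (Cfsg.Agent.S1037.result (F := K) chevG2 hD).1
  have memB : ∀ g : ↥(twistedG2 K (3 ^ m)),
      g ∈ (chevG2.borelSubgroup K ⊓ twistedG2 K (3 ^ m)).subgroupOf (twistedG2 K (3 ^ m)) ↔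
        (g : GL chevG2.Idx K) ∈ chevG2.borelSubgroup K := by
    intro g
    rw [Subgroup.mem_subgroupOf, Subgroup.mem_inf]
    exact ⟨fun h => h.1, fun h => ⟨h, g.2⟩⟩
  have memN : ∀ g : ↥(twistedG2 K (3 ^ m)),
      g ∈ (chevG2.monomialSubgroup K ⊓ twistedG2 K (3 ^ m)).subgroupOf (twistedG2 K (3 ^ m)) ↔
        (g : GL chevG2.Idx K) ∈ chevG2.monomialSubgroup K := by
    intro g
    rw [Subgroup.mem_subgroupOf, Subgroup.mem_inf]
    exact ⟨fun h => h.1, fun h => ⟨h, g.2⟩⟩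
  refine ⟨{ B := (chevG2.borelSubgroup K ⊓ twistedG2 K (3 ^ m)).subgroupOf (twistedG2 K (3 ^ m))
            N := (chevG2.monomialSubgroup K ⊓ twistedG2 K (3 ^ m)).subgroupOf (twistedG2 K (3 ^ m))
            S := {⟨m0 hK, m0_mem hK⟩}
            sup_eq_top := ?_
            conj_mem := ?_
            subset := ?_
            sq_mem := ?_
            inj := ?_
            closure_sup := ?_
            mul_mem_union := ?_
            conj_ne := ?_ }, rfl, rfl, rfl⟩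
  · -- `B` and `N` generate
    rw [eq_top_iff]
    rintro ⟨g, hg⟩ -
    rcases mem_cases hK g hg with ⟨u0, hu0, h0, hh0, e⟩ | ⟨u0, hu0, h0, hh0, u, hu, e⟩
    · have e' : (⟨g, hg⟩ : ↥(twistedG2 K (3 ^ m))) = ⟨u0, hu0.2⟩ * ⟨h0, hh0.2⟩ := Subtype.ext e
      rw [e']
      refine Subgroup.mul_mem _ ?_ ?_
      · exact Subgroup.mem_sup_left ((memB _).mpr (hBle hu0.1))
      · exact Subgroup.mem_sup_left ((memB _).mpr (hHle hh0.1))
    · have e' : (⟨g, hg⟩ : ↥(twistedG2 K (3 ^ m))) = ⟨u0, hu0.2⟩ * ⟨h0, hh0.2⟩ * ⟨m0 hK, m0_mem hK⟩ * ⟨u, hu.2⟩ :=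
        Subtype.ext e
      rw [e']
      refine Subgroup.mul_mem _ (Subgroup.mul_mem _ (Subgroup.mul_mem _ ?_ ?_) ?_) ?_
      · exact Subgroup.mem_sup_left ((memB _).mpr (hBle hu0.1))
      · exact Subgroup.mem_sup_left ((memB _).mpr (hHle hh0.1))
      · exact Subgroup.mem_sup_right ((memN _).mpr (m0_mono hK))
      · exact Subgroup.mem_sup_left ((memB _).mpr (hBle hu.1))
  · -- `B ⊓ N` is normal in `N`
    intro n hn t ht
    rw [memN] at hn
    obtain ⟨ht1, ht2⟩ := Subgroup.mem_inf.mp ht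
    rw [memB] at ht1 ⊢
    rw [memN] at ht2
    have htH : (t : GL chevG2.Idx K) ∈ chevG2.diagonalSubgroup K := by
      rw [← hBN]
      exact Subgroup.mem_inf.mpr ⟨ht1, ht2⟩
    apply hHle
    exact (Subgroup.mem_normalizer_iff.mp (monomial_le_normalizer chevG2 K (hfK K) hn) _).mp htH
  · -- the distinguished element lies in `N`
    intro s hs
    rw [Set.mem_singleton_iff] at hs
    rw [SetLike.mem_coe, memN, hs]
    exact m0_mono hK
  · -- squares
    intro s hs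
    rw [Set.mem_singleton_iff] at hs
    rw [memB, hs]
    exact hHle (m0_sq hK)
  · -- injectivity
    intro s hs s' hs' _
    rw [Set.mem_singleton_iff] at hs hs'
    rw [hs, hs']
  · -- generation of `N`
    apply le_antisymm
    · apply sup_le
      · rw [Subgroup.closure_le]
        intro s hs
        rw [Set.mem_singleton_iff] at hs
        rw [SetLike.mem_coe, memN, hs]
        exact m0_mono hK
      · exact inf_le_right
    · intro n hn
      rw [memN] at hn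
      by_cases hnH : (n : GL chevG2.Idx K) ∈ chevG2.diagonalSubgroup K
      · exact Subgroup.mem_sup_right (Subgroup.mem_inf.mpr ⟨(memB _).mpr (hHle hnH), (memN _).mpr hn⟩)
      · have hd := inv_m0_mul hK n ⟨hn, n.2⟩ hnH
        have e : n = ⟨m0 hK, m0_mem hK⟩ * ((⟨m0 hK, m0_mem hK⟩ : ↥(twistedG2 K (3 ^ m)))⁻¹ * n) := by group
        rw [e]
        refine Subgroup.mul_mem _ (Subgroup.mem_sup_left (Subgroup.subset_closure rfl)) (Subgroup.mem_sup_right ?_)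
        exact Subgroup.mem_inf.mpr ⟨(memB _).mpr (hHle hd), (memN _).mpr (hHN hd)⟩
  · -- the double coset condition
    intro s hs n hn b hb
    rw [Set.mem_singleton_iff] at hs
    rw [memN] at hn
    rw [memB] at hb
    have hy : (s : GL chevG2.Idx K) * b * n ∈ twistedG2 K (3 ^ m) :=
      Subgroup.mul_mem _ (Subgroup.mul_mem _ s.2 b.2) n.2
    have hsv : (s : GL chevG2.Idx K) = m0 hK := by rw [hs]
    by_cases hnH : (n : GL chevG2.Idx K) ∈ chevG2.diagonalSubgroup K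
    · rcases mem_cases hK _ hy with ⟨u0, hu0, h0, hh0, e⟩ | ⟨u0, hu0, h0, hh0, u, hu, e⟩
      · right
        rw [DoubleCoset.mem_doubleCoset]
        refine ⟨s * b, (memB _).mpr ?_, 1, Subgroup.one_mem _, by rw [mul_one]⟩
        have e2 : ((s * b : ↥(twistedG2 K (3 ^ m))) : GL chevG2.Idx K) =
            (s : GL chevG2.Idx K) * b * n * (n : GL chevG2.Idx K)⁻¹ := by
          rw [Subgroup.coe_mul]
          group
        rw [e2, e]
        exact Subgroup.mul_mem _ (Subgroup.mul_mem _ (hBle hu0.1) (hHle hh0.1)) (Subgroup.inv_mem _ (hHle hnH))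
      · left
        rw [DoubleCoset.mem_doubleCoset]
        refine ⟨⟨u0, hu0.2⟩ * ⟨h0, hh0.2⟩, (memB _).mpr (Subgroup.mul_mem _ (hBle hu0.1) (hHle hh0.1)),
          n⁻¹ * ⟨u, hu.2⟩, (memB _).mpr (Subgroup.mul_mem _ (Subgroup.inv_mem _ (hHle hnH)) (hBle hu.1)), ?_⟩
        apply Subtype.ext
        show (s : GL chevG2.Idx K) * b * n = u0 * h0 * ((s : GL chevG2.Idx K) * n) * ((n : GL chevG2.Idx K)⁻¹ * u)
        rw [e, hsv]
        group
    · have hd := inv_m0_mul hK n ⟨hn, n.2⟩ hnH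
      rcases mem_cases hK _ hy with ⟨u0, hu0, h0, hh0, e⟩ | ⟨u0, hu0, h0, hh0, u, hu, e⟩
      · left
        rw [DoubleCoset.mem_doubleCoset]
        have hsn : (s : GL chevG2.Idx K) * n ∈ chevG2.diagonalSubgroup K := by
          have e3 : (s : GL chevG2.Idx K) * n = m0 hK * m0 hK * ((m0 hK)⁻¹ * n) := by
            rw [hsv]
            group
          rw [e3]
          exact Subgroup.mul_mem _ (m0_sq hK) hd
        refine ⟨s * b * n * (s * n)⁻¹, (memB _).mpr ?_, 1, Subgroup.one_mem _, by group⟩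
        have e2 : ((s * b * n * (s * n)⁻¹ : ↥(twistedG2 K (3 ^ m))) : GL chevG2.Idx K) =
            (s : GL chevG2.Idx K) * b * n * ((s : GL chevG2.Idx K) * n)⁻¹ := rfl
        rw [e2, e]
        exact Subgroup.mul_mem _ (Subgroup.mul_mem _ (hBle hu0.1) (hHle hh0.1)) (Subgroup.inv_mem _ (hHle hsn))
      · right
        rw [DoubleCoset.mem_doubleCoset]
        have hd' : ((m0 hK)⁻¹ * n)⁻¹ ∈ twistedG2 K (3 ^ m) :=
          Subgroup.inv_mem _ (Subgroup.mul_mem _ (Subgroup.inv_mem _ (m0_mem hK)) n.2)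
        refine ⟨⟨u0, hu0.2⟩ * ⟨h0, hh0.2⟩, (memB _).mpr (Subgroup.mul_mem _ (hBle hu0.1) (hHle hh0.1)),
          ⟨((m0 hK)⁻¹ * n)⁻¹, hd'⟩ * ⟨u, hu.2⟩,
          (memB _).mpr (Subgroup.mul_mem _ (Subgroup.inv_mem _ (hHle hd)) (hBle hu.1)), ?_⟩
        apply Subtype.ext
        show (s : GL chevG2.Idx K) * b * n = u0 * h0 * n * (((m0 hK)⁻¹ * n)⁻¹ * u)
        rw [e]
        group
  · -- `s B s ≠ B`
    intro s hs heq
    rw [Set.mem_singleton_iff] at hs
    obtain ⟨u, hu, hne⟩ := exists_U_ne_one hK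
    have h1 : s * ⟨u, hu.2⟩ * s ∈ (fun b : ↥(twistedG2 K (3 ^ m)) => s * b * s) ''
        (((chevG2.borelSubgroup K ⊓ twistedG2 K (3 ^ m)).subgroupOf (twistedG2 K (3 ^ m)) :
          Subgroup ↥(twistedG2 K (3 ^ m))) : Set ↥(twistedG2 K (3 ^ m))) :=
      ⟨⟨u, hu.2⟩, (memB _).mpr (hBle hu.1), rfl⟩
    rw [heq, SetLike.mem_coe, memB] at h1
    have h2 : m0 hK * u * m0 hK ∈ chevG2.borelSubgroup K := by
      rw [hs] at h1
      exact h1
    have h3 : m0 hK * u * (m0 hK)⁻¹ ∈ chevG2.borelSubgroup K := by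
      have e : m0 hK * u * (m0 hK)⁻¹ = m0 hK * u * m0 hK * (m0 hK * m0 hK)⁻¹ := by group
      rw [e]
      exact Subgroup.mul_mem _ h2 (Subgroup.inv_mem _ (hHle (m0_sq hK)))
    have h4 : m0 hK * u * (m0 hK)⁻¹ ∈ chevG2.borelSubgroup K ⊓ chevG2.negUnipotent K := ⟨h3, m0_conj_U hK u hu.1⟩
    rw [hUV, Subgroup.mem_bot] at h4
    apply hne
    have e : u = (m0 hK)⁻¹ * (m0 hK * u * (m0 hK)⁻¹) * m0 hK := by group
    rw [e, h4]
    group

end

end Cfsg.Agent.Lib.Helper36_ReeBN
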