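import Cfsg.Agent.Lib.Helper36_ChevGen
import Cfsg.Prelude.Def_ChevG2

set_option autoImplicit false
set_option Elab.async false

/-! Kernel-checked table facts for the Chevalley datum of type G2 (see `Helper36_ChevGen`). Generated file. -/

namespace Cfsg.Agent.Lib.Helper36_ChevDataG2

open Cfsg Cfsg.Lie Cfsg.Agent.Lib.Helper36_ChevSparse Cfsg.Agent.Lib.Helper36_ChevCoeff
  Cfsg.Agent.Lib.Helper36_ChevCoo Cfsg.Agent.Lib.Helper36_ChevAdd Cfsg.Agent.Lib.Helper36_ChevIdx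
  Cfsg.Agent.Lib.Helper36_ChevWeyl Cfsg.Agent.Lib.Helper36_ChevGen

theorem lenOK : ChainLenOK chevG2 := by decide +kernel

theorem addOK : AddOK chevG2 := by decide +kernel

theorem simpleOK : SimpleOK chevG2 := by decide +kernel

/-- Literal table: the matrix of `x_{p_i}(1)` by columns, `i = 0`. -/
def X1c0 : Idxd :=
  [[(0, 1), (9, -2)], [(1, 1), (9, 1)], [(2, 1)], [(3, 1), (4, -1), (5, -1), (7, -1)], [(4, 1), (5, 2), (7, 3)], [(5, 1), (7, 3)], [(0, 1), (6, 1), (9, -1)], [(7, 1)], [(8, 1), (10, -1), (11, 1), (12, 1)], [(9, 1)], [(10, 1), (11, -2), (12, -3)], [(11, 1), (12, 3)], [(12, 1)], [(13, 1)]]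

/-- Literal table: the matrix of `x_{-p_i}(-1)` by columns, `i = 0`. -/
def X2c0 : Idxd :=
  [[(0, 1), (6, -2)], [(1, 1), (6, 1)], [(2, 1)], [(3, 1)], [(3, 3), (4, 1)], [(3, -3), (4, -2), (5, 1)], [(6, 1)], [(3, 1), (4, 1), (5, -1), (7, 1)], [(8, 1)], [(0, 1), (6, -1), (9, 1)], [(8, 3), (10, 1)], [(8, 3), (10, 2), (11, 1)], [(8, -1), (10, -1), (11, -1), (12, 1)], [(13, 1)]]

/-- Literal table: the matrix of `n_i` by columns, `i = 0`. -/
def Nc0 : Idxd :=
  [[(0, -1)], [(0, 1), (1, 1)], [(2, 1)], [(7, -1)], [(5, -1)], [(4, 1)], [(9, -1)], [(3, 1)], [(12, 1)], [(6, -1)], [(11, 1)], [(10, -1)], [(8, -1)], [(13, 1)]]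

/-- Literal table: the matrix of `n_i` by rows, `i = 0`. -/
def Nr0 : Idxd :=
  [[(0, -1), (1, 1)], [(1, 1)], [(2, 1)], [(7, 1)], [(5, 1)], [(4, -1)], [(9, -1)], [(3, -1)], [(12, -1)], [(6, -1)], [(11, -1)], [(10, 1)], [(8, 1)], [(13, 1)]]

theorem nLit0 : nLitCheck2 chevG2 12 0 X1c0 X2c0 Nc0 Nr0 = true := by decide +kernel

/-- Literal table: the matrix of `x_{p_i}(1)` by columns, `i = 1`. -/
def X1c1 : Idxd :=
  [[(0, 1), (8, 3)], [(1, 1), (8, -2)], [(2, 1), (3, -1)], [(3, 1)], [(4, 1)], [(5, 1), (6, -1)], [(6, 1)], [(1, 1), (7, 1), (8, -1)], [(8, 1)], [(9, 1), (10, 1)], [(10, 1)], [(11, 1)], [(12, 1), (13, 1)], [(13, 1)]]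

/-- Literal table: the matrix of `x_{-p_i}(-1)` by columns, `i = 1`. -/
def X2c1 : Idxd :=
  [[(0, 1), (7, 3)], [(1, 1), (7, -2)], [(2, 1)], [(2, 1), (3, 1)], [(4, 1)], [(5, 1)], [(5, 1), (6, 1)], [(7, 1)], [(1, 1), (7, -1), (8, 1)], [(9, 1)], [(9, -1), (10, 1)], [(11, 1)], [(12, 1)], [(12, -1), (13, 1)]]

/-- Literal table: the matrix of `n_i` by columns, `i = 1`. -/
def Nc1 : Idxd :=
  [[(0, 1), (1, 3)], [(1, -1)], [(3, -1)], [(2, 1)], [(4, 1)], [(6, -1)], [(5, 1)], [(8, -1)], [(7, -1)], [(10, 1)], [(9, -1)], [(11, 1)], [(13, 1)], [(12, -1)]]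

/-- Literal table: the matrix of `n_i` by rows, `i = 1`. -/
def Nr1 : Idxd :=
  [[(0, 1)], [(0, 3), (1, -1)], [(3, 1)], [(2, -1)], [(4, 1)], [(6, 1)], [(5, -1)], [(8, -1)], [(7, -1)], [(10, -1)], [(9, 1)], [(11, 1)], [(13, -1)], [(12, 1)]]

theorem nLit1 : nLitCheck2 chevG2 12 1 X1c1 X2c1 Nc1 Nr1 = true := by decide +kernel

/-- The matrices of the `n_i`, stored by columns and by rows. -/
def nLits : NLits :=
  [(Nc0, Nr0), (Nc1, Nr1)]

theorem nLitOK : NLitOK chevG2 nLits := by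
  intro i hi
  have h : chevG2.rank = 2 := rfl
  rw [h] at hi
  interval_cases i
  · exact nLitGood_of_check2 chevG2 12 0 X1c0 X2c0 Nc0 Nr0 nLit0
  · exact nLitGood_of_check2 chevG2 12 1 X1c1 X2c1 Nc1 Nr1 nLit1

/-- A certificate that every root is reached from the fundamental roots by fundamental reflections:
triples `(i, s, η)` with `n_i x_s(t) = x_{w_i s}(η t) n_i`. -/
def tree : List (ℕ × ℕ × ℤ) :=
  [(1, 7, 1), (1, 4, 1), (0, 6, 1), (0, 5, 1), (0, 8, 1), (0, 3, 1), (1, 10, 1), (1, 1, 1)]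

theorem pairsOK : PairsOK chevG2 12 nLits tree := by decide +kernel

theorem reachOK : reachCheck chevG2 tree = true := by decide +kernel

/-- The Chevalley group of type G2 over any field is generated by the fundamental root elements and their negatives. -/
theorem group_eq (F : Type*) [Field F] : chevG2.group F = fundSubgroup chevG2 F :=
  group_eq_fundSubgroup chevG2 lenOK addOK simpleOK nLits nLitOK F 12 tree pairsOK reachOK

end Cfsg.Agent.Lib.Helper36_ChevDataG2
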