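import Cfsg.Agent.Lib.Helper36_ChevH
import Cfsg.Agent.Lib.Helper36_ChevDataG2
import Cfsg.Prelude.Def_ChevG2
import Cfsg.Prelude.Def_ChevStructure
import Cfsg.Prelude.Def_ChevAutomorphisms

set_option autoImplicit false

/-!
Matrix entries in the Chevalley group of type `G₂`: the entry at the row of the lowest root and the column of the highest
root is not changed by multiplication with elements of `U`, and it is computed for two products of root elements.
-/

namespace Cfsg.Agent.Lib.Helper36_ReeEntry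

open Cfsg Cfsg.Lie Cfsg.Agent.Lib.Helper36_ChevSparse Cfsg.Agent.Lib.Helper36_ChevCoeff
  Cfsg.Agent.Lib.Helper36_ChevCoo Cfsg.Agent.Lib.Helper36_ChevAdd Cfsg.Agent.Lib.Helper36_ChevIdx
  Cfsg.Agent.Lib.Helper36_ChevWeyl Cfsg.Agent.Lib.Helper36_ChevLaurent Cfsg.Agent.Lib.Helper36_ChevH

/-- The matrix of `x_r(c)` for an integer `c`, as a sparse integer matrix. -/
def xCoo (r : ℕ) (c : ℤ) : Coo :=
  cone (dim chevG2) ++ csmul c (Ecoo chevG2 r 1) ++ csmul (c ^ 2) (Ecoo chevG2 r 2) ++ csmul (c ^ 3) (Ecoo chevG2 r 3)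

variable {K : Type*} [Field K]

theorem x_cast (r : ℕ) (hr : r < chevG2.nroots) (c : ℤ) : chevG2.x K r (c : K) = castMat chevG2 K (xCoo r c) := by
  rw [x_eq chevG2 Cfsg.Agent.Lib.Helper36_ChevDataG2.lenOK K r hr]
  unfold xCoo
  rw [castMat_append, castMat_append, castMat_append, castMat_cone, castMat_csmul, castMat_csmul, castMat_csmul,
    castMat_Ecoo, castMat_Ecoo, castMat_Ecoo]
  push_cast
  rfl

theorem entry4 : entry (cmul (dim chevG2) (cmul (dim chevG2) (cmul (dim chevG2) (xCoo 4 (-1)) (xCoo 5 (-1)))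
    (xCoo 3 (-1))) (xCoo 2 (-1))) 2 13 = -2 := by decide +kernel

/-- The divided powers of a root vector, with the identity for the exponent 0. -/
def Ecoo' (r k : ℕ) : Coo := if k = 0 then cone (dim chevG2) else Ecoo chevG2 r k

theorem consts : ∀ i < 4, ∀ j < 4, entry (cmul (dim chevG2) (Ecoo' 2 i) (Ecoo' 0 j)) 2 13 =
    if i = 0 ∧ j = 2 then -1 else 0 := by decide +kernel

theorem x_eq' (r : ℕ) (hr : r < chevG2.nroots) (t : K) : chevG2.x K r t =
    castMat chevG2 K (Ecoo' r 0) + t • castMat chevG2 K (Ecoo' r 1) + t ^ 2 • castMat chevG2 K (Ecoo' r 2) +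
      t ^ 3 • castMat chevG2 K (Ecoo' r 3) := by
  rw [x_eq chevG2 Cfsg.Agent.Lib.Helper36_ChevDataG2.lenOK K r hr]
  unfold Ecoo'
  simp only [if_true, OfNat.ofNat_ne_zero, one_ne_zero, if_false, castMat_cone, castMat_Ecoo]

/-- The entry of `x_{-(2a+b)}(s) x_{-(3a+2b)}(t)` at the lowest and the highest root. -/
theorem entry2 (a b : K) : (chevG2.x K 2 a * chevG2.x K 0 b) (Sum.inr ⟨0, by decide⟩) (Sum.inr ⟨11, by decide⟩) =
    -b ^ 2 := by
  rw [x_eq' 2 (by decide), x_eq' 0 (by decide)]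
  have c00 : entry (cmul (dim chevG2) (Ecoo' 2 0) (Ecoo' 0 0)) 2 13 = 0 := consts 0 (by norm_num) 0 (by norm_num)
  have c01 : entry (cmul (dim chevG2) (Ecoo' 2 0) (Ecoo' 0 1)) 2 13 = 0 := consts 0 (by norm_num) 1 (by norm_num)
  have c02 : entry (cmul (dim chevG2) (Ecoo' 2 0) (Ecoo' 0 2)) 2 13 = -1 := consts 0 (by norm_num) 2 (by norm_num)
  have c03 : entry (cmul (dim chevG2) (Ecoo' 2 0) (Ecoo' 0 3)) 2 13 = 0 := consts 0 (by norm_num) 3 (by norm_num)
  have c10 : entry (cmul (dim chevG2) (Ecoo' 2 1) (Ecoo' 0 0)) 2 13 = 0 := consts 1 (by norm_num) 0 (by norm_num)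
  have c11 : entry (cmul (dim chevG2) (Ecoo' 2 1) (Ecoo' 0 1)) 2 13 = 0 := consts 1 (by norm_num) 1 (by norm_num)
  have c12 : entry (cmul (dim chevG2) (Ecoo' 2 1) (Ecoo' 0 2)) 2 13 = 0 := consts 1 (by norm_num) 2 (by norm_num)
  have c13 : entry (cmul (dim chevG2) (Ecoo' 2 1) (Ecoo' 0 3)) 2 13 = 0 := consts 1 (by norm_num) 3 (by norm_num)
  have c20 : entry (cmul (dim chevG2) (Ecoo' 2 2) (Ecoo' 0 0)) 2 13 = 0 := consts 2 (by norm_num) 0 (by norm_num)
  have c21 : entry (cmul (dim chevG2) (Ecoo' 2 2) (Ecoo' 0 1)) 2 13 = 0 := consts 2 (by norm_num) 1 (by norm_num)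
  have c22 : entry (cmul (dim chevG2) (Ecoo' 2 2) (Ecoo' 0 2)) 2 13 = 0 := consts 2 (by norm_num) 2 (by norm_num)
  have c23 : entry (cmul (dim chevG2) (Ecoo' 2 2) (Ecoo' 0 3)) 2 13 = 0 := consts 2 (by norm_num) 3 (by norm_num)
  have c30 : entry (cmul (dim chevG2) (Ecoo' 2 3) (Ecoo' 0 0)) 2 13 = 0 := consts 3 (by norm_num) 0 (by norm_num)
  have c31 : entry (cmul (dim chevG2) (Ecoo' 2 3) (Ecoo' 0 1)) 2 13 = 0 := consts 3 (by norm_num) 1 (by norm_num)
  have c32 : entry (cmul (dim chevG2) (Ecoo' 2 3) (Ecoo' 0 2)) 2 13 = 0 := consts 3 (by norm_num) 2 (by norm_num)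
  have c33 : entry (cmul (dim chevG2) (Ecoo' 2 3) (Ecoo' 0 3)) 2 13 = 0 := consts 3 (by norm_num) 3 (by norm_num)
  simp only [Matrix.add_mul, Matrix.mul_add, Matrix.smul_mul, Matrix.mul_smul, Matrix.add_apply, Matrix.smul_apply,
    smul_eq_mul, ← castMat_mul, castMat_apply]
  have e1 : code chevG2 (Sum.inr ⟨0, by decide⟩) = 2 := rfl
  have e2 : code chevG2 (Sum.inr ⟨11, by decide⟩) = 13 := rfl
  rw [e1, e2, c00, c01, c02, c03, c10, c11, c12, c13, c20, c21, c22, c23, c30, c31, c32, c33]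
  simp

/-! ### the row of the lowest root and the column of the highest root -/

theorem posConsts : ∀ r ∈ [6, 7, 8, 9, 10, 11], ∀ i ∈ [1, 2, 3], ∀ c ∈ List.range 14,
    (entry (Ecoo chevG2 r i) 2 c = 0 ∧ entry (Ecoo chevG2 r i) c 13 = 0) := by decide +kernel

theorem mem_pos6 (r : ℕ) (h1 : r < 12) (h2 : 6 ≤ r) : r ∈ [6, 7, 8, 9, 10, 11] := by
  simp only [List.mem_cons, List.not_mem_nil, or_false]
  omega

theorem posRoot_ge : ∀ r < 12, chevG2.IsPosRoot r → 6 ≤ r := by decide +kernel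

theorem code_lt14 (k : chevG2.Idx) : code chevG2 k < 14 := Cfsg.Agent.Lib.Helper36_ChevSparse.code_lt chevG2 k

/-- The row of the lowest root and the column of the highest root are those of the identity. -/
def RowCol (M : Matrix chevG2.Idx chevG2.Idx K) : Prop :=
  (∀ k, M (Sum.inr ⟨0, by decide⟩) k = (1 : Matrix chevG2.Idx chevG2.Idx K) (Sum.inr ⟨0, by decide⟩) k) ∧
  (∀ k, M k (Sum.inr ⟨11, by decide⟩) = (1 : Matrix chevG2.Idx chevG2.Idx K) k (Sum.inr ⟨11, by decide⟩))

theorem rowCol_one : RowCol (1 : Matrix chevG2.Idx chevG2.Idx K) := ⟨fun _ => rfl, fun _ => rfl⟩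

theorem rowCol_mul {A B : Matrix chevG2.Idx chevG2.Idx K} (hA : RowCol A) (hB : RowCol B) : RowCol (A * B) := by
  constructor
  · intro k
    rw [Matrix.mul_apply, Finset.sum_congr rfl (fun j _ => by rw [hA.1 j]), ← Matrix.mul_apply, Matrix.one_mul]
    exact hB.1 k
  · intro k
    rw [Matrix.mul_apply, Finset.sum_congr rfl (fun j _ => by rw [hB.2 j]), ← Matrix.mul_apply, Matrix.mul_one]
    exact hA.2 k

theorem rowCol_inv {A B : Matrix chevG2.Idx chevG2.Idx K} (hA : RowCol A) (h1 : A * B = 1) (h2 : B * A = 1) :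
    RowCol B := by
  constructor
  · intro k
    have : (A * B) (Sum.inr ⟨0, by decide⟩) k = B (Sum.inr ⟨0, by decide⟩) k := by
      rw [Matrix.mul_apply, Finset.sum_congr rfl (fun j _ => by rw [hA.1 j]), ← Matrix.mul_apply, Matrix.one_mul]
    rw [← this, h1]
  · intro k
    have : (B * A) k (Sum.inr ⟨11, by decide⟩) = B k (Sum.inr ⟨11, by decide⟩) := by
      rw [Matrix.mul_apply, Finset.sum_congr rfl (fun j _ => by rw [hA.2 j]), ← Matrix.mul_apply, Matrix.mul_one]
    rw [← this, h2]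

theorem rowCol_x (r : ℕ) (hr : chevG2.IsPosRoot r) (t : K) : RowCol (chevG2.x K r t) := by
  have hr12 : r < 12 := hr.1
  have hr6 := posRoot_ge r hr12 hr
  rw [x_eq chevG2 Cfsg.Agent.Lib.Helper36_ChevDataG2.lenOK K r hr12]
  constructor
  · intro k
    have h := fun i hi => (posConsts r (mem_pos6 r hr12 hr6) i hi (code chevG2 k) (List.mem_range.mpr (code_lt14 k))).1
    simp only [Matrix.add_apply, Matrix.smul_apply, ← castMat_Ecoo, castMat_apply]
    have e1 : code chevG2 (Sum.inr ⟨0, by decide⟩) = 2 := rfl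
    rw [e1, h 1 (by simp), h 2 (by simp), h 3 (by simp)]
    simp
  · intro k
    have h := fun i hi => (posConsts r (mem_pos6 r hr12 hr6) i hi (code chevG2 k) (List.mem_range.mpr (code_lt14 k))).2
    simp only [Matrix.add_apply, Matrix.smul_apply, ← castMat_Ecoo, castMat_apply]
    have e1 : code chevG2 (Sum.inr ⟨11, by decide⟩) = 13 := rfl
    rw [e1, h 1 (by simp), h 2 (by simp), h 3 (by simp)]
    simp

/-- The elements of `U` have the row of the lowest root and the column of the highest root of the identity. -/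
theorem rowCol_U (u : GL chevG2.Idx K) (hu : u ∈ chevG2.posUnipotent K) :
    RowCol (u : Matrix chevG2.Idx chevG2.Idx K) := by
  unfold ChevalleyDatum.posUnipotent at hu
  induction hu using Subgroup.closure_induction with
  | mem g hg =>
    obtain ⟨r, t, hr, hg⟩ := hg
    rw [hg]
    exact rowCol_x r hr t
  | one => exact rowCol_one
  | mul a b _ _ iha ihb =>
    rw [Units.val_mul]
    exact rowCol_mul iha ihb
  | inv a _ iha =>
    exact rowCol_inv iha (by rw [← Units.val_mul, mul_inv_cancel, Units.val_one])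
      (by rw [← Units.val_mul, inv_mul_cancel, Units.val_one])

/-- The entry at the lowest and the highest root. -/
def phi (M : Matrix chevG2.Idx chevG2.Idx K) : K := M (Sum.inr ⟨0, by decide⟩) (Sum.inr ⟨11, by decide⟩)

theorem phi_mul_left {A : Matrix chevG2.Idx chevG2.Idx K} (hA : RowCol A) (M : Matrix chevG2.Idx chevG2.Idx K) :
    phi (A * M) = phi M := by
  unfold phi
  rw [Matrix.mul_apply, Finset.sum_congr rfl (fun j _ => by rw [hA.1 j]), ← Matrix.mul_apply, Matrix.one_mul]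

theorem phi_mul_right {A : Matrix chevG2.Idx chevG2.Idx K} (hA : RowCol A) (M : Matrix chevG2.Idx chevG2.Idx K) :
    phi (M * A) = phi M := by
  unfold phi
  rw [Matrix.mul_apply, Finset.sum_congr rfl (fun j _ => by rw [hA.2 j]), ← Matrix.mul_apply, Matrix.mul_one]

theorem phi_diag_mul (χ : ℕ → Kˣ) (M : Matrix chevG2.Idx chevG2.Idx K) :
    phi (chevG2.charDiag K χ * M) = (χ 0 : K) * phi M := by
  unfold phi ChevalleyDatum.charDiag
  rw [Matrix.diagonal_mul]
  rfl

theorem phi_diag (χ : ℕ → Kˣ) : phi (chevG2.charDiag K χ) = 0 := by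
  unfold phi ChevalleyDatum.charDiag
  rw [Matrix.diagonal_apply_ne]
  decide

end Cfsg.Agent.Lib.Helper36_ReeEntry
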