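import Cfsg.Agent.Lib.Helper36_ReeBruhat
import Cfsg.Agent.Lib.Helper36_ReeEntry

set_option autoImplicit false

/-!
The subgroup `H¹ = H ∩ G¹` of the twisted group of type `²G₂`: the fixed elements of `H` form a cyclic group of order
`q - 1`, and they all lie in the twisted group (from the normal form of the elements of the second kind of the generators
and the matrix entry at the lowest and the highest root).
-/

namespace Cfsg.Agent.Lib.Helper36_ReeH

open Cfsg Cfsg.Lie Cfsg.Agent.Lib.Helper18_ChevFast Cfsg.Agent.Lib.Helper18_ChevEngine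
  Cfsg.Agent.Lib.Helper18_ChevN Cfsg.Agent.Lib.Helper18_ChevWeyl
  Cfsg.Agent.Lib.Helper18_ChevGL Cfsg.Agent.Lib.Helper18_ChevTri
  Cfsg.Agent.Lib.Helper18_ChevAdd Cfsg.Agent.Lib.Helper18_ChevUni Cfsg.Agent.Lib.Helper18_ChevComm
  Cfsg.Agent.Lib.Helper36_TwistU Cfsg.Agent.Lib.Helper36_TwistW
  Cfsg.Agent.Lib.Helper36_GraphAut Cfsg.Agent.Lib.Helper36_GraphAutG2 Cfsg.Agent.Lib.Helper36_GraphAutG2Main
  Cfsg.Agent.Lib.Helper36_ReeAlg Cfsg.Agent.Lib.Helper36_ReeSetup Cfsg.Agent.Lib.Helper36_ReeFix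
  Cfsg.Agent.Lib.Helper36_TwistGen Cfsg.Agent.Lib.Helper36_TwistWeyl
  Cfsg.Agent.Lib.Helper36_ChevTorus Cfsg.Agent.Lib.Helper36_ChevTorusAll
  Cfsg.Agent.Lib.Helper36_ChevW0 Cfsg.Agent.Lib.Helper36_ChevW0All Cfsg.Agent.Lib.Helper36_ChevTables
  Cfsg.Agent.Lib.Helper36_ChevOrder Cfsg.Agent.Lib.Helper36_ChevOrderAll Cfsg.Agent.Lib.Helper36_WeylChain
  Cfsg.Agent.Lib.Helper36_WeylLit Cfsg.Agent.Lib.Helper36_WeylLit.RootLit
  Cfsg.Agent.Lib.Helper36_ChevDataG2Lit Cfsg.Agent.Lib.Helper36_ChevDataG2LitOK Cfsg.Agent.Lib.Helper36_ReeTw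
  Cfsg.Agent.Lib.Helper36_ChevBorel Cfsg.Agent.Lib.Helper36_ReeBruhat Cfsg.Agent.Lib.Helper36_ReeEntry

section

variable {K : Type*} [Field K] [Fintype K] [CharP K 3] {m : ℕ}

theorem cartanOK : chevG2.simple 0 = 7 ∧ chevG2.simple 1 = 6 ∧ chevG2.cartan 0 9 = 1 ∧ chevG2.cartan 1 9 = 0 ∧
    chevG2.cartan 0 0 = 0 ∧ chevG2.cartan 1 0 = -1 := by decide +kernel

omit [Fintype K] [CharP K 3] in
/-- The values of the character of a pair of parameters. -/
theorem chi_two (u : ℕ → Kˣ) (s : ℕ) :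
    chi chevG2 K u s = (u 0) ^ (chevG2.cartan 0 s) * (u 1) ^ (chevG2.cartan 1 s) := by
  unfold chi
  show ∏ j ∈ Finset.range 2, _ = _
  rw [Finset.prod_range_succ, Finset.prod_range_one]

omit [Fintype K] [CharP K 3] in
/-- A torus element as a product of two fundamental elements. -/
theorem torus_eq_word (u : ℕ → Kˣ) : torusGL chevG2 K (chi chevG2 K u) =
    wordGL dc (chevG2.hWord 7 (u 0 : K)) * wordGL dc (chevG2.hWord 6 (u 1 : K)) := by
  apply Units.ext
  rw [torusGL_coe, ← wordMat_fund chevG2 K (hfK K).fundTorus u, Units.val_mul, wordGL_coe, wordGL_coe,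
    ← wordMat_append]
  congr 1

omit [Fintype K] [CharP K 3] in
theorem word_eq_torus (j : ℕ) (hj : j < 2) (t : Kˣ) :
    wordGL dc (chevG2.hWord (chevG2.simple j) (t : K)) = torusGL chevG2 K (chi chevG2 K (Function.update 1 j t)) := by
  apply Units.ext
  rw [wordGL_coe, torusGL_coe]
  have := (hfK K).fundTorus j hj (t : K) t.ne_zero
  have e : Units.mk0 (t : K) t.ne_zero = t := Units.mk0_val t _
  rw [e] at this
  exact this

omit [Fintype K] in
/-- The image of a torus element under the endomorphism. -/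
theorem sgm_torus (u : ℕ → Kˣ) : sgm (sig (theta K m)) (torusGL chevG2 K (chi chevG2 K u)) =
    torusGL chevG2 K (chi chevG2 K (Function.update 1 1 (Units.map (theta K m : K →* K) (u 0) ^ 3)) *
      chi chevG2 K (Function.update 1 0 (Units.map (theta K m : K →* K) (u 1)))) := by
  rw [torus_eq_word, sgm_mul _ (wordGL_mem_group dc _) (wordGL_mem_group dc _), sgm_hWord 7 (by decide),
    sgm_hWord 6 (by decide), torusGL_mul]
  have e7 : gdata.rho 7 = chevG2.simple 1 := by decide +kernel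
  have e6 : gdata.rho 6 = chevG2.simple 0 := by decide +kernel
  have f7 : frK K m 7 (u 0 : K) = ((Units.map (theta K m : K →* K) (u 0) ^ 3 : Kˣ) : K) := by
    rw [frK_apply 7 (by decide)]
    have : gdata.lam 7 = 3 := by decide +kernel
    rw [this]
    rfl
  have f6 : frK K m 6 (u 1 : K) = ((Units.map (theta K m : K →* K) (u 1) : Kˣ) : K) := by
    rw [frK_apply 6 (by decide)]
    have : gdata.lam 6 = 1 := by decide +kernel
    rw [this, pow_one]
    rfl
  rw [e7, e6, f7, f6, word_eq_torus 1 (by decide), word_eq_torus 0 (by decide)]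

/-- The parameters of the fixed torus elements. -/
noncomputable def uu (K : Type*) [Field K] [CharP K 3] (m : ℕ) (μ : Kˣ) : ℕ → Kˣ :=
  fun j => if j = 0 then Units.map (theta K m : K →* K) μ else μ

/-- The fixed torus elements. -/
noncomputable def hfix (K : Type*) [Field K] [CharP K 3] (m : ℕ) : Kˣ →* GL chevG2.Idx K where
  toFun μ := torusGL chevG2 K (chi chevG2 K (uu K m μ))
  map_one' := by
    have : uu K m 1 = 1 := by
      funext j
      unfold uu
      split_ifs <;> simp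
    rw [this, chi_one, torusGL_one]
  map_mul' μ ν := by
    have : uu K m (μ * ν) = uu K m μ * uu K m ν := by
      funext j
      unfold uu
      rw [Pi.mul_apply]
      split_ifs <;> simp
    rw [this, chi_mul, torusGL_mul]

omit [Fintype K] in
theorem hfix_entry (μ : Kˣ) : ((hfix K m μ : GL chevG2.Idx K) : Matrix chevG2.Idx chevG2.Idx K)
    (Sum.inr ⟨0, by decide⟩) (Sum.inr ⟨0, by decide⟩) = ((μ⁻¹ : Kˣ) : K) := by
  show chevG2.charDiag K (chi chevG2 K (uu K m μ)) _ _ = _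
  unfold ChevalleyDatum.charDiag
  rw [Matrix.diagonal_apply_eq]
  show ((chi chevG2 K (uu K m μ) 0 : Kˣ) : K) = _
  rw [chi_two, cartanOK.2.2.2.2.1, cartanOK.2.2.2.2.2, zpow_zero, one_mul]
  have : uu K m μ 1 = μ := by
    unfold uu
    rw [if_neg (by decide)]
  rw [this, zpow_neg_one]

omit [Fintype K] in
theorem hfix_injective : Function.Injective (hfix K m) := by
  intro μ ν h
  have h1 := hfix_entry (m := m) μ
  rw [h, hfix_entry] at h1
  have h2 : (ν⁻¹ : Kˣ) = μ⁻¹ := Units.ext h1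
  exact (inv_injective h2).symm

omit [Fintype K] in
theorem hfix_mem_diag (μ : Kˣ) : hfix K m μ ∈ chevG2.diagonalSubgroup K :=
  ((hfK K).mem_diag _).mpr ⟨_, rfl⟩

omit [Fintype K] in
/-- A fixed element of `H` is one of the elements `hfix μ`. -/
theorem fixed_diag (h : GL chevG2.Idx K) (hh : h ∈ chevG2.diagonalSubgroup K) (hσ : sgm (sig (theta K m)) h = h) :
    ∃ μ : Kˣ, h = hfix K m μ := by
  obtain ⟨u, rfl⟩ := ((hfK K).mem_diag h).mp hh
  rw [sgm_torus] at hσ
  have h1 := congrArg (fun g : GL chevG2.Idx K => (g : Matrix chevG2.Idx chevG2.Idx K)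
    (Sum.inr ⟨9, by decide⟩) (Sum.inr ⟨9, by decide⟩)) hσ
  simp only [torusGL_coe] at h1
  unfold ChevalleyDatum.charDiag at h1
  rw [Matrix.diagonal_apply_eq, Matrix.diagonal_apply_eq] at h1
  have h2 : (chi chevG2 K (Function.update 1 1 (Units.map (theta K m : K →* K) (u 0) ^ 3)) *
      chi chevG2 K (Function.update 1 0 (Units.map (theta K m : K →* K) (u 1)))) 9 = chi chevG2 K u 9 :=
    Units.ext h1
  rw [Pi.mul_apply, chi_single chevG2 K 1 (by decide), chi_single chevG2 K 0 (by decide), chi_two,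
    cartanOK.2.2.1, cartanOK.2.2.2.1] at h2
  simp only [zpow_zero, zpow_one, one_mul, mul_one] at h2
  refine ⟨u 1, ?_⟩
  show _ = torusGL chevG2 K (chi chevG2 K (uu K m (u 1)))
  congr 1
  apply chi_congr
  intro j hj
  have hj2 : j < 2 := hj
  unfold uu
  interval_cases j
  · rw [if_pos rfl, h2]
  · rw [if_neg (by decide)]

omit [Fintype K] in
theorem chi_uu_zero (μ : Kˣ) : chi chevG2 K (uu K m μ) 0 = μ⁻¹ := by
  rw [chi_two, cartanOK.2.2.2.2.1, cartanOK.2.2.2.2.2, zpow_zero, one_mul]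
  have : uu K m μ 1 = μ := by
    unfold uu
    rw [if_neg (by decide)]
  rw [this, zpow_neg_one]

end

section

variable {K : Type*} [Field K] [Fintype K] [CharP K 3] {m : ℕ} (hK : Fintype.card K = 3 ^ (2 * m + 1))

theorem W_neg_00 (c : K) : (negSys hK).W 0 0 c = xG 2 (-(theta K m c)) * xG 0 (-c) := by
  unfold ReeSys.W ReeSys.M
  have hθ0 : (negSys hK).θ 0 = 0 := map_zero _
  simp only [hθ0, mul_zero, add_zero, zero_add, ne_eq, OfNat.ofNat_ne_zero, not_false_eq_true, zero_pow]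
  have hA : (negSys hK).A 0 = 1 := xG_zero 4
  have hB : (negSys hK).Bb 0 = 1 := xG_zero 5
  have h1 : (negSys hK).X1 0 = 1 := xG_zero 3
  have h3 : (negSys hK).X3 0 = 1 := xG_zero 1
  rw [hA, hB, h1, h3]
  simp only [one_mul, mul_one]
  have he : (negSys hK).ε = -1 := by
    show (((-1 : ℤ) : K)) = -1
    simp
  rw [he, neg_one_mul, neg_one_mul]
  rfl

theorem W_neg_100 : (negSys hK).W 1 0 0 = xG 4 (-1) * xG 5 (-1) * (xG 3 (-1) * xG 2 (-1)) := by
  unfold ReeSys.W ReeSys.M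
  have hθ0 : (negSys hK).θ 0 = 0 := map_zero _
  have hθ1 : (negSys hK).θ 1 = 1 := map_one _
  simp only [hθ0, hθ1, mul_zero, add_zero, mul_one, one_pow]
  have h3 : (negSys hK).X3 0 = 1 := xG_zero 1
  have h4 : (negSys hK).X4 0 = 1 := xG_zero 0
  rw [h3, h4]
  simp only [mul_one]
  have he : (negSys hK).ε = -1 := by
    show (((-1 : ℤ) : K)) = -1
    simp
  rw [he]
  rfl

theorem phi_W00 (c : K) : phi ((((negSys hK).W 0 0 c : ↥(chevG2.group K)) : GL chevG2.Idx K) :
    Matrix chevG2.Idx chevG2.Idx K) = -c ^ 2 := by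
  rw [W_neg_00, Subgroup.coe_mul, Units.val_mul, xG_mat, xG_mat]
  unfold phi
  rw [entry2, neg_sq]

theorem phi_W100 : phi ((((negSys hK).W 1 0 0 : ↥(chevG2.group K)) : GL chevG2.Idx K) :
    Matrix chevG2.Idx chevG2.Idx K) = 1 := by
  rw [W_neg_100]
  simp only [Subgroup.coe_mul, Units.val_mul, xG_mat]
  have e : (-1 : K) = ((-1 : ℤ) : K) := by simp
  rw [e, x_cast 4 (by decide), x_cast 5 (by decide), x_cast 3 (by decide), x_cast 2 (by decide), ← mul_assoc,
    ← Cfsg.Agent.Lib.Helper36_ChevLaurent.castMat_mul, ← Cfsg.Agent.Lib.Helper36_ChevLaurent.castMat_mul,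
    ← Cfsg.Agent.Lib.Helper36_ChevLaurent.castMat_mul]
  unfold phi
  rw [Cfsg.Agent.Lib.Helper36_ChevH.castMat_apply]
  have e1 : Cfsg.Agent.Lib.Helper36_ChevSparse.code chevG2 (Sum.inr ⟨0, by decide⟩) = 2 := rfl
  have e2 : Cfsg.Agent.Lib.Helper36_ChevSparse.code chevG2 (Sum.inr ⟨11, by decide⟩) = 13 := rfl
  rw [e1, e2, entry4]
  have h3 : (3 : K) = 0 := three_eq_zero
  push_cast
  linear_combination -h3

include hK in
/-- The component in `H` of an element of the twisted group in the big cell, from its entry. -/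
theorem exists_param (v : GL chevG2.Idx K) (hv : v ∈ twistedG2 K (3 ^ m))
    (hφ : phi (v : Matrix chevG2.Idx chevG2.Idx K) ≠ 0) :
    ∃ μ : Kˣ, hfix K m μ ∈ twistedG2 K (3 ^ m) ∧
      ((μ⁻¹ : Kˣ) : K) * phi (m0 hK : Matrix chevG2.Idx chevG2.Idx K) = phi (v : Matrix chevG2.Idx chevG2.Idx K) := by
  rcases fixed_cases hK v ((twGen hK).G1le hv) (sgm_fix hK v hv) with
    ⟨u0, hu0, h0, hh0, -, e⟩ | ⟨u0, hu0, h0, hh0, hh0fix, u, hu, e⟩
  · exfalso
    apply hφ
    obtain ⟨w, rfl⟩ := ((hfK K).mem_diag h0).mp hh0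
    rw [e, Units.val_mul, phi_mul_left (rowCol_U u0 hu0.1), torusGL_coe, phi_diag]
  · obtain ⟨μ, rfl⟩ := fixed_diag h0 hh0 hh0fix
    refine ⟨μ, ?_, ?_⟩
    · have e2 : hfix K m μ = u0⁻¹ * v * u⁻¹ * (m0 hK)⁻¹ := by
        rw [e]
        group
      rw [e2]
      exact Subgroup.mul_mem _ (Subgroup.mul_mem _ (Subgroup.mul_mem _ (Subgroup.inv_mem _ hu0.2) hv)
        (Subgroup.inv_mem _ hu.2)) (Subgroup.inv_mem _ (m0_mem hK))
    · rw [e, Units.val_mul, phi_mul_right (rowCol_U u hu.1), Units.val_mul, Units.val_mul, mul_assoc,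
        phi_mul_left (rowCol_U u0 hu0.1)]
      show _ = phi (chevG2.charDiag K (chi chevG2 K (uu K m μ)) * _)
      rw [phi_diag_mul, chi_uu_zero]

/-- The parameters of the fixed torus elements in the twisted group. -/
noncomputable def Lam (K : Type*) [Field K] [CharP K 3] (m : ℕ) : Subgroup Kˣ :=
  (twistedG2 K (3 ^ m)).comap (hfix K m)

omit [Field K] [CharP K 3] in
include hK in
theorem odd_half : Odd (Fintype.card K / 2) := by
  rw [hK]
  have h1 : 3 ^ (2 * m + 1) = 3 * 9 ^ m := by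
    rw [pow_succ, pow_mul]
    norm_num
    ring
  have h2 : 9 ^ m % 4 = 1 := by
    rw [Nat.pow_mod]
    norm_num
  rw [h1, Nat.odd_iff]
  omega

include hK in
/-- Every non-zero element of the field is a square or the negative of a square. -/
theorem sq_or_neg_sq (ν : Kˣ) : ∃ s : Kˣ, ν = s ^ 2 ∨ ν = -s ^ 2 := by
  have hF : ringChar K ≠ 2 := by
    rw [ringChar.eq K 3]
    decide
  rcases FiniteField.pow_dichotomy hF ν.ne_zero with h | h
  · have : IsSquare ν := by
      rw [FiniteField.unit_isSquare_iff hF]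
      apply Units.ext
      rw [Units.val_pow_eq_pow_val, h, Units.val_one]
    obtain ⟨s, hs⟩ := this
    exact ⟨s, Or.inl (by rw [hs, sq])⟩
  · have : IsSquare (-ν) := by
      rw [FiniteField.unit_isSquare_iff hF]
      apply Units.ext
      rw [Units.val_pow_eq_pow_val, Units.val_neg, neg_pow, h, (odd_half hK).neg_one_pow, Units.val_one]
      ring
    obtain ⟨s, hs⟩ := this
    exact ⟨s, Or.inr (by rw [sq, ← hs, neg_neg])⟩

include hK in
/-- All fixed torus elements lie in the twisted group. -/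
theorem lam_top : Lam K m = ⊤ := by
  have hg0 : phi (g0 hK : Matrix chevG2.Idx chevG2.Idx K) = -1 := by
    unfold g0
    rw [phi_W00, one_pow]
  obtain ⟨μ0, hμ0, e0⟩ := exists_param hK (g0 hK) (g0_mem hK) (by rw [hg0]; simp)
  rw [hg0] at e0
  have hp : phi (m0 hK : Matrix chevG2.Idx chevG2.Idx K) ≠ 0 := by
    intro h
    rw [h, mul_zero] at e0
    exact one_ne_zero (neg_eq_zero.mp e0.symm)
  -- the squares
  have hsq : ∀ c : Kˣ, c ^ 2 ∈ Lam K m := by
    intro c
    have hc : phi ((((negSys hK).W 0 0 (c : K) : ↥(chevG2.group K)) : GL chevG2.Idx K) :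
        Matrix chevG2.Idx chevG2.Idx K) ≠ 0 := by
      rw [phi_W00]
      simp
    obtain ⟨μc, hμc, ec⟩ := exists_param hK _ (W_neg_mem hK 0 0 (c : K)) hc
    rw [phi_W00] at ec
    have e : c ^ 2 = μc⁻¹ * μ0 := by
      apply Units.ext
      rw [Units.val_pow_eq_pow_val, Units.val_mul]
      have h1 : ((μ0⁻¹ : Kˣ) : K) * (μ0 : K) = 1 := by rw [← Units.val_mul, inv_mul_cancel, Units.val_one]
      have h2 : ((μc⁻¹ : Kˣ) : K) = (c : K) ^ 2 * ((μ0⁻¹ : Kˣ) : K) := by
        apply mul_right_cancel₀ hp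
        rw [ec, mul_assoc, e0]
        ring
      rw [h2, mul_assoc, h1, mul_one]
    rw [e]
    exact Subgroup.mul_mem _ (Subgroup.inv_mem _ hμc) hμ0
  -- the element `-1`
  have hneg : (-1 : Kˣ) ∈ Lam K m := by
    have h1 : phi ((((negSys hK).W 1 0 0 : ↥(chevG2.group K)) : GL chevG2.Idx K) :
        Matrix chevG2.Idx chevG2.Idx K) ≠ 0 := by
      rw [phi_W100]
      exact one_ne_zero
    obtain ⟨μ1, hμ1, e1⟩ := exists_param hK _ (W_neg_mem hK 1 0 0) h1
    rw [phi_W100] at e1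
    have e : (-1 : Kˣ) = μ1⁻¹ * μ0 := by
      apply Units.ext
      rw [Units.val_neg, Units.val_one, Units.val_mul]
      have h2 : ((μ0⁻¹ : Kˣ) : K) * (μ0 : K) = 1 := by rw [← Units.val_mul, inv_mul_cancel, Units.val_one]
      have h3 : ((μ1⁻¹ : Kˣ) : K) = -((μ0⁻¹ : Kˣ) : K) := by
        apply mul_right_cancel₀ hp
        rw [e1, neg_mul, e0, neg_neg]
      rw [h3, neg_mul, h2]
    rw [e]
    exact Subgroup.mul_mem _ (Subgroup.inv_mem _ hμ1) hμ0
  rw [eq_top_iff]
  intro ν _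
  obtain ⟨s, rfl | rfl⟩ := sq_or_neg_sq hK ν
  · exact hsq s
  · have : -s ^ 2 = (-1 : Kˣ) * s ^ 2 := by rw [neg_one_mul]
    rw [this]
    exact Subgroup.mul_mem _ hneg (hsq s)

include hK in
theorem hfix_mem (μ : Kˣ) : hfix K m μ ∈ twistedG2 K (3 ^ m) := by
  have : μ ∈ Lam K m := by
    rw [lam_top hK]
    exact Subgroup.mem_top _
  exact this

include hK in
/-- The fixed elements of `H` lie in the twisted group. -/
theorem fixed_diag_mem (h : GL chevG2.Idx K) (hh : h ∈ chevG2.diagonalSubgroup K)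
    (hσ : sgm (sig (theta K m)) h = h) : h ∈ twistedG2 K (3 ^ m) := by
  obtain ⟨μ, rfl⟩ := fixed_diag h hh hσ
  exact hfix_mem hK μ

include hK in
/-- The elements of the twisted group in `H`. -/
theorem diag_inf_eq : chevG2.diagonalSubgroup K ⊓ twistedG2 K (3 ^ m) = (hfix K m).range := by
  ext h
  constructor
  · rintro ⟨h1, h2⟩
    obtain ⟨μ, rfl⟩ := fixed_diag h h1 (sgm_fix hK h h2)
    exact ⟨μ, rfl⟩
  · rintro ⟨μ, rfl⟩
    exact ⟨hfix_mem_diag μ, hfix_mem hK μ⟩

include hK in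
theorem card_diag_inf : Nat.card ↥(chevG2.diagonalSubgroup K ⊓ twistedG2 K (3 ^ m)) = 3 ^ (2 * m + 1) - 1 := by
  rw [diag_inf_eq hK, ← Nat.card_congr (MonoidHom.ofInjective (hfix_injective (K := K) (m := m))).toEquiv,
    Nat.card_units, Nat.card_eq_fintype_card, hK]

include hK in
theorem cyclic_diag_inf : IsCyclic ↥(chevG2.diagonalSubgroup K ⊓ twistedG2 K (3 ^ m)) := by
  rw [diag_inf_eq hK]
  exact isCyclic_of_surjective (hfix K m).rangeRestrict (hfix K m).rangeRestrict_surjective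

end

end Cfsg.Agent.Lib.Helper36_ReeH
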