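import Cfsg.Agent.Lib.Helper36_ReeCube
import Cfsg.Agent.Lib.Helper36_ReeH
import Cfsg.Agent.Lib.Helper36_ReeBN
import Cfsg.Agent.Lib.Helper15_ReeGenAbs

set_option autoImplicit false

/-!
# The Ree groups are generated by two elements (helper15)

`²G₂(q) = ⟨h, u n⟩` with `h` a generator of the cyclic torus `H¹`, `u = W 1 0 0` and `n` the
monomial element (Steinberg).
-/

namespace Cfsg.Agent.Lib.Helper15_ReeGen

open Cfsg Cfsg.Lie Cfsg.Agent.Lib.Helper18_ChevFast Cfsg.Agent.Lib.Helper18_ChevEngine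
  Cfsg.Agent.Lib.Helper18_ChevN Cfsg.Agent.Lib.Helper18_ChevWeyl
  Cfsg.Agent.Lib.Helper18_ChevGL Cfsg.Agent.Lib.Helper18_ChevTri
  Cfsg.Agent.Lib.Helper18_ChevAdd Cfsg.Agent.Lib.Helper18_ChevUni Cfsg.Agent.Lib.Helper18_ChevComm
  Cfsg.Agent.Lib.Helper18_ChevMono
  Cfsg.Agent.Lib.Helper36_TwistU Cfsg.Agent.Lib.Helper36_TwistW
  Cfsg.Agent.Lib.Helper36_GraphAut Cfsg.Agent.Lib.Helper36_GraphAutG2 Cfsg.Agent.Lib.Helper36_GraphAutG2Main
  Cfsg.Agent.Lib.Helper36_ReeAlg Cfsg.Agent.Lib.Helper36_ReeSetup Cfsg.Agent.Lib.Helper36_ReeFix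
  Cfsg.Agent.Lib.Helper36_TwistGen Cfsg.Agent.Lib.Helper36_TwistWeyl
  Cfsg.Agent.Lib.Helper36_ChevTorus Cfsg.Agent.Lib.Helper36_ChevTorusAll
  Cfsg.Agent.Lib.Helper36_ChevW0 Cfsg.Agent.Lib.Helper36_ChevW0All Cfsg.Agent.Lib.Helper36_ChevTables
  Cfsg.Agent.Lib.Helper36_ChevOrder Cfsg.Agent.Lib.Helper36_ChevOrderAll Cfsg.Agent.Lib.Helper36_WeylChain
  Cfsg.Agent.Lib.Helper36_WeylLit Cfsg.Agent.Lib.Helper36_WeylLit.RootLit
  Cfsg.Agent.Lib.Helper36_ChevDataG2Lit Cfsg.Agent.Lib.Helper36_ChevDataG2LitOK Cfsg.Agent.Lib.Helper36_ReeTw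
  Cfsg.Agent.Lib.Helper36_ChevBorel Cfsg.Agent.Lib.Helper36_ChevCore Cfsg.Agent.Lib.Helper36_ReeBruhat
  Cfsg.Agent.Lib.Helper36_ReeEntry Cfsg.Agent.Lib.Helper36_ReeH Cfsg.Agent.Lib.Helper36_ReeOrder
  Cfsg.Agent.Lib.Helper36_ReeN Cfsg.Agent.Lib.Helper36_ReeBN Cfsg.Agent.Lib.Helper36_ReePerf
  Cfsg.Agent.Lib.Helper36_ReeCubeAlg Cfsg.Agent.Lib.Helper36_ReeCube Cfsg.Agent.Lib.Helper15_ReeGenAbs

section

variable {K : Type*} [Field K] [Fintype K] [CharP K 3] {m : ℕ} (hK : Fintype.card K = 3 ^ (2 * m + 1))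

theorem eps_one : (posSys hK).ε = 1 := by
  show (((1 : ℤ) : K)) = 1
  simp

/-- the coercion of the fixed elements into the general linear group -/
noncomputable def wGL (t u v : K) : GL chevG2.Idx K :=
  (((posSys hK).W t u v : ↥(chevG2.group K)) : GL chevG2.Idx K)

theorem wGL_mul (t u v t' u' v' : K) : wGL hK t u v * wGL hK t' u' v' =
    wGL hK (t + t') (u + u' - phi (posSys hK) t' * t)
      (v + v' - t' * u - phi (posSys hK) t' * t ^ 2 + phi (posSys hK) t' * t * t') := by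
  unfold wGL
  rw [← W_mul (posRel hK) (eps_one hK)]
  rfl

theorem wGL_inv (t u v : K) : (wGL hK t u v)⁻¹ =
    wGL hK (-t) (-u - phi (posSys hK) t * t) (-v - t * u + phi (posSys hK) t * t ^ 2) := by
  unfold wGL
  rw [← W_inv (posRel hK) (eps_one hK)]
  rfl

/-- the character value at the root `6` of a fixed torus element, as a field element -/
noncomputable def chi6 (μ : Kˣ) : K := ((chi chevG2 K (uu K m μ) 6 : Kˣ) : K)

/-- conjugation by a fixed torus element multiplies the first parameter by `chi6` -/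
theorem conj_first (μ : Kˣ) (t u v : K) :
    ∃ u' v' : K, hfix K m μ * wGL hK t u v * (hfix K m μ)⁻¹ = wGL hK (chi6 (m := m) μ * t) u' v' := by
  have hmem : hfix K m μ * wGL hK t u v * (hfix K m μ)⁻¹ ∈
      chevG2.posUnipotent K ⊓ twistedG2 K (3 ^ m) :=
    ⟨diag_conj_U _ (hfix_mem_diag μ) _ (W_pos_memU hK t u v),
      Subgroup.mul_mem _ (Subgroup.mul_mem _ (hfix_mem hK μ) (W_pos_mem hK t u v))
        (Subgroup.inv_mem _ (hfix_mem hK μ))⟩
  obtain ⟨t', u', v', e⟩ := (mem_U_inf hK _).mp hmem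
  have hχ : chevG2.IsRootCharacter (chi chevG2 K (uu K m μ)) :=
    isRootCharacter_chi chevG2 K (hfK K).hca _
  have e2 : torusGL chevG2 K (chi chevG2 K (uu K m μ)) *
      (((posSys hK).W t u v : ↥(chevG2.group K)) : GL chevG2.Idx K) *
      (torusGL chevG2 K (chi chevG2 K (uu K m μ)))⁻¹ =
      (((posSys hK).W t' u' v' : ↥(chevG2.group K)) : GL chevG2.Idx K) := e
  rw [(posSys hK).W_eq_N t u v, (posSys hK).W_eq_N t' u' v', conj_N hK _ hχ] at e2
  obtain ⟨h1, -⟩ := N_inj hK _ _ _ _ _ _ _ _ _ _ _ _ (Subtype.ext e2)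
  rw [eps_one hK, one_mul, one_mul] at h1
  refine ⟨u', v', ?_⟩
  rw [e]
  unfold wGL chi6
  rw [h1]

include hK in
/-- every unit is a value of `chi6` -/
theorem chi6_surj (ν : Kˣ) : ∃ μ : Kˣ, chi6 (m := m) μ = (ν : K) := by
  set a : Kˣ := Units.map (theta K m : K →* K) ν with ha
  have hθθ : (Units.map (theta K m : K →* K) a) ^ 3 = ν := by
    apply Units.ext
    rw [Units.val_pow_eq_pow_val]
    exact theta_theta hK (ν : K)
  refine ⟨ν ^ 2 * a ^ 3, ?_⟩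
  unfold chi6
  have h0 : uu K m (ν ^ 2 * a ^ 3) 0 = Units.map (theta K m : K →* K) (ν ^ 2 * a ^ 3) := by
    unfold uu
    rw [if_pos rfl]
  have h1 : uu K m (ν ^ 2 * a ^ 3) 1 = ν ^ 2 * a ^ 3 := by
    unfold uu
    rw [if_neg (by decide)]
  rw [chi_two, cartanOK2.1, cartanOK2.2.1, h0, h1, map_mul, map_pow, map_pow, ← ha, hθθ]
  congr 1
  rw [zpow_neg, inv_mul_eq_iff_eq_mul]
  have key : (ν ^ 2 * a ^ 3) ^ 2 = (a ^ 2 * ν) ^ 3 * ν := by
    apply Units.ext
    simp only [Units.val_mul, Units.val_pow_eq_pow_val]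
    ring
  exact_mod_cast key

include hK in
theorem exists_phi_ne (hm : 1 ≤ m) : ∃ t0 : K, phi (posSys hK) t0 ≠ t0 := by
  by_contra hcon
  push Not at hcon
  obtain ⟨μ, hμ⟩ := exists_unit hK hm
  apply hμ
  have h1 : ((μ : K)) ^ 3 = μ := by
    rw [← phi_phi (S := posSys hK), hcon, hcon]
  apply Units.ext
  rw [Units.val_pow_eq_pow_val, Units.val_one]
  have h2 : (μ : K) * ((μ : K) ^ 2 - 1) = 0 := by linear_combination h1
  rcases mul_eq_zero.1 h2 with h | h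
  · exact absurd h μ.ne_zero
  · exact sub_eq_zero.1 h

omit [Fintype K] in
theorem neg_one_ne_one' : (-1 : Kˣ) ≠ 1 := by
  intro h
  have h1 : (-1 : K) = 1 := by
    have := congrArg Units.val h
    simpa using this
  have h3 : (3 : K) = 0 := three_eq_zero
  have : (1 : K) = 0 := by linear_combination h3 + h1
  exact one_ne_zero this

include hK in
/-- **Steinberg**: the Ree group is generated by two elements. -/
theorem two_generated (hm : 1 ≤ m) :
    ∃ a b : ↥(twistedG2 K (3 ^ m)),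
      Subgroup.closure ({a, b} : Set ↥(twistedG2 K (3 ^ m))) = ⊤ := by
  classical
  obtain ⟨μ0, hμ0⟩ := IsCyclic.exists_generator (α := Kˣ)
  set u1 : GL chevG2.Idx K := wGL hK 1 0 0 with hu1
  have hu1mem : u1 ∈ twistedG2 K (3 ^ m) := W_pos_mem hK 1 0 0
  refine ⟨⟨hfix K m μ0, hfix_mem hK μ0⟩, ⟨u1 * m0 hK, Subgroup.mul_mem _ hu1mem (m0_mem hK)⟩, ?_⟩
  set X : Subgroup ↥(twistedG2 K (3 ^ m)) := Subgroup.closure
    ({⟨hfix K m μ0, hfix_mem hK μ0⟩, ⟨u1 * m0 hK, Subgroup.mul_mem _ hu1mem (m0_mem hK)⟩} :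
      Set ↥(twistedG2 K (3 ^ m))) with hX
  set Y : Subgroup (GL chevG2.Idx K) := X.map (twistedG2 K (3 ^ m)).subtype with hY
  have hY1 : hfix K m μ0 ∈ Y :=
    ⟨⟨hfix K m μ0, hfix_mem hK μ0⟩, Subgroup.subset_closure (by simp), rfl⟩
  have hY2 : u1 * m0 hK ∈ Y :=
    ⟨⟨u1 * m0 hK, Subgroup.mul_mem _ hu1mem (m0_mem hK)⟩, Subgroup.subset_closure (by simp), rfl⟩
  -- all torus elements
  have hH : ∀ μ : Kˣ, hfix K m μ ∈ Y := by
    intro μ
    obtain ⟨k, rfl⟩ := Subgroup.mem_zpowers_iff.1 (hμ0 μ)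
    rw [map_zpow]
    exact Y.zpow_mem hY1 k
  -- the conjugate of the torus generator by the monomial element
  have hh0N : hfix K m μ0 ∈ chevG2.monomialSubgroup K ⊓ twistedG2 K (3 ^ m) :=
    ⟨diagonal_le_monomial (hfix_mem_diag μ0), hfix_mem hK μ0⟩
  have hm0N := m0_mem_N1 hK
  have hm0inv : (m0 hK)⁻¹ ∈ chevG2.monomialSubgroup K ⊓ twistedG2 K (3 ^ m) :=
    Subgroup.inv_mem _ hm0N
  have hprodN : m0 hK * hfix K m μ0 ∈ chevG2.monomialSubgroup K ⊓ twistedG2 K (3 ^ m) :=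
    Subgroup.mul_mem _ hm0N hh0N
  have hnd1 : m0 hK * hfix K m μ0 ∉ chevG2.diagonalSubgroup K := by
    intro h
    have := (mul_mem_diag_iff hK _ _ hm0N hh0N).1 h
    exact m0_not_diag hK (this.2 (hfix_mem_diag μ0))
  have hdiag : m0 hK * hfix K m μ0 * (m0 hK)⁻¹ ∈
      chevG2.diagonalSubgroup K ⊓ twistedG2 K (3 ^ m) := by
    refine ⟨(mul_mem_diag_iff hK _ _ hprodN hm0inv).2 ⟨fun h => absurd h hnd1, fun h => ?_⟩,
      Subgroup.mul_mem _ hprodN.2 hm0inv.2⟩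
    exact absurd ((Subgroup.inv_mem_iff _).1 h) (m0_not_diag hK)
  rw [diag_inf_eq hK] at hdiag
  obtain ⟨μ', hμ'⟩ := hdiag
  have hμ'1 : μ' ≠ 1 := by
    intro h
    rw [h, map_one] at hμ'
    have h2 : hfix K m μ0 = 1 := by
      have h3 : m0 hK * hfix K m μ0 = m0 hK := by
        rw [← mul_inv_eq_one]
        exact hμ'.symm
      exact mul_left_cancel (h3.trans (mul_one _).symm)
    have h4 : μ0 = 1 := hfix_injective (h2.trans (map_one _).symm)
    obtain ⟨k, hk⟩ := Subgroup.mem_zpowers_iff.1 (hμ0 (-1))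
    rw [h4, one_zpow] at hk
    exact neg_one_ne_one' hk.symm
  -- a non-trivial element of `U¹` in `Y`
  have hy0 : u1 * hfix K m μ' * u1⁻¹ ∈ Y := by
    have h1 : (u1 * m0 hK) * hfix K m μ0 * (u1 * m0 hK)⁻¹ ∈ Y :=
      Y.mul_mem (Y.mul_mem hY2 hY1) (Y.inv_mem hY2)
    have e : (u1 * m0 hK) * hfix K m μ0 * (u1 * m0 hK)⁻¹ = u1 * hfix K m μ' * u1⁻¹ := by
      rw [hμ']
      group
    rw [e] at h1
    exact h1
  have hy1 : hfix K m μ' * u1 * (hfix K m μ')⁻¹ * u1⁻¹ ∈ Y := by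
    have h1 := Y.mul_mem (hH μ') (Y.inv_mem hy0)
    have e : hfix K m μ' * (u1 * hfix K m μ' * u1⁻¹)⁻¹ =
        hfix K m μ' * u1 * (hfix K m μ')⁻¹ * u1⁻¹ := by group
    rwa [e] at h1
  -- its first parameter
  obtain ⟨a1, b1, hc1⟩ := conj_first hK μ' 1 0 0
  have hc1' : hfix K m μ' * u1 * (hfix K m μ')⁻¹ = wGL hK (chi6 (m := m) μ' * 1) a1 b1 := hc1
  rw [hc1', hu1, wGL_inv, wGL_mul] at hy1
  set c0 : K := chi6 (m := m) μ' * 1 + -1 with hc0
  have hc0ne : c0 ≠ 0 := by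
    intro h
    apply hμ'1
    have h5 : chi6 (m := m) μ' = 1 := by
      rw [hc0] at h
      linear_combination h
    -- `chi6` is injective on units, being surjective on a finite set
    have hsurj : Function.Surjective (fun μ : Kˣ => (Units.mk0 (chi6 (m := m) μ)
        (by unfold chi6; exact Units.ne_zero _) : Kˣ)) := by
      intro ν
      obtain ⟨μ, hμ⟩ := chi6_surj hK ν
      exact ⟨μ, Units.ext hμ⟩
    have hinj := Finite.injective_iff_surjective.2 hsurj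
    apply hinj
    apply Units.ext
    show chi6 (m := m) μ' = chi6 (m := m) 1
    rw [h5]
    unfold chi6
    have : uu K m 1 = 1 := by
      funext j
      unfold uu
      split_ifs <;> simp
    rw [this, chi_one]
    rfl
  -- every first parameter occurs in `Y`
  have hall : ∀ t : K, ∃ u v, wGL hK t u v ∈ Y := by
    intro t
    by_cases ht : t = 0
    · refine ⟨0, 0, ?_⟩
      rw [ht]
      unfold wGL
      rw [W_zero (eps_one hK)]
      exact Y.one_mem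
    · obtain ⟨μ, hμ⟩ := chi6_surj hK (Units.mk0 (t / c0) (div_ne_zero ht hc0ne))
      obtain ⟨a2, b2, hc2⟩ := conj_first hK μ c0 _ _
      have h1 := Y.mul_mem (Y.mul_mem (hH μ) hy1) (Y.inv_mem (hH μ))
      rw [hc2, hμ, Units.val_mk0, div_mul_cancel₀ _ hc0ne] at h1
      exact ⟨a2, b2, h1⟩
  -- the generation criterion
  let Yc : Subgroup ↥(chevG2.group K) := Y.comap (chevG2.group K).subtype
  have hU : ∀ t u v : K, wGL hK t u v ∈ Y := fun t u v =>
    mem_of_first_coord (posRel hK) (eps_one hK) Yc (exists_phi_ne hK hm)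
      (fun t => hall t) t u v
  -- the monomial element
  have hm0Y : m0 hK ∈ Y := by
    have h1 := Y.mul_mem (Y.inv_mem (hU 1 0 0)) hY2
    rwa [← hu1, inv_mul_cancel_left] at h1
  -- all generators
  have hle : twistedG2 K (3 ^ m) ≤ Y := by
    unfold twistedG2 ChevalleyDatum.genSubgroup
    rw [Subgroup.closure_le]
    rintro g ⟨w, ⟨t, u, v, hw | hw⟩, hg⟩
    · rw [hw, reeU_eq hK] at hg
      rw [Units.ext hg]
      exact hU t u v
    · rw [hw, reeV_eq hK] at hg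
      rw [Units.ext hg]
      have h1 : m0 hK * (((negSys hK).W t u v : ↥(chevG2.group K)) : GL chevG2.Idx K) *
          (m0 hK)⁻¹ ∈ chevG2.posUnipotent K ⊓ twistedG2 K (3 ^ m) :=
        ⟨m0_conj_V hK _ (W_neg_memV hK t u v),
          Subgroup.mul_mem _ (Subgroup.mul_mem _ (m0_mem hK) (W_neg_mem hK t u v))
            (Subgroup.inv_mem _ (m0_mem hK))⟩
      obtain ⟨t', u', v', e⟩ := (mem_U_inf hK _).mp h1
      have h2 : m0 hK * (((negSys hK).W t u v : ↥(chevG2.group K)) : GL chevG2.Idx K) *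
          (m0 hK)⁻¹ ∈ Y := by
        rw [e]
        exact hU t' u' v'
      have h3 := Y.mul_mem (Y.mul_mem (Y.inv_mem hm0Y) h2) hm0Y
      have e3 : (m0 hK)⁻¹ * (m0 hK * (((negSys hK).W t u v : ↥(chevG2.group K)) :
          GL chevG2.Idx K) * (m0 hK)⁻¹) * m0 hK =
          (((negSys hK).W t u v : ↥(chevG2.group K)) : GL chevG2.Idx K) := by group
      rwa [e3] at h3
  rw [eq_top_iff]
  intro g _
  obtain ⟨x, hx, hxg⟩ := hle g.2
  have : x = g := Subtype.ext hxg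
  rw [← this]
  exact hx

end

end Cfsg.Agent.Lib.Helper15_ReeGen
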