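import Cfsg.Agent.Lib.Helper36_ReeCube
import Cfsg.Agent.Lib.Helper36_ReeH
import Cfsg.Agent.Lib.Helper15_ReeAbs

set_option autoImplicit false

/-!
# Heisenberg-type data inside the Ree groups (helper15)

The fixed elements `W t u v` of `U` in the twisted group `²G₂(q)`, `q = 3^(2m+1)`:
`z v = W 0 0 v` is central in `U¹` and additive, `b u = W 0 u 0` is additive,
`b u * a t = a t * b u * z (-(t u))` for `a t = W t 0 0`, and the fixed torus element `hfix μ`
conjugates `z v` to `z (μ v)`.  This is the input of `Helper15_ReeAbs` for S2343.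
-/

namespace Cfsg.Agent.Lib.Helper15_ReeU

open Cfsg Cfsg.Lie Cfsg.Agent.Lib.Helper18_ChevFast Cfsg.Agent.Lib.Helper18_ChevEngine
  Cfsg.Agent.Lib.Helper18_ChevN Cfsg.Agent.Lib.Helper18_ChevWeyl
  Cfsg.Agent.Lib.Helper18_ChevGL Cfsg.Agent.Lib.Helper18_ChevTri
  Cfsg.Agent.Lib.Helper18_ChevAdd Cfsg.Agent.Lib.Helper18_ChevUni Cfsg.Agent.Lib.Helper18_ChevComm
  Cfsg.Agent.Lib.Helper36_TwistU Cfsg.Agent.Lib.Helper36_TwistW
  Cfsg.Agent.Lib.Helper36_GraphAut Cfsg.Agent.Lib.Helper36_GraphAutG2 Cfsg.Agent.Lib.Helper36_GraphAutG2Main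
  Cfsg.Agent.Lib.Helper36_ReeAlg Cfsg.Agent.Lib.Helper36_ReeSetup Cfsg.Agent.Lib.Helper36_ReeFix
  Cfsg.Agent.Lib.Helper36_TwistGen Cfsg.Agent.Lib.Helper36_TwistWeyl
  Cfsg.Agent.Lib.Helper36_ChevTorus Cfsg.Agent.Lib.Helper36_ChevTorusAll
  Cfsg.Agent.Lib.Helper36_ChevW0 Cfsg.Agent.Lib.Helper36_ChevW0All Cfsg.Agent.Lib.Helper36_ChevTables
  Cfsg.Agent.Lib.Helper36_ChevOrder Cfsg.Agent.Lib.Helper36_ChevOrderAll Cfsg.Agent.Lib.Helper36_WeylChain
  Cfsg.Agent.Lib.Helper36_WeylLit Cfsg.Agent.Lib.Helper36_WeylLit.RootLit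
  Cfsg.Agent.Lib.Helper36_ChevDataG2Lit Cfsg.Agent.Lib.Helper36_ChevDataG2LitOK Cfsg.Agent.Lib.Helper36_ReeTw
  Cfsg.Agent.Lib.Helper36_ChevBorel Cfsg.Agent.Lib.Helper36_ChevCore Cfsg.Agent.Lib.Helper36_ReeBruhat
  Cfsg.Agent.Lib.Helper36_ReeEntry Cfsg.Agent.Lib.Helper36_ReeH Cfsg.Agent.Lib.Helper36_ReeOrder
  Cfsg.Agent.Lib.Helper36_ReeN Cfsg.Agent.Lib.Helper36_ReeBN Cfsg.Agent.Lib.Helper36_ReePerf
  Cfsg.Agent.Lib.Helper36_ReeCubeAlg Cfsg.Agent.Lib.Helper36_ReeCube Cfsg.Agent.Lib.Helper15_ReeAbs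

section

variable {K : Type*} [Field K] [Fintype K] [CharP K 3] {m : ℕ} (hK : Fintype.card K = 3 ^ (2 * m + 1))

theorem eps_one : (posSys hK).ε = 1 := by
  show (((1 : ℤ) : K)) = 1
  simp

omit [Fintype K] in
theorem two_eq : (2 : K) = -1 := by
  have h3 : (3 : K) = 0 := three_eq_zero
  linear_combination h3

/-- the normal form of a fixed element (`ε = 1`) -/
theorem W_eq (t u v : K) : (posSys hK).W t u v =
    (posSys hK).N t ((posSys hK).θ t) ((posSys hK).θ u) ((posSys hK).θ v)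
      (((posSys hK).θ t) ^ 3 * t + u) (((posSys hK).θ t) ^ 3 * t ^ 2 + v) := by
  rw [(posSys hK).W_eq_N, eps_one hK]
  simp only [one_mul]

theorem Wz_eq (v : K) : (posSys hK).W 0 0 v = (posSys hK).N 0 0 0 ((posSys hK).θ v) 0 v := by
  rw [W_eq, map_zero]
  congr 1 <;> ring

theorem Wb_eq (u : K) : (posSys hK).W 0 u 0 = (posSys hK).N 0 0 ((posSys hK).θ u) 0 u 0 := by
  rw [W_eq, map_zero]
  congr 1 <;> ring

theorem Wa_eq (t : K) : (posSys hK).W t 0 0 =
    (posSys hK).N t ((posSys hK).θ t) 0 0 (((posSys hK).θ t) ^ 3 * t) (((posSys hK).θ t) ^ 3 * t ^ 2) := by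
  rw [W_eq, map_zero]
  congr 1 <;> ring

theorem z_mul (v v' : K) :
    (posSys hK).W 0 0 v * (posSys hK).W 0 0 v' = (posSys hK).W 0 0 (v + v') := by
  rw [Wz_eq, Wz_eq, Wz_eq, N_mul (posRel hK), map_add]
  congr 1 <;> ring

theorem b_mul (u u' : K) :
    (posSys hK).W 0 u 0 * (posSys hK).W 0 u' 0 = (posSys hK).W 0 (u + u') 0 := by
  rw [Wb_eq, Wb_eq, Wb_eq, N_mul (posRel hK), map_add]
  congr 1 <;> ring

theorem z_b_comm (v u : K) :
    (posSys hK).W 0 0 v * (posSys hK).W 0 u 0 = (posSys hK).W 0 u 0 * (posSys hK).W 0 0 v := by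
  rw [Wz_eq, Wb_eq, N_mul (posRel hK), N_mul (posRel hK)]
  congr 1 <;> ring

theorem z_a_comm (v t : K) :
    (posSys hK).W 0 0 v * (posSys hK).W t 0 0 = (posSys hK).W t 0 0 * (posSys hK).W 0 0 v := by
  rw [Wz_eq, Wa_eq, N_mul (posRel hK), N_mul (posRel hK)]
  congr 1 <;> ring

theorem b_a_rel (u t : K) :
    (posSys hK).W 0 u 0 * (posSys hK).W t 0 0 =
      (posSys hK).W t 0 0 * (posSys hK).W 0 u 0 * (posSys hK).W 0 0 (-1 * t * u) := by
  rw [Wz_eq, Wb_eq, Wa_eq, N_mul (posRel hK), N_mul (posRel hK), N_mul (posRel hK)]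
  have h2 : (2 : K) = -1 := two_eq
  simp only [map_mul, map_neg, map_one, h2]
  congr 1 <;> ring

/-- conjugation of the central elements by the fixed torus elements -/
theorem conj_z (μ : Kˣ) (v : K) :
    hfix K m μ * (((posSys hK).W 0 0 v : ↥(chevG2.group K)) : GL chevG2.Idx K) * (hfix K m μ)⁻¹ =
      (((posSys hK).W 0 0 ((μ : K) * v) : ↥(chevG2.group K)) : GL chevG2.Idx K) := by
  have hχ : chevG2.IsRootCharacter (chi chevG2 K (uu K m μ)) :=
    isRootCharacter_chi chevG2 K (hfK K).hca _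
  have h0 : uu K m μ 0 = Units.map (theta K m : K →* K) μ := by
    unfold uu
    rw [if_pos rfl]
  have h1 : uu K m μ 1 = μ := by
    unfold uu
    rw [if_neg (by decide)]
  have h9 : ((chi chevG2 K (uu K m μ) 9 : Kˣ) : K) = (posSys hK).θ (μ : K) := by
    rw [chi_two, cartanOK2.2.2.2.2.1, cartanOK2.2.2.2.2.2.1, zpow_one, zpow_zero, mul_one, h0]
    rfl
  have h11 : ((chi chevG2 K (uu K m μ) 11 : Kˣ) : K) = (μ : K) := by
    rw [chi_two, cartanOK2.2.2.2.2.2.2.1, cartanOK2.2.2.2.2.2.2.2, zpow_zero, zpow_one, one_mul, h1]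
  rw [Wz_eq, Wz_eq]
  show torusGL chevG2 K (chi chevG2 K (uu K m μ)) * _ *
    (torusGL chevG2 K (chi chevG2 K (uu K m μ)))⁻¹ = _
  rw [conj_N hK _ hχ, h9, h11, map_mul]
  simp only [mul_zero]

/-- the fixed elements `W t u v` inside the twisted group -/
noncomputable def wG (t u v : K) : ↥(twistedG2 K (3 ^ m)) :=
  ⟨(((posSys hK).W t u v : ↥(chevG2.group K)) : GL chevG2.Idx K), W_pos_mem hK t u v⟩

/-- the fixed torus elements inside the twisted group -/
noncomputable def hG (μ : Kˣ) : ↥(twistedG2 K (3 ^ m)) := ⟨hfix K m μ, hfix_mem hK μ⟩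

theorem wG_mul (t u v t' u' v' t'' u'' v'' : K)
    (h : (posSys hK).W t u v * (posSys hK).W t' u' v' = (posSys hK).W t'' u'' v'') :
    wG hK t u v * wG hK t' u' v' = wG hK t'' u'' v'' := by
  apply Subtype.ext
  exact congrArg (fun g : ↥(chevG2.group K) => (g : GL chevG2.Idx K)) h

/-- the Heisenberg-type data of the Ree group -/
noncomputable def heis : HeisData K ↥(twistedG2 K (3 ^ m)) where
  z v := wG hK 0 0 v
  b u := wG hK 0 u 0
  a t := wG hK t 0 0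
  h μ := hG hK μ
  c := -1
  hc := neg_ne_zero.2 one_ne_zero
  z_add u v := (wG_mul hK _ _ _ _ _ _ _ _ _ (z_mul hK u v)).symm
  b_add u v := (wG_mul hK _ _ _ _ _ _ _ _ _ (b_mul hK u v)).symm
  zb v u := by
    apply Subtype.ext
    exact congrArg (fun g : ↥(chevG2.group K) => (g : GL chevG2.Idx K)) (z_b_comm hK v u)
  za v t := by
    apply Subtype.ext
    exact congrArg (fun g : ↥(chevG2.group K) => (g : GL chevG2.Idx K)) (z_a_comm hK v t)
  ba u t := by
    apply Subtype.ext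
    exact congrArg (fun g : ↥(chevG2.group K) => (g : GL chevG2.Idx K)) (b_a_rel hK u t)
  hz μ v := by
    apply Subtype.ext
    have h := conj_z hK μ v
    rw [mul_inv_eq_iff_eq_mul] at h
    exact h

theorem heis_z (v : K) : (heis hK).z v = wG hK 0 0 v := rfl

theorem heis_h (μ : Kˣ) : (heis hK).h μ = hG hK μ := rfl

theorem heis_z_one_ne : (heis hK).z 1 ≠ 1 := by
  intro h
  have h1 : (((posSys hK).W 0 0 1 : ↥(chevG2.group K)) : GL chevG2.Idx K) = 1 :=
    congrArg Subtype.val h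
  have h2 : (posSys hK).W 0 0 1 = 1 := Subtype.ext h1
  exact one_ne_zero ((W_eq_one hK 0 0 1).1 h2).2.2

theorem hG_sq : (hG hK (-1)) ^ 2 = 1 := by
  apply Subtype.ext
  show (hfix K m (-1)) ^ 2 = 1
  rw [← map_pow]
  simp

omit [Fintype K] in
theorem neg_one_ne_one : (-1 : Kˣ) ≠ 1 := by
  intro h
  have h1 : (-1 : K) = 1 := by
    have := congrArg Units.val h
    simpa using this
  have h3 : (3 : K) = 0 := three_eq_zero
  have : (1 : K) = 0 := by linear_combination h3 + h1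
  exact one_ne_zero this

end

end Cfsg.Agent.Lib.Helper15_ReeU
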