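import Mathlib
import Cfsg.Prelude.Def_Characters
import Cfsg.Prelude.Def_Blocks
import Cfsg.Agent.Lib.Helper3_CharOrtho
import Cfsg.Agent.Lib.Helper80_CharBasic

/-!
# S4707, package PK-F: the counting argument (helper15)

`ρ` an integer valued irreducible constituent (multiplicity one) of the permutation character `π` of a
transitive group of degree `2p`, `ρ(1) = p - 1`, `ρ = -1` on the `p`-singular elements, which number
`(p-1)|G|/(2p)` and have no fixed points; `(ρ_H, ρ_H) ≥ 3` for a point stabiliser `H`.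
Then `|G| = p (p-1) (p-2)`.
-/

set_option autoImplicit false
set_option linter.unusedSectionVars false
set_option linter.unusedVariables false

namespace Cfsg.Agent.Lib.Helper15_S4707_F

open Cfsg MulAction
open scoped ComplexConjugate

section dc

variable {G : Type*} [Group G] [Fintype G] {Ω : Type*} [Fintype Ω] [DecidableEq Ω]
  [MulAction G Ω]

/-- double counting: `∑_g |Fix g| F(g) = |Ω| ∑_{h ∈ G_a} F(h)` for a conjugation invariant `F`. -/
theorem double_count [MulAction.IsPretransitive G Ω] (a₀ : Ω) (F : G → ℤ)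
    (hF : ∀ g y : G, F (y * g * y⁻¹) = F g) :
    ∑ g : G, ((Finset.univ.filter (fun ω : Ω => g • ω = ω)).card : ℤ) * F g =
      (Fintype.card Ω : ℤ) * ∑ h ∈ Finset.univ.filter (fun g : G => g • a₀ = a₀), F h := by
  classical
  have h1 : ∀ g : G, ((Finset.univ.filter (fun ω : Ω => g • ω = ω)).card : ℤ) * F g =
      ∑ ω : Ω, if g • ω = ω then F g else 0 := by
    intro g
    rw [Finset.card_filter, Nat.cast_sum, Finset.sum_mul]
    refine Finset.sum_congr rfl fun ω _ => ?_
    split_ifs <;> simp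
  rw [Finset.sum_congr rfl (fun g _ => h1 g), Finset.sum_comm]
  have h2 : ∀ ω : Ω, (∑ g : G, if g • ω = ω then F g else 0) =
      ∑ h ∈ Finset.univ.filter (fun g : G => g • a₀ = a₀), F h := by
    intro ω
    obtain ⟨y, hy⟩ := MulAction.exists_smul_eq G a₀ ω
    rw [← Finset.sum_filter]
    symm
    refine Finset.sum_bij (fun h _ => y * h * y⁻¹) ?_ ?_ ?_ ?_
    · intro h hh
      rw [Finset.mem_filter] at hh ⊢
      refine ⟨Finset.mem_univ _, ?_⟩
      rw [← hy, mul_smul, mul_smul, inv_smul_smul, hh.2]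
    · intro h₁ _ h₂ _ h
      have := mul_right_cancel h
      exact mul_left_cancel this
    · intro g hg
      rw [Finset.mem_filter] at hg
      refine ⟨y⁻¹ * g * y, ?_, by group⟩
      rw [Finset.mem_filter]
      refine ⟨Finset.mem_univ _, ?_⟩
      rw [mul_smul, mul_smul, hy, hg.2, ← hy, inv_smul_smul]
    · intro h _
      exact (hF h y).symm
  rw [Finset.sum_congr rfl (fun ω _ => h2 ω), Finset.sum_const, Finset.card_univ, nsmul_eq_mul]

end dc

/-- the arithmetic heart -/
theorem arith (p g₀ s A B c : ℤ) (hp : 3 < p) (hg₀ : 0 ≤ g₀) (hs : 2 * p * s = (p - 1) * g₀)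
    (hA : A = g₀ - 2 * s - (p - 1) * (p - 2)) (hA0 : 0 ≤ A)
    (hB : (c - 1) * g₀ = 2 * p * ((p - 1) * (p - 2)) + B) (hBA : B ≤ (2 * p - 2) * A)
    (hc : 3 ≤ c) : g₀ = p * (p - 1) * (p - 2) := by
  have h1 : p * A = g₀ - p * ((p - 1) * (p - 2)) := by
    rw [hA]; linear_combination (-1 : ℤ) * hs
  have hlow : p * ((p - 1) * (p - 2)) ≤ g₀ := by nlinarith
  have h2 : p * ((c - 1) * g₀) ≤ 2 * p * p * ((p - 1) * (p - 2)) + (2 * p - 2) * (p * A) := by
    have : p * B ≤ p * ((2 * p - 2) * A) := by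
      apply mul_le_mul_of_nonneg_left hBA (by linarith)
    rw [hB]; nlinarith
  rw [h1] at h2
  have h3 : (p * (c - 1) - 2 * p + 2) * g₀ ≤ 2 * p * ((p - 1) * (p - 2)) := by nlinarith
  have h4 : 2 * g₀ ≤ (p * (c - 1) - 2 * p + 2) * g₀ := by
    apply mul_le_mul_of_nonneg_right _ hg₀
    nlinarith
  have hup : g₀ ≤ p * ((p - 1) * (p - 2)) := by linarith
  linarith

theorem pkF {G : Type*} [Group G] [Fintype G] {Ω : Type*} [Fintype Ω] [DecidableEq Ω]
    [MulAction G Ω] [MulAction.IsPretransitive G Ω] {p : ℕ} [Fact p.Prime] (hp : 3 < p)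
    (hΩ : Fintype.card Ω = 2 * p) (a₀ : Ω)
    (hsing : 2 * p * Nat.card {g : G // p ∣ orderOf g} = (p - 1) * Nat.card G)
    (hfix : ∀ g : G, p ∣ orderOf g → ∀ a : Ω, g • a ≠ a)
    (hmove : ∀ g : G, g ≠ 1 → Nat.card (MulAction.fixedBy Ω g) + 2 ≤ 2 * p)
    (ρ : IrrCharacter G) (hρ1 : (ρ : G → ℂ) 1 = (p : ℂ) - 1)
    (hρπ : classInner (fun g : G => (Nat.card (MulAction.fixedBy Ω g) : ℂ)) (ρ : G → ℂ) = 1)
    (hρs : ∀ g : G, p ∣ orderOf g → (ρ : G → ℂ) g = -1)
    (hρint : ∀ g : G, ∃ n : ℤ, (ρ : G → ℂ) g = (n : ℂ))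
    (c : ℕ) (hc : 3 ≤ c)
    (hc3 : ∑ h ∈ Finset.univ.filter (fun g : G => g • a₀ = a₀),
          (ρ : G → ℂ) h * conj ((ρ : G → ℂ) h) =
        (c : ℂ) * ((Finset.univ.filter (fun g : G => g • a₀ = a₀)).card : ℂ)) :
    Nat.card G = p * (p - 1) * (p - 2) := by
  classical
  choose r hr using hρint
  have hGne : (Nat.card G : ℂ) ≠ 0 := by exact_mod_cast (Nat.card_pos (α := G)).ne'
  have hconj : ∀ g, conj ((ρ : G → ℂ) g) = (ρ : G → ℂ) g := by
    intro g; rw [hr g]; exact map_intCast _ _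
  -- fixed point counts
  have hπ : ∀ g : G, Nat.card (MulAction.fixedBy Ω g) =
      (Finset.univ.filter (fun ω : Ω => g • ω = ω)).card := by
    intro g
    rw [Nat.card_eq_fintype_card, Fintype.card_subtype]
    rfl
  set π : G → ℤ := fun g => ((Finset.univ.filter (fun ω : Ω => g • ω = ω)).card : ℤ) with hπdef
  -- (a) ∑ r² = |G|
  have ha : ∑ g : G, r g * r g = (Nat.card G : ℤ) := by
    have h := Cfsg.Agent.Lib.Helper3_CharOrtho.classInner_self_of_isIrrCharacter ρ.2
    unfold classInner at h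
    have h2 : ∑ g : G, (ρ : G → ℂ) g * conj ((ρ : G → ℂ) g) = (Nat.card G : ℂ) := by
      have := congrArg (fun z => (Nat.card G : ℂ) * z) h
      simp only [← mul_assoc, mul_inv_cancel₀ hGne, one_mul, mul_one] at this
      exact this
    have h3 : ((∑ g : G, r g * r g : ℤ) : ℂ) = ((Nat.card G : ℤ) : ℂ) := by
      push_cast
      rw [← h2]
      refine Finset.sum_congr rfl fun g _ => ?_
      rw [hconj, hr g]
    exact_mod_cast h3
  -- (b) ∑ r = 0
  have hb : ∑ g : G, r g = 0 := by
    have hne : (ρ : G → ℂ) ≠ (fun _ => (1 : ℂ)) := by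
      intro h
      have := congrFun h 1
      rw [hρ1] at this
      have h' : (p : ℂ) = 2 := by linear_combination this
      have : p = 2 := by exact_mod_cast h'
      omega
    have h := Cfsg.Agent.Lib.Helper3_CharOrtho.classInner_irr ρ.2
      (Cfsg.Agent.Lib.Helper80_CharBasic.isIrrCharacter_one G)
    rw [if_neg hne] at h
    unfold classInner at h
    have h2 : ∑ g : G, (ρ : G → ℂ) g * conj (1 : ℂ) = 0 := by
      rcases mul_eq_zero.mp h with h | h
      · exact absurd (inv_eq_zero.mp h) hGne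
      · exact h
    have h3 : ((∑ g : G, r g : ℤ) : ℂ) = 0 := by
      push_cast
      rw [← h2]
      refine Finset.sum_congr rfl fun g _ => ?_
      rw [map_one, mul_one, hr g]
    exact_mod_cast h3
  -- (c) ∑ π r = |G|
  have hcc : ∑ g : G, π g * r g = (Nat.card G : ℤ) := by
    unfold classInner at hρπ
    have h2 : ∑ g : G, (Nat.card (MulAction.fixedBy Ω g) : ℂ) * conj ((ρ : G → ℂ) g) =
        (Nat.card G : ℂ) := by
      have := congrArg (fun z => (Nat.card G : ℂ) * z) hρπ
      simp only [← mul_assoc, mul_inv_cancel₀ hGne, one_mul, mul_one] at this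
      exact this
    have h3 : ((∑ g : G, π g * r g : ℤ) : ℂ) = ((Nat.card G : ℤ) : ℂ) := by
      push_cast
      rw [← h2]
      refine Finset.sum_congr rfl fun g _ => ?_
      rw [hconj, hr g, hπ g]
      simp [hπdef]
    exact_mod_cast h3
  -- class function
  have hrcl : ∀ g y : G, r (y * g * y⁻¹) = r g := by
    intro g y
    have h := Cfsg.Agent.Lib.Helper80_CharBasic.irr_conj ρ g y
    rw [hr, hr] at h
    exact_mod_cast h
  set Hs : Finset G := Finset.univ.filter (fun g : G => g • a₀ = a₀) with hHs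
  have hcardΩ : (Fintype.card Ω : ℤ) = 2 * p := by rw [hΩ]; push_cast; ring
  -- double counting with F = 1, r, r²
  have hd1 : ∑ g : G, π g = 2 * p * (Hs.card : ℤ) := by
    have := double_count (G := G) (Ω := Ω) a₀ (fun _ => 1) (fun _ _ => rfl)
    simp only [mul_one, Finset.sum_const, nsmul_eq_mul] at this
    rw [this, hcardΩ]
  have hdr : ∑ g : G, π g * r g = 2 * p * ∑ h ∈ Hs, r h := by
    rw [double_count (G := G) (Ω := Ω) a₀ r hrcl, hcardΩ]
  have hdr2 : ∑ g : G, π g * (r g * r g) = 2 * p * ∑ h ∈ Hs, r h * r h := by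
    rw [double_count (G := G) (Ω := Ω) a₀ (fun g => r g * r g)
      (fun g y => by simp only [hrcl]), hcardΩ]
  -- Burnside: ∑ π = |G|
  have hburn : ∑ g : G, π g = (Nat.card G : ℤ) := by
    have h := MulAction.sum_card_fixedBy_eq_card_orbits_mul_card_group G Ω
    have h1 : Fintype.card (Quotient (MulAction.orbitRel G Ω)) = 1 := by
      rw [Fintype.card_eq_one_iff]
      refine ⟨Quotient.mk _ a₀, fun q => ?_⟩
      induction q using Quotient.inductionOn with
      | _ b =>
        apply Quotient.sound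
        exact MulAction.exists_smul_eq G a₀ b
    rw [h1, one_mul] at h
    rw [Nat.card_eq_fintype_card, ← h]
    push_cast
    refine Finset.sum_congr rfl fun g _ => ?_
    simp only [hπdef]
    congr 1
    rw [Fintype.card_subtype]
    rfl
  have hG2 : (Nat.card G : ℤ) = 2 * p * (Hs.card : ℤ) := by rw [← hburn, hd1]
  -- sums over H
  have hHr : 2 * p * ∑ h ∈ Hs, r h = (Nat.card G : ℤ) := by rw [← hdr, hcc]
  have hHr2 : ∑ h ∈ Hs, r h * r h = (c : ℤ) * (Hs.card : ℤ) := by
    have h3 : ((∑ h ∈ Hs, r h * r h : ℤ) : ℂ) = (((c : ℤ) * (Hs.card : ℤ) : ℤ) : ℂ) := by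
      push_cast
      rw [← hc3]
      refine Finset.sum_congr rfl fun g _ => ?_
      rw [hconj, hr g]
    exact_mod_cast h3
  -- f = r² - r
  set f : G → ℤ := fun g => r g * r g - r g with hf
  have hf0 : ∀ g, 0 ≤ f g := by
    intro g
    simp only [hf]
    nlinarith [sq_nonneg (2 * r g - 1), sq_nonneg (r g), sq_nonneg (r g - 1)]
  have hfsum : ∑ g : G, f g = (Nat.card G : ℤ) := by
    simp only [hf, Finset.sum_sub_distrib]; rw [ha, hb]; ring
  have hπf : ∑ g : G, π g * f g = ((c : ℤ) - 1) * (Nat.card G : ℤ) := by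
    have : ∑ g : G, π g * f g = ∑ g : G, π g * (r g * r g) - ∑ g : G, π g * r g := by
      rw [← Finset.sum_sub_distrib]
      refine Finset.sum_congr rfl fun g _ => ?_
      simp only [hf]; ring
    rw [this, hdr2, hHr2, hcc, hG2]; ring
  -- the three parts
  set S : Finset G := Finset.univ.filter (fun g : G => p ∣ orderOf g) with hS
  set R : Finset G := Finset.univ.filter (fun g : G => ¬ p ∣ orderOf g ∧ g ≠ 1) with hR
  have hpp := (Fact.out : p.Prime)
  have h1S : (1 : G) ∉ S := by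
    rw [hS, Finset.mem_filter]
    rintro ⟨-, h⟩
    rw [orderOf_one] at h
    exact hpp.one_lt.ne' (Nat.dvd_one.mp h)
  have hsplit : ∀ F : G → ℤ, ∑ g : G, F g = F 1 + ∑ g ∈ S, F g + ∑ g ∈ R, F g := by
    intro F
    rw [← Finset.sum_filter_add_sum_filter_not Finset.univ (fun g : G => p ∣ orderOf g)]
    have h2 : Finset.univ.filter (fun g : G => ¬ p ∣ orderOf g) = insert 1 R := by
      ext g
      simp only [Finset.mem_filter, Finset.mem_univ, true_and, Finset.mem_insert, hR]
      constructor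
      · intro h
        by_cases hg : g = 1
        · left; exact hg
        · right; exact ⟨h, hg⟩
      · rintro (rfl | h)
        · rw [orderOf_one]; intro h; exact hpp.one_lt.ne' (Nat.dvd_one.mp h)
        · exact h.1
    have h1R : (1 : G) ∉ R := by
      rw [hR, Finset.mem_filter]; rintro ⟨-, -, h⟩; exact h rfl
    rw [h2, Finset.sum_insert h1R]
    ring
  have hScard : (S.card : ℤ) = (Nat.card {g : G // p ∣ orderOf g} : ℤ) := by
    rw [Nat.card_eq_fintype_card, Fintype.card_subtype]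
  have hr1 : r 1 = (p : ℤ) - 1 := by
    have h := hr 1
    rw [hρ1] at h
    have : ((p : ℤ) - 1 : ℤ) = ((r 1 : ℤ) : ℂ) := by push_cast; exact h
    exact_mod_cast this.symm
  have hrS : ∀ g ∈ S, r g = -1 := by
    intro g hg
    rw [hS, Finset.mem_filter] at hg
    have h := hρs g hg.2
    rw [hr g] at h
    exact_mod_cast h
  have hfS : ∑ g ∈ S, f g = 2 * (S.card : ℤ) := by
    rw [Finset.sum_congr rfl (fun g hg => by simp only [hf]; rw [hrS g hg]),
      Finset.sum_const, nsmul_eq_mul]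
    ring
  have hπS : ∑ g ∈ S, π g * f g = 0 := by
    apply Finset.sum_eq_zero
    intro g hg
    rw [hS, Finset.mem_filter] at hg
    have : π g = 0 := by
      simp only [hπdef]
      rw [Nat.cast_eq_zero, Finset.card_eq_zero, Finset.filter_eq_empty_iff]
      intro ω _
      exact hfix g hg.2 ω
    rw [this, zero_mul]
  have hf1 : f 1 = ((p : ℤ) - 1) * ((p : ℤ) - 2) := by
    simp only [hf]; rw [hr1]; ring
  have hπ1 : π 1 = 2 * p := by
    simp only [hπdef]
    have : Finset.univ.filter (fun ω : Ω => (1 : G) • ω = ω) = Finset.univ := by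
      ext ω; simp
    rw [this, Finset.card_univ, hΩ]; push_cast; ring
  have hπR : ∑ g ∈ R, π g * f g ≤ (2 * (p : ℤ) - 2) * ∑ g ∈ R, f g := by
    rw [Finset.mul_sum]
    apply Finset.sum_le_sum
    intro g hg
    rw [hR, Finset.mem_filter] at hg
    have h1 := hmove g hg.2.2
    rw [hπ g] at h1
    have h2 : π g ≤ 2 * (p : ℤ) - 2 := by
      simp only [hπdef]
      have : ((Finset.univ.filter (fun ω : Ω => g • ω = ω)).card : ℤ) + 2 ≤ 2 * p := by
        exact_mod_cast h1
      linarith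
    exact mul_le_mul_of_nonneg_right h2 (hf0 g)
  have hA := hsplit f
  have hB := hsplit (fun g => π g * f g)
  beta_reduce at hB
  rw [hfsum, hfS, hf1] at hA
  rw [hπf, hπS, hπ1, hf1] at hB
  have hR0 : 0 ≤ ∑ g ∈ R, f g := Finset.sum_nonneg (fun g _ => hf0 g)
  have hsingZ : 2 * (p : ℤ) * (S.card : ℤ) = ((p : ℤ) - 1) * (Nat.card G : ℤ) := by
    rw [hScard]
    have : ((2 * p * Nat.card {g : G // p ∣ orderOf g} : ℕ) : ℤ) =
        (((p - 1) * Nat.card G : ℕ) : ℤ) := by rw [hsing]
    rw [Nat.cast_mul, Nat.cast_mul, Nat.cast_mul, Nat.cast_sub hpp.one_lt.le] at this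
    push_cast at this
    exact this
  have key := arith (p : ℤ) (Nat.card G : ℤ) (S.card : ℤ) (∑ g ∈ R, f g)
    (∑ g ∈ R, π g * f g) (c : ℤ) (by exact_mod_cast hp) (by positivity) hsingZ
    (by linarith) hR0 (by linarith) hπR (by exact_mod_cast hc)
  have hfin : ((Nat.card G : ℕ) : ℤ) = ((p * (p - 1) * (p - 2) : ℕ) : ℤ) := by
    rw [key, Nat.cast_mul, Nat.cast_mul, Nat.cast_sub hpp.one_lt.le,
      Nat.cast_sub (by omega : 2 ≤ p)]
    push_cast; ring
  exact_mod_cast hfin

end Cfsg.Agent.Lib.Helper15_S4707_F
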