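import Mathlib

/-!
# Zassenhaus groups with a Suzuki 2-group kernel (S0347 / S1147 / S0340): the abstract arithmetic
data (helper6)

`I` indexes `Irr(G)`, `P` indexes `Irr(N)` (`N` a point stabiliser); `c i p` is the multiplicity of
`i` in the character induced from `p` (equivalently of `p` in the restriction of `i` to `N`);
`L p` says that `p` has the Frobenius kernel `U` of `N` in its kernel; `cj` is complex conjugation
on `Irr(N)`; `i₀`, `l₀` are the trivial characters; `h = |U|`, `e = |N : U|`.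
The relations are: restriction/induction degree formulas, `∑ Deg² = |G| = (h+1) h e`, the Gram
matrix of the induced characters (`gramS`, `gramL`) and the Frobenius–Schur relation (`fs`).
-/

set_option autoImplicit false

namespace Cfsg.Agent.Lib.Helper6_SuzArithDefs

open Classical in
/-- The multiplicity data. -/
structure SzData {I P : Type*} [Fintype I] [Fintype P]
    (c : I → P → ℕ) (Deg : I → ℕ) (deg : P → ℕ) (ν : I → ℤ) (νP : P → ℤ)
    (L : P → Prop) (cj : P → P) (i₀ : I) (l₀ : P) (h e : ℕ) : Prop where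
  e_odd : Odd e
  three_le_e : 3 ≤ e
  res : ∀ i, Deg i = ∑ p, c i p * deg p
  ind : ∀ p, ∑ i, c i p * Deg i = (h + 1) * deg p
  sq : ∑ i, Deg i ^ 2 = (h + 1) * h * e
  dvd : ∀ i, Deg i ∣ (h + 1) * h * e
  deg_pos : ∀ p, 0 < deg p
  gramS : ∀ p p', ¬ L p → (e : ℤ) * ∑ i, (c i p : ℤ) * (c i p' : ℤ) =
      (e : ℤ) * (if p = p' then 1 else 0) + (deg p : ℤ) * (deg p' : ℤ)
  gramL : ∀ p p', L p → L p' → ∑ i, (c i p : ℤ) * (c i p' : ℤ) =
      (if p = p' then 1 else 0) + (if p = cj p' then 1 else 0)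
  fs : ∀ p, ∑ i, (c i p : ℤ) * ν i = νP p + (deg p : ℤ)
  nu_le : ∀ i, ν i ≤ 1
  nu_ge : ∀ i, -1 ≤ ν i
  degL : ∀ p, L p → deg p = 1
  cardL : Nat.card {p : P // L p} = e
  cj_L : ∀ p, L p → L (cj p)
  cj_cj : ∀ p, L p → cj (cj p) = p
  cj_fix : ∀ p, L p → (cj p = p ↔ p = l₀)
  l₀_L : L l₀
  deg_i₀ : Deg i₀ = 1
  c_i₀ : c i₀ l₀ = 1
  e_dvd : ∀ p, ¬ L p → e ∣ deg p

end Cfsg.Agent.Lib.Helper6_SuzArithDefs
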