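import Mathlib
import Cfsg.Agent.Lib.Helper6_SuzArithDefs

/-!
# SUZ-A2 (helper15): pure arithmetic package of helper6's S0347 / S1147 / S0340 plan.

If `h = q^2` (`q = 2^n = e + 1`) then `n` is odd.
-/

set_option autoImplicit false
set_option linter.dupNamespace false

namespace Cfsg.Agent.Lib.Helper15_Suz_A2

open Cfsg.Agent.Lib.Helper6_SuzArithDefs
open Finset

/-- a natural-valued function whose squares sum to `1` is an indicator of a point -/
theorem ind_of_sq_one {I : Type*} [Fintype I] (f : I → ℕ)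
    (h : ∑ i, f i * f i = 1) : ∃ i, f i = 1 ∧ ∀ j, j ≠ i → f j = 0 := by
  classical
  have hex : ∃ i, f i ≠ 0 := by
    by_contra hne
    push Not at hne
    simp [hne] at h
  obtain ⟨i, hi⟩ := hex
  have hsplit : f i * f i + ∑ j ∈ univ.erase i, f j * f j = 1 := by
    rw [Finset.add_sum_erase univ (fun j => f j * f j) (mem_univ i)]; exact h
  have hfi : f i = 1 := by
    have h1 : f i * f i ≤ 1 := by omega
    have h2 : 0 < f i := Nat.pos_of_ne_zero hi
    nlinarith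
  refine ⟨i, hfi, fun j hj => ?_⟩
  have h0 : ∑ j ∈ univ.erase i, f j * f j = 0 := by rw [hfi] at hsplit; omega
  have h1 := (Finset.sum_eq_zero_iff.mp h0) j (by simp [hj])
  simpa using h1

/-- squares sum to `2` and one value is `1` -/
theorem ind_of_sq_two {I : Type*} [Fintype I] (f : I → ℕ) (i₀ : I) (h0 : f i₀ = 1)
    (h : ∑ i, f i * f i = 2) :
    ∃ i₁, i₁ ≠ i₀ ∧ f i₁ = 1 ∧ ∀ j, j ≠ i₀ → j ≠ i₁ → f j = 0 := by
  classical
  let g : I → ℕ := fun i => if i = i₀ then 0 else f i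
  have hg : ∑ i, g i * g i = 1 := by
    have h1 : ∑ i, f i * f i = f i₀ * f i₀ + ∑ i ∈ univ.erase i₀, f i * f i :=
      (Finset.add_sum_erase univ (fun i => f i * f i) (mem_univ i₀)).symm
    have h2 : ∑ i, g i * g i = g i₀ * g i₀ + ∑ i ∈ univ.erase i₀, g i * g i :=
      (Finset.add_sum_erase univ (fun i => g i * g i) (mem_univ i₀)).symm
    have h3 : ∑ i ∈ univ.erase i₀, g i * g i = ∑ i ∈ univ.erase i₀, f i * f i := by
      apply Finset.sum_congr rfl
      intro i hi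
      have : i ≠ i₀ := (mem_erase.mp hi).1
      simp [g, this]
    have h4 : g i₀ = 0 := by simp [g]
    rw [h2, h3, h4]; rw [h1, h0] at h; omega
  obtain ⟨i₁, hi1, hi0⟩ := ind_of_sq_one g hg
  have hne : i₁ ≠ i₀ := by
    rintro rfl; simp [g] at hi1
  refine ⟨i₁, hne, ?_, ?_⟩
  · simpa [g, hne] using hi1
  · intro j hj0 hj1
    have := hi0 j hj1
    simpa [g, hj0] using this

/-- a square which is a power of two has even exponent -/
theorem odd_of_sq_eq_two_pow (a : ℤ) (n : ℕ) (h : a ^ 2 = 2 ^ (n + 1)) : Odd n := by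
  have h1 : a.natAbs ^ 2 = 2 ^ (n + 1) := by
    have := congrArg Int.natAbs h
    simpa [Int.natAbs_pow] using this
  have h2 : a.natAbs ∣ 2 ^ (n + 1) := ⟨a.natAbs, by rw [← h1]; ring⟩
  obtain ⟨j, hj, hj2⟩ := (Nat.dvd_prime_pow Nat.prime_two).mp h2
  rw [hj2, ← pow_mul] at h1
  have := Nat.pow_right_injective (le_refl 2) h1
  exact ⟨j - 1, by omega⟩

/-- the number theory at the end -/
theorem nt (n : ℕ) (hn : 4 ≤ n) (D : ℕ) (hodd : Odd D) (hdvd : D ∣ (2 ^ n) ^ 2 + 1)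
    (hnear : ((D : ℤ) - ((2 : ℤ) ^ n - 1)) ^ 2 ≤ 2 * ((2 : ℤ) ^ n - 1)) : Odd n := by
  obtain ⟨k', hk'⟩ := hodd
  have hq16 : (16 : ℤ) ≤ 2 ^ n := by
    have : (2 : ℤ) ^ 4 ≤ 2 ^ n := pow_le_pow_right₀ (by norm_num) hn
    linarith
  obtain ⟨r, hr⟩ : ∃ r : ℤ, (2 : ℤ) ^ n = 2 * r := by
    refine ⟨2 ^ (n - 1), ?_⟩
    rw [← pow_succ']; congr 1; omega
  set q : ℤ := 2 ^ n with hq
  set x : ℤ := (D : ℤ) - q with hx
  have hDpos : (0 : ℤ) < D := by rw [hk']; push_cast; positivity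
  have hdvdZ : (D : ℤ) ∣ q ^ 2 + 1 := by
    have := Int.natCast_dvd_natCast.mpr hdvd
    push_cast at this; exact this
  have hdvdx : (D : ℤ) ∣ x ^ 2 + 1 := by
    have h1 : x ^ 2 + 1 = (D : ℤ) * ((D : ℤ) - 2 * q) + (q ^ 2 + 1) := by rw [hx]; ring
    rw [h1]; exact dvd_add (Dvd.intro _ rfl) hdvdZ
  obtain ⟨k, hk⟩ := hdvdx
  have hnear' : (x + 1) ^ 2 ≤ 2 * q - 2 := by
    have : x + 1 = (D : ℤ) - (q - 1) := by rw [hx]; ring
    rw [this]; linarith
  have hkpos : 0 < k := by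
    by_contra hk0
    push Not at hk0
    have : (D : ℤ) * k ≤ 0 := mul_nonpos_of_nonneg_of_nonpos hDpos.le hk0
    nlinarith [sq_nonneg x]
  rcases le_or_gt 6 k with h6 | h5
  · exfalso
    have h1 : 6 * (D : ℤ) ≤ x ^ 2 + 1 := by rw [hk]; nlinarith
    have hD : (D : ℤ) = q + x := by rw [hx]; ring
    rw [hD] at h1
    have h2 : -5 ≤ x := by nlinarith
    have h3 : x ≤ -1 := by nlinarith
    nlinarith
  · -- parity
    obtain ⟨y, hy⟩ : ∃ y : ℤ, x = 2 * y + 1 := by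
      refine ⟨(k' : ℤ) - r, ?_⟩
      rw [hx, hk', hr]; push_cast; ring
    have hx2 : x ^ 2 + 1 = 4 * (y * y + y) + 2 := by rw [hy]; ring
    have hDk : (D : ℤ) = 2 * k' + 1 := by rw [hk']; push_cast; ring
    have hk0 := hk
    rw [hx2, hDk] at hk
    generalize y * y + y = w at hk
    interval_cases k
    · omega
    · -- k = 2
      have h1 : (x - 1) ^ 2 = 2 ^ (n + 1) := by
        have h3 : (2 : ℤ) ^ (n + 1) = 2 * q := by rw [hq]; ring
        have h4 : q = (D : ℤ) - x := by rw [hx]; ring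
        rw [h3, h4]
        linear_combination hk0
      exact odd_of_sq_eq_two_pow _ n h1
    · omega
    · omega
    · omega

/-- the structural part: the set `Y` of constituents of the induced character of `p₁` without linear
constituents in the restriction -/
theorem structure_Y {I P : Type*} [Fintype I] [Fintype P]
    {c : I → P → ℕ} {Deg : I → ℕ} {deg : P → ℕ} {ν : I → ℤ} {νP : P → ℤ}
    {L : P → Prop} {cj : P → P} {i₀ : I} {l₀ : P} {h e : ℕ}
    (D : SzData c Deg deg ν νP L cj i₀ l₀ h e)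
    (n : ℕ) (hh : h = (2 ^ n) ^ 2)
    (p₁ : P) (hp₁ : ¬ L p₁) (hdeg₁ : deg p₁ = e) (hν₁ : νP p₁ = 1)
    (hoth : ∀ p, ¬ L p → p ≠ p₁ → 2 * e ∣ deg p) :
    ∃ (Y : Finset I) (t : ℕ), 2 * t + 1 = e ∧ t + Y.card = e ∧
      h + t * (h + 1) + ∑ i ∈ Y, Deg i = (h + 1) * e ∧
      1 + h ^ 2 + t * (h + 1) ^ 2 + ∑ i ∈ Y, Deg i ^ 2 ≤ (h + 1) * h * e ∧
      ∀ i ∈ Y, ∃ k, Deg i = e * (2 * k + 1) ∧ (2 * k + 1) ∣ h + 1 := by
  classical
  have he_pos : 0 < e := by have := D.three_le_e; omega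
  have heZ : (e : ℤ) ≠ 0 := by exact_mod_cast he_pos.ne'
  -- ∑ a² = 1 + e
  have hsq : ∑ i, (c i p₁ : ℤ) * (c i p₁ : ℤ) = 1 + e := by
    have := D.gramS p₁ p₁ hp₁
    rw [if_pos rfl, hdeg₁] at this
    apply mul_left_cancel₀ heZ
    rw [this]; ring
  have hfs : ∑ i, (c i p₁ : ℤ) * ν i = 1 + e := by
    have := D.fs p₁
    rw [hν₁, hdeg₁] at this; exact this
  have hterm : ∀ i, 0 ≤ (c i p₁ : ℤ) * ((c i p₁ : ℤ) - ν i) := by
    intro i
    rcases Nat.eq_zero_or_pos (c i p₁) with h0 | hpos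
    · simp [h0]
    · have h1 : (1 : ℤ) ≤ c i p₁ := by exact_mod_cast hpos
      have := D.nu_le i
      apply mul_nonneg (by omega) (by omega)
  have hsum0 : ∑ i, (c i p₁ : ℤ) * ((c i p₁ : ℤ) - ν i) = 0 := by
    simp only [mul_sub, Finset.sum_sub_distrib]; rw [hsq, hfs]; ring
  have hzero := (Finset.sum_eq_zero_iff_of_nonneg (fun i _ => hterm i)).mp hsum0
  have hF1 : ∀ i, c i p₁ = 0 ∨ c i p₁ = 1 := by
    intro i
    have h0 := hzero i (mem_univ i)
    rcases Nat.eq_zero_or_pos (c i p₁) with h0' | hpos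
    · left; exact h0'
    · right
      have h1 : (1 : ℤ) ≤ c i p₁ := by exact_mod_cast hpos
      have hne : (c i p₁ : ℤ) ≠ 0 := by omega
      have h2 : (c i p₁ : ℤ) - ν i = 0 := by
        rcases mul_eq_zero.mp h0 with h | h
        · exact absurd h hne
        · exact h
      have := D.nu_le i
      have : (c i p₁ : ℤ) = 1 := by omega
      exact_mod_cast this
  -- linear constituents
  have hF3 : ∀ l, L l → ∑ i, c i p₁ * c i l = 1 := by
    intro l hl
    have hne : p₁ ≠ l := fun h => hp₁ (h ▸ hl)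
    have := D.gramS p₁ l hp₁
    rw [if_neg hne, hdeg₁, D.degL l hl] at this
    have h2 : (e : ℤ) * ∑ i, (c i p₁ : ℤ) * (c i l : ℤ) = e * 1 := by
      rw [this]; push_cast; ring
    have h3 := mul_left_cancel₀ heZ h2
    exact_mod_cast h3
  have hF4 : ∀ l, L l → l ≠ l₀ →
      ∃ i, c i l = 1 ∧ (∀ j, j ≠ i → c j l = 0) ∧ c i p₁ = 1 ∧ Deg i = h + 1 := by
    intro l hl hne
    have hcj : l ≠ cj l := fun h => hne ((D.cj_fix l hl).mp h.symm)
    have h1 := D.gramL l l hl hl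
    rw [if_pos rfl, if_neg hcj] at h1
    have h2 : ∑ i, c i l * c i l = 1 := by
      have : ∑ i, (c i l : ℤ) * (c i l : ℤ) = 1 := by rw [h1]; norm_num
      exact_mod_cast this
    obtain ⟨i, hi1, hi0⟩ := ind_of_sq_one _ h2
    refine ⟨i, hi1, hi0, ?_, ?_⟩
    · have := hF3 l hl
      rw [Finset.sum_eq_single i (fun j _ hj => by rw [hi0 j hj, mul_zero])
        (fun h => absurd (mem_univ i) h), hi1, mul_one] at this
      exact this
    · have := D.ind l
      rw [Finset.sum_eq_single i (fun j _ hj => by rw [hi0 j hj, zero_mul])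
        (fun h => absurd (mem_univ i) h), hi1, one_mul, D.degL l hl, mul_one] at this
      exact this
  have hcjl₀ : cj l₀ = l₀ := (D.cj_fix l₀ D.l₀_L).mpr rfl
  have hF5 : ∃ i₁, i₁ ≠ i₀ ∧ c i₁ l₀ = 1 ∧ ∀ j, j ≠ i₀ → j ≠ i₁ → c j l₀ = 0 := by
    have h1 := D.gramL l₀ l₀ D.l₀_L D.l₀_L
    rw [if_pos rfl, if_pos hcjl₀.symm] at h1
    have h2 : ∑ i, c i l₀ * c i l₀ = 2 := by
      have : ∑ i, (c i l₀ : ℤ) * (c i l₀ : ℤ) = 2 := by rw [h1]; norm_num
      exact_mod_cast this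
    exact ind_of_sq_two _ i₀ D.c_i₀ h2
  obtain ⟨i₁, hi₁ne, hi₁c, hi₁0⟩ := hF5
  have hci₀ : ∀ p, p ≠ l₀ → c i₀ p = 0 := by
    intro p hp
    have h1 := D.res i₀
    rw [D.deg_i₀] at h1
    by_contra hne
    have hpos : 0 < c i₀ p * deg p := Nat.mul_pos (Nat.pos_of_ne_zero hne) (D.deg_pos p)
    have h2 : c i₀ l₀ * deg l₀ + c i₀ p * deg p ≤ ∑ p, c i₀ p * deg p := by
      rw [← Finset.add_sum_erase univ (fun p => c i₀ p * deg p) (mem_univ l₀)]
      apply Nat.add_le_add_left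
      exact Finset.single_le_sum (f := fun p => c i₀ p * deg p) (fun _ _ => Nat.zero_le _)
        (by simp [hp])
    rw [D.c_i₀, D.degL l₀ D.l₀_L] at h2
    omega
  have hp₁l₀ : p₁ ≠ l₀ := fun h => hp₁ (h ▸ D.l₀_L)
  have hai₀ : c i₀ p₁ = 0 := hci₀ p₁ hp₁l₀
  have hai₁ : c i₁ p₁ = 1 := by
    have := hF3 l₀ D.l₀_L
    rw [Finset.sum_eq_add i₀ i₁ hi₁ne.symm
      (fun j _ hj => by rw [hi₁0 j hj.1 hj.2, mul_zero])
      (fun h => absurd (mem_univ _) h) (fun h => absurd (mem_univ _) h),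
      hai₀, hi₁c, D.c_i₀] at this
    omega
  have hDi₁ : Deg i₁ = h := by
    have := D.ind l₀
    rw [Finset.sum_eq_add i₀ i₁ hi₁ne.symm
      (fun j _ hj => by rw [hi₁0 j hj.1 hj.2, zero_mul])
      (fun h => absurd (mem_univ _) h) (fun h => absurd (mem_univ _) h),
      hi₁c, D.c_i₀, D.deg_i₀, D.degL l₀ D.l₀_L] at this
    omega
  have hF6 : ∀ l, L l → l ≠ l₀ → c i₁ l = 0 := by
    intro l hl hne
    have h1 := D.gramL l l₀ hl D.l₀_L
    rw [if_neg hne, hcjl₀, if_neg hne] at h1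
    have h2 : ∑ i, c i l * c i l₀ = 0 := by
      have : ∑ i, (c i l : ℤ) * (c i l₀ : ℤ) = 0 := by rw [h1]; norm_num
      exact_mod_cast this
    have h3 := (Finset.sum_eq_zero_iff.mp h2) i₁ (mem_univ _)
    rw [hi₁c, mul_one] at h3
    exact h3
  -- the finsets
  set T : Finset I := univ.filter (fun i => ∃ l, L l ∧ l ≠ l₀ ∧ c i l = 1) with hT
  set Y : Finset I := univ.filter (fun i => c i p₁ = 1 ∧ ∀ l, L l → c i l = 0) with hY
  set L' : Finset P := univ.filter (fun l => L l ∧ l ≠ l₀) with hL'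
  have hT1 : ∀ i ∈ T, c i p₁ = 1 ∧ Deg i = h + 1 ∧ i ≠ i₀ ∧ i ≠ i₁ := by
    intro i hi
    rw [hT, mem_filter] at hi
    obtain ⟨-, l, hl, hne, hcl⟩ := hi
    obtain ⟨i', hi'1, hi'0, hi'a, hi'D⟩ := hF4 l hl hne
    have hii' : i = i' := by
      by_contra hne'
      rw [hi'0 i hne'] at hcl; exact absurd hcl (by norm_num)
    subst hii'
    refine ⟨hi'a, hi'D, ?_, ?_⟩
    · rintro rfl; rw [hci₀ l hne] at hcl; exact absurd hcl (by norm_num)
    · rintro rfl; rw [hF6 l hl hne] at hcl; exact absurd hcl (by norm_num)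
  have hSeq : univ.filter (fun i => c i p₁ = 1) = insert i₁ (T ∪ Y) := by
    ext i
    simp only [mem_filter, mem_univ, true_and, mem_insert, mem_union]
    constructor
    · intro hi
      by_cases hall : ∀ l, L l → c i l = 0
      · right; right; rw [hY, mem_filter]; exact ⟨mem_univ _, hi, hall⟩
      · push Not at hall
        obtain ⟨l, hl, hcl⟩ := hall
        by_cases hll : l = l₀
        · rw [hll] at hcl
          left
          by_contra hne
          have hne0 : i ≠ i₀ := by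
            rintro rfl; rw [hai₀] at hi; exact absurd hi (by norm_num)
          exact hcl (hi₁0 i hne0 hne)
        · right; left
          obtain ⟨i', hi'1, hi'0, -, -⟩ := hF4 l hl hll
          have : i = i' := by by_contra h'; exact hcl (hi'0 i h')
          rw [hT, mem_filter]; exact ⟨mem_univ _, l, hl, hll, this ▸ hi'1⟩
    · rintro (rfl | hi | hi)
      · exact hai₁
      · exact (hT1 i hi).1
      · rw [hY, mem_filter] at hi; exact hi.2.1
  have hi₁notin : i₁ ∉ T ∪ Y := by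
    rw [mem_union]
    rintro (hi | hi)
    · exact (hT1 i₁ hi).2.2.2 rfl
    · rw [hY, mem_filter] at hi
      have := hi.2.2 l₀ D.l₀_L
      rw [hi₁c] at this; exact absurd this (by norm_num)
  have hdisj : Disjoint T Y := by
    rw [Finset.disjoint_left]
    intro i hiT hiY
    rw [hT, mem_filter] at hiT
    rw [hY, mem_filter] at hiY
    obtain ⟨-, l, hl, -, hcl⟩ := hiT
    have := hiY.2.2 l hl
    rw [hcl] at this; exact absurd this (by norm_num)
  have hsumS : ∀ F : I → ℕ,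
      ∑ i, c i p₁ * F i = F i₁ + (∑ i ∈ T, F i + ∑ i ∈ Y, F i) := by
    intro F
    have h1 : ∑ i, c i p₁ * F i = ∑ i ∈ univ.filter (fun i => c i p₁ = 1), F i := by
      rw [Finset.sum_filter]
      apply Finset.sum_congr rfl
      intro i _
      rcases hF1 i with h0 | h1
      · simp [h0]
      · simp [h1]
    rw [h1, hSeq, Finset.sum_insert hi₁notin, Finset.sum_union hdisj]
  -- counting T
  have hcardL' : L'.card = e - 1 := by
    have h1 : (univ.filter (fun l => L l)).card = e := by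
      rw [← D.cardL, Nat.card_eq_fintype_card, Fintype.card_subtype]
    have h2 : L' = (univ.filter (fun l => L l)).erase l₀ := by
      ext l; simp [hL', and_comm]
    rw [h2, Finset.card_erase_of_mem (by simp [D.l₀_L]), h1]
  have hrow : ∀ l ∈ L', ∑ i ∈ T, c i l = 1 := by
    intro l hl
    rw [hL', mem_filter] at hl
    obtain ⟨-, hlL, hne⟩ := hl
    obtain ⟨i', hi'1, hi'0, -, -⟩ := hF4 l hlL hne
    have hi'T : i' ∈ T := by rw [hT, mem_filter]; exact ⟨mem_univ _, l, hlL, hne, hi'1⟩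
    rw [Finset.sum_eq_single_of_mem i' hi'T (fun j _ hj => hi'0 j hj), hi'1]
  have hcol : ∀ i ∈ T, ∑ l ∈ L', c i l = 2 := by
    intro i hi
    rw [hT, mem_filter] at hi
    obtain ⟨-, l₁, hl₁, hne₁, hcl₁⟩ := hi
    obtain ⟨i', hi'1, hi'0, -, -⟩ := hF4 l₁ hl₁ hne₁
    have hii' : i = i' := by
      by_contra h'; rw [hi'0 i h'] at hcl₁; exact absurd hcl₁ (by norm_num)
    subst hii'
    have hcil : ∀ l, L l →
        c i l = (if l = l₁ then 1 else 0) + (if l = cj l₁ then 1 else 0) := by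
      intro l hl
      have h1 := D.gramL l l₁ hl hl₁
      rw [Finset.sum_eq_single i (fun j _ hj => by rw [hi'0 j hj]; simp)
        (fun h => absurd (mem_univ i) h), hcl₁] at h1
      have h2 : (c i l : ℤ) =
          ((if l = l₁ then 1 else 0) + (if l = cj l₁ then 1 else 0) : ℕ) := by
        push_cast; simpa using h1
      exact_mod_cast h2
    have hcjne : cj l₁ ≠ l₀ := by
      intro h
      have := D.cj_cj l₁ hl₁
      rw [h, hcjl₀] at this
      exact hne₁ this.symm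
    have hcjL' : cj l₁ ∈ L' := by
      rw [hL', mem_filter]; exact ⟨mem_univ _, D.cj_L l₁ hl₁, hcjne⟩
    have hl₁L' : l₁ ∈ L' := by
      rw [hL', mem_filter]; exact ⟨mem_univ _, hl₁, hne₁⟩
    rw [Finset.sum_congr rfl (fun l hl => hcil l (by rw [hL', mem_filter] at hl; exact hl.2.1))]
    rw [Finset.sum_add_distrib, Finset.sum_ite_eq', Finset.sum_ite_eq', if_pos hl₁L',
      if_pos hcjL']
  have hTcard : 2 * T.card = e - 1 := by
    have h1 : ∑ i ∈ T, ∑ l ∈ L', c i l = T.card * 2 := by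
      rw [Finset.sum_congr rfl hcol, Finset.sum_const, smul_eq_mul]
    have h2 : ∑ l ∈ L', ∑ i ∈ T, c i l = L'.card := by
      rw [Finset.sum_congr rfl hrow, Finset.sum_const, smul_eq_mul, mul_one]
    rw [Finset.sum_comm, h2, hcardL'] at h1; omega
  have hTdeg : ∀ k : ℕ, ∑ i ∈ T, Deg i ^ k = T.card * (h + 1) ^ k := by
    intro k
    rw [Finset.sum_congr rfl (fun i hi => by rw [(hT1 i hi).2.1]), Finset.sum_const, smul_eq_mul]
  refine ⟨Y, T.card, by have := D.three_le_e; omega, ?_, ?_, ?_, ?_⟩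
  · -- cardinalities
    have h1 := hsumS (fun _ => 1)
    simp only [mul_one, Finset.sum_const, smul_eq_mul] at h1
    have h2 : ∑ i, c i p₁ = 1 + e := by
      have h3 : ∑ i, c i p₁ = ∑ i, c i p₁ * c i p₁ := by
        apply Finset.sum_congr rfl
        intro i _
        rcases hF1 i with h0 | h1'
        · rw [h0]
        · rw [h1']
      rw [h3]; exact_mod_cast hsq
    omega
  · have h1 := hsumS Deg
    rw [D.ind p₁, hdeg₁, hDi₁] at h1
    have h2 := hTdeg 1
    simp only [pow_one] at h2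
    rw [h2] at h1
    omega
  · have h1 := hsumS (fun i => Deg i ^ 2)
    beta_reduce at h1
    rw [hTdeg 2, hDi₁] at h1
    have h2 : 1 + ∑ i, c i p₁ * Deg i ^ 2 ≤ ∑ i, Deg i ^ 2 := by
      have h3 : (1 : ℕ) = ∑ i, (if i = i₀ then 1 else 0) := by
        rw [Finset.sum_ite_eq' univ i₀]; simp
      rw [h3, ← Finset.sum_add_distrib]
      apply Finset.sum_le_sum
      intro i _
      by_cases hi : i = i₀
      · subst hi; rw [if_pos rfl, hai₀, D.deg_i₀]; norm_num
      · rw [if_neg hi, zero_add]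
        rcases hF1 i with h0 | h1'
        · rw [h0, zero_mul]; exact Nat.zero_le _
        · rw [h1', one_mul]
    rw [D.sq, h1] at h2
    omega
  · intro i hi
    rw [hY, mem_filter] at hi
    obtain ⟨-, hi1, hi0⟩ := hi
    have hres := D.res i
    rw [← Finset.add_sum_erase univ (fun p => c i p * deg p) (mem_univ p₁), hi1, one_mul,
      hdeg₁] at hres
    have hdvd : 2 * e ∣ ∑ p ∈ univ.erase p₁, c i p * deg p := by
      apply Finset.dvd_sum
      intro p hp
      rw [mem_erase] at hp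
      by_cases hpL : L p
      · rw [hi0 p hpL, zero_mul]; exact dvd_zero _
      · exact Dvd.dvd.mul_left (hoth p hpL hp.1) _
    obtain ⟨k, hk⟩ := hdvd
    have hDi : Deg i = e * (2 * k + 1) := by rw [hres, hk]; ring
    refine ⟨k, hDi, ?_⟩
    have hd := D.dvd i
    rw [hDi] at hd
    have h1 : e * (2 * k + 1) ∣ e * ((h + 1) * h) := by
      have h2 : (h + 1) * h * e = e * ((h + 1) * h) := by ring
      rwa [h2] at hd
    have h2 := Nat.dvd_of_mul_dvd_mul_left he_pos h1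
    have hcop : Nat.Coprime (2 * k + 1) h := by
      rw [hh, ← pow_mul]
      apply Nat.Coprime.pow_right
      rw [Nat.coprime_two_right]
      exact ⟨k, rfl⟩
    exact hcop.dvd_of_dvd_mul_right h2

theorem avg_ineq (t s1 s2 h e q : ℤ) (he : e = 2 * t + 1) (hq : q = e + 1) (hh : h = q ^ 2)
    (m2 : h + t * (h + 1) + s1 = (h + 1) * e)
    (m3 : 1 + h ^ 2 + t * (h + 1) ^ 2 + s2 ≤ (h + 1) * h * e) :
    s2 - 2 * (e * (q - 1)) * s1 + (t + 1) * (e * (q - 1)) ^ 2
      ≤ (t + 1) * (2 * (q - 1) * e ^ 2) := by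
  subst hh hq he
  have hs1 : s1 = ((2 * t + 1 + 1) ^ 2 + 1) * (2 * t + 1) - (2 * t + 1 + 1) ^ 2
      - t * ((2 * t + 1 + 1) ^ 2 + 1) := by linarith
  subst hs1
  nlinarith [m3]

namespace A2

theorem A2 {I P : Type*} [Fintype I] [Fintype P]
    {c : I → P → ℕ} {Deg : I → ℕ} {deg : P → ℕ} {ν : I → ℤ} {νP : P → ℤ}
    {L : P → Prop} {cj : P → P} {i₀ : I} {l₀ : P} {h e : ℕ}
    (D : SzData c Deg deg ν νP L cj i₀ l₀ h e)
    (n : ℕ) (hn : 2 ≤ n) (hq : e + 1 = 2 ^ n) (hh : h = (2 ^ n) ^ 2)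
    (p₁ : P) (hp₁ : ¬ L p₁) (hdeg₁ : deg p₁ = e) (hν₁ : νP p₁ = 1)
    (hoth : ∀ p, ¬ L p → p ≠ p₁ → 2 * e ∣ deg p) : Odd n := by
  classical
  obtain ⟨Y, t, ht, hYc, hm2, hm3, hYdeg⟩ := structure_Y D n hh p₁ hp₁ hdeg₁ hν₁ hoth
  rcases Nat.lt_or_ge n 4 with hlt | hge
  · interval_cases n
    · -- n = 2
      exfalso
      have he : e = 3 := by norm_num at hq; omega
      have hh' : h = 16 := by rw [hh]; norm_num
      subst he hh'
      have ht1 : t = 1 := by omega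
      subst ht1
      have hY2 : Y.card = 2 := by omega
      obtain ⟨x, y, hxy, hYeq⟩ := Finset.card_eq_two.mp hY2
      have hvals : ∀ i ∈ Y, Deg i = 3 ∨ Deg i = 51 := by
        intro i hi
        obtain ⟨k, hk, hdvd⟩ := hYdeg i hi
        have h17 : Nat.Prime 17 := by norm_num
        rcases (Nat.dvd_prime h17).mp hdvd with h1 | h1
        · left; rw [hk, h1]
        · right; rw [hk, h1]
      have hx := hvals x (by rw [hYeq]; simp)
      have hy := hvals y (by rw [hYeq]; simp)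
      rw [hYeq, Finset.sum_pair hxy] at hm2
      omega
    · exact ⟨1, rfl⟩
  · -- n ≥ 4
    set q : ℕ := 2 ^ n with hqdef
    have hYne : Y.Nonempty := by
      rw [← Finset.card_pos]; omega
    set A : ℤ := (e : ℤ) * ((q : ℤ) - 1) with hA
    have hexp : ∑ i ∈ Y, ((Deg i : ℤ) - A) ^ 2 =
        ∑ i ∈ Y, (Deg i : ℤ) ^ 2 - 2 * A * ∑ i ∈ Y, (Deg i : ℤ) + (Y.card : ℤ) * A ^ 2 := by
      rw [Finset.sum_congr rfl (fun i _ => (by ring :
        ((Deg i : ℤ) - A) ^ 2 = (Deg i : ℤ) ^ 2 - (2 * A) * (Deg i : ℤ) + A ^ 2))]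
      rw [Finset.sum_add_distrib, Finset.sum_sub_distrib, ← Finset.mul_sum, Finset.sum_const,
        nsmul_eq_mul]
    have hYcZ : (Y.card : ℤ) = (t : ℤ) + 1 := by
      have : Y.card = t + 1 := by omega
      rw [this]; push_cast; ring
    have hkey := avg_ineq (t : ℤ) (∑ i ∈ Y, (Deg i : ℤ)) (∑ i ∈ Y, (Deg i : ℤ) ^ 2) (h : ℤ)
      (e : ℤ) (q : ℤ) (by rw [← ht]; push_cast; ring) (by rw [← hq]; push_cast; ring)
      (by rw [hh]; push_cast; ring) (by exact_mod_cast hm2) (by exact_mod_cast hm3)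
    have hsum : ∑ i ∈ Y, ((Deg i : ℤ) - A) ^ 2 ≤
        ∑ i ∈ Y, (2 * ((q : ℤ) - 1) * (e : ℤ) ^ 2) := by
      rw [hexp, Finset.sum_const, nsmul_eq_mul, hYcZ]
      exact hkey
    obtain ⟨i, hiY, hi⟩ := Finset.exists_le_of_sum_le hYne hsum
    obtain ⟨k, hk, hdvd⟩ := hYdeg i hiY
    have hepos : (0 : ℤ) < (e : ℤ) ^ 2 := by
      have : (0 : ℤ) < e := by have := D.three_le_e; exact_mod_cast (by omega : 0 < e)
      positivity
    have hnear : (((2 * k + 1 : ℕ) : ℤ) - ((2 : ℤ) ^ n - 1)) ^ 2 ≤ 2 * ((2 : ℤ) ^ n - 1) := by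
      have h1 : ((Deg i : ℤ) - A) ^ 2 =
          (e : ℤ) ^ 2 * (((2 * k + 1 : ℕ) : ℤ) - ((2 : ℤ) ^ n - 1)) ^ 2 := by
        rw [hk, hA, hqdef]; push_cast; ring
      have h2 : 2 * ((q : ℤ) - 1) * (e : ℤ) ^ 2 = (e : ℤ) ^ 2 * (2 * ((2 : ℤ) ^ n - 1)) := by
        rw [hqdef]; push_cast; ring
      rw [h1, h2] at hi
      exact le_of_mul_le_mul_left hi hepos
    exact nt n hge (2 * k + 1) ⟨k, rfl⟩ (by rw [hh] at hdvd; exact hdvd) hnear

end A2

end Cfsg.Agent.Lib.Helper15_Suz_A2
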