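import Cfsg.Agent.Lib.Helper18_ChevComm

set_option autoImplicit false

/-!
The commutator formula: check of base pairs by the engine, fast access to the chain tables, and induction over pairs
of roots.
-/

namespace Cfsg.Agent.Lib.Helper18_ChevComm2

open Cfsg Cfsg.Lie Cfsg.Agent.Lib.Helper18_ChevFast Cfsg.Agent.Lib.Helper18_ChevEngine
  Cfsg.Agent.Lib.Helper18_ChevR1 Cfsg.Agent.Lib.Helper18_ChevN Cfsg.Agent.Lib.Helper18_ChevR4
  Cfsg.Agent.Lib.Helper18_ChevSimple Cfsg.Agent.Lib.Helper18_ChevSimple2 Cfsg.Agent.Lib.Helper18_ChevFacts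
  Cfsg.Agent.Lib.Helper18_ChevWeyl Cfsg.Agent.Lib.Helper18_ChevDiag Cfsg.Agent.Lib.Helper18_ChevCar
  Cfsg.Agent.Lib.Helper18_ChevTorus Cfsg.Agent.Lib.Helper18_ChevGL Cfsg.Agent.Lib.Helper18_ChevComm
  Cfsg.Agent.Lib.Helper18_ChevChunk

/-! ### Two-level access to a list -/

/-- Split a list into chunks of length `k` (`fuel` bounds the number of chunks). -/
def chunksOf {α : Type*} (k : ℕ) : ℕ → List α → List (List α)
  | 0, _ => []
  | fuel + 1, l => l.take k :: chunksOf k fuel (l.drop k)

/-- Access through the chunks. -/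
def getFast {α : Type*} (ll : List (List α)) (k : ℕ) (d : α) (i : ℕ) : α :=
  (ll.getD (i / k) []).getD (i % k) d

theorem getFast_chunksOf {α : Type*} (k : ℕ) (hk : 0 < k) (d : α) :
    ∀ (fuel : ℕ) (l : List α) (i : ℕ), i < fuel * k → getFast (chunksOf k fuel l) k d i = l.getD i d
  | 0, l, i, h => by simp at h
  | fuel + 1, l, i, h => by
    unfold getFast chunksOf
    by_cases hik : i < k
    · rw [Nat.div_eq_of_lt hik, Nat.mod_eq_of_lt hik, List.getD_cons_zero]
      rw [List.getD_eq_getElem?_getD, List.getD_eq_getElem?_getD, List.getElem?_take_of_lt hik]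
    · obtain ⟨j, rfl⟩ : ∃ j, i = k + j := ⟨i - k, by omega⟩
      have h1 : (k + j) / k = j / k + 1 := by
        rw [Nat.add_comm, Nat.add_div_right _ hk]
      have h2 : (k + j) % k = j % k := by
        rw [Nat.add_comm, Nat.add_mod_right]
      rw [h1, h2, List.getD_cons_succ]
      have ih := getFast_chunksOf k hk d fuel (l.drop k) j (by
        have : (fuel + 1) * k = fuel * k + k := by ring
        omega)
      unfold getFast at ih
      rw [ih, List.getD_eq_getElem?_getD, List.getD_eq_getElem?_getD, List.getElem?_drop]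

/-! ### The word of a list of commutator terms in the engine -/

def termPoly (c : ℕ × ℤ × ℕ × ℕ) : Poly := [⟨c.2.1 * (-1) ^ c.2.2.1, c.2.2.1, c.2.2.2⟩]

theorem eval_termPoly {F : Type*} [Field F] (t u : Fˣ) (c : ℕ × ℤ × ℕ × ℕ) :
    Poly.eval t u (termPoly c) = (c.2.1 : F) * (-(t : F)) ^ c.2.2.1 * (u : F) ^ c.2.2.2 := by
  simp only [Poly.eval, termPoly, List.map_cons, List.map_nil, List.sum_cons, List.sum_nil, add_zero,
    Mono.eval, monoVal]
  rw [Units.val_mul, zpow_natCast, zpow_natCast, Units.val_pow_eq_pow_val, Units.val_pow_eq_pow_val, neg_pow]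
  push_cast
  ring

/-- The action of the word `∏ x_k(C (-t)^i u^j)` on a term. -/
def wordCol (rank nroots : ℕ) (rowOfIdx : ℕ → FRow) (terms : List (ℕ × ℤ × ℕ × ℕ)) (x : Term) : SVec :=
  terms.foldr (fun c v => applyO (xCol rank nroots (rowOfIdx c.1) (mkPows (termPoly c))) v) [x]

theorem isOracle_word (D : ChevalleyDatum) {F : Type*} [Field F] (t u : Fˣ) (rowOfIdx : ℕ → FRow)
    (hrow : ∀ k < D.nroots, (rowOfIdx k).Valid D ∧ (rowOfIdx k).r = k) :
    ∀ (terms : List (ℕ × ℤ × ℕ × ℕ)), (∀ c ∈ terms, c.1 < D.nroots) →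
      IsOracle D t u (wordCol D.rank D.nroots rowOfIdx terms) (D.wordMat F (termWord (t : F) (u : F) terms))
  | [], _ => by
    have : D.wordMat F (termWord (t : F) (u : F) []) = 1 := wordMat_nil
    rw [this]
    exact isOracle_one
  | c :: l, h => by
    have ih := isOracle_word D t u rowOfIdx hrow l (fun c' hc' => h c' (List.mem_cons_of_mem _ hc'))
    have hc := h c (by simp)
    obtain ⟨hv, hr⟩ := hrow c.1 hc
    have ox := isOracle_x (D := D) (t := t) (u := u) (rowOfIdx c.1) hv (mkPows (termPoly c)) _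
      (mkPows_ok t u (termPoly c))
    rw [eval_termPoly, hr] at ox
    have e : termWord (t : F) (u : F) (c :: l) =
        (c.1, (c.2.1 : F) * (-(t : F)) ^ c.2.2.1 * (u : F) ^ c.2.2.2) :: termWord (t : F) (u : F) l := rfl
    rw [e, wordMat_cons]
    exact ox.mul ih

/-- Column-wise check of the commutator formula for the pair `(r, s)` with terms `terms`. -/
def r2F (rank nroots : ℕ) (rowOfIdx : ℕ → FRow) (r s : ℕ) (terms : List (ℕ × ℤ × ℕ × ℕ)) : ℕ → Bool :=
  colEqAt
    (fun x => applyO (xCol rank nroots (rowOfIdx s) (mkPows uP)) (xCol rank nroots (rowOfIdx r) (mkPows tP) x))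
    (fun x => applyO (xCol rank nroots (rowOfIdx r) (mkPows tP))
      (applyO (xCol rank nroots (rowOfIdx s) (mkPows uP)) (wordCol rank nroots rowOfIdx terms x)))

theorem wordMat_termWord_zero_left (D : ChevalleyDatum) {F : Type*} [Field F] (u : F) :
    ∀ (terms : List (ℕ × ℤ × ℕ × ℕ)), (∀ c ∈ terms, 1 ≤ c.2.2.1 ∧ 1 ≤ c.2.2.2) →
      D.wordMat F (termWord (0 : F) u terms) = 1
  | [], _ => wordMat_nil
  | c :: l, h => by
    have e : termWord (0 : F) u (c :: l) =
        (c.1, (c.2.1 : F) * (-(0 : F)) ^ c.2.2.1 * u ^ c.2.2.2) :: termWord (0 : F) u l := rfl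
    have hc := (h c (by simp)).1
    rw [e, wordMat_cons, wordMat_termWord_zero_left D u l (fun c' hc' => h c' (List.mem_cons_of_mem _ hc'))]
    simp only
    rw [neg_zero, zero_pow (by omega), mul_zero, zero_mul, x_zero, mul_one]

theorem wordMat_termWord_zero_right (D : ChevalleyDatum) {F : Type*} [Field F] (t : F) :
    ∀ (terms : List (ℕ × ℤ × ℕ × ℕ)), (∀ c ∈ terms, 1 ≤ c.2.2.1 ∧ 1 ≤ c.2.2.2) →
      D.wordMat F (termWord t (0 : F) terms) = 1
  | [], _ => wordMat_nil
  | c :: l, h => by
    have e : termWord t (0 : F) (c :: l) =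
        (c.1, (c.2.1 : F) * (-t) ^ c.2.2.1 * (0 : F) ^ c.2.2.2) :: termWord t (0 : F) l := rfl
    have hc := (h c (by simp)).2
    rw [e, wordMat_cons, wordMat_termWord_zero_right D t l (fun c' hc' => h c' (List.mem_cons_of_mem _ hc'))]
    simp only
    rw [zero_pow (by omega), mul_zero, x_zero, mul_one]

/-- The commutator formula for a pair from the column-wise check. -/
theorem r2_of_r2F (D : ChevalleyDatum) {F : Type*} [Field F] (rowOfIdx : ℕ → FRow)
    (hrow : ∀ k < D.nroots, (rowOfIdx k).Valid D ∧ (rowOfIdx k).r = k) (hle : D.rank ≤ D.nroots)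
    (r s : ℕ) (hr : r < D.nroots) (hs : s < D.nroots)
    (hlt : ∀ c ∈ D.commTerms r s, c.1 < D.nroots)
    (h : ∀ k < 2 * D.nroots, r2F D.rank D.nroots rowOfIdx r s (D.commTerms r s) k = true) : R2At D F r s := by
  intro t u
  rw [commWord_eq]
  have hpos : ∀ c ∈ D.commTerms r s, 1 ≤ c.2.2.1 ∧ 1 ≤ c.2.2.2 := by
    rw [commTerms_eq]; exact commTermsG_pos _ r s
  by_cases ht : t = 0
  · subst ht
    rw [wordMat_termWord_zero_left D u _ hpos, x_zero, mul_one, one_mul, mul_one]
  by_cases hu : u = 0
  · subst hu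
    rw [wordMat_termWord_zero_right D t _ hpos, x_zero, mul_one, one_mul, mul_one]
  obtain ⟨hvr, hrr⟩ := hrow r hr
  obtain ⟨hvs, hss⟩ := hrow s hs
  have ot := isOracle_x (D := D) (t := Units.mk0 t ht) (u := Units.mk0 u hu) (rowOfIdx r) hvr (mkPows tP) _
    (mkPows_ok _ _ tP)
  have ou := isOracle_x (D := D) (t := Units.mk0 t ht) (u := Units.mk0 u hu) (rowOfIdx s) hvs (mkPows uP) _
    (mkPows_ok _ _ uP)
  rw [eval_tP, hrr] at ot
  rw [eval_uP, hss] at ou
  have ow := isOracle_word D (Units.mk0 t ht) (Units.mk0 u hu) rowOfIdx hrow _ hlt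
  have := eq_of_colEqAt (ou.mul ot) (ot.mul (ou.mul ow)) hle h
  simp only [Units.val_mk0] at this
  rw [this, mul_assoc]

/-! ### Induction over pairs of roots -/

instance npackDecEq : DecidableEq NPack := fun a b =>
  decidable_of_iff (a.piT = b.piT ∧ a.etaT = b.etaT) (by
    cases a; cases b; simp)

/-- Fast access to the chain entries through chunked rows. -/
def Efast (rows2 : List (List FRow)) (a b : ℕ) : List (ℕ × ℤ) :=
  lookup (getFast rows2 16 dummyRow a).tbl b

/-- The chunked rows of a datum. -/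
def rows2Of (D : ChevalleyDatum) : List (List FRow) := chunksOf 16 16 (mkRows D)

def htAt (T : ℕ) (j : ℕ) : ℤ := ((T / 256 ^ j % 256 : ℕ) : ℤ) - 128

/-- The measure that decreases along the descent of pairs. -/
def pairMeas (hT : ℕ) (K : ℤ) (r s : ℕ) : ℕ := (K - (4 * htAt hT r + htAt hT s)).toNat

/-- The check at the pair `(r, s)` with the reflection `i` as a hint. -/
def pairOKAt (rank nroots : ℕ) (rows2 : List (List FRow)) (Ts : List NPack) (hT : ℕ) (K : ℤ)
    (base : List (ℕ × ℕ)) (r s i : ℕ) : Bool :=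
  decide (s = r) || decide (s = (getFast rows2 16 dummyRow r).neg) || base.contains (r, s) ||
  (decide (i < rank) &&
    (decide (pairMeas hT K (piAt (Ts.getD i ⟨0, 0⟩) r) (piAt (Ts.getD i ⟨0, 0⟩) s) < pairMeas hT K r s) &&
      compatTerms nroots (Ts.getD i ⟨0, 0⟩)
        (etaAt (Ts.getD i ⟨0, 0⟩) (piAt (Ts.getD i ⟨0, 0⟩) r))
        (etaAt (Ts.getD i ⟨0, 0⟩) (piAt (Ts.getD i ⟨0, 0⟩) s))
        (commTermsG (Efast rows2) (piAt (Ts.getD i ⟨0, 0⟩) r) (piAt (Ts.getD i ⟨0, 0⟩) s))
        (commTermsG (Efast rows2) r s)))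

/-- The check for all pairs `(r, s)` with fixed `r`; the hints are the base-16 digits of `stepT[r]`. -/
def pairRowOK (rank nroots : ℕ) (rows2 : List (List FRow)) (Ts : List NPack) (hT : ℕ) (K : ℤ)
    (base : List (ℕ × ℕ)) (stepT : List ℕ) (r : ℕ) : Bool :=
  (List.range nroots).all fun s =>
    pairOKAt rank nroots rows2 Ts hT K base r s (stepT.getD r 0 / 16 ^ s % 16)

/-- The certificate for the commutator formula. -/
structure PCert (D : ChevalleyDatum) (Ns : List NData) (Ts : List NPack) (hT : ℕ) (K : ℤ)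
    (base : List (ℕ × ℕ)) (stepT : List ℕ) : Prop where
  chain_size : D.chain.size = D.nroots
  nroots_le : D.nroots ≤ 256
  ts_eq : Ts = Ns.map mkNPack
  base_lt : ∀ p ∈ base, p.1 < D.nroots ∧ p.2 < D.nroots ∧
    ∀ c ∈ commTermsG (Efast (rows2Of D)) p.1 p.2, c.1 < D.nroots
  base_ok : ∀ p ∈ base, ∀ k < 2 * D.nroots,
    r2F D.rank D.nroots (getFast (rows2Of D) 16 dummyRow) p.1 p.2 (commTermsG (Efast (rows2Of D)) p.1 p.2) k = true
  pairs : ∀ r < D.nroots, pairRowOK D.rank D.nroots (rows2Of D) Ts hT K base stepT r = true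

section

variable {D : ChevalleyDatum} {Ns : List NData} {Ts : List NPack} {hT : ℕ} {K : ℤ} {base : List (ℕ × ℕ)}
  {stepT : List ℕ}

theorem getFast_rows2 (hrows : RowsOK D) (hle : D.nroots ≤ 256) (a : ℕ) :
    getFast (rows2Of D) 16 dummyRow a = rowAt (mkRows D) a := by
  have hlen : (mkRows D).length = D.nroots := by rw [hrows.1]; simp
  unfold rows2Of rowAt
  by_cases ha : a < 16 * 16
  · exact getFast_chunksOf 16 (by decide) dummyRow 16 (mkRows D) a ha
  · have h1 : (chunksOf 16 16 (mkRows D)).length = 16 := by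
      simp [chunksOf]
    unfold getFast
    have e1 : (chunksOf 16 16 (mkRows D)).getD (a / 16) [] = [] := by
      rw [List.getD_eq_getElem?_getD, List.getElem?_eq_none (by rw [h1]; omega)]
      rfl
    have e2 : (mkRows D).getD a dummyRow = dummyRow := by
      rw [List.getD_eq_getElem?_getD, List.getElem?_eq_none (by omega)]
      rfl
    rw [e1, e2]
    rfl

theorem Efast_eq (hrows : RowsOK D) (hsz : D.chain.size = D.nroots) (hle : D.nroots ≤ 256) (a b : ℕ) :
    D.chainEntry a b = Efast (rows2Of D) a b := by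
  unfold Efast
  rw [getFast_rows2 hrows hle, chainEntry_eq_lookup hrows hsz]

theorem commTerms_fast (hrows : RowsOK D) (hsz : D.chain.size = D.nroots) (hle : D.nroots ≤ 256) (r s : ℕ) :
    D.commTerms r s = commTermsG (Efast (rows2Of D)) r s := by
  rw [commTerms_eq]
  exact commTermsG_congr (Efast_eq hrows hsz hle) r s

/-- The commutator formula for all pairs of roots. -/
theorem r2_all (c : DCert D Ns) (pc : PCert D Ns Ts hT K base stepT) {F : Type*} [Field F] :
    ∀ r s, r < D.nroots → s < D.nroots → s ≠ r → s ≠ D.neg r → R2At D F r s := by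
  have hrows := c.rows
  have hfast := commTerms_fast hrows pc.chain_size pc.nroots_le
  have hrowfun : ∀ k < D.nroots, (getFast (rows2Of D) 16 dummyRow k).Valid D ∧
      (getFast (rows2Of D) 16 dummyRow k).r = k := by
    intro k hk
    rw [getFast_rows2 hrows pc.nroots_le, rowAt_mkRows hrows k hk]
    exact ⟨hrows.valid k hk, rfl⟩
  have hrank : D.rank ≤ D.nroots := by
    by_cases h0 : 0 < D.rank
    · exact (c.ncert 0 h0).rank_le
    · omega
  have key : ∀ n : ℕ, ∀ r s, r < D.nroots → s < D.nroots → s ≠ r → s ≠ D.neg r →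
      pairMeas hT K r s = n → R2At D F r s := by
    intro n
    induction n using Nat.strong_induction_on with
    | _ n ih =>
      intro r s hr hs hsr hsn hn
      have hrow := pc.pairs r hr
      unfold pairRowOK at hrow
      rw [List.all_eq_true] at hrow
      have hp := hrow s (List.mem_range.mpr hs)
      unfold pairOKAt at hp
      simp only [Bool.or_eq_true, Bool.and_eq_true, decide_eq_true_eq] at hp
      rcases hp with ((hp | hp) | hp) | hp
      · exact absurd hp hsr
      · rw [getFast_rows2 hrows pc.nroots_le, rowAt_mkRows hrows r hr] at hp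
        exact absurd hp hsn
      · -- base pair
        rw [List.contains_iff_mem] at hp
        obtain ⟨_, _, hlt⟩ := pc.base_lt _ hp
        have hok := pc.base_ok _ hp
        simp only at hlt hok
        rw [← hfast] at hlt hok
        exact r2_of_r2F D _ hrowfun hrank r s hr hs hlt hok
      · -- descent
        obtain ⟨hi, hlt, hcompat⟩ := hp
        set i := stepT.getD r 0 / 16 ^ s % 16 with hidef
        have hT : Ts.getD i ⟨0, 0⟩ = mkNPack (Ns.getD i dummyN) := by
          rw [pc.ts_eq, List.getD_eq_getElem?_getD, List.getElem?_map, List.getD_eq_getElem?_getD]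
          cases Ns[i]? with
          | none => rfl
          | some N => rfl
        rw [hT] at hlt hcompat
        have hN := (c.ncert i hi).small
        have hpr : piAt (mkNPack (Ns.getD i dummyN)) r = D.reflectRoot i r := by
          rw [piAt_eq D.nroots _ hN, (c.ncert i hi).pi_getD r hr]
        have hps : piAt (mkNPack (Ns.getD i dummyN)) s = D.reflectRoot i s := by
          rw [piAt_eq D.nroots _ hN, (c.ncert i hi).pi_getD s hs]
        rw [hpr, hps] at hlt hcompat
        have hr' := c.reflect_lt i hi r hr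
        have hs' := c.reflect_lt i hi s hs
        rw [etaAt_eq D.nroots _ hN _ hr', etaAt_eq D.nroots _ hN _ hs', ← hfast, ← hfast] at hcompat
        have hne1 : D.reflectRoot i s ≠ D.reflectRoot i r := by
          intro h
          apply hsr
          rw [← c.reflect_reflect i hi s hs, h, c.reflect_reflect i hi r hr]
        have hne2 : D.reflectRoot i s ≠ D.neg (D.reflectRoot i r) := by
          intro h
          apply hsn
          have fr := facts hrows (c.ncert i hi) r hr
          rw [← fr.refl_neg] at h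
          rw [← c.reflect_reflect i hi s hs, h, c.reflect_reflect i hi _ fr.neg_lt]
        have hR := ih _ (hn ▸ hlt) _ _ hr' hs' hne1 hne2 rfl
        have := R2At.transport c i hi _ _ hr' hs' (by
          rw [c.reflect_reflect i hi r hr, c.reflect_reflect i hi s hs]
          exact hcompat) hR
        rwa [c.reflect_reflect i hi r hr, c.reflect_reflect i hi s hs] at this
  intro r s hr hs hsr hsn
  exact key _ r s hr hs hsr hsn rfl

end

end Cfsg.Agent.Lib.Helper18_ChevComm2
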