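import Cfsg.Agent.Lib.Helper18_ChevWeyl
import Cfsg.Agent.Lib.Helper18_ChevRowsF4
import Cfsg.Agent.Lib.Helper18_ChevCertF4_0
import Cfsg.Agent.Lib.Helper18_ChevHCertF4_0
import Cfsg.Agent.Lib.Helper18_ChevCertF4_1
import Cfsg.Agent.Lib.Helper18_ChevHCertF4_1
import Cfsg.Agent.Lib.Helper18_ChevCertF4_2
import Cfsg.Agent.Lib.Helper18_ChevHCertF4_2
import Cfsg.Agent.Lib.Helper18_ChevCertF4_3
import Cfsg.Agent.Lib.Helper18_ChevHCertF4_3

set_option autoImplicit false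

/-! The certificate of the datum of type F4. -/

namespace Cfsg.Agent.Lib.Helper18_ChevDatumF4

open Cfsg Cfsg.Lie Cfsg.Agent.Lib.Helper18_ChevFast Cfsg.Agent.Lib.Helper18_ChevEngine
  Cfsg.Agent.Lib.Helper18_ChevR1 Cfsg.Agent.Lib.Helper18_ChevN Cfsg.Agent.Lib.Helper18_ChevR4
  Cfsg.Agent.Lib.Helper18_ChevSimple Cfsg.Agent.Lib.Helper18_ChevChunk Cfsg.Agent.Lib.Helper18_ChevDiag
  Cfsg.Agent.Lib.Helper18_ChevH Cfsg.Agent.Lib.Helper18_ChevSimple2 Cfsg.Agent.Lib.Helper18_ChevFacts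
  Cfsg.Agent.Lib.Helper18_ChevWeyl

def Ns : List NData := [Cfsg.Agent.Lib.Helper18_ChevCertF4_0.N, Cfsg.Agent.Lib.Helper18_ChevCertF4_1.N, Cfsg.Agent.Lib.Helper18_ChevCertF4_2.N, Cfsg.Agent.Lib.Helper18_ChevCertF4_3.N]

set_option maxHeartbeats 0 in
theorem dcert : DCert chevF4 Ns where
  rows := Cfsg.Agent.Lib.Helper18_ChevRowsF4.rowsOK
  ncert := by
    intro i hi
    have hr : chevF4.rank = 4 := rfl
    rw [hr] at hi
    interval_cases i
    · exact Cfsg.Agent.Lib.Helper18_ChevCertF4_0.cert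
    · exact Cfsg.Agent.Lib.Helper18_ChevCertF4_1.cert
    · exact Cfsg.Agent.Lib.Helper18_ChevCertF4_2.cert
    · exact Cfsg.Agent.Lib.Helper18_ChevCertF4_3.cert
  hcert := by
    intro i hi
    have hr : chevF4.rank = 4 := rfl
    rw [hr] at hi
    interval_cases i
    · exact Cfsg.Agent.Lib.Helper18_ChevHCertF4_0.hcert
    · exact Cfsg.Agent.Lib.Helper18_ChevHCertF4_1.hcert
    · exact Cfsg.Agent.Lib.Helper18_ChevHCertF4_2.hcert
    · exact Cfsg.Agent.Lib.Helper18_ChevHCertF4_3.hcert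
  reach := by decide +kernel

end Cfsg.Agent.Lib.Helper18_ChevDatumF4
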