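import Cfsg.Agent.Lib.Helper18_ChevPDataF4

set_option autoImplicit false

/-! The commutator formula for the base pair (47, 44) of type F4, checked by the engine (kernel computation). -/

namespace Cfsg.Agent.Lib.Helper18_ChevPBaseF4_10

open Cfsg Cfsg.Lie Cfsg.Agent.Lib.Helper18_ChevFast Cfsg.Agent.Lib.Helper18_ChevEngine
  Cfsg.Agent.Lib.Helper18_ChevR1 Cfsg.Agent.Lib.Helper18_ChevN Cfsg.Agent.Lib.Helper18_ChevR4
  Cfsg.Agent.Lib.Helper18_ChevSimple Cfsg.Agent.Lib.Helper18_ChevChunk Cfsg.Agent.Lib.Helper18_ChevWeyl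
  Cfsg.Agent.Lib.Helper18_ChevComm Cfsg.Agent.Lib.Helper18_ChevComm2
  Cfsg.Agent.Lib.Helper18_ChevPDataF4

set_option maxHeartbeats 0 in
theorem base_ok_c0 : allRange (r2F chevF4.rank chevF4.nroots (getFast (rows2Of chevF4) 16 dummyRow) 47 44 (commTermsG (Efast (rows2Of chevF4)) 47 44)) (0 * 48) 48 = true := by decide +kernel

set_option maxHeartbeats 0 in
theorem base_ok_c1 : allRange (r2F chevF4.rank chevF4.nroots (getFast (rows2Of chevF4) 16 dummyRow) 47 44 (commTermsG (Efast (rows2Of chevF4)) 47 44)) (1 * 48) 48 = true := by decide +kernel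

theorem base_ok : ∀ r < 96, r2F chevF4.rank chevF4.nroots (getFast (rows2Of chevF4) 16 dummyRow) 47 44 (commTermsG (Efast (rows2Of chevF4)) 47 44) r = true := by
  intro r hr
  refine all_of_chunks _ 48 2 ?_ r (by omega)
  intro k hk
  interval_cases k
  · exact base_ok_c0
  · exact base_ok_c1

end Cfsg.Agent.Lib.Helper18_ChevPBaseF4_10
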