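import Cfsg.Agent.Lib.Helper18_ChevDatumF4
import Cfsg.Agent.Lib.Helper18_ChevPPairsF4_0
import Cfsg.Agent.Lib.Helper18_ChevPBaseF4_0
import Cfsg.Agent.Lib.Helper18_ChevPBaseF4_1
import Cfsg.Agent.Lib.Helper18_ChevPBaseF4_2
import Cfsg.Agent.Lib.Helper18_ChevPBaseF4_3
import Cfsg.Agent.Lib.Helper18_ChevPBaseF4_4
import Cfsg.Agent.Lib.Helper18_ChevPBaseF4_5
import Cfsg.Agent.Lib.Helper18_ChevPBaseF4_6
import Cfsg.Agent.Lib.Helper18_ChevPBaseF4_7
import Cfsg.Agent.Lib.Helper18_ChevPBaseF4_8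
import Cfsg.Agent.Lib.Helper18_ChevPBaseF4_9
import Cfsg.Agent.Lib.Helper18_ChevPBaseF4_10
import Cfsg.Agent.Lib.Helper18_ChevPBaseF4_11

set_option autoImplicit false

/-! The certificate for the commutator formula of type F4. -/

namespace Cfsg.Agent.Lib.Helper18_ChevPCertF4

open Cfsg Cfsg.Lie Cfsg.Agent.Lib.Helper18_ChevFast Cfsg.Agent.Lib.Helper18_ChevEngine
  Cfsg.Agent.Lib.Helper18_ChevR1 Cfsg.Agent.Lib.Helper18_ChevN Cfsg.Agent.Lib.Helper18_ChevR4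
  Cfsg.Agent.Lib.Helper18_ChevSimple Cfsg.Agent.Lib.Helper18_ChevChunk Cfsg.Agent.Lib.Helper18_ChevWeyl
  Cfsg.Agent.Lib.Helper18_ChevComm Cfsg.Agent.Lib.Helper18_ChevComm2
  Cfsg.Agent.Lib.Helper18_ChevPDataF4

set_option maxHeartbeats 0 in
theorem pcert : PCert chevF4 Cfsg.Agent.Lib.Helper18_ChevDatumF4.Ns Ts hT K base stepT where
  chain_size := by decide +kernel
  nroots_le := by decide
  ts_eq := by decide +kernel
  base_lt := by decide +kernel
  base_ok := by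
    intro p hp
    simp only [base, List.mem_cons, List.not_mem_nil, or_false] at hp
    rcases hp with rfl | rfl | rfl | rfl | rfl | rfl | rfl | rfl | rfl | rfl | rfl | rfl
    · exact Cfsg.Agent.Lib.Helper18_ChevPBaseF4_0.base_ok
    · exact Cfsg.Agent.Lib.Helper18_ChevPBaseF4_1.base_ok
    · exact Cfsg.Agent.Lib.Helper18_ChevPBaseF4_2.base_ok
    · exact Cfsg.Agent.Lib.Helper18_ChevPBaseF4_3.base_ok
    · exact Cfsg.Agent.Lib.Helper18_ChevPBaseF4_4.base_ok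
    · exact Cfsg.Agent.Lib.Helper18_ChevPBaseF4_5.base_ok
    · exact Cfsg.Agent.Lib.Helper18_ChevPBaseF4_6.base_ok
    · exact Cfsg.Agent.Lib.Helper18_ChevPBaseF4_7.base_ok
    · exact Cfsg.Agent.Lib.Helper18_ChevPBaseF4_8.base_ok
    · exact Cfsg.Agent.Lib.Helper18_ChevPBaseF4_9.base_ok
    · exact Cfsg.Agent.Lib.Helper18_ChevPBaseF4_10.base_ok
    · exact Cfsg.Agent.Lib.Helper18_ChevPBaseF4_11.base_ok
  pairs := by
    intro r hr
    have hn : chevF4.nroots = 48 := rfl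
    rw [hn] at hr
    exact Cfsg.Agent.Lib.Helper18_ChevPPairsF4_0.pairs r (by omega) hr

end Cfsg.Agent.Lib.Helper18_ChevPCertF4
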