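import Cfsg.Agent.Lib.Helper36_WeylLit

set_option autoImplicit false
set_option Elab.async false

/-! Type F4: the reflections, the negation and the positivity of the roots as literal tables. Generated file. -/

namespace Cfsg.Agent.Lib.Helper36_ChevDataF4Lit

open Cfsg.Agent.Lib.Helper36_WeylLit

/-- The tables. -/
def lit : RootLit where
  n := 48
  rank := 4
  refl := [7261724565101152271001196648824430191705409898545041084742521782222439549395075633586971079114467536390968217567488, 7261719905179377314326951809577084366435515108925945206036271551105028264520922437528663364052125838431098365018368, 7261125723798567773061544950201179012210677350992756811983071709623601191490907863340615466535151168674041335710208, 7108411742389255762021063953019659246634323563397623500971045033854480450961950488139841120255260502304031118589953]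
  neg := 605951652385920480004291274127545002769392376323959195201050263810007255232559947887954882812532343572574055983
  pos := 154517671358409722401094274902523975706195055962609594776243201186315039571503430674474739562622797197498682179584

theorem wf : lit.WF := by decide +kernel

end Cfsg.Agent.Lib.Helper36_ChevDataF4Lit
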