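import Cfsg.Agent.Lib.Helper18_ChevBN

set_option autoImplicit false

/-!
The monomial subgroup `N`: it is generated by `H` and the `n_p`, `p` fundamental; its elements are monomial
matrices; `U ∩ N = 1` and `B ∩ N = H`.
-/

namespace Cfsg.Agent.Lib.Helper18_ChevMono

open Cfsg Cfsg.Lie Cfsg.Agent.Lib.Helper18_ChevFast Cfsg.Agent.Lib.Helper18_ChevEngine
  Cfsg.Agent.Lib.Helper18_ChevR1 Cfsg.Agent.Lib.Helper18_ChevN Cfsg.Agent.Lib.Helper18_ChevR4
  Cfsg.Agent.Lib.Helper18_ChevSimple Cfsg.Agent.Lib.Helper18_ChevSimple2 Cfsg.Agent.Lib.Helper18_ChevFacts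
  Cfsg.Agent.Lib.Helper18_ChevWeyl Cfsg.Agent.Lib.Helper18_ChevDiag Cfsg.Agent.Lib.Helper18_ChevCar
  Cfsg.Agent.Lib.Helper18_ChevTorus Cfsg.Agent.Lib.Helper18_ChevGL Cfsg.Agent.Lib.Helper18_ChevComm
  Cfsg.Agent.Lib.Helper18_ChevComm2 Cfsg.Agent.Lib.Helper18_MatTri Cfsg.Agent.Lib.Helper18_ChevTri
  Cfsg.Agent.Lib.Helper18_ChevBorel Cfsg.Agent.Lib.Helper18_ChevAdd Cfsg.Agent.Lib.Helper18_ChevUni
  Cfsg.Agent.Lib.Helper18_ChevBN

variable {D : ChevalleyDatum} {Ns : List NData} {F : Type*} [Field F]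

/-! ### The elements `n_r(a)` in the general linear group -/

/-- `n_r(a)` in the general linear group. -/
def nrGL (c : DCert D Ns) (r : ℕ) (a : F) : GL D.Idx F := wordGL c (D.nWord r a)

theorem nrGL_coe (c : DCert D Ns) (r : ℕ) (a : F) :
    ((nrGL c r a : GL D.Idx F) : Matrix D.Idx D.Idx F) = D.nMat F r a := by
  unfold nrGL
  rw [wordGL_coe]
  rfl

theorem nrGL_simple (c : DCert D Ns) (i : ℕ) : nrGL c (D.simple i) (1 : F) = nGL c i := rfl

theorem nrGL_neg_one (c : DCert D Ns) (r : ℕ) (hr : r < D.nroots) :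
    nrGL c r (-1 : F) = (nrGL c r 1)⁻¹ := by
  rw [eq_inv_iff_mul_eq_one]
  apply Units.ext
  rw [Units.val_mul, nrGL_coe, nrGL_coe, Units.val_one]
  exact nMat_neg_mul (c.addAt r hr) (c.addAt _ (DCert.neg_lt c r hr)) 1

/-- `n_{w_i r}(a) = n_i n_r(η a) n_i⁻¹`. -/
theorem nrGL_reflect (c : DCert D Ns) (i : ℕ) (hi : i < D.rank) (r : ℕ) (hr : r < D.nroots) (a : F) :
    nrGL c (D.reflectRoot i r) a = nGL c i * nrGL c r (((etaZ Ns i r : ℤ) : F) * a) * (nGL c i)⁻¹ := by
  have fr := facts c.rows (c.ncert i hi) r hr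
  have hη := eta_cast_sq (F := F) (c.etaZ_pm i hi r hr)
  have hn := c.n_mul (F := F) i hi
  have hn' := c.mul_n (F := F) i hi
  have h1 := c.r4 (F := F) i hi r hr
  have h2 : ∀ t : F, D.nMat F (D.simple i) 1 * D.x F (D.neg r) t =
      D.x F (D.neg (D.reflectRoot i r)) (((etaZ Ns i r : ℤ) : F) * t) * D.nMat F (D.simple i) 1 := by
    intro t
    have := c.r4 (F := F) i hi (D.neg r) fr.neg_lt t
    rw [fr.refl_neg] at this
    have e : etaZ Ns i (D.neg r) = etaZ Ns i r := fr.eta_neg
    rw [e] at this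
    exact this
  apply Units.ext
  rw [Units.val_mul, Units.val_mul, nrGL_coe, nrGL_coe, nGL_coe, nGL_inv_coe c i hi]
  exact nMat_conj hn hn' hη h1 h2 a

/-- The subgroup generated by the `n_p`, `p` fundamental. -/
def simpleN (c : DCert D Ns) (F : Type*) [Field F] : Subgroup (GL D.Idx F) :=
  Subgroup.closure {g | ∃ i < D.rank, g = nGL c i}

theorem nGL_mem_simpleN (c : DCert D Ns) (i : ℕ) (hi : i < D.rank) : nGL c i ∈ simpleN c F :=
  Subgroup.subset_closure ⟨i, hi, rfl⟩

/-- Every `n_r(1)` is a product of the `n_p^{±1}`, `p` fundamental. -/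
theorem nrGL_mem_simpleN (c : DCert D Ns) (r : ℕ) (hr : r < D.nroots) : nrGL c r (1 : F) ∈ simpleN c F := by
  refine c.root_induction (fun r => nrGL c r (1 : F) ∈ simpleN c F) ?_ ?_ r hr
  · intro i hi
    exact nGL_mem_simpleN c i hi
  · intro i hi s hs h
    rw [nrGL_reflect c i hi s hs]
    have hn := nGL_mem_simpleN (F := F) c i hi
    apply Subgroup.mul_mem _ (Subgroup.mul_mem _ hn _) (Subgroup.inv_mem _ hn)
    rcases c.etaZ_pm i hi s hs with h1 | h1
    · rw [h1]
      simp only [Int.cast_one, one_mul]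
      exact h
    · rw [h1]
      simp only [Int.cast_neg, Int.cast_one, neg_mul, one_mul]
      rw [nrGL_neg_one c s hs]
      exact Subgroup.inv_mem _ h

/-- `N` is generated by `H` and the `n_p`, `p` fundamental. -/
theorem monomial_eq (c : DCert D Ns) : D.monomialSubgroup F = D.diagonalSubgroup F ⊔ simpleN c F := by
  unfold ChevalleyDatum.monomialSubgroup
  apply le_antisymm
  · apply sup_le le_sup_left
    rw [Subgroup.closure_le]
    rintro g ⟨r, hr, hg⟩
    have : g = nrGL c r 1 := Units.ext (by rw [hg, nrGL_coe])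
    rw [this]
    exact Subgroup.mem_sup_right (nrGL_mem_simpleN c r hr)
  · apply sup_le le_sup_left
    unfold simpleN
    rw [Subgroup.closure_le]
    rintro g ⟨i, hi, rfl⟩
    apply Subgroup.mem_sup_right
    exact Subgroup.subset_closure ⟨D.simple i, (c.ncert i hi).simple_lt, nGL_coe c i⟩

/-! ### Monomial matrices -/

/-- A matrix that maps each `e_s` to a multiple of some `e_{s'}` and the span of the `h_j` to itself. -/
def IsMono (D : ChevalleyDatum) (A : Matrix D.Idx D.Idx F) : Prop :=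
  (∀ (u : Fin D.nroots) (j : Fin D.rank), A (Sum.inr u) (Sum.inl j) = 0) ∧
    ∀ s : Fin D.nroots, ∃ s' : Fin D.nroots, ∀ row : D.Idx, row ≠ Sum.inr s' → A row (Sum.inr s) = 0

theorem IsMono.mul {A B : Matrix D.Idx D.Idx F} (hA : IsMono D A) (hB : IsMono D B) : IsMono D (A * B) := by
  constructor
  · intro u j
    rw [Matrix.mul_apply]
    apply Finset.sum_eq_zero
    intro k _
    rcases k with j' | u'
    · rw [hA.1 u j', zero_mul]
    · rw [hB.1 u' j, mul_zero]
  · intro s
    obtain ⟨s', hs'⟩ := hB.2 s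
    obtain ⟨s'', hs''⟩ := hA.2 s'
    refine ⟨s'', ?_⟩
    intro row hrow
    rw [Matrix.mul_apply]
    apply Finset.sum_eq_zero
    intro k _
    by_cases hk : k = Sum.inr s'
    · subst hk
      rw [hs'' row hrow, zero_mul]
    · rw [hs' k hk, mul_zero]

theorem isMono_one : IsMono D (1 : Matrix D.Idx D.Idx F) := by
  constructor
  · intro u j
    rw [Matrix.one_apply_ne]
    exact Sum.inr_ne_inl
  · intro s
    refine ⟨s, ?_⟩
    intro row hrow
    rw [Matrix.one_apply_ne hrow]

theorem isMono_diagMat (χ : ℕ → F) : IsMono D (diagMat D χ) := by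
  unfold diagMat
  constructor
  · intro u j
    rw [Matrix.diagonal_apply_ne]
    exact Sum.inr_ne_inl
  · intro s
    refine ⟨s, ?_⟩
    intro row hrow
    rw [Matrix.diagonal_apply_ne _ hrow]

theorem isMono_nSpec (N : NData) (hpi : ∀ s < D.nroots, N.pi.getD s 0 < D.nroots) : IsMono D (nSpec D F N) := by
  constructor
  · intro u j
    rfl
  · intro s
    refine ⟨⟨N.pi.getD s.val 0, hpi s.val s.isLt⟩, ?_⟩
    intro row hrow
    rcases row with j | s'
    · rfl
    · show (if s'.val = N.pi.getD s.val 0 then ((N.eta.getD s.val 0 : ℤ) : F) else 0) = 0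
      rw [if_neg]
      intro h
      apply hrow
      congr 1
      exact Fin.ext h

/-- The invertible matrices that are monomial together with their inverse. -/
def monoGL (D : ChevalleyDatum) (F : Type*) [Field F] : Subgroup (GL D.Idx F) where
  carrier := {g | IsMono D (g : Matrix D.Idx D.Idx F) ∧ IsMono D ((g⁻¹ : GL D.Idx F) : Matrix D.Idx D.Idx F)}
  one_mem' := by
    constructor
    · rw [Units.val_one]; exact isMono_one
    · rw [inv_one, Units.val_one]; exact isMono_one
  mul_mem' := by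
    intro a b ha hb
    constructor
    · rw [Units.val_mul]; exact ha.1.mul hb.1
    · rw [mul_inv_rev, Units.val_mul]; exact hb.2.mul ha.2
  inv_mem' := by
    intro a ha
    constructor
    · exact ha.2
    · rw [inv_inv]; exact ha.1

theorem diagonal_le_monoGL (c : DCert D Ns) (tc : TCert D) : D.diagonalSubgroup F ≤ monoGL D F := by
  intro g hg
  obtain ⟨t, _, hgt⟩ := exists_torus_of_mem c tc g hg
  obtain ⟨t', _, hgt'⟩ := exists_torus_of_mem c tc g⁻¹ (Subgroup.inv_mem _ hg)
  constructor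
  · rw [hgt]; exact isMono_diagMat _
  · rw [hgt']; exact isMono_diagMat _

theorem nGL_mem_monoGL (c : DCert D Ns) (tc : TCert D) (i : ℕ) (hi : i < D.rank) : nGL c i ∈ monoGL D F := by
  have h1 : IsMono D ((nGL c i : GL D.Idx F) : Matrix D.Idx D.Idx F) := by
    rw [nGL_coe, (c.ncert i hi).nMat_eq c.rows]
    apply isMono_nSpec
    intro s hs
    rw [(c.ncert i hi).pi_getD s hs]
    exact c.reflect_lt i hi s hs
  constructor
  · exact h1
  · have e : ((nGL c i)⁻¹ : GL D.Idx F) = nGL c i * ((nGL c i)⁻¹ * (nGL c i)⁻¹) := by group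
    rw [e, nGL_inv_sq c i hi, Units.val_mul]
    apply h1.mul
    exact (diagonal_le_monoGL c tc (hGL_mem c _ (c.ncert i hi).simple_lt (-1) (by simp))).1

theorem monomial_le_monoGL (c : DCert D Ns) (tc : TCert D) : D.monomialSubgroup F ≤ monoGL D F := by
  rw [monomial_eq c]
  apply sup_le (diagonal_le_monoGL c tc)
  unfold simpleN
  rw [Subgroup.closure_le]
  rintro g ⟨i, hi, rfl⟩
  exact nGL_mem_monoGL c tc i hi

/-! ### `U ∩ N = 1` and `B ∩ N = H` -/

/-- A monomial element of `U` is trivial. -/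
theorem eq_one_of_mem_pos_of_isMono (c : DCert D Ns) (tc : TCert D) {w : List ℤ} {d : ℕ} (gc : GCert D w d)
    (g : GL D.Idx F) (hg : g ∈ D.posUnipotent F) (hm : IsMono D (g : Matrix D.Idx D.Idx F)) : g = 1 := by
  have hU := posUnipotent_le_tri c tc gc hg
  have hd : (1 : ℤ) ≤ d := by exact_mod_cast gc.d_pos
  have hdiag : ∀ i : D.Idx, (g : Matrix D.Idx D.Idx F) i i = 1 := by
    intro i
    have := hU i i (by omega)
    rw [Matrix.sub_apply, Matrix.one_apply_eq] at this
    exact sub_eq_zero.mp this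
  apply Units.ext
  rw [Units.val_one]
  ext row col
  by_cases hrc : row = col
  · subst hrc
    rw [hdiag, Matrix.one_apply_eq]
  · rw [Matrix.one_apply_ne hrc]
    rcases col with j | s
    · rcases row with j' | u
      · have := hU (Sum.inl j') (Sum.inl j) (by simp only [gradU, grIdx]; omega)
        rw [Matrix.sub_apply, Matrix.one_apply_ne hrc, sub_zero] at this
        exact this
      · exact hm.1 u j
    · obtain ⟨s', hs'⟩ := hm.2 s
      have h1 : (Sum.inr s : D.Idx) = Sum.inr s' := by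
        by_contra hne
        have := hs' (Sum.inr s) hne
        rw [hdiag] at this
        exact one_ne_zero this
      rw [← h1] at hs'
      exact hs' row hrc

theorem pos_inf_monomial (c : DCert D Ns) (tc : TCert D) {w : List ℤ} {d : ℕ} (gc : GCert D w d) :
    D.posUnipotent F ⊓ D.monomialSubgroup F = ⊥ := by
  rw [eq_bot_iff]
  intro g hg
  rw [Subgroup.mem_inf] at hg
  rw [Subgroup.mem_bot]
  exact eq_one_of_mem_pos_of_isMono c tc gc g hg.1 (monomial_le_monoGL c tc hg.2).1

theorem diagonal_le_monomial : D.diagonalSubgroup F ≤ D.monomialSubgroup F := le_sup_left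

theorem borel_inf_monomial (c : DCert D Ns) (tc : TCert D) {w : List ℤ} {d : ℕ} (gc : GCert D w d) :
    D.borelSubgroup F ⊓ D.monomialSubgroup F = D.diagonalSubgroup F := by
  apply le_antisymm
  · intro g hg
    rw [Subgroup.mem_inf] at hg
    obtain ⟨u, hu, h, hh, rfl⟩ := exists_mul_of_mem_sup _ _ (diagonal_le_normalizer_pos c tc) hg.1
    have hu' : u ∈ D.monomialSubgroup F := by
      have : u = (u * h) * h⁻¹ := by group
      rw [this]
      exact Subgroup.mul_mem _ hg.2 (Subgroup.inv_mem _ (diagonal_le_monomial hh))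
    have h1 : u ∈ D.posUnipotent F ⊓ D.monomialSubgroup F := Subgroup.mem_inf.mpr ⟨hu, hu'⟩
    rw [pos_inf_monomial c tc gc, Subgroup.mem_bot] at h1
    rw [h1, one_mul]
    exact hh
  · exact le_inf le_sup_right diagonal_le_monomial

end Cfsg.Agent.Lib.Helper18_ChevMono
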