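import Mathlib

set_option autoImplicit false

/-! Polynomials in one variable over the integers as lists of coefficients, for checking polynomial identities by
evaluation of lists. -/

namespace Cfsg.Agent.Lib.Helper36_PolyList

/-- Evaluation. -/
def peval (c : List ℤ) (x : ℤ) : ℤ := c.foldr (fun a acc => a + x * acc) 0

@[simp] theorem peval_nil (x : ℤ) : peval [] x = 0 := rfl

@[simp] theorem peval_cons (a : ℤ) (c : List ℤ) (x : ℤ) : peval (a :: c) x = a + x * peval c x := rfl

def padd : List ℤ → List ℤ → List ℤ
  | [], b => b
  | a :: as, [] => a :: as
  | a :: as, b :: bs => (a + b) :: padd as bs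

theorem peval_padd (a b : List ℤ) (x : ℤ) : peval (padd a b) x = peval a x + peval b x := by
  induction a generalizing b with
  | nil => simp [padd]
  | cons a as ih =>
    cases b with
    | nil => simp [padd]
    | cons b bs =>
      simp only [padd, peval_cons, ih]
      ring

def psmul (k : ℤ) (b : List ℤ) : List ℤ := b.map (fun a => k * a)

theorem peval_psmul (k : ℤ) (b : List ℤ) (x : ℤ) : peval (psmul k b) x = k * peval b x := by
  induction b with
  | nil => simp [psmul]
  | cons b bs ih =>
    have : psmul k (b :: bs) = (k * b) :: psmul k bs := rfl
    rw [this, peval_cons, peval_cons, ih]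
    ring

def pmul : List ℤ → List ℤ → List ℤ
  | [], _ => []
  | a :: as, b => padd (psmul a b) (0 :: pmul as b)

theorem peval_pmul (a b : List ℤ) (x : ℤ) : peval (pmul a b) x = peval a x * peval b x := by
  induction a with
  | nil => simp [pmul]
  | cons a as ih =>
    simp only [pmul, peval_padd, peval_psmul, peval_cons, ih]
    ring

/-- The product of a list of polynomials. -/
def pprod : List (List ℤ) → List ℤ
  | [] => [1]
  | a :: as => pmul a (pprod as)

theorem peval_pprod (l : List (List ℤ)) (x : ℤ) : peval (pprod l) x = (l.map (fun a => peval a x)).prod := by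
  induction l with
  | nil => simp [pprod]
  | cons a as ih => simp only [pprod, peval_pmul, ih, List.map_cons, List.prod_cons]

/-- The monomial `x ^ d`. -/
def mono (d : ℕ) : List ℤ := List.replicate d 0 ++ [1]

theorem peval_mono (d : ℕ) (x : ℤ) : peval (mono d) x = x ^ d := by
  induction d with
  | zero => simp [mono]
  | succ d ih =>
    have : mono (d + 1) = 0 :: mono d := by
      unfold mono
      rw [List.replicate_succ, List.cons_append]
    rw [this, peval_cons, ih]
    ring

/-- The polynomial `∑ x ^ d` over a list of exponents. -/
def hist (l : List ℕ) : List ℤ := l.foldr (fun d acc => padd (mono d) acc) []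

theorem peval_hist (l : List ℕ) (x : ℤ) : peval (hist l) x = (l.map (fun d => x ^ d)).sum := by
  induction l with
  | nil => simp [hist]
  | cons d ds ih =>
    have : hist (d :: ds) = padd (mono d) (hist ds) := rfl
    rw [this, peval_padd, peval_mono, ih, List.map_cons, List.sum_cons]

/-- All coefficients vanish. -/
def pzero (c : List ℤ) : Bool := c.all (fun a => a == 0)

theorem peval_of_pzero (c : List ℤ) (h : pzero c = true) (x : ℤ) : peval c x = 0 := by
  induction c with
  | nil => rfl
  | cons a c ih =>
    unfold pzero at h
    rw [List.all_cons, Bool.and_eq_true, beq_iff_eq] at h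
    rw [peval_cons, h.1, ih h.2]
    ring

/-- Equality of polynomials up to trailing zeros. -/
def peq (a b : List ℤ) : Bool := pzero (padd a (psmul (-1) b))

theorem peval_of_peq (a b : List ℤ) (h : peq a b = true) (x : ℤ) : peval a x = peval b x := by
  have := peval_of_pzero _ h x
  rw [peval_padd, peval_psmul] at this
  linarith

end Cfsg.Agent.Lib.Helper36_PolyList
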