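import Cfsg.Agent.Lib.Helper36_WeylLit
import Cfsg.Agent.Lib.Helper36_PolyList

set_option autoImplicit false

/-!
The sum of `q ^ l(w)` over a Weyl group given by literal tables, along a chain of parabolic subgroups, and its product
form.
-/

namespace Cfsg.Agent.Lib.Helper36_WeylPoin

open Cfsg.Agent.Lib.Helper36_WeylChain Cfsg.Agent.Lib.Helper36_WeylLit Cfsg.Agent.Lib.Helper36_PolyList
  Cfsg.Agent.Lib.Helper36_WeylLit.RootLit

variable (L : RootLit)

/-- A chain of steps from `W_J0` down to the trivial group. -/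
def ChainOK : List Step → List ℕ → Prop
  | [], J0 => J0 = []
  | st :: rest, J0 => st.J = J0 ∧ L.StepOK st ∧ ChainOK rest st.J'

theorem pSum_chain (h : L.WF) (sts : List Step) (J0 : List ℕ) (hc : ChainOK L sts J0) (q : ℕ) :
    pSum (inv L.Pos) q (L.W h J0) = (sts.map (fun st => (st.lens.map (fun d => q ^ d)).sum)).prod := by
  induction sts generalizing J0 with
  | nil =>
    unfold ChainOK at hc
    rw [hc, L.W_nil h, pSum_bot _ _ (inv_one _)]
    rfl
  | cons st rest ih =>
    unfold ChainOK at hc
    obtain ⟨rfl, hst, hrest⟩ := hc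
    rw [L.pSum_stepLit h st hst q, ih _ hrest, List.map_cons, List.prod_cons]

/-- The product form: `(q - 1)^l ∑_w q^l(w) = ∏ (q^d - 1)`, from an identity of polynomials checked on lists. -/
theorem poincare (h : L.WF) (sts : List Step) (J0 : List ℕ) (hc : ChainOK L sts J0) (ds : List ℕ) (l : ℕ)
    (hpoly : peq (pprod (List.replicate l [-1, 1] ++ sts.map (fun st => hist st.lens)))
      (pprod (ds.map (fun d => padd (mono d) [-1]))) = true) (q : ℕ) (hq : 1 ≤ q) :
    (q - 1) ^ l * pSum (inv L.Pos) q (L.W h J0) = (ds.map (fun d => q ^ d - 1)).prod := by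
  rw [pSum_chain L h sts J0 hc q]
  have key := peval_of_peq _ _ hpoly (q : ℤ)
  rw [peval_pprod, peval_pprod, List.map_append, List.prod_append, List.map_replicate, List.prod_replicate,
    List.map_map, List.map_map] at key
  apply Nat.cast_injective (R := ℤ)
  rw [Nat.cast_mul, Nat.cast_pow, Nat.cast_sub hq, Nat.cast_one, Nat.cast_list_prod, Nat.cast_list_prod,
    List.map_map, List.map_map]
  have e1 : peval [-1, 1] (q : ℤ) = (q : ℤ) - 1 := by
    simp only [peval_cons, peval_nil]
    ring
  rw [e1] at key
  have e2 : List.map ((fun a => peval a (q : ℤ)) ∘ fun st : Step => hist st.lens) sts =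
      List.map (Nat.cast ∘ fun st : Step => (st.lens.map (fun d => q ^ d)).sum) sts := by
    apply List.map_congr_left
    intro st _
    show peval (hist st.lens) (q : ℤ) = (((st.lens.map (fun d => q ^ d)).sum : ℕ) : ℤ)
    rw [peval_hist, Nat.cast_list_sum, List.map_map]
    congr 1
  have e3 : List.map ((fun a => peval a (q : ℤ)) ∘ fun d => padd (mono d) [-1]) ds =
      List.map (Nat.cast ∘ fun d => q ^ d - 1) ds := by
    apply List.map_congr_left
    intro d _
    show peval (padd (mono d) [-1]) (q : ℤ) = ((q ^ d - 1 : ℕ) : ℤ)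
    rw [peval_padd, peval_mono, Nat.cast_sub (Nat.one_le_pow _ _ hq), Nat.cast_pow]
    simp only [peval_cons, peval_nil, Nat.cast_one]
    ring
  rw [e2, e3] at key
  exact key

end Cfsg.Agent.Lib.Helper36_WeylPoin
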