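import Cfsg.Agent.Lib.Helper36_ChevMono
import Cfsg.Agent.Lib.Helper36_ChevDataB2T

set_option autoImplicit false

/-! Type B2: all `n_r(±1)` have monomial block form. Assembled from the table checks. Generated file. -/

namespace Cfsg.Agent.Lib.Helper36_ChevDataB2Mn

open Cfsg Cfsg.Lie Cfsg.Agent.Lib.Helper36_ChevSparse Cfsg.Agent.Lib.Helper36_ChevCoeff
  Cfsg.Agent.Lib.Helper36_ChevCoo Cfsg.Agent.Lib.Helper36_ChevAdd Cfsg.Agent.Lib.Helper36_ChevIdx
  Cfsg.Agent.Lib.Helper36_ChevWeyl Cfsg.Agent.Lib.Helper36_ChevGen Cfsg.Agent.Lib.Helper36_ChevConj Cfsg.Agent.Lib.Helper36_ChevH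
  Cfsg.Agent.Lib.Helper36_ChevHAll Cfsg.Agent.Lib.Helper36_ChevTorus Cfsg.Agent.Lib.Helper36_ChevMono
  Cfsg.Agent.Lib.Helper36_ChevDataB2T

theorem monoFacts (F : Type*) [Field F] : MonoFacts chevB2 F :=
  monoFacts_mk chevB2 Helper36_ChevDataB2.lenOK Helper36_ChevDataB2.addOK Helper36_ChevDataB2.simpleOK Helper36_ChevDataB2.nLits Helper36_ChevDataB2.nLitOK F 12 Helper36_ChevDataB2CA.cartanAddOK
    Helper36_ChevDataB2RC.reflCartanOK Helper36_ChevDataB2Eta.etaTable monoOK 12 Helper36_ChevDataB2H.hOK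
    Helper36_ChevDataB2Eta.etaTable Helper36_ChevDataB2HA.fundOK Helper36_ChevDataB2.tree Helper36_ChevDataB2.pairsOK Helper36_ChevDataB2HA.treeSym Helper36_ChevDataB2.reachOK

end Cfsg.Agent.Lib.Helper36_ChevDataB2Mn
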