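import Cfsg.Agent.Lib.Helper36_ChevMono
import Cfsg.Agent.Lib.Helper36_ChevDataE7T

set_option autoImplicit false

/-! Type E7: all `n_r(±1)` have monomial block form. Assembled from the table checks. Generated file. -/

namespace Cfsg.Agent.Lib.Helper36_ChevDataE7Mn

open Cfsg Cfsg.Lie Cfsg.Agent.Lib.Helper36_ChevSparse Cfsg.Agent.Lib.Helper36_ChevCoeff
  Cfsg.Agent.Lib.Helper36_ChevCoo Cfsg.Agent.Lib.Helper36_ChevAdd Cfsg.Agent.Lib.Helper36_ChevIdx
  Cfsg.Agent.Lib.Helper36_ChevWeyl Cfsg.Agent.Lib.Helper36_ChevGen Cfsg.Agent.Lib.Helper36_ChevConj Cfsg.Agent.Lib.Helper36_ChevH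
  Cfsg.Agent.Lib.Helper36_ChevHAll Cfsg.Agent.Lib.Helper36_ChevTorus Cfsg.Agent.Lib.Helper36_ChevMono
  Cfsg.Agent.Lib.Helper36_ChevDataE7T

theorem monoFacts (F : Type*) [Field F] : MonoFacts chevE7 F :=
  monoFacts_mk chevE7 Helper36_ChevDataE7.lenOK Helper36_ChevDataE7.addOK Helper36_ChevDataE7.simpleOK Helper36_ChevDataE7.nLits Helper36_ChevDataE7.nLitOK F 12 Helper36_ChevDataE7CA.cartanAddOK
    Helper36_ChevDataE7RC.reflCartanOK Helper36_ChevDataE7EtaTbl.etaTable monoOK 12 Helper36_ChevDataE7H.hOK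
    Helper36_ChevDataE7EtaTbl.etaTable Helper36_ChevDataE7HA.fundOK Helper36_ChevDataE7.tree Helper36_ChevDataE7.pairsOK Helper36_ChevDataE7HA.treeSym Helper36_ChevDataE7.reachOK

end Cfsg.Agent.Lib.Helper36_ChevDataE7Mn
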