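import Cfsg.Agent.Lib.Helper36_ChevDataG2Mn
import Cfsg.Agent.Lib.Helper36_ChevDataB2Mn
import Cfsg.Agent.Lib.Helper36_ChevDataD4Mn
import Cfsg.Agent.Lib.Helper36_ChevDataF4Mn
import Cfsg.Agent.Lib.Helper36_ChevDataE6Mn
import Cfsg.Agent.Lib.Helper36_ChevDataE7Mn
import Cfsg.Agent.Lib.Helper36_ChevDataE8Mn
import Cfsg.Agent.Lib.Helper36_ChevBorelAll

set_option autoImplicit false

/-! The monomial block form of the `n_r(±1)` for the seven tabulated Chevalley data. -/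

namespace Cfsg.Agent.Lib.Helper36_ChevMonoAll

open Cfsg Cfsg.Lie Cfsg.Agent.Lib.Helper36_ChevMono

theorem monoFacts_of_mem (D : ChevalleyDatum)
    (hD : D ∈ [chevG2, chevB2, chevD4, chevF4, chevE6, chevE7, chevE8]) (F : Type*) [Field F] : MonoFacts D F := by
  simp only [List.mem_cons, List.not_mem_nil, or_false] at hD
  rcases hD with rfl | rfl | rfl | rfl | rfl | rfl | rfl
  · exact Cfsg.Agent.Lib.Helper36_ChevDataG2Mn.monoFacts F
  · exact Cfsg.Agent.Lib.Helper36_ChevDataB2Mn.monoFacts F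
  · exact Cfsg.Agent.Lib.Helper36_ChevDataD4Mn.monoFacts F
  · exact Cfsg.Agent.Lib.Helper36_ChevDataF4Mn.monoFacts F
  · exact Cfsg.Agent.Lib.Helper36_ChevDataE6Mn.monoFacts F
  · exact Cfsg.Agent.Lib.Helper36_ChevDataE7Mn.monoFacts F
  · exact Cfsg.Agent.Lib.Helper36_ChevDataE8Mn.monoFacts F

end Cfsg.Agent.Lib.Helper36_ChevMonoAll
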