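import Cfsg.Agent.Lib.Helper18_ChevLevi
import Cfsg.Agent.Lib.Helper6_BNPairB

set_option autoImplicit false

/-!
The normalizer of `U_J` in the Chevalley group is the standard parabolic subgroup `P_J`.
-/

namespace Cfsg.Agent.Lib.Helper18_ChevPar

open Cfsg Cfsg.Lie Cfsg.Agent.Lib.Helper18_ChevFast Cfsg.Agent.Lib.Helper18_ChevEngine
  Cfsg.Agent.Lib.Helper18_ChevR1 Cfsg.Agent.Lib.Helper18_ChevN Cfsg.Agent.Lib.Helper18_ChevR4
  Cfsg.Agent.Lib.Helper18_ChevSimple Cfsg.Agent.Lib.Helper18_ChevSimple2 Cfsg.Agent.Lib.Helper18_ChevFacts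
  Cfsg.Agent.Lib.Helper18_ChevWeyl Cfsg.Agent.Lib.Helper18_ChevDiag Cfsg.Agent.Lib.Helper18_ChevCar
  Cfsg.Agent.Lib.Helper18_ChevTorus Cfsg.Agent.Lib.Helper18_ChevGL Cfsg.Agent.Lib.Helper18_ChevComm
  Cfsg.Agent.Lib.Helper18_ChevComm2 Cfsg.Agent.Lib.Helper18_MatTri Cfsg.Agent.Lib.Helper18_ChevTri
  Cfsg.Agent.Lib.Helper18_ChevBorel Cfsg.Agent.Lib.Helper18_ChevAdd Cfsg.Agent.Lib.Helper18_ChevUni
  Cfsg.Agent.Lib.Helper18_ChevBN Cfsg.Agent.Lib.Helper18_ChevMono Cfsg.Agent.Lib.Helper18_ChevBNPair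
  Cfsg.Agent.Lib.Helper18_ChevJCerts Cfsg.Agent.Lib.Helper18_ChevLevi

variable {D : ChevalleyDatum} {Ns : List NData} {F : Type*} [Field F]
  {wl : List ℤ} {ws : List (List ℤ)} {sc : ℤ}

theorem nGL_mem_group (c : DCert D Ns) (i : ℕ) : nGL c i ∈ D.group F := wordGL_mem_group c _

theorem parabolic_le_group (c : DCert D Ns) (J : Set ℕ) : D.parabolicSubgroup F J ≤ D.group F := by
  unfold ChevalleyDatum.parabolicSubgroup
  apply sup_le (borel_le_group c)
  rw [Subgroup.closure_le]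
  rintro g ⟨j, -, -, hg⟩
  have : g = nGL c j := Units.ext (by rw [hg, nGL_coe])
  rw [this]
  exact nGL_mem_group c j

/-- `n_k` does not normalize `U_J` when `k ∉ J`. -/
theorem nGL_not_mem_normalizer (c : DCert D Ns) (tc : TCert D) (ac : ACert D wl ws sc) {w : List ℤ} {d : ℕ}
    (gc : GCert D w d) (J : Set ℕ) (k : ℕ) (hk : k < D.rank) (hkJ : k ∉ J) :
    nGL c k ∉ Subgroup.normalizer (D.unipotentRadical F J : Set (GL D.Idx F)) := by
  intro h
  have hp := ac.simple k hk
  have hx : xGL c (D.simple k) (1 : F) ∈ D.unipotentRadical F J := by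
    apply Subgroup.subset_closure
    refine ⟨D.simple k, 1, hp.2.1, ?_, rfl⟩
    intro hJ
    have h1 := hJ.2 k hk hkJ
    have h2 : cor D (D.simple k) k = 1 := by rw [tc.simple_cor k hk k hk, if_pos rfl]
    rw [show (D.coroot.getD (D.simple k) #[]).getD k 0 = cor D (D.simple k) k from rfl, h2] at h1
    exact one_ne_zero h1
  have h1 := (Subgroup.mem_normalizer_iff.mp h _).mp hx
  rw [nGL_conj c k hk _ hp.1, reflectRoot_simple] at h1
  have hUle : D.unipotentRadical F J ≤ D.posUnipotent F := by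
    rw [unipotentRadical_eq, Subgroup.closure_le]
    rintro g ⟨r, t, hr, -, hg⟩
    exact Subgroup.subset_closure ⟨r, t, hr, hg⟩
  have h2 : xGL c (D.neg (D.simple k)) (((etaZ Ns k (D.simple k) : ℤ) : F) * 1) ∈ D.borelSubgroup F :=
    Subgroup.mem_sup_left (hUle h1)
  have h3 := eq_zero_of_xGL_neg_mem_borel c tc ac gc _ (neg_isNeg c tc ac _ hp.2.1) _ h2
  rw [mul_one] at h3
  exact eta_cast_ne_zero c k hk _ hp.1 h3

/-- `N_G(U_J) = P_J` (statement S1049). -/
theorem normalizer_inf_group (c : DCert D Ns) (tc : TCert D) (ac : ACert D wl ws sc) {w : List ℤ} {d : ℕ}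
    (gc : GCert D w d) (hR2 : R2All D F) (J : Set ℕ) :
    Subgroup.normalizer (D.unipotentRadical F J : Set (GL D.Idx F)) ⊓ D.group F = D.parabolicSubgroup F J := by
  apply le_antisymm
  · intro g hg
    obtain ⟨P, hB, hN, hS⟩ := exists_bnPair c tc ac gc hR2
    set M : Subgroup (GL D.Idx F) :=
      Subgroup.normalizer (D.unipotentRadical F J : Set (GL D.Idx F)) ⊓ D.group F with hM
    have hBM : P.B ≤ M.subgroupOf (D.group F) := by
      rw [hB]
      intro x hx
      exact ⟨parabolic_le_normalizer J c tc ac hR2 (borel_le_parabolic J hx), x.2⟩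
    have hMK := Cfsg.Agent.Lib.Helper6_BNPair.subgroup_eq_parabolic P hBM
    have hg' : (⟨g, hg.2⟩ : ↥(D.group F)) ∈ M.subgroupOf (D.group F) := hg
    rw [hMK] at hg'
    have hle : P.parabolic (P.S ∩ ((M.subgroupOf (D.group F) : Subgroup ↥(D.group F)) : Set ↥(D.group F))) ≤
        (D.parabolicSubgroup F J).subgroupOf (D.group F) := by
      unfold BNPair.parabolic
      apply sup_le
      · rw [hB]
        intro x hx
        exact borel_le_parabolic J hx
      · rw [Subgroup.closure_le]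
        rintro s ⟨hsS, hsM⟩
        rw [hS] at hsS
        obtain ⟨k, hk, hsk⟩ := hsS
        have hs_eq : (s : GL D.Idx F) = nGL c k := Units.ext (by rw [hsk, nGL_coe])
        have hsN : (s : GL D.Idx F) ∈ Subgroup.normalizer (D.unipotentRadical F J : Set (GL D.Idx F)) :=
          hsM.1
        have hkJ : k ∈ J := by
          by_contra hkJ
          rw [hs_eq] at hsN
          exact nGL_not_mem_normalizer c tc ac gc J k hk hkJ hsN
        show (s : GL D.Idx F) ∈ D.parabolicSubgroup F J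
        rw [hs_eq]
        exact nGL_mem_parabolic J c k hk hkJ
    exact hle hg'
  · exact le_inf (parabolic_le_normalizer J c tc ac hR2) (parabolic_le_group c J)

end Cfsg.Agent.Lib.Helper18_ChevPar
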