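import Cfsg.Agent.Lib.Helper36_ChevOrder
import Cfsg.Agent.Lib.Helper36_WeylPoin
import Cfsg.Agent.Lib.Helper36_ChevW0All
import Cfsg.Agent.Lib.Helper18_ChevData5
import Cfsg.Agent.Lib.Helper18_ChevMono
import Cfsg.Agent.Lib.Helper18_ChevBNPair
import Cfsg.Agent.S1024
import Cfsg.Agent.S1026
import Cfsg.Agent.S1027
import Cfsg.Agent.S1036
import Cfsg.Agent.S1037
import Cfsg.Agent.S1040
import Cfsg.Agent.S1049
import Cfsg.Agent.S1100

set_option autoImplicit false

/-!
The order of the seven tabulated Chevalley groups over a finite field: assembly of the normal form, the order of `U`,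
the structure of `B` and `N`, and the sum of `q ^ l(w)` over the Weyl group.
-/

namespace Cfsg.Agent.Lib.Helper36_ChevOrderAll

open Cfsg Cfsg.Lie Cfsg.Agent.Lib.Helper36_ChevTorus Cfsg.Agent.Lib.Helper36_ChevTorusAll
  Cfsg.Agent.Lib.Helper36_ChevW0 Cfsg.Agent.Lib.Helper36_ChevW0All Cfsg.Agent.Lib.Helper36_ChevTables
  Cfsg.Agent.Lib.Helper36_ChevOrder Cfsg.Agent.Lib.Helper36_WeylChain Cfsg.Agent.Lib.Helper36_WeylLit
  Cfsg.Agent.Lib.Helper36_WeylLit.RootLit

theorem nGen_of_mem {F : Type*} [Field F] (D : ChevalleyDatum)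
    (hD : D ∈ [chevG2, chevB2, chevD4, chevF4, chevE6, chevE7, chevE8]) : NGen D F := by
  obtain ⟨Ns, w, d, Ts, hT, K, base, stepT, wl, ws, sc, c, tc, gc, pc, ac⟩ :=
    Cfsg.Agent.Lib.Helper18_ChevData5.exists_cert5 D hD
  unfold NGen
  rw [Cfsg.Agent.Lib.Helper18_ChevMono.monomial_eq c]
  congr 1
  unfold Cfsg.Agent.Lib.Helper18_ChevMono.simpleN
  congr 1
  ext g
  constructor
  · rintro ⟨i, hi, rfl⟩
    exact ⟨i, hi, Cfsg.Agent.Lib.Helper18_ChevGL.nGL_coe c i⟩
  · rintro ⟨i, hi, hg⟩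
    exact ⟨i, hi, Units.ext (hg.trans (Cfsg.Agent.Lib.Helper18_ChevGL.nGL_coe c i).symm)⟩

theorem xInj_of_mem {F : Type*} [Field F] (D : ChevalleyDatum)
    (hD : D ∈ [chevG2, chevB2, chevD4, chevF4, chevE6, chevE7, chevE8]) : XInj D F := by
  obtain ⟨Ns, w, d, Ts, hT, K, base, stepT, wl, ws, sc, c, tc, gc, pc, ac⟩ :=
    Cfsg.Agent.Lib.Helper18_ChevData5.exists_cert5 D hD
  intro r r' hr hr' a a' ha h
  exact Cfsg.Agent.Lib.Helper18_ChevBNPair.root_eq_of_x_eq c tc ac r r' hr hr' a a' ha h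

theorem normalizer_pos {F : Type*} [Field F] (D : ChevalleyDatum)
    (hD : D ∈ [chevG2, chevB2, chevD4, chevF4, chevE6, chevE7, chevE8]) (hnz : NoZero D) :
    Subgroup.normalizer (D.posUnipotent F : Set (GL D.Idx F)) ⊓ D.group F = D.borelSubgroup F := by
  have h := Cfsg.Agent.S1049.result (F := F) D hD ∅ (fun j hj => absurd hj (Set.notMem_empty j))
  have e1 : D.unipotentRadical F ∅ = D.posUnipotent F := by
    unfold ChevalleyDatum.unipotentRadical ChevalleyDatum.posUnipotent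
    congr 1
    ext g
    constructor
    · rintro ⟨r, t, hr, -, hg⟩
      exact ⟨r, t, hr, hg⟩
    · rintro ⟨r, t, hr, hg⟩
      refine ⟨r, t, hr, ?_, hg⟩
      rintro ⟨hr', hz⟩
      exact hnz r hr' (fun i hi => hz i hi (Set.notMem_empty i))
  have e2 : D.parabolicSubgroup F ∅ = D.borelSubgroup F := by
    unfold ChevalleyDatum.parabolicSubgroup
    have : {g : GL D.Idx F | ∃ j ∈ (∅ : Set ℕ), j < D.rank ∧
        (g : Matrix D.Idx D.Idx F) = D.nMat F (D.simple j) 1} = ∅ := by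
      ext g
      simp
    rw [this, Subgroup.closure_empty, sup_bot_eq]
  rw [e1, e2] at h
  exact h

/-- The order formula, from the table checks of one type. -/
theorem order_main {F : Type*} [Field F] [Fintype F] (D : ChevalleyDatum)
    (hD : D ∈ [chevG2, chevB2, chevD4, chevF4, chevE6, chevE7, chevE8]) (L : RootLit) (hwf : L.WF)
    (hl : LitOK D L) (hnz : NoZero D) (ds : List ℕ)
    (hpoin : ∀ q : ℕ, 1 ≤ q → (q - 1) ^ L.rank * pSum (inv L.Pos) q (L.W hwf (List.range L.rank)) =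
      (ds.map (fun d => q ^ d - 1)).prod)
    (d : ℕ) (hd : d * Nat.card (D.diagonalSubgroup F) = (Fintype.card F - 1) ^ D.rank) :
    d * Nat.card (D.group F) =
      Fintype.card F ^ (D.nroots / 2) * (ds.map (fun d => Fintype.card F ^ d - 1)).prod := by
  have hf := facts_of_mem D hD F
  have h1036 := Cfsg.Agent.S1036.result (F := F) D hD
  have h1100 := Cfsg.Agent.S1100.result (F := F) D hD
  have hcard := card_group D F hf L hwf (chainOK_of_mem D hD) (allConj_of_mem D hD F) hl (nGen_of_mem D hD)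
    (xInj_of_mem D hD) (fun r hr a h => (Cfsg.Agent.S1024.result D hD r hr a).mp h)
    (Cfsg.Agent.S1037.result D hD).1 (normalizer_pos D hD hnz) (Cfsg.Agent.S1040.result D hD).2
    h1100.1 h1100.2 (Cfsg.Agent.S1026.result D hD).1 (Cfsg.Agent.S1027.result D hD) h1036.1 h1036.2
  have hq : 1 ≤ Fintype.card F := Fintype.card_pos
  have hp := hpoin (Fintype.card F) hq
  have hd' : d * Nat.card (D.diagonalSubgroup F) = (Fintype.card F - 1) ^ L.rank := by
    rw [hl.hrank]
    exact hd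
  unfold WAll at hcard
  rw [hcard, ← hp, ← hd']
  ring

end Cfsg.Agent.Lib.Helper36_ChevOrderAll
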