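import Mathlib

set_option autoImplicit false

/-!
Facts on a finite field `K` with `q ^ m` elements, `q` a prime power: the map `x ↦ x ^ q` is a ring endomorphism of
order dividing `m`, and it fixes exactly `q` elements.
-/

namespace Cfsg.Agent.Lib.Helper36_TwistF

variable {K : Type*} [Field K] [Fintype K]

/-- The ring endomorphism `x ↦ x ^ q`. -/
theorem exists_frob {q m : ℕ} (hq : IsPrimePow q) (hK : Fintype.card K = q ^ m) :
    ∃ f : K →+* K, ∀ x : K, f x = x ^ q := by
  obtain ⟨p, a, hp, ha, rfl⟩ := (isPrimePow_nat_iff q).mp hq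
  have : Fact p.Prime := ⟨hp⟩
  have : CharP K p := charP_of_card_eq_prime_pow (f := a * m) (by rw [hK, pow_mul])
  exact ⟨iterateFrobenius K p a, fun x => iterateFrobenius_def p a x⟩

theorem pow_card' {q m : ℕ} (hK : Fintype.card K = q ^ m) (x : K) : x ^ (q ^ m) = x := by
  rw [← hK]
  exact FiniteField.pow_card x

theorem one_lt_of_isPrimePow {q : ℕ} (hq : IsPrimePow q) : 1 < q := hq.one_lt

/-- The number of solutions of `x ^ q = x`. -/
theorem card_fixed {q m : ℕ} (hq : IsPrimePow q) (hm : 0 < m) (hK : Fintype.card K = q ^ m) :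
    Nat.card {x : K // x ^ q = x} = q := by
  have hq1 : 1 < q := hq.one_lt
  have hdvd : q - 1 ∣ q ^ m - 1 := Nat.sub_one_dvd_pow_sub_one q m
  have hcardU : Nat.card Kˣ = q ^ m - 1 := by
    classical
    rw [Nat.card_eq_fintype_card, Fintype.card_units, hK]
  have h1 : Nat.card (powMonoidHom (q - 1) : Kˣ →* Kˣ).ker = q - 1 := by
    rw [IsCyclic.card_powMonoidHom_ker, hcardU]
    exact Nat.gcd_eq_right hdvd
  -- the solutions are `0` and the units in the kernel
  have e : {x : K // x ^ q = x} ≃ Option (powMonoidHom (q - 1) : Kˣ →* Kˣ).ker := by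
    classical
    refine ⟨fun x => if h : x.1 = 0 then none else some ⟨Units.mk0 x.1 h, ?_⟩,
      fun o => match o with
        | none => ⟨0, zero_pow (by omega)⟩
        | some u => ⟨(u.1 : K), ?_⟩, ?_, ?_⟩
    · rw [MonoidHom.mem_ker, powMonoidHom_apply]
      apply Units.ext
      rw [Units.val_pow_eq_pow_val, Units.val_mk0, Units.val_one]
      have hx := x.2
      have : x.1 ^ (q - 1) * x.1 = 1 * x.1 := by
        rw [← pow_succ, Nat.sub_add_cancel (by omega), hx, one_mul]
      exact mul_right_cancel₀ h this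
    · have hu := u.2
      rw [MonoidHom.mem_ker, powMonoidHom_apply] at hu
      have h2 : ((u.1 : Kˣ) : K) ^ (q - 1) = 1 := by
        rw [← Units.val_pow_eq_pow_val, hu, Units.val_one]
      calc ((u.1 : Kˣ) : K) ^ q = ((u.1 : Kˣ) : K) ^ (q - 1) * ((u.1 : Kˣ) : K) := by
            rw [← pow_succ, Nat.sub_add_cancel (by omega)]
        _ = ((u.1 : Kˣ) : K) := by rw [h2, one_mul]
    · intro x
      by_cases h : x.1 = 0
      · simp only [h, dif_pos]
        exact Subtype.ext h.symm
      · simp only [h, dif_neg, not_false_eq_true]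
        rfl
    · intro o
      rcases o with _ | u
      · simp
      · have : ((u.1 : Kˣ) : K) ≠ 0 := Units.ne_zero _
        simp only [this, dif_neg, not_false_eq_true]
        congr 1
        apply Subtype.ext
        apply Units.ext
        rfl
  rw [Nat.card_congr e, Finite.card_option, h1]
  omega

end Cfsg.Agent.Lib.Helper36_TwistF
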