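import Cfsg.Agent.Lib.Helper36_TwistU
import Cfsg.Agent.Lib.Helper36_TwistF

set_option autoImplicit false

/-!
The fixed elements of the root subgroups of a class of roots, and their transport by the elements `n_J` of the
twisted group: all of them lie in the twisted group once those of the fundamental classes do.
-/

namespace Cfsg.Agent.Lib.Helper36_TwistW

open Cfsg Cfsg.Lie Cfsg.Agent.Lib.Helper18_ChevFast Cfsg.Agent.Lib.Helper18_ChevEngine
  Cfsg.Agent.Lib.Helper18_ChevR1 Cfsg.Agent.Lib.Helper18_ChevN Cfsg.Agent.Lib.Helper18_ChevR4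
  Cfsg.Agent.Lib.Helper18_ChevSimple Cfsg.Agent.Lib.Helper18_ChevSimple2 Cfsg.Agent.Lib.Helper18_ChevFacts
  Cfsg.Agent.Lib.Helper18_ChevWeyl Cfsg.Agent.Lib.Helper18_ChevDiag Cfsg.Agent.Lib.Helper18_ChevCar
  Cfsg.Agent.Lib.Helper18_ChevTorus Cfsg.Agent.Lib.Helper18_ChevGL Cfsg.Agent.Lib.Helper18_ChevComm
  Cfsg.Agent.Lib.Helper18_ChevComm2 Cfsg.Agent.Lib.Helper18_MatTri Cfsg.Agent.Lib.Helper18_ChevTri
  Cfsg.Agent.Lib.Helper18_ChevBorel Cfsg.Agent.Lib.Helper18_ChevAdd Cfsg.Agent.Lib.Helper18_ChevUni
  Cfsg.Agent.Lib.Helper36_TwistU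

variable {D : ChevalleyDatum} {Ns : List NData} {K : Type*} [Field K]
variable {wl : List ℤ} {ws : List (List ℤ)} {sc : ℤ} {w : List ℤ}

/-! ### Products of commuting root elements -/

section

variable (c : DCert D Ns)

/-- The word over the list `S` with the parameters `a`. -/
def nf (S : List ℕ) (a : ℕ → K) : List (ℕ × K) := S.map fun r => (r, a r)

/-- The root elements of the roots of `S` commute pairwise. -/
def CommList (c : DCert D Ns) (K : Type*) [Field K] (S : List ℕ) : Prop :=
  ∀ r ∈ S, ∀ s ∈ S, r ≠ s → ∀ a b : K, Commute (xGL c r a) (xGL c s b)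

theorem CommList.tail {r : ℕ} {S : List ℕ} (h : CommList c K (r :: S)) : CommList c K S :=
  fun x hx y hy hxy => h x (List.mem_cons_of_mem _ hx) y (List.mem_cons_of_mem _ hy) hxy

theorem commute_nf {r : ℕ} {S : List ℕ} (h : CommList c K (r :: S)) (hr : r ∉ S) (x : K) (a : ℕ → K) :
    Commute (xGL c r x) (wordGL c (nf S a)) := by
  unfold wordGL nf
  apply Commute.list_prod_right
  intro g hg
  rw [List.map_map, List.mem_map] at hg
  obtain ⟨s, hs, rfl⟩ := hg
  have hne : r ≠ s := fun h' => hr (h' ▸ hs)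
  exact h r (by simp) s (List.mem_cons_of_mem _ hs) hne x (a s)

/-- The product of two words over a commuting list. -/
theorem nf_mul : ∀ (S : List ℕ), S.Nodup → CommList c K S → ∀ a b : ℕ → K,
    wordGL c (nf S a) * wordGL c (nf S b) = wordGL c (nf S fun r => a r + b r)
  | [], _, _, a, b => by simp [nf, wordGL_nil]
  | r :: S, hnd, hc, a, b => by
    rw [List.nodup_cons] at hnd
    have ih := nf_mul S hnd.2 (CommList.tail c hc) a b
    have h1 : wordGL c (nf (r :: S) a) = xGL c r (a r) * wordGL c (nf S a) := by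
      unfold nf
      rw [List.map_cons, wordGL_cons]
    have h2 : wordGL c (nf (r :: S) b) = xGL c r (b r) * wordGL c (nf S b) := by
      unfold nf
      rw [List.map_cons, wordGL_cons]
    have h3 : wordGL c (nf (r :: S) fun r => a r + b r) =
        xGL c r (a r + b r) * wordGL c (nf S fun r => a r + b r) := by
      unfold nf
      rw [List.map_cons, wordGL_cons]
    rw [h1, h2, h3, ← ih, ← xGL_mul]
    have hcm := commute_nf c hc hnd.1 (b r) a
    calc xGL c r (a r) * wordGL c (nf S a) * (xGL c r (b r) * wordGL c (nf S b))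
        = xGL c r (a r) * (wordGL c (nf S a) * xGL c r (b r)) * wordGL c (nf S b) := by group
      _ = xGL c r (a r) * (xGL c r (b r) * wordGL c (nf S a)) * wordGL c (nf S b) := by rw [hcm.eq]
      _ = xGL c r (a r) * xGL c r (b r) * (wordGL c (nf S a) * wordGL c (nf S b)) := by group

theorem nf_zero (S : List ℕ) : wordGL c (nf S fun _ => (0 : K)) = 1 := by
  unfold nf wordGL
  rw [List.map_map]
  apply List.prod_eq_one
  intro g hg
  rw [List.mem_map] at hg
  obtain ⟨r, -, rfl⟩ := hg
  exact xGL_zero c r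

/-- A single root element as a word over the list. -/
theorem nf_single : ∀ (S : List ℕ), S.Nodup → ∀ r ∈ S, ∀ t : K,
    wordGL c (nf S fun s => if s = r then t else 0) = xGL c r t
  | [], _, r, hr, _ => by simp at hr
  | s :: S, hnd, r, hr, t => by
    rw [List.nodup_cons] at hnd
    unfold nf
    rw [List.map_cons, wordGL_cons]
    by_cases hsr : s = r
    · subst hsr
      simp only [if_true]
      have : wordGL c (S.map fun x => (x, if x = s then t else 0)) = 1 := by
        have e : (S.map fun x => (x, if x = s then t else (0 : K))) = nf S fun _ => (0 : K) := by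
          unfold nf
          apply List.map_congr_left
          intro x hx
          rw [if_neg]
          rintro rfl
          exact hnd.1 hx
        rw [e, nf_zero]
      rw [this, mul_one]
    · simp only [if_neg hsr]
      rw [xGL_zero, one_mul]
      have hr' : r ∈ S := by
        rcases List.mem_cons.mp hr with h | h
        · exact absurd h.symm hsr
        · exact h
      exact nf_single S hnd.2 r hr' t

/-- The subgroup of the words over a commuting list. -/
def nfSubgroup (S : List ℕ) (hnd : S.Nodup) (hc : CommList c K S) : Subgroup (GL D.Idx K) where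
  carrier := {g | ∃ a : ℕ → K, g = wordGL c (nf S a)}
  mul_mem' := by
    rintro g h ⟨a, rfl⟩ ⟨b, rfl⟩
    exact ⟨_, nf_mul c S hnd hc a b⟩
  one_mem' := ⟨fun _ => 0, (nf_zero c S).symm⟩
  inv_mem' := by
    rintro g ⟨a, rfl⟩
    refine ⟨fun r => - a r, ?_⟩
    rw [inv_eq_iff_mul_eq_one, nf_mul c S hnd hc]
    simp only [add_neg_cancel]
    exact nf_zero c S

/-- The subgroup generated by the root subgroups of the roots of a list. -/
def XS (c : DCert D Ns) (K : Type*) [Field K] (S : List ℕ) : Subgroup (GL D.Idx K) :=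
  Subgroup.closure {g | ∃ r ∈ S, ∃ t : K, g = xGL c r t}

theorem XS_le_nf (S : List ℕ) (hnd : S.Nodup) (hc : CommList c K S) : XS c K S ≤ nfSubgroup c S hnd hc := by
  unfold XS
  rw [Subgroup.closure_le]
  rintro g ⟨r, hr, t, rfl⟩
  exact ⟨_, (nf_single c S hnd r hr t).symm⟩

theorem wordGL_mem_XS (S : List ℕ) (wd : List (ℕ × K)) (h : ∀ l ∈ wd, l.1 ∈ S) : wordGL c wd ∈ XS c K S := by
  apply wordGL_mem
  intro l hl
  exact Subgroup.subset_closure ⟨l.1, h l hl, l.2, rfl⟩

end

/-! ### Fixed elements of the root subgroups of a class -/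

section

variable (C : Certs D Ns K wl ws sc w) {σ : GL D.Idx K →* GL D.Idx K} {pi : ℕ → ℕ} {eps : ℕ → ℤ} {f : K →+* K}
  (T : Twist C.c w σ pi eps f)

include C in
theorem commList_class (p : ℕ × ℕ) (hp : ClassOK D pi p) : CommList C.c K (orbRoots pi p.2 p.1) := by
  intro r hr s hs hne a b
  exact comm_of_terms C r s (hp.pos r hr) (hp.pos s hs) hne (hp.comm r hr s hs hne) a b

theorem orbRoots_eq_map (n : ℕ) : ∀ r : ℕ, orbRoots pi n r = (List.range n).map fun m => pi^[m] r := by
  induction n with
  | zero => intro r; rfl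
  | succ n ih =>
    intro r
    rw [orbRoots, ih, List.range_succ_eq_map, List.map_cons, List.map_map]
    rfl

theorem orbWord_eq_map (n : ℕ) : ∀ q : ℕ × K,
    orbWord pi eps f n q = (List.range n).map fun m => orbEnd pi eps f m q := by
  induction n with
  | zero => intro q; rfl
  | succ n ih =>
    intro q
    rw [orbWord, ih, List.range_succ_eq_map, List.map_cons, List.map_map]
    rfl

include T in
/-- A fixed element of the root subgroups of a class is the element of the class of an admissible parameter. -/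
theorem fixed_class (p : ℕ × ℕ) (hp : ClassOK D pi p) (g : GL D.Idx K) (hg : g ∈ XS C.c K (orbRoots pi p.2 p.1))
    (hσ : σ g = g) : ∃ x : K, Closes pi eps f p x ∧ g = yS C.c pi eps f p x := by
  obtain ⟨a, rfl⟩ := XS_le_nf C.c _ hp.nodup (commList_class C p hp) hg
  have hp1 := hp.pos _ (head_mem p hp)
  have hk := ht_pos C p.1 hp1
  set g := wordGL C.c (nf (orbRoots pi p.2 p.1) a) with hgdef
  have hletters : ∀ l ∈ nf (orbRoots pi p.2 p.1) a, D.IsPosRoot l.1 ∧
      (grRoot D w p.1 ≤ grRoot D w l.1 ∨ l.2 = 0) := by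
    intro l hl
    unfold nf at hl
    rw [List.mem_map] at hl
    obtain ⟨s, hs, rfl⟩ := hl
    exact ⟨hp.pos s hs, Or.inl (by rw [ht_orb C T p hp s hs])⟩
  have hgU : g ∈ D.posUnipotent K := wordGL_mem_posUnipotent C.c _ (fun l hl => (hletters l hl).1)
  have hgT : Raises (gb D w) (grRoot D w p.1) ((g : Matrix D.Idx D.Idx K) - 1) := by
    rw [hgdef, wordGL_coe]
    exact (word_raises C.c C.tc _ hk _ hletters).1
  -- the parameters of `g` on the class
  have hpar : ∀ s ∈ orbRoots pi p.2 p.1, tOf C.c g s = a s := by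
    intro s hs
    have hsp := hp.pos s hs
    have hsk := ht_orb C T p hp s hs
    have hns := DCert.neg_lt C.c s hsp.1
    apply eq_of_entries C _ _ s hsp
    intro i
    rw [← coord C g hgU _ hk hgT s hsp hsk i hns, hgdef, wordGL_coe,
      word_entry C.c C.tc C.ac _ hk _ hletters s hsp hsk i hns]
    unfold nf
    rw [List.map_map, sum_map_single _ hp.nodup s hs _ (by
      intro r _ hrs
      simp only [Function.comp, if_neg hrs])]
    simp only [Function.comp, if_true]
  have horb := orbit_params C T g hgU hσ _ hk hgT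
  refine ⟨a p.1, ?_, ?_⟩
  · unfold Closes
    have := horb p.2 p.1 hp1 rfl
    rw [hpar p.1 (head_mem p hp)] at this
    rw [this, hp.close]
    exact hpar p.1 (head_mem p hp)
  · unfold yS
    rw [hgdef]
    congr 1
    unfold nf
    rw [orbRoots_eq_map, orbWord_eq_map, List.map_map]
    apply List.map_congr_left
    intro m hm
    rw [List.mem_range] at hm
    simp only [Function.comp]
    have h1 := horb m p.1 hp1 rfl
    rw [hpar p.1 (head_mem p hp)] at h1
    rw [h1, hpar _ (by rw [mem_orbRoots]; exact ⟨m, hm, rfl⟩)]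

end

/-! ### Transport by elements of the twisted group -/

section

variable (C : Certs D Ns K wl ws sc w) {σ : GL D.Idx K →* GL D.Idx K}

/-- The fixed elements of the root subgroups of the list `S` lie in `G1`. -/
def Good (c : DCert D Ns) (σ : GL D.Idx K →* GL D.Idx K) (G1 : Subgroup (GL D.Idx K)) (S : List ℕ) : Prop :=
  ∀ g ∈ XS c K S, σ g = g → g ∈ G1

/-- The image of a root under the reflections of the list `J` (the last one applied first). -/
def reflJ (D : ChevalleyDatum) (J : List ℕ) (s : ℕ) : ℕ := J.foldr (fun i r => D.reflectRoot i r) s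

/-- The product of the elements `n_i`, `i ∈ J`. -/
def nJ (c : DCert D Ns) (K : Type*) [Field K] (J : List ℕ) : GL D.Idx K := (J.map fun i => nGL (F := K) c i).prod

include C in
theorem reflJ_lt (J : List ℕ) (hJ : ∀ i ∈ J, i < D.rank) (s : ℕ) (hs : s < D.nroots) :
    reflJ D J s < D.nroots := by
  induction J with
  | nil => exact hs
  | cons i J ih =>
    unfold reflJ
    rw [List.foldr_cons]
    exact C.c.reflect_lt i (hJ i (by simp)) _ (ih (fun j hj => hJ j (List.mem_cons_of_mem _ hj)))

end

section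

variable (C : Certs D Ns K wl ws sc w) {σ : GL D.Idx K →* GL D.Idx K}

theorem reflJ_cons (i : ℕ) (J : List ℕ) (s : ℕ) : reflJ D (i :: J) s = D.reflectRoot i (reflJ D J s) := rfl

theorem nJ_cons (c : DCert D Ns) (i : ℕ) (J : List ℕ) : nJ c K (i :: J) = nGL c i * nJ c K J := by
  unfold nJ
  rw [List.map_cons, List.prod_cons]

include C in
/-- Conjugation of a root element by `n_J`. -/
theorem nJ_conj (J : List ℕ) (hJ : ∀ i ∈ J, i < D.rank) (s : ℕ) (hs : s < D.nroots) (t : K) :
    ∃ η : K, nJ C.c K J * xGL C.c s t * (nJ C.c K J)⁻¹ = xGL C.c (reflJ D J s) (η * t) := by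
  induction J with
  | nil =>
    refine ⟨1, ?_⟩
    simp [nJ, reflJ]
  | cons i J ih =>
    obtain ⟨η, hη⟩ := ih (fun j hj => hJ j (List.mem_cons_of_mem _ hj))
    refine ⟨((etaZ Ns i (reflJ D J s) : ℤ) : K) * η, ?_⟩
    rw [nJ_cons, reflJ_cons, mul_assoc _ η t,
      ← nGL_conj C.c i (hJ i (by simp)) _ (reflJ_lt C J (fun j hj => hJ j (List.mem_cons_of_mem _ hj)) s hs),
      ← hη]
    group

include C in
/-- Transport of the property `Good` by `n_J`. -/
theorem good_step (G1 : Subgroup (GL D.Idx K)) (hG1 : ∀ g ∈ G1, σ g = g) (S S' J : List ℕ)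
    (hJ : ∀ i ∈ J, i < D.rank) (hn : nJ C.c K J ∈ G1) (hS' : ∀ r ∈ S', r < D.nroots ∧ reflJ D J r ∈ S)
    (hgood : Good C.c σ G1 S) : Good C.c σ G1 S' := by
  intro g hg hσ
  set n := nJ C.c K J with hn'
  have h1 : XS C.c K S' ≤ (XS C.c K S).comap (MulAut.conj n).toMonoidHom := by
    unfold XS
    rw [Subgroup.closure_le]
    rintro x ⟨r, hr, t, rfl⟩
    obtain ⟨η, hη⟩ := nJ_conj C J hJ r (hS' r hr).1 t
    simp only [Subgroup.coe_comap, Set.mem_preimage, MulEquiv.coe_toMonoidHom, MulAut.conj_apply, SetLike.mem_coe]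
    rw [hη]
    exact Subgroup.subset_closure ⟨_, (hS' r hr).2, _, rfl⟩
  have h2 : n * g * n⁻¹ ∈ XS C.c K S := h1 hg
  have h3 : σ (n * g * n⁻¹) = n * g * n⁻¹ := by
    rw [map_mul, map_mul, map_inv, hG1 n hn, hσ]
  have h4 := hgood _ h2 h3
  have : g = n⁻¹ * (n * g * n⁻¹) * n := by group
  rw [this]
  exact Subgroup.mul_mem _ (Subgroup.mul_mem _ (Subgroup.inv_mem _ hn) h4) hn

/-- One step of the chain: the roots of `st.1` are mapped into one of the earlier lists by the reflections of `st.2`. -/
def stepValid (D : ChevalleyDatum) (acc : List (List ℕ)) (st : List ℕ × List ℕ) : Bool :=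
  acc.any fun S => st.1.all fun r => decide (r < D.nroots) && decide (reflJ D st.2 r ∈ S)

/-- All steps of a chain are valid. -/
def chainValid (D : ChevalleyDatum) : List (List ℕ) → List (List ℕ × List ℕ) → Bool
  | _, [] => true
  | acc, st :: rest => stepValid D acc st && chainValid D (st.1 :: acc) rest

/-- The lists reached by a chain. -/
def chainOut : List (List ℕ) → List (List ℕ × List ℕ) → List (List ℕ)
  | acc, [] => acc
  | acc, st :: rest => chainOut (st.1 :: acc) rest

include C in
theorem chain_good (G1 : Subgroup (GL D.Idx K)) (hG1 : ∀ g ∈ G1, σ g = g) (Js : List (List ℕ))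
    (hJs : ∀ J ∈ Js, (∀ i ∈ J, i < D.rank) ∧ nJ C.c K J ∈ G1) :
    ∀ (steps : List (List ℕ × List ℕ)) (acc : List (List ℕ)), (∀ st ∈ steps, st.2 ∈ Js) →
      (∀ S ∈ acc, Good C.c σ G1 S) → chainValid D acc steps = true →
      ∀ S ∈ chainOut acc steps, Good C.c σ G1 S
  | [], acc, _, hacc, _ => hacc
  | st :: rest, acc, hst, hacc, hv => by
    rw [chainValid, Bool.and_eq_true] at hv
    have h1 : Good C.c σ G1 st.1 := by
      have := hv.1
      unfold stepValid at this
      rw [List.any_eq_true] at this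
      obtain ⟨S, hS, hall⟩ := this
      rw [List.all_eq_true] at hall
      have hJ := hJs st.2 (hst st (by simp))
      apply good_step C G1 hG1 S st.1 st.2 hJ.1 hJ.2 _ (hacc S hS)
      intro r hr
      have := hall r hr
      rw [Bool.and_eq_true, decide_eq_true_eq, decide_eq_true_eq] at this
      exact this
    apply chain_good G1 hG1 Js hJs rest (st.1 :: acc) (fun s hs => hst s (List.mem_cons_of_mem _ hs)) _ hv.2
    intro S hS
    rcases List.mem_cons.mp hS with rfl | hS
    · exact h1
    · exact hacc S hS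

end

section

variable (C : Certs D Ns K wl ws sc w) {σ : GL D.Idx K →* GL D.Idx K} {pi : ℕ → ℕ} {eps : ℕ → ℤ} {f : K →+* K}
  (T : Twist C.c w σ pi eps f)

include T in
/-- The fundamental classes are good once their elements lie in the group. -/
theorem good_base (G1 : Subgroup (GL D.Idx K)) (p : ℕ × ℕ) (hp : ClassOK D pi p)
    (h : ∀ x : K, Closes pi eps f p x → yS C.c pi eps f p x ∈ G1) : Good C.c σ G1 (orbRoots pi p.2 p.1) := by
  intro g hg hσ
  obtain ⟨x, hx, rfl⟩ := fixed_class C T p hp g hg hσ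
  exact h x hx

include T in
/-- The elements of a good class lie in the group. -/
theorem yS_mem_of_good (G1 : Subgroup (GL D.Idx K)) (p : ℕ × ℕ) (hp : ClassOK D pi p)
    (h : Good C.c σ G1 (orbRoots pi p.2 p.1)) (x : K) (hx : Closes pi eps f p x) :
    yS C.c pi eps f p x ∈ G1 := by
  apply h _ _ (yS_fixed C T p hp x hx)
  unfold yS
  exact wordGL_mem_XS C.c _ _ (fun l hl => orbWord_mem_fst p.2 _ l hl)

/-- Rearranging a product of two elements `n`. -/
theorem shuffle {G : Type*} [Group G] (a b A B : G) (h1 : Commute a A) (h2 : Commute b A) (h3 : Commute a B) :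
    (a * b * a) * (A * B * A) = (a * A) * (b * B) * (a * A) := by
  calc (a * b * a) * (A * B * A) = a * b * (a * A) * B * A := by group
    _ = a * b * (A * a) * B * A := by rw [h1.eq]
    _ = a * (b * A) * (a * B) * A := by group
    _ = a * (A * b) * (B * a) * A := by rw [h2.eq, h3.eq]
    _ = (a * A) * (b * B) * (a * A) := by group

end

/-! ### Orbits of arbitrary roots, admissible parameters, and the count -/

section

variable (C : Certs D Ns K wl ws sc w) {σ : GL D.Idx K →* GL D.Idx K} {pi : ℕ → ℕ} {eps : ℕ → ℤ} {f : K →+* K}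
  (T : Twist C.c w σ pi eps f)

/-- An orbit of roots (positive or not) under `π` whose root elements commute pairwise. -/
structure OrbOK (D : ChevalleyDatum) (pi : ℕ → ℕ) (p : ℕ × ℕ) : Prop where
  lt : ∀ r ∈ orbRoots pi p.2 p.1, r < D.nroots
  nodup : (orbRoots pi p.2 p.1).Nodup
  close : pi^[p.2] p.1 = p.1
  size : 0 < p.2
  comm : ∀ r ∈ orbRoots pi p.2 p.1, ∀ s ∈ orbRoots pi p.2 p.1, r ≠ s → s ≠ D.neg r ∧ D.commTerms r s = []

include C in
theorem comm_of_terms' (r s : ℕ) (hr : r < D.nroots) (hs : s < D.nroots) (hne : r ≠ s) (hsn : s ≠ D.neg r)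
    (h : D.commTerms r s = []) (a b : K) : Commute (xGL C.c r a) (xGL C.c s b) := by
  have h2 := C.r2 r s hr hs (fun h => hne h.symm) hsn a b
  rw [commWord_eq, h] at h2
  have h3 : D.wordMat K (termWord a b []) = 1 := by
    unfold termWord ChevalleyDatum.wordMat
    simp
  rw [h3, mul_one] at h2
  unfold Commute SemiconjBy
  apply Units.ext
  rw [Units.val_mul, Units.val_mul, xGL_coe, xGL_coe]
  exact h2.symm

include T in
/-- The element of an orbit with an admissible parameter is fixed. -/
theorem orb_fixed (p : ℕ × ℕ) (hp : OrbOK D pi p) (x : K) (hx : Closes pi eps f p x) :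
    σ (yS C.c pi eps f p x) = yS C.c pi eps f p x := by
  unfold yS
  rw [sigma_word C T _ (fun l hl => hp.lt _ (orbWord_mem_fst p.2 _ l hl)), orbWord_map_step]
  obtain ⟨n, hn⟩ : ∃ n, p.2 = n + 1 := ⟨p.2 - 1, by have := hp.size; omega⟩
  have hend : orbEnd pi eps f n (stepL pi eps f (p.1, x)) = (p.1, x) := by
    have h1 : orbEnd pi eps f n (stepL pi eps f (p.1, x)) = orbEnd pi eps f p.2 (p.1, x) := by
      rw [hn, orbEnd]
    rw [h1]
    apply Prod.ext
    · rw [orbEnd_fst]
      exact hp.close
    · exact hx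
  rw [hn, orbWord_succ', hend, orbWord, wordGL_append, wordGL_cons, wordGL_cons, wordGL_nil, mul_one]
  have hnd := hp.nodup
  rw [hn, orbRoots, List.nodup_cons] at hnd
  have hhead : p.1 ∈ orbRoots pi p.2 p.1 := by
    rw [mem_orbRoots]
    exact ⟨0, hp.size, rfl⟩
  have hc : Commute (xGL C.c p.1 x) (wordGL C.c (orbWord pi eps f n (stepL pi eps f (p.1, x)))) := by
    unfold wordGL
    apply Commute.list_prod_right
    intro g hg
    rw [List.mem_map] at hg
    obtain ⟨l, hl, rfl⟩ := hg
    have hl1 := orbWord_mem_fst n _ l hl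
    have hl2 : l.1 ∈ orbRoots pi p.2 p.1 := by
      rw [hn, orbRoots]
      exact List.mem_cons_of_mem _ hl1
    have hne : p.1 ≠ l.1 := by
      intro h
      rw [← h] at hl1
      exact hnd.1 hl1
    have := hp.comm p.1 hhead l.1 hl2 hne
    exact comm_of_terms' C p.1 l.1 (hp.lt _ hhead) (hp.lt _ hl2) hne this.1 this.2 x l.2
  exact hc.eq.symm

/-- The product of the signs along an orbit. -/
def epsProd (pi : ℕ → ℕ) (eps : ℕ → ℤ) : ℕ → ℕ → ℤ
  | 0, _ => 1
  | n + 1, r => epsProd pi eps n (pi r) * eps r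

theorem iterate_intCast_mul (z : ℤ) (n : ℕ) (y : K) : f^[n] ((z : K) * y) = (z : K) * f^[n] y := by
  induction n generalizing y with
  | zero => rfl
  | succ n ih =>
    rw [Function.iterate_succ_apply, map_mul, map_intCast, ih, Function.iterate_succ_apply]

theorem orbEnd_snd (n : ℕ) : ∀ (r : ℕ) (x : K),
    (orbEnd pi eps f n (r, x)).2 = ((epsProd pi eps n r : ℤ) : K) * f^[n] x := by
  induction n with
  | zero => intro r x; simp [orbEnd, epsProd]
  | succ n ih =>
    intro r x
    rw [orbEnd]
    have : stepL pi eps f (r, x) = (pi r, ((eps r : ℤ) : K) * f x) := rfl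
    rw [this, ih, iterate_intCast_mul, epsProd, Function.iterate_succ_apply]
    push_cast
    ring

theorem closes_iff (p : ℕ × ℕ) (he : epsProd pi eps p.2 p.1 = 1) (x : K) :
    Closes pi eps f p x ↔ f^[p.2] x = x := by
  unfold Closes
  rw [orbEnd_snd, he]
  simp

theorem iterate_pow {q : ℕ} (hf : ∀ x : K, f x = x ^ q) (n : ℕ) (x : K) : f^[n] x = x ^ (q ^ n) := by
  induction n with
  | zero => simp
  | succ n ih =>
    rw [Function.iterate_succ_apply', ih, hf, ← pow_mul, pow_succ]

/-- The number of admissible parameters of an orbit with one element, or with as many elements as the order of `f`. -/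
theorem card_closes [Fintype K] {q m : ℕ} (hq : IsPrimePow q) (hm : 0 < m) (hK : Fintype.card K = q ^ m)
    (hf : ∀ x : K, f x = x ^ q) (p : ℕ × ℕ) (he : epsProd pi eps p.2 p.1 = 1) (hp2 : p.2 = 1 ∨ p.2 = m) :
    Nat.card {x : K // Closes pi eps f p x} = q ^ p.2 := by
  rcases hp2 with h1 | h1
  · rw [h1, pow_one, ← Cfsg.Agent.Lib.Helper36_TwistF.card_fixed hq hm hK]
    apply Nat.card_congr
    apply Equiv.subtypeEquivRight
    intro x
    rw [closes_iff p he, h1, Function.iterate_one, hf]
  · have : ∀ x : K, Closes pi eps f p x := by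
      intro x
      rw [closes_iff p he, h1, iterate_pow hf]
      exact Cfsg.Agent.Lib.Helper36_TwistF.pow_card' hK x
    rw [h1, ← hK, ← Nat.card_eq_fintype_card]
    apply Nat.card_congr
    exact Equiv.subtypeUnivEquiv this

include T in
/-- The intersection of `U` with the twisted group: the fixed elements of `U`, counted class by class. -/
theorem main {cls : List (ℕ × ℕ)} (hc : ClsOK D w pi cls) (G1 : Subgroup (GL D.Idx K))
    (hG1 : ∀ g ∈ G1, σ g = g) (hy : ∀ p ∈ cls, ∀ x : K, Closes pi eps f p x → yS C.c pi eps f p x ∈ G1) :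
    Nat.card ↥(D.posUnipotent K ⊓ G1) = (cls.map fun p => Nat.card {x : K // Closes pi eps f p x}).prod := by
  rw [← card_Z C T hc cls [] rfl]
  apply Nat.card_congr
  apply Equiv.subtypeEquivRight
  intro g
  constructor
  · intro hg
    exact ⟨hg.1, hG1 g hg.2, fun r hr => by simp [rootsOf] at hr⟩
  · intro hg
    exact ⟨hg.1, Z_le C T hc G1 hy cls [] rfl g hg⟩

end

/-! ### The elements `n_J` as products of elements of the orbits of the fundamental roots -/

section

variable (C : Certs D Ns K wl ws sc w)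

theorem nGL_eq (c : DCert D Ns) (i : ℕ) :
    nGL (F := K) c i = xGL c (D.simple i) 1 * xGL c (D.neg (D.simple i)) (-1) * xGL c (D.simple i) 1 := by
  unfold nGL ChevalleyDatum.nWord
  rw [wordGL_cons, wordGL_cons, wordGL_cons, wordGL_nil, mul_one, inv_one, mul_assoc]

/-- The hypothesis on two nodes of an orbit: the root elements of `±p_i` commute with those of `±p_j`. -/
def Cross (D : ChevalleyDatum) (i j : ℕ) : Prop :=
  ∀ r ∈ [D.simple i, D.neg (D.simple i)], ∀ s ∈ [D.simple j, D.neg (D.simple j)],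
    r < D.nroots ∧ s < D.nroots ∧ r ≠ s ∧ s ≠ D.neg r ∧ D.commTerms r s = []

include C in
theorem cross_comm {i j : ℕ} (h : Cross D i j) (r s : ℕ) (hr : r ∈ [D.simple i, D.neg (D.simple i)])
    (hs : s ∈ [D.simple j, D.neg (D.simple j)]) (a b : K) : Commute (xGL C.c r a) (xGL C.c s b) := by
  obtain ⟨h1, h2, h3, h4, h5⟩ := h r hr s hs
  exact comm_of_terms' C r s h1 h2 h3 h4 h5 a b

include C in
/-- `n_i n_j` for two nodes of an orbit. -/
theorem nJ_two (i j : ℕ) (h : Cross D i j) :
    nJ C.c K [i, j] = (xGL C.c (D.simple i) 1 * xGL C.c (D.simple j) 1) *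
      (xGL C.c (D.neg (D.simple i)) (-1) * xGL C.c (D.neg (D.simple j)) (-1)) *
      (xGL C.c (D.simple i) 1 * xGL C.c (D.simple j) 1) := by
  unfold nJ
  rw [List.map_cons, List.map_cons, List.map_nil, List.prod_cons, List.prod_cons, List.prod_nil, mul_one,
    nGL_eq, nGL_eq]
  exact shuffle _ _ _ _ (cross_comm C h _ _ (by simp) (by simp) 1 1)
    (cross_comm C h _ _ (by simp) (by simp) (-1) 1) (cross_comm C h _ _ (by simp) (by simp) 1 (-1))

include C in
/-- `n_i n_j n_k` for three nodes of an orbit. -/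
theorem nJ_three (i j k : ℕ) (hij : Cross D i j) (hik : Cross D i k) (hjk : Cross D j k) :
    nJ C.c K [i, j, k] =
      (xGL C.c (D.simple i) 1 * (xGL C.c (D.simple j) 1 * xGL C.c (D.simple k) 1)) *
      (xGL C.c (D.neg (D.simple i)) (-1) *
        (xGL C.c (D.neg (D.simple j)) (-1) * xGL C.c (D.neg (D.simple k)) (-1))) *
      (xGL C.c (D.simple i) 1 * (xGL C.c (D.simple j) 1 * xGL C.c (D.simple k) 1)) := by
  have h2 := nJ_two C j k hjk
  unfold nJ at h2 ⊢
  rw [List.map_cons, List.prod_cons, h2, nGL_eq]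
  apply shuffle
  · exact (cross_comm C hij _ _ (by simp) (by simp) 1 1).mul_right
      (cross_comm C hik _ _ (by simp) (by simp) 1 1)
  · exact (cross_comm C hij _ _ (by simp) (by simp) (-1) 1).mul_right
      (cross_comm C hik _ _ (by simp) (by simp) (-1) 1)
  · exact (cross_comm C hij _ _ (by simp) (by simp) 1 (-1)).mul_right
      (cross_comm C hik _ _ (by simp) (by simp) 1 (-1))

theorem nJ_one (c : DCert D Ns) (i : ℕ) :
    nJ c K [i] = xGL c (D.simple i) 1 * xGL c (D.neg (D.simple i)) (-1) * xGL c (D.simple i) 1 := by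
  unfold nJ
  rw [List.map_cons, List.map_nil, List.prod_cons, List.prod_nil, mul_one, nGL_eq]

end

end Cfsg.Agent.Lib.Helper36_TwistW
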