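import Cfsg.Agent.Lib.Helper36_TwistWeylF4
import Cfsg.Agent.Lib.Helper36_ChevDataF4LitOK
import Cfsg.Agent.Lib.Helper36_ChevOrderAll
import Cfsg.Agent.Lib.Helper36_TwistW
import Cfsg.Agent.Lib.Helper18_ChevDatumF4
import Cfsg.Agent.Lib.Helper18_ChevTCertF4
import Cfsg.Agent.Lib.Helper18_ChevACerts
import Cfsg.Agent.Lib.Helper18_ChevGCertF4
import Cfsg.Agent.Lib.Helper18_ChevPCertF4
import Cfsg.Agent.Lib.Helper18_ChevComm2
import Cfsg.Prelude.Def_LieTwisted

set_option autoImplicit false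

/-!
The set-up for the twisted groups of type `²F₄`: the certificates of the Chevalley group of type `F₄` and the facts on
its subgroups, under fixed names.
-/

namespace Cfsg.Agent.Lib.Helper36_F4Setup

open Cfsg Cfsg.Lie Cfsg.Agent.Lib.Helper18_ChevFast Cfsg.Agent.Lib.Helper18_ChevEngine
  Cfsg.Agent.Lib.Helper18_ChevN Cfsg.Agent.Lib.Helper18_ChevWeyl
  Cfsg.Agent.Lib.Helper18_ChevGL Cfsg.Agent.Lib.Helper18_ChevTri
  Cfsg.Agent.Lib.Helper18_ChevAdd Cfsg.Agent.Lib.Helper18_ChevUni Cfsg.Agent.Lib.Helper18_ChevComm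
  Cfsg.Agent.Lib.Helper36_TwistU Cfsg.Agent.Lib.Helper36_TwistW
  Cfsg.Agent.Lib.Helper36_ChevTorus Cfsg.Agent.Lib.Helper36_ChevTorusAll
  Cfsg.Agent.Lib.Helper36_ChevW0 Cfsg.Agent.Lib.Helper36_ChevW0All Cfsg.Agent.Lib.Helper36_ChevTables
  Cfsg.Agent.Lib.Helper36_ChevOrder Cfsg.Agent.Lib.Helper36_ChevOrderAll Cfsg.Agent.Lib.Helper36_WeylChain
  Cfsg.Agent.Lib.Helper36_WeylLit Cfsg.Agent.Lib.Helper36_WeylLit.RootLit
  Cfsg.Agent.Lib.Helper36_ChevDataF4Lit Cfsg.Agent.Lib.Helper36_ChevDataF4LitOK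
  Cfsg.Agent.Lib.Helper36_ChevBorel

theorem hD : chevF4 ∈ [chevG2, chevB2, chevD4, chevF4, chevE6, chevE7, chevE8] := by simp

/-- The list of the elements `n_i` of the certificate. -/
abbrev Ns : List NData := Cfsg.Agent.Lib.Helper18_ChevDatumF4.Ns

/-- The certificate of the datum. -/
abbrev dc : DCert chevF4 Ns := Cfsg.Agent.Lib.Helper18_ChevDatumF4.dcert

/-- The weights of the grading. -/
abbrev gw : List ℤ := Cfsg.Agent.Lib.Helper18_ChevGCertF4.w

section

variable (K : Type*) [Field K]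

theorem certs : Certs chevF4 Ns K Cfsg.Agent.Lib.Helper18_ChevACerts.wlF4 Cfsg.Agent.Lib.Helper18_ChevACerts.wsF4 1 gw where
  c := dc
  tc := Cfsg.Agent.Lib.Helper18_ChevTCertF4.tcert
  ac := Cfsg.Agent.Lib.Helper18_ChevACerts.acertF4
  gc := Cfsg.Agent.Lib.Helper18_ChevGCertF4.gcert
  r2 := Cfsg.Agent.Lib.Helper18_ChevComm2.r2_all dc Cfsg.Agent.Lib.Helper18_ChevPCertF4.pcert

/-- The facts on the ambient group. -/
theorem hfK : Facts chevF4 K := facts_of_mem chevF4 hD K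

theorem hx1 : XOne chevF4 K := fun r hr a h => (Cfsg.Agent.S1024.result chevF4 hD r hr a).mp h

theorem hUV : chevF4.borelSubgroup K ⊓ chevF4.negUnipotent K = ⊥ := (Cfsg.Agent.S1037.result chevF4 hD).1

theorem hNU : Subgroup.normalizer (chevF4.posUnipotent K : Set (GL chevF4.Idx K)) ⊓ chevF4.group K =
    chevF4.borelSubgroup K := normalizer_pos chevF4 hD noZero

theorem hBN : chevF4.borelSubgroup K ⊓ chevF4.monomialSubgroup K = chevF4.diagonalSubgroup K :=
  (Cfsg.Agent.S1040.result chevF4 hD).2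

theorem hE : BruhatE chevF4 K := (Cfsg.Agent.S1100.result (F := K) chevF4 hD).1

theorem hU : BruhatU chevF4 K := (Cfsg.Agent.S1100.result (F := K) chevF4 hD).2

theorem hnorm : chevF4.diagonalSubgroup K ≤ Subgroup.normalizer (chevF4.posUnipotent K : Set (GL chevF4.Idx K)) :=
  (Cfsg.Agent.S1036.result (F := K) chevF4 hD).1

theorem hUH : chevF4.posUnipotent K ⊓ chevF4.diagonalSubgroup K = ⊥ :=
  (Cfsg.Agent.S1036.result (F := K) chevF4 hD).2

theorem hord : OrdUnique chevF4 K := (Cfsg.Agent.S1026.result chevF4 hD).1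

theorem hUcard [Fintype K] : Nat.card (chevF4.posUnipotent K) = Fintype.card K ^ (chevF4.nroots / 2) :=
  Cfsg.Agent.S1027.result chevF4 hD

theorem hchain : ChainOK chevF4 := chainOK_of_mem chevF4 hD

theorem hc : AllConj chevF4 K := allConj_of_mem chevF4 hD K

theorem hN : NGen chevF4 K := nGen_of_mem chevF4 hD

theorem hx : XInj chevF4 K := xInj_of_mem chevF4 hD

end

end Cfsg.Agent.Lib.Helper36_F4Setup
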