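import Mathlib
import Cfsg.Agent.Lib.Helper36_F4Setup

/-!
# Collection rules for the positive root elements of `F₄(K)` in characteristic two (helper18, for S2184)

`X r t = xGL dc r t` for the roots `24, …, 47` (the positive roots of `chevF4`).  The positive roots are ordered by the list
`LF4 = [33, 24, 27, 25, 28, 30, 34, 26, 36, 42, 37, 32, 38, 43, 35, 31, 40, 46, 29, 41, 44, 47, 39, 45]` of
`Helper18_TwistF4C`.  For `r` before `s` in this list the rule `sw_s_r` moves `X r t` to the left of `X s u` (with the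
commutator terms from the tables of `chevF4`, reduced modulo two), `sw_s_r'` is the same rule inside a right-associated
product.  Generated by `tmp18/f4/genswap.py`.
-/

set_option autoImplicit false

namespace Cfsg.Agent.Lib.Helper18_TF4Swap

open Cfsg Cfsg.Lie Cfsg.Agent.Lib.Helper18_ChevFast Cfsg.Agent.Lib.Helper18_ChevEngine
  Cfsg.Agent.Lib.Helper18_ChevN Cfsg.Agent.Lib.Helper18_ChevWeyl
  Cfsg.Agent.Lib.Helper18_ChevGL Cfsg.Agent.Lib.Helper18_ChevTri
  Cfsg.Agent.Lib.Helper18_ChevAdd Cfsg.Agent.Lib.Helper18_ChevUni Cfsg.Agent.Lib.Helper18_ChevComm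
  Cfsg.Agent.Lib.Helper36_TwistU Cfsg.Agent.Lib.Helper36_F4Setup

variable {K : Type*} [Field K]

/-- The root element `x_r(t)` of `F₄(K)`. -/
abbrev X (r : ℕ) (t : K) : GL chevF4.Idx K := xGL dc r t

theorem X_add (r : ℕ) (t u : K) : X r t * X r u = X r (t + u) := xGL_mul dc r t u

theorem X_add' (r : ℕ) (t u : K) (g : GL chevF4.Idx K) : X r t * (X r u * g) = X r (t + u) * g := by
  rw [← mul_assoc, X_add]

theorem X_zero (r : ℕ) : X r (0 : K) = 1 := xGL_zero dc r

theorem X_zero' (r : ℕ) (g : GL chevF4.Idx K) : X r (0 : K) * g = g := by rw [X_zero, one_mul]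

theorem X_inv (r : ℕ) (t : K) : (X r t)⁻¹ = X r (-t) := xGL_inv dc r t

theorem X_inv2 [CharP K 2] (r : ℕ) (t : K) : (X r t)⁻¹ = X r t := by rw [X_inv, CharTwo.neg_eq]

/-- The generic swap rule. -/
theorem swapL (r s : ℕ) (L : List (ℕ × ℤ × ℕ × ℕ)) (hr : r < chevF4.nroots) (hs : s < chevF4.nroots) (hne : s ≠ r)
    (hneg : s ≠ chevF4.neg r) (h : chevF4.commTerms r s = L) (t u : K) :
    X s u * X r t = X r t * (X s u * wordGL dc (termWord t u L)) := by
  have h1 := conj_of_R2 dc ((certs K).r2 r s hr hs hne hneg) t u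
  rw [commWord_eq, h] at h1
  rw [← h1]
  group

section

variable [CharP K 2]

theorem cast_one' : (((1 : ℤ) : K)) = 1 := by push_cast; rfl
theorem cast_neg_one' : (((-1 : ℤ) : K)) = 1 := by push_cast; exact CharTwo.neg_eq 1
theorem cast_two' : (((2 : ℤ) : K)) = 0 := by push_cast; exact CharTwo.two_eq_zero
theorem cast_neg_two' : (((-2 : ℤ) : K)) = 0 := by push_cast; rw [CharTwo.neg_eq]; exact CharTwo.two_eq_zero

/-- no commutator term -/
theorem swap0 (r s : ℕ) (hr : r < chevF4.nroots) (hs : s < chevF4.nroots) (hne : s ≠ r)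
    (hneg : s ≠ chevF4.neg r) (h : chevF4.commTerms r s = []) (t u : K) :
    X s u * X r t = X r t * X s u := by
  have h1 := swapL (K := K) r s [] hr hs hne hneg h t u
  rw [h1]
  simp [termWord, wordGL_nil]

/-- one commutator term, even coefficient -/
theorem swap0e (r s c : ℕ) (C : ℤ) (i j : ℕ) (hC : ((C : ℤ) : K) = 0) (hr : r < chevF4.nroots) (hs : s < chevF4.nroots)
    (hne : s ≠ r) (hneg : s ≠ chevF4.neg r) (h : chevF4.commTerms r s = [(c, C, i, j)]) (t u : K) :
    X s u * X r t = X r t * X s u := by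
  have h1 := swapL (K := K) r s _ hr hs hne hneg h t u
  rw [h1]
  simp [termWord, wordGL_cons, wordGL_nil, hC, xGL_zero]

/-- one commutator term, odd coefficient -/
theorem swap1 (r s c : ℕ) (C : ℤ) (i j : ℕ) (hC : ((C : ℤ) : K) = 1) (hr : r < chevF4.nroots) (hs : s < chevF4.nroots)
    (hne : s ≠ r) (hneg : s ≠ chevF4.neg r) (h : chevF4.commTerms r s = [(c, C, i, j)]) (t u : K) :
    X s u * X r t = X r t * (X s u * X c (t ^ i * u ^ j)) := by
  have h1 := swapL (K := K) r s _ hr hs hne hneg h t u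
  rw [h1]
  simp [termWord, wordGL_cons, wordGL_nil, hC, CharTwo.neg_eq]

/-- two commutator terms, odd coefficients -/
theorem swap2 (r s c c' : ℕ) (C C' : ℤ) (i j i' j' : ℕ) (hC : ((C : ℤ) : K) = 1) (hC' : ((C' : ℤ) : K) = 1)
    (hr : r < chevF4.nroots) (hs : s < chevF4.nroots)
    (hne : s ≠ r) (hneg : s ≠ chevF4.neg r) (h : chevF4.commTerms r s = [(c, C, i, j), (c', C', i', j')]) (t u : K) :
    X s u * X r t = X r t * (X s u * (X c (t ^ i * u ^ j) * X c' (t ^ i' * u ^ j'))) := by
  have h1 := swapL (K := K) r s _ hr hs hne hneg h t u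
  rw [h1]
  simp [termWord, wordGL_cons, wordGL_nil, hC, hC', CharTwo.neg_eq]


theorem sw_24_33 (t u : K) : X 24 u * X 33 t = X 33 t * X 24 u :=
  swap0 (K := K) 33 24 (by decide) (by decide) (by decide) (by decide) (by decide +kernel) t u

theorem sw_24_33' (t u : K) (g : GL chevF4.Idx K) : X 24 u * (X 33 t * g) = X 33 t * (X 24 u * g) := by
  rw [← mul_assoc, sw_24_33, mul_assoc]

theorem sw_27_33 (t u : K) : X 27 u * X 33 t = X 33 t * (X 27 u * X 34 (t * u)) := by
  have h := swap1 (K := K) 33 27 34 (-1) 1 1 cast_neg_one' (by decide) (by decide) (by decide) (by decide) (by decide +kernel) t u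
  simpa only [pow_one] using h

theorem sw_27_33' (t u : K) (g : GL chevF4.Idx K) : X 27 u * (X 33 t * g) = X 33 t * (X 27 u * (X 34 (t * u) * g)) := by
  rw [← mul_assoc, sw_27_33, mul_assoc, mul_assoc]

theorem sw_25_33 (t u : K) : X 25 u * X 33 t = X 33 t * X 25 u :=
  swap0 (K := K) 33 25 (by decide) (by decide) (by decide) (by decide) (by decide +kernel) t u

theorem sw_25_33' (t u : K) (g : GL chevF4.Idx K) : X 25 u * (X 33 t * g) = X 33 t * (X 25 u * g) := by
  rw [← mul_assoc, sw_25_33, mul_assoc]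

theorem sw_28_33 (t u : K) : X 28 u * X 33 t = X 33 t * (X 28 u * X 35 (t * u)) := by
  have h := swap1 (K := K) 33 28 35 (-1) 1 1 cast_neg_one' (by decide) (by decide) (by decide) (by decide) (by decide +kernel) t u
  simpa only [pow_one] using h

theorem sw_28_33' (t u : K) (g : GL chevF4.Idx K) : X 28 u * (X 33 t * g) = X 33 t * (X 28 u * (X 35 (t * u) * g)) := by
  rw [← mul_assoc, sw_28_33, mul_assoc, mul_assoc]

theorem sw_30_33 (t u : K) : X 30 u * X 33 t = X 33 t * (X 30 u * (X 37 (t * u) * X 41 (t ^ 2 * u))) := by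
  have h := swap2 (K := K) 33 30 37 41 (-1) (-1) 1 1 2 1 cast_neg_one' cast_neg_one' (by decide) (by decide) (by decide) (by decide) (by decide +kernel) t u
  simpa only [pow_one] using h

theorem sw_30_33' (t u : K) (g : GL chevF4.Idx K) : X 30 u * (X 33 t * g) = X 33 t * (X 30 u * (X 37 (t * u) * (X 41 (t ^ 2 * u) * g))) := by
  rw [← mul_assoc, sw_30_33, mul_assoc, mul_assoc, mul_assoc]

theorem sw_34_33 (t u : K) : X 34 u * X 33 t = X 33 t * X 34 u :=
  swap0 (K := K) 33 34 (by decide) (by decide) (by decide) (by decide) (by decide +kernel) t u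

theorem sw_34_33' (t u : K) (g : GL chevF4.Idx K) : X 34 u * (X 33 t * g) = X 33 t * (X 34 u * g) := by
  rw [← mul_assoc, sw_34_33, mul_assoc]

theorem sw_26_33 (t u : K) : X 26 u * X 33 t = X 33 t * X 26 u :=
  swap0 (K := K) 33 26 (by decide) (by decide) (by decide) (by decide) (by decide +kernel) t u

theorem sw_26_33' (t u : K) (g : GL chevF4.Idx K) : X 26 u * (X 33 t * g) = X 33 t * (X 26 u * g) := by
  rw [← mul_assoc, sw_26_33, mul_assoc]

theorem sw_36_33 (t u : K) : X 36 u * X 33 t = X 33 t * X 36 u :=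
  swap0 (K := K) 33 36 (by decide) (by decide) (by decide) (by decide) (by decide +kernel) t u

theorem sw_36_33' (t u : K) (g : GL chevF4.Idx K) : X 36 u * (X 33 t * g) = X 33 t * (X 36 u * g) := by
  rw [← mul_assoc, sw_36_33, mul_assoc]

theorem sw_42_33 (t u : K) : X 42 u * X 33 t = X 33 t * X 42 u :=
  swap0 (K := K) 33 42 (by decide) (by decide) (by decide) (by decide) (by decide +kernel) t u

theorem sw_42_33' (t u : K) (g : GL chevF4.Idx K) : X 42 u * (X 33 t * g) = X 33 t * (X 42 u * g) := by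
  rw [← mul_assoc, sw_42_33, mul_assoc]

theorem sw_37_33 (t u : K) : X 37 u * X 33 t = X 33 t * X 37 u :=
  swap0e (K := K) 33 37 41 (2) 1 1 cast_two' (by decide) (by decide) (by decide) (by decide) (by decide +kernel) t u

theorem sw_37_33' (t u : K) (g : GL chevF4.Idx K) : X 37 u * (X 33 t * g) = X 33 t * (X 37 u * g) := by
  rw [← mul_assoc, sw_37_33, mul_assoc]

theorem sw_32_33 (t u : K) : X 32 u * X 33 t = X 33 t * (X 32 u * (X 39 (t * u) * X 43 (t ^ 2 * u))) := by
  have h := swap2 (K := K) 33 32 39 43 (-1) (-1) 1 1 2 1 cast_neg_one' cast_neg_one' (by decide) (by decide) (by decide) (by decide) (by decide +kernel) t u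
  simpa only [pow_one] using h

theorem sw_32_33' (t u : K) (g : GL chevF4.Idx K) : X 32 u * (X 33 t * g) = X 33 t * (X 32 u * (X 39 (t * u) * (X 43 (t ^ 2 * u) * g))) := by
  rw [← mul_assoc, sw_32_33, mul_assoc, mul_assoc, mul_assoc]

theorem sw_38_33 (t u : K) : X 38 u * X 33 t = X 33 t * X 38 u :=
  swap0e (K := K) 33 38 42 (2) 1 1 cast_two' (by decide) (by decide) (by decide) (by decide) (by decide +kernel) t u

theorem sw_38_33' (t u : K) (g : GL chevF4.Idx K) : X 38 u * (X 33 t * g) = X 33 t * (X 38 u * g) := by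
  rw [← mul_assoc, sw_38_33, mul_assoc]

theorem sw_43_33 (t u : K) : X 43 u * X 33 t = X 33 t * X 43 u :=
  swap0 (K := K) 33 43 (by decide) (by decide) (by decide) (by decide) (by decide +kernel) t u

theorem sw_43_33' (t u : K) (g : GL chevF4.Idx K) : X 43 u * (X 33 t * g) = X 33 t * (X 43 u * g) := by
  rw [← mul_assoc, sw_43_33, mul_assoc]

theorem sw_35_33 (t u : K) : X 35 u * X 33 t = X 33 t * X 35 u :=
  swap0 (K := K) 33 35 (by decide) (by decide) (by decide) (by decide) (by decide +kernel) t u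

theorem sw_35_33' (t u : K) (g : GL chevF4.Idx K) : X 35 u * (X 33 t * g) = X 33 t * (X 35 u * g) := by
  rw [← mul_assoc, sw_35_33, mul_assoc]

theorem sw_31_33 (t u : K) : X 31 u * X 33 t = X 33 t * (X 31 u * (X 38 (t * u) * X 42 (t ^ 2 * u))) := by
  have h := swap2 (K := K) 33 31 38 42 (-1) (-1) 1 1 2 1 cast_neg_one' cast_neg_one' (by decide) (by decide) (by decide) (by decide) (by decide +kernel) t u
  simpa only [pow_one] using h

theorem sw_31_33' (t u : K) (g : GL chevF4.Idx K) : X 31 u * (X 33 t * g) = X 33 t * (X 31 u * (X 38 (t * u) * (X 42 (t ^ 2 * u) * g))) := by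
  rw [← mul_assoc, sw_31_33, mul_assoc, mul_assoc, mul_assoc]

theorem sw_40_33 (t u : K) : X 40 u * X 33 t = X 33 t * (X 40 u * X 44 (t * u)) := by
  have h := swap1 (K := K) 33 40 44 (1) 1 1 cast_one' (by decide) (by decide) (by decide) (by decide) (by decide +kernel) t u
  simpa only [pow_one] using h

theorem sw_40_33' (t u : K) (g : GL chevF4.Idx K) : X 40 u * (X 33 t * g) = X 33 t * (X 40 u * (X 44 (t * u) * g)) := by
  rw [← mul_assoc, sw_40_33, mul_assoc, mul_assoc]

theorem sw_46_33 (t u : K) : X 46 u * X 33 t = X 33 t * X 46 u :=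
  swap0 (K := K) 33 46 (by decide) (by decide) (by decide) (by decide) (by decide +kernel) t u

theorem sw_46_33' (t u : K) (g : GL chevF4.Idx K) : X 46 u * (X 33 t * g) = X 33 t * (X 46 u * g) := by
  rw [← mul_assoc, sw_46_33, mul_assoc]

theorem sw_29_33 (t u : K) : X 29 u * X 33 t = X 33 t * (X 29 u * X 36 (t * u)) := by
  have h := swap1 (K := K) 33 29 36 (-1) 1 1 cast_neg_one' (by decide) (by decide) (by decide) (by decide) (by decide +kernel) t u
  simpa only [pow_one] using h

theorem sw_29_33' (t u : K) (g : GL chevF4.Idx K) : X 29 u * (X 33 t * g) = X 33 t * (X 29 u * (X 36 (t * u) * g)) := by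
  rw [← mul_assoc, sw_29_33, mul_assoc, mul_assoc]

theorem sw_41_33 (t u : K) : X 41 u * X 33 t = X 33 t * X 41 u :=
  swap0 (K := K) 33 41 (by decide) (by decide) (by decide) (by decide) (by decide +kernel) t u

theorem sw_41_33' (t u : K) (g : GL chevF4.Idx K) : X 41 u * (X 33 t * g) = X 33 t * (X 41 u * g) := by
  rw [← mul_assoc, sw_41_33, mul_assoc]

theorem sw_44_33 (t u : K) : X 44 u * X 33 t = X 33 t * X 44 u :=
  swap0 (K := K) 33 44 (by decide) (by decide) (by decide) (by decide) (by decide +kernel) t u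

theorem sw_44_33' (t u : K) (g : GL chevF4.Idx K) : X 44 u * (X 33 t * g) = X 33 t * (X 44 u * g) := by
  rw [← mul_assoc, sw_44_33, mul_assoc]

theorem sw_47_33 (t u : K) : X 47 u * X 33 t = X 33 t * X 47 u :=
  swap0 (K := K) 33 47 (by decide) (by decide) (by decide) (by decide) (by decide +kernel) t u

theorem sw_47_33' (t u : K) (g : GL chevF4.Idx K) : X 47 u * (X 33 t * g) = X 33 t * (X 47 u * g) := by
  rw [← mul_assoc, sw_47_33, mul_assoc]

theorem sw_39_33 (t u : K) : X 39 u * X 33 t = X 33 t * X 39 u :=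
  swap0e (K := K) 33 39 43 (2) 1 1 cast_two' (by decide) (by decide) (by decide) (by decide) (by decide +kernel) t u

theorem sw_39_33' (t u : K) (g : GL chevF4.Idx K) : X 39 u * (X 33 t * g) = X 33 t * (X 39 u * g) := by
  rw [← mul_assoc, sw_39_33, mul_assoc]

theorem sw_45_33 (t u : K) : X 45 u * X 33 t = X 33 t * X 45 u :=
  swap0 (K := K) 33 45 (by decide) (by decide) (by decide) (by decide) (by decide +kernel) t u

theorem sw_45_33' (t u : K) (g : GL chevF4.Idx K) : X 45 u * (X 33 t * g) = X 33 t * (X 45 u * g) := by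
  rw [← mul_assoc, sw_45_33, mul_assoc]

theorem sw_27_24 (t u : K) : X 27 u * X 24 t = X 24 t * X 27 u :=
  swap0 (K := K) 24 27 (by decide) (by decide) (by decide) (by decide) (by decide +kernel) t u

theorem sw_27_24' (t u : K) (g : GL chevF4.Idx K) : X 27 u * (X 24 t * g) = X 24 t * (X 27 u * g) := by
  rw [← mul_assoc, sw_27_24, mul_assoc]

theorem sw_25_24 (t u : K) : X 25 u * X 24 t = X 24 t * (X 25 u * X 26 (t * u)) := by
  have h := swap1 (K := K) 24 25 26 (1) 1 1 cast_one' (by decide) (by decide) (by decide) (by decide) (by decide +kernel) t u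
  simpa only [pow_one] using h

theorem sw_25_24' (t u : K) (g : GL chevF4.Idx K) : X 25 u * (X 24 t * g) = X 24 t * (X 25 u * (X 26 (t * u) * g)) := by
  rw [← mul_assoc, sw_25_24, mul_assoc, mul_assoc]

theorem sw_28_24 (t u : K) : X 28 u * X 24 t = X 24 t * (X 28 u * (X 29 (t * u) * X 32 (t * u ^ 2))) := by
  have h := swap2 (K := K) 24 28 29 32 (1) (-1) 1 1 1 2 cast_one' cast_neg_one' (by decide) (by decide) (by decide) (by decide) (by decide +kernel) t u
  simpa only [pow_one] using h

theorem sw_28_24' (t u : K) (g : GL chevF4.Idx K) : X 28 u * (X 24 t * g) = X 24 t * (X 28 u * (X 29 (t * u) * (X 32 (t * u ^ 2) * g))) := by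
  rw [← mul_assoc, sw_28_24, mul_assoc, mul_assoc, mul_assoc]

theorem sw_30_24 (t u : K) : X 30 u * X 24 t = X 24 t * (X 30 u * X 31 (t * u)) := by
  have h := swap1 (K := K) 24 30 31 (1) 1 1 cast_one' (by decide) (by decide) (by decide) (by decide) (by decide +kernel) t u
  simpa only [pow_one] using h

theorem sw_30_24' (t u : K) (g : GL chevF4.Idx K) : X 30 u * (X 24 t * g) = X 24 t * (X 30 u * (X 31 (t * u) * g)) := by
  rw [← mul_assoc, sw_30_24, mul_assoc, mul_assoc]

theorem sw_34_24 (t u : K) : X 34 u * X 24 t = X 24 t * X 34 u :=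
  swap0 (K := K) 24 34 (by decide) (by decide) (by decide) (by decide) (by decide +kernel) t u

theorem sw_34_24' (t u : K) (g : GL chevF4.Idx K) : X 34 u * (X 24 t * g) = X 24 t * (X 34 u * g) := by
  rw [← mul_assoc, sw_34_24, mul_assoc]

theorem sw_26_24 (t u : K) : X 26 u * X 24 t = X 24 t * X 26 u :=
  swap0 (K := K) 24 26 (by decide) (by decide) (by decide) (by decide) (by decide +kernel) t u

theorem sw_26_24' (t u : K) (g : GL chevF4.Idx K) : X 26 u * (X 24 t * g) = X 24 t * (X 26 u * g) := by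
  rw [← mul_assoc, sw_26_24, mul_assoc]

theorem sw_36_24 (t u : K) : X 36 u * X 24 t = X 24 t * X 36 u :=
  swap0 (K := K) 24 36 (by decide) (by decide) (by decide) (by decide) (by decide +kernel) t u

theorem sw_36_24' (t u : K) (g : GL chevF4.Idx K) : X 36 u * (X 24 t * g) = X 24 t * (X 36 u * g) := by
  rw [← mul_assoc, sw_36_24, mul_assoc]

theorem sw_42_24 (t u : K) : X 42 u * X 24 t = X 24 t * X 42 u :=
  swap0 (K := K) 24 42 (by decide) (by decide) (by decide) (by decide) (by decide +kernel) t u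

theorem sw_42_24' (t u : K) (g : GL chevF4.Idx K) : X 42 u * (X 24 t * g) = X 24 t * (X 42 u * g) := by
  rw [← mul_assoc, sw_42_24, mul_assoc]

theorem sw_37_24 (t u : K) : X 37 u * X 24 t = X 24 t * (X 37 u * (X 38 (t * u) * X 45 (t * u ^ 2))) := by
  have h := swap2 (K := K) 24 37 38 45 (1) (1) 1 1 1 2 cast_one' cast_one' (by decide) (by decide) (by decide) (by decide) (by decide +kernel) t u
  simpa only [pow_one] using h

theorem sw_37_24' (t u : K) (g : GL chevF4.Idx K) : X 37 u * (X 24 t * g) = X 24 t * (X 37 u * (X 38 (t * u) * (X 45 (t * u ^ 2) * g))) := by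
  rw [← mul_assoc, sw_37_24, mul_assoc, mul_assoc, mul_assoc]

theorem sw_32_24 (t u : K) : X 32 u * X 24 t = X 24 t * X 32 u :=
  swap0 (K := K) 24 32 (by decide) (by decide) (by decide) (by decide) (by decide +kernel) t u

theorem sw_32_24' (t u : K) (g : GL chevF4.Idx K) : X 32 u * (X 24 t * g) = X 24 t * (X 32 u * g) := by
  rw [← mul_assoc, sw_32_24, mul_assoc]

theorem sw_38_24 (t u : K) : X 38 u * X 24 t = X 24 t * X 38 u :=
  swap0 (K := K) 24 38 (by decide) (by decide) (by decide) (by decide) (by decide +kernel) t u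

theorem sw_38_24' (t u : K) (g : GL chevF4.Idx K) : X 38 u * (X 24 t * g) = X 24 t * (X 38 u * g) := by
  rw [← mul_assoc, sw_38_24, mul_assoc]

theorem sw_43_24 (t u : K) : X 43 u * X 24 t = X 24 t * X 43 u :=
  swap0 (K := K) 24 43 (by decide) (by decide) (by decide) (by decide) (by decide +kernel) t u

theorem sw_43_24' (t u : K) (g : GL chevF4.Idx K) : X 43 u * (X 24 t * g) = X 24 t * (X 43 u * g) := by
  rw [← mul_assoc, sw_43_24, mul_assoc]

theorem sw_35_24 (t u : K) : X 35 u * X 24 t = X 24 t * (X 35 u * (X 36 (t * u) * X 43 (t * u ^ 2))) := by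
  have h := swap2 (K := K) 24 35 36 43 (1) (1) 1 1 1 2 cast_one' cast_one' (by decide) (by decide) (by decide) (by decide) (by decide +kernel) t u
  simpa only [pow_one] using h

theorem sw_35_24' (t u : K) (g : GL chevF4.Idx K) : X 35 u * (X 24 t * g) = X 24 t * (X 35 u * (X 36 (t * u) * (X 43 (t * u ^ 2) * g))) := by
  rw [← mul_assoc, sw_35_24, mul_assoc, mul_assoc, mul_assoc]

theorem sw_31_24 (t u : K) : X 31 u * X 24 t = X 24 t * X 31 u :=
  swap0 (K := K) 24 31 (by decide) (by decide) (by decide) (by decide) (by decide +kernel) t u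

theorem sw_31_24' (t u : K) (g : GL chevF4.Idx K) : X 31 u * (X 24 t * g) = X 24 t * (X 31 u * g) := by
  rw [← mul_assoc, sw_31_24, mul_assoc]

theorem sw_40_24 (t u : K) : X 40 u * X 24 t = X 24 t * X 40 u :=
  swap0 (K := K) 24 40 (by decide) (by decide) (by decide) (by decide) (by decide +kernel) t u

theorem sw_40_24' (t u : K) (g : GL chevF4.Idx K) : X 40 u * (X 24 t * g) = X 24 t * (X 40 u * g) := by
  rw [← mul_assoc, sw_40_24, mul_assoc]

theorem sw_46_24 (t u : K) : X 46 u * X 24 t = X 24 t * (X 46 u * X 47 (t * u)) := by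
  have h := swap1 (K := K) 24 46 47 (1) 1 1 cast_one' (by decide) (by decide) (by decide) (by decide) (by decide +kernel) t u
  simpa only [pow_one] using h

theorem sw_46_24' (t u : K) (g : GL chevF4.Idx K) : X 46 u * (X 24 t * g) = X 24 t * (X 46 u * (X 47 (t * u) * g)) := by
  rw [← mul_assoc, sw_46_24, mul_assoc, mul_assoc]

theorem sw_29_24 (t u : K) : X 29 u * X 24 t = X 24 t * X 29 u :=
  swap0 (K := K) 24 29 (by decide) (by decide) (by decide) (by decide) (by decide +kernel) t u

theorem sw_29_24' (t u : K) (g : GL chevF4.Idx K) : X 29 u * (X 24 t * g) = X 24 t * (X 29 u * g) := by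
  rw [← mul_assoc, sw_29_24, mul_assoc]

theorem sw_41_24 (t u : K) : X 41 u * X 24 t = X 24 t * (X 41 u * X 42 (t * u)) := by
  have h := swap1 (K := K) 24 41 42 (1) 1 1 cast_one' (by decide) (by decide) (by decide) (by decide) (by decide +kernel) t u
  simpa only [pow_one] using h

theorem sw_41_24' (t u : K) (g : GL chevF4.Idx K) : X 41 u * (X 24 t * g) = X 24 t * (X 41 u * (X 42 (t * u) * g)) := by
  rw [← mul_assoc, sw_41_24, mul_assoc, mul_assoc]

theorem sw_44_24 (t u : K) : X 44 u * X 24 t = X 24 t * X 44 u :=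
  swap0 (K := K) 24 44 (by decide) (by decide) (by decide) (by decide) (by decide +kernel) t u

theorem sw_44_24' (t u : K) (g : GL chevF4.Idx K) : X 44 u * (X 24 t * g) = X 24 t * (X 44 u * g) := by
  rw [← mul_assoc, sw_44_24, mul_assoc]

theorem sw_47_24 (t u : K) : X 47 u * X 24 t = X 24 t * X 47 u :=
  swap0 (K := K) 24 47 (by decide) (by decide) (by decide) (by decide) (by decide +kernel) t u

theorem sw_47_24' (t u : K) (g : GL chevF4.Idx K) : X 47 u * (X 24 t * g) = X 24 t * (X 47 u * g) := by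
  rw [← mul_assoc, sw_47_24, mul_assoc]

theorem sw_39_24 (t u : K) : X 39 u * X 24 t = X 24 t * X 39 u :=
  swap0 (K := K) 24 39 (by decide) (by decide) (by decide) (by decide) (by decide +kernel) t u

theorem sw_39_24' (t u : K) (g : GL chevF4.Idx K) : X 39 u * (X 24 t * g) = X 24 t * (X 39 u * g) := by
  rw [← mul_assoc, sw_39_24, mul_assoc]

theorem sw_45_24 (t u : K) : X 45 u * X 24 t = X 24 t * X 45 u :=
  swap0 (K := K) 24 45 (by decide) (by decide) (by decide) (by decide) (by decide +kernel) t u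

theorem sw_45_24' (t u : K) (g : GL chevF4.Idx K) : X 45 u * (X 24 t * g) = X 24 t * (X 45 u * g) := by
  rw [← mul_assoc, sw_45_24, mul_assoc]

theorem sw_25_27 (t u : K) : X 25 u * X 27 t = X 27 t * (X 25 u * (X 28 (t * u) * X 30 (t ^ 2 * u))) := by
  have h := swap2 (K := K) 27 25 28 30 (-1) (-1) 1 1 2 1 cast_neg_one' cast_neg_one' (by decide) (by decide) (by decide) (by decide) (by decide +kernel) t u
  simpa only [pow_one] using h

theorem sw_25_27' (t u : K) (g : GL chevF4.Idx K) : X 25 u * (X 27 t * g) = X 27 t * (X 25 u * (X 28 (t * u) * (X 30 (t ^ 2 * u) * g))) := by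
  rw [← mul_assoc, sw_25_27, mul_assoc, mul_assoc, mul_assoc]

theorem sw_28_27 (t u : K) : X 28 u * X 27 t = X 27 t * X 28 u :=
  swap0e (K := K) 27 28 30 (2) 1 1 cast_two' (by decide) (by decide) (by decide) (by decide) (by decide +kernel) t u

theorem sw_28_27' (t u : K) (g : GL chevF4.Idx K) : X 28 u * (X 27 t * g) = X 27 t * (X 28 u * g) := by
  rw [← mul_assoc, sw_28_27, mul_assoc]

theorem sw_30_27 (t u : K) : X 30 u * X 27 t = X 27 t * X 30 u :=
  swap0 (K := K) 27 30 (by decide) (by decide) (by decide) (by decide) (by decide +kernel) t u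

theorem sw_30_27' (t u : K) (g : GL chevF4.Idx K) : X 30 u * (X 27 t * g) = X 27 t * (X 30 u * g) := by
  rw [← mul_assoc, sw_30_27, mul_assoc]

theorem sw_34_27 (t u : K) : X 34 u * X 27 t = X 27 t * X 34 u :=
  swap0 (K := K) 27 34 (by decide) (by decide) (by decide) (by decide) (by decide +kernel) t u

theorem sw_34_27' (t u : K) (g : GL chevF4.Idx K) : X 34 u * (X 27 t * g) = X 27 t * (X 34 u * g) := by
  rw [← mul_assoc, sw_34_27, mul_assoc]

theorem sw_26_27 (t u : K) : X 26 u * X 27 t = X 27 t * (X 26 u * (X 29 (t * u) * X 31 (t ^ 2 * u))) := by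
  have h := swap2 (K := K) 27 26 29 31 (-1) (-1) 1 1 2 1 cast_neg_one' cast_neg_one' (by decide) (by decide) (by decide) (by decide) (by decide +kernel) t u
  simpa only [pow_one] using h

theorem sw_26_27' (t u : K) (g : GL chevF4.Idx K) : X 26 u * (X 27 t * g) = X 27 t * (X 26 u * (X 29 (t * u) * (X 31 (t ^ 2 * u) * g))) := by
  rw [← mul_assoc, sw_26_27, mul_assoc, mul_assoc, mul_assoc]

theorem sw_36_27 (t u : K) : X 36 u * X 27 t = X 27 t * (X 36 u * X 38 (t * u)) := by
  have h := swap1 (K := K) 27 36 38 (1) 1 1 cast_one' (by decide) (by decide) (by decide) (by decide) (by decide +kernel) t u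
  simpa only [pow_one] using h

theorem sw_36_27' (t u : K) (g : GL chevF4.Idx K) : X 36 u * (X 27 t * g) = X 27 t * (X 36 u * (X 38 (t * u) * g)) := by
  rw [← mul_assoc, sw_36_27, mul_assoc, mul_assoc]

theorem sw_42_27 (t u : K) : X 42 u * X 27 t = X 27 t * X 42 u :=
  swap0 (K := K) 27 42 (by decide) (by decide) (by decide) (by decide) (by decide +kernel) t u

theorem sw_42_27' (t u : K) (g : GL chevF4.Idx K) : X 42 u * (X 27 t * g) = X 27 t * (X 42 u * g) := by
  rw [← mul_assoc, sw_42_27, mul_assoc]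

theorem sw_37_27 (t u : K) : X 37 u * X 27 t = X 27 t * X 37 u :=
  swap0 (K := K) 27 37 (by decide) (by decide) (by decide) (by decide) (by decide +kernel) t u

theorem sw_37_27' (t u : K) (g : GL chevF4.Idx K) : X 37 u * (X 27 t * g) = X 27 t * (X 37 u * g) := by
  rw [← mul_assoc, sw_37_27, mul_assoc]

theorem sw_32_27 (t u : K) : X 32 u * X 27 t = X 27 t * X 32 u :=
  swap0 (K := K) 27 32 (by decide) (by decide) (by decide) (by decide) (by decide +kernel) t u

theorem sw_32_27' (t u : K) (g : GL chevF4.Idx K) : X 32 u * (X 27 t * g) = X 27 t * (X 32 u * g) := by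
  rw [← mul_assoc, sw_32_27, mul_assoc]

theorem sw_38_27 (t u : K) : X 38 u * X 27 t = X 27 t * X 38 u :=
  swap0 (K := K) 27 38 (by decide) (by decide) (by decide) (by decide) (by decide +kernel) t u

theorem sw_38_27' (t u : K) (g : GL chevF4.Idx K) : X 38 u * (X 27 t * g) = X 27 t * (X 38 u * g) := by
  rw [← mul_assoc, sw_38_27, mul_assoc]

theorem sw_43_27 (t u : K) : X 43 u * X 27 t = X 27 t * (X 43 u * (X 44 (t * u) * X 45 (t ^ 2 * u))) := by
  have h := swap2 (K := K) 27 43 44 45 (1) (1) 1 1 2 1 cast_one' cast_one' (by decide) (by decide) (by decide) (by decide) (by decide +kernel) t u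
  simpa only [pow_one] using h

theorem sw_43_27' (t u : K) (g : GL chevF4.Idx K) : X 43 u * (X 27 t * g) = X 27 t * (X 43 u * (X 44 (t * u) * (X 45 (t ^ 2 * u) * g))) := by
  rw [← mul_assoc, sw_43_27, mul_assoc, mul_assoc, mul_assoc]

theorem sw_35_27 (t u : K) : X 35 u * X 27 t = X 27 t * (X 35 u * X 37 (t * u)) := by
  have h := swap1 (K := K) 27 35 37 (1) 1 1 cast_one' (by decide) (by decide) (by decide) (by decide) (by decide +kernel) t u
  simpa only [pow_one] using h

theorem sw_35_27' (t u : K) (g : GL chevF4.Idx K) : X 35 u * (X 27 t * g) = X 27 t * (X 35 u * (X 37 (t * u) * g)) := by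
  rw [← mul_assoc, sw_35_27, mul_assoc, mul_assoc]

theorem sw_31_27 (t u : K) : X 31 u * X 27 t = X 27 t * X 31 u :=
  swap0 (K := K) 27 31 (by decide) (by decide) (by decide) (by decide) (by decide +kernel) t u

theorem sw_31_27' (t u : K) (g : GL chevF4.Idx K) : X 31 u * (X 27 t * g) = X 27 t * (X 31 u * g) := by
  rw [← mul_assoc, sw_31_27, mul_assoc]

theorem sw_40_27 (t u : K) : X 40 u * X 27 t = X 27 t * X 40 u :=
  swap0 (K := K) 27 40 (by decide) (by decide) (by decide) (by decide) (by decide +kernel) t u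

theorem sw_40_27' (t u : K) (g : GL chevF4.Idx K) : X 40 u * (X 27 t * g) = X 27 t * (X 40 u * g) := by
  rw [← mul_assoc, sw_40_27, mul_assoc]

theorem sw_46_27 (t u : K) : X 46 u * X 27 t = X 27 t * X 46 u :=
  swap0 (K := K) 27 46 (by decide) (by decide) (by decide) (by decide) (by decide +kernel) t u

theorem sw_46_27' (t u : K) (g : GL chevF4.Idx K) : X 46 u * (X 27 t * g) = X 27 t * (X 46 u * g) := by
  rw [← mul_assoc, sw_46_27, mul_assoc]

theorem sw_29_27 (t u : K) : X 29 u * X 27 t = X 27 t * X 29 u :=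
  swap0e (K := K) 27 29 31 (2) 1 1 cast_two' (by decide) (by decide) (by decide) (by decide) (by decide +kernel) t u

theorem sw_29_27' (t u : K) (g : GL chevF4.Idx K) : X 29 u * (X 27 t * g) = X 27 t * (X 29 u * g) := by
  rw [← mul_assoc, sw_29_27, mul_assoc]

theorem sw_41_27 (t u : K) : X 41 u * X 27 t = X 27 t * X 41 u :=
  swap0 (K := K) 27 41 (by decide) (by decide) (by decide) (by decide) (by decide +kernel) t u

theorem sw_41_27' (t u : K) (g : GL chevF4.Idx K) : X 41 u * (X 27 t * g) = X 27 t * (X 41 u * g) := by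
  rw [← mul_assoc, sw_41_27, mul_assoc]

theorem sw_44_27 (t u : K) : X 44 u * X 27 t = X 27 t * X 44 u :=
  swap0e (K := K) 27 44 45 (2) 1 1 cast_two' (by decide) (by decide) (by decide) (by decide) (by decide +kernel) t u

theorem sw_44_27' (t u : K) (g : GL chevF4.Idx K) : X 44 u * (X 27 t * g) = X 27 t * (X 44 u * g) := by
  rw [← mul_assoc, sw_44_27, mul_assoc]

theorem sw_47_27 (t u : K) : X 47 u * X 27 t = X 27 t * X 47 u :=
  swap0 (K := K) 27 47 (by decide) (by decide) (by decide) (by decide) (by decide +kernel) t u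

theorem sw_47_27' (t u : K) (g : GL chevF4.Idx K) : X 47 u * (X 27 t * g) = X 27 t * (X 47 u * g) := by
  rw [← mul_assoc, sw_47_27, mul_assoc]

theorem sw_39_27 (t u : K) : X 39 u * X 27 t = X 27 t * (X 39 u * X 40 (t * u)) := by
  have h := swap1 (K := K) 27 39 40 (1) 1 1 cast_one' (by decide) (by decide) (by decide) (by decide) (by decide +kernel) t u
  simpa only [pow_one] using h

theorem sw_39_27' (t u : K) (g : GL chevF4.Idx K) : X 39 u * (X 27 t * g) = X 27 t * (X 39 u * (X 40 (t * u) * g)) := by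
  rw [← mul_assoc, sw_39_27, mul_assoc, mul_assoc]

theorem sw_45_27 (t u : K) : X 45 u * X 27 t = X 27 t * X 45 u :=
  swap0 (K := K) 27 45 (by decide) (by decide) (by decide) (by decide) (by decide +kernel) t u

theorem sw_45_27' (t u : K) (g : GL chevF4.Idx K) : X 45 u * (X 27 t * g) = X 27 t * (X 45 u * g) := by
  rw [← mul_assoc, sw_45_27, mul_assoc]

theorem sw_28_25 (t u : K) : X 28 u * X 25 t = X 25 t * X 28 u :=
  swap0 (K := K) 25 28 (by decide) (by decide) (by decide) (by decide) (by decide +kernel) t u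

theorem sw_28_25' (t u : K) (g : GL chevF4.Idx K) : X 28 u * (X 25 t * g) = X 25 t * (X 28 u * g) := by
  rw [← mul_assoc, sw_28_25, mul_assoc]

theorem sw_30_25 (t u : K) : X 30 u * X 25 t = X 25 t * X 30 u :=
  swap0 (K := K) 25 30 (by decide) (by decide) (by decide) (by decide) (by decide +kernel) t u

theorem sw_30_25' (t u : K) (g : GL chevF4.Idx K) : X 30 u * (X 25 t * g) = X 25 t * (X 30 u * g) := by
  rw [← mul_assoc, sw_30_25, mul_assoc]

theorem sw_34_25 (t u : K) : X 34 u * X 25 t = X 25 t * (X 34 u * (X 35 (t * u) * X 41 (t * u ^ 2))) := by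
  have h := swap2 (K := K) 25 34 35 41 (1) (1) 1 1 1 2 cast_one' cast_one' (by decide) (by decide) (by decide) (by decide) (by decide +kernel) t u
  simpa only [pow_one] using h

theorem sw_34_25' (t u : K) (g : GL chevF4.Idx K) : X 34 u * (X 25 t * g) = X 25 t * (X 34 u * (X 35 (t * u) * (X 41 (t * u ^ 2) * g))) := by
  rw [← mul_assoc, sw_34_25, mul_assoc, mul_assoc, mul_assoc]

theorem sw_26_25 (t u : K) : X 26 u * X 25 t = X 25 t * X 26 u :=
  swap0 (K := K) 25 26 (by decide) (by decide) (by decide) (by decide) (by decide +kernel) t u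

theorem sw_26_25' (t u : K) (g : GL chevF4.Idx K) : X 26 u * (X 25 t * g) = X 25 t * (X 26 u * g) := by
  rw [← mul_assoc, sw_26_25, mul_assoc]

theorem sw_36_25 (t u : K) : X 36 u * X 25 t = X 25 t * X 36 u :=
  swap0 (K := K) 25 36 (by decide) (by decide) (by decide) (by decide) (by decide +kernel) t u

theorem sw_36_25' (t u : K) (g : GL chevF4.Idx K) : X 36 u * (X 25 t * g) = X 25 t * (X 36 u * g) := by
  rw [← mul_assoc, sw_36_25, mul_assoc]

theorem sw_42_25 (t u : K) : X 42 u * X 25 t = X 25 t * (X 42 u * X 43 (t * u)) := by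
  have h := swap1 (K := K) 25 42 43 (1) 1 1 cast_one' (by decide) (by decide) (by decide) (by decide) (by decide +kernel) t u
  simpa only [pow_one] using h

theorem sw_42_25' (t u : K) (g : GL chevF4.Idx K) : X 42 u * (X 25 t * g) = X 25 t * (X 42 u * (X 43 (t * u) * g)) := by
  rw [← mul_assoc, sw_42_25, mul_assoc, mul_assoc]

theorem sw_37_25 (t u : K) : X 37 u * X 25 t = X 25 t * X 37 u :=
  swap0 (K := K) 25 37 (by decide) (by decide) (by decide) (by decide) (by decide +kernel) t u

theorem sw_37_25' (t u : K) (g : GL chevF4.Idx K) : X 37 u * (X 25 t * g) = X 25 t * (X 37 u * g) := by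
  rw [← mul_assoc, sw_37_25, mul_assoc]

theorem sw_32_25 (t u : K) : X 32 u * X 25 t = X 25 t * X 32 u :=
  swap0 (K := K) 25 32 (by decide) (by decide) (by decide) (by decide) (by decide +kernel) t u

theorem sw_32_25' (t u : K) (g : GL chevF4.Idx K) : X 32 u * (X 25 t * g) = X 25 t * (X 32 u * g) := by
  rw [← mul_assoc, sw_32_25, mul_assoc]

theorem sw_38_25 (t u : K) : X 38 u * X 25 t = X 25 t * (X 38 u * (X 39 (t * u) * X 47 (t * u ^ 2))) := by
  have h := swap2 (K := K) 25 38 39 47 (1) (1) 1 1 1 2 cast_one' cast_one' (by decide) (by decide) (by decide) (by decide) (by decide +kernel) t u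
  simpa only [pow_one] using h

theorem sw_38_25' (t u : K) (g : GL chevF4.Idx K) : X 38 u * (X 25 t * g) = X 25 t * (X 38 u * (X 39 (t * u) * (X 47 (t * u ^ 2) * g))) := by
  rw [← mul_assoc, sw_38_25, mul_assoc, mul_assoc, mul_assoc]

theorem sw_43_25 (t u : K) : X 43 u * X 25 t = X 25 t * X 43 u :=
  swap0 (K := K) 25 43 (by decide) (by decide) (by decide) (by decide) (by decide +kernel) t u

theorem sw_43_25' (t u : K) (g : GL chevF4.Idx K) : X 43 u * (X 25 t * g) = X 25 t * (X 43 u * g) := by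
  rw [← mul_assoc, sw_43_25, mul_assoc]

theorem sw_35_25 (t u : K) : X 35 u * X 25 t = X 25 t * X 35 u :=
  swap0 (K := K) 25 35 (by decide) (by decide) (by decide) (by decide) (by decide +kernel) t u

theorem sw_35_25' (t u : K) (g : GL chevF4.Idx K) : X 35 u * (X 25 t * g) = X 25 t * (X 35 u * g) := by
  rw [← mul_assoc, sw_35_25, mul_assoc]

theorem sw_31_25 (t u : K) : X 31 u * X 25 t = X 25 t * (X 31 u * X 32 (t * u)) := by
  have h := swap1 (K := K) 25 31 32 (1) 1 1 cast_one' (by decide) (by decide) (by decide) (by decide) (by decide +kernel) t u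
  simpa only [pow_one] using h

theorem sw_31_25' (t u : K) (g : GL chevF4.Idx K) : X 31 u * (X 25 t * g) = X 25 t * (X 31 u * (X 32 (t * u) * g)) := by
  rw [← mul_assoc, sw_31_25, mul_assoc, mul_assoc]

theorem sw_40_25 (t u : K) : X 40 u * X 25 t = X 25 t * X 40 u :=
  swap0 (K := K) 25 40 (by decide) (by decide) (by decide) (by decide) (by decide +kernel) t u

theorem sw_40_25' (t u : K) (g : GL chevF4.Idx K) : X 40 u * (X 25 t * g) = X 25 t * (X 40 u * g) := by
  rw [← mul_assoc, sw_40_25, mul_assoc]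

theorem sw_46_25 (t u : K) : X 46 u * X 25 t = X 25 t * X 46 u :=
  swap0 (K := K) 25 46 (by decide) (by decide) (by decide) (by decide) (by decide +kernel) t u

theorem sw_46_25' (t u : K) (g : GL chevF4.Idx K) : X 46 u * (X 25 t * g) = X 25 t * (X 46 u * g) := by
  rw [← mul_assoc, sw_46_25, mul_assoc]

theorem sw_29_25 (t u : K) : X 29 u * X 25 t = X 25 t * X 29 u :=
  swap0 (K := K) 25 29 (by decide) (by decide) (by decide) (by decide) (by decide +kernel) t u

theorem sw_29_25' (t u : K) (g : GL chevF4.Idx K) : X 29 u * (X 25 t * g) = X 25 t * (X 29 u * g) := by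
  rw [← mul_assoc, sw_29_25, mul_assoc]

theorem sw_41_25 (t u : K) : X 41 u * X 25 t = X 25 t * X 41 u :=
  swap0 (K := K) 25 41 (by decide) (by decide) (by decide) (by decide) (by decide +kernel) t u

theorem sw_41_25' (t u : K) (g : GL chevF4.Idx K) : X 41 u * (X 25 t * g) = X 25 t * (X 41 u * g) := by
  rw [← mul_assoc, sw_41_25, mul_assoc]

theorem sw_44_25 (t u : K) : X 44 u * X 25 t = X 25 t * X 44 u :=
  swap0 (K := K) 25 44 (by decide) (by decide) (by decide) (by decide) (by decide +kernel) t u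

theorem sw_44_25' (t u : K) (g : GL chevF4.Idx K) : X 44 u * (X 25 t * g) = X 25 t * (X 44 u * g) := by
  rw [← mul_assoc, sw_44_25, mul_assoc]

theorem sw_47_25 (t u : K) : X 47 u * X 25 t = X 25 t * X 47 u :=
  swap0 (K := K) 25 47 (by decide) (by decide) (by decide) (by decide) (by decide +kernel) t u

theorem sw_47_25' (t u : K) (g : GL chevF4.Idx K) : X 47 u * (X 25 t * g) = X 25 t * (X 47 u * g) := by
  rw [← mul_assoc, sw_47_25, mul_assoc]

theorem sw_39_25 (t u : K) : X 39 u * X 25 t = X 25 t * X 39 u :=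
  swap0 (K := K) 25 39 (by decide) (by decide) (by decide) (by decide) (by decide +kernel) t u

theorem sw_39_25' (t u : K) (g : GL chevF4.Idx K) : X 39 u * (X 25 t * g) = X 25 t * (X 39 u * g) := by
  rw [← mul_assoc, sw_39_25, mul_assoc]

theorem sw_45_25 (t u : K) : X 45 u * X 25 t = X 25 t * (X 45 u * X 46 (t * u)) := by
  have h := swap1 (K := K) 25 45 46 (1) 1 1 cast_one' (by decide) (by decide) (by decide) (by decide) (by decide +kernel) t u
  simpa only [pow_one] using h

theorem sw_45_25' (t u : K) (g : GL chevF4.Idx K) : X 45 u * (X 25 t * g) = X 25 t * (X 45 u * (X 46 (t * u) * g)) := by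
  rw [← mul_assoc, sw_45_25, mul_assoc, mul_assoc]

theorem sw_30_28 (t u : K) : X 30 u * X 28 t = X 28 t * X 30 u :=
  swap0 (K := K) 28 30 (by decide) (by decide) (by decide) (by decide) (by decide +kernel) t u

theorem sw_30_28' (t u : K) (g : GL chevF4.Idx K) : X 30 u * (X 28 t * g) = X 28 t * (X 30 u * g) := by
  rw [← mul_assoc, sw_30_28, mul_assoc]

theorem sw_34_28 (t u : K) : X 34 u * X 28 t = X 28 t * (X 34 u * X 37 (t * u)) := by
  have h := swap1 (K := K) 28 34 37 (-1) 1 1 cast_neg_one' (by decide) (by decide) (by decide) (by decide) (by decide +kernel) t u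
  simpa only [pow_one] using h

theorem sw_34_28' (t u : K) (g : GL chevF4.Idx K) : X 34 u * (X 28 t * g) = X 28 t * (X 34 u * (X 37 (t * u) * g)) := by
  rw [← mul_assoc, sw_34_28, mul_assoc, mul_assoc]

theorem sw_26_28 (t u : K) : X 26 u * X 28 t = X 28 t * X 26 u :=
  swap0 (K := K) 28 26 (by decide) (by decide) (by decide) (by decide) (by decide +kernel) t u

theorem sw_26_28' (t u : K) (g : GL chevF4.Idx K) : X 26 u * (X 28 t * g) = X 28 t * (X 26 u * g) := by
  rw [← mul_assoc, sw_26_28, mul_assoc]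

theorem sw_36_28 (t u : K) : X 36 u * X 28 t = X 28 t * (X 36 u * X 39 (t * u)) := by
  have h := swap1 (K := K) 28 36 39 (1) 1 1 cast_one' (by decide) (by decide) (by decide) (by decide) (by decide +kernel) t u
  simpa only [pow_one] using h

theorem sw_36_28' (t u : K) (g : GL chevF4.Idx K) : X 36 u * (X 28 t * g) = X 28 t * (X 36 u * (X 39 (t * u) * g)) := by
  rw [← mul_assoc, sw_36_28, mul_assoc, mul_assoc]

theorem sw_42_28 (t u : K) : X 42 u * X 28 t = X 28 t * (X 42 u * (X 44 (t * u) * X 46 (t ^ 2 * u))) := by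
  have h := swap2 (K := K) 28 42 44 46 (-1) (-1) 1 1 2 1 cast_neg_one' cast_neg_one' (by decide) (by decide) (by decide) (by decide) (by decide +kernel) t u
  simpa only [pow_one] using h

theorem sw_42_28' (t u : K) (g : GL chevF4.Idx K) : X 42 u * (X 28 t * g) = X 28 t * (X 42 u * (X 44 (t * u) * (X 46 (t ^ 2 * u) * g))) := by
  rw [← mul_assoc, sw_42_28, mul_assoc, mul_assoc, mul_assoc]

theorem sw_37_28 (t u : K) : X 37 u * X 28 t = X 28 t * X 37 u :=
  swap0 (K := K) 28 37 (by decide) (by decide) (by decide) (by decide) (by decide +kernel) t u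

theorem sw_37_28' (t u : K) (g : GL chevF4.Idx K) : X 37 u * (X 28 t * g) = X 28 t * (X 37 u * g) := by
  rw [← mul_assoc, sw_37_28, mul_assoc]

theorem sw_32_28 (t u : K) : X 32 u * X 28 t = X 28 t * X 32 u :=
  swap0 (K := K) 28 32 (by decide) (by decide) (by decide) (by decide) (by decide +kernel) t u

theorem sw_32_28' (t u : K) (g : GL chevF4.Idx K) : X 32 u * (X 28 t * g) = X 28 t * (X 32 u * g) := by
  rw [← mul_assoc, sw_32_28, mul_assoc]

theorem sw_38_28 (t u : K) : X 38 u * X 28 t = X 28 t * (X 38 u * X 40 (t * u)) := by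
  have h := swap1 (K := K) 28 38 40 (-1) 1 1 cast_neg_one' (by decide) (by decide) (by decide) (by decide) (by decide +kernel) t u
  simpa only [pow_one] using h

theorem sw_38_28' (t u : K) (g : GL chevF4.Idx K) : X 38 u * (X 28 t * g) = X 28 t * (X 38 u * (X 40 (t * u) * g)) := by
  rw [← mul_assoc, sw_38_28, mul_assoc, mul_assoc]

theorem sw_43_28 (t u : K) : X 43 u * X 28 t = X 28 t * X 43 u :=
  swap0 (K := K) 28 43 (by decide) (by decide) (by decide) (by decide) (by decide +kernel) t u

theorem sw_43_28' (t u : K) (g : GL chevF4.Idx K) : X 43 u * (X 28 t * g) = X 28 t * (X 43 u * g) := by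
  rw [← mul_assoc, sw_43_28, mul_assoc]

theorem sw_35_28 (t u : K) : X 35 u * X 28 t = X 28 t * X 35 u :=
  swap0 (K := K) 28 35 (by decide) (by decide) (by decide) (by decide) (by decide +kernel) t u

theorem sw_35_28' (t u : K) (g : GL chevF4.Idx K) : X 35 u * (X 28 t * g) = X 28 t * (X 35 u * g) := by
  rw [← mul_assoc, sw_35_28, mul_assoc]

theorem sw_31_28 (t u : K) : X 31 u * X 28 t = X 28 t * X 31 u :=
  swap0 (K := K) 28 31 (by decide) (by decide) (by decide) (by decide) (by decide +kernel) t u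

theorem sw_31_28' (t u : K) (g : GL chevF4.Idx K) : X 31 u * (X 28 t * g) = X 28 t * (X 31 u * g) := by
  rw [← mul_assoc, sw_31_28, mul_assoc]

theorem sw_40_28 (t u : K) : X 40 u * X 28 t = X 28 t * X 40 u :=
  swap0 (K := K) 28 40 (by decide) (by decide) (by decide) (by decide) (by decide +kernel) t u

theorem sw_40_28' (t u : K) (g : GL chevF4.Idx K) : X 40 u * (X 28 t * g) = X 28 t * (X 40 u * g) := by
  rw [← mul_assoc, sw_40_28, mul_assoc]

theorem sw_46_28 (t u : K) : X 46 u * X 28 t = X 28 t * X 46 u :=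
  swap0 (K := K) 28 46 (by decide) (by decide) (by decide) (by decide) (by decide +kernel) t u

theorem sw_46_28' (t u : K) (g : GL chevF4.Idx K) : X 46 u * (X 28 t * g) = X 28 t * (X 46 u * g) := by
  rw [← mul_assoc, sw_46_28, mul_assoc]

theorem sw_29_28 (t u : K) : X 29 u * X 28 t = X 28 t * X 29 u :=
  swap0e (K := K) 28 29 32 (2) 1 1 cast_two' (by decide) (by decide) (by decide) (by decide) (by decide +kernel) t u

theorem sw_29_28' (t u : K) (g : GL chevF4.Idx K) : X 29 u * (X 28 t * g) = X 28 t * (X 29 u * g) := by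
  rw [← mul_assoc, sw_29_28, mul_assoc]

theorem sw_41_28 (t u : K) : X 41 u * X 28 t = X 28 t * X 41 u :=
  swap0 (K := K) 28 41 (by decide) (by decide) (by decide) (by decide) (by decide +kernel) t u

theorem sw_41_28' (t u : K) (g : GL chevF4.Idx K) : X 41 u * (X 28 t * g) = X 28 t * (X 41 u * g) := by
  rw [← mul_assoc, sw_41_28, mul_assoc]

theorem sw_44_28 (t u : K) : X 44 u * X 28 t = X 28 t * X 44 u :=
  swap0e (K := K) 28 44 46 (2) 1 1 cast_two' (by decide) (by decide) (by decide) (by decide) (by decide +kernel) t u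

theorem sw_44_28' (t u : K) (g : GL chevF4.Idx K) : X 44 u * (X 28 t * g) = X 28 t * (X 44 u * g) := by
  rw [← mul_assoc, sw_44_28, mul_assoc]

theorem sw_47_28 (t u : K) : X 47 u * X 28 t = X 28 t * X 47 u :=
  swap0 (K := K) 28 47 (by decide) (by decide) (by decide) (by decide) (by decide +kernel) t u

theorem sw_47_28' (t u : K) (g : GL chevF4.Idx K) : X 47 u * (X 28 t * g) = X 28 t * (X 47 u * g) := by
  rw [← mul_assoc, sw_47_28, mul_assoc]

theorem sw_39_28 (t u : K) : X 39 u * X 28 t = X 28 t * X 39 u :=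
  swap0 (K := K) 28 39 (by decide) (by decide) (by decide) (by decide) (by decide +kernel) t u

theorem sw_39_28' (t u : K) (g : GL chevF4.Idx K) : X 39 u * (X 28 t * g) = X 28 t * (X 39 u * g) := by
  rw [← mul_assoc, sw_39_28, mul_assoc]

theorem sw_45_28 (t u : K) : X 45 u * X 28 t = X 28 t * X 45 u :=
  swap0 (K := K) 28 45 (by decide) (by decide) (by decide) (by decide) (by decide +kernel) t u

theorem sw_45_28' (t u : K) (g : GL chevF4.Idx K) : X 45 u * (X 28 t * g) = X 28 t * (X 45 u * g) := by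
  rw [← mul_assoc, sw_45_28, mul_assoc]

theorem sw_34_30 (t u : K) : X 34 u * X 30 t = X 30 t * X 34 u :=
  swap0 (K := K) 30 34 (by decide) (by decide) (by decide) (by decide) (by decide +kernel) t u

theorem sw_34_30' (t u : K) (g : GL chevF4.Idx K) : X 34 u * (X 30 t * g) = X 30 t * (X 34 u * g) := by
  rw [← mul_assoc, sw_34_30, mul_assoc]

theorem sw_26_30 (t u : K) : X 26 u * X 30 t = X 30 t * (X 26 u * X 32 (t * u)) := by
  have h := swap1 (K := K) 30 26 32 (1) 1 1 cast_one' (by decide) (by decide) (by decide) (by decide) (by decide +kernel) t u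
  simpa only [pow_one] using h

theorem sw_26_30' (t u : K) (g : GL chevF4.Idx K) : X 26 u * (X 30 t * g) = X 30 t * (X 26 u * (X 32 (t * u) * g)) := by
  rw [← mul_assoc, sw_26_30, mul_assoc, mul_assoc]

theorem sw_36_30 (t u : K) : X 36 u * X 30 t = X 30 t * (X 36 u * (X 40 (t * u) * X 47 (t * u ^ 2))) := by
  have h := swap2 (K := K) 30 36 40 47 (1) (-1) 1 1 1 2 cast_one' cast_neg_one' (by decide) (by decide) (by decide) (by decide) (by decide +kernel) t u
  simpa only [pow_one] using h

theorem sw_36_30' (t u : K) (g : GL chevF4.Idx K) : X 36 u * (X 30 t * g) = X 30 t * (X 36 u * (X 40 (t * u) * (X 47 (t * u ^ 2) * g))) := by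
  rw [← mul_assoc, sw_36_30, mul_assoc, mul_assoc, mul_assoc]

theorem sw_42_30 (t u : K) : X 42 u * X 30 t = X 30 t * (X 42 u * X 45 (t * u)) := by
  have h := swap1 (K := K) 30 42 45 (-1) 1 1 cast_neg_one' (by decide) (by decide) (by decide) (by decide) (by decide +kernel) t u
  simpa only [pow_one] using h

theorem sw_42_30' (t u : K) (g : GL chevF4.Idx K) : X 42 u * (X 30 t * g) = X 30 t * (X 42 u * (X 45 (t * u) * g)) := by
  rw [← mul_assoc, sw_42_30, mul_assoc, mul_assoc]

theorem sw_37_30 (t u : K) : X 37 u * X 30 t = X 30 t * X 37 u :=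
  swap0 (K := K) 30 37 (by decide) (by decide) (by decide) (by decide) (by decide +kernel) t u

theorem sw_37_30' (t u : K) (g : GL chevF4.Idx K) : X 37 u * (X 30 t * g) = X 30 t * (X 37 u * g) := by
  rw [← mul_assoc, sw_37_30, mul_assoc]

theorem sw_32_30 (t u : K) : X 32 u * X 30 t = X 30 t * X 32 u :=
  swap0 (K := K) 30 32 (by decide) (by decide) (by decide) (by decide) (by decide +kernel) t u

theorem sw_32_30' (t u : K) (g : GL chevF4.Idx K) : X 32 u * (X 30 t * g) = X 30 t * (X 32 u * g) := by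
  rw [← mul_assoc, sw_32_30, mul_assoc]

theorem sw_38_30 (t u : K) : X 38 u * X 30 t = X 30 t * X 38 u :=
  swap0 (K := K) 30 38 (by decide) (by decide) (by decide) (by decide) (by decide +kernel) t u

theorem sw_38_30' (t u : K) (g : GL chevF4.Idx K) : X 38 u * (X 30 t * g) = X 30 t * (X 38 u * g) := by
  rw [← mul_assoc, sw_38_30, mul_assoc]

theorem sw_43_30 (t u : K) : X 43 u * X 30 t = X 30 t * (X 43 u * X 46 (t * u)) := by
  have h := swap1 (K := K) 30 43 46 (-1) 1 1 cast_neg_one' (by decide) (by decide) (by decide) (by decide) (by decide +kernel) t u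
  simpa only [pow_one] using h

theorem sw_43_30' (t u : K) (g : GL chevF4.Idx K) : X 43 u * (X 30 t * g) = X 30 t * (X 43 u * (X 46 (t * u) * g)) := by
  rw [← mul_assoc, sw_43_30, mul_assoc, mul_assoc]

theorem sw_35_30 (t u : K) : X 35 u * X 30 t = X 30 t * X 35 u :=
  swap0 (K := K) 30 35 (by decide) (by decide) (by decide) (by decide) (by decide +kernel) t u

theorem sw_35_30' (t u : K) (g : GL chevF4.Idx K) : X 35 u * (X 30 t * g) = X 30 t * (X 35 u * g) := by
  rw [← mul_assoc, sw_35_30, mul_assoc]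

theorem sw_31_30 (t u : K) : X 31 u * X 30 t = X 30 t * X 31 u :=
  swap0 (K := K) 30 31 (by decide) (by decide) (by decide) (by decide) (by decide +kernel) t u

theorem sw_31_30' (t u : K) (g : GL chevF4.Idx K) : X 31 u * (X 30 t * g) = X 30 t * (X 31 u * g) := by
  rw [← mul_assoc, sw_31_30, mul_assoc]

theorem sw_40_30 (t u : K) : X 40 u * X 30 t = X 30 t * X 40 u :=
  swap0 (K := K) 30 40 (by decide) (by decide) (by decide) (by decide) (by decide +kernel) t u

theorem sw_40_30' (t u : K) (g : GL chevF4.Idx K) : X 40 u * (X 30 t * g) = X 30 t * (X 40 u * g) := by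
  rw [← mul_assoc, sw_40_30, mul_assoc]

theorem sw_46_30 (t u : K) : X 46 u * X 30 t = X 30 t * X 46 u :=
  swap0 (K := K) 30 46 (by decide) (by decide) (by decide) (by decide) (by decide +kernel) t u

theorem sw_46_30' (t u : K) (g : GL chevF4.Idx K) : X 46 u * (X 30 t * g) = X 30 t * (X 46 u * g) := by
  rw [← mul_assoc, sw_46_30, mul_assoc]

theorem sw_29_30 (t u : K) : X 29 u * X 30 t = X 30 t * X 29 u :=
  swap0 (K := K) 30 29 (by decide) (by decide) (by decide) (by decide) (by decide +kernel) t u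

theorem sw_29_30' (t u : K) (g : GL chevF4.Idx K) : X 29 u * (X 30 t * g) = X 30 t * (X 29 u * g) := by
  rw [← mul_assoc, sw_29_30, mul_assoc]

theorem sw_41_30 (t u : K) : X 41 u * X 30 t = X 30 t * X 41 u :=
  swap0 (K := K) 30 41 (by decide) (by decide) (by decide) (by decide) (by decide +kernel) t u

theorem sw_41_30' (t u : K) (g : GL chevF4.Idx K) : X 41 u * (X 30 t * g) = X 30 t * (X 41 u * g) := by
  rw [← mul_assoc, sw_41_30, mul_assoc]

theorem sw_44_30 (t u : K) : X 44 u * X 30 t = X 30 t * X 44 u :=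
  swap0 (K := K) 30 44 (by decide) (by decide) (by decide) (by decide) (by decide +kernel) t u

theorem sw_44_30' (t u : K) (g : GL chevF4.Idx K) : X 44 u * (X 30 t * g) = X 30 t * (X 44 u * g) := by
  rw [← mul_assoc, sw_44_30, mul_assoc]

theorem sw_47_30 (t u : K) : X 47 u * X 30 t = X 30 t * X 47 u :=
  swap0 (K := K) 30 47 (by decide) (by decide) (by decide) (by decide) (by decide +kernel) t u

theorem sw_47_30' (t u : K) (g : GL chevF4.Idx K) : X 47 u * (X 30 t * g) = X 30 t * (X 47 u * g) := by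
  rw [← mul_assoc, sw_47_30, mul_assoc]

theorem sw_39_30 (t u : K) : X 39 u * X 30 t = X 30 t * X 39 u :=
  swap0 (K := K) 30 39 (by decide) (by decide) (by decide) (by decide) (by decide +kernel) t u

theorem sw_39_30' (t u : K) (g : GL chevF4.Idx K) : X 39 u * (X 30 t * g) = X 30 t * (X 39 u * g) := by
  rw [← mul_assoc, sw_39_30, mul_assoc]

theorem sw_45_30 (t u : K) : X 45 u * X 30 t = X 30 t * X 45 u :=
  swap0 (K := K) 30 45 (by decide) (by decide) (by decide) (by decide) (by decide +kernel) t u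

theorem sw_45_30' (t u : K) (g : GL chevF4.Idx K) : X 45 u * (X 30 t * g) = X 30 t * (X 45 u * g) := by
  rw [← mul_assoc, sw_45_30, mul_assoc]

theorem sw_26_34 (t u : K) : X 26 u * X 34 t = X 34 t * (X 26 u * (X 36 (t * u) * X 42 (t ^ 2 * u))) := by
  have h := swap2 (K := K) 34 26 36 42 (-1) (1) 1 1 2 1 cast_neg_one' cast_one' (by decide) (by decide) (by decide) (by decide) (by decide +kernel) t u
  simpa only [pow_one] using h

theorem sw_26_34' (t u : K) (g : GL chevF4.Idx K) : X 26 u * (X 34 t * g) = X 34 t * (X 26 u * (X 36 (t * u) * (X 42 (t ^ 2 * u) * g))) := by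
  rw [← mul_assoc, sw_26_34, mul_assoc, mul_assoc, mul_assoc]

theorem sw_36_34 (t u : K) : X 36 u * X 34 t = X 34 t * X 36 u :=
  swap0e (K := K) 34 36 42 (-2) 1 1 cast_neg_two' (by decide) (by decide) (by decide) (by decide) (by decide +kernel) t u

theorem sw_36_34' (t u : K) (g : GL chevF4.Idx K) : X 36 u * (X 34 t * g) = X 34 t * (X 36 u * g) := by
  rw [← mul_assoc, sw_36_34, mul_assoc]

theorem sw_42_34 (t u : K) : X 42 u * X 34 t = X 34 t * X 42 u :=
  swap0 (K := K) 34 42 (by decide) (by decide) (by decide) (by decide) (by decide +kernel) t u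

theorem sw_42_34' (t u : K) (g : GL chevF4.Idx K) : X 42 u * (X 34 t * g) = X 34 t * (X 42 u * g) := by
  rw [← mul_assoc, sw_42_34, mul_assoc]

theorem sw_37_34 (t u : K) : X 37 u * X 34 t = X 34 t * X 37 u :=
  swap0 (K := K) 34 37 (by decide) (by decide) (by decide) (by decide) (by decide +kernel) t u

theorem sw_37_34' (t u : K) (g : GL chevF4.Idx K) : X 37 u * (X 34 t * g) = X 34 t * (X 37 u * g) := by
  rw [← mul_assoc, sw_37_34, mul_assoc]

theorem sw_32_34 (t u : K) : X 32 u * X 34 t = X 34 t * (X 32 u * (X 40 (t * u) * X 45 (t ^ 2 * u))) := by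
  have h := swap2 (K := K) 34 32 40 45 (-1) (-1) 1 1 2 1 cast_neg_one' cast_neg_one' (by decide) (by decide) (by decide) (by decide) (by decide +kernel) t u
  simpa only [pow_one] using h

theorem sw_32_34' (t u : K) (g : GL chevF4.Idx K) : X 32 u * (X 34 t * g) = X 34 t * (X 32 u * (X 40 (t * u) * (X 45 (t ^ 2 * u) * g))) := by
  rw [← mul_assoc, sw_32_34, mul_assoc, mul_assoc, mul_assoc]

theorem sw_38_34 (t u : K) : X 38 u * X 34 t = X 34 t * X 38 u :=
  swap0 (K := K) 34 38 (by decide) (by decide) (by decide) (by decide) (by decide +kernel) t u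

theorem sw_38_34' (t u : K) (g : GL chevF4.Idx K) : X 38 u * (X 34 t * g) = X 34 t * (X 38 u * g) := by
  rw [← mul_assoc, sw_38_34, mul_assoc]

theorem sw_43_34 (t u : K) : X 43 u * X 34 t = X 34 t * X 43 u :=
  swap0 (K := K) 34 43 (by decide) (by decide) (by decide) (by decide) (by decide +kernel) t u

theorem sw_43_34' (t u : K) (g : GL chevF4.Idx K) : X 43 u * (X 34 t * g) = X 34 t * (X 43 u * g) := by
  rw [← mul_assoc, sw_43_34, mul_assoc]

theorem sw_35_34 (t u : K) : X 35 u * X 34 t = X 34 t * X 35 u :=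
  swap0e (K := K) 34 35 41 (-2) 1 1 cast_neg_two' (by decide) (by decide) (by decide) (by decide) (by decide +kernel) t u

theorem sw_35_34' (t u : K) (g : GL chevF4.Idx K) : X 35 u * (X 34 t * g) = X 34 t * (X 35 u * g) := by
  rw [← mul_assoc, sw_35_34, mul_assoc]

theorem sw_31_34 (t u : K) : X 31 u * X 34 t = X 34 t * X 31 u :=
  swap0 (K := K) 34 31 (by decide) (by decide) (by decide) (by decide) (by decide +kernel) t u

theorem sw_31_34' (t u : K) (g : GL chevF4.Idx K) : X 31 u * (X 34 t * g) = X 34 t * (X 31 u * g) := by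
  rw [← mul_assoc, sw_31_34, mul_assoc]

theorem sw_40_34 (t u : K) : X 40 u * X 34 t = X 34 t * X 40 u :=
  swap0e (K := K) 34 40 45 (2) 1 1 cast_two' (by decide) (by decide) (by decide) (by decide) (by decide +kernel) t u

theorem sw_40_34' (t u : K) (g : GL chevF4.Idx K) : X 40 u * (X 34 t * g) = X 34 t * (X 40 u * g) := by
  rw [← mul_assoc, sw_40_34, mul_assoc]

theorem sw_46_34 (t u : K) : X 46 u * X 34 t = X 34 t * X 46 u :=
  swap0 (K := K) 34 46 (by decide) (by decide) (by decide) (by decide) (by decide +kernel) t u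

theorem sw_46_34' (t u : K) (g : GL chevF4.Idx K) : X 46 u * (X 34 t * g) = X 34 t * (X 46 u * g) := by
  rw [← mul_assoc, sw_46_34, mul_assoc]

theorem sw_29_34 (t u : K) : X 29 u * X 34 t = X 34 t * (X 29 u * X 38 (t * u)) := by
  have h := swap1 (K := K) 34 29 38 (1) 1 1 cast_one' (by decide) (by decide) (by decide) (by decide) (by decide +kernel) t u
  simpa only [pow_one] using h

theorem sw_29_34' (t u : K) (g : GL chevF4.Idx K) : X 29 u * (X 34 t * g) = X 34 t * (X 29 u * (X 38 (t * u) * g)) := by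
  rw [← mul_assoc, sw_29_34, mul_assoc, mul_assoc]

theorem sw_41_34 (t u : K) : X 41 u * X 34 t = X 34 t * X 41 u :=
  swap0 (K := K) 34 41 (by decide) (by decide) (by decide) (by decide) (by decide +kernel) t u

theorem sw_41_34' (t u : K) (g : GL chevF4.Idx K) : X 41 u * (X 34 t * g) = X 34 t * (X 41 u * g) := by
  rw [← mul_assoc, sw_41_34, mul_assoc]

theorem sw_44_34 (t u : K) : X 44 u * X 34 t = X 34 t * X 44 u :=
  swap0 (K := K) 34 44 (by decide) (by decide) (by decide) (by decide) (by decide +kernel) t u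

theorem sw_44_34' (t u : K) (g : GL chevF4.Idx K) : X 44 u * (X 34 t * g) = X 34 t * (X 44 u * g) := by
  rw [← mul_assoc, sw_44_34, mul_assoc]

theorem sw_47_34 (t u : K) : X 47 u * X 34 t = X 34 t * X 47 u :=
  swap0 (K := K) 34 47 (by decide) (by decide) (by decide) (by decide) (by decide +kernel) t u

theorem sw_47_34' (t u : K) (g : GL chevF4.Idx K) : X 47 u * (X 34 t * g) = X 34 t * (X 47 u * g) := by
  rw [← mul_assoc, sw_47_34, mul_assoc]

theorem sw_39_34 (t u : K) : X 39 u * X 34 t = X 34 t * (X 39 u * X 44 (t * u)) := by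
  have h := swap1 (K := K) 34 39 44 (1) 1 1 cast_one' (by decide) (by decide) (by decide) (by decide) (by decide +kernel) t u
  simpa only [pow_one] using h

theorem sw_39_34' (t u : K) (g : GL chevF4.Idx K) : X 39 u * (X 34 t * g) = X 34 t * (X 39 u * (X 44 (t * u) * g)) := by
  rw [← mul_assoc, sw_39_34, mul_assoc, mul_assoc]

theorem sw_45_34 (t u : K) : X 45 u * X 34 t = X 34 t * X 45 u :=
  swap0 (K := K) 34 45 (by decide) (by decide) (by decide) (by decide) (by decide +kernel) t u

theorem sw_45_34' (t u : K) (g : GL chevF4.Idx K) : X 45 u * (X 34 t * g) = X 34 t * (X 45 u * g) := by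
  rw [← mul_assoc, sw_45_34, mul_assoc]

theorem sw_36_26 (t u : K) : X 36 u * X 26 t = X 26 t * X 36 u :=
  swap0 (K := K) 26 36 (by decide) (by decide) (by decide) (by decide) (by decide +kernel) t u

theorem sw_36_26' (t u : K) (g : GL chevF4.Idx K) : X 36 u * (X 26 t * g) = X 26 t * (X 36 u * g) := by
  rw [← mul_assoc, sw_36_26, mul_assoc]

theorem sw_42_26 (t u : K) : X 42 u * X 26 t = X 26 t * X 42 u :=
  swap0 (K := K) 26 42 (by decide) (by decide) (by decide) (by decide) (by decide +kernel) t u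

theorem sw_42_26' (t u : K) (g : GL chevF4.Idx K) : X 42 u * (X 26 t * g) = X 26 t * (X 42 u * g) := by
  rw [← mul_assoc, sw_42_26, mul_assoc]

theorem sw_37_26 (t u : K) : X 37 u * X 26 t = X 26 t * (X 37 u * (X 39 (t * u) * X 46 (t * u ^ 2))) := by
  have h := swap2 (K := K) 26 37 39 46 (-1) (-1) 1 1 1 2 cast_neg_one' cast_neg_one' (by decide) (by decide) (by decide) (by decide) (by decide +kernel) t u
  simpa only [pow_one] using h

theorem sw_37_26' (t u : K) (g : GL chevF4.Idx K) : X 37 u * (X 26 t * g) = X 26 t * (X 37 u * (X 39 (t * u) * (X 46 (t * u ^ 2) * g))) := by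
  rw [← mul_assoc, sw_37_26, mul_assoc, mul_assoc, mul_assoc]

theorem sw_32_26 (t u : K) : X 32 u * X 26 t = X 26 t * X 32 u :=
  swap0 (K := K) 26 32 (by decide) (by decide) (by decide) (by decide) (by decide +kernel) t u

theorem sw_32_26' (t u : K) (g : GL chevF4.Idx K) : X 32 u * (X 26 t * g) = X 26 t * (X 32 u * g) := by
  rw [← mul_assoc, sw_32_26, mul_assoc]

theorem sw_38_26 (t u : K) : X 38 u * X 26 t = X 26 t * X 38 u :=
  swap0 (K := K) 26 38 (by decide) (by decide) (by decide) (by decide) (by decide +kernel) t u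

theorem sw_38_26' (t u : K) (g : GL chevF4.Idx K) : X 38 u * (X 26 t * g) = X 26 t * (X 38 u * g) := by
  rw [← mul_assoc, sw_38_26, mul_assoc]

theorem sw_43_26 (t u : K) : X 43 u * X 26 t = X 26 t * X 43 u :=
  swap0 (K := K) 26 43 (by decide) (by decide) (by decide) (by decide) (by decide +kernel) t u

theorem sw_43_26' (t u : K) (g : GL chevF4.Idx K) : X 43 u * (X 26 t * g) = X 26 t * (X 43 u * g) := by
  rw [← mul_assoc, sw_43_26, mul_assoc]

theorem sw_35_26 (t u : K) : X 35 u * X 26 t = X 26 t * X 35 u :=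
  swap0 (K := K) 26 35 (by decide) (by decide) (by decide) (by decide) (by decide +kernel) t u

theorem sw_35_26' (t u : K) (g : GL chevF4.Idx K) : X 35 u * (X 26 t * g) = X 26 t * (X 35 u * g) := by
  rw [← mul_assoc, sw_35_26, mul_assoc]

theorem sw_31_26 (t u : K) : X 31 u * X 26 t = X 26 t * X 31 u :=
  swap0 (K := K) 26 31 (by decide) (by decide) (by decide) (by decide) (by decide +kernel) t u

theorem sw_31_26' (t u : K) (g : GL chevF4.Idx K) : X 31 u * (X 26 t * g) = X 26 t * (X 31 u * g) := by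
  rw [← mul_assoc, sw_31_26, mul_assoc]

theorem sw_40_26 (t u : K) : X 40 u * X 26 t = X 26 t * X 40 u :=
  swap0 (K := K) 26 40 (by decide) (by decide) (by decide) (by decide) (by decide +kernel) t u

theorem sw_40_26' (t u : K) (g : GL chevF4.Idx K) : X 40 u * (X 26 t * g) = X 26 t * (X 40 u * g) := by
  rw [← mul_assoc, sw_40_26, mul_assoc]

theorem sw_46_26 (t u : K) : X 46 u * X 26 t = X 26 t * X 46 u :=
  swap0 (K := K) 26 46 (by decide) (by decide) (by decide) (by decide) (by decide +kernel) t u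

theorem sw_46_26' (t u : K) (g : GL chevF4.Idx K) : X 46 u * (X 26 t * g) = X 26 t * (X 46 u * g) := by
  rw [← mul_assoc, sw_46_26, mul_assoc]

theorem sw_29_26 (t u : K) : X 29 u * X 26 t = X 26 t * X 29 u :=
  swap0 (K := K) 26 29 (by decide) (by decide) (by decide) (by decide) (by decide +kernel) t u

theorem sw_29_26' (t u : K) (g : GL chevF4.Idx K) : X 29 u * (X 26 t * g) = X 26 t * (X 29 u * g) := by
  rw [← mul_assoc, sw_29_26, mul_assoc]

theorem sw_41_26 (t u : K) : X 41 u * X 26 t = X 26 t * (X 41 u * X 43 (t * u)) := by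
  have h := swap1 (K := K) 26 41 43 (-1) 1 1 cast_neg_one' (by decide) (by decide) (by decide) (by decide) (by decide +kernel) t u
  simpa only [pow_one] using h

theorem sw_41_26' (t u : K) (g : GL chevF4.Idx K) : X 41 u * (X 26 t * g) = X 26 t * (X 41 u * (X 43 (t * u) * g)) := by
  rw [← mul_assoc, sw_41_26, mul_assoc, mul_assoc]

theorem sw_44_26 (t u : K) : X 44 u * X 26 t = X 26 t * X 44 u :=
  swap0 (K := K) 26 44 (by decide) (by decide) (by decide) (by decide) (by decide +kernel) t u

theorem sw_44_26' (t u : K) (g : GL chevF4.Idx K) : X 44 u * (X 26 t * g) = X 26 t * (X 44 u * g) := by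
  rw [← mul_assoc, sw_44_26, mul_assoc]

theorem sw_47_26 (t u : K) : X 47 u * X 26 t = X 26 t * X 47 u :=
  swap0 (K := K) 26 47 (by decide) (by decide) (by decide) (by decide) (by decide +kernel) t u

theorem sw_47_26' (t u : K) (g : GL chevF4.Idx K) : X 47 u * (X 26 t * g) = X 26 t * (X 47 u * g) := by
  rw [← mul_assoc, sw_47_26, mul_assoc]

theorem sw_39_26 (t u : K) : X 39 u * X 26 t = X 26 t * X 39 u :=
  swap0 (K := K) 26 39 (by decide) (by decide) (by decide) (by decide) (by decide +kernel) t u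

theorem sw_39_26' (t u : K) (g : GL chevF4.Idx K) : X 39 u * (X 26 t * g) = X 26 t * (X 39 u * g) := by
  rw [← mul_assoc, sw_39_26, mul_assoc]

theorem sw_45_26 (t u : K) : X 45 u * X 26 t = X 26 t * (X 45 u * X 47 (t * u)) := by
  have h := swap1 (K := K) 26 45 47 (1) 1 1 cast_one' (by decide) (by decide) (by decide) (by decide) (by decide +kernel) t u
  simpa only [pow_one] using h

theorem sw_45_26' (t u : K) (g : GL chevF4.Idx K) : X 45 u * (X 26 t * g) = X 26 t * (X 45 u * (X 47 (t * u) * g)) := by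
  rw [← mul_assoc, sw_45_26, mul_assoc, mul_assoc]

theorem sw_42_36 (t u : K) : X 42 u * X 36 t = X 36 t * X 42 u :=
  swap0 (K := K) 36 42 (by decide) (by decide) (by decide) (by decide) (by decide +kernel) t u

theorem sw_42_36' (t u : K) (g : GL chevF4.Idx K) : X 42 u * (X 36 t * g) = X 36 t * (X 42 u * g) := by
  rw [← mul_assoc, sw_42_36, mul_assoc]

theorem sw_37_36 (t u : K) : X 37 u * X 36 t = X 36 t * (X 37 u * X 44 (t * u)) := by
  have h := swap1 (K := K) 36 37 44 (1) 1 1 cast_one' (by decide) (by decide) (by decide) (by decide) (by decide +kernel) t u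
  simpa only [pow_one] using h

theorem sw_37_36' (t u : K) (g : GL chevF4.Idx K) : X 37 u * (X 36 t * g) = X 36 t * (X 37 u * (X 44 (t * u) * g)) := by
  rw [← mul_assoc, sw_37_36, mul_assoc, mul_assoc]

theorem sw_32_36 (t u : K) : X 32 u * X 36 t = X 36 t * X 32 u :=
  swap0 (K := K) 36 32 (by decide) (by decide) (by decide) (by decide) (by decide +kernel) t u

theorem sw_32_36' (t u : K) (g : GL chevF4.Idx K) : X 32 u * (X 36 t * g) = X 36 t * (X 32 u * g) := by
  rw [← mul_assoc, sw_32_36, mul_assoc]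

theorem sw_38_36 (t u : K) : X 38 u * X 36 t = X 36 t * X 38 u :=
  swap0 (K := K) 36 38 (by decide) (by decide) (by decide) (by decide) (by decide +kernel) t u

theorem sw_38_36' (t u : K) (g : GL chevF4.Idx K) : X 38 u * (X 36 t * g) = X 36 t * (X 38 u * g) := by
  rw [← mul_assoc, sw_38_36, mul_assoc]

theorem sw_43_36 (t u : K) : X 43 u * X 36 t = X 36 t * X 43 u :=
  swap0 (K := K) 36 43 (by decide) (by decide) (by decide) (by decide) (by decide +kernel) t u

theorem sw_43_36' (t u : K) (g : GL chevF4.Idx K) : X 43 u * (X 36 t * g) = X 36 t * (X 43 u * g) := by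
  rw [← mul_assoc, sw_43_36, mul_assoc]

theorem sw_35_36 (t u : K) : X 35 u * X 36 t = X 36 t * X 35 u :=
  swap0e (K := K) 36 35 43 (2) 1 1 cast_two' (by decide) (by decide) (by decide) (by decide) (by decide +kernel) t u

theorem sw_35_36' (t u : K) (g : GL chevF4.Idx K) : X 35 u * (X 36 t * g) = X 36 t * (X 35 u * g) := by
  rw [← mul_assoc, sw_35_36, mul_assoc]

theorem sw_31_36 (t u : K) : X 31 u * X 36 t = X 36 t * X 31 u :=
  swap0 (K := K) 36 31 (by decide) (by decide) (by decide) (by decide) (by decide +kernel) t u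

theorem sw_31_36' (t u : K) (g : GL chevF4.Idx K) : X 31 u * (X 36 t * g) = X 36 t * (X 31 u * g) := by
  rw [← mul_assoc, sw_31_36, mul_assoc]

theorem sw_40_36 (t u : K) : X 40 u * X 36 t = X 36 t * X 40 u :=
  swap0e (K := K) 36 40 47 (2) 1 1 cast_two' (by decide) (by decide) (by decide) (by decide) (by decide +kernel) t u

theorem sw_40_36' (t u : K) (g : GL chevF4.Idx K) : X 40 u * (X 36 t * g) = X 36 t * (X 40 u * g) := by
  rw [← mul_assoc, sw_40_36, mul_assoc]

theorem sw_46_36 (t u : K) : X 46 u * X 36 t = X 36 t * X 46 u :=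
  swap0 (K := K) 36 46 (by decide) (by decide) (by decide) (by decide) (by decide +kernel) t u

theorem sw_46_36' (t u : K) (g : GL chevF4.Idx K) : X 46 u * (X 36 t * g) = X 36 t * (X 46 u * g) := by
  rw [← mul_assoc, sw_46_36, mul_assoc]

theorem sw_29_36 (t u : K) : X 29 u * X 36 t = X 36 t * X 29 u :=
  swap0 (K := K) 36 29 (by decide) (by decide) (by decide) (by decide) (by decide +kernel) t u

theorem sw_29_36' (t u : K) (g : GL chevF4.Idx K) : X 29 u * (X 36 t * g) = X 36 t * (X 29 u * g) := by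
  rw [← mul_assoc, sw_29_36, mul_assoc]

theorem sw_41_36 (t u : K) : X 41 u * X 36 t = X 36 t * X 41 u :=
  swap0 (K := K) 36 41 (by decide) (by decide) (by decide) (by decide) (by decide +kernel) t u

theorem sw_41_36' (t u : K) (g : GL chevF4.Idx K) : X 41 u * (X 36 t * g) = X 36 t * (X 41 u * g) := by
  rw [← mul_assoc, sw_41_36, mul_assoc]

theorem sw_44_36 (t u : K) : X 44 u * X 36 t = X 36 t * X 44 u :=
  swap0 (K := K) 36 44 (by decide) (by decide) (by decide) (by decide) (by decide +kernel) t u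

theorem sw_44_36' (t u : K) (g : GL chevF4.Idx K) : X 44 u * (X 36 t * g) = X 36 t * (X 44 u * g) := by
  rw [← mul_assoc, sw_44_36, mul_assoc]

theorem sw_47_36 (t u : K) : X 47 u * X 36 t = X 36 t * X 47 u :=
  swap0 (K := K) 36 47 (by decide) (by decide) (by decide) (by decide) (by decide +kernel) t u

theorem sw_47_36' (t u : K) (g : GL chevF4.Idx K) : X 47 u * (X 36 t * g) = X 36 t * (X 47 u * g) := by
  rw [← mul_assoc, sw_47_36, mul_assoc]

theorem sw_39_36 (t u : K) : X 39 u * X 36 t = X 36 t * X 39 u :=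
  swap0 (K := K) 36 39 (by decide) (by decide) (by decide) (by decide) (by decide +kernel) t u

theorem sw_39_36' (t u : K) (g : GL chevF4.Idx K) : X 39 u * (X 36 t * g) = X 36 t * (X 39 u * g) := by
  rw [← mul_assoc, sw_39_36, mul_assoc]

theorem sw_45_36 (t u : K) : X 45 u * X 36 t = X 36 t * X 45 u :=
  swap0 (K := K) 36 45 (by decide) (by decide) (by decide) (by decide) (by decide +kernel) t u

theorem sw_45_36' (t u : K) (g : GL chevF4.Idx K) : X 45 u * (X 36 t * g) = X 36 t * (X 45 u * g) := by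
  rw [← mul_assoc, sw_45_36, mul_assoc]

theorem sw_37_42 (t u : K) : X 37 u * X 42 t = X 42 t * X 37 u :=
  swap0 (K := K) 42 37 (by decide) (by decide) (by decide) (by decide) (by decide +kernel) t u

theorem sw_37_42' (t u : K) (g : GL chevF4.Idx K) : X 37 u * (X 42 t * g) = X 42 t * (X 37 u * g) := by
  rw [← mul_assoc, sw_37_42, mul_assoc]

theorem sw_32_42 (t u : K) : X 32 u * X 42 t = X 42 t * (X 32 u * X 47 (t * u)) := by
  have h := swap1 (K := K) 42 32 47 (-1) 1 1 cast_neg_one' (by decide) (by decide) (by decide) (by decide) (by decide +kernel) t u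
  simpa only [pow_one] using h

theorem sw_32_42' (t u : K) (g : GL chevF4.Idx K) : X 32 u * (X 42 t * g) = X 42 t * (X 32 u * (X 47 (t * u) * g)) := by
  rw [← mul_assoc, sw_32_42, mul_assoc, mul_assoc]

theorem sw_38_42 (t u : K) : X 38 u * X 42 t = X 42 t * X 38 u :=
  swap0 (K := K) 42 38 (by decide) (by decide) (by decide) (by decide) (by decide +kernel) t u

theorem sw_38_42' (t u : K) (g : GL chevF4.Idx K) : X 38 u * (X 42 t * g) = X 42 t * (X 38 u * g) := by
  rw [← mul_assoc, sw_38_42, mul_assoc]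

theorem sw_43_42 (t u : K) : X 43 u * X 42 t = X 42 t * X 43 u :=
  swap0 (K := K) 42 43 (by decide) (by decide) (by decide) (by decide) (by decide +kernel) t u

theorem sw_43_42' (t u : K) (g : GL chevF4.Idx K) : X 43 u * (X 42 t * g) = X 42 t * (X 43 u * g) := by
  rw [← mul_assoc, sw_43_42, mul_assoc]

theorem sw_35_42 (t u : K) : X 35 u * X 42 t = X 42 t * X 35 u :=
  swap0 (K := K) 42 35 (by decide) (by decide) (by decide) (by decide) (by decide +kernel) t u

theorem sw_35_42' (t u : K) (g : GL chevF4.Idx K) : X 35 u * (X 42 t * g) = X 42 t * (X 35 u * g) := by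
  rw [← mul_assoc, sw_35_42, mul_assoc]

theorem sw_31_42 (t u : K) : X 31 u * X 42 t = X 42 t * X 31 u :=
  swap0 (K := K) 42 31 (by decide) (by decide) (by decide) (by decide) (by decide +kernel) t u

theorem sw_31_42' (t u : K) (g : GL chevF4.Idx K) : X 31 u * (X 42 t * g) = X 42 t * (X 31 u * g) := by
  rw [← mul_assoc, sw_31_42, mul_assoc]

theorem sw_40_42 (t u : K) : X 40 u * X 42 t = X 42 t * X 40 u :=
  swap0 (K := K) 42 40 (by decide) (by decide) (by decide) (by decide) (by decide +kernel) t u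

theorem sw_40_42' (t u : K) (g : GL chevF4.Idx K) : X 40 u * (X 42 t * g) = X 42 t * (X 40 u * g) := by
  rw [← mul_assoc, sw_40_42, mul_assoc]

theorem sw_46_42 (t u : K) : X 46 u * X 42 t = X 42 t * X 46 u :=
  swap0 (K := K) 42 46 (by decide) (by decide) (by decide) (by decide) (by decide +kernel) t u

theorem sw_46_42' (t u : K) (g : GL chevF4.Idx K) : X 46 u * (X 42 t * g) = X 42 t * (X 46 u * g) := by
  rw [← mul_assoc, sw_46_42, mul_assoc]

theorem sw_29_42 (t u : K) : X 29 u * X 42 t = X 42 t * X 29 u :=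
  swap0 (K := K) 42 29 (by decide) (by decide) (by decide) (by decide) (by decide +kernel) t u

theorem sw_29_42' (t u : K) (g : GL chevF4.Idx K) : X 29 u * (X 42 t * g) = X 42 t * (X 29 u * g) := by
  rw [← mul_assoc, sw_29_42, mul_assoc]

theorem sw_41_42 (t u : K) : X 41 u * X 42 t = X 42 t * X 41 u :=
  swap0 (K := K) 42 41 (by decide) (by decide) (by decide) (by decide) (by decide +kernel) t u

theorem sw_41_42' (t u : K) (g : GL chevF4.Idx K) : X 41 u * (X 42 t * g) = X 42 t * (X 41 u * g) := by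
  rw [← mul_assoc, sw_41_42, mul_assoc]

theorem sw_44_42 (t u : K) : X 44 u * X 42 t = X 42 t * X 44 u :=
  swap0 (K := K) 42 44 (by decide) (by decide) (by decide) (by decide) (by decide +kernel) t u

theorem sw_44_42' (t u : K) (g : GL chevF4.Idx K) : X 44 u * (X 42 t * g) = X 42 t * (X 44 u * g) := by
  rw [← mul_assoc, sw_44_42, mul_assoc]

theorem sw_47_42 (t u : K) : X 47 u * X 42 t = X 42 t * X 47 u :=
  swap0 (K := K) 42 47 (by decide) (by decide) (by decide) (by decide) (by decide +kernel) t u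

theorem sw_47_42' (t u : K) (g : GL chevF4.Idx K) : X 47 u * (X 42 t * g) = X 42 t * (X 47 u * g) := by
  rw [← mul_assoc, sw_47_42, mul_assoc]

theorem sw_39_42 (t u : K) : X 39 u * X 42 t = X 42 t * X 39 u :=
  swap0 (K := K) 42 39 (by decide) (by decide) (by decide) (by decide) (by decide +kernel) t u

theorem sw_39_42' (t u : K) (g : GL chevF4.Idx K) : X 39 u * (X 42 t * g) = X 42 t * (X 39 u * g) := by
  rw [← mul_assoc, sw_39_42, mul_assoc]

theorem sw_45_42 (t u : K) : X 45 u * X 42 t = X 42 t * X 45 u :=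
  swap0 (K := K) 42 45 (by decide) (by decide) (by decide) (by decide) (by decide +kernel) t u

theorem sw_45_42' (t u : K) (g : GL chevF4.Idx K) : X 45 u * (X 42 t * g) = X 42 t * (X 45 u * g) := by
  rw [← mul_assoc, sw_45_42, mul_assoc]

theorem sw_32_37 (t u : K) : X 32 u * X 37 t = X 37 t * X 32 u :=
  swap0 (K := K) 37 32 (by decide) (by decide) (by decide) (by decide) (by decide +kernel) t u

theorem sw_32_37' (t u : K) (g : GL chevF4.Idx K) : X 32 u * (X 37 t * g) = X 37 t * (X 32 u * g) := by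
  rw [← mul_assoc, sw_32_37, mul_assoc]

theorem sw_38_37 (t u : K) : X 38 u * X 37 t = X 37 t * X 38 u :=
  swap0e (K := K) 37 38 45 (-2) 1 1 cast_neg_two' (by decide) (by decide) (by decide) (by decide) (by decide +kernel) t u

theorem sw_38_37' (t u : K) (g : GL chevF4.Idx K) : X 38 u * (X 37 t * g) = X 37 t * (X 38 u * g) := by
  rw [← mul_assoc, sw_38_37, mul_assoc]

theorem sw_43_37 (t u : K) : X 43 u * X 37 t = X 37 t * X 43 u :=
  swap0 (K := K) 37 43 (by decide) (by decide) (by decide) (by decide) (by decide +kernel) t u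

theorem sw_43_37' (t u : K) (g : GL chevF4.Idx K) : X 43 u * (X 37 t * g) = X 37 t * (X 43 u * g) := by
  rw [← mul_assoc, sw_43_37, mul_assoc]

theorem sw_35_37 (t u : K) : X 35 u * X 37 t = X 37 t * X 35 u :=
  swap0 (K := K) 37 35 (by decide) (by decide) (by decide) (by decide) (by decide +kernel) t u

theorem sw_35_37' (t u : K) (g : GL chevF4.Idx K) : X 35 u * (X 37 t * g) = X 37 t * (X 35 u * g) := by
  rw [← mul_assoc, sw_35_37, mul_assoc]

theorem sw_31_37 (t u : K) : X 31 u * X 37 t = X 37 t * X 31 u :=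
  swap0 (K := K) 37 31 (by decide) (by decide) (by decide) (by decide) (by decide +kernel) t u

theorem sw_31_37' (t u : K) (g : GL chevF4.Idx K) : X 31 u * (X 37 t * g) = X 37 t * (X 31 u * g) := by
  rw [← mul_assoc, sw_31_37, mul_assoc]

theorem sw_40_37 (t u : K) : X 40 u * X 37 t = X 37 t * X 40 u :=
  swap0 (K := K) 37 40 (by decide) (by decide) (by decide) (by decide) (by decide +kernel) t u

theorem sw_40_37' (t u : K) (g : GL chevF4.Idx K) : X 40 u * (X 37 t * g) = X 37 t * (X 40 u * g) := by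
  rw [← mul_assoc, sw_40_37, mul_assoc]

theorem sw_46_37 (t u : K) : X 46 u * X 37 t = X 37 t * X 46 u :=
  swap0 (K := K) 37 46 (by decide) (by decide) (by decide) (by decide) (by decide +kernel) t u

theorem sw_46_37' (t u : K) (g : GL chevF4.Idx K) : X 46 u * (X 37 t * g) = X 37 t * (X 46 u * g) := by
  rw [← mul_assoc, sw_46_37, mul_assoc]

theorem sw_29_37 (t u : K) : X 29 u * X 37 t = X 37 t * (X 29 u * X 40 (t * u)) := by
  have h := swap1 (K := K) 37 29 40 (-1) 1 1 cast_neg_one' (by decide) (by decide) (by decide) (by decide) (by decide +kernel) t u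
  simpa only [pow_one] using h

theorem sw_29_37' (t u : K) (g : GL chevF4.Idx K) : X 29 u * (X 37 t * g) = X 37 t * (X 29 u * (X 40 (t * u) * g)) := by
  rw [← mul_assoc, sw_29_37, mul_assoc, mul_assoc]

theorem sw_41_37 (t u : K) : X 41 u * X 37 t = X 37 t * X 41 u :=
  swap0 (K := K) 37 41 (by decide) (by decide) (by decide) (by decide) (by decide +kernel) t u

theorem sw_41_37' (t u : K) (g : GL chevF4.Idx K) : X 41 u * (X 37 t * g) = X 37 t * (X 41 u * g) := by
  rw [← mul_assoc, sw_41_37, mul_assoc]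

theorem sw_44_37 (t u : K) : X 44 u * X 37 t = X 37 t * X 44 u :=
  swap0 (K := K) 37 44 (by decide) (by decide) (by decide) (by decide) (by decide +kernel) t u

theorem sw_44_37' (t u : K) (g : GL chevF4.Idx K) : X 44 u * (X 37 t * g) = X 37 t * (X 44 u * g) := by
  rw [← mul_assoc, sw_44_37, mul_assoc]

theorem sw_47_37 (t u : K) : X 47 u * X 37 t = X 37 t * X 47 u :=
  swap0 (K := K) 37 47 (by decide) (by decide) (by decide) (by decide) (by decide +kernel) t u

theorem sw_47_37' (t u : K) (g : GL chevF4.Idx K) : X 47 u * (X 37 t * g) = X 37 t * (X 47 u * g) := by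
  rw [← mul_assoc, sw_47_37, mul_assoc]

theorem sw_39_37 (t u : K) : X 39 u * X 37 t = X 37 t * X 39 u :=
  swap0e (K := K) 37 39 46 (-2) 1 1 cast_neg_two' (by decide) (by decide) (by decide) (by decide) (by decide +kernel) t u

theorem sw_39_37' (t u : K) (g : GL chevF4.Idx K) : X 39 u * (X 37 t * g) = X 37 t * (X 39 u * g) := by
  rw [← mul_assoc, sw_39_37, mul_assoc]

theorem sw_45_37 (t u : K) : X 45 u * X 37 t = X 37 t * X 45 u :=
  swap0 (K := K) 37 45 (by decide) (by decide) (by decide) (by decide) (by decide +kernel) t u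

theorem sw_45_37' (t u : K) (g : GL chevF4.Idx K) : X 45 u * (X 37 t * g) = X 37 t * (X 45 u * g) := by
  rw [← mul_assoc, sw_45_37, mul_assoc]

theorem sw_38_32 (t u : K) : X 38 u * X 32 t = X 32 t * X 38 u :=
  swap0 (K := K) 32 38 (by decide) (by decide) (by decide) (by decide) (by decide +kernel) t u

theorem sw_38_32' (t u : K) (g : GL chevF4.Idx K) : X 38 u * (X 32 t * g) = X 32 t * (X 38 u * g) := by
  rw [← mul_assoc, sw_38_32, mul_assoc]

theorem sw_43_32 (t u : K) : X 43 u * X 32 t = X 32 t * X 43 u :=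
  swap0 (K := K) 32 43 (by decide) (by decide) (by decide) (by decide) (by decide +kernel) t u

theorem sw_43_32' (t u : K) (g : GL chevF4.Idx K) : X 43 u * (X 32 t * g) = X 32 t * (X 43 u * g) := by
  rw [← mul_assoc, sw_43_32, mul_assoc]

theorem sw_35_32 (t u : K) : X 35 u * X 32 t = X 32 t * X 35 u :=
  swap0 (K := K) 32 35 (by decide) (by decide) (by decide) (by decide) (by decide +kernel) t u

theorem sw_35_32' (t u : K) (g : GL chevF4.Idx K) : X 35 u * (X 32 t * g) = X 32 t * (X 35 u * g) := by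
  rw [← mul_assoc, sw_35_32, mul_assoc]

theorem sw_31_32 (t u : K) : X 31 u * X 32 t = X 32 t * X 31 u :=
  swap0 (K := K) 32 31 (by decide) (by decide) (by decide) (by decide) (by decide +kernel) t u

theorem sw_31_32' (t u : K) (g : GL chevF4.Idx K) : X 31 u * (X 32 t * g) = X 32 t * (X 31 u * g) := by
  rw [← mul_assoc, sw_31_32, mul_assoc]

theorem sw_40_32 (t u : K) : X 40 u * X 32 t = X 32 t * X 40 u :=
  swap0 (K := K) 32 40 (by decide) (by decide) (by decide) (by decide) (by decide +kernel) t u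

theorem sw_40_32' (t u : K) (g : GL chevF4.Idx K) : X 40 u * (X 32 t * g) = X 32 t * (X 40 u * g) := by
  rw [← mul_assoc, sw_40_32, mul_assoc]

theorem sw_46_32 (t u : K) : X 46 u * X 32 t = X 32 t * X 46 u :=
  swap0 (K := K) 32 46 (by decide) (by decide) (by decide) (by decide) (by decide +kernel) t u

theorem sw_46_32' (t u : K) (g : GL chevF4.Idx K) : X 46 u * (X 32 t * g) = X 32 t * (X 46 u * g) := by
  rw [← mul_assoc, sw_46_32, mul_assoc]

theorem sw_29_32 (t u : K) : X 29 u * X 32 t = X 32 t * X 29 u :=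
  swap0 (K := K) 32 29 (by decide) (by decide) (by decide) (by decide) (by decide +kernel) t u

theorem sw_29_32' (t u : K) (g : GL chevF4.Idx K) : X 29 u * (X 32 t * g) = X 32 t * (X 29 u * g) := by
  rw [← mul_assoc, sw_29_32, mul_assoc]

theorem sw_41_32 (t u : K) : X 41 u * X 32 t = X 32 t * (X 41 u * X 46 (t * u)) := by
  have h := swap1 (K := K) 32 41 46 (1) 1 1 cast_one' (by decide) (by decide) (by decide) (by decide) (by decide +kernel) t u
  simpa only [pow_one] using h

theorem sw_41_32' (t u : K) (g : GL chevF4.Idx K) : X 41 u * (X 32 t * g) = X 32 t * (X 41 u * (X 46 (t * u) * g)) := by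
  rw [← mul_assoc, sw_41_32, mul_assoc, mul_assoc]

theorem sw_44_32 (t u : K) : X 44 u * X 32 t = X 32 t * X 44 u :=
  swap0 (K := K) 32 44 (by decide) (by decide) (by decide) (by decide) (by decide +kernel) t u

theorem sw_44_32' (t u : K) (g : GL chevF4.Idx K) : X 44 u * (X 32 t * g) = X 32 t * (X 44 u * g) := by
  rw [← mul_assoc, sw_44_32, mul_assoc]

theorem sw_47_32 (t u : K) : X 47 u * X 32 t = X 32 t * X 47 u :=
  swap0 (K := K) 32 47 (by decide) (by decide) (by decide) (by decide) (by decide +kernel) t u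

theorem sw_47_32' (t u : K) (g : GL chevF4.Idx K) : X 47 u * (X 32 t * g) = X 32 t * (X 47 u * g) := by
  rw [← mul_assoc, sw_47_32, mul_assoc]

theorem sw_39_32 (t u : K) : X 39 u * X 32 t = X 32 t * X 39 u :=
  swap0 (K := K) 32 39 (by decide) (by decide) (by decide) (by decide) (by decide +kernel) t u

theorem sw_39_32' (t u : K) (g : GL chevF4.Idx K) : X 39 u * (X 32 t * g) = X 32 t * (X 39 u * g) := by
  rw [← mul_assoc, sw_39_32, mul_assoc]

theorem sw_45_32 (t u : K) : X 45 u * X 32 t = X 32 t * X 45 u :=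
  swap0 (K := K) 32 45 (by decide) (by decide) (by decide) (by decide) (by decide +kernel) t u

theorem sw_45_32' (t u : K) (g : GL chevF4.Idx K) : X 45 u * (X 32 t * g) = X 32 t * (X 45 u * g) := by
  rw [← mul_assoc, sw_45_32, mul_assoc]

theorem sw_43_38 (t u : K) : X 43 u * X 38 t = X 38 t * X 43 u :=
  swap0 (K := K) 38 43 (by decide) (by decide) (by decide) (by decide) (by decide +kernel) t u

theorem sw_43_38' (t u : K) (g : GL chevF4.Idx K) : X 43 u * (X 38 t * g) = X 38 t * (X 43 u * g) := by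
  rw [← mul_assoc, sw_43_38, mul_assoc]

theorem sw_35_38 (t u : K) : X 35 u * X 38 t = X 38 t * (X 35 u * X 44 (t * u)) := by
  have h := swap1 (K := K) 38 35 44 (1) 1 1 cast_one' (by decide) (by decide) (by decide) (by decide) (by decide +kernel) t u
  simpa only [pow_one] using h

theorem sw_35_38' (t u : K) (g : GL chevF4.Idx K) : X 35 u * (X 38 t * g) = X 38 t * (X 35 u * (X 44 (t * u) * g)) := by
  rw [← mul_assoc, sw_35_38, mul_assoc, mul_assoc]

theorem sw_31_38 (t u : K) : X 31 u * X 38 t = X 38 t * X 31 u :=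
  swap0 (K := K) 38 31 (by decide) (by decide) (by decide) (by decide) (by decide +kernel) t u

theorem sw_31_38' (t u : K) (g : GL chevF4.Idx K) : X 31 u * (X 38 t * g) = X 38 t * (X 31 u * g) := by
  rw [← mul_assoc, sw_31_38, mul_assoc]

theorem sw_40_38 (t u : K) : X 40 u * X 38 t = X 38 t * X 40 u :=
  swap0 (K := K) 38 40 (by decide) (by decide) (by decide) (by decide) (by decide +kernel) t u

theorem sw_40_38' (t u : K) (g : GL chevF4.Idx K) : X 40 u * (X 38 t * g) = X 38 t * (X 40 u * g) := by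
  rw [← mul_assoc, sw_40_38, mul_assoc]

theorem sw_46_38 (t u : K) : X 46 u * X 38 t = X 38 t * X 46 u :=
  swap0 (K := K) 38 46 (by decide) (by decide) (by decide) (by decide) (by decide +kernel) t u

theorem sw_46_38' (t u : K) (g : GL chevF4.Idx K) : X 46 u * (X 38 t * g) = X 38 t * (X 46 u * g) := by
  rw [← mul_assoc, sw_46_38, mul_assoc]

theorem sw_29_38 (t u : K) : X 29 u * X 38 t = X 38 t * X 29 u :=
  swap0 (K := K) 38 29 (by decide) (by decide) (by decide) (by decide) (by decide +kernel) t u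

theorem sw_29_38' (t u : K) (g : GL chevF4.Idx K) : X 29 u * (X 38 t * g) = X 38 t * (X 29 u * g) := by
  rw [← mul_assoc, sw_29_38, mul_assoc]

theorem sw_41_38 (t u : K) : X 41 u * X 38 t = X 38 t * X 41 u :=
  swap0 (K := K) 38 41 (by decide) (by decide) (by decide) (by decide) (by decide +kernel) t u

theorem sw_41_38' (t u : K) (g : GL chevF4.Idx K) : X 41 u * (X 38 t * g) = X 38 t * (X 41 u * g) := by
  rw [← mul_assoc, sw_41_38, mul_assoc]

theorem sw_44_38 (t u : K) : X 44 u * X 38 t = X 38 t * X 44 u :=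
  swap0 (K := K) 38 44 (by decide) (by decide) (by decide) (by decide) (by decide +kernel) t u

theorem sw_44_38' (t u : K) (g : GL chevF4.Idx K) : X 44 u * (X 38 t * g) = X 38 t * (X 44 u * g) := by
  rw [← mul_assoc, sw_44_38, mul_assoc]

theorem sw_47_38 (t u : K) : X 47 u * X 38 t = X 38 t * X 47 u :=
  swap0 (K := K) 38 47 (by decide) (by decide) (by decide) (by decide) (by decide +kernel) t u

theorem sw_47_38' (t u : K) (g : GL chevF4.Idx K) : X 47 u * (X 38 t * g) = X 38 t * (X 47 u * g) := by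
  rw [← mul_assoc, sw_47_38, mul_assoc]

theorem sw_39_38 (t u : K) : X 39 u * X 38 t = X 38 t * X 39 u :=
  swap0e (K := K) 38 39 47 (-2) 1 1 cast_neg_two' (by decide) (by decide) (by decide) (by decide) (by decide +kernel) t u

theorem sw_39_38' (t u : K) (g : GL chevF4.Idx K) : X 39 u * (X 38 t * g) = X 38 t * (X 39 u * g) := by
  rw [← mul_assoc, sw_39_38, mul_assoc]

theorem sw_45_38 (t u : K) : X 45 u * X 38 t = X 38 t * X 45 u :=
  swap0 (K := K) 38 45 (by decide) (by decide) (by decide) (by decide) (by decide +kernel) t u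

theorem sw_45_38' (t u : K) (g : GL chevF4.Idx K) : X 45 u * (X 38 t * g) = X 38 t * (X 45 u * g) := by
  rw [← mul_assoc, sw_45_38, mul_assoc]

theorem sw_35_43 (t u : K) : X 35 u * X 43 t = X 43 t * X 35 u :=
  swap0 (K := K) 43 35 (by decide) (by decide) (by decide) (by decide) (by decide +kernel) t u

theorem sw_35_43' (t u : K) (g : GL chevF4.Idx K) : X 35 u * (X 43 t * g) = X 43 t * (X 35 u * g) := by
  rw [← mul_assoc, sw_35_43, mul_assoc]

theorem sw_31_43 (t u : K) : X 31 u * X 43 t = X 43 t * (X 31 u * X 47 (t * u)) := by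
  have h := swap1 (K := K) 43 31 47 (1) 1 1 cast_one' (by decide) (by decide) (by decide) (by decide) (by decide +kernel) t u
  simpa only [pow_one] using h

theorem sw_31_43' (t u : K) (g : GL chevF4.Idx K) : X 31 u * (X 43 t * g) = X 43 t * (X 31 u * (X 47 (t * u) * g)) := by
  rw [← mul_assoc, sw_31_43, mul_assoc, mul_assoc]

theorem sw_40_43 (t u : K) : X 40 u * X 43 t = X 43 t * X 40 u :=
  swap0 (K := K) 43 40 (by decide) (by decide) (by decide) (by decide) (by decide +kernel) t u

theorem sw_40_43' (t u : K) (g : GL chevF4.Idx K) : X 40 u * (X 43 t * g) = X 43 t * (X 40 u * g) := by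
  rw [← mul_assoc, sw_40_43, mul_assoc]

theorem sw_46_43 (t u : K) : X 46 u * X 43 t = X 43 t * X 46 u :=
  swap0 (K := K) 43 46 (by decide) (by decide) (by decide) (by decide) (by decide +kernel) t u

theorem sw_46_43' (t u : K) (g : GL chevF4.Idx K) : X 46 u * (X 43 t * g) = X 43 t * (X 46 u * g) := by
  rw [← mul_assoc, sw_46_43, mul_assoc]

theorem sw_29_43 (t u : K) : X 29 u * X 43 t = X 43 t * X 29 u :=
  swap0 (K := K) 43 29 (by decide) (by decide) (by decide) (by decide) (by decide +kernel) t u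

theorem sw_29_43' (t u : K) (g : GL chevF4.Idx K) : X 29 u * (X 43 t * g) = X 43 t * (X 29 u * g) := by
  rw [← mul_assoc, sw_29_43, mul_assoc]

theorem sw_41_43 (t u : K) : X 41 u * X 43 t = X 43 t * X 41 u :=
  swap0 (K := K) 43 41 (by decide) (by decide) (by decide) (by decide) (by decide +kernel) t u

theorem sw_41_43' (t u : K) (g : GL chevF4.Idx K) : X 41 u * (X 43 t * g) = X 43 t * (X 41 u * g) := by
  rw [← mul_assoc, sw_41_43, mul_assoc]

theorem sw_44_43 (t u : K) : X 44 u * X 43 t = X 43 t * X 44 u :=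
  swap0 (K := K) 43 44 (by decide) (by decide) (by decide) (by decide) (by decide +kernel) t u

theorem sw_44_43' (t u : K) (g : GL chevF4.Idx K) : X 44 u * (X 43 t * g) = X 43 t * (X 44 u * g) := by
  rw [← mul_assoc, sw_44_43, mul_assoc]

theorem sw_47_43 (t u : K) : X 47 u * X 43 t = X 43 t * X 47 u :=
  swap0 (K := K) 43 47 (by decide) (by decide) (by decide) (by decide) (by decide +kernel) t u

theorem sw_47_43' (t u : K) (g : GL chevF4.Idx K) : X 47 u * (X 43 t * g) = X 43 t * (X 47 u * g) := by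
  rw [← mul_assoc, sw_47_43, mul_assoc]

theorem sw_39_43 (t u : K) : X 39 u * X 43 t = X 43 t * X 39 u :=
  swap0 (K := K) 43 39 (by decide) (by decide) (by decide) (by decide) (by decide +kernel) t u

theorem sw_39_43' (t u : K) (g : GL chevF4.Idx K) : X 39 u * (X 43 t * g) = X 43 t * (X 39 u * g) := by
  rw [← mul_assoc, sw_39_43, mul_assoc]

theorem sw_45_43 (t u : K) : X 45 u * X 43 t = X 43 t * X 45 u :=
  swap0 (K := K) 43 45 (by decide) (by decide) (by decide) (by decide) (by decide +kernel) t u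

theorem sw_45_43' (t u : K) (g : GL chevF4.Idx K) : X 45 u * (X 43 t * g) = X 43 t * (X 45 u * g) := by
  rw [← mul_assoc, sw_45_43, mul_assoc]

theorem sw_31_35 (t u : K) : X 31 u * X 35 t = X 35 t * (X 31 u * (X 40 (t * u) * X 46 (t ^ 2 * u))) := by
  have h := swap2 (K := K) 35 31 40 46 (1) (1) 1 1 2 1 cast_one' cast_one' (by decide) (by decide) (by decide) (by decide) (by decide +kernel) t u
  simpa only [pow_one] using h

theorem sw_31_35' (t u : K) (g : GL chevF4.Idx K) : X 31 u * (X 35 t * g) = X 35 t * (X 31 u * (X 40 (t * u) * (X 46 (t ^ 2 * u) * g))) := by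
  rw [← mul_assoc, sw_31_35, mul_assoc, mul_assoc, mul_assoc]

theorem sw_40_35 (t u : K) : X 40 u * X 35 t = X 35 t * X 40 u :=
  swap0e (K := K) 35 40 46 (2) 1 1 cast_two' (by decide) (by decide) (by decide) (by decide) (by decide +kernel) t u

theorem sw_40_35' (t u : K) (g : GL chevF4.Idx K) : X 40 u * (X 35 t * g) = X 35 t * (X 40 u * g) := by
  rw [← mul_assoc, sw_40_35, mul_assoc]

theorem sw_46_35 (t u : K) : X 46 u * X 35 t = X 35 t * X 46 u :=
  swap0 (K := K) 35 46 (by decide) (by decide) (by decide) (by decide) (by decide +kernel) t u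

theorem sw_46_35' (t u : K) (g : GL chevF4.Idx K) : X 46 u * (X 35 t * g) = X 35 t * (X 46 u * g) := by
  rw [← mul_assoc, sw_46_35, mul_assoc]

theorem sw_29_35 (t u : K) : X 29 u * X 35 t = X 35 t * (X 29 u * X 39 (t * u)) := by
  have h := swap1 (K := K) 35 29 39 (1) 1 1 cast_one' (by decide) (by decide) (by decide) (by decide) (by decide +kernel) t u
  simpa only [pow_one] using h

theorem sw_29_35' (t u : K) (g : GL chevF4.Idx K) : X 29 u * (X 35 t * g) = X 35 t * (X 29 u * (X 39 (t * u) * g)) := by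
  rw [← mul_assoc, sw_29_35, mul_assoc, mul_assoc]

theorem sw_41_35 (t u : K) : X 41 u * X 35 t = X 35 t * X 41 u :=
  swap0 (K := K) 35 41 (by decide) (by decide) (by decide) (by decide) (by decide +kernel) t u

theorem sw_41_35' (t u : K) (g : GL chevF4.Idx K) : X 41 u * (X 35 t * g) = X 35 t * (X 41 u * g) := by
  rw [← mul_assoc, sw_41_35, mul_assoc]

theorem sw_44_35 (t u : K) : X 44 u * X 35 t = X 35 t * X 44 u :=
  swap0 (K := K) 35 44 (by decide) (by decide) (by decide) (by decide) (by decide +kernel) t u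

theorem sw_44_35' (t u : K) (g : GL chevF4.Idx K) : X 44 u * (X 35 t * g) = X 35 t * (X 44 u * g) := by
  rw [← mul_assoc, sw_44_35, mul_assoc]

theorem sw_47_35 (t u : K) : X 47 u * X 35 t = X 35 t * X 47 u :=
  swap0 (K := K) 35 47 (by decide) (by decide) (by decide) (by decide) (by decide +kernel) t u

theorem sw_47_35' (t u : K) (g : GL chevF4.Idx K) : X 47 u * (X 35 t * g) = X 35 t * (X 47 u * g) := by
  rw [← mul_assoc, sw_47_35, mul_assoc]

theorem sw_39_35 (t u : K) : X 39 u * X 35 t = X 35 t * X 39 u :=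
  swap0 (K := K) 35 39 (by decide) (by decide) (by decide) (by decide) (by decide +kernel) t u

theorem sw_39_35' (t u : K) (g : GL chevF4.Idx K) : X 39 u * (X 35 t * g) = X 35 t * (X 39 u * g) := by
  rw [← mul_assoc, sw_39_35, mul_assoc]

theorem sw_45_35 (t u : K) : X 45 u * X 35 t = X 35 t * X 45 u :=
  swap0 (K := K) 35 45 (by decide) (by decide) (by decide) (by decide) (by decide +kernel) t u

theorem sw_45_35' (t u : K) (g : GL chevF4.Idx K) : X 45 u * (X 35 t * g) = X 35 t * (X 45 u * g) := by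
  rw [← mul_assoc, sw_45_35, mul_assoc]

theorem sw_40_31 (t u : K) : X 40 u * X 31 t = X 31 t * X 40 u :=
  swap0 (K := K) 31 40 (by decide) (by decide) (by decide) (by decide) (by decide +kernel) t u

theorem sw_40_31' (t u : K) (g : GL chevF4.Idx K) : X 40 u * (X 31 t * g) = X 31 t * (X 40 u * g) := by
  rw [← mul_assoc, sw_40_31, mul_assoc]

theorem sw_46_31 (t u : K) : X 46 u * X 31 t = X 31 t * X 46 u :=
  swap0 (K := K) 31 46 (by decide) (by decide) (by decide) (by decide) (by decide +kernel) t u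

theorem sw_46_31' (t u : K) (g : GL chevF4.Idx K) : X 46 u * (X 31 t * g) = X 31 t * (X 46 u * g) := by
  rw [← mul_assoc, sw_46_31, mul_assoc]

theorem sw_29_31 (t u : K) : X 29 u * X 31 t = X 31 t * X 29 u :=
  swap0 (K := K) 31 29 (by decide) (by decide) (by decide) (by decide) (by decide +kernel) t u

theorem sw_29_31' (t u : K) (g : GL chevF4.Idx K) : X 29 u * (X 31 t * g) = X 31 t * (X 29 u * g) := by
  rw [← mul_assoc, sw_29_31, mul_assoc]

theorem sw_41_31 (t u : K) : X 41 u * X 31 t = X 31 t * (X 41 u * X 45 (t * u)) := by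
  have h := swap1 (K := K) 31 41 45 (1) 1 1 cast_one' (by decide) (by decide) (by decide) (by decide) (by decide +kernel) t u
  simpa only [pow_one] using h

theorem sw_41_31' (t u : K) (g : GL chevF4.Idx K) : X 41 u * (X 31 t * g) = X 31 t * (X 41 u * (X 45 (t * u) * g)) := by
  rw [← mul_assoc, sw_41_31, mul_assoc, mul_assoc]

theorem sw_44_31 (t u : K) : X 44 u * X 31 t = X 31 t * X 44 u :=
  swap0 (K := K) 31 44 (by decide) (by decide) (by decide) (by decide) (by decide +kernel) t u

theorem sw_44_31' (t u : K) (g : GL chevF4.Idx K) : X 44 u * (X 31 t * g) = X 31 t * (X 44 u * g) := by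
  rw [← mul_assoc, sw_44_31, mul_assoc]

theorem sw_47_31 (t u : K) : X 47 u * X 31 t = X 31 t * X 47 u :=
  swap0 (K := K) 31 47 (by decide) (by decide) (by decide) (by decide) (by decide +kernel) t u

theorem sw_47_31' (t u : K) (g : GL chevF4.Idx K) : X 47 u * (X 31 t * g) = X 31 t * (X 47 u * g) := by
  rw [← mul_assoc, sw_47_31, mul_assoc]

theorem sw_39_31 (t u : K) : X 39 u * X 31 t = X 31 t * X 39 u :=
  swap0 (K := K) 31 39 (by decide) (by decide) (by decide) (by decide) (by decide +kernel) t u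

theorem sw_39_31' (t u : K) (g : GL chevF4.Idx K) : X 39 u * (X 31 t * g) = X 31 t * (X 39 u * g) := by
  rw [← mul_assoc, sw_39_31, mul_assoc]

theorem sw_45_31 (t u : K) : X 45 u * X 31 t = X 31 t * X 45 u :=
  swap0 (K := K) 31 45 (by decide) (by decide) (by decide) (by decide) (by decide +kernel) t u

theorem sw_45_31' (t u : K) (g : GL chevF4.Idx K) : X 45 u * (X 31 t * g) = X 31 t * (X 45 u * g) := by
  rw [← mul_assoc, sw_45_31, mul_assoc]

theorem sw_46_40 (t u : K) : X 46 u * X 40 t = X 40 t * X 46 u :=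
  swap0 (K := K) 40 46 (by decide) (by decide) (by decide) (by decide) (by decide +kernel) t u

theorem sw_46_40' (t u : K) (g : GL chevF4.Idx K) : X 46 u * (X 40 t * g) = X 40 t * (X 46 u * g) := by
  rw [← mul_assoc, sw_46_40, mul_assoc]

theorem sw_29_40 (t u : K) : X 29 u * X 40 t = X 40 t * X 29 u :=
  swap0 (K := K) 40 29 (by decide) (by decide) (by decide) (by decide) (by decide +kernel) t u

theorem sw_29_40' (t u : K) (g : GL chevF4.Idx K) : X 29 u * (X 40 t * g) = X 40 t * (X 29 u * g) := by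
  rw [← mul_assoc, sw_29_40, mul_assoc]

theorem sw_41_40 (t u : K) : X 41 u * X 40 t = X 40 t * X 41 u :=
  swap0 (K := K) 40 41 (by decide) (by decide) (by decide) (by decide) (by decide +kernel) t u

theorem sw_41_40' (t u : K) (g : GL chevF4.Idx K) : X 41 u * (X 40 t * g) = X 40 t * (X 41 u * g) := by
  rw [← mul_assoc, sw_41_40, mul_assoc]

theorem sw_44_40 (t u : K) : X 44 u * X 40 t = X 40 t * X 44 u :=
  swap0 (K := K) 40 44 (by decide) (by decide) (by decide) (by decide) (by decide +kernel) t u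

theorem sw_44_40' (t u : K) (g : GL chevF4.Idx K) : X 44 u * (X 40 t * g) = X 40 t * (X 44 u * g) := by
  rw [← mul_assoc, sw_44_40, mul_assoc]

theorem sw_47_40 (t u : K) : X 47 u * X 40 t = X 40 t * X 47 u :=
  swap0 (K := K) 40 47 (by decide) (by decide) (by decide) (by decide) (by decide +kernel) t u

theorem sw_47_40' (t u : K) (g : GL chevF4.Idx K) : X 47 u * (X 40 t * g) = X 40 t * (X 47 u * g) := by
  rw [← mul_assoc, sw_47_40, mul_assoc]

theorem sw_39_40 (t u : K) : X 39 u * X 40 t = X 40 t * X 39 u :=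
  swap0 (K := K) 40 39 (by decide) (by decide) (by decide) (by decide) (by decide +kernel) t u

theorem sw_39_40' (t u : K) (g : GL chevF4.Idx K) : X 39 u * (X 40 t * g) = X 40 t * (X 39 u * g) := by
  rw [← mul_assoc, sw_39_40, mul_assoc]

theorem sw_45_40 (t u : K) : X 45 u * X 40 t = X 40 t * X 45 u :=
  swap0 (K := K) 40 45 (by decide) (by decide) (by decide) (by decide) (by decide +kernel) t u

theorem sw_45_40' (t u : K) (g : GL chevF4.Idx K) : X 45 u * (X 40 t * g) = X 40 t * (X 45 u * g) := by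
  rw [← mul_assoc, sw_45_40, mul_assoc]

theorem sw_29_46 (t u : K) : X 29 u * X 46 t = X 46 t * X 29 u :=
  swap0 (K := K) 46 29 (by decide) (by decide) (by decide) (by decide) (by decide +kernel) t u

theorem sw_29_46' (t u : K) (g : GL chevF4.Idx K) : X 29 u * (X 46 t * g) = X 46 t * (X 29 u * g) := by
  rw [← mul_assoc, sw_29_46, mul_assoc]

theorem sw_41_46 (t u : K) : X 41 u * X 46 t = X 46 t * X 41 u :=
  swap0 (K := K) 46 41 (by decide) (by decide) (by decide) (by decide) (by decide +kernel) t u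

theorem sw_41_46' (t u : K) (g : GL chevF4.Idx K) : X 41 u * (X 46 t * g) = X 46 t * (X 41 u * g) := by
  rw [← mul_assoc, sw_41_46, mul_assoc]

theorem sw_44_46 (t u : K) : X 44 u * X 46 t = X 46 t * X 44 u :=
  swap0 (K := K) 46 44 (by decide) (by decide) (by decide) (by decide) (by decide +kernel) t u

theorem sw_44_46' (t u : K) (g : GL chevF4.Idx K) : X 44 u * (X 46 t * g) = X 46 t * (X 44 u * g) := by
  rw [← mul_assoc, sw_44_46, mul_assoc]

theorem sw_47_46 (t u : K) : X 47 u * X 46 t = X 46 t * X 47 u :=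
  swap0 (K := K) 46 47 (by decide) (by decide) (by decide) (by decide) (by decide +kernel) t u

theorem sw_47_46' (t u : K) (g : GL chevF4.Idx K) : X 47 u * (X 46 t * g) = X 46 t * (X 47 u * g) := by
  rw [← mul_assoc, sw_47_46, mul_assoc]

theorem sw_39_46 (t u : K) : X 39 u * X 46 t = X 46 t * X 39 u :=
  swap0 (K := K) 46 39 (by decide) (by decide) (by decide) (by decide) (by decide +kernel) t u

theorem sw_39_46' (t u : K) (g : GL chevF4.Idx K) : X 39 u * (X 46 t * g) = X 46 t * (X 39 u * g) := by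
  rw [← mul_assoc, sw_39_46, mul_assoc]

theorem sw_45_46 (t u : K) : X 45 u * X 46 t = X 46 t * X 45 u :=
  swap0 (K := K) 46 45 (by decide) (by decide) (by decide) (by decide) (by decide +kernel) t u

theorem sw_45_46' (t u : K) (g : GL chevF4.Idx K) : X 45 u * (X 46 t * g) = X 46 t * (X 45 u * g) := by
  rw [← mul_assoc, sw_45_46, mul_assoc]

theorem sw_41_29 (t u : K) : X 41 u * X 29 t = X 29 t * (X 41 u * (X 44 (t * u) * X 47 (t ^ 2 * u))) := by
  have h := swap2 (K := K) 29 41 44 47 (1) (1) 1 1 2 1 cast_one' cast_one' (by decide) (by decide) (by decide) (by decide) (by decide +kernel) t u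
  simpa only [pow_one] using h

theorem sw_41_29' (t u : K) (g : GL chevF4.Idx K) : X 41 u * (X 29 t * g) = X 29 t * (X 41 u * (X 44 (t * u) * (X 47 (t ^ 2 * u) * g))) := by
  rw [← mul_assoc, sw_41_29, mul_assoc, mul_assoc, mul_assoc]

theorem sw_44_29 (t u : K) : X 44 u * X 29 t = X 29 t * X 44 u :=
  swap0e (K := K) 29 44 47 (2) 1 1 cast_two' (by decide) (by decide) (by decide) (by decide) (by decide +kernel) t u

theorem sw_44_29' (t u : K) (g : GL chevF4.Idx K) : X 44 u * (X 29 t * g) = X 29 t * (X 44 u * g) := by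
  rw [← mul_assoc, sw_44_29, mul_assoc]

theorem sw_47_29 (t u : K) : X 47 u * X 29 t = X 29 t * X 47 u :=
  swap0 (K := K) 29 47 (by decide) (by decide) (by decide) (by decide) (by decide +kernel) t u

theorem sw_47_29' (t u : K) (g : GL chevF4.Idx K) : X 47 u * (X 29 t * g) = X 29 t * (X 47 u * g) := by
  rw [← mul_assoc, sw_47_29, mul_assoc]

theorem sw_39_29 (t u : K) : X 39 u * X 29 t = X 29 t * X 39 u :=
  swap0 (K := K) 29 39 (by decide) (by decide) (by decide) (by decide) (by decide +kernel) t u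

theorem sw_39_29' (t u : K) (g : GL chevF4.Idx K) : X 39 u * (X 29 t * g) = X 29 t * (X 39 u * g) := by
  rw [← mul_assoc, sw_39_29, mul_assoc]

theorem sw_45_29 (t u : K) : X 45 u * X 29 t = X 29 t * X 45 u :=
  swap0 (K := K) 29 45 (by decide) (by decide) (by decide) (by decide) (by decide +kernel) t u

theorem sw_45_29' (t u : K) (g : GL chevF4.Idx K) : X 45 u * (X 29 t * g) = X 29 t * (X 45 u * g) := by
  rw [← mul_assoc, sw_45_29, mul_assoc]

theorem sw_44_41 (t u : K) : X 44 u * X 41 t = X 41 t * X 44 u :=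
  swap0 (K := K) 41 44 (by decide) (by decide) (by decide) (by decide) (by decide +kernel) t u

theorem sw_44_41' (t u : K) (g : GL chevF4.Idx K) : X 44 u * (X 41 t * g) = X 41 t * (X 44 u * g) := by
  rw [← mul_assoc, sw_44_41, mul_assoc]

theorem sw_47_41 (t u : K) : X 47 u * X 41 t = X 41 t * X 47 u :=
  swap0 (K := K) 41 47 (by decide) (by decide) (by decide) (by decide) (by decide +kernel) t u

theorem sw_47_41' (t u : K) (g : GL chevF4.Idx K) : X 47 u * (X 41 t * g) = X 41 t * (X 47 u * g) := by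
  rw [← mul_assoc, sw_47_41, mul_assoc]

theorem sw_39_41 (t u : K) : X 39 u * X 41 t = X 41 t * X 39 u :=
  swap0 (K := K) 41 39 (by decide) (by decide) (by decide) (by decide) (by decide +kernel) t u

theorem sw_39_41' (t u : K) (g : GL chevF4.Idx K) : X 39 u * (X 41 t * g) = X 41 t * (X 39 u * g) := by
  rw [← mul_assoc, sw_39_41, mul_assoc]

theorem sw_45_41 (t u : K) : X 45 u * X 41 t = X 41 t * X 45 u :=
  swap0 (K := K) 41 45 (by decide) (by decide) (by decide) (by decide) (by decide +kernel) t u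

theorem sw_45_41' (t u : K) (g : GL chevF4.Idx K) : X 45 u * (X 41 t * g) = X 41 t * (X 45 u * g) := by
  rw [← mul_assoc, sw_45_41, mul_assoc]

theorem sw_47_44 (t u : K) : X 47 u * X 44 t = X 44 t * X 47 u :=
  swap0 (K := K) 44 47 (by decide) (by decide) (by decide) (by decide) (by decide +kernel) t u

theorem sw_47_44' (t u : K) (g : GL chevF4.Idx K) : X 47 u * (X 44 t * g) = X 44 t * (X 47 u * g) := by
  rw [← mul_assoc, sw_47_44, mul_assoc]

theorem sw_39_44 (t u : K) : X 39 u * X 44 t = X 44 t * X 39 u :=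
  swap0 (K := K) 44 39 (by decide) (by decide) (by decide) (by decide) (by decide +kernel) t u

theorem sw_39_44' (t u : K) (g : GL chevF4.Idx K) : X 39 u * (X 44 t * g) = X 44 t * (X 39 u * g) := by
  rw [← mul_assoc, sw_39_44, mul_assoc]

theorem sw_45_44 (t u : K) : X 45 u * X 44 t = X 44 t * X 45 u :=
  swap0 (K := K) 44 45 (by decide) (by decide) (by decide) (by decide) (by decide +kernel) t u

theorem sw_45_44' (t u : K) (g : GL chevF4.Idx K) : X 45 u * (X 44 t * g) = X 44 t * (X 45 u * g) := by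
  rw [← mul_assoc, sw_45_44, mul_assoc]

theorem sw_39_47 (t u : K) : X 39 u * X 47 t = X 47 t * X 39 u :=
  swap0 (K := K) 47 39 (by decide) (by decide) (by decide) (by decide) (by decide +kernel) t u

theorem sw_39_47' (t u : K) (g : GL chevF4.Idx K) : X 39 u * (X 47 t * g) = X 47 t * (X 39 u * g) := by
  rw [← mul_assoc, sw_39_47, mul_assoc]

theorem sw_45_47 (t u : K) : X 45 u * X 47 t = X 47 t * X 45 u :=
  swap0 (K := K) 47 45 (by decide) (by decide) (by decide) (by decide) (by decide +kernel) t u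

theorem sw_45_47' (t u : K) (g : GL chevF4.Idx K) : X 45 u * (X 47 t * g) = X 47 t * (X 45 u * g) := by
  rw [← mul_assoc, sw_45_47, mul_assoc]

theorem sw_45_39 (t u : K) : X 45 u * X 39 t = X 39 t * X 45 u :=
  swap0 (K := K) 39 45 (by decide) (by decide) (by decide) (by decide) (by decide +kernel) t u

theorem sw_45_39' (t u : K) (g : GL chevF4.Idx K) : X 45 u * (X 39 t * g) = X 39 t * (X 45 u * g) := by
  rw [← mul_assoc, sw_45_39, mul_assoc]

end

end Cfsg.Agent.Lib.Helper18_TF4Swap
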