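import Mathlib
import Cfsg.Agent.Lib.Helper18_TF4Swap

/-!
# S2184 (architect helper18): the unipotent subgroup of `²F₄(q)` in twelve coordinates

`σ : K →+* K` with `σ (σ x) = x ^ 2` (the Tits endomorphism), `K` of characteristic two.  The root groups of the twisted group:
`u1 u3 u5 u7` (one parameter) and `u2 u4 u6 u8` (two parameters), in the cyclic order of the octagon; `Phi σ s` is the normal
form `u1 u8 u2 u7 u3 u6 u4 u5` of the elements of `U`.  `Phi_rmulN : Phi σ s * uN … = Phi σ (rmulN σ s …)`.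
Generated by `tmp18/f4/genR.py`.
-/

set_option autoImplicit false
set_option linter.unusedSimpArgs false
set_option linter.unusedVariables false

namespace Cfsg.Agent.Lib.Helper18_TF4Inv

open Cfsg Cfsg.Lie Cfsg.Agent.Lib.Helper18_ChevGL Cfsg.Agent.Lib.Helper18_ChevUni
  Cfsg.Agent.Lib.Helper36_F4Setup Cfsg.Agent.Lib.Helper18_TF4Swap

/-- coordinates: `U1 : a`, `U2 : (b, c)`, `U3 : d`, `U4 : (e, f)`, `U5 : g`, `U6 : (h, i)`, `U7 : j`, `U8 : (k, l)` -/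
@[ext] structure T12 (K : Type*) where
  a : K
  b : K
  c : K
  d : K
  e : K
  f : K
  g : K
  h : K
  i : K
  j : K
  k : K
  l : K

variable {K : Type*} [Field K]

section
variable (σ : K →+* K)

def u1 (p : K) : GL chevF4.Idx K := X 33 p * X 24 (σ p)
def u2 (p r : K) : GL chevF4.Idx K := X 34 p * (X 26 (σ p) * (X 36 r * X 42 (σ r + p ^ 2 * σ p)))
def u3 (p : K) : GL chevF4.Idx K := X 38 p * X 43 (σ p)
def u4 (p r : K) : GL chevF4.Idx K := X 29 p * (X 41 (σ p) * (X 44 r * X 47 (σ r + p ^ 2 * σ p)))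
def u5 (p : K) : GL chevF4.Idx K := X 39 p * X 45 (σ p)
def u6 (p r : K) : GL chevF4.Idx K := X 35 p * (X 31 (σ p) * (X 40 r * X 46 (σ r + p ^ 2 * σ p)))
def u7 (p : K) : GL chevF4.Idx K := X 37 p * X 32 (σ p)
def u8 (p r : K) : GL chevF4.Idx K := X 27 p * (X 25 (σ p) * (X 28 r * X 30 (σ r + p ^ 2 * σ p)))

theorem X_congr (r : ℕ) {p q : K} {g g' : GL chevF4.Idx K} (h1 : p = q) (h2 : g = g') : X r p * g = X r q * g' := by
  rw [h1, h2]

theorem X_congr1 (r : ℕ) {p q : K} (h1 : p = q) : X r p = X r q := by rw [h1]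

/-- The normal form of the elements of the unipotent subgroup. -/
def Phi (s : T12 K) : GL chevF4.Idx K :=
  u1 σ s.a * (u8 σ s.k s.l * (u2 σ s.b s.c * (u7 σ s.j * (u3 σ s.d * (u6 σ s.h s.i * (u4 σ s.e s.f * u5 σ s.g))))))

end

/-- right multiplication of the normal form by `u5` -/
def rmul5 (σ : K →+* K) (s : T12 K) (p : K) : T12 K where
  a := s.a
  b := s.b
  c := s.c
  d := s.d
  e := s.e
  f := s.f
  g := s.g + p
  h := s.h
  i := s.i
  j := s.j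
  k := s.k
  l := s.l

set_option maxHeartbeats 4000000 in
theorem Phi_rmul5 [CharP K 2] (σ : K →+* K) (hσ : ∀ x, σ (σ x) = x ^ 2) (s : T12 K) (p : K) :
    Phi σ s * u5 σ p = Phi σ (rmul5 σ s p) := by
  unfold Phi rmul5 u1 u2 u3 u4 u5 u6 u7 u8
  simp only [mul_assoc, X_add, X_add', sw_24_33, sw_24_33', sw_27_33, sw_27_33', sw_25_33, sw_25_33', sw_28_33, sw_28_33', sw_30_33, sw_30_33', sw_34_33, sw_34_33', sw_26_33, sw_26_33', sw_36_33, sw_36_33', sw_42_33, sw_42_33', sw_37_33, sw_37_33', sw_32_33, sw_32_33', sw_38_33, sw_38_33', sw_43_33, sw_43_33', sw_35_33, sw_35_33', sw_31_33, sw_31_33', sw_40_33, sw_40_33', sw_46_33, sw_46_33', sw_29_33, sw_29_33', sw_41_33, sw_41_33', sw_44_33, sw_44_33', sw_47_33, sw_47_33', sw_39_33, sw_39_33', sw_45_33, sw_45_33', sw_27_24, sw_27_24', sw_25_24, sw_25_24', sw_28_24, sw_28_24', sw_30_24, sw_30_24', sw_34_24, sw_34_24', sw_26_24, sw_26_24', sw_36_24,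 sw_36_24', sw_42_24, sw_42_24', sw_37_24, sw_37_24', sw_32_24, sw_32_24', sw_38_24, sw_38_24', sw_43_24, sw_43_24', sw_35_24, sw_35_24', sw_31_24, sw_31_24', sw_40_24, sw_40_24', sw_46_24, sw_46_24', sw_29_24, sw_29_24', sw_41_24, sw_41_24', sw_44_24, sw_44_24', sw_47_24, sw_47_24', sw_39_24, sw_39_24', sw_45_24, sw_45_24', sw_25_27, sw_25_27', sw_28_27, sw_28_27', sw_30_27, sw_30_27', sw_34_27, sw_34_27', sw_26_27, sw_26_27', sw_36_27, sw_36_27', sw_42_27, sw_42_27', sw_37_27, sw_37_27', sw_32_27, sw_32_27', sw_38_27, sw_38_27', sw_43_27, sw_43_27', sw_35_27, sw_35_27', sw_31_27, sw_31_27', sw_40_27, sw_40_27', sw_46_27, sw_46_27', sw_29_27, sw_29_27', sw_41_27, sw_41_27', sw_44_27, sw_44_27', sw_47_27, sw_47_27', sw_39_27, sw_39_27', sw_45_27, sw_45_27', sw_28_25, sw_28_25', sw_30_25, sw_30_25', sw_34_25, sw_34_25', sw_26_25, sw_26_25', sw_36_25, sw_36_25', sw_42_25, sw_42_25', sw_37_25,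 sw_37_25', sw_32_25, sw_32_25', sw_38_25, sw_38_25', sw_43_25, sw_43_25', sw_35_25, sw_35_25', sw_31_25, sw_31_25', sw_40_25, sw_40_25', sw_46_25, sw_46_25', sw_29_25, sw_29_25', sw_41_25, sw_41_25', sw_44_25, sw_44_25', sw_47_25, sw_47_25', sw_39_25, sw_39_25', sw_45_25, sw_45_25', sw_30_28, sw_30_28', sw_34_28, sw_34_28', sw_26_28, sw_26_28', sw_36_28, sw_36_28', sw_42_28, sw_42_28', sw_37_28, sw_37_28', sw_32_28, sw_32_28', sw_38_28, sw_38_28', sw_43_28, sw_43_28', sw_35_28, sw_35_28', sw_31_28, sw_31_28', sw_40_28, sw_40_28', sw_46_28, sw_46_28', sw_29_28, sw_29_28', sw_41_28, sw_41_28', sw_44_28, sw_44_28', sw_47_28, sw_47_28', sw_39_28, sw_39_28', sw_45_28, sw_45_28', sw_34_30, sw_34_30', sw_26_30, sw_26_30', sw_36_30, sw_36_30', sw_42_30, sw_42_30', sw_37_30, sw_37_30', sw_32_30, sw_32_30', sw_38_30, sw_38_30', sw_43_30, sw_43_30', sw_35_30, sw_35_30', sw_31_30, sw_31_30', sw_40_30,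 sw_40_30', sw_46_30, sw_46_30', sw_29_30, sw_29_30', sw_41_30, sw_41_30', sw_44_30, sw_44_30', sw_47_30, sw_47_30', sw_39_30, sw_39_30', sw_45_30, sw_45_30', sw_26_34, sw_26_34', sw_36_34, sw_36_34', sw_42_34, sw_42_34', sw_37_34, sw_37_34', sw_32_34, sw_32_34', sw_38_34, sw_38_34', sw_43_34, sw_43_34', sw_35_34, sw_35_34', sw_31_34, sw_31_34', sw_40_34, sw_40_34', sw_46_34, sw_46_34', sw_29_34, sw_29_34', sw_41_34, sw_41_34', sw_44_34, sw_44_34', sw_47_34, sw_47_34', sw_39_34, sw_39_34', sw_45_34, sw_45_34', sw_36_26, sw_36_26', sw_42_26, sw_42_26', sw_37_26, sw_37_26', sw_32_26, sw_32_26', sw_38_26, sw_38_26', sw_43_26, sw_43_26', sw_35_26, sw_35_26', sw_31_26, sw_31_26', sw_40_26, sw_40_26', sw_46_26, sw_46_26', sw_29_26, sw_29_26', sw_41_26, sw_41_26', sw_44_26, sw_44_26', sw_47_26, sw_47_26', sw_39_26, sw_39_26', sw_45_26, sw_45_26', sw_42_36, sw_42_36', sw_37_36, sw_37_36', sw_32_36,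 sw_32_36', sw_38_36, sw_38_36', sw_43_36, sw_43_36', sw_35_36, sw_35_36', sw_31_36, sw_31_36', sw_40_36, sw_40_36', sw_46_36, sw_46_36', sw_29_36, sw_29_36', sw_41_36, sw_41_36', sw_44_36, sw_44_36', sw_47_36, sw_47_36', sw_39_36, sw_39_36', sw_45_36, sw_45_36', sw_37_42, sw_37_42', sw_32_42, sw_32_42', sw_38_42, sw_38_42', sw_43_42, sw_43_42', sw_35_42, sw_35_42', sw_31_42, sw_31_42', sw_40_42, sw_40_42', sw_46_42, sw_46_42', sw_29_42, sw_29_42', sw_41_42, sw_41_42', sw_44_42, sw_44_42', sw_47_42, sw_47_42', sw_39_42, sw_39_42', sw_45_42, sw_45_42', sw_32_37, sw_32_37', sw_38_37, sw_38_37', sw_43_37, sw_43_37', sw_35_37, sw_35_37', sw_31_37, sw_31_37', sw_40_37, sw_40_37', sw_46_37, sw_46_37', sw_29_37, sw_29_37', sw_41_37, sw_41_37', sw_44_37, sw_44_37', sw_47_37, sw_47_37', sw_39_37, sw_39_37', sw_45_37, sw_45_37', sw_38_32, sw_38_32', sw_43_32, sw_43_32', sw_35_32, sw_35_32', sw_31_32,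 sw_31_32', sw_40_32, sw_40_32', sw_46_32, sw_46_32', sw_29_32, sw_29_32', sw_41_32, sw_41_32', sw_44_32, sw_44_32', sw_47_32, sw_47_32', sw_39_32, sw_39_32', sw_45_32, sw_45_32', sw_43_38, sw_43_38', sw_35_38, sw_35_38', sw_31_38, sw_31_38', sw_40_38, sw_40_38', sw_46_38, sw_46_38', sw_29_38, sw_29_38', sw_41_38, sw_41_38', sw_44_38, sw_44_38', sw_47_38, sw_47_38', sw_39_38, sw_39_38', sw_45_38, sw_45_38', sw_35_43, sw_35_43', sw_31_43, sw_31_43', sw_40_43, sw_40_43', sw_46_43, sw_46_43', sw_29_43, sw_29_43', sw_41_43, sw_41_43', sw_44_43, sw_44_43', sw_47_43, sw_47_43', sw_39_43, sw_39_43', sw_45_43, sw_45_43', sw_31_35, sw_31_35', sw_40_35, sw_40_35', sw_46_35, sw_46_35', sw_29_35, sw_29_35', sw_41_35, sw_41_35', sw_44_35, sw_44_35', sw_47_35, sw_47_35', sw_39_35, sw_39_35', sw_45_35, sw_45_35', sw_40_31, sw_40_31', sw_46_31, sw_46_31', sw_29_31, sw_29_31', sw_41_31, sw_41_31', sw_44_31,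 sw_44_31', sw_47_31, sw_47_31', sw_39_31, sw_39_31', sw_45_31, sw_45_31', sw_46_40, sw_46_40', sw_29_40, sw_29_40', sw_41_40, sw_41_40', sw_44_40, sw_44_40', sw_47_40, sw_47_40', sw_39_40, sw_39_40', sw_45_40, sw_45_40', sw_29_46, sw_29_46', sw_41_46, sw_41_46', sw_44_46, sw_44_46', sw_47_46, sw_47_46', sw_39_46, sw_39_46', sw_45_46, sw_45_46', sw_41_29, sw_41_29', sw_44_29, sw_44_29', sw_47_29, sw_47_29', sw_39_29, sw_39_29', sw_45_29, sw_45_29', sw_44_41, sw_44_41', sw_47_41, sw_47_41', sw_39_41, sw_39_41', sw_45_41, sw_45_41', sw_47_44, sw_47_44', sw_39_44, sw_39_44', sw_45_44, sw_45_44', sw_39_47, sw_39_47', sw_45_47, sw_45_47', sw_45_39, sw_45_39']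
  refine X_congr 33 ?_ (X_congr 24 ?_ (X_congr 27 ?_ (X_congr 25 ?_ (X_congr 28 ?_ (X_congr 30 ?_ (X_congr 34 ?_ (X_congr 26 ?_ (X_congr 36 ?_ (X_congr 42 ?_ (X_congr 37 ?_ (X_congr 32 ?_ (X_congr 38 ?_ (X_congr 43 ?_ (X_congr 35 ?_ (X_congr 31 ?_ (X_congr 40 ?_ (X_congr 46 ?_ (X_congr 29 ?_ (X_congr 41 ?_ (X_congr 44 ?_ (X_congr 47 ?_ (X_congr 39 ?_ (X_congr1 45 ?_)))))))))))))))))))))))
  all_goals (try simp only [map_add, map_mul, map_pow, hσ])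
  all_goals (first | rfl | (rw [← sub_eq_zero]; ring_nf; try reduce_mod_char!))

/-- right multiplication of the normal form by `u4` -/
def rmul4 (σ : K →+* K) (s : T12 K) (p r : K) : T12 K where
  a := s.a
  b := s.b
  c := s.c
  d := s.d
  e := s.e + p
  f := (σ s.e) * p + s.f + r
  g := s.g
  h := s.h
  i := s.i
  j := s.j
  k := s.k
  l := s.l

set_option maxHeartbeats 4000000 in
theorem Phi_rmul4 [CharP K 2] (σ : K →+* K) (hσ : ∀ x, σ (σ x) = x ^ 2) (s : T12 K) (p r : K) :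
    Phi σ s * u4 σ p r = Phi σ (rmul4 σ s p r) := by
  unfold Phi rmul4 u1 u2 u3 u4 u5 u6 u7 u8
  simp only [mul_assoc, X_add, X_add', sw_24_33, sw_24_33', sw_27_33, sw_27_33', sw_25_33, sw_25_33', sw_28_33, sw_28_33', sw_30_33, sw_30_33', sw_34_33, sw_34_33', sw_26_33, sw_26_33', sw_36_33, sw_36_33', sw_42_33, sw_42_33', sw_37_33, sw_37_33', sw_32_33, sw_32_33', sw_38_33, sw_38_33', sw_43_33, sw_43_33', sw_35_33, sw_35_33', sw_31_33, sw_31_33', sw_40_33, sw_40_33', sw_46_33, sw_46_33', sw_29_33, sw_29_33', sw_41_33, sw_41_33', sw_44_33, sw_44_33', sw_47_33, sw_47_33', sw_39_33, sw_39_33', sw_45_33, sw_45_33', sw_27_24, sw_27_24', sw_25_24, sw_25_24', sw_28_24, sw_28_24', sw_30_24, sw_30_24', sw_34_24, sw_34_24', sw_26_24, sw_26_24', sw_36_24, sw_36_24', sw_42_24, sw_42_24', sw_37_24, sw_37_24', sw_32_24, sw_32_24', sw_38_24, sw_38_24', sw_43_24, sw_43_24', sw_35_24, sw_35_24', sw_31_24,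 sw_31_24', sw_40_24, sw_40_24', sw_46_24, sw_46_24', sw_29_24, sw_29_24', sw_41_24, sw_41_24', sw_44_24, sw_44_24', sw_47_24, sw_47_24', sw_39_24, sw_39_24', sw_45_24, sw_45_24', sw_25_27, sw_25_27', sw_28_27, sw_28_27', sw_30_27, sw_30_27', sw_34_27, sw_34_27', sw_26_27, sw_26_27', sw_36_27, sw_36_27', sw_42_27, sw_42_27', sw_37_27, sw_37_27', sw_32_27, sw_32_27', sw_38_27, sw_38_27', sw_43_27, sw_43_27', sw_35_27, sw_35_27', sw_31_27, sw_31_27', sw_40_27, sw_40_27', sw_46_27, sw_46_27', sw_29_27, sw_29_27', sw_41_27, sw_41_27', sw_44_27, sw_44_27', sw_47_27, sw_47_27', sw_39_27, sw_39_27', sw_45_27, sw_45_27', sw_28_25, sw_28_25', sw_30_25, sw_30_25', sw_34_25, sw_34_25', sw_26_25, sw_26_25', sw_36_25, sw_36_25', sw_42_25, sw_42_25', sw_37_25, sw_37_25', sw_32_25, sw_32_25', sw_38_25, sw_38_25', sw_43_25, sw_43_25', sw_35_25, sw_35_25', sw_31_25, sw_31_25', sw_40_25, sw_40_25', sw_46_25,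 sw_46_25', sw_29_25, sw_29_25', sw_41_25, sw_41_25', sw_44_25, sw_44_25', sw_47_25, sw_47_25', sw_39_25, sw_39_25', sw_45_25, sw_45_25', sw_30_28, sw_30_28', sw_34_28, sw_34_28', sw_26_28, sw_26_28', sw_36_28, sw_36_28', sw_42_28, sw_42_28', sw_37_28, sw_37_28', sw_32_28, sw_32_28', sw_38_28, sw_38_28', sw_43_28, sw_43_28', sw_35_28, sw_35_28', sw_31_28, sw_31_28', sw_40_28, sw_40_28', sw_46_28, sw_46_28', sw_29_28, sw_29_28', sw_41_28, sw_41_28', sw_44_28, sw_44_28', sw_47_28, sw_47_28', sw_39_28, sw_39_28', sw_45_28, sw_45_28', sw_34_30, sw_34_30', sw_26_30, sw_26_30', sw_36_30, sw_36_30', sw_42_30, sw_42_30', sw_37_30, sw_37_30', sw_32_30, sw_32_30', sw_38_30, sw_38_30', sw_43_30, sw_43_30', sw_35_30, sw_35_30', sw_31_30, sw_31_30', sw_40_30, sw_40_30', sw_46_30, sw_46_30', sw_29_30, sw_29_30', sw_41_30, sw_41_30', sw_44_30, sw_44_30', sw_47_30, sw_47_30', sw_39_30, sw_39_30', sw_45_30,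 sw_45_30', sw_26_34, sw_26_34', sw_36_34, sw_36_34', sw_42_34, sw_42_34', sw_37_34, sw_37_34', sw_32_34, sw_32_34', sw_38_34, sw_38_34', sw_43_34, sw_43_34', sw_35_34, sw_35_34', sw_31_34, sw_31_34', sw_40_34, sw_40_34', sw_46_34, sw_46_34', sw_29_34, sw_29_34', sw_41_34, sw_41_34', sw_44_34, sw_44_34', sw_47_34, sw_47_34', sw_39_34, sw_39_34', sw_45_34, sw_45_34', sw_36_26, sw_36_26', sw_42_26, sw_42_26', sw_37_26, sw_37_26', sw_32_26, sw_32_26', sw_38_26, sw_38_26', sw_43_26, sw_43_26', sw_35_26, sw_35_26', sw_31_26, sw_31_26', sw_40_26, sw_40_26', sw_46_26, sw_46_26', sw_29_26, sw_29_26', sw_41_26, sw_41_26', sw_44_26, sw_44_26', sw_47_26, sw_47_26', sw_39_26, sw_39_26', sw_45_26, sw_45_26', sw_42_36, sw_42_36', sw_37_36, sw_37_36', sw_32_36, sw_32_36', sw_38_36, sw_38_36', sw_43_36, sw_43_36', sw_35_36, sw_35_36', sw_31_36, sw_31_36', sw_40_36, sw_40_36', sw_46_36, sw_46_36', sw_29_36,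 sw_29_36', sw_41_36, sw_41_36', sw_44_36, sw_44_36', sw_47_36, sw_47_36', sw_39_36, sw_39_36', sw_45_36, sw_45_36', sw_37_42, sw_37_42', sw_32_42, sw_32_42', sw_38_42, sw_38_42', sw_43_42, sw_43_42', sw_35_42, sw_35_42', sw_31_42, sw_31_42', sw_40_42, sw_40_42', sw_46_42, sw_46_42', sw_29_42, sw_29_42', sw_41_42, sw_41_42', sw_44_42, sw_44_42', sw_47_42, sw_47_42', sw_39_42, sw_39_42', sw_45_42, sw_45_42', sw_32_37, sw_32_37', sw_38_37, sw_38_37', sw_43_37, sw_43_37', sw_35_37, sw_35_37', sw_31_37, sw_31_37', sw_40_37, sw_40_37', sw_46_37, sw_46_37', sw_29_37, sw_29_37', sw_41_37, sw_41_37', sw_44_37, sw_44_37', sw_47_37, sw_47_37', sw_39_37, sw_39_37', sw_45_37, sw_45_37', sw_38_32, sw_38_32', sw_43_32, sw_43_32', sw_35_32, sw_35_32', sw_31_32, sw_31_32', sw_40_32, sw_40_32', sw_46_32, sw_46_32', sw_29_32, sw_29_32', sw_41_32, sw_41_32', sw_44_32, sw_44_32', sw_47_32, sw_47_32', sw_39_32,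 sw_39_32', sw_45_32, sw_45_32', sw_43_38, sw_43_38', sw_35_38, sw_35_38', sw_31_38, sw_31_38', sw_40_38, sw_40_38', sw_46_38, sw_46_38', sw_29_38, sw_29_38', sw_41_38, sw_41_38', sw_44_38, sw_44_38', sw_47_38, sw_47_38', sw_39_38, sw_39_38', sw_45_38, sw_45_38', sw_35_43, sw_35_43', sw_31_43, sw_31_43', sw_40_43, sw_40_43', sw_46_43, sw_46_43', sw_29_43, sw_29_43', sw_41_43, sw_41_43', sw_44_43, sw_44_43', sw_47_43, sw_47_43', sw_39_43, sw_39_43', sw_45_43, sw_45_43', sw_31_35, sw_31_35', sw_40_35, sw_40_35', sw_46_35, sw_46_35', sw_29_35, sw_29_35', sw_41_35, sw_41_35', sw_44_35, sw_44_35', sw_47_35, sw_47_35', sw_39_35, sw_39_35', sw_45_35, sw_45_35', sw_40_31, sw_40_31', sw_46_31, sw_46_31', sw_29_31, sw_29_31', sw_41_31, sw_41_31', sw_44_31, sw_44_31', sw_47_31, sw_47_31', sw_39_31, sw_39_31', sw_45_31, sw_45_31', sw_46_40, sw_46_40', sw_29_40, sw_29_40', sw_41_40, sw_41_40', sw_44_40,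 sw_44_40', sw_47_40, sw_47_40', sw_39_40, sw_39_40', sw_45_40, sw_45_40', sw_29_46, sw_29_46', sw_41_46, sw_41_46', sw_44_46, sw_44_46', sw_47_46, sw_47_46', sw_39_46, sw_39_46', sw_45_46, sw_45_46', sw_41_29, sw_41_29', sw_44_29, sw_44_29', sw_47_29, sw_47_29', sw_39_29, sw_39_29', sw_45_29, sw_45_29', sw_44_41, sw_44_41', sw_47_41, sw_47_41', sw_39_41, sw_39_41', sw_45_41, sw_45_41', sw_47_44, sw_47_44', sw_39_44, sw_39_44', sw_45_44, sw_45_44', sw_39_47, sw_39_47', sw_45_47, sw_45_47', sw_45_39, sw_45_39']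
  refine X_congr 33 ?_ (X_congr 24 ?_ (X_congr 27 ?_ (X_congr 25 ?_ (X_congr 28 ?_ (X_congr 30 ?_ (X_congr 34 ?_ (X_congr 26 ?_ (X_congr 36 ?_ (X_congr 42 ?_ (X_congr 37 ?_ (X_congr 32 ?_ (X_congr 38 ?_ (X_congr 43 ?_ (X_congr 35 ?_ (X_congr 31 ?_ (X_congr 40 ?_ (X_congr 46 ?_ (X_congr 29 ?_ (X_congr 41 ?_ (X_congr 44 ?_ (X_congr 47 ?_ (X_congr 39 ?_ (X_congr1 45 ?_)))))))))))))))))))))))
  all_goals (try simp only [map_add, map_mul, map_pow, hσ])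
  all_goals (first | rfl | (rw [← sub_eq_zero]; ring_nf; try reduce_mod_char!))

/-- right multiplication of the normal form by `u6` -/
def rmul6 (σ : K →+* K) (s : T12 K) (p r : K) : T12 K where
  a := s.a
  b := s.b
  c := s.c
  d := s.d
  e := s.e
  f := s.f
  g := s.e * p + s.g
  h := s.h + p
  i := (σ s.h) * p + s.i + r
  j := s.j
  k := s.k
  l := s.l

set_option maxHeartbeats 4000000 in
theorem Phi_rmul6 [CharP K 2] (σ : K →+* K) (hσ : ∀ x, σ (σ x) = x ^ 2) (s : T12 K) (p r : K) :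
    Phi σ s * u6 σ p r = Phi σ (rmul6 σ s p r) := by
  unfold Phi rmul6 u1 u2 u3 u4 u5 u6 u7 u8
  simp only [mul_assoc, X_add, X_add', sw_24_33, sw_24_33', sw_27_33, sw_27_33', sw_25_33, sw_25_33', sw_28_33, sw_28_33', sw_30_33, sw_30_33', sw_34_33, sw_34_33', sw_26_33, sw_26_33', sw_36_33, sw_36_33', sw_42_33, sw_42_33', sw_37_33, sw_37_33', sw_32_33, sw_32_33', sw_38_33, sw_38_33', sw_43_33, sw_43_33', sw_35_33, sw_35_33', sw_31_33, sw_31_33', sw_40_33, sw_40_33', sw_46_33, sw_46_33', sw_29_33, sw_29_33', sw_41_33, sw_41_33', sw_44_33, sw_44_33', sw_47_33, sw_47_33', sw_39_33, sw_39_33', sw_45_33, sw_45_33', sw_27_24, sw_27_24', sw_25_24, sw_25_24', sw_28_24, sw_28_24', sw_30_24, sw_30_24', sw_34_24, sw_34_24', sw_26_24, sw_26_24', sw_36_24, sw_36_24', sw_42_24, sw_42_24', sw_37_24, sw_37_24', sw_32_24, sw_32_24', sw_38_24, sw_38_24', sw_43_24, sw_43_24', sw_35_24, sw_35_24', sw_31_24,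 sw_31_24', sw_40_24, sw_40_24', sw_46_24, sw_46_24', sw_29_24, sw_29_24', sw_41_24, sw_41_24', sw_44_24, sw_44_24', sw_47_24, sw_47_24', sw_39_24, sw_39_24', sw_45_24, sw_45_24', sw_25_27, sw_25_27', sw_28_27, sw_28_27', sw_30_27, sw_30_27', sw_34_27, sw_34_27', sw_26_27, sw_26_27', sw_36_27, sw_36_27', sw_42_27, sw_42_27', sw_37_27, sw_37_27', sw_32_27, sw_32_27', sw_38_27, sw_38_27', sw_43_27, sw_43_27', sw_35_27, sw_35_27', sw_31_27, sw_31_27', sw_40_27, sw_40_27', sw_46_27, sw_46_27', sw_29_27, sw_29_27', sw_41_27, sw_41_27', sw_44_27, sw_44_27', sw_47_27, sw_47_27', sw_39_27, sw_39_27', sw_45_27, sw_45_27', sw_28_25, sw_28_25', sw_30_25, sw_30_25', sw_34_25, sw_34_25', sw_26_25, sw_26_25', sw_36_25, sw_36_25', sw_42_25, sw_42_25', sw_37_25, sw_37_25', sw_32_25, sw_32_25', sw_38_25, sw_38_25', sw_43_25, sw_43_25', sw_35_25, sw_35_25', sw_31_25, sw_31_25', sw_40_25, sw_40_25', sw_46_25,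 sw_46_25', sw_29_25, sw_29_25', sw_41_25, sw_41_25', sw_44_25, sw_44_25', sw_47_25, sw_47_25', sw_39_25, sw_39_25', sw_45_25, sw_45_25', sw_30_28, sw_30_28', sw_34_28, sw_34_28', sw_26_28, sw_26_28', sw_36_28, sw_36_28', sw_42_28, sw_42_28', sw_37_28, sw_37_28', sw_32_28, sw_32_28', sw_38_28, sw_38_28', sw_43_28, sw_43_28', sw_35_28, sw_35_28', sw_31_28, sw_31_28', sw_40_28, sw_40_28', sw_46_28, sw_46_28', sw_29_28, sw_29_28', sw_41_28, sw_41_28', sw_44_28, sw_44_28', sw_47_28, sw_47_28', sw_39_28, sw_39_28', sw_45_28, sw_45_28', sw_34_30, sw_34_30', sw_26_30, sw_26_30', sw_36_30, sw_36_30', sw_42_30, sw_42_30', sw_37_30, sw_37_30', sw_32_30, sw_32_30', sw_38_30, sw_38_30', sw_43_30, sw_43_30', sw_35_30, sw_35_30', sw_31_30, sw_31_30', sw_40_30, sw_40_30', sw_46_30, sw_46_30', sw_29_30, sw_29_30', sw_41_30, sw_41_30', sw_44_30, sw_44_30', sw_47_30, sw_47_30', sw_39_30, sw_39_30', sw_45_30,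 sw_45_30', sw_26_34, sw_26_34', sw_36_34, sw_36_34', sw_42_34, sw_42_34', sw_37_34, sw_37_34', sw_32_34, sw_32_34', sw_38_34, sw_38_34', sw_43_34, sw_43_34', sw_35_34, sw_35_34', sw_31_34, sw_31_34', sw_40_34, sw_40_34', sw_46_34, sw_46_34', sw_29_34, sw_29_34', sw_41_34, sw_41_34', sw_44_34, sw_44_34', sw_47_34, sw_47_34', sw_39_34, sw_39_34', sw_45_34, sw_45_34', sw_36_26, sw_36_26', sw_42_26, sw_42_26', sw_37_26, sw_37_26', sw_32_26, sw_32_26', sw_38_26, sw_38_26', sw_43_26, sw_43_26', sw_35_26, sw_35_26', sw_31_26, sw_31_26', sw_40_26, sw_40_26', sw_46_26, sw_46_26', sw_29_26, sw_29_26', sw_41_26, sw_41_26', sw_44_26, sw_44_26', sw_47_26, sw_47_26', sw_39_26, sw_39_26', sw_45_26, sw_45_26', sw_42_36, sw_42_36', sw_37_36, sw_37_36', sw_32_36, sw_32_36', sw_38_36, sw_38_36', sw_43_36, sw_43_36', sw_35_36, sw_35_36', sw_31_36, sw_31_36', sw_40_36, sw_40_36', sw_46_36, sw_46_36', sw_29_36,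 sw_29_36', sw_41_36, sw_41_36', sw_44_36, sw_44_36', sw_47_36, sw_47_36', sw_39_36, sw_39_36', sw_45_36, sw_45_36', sw_37_42, sw_37_42', sw_32_42, sw_32_42', sw_38_42, sw_38_42', sw_43_42, sw_43_42', sw_35_42, sw_35_42', sw_31_42, sw_31_42', sw_40_42, sw_40_42', sw_46_42, sw_46_42', sw_29_42, sw_29_42', sw_41_42, sw_41_42', sw_44_42, sw_44_42', sw_47_42, sw_47_42', sw_39_42, sw_39_42', sw_45_42, sw_45_42', sw_32_37, sw_32_37', sw_38_37, sw_38_37', sw_43_37, sw_43_37', sw_35_37, sw_35_37', sw_31_37, sw_31_37', sw_40_37, sw_40_37', sw_46_37, sw_46_37', sw_29_37, sw_29_37', sw_41_37, sw_41_37', sw_44_37, sw_44_37', sw_47_37, sw_47_37', sw_39_37, sw_39_37', sw_45_37, sw_45_37', sw_38_32, sw_38_32', sw_43_32, sw_43_32', sw_35_32, sw_35_32', sw_31_32, sw_31_32', sw_40_32, sw_40_32', sw_46_32, sw_46_32', sw_29_32, sw_29_32', sw_41_32, sw_41_32', sw_44_32, sw_44_32', sw_47_32, sw_47_32', sw_39_32,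 sw_39_32', sw_45_32, sw_45_32', sw_43_38, sw_43_38', sw_35_38, sw_35_38', sw_31_38, sw_31_38', sw_40_38, sw_40_38', sw_46_38, sw_46_38', sw_29_38, sw_29_38', sw_41_38, sw_41_38', sw_44_38, sw_44_38', sw_47_38, sw_47_38', sw_39_38, sw_39_38', sw_45_38, sw_45_38', sw_35_43, sw_35_43', sw_31_43, sw_31_43', sw_40_43, sw_40_43', sw_46_43, sw_46_43', sw_29_43, sw_29_43', sw_41_43, sw_41_43', sw_44_43, sw_44_43', sw_47_43, sw_47_43', sw_39_43, sw_39_43', sw_45_43, sw_45_43', sw_31_35, sw_31_35', sw_40_35, sw_40_35', sw_46_35, sw_46_35', sw_29_35, sw_29_35', sw_41_35, sw_41_35', sw_44_35, sw_44_35', sw_47_35, sw_47_35', sw_39_35, sw_39_35', sw_45_35, sw_45_35', sw_40_31, sw_40_31', sw_46_31, sw_46_31', sw_29_31, sw_29_31', sw_41_31, sw_41_31', sw_44_31, sw_44_31', sw_47_31, sw_47_31', sw_39_31, sw_39_31', sw_45_31, sw_45_31', sw_46_40, sw_46_40', sw_29_40, sw_29_40', sw_41_40, sw_41_40', sw_44_40,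 sw_44_40', sw_47_40, sw_47_40', sw_39_40, sw_39_40', sw_45_40, sw_45_40', sw_29_46, sw_29_46', sw_41_46, sw_41_46', sw_44_46, sw_44_46', sw_47_46, sw_47_46', sw_39_46, sw_39_46', sw_45_46, sw_45_46', sw_41_29, sw_41_29', sw_44_29, sw_44_29', sw_47_29, sw_47_29', sw_39_29, sw_39_29', sw_45_29, sw_45_29', sw_44_41, sw_44_41', sw_47_41, sw_47_41', sw_39_41, sw_39_41', sw_45_41, sw_45_41', sw_47_44, sw_47_44', sw_39_44, sw_39_44', sw_45_44, sw_45_44', sw_39_47, sw_39_47', sw_45_47, sw_45_47', sw_45_39, sw_45_39']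
  refine X_congr 33 ?_ (X_congr 24 ?_ (X_congr 27 ?_ (X_congr 25 ?_ (X_congr 28 ?_ (X_congr 30 ?_ (X_congr 34 ?_ (X_congr 26 ?_ (X_congr 36 ?_ (X_congr 42 ?_ (X_congr 37 ?_ (X_congr 32 ?_ (X_congr 38 ?_ (X_congr 43 ?_ (X_congr 35 ?_ (X_congr 31 ?_ (X_congr 40 ?_ (X_congr 46 ?_ (X_congr 29 ?_ (X_congr 41 ?_ (X_congr 44 ?_ (X_congr 47 ?_ (X_congr 39 ?_ (X_congr1 45 ?_)))))))))))))))))))))))
  all_goals (try simp only [map_add, map_mul, map_pow, hσ])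
  all_goals (first | rfl | (rw [← sub_eq_zero]; ring_nf; try reduce_mod_char!))

/-- right multiplication of the normal form by `u3` -/
def rmul3 (σ : K →+* K) (s : T12 K) (p : K) : T12 K where
  a := s.a
  b := s.b
  c := s.c
  d := s.d + p
  e := s.e
  f := s.f + s.h * p
  g := s.g
  h := s.h
  i := s.i
  j := s.j
  k := s.k
  l := s.l

set_option maxHeartbeats 4000000 in
theorem Phi_rmul3 [CharP K 2] (σ : K →+* K) (hσ : ∀ x, σ (σ x) = x ^ 2) (s : T12 K) (p : K) :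
    Phi σ s * u3 σ p = Phi σ (rmul3 σ s p) := by
  unfold Phi rmul3 u1 u2 u3 u4 u5 u6 u7 u8
  simp only [mul_assoc, X_add, X_add', sw_24_33, sw_24_33', sw_27_33, sw_27_33', sw_25_33, sw_25_33', sw_28_33, sw_28_33', sw_30_33, sw_30_33', sw_34_33, sw_34_33', sw_26_33, sw_26_33', sw_36_33, sw_36_33', sw_42_33, sw_42_33', sw_37_33, sw_37_33', sw_32_33, sw_32_33', sw_38_33, sw_38_33', sw_43_33, sw_43_33', sw_35_33, sw_35_33', sw_31_33, sw_31_33', sw_40_33, sw_40_33', sw_46_33, sw_46_33', sw_29_33, sw_29_33', sw_41_33, sw_41_33', sw_44_33, sw_44_33', sw_47_33, sw_47_33', sw_39_33, sw_39_33', sw_45_33, sw_45_33', sw_27_24, sw_27_24', sw_25_24, sw_25_24', sw_28_24, sw_28_24', sw_30_24, sw_30_24', sw_34_24, sw_34_24', sw_26_24, sw_26_24', sw_36_24, sw_36_24', sw_42_24, sw_42_24', sw_37_24, sw_37_24', sw_32_24, sw_32_24', sw_38_24, sw_38_24', sw_43_24, sw_43_24', sw_35_24, sw_35_24', sw_31_24,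 sw_31_24', sw_40_24, sw_40_24', sw_46_24, sw_46_24', sw_29_24, sw_29_24', sw_41_24, sw_41_24', sw_44_24, sw_44_24', sw_47_24, sw_47_24', sw_39_24, sw_39_24', sw_45_24, sw_45_24', sw_25_27, sw_25_27', sw_28_27, sw_28_27', sw_30_27, sw_30_27', sw_34_27, sw_34_27', sw_26_27, sw_26_27', sw_36_27, sw_36_27', sw_42_27, sw_42_27', sw_37_27, sw_37_27', sw_32_27, sw_32_27', sw_38_27, sw_38_27', sw_43_27, sw_43_27', sw_35_27, sw_35_27', sw_31_27, sw_31_27', sw_40_27, sw_40_27', sw_46_27, sw_46_27', sw_29_27, sw_29_27', sw_41_27, sw_41_27', sw_44_27, sw_44_27', sw_47_27, sw_47_27', sw_39_27, sw_39_27', sw_45_27, sw_45_27', sw_28_25, sw_28_25', sw_30_25, sw_30_25', sw_34_25, sw_34_25', sw_26_25, sw_26_25', sw_36_25, sw_36_25', sw_42_25, sw_42_25', sw_37_25, sw_37_25', sw_32_25, sw_32_25', sw_38_25, sw_38_25', sw_43_25, sw_43_25', sw_35_25, sw_35_25', sw_31_25, sw_31_25', sw_40_25, sw_40_25', sw_46_25,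 sw_46_25', sw_29_25, sw_29_25', sw_41_25, sw_41_25', sw_44_25, sw_44_25', sw_47_25, sw_47_25', sw_39_25, sw_39_25', sw_45_25, sw_45_25', sw_30_28, sw_30_28', sw_34_28, sw_34_28', sw_26_28, sw_26_28', sw_36_28, sw_36_28', sw_42_28, sw_42_28', sw_37_28, sw_37_28', sw_32_28, sw_32_28', sw_38_28, sw_38_28', sw_43_28, sw_43_28', sw_35_28, sw_35_28', sw_31_28, sw_31_28', sw_40_28, sw_40_28', sw_46_28, sw_46_28', sw_29_28, sw_29_28', sw_41_28, sw_41_28', sw_44_28, sw_44_28', sw_47_28, sw_47_28', sw_39_28, sw_39_28', sw_45_28, sw_45_28', sw_34_30, sw_34_30', sw_26_30, sw_26_30', sw_36_30, sw_36_30', sw_42_30, sw_42_30', sw_37_30, sw_37_30', sw_32_30, sw_32_30', sw_38_30, sw_38_30', sw_43_30, sw_43_30', sw_35_30, sw_35_30', sw_31_30, sw_31_30', sw_40_30, sw_40_30', sw_46_30, sw_46_30', sw_29_30, sw_29_30', sw_41_30, sw_41_30', sw_44_30, sw_44_30', sw_47_30, sw_47_30', sw_39_30, sw_39_30', sw_45_30,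 sw_45_30', sw_26_34, sw_26_34', sw_36_34, sw_36_34', sw_42_34, sw_42_34', sw_37_34, sw_37_34', sw_32_34, sw_32_34', sw_38_34, sw_38_34', sw_43_34, sw_43_34', sw_35_34, sw_35_34', sw_31_34, sw_31_34', sw_40_34, sw_40_34', sw_46_34, sw_46_34', sw_29_34, sw_29_34', sw_41_34, sw_41_34', sw_44_34, sw_44_34', sw_47_34, sw_47_34', sw_39_34, sw_39_34', sw_45_34, sw_45_34', sw_36_26, sw_36_26', sw_42_26, sw_42_26', sw_37_26, sw_37_26', sw_32_26, sw_32_26', sw_38_26, sw_38_26', sw_43_26, sw_43_26', sw_35_26, sw_35_26', sw_31_26, sw_31_26', sw_40_26, sw_40_26', sw_46_26, sw_46_26', sw_29_26, sw_29_26', sw_41_26, sw_41_26', sw_44_26, sw_44_26', sw_47_26, sw_47_26', sw_39_26, sw_39_26', sw_45_26, sw_45_26', sw_42_36, sw_42_36', sw_37_36, sw_37_36', sw_32_36, sw_32_36', sw_38_36, sw_38_36', sw_43_36, sw_43_36', sw_35_36, sw_35_36', sw_31_36, sw_31_36', sw_40_36, sw_40_36', sw_46_36, sw_46_36', sw_29_36,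 sw_29_36', sw_41_36, sw_41_36', sw_44_36, sw_44_36', sw_47_36, sw_47_36', sw_39_36, sw_39_36', sw_45_36, sw_45_36', sw_37_42, sw_37_42', sw_32_42, sw_32_42', sw_38_42, sw_38_42', sw_43_42, sw_43_42', sw_35_42, sw_35_42', sw_31_42, sw_31_42', sw_40_42, sw_40_42', sw_46_42, sw_46_42', sw_29_42, sw_29_42', sw_41_42, sw_41_42', sw_44_42, sw_44_42', sw_47_42, sw_47_42', sw_39_42, sw_39_42', sw_45_42, sw_45_42', sw_32_37, sw_32_37', sw_38_37, sw_38_37', sw_43_37, sw_43_37', sw_35_37, sw_35_37', sw_31_37, sw_31_37', sw_40_37, sw_40_37', sw_46_37, sw_46_37', sw_29_37, sw_29_37', sw_41_37, sw_41_37', sw_44_37, sw_44_37', sw_47_37, sw_47_37', sw_39_37, sw_39_37', sw_45_37, sw_45_37', sw_38_32, sw_38_32', sw_43_32, sw_43_32', sw_35_32, sw_35_32', sw_31_32, sw_31_32', sw_40_32, sw_40_32', sw_46_32, sw_46_32', sw_29_32, sw_29_32', sw_41_32, sw_41_32', sw_44_32, sw_44_32', sw_47_32, sw_47_32', sw_39_32,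 sw_39_32', sw_45_32, sw_45_32', sw_43_38, sw_43_38', sw_35_38, sw_35_38', sw_31_38, sw_31_38', sw_40_38, sw_40_38', sw_46_38, sw_46_38', sw_29_38, sw_29_38', sw_41_38, sw_41_38', sw_44_38, sw_44_38', sw_47_38, sw_47_38', sw_39_38, sw_39_38', sw_45_38, sw_45_38', sw_35_43, sw_35_43', sw_31_43, sw_31_43', sw_40_43, sw_40_43', sw_46_43, sw_46_43', sw_29_43, sw_29_43', sw_41_43, sw_41_43', sw_44_43, sw_44_43', sw_47_43, sw_47_43', sw_39_43, sw_39_43', sw_45_43, sw_45_43', sw_31_35, sw_31_35', sw_40_35, sw_40_35', sw_46_35, sw_46_35', sw_29_35, sw_29_35', sw_41_35, sw_41_35', sw_44_35, sw_44_35', sw_47_35, sw_47_35', sw_39_35, sw_39_35', sw_45_35, sw_45_35', sw_40_31, sw_40_31', sw_46_31, sw_46_31', sw_29_31, sw_29_31', sw_41_31, sw_41_31', sw_44_31, sw_44_31', sw_47_31, sw_47_31', sw_39_31, sw_39_31', sw_45_31, sw_45_31', sw_46_40, sw_46_40', sw_29_40, sw_29_40', sw_41_40, sw_41_40', sw_44_40,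 sw_44_40', sw_47_40, sw_47_40', sw_39_40, sw_39_40', sw_45_40, sw_45_40', sw_29_46, sw_29_46', sw_41_46, sw_41_46', sw_44_46, sw_44_46', sw_47_46, sw_47_46', sw_39_46, sw_39_46', sw_45_46, sw_45_46', sw_41_29, sw_41_29', sw_44_29, sw_44_29', sw_47_29, sw_47_29', sw_39_29, sw_39_29', sw_45_29, sw_45_29', sw_44_41, sw_44_41', sw_47_41, sw_47_41', sw_39_41, sw_39_41', sw_45_41, sw_45_41', sw_47_44, sw_47_44', sw_39_44, sw_39_44', sw_45_44, sw_45_44', sw_39_47, sw_39_47', sw_45_47, sw_45_47', sw_45_39, sw_45_39']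
  refine X_congr 33 ?_ (X_congr 24 ?_ (X_congr 27 ?_ (X_congr 25 ?_ (X_congr 28 ?_ (X_congr 30 ?_ (X_congr 34 ?_ (X_congr 26 ?_ (X_congr 36 ?_ (X_congr 42 ?_ (X_congr 37 ?_ (X_congr 32 ?_ (X_congr 38 ?_ (X_congr 43 ?_ (X_congr 35 ?_ (X_congr 31 ?_ (X_congr 40 ?_ (X_congr 46 ?_ (X_congr 29 ?_ (X_congr 41 ?_ (X_congr 44 ?_ (X_congr 47 ?_ (X_congr 39 ?_ (X_congr1 45 ?_)))))))))))))))))))))))
  all_goals (try simp only [map_add, map_mul, map_pow, hσ])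
  all_goals (first | rfl | (rw [← sub_eq_zero]; ring_nf; try reduce_mod_char!))

/-- right multiplication of the normal form by `u7` -/
def rmul7 (σ : K →+* K) (s : T12 K) (p : K) : T12 K where
  a := s.a
  b := s.b
  c := s.c
  d := s.d
  e := s.e
  f := s.f
  g := s.g
  h := s.h
  i := s.e * p + s.i
  j := s.j + p
  k := s.k
  l := s.l

set_option maxHeartbeats 4000000 in
theorem Phi_rmul7 [CharP K 2] (σ : K →+* K) (hσ : ∀ x, σ (σ x) = x ^ 2) (s : T12 K) (p : K) :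
    Phi σ s * u7 σ p = Phi σ (rmul7 σ s p) := by
  unfold Phi rmul7 u1 u2 u3 u4 u5 u6 u7 u8
  simp only [mul_assoc, X_add, X_add', sw_24_33, sw_24_33', sw_27_33, sw_27_33', sw_25_33, sw_25_33', sw_28_33, sw_28_33', sw_30_33, sw_30_33', sw_34_33, sw_34_33', sw_26_33, sw_26_33', sw_36_33, sw_36_33', sw_42_33, sw_42_33', sw_37_33, sw_37_33', sw_32_33, sw_32_33', sw_38_33, sw_38_33', sw_43_33, sw_43_33', sw_35_33, sw_35_33', sw_31_33, sw_31_33', sw_40_33, sw_40_33', sw_46_33, sw_46_33', sw_29_33, sw_29_33', sw_41_33, sw_41_33', sw_44_33, sw_44_33', sw_47_33, sw_47_33', sw_39_33, sw_39_33', sw_45_33, sw_45_33', sw_27_24, sw_27_24', sw_25_24, sw_25_24', sw_28_24, sw_28_24', sw_30_24, sw_30_24', sw_34_24, sw_34_24', sw_26_24, sw_26_24', sw_36_24, sw_36_24', sw_42_24, sw_42_24', sw_37_24, sw_37_24', sw_32_24, sw_32_24', sw_38_24, sw_38_24', sw_43_24, sw_43_24', sw_35_24, sw_35_24', sw_31_24,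 sw_31_24', sw_40_24, sw_40_24', sw_46_24, sw_46_24', sw_29_24, sw_29_24', sw_41_24, sw_41_24', sw_44_24, sw_44_24', sw_47_24, sw_47_24', sw_39_24, sw_39_24', sw_45_24, sw_45_24', sw_25_27, sw_25_27', sw_28_27, sw_28_27', sw_30_27, sw_30_27', sw_34_27, sw_34_27', sw_26_27, sw_26_27', sw_36_27, sw_36_27', sw_42_27, sw_42_27', sw_37_27, sw_37_27', sw_32_27, sw_32_27', sw_38_27, sw_38_27', sw_43_27, sw_43_27', sw_35_27, sw_35_27', sw_31_27, sw_31_27', sw_40_27, sw_40_27', sw_46_27, sw_46_27', sw_29_27, sw_29_27', sw_41_27, sw_41_27', sw_44_27, sw_44_27', sw_47_27, sw_47_27', sw_39_27, sw_39_27', sw_45_27, sw_45_27', sw_28_25, sw_28_25', sw_30_25, sw_30_25', sw_34_25, sw_34_25', sw_26_25, sw_26_25', sw_36_25, sw_36_25', sw_42_25, sw_42_25', sw_37_25, sw_37_25', sw_32_25, sw_32_25', sw_38_25, sw_38_25', sw_43_25, sw_43_25', sw_35_25, sw_35_25', sw_31_25, sw_31_25', sw_40_25, sw_40_25', sw_46_25,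 sw_46_25', sw_29_25, sw_29_25', sw_41_25, sw_41_25', sw_44_25, sw_44_25', sw_47_25, sw_47_25', sw_39_25, sw_39_25', sw_45_25, sw_45_25', sw_30_28, sw_30_28', sw_34_28, sw_34_28', sw_26_28, sw_26_28', sw_36_28, sw_36_28', sw_42_28, sw_42_28', sw_37_28, sw_37_28', sw_32_28, sw_32_28', sw_38_28, sw_38_28', sw_43_28, sw_43_28', sw_35_28, sw_35_28', sw_31_28, sw_31_28', sw_40_28, sw_40_28', sw_46_28, sw_46_28', sw_29_28, sw_29_28', sw_41_28, sw_41_28', sw_44_28, sw_44_28', sw_47_28, sw_47_28', sw_39_28, sw_39_28', sw_45_28, sw_45_28', sw_34_30, sw_34_30', sw_26_30, sw_26_30', sw_36_30, sw_36_30', sw_42_30, sw_42_30', sw_37_30, sw_37_30', sw_32_30, sw_32_30', sw_38_30, sw_38_30', sw_43_30, sw_43_30', sw_35_30, sw_35_30', sw_31_30, sw_31_30', sw_40_30, sw_40_30', sw_46_30, sw_46_30', sw_29_30, sw_29_30', sw_41_30, sw_41_30', sw_44_30, sw_44_30', sw_47_30, sw_47_30', sw_39_30, sw_39_30', sw_45_30,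 sw_45_30', sw_26_34, sw_26_34', sw_36_34, sw_36_34', sw_42_34, sw_42_34', sw_37_34, sw_37_34', sw_32_34, sw_32_34', sw_38_34, sw_38_34', sw_43_34, sw_43_34', sw_35_34, sw_35_34', sw_31_34, sw_31_34', sw_40_34, sw_40_34', sw_46_34, sw_46_34', sw_29_34, sw_29_34', sw_41_34, sw_41_34', sw_44_34, sw_44_34', sw_47_34, sw_47_34', sw_39_34, sw_39_34', sw_45_34, sw_45_34', sw_36_26, sw_36_26', sw_42_26, sw_42_26', sw_37_26, sw_37_26', sw_32_26, sw_32_26', sw_38_26, sw_38_26', sw_43_26, sw_43_26', sw_35_26, sw_35_26', sw_31_26, sw_31_26', sw_40_26, sw_40_26', sw_46_26, sw_46_26', sw_29_26, sw_29_26', sw_41_26, sw_41_26', sw_44_26, sw_44_26', sw_47_26, sw_47_26', sw_39_26, sw_39_26', sw_45_26, sw_45_26', sw_42_36, sw_42_36', sw_37_36, sw_37_36', sw_32_36, sw_32_36', sw_38_36, sw_38_36', sw_43_36, sw_43_36', sw_35_36, sw_35_36', sw_31_36, sw_31_36', sw_40_36, sw_40_36', sw_46_36, sw_46_36', sw_29_36,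 sw_29_36', sw_41_36, sw_41_36', sw_44_36, sw_44_36', sw_47_36, sw_47_36', sw_39_36, sw_39_36', sw_45_36, sw_45_36', sw_37_42, sw_37_42', sw_32_42, sw_32_42', sw_38_42, sw_38_42', sw_43_42, sw_43_42', sw_35_42, sw_35_42', sw_31_42, sw_31_42', sw_40_42, sw_40_42', sw_46_42, sw_46_42', sw_29_42, sw_29_42', sw_41_42, sw_41_42', sw_44_42, sw_44_42', sw_47_42, sw_47_42', sw_39_42, sw_39_42', sw_45_42, sw_45_42', sw_32_37, sw_32_37', sw_38_37, sw_38_37', sw_43_37, sw_43_37', sw_35_37, sw_35_37', sw_31_37, sw_31_37', sw_40_37, sw_40_37', sw_46_37, sw_46_37', sw_29_37, sw_29_37', sw_41_37, sw_41_37', sw_44_37, sw_44_37', sw_47_37, sw_47_37', sw_39_37, sw_39_37', sw_45_37, sw_45_37', sw_38_32, sw_38_32', sw_43_32, sw_43_32', sw_35_32, sw_35_32', sw_31_32, sw_31_32', sw_40_32, sw_40_32', sw_46_32, sw_46_32', sw_29_32, sw_29_32', sw_41_32, sw_41_32', sw_44_32, sw_44_32', sw_47_32, sw_47_32', sw_39_32,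 sw_39_32', sw_45_32, sw_45_32', sw_43_38, sw_43_38', sw_35_38, sw_35_38', sw_31_38, sw_31_38', sw_40_38, sw_40_38', sw_46_38, sw_46_38', sw_29_38, sw_29_38', sw_41_38, sw_41_38', sw_44_38, sw_44_38', sw_47_38, sw_47_38', sw_39_38, sw_39_38', sw_45_38, sw_45_38', sw_35_43, sw_35_43', sw_31_43, sw_31_43', sw_40_43, sw_40_43', sw_46_43, sw_46_43', sw_29_43, sw_29_43', sw_41_43, sw_41_43', sw_44_43, sw_44_43', sw_47_43, sw_47_43', sw_39_43, sw_39_43', sw_45_43, sw_45_43', sw_31_35, sw_31_35', sw_40_35, sw_40_35', sw_46_35, sw_46_35', sw_29_35, sw_29_35', sw_41_35, sw_41_35', sw_44_35, sw_44_35', sw_47_35, sw_47_35', sw_39_35, sw_39_35', sw_45_35, sw_45_35', sw_40_31, sw_40_31', sw_46_31, sw_46_31', sw_29_31, sw_29_31', sw_41_31, sw_41_31', sw_44_31, sw_44_31', sw_47_31, sw_47_31', sw_39_31, sw_39_31', sw_45_31, sw_45_31', sw_46_40, sw_46_40', sw_29_40, sw_29_40', sw_41_40, sw_41_40', sw_44_40,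 sw_44_40', sw_47_40, sw_47_40', sw_39_40, sw_39_40', sw_45_40, sw_45_40', sw_29_46, sw_29_46', sw_41_46, sw_41_46', sw_44_46, sw_44_46', sw_47_46, sw_47_46', sw_39_46, sw_39_46', sw_45_46, sw_45_46', sw_41_29, sw_41_29', sw_44_29, sw_44_29', sw_47_29, sw_47_29', sw_39_29, sw_39_29', sw_45_29, sw_45_29', sw_44_41, sw_44_41', sw_47_41, sw_47_41', sw_39_41, sw_39_41', sw_45_41, sw_45_41', sw_47_44, sw_47_44', sw_39_44, sw_39_44', sw_45_44, sw_45_44', sw_39_47, sw_39_47', sw_45_47, sw_45_47', sw_45_39, sw_45_39']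
  refine X_congr 33 ?_ (X_congr 24 ?_ (X_congr 27 ?_ (X_congr 25 ?_ (X_congr 28 ?_ (X_congr 30 ?_ (X_congr 34 ?_ (X_congr 26 ?_ (X_congr 36 ?_ (X_congr 42 ?_ (X_congr 37 ?_ (X_congr 32 ?_ (X_congr 38 ?_ (X_congr 43 ?_ (X_congr 35 ?_ (X_congr 31 ?_ (X_congr 40 ?_ (X_congr 46 ?_ (X_congr 29 ?_ (X_congr 41 ?_ (X_congr 44 ?_ (X_congr 47 ?_ (X_congr 39 ?_ (X_congr1 45 ?_)))))))))))))))))))))))
  all_goals (try simp only [map_add, map_mul, map_pow, hσ])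
  all_goals (first | rfl | (rw [← sub_eq_zero]; ring_nf; try reduce_mod_char!))

/-- right multiplication of the normal form by `u2` -/
def rmul2 (σ : K →+* K) (s : T12 K) (p r : K) : T12 K where
  a := s.a
  b := s.b + p
  c := (σ s.b) * p + s.c + r
  d := s.d + s.e * p
  e := s.e
  f := s.e * s.h * p + s.f + s.g * p + s.j * r
  g := (σ p) * s.j + s.g
  h := s.h
  i := (σ s.j) * p + s.i
  j := s.j
  k := s.k
  l := s.l

set_option maxHeartbeats 4000000 in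
theorem Phi_rmul2 [CharP K 2] (σ : K →+* K) (hσ : ∀ x, σ (σ x) = x ^ 2) (s : T12 K) (p r : K) :
    Phi σ s * u2 σ p r = Phi σ (rmul2 σ s p r) := by
  unfold Phi rmul2 u1 u2 u3 u4 u5 u6 u7 u8
  simp only [mul_assoc, X_add, X_add', sw_24_33, sw_24_33', sw_27_33, sw_27_33', sw_25_33, sw_25_33', sw_28_33, sw_28_33', sw_30_33, sw_30_33', sw_34_33, sw_34_33', sw_26_33, sw_26_33', sw_36_33, sw_36_33', sw_42_33, sw_42_33', sw_37_33, sw_37_33', sw_32_33, sw_32_33', sw_38_33, sw_38_33', sw_43_33, sw_43_33', sw_35_33, sw_35_33', sw_31_33, sw_31_33', sw_40_33, sw_40_33', sw_46_33, sw_46_33', sw_29_33, sw_29_33', sw_41_33, sw_41_33', sw_44_33, sw_44_33', sw_47_33, sw_47_33', sw_39_33, sw_39_33', sw_45_33, sw_45_33', sw_27_24, sw_27_24', sw_25_24, sw_25_24', sw_28_24, sw_28_24', sw_30_24, sw_30_24', sw_34_24, sw_34_24', sw_26_24, sw_26_24', sw_36_24, sw_36_24', sw_42_24, sw_42_24', sw_37_24, sw_37_24',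 sw_32_24, sw_32_24', sw_38_24, sw_38_24', sw_43_24, sw_43_24', sw_35_24, sw_35_24', sw_31_24, sw_31_24', sw_40_24, sw_40_24', sw_46_24, sw_46_24', sw_29_24, sw_29_24', sw_41_24, sw_41_24', sw_44_24, sw_44_24', sw_47_24, sw_47_24', sw_39_24, sw_39_24', sw_45_24, sw_45_24', sw_25_27, sw_25_27', sw_28_27, sw_28_27', sw_30_27, sw_30_27', sw_34_27, sw_34_27', sw_26_27, sw_26_27', sw_36_27, sw_36_27', sw_42_27, sw_42_27', sw_37_27, sw_37_27', sw_32_27, sw_32_27', sw_38_27, sw_38_27', sw_43_27, sw_43_27', sw_35_27, sw_35_27', sw_31_27, sw_31_27', sw_40_27, sw_40_27', sw_46_27, sw_46_27', sw_29_27, sw_29_27', sw_41_27, sw_41_27', sw_44_27, sw_44_27', sw_47_27, sw_47_27', sw_39_27, sw_39_27', sw_45_27, sw_45_27', sw_28_25, sw_28_25', sw_30_25, sw_30_25', sw_34_25, sw_34_25', sw_26_25, sw_26_25', sw_36_25, sw_36_25', sw_42_25, sw_42_25', sw_37_25, sw_37_25', sw_32_25, sw_32_25', sw_38_25, sw_38_25',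 sw_43_25, sw_43_25', sw_35_25, sw_35_25', sw_31_25, sw_31_25', sw_40_25, sw_40_25', sw_46_25, sw_46_25', sw_29_25, sw_29_25', sw_41_25, sw_41_25', sw_44_25, sw_44_25', sw_47_25, sw_47_25', sw_39_25, sw_39_25', sw_45_25, sw_45_25', sw_30_28, sw_30_28', sw_34_28, sw_34_28', sw_26_28, sw_26_28', sw_36_28, sw_36_28', sw_42_28, sw_42_28', sw_37_28, sw_37_28', sw_32_28, sw_32_28', sw_38_28, sw_38_28', sw_43_28, sw_43_28', sw_35_28, sw_35_28', sw_31_28, sw_31_28', sw_40_28, sw_40_28', sw_46_28, sw_46_28', sw_29_28, sw_29_28', sw_41_28, sw_41_28', sw_44_28, sw_44_28', sw_47_28, sw_47_28', sw_39_28, sw_39_28', sw_45_28, sw_45_28', sw_34_30, sw_34_30', sw_26_30, sw_26_30', sw_36_30, sw_36_30', sw_42_30, sw_42_30', sw_37_30, sw_37_30', sw_32_30, sw_32_30', sw_38_30, sw_38_30', sw_43_30, sw_43_30', sw_35_30, sw_35_30', sw_31_30, sw_31_30', sw_40_30, sw_40_30', sw_46_30, sw_46_30', sw_29_30, sw_29_30',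 sw_41_30, sw_41_30', sw_44_30, sw_44_30', sw_47_30, sw_47_30', sw_39_30, sw_39_30', sw_45_30, sw_45_30', sw_26_34, sw_26_34', sw_36_34, sw_36_34', sw_42_34, sw_42_34', sw_37_34, sw_37_34', sw_32_34, sw_32_34', sw_38_34, sw_38_34', sw_43_34, sw_43_34', sw_35_34, sw_35_34', sw_31_34, sw_31_34', sw_40_34, sw_40_34', sw_46_34, sw_46_34', sw_29_34, sw_29_34', sw_41_34, sw_41_34', sw_44_34, sw_44_34', sw_47_34, sw_47_34', sw_39_34, sw_39_34', sw_45_34, sw_45_34', sw_36_26, sw_36_26', sw_42_26, sw_42_26', sw_37_26, sw_37_26', sw_32_26, sw_32_26', sw_38_26, sw_38_26', sw_43_26, sw_43_26', sw_35_26, sw_35_26', sw_31_26, sw_31_26', sw_40_26, sw_40_26', sw_46_26, sw_46_26', sw_29_26, sw_29_26', sw_41_26, sw_41_26', sw_44_26, sw_44_26', sw_47_26, sw_47_26', sw_39_26, sw_39_26', sw_45_26, sw_45_26', sw_42_36, sw_42_36', sw_37_36, sw_37_36', sw_32_36, sw_32_36', sw_38_36, sw_38_36', sw_43_36, sw_43_36',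 sw_35_36, sw_35_36', sw_31_36, sw_31_36', sw_40_36, sw_40_36', sw_46_36, sw_46_36', sw_29_36, sw_29_36', sw_41_36, sw_41_36', sw_44_36, sw_44_36', sw_47_36, sw_47_36', sw_39_36, sw_39_36', sw_45_36, sw_45_36', sw_37_42, sw_37_42', sw_32_42, sw_32_42', sw_38_42, sw_38_42', sw_43_42, sw_43_42', sw_35_42, sw_35_42', sw_31_42, sw_31_42', sw_40_42, sw_40_42', sw_46_42, sw_46_42', sw_29_42, sw_29_42', sw_41_42, sw_41_42', sw_44_42, sw_44_42', sw_47_42, sw_47_42', sw_39_42, sw_39_42', sw_45_42, sw_45_42', sw_32_37, sw_32_37', sw_38_37, sw_38_37', sw_43_37, sw_43_37', sw_35_37, sw_35_37', sw_31_37, sw_31_37', sw_40_37, sw_40_37', sw_46_37, sw_46_37', sw_29_37, sw_29_37', sw_41_37, sw_41_37', sw_44_37, sw_44_37', sw_47_37, sw_47_37', sw_39_37, sw_39_37', sw_45_37, sw_45_37', sw_38_32, sw_38_32', sw_43_32, sw_43_32', sw_35_32, sw_35_32', sw_31_32, sw_31_32', sw_40_32, sw_40_32', sw_46_32, sw_46_32',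 sw_29_32, sw_29_32', sw_41_32, sw_41_32', sw_44_32, sw_44_32', sw_47_32, sw_47_32', sw_39_32, sw_39_32', sw_45_32, sw_45_32', sw_43_38, sw_43_38', sw_35_38, sw_35_38', sw_31_38, sw_31_38', sw_40_38, sw_40_38', sw_46_38, sw_46_38', sw_29_38, sw_29_38', sw_41_38, sw_41_38', sw_44_38, sw_44_38', sw_47_38, sw_47_38', sw_39_38, sw_39_38', sw_45_38, sw_45_38', sw_35_43, sw_35_43', sw_31_43, sw_31_43', sw_40_43, sw_40_43', sw_46_43, sw_46_43', sw_29_43, sw_29_43', sw_41_43, sw_41_43', sw_44_43, sw_44_43', sw_47_43, sw_47_43', sw_39_43, sw_39_43', sw_45_43, sw_45_43', sw_31_35, sw_31_35', sw_40_35, sw_40_35', sw_46_35, sw_46_35', sw_29_35, sw_29_35', sw_41_35, sw_41_35', sw_44_35, sw_44_35', sw_47_35, sw_47_35', sw_39_35, sw_39_35', sw_45_35, sw_45_35', sw_40_31, sw_40_31', sw_46_31, sw_46_31', sw_29_31, sw_29_31', sw_41_31, sw_41_31', sw_44_31, sw_44_31', sw_47_31, sw_47_31', sw_39_31, sw_39_31',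 sw_45_31, sw_45_31', sw_46_40, sw_46_40', sw_29_40, sw_29_40', sw_41_40, sw_41_40', sw_44_40, sw_44_40', sw_47_40, sw_47_40', sw_39_40, sw_39_40', sw_45_40, sw_45_40', sw_29_46, sw_29_46', sw_41_46, sw_41_46', sw_44_46, sw_44_46', sw_47_46, sw_47_46', sw_39_46, sw_39_46', sw_45_46, sw_45_46', sw_41_29, sw_41_29', sw_44_29, sw_44_29', sw_47_29, sw_47_29', sw_39_29, sw_39_29', sw_45_29, sw_45_29', sw_44_41, sw_44_41', sw_47_41, sw_47_41', sw_39_41, sw_39_41', sw_45_41, sw_45_41', sw_47_44, sw_47_44', sw_39_44, sw_39_44', sw_45_44, sw_45_44', sw_39_47, sw_39_47', sw_45_47, sw_45_47', sw_45_39, sw_45_39']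
  refine X_congr 33 ?_ (X_congr 24 ?_ (X_congr 27 ?_ (X_congr 25 ?_ (X_congr 28 ?_ (X_congr 30 ?_ (X_congr 34 ?_ (X_congr 26 ?_ (X_congr 36 ?_ (X_congr 42 ?_ (X_congr 37 ?_ (X_congr 32 ?_ (X_congr 38 ?_ (X_congr 43 ?_ (X_congr 35 ?_ (X_congr 31 ?_ (X_congr 40 ?_ (X_congr 46 ?_ (X_congr 29 ?_ (X_congr 41 ?_ (X_congr 44 ?_ (X_congr 47 ?_ (X_congr 39 ?_ (X_congr1 45 ?_)))))))))))))))))))))))
  all_goals (try simp only [map_add, map_mul, map_pow, hσ])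
  all_goals (first | rfl | (rw [← sub_eq_zero]; ring_nf; try reduce_mod_char!))

/-- right multiplication of the normal form by `u8` -/
def rmul8 (σ : K →+* K) (s : T12 K) (p r : K) : T12 K where
  a := s.a
  b := s.b
  c := s.c
  d := s.c * p + s.d
  e := (σ s.b) * p + s.e
  f := (σ s.b) * (σ p) * s.b ^ 2 * p + (σ s.b) * s.b ^ 2 * r + (σ s.c) * r + (σ s.d) * p + (σ p) * s.b * s.c * p + (σ p) * s.b * s.d + (σ p) * s.b ^ 2 * s.e + s.b * s.c * r + s.f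
  g := (σ s.b) * s.b * r + (σ s.b) * s.h * p + (σ p) * s.c * p + (σ p) * s.d + s.c * r + s.g
  h := (σ p) * s.b + s.h
  i := (σ s.b) * s.j * p + (σ p) * s.c * p ^ 2 + (σ r) * s.c + s.c * p * r + s.d * r + s.g * p + s.i
  j := s.b * r + s.h * p + s.j
  k := s.k + p
  l := (σ s.k) * p + s.l + r

set_option maxHeartbeats 4000000 in
theorem Phi_rmul8 [CharP K 2] (σ : K →+* K) (hσ : ∀ x, σ (σ x) = x ^ 2) (s : T12 K) (p r : K) :
    Phi σ s * u8 σ p r = Phi σ (rmul8 σ s p r) := by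
  unfold Phi rmul8 u1 u2 u3 u4 u5 u6 u7 u8
  simp only [mul_assoc, X_add, X_add', sw_24_33, sw_24_33', sw_27_33, sw_27_33', sw_25_33, sw_25_33', sw_28_33, sw_28_33', sw_30_33, sw_30_33', sw_34_33, sw_34_33', sw_26_33, sw_26_33', sw_36_33, sw_36_33', sw_42_33, sw_42_33', sw_37_33, sw_37_33', sw_32_33, sw_32_33', sw_38_33, sw_38_33', sw_43_33, sw_43_33', sw_35_33, sw_35_33', sw_31_33, sw_31_33', sw_40_33, sw_40_33', sw_46_33, sw_46_33', sw_29_33, sw_29_33', sw_41_33, sw_41_33', sw_44_33, sw_44_33', sw_47_33, sw_47_33', sw_39_33, sw_39_33', sw_45_33, sw_45_33', sw_27_24, sw_27_24', sw_25_24, sw_25_24', sw_28_24, sw_28_24', sw_30_24, sw_30_24', sw_34_24, sw_34_24', sw_26_24, sw_26_24', sw_36_24, sw_36_24', sw_42_24, sw_42_24', sw_37_24, sw_37_24', sw_32_24, sw_32_24', sw_38_24, sw_38_24', sw_43_24, sw_43_24', sw_35_24, sw_35_24', sw_31_24, sw_31_24', sw_40_24, sw_40_24', sw_46_24, sw_46_24',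 sw_29_24, sw_29_24', sw_41_24, sw_41_24', sw_44_24, sw_44_24', sw_47_24, sw_47_24', sw_39_24, sw_39_24', sw_45_24, sw_45_24', sw_25_27, sw_25_27', sw_28_27, sw_28_27', sw_30_27, sw_30_27', sw_34_27, sw_34_27', sw_26_27, sw_26_27', sw_36_27, sw_36_27', sw_42_27, sw_42_27', sw_37_27, sw_37_27', sw_32_27, sw_32_27', sw_38_27, sw_38_27', sw_43_27, sw_43_27', sw_35_27, sw_35_27', sw_31_27, sw_31_27', sw_40_27, sw_40_27', sw_46_27, sw_46_27', sw_29_27, sw_29_27', sw_41_27, sw_41_27', sw_44_27, sw_44_27', sw_47_27, sw_47_27', sw_39_27, sw_39_27', sw_45_27, sw_45_27', sw_28_25, sw_28_25', sw_30_25, sw_30_25', sw_34_25, sw_34_25', sw_26_25, sw_26_25', sw_36_25, sw_36_25', sw_42_25, sw_42_25', sw_37_25, sw_37_25', sw_32_25, sw_32_25', sw_38_25, sw_38_25', sw_43_25, sw_43_25', sw_35_25, sw_35_25', sw_31_25, sw_31_25', sw_40_25, sw_40_25', sw_46_25, sw_46_25', sw_29_25, sw_29_25', sw_41_25, sw_41_25',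 sw_44_25, sw_44_25', sw_47_25, sw_47_25', sw_39_25, sw_39_25', sw_45_25, sw_45_25', sw_30_28, sw_30_28', sw_34_28, sw_34_28', sw_26_28, sw_26_28', sw_36_28, sw_36_28', sw_42_28, sw_42_28', sw_37_28, sw_37_28', sw_32_28, sw_32_28', sw_38_28, sw_38_28', sw_43_28, sw_43_28', sw_35_28, sw_35_28', sw_31_28, sw_31_28', sw_40_28, sw_40_28', sw_46_28, sw_46_28', sw_29_28, sw_29_28', sw_41_28, sw_41_28', sw_44_28, sw_44_28', sw_47_28, sw_47_28', sw_39_28, sw_39_28', sw_45_28, sw_45_28', sw_34_30, sw_34_30', sw_26_30, sw_26_30', sw_36_30, sw_36_30', sw_42_30, sw_42_30', sw_37_30, sw_37_30', sw_32_30, sw_32_30', sw_38_30, sw_38_30', sw_43_30, sw_43_30', sw_35_30, sw_35_30', sw_31_30, sw_31_30', sw_40_30, sw_40_30', sw_46_30, sw_46_30', sw_29_30, sw_29_30', sw_41_30, sw_41_30', sw_44_30, sw_44_30', sw_47_30, sw_47_30', sw_39_30, sw_39_30', sw_45_30, sw_45_30', sw_26_34, sw_26_34', sw_36_34, sw_36_34',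 sw_42_34, sw_42_34', sw_37_34, sw_37_34', sw_32_34, sw_32_34', sw_38_34, sw_38_34', sw_43_34, sw_43_34', sw_35_34, sw_35_34', sw_31_34, sw_31_34', sw_40_34, sw_40_34', sw_46_34, sw_46_34', sw_29_34, sw_29_34', sw_41_34, sw_41_34', sw_44_34, sw_44_34', sw_47_34, sw_47_34', sw_39_34, sw_39_34', sw_45_34, sw_45_34', sw_36_26, sw_36_26', sw_42_26, sw_42_26', sw_37_26, sw_37_26', sw_32_26, sw_32_26', sw_38_26, sw_38_26', sw_43_26, sw_43_26', sw_35_26, sw_35_26', sw_31_26, sw_31_26', sw_40_26, sw_40_26', sw_46_26, sw_46_26', sw_29_26, sw_29_26', sw_41_26, sw_41_26', sw_44_26, sw_44_26', sw_47_26, sw_47_26', sw_39_26, sw_39_26', sw_45_26, sw_45_26', sw_42_36, sw_42_36', sw_37_36, sw_37_36', sw_32_36, sw_32_36', sw_38_36, sw_38_36', sw_43_36, sw_43_36', sw_35_36, sw_35_36', sw_31_36, sw_31_36', sw_40_36, sw_40_36', sw_46_36, sw_46_36', sw_29_36, sw_29_36', sw_41_36, sw_41_36', sw_44_36, sw_44_36',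 sw_47_36, sw_47_36', sw_39_36, sw_39_36', sw_45_36, sw_45_36', sw_37_42, sw_37_42', sw_32_42, sw_32_42', sw_38_42, sw_38_42', sw_43_42, sw_43_42', sw_35_42, sw_35_42', sw_31_42, sw_31_42', sw_40_42, sw_40_42', sw_46_42, sw_46_42', sw_29_42, sw_29_42', sw_41_42, sw_41_42', sw_44_42, sw_44_42', sw_47_42, sw_47_42', sw_39_42, sw_39_42', sw_45_42, sw_45_42', sw_32_37, sw_32_37', sw_38_37, sw_38_37', sw_43_37, sw_43_37', sw_35_37, sw_35_37', sw_31_37, sw_31_37', sw_40_37, sw_40_37', sw_46_37, sw_46_37', sw_29_37, sw_29_37', sw_41_37, sw_41_37', sw_44_37, sw_44_37', sw_47_37, sw_47_37', sw_39_37, sw_39_37', sw_45_37, sw_45_37', sw_38_32, sw_38_32', sw_43_32, sw_43_32', sw_35_32, sw_35_32', sw_31_32, sw_31_32', sw_40_32, sw_40_32', sw_46_32, sw_46_32', sw_29_32, sw_29_32', sw_41_32, sw_41_32', sw_44_32, sw_44_32', sw_47_32, sw_47_32', sw_39_32, sw_39_32', sw_45_32, sw_45_32', sw_43_38, sw_43_38',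 sw_35_38, sw_35_38', sw_31_38, sw_31_38', sw_40_38, sw_40_38', sw_46_38, sw_46_38', sw_29_38, sw_29_38', sw_41_38, sw_41_38', sw_44_38, sw_44_38', sw_47_38, sw_47_38', sw_39_38, sw_39_38', sw_45_38, sw_45_38', sw_35_43, sw_35_43', sw_31_43, sw_31_43', sw_40_43, sw_40_43', sw_46_43, sw_46_43', sw_29_43, sw_29_43', sw_41_43, sw_41_43', sw_44_43, sw_44_43', sw_47_43, sw_47_43', sw_39_43, sw_39_43', sw_45_43, sw_45_43', sw_31_35, sw_31_35', sw_40_35, sw_40_35', sw_46_35, sw_46_35', sw_29_35, sw_29_35', sw_41_35, sw_41_35', sw_44_35, sw_44_35', sw_47_35, sw_47_35', sw_39_35, sw_39_35', sw_45_35, sw_45_35', sw_40_31, sw_40_31', sw_46_31, sw_46_31', sw_29_31, sw_29_31', sw_41_31, sw_41_31', sw_44_31, sw_44_31', sw_47_31, sw_47_31', sw_39_31, sw_39_31', sw_45_31, sw_45_31', sw_46_40, sw_46_40', sw_29_40, sw_29_40', sw_41_40, sw_41_40', sw_44_40, sw_44_40', sw_47_40, sw_47_40', sw_39_40, sw_39_40',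 sw_45_40, sw_45_40', sw_29_46, sw_29_46', sw_41_46, sw_41_46', sw_44_46, sw_44_46', sw_47_46, sw_47_46', sw_39_46, sw_39_46', sw_45_46, sw_45_46', sw_41_29, sw_41_29', sw_44_29, sw_44_29', sw_47_29, sw_47_29', sw_39_29, sw_39_29', sw_45_29, sw_45_29', sw_44_41, sw_44_41', sw_47_41, sw_47_41', sw_39_41, sw_39_41', sw_45_41, sw_45_41', sw_47_44, sw_47_44', sw_39_44, sw_39_44', sw_45_44, sw_45_44', sw_39_47, sw_39_47', sw_45_47, sw_45_47', sw_45_39, sw_45_39']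
  refine X_congr 33 ?_ (X_congr 24 ?_ (X_congr 27 ?_ (X_congr 25 ?_ (X_congr 28 ?_ (X_congr 30 ?_ (X_congr 34 ?_ (X_congr 26 ?_ (X_congr 36 ?_ (X_congr 42 ?_ (X_congr 37 ?_ (X_congr 32 ?_ (X_congr 38 ?_ (X_congr 43 ?_ (X_congr 35 ?_ (X_congr 31 ?_ (X_congr 40 ?_ (X_congr 46 ?_ (X_congr 29 ?_ (X_congr 41 ?_ (X_congr 44 ?_ (X_congr 47 ?_ (X_congr 39 ?_ (X_congr1 45 ?_)))))))))))))))))))))))
  all_goals (try simp only [map_add, map_mul, map_pow, hσ])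
  all_goals (first | rfl | (rw [← sub_eq_zero]; ring_nf; try reduce_mod_char!))

/-- right multiplication of the normal form by `u1` -/
def rmul1 (σ : K →+* K) (s : T12 K) (p : K) : T12 K where
  a := s.a + p
  b := s.b + s.k * p
  c := (σ s.k) * (σ p) * s.b + (σ p) * s.h + (σ p) * s.l * p + s.c + s.e * p
  d := (σ s.h) * p + (σ s.k) * (σ p) * s.k ^ 2 * p + (σ s.l) * (σ p) * p + (σ p) * s.b * s.l + (σ p) * s.j + s.d
  e := (σ p) * s.l + s.e
  f := (σ s.h) * (σ s.k) * s.k * p ^ 2 + (σ s.h) * s.h * p + (σ s.h) * s.l * p ^ 2 + (σ s.k) * (σ s.l) * (σ p) * s.k * p ^ 2 + (σ s.k) * (σ p) * s.h * s.k ^ 2 * p + (σ s.k) * (σ p) * s.j * s.k * p + (σ s.k) * s.c * s.k ^ 2 * p + (σ s.k) * s.d * s.k * p + (σ s.k) * s.e * s.k ^ 2 * p ^ 2 + (σ s.k) ^ 2 * (σ p) * s.k ^ 3 * p ^ 2 + (σ s.l) * (σ p) * s.h * p + (σ s.l) * (σ p) * s.l * p ^ 2 + (σ s.l) * s.c * p + (σ p) * s.h * s.j + (σ p) * s.h * s.k * s.l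 * p + (σ p) * s.j * s.l * p + (σ p) * s.k * s.l ^ 2 * p ^ 2 + s.c * s.k * s.l * p + s.d * s.l * p + s.e * s.j * p + s.e * s.k * s.l * p ^ 2 + s.f + s.i * p
  g := (σ s.b) * (σ s.k) * s.k ^ 2 * p + (σ s.b) * (σ s.l) * p + (σ s.b) * s.k * s.l * p + (σ s.j) * p + (σ s.k) * (σ p) * s.k * s.l * p + (σ p) * s.h * s.l + (σ p) * s.l ^ 2 * p + s.g
  h := (σ s.k) * s.k * p + s.h + s.l * p
  i := (σ s.k) * (σ s.l) * (σ p) * s.b + (σ s.k) * (σ p) * s.h * s.k ^ 2 + (σ s.k) ^ 2 * (σ p) * s.b * s.k ^ 2 + (σ s.l) * (σ p) * s.h + (σ p) * s.b * s.l ^ 2 + (σ p) * s.j * s.l + s.i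
  j := (σ s.k) * s.k ^ 2 * p + (σ s.l) * p + s.j + s.k * s.l * p
  k := s.k
  l := s.l

set_option maxHeartbeats 4000000 in
theorem Phi_rmul1 [CharP K 2] (σ : K →+* K) (hσ : ∀ x, σ (σ x) = x ^ 2) (s : T12 K) (p : K) :
    Phi σ s * u1 σ p = Phi σ (rmul1 σ s p) := by
  unfold Phi rmul1 u1 u2 u3 u4 u5 u6 u7 u8
  simp only [mul_assoc, X_add, X_add', sw_24_33, sw_24_33', sw_27_33, sw_27_33', sw_25_33, sw_25_33', sw_28_33, sw_28_33', sw_30_33, sw_30_33', sw_34_33, sw_34_33', sw_26_33, sw_26_33', sw_36_33, sw_36_33', sw_42_33, sw_42_33', sw_37_33, sw_37_33', sw_32_33, sw_32_33', sw_38_33, sw_38_33', sw_43_33, sw_43_33', sw_35_33, sw_35_33', sw_31_33, sw_31_33', sw_40_33, sw_40_33', sw_46_33, sw_46_33', sw_29_33, sw_29_33', sw_41_33, sw_41_33', sw_44_33, sw_44_33', sw_47_33, sw_47_33', sw_39_33, sw_39_33', sw_45_33, sw_45_33', sw_27_24, sw_27_24', sw_25_24, sw_25_24', sw_28_24, sw_28_24',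 sw_30_24, sw_30_24', sw_34_24, sw_34_24', sw_26_24, sw_26_24', sw_36_24, sw_36_24', sw_42_24, sw_42_24', sw_37_24, sw_37_24', sw_32_24, sw_32_24', sw_38_24, sw_38_24', sw_43_24, sw_43_24', sw_35_24, sw_35_24', sw_31_24, sw_31_24', sw_40_24, sw_40_24', sw_46_24, sw_46_24', sw_29_24, sw_29_24', sw_41_24, sw_41_24', sw_44_24, sw_44_24', sw_47_24, sw_47_24', sw_39_24, sw_39_24', sw_45_24, sw_45_24', sw_25_27, sw_25_27', sw_28_27, sw_28_27', sw_30_27, sw_30_27', sw_34_27, sw_34_27', sw_26_27, sw_26_27', sw_36_27, sw_36_27', sw_42_27, sw_42_27', sw_37_27, sw_37_27', sw_32_27, sw_32_27', sw_38_27, sw_38_27', sw_43_27, sw_43_27', sw_35_27, sw_35_27', sw_31_27, sw_31_27', sw_40_27, sw_40_27', sw_46_27, sw_46_27', sw_29_27, sw_29_27', sw_41_27, sw_41_27', sw_44_27, sw_44_27', sw_47_27, sw_47_27', sw_39_27, sw_39_27', sw_45_27, sw_45_27', sw_28_25, sw_28_25', sw_30_25, sw_30_25', sw_34_25, sw_34_25',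 sw_26_25, sw_26_25', sw_36_25, sw_36_25', sw_42_25, sw_42_25', sw_37_25, sw_37_25', sw_32_25, sw_32_25', sw_38_25, sw_38_25', sw_43_25, sw_43_25', sw_35_25, sw_35_25', sw_31_25, sw_31_25', sw_40_25, sw_40_25', sw_46_25, sw_46_25', sw_29_25, sw_29_25', sw_41_25, sw_41_25', sw_44_25, sw_44_25', sw_47_25, sw_47_25', sw_39_25, sw_39_25', sw_45_25, sw_45_25', sw_30_28, sw_30_28', sw_34_28, sw_34_28', sw_26_28, sw_26_28', sw_36_28, sw_36_28', sw_42_28, sw_42_28', sw_37_28, sw_37_28', sw_32_28, sw_32_28', sw_38_28, sw_38_28', sw_43_28, sw_43_28', sw_35_28, sw_35_28', sw_31_28, sw_31_28', sw_40_28, sw_40_28', sw_46_28, sw_46_28', sw_29_28, sw_29_28', sw_41_28, sw_41_28', sw_44_28, sw_44_28', sw_47_28, sw_47_28', sw_39_28, sw_39_28', sw_45_28, sw_45_28', sw_34_30, sw_34_30', sw_26_30, sw_26_30', sw_36_30, sw_36_30', sw_42_30, sw_42_30', sw_37_30, sw_37_30', sw_32_30, sw_32_30', sw_38_30, sw_38_30',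 sw_43_30, sw_43_30', sw_35_30, sw_35_30', sw_31_30, sw_31_30', sw_40_30, sw_40_30', sw_46_30, sw_46_30', sw_29_30, sw_29_30', sw_41_30, sw_41_30', sw_44_30, sw_44_30', sw_47_30, sw_47_30', sw_39_30, sw_39_30', sw_45_30, sw_45_30', sw_26_34, sw_26_34', sw_36_34, sw_36_34', sw_42_34, sw_42_34', sw_37_34, sw_37_34', sw_32_34, sw_32_34', sw_38_34, sw_38_34', sw_43_34, sw_43_34', sw_35_34, sw_35_34', sw_31_34, sw_31_34', sw_40_34, sw_40_34', sw_46_34, sw_46_34', sw_29_34, sw_29_34', sw_41_34, sw_41_34', sw_44_34, sw_44_34', sw_47_34, sw_47_34', sw_39_34, sw_39_34', sw_45_34, sw_45_34', sw_36_26, sw_36_26', sw_42_26, sw_42_26', sw_37_26, sw_37_26', sw_32_26, sw_32_26', sw_38_26, sw_38_26', sw_43_26, sw_43_26', sw_35_26, sw_35_26', sw_31_26, sw_31_26', sw_40_26, sw_40_26', sw_46_26, sw_46_26', sw_29_26, sw_29_26', sw_41_26, sw_41_26', sw_44_26, sw_44_26', sw_47_26, sw_47_26', sw_39_26, sw_39_26',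 sw_45_26, sw_45_26', sw_42_36, sw_42_36', sw_37_36, sw_37_36', sw_32_36, sw_32_36', sw_38_36, sw_38_36', sw_43_36, sw_43_36', sw_35_36, sw_35_36', sw_31_36, sw_31_36', sw_40_36, sw_40_36', sw_46_36, sw_46_36', sw_29_36, sw_29_36', sw_41_36, sw_41_36', sw_44_36, sw_44_36', sw_47_36, sw_47_36', sw_39_36, sw_39_36', sw_45_36, sw_45_36', sw_37_42, sw_37_42', sw_32_42, sw_32_42', sw_38_42, sw_38_42', sw_43_42, sw_43_42', sw_35_42, sw_35_42', sw_31_42, sw_31_42', sw_40_42, sw_40_42', sw_46_42, sw_46_42', sw_29_42, sw_29_42', sw_41_42, sw_41_42', sw_44_42, sw_44_42', sw_47_42, sw_47_42', sw_39_42, sw_39_42', sw_45_42, sw_45_42', sw_32_37, sw_32_37', sw_38_37, sw_38_37', sw_43_37, sw_43_37', sw_35_37, sw_35_37', sw_31_37, sw_31_37', sw_40_37, sw_40_37', sw_46_37, sw_46_37', sw_29_37, sw_29_37', sw_41_37, sw_41_37', sw_44_37, sw_44_37', sw_47_37, sw_47_37', sw_39_37, sw_39_37', sw_45_37, sw_45_37',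 sw_38_32, sw_38_32', sw_43_32, sw_43_32', sw_35_32, sw_35_32', sw_31_32, sw_31_32', sw_40_32, sw_40_32', sw_46_32, sw_46_32', sw_29_32, sw_29_32', sw_41_32, sw_41_32', sw_44_32, sw_44_32', sw_47_32, sw_47_32', sw_39_32, sw_39_32', sw_45_32, sw_45_32', sw_43_38, sw_43_38', sw_35_38, sw_35_38', sw_31_38, sw_31_38', sw_40_38, sw_40_38', sw_46_38, sw_46_38', sw_29_38, sw_29_38', sw_41_38, sw_41_38', sw_44_38, sw_44_38', sw_47_38, sw_47_38', sw_39_38, sw_39_38', sw_45_38, sw_45_38', sw_35_43, sw_35_43', sw_31_43, sw_31_43', sw_40_43, sw_40_43', sw_46_43, sw_46_43', sw_29_43, sw_29_43', sw_41_43, sw_41_43', sw_44_43, sw_44_43', sw_47_43, sw_47_43', sw_39_43, sw_39_43', sw_45_43, sw_45_43', sw_31_35, sw_31_35', sw_40_35, sw_40_35', sw_46_35, sw_46_35', sw_29_35, sw_29_35', sw_41_35, sw_41_35', sw_44_35, sw_44_35', sw_47_35, sw_47_35', sw_39_35, sw_39_35', sw_45_35, sw_45_35', sw_40_31, sw_40_31',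 sw_46_31, sw_46_31', sw_29_31, sw_29_31', sw_41_31, sw_41_31', sw_44_31, sw_44_31', sw_47_31, sw_47_31', sw_39_31, sw_39_31', sw_45_31, sw_45_31', sw_46_40, sw_46_40', sw_29_40, sw_29_40', sw_41_40, sw_41_40', sw_44_40, sw_44_40', sw_47_40, sw_47_40', sw_39_40, sw_39_40', sw_45_40, sw_45_40', sw_29_46, sw_29_46', sw_41_46, sw_41_46', sw_44_46, sw_44_46', sw_47_46, sw_47_46', sw_39_46, sw_39_46', sw_45_46, sw_45_46', sw_41_29, sw_41_29', sw_44_29, sw_44_29', sw_47_29, sw_47_29', sw_39_29, sw_39_29', sw_45_29, sw_45_29', sw_44_41, sw_44_41', sw_47_41, sw_47_41', sw_39_41, sw_39_41', sw_45_41, sw_45_41', sw_47_44, sw_47_44', sw_39_44, sw_39_44', sw_45_44, sw_45_44', sw_39_47, sw_39_47', sw_45_47, sw_45_47', sw_45_39, sw_45_39']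
  refine X_congr 33 ?_ (X_congr 24 ?_ (X_congr 27 ?_ (X_congr 25 ?_ (X_congr 28 ?_ (X_congr 30 ?_ (X_congr 34 ?_ (X_congr 26 ?_ (X_congr 36 ?_ (X_congr 42 ?_ (X_congr 37 ?_ (X_congr 32 ?_ (X_congr 38 ?_ (X_congr 43 ?_ (X_congr 35 ?_ (X_congr 31 ?_ (X_congr 40 ?_ (X_congr 46 ?_ (X_congr 29 ?_ (X_congr 41 ?_ (X_congr 44 ?_ (X_congr 47 ?_ (X_congr 39 ?_ (X_congr1 45 ?_)))))))))))))))))))))))
  all_goals (try simp only [map_add, map_mul, map_pow, hσ])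
  all_goals (first | rfl | (rw [← sub_eq_zero]; ring_nf; try reduce_mod_char!))


section

variable (σ : K →+* K)

/-- the product of two normal forms, in coordinates -/
def mulT (s s' : T12 K) : T12 K :=
  rmul5 σ (rmul4 σ (rmul6 σ (rmul3 σ (rmul7 σ (rmul2 σ (rmul8 σ (rmul1 σ s s'.a) s'.k s'.l) s'.b s'.c) s'.j) s'.d)
    s'.h s'.i) s'.e s'.f) s'.g

instance : Zero (T12 K) := ⟨⟨0, 0, 0, 0, 0, 0, 0, 0, 0, 0, 0, 0⟩⟩

@[simp] theorem zero_a : (0 : T12 K).a = 0 := rfl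
@[simp] theorem zero_b : (0 : T12 K).b = 0 := rfl
@[simp] theorem zero_c : (0 : T12 K).c = 0 := rfl
@[simp] theorem zero_d : (0 : T12 K).d = 0 := rfl
@[simp] theorem zero_e : (0 : T12 K).e = 0 := rfl
@[simp] theorem zero_f : (0 : T12 K).f = 0 := rfl
@[simp] theorem zero_g : (0 : T12 K).g = 0 := rfl
@[simp] theorem zero_h : (0 : T12 K).h = 0 := rfl
@[simp] theorem zero_i : (0 : T12 K).i = 0 := rfl
@[simp] theorem zero_j : (0 : T12 K).j = 0 := rfl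
@[simp] theorem zero_k : (0 : T12 K).k = 0 := rfl
@[simp] theorem zero_l : (0 : T12 K).l = 0 := rfl

theorem u1_zero : u1 σ 0 = 1 := by simp [u1, X_zero]
theorem u3_zero : u3 σ 0 = 1 := by simp [u3, X_zero]
theorem u5_zero : u5 σ 0 = 1 := by simp [u5, X_zero]
theorem u7_zero : u7 σ 0 = 1 := by simp [u7, X_zero]
theorem u2_zero : u2 σ 0 0 = 1 := by simp [u2, X_zero]
theorem u4_zero : u4 σ 0 0 = 1 := by simp [u4, X_zero]
theorem u6_zero : u6 σ 0 0 = 1 := by simp [u6, X_zero]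
theorem u8_zero : u8 σ 0 0 = 1 := by simp [u8, X_zero]

theorem Phi_zero : Phi σ (0 : T12 K) = 1 := by
  simp [Phi, u1_zero, u2_zero, u3_zero, u4_zero, u5_zero, u6_zero, u7_zero, u8_zero]

theorem Phi_mul [CharP K 2] (hσ : ∀ x, σ (σ x) = x ^ 2) (s s' : T12 K) :
    Phi σ s * Phi σ s' = Phi σ (mulT σ s s') := by
  unfold mulT
  rw [← Phi_rmul5 σ hσ, ← Phi_rmul4 σ hσ, ← Phi_rmul6 σ hσ, ← Phi_rmul3 σ hσ, ← Phi_rmul7 σ hσ, ← Phi_rmul2 σ hσ,
    ← Phi_rmul8 σ hσ, ← Phi_rmul1 σ hσ]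
  have h : Phi σ s' = u1 σ s'.a * (u8 σ s'.k s'.l * (u2 σ s'.b s'.c * (u7 σ s'.j * (u3 σ s'.d * (u6 σ s'.h s'.i *
      (u4 σ s'.e s'.f * u5 σ s'.g)))))) := rfl
  rw [h]
  simp only [mul_assoc]

/-- the element with a single non-zero block -/
def e1 (p : K) : T12 K := ⟨p, 0, 0, 0, 0, 0, 0, 0, 0, 0, 0, 0⟩
def e2 (p r : K) : T12 K := ⟨0, p, r, 0, 0, 0, 0, 0, 0, 0, 0, 0⟩
def e3 (p : K) : T12 K := ⟨0, 0, 0, p, 0, 0, 0, 0, 0, 0, 0, 0⟩
def e4 (p r : K) : T12 K := ⟨0, 0, 0, 0, p, r, 0, 0, 0, 0, 0, 0⟩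
def e5 (p : K) : T12 K := ⟨0, 0, 0, 0, 0, 0, p, 0, 0, 0, 0, 0⟩
def e6 (p r : K) : T12 K := ⟨0, 0, 0, 0, 0, 0, 0, p, r, 0, 0, 0⟩
def e7 (p : K) : T12 K := ⟨0, 0, 0, 0, 0, 0, 0, 0, 0, p, 0, 0⟩
def e8 (p r : K) : T12 K := ⟨0, 0, 0, 0, 0, 0, 0, 0, 0, 0, p, r⟩

theorem Phi_e1 (p : K) : Phi σ (e1 p) = u1 σ p := by
  simp [Phi, e1, u2_zero, u3_zero, u4_zero, u5_zero, u6_zero, u7_zero, u8_zero]
theorem Phi_e2 (p r : K) : Phi σ (e2 p r) = u2 σ p r := by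
  simp [Phi, e2, u1_zero, u3_zero, u4_zero, u5_zero, u6_zero, u7_zero, u8_zero]
theorem Phi_e3 (p : K) : Phi σ (e3 p) = u3 σ p := by
  simp [Phi, e3, u1_zero, u2_zero, u4_zero, u5_zero, u6_zero, u7_zero, u8_zero]
theorem Phi_e4 (p r : K) : Phi σ (e4 p r) = u4 σ p r := by
  simp [Phi, e4, u1_zero, u2_zero, u3_zero, u5_zero, u6_zero, u7_zero, u8_zero]
theorem Phi_e5 (p : K) : Phi σ (e5 p) = u5 σ p := by
  simp [Phi, e5, u1_zero, u2_zero, u3_zero, u4_zero, u6_zero, u7_zero, u8_zero]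
theorem Phi_e6 (p r : K) : Phi σ (e6 p r) = u6 σ p r := by
  simp [Phi, e6, u1_zero, u2_zero, u3_zero, u4_zero, u5_zero, u7_zero, u8_zero]
theorem Phi_e7 (p : K) : Phi σ (e7 p) = u7 σ p := by
  simp [Phi, e7, u1_zero, u2_zero, u3_zero, u4_zero, u5_zero, u6_zero, u8_zero]
theorem Phi_e8 (p r : K) : Phi σ (e8 p r) = u8 σ p r := by
  simp [Phi, e8, u1_zero, u2_zero, u3_zero, u4_zero, u5_zero, u6_zero, u7_zero]

end

end Cfsg.Agent.Lib.Helper18_TF4Inv
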