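import Mathlib
import Cfsg.Agent.Lib.Helper18_TF4Inv

/-!
# S2184 (architect helper18): the facts on `²F₄(q)` used by the classification of its involutions

`Cj G x y`: `x` and `y` are conjugate under an element of the subgroup `G`.  `Facts σ G` bundles what the abstract part of
the proof (the reduction of an involution of the unipotent subgroup to a root element, `Helper18_TF4InvRed`) needs from
the matrix group `G = twistedF4 K (2 ^ m)`; the glue packages prove it for that group.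
-/

set_option autoImplicit false

namespace Cfsg.Agent.Lib.Helper18_TF4Inv

open Cfsg Cfsg.Lie Cfsg.Agent.Lib.Helper18_ChevGL Cfsg.Agent.Lib.Helper18_ChevUni
  Cfsg.Agent.Lib.Helper36_F4Setup Cfsg.Agent.Lib.Helper18_TF4Swap

variable {K : Type*} [Field K]

/-- conjugate under an element of `G` -/
def Cj (G : Subgroup (GL chevF4.Idx K)) (x y : GL chevF4.Idx K) : Prop := ∃ c ∈ G, c * x * c⁻¹ = y

theorem Cj.refl (G : Subgroup (GL chevF4.Idx K)) (x : GL chevF4.Idx K) : Cj G x x :=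
  ⟨1, G.one_mem, by simp⟩

theorem Cj.symm {G : Subgroup (GL chevF4.Idx K)} {x y : GL chevF4.Idx K} (h : Cj G x y) : Cj G y x := by
  obtain ⟨c, hc, rfl⟩ := h
  exact ⟨c⁻¹, G.inv_mem hc, by group⟩

theorem Cj.trans {G : Subgroup (GL chevF4.Idx K)} {x y z : GL chevF4.Idx K} (h : Cj G x y) (h' : Cj G y z) :
    Cj G x z := by
  obtain ⟨c, hc, rfl⟩ := h
  obtain ⟨c', hc', rfl⟩ := h'
  exact ⟨c' * c, G.mul_mem hc' hc, by group⟩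

/-- The action of the element `n_A` of the Weyl group (`U2 ↔ U8`, `U3 ↔ U7`, `U4 ↔ U6`, `U5` fixed). -/
def WeylA (σ : K →+* K) (n : GL chevF4.Idx K) : Prop :=
  (∀ p r, n * u2 σ p r * n⁻¹ = u8 σ p r) ∧ (∀ p r, n * u8 σ p r * n⁻¹ = u2 σ p r) ∧
  (∀ p, n * u3 σ p * n⁻¹ = u7 σ p) ∧ (∀ p, n * u7 σ p * n⁻¹ = u3 σ p) ∧
  (∀ p r, n * u4 σ p r * n⁻¹ = u6 σ p r) ∧ (∀ p r, n * u6 σ p r * n⁻¹ = u4 σ p r) ∧
  (∀ p, n * u5 σ p * n⁻¹ = u5 σ p)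

/-- The action of the element `n_B` of the Weyl group (`U1 ↔ U7`, `U2 ↔ U6`, `U3 ↔ U5`, `U4` fixed). -/
def WeylB (σ : K →+* K) (n : GL chevF4.Idx K) : Prop :=
  (∀ p, n * u1 σ p * n⁻¹ = u7 σ p) ∧ (∀ p, n * u7 σ p * n⁻¹ = u1 σ p) ∧
  (∀ p r, n * u2 σ p r * n⁻¹ = u6 σ p r) ∧ (∀ p r, n * u6 σ p r * n⁻¹ = u2 σ p r) ∧
  (∀ p, n * u3 σ p * n⁻¹ = u5 σ p) ∧ (∀ p, n * u5 σ p * n⁻¹ = u3 σ p) ∧
  (∀ p r, n * u4 σ p r * n⁻¹ = u4 σ p r)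

/-- The facts on the matrix group `G` (`= ²F₄(q)`) used by the classification of the involutions. -/
structure Facts (σ : K →+* K) (G : Subgroup (GL chevF4.Idx K)) : Prop where
  sig : ∀ x, σ (σ x) = x ^ 2
  sqrt : ∀ x : K, ∃ y, y ^ 2 = x
  mem1 : ∀ p, u1 σ p ∈ G
  mem2 : ∀ p r, u2 σ p r ∈ G
  mem3 : ∀ p, u3 σ p ∈ G
  mem4 : ∀ p r, u4 σ p r ∈ G
  mem5 : ∀ p, u5 σ p ∈ G
  mem6 : ∀ p r, u6 σ p r ∈ G
  mem7 : ∀ p, u7 σ p ∈ G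
  mem8 : ∀ p r, u8 σ p r ∈ G
  weylA : ∃ n ∈ G, WeylA σ n
  weylB : ∃ n ∈ G, WeylB σ n
  torus4 : ∀ f, f ≠ 0 → Cj G (u4 σ 0 f) (u4 σ 0 1)
  torus1 : ∀ a, a ≠ 0 → Cj G (u1 σ a) (u1 σ 1)
  surj : ∀ g ∈ G, g ∈ chevF4.posUnipotent K → ∃ s, Phi σ s = g
  inj : Function.Injective (Phi σ)
  sylow : ∀ g ∈ G, orderOf g = 2 → ∃ c ∈ G, c * g * c⁻¹ ∈ chevF4.posUnipotent K
  nonconj : ¬ Cj G (u4 σ 0 1) (u1 σ 1)

end Cfsg.Agent.Lib.Helper18_TF4Inv
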