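import Cfsg.Agent.Lib.Helper36_TwistAbs

set_option autoImplicit false

/-!
The homomorphism from the monomial elements of a group of fixed elements onto the group of the fixed elements of the
Weyl group, with kernel the diagonal elements.
-/

namespace Cfsg.Agent.Lib.Helper36_TwistAbsN

open Cfsg Cfsg.Lie Cfsg.Agent.Lib.Helper36_ChevCoeff Cfsg.Agent.Lib.Helper36_ChevAdd
  Cfsg.Agent.Lib.Helper36_ChevWeyl Cfsg.Agent.Lib.Helper36_ChevGen Cfsg.Agent.Lib.Helper36_ChevTables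
  Cfsg.Agent.Lib.Helper36_ChevTorus Cfsg.Agent.Lib.Helper36_ChevBorel Cfsg.Agent.Lib.Helper36_ChevW0
  Cfsg.Agent.Lib.Helper36_ChevCore Cfsg.Agent.Lib.Helper36_ChevCommU Cfsg.Agent.Lib.Helper36_WeylChain
  Cfsg.Agent.Lib.Helper36_WeylLit Cfsg.Agent.Lib.Helper36_WeylLit.RootLit Cfsg.Agent.Lib.Helper36_ChevOrder
  Cfsg.Agent.Lib.Helper36_TwistAbs

variable {D : ChevalleyDatum} {K : Type*} [Field K] (hf : Facts D K) {L : RootLit} {hwf : L.WF}
  {π : Equiv.Perm (Fin L.n)} {W1 : Subgroup (Equiv.Perm (Fin L.n))} {G1 : Subgroup (GL D.Idx K)}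
  (A : TwAbs hf L hwf π W1 G1) (hl : LitOK D L)
  (hchain : ChainOK D) (hx : XInj D K)
  (hNU : Subgroup.normalizer (D.posUnipotent K : Set (GL D.Idx K)) ⊓ D.group K = D.borelSubgroup K)
  (hBN : D.borelSubgroup K ⊓ D.monomialSubgroup K = D.diagonalSubgroup K)

include A hl hchain hx hNU hBN in
/-- The homomorphism `N¹ → W¹`. -/
theorem exists_weylHom : ∃ φ : ↥(D.monomialSubgroup K ⊓ G1) →* ↥W1, Function.Surjective φ ∧
    φ.ker = (D.diagonalSubgroup K ⊓ G1).subgroupOf (D.monomialSubgroup K ⊓ G1) ∧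
    ∀ n : ↥(D.monomialSubgroup K ⊓ G1), ActsAs D K hf L (n : GL D.Idx K) ((φ n : ↥W1) : Equiv.Perm (Fin L.n)) := by
  classical
  have hex : ∀ n : ↥(D.monomialSubgroup K ⊓ G1), ∃ x : ↥W1, ActsAs D K hf L (n : GL D.Idx K) (x : Equiv.Perm (Fin L.n)) := by
    intro n
    obtain ⟨x, hxW, hact⟩ := A.weyl n.1 n.2.1 n.2.2
    exact ⟨⟨x, hxW⟩, hact⟩
  let f : ↥(D.monomialSubgroup K ⊓ G1) → ↥W1 := fun n => Classical.choose (hex n)
  have hfact : ∀ n : ↥(D.monomialSubgroup K ⊓ G1),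
      ActsAs D K hf L (n : GL D.Idx K) ((f n : ↥W1) : Equiv.Perm (Fin L.n)) :=
    fun n => Classical.choose_spec (hex n)
  have hmul : ∀ a b, f (a * b) = f a * f b := by
    intro a b
    apply Subtype.ext
    have h1 := hfact (a * b)
    have h2 := actsAs_mul D K hf L (hfact a) (hfact b)
    exact actsAs_unique D K hf L hl hx h1 h2
  refine ⟨MonoidHom.mk' f hmul, ?_, ?_, hfact⟩
  · rintro ⟨x, hxW⟩
    obtain ⟨m, hmN, hmG, hmact⟩ := A.W1rep x hxW
    refine ⟨(⟨m, ⟨hmN, hmG⟩⟩ : ↥(D.monomialSubgroup K ⊓ G1)), ?_⟩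
    apply Subtype.ext
    exact actsAs_unique D K hf L hl hx (hfact (⟨m, ⟨hmN, hmG⟩⟩ : ↥(D.monomialSubgroup K ⊓ G1))) hmact
  · ext n
    rw [MonoidHom.mem_ker, Subgroup.mem_subgroupOf]
    show f n = 1 ↔ _
    constructor
    · intro h
      have h1 := hfact n
      rw [h] at h1
      exact ⟨mem_diag_of_actsAs_one D K hf L hl hNU hBN _ n.2.1 h1, n.2.2⟩
    · intro h
      apply Subtype.ext
      have h1 := actsAs_diag D K hf L hchain hl _ h.1
      exact actsAs_unique D K hf L hl hx (hfact n) h1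

end Cfsg.Agent.Lib.Helper36_TwistAbsN
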