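import Cfsg.Agent.Lib.Helper36_F4Order
import Cfsg.Agent.Lib.Helper36_TwistAbsN
import Cfsg.Agent.Lib.Helper4_DihedralIso

set_option autoImplicit false
set_option maxRecDepth 100000

/-!
Type `²F₄`: the quotient of the monomial elements of the twisted group by the diagonal ones is the dihedral group of
order `16`.
-/

namespace Cfsg.Agent.Lib.Helper36_F4N

open Cfsg Cfsg.Lie
  Cfsg.Agent.Lib.Helper36_ChevTorus Cfsg.Agent.Lib.Helper36_ChevBorel
  Cfsg.Agent.Lib.Helper36_ChevTables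
  Cfsg.Agent.Lib.Helper36_ChevOrder Cfsg.Agent.Lib.Helper36_WeylChain
  Cfsg.Agent.Lib.Helper36_WeylLit Cfsg.Agent.Lib.Helper36_WeylLit.RootLit
  Cfsg.Agent.Lib.Helper36_ChevDataF4Lit Cfsg.Agent.Lib.Helper36_ChevDataF4LitOK
  Cfsg.Agent.Lib.Helper36_TwistGen Cfsg.Agent.Lib.Helper36_TwistWeyl Cfsg.Agent.Lib.Helper36_TwistWeylF4
  Cfsg.Agent.Lib.Helper36_TwistBN Cfsg.Agent.Lib.Helper36_TwistAbs Cfsg.Agent.Lib.Helper36_TwistAbsN
  Cfsg.Agent.Lib.Helper36_F4Setup Cfsg.Agent.Lib.Helper36_F4BN Cfsg.Agent.Lib.Helper36_F4U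
  Cfsg.Agent.Lib.Helper36_F4Order Cfsg.Agent.Lib.Helper36_F4Cell

theorem wPerm_app (w w' : List ℕ) : lit'.wPerm wf' (w ++ w') = lit'.wPerm wf' w * lit'.wPerm wf' w' := by
  unfold RootLit.wPerm
  rw [List.map_append, List.prod_append]

theorem w0_sq_tab : ∀ s < lit.n, evalWord lit' (chainA ++ chainA) s = s := by decide +kernel

/-- The longest element is an involution. -/
theorem w0_sq : lit'.wPerm wf' chainA * lit'.wPerm wf' chainA = 1 := by
  rw [← wPerm_app]
  ext s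
  rw [wPerm_eval lit' wf' _ (by decide), Equiv.Perm.one_apply]
  exact w0_sq_tab s s.2

theorem wPerm_ne (i j : Fin 16) (hij : i ≠ j) :
    lit'.wPerm wf' (words16.getD i []) ≠ lit'.wPerm wf' (words16.getD j []) := by
  intro e
  apply hij
  apply e16_bijective.1
  exact Subtype.ext e

theorem x_ne_one : lit'.sPerm wf' 0 ≠ 1 := by
  have := wPerm_ne 9 0 (by decide)
  intro h
  apply this
  show lit'.wPerm wf' [0] = lit'.wPerm wf' []
  rw [wPerm_cons, wPerm_nil, mul_one, h]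

theorem y_ne_one : lit'.sPerm wf' 1 ≠ 1 := by
  have := wPerm_ne 1 0 (by decide)
  intro h
  apply this
  show lit'.wPerm wf' [1] = lit'.wPerm wf' []
  rw [wPerm_cons, wPerm_nil, mul_one, h]

theorem pow_four : (lit'.sPerm wf' 0 * lit'.sPerm wf' 1) ^ 4 = lit'.wPerm wf' chainA := by
  unfold chainA
  simp only [wPerm_cons, wPerm_nil, mul_one, pow_succ, pow_zero, one_mul, mul_assoc]

/-- The product of the two distinguished reflections has order `8`. -/
theorem orderOf_xy : orderOf (lit'.sPerm wf' 0 * lit'.sPerm wf' 1) = 8 := by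
  have h := orderOf_eq_prime_pow (x := lit'.sPerm wf' 0 * lit'.sPerm wf' 1) (p := 2) (n := 2) ?_ ?_
  · exact h
  · show ¬ (lit'.sPerm wf' 0 * lit'.sPerm wf' 1) ^ 4 = 1
    rw [pow_four]
    exact wPerm_ne 8 0 (by decide)
  · show (lit'.sPerm wf' 0 * lit'.sPerm wf' 1) ^ 8 = 1
    have : (lit'.sPerm wf' 0 * lit'.sPerm wf' 1) ^ 8 =
        (lit'.sPerm wf' 0 * lit'.sPerm wf' 1) ^ 4 * (lit'.sPerm wf' 0 * lit'.sPerm wf' 1) ^ 4 := by
      rw [← pow_add]
    rw [this, pow_four, w0_sq]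

theorem W1_eq : lit'.W wf' (List.range 2) =
    Subgroup.closure ({lit'.sPerm wf' 0, lit'.sPerm wf' 1} : Set (Equiv.Perm (Fin lit.n))) := by
  unfold RootLit.W
  congr 1
  ext g
  simp only [Set.mem_setOf_eq, List.mem_range, Set.mem_insert_iff, Set.mem_singleton_iff]
  constructor
  · rintro ⟨i, hi, rfl⟩
    interval_cases i
    · exact Or.inl rfl
    · exact Or.inr rfl
  · rintro (rfl | rfl)
    · exact ⟨0, by decide, rfl⟩
    · exact ⟨1, by decide, rfl⟩

/-- The fixed subgroup of the Weyl group is dihedral of order `16`. -/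
theorem exists_equiv : Nonempty (↥(lit'.W wf' (List.range 2)) ≃* DihedralGroup 8) := by
  rw [W1_eq, ← orderOf_xy]
  exact ⟨(Cfsg.Agent.Lib.Helper4_DihedralIso.dihedralEquiv (lit'.sPerm_mul_self wf' 0) (lit'.sPerm_mul_self wf' 1)
    x_ne_one y_ne_one).symm⟩

section

variable {K : Type*} [Field K] [Fintype K] {m : ℕ} (hK : Fintype.card K = 2 ^ (2 * m + 1))

include hK in
/-- `N¹ / H¹` is dihedral of order `16`. -/
theorem exists_hom : ∃ φ : ↥(chevF4.monomialSubgroup K ⊓ twistedF4 K (2 ^ m)) →* DihedralGroup 8,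
    Function.Surjective φ ∧
    φ.ker = (chevF4.diagonalSubgroup K ⊓ twistedF4 K (2 ^ m)).subgroupOf
      (chevF4.monomialSubgroup K ⊓ twistedF4 K (2 ^ m)) := by
  obtain ⟨φ0, hsurj, hker, -⟩ := exists_weylHom (hfK K) (twAbs hK) litOK hchain (hx K) (hNU K) (hBN K)
  obtain ⟨e⟩ := exists_equiv
  refine ⟨e.toMonoidHom.comp φ0, e.surjective.comp hsurj, ?_⟩
  rw [← hker]
  ext n
  rw [MonoidHom.mem_ker, MonoidHom.mem_ker]
  show e (φ0 n) = 1 ↔ _
  exact e.map_eq_one_iff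

end

end Cfsg.Agent.Lib.Helper36_F4N
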