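import Cfsg.Agent.Lib.Helper18_ChevUni

set_option autoImplicit false

/-!
Coordinates of the elements of the unipotent subgroup `U` of a Chevalley group with respect to the height filtration:
an element of `U` all of whose parameters of height below `k` vanish is congruent to the identity up to height `k`,
and its parameters of height `k` can be read off its matrix entries; they are additive on such elements.
-/

namespace Cfsg.Agent.Lib.Helper36_TwistU

open Cfsg Cfsg.Lie Cfsg.Agent.Lib.Helper18_ChevFast Cfsg.Agent.Lib.Helper18_ChevEngine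
  Cfsg.Agent.Lib.Helper18_ChevR1 Cfsg.Agent.Lib.Helper18_ChevN Cfsg.Agent.Lib.Helper18_ChevR4
  Cfsg.Agent.Lib.Helper18_ChevSimple Cfsg.Agent.Lib.Helper18_ChevSimple2 Cfsg.Agent.Lib.Helper18_ChevFacts
  Cfsg.Agent.Lib.Helper18_ChevWeyl Cfsg.Agent.Lib.Helper18_ChevDiag Cfsg.Agent.Lib.Helper18_ChevCar
  Cfsg.Agent.Lib.Helper18_ChevTorus Cfsg.Agent.Lib.Helper18_ChevGL Cfsg.Agent.Lib.Helper18_ChevComm
  Cfsg.Agent.Lib.Helper18_ChevComm2 Cfsg.Agent.Lib.Helper18_MatTri Cfsg.Agent.Lib.Helper18_ChevTri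
  Cfsg.Agent.Lib.Helper18_ChevBorel Cfsg.Agent.Lib.Helper18_ChevAdd Cfsg.Agent.Lib.Helper18_ChevUni

variable {D : ChevalleyDatum} {Ns : List NData} {K : Type*} [Field K]

/-! ### Products of matrices congruent to the identity up to a level -/

section Mat

variable {n : Type*} [Fintype n] [DecidableEq n] {R : Type*} [CommRing R] {b : n → ℤ}

/-- A product of matrices `A` with `A - 1` raising the grading by at least `k ≥ 1`: the product has the same property,
and up to level `k + 1` it is the sum. -/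
theorem prod_raises {k : ℤ} (hk : 1 ≤ k) :
    ∀ (L : List (Matrix n n R)), (∀ A ∈ L, Raises b k (A - 1)) →
      Raises b k (L.prod - 1) ∧ Raises b (k + 1) (L.prod - 1 - (L.map fun A => A - 1).sum)
  | [], _ => by
    simp only [List.prod_nil, sub_self, List.map_nil, List.sum_nil]
    exact ⟨raises_zero _, raises_zero _⟩
  | A :: L, h => by
    obtain ⟨h1, h2⟩ := prod_raises hk L (fun B hB => h B (List.mem_cons_of_mem _ hB))
    have hA := h A (by simp)
    simp only [List.prod_cons, List.map_cons, List.sum_cons]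
    generalize L.prod = P at *
    generalize (L.map fun A => A - 1).sum = S at *
    constructor
    · have : A * P - 1 = (A - 1) * (P - 1) + (A - 1) + (P - 1) := by noncomm_ring
      rw [this]
      exact (((hA.mul h1).mono (by omega)).add hA).add h1
    · have : A * P - 1 - (A - 1 + S) = (A - 1) * (P - 1) + (P - 1 - S) := by noncomm_ring
      rw [this]
      exact ((hA.mul h1).mono (by omega)).add h2

/-- For two matrices congruent to the identity up to level `k ≥ 1`, the product is the sum up to level `k + 1`. -/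
theorem mul_raises {k : ℤ} (hk : 1 ≤ k) {A B : Matrix n n R} (hA : Raises b k (A - 1)) (hB : Raises b k (B - 1)) :
    Raises b (k + 1) (A * B - 1 - ((A - 1) + (B - 1))) := by
  have : A * B - 1 - ((A - 1) + (B - 1)) = (A - 1) * (B - 1) := by noncomm_ring
  rw [this]
  exact (hA.mul hB).mono (by omega)

end Mat

/-! ### Words of root elements -/

section

variable {wl : List ℤ} {ws : List (List ℤ)} {sc : ℤ} {w : List ℤ}

/-- The grading of the coordinates by the height. -/
abbrev gb (D : ChevalleyDatum) (w : List ℤ) : D.Idx → ℤ := grIdx D (grRoot D w)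

theorem wordMat_eq_prod (wd : List (ℕ × K)) :
    D.wordMat K wd = (wd.map fun p => D.x K p.1 p.2).prod := rfl

/-- A word all of whose letters have height at least `k` or a vanishing parameter is congruent to the identity up to
level `k`, and up to level `k + 1` it is the sum of its letters. -/
theorem word_raises (c : DCert D Ns) (tc : TCert D) (k : ℤ) (hk : 1 ≤ k) (wd : List (ℕ × K))
    (hw : ∀ p ∈ wd, D.IsPosRoot p.1 ∧ (k ≤ grRoot D w p.1 ∨ p.2 = 0)) :
    Raises (gb D w) k (D.wordMat K wd - 1) ∧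
      Raises (gb D w) (k + 1) (D.wordMat K wd - 1 - (wd.map fun p => D.x K p.1 p.2 - 1).sum) := by
  have hg := isGrading_w c tc w
  have h := prod_raises (b := gb D w) hk (wd.map fun p => D.x K p.1 p.2) (by
    intro A hA
    rw [List.mem_map] at hA
    obtain ⟨p, hp, rfl⟩ := hA
    obtain ⟨hpos, h2⟩ := hw p hp
    rcases h2 with h2 | h2
    · exact x_sub_one_raises hg p.1 hpos.1 k hk h2 p.2
    · rw [h2, x_zero, sub_self]
      exact raises_zero _)
  rw [List.map_map] at h
  exact h

/-- The entry of a word in the row of `h_i` and the column of `e_{-s}`, `s` of height `k`, when all letters have height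
at least `k` or a vanishing parameter. -/
theorem word_entry (c : DCert D Ns) (tc : TCert D) (ac : ACert D wl ws sc) (k : ℤ) (hk : 1 ≤ k)
    (wd : List (ℕ × K)) (hw : ∀ p ∈ wd, D.IsPosRoot p.1 ∧ (k ≤ grRoot D w p.1 ∨ p.2 = 0))
    (s : ℕ) (hs : D.IsPosRoot s) (hsk : grRoot D w s = k) (i : Fin D.rank) (hns : D.neg s < D.nroots) :
    D.wordMat K wd (Sum.inl i) (Sum.inr ⟨D.neg s, hns⟩) =
      (wd.map fun p => if p.1 = s then ((cor D s i : ℤ) : K) * p.2 else 0).sum := by
  obtain ⟨-, h2⟩ := word_raises c tc k hk wd hw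
  have h3 := h2 (Sum.inl i) (Sum.inr ⟨D.neg s, hns⟩) (by
    simp only [gb, grIdx]
    rw [grRoot_neg c tc w s hs.1]
    omega)
  rw [Matrix.sub_apply, Matrix.sub_apply, Matrix.one_apply, if_neg Sum.inl_ne_inr, sub_zero, sub_eq_zero] at h3
  rw [h3, list_sum_apply, List.map_map]
  congr 1
  apply List.map_congr_left
  intro p hp
  simp only [Function.comp]
  rw [Matrix.sub_apply, Matrix.one_apply, if_neg Sum.inl_ne_inr, sub_zero]
  exact x_entry_inl_neg c tc ac s p.1 hs.1 (hw p hp).1.1 hns i p.2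

end

/-! ### The parameters of an element of `U` -/

section

variable {wl : List ℤ} {ws : List (List ℤ)} {sc : ℤ} {w : List ℤ}

/-- The word over the positive roots with the parameters `t`. -/
def pw (D : ChevalleyDatum) (t : ℕ → K) : List (ℕ × K) := D.posRoots.map fun r => (r, t r)

open Classical in
/-- The parameters of an element of `U` (zero outside the positive roots, and for elements outside `U`). -/
noncomputable def tOf (c : DCert D Ns) (g : GL D.Idx K) (r : ℕ) : K :=
  if h : (∃ t : ℕ → K, g = wordGL c (pw D t)) ∧ D.IsPosRoot r then h.1.choose r else 0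

theorem tOf_spec (c : DCert D Ns) (tc : TCert D) (ac : ACert D wl ws sc) (hR2 : R2All D K) (g : GL D.Idx K)
    (hg : g ∈ D.posUnipotent K) : g = wordGL c (pw D (tOf c g)) := by
  have hex := posUnipotent_exists_word c tc ac hR2 g hg
  have h1 := hex.choose_spec
  have h2 : pw D (tOf c g) = pw D hex.choose := by
    unfold pw
    apply List.map_congr_left
    intro r hr
    have hp := (mem_posRoots r).mp hr
    unfold tOf
    rw [dif_pos ⟨hex, hp⟩]
    rfl
  rw [h2]
  exact h1

theorem tOf_not_pos (c : DCert D Ns) (g : GL D.Idx K) (r : ℕ) (hr : ¬ D.IsPosRoot r) : tOf c g r = 0 := by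
  unfold tOf
  rw [dif_neg (fun h => hr h.2)]

/-- Uniqueness of the parameters. -/
theorem tOf_eq (c : DCert D Ns) (tc : TCert D) (ac : ACert D wl ws sc) (hR2 : R2All D K) (t : ℕ → K) (r : ℕ)
    (hr : D.IsPosRoot r) : tOf c (wordGL c (pw D t)) r = t r := by
  have hg : wordGL c (pw D t) ∈ D.posUnipotent K := by
    apply wordGL_mem_posUnipotent
    intro p hp
    unfold pw at hp
    rw [List.mem_map] at hp
    obtain ⟨s, hs, rfl⟩ := hp
    exact (mem_posRoots s).mp hs
  have h := tOf_spec c tc ac hR2 _ hg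
  have h2 := congrArg (fun g : GL D.Idx K => (g : Matrix D.Idx D.Idx K)) h
  simp only [wordGL_coe] at h2
  exact (unique_word c tc ac D.posRoots posRoots_nodup (fun s hs => (mem_posRoots s).mp hs) _ _ h2 r
    ((mem_posRoots r).mpr hr)).symm

theorem pw_letters (t : ℕ → K) (k : ℤ) (h : ∀ r, D.IsPosRoot r → grRoot D w r < k → t r = 0) :
    ∀ p ∈ pw D t, D.IsPosRoot p.1 ∧ (k ≤ grRoot D w p.1 ∨ p.2 = 0) := by
  intro p hp
  unfold pw at hp
  rw [List.mem_map] at hp
  obtain ⟨s, hs, rfl⟩ := hp
  have hpos := (mem_posRoots s).mp hs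
  refine ⟨hpos, ?_⟩
  by_cases hlt : grRoot D w s < k
  · exact Or.inr (h s hpos hlt)
  · exact Or.inl (not_lt.mp hlt)

/-- The entry of the word over the positive roots at the position of a root of the lowest level. -/
theorem pw_entry (c : DCert D Ns) (tc : TCert D) (ac : ACert D wl ws sc) (t : ℕ → K) (k : ℤ) (hk : 1 ≤ k)
    (h : ∀ r, D.IsPosRoot r → grRoot D w r < k → t r = 0)
    (s : ℕ) (hs : D.IsPosRoot s) (hsk : grRoot D w s = k) (i : Fin D.rank) (hns : D.neg s < D.nroots) :
    D.wordMat K (pw D t) (Sum.inl i) (Sum.inr ⟨D.neg s, hns⟩) = ((cor D s i : ℤ) : K) * t s := by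
  rw [word_entry c tc ac k hk _ (pw_letters t k h) s hs hsk i hns]
  unfold pw
  rw [List.map_map]
  rw [sum_map_single D.posRoots posRoots_nodup s ((mem_posRoots s).mpr hs) _ (by
    intro r _ hrs
    simp only [Function.comp, if_neg hrs])]
  simp only [Function.comp, if_true]

/-- If the word over the positive roots is congruent to the identity up to level `k`, its parameters of height
below `k` vanish. -/
theorem low_zero (c : DCert D Ns) (tc : TCert D) (ac : ACert D wl ws sc) (gc : GCert D w 1) (t : ℕ → K) (k : ℤ)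
    (hT : Raises (gb D w) k (D.wordMat K (pw D t) - 1)) :
    ∀ r, D.IsPosRoot r → grRoot D w r < k → t r = 0 := by
  have key : ∀ n : ℕ, ∀ r, D.IsPosRoot r → grRoot D w r < k → (grRoot D w r).toNat = n → t r = 0 := by
    intro n
    induction n using Nat.strong_induction_on with
    | _ n ih =>
      intro r hr hlt hn
      have h1 : (1 : ℤ) ≤ grRoot D w r := by
        have := gc.pos r hr.1 hr
        rw [grL_eq] at this
        exact_mod_cast this
      have hlow : ∀ s, D.IsPosRoot s → grRoot D w s < grRoot D w r → t s = 0 := by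
        intro s hs hs2
        have h1s : (1 : ℤ) ≤ grRoot D w s := by
          have := gc.pos s hs.1 hs
          rw [grL_eq] at this
          exact_mod_cast this
        exact ih (grRoot D w s).toNat (by omega) s hs (by omega) rfl
      have hnr := DCert.neg_lt c r hr.1
      apply eq_zero_of_cor_mul ac r hr.1
      intro i hi
      rw [← pw_entry c tc ac t (grRoot D w r) h1 hlow r hr rfl ⟨i, hi⟩ hnr]
      have h0 := hT (Sum.inl ⟨i, hi⟩) (Sum.inr ⟨D.neg r, hnr⟩) (by
        simp only [gb, grIdx]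
        rw [grRoot_neg c tc w r hr.1]
        omega)
      rw [Matrix.sub_apply, Matrix.one_apply, if_neg Sum.inl_ne_inr, sub_zero] at h0
      exact h0
  intro r hr hlt
  exact key _ r hr hlt rfl

/-- If the parameters of height at most `k` vanish, the word is congruent to the identity up to level `k + 1`. -/
theorem raises_of_zero (c : DCert D Ns) (tc : TCert D) (t : ℕ → K) (k : ℤ) (hk : 0 ≤ k)
    (h : ∀ r, D.IsPosRoot r → grRoot D w r ≤ k → t r = 0) :
    Raises (gb D w) (k + 1) (D.wordMat K (pw D t) - 1) :=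
  (word_raises c tc (k + 1) (by omega) _ (pw_letters t (k + 1) (fun r hr hlt => h r hr (by omega)))).1

end

/-! ### Coordinates of the elements of `U` -/

section

variable {wl : List ℤ} {ws : List (List ℤ)} {sc : ℤ} {w : List ℤ}

/-- The certificates used throughout, bundled. -/
structure Certs (D : ChevalleyDatum) (Ns : List NData) (K : Type*) [Field K] (wl : List ℤ) (ws : List (List ℤ))
    (sc : ℤ) (w : List ℤ) : Prop where
  c : DCert D Ns
  tc : TCert D
  ac : ACert D wl ws sc
  gc : GCert D w 1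
  r2 : R2All D K

variable (C : Certs D Ns K wl ws sc w)

include C in
theorem ht_pos (r : ℕ) (hr : D.IsPosRoot r) : (1 : ℤ) ≤ grRoot D w r := by
  have := C.gc.pos r hr.1 hr
  rw [grL_eq] at this
  exact_mod_cast this

include C in
theorem spec (g : GL D.Idx K) (hg : g ∈ D.posUnipotent K) : g = wordGL C.c (pw D (tOf C.c g)) :=
  tOf_spec C.c C.tc C.ac C.r2 g hg

include C in
theorem spec_coe (g : GL D.Idx K) (hg : g ∈ D.posUnipotent K) :
    (g : Matrix D.Idx D.Idx K) = D.wordMat K (pw D (tOf C.c g)) := by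
  conv_lhs => rw [spec C g hg]
  exact wordGL_coe C.c _

include C in
/-- Parameters of height below the level vanish. -/
theorem lowz (g : GL D.Idx K) (hg : g ∈ D.posUnipotent K) (k : ℤ)
    (hT : Raises (gb D w) k ((g : Matrix D.Idx D.Idx K) - 1)) (r : ℕ) (hr : D.IsPosRoot r)
    (hlt : grRoot D w r < k) : tOf C.c g r = 0 := by
  rw [spec_coe C g hg] at hT
  exact low_zero C.c C.tc C.ac C.gc _ k hT r hr hlt

include C in
/-- The parameters at the level are matrix entries. -/
theorem coord (g : GL D.Idx K) (hg : g ∈ D.posUnipotent K) (k : ℤ) (hk : 1 ≤ k)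
    (hT : Raises (gb D w) k ((g : Matrix D.Idx D.Idx K) - 1)) (s : ℕ) (hs : D.IsPosRoot s)
    (hsk : grRoot D w s = k) (i : Fin D.rank) (hns : D.neg s < D.nroots) :
    (g : Matrix D.Idx D.Idx K) (Sum.inl i) (Sum.inr ⟨D.neg s, hns⟩) = ((cor D s i : ℤ) : K) * tOf C.c g s := by
  rw [spec_coe C g hg]
  exact pw_entry C.c C.tc C.ac _ k hk (fun r hr hlt => lowz C g hg k hT r hr hlt) s hs hsk i hns

include C in
/-- Two elements of `U` at the same level with the same entries have the same parameter. -/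
theorem eq_of_entries (a b : K) (s : ℕ) (hs : D.IsPosRoot s)
    (h : ∀ i : Fin D.rank, ((cor D s i : ℤ) : K) * a = ((cor D s i : ℤ) : K) * b) : a = b := by
  apply sub_eq_zero.mp
  apply eq_zero_of_cor_mul C.ac s hs.1
  intro i hi
  rw [mul_sub, h ⟨i, hi⟩, sub_self]

include C in
/-- Elements of `U` all of whose parameters of height at most `k` vanish. -/
theorem raises_succ (g : GL D.Idx K) (hg : g ∈ D.posUnipotent K) (k : ℤ) (hk : 0 ≤ k)
    (h : ∀ r, D.IsPosRoot r → grRoot D w r ≤ k → tOf C.c g r = 0) :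
    Raises (gb D w) (k + 1) ((g : Matrix D.Idx D.Idx K) - 1) := by
  rw [spec_coe C g hg]
  exact raises_of_zero C.c C.tc _ k hk h

include C in
/-- All elements of `U` are at level `1`. -/
theorem raises_one' (g : GL D.Idx K) (hg : g ∈ D.posUnipotent K) :
    Raises (gb D w) 1 ((g : Matrix D.Idx D.Idx K) - 1) := by
  have := raises_succ C g hg 0 (le_refl _) (fun r hr h0 => by
    have := ht_pos C r hr
    omega)
  simpa using this

include C in
/-- Additivity of the parameters at the level. -/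
theorem tOf_mul (g h : GL D.Idx K) (hg : g ∈ D.posUnipotent K) (hh : h ∈ D.posUnipotent K) (k : ℤ) (hk : 1 ≤ k)
    (hTg : Raises (gb D w) k ((g : Matrix D.Idx D.Idx K) - 1))
    (hTh : Raises (gb D w) k ((h : Matrix D.Idx D.Idx K) - 1)) (s : ℕ) (hs : D.IsPosRoot s)
    (hsk : grRoot D w s = k) : tOf C.c (g * h) s = tOf C.c g s + tOf C.c h s := by
  have hgh : g * h ∈ D.posUnipotent K := Subgroup.mul_mem _ hg hh
  have hTgh : Raises (gb D w) k (((g * h : GL D.Idx K) : Matrix D.Idx D.Idx K) - 1) := by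
    rw [Units.val_mul]
    have : (g : Matrix D.Idx D.Idx K) * (h : Matrix D.Idx D.Idx K) - 1 =
        ((g : Matrix D.Idx D.Idx K) - 1) * ((h : Matrix D.Idx D.Idx K) - 1) + ((g : Matrix D.Idx D.Idx K) - 1) +
          ((h : Matrix D.Idx D.Idx K) - 1) := by noncomm_ring
    rw [this]
    exact (((hTg.mul hTh).mono (by omega)).add hTg).add hTh
  have hns := DCert.neg_lt C.c s hs.1
  apply eq_of_entries C _ _ s hs
  intro i
  rw [mul_add, ← coord C (g * h) hgh k hk hTgh s hs hsk i hns, ← coord C g hg k hk hTg s hs hsk i hns,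
    ← coord C h hh k hk hTh s hs hsk i hns]
  have h3 := mul_raises (b := gb D w) hk hTg hTh (Sum.inl i) (Sum.inr ⟨D.neg s, hns⟩) (by
    simp only [gb, grIdx]
    rw [grRoot_neg C.c C.tc w s hs.1]
    omega)
  simp only [Matrix.sub_apply, Matrix.add_apply, Matrix.one_apply, if_neg Sum.inl_ne_inr, sub_zero] at h3
  rw [Units.val_mul]
  exact sub_eq_zero.mp h3

/-- The level of an inverse. -/
theorem raises_inv (g : GL D.Idx K) (k : ℤ) (hk : 1 ≤ k)
    (hT : Raises (gb D w) k ((g : Matrix D.Idx D.Idx K) - 1)) :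
    Raises (gb D w) k (((g⁻¹ : GL D.Idx K) : Matrix D.Idx D.Idx K) - 1) := by
  have hmem : g ∈ triSubgroup (R := K) (gb D w) k (by omega) := hT
  exact (triSubgroup (R := K) (gb D w) k (by omega)).inv_mem hmem

/-- The level of a product. -/
theorem raises_mul (g h : GL D.Idx K) (k : ℤ) (hk : 1 ≤ k)
    (hTg : Raises (gb D w) k ((g : Matrix D.Idx D.Idx K) - 1))
    (hTh : Raises (gb D w) k ((h : Matrix D.Idx D.Idx K) - 1)) :
    Raises (gb D w) k (((g * h : GL D.Idx K) : Matrix D.Idx D.Idx K) - 1) := by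
  have hg : g ∈ triSubgroup (R := K) (gb D w) k (by omega) := hTg
  have hh : h ∈ triSubgroup (R := K) (gb D w) k (by omega) := hTh
  exact (triSubgroup (R := K) (gb D w) k (by omega)).mul_mem hg hh

include C in
theorem tOf_one (s : ℕ) : tOf C.c (1 : GL D.Idx K) s = 0 := by
  by_cases hs : D.IsPosRoot s
  · have h0 : (1 : GL D.Idx K) = wordGL C.c (pw D (fun _ => (0 : K))) := by
      unfold pw wordGL
      rw [List.map_map]
      symm
      apply List.prod_eq_one
      intro g hg
      rw [List.mem_map] at hg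
      obtain ⟨r, -, rfl⟩ := hg
      exact xGL_zero C.c r
    conv_lhs => rw [h0]
    exact tOf_eq C.c C.tc C.ac C.r2 _ s hs
  · exact tOf_not_pos C.c _ s hs

include C in
/-- The parameters of an inverse at the level. -/
theorem tOf_inv (g : GL D.Idx K) (hg : g ∈ D.posUnipotent K) (k : ℤ) (hk : 1 ≤ k)
    (hTg : Raises (gb D w) k ((g : Matrix D.Idx D.Idx K) - 1)) (s : ℕ) (hs : D.IsPosRoot s)
    (hsk : grRoot D w s = k) : tOf C.c g⁻¹ s = - tOf C.c g s := by
  have h := tOf_mul C g g⁻¹ hg (Subgroup.inv_mem _ hg) k hk hTg (raises_inv g k hk hTg) s hs hsk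
  rw [mul_inv_cancel, tOf_one C] at h
  exact eq_neg_of_add_eq_zero_right h.symm

include C in
/-- An element of `U` all of whose parameters vanish is the identity. -/
theorem eq_one_of_tOf (g : GL D.Idx K) (hg : g ∈ D.posUnipotent K) (h : ∀ r, D.IsPosRoot r → tOf C.c g r = 0) :
    g = 1 := by
  rw [spec C g hg]
  unfold pw wordGL
  rw [List.map_map]
  apply List.prod_eq_one
  intro x hx
  rw [List.mem_map] at hx
  obtain ⟨r, hr, rfl⟩ := hx
  simp only [Function.comp]
  rw [h r ((mem_posRoots r).mp hr)]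
  exact xGL_zero C.c r

end

/-! ### The twisting endomorphism -/

section

variable {wl : List ℤ} {ws : List (List ℤ)} {sc : ℤ} {w : List ℤ}

/-- The properties of the endomorphism `σ` of the general linear group: it maps `x_r(t)` to `x_{π r}(ε_r f(t))`, and
`π` permutes the positive roots of each height. -/
structure Twist (c : DCert D Ns) (w : List ℤ) (σ : GL D.Idx K →* GL D.Idx K) (pi : ℕ → ℕ) (eps : ℕ → ℤ)
    (f : K →+* K) : Prop where
  sx : ∀ r < D.nroots, ∀ t : K, σ (xGL c r t) = xGL c (pi r) (((eps r : ℤ) : K) * f t)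
  pos : ∀ r, D.IsPosRoot r → D.IsPosRoot (pi r)
  ht : ∀ r, D.IsPosRoot r → grRoot D w (pi r) = grRoot D w r
  inj : ∀ r s, D.IsPosRoot r → D.IsPosRoot s → pi r = pi s → r = s

variable (C : Certs D Ns K wl ws sc w) {σ : GL D.Idx K →* GL D.Idx K} {pi : ℕ → ℕ} {eps : ℕ → ℤ} {f : K →+* K}
  (T : Twist C.c w σ pi eps f)

/-- The image of a letter. -/
def stepL (pi : ℕ → ℕ) (eps : ℕ → ℤ) (f : K →+* K) (p : ℕ × K) : ℕ × K := (pi p.1, ((eps p.1 : ℤ) : K) * f p.2)

include T in
theorem sigma_word (wd : List (ℕ × K)) (h : ∀ p ∈ wd, p.1 < D.nroots) :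
    σ (wordGL C.c wd) = wordGL C.c (wd.map (stepL pi eps f)) := by
  induction wd with
  | nil => simp [wordGL_nil]
  | cons p wd ih =>
    rw [wordGL_cons, map_mul, T.sx p.1 (h p (by simp)), ih (fun q hq => h q (List.mem_cons_of_mem _ hq)),
      List.map_cons, wordGL_cons]
    rfl

include T in
/-- The parameters of a fixed element of `U` at its level are compatible with the twisting. -/
theorem compat (g : GL D.Idx K) (hg : g ∈ D.posUnipotent K) (hσ : σ g = g) (k : ℤ) (hk : 1 ≤ k)
    (hT : Raises (gb D w) k ((g : Matrix D.Idx D.Idx K) - 1)) (r : ℕ) (hr : D.IsPosRoot r)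
    (hrk : grRoot D w r = k) : tOf C.c g (pi r) = ((eps r : ℤ) : K) * f (tOf C.c g r) := by
  have hpr := T.pos r hr
  have hprk : grRoot D w (pi r) = k := by rw [T.ht r hr, hrk]
  have hns := DCert.neg_lt C.c (pi r) hpr.1
  apply eq_of_entries C _ _ (pi r) hpr
  intro i
  rw [← coord C g hg k hk hT (pi r) hpr hprk i hns]
  -- the same entry computed from `σ g`
  have e1 : g = wordGL C.c ((pw D (tOf C.c g)).map (stepL pi eps f)) := by
    conv_lhs => rw [← hσ, spec C g hg]
    apply sigma_word C T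
    intro p hp
    unfold pw at hp
    rw [List.mem_map] at hp
    obtain ⟨s, hs, rfl⟩ := hp
    exact ((mem_posRoots s).mp hs).1
  have e2 : (g : Matrix D.Idx D.Idx K) = D.wordMat K ((pw D (tOf C.c g)).map (stepL pi eps f)) := by
    conv_lhs => rw [e1]
    exact wordGL_coe C.c _
  rw [e2, word_entry C.c C.tc C.ac k hk _ (by
    intro p hp
    rw [List.mem_map] at hp
    obtain ⟨q, hq, rfl⟩ := hp
    unfold pw at hq
    rw [List.mem_map] at hq
    obtain ⟨s, hs, rfl⟩ := hq
    have hsp := (mem_posRoots s).mp hs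
    refine ⟨T.pos s hsp, ?_⟩
    by_cases hlt : grRoot D w s < k
    · right
      simp only [stepL]
      rw [lowz C g hg k hT s hsp hlt, map_zero, mul_zero]
    · left
      simp only [stepL]
      rw [T.ht s hsp]
      exact not_lt.mp hlt) (pi r) hpr hprk i hns]
  unfold pw
  rw [List.map_map, List.map_map]
  rw [sum_map_single D.posRoots posRoots_nodup r ((mem_posRoots r).mpr hr) _ (by
    intro s hs hsr
    have hne : pi s ≠ pi r := fun h => hsr (T.inj s r ((mem_posRoots s).mp hs) hr h)
    simp [Function.comp, stepL, hne])]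
  simp [Function.comp, stepL]

/-! ### Orbit words -/

/-- The word `x_r(x) x_{π r}(ε_r f(x)) ⋯` with `n` letters. -/
def orbWord (pi : ℕ → ℕ) (eps : ℕ → ℤ) (f : K →+* K) : ℕ → ℕ × K → List (ℕ × K)
  | 0, _ => []
  | n + 1, p => p :: orbWord pi eps f n (stepL pi eps f p)

/-- The letter after `n` steps. -/
def orbEnd (pi : ℕ → ℕ) (eps : ℕ → ℤ) (f : K →+* K) : ℕ → ℕ × K → ℕ × K
  | 0, p => p
  | n + 1, p => orbEnd pi eps f n (stepL pi eps f p)

/-- The roots `r, π r, …` (`n` of them). -/
def orbRoots (pi : ℕ → ℕ) : ℕ → ℕ → List ℕ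
  | 0, _ => []
  | n + 1, r => r :: orbRoots pi n (pi r)

theorem orbWord_fst (n : ℕ) : ∀ p : ℕ × K, (orbWord pi eps f n p).map Prod.fst = orbRoots pi n p.1 := by
  induction n with
  | zero => intro p; rfl
  | succ n ih =>
    intro p
    rw [orbWord, orbRoots, List.map_cons, ih]
    rfl

theorem orbEnd_fst (n : ℕ) : ∀ p : ℕ × K, (orbEnd pi eps f n p).1 = pi^[n] p.1 := by
  induction n with
  | zero => intro p; rfl
  | succ n ih =>
    intro p
    rw [orbEnd, ih, Function.iterate_succ_apply]
    rfl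

theorem orbWord_map_step (n : ℕ) : ∀ p : ℕ × K,
    (orbWord pi eps f n p).map (stepL pi eps f) = orbWord pi eps f n (stepL pi eps f p) := by
  induction n with
  | zero => intro p; rfl
  | succ n ih =>
    intro p
    rw [orbWord, List.map_cons, ih, orbWord]

theorem orbWord_succ' (n : ℕ) : ∀ p : ℕ × K,
    orbWord pi eps f (n + 1) p = orbWord pi eps f n p ++ [orbEnd pi eps f n p] := by
  induction n with
  | zero => intro p; rfl
  | succ n ih =>
    intro p
    rw [orbWord, ih (stepL pi eps f p), orbWord, orbEnd, List.cons_append]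

theorem mem_orbRoots (n : ℕ) : ∀ r s : ℕ, s ∈ orbRoots pi n r ↔ ∃ m < n, s = pi^[m] r := by
  induction n with
  | zero => intro r s; simp [orbRoots]
  | succ n ih =>
    intro r s
    rw [orbRoots, List.mem_cons, ih]
    constructor
    · rintro (rfl | ⟨m, hm, rfl⟩)
      · exact ⟨0, by omega, rfl⟩
      · exact ⟨m + 1, by omega, by rw [Function.iterate_succ_apply]⟩
    · rintro ⟨m, hm, rfl⟩
      rcases m with _ | m
      · left; rfl
      · right
        exact ⟨m, by omega, by rw [Function.iterate_succ_apply]⟩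

theorem wordGL_append (c : DCert D Ns) (a b : List (ℕ × K)) : wordGL c (a ++ b) = wordGL c a * wordGL c b := by
  unfold wordGL
  rw [List.map_append, List.prod_append]

end

/-! ### Classes of roots -/

section

variable {wl : List ℤ} {ws : List (List ℤ)} {sc : ℤ} {w : List ℤ}

/-- A class of positive roots: the orbit of `p.1` under `π`, with `p.2` elements, pairwise commuting. -/
structure ClassOK (D : ChevalleyDatum) (pi : ℕ → ℕ) (p : ℕ × ℕ) : Prop where
  pos : ∀ r ∈ orbRoots pi p.2 p.1, D.IsPosRoot r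
  nodup : (orbRoots pi p.2 p.1).Nodup
  close : pi^[p.2] p.1 = p.1
  size : 0 < p.2
  comm : ∀ r ∈ orbRoots pi p.2 p.1, ∀ s ∈ orbRoots pi p.2 p.1, r ≠ s → D.commTerms r s = []

variable (C : Certs D Ns K wl ws sc w) {σ : GL D.Idx K →* GL D.Idx K} {pi : ℕ → ℕ} {eps : ℕ → ℤ} {f : K →+* K}
  (T : Twist C.c w σ pi eps f)

include C in
/-- Root elements of two positive roots without terms in the commutator formula commute. -/
theorem comm_of_terms (r s : ℕ) (hr : D.IsPosRoot r) (hs : D.IsPosRoot s) (hne : r ≠ s)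
    (h : D.commTerms r s = []) (a b : K) : Commute (xGL C.c r a) (xGL C.c s b) := by
  have hsn : s ≠ D.neg r := by
    intro h1
    have := neg_isNeg C.c C.tc C.ac r hr
    rw [← h1] at this
    exact C.ac.not_pos_and_neg s hs this
  have h2 := C.r2 r s hr.1 hs.1 (fun h => hne h.symm) hsn a b
  rw [commWord_eq, h] at h2
  have h3 : D.wordMat K (termWord a b []) = 1 := by
    unfold termWord ChevalleyDatum.wordMat
    simp
  rw [h3, mul_one] at h2
  unfold Commute SemiconjBy
  apply Units.ext
  rw [Units.val_mul, Units.val_mul, xGL_coe, xGL_coe]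
  exact h2.symm

include T in
theorem iterate_pos (r : ℕ) (hr : D.IsPosRoot r) (m : ℕ) :
    D.IsPosRoot (pi^[m] r) ∧ grRoot D w (pi^[m] r) = grRoot D w r := by
  induction m with
  | zero => exact ⟨hr, rfl⟩
  | succ m ih =>
    rw [Function.iterate_succ_apply']
    exact ⟨T.pos _ ih.1, by rw [T.ht _ ih.1, ih.2]⟩

/-- The element of the class `p` with the parameter `x`. -/
def yS (c : DCert D Ns) (pi : ℕ → ℕ) (eps : ℕ → ℤ) (f : K →+* K) (p : ℕ × ℕ) (x : K) : GL D.Idx K :=
  wordGL c (orbWord pi eps f p.2 (p.1, x))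

/-- The parameter `x` is admissible for the class `p`: the orbit word closes up. -/
def Closes (pi : ℕ → ℕ) (eps : ℕ → ℤ) (f : K →+* K) (p : ℕ × ℕ) (x : K) : Prop :=
  (orbEnd pi eps f p.2 (p.1, x)).2 = x

theorem orbWord_mem_fst (n : ℕ) (q : ℕ × K) (l : ℕ × K) (hl : l ∈ orbWord pi eps f n q) :
    l.1 ∈ orbRoots pi n q.1 := by
  rw [← orbWord_fst (eps := eps) (f := f)]
  exact List.mem_map_of_mem hl

include T in
theorem orb_letters (p : ℕ × ℕ) (hp : ClassOK D pi p) (x : K) :
    ∀ l ∈ orbWord pi eps f p.2 (p.1, x), D.IsPosRoot l.1 ∧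
      (grRoot D w p.1 ≤ grRoot D w l.1 ∨ l.2 = 0) := by
  intro l hl
  have h1 := orbWord_mem_fst p.2 (p.1, x) l hl
  refine ⟨hp.pos _ h1, Or.inl ?_⟩
  obtain ⟨m, -, hm⟩ := (mem_orbRoots p.2 p.1 l.1).mp h1
  have hp1 : D.IsPosRoot p.1 := hp.pos _ (by
    rw [mem_orbRoots]
    exact ⟨0, hp.size, rfl⟩)
  rw [hm, (iterate_pos C T p.1 hp1 m).2]

include T in
theorem yS_mem (p : ℕ × ℕ) (hp : ClassOK D pi p) (x : K) : yS C.c pi eps f p x ∈ D.posUnipotent K := by
  apply wordGL_mem_posUnipotent
  intro l hl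
  exact (orb_letters C T p hp x l hl).1

include T in
theorem yS_raises (p : ℕ × ℕ) (hp : ClassOK D pi p) (x : K) :
    Raises (gb D w) (grRoot D w p.1) (((yS C.c pi eps f p x : GL D.Idx K) : Matrix D.Idx D.Idx K) - 1) := by
  have hp1 : D.IsPosRoot p.1 := hp.pos _ (by
    rw [mem_orbRoots]
    exact ⟨0, hp.size, rfl⟩)
  unfold yS
  rw [wordGL_coe]
  exact (word_raises C.c C.tc _ (ht_pos C p.1 hp1) _ (orb_letters C T p hp x)).1

include T in
/-- The parameters of the element of a class at the level of the class. -/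
theorem yS_tOf (p : ℕ × ℕ) (hp : ClassOK D pi p) (x : K) (s : ℕ) (hs : D.IsPosRoot s)
    (hsk : grRoot D w s = grRoot D w p.1) :
    tOf C.c (yS C.c pi eps f p x) s =
      ((orbWord pi eps f p.2 (p.1, x)).map fun l => if l.1 = s then l.2 else 0).sum := by
  have hp1 : D.IsPosRoot p.1 := hp.pos _ (by
    rw [mem_orbRoots]
    exact ⟨0, hp.size, rfl⟩)
  have hns := DCert.neg_lt C.c s hs.1
  apply eq_of_entries C _ _ s hs
  intro i
  rw [← coord C _ (yS_mem C T p hp x) _ (ht_pos C p.1 hp1) (yS_raises C T p hp x) s hs hsk i hns]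
  unfold yS
  rw [wordGL_coe, word_entry C.c C.tc C.ac _ (ht_pos C p.1 hp1) _ (orb_letters C T p hp x) s hs hsk i hns,
    ← List.sum_map_mul_left]
  congr 1
  apply List.map_congr_left
  intro l _
  split_ifs <;> simp

include T in
theorem yS_tOf_head (p : ℕ × ℕ) (hp : ClassOK D pi p) (x : K) : tOf C.c (yS C.c pi eps f p x) p.1 = x := by
  have hp1 : D.IsPosRoot p.1 := hp.pos _ (by
    rw [mem_orbRoots]
    exact ⟨0, hp.size, rfl⟩)
  rw [yS_tOf C T p hp x p.1 hp1 rfl]
  obtain ⟨n, hn⟩ : ∃ n, p.2 = n + 1 := ⟨p.2 - 1, by have := hp.size; omega⟩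
  have hnd := hp.nodup
  rw [hn, orbRoots, List.nodup_cons] at hnd
  rw [hn, orbWord, List.map_cons, List.sum_cons]
  simp only [if_true]
  have : ((orbWord pi eps f n (stepL pi eps f (p.1, x))).map fun l => if l.1 = p.1 then l.2 else 0).sum = 0 := by
    apply List.sum_eq_zero
    intro y hy
    rw [List.mem_map] at hy
    obtain ⟨l, hl, rfl⟩ := hy
    rw [if_neg]
    intro h
    have := orbWord_mem_fst n _ l hl
    rw [h] at this
    exact hnd.1 this
  rw [this, add_zero]

include T in
theorem yS_tOf_other (p : ℕ × ℕ) (hp : ClassOK D pi p) (x : K) (s : ℕ) (hs : D.IsPosRoot s)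
    (hsk : grRoot D w s = grRoot D w p.1) (hns : s ∉ orbRoots pi p.2 p.1) :
    tOf C.c (yS C.c pi eps f p x) s = 0 := by
  rw [yS_tOf C T p hp x s hs hsk]
  apply List.sum_eq_zero
  intro y hy
  rw [List.mem_map] at hy
  obtain ⟨l, hl, rfl⟩ := hy
  rw [if_neg]
  intro h
  have := orbWord_mem_fst p.2 _ l hl
  rw [h] at this
  exact hns this

include T in
/-- The element of a class with an admissible parameter is fixed. -/
theorem yS_fixed (p : ℕ × ℕ) (hp : ClassOK D pi p) (x : K) (hx : Closes pi eps f p x) :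
    σ (yS C.c pi eps f p x) = yS C.c pi eps f p x := by
  unfold yS
  rw [sigma_word C T _ (fun l hl => (orb_letters C T p hp x l hl).1.1), orbWord_map_step]
  obtain ⟨n, hn⟩ : ∃ n, p.2 = n + 1 := ⟨p.2 - 1, by have := hp.size; omega⟩
  have hend : orbEnd pi eps f n (stepL pi eps f (p.1, x)) = (p.1, x) := by
    have h1 : orbEnd pi eps f n (stepL pi eps f (p.1, x)) = orbEnd pi eps f p.2 (p.1, x) := by
      rw [hn, orbEnd]
    rw [h1]
    apply Prod.ext
    · rw [orbEnd_fst]
      exact hp.close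
    · exact hx
  rw [hn, orbWord_succ', hend, orbWord, wordGL_append, wordGL_cons, wordGL_cons, wordGL_nil, mul_one]
  -- the head commutes with the tail
  have hnd := hp.nodup
  rw [hn, orbRoots, List.nodup_cons] at hnd
  have hp1 : D.IsPosRoot p.1 := hp.pos _ (by
    rw [mem_orbRoots]
    exact ⟨0, hp.size, rfl⟩)
  have hc : Commute (xGL C.c p.1 x) (wordGL C.c (orbWord pi eps f n (stepL pi eps f (p.1, x)))) := by
    unfold wordGL
    apply Commute.list_prod_right
    intro g hg
    rw [List.mem_map] at hg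
    obtain ⟨l, hl, rfl⟩ := hg
    have hl1 := orbWord_mem_fst n _ l hl
    have hl2 : l.1 ∈ orbRoots pi p.2 p.1 := by
      rw [hn, orbRoots]
      exact List.mem_cons_of_mem _ hl1
    have hne : p.1 ≠ l.1 := by
      intro h
      rw [← h] at hl1
      exact hnd.1 hl1
    exact comm_of_terms C p.1 l.1 hp1 (hp.pos _ hl2) hne
      (hp.comm p.1 (by rw [mem_orbRoots]; exact ⟨0, hp.size, rfl⟩) l.1 hl2 hne) x l.2
  exact hc.eq.symm

theorem orbEnd_zero (n : ℕ) : ∀ r : ℕ, (orbEnd pi eps f n (r, (0 : K))).2 = 0 := by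
  induction n with
  | zero => intro r; rfl
  | succ n ih =>
    intro r
    rw [orbEnd]
    have : stepL pi eps f (r, (0 : K)) = (pi r, 0) := by
      simp [stepL]
    rw [this]
    exact ih _

include T in
/-- The parameters of a fixed element along an orbit at its level. -/
theorem orbit_params (g : GL D.Idx K) (hg : g ∈ D.posUnipotent K) (hσ : σ g = g) (k : ℤ) (hk : 1 ≤ k)
    (hT : Raises (gb D w) k ((g : Matrix D.Idx D.Idx K) - 1)) (m : ℕ) :
    ∀ r, D.IsPosRoot r → grRoot D w r = k →
      orbEnd pi eps f m (r, tOf C.c g r) = (pi^[m] r, tOf C.c g (pi^[m] r)) := by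
  induction m with
  | zero => intro r _ _; rfl
  | succ m ih =>
    intro r hr hrk
    rw [orbEnd]
    have : stepL pi eps f (r, tOf C.c g r) = (pi r, tOf C.c g (pi r)) := by
      simp only [stepL]
      rw [compat C T g hg hσ k hk hT r hr hrk]
    rw [this, ih (pi r) (T.pos r hr) (by rw [T.ht r hr, hrk]), Function.iterate_succ_apply]

end

/-! ### The fixed points of `U`, class by class -/

section

variable {wl : List ℤ} {ws : List (List ℤ)} {sc : ℤ} {w : List ℤ}

/-- The roots of a list of classes. -/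
def rootsOf (pi : ℕ → ℕ) (cls : List (ℕ × ℕ)) : List ℕ := cls.flatMap fun p => orbRoots pi p.2 p.1

/-- A list of classes: all positive roots, each once, in an order in which the height does not decrease. -/
structure ClsOK (D : ChevalleyDatum) (w : List ℤ) (pi : ℕ → ℕ) (cls : List (ℕ × ℕ)) : Prop where
  each : ∀ p ∈ cls, ClassOK D pi p
  nodup : (rootsOf pi cls).Nodup
  cover : ∀ r, D.IsPosRoot r → r ∈ rootsOf pi cls
  sorted : cls.Pairwise fun p q => grL D w p.1 ≤ grL D w q.1

/-- The fixed elements of `U` whose parameters on the roots of `L` vanish. -/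
def Zset (c : DCert D Ns) (σ : GL D.Idx K →* GL D.Idx K) (L : List ℕ) : Set (GL D.Idx K) :=
  {g | g ∈ D.posUnipotent K ∧ σ g = g ∧ ∀ r ∈ L, tOf c g r = 0}

variable (C : Certs D Ns K wl ws sc w) {σ : GL D.Idx K →* GL D.Idx K} {pi : ℕ → ℕ} {eps : ℕ → ℤ} {f : K →+* K}
  (T : Twist C.c w σ pi eps f)

theorem rootsOf_append (a b : List (ℕ × ℕ)) : rootsOf pi (a ++ b) = rootsOf pi a ++ rootsOf pi b := by
  unfold rootsOf
  rw [List.flatMap_append]

theorem rootsOf_cons (p : ℕ × ℕ) (b : List (ℕ × ℕ)) :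
    rootsOf pi (p :: b) = orbRoots pi p.2 p.1 ++ rootsOf pi b := by
  unfold rootsOf
  rw [List.flatMap_cons]

theorem rootsOf_single (p : ℕ × ℕ) : rootsOf pi [p] = orbRoots pi p.2 p.1 := by
  rw [rootsOf_cons]
  simp [rootsOf]

theorem head_mem (p : ℕ × ℕ) (hp : ClassOK D pi p) : p.1 ∈ orbRoots pi p.2 p.1 := by
  rw [mem_orbRoots]
  exact ⟨0, hp.size, rfl⟩

include T in
theorem ht_orb (p : ℕ × ℕ) (hp : ClassOK D pi p) (s : ℕ) (hs : s ∈ orbRoots pi p.2 p.1) :
    grRoot D w s = grRoot D w p.1 := by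
  obtain ⟨m, -, rfl⟩ := (mem_orbRoots p.2 p.1 s).mp hs
  exact (iterate_pos C T p.1 (hp.pos _ (head_mem p hp)) m).2

include T in
/-- Roots of earlier classes. -/
theorem pre_facts {cls pre post : List (ℕ × ℕ)} {p : ℕ × ℕ} (hc : ClsOK D w pi cls) (h : cls = pre ++ p :: post)
    (s : ℕ) (hs : s ∈ rootsOf pi pre) :
    D.IsPosRoot s ∧ grRoot D w s ≤ grRoot D w p.1 ∧ s ∉ orbRoots pi p.2 p.1 := by
  unfold rootsOf at hs
  rw [List.mem_flatMap] at hs
  obtain ⟨q, hq, hsq⟩ := hs
  have hqc : q ∈ cls := by rw [h]; exact List.mem_append_left _ hq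
  have hqok := hc.each q hqc
  refine ⟨hqok.pos s hsq, ?_, ?_⟩
  · rw [ht_orb C T q hqok s hsq]
    have hs := hc.sorted
    rw [h, List.pairwise_append] at hs
    have := hs.2.2 q hq p (by simp)
    rw [grL_eq, grL_eq] at this
    exact this
  · intro hsp
    have hnd := hc.nodup
    rw [h, rootsOf_append, rootsOf_cons, List.nodup_append] at hnd
    exact hnd.2.2 s (by
      unfold rootsOf
      rw [List.mem_flatMap]
      exact ⟨q, hq, hsq⟩) s (List.mem_append_left _ hsp) rfl

include T in
/-- Roots below the height of a class belong to earlier classes. -/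
theorem low_in_pre {cls pre post : List (ℕ × ℕ)} {p : ℕ × ℕ} (hc : ClsOK D w pi cls) (h : cls = pre ++ p :: post)
    (r : ℕ) (hr : D.IsPosRoot r) (hlt : grRoot D w r < grRoot D w p.1) : r ∈ rootsOf pi pre := by
  have h1 := hc.cover r hr
  rw [h, rootsOf_append, rootsOf_cons, List.mem_append, List.mem_append] at h1
  have hpc : p ∈ cls := by rw [h]; simp
  rcases h1 with h1 | h1 | h1
  · exact h1
  · have := ht_orb C T p (hc.each p hpc) r h1
    omega
  · unfold rootsOf at h1
    rw [List.mem_flatMap] at h1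
    obtain ⟨q, hq, hrq⟩ := h1
    have hqc : q ∈ cls := by rw [h]; simp [hq]
    have h2 := ht_orb C T q (hc.each q hqc) r hrq
    have hs := hc.sorted
    rw [h, List.pairwise_append, List.pairwise_cons] at hs
    have := hs.2.1.1 q hq
    rw [grL_eq, grL_eq] at this
    omega

include T in
/-- The elements of `Zset` for the earlier classes are at the level of the next class. -/
theorem Z_raises {cls pre post : List (ℕ × ℕ)} {p : ℕ × ℕ} (hc : ClsOK D w pi cls) (h : cls = pre ++ p :: post)
    (g : GL D.Idx K) (hg : g ∈ Zset C.c σ (rootsOf pi pre)) :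
    Raises (gb D w) (grRoot D w p.1) ((g : Matrix D.Idx D.Idx K) - 1) := by
  have hpc : p ∈ cls := by rw [h]; simp
  have hp1 := (hc.each p hpc).pos _ (head_mem p (hc.each p hpc))
  have hk := ht_pos C p.1 hp1
  have := raises_succ C g hg.1 (grRoot D w p.1 - 1) (by omega) (fun r hr hle =>
    hg.2.2 r (low_in_pre C T hc h r hr (by omega)))
  rwa [sub_add_cancel] at this

include T in
/-- Splitting off the component of the next class. -/
theorem decomp {cls pre post : List (ℕ × ℕ)} {p : ℕ × ℕ} (hc : ClsOK D w pi cls) (h : cls = pre ++ p :: post)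
    (g : GL D.Idx K) (hg : g ∈ Zset C.c σ (rootsOf pi pre)) :
    Closes pi eps f p (tOf C.c g p.1) ∧
      (yS C.c pi eps f p (tOf C.c g p.1))⁻¹ * g ∈ Zset C.c σ (rootsOf pi (pre ++ [p])) := by
  have hpc : p ∈ cls := by rw [h]; simp
  have hp := hc.each p hpc
  have hp1 := hp.pos _ (head_mem p hp)
  have hk := ht_pos C p.1 hp1
  have hTg := Z_raises C T hc h g hg
  have hcl : Closes pi eps f p (tOf C.c g p.1) := by
    unfold Closes
    rw [orbit_params C T g hg.1 hg.2.1 _ hk hTg p.2 p.1 hp1 rfl, hp.close]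
  refine ⟨hcl, ?_⟩
  set x := tOf C.c g p.1 with hx
  set y := yS C.c pi eps f p x with hy
  have hyU : y ∈ D.posUnipotent K := yS_mem C T p hp x
  have hyT := yS_raises C T p hp x
  have hyσ : σ y = y := yS_fixed C T p hp x hcl
  have hzU : y⁻¹ * g ∈ D.posUnipotent K := Subgroup.mul_mem _ (Subgroup.inv_mem _ hyU) hg.1
  have hzσ : σ (y⁻¹ * g) = y⁻¹ * g := by rw [map_mul, map_inv, hyσ, hg.2.1]
  have hyiT := raises_inv y _ hk hyT
  have hzT := raises_mul y⁻¹ g _ hk hyiT hTg
  refine ⟨hzU, hzσ, ?_⟩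
  intro s hs
  rw [rootsOf_append, rootsOf_single, List.mem_append] at hs
  have hz0 : tOf C.c (y⁻¹ * g) p.1 = 0 := by
    rw [tOf_mul C y⁻¹ g (Subgroup.inv_mem _ hyU) hg.1 _ hk hyiT hTg p.1 hp1 rfl,
      tOf_inv C y hyU _ hk hyT p.1 hp1 rfl, yS_tOf_head C T p hp x]
    simp [hx]
  rcases hs with hs | hs
  · obtain ⟨hsp, hle, hns⟩ := pre_facts C T hc h s hs
    rcases lt_or_eq_of_le hle with hlt | heq
    · exact lowz C _ hzU _ hzT s hsp hlt
    · rw [tOf_mul C y⁻¹ g (Subgroup.inv_mem _ hyU) hg.1 _ hk hyiT hTg s hsp heq,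
        tOf_inv C y hyU _ hk hyT s hsp heq, yS_tOf_other C T p hp x s hsp heq hns, hg.2.2 s hs]
      simp
  · obtain ⟨m, -, rfl⟩ := (mem_orbRoots p.2 p.1 s).mp hs
    have := orbit_params C T (y⁻¹ * g) hzU hzσ _ hk hzT m p.1 hp1 rfl
    rw [hz0] at this
    have h2 := congrArg Prod.snd this
    simp only at h2
    rw [← h2]
    exact orbEnd_zero m p.1

include T in
/-- Putting back the component of a class. -/
theorem recomp {cls pre post : List (ℕ × ℕ)} {p : ℕ × ℕ} (hc : ClsOK D w pi cls) (h : cls = pre ++ p :: post)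
    (x : K) (hx : Closes pi eps f p x) (g : GL D.Idx K) (hg : g ∈ Zset C.c σ (rootsOf pi (pre ++ [p]))) :
    yS C.c pi eps f p x * g ∈ Zset C.c σ (rootsOf pi pre) ∧ tOf C.c (yS C.c pi eps f p x * g) p.1 = x := by
  have hpc : p ∈ cls := by rw [h]; simp
  have hp := hc.each p hpc
  have hp1 := hp.pos _ (head_mem p hp)
  have hk := ht_pos C p.1 hp1
  have hg' : g ∈ Zset C.c σ (rootsOf pi pre) := by
    refine ⟨hg.1, hg.2.1, fun r hr => hg.2.2 r ?_⟩
    rw [rootsOf_append]
    exact List.mem_append_left _ hr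
  have hTg := Z_raises C T hc h g hg'
  set y := yS C.c pi eps f p x with hy
  have hyU : y ∈ D.posUnipotent K := yS_mem C T p hp x
  have hyT := yS_raises C T p hp x
  have hyσ : σ y = y := yS_fixed C T p hp x hx
  have hzU : y * g ∈ D.posUnipotent K := Subgroup.mul_mem _ hyU hg.1
  have hzT := raises_mul y g _ hk hyT hTg
  refine ⟨⟨hzU, by rw [map_mul, hyσ, hg.2.1], ?_⟩, ?_⟩
  · intro s hs
    obtain ⟨hsp, hle, hns⟩ := pre_facts C T hc h s hs
    rcases lt_or_eq_of_le hle with hlt | heq
    · exact lowz C _ hzU _ hzT s hsp hlt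
    · rw [tOf_mul C y g hyU hg.1 _ hk hyT hTg s hsp heq, yS_tOf_other C T p hp x s hsp heq hns, hg'.2.2 s hs]
      simp
  · rw [tOf_mul C y g hyU hg.1 _ hk hyT hTg p.1 hp1 rfl, yS_tOf_head C T p hp x,
      hg.2.2 p.1 (by
        rw [rootsOf_append, rootsOf_single]
        exact List.mem_append_right _ (head_mem p hp))]
    simp

include T in
/-- The number of fixed elements of `U`, class by class. -/
theorem card_Z {cls : List (ℕ × ℕ)} (hc : ClsOK D w pi cls) :
    ∀ (post pre : List (ℕ × ℕ)), cls = pre ++ post →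
      Nat.card ↥(Zset C.c σ (rootsOf pi pre)) =
        (post.map fun p => Nat.card {x : K // Closes pi eps f p x}).prod
  | [], pre, h => by
    rw [List.append_nil] at h
    subst h
    have : Zset C.c σ (rootsOf pi cls) = {1} := by
      ext g
      simp only [Set.mem_singleton_iff]
      constructor
      · intro hg
        exact eq_one_of_tOf C g hg.1 (fun r hr => hg.2.2 r (hc.cover r hr))
      · rintro rfl
        exact ⟨Subgroup.one_mem _, map_one σ, fun r _ => tOf_one C r⟩
    rw [this]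
    simp
  | p :: post, pre, h => by
    have h' : cls = (pre ++ [p]) ++ post := by rw [h]; simp
    rw [List.map_cons, List.prod_cons, ← card_Z hc post (pre ++ [p]) h', ← Nat.card_prod]
    apply Nat.card_congr
    refine ⟨fun g => (⟨tOf C.c g.1 p.1, (decomp C T hc h g.1 g.2).1⟩,
      ⟨(yS C.c pi eps f p (tOf C.c g.1 p.1))⁻¹ * g.1, (decomp C T hc h g.1 g.2).2⟩),
      fun a => ⟨yS C.c pi eps f p a.1.1 * a.2.1, (recomp C T hc h a.1.1 a.1.2 a.2.1 a.2.2).1⟩, ?_, ?_⟩
    · intro g
      apply Subtype.ext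
      simp
    · rintro ⟨⟨x, hx⟩, ⟨g, hg⟩⟩
      have h2 := (recomp C T hc h x hx g hg).2
      apply Prod.ext
      · apply Subtype.ext
        exact h2
      · apply Subtype.ext
        simp only
        rw [h2]
        simp

include T in
/-- The fixed elements of `U` lie in every subgroup containing the elements of the classes. -/
theorem Z_le {cls : List (ℕ × ℕ)} (hc : ClsOK D w pi cls) (G1 : Subgroup (GL D.Idx K))
    (hy : ∀ p ∈ cls, ∀ x : K, Closes pi eps f p x → yS C.c pi eps f p x ∈ G1) :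
    ∀ (post pre : List (ℕ × ℕ)), cls = pre ++ post → ∀ g ∈ Zset C.c σ (rootsOf pi pre), g ∈ G1
  | [], pre, h, g, hg => by
    rw [List.append_nil] at h
    subst h
    rw [eq_one_of_tOf C g hg.1 (fun r hr => hg.2.2 r (hc.cover r hr))]
    exact Subgroup.one_mem _
  | p :: post, pre, h, g, hg => by
    have h' : cls = (pre ++ [p]) ++ post := by rw [h]; simp
    obtain ⟨h1, h2⟩ := decomp C T hc h g hg
    have h3 := Z_le hc G1 hy post (pre ++ [p]) h' _ h2
    have h4 := hy p (by rw [h]; simp) _ h1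
    have : g = yS C.c pi eps f p (tOf C.c g p.1) * ((yS C.c pi eps f p (tOf C.c g p.1))⁻¹ * g) := by simp
    rw [this]
    exact Subgroup.mul_mem _ h4 h3

end

end Cfsg.Agent.Lib.Helper36_TwistU
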