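import Cfsg.Agent.Lib.Helper36_TwistGen
import Cfsg.Agent.Lib.Helper36_TwistU

set_option autoImplicit false

/-!
An endomorphism of a Chevalley group that maps the root elements to root elements (through ring endomorphisms depending
on the root) acts on the words letter by letter; it maps `H` and `N` into themselves if the permutation of the roots
commutes with the sign change.
-/

namespace Cfsg.Agent.Lib.Helper36_TwistGenH

open Cfsg Cfsg.Lie Cfsg.Agent.Lib.Helper18_ChevFast Cfsg.Agent.Lib.Helper18_ChevEngine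
  Cfsg.Agent.Lib.Helper18_ChevN Cfsg.Agent.Lib.Helper18_ChevWeyl
  Cfsg.Agent.Lib.Helper18_ChevGL Cfsg.Agent.Lib.Helper18_ChevTri
  Cfsg.Agent.Lib.Helper18_ChevAdd Cfsg.Agent.Lib.Helper18_ChevUni
  Cfsg.Agent.Lib.Helper36_TwistGen

variable {D : ChevalleyDatum} {Ns : List NData} {K : Type*} [Field K] (c : DCert D Ns)
  (σ : ↥(D.group K) →* ↥(D.group K)) (pi : ℕ → ℕ) (fr : ℕ → K →+* K)
  (hsx : ∀ r < D.nroots, ∀ t : K, sgm σ (xGL c r t) = xGL c (pi r) (fr r t))

/-- The image of a letter of a word. -/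
def stepW (p : ℕ × K) : ℕ × K := (pi p.1, fr p.1 p.2)

include hsx in
theorem sgm_word : ∀ (w : List (ℕ × K)), (∀ p ∈ w, p.1 < D.nroots) →
    sgm σ (wordGL c w) = wordGL c (w.map (stepW pi fr))
  | [], _ => by
    rw [List.map_nil, wordGL_nil]
    exact sgm_one _
  | p :: w, h => by
    rw [List.map_cons, wordGL_cons, wordGL_cons, sgm_mul _ (xGL_mem_group c _ _) (wordGL_mem_group c w),
      hsx p.1 (h p List.mem_cons_self), sgm_word w (fun q hq => h q (List.mem_cons_of_mem _ hq))]
    rfl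

variable (htbl : ∀ r < D.nroots, pi (D.neg r) = D.neg (pi r) ∧ fr (D.neg r) = fr r ∧ pi r < D.nroots ∧
  D.neg r < D.nroots)

include hsx htbl in
theorem sgm_nWord (r : ℕ) (hr : r < D.nroots) (t : K) :
    sgm σ (wordGL c (D.nWord r t)) = wordGL c (D.nWord (pi r) (fr r t)) := by
  obtain ⟨h1, h2, h3, h4⟩ := htbl r hr
  rw [sgm_word c σ pi fr hsx]
  · unfold ChevalleyDatum.nWord stepW
    simp only [List.map_cons, List.map_nil, h1, h2, map_neg, map_inv₀]
  · intro p hp
    unfold ChevalleyDatum.nWord at hp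
    simp only [List.mem_cons, List.not_mem_nil, or_false] at hp
    rcases hp with rfl | rfl | rfl
    · exact hr
    · exact h4
    · exact hr

include hsx htbl in
theorem sgm_hWord (r : ℕ) (hr : r < D.nroots) (t : K) :
    sgm σ (wordGL c (D.hWord r t)) = wordGL c (D.hWord (pi r) (fr r t)) := by
  unfold ChevalleyDatum.hWord
  rw [Cfsg.Agent.Lib.Helper36_TwistU.wordGL_append, Cfsg.Agent.Lib.Helper36_TwistU.wordGL_append,
    sgm_mul _ (wordGL_mem_group c _) (wordGL_mem_group c _), sgm_nWord c σ pi fr hsx htbl r hr,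
    sgm_nWord c σ pi fr hsx htbl r hr, map_neg, map_one]

include hsx htbl in
theorem sgm_diag (g : GL D.Idx K) (hg : g ∈ D.diagonalSubgroup K) : sgm σ g ∈ D.diagonalSubgroup K := by
  unfold ChevalleyDatum.diagonalSubgroup at hg
  refine sgm_closure _ _ ?_ _ ?_ g hg
  · rintro g ⟨r, t, -, -, hg⟩
    rw [eq_wordGL c (w := D.hWord r t) hg]
    exact wordGL_mem_group c _
  · rintro g ⟨r, t, hr, ht, hg⟩
    rw [eq_wordGL c (w := D.hWord r t) hg, sgm_hWord c σ pi fr hsx htbl r hr]
    apply Subgroup.subset_closure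
    refine ⟨pi r, fr r t, (htbl r hr).2.2.1, ?_, wordGL_coe c _⟩
    rw [Ne, map_eq_zero]
    exact ht

include hsx htbl in
theorem sgm_mono (g : GL D.Idx K) (hg : g ∈ D.monomialSubgroup K) : sgm σ g ∈ D.monomialSubgroup K := by
  unfold ChevalleyDatum.monomialSubgroup at hg
  rw [Subgroup.sup_eq_closure] at hg
  refine sgm_closure _ _ ?_ _ ?_ g hg
  · rintro g (hg | hg)
    · exact diagonal_le_group c hg
    · have : Subgroup.closure {g : GL D.Idx K | ∃ r : ℕ, r < D.nroots ∧
          (g : Matrix D.Idx D.Idx K) = D.nMat K r 1} ≤ D.group K := by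
        rw [Subgroup.closure_le]
        rintro g ⟨r, -, hg⟩
        rw [eq_wordGL c (w := D.nWord r 1) hg]
        exact wordGL_mem_group c _
      exact this hg
  · rintro g (hg | hg)
    · exact (le_sup_left : D.diagonalSubgroup K ≤ D.monomialSubgroup K) (sgm_diag c σ pi fr hsx htbl g hg)
    · apply (le_sup_right : _ ≤ D.monomialSubgroup K)
      refine sgm_closure _ _ ?_ _ ?_ g hg
      · rintro g ⟨r, -, hg⟩
        rw [eq_wordGL c (w := D.nWord r 1) hg]
        exact wordGL_mem_group c _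
      · rintro g ⟨r, hr, hg⟩
        rw [eq_wordGL c (w := D.nWord r 1) hg, sgm_nWord c σ pi fr hsx htbl r hr, map_one]
        exact Subgroup.subset_closure ⟨pi r, (htbl r hr).2.2.1, wordGL_coe c _⟩

end Cfsg.Agent.Lib.Helper36_TwistGenH
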