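import Cfsg.Agent.Lib.Helper18_ChevUni

set_option autoImplicit false

/-!
The subgroup `B ∪ B n_p B` for a fundamental root `p`.
-/

namespace Cfsg.Agent.Lib.Helper18_ChevBN

open Cfsg Cfsg.Lie Cfsg.Agent.Lib.Helper18_ChevFast Cfsg.Agent.Lib.Helper18_ChevEngine
  Cfsg.Agent.Lib.Helper18_ChevR1 Cfsg.Agent.Lib.Helper18_ChevN Cfsg.Agent.Lib.Helper18_ChevR4
  Cfsg.Agent.Lib.Helper18_ChevSimple Cfsg.Agent.Lib.Helper18_ChevSimple2 Cfsg.Agent.Lib.Helper18_ChevFacts
  Cfsg.Agent.Lib.Helper18_ChevWeyl Cfsg.Agent.Lib.Helper18_ChevDiag Cfsg.Agent.Lib.Helper18_ChevCar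
  Cfsg.Agent.Lib.Helper18_ChevTorus Cfsg.Agent.Lib.Helper18_ChevGL Cfsg.Agent.Lib.Helper18_ChevComm
  Cfsg.Agent.Lib.Helper18_ChevComm2 Cfsg.Agent.Lib.Helper18_MatTri Cfsg.Agent.Lib.Helper18_ChevTri
  Cfsg.Agent.Lib.Helper18_ChevBorel Cfsg.Agent.Lib.Helper18_ChevAdd Cfsg.Agent.Lib.Helper18_ChevUni

/-! ### Products of a subgroup with a subgroup that normalizes it -/

theorem exists_mul_of_mem_sup {G : Type*} [Group G] (N A : Subgroup G)
    (hA : A ≤ Subgroup.normalizer (N : Set G)) {g : G} (hg : g ∈ N ⊔ A) : ∃ y ∈ N, ∃ a ∈ A, g = y * a := by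
  rw [Subgroup.sup_eq_closure] at hg
  induction hg using Subgroup.closure_induction with
  | mem x hx =>
    rcases hx with hx | hx
    · exact ⟨x, hx, 1, Subgroup.one_mem _, by rw [mul_one]⟩
    · exact ⟨1, Subgroup.one_mem _, x, hx, by rw [one_mul]⟩
  | one => exact ⟨1, Subgroup.one_mem _, 1, Subgroup.one_mem _, by rw [mul_one]⟩
  | mul x y _ _ ihx ihy =>
    obtain ⟨y1, hy1, a1, ha1, rfl⟩ := ihx
    obtain ⟨y2, hy2, a2, ha2, rfl⟩ := ihy
    have h1 := (Subgroup.mem_normalizer_iff.mp (hA ha1) y2).mp hy2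
    exact ⟨y1 * (a1 * y2 * a1⁻¹), Subgroup.mul_mem _ hy1 h1, a1 * a2, Subgroup.mul_mem _ ha1 ha2, by group⟩
  | inv x _ ih =>
    obtain ⟨y, hy, a, ha, rfl⟩ := ih
    have h1 := (Subgroup.mem_normalizer_iff.mp (hA (Subgroup.inv_mem _ ha)) y⁻¹).mp (Subgroup.inv_mem _ hy)
    exact ⟨a⁻¹ * y⁻¹ * a⁻¹⁻¹, h1, a⁻¹, Subgroup.inv_mem _ ha, by group⟩

variable {D : ChevalleyDatum} {Ns : List NData} {F : Type*} [Field F]

/-! ### Root subgroups -/

theorem mem_rootSubgroup_iff (c : DCert D Ns) (r : ℕ) (g : GL D.Idx F) :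
    g ∈ D.rootSubgroup F r ↔ ∃ t : F, g = xGL c r t := by
  constructor
  · intro hg
    unfold ChevalleyDatum.rootSubgroup at hg
    induction hg using Subgroup.closure_induction with
    | mem x hx =>
      obtain ⟨t, hx⟩ := hx
      exact ⟨t, eq_xGL c hx⟩
    | one => exact ⟨0, (xGL_zero c r).symm⟩
    | mul x y _ _ ihx ihy =>
      obtain ⟨t1, rfl⟩ := ihx
      obtain ⟨t2, rfl⟩ := ihy
      exact ⟨t1 + t2, xGL_mul c r t1 t2⟩
    | inv x _ ih =>
      obtain ⟨t, rfl⟩ := ih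
      exact ⟨-t, xGL_inv c r t⟩
  · rintro ⟨t, rfl⟩
    exact Subgroup.subset_closure ⟨t, rfl⟩

/-! ### The elements `h_r(a)` and `n_p` in the general linear group -/

/-- `h_r(a)` in the general linear group. -/
def hGL (c : DCert D Ns) (r : ℕ) (a : F) : GL D.Idx F := wordGL c (D.hWord r a)

theorem hGL_coe (c : DCert D Ns) (r : ℕ) (a : F) :
    ((hGL c r a : GL D.Idx F) : Matrix D.Idx D.Idx F) = D.hMat F r a := by
  unfold hGL
  rw [wordGL_coe]
  rfl

theorem hGL_mem (c : DCert D Ns) (r : ℕ) (hr : r < D.nroots) (a : F) (ha : a ≠ 0) :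
    hGL c r a ∈ D.diagonalSubgroup F :=
  Subgroup.subset_closure ⟨r, a, hr, ha, hGL_coe c r a⟩

/-- The inverse of `n_i`. -/
theorem nGL_inv_coe (c : DCert D Ns) (i : ℕ) (hi : i < D.rank) :
    (((nGL c i)⁻¹ : GL D.Idx F) : Matrix D.Idx D.Idx F) = D.nMat F (D.simple i) (-1) := by
  have h1 : ((nGL c i : GL D.Idx F) : Matrix D.Idx D.Idx F) * D.nMat F (D.simple i) (-1) = 1 := by
    rw [nGL_coe]
    exact c.n_mul i hi
  have h2 : (((nGL c i)⁻¹ : GL D.Idx F) : Matrix D.Idx D.Idx F) * ((nGL c i : GL D.Idx F) : Matrix D.Idx D.Idx F) = 1 := by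
    rw [← Units.val_mul, inv_mul_cancel, Units.val_one]
  calc (((nGL c i)⁻¹ : GL D.Idx F) : Matrix D.Idx D.Idx F)
      = (((nGL c i)⁻¹ : GL D.Idx F) : Matrix D.Idx D.Idx F) *
          (((nGL c i : GL D.Idx F) : Matrix D.Idx D.Idx F) * D.nMat F (D.simple i) (-1)) := by rw [h1, mul_one]
    _ = _ := by rw [← mul_assoc, h2, one_mul]

/-- `n_i⁻¹ n_i⁻¹ = h_{p_i}(-1)`. -/
theorem nGL_inv_sq (c : DCert D Ns) (i : ℕ) (hi : i < D.rank) :
    ((nGL c i)⁻¹ * (nGL c i)⁻¹ : GL D.Idx F) = hGL c (D.simple i) (-1) := by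
  apply Units.ext
  rw [Units.val_mul, nGL_inv_coe c i hi, hGL_coe, hMat_eq_nMat_mul]

theorem nGL_sq_mem (c : DCert D Ns) (i : ℕ) (hi : i < D.rank) :
    (nGL c i * nGL c i : GL D.Idx F) ∈ D.diagonalSubgroup F := by
  have h1 : (nGL c i * nGL c i : GL D.Idx F) = ((nGL c i)⁻¹ * (nGL c i)⁻¹)⁻¹ := by
    rw [mul_inv_rev, inv_inv]
  rw [h1, nGL_inv_sq c i hi]
  apply Subgroup.inv_mem
  exact hGL_mem c _ (c.ncert i hi).simple_lt (-1) (by simp)

/-- `n_p(a) = h_p(a) n_p(1)`. -/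
theorem nMat_eq_hMat_mul (c : DCert D Ns) (i : ℕ) (hi : i < D.rank) (a : F) :
    D.nMat F (D.simple i) a = D.hMat F (D.simple i) a * D.nMat F (D.simple i) 1 := by
  rw [hMat_eq_nMat_mul, mul_assoc, c.mul_n i hi, mul_one]

/-- `x_{-p}(b) = x_p(b⁻¹) h_p(-b⁻¹) n_p x_p(b⁻¹)` for `b ≠ 0`. -/
theorem xGL_neg_simple (c : DCert D Ns) (i : ℕ) (hi : i < D.rank) (b : F) :
    xGL c (D.neg (D.simple i)) b =
      xGL c (D.simple i) b⁻¹ * hGL c (D.simple i) (-b⁻¹) * nGL c i * xGL c (D.simple i) b⁻¹ := by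
  have hadd := DCert.addAt_all (F := F) c (D.simple i)
  apply Units.ext
  simp only [Units.val_mul, xGL_coe, hGL_coe, nGL_coe]
  rw [mul_assoc (D.x F (D.simple i) b⁻¹), ← nMat_eq_hMat_mul c i hi, nMat_eq_prod]
  have e1 : -(-b⁻¹)⁻¹ = b := by
    rw [inv_neg, inv_inv, neg_neg]
  rw [e1]
  have e2 : D.x F (D.simple i) b⁻¹ * D.x F (D.simple i) (-b⁻¹) = 1 := hadd.mul_neg b⁻¹
  have e3 : D.x F (D.simple i) (-b⁻¹) * D.x F (D.simple i) b⁻¹ = 1 := hadd.neg_mul b⁻¹
  calc D.x F (D.neg (D.simple i)) b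
      = (D.x F (D.simple i) b⁻¹ * D.x F (D.simple i) (-b⁻¹)) * D.x F (D.neg (D.simple i)) b *
          (D.x F (D.simple i) (-b⁻¹) * D.x F (D.simple i) b⁻¹) := by rw [e2, e3, one_mul, mul_one]
    _ = _ := by simp only [mul_assoc]

/-! ### Conjugation of `H` by `n_i` -/

theorem nMat_conj_hMat (c : DCert D Ns) (tc : TCert D) (i : ℕ) (hi : i < D.rank) (r : ℕ) (hr : r < D.nroots)
    (a : F) (ha : a ≠ 0) :
    D.nMat F (D.simple i) 1 * D.hMat F r a * D.nMat F (D.simple i) (-1) = D.hMat F (D.reflectRoot i r) a := by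
  rw [hMat_all c tc r hr a ha, hMat_all c tc _ (c.reflect_lt i hi r hr) a ha]
  rw [(c.ncert i hi).nMat_eq c.rows, nSpec_mul_diag _ (c.hcert i hi).invol,
    ← (c.ncert i hi).nMat_eq c.rows, mul_assoc, c.n_mul i hi, mul_one]
  apply diagMat_congr
  intro s hs
  rw [(c.ncert i hi).pi_getD s hs, cartanR_reflect c i hi r hr s hs]

theorem nGL_conj_hGL (c : DCert D Ns) (tc : TCert D) (i : ℕ) (hi : i < D.rank) (r : ℕ) (hr : r < D.nroots)
    (a : F) (ha : a ≠ 0) : nGL c i * hGL c r a * (nGL c i)⁻¹ = hGL c (D.reflectRoot i r) a := by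
  apply Units.ext
  rw [Units.val_mul, Units.val_mul, nGL_coe, nGL_inv_coe c i hi, hGL_coe, hGL_coe]
  exact nMat_conj_hMat c tc i hi r hr a ha

/-- `n_i` normalizes `H`. -/
theorem nGL_mem_normalizer_diagonal (c : DCert D Ns) (tc : TCert D) (i : ℕ) (hi : i < D.rank) :
    nGL c i ∈ Subgroup.normalizer (D.diagonalSubgroup F : Set (GL D.Idx F)) := by
  unfold ChevalleyDatum.diagonalSubgroup
  apply mem_normalizer_closure
  · rintro g ⟨r, a, hr, ha, hg⟩
    have hg' : g = hGL c r a := Units.ext (by rw [hg, hGL_coe])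
    rw [hg', nGL_conj_hGL c tc i hi r hr a ha]
    exact hGL_mem c _ (c.reflect_lt i hi r hr) a ha
  · rintro g ⟨r, a, hr, ha, hg⟩
    have hg' : g = hGL c r a := Units.ext (by rw [hg, hGL_coe])
    have h1 := nGL_conj_hGL c tc i hi _ (c.reflect_lt i hi r hr) a ha
    rw [c.reflect_reflect i hi r hr] at h1
    rw [hg', ← h1]
    have : (nGL c i)⁻¹ * (nGL c i * hGL c (D.reflectRoot i r) a * (nGL c i)⁻¹) * nGL c i =
        hGL c (D.reflectRoot i r) a := by group
    rw [this]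
    exact hGL_mem c _ (c.reflect_lt i hi r hr) a ha

/-! ### The structure of `B` relative to a fundamental root -/

section

variable {wl : List ℤ} {ws : List (List ℤ)} {sc : ℤ}

/-- `H` normalizes `U_p`. -/
theorem diagonal_le_normalizer_up (c : DCert D Ns) (tc : TCert D) (i : ℕ) :
    D.diagonalSubgroup F ≤ Subgroup.normalizer (Subgroup.closure (upGens D F i) : Set (GL D.Idx F)) := by
  intro h hh
  have hconj : ∀ k ∈ D.diagonalSubgroup F, ∀ s ∈ upGens D F i,
      k * s * k⁻¹ ∈ Subgroup.closure (upGens D F i) := by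
    intro k hk s hs
    obtain ⟨r, a, hr, hne, hs⟩ := hs
    obtain ⟨t, ht, hkt⟩ := exists_torus_of_mem c tc k hk
    have e : k * s * k⁻¹ = xGL c r (torusChar D t r * a) := by
      rw [mul_inv_eq_iff_eq_mul]
      apply Units.ext
      rw [Units.val_mul, Units.val_mul, hs, hkt, xGL_coe]
      exact torus_conj c tc t ht r hr.1 a
    rw [e]
    exact Subgroup.subset_closure ⟨r, _, hr, hne, rfl⟩
  apply mem_normalizer_closure
  · exact hconj h hh
  · intro s hs
    have := hconj h⁻¹ (Subgroup.inv_mem _ hh) s hs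
    rwa [inv_inv] at this

/-- `H` normalizes the root subgroups: `h x_r(a) h⁻¹ = x_r(χ a)`. -/
theorem diagonal_conj_xGL (c : DCert D Ns) (tc : TCert D) (h : GL D.Idx F) (hh : h ∈ D.diagonalSubgroup F)
    (r : ℕ) (hr : r < D.nroots) (a : F) : ∃ b : F, h * xGL c r a * h⁻¹ = xGL c r b := by
  obtain ⟨t, ht, hkt⟩ := exists_torus_of_mem c tc h hh
  refine ⟨torusChar D t r * a, ?_⟩
  rw [mul_inv_eq_iff_eq_mul]
  apply Units.ext
  rw [Units.val_mul, Units.val_mul, xGL_coe, hkt, xGL_coe]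
  exact torus_conj c tc t ht r hr a

/-- `n_i` normalizes `U_p`, `p` the `i`-th fundamental root. -/
theorem nGL_mem_normalizer_up (c : DCert D Ns) (tc : TCert D) (ac : ACert D wl ws sc) (hR2 : R2All D F)
    (i : ℕ) (hi : i < D.rank) :
    nGL c i ∈ Subgroup.normalizer (Subgroup.closure (upGens D F i) : Set (GL D.Idx F)) := by
  unfold nGL
  apply wordGL_mem
  intro p hp
  unfold ChevalleyDatum.nWord at hp
  simp only [List.mem_cons, List.not_mem_nil, or_false] at hp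
  rcases hp with rfl | rfl | rfl
  · exact xGL_mem_normalizer_up c tc ac hR2 i hi _ (Or.inl rfl) _
  · exact xGL_mem_normalizer_up c tc ac hR2 i hi _ (Or.inr rfl) _
  · exact xGL_mem_normalizer_up c tc ac hR2 i hi _ (Or.inl rfl) _

theorem up_le_pos (i : ℕ) : Subgroup.closure (upGens D F i) ≤ D.posUnipotent F := by
  rw [Subgroup.closure_le]
  rintro g ⟨s, t, hs, -, hg⟩
  exact Subgroup.subset_closure ⟨s, t, hs, hg⟩

theorem up_le_borel (i : ℕ) : Subgroup.closure (upGens D F i) ≤ D.borelSubgroup F :=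
  le_trans (up_le_pos i) le_sup_left

theorem xGL_simple_mem_borel (c : DCert D Ns) (tc : TCert D) (i : ℕ) (hi : i < D.rank) (t : F) :
    xGL c (D.simple i) t ∈ D.borelSubgroup F :=
  Subgroup.mem_sup_left (Subgroup.subset_closure ⟨_, t, tc.simple_pos i hi, rfl⟩)

/-- Every element of `B` is `y x_p(t) h` with `y ∈ U_p` and `h ∈ H`. -/
theorem borel_decomp (c : DCert D Ns) (tc : TCert D) (ac : ACert D wl ws sc) (hR2 : R2All D F)
    (i : ℕ) (hi : i < D.rank) (b : GL D.Idx F) (hb : b ∈ D.borelSubgroup F) :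
    ∃ y ∈ Subgroup.closure (upGens D F i), ∃ (t : F), ∃ h ∈ D.diagonalSubgroup F,
      b = y * xGL c (D.simple i) t * h := by
  unfold ChevalleyDatum.borelSubgroup at hb
  obtain ⟨u, hu, h, hh, rfl⟩ := exists_mul_of_mem_sup _ _ (diagonal_le_normalizer_pos c tc) hb
  have hsc := simple_complement c tc ac hR2 i hi
  rw [← hsc.2] at hu
  obtain ⟨y, hy, x, hx, rfl⟩ := exists_mul_of_mem_sup _ _ (le_trans le_sup_left hsc.1) hu
  obtain ⟨t, rfl⟩ := (mem_rootSubgroup_iff c _ x).mp hx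
  exact ⟨y, hy, t, h, hh, rfl⟩

theorem reflectRoot_simple (i : ℕ) : D.reflectRoot i (D.simple i) = D.neg (D.simple i) := by
  unfold ChevalleyDatum.reflectRoot
  simp

/-- The key step: `n b n ∈ B ∪ B n B` for `b ∈ B`. -/
theorem nGL_mul_borel_mul_nGL (c : DCert D Ns) (tc : TCert D) (ac : ACert D wl ws sc) (hR2 : R2All D F)
    (i : ℕ) (hi : i < D.rank) (b : GL D.Idx F) (hb : b ∈ D.borelSubgroup F) :
    nGL c i * b * nGL c i ∈ (D.borelSubgroup F : Set (GL D.Idx F)) ∪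
      DoubleCoset.doubleCoset (nGL c i) (D.borelSubgroup F : Set (GL D.Idx F)) (D.borelSubgroup F) := by
  obtain ⟨y, hy, t, h, hh, rfl⟩ := borel_decomp c tc ac hR2 i hi b hb
  have hp := (c.ncert i hi).simple_lt
  set n : GL D.Idx F := nGL c i with hn
  have hy' : n * y * n⁻¹ ∈ Subgroup.closure (upGens D F i) :=
    (Subgroup.mem_normalizer_iff.mp (nGL_mem_normalizer_up c tc ac hR2 i hi) y).mp hy
  have hh' : n * h * n⁻¹ ∈ D.diagonalSubgroup F :=
    (Subgroup.mem_normalizer_iff.mp (nGL_mem_normalizer_diagonal c tc i hi) h).mp hh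
  have hnn : n * n ∈ D.diagonalSubgroup F := nGL_sq_mem c i hi
  have hx := nGL_conj c i hi (D.simple i) hp t
  rw [reflectRoot_simple] at hx
  have e : n * (y * xGL c (D.simple i) t * h) * n =
      (n * y * n⁻¹) * (n * xGL c (D.simple i) t * n⁻¹) * ((n * h * n⁻¹) * (n * n)) := by group
  rw [e, hx]
  set b' := ((etaZ Ns i (D.simple i) : ℤ) : F) * t
  have hH : (n * h * n⁻¹) * (n * n) ∈ D.borelSubgroup F :=
    Subgroup.mem_sup_right (Subgroup.mul_mem _ hh' hnn)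
  have hY : n * y * n⁻¹ ∈ D.borelSubgroup F := up_le_borel i hy'
  by_cases hb0 : b' = 0
  · left
    rw [hb0, xGL_zero, mul_one]
    exact Subgroup.mul_mem _ hY hH
  · right
    rw [DoubleCoset.mem_doubleCoset]
    rw [xGL_neg_simple c i hi b']
    refine ⟨(n * y * n⁻¹) * (xGL c (D.simple i) b'⁻¹ * hGL c (D.simple i) (-b'⁻¹)), ?_,
      xGL c (D.simple i) b'⁻¹ * ((n * h * n⁻¹) * (n * n)), ?_, ?_⟩
    · apply Subgroup.mul_mem _ hY
      apply Subgroup.mul_mem _ (xGL_simple_mem_borel c tc i hi _)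
      apply Subgroup.mem_sup_right
      exact hGL_mem c _ hp _ (neg_ne_zero.mpr (inv_ne_zero hb0))
    · exact Subgroup.mul_mem _ (xGL_simple_mem_borel c tc i hi _) hH
    · simp only [mul_assoc, ← hn]

/-- `B ∪ B n_p B` is a subgroup. -/
theorem exists_subgroup_union (c : DCert D Ns) (tc : TCert D) (ac : ACert D wl ws sc) (hR2 : R2All D F)
    (i : ℕ) (hi : i < D.rank) :
    ∃ P : Subgroup (GL D.Idx F), (P : Set (GL D.Idx F)) =
      (D.borelSubgroup F : Set (GL D.Idx F)) ∪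
        DoubleCoset.doubleCoset (nGL c i) (D.borelSubgroup F : Set (GL D.Idx F)) (D.borelSubgroup F) := by
  set B := D.borelSubgroup F with hB
  set n : GL D.Idx F := nGL c i with hn
  -- the inverse of `n` is `n h`
  have hninv : ∃ h ∈ B, n⁻¹ = n * h := by
    refine ⟨n⁻¹ * n⁻¹, ?_, by group⟩
    rw [nGL_inv_sq c i hi]
    exact Subgroup.mem_sup_right (hGL_mem c _ (c.ncert i hi).simple_lt (-1) (by simp))
  have hkey := nGL_mul_borel_mul_nGL c tc ac hR2 i hi
  -- closure under multiplication by `B`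
  have hBS : ∀ b ∈ B, ∀ g ∈ (B : Set (GL D.Idx F)) ∪ DoubleCoset.doubleCoset n (B : Set (GL D.Idx F)) B,
      b * g ∈ (B : Set (GL D.Idx F)) ∪ DoubleCoset.doubleCoset n (B : Set (GL D.Idx F)) B := by
    intro b hb g hg
    rcases hg with hg | hg
    · left; exact Subgroup.mul_mem _ hb hg
    · right
      rw [DoubleCoset.mem_doubleCoset] at hg ⊢
      obtain ⟨x, hx, y, hy, rfl⟩ := hg
      exact ⟨b * x, Subgroup.mul_mem _ hb hx, y, hy, by simp only [mul_assoc]⟩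
  have hSB : ∀ b ∈ B, ∀ g ∈ (B : Set (GL D.Idx F)) ∪ DoubleCoset.doubleCoset n (B : Set (GL D.Idx F)) B,
      g * b ∈ (B : Set (GL D.Idx F)) ∪ DoubleCoset.doubleCoset n (B : Set (GL D.Idx F)) B := by
    intro b hb g hg
    rcases hg with hg | hg
    · left; exact Subgroup.mul_mem _ hg hb
    · right
      rw [DoubleCoset.mem_doubleCoset] at hg ⊢
      obtain ⟨x, hx, y, hy, rfl⟩ := hg
      exact ⟨x, hx, y * b, Subgroup.mul_mem _ hy hb, by simp only [mul_assoc]⟩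
  have hnS : ∀ g ∈ (B : Set (GL D.Idx F)) ∪ DoubleCoset.doubleCoset n (B : Set (GL D.Idx F)) B,
      n * g ∈ (B : Set (GL D.Idx F)) ∪ DoubleCoset.doubleCoset n (B : Set (GL D.Idx F)) B := by
    intro g hg
    rcases hg with hg | hg
    · right
      rw [DoubleCoset.mem_doubleCoset]
      exact ⟨1, Subgroup.one_mem _, g, hg, by rw [one_mul]⟩
    · rw [DoubleCoset.mem_doubleCoset] at hg
      obtain ⟨x, hx, y, hy, rfl⟩ := hg
      have := hSB y hy _ (hkey x hx)
      have e : n * (x * n * y) = n * x * n * y := by simp only [mul_assoc]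
      rw [e]
      exact this
  refine ⟨{ carrier := (B : Set (GL D.Idx F)) ∪ DoubleCoset.doubleCoset n (B : Set (GL D.Idx F)) B
            mul_mem' := ?_
            one_mem' := Or.inl (Subgroup.one_mem _)
            inv_mem' := ?_ }, rfl⟩
  · intro a b ha hb
    rcases ha with ha | ha
    · exact hBS a ha b hb
    · rw [DoubleCoset.mem_doubleCoset] at ha
      obtain ⟨x, hx, y, hy, rfl⟩ := ha
      have h1 := hBS y hy b hb
      have h2 := hnS _ h1
      have h3 := hBS x hx _ h2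
      have e : x * n * y * b = x * (n * (y * b)) := by simp only [mul_assoc]
      rw [e]
      exact h3
  · intro a ha
    rcases ha with ha | ha
    · left; exact Subgroup.inv_mem _ ha
    · right
      rw [DoubleCoset.mem_doubleCoset] at ha ⊢
      obtain ⟨x, hx, y, hy, rfl⟩ := ha
      obtain ⟨h, hh, hinv⟩ := hninv
      refine ⟨y⁻¹, Subgroup.inv_mem _ hy, h * x⁻¹, Subgroup.mul_mem _ hh (Subgroup.inv_mem _ hx), ?_⟩
      rw [mul_inv_rev, mul_inv_rev, hinv]
      simp only [mul_assoc]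

end

end Cfsg.Agent.Lib.Helper18_ChevBN
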