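import Cfsg.Agent.Lib.Helper36_TwistW
import Cfsg.Agent.Lib.Helper36_ChevHOrder
import Cfsg.Agent.Lib.Helper18_ChevBN

set_option autoImplicit false

/-!
The diagonal part of a twisted group: the elements `h_J` of the orbits of the fundamental roots as products of elements
of the twisted group, the action of the twisting endomorphism on the diagonal subgroup, and the fixed elements of the
diagonal subgroup.
-/

namespace Cfsg.Agent.Lib.Helper36_TwistH

open Cfsg Cfsg.Lie Cfsg.Agent.Lib.Helper18_ChevFast Cfsg.Agent.Lib.Helper18_ChevEngine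
  Cfsg.Agent.Lib.Helper18_ChevN Cfsg.Agent.Lib.Helper18_ChevWeyl
  Cfsg.Agent.Lib.Helper18_ChevGL Cfsg.Agent.Lib.Helper18_ChevTri
  Cfsg.Agent.Lib.Helper18_ChevAdd Cfsg.Agent.Lib.Helper18_ChevUni Cfsg.Agent.Lib.Helper18_ChevBN
  Cfsg.Agent.Lib.Helper36_TwistU Cfsg.Agent.Lib.Helper36_TwistW
  Cfsg.Agent.Lib.Helper36_ChevTorus Cfsg.Agent.Lib.Helper36_ChevHOrder

/-! ### group lemmas -/

section
variable {G : Type*} [Group G]

theorem comm3 {a1 a2 a3 b1 b2 b3 : G} (h : ∀ a ∈ [a1, a2, a3], ∀ b ∈ [b1, b2, b3], Commute a b) :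
    Commute (a1 * a2 * a3) (b1 * b2 * b3) := by
  have k : ∀ a ∈ [a1, a2, a3], Commute a (b1 * b2 * b3) := fun a ha =>
    ((h a ha b1 (by simp)).mul_right (h a ha b2 (by simp))).mul_right (h a ha b3 (by simp))
  exact ((k a1 (by simp)).mul_left (k a2 (by simp))).mul_left (k a3 (by simp))

end

section
variable {A : Type*} [CommGroup A]

/-- Lifting a fixed class to a fixed element: an involution and a subgroup of exponent three. -/
theorem fix_lift2 (τ : A →* A) (Z : Subgroup A) (hτ2 : ∀ a, τ (τ a) = a) (hZ3 : ∀ z ∈ Z, z ^ 3 = 1) (u : A)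
    (hu : u * (τ u)⁻¹ ∈ Z) : ∃ z ∈ Z, τ (u * z) = u * z := by
  refine ⟨u * (τ u)⁻¹, hu, ?_⟩
  have h3 := hZ3 _ hu
  generalize hd : u * (τ u)⁻¹ = d at h3 ⊢
  have h1 : τ u = d⁻¹ * u := by rw [← hd]; group
  have h2 : τ d = d⁻¹ := by
    rw [← hd, map_mul, map_inv, hτ2, mul_inv_rev, inv_inv]
  rw [map_mul, h1, h2, mul_comm d⁻¹ u]
  have : u * d⁻¹ * d⁻¹ = u * d * (d ^ 3)⁻¹ := by group
  rw [this, h3, inv_one, mul_one]

/-- Lifting a fixed class to a fixed element: an element of order three and a subgroup of exponent two. -/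
theorem fix_lift3 (τ : A →* A) (Z : Subgroup A) (hτZ : ∀ z ∈ Z, τ z ∈ Z) (hτ3 : ∀ a, τ (τ (τ a)) = a)
    (hZ2 : ∀ z ∈ Z, z ^ 2 = 1) (u : A) (hu : u * (τ u)⁻¹ ∈ Z) : ∃ z ∈ Z, τ (u * z) = u * z := by
  refine ⟨τ (u * (τ u)⁻¹), hτZ _ hu, ?_⟩
  have hd2 : (u * (τ u)⁻¹) * (u * (τ u)⁻¹) = 1 := by rw [← sq]; exact hZ2 _ hu
  have he2 : τ (u * (τ u)⁻¹) * τ (u * (τ u)⁻¹) = 1 := by rw [← sq]; exact hZ2 _ (hτZ _ hu)
  have h3 : τ (τ (u * (τ u)⁻¹)) = τ (τ u) * u⁻¹ := by
    rw [map_mul, map_mul, map_inv, map_inv, hτ3]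
  generalize hd : u * (τ u)⁻¹ = d at *
  have hdi : d⁻¹ = d := inv_eq_of_mul_eq_one_left hd2
  have h1 : τ u = d * u := by rw [← hdi, ← hd]; group
  generalize he : τ d = e at *
  have h2 : τ (τ u) = e * (d * u) := by rw [h1, map_mul, he, h1]
  have h4 : τ e = e * d := by rw [h3, h2]; group
  rw [map_mul, h1, h4, mul_comm d u, mul_assoc, ← mul_assoc d e d, mul_comm d e, mul_assoc e d d, hd2, mul_one]

end

/-! ### the elements `n_r(a)` and `h_r(a)` -/

section
variable {D : ChevalleyDatum} {Ns : List NData} {K : Type*} [Field K]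

/-- `n_r(a)` in the general linear group. -/
def nT (c : DCert D Ns) (r : ℕ) (a : K) : GL D.Idx K := wordGL c (D.nWord r a)

theorem nT_eq (c : DCert D Ns) (r : ℕ) (a : K) :
    nT c r a = xGL c r a * xGL c (D.neg r) (-a⁻¹) * xGL c r a := by
  unfold nT ChevalleyDatum.nWord
  rw [wordGL_cons, wordGL_cons, wordGL_cons, wordGL_nil, mul_one, mul_assoc]

theorem hGL_eq (c : DCert D Ns) (r : ℕ) (a : K) : hGL c r a = nT c r a * nT c r (-1) := by
  unfold hGL nT ChevalleyDatum.hWord
  rw [wordGL_append]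

variable {wl : List ℤ} {ws : List (List ℤ)} {sc : ℤ} {w : List ℤ} (C : Certs D Ns K wl ws sc w)

include C in
theorem nT_comm {i j : ℕ} (h : Cross D i j) (a b : K) :
    Commute (nT C.c (D.simple i) a) (nT C.c (D.simple j) b) := by
  rw [nT_eq, nT_eq]
  apply comm3
  intro x hx y hy
  simp only [List.mem_cons, List.not_mem_nil, or_false] at hx hy
  rcases hx with rfl | rfl | rfl <;> rcases hy with rfl | rfl | rfl <;>
    exact cross_comm C h _ _ (by simp) (by simp) _ _

include C in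
/-- `n_i(a) n_j(b)` for two nodes of an orbit. -/
theorem nT_two {i j : ℕ} (h : Cross D i j) (a b : K) :
    nT C.c (D.simple i) a * nT C.c (D.simple j) b =
      (xGL C.c (D.simple i) a * xGL C.c (D.simple j) b) *
      (xGL C.c (D.neg (D.simple i)) (-a⁻¹) * xGL C.c (D.neg (D.simple j)) (-b⁻¹)) *
      (xGL C.c (D.simple i) a * xGL C.c (D.simple j) b) := by
  rw [nT_eq, nT_eq]
  exact shuffle _ _ _ _ (cross_comm C h _ _ (by simp) (by simp) _ _)
    (cross_comm C h _ _ (by simp) (by simp) _ _) (cross_comm C h _ _ (by simp) (by simp) _ _)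

include C in
/-- `h_i(a) h_j(b)` for two nodes of an orbit. -/
theorem hGL_two {i j : ℕ} (h : Cross D i j) (a b : K) :
    hGL C.c (D.simple i) a * hGL C.c (D.simple j) b =
      (nT C.c (D.simple i) a * nT C.c (D.simple j) b) * (nT C.c (D.simple i) (-1) * nT C.c (D.simple j) (-1)) := by
  rw [hGL_eq, hGL_eq]
  exact (nT_comm C h (-1) b).mul_mul_mul_comm _ _

include C in
/-- `n_i(a) n_j(b) n_k(c)` for three nodes of an orbit. -/
theorem nT_three {i j k : ℕ} (hij : Cross D i j) (hik : Cross D i k) (hjk : Cross D j k) (a b c : K) :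
    nT C.c (D.simple i) a * (nT C.c (D.simple j) b * nT C.c (D.simple k) c) =
      (xGL C.c (D.simple i) a * (xGL C.c (D.simple j) b * xGL C.c (D.simple k) c)) *
      (xGL C.c (D.neg (D.simple i)) (-a⁻¹) *
        (xGL C.c (D.neg (D.simple j)) (-b⁻¹) * xGL C.c (D.neg (D.simple k)) (-c⁻¹))) *
      (xGL C.c (D.simple i) a * (xGL C.c (D.simple j) b * xGL C.c (D.simple k) c)) := by
  rw [nT_two C hjk, nT_eq]
  apply shuffle
  · exact (cross_comm C hij _ _ (by simp) (by simp) _ _).mul_right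
      (cross_comm C hik _ _ (by simp) (by simp) _ _)
  · exact (cross_comm C hij _ _ (by simp) (by simp) _ _).mul_right
      (cross_comm C hik _ _ (by simp) (by simp) _ _)
  · exact (cross_comm C hij _ _ (by simp) (by simp) _ _).mul_right
      (cross_comm C hik _ _ (by simp) (by simp) _ _)

include C in
/-- `h_i(a) h_j(b) h_k(c)` for three nodes of an orbit. -/
theorem hGL_three {i j k : ℕ} (hij : Cross D i j) (hik : Cross D i k) (hjk : Cross D j k) (a b c : K) :
    hGL C.c (D.simple i) a * (hGL C.c (D.simple j) b * hGL C.c (D.simple k) c) =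
      (nT C.c (D.simple i) a * (nT C.c (D.simple j) b * nT C.c (D.simple k) c)) *
        (nT C.c (D.simple i) (-1) * (nT C.c (D.simple j) (-1) * nT C.c (D.simple k) (-1))) := by
  rw [hGL_two C hjk, hGL_eq]
  exact ((nT_comm C hij (-1) b).mul_right (nT_comm C hik (-1) c)).mul_mul_mul_comm _ _

end

/-! ### the twisting endomorphism on the elements of the fundamental roots -/

/-- The symmetry maps the fundamental root `p_j` to `p_j'`, and their negatives, without signs. -/
structure NodeOK (D : ChevalleyDatum) (pi : ℕ → ℕ) (eps : ℕ → ℤ) (j j' : ℕ) : Prop where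
  lt : D.simple j < D.nroots
  nlt : D.neg (D.simple j) < D.nroots
  p : pi (D.simple j) = D.simple j'
  e : eps (D.simple j) = 1
  np : pi (D.neg (D.simple j)) = D.neg (D.simple j')
  ne : eps (D.neg (D.simple j)) = 1

theorem nodeOK_iff (D : ChevalleyDatum) (pi : ℕ → ℕ) (eps : ℕ → ℤ) (j j' : ℕ) :
    NodeOK D pi eps j j' ↔ (D.simple j < D.nroots ∧ D.neg (D.simple j) < D.nroots ∧ pi (D.simple j) = D.simple j' ∧
      eps (D.simple j) = 1 ∧ pi (D.neg (D.simple j)) = D.neg (D.simple j') ∧ eps (D.neg (D.simple j)) = 1) :=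
  ⟨fun h => ⟨h.lt, h.nlt, h.p, h.e, h.np, h.ne⟩, fun h => ⟨h.1, h.2.1, h.2.2.1, h.2.2.2.1, h.2.2.2.2.1, h.2.2.2.2.2⟩⟩

instance (D : ChevalleyDatum) (pi : ℕ → ℕ) (eps : ℕ → ℤ) (j j' : ℕ) : Decidable (NodeOK D pi eps j j') :=
  decidable_of_iff _ (nodeOK_iff D pi eps j j').symm

section
variable {D : ChevalleyDatum} {Ns : List NData} {K : Type*} [Field K]
  {wl : List ℤ} {ws : List (List ℤ)} {sc : ℤ} {w : List ℤ} (C : Certs D Ns K wl ws sc w)
  {σ : GL D.Idx K →* GL D.Idx K} {pi : ℕ → ℕ} {eps : ℕ → ℤ} {f : K →+* K} (T : Twist C.c w σ pi eps f)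

include T in
theorem sigma_nT {j j' : ℕ} (h : NodeOK D pi eps j j') (a : K) :
    σ (nT C.c (D.simple j) a) = nT C.c (D.simple j') (f a) := by
  unfold nT
  rw [sigma_word C T _ (by
    intro p hp
    simp only [ChevalleyDatum.nWord, List.mem_cons, List.not_mem_nil, or_false] at hp
    rcases hp with rfl | rfl | rfl
    · exact h.lt
    · exact h.nlt
    · exact h.lt)]
  congr 1
  simp [ChevalleyDatum.nWord, stepL, h.p, h.e, h.np, h.ne]

include T in
theorem sigma_hGL {j j' : ℕ} (h : NodeOK D pi eps j j') (a : K) :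
    σ (hGL C.c (D.simple j) a) = hGL C.c (D.simple j') (f a) := by
  rw [hGL_eq, hGL_eq, map_mul, sigma_nT C T h, sigma_nT C T h, map_neg, map_one]

include T in
theorem sigma_nGL {j j' : ℕ} (h : NodeOK D pi eps j j') : σ (nGL C.c j) = nGL (F := K) C.c j' := by
  have := sigma_nT C T h 1
  rw [map_one] at this
  exact this

end

/-! ### the diagonal subgroup -/

section
variable (D : ChevalleyDatum) (K : Type*) [Field K]

theorem ext_mulSingle (j : Fin D.rank) (t : Kˣ) : ext D K (Pi.mulSingle j t) = Function.update (1 : ℕ → Kˣ) j.val t := by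
  funext k
  unfold ext
  by_cases hk : k < D.rank
  · rw [dif_pos hk]
    by_cases hkj : k = j.val
    · subst hkj
      simp
    · rw [Function.update_of_ne hkj, Pi.mulSingle_eq_of_ne]
      · rfl
      · intro h
        exact hkj (congrArg Fin.val h)
  · rw [dif_neg hk, Function.update_of_ne (by have := j.2; omega)]
    rfl

theorem torusHom_single {Ns : List NData} (hF : Facts D K) (c : DCert D Ns) (j : Fin D.rank) (t : Kˣ) :
    torusHom D K (Pi.mulSingle j t) = hGL c (D.simple j) (t : K) := by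
  apply Units.ext
  rw [hGL_coe]
  show D.charDiag K (chi D K (ext D K (Pi.mulSingle j t))) = _
  rw [hF.fundTorus j j.2 t t.ne_zero, ext_mulSingle]
  congr 3
  exact Units.ext rfl

/-- The action of the twisting on the parameters of the diagonal subgroup. -/
def tau (ρ : Equiv.Perm (Fin D.rank)) (f : K →+* K) : (Fin D.rank → Kˣ) →* (Fin D.rank → Kˣ) where
  toFun u := fun k => Units.map (f : K →* K) (u (ρ.symm k))
  map_one' := by
    funext k
    exact map_one _
  map_mul' u v := by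
    funext k
    exact map_mul _ _ _

theorem tau_apply (ρ : Equiv.Perm (Fin D.rank)) (f : K →+* K) (u : Fin D.rank → Kˣ) (k : Fin D.rank) :
    tau D K ρ f u k = Units.map (f : K →* K) (u (ρ.symm k)) := rfl

theorem tau_single (ρ : Equiv.Perm (Fin D.rank)) (f : K →+* K) (j : Fin D.rank) (t : Kˣ) :
    tau D K ρ f (Pi.mulSingle j t) = Pi.mulSingle (ρ j) (Units.map (f : K →* K) t) := by
  funext k
  rw [tau_apply]
  by_cases hk : k = ρ j
  · subst hk
    simp
  · rw [Pi.mulSingle_eq_of_ne hk, Pi.mulSingle_eq_of_ne, map_one]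
    intro h
    apply hk
    rw [← h]
    simp

variable {D K}
variable {Ns : List NData} {wl : List ℤ} {ws : List (List ℤ)} {sc : ℤ} {w : List ℤ} (C : Certs D Ns K wl ws sc w)
  {σ : GL D.Idx K →* GL D.Idx K} {pi : ℕ → ℕ} {eps : ℕ → ℤ} {f : K →+* K} (T : Twist C.c w σ pi eps f)

include T in
theorem sigma_torusHom (hF : Facts D K) (ρ : Equiv.Perm (Fin D.rank))
    (hρ : ∀ j : Fin D.rank, NodeOK D pi eps j (ρ j)) (u : Fin D.rank → Kˣ) :
    σ (torusHom D K u) = torusHom D K (tau D K ρ f u) := by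
  induction u using Pi.mulSingle_induction with
  | one => simp
  | mul a b ha hb => rw [map_mul, map_mul, ha, hb, map_mul, map_mul]
  | mulSingle j t =>
    rw [tau_single, torusHom_single D K hF C.c, torusHom_single D K hF C.c, sigma_hGL C T (hρ j)]
    rfl

/-- The kernel of the parametrisation of the diagonal subgroup has exponent `e` if `e` times the inverse of the Cartan
matrix is integral. -/
theorem ker_exponent (hF : Facts D K) (hind : RootInd D) (B : Matrix (Fin D.rank) (Fin D.rank) ℤ) (e : ℕ)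
    (hB : cartanMat D * B = Matrix.diagonal (fun _ => (e : ℤ))) (u : Fin D.rank → Kˣ)
    (hu : u ∈ (torusHom D K).ker) : u ^ e = 1 := by
  rw [mem_ker_torusHom D K hF hind] at hu
  have h1 := congrArg (zact B) hu
  rw [zact_mul, hB, zact_apply_one] at h1
  funext k
  have h2 := congrFun h1 k
  rw [zact_diagonal, zpow_natCast] at h2
  exact h2

include T in
/-- The fixed elements of the diagonal subgroup come from fixed parameters, if fixed classes modulo the kernel lift. -/
theorem fixed_diag (hF : Facts D K) (ρ : Equiv.Perm (Fin D.rank))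
    (hρ : ∀ j : Fin D.rank, NodeOK D pi eps j (ρ j))
    (hlift : ∀ u : Fin D.rank → Kˣ, u * (tau D K ρ f u)⁻¹ ∈ (torusHom D K).ker →
      ∃ z ∈ (torusHom D K).ker, tau D K ρ f (u * z) = u * z)
    (g : GL D.Idx K) (hg : g ∈ D.diagonalSubgroup K) (hσ : σ g = g) :
    ∃ u : Fin D.rank → Kˣ, tau D K ρ f u = u ∧ torusHom D K u = g := by
  rw [← range_torusHom D K hF] at hg
  obtain ⟨u, rfl⟩ := hg
  have h1 : u * (tau D K ρ f u)⁻¹ ∈ (torusHom D K).ker := by
    rw [MonoidHom.mem_ker, map_mul, map_inv, ← sigma_torusHom C T hF ρ hρ, hσ, mul_inv_cancel]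
  obtain ⟨z, hz, hfix⟩ := hlift u h1
  exact ⟨u * z, hfix, by rw [map_mul, MonoidHom.mem_ker.mp hz, mul_one]⟩

include T in
/-- The kernel is stable under the twisting of the parameters. -/
theorem tau_ker (hF : Facts D K) (ρ : Equiv.Perm (Fin D.rank))
    (hρ : ∀ j : Fin D.rank, NodeOK D pi eps j (ρ j)) (z : Fin D.rank → Kˣ) (hz : z ∈ (torusHom D K).ker) :
    tau D K ρ f z ∈ (torusHom D K).ker := by
  rw [MonoidHom.mem_ker, ← sigma_torusHom C T hF ρ hρ, MonoidHom.mem_ker.mp hz, map_one]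

include T in
/-- The order of the intersection of the diagonal subgroup with a twisted group. -/
theorem card_fixed_diag (hF : Facts D K) (ρ : Equiv.Perm (Fin D.rank))
    (hρ : ∀ j : Fin D.rank, NodeOK D pi eps j (ρ j))
    (hlift : ∀ u : Fin D.rank → Kˣ, u * (tau D K ρ f u)⁻¹ ∈ (torusHom D K).ker →
      ∃ z ∈ (torusHom D K).ker, tau D K ρ f (u * z) = u * z)
    (G1 : Subgroup (GL D.Idx K)) (hG1 : ∀ g ∈ G1, σ g = g)
    (hmem : ∀ u : Fin D.rank → Kˣ, tau D K ρ f u = u → torusHom D K u ∈ G1) :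
    Nat.card {u : Fin D.rank → Kˣ // tau D K ρ f u = u ∧ u ∈ (torusHom D K).ker} *
      Nat.card ↥(D.diagonalSubgroup K ⊓ G1) = Nat.card {u : Fin D.rank → Kˣ // tau D K ρ f u = u} := by
  set T1 : Subgroup (Fin D.rank → Kˣ) := (tau D K ρ f).eqLocus (MonoidHom.id _) with hT1
  set phi : ↥T1 →* GL D.Idx K := (torusHom D K).comp T1.subtype with hphi
  have hrange : D.diagonalSubgroup K ⊓ G1 = phi.range := by
    ext g
    rw [Subgroup.mem_inf, MonoidHom.mem_range]
    constructor
    · rintro ⟨hgH, hgG⟩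
      obtain ⟨u, hu, rfl⟩ := fixed_diag C T hF ρ hρ hlift g hgH (hG1 g hgG)
      exact ⟨⟨u, hu⟩, rfl⟩
    · rintro ⟨⟨u, hu⟩, rfl⟩
      refine ⟨?_, hmem u hu⟩
      rw [← range_torusHom D K hF]
      exact ⟨u, rfl⟩
  have h1 : Nat.card ↥(D.diagonalSubgroup K ⊓ G1) = phi.ker.index := by
    rw [hrange, Subgroup.index_ker]
  have h2 : Nat.card {u : Fin D.rank → Kˣ // tau D K ρ f u = u ∧ u ∈ (torusHom D K).ker} = Nat.card phi.ker := by
    apply Nat.card_congr
    exact (Equiv.subtypeSubtypeEquivSubtypeInter (fun u : Fin D.rank → Kˣ => tau D K ρ f u = u)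
      (fun u => u ∈ (torusHom D K).ker)).symm
  rw [h1, h2, Subgroup.card_mul_index]
  rfl

end

/-! ### counting in a cyclic group -/

section
variable {G : Type*} [CommGroup G]

theorem card_pow_eq_one [IsCyclic G] [Finite G] (d : ℕ) (h : d ∣ Nat.card G) :
    Nat.card {z : G // z ^ d = 1} = d := by
  have h1 := IsCyclic.card_powMonoidHom_ker (G := G) d
  rw [Nat.gcd_eq_right h] at h1
  refine Eq.trans ?_ h1
  apply Nat.card_congr
  exact Equiv.subtypeEquivRight (fun g => by rw [MonoidHom.mem_ker, powMonoidHom_apply])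

theorem card_two_pows [IsCyclic G] [Finite G] (a b : ℕ) (h : Nat.gcd a b ∣ Nat.card G) :
    Nat.card {z : G // z ^ a = 1 ∧ z ^ b = 1} = Nat.gcd a b := by
  rw [← card_pow_eq_one (G := G) (Nat.gcd a b) h]
  apply Nat.card_congr
  apply Equiv.subtypeEquivRight
  intro z
  exact pow_gcd_eq_one.symm

/-- The action of a matrix with six rows, written out. -/
theorem zact6 (M : Matrix (Fin 6) (Fin 6) ℤ) (u : Fin 6 → G) (k : Fin 6) :
    zact M u k = u 0 ^ M 0 k * u 1 ^ M 1 k * u 2 ^ M 2 k * u 3 ^ M 3 k * u 4 ^ M 4 k * u 5 ^ M 5 k := by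
  unfold zact
  rw [Fin.prod_univ_six]

/-- The action of a matrix with four rows, written out. -/
theorem zact4 (M : Matrix (Fin 4) (Fin 4) ℤ) (u : Fin 4 → G) (k : Fin 4) :
    zact M u k = u 0 ^ M 0 k * u 1 ^ M 1 k * u 2 ^ M 2 k * u 3 ^ M 3 k := by
  unfold zact
  rw [Fin.prod_univ_four]

end

section
variable {K : Type*} [Field K] [Fintype K]

/-- The number of units fixed by the map `x ↦ x ^ q`. -/
theorem card_fixed_units {q m : ℕ} (hq : 1 ≤ q) (hK : Fintype.card K = q ^ m) (f : K →+* K)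
    (hf : ∀ x : K, f x = x ^ q) : Nat.card {t : Kˣ // Units.map (f : K →* K) t = t} = q - 1 := by
  have hcard : Nat.card Kˣ = q ^ m - 1 := by
    classical
    rw [Nat.card_eq_fintype_card, Fintype.card_units, hK]
  rw [← card_pow_eq_one (G := Kˣ) (q - 1) (by rw [hcard]; exact Nat.sub_one_dvd_pow_sub_one q m)]
  apply Nat.card_congr
  apply Equiv.subtypeEquivRight
  intro t
  have e : t ^ q = t ^ (q - 1) * t := by rw [← pow_succ, Nat.sub_add_cancel hq]
  constructor
  · intro h
    have h1 : t ^ q = t := by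
      apply Units.ext
      rw [Units.val_pow_eq_pow_val, ← hf]
      exact congrArg Units.val h
    rw [e] at h1
    exact mul_eq_right.mp h1  
  · intro h
    apply Units.ext
    show f (t : K) = t
    rw [hf, ← Units.val_pow_eq_pow_val, e, h, one_mul]

end

end Cfsg.Agent.Lib.Helper36_TwistH
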