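import Cfsg.Agent.Lib.Helper36_TwistW

set_option autoImplicit false

/-!
Counting the fixed elements of `U` inside a subgroup generated by the root subgroups of a set of positive roots that is
a union of classes under the symmetry.
-/

namespace Cfsg.Agent.Lib.Helper36_TwistC

open Cfsg Cfsg.Lie Cfsg.Agent.Lib.Helper18_ChevFast Cfsg.Agent.Lib.Helper18_ChevEngine
  Cfsg.Agent.Lib.Helper18_ChevN Cfsg.Agent.Lib.Helper18_ChevWeyl
  Cfsg.Agent.Lib.Helper18_ChevGL Cfsg.Agent.Lib.Helper18_ChevTri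
  Cfsg.Agent.Lib.Helper18_ChevAdd Cfsg.Agent.Lib.Helper18_ChevUni Cfsg.Agent.Lib.Helper18_MatTri
  Cfsg.Agent.Lib.Helper36_TwistU Cfsg.Agent.Lib.Helper36_TwistW

variable {D : ChevalleyDatum} {Ns : List NData} {K : Type*} [Field K]
  {wl : List ℤ} {ws : List (List ℤ)} {sc : ℤ} {w : List ℤ} (C : Certs D Ns K wl ws sc w)
  {σ : GL D.Idx K →* GL D.Idx K} {pi : ℕ → ℕ} {eps : ℕ → ℤ} {f : K →+* K} (T : Twist C.c w σ pi eps f)

include T in
/-- A lower bound for the number of fixed elements of `U` in a subgroup containing the elements of some classes. -/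
theorem card_Z_ge [Finite K] {cls : List (ℕ × ℕ)} (hc : ClsOK D w pi cls) (RC : Subgroup (GL D.Idx K))
    (inP : ℕ × ℕ → Bool)
    (hy : ∀ p ∈ cls, inP p = true → ∀ x : K, Closes pi eps f p x → yS C.c pi eps f p x ∈ RC) :
    ∀ (post pre : List (ℕ × ℕ)), cls = pre ++ post →
      ((post.filter inP).map fun p => Nat.card {x : K // Closes pi eps f p x}).prod ≤
        Nat.card {g : GL D.Idx K // g ∈ Zset C.c σ (rootsOf pi pre) ∧ g ∈ RC}
  | [], pre, _ => by
    rw [List.filter_nil, List.map_nil, List.prod_nil]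
    have : Nonempty {g : GL D.Idx K // g ∈ Zset C.c σ (rootsOf pi pre) ∧ g ∈ RC} :=
      ⟨⟨1, ⟨Subgroup.one_mem _, map_one σ, fun r _ => tOf_one C r⟩, Subgroup.one_mem _⟩⟩
    exact Nat.card_pos
  | p :: post, pre, h => by
    have h' : cls = (pre ++ [p]) ++ post := by rw [h]; simp
    have ih := card_Z_ge hc RC inP hy post (pre ++ [p]) h'
    have hpc : p ∈ cls := by rw [h]; simp
    by_cases hp : inP p = true
    · rw [List.filter_cons_of_pos hp, List.map_cons, List.prod_cons]
      refine le_trans (Nat.mul_le_mul_left _ ih) ?_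
      rw [← Nat.card_prod]
      apply Nat.card_le_card_of_injective
        (fun a : {x : K // Closes pi eps f p x} ×
            {g : GL D.Idx K // g ∈ Zset C.c σ (rootsOf pi (pre ++ [p])) ∧ g ∈ RC} =>
          (⟨yS C.c pi eps f p a.1.1 * a.2.1, (recomp C T hc h a.1.1 a.1.2 a.2.1 a.2.2.1).1,
            RC.mul_mem (hy p hpc hp a.1.1 a.1.2) a.2.2.2⟩ :
            {g : GL D.Idx K // g ∈ Zset C.c σ (rootsOf pi pre) ∧ g ∈ RC}))
      rintro ⟨⟨x, hx⟩, ⟨g, hg⟩⟩ ⟨⟨x', hx'⟩, ⟨g', hg'⟩⟩ e
      have e1 : yS C.c pi eps f p x * g = yS C.c pi eps f p x' * g' := congrArg Subtype.val e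
      have h1 := (recomp C T hc h x hx g hg.1).2
      have h2 := (recomp C T hc h x' hx' g' hg'.1).2
      rw [e1, h2] at h1
      subst h1
      have e2 : g = g' := mul_left_cancel e1
      subst e2
      rfl
    · rw [List.filter_cons_of_neg hp]
      refine le_trans ih ?_
      apply Nat.card_le_card_of_injective
        (fun a : {g : GL D.Idx K // g ∈ Zset C.c σ (rootsOf pi (pre ++ [p])) ∧ g ∈ RC} =>
          (⟨a.1, ⟨a.2.1.1, a.2.1.2.1, fun r hr => a.2.1.2.2 r (by
            rw [rootsOf_append]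
            exact List.mem_append_left _ hr)⟩, a.2.2⟩ :
            {g : GL D.Idx K // g ∈ Zset C.c σ (rootsOf pi pre) ∧ g ∈ RC}))
      intro a b e
      exact Subtype.ext (Subtype.mk.inj e)

theorem sum_filter_add (l : List (ℕ × ℕ)) (inP : ℕ × ℕ → Bool) :
    ((l.filter inP).map fun p => p.2).sum + ((l.filter fun p => !inP p).map fun p => p.2).sum =
      (l.map fun p => p.2).sum := by
  induction l with
  | nil => rfl
  | cons a l ih =>
    by_cases ha : inP a = true
    · rw [List.filter_cons_of_pos ha, List.filter_cons_of_neg (by simp [ha]), List.map_cons, List.sum_cons,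
        List.map_cons, List.sum_cons, ← ih]
      ring
    · rw [List.filter_cons_of_neg ha, List.filter_cons_of_pos (by simp [ha]), List.map_cons, List.sum_cons,
        List.map_cons, List.sum_cons, ← ih]
      ring

theorem prod_pow_eq (q : ℕ) (l : List (ℕ × ℕ)) : (l.map fun p => q ^ p.2).prod = q ^ (l.map fun p => p.2).sum := by
  induction l with
  | nil => simp
  | cons a l ih => rw [List.map_cons, List.prod_cons, ih, List.map_cons, List.sum_cons, pow_add]

include T in
/-- The number of fixed elements of `U` in one of two complementary subgroups, each generated by classes. -/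
theorem card_fixed_closure [Finite K] {cls : List (ℕ × ℕ)} (hc : ClsOK D w pi cls) {q : ℕ} (hq : 0 < q)
    (hcard : ∀ p ∈ cls, Nat.card {x : K // Closes pi eps f p x} = q ^ p.2)
    (RCm RCp : Subgroup (GL D.Idx K)) (hdisj : RCm ⊓ RCp = ⊥) (inP : ℕ × ℕ → Bool)
    (hym : ∀ p ∈ cls, inP p = true → ∀ x : K, Closes pi eps f p x → yS C.c pi eps f p x ∈ RCm)
    (hyp : ∀ p ∈ cls, inP p = false → ∀ x : K, Closes pi eps f p x → yS C.c pi eps f p x ∈ RCp) :
    Nat.card {g : GL D.Idx K // g ∈ Zset C.c σ (rootsOf pi []) ∧ g ∈ RCm} =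
      q ^ ((cls.filter inP).map fun p => p.2).sum := by
  have hprod : ∀ l : List (ℕ × ℕ), (∀ p ∈ l, p ∈ cls) →
      (l.map fun p => Nat.card {x : K // Closes pi eps f p x}) = l.map fun p => q ^ p.2 := by
    intro l hl
    apply List.map_congr_left
    intro p hp
    exact hcard p (hl p hp)
  have ha := card_Z_ge C T hc RCm inP hym cls [] rfl
  have hb := card_Z_ge C T hc RCp (fun p => !inP p) (fun p hp h => hyp p hp (by simpa using h)) cls [] rfl
  rw [hprod _ (fun p hp => (List.mem_filter.mp hp).1), prod_pow_eq] at ha hb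
  have htot := card_Z C T hc cls [] rfl
  rw [hprod _ (fun p hp => hp), prod_pow_eq, ← sum_filter_add cls inP, pow_add] at htot
  have hab : Nat.card {g : GL D.Idx K // g ∈ Zset C.c σ (rootsOf pi []) ∧ g ∈ RCm} *
      Nat.card {g : GL D.Idx K // g ∈ Zset C.c σ (rootsOf pi []) ∧ g ∈ RCp} ≤
      Nat.card ↥(Zset C.c σ (rootsOf pi [])) := by
    rw [← Nat.card_prod]
    apply Nat.card_le_card_of_injective
      (fun a : {g : GL D.Idx K // g ∈ Zset C.c σ (rootsOf pi []) ∧ g ∈ RCm} ×
          {g : GL D.Idx K // g ∈ Zset C.c σ (rootsOf pi []) ∧ g ∈ RCp} =>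
        (⟨a.1.1 * a.2.1, Subgroup.mul_mem _ a.1.2.1.1 a.2.2.1.1,
          by rw [map_mul, a.1.2.1.2.1, a.2.2.1.2.1], fun r hr => by simp [rootsOf] at hr⟩ :
          ↥(Zset C.c σ (rootsOf pi []))))
    intro a b e
    have e1 : a.1.1 * a.2.1 = b.1.1 * b.2.1 := congrArg Subtype.val e
    have := @Subgroup.mul_injective_of_disjoint _ _ RCm RCp (disjoint_iff.mpr hdisj)
      (⟨a.1.1, a.1.2.2⟩, ⟨a.2.1, a.2.2.2⟩) (⟨b.1.1, b.1.2.2⟩, ⟨b.2.1, b.2.2.2⟩) e1
    have h1 : a.1.1 = b.1.1 := congrArg (fun z : ↥RCm × ↥RCp => (z.1 : GL D.Idx K)) this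
    have h2 : a.2.1 = b.2.1 := congrArg (fun z : ↥RCm × ↥RCp => (z.2 : GL D.Idx K)) this
    exact Prod.ext (Subtype.ext h1) (Subtype.ext h2)
  rw [htot] at hab
  apply le_antisymm _ ha
  have h3 := le_trans (Nat.mul_le_mul_left _ hb) hab
  exact Nat.le_of_mul_le_mul_right h3 (pow_pos hq _)

end Cfsg.Agent.Lib.Helper36_TwistC
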