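import Cfsg.Agent.Lib.Helper36_WeylPoin

set_option autoImplicit false

/-!
The elements of a Weyl group (given by literal tables) that commute with a symmetry of the root system: they form the
group generated by the products of the fundamental reflections over the orbits of the nodes. The proof goes down a chain
of parabolic subgroups that are stable under the symmetry.
-/

namespace Cfsg.Agent.Lib.Helper36_TwistWeyl

open Cfsg.Agent.Lib.Helper36_WeylChain Cfsg.Agent.Lib.Helper36_WeylLit Cfsg.Agent.Lib.Helper36_WeylLit.RootLit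
  Cfsg.Agent.Lib.Helper36_WeylPoin

variable (L : RootLit)

/-- The tables with other reflections (the products over the orbits of the nodes). -/
@[reducible] def twistLit (refl' : List ℕ) (k : ℕ) : RootLit :=
  { n := L.n, rank := k, refl := refl', neg := L.neg, pos := L.pos }

/-- The image of a root index under a word in the reflections. -/
def evalWord (L : RootLit) (w : List ℕ) (s : ℕ) : ℕ := w.foldr (fun a t => L.r a t) s

theorem wPerm_eval (h : L.WF) (w : List ℕ) (hw : ∀ a ∈ w, a < L.rank) (s : Fin L.n) :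
    ((L.wPerm h w) s : ℕ) = evalWord L w s := by
  induction w with
  | nil => rfl
  | cons a w ih =>
    rw [wPerm_cons, Equiv.Perm.mul_apply, L.sPerm_val h a (hw a List.mem_cons_self),
      ih (fun b hb => hw b (List.mem_cons_of_mem _ hb))]
    rfl

/-- A permutation of the root indices from a table and the table of its inverse. -/
def mkPerm (pi pinv : ℕ → ℕ)
    (h : ∀ s < L.n, pi s < L.n ∧ pinv s < L.n ∧ pinv (pi s) = s ∧ pi (pinv s) = s) : Equiv.Perm (Fin L.n) where
  toFun s := ⟨pi s, (h s s.2).1⟩
  invFun s := ⟨pinv s, (h s s.2).2.1⟩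
  left_inv s := Fin.ext (h s s.2).2.2.1
  right_inv s := Fin.ext (h s s.2).2.2.2

/-- The symmetry `π` of the root system, given by the table `pi`; it maps the node `i` to the node `rho i`. -/
structure PiOK (π : Equiv.Perm (Fin L.n)) (pi rho : ℕ → ℕ) : Prop where
  val : ∀ s : Fin L.n, (π s : ℕ) = pi s
  rho_lt : ∀ i < L.rank, rho i < L.rank
  conj : ∀ i < L.rank, ∀ s < L.n, pi (L.r i s) = L.r (rho i) (pi s)
  pos : ∀ s < L.n, L.ps (pi s) = L.ps s

section
variable {L} {π : Equiv.Perm (Fin L.n)} {pi rho : ℕ → ℕ} (hπ : PiOK L π pi rho) (h : L.WF)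

include hπ in
theorem conj_sPerm (i : ℕ) (hi : i < L.rank) : π * L.sPerm h i * π⁻¹ = L.sPerm h (rho i) := by
  rw [mul_inv_eq_iff_eq_mul]
  ext s
  rw [Equiv.Perm.mul_apply, Equiv.Perm.mul_apply, hπ.val, L.sPerm_val h i hi, L.sPerm_val h _ (hπ.rho_lt i hi),
    hπ.val]
  exact hπ.conj i hi s s.2

include hπ in
/-- A parabolic subgroup of a stable set of nodes is stable under conjugation with the symmetry. -/
theorem conj_mem_W (J : List ℕ) (hJ : ∀ j ∈ J, j < L.rank) (hJρ : ∀ j ∈ J, rho j ∈ J)
    (u : Equiv.Perm (Fin L.n)) (hu : u ∈ L.W h J) : π * u * π⁻¹ ∈ L.W h J := by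
  refine L.W_induction h J (fun u => π * u * π⁻¹ ∈ L.W h J) ?_ ?_ u hu
  · rw [mul_one, mul_inv_cancel]
    exact (L.W h J).one_mem
  · intro j hj y ih
    have e : π * (L.sPerm h j * y) * π⁻¹ = (π * L.sPerm h j * π⁻¹) * (π * y * π⁻¹) := by group
    rw [e, conj_sPerm hπ h j (hJ j hj)]
    exact (L.W h J).mul_mem (Subgroup.subset_closure ⟨rho j, hJρ j hj, rfl⟩) ih

end

/-- The certificate of one step of the chain for the elements commuting with the symmetry: the parabolic subgroup is
stable, conjugation with the symmetry permutes the coset representatives, and the fixed ones are words in the twisted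
reflections. -/
structure FixStepOK (L' : RootLit) (pi rho : ℕ → ℕ) (st : Step) (cj : List ℕ) (ww : List (List ℕ)) : Prop where
  stab : ∀ j ∈ st.J', rho j ∈ st.J'
  conj : ∀ k < st.V.length, cj.getD k 0 < st.V.length ∧
    ∀ s < L.n, pi (dig (st.ent k).img s) = dig (st.ent (cj.getD k 0)).img (pi s)
  word : ∀ k < st.V.length, cj.getD k 0 = k → (∀ a ∈ ww.getD k [], a < L'.rank) ∧
    ∀ s < L.n, dig (st.ent k).img s = evalWord L' (ww.getD k []) s

/-- A chain of steps with their certificates. -/
def FixChainOK (L' : RootLit) (pi rho : ℕ → ℕ) : List (Step × List ℕ × List (List ℕ)) → List ℕ → Prop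
  | [], J0 => J0 = []
  | st :: rest, J0 => st.1.J = J0 ∧ L.StepOK st.1 ∧ FixStepOK L L' pi rho st.1 st.2.1 st.2.2 ∧
      FixChainOK L' pi rho rest st.1.J'

section
variable {L} {π : Equiv.Perm (Fin L.n)} {pi rho : ℕ → ℕ} (hπ : PiOK L π pi rho) (h : L.WF)
  (refl' : List ℕ) (k' : ℕ) (h' : (twistLit L refl' k').WF)

include hπ in
/-- The elements of the Weyl group that commute with the symmetry lie in the group of the twisted reflections. -/
theorem fixed_mem (sts : List (Step × List ℕ × List (List ℕ))) :
    ∀ (J0 : List ℕ), FixChainOK L (twistLit L refl' k') pi rho sts J0 →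
      ∀ x ∈ L.W h J0, π * x * π⁻¹ = x → x ∈ (twistLit L refl' k').W h' (List.range k') := by
  induction sts with
  | nil =>
    intro J0 hc x hx _
    unfold FixChainOK at hc
    rw [hc, L.W_nil h, Subgroup.mem_bot] at hx
    rw [hx]
    exact Subgroup.one_mem _
  | cons st rest ih =>
    intro J0 hc x hx hfix
    unfold FixChainOK at hc
    obtain ⟨rfl, hst, hfs, hrest⟩ := hc
    -- factor `x = v u`
    have hfac : ∃ v ∈ (L.Vset h st.1 : Set (Equiv.Perm (Fin L.n))), ∃ u ∈ L.W h st.1.J', x = v * u := by
      unfold W at hx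
      apply exists_factor {g | ∃ i ∈ st.1.J, g = L.sPerm h i}
      · rintro s ⟨i, -, rfl⟩
        exact L.sPerm_mul_self h i
      · rw [Finset.mem_coe, L.mem_Vset]
        refine ⟨0, hst.hne, ?_⟩
        rcases hst.entries 0 hst.hne with ⟨-, hw, -⟩ | ⟨h0, -⟩
        · rw [hw]
          rfl
        · exact absurd h0 (lt_irrefl 0)
      · rintro s ⟨i, hi, rfl⟩ v hv
        obtain ⟨v', hv', u, hu, e⟩ := L.step_closure h st.1 hst i hi v (by exact_mod_cast hv)
        exact ⟨v', by exact_mod_cast hv', u, hu, e⟩
      · exact hx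
    obtain ⟨v, hv, u, hu, rfl⟩ := hfac
    rw [Finset.mem_coe, L.mem_Vset] at hv
    obtain ⟨k, hk, rfl⟩ := hv
    obtain ⟨hck, hcj⟩ := hfs.conj k hk
    have hJ'r : ∀ j ∈ st.1.J', j < L.rank := fun j hj => hst.hJ j (hst.hJ' j hj)
    -- conjugation of the coset representative
    have hconjv : π * L.wPerm h (st.1.ent k).word * π⁻¹ = L.wPerm h (st.1.ent (st.2.1.getD k 0)).word := by
      rw [mul_inv_eq_iff_eq_mul]
      ext s
      rw [Equiv.Perm.mul_apply, Equiv.Perm.mul_apply, hπ.val, (L.entry_spec h st.1 hst k hk).2,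
        (L.entry_spec h st.1 hst _ hck).2, hπ.val]
      exact hcj s s.2
    have hu' := conj_mem_W hπ h st.1.J' hJ'r hfs.stab u hu
    have e : L.wPerm h (st.1.ent k).word * u =
        L.wPerm h (st.1.ent (st.2.1.getD k 0)).word * (π * u * π⁻¹) := by
      rw [← hconjv]
      conv_lhs => rw [← hfix]
      group
    have hkk : k = st.2.1.getD k 0 := L.step_uniq h st.1 hst k _ hk hck u _ hu hu' e
    rw [← hkk] at e
    have hufix : π * u * π⁻¹ = u := (mul_left_cancel e).symm
    obtain ⟨hwlt, hweq⟩ := hfs.word k hk hkk.symm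
    have hvmem : L.wPerm h (st.1.ent k).word ∈ (twistLit L refl' k').W h' (List.range k') := by
      have : L.wPerm h (st.1.ent k).word = (twistLit L refl' k').wPerm h' (st.2.2.getD k []) := by
        ext s
        rw [(L.entry_spec h st.1 hst k hk).2, hweq s s.2]
        exact (wPerm_eval (twistLit L refl' k') h' _ hwlt s).symm
      rw [this]
      exact (twistLit L refl' k').wPerm_mem h' _ _ (fun a ha => List.mem_range.mpr (hwlt a ha))
    exact Subgroup.mul_mem _ hvmem (ih _ hrest u hu hufix)

end

section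
variable {L} (h : L.WF) (refl' : List ℕ) (k' : ℕ) (h' : (twistLit L refl' k').WF) (Js : List (List ℕ))
  (hJs : ∀ a < k', (∀ j ∈ Js.getD a [], j < L.rank) ∧
    ∀ s < L.n, (twistLit L refl' k').r a s = evalWord L (Js.getD a []) s)

include hJs in
/-- A twisted reflection is the product of the fundamental reflections of its orbit of nodes. -/
theorem sPerm_twist (a : ℕ) (ha : a < k') : (twistLit L refl' k').sPerm h' a = L.wPerm h (Js.getD a []) := by
  ext s
  rw [(twistLit L refl' k').sPerm_val h' a ha, wPerm_eval L h _ (hJs a ha).1 s]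
  exact (hJs a ha).2 s s.2

include hJs in
theorem W1_le : (twistLit L refl' k').W h' (List.range k') ≤ L.W h (List.range L.rank) := by
  unfold W
  rw [Subgroup.closure_le]
  rintro g ⟨a, ha, rfl⟩
  have ha' := List.mem_range.mp ha
  rw [SetLike.mem_coe, sPerm_twist h refl' k' h' Js hJs a ha']
  exact L.wPerm_mem h _ _ (fun j hj => List.mem_range.mpr ((hJs a ha').1 j hj))

/-- The elements of the group of the twisted reflections commute with the symmetry. -/
theorem W1_comm {π : Equiv.Perm (Fin L.n)} {pi : ℕ → ℕ} (hπ' : PiOK (twistLit L refl' k') π pi id)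
    (x : Equiv.Perm (Fin L.n)) (hx : x ∈ (twistLit L refl' k').W h' (List.range k')) : π * x * π⁻¹ = x := by
  refine (twistLit L refl' k').W_induction h' (List.range k') (fun x => π * x * π⁻¹ = x) ?_ ?_ x hx
  · show π * 1 * π⁻¹ = 1
    rw [mul_one, mul_inv_cancel]
  · intro a ha y ih
    show π * ((twistLit L refl' k').sPerm h' a * y) * π⁻¹ = (twistLit L refl' k').sPerm h' a * y
    have e : π * ((twistLit L refl' k').sPerm h' a * y) * π⁻¹ =
        (π * (twistLit L refl' k').sPerm h' a * π⁻¹) * (π * y * π⁻¹) := by group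
    rw [e, ih]
    congr 1
    exact conj_sPerm hπ' h' a (List.mem_range.mp ha)

end

open Cfsg.Agent.Lib.Helper36_PolyList in
/-- The sum of `q ^ l(w)` along a chain, from an identity of polynomials checked on lists. -/
theorem pSum_poly (h : L.WF) (sts : List Step) (J0 : List ℕ) (hc : ChainOK L sts J0) (pre post : List (List ℤ))
    (hpoly : peq (pprod (pre ++ sts.map (fun st => hist st.lens))) (pprod post) = true) (q : ℕ) :
    (pre.map (fun a => peval a (q : ℤ))).prod * ((pSum (inv L.Pos) q (L.W h J0) : ℕ) : ℤ) =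
      (post.map (fun a => peval a (q : ℤ))).prod := by
  rw [pSum_chain L h sts J0 hc q]
  have key := peval_of_peq _ _ hpoly (q : ℤ)
  rw [peval_pprod, peval_pprod, List.map_append, List.prod_append, List.map_map] at key
  rw [← key, Nat.cast_list_prod, List.map_map]
  congr 2
  apply List.map_congr_left
  intro st _
  show (((st.lens.map (fun d => q ^ d)).sum : ℕ) : ℤ) = peval (hist st.lens) (q : ℤ)
  rw [peval_hist, Nat.cast_list_sum, List.map_map]
  congr 1

end Cfsg.Agent.Lib.Helper36_TwistWeyl
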