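import Cfsg.Agent.Lib.Helper36_ChevOrder
import Cfsg.Agent.Lib.Helper36_TwistC
import Cfsg.Agent.Lib.Helper36_TwistWeyl
import Cfsg.Agent.Lib.Helper36_TwistH

set_option autoImplicit false

/-!
The order of a twisted group from the normal form of the ambient Chevalley group: the twisting endomorphism preserves
`U`, `H`, `N` and the cells of the normal form, so that the components of the normal form of a fixed element are fixed.
-/

namespace Cfsg.Agent.Lib.Helper36_TwistOrder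

open Cfsg Cfsg.Lie Cfsg.Agent.Lib.Helper36_ChevCoeff Cfsg.Agent.Lib.Helper36_ChevAdd
  Cfsg.Agent.Lib.Helper36_ChevWeyl Cfsg.Agent.Lib.Helper36_ChevGen Cfsg.Agent.Lib.Helper36_ChevTables
  Cfsg.Agent.Lib.Helper36_ChevTorus Cfsg.Agent.Lib.Helper36_ChevBorel Cfsg.Agent.Lib.Helper36_ChevW0
  Cfsg.Agent.Lib.Helper36_ChevCore Cfsg.Agent.Lib.Helper36_ChevCommU Cfsg.Agent.Lib.Helper36_WeylChain
  Cfsg.Agent.Lib.Helper36_WeylLit Cfsg.Agent.Lib.Helper36_WeylLit.RootLit Cfsg.Agent.Lib.Helper36_ChevOrder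
  Cfsg.Agent.Lib.Helper36_TwistU Cfsg.Agent.Lib.Helper36_TwistW Cfsg.Agent.Lib.Helper36_TwistC
  Cfsg.Agent.Lib.Helper36_TwistWeyl Cfsg.Agent.Lib.Helper36_TwistH Cfsg.Agent.Lib.Helper36_ChevHOrder
  Cfsg.Agent.Lib.Helper18_ChevFast Cfsg.Agent.Lib.Helper18_ChevEngine

variable {D : ChevalleyDatum} {K : Type*} [Field K] (hf : Facts D K) (L : RootLit) (hwf : L.WF)
  {Ns : List Cfsg.Agent.Lib.Helper18_ChevN.NData} {wl : List ℤ} {ws : List (List ℤ)} {sc : ℤ} {w : List ℤ} (C : Certs D Ns K wl ws sc w)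
  {σ : GL D.Idx K →* GL D.Idx K} {pi : ℕ → ℕ} {eps : ℕ → ℤ} {f : K →+* K}

/-- The two versions of the root elements in the general linear group coincide. -/
theorem xGL_eq (r : ℕ) (t : K) :
    xGL D hf.hlen hf.hadd K r t = Cfsg.Agent.Lib.Helper18_ChevGL.xGL C.c r t := by
  apply Units.ext
  rw [xGL_coe, Cfsg.Agent.Lib.Helper18_ChevGL.xGL_coe]

/-- The hypotheses on the twisting: the tables of the symmetry, and the subgroup `G1` of fixed elements. -/
structure TwData (π : Equiv.Perm (Fin L.n)) (rhoN : ℕ → ℕ) (W1 : Subgroup (Equiv.Perm (Fin L.n)))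
    (G1 : Subgroup (GL D.Idx K)) : Prop where
  T : Twist C.c w σ pi eps f
  piok : PiOK L π pi rhoN
  eps1 : ∀ r < D.nroots, eps r = 1 ∨ eps r = -1
  fsurj : Function.Surjective f
  sH : ∀ g ∈ D.diagonalSubgroup K, σ g ∈ D.diagonalSubgroup K
  sN : ∀ g ∈ D.monomialSubgroup K, σ g ∈ D.monomialSubgroup K
  G1fix : ∀ g ∈ G1, σ g = g
  G1le : G1 ≤ D.group K
  Ufix : ∀ g ∈ D.posUnipotent K, σ g = g → g ∈ G1
  Hfix : ∀ g ∈ D.diagonalSubgroup K, σ g = g → g ∈ G1
  W1le : W1 ≤ WAll L hwf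
  W1comm : ∀ x ∈ W1, π * x * π⁻¹ = x
  W1fix : ∀ x ∈ WAll L hwf, π * x * π⁻¹ = x → x ∈ W1
  W1rep : ∀ x ∈ W1, ∃ m ∈ D.monomialSubgroup K, m ∈ G1 ∧ ActsAs D K hf L m x

variable {L hwf C} {π : Equiv.Perm (Fin L.n)} {rhoN : ℕ → ℕ} {W1 : Subgroup (Equiv.Perm (Fin L.n))}
  {G1 : Subgroup (GL D.Idx K)}
  (X : TwData hf L hwf C (σ := σ) (pi := pi) (eps := eps) (f := f) π rhoN W1 G1) (hl : LitOK D L)

include X hl in
/-- The image of an element acting as `x` acts as the conjugate of `x` under the symmetry. -/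
theorem actsAs_sigma {n : GL D.Idx K} {x : Equiv.Perm (Fin L.n)} (h : ActsAs D K hf L n x) :
    ActsAs D K hf L (σ n) (π * x * π⁻¹) := by
  intro r
  set r0 := π⁻¹ r with hr0
  have hπr0 : π r0 = r := by rw [hr0]; simp
  obtain ⟨c, hc⟩ := h r0
  have hr0lt : (r0 : ℕ) < D.nroots := hl.hn ▸ r0.2
  have hxlt : ((x r0 : Fin L.n) : ℕ) < D.nroots := hl.hn ▸ (x r0).2
  have he0 : ((eps r0 : ℤ) : K) * ((eps r0 : ℤ) : K) = 1 := by
    rcases X.eps1 _ hr0lt with h | h <;> rw [h] <;> simp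
  have he1 : ((eps (x r0) : ℤ) : K) ≠ 0 := by
    rcases X.eps1 _ hxlt with h | h <;> rw [h] <;> simp
  have he0' : ((eps r0 : ℤ) : K) ≠ 0 := by
    rcases X.eps1 _ hr0lt with h | h <;> rw [h] <;> simp
  have hfc : f (c : K) ≠ 0 := by
    rw [Ne, map_eq_zero]
    exact c.ne_zero
  refine ⟨Units.mk0 (((eps (x r0) : ℤ) : K) * f (c : K) * ((eps r0 : ℤ) : K))
    (mul_ne_zero (mul_ne_zero he1 hfc) he0'), fun t => ?_⟩
  obtain ⟨t0, ht0⟩ := X.fsurj (((eps r0 : ℤ) : K) * t)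
  have h1 : xGL D hf.hlen hf.hadd K r t = σ (xGL D hf.hlen hf.hadd K r0 t0) := by
    rw [xGL_eq hf C, xGL_eq hf C, X.T.sx _ hr0lt, ht0, ← mul_assoc, he0, one_mul, ← X.piok.val, hπr0]
  have h2 : σ n * σ (xGL D hf.hlen hf.hadd K r0 t0) * (σ n)⁻¹ = σ (n * xGL D hf.hlen hf.hadd K r0 t0 * n⁻¹) := by
    rw [map_mul, map_mul, map_inv]
  rw [h1, h2, hc t0, xGL_eq hf C, X.T.sx _ hxlt, xGL_eq hf C, map_mul, ht0]
  have h3 : (π * x * π⁻¹) r = π (x r0) := by
    rw [Equiv.Perm.mul_apply, Equiv.Perm.mul_apply]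
  rw [h3, X.piok.val, Units.val_mk0]
  congr 1
  ring

include X in
/-- The twisting endomorphism maps the subgroup of a set of roots into the subgroup of its image. -/
theorem sigma_rootClosure (P Q : ℕ → Prop) (hPQ : ∀ r, P r → r < D.nroots ∧ Q (pi r)) (g : GL D.Idx K)
    (hg : g ∈ rootClosure D K P) : σ g ∈ rootClosure D K Q := by
  unfold rootClosure at hg
  induction hg using Subgroup.closure_induction with
  | mem g hg =>
    obtain ⟨r, t, hr, hg⟩ := hg
    have hg' : g = Cfsg.Agent.Lib.Helper18_ChevGL.xGL C.c r t :=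
      Units.ext (by rw [hg, Cfsg.Agent.Lib.Helper18_ChevGL.xGL_coe])
    rw [hg', X.T.sx r (hPQ r hr).1, ← xGL_eq hf C]
    exact xGL_mem_rootClosure D K hf.hlen hf.hadd Q _ (hPQ r hr).2 _
  | one =>
    rw [map_one]
    exact (rootClosure D K Q).one_mem
  | mul a b _ _ iha ihb =>
    rw [map_mul]
    exact (rootClosure D K Q).mul_mem iha ihb
  | inv a _ iha =>
    rw [map_inv]
    exact (rootClosure D K Q).inv_mem iha

include X in
theorem sigma_U (g : GL D.Idx K) (hg : g ∈ D.posUnipotent K) : σ g ∈ D.posUnipotent K := by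
  rw [posUnipotent_eq] at hg ⊢
  exact sigma_rootClosure hf X D.IsPosRoot D.IsPosRoot (fun r hr => ⟨hr.1, X.T.pos r hr⟩) g hg

include X in
theorem sigma_B (g : GL D.Idx K) (hg : g ∈ D.borelSubgroup K) : σ g ∈ D.borelSubgroup K := by
  have : D.borelSubgroup K ≤ (D.borelSubgroup K).comap σ := by
    unfold ChevalleyDatum.borelSubgroup
    apply sup_le
    · intro g hg
      exact Subgroup.mem_comap.mpr (le_sup_left (a := D.posUnipotent K) (sigma_U hf X g hg))
    · intro g hg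
      exact Subgroup.mem_comap.mpr (le_sup_right (b := D.diagonalSubgroup K) (X.sH g hg))
  exact this hg

include X hl in
/-- The symmetry maps the positive roots made negative by `x` to those made negative by the conjugate of `x`. -/
theorem SNeg_pi (x : Equiv.Perm (Fin L.n)) (r : ℕ) (hr : SNeg D L x r) :
    r < D.nroots ∧ SNeg D L (π * x * π⁻¹) (pi r) := by
  obtain ⟨hpos, hrn, hneg⟩ := hr
  have hp := X.T.pos r hpos
  have hlt : pi r < L.n := hl.hn ▸ hp.1
  refine ⟨hpos.1, hp, hlt, ?_⟩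
  have e : (⟨pi r, hlt⟩ : Fin L.n) = π ⟨r, hrn⟩ := Fin.ext (X.piok.val ⟨r, hrn⟩).symm
  rw [e, Equiv.Perm.mul_apply, Equiv.Perm.mul_apply, Equiv.Perm.inv_def, Equiv.symm_apply_apply, X.piok.val,
    X.piok.pos _ (x ⟨r, hrn⟩).2]
  exact hneg

include X hl in
theorem SPos_pi (x : Equiv.Perm (Fin L.n)) (r : ℕ) (hr : SPos D L x r) :
    r < D.nroots ∧ SPos D L (π * x * π⁻¹) (pi r) := by
  obtain ⟨hpos, hrn, hneg⟩ := hr
  have hp := X.T.pos r hpos
  have hlt : pi r < L.n := hl.hn ▸ hp.1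
  refine ⟨hpos.1, hp, hlt, ?_⟩
  have e : (⟨pi r, hlt⟩ : Fin L.n) = π ⟨r, hrn⟩ := Fin.ext (X.piok.val ⟨r, hrn⟩).symm
  rw [e, Equiv.Perm.mul_apply, Equiv.Perm.mul_apply, Equiv.Perm.inv_def, Equiv.symm_apply_apply, X.piok.val,
    X.piok.pos _ (x ⟨r, hrn⟩).2]
  exact hneg

section main

variable (hchain : ChainOK D) (hc : AllConj D K) (hN : NGen D K) (hx : XInj D K) (hx1 : XOne D K)
  (hUV : D.borelSubgroup K ⊓ D.negUnipotent K = ⊥)
  (hNU : Subgroup.normalizer (D.posUnipotent K : Set (GL D.Idx K)) ⊓ D.group K = D.borelSubgroup K)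
  (hBN : D.borelSubgroup K ⊓ D.monomialSubgroup K = D.diagonalSubgroup K)
  (hE : BruhatE D K) (hU : BruhatU D K)
  (hnorm : D.diagonalSubgroup K ≤ Subgroup.normalizer (D.posUnipotent K : Set (GL D.Idx K)))
  (hUH : D.posUnipotent K ⊓ D.diagonalSubgroup K = ⊥)

include X hnorm hUH in
/-- A fixed element of `B` is the product of a fixed element of `U` and a fixed element of `H`. -/
theorem fixed_B (b : GL D.Idx K) (hb : b ∈ D.borelSubgroup K) (hσ : σ b = b) :
    ∃ u0 ∈ D.posUnipotent K, ∃ h0 ∈ D.diagonalSubgroup K, b = u0 * h0 ∧ σ u0 = u0 ∧ σ h0 = h0 := by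
  have hcoe := Subgroup.coe_mul_of_right_le_normalizer_left (D.posUnipotent K) (D.diagonalSubgroup K) hnorm
  have hb' : b ∈ ((D.posUnipotent K ⊔ D.diagonalSubgroup K : Subgroup (GL D.Idx K)) : Set (GL D.Idx K)) := hb
  rw [hcoe] at hb'
  obtain ⟨u0, hu0, h0, hh0, rfl⟩ := Set.mem_mul.mp hb'
  rw [map_mul] at hσ
  have := @Subgroup.mul_injective_of_disjoint _ _ (D.posUnipotent K) (D.diagonalSubgroup K)
    (disjoint_iff.mpr hUH) (⟨σ u0, sigma_U hf X u0 hu0⟩, ⟨σ h0, X.sH h0 hh0⟩) (⟨u0, hu0⟩, ⟨h0, hh0⟩) hσ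
  have h1 : σ u0 = u0 :=
    congrArg (fun z : ↥(D.posUnipotent K) × ↥(D.diagonalSubgroup K) => (z.1 : GL D.Idx K)) this
  have h2 : σ h0 = h0 :=
    congrArg (fun z : ↥(D.posUnipotent K) × ↥(D.diagonalSubgroup K) => (z.2 : GL D.Idx K)) this
  exact ⟨u0, hu0, h0, hh0, rfl, h1, h2⟩

include X hl hchain hc hN hx hx1 hUV hNU hBN hE hU hnorm hUH in
/-- The normal form of an element of the twisted group, with all its components in the twisted group. -/
theorem exists_normal_form (g : GL D.Idx K) (hg : g ∈ G1) :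
    ∃ x ∈ W1, ∀ m ∈ D.monomialSubgroup K, m ∈ G1 → ActsAs D K hf L m x →
      ∃ u0 ∈ D.posUnipotent K ⊓ G1, ∃ h0 ∈ D.diagonalSubgroup K ⊓ G1, ∃ u ∈ Um D K m ⊓ G1,
        g = u0 * h0 * m * u := by
  have hσ := X.G1fix g hg
  obtain ⟨b, hb, n, hn, u, hu, rfl⟩ := hE g (X.G1le hg)
  obtain ⟨x, hxW, hact⟩ := exists_actsAs D K hf L hwf hchain hc hl hN n hn
  have hact' := actsAs_sigma hf X hl hact
  have huS : u ∈ rootClosure D K (SNeg D L x) := by
    rw [← Um_eq D K hf L hl hUV hx1 hact]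
    exact hu
  have hσu : σ u ∈ Um D K (σ n) := by
    rw [Um_eq D K hf L hl hUV hx1 hact']
    exact sigma_rootClosure hf X _ _ (SNeg_pi hf X hl x) u huS
  have e : b * n * u = σ b * σ n * σ u := by rw [← map_mul, ← map_mul, hσ]
  obtain ⟨h1, -⟩ := hU b (σ b) n (σ n) u (σ u) hb (sigma_B hf X b hb) hn (X.sN n hn) hu hσu e
  have hfixx : π * x * π⁻¹ = x := by
    have ha := actsAs_mul D K hf L (actsAs_inv D K hf L hact) hact'
    have hb' := actsAs_diag D K hf L hchain hl _ h1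
    have := actsAs_unique D K hf L hl hx ha hb'
    exact (inv_mul_eq_one.mp this).symm
  refine ⟨x, X.W1fix x hxW hfixx, ?_⟩
  intro m hmN hmG hmact
  have h2act : ActsAs D K hf L (m⁻¹ * n) 1 := by
    have := actsAs_mul D K hf L (actsAs_inv D K hf L hmact) hact
    rwa [inv_mul_cancel] at this
  have hh2 : m⁻¹ * n ∈ D.diagonalSubgroup K :=
    mem_diag_of_actsAs_one D K hf L hl hNU hBN _ ((D.monomialSubgroup K).mul_mem
      ((D.monomialSubgroup K).inv_mem hmN) hn) h2act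
  have hh2' : m * (m⁻¹ * n) * m⁻¹ ∈ D.diagonalSubgroup K :=
    (Subgroup.mem_normalizer_iff.mp (monomial_le_normalizer D K hf hmN) _).mp hh2
  have hb2 : b * (m * (m⁻¹ * n) * m⁻¹) ∈ D.borelSubgroup K :=
    (D.borelSubgroup K).mul_mem hb ((le_sup_right : D.diagonalSubgroup K ≤ D.borelSubgroup K) hh2')
  have hg2 : b * n * u = b * (m * (m⁻¹ * n) * m⁻¹) * m * u := by group
  have huM : u ∈ Um D K m := by
    rw [Um_eq D K hf L hl hUV hx1 hmact]
    exact huS
  have hσm : σ m = m := X.G1fix m hmG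
  have hσuM : σ u ∈ Um D K m := by
    rw [Um_eq D K hf L hl hUV hx1 hmact]
    have := sigma_rootClosure hf X _ _ (SNeg_pi hf X hl x) u huS
    rwa [hfixx] at this
  generalize b * (m * (m⁻¹ * n) * m⁻¹) = b2 at hb2 hg2
  have e2 : b2 * m * u = σ b2 * m * σ u := by
    conv_lhs => rw [← hg2, ← hσ, hg2]
    rw [map_mul, map_mul, hσm]
  obtain ⟨-, h3⟩ := hU b2 (σ b2) m m u (σ u) hb2 (sigma_B hf X b2 hb2) hmN hmN huM hσuM e2
  obtain ⟨hb2fix, hufix⟩ := h3 rfl
  have huG : u ∈ G1 := X.Ufix u (Um_le_pos D K m huM) hufix.symm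
  obtain ⟨u0, hu0, h0, hh0, rfl, hu0fix, hh0fix⟩ := fixed_B hf X hnorm hUH b2 hb2 hb2fix.symm
  exact ⟨u0, ⟨hu0, X.Ufix u0 hu0 hu0fix⟩, h0, ⟨hh0, X.Hfix h0 hh0 hh0fix⟩, u, ⟨huM, huG⟩, hg2⟩


/-! ### the cells -/

include X hl in
theorem SNeg_iter (x : Equiv.Perm (Fin L.n)) (hxW : x ∈ W1) (r : ℕ) (hr : SNeg D L x r) (m : ℕ) :
    SNeg D L x (pi^[m] r) := by
  induction m with
  | zero => exact hr
  | succ m ih =>
    rw [Function.iterate_succ_apply']
    have := (SNeg_pi hf X hl x _ ih).2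
    rwa [X.W1comm x hxW] at this

include X hl in
theorem SPos_iter (x : Equiv.Perm (Fin L.n)) (hxW : x ∈ W1) (r : ℕ) (hr : SPos D L x r) (m : ℕ) :
    SPos D L x (pi^[m] r) := by
  induction m with
  | zero => exact hr
  | succ m ih =>
    rw [Function.iterate_succ_apply']
    have := (SPos_pi hf X hl x _ ih).2
    rwa [X.W1comm x hxW] at this

include hf in
/-- The element of a class lies in the subgroup of a set of roots containing the class. -/
theorem yS_mem_closure (P : ℕ → Prop) (p : ℕ × ℕ) (hP : ∀ m, P (pi^[m] p.1)) (t : K) :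
    yS C.c pi eps f p t ∈ rootClosure D K P := by
  unfold yS
  apply Cfsg.Agent.Lib.Helper18_ChevUni.wordGL_mem
  intro l hl
  obtain ⟨m, -, hm⟩ := (mem_orbRoots p.2 p.1 l.1).mp (orbWord_mem_fst p.2 (p.1, t) l hl)
  rw [← xGL_eq hf C, hm]
  exact xGL_mem_rootClosure D K hf.hlen hf.hadd P _ (hP m) _

theorem length_orbRoots (n : ℕ) : ∀ r : ℕ, (orbRoots pi n r).length = n := by
  induction n with
  | zero => intro r; rfl
  | succ n ih => intro r; simp [orbRoots, ih]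

/-- Counting the roots with a property that is constant on the classes. -/
theorem countP_rootsOf (P : ℕ → Bool) : ∀ cls : List (ℕ × ℕ),
    (∀ p ∈ cls, ∀ r ∈ orbRoots pi p.2 p.1, P r = P p.1) →
    (rootsOf pi cls).countP P = ((cls.filter fun p => P p.1).map fun p => p.2).sum
  | [], _ => rfl
  | p :: cls, h => by
    rw [rootsOf_cons, List.countP_append, countP_rootsOf P cls (fun p' hp' => h p' (List.mem_cons_of_mem _ hp'))]
    have h1 := h p List.mem_cons_self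
    by_cases hp : P p.1 = true
    · have e : (p :: cls).filter (fun p => P p.1) = p :: cls.filter (fun p => P p.1) :=
        List.filter_cons_of_pos hp
      rw [e, List.map_cons, List.sum_cons]
      congr 1
      rw [List.countP_eq_length.mpr (fun r hr => by rw [h1 r hr, hp]), length_orbRoots]
    · have e : (p :: cls).filter (fun p => P p.1) = cls.filter (fun p => P p.1) :=
        List.filter_cons_of_neg hp
      rw [e, List.countP_eq_zero.mpr (fun r hr => by rw [h1 r hr]; exact hp), zero_add]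


include X hl in
open scoped Classical in
/-- The sizes of the classes made negative by `x` add up to the length of `x`. -/
theorem sum_cls_eq_inv {cls : List (ℕ × ℕ)} (hcls : ClsOK D w pi cls) (x : Equiv.Perm (Fin L.n)) (hxW : x ∈ W1) :
    ((cls.filter fun p => decide (SNeg D L x p.1)).map fun p => p.2).sum = inv L.Pos x := by
  rw [← card_SNeg D L hl x]
  have hconst : ∀ p ∈ cls, ∀ r ∈ orbRoots pi p.2 p.1, decide (SNeg D L x r) = decide (SNeg D L x p.1) := by
    intro p hp r hr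
    obtain ⟨m, hm, rfl⟩ := (mem_orbRoots p.2 p.1 r).mp hr
    rw [decide_eq_decide]
    constructor
    · intro h
      have := SNeg_iter hf X hl x hxW _ h (p.2 - m)
      rwa [← Function.iterate_add_apply, Nat.sub_add_cancel hm.le, (hcls.each p hp).close] at this
    · intro h
      exact SNeg_iter hf X hl x hxW _ h m
  rw [← countP_rootsOf (fun r => decide (SNeg D L x r)) cls hconst, List.countP_eq_length_filter,
    ← List.toFinset_card_of_nodup (hcls.nodup.filter _), Fintype.card_subtype]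
  symm
  apply Finset.card_bij (fun (r : Fin L.n) _ => (r : ℕ))
  · intro r hr
    rw [Finset.mem_filter] at hr
    rw [List.mem_toFinset, List.mem_filter]
    exact ⟨hcls.cover _ hr.2.1, decide_eq_true hr.2⟩
  · intro a _ b _ e
    exact Fin.ext e
  · intro s hs
    rw [List.mem_toFinset, List.mem_filter] at hs
    have h2 : SNeg D L x s := of_decide_eq_true hs.2
    have hlt : s < L.n := h2.2.1
    exact ⟨⟨s, hlt⟩, by rw [Finset.mem_filter]; exact ⟨Finset.mem_univ _, h2⟩, rfl⟩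

include X hl hx1 hUV in
open scoped Classical in
/-- The number of elements of the twisted group in the cell subgroup of an element of the twisted Weyl group. -/
theorem card_Um_fixed [Finite K] {cls : List (ℕ × ℕ)} (hcls : ClsOK D w pi cls) {q : ℕ} (hq : 0 < q)
    (hcard : ∀ p ∈ cls, Nat.card {t : K // Closes pi eps f p t} = q ^ p.2)
    (x : Equiv.Perm (Fin L.n)) (hxW : x ∈ W1) (m : GL D.Idx K) (hm : ActsAs D K hf L m x) :
    Nat.card ↥(Um D K m ⊓ G1) = q ^ inv L.Pos x := by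
  rw [Um_eq D K hf L hl hUV hx1 hm]
  have e : ↥(rootClosure D K (SNeg D L x) ⊓ G1) ≃
      {g : GL D.Idx K // g ∈ Zset C.c σ (rootsOf pi []) ∧ g ∈ rootClosure D K (SNeg D L x)} :=
    Equiv.subtypeEquivRight (fun g =>
      ⟨fun h => ⟨⟨rootClosure_le_pos D K (SNeg D L x) (fun r hr => hr.1) h.1, X.G1fix g h.2,
        fun r hr => by simp [rootsOf] at hr⟩, h.1⟩,
       fun h => ⟨h.2, X.Ufix g h.1.1 h.1.2.1⟩⟩)
  rw [Nat.card_congr e, card_fixed_closure C X.T hcls hq hcard _ (rootClosure D K (SPos D L x))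
    (inf_SNeg_SPos D K hf L hl hUV hm) (fun p => decide (SNeg D L x p.1)) ?_ ?_,
    sum_cls_eq_inv hf X hl hcls x hxW]
  · intro p _ hp t _
    have h1 : SNeg D L x p.1 := of_decide_eq_true hp
    exact yS_mem_closure (C := C) hf (SNeg D L x) p (fun k => SNeg_iter hf X hl x hxW _ h1 k) t
  · intro p hpc hp t _
    have h1 : ¬ SNeg D L x p.1 := of_decide_eq_false hp
    have hpos : D.IsPosRoot p.1 := (hcls.each p hpc).pos _ (head_mem p (hcls.each p hpc))
    have hlt : p.1 < L.n := hl.hn ▸ hpos.1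
    have h2 : SPos D L x p.1 := by
      refine ⟨hpos, hlt, ?_⟩
      cases hb : L.ps (x ⟨p.1, hlt⟩)
      · exact absurd ⟨hpos, hlt, hb⟩ h1
      · rfl
    exact yS_mem_closure (C := C) hf (SPos D L x) p (fun k => SPos_iter hf X hl x hxW _ h2 k) t


/-! ### the count -/

/-- A representative in the twisted group of an element of the twisted Weyl group. -/
noncomputable def trep (x : W1) : GL D.Idx K := Classical.choose (X.W1rep x.1 x.2)

theorem trep_mem (x : W1) : trep hf X x ∈ D.monomialSubgroup K := (Classical.choose_spec (X.W1rep x.1 x.2)).1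

theorem trep_mem' (x : W1) : trep hf X x ∈ G1 := (Classical.choose_spec (X.W1rep x.1 x.2)).2.1

theorem trep_acts (x : W1) : ActsAs D K hf L (trep hf X x) x.1 := (Classical.choose_spec (X.W1rep x.1 x.2)).2.2

/-- The parametrisation of the twisted group by the normal form. -/
noncomputable def tparam
    (a : Σ x : W1, (↥(D.posUnipotent K ⊓ G1) × ↥(D.diagonalSubgroup K ⊓ G1)) × ↥(Um D K (trep hf X x) ⊓ G1)) : G1 :=
  ⟨(a.2.1.1 : GL D.Idx K) * (a.2.1.2 : GL D.Idx K) * trep hf X a.1 * (a.2.2 : GL D.Idx K),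
    G1.mul_mem (G1.mul_mem (G1.mul_mem a.2.1.1.2.2 a.2.1.2.2.2) (trep_mem' hf X a.1)) a.2.2.2.2⟩

include hl hchain hc hN hx hx1 hUV hNU hBN hE hU hnorm hUH in
theorem tparam_bijective : Function.Bijective (tparam hf X) := by
  constructor
  · rintro ⟨x, ⟨u0, h0⟩, u⟩ ⟨x', ⟨u0', h0'⟩, u'⟩ e
    have e1 : (u0 : GL D.Idx K) * (h0 : GL D.Idx K) * trep hf X x * (u : GL D.Idx K) =
        (u0' : GL D.Idx K) * (h0' : GL D.Idx K) * trep hf X x' * (u' : GL D.Idx K) := congrArg Subtype.val e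
    have hb : (u0 : GL D.Idx K) * (h0 : GL D.Idx K) ∈ D.borelSubgroup K :=
      (D.borelSubgroup K).mul_mem ((le_sup_left : D.posUnipotent K ≤ D.borelSubgroup K) u0.2.1)
        ((le_sup_right : D.diagonalSubgroup K ≤ D.borelSubgroup K) h0.2.1)
    have hb' : (u0' : GL D.Idx K) * (h0' : GL D.Idx K) ∈ D.borelSubgroup K :=
      (D.borelSubgroup K).mul_mem ((le_sup_left : D.posUnipotent K ≤ D.borelSubgroup K) u0'.2.1)
        ((le_sup_right : D.diagonalSubgroup K ≤ D.borelSubgroup K) h0'.2.1)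
    obtain ⟨h1, h2⟩ := hU _ _ _ _ _ _ hb hb' (trep_mem hf X x) (trep_mem hf X x') u.2.1 u'.2.1 e1
    have ha : ActsAs D K hf L ((trep hf X x)⁻¹ * trep hf X x') (x.1⁻¹ * x'.1) :=
      actsAs_mul D K hf L (actsAs_inv D K hf L (trep_acts hf X x)) (trep_acts hf X x')
    have hd := actsAs_diag D K hf L hchain hl _ h1
    have hxx : x.1⁻¹ * x'.1 = 1 := actsAs_unique D K hf L hl hx ha hd
    have hxx' : x = x' := Subtype.ext (inv_mul_eq_one.mp hxx)
    subst hxx'
    obtain ⟨h3, h4⟩ := h2 rfl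
    have h5 := @Subgroup.mul_injective_of_disjoint _ _ (D.posUnipotent K) (D.diagonalSubgroup K)
      (disjoint_iff.mpr hUH) (⟨u0.1, u0.2.1⟩, ⟨h0.1, h0.2.1⟩) (⟨u0'.1, u0'.2.1⟩, ⟨h0'.1, h0'.2.1⟩) h3
    have h6 : (u0 : GL D.Idx K) = u0' :=
      congrArg (fun z : ↥(D.posUnipotent K) × ↥(D.diagonalSubgroup K) => (z.1 : GL D.Idx K)) h5
    have h7 : (h0 : GL D.Idx K) = h0' :=
      congrArg (fun z : ↥(D.posUnipotent K) × ↥(D.diagonalSubgroup K) => (z.2 : GL D.Idx K)) h5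
    have : u0 = u0' := Subtype.ext h6
    have : h0 = h0' := Subtype.ext h7
    have : u = u' := Subtype.ext h4
    subst_vars
    rfl
  · rintro ⟨g, hg⟩
    obtain ⟨x, hxW, hnf⟩ := exists_normal_form hf X hl hchain hc hN hx hx1 hUV hNU hBN hE hU hnorm hUH g hg
    obtain ⟨u0, hu0, h0, hh0, u, hu, rfl⟩ := hnf (trep hf X ⟨x, hxW⟩) (trep_mem hf X ⟨x, hxW⟩)
      (trep_mem' hf X ⟨x, hxW⟩) (trep_acts hf X ⟨x, hxW⟩)
    exact ⟨⟨⟨x, hxW⟩, (⟨u0, hu0⟩, ⟨h0, hh0⟩), ⟨u, hu⟩⟩, rfl⟩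

include X hl hchain hc hN hx hx1 hUV hNU hBN hE hU hnorm hUH in
open scoped Classical in
/-- The order of the twisted group from the normal form. -/
theorem card_twisted [Finite K] {cls : List (ℕ × ℕ)} (hcls : ClsOK D w pi cls) {q : ℕ} (hq : 0 < q)
    (hcard : ∀ p ∈ cls, Nat.card {t : K // Closes pi eps f p t} = q ^ p.2) :
    Nat.card G1 = Nat.card ↥(D.posUnipotent K ⊓ G1) * Nat.card ↥(D.diagonalSubgroup K ⊓ G1) *
      pSum (inv L.Pos) q W1 := by
  have hbij := tparam_bijective hf X hl hchain hc hN hx hx1 hUV hNU hBN hE hU hnorm hUH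
  letI : Fintype W1 := Fintype.ofFinite _
  rw [← Nat.card_congr (Equiv.ofBijective _ hbij), Nat.card_sigma]
  have hterm : ∀ x : W1,
      Nat.card ((↥(D.posUnipotent K ⊓ G1) × ↥(D.diagonalSubgroup K ⊓ G1)) × ↥(Um D K (trep hf X x) ⊓ G1)) =
        Nat.card ↥(D.posUnipotent K ⊓ G1) * Nat.card ↥(D.diagonalSubgroup K ⊓ G1) * q ^ inv L.Pos x.1 := by
    intro x
    rw [Nat.card_prod, Nat.card_prod, card_Um_fixed hf X hl hx1 hUV hcls hq hcard x.1 x.2 _ (trep_acts hf X x)]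
  rw [Finset.sum_congr rfl (fun x _ => hterm x), ← Finset.mul_sum]
  congr 1
  unfold pSum
  rw [Finset.sum_subtype (p := fun x => x ∈ W1) _ (fun x => by simp)]

end main


end Cfsg.Agent.Lib.Helper36_TwistOrder

/-! ### assembling the hypotheses -/

namespace Cfsg.Agent.Lib.Helper36_TwistOrder

open Cfsg Cfsg.Lie Cfsg.Agent.Lib.Helper36_ChevCoeff Cfsg.Agent.Lib.Helper36_ChevAdd
  Cfsg.Agent.Lib.Helper36_ChevWeyl Cfsg.Agent.Lib.Helper36_ChevGen Cfsg.Agent.Lib.Helper36_ChevTables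
  Cfsg.Agent.Lib.Helper36_ChevTorus Cfsg.Agent.Lib.Helper36_ChevBorel Cfsg.Agent.Lib.Helper36_ChevW0
  Cfsg.Agent.Lib.Helper36_ChevCore Cfsg.Agent.Lib.Helper36_ChevCommU Cfsg.Agent.Lib.Helper36_WeylChain
  Cfsg.Agent.Lib.Helper36_WeylLit Cfsg.Agent.Lib.Helper36_WeylLit.RootLit Cfsg.Agent.Lib.Helper36_ChevOrder
  Cfsg.Agent.Lib.Helper36_TwistU Cfsg.Agent.Lib.Helper36_TwistW Cfsg.Agent.Lib.Helper36_TwistC
  Cfsg.Agent.Lib.Helper36_TwistWeyl Cfsg.Agent.Lib.Helper36_TwistH Cfsg.Agent.Lib.Helper36_ChevHOrder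
  Cfsg.Agent.Lib.Helper18_ChevFast Cfsg.Agent.Lib.Helper18_ChevEngine

section assemble

variable {D : ChevalleyDatum} {K : Type*} [Field K] (hf : Facts D K) (L : RootLit) (hwf : L.WF)
  {Ns : List Cfsg.Agent.Lib.Helper18_ChevN.NData} {wl : List ℤ} {ws : List (List ℤ)} {sc : ℤ} {w : List ℤ}
  (C : Certs D Ns K wl ws sc w)
  {σ : GL D.Idx K →* GL D.Idx K} {pi : ℕ → ℕ} {eps : ℕ → ℤ} {f : K →+* K} (T : Twist C.c w σ pi eps f)
  (ρ : Equiv.Perm (Fin D.rank)) (hρ : ∀ j : Fin D.rank, NodeOK D pi eps j (ρ j))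

theorem frob_surjective [Finite K] (f : K →+* K) : Function.Surjective f :=
  Finite.injective_iff_surjective.mp f.injective

include hf T hρ in
theorem sigma_diag (g : GL D.Idx K) (hg : g ∈ D.diagonalSubgroup K) : σ g ∈ D.diagonalSubgroup K := by
  rw [← range_torusHom D K hf] at hg ⊢
  obtain ⟨u, rfl⟩ := hg
  exact ⟨tau D K ρ f u, (sigma_torusHom C T hf ρ hρ u).symm⟩

theorem nGL_eq' (i : ℕ) : Cfsg.Agent.Lib.Helper18_ChevGL.nGL (F := K) C.c i = nGL D hf.hlen hf.hadd K i := by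
  apply Units.ext
  rw [Cfsg.Agent.Lib.Helper18_ChevGL.nGL_coe, nGL_coe]

include hf in
theorem nGL_mem_mono (i : ℕ) (hi : i < D.rank) :
    Cfsg.Agent.Lib.Helper18_ChevGL.nGL (F := K) C.c i ∈ D.monomialSubgroup K := by
  apply (le_sup_right : _ ≤ D.monomialSubgroup K)
  exact Subgroup.subset_closure ⟨D.simple i, (hf.hsimple i hi).1, Cfsg.Agent.Lib.Helper18_ChevGL.nGL_coe C.c i⟩

include hf T hρ in
theorem sigma_mono (hN : NGen D K) (g : GL D.Idx K) (hg : g ∈ D.monomialSubgroup K) :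
    σ g ∈ D.monomialSubgroup K := by
  have hH : D.diagonalSubgroup K ≤ D.monomialSubgroup K := le_sup_left
  rw [hN, ← Subgroup.closure_eq (D.diagonalSubgroup K), ← Subgroup.closure_union] at hg
  induction hg using Subgroup.closure_induction with
  | mem g hg =>
    rcases hg with hg | ⟨i, hi, hg⟩
    · exact hH (sigma_diag hf C T ρ hρ g hg)
    · have : g = Cfsg.Agent.Lib.Helper18_ChevGL.nGL (F := K) C.c i :=
        Units.ext (by rw [hg, Cfsg.Agent.Lib.Helper18_ChevGL.nGL_coe])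
      rw [this]
      have h2 := sigma_nGL C T (hρ ⟨i, hi⟩)
      rw [h2]
      exact nGL_mem_mono hf C _ (ρ ⟨i, hi⟩).2
  | one =>
    rw [map_one]
    exact Subgroup.one_mem _
  | mul a b _ _ iha ihb =>
    rw [map_mul]
    exact Subgroup.mul_mem _ iha ihb
  | inv a _ iha =>
    rw [map_inv]
    exact Subgroup.inv_mem _ iha

include C in
theorem genSubgroup_le (S : Set (List (ℕ × K))) : D.genSubgroup K S ≤ D.group K := by
  unfold ChevalleyDatum.genSubgroup
  rw [Subgroup.closure_le]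
  rintro g ⟨wd, -, hg⟩
  rw [SetLike.mem_coe, Cfsg.Agent.Lib.Helper18_ChevGL.eq_wordGL C.c hg]
  exact Cfsg.Agent.Lib.Helper18_ChevGL.wordGL_mem_group C.c wd

include T in
theorem Ufix_of {cls : List (ℕ × ℕ)} (hcls : ClsOK D w pi cls) (G1 : Subgroup (GL D.Idx K))
    (hy : ∀ p ∈ cls, ∀ x : K, Closes pi eps f p x → yS C.c pi eps f p x ∈ G1)
    (g : GL D.Idx K) (hg : g ∈ D.posUnipotent K) (hσ : σ g = g) : g ∈ G1 :=
  Z_le C T hcls G1 hy cls [] rfl g ⟨hg, hσ, fun r hr => by simp [rootsOf] at hr⟩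

include hf T hρ in
theorem Hfix_of (G1 : Subgroup (GL D.Idx K))
    (hlift : ∀ u : Fin D.rank → Kˣ, u * (tau D K ρ f u)⁻¹ ∈ (torusHom D K).ker →
      ∃ z ∈ (torusHom D K).ker, tau D K ρ f (u * z) = u * z)
    (hmem : ∀ u : Fin D.rank → Kˣ, tau D K ρ f u = u → torusHom D K u ∈ G1)
    (g : GL D.Idx K) (hg : g ∈ D.diagonalSubgroup K) (hσ : σ g = g) : g ∈ G1 := by
  obtain ⟨u, hu, rfl⟩ := fixed_diag C T hf ρ hρ hlift g hg hσ
  exact hmem u hu

theorem actsAs_nJ (hc : AllConj D K) (hl : LitOK D L) (J : List ℕ) (hJ : ∀ j ∈ J, j < D.rank) :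
    ActsAs D K hf L (nJ C.c K J) (L.wPerm hwf J) := by
  induction J with
  | nil =>
    have : nJ C.c K [] = 1 := by unfold nJ; simp
    rw [this, wPerm_nil]
    exact actsAs_one D K hf L
  | cons i J ih =>
    rw [nJ_cons, wPerm_cons, nGL_eq' hf C]
    exact actsAs_mul D K hf L (actsAs_nGL D K hf L hwf hc hl i (hJ i List.mem_cons_self))
      (ih (fun j hj => hJ j (List.mem_cons_of_mem _ hj)))

include hf in
theorem nJ_mem_mono (J : List ℕ) (hJ : ∀ j ∈ J, j < D.rank) : nJ C.c K J ∈ D.monomialSubgroup K := by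
  unfold nJ
  apply Subgroup.list_prod_mem
  intro g hg
  rw [List.mem_map] at hg
  obtain ⟨i, hi, rfl⟩ := hg
  exact nGL_mem_mono hf C i (hJ i hi)

include hwf in
/-- Representatives in the twisted group of the elements of the twisted Weyl group. -/
theorem W1rep_of (hc : AllConj D K) (hl : LitOK D L) (refl' : List ℕ) (k' : ℕ) (h' : (twistLit L refl' k').WF)
    (Js : List (List ℕ))
    (hJs : ∀ a < k', (∀ j ∈ Js.getD a [], j < L.rank) ∧
      ∀ s < L.n, (twistLit L refl' k').r a s = evalWord L (Js.getD a []) s)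
    (G1 : Subgroup (GL D.Idx K)) (hmem : ∀ a < k', nJ C.c K (Js.getD a []) ∈ G1)
    (x : Equiv.Perm (Fin L.n)) (hx : x ∈ (twistLit L refl' k').W h' (List.range k')) :
    ∃ m ∈ D.monomialSubgroup K, m ∈ G1 ∧ ActsAs D K hf L m x := by
  refine (twistLit L refl' k').W_induction h' (List.range k')
    (fun x => ∃ m ∈ D.monomialSubgroup K, m ∈ G1 ∧ ActsAs D K hf L m x)
    ⟨1, Subgroup.one_mem _, Subgroup.one_mem _, actsAs_one D K hf L⟩ ?_ x hx
  intro a ha y ⟨n, hn, hnG, hact⟩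
  have ha' := List.mem_range.mp ha
  have hJ : ∀ j ∈ Js.getD a [], j < D.rank := fun j hj => hl.hrank ▸ (hJs a ha').1 j hj
  refine ⟨nJ C.c K (Js.getD a []) * n, Subgroup.mul_mem _ (nJ_mem_mono hf C _ hJ) hn,
    Subgroup.mul_mem _ (hmem a ha') hnG, ?_⟩
  show ActsAs D K hf L _ ((twistLit L refl' k').sPerm h' a * y)
  rw [sPerm_twist hwf refl' k' h' Js hJs a ha']
  exact actsAs_mul D K hf L (actsAs_nJ hf L hwf C hc hl _ hJ) hact

end assemble

end Cfsg.Agent.Lib.Helper36_TwistOrder
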