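import Cfsg.Agent.Lib.Helper36_F4Setup
import Cfsg.Agent.Lib.Helper36_TwistGenH
import Cfsg.Agent.Lib.Helper36_TwistGenTorus
import Cfsg.Agent.Lib.Helper36_TwistH
import Cfsg.Agent.Lib.Helper36_TwistOrder
import Cfsg.Agent.Lib.Helper36_ChevDataF4HO

set_option autoImplicit false
set_option maxRecDepth 100000

/-!
Type `²F₄`: the fixed elements of the diagonal subgroup.
-/

namespace Cfsg.Agent.Lib.Helper36_F4H

open Cfsg Cfsg.Lie Cfsg.Agent.Lib.Helper18_ChevFast Cfsg.Agent.Lib.Helper18_ChevEngine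
  Cfsg.Agent.Lib.Helper18_ChevN Cfsg.Agent.Lib.Helper18_ChevWeyl
  Cfsg.Agent.Lib.Helper18_ChevGL Cfsg.Agent.Lib.Helper18_ChevTri Cfsg.Agent.Lib.Helper18_ChevBN
  Cfsg.Agent.Lib.Helper18_ChevAdd Cfsg.Agent.Lib.Helper18_ChevUni
  Cfsg.Agent.Lib.Helper36_ChevTorus Cfsg.Agent.Lib.Helper36_ChevBorel
  Cfsg.Agent.Lib.Helper36_ChevTables Cfsg.Agent.Lib.Helper36_ChevHOrder
  Cfsg.Agent.Lib.Helper36_ChevOrder Cfsg.Agent.Lib.Helper36_WeylChain
  Cfsg.Agent.Lib.Helper36_WeylLit Cfsg.Agent.Lib.Helper36_WeylLit.RootLit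
  Cfsg.Agent.Lib.Helper36_ChevDataF4Lit Cfsg.Agent.Lib.Helper36_ChevDataF4LitOK
  Cfsg.Agent.Lib.Helper36_TwistGen Cfsg.Agent.Lib.Helper36_TwistWeyl Cfsg.Agent.Lib.Helper36_TwistWeylF4
  Cfsg.Agent.Lib.Helper36_TwistU Cfsg.Agent.Lib.Helper36_TwistW Cfsg.Agent.Lib.Helper36_TwistH
  Cfsg.Agent.Lib.Helper36_F4Setup

/-- The fundamental roots and their images under the symmetry. -/
theorem nodeOK : chevF4.rank = 4 ∧ chevF4.nroots = 48 ∧
    (∀ j : Fin chevF4.rank, pi (chevF4.simple j) = chevF4.simple (Fin.rev j : Fin chevF4.rank)) ∧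
    (∀ j : Fin chevF4.rank, chevF4.simple j < 48) ∧
    chevF4.simple 0 = 33 ∧ chevF4.simple 1 = 27 ∧ chevF4.simple 2 = 25 ∧ chevF4.simple 3 = 24 := by
  decide +kernel

section

variable {K : Type*} [Field K]

/-- The action of the twisting on the parameters of the diagonal subgroup. -/
def tauF (fr : ℕ → K →+* K) : (Fin chevF4.rank → Kˣ) →* (Fin chevF4.rank → Kˣ) where
  toFun u := fun k => Units.map (fr (chevF4.simple (Fin.rev k : Fin chevF4.rank)) : K →* K) (u (Fin.rev k))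
  map_one' := by
    funext k
    exact map_one _
  map_mul' u v := by
    funext k
    exact map_mul _ _ _

theorem tauF_apply (fr : ℕ → K →+* K) (u : Fin chevF4.rank → Kˣ) (k : Fin chevF4.rank) :
    tauF fr u k = Units.map (fr (chevF4.simple (Fin.rev k : Fin chevF4.rank)) : K →* K) (u (Fin.rev k)) := rfl

theorem tauF_single (fr : ℕ → K →+* K) (j : Fin chevF4.rank) (t : Kˣ) :
    tauF fr (Pi.mulSingle j t) = Pi.mulSingle (Fin.rev j) (Units.map (fr (chevF4.simple j) : K →* K) t) := by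
  funext k
  rw [tauF_apply]
  by_cases hk : k = Fin.rev j
  · subst hk
    simp
  · rw [Pi.mulSingle_eq_of_ne hk, Pi.mulSingle_eq_of_ne, map_one]
    intro h
    apply hk
    rw [← h]
    simp

variable {σ : ↥(chevF4.group K) →* ↥(chevF4.group K)} {fr : ℕ → K →+* K}
  {G1 : Subgroup (GL chevF4.Idx K)} (X : TwGen (hfK K) lit wf σ pi fr piPerm G1)
  (htbl : ∀ r < chevF4.nroots, pi (chevF4.neg r) = chevF4.neg (pi r) ∧ fr (chevF4.neg r) = fr r ∧
    pi r < chevF4.nroots ∧ chevF4.neg r < chevF4.nroots)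

/-- The two versions of the root elements in the general linear group coincide. -/
theorem xGL_eq (r : ℕ) (t : K) :
    Cfsg.Agent.Lib.Helper36_ChevAdd.xGL chevF4 (hfK K).hlen (hfK K).hadd K r t = xGL dc r t := by
  apply Units.ext
  rfl

include X in
theorem hsx (r : ℕ) (hr : r < chevF4.nroots) (t : K) : sgm σ (xGL dc r t) = xGL dc (pi r) (fr r t) := by
  have := X.sx r hr t
  rw [xGL_eq, xGL_eq] at this
  exact this

theorem torusHom_mem (u : Fin chevF4.rank → Kˣ) : torusHom chevF4 K u ∈ chevF4.diagonalSubgroup K := by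
  rw [← range_torusHom chevF4 K (hfK K)]
  exact ⟨u, rfl⟩

theorem torusHom_mem_group (u : Fin chevF4.rank → Kˣ) : torusHom chevF4 K u ∈ chevF4.group K :=
  (Cfsg.Agent.Lib.Helper36_ChevBorel.subgroups_le chevF4 K (hfK K)).2.2.1 (torusHom_mem u)

include X htbl in
/-- The twisting on the elements of the diagonal subgroup. -/
theorem sgm_torusHom (u : Fin chevF4.rank → Kˣ) :
    sgm σ (torusHom chevF4 K u) = torusHom chevF4 K (tauF fr u) := by
  induction u using Pi.mulSingle_induction with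
  | one =>
    rw [map_one, map_one, map_one]
    exact sgm_one σ
  | mul a b ha hb =>
    rw [map_mul, map_mul, sgm_mul σ (torusHom_mem_group a) (torusHom_mem_group b), ha, hb, map_mul]
  | mulSingle j t =>
    rw [tauF_single, torusHom_single chevF4 K (hfK K) dc, torusHom_single chevF4 K (hfK K) dc]
    unfold hGL
    rw [Cfsg.Agent.Lib.Helper36_TwistGenH.sgm_hWord dc σ pi fr (hsx X) htbl _ (nodeOK.2.2.2.1 j), nodeOK.2.2.1 j]
    rfl

/-- The inverse of the Cartan matrix. -/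
def cartanInv : Matrix (Fin chevF4.rank) (Fin chevF4.rank) ℤ :=
  !![2, 3, 4, 2; 3, 6, 8, 4; 2, 4, 6, 3; 1, 2, 3, 2]

theorem cartanInv_ok : cartanMat chevF4 * cartanInv = Matrix.diagonal (fun _ => ((1 : ℕ) : ℤ)) := by
  decide +kernel

/-- The parametrisation of the diagonal subgroup is injective. -/
theorem torusHom_injective : Function.Injective (torusHom chevF4 K) := by
  rw [injective_iff_map_eq_one]
  intro u hu
  have := ker_exponent (hfK K) Cfsg.Agent.Lib.Helper36_ChevDataF4HO.rootInd cartanInv 1 cartanInv_ok u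
    (MonoidHom.mem_ker.mpr hu)
  rwa [pow_one] at this

theorem tauF_eq (fr : ℕ → K →+* K) (u : Fin chevF4.rank → Kˣ) :
    tauF fr u = ![Units.map (fr 24 : K →* K) (u (3 : Fin 4)), Units.map (fr 25 : K →* K) (u (2 : Fin 4)),
      Units.map (fr 27 : K →* K) (u (1 : Fin 4)), Units.map (fr 33 : K →* K) (u (0 : Fin 4))] := by
  funext k
  fin_cases k <;> rfl

end

/-! ### the fixed elements over a finite field -/

theorem charP2 {K : Type*} [Field K] [Fintype K] {m : ℕ} (hK : Fintype.card K = 2 ^ (2 * m + 1)) : CharP K 2 := by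
  have : Fact (Nat.Prime 2) := ⟨Nat.prime_two⟩
  exact charP_of_card_eq_prime_pow hK

/-- The values of a character, written out. -/
theorem chi_four {K : Type*} [Field K] (u : ℕ → Kˣ) (s : ℕ) :
    chi chevF4 K u s = u 0 ^ chevF4.cartan 0 s * u 1 ^ chevF4.cartan 1 s * u 2 ^ chevF4.cartan 2 s *
      u 3 ^ chevF4.cartan 3 s := by
  unfold chi
  show ∏ j ∈ Finset.range 4, _ = _
  rw [Finset.prod_range_succ, Finset.prod_range_succ, Finset.prod_range_succ, Finset.prod_range_one]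

section fin

variable {K : Type*} [Field K] [Fintype K] {m : ℕ} (hK : Fintype.card K = 2 ^ (2 * m + 1))
  {σ : ↥(chevF4.group K) →* ↥(chevF4.group K)} {fr : ℕ → K →+* K}
  {G1 : Subgroup (GL chevF4.Idx K)} (X : TwGen (hfK K) lit wf σ pi fr piPerm G1)
  (htbl : ∀ r < chevF4.nroots, pi (chevF4.neg r) = chevF4.neg (pi r) ∧ fr (chevF4.neg r) = fr r ∧
    pi r < chevF4.nroots ∧ chevF4.neg r < chevF4.nroots)
  (hfr : (∀ t : K, fr 33 t = t ^ (2 * 2 ^ m)) ∧ (∀ t : K, fr 27 t = t ^ (2 * 2 ^ m)) ∧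
    (∀ t : K, fr 25 t = t ^ 2 ^ m) ∧ (∀ t : K, fr 24 t = t ^ 2 ^ m))

/-- The parameters of the fixed elements of the diagonal subgroup. -/
def pr (m : ℕ) (ν κ : Kˣ) : Fin chevF4.rank → Kˣ := ![ν ^ 2 ^ m, κ ^ 2 ^ m, κ, ν]

omit [Fintype K] in
theorem units_map_pow (f : K →+* K) (e : ℕ) (hf : ∀ t : K, f t = t ^ e) (ν : Kˣ) :
    Units.map (f : K →* K) ν = ν ^ e := by
  apply Units.ext
  rw [Units.val_pow_eq_pow_val]
  exact hf ν

include hK in
theorem units_pow_card (ν : Kˣ) : ν ^ 2 ^ (2 * m + 1) = ν := by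
  apply Units.ext
  rw [Units.val_pow_eq_pow_val, ← hK]
  exact FiniteField.pow_card _

include hK in
theorem units_pow_pow (ν : Kˣ) : (ν ^ 2 ^ m) ^ (2 * 2 ^ m) = ν := by
  rw [← pow_mul]
  have : 2 ^ m * (2 * 2 ^ m) = 2 ^ (2 * m + 1) := by ring
  rw [this, units_pow_card hK]

include hK hfr in
theorem tauF_pr (ν κ : Kˣ) : tauF fr (pr m ν κ) = pr m ν κ := by
  rw [tauF_eq]
  obtain ⟨h33, h27, h25, h24⟩ := hfr
  have e3 : pr m ν κ (3 : Fin 4) = ν := rfl
  have e2 : pr m ν κ (2 : Fin 4) = κ := rfl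
  have e1 : pr m ν κ (1 : Fin 4) = κ ^ 2 ^ m := rfl
  have e0 : pr m ν κ (0 : Fin 4) = ν ^ 2 ^ m := rfl
  rw [e3, e2, e1, e0, units_map_pow _ _ h24, units_map_pow _ _ h25, units_map_pow _ _ h27, units_map_pow _ _ h33,
    units_pow_pow hK, units_pow_pow hK]
  rfl

omit [Fintype K] in
include hfr in
theorem fixed_param (u : Fin chevF4.rank → Kˣ) (h : tauF fr u = u) :
    u = pr m (u (3 : Fin 4)) (u (2 : Fin 4)) := by
  obtain ⟨h33, h27, h25, h24⟩ := hfr
  rw [tauF_eq] at h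
  have h0 : Units.map (fr 24 : K →* K) (u (3 : Fin 4)) = u (0 : Fin 4) := congrFun h (0 : Fin 4)
  have h1 : Units.map (fr 25 : K →* K) (u (2 : Fin 4)) = u (1 : Fin 4) := congrFun h (1 : Fin 4)
  rw [units_map_pow _ _ h24] at h0
  rw [units_map_pow _ _ h25] at h1
  funext k
  fin_cases k
  · exact h0.symm
  · exact h1.symm
  · rfl
  · rfl

omit [Fintype K] in
include X htbl hfr in
/-- A fixed element of the diagonal subgroup comes from a pair of parameters. -/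
theorem fixed_diag (h : GL chevF4.Idx K) (hh : h ∈ chevF4.diagonalSubgroup K) (hσ : sgm σ h = h) :
    ∃ ν κ : Kˣ, h = torusHom chevF4 K (pr m ν κ) := by
  rw [← range_torusHom chevF4 K (hfK K)] at hh
  obtain ⟨u, rfl⟩ := hh
  rw [sgm_torusHom X htbl] at hσ
  have := fixed_param hfr u (torusHom_injective hσ)
  exact ⟨_, _, by rw [← this]⟩

include hK X htbl hfr in
theorem hJ_fixed (ν κ : Kˣ) : sgm σ (torusHom chevF4 K (pr m ν κ)) = torusHom chevF4 K (pr m ν κ) := by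
  rw [sgm_torusHom X htbl, tauF_pr hK hfr]

omit [Fintype K] in
theorem pr_mul (ν κ ν' κ' : Kˣ) : pr m (ν * ν') (κ * κ') = pr m ν κ * pr m ν' κ' := by
  funext k
  fin_cases k
  · exact mul_pow _ _ _
  · exact mul_pow _ _ _
  · rfl
  · rfl

omit [Fintype K] in
theorem pr_injective : Function.Injective (fun p : Kˣ × Kˣ => pr m p.1 p.2) := by
  rintro ⟨ν, κ⟩ ⟨ν', κ'⟩ e
  have h3 : ν = ν' := congrFun e (3 : Fin 4)
  have h2 : κ = κ' := congrFun e (2 : Fin 4)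
  rw [h3, h2]

include hK X htbl hfr in
/-- The number of the fixed elements of the diagonal subgroup. -/
theorem card_diag_inf (hHfix : ∀ ν κ : Kˣ, torusHom chevF4 K (pr m ν κ) ∈ G1) :
    Nat.card ↥(chevF4.diagonalSubgroup K ⊓ G1) = (2 ^ (2 * m + 1) - 1) ^ 2 := by
  have hcard : Nat.card (Kˣ × Kˣ) = (2 ^ (2 * m + 1) - 1) ^ 2 := by
    classical
    rw [Nat.card_prod, Nat.card_eq_fintype_card, Fintype.card_units, hK, sq]
  rw [← hcard]
  symm
  apply Nat.card_congr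
  refine Equiv.ofBijective (fun p : Kˣ × Kˣ => (⟨torusHom chevF4 K (pr m p.1 p.2),
    ⟨torusHom_mem _, hHfix p.1 p.2⟩⟩ : ↥(chevF4.diagonalSubgroup K ⊓ G1))) ⟨?_, ?_⟩
  · intro p p' e
    have e1 : torusHom chevF4 K (pr m p.1 p.2) = torusHom chevF4 K (pr m p'.1 p'.2) := congrArg Subtype.val e
    exact pr_injective (torusHom_injective e1)
  · rintro ⟨h, hh, hG⟩
    obtain ⟨ν, κ, rfl⟩ := fixed_diag X htbl hfr h hh (X.G1fix h hG)
    exact ⟨(ν, κ), rfl⟩

end fin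

/-! ### the fixed elements of the diagonal subgroup in a subgroup containing the generators -/

theorem cross03 : Cross chevF4 0 3 := by
  unfold Cross
  decide +kernel

theorem negOK : chevF4.neg 33 = 14 ∧ chevF4.neg 24 = 23 := by decide +kernel

/-- The action of the second twisted reflection on the values of the characters. -/
theorem w2OK : ∀ r < lit.n,
    chevF4.cartan 0 r = chevF4.cartan 0 (lit'.r 1 r) + 2 * chevF4.cartan 1 (lit'.r 1 r) +
      2 * chevF4.cartan 2 (lit'.r 1 r) ∧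
    chevF4.cartan 3 r = chevF4.cartan 3 (lit'.r 1 r) + chevF4.cartan 1 (lit'.r 1 r) +
      2 * chevF4.cartan 2 (lit'.r 1 r) := by decide +kernel

theorem alg {G : Type*} [CommGroup G] (V ν : G) (A B C D : ℤ) :
    V ^ A * (V ^ 2 * ν) ^ B * (V ^ 2 * ν ^ 2) ^ C * ν ^ D = V ^ (A + 2 * B + 2 * C) * ν ^ (D + B + 2 * C) := by
  have h1 : (V ^ 2) ^ B = V ^ (2 * B) := by rw [← zpow_natCast, ← zpow_mul]; rfl
  have h2 : (V ^ 2) ^ C = V ^ (2 * C) := by rw [← zpow_natCast, ← zpow_mul]; rfl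
  have h3 : (ν ^ 2) ^ C = ν ^ (2 * C) := by rw [← zpow_natCast, ← zpow_mul]; rfl
  rw [mul_zpow, mul_zpow, h1, h2, h3, zpow_add, zpow_add, zpow_add, zpow_add]
  generalize V ^ A = a
  generalize V ^ (2 * B) = b
  generalize V ^ (2 * C) = c
  generalize ν ^ (2 * C) = d
  generalize ν ^ B = e
  generalize ν ^ D = f
  ac_rfl

section mem

variable {K : Type*} [Field K] [Fintype K] {m : ℕ} (hK : Fintype.card K = 2 ^ (2 * m + 1))

/-- The generators of the first kind, for the positive roots. -/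
def gP (K : Type*) [Field K] (m : ℕ) (t : K) : GL chevF4.Idx K := xGL dc 33 (t ^ 2 ^ m) * xGL dc 24 t

/-- The generators of the first kind, for the negative roots. -/
def gN (K : Type*) [Field K] (m : ℕ) (t : K) : GL chevF4.Idx K := xGL dc 14 (t ^ 2 ^ m) * xGL dc 23 t

omit [Fintype K] in
theorem gP_mem (t : K) : gP K m t ∈ twistedF4 K (2 ^ m) := by
  apply Subgroup.subset_closure
  refine ⟨f4PairWord (2 ^ m) f4p1 f4p4 t, Or.inl ⟨t, Or.inl rfl⟩, ?_⟩
  unfold gP f4PairWord f4p1 f4p4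
  rw [← wordGL_coe dc, wordGL_cons, wordGL_cons, wordGL_nil, mul_one]

omit [Fintype K] in
theorem gN_mem (t : K) : gN K m t ∈ twistedF4 K (2 ^ m) := by
  apply Subgroup.subset_closure
  refine ⟨f4PairWord (2 ^ m) f4m1 f4m4 t, Or.inl ⟨t, Or.inr rfl⟩, ?_⟩
  unfold gN f4PairWord f4m1 f4m4
  rw [← wordGL_coe dc, wordGL_cons, wordGL_cons, wordGL_nil, mul_one]

include hK in
theorem neg_one_eq : (-1 : K) = 1 := by
  haveI := charP2 hK
  exact CharTwo.neg_eq 1

include hK in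
/-- The product `n_1(a) n_4(b)` for parameters related by the field endomorphism. -/
theorem nT_pair (ν : Kˣ) :
    nT dc 33 ((ν : K) ^ 2 ^ m) * nT dc 24 (ν : K) = gP K m ν * gN K m ((ν⁻¹ : Kˣ) : K) * gP K m ν := by
  have h := nT_two (certs K) cross03 ((ν : K) ^ 2 ^ m) (ν : K)
  rw [nodeOK.2.2.2.2.1, nodeOK.2.2.2.2.2.2.2, negOK.1, negOK.2] at h
  have hn : ∀ a : K, -a = a := by
    haveI := charP2 hK
    exact CharTwo.neg_eq
  rw [h, hn, hn]
  unfold gP gN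
  rw [Units.val_inv_eq_inv_val, inv_pow]

include hK in
/-- The fixed elements of the first kind as products of generators. -/
theorem hJ1_eq (ν : Kˣ) : torusHom chevF4 K (pr m ν 1) =
    (gP K m ν * gN K m ((ν⁻¹ : Kˣ) : K) * gP K m ν) * (gP K m 1 * gN K m 1 * gP K m 1) := by
  have e : pr m ν 1 = Pi.mulSingle (⟨0, by decide⟩ : Fin chevF4.rank) (ν ^ 2 ^ m) *
      Pi.mulSingle (⟨3, by decide⟩ : Fin chevF4.rank) ν := by
    funext k
    fin_cases k
    · show ν ^ 2 ^ m = ν ^ 2 ^ m * 1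
      rw [mul_one]
    · show (1 : Kˣ) ^ 2 ^ m = 1 * 1
      rw [one_pow, mul_one]
    · show (1 : Kˣ) = 1 * 1
      rw [mul_one]
    · show ν = 1 * ν
      rw [one_mul]
  rw [e, map_mul]
  have h0 := torusHom_single chevF4 K (hfK K) dc (⟨0, by decide⟩ : Fin chevF4.rank) (ν ^ 2 ^ m)
  have h3 := torusHom_single chevF4 K (hfK K) dc (⟨3, by decide⟩ : Fin chevF4.rank) ν
  rw [h0, h3]
  have hs0 : chevF4.simple 0 = 33 := nodeOK.2.2.2.2.1
  have hs3 : chevF4.simple 3 = 24 := nodeOK.2.2.2.2.2.2.2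
  rw [hs0, hs3]
  have h2 := hGL_two (certs K) cross03 ((ν : K) ^ 2 ^ m) (ν : K)
  rw [nodeOK.2.2.2.2.1, nodeOK.2.2.2.2.2.2.2] at h2
  rw [Units.val_pow_eq_pow_val, h2, nT_pair hK ν, neg_one_eq hK]
  have h1 := nT_pair hK (1 : Kˣ)
  rw [Units.val_one, one_pow, _root_.inv_one, Units.val_one] at h1
  rw [h1]

include hK in
theorem hJ1_mem (P : Subgroup (GL chevF4.Idx K)) (hP : twistedF4 K (2 ^ m) ≤ P) (ν : Kˣ) :
    torusHom chevF4 K (pr m ν 1) ∈ P := by
  rw [hJ1_eq hK]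
  exact hP (Subgroup.mul_mem _ (Subgroup.mul_mem _ (Subgroup.mul_mem _ (gP_mem _) (gN_mem _)) (gP_mem _))
    (Subgroup.mul_mem _ (Subgroup.mul_mem _ (gP_mem _) (gN_mem _)) (gP_mem _)))

include hK in
/-- The element `n_1 n_4` as a product of generators. -/
theorem n1_eq : nJ dc K [0, 3] = gP K m 1 * gN K m 1 * gP K m 1 := by
  have h := nJ_two (certs K) 0 3 cross03
  rw [nodeOK.2.2.2.2.1, nodeOK.2.2.2.2.2.2.2, negOK.1, negOK.2, neg_one_eq hK] at h
  rw [h]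
  unfold gP gN
  rw [one_pow]

include hK in
theorem n1_mem : nJ dc K [0, 3] ∈ twistedF4 K (2 ^ m) := by
  rw [n1_eq hK]
  exact Subgroup.mul_mem _ (Subgroup.mul_mem _ (gP_mem _) (gN_mem _)) (gP_mem _)

end mem

/-! ### the fixed elements of the second kind -/

section conj

variable {K : Type*} [Field K] [Fintype K] {m : ℕ} (hK : Fintype.card K = 2 ^ (2 * m + 1))

include hK in
theorem b_theta (ν : Kˣ) : (ν ^ (2 * 2 ^ m + 2)) ^ 2 ^ m = (ν ^ 2 ^ m) ^ 2 * ν := by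
  rw [← pow_mul, ← pow_mul]
  have e : (2 * 2 ^ m + 2) * 2 ^ m = 2 ^ m * (2 * 2 ^ m) + 2 ^ m * 2 := by ring
  rw [e, pow_add, pow_mul ν (2 ^ m) (2 * 2 ^ m), units_pow_pow hK, mul_comm]

include hK in
/-- Conjugation of a fixed element of the first kind by an element acting as the second twisted reflection. -/
theorem conj_hJ1 {n2 : GL chevF4.Idx K} (hn2N : n2 ∈ chevF4.monomialSubgroup K)
    (hn2act : ActsAs chevF4 K (hfK K) lit n2 (lit'.sPerm wf' 1)) (ν : Kˣ) :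
    n2 * torusHom chevF4 K (pr m ν 1) * n2⁻¹ =
      torusHom chevF4 K (pr m ν 1) * torusHom chevF4 K (pr m 1 (ν ^ (2 * 2 ^ m + 2))) := by
  rw [← map_mul]
  show n2 * torusGL chevF4 K (chi chevF4 K (ext chevF4 K (pr m ν 1))) * n2⁻¹ =
    torusGL chevF4 K (chi chevF4 K (ext chevF4 K (pr m ν 1 * pr m 1 (ν ^ (2 * 2 ^ m + 2)))))
  apply Cfsg.Agent.Lib.Helper36_TwistGenTorus.conj_torus (hfK K) litOK hchain (hx1 K) hn2N hn2act
  intro r
  have hv : ((lit'.sPerm wf' 1 r : Fin lit.n) : ℕ) = lit'.r 1 r := lit'.sPerm_val wf' 1 (by decide) r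
  obtain ⟨t0, t3⟩ := w2OK r r.2
  rw [hv, chi_four, chi_four]
  set b : Kˣ := ν ^ (2 * 2 ^ m + 2) with hb
  have e0 : ext chevF4 K (pr m ν 1 * pr m 1 b) 0 = ν ^ 2 ^ m := by
    show ν ^ 2 ^ m * 1 ^ 2 ^ m = _
    rw [one_pow, mul_one]
  have e1 : ext chevF4 K (pr m ν 1 * pr m 1 b) 1 = b ^ 2 ^ m := by
    show 1 ^ 2 ^ m * b ^ 2 ^ m = _
    rw [one_pow, one_mul]
  have e2 : ext chevF4 K (pr m ν 1 * pr m 1 b) 2 = b := by
    show 1 * b = _
    rw [one_mul]
  have e3 : ext chevF4 K (pr m ν 1 * pr m 1 b) 3 = ν := by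
    show ν * 1 = _
    rw [mul_one]
  have f0 : ext chevF4 K (pr m ν 1) 0 = ν ^ 2 ^ m := rfl
  have f1 : ext chevF4 K (pr m ν 1) 1 = 1 := by
    show (1 : Kˣ) ^ 2 ^ m = 1
    rw [one_pow]
  have f2 : ext chevF4 K (pr m ν 1) 2 = 1 := rfl
  have f3 : ext chevF4 K (pr m ν 1) 3 = ν := rfl
  have hb2 : b = (ν ^ 2 ^ m) ^ 2 * ν ^ 2 := by
    rw [hb, pow_add, pow_mul']
  rw [e0, e1, e2, e3, f0, f1, f2, f3, one_zpow, one_zpow, mul_one, mul_one, t0, t3, b_theta hK, hb2]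
  exact alg _ _ _ _ _ _

include hK in
/-- Every unit is a power with exponent `2 θ + 2`. -/
theorem exists_pow_eq (κ : Kˣ) : ∃ ν : Kˣ, ν ^ (2 * 2 ^ m + 2) = κ := by
  refine ⟨(κ⁻¹) ^ (2 ^ m - 1), ?_⟩
  have hpos : 1 ≤ 2 ^ m := Nat.one_le_two_pow
  have e : (2 ^ m - 1) * (2 * 2 ^ m + 2) + 2 = 2 ^ (2 * m + 1) := by
    obtain ⟨k, hk⟩ : ∃ k, 2 ^ m = k + 1 := ⟨2 ^ m - 1, by omega⟩
    have : 2 ^ (2 * m + 1) = 2 * (2 ^ m * 2 ^ m) := by ring
    rw [this, hk, Nat.add_sub_cancel]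
    ring
  rw [← pow_mul]
  have h1 : κ⁻¹ ^ ((2 ^ m - 1) * (2 * 2 ^ m + 2)) * κ⁻¹ ^ 2 = κ⁻¹ := by
    rw [← pow_add, e, units_pow_card hK]
  have h2 : κ⁻¹ ^ ((2 ^ m - 1) * (2 * 2 ^ m + 2)) = κ⁻¹ * (κ⁻¹ ^ 2)⁻¹ := eq_mul_inv_of_mul_eq h1
  rw [h2, inv_pow, inv_inv, sq, ← mul_assoc, inv_mul_cancel, one_mul]

include hK in
/-- The fixed elements of the second kind lie in a subgroup containing the generators and an element of `N` acting as
the second twisted reflection. -/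
theorem hJ2_mem (P : Subgroup (GL chevF4.Idx K)) (hP : twistedF4 K (2 ^ m) ≤ P) {n2 : GL chevF4.Idx K}
    (hn2N : n2 ∈ chevF4.monomialSubgroup K) (hn2P : n2 ∈ P)
    (hn2act : ActsAs chevF4 K (hfK K) lit n2 (lit'.sPerm wf' 1)) (κ : Kˣ) :
    torusHom chevF4 K (pr m 1 κ) ∈ P := by
  obtain ⟨ν, rfl⟩ := exists_pow_eq hK κ
  have h := conj_hJ1 hK hn2N hn2act ν
  have e : torusHom chevF4 K (pr m 1 (ν ^ (2 * 2 ^ m + 2))) =
      (torusHom chevF4 K (pr m ν 1))⁻¹ * (n2 * torusHom chevF4 K (pr m ν 1) * n2⁻¹) := by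
    rw [h]
    group
  rw [e]
  have h1 := hJ1_mem hK P hP ν
  exact P.mul_mem (P.inv_mem h1) (P.mul_mem (P.mul_mem hn2P h1) (P.inv_mem hn2P))

include hK in
theorem hJ_mem (P : Subgroup (GL chevF4.Idx K)) (hP : twistedF4 K (2 ^ m) ≤ P) {n2 : GL chevF4.Idx K}
    (hn2N : n2 ∈ chevF4.monomialSubgroup K) (hn2P : n2 ∈ P)
    (hn2act : ActsAs chevF4 K (hfK K) lit n2 (lit'.sPerm wf' 1)) (ν κ : Kˣ) :
    torusHom chevF4 K (pr m ν κ) ∈ P := by
  have e : pr m ν κ = pr m ν 1 * pr m 1 κ := by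
    rw [← pr_mul, mul_one, one_mul]
  rw [e, map_mul]
  exact P.mul_mem (hJ1_mem hK P hP ν) (hJ2_mem hK P hP hn2N hn2P hn2act κ)

end conj

end Cfsg.Agent.Lib.Helper36_F4H
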