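import Cfsg.Agent.Lib.Helper36_F4Tor
import Cfsg.Agent.Lib.Helper36_F4H

set_option autoImplicit false
set_option maxRecDepth 100000

/-!
Type `²F₄`: the twisted group over a field with more than two elements is perfect.
-/

namespace Cfsg.Agent.Lib.Helper36_F4Perf

open Cfsg Cfsg.Lie Cfsg.Agent.Lib.Helper18_ChevFast Cfsg.Agent.Lib.Helper18_ChevEngine
  Cfsg.Agent.Lib.Helper18_ChevN Cfsg.Agent.Lib.Helper18_ChevWeyl
  Cfsg.Agent.Lib.Helper18_ChevGL Cfsg.Agent.Lib.Helper18_ChevTri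
  Cfsg.Agent.Lib.Helper18_ChevAdd Cfsg.Agent.Lib.Helper18_ChevUni
  Cfsg.Agent.Lib.Helper36_ChevTorus Cfsg.Agent.Lib.Helper36_ChevBorel
  Cfsg.Agent.Lib.Helper36_ChevTables Cfsg.Agent.Lib.Helper36_ChevHOrder
  Cfsg.Agent.Lib.Helper36_ChevOrder Cfsg.Agent.Lib.Helper36_WeylChain
  Cfsg.Agent.Lib.Helper36_WeylLit Cfsg.Agent.Lib.Helper36_WeylLit.RootLit
  Cfsg.Agent.Lib.Helper36_ChevDataF4Lit Cfsg.Agent.Lib.Helper36_ChevDataF4LitOK
  Cfsg.Agent.Lib.Helper36_TwistGen Cfsg.Agent.Lib.Helper36_TwistWeyl Cfsg.Agent.Lib.Helper36_TwistWeylF4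
  Cfsg.Agent.Lib.Helper36_F4Setup Cfsg.Agent.Lib.Helper36_F4BN Cfsg.Agent.Lib.Helper36_F4U
  Cfsg.Agent.Lib.Helper36_F4Order Cfsg.Agent.Lib.Helper36_F4Cell Cfsg.Agent.Lib.Helper36_F4Tor
  Cfsg.Agent.Lib.Helper36_F4H
  Cfsg.Agent.Lib.Helper18_TwistF4C Cfsg.Agent.Lib.Helper18_TwistF4D

open scoped commutatorElement

theorem cartanTab : chevF4.cartan 0 24 = 0 ∧ chevF4.cartan 1 24 = 0 ∧ chevF4.cartan 2 24 = -1 ∧
    chevF4.cartan 3 24 = 2 ∧ chevF4.cartan 0 25 = 0 ∧ chevF4.cartan 1 25 = -2 ∧ chevF4.cartan 2 25 = 2 ∧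
    chevF4.cartan 3 25 = -1 ∧ chevF4.cartan 0 30 = -2 ∧ chevF4.cartan 1 30 = 2 ∧ chevF4.cartan 2 30 = 0 ∧
    chevF4.cartan 3 30 = -1 := by decide +kernel

/-- The negative roots of the two classes are mapped to the positive ones by the twisted reflections. -/
theorem negTab : lit'.r 0 14 = 33 ∧ lit'.r 0 23 = 24 ∧ lit'.r 1 20 = 27 ∧ lit'.r 1 22 = 25 ∧ lit'.r 1 19 = 28 ∧
    lit'.r 1 17 = 30 := by decide +kernel

theorem sNeg0 : SNeg chevF4 lit (lit'.sPerm wf' 0) 33 ∧ SNeg chevF4 lit (lit'.sPerm wf' 0) 24 :=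
  ⟨sNeg_base 0 33 (by decide) (by decide) (by decide) (by decide +kernel),
    sNeg_base 0 24 (by decide) (by decide) (by decide) (by decide +kernel)⟩

theorem sNeg1 : SNeg chevF4 lit (lit'.sPerm wf' 1) 27 ∧ SNeg chevF4 lit (lit'.sPerm wf' 1) 25 ∧
    SNeg chevF4 lit (lit'.sPerm wf' 1) 28 ∧ SNeg chevF4 lit (lit'.sPerm wf' 1) 30 :=
  ⟨sNeg_base 1 27 (by decide) (by decide) (by decide) (by decide +kernel),
    sNeg_base 1 25 (by decide) (by decide) (by decide) (by decide +kernel),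
    sNeg_base 1 28 (by decide) (by decide) (by decide) (by decide +kernel),
    sNeg_base 1 30 (by decide) (by decide) (by decide) (by decide +kernel)⟩

section units

variable {K : Type*} [Field K] [Fintype K] {m : ℕ} (hK : Fintype.card K = 2 ^ (2 * m + 1))

include hK in
theorem sq_eq_one (ν : Kˣ) (h : ν ^ 2 = 1) : ν = 1 := by
  apply Units.ext
  have h1 : (ν : K) * (ν : K) = 1 := by
    have := congrArg Units.val h
    rwa [Units.val_pow_eq_pow_val, Units.val_one, sq] at this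
  rcases mul_self_eq_one_iff.mp h1 with h2 | h2
  · exact h2
  · rw [h2, neg_one_eq hK]
    rfl

include hK in
theorem theta_eq_one (κ : Kˣ) (h : κ ^ 2 ^ m = 1) : κ = 1 := by
  have := units_pow_pow hK κ
  rw [h, one_pow] at this
  exact this.symm

include hK in
theorem theta_eq_self (κ : Kˣ) (h : κ ^ 2 ^ m = κ) : κ = 1 := by
  have h1 := units_pow_pow hK κ
  rw [h, pow_mul', h] at h1
  -- `κ ^ 2 = κ`
  have h2 : κ * κ = κ * 1 := by rw [mul_one, ← sq]; exact h1
  exact mul_left_cancel h2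

end units

section chars

variable {K : Type*} [Field K]

theorem chi_pr (m : ℕ) (ν κ : Kˣ) (s : ℕ) :
    chi chevF4 K (ext chevF4 K (pr m ν κ)) s = (ν ^ 2 ^ m) ^ chevF4.cartan 0 s * (κ ^ 2 ^ m) ^ chevF4.cartan 1 s *
      κ ^ chevF4.cartan 2 s * ν ^ chevF4.cartan 3 s := by
  rw [chi_four]
  rfl

end chars

section main

variable {K : Type*} [Field K] [Fintype K] {m : ℕ} (hK : Fintype.card K = 2 ^ (2 * m + 1))

include hK in
theorem pr_mem (ν κ : Kˣ) : torusHom chevF4 K (pr m ν κ) ∈ twistedF4 K (2 ^ m) :=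
  hJ_mem hK (twistedF4 K (2 ^ m)) le_rfl (sgF_N 1 (by decide)) (sgF_mem hK 1 (by decide)) (sgF_act 1 (by decide)) ν κ

/-- The elements of a subgroup of `U¹` normalised by a diagonal element of the twisted group without fixed elements are
commutators. -/
theorem le_commutator_of_fpf (a : ℕ) (h : GL chevF4.Idx K) (hdiag : h ∈ chevF4.diagonalSubgroup K)
    (hmem : h ∈ twistedF4 K (2 ^ m))
    (hfpf : ∀ z ∈ Xa K m a, h * z * h⁻¹ = z → z = 1) :
    Xa K m a ≤ ⁅twistedF4 K (2 ^ m), twistedF4 K (2 ^ m)⁆ := by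
  have hnorm : ∀ w ∈ Xa K m a, h * w * h⁻¹ ∈ Xa K m a := by
    intro w hw
    have h1 := diag_le_normalizer chevF4 K (hfK K) hchain (SNeg chevF4 lit (lit'.sPerm wf' a))
      (fun r hr => hr.1.1) hdiag
    exact ⟨(Subgroup.mem_normalizer_iff.mp h1 w).mp hw.1,
      Subgroup.mul_mem _ (Subgroup.mul_mem _ hmem hw.2) (Subgroup.inv_mem _ hmem)⟩
  let f : ↥(Xa K m a) → ↥(Xa K m a) :=
    fun w => ⟨h * (w : GL chevF4.Idx K) * h⁻¹ * (w : GL chevF4.Idx K)⁻¹,
      Subgroup.mul_mem _ (hnorm _ w.2) (Subgroup.inv_mem _ w.2)⟩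
  have hinj : Function.Injective f := by
    intro w w' e
    have e1 : h * (w : GL chevF4.Idx K) * h⁻¹ * (w : GL chevF4.Idx K)⁻¹ =
        h * (w' : GL chevF4.Idx K) * h⁻¹ * (w' : GL chevF4.Idx K)⁻¹ := congrArg Subtype.val e
    have e2 : h * (w : GL chevF4.Idx K) * h⁻¹ = h * (w' : GL chevF4.Idx K) * h⁻¹ * (w' : GL chevF4.Idx K)⁻¹ * w := by
      rw [← e1]
      group
    have e3 : h * ((w' : GL chevF4.Idx K)⁻¹ * w) * h⁻¹ = (w' : GL chevF4.Idx K)⁻¹ * w := by
      calc h * ((w' : GL chevF4.Idx K)⁻¹ * w) * h⁻¹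
          = (h * (w' : GL chevF4.Idx K) * h⁻¹)⁻¹ * (h * (w : GL chevF4.Idx K) * h⁻¹) := by group
        _ = (w' : GL chevF4.Idx K)⁻¹ * w := by
          rw [e2]
          group
    have e4 := hfpf _ (Subgroup.mul_mem _ (Subgroup.inv_mem _ w'.2) w.2) e3
    apply Subtype.ext
    exact (inv_mul_eq_one.mp e4).symm
  have hsurj : Function.Surjective f := Finite.injective_iff_surjective.mp hinj
  intro g hg
  obtain ⟨w, hw⟩ := hsurj ⟨g, hg⟩
  have e : g = ⁅h, (w : GL chevF4.Idx K)⁆ := by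
    rw [commutatorElement_def]
    exact (congrArg Subtype.val hw).symm
  rw [e]
  exact Subgroup.commutator_mem_commutator hmem w.2.2

include hK in
theorem X0_le (ν : Kˣ) (hν : ν ≠ 1) : Xa K m 0 ≤ ⁅twistedF4 K (2 ^ m), twistedF4 K (2 ^ m)⁆ := by
  apply le_commutator_of_fpf 0 (torusHom chevF4 K (pr m ν 1)) (torusHom_mem _) (pr_mem hK ν 1)
  intro z hz hfix
  refine fpf0 hK _ (isRootCharacter_chi chevF4 K (hfK K).hca _) ?_ z hz hfix
  rw [chi_pr, cartanTab.1, cartanTab.2.1, cartanTab.2.2.1, cartanTab.2.2.2.1]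
  intro h
  apply hν
  apply sq_eq_one hK
  simpa using h

include hK in
theorem X1_le (κ : Kˣ) (hκ : κ ≠ 1) : Xa K m 1 ≤ ⁅twistedF4 K (2 ^ m), twistedF4 K (2 ^ m)⁆ := by
  apply le_commutator_of_fpf 1 (torusHom chevF4 K (pr m 1 κ)) (torusHom_mem _) (pr_mem hK 1 κ)
  intro z hz hfix
  refine fpf1 hK _ (isRootCharacter_chi chevF4 K (hfK K).hca _) ?_ ?_ z hz hfix
  · rw [chi_pr, cartanTab.2.2.2.2.1, cartanTab.2.2.2.2.2.1, cartanTab.2.2.2.2.2.2.1, cartanTab.2.2.2.2.2.2.2.1]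
    intro h
    apply hκ
    apply theta_eq_self hK
    have h1 : (κ ^ 2 ^ m) ^ (-2 : ℤ) * κ ^ (2 : ℤ) = 1 := by simpa using h
    have h2 : κ ^ 2 = (κ ^ 2 ^ m) ^ 2 := by
      have := congrArg (fun x => (κ ^ 2 ^ m) ^ (2 : ℤ) * x) h1
      simp only [← mul_assoc, mul_one] at this
      rw [← zpow_add, show (2 : ℤ) + -2 = 0 from rfl, zpow_zero, one_mul] at this
      exact_mod_cast this
    have h3 : (κ ^ 2 ^ m * κ⁻¹) ^ 2 = 1 := by
      rw [mul_pow, ← h2, inv_pow, mul_inv_cancel]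
    have h4 := sq_eq_one hK _ h3
    exact mul_inv_eq_one.mp h4
  · rw [chi_pr, cartanTab.2.2.2.2.2.2.2.2.1, cartanTab.2.2.2.2.2.2.2.2.2.1, cartanTab.2.2.2.2.2.2.2.2.2.2.1,
      cartanTab.2.2.2.2.2.2.2.2.2.2.2]
    intro h
    apply hκ
    apply theta_eq_one hK
    apply sq_eq_one hK
    have h1 : (κ ^ 2 ^ m) ^ (2 : ℤ) = 1 := by simpa using h
    exact_mod_cast h1

include hK in
/-- The conjugate of a word over the negative roots of a class by the distinguished element lies in the fixed subgroup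
of the cell subgroup. -/
theorem conj_neg_mem (a : ℕ) (ha : a < 2) (P : ℕ → Prop) (hP : ∀ r, P r → r < chevF4.nroots)
    (hPQ : ∀ r, P r → SNeg chevF4 lit (lit'.sPerm wf' a) (lit'.r a r))
    (w : List (ℕ × K)) (hw : ∀ p ∈ w, P p.1 ∨ p.2 = 0) (hwG : wordGL dc w ∈ twistedF4 K (2 ^ m)) :
    sgF K a * wordGL dc w * (sgF K a)⁻¹ ∈ Xa K m a := by
  refine ⟨?_, Subgroup.mul_mem _ (Subgroup.mul_mem _ (sgF_mem hK a ha) hwG) (Subgroup.inv_mem _ (sgF_mem hK a ha))⟩
  apply conj_rootClosure chevF4 K (hfK K) lit litOK (sgF_act a ha) P _ hP ?_ _ (wordGL_mem_closure P w hw)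
  intro r hr
  rw [lit'.sPerm_val wf' a ha]
  exact hPQ r hr

include hK in
theorem le_commutator (ν : Kˣ) (hν : ν ≠ 1) :
    twistedF4 K (2 ^ m) ≤ ⁅twistedF4 K (2 ^ m), twistedF4 K (2 ^ m)⁆ := by
  have h0 := X0_le hK ν hν
  have h1 := X1_le hK ν hν
  intro g hg
  have hg' := hg
  unfold twistedF4 ChevalleyDatum.genSubgroup at hg'
  induction hg' using Subgroup.closure_induction with
  | mem g hgen =>
    obtain ⟨w, hwS, hgw⟩ := hgen
    have hgG : g ∈ twistedF4 K (2 ^ m) := Subgroup.subset_closure ⟨w, hwS, hgw⟩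
    have e : g = wordGL dc w := Units.ext (hgw.trans (wordGL_coe dc w).symm)
    rw [e] at hgG ⊢
    rcases hwS with ⟨t, hw | hw⟩ | ⟨t, u, hw | hw⟩
    · apply h0
      refine ⟨?_, hgG⟩
      rw [hw]
      apply wordGL_mem_closure
      intro p hp
      unfold f4PairWord f4p1 f4p4 at hp
      simp only [List.mem_cons, List.not_mem_nil, or_false] at hp
      rcases hp with rfl | rfl
      · exact Or.inl sNeg0.1
      · exact Or.inl sNeg0.2
    · have h2 := conj_neg_mem hK 0 (by decide) (fun r => r = 14 ∨ r = 23)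
        (by rintro r (rfl | rfl) <;> decide)
        (by
          rintro r (rfl | rfl)
          · rw [negTab.1]; exact sNeg0.1
          · rw [negTab.2.1]; exact sNeg0.2) w
        (by
          intro p hp
          rw [hw] at hp
          unfold f4PairWord f4m1 f4m4 at hp
          simp only [List.mem_cons, List.not_mem_nil, or_false] at hp
          rcases hp with rfl | rfl
          · exact Or.inl (Or.inl rfl)
          · exact Or.inl (Or.inr rfl)) hgG
      have h3 := Cfsg.Agent.Lib.Helper36_TwistPerf.conj_mem_commutator (twistedF4 K (2 ^ m)) (sgF K 0) _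
        (sgF_mem hK 0 (by decide)) (h0 h2)
      have e2 : wordGL dc w = (sgF K 0)⁻¹ * (sgF K 0 * wordGL dc w * (sgF K 0)⁻¹) * sgF K 0 := by group
      rw [e2]
      exact h3
    · apply h1
      refine ⟨?_, hgG⟩
      rw [hw]
      apply wordGL_mem_closure
      intro p hp
      unfold b2ClassWord f4a f4b f4ab f4aab at hp
      simp only [List.mem_cons, List.not_mem_nil, or_false] at hp
      rcases hp with rfl | rfl | rfl | rfl
      · exact Or.inl sNeg1.1
      · exact Or.inl sNeg1.2.1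
      · exact Or.inl sNeg1.2.2.1
      · exact Or.inl sNeg1.2.2.2
    · have h2 := conj_neg_mem hK 1 (by decide) (fun r => r = 20 ∨ r = 22 ∨ r = 19 ∨ r = 17)
        (by rintro r (rfl | rfl | rfl | rfl) <;> decide)
        (by
          rintro r (rfl | rfl | rfl | rfl)
          · rw [negTab.2.2.1]; exact sNeg1.1
          · rw [negTab.2.2.2.1]; exact sNeg1.2.1
          · rw [negTab.2.2.2.2.1]; exact sNeg1.2.2.1
          · rw [negTab.2.2.2.2.2]; exact sNeg1.2.2.2) w
        (by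
          intro p hp
          rw [hw] at hp
          unfold b2ClassWord f4ma f4mb f4mab f4maab at hp
          simp only [List.mem_cons, List.not_mem_nil, or_false] at hp
          rcases hp with rfl | rfl | rfl | rfl
          · exact Or.inl (Or.inl rfl)
          · exact Or.inl (Or.inr (Or.inl rfl))
          · exact Or.inl (Or.inr (Or.inr (Or.inl rfl)))
          · exact Or.inl (Or.inr (Or.inr (Or.inr rfl)))) hgG
      have h3 := Cfsg.Agent.Lib.Helper36_TwistPerf.conj_mem_commutator (twistedF4 K (2 ^ m)) (sgF K 1) _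
        (sgF_mem hK 1 (by decide)) (h1 h2)
      have e2 : wordGL dc w = (sgF K 1)⁻¹ * (sgF K 1 * wordGL dc w * (sgF K 1)⁻¹) * sgF K 1 := by group
      rw [e2]
      exact h3
  | one => exact Subgroup.one_mem _
  | mul a b _ _ iha ihb => exact Subgroup.mul_mem _ (iha (by assumption)) (ihb (by assumption))
  | inv a _ iha => exact Subgroup.inv_mem _ (iha (by assumption))

include hK in
/-- There is a unit other than `1`, if the field has more than two elements. -/
theorem exists_unit (hm : 1 ≤ m) : ∃ ν : Kˣ, ν ≠ 1 := by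
  by_contra hcon
  push_neg at hcon
  haveI : Subsingleton Kˣ := ⟨fun a b => (hcon a).trans (hcon b).symm⟩
  have h1 : Nat.card Kˣ ≤ 1 := Finite.card_le_one_iff_subsingleton.mpr inferInstance
  have h3 : Nat.card Kˣ = 2 ^ (2 * m + 1) - 1 := by
    rw [Nat.card_units, Nat.card_eq_fintype_card, hK]
  have h5 : (2 : ℕ) ^ 3 ≤ 2 ^ (2 * m + 1) := Nat.pow_le_pow_right (by norm_num) (by omega)
  rw [h3] at h1
  omega

include hK in
/-- The twisted group is perfect, if the field has more than two elements. -/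
theorem perfect (hm : 1 ≤ m) : commutator ↥(twistedF4 K (2 ^ m)) = ⊤ := by
  obtain ⟨ν, hν⟩ := exists_unit hK hm
  have heq : ⁅twistedF4 K (2 ^ m), twistedF4 K (2 ^ m)⁆ = twistedF4 K (2 ^ m) :=
    le_antisymm (Subgroup.commutator_le_self _) (le_commutator hK ν hν)
  apply Subgroup.map_injective (twistedF4 K (2 ^ m)).subtype_injective
  rw [Subgroup.map_subtype_commutator, heq, ← MonoidHom.range_eq_map, Subgroup.range_subtype]

end main

end Cfsg.Agent.Lib.Helper36_F4Perf
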