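import Cfsg.Agent.Lib.Helper36_TwistGen

set_option autoImplicit false

/-!
The fixed elements of the cell subgroups of a twisting endomorphism: if `x = w x'` in the group of the fixed elements of
the Weyl group with the lengths adding up, the fixed elements of `U_x` are the products of those of `U_x'` and of a
conjugate of `U_w`, uniquely.
-/

namespace Cfsg.Agent.Lib.Helper36_TwistCell

open Cfsg Cfsg.Lie Cfsg.Agent.Lib.Helper36_ChevCoeff Cfsg.Agent.Lib.Helper36_ChevAdd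
  Cfsg.Agent.Lib.Helper36_ChevWeyl Cfsg.Agent.Lib.Helper36_ChevGen Cfsg.Agent.Lib.Helper36_ChevTables
  Cfsg.Agent.Lib.Helper36_ChevTorus Cfsg.Agent.Lib.Helper36_ChevBorel Cfsg.Agent.Lib.Helper36_ChevW0
  Cfsg.Agent.Lib.Helper36_ChevCore Cfsg.Agent.Lib.Helper36_ChevCommU Cfsg.Agent.Lib.Helper36_WeylChain
  Cfsg.Agent.Lib.Helper36_WeylLit Cfsg.Agent.Lib.Helper36_WeylLit.RootLit Cfsg.Agent.Lib.Helper36_ChevOrder
  Cfsg.Agent.Lib.Helper36_TwistGen

variable {D : ChevalleyDatum} {K : Type*} [Field K]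

theorem perm_apply_inv {α : Type*} (f : Equiv.Perm α) (x : α) : f (f⁻¹ x) = x := f.apply_symm_apply x

theorem perm_inv_apply {α : Type*} (f : Equiv.Perm α) (x : α) : f⁻¹ (f x) = x := f.symm_apply_apply x

/-- The combinatorial condition of a step `x = w x'` with the lengths adding up. -/
structure CellStep (L : RootLit) (x' w : Equiv.Perm (Fin L.n)) : Prop where
  h1 : ∀ r : Fin L.n, L.ps r = true → L.ps (x' r) = false → L.ps (w (x' r)) = false
  h2 : ∀ r : Fin L.n, L.ps (x' r) = true → L.ps (w (x' r)) = false → L.ps r = true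

section count

variable (D) (L : RootLit) (hl : LitOK D L)

include hl in
theorem sNeg_iff (σ : Equiv.Perm (Fin L.n)) (r : Fin L.n) :
    SNeg D L σ r ↔ L.ps r = true ∧ L.ps (σ r) = false := by
  unfold SNeg
  constructor
  · rintro ⟨hr, _, hneg⟩
    exact ⟨(hl.hpos r (hl.hn ▸ r.2)).mpr hr, hneg⟩
  · rintro ⟨hr, hneg⟩
    exact ⟨(hl.hpos r (hl.hn ▸ r.2)).mp hr, r.2, hneg⟩

include hl in
open scoped Classical in
/-- The numbers of the roots made negative add up. -/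
theorem card_step {x' w : Equiv.Perm (Fin L.n)} (hs : CellStep L x' w) :
    Fintype.card {r : Fin L.n // SNeg D L (w * x') r} =
      Fintype.card {r : Fin L.n // SNeg D L x' r} + Fintype.card {r : Fin L.n // SNeg D L w r} := by
  rw [← Fintype.card_sum]
  symm
  have hA : ∀ r : {r : Fin L.n // SNeg D L x' r}, SNeg D L (w * x') r.1 := by
    intro r
    obtain ⟨h1, h2⟩ := (sNeg_iff D L hl _ r.1).mp r.2
    exact (sNeg_iff D L hl _ r.1).mpr ⟨h1, hs.h1 r.1 h1 h2⟩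
  have hB : ∀ s : {r : Fin L.n // SNeg D L w r}, SNeg D L (w * x') (x'⁻¹ s.1 : Fin L.n) := by
    intro s
    obtain ⟨h1, h2⟩ := (sNeg_iff D L hl _ s.1).mp s.2
    refine (sNeg_iff D L hl _ _).mpr ⟨hs.h2 _ ?_ ?_, ?_⟩
    · rw [perm_apply_inv]; exact h1
    · rw [perm_apply_inv]; exact h2
    · rw [Equiv.Perm.mul_apply, perm_apply_inv]; exact h2
  apply Fintype.card_congr
  refine Equiv.ofBijective (fun s : {r : Fin L.n // SNeg D L x' r} ⊕ {r : Fin L.n // SNeg D L w r} =>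
    (Sum.elim (fun r => (⟨r.1, hA r⟩ : {r : Fin L.n // SNeg D L (w * x') r}))
      (fun s => ⟨x'⁻¹ s.1, hB s⟩) s)) ⟨?_, ?_⟩
  · rintro (r | s) (r' | s') e
    · have e1 : r.1 = r'.1 := congrArg (fun z : {r : Fin L.n // SNeg D L (w * x') r} => z.1) e
      rw [Subtype.ext e1]
    · exfalso
      have e1 : r.1 = x'⁻¹ s'.1 := congrArg (fun z : {r : Fin L.n // SNeg D L (w * x') r} => z.1) e
      have h1 := ((sNeg_iff D L hl _ r.1).mp r.2).2
      have h2 := ((sNeg_iff D L hl _ s'.1).mp s'.2).1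
      rw [e1, perm_apply_inv, h2] at h1
      exact Bool.noConfusion h1
    · exfalso
      have e1 : x'⁻¹ s.1 = r'.1 := congrArg (fun z : {r : Fin L.n // SNeg D L (w * x') r} => z.1) e
      have h1 := ((sNeg_iff D L hl _ r'.1).mp r'.2).2
      have h2 := ((sNeg_iff D L hl _ s.1).mp s.2).1
      rw [← e1, perm_apply_inv, h2] at h1
      exact Bool.noConfusion h1
    · have e1 : x'⁻¹ s.1 = x'⁻¹ s'.1 := congrArg (fun z : {r : Fin L.n // SNeg D L (w * x') r} => z.1) e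
      rw [Subtype.ext (x'⁻¹.injective e1)]
  · rintro ⟨r, hr⟩
    obtain ⟨h1, h2⟩ := (sNeg_iff D L hl _ r).mp hr
    rw [Equiv.Perm.mul_apply] at h2
    cases h : L.ps (x' r)
    · exact ⟨Sum.inl ⟨r, (sNeg_iff D L hl _ r).mpr ⟨h1, h⟩⟩, rfl⟩
    · refine ⟨Sum.inr ⟨x' r, (sNeg_iff D L hl _ _).mpr ⟨h, h2⟩⟩, ?_⟩
      apply Subtype.ext
      show x'⁻¹ (x' r) = r
      rw [perm_inv_apply]

end count

section main

variable (hf : Facts D K) {L : RootLit} {hwf : L.WF}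
  {σ : ↥(D.group K) →* ↥(D.group K)} {pi : ℕ → ℕ} {fr : ℕ → K →+* K} {π : Equiv.Perm (Fin L.n)}
  {G1 : Subgroup (GL D.Idx K)} (X : TwGen hf L hwf σ pi fr π G1) (hl : LitOK D L)
  (hUV : D.borelSubgroup K ⊓ D.negUnipotent K = ⊥)

theorem rootClosure_mono (P Q : ℕ → Prop) (h : ∀ r, P r → Q r) : rootClosure D K P ≤ rootClosure D K Q := by
  unfold rootClosure
  apply Subgroup.closure_mono
  rintro g ⟨r, t, hr, hg⟩
  exact ⟨r, t, h r hr, hg⟩

theorem sNeg_le_pos (x : Equiv.Perm (Fin L.n)) : rootClosure D K (SNeg D L x) ≤ D.posUnipotent K :=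
  rootClosure_le_pos D K _ (fun _ hr => hr.1)

include X hl in
/-- The cell subgroup of a fixed element of the Weyl group is stable. -/
theorem sigma_SNeg {x : Equiv.Perm (Fin L.n)} (hfix : π * x * π⁻¹ = x) (g : GL D.Idx K)
    (hg : g ∈ rootClosure D K (SNeg D L x)) : sgm σ g ∈ rootClosure D K (SNeg D L x) := by
  have := sigma_rootClosure hf X _ _ (SNeg_pi hf X hl x) g hg
  rwa [hfix] at this

include X in
/-- An element of `U` lies in the subgroup if and only if it is fixed. -/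
theorem mem_iff_fixed {g : GL D.Idx K} (hg : g ∈ D.posUnipotent K) : g ∈ G1 ↔ sgm σ g = g :=
  ⟨X.G1fix g, X.Ufix g hg⟩

include X hl hUV in
/-- The factorisation of the fixed elements of the cell subgroup of `w x'`. -/
theorem cell_factor [Fintype K] (hord : OrdUnique D K)
    (hUcard : Nat.card (D.posUnipotent K) = Fintype.card K ^ (D.nroots / 2))
    {x' w : Equiv.Perm (Fin L.n)} (hs : CellStep L x' w)
    (hx'fix : π * x' * π⁻¹ = x') (hwfix : π * w * π⁻¹ = w) {n' nw : GL D.Idx K}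
    (hn'G : n' ∈ G1) (hn' : ActsAs D K hf L n' x') (hnw : ActsAs D K hf L nw w) :
    (∀ g ∈ rootClosure D K (SNeg D L (w * x')) ⊓ G1, ∃ a ∈ rootClosure D K (SNeg D L x') ⊓ G1,
      ∃ b ∈ rootClosure D K (SNeg D L w) ⊓ G1, g = a * (n'⁻¹ * b * n')) ∧
    Nat.card ↥(rootClosure D K (SNeg D L (w * x')) ⊓ G1) =
      Nat.card ↥(rootClosure D K (SNeg D L x') ⊓ G1) * Nat.card ↥(rootClosure D K (SNeg D L w) ⊓ G1) := by
  classical
  obtain ⟨hUG, -, -, -⟩ := subgroups_le D K hf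
  have hn'D : n' ∈ D.group K := X.G1le hn'G
  have hσn' : sgm σ n' = n' := X.G1fix n' hn'G
  -- the three subgroups
  have hAC : rootClosure D K (SNeg D L x') ≤ rootClosure D K (SNeg D L (w * x')) := by
    apply rootClosure_mono
    rintro r hr
    have hrn : r < L.n := hr.2.1
    obtain ⟨h1, h2⟩ := (sNeg_iff D L hl x' ⟨r, hrn⟩).mp hr
    exact (sNeg_iff D L hl _ ⟨r, hrn⟩).mpr ⟨h1, hs.h1 _ h1 h2⟩
  have hBC : ∀ b ∈ rootClosure D K (SNeg D L w), n'⁻¹ * b * n' ∈ rootClosure D K (SNeg D L (w * x')) := by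
    intro b hb
    have := conj_rootClosure D K hf L hl (actsAs_inv D K hf L hn') (SNeg D L w) (SNeg D L (w * x'))
      (fun r hr => hr.1.1) ?_ b hb
    · rwa [inv_inv] at this
    · intro s hs'
      obtain ⟨h1, h2⟩ := (sNeg_iff D L hl _ s).mp hs'
      refine (sNeg_iff D L hl _ _).mpr ⟨hs.h2 _ ?_ ?_, ?_⟩
      · rw [perm_apply_inv]; exact h1
      · rw [perm_apply_inv]; exact h2
      · rw [Equiv.Perm.mul_apply, perm_apply_inv]; exact h2
  have hdisj : ∀ a ∈ rootClosure D K (SNeg D L x'), ∀ b ∈ rootClosure D K (SNeg D L w),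
      a = n'⁻¹ * b * n' → a = 1 ∧ b = 1 := by
    intro a ha b hb e
    have hV : n' * a * n'⁻¹ ∈ D.negUnipotent K := by
      rw [negUnipotent_eq]
      apply conj_rootClosure D K hf L hl hn' (SNeg D L x') D.IsNegRoot (fun r hr => hr.1.1) ?_ a ha
      rintro r ⟨-, h, hneg⟩
      exact (hl.hneg _ (hl.hn ▸ (x' r).2)).mp hneg
    have e2 : n' * a * n'⁻¹ = b := by rw [e]; group
    rw [e2] at hV
    have hB : b ∈ D.borelSubgroup K :=
      (le_sup_left : D.posUnipotent K ≤ D.borelSubgroup K) (sNeg_le_pos w hb)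
    have : b ∈ D.borelSubgroup K ⊓ D.negUnipotent K := Subgroup.mem_inf.mpr ⟨hB, hV⟩
    rw [hUV, Subgroup.mem_bot] at this
    refine ⟨?_, this⟩
    rw [e, this]
    group
  have hinj : ∀ a1 ∈ rootClosure D K (SNeg D L x'), ∀ b1 ∈ rootClosure D K (SNeg D L w),
      ∀ a2 ∈ rootClosure D K (SNeg D L x'), ∀ b2 ∈ rootClosure D K (SNeg D L w),
      a1 * (n'⁻¹ * b1 * n') = a2 * (n'⁻¹ * b2 * n') → a1 = a2 ∧ b1 = b2 := by
    intro a1 ha1 b1 hb1 a2 ha2 b2 hb2 e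
    have e1 : a2⁻¹ * a1 = n'⁻¹ * (b2 * b1⁻¹) * n' := by
      have : a2⁻¹ * a1 = a2⁻¹ * (a1 * (n'⁻¹ * b1 * n')) * (n'⁻¹ * b1 * n')⁻¹ := by group
      rw [this, e]
      group
    obtain ⟨h1, h2⟩ := hdisj _ (Subgroup.mul_mem _ (Subgroup.inv_mem _ ha2) ha1) _
      (Subgroup.mul_mem _ hb2 (Subgroup.inv_mem _ hb1)) e1
    exact ⟨(inv_mul_eq_one.mp h1).symm, (mul_inv_eq_one.mp h2).symm⟩
  -- the count of the full subgroups
  have hcA := card_SNeg_closure D K hf L hwf hl hUV hord hUcard hn'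
  have hcB := card_SNeg_closure D K hf L hwf hl hUV hord hUcard hnw
  have hcC := card_SNeg_closure D K hf L hwf hl hUV hord hUcard (actsAs_mul D K hf L hnw hn')
  have hcard : Nat.card ↥(rootClosure D K (SNeg D L x')) * Nat.card ↥(rootClosure D K (SNeg D L w)) =
      Nat.card ↥(rootClosure D K (SNeg D L (w * x'))) := by
    rw [hcA, hcB, hcC, ← card_SNeg D L hl, ← card_SNeg D L hl, ← card_SNeg D L hl, card_step D L hl hs, pow_add]
  -- the product map is onto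
  have hsurj : ∀ g ∈ rootClosure D K (SNeg D L (w * x')), ∃ a ∈ rootClosure D K (SNeg D L x'),
      ∃ b ∈ rootClosure D K (SNeg D L w), g = a * (n'⁻¹ * b * n') := by
    let φ : ↥(rootClosure D K (SNeg D L x')) × ↥(rootClosure D K (SNeg D L w)) →
        ↥(rootClosure D K (SNeg D L (w * x'))) := fun p =>
      ⟨(p.1 : GL D.Idx K) * (n'⁻¹ * (p.2 : GL D.Idx K) * n'),
        Subgroup.mul_mem _ (hAC p.1.2) (hBC _ p.2.2)⟩
    have hφ : Function.Injective φ := by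
      rintro ⟨a1, b1⟩ ⟨a2, b2⟩ e
      have e' : (a1 : GL D.Idx K) * (n'⁻¹ * (b1 : GL D.Idx K) * n') =
          (a2 : GL D.Idx K) * (n'⁻¹ * (b2 : GL D.Idx K) * n') := congrArg Subtype.val e
      obtain ⟨h1, h2⟩ := hinj _ a1.2 _ b1.2 _ a2.2 _ b2.2 e'
      rw [Subtype.ext h1, Subtype.ext h2]
    haveI : Finite ↥(rootClosure D K (SNeg D L (w * x'))) := inferInstance
    have hbij : Function.Bijective φ := by
      rw [Nat.bijective_iff_injective_and_card]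
      refine ⟨hφ, ?_⟩
      rw [Nat.card_prod, hcard]
    intro g hg
    obtain ⟨⟨a, b⟩, e⟩ := hbij.2 ⟨g, hg⟩
    exact ⟨a, a.2, b, b.2, (congrArg Subtype.val e).symm⟩
  -- the fixed elements
  have hfixed : ∀ g ∈ rootClosure D K (SNeg D L (w * x')) ⊓ G1, ∃ a ∈ rootClosure D K (SNeg D L x') ⊓ G1,
      ∃ b ∈ rootClosure D K (SNeg D L w) ⊓ G1, g = a * (n'⁻¹ * b * n') := by
    intro g hg
    obtain ⟨a, ha, b, hb, e⟩ := hsurj g hg.1
    have haD : a ∈ D.group K := hUG (sNeg_le_pos x' ha)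
    have hbD : b ∈ D.group K := hUG (sNeg_le_pos w hb)
    have hcD : n'⁻¹ * b * n' ∈ D.group K :=
      Subgroup.mul_mem _ (Subgroup.mul_mem _ (Subgroup.inv_mem _ hn'D) hbD) hn'D
    have hσg : sgm σ g = g := X.G1fix g hg.2
    have e2 : sgm σ a * (n'⁻¹ * sgm σ b * n') = a * (n'⁻¹ * b * n') := by
      rw [← e, ← hσg, e, sgm_mul σ haD hcD, sgm_mul σ (Subgroup.mul_mem _ (Subgroup.inv_mem _ hn'D) hbD) hn'D,
        sgm_mul σ (Subgroup.inv_mem _ hn'D) hbD, sgm_inv σ hn'D, hσn']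
    obtain ⟨h1, h2⟩ := hinj _ (sigma_SNeg hf X hl hx'fix a ha) _ (sigma_SNeg hf X hl hwfix b hb) _ ha _ hb e2
    exact ⟨a, ⟨ha, X.Ufix a (sNeg_le_pos x' ha) h1⟩, b, ⟨hb, X.Ufix b (sNeg_le_pos w hb) h2⟩, e⟩
  refine ⟨hfixed, ?_⟩
  rw [← Nat.card_prod]
  symm
  apply Nat.card_congr
  refine Equiv.ofBijective (fun p : ↥(rootClosure D K (SNeg D L x') ⊓ G1) × ↥(rootClosure D K (SNeg D L w) ⊓ G1) =>
    (⟨(p.1 : GL D.Idx K) * (n'⁻¹ * (p.2 : GL D.Idx K) * n'),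
      ⟨Subgroup.mul_mem _ (hAC p.1.2.1) (hBC _ p.2.2.1),
        Subgroup.mul_mem _ p.1.2.2 (Subgroup.mul_mem _ (Subgroup.mul_mem _ (Subgroup.inv_mem _ hn'G) p.2.2.2)
          hn'G)⟩⟩ : ↥(rootClosure D K (SNeg D L (w * x')) ⊓ G1))) ⟨?_, ?_⟩
  · rintro ⟨a1, b1⟩ ⟨a2, b2⟩ e
    have e' : (a1 : GL D.Idx K) * (n'⁻¹ * (b1 : GL D.Idx K) * n') =
        (a2 : GL D.Idx K) * (n'⁻¹ * (b2 : GL D.Idx K) * n') := congrArg Subtype.val e
    obtain ⟨h1, h2⟩ := hinj _ a1.2.1 _ b1.2.1 _ a2.2.1 _ b2.2.1 e'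
    rw [Subtype.ext h1, Subtype.ext h2]
  · rintro ⟨g, hg⟩
    obtain ⟨a, ha, b, hb, e⟩ := hfixed g hg
    exact ⟨(⟨a, ha⟩, ⟨b, hb⟩), Subtype.ext e.symm⟩

end main

end Cfsg.Agent.Lib.Helper36_TwistCell
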