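import Cfsg.Agent.Lib.Helper36_F4Setup
import Cfsg.Agent.Lib.Helper36_TwistCell

set_option autoImplicit false
set_option maxRecDepth 100000

/-!
Type `²F₄`: the fixed elements of the cell subgroups of the sixteen fixed elements of the Weyl group, from those of the
two distinguished ones, along the two chains of reduced words.
-/

namespace Cfsg.Agent.Lib.Helper36_F4Cell

open Cfsg Cfsg.Lie
  Cfsg.Agent.Lib.Helper36_ChevTorus Cfsg.Agent.Lib.Helper36_ChevBorel
  Cfsg.Agent.Lib.Helper36_ChevTables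
  Cfsg.Agent.Lib.Helper36_ChevOrder Cfsg.Agent.Lib.Helper36_WeylChain
  Cfsg.Agent.Lib.Helper36_WeylLit Cfsg.Agent.Lib.Helper36_WeylLit.RootLit
  Cfsg.Agent.Lib.Helper36_ChevDataF4Lit Cfsg.Agent.Lib.Helper36_ChevDataF4LitOK
  Cfsg.Agent.Lib.Helper36_TwistGen Cfsg.Agent.Lib.Helper36_TwistWeyl Cfsg.Agent.Lib.Helper36_TwistWeylF4
  Cfsg.Agent.Lib.Helper36_TwistCell Cfsg.Agent.Lib.Helper36_F4Setup

/-- The first chain of reduced words. -/
def chainA : List ℕ := [0, 1, 0, 1, 0, 1, 0, 1]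

/-- The second chain of reduced words. -/
def chainB : List ℕ := [0, 1, 0, 1, 0, 1, 0]

/-- The condition of a step, on the tables. -/
def StepProp (t : List ℕ) : Prop :=
  t ≠ [] → t.headD 0 < 2 ∧ (∀ b ∈ t.tail, b < 2) ∧
    (∀ r < lit.n, lit.ps r = true → lit.ps (evalWord lit' t.tail r) = false →
      lit.ps (lit'.r (t.headD 0) (evalWord lit' t.tail r)) = false) ∧
    (∀ r < lit.n, lit.ps (evalWord lit' t.tail r) = true →
      lit.ps (lit'.r (t.headD 0) (evalWord lit' t.tail r)) = false → lit.ps r = true)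

theorem stepsA : ∀ t ∈ chainA.tails, StepProp t := by
  unfold StepProp
  decide +kernel

theorem stepsB : ∀ t ∈ chainB.tails, StepProp t := by
  unfold StepProp
  decide +kernel

/-- The longest element makes all positive roots negative. -/
theorem w0A : ∀ r < lit.n, lit.ps r = true → lit.ps (evalWord lit' chainA r) = false := by decide +kernel

/-- Reduced words of the sixteen fixed elements of the Weyl group. -/
def words16 : List (List ℕ) :=
  [[], [1], [0, 1], [1, 0, 1], [0, 1, 0, 1], [1, 0, 1, 0, 1], [0, 1, 0, 1, 0, 1], [1, 0, 1, 0, 1, 0, 1], [0, 1, 0, 1, 0, 1, 0, 1], [0], [1, 0], [0, 1, 0], [1, 0, 1, 0], [0, 1, 0, 1, 0], [1, 0, 1, 0, 1, 0], [0, 1, 0, 1, 0, 1, 0]]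

theorem words16_steps : ∀ tw ∈ words16, ∀ t ∈ tw.tails, StepProp t := by
  unfold StepProp
  decide +kernel

theorem words16_lt : ∀ tw ∈ words16, ∀ b ∈ tw, b < 2 := by decide +kernel

theorem words16_closed : ∀ a < 2, ∀ tw ∈ words16, ∃ tw2 ∈ words16,
    ∀ s < lit.n, lit'.r a (evalWord lit' tw s) = evalWord lit' tw2 s := by decide +kernel

theorem words16_distinct : ∀ i < 16, ∀ j < 16,
    (∀ s < lit.n, evalWord lit' (words16.getD i []) s = evalWord lit' (words16.getD j []) s) → i = j := by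
  decide +kernel

/-- Every fixed element of the Weyl group is given by one of the sixteen words. -/
theorem exists_word (x : Equiv.Perm (Fin lit.n)) (hx : x ∈ lit'.W wf' (List.range 2)) :
    ∃ tw ∈ words16, x = lit'.wPerm wf' tw := by
  refine lit'.W_induction wf' (List.range 2) (fun x => ∃ tw ∈ words16, x = lit'.wPerm wf' tw)
    ⟨[], by decide, rfl⟩ ?_ x hx
  rintro a ha y ⟨tw, htw, rfl⟩
  have ha2 : a < 2 := List.mem_range.mp ha
  obtain ⟨tw2, htw2, e⟩ := words16_closed a ha2 tw htw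
  refine ⟨tw2, htw2, ?_⟩
  ext s
  show ((lit'.sPerm wf' a * lit'.wPerm wf' tw) s : ℕ) = _
  rw [Equiv.Perm.mul_apply, lit'.sPerm_val wf' a ha2, wPerm_eval lit' wf' tw (words16_lt tw htw),
    wPerm_eval lit' wf' tw2 (words16_lt tw2 htw2)]
  exact e s s.2

section

variable {K : Type*} [Field K] [Fintype K] {σ : ↥(chevF4.group K) →* ↥(chevF4.group K)} {fr : ℕ → K →+* K}
  {G1 : Subgroup (GL chevF4.Idx K)} (X : TwGen (hfK K) lit wf σ pi fr piPerm G1)
  {sg : ℕ → GL chevF4.Idx K} (hsgG : ∀ a < 2, sg a ∈ G1)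
  (hsgact : ∀ a < 2, ActsAs chevF4 K (hfK K) lit (sg a) (lit'.sPerm wf' a))

/-- The product of the distinguished elements along a word. -/
def nW (sg : ℕ → GL chevF4.Idx K) (tw : List ℕ) : GL chevF4.Idx K := (tw.map sg).prod

omit [Fintype K] in
theorem nW_cons (a : ℕ) (tw : List ℕ) : nW sg (a :: tw) = sg a * nW sg tw := by
  unfold nW
  rw [List.map_cons, List.prod_cons]

omit [Fintype K] in
include hsgact in
theorem nW_acts : ∀ tw : List ℕ, (∀ b ∈ tw, b < 2) →
    ActsAs chevF4 K (hfK K) lit (nW sg tw) (lit'.wPerm wf' tw)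
  | [], _ => by
    show ActsAs chevF4 K (hfK K) lit 1 1
    exact actsAs_one chevF4 K (hfK K) lit
  | a :: tw, h => by
    rw [nW_cons, wPerm_cons]
    exact actsAs_mul chevF4 K (hfK K) lit (hsgact a (h a List.mem_cons_self))
      (nW_acts tw (fun b hb => h b (List.mem_cons_of_mem _ hb)))

omit [Fintype K] in
theorem nW_mem (T : Subgroup (GL chevF4.Idx K)) (hT : ∀ a < 2, sg a ∈ T) : ∀ tw : List ℕ, (∀ b ∈ tw, b < 2) →
    nW sg tw ∈ T
  | [], _ => T.one_mem
  | a :: tw, h => by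
    rw [nW_cons]
    exact T.mul_mem (hT a (h a List.mem_cons_self)) (nW_mem T hT tw (fun b hb => h b (List.mem_cons_of_mem _ hb)))

theorem wPerm_mem_W1 (tw : List ℕ) (h : ∀ b ∈ tw, b < 2) : lit'.wPerm wf' tw ∈ lit'.W wf' (List.range 2) :=
  lit'.wPerm_mem wf' _ _ (fun b hb => List.mem_range.mpr (h b hb))

theorem wPerm_fix (tw : List ℕ) (h : ∀ b ∈ tw, b < 2) :
    piPerm * lit'.wPerm wf' tw * piPerm⁻¹ = lit'.wPerm wf' tw :=
  W1_comm refl' 2 wf' piOK' _ (wPerm_mem_W1 tw h)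

/-- The condition of a step, from the tables. -/
theorem cellStep_of (a : ℕ) (tw : List ℕ) (h : StepProp (a :: tw)) :
    CellStep lit (lit'.wPerm wf' tw) (lit'.sPerm wf' a) := by
  obtain ⟨ha, htw, h1, h2⟩ := h (List.cons_ne_nil _ _)
  have ha2 : a < 2 := ha
  have hev : ∀ r : Fin lit.n, ((lit'.wPerm wf' tw r : Fin lit.n) : ℕ) = evalWord lit' tw r :=
    fun r => wPerm_eval lit' wf' tw htw r
  have hsv : ∀ s : Fin lit.n, ((lit'.sPerm wf' a s : Fin lit.n) : ℕ) = lit'.r a s :=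
    fun s => lit'.sPerm_val wf' a ha2 s
  constructor
  · intro r hr hneg
    rw [hsv, hev]
    rw [hev] at hneg
    exact h1 r r.2 hr hneg
  · intro r hpos hneg
    rw [hsv, hev] at hneg
    rw [hev] at hpos
    exact h2 r r.2 hpos hneg

variable (P : Subgroup (GL chevF4.Idx K)) (hsgP : ∀ a < 2, sg a ∈ P) (sz : ℕ → ℕ)
  (hbase : ∀ a < 2, (∀ g ∈ rootClosure chevF4 K (SNeg chevF4 lit (lit'.sPerm wf' a)) ⊓ G1, g ∈ P) ∧
    Nat.card ↥(rootClosure chevF4 K (SNeg chevF4 lit (lit'.sPerm wf' a)) ⊓ G1) = sz a)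

include X hsgG hsgact hsgP hbase in
/-- The fixed elements of the cell subgroups along a chain. -/
theorem cell_chain : ∀ tw : List ℕ, (∀ t ∈ tw.tails, StepProp t) →
    (∀ g ∈ rootClosure chevF4 K (SNeg chevF4 lit (lit'.wPerm wf' tw)) ⊓ G1, g ∈ P) ∧
      Nat.card ↥(rootClosure chevF4 K (SNeg chevF4 lit (lit'.wPerm wf' tw)) ⊓ G1) = (tw.map sz).prod
  | [], _ => by
    have hbot : rootClosure chevF4 K (SNeg chevF4 lit (lit'.wPerm wf' [])) = ⊥ := by
      rw [eq_bot_iff]
      unfold rootClosure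
      rw [Subgroup.closure_le]
      rintro g ⟨r, t, ⟨hp, hr, hneg⟩, -⟩
      exfalso
      rw [wPerm_nil] at hneg
      have hpos : lit.ps r = true := (litOK.hpos r (litOK.hn ▸ hr)).mpr hp
      rw [Equiv.Perm.one_apply] at hneg
      rw [hpos] at hneg
      exact Bool.noConfusion hneg
    rw [hbot, bot_inf_eq]
    refine ⟨fun g hg => ?_, ?_⟩
    · rw [Subgroup.mem_bot.mp hg]
      exact P.one_mem
    · rw [Subgroup.card_bot]
      rfl
  | a :: tw, h => by
    have hstep : StepProp (a :: tw) := h _ (by rw [List.tails_cons]; exact List.mem_cons_self)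
    obtain ⟨ha, htw, -, -⟩ := hstep (List.cons_ne_nil _ _)
    have ha2 : a < 2 := ha
    have htw2 : ∀ b ∈ tw, b < 2 := htw
    obtain ⟨ih1, ih2⟩ := cell_chain tw (fun t ht => h t (by rw [List.tails_cons]; exact List.mem_cons_of_mem _ ht))
    obtain ⟨hb1, hb2⟩ := hbase a ha2
    obtain ⟨hf1, hf2⟩ := cell_factor (hfK K) X litOK (hUV K) (hord K) (hUcard K) (cellStep_of a tw hstep)
      (wPerm_fix tw htw2) (wPerm_fix [a] (by simpa using ha2) |> fun e => by
        rwa [wPerm_cons, wPerm_nil, mul_one] at e)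
      (nW_mem G1 hsgG tw htw2) (nW_acts hsgact tw htw2) (hsgact a ha2)
    rw [wPerm_cons]
    refine ⟨?_, ?_⟩
    · intro g hg
      obtain ⟨a', ha', b, hb, rfl⟩ := hf1 g hg
      have hnP := nW_mem P hsgP tw htw2
      exact P.mul_mem (ih1 a' ha') (P.mul_mem (P.mul_mem (P.inv_mem hnP) (hb1 b hb)) hnP)
    · rw [hf2, ih2, hb2, List.map_cons, List.prod_cons, mul_comm]

end

end Cfsg.Agent.Lib.Helper36_F4Cell
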