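import Cfsg.Agent.Lib.Helper36_TwistAbs
import Cfsg.Agent.Lib.Helper36_TwistOrder

set_option autoImplicit false

/-!
The order of a group of fixed elements of a Chevalley group from the abstract form of the normal form of its elements.
-/

namespace Cfsg.Agent.Lib.Helper36_TwistAbsOrder

open Cfsg Cfsg.Lie Cfsg.Agent.Lib.Helper36_ChevCoeff Cfsg.Agent.Lib.Helper36_ChevAdd
  Cfsg.Agent.Lib.Helper36_ChevWeyl Cfsg.Agent.Lib.Helper36_ChevGen Cfsg.Agent.Lib.Helper36_ChevTables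
  Cfsg.Agent.Lib.Helper36_ChevTorus Cfsg.Agent.Lib.Helper36_ChevBorel Cfsg.Agent.Lib.Helper36_ChevW0
  Cfsg.Agent.Lib.Helper36_ChevCore Cfsg.Agent.Lib.Helper36_ChevCommU Cfsg.Agent.Lib.Helper36_WeylChain
  Cfsg.Agent.Lib.Helper36_WeylLit Cfsg.Agent.Lib.Helper36_WeylLit.RootLit Cfsg.Agent.Lib.Helper36_ChevOrder
  Cfsg.Agent.Lib.Helper36_TwistU Cfsg.Agent.Lib.Helper36_TwistW
  Cfsg.Agent.Lib.Helper36_TwistWeyl Cfsg.Agent.Lib.Helper36_TwistBN Cfsg.Agent.Lib.Helper36_TwistAbs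

section

variable {D : ChevalleyDatum} {K : Type*} [Field K] (hf : Facts D K) {L : RootLit} {hwf : L.WF}
  {π : Equiv.Perm (Fin L.n)} {W1 : Subgroup (Equiv.Perm (Fin L.n))} {G1 : Subgroup (GL D.Idx K)}
  (A : TwAbs hf L hwf π W1 G1) (hl : LitOK D L)
  (hchain : ChainOK D) (hx : XInj D K) (hU : BruhatU D K)
  (hUH : D.posUnipotent K ⊓ D.diagonalSubgroup K = ⊥)

/-- A representative in the subgroup of an element of the subgroup of the Weyl group. -/
noncomputable def arep (x : W1) : GL D.Idx K := Classical.choose (A.W1rep x.1 x.2)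

theorem arep_mem (x : W1) : arep hf A x ∈ D.monomialSubgroup K := (Classical.choose_spec (A.W1rep x.1 x.2)).1

theorem arep_mem' (x : W1) : arep hf A x ∈ G1 := (Classical.choose_spec (A.W1rep x.1 x.2)).2.1

theorem arep_acts (x : W1) : ActsAs D K hf L (arep hf A x) x.1 := (Classical.choose_spec (A.W1rep x.1 x.2)).2.2

/-- The parametrisation of the subgroup by the normal form. -/
noncomputable def aparam
    (a : Σ x : W1, (↥(D.posUnipotent K ⊓ G1) × ↥(D.diagonalSubgroup K ⊓ G1)) × ↥(Um D K (arep hf A x) ⊓ G1)) : G1 :=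
  ⟨(a.2.1.1 : GL D.Idx K) * (a.2.1.2 : GL D.Idx K) * arep hf A a.1 * (a.2.2 : GL D.Idx K),
    G1.mul_mem (G1.mul_mem (G1.mul_mem a.2.1.1.2.2 a.2.1.2.2.2) (arep_mem' hf A a.1)) a.2.2.2.2⟩

include hl hchain hx hU hUH in
theorem aparam_bijective : Function.Bijective (aparam hf A) := by
  constructor
  · rintro ⟨x, ⟨u0, h0⟩, u⟩ ⟨x', ⟨u0', h0'⟩, u'⟩ e
    have e1 : (u0 : GL D.Idx K) * (h0 : GL D.Idx K) * arep hf A x * (u : GL D.Idx K) =
        (u0' : GL D.Idx K) * (h0' : GL D.Idx K) * arep hf A x' * (u' : GL D.Idx K) := congrArg Subtype.val e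
    have hb : (u0 : GL D.Idx K) * (h0 : GL D.Idx K) ∈ D.borelSubgroup K :=
      (D.borelSubgroup K).mul_mem ((le_sup_left : D.posUnipotent K ≤ D.borelSubgroup K) u0.2.1)
        ((le_sup_right : D.diagonalSubgroup K ≤ D.borelSubgroup K) h0.2.1)
    have hb' : (u0' : GL D.Idx K) * (h0' : GL D.Idx K) ∈ D.borelSubgroup K :=
      (D.borelSubgroup K).mul_mem ((le_sup_left : D.posUnipotent K ≤ D.borelSubgroup K) u0'.2.1)
        ((le_sup_right : D.diagonalSubgroup K ≤ D.borelSubgroup K) h0'.2.1)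
    obtain ⟨h1, h2⟩ := hU _ _ _ _ _ _ hb hb' (arep_mem hf A x) (arep_mem hf A x') u.2.1 u'.2.1 e1
    have ha : ActsAs D K hf L ((arep hf A x)⁻¹ * arep hf A x') (x.1⁻¹ * x'.1) :=
      actsAs_mul D K hf L (actsAs_inv D K hf L (arep_acts hf A x)) (arep_acts hf A x')
    have hd := actsAs_diag D K hf L hchain hl _ h1
    have hxx : x.1⁻¹ * x'.1 = 1 := actsAs_unique D K hf L hl hx ha hd
    have hxx' : x = x' := Subtype.ext (inv_mul_eq_one.mp hxx)
    subst hxx'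
    obtain ⟨h3, h4⟩ := h2 rfl
    have h5 := @Subgroup.mul_injective_of_disjoint _ _ (D.posUnipotent K) (D.diagonalSubgroup K)
      (disjoint_iff.mpr hUH) (⟨u0.1, u0.2.1⟩, ⟨h0.1, h0.2.1⟩) (⟨u0'.1, u0'.2.1⟩, ⟨h0'.1, h0'.2.1⟩) h3
    have h6 : (u0 : GL D.Idx K) = u0' :=
      congrArg (fun z : ↥(D.posUnipotent K) × ↥(D.diagonalSubgroup K) => (z.1 : GL D.Idx K)) h5
    have h7 : (h0 : GL D.Idx K) = h0' :=
      congrArg (fun z : ↥(D.posUnipotent K) × ↥(D.diagonalSubgroup K) => (z.2 : GL D.Idx K)) h5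
    have : u0 = u0' := Subtype.ext h6
    have : h0 = h0' := Subtype.ext h7
    have : u = u' := Subtype.ext h4
    subst_vars
    rfl
  · rintro ⟨g, hg⟩
    obtain ⟨x, hxW, hnf⟩ := A.nf g hg
    obtain ⟨u0, hu0, h0, hh0, u, hu, rfl⟩ := hnf (arep hf A ⟨x, hxW⟩) (arep_mem hf A ⟨x, hxW⟩)
      (arep_mem' hf A ⟨x, hxW⟩) (arep_acts hf A ⟨x, hxW⟩)
    exact ⟨⟨⟨x, hxW⟩, (⟨u0, hu0⟩, ⟨h0, hh0⟩), ⟨u, hu⟩⟩, rfl⟩

include A hl hchain hx hU hUH in
/-- The order of the subgroup from the normal form. -/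
theorem card_abs [Finite K] [Fintype W1] (hUV : D.borelSubgroup K ⊓ D.negUnipotent K = ⊥) (hx1 : XOne D K) :
    Nat.card G1 = Nat.card ↥(D.posUnipotent K ⊓ G1) * Nat.card ↥(D.diagonalSubgroup K ⊓ G1) *
      ∑ x : W1, Nat.card ↥(rootClosure D K (SNeg D L x.1) ⊓ G1) := by
  have hbij := aparam_bijective hf A hl hchain hx hU hUH
  rw [← Nat.card_congr (Equiv.ofBijective _ hbij), Nat.card_sigma]
  have hterm : ∀ x : W1,
      Nat.card ((↥(D.posUnipotent K ⊓ G1) × ↥(D.diagonalSubgroup K ⊓ G1)) × ↥(Um D K (arep hf A x) ⊓ G1)) =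
        Nat.card ↥(D.posUnipotent K ⊓ G1) * Nat.card ↥(D.diagonalSubgroup K ⊓ G1) *
          Nat.card ↥(rootClosure D K (SNeg D L x.1) ⊓ G1) := by
    intro x
    rw [Nat.card_prod, Nat.card_prod, Um_eq D K hf L hl hUV hx1 (arep_acts hf A x)]
  rw [Finset.sum_congr rfl (fun x _ => hterm x), ← Finset.mul_sum]

end

end Cfsg.Agent.Lib.Helper36_TwistAbsOrder
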