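import Cfsg.Agent.Lib.Helper18_TwistF4C

set_option autoImplicit false

/-!
The twisted groups of type `²F₄`, fourth part: the order of the unipotent subgroup `U ⊓ G¹` of the twisted group.
-/

namespace Cfsg.Agent.Lib.Helper18_TwistF4D

open Cfsg Cfsg.Lie Cfsg.Agent.Lib.Helper18_ChevFast Cfsg.Agent.Lib.Helper18_ChevEngine
  Cfsg.Agent.Lib.Helper18_ChevN Cfsg.Agent.Lib.Helper18_ChevWeyl Cfsg.Agent.Lib.Helper18_ChevGL
  Cfsg.Agent.Lib.Helper18_ChevComm Cfsg.Agent.Lib.Helper18_ChevUni Cfsg.Agent.Lib.Helper18_ChevSimp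
  Cfsg.Agent.Lib.Helper18_ChevAutC Cfsg.Agent.Lib.Helper18_ChevAutJ Cfsg.Agent.Lib.Helper18_TwistA
  Cfsg.Agent.Lib.Helper18_ChevAdd Cfsg.Agent.Lib.Helper18_ChevTorus Cfsg.Agent.Lib.Helper18_ChevTri
  Cfsg.Agent.Lib.Helper18_TwistB Cfsg.Agent.Lib.Helper18_TwistC Cfsg.Agent.Lib.Helper18_TwistD
  Cfsg.Agent.Lib.Helper18_TwistF4A Cfsg.Agent.Lib.Helper18_TwistF4B Cfsg.Agent.Lib.Helper18_TwistF4C

variable {Ns : List NData} {K : Type*} [Field K] [Fintype K] {m : ℕ}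
variable {wl : List ℤ} {ws : List (List ℤ)} {sc : ℤ}

/-- The parameters of the element of `U ⊓ G¹` with given parameters on the long positive roots. -/
def parF4 (m : ℕ) (s : Fin 12 → K) (r : ℕ) : K :=
  match r with
  | 24 => s 0
  | 33 => s 0 ^ 2 ^ m
  | 25 => s 1
  | 30 => s 2
  | 27 => s 1 ^ 2 ^ m
  | 28 => s 1 ^ (2 ^ m + 1) + s 2 ^ 2 ^ m
  | 26 => s 3
  | 42 => s 4
  | 34 => s 3 ^ 2 ^ m
  | 36 => s 3 ^ (2 ^ m + 1) + s 4 ^ 2 ^ m
  | 32 => s 5
  | 37 => s 5 ^ 2 ^ m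
  | 43 => s 6
  | 38 => s 6 ^ 2 ^ m
  | 31 => s 7
  | 46 => s 8
  | 35 => s 7 ^ 2 ^ m
  | 40 => s 7 ^ (2 ^ m + 1) + s 8 ^ 2 ^ m
  | 41 => s 9
  | 47 => s 10
  | 29 => s 9 ^ 2 ^ m
  | 44 => s 9 ^ (2 ^ m + 1) + s 10 ^ 2 ^ m
  | 45 => s 11
  | 39 => s 11 ^ 2 ^ m
  | _ => 0

/-- The parameters on the long positive roots. -/
def longF4 (t : ℕ → K) : Fin 12 → K :=
  ![t 24, t 25, t 30, t 26, t 42, t 32, t 43, t 31, t 46, t 41, t 47, t 45]

omit [Fintype K] in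
theorem allOK_parF4 (s : Fin 12 → K) : AllOK m (parF4 m s) :=
  ⟨rfl, ⟨rfl, rfl⟩, ⟨rfl, rfl⟩, rfl, rfl, ⟨rfl, rfl⟩, ⟨rfl, rfl⟩, rfl⟩

omit [Fintype K] in
theorem eq_parF4 (t : ℕ → K) (h : AllOK m t) : ∀ r ∈ LF4, t r = parF4 m (longF4 t) r := by
  obtain ⟨h0, ⟨h1, h1'⟩, ⟨h2, h2'⟩, h3, h4, ⟨h5, h5'⟩, ⟨h6, h6'⟩, h7⟩ := h
  intro r hr
  unfold LF4 at hr
  simp only [List.mem_cons, List.not_mem_nil, or_false] at hr
  rcases hr with rfl | rfl | rfl | rfl | rfl | rfl | rfl | rfl | rfl | rfl | rfl | rfl | rfl | rfl | rfl | rfl |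
    rfl | rfl | rfl | rfl | rfl | rfl | rfl | rfl
  · exact h0
  · rfl
  · exact h1
  · rfl
  · exact h1'
  · rfl
  · exact h2
  · rfl
  · exact h2'
  · rfl
  · exact h3
  · rfl
  · exact h4
  · rfl
  · exact h5
  · rfl
  · exact h5'
  · rfl
  · exact h6
  · rfl
  · exact h6'
  · rfl
  · exact h7
  · rfl

omit [Fintype K] in
theorem parF4_injective (s s' : Fin 12 → K) (h : ∀ r ∈ LF4, parF4 m s r = parF4 m s' r) : s = s' := by
  funext i
  fin_cases i
  · exact h 24 (by decide)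
  · exact h 25 (by decide)
  · exact h 30 (by decide)
  · exact h 26 (by decide)
  · exact h 42 (by decide)
  · exact h 32 (by decide)
  · exact h 43 (by decide)
  · exact h 31 (by decide)
  · exact h 46 (by decide)
  · exact h 41 (by decide)
  · exact h 47 (by decide)
  · exact h 45 (by decide)

section

variable (c : DCert chevF4 Ns) (tc : TCert chevF4) (ac : ACert chevF4 wl ws sc) (hR2 : R2All chevF4 K) [CharP K 2]
  (hK : Fintype.card K = 2 ^ (2 * m + 1)) {σ : MulAut ↥(chevF4.group K)} (X : Tw2 c σ pF4 (eF4 m))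

include tc ac hR2 hK X in
/-- The order of the unipotent subgroup of the twisted group. -/
theorem card_U1 : Nat.card ↥(chevF4.posUnipotent K ⊓ twistedF4 K (2 ^ m)) = (2 ^ (2 * m + 1)) ^ 12 := by
  let Ψ : (Fin 12 → K) → ↥(chevF4.posUnipotent K ⊓ twistedF4 K (2 ^ m)) := fun s =>
    ⟨wordGL c (LF4.map fun r => (r, parF4 m s r)), by
      refine ⟨?_, mem_of_ok c hR2 hK X _ (allOK_parF4 s)⟩
      apply wordGL_mem_posUnipotent
      intro p hp
      rw [List.mem_map] at hp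
      obtain ⟨r, hr, rfl⟩ := hp
      exact (LF4_pos r).mp hr⟩
  have hinj : Function.Injective Ψ := by
    intro s s' h
    have h1 : wordGL c (LF4.map fun r => (r, parF4 m s r)) = wordGL c (LF4.map fun r => (r, parF4 m s' r)) :=
      congrArg Subtype.val h
    have h2 := congrArg (fun g : GL chevF4.Idx K => (g : Matrix chevF4.Idx chevF4.Idx K)) h1
    simp only [wordGL_coe] at h2
    exact parF4_injective s s' (unique_word c tc ac LF4 LF4_nodup (fun s hs => (LF4_pos s).mp hs) _ _ h2)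
  have hsurj : Function.Surjective Ψ := by
    rintro ⟨g, hgU, hgG⟩
    obtain ⟨t, rfl⟩ := exists_word_of_perm c tc ac hR2 LF4 LF4_nodup LF4_pos g hgU
    have hfix : σ (wordG c (LF4.map fun r => (r, t r))) = wordG c (LF4.map fun r => (r, t r)) :=
      fixed_of_mem c hR2 hK X _ (by rw [wordG_coe]; exact hgG)
    have hok := ok_of_fixed c tc ac hR2 hK X t hfix
    refine ⟨longF4 t, Subtype.ext ?_⟩
    show wordGL c (LF4.map fun r => (r, parF4 m (longF4 t) r)) = wordGL c (LF4.map fun r => (r, t r))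
    congr 1
    apply List.map_congr_left
    intro r hr
    rw [eq_parF4 t hok r hr]
  rw [← Nat.card_congr (Equiv.ofBijective Ψ ⟨hinj, hsurj⟩), Nat.card_fun, Nat.card_eq_fintype_card,
    Nat.card_eq_fintype_card, Fintype.card_fin, hK]

end

end Cfsg.Agent.Lib.Helper18_TwistF4D
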