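import Cfsg.Agent.Lib.Helper18_TwistF4E
import Cfsg.Agent.Lib.Helper36_TwistH
import Cfsg.Agent.Lib.Helper36_ChevDataF4HO

set_option autoImplicit false

/-!
The twisted groups of type `²F₄`, sixth part: the fixed elements of the twisting automorphism in the diagonal subgroup
`H` lie in the twisted group, and `H ⊓ G¹` has order `(q - 1)²`.
-/

namespace Cfsg.Agent.Lib.Helper18_TwistF4H

open Cfsg Cfsg.Lie Cfsg.Agent.Lib.Helper18_ChevFast Cfsg.Agent.Lib.Helper18_ChevEngine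
  Cfsg.Agent.Lib.Helper18_ChevN Cfsg.Agent.Lib.Helper18_ChevWeyl
  Cfsg.Agent.Lib.Helper18_ChevGL Cfsg.Agent.Lib.Helper18_ChevTri Cfsg.Agent.Lib.Helper18_ChevBN
  Cfsg.Agent.Lib.Helper18_ChevAdd Cfsg.Agent.Lib.Helper18_ChevUni Cfsg.Agent.Lib.Helper18_ChevComm
  Cfsg.Agent.Lib.Helper18_ChevAutC Cfsg.Agent.Lib.Helper18_ChevAutJ Cfsg.Agent.Lib.Helper18_TwistA
  Cfsg.Agent.Lib.Helper18_ChevTorus Cfsg.Agent.Lib.Helper18_ChevDiag Cfsg.Agent.Lib.Helper18_ChevFacts
  Cfsg.Agent.Lib.Helper18_TwistB Cfsg.Agent.Lib.Helper18_TwistD Cfsg.Agent.Lib.Helper18_ChevGraphF4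
  Cfsg.Agent.Lib.Helper18_TwistF4A Cfsg.Agent.Lib.Helper18_TwistF4B Cfsg.Agent.Lib.Helper18_TwistF4C
  Cfsg.Agent.Lib.Helper18_TwistF4E
  Cfsg.Agent.Lib.Helper36_TwistGen Cfsg.Agent.Lib.Helper36_TwistWeyl
  Cfsg.Agent.Lib.Helper36_ChevTorus Cfsg.Agent.Lib.Helper36_ChevTorusAll Cfsg.Agent.Lib.Helper36_ChevHOrder
  Cfsg.Agent.Lib.Helper36_TwistH

/-! ### Elements of `H` as values of the parametrisation -/

section

variable {D : ChevalleyDatum} {Ns : List NData} {K : Type*} [Field K]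

/-- `h_r(a)` as a value of the parametrisation of `H`, for every root `r`. -/
theorem hGL_eq_torusHom (c : DCert D Ns) (tc : TCert D) (r : ℕ) (hr : r < D.nroots) (a : Kˣ) :
    hGL c r (a : K) = torusHom D K (fun j => a ^ cor D r j) := by
  apply Units.ext
  rw [hGL_coe, hMat_all c tc r hr (a : K) a.ne_zero]
  show diagMat D _ = D.charDiag K (chi D K (ext D K _))
  unfold diagMat ChevalleyDatum.charDiag
  congr 1
  funext i
  rcases i with i | s
  · rfl
  · simp only [Sum.elim_inr]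
    unfold chi cartanR
    rw [← Units.val_zpow_eq_zpow_val]
    congr 1
    rw [← Cfsg.Agent.Lib.Helper18_TorusKer.prod_zpow_eq]
    apply Finset.prod_congr rfl
    intro j hj
    unfold ext
    rw [dif_pos (Finset.mem_range.mp hj), ← zpow_mul]

end

/-- The inverse of the Cartan matrix of type `F₄`. -/
def invC : Matrix (Fin chevF4.rank) (Fin chevF4.rank) ℤ := !![2, 3, 4, 2; 3, 6, 8, 4; 2, 4, 6, 3; 1, 2, 3, 2]

theorem invCartan : cartanMat chevF4 * invC = Matrix.diagonal (fun _ => ((1 : ℕ) : ℤ)) := by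
  decide +kernel

section

variable {K : Type*} [Field K]

/-- The parametrisation of `H` is injective for the type `F₄`. -/
theorem torusHom_injective : Function.Injective (torusHom chevF4 K) := by
  rw [injective_iff_map_eq_one]
  intro u hu
  have := ker_exponent (facts_of_mem chevF4 hD K) Cfsg.Agent.Lib.Helper36_ChevDataF4HO.rootInd invC 1 invCartan u
    (MonoidHom.mem_ker.mpr hu)
  rwa [pow_one] at this

end

/-! ### The parametrisation of `H` for the type `F₄` -/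

section

variable {K : Type*} [Field K]

/-- The parametrisation of `H` by four units. -/
def tH (K : Type*) [Field K] : (Fin 4 → Kˣ) →* GL chevF4.Idx K := torusHom chevF4 K

theorem tH_injective : Function.Injective (tH K) := torusHom_injective

theorem tH_single (j : Fin 4) (t : Kˣ) : tH K (Pi.mulSingle j t) = hGL dc (chevF4.simple j) (t : K) :=
  torusHom_single chevF4 K (facts_of_mem chevF4 hD K) dc j t

theorem vec_eq (a b c d : Kˣ) : (![a, b, c, d] : Fin 4 → Kˣ) =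
    Pi.mulSingle 0 a * Pi.mulSingle 1 b * Pi.mulSingle 2 c * Pi.mulSingle 3 d := by
  funext k
  fin_cases k <;> simp

theorem tH_vec (a b c d : Kˣ) :
    tH K ![a, b, c, d] = hGL dc 33 (a : K) * hGL dc 27 (b : K) * hGL dc 25 (c : K) * hGL dc 24 (d : K) := by
  rw [vec_eq, map_mul, map_mul, map_mul, tH_single, tH_single, tH_single, tH_single]
  rfl

theorem s1' : chevF4.simple ((1 : Fin 4) : ℕ) = 27 := by decide

theorem s2' : chevF4.simple ((2 : Fin 4) : ℕ) = 25 := by decide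

theorem tH_mem_diag (u : Fin 4 → Kˣ) : tH K u ∈ chevF4.diagonalSubgroup K := by
  rw [← range_torusHom chevF4 K (facts_of_mem chevF4 hD K)]
  exact ⟨u, rfl⟩

theorem exists_tH (h : GL chevF4.Idx K) (hh : h ∈ chevF4.diagonalSubgroup K) : ∃ u : Fin 4 → Kˣ, h = tH K u := by
  rw [← range_torusHom chevF4 K (facts_of_mem chevF4 hD K)] at hh
  obtain ⟨u, hu⟩ := hh
  exact ⟨u, hu.symm⟩

/-- `h_r(a)` as a value of the parametrisation, for a root with given coroot. -/
theorem hGL_eq_tH (r : ℕ) (hr : r < 48) (a : Kˣ) (e0 e1 e2 e3 : ℤ)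
    (he : cor chevF4 r 0 = e0 ∧ cor chevF4 r 1 = e1 ∧ cor chevF4 r 2 = e2 ∧ cor chevF4 r 3 = e3) :
    hGL dc r (a : K) = tH K ![a ^ e0, a ^ e1, a ^ e2, a ^ e3] := by
  rw [hGL_eq_torusHom dc Cfsg.Agent.Lib.Helper18_ChevTCertF4.tcert r hr a]
  show torusHom chevF4 K _ = torusHom chevF4 K _
  congr 1
  funext k
  fin_cases k
  · exact congrArg (a ^ ·) he.1
  · exact congrArg (a ^ ·) he.2.1
  · exact congrArg (a ^ ·) he.2.2.1
  · exact congrArg (a ^ ·) he.2.2.2

end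

/-! ### The twisting automorphism on `H` -/

set_option maxHeartbeats 0 in
set_option maxRecDepth 100000 in
theorem commCert_a : CommCert chevF4 24 14 := by
  decide +kernel

set_option maxHeartbeats 0 in
set_option maxRecDepth 100000 in
theorem commCert_b : CommCert chevF4 23 33 := by
  decide +kernel

section

variable {K : Type*} [Field K] [CharP K 2] {m : ℕ} {σ : MulAut ↥(chevF4.group K)} (X : Tw2 dc σ pF4 (eF4 m))

include X in
theorem sgm_hGL (r : ℕ) (hr : r < 48) (a : K) :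
    sgm σ.toMonoidHom (hGL dc r a) = hGL dc (pF4 r) (frF4 K m r a) :=
  sgm_hWord X r hr a

/-- The ring endomorphism of a root on the units. -/
noncomputable def frU (K : Type*) [Field K] [CharP K 2] (m r : ℕ) : Kˣ →* Kˣ := Units.map (frF4 K m r : K →* K)

theorem frU_coe (r : ℕ) (a : Kˣ) : ((frU K m r a : Kˣ) : K) = frF4 K m r (a : K) := rfl

theorem frU_long (r : ℕ) (hr : r < 48) (h : lF4 r = 1) (a : Kˣ) : frU K m r a = a ^ 2 ^ m := by
  apply Units.ext
  rw [frU_coe, frF4_apply r hr, Units.val_pow_eq_pow_val]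
  unfold eF4
  have e : lamF4.getD r 1 = lF4 r := rfl
  rw [e, h, mul_one]

theorem frU_short (r : ℕ) (hr : r < 48) (h : lF4 r = 2) (a : Kˣ) : frU K m r a = a ^ (2 ^ m * 2) := by
  apply Units.ext
  rw [frU_coe, frF4_apply r hr, Units.val_pow_eq_pow_val]
  unfold eF4
  have e : lamF4.getD r 1 = lF4 r := rfl
  rw [e, h]

include X in
/-- The image of an element of `H` under the twisting automorphism. -/
theorem sgm_tH (a b c d : Kˣ) : sgm σ.toMonoidHom (tH K ![a, b, c, d]) =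
    tH K ![frU K m 24 d, frU K m 25 c, frU K m 27 b, frU K m 33 a] := by
  have hm : ∀ (r : ℕ) (t : K), hGL dc r t ∈ chevF4.group K := fun r t => wordGL_mem_group dc _
  rw [tH_vec, sgm_mul _ ((chevF4.group K).mul_mem ((chevF4.group K).mul_mem (hm _ _) (hm _ _)) (hm _ _)) (hm _ _),
    sgm_mul _ ((chevF4.group K).mul_mem (hm _ _) (hm _ _)) (hm _ _), sgm_mul _ (hm _ _) (hm _ _),
    sgm_hGL X 33 (by decide), sgm_hGL X 27 (by decide), sgm_hGL X 25 (by decide), sgm_hGL X 24 (by decide)]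
  have e33 : pF4 33 = chevF4.simple (3 : Fin 4) := by decide
  have e27 : pF4 27 = chevF4.simple (2 : Fin 4) := by decide
  have e25 : pF4 25 = chevF4.simple (1 : Fin 4) := by decide
  have e24 : pF4 24 = chevF4.simple (0 : Fin 4) := by decide
  rw [e33, e27, e25, e24, ← frU_coe, ← frU_coe, ← frU_coe, ← frU_coe, ← tH_single, ← tH_single, ← tH_single,
    ← tH_single, ← map_mul, ← map_mul, ← map_mul]
  congr 1
  rw [vec_eq]
  funext k
  fin_cases k <;> simp

include X in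
/-- The parameters of a fixed element of `H`. -/
theorem fixed_tH (a b c d : Kˣ) (h : sgm σ.toMonoidHom (tH K ![a, b, c, d]) = tH K ![a, b, c, d]) :
    a = d ^ 2 ^ m ∧ b = c ^ 2 ^ m := by
  rw [sgm_tH X] at h
  have h1 := tH_injective h
  have h2 := congrFun h1 0
  have h3 := congrFun h1 1
  simp only [Matrix.cons_val_zero, Matrix.cons_val_one] at h2 h3
  rw [frU_long 24 (by decide) (by decide)] at h2
  rw [frU_long 25 (by decide) (by decide)] at h3
  exact ⟨h2.symm, h3.symm⟩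

end

/-! ### The fixed elements of `H` lie in the twisted group -/

theorem coprime_card (m : ℕ) : Nat.Coprime (2 ^ (2 * m + 1) - 1) (2 ^ m * 2 + 2) := by
  have hpos : 1 ≤ 2 ^ (2 * m + 1) := Nat.one_le_two_pow
  rw [← Nat.isCoprime_iff_coprime]
  push_cast [Nat.cast_sub hpos]
  have e : ((2 : ℤ) ^ (2 * m + 1)) = 2 * (2 ^ m) ^ 2 := by ring
  rw [e]
  generalize (2 : ℤ) ^ m = n
  exact ⟨1, -(n - 1), by ring⟩

section

variable {K : Type*} [Field K] [Fintype K] [CharP K 2] {m : ℕ} (hK : Fintype.card K = 2 ^ (2 * m + 1))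
  {σ : MulAut ↥(chevF4.group K)} (X : Tw2 dc σ pF4 (eF4 m))

omit [CharP K 2] in
include hK in
/-- Every unit is a `(2θ + 2)`-th power. -/
theorem exists_pow_eq (s : Kˣ) : ∃ t : Kˣ, t ^ (2 ^ m * 2 + 2) = s := by
  classical
  have hc : Nat.card Kˣ = 2 ^ (2 * m + 1) - 1 := by
    rw [Nat.card_eq_fintype_card, Fintype.card_units, hK]
  have h : (Nat.card Kˣ).Coprime (2 ^ m * 2 + 2) := by
    rw [hc]
    exact coprime_card m
  exact (powCoprime h).surjective s

omit [CharP K 2] in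
include hK in
theorem unit_pow_card (t : Kˣ) : t ^ (2 ^ m * (2 ^ m * 2)) = t := by
  apply Units.ext
  rw [Units.val_pow_eq_pow_val, pow_card_eq hK]

omit [Fintype K] in
/-- `h_{p₁}(t^θ) h_{p₄}(t)` lies in the twisted group. -/
theorem A_mem (t : Kˣ) : tH K ![t ^ 2 ^ m, 1, 1, t] ∈ twistedF4 K (2 ^ m) := by
  have hR2 := Cfsg.Agent.Lib.Helper18_ChevComm2.r2_all dc Cfsg.Agent.Lib.Helper18_ChevPCertF4.pcert (F := K)
  have tc := Cfsg.Agent.Lib.Helper18_ChevTCertF4.tcert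
  have c1 : Comm dc K 24 14 := comm_of_cert dc hR2 commCert_a
  have c2 : Comm dc K 23 33 := comm_of_cert dc hR2 commCert_b
  have c3 : Comm dc K 33 24 := comm_of_cert dc hR2 commCert_pos
  set a : K := (t : K) ^ 2 ^ m with ha
  set b : K := (t : K) with hb
  have hbne : b ≠ 0 := t.ne_zero
  have e0 := xGL_mul_neg_mul dc 0 (by decide) a
  have e3 := xGL_mul_neg_mul dc 3 (by decide) b
  have s0 : chevF4.simple 0 = 33 := by decide
  have s3 : chevF4.simple 3 = 24 := by decide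
  have n0 : chevF4.neg 33 = 14 := by decide
  have n3 : chevF4.neg 24 = 23 := by decide
  rw [s0, n0, neg_eq_self'] at e0
  rw [s3, n3, neg_eq_self'] at e3
  -- the product of three generators
  have hp : f4PairWord (2 ^ m) f4p1 f4p4 b ∈ f4Words K (2 ^ m) := Or.inl ⟨b, Or.inl rfl⟩
  have hn : f4PairWord (2 ^ m) f4m1 f4m4 b⁻¹ ∈ f4Words K (2 ^ m) := Or.inl ⟨b⁻¹, Or.inr rfl⟩
  have hN : wordGL dc (f4PairWord (2 ^ m) f4p1 f4p4 b) * wordGL dc (f4PairWord (2 ^ m) f4m1 f4m4 b⁻¹) *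
      wordGL dc (f4PairWord (2 ^ m) f4p1 f4p4 b) ∈ twistedF4 K (2 ^ m) :=
    Subgroup.mul_mem _ (Subgroup.mul_mem _ (wordGL_mem_twisted dc _ hp) (wordGL_mem_twisted dc _ hn))
      (wordGL_mem_twisted dc _ hp)
  have key : wordGL dc (f4PairWord (2 ^ m) f4p1 f4p4 b) * wordGL dc (f4PairWord (2 ^ m) f4m1 f4m4 b⁻¹) *
      wordGL dc (f4PairWord (2 ^ m) f4p1 f4p4 b) = hGL dc 33 a * hGL dc 24 b * (nGL dc 0 * nGL dc 3) := by
    unfold f4PairWord f4p1 f4p4 f4m1 f4m4
    simp only [wordGL_cons, wordGL_nil, mul_one]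
    rw [inv_pow, ← ha]
    have k1 := c1 b a⁻¹
    have k2 := c2 b⁻¹ a
    have k3 := c3 a b
    have k4 : nGL dc 0 * hGL dc 24 b = hGL dc 24 b * nGL dc 0 := by
      have := nGL_conj_hGL dc tc 0 (by decide) 24 (by decide) b hbne
      have r0 : chevF4.reflectRoot 0 24 = 24 := by decide
      rw [r0, mul_inv_eq_iff_eq_mul] at this
      exact this
    generalize xGL dc 33 a = x33 at *
    generalize xGL dc 24 b = x24 at *
    generalize xGL dc 14 a⁻¹ = y14 at *
    generalize xGL dc 23 b⁻¹ = y23 at *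
    generalize hGL dc 33 a = H33 at *
    generalize hGL dc 24 b = H24 at *
    generalize (nGL dc 0 : GL chevF4.Idx K) = N0 at *
    generalize (nGL dc 3 : GL chevF4.Idx K) = N3 at *
    calc x33 * x24 * (y14 * y23) * (x33 * x24)
        = x33 * (x24 * y14) * (y23 * x33) * x24 := by group
      _ = x33 * (y14 * x24) * (x33 * y23) * x24 := by rw [k1, k2]
      _ = x33 * y14 * (x24 * x33) * y23 * x24 := by group
      _ = x33 * y14 * (x33 * x24) * y23 * x24 := by rw [k3]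
      _ = x33 * y14 * x33 * (x24 * y23 * x24) := by group
      _ = H33 * N0 * (H24 * N3) := by rw [e0, e3]
      _ = H33 * (N0 * H24) * N3 := by group
      _ = H33 * (H24 * N0) * N3 := by rw [k4]
      _ = H33 * H24 * (N0 * N3) := by group
  have hn1 : nGL dc 0 * nGL dc 3 ∈ twistedF4 K (2 ^ m) := by
    have := n1F4_mem (K := K) (m := m) dc
    unfold n1F4 at this
    rwa [Subgroup.coe_mul, nG_coe, nG_coe] at this
  have hA : hGL dc 33 a * hGL dc 24 b ∈ twistedF4 K (2 ^ m) := by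
    have h1 : hGL dc 33 a * hGL dc 24 b = (hGL dc 33 a * hGL dc 24 b * (nGL dc 0 * nGL dc 3)) *
        (nGL dc 0 * nGL dc 3)⁻¹ := by group
    rw [h1, ← key]
    exact Subgroup.mul_mem _ hN (Subgroup.inv_mem _ hn1)
  have e : tH K ![t ^ 2 ^ m, 1, 1, t] = hGL dc 33 a * hGL dc 24 b := by
    rw [tH_vec, ha, hb]
    have h1 : hGL dc 27 ((1 : Kˣ) : K) = 1 := by
      rw [← s1', ← tH_single, Pi.mulSingle_one, map_one]
    have h2 : hGL dc 25 ((1 : Kˣ) : K) = 1 := by
      rw [← s2', ← tH_single, Pi.mulSingle_one, map_one]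
    rw [h1, h2, mul_one, mul_one, Units.val_pow_eq_pow_val]
  rw [e]
  exact hA

omit [Fintype K] [CharP K 2] in
/-- Conjugation of `h_r(a)` with `n₂`. -/
theorem n2_conj_hGL (r : ℕ) (hr : r < 48) (a : K) (ha : a ≠ 0) :
    ((n2F4 dc : ↥(chevF4.group K)) : GL chevF4.Idx K) * hGL dc r a * ((n2F4 dc : ↥(chevF4.group K)) : GL chevF4.Idx K)⁻¹ =
      hGL dc (w2F4 r) a := by
  have tc := Cfsg.Agent.Lib.Helper18_ChevTCertF4.tcert
  unfold n2F4 w2F4
  rw [Subgroup.coe_mul, Subgroup.coe_mul, nG_coe, nG_coe]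
  have hr1 : chevF4.reflectRoot 2 r < chevF4.nroots := dc.reflect_lt 2 (by decide) r hr
  have hr2 : chevF4.reflectRoot 1 (chevF4.reflectRoot 2 r) < chevF4.nroots := dc.reflect_lt 1 (by decide) _ hr1
  have hr3 : chevF4.reflectRoot 2 (chevF4.reflectRoot 1 (chevF4.reflectRoot 2 r)) < chevF4.nroots :=
    dc.reflect_lt 2 (by decide) _ hr2
  have k1 := nGL_conj_hGL dc tc 2 (by decide) r hr a ha
  have k2 := nGL_conj_hGL dc tc 1 (by decide) _ hr1 a ha
  have k3 := nGL_conj_hGL dc tc 2 (by decide) _ hr2 a ha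
  have k4 := nGL_conj_hGL dc tc 1 (by decide) _ hr3 a ha
  simp only [Function.comp_apply]
  rw [← k4, ← k3, ← k2, ← k1]
  group

omit [Fintype K] in
/-- The conjugate of `h_{p₁}(t^θ) h_{p₄}(t)` under `n₂` lies in the twisted group. -/
theorem C_mem (t : Kˣ) : tH K ![t ^ 2 ^ m, (t ^ 2 ^ m) ^ 2 * t, (t ^ 2 ^ m) ^ 2 * t ^ 2, t] ∈ twistedF4 K (2 ^ m) := by
  have hA := A_mem (m := m) t
  have hn2 := n2F4_mem (K := K) (m := m) dc
  have h1 := Subgroup.mul_mem _ (Subgroup.mul_mem _ hn2 hA) (Subgroup.inv_mem _ hn2)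
  have s33 : hGL dc 33 ((t ^ 2 ^ m : Kˣ) : K) = tH K ![t ^ 2 ^ m, 1, 1, 1] := by
    rw [hGL_eq_tH 33 (by decide) (t ^ 2 ^ m) 1 0 0 0 (by decide)]
    simp
  have s24 : hGL dc 24 (t : K) = tH K ![1, 1, 1, t] := by
    rw [hGL_eq_tH 24 (by decide) t 0 0 0 1 (by decide)]
    simp
  have s37 : hGL dc 37 ((t ^ 2 ^ m : Kˣ) : K) = tH K ![t ^ 2 ^ m, (t ^ 2 ^ m) ^ 2, (t ^ 2 ^ m) ^ 2, 1] := by
    rw [hGL_eq_tH 37 (by decide) (t ^ 2 ^ m) 1 2 2 0 (by decide)]
    simp
  have s32 : hGL dc 32 (t : K) = tH K ![1, t, t ^ 2, t] := by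
    rw [hGL_eq_tH 32 (by decide) t 0 1 2 1 (by decide)]
    simp
  have e1 : tH K ![t ^ 2 ^ m, 1, 1, t] = hGL dc 33 ((t ^ 2 ^ m : Kˣ) : K) * hGL dc 24 (t : K) := by
    rw [s33, s24, ← map_mul]
    congr 1
    funext k
    fin_cases k <;> simp
  rw [e1] at h1
  have e2 : ((n2F4 dc : ↥(chevF4.group K)) : GL chevF4.Idx K) * (hGL dc 33 ((t ^ 2 ^ m : Kˣ) : K) * hGL dc 24 (t : K)) *
      ((n2F4 dc : ↥(chevF4.group K)) : GL chevF4.Idx K)⁻¹ =
      hGL dc 37 ((t ^ 2 ^ m : Kˣ) : K) * hGL dc 32 (t : K) := by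
    have w33 : w2F4 33 = 37 := by decide
    have w24 : w2F4 24 = 32 := by decide
    rw [← w33, ← w24, ← n2_conj_hGL 33 (by decide) _ (Units.ne_zero _), ← n2_conj_hGL 24 (by decide) _ (Units.ne_zero _)]
    group
  rw [e2, s37, s32, ← map_mul] at h1
  convert h1 using 2
  funext k
  fin_cases k <;> simp

include hK in
/-- `h_{p₂}(s^θ) h_{p₃}(s)` lies in the twisted group. -/
theorem B_mem (s : Kˣ) : tH K ![1, s ^ 2 ^ m, s, 1] ∈ twistedF4 K (2 ^ m) := by
  obtain ⟨t, rfl⟩ := exists_pow_eq hK s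
  have h := Subgroup.mul_mem _ (C_mem (m := m) t) (Subgroup.inv_mem _ (A_mem (m := m) t))
  rw [← map_inv, ← map_mul] at h
  have e1 : (t ^ (2 ^ m * 2 + 2)) ^ 2 ^ m = (t ^ 2 ^ m) ^ 2 * t := by
    rw [← pow_mul, ← pow_mul]
    have e : (2 ^ m * 2 + 2) * 2 ^ m = 2 ^ m * 2 + 2 ^ m * (2 ^ m * 2) := by ring
    rw [e, pow_add, unit_pow_card hK]
  have e2 : t ^ (2 ^ m * 2 + 2) = (t ^ 2 ^ m) ^ 2 * t ^ 2 := by
    rw [pow_add, ← pow_mul]
  convert h using 2
  funext k
  fin_cases k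
  · simp
  · simp [e1]
  · simp [e2]
  · simp

include hK X in
/-- The fixed elements of `H` lie in the twisted group. -/
theorem fixed_diag_mem (h : GL chevF4.Idx K) (hh : h ∈ chevF4.diagonalSubgroup K)
    (hσ : sgm σ.toMonoidHom h = h) : h ∈ twistedF4 K (2 ^ m) := by
  obtain ⟨u, rfl⟩ := exists_tH h hh
  have e : u = ![u 0, u 1, u 2, u 3] := by
    funext k
    fin_cases k <;> rfl
  rw [e] at hσ ⊢
  obtain ⟨h1, h2⟩ := fixed_tH X _ _ _ _ hσ
  rw [h1, h2]
  have e' : (![u 3 ^ 2 ^ m, u 2 ^ 2 ^ m, u 2, u 3] : Fin 4 → Kˣ) =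
      ![u 3 ^ 2 ^ m, 1, 1, u 3] * ![1, u 2 ^ 2 ^ m, u 2, 1] := by
    funext k
    fin_cases k <;> simp
  rw [e', map_mul]
  exact Subgroup.mul_mem _ (A_mem _) (B_mem hK _)

/-- The parameters of the fixed elements of `H`. -/
def parH (K : Type*) [Field K] (m : ℕ) : Kˣ × Kˣ →* (Fin 4 → Kˣ) where
  toFun p := ![p.1 ^ 2 ^ m, p.2 ^ 2 ^ m, p.2, p.1]
  map_one' := by
    funext k
    fin_cases k <;> simp
  map_mul' p q := by
    funext k
    fin_cases k <;> simp [mul_pow]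

omit [Fintype K] [CharP K 2] in
theorem parH_injective : Function.Injective (parH K m) := by
  intro p q h
  have h2 := congrFun h 2
  have h3 := congrFun h 3
  exact Prod.ext h3 h2

include hK X in
/-- The elements of the twisted group in `H`. -/
theorem diag_inf_eq : chevF4.diagonalSubgroup K ⊓ twistedF4 K (2 ^ m) = ((tH K).comp (parH K m)).range := by
  have hR2 := Cfsg.Agent.Lib.Helper18_ChevComm2.r2_all dc Cfsg.Agent.Lib.Helper18_ChevPCertF4.pcert (F := K)
  ext h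
  rw [Subgroup.mem_inf, MonoidHom.mem_range]
  constructor
  · rintro ⟨hH, hG⟩
    obtain ⟨hG', hfix⟩ := G1_fixed dc hR2 hK X h hG
    have hσ : sgm σ.toMonoidHom h = h := by
      rw [sgm_of_mem _ hG']
      exact congrArg Subtype.val hfix
    obtain ⟨u, rfl⟩ := exists_tH h hH
    have e : u = ![u 0, u 1, u 2, u 3] := by
      funext k
      fin_cases k <;> rfl
    rw [e] at hσ
    obtain ⟨h1, h2⟩ := fixed_tH X _ _ _ _ hσ
    refine ⟨(u 3, u 2), ?_⟩
    show tH K ![u 3 ^ 2 ^ m, u 2 ^ 2 ^ m, u 2, u 3] = tH K u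
    rw [← h1, ← h2, ← e]
  · rintro ⟨p, rfl⟩
    refine ⟨tH_mem_diag _, ?_⟩
    show tH K ![p.1 ^ 2 ^ m, p.2 ^ 2 ^ m, p.2, p.1] ∈ _
    have e' : (![p.1 ^ 2 ^ m, p.2 ^ 2 ^ m, p.2, p.1] : Fin 4 → Kˣ) =
        ![p.1 ^ 2 ^ m, 1, 1, p.1] * ![1, p.2 ^ 2 ^ m, p.2, 1] := by
      funext k
      fin_cases k <;> simp
    rw [e', map_mul]
    exact Subgroup.mul_mem _ (A_mem _) (B_mem hK _)

include hK X in
/-- The order of `H ⊓ G¹`. -/
theorem card_diag_inf :
    Nat.card ↥(chevF4.diagonalSubgroup K ⊓ twistedF4 K (2 ^ m)) = (2 ^ (2 * m + 1) - 1) ^ 2 := by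
  classical
  have hinj : Function.Injective ((tH K).comp (parH K m)) := tH_injective.comp parH_injective
  rw [diag_inf_eq hK X, ← Nat.card_congr (MonoidHom.ofInjective hinj).toEquiv, Nat.card_prod,
    Nat.card_eq_fintype_card, Fintype.card_units, hK, sq]

end

end Cfsg.Agent.Lib.Helper18_TwistF4H
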