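import Cfsg.Agent.Lib.Helper36_F4U
import Cfsg.Agent.Lib.Helper36_F4Cell
import Cfsg.Agent.Lib.Helper36_TwistAbsOrder
import Cfsg.Agent.S1090
import Cfsg.Agent.S1110

set_option autoImplicit false
set_option maxRecDepth 100000

/-!
Type `²F₄`: the order of the twisted group, from the normal form of its elements and the orders of the fixed subgroups
of the cell subgroups.
-/

namespace Cfsg.Agent.Lib.Helper36_F4Order

open Cfsg Cfsg.Lie Cfsg.Agent.Lib.Helper18_ChevFast Cfsg.Agent.Lib.Helper18_ChevEngine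
  Cfsg.Agent.Lib.Helper18_ChevN Cfsg.Agent.Lib.Helper18_ChevWeyl
  Cfsg.Agent.Lib.Helper18_ChevGL Cfsg.Agent.Lib.Helper18_ChevTri
  Cfsg.Agent.Lib.Helper18_ChevAdd Cfsg.Agent.Lib.Helper18_ChevUni
  Cfsg.Agent.Lib.Helper36_ChevTorus Cfsg.Agent.Lib.Helper36_ChevBorel
  Cfsg.Agent.Lib.Helper36_ChevTables
  Cfsg.Agent.Lib.Helper36_ChevOrder Cfsg.Agent.Lib.Helper36_WeylChain
  Cfsg.Agent.Lib.Helper36_WeylLit Cfsg.Agent.Lib.Helper36_WeylLit.RootLit
  Cfsg.Agent.Lib.Helper36_ChevDataF4Lit Cfsg.Agent.Lib.Helper36_ChevDataF4LitOK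
  Cfsg.Agent.Lib.Helper36_TwistGen Cfsg.Agent.Lib.Helper36_TwistWeyl Cfsg.Agent.Lib.Helper36_TwistWeylF4
  Cfsg.Agent.Lib.Helper36_TwistCell Cfsg.Agent.Lib.Helper36_TwistAbs Cfsg.Agent.Lib.Helper36_TwistAbsOrder
  Cfsg.Agent.Lib.Helper36_F4Setup Cfsg.Agent.Lib.Helper36_F4BN Cfsg.Agent.Lib.Helper36_F4U
  Cfsg.Agent.Lib.Helper36_F4Cell
  Cfsg.Agent.Lib.Helper18_TwistF4C Cfsg.Agent.Lib.Helper18_TwistF4D

/-- A positive root made negative by a distinguished element lies in the set of its cell subgroup. -/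
theorem sNeg_base (a r : ℕ) (ha : a < 2) (hr : r < lit.n) (hp : chevF4.IsPosRoot r)
    (hn : lit.ps (lit'.r a r) = false) : SNeg chevF4 lit (lit'.sPerm wf' a) r :=
  ⟨hp, hr, by rw [lit'.sPerm_val wf' a ha]; exact hn⟩

section

variable {K : Type*} [Field K]

/-- The parameters of the elements of the first cell subgroup. -/
def s0 (t : K) : Fin 12 → K := fun i => if i = 0 then t else 0

/-- The parameters of the elements of the second cell subgroup. -/
def s1 (t u : K) : Fin 12 → K := fun i => if i = 1 then t else if i = 2 then u else 0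

theorem s0_closure (m : ℕ) (t : K) :
    uPar m (s0 t) ∈ rootClosure chevF4 K (SNeg chevF4 lit (lit'.sPerm wf' 0)) := by
  have z1 : (0 : K) ^ 2 ^ m = 0 := zero_pow (by positivity)
  have z2 : (0 : K) ^ (2 ^ m + 1) = 0 := zero_pow (Nat.succ_ne_zero _)
  apply uPar_mem_closure
  intro r hr
  unfold LF4 at hr
  simp only [List.mem_cons, List.not_mem_nil, or_false] at hr
  rcases hr with rfl | rfl | rfl | rfl | rfl | rfl | rfl | rfl | rfl | rfl | rfl | rfl | rfl | rfl | rfl | rfl | rfl | rfl | rfl | rfl | rfl | rfl | rfl | rfl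
  · exact Or.inl (sNeg_base 0 33 (by decide) (by decide) (by decide) (by decide +kernel))
  · exact Or.inl (sNeg_base 0 24 (by decide) (by decide) (by decide) (by decide +kernel))
  · exact Or.inr (by simp [parF4, s0, z1, z2])
  · exact Or.inr (by simp [parF4, s0, z1, z2])
  · exact Or.inr (by simp [parF4, s0, z1, z2])
  · exact Or.inr (by simp [parF4, s0, z1, z2])
  · exact Or.inr (by simp [parF4, s0, z1, z2])
  · exact Or.inr (by simp [parF4, s0, z1, z2])
  · exact Or.inr (by simp [parF4, s0, z1, z2])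
  · exact Or.inr (by simp [parF4, s0, z1, z2])
  · exact Or.inr (by simp [parF4, s0, z1, z2])
  · exact Or.inr (by simp [parF4, s0, z1, z2])
  · exact Or.inr (by simp [parF4, s0, z1, z2])
  · exact Or.inr (by simp [parF4, s0, z1, z2])
  · exact Or.inr (by simp [parF4, s0, z1, z2])
  · exact Or.inr (by simp [parF4, s0, z1, z2])
  · exact Or.inr (by simp [parF4, s0, z1, z2])
  · exact Or.inr (by simp [parF4, s0, z1, z2])
  · exact Or.inr (by simp [parF4, s0, z1, z2])
  · exact Or.inr (by simp [parF4, s0, z1, z2])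
  · exact Or.inr (by simp [parF4, s0, z1, z2])
  · exact Or.inr (by simp [parF4, s0, z1, z2])
  · exact Or.inr (by simp [parF4, s0, z1, z2])
  · exact Or.inr (by simp [parF4, s0, z1, z2])

theorem s1_closure (m : ℕ) (t u : K) :
    uPar m (s1 t u) ∈ rootClosure chevF4 K (SNeg chevF4 lit (lit'.sPerm wf' 1)) := by
  have z1 : (0 : K) ^ 2 ^ m = 0 := zero_pow (by positivity)
  have z2 : (0 : K) ^ (2 ^ m + 1) = 0 := zero_pow (Nat.succ_ne_zero _)
  apply uPar_mem_closure
  intro r hr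
  unfold LF4 at hr
  simp only [List.mem_cons, List.not_mem_nil, or_false] at hr
  rcases hr with rfl | rfl | rfl | rfl | rfl | rfl | rfl | rfl | rfl | rfl | rfl | rfl | rfl | rfl | rfl | rfl | rfl | rfl | rfl | rfl | rfl | rfl | rfl | rfl
  · exact Or.inr (by simp [parF4, s1, z1, z2])
  · exact Or.inr (by simp [parF4, s1, z1, z2])
  · exact Or.inl (sNeg_base 1 27 (by decide) (by decide) (by decide) (by decide +kernel))
  · exact Or.inl (sNeg_base 1 25 (by decide) (by decide) (by decide) (by decide +kernel))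
  · exact Or.inl (sNeg_base 1 28 (by decide) (by decide) (by decide) (by decide +kernel))
  · exact Or.inl (sNeg_base 1 30 (by decide) (by decide) (by decide) (by decide +kernel))
  · exact Or.inr (by simp [parF4, s1, z1, z2])
  · exact Or.inr (by simp [parF4, s1, z1, z2])
  · exact Or.inr (by simp [parF4, s1, z1, z2])
  · exact Or.inr (by simp [parF4, s1, z1, z2])
  · exact Or.inr (by simp [parF4, s1, z1, z2])
  · exact Or.inr (by simp [parF4, s1, z1, z2])
  · exact Or.inr (by simp [parF4, s1, z1, z2])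
  · exact Or.inr (by simp [parF4, s1, z1, z2])
  · exact Or.inr (by simp [parF4, s1, z1, z2])
  · exact Or.inr (by simp [parF4, s1, z1, z2])
  · exact Or.inr (by simp [parF4, s1, z1, z2])
  · exact Or.inr (by simp [parF4, s1, z1, z2])
  · exact Or.inr (by simp [parF4, s1, z1, z2])
  · exact Or.inr (by simp [parF4, s1, z1, z2])
  · exact Or.inr (by simp [parF4, s1, z1, z2])
  · exact Or.inr (by simp [parF4, s1, z1, z2])
  · exact Or.inr (by simp [parF4, s1, z1, z2])
  · exact Or.inr (by simp [parF4, s1, z1, z2])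

end

theorem eq_of_bounds {a b q : ℕ} (hq : 0 < q) (ha : q ≤ a) (hb : q ^ 2 ≤ b) (h : a * b = q * q ^ 2) :
    a = q ∧ b = q ^ 2 := by
  have ha' : a = q := by
    by_contra hne
    have hlt : q < a := lt_of_le_of_ne ha (Ne.symm hne)
    have : q * q ^ 2 < a * b := Nat.mul_lt_mul_of_lt_of_le hlt hb (lt_of_lt_of_le (pow_pos hq 2) hb)
    omega
  subst ha'
  exact ⟨rfl, Nat.eq_of_mul_eq_mul_left hq h⟩

section

variable {K : Type*} [Field K] [Fintype K] {m : ℕ} (hK : Fintype.card K = 2 ^ (2 * m + 1))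

include hK in
theorem base0_le : Fintype.card K ≤
    Nat.card ↥(rootClosure chevF4 K (SNeg chevF4 lit (lit'.sPerm wf' 0)) ⊓ twistedF4 K (2 ^ m)) := by
  rw [← Nat.card_eq_fintype_card]
  apply Nat.card_le_card_of_injective (fun t : K =>
    (⟨uPar m (s0 t), ⟨s0_closure m t, uPar_mem hK _⟩⟩ :
      ↥(rootClosure chevF4 K (SNeg chevF4 lit (lit'.sPerm wf' 0)) ⊓ twistedF4 K (2 ^ m))))
  intro t t' e
  have e1 : uPar m (s0 t) = uPar m (s0 t') := congrArg Subtype.val e
  have e2 := congrFun (uPar_inj m _ _ e1) 0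
  simpa [s0] using e2

include hK in
theorem base1_le : Fintype.card K ^ 2 ≤
    Nat.card ↥(rootClosure chevF4 K (SNeg chevF4 lit (lit'.sPerm wf' 1)) ⊓ twistedF4 K (2 ^ m)) := by
  rw [sq, ← Fintype.card_prod, ← Nat.card_eq_fintype_card]
  apply Nat.card_le_card_of_injective (fun p : K × K =>
    (⟨uPar m (s1 p.1 p.2), ⟨s1_closure m p.1 p.2, uPar_mem hK _⟩⟩ :
      ↥(rootClosure chevF4 K (SNeg chevF4 lit (lit'.sPerm wf' 1)) ⊓ twistedF4 K (2 ^ m))))
  rintro ⟨t, u⟩ ⟨t', u'⟩ e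
  have e1 : uPar m (s1 t u) = uPar m (s1 t' u') := congrArg Subtype.val e
  have e2 := uPar_inj m _ _ e1
  have e3 := congrFun e2 1
  have e4 := congrFun e2 2
  simp [s1] at e3 e4
  rw [e3, e4]

/-- The cell subgroup of the longest element is the whole of `U`. -/
theorem sNeg_w0 : SNeg chevF4 lit (lit'.wPerm wf' chainA) = chevF4.IsPosRoot := by
  funext r
  apply propext
  constructor
  · exact fun h => h.1
  · intro h
    have hr : r < lit.n := litOK.hn ▸ h.1
    refine ⟨h, hr, ?_⟩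
    rw [wPerm_eval lit' wf' chainA (by decide)]
    exact w0A r hr ((litOK.hpos r (litOK.hn ▸ hr)).mpr h)

include hK in
/-- The orders of the fixed subgroups of the two distinguished cell subgroups. -/
theorem base_card :
    Nat.card ↥(rootClosure chevF4 K (SNeg chevF4 lit (lit'.sPerm wf' 0)) ⊓ twistedF4 K (2 ^ m)) =
      2 ^ (2 * m + 1) ∧
    Nat.card ↥(rootClosure chevF4 K (SNeg chevF4 lit (lit'.sPerm wf' 1)) ⊓ twistedF4 K (2 ^ m)) =
      (2 ^ (2 * m + 1)) ^ 2 := by
  have hch := Cfsg.Agent.Lib.Helper18_TwistF4A.charP_two hK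
  have X := Cfsg.Agent.Lib.Helper18_TwistF4G.twGen' hK
  obtain ⟨-, h1⟩ := cell_chain X (sgF_mem hK) sgF_act ⊤ (fun _ _ => Subgroup.mem_top _)
    (fun a => Nat.card ↥(rootClosure chevF4 K (SNeg chevF4 lit (lit'.sPerm wf' a)) ⊓ twistedF4 K (2 ^ m)))
    (fun a _ => ⟨fun _ _ => Subgroup.mem_top _, rfl⟩) chainA stepsA
  rw [sNeg_w0, ← posUnipotent_eq, Cfsg.Agent.S1090.result hK] at h1
  have h2 := base0_le hK
  have h3 := base1_le hK
  rw [hK] at h2 h3
  set a := Nat.card ↥(rootClosure chevF4 K (SNeg chevF4 lit (lit'.sPerm wf' 0)) ⊓ twistedF4 K (2 ^ m)) with ha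
  set b := Nat.card ↥(rootClosure chevF4 K (SNeg chevF4 lit (lit'.sPerm wf' 1)) ⊓ twistedF4 K (2 ^ m)) with hb
  have h4 : (chainA.map fun a => Nat.card ↥(rootClosure chevF4 K (SNeg chevF4 lit (lit'.sPerm wf' a)) ⊓
      twistedF4 K (2 ^ m))).prod = (a * b) ^ 4 := by
    simp only [chainA, List.map_cons, List.map_nil, List.prod_cons, List.prod_nil]
    rw [← ha, ← hb]
    ring
  rw [h4] at h1
  have h5 : (2 ^ (2 * m + 1)) ^ 12 = (2 ^ (2 * m + 1) * (2 ^ (2 * m + 1)) ^ 2) ^ 4 := by ring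
  rw [h5] at h1
  have h6 : a * b = 2 ^ (2 * m + 1) * (2 ^ (2 * m + 1)) ^ 2 :=
    (Nat.pow_left_injective (n := 4) (by decide) h1).symm
  exact eq_of_bounds (by positivity) h2 h3 h6

end

theorem getD_mem : ∀ i < 16, words16.getD i [] ∈ words16 := by decide

theorem mem_getD : ∀ tw ∈ words16, ∃ i : Fin 16, words16.getD i [] = tw := by decide

/-- The sixteen elements of the fixed subgroup of the Weyl group. -/
def e16 (i : Fin 16) : ↥(lit'.W wf' (List.range 2)) :=
  ⟨lit'.wPerm wf' (words16.getD i []), wPerm_mem_W1 _ (words16_lt _ (getD_mem i i.2))⟩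

theorem e16_bijective : Function.Bijective e16 := by
  constructor
  · intro i j e
    have e1 : lit'.wPerm wf' (words16.getD i []) = lit'.wPerm wf' (words16.getD j []) := congrArg Subtype.val e
    apply Fin.ext
    apply words16_distinct i i.2 j j.2
    intro s hs
    rw [← wPerm_eval lit' wf' _ (words16_lt _ (getD_mem i i.2)) ⟨s, hs⟩,
      ← wPerm_eval lit' wf' _ (words16_lt _ (getD_mem j j.2)) ⟨s, hs⟩, e1]
  · rintro ⟨x, hx⟩
    obtain ⟨tw, htw, rfl⟩ := exists_word x hx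
    obtain ⟨i, rfl⟩ := mem_getD tw htw
    exact ⟨i, rfl⟩

section

variable {K : Type*} [Field K] [Fintype K] {m : ℕ} (hK : Fintype.card K = 2 ^ (2 * m + 1))

include hK in
/-- The orders of the fixed subgroups of the cell subgroups. -/
theorem cell_card (tw : List ℕ) (htw : tw ∈ words16) :
    Nat.card ↥(rootClosure chevF4 K (SNeg chevF4 lit (lit'.wPerm wf' tw)) ⊓ twistedF4 K (2 ^ m)) =
      (tw.map fun a => if a = 0 then 2 ^ (2 * m + 1) else (2 ^ (2 * m + 1)) ^ 2).prod := by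
  have hch := Cfsg.Agent.Lib.Helper18_TwistF4A.charP_two hK
  have X := Cfsg.Agent.Lib.Helper18_TwistF4G.twGen' hK
  obtain ⟨hb0, hb1⟩ := base_card hK
  refine (cell_chain X (sgF_mem hK) sgF_act ⊤ (fun _ _ => Subgroup.mem_top _) _ (fun a ha =>
    ⟨fun _ _ => Subgroup.mem_top _, ?_⟩) tw (words16_steps tw htw)).2
  interval_cases a
  · exact hb0
  · exact hb1

include hK in
/-- `|²F₄(q)| = q ^ 12 (q - 1) (q ^ 3 + 1) (q ^ 4 - 1) (q ^ 6 + 1)`. -/
theorem card_twistedF4 : Nat.card ↥(twistedF4 K (2 ^ m)) =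
    (2 ^ (2 * m + 1)) ^ 12 * (2 ^ (2 * m + 1) - 1) * ((2 ^ (2 * m + 1)) ^ 3 + 1) * ((2 ^ (2 * m + 1)) ^ 4 - 1) *
      ((2 ^ (2 * m + 1)) ^ 6 + 1) := by
  have hch := Cfsg.Agent.Lib.Helper18_TwistF4A.charP_two hK
  letI : Fintype ↥(lit'.W wf' (List.range 2)) := Fintype.ofFinite _
  rw [card_abs (hfK K) (twAbs hK) litOK hchain (hx K) (hU K) (hUH K) (hUV K) (hx1 K),
    Cfsg.Agent.S1090.result hK, Cfsg.Agent.S1110.result hK]
  rw [← (Equiv.ofBijective e16 e16_bijective).sum_comp]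
  have hterm : ∀ i : Fin 16, Nat.card ↥(rootClosure chevF4 K (SNeg chevF4 lit
      ((Equiv.ofBijective e16 e16_bijective) i).1) ⊓ twistedF4 K (2 ^ m)) =
      ((words16.getD i []).map fun a => if a = 0 then 2 ^ (2 * m + 1) else (2 ^ (2 * m + 1)) ^ 2).prod :=
    fun i => cell_card hK _ (getD_mem i i.2)
  rw [Finset.sum_congr rfl (fun i _ => hterm i)]
  rw [Fin.sum_univ_eq_sum_range
    (fun i => ((words16.getD i []).map fun a => if a = 0 then 2 ^ (2 * m + 1) else (2 ^ (2 * m + 1)) ^ 2).prod) 16]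
  obtain ⟨p, hp⟩ : ∃ p, 2 ^ (2 * m + 1) = p + 1 := ⟨2 ^ (2 * m + 1) - 1, (Nat.sub_add_cancel Nat.one_le_two_pow).symm⟩
  rw [hp]
  have h4 : (p + 1) ^ 4 - 1 = p * (1 + (p + 1)) * (1 + (p + 1) ^ 2) := by
    apply Nat.sub_eq_of_eq_add
    ring
  rw [h4, Nat.add_sub_cancel]
  simp only [Finset.sum_range_succ, Finset.sum_range_zero, words16, List.getD_cons_zero, List.getD_cons_succ,
    List.map_cons, List.map_nil, List.prod_cons, List.prod_nil, if_true, one_ne_zero, if_false]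
  ring

end

end Cfsg.Agent.Lib.Helper36_F4Order
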