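import Cfsg.Agent.Lib.Helper36_F4Order
import Cfsg.Agent.S1068

set_option autoImplicit false
set_option maxRecDepth 100000

/-!
Type `²F₄`: the elements of `2`-power order of the twisted group have order at most `32`.
-/

namespace Cfsg.Agent.Lib.Helper36_F4Two

open Cfsg Cfsg.Lie Cfsg.Agent.Lib.Helper18_ChevFast Cfsg.Agent.Lib.Helper18_ChevEngine
  Cfsg.Agent.Lib.Helper18_ChevN Cfsg.Agent.Lib.Helper18_ChevWeyl
  Cfsg.Agent.Lib.Helper18_ChevGL Cfsg.Agent.Lib.Helper18_ChevTri Cfsg.Agent.Lib.Helper18_MatTri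
  Cfsg.Agent.Lib.Helper18_ChevAdd Cfsg.Agent.Lib.Helper18_ChevUni
  Cfsg.Agent.Lib.Helper36_ChevTorus Cfsg.Agent.Lib.Helper36_ChevBorel
  Cfsg.Agent.Lib.Helper36_ChevTables
  Cfsg.Agent.Lib.Helper36_ChevOrder
  Cfsg.Agent.Lib.Helper36_F4Setup

/-- The heights of the roots are at most `11` in absolute value. -/
theorem height_tab : ∀ s < 48, -11 ≤ grL chevF4 gw s ∧ grL chevF4 gw s ≤ 11 := by decide +kernel

theorem grade_bound (i j : chevF4.Idx) :
    gradU chevF4 gw i < gradU chevF4 gw j + ((32 : ℕ) : ℤ) * ((1 : ℕ) : ℤ) := by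
  have hb : ∀ s : Fin chevF4.nroots, -11 ≤ grRoot chevF4 gw s.val ∧ grRoot chevF4 gw s.val ≤ 11 := by
    intro s
    rw [← grL_eq]
    exact height_tab s.val s.isLt
  rcases i with i | s <;> rcases j with j | s'
  · simp only [gradU, grIdx]; omega
  · have := hb s'
    simp only [gradU, grIdx]
    omega
  · have := hb s
    simp only [gradU, grIdx]
    omega
  · have h1 := hb s
    have h2 := hb s'
    simp only [gradU, grIdx]
    omega

section

variable {K : Type*} [Field K]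

/-- `(u - 1) ^ 32 = 0` for the elements of `U`. -/
theorem sub_one_pow (g : GL chevF4.Idx K) (hg : g ∈ chevF4.posUnipotent K) :
    ((g : Matrix chevF4.Idx chevF4.Idx K) - 1) ^ 32 = 0 :=
  sub_one_pow_eq_zero (posUnipotent_le_tri dc (certs K).tc (certs K).gc hg) 32 grade_bound

/-- The elements of `U` have order dividing `32` in characteristic `2`. -/
theorem pow_eq_one [CharP K 2] (g : GL chevF4.Idx K) (hg : g ∈ chevF4.posUnipotent K) : g ^ 32 = 1 := by
  have : Nonempty chevF4.Idx := ⟨Sum.inl ⟨0, by decide⟩⟩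
  have : Fact (Nat.Prime 2) := ⟨Nat.prime_two⟩
  have h1 := sub_one_pow g hg
  have h2 := sub_pow_char_pow_of_commute 2 5 (Commute.one_right (g : Matrix chevF4.Idx chevF4.Idx K))
  have e : (2 : ℕ) ^ 5 = 32 := by norm_num
  rw [e, h1, one_pow] at h2
  apply Units.ext
  rw [Units.val_pow_eq_pow_val, Units.val_one]
  exact (sub_eq_zero.mp h2.symm)

end

section

variable {K : Type*} [Field K] [Fintype K] {m : ℕ} (hK : Fintype.card K = 2 ^ (2 * m + 1))

include hK in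
/-- `U¹` as a subgroup of the twisted group has `q ^ 12` elements. -/
theorem card_U1 : Nat.card ↥((chevF4.posUnipotent K ⊓ twistedF4 K (2 ^ m)).subgroupOf (twistedF4 K (2 ^ m))) =
    2 ^ (12 * (2 * m + 1)) := by
  rw [Nat.card_congr (Subgroup.subgroupOfEquivOfLe (inf_le_right : chevF4.posUnipotent K ⊓ twistedF4 K (2 ^ m) ≤
    twistedF4 K (2 ^ m))).toEquiv, Cfsg.Agent.S1090.result hK, ← pow_mul, mul_comm]

include hK in
/-- The index of `U¹` is odd. -/
theorem index_U1 : ¬ 2 ∣ ((chevF4.posUnipotent K ⊓ twistedF4 K (2 ^ m)).subgroupOf (twistedF4 K (2 ^ m))).index := by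
  intro h
  have h1 := Subgroup.card_mul_index ((chevF4.posUnipotent K ⊓ twistedF4 K (2 ^ m)).subgroupOf (twistedF4 K (2 ^ m)))
  rw [card_U1 hK, Cfsg.Agent.S1068.result hK] at h1
  have e : (2 ^ (2 * m + 1)) ^ 12 = 2 ^ (12 * (2 * m + 1)) := by rw [← pow_mul, mul_comm]
  rw [e, mul_assoc, mul_assoc, mul_assoc] at h1
  have h2 := Nat.eq_of_mul_eq_mul_left (by positivity) h1
  rw [h2] at h
  obtain ⟨q', hq'⟩ : ∃ q', 2 ^ (2 * m + 1) = 2 * q' := ⟨2 ^ (2 * m), by rw [pow_succ]; ring⟩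
  have hq1 : 1 ≤ q' := by
    rcases Nat.eq_zero_or_pos q' with h0 | h0
    · rw [h0] at hq'
      have : 0 < 2 ^ (2 * m + 1) := by positivity
      omega
    · exact h0
  rw [hq'] at h
  have odd1 : ¬ 2 ∣ 2 * q' - 1 := by omega
  have odd2 : ¬ 2 ∣ (2 * q') ^ 3 + 1 := by
    intro h3
    have : 2 ∣ (2 * q') ^ 3 := Dvd.dvd.pow (dvd_mul_right 2 q') (by norm_num)
    omega
  have odd3 : ¬ 2 ∣ (2 * q') ^ 4 - 1 := by
    intro h3
    have h4 : 2 ∣ (2 * q') ^ 4 := Dvd.dvd.pow (dvd_mul_right 2 q') (by norm_num)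
    have h5 : 1 ≤ (2 * q') ^ 4 := Nat.one_le_pow _ _ (by omega)
    omega
  have odd4 : ¬ 2 ∣ (2 * q') ^ 6 + 1 := by
    intro h3
    have : 2 ∣ (2 * q') ^ 6 := Dvd.dvd.pow (dvd_mul_right 2 q') (by norm_num)
    omega
  rcases (Nat.Prime.dvd_mul Nat.prime_two).mp h with h3 | h3
  · exact odd1 h3
  · rcases (Nat.Prime.dvd_mul Nat.prime_two).mp h3 with h4 | h4
    · exact odd2 h4
    · rcases (Nat.Prime.dvd_mul Nat.prime_two).mp h4 with h5 | h5
      · exact odd3 h5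
      · exact odd4 h5

include hK in
/-- An element of `2`-power order is conjugate in the twisted group to an element of `U`. -/
theorem exists_conj_mem (x : ↥(twistedF4 K (2 ^ m))) (hx : ∃ j : ℕ, orderOf x = 2 ^ j) :
    ∃ a : ↥(twistedF4 K (2 ^ m)),
      (a : GL chevF4.Idx K)⁻¹ * (x : GL chevF4.Idx K) * (a : GL chevF4.Idx K) ∈ chevF4.posUnipotent K := by
  have : Fact (Nat.Prime 2) := ⟨Nat.prime_two⟩
  have hp : IsPGroup 2 ↥((chevF4.posUnipotent K ⊓ twistedF4 K (2 ^ m)).subgroupOf (twistedF4 K (2 ^ m))) :=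
    IsPGroup.of_card (card_U1 hK)
  set S0 : Sylow 2 ↥(twistedF4 K (2 ^ m)) := hp.toSylow (index_U1 hK) with hS0
  have memS0 : ∀ y : ↥(twistedF4 K (2 ^ m)), y ∈ S0 ↔ (y : GL chevF4.Idx K) ∈ chevF4.posUnipotent K := by
    intro y
    rw [hS0, IsPGroup.mem_toSylow, Subgroup.mem_subgroupOf, Subgroup.mem_inf]
    exact ⟨fun h => h.1, fun h => ⟨h, y.2⟩⟩
  have memSmul : ∀ (a y : ↥(twistedF4 K (2 ^ m))), y ∈ ((a • S0 : Sylow 2 ↥(twistedF4 K (2 ^ m))) :
      Subgroup ↥(twistedF4 K (2 ^ m))) ↔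
      (a : GL chevF4.Idx K)⁻¹ * (y : GL chevF4.Idx K) * (a : GL chevF4.Idx K) ∈ chevF4.posUnipotent K := by
    intro a y
    rw [Sylow.coe_subgroup_smul, Subgroup.mem_pointwise_smul_iff_inv_smul_mem]
    have e : (MulAut.conj a)⁻¹ • y = a⁻¹ * y * a := by
      rw [MulAut.smul_def, ← map_inv, MulAut.conj_apply, inv_inv]
    rw [e]
    exact memS0 _
  obtain ⟨j, hj⟩ := hx
  have hz : IsPGroup 2 ↥(Subgroup.zpowers x) := by
    apply IsPGroup.of_card (n := j)
    rw [Nat.card_zpowers, hj]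
  obtain ⟨Q, hQ⟩ := hz.exists_le_sylow
  obtain ⟨a, rfl⟩ := MulAction.exists_smul_eq ↥(twistedF4 K (2 ^ m)) S0 Q
  exact ⟨a, (memSmul a x).mp (hQ (Subgroup.mem_zpowers x))⟩

include hK in
/-- The elements of `2`-power order have order at most `32`. -/
theorem order_le (x : ↥(twistedF4 K (2 ^ m))) (hx : ∃ j : ℕ, orderOf x = 2 ^ j) : orderOf x ≤ 32 := by
  have := Cfsg.Agent.Lib.Helper18_TwistF4A.charP_two hK
  obtain ⟨a, ha⟩ := exists_conj_mem hK x hx
  have h1 := pow_eq_one _ ha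
  have h2 : (x : GL chevF4.Idx K) ^ 32 = 1 := by
    have e : (x : GL chevF4.Idx K) = (a : GL chevF4.Idx K) *
        ((a : GL chevF4.Idx K)⁻¹ * (x : GL chevF4.Idx K) * (a : GL chevF4.Idx K)) * (a : GL chevF4.Idx K)⁻¹ := by group
    rw [e, conj_pow, h1]
    group
  have h3 : x ^ 32 = 1 := by
    apply Subtype.ext
    rw [Subgroup.coe_pow, h2]
    rfl
  exact Nat.le_of_dvd (by norm_num) (orderOf_dvd_of_pow_eq_one h3)

end

end Cfsg.Agent.Lib.Helper36_F4Two
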