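import Cfsg.Agent.Lib.Helper36_F4OutAlg
import Cfsg.Agent.Lib.Helper36_F4Perf
import Cfsg.Agent.Lib.Helper36_F4Two
import Cfsg.Agent.Lib.Helper36_F4N
import Cfsg.Agent.Lib.Helper18_ChevFrob

set_option autoImplicit false
set_option maxRecDepth 100000

/-!
The outer automorphism group of the twisted group of type `²F₄` over the field with `2 ^ (2 m + 1)` elements, `m ≥ 1`,
is cyclic of order `2 m + 1`: the data of the abstract normal form are verified for the concrete group.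
-/

namespace Cfsg.Agent.Lib.Helper36_F4Out

open Cfsg Cfsg.Lie Cfsg.Agent.Lib.Helper18_ChevFast Cfsg.Agent.Lib.Helper18_ChevEngine
  Cfsg.Agent.Lib.Helper18_ChevN Cfsg.Agent.Lib.Helper18_ChevWeyl
  Cfsg.Agent.Lib.Helper18_ChevGL Cfsg.Agent.Lib.Helper18_ChevTri
  Cfsg.Agent.Lib.Helper18_ChevAdd Cfsg.Agent.Lib.Helper18_ChevUni
  Cfsg.Agent.Lib.Helper36_ChevTorus Cfsg.Agent.Lib.Helper36_ChevBorel
  Cfsg.Agent.Lib.Helper36_ChevTables Cfsg.Agent.Lib.Helper36_ChevHOrder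
  Cfsg.Agent.Lib.Helper36_ChevOrder Cfsg.Agent.Lib.Helper36_WeylChain
  Cfsg.Agent.Lib.Helper36_WeylLit Cfsg.Agent.Lib.Helper36_WeylLit.RootLit
  Cfsg.Agent.Lib.Helper36_ChevDataF4Lit Cfsg.Agent.Lib.Helper36_ChevDataF4LitOK
  Cfsg.Agent.Lib.Helper36_TwistGen Cfsg.Agent.Lib.Helper36_TwistWeyl Cfsg.Agent.Lib.Helper36_TwistWeylF4
  Cfsg.Agent.Lib.Helper36_TwistBN Cfsg.Agent.Lib.Helper36_TwistAbs Cfsg.Agent.Lib.Helper36_TwistAbsOrder
  Cfsg.Agent.Lib.Helper36_F4Setup Cfsg.Agent.Lib.Helper36_F4BN Cfsg.Agent.Lib.Helper36_F4U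
  Cfsg.Agent.Lib.Helper36_F4Order Cfsg.Agent.Lib.Helper36_F4Cell Cfsg.Agent.Lib.Helper36_F4Tor
  Cfsg.Agent.Lib.Helper36_F4H Cfsg.Agent.Lib.Helper36_F4Perf Cfsg.Agent.Lib.Helper36_F4Two
  Cfsg.Agent.Lib.Helper36_F4N
  Cfsg.Agent.Lib.Helper18_TwistF4C Cfsg.Agent.Lib.Helper18_TwistF4D
  Cfsg.Agent.Lib.Helper36_CellAut Cfsg.Agent.Lib.Helper36_F4OutAlg Cfsg.Agent.Lib.Helper18_ChevFrob

section cells

variable {K : Type*} [Field K] [Fintype K] {m : ℕ} (hK : Fintype.card K = 2 ^ (2 * m + 1))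

/-- The fixed subgroup of the Weyl group. -/
abbrev W1 : Subgroup (Equiv.Perm (Fin lit.n)) := lit'.W wf' (List.range 2)

/-- The representatives of the elements of the fixed subgroup of the Weyl group. -/
noncomputable def rp (x : W1) : GL chevF4.Idx K := arep (hfK K) (twAbs hK) x

theorem rp_N (x : W1) : rp hK x ∈ chevF4.monomialSubgroup K := arep_mem (hfK K) (twAbs hK) x

theorem rp_G (x : W1) : rp hK x ∈ twistedF4 K (2 ^ m) := arep_mem' (hfK K) (twAbs hK) x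

theorem rp_acts (x : W1) : ActsAs chevF4 K (hfK K) lit (rp hK x) x.1 := arep_acts (hfK K) (twAbs hK) x

/-- The parametrisation of the twisted group by the normal form, as a bijection. -/
noncomputable def nfEquiv :
    (Σ x : W1, (↥(chevF4.posUnipotent K ⊓ twistedF4 K (2 ^ m)) × ↥(chevF4.diagonalSubgroup K ⊓ twistedF4 K (2 ^ m))) ×
      ↥(Um chevF4 K (arep (hfK K) (twAbs hK) x) ⊓ twistedF4 K (2 ^ m))) ≃ ↥(twistedF4 K (2 ^ m)) :=
  Equiv.ofBijective _ (aparam_bijective (hfK K) (twAbs hK) litOK hchain (hx K) (hU K) (hUH K))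

/-- The cell of an element. -/
noncomputable def cellOf (g : ↥(twistedF4 K (2 ^ m))) : W1 := ((nfEquiv hK).symm g).1

theorem nf_eq (g : ↥(twistedF4 K (2 ^ m))) : ∃ u0 ∈ chevF4.posUnipotent K ⊓ twistedF4 K (2 ^ m),
    ∃ h0 ∈ chevF4.diagonalSubgroup K ⊓ twistedF4 K (2 ^ m),
    ∃ u ∈ Um chevF4 K (rp hK (cellOf hK g)) ⊓ twistedF4 K (2 ^ m),
      (g : GL chevF4.Idx K) = u0 * h0 * rp hK (cellOf hK g) * u := by
  have h := (nfEquiv hK).apply_symm_apply g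
  set a := (nfEquiv hK).symm g with ha
  refine ⟨a.2.1.1, a.2.1.1.2, a.2.1.2, a.2.1.2.2, a.2.2, a.2.2.2, ?_⟩
  exact (congrArg Subtype.val h).symm

omit [Fintype K] in
theorem borel_of {u0 h0 : GL chevF4.Idx K} (hu0 : u0 ∈ chevF4.posUnipotent K) (hh0 : h0 ∈ chevF4.diagonalSubgroup K) :
    u0 * h0 ∈ chevF4.borelSubgroup K :=
  Subgroup.mul_mem _ ((le_sup_left : chevF4.posUnipotent K ≤ chevF4.borelSubgroup K) hu0)
    ((le_sup_right : chevF4.diagonalSubgroup K ≤ chevF4.borelSubgroup K) hh0)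

/-- The cell of an element from a decomposition with respect to the ambient group. -/
theorem cellOf_eq (g : ↥(twistedF4 K (2 ^ m))) (x : W1) (b1 b2 : GL chevF4.Idx K)
    (hb1 : b1 ∈ chevF4.borelSubgroup K) (hb2 : b2 ∈ chevF4.borelSubgroup K)
    (e : (g : GL chevF4.Idx K) = b1 * rp hK x * b2) : cellOf hK g = x := by
  obtain ⟨P, hPB, hPN, -⟩ := Cfsg.Agent.S1042.result (F := K) chevF4 hD
  obtain ⟨u0, hu0, h0, hh0, u, hu, e2⟩ := nf_eq hK g
  have e3 : (u0 * h0) * rp hK (cellOf hK g) * u = b1 * rp hK x * b2 := by rw [← e2, e]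
  have hd := ambient_unique (hfK K) P hPB hPN (hBN K) (rp_N hK _) (rp_N hK x) (borel_of hu0.1 hh0.1)
    ((le_sup_left : chevF4.posUnipotent K ≤ chevF4.borelSubgroup K) (Um_le_pos chevF4 K _ hu.1)) hb1 hb2 e3
  have ha := actsAs_mul chevF4 K (hfK K) lit (actsAs_inv chevF4 K (hfK K) lit (rp_acts hK (cellOf hK g)))
    (rp_acts hK x)
  have h2 := actsAs_diag chevF4 K (hfK K) lit hchain litOK _ hd
  have h3 := actsAs_unique chevF4 K (hfK K) lit litOK (hx K) ha h2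
  exact Subtype.ext (inv_mul_eq_one.mp h3)

theorem cellOf_mul (g : ↥(twistedF4 K (2 ^ m))) (b b' : ↥(twistedF4 K (2 ^ m)))
    (hb : (b : GL chevF4.Idx K) ∈ chevF4.borelSubgroup K) (hb' : (b' : GL chevF4.Idx K) ∈ chevF4.borelSubgroup K) :
    cellOf hK (b * g * b') = cellOf hK g := by
  obtain ⟨u0, hu0, h0, hh0, u, hu, e2⟩ := nf_eq hK g
  apply cellOf_eq hK _ _ ((b : GL chevF4.Idx K) * (u0 * h0)) (u * (b' : GL chevF4.Idx K))
    (Subgroup.mul_mem _ hb (borel_of hu0.1 hh0.1))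
    (Subgroup.mul_mem _ ((le_sup_left : chevF4.posUnipotent K ≤ chevF4.borelSubgroup K)
      (Um_le_pos chevF4 K _ hu.1)) hb')
  rw [Subgroup.coe_mul, Subgroup.coe_mul, e2]
  group

theorem cellOf_rp (x : W1) : cellOf hK ⟨rp hK x, rp_G hK x⟩ = x := by
  apply cellOf_eq hK _ x 1 1 (Subgroup.one_mem _) (Subgroup.one_mem _)
  rw [one_mul, mul_one]

/-- `U¹` as a subgroup of the twisted group. -/
def U1 (K : Type*) [Field K] (m : ℕ) : Subgroup ↥(twistedF4 K (2 ^ m)) :=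
  (chevF4.posUnipotent K ⊓ twistedF4 K (2 ^ m)).subgroupOf (twistedF4 K (2 ^ m))

/-- `H¹` as a subgroup of the twisted group. -/
def H1 (K : Type*) [Field K] (m : ℕ) : Subgroup ↥(twistedF4 K (2 ^ m)) :=
  (chevF4.diagonalSubgroup K ⊓ twistedF4 K (2 ^ m)).subgroupOf (twistedF4 K (2 ^ m))

/-- The cell subgroups as subgroups of the twisted group. -/
noncomputable def Uw1 (x : W1) : Subgroup ↥(twistedF4 K (2 ^ m)) :=
  (Um chevF4 K (rp hK x) ⊓ twistedF4 K (2 ^ m)).subgroupOf (twistedF4 K (2 ^ m))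

/-- The representatives as elements of the twisted group. -/
noncomputable def nw1 (x : W1) : ↥(twistedF4 K (2 ^ m)) := ⟨rp hK x, rp_G hK x⟩

omit [Fintype K] in
theorem mem_U1 (g : ↥(twistedF4 K (2 ^ m))) : g ∈ U1 K m ↔ (g : GL chevF4.Idx K) ∈ chevF4.posUnipotent K := by
  unfold U1
  rw [Subgroup.mem_subgroupOf, Subgroup.mem_inf]
  exact ⟨fun h => h.1, fun h => ⟨h, g.2⟩⟩

omit [Fintype K] in
theorem mem_H1 (g : ↥(twistedF4 K (2 ^ m))) : g ∈ H1 K m ↔ (g : GL chevF4.Idx K) ∈ chevF4.diagonalSubgroup K := by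
  unfold H1
  rw [Subgroup.mem_subgroupOf, Subgroup.mem_inf]
  exact ⟨fun h => h.1, fun h => ⟨h, g.2⟩⟩

theorem mem_Uw1 (x : W1) (g : ↥(twistedF4 K (2 ^ m))) :
    g ∈ Uw1 hK x ↔ (g : GL chevF4.Idx K) ∈ rootClosure chevF4 K (SNeg chevF4 lit x.1) := by
  unfold Uw1
  rw [Subgroup.mem_subgroupOf, Subgroup.mem_inf, Um_eq chevF4 K (hfK K) lit litOK (hUV K) (hx1 K) (rp_acts hK x)]
  exact ⟨fun h => h.1, fun h => ⟨h, g.2⟩⟩

theorem one_mem_W1 : (1 : Equiv.Perm (Fin lit.n)) ∈ W1 := Subgroup.one_mem _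

theorem rp_one_mem : rp hK (1 : W1) ∈ chevF4.diagonalSubgroup K :=
  mem_diag_of_actsAs_one chevF4 K (hfK K) lit litOK (hNU K) (hBN K) _ (rp_N hK 1) (rp_acts hK 1)

omit [Fintype K] in
theorem SNeg_one (r : ℕ) : ¬ SNeg chevF4 lit (1 : Equiv.Perm (Fin lit.n)) r := by
  rintro ⟨hpos, hlt, hps⟩
  rw [Equiv.Perm.one_apply, (litOK.hpos r hpos.1).mpr hpos] at hps
  exact absurd hps (by decide)

theorem Uw1_one : Uw1 hK (1 : W1) = ⊥ := by
  rw [eq_bot_iff]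
  intro g hg
  rw [mem_Uw1] at hg
  have h : rootClosure chevF4 K (SNeg chevF4 lit ((1 : W1) : Equiv.Perm (Fin lit.n))) = ⊥ := by
    unfold rootClosure
    rw [Subgroup.closure_eq_bot_iff]
    rintro y ⟨r, t, hr, -⟩
    exact absurd hr (SNeg_one r)
  rw [h, Subgroup.mem_bot] at hg
  rw [Subgroup.mem_bot]
  exact Subtype.ext hg

/-- The longest element of the fixed subgroup of the Weyl group. -/
def w0 : W1 := ⟨lit'.wPerm wf' chainA, wPerm_mem_W1 chainA (by decide)⟩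

theorem Uw1_w0 : Uw1 hK w0 = U1 K m := by
  ext g
  rw [mem_Uw1, mem_U1, posUnipotent_eq]
  show g.1 ∈ rootClosure chevF4 K (SNeg chevF4 lit (lit'.wPerm wf' chainA)) ↔ _
  rw [sNeg_w0]

/-- The weight of a word: the exponent of the order of its cell subgroup. -/
def wt (tw : List ℕ) : ℕ := (tw.map fun a => if a = 0 then 1 else 2).sum

theorem prod_eq_pow (q : ℕ) : ∀ tw : List ℕ, (tw.map fun a => if a = 0 then q else q ^ 2).prod = q ^ wt tw
  | [] => by simp [wt]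
  | a :: tw => by
    have ih := prod_eq_pow q tw
    unfold wt at ih ⊢
    rw [List.map_cons, List.prod_cons, List.map_cons, List.sum_cons, ih, pow_add]
    split_ifs <;> simp

theorem wt_tab : ∀ tw ∈ words16, (wt tw = 0 → tw = []) ∧ (wt tw = 1 → tw = [0]) ∧ (wt tw = 2 → tw = [1]) ∧
    (wt tw = 12 → tw = chainA) := by decide

theorem card_Uw1 (tw : List ℕ) (htw : tw ∈ words16) :
    Nat.card (Uw1 hK ⟨lit'.wPerm wf' tw, wPerm_mem_W1 tw (words16_lt tw htw)⟩) = (2 ^ (2 * m + 1)) ^ wt tw := by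
  unfold Uw1
  rw [Nat.card_congr (Subgroup.subgroupOfEquivOfLe (inf_le_right : Um chevF4 K _ ⊓ twistedF4 K (2 ^ m) ≤
    twistedF4 K (2 ^ m))).toEquiv, Um_eq chevF4 K (hfK K) lit litOK (hUV K) (hx1 K) (rp_acts hK _),
    cell_card hK tw htw, prod_eq_pow]

theorem exists_word' (x : W1) : ∃ tw, ∃ htw : tw ∈ words16,
    x = ⟨lit'.wPerm wf' tw, wPerm_mem_W1 tw (words16_lt tw htw)⟩ := by
  obtain ⟨tw, htw, e⟩ := exists_word x.1 x.2
  exact ⟨tw, htw, Subtype.ext e⟩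

theorem pow_inj {a b : ℕ} (h : (2 ^ (2 * m + 1)) ^ a = (2 ^ (2 * m + 1)) ^ b) : a = b := by
  have h2 : 2 ≤ 2 ^ (2 * m + 1) := by
    calc 2 = 2 ^ 1 := by norm_num
      _ ≤ 2 ^ (2 * m + 1) := Nat.pow_le_pow_right (by norm_num) (by omega)
  exact Nat.pow_right_injective h2 h

/-- The elements of the fixed subgroup of the Weyl group given by the empty word, the two words of length one and the
longest word. -/
def wE : W1 := ⟨lit'.wPerm wf' [], wPerm_mem_W1 [] (by decide)⟩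

def wA : W1 := ⟨lit'.wPerm wf' [0], wPerm_mem_W1 [0] (by decide)⟩

def wB : W1 := ⟨lit'.wPerm wf' [1], wPerm_mem_W1 [1] (by decide)⟩

theorem wE_eq : wE = (1 : W1) := Subtype.ext rfl

theorem card_special (tw0 : List ℕ) (h0 : tw0 ∈ words16)
    (htab : ∀ tw ∈ words16, wt tw = wt tw0 → tw = tw0) (j : W1)
    (h : Nat.card (Uw1 hK j) = Nat.card (Uw1 hK ⟨lit'.wPerm wf' tw0, wPerm_mem_W1 tw0 (words16_lt tw0 h0)⟩)) :
    j = ⟨lit'.wPerm wf' tw0, wPerm_mem_W1 tw0 (words16_lt tw0 h0)⟩ := by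
  obtain ⟨tw, htw, rfl⟩ := exists_word' j
  rw [card_Uw1 hK tw htw, card_Uw1 hK tw0 h0] at h
  have := htab tw htw (pow_inj h)
  subst this
  rfl

theorem Uw1_bot (x : W1) (h : Uw1 hK x = ⊥) : x = 1 := by
  rw [← wE_eq]
  apply card_special hK [] (by decide) (fun tw htw h => (wt_tab tw htw).1 h) x
  rw [h]
  have : Uw1 hK ⟨lit'.wPerm wf' [], wPerm_mem_W1 [] (words16_lt [] (by decide))⟩ = ⊥ := Uw1_one hK
  rw [this]

omit [Fintype K] in
theorem uPar_pos (s : Fin 12 → K) : uPar m s ∈ chevF4.posUnipotent K := by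
  rw [posUnipotent_eq]
  exact uPar_mem_closure m s _ (fun r hr => Or.inl ((LF4_pos r).mp hr))

include hK in
/-- Every element of `U¹` is a parametrised element. -/
theorem exists_par (g : GL chevF4.Idx K) (hg : g ∈ chevF4.posUnipotent K ⊓ twistedF4 K (2 ^ m)) :
    ∃ s : Fin 12 → K, g = uPar m s := by
  let f : (Fin 12 → K) → ↥(chevF4.posUnipotent K ⊓ twistedF4 K (2 ^ m)) :=
    fun s => ⟨uPar m s, uPar_pos s, uPar_mem hK s⟩
  have hinj : Function.Injective f := by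
    intro s s' e
    exact uPar_inj m _ _ (congrArg Subtype.val e)
  have hbij : Function.Bijective f := by
    rw [Nat.bijective_iff_injective_and_card]
    refine ⟨hinj, ?_⟩
    rw [Cfsg.Agent.S1090.result hK, Nat.card_eq_fintype_card, Fintype.card_pi_const, hK]
  obtain ⟨s, hs⟩ := hbij.2 ⟨g, hg⟩
  exact ⟨s, (congrArg Subtype.val hs).symm⟩

include hK in
/-- Every element of `H¹` is a parametrised element. -/
theorem exists_parH (g : GL chevF4.Idx K) (hg : g ∈ chevF4.diagonalSubgroup K ⊓ twistedF4 K (2 ^ m)) :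
    ∃ ν κ : Kˣ, g = torusHom chevF4 K (pr m ν κ) := by
  classical
  let f : Kˣ × Kˣ → ↥(chevF4.diagonalSubgroup K ⊓ twistedF4 K (2 ^ m)) :=
    fun p => ⟨torusHom chevF4 K (pr m p.1 p.2), torusHom_mem _, pr_mem hK p.1 p.2⟩
  have hinj : Function.Injective f := by
    intro p p' e
    have e1 : torusHom chevF4 K (pr m p.1 p.2) = torusHom chevF4 K (pr m p'.1 p'.2) := congrArg Subtype.val e
    exact pr_injective (torusHom_injective e1)
  have hbij : Function.Bijective f := by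
    rw [Nat.bijective_iff_injective_and_card]
    refine ⟨hinj, ?_⟩
    rw [Cfsg.Agent.S1110.result hK, Nat.card_prod, Nat.card_eq_fintype_card, Fintype.card_units, hK, sq]
  obtain ⟨p, hp⟩ := hbij.2 ⟨g, hg⟩
  exact ⟨p.1, p.2, (congrArg Subtype.val hp).symm⟩

include hK in
/-- A generator of the multiplicative group of the field. -/
theorem exists_gen : ∃ g : Kˣ, orderOf g = 2 ^ (2 * m + 1) - 1 := by
  obtain ⟨g, hg⟩ := IsCyclic.exists_generator (α := Kˣ)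
  refine ⟨g, ?_⟩
  rw [orderOf_eq_card_of_forall_mem_zpowers hg, Nat.card_units, Nat.card_eq_fintype_card, hK]

theorem theta_ge (hm : 1 ≤ m) : 2 ≤ 2 ^ m := by
  calc 2 = 2 ^ 1 := by norm_num
    _ ≤ 2 ^ m := Nat.pow_le_pow_right (by norm_num) hm

omit [Fintype K] in
/-- A power of a generator with a small non-zero exponent is not trivial. -/
theorem gen_ne_one (hm : 1 ≤ m) (g : Kˣ) (hg : orderOf g = 2 ^ (2 * m + 1) - 1) (a b : ℤ)
    (ha : a = 0 ∨ a = 2 ∨ a = -2) (hb : -2 ≤ b ∧ b ≤ 2) (hne : a ≠ 0 ∨ b ≠ 0) :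
    (g ^ 2 ^ m) ^ a * g ^ b ≠ 1 := by
  intro h
  have e : (g ^ 2 ^ m) ^ a * g ^ b = g ^ (((2 ^ m : ℕ) : ℤ) * a + b) := by
    rw [zpow_add, zpow_mul, zpow_natCast]
  rw [e, ← orderOf_dvd_iff_zpow_eq_one, hg] at h
  have hθ := theta_ge hm
  have hq : 2 ^ (2 * m + 1) = 2 * (2 ^ m * 2 ^ m) := by ring
  have hq2 : 4 * 2 ^ m ≤ 2 * (2 ^ m * 2 ^ m) := by nlinarith
  set θ : ℕ := 2 ^ m with hθdef
  have hN : ((2 ^ (2 * m + 1) - 1 : ℕ) : ℤ) = 2 * ((θ : ℤ) * θ) - 1 := by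
    rw [hq]
    have : 1 ≤ 2 * (θ * θ) := by nlinarith
    push_cast [Nat.cast_sub this]
    ring
  rw [hN] at h
  have hθ' : (2 : ℤ) ≤ θ := by exact_mod_cast hθ
  have hq2' : 4 * (θ : ℤ) ≤ 2 * ((θ : ℤ) * θ) := by exact_mod_cast hq2
  have h0 := Int.eq_zero_of_abs_lt_dvd h (by
    rw [abs_lt]
    rcases ha with rfl | rfl | rfl <;> constructor <;> nlinarith)
  rcases ha with rfl | rfl | rfl
  · rcases hne with h1 | h1
    · exact h1 rfl
    · apply h1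
      linarith
  · linarith
  · linarith

theorem cartanTab12 : (chevF4.cartan 0 24 = 0 ∧ chevF4.cartan 3 24 = 2) ∧ (chevF4.cartan 0 25 = 0 ∧ chevF4.cartan 3 25 = -1) ∧
    (chevF4.cartan 0 30 = -2 ∧ chevF4.cartan 3 30 = -1) ∧ (chevF4.cartan 0 26 = 0 ∧ chevF4.cartan 3 26 = 1) ∧
    (chevF4.cartan 0 42 = 2 ∧ chevF4.cartan 3 42 = 1) ∧ (chevF4.cartan 0 32 = -2 ∧ chevF4.cartan 3 32 = 0) ∧
    (chevF4.cartan 0 43 = 2 ∧ chevF4.cartan 3 43 = 0) ∧ (chevF4.cartan 0 31 = -2 ∧ chevF4.cartan 3 31 = 1) ∧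
    (chevF4.cartan 0 46 = 0 ∧ chevF4.cartan 3 46 = -1) ∧ (chevF4.cartan 0 41 = 2 ∧ chevF4.cartan 3 41 = -1) ∧
    (chevF4.cartan 0 47 = 0 ∧ chevF4.cartan 3 47 = 1) ∧ (chevF4.cartan 1 45 = 2 ∧ chevF4.cartan 2 45 = -1) := by
  decide +kernel

omit [Fintype K] in
theorem chi_pr1 (ν : Kˣ) (r : ℕ) : chi chevF4 K (ext chevF4 K (pr m ν 1)) r =
    (ν ^ 2 ^ m) ^ chevF4.cartan 0 r * ν ^ chevF4.cartan 3 r := by
  rw [chi_pr, one_pow, one_zpow, one_zpow, mul_one, mul_one]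

omit [Fintype K] in
theorem chi_pr2 (κ : Kˣ) (r : ℕ) : chi chevF4 K (ext chevF4 K (pr m 1 κ)) r =
    (κ ^ 2 ^ m) ^ chevF4.cartan 1 r * κ ^ chevF4.cartan 2 r := by
  rw [chi_pr, one_pow, one_zpow, one_zpow, one_mul, mul_one]

omit [Fintype K] in
theorem parF4_long (s : Fin 12 → K) : parF4 m s 24 = s 0 ∧ parF4 m s 25 = s 1 ∧ parF4 m s 30 = s 2 ∧
    parF4 m s 26 = s 3 ∧ parF4 m s 42 = s 4 ∧ parF4 m s 32 = s 5 ∧ parF4 m s 43 = s 6 ∧ parF4 m s 31 = s 7 ∧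
    parF4 m s 46 = s 8 ∧ parF4 m s 41 = s 9 ∧ parF4 m s 47 = s 10 ∧ parF4 m s 45 = s 11 :=
  ⟨rfl, rfl, rfl, rfl, rfl, rfl, rfl, rfl, rfl, rfl, rfl, rfl⟩

include hK in
/-- An element of `U¹` centralised by `H¹` is trivial. -/
theorem cent_U (hm : 1 ≤ m) (g : GL chevF4.Idx K) (hg : g ∈ chevF4.posUnipotent K ⊓ twistedF4 K (2 ^ m))
    (hc : ∀ ν κ : Kˣ, torusHom chevF4 K (pr m ν κ) * g * (torusHom chevF4 K (pr m ν κ))⁻¹ = g) : g = 1 := by
  obtain ⟨g0, hg0⟩ := exists_gen hK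
  have key : ∀ y ∈ chevF4.posUnipotent K ⊓ twistedF4 K (2 ^ m),
      (∀ ν κ : Kˣ, torusHom chevF4 K (pr m ν κ) * y * (torusHom chevF4 K (pr m ν κ))⁻¹ = y) →
      y = uPar m (0 : Fin 12 → K) := by
    intro y hy hcy
    obtain ⟨s, rfl⟩ := exists_par hK y hy
    have hχ1 := isRootCharacter_chi chevF4 K (hfK K).hca (ext chevF4 K (pr m g0 1))
    have hχ2 := isRootCharacter_chi chevF4 K (hfK K).hca (ext chevF4 K (pr m 1 g0))
    have f1 := fixed_params _ hχ1 m s (hcy g0 1)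
    have f2 := fixed_params _ hχ2 m s (hcy 1 g0)
    obtain ⟨p0, p1, p2, p3, p4, p5, p6, p7, p8, p9, p10, p11⟩ := parF4_long (m := m) s
    obtain ⟨c0, c1, c2, c3, c4, c5, c6, c7, c8, c9, c10, c11⟩ := cartanTab12
    have n1 : ∀ (r : ℕ) (a b : ℤ), chevF4.cartan 0 r = a → chevF4.cartan 3 r = b → (a = 0 ∨ a = 2 ∨ a = -2) →
        (-2 ≤ b ∧ b ≤ 2) → (a ≠ 0 ∨ b ≠ 0) → chi chevF4 K (ext chevF4 K (pr m g0 1)) r ≠ 1 := by
      intro r a b h1 h2 ha hb hne
      rw [chi_pr1, h1, h2]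
      exact gen_ne_one hm g0 hg0 a b ha hb hne
    have n2 : chi chevF4 K (ext chevF4 K (pr m 1 g0)) 45 ≠ 1 := by
      rw [chi_pr2, c11.1, c11.2]
      exact gen_ne_one hm g0 hg0 2 (-1) (by simp) (by simp) (by simp)
    have z0 : s 0 = 0 := by
      rw [← p0]
      exact eq_zero_of_mul_eq _ _ (n1 24 0 2 c0.1 c0.2 (by simp) (by simp) (by simp)) (f1 24 (by decide))
    have z1 : s 1 = 0 := by
      rw [← p1]
      exact eq_zero_of_mul_eq _ _ (n1 25 0 (-1) c1.1 c1.2 (by simp) (by simp) (by simp)) (f1 25 (by decide))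
    have z2 : s 2 = 0 := by
      rw [← p2]
      exact eq_zero_of_mul_eq _ _ (n1 30 (-2) (-1) c2.1 c2.2 (by simp) (by simp) (by simp)) (f1 30 (by decide))
    have z3 : s 3 = 0 := by
      rw [← p3]
      exact eq_zero_of_mul_eq _ _ (n1 26 0 1 c3.1 c3.2 (by simp) (by simp) (by simp)) (f1 26 (by decide))
    have z4 : s 4 = 0 := by
      rw [← p4]
      exact eq_zero_of_mul_eq _ _ (n1 42 2 1 c4.1 c4.2 (by simp) (by simp) (by simp)) (f1 42 (by decide))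
    have z5 : s 5 = 0 := by
      rw [← p5]
      exact eq_zero_of_mul_eq _ _ (n1 32 (-2) 0 c5.1 c5.2 (by simp) (by simp) (by simp)) (f1 32 (by decide))
    have z6 : s 6 = 0 := by
      rw [← p6]
      exact eq_zero_of_mul_eq _ _ (n1 43 2 0 c6.1 c6.2 (by simp) (by simp) (by simp)) (f1 43 (by decide))
    have z7 : s 7 = 0 := by
      rw [← p7]
      exact eq_zero_of_mul_eq _ _ (n1 31 (-2) 1 c7.1 c7.2 (by simp) (by simp) (by simp)) (f1 31 (by decide))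
    have z8 : s 8 = 0 := by
      rw [← p8]
      exact eq_zero_of_mul_eq _ _ (n1 46 0 (-1) c8.1 c8.2 (by simp) (by simp) (by simp)) (f1 46 (by decide))
    have z9 : s 9 = 0 := by
      rw [← p9]
      exact eq_zero_of_mul_eq _ _ (n1 41 2 (-1) c9.1 c9.2 (by simp) (by simp) (by simp)) (f1 41 (by decide))
    have z10 : s 10 = 0 := by
      rw [← p10]
      exact eq_zero_of_mul_eq _ _ (n1 47 0 1 c10.1 c10.2 (by simp) (by simp) (by simp)) (f1 47 (by decide))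
    have z11 : s 11 = 0 := by
      rw [← p11]
      exact eq_zero_of_mul_eq _ _ n2 (f2 45 (by decide))
    congr 1
    funext i
    fin_cases i
    · exact z0
    · exact z1
    · exact z2
    · exact z3
    · exact z4
    · exact z5
    · exact z6
    · exact z7
    · exact z8
    · exact z9
    · exact z10
    · exact z11
  rw [key g hg hc, ← key 1 (Subgroup.one_mem _) (by
    intro ν κ
    rw [mul_one, mul_inv_cancel])]

end cells

open Cfsg.Agent.Lib.Helper18_TwistA Cfsg.Agent.Lib.Helper18_TwistB Cfsg.Agent.Lib.Helper18_TwistF4A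
  Cfsg.Agent.Lib.Helper18_ChevAutC

section cells2

variable {K : Type*} [Field K] [Fintype K] {m : ℕ} (hK : Fintype.card K = 2 ^ (2 * m + 1))

include hK in
theorem sylow_U1 : ∃ S : Sylow 2 ↥(twistedF4 K (2 ^ m)), (S : Subgroup ↥(twistedF4 K (2 ^ m))) = U1 K m := by
  have : Fact (Nat.Prime 2) := ⟨Nat.prime_two⟩
  have hp : IsPGroup 2 ↥(U1 K m) := IsPGroup.of_card (n := 12 * (2 * m + 1)) (card_U1 hK)
  exact ⟨hp.toSylow (index_U1 hK), IsPGroup.toSylow_coe _ _⟩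

theorem Uw1_le (x : W1) : Uw1 hK x ≤ U1 K m := by
  intro g hg
  rw [mem_U1]
  unfold Uw1 at hg
  rw [Subgroup.mem_subgroupOf, Subgroup.mem_inf] at hg
  exact Um_le_pos chevF4 K _ hg.1

omit [Fintype K] in
theorem H1_norm (h : ↥(twistedF4 K (2 ^ m))) (hh : h ∈ H1 K m) (u : ↥(twistedF4 K (2 ^ m))) (hu : u ∈ U1 K m) :
    h * u * h⁻¹ ∈ U1 K m := by
  rw [mem_H1] at hh
  rw [mem_U1] at hu ⊢
  have := (Subgroup.mem_normalizer_iff.mp (hnorm K hh) (u : GL chevF4.Idx K)).mp hu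
  simpa using this

theorem H1_normW (x : W1) (h : ↥(twistedF4 K (2 ^ m))) (hh : h ∈ H1 K m) (u : ↥(twistedF4 K (2 ^ m)))
    (hu : u ∈ Uw1 hK x) : h * u * h⁻¹ ∈ Uw1 hK x := by
  rw [mem_H1] at hh
  rw [mem_Uw1] at hu ⊢
  have hn := diag_le_normalizer chevF4 K (hfK K) hchain (SNeg chevF4 lit x.1) (fun r hr => hr.1.1) hh
  have := (Subgroup.mem_normalizer_iff.mp hn (u : GL chevF4.Idx K)).mp hu
  simpa using this

omit [Fintype K] in
theorem U1_H1 (x : ↥(twistedF4 K (2 ^ m))) (hu : x ∈ U1 K m) (hh : x ∈ H1 K m) : x = 1 := by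
  rw [mem_U1] at hu
  rw [mem_H1] at hh
  have : (x : GL chevF4.Idx K) ∈ chevF4.posUnipotent K ⊓ chevF4.diagonalSubgroup K := Subgroup.mem_inf.mpr ⟨hu, hh⟩
  rw [hUH K, Subgroup.mem_bot] at this
  exact Subtype.ext this

omit [Fintype K] in
theorem U1_borel (x : ↥(twistedF4 K (2 ^ m))) (hu : x ∈ U1 K m) : (x : GL chevF4.Idx K) ∈ chevF4.borelSubgroup K :=
  (le_sup_left : chevF4.posUnipotent K ≤ chevF4.borelSubgroup K) ((mem_U1 x).mp hu)

omit [Fintype K] in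
theorem H1_borel (x : ↥(twistedF4 K (2 ^ m))) (hu : x ∈ H1 K m) : (x : GL chevF4.Idx K) ∈ chevF4.borelSubgroup K :=
  (le_sup_right : chevF4.diagonalSubgroup K ≤ chevF4.borelSubgroup K) ((mem_H1 x).mp hu)

theorem cell_left (b : ↥(twistedF4 K (2 ^ m))) (hb : (b : GL chevF4.Idx K) ∈ chevF4.borelSubgroup K)
    (g : ↥(twistedF4 K (2 ^ m))) : cellOf hK (b * g) = cellOf hK g := by
  have := cellOf_mul hK g b 1 hb (Subgroup.one_mem _)
  rwa [mul_one] at this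

theorem cell_right (b : ↥(twistedF4 K (2 ^ m))) (hb : (b : GL chevF4.Idx K) ∈ chevF4.borelSubgroup K)
    (g : ↥(twistedF4 K (2 ^ m))) : cellOf hK (g * b) = cellOf hK g := by
  have := cellOf_mul hK g 1 b (Subgroup.one_mem _) hb
  rwa [one_mul] at this

theorem nf1 (g : ↥(twistedF4 K (2 ^ m))) : ∃ u ∈ U1 K m, ∃ h ∈ H1 K m, ∃ u' ∈ Uw1 hK (cellOf hK g),
    g = u * h * nw1 hK (cellOf hK g) * u' := by
  obtain ⟨u0, hu0, h0, hh0, u, hu, e⟩ := nf_eq hK g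
  refine ⟨⟨u0, hu0.2⟩, (mem_U1 _).mpr hu0.1, ⟨h0, hh0.2⟩, (mem_H1 _).mpr hh0.1, ⟨u, hu.2⟩, ?_, Subtype.ext e⟩
  unfold Uw1
  rw [Subgroup.mem_subgroupOf]
  exact hu

theorem uniq1 (i : W1) (u : ↥(twistedF4 K (2 ^ m))) (hu : u ∈ U1 K m) (h : ↥(twistedF4 K (2 ^ m))) (hh : h ∈ H1 K m)
    (u' : ↥(twistedF4 K (2 ^ m))) (hu' : u' ∈ Uw1 hK i)
    (v : ↥(twistedF4 K (2 ^ m))) (hv : v ∈ U1 K m) (k : ↥(twistedF4 K (2 ^ m))) (hk : k ∈ H1 K m)
    (v' : ↥(twistedF4 K (2 ^ m))) (hv' : v' ∈ Uw1 hK i)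
    (e : u * h * nw1 hK i * u' = v * k * nw1 hK i * v') : u = v ∧ h = k ∧ u' = v' := by
  unfold U1 at hu hv
  unfold H1 at hh hk
  unfold Uw1 at hu' hv'
  rw [Subgroup.mem_subgroupOf] at hu hv hh hk hu' hv'
  have hinj := (nfEquiv hK).injective
  have e2 : nfEquiv hK ⟨i, (⟨u.1, hu⟩, ⟨h.1, hh⟩), ⟨u'.1, hu'⟩⟩ = nfEquiv hK ⟨i, (⟨v.1, hv⟩, ⟨k.1, hk⟩), ⟨v'.1, hv'⟩⟩ := by
    apply Subtype.ext
    exact congrArg Subtype.val e
  have e3 := hinj e2
  simp only [Sigma.mk.injEq, heq_eq_eq, true_and, Prod.mk.injEq, Subtype.mk.injEq] at e3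
  have e4 := Subtype.mk.inj e3.2
  exact ⟨Subtype.ext e3.1.1, Subtype.ext e3.1.2, Subtype.ext e4⟩

theorem nw1_norm (i : W1) (h : ↥(twistedF4 K (2 ^ m))) (hh : h ∈ H1 K m) :
    nw1 hK i * h * (nw1 hK i)⁻¹ ∈ H1 K m := by
  rw [mem_H1] at hh ⊢
  have hn := Cfsg.Agent.Lib.Helper36_ChevCore.monomial_le_normalizer chevF4 K (hfK K) (rp_N hK i)
  have := (Subgroup.mem_normalizer_iff.mp hn (h : GL chevF4.Idx K)).mp hh
  simpa [nw1] using this

theorem nw1_norm' (i : W1) (h : ↥(twistedF4 K (2 ^ m))) (hh : h ∈ H1 K m) :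
    (nw1 hK i)⁻¹ * h * nw1 hK i ∈ H1 K m := by
  rw [mem_H1] at hh ⊢
  have hn := Cfsg.Agent.Lib.Helper36_ChevCore.monomial_le_normalizer chevF4 K (hfK K) (rp_N hK i)
  have := (Subgroup.mem_normalizer_iff.mp hn ((rp hK i)⁻¹ * (h : GL chevF4.Idx K) * rp hK i)).mpr (by
    have e : rp hK i * ((rp hK i)⁻¹ * (h : GL chevF4.Idx K) * rp hK i) * (rp hK i)⁻¹ = h := by group
    rw [e]
    exact hh)
  simpa [nw1] using this

include hK in
theorem cent1 (hm : 1 ≤ m) (u : ↥(twistedF4 K (2 ^ m))) (hu : u ∈ U1 K m)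
    (hc : ∀ h ∈ H1 K m, h * u * h⁻¹ = u) : u = 1 := by
  apply Subtype.ext
  apply cent_U hK hm u.1 ⟨(mem_U1 u).mp hu, u.2⟩
  intro ν κ
  have := hc ⟨torusHom chevF4 K (pr m ν κ), pr_mem hK ν κ⟩ ((mem_H1 _).mpr (torusHom_mem _))
  exact congrArg Subtype.val this

/-- The normal form of the twisted group. -/
noncomputable def cellData (hm : 1 ≤ m) : CellData ↥(twistedF4 K (2 ^ m)) W1 2 where
  U := U1 K m
  H := H1 K m
  nw := nw1 hK
  Uw := Uw1 hK
  cellOf := cellOf hK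
  i1 := 1
  i0 := w0
  sylow := sylow_U1 hK
  Uw_le := Uw1_le hK
  H_norm := H1_norm
  H_normW := H1_normW hK
  UH := U1_H1
  cell_U_mul := fun u hu g => cell_left hK u (U1_borel u hu) g
  cell_H_mul := fun u hu g => cell_left hK u (H1_borel u hu) g
  cell_mul_U := fun u hu g => cell_right hK u (U1_borel u hu) g
  cell_mul_H := fun u hu g => cell_right hK u (H1_borel u hu) g
  cell_nw := cellOf_rp hK
  nf := nf1 hK
  uniq := uniq1 hK
  nw_norm := nw1_norm hK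
  nw_norm' := nw1_norm' hK
  nw_one := (mem_H1 _).mpr (rp_one_mem hK)
  Uw_one := Uw1_one hK
  Uw_top := Uw1_w0 hK
  Uw_bot := Uw1_bot hK
  cent := cent1 hK hm


theorem special_w0 (hm : 1 ≤ m) : (cellData hK hm).Special (cellData hK hm).i0 := by
  intro j h
  exact card_special hK chainA (by decide) (fun tw htw h => (wt_tab tw htw).2.2.2 h) j h

theorem special_wA (hm : 1 ≤ m) : (cellData hK hm).Special wA := by
  intro j h
  exact card_special hK [0] (by decide) (fun tw htw h => (wt_tab tw htw).2.1 h) j h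

theorem special_wB (hm : 1 ≤ m) : (cellData hK hm).Special wB := by
  intro j h
  exact card_special hK [1] (by decide) (fun tw htw h => (wt_tab tw htw).2.2.1 h) j h

theorem w0_neg_tab : ∀ r < lit.n, lit.ps r = false → lit.ps (evalWord lit' chainA r) = true := by decide +kernel

theorem w0_inv : (w0 : W1).1⁻¹ = (w0 : W1).1 := by
  rw [inv_eq_iff_mul_eq_one]
  exact w0_sq

/-- Every cell subgroup is mapped into `U` by the representatives of its element and of the longest element. -/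
theorem isRoot1 (hm : 1 ≤ m) (x : W1) : (cellData hK hm).IsRoot x := by
  apply CellData.isRoot_of
  intro u hu
  have hu' : (u : GL chevF4.Idx K) ∈ rootClosure chevF4 K (SNeg chevF4 lit x.1) := (mem_Uw1 hK x u).mp hu
  show (nw1 hK w0)⁻¹ * (nw1 hK x * u * (nw1 hK x)⁻¹) * nw1 hK w0 ∈ U1 K m
  rw [mem_U1, posUnipotent_eq]
  have hact : ActsAs chevF4 K (hfK K) lit ((rp hK w0)⁻¹ * rp hK x) ((w0 : W1).1⁻¹ * x.1) :=
    actsAs_mul chevF4 K (hfK K) lit (actsAs_inv chevF4 K (hfK K) lit (rp_acts hK w0)) (rp_acts hK x)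
  have h := conj_rootClosure chevF4 K (hfK K) lit litOK hact (SNeg chevF4 lit x.1) chevF4.IsPosRoot
    (fun r hr => hr.1.1) (by
      rintro r ⟨-, hlt, hneg⟩
      rw [Equiv.Perm.mul_apply, w0_inv]
      have hr' : ((x.1 r : Fin lit.n) : ℕ) < lit.n := (x.1 r).2
      have := w0_neg_tab _ hr' hneg
      have e : lit.ps ((w0 : W1).1 (x.1 r)) = true := by
        show lit.ps (lit'.wPerm wf' chainA (x.1 r)) = true
        rw [wPerm_eval lit' wf' chainA (by decide)]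
        exact this
      exact (litOK.hpos _ (litOK.hn ▸ ((w0 : W1).1 (x.1 r)).2)).mp e) u.1 hu'
  have e : (((nw1 hK w0)⁻¹ * (nw1 hK x * u * (nw1 hK x)⁻¹) * nw1 hK w0 : ↥(twistedF4 K (2 ^ m))) : GL chevF4.Idx K) =
      ((rp hK w0)⁻¹ * rp hK x) * u.1 * ((rp hK w0)⁻¹ * rp hK x)⁻¹ := by
    simp only [nw1, Subgroup.coe_mul, Subgroup.coe_inv]
    group
  rw [e]
  exact h

theorem wPerm_single (a : ℕ) : lit'.wPerm wf' [a] = lit'.sPerm wf' a := by
  rw [wPerm_cons, wPerm_nil, mul_one]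

/-- An element of the twisted group lying in the subgroup `B` of the ambient group lies in the first cell. -/
theorem cellOf_borel (g : ↥(twistedF4 K (2 ^ m))) (hg : (g : GL chevF4.Idx K) ∈ chevF4.borelSubgroup K) :
    cellOf hK g = 1 := by
  apply cellOf_eq hK g 1 (g * (rp hK 1)⁻¹) 1
    (Subgroup.mul_mem _ hg (Subgroup.inv_mem _ ((le_sup_right : chevF4.diagonalSubgroup K ≤ chevF4.borelSubgroup K)
      (rp_one_mem hK)))) (Subgroup.one_mem _)
  group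

/-- The conjugate of a non-trivial element of a distinguished cell subgroup by the representative lies in the same
cell. -/
theorem conj_cell (hm : 1 ≤ m) (a : ℕ) (ha : a < 2) (xa : W1) (hxa : xa.1 = lit'.sPerm wf' a)
    (x : ↥(twistedF4 K (2 ^ m))) (hxW : x ∈ Uw1 hK xa) (hx1 : x ≠ 1) :
    cellOf hK (nw1 hK xa * x * (nw1 hK xa)⁻¹) = xa := by
  obtain ⟨P, hPB, hPN, -⟩ := Cfsg.Agent.S1042.result (F := K) chevF4 hD
  have Y := genData hK
  have hHle : chevF4.diagonalSubgroup K ≤ chevF4.borelSubgroup K := le_sup_right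
  have hBle : chevF4.posUnipotent K ≤ chevF4.borelSubgroup K := le_sup_left
  have hsN : sgF K a ∈ chevF4.monomialSubgroup K := sgF_N a ha
  have hsG : sgF K a ∈ twistedF4 K (2 ^ m) := sgF_mem hK a ha
  have hsact : ActsAs chevF4 K (hfK K) lit (sgF K a) (lit'.sPerm wf' a) := sgF_act a ha
  have hnact : ActsAs chevF4 K (hfK K) lit (rp hK xa) (lit'.sPerm wf' a) := hxa ▸ rp_acts hK xa
  have hsq : lit'.sPerm wf' a * lit'.sPerm wf' a = 1 := Y.sq a ha
  have hinv : (lit'.sPerm wf' a)⁻¹ = lit'.sPerm wf' a := inv_eq_iff_mul_eq_one.mpr hsq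
  -- `n = s h`
  have hh : (sgF K a)⁻¹ * rp hK xa ∈ chevF4.diagonalSubgroup K := by
    apply mem_diag_of_actsAs_one chevF4 K (hfK K) lit litOK (hNU K) (hBN K) _
      (Subgroup.mul_mem _ (Subgroup.inv_mem _ hsN) (rp_N hK xa))
    have := actsAs_mul chevF4 K (hfK K) lit (actsAs_inv chevF4 K (hfK K) lit hsact) hnact
    rwa [hinv, hsq] at this
  have hh2 : (sgF K a)⁻¹ * (rp hK xa)⁻¹ ∈ chevF4.diagonalSubgroup K := by
    apply mem_diag_of_actsAs_one chevF4 K (hfK K) lit litOK (hNU K) (hBN K) _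
      (Subgroup.mul_mem _ (Subgroup.inv_mem _ hsN) (Subgroup.inv_mem _ (rp_N hK xa)))
    have := actsAs_mul chevF4 K (hfK K) lit (actsAs_inv chevF4 K (hfK K) lit hsact)
      (actsAs_inv chevF4 K (hfK K) lit hnact)
    rwa [hinv, hsq] at this
  obtain ⟨h, hhdef⟩ : ∃ h : ↥(twistedF4 K (2 ^ m)), (h : GL chevF4.Idx K) = (sgF K a)⁻¹ * rp hK xa :=
    ⟨⟨(sgF K a)⁻¹ * rp hK xa, Subgroup.mul_mem _ (Subgroup.inv_mem _ hsG) (rp_G hK xa)⟩, rfl⟩
  have hhH : h ∈ H1 K m := (mem_H1 _).mpr (hhdef ▸ hh)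
  have hx'W : h * x * h⁻¹ ∈ Uw1 hK xa := H1_normW hK xa h hhH x hxW
  have hx'B : ((h * x * h⁻¹ : ↥(twistedF4 K (2 ^ m))) : GL chevF4.Idx K) ∈ chevF4.borelSubgroup K :=
    hBle ((mem_U1 _).mp (Uw1_le hK xa hx'W))
  obtain ⟨b1, hb1, b2, hb2, e⟩ := Cfsg.Agent.Lib.Helper36_TwistAbs.twisted_union (hfK K) (twAbs hK) litOK hchain (hx K)
    (hBN K) Y P hPB hPN a ha (sgF K a)⁻¹ (Subgroup.inv_mem _ hsN) (Subgroup.inv_mem _ hsG) _ hx'B
    (h * x * h⁻¹ : ↥(twistedF4 K (2 ^ m))).2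
  have e0 : ((nw1 hK xa * x * (nw1 hK xa)⁻¹ : ↥(twistedF4 K (2 ^ m))) : GL chevF4.Idx K) =
      sgF K a * ((h * x * h⁻¹ : ↥(twistedF4 K (2 ^ m))) : GL chevF4.Idx K) * (sgF K a)⁻¹ := by
    simp only [nw1, Subgroup.coe_mul, Subgroup.coe_inv, hhdef]
    group
  rcases e with e | e
  · exfalso
    apply hx1
    have hc : cellOf hK (nw1 hK xa * x * (nw1 hK xa)⁻¹) = 1 := by
      apply cellOf_borel
      rw [e0, e, mul_inv_cancel, mul_one]
      exact Subgroup.mul_mem _ hb1.1 hb2.1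
    exact (cellData hK hm).conj_not_mem_B xa x hxW (((cellData hK hm).mem_B_iff _).mpr hc)
  · apply cellOf_eq hK _ xa (b1 * ((sgF K a)⁻¹ * (rp hK xa)⁻¹)) b2 (Subgroup.mul_mem _ hb1.1 (hHle hh2)) hb2.1
    rw [e0, e]
    group

end cells2

section params

variable {K : Type*} [Field K] [Fintype K] [CharP K 2] {m : ℕ} (hK : Fintype.card K = 2 ^ (2 * m + 1))

/-- The field automorphism of the twisting. -/
noncomputable def thetaHom (K : Type*) [Field K] [CharP K 2] (m : ℕ) : K →+* K := iterateFrobenius K 2 m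

omit [Fintype K] in
theorem thetaHom_apply (x : K) : thetaHom K m x = x ^ 2 ^ m := iterateFrobenius_def 2 m x

include hK in
theorem theta_theta (x : K) : (thetaHom K m (thetaHom K m x)) ^ 2 = x := by
  rw [thetaHom_apply, thetaHom_apply, ← pow_mul, ← pow_mul]
  have e : 2 ^ m * (2 ^ m * 2) = 2 ^ (2 * m + 1) := by ring
  rw [e, ← hK, FiniteField.pow_card]

omit [Fintype K] [CharP K 2] in
theorem uPar_s0 (t : K) : uPar m (s0 t) = xGL dc 33 (t ^ 2 ^ m) * xGL dc 24 t := by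
  have z1 : (0 : K) ^ 2 ^ m = 0 := zero_pow (by positivity)
  have z2 : (0 : K) ^ (2 ^ m + 1) = 0 := zero_pow (Nat.succ_ne_zero _)
  simp [uPar, LF4, wordGL_cons, wordGL_nil, parF4, s0, z1, z2, xGL_zero]

omit [Fintype K] [CharP K 2] in
theorem uPar_s1 (t w : K) : uPar m (s1 t w) =
    xGL dc 27 (t ^ 2 ^ m) * xGL dc 25 t * xGL dc 28 (t ^ (2 ^ m + 1) + w ^ 2 ^ m) * xGL dc 30 w := by
  have z1 : (0 : K) ^ 2 ^ m = 0 := zero_pow (by positivity)
  have z2 : (0 : K) ^ (2 ^ m + 1) = 0 := zero_pow (Nat.succ_ne_zero _)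
  simp [uPar, LF4, wordGL_cons, wordGL_nil, parF4, s1, z1, z2, xGL_zero, mul_assoc]

omit [Fintype K] in
theorem uPar_s0_add (s t : K) : uPar m (s0 (s + t)) = uPar m (s0 s) * uPar m (s0 t) := by
  rw [uPar_s0, uPar_s0, uPar_s0, ← thetaHom_apply, map_add, ← xGL_mul, ← xGL_mul, thetaHom_apply, thetaHom_apply]
  have h := comm_of_cert dc (certs K).r2 commCert_pos (t ^ 2 ^ m) s
  calc xGL dc 33 (s ^ 2 ^ m) * xGL dc 33 (t ^ 2 ^ m) * (xGL dc 24 s * xGL dc 24 t)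
      = xGL dc 33 (s ^ 2 ^ m) * (xGL dc 33 (t ^ 2 ^ m) * xGL dc 24 s) * xGL dc 24 t := by group
    _ = xGL dc 33 (s ^ 2 ^ m) * (xGL dc 24 s * xGL dc 33 (t ^ 2 ^ m)) * xGL dc 24 t := by rw [h]
    _ = _ := by group

include hK in
theorem uPar_s1_mul (t w t' w' : K) : uPar m (s1 t w) * uPar m (s1 t' w') =
    uPar m (s1 (t + t') (w + w' + t * (thetaHom K m t') ^ 2)) := by
  have R := b2Rel_of_cert dc (certs K).r2 b2Cert_pos (K := K)
  rw [uPar_s1, uPar_s1, uPar_s1]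
  set a := t ^ 2 ^ m with ha
  set a' := t' ^ 2 ^ m with ha'
  have e27 : (t + t') ^ 2 ^ m = a + a' := by
    rw [← thetaHom_apply, map_add, thetaHom_apply, thetaHom_apply]
  have e30 : w + w' + t * (thetaHom K m t') ^ 2 = w + (w' + a' ^ 2 * t) := by
    rw [thetaHom_apply]
    ring
  have e28 : (t + t') ^ (2 ^ m + 1) + (w + w' + t * (thetaHom K m t') ^ 2) ^ 2 ^ m =
      (t ^ (2 ^ m + 1) + w ^ 2 ^ m) + ((t' ^ (2 ^ m + 1) + w' ^ 2 ^ m) + a' * t) := by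
    have h1 : (w + w' + t * (thetaHom K m t') ^ 2) ^ 2 ^ m = w ^ 2 ^ m + w' ^ 2 ^ m + a * t' := by
      rw [← thetaHom_apply, map_add, map_add, map_mul, map_pow, theta_theta hK, thetaHom_apply, thetaHom_apply,
        thetaHom_apply]
    have h2 : (t + t') ^ (2 ^ m + 1) = (a + a') * (t + t') := by rw [pow_succ, e27]
    rw [h1, h2, pow_succ, pow_succ, ← ha, ← ha']
    have h3 : a * t' + a * t' = 0 := CharTwo.add_self_eq_zero _
    linear_combination h3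
  rw [e28, e27, e30]
  generalize t ^ (2 ^ m + 1) + w ^ 2 ^ m = A
  generalize t' ^ (2 ^ m + 1) + w' ^ 2 ^ m = A'
  have r1 := R.rel a' t
  have c1 := R.ad a' w
  have c2 := R.ac a' A
  have c3 := R.bd t' w
  have c4 := R.bc t' A
  have c5 := R.bd t' (a' ^ 2 * t)
  have c6 := R.bc t' (a' * t)
  have c7 := R.cd A (a' ^ 2 * t)
  have c8 := R.cd A' (w + a' ^ 2 * t)
  calc xGL dc 27 a * xGL dc 25 t * xGL dc 28 A * xGL dc 30 w *
        (xGL dc 27 a' * xGL dc 25 t' * xGL dc 28 A' * xGL dc 30 w')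
      = xGL dc 27 a * xGL dc 25 t * xGL dc 28 A * (xGL dc 30 w * xGL dc 27 a') * xGL dc 25 t' * xGL dc 28 A' *
          xGL dc 30 w' := by group
    _ = xGL dc 27 a * xGL dc 25 t * (xGL dc 28 A * xGL dc 27 a') * xGL dc 30 w * xGL dc 25 t' * xGL dc 28 A' *
          xGL dc 30 w' := by rw [← c1]; group
    _ = xGL dc 27 a * (xGL dc 25 t * xGL dc 27 a') * xGL dc 28 A * xGL dc 30 w * xGL dc 25 t' * xGL dc 28 A' *
          xGL dc 30 w' := by rw [← c2]; group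
    _ = xGL dc 27 a * xGL dc 27 a' * xGL dc 25 t * xGL dc 28 (a' * t) * xGL dc 30 (a' ^ 2 * t) * xGL dc 28 A *
          (xGL dc 30 w * xGL dc 25 t') * xGL dc 28 A' * xGL dc 30 w' := by rw [r1]; group
    _ = xGL dc 27 a * xGL dc 27 a' * xGL dc 25 t * xGL dc 28 (a' * t) * xGL dc 30 (a' ^ 2 * t) *
          (xGL dc 28 A * xGL dc 25 t') * xGL dc 30 w * xGL dc 28 A' * xGL dc 30 w' := by rw [← c3]; group
    _ = xGL dc 27 a * xGL dc 27 a' * xGL dc 25 t * xGL dc 28 (a' * t) * (xGL dc 30 (a' ^ 2 * t) * xGL dc 25 t') *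
          xGL dc 28 A * xGL dc 30 w * xGL dc 28 A' * xGL dc 30 w' := by rw [← c4]; group
    _ = xGL dc 27 a * xGL dc 27 a' * xGL dc 25 t * (xGL dc 28 (a' * t) * xGL dc 25 t') * xGL dc 30 (a' ^ 2 * t) *
          xGL dc 28 A * xGL dc 30 w * xGL dc 28 A' * xGL dc 30 w' := by rw [← c5]; group
    _ = xGL dc 27 a * xGL dc 27 a' * (xGL dc 25 t * xGL dc 25 t') * xGL dc 28 (a' * t) *
          (xGL dc 30 (a' ^ 2 * t) * xGL dc 28 A) * xGL dc 30 w * xGL dc 28 A' * xGL dc 30 w' := by rw [← c6]; group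
    _ = xGL dc 27 a * xGL dc 27 a' * (xGL dc 25 t * xGL dc 25 t') * (xGL dc 28 (a' * t) * xGL dc 28 A) *
          (xGL dc 30 (a' ^ 2 * t) * xGL dc 30 w) * xGL dc 28 A' * xGL dc 30 w' := by rw [← c7]; group
    _ = xGL dc 27 (a + a') * xGL dc 25 (t + t') * xGL dc 28 (a' * t + A) *
          (xGL dc 30 (a' ^ 2 * t + w) * xGL dc 28 A') * xGL dc 30 w' := by
        rw [xGL_mul, xGL_mul, xGL_mul, xGL_mul]; group
    _ = xGL dc 27 (a + a') * xGL dc 25 (t + t') * (xGL dc 28 (a' * t + A) * xGL dc 28 A') *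
          (xGL dc 30 (a' ^ 2 * t + w) * xGL dc 30 w') := by
        rw [add_comm (a' ^ 2 * t) w, ← c8]; group
    _ = _ := by
        rw [xGL_mul, xGL_mul]
        congr 2
        · congr 1
          ring
        · ring


theorem cartanTab3 : chevF4.cartan 0 33 = 2 ∧ chevF4.cartan 1 33 = -1 ∧ chevF4.cartan 2 33 = 0 ∧
    chevF4.cartan 3 33 = 0 ∧ chevF4.cartan 0 27 = -1 ∧ chevF4.cartan 1 27 = 2 ∧ chevF4.cartan 2 27 = -1 ∧
    chevF4.cartan 3 27 = 0 ∧ chevF4.cartan 0 28 = -1 ∧ chevF4.cartan 1 28 = 0 ∧ chevF4.cartan 2 28 = 1 ∧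
    chevF4.cartan 3 28 = -1 := by decide +kernel

/-- The characters of the elements of `H¹` at the long roots of the two distinguished classes. -/
def chiA (m : ℕ) (ν κ : Kˣ) : Kˣ := chi chevF4 K (ext chevF4 K (pr m ν κ)) 24

def chiB (m : ℕ) (ν κ : Kˣ) : Kˣ := chi chevF4 K (ext chevF4 K (pr m ν κ)) 25

omit [Fintype K] [CharP K 2] in
theorem chiA_eq (ν κ : Kˣ) : chiA m ν κ = ν ^ 2 * κ⁻¹ := by
  obtain ⟨c1, c2, c3, c4, -⟩ := cartanTab
  unfold chiA
  rw [chi_pr, c1, c2, c3, c4]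
  simp only [zpow_zero, one_mul, zpow_neg, zpow_one]
  rw [mul_comm]
  rfl

omit [Fintype K] [CharP K 2] in
theorem chiB_eq (ν κ : Kˣ) : chiB m ν κ = ((κ ^ 2 ^ m) ^ 2)⁻¹ * κ ^ 2 * ν⁻¹ := by
  obtain ⟨-, -, -, -, c1, c2, c3, c4, -⟩ := cartanTab
  unfold chiB
  rw [chi_pr, c1, c2, c3, c4]
  simp only [zpow_zero, one_mul, zpow_neg, zpow_one]
  rfl

omit [Fintype K] [CharP K 2] in
theorem chi33_eq (ν κ : Kˣ) : chi chevF4 K (ext chevF4 K (pr m ν κ)) 33 = (chiA m ν κ) ^ 2 ^ m := by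
  obtain ⟨c1, c2, c3, c4, -⟩ := cartanTab3
  rw [chiA_eq, chi_pr, c1, c2, c3, c4]
  simp only [zpow_neg, zpow_ofNat, pow_zero, pow_one, mul_one]
  rw [mul_pow, inv_pow, ← pow_mul, ← pow_mul, mul_comm 2 (2 ^ m)]

include hK in
omit [CharP K 2] in
theorem chi27_eq (ν κ : Kˣ) : chi chevF4 K (ext chevF4 K (pr m ν κ)) 27 = (chiB m ν κ) ^ 2 ^ m := by
  obtain ⟨-, -, -, -, c1, c2, c3, c4, -⟩ := cartanTab3
  rw [chiB_eq, chi_pr, c1, c2, c3, c4]
  simp only [zpow_neg, zpow_ofNat, pow_zero, pow_one, mul_one]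
  have e : (((κ ^ 2 ^ m) ^ 2)⁻¹) ^ 2 ^ m = κ⁻¹ := by
    rw [inv_pow, ← pow_mul, units_pow_pow hK]
  rw [mul_pow, mul_pow, e, inv_pow, ← pow_mul, ← pow_mul, mul_comm 2 (2 ^ m)]
  simp only [mul_comm, mul_left_comm, mul_assoc]


theorem chainTab : chevF4.chainRoot 27 25 1 = some 28 ∧ chevF4.chainRoot 27 28 1 = some 30 := by decide +kernel

include hK in
omit [CharP K 2] in
theorem chi28_eq (ν κ : Kˣ) : chi chevF4 K (ext chevF4 K (pr m ν κ)) 28 = (chiB m ν κ) ^ 2 ^ m * chiB m ν κ := by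
  have hχ := isRootCharacter_chi chevF4 K (hfK K).hca (ext chevF4 K (pr m ν κ))
  rw [hχ.2 27 25 28 (by decide) (by decide) chainTab.1, chi27_eq hK]
  rfl

include hK in
omit [CharP K 2] in
theorem chi30_eq (ν κ : Kˣ) : chi chevF4 K (ext chevF4 K (pr m ν κ)) 30 =
    chiB m ν κ * ((chiB m ν κ) ^ 2 ^ m) ^ 2 := by
  have hχ := isRootCharacter_chi chevF4 K (hfK K).hca (ext chevF4 K (pr m ν κ))
  rw [hχ.2 27 28 30 (by decide) (by decide) chainTab.2, chi28_eq hK, chi27_eq hK, sq]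
  simp only [mul_comm, mul_left_comm, mul_assoc]

omit [Fintype K] [CharP K 2] in
theorem conj_mul2 (h a b : GL chevF4.Idx K) : h * (a * b) * h⁻¹ = (h * a * h⁻¹) * (h * b * h⁻¹) := by group

omit [Fintype K] [CharP K 2] in
theorem conj_mul4 (h a b c d : GL chevF4.Idx K) :
    h * (a * b * c * d) * h⁻¹ = (h * a * h⁻¹) * (h * b * h⁻¹) * (h * c * h⁻¹) * (h * d * h⁻¹) := by group

omit [Fintype K] [CharP K 2] in
theorem torus_uPar_s0 (ν κ : Kˣ) (t : K) :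
    torusHom chevF4 K (pr m ν κ) * uPar m (s0 t) * (torusHom chevF4 K (pr m ν κ))⁻¹ =
      uPar m (s0 ((chiA m ν κ : K) * t)) := by
  have hχ := isRootCharacter_chi chevF4 K (hfK K).hca (ext chevF4 K (pr m ν κ))
  have eH : torusHom chevF4 K (pr m ν κ) = torusGL chevF4 K (chi chevF4 K (ext chevF4 K (pr m ν κ))) := rfl
  rw [eH, uPar_s0, uPar_s0, conj_mul2, Cfsg.Agent.Lib.Helper36_TwistPerf.torus_conj_x dc hchain _ hχ 33 (by decide),
    Cfsg.Agent.Lib.Helper36_TwistPerf.torus_conj_x dc hchain _ hχ 24 (by decide), chi33_eq, mul_pow,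
    Units.val_pow_eq_pow_val]
  rfl

include hK in
theorem torus_uPar_s1 (ν κ : Kˣ) (t w : K) :
    torusHom chevF4 K (pr m ν κ) * uPar m (s1 t w) * (torusHom chevF4 K (pr m ν κ))⁻¹ =
      uPar m (s1 ((chiB m ν κ : K) * t) ((chiB m ν κ : K) * (thetaHom K m (chiB m ν κ : K)) ^ 2 * w)) := by
  have hχ := isRootCharacter_chi chevF4 K (hfK K).hca (ext chevF4 K (pr m ν κ))
  have eH : torusHom chevF4 K (pr m ν κ) = torusGL chevF4 K (chi chevF4 K (ext chevF4 K (pr m ν κ))) := rfl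
  rw [eH, uPar_s1, uPar_s1, conj_mul4, Cfsg.Agent.Lib.Helper36_TwistPerf.torus_conj_x dc hchain _ hχ 27 (by decide),
    Cfsg.Agent.Lib.Helper36_TwistPerf.torus_conj_x dc hchain _ hχ 25 (by decide),
    Cfsg.Agent.Lib.Helper36_TwistPerf.torus_conj_x dc hchain _ hχ 28 (by decide),
    Cfsg.Agent.Lib.Helper36_TwistPerf.torus_conj_x dc hchain _ hχ 30 (by decide),
    chi27_eq hK, chi28_eq hK, chi30_eq hK]
  have e25 : chi chevF4 K (ext chevF4 K (pr m ν κ)) 25 = chiB m ν κ := rfl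
  rw [e25]
  set c : K := (chiB m ν κ : K) with hc
  have hcc : (c ^ 2 ^ m) ^ (2 * 2 ^ m) = c := by
    have := congrArg (fun u : Kˣ => (u : K)) (units_pow_pow hK (chiB m ν κ))
    simpa using this
  have e1 : ((chiB m ν κ ^ 2 ^ m : Kˣ) : K) = c ^ 2 ^ m := by rw [Units.val_pow_eq_pow_val]
  have e2 : ((chiB m ν κ ^ 2 ^ m * chiB m ν κ : Kˣ) : K) = c ^ 2 ^ m * c := by
    rw [Units.val_mul, Units.val_pow_eq_pow_val]
  have e3 : ((chiB m ν κ * (chiB m ν κ ^ 2 ^ m) ^ 2 : Kˣ) : K) = c * (c ^ 2 ^ m) ^ 2 := by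
    rw [Units.val_mul, Units.val_pow_eq_pow_val, Units.val_pow_eq_pow_val]
  rw [e1, e2, e3, thetaHom_apply]
  have e4 : (c * (c ^ 2 ^ m) ^ 2 * w) ^ 2 ^ m = c ^ 2 ^ m * c * w ^ 2 ^ m := by
    rw [mul_pow, mul_pow, ← pow_mul (c ^ 2 ^ m), hcc]
  rw [e4, mul_pow c t (2 ^ m), mul_pow c t (2 ^ m + 1)]
  congr 3
  rw [pow_succ c]
  ring


omit [Fintype K] [CharP K 2] in
theorem chiB_one (ν : Kˣ) : chiB m ν 1 = ν⁻¹ := by
  rw [chiB_eq]
  simp

/-- Solving the two equations for the characters in a commutative group. -/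
theorem surj_aux {G : Type*} [CommGroup G] (m : ℕ) (hq : ∀ x : G, x ^ 2 ^ (2 * m + 1) = x) (α β : G) :
    ∃ ν κ : G, ν ^ 2 * κ⁻¹ = α ∧ ((κ ^ 2 ^ m) ^ 2)⁻¹ * κ ^ 2 * ν⁻¹ = β := by
  have hq' : ∀ x : Additive G, (2 ^ (2 * m + 1) : ℕ) • x = x := fun x => congrArg Additive.ofMul (hq x.toMul)
  have ha := hq' (Additive.ofMul α)
  have hb := hq' (Additive.ofMul β)
  refine ⟨(β * α ^ 2 * ((α ^ 2 ^ m) ^ 2)⁻¹) ^ 3 * ((β * α ^ 2 * ((α ^ 2 ^ m) ^ 2)⁻¹) ^ 2 ^ m) ^ 4,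
    ((β * α ^ 2 * ((α ^ 2 ^ m) ^ 2)⁻¹) ^ 3 * ((β * α ^ 2 * ((α ^ 2 ^ m) ^ 2)⁻¹) ^ 2 ^ m) ^ 4) ^ 2 * α⁻¹, ?_, ?_⟩
  · apply Additive.ofMul.injective
    simp only [ofMul_mul, ofMul_inv, ofMul_pow]
    module
  · apply Additive.ofMul.injective
    simp only [ofMul_mul, ofMul_inv, ofMul_pow]
    linear_combination (norm := module) (-8 : ℤ) • hb + (-8 * (2 - 2 * 2 ^ m) : ℤ) • ha

include hK in
omit [CharP K 2] in
/-- The two characters are independent. -/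
theorem chi_surj (α β : Kˣ) : ∃ ν κ : Kˣ, chiA m ν κ = α ∧ chiB m ν κ = β := by
  obtain ⟨ν, κ, h1, h2⟩ := surj_aux m (units_pow_card hK) α β
  exact ⟨ν, κ, by rw [chiA_eq, h1], by rw [chiB_eq, h2]⟩

include hK in
omit [CharP K 2] in
theorem pow_surj (w : K) : ∃ t : K, t * (t ^ 2 ^ m) ^ 2 = w := by
  have hθ : 1 ≤ 2 ^ m := Nat.one_le_two_pow
  by_cases hw : w = 0
  · exact ⟨0, by rw [hw, zero_mul]⟩
  · refine ⟨w ^ (2 * 2 ^ m - 1), ?_⟩
    have h1 : w ^ (2 * 2 ^ m - 1) * ((w ^ (2 * 2 ^ m - 1)) ^ 2 ^ m) ^ 2 = w ^ (2 * 2 ^ (2 * m + 1) - 1) := by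
      rw [← pow_mul, ← pow_mul, ← pow_add]
      congr 1
      obtain ⟨k, hk⟩ : ∃ k, 2 * 2 ^ m = k + 1 := ⟨2 * 2 ^ m - 1, by omega⟩
      have e1 : 2 * 2 ^ (2 * m + 1) = (k + 1) * (k + 1) := by rw [← hk]; ring
      have e2 : (2 * 2 ^ m - 1) * (2 ^ m * 2) = k * (k + 1) := by
        rw [hk, Nat.add_sub_cancel, mul_comm (2 ^ m) 2, hk]
      rw [e1, e2, hk, Nat.add_sub_cancel]
      have : (k + 1) * (k + 1) = k + k * (k + 1) + 1 := by ring
      rw [this, Nat.add_sub_cancel]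
    rw [h1]
    have h3 : w ^ (2 * 2 ^ (2 * m + 1) - 1) * w = w * w := by
      rw [← pow_succ]
      have : 2 * 2 ^ (2 * m + 1) - 1 + 1 = 2 ^ (2 * m + 1) * 2 := by
        have : 1 ≤ 2 ^ (2 * m + 1) := Nat.one_le_two_pow
        omega
      rw [this, pow_mul, ← hK, FiniteField.pow_card, sq]
    exact mul_right_cancel₀ hw h3

end params

section gens

variable {K : Type*} [Field K] [Fintype K] {m : ℕ} (hK : Fintype.card K = 2 ^ (2 * m + 1))

/-- The parametrisations of the two distinguished cell subgroups and of `H¹`. -/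
noncomputable def xA (t : K) : ↥(twistedF4 K (2 ^ m)) := ⟨uPar m (s0 t), uPar_mem hK _⟩

noncomputable def xB (t w : K) : ↥(twistedF4 K (2 ^ m)) := ⟨uPar m (s1 t w), uPar_mem hK _⟩

noncomputable def hH (ν κ : Kˣ) : ↥(twistedF4 K (2 ^ m)) := ⟨torusHom chevF4 K (pr m ν κ), pr_mem hK ν κ⟩

theorem wA_val : (wA : W1).1 = lit'.sPerm wf' 0 := wPerm_single 0

theorem wB_val : (wB : W1).1 = lit'.sPerm wf' 1 := wPerm_single 1

theorem mem_UwA (g : ↥(twistedF4 K (2 ^ m))) : g ∈ Uw1 hK wA ↔ ∃ t : K, g = xA hK t := by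
  rw [mem_Uw1, wA_val]
  constructor
  · intro h
    obtain ⟨t, ht⟩ := exists_par0 hK g.1 ⟨h, g.2⟩
    exact ⟨t, Subtype.ext ht⟩
  · rintro ⟨t, rfl⟩
    exact s0_closure m t

theorem mem_UwB (g : ↥(twistedF4 K (2 ^ m))) : g ∈ Uw1 hK wB ↔ ∃ t w : K, g = xB hK t w := by
  rw [mem_Uw1, wB_val]
  constructor
  · intro h
    obtain ⟨t, w, ht⟩ := exists_par1 hK g.1 ⟨h, g.2⟩
    exact ⟨t, w, Subtype.ext ht⟩
  · rintro ⟨t, w, rfl⟩
    exact s1_closure m t w

theorem mem_HH (g : ↥(twistedF4 K (2 ^ m))) : g ∈ H1 K m ↔ ∃ ν κ : Kˣ, g = hH hK ν κ := by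
  rw [mem_H1]
  constructor
  · intro h
    obtain ⟨ν, κ, e⟩ := exists_parH hK g.1 ⟨h, g.2⟩
    exact ⟨ν, κ, Subtype.ext e⟩
  · rintro ⟨ν, κ, rfl⟩
    exact torusHom_mem _

/-- The conjugate of a word over the negative roots of a class by the inverse of the representative lies in the fixed
subgroup of the cell subgroup. -/
theorem conj_neg_mem' (a : ℕ) (ha : a < 2) (xa : W1) (hxa : xa.1 = lit'.sPerm wf' a) (P : ℕ → Prop)
    (hP : ∀ r, P r → r < chevF4.nroots)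
    (hPQ : ∀ r, P r → SNeg chevF4 lit (lit'.sPerm wf' a) (lit'.r a r))
    (w : List (ℕ × K)) (hw : ∀ p ∈ w, P p.1 ∨ p.2 = 0) (hwG : wordGL dc w ∈ twistedF4 K (2 ^ m)) :
    (rp hK xa)⁻¹ * wordGL dc w * ((rp hK xa)⁻¹)⁻¹ ∈ Xa K m a := by
  refine ⟨?_, Subgroup.mul_mem _ (Subgroup.mul_mem _ (Subgroup.inv_mem _ (rp_G hK xa)) hwG)
    (Subgroup.inv_mem _ (Subgroup.inv_mem _ (rp_G hK xa)))⟩
  have hinv : (xa.1)⁻¹ = lit'.sPerm wf' a := by
    rw [hxa]
    exact inv_eq_iff_mul_eq_one.mpr (lit'.sPerm_mul_self wf' a)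
  have hact : ActsAs chevF4 K (hfK K) lit (rp hK xa)⁻¹ (lit'.sPerm wf' a) :=
    hinv ▸ actsAs_inv chevF4 K (hfK K) lit (rp_acts hK xa)
  apply conj_rootClosure chevF4 K (hfK K) lit litOK hact P _ hP ?_ _ (wordGL_mem_closure P w hw)
  intro r hr
  rw [lit'.sPerm_val wf' a ha]
  exact hPQ r hr

theorem negA (w : List (ℕ × K)) (t : K) (hw : w = f4PairWord (2 ^ m) f4m1 f4m4 t)
    (hwG : wordGL dc w ∈ twistedF4 K (2 ^ m)) :
    ∃ t' : K, (⟨wordGL dc w, hwG⟩ : ↥(twistedF4 K (2 ^ m))) = nw1 hK wA * xA hK t' * (nw1 hK wA)⁻¹ := by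
  have h2 := conj_neg_mem' hK 0 (by decide) wA wA_val (fun r => r = 14 ∨ r = 23)
    (by rintro r (rfl | rfl) <;> decide)
    (by
      rintro r (rfl | rfl)
      · rw [negTab.1]; exact sNeg0.1
      · rw [negTab.2.1]; exact sNeg0.2) w
    (by
      intro p hp
      rw [hw] at hp
      unfold f4PairWord f4m1 f4m4 at hp
      simp only [List.mem_cons, List.not_mem_nil, or_false] at hp
      rcases hp with rfl | rfl
      · exact Or.inl (Or.inl rfl)
      · exact Or.inl (Or.inr rfl)) hwG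
  obtain ⟨t', ht'⟩ := exists_par0 hK _ h2
  refine ⟨t', Subtype.ext ?_⟩
  show wordGL dc w = rp hK wA * uPar m (s0 t') * (rp hK wA)⁻¹
  rw [← ht']
  group

theorem negB (w : List (ℕ × K)) (t u : K) (hw : w = b2ClassWord (2 ^ m) f4ma f4mb f4mab f4maab t u)
    (hwG : wordGL dc w ∈ twistedF4 K (2 ^ m)) :
    ∃ t' w' : K, (⟨wordGL dc w, hwG⟩ : ↥(twistedF4 K (2 ^ m))) = nw1 hK wB * xB hK t' w' * (nw1 hK wB)⁻¹ := by
  have h2 := conj_neg_mem' hK 1 (by decide) wB wB_val (fun r => r = 20 ∨ r = 22 ∨ r = 19 ∨ r = 17)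
    (by rintro r (rfl | rfl | rfl | rfl) <;> decide)
    (by
      rintro r (rfl | rfl | rfl | rfl)
      · rw [negTab.2.2.1]; exact sNeg1.1
      · rw [negTab.2.2.2.1]; exact sNeg1.2.1
      · rw [negTab.2.2.2.2.1]; exact sNeg1.2.2.1
      · rw [negTab.2.2.2.2.2]; exact sNeg1.2.2.2) w
    (by
      intro p hp
      rw [hw] at hp
      unfold b2ClassWord f4ma f4mb f4mab f4maab at hp
      simp only [List.mem_cons, List.not_mem_nil, or_false] at hp
      rcases hp with rfl | rfl | rfl | rfl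
      · exact Or.inl (Or.inl rfl)
      · exact Or.inl (Or.inr (Or.inl rfl))
      · exact Or.inl (Or.inr (Or.inr (Or.inl rfl)))
      · exact Or.inl (Or.inr (Or.inr (Or.inr rfl)))) hwG
  obtain ⟨t', w', ht'⟩ := exists_par1 hK _ h2
  refine ⟨t', w', Subtype.ext ?_⟩
  show wordGL dc w = rp hK wB * uPar m (s1 t' w') * (rp hK wB)⁻¹
  rw [← ht']
  group

/-- The generating set in terms of the two distinguished cell subgroups and their opposites. -/
def genSet : Set ↥(twistedF4 K (2 ^ m)) :=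
  {g | ∃ t : K, g = xA hK t} ∪ {g | ∃ t : K, g = nw1 hK wA * xA hK t * (nw1 hK wA)⁻¹} ∪
    {g | ∃ t w : K, g = xB hK t w} ∪ {g | ∃ t w : K, g = nw1 hK wB * xB hK t w * (nw1 hK wB)⁻¹}

theorem gen_top : Subgroup.closure (genSet hK) = ⊤ := by
  rw [eq_top_iff]
  have key : twistedF4 K (2 ^ m) ≤ (Subgroup.closure (genSet hK)).map (Subgroup.subtype _) := by
    unfold twistedF4 ChevalleyDatum.genSubgroup
    rw [Subgroup.closure_le]
    rintro g ⟨w, hwS, hgw⟩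
    have hgG : g ∈ twistedF4 K (2 ^ m) := Subgroup.subset_closure ⟨w, hwS, hgw⟩
    have e : g = wordGL dc w := Units.ext (hgw.trans (wordGL_coe dc w).symm)
    rw [e] at hgG ⊢
    refine ⟨⟨wordGL dc w, hgG⟩, Subgroup.subset_closure ?_, rfl⟩
    rcases hwS with ⟨t, hw | hw⟩ | ⟨t, u, hw | hw⟩
    · refine Or.inl (Or.inl (Or.inl ⟨t, Subtype.ext ?_⟩))
      show wordGL dc w = uPar m (s0 t)
      rw [hw, uPar_s0]
      unfold f4PairWord f4p1 f4p4
      rw [wordGL_cons, wordGL_cons, wordGL_nil, mul_one]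
    · obtain ⟨t', ht'⟩ := negA hK w t hw hgG
      exact Or.inl (Or.inl (Or.inr ⟨t', ht'⟩))
    · have h1 : wordGL dc w ∈ Xa K m 1 := by
        refine ⟨?_, hgG⟩
        rw [hw]
        apply wordGL_mem_closure
        intro p hp
        unfold b2ClassWord f4a f4b f4ab f4aab at hp
        simp only [List.mem_cons, List.not_mem_nil, or_false] at hp
        rcases hp with rfl | rfl | rfl | rfl
        · exact Or.inl sNeg1.1
        · exact Or.inl sNeg1.2.1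
        · exact Or.inl sNeg1.2.2.1
        · exact Or.inl sNeg1.2.2.2
      obtain ⟨t', w', ht'⟩ := exists_par1 hK _ h1
      exact Or.inl (Or.inr ⟨t', w', Subtype.ext ht'⟩)
    · obtain ⟨t', w', ht'⟩ := negB hK w t u hw hgG
      exact Or.inr ⟨t', w', ht'⟩
  intro x _
  obtain ⟨y, hy, e⟩ := key x.2
  have : y = x := Subtype.ext e
  rw [← this]
  exact hy

theorem HA_mem (ν : Kˣ) : hH hK ν 1 ∈ Subgroup.closure ({g : ↥(twistedF4 K (2 ^ m)) | ∃ t : K, g = xA hK t} ∪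
    {g | ∃ t : K, g = nw1 hK wA * xA hK t * (nw1 hK wA)⁻¹}) := by
  have hP : ∀ t : K, (⟨gP K m t, gP_mem t⟩ : ↥(twistedF4 K (2 ^ m))) ∈
      Subgroup.closure ({g : ↥(twistedF4 K (2 ^ m)) | ∃ t : K, g = xA hK t} ∪
        {g | ∃ t : K, g = nw1 hK wA * xA hK t * (nw1 hK wA)⁻¹}) := by
    intro t
    apply Subgroup.subset_closure
    refine Or.inl ⟨t, Subtype.ext ?_⟩
    show gP K m t = uPar m (s0 t)
    rw [uPar_s0]
    rfl
  have hN : ∀ t : K, (⟨gN K m t, gN_mem t⟩ : ↥(twistedF4 K (2 ^ m))) ∈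
      Subgroup.closure ({g : ↥(twistedF4 K (2 ^ m)) | ∃ t : K, g = xA hK t} ∪
        {g | ∃ t : K, g = nw1 hK wA * xA hK t * (nw1 hK wA)⁻¹}) := by
    intro t
    apply Subgroup.subset_closure
    have e : gN K m t = wordGL dc (f4PairWord (2 ^ m) f4m1 f4m4 t) := by
      unfold gN f4PairWord f4m1 f4m4
      rw [wordGL_cons, wordGL_cons, wordGL_nil, mul_one]
    have hG : wordGL dc (f4PairWord (2 ^ m) f4m1 f4m4 t) ∈ twistedF4 K (2 ^ m) := e ▸ gN_mem t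
    obtain ⟨t', ht'⟩ := negA hK _ t rfl hG
    refine Or.inr ⟨t', ?_⟩
    rw [← ht']
    exact Subtype.ext e
  have e : hH hK ν 1 = (⟨gP K m ν, gP_mem _⟩ * ⟨gN K m ((ν⁻¹ : Kˣ) : K), gN_mem _⟩ * ⟨gP K m ν, gP_mem _⟩) *
      (⟨gP K m 1, gP_mem _⟩ * ⟨gN K m 1, gN_mem _⟩ * ⟨gP K m 1, gP_mem _⟩) := by
    apply Subtype.ext
    exact hJ1_eq hK ν
  rw [e]
  exact Subgroup.mul_mem _ (Subgroup.mul_mem _ (Subgroup.mul_mem _ (hP _) (hN _)) (hP _))
    (Subgroup.mul_mem _ (Subgroup.mul_mem _ (hP _) (hN _)) (hP _))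

end gens

section fieldAut

variable {K : Type*} [Field K] [Fintype K] {m : ℕ} (hK : Fintype.card K = 2 ^ (2 * m + 1))

omit [Fintype K] in
theorem mapGL_mem (τ : K →+* K) (g : GL chevF4.Idx K) (hg : g ∈ twistedF4 K (2 ^ m)) :
    mapGL chevF4 τ g ∈ twistedF4 K (2 ^ m) := by
  have hg' := hg
  unfold twistedF4 ChevalleyDatum.genSubgroup at hg'
  apply mapGL_mem_of_closure τ _ _ _ g hg'
  rintro s ⟨w, hwS, hs⟩
  have e : s = wordGL dc w := Units.ext (hs.trans (wordGL_coe dc w).symm)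
  rw [e, mapGL_wordGL]
  apply Subgroup.subset_closure
  refine ⟨_, ?_, wordGL_coe dc _⟩
  rcases hwS with ⟨t, hw | hw⟩ | ⟨t, u, hw | hw⟩
  · exact Or.inl ⟨τ t, Or.inl (by rw [hw]; simp [f4PairWord, map_pow])⟩
  · exact Or.inl ⟨τ t, Or.inr (by rw [hw]; simp [f4PairWord, map_pow])⟩
  · exact Or.inr ⟨τ t, τ u, Or.inl (by rw [hw]; simp [b2ClassWord, map_pow, map_add])⟩
  · exact Or.inr ⟨τ t, τ u, Or.inr (by rw [hw]; simp [b2ClassWord, map_pow, map_add])⟩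

omit [Fintype K] in
theorem mapGL_symm (τ : K ≃+* K) (g : GL chevF4.Idx K) :
    mapGL chevF4 (τ.symm : K →+* K) (mapGL chevF4 (τ : K →+* K) g) = g := by
  apply Units.ext
  ext i j
  rw [mapGL_coe, mapGL_coe]
  simp

omit [Fintype K] in
theorem mapGL_symm' (τ : K ≃+* K) (g : GL chevF4.Idx K) :
    mapGL chevF4 (τ : K →+* K) (mapGL chevF4 (τ.symm : K →+* K) g) = g := by
  apply Units.ext
  ext i j
  rw [mapGL_coe, mapGL_coe]
  simp

/-- The automorphism of the twisted group induced by an automorphism of the field. -/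
noncomputable def faEquiv (K : Type*) [Field K] (m : ℕ) (τ : K ≃+* K) : MulAut ↥(twistedF4 K (2 ^ m)) where
  toFun x := ⟨mapGL chevF4 (τ : K →+* K) x, mapGL_mem _ x.1 x.2⟩
  invFun x := ⟨mapGL chevF4 (τ.symm : K →+* K) x, mapGL_mem _ x.1 x.2⟩
  left_inv x := Subtype.ext (mapGL_symm τ x.1)
  right_inv x := Subtype.ext (mapGL_symm' τ x.1)
  map_mul' x y := Subtype.ext (map_mul (mapGL chevF4 (τ : K →+* K)) x.1 y.1)

omit [Fintype K] in
theorem faEquiv_coe (τ : K ≃+* K) (x : ↥(twistedF4 K (2 ^ m))) :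
    ((faEquiv K m τ x : ↥(twistedF4 K (2 ^ m))) : GL chevF4.Idx K) = mapGL chevF4 (τ : K →+* K) x := rfl

/-- The homomorphism from the automorphisms of the field to the automorphisms of the twisted group. -/
noncomputable def fa (K : Type*) [Field K] (m : ℕ) : (K ≃+* K) →* MulAut ↥(twistedF4 K (2 ^ m)) where
  toFun := faEquiv K m
  map_one' := by
    apply MulEquiv.ext
    intro x
    apply Subtype.ext
    rw [faEquiv_coe]
    apply Units.ext
    ext i j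
    rw [mapGL_coe]
    rfl
  map_mul' τ τ' := by
    apply MulEquiv.ext
    intro x
    apply Subtype.ext
    rw [MulAut.mul_apply, faEquiv_coe, faEquiv_coe, faEquiv_coe]
    apply Units.ext
    ext i j
    rw [mapGL_coe, mapGL_coe, mapGL_coe]
    rfl

theorem fa_xA (τ : K ≃+* K) (t : K) : fa K m τ (xA hK t) = xA hK (τ t) := by
  apply Subtype.ext
  show mapGL chevF4 (τ : K →+* K) (uPar m (s0 t)) = uPar m (s0 (τ t))
  rw [uPar_s0, uPar_s0, map_mul, mapGL_xGL, mapGL_xGL, map_pow]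
  rfl

theorem fa_xB (τ : K ≃+* K) (t w : K) : fa K m τ (xB hK t w) = xB hK (τ t) (τ w) := by
  apply Subtype.ext
  show mapGL chevF4 (τ : K →+* K) (uPar m (s1 t w)) = uPar m (s1 (τ t) (τ w))
  rw [uPar_s1, uPar_s1, map_mul, map_mul, map_mul, mapGL_xGL, mapGL_xGL, mapGL_xGL, mapGL_xGL, map_pow, map_add,
    map_pow, map_pow]
  rfl

omit [Fintype K] in
theorem fa_U (τ : K ≃+* K) (x : ↥(twistedF4 K (2 ^ m))) (hx : x ∈ U1 K m) : fa K m τ x ∈ U1 K m := by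
  rw [mem_U1] at hx ⊢
  exact mapGL_mem_pos dc (τ : K →+* K) x.1 hx

omit [Fintype K] in
theorem fa_H (τ : K ≃+* K) (x : ↥(twistedF4 K (2 ^ m))) (hx : x ∈ H1 K m) : fa K m τ x ∈ H1 K m := by
  rw [mem_H1] at hx ⊢
  exact mapGL_mem_diagonal dc (τ : K →+* K) x.1 hx

include hK in
theorem exists_hex (hm : 1 ≤ m) : ∃ l : K, (l ^ 2 ^ m) ^ 2 ≠ l := by
  obtain ⟨g, hg⟩ := exists_gen hK
  refine ⟨(g : K), fun h => ?_⟩
  apply gen_ne_one hm g hg 2 (-1) (by simp) (by simp) (by simp)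
  have h' : (g ^ 2 ^ m) ^ 2 = g := by
    apply Units.ext
    rw [Units.val_pow_eq_pow_val, Units.val_pow_eq_pow_val]
    exact h
  rw [zpow_ofNat, h', zpow_neg, zpow_one, mul_inv_cancel]

end fieldAut

section final

variable {K : Type*} [Field K] [Fintype K] [CharP K 2] {m : ℕ} (hK : Fintype.card K = 2 ^ (2 * m + 1))

/-- The data of the normal form and of the two distinguished cell subgroups for the twisted group. -/
noncomputable def f4Data (hm : 1 ≤ m) : F4Data ↥(twistedF4 K (2 ^ m)) K W1 where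
  C := cellData hK hm
  θ := thetaHom K m
  two := CharTwo.two_eq_zero
  iA := wA
  iB := wB
  xA := xA hK
  xB := xB hK
  hH := hH hK
  chiA := chiA m
  chiB := chiB m
  special0 := special_w0 hK hm
  specialA := special_wA hK hm
  specialB := special_wB hK hm
  rootA := isRoot1 hK hm wA
  rootB := isRoot1 hK hm wB
  conjA := conj_cell hK hm 0 (by decide) wA wA_val
  conjB := conj_cell hK hm 1 (by decide) wB wB_val
  mem_UwA := mem_UwA hK
  mem_UwB := mem_UwB hK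
  mem_H := mem_HH hK
  xA_add := fun s t => Subtype.ext (uPar_s0_add s t)
  xA_inj := fun s t h => by
    have := congrFun (uPar_inj m _ _ (congrArg Subtype.val h)) 0
    simpa [s0] using this
  xB_mul := fun t w t' w' => Subtype.ext (uPar_s1_mul hK t w t' w')
  xB_inj := fun t w t' w' h => by
    have h2 := uPar_inj m _ _ (congrArg Subtype.val h)
    have e3 := congrFun h2 1
    have e4 := congrFun h2 2
    simp [s1] at e3 e4
    exact ⟨e3, e4⟩
  hH_xA := fun ν κ t => Subtype.ext (torus_uPar_s0 ν κ t)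
  hH_xB := fun ν κ t w => Subtype.ext (torus_uPar_s1 hK ν κ t w)
  surj := chi_surj hK
  surjB := fun l => ⟨l⁻¹, by rw [chiB_one, inv_inv]⟩
  HA_mem := HA_mem hK
  gen := gen_top hK
  pow_surj := fun w => by
    obtain ⟨t, ht⟩ := pow_surj hK w
    exact ⟨t, by rw [thetaHom_apply]; exact ht⟩
  hex := by
    obtain ⟨l, hl⟩ := exists_hex hK hm
    exact ⟨l, by rw [thetaHom_apply]; exact hl⟩
  fa := fa K m
  fa_xA := fa_xA hK
  fa_xB := fa_xB hK
  fa_U := fa_U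
  fa_H := fa_H

include hK in
/-- The number of automorphisms of the field. -/
theorem card_ringAut : Nat.card (K ≃+* K) = 2 * m + 1 := by
  haveI : Fact (Nat.Prime 2) := ⟨Nat.prime_two⟩
  letI : Algebra (ZMod 2) K := ZMod.algebra K 2
  have hrF : Module.finrank (ZMod 2) K = 2 * m + 1 :=
    Nat.pow_right_injective (le_refl 2) (by
      show 2 ^ Module.finrank (ZMod 2) K = 2 ^ (2 * m + 1)
      rw [FiniteField.pow_finrank_eq_card, hK])
  have hgal : Nat.card (K ≃ₐ[ZMod 2] K) = 2 * m + 1 := by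
    rw [IsGalois.card_aut_eq_finrank, hrF]
  have hcomm : ∀ (fe : K ≃+* K) (r : ZMod 2), fe (algebraMap (ZMod 2) K r) = algebraMap (ZMod 2) K r := by
    intro fe r
    exact RingHom.congr_fun
      (Subsingleton.elim ((fe : K →+* K).comp (algebraMap (ZMod 2) K)) (algebraMap (ZMod 2) K)) r
  let e : (K ≃ₐ[ZMod 2] K) ≃ (K ≃+* K) :=
    { toFun := fun σ => (σ : K ≃+* K)
      invFun := fun fe => AlgEquiv.ofRingEquiv (hcomm fe)
      left_inv := fun σ => by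
        ext x
        rfl
      right_inv := fun fe => by
        ext x
        rfl }
  rw [← Nat.card_congr e, hgal]

include hK in
/-- The outer automorphism group of the twisted group of type `²F₄` has `2 m + 1` elements. -/
theorem card_out (hm : 1 ≤ m) : Nat.card (Cfsg.Out ↥(twistedF4 K (2 ^ m))) = 2 * m + 1 := by
  rw [(f4Data hK hm).card_out, card_ringAut hK]

end final

end Cfsg.Agent.Lib.Helper36_F4Out
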