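import Mathlib
import Cfsg.Agent.Lib.Helper18_TF4InvFacts
import Cfsg.Agent.Lib.Helper36_F4Two
import Cfsg.Agent.Lib.Helper36_F4Out

/-!
# S2184 market (architect helper18), package PHI (helper30)

`Phi (sg K m)` is a bijection of `T12 K` onto `U = posUnipotent ⊓ twistedF4 K (2 ^ m)`:
`Phi (sg K m) s = uPar m (lp m s)` where `lp m s` are the parameters on the long roots.
-/

set_option autoImplicit false

namespace Cfsg.Agent.Lib.Helper30_TF4I_PHI

open Cfsg Cfsg.Lie Cfsg.Agent.Lib.Helper18_ChevGL Cfsg.Agent.Lib.Helper18_ChevUni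
  Cfsg.Agent.Lib.Helper36_F4Setup Cfsg.Agent.Lib.Helper18_TF4Swap Cfsg.Agent.Lib.Helper18_TF4Inv

open Cfsg.Agent.Lib.Helper18_TwistF4C Cfsg.Agent.Lib.Helper18_TwistF4D

/-- the Tits endomorphism `x ↦ x ^ 2 ^ (m + 1)` -/
noncomputable def sg (K : Type*) [Field K] [CharP K 2] (m : ℕ) : K →+* K := iterateFrobenius K 2 (m + 1)

section

variable {K : Type*} [Field K] [CharP K 2] {m : ℕ}

theorem sg_apply (x : K) : sg K m x = x ^ 2 ^ (m + 1) := iterateFrobenius_def 2 (m + 1) x

/-- the parameters on the long roots `24, 25, 30, 26, 42, 32, 43, 31, 46, 41, 47, 45` -/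
noncomputable def lp (m : ℕ) (s : T12 K) : Fin 12 → K :=
  ![sg K m s.a, sg K m s.k, sg K m s.l + s.k ^ 2 * sg K m s.k, sg K m s.b,
    sg K m s.c + s.b ^ 2 * sg K m s.b, sg K m s.j, sg K m s.d, sg K m s.h,
    sg K m s.i + s.h ^ 2 * sg K m s.h, sg K m s.e, sg K m s.f + s.e ^ 2 * sg K m s.e, sg K m s.g]

theorem sg_injective : Function.Injective (sg K m) := (sg K m).injective

theorem lp_injective : Function.Injective (lp m : T12 K → Fin 12 → K) := by
  intro s s' h
  have h0 := congrFun h 0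
  have h1 := congrFun h 1
  have h2 := congrFun h 2
  have h3 := congrFun h 3
  have h4 := congrFun h 4
  have h5 := congrFun h 5
  have h6 := congrFun h 6
  have h7 := congrFun h 7
  have h8 := congrFun h 8
  have h9 := congrFun h 9
  have h10 := congrFun h 10
  have h11 := congrFun h 11
  simp only [lp, Matrix.cons_val] at h0 h1 h2 h3 h4 h5 h6 h7 h8 h9 h10 h11
  have ea := sg_injective h0
  have ek := sg_injective h1
  have eb := sg_injective h3
  have ej := sg_injective h5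
  have ed := sg_injective h6
  have eh := sg_injective h7
  have ee := sg_injective h9
  have eg := sg_injective h11
  rw [ek] at h2
  rw [eb] at h4
  rw [eh] at h8
  rw [ee] at h10
  have el := sg_injective (add_right_cancel h2)
  have ec := sg_injective (add_right_cancel h4)
  have ei := sg_injective (add_right_cancel h8)
  have ef := sg_injective (add_right_cancel h10)
  exact T12.ext ea eb ec ed ee ef eg eh ei ej ek el

end

section

variable {K : Type*} [Field K] [Fintype K] [CharP K 2] {m : ℕ} (hK : Fintype.card K = 2 ^ (2 * m + 1))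

theorem sg_surjective : Function.Surjective (sg K m) :=
  Finite.surjective_of_injective sg_injective

theorem lp_surjective : Function.Surjective (lp m : T12 K → Fin 12 → K) := by
  intro t
  obtain ⟨a, ha⟩ := sg_surjective (m := m) (t 0)
  obtain ⟨k, hk⟩ := sg_surjective (m := m) (t 1)
  obtain ⟨l, hl⟩ := sg_surjective (m := m) (t 2 - k ^ 2 * sg K m k)
  obtain ⟨b, hb⟩ := sg_surjective (m := m) (t 3)
  obtain ⟨c, hc⟩ := sg_surjective (m := m) (t 4 - b ^ 2 * sg K m b)
  obtain ⟨j, hj⟩ := sg_surjective (m := m) (t 5)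
  obtain ⟨d, hd⟩ := sg_surjective (m := m) (t 6)
  obtain ⟨h, hh⟩ := sg_surjective (m := m) (t 7)
  obtain ⟨i, hi⟩ := sg_surjective (m := m) (t 8 - h ^ 2 * sg K m h)
  obtain ⟨e, he⟩ := sg_surjective (m := m) (t 9)
  obtain ⟨f, hf⟩ := sg_surjective (m := m) (t 10 - e ^ 2 * sg K m e)
  obtain ⟨g, hg⟩ := sg_surjective (m := m) (t 11)
  refine ⟨⟨a, b, c, d, e, f, g, h, i, j, k, l⟩, ?_⟩
  funext x
  fin_cases x <;> simp [lp, ha, hk, hl, hb, hc, hj, hd, hh, hi, he, hf, hg]

include hK in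
theorem pow_sg (x : K) : (sg K m x) ^ 2 ^ m = x := by
  rw [sg_apply, ← pow_mul, ← pow_add]
  have e : m + 1 + m = 2 * m + 1 := by ring
  rw [e, ← hK, FiniteField.pow_card]

omit [Fintype K] in
theorem sq_pow (x : K) : (x ^ 2) ^ 2 ^ m = sg K m x := by
  rw [sg_apply, ← pow_mul, ← pow_succ']

include hK in
theorem mid_eq (p r : K) :
    (sg K m p) ^ (2 ^ m + 1) + (sg K m r + p ^ 2 * sg K m p) ^ 2 ^ m = r := by
  have hadd : ∀ x y : K, (x + y) ^ 2 ^ m = x ^ 2 ^ m + y ^ 2 ^ m := by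
    intro x y
    have := (iterateFrobenius K 2 m).map_add x y
    simpa only [iterateFrobenius_def] using this
  rw [pow_succ, pow_sg hK, hadd, pow_sg hK, mul_pow, sq_pow, pow_sg hK]
  have e : p * sg K m p + (r + sg K m p * p) = r + 2 * (p * sg K m p) := by ring
  rw [e, CharTwo.two_eq_zero, zero_mul, add_zero]

include hK in
/-- `Phi` is the word of helper36's `uPar` with the long-root parameters `lp m s` -/
theorem Phi_eq_uPar (s : T12 K) : Phi (sg K m) s = Cfsg.Agent.Lib.Helper36_F4U.uPar m (lp m s) := by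
  have h33 : parF4 m (lp m s) 33 = s.a := pow_sg hK s.a
  have h24 : parF4 m (lp m s) 24 = sg K m s.a := rfl
  have h27 : parF4 m (lp m s) 27 = s.k := pow_sg hK s.k
  have h25 : parF4 m (lp m s) 25 = sg K m s.k := rfl
  have h28 : parF4 m (lp m s) 28 = s.l := mid_eq hK s.k s.l
  have h30 : parF4 m (lp m s) 30 = sg K m s.l + s.k ^ 2 * sg K m s.k := rfl
  have h34 : parF4 m (lp m s) 34 = s.b := pow_sg hK s.b
  have h26 : parF4 m (lp m s) 26 = sg K m s.b := rfl
  have h36 : parF4 m (lp m s) 36 = s.c := mid_eq hK s.b s.c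
  have h42 : parF4 m (lp m s) 42 = sg K m s.c + s.b ^ 2 * sg K m s.b := rfl
  have h37 : parF4 m (lp m s) 37 = s.j := pow_sg hK s.j
  have h32 : parF4 m (lp m s) 32 = sg K m s.j := rfl
  have h38 : parF4 m (lp m s) 38 = s.d := pow_sg hK s.d
  have h43 : parF4 m (lp m s) 43 = sg K m s.d := rfl
  have h35 : parF4 m (lp m s) 35 = s.h := pow_sg hK s.h
  have h31 : parF4 m (lp m s) 31 = sg K m s.h := rfl
  have h40 : parF4 m (lp m s) 40 = s.i := mid_eq hK s.h s.i
  have h46 : parF4 m (lp m s) 46 = sg K m s.i + s.h ^ 2 * sg K m s.h := rfl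
  have h29 : parF4 m (lp m s) 29 = s.e := pow_sg hK s.e
  have h41 : parF4 m (lp m s) 41 = sg K m s.e := rfl
  have h44 : parF4 m (lp m s) 44 = s.f := mid_eq hK s.e s.f
  have h47 : parF4 m (lp m s) 47 = sg K m s.f + s.e ^ 2 * sg K m s.e := rfl
  have h39 : parF4 m (lp m s) 39 = s.g := pow_sg hK s.g
  have h45 : parF4 m (lp m s) 45 = sg K m s.g := rfl
  unfold Cfsg.Agent.Lib.Helper36_F4U.uPar LF4
  simp only [List.map_cons, List.map_nil, wordGL_cons, wordGL_nil, mul_one]
  rw [h33, h24, h27, h25, h28, h30, h34, h26, h36, h42, h37, h32, h38, h43, h35, h31, h40, h46,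
    h29, h41, h44, h47, h39, h45]
  unfold Phi u1 u2 u3 u4 u5 u6 u7 u8
  simp only [mul_assoc]

include hK in
theorem phi_mem (s : T12 K) : Phi (sg K m) s ∈ twistedF4 K (2 ^ m) ∧ Phi (sg K m) s ∈ chevF4.posUnipotent K := by
  rw [Phi_eq_uPar hK]
  exact ⟨Cfsg.Agent.Lib.Helper36_F4U.uPar_mem hK _, Cfsg.Agent.Lib.Helper36_F4Out.uPar_pos _⟩

include hK in
theorem phi_inj : Function.Injective (Phi (sg K m) : T12 K → GL chevF4.Idx K) := by
  intro s s' h
  rw [Phi_eq_uPar hK, Phi_eq_uPar hK] at h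
  exact lp_injective (Cfsg.Agent.Lib.Helper36_F4U.uPar_inj m _ _ h)

include hK in
theorem phi_surj (g : GL chevF4.Idx K) (hg : g ∈ twistedF4 K (2 ^ m)) (hgU : g ∈ chevF4.posUnipotent K) :
    ∃ s : T12 K, Phi (sg K m) s = g := by
  obtain ⟨t, rfl⟩ := Cfsg.Agent.Lib.Helper36_F4Out.exists_par hK g ⟨hgU, hg⟩
  obtain ⟨s, rfl⟩ := lp_surjective (m := m) t
  exact ⟨s, Phi_eq_uPar hK s⟩

end

end Cfsg.Agent.Lib.Helper30_TF4I_PHI
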