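import Cfsg.Agent.Lib.Helper36_F4Order
import Cfsg.Agent.S1042

set_option autoImplicit false
set_option maxRecDepth 100000

/-!
Type `²F₄`: the `(B, N)`-pair of the twisted group.
-/

namespace Cfsg.Agent.Lib.Helper36_F4Pair

open Cfsg Cfsg.Lie
  Cfsg.Agent.Lib.Helper36_ChevTorus Cfsg.Agent.Lib.Helper36_ChevBorel
  Cfsg.Agent.Lib.Helper36_ChevTables
  Cfsg.Agent.Lib.Helper36_ChevOrder Cfsg.Agent.Lib.Helper36_WeylChain
  Cfsg.Agent.Lib.Helper36_WeylLit Cfsg.Agent.Lib.Helper36_WeylLit.RootLit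
  Cfsg.Agent.Lib.Helper36_ChevDataF4Lit Cfsg.Agent.Lib.Helper36_ChevDataF4LitOK
  Cfsg.Agent.Lib.Helper36_TwistGen Cfsg.Agent.Lib.Helper36_TwistWeyl Cfsg.Agent.Lib.Helper36_TwistWeylF4
  Cfsg.Agent.Lib.Helper36_TwistBN Cfsg.Agent.Lib.Helper36_TwistAbs
  Cfsg.Agent.Lib.Helper36_F4Setup Cfsg.Agent.Lib.Helper36_F4BN Cfsg.Agent.Lib.Helper36_F4U
  Cfsg.Agent.Lib.Helper36_F4Order

section

variable {K : Type*} [Field K] [Fintype K] {m : ℕ} (hK : Fintype.card K = 2 ^ (2 * m + 1))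

include hK in
/-- The fixed subgroups of the two distinguished cell subgroups are not trivial. -/
theorem hcell : ∀ a < 2, ∃ b ∈ Um chevF4 K (sgF K a) ⊓ twistedF4 K (2 ^ m), b ≠ 1 := by
  intro a ha
  rw [Um_eq chevF4 K (hfK K) lit litOK (hUV K) (hx1 K) (sgF_act a ha)]
  interval_cases a
  · have hne : uPar m (s0 (0 : K)) ≠ uPar m (s0 (1 : K)) := by
      intro e
      have e2 := congrFun (uPar_inj m _ _ e) 0
      simp [s0] at e2
    by_cases h : uPar m (s0 (0 : K)) = 1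
    · exact ⟨_, ⟨s0_closure m 1, uPar_mem hK _⟩, fun h1 => hne (h.trans h1.symm)⟩
    · exact ⟨_, ⟨s0_closure m 0, uPar_mem hK _⟩, h⟩
  · have hne : uPar m (s1 (0 : K) 0) ≠ uPar m (s1 (1 : K) 0) := by
      intro e
      have e2 := congrFun (uPar_inj m _ _ e) 1
      simp [s1] at e2
    by_cases h : uPar m (s1 (0 : K) 0) = 1
    · exact ⟨_, ⟨s1_closure m 1 0, uPar_mem hK _⟩, fun h1 => hne (h.trans h1.symm)⟩
    · exact ⟨_, ⟨s1_closure m 0 0, uPar_mem hK _⟩, h⟩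

include hK in
/-- The `(B, N)`-pair of the twisted group. -/
theorem exists_bnPair : ∃ Q : Cfsg.BNPair ↥(twistedF4 K (2 ^ m)),
    Q.B = (chevF4.borelSubgroup K ⊓ twistedF4 K (2 ^ m)).subgroupOf (twistedF4 K (2 ^ m)) ∧
    Q.N = (chevF4.monomialSubgroup K ⊓ twistedF4 K (2 ^ m)).subgroupOf (twistedF4 K (2 ^ m)) ∧
    Q.S = S1 (twistedF4 K (2 ^ m)) 2 (sgF K) := by
  obtain ⟨P, hPB, hPN, -⟩ := Cfsg.Agent.S1042.result (F := K) chevF4 hD
  exact Cfsg.Agent.Lib.Helper36_TwistAbs.exists_bnPair (hfK K) (twAbs hK) litOK hchain (hx K) (hx1 K) (hUV K)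
    (hNU K) (hBN K) (genData hK) P hPB hPN (hcell hK)

end

end Cfsg.Agent.Lib.Helper36_F4Pair
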