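import Mathlib
import Cfsg.Agent.Lib.Helper18_TF4InvFacts
import Cfsg.Agent.Lib.Helper30_TF4I_PHI
import Cfsg.Agent.Lib.Helper36_F4Pair
import Cfsg.Agent.Lib.Helper6_BNPairC

/-!
# S2369 (architect helper15): centralizers of involutions of `²F₄(q)` lie in the maximal parabolic subgroups — definitions

`Wd S a` is the product of the root elements `X r (a r)` of `F₄(K)` over a list of roots `S`; `CommL K S` says that these root
elements commute with each other; `SZ`, `SY` are the roots of the two abelian groups `Z4` and `Z4 * U5 * Z6` of the octagon that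
contain the representatives `zEl = u4 σ 0 1` and `yEl = u5 σ 1` of the two classes of involutions; `xN x r` is the image of the
root index `r` under a permutation `x` of the roots.
-/

set_option autoImplicit false

namespace Cfsg.Agent.Lib.Helper15_TF4Cent

open Cfsg Cfsg.Lie Cfsg.Agent.Lib.Helper18_ChevGL Cfsg.Agent.Lib.Helper18_ChevUni
  Cfsg.Agent.Lib.Helper36_ChevDataF4Lit Cfsg.Agent.Lib.Helper36_F4Setup Cfsg.Agent.Lib.Helper18_TF4Swap

variable {K : Type*} [Field K]

/-- helper36's root element is helper18's -/
theorem xGL_eq (r : ℕ) (t : K) :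
    Cfsg.Agent.Lib.Helper36_ChevAdd.xGL chevF4 (hfK K).hlen (hfK K).hadd K r t = X r t := by
  apply Units.ext
  rw [Cfsg.Agent.Lib.Helper36_ChevAdd.xGL_coe, Cfsg.Agent.Lib.Helper18_ChevGL.xGL_coe]

/-- the image of a root index under a permutation of the roots -/
def xN (x : Equiv.Perm (Fin lit.n)) (r : ℕ) : ℕ := if h : r < lit.n then ((x ⟨r, h⟩ : Fin lit.n) : ℕ) else r

/-- the product of the root elements `X r (a r)`, `r` in the list `S` -/
def Wd (S : List ℕ) (a : ℕ → K) : GL chevF4.Idx K := wordGL dc (S.map fun r => (r, a r))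

/-- highest short root and highest root (the roots of `Z4`) -/
def SZ : List ℕ := [44, 47]

/-- the roots of `Z4 * U5 * Z6` -/
def SY : List ℕ := [44, 47, 39, 45, 40, 46]

/-- the root elements of the roots of the list commute with each other -/
def CommL (K : Type*) [Field K] (S : List ℕ) : Prop :=
  ∀ r ∈ S, ∀ s ∈ S, ∀ t u : K, X r t * X s u = X s u * X r t

/-- the central involution `u4 σ 0 1` -/
def zEl (K : Type*) [Field K] : GL chevF4.Idx K := X 44 (1 : K) * X 47 1

/-- the involution `u5 σ 1` -/
def yEl (K : Type*) [Field K] : GL chevF4.Idx K := X 39 (1 : K) * X 45 1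

end Cfsg.Agent.Lib.Helper15_TF4Cent
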