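import Cfsg.Agent.Lib.Helper15_TF4Rel

set_option autoImplicit false
set_option maxRecDepth 100000

/-!
Type `²F₄`: the twisted group over a field with more than two elements is generated by two elements, a diagonal
element `h` and the product `x n` of an element `x` of the root subgroup of the class of type `B₂` with an element `n`
of `N` which acts as a Coxeter element of the twisted Weyl group.
-/

namespace Cfsg.Agent.Lib.Helper15_TF4Gen

open Cfsg Cfsg.Lie Cfsg.Agent.Lib.Helper18_ChevFast Cfsg.Agent.Lib.Helper18_ChevEngine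
  Cfsg.Agent.Lib.Helper18_ChevN Cfsg.Agent.Lib.Helper18_ChevWeyl
  Cfsg.Agent.Lib.Helper18_ChevGL Cfsg.Agent.Lib.Helper18_ChevTri
  Cfsg.Agent.Lib.Helper18_ChevAdd Cfsg.Agent.Lib.Helper18_ChevUni
  Cfsg.Agent.Lib.Helper18_ChevComm Cfsg.Agent.Lib.Helper18_ChevAutC
  Cfsg.Agent.Lib.Helper18_TwistA Cfsg.Agent.Lib.Helper18_TwistB Cfsg.Agent.Lib.Helper18_TwistF4A
  Cfsg.Agent.Lib.Helper36_ChevTorus Cfsg.Agent.Lib.Helper36_ChevBorel
  Cfsg.Agent.Lib.Helper36_ChevTables Cfsg.Agent.Lib.Helper36_ChevHOrder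
  Cfsg.Agent.Lib.Helper36_ChevOrder Cfsg.Agent.Lib.Helper36_WeylChain
  Cfsg.Agent.Lib.Helper36_WeylLit Cfsg.Agent.Lib.Helper36_WeylLit.RootLit
  Cfsg.Agent.Lib.Helper36_ChevDataF4Lit Cfsg.Agent.Lib.Helper36_ChevDataF4LitOK
  Cfsg.Agent.Lib.Helper36_TwistGen Cfsg.Agent.Lib.Helper36_TwistWeyl Cfsg.Agent.Lib.Helper36_TwistWeylF4
  Cfsg.Agent.Lib.Helper36_TwistW
  Cfsg.Agent.Lib.Helper36_F4Setup Cfsg.Agent.Lib.Helper36_F4BN Cfsg.Agent.Lib.Helper36_F4U
  Cfsg.Agent.Lib.Helper36_F4Order Cfsg.Agent.Lib.Helper36_F4Cell Cfsg.Agent.Lib.Helper36_F4Tor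
  Cfsg.Agent.Lib.Helper36_F4H Cfsg.Agent.Lib.Helper36_F4Perf
  Cfsg.Agent.Lib.Helper18_TwistF4C Cfsg.Agent.Lib.Helper18_TwistF4D
  Cfsg.Agent.Lib.Helper15_TF4Rel

/-! ### The Coxeter element -/

/-- The permutation of the roots of the Coxeter element `w₁ w₂`. -/
def cox (r : ℕ) : ℕ :=
  chevF4.reflectRoot 0 (chevF4.reflectRoot 3 (chevF4.reflectRoot 1 (chevF4.reflectRoot 2
    (chevF4.reflectRoot 1 (chevF4.reflectRoot 2 r)))))

/-- The permutation of the roots of the inverse `w₂ w₁` of the Coxeter element. -/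
def coxInv (r : ℕ) : ℕ :=
  chevF4.reflectRoot 1 (chevF4.reflectRoot 2 (chevF4.reflectRoot 1 (chevF4.reflectRoot 2
    (chevF4.reflectRoot 0 (chevF4.reflectRoot 3 r)))))

set_option maxHeartbeats 0 in
theorem coxInv_ok : ∀ r < 48, coxInv r < 48 ∧ cox (coxInv r) = r := by
  decide +kernel

set_option maxHeartbeats 0 in
theorem cox_tab : coxInv 25 = 31 ∧
    (cox^[7] 27 = 35 ∧ cox^[7] 25 = 31 ∧ cox^[7] 28 = 40 ∧ cox^[7] 30 = 46) ∧
    (cox^[3] 33 = 37 ∧ cox^[3] 24 = 32) ∧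
    (cox^[4] 33 = 14 ∧ cox^[4] 24 = 23) ∧
    (cox^[4] 27 = 20 ∧ cox^[4] 25 = 22 ∧ cox^[4] 28 = 19 ∧ cox^[4] 30 = 17) := by
  decide +kernel

set_option maxHeartbeats 0 in
theorem cartan31 : chevF4.cartan 0 31 = -2 ∧ chevF4.cartan 1 31 = 2 ∧ chevF4.cartan 2 31 = -1 ∧
    chevF4.cartan 3 31 = 1 := by
  decide +kernel

section cox

variable {K : Type*} [Field K]

/-- The element of `N` acting as the Coxeter element. -/
def nC (K : Type*) [Field K] : GL chevF4.Idx K := sgF K 0 * sgF K 1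

theorem nC_mono : nC K ∈ chevF4.monomialSubgroup K :=
  Subgroup.mul_mem _ (sgF_N 0 (by decide)) (sgF_N 1 (by decide))

theorem nC_acts [CharP K 2] : ActsAs1 dc (nC K) cox := by
  have hnil : nJ dc K [] = 1 := by unfold nJ; simp
  have e0 : sgF K 0 = nGL dc 0 * (nGL dc 3 * 1) := by
    show nJ dc K [0, 3] = _
    rw [nJ_cons, nJ_cons, hnil]
  have e1 : sgF K 1 = nGL dc 1 * (nGL dc 2 * (nGL dc 1 * (nGL dc 2 * 1))) := by
    show nJ dc K [1, 2, 1, 2] = _
    rw [nJ_cons, nJ_cons, nJ_cons, nJ_cons, hnil]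
  unfold nC
  rw [e0, e1]
  exact ((actsAs1_nGL dc 0 (by decide)).mul dc ((actsAs1_nGL dc 3 (by decide)).mul dc (actsAs1_one dc))).mul dc
    ((actsAs1_nGL dc 1 (by decide)).mul dc ((actsAs1_nGL dc 2 (by decide)).mul dc
      ((actsAs1_nGL dc 1 (by decide)).mul dc ((actsAs1_nGL dc 2 (by decide)).mul dc (actsAs1_one dc)))))

theorem actsAs1_pow {g : GL chevF4.Idx K} {π : ℕ → ℕ} (h : ActsAs1 dc g π) : ∀ k : ℕ, ActsAs1 dc (g ^ k) (π^[k])
  | 0 => by
    rw [pow_zero]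
    exact actsAs1_one dc
  | k + 1 => by
    rw [pow_succ]
    exact (actsAs1_pow h k).mul dc h

/-- Conjugation of a word of a class of type `B₂` by an element permuting the root elements. -/
theorem conj_b2w {g : GL chevF4.Idx K} {π : ℕ → ℕ} (h : ActsAs1 dc g π) (m : ℕ) (t u : K) :
    g * b2w 27 25 28 30 m t u * g⁻¹ = b2w (π 27) (π 25) (π 28) (π 30) m t u := by
  rw [b2w_eq_word, b2w_eq_word, h.conj_wordGL dc _ (by
    intro q hq
    unfold b2ClassWord at hq
    simp only [List.mem_cons, List.not_mem_nil, or_false] at hq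
    rcases hq with rfl | rfl | rfl | rfl <;> dsimp only <;> decide)]
  rfl

/-- Conjugation of a word of a class of type `A₁ × A₁` by an element permuting the root elements. -/
theorem conj_pw {g : GL chevF4.Idx K} {π : ℕ → ℕ} (h : ActsAs1 dc g π) (m : ℕ) (t : K) :
    g * pw 33 24 m t * g⁻¹ = pw (π 33) (π 24) m t := by
  rw [pw_eq_word, pw_eq_word, h.conj_wordGL dc _ (by
    intro q hq
    unfold f4PairWord at hq
    simp only [List.mem_cons, List.not_mem_nil, or_false] at hq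
    rcases hq with rfl | rfl <;> dsimp only <;> decide)]
  rfl

end cox

/-! ### Elements scaling the root elements -/

section scales

variable {K : Type*} [Field K]

/-- Conjugation by `g` multiplies the parameter of the root elements of `r` by `ψ r`. -/
def Scales (g : GL chevF4.Idx K) (ψ : ℕ → K) : Prop :=
  ∀ r < 48, ∀ t : K, g * xGL dc r t * g⁻¹ = xGL dc r (ψ r * t)

/-- The diagonal element of a root character scales the root elements. -/
theorem scales_torus (χ : ℕ → Kˣ) (hχ : chevF4.IsRootCharacter χ) :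
    Scales (torusGL chevF4 K χ) (fun r => (χ r : K)) := fun r hr t =>
  Cfsg.Agent.Lib.Helper36_TwistPerf.torus_conj_x dc hchain χ hχ r hr t

/-- The conjugate of a scaling element by an element permuting the root elements. -/
theorem scales_conj {g k : GL chevF4.Idx K} {π π' : ℕ → ℕ} {ψ : ℕ → K} (hg : ActsAs1 dc g π)
    (hinv : ∀ r < 48, π' r < 48 ∧ π (π' r) = r) (hk : Scales k ψ) :
    Scales (g * k * g⁻¹) (fun r => ψ (π' r)) := by
  intro r hr t
  obtain ⟨h1, h2⟩ := hinv r hr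
  have e1 : ∀ v : K, xGL dc r v = g * xGL dc (π' r) v * g⁻¹ := by
    intro v
    rw [(hg (π' r) h1).2 v, h2]
  rw [e1 t, e1 (ψ (π' r) * t), ← hk (π' r) h1 t]
  group

/-- The conjugate of a product of four root elements by a scaling element. -/
theorem scales_four {g : GL chevF4.Idx K} {ψ : ℕ → K} (hg : Scales g ψ) (a b cc d : ℕ) (ha : a < 48) (hb : b < 48)
    (hc : cc < 48) (hd : d < 48) (ta tb tc td : K) :
    g * (xGL dc a ta * xGL dc b tb * xGL dc cc tc * xGL dc d td) * g⁻¹ =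
      xGL dc a (ψ a * ta) * xGL dc b (ψ b * tb) * xGL dc cc (ψ cc * tc) * xGL dc d (ψ d * td) := by
  rw [← hg a ha, ← hg b hb, ← hg cc hc, ← hg d hd]
  group

end scales

/-! ### The root subgroup of the class of type `B₂` -/

section isB

variable {K : Type*} [Field K] [Fintype K] {m : ℕ} (hK : Fintype.card K = 2 ^ (2 * m + 1))

include hK in
theorem theta_two_theta (u : K) : (u ^ 2 ^ m) ^ (2 * 2 ^ m) = u := by
  rw [← pow_mul]
  have e : 2 ^ m * (2 * 2 ^ m) = 2 ^ m * (2 ^ m * 2) := by ring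
  rw [e]
  exact pow_card_eq hK u

include hK in
/-- The parametrised elements of the second cell subgroup as words of the class. -/
theorem uPar_s1 (t u : K) : uPar m (s1 t u) = b2w 27 25 28 30 m t (u ^ 2 ^ m) := by
  have z1 : (0 : K) ^ 2 ^ m = 0 := zero_pow (by positivity)
  have z2 : (0 : K) ^ (2 ^ m + 1) = 0 := zero_pow (Nat.succ_ne_zero _)
  unfold uPar LF4 b2w
  rw [theta_two_theta hK]
  simp [wordGL_cons, wordGL_nil, parF4, s1, z1, z2, xGL_zero, mul_assoc]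

include hK in
theorem exists_b2w (g : GL chevF4.Idx K) (hg : g ∈ Xa K m 1) : ∃ t u : K, g = b2w 27 25 28 30 m t u := by
  obtain ⟨t, u, rfl⟩ := exists_par1 hK g hg
  exact ⟨t, u ^ 2 ^ m, uPar_s1 hK t u⟩

omit [Fintype K] in
/-- The parameters of a product of root elements over the roots of the class are unique. -/
theorem four_inj (a b c d a' b' c' d' : K)
    (h : xGL dc 27 a * xGL dc 25 b * xGL dc 28 c * xGL dc 30 d =
      xGL dc 27 a' * xGL dc 25 b' * xGL dc 28 c' * xGL dc 30 d') : b = b' := by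
  let f : ℕ → K := fun r => if r = 27 then a else if r = 25 then b else if r = 28 then c else d
  let f' : ℕ → K := fun r => if r = 27 then a' else if r = 25 then b' else if r = 28 then c' else d'
  have e1 : wordGL dc ([27, 25, 28, 30].map fun r => (r, f r)) =
      xGL dc 27 a * xGL dc 25 b * xGL dc 28 c * xGL dc 30 d := by
    simp [wordGL_cons, wordGL_nil, f, mul_assoc]
  have e2 : wordGL dc ([27, 25, 28, 30].map fun r => (r, f' r)) =
      xGL dc 27 a' * xGL dc 25 b' * xGL dc 28 c' * xGL dc 30 d' := by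
    simp [wordGL_cons, wordGL_nil, f', mul_assoc]
  have e3 := congrArg (fun g : GL chevF4.Idx K => (g : Matrix chevF4.Idx chevF4.Idx K)) ((e1.trans h).trans e2.symm)
  simp only [wordGL_coe] at e3
  have key := unique_word dc (certs K).tc (certs K).ac [27, 25, 28, 30] (by decide) (by decide) f f' e3 25 (by decide)
  simpa [f, f'] using key

/-- The elements of the root subgroup of the class with first parameter `t`. -/
def IsB (m : ℕ) (g : GL chevF4.Idx K) (t : K) : Prop := ∃ u : K, g = b2w 27 25 28 30 m t u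

omit [Fintype K] in
theorem b2w_zero (a b cc d : ℕ) : b2w a b cc d m (0 : K) 0 = 1 := by
  have z1 : (0 : K) ^ 2 ^ m = 0 := zero_pow (by positivity)
  have z2 : (0 : K) ^ (2 ^ m + 1) = 0 := zero_pow (Nat.succ_ne_zero _)
  have z3 : (0 : K) ^ (2 * 2 ^ m) = 0 := zero_pow (by positivity)
  unfold b2w
  rw [z1, z2, z3, add_zero, xGL_zero, xGL_zero, xGL_zero, xGL_zero]
  simp

omit [Fintype K] in
theorem b2w_mem (t u : K) : b2w 27 25 28 30 m t u ∈ twistedF4 K (2 ^ m) := by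
  rw [b2w_eq_word]
  exact Cfsg.Agent.Lib.Helper18_TwistF4B.wordGL_mem_twisted dc _ (Or.inr ⟨t, u, Or.inl rfl⟩)

include hK in
theorem isB_mul [CharP K 2] {g g' : GL chevF4.Idx K} {t t' : K} (h : IsB m g t) (h' : IsB m g' t') :
    IsB m (g * g') (t + t') := by
  obtain ⟨u, rfl⟩ := h
  obtain ⟨u', rfl⟩ := h'
  exact ⟨_, b2w_mul hK t u t' u'⟩

include hK in
theorem isB_inv [CharP K 2] {g : GL chevF4.Idx K} {t : K} (h : IsB m g t) : IsB m g⁻¹ t := by
  obtain ⟨u, rfl⟩ := h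
  refine ⟨u + t ^ (2 ^ m + 1), ?_⟩
  apply inv_eq_of_mul_eq_one_right
  rw [b2w_mul hK]
  have e1 : t + t = 0 := CharTwo.add_self_eq_zero t
  have e2 : u + (u + t ^ (2 ^ m + 1)) + t ^ 2 ^ m * t = 0 := by
    rw [pow_succ]
    have := CharTwo.add_self_eq_zero u
    have h2 := CharTwo.add_self_eq_zero (t ^ 2 ^ m * t)
    linear_combination this + h2
  rw [e1, e2, b2w_zero]

include hK in
/-- Conjugation by a scaling element of the twisted group multiplies the first parameter. -/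
theorem isB_scale {g : GL chevF4.Idx K} {ψ : ℕ → K} (hg : Scales g ψ) (hgG : g ∈ twistedF4 K (2 ^ m))
    {k : GL chevF4.Idx K} {t : K} (h : IsB m k t) : IsB m (g * k * g⁻¹) (ψ 25 * t) := by
  obtain ⟨u, rfl⟩ := h
  have hG : g * b2w 27 25 28 30 m t u * g⁻¹ ∈ twistedF4 K (2 ^ m) :=
    Subgroup.mul_mem _ (Subgroup.mul_mem _ hgG (b2w_mem t u)) (Subgroup.inv_mem _ hgG)
  have e := scales_four hg 27 25 28 30 (by decide) (by decide) (by decide) (by decide) (t ^ 2 ^ m) t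
    (t ^ (2 ^ m + 1) + u) (u ^ (2 * 2 ^ m))
  have hcl : g * b2w 27 25 28 30 m t u * g⁻¹ ∈ rootClosure chevF4 K (SNeg chevF4 lit (lit'.sPerm wf' 1)) := by
    unfold b2w
    rw [e]
    have hx : ∀ r v, SNeg chevF4 lit (lit'.sPerm wf' 1) r →
        xGL dc r v ∈ rootClosure chevF4 K (SNeg chevF4 lit (lit'.sPerm wf' 1)) := fun r v hr =>
      Subgroup.subset_closure ⟨r, v, hr, Cfsg.Agent.Lib.Helper18_ChevGL.xGL_coe dc r v⟩
    exact Subgroup.mul_mem _ (Subgroup.mul_mem _ (Subgroup.mul_mem _ (hx _ _ sNeg1.1) (hx _ _ sNeg1.2.1))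
      (hx _ _ sNeg1.2.2.1)) (hx _ _ sNeg1.2.2.2)
  obtain ⟨t1, u1, e1⟩ := exists_b2w hK _ ⟨hcl, hG⟩
  have e2 := e1
  unfold b2w at e2
  rw [e] at e2
  have e3 := four_inj _ _ _ _ _ _ _ _ e2
  exact ⟨u1, by rw [e3]; exact e1⟩

end isB

/-! ### The generation by two elements -/

section main

variable {K : Type*} [Field K] [Fintype K] {m : ℕ} (hK : Fintype.card K = 2 ^ (2 * m + 1))

include hK in
/-- Every element of the field is of the form `t ^ θ * t`. -/
theorem exists_theta_succ (v : K) : ∃ t : K, t ^ 2 ^ m * t = v := by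
  by_cases hv : v = 0
  · exact ⟨0, by rw [hv, mul_zero]⟩
  · obtain ⟨ν, hν⟩ := Cfsg.Agent.Lib.Helper36_F4H.exists_pow_eq hK (Units.mk0 v hv)
    refine ⟨((ν ^ 2 : Kˣ) : K), ?_⟩
    have h1 := congrArg Units.val hν
    rw [Units.val_mk0] at h1
    rw [← h1]
    push_cast
    ring

include hK in
/-- The order of the group of units. -/
theorem card_units : Nat.card Kˣ = 2 ^ (2 * m + 1) - 1 := by
  rw [Nat.card_units, Nat.card_eq_fintype_card, hK]

include hK in
/-- The two generators: a diagonal element and the product of a root element with a Coxeter element. -/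
theorem gen_two (hm : 1 ≤ m) : ∃ a b : GL chevF4.Idx K, a ∈ twistedF4 K (2 ^ m) ∧ b ∈ twistedF4 K (2 ^ m) ∧
    Subgroup.closure {a, b} = twistedF4 K (2 ^ m) := by
  have := Cfsg.Agent.Lib.Helper36_F4H.charP2 hK
  obtain ⟨ζ, hζ⟩ := IsCyclic.exists_generator (α := Kˣ)
  have hpow : ∀ y : Kˣ, ∃ k : ℕ, ζ ^ k = y := fun y => by
    have h1 := hζ y
    rw [← mem_powers_iff_mem_zpowers] at h1
    exact (Submonoid.mem_powers_iff _ _).mp h1
  have hord : orderOf ζ = 2 ^ (2 * m + 1) - 1 := by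
    rw [orderOf_eq_card_of_forall_mem_zpowers hζ, card_units hK]
  have hθ2 : 2 ≤ 2 ^ m := by
    calc 2 = 2 ^ 1 := by norm_num
      _ ≤ 2 ^ m := Nat.pow_le_pow_right (by norm_num) hm
  have hq : 2 ^ (2 * m + 1) = 2 * (2 ^ m * 2 ^ m) := by ring
  -- the diagonal element
  have hχ : chevF4.IsRootCharacter (chi chevF4 K (ext chevF4 K (pr m ζ⁻¹ 1))) :=
    isRootCharacter_chi chevF4 K (hfK K).hca _
  have hhG : torusHom chevF4 K (pr m ζ⁻¹ 1) ∈ twistedF4 K (2 ^ m) := pr_mem hK ζ⁻¹ 1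
  have hsc : Scales (torusHom chevF4 K (pr m ζ⁻¹ 1))
      (fun r => ((chi chevF4 K (ext chevF4 K (pr m ζ⁻¹ 1)) r : Kˣ) : K)) := scales_torus _ hχ
  have χ25 : chi chevF4 K (ext chevF4 K (pr m ζ⁻¹ 1)) 25 = ζ := by
    rw [chi_pr, cartanTab.2.2.2.2.1, cartanTab.2.2.2.2.2.1, cartanTab.2.2.2.2.2.2.1, cartanTab.2.2.2.2.2.2.2.1]
    simp
  have χ31 : chi chevF4 K (ext chevF4 K (pr m ζ⁻¹ 1)) 31 = (ζ ^ 2 ^ m) ^ 2 * ζ⁻¹ := by
    rw [chi_pr, cartan31.1, cartan31.2.1, cartan31.2.2.1, cartan31.2.2.2]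
    simp
  have χ31ne : (ζ ^ 2 ^ m) ^ 2 * ζ⁻¹ ≠ 1 := by
    intro h1
    have h2 : ζ ^ (2 ^ m * 2 - 1) = 1 := by
      have h3 : ζ ^ (2 ^ m * 2 - 1) * ζ = ζ := by
        rw [← pow_succ, Nat.sub_add_cancel (by omega), pow_mul]
        exact mul_inv_eq_one.mp h1
      exact mul_right_cancel (h3.trans (one_mul ζ).symm)
    have h4 := orderOf_dvd_of_pow_eq_one h2
    rw [hord] at h4
    have h5 := Nat.le_of_dvd (by omega) h4
    have h6 : 2 ^ m * 2 ≤ 2 ^ m * 2 ^ m := Nat.mul_le_mul_left _ hθ2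
    omega
  have hζ1 : ζ ≠ 1 := by
    intro h1
    rw [h1, orderOf_one] at hord
    have : 2 ^ m * 2 ≤ 2 ^ m * 2 ^ m := Nat.mul_le_mul_left _ hθ2
    omega
  -- the Coxeter element
  have hnG : nC K ∈ twistedF4 K (2 ^ m) :=
    Subgroup.mul_mem _ (sgF_mem hK 0 (by decide)) (sgF_mem hK 1 (by decide))
  have hnact : ActsAs1 dc (nC K) cox := nC_acts
  generalize hh : torusHom chevF4 K (pr m ζ⁻¹ 1) = h at hhG hsc
  generalize hn : nC K = n at hnG hnact
  have hH : h ∈ chevF4.diagonalSubgroup K := by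
    rw [← hh]
    exact Cfsg.Agent.Lib.Helper36_F4H.torusHom_mem _
  have hH' : n * h * n⁻¹ ∈ chevF4.diagonalSubgroup K := by
    have hnN : n ∈ chevF4.monomialSubgroup K := hn ▸ nC_mono
    exact (Subgroup.mem_normalizer_iff.mp
      (Cfsg.Agent.Lib.Helper36_ChevCore.monomial_le_normalizer chevF4 K (hfK K) hnN) h).mp hH
  have hcomm : Commute h (n * h * n⁻¹) := by
    rw [← range_torusHom chevF4 K (hfK K)] at hH hH'
    obtain ⟨u, hu⟩ := hH
    obtain ⟨u', hu'⟩ := hH'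
    show h * (n * h * n⁻¹) = n * h * n⁻¹ * h
    rw [← hu', ← hu, ← map_mul, ← map_mul, mul_comm]
  have hsc' : Scales (n * h * n⁻¹)
      (fun r => ((chi chevF4 K (ext chevF4 K (pr m ζ⁻¹ 1)) (coxInv r) : Kˣ) : K)) :=
    scales_conj hnact coxInv_ok hsc
  have hh'G : n * h * n⁻¹ ∈ twistedF4 K (2 ^ m) :=
    Subgroup.mul_mem _ (Subgroup.mul_mem _ hnG hhG) (Subgroup.inv_mem _ hnG)
  generalize hh' : n * h * n⁻¹ = h' at hcomm hsc' hh'G
  -- the two generators
  set x : GL chevF4.Idx K := b2w 27 25 28 30 m 1 0 with hx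
  have hxG : x ∈ twistedF4 K (2 ^ m) := b2w_mem 1 0
  refine ⟨h, x * n, hhG, Subgroup.mul_mem _ hxG hnG, ?_⟩
  set G1 : Subgroup (GL chevF4.Idx K) := Subgroup.closure {h, x * n} with hG1
  have hhG1 : h ∈ G1 := Subgroup.subset_closure (Set.mem_insert _ _)
  have hbG1 : x * n ∈ G1 := Subgroup.subset_closure (Set.mem_insert_of_mem _ rfl)
  -- the first element of the root subgroup
  have hx1 : IsB m x 1 := ⟨0, rfl⟩
  have hxinv : IsB m x⁻¹ 1 := isB_inv hK hx1
  have hx' : IsB m (h' * x⁻¹ * h'⁻¹) _ := isB_scale hK hsc' hh'G hxinv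
  have hz : IsB m (x * (h' * x⁻¹ * h'⁻¹)) _ := isB_mul hK hx1 hx'
  have hhz : IsB m (h * (x * (h' * x⁻¹ * h'⁻¹)) * h⁻¹) _ := isB_scale hK hsc hhG hz
  have hc := isB_mul hK hhz (isB_inv hK hz)
  have ec : h * (x * (h' * x⁻¹ * h'⁻¹)) * h⁻¹ * (x * (h' * x⁻¹ * h'⁻¹))⁻¹ =
      h * (x * n * h * (x * n)⁻¹) * h⁻¹ * (x * n * h * (x * n)⁻¹)⁻¹ := by
    have e1 : x * n * h * (x * n)⁻¹ = x * (h' * x⁻¹ * h'⁻¹) * h' := by
      rw [← hh']
      group
    have e2 : h' * h⁻¹ = h⁻¹ * h' := (hcomm.symm.inv_right).eq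
    rw [e1]
    calc h * (x * (h' * x⁻¹ * h'⁻¹)) * h⁻¹ * (x * (h' * x⁻¹ * h'⁻¹))⁻¹
        = h * (x * (h' * x⁻¹ * h'⁻¹)) * (h⁻¹ * h') * h'⁻¹ * (x * (h' * x⁻¹ * h'⁻¹))⁻¹ := by group
      _ = h * (x * (h' * x⁻¹ * h'⁻¹)) * (h' * h⁻¹) * h'⁻¹ * (x * (h' * x⁻¹ * h'⁻¹))⁻¹ := by rw [e2]
      _ = h * (x * (h' * x⁻¹ * h'⁻¹) * h') * h⁻¹ * (x * (h' * x⁻¹ * h'⁻¹) * h')⁻¹ := by group
  rw [ec] at hc
  have hcG1 : h * (x * n * h * (x * n)⁻¹) * h⁻¹ * (x * n * h * (x * n)⁻¹)⁻¹ ∈ G1 := by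
    have hy : x * n * h * (x * n)⁻¹ ∈ G1 := G1.mul_mem (G1.mul_mem hbG1 hhG1) (G1.inv_mem hbG1)
    exact G1.mul_mem (G1.mul_mem (G1.mul_mem hhG1 hy) (G1.inv_mem hhG1)) (G1.inv_mem hy)
  generalize h * (x * n * h * (x * n)⁻¹) * h⁻¹ * (x * n * h * (x * n)⁻¹)⁻¹ = c at hc hcG1
  -- the first parameter of `c` does not vanish
  simp only [cox_tab.1, χ25, χ31] at hc
  set a : K := (((ζ ^ 2 ^ m) ^ 2 * ζ⁻¹ : Kˣ) : K) with ha
  have ha1 : a ≠ 1 := by
    intro h1
    apply χ31ne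
    apply Units.ext
    rw [← ha, h1, Units.val_one]
  have htc : (ζ : K) * (1 + a * 1) + (1 + a * 1) ≠ 0 := by
    have e : (ζ : K) * (1 + a * 1) + (1 + a * 1) = ((ζ : K) + 1) * (1 + a) := by ring
    rw [e]
    apply mul_ne_zero
    · intro h1
      apply hζ1
      apply Units.ext
      rw [Units.val_one]
      have h2 := CharTwo.add_eq_zero.mp h1
      exact h2
    · intro h1
      apply ha1
      exact (CharTwo.add_eq_zero.mp h1).symm
  generalize (ζ : K) * (1 + a * 1) + (1 + a * 1) = tc at hc htc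
  -- all first parameters occur
  have hpowc : ∀ k : ℕ, h ^ k * c * (h ^ k)⁻¹ ∈ G1 ∧ IsB m (h ^ k * c * (h ^ k)⁻¹) ((ζ : K) ^ k * tc) := by
    intro k
    induction k with
    | zero =>
      simp only [pow_zero, one_mul, _root_.inv_one, mul_one]
      exact ⟨hcG1, hc⟩
    | succ k ih =>
      have e : h ^ (k + 1) * c * (h ^ (k + 1))⁻¹ = h * (h ^ k * c * (h ^ k)⁻¹) * h⁻¹ := by
        rw [pow_succ']
        group
      rw [e]
      refine ⟨G1.mul_mem (G1.mul_mem hhG1 ih.1) (G1.inv_mem hhG1), ?_⟩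
      have h1 := isB_scale hK hsc hhG ih.2
      simp only [χ25] at h1
      have e4 : (ζ : K) ^ (k + 1) * tc = (ζ : K) * ((ζ : K) ^ k * tc) := by rw [pow_succ', mul_assoc]
      rw [e4]
      exact h1
  have hall : ∀ t : K, t ≠ 0 → ∃ g ∈ G1, IsB m g t := by
    intro t ht
    obtain ⟨k, hk⟩ := hpow (Units.mk0 t ht * (Units.mk0 tc htc)⁻¹)
    refine ⟨_, (hpowc k).1, ?_⟩
    have e : (ζ : K) ^ k * tc = t := by
      have h1 := congrArg Units.val hk
      rw [Units.val_pow_eq_pow_val, Units.val_mul, Units.val_mk0, Units.val_inv_eq_inv_val, Units.val_mk0] at h1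
      rw [h1, mul_assoc, inv_mul_cancel₀ htc, mul_one]
    rw [← e]
    exact (hpowc k).2
  -- the centre of the root subgroup
  have hcen : ∀ v : K, b2w 27 25 28 30 m 0 v ∈ G1 := by
    intro v
    obtain ⟨t, rfl⟩ := exists_theta_succ hK v
    by_cases ht : t = 0
    · rw [ht, mul_zero, b2w_zero]
      exact G1.one_mem
    · obtain ⟨g, hg, u, rfl⟩ := hall t ht
      have e := b2w_mul hK t u t u
      rw [CharTwo.add_self_eq_zero, CharTwo.add_self_eq_zero, zero_add] at e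
      rw [← e]
      exact G1.mul_mem hg hg
  -- the root subgroup
  have hX : ∀ t u : K, b2w 27 25 28 30 m t u ∈ G1 := by
    intro t u
    by_cases ht : t = 0
    · rw [ht]
      exact hcen u
    · obtain ⟨g, hg, u0, rfl⟩ := hall t ht
      have e := b2w_mul hK t u0 0 (u0 + u)
      rw [add_zero, mul_zero, add_zero, ← add_assoc, CharTwo.add_self_eq_zero, zero_add] at e
      rw [← e]
      exact G1.mul_mem hg (hcen _)
  -- the Coxeter element
  have hnG1 : n ∈ G1 := by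
    have e : n = x⁻¹ * (x * n) := by group
    rw [e]
    exact G1.mul_mem (G1.inv_mem (hX 1 0)) hbG1
  have hnk : ∀ k : ℕ, n ^ k ∈ G1 := fun k => G1.pow_mem hnG1 k
  have hconj : ∀ (k : ℕ) (g : GL chevF4.Idx K), g ∈ G1 → n ^ k * g * (n ^ k)⁻¹ ∈ G1 := fun k g hg =>
    G1.mul_mem (G1.mul_mem (hnk k) hg) (G1.inv_mem (hnk k))
  -- the root subgroup of the image of the class under the inverse of the Coxeter element
  have hX7 : ∀ t u : K, b2w 35 31 40 46 m t u ∈ G1 := by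
    intro t u
    have e := conj_b2w (actsAs1_pow hnact 7) m t u
    rw [cox_tab.2.1.1, cox_tab.2.1.2.1, cox_tab.2.1.2.2.1, cox_tab.2.1.2.2.2] at e
    rw [← e]
    exact hconj 7 _ (hX t u)
  -- the root subgroups of the classes of type `A₁ × A₁`
  have hP3 : ∀ v : K, pw 37 32 m v ∈ G1 := by
    intro v
    have e := comm_rel m v 0 1 (0 : K)
    rw [mul_one] at e
    have e2 : pw 37 32 m v = (b2w 27 25 28 30 m v 0 * b2w 35 31 40 46 m 1 0)⁻¹ *
        (b2w 35 31 40 46 m 1 0 * b2w 27 25 28 30 m v 0) := by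
      rw [e]
      group
    rw [e2]
    exact G1.mul_mem (G1.inv_mem (G1.mul_mem (hX v 0) (hX7 1 0))) (G1.mul_mem (hX7 1 0) (hX v 0))
  have hP : ∀ v : K, pw 33 24 m v ∈ G1 := by
    intro v
    have e := conj_pw (actsAs1_pow hnact 3) m v
    rw [cox_tab.2.2.1.1, cox_tab.2.2.1.2] at e
    have e2 : pw 33 24 m v = (n ^ 3)⁻¹ * (n ^ 3 * pw 33 24 m v * (n ^ 3)⁻¹) * n ^ 3 := by group
    rw [e2, e]
    exact G1.mul_mem (G1.mul_mem (G1.inv_mem (hnk 3)) (hP3 v)) (hnk 3)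
  have hPn : ∀ v : K, pw 14 23 m v ∈ G1 := by
    intro v
    have e := conj_pw (actsAs1_pow hnact 4) m v
    rw [cox_tab.2.2.2.1.1, cox_tab.2.2.2.1.2] at e
    rw [← e]
    exact hconj 4 _ (hP v)
  have hXn : ∀ t u : K, b2w 20 22 19 17 m t u ∈ G1 := by
    intro t u
    have e := conj_b2w (actsAs1_pow hnact 4) m t u
    rw [cox_tab.2.2.2.2.1, cox_tab.2.2.2.2.2.1, cox_tab.2.2.2.2.2.2.1, cox_tab.2.2.2.2.2.2.2] at e
    rw [← e]
    exact hconj 4 _ (hX t u)
  -- the two inclusions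
  apply le_antisymm
  · rw [hG1, Subgroup.closure_le]
    intro g hg
    rcases hg with rfl | rfl
    · exact hhG
    · exact Subgroup.mul_mem _ hxG hnG
  · unfold twistedF4 ChevalleyDatum.genSubgroup
    rw [Subgroup.closure_le]
    rintro g ⟨w, hwS, hgw⟩
    have e : g = wordGL dc w := Units.ext (hgw.trans (wordGL_coe dc w).symm)
    rw [SetLike.mem_coe, e]
    rcases hwS with ⟨t, hw | hw⟩ | ⟨t, u, hw | hw⟩
    · rw [hw, ← pw_eq_word]
      exact hP t
    · rw [hw, ← pw_eq_word]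
      exact hPn t
    · rw [hw, ← b2w_eq_word]
      exact hX t u
    · rw [hw, ← b2w_eq_word]
      exact hXn t u

include hK in
/-- The twisted group is generated by two elements, if the field has more than two elements. -/
theorem two_generated (hm : 1 ≤ m) :
    ∃ a b : ↥(twistedF4 K (2 ^ m)), Subgroup.closure ({a, b} : Set ↥(twistedF4 K (2 ^ m))) = ⊤ := by
  obtain ⟨a, b, ha, hb, hab⟩ := gen_two hK hm
  refine ⟨⟨a, ha⟩, ⟨b, hb⟩, ?_⟩
  apply Subgroup.map_injective (twistedF4 K (2 ^ m)).subtype_injective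
  rw [MonoidHom.map_closure, ← MonoidHom.range_eq_map, Subgroup.range_subtype, Set.image_pair]
  exact hab

end main

end Cfsg.Agent.Lib.Helper15_TF4Gen
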