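import Cfsg.Agent.Lib.Helper36_F4Perf

set_option autoImplicit false
set_option maxRecDepth 100000

/-!
Type `²F₄`: relations between root elements of `F₄` in characteristic two which are used for the generation of the
twisted group by two elements: the multiplication of the words of the class of type `B₂`, and the commutator of the
words of two classes of type `B₂` at distance two.
-/

namespace Cfsg.Agent.Lib.Helper15_TF4Rel

open Cfsg Cfsg.Lie Cfsg.Agent.Lib.Helper18_ChevFast Cfsg.Agent.Lib.Helper18_ChevEngine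
  Cfsg.Agent.Lib.Helper18_ChevN Cfsg.Agent.Lib.Helper18_ChevWeyl
  Cfsg.Agent.Lib.Helper18_ChevGL Cfsg.Agent.Lib.Helper18_ChevTri
  Cfsg.Agent.Lib.Helper18_ChevAdd Cfsg.Agent.Lib.Helper18_ChevUni
  Cfsg.Agent.Lib.Helper18_ChevComm Cfsg.Agent.Lib.Helper18_ChevAutC
  Cfsg.Agent.Lib.Helper18_TwistA Cfsg.Agent.Lib.Helper18_TwistB Cfsg.Agent.Lib.Helper18_TwistF4A
  Cfsg.Agent.Lib.Helper36_F4Setup

/-! ### Rearrangements in a group -/

section grp

variable {G : Type*} [Group G]

/-- Moving an element `x` to the left through a product of four, picking up a commutator term `p`. -/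
theorem move_left (x a' b' c' d' p : G) (hb : Commute x b') (hc : Commute x c') (hd : Commute x d')
    (pb : Commute p b') (pc : Commute p c') (pd : Commute p d') (r : a' * x = x * a' * p) :
    a' * b' * c' * d' * x = x * (a' * b' * c' * d') * p := by
  simp only [mul_assoc]
  rw [hd.symm.eq, hc.symm.left_comm, hb.symm.left_comm, ← mul_assoc a' x, r]
  simp only [mul_assoc]
  rw [pb.left_comm, pc.left_comm, pd.eq]

/-- Moving an element `x` to the left through a product of four, picking up a commutator term `q` at the second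
factor. -/
theorem move_left2 (x a' b' c' d' q : G) (ha : Commute x a') (hc : Commute x c') (hd : Commute x d')
    (qc : Commute q c') (qd : Commute q d') (r : b' * x = x * b' * q) :
    a' * b' * c' * d' * x = x * (a' * b' * c' * d') * q := by
  simp only [mul_assoc]
  rw [hd.symm.eq, hc.symm.left_comm, ← mul_assoc b' x, r]
  simp only [mul_assoc]
  rw [ha.symm.left_comm, qc.left_comm, qd.eq]

/-- The commutator of two products of four. -/
theorem comm_core (a b c d a' b' c' d' p q : G)
    (h1 : Commute a b') (h2 : Commute a c') (h3 : Commute a d')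
    (hp1 : Commute p b') (hp2 : Commute p c') (hp3 : Commute p d') (hp4 : Commute p b) (hp5 : Commute p c)
    (hp6 : Commute p d)
    (h4 : Commute b a') (h5 : Commute b c') (h6 : Commute b d')
    (hq1 : Commute q c') (hq2 : Commute q d') (hq3 : Commute q c) (hq4 : Commute q d)
    (h7 : Commute c a') (h8 : Commute c b') (h9 : Commute c c') (h10 : Commute c d')
    (h11 : Commute d a') (h12 : Commute d b') (h13 : Commute d c') (h14 : Commute d d')
    (hpq : Commute p q)
    (ra : a' * a = a * a' * p) (rb : b' * b = b * b' * q) :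
    a' * b' * c' * d' * (a * b * c * d) = a * b * c * d * (a' * b' * c' * d') * (p * q) := by
  set g' := a' * b' * c' * d' with hg'
  have eA : g' * a = a * g' * p := move_left a a' b' c' d' p h1 h2 h3 hp1 hp2 hp3 ra
  have eB : g' * b = b * g' * q := move_left2 b a' b' c' d' q h4 h5 h6 hq1 hq2 rb
  have eC : Commute g' c :=
    (((h7.symm.mul_left h8.symm).mul_left h9.symm).mul_left h10.symm)
  have eD : Commute g' d :=
    (((h11.symm.mul_left h12.symm).mul_left h13.symm).mul_left h14.symm)
  calc g' * (a * b * c * d) = g' * a * b * c * d := by simp only [mul_assoc]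
    _ = a * g' * p * b * c * d := by rw [eA]
    _ = a * (g' * b) * c * d * p := by
      simp only [mul_assoc]
      rw [hp4.left_comm, hp5.left_comm, hp6.eq]
    _ = a * (b * g' * q) * c * d * p := by rw [eB]
    _ = a * b * (g' * c) * d * q * p := by
      simp only [mul_assoc]
      rw [hq3.left_comm, hq4.left_comm]
    _ = a * b * (c * g') * d * q * p := by rw [eC.eq]
    _ = a * b * c * (g' * d) * q * p := by simp only [mul_assoc]
    _ = a * b * c * (d * g') * q * p := by rw [eD.eq]
    _ = a * b * c * d * g' * (p * q) := by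
      rw [hpq.eq]
      simp only [mul_assoc]

/-- The rearrangement for the product of two elements of a class of type `B₂` in characteristic two. -/
theorem b2_core (a b c d a' b' c' d' e f : G)
    (hca' : Commute c a') (hcb' : Commute c b') (hda' : Commute d a') (hdb' : Commute d b') (hdc' : Commute d c')
    (heb' : Commute e b') (hfb' : Commute f b') (hfc : Commute f c) (hfc' : Commute f c')
    (r : b * a' = a' * b * e * f) :
    a * b * c * d * (a' * b' * c' * d') = a * a' * (b * b') * (e * c * c') * (f * d * d') := by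
  calc a * b * c * d * (a' * b' * c' * d') = a * b * c * (a' * b' * c') * d * d' := by
        simp only [mul_assoc]
        rw [hda'.left_comm, hdb'.left_comm, hdc'.left_comm]
    _ = a * (b * a') * b' * c * c' * d * d' := by
        simp only [mul_assoc]
        rw [hca'.left_comm, hcb'.left_comm]
    _ = a * (a' * b * e * f) * b' * c * c' * d * d' := by rw [r]
    _ = a * a' * (b * b') * (e * c * c') * (f * d * d') := by
        simp only [mul_assoc]
        rw [hfb'.left_comm, heb'.left_comm, hfc.left_comm, hfc'.left_comm]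

end grp

/-! ### The relations of `F₄` -/

section f4

variable {K : Type*} [Field K]

/-- The pairs of roots with commuting root subgroups which are used below. -/
def commPairs : List (ℕ × ℕ) :=
  [(27, 46), (27, 40), (27, 31), (37, 31), (37, 40), (37, 46), (37, 25), (37, 28), (37, 30), (25, 35), (25, 40),
    (25, 46), (32, 40), (32, 46), (32, 28), (32, 30), (28, 35), (28, 31), (28, 40), (28, 46), (30, 35), (30, 31),
    (30, 40), (30, 46), (37, 32)]

set_option maxHeartbeats 0 in
theorem commCerts : ∀ p ∈ commPairs, CommCert chevF4 p.1 p.2 := by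
  decide +kernel

theorem cm {r s : ℕ} (h : (r, s) ∈ commPairs) (t u : K) : Commute (xGL dc r t) (xGL dc s u) :=
  comm_of_cert dc (certs K).r2 (commCerts (r, s) h) t u

set_option maxHeartbeats 0 in
theorem sumCerts : chevF4.commTerms 27 35 = [(37, 1, 1, 1)] ∧ chevF4.commTerms 25 31 = [(32, 1, 1, 1)] := by
  decide +kernel

/-- The commutator formula for two roots whose sum is the only positive combination which is a root, in
characteristic two. -/
theorem sumRel [CharP K 2] {r s k : ℕ} (hr : r < chevF4.nroots) (hs : s < chevF4.nroots) (h1 : s ≠ r)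
    (h2 : s ≠ chevF4.neg r) (he : chevF4.commTerms r s = [(k, 1, 1, 1)]) (t u : K) :
    xGL dc s u * xGL dc r t = xGL dc r t * xGL dc s u * xGL dc k (t * u) := by
  have h := (certs K).r2 r s hr hs h1 h2 t u
  unfold ChevalleyDatum.commWord at h
  rw [he] at h
  simp only [List.map_cons, List.map_nil, ChevalleyDatum.wordMat, List.prod_cons, List.prod_nil, mul_one,
    pow_one, Int.cast_one, one_mul, neg_eq_self'] at h
  apply Units.ext
  simp only [Units.val_mul, xGL_coe]
  exact h

/-- The word of the class of `p₂, p₃` with given parameters. -/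
def b2w (a b cc d : ℕ) (m : ℕ) (t u : K) : GL chevF4.Idx K :=
  xGL dc a (t ^ 2 ^ m) * xGL dc b t * xGL dc cc (t ^ (2 ^ m + 1) + u) * xGL dc d (u ^ (2 * 2 ^ m))

/-- The word of the class of `p₁, p₄` with given parameter. -/
def pw (s l : ℕ) (m : ℕ) (t : K) : GL chevF4.Idx K := xGL dc s (t ^ 2 ^ m) * xGL dc l t

theorem b2w_eq_word (a b cc d : ℕ) (m : ℕ) (t u : K) :
    b2w a b cc d m t u = wordGL dc (b2ClassWord (2 ^ m) a b cc d t u) := by
  unfold b2w b2ClassWord
  simp only [wordGL_cons, wordGL_nil, mul_one, mul_assoc]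

theorem pw_eq_word (s l : ℕ) (m : ℕ) (t : K) : pw s l m t = wordGL dc (f4PairWord (2 ^ m) s l t) := by
  unfold pw f4PairWord
  simp only [wordGL_cons, wordGL_nil, mul_one]

/-- The multiplication of the words of the class of `p₂, p₃`. -/
theorem b2w_mul [Fintype K] [CharP K 2] {m : ℕ} (hK : Fintype.card K = 2 ^ (2 * m + 1)) (t u t' u' : K) :
    b2w 27 25 28 30 m t u * b2w 27 25 28 30 m t' u' =
      b2w 27 25 28 30 m (t + t') (u + u' + t ^ 2 ^ m * t') := by
  have R := b2Rel_of_cert (K := K) dc (certs K).r2 b2Cert_pos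
  have hp2 : Fact (Nat.Prime 2) := ⟨Nat.prime_two⟩
  have h2 : (2 : K) = 0 := two_eq_zero'
  unfold b2w
  rw [b2_core _ _ _ _ _ _ _ _ (xGL dc 28 (t' ^ 2 ^ m * t)) (xGL dc 30 ((t' ^ 2 ^ m) ^ 2 * t))
    (R.ac _ _).symm (R.bc _ _).symm (R.ad _ _).symm (R.bd _ _).symm (R.cd _ _).symm
    (R.bc _ _).symm (R.bd _ _).symm (R.cd _ _).symm (R.cd _ _).symm (R.rel _ _)]
  rw [xGL_mul, xGL_mul, xGL_mul, xGL_mul, xGL_mul, xGL_mul]
  have e1 : t ^ 2 ^ m + t' ^ 2 ^ m = (t + t') ^ 2 ^ m := (add_pow_char_pow t t' 2 m).symm
  have e2 : t' ^ 2 ^ m * t + (t ^ (2 ^ m + 1) + u) + (t' ^ (2 ^ m + 1) + u') =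
      (t + t') ^ (2 ^ m + 1) + (u + u' + t ^ 2 ^ m * t') := by
    rw [pow_succ (t + t'), ← e1, pow_succ, pow_succ]
    linear_combination (-(t ^ 2 ^ m * t')) * h2
  have e3 : (t' ^ 2 ^ m) ^ 2 * t + u ^ (2 * 2 ^ m) + u' ^ (2 * 2 ^ m) =
      (u + u' + t ^ 2 ^ m * t') ^ (2 * 2 ^ m) := by
    have e : 2 * 2 ^ m = 2 ^ (m + 1) := by ring
    have e4 : (t ^ 2 ^ m) ^ (2 * 2 ^ m) = t := by
      rw [← pow_mul]
      have e5 : 2 ^ m * (2 * 2 ^ m) = 2 ^ m * (2 ^ m * 2) := by ring
      rw [e5]
      exact pow_card_eq hK t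
    have e6 : (t' ^ 2 ^ m) ^ 2 = t' ^ (2 * 2 ^ m) := by
      rw [← pow_mul, mul_comm]
    rw [e6]
    nth_rewrite 4 [e]
    rw [add_pow_char_pow, add_pow_char_pow, ← e, mul_pow, e4]
    ring
  rw [e1, e2, e3]

/-- The commutator relation between the classes of `p₂, p₃` and its image under `w₂ w₁`. -/
theorem comm_rel [CharP K 2] (m : ℕ) (t u t' u' : K) :
    b2w 35 31 40 46 m t' u' * b2w 27 25 28 30 m t u =
      b2w 27 25 28 30 m t u * b2w 35 31 40 46 m t' u' * pw 37 32 m (t * t') := by
  unfold b2w pw
  have ra := sumRel (K := K) (r := 27) (s := 35) (k := 37) (by decide) (by decide) (by decide) (by decide)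
    sumCerts.1 (t ^ 2 ^ m) (t' ^ 2 ^ m)
  have rb := sumRel (K := K) (r := 25) (s := 31) (k := 32) (by decide) (by decide) (by decide) (by decide)
    sumCerts.2 t t'
  rw [mul_pow]
  exact comm_core _ _ _ _ _ _ _ _ _ _
    (cm (by decide) _ _) (cm (by decide) _ _) (cm (by decide) _ _)
    (cm (by decide) _ _) (cm (by decide) _ _) (cm (by decide) _ _) (cm (by decide) _ _) (cm (by decide) _ _)
    (cm (by decide) _ _)
    (cm (by decide) _ _) (cm (by decide) _ _) (cm (by decide) _ _)
    (cm (by decide) _ _) (cm (by decide) _ _) (cm (by decide) _ _) (cm (by decide) _ _)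
    (cm (by decide) _ _) (cm (by decide) _ _) (cm (by decide) _ _) (cm (by decide) _ _)
    (cm (by decide) _ _) (cm (by decide) _ _) (cm (by decide) _ _) (cm (by decide) _ _)
    (cm (by decide) _ _) ra rb

end f4

end Cfsg.Agent.Lib.Helper15_TF4Rel
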