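import Mathlib
import Cfsg.Prelude.Def_Characters
import Cfsg.Agent.Lib.Helper15_PiChar
import Cfsg.Agent.Lib.Helper82_ItoMichler
import Cfsg.Agent.Lib.Helper75_RelGlaubGal
import Cfsg.Agent.Lib.Helper75_LinChar
import Cfsg.Agent.Lib.Helper75_CharProd
import Cfsg.Agent.Lib.Helper3_NilpMono
import Cfsg.Agent.S0857
import Cfsg.Agent.S0890

/-!
# `M ≀ᵣ Q` is an M-group when `M` is and `|Q|` is prime (helper15)
-/

set_option autoImplicit false
set_option linter.unusedSectionVars false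

namespace Cfsg.Agent.Lib.Helper15_WreathM

open Cfsg Cfsg.Agent.Lib.Helper75_Induced Cfsg.Agent.Lib.Helper75_Clifford
  Cfsg.Agent.Lib.Helper3_CharBridge Cfsg.Agent.Lib.Helper3_CharOrtho
  Cfsg.Agent.Lib.Helper15_PiChar Cfsg.Agent.Lib.Helper75_CharArith

universe u v

section PrimeIndex

variable {G : Type u} [Group G] [Fintype G]

/-- Dichotomy for a normal subgroup of prime index. -/
theorem prime_index_dichotomy (N : Subgroup G) [hN : N.Normal] [Fintype N] (hp : N.index.Prime)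
    {χ : G → ℂ} (hχ : Cfsg.IsIrrCharacter G χ) :
    (∃ θ : ↥N → ℂ, Cfsg.IsIrrCharacter N θ ∧ χ = Cfsg.indFun N θ) ∨
    (∃ θ : ↥N → ℂ, Cfsg.IsIrrCharacter N θ ∧
      (∀ (g : G) (n : N), θ ⟨g * n * g⁻¹, hN.conj_mem (n : G) n.2 g⟩ = θ n) ∧
      Cfsg.classInner (res N χ) θ ≠ 0) := by
  classical
  have hres : Cfsg.IsCharacter N (res N χ) := isCharacter_res N (isCharacter_of_isIrrCharacter hχ)
  have h1 : (res N χ) 1 ≠ 0 := by
    show χ ((1 : N) : G) ≠ 0
    exact irr_one_ne_zero hχ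
  obtain ⟨θ, hθ, hθχ⟩ := Cfsg.Agent.S0857.exists_constituent hres h1
  set T := Cfsg.Agent.Lib.Helper82_ItoMichler.stab N θ with hT
  have hNT : N ≤ T := Cfsg.Agent.Lib.Helper82_ItoMichler.le_stab N
    (isClassFunction_of_isIrrCharacter hθ)
  have hmem : ∀ g : G, g ∈ T ↔ Helper75_Clifford.conjFun N hN θ g = θ :=
    Cfsg.Agent.Lib.Helper82_ItoMichler.mem_stab N θ
  have hco : IsCoatom N := by
    refine ⟨?_, ?_⟩
    · intro h
      rw [h, Subgroup.index_top] at hp
      exact Nat.not_prime_one hp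
    · intro K hK
      have h2 := Subgroup.relIndex_mul_index hK.le
      have h3 : N.relIndex K ∣ N.index := Dvd.intro _ h2
      rcases (Nat.dvd_prime hp).mp h3 with h4 | h4
      · exfalso
        have := Subgroup.relIndex_eq_one.mp h4
        exact absurd (le_antisymm hK.le this) (ne_of_lt hK)
      · rw [h4] at h2
        have h5 : K.index = 1 := by
          have hpos : 0 < N.index := hp.pos
          exact Nat.eq_of_mul_eq_mul_left hpos (by rw [h2, mul_one])
        exact Subgroup.index_eq_one.mp h5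
  rcases eq_or_lt_of_le hNT with h | h
  · left
    have hT' : ∀ g : G, g ∈ N ↔ Helper75_Clifford.conjFun N hN θ g = θ := by
      intro g
      rw [← hmem g, ← h]
    obtain ⟨ψ, hψ, hind, -⟩ := corr_surj N N hN le_rfl hθ hT' hχ hθχ
    exact ⟨ψ, hψ, hind.symm⟩
  · right
    have htop : T = ⊤ := hco.2 T h
    refine ⟨θ, hθ, ?_, hθχ⟩
    intro g n
    have hg : g ∈ T := by rw [htop]; exact Subgroup.mem_top _
    have h2 := congrFun ((hmem g).mp hg) n
    rw [Helper75_Clifford.conjFun_apply] at h2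
    simpa using h2

end PrimeIndex


section Wreath

open RegularWreathProduct

variable {D : Type u} {Q : Type v} [Group D] [Group Q]

/-- the base group of the wreath product -/
def baseSub (D : Type u) (Q : Type v) [Group D] [Group Q] : Subgroup (D ≀ᵣ Q) :=
  (rightHom : D ≀ᵣ Q →* Q).ker

instance baseSub_normal : (baseSub D Q).Normal := MonoidHom.normal_ker _

theorem mem_baseSub (w : D ≀ᵣ Q) : w ∈ baseSub D Q ↔ w.right = 1 := MonoidHom.mem_ker

/-- `(Q → D) ≃* base group`. -/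
def baseEquiv (D : Type u) (Q : Type v) [Group D] [Group Q] : (Q → D) ≃* ↥(baseSub D Q) where
  toFun f := ⟨⟨f, 1⟩, (mem_baseSub _).mpr rfl⟩
  invFun b := b.1.left
  left_inv f := rfl
  right_inv b := by
    apply Subtype.ext
    ext
    · rfl
    · exact ((mem_baseSub _).mp b.2).symm
  map_mul' f g := by
    apply Subtype.ext
    ext
    · simp [mul_left]
    · simp

theorem index_baseSub [Finite Q] : (baseSub D Q).index = Nat.card Q := by
  unfold baseSub
  rw [Subgroup.index_ker]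
  have : (rightHom : D ≀ᵣ Q →* Q).range = ⊤ := by
    rw [MonoidHom.range_eq_top]
    intro q
    exact ⟨inl q, rfl⟩
  rw [this, Subgroup.card_top]

/-- `H₀ ≀ Q` as a subgroup of `D ≀ Q`. -/
def wrSub (Q : Type v) [Group Q] (H₀ : Subgroup D) : Subgroup (D ≀ᵣ Q) where
  carrier := {w | ∀ q, w.left q ∈ H₀}
  one_mem' := fun _ => H₀.one_mem
  mul_mem' := by
    intro a b ha hb q
    show (a.left * fun x => b.left (a.right⁻¹ * x)) q ∈ H₀
    exact H₀.mul_mem (ha q) (hb _)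
  inv_mem' := by
    intro a ha q
    show (a.left⁻¹) (a.right * q) ∈ H₀
    exact H₀.inv_mem (ha _)

theorem mem_wrSub (H₀ : Subgroup D) (w : D ≀ᵣ Q) : w ∈ wrSub Q H₀ ↔ ∀ q, w.left q ∈ H₀ := Iff.rfl

variable [Fintype Q]

/-- the product linear character on `H₀ ≀ Q`. -/
noncomputable def wrHom (H₀ : Subgroup D) (lam : ↥H₀ →* ℂˣ) : ↥(wrSub Q H₀) →* ℂˣ where
  toFun w := ∏ q, lam ⟨w.1.left q, w.2 q⟩
  map_one' := by
    apply Finset.prod_eq_one
    intro q _
    exact map_one lam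
  map_mul' a b := by
    have h1 : ∀ q, lam ⟨(a * b).1.left q, (a * b).2 q⟩ =
        lam ⟨a.1.left q, a.2 q⟩ * lam ⟨b.1.left (a.1.right⁻¹ * q), b.2 _⟩ := by
      intro q
      rw [← map_mul]
      rfl
    rw [Finset.prod_congr rfl (fun q _ => h1 q), Finset.prod_mul_distrib]
    congr 1
    exact Fintype.prod_equiv (Equiv.mulLeft a.1.right⁻¹) _ _ (fun q => rfl)

theorem wrHom_apply (H₀ : Subgroup D) (lam : ↥H₀ →* ℂˣ) (w : ↥(wrSub Q H₀)) :
    ((wrHom H₀ lam w : ℂˣ) : ℂ) = ∏ q, ((lam ⟨w.1.left q, w.2 q⟩ : ℂˣ) : ℂ) := by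
  unfold wrHom
  simp [Units.coe_prod]

theorem extendByZero_wrHom (H₀ : Subgroup D) (lam : ↥H₀ →* ℂˣ) (w : D ≀ᵣ Q) :
    Cfsg.extendByZero (wrSub Q H₀) (fun h => ((wrHom H₀ lam h : ℂˣ) : ℂ)) w =
      ∏ q, Cfsg.extendByZero H₀ (fun h => ((lam h : ℂˣ) : ℂ)) (w.left q) := by
  by_cases hw : w ∈ wrSub Q H₀
  · rw [extendByZero_of_mem _ _ hw, wrHom_apply]
    refine Finset.prod_congr rfl (fun q _ => ?_)
    rw [extendByZero_of_mem _ _ (hw q)]
  · rw [extendByZero_of_not_mem _ _ hw]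
    have : ∃ q, w.left q ∉ H₀ := by
      by_contra hcon
      push Not at hcon
      exact hw hcon
    obtain ⟨q, hq⟩ := this
    symm
    apply Finset.prod_eq_zero (Finset.mem_univ q)
    exact extendByZero_of_not_mem _ _ hq

theorem card_wrSub (H₀ : Subgroup D) :
    Nat.card ↥(wrSub Q H₀) = Nat.card ↥H₀ ^ Nat.card Q * Nat.card Q := by
  rw [← Nat.card_fun, ← Nat.card_prod]
  apply Nat.card_congr
  exact {
    toFun := fun w => (fun q => ⟨w.1.left q, w.2 q⟩, w.1.right)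
    invFun := fun p => ⟨⟨fun q => (p.1 q).1, p.2⟩, fun q => (p.1 q).2⟩
    left_inv := fun w => rfl
    right_inv := fun p => rfl }

theorem conj_base (f β : Q → D) (q : Q) :
    (⟨f, q⟩ : D ≀ᵣ Q)⁻¹ * ⟨β, 1⟩ * ⟨f, q⟩ =
      ⟨fun y => (f (q * y))⁻¹ * β (q * y) * f (q * y), 1⟩ := by
  ext y
  · simp [mul_left, inv_left]
  · simp

end Wreath


section WreathInd

open RegularWreathProduct

variable {D : Type u} {Q : Type v} [Group D] [Group Q] [Fintype D] [Fintype Q]

theorem indFun_wr_base [Fintype (D ≀ᵣ Q)] (H₀ : Subgroup D) (lam : ↥H₀ →* ℂˣ) (β : Q → D) :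
    Cfsg.indFun (wrSub Q H₀) (fun h => ((wrHom H₀ lam h : ℂˣ) : ℂ)) (⟨β, 1⟩ : D ≀ᵣ Q) =
      ∏ y, Cfsg.indFun H₀ (fun h => ((lam h : ℂˣ) : ℂ)) (β y) := by
  classical
  rw [indFun_apply]
  simp only [indFun_apply]
  have hsum : ∑ x : D ≀ᵣ Q, Cfsg.extendByZero (wrSub Q H₀)
      (fun h => ((wrHom H₀ lam h : ℂˣ) : ℂ)) (x⁻¹ * ⟨β, 1⟩ * x) =
      (Nat.card Q : ℂ) * ∏ y, ∑ m : D,
        Cfsg.extendByZero H₀ (fun h => ((lam h : ℂˣ) : ℂ)) (m⁻¹ * β y * m) := by
    rw [Finset.prod_univ_sum, Fintype.piFinset_univ]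
    have h1 : ∀ x : D ≀ᵣ Q, Cfsg.extendByZero (wrSub Q H₀)
        (fun h => ((wrHom H₀ lam h : ℂˣ) : ℂ)) (x⁻¹ * ⟨β, 1⟩ * x) =
        ∏ y, Cfsg.extendByZero H₀ (fun h => ((lam h : ℂˣ) : ℂ))
          ((x.left y)⁻¹ * β y * x.left y) := by
      intro x
      obtain ⟨f, q⟩ := x
      rw [conj_base, extendByZero_wrHom]
      exact Fintype.prod_equiv (Equiv.mulLeft q) _ _ (fun y => rfl)
    rw [Finset.sum_congr rfl (fun x _ => h1 x)]
    rw [← Fintype.sum_equiv (equivProd D Q).symm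
      (fun p : (Q → D) × Q => ∏ y, Cfsg.extendByZero H₀ (fun h => ((lam h : ℂˣ) : ℂ))
          ((p.1 y)⁻¹ * β y * p.1 y)) _ (fun p => rfl)]
    rw [Fintype.sum_prod_type]
    simp only [Finset.sum_const, Finset.card_univ, nsmul_eq_mul]
    rw [← Finset.mul_sum, Nat.card_eq_fintype_card]
  rw [hsum, card_wrSub, Finset.prod_mul_distrib]
  have hH : (Nat.card ↥H₀ : ℂ) ≠ 0 := by
    rw [Nat.cast_ne_zero]; exact Nat.card_pos.ne'
  have hQ : (Nat.card Q : ℂ) ≠ 0 := by
    rw [Nat.cast_ne_zero]; exact Nat.card_pos.ne'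
  rw [Finset.prod_const, Finset.card_univ, ← Nat.card_eq_fintype_card]
  push_cast
  field_simp
  rw [mul_comm (_ ^ _) _, mul_assoc, one_div, ← mul_pow, mul_inv_cancel₀ hH, one_pow, mul_one]

end WreathInd


section Invariant

open RegularWreathProduct

variable {D : Type u} {Q : Type v} [Group D] [Group Q] [Fintype D] [Fintype Q]

theorem conj_inl_base (q : Q) (β : Q → D) :
    (inl q : D ≀ᵣ Q) * ⟨β, 1⟩ * (inl q)⁻¹ = ⟨fun x => β (q⁻¹ * x), 1⟩ := by
  ext y
  · simp [mul_left, inv_left]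
  · simp

theorem prod_mulSingle [DecidableEq Q] (φ : Q → D → ℂ) (a : Q) (m : D) :
    ∏ y, φ y ((Pi.mulSingle a m : Q → D) y) = φ a m * ∏ y ∈ Finset.univ.erase a, φ y 1 := by
  rw [← Finset.mul_prod_erase Finset.univ _ (Finset.mem_univ a), Pi.mulSingle_eq_same]
  congr 1
  refine Finset.prod_congr rfl (fun y hy => ?_)
  rw [Pi.mulSingle_eq_of_ne (Finset.ne_of_mem_erase hy)]

theorem exists_const_of_invariant {θ : ↥(baseSub D Q) → ℂ}
    (hθ : Cfsg.IsIrrCharacter ↥(baseSub D Q) θ)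
    (hinv : ∀ (g : D ≀ᵣ Q) (n : ↥(baseSub D Q)),
      θ ⟨g * n * g⁻¹, baseSub_normal.conj_mem (n : D ≀ᵣ Q) n.2 g⟩ = θ n) :
    ∃ φ₀ : D → ℂ, Cfsg.IsIrrCharacter D φ₀ ∧
      ∀ β : Q → D, θ (baseEquiv D Q β) = ∏ y, φ₀ (β y) := by
  classical
  have hθ' : Cfsg.IsIrrCharacter (Q → D) (fun β => θ (baseEquiv D Q β)) :=
    isIrrCharacter_comp_equiv (baseEquiv D Q) hθ
  obtain ⟨φ, hφ, hprod⟩ := exists_pi_of_isIrr Q _ hθ'
  -- shift invariance
  have hshift : ∀ (q : Q) (β : Q → D),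
      θ (baseEquiv D Q (fun x => β (q⁻¹ * x))) = θ (baseEquiv D Q β) := by
    intro q β
    rw [← hinv (inl q) (baseEquiv D Q β)]
    congr 1
    apply Subtype.ext
    exact (conj_inl_base q β).symm
  have hc : ∀ a : Q, (∏ y ∈ Finset.univ.erase a, φ y 1) ≠ 0 := by
    intro a
    rw [Finset.prod_ne_zero_iff]
    intro y _
    exact irr_one_ne_zero (hφ y)
  have heq : ∀ q y₀ : Q, φ (q * y₀) = φ y₀ := by
    intro q y₀
    by_contra hne
    have h0 := classInner_of_isIrrCharacter_of_ne (hφ (q * y₀)) (hφ y₀) hne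
    have hrel : ∀ m : D, φ (q * y₀) m * (∏ y ∈ Finset.univ.erase (q * y₀), φ y 1) =
        φ y₀ m * ∏ y ∈ Finset.univ.erase y₀, φ y 1 := by
      intro m
      rw [← prod_mulSingle φ (q * y₀) m, ← prod_mulSingle φ y₀ m]
      have h1 := hshift q (Pi.mulSingle y₀ m)
      have h2 : (fun x => (Pi.mulSingle y₀ m : Q → D) (q⁻¹ * x)) = Pi.mulSingle (q * y₀) m := by
        funext x
        by_cases hx : x = q * y₀
        · subst hx
          simp
        · rw [Pi.mulSingle_eq_of_ne hx, Pi.mulSingle_eq_of_ne]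
          intro h
          apply hx
          rw [← h]
          group
      rw [h2] at h1
      have h3 := hprod (Pi.mulSingle (q * y₀) m)
      have h4 := hprod (Pi.mulSingle y₀ m)
      rw [← h3, ← h4, h1]
    set c₁ := ∏ y ∈ Finset.univ.erase (q * y₀), φ y 1 with hc₁
    set c₂ := ∏ y ∈ Finset.univ.erase y₀, φ y 1 with hc₂
    have hfun : φ (q * y₀) = (c₂ / c₁) • φ y₀ := by
      funext m
      rw [Pi.smul_apply, smul_eq_mul]
      have := hrel m
      have hc1 : c₁ ≠ 0 := hc (q * y₀)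
      rw [div_mul_eq_mul_div, eq_div_iff hc1, this]
      ring
    rw [hfun, classInner_smul_left, classInner_self_of_isIrrCharacter (hφ y₀), mul_one] at h0
    rcases div_eq_zero_iff.mp h0 with h | h
    · exact hc y₀ h
    · exact hc (q * y₀) h
  refine ⟨φ 1, hφ 1, ?_⟩
  intro β
  rw [hprod β]
  refine Finset.prod_congr rfl (fun y _ => ?_)
  have := heq y 1
  rw [mul_one] at this
  rw [this]

end Invariant


section Main

open RegularWreathProduct Cfsg.Agent.Lib.Helper75_LinChar Cfsg.Agent.Lib.Helper75_RelGlaubGal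
  Cfsg.Agent.Lib.Helper75_RelGlaubQuot

variable {D : Type u} {Q : Type v} [Group D] [Group Q] [Fintype D] [Fintype Q]

theorem comm_of_prime_card (hp : (Nat.card Q).Prime) : ∀ a b : Q, a * b = b * a := by
  have : Fact (Nat.card Q).Prime := ⟨hp⟩
  have : IsCyclic Q := isCyclic_of_prime_card rfl
  let _ := IsCyclic.commGroup (α := Q)
  intro a b
  exact mul_comm a b

theorem comm_quotient_base (hp : (Nat.card Q).Prime) :
    ∀ a b : (D ≀ᵣ Q) ⧸ baseSub D Q, a * b = b * a := by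
  intro a b
  induction a using QuotientGroup.induction_on with
  | H x =>
    induction b using QuotientGroup.induction_on with
    | H y =>
      rw [← QuotientGroup.mk_mul, ← QuotientGroup.mk_mul, QuotientGroup.eq, mem_baseSub]
      show (x.right * y.right)⁻¹ * (y.right * x.right) = 1
      rw [comm_of_prime_card hp y.right x.right, inv_mul_cancel]

/-- **`D ≀ᵣ Q` is an M-group** when `D` is and `|Q|` is prime. -/
theorem isMGroup_wreath [Fintype (D ≀ᵣ Q)] (hD : IsMGroup D) (hp : (Nat.card Q).Prime) :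
    IsMGroup (D ≀ᵣ Q) := by
  classical
  intro χ hχ
  have hfinB : Fintype ↥(baseSub D Q) := Fintype.ofFinite _
  have hidx : (baseSub D Q).index.Prime := by rw [index_baseSub]; exact hp
  rcases prime_index_dichotomy (baseSub D Q) hidx hχ with ⟨θ, hθ, hind⟩ | ⟨θ, hθ, hinv, hover⟩
  · -- induced from the base group
    have hB : IsMGroup ↥(baseSub D Q) := isMGroup_of_mulEquiv (baseEquiv D Q) (isMGroup_pi hD)
    obtain ⟨H', μ, hμ⟩ := hB θ hθ
    refine ⟨H'.map (baseSub D Q).subtype,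
      μ.comp (H'.equivMapOfInjective (baseSub D Q).subtype
        (baseSub D Q).subtype_injective).symm.toMonoidHom, ?_⟩
    rw [hind, hμ, Cfsg.Agent.Lib.Helper3_NilpMono.indFun_map_subtype]
    rfl
  · -- invariant constituent
    obtain ⟨φ₀, hφ₀, hprod⟩ := exists_const_of_invariant hθ hinv
    obtain ⟨H₀, lam, hlam⟩ := hD φ₀ hφ₀
    set ψ : D ≀ᵣ Q → ℂ :=
      Cfsg.indFun (wrSub Q H₀) (fun h => ((wrHom H₀ lam h : ℂˣ) : ℂ)) with hψdef
    have hψB : ∀ n : ↥(baseSub D Q), ψ n = θ n := by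
      intro n
      obtain ⟨β, rfl⟩ := (baseEquiv D Q).surjective n
      show ψ (⟨β, 1⟩ : D ≀ᵣ Q) = _
      rw [hψdef, indFun_wr_base, hprod]
      refine Finset.prod_congr rfl (fun y _ => ?_)
      rw [hlam]
    have hψchar : Cfsg.IsCharacter (D ≀ᵣ Q) ψ := by
      apply Cfsg.Agent.Lib.Helper75_IndChar.isCharacter_indFun
      exact (isLin_of_hom ((Units.coeHom ℂ).comp (wrHom H₀ lam))).1
    have hψirr : Cfsg.IsIrrCharacter (D ≀ᵣ Q) ψ := by
      apply Cfsg.Agent.S0890.irr_of_res_irr (baseSub D Q) hψchar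
      have : (fun n : ↥(baseSub D Q) => ψ n) = θ := funext hψB
      rw [this]
      exact hθ
    have hfinQ : Fintype ((D ≀ᵣ Q) ⧸ baseSub D Q) := Fintype.ofFinite _
    have pkg := galPkg_of_ext (baseSub D Q) hθ hinv hψirr hψB
    obtain ⟨δ, hδ⟩ := pkg.surj χ hχ hover
    -- `δ` is linear
    have hδlin : IsLin ((D ≀ᵣ Q) ⧸ baseSub D Q) (δ : _ → ℂ) :=
      Cfsg.Agent.Lib.Helper75_CanonExt.isLin_of_comm (comm_quotient_base hp) δ.2
    set β : D ≀ᵣ Q → ℂ := (inflN (baseSub D Q) δ : D ≀ᵣ Q → ℂ) with hβdef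
    have hβlin : IsLin (D ≀ᵣ Q) β := by
      refine ⟨isCharacter_of_isIrrCharacter (inflN (baseSub D Q) δ).2, ?_⟩
      rw [hβdef, infl_apply, map_one]
      exact hδlin.2
    -- the twisted linear character of `H₀ ≀ Q`
    have hβH : IsLin ↥(wrSub Q H₀) (fun h : ↥(wrSub Q H₀) => β h) := hβlin.res (wrSub Q H₀)
    refine ⟨wrSub Q H₀, wrHom H₀ lam * hβH.hom.toHomUnits, ?_⟩
    rw [hδ, mul_comm, hψdef,
      Cfsg.Agent.Lib.Helper75_CharProd.indFun_mul (wrSub Q H₀) _
        (isClassFunction_of_isIrrCharacter (inflN (baseSub D Q) δ).2)]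
    congr 1

end Main

end Cfsg.Agent.Lib.Helper15_WreathM
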