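import Mathlib

/-!
# Arrays of norm-3 lattice vectors (helper16)

Combinatorial lattice lemmas used for the cyclic TI isometry (Peterfalvi (3.5)): basic facts on
integer vectors of norm 3, the pair lemma and the four cell lemma.
-/

set_option autoImplicit false

namespace Cfsg.Agent.Lib.Helper16_Array

variable {X : Type*} [Fintype X]

/-- The standard integer dot product. -/
def dot (u v : X → ℤ) : ℤ := ∑ x, u x * v x

/-- The support of an integer vector. -/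
def supp (u : X → ℤ) : Finset X := Finset.univ.filter (fun x => u x ≠ 0)

theorem mem_supp {u : X → ℤ} {x : X} : x ∈ supp u ↔ u x ≠ 0 := by
  simp [supp]

theorem dot_comm (u v : X → ℤ) : dot u v = dot v u := by
  simp [dot, mul_comm]

theorem entry_of_norm3 {u : X → ℤ} (h : dot u u = 3) (x : X) :
    u x = -1 ∨ u x = 0 ∨ u x = 1 := by
  have h1 : u x * u x ≤ 3 := by
    rw [← h]; unfold dot
    exact Finset.single_le_sum (f := fun y => u y * u y) (fun y _ => mul_self_nonneg _)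
      (Finset.mem_univ x)
  have h2 : -1 ≤ u x := by nlinarith
  have h3 : u x ≤ 1 := by nlinarith
  omega

theorem card_supp_of_norm3 {u : X → ℤ} (h : dot u u = 3) : (supp u).card = 3 := by
  have hent := entry_of_norm3 h
  have h1 : ∀ x, u x * u x = if u x ≠ 0 then 1 else 0 := by
    intro x; rcases hent x with h | h | h <;> simp [h]
  have h2 : dot u u = ((supp u).card : ℤ) := by
    unfold dot supp
    simp_rw [h1]
    rw [Finset.card_filter]
    push_cast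
    rfl
  rw [h] at h2
  exact_mod_cast h2.symm

/-- The dot product as a sum over the support of the first vector. -/
theorem dot_eq_sum_supp (u w : X → ℤ) : dot u w = ∑ x ∈ supp u, u x * w x := by
  unfold dot supp
  rw [Finset.sum_filter]
  refine Finset.sum_congr rfl fun x _ => ?_
  by_cases hx : u x = 0 <;> simp [hx]

theorem dot_of_supp_eq [DecidableEq X] {u : X → ℤ} {a b c : X} (hab : a ≠ b) (hac : a ≠ c) (hbc : b ≠ c)
    (hs : supp u = {a, b, c}) (w : X → ℤ) :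
    dot u w = u a * w a + u b * w b + u c * w c := by
  rw [dot_eq_sum_supp, hs, Finset.sum_insert (by simp [hab, hac]), Finset.sum_insert (by simp [hbc]),
    Finset.sum_singleton]
  ring


/-- **Pair lemma.** Two norm-3 vectors with dot product 1, separated modulo 2 by a third vector,
have exactly one common coordinate, where their entries agree. -/
theorem pair_lemma {u v w : X → ℤ} (hu : dot u u = 3) (hv : dot v v = 3) (huv : dot u v = 1)
    (hw : Odd (dot w u - dot w v)) :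
    ∃ x, u x ≠ 0 ∧ v x ≠ 0 ∧ u x = v x ∧ ∀ y, u y ≠ 0 → v y ≠ 0 → y = x := by
  classical
  have hue := entry_of_norm3 hu
  have hve := entry_of_norm3 hv
  have hcu := card_supp_of_norm3 hu
  have hcv := card_supp_of_norm3 hv
  let I : Finset X := Finset.univ.filter (fun x => u x ≠ 0 ∧ v x ≠ 0)
  let Ip : Finset X := I.filter (fun x => u x = v x)
  let Im : Finset X := I.filter (fun x => ¬ u x = v x)
  have hsplit : Ip.card + Im.card = I.card := Finset.card_filter_add_card_filter_not _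
  have hIu : I ⊆ supp u := by
    intro x hx
    simp only [I, Finset.mem_filter, Finset.mem_univ, true_and] at hx
    exact mem_supp.2 hx.1
  have hIv : I ⊆ supp v := by
    intro x hx
    simp only [I, Finset.mem_filter, Finset.mem_univ, true_and] at hx
    exact mem_supp.2 hx.2
  have hIle : I.card ≤ 3 := hcu ▸ Finset.card_le_card hIu
  have hdot : dot u v = (Ip.card : ℤ) - (Im.card : ℤ) := by
    have hterm : ∀ x, u x * v x = (if x ∈ Ip then 1 else 0) - (if x ∈ Im then 1 else 0) := by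
      intro x
      simp only [Ip, Im, I, Finset.mem_filter, Finset.mem_univ, true_and]
      rcases hue x with h1 | h1 | h1 <;> rcases hve x with h2 | h2 | h2 <;> simp [h1, h2]
    unfold dot
    simp_rw [hterm]
    rw [Finset.sum_sub_distrib]
    simp
  have hne3 : I.card ≠ 3 := by
    intro h3
    have e1 : I = supp u := Finset.eq_of_subset_of_card_le hIu (by rw [hcu, h3])
    have e2 : I = supp v := Finset.eq_of_subset_of_card_le hIv (by rw [hcv, h3])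
    have hiff : ∀ x, u x ≠ 0 ↔ v x ≠ 0 := by
      intro x
      rw [← mem_supp, ← mem_supp, ← e1, ← e2]
    have hev0 : ∀ x, Even (u x - v x) := by
      intro x
      have := hiff x
      rcases hue x with h1 | h1 | h1 <;> rcases hve x with h2 | h2 | h2 <;>
        rw [h1, h2] at this ⊢ <;> first | decide | (exfalso; simp at this)
    have hev : ∀ x, Even (w x * u x - w x * v x) := by
      intro x
      rw [← mul_sub]
      exact (hev0 x).mul_left _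
    have : Even (dot w u - dot w v) := by
      unfold dot
      rw [← Finset.sum_sub_distrib]
      exact Finset.even_sum _ (fun x _ => hev x)
    exact (Int.not_even_iff_odd.2 hw) this
  have hp1 : Ip.card = 1 ∧ Im.card = 0 := by
    rw [huv] at hdot
    omega
  obtain ⟨x, hx⟩ := Finset.card_eq_one.1 hp1.1
  have hxI : x ∈ Ip := by rw [hx]; exact Finset.mem_singleton_self x
  simp only [Ip, I, Finset.mem_filter, Finset.mem_univ, true_and] at hxI
  refine ⟨x, hxI.1.1, hxI.1.2, hxI.2, fun y hy1 hy2 => ?_⟩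
  have hyI : y ∈ I := by
    simp only [I, Finset.mem_filter, Finset.mem_univ, true_and]
    exact ⟨hy1, hy2⟩
  by_cases hyy : u y = v y
  · have : y ∈ Ip := Finset.mem_filter.2 ⟨hyI, hyy⟩
    rw [hx] at this
    exact Finset.mem_singleton.1 this
  · have : y ∈ Im := Finset.mem_filter.2 ⟨hyI, hyy⟩
    rw [Finset.card_eq_zero.1 hp1.2] at this
    exact absurd this (Finset.notMem_empty y)


/-! ### Integer core of the near-pencil analysis -/

/-- Constraints on the named entries of one vector in the near-pencil analysis. -/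
def Sol (d0 d1 d2 d3 P Q0 Q1 Q2 R0 R1 R2 T : ℤ) : Prop :=
  (P = -1 ∨ P = 0 ∨ P = 1) ∧ (Q0 = -1 ∨ Q0 = 0 ∨ Q0 = 1) ∧ (Q1 = -1 ∨ Q1 = 0 ∨ Q1 = 1) ∧
  (Q2 = -1 ∨ Q2 = 0 ∨ Q2 = 1) ∧ (R0 = -1 ∨ R0 = 0 ∨ R0 = 1) ∧ (R1 = -1 ∨ R1 = 0 ∨ R1 = 1) ∧
  (R2 = -1 ∨ R2 = 0 ∨ R2 = 1) ∧ P + Q0 + R0 = d0 ∧ P + Q1 + R1 = d1 ∧ P + Q2 + R2 = d2 ∧
  Q0 + Q1 + Q2 = d3 ∧
  P * P + Q0 * Q0 + Q1 * Q1 + Q2 * Q2 + R0 * R0 + R1 * R1 + R2 * R2 + T = 3 ∧ 0 ≤ T

theorem stage1_A {P Q0 Q1 Q2 R0 R1 R2 T : ℤ} (h : Sol 1 0 0 0 P Q0 Q1 Q2 R0 R1 R2 T) :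
    (P = 1 ∧ Q0 = 0 ∧ Q1 = 0 ∧ Q2 = 0 ∧ R0 = 0 ∧ R1 = -1 ∧ R2 = -1 ∧ T = 0) ∨
    (P = 0 ∧ Q0 = 1 ∧ Q1 = -1 ∧ Q2 = 0 ∧ R0 = 0 ∧ R1 = 1 ∧ R2 = 0 ∧ T = 0) ∨
    (P = 0 ∧ Q0 = 1 ∧ Q1 = 0 ∧ Q2 = -1 ∧ R0 = 0 ∧ R1 = 0 ∧ R2 = 1 ∧ T = 0) ∨
    (P = 0 ∧ Q0 = 0 ∧ Q1 = 0 ∧ Q2 = 0 ∧ R0 = 1 ∧ R1 = 0 ∧ R2 = 0 ∧ T = 2) := by
  obtain ⟨hP, hQ0, hQ1, hQ2, hR0, hR1, hR2, e0, e1, e2, e3, hn, hT⟩ := h
  obtain rfl : R0 = 1 - P - Q0 := by omega
  obtain rfl : R1 = 0 - P - Q1 := by omega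
  obtain rfl : Q2 = 0 - Q0 - Q1 := by omega
  obtain rfl : R2 = 0 - P - (0 - Q0 - Q1) := by omega
  rcases hP with rfl | rfl | rfl <;> rcases hQ0 with rfl | rfl | rfl <;>
    rcases hQ1 with rfl | rfl | rfl <;> omega

theorem stage1_B {P Q0 Q1 Q2 R0 R1 R2 T : ℤ} (h : Sol 0 0 0 1 P Q0 Q1 Q2 R0 R1 R2 T) :
    (P = 0 ∧ Q0 = 1 ∧ Q1 = 0 ∧ Q2 = 0 ∧ R0 = -1 ∧ R1 = 0 ∧ R2 = 0 ∧ T = 1) ∨
    (P = 0 ∧ Q0 = 0 ∧ Q1 = 1 ∧ Q2 = 0 ∧ R0 = 0 ∧ R1 = -1 ∧ R2 = 0 ∧ T = 1) ∨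
    (P = 0 ∧ Q0 = 0 ∧ Q1 = 0 ∧ Q2 = 1 ∧ R0 = 0 ∧ R1 = 0 ∧ R2 = -1 ∧ T = 1) := by
  obtain ⟨hP, hQ0, hQ1, hQ2, hR0, hR1, hR2, e0, e1, e2, e3, hn, hT⟩ := h
  obtain rfl : R0 = 0 - P - Q0 := by omega
  obtain rfl : R1 = 0 - P - Q1 := by omega
  obtain rfl : Q2 = 1 - Q0 - Q1 := by omega
  obtain rfl : R2 = 0 - P - (1 - Q0 - Q1) := by omega
  rcases hP with rfl | rfl | rfl <;> rcases hQ0 with rfl | rfl | rfl <;>
    rcases hQ1 with rfl | rfl | rfl <;> omega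

theorem Sol.swap01 {d0 d1 d2 d3 P Q0 Q1 Q2 R0 R1 R2 T : ℤ}
    (h : Sol d0 d1 d2 d3 P Q0 Q1 Q2 R0 R1 R2 T) : Sol d1 d0 d2 d3 P Q1 Q0 Q2 R1 R0 R2 T := by
  obtain ⟨hP, hQ0, hQ1, hQ2, hR0, hR1, hR2, e0, e1, e2, e3, hn, hT⟩ := h
  exact ⟨hP, hQ1, hQ0, hQ2, hR1, hR0, hR2, e1, e0, e2, by omega, by linarith, hT⟩

theorem Sol.swap02 {d0 d1 d2 d3 P Q0 Q1 Q2 R0 R1 R2 T : ℤ}
    (h : Sol d0 d1 d2 d3 P Q0 Q1 Q2 R0 R1 R2 T) : Sol d2 d1 d0 d3 P Q2 Q1 Q0 R2 R1 R0 T := by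
  obtain ⟨hP, hQ0, hQ1, hQ2, hR0, hR1, hR2, e0, e1, e2, e3, hn, hT⟩ := h
  exact ⟨hP, hQ2, hQ1, hQ0, hR2, hR1, hR0, e2, e1, e0, by omega, by linarith, hT⟩

theorem np_core
    {aP aQ0 aQ1 aQ2 aR0 aR1 aR2 aT bP bQ0 bQ1 bQ2 bR0 bR1 bR2 bT
     cP cQ0 cQ1 cQ2 cR0 cR1 cR2 cT dP dQ0 dQ1 dQ2 dR0 dR1 dR2 dT r01 r02 r03 r12 r13 r23 : ℤ}
    (ha : Sol 1 0 0 0 aP aQ0 aQ1 aQ2 aR0 aR1 aR2 aT)
    (hb : Sol 0 1 0 0 bP bQ0 bQ1 bQ2 bR0 bR1 bR2 bT)
    (hc : Sol 0 0 1 0 cP cQ0 cQ1 cQ2 cR0 cR1 cR2 cT)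
    (hd : Sol 0 0 0 1 dP dQ0 dQ1 dQ2 dR0 dR1 dR2 dT)
    (h01 : aP * bP + aQ0 * bQ0 + aQ1 * bQ1 + aQ2 * bQ2 + aR0 * bR0 + aR1 * bR1 + aR2 * bR2 + r01 = 1)
    (h02 : aP * cP + aQ0 * cQ0 + aQ1 * cQ1 + aQ2 * cQ2 + aR0 * cR0 + aR1 * cR1 + aR2 * cR2 + r02 = 1)
    (h03 : aP * dP + aQ0 * dQ0 + aQ1 * dQ1 + aQ2 * dQ2 + aR0 * dR0 + aR1 * dR1 + aR2 * dR2 + r03 = 1)
    (h12 : bP * cP + bQ0 * cQ0 + bQ1 * cQ1 + bQ2 * cQ2 + bR0 * cR0 + bR1 * cR1 + bR2 * cR2 + r12 = 1)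
    (h13 : bP * dP + bQ0 * dQ0 + bQ1 * dQ1 + bQ2 * dQ2 + bR0 * dR0 + bR1 * dR1 + bR2 * dR2 + r13 = 1)
    (h23 : cP * dP + cQ0 * dQ0 + cQ1 * dQ1 + cQ2 * dQ2 + cR0 * dR0 + cR1 * dR1 + cR2 * dR2 + r23 = 1)
    (b01 : r01 ≤ aT ∧ -r01 ≤ aT ∧ r01 ≤ bT ∧ -r01 ≤ bT)
    (b02 : r02 ≤ aT ∧ -r02 ≤ aT ∧ r02 ≤ cT ∧ -r02 ≤ cT)
    (b03 : r03 ≤ aT ∧ -r03 ≤ aT ∧ r03 ≤ dT ∧ -r03 ≤ dT)
    (b12 : r12 ≤ bT ∧ -r12 ≤ bT ∧ r12 ≤ cT ∧ -r12 ≤ cT)
    (b13 : r13 ≤ bT ∧ -r13 ≤ bT ∧ r13 ≤ dT ∧ -r13 ≤ dT)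
    (b23 : r23 ≤ cT ∧ -r23 ≤ cT ∧ r23 ≤ dT ∧ -r23 ≤ dT) : False := by
  have sa := stage1_A ha
  have sb := stage1_A hb.swap01
  have sc := stage1_A hc.swap02
  have sd := stage1_B hd
  rcases sd with ⟨rfl, rfl, rfl, rfl, rfl, rfl, rfl, rfl⟩ | ⟨rfl, rfl, rfl, rfl, rfl, rfl, rfl, rfl⟩ |
      ⟨rfl, rfl, rfl, rfl, rfl, rfl, rfl, rfl⟩
  all_goals
    rcases sa with ⟨rfl, rfl, rfl, rfl, rfl, rfl, rfl, rfl⟩ | ⟨rfl, rfl, rfl, rfl, rfl, rfl, rfl, rfl⟩ |
      ⟨rfl, rfl, rfl, rfl, rfl, rfl, rfl, rfl⟩ | ⟨rfl, rfl, rfl, rfl, rfl, rfl, rfl, rfl⟩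
  all_goals try omega
  all_goals
    rcases sb with ⟨rfl, rfl, rfl, rfl, rfl, rfl, rfl, rfl⟩ | ⟨rfl, rfl, rfl, rfl, rfl, rfl, rfl, rfl⟩ |
      ⟨rfl, rfl, rfl, rfl, rfl, rfl, rfl, rfl⟩ | ⟨rfl, rfl, rfl, rfl, rfl, rfl, rfl, rfl⟩
  all_goals omega

/-! ### Small finset lemmas -/

omit [Fintype X] in
theorem exists_third [DecidableEq X] {s : Finset X} (hs : s.card = 3) {a b : X} (ha : a ∈ s)
    (hb : b ∈ s) (hab : a ≠ b) : ∃ c, c ≠ a ∧ c ≠ b ∧ s = {a, b, c} := by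
  have h1 : ((s.erase a).erase b).card = 1 := by
    rw [Finset.card_erase_of_mem (Finset.mem_erase.2 ⟨hab.symm, hb⟩), Finset.card_erase_of_mem ha, hs]
  obtain ⟨c, hc⟩ := Finset.card_eq_one.1 h1
  have hcm : c ∈ (s.erase a).erase b := by rw [hc]; exact Finset.mem_singleton_self c
  simp only [Finset.mem_erase] at hcm
  refine ⟨c, hcm.2.1, hcm.1, ?_⟩
  ext x
  constructor
  · intro hx
    by_cases hxa : x = a
    · simp [hxa]
    by_cases hxb : x = b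
    · simp [hxb]
    have : x ∈ (s.erase a).erase b := by simp [hx, hxa, hxb]
    rw [hc, Finset.mem_singleton] at this
    simp [this]
  · intro hx
    simp only [Finset.mem_insert, Finset.mem_singleton] at hx
    rcases hx with rfl | rfl | rfl
    · exact ha
    · exact hb
    · exact hcm.2.2

omit [Fintype X] in
theorem eq_of_three_mem [DecidableEq X] {s : Finset X} (hs : s.card = 3) {a b c : X} (ha : a ∈ s)
    (hb : b ∈ s) (hc : c ∈ s) (hab : a ≠ b) (hac : a ≠ c) (hbc : b ≠ c) : s = {a, b, c} := by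
  have hsub : ({a, b, c} : Finset X) ⊆ s := by
    intro x hx
    simp only [Finset.mem_insert, Finset.mem_singleton] at hx
    rcases hx with rfl | rfl | rfl <;> assumption
  have hcard : ({a, b, c} : Finset X).card = 3 := Finset.card_eq_three.2 ⟨a, b, c, hab, hac, hbc, rfl⟩
  exact (Finset.eq_of_subset_of_card_le hsub (by rw [hs, hcard])).symm

theorem dot_split7 [DecidableEq X] {a b c d e f g : X} (hnd : [a, b, c, d, e, f, g].Nodup)
    (u u' : X → ℤ) :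
    dot u u' = u a * u' a + u b * u' b + u c * u' c + u d * u' d + u e * u' e + u f * u' f +
      u g * u' g + ∑ x ∈ ({a, b, c, d, e, f, g} : Finset X)ᶜ, u x * u' x := by
  simp only [List.nodup_cons, List.mem_cons, List.not_mem_nil, or_false, not_or, List.nodup_nil,
    and_true, not_false_eq_true] at hnd
  obtain ⟨⟨hab, hac, had, hae, haf, hag⟩, ⟨hbc, hbd, hbe, hbf, hbg⟩, ⟨hcd, hce, hcf, hcg⟩,
    ⟨hde, hdf, hdg⟩, ⟨hef, heg⟩, hfg⟩ := hnd
  unfold dot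
  rw [← Finset.sum_add_sum_compl ({a, b, c, d, e, f, g} : Finset X)]
  rw [Finset.sum_insert (by simp [hab, hac, had, hae, haf, hag]),
    Finset.sum_insert (by simp [hbc, hbd, hbe, hbf, hbg]),
    Finset.sum_insert (by simp [hcd, hce, hcf, hcg]),
    Finset.sum_insert (by simp [hde, hdf, hdg]),
    Finset.sum_insert (by simp [hef, heg]),
    Finset.sum_insert (by simp [hfg]), Finset.sum_singleton]
  ring

omit [Fintype X] in
theorem rest_le (s : Finset X) {u u' : X → ℤ} (hu : ∀ x, u x = -1 ∨ u x = 0 ∨ u x = 1)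
    (hu' : ∀ x, u' x = -1 ∨ u' x = 0 ∨ u' x = 1) :
    ∑ x ∈ s, u x * u' x ≤ ∑ x ∈ s, u x * u x ∧ -(∑ x ∈ s, u x * u' x) ≤ ∑ x ∈ s, u x * u x := by
  constructor
  · refine Finset.sum_le_sum fun x _ => ?_
    rcases hu x with h | h | h <;> rcases hu' x with h' | h' | h' <;> rw [h, h'] <;> decide
  · rw [← Finset.sum_neg_distrib]
    refine Finset.sum_le_sum fun x _ => ?_
    rcases hu x with h | h | h <;> rcases hu' x with h' | h' | h' <;> rw [h, h'] <;> decide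

omit [Fintype X] in
theorem rest_bounds (s : Finset X) {u u' : X → ℤ} (hu : ∀ x, u x = -1 ∨ u x = 0 ∨ u x = 1)
    (hu' : ∀ x, u' x = -1 ∨ u' x = 0 ∨ u' x = 1) :
    ∑ x ∈ s, u x * u' x ≤ ∑ x ∈ s, u x * u x ∧ -(∑ x ∈ s, u x * u' x) ≤ ∑ x ∈ s, u x * u x ∧
    ∑ x ∈ s, u x * u' x ≤ ∑ x ∈ s, u' x * u' x ∧
      -(∑ x ∈ s, u x * u' x) ≤ ∑ x ∈ s, u' x * u' x := by
  have h1 := rest_le s hu hu'
  have h2 := rest_le s hu' hu
  have e : ∑ x ∈ s, u' x * u x = ∑ x ∈ s, u x * u' x :=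
    Finset.sum_congr rfl fun x _ => mul_comm _ _
  rw [e] at h2
  exact ⟨h1.1, h1.2, h2.1, h2.2⟩

/-- The Gram data of two parallel lines of four cells each. -/
structure Quad (v w : Fin 4 → X → ℤ) : Prop where
  vv : ∀ i j, dot (v i) (v j) = if i = j then 3 else 1
  ww : ∀ i j, dot (w i) (w j) = if i = j then 3 else 1
  vw : ∀ i j, dot (v i) (w j) = if i = j then 1 else 0

namespace Quad

variable {v w : Fin 4 → X → ℤ}

theorem symm (h : Quad v w) : Quad w v where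
  vv := h.ww
  ww := h.vv
  vw := fun i j => by
    rw [dot_comm, h.vw j i]
    by_cases hij : i = j
    · subst hij; simp
    · simp [hij, Ne.symm hij]

theorem comp (h : Quad v w) (σ : Fin 4 → Fin 4) (hσ : Function.Injective σ) :
    Quad (fun i => v (σ i)) (fun i => w (σ i)) where
  vv := fun i j => by rw [h.vv]; simp [hσ.eq_iff]
  ww := fun i j => by rw [h.ww]; simp [hσ.eq_iff]
  vw := fun i j => by rw [h.vw]; simp [hσ.eq_iff]

theorem norm (h : Quad v w) (i : Fin 4) : dot (v i) (v i) = 3 := by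
  rw [h.vv]; simp

theorem entry (h : Quad v w) (i : Fin 4) (x : X) : v i x = -1 ∨ v i x = 0 ∨ v i x = 1 :=
  entry_of_norm3 (h.norm i) x

theorem pair (h : Quad v w) {i j : Fin 4} (hij : i ≠ j) :
    ∃ x, v i x ≠ 0 ∧ v j x ≠ 0 ∧ v i x = v j x ∧ ∀ y, v i y ≠ 0 → v j y ≠ 0 → y = x := by
  refine pair_lemma (w := w i) (h.norm i) (h.norm j) (by rw [h.vv]; simp [hij]) ?_
  rw [dot_comm (w i) (v i), dot_comm (w i) (v j), h.vw, h.vw]
  simp [Ne.symm hij]

/-- Two distinct cells of the line agree at every common coordinate, and have at most one. -/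
theorem eq_of_common (h : Quad v w) {i j : Fin 4} (hij : i ≠ j) {x : X} (hi : v i x ≠ 0)
    (hj : v j x ≠ 0) : v i x = v j x := by
  obtain ⟨y, _, _, hy, huniq⟩ := h.pair hij
  rw [huniq x hi hj]; exact hy

theorem common_unique (h : Quad v w) {i j : Fin 4} (hij : i ≠ j) {x y : X} (hi : v i x ≠ 0)
    (hj : v j x ≠ 0) (hi' : v i y ≠ 0) (hj' : v j y ≠ 0) : x = y := by
  obtain ⟨z, _, _, _, huniq⟩ := h.pair hij
  rw [huniq x hi hj, huniq y hi' hj']

theorem aux81 (a b c d : ℤ) (ha : a = -1 ∨ a = 0 ∨ a = 1) (hb : b = -1 ∨ b = 0 ∨ b = 1)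
    (hc : c = -1 ∨ c = 0 ∨ c = 1) (hd : d = -1 ∨ d = 0 ∨ d = 1)
    (hle : a * a + b * b + c * c + d * d ≤ 2) :
    (a + b + c + d) * (a + b + c + d) ≤ 2 * (a * a + b * b + c * c + d * d) ∧
      ((a + b + c + d) * (a + b + c + d) = 2 * (a * a + b * b + c * c + d * d) →
        Even (a + b + c + d)) := by
  rcases ha with rfl | rfl | rfl <;> rcases hb with rfl | rfl | rfl <;>
    rcases hc with rfl | rfl | rfl <;> rcases hd with rfl | rfl | rfl <;>
    first | (exfalso; revert hle; decide) | decide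

/-- Some coordinate lies in at least three of the four cells `v i`. -/
theorem exists_three (h : Quad v w) :
    ∃ x, 3 ≤ v 0 x * v 0 x + v 1 x * v 1 x + v 2 x * v 2 x + v 3 x * v 3 x := by
  by_contra hcon
  simp only [not_exists, not_le] at hcon
  have hle : ∀ x, v 0 x * v 0 x + v 1 x * v 1 x + v 2 x * v 2 x + v 3 x * v 3 x ≤ 2 :=
    fun x => by have := hcon x; omega
  have haux := fun x => aux81 (v 0 x) (v 1 x) (v 2 x) (v 3 x) (h.entry 0 x) (h.entry 1 x)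
    (h.entry 2 x) (h.entry 3 x) (hle x)
  have hd : ∀ i j, ∑ x, v i x * v j x = if i = j then 3 else 1 := h.vv
  have h00 := hd 0 0
  have h01 := hd 0 1
  have h02 := hd 0 2
  have h03 := hd 0 3
  have h10 := hd 1 0
  have h11 := hd 1 1
  have h12 := hd 1 2
  have h13 := hd 1 3
  have h20 := hd 2 0
  have h21 := hd 2 1
  have h22 := hd 2 2
  have h23 := hd 2 3
  have h30 := hd 3 0
  have h31 := hd 3 1
  have h32 := hd 3 2
  have h33 := hd 3 3
  simp only [Fin.isValue, if_true, Fin.reduceEq, if_false] at h00 h01 h02 h03 h10 h11 h12 h13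
  simp only [Fin.isValue, if_true, Fin.reduceEq, if_false] at h20 h21 h22 h23 h30 h31 h32 h33
  have hS : ∑ x, (v 0 x + v 1 x + v 2 x + v 3 x) * (v 0 x + v 1 x + v 2 x + v 3 x) = 24 := by
    have : ∀ x, (v 0 x + v 1 x + v 2 x + v 3 x) * (v 0 x + v 1 x + v 2 x + v 3 x) =
        v 0 x * v 0 x + v 0 x * v 1 x + v 0 x * v 2 x + v 0 x * v 3 x +
        (v 1 x * v 0 x + v 1 x * v 1 x + v 1 x * v 2 x + v 1 x * v 3 x) +
        (v 2 x * v 0 x + v 2 x * v 1 x + v 2 x * v 2 x + v 2 x * v 3 x) +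
        (v 3 x * v 0 x + v 3 x * v 1 x + v 3 x * v 2 x + v 3 x * v 3 x) := fun x => by ring
    simp_rw [this, Finset.sum_add_distrib]
    linarith
  have hN : ∑ x, 2 * (v 0 x * v 0 x + v 1 x * v 1 x + v 2 x * v 2 x + v 3 x * v 3 x) = 24 := by
    simp_rw [mul_add, Finset.sum_add_distrib, ← Finset.mul_sum]
    linarith
  have heq : ∀ x, (v 0 x + v 1 x + v 2 x + v 3 x) * (v 0 x + v 1 x + v 2 x + v 3 x) =
      2 * (v 0 x * v 0 x + v 1 x * v 1 x + v 2 x * v 2 x + v 3 x * v 3 x) := by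
    have := (Finset.sum_eq_sum_iff_of_le (s := Finset.univ) (fun x _ => (haux x).1)).1
      (hS.trans hN.symm)
    exact fun x => this x (Finset.mem_univ x)
  have hev : ∀ x, Even (v 0 x + v 1 x + v 2 x + v 3 x) := fun x => (haux x).2 (heq x)
  have hw : ∀ i, ∑ x, v i x * w 0 x = if i = 0 then 1 else 0 := fun i => h.vw i 0
  have hw0 := hw 0
  have hw1 := hw 1
  have hw2 := hw 2
  have hw3 := hw 3
  simp only [Fin.isValue, if_true, Fin.reduceEq, if_false] at hw0 hw1 hw2 hw3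
  have hodd : ∑ x, (v 0 x + v 1 x + v 2 x + v 3 x) * w 0 x = 1 := by
    simp_rw [add_mul, Finset.sum_add_distrib]
    linarith
  have : Even (∑ x, (v 0 x + v 1 x + v 2 x + v 3 x) * w 0 x) :=
    Finset.even_sum _ (fun x _ => (hev x).mul_right _)
  rw [hodd] at this
  exact absurd this (by decide)

/-- The near-pencil configuration is impossible (normalised form: nonnegative entries). -/
theorem np_kill_pos (h : Quad v w) (hpos : ∀ i x, 0 ≤ v i x) (p : X) (h0 : v 0 p ≠ 0)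
    (h1 : v 1 p ≠ 0) (h2 : v 2 p ≠ 0) (h3 : v 3 p = 0) : False := by
  classical
  have hval : ∀ i x, v i x ≠ 0 → v i x = 1 := fun i x hx => by
    rcases h.entry i x with h' | h' | h'
    · have := hpos i x; omega
    · exact absurd h' hx
    · exact h'
  obtain ⟨q0, hq0a, hq0b, -, hq0u⟩ := h.pair (i := 0) (j := 3) (by decide)
  obtain ⟨q1, hq1a, hq1b, -, hq1u⟩ := h.pair (i := 1) (j := 3) (by decide)
  obtain ⟨q2, hq2a, hq2b, -, hq2u⟩ := h.pair (i := 2) (j := 3) (by decide)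
  have hpq0 : p ≠ q0 := fun e => hq0b (e ▸ h3)
  have hpq1 : p ≠ q1 := fun e => hq1b (e ▸ h3)
  have hpq2 : p ≠ q2 := fun e => hq2b (e ▸ h3)
  have u01 : ∀ y, v 0 y ≠ 0 → v 1 y ≠ 0 → y = p := fun y hy0 hy1 =>
    h.common_unique (i := 0) (j := 1) (by decide) hy0 hy1 h0 h1
  have u02 : ∀ y, v 0 y ≠ 0 → v 2 y ≠ 0 → y = p := fun y hy0 hy1 =>
    h.common_unique (i := 0) (j := 2) (by decide) hy0 hy1 h0 h2
  have u12 : ∀ y, v 1 y ≠ 0 → v 2 y ≠ 0 → y = p := fun y hy0 hy1 =>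
    h.common_unique (i := 1) (j := 2) (by decide) hy0 hy1 h1 h2
  have hq01 : q0 ≠ q1 := fun e => hpq0 (u01 q0 hq0a (e ▸ hq1a)).symm
  have hq02 : q0 ≠ q2 := fun e => hpq0 (u02 q0 hq0a (e ▸ hq2a)).symm
  have hq12 : q1 ≠ q2 := fun e => hpq1 (u12 q1 hq1a (e ▸ hq2a)).symm
  obtain ⟨r0, hr0p, hr0q, hs0⟩ := exists_third (card_supp_of_norm3 (h.norm 0)) (mem_supp.2 h0)
    (mem_supp.2 hq0a) hpq0
  obtain ⟨r1, hr1p, hr1q, hs1⟩ := exists_third (card_supp_of_norm3 (h.norm 1)) (mem_supp.2 h1)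
    (mem_supp.2 hq1a) hpq1
  obtain ⟨r2, hr2p, hr2q, hs2⟩ := exists_third (card_supp_of_norm3 (h.norm 2)) (mem_supp.2 h2)
    (mem_supp.2 hq2a) hpq2
  have hs3 : supp (v 3) = {q0, q1, q2} := eq_of_three_mem (card_supp_of_norm3 (h.norm 3))
    (mem_supp.2 hq0b) (mem_supp.2 hq1b) (mem_supp.2 hq2b) hq01 hq02 hq12
  have hr0m : v 0 r0 ≠ 0 := mem_supp.1 (by rw [hs0]; simp)
  have hr1m : v 1 r1 ≠ 0 := mem_supp.1 (by rw [hs1]; simp)
  have hr2m : v 2 r2 ≠ 0 := mem_supp.1 (by rw [hs2]; simp)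
  have hr0_1 : v 1 r0 = 0 := by
    by_contra hne; exact hr0p (u01 r0 hr0m hne)
  have hr0_2 : v 2 r0 = 0 := by
    by_contra hne; exact hr0p (u02 r0 hr0m hne)
  have hr0_3 : v 3 r0 = 0 := by
    by_contra hne; exact hr0q (hq0u r0 hr0m hne)
  have hr1_0 : v 0 r1 = 0 := by
    by_contra hne; exact hr1p (u01 r1 hne hr1m)
  have hr1_2 : v 2 r1 = 0 := by
    by_contra hne; exact hr1p (u12 r1 hr1m hne)
  have hr1_3 : v 3 r1 = 0 := by
    by_contra hne; exact hr1q (hq1u r1 hr1m hne)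
  have hr2_0 : v 0 r2 = 0 := by
    by_contra hne; exact hr2p (u02 r2 hne hr2m)
  have hr2_1 : v 1 r2 = 0 := by
    by_contra hne; exact hr2p (u12 r2 hne hr2m)
  have hr2_3 : v 3 r2 = 0 := by
    by_contra hne; exact hr2q (hq2u r2 hr2m hne)
  have hnd : [p, q0, q1, q2, r0, r1, r2].Nodup := by
    simp only [List.nodup_cons, List.mem_cons, List.not_mem_nil, or_false, not_or, List.nodup_nil,
      and_true, not_false_eq_true]
    refine ⟨⟨hpq0, hpq1, hpq2, hr0p.symm, hr1p.symm, hr2p.symm⟩,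
      ⟨hq01, hq02, hr0q.symm, ?_, ?_⟩, ⟨hq12, ?_, hr1q.symm, ?_⟩, ⟨?_, ?_, hr2q.symm⟩, ⟨?_, ?_⟩, ?_⟩
    · exact fun e => hq0b (e ▸ hr1_3)
    · exact fun e => hq0b (e ▸ hr2_3)
    · exact fun e => hq1b (e ▸ hr0_3)
    · exact fun e => hq1b (e ▸ hr2_3)
    · exact fun e => hq2b (e ▸ hr0_3)
    · exact fun e => hq2b (e ▸ hr1_3)
    · exact fun e => hr1m (e ▸ hr0_1)
    · exact fun e => hr2m (e ▸ hr0_2)
    · exact fun e => hr2m (e ▸ hr1_2)
  have hwe : ∀ j x, w j x = -1 ∨ w j x = 0 ∨ w j x = 1 := h.symm.entry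
  have hsol : ∀ j : Fin 4, Sol (if (0 : Fin 4) = j then 1 else 0) (if (1 : Fin 4) = j then 1 else 0)
      (if (2 : Fin 4) = j then 1 else 0) (if (3 : Fin 4) = j then 1 else 0)
      (w j p) (w j q0) (w j q1) (w j q2) (w j r0) (w j r1) (w j r2)
      (∑ x ∈ ({p, q0, q1, q2, r0, r1, r2} : Finset X)ᶜ, w j x * w j x) := by
    intro j
    refine ⟨hwe j p, hwe j q0, hwe j q1, hwe j q2, hwe j r0, hwe j r1, hwe j r2, ?_, ?_, ?_, ?_, ?_,
      Finset.sum_nonneg fun x _ => mul_self_nonneg _⟩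
    · have := h.vw 0 j
      rw [dot_of_supp_eq hpq0 hr0p.symm hr0q.symm hs0, hval 0 p h0, hval 0 q0 hq0a,
        hval 0 r0 hr0m] at this
      linarith
    · have := h.vw 1 j
      rw [dot_of_supp_eq hpq1 hr1p.symm hr1q.symm hs1, hval 1 p h1, hval 1 q1 hq1a,
        hval 1 r1 hr1m] at this
      linarith
    · have := h.vw 2 j
      rw [dot_of_supp_eq hpq2 hr2p.symm hr2q.symm hs2, hval 2 p h2, hval 2 q2 hq2a,
        hval 2 r2 hr2m] at this
      linarith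
    · have := h.vw 3 j
      rw [dot_of_supp_eq hq01 hq02 hq12 hs3, hval 3 q0 hq0b, hval 3 q1 hq1b,
        hval 3 q2 hq2b] at this
      linarith
    · have := h.ww j j
      rw [dot_split7 hnd, if_pos rfl] at this
      linarith
  have s0 := hsol 0
  have s1 := hsol 1
  have s2 := hsol 2
  have s3 := hsol 3
  simp only [Fin.isValue, if_true, Fin.reduceEq, if_false] at s0 s1 s2 s3
  have hww : ∀ i j : Fin 4, i ≠ j →
      w i p * w j p + w i q0 * w j q0 + w i q1 * w j q1 + w i q2 * w j q2 + w i r0 * w j r0 +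
        w i r1 * w j r1 + w i r2 * w j r2 +
        ∑ x ∈ ({p, q0, q1, q2, r0, r1, r2} : Finset X)ᶜ, w i x * w j x = 1 := by
    intro i j hij
    have := h.ww i j
    rw [dot_split7 hnd, if_neg hij] at this
    exact this
  exact np_core s0 s1 s2 s3 (hww 0 1 (by decide)) (hww 0 2 (by decide)) (hww 0 3 (by decide))
    (hww 1 2 (by decide)) (hww 1 3 (by decide)) (hww 2 3 (by decide))
    (rest_bounds _ (hwe 0) (hwe 1)) (rest_bounds _ (hwe 0) (hwe 2)) (rest_bounds _ (hwe 0) (hwe 3))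
    (rest_bounds _ (hwe 1) (hwe 2)) (rest_bounds _ (hwe 1) (hwe 3)) (rest_bounds _ (hwe 2) (hwe 3))

/-- Rescaling all coordinates by signs preserves the Gram data. -/
theorem scale (h : Quad v w) (σ : X → ℤ) (hσ : ∀ x, σ x * σ x = 1) :
    Quad (fun i x => σ x * v i x) (fun i x => σ x * w i x) := by
  have key : ∀ a b : X → ℤ, dot (fun x => σ x * a x) (fun x => σ x * b x) = dot a b := by
    intro a b
    unfold dot
    refine Finset.sum_congr rfl fun x _ => ?_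
    calc σ x * a x * (σ x * b x) = (σ x * σ x) * (a x * b x) := by ring
      _ = a x * b x := by rw [hσ, one_mul]
  exact ⟨fun i j => by rw [key]; exact h.vv i j, fun i j => by rw [key]; exact h.ww i j,
    fun i j => by rw [key]; exact h.vw i j⟩

/-- The near-pencil configuration is impossible. -/
theorem np_kill (h : Quad v w) (p : X) (h0 : v 0 p ≠ 0) (h1 : v 1 p ≠ 0) (h2 : v 2 p ≠ 0)
    (h3 : v 3 p = 0) : False := by
  classical
  let σ : X → ℤ := fun x => if v 0 x ≠ 0 then v 0 x else if v 1 x ≠ 0 then v 1 x else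
    if v 2 x ≠ 0 then v 2 x else if v 3 x ≠ 0 then v 3 x else 1
  have hσk : ∀ x, (∃ k, v k x ≠ 0 ∧ σ x = v k x) ∨ ((∀ i, v i x = 0) ∧ σ x = 1) := by
    intro x
    by_cases c0 : v 0 x ≠ 0
    · left; exact ⟨0, c0, by simp only [σ, if_pos c0]⟩
    by_cases c1 : v 1 x ≠ 0
    · left; exact ⟨1, c1, by simp only [σ, if_neg c0, if_pos c1]⟩
    by_cases c2 : v 2 x ≠ 0
    · left; exact ⟨2, c2, by simp only [σ, if_neg c0, if_neg c1, if_pos c2]⟩
    by_cases c3 : v 3 x ≠ 0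
    · left; exact ⟨3, c3, by simp only [σ, if_neg c0, if_neg c1, if_neg c2, if_pos c3]⟩
    · right
      refine ⟨fun i => ?_, by simp only [σ, if_neg c0, if_neg c1, if_neg c2, if_neg c3]⟩
      rw [not_not] at c0 c1 c2 c3
      fin_cases i <;> assumption
  have hsq : ∀ i x, v i x ≠ 0 → v i x * v i x = 1 := fun i x hx => by
    rcases h.entry i x with h' | h' | h'
    · rw [h']; rfl
    · exact absurd h' hx
    · rw [h']; rfl
  have hσ : ∀ x, σ x * σ x = 1 := by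
    intro x
    rcases hσk x with ⟨k, hk, e⟩ | ⟨-, e⟩
    · rw [e]; exact hsq k x hk
    · rw [e]; rfl
  have hq := h.scale σ hσ
  have hpos : ∀ i x, 0 ≤ σ x * v i x := by
    intro i x
    by_cases hi : v i x = 0
    · rw [hi, mul_zero]
    rcases hσk x with ⟨k, hk, e⟩ | ⟨hall, -⟩
    · by_cases hki : k = i
      · subst hki; rw [e]; exact mul_self_nonneg _
      · rw [e, h.eq_of_common hki hk hi]; exact mul_self_nonneg _
    · exact absurd (hall i) hi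
  have hσne : σ p ≠ 0 := fun e => by have := hσ p; rw [e] at this; simp at this
  exact hq.np_kill_pos hpos p (mul_ne_zero hσne h0) (mul_ne_zero hσne h1) (mul_ne_zero hσne h2)
    (by simp only [h3, mul_zero])

/-- **Four cell lemma.** Four cells of a line, in presence of a parallel line, have a common
coordinate. -/
theorem four_common (h : Quad v w) : ∃ x, ∀ i, v i x ≠ 0 := by
  obtain ⟨x, hx⟩ := h.exists_three
  by_contra hcon
  simp only [not_exists, not_forall, not_not] at hcon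
  obtain ⟨m, hm⟩ := hcon x
  have hsq : ∀ i, (v i x = 0 ∧ v i x * v i x = 0) ∨ (v i x ≠ 0 ∧ v i x * v i x = 1) := fun i => by
    rcases h.entry i x with h' | h' | h'
    · right; rw [h']; exact ⟨by decide, rfl⟩
    · left; rw [h']; exact ⟨rfl, rfl⟩
    · right; rw [h']; exact ⟨by decide, rfl⟩
  have hothers : ∀ k, k ≠ m → v k x ≠ 0 := by
    intro k hkm hk
    have s0 := hsq 0
    have s1 := hsq 1
    have s2 := hsq 2
    have s3 := hsq 3
    fin_cases m <;> fin_cases k <;> simp only [Fin.isValue, Fin.zero_eta, Fin.mk_one, Fin.reduceFinMk,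
      ne_eq, not_true_eq_false, Fin.reduceEq, not_false_eq_true] at hkm hm hk <;> omega
  have hq := h.comp (Equiv.swap 3 m) (Equiv.injective _)
  refine hq.np_kill x (hothers _ ?_) (hothers _ ?_) (hothers _ ?_) ?_
  · intro e
    have := (Equiv.swap 3 m).injective (e.trans (Equiv.swap_apply_left 3 m).symm)
    exact absurd this (by decide)
  · intro e
    have := (Equiv.swap 3 m).injective (e.trans (Equiv.swap_apply_left 3 m).symm)
    exact absurd this (by decide)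
  · intro e
    have := (Equiv.swap 3 m).injective (e.trans (Equiv.swap_apply_left 3 m).symm)
    exact absurd this (by decide)
  · show v (Equiv.swap 3 m 3) x = 0
    rw [Equiv.swap_apply_left]; exact hm

end Quad

end Cfsg.Agent.Lib.Helper16_Array
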