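import Mathlib
import Cfsg.Agent.Lib.Helper16_Array

/-!
# Decomposition of an array of norm-3 lattice vectors (helper16)

The lattice half of Peterfalvi (3.5): an array `V a b` of integer vectors with Gram matrix
`[a = a'] + [b = b'] + [a = a'][b = b']` decomposes as `± e (x a) ± e (y b) ± e (z a b)` with all
the coordinates `x a`, `y b`, `z a b` pairwise distinct.
-/

set_option autoImplicit false

namespace Cfsg.Agent.Lib.Helper16_Array

variable {X : Type*} [Fintype X]

/-- Two parallel lines of cells indexed by an arbitrary type. -/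
structure Line {ι : Type*} [DecidableEq ι] (v w : ι → X → ℤ) : Prop where
  vv : ∀ i j, dot (v i) (v j) = if i = j then 3 else 1
  ww : ∀ i j, dot (w i) (w j) = if i = j then 3 else 1
  vw : ∀ i j, dot (v i) (w j) = if i = j then 1 else 0

namespace Line

variable {ι : Type*} [DecidableEq ι] {v w : ι → X → ℤ}

theorem norm (h : Line v w) (i : ι) : dot (v i) (v i) = 3 := by
  rw [h.vv]; simp

theorem entry (h : Line v w) (i : ι) (x : X) : v i x = -1 ∨ v i x = 0 ∨ v i x = 1 :=
  entry_of_norm3 (h.norm i) x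

theorem pair (h : Line v w) {i j : ι} (hij : i ≠ j) :
    ∃ x, v i x ≠ 0 ∧ v j x ≠ 0 ∧ v i x = v j x ∧ ∀ y, v i y ≠ 0 → v j y ≠ 0 → y = x := by
  refine pair_lemma (w := w i) (h.norm i) (h.norm j) (by rw [h.vv]; simp [hij]) ?_
  rw [dot_comm (w i) (v i), dot_comm (w i) (v j), h.vw, h.vw]
  simp [Ne.symm hij]

theorem eq_of_common (h : Line v w) {i j : ι} (hij : i ≠ j) {x : X} (hi : v i x ≠ 0)
    (hj : v j x ≠ 0) : v i x = v j x := by
  obtain ⟨y, _, _, hy, huniq⟩ := h.pair hij
  rw [huniq x hi hj]; exact hy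

theorem common_unique (h : Line v w) {i j : ι} (hij : i ≠ j) {x y : X} (hi : v i x ≠ 0)
    (hj : v j x ≠ 0) (hi' : v i y ≠ 0) (hj' : v j y ≠ 0) : x = y := by
  obtain ⟨z, _, _, _, huniq⟩ := h.pair hij
  rw [huniq x hi hj, huniq y hi' hj']

theorem quad (h : Line v w) (f : Fin 4 → ι) (hf : Function.Injective f) :
    Quad (fun k => v (f k)) (fun k => w (f k)) where
  vv := fun i j => by rw [h.vv]; simp [hf.eq_iff]
  ww := fun i j => by rw [h.ww]; simp [hf.eq_iff]
  vw := fun i j => by rw [h.vw]; simp [hf.eq_iff]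

/-- **Line lemma.** All the cells of a line with two or at least four cells have a common
coordinate, where they all take the same value `±1`. -/
theorem exists_common [Fintype ι] (h : Line v w) (h2 : 2 ≤ Fintype.card ι)
    (h3 : Fintype.card ι ≠ 3) :
    ∃ (x : X) (s : ℤ), (s = 1 ∨ s = -1) ∧ ∀ i, v i x = s := by
  classical
  obtain ⟨i0, i1, h01⟩ : ∃ i0 i1 : ι, i0 ≠ i1 := by
    have : 1 < Fintype.card ι := h2
    exact Fintype.exists_pair_of_one_lt_card this
  obtain ⟨p, hp0, hp1, hpe, hpu⟩ := h.pair h01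
  have hall : ∀ i, v i p ≠ 0 := by
    intro i2
    by_cases e0 : i2 = i0
    · rw [e0]; exact hp0
    by_cases e1 : i2 = i1
    · rw [e1]; exact hp1
    have hc3 : ({i0, i1, i2} : Finset ι).card = 3 :=
      Finset.card_eq_three.2 ⟨i0, i1, i2, h01, Ne.symm e0, Ne.symm e1, rfl⟩
    have hlt : ({i0, i1, i2} : Finset ι).card < (Finset.univ : Finset ι).card := by
      rw [hc3, Finset.card_univ]
      have : 3 ≤ Fintype.card ι := by
        rw [← hc3]; exact Finset.card_le_univ _
      omega
    obtain ⟨i3, -, hi3⟩ := Finset.exists_mem_notMem_of_card_lt_card hlt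
    simp only [Finset.mem_insert, Finset.mem_singleton, not_or] at hi3
    let f : Fin 4 → ι := ![i0, i1, i2, i3]
    have hf : Function.Injective f := by
      intro a b hab
      fin_cases a <;> fin_cases b <;> simp [f] at hab ⊢ <;> tauto
    obtain ⟨x, hx⟩ := (h.quad f hf).four_common
    have hx0 : v i0 x ≠ 0 := hx 0
    have hx1 : v i1 x ≠ 0 := hx 1
    have hx2 : v i2 x ≠ 0 := hx 2
    rw [← hpu x hx0 hx1]; exact hx2
  refine ⟨p, v i0 p, ?_, fun i => ?_⟩
  · rcases h.entry i0 p with h' | h' | h'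
    · right; exact h'
    · exact absurd h' hp0
    · left; exact h'
  · by_cases e0 : i = i0
    · rw [e0]
    · exact h.eq_of_common e0 (hall i) hp0

end Line

theorem orth_common {u u' : X → ℤ} (h0 : dot u u' = 0) {p : X} (hp : u p ≠ 0) (hp' : u' p ≠ 0) :
    ∃ c, c ≠ p ∧ u c ≠ 0 ∧ u' c ≠ 0 := by
  by_contra hcon
  simp only [not_exists, not_and, not_not] at hcon
  have : dot u u' = u p * u' p := by
    unfold dot
    refine Finset.sum_eq_single p (fun c _ hc => ?_) (by simp)
    by_cases huc : u c = 0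
    · rw [huc, zero_mul]
    · rw [hcon c hc huc, mul_zero]
  rw [this] at h0
  exact (mul_ne_zero hp hp') h0

theorem cross_aux {u : X → ℤ} {c : Fin 3 → X → ℤ} (hu : dot u u = 3) (p : X) (hup : u p ≠ 0)
    (hcp : ∀ k, c k p ≠ 0) (horth : ∀ k, dot u (c k) = 0)
    (huniq : ∀ k l, k ≠ l → ∀ y, c k y ≠ 0 → c l y ≠ 0 → y = p) : False := by
  classical
  choose d hdp hdu hdc using fun k => orth_common (horth k) hup (hcp k)
  have hinj : Function.Injective d := by
    intro k l hkl
    by_contra hne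
    exact hdp k (huniq k l hne (d k) (hdc k) (hkl ▸ hdc l))
  have hsub : insert p (Finset.univ.image d) ⊆ supp u := by
    intro y hy
    rw [Finset.mem_insert, Finset.mem_image] at hy
    rcases hy with rfl | ⟨k, -, rfl⟩
    · exact mem_supp.2 hup
    · exact mem_supp.2 (hdu k)
  have hcard : (insert p (Finset.univ.image d)).card = 4 := by
    rw [Finset.card_insert_of_notMem, Finset.card_image_of_injective _ hinj]
    · simp
    · rw [Finset.mem_image]
      rintro ⟨k, -, hk⟩
      exact hdp k hk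
  have := Finset.card_le_card hsub
  rw [hcard, card_supp_of_norm3 hu] at this
  omega

/-- The Gram condition on an array of lattice vectors. -/
def IsArray {A B : Type*} [DecidableEq A] [DecidableEq B] (V : A → B → X → ℤ) : Prop :=
  ∀ a b a' b', dot (V a b) (V a' b') =
    (if a = a' then 1 else 0) + (if b = b' then 1 else 0) + (if a = a' ∧ b = b' then 1 else 0)

namespace IsArray

variable {A B : Type*} [DecidableEq A] [DecidableEq B] {V : A → B → X → ℤ}

theorem rowLine (hV : IsArray V) {a a' : A} (haa : a ≠ a') :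
    Line (fun b => V a b) (fun b => V a' b) where
  vv := fun b b' => by rw [hV]; by_cases h : b = b' <;> simp [h]
  ww := fun b b' => by rw [hV]; by_cases h : b = b' <;> simp [h]
  vw := fun b b' => by rw [hV]; by_cases h : b = b' <;> simp [h, haa]

theorem colLine (hV : IsArray V) {b b' : B} (hbb : b ≠ b') :
    Line (fun a => V a b) (fun a => V a b') where
  vv := fun a a' => by rw [hV]; by_cases h : a = a' <;> simp [h]
  ww := fun a a' => by rw [hV]; by_cases h : a = a' <;> simp [h]
  vw := fun a a' => by rw [hV]; by_cases h : a = a' <;> simp [h, hbb]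

theorem exists_three_ne {C : Type*} [Fintype C] [DecidableEq C] (h4 : 4 ≤ Fintype.card C) (c : C) :
    ∃ f : Fin 3 → C, Function.Injective f ∧ ∀ k, f k ≠ c := by
  have hcard : 3 ≤ Fintype.card {c' // ¬ c' = c} := by
    rw [Fintype.card_subtype_compl, Fintype.card_subtype_eq]; omega
  obtain ⟨f⟩ : Nonempty (Fin 3 ↪ {c' // ¬ c' = c}) :=
    Function.Embedding.nonempty_of_card_le (by simpa using hcard)
  exact ⟨fun k => (f k).1, fun k l hkl => f.injective (Subtype.ext hkl), fun k => (f k).2⟩

/-- **Array decomposition** (lattice half of Peterfalvi (3.5)). -/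
theorem decomp [Fintype A] [Fintype B] (hV : IsArray V)
    (hA2 : 2 ≤ Fintype.card A) (hA3 : Fintype.card A ≠ 3) (hB2 : 2 ≤ Fintype.card B)
    (hB3 : Fintype.card B ≠ 3) (h4 : 4 ≤ Fintype.card A ∨ 4 ≤ Fintype.card B) :
    ∃ (x : A → X) (y : B → X) (z : A → B → X) (s : A → ℤ) (t : B → ℤ) (u : A → B → ℤ),
      (∀ a, s a = 1 ∨ s a = -1) ∧ (∀ b, t b = 1 ∨ t b = -1) ∧ (∀ a b, u a b = 1 ∨ u a b = -1) ∧
      Function.Injective x ∧ Function.Injective y ∧
      (∀ a b a' b', z a b = z a' b' → a = a' ∧ b = b') ∧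
      (∀ a b, x a ≠ y b) ∧ (∀ a a' b, x a ≠ z a' b) ∧ (∀ b a b', y b ≠ z a b') ∧
      (∀ a b, V a b (x a) = s a) ∧ (∀ a b, V a b (y b) = t b) ∧ (∀ a b, V a b (z a b) = u a b) ∧
      ∀ a b c, c ≠ x a → c ≠ y b → c ≠ z a b → V a b c = 0 := by
  classical
  have hA' : ∀ a : A, ∃ a', a' ≠ a := fun a => by
    obtain ⟨a1, a2, h12⟩ := Fintype.exists_pair_of_one_lt_card (show 1 < Fintype.card A from hA2)
    by_cases h : a1 = a
    · exact ⟨a2, fun e => h12 (h.trans e.symm)⟩
    · exact ⟨a1, h⟩
  have hB' : ∀ b : B, ∃ b', b' ≠ b := fun b => by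
    obtain ⟨b1, b2, h12⟩ := Fintype.exists_pair_of_one_lt_card (show 1 < Fintype.card B from hB2)
    by_cases h : b1 = b
    · exact ⟨b2, fun e => h12 (h.trans e.symm)⟩
    · exact ⟨b1, h⟩
  have hrow : ∀ a, ∃ (x : X) (s : ℤ), (s = 1 ∨ s = -1) ∧ ∀ b, V a b x = s := fun a => by
    obtain ⟨a', ha'⟩ := hA' a
    exact (hV.rowLine ha'.symm).exists_common hB2 hB3
  have hcol : ∀ b, ∃ (y : X) (t : ℤ), (t = 1 ∨ t = -1) ∧ ∀ a, V a b y = t := fun b => by
    obtain ⟨b', hb'⟩ := hB' b
    exact (hV.colLine hb'.symm).exists_common hA2 hA3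
  choose x s hs hx using hrow
  choose y t ht hy using hcol
  have hsne : ∀ a, s a ≠ 0 := fun a => by rcases hs a with h | h <;> rw [h] <;> decide
  have htne : ∀ b, t b ≠ 0 := fun b => by rcases ht b with h | h <;> rw [h] <;> decide
  have hxne : ∀ a b, V a b (x a) ≠ 0 := fun a b => by rw [hx]; exact hsne a
  have hyne : ∀ a b, V a b (y b) ≠ 0 := fun a b => by rw [hy]; exact htne b
  have F1 : ∀ a b b', b ≠ b' → ∀ c, V a b c ≠ 0 → V a b' c ≠ 0 → c = x a := by
    intro a b b' hbb c h1 h2
    obtain ⟨a', ha'⟩ := hA' a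
    exact (hV.rowLine ha'.symm).common_unique hbb h1 h2 (hxne a b) (hxne a b')
  have F2 : ∀ b a a', a ≠ a' → ∀ c, V a b c ≠ 0 → V a' b c ≠ 0 → c = y b := by
    intro b a a' haa c h1 h2
    obtain ⟨b', hb'⟩ := hB' b
    exact (hV.colLine hb'.symm).common_unique haa h1 h2 (hyne a b) (hyne a' b)
  have hnorm : ∀ a b, dot (V a b) (V a b) = 3 := fun a b => by rw [hV]; simp
  have horth : ∀ a b a' b', a ≠ a' → b ≠ b' → dot (V a b) (V a' b') = 0 := by
    intro a b a' b' haa hbb; rw [hV]; simp [haa, hbb]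
  have F3 : ∀ a b, x a ≠ y b := by
    intro a b hxy
    rcases h4 with h4 | h4
    · obtain ⟨b', hb'⟩ := hB' b
      obtain ⟨f, hf, hfa⟩ := exists_three_ne h4 a
      refine cross_aux (u := V a b') (c := fun k => V (f k) b) (hnorm a b') (x a) (hxne a b')
        (fun k => by rw [hxy]; exact hyne _ b) (fun k => horth _ _ _ _ (hfa k).symm hb') ?_
      intro k l hkl c h1 h2
      rw [hxy]
      exact F2 b _ _ (fun e => hkl (hf e)) c h1 h2
    · obtain ⟨a', ha'⟩ := hA' a
      obtain ⟨f, hf, hfb⟩ := exists_three_ne h4 b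
      refine cross_aux (u := V a' b) (c := fun k => V a (f k)) (hnorm a' b) (y b) (hyne a' b)
        (fun k => by rw [← hxy]; exact hxne a _) (fun k => horth _ _ _ _ ha' (hfb k).symm) ?_
      intro k l hkl c h1 h2
      rw [← hxy]
      exact F1 a _ _ (fun e => hkl (hf e)) c h1 h2
  have hz : ∀ a b, ∃ z, z ≠ x a ∧ z ≠ y b ∧ supp (V a b) = {x a, y b, z} := fun a b =>
    exists_third (card_supp_of_norm3 (hnorm a b)) (mem_supp.2 (hxne a b)) (mem_supp.2 (hyne a b))
      (F3 a b)
  choose z hzx hzy hsupp using hz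
  have hzne : ∀ a b, V a b (z a b) ≠ 0 := fun a b => mem_supp.1 (by rw [hsupp]; simp)
  have hmem : ∀ a b c, V a b c ≠ 0 → c = x a ∨ c = y b ∨ c = z a b := fun a b c hc => by
    have := mem_supp.2 hc
    rw [hsupp] at this
    simpa using this
  have hAne : Nonempty A := Fintype.card_pos_iff.1 (by omega)
  have hBne : Nonempty B := Fintype.card_pos_iff.1 (by omega)
  have hxinj : Function.Injective x := by
    intro a a' haa
    by_contra hne
    obtain ⟨b⟩ := hBne
    exact F3 a b (F2 b a a' hne (x a) (hxne a b) (haa ▸ hxne a' b))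
  have hyinj : Function.Injective y := by
    intro b b' hbb
    by_contra hne
    obtain ⟨a⟩ := hAne
    exact F3 a b (F1 a b b' hne (y b) (hyne a b) (hbb ▸ hyne a b')).symm
  have hxz : ∀ a a' b, x a ≠ z a' b := by
    intro a a' b e
    by_cases haa : a = a'
    · subst haa; exact hzx a b e.symm
    · have h1 : V a b (z a' b) ≠ 0 := e ▸ hxne a b
      exact hzy a' b (F2 b a a' haa _ h1 (hzne a' b))
  have hyz : ∀ b a b', y b ≠ z a b' := by
    intro b a b' e
    by_cases hbb : b = b'
    · subst hbb; exact hzy a b e.symm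
    · have h1 : V a b (z a b') ≠ 0 := e ▸ hyne a b
      exact hzx a b' (F1 a b b' hbb _ h1 (hzne a b'))
  have hzinj : ∀ a b a' b', z a b = z a' b' → a = a' ∧ b = b' := by
    intro a b a' b' e
    by_cases haa : a = a'
    · subst haa
      refine ⟨rfl, ?_⟩
      by_contra hbb
      exact hzx a b (F1 a b b' hbb _ (hzne a b) (e ▸ hzne a b'))
    · by_cases hbb : b = b'
      · subst hbb
        exact absurd (F2 b a a' haa _ (hzne a b) (e ▸ hzne a' b)) (hzy a b)
      · exfalso
        obtain ⟨c, hcne, hc1, hc2⟩ :=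
          orth_common (horth a b a' b' haa hbb) (hzne a b) (e ▸ hzne a' b')
        rcases hmem a b c hc1 with h | h | h
        · rcases hmem a' b' c hc2 with h' | h' | h'
          · exact haa (hxinj (h.symm.trans h'))
          · exact F3 a b' (h.symm.trans h')
          · exact hxz a a' b' (h.symm.trans h')
        · rcases hmem a' b' c hc2 with h' | h' | h'
          · exact F3 a' b (h'.symm.trans h)
          · exact hbb (hyinj (h.symm.trans h'))
          · exact hyz b a' b' (h.symm.trans h')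
        · exact hcne h
  refine ⟨x, y, z, s, t, fun a b => V a b (z a b), hs, ht, ?_, hxinj, hyinj, hzinj, F3, hxz, hyz,
    hx, fun a b => hy b a, fun _ _ => rfl, ?_⟩
  · intro a b
    rcases entry_of_norm3 (hnorm a b) (z a b) with h | h | h
    · right; exact h
    · exact absurd h (hzne a b)
    · left; exact h
  · intro a b c h1 h2 h3
    by_contra hne
    rcases hmem a b c hne with h | h | h
    · exact h1 h
    · exact h2 h
    · exact h3 h

end IsArray

end Cfsg.Agent.Lib.Helper16_Array
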