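import Mathlib

set_option autoImplicit false

namespace Cfsg.Agent.Lib.Helper52_B43_ARITH

/-- basic consequences of `e * t = p - 1` for a prime `p` -/
theorem basic {p e t : ℕ} (hp : p.Prime) (het : e * t = p - 1) :
    1 ≤ e ∧ 1 ≤ t ∧ e * t + 1 = p ∧ e < p := by
  have hp2 := hp.two_le
  have h1 : e * t + 1 = p := by omega
  have he : 1 ≤ e := by
    rcases Nat.eq_zero_or_pos e with h | h
    · subst h; omega
    · exact h
  have ht : 1 ≤ t := by
    rcases Nat.eq_zero_or_pos t with h | h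
    · subst h; omega
    · exact h
  refine ⟨he, ht, h1, ?_⟩
  nlinarith

theorem arith_A1 {p e t n a : ℕ} (hp : p.Prime) (het : e * t = p - 1) (hnp : 2 * n ≤ p + 1)
    (ha : 1 ≤ a) (hdvd : a * p + 1 ∣ e * (1 + n * p)) : a = n := by
  obtain ⟨he1, ht1, het', helt⟩ := basic hp het
  have hp2 := hp.two_le
  obtain ⟨c, hc⟩ := hdvd
  have hmod : c % p = e := by
    have h1 : (e * (1 + n * p)) % p = e := by
      rw [show e * (1 + n * p) = e + (e * n) * p by ring, Nat.add_mul_mod_self_right,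
        Nat.mod_eq_of_lt helt]
    have h2 : ((a * p + 1) * c) % p = c % p := by
      rw [show (a * p + 1) * c = c + (a * c) * p by ring, Nat.add_mul_mod_self_right]
    rw [← h2, ← hc, h1]
  obtain ⟨b, hb⟩ : ∃ b, c = e + b * p := ⟨c / p, by
    have := Nat.div_add_mod c p
    rw [hmod] at this
    linarith [mul_comm p (c / p)]⟩
  subst hb
  have key : e * n = a * e + a * b * p + b := by
    have h3 : p * (e * n) = p * (a * e + a * b * p + b) := by nlinarith [hc]
    exact Nat.eq_of_mul_eq_mul_left (by omega) h3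
  rcases Nat.eq_zero_or_pos b with hb0 | hb1
  · subst hb0
    have h4 : e * n = e * a := by linarith [mul_comm a e]
    exact (Nat.eq_of_mul_eq_mul_left he1 h4).symm
  · exfalso
    have h3 : e * n = e * (a + a * b * t) + b * (a + 1) := by
      rw [← het'] at key
      linarith [key, show a * b * (e * t + 1) = e * (a * b * t) + a * b by ring]
    have hdv : e ∣ b * (a + 1) := by
      have h4 : e ∣ e * (a + a * b * t) + b * (a + 1) := h3 ▸ Dvd.intro _ rfl
      exact (Nat.dvd_add_right (Dvd.intro _ rfl)).mp h4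
    have hge : e ≤ b * (a + 1) := Nat.le_of_dvd (by positivity) hdv
    have h4 : e * n = e * a + b * (a * p + 1) := by linarith
    have h5 : (a + 1) * a + a * p + 1 ≤ (a + 1) * n := by
      have h6 : e * ((a + 1) * a + a * p + 1) ≤ e * ((a + 1) * n) := by
        have h7 : e * ((a + 1) * n) = (a + 1) * (e * a) + (b * (a + 1)) * (a * p + 1) := by
          rw [show e * ((a + 1) * n) = (a + 1) * (e * n) by ring, h4]; ring
        rw [h7]
        nlinarith [Nat.mul_le_mul_right (a * p + 1) hge]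
      exact Nat.le_of_mul_le_mul_left h6 he1
    have h8 : 2 * ((a + 1) * n) ≤ (a + 1) * (p + 1) := by nlinarith
    have h9 : 0 ≤ (a - 1) * p := Nat.zero_le _
    have h10 : (a - 1) * p + p = a * p := by
      obtain ⟨a', rfl⟩ : ∃ a', a = a' + 1 := ⟨a - 1, by omega⟩
      simp; ring
    nlinarith

theorem arith_A2 {p e t n u : ℕ} (hp : p.Prime) (het : e * t = p - 1) (hnp : 2 * n ≤ p + 1)
    (hu2 : 2 ≤ u) (hun : u ≤ n) (hdvd : u * p - 1 ∣ e * (1 + n * p)) : False := by
  obtain ⟨he1, ht1, het', helt⟩ := basic hp het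
  have hp2 := hp.two_le
  obtain ⟨m, hm⟩ : ∃ m, m + 1 = u * p := ⟨u * p - 1, by
    have : 1 ≤ u * p := by nlinarith
    omega⟩
  have hm' : u * p - 1 = m := by omega
  rw [hm'] at hdvd
  obtain ⟨c, hc⟩ := hdvd
  -- `c + e ≡ 0 mod p`
  have hmod : p ∣ c + e := by
    have h2 : c + e = p * (u * c) - p * (e * n) + 0 := by
      have : c + e + p * (e * n) = p * (u * c) := by
        have h3 : (m + 1) * c = u * p * c := by rw [hm]
        nlinarith [hc, h3]
      omega
    rw [h2, add_zero, ← Nat.mul_sub]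
    exact Dvd.intro _ rfl
  obtain ⟨b, hb⟩ := hmod
  have hb1 : 1 ≤ b := by
    rcases Nat.eq_zero_or_pos b with h | h
    · subst h; omega
    · exact h
  -- `e * (n + u) = b * m`
  have key : e * (n + u) = b * m := by
    have h3 : p * (e * (n + u)) = p * (b * m) := by
      have h4 : (m + 1) * c = u * p * c := by rw [hm]
      have h5 : p * (b * m) + p * b = p * b * (u * p) := by rw [← hm]; ring
      nlinarith [hc, hb, h4, h5]
    exact Nat.eq_of_mul_eq_mul_left (by omega) h3
  -- `m = e * (u * t) + (u - 1)`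
  obtain ⟨u', rfl⟩ : ∃ u', u = u' + 1 := ⟨u - 1, by omega⟩
  have hm2 : m = e * ((u' + 1) * t) + u' := by
    have : m + 1 = (u' + 1) * (e * t + 1) := by rw [het', hm]
    linarith [this, show (u' + 1) * (e * t + 1) = e * ((u' + 1) * t) + u' + 1 by ring]
  have hdv : e ∣ b * u' := by
    have h4 : e ∣ e * (b * ((u' + 1) * t)) + b * u' := by
      have : e * (n + (u' + 1)) = e * (b * ((u' + 1) * t)) + b * u' := by rw [key, hm2]; ring
      exact this ▸ Dvd.intro _ rfl
    exact (Nat.dvd_add_right (Dvd.intro _ rfl)).mp h4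
  have hu'1 : 1 ≤ u' := by omega
  have hge : e ≤ b * u' := Nat.le_of_dvd (by positivity) hdv
  have h5 : m ≤ (n + (u' + 1)) * u' := by
    have h6 : e * m ≤ e * ((n + (u' + 1)) * u') := by
      have h7 : e * ((n + (u' + 1)) * u') = (b * u') * m := by
        rw [show e * ((n + (u' + 1)) * u') = (e * (n + (u' + 1))) * u' by ring, key]; ring
      rw [h7]
      exact Nat.mul_le_mul_right m hge
    exact Nat.le_of_mul_le_mul_left h6 he1
  -- `m + 1 = (u'+1) p`, and `(n + u' + 1) u' ≤ 2 n u' ≤ (p + 1) u'`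
  have h8 : (n + (u' + 1)) * u' ≤ 2 * n * u' := by nlinarith
  have h9 : 2 * n * u' ≤ (p + 1) * u' := Nat.mul_le_mul_right u' hnp
  have h10 : u' + 1 < p := by
    by_contra hcon
    push Not at hcon
    omega
  nlinarith

theorem arith_A3 {p e t n a0 : ℕ} (hp : p.Prime) (het : e * t = p - 1) (hnp : 2 * n ≤ p + 1)
    (ht : 2 ≤ t) (ha0 : 1 ≤ a0) (hpos : e < a0 * p) (hdvd : a0 * p - e ∣ e * (1 + n * p)) :
    n + 1 = t * a0 := by
  obtain ⟨he1, ht1, het', helt⟩ := basic hp het
  have hp2 := hp.two_le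
  obtain ⟨m, hm⟩ : ∃ m, m + e = a0 * p := ⟨a0 * p - e, by omega⟩
  have hm' : a0 * p - e = m := by omega
  rw [hm'] at hdvd
  obtain ⟨c, hc⟩ := hdvd
  -- `p ∣ e * (c + 1)`
  have h1 : p ∣ e * (c + 1) := by
    have h2 : e * (c + 1) + p * (e * n) = p * (a0 * c) := by
      have h3 : (m + e) * c = a0 * p * c := by rw [hm]
      nlinarith [hc, h3]
    have h3 : e * (c + 1) = p * (a0 * c) - p * (e * n) := by omega
    rw [h3, ← Nat.mul_sub]
    exact Dvd.intro _ rfl
  have hcop : Nat.Coprime p e := (Nat.Prime.coprime_iff_not_dvd hp).mpr (fun h =>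
    absurd (Nat.le_of_dvd (by omega) h) (by omega))
  have h2 : p ∣ c + 1 := hcop.dvd_of_dvd_mul_left h1
  obtain ⟨b, hb⟩ := h2
  have hb1 : 1 ≤ b := by
    rcases Nat.eq_zero_or_pos b with h | h
    · subst h; omega
    · exact h
  -- `e * (n + b) + a0 = a0 * b * p`
  have key : e * (n + b) + a0 = a0 * b * p := by
    have h3 : p * (e * (n + b) + a0) = p * (a0 * b * p) := by
      have h4 : (m + e) * (c + 1) = a0 * p * (p * b) := by rw [hm, hb]
      nlinarith [hc, hb, h4]
    exact Nat.eq_of_mul_eq_mul_left (by omega) h3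
  obtain ⟨b', rfl⟩ : ∃ b', b = b' + 1 := ⟨b - 1, by omega⟩
  rcases Nat.eq_zero_or_pos b' with hb0 | hb2
  · subst hb0
    -- e (n+1) + a0 = a0 p = a0 (e t + 1)
    have h3 : e * (n + 1) = e * (t * a0) := by
      rw [← het'] at key
      linarith [key, show a0 * (0 + 1) * (e * t + 1) = e * (t * a0) + a0 by ring]
    exact Nat.eq_of_mul_eq_mul_left he1 h3
  · exfalso
    -- `e ∣ a0 * b'`
    have h3 : e * (n + (b' + 1)) = e * (a0 * (b' + 1) * t) + a0 * b' := by
      rw [← het'] at key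
      linarith [key, show a0 * (b' + 1) * (e * t + 1) = e * (a0 * (b' + 1) * t) + a0 * b' + a0 by ring]
    have hdv : e ∣ a0 * b' := by
      have h4 : e ∣ e * (a0 * (b' + 1) * t) + a0 * b' := h3 ▸ Dvd.intro _ rfl
      exact (Nat.dvd_add_right (Dvd.intro _ rfl)).mp h4
    obtain ⟨k, hk⟩ := hdv
    have hk1 : 1 ≤ k := by
      rcases Nat.eq_zero_or_pos k with h | h
      · subst h
        have : 0 < a0 * b' := by positivity
        omega
      · exact h
    -- `n + b' + 1 = a0 (b'+1) t + k`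
    have h5 : n + (b' + 1) = a0 * (b' + 1) * t + k := by
      have h6 : e * (n + (b' + 1)) = e * (a0 * (b' + 1) * t + k) := by rw [h3, hk]; ring
      exact Nat.eq_of_mul_eq_mul_left he1 h6
    -- `b' ≤ a0 b' = e k`
    have h7 : b' ≤ e * k := by rw [← hk]; nlinarith
    -- n = a0 (b'+1) t + k - b' - 1 ≥ a0 b' t + a0 t + k - e k - 1
    -- use a0 b' t = e k t = k (p - 1)
    have h8 : a0 * (b' + 1) * t = k * (e * t) + a0 * t := by
      rw [show a0 * (b' + 1) * t = (a0 * b') * t + a0 * t by ring, hk]; ring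
    rw [h8] at h5
    -- n + b' + 1 = k (e t) + a0 t + k, b' ≤ e k, 2 n ≤ e t + 2
    have h9 : k * (e * t) ≥ e * t := Nat.le_mul_of_pos_left _ hk1
    have h10 : a0 * t ≥ t := Nat.le_mul_of_pos_left _ ha0
    have h11 : e * k * 2 ≤ k * (e * t) := by
      calc e * k * 2 ≤ e * k * t := Nat.mul_le_mul_left _ ht
        _ = k * (e * t) := by ring
    rw [← het'] at hnp
    omega

theorem fs_arith {p e t n s : ℕ} (ht : 3 ≤ t) (he : e = s * t + 2) (hpe : p = t * e + 1)
    (hn : n + 1 = t)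
    (h : 1 + p * (p - e) ≤
      1 + s * (1 + n * p) + (e - 1 - s) * (p - 1) + t * (1 * p - e) + p * n) :
    s = 0 := by
  obtain ⟨m, rfl⟩ : ∃ m, t = m + 3 := ⟨t - 3, by omega⟩
  have hn' : n = m + 2 := by omega
  subst hn'
  have h1 : p - e = (m + 2) * e + 1 := by
    apply Nat.sub_eq_of_eq_add
    rw [hpe]; ring
  have h2 : e - 1 - s = s * (m + 2) + 1 := by
    rw [he]
    have : s * (m + 3) + 2 = s * (m + 2) + 1 + s + 1 := by ring
    omega
  have h3 : p - 1 = (m + 3) * e := by rw [hpe]; simp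
  rw [one_mul, h1, h2, h3] at h
  by_contra hs
  have hs1 : 1 ≤ s := Nat.one_le_iff_ne_zero.mpr hs
  have hid : 1 + p * ((m + 2) * e + 1) =
      1 + s * (1 + (m + 2) * p) + (s * (m + 2) + 1) * ((m + 3) * e) + (m + 3) * ((m + 2) * e + 1) +
        p * (m + 2) + s * (m + 3) * (m + 1) * (2 * m + 5 + s * (m + 3) * (m + 2)) := by
    rw [hpe, he]; ring
  rw [hid] at h
  have hpos : 0 < s * (m + 3) * (m + 1) * (2 * m + 5 + s * (m + 3) * (m + 2)) := by positivity
  omega

end Cfsg.Agent.Lib.Helper52_B43_ARITH
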