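import Mathlib
import Cfsg.Agent.Lib.Helper16_B43Defs
import Cfsg.Agent.Lib.Helper52_B43_ARITH

/-!
# Brauer 1943 (S0996): the arithmetic of the induced characters (helper16)

From the abstract data `BData` (degrees, signs, multiplicities `c l χ = ⟨ind_N^G l, χ⟩`) we derive the rank
identity `∑ c_1(χ)^2 = n + 1` and the three possible shapes (`shape`).
-/

set_option autoImplicit false

namespace Cfsg.Agent.Lib.Helper16_B43Arith

open Cfsg.Agent.Lib.Helper16_B43Defs Cfsg.Agent.Lib.Helper52_B43_ARITH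

variable {p e t n : ℕ} {ι : Type*} [Fintype ι] [DecidableEq ι] {κ : Type*} [Fintype κ]
  [DecidableEq κ]

/-- The characters outside `X ∪ Y`. -/
def Zs (D : BData p e t n ι κ) : Finset ι := (D.X ∪ D.Y)ᶜ

theorem mem_Zs (D : BData p e t n ι κ) (χ : ι) : χ ∈ Zs D ↔ χ ∉ D.X ∧ χ ∉ D.Y := by
  simp [Zs]

theorem sum_split {A : Type*} [AddCommMonoid A] (D : BData p e t n ι κ) (f : ι → A) :
    ∑ χ, f χ = ∑ χ ∈ D.X, f χ + ∑ χ ∈ D.Y, f χ + ∑ χ ∈ Zs D, f χ := by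
  rw [← Finset.sum_union D.hdisj]
  exact (Finset.sum_add_sum_compl (D.X ∪ D.Y) f).symm

section

variable (D : BData p e t n ι κ) (hp : p.Prime)
include D hp

theorem p_eq : (p : ℤ) = e * t + 1 := by
  have h := D.het
  have h2 := hp.two_le
  have : e * t + 1 = p := by omega
  exact_mod_cast this.symm

theorem e_pos : 0 < e := by
  have h := D.het
  have h2 := hp.two_le
  rcases Nat.eq_zero_or_pos e with h0 | h0
  · rw [h0, zero_mul] at h; omega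
  · exact h0

theorem t_pos : 0 < t := by
  have h := D.het
  have h2 := hp.two_le
  rcases Nat.eq_zero_or_pos t with h0 | h0
  · rw [h0, mul_zero] at h; omega
  · exact h0

/-- (S1)/e : `t * Σ_X c δ - ε * Σ_Y c = t`. -/
theorem star (l : κ) :
    (t : ℤ) * ∑ χ ∈ D.X, (D.c l χ : ℤ) * D.δ χ - D.ε * ∑ θ ∈ D.Y, (D.c l θ : ℤ) = t := by
  have h2 : (∑ χ, (D.c l χ : ℤ) * D.deg χ) = 1 + n * p := by exact_mod_cast D.hI2 l
  have h3 : (∑ χ, (D.c l χ : ℤ) * D.m1 χ) = n + 1 := by exact_mod_cast D.hI3 l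
  have hpe := p_eq D hp
  have hepos : (0 : ℤ) < e := by exact_mod_cast e_pos D hp
  have h4 : ∑ χ, (D.c l χ : ℤ) * ((p : ℤ) * D.m1 χ - D.deg χ) = (p : ℤ) - 1 := by
    have : ∑ χ, (D.c l χ : ℤ) * ((p : ℤ) * D.m1 χ - D.deg χ) =
        (p : ℤ) * ∑ χ, (D.c l χ : ℤ) * D.m1 χ - ∑ χ, (D.c l χ : ℤ) * D.deg χ := by
      rw [Finset.mul_sum, ← Finset.sum_sub_distrib]
      refine Finset.sum_congr rfl fun χ _ => by ring
    rw [this, h2, h3]; ring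
  rw [sum_split D] at h4
  have hX : ∑ χ ∈ D.X, (D.c l χ : ℤ) * ((p : ℤ) * D.m1 χ - D.deg χ) =
      ((p : ℤ) - 1) * ∑ χ ∈ D.X, (D.c l χ : ℤ) * D.δ χ := by
    rw [Finset.mul_sum]
    refine Finset.sum_congr rfl fun χ hχ => ?_
    rw [D.hdegX χ hχ]; ring
  have hY : ∑ χ ∈ D.Y, (D.c l χ : ℤ) * ((p : ℤ) * D.m1 χ - D.deg χ) =
      - (D.ε * e) * ∑ χ ∈ D.Y, (D.c l χ : ℤ) := by
    rw [Finset.mul_sum]
    refine Finset.sum_congr rfl fun χ hχ => ?_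
    rw [D.hdegY χ hχ]; ring
  have hZ : ∑ χ ∈ Zs D, (D.c l χ : ℤ) * ((p : ℤ) * D.m1 χ - D.deg χ) = 0 := by
    refine Finset.sum_eq_zero fun χ hχ => ?_
    obtain ⟨h1, h2⟩ := (mem_Zs D χ).mp hχ
    have := D.hdegZ χ h1 h2
    have h5 : (D.deg χ : ℤ) = (p : ℤ) * D.m1 χ := by exact_mod_cast this
    rw [h5]; ring
  rw [hX, hY, hZ, add_zero, hpe] at h4
  have : (e : ℤ) * ((t : ℤ) * ∑ χ ∈ D.X, (D.c l χ : ℤ) * D.δ χ - D.ε * ∑ θ ∈ D.Y, (D.c l θ : ℤ)) =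
      (e : ℤ) * t := by linarith
  exact mul_left_cancel₀ hepos.ne' this

/-- The cost function. -/
def cost (χ : ι) : ℤ :=
  if χ ∈ D.X then (t : ℤ) * ((D.m1 χ : ℤ) - D.δ χ)
  else if χ ∈ D.Y then (t : ℤ) * D.m1 χ + D.ε else (t : ℤ) * D.m1 χ

omit hp in
theorem cost_X {χ : ι} (h : χ ∈ D.X) : cost D χ = (t : ℤ) * ((D.m1 χ : ℤ) - D.δ χ) := by
  unfold cost; rw [if_pos h]

omit hp in
theorem cost_Y {χ : ι} (h : χ ∈ D.Y) : cost D χ = (t : ℤ) * D.m1 χ + D.ε := by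
  unfold cost
  rw [if_neg (fun hX => Finset.disjoint_left.mp D.hdisj hX h), if_pos h]

omit hp in
theorem cost_Z {χ : ι} (h : χ ∈ Zs D) : cost D χ = (t : ℤ) * D.m1 χ := by
  obtain ⟨h1, h2⟩ := (mem_Zs D χ).mp h
  unfold cost
  rw [if_neg h1, if_neg h2]

/-- The cost identity. -/
theorem cost_sum (l : κ) : ∑ χ, (D.c l χ : ℤ) * cost D χ = (t : ℤ) * n := by
  have h3 : (∑ χ, (D.c l χ : ℤ) * D.m1 χ) = n + 1 := by exact_mod_cast D.hI3 l
  have hs := star D hp l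
  rw [sum_split D] at h3 ⊢
  have hX : ∑ χ ∈ D.X, (D.c l χ : ℤ) * cost D χ =
      (t : ℤ) * ∑ χ ∈ D.X, (D.c l χ : ℤ) * D.m1 χ -
        (t : ℤ) * ∑ χ ∈ D.X, (D.c l χ : ℤ) * D.δ χ := by
    rw [Finset.mul_sum, Finset.mul_sum, ← Finset.sum_sub_distrib]
    refine Finset.sum_congr rfl fun χ hχ => ?_
    rw [cost_X D hχ]; ring
  have hY : ∑ χ ∈ D.Y, (D.c l χ : ℤ) * cost D χ =
      (t : ℤ) * ∑ χ ∈ D.Y, (D.c l χ : ℤ) * D.m1 χ + D.ε * ∑ χ ∈ D.Y, (D.c l χ : ℤ) := by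
    rw [Finset.mul_sum, Finset.mul_sum, ← Finset.sum_add_distrib]
    refine Finset.sum_congr rfl fun χ hχ => ?_
    rw [cost_Y D hχ]; ring
  have hZ : ∑ χ ∈ Zs D, (D.c l χ : ℤ) * cost D χ =
      (t : ℤ) * ∑ χ ∈ Zs D, (D.c l χ : ℤ) * D.m1 χ := by
    rw [Finset.mul_sum]
    refine Finset.sum_congr rfl fun χ hχ => ?_
    rw [cost_Z D hχ]; ring
  rw [hX, hY, hZ]
  linear_combination (t : ℤ) * h3 - hs

omit hp in
theorem one_not_mem_Y : D.one ∉ D.Y := fun h => Finset.disjoint_left.mp D.hdisj D.hone h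

theorem m1_pos_of_pos {χ : ι} (hχ : χ ∈ D.X) (hδ : D.δ χ = 1) : 1 ≤ D.m1 χ := by
  have h1 := D.hdegX χ hχ
  have h2 : (0 : ℤ) < D.deg χ := by exact_mod_cast D.hdegpos χ
  rw [hδ] at h1
  have hp2 : (2 : ℤ) ≤ p := by exact_mod_cast hp.two_le
  by_contra hcon
  have h0 : D.m1 χ = 0 := by omega
  rw [h0] at h1
  push_cast at h1
  linarith

theorem m1_ge_two {χ : ι} (hχ : χ ∈ D.X) (hδ : D.δ χ = 1) (hne : χ ≠ D.one) : 2 ≤ D.m1 χ := by
  have h0 := m1_pos_of_pos D hp hχ hδ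
  have h1 := D.hdegX χ hχ
  rw [hδ] at h1
  by_contra hcon
  have h2 : D.m1 χ = 1 := by omega
  rw [h2] at h1
  have h3 : (D.deg χ : ℤ) = 1 := by rw [h1]; push_cast; ring
  have h4 : D.deg χ = 1 := by exact_mod_cast h3
  exact hne (D.hdeg1 χ h4)

theorem m1_Y_pos {θ : ι} (hθ : θ ∈ D.Y) (hε : D.ε = -1) : 1 ≤ D.m1 θ := by
  have h1 := D.hdegY θ hθ
  have h2 : (0 : ℤ) < D.deg θ := by exact_mod_cast D.hdegpos θ
  rw [hε] at h1
  have hepos : (0 : ℤ) < e := by exact_mod_cast e_pos D hp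
  by_contra hcon
  have h0 : D.m1 θ = 0 := by omega
  rw [h0] at h1
  push_cast at h1
  linarith

theorem cost_pos {χ : ι} (hne : χ ≠ D.one) : 1 ≤ cost D χ := by
  have htpos : (1 : ℤ) ≤ t := by exact_mod_cast t_pos D hp
  by_cases hX : χ ∈ D.X
  · rw [cost_X D hX]
    rcases D.hδ χ hX with hδ | hδ
    · have := m1_ge_two D hp hX hδ hne
      have h2 : (2 : ℤ) ≤ D.m1 χ := by exact_mod_cast this
      rw [hδ]
      nlinarith
    · rw [hδ]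
      have h2 : (0 : ℤ) ≤ D.m1 χ := by positivity
      nlinarith
  · by_cases hY : χ ∈ D.Y
    · rw [cost_Y D hY]
      rcases D.hε with hε | hε
      · rw [hε]
        have h2 : (0 : ℤ) ≤ D.m1 χ := by positivity
        nlinarith
      · rw [hε]
        have h1 := m1_Y_pos D hp hY hε
        have h2 : (1 : ℤ) ≤ D.m1 χ := by exact_mod_cast h1
        by_contra hcon
        push Not at hcon
        have h3 : (t : ℤ) * D.m1 χ ≤ 1 := by linarith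
        have h4 : (t : ℤ) = 1 := by nlinarith
        have h5 : (D.m1 χ : ℤ) = 1 := by nlinarith
        have h6 := D.hdegY χ hY
        rw [hε, h5] at h6
        have h7 := p_eq D hp
        rw [h4] at h7
        have h8 : (D.deg χ : ℤ) = 1 := by rw [h6, h7]; ring
        have h9 : D.deg χ = 1 := by exact_mod_cast h8
        exact hne (D.hdeg1 χ h9)
    · have hZ : χ ∈ Zs D := (mem_Zs D χ).mpr ⟨hX, hY⟩
      rw [cost_Z D hZ]
      have h1 := D.hdegZ χ hX hY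
      have h2 := D.hdegpos χ
      have h3 : 1 ≤ D.m1 χ := by
        by_contra hcon
        have h0 : D.m1 χ = 0 := by omega
        rw [h0, mul_zero] at h1
        omega
      have h4 : (1 : ℤ) ≤ D.m1 χ := by exact_mod_cast h3
      nlinarith

theorem cost_one : cost D D.one = 0 := by
  rw [cost_X D D.hone, D.hδone]
  have h1 := D.hdegX D.one D.hone
  rw [D.hδone, D.hdegone] at h1
  have hp2 : (2 : ℤ) ≤ p := by exact_mod_cast hp.two_le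
  have : (D.m1 D.one : ℤ) = 1 := by
    have hp1 : (p : ℤ) * ((D.m1 D.one : ℤ) - 1) = 0 := by push_cast at h1; linarith
    rcases mul_eq_zero.mp hp1 with h | h
    · linarith
    · linarith
  rw [this]; ring

theorem cost_nonneg (χ : ι) : 0 ≤ cost D χ := by
  by_cases h : χ = D.one
  · rw [h, cost_one D hp]
  · have := cost_pos D hp h
    linarith

theorem cost_le (l : κ) (ψ : ι) : (D.c l ψ : ℤ) * cost D ψ ≤ (t : ℤ) * n := by
  rw [← cost_sum D hp l]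
  exact Finset.single_le_sum (f := fun χ => (D.c l χ : ℤ) * cost D χ)
    (fun χ _ => mul_nonneg (by positivity) (cost_nonneg D hp χ)) (Finset.mem_univ ψ)

theorem exclusive (hn1 : 1 ≤ n) (l : κ) (χ0 : ι) (hc : cost D χ0 = (t : ℤ) * n)
    (hne : D.c l χ0 ≠ 0) :
    D.c l χ0 = 1 ∧ ∀ ψ, ψ ≠ χ0 → ψ ≠ D.one → D.c l ψ = 0 := by
  have hs := cost_sum D hp l
  rw [← Finset.add_sum_erase Finset.univ _ (Finset.mem_univ χ0), hc] at hs
  have hnn : 0 ≤ ∑ χ ∈ Finset.univ.erase χ0, (D.c l χ : ℤ) * cost D χ :=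
    Finset.sum_nonneg fun χ _ => mul_nonneg (by positivity) (cost_nonneg D hp χ)
  have htn : (0 : ℤ) < (t : ℤ) * n := by
    have h1 : (1 : ℤ) ≤ t := by exact_mod_cast t_pos D hp
    have h2 : (1 : ℤ) ≤ n := by exact_mod_cast hn1
    nlinarith
  have hc1 : (1 : ℤ) ≤ D.c l χ0 := by
    have : 1 ≤ D.c l χ0 := Nat.one_le_iff_ne_zero.mpr hne
    exact_mod_cast this
  have hc2 : (D.c l χ0 : ℤ) = 1 := by
    by_contra hcon
    have : (2 : ℤ) ≤ D.c l χ0 := by omega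
    nlinarith
  have hzero : ∑ χ ∈ Finset.univ.erase χ0, (D.c l χ : ℤ) * cost D χ = 0 := by
    rw [hc2] at hs; linarith
  refine ⟨by exact_mod_cast hc2, fun ψ hψ hψ1 => ?_⟩
  have h1 := (Finset.sum_eq_zero_iff_of_nonneg
    (fun χ _ => mul_nonneg (by positivity) (cost_nonneg D hp χ))).mp hzero ψ
    (Finset.mem_erase.mpr ⟨hψ, Finset.mem_univ ψ⟩)
  have h2 := cost_pos D hp hψ1
  rcases mul_eq_zero.mp h1 with h | h
  · exact_mod_cast h
  · omega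

/-- The non-exceptional characters of positive sign other than the trivial one. -/
def Xp : Finset ι := D.X.filter (fun χ => χ ≠ D.one ∧ D.δ χ = 1)

/-- The non-exceptional characters of negative sign. -/
def Xm : Finset ι := D.X.filter (fun χ => D.δ χ = -1)

omit hp in
theorem mem_Xp {χ : ι} : χ ∈ Xp D ↔ χ ∈ D.X ∧ χ ≠ D.one ∧ D.δ χ = 1 := by
  simp [Xp]

omit hp in
theorem mem_Xm {χ : ι} : χ ∈ Xm D ↔ χ ∈ D.X ∧ D.δ χ = -1 := by
  simp [Xm]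

omit hp in
theorem sumX_split {A : Type*} [AddCommMonoid A] (f : ι → A) :
    ∑ χ ∈ D.X, f χ = f D.one + ∑ χ ∈ Xp D, f χ + ∑ χ ∈ Xm D, f χ := by
  rw [← Finset.sum_filter_add_sum_filter_not D.X (fun χ => D.δ χ = -1) f]
  have h1 : D.X.filter (fun χ => ¬ D.δ χ = -1) = insert D.one (Xp D) := by
    ext χ
    simp only [Finset.mem_filter, Finset.mem_insert, mem_Xp]
    constructor
    · rintro ⟨hX, hδ⟩
      by_cases h : χ = D.one
      · exact Or.inl h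
      · right
        rcases D.hδ χ hX with h1 | h1
        · exact ⟨hX, h, h1⟩
        · exact absurd h1 hδ
    · rintro (h | ⟨hX, -, hδ⟩)
      · rw [h]
        refine ⟨D.hone, ?_⟩
        rw [D.hδone]; norm_num
      · refine ⟨hX, ?_⟩
        rw [hδ]; norm_num
  have h2 : D.one ∉ Xp D := fun h => ((mem_Xp D).mp h).2.1 rfl
  rw [h1, Finset.sum_insert h2]
  show ∑ χ ∈ Xm D, f χ + (f D.one + ∑ χ ∈ Xp D, f χ) = _
  rw [add_comm]

theorem deg_Xp {χ : ι} (hχ : χ ∈ Xp D) : D.deg χ = (D.m1 χ - 1) * p + 1 := by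
  obtain ⟨hX, hne, hδ⟩ := (mem_Xp D).mp hχ
  have h2 := m1_ge_two D hp hX hδ hne
  have h1 := D.hdegX χ hX
  rw [hδ] at h1
  have : (D.deg χ : ℤ) = (((D.m1 χ - 1) * p + 1 : ℕ) : ℤ) := by
    rw [h1]
    push_cast [Nat.cast_sub (by omega : 1 ≤ D.m1 χ)]
    ring
  exact_mod_cast this

theorem m1_Xp (hnp : 2 * n ≤ p + 1) {χ : ι} (hχ : χ ∈ Xp D) : D.m1 χ = n + 1 := by
  obtain ⟨hX, hne, hδ⟩ := (mem_Xp D).mp hχ
  have h2 := m1_ge_two D hp hX hδ hne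
  have h3 := D.hdvd χ (Or.inl hX)
  rw [deg_Xp D hp hχ] at h3
  have := arith_A1 hp D.het hnp (by omega : 1 ≤ D.m1 χ - 1) h3
  omega

theorem cost_Xp (hnp : 2 * n ≤ p + 1) {χ : ι} (hχ : χ ∈ Xp D) : cost D χ = (t : ℤ) * n := by
  obtain ⟨hX, hne, hδ⟩ := (mem_Xp D).mp hχ
  rw [cost_X D hX, hδ, m1_Xp D hp hnp hχ]
  push_cast; ring

theorem deg_Xm {χ : ι} (hχ : χ ∈ Xm D) : D.deg χ = (D.m1 χ + 1) * p - 1 := by
  obtain ⟨hX, hδ⟩ := (mem_Xm D).mp hχ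
  have h1 := D.hdegX χ hX
  rw [hδ] at h1
  have hp1 := hp.one_le
  have : (D.deg χ : ℤ) = (((D.m1 χ + 1) * p - 1 : ℕ) : ℤ) := by
    rw [h1, Nat.cast_sub (by nlinarith)]
    push_cast
    ring
  exact_mod_cast this

theorem m1_Xm (hnp : 2 * n ≤ p + 1) {χ : ι} (hχ : χ ∈ Xm D) : D.m1 χ = 0 := by
  obtain ⟨hX, hδ⟩ := (mem_Xm D).mp hχ
  by_contra hcon
  have hI1 := D.hI1 χ
  have hne : ∑ l, D.c l χ ≠ 0 := by rw [hI1]; exact hcon
  obtain ⟨l, -, hl⟩ := Finset.exists_ne_zero_of_sum_ne_zero hne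
  have h1 := cost_le D hp l χ
  rw [cost_X D hX, hδ] at h1
  have hc1 : (1 : ℤ) ≤ D.c l χ := by
    have : 1 ≤ D.c l χ := Nat.one_le_iff_ne_zero.mpr hl
    exact_mod_cast this
  have htpos : (1 : ℤ) ≤ t := by exact_mod_cast t_pos D hp
  have hm : (0 : ℤ) ≤ D.m1 χ := by positivity
  have h2 : (t : ℤ) * ((D.m1 χ : ℤ) + 1) ≤ (t : ℤ) * n := by
    have : (t : ℤ) * ((D.m1 χ : ℤ) - -1) ≤ (D.c l χ : ℤ) * ((t : ℤ) * ((D.m1 χ : ℤ) - -1)) := by
      have h0 : 0 ≤ (t : ℤ) * ((D.m1 χ : ℤ) - -1) := by nlinarith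
      nlinarith
    linarith
  have h3 : (D.m1 χ : ℤ) + 1 ≤ n := le_of_mul_le_mul_left h2 (by linarith)
  have h4 : D.m1 χ + 1 ≤ n := by exact_mod_cast h3
  have h5 := D.hdvd χ (Or.inl hX)
  rw [deg_Xm D hp hχ] at h5
  exact arith_A2 hp D.het hnp (by omega : 2 ≤ D.m1 χ + 1) h4 h5

theorem c_Xm (hnp : 2 * n ≤ p + 1) (l : κ) {χ : ι} (hχ : χ ∈ Xm D) : D.c l χ = 0 := by
  have h1 := D.hI1 χ
  rw [m1_Xm D hp hnp hχ] at h1
  exact (Finset.sum_eq_zero_iff.mp h1) l (Finset.mem_univ l)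

/-- The multiplicity of `Ψ_l` on `X⁺`. -/
def gg (l : κ) : ℕ := ∑ χ ∈ Xp D, D.c l χ

/-- The multiplicity of `Ψ_l` on `Y`. -/
def CY (l : κ) : ℕ := ∑ θ ∈ D.Y, D.c l θ

theorem star' (hnp : 2 * n ≤ p + 1) (l : κ) :
    (t : ℤ) * ((D.c l D.one : ℤ) + gg D l) - D.ε * CY D l = t := by
  have h := star D hp l
  rw [sumX_split D, D.hδone] at h
  have h1 : ∑ χ ∈ Xp D, (D.c l χ : ℤ) * D.δ χ = (gg D l : ℤ) := by
    unfold gg
    push_cast
    refine Finset.sum_congr rfl fun χ hχ => ?_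
    rw [((mem_Xp D).mp hχ).2.2, mul_one]
  have h2 : ∑ χ ∈ Xm D, (D.c l χ : ℤ) * D.δ χ = 0 := by
    refine Finset.sum_eq_zero fun χ hχ => ?_
    rw [c_Xm D hp hnp l hχ]; simp
  rw [h1, h2] at h
  unfold CY
  push_cast
  linarith

omit hp in
theorem Y_ne_X {θ χ : ι} (hθ : θ ∈ D.Y) (hχ : χ ∈ D.X) : θ ≠ χ := by
  rintro rfl
  exact Finset.disjoint_left.mp D.hdisj hχ hθ

omit hp in
theorem Z_ne_X {ψ χ : ι} (hψ : ψ ∈ Zs D) (hχ : χ ∈ D.X) : ψ ≠ χ := by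
  rintro rfl
  exact ((mem_Zs D ψ).mp hψ).1 hχ

/-- If `Ψ_l` has a constituent in `X⁺`, it is irreducible. -/
theorem of_gg_ne_zero (hn1 : 1 ≤ n) (hnp : 2 * n ≤ p + 1) (l : κ) (hg : gg D l ≠ 0) :
    gg D l = 1 ∧ CY D l = 0 ∧ ∀ χ ∈ Zs D, D.c l χ = 0 := by
  unfold gg at hg
  obtain ⟨χ0, hχ0, hne⟩ := Finset.exists_ne_zero_of_sum_ne_zero hg
  have hX0 := ((mem_Xp D).mp hχ0).1
  obtain ⟨h1, h2⟩ := exclusive D hp hn1 l χ0 (cost_Xp D hp hnp hχ0) hne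
  refine ⟨?_, ?_, ?_⟩
  · unfold gg
    rw [Finset.sum_eq_single χ0, h1]
    · intro ψ hψ hne'
      exact h2 ψ hne' ((mem_Xp D).mp hψ).2.1
    · intro h; exact absurd hχ0 h
  · unfold CY
    refine Finset.sum_eq_zero fun θ hθ => ?_
    exact h2 θ (Y_ne_X D hθ hX0) (Y_ne_X D hθ D.hone)
  · intro χ hχ
    exact h2 χ (Z_ne_X D hχ hX0) (Z_ne_X D hχ D.hone)

theorem gg_k1 (hn1 : 1 ≤ n) (hnp : 2 * n ≤ p + 1) : gg D D.k1 = 0 ∧ CY D D.k1 = 0 := by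
  have h := star' D hp hnp D.k1
  rw [D.hI4 D.k1, if_pos rfl] at h
  have htpos : (1 : ℤ) ≤ t := by exact_mod_cast t_pos D hp
  have hg : gg D D.k1 = 0 := by
    by_contra hcon
    obtain ⟨h1, h2, -⟩ := of_gg_ne_zero D hp hn1 hnp D.k1 hcon
    rw [h1, h2] at h
    push_cast at h
    linarith
  refine ⟨hg, ?_⟩
  rw [hg] at h
  push_cast at h
  have h3 : D.ε * (CY D D.k1 : ℤ) = 0 := by linarith
  rcases mul_eq_zero.mp h3 with h4 | h4
  · rcases D.hε with h5 | h5 <;> rw [h5] at h4 <;> norm_num at h4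
  · exact_mod_cast h4

theorem dichotomy (hn1 : 1 ≤ n) (hnp : 2 * n ≤ p + 1) (l : κ) (hl : l ≠ D.k1) :
    (gg D l = 1 ∧ CY D l = 0 ∧ ∀ χ ∈ Zs D, D.c l χ = 0) ∨
      (gg D l = 0 ∧ D.ε = -1 ∧ CY D l = t) := by
  have h := star' D hp hnp l
  rw [D.hI4 l, if_neg hl] at h
  have htpos : (1 : ℤ) ≤ t := by exact_mod_cast t_pos D hp
  by_cases hg : gg D l = 0
  · right
    rw [hg] at h
    push_cast at h
    have hCY : (0 : ℤ) ≤ CY D l := by positivity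
    rcases D.hε with h5 | h5
    · rw [h5] at h; linarith
    · rw [h5] at h
      refine ⟨hg, h5, ?_⟩
      have : (CY D l : ℤ) = t := by linarith
      exact_mod_cast this
  · left
    exact of_gg_ne_zero D hp hn1 hnp l hg

theorem sum_gg (hnp : 2 * n ≤ p + 1) : ∑ l, gg D l = (Xp D).card * (n + 1) := by
  unfold gg
  rw [Finset.sum_comm]
  rw [Finset.sum_congr rfl (fun χ hχ => by rw [D.hI1 χ, m1_Xp D hp hnp hχ])]
  rw [Finset.sum_const, smul_eq_mul]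

omit hp in
theorem sum_CY : ∑ l, CY D l = ∑ θ ∈ D.Y, D.m1 θ := by
  unfold CY
  rw [Finset.sum_comm]
  exact Finset.sum_congr rfl fun χ _ => D.hI1 χ

omit hp in
theorem m1_Y_eq {θ θ' : ι} (hθ : θ ∈ D.Y) (hθ' : θ' ∈ D.Y) (hp0 : p ≠ 0) : D.m1 θ = D.m1 θ' := by
  have h1 := D.hdegY θ hθ
  have h2 := D.hdegY θ' hθ'
  have h3 := D.hdegYeq θ hθ θ' hθ'
  rw [h3] at h1
  have h4 : (p : ℤ) * D.m1 θ = (p : ℤ) * D.m1 θ' := by linarith
  have hp' : (p : ℤ) ≠ 0 := by exact_mod_cast hp0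
  exact_mod_cast mul_left_cancel₀ hp' h4

omit hp in
theorem deg_Y_neg {θ : ι} (hθ : θ ∈ D.Y) (hε : D.ε = -1) :
    e < D.m1 θ * p ∧ D.deg θ = D.m1 θ * p - e := by
  have h1 := D.hdegY θ hθ
  have h2 : (0 : ℤ) < D.deg θ := by exact_mod_cast D.hdegpos θ
  rw [hε] at h1
  have h3 : (e : ℤ) < (D.m1 θ : ℤ) * p := by linarith
  have h4 : e < D.m1 θ * p := by exact_mod_cast h3
  refine ⟨h4, ?_⟩
  have : (D.deg θ : ℤ) = ((D.m1 θ * p - e : ℕ) : ℤ) := by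
    rw [h1, Nat.cast_sub h4.le]
    push_cast
    ring
  exact_mod_cast this

theorem eps_neg_a0 (hnp : 2 * n ≤ p + 1) (hε : D.ε = -1) {θ : ι} (hθ : θ ∈ D.Y) :
    t * D.m1 θ = n + 1 := by
  obtain ⟨h1, h2⟩ := deg_Y_neg D hθ hε
  have h3 := D.hdvd θ (Or.inr hθ)
  rw [h2] at h3
  have hm := m1_Y_pos D hp hθ hε
  have ht := t_pos D hp
  by_cases ht2 : 2 ≤ t
  · exact (arith_A3 hp D.het hnp ht2 hm h1 h3).symm
  · have ht1 : t = 1 := by omega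
    have het := D.het
    rw [ht1, mul_one] at het
    have hp2 := hp.two_le
    -- deg = (m1 - 1) * p + 1
    have hdeg : D.deg θ = (D.m1 θ - 1) * p + 1 := by
      rw [h2]
      have : D.m1 θ * p = (D.m1 θ - 1) * p + p := by
        rw [← Nat.succ_mul]
        congr 1
        omega
      rw [this]
      omega
    have hne : θ ≠ D.one := Y_ne_X D hθ D.hone
    have hm2 : 2 ≤ D.m1 θ := by
      by_contra hcon
      have h5 : D.m1 θ = 1 := by omega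
      rw [h5] at hdeg
      simp at hdeg
      exact hne (D.hdeg1 θ hdeg)
    rw [← h2, hdeg] at h3
    have := arith_A1 hp D.het hnp (by omega : 1 ≤ D.m1 θ - 1) h3
    have h6 : t * D.m1 θ = 1 * D.m1 θ := congrArg (· * D.m1 θ) ht1
    omega

/-- The contribution of the characters of defect zero. -/
def DZ (l : κ) : ℕ := ∑ χ ∈ Zs D, D.c l χ * D.m1 χ

theorem cost_sum' (hnp : 2 * n ≤ p + 1) (l : κ) (a0 : ℕ) (ha0 : ∀ θ ∈ D.Y, D.m1 θ = a0) :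
    (t : ℤ) * n * gg D l + ((t : ℤ) * a0 + D.ε) * CY D l + (t : ℤ) * DZ D l = (t : ℤ) * n := by
  have h := cost_sum D hp l
  rw [sum_split D, sumX_split D, cost_one D hp, mul_zero, zero_add] at h
  have h1 : ∑ χ ∈ Xp D, (D.c l χ : ℤ) * cost D χ = (t : ℤ) * n * gg D l := by
    unfold gg
    push_cast
    rw [Finset.mul_sum]
    refine Finset.sum_congr rfl fun χ hχ => ?_
    rw [cost_Xp D hp hnp hχ]; ring
  have h2 : ∑ χ ∈ Xm D, (D.c l χ : ℤ) * cost D χ = 0 := by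
    refine Finset.sum_eq_zero fun χ hχ => ?_
    rw [c_Xm D hp hnp l hχ]; simp
  have h3 : ∑ χ ∈ D.Y, (D.c l χ : ℤ) * cost D χ = ((t : ℤ) * a0 + D.ε) * CY D l := by
    unfold CY
    push_cast
    rw [Finset.mul_sum]
    refine Finset.sum_congr rfl fun χ hχ => ?_
    rw [cost_Y D hχ, ha0 χ hχ]; ring
  have h4 : ∑ χ ∈ Zs D, (D.c l χ : ℤ) * cost D χ = (t : ℤ) * DZ D l := by
    unfold DZ
    push_cast
    rw [Finset.mul_sum]
    refine Finset.sum_congr rfl fun χ hχ => ?_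
    rw [cost_Z D hχ]; ring
  rw [h1, h2, h3, h4] at h
  linarith

omit hp in
theorem exists_a0 (hp0 : p ≠ 0) : ∃ a0 : ℕ, ∀ θ ∈ D.Y, D.m1 θ = a0 := by
  by_cases h : D.Y.Nonempty
  · obtain ⟨θ0, hθ0⟩ := h
    exact ⟨D.m1 θ0, fun θ hθ => m1_Y_eq D hθ hθ0 hp0⟩
  · rw [Finset.not_nonempty_iff_eq_empty] at h
    exact ⟨0, fun θ hθ => by rw [h] at hθ; simp at hθ⟩

theorem Y_nonempty : D.Y.Nonempty := by
  rw [← Finset.card_pos, D.hYcard]
  exact t_pos D hp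

theorem DZ_k1 (hn1 : 1 ≤ n) (hnp : 2 * n ≤ p + 1) : DZ D D.k1 = n := by
  obtain ⟨a0, ha0⟩ := exists_a0 D hp.ne_zero
  have h := cost_sum' D hp hnp D.k1 a0 ha0
  obtain ⟨h1, h2⟩ := gg_k1 D hp hn1 hnp
  rw [h1, h2] at h
  push_cast at h
  have htpos : (0 : ℤ) < t := by exact_mod_cast t_pos D hp
  have : (t : ℤ) * DZ D D.k1 = (t : ℤ) * n := by linarith
  exact_mod_cast mul_left_cancel₀ htpos.ne' this

theorem DZ_eq_zero (hn1 : 1 ≤ n) (hnp : 2 * n ≤ p + 1) (l : κ) (hl : l ≠ D.k1) : DZ D l = 0 := by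
  rcases dichotomy D hp hn1 hnp l hl with ⟨-, -, h3⟩ | ⟨h1, h2, h3⟩
  · unfold DZ
    refine Finset.sum_eq_zero fun χ hχ => ?_
    rw [h3 χ hχ, zero_mul]
  · obtain ⟨a0, ha0⟩ := exists_a0 D hp.ne_zero
    have h := cost_sum' D hp hnp l a0 ha0
    obtain ⟨θ, hθ⟩ := Y_nonempty D hp
    have h4 := eps_neg_a0 D hp hnp h2 hθ
    rw [ha0 θ hθ] at h4
    rw [h1, h2, h3] at h
    push_cast at h
    have h5 : (t : ℤ) * a0 = n + 1 := by exact_mod_cast h4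
    have htpos : (0 : ℤ) < t := by exact_mod_cast t_pos D hp
    rw [h5] at h
    have : (t : ℤ) * DZ D l = (t : ℤ) * 0 := by linarith
    exact_mod_cast mul_left_cancel₀ htpos.ne' this

omit hp in
theorem m1_Z_pos {χ : ι} (hχ : χ ∈ Zs D) : 1 ≤ D.m1 χ := by
  obtain ⟨hX, hY⟩ := (mem_Zs D χ).mp hχ
  have h1 := D.hdegZ χ hX hY
  have h2 := D.hdegpos χ
  by_contra hcon
  have h0 : D.m1 χ = 0 := by omega
  rw [h0, mul_zero] at h1
  omega

theorem c_Z (hn1 : 1 ≤ n) (hnp : 2 * n ≤ p + 1) (l : κ) (hl : l ≠ D.k1) {χ : ι}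
    (hχ : χ ∈ Zs D) : D.c l χ = 0 := by
  have h := DZ_eq_zero D hp hn1 hnp l hl
  unfold DZ at h
  have h1 := (Finset.sum_eq_zero_iff.mp h) χ hχ
  have h2 := m1_Z_pos D hχ
  rcases Nat.mul_eq_zero.mp h1 with h3 | h3
  · exact h3
  · omega

theorem c_k1_Z (hn1 : 1 ≤ n) (hnp : 2 * n ≤ p + 1) {χ : ι} (hχ : χ ∈ Zs D) :
    D.c D.k1 χ = D.m1 χ := by
  rw [← D.hI1 χ]
  symm
  refine Finset.sum_eq_single D.k1 (fun l _ hl => c_Z D hp hn1 hnp l hl hχ) ?_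
  intro h; exact absurd (Finset.mem_univ _) h

theorem rank (hn1 : 1 ≤ n) (hnp : 2 * n ≤ p + 1) : ∑ χ, (D.c D.k1 χ) ^ 2 = n + 1 := by
  obtain ⟨h1, h2⟩ := gg_k1 D hp hn1 hnp
  rw [sum_split D, sumX_split D, D.hI4 D.k1, if_pos rfl]
  have hXp : ∑ χ ∈ Xp D, (D.c D.k1 χ) ^ 2 = 0 := by
    refine Finset.sum_eq_zero fun χ hχ => ?_
    unfold gg at h1
    rw [(Finset.sum_eq_zero_iff.mp h1) χ hχ]; rfl
  have hXm : ∑ χ ∈ Xm D, (D.c D.k1 χ) ^ 2 = 0 := by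
    refine Finset.sum_eq_zero fun χ hχ => ?_
    rw [c_Xm D hp hnp D.k1 hχ]; rfl
  have hY : ∑ χ ∈ D.Y, (D.c D.k1 χ) ^ 2 = 0 := by
    refine Finset.sum_eq_zero fun χ hχ => ?_
    unfold CY at h2
    rw [(Finset.sum_eq_zero_iff.mp h2) χ hχ]; rfl
  have hZ : ∑ χ ∈ Zs D, (D.c D.k1 χ) ^ 2 = n := by
    refine Eq.trans ?_ (DZ_k1 D hp hn1 hnp)
    unfold DZ
    refine Finset.sum_congr rfl fun χ hχ => ?_
    rw [c_k1_Z D hp hn1 hnp hχ]; ring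
  rw [hXp, hXm, hY, hZ]
  ring

omit hp in
theorem card_X : D.X.card = 1 + (Xp D).card + (Xm D).card := by
  have := sumX_split D (fun _ => (1 : ℕ))
  simpa using this

omit hp in
theorem sum_ne_k1 (f : κ → ℕ) (h0 : f D.k1 = 0) (c : ℕ) (h : ∀ l, l ≠ D.k1 → f l = c) :
    ∑ l, f l = (e - 1) * c := by
  rw [← Finset.add_sum_erase Finset.univ f (Finset.mem_univ D.k1), h0, zero_add]
  rw [Finset.sum_congr rfl (fun l hl => h l (Finset.ne_of_mem_erase hl)), Finset.sum_const,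
    Finset.card_erase_of_mem (Finset.mem_univ _), Finset.card_univ, D.hκ, smul_eq_mul]

theorem caseA (hn1 : 1 ≤ n) (hnp : 2 * n ≤ p + 1) (hε : D.ε = 1) :
    (n + 1) ∣ e - 1 ∧ ∀ θ ∈ D.Y, D.deg θ = e ∧ D.m1 θ = 0 := by
  have hd : ∀ l, l ≠ D.k1 → gg D l = 1 ∧ CY D l = 0 := by
    intro l hl
    rcases dichotomy D hp hn1 hnp l hl with ⟨h1, h2, -⟩ | ⟨-, h2, -⟩
    · exact ⟨h1, h2⟩
    · rw [hε] at h2; norm_num at h2
  obtain ⟨hg1, hc1⟩ := gg_k1 D hp hn1 hnp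
  constructor
  · have h1 := sum_ne_k1 D (gg D) hg1 1 (fun l hl => (hd l hl).1)
    rw [sum_gg D hp hnp, mul_one] at h1
    exact ⟨(Xp D).card, by rw [← h1]; ring⟩
  · have hCY : ∀ l, CY D l = 0 := by
      intro l
      by_cases hl : l = D.k1
      · rw [hl]; exact hc1
      · exact (hd l hl).2
    have h1 : ∑ θ ∈ D.Y, D.m1 θ = 0 := by
      rw [← sum_CY D]
      exact Finset.sum_eq_zero fun l _ => hCY l
    intro θ hθ
    have hm : D.m1 θ = 0 := (Finset.sum_eq_zero_iff.mp h1) θ hθ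
    refine ⟨?_, hm⟩
    have h2 := D.hdegY θ hθ
    rw [hε, hm] at h2
    have : (D.deg θ : ℤ) = e := by rw [h2]; push_cast; ring
    exact_mod_cast this

/-- The counting identity in the case `ε = -1`. -/
theorem caseNeg (hn1 : 1 ≤ n) (hnp : 2 * n ≤ p + 1) (hε : D.ε = -1) (a0 : ℕ)
    (ha0 : ∀ θ ∈ D.Y, D.m1 θ = a0) :
    t * a0 = n + 1 ∧ (Xp D).card * (n + 1) + a0 = e - 1 ∧
      (Finset.univ.filter (fun l : κ => l ≠ D.k1 ∧ ∃ θ ∈ D.Y, D.c l θ ≠ 0)).card = a0 := by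
  obtain ⟨θ0, hθ0⟩ := Y_nonempty D hp
  have hta := eps_neg_a0 D hp hnp hε hθ0
  rw [ha0 θ0 hθ0] at hta
  have htpos := t_pos D hp
  obtain ⟨hg1, hc1⟩ := gg_k1 D hp hn1 hnp
  have hd : ∀ l, l ≠ D.k1 → t * gg D l + CY D l = t := by
    intro l hl
    rcases dichotomy D hp hn1 hnp l hl with ⟨h1, h2, -⟩ | ⟨h1, -, h3⟩
    · rw [h1, h2]; ring
    · rw [h1, h3]; ring
  have h1 := sum_ne_k1 D (fun l => t * gg D l + CY D l) (by simp [hg1, hc1]) t hd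
  rw [Finset.sum_add_distrib, ← Finset.mul_sum, sum_gg D hp hnp, sum_CY D,
    Finset.sum_congr rfl ha0, Finset.sum_const, D.hYcard, smul_eq_mul] at h1
  have h2 : t * ((Xp D).card * (n + 1) + a0) = t * (e - 1) := by
    rw [mul_add, h1]; ring
  have h3 := Nat.eq_of_mul_eq_mul_left htpos h2
  refine ⟨hta, h3, ?_⟩
  -- the count
  have hCYval : ∀ l, l ≠ D.k1 → (CY D l = 0 ∨ CY D l = t) := by
    intro l hl
    rcases dichotomy D hp hn1 hnp l hl with ⟨-, h2, -⟩ | ⟨-, -, h3⟩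
    · exact Or.inl h2
    · exact Or.inr h3
  have hfilt : Finset.univ.filter (fun l : κ => l ≠ D.k1 ∧ ∃ θ ∈ D.Y, D.c l θ ≠ 0) =
      Finset.univ.filter (fun l : κ => CY D l ≠ 0) := by
    ext l
    simp only [Finset.mem_filter, Finset.mem_univ, true_and]
    constructor
    · rintro ⟨-, θ, hθ, hne⟩
      unfold CY
      intro h0
      exact hne ((Finset.sum_eq_zero_iff.mp h0) θ hθ)
    · intro hne
      refine ⟨fun hl => hne (by rw [hl]; exact hc1), ?_⟩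
      unfold CY at hne
      obtain ⟨θ, hθ, h⟩ := Finset.exists_ne_zero_of_sum_ne_zero hne
      exact ⟨θ, hθ, h⟩
  rw [hfilt]
  have h4 : ∑ l, CY D l = t * (Finset.univ.filter (fun l : κ => CY D l ≠ 0)).card := by
    rw [← Finset.sum_filter_ne_zero, Finset.sum_congr rfl (g := fun _ => t), Finset.sum_const,
      smul_eq_mul, mul_comm]
    intro l hl
    have hne := (Finset.mem_filter.mp hl).2
    have hlk : l ≠ D.k1 := fun h => hne (by rw [h]; exact hc1)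
    rcases hCYval l hlk with h | h
    · exact absurd h hne
    · exact h
  rw [sum_CY D, Finset.sum_congr rfl ha0, Finset.sum_const, D.hYcard, smul_eq_mul] at h4
  exact (Nat.eq_of_mul_eq_mul_left htpos h4).symm

theorem sum_deg_Z (hn1 : 1 ≤ n) (hnp : 2 * n ≤ p + 1) : ∑ χ ∈ Zs D, D.deg χ ≤ p * n := by
  have h1 : ∑ χ ∈ Zs D, D.deg χ = p * ∑ χ ∈ Zs D, D.m1 χ := by
    rw [Finset.mul_sum]
    refine Finset.sum_congr rfl fun χ hχ => ?_
    obtain ⟨hX, hY⟩ := (mem_Zs D χ).mp hχ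
    exact D.hdegZ χ hX hY
  rw [h1]
  refine Nat.mul_le_mul_left p ?_
  refine le_trans ?_ (le_of_eq (DZ_k1 D hp hn1 hnp))
  unfold DZ
  refine Finset.sum_le_sum fun χ hχ => ?_
  rw [c_k1_Z D hp hn1 hnp hχ]
  have := m1_Z_pos D hχ
  nlinarith

end

/-- Shape B: the case `ε = -1`, `t ≥ 2`. -/
def ShapeB (D : BData p e t n ι κ) : Prop :=
  ∃ a0 s : ℕ, 1 ≤ a0 ∧ n + 1 = t * a0 ∧ e = a0 * (s * t + 1) + 1 ∧
    (∀ θ ∈ D.Y, D.m1 θ = a0 ∧ D.deg θ + e = a0 * p) ∧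
    (∀ χ ∈ D.X, χ ≠ D.one → D.δ χ = 1 → D.deg χ = 1 + n * p) ∧
    (∀ χ ∈ D.X, D.δ χ = -1 → D.deg χ = p - 1) ∧
    (D.X.filter (fun χ => D.δ χ = -1)).card = e - 1 - s ∧
    (∑ χ, D.deg χ ≤ 1 + s * (1 + n * p) + (e - 1 - s) * (p - 1) + t * (a0 * p - e) + p * n) ∧
    (Finset.univ.filter (fun l : κ => l ≠ D.k1 ∧ ∃ θ ∈ D.Y, D.c l θ ≠ 0)).card = a0

theorem shapeB (hp : p.Prime) (hn1 : 1 ≤ n) (hnp : 2 * n ≤ p + 1) (D : BData p e t n ι κ)
    (hε : D.ε = -1) : ShapeB D := by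
  obtain ⟨a0, ha0⟩ := exists_a0 D hp.ne_zero
  obtain ⟨h1, h2, h3⟩ := caseNeg D hp hn1 hnp hε a0 ha0
  obtain ⟨θ0, hθ0⟩ := Y_nonempty D hp
  have ha1 : 1 ≤ a0 := by rw [← ha0 θ0 hθ0]; exact m1_Y_pos D hp hθ0 hε
  have hepos := e_pos D hp
  have hXp : ∀ χ ∈ Xp D, D.deg χ = 1 + n * p := by
    intro χ hχ
    rw [deg_Xp D hp hχ, m1_Xp D hp hnp hχ]
    simp only [Nat.add_sub_cancel]
    ring
  have hXm : ∀ χ ∈ Xm D, D.deg χ = p - 1 := by
    intro χ hχ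
    rw [deg_Xm D hp hχ, m1_Xm D hp hnp hχ]
    simp
  have hYd : ∀ θ ∈ D.Y, D.deg θ = a0 * p - e ∧ e < a0 * p := by
    intro θ hθ
    obtain ⟨h4, h5⟩ := deg_Y_neg D hθ hε
    rw [ha0 θ hθ] at h4 h5
    exact ⟨h5, h4⟩
  have hcard := card_X D
  rw [D.hXcard] at hcard
  refine ⟨a0, (Xp D).card, ha1, h1.symm, ?_, ?_, ?_, ?_, ?_, ?_, h3⟩
  · have : e - 1 = (Xp D).card * (t * a0) + a0 := by rw [h1]; exact h2.symm
    have h5 : e = (Xp D).card * (t * a0) + a0 + 1 := by omega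
    refine h5.trans ?_
    ring
  · intro θ hθ
    obtain ⟨h4, h5⟩ := hYd θ hθ
    exact ⟨ha0 θ hθ, by omega⟩
  · intro χ hχ hne hδ
    exact hXp χ ((mem_Xp D).mpr ⟨hχ, hne, hδ⟩)
  · intro χ hχ hδ
    exact hXm χ ((mem_Xm D).mpr ⟨hχ, hδ⟩)
  · show (Xm D).card = _
    omega
  · rw [sum_split D, sumX_split D, D.hdegone, Finset.sum_congr rfl hXp, Finset.sum_const,
      Finset.sum_congr rfl hXm, Finset.sum_const,
      Finset.sum_congr rfl (fun θ hθ => (hYd θ hθ).1), Finset.sum_const, D.hYcard]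
    have h6 := sum_deg_Z D hp hn1 hnp
    have h7 : (Xm D).card = e - 1 - (Xp D).card := by omega
    rw [h7]
    simp only [smul_eq_mul]
    omega

theorem shape (hp : p.Prime) (hn1 : 1 ≤ n) (hnp : 2 * n ≤ p + 1)
    (D : BData p e t n ι κ) :
    (∑ χ, (D.c D.k1 χ) ^ 2 = n + 1) ∧
    ((D.ε = 1 ∧ (n + 1) ∣ e - 1 ∧ ∀ θ ∈ D.Y, D.deg θ = e ∧ D.m1 θ = 0) ∨
     (D.ε = -1 ∧ t = 1 ∧ (n + 1) ∣ p - 2) ∨
     (D.ε = -1 ∧ 2 ≤ t ∧ ShapeB D)) := by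
  refine ⟨rank D hp hn1 hnp, ?_⟩
  rcases D.hε with hε | hε
  · left
    exact ⟨hε, caseA D hp hn1 hnp hε⟩
  · right
    by_cases ht : 2 ≤ t
    · right
      exact ⟨hε, ht, shapeB hp hn1 hnp D hε⟩
    · left
      have ht1 : t = 1 := by have := t_pos D hp; omega
      refine ⟨hε, ht1, ?_⟩
      obtain ⟨a0, ha0⟩ := exists_a0 D hp.ne_zero
      obtain ⟨h1, h2, -⟩ := caseNeg D hp hn1 hnp hε a0 ha0
      have het := D.het
      rw [ht1] at h1 het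
      rw [one_mul] at h1
      rw [mul_one] at het
      refine ⟨(Xp D).card + 1, ?_⟩
      have : p - 2 = e - 1 := by omega
      rw [this, ← h2, h1]; ring

end Cfsg.Agent.Lib.Helper16_B43Arith
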