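import Mathlib
import Cfsg.Prelude.Def_Characters
import Cfsg.Prelude.Def_Blocks
import Cfsg.Agent.Lib.Helper3_CharComplete
import Cfsg.Agent.Lib.Helper80_CharBasic
import Cfsg.Agent.Lib.Helper16_BrauerSetup
import Cfsg.Agent.Lib.Helper16_BrauerGal
import Cfsg.Agent.Lib.Helper16_BrauerMain

/-!
# S0996, package CONJ (helper23): the complex conjugate of an exceptional character of the
principal block is again exceptional.
-/

set_option autoImplicit false

namespace Cfsg.Agent.Lib.Helper23_B43_CONJ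

open Cfsg Cfsg.Agent.Lib.Helper3_CharComplete Cfsg.Agent.Lib.Helper80_CharBasic
  Cfsg.Agent.Lib.Helper16_BrauerSetup Cfsg.Agent.Lib.Helper16_BrauerGal
  Cfsg.Agent.Lib.Helper16_BrauerMain
open scoped ComplexConjugate

/-- `g ^ (|G| - 1) = g⁻¹`. -/
theorem pow_card_sub_one {G : Type*} [Group G] [Finite G] (g : G) :
    g ^ (Nat.card G - 1) = g⁻¹ := by
  have hpos : 0 < Nat.card G := Nat.card_pos
  apply eq_inv_of_mul_eq_one_left
  rw [← pow_succ, Nat.sub_add_cancel hpos]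
  exact pow_card_eq_one'

theorem coprime_card_sub_one (G : Type*) [Group G] [Finite G] :
    (Nat.card G - 1).Coprime (Nat.card G) := by
  have hpos : 0 < Nat.card G := Nat.card_pos
  obtain ⟨m, hm⟩ := Nat.exists_eq_succ_of_ne_zero hpos.ne'
  rw [hm]
  simp

theorem sq_card_sub_one (G : Type*) [Group G] [Finite G] :
    (Nat.card G - 1) * (Nat.card G - 1) ≡ 1 [MOD Nat.card G] := by
  have hpos : 0 < Nat.card G := Nat.card_pos
  obtain ⟨m, hm⟩ := Nat.exists_eq_succ_of_ne_zero hpos.ne'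
  rw [hm]
  rw [Nat.modEq_iff_dvd]
  refine ⟨1 - (m : ℤ), ?_⟩
  simp only [Nat.succ_eq_add_one, Nat.add_sub_cancel]
  push_cast
  ring

variable {G : Type*} [Group G] [Fintype G] {p : ℕ} [hp : Fact p.Prime] (P : Sylow p G)
  {M : Ideal AlgInt} [Fintype ↥(P : Subgroup G)] [Fintype (↥(P : Subgroup G) →* ℂˣ)]

/-! ## PK-CONJ -/
open scoped Classical in
theorem conj_mem_Y (hM : IsPModular p M) (hP : Nat.card P = p) (e : ℕ) (he : e < p - 1)
    (X Y : Finset (IrrCharacter G)) (εX : IrrCharacter G → ℤ) (ε : ℤ)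
    (hB : ∀ χ, χ ∈ principalBlock M G ↔ χ ∈ X ∨ χ ∈ Y)
    (hXp : ∀ χ ∈ X, (εX χ = 1 ∨ εX χ = -1) ∧
      ∀ φ : ↥(P : Subgroup G) →* ℂˣ, φ ≠ 1 → nn P χ φ = - εX χ)
    (hYs : ∀ θ ∈ Y, (Finset.univ.filter
      (fun φ : ↥(P : Subgroup G) →* ℂˣ => nn P θ φ ≠ 0)).card = e)
    (θ : IrrCharacter G) (hθ : θ ∈ Y) :
    ∃ θ' ∈ Y, ∀ g, (θ' : G → ℂ) g = conj ((θ : G → ℂ) g) := by
  set k := Nat.card G - 1 with hkdef
  have hk : k.Coprime (Nat.card G) := coprime_card_sub_one G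
  have hkk : k * k ≡ 1 [MOD Nat.card G] := sq_card_sub_one G
  set θ' : IrrCharacter G := Cfsg.Agent.Lib.Helper82_LinkingGalois.powIrr k hk θ with hθ'
  have hval : ∀ g, (θ' : G → ℂ) g = (θ : G → ℂ) (g ^ k) := fun g => rfl
  have hconj : ∀ g, (θ' : G → ℂ) g = conj ((θ : G → ℂ) g) := by
    intro g
    rw [hval, hkdef, pow_card_sub_one, irr_inv]
  have hθB : θ ∈ principalBlock M G := (hB θ).mpr (Or.inr hθ)
  have hθ'B : θ' ∈ principalBlock M G := principal_twist hM hk hθB hval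
  rcases (hB θ').mp hθ'B with hX | hY
  · exfalso
    obtain ⟨hε, hnn⟩ := hXp θ' hX
    have hne : ∀ φ : ↥(P : Subgroup G) →* ℂˣ, φ ≠ 1 → nn P θ (φ ^ k) ≠ 0 := by
      intro φ hφ
      rw [← nn_twist P hkk hval φ, hnn φ hφ]
      rcases hε with h | h <;> rw [h] <;> norm_num
    have hall : ∀ ψ : ↥(P : Subgroup G) →* ℂˣ, ψ ≠ 1 → nn P θ ψ ≠ 0 := by
      intro ψ hψ
      have h1 : (ψ ^ k) ^ k = ψ := hom_pow_pow P hP hkk ψ
      have h2 : ψ ^ k ≠ 1 := by
        intro h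
        rw [h] at h1
        exact hψ (h1.symm.trans (one_pow (M := ↥(P : Subgroup G) →* ℂˣ) k))
      have := hne (ψ ^ k) h2
      rwa [h1] at this
    have hfilter : (Finset.univ.filter
        (fun φ : ↥(P : Subgroup G) →* ℂˣ => nn P θ φ ≠ 0)) =
        Finset.univ.erase (1 : ↥(P : Subgroup G) →* ℂˣ) := by
      ext φ
      simp only [Finset.mem_filter, Finset.mem_univ, true_and, Finset.mem_erase, and_true]
      constructor
      · intro h h1
        rw [h1, nn_one] at h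
        exact h rfl
      · exact hall φ
    have hcard := hYs θ hθ
    rw [hfilter, Finset.card_erase_of_mem (Finset.mem_univ _), Finset.card_univ,
      ← Nat.card_eq_fintype_card, Cfsg.Agent.Lib.Helper25_AbDual.card_hom (comm_of_card P hP),
      hP] at hcard
    omega
  · exact ⟨θ', hY, hconj⟩

end Cfsg.Agent.Lib.Helper23_B43_CONJ
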