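import Mathlib
import Cfsg.Prelude.Def_Characters
import Cfsg.Prelude.Def_Blocks
import Cfsg.Agent.Lib.Helper3_CharComplete
import Cfsg.Agent.Lib.Helper80_CharBasic
import Cfsg.Agent.Lib.Helper16_BrauerSetup
import Cfsg.Agent.Lib.Helper16_BrauerGal
import Cfsg.Agent.Lib.Helper16_BrauerMain

/-!
# S0996, package NORM (helper23): normalising the output of `brauer_structure` so that the
trivial character is a non-exceptional member with sign `+1`.
-/

set_option autoImplicit false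
set_option linter.unusedSectionVars false

namespace Cfsg.Agent.Lib.Helper23_B43_NORM

open Cfsg Cfsg.Agent.Lib.Helper3_CharComplete Cfsg.Agent.Lib.Helper80_CharBasic
  Cfsg.Agent.Lib.Helper16_BrauerSetup Cfsg.Agent.Lib.Helper16_BrauerGal
  Cfsg.Agent.Lib.Helper16_BrauerMain
open scoped ComplexConjugate

/-- The values of a nontrivial linear character sum to zero. -/
theorem sum_hom_eq_zero {W : Type*} [Group W] [Fintype W] (φ : W →* ℂˣ) (hφ : φ ≠ 1) :
    ∑ h : W, ((φ h : ℂˣ) : ℂ) = 0 := by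
  have h1 : ((Units.coeHom ℂ).comp φ) ≠ 1 := by
    intro h
    apply hφ
    ext w
    have := congrArg (fun f : W →* ℂ => f w) h
    simpa using this
  have := sum_hom_units_eq_zero ((Units.coeHom ℂ).comp φ) h1
  simpa using this

variable {G : Type*} [Group G] [Fintype G] {p : ℕ} [hp : Fact p.Prime] (P : Sylow p G)
  {M : Ideal AlgInt} [Fintype ↥(P : Subgroup G)] [Fintype (↥(P : Subgroup G) →* ℂˣ)]

/-- The trivial character has `nn = -1` at every nontrivial linear character of `P`. -/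
theorem nn_oneIrr (hP : Nat.card P = p) (φ : ↥(P : Subgroup G) →* ℂˣ) (hφ : φ ≠ 1) :
    nn P (oneIrr G) φ = -1 := by
  have h := nn_eq P hP (oneIrr G) φ
  have hp0 : (p : ℂ) ≠ 0 := by exact_mod_cast hp.out.ne_zero
  have hval : ∀ h : ↥(P : Subgroup G), ((oneIrr G : IrrCharacter G) : G → ℂ) h = 1 :=
    fun _ => rfl
  have hsum : ∑ h : ↥(P : Subgroup G), ((oneIrr G : IrrCharacter G) : G → ℂ) h *
      (conj ((φ h : ℂˣ) : ℂ) - 1) = -(p : ℂ) := by
    simp only [hval, one_mul]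
    rw [Finset.sum_sub_distrib, ← map_sum, sum_hom_eq_zero φ hφ, map_zero, Finset.sum_const,
      Finset.card_univ, ← Nat.card_eq_fintype_card, hP]
    simp
  rw [hsum] at h
  have h2 : (nn P (oneIrr G) φ : ℂ) = ((-1 : ℤ) : ℂ) := by
    rw [h]
    push_cast
    field_simp
  exact_mod_cast h2

/-- There is a nontrivial linear character of `P`. -/
theorem exists_hom_ne_one (hP : Nat.card P = p) : ∃ φ : ↥(P : Subgroup G) →* ℂˣ, φ ≠ 1 := by
  have hcard : Fintype.card (↥(P : Subgroup G) →* ℂˣ) = p := by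
    rw [← Nat.card_eq_fintype_card, Cfsg.Agent.Lib.Helper25_AbDual.card_hom (comm_of_card P hP),
      hP]
  have h1 : 1 < Fintype.card (↥(P : Subgroup G) →* ℂˣ) := by
    rw [hcard]
    exact hp.out.one_lt
  exact Fintype.exists_ne_of_one_lt_card h1 1

open scoped Classical in
theorem card_filter_of_ne (hP : Nat.card P = p) (f : (↥(P : Subgroup G) →* ℂˣ) → ℤ)
    (h1 : f 1 = 0) (hne : ∀ φ : ↥(P : Subgroup G) →* ℂˣ, φ ≠ 1 → f φ ≠ 0) :
    (Finset.univ.filter (fun φ : ↥(P : Subgroup G) →* ℂˣ => f φ ≠ 0)).card = p - 1 := by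
  have hfilter : (Finset.univ.filter (fun φ : ↥(P : Subgroup G) →* ℂˣ => f φ ≠ 0)) =
      Finset.univ.erase (1 : ↥(P : Subgroup G) →* ℂˣ) := by
    ext φ
    simp only [Finset.mem_filter, Finset.mem_univ, true_and, Finset.mem_erase, and_true]
    constructor
    · intro h h'
      rw [h', h1] at h
      exact h rfl
    · exact hne φ
  rw [hfilter, Finset.card_erase_of_mem (Finset.mem_univ _), Finset.card_univ,
    ← Nat.card_eq_fintype_card, Cfsg.Agent.Lib.Helper25_AbDual.card_hom (comm_of_card P hP), hP]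

/-! ## PK-NORM -/
open scoped Classical in
theorem structure_one (hM : IsPModular p M) (hP : Nat.card P = p) (e : ℕ) (he2 : 2 ≤ e)
    (X Y : Finset (IrrCharacter G)) (εX : IrrCharacter G → ℤ) (ε : ℤ)
    (hB : ∀ χ, χ ∈ principalBlock M G ↔ χ ∈ X ∨ χ ∈ Y) (hdisj : Disjoint X Y)
    (hXc : X.card = e) (hYc : e * Y.card = p - 1)
    (hXp : ∀ χ ∈ X, (εX χ = 1 ∨ εX χ = -1) ∧
      ∀ φ : ↥(P : Subgroup G) →* ℂˣ, φ ≠ 1 → nn P χ φ = - εX χ)
    (hε : ε = 1 ∨ ε = -1)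
    (hYp : ∀ θ ∈ Y, ∀ φ : ↥(P : Subgroup G) →* ℂˣ, φ ≠ 1 → nn P θ φ = 0 ∨ nn P θ φ = ε)
    (hYu : ∀ φ : ↥(P : Subgroup G) →* ℂˣ, φ ≠ 1 →
      ∃ θ ∈ Y, nn P θ φ ≠ 0 ∧ ∀ θ' ∈ Y, nn P θ' φ ≠ 0 → θ' = θ)
    (hYs : ∀ θ ∈ Y, (Finset.univ.filter
      (fun φ : ↥(P : Subgroup G) →* ℂˣ => nn P θ φ ≠ 0)).card = e) :
    ∃ (X' Y' : Finset (IrrCharacter G)) (εX' : IrrCharacter G → ℤ) (ε' : ℤ),
      (∀ χ, χ ∈ principalBlock M G ↔ χ ∈ X' ∨ χ ∈ Y') ∧ Disjoint X' Y' ∧ X'.card = e ∧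
      e * Y'.card = p - 1 ∧
      (∀ χ ∈ X', (εX' χ = 1 ∨ εX' χ = -1) ∧
        ∀ φ : ↥(P : Subgroup G) →* ℂˣ, φ ≠ 1 → nn P χ φ = - εX' χ) ∧
      (ε' = 1 ∨ ε' = -1) ∧
      (∀ θ ∈ Y', ∀ φ : ↥(P : Subgroup G) →* ℂˣ, φ ≠ 1 → nn P θ φ = 0 ∨ nn P θ φ = ε') ∧
      (∀ φ : ↥(P : Subgroup G) →* ℂˣ, φ ≠ 1 →
        ∃ θ ∈ Y', nn P θ φ ≠ 0 ∧ ∀ θ' ∈ Y', nn P θ' φ ≠ 0 → θ' = θ) ∧
      (∀ θ ∈ Y', (Finset.univ.filter
        (fun φ : ↥(P : Subgroup G) →* ℂˣ => nn P θ φ ≠ 0)).card = e) ∧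
      oneIrr G ∈ X' ∧ εX' (oneIrr G) = 1 := by
  have hMp : M.IsPrime := hM.2.1.isPrime
  have h1B : oneIrr G ∈ principalBlock M G :=
    Cfsg.Agent.Lib.Helper78_LocalRing.sameBlock_refl hMp _
  obtain ⟨φ₀, hφ₀⟩ := exists_hom_ne_one P hP
  rcases (hB (oneIrr G)).mp h1B with h1X | h1Y
  · -- the trivial character is already non-exceptional
    refine ⟨X, Y, εX, ε, hB, hdisj, hXc, hYc, hXp, hε, hYp, hYu, hYs, h1X, ?_⟩
    have h := (hXp (oneIrr G) h1X).2 φ₀ hφ₀
    rw [nn_oneIrr P hP φ₀ hφ₀] at h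
    linarith
  · -- the trivial character is exceptional: then `e = p - 1` and `Y = {1}`; swap
    have hep : e = p - 1 := by
      rw [← hYs (oneIrr G) h1Y]
      apply card_filter_of_ne P hP (fun φ => nn P (oneIrr G) φ) (nn_one P _)
      intro φ hφ
      show nn P (oneIrr G) φ ≠ 0
      rw [nn_oneIrr P hP φ hφ]
      norm_num
    have hYcard : Y.card = 1 := by
      have h1 : e * Y.card = e * 1 := by rw [hYc, mul_one, hep]
      exact Nat.eq_of_mul_eq_mul_left (by omega) h1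
    have hYeq : Y = {oneIrr G} := by
      obtain ⟨a, ha⟩ := Finset.card_eq_one.mp hYcard
      rw [ha] at h1Y ⊢
      rw [Finset.mem_singleton.mp h1Y]
    have h1nX : oneIrr G ∉ X := fun h => (Finset.disjoint_left.mp hdisj h) h1Y
    have hXne : X.Nonempty := by
      rw [← Finset.card_pos, hXc]
      omega
    obtain ⟨χ₀, hχ₀⟩ := hXne
    have hχ₀1 : χ₀ ≠ oneIrr G := fun h => h1nX (h ▸ hχ₀)
    obtain ⟨hεχ₀, hnnχ₀⟩ := hXp χ₀ hχ₀
    have hnn0 : ∀ φ : ↥(P : Subgroup G) →* ℂˣ, φ ≠ 1 → nn P χ₀ φ ≠ 0 := by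
      intro φ hφ
      rw [hnnχ₀ φ hφ]
      rcases hεχ₀ with h | h <;> rw [h] <;> norm_num
    refine ⟨insert (oneIrr G) (X.erase χ₀), {χ₀}, Function.update εX (oneIrr G) 1, - εX χ₀,
      ?_, ?_, ?_, ?_, ?_, ?_, ?_, ?_, ?_, ?_, ?_⟩
    · intro χ
      rw [hB χ, hYeq]
      simp only [Finset.mem_insert, Finset.mem_erase, Finset.mem_singleton]
      constructor
      · rintro (h | h)
        · by_cases hc : χ = χ₀
          · exact Or.inr hc
          · exact Or.inl (Or.inr ⟨hc, h⟩)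
        · exact Or.inl (Or.inl h)
      · rintro ((h | ⟨_, h⟩) | h)
        · exact Or.inr h
        · exact Or.inl h
        · rw [h]
          exact Or.inl hχ₀
    · rw [Finset.disjoint_singleton_right]
      simp only [Finset.mem_insert, Finset.mem_erase, not_or, not_and]
      exact ⟨hχ₀1, fun h => absurd rfl h⟩
    · rw [Finset.card_insert_of_notMem, Finset.card_erase_of_mem hχ₀, hXc]
      · omega
      · intro h
        exact h1nX (Finset.mem_of_mem_erase h)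
    · rw [Finset.card_singleton, ← hYc, hYcard]
    · intro χ hχ
      rcases Finset.mem_insert.mp hχ with h | h
      · rw [h, Function.update_self]
        refine ⟨Or.inl rfl, fun φ hφ => ?_⟩
        rw [nn_oneIrr P hP φ hφ]
      · have hχX : χ ∈ X := Finset.mem_of_mem_erase h
        have hχ1 : χ ≠ oneIrr G := fun h' => h1nX (h' ▸ hχX)
        rw [Function.update_of_ne hχ1]
        exact hXp χ hχX
    · rcases hεχ₀ with h | h
      · right; rw [h]
      · left; rw [h]; norm_num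
    · intro θ hθ φ hφ
      rw [Finset.mem_singleton.mp hθ]
      exact Or.inr (hnnχ₀ φ hφ)
    · intro φ hφ
      refine ⟨χ₀, Finset.mem_singleton_self _, hnn0 φ hφ, fun θ' hθ' _ => ?_⟩
      exact Finset.mem_singleton.mp hθ'
    · intro θ hθ
      rw [Finset.mem_singleton.mp hθ, hep]
      exact card_filter_of_ne P hP (fun φ => nn P χ₀ φ) (nn_one P _) hnn0
    · exact Finset.mem_insert_self _ _
    · rw [Function.update_self]

end Cfsg.Agent.Lib.Helper23_B43_NORM
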