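/-
helper47: package S0996-DEGZ of helper16 (Brauer 1943): an irreducible character of degree divisible by `p` has
defect zero, vanishes on `P - {1}`, so `p * pavg P χ = χ(1)`.
-/
import Mathlib
import Cfsg.Prelude.Def_Characters
import Cfsg.Prelude.Def_Blocks
import Cfsg.Agent.Lib.Helper3_CharComplete
import Cfsg.Agent.Lib.Helper80_CharBasic
import Cfsg.Agent.Lib.Helper16_B43Defs
import Cfsg.Agent.Lib.Helper77_BlockBasics
import Cfsg.Agent.Lib.Helper81_StPSL
import Cfsg.Agent.Lib.Helper47_B43_DVD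

set_option autoImplicit false

namespace Cfsg.Agent.Lib.Helper47_B43_DEGZ

open Cfsg Cfsg.Agent.Lib.Helper16_B43Defs Cfsg.Agent.Lib.Helper3_CharComplete
  Cfsg.Agent.Lib.Helper80_CharBasic
open scoped ComplexConjugate

variable {G : Type*} [Group G] [Fintype G] {p e n : ℕ} [Fact p.Prime] {P : Sylow p G}

/-- `p` does not divide `e (1 + n p)` -/
theorem not_dvd_cofactor (S : Setting0 p e n P) : ¬ p ∣ e * (1 + n * p) := by
  have hp : p.Prime := Fact.out
  intro hdvd
  have h1 := Cfsg.Agent.Lib.Helper47_B43_DVD.card_G S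
  have h2 : Nat.card P = p ^ (Nat.card G).factorization p := Sylow.card_eq_multiplicity P
  rw [S.hP] at h2
  have h3 : (Nat.card G).factorization p = 1 := by
    have h4 : p ^ 1 = p ^ (Nat.card G).factorization p := by rw [pow_one]; exact h2
    exact (Nat.pow_right_injective hp.two_le h4).symm
  have h5 : p ^ 2 ∣ Nat.card G := by
    rw [h1, pow_two]
    exact Nat.mul_dvd_mul_left p hdvd
  have hG : Nat.card G ≠ 0 := Nat.card_pos.ne'
  have h6 := (hp.pow_dvd_iff_le_factorization hG).1 h5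
  omega

theorem pavg_of_dvd (S : Setting0 p e n P) (χ : IrrCharacter G)
    (h : p ∣ charDegree (χ : G → ℂ)) :
    (p : ℂ) * pavg P (χ : G → ℂ) = (charDegree (χ : G → ℂ) : ℂ) := by
  have hp : p.Prime := Fact.out
  have hm := not_dvd_cofactor S
  have hcard := Cfsg.Agent.Lib.Helper47_B43_DVD.card_G S
  -- defect zero
  have hdz : ¬ p ∣ Nat.card G / charDegree (χ : G → ℂ) := by
    obtain ⟨k, hk⟩ := h
    have h1 := Cfsg.Agent.Lib.Helper77_BlockBasics.charDegree_dvd_card χ
    rw [hk, hcard] at h1 ⊢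
    have hkm : k ∣ e * (1 + n * p) := Nat.dvd_of_mul_dvd_mul_left hp.pos h1
    rw [Nat.mul_div_mul_left _ _ hp.pos]
    intro h2
    exact hm (h2.trans (Nat.div_dvd_of_dvd hkm))
  -- vanishing on `P - {1}`
  have hvan : ∀ x : ↥(P : Subgroup G), x ≠ 1 → (χ : G → ℂ) (x : G) = 0 := by
    intro x hx
    apply Cfsg.Agent.Lib.Helper81_StPSL.vanish_of_defect_zero p χ hdz
    have hxp : x ^ p = 1 := by
      have h1 : x ^ Nat.card ↥(P : Subgroup G) = 1 := pow_card_eq_one'
      have hP' : Nat.card ↥(P : Subgroup G) = p := S.hP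
      rwa [hP'] at h1
    have hord : orderOf x = p := orderOf_eq_prime hxp hx
    rw [Subgroup.orderOf_coe, hord]
  have hsum : ∑ᶠ x : ↥(P : Subgroup G), (χ : G → ℂ) (x : G) = (χ : G → ℂ) 1 := by
    rw [finsum_eq_single (fun x : ↥(P : Subgroup G) => (χ : G → ℂ) (x : G)) 1 hvan]
    rfl
  unfold pavg
  rw [hsum, Cfsg.Agent.Lib.Helper77_BlockBasics.apply_one_eq_charDegree χ]
  have hP' : Nat.card P = p := S.hP
  rw [hP']
  have hpne : (p : ℂ) ≠ 0 := by
    rw [Nat.cast_ne_zero]; exact hp.ne_zero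
  field_simp

end Cfsg.Agent.Lib.Helper47_B43_DEGZ
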