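/-
helper47: package S0996-DVD of helper16 (Brauer 1943): an irreducible character of degree prime to `p` has
degree dividing `e (1 + n p)`.
-/
import Mathlib
import Cfsg.Prelude.Def_Characters
import Cfsg.Prelude.Def_Blocks
import Cfsg.Agent.Lib.Helper3_CharComplete
import Cfsg.Agent.Lib.Helper80_CharBasic
import Cfsg.Agent.Lib.Helper16_B43Defs
import Cfsg.Agent.Lib.Helper77_BlockBasics

set_option autoImplicit false

namespace Cfsg.Agent.Lib.Helper47_B43_DVD

open Cfsg Cfsg.Agent.Lib.Helper16_B43Defs Cfsg.Agent.Lib.Helper3_CharComplete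
  Cfsg.Agent.Lib.Helper80_CharBasic
open scoped ComplexConjugate

variable {G : Type*} [Group G] [Fintype G] {p e n : ℕ} [Fact p.Prime] {P : Sylow p G}

/-- `|G| = p e (1 + n p)` -/
theorem card_G (S : Setting0 p e n P) : Nat.card G = p * (e * (1 + n * p)) := by
  have h1 := Subgroup.card_mul_index (NP P)
  have h2 : (NP P).index = Nat.card (Sylow p G) := (Sylow.card_eq_index_normalizer P).symm
  rw [h2, S.hN, S.hn] at h1
  rw [← h1, mul_assoc]

theorem deg_dvd (S : Setting0 p e n P) (χ : IrrCharacter G)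
    (h : ¬ p ∣ charDegree (χ : G → ℂ)) : charDegree (χ : G → ℂ) ∣ e * (1 + n * p) := by
  have hp : p.Prime := Fact.out
  have h1 := Cfsg.Agent.Lib.Helper77_BlockBasics.charDegree_dvd_card χ
  rw [card_G S] at h1
  have hcop : Nat.Coprime (charDegree (χ : G → ℂ)) p :=
    ((Nat.Prime.coprime_iff_not_dvd hp).2 h).symm
  exact hcop.dvd_of_dvd_mul_left h1

end Cfsg.Agent.Lib.Helper47_B43_DVD
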