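/-
helper47: package S0996-PERF of helper16 (Brauer 1943): in a perfect group the only irreducible character of
degree one is the trivial one.
-/
import Mathlib
import Cfsg.Prelude.Def_Characters
import Cfsg.Prelude.Def_Blocks
import Cfsg.Agent.Lib.Helper3_CharComplete
import Cfsg.Agent.Lib.Helper80_CharBasic
import Cfsg.Agent.Lib.Helper16_B43Defs
import Cfsg.Agent.Lib.Helper77_BlockBasics
import Cfsg.Agent.Lib.Helper79_Linear

set_option autoImplicit false

namespace Cfsg.Agent.Lib.Helper47_B43_PERF

open Cfsg Cfsg.Agent.Lib.Helper16_B43Defs Cfsg.Agent.Lib.Helper3_CharComplete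
  Cfsg.Agent.Lib.Helper80_CharBasic
open scoped ComplexConjugate

variable {G : Type*} [Group G] [Fintype G] {p e n : ℕ} [Fact p.Prime] {P : Sylow p G}

theorem eq_oneIrr_of_deg_one (hperf : commutator G = ⊤) (χ : IrrCharacter G)
    (h : charDegree (χ : G → ℂ) = 1) : χ = oneIrr G := by
  have h1 : (χ : G → ℂ) 1 = 1 := by
    rw [Cfsg.Agent.Lib.Helper77_BlockBasics.apply_one_eq_charDegree χ, h, Nat.cast_one]
  apply Subtype.ext
  funext k
  have hk : k ∈ commutator G := by rw [hperf]; trivial
  exact Cfsg.Agent.Lib.Helper79_Linear.linear_commutator ⟨χ, h1⟩ hk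

end Cfsg.Agent.Lib.Helper47_B43_PERF
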