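import Mathlib
import Cfsg.Prelude.Def_Characters
import Cfsg.Prelude.Def_Blocks
import Cfsg.Prelude.Def_Perm
import Cfsg.Agent.Lib.Helper3_CharComplete
import Cfsg.Agent.Lib.Helper80_CharBasic
import Cfsg.Agent.Lib.Helper16_B43Defs
import Cfsg.Agent.Lib.Helper1_SZ
import Cfsg.Agent.Lib.Helper1_Transport

set_option autoImplicit false

/-!
# S0996 (Brauer 1943), package LAGb: `dvd_of_twoPt`

If all two-point stabilizers of the action on the Sylow `p`-subgroups have order `e`, then
`n + 1 ∣ p - 1`: the normalizer of a two-point stabilizer `E` has order `e (n + 1)`.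
-/

namespace Cfsg.Agent.Lib.Helper55_B43_LAGb

open Cfsg Cfsg.Agent.Lib.Helper16_B43Defs Cfsg.Agent.Lib.Helper3_CharComplete
  Cfsg.Agent.Lib.Helper80_CharBasic Cfsg.Agent.Lib.Helper1_Transport Cfsg.Agent.Lib.Helper1_SZ
open scoped ComplexConjugate Pointwise
open Subgroup MulAction

section basics

variable {G : Type*} [Group G] {p : ℕ}

theorem mem_NP_iff (R : Sylow p G) (g : G) : g ∈ NP R ↔ g • R = R :=
  Sylow.smul_eq_iff_mem_normalizer.symm

theorem NP_smul (R : Sylow p G) (g : G) : NP (g • R) = MulAut.conj g • NP R := by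
  ext x
  rw [mem_NP_iff, mem_conj_smul_iff, mem_NP_iff, mul_smul, mul_smul, inv_smul_eq_iff]

theorem le_NP_iff (R : Sylow p G) (E : Subgroup G) : E ≤ NP R ↔ ∀ h ∈ E, h • R = R := by
  constructor
  · intro h x hx
    exact (mem_NP_iff R x).1 (h hx)
  · intro h x hx
    exact (mem_NP_iff R x).2 (h x hx)

theorem conj_mem_of_mem_NP (R : Sylow p G) {g x : G} (hg : g ∈ NP R) (hx : x ∈ (R : Subgroup G)) :
    g * x * g⁻¹ ∈ (R : Subgroup G) := by
  have h := (Subgroup.mem_set_normalizer_iff.mp hg x).1 hx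
  exact h

end basics

section setting

variable {G : Type*} [Group G] [Finite G] {p e n : ℕ} [Fact p.Prime] {P : Sylow p G}

omit [Finite G] in
theorem relIndex_P (S : Setting0 p e n P) : (P : Subgroup G).relIndex (NP P) = e := by
  have hPN : (P : Subgroup G) ≤ NP P := le_normalizer
  have h1 := ((P : Subgroup G).subgroupOf (NP P)).card_mul_index
  rw [card_subgroupOf hPN, S.hP, S.hN] at h1
  have hp : 0 < p := (Fact.out : p.Prime).pos
  exact Nat.eq_of_mul_eq_mul_left hp h1

theorem coprime_pe (S : Setting0 p e n P) : p.Coprime e := by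
  have hPN : (P : Subgroup G) ≤ NP P := le_normalizer
  have h1 : ¬ p ∣ (P : Subgroup G).index := P.not_dvd_index
  rw [← relIndex_mul_index hPN, relIndex_P S] at h1
  rw [Nat.Prime.coprime_iff_not_dvd Fact.out]
  intro h
  exact h1 (Dvd.dvd.mul_right h _)

theorem card_G (S : Setting0 p e n P) : Nat.card G = p * e * (1 + n * p) := by
  have h1 := (NP P).card_mul_index
  have h2 : Nat.card (Sylow p G) = (NP P).index := P.card_eq_index_normalizer
  rw [← h1, S.hN, ← h2, S.hn]

/-- subgroups of order `e` of `N_G(P)` are conjugate under `P` -/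
theorem conj_in_N (S : Setting0 p e n P) (E₁ E₂ : Subgroup G) (h₁ : E₁ ≤ NP P) (h₂ : E₂ ≤ NP P)
    (c₁ : Nat.card E₁ = e) (c₂ : Nat.card E₂ = e) :
    ∃ a ∈ (P : Subgroup G), MulAut.conj a • E₁ = E₂ := by
  have hPN : (P : Subgroup G) ≤ NP P := le_normalizer
  have hnorm : ((P : Subgroup G).subgroupOf (NP P)).Normal := Subgroup.normal_in_normalizer
  have hcardA : Nat.card ((P : Subgroup G).subgroupOf (NP P)) = p := by
    rw [card_subgroupOf hPN]
    exact S.hP
  have hcyc : IsCyclic ((P : Subgroup G).subgroupOf (NP P)) := isCyclic_of_prime_card hcardA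
  have hidx : ((P : Subgroup G).subgroupOf (NP P)).index = e := relIndex_P S
  have hcop : (Nat.card ((P : Subgroup G).subgroupOf (NP P))).Coprime
      ((P : Subgroup G).subgroupOf (NP P)).index := by
    rw [hcardA, hidx]
    exact coprime_pe S
  obtain ⟨a, ha, hconj⟩ := sz_abelian_conj ((P : Subgroup G).subgroupOf (NP P)) hcop
    (E₁.subgroupOf (NP P)) (E₂.subgroupOf (NP P)) (by rw [card_subgroupOf h₁, c₁, hidx])
    (by rw [card_subgroupOf h₂, c₂, hidx])
  exact ⟨(a : G), mem_subgroupOf.mp ha, conj_of_subgroupOf h₁ h₂ a hconj⟩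

end setting

section complement

variable {G : Type*} [Group G] [Finite G] {p e n : ℕ} [Fact p.Prime] {P : Sylow p G}

theorem inf_P_eq_bot (S : Setting0 p e n P) (E : Subgroup G) (hEc : Nat.card E = e) :
    E ⊓ (P : Subgroup G) = ⊥ := by
  apply Disjoint.eq_bot
  apply Subgroup.disjoint_of_coprime_natCard
  rw [hEc, S.hP]
  exact (coprime_pe S).symm

/-- no nontrivial element of `P` is centralized by a subgroup of order `e` -/
theorem eq_one_of_centralized (S : Setting0 p e n P) (E : Subgroup G) (hEc : Nat.card E = e)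
    {x : G} (hx : x ∈ (P : Subgroup G)) (hcomm : ∀ h ∈ E, h * x = x * h) : x = 1 := by
  by_contra hx1
  have hzle : zpowers x ≤ (P : Subgroup G) := (zpowers_le).2 hx
  have hord : orderOf x = p := by
    have h1 : orderOf x ∣ p := by
      have := Subgroup.card_dvd_of_le hzle
      rwa [Nat.card_zpowers, S.hP] at this
    rcases (Nat.dvd_prime Fact.out).1 h1 with h | h
    · exact absurd (orderOf_eq_one_iff.1 h) hx1
    · exact h
  have hz : zpowers x = (P : Subgroup G) := by
    apply Subgroup.eq_of_le_of_card_ge hzle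
    rw [Nat.card_zpowers, hord, S.hP]
  have hEC : E ≤ Subgroup.centralizer ((P : Subgroup G) : Set G) := by
    intro h hh
    rw [Subgroup.mem_centralizer_iff]
    intro y hy
    rw [SetLike.mem_coe, ← hz, mem_zpowers_iff] at hy
    obtain ⟨k, rfl⟩ := hy
    have hc : Commute h x := hcomm h hh
    exact ((hc.zpow_right k).eq).symm
  rw [S.hC] at hEC
  have hbot : E = ⊥ := by
    have := inf_P_eq_bot S E hEc
    rwa [inf_eq_left.2 hEC] at this
  have h1 : Nat.card E = 1 := by rw [hbot]; exact Subgroup.card_bot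
  have := S.he2
  omega

/-- no nontrivial element of `P` normalizes a subgroup of order `e` of `N_G(P)` -/
theorem eq_one_of_normalizes (S : Setting0 p e n P) (E : Subgroup G) (hEN : E ≤ NP P)
    (hEc : Nat.card E = e) {x : G} (hx : x ∈ (P : Subgroup G))
    (hnorm : MulAut.conj x • E = E) : x = 1 := by
  apply eq_one_of_centralized S E hEc hx
  intro h hh
  have h1 : x * h * x⁻¹ ∈ E := by
    have : x * h * x⁻¹ ∈ MulAut.conj x • E := by
      rw [mem_conj_smul_iff]
      have e1 : x⁻¹ * (x * h * x⁻¹) * x = h := by group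
      rw [e1]
      exact hh
    rwa [hnorm] at this
  have h2 : x * h * x⁻¹ * h⁻¹ ∈ E := E.mul_mem h1 (E.inv_mem hh)
  have h3 : x * h * x⁻¹ * h⁻¹ ∈ (P : Subgroup G) := by
    have h4 : h * x⁻¹ * h⁻¹ ∈ (P : Subgroup G) :=
      conj_mem_of_mem_NP P (hEN hh) ((P : Subgroup G).inv_mem hx)
    have e1 : x * h * x⁻¹ * h⁻¹ = x * (h * x⁻¹ * h⁻¹) := by group
    rw [e1]
    exact (P : Subgroup G).mul_mem hx h4
  have h5 : x * h * x⁻¹ * h⁻¹ ∈ E ⊓ (P : Subgroup G) := ⟨h2, h3⟩
  rw [inf_P_eq_bot S E hEc, Subgroup.mem_bot] at h5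
  have e2 : h * x = (x * h * x⁻¹ * h⁻¹)⁻¹ * (x * h) := by group
  rw [e2, h5, inv_one, one_mul]

/-- the stabilizer of `P` in `N_G(E)` is `E` -/
theorem normalizer_inf_NP (S : Setting0 p e n P) (E : Subgroup G) (hEN : E ≤ NP P)
    (hEc : Nat.card E = e) : Subgroup.normalizer (E : Set G) ⊓ NP P = E := by
  symm
  have hle : E ≤ Subgroup.normalizer (E : Set G) ⊓ NP P := le_inf le_normalizer hEN
  apply Subgroup.eq_of_le_of_card_ge hle
  rw [hEc]
  have hbot : (P : Subgroup G) ⊓ (Subgroup.normalizer (E : Set G) ⊓ NP P) = ⊥ := by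
    rw [eq_bot_iff]
    intro x hx
    rw [Subgroup.mem_bot]
    obtain ⟨hxP, hxE, -⟩ := hx
    apply eq_one_of_normalizes S E hEN hEc hxP
    ext y
    rw [mem_conj_smul_iff]
    have h := (Subgroup.mem_set_normalizer_iff.mp (Subgroup.inv_mem _ hxE)) y
    rw [inv_inv] at h
    exact h.symm
  have h1 : (P : Subgroup G).relIndex (Subgroup.normalizer (E : Set G) ⊓ NP P) =
      Nat.card ↥(Subgroup.normalizer (E : Set G) ⊓ NP P) := by
    rw [← inf_relIndex_right, hbot, relIndex_bot_left]
  rw [← h1, ← relIndex_P S]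
  apply relIndex_le_of_le_right inf_le_right
  rw [relIndex_P S]
  have := S.he2
  omega

omit [Finite G] [Fact p.Prime] in
theorem conj_smul_eq_of_mem_normalizer {E : Subgroup G} {g : G}
    (hg : g ∈ Subgroup.normalizer (E : Set G)) : MulAut.conj g • E = E := by
  ext y
  rw [mem_conj_smul_iff]
  have h := (Subgroup.mem_set_normalizer_iff.mp (Subgroup.inv_mem _ hg)) y
  rw [inv_inv] at h
  exact h.symm

omit [Finite G] [Fact p.Prime] in
theorem mem_normalizer_of_conj_smul_eq {E : Subgroup G} {g : G}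
    (h : MulAut.conj g • E = E) : g ∈ Subgroup.normalizer (E : Set G) := by
  rw [Subgroup.mem_set_normalizer_iff]
  intro y
  have h1 : g * y * g⁻¹ ∈ MulAut.conj g • E ↔ y ∈ E := by
    rw [mem_conj_smul_iff]
    have e1 : g⁻¹ * (g * y * g⁻¹) * g = y := by group
    rw [e1]
  rw [h] at h1
  exact h1.symm

/-- `N_G(E)` is transitive on the fixed points of `E` -/
theorem exists_normalizer_smul (S : Setting0 p e n P) (E : Subgroup G) (hEN : E ≤ NP P)
    (hEc : Nat.card E = e) (R : Sylow p G) (hER : E ≤ NP R) :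
    ∃ g ∈ Subgroup.normalizer (E : Set G), g • P = R := by
  obtain ⟨g, hg⟩ := MulAction.exists_smul_eq G P R
  have hE' : MulAut.conj g⁻¹ • E ≤ NP P := by
    have h1 : NP P = MulAut.conj g⁻¹ • NP R := by rw [← NP_smul, ← hg, inv_smul_smul]
    rw [h1]
    exact pointwise_smul_le_pointwise_smul_iff.mpr hER
  have hc' : Nat.card (MulAut.conj g⁻¹ • E : Subgroup G) = e := by rw [card_conj_smul, hEc]
  obtain ⟨y, hy, hconj⟩ := conj_in_N S E _ hEN hE' hEc hc'
  refine ⟨g * y, ?_, ?_⟩
  · apply mem_normalizer_of_conj_smul_eq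
    rw [map_mul, mul_smul, hconj, ← mul_smul, ← map_mul, mul_inv_cancel, map_one, one_smul]
  · rw [mul_smul, (mem_NP_iff P y).1 (le_normalizer hy), hg]

omit [Finite G] [Fact p.Prime] in
/-- the two-point stabilizer of `P` and `x • R` for `x ∈ N_G(P)` -/
theorem twoPt_smul (R : Sylow p G) {x : G} (hx : x ∈ NP P) :
    NP P ⊓ NP (x • R) = MulAut.conj x • (NP P ⊓ NP R) := by
  rw [Subgroup.smul_inf, ← NP_smul, ← NP_smul, (mem_NP_iff P x).1 hx]

/-- the number of fixed points other than `P` of a two-point stabilizer `E` is `n` -/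
theorem card_fixed (S : Setting0 p e n P) (h2 : TwoPt P e) (E : Subgroup G) (hEN : E ≤ NP P)
    (hEc : Nat.card E = e) :
    Nat.card {R : Sylow p G // R ≠ P ∧ E ≤ NP R} = n := by
  have hPN : (P : Subgroup G) ≤ NP P := le_normalizer
  -- for `R ≠ P` fixed by `E`, the two-point stabilizer is `E`
  have hfix : ∀ R : Sylow p G, R ≠ P → E ≤ NP R → NP P ⊓ NP R = E := by
    intro R hR hER
    symm
    apply Subgroup.eq_of_le_of_card_ge (le_inf hEN hER)
    rw [h2 R hR, hEc]
  have hne : ∀ x : G, x ∈ (P : Subgroup G) → ∀ R : Sylow p G, R ≠ P → x • R ≠ P := by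
    intro x hx R hR h
    apply hR
    have h1 : R = x⁻¹ • P := by rw [← h, inv_smul_smul]
    rw [h1]
    exact (mem_NP_iff P _).1 (hPN ((P : Subgroup G).inv_mem hx))
  obtain ⟨ψ, hψ⟩ : ∃ ψ : ↥(P : Subgroup G) × {R : Sylow p G // R ≠ P ∧ E ≤ NP R} →
      {R : Sylow p G // R ≠ P},
      ψ = fun t => ⟨(t.1 : G) • t.2.1, hne t.1 t.1.2 t.2.1 t.2.2.1⟩ := ⟨_, rfl⟩
  have hbij : Function.Bijective ψ := by
    constructor
    · rintro ⟨x, R, hR, hER⟩ ⟨x', R', hR', hER'⟩ h
      rw [hψ] at h
      have h' : (x : G) • R = (x' : G) • R' := congrArg Subtype.val h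
      have h3 : MulAut.conj (x : G) • E = MulAut.conj (x' : G) • E := by
        calc MulAut.conj (x : G) • E = MulAut.conj (x : G) • (NP P ⊓ NP R) := by
              rw [hfix R hR hER]
          _ = NP P ⊓ NP ((x : G) • R) := (twoPt_smul R (hPN x.2)).symm
          _ = NP P ⊓ NP ((x' : G) • R') := by rw [h']
          _ = MulAut.conj (x' : G) • (NP P ⊓ NP R') := twoPt_smul R' (hPN x'.2)
          _ = MulAut.conj (x' : G) • E := by rw [hfix R' hR' hER']
      have h4 : MulAut.conj ((x' : G)⁻¹ * (x : G)) • E = E := by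
        rw [map_mul, mul_smul, h3, ← mul_smul, ← map_mul, inv_mul_cancel, map_one, one_smul]
      have h5 := eq_one_of_normalizes S E hEN hEc
        ((P : Subgroup G).mul_mem ((P : Subgroup G).inv_mem x'.2) x.2) h4
      have hxx : (x : G) = (x' : G) := by
        have e1 : (x : G) = (x' : G) * ((x' : G)⁻¹ * (x : G)) := by group
        rw [e1, h5, mul_one]
      have hx : x = x' := Subtype.ext hxx
      subst hx
      have hRR : R = R' := smul_left_cancel _ h'
      subst hRR
      rfl
    · rintro ⟨R, hR⟩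
      obtain ⟨a, ha, hconj⟩ := conj_in_N S E (NP P ⊓ NP R) hEN inf_le_left hEc (h2 R hR)
      have hR' : (a⁻¹ • R) ≠ P := by
        exact hne a⁻¹ ((P : Subgroup G).inv_mem ha) R hR
      have hER' : E ≤ NP (a⁻¹ • R) := by
        have h1 : NP P ⊓ NP (a⁻¹ • R) = E := by
          rw [twoPt_smul R (hPN ((P : Subgroup G).inv_mem ha)), ← hconj, ← mul_smul, ← map_mul,
            inv_mul_cancel, map_one, one_smul]
        rw [← h1]
        exact inf_le_right
      refine ⟨(⟨a, ha⟩, ⟨a⁻¹ • R, hR', hER'⟩), ?_⟩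
      rw [hψ]
      apply Subtype.ext
      change a • a⁻¹ • R = R
      rw [smul_inv_smul]
  have hcard := Nat.card_congr (Equiv.ofBijective ψ hbij)
  rw [Nat.card_prod, S.hP] at hcard
  have hX : Nat.card {R : Sylow p G // R ≠ P} = n * p := by
    have h1 : Nat.card {R : Sylow p G // R ≠ P} = Nat.card (Sylow p G) - 1 := by
      classical
      have := Fintype.ofFinite (Sylow p G)
      rw [Nat.card_eq_fintype_card, Nat.card_eq_fintype_card, Fintype.card_subtype_compl,
        Fintype.card_subtype_eq]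
    rw [h1, S.hn]
    omega
  rw [hX] at hcard
  have hp : 0 < p := (Fact.out : p.Prime).pos
  have : p * Nat.card {R : Sylow p G // R ≠ P ∧ E ≤ NP R} = p * n := by rw [hcard, mul_comm]
  exact Nat.eq_of_mul_eq_mul_left hp this

/-- the normalizer of a two-point stabilizer has order `e (n + 1)` -/
theorem card_normalizer (S : Setting0 p e n P) (h2 : TwoPt P e) (E : Subgroup G) (hEN : E ≤ NP P)
    (hEc : Nat.card E = e) :
    Nat.card (Subgroup.normalizer (E : Set G)) = e * (n + 1) := by
  obtain ⟨NE, hNE⟩ : ∃ NE : Subgroup G, NE = Subgroup.normalizer (E : Set G) := ⟨_, rfl⟩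
  rw [← hNE]
  have h1 := (stabilizer NE P).card_mul_index
  rw [MulAction.index_stabilizer] at h1
  have hstab : Nat.card (stabilizer NE P) = e := by
    have h3 : stabilizer NE P = (NP P).subgroupOf NE := by
      ext g
      rw [mem_stabilizer_iff, mem_subgroupOf, mem_NP_iff]
      rfl
    rw [h3, ← inf_subgroupOf_right, card_subgroupOf inf_le_right, inf_comm, hNE,
      normalizer_inf_NP S E hEN hEc, hEc]
  have horb : (orbit NE P).ncard = n + 1 := by
    have h4 : orbit NE P = insert P {R : Sylow p G | R ≠ P ∧ E ≤ NP R} := by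
      ext R
      constructor
      · rintro ⟨g, rfl⟩
        show (g • P : Sylow p G) ∈ _
        by_cases hR : (g • P : Sylow p G) = P
        · rw [hR]
          exact Set.mem_insert _ _
        · refine Set.mem_insert_of_mem _ ⟨hR, ?_⟩
          have hg : (g : G) ∈ Subgroup.normalizer (E : Set G) := by rw [← hNE]; exact g.2
          have h5 : NP (g • P) = MulAut.conj (g : G) • NP P := NP_smul P (g : G)
          rw [h5, ← conj_smul_eq_of_mem_normalizer hg]
          exact pointwise_smul_le_pointwise_smul_iff.mpr hEN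
      · intro hR
        rcases Set.mem_insert_iff.mp hR with rfl | ⟨-, hER⟩
        · exact mem_orbit_self _
        · obtain ⟨g, hg, hgR⟩ := exists_normalizer_smul S E hEN hEc R hER
          rw [← hNE] at hg
          exact ⟨⟨g, hg⟩, hgR⟩
    rw [h4, Set.ncard_insert_of_notMem (fun h => h.1 rfl) (Set.toFinite _),
      ← Nat.card_coe_set_eq]
    have := card_fixed S h2 E hEN hEc
    rw [Set.coe_ofPred, this]
  rw [hstab, horb] at h1
  exact h1.symm

end complement

section main

variable {G : Type*} [Group G] [Finite G] {p e n : ℕ} [Fact p.Prime] {P : Sylow p G}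

theorem dvd_of_twoPt (S : Setting0 p e n P) (h2 : TwoPt P e) (hp5 : 5 ≤ p) :
    (n + 1) ∣ p - 1 := by
  have hpp : p.Prime := Fact.out
  -- a second Sylow subgroup
  have hcard : 1 < Nat.card (Sylow p G) := by
    rw [S.hn]
    have := S.hn1
    have : 1 ≤ n * p := Nat.mul_pos this hpp.pos
    omega
  have hnt : Nontrivial (Sylow p G) := Finite.one_lt_card_iff_nontrivial.mp hcard
  obtain ⟨Q0, hQ0⟩ := exists_ne P
  have hc := card_normalizer S h2 (NP P ⊓ NP Q0) inf_le_left (h2 Q0 hQ0)
  have hdvd : e * (n + 1) ∣ p * e * (1 + n * p) := by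
    rw [← hc, ← card_G S]
    exact Subgroup.card_subgroup_dvd_card _
  have he : 0 < e := by have := S.he2; omega
  have hdvd2 : (n + 1) ∣ p * (1 + n * p) := by
    have h3 : e * (n + 1) ∣ e * (p * (1 + n * p)) := by
      have e1 : p * e * (1 + n * p) = e * (p * (1 + n * p)) := by ring
      rwa [e1] at hdvd
    exact (Nat.mul_dvd_mul_iff_left he).mp h3
  have hlt : n + 1 < p := by
    have := S.hnp
    omega
  have hcop : (n + 1).Coprime p := by
    rw [Nat.coprime_comm, Nat.Prime.coprime_iff_not_dvd hpp]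
    intro h
    have := Nat.le_of_dvd (Nat.succ_pos n) h
    omega
  have hdvd3 : (n + 1) ∣ 1 + n * p := hcop.dvd_of_dvd_mul_left hdvd2
  -- (n+1) p = (1 + n p) + (p - 1)
  have h4 : (n + 1) ∣ (n + 1) * p := Dvd.intro _ rfl
  have h5 : (n + 1) * p = (1 + n * p) + (p - 1) := by
    have : 1 ≤ p := hpp.pos
    zify [this]
    ring
  rw [h5] at h4
  exact (Nat.dvd_add_right hdvd3).mp h4

end main

end Cfsg.Agent.Lib.Helper55_B43_LAGb
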