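import Mathlib
import Cfsg.Prelude.Def_Characters
import Cfsg.Prelude.Def_Blocks
import Cfsg.Prelude.Def_Perm
import Cfsg.Agent.Lib.Helper3_CharComplete
import Cfsg.Agent.Lib.Helper80_CharBasic
import Cfsg.Agent.Lib.Helper16_B43Defs
import Cfsg.Agent.Lib.Helper75_Induced
import Cfsg.Agent.Lib.Helper79_Linear
import Cfsg.Agent.Lib.Helper75_CharArith
import Cfsg.Agent.Lib.Helper25_AbDual
import Cfsg.Agent.Lib.Helper3_CharBridge
import Cfsg.Agent.Lib.Helper3_CharOrtho

/-!
# S0996 (Brauer 1943), package IND1 (helper95)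

Induced linear characters of `N/P`: `ind_nat`, `ind_one`, `card_linN`, `ind_conj`, plus the shared
core used by IND2 (`N/P` is abelian, the sum of the linear characters of `N/P`).
-/

set_option autoImplicit false

namespace Cfsg.Agent.Lib.Helper95_B43_IND1

open Cfsg Cfsg.Agent.Lib.Helper16_B43Defs Cfsg.Agent.Lib.Helper3_CharComplete
  Cfsg.Agent.Lib.Helper80_CharBasic
open scoped ComplexConjugate

section IND

variable {G : Type*} [Group G] [Fintype G] {p e n : ℕ} [Fact p.Prime] {P : Sylow p G}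

/-- `P` as a subgroup of its normalizer. -/
abbrev Pn (P : Sylow p G) : Subgroup ↥(NP P) := (P : Subgroup G).subgroupOf (NP P)

instance Pn_normal (P : Sylow p G) : (Pn P).Normal := Subgroup.normal_in_normalizer

theorem card_Pn (S : Setting0 p e n P) : Nat.card (Pn P) = p := by
  exact (Nat.card_congr (Subgroup.subgroupOfEquivOfLe Subgroup.le_normalizer).toEquiv).trans S.hP

theorem index_Pn (S : Setting0 p e n P) : (Pn P).index = e := by
  have h1 := Subgroup.card_mul_index (Pn P)
  rw [card_Pn S, S.hN] at h1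
  exact Nat.eq_of_mul_eq_mul_left (Fact.out : p.Prime).pos h1

/-- Commutators of elements of `N` lie in `P`. -/
theorem comm_mem (S : Setting0 p e n P) (a b : ↥(NP P)) : a * b * a⁻¹ * b⁻¹ ∈ Pn P := by
  haveI : IsCyclic (Pn P) := isCyclic_of_prime_card (p := p) (card_Pn S)
  have hcomm : ∀ f g : MulAut (Pn P), f * g = g * f := by
    intro f g
    apply (IsCyclic.mulAutMulEquiv (Pn P)).injective
    rw [map_mul, map_mul, mul_comm]
  have h1 : MulAut.conjNormal (H := Pn P) (a * b * a⁻¹ * b⁻¹) = 1 := by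
    rw [map_mul, map_mul, map_mul, map_inv, map_inv, mul_inv_eq_one, mul_inv_eq_iff_eq_mul]
    exact hcomm _ _
  -- so the commutator centralizes `P`
  have h2 : ((a * b * a⁻¹ * b⁻¹ : ↥(NP P)) : G) ∈
      Subgroup.centralizer ((P : Subgroup G) : Set G) := by
    rw [Subgroup.mem_centralizer_iff]
    intro y hy
    have hyN : y ∈ NP P := Subgroup.le_normalizer hy
    have hyP : (⟨y, hyN⟩ : ↥(NP P)) ∈ Pn P := Subgroup.mem_subgroupOf.mpr hy
    have h3 := congrArg (fun f : MulAut (Pn P) => ((f ⟨⟨y, hyN⟩, hyP⟩ : Pn P) : ↥(NP P))) h1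
    simp only [MulAut.conjNormal_apply, MulAut.one_apply] at h3
    have h4 := congrArg (Subtype.val : ↥(NP P) → G) h3
    simp only [Subgroup.coe_mul, Subgroup.coe_inv] at h4
    have h5 : ((a * b * a⁻¹ * b⁻¹ : ↥(NP P)) : G) * y =
        y * ((a * b * a⁻¹ * b⁻¹ : ↥(NP P)) : G) := by
      simp only [Subgroup.coe_mul, Subgroup.coe_inv]
      calc (a : G) * b * (a : G)⁻¹ * (b : G)⁻¹ * y
          = ((a : G) * b * (a : G)⁻¹ * (b : G)⁻¹ * y *
              ((a : G) * b * (a : G)⁻¹ * (b : G)⁻¹)⁻¹) *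
              ((a : G) * b * (a : G)⁻¹ * (b : G)⁻¹) := by group
        _ = y * ((a : G) * b * (a : G)⁻¹ * (b : G)⁻¹) := by rw [h4]
    exact h5.symm
  rw [S.hC] at h2
  exact Subgroup.mem_subgroupOf.mpr h2

/-- `N/P` is abelian. -/
theorem quot_comm (S : Setting0 p e n P) (x y : ↥(NP P) ⧸ Pn P) : x * y = y * x := by
  induction x using QuotientGroup.induction_on with
  | H a =>
    induction y using QuotientGroup.induction_on with
    | H b =>
      rw [← QuotientGroup.mk_mul, ← QuotientGroup.mk_mul, QuotientGroup.eq]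
      have h := comm_mem S b⁻¹ a⁻¹
      have h2 : (a * b)⁻¹ * (b * a) = b⁻¹ * a⁻¹ * b⁻¹⁻¹ * a⁻¹⁻¹ := by group
      rw [h2]
      exact h

/-- Linear characters of `N` trivial on `P` are the linear characters of `N/P`. -/
noncomputable def linEquiv (P : Sylow p G) : LinN P ≃ ((↥(NP P) ⧸ Pn P) →* ℂˣ) where
  toFun l := QuotientGroup.lift (Pn P) l.1 (fun x hx => l.2 x (Subgroup.mem_subgroupOf.mp hx))
  invFun f := ⟨f.comp (QuotientGroup.mk' (Pn P)), fun x hx => by
    have : (QuotientGroup.mk' (Pn P)) x = 1 :=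
      (QuotientGroup.eq_one_iff x).mpr (Subgroup.mem_subgroupOf.mpr hx)
    rw [MonoidHom.comp_apply, this, map_one]⟩
  left_inv l := by
    apply Subtype.ext
    ext x
    rfl
  right_inv f := by
    ext x
    rfl

theorem linEquiv_apply (l : LinN P) (x : ↥(NP P)) :
    (linEquiv P l) (QuotientGroup.mk x) = l.1 x := rfl

theorem card_quot (S : Setting0 p e n P) : Nat.card (↥(NP P) ⧸ Pn P) = e := by
  rw [← index_Pn S]
  rfl

theorem card_linN (S : Setting0 p e n P) : Fintype.card (LinN P) = e := by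
  rw [← Nat.card_eq_fintype_card, Nat.card_congr (linEquiv P),
    Helper25_AbDual.card_hom (quot_comm S), card_quot S]

/-- The sum of the values of the linear characters of `N/P` at `h ∈ N`. -/
theorem sum_lin_apply (S : Setting0 p e n P) (h : ↥(NP P)) :
    ∑ l : LinN P, l.fn h =
      open scoped Classical in if (h : G) ∈ (P : Subgroup G) then (e : ℂ) else 0 := by
  classical
  haveI : Finite ((↥(NP P) ⧸ Pn P) →* ℂˣ) := Helper25_AbDual.finite_hom (quot_comm S)
  letI : Fintype ((↥(NP P) ⧸ Pn P) →* ℂˣ) := Fintype.ofFinite _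
  have h1 : ∑ l : LinN P, l.fn h =
      ∑ ω : (↥(NP P) ⧸ Pn P) →* ℂˣ, ((ω (QuotientGroup.mk h) : ℂˣ) : ℂ) := by
    apply Fintype.sum_equiv (linEquiv P)
    intro l
    rfl
  rw [h1, Helper25_AbDual.sum_hom_apply (quot_comm S), card_quot S]
  have h2 : ((QuotientGroup.mk h : ↥(NP P) ⧸ Pn P) = 1) ↔ (h : G) ∈ (P : Subgroup G) := by
    rw [QuotientGroup.eq_one_iff]
    exact Subgroup.mem_subgroupOf
  by_cases hh : (h : G) ∈ (P : Subgroup G)
  · rw [if_pos hh, if_pos (h2.mpr hh)]
  · rw [if_neg hh, if_neg (fun hq => hh (h2.mp hq))]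

theorem fn_isIrr (l : LinN P) : IsIrrCharacter ↥(NP P) l.fn :=
  Helper79_Linear.isIrrCharacter_of_hom l.1

/-- Frobenius reciprocity for `Psi_l`. -/
theorem recip [Fintype ↥(NP P)] (l : LinN P) (χ : G → ℂ) (hχ : IsClassFunction G χ) :
    classInner (indFun (NP P) l.fn) χ = classInner l.fn (fun h : ↥(NP P) => χ h) :=
  Helper75_Induced.frobenius_reciprocity (NP P) l.fn χ hχ

theorem ind_nat (S : Setting0 p e n P) (l : LinN P) (χ : IrrCharacter G) :
    ∃ c : ℕ, classInner (indFun (NP P) l.fn) (χ : G → ℂ) = c := by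
  classical
  letI : Fintype ↥(NP P) := Fintype.ofFinite _
  rw [recip l χ (Helper3_CharBridge.isClassFunction_of_isIrrCharacter χ.2)]
  exact Helper75_CharArith.classInner_isCharacter_nat
    (Helper79_Linear.isCharacter_of_irr (fn_isIrr l))
    (Helper75_CharArith.isCharacter_restrict (NP P) (Helper79_Linear.isCharacter_of_irr χ.2))

theorem fn_eq_one_iff (l : LinN P) : l.fn = (fun _ => (1 : ℂ)) ↔ l = LinN.one P := by
  constructor
  · intro h
    apply Subtype.ext
    ext x
    have := congrFun h x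
    simpa [LinN.fn, LinN.one] using this
  · rintro rfl
    funext x
    simp [LinN.fn, LinN.one]

theorem ind_one (S : Setting0 p e n P) (l : LinN P) :
    classInner (indFun (NP P) l.fn) (fun _ : G => (1 : ℂ)) = if l = LinN.one P then 1 else 0 := by
  classical
  letI : Fintype ↥(NP P) := Fintype.ofFinite _
  rw [recip l (fun _ : G => (1 : ℂ)) (fun _ _ => rfl)]
  by_cases hl : l = LinN.one P
  · rw [if_pos hl]
    have h1 : l.fn = (fun _ => (1 : ℂ)) := (fn_eq_one_iff l).mpr hl
    rw [h1]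
    exact Helper3_CharOrtho.classInner_self_of_isIrrCharacter (isIrrCharacter_one ↥(NP P))
  · rw [if_neg hl]
    exact Helper3_CharOrtho.classInner_of_isIrrCharacter_of_ne (fn_isIrr l)
      (isIrrCharacter_one ↥(NP P)) (fun h => hl ((fn_eq_one_iff l).mp h))

theorem conj_fn (l : LinN P) (x : ↥(NP P)) : conj (l.fn x) = l.inv.fn x := by
  show conj ((l.1 x : ℂˣ) : ℂ) = (((l.1⁻¹) x : ℂˣ) : ℂ)
  rw [Helper25_AbDual.conj_hom, MonoidHom.inv_apply, map_inv]

theorem ind_conj (S : Setting0 p e n P) (l : LinN P) (χ χ' : IrrCharacter G)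
    (h : ∀ g, (χ' : G → ℂ) g = conj ((χ : G → ℂ) g)) :
    classInner (indFun (NP P) l.inv.fn) (χ' : G → ℂ) =
      classInner (indFun (NP P) l.fn) (χ : G → ℂ) := by
  classical
  obtain ⟨c, hc⟩ := ind_nat S l χ
  letI : Fintype ↥(NP P) := Fintype.ofFinite _
  rw [hc]
  rw [recip l χ (Helper3_CharBridge.isClassFunction_of_isIrrCharacter χ.2)] at hc
  rw [recip l.inv χ' (Helper3_CharBridge.isClassFunction_of_isIrrCharacter χ'.2)]
  have h1 : classInner l.inv.fn (fun x : ↥(NP P) => (χ' : G → ℂ) x) =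
      conj (classInner l.fn (fun x : ↥(NP P) => (χ : G → ℂ) x)) := by
    unfold classInner
    rw [map_mul, map_inv₀, Complex.conj_natCast, map_sum]
    congr 1
    apply Finset.sum_congr rfl
    intro x _
    rw [map_mul, Complex.conj_conj, conj_fn]
    show l.inv.fn x * conj ((χ' : G → ℂ) x) = l.inv.fn x * (χ : G → ℂ) x
    rw [h, Complex.conj_conj]
  rw [h1, hc, Complex.conj_natCast]

end IND

end Cfsg.Agent.Lib.Helper95_B43_IND1
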