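import Mathlib
import Cfsg.Prelude.Def_Characters
import Cfsg.Prelude.Def_Blocks
import Cfsg.Prelude.Def_Perm
import Cfsg.Agent.Lib.Helper3_CharComplete
import Cfsg.Agent.Lib.Helper80_CharBasic
import Cfsg.Agent.Lib.Helper16_B43Defs
import Cfsg.Agent.Lib.Helper75_Induced
import Cfsg.Agent.Lib.Helper17_TIPrime
import Cfsg.Agent.Lib.Helper95_B43_IND1

/-!
# S0996 (Brauer 1943), package IND2 (helper95)

The three sum identities for the induced linear characters of `N/P`: `ind_sum`, `ind_deg`,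
`ind_pavg`.
-/

set_option autoImplicit false

namespace Cfsg.Agent.Lib.Helper95_B43_IND2

open Cfsg Cfsg.Agent.Lib.Helper16_B43Defs Cfsg.Agent.Lib.Helper3_CharComplete
  Cfsg.Agent.Lib.Helper80_CharBasic Cfsg.Agent.Lib.Helper95_B43_IND1
open scoped ComplexConjugate

section IND

variable {G : Type*} [Group G] [Fintype G] {p e n : ℕ} [Fact p.Prime] {P : Sylow p G}

/-- `pavg` as a `Finset` sum. -/
theorem pavg_eq [Fintype ↥(P : Subgroup G)] (f : G → ℂ) :
    pavg P f = (Nat.card P : ℂ)⁻¹ * ∑ x : ↥(P : Subgroup G), f x := by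
  unfold pavg
  rw [finsum_eq_sum_of_fintype]

/-- Sums over the elements of `N` lying in `P` are sums over `P`. -/
theorem sum_ite_mem [Fintype ↥(NP P)] [Fintype ↥(P : Subgroup G)] (F : G → ℂ) :
    (∑ h : ↥(NP P), open scoped Classical in
      if (h : G) ∈ (P : Subgroup G) then F (h : G) else 0) = ∑ x : ↥(P : Subgroup G), F x := by
  classical
  rw [← Finset.sum_filter]
  rw [Finset.sum_subtype (Finset.univ.filter (fun h : ↥(NP P) => (h : G) ∈ (P : Subgroup G)))
    (p := fun h : ↥(NP P) => (h : G) ∈ (P : Subgroup G)) (by simp)]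
  let φ : {h : ↥(NP P) // (h : G) ∈ (P : Subgroup G)} ≃ ↥(P : Subgroup G) :=
    { toFun := fun h => ⟨(h.1 : G), h.2⟩
      invFun := fun x => ⟨⟨(x : G), Subgroup.le_normalizer x.2⟩, x.2⟩
      left_inv := fun h => rfl
      right_inv := fun x => rfl }
  exact Fintype.sum_equiv φ _ _ (fun h => rfl)

theorem ind_sum (S : Setting0 p e n P) (χ : IrrCharacter G) :
    ∑ l : LinN P, classInner (indFun (NP P) l.fn) (χ : G → ℂ) = pavg P (χ : G → ℂ) := by
  classical
  letI : Fintype ↥(NP P) := Fintype.ofFinite _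
  letI : Fintype ↥(P : Subgroup G) := Fintype.ofFinite _
  have hp0 : (p : ℂ) ≠ 0 := Nat.cast_ne_zero.mpr (Fact.out : p.Prime).ne_zero
  have he0 : (e : ℂ) ≠ 0 := Nat.cast_ne_zero.mpr (by have := S.he2; omega)
  have h1 : ∀ l : LinN P, classInner (indFun (NP P) l.fn) (χ : G → ℂ) =
      (Nat.card ↥(NP P) : ℂ)⁻¹ * ∑ h : ↥(NP P), l.fn h * conj ((χ : G → ℂ) h) := by
    intro l
    rw [recip l χ (Helper3_CharBridge.isClassFunction_of_isIrrCharacter χ.2)]
    rfl
  simp_rw [h1]
  rw [← Finset.mul_sum, Finset.sum_comm]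
  simp_rw [← Finset.sum_mul, sum_lin_apply S]
  have h2 : ∀ h : ↥(NP P), (if (h : G) ∈ (P : Subgroup G) then (e : ℂ) else 0) *
      conj ((χ : G → ℂ) h) =
      (e : ℂ) * (if (h : G) ∈ (P : Subgroup G) then conj ((χ : G → ℂ) (h : G)) else 0) := by
    intro h
    split_ifs <;> simp
  simp_rw [h2]
  rw [← Finset.mul_sum, sum_ite_mem (fun g => conj ((χ : G → ℂ) g)), pavg_eq, S.hN, S.hP]
  have h3 : ∑ x : ↥(P : Subgroup G), conj ((χ : G → ℂ) x) =
      ∑ x : ↥(P : Subgroup G), (χ : G → ℂ) x := by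
    apply Fintype.sum_equiv (Equiv.inv ↥(P : Subgroup G))
    intro x
    rw [Equiv.inv_apply, Subgroup.coe_inv, irr_inv]
  rw [h3, Nat.cast_mul]
  field_simp

/-- The value of `Psi_l` at `1`. -/
theorem psi_one (S : Setting0 p e n P) (l : LinN P) :
    indFun (NP P) l.fn 1 = ((1 + n * p : ℕ) : ℂ) := by
  rw [Helper75_Induced.indFun_one]
  have h1 : l.fn 1 = 1 := by
    show ((l.1 1 : ℂˣ) : ℂ) = 1
    rw [map_one, Units.val_one]
  have h2 : Nat.card ↥(NP P) * (NP P).index = Nat.card G := Subgroup.card_mul_index (NP P)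
  have h3 : (NP P).index = 1 + n * p := by
    rw [← S.hn]
    exact (Sylow.card_eq_index_normalizer P).symm
  have h4 : (Nat.card ↥(NP P) : ℂ) ≠ 0 := Nat.cast_ne_zero.mpr Nat.card_pos.ne'
  rw [h1, mul_one, ← h2, h3, Nat.cast_mul]
  field_simp

/-- Elements of order `p` of `N` lie in `P`. -/
theorem mem_P_of_mem_NP {y : G} (hy : y ∈ NP P) (hyp : y ^ p = 1) : y ∈ (P : Subgroup G) := by
  have hz : IsPGroup p (Subgroup.zpowers y) := by
    intro z
    obtain ⟨k, hk⟩ := z.2
    refine ⟨1, ?_⟩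
    apply Subtype.ext
    rw [pow_one, Subgroup.coe_pow, ← hk, ← zpow_natCast, ← zpow_mul, mul_comm, zpow_mul,
      zpow_natCast, hyp, one_zpow]
    rfl
  have hle : Subgroup.zpowers y ≤ Subgroup.normalizer ((P : Subgroup G) : Set G) := by
    rw [Subgroup.zpowers_le]
    exact hy
  have hsup : IsPGroup p ↥(Subgroup.zpowers y ⊔ (P : Subgroup G)) :=
    IsPGroup.to_sup_of_normal_right' hz P.2 hle
  have heq : Subgroup.zpowers y ⊔ (P : Subgroup G) = (P : Subgroup G) :=
    P.is_maximal' hsup le_sup_right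
  rw [← heq]
  exact Subgroup.mem_sup_left (Subgroup.mem_zpowers y)

/-- `Psi_l` takes the value `1` at the nonidentity elements of `P`. -/
theorem psi_apply_of_mem (S : Setting0 p e n P) (l : LinN P) {x : G}
    (hx : x ∈ (P : Subgroup G)) (hx1 : x ≠ 1) : indFun (NP P) l.fn x = 1 := by
  classical
  letI : Fintype ↥(NP P) := Fintype.ofFinite _
  rw [Helper75_Induced.indFun_apply]
  have hxp : x ^ p = 1 := by
    have h1 : (⟨x, hx⟩ : ↥(P : Subgroup G)) ^ Nat.card ↥(P : Subgroup G) = 1 := pow_card_eq_one'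
    rw [S.hP] at h1
    exact congrArg Subtype.val h1
  have key : ∀ g : G, extendByZero (NP P) l.fn (g⁻¹ * x * g) =
      if g ∈ NP P then 1 else 0 := by
    intro g
    by_cases hg : g ∈ NP P
    · rw [if_pos hg]
      have hmem : g⁻¹ * x * g ∈ (P : Subgroup G) := by
        have := (Subgroup.mem_normalizer_iff.mp ((NP P).inv_mem hg) x).mp hx
        simpa using this
      have hmemN : g⁻¹ * x * g ∈ NP P := Subgroup.le_normalizer hmem
      rw [Helper75_Induced.extendByZero_of_mem (NP P) l.fn hmemN]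
      show ((l.1 ⟨g⁻¹ * x * g, hmemN⟩ : ℂˣ) : ℂ) = 1
      rw [l.2 ⟨g⁻¹ * x * g, hmemN⟩ hmem, Units.val_one]
    · rw [if_neg hg]
      apply Helper75_Induced.extendByZero_of_not_mem
      intro hmemN
      apply hg
      have hyp : (g⁻¹ * x * g) ^ p = 1 := by
        have : g⁻¹ * x * g = g⁻¹ * x * g⁻¹⁻¹ := by rw [inv_inv]
        rw [this, conj_pow, hxp]
        group
      have hmem : g⁻¹ * x * g⁻¹⁻¹ ∈ (P : Subgroup G) := by
        rw [inv_inv]
        exact mem_P_of_mem_NP hmemN hyp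
      have h2 := Helper17_TIPrime.mem_normalizer_of_conj_mem_prime (P : Subgroup G) S.hP hx hx1 hmem
      have h3 := (NP P).inv_mem h2
      rwa [inv_inv] at h3
  simp_rw [key]
  rw [Finset.sum_boole]
  have hc : (Finset.univ.filter (fun g : G => g ∈ NP P)).card = Nat.card ↥(NP P) :=
    (Nat.subtype_card _ (by simp)).symm
  rw [hc]
  have h4 : (Nat.card ↥(NP P) : ℂ) ≠ 0 := Nat.cast_ne_zero.mpr Nat.card_pos.ne'
  field_simp

/-- The expansion of `Psi_l` in irreducible characters, pointwise. -/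
theorem psi_expand (l : LinN P) (x : G) :
    indFun (NP P) l.fn x =
      ∑ χ : IrrCharacter G, classInner (indFun (NP P) l.fn) (χ : G → ℂ) * (χ : G → ℂ) x := by
  have h := classFunction_eq_sum (indFun (NP P) l.fn)
    (Helper75_Induced.isClassFunction_indFun (NP P) l.fn)
  have h1 := congrFun h x
  rw [Finset.sum_apply] at h1
  exact h1

theorem ind_deg (S : Setting0 p e n P) (l : LinN P) :
    ∑ χ : IrrCharacter G, classInner (indFun (NP P) l.fn) (χ : G → ℂ) * (χ : G → ℂ) 1 =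
      ((1 + n * p : ℕ) : ℂ) := by
  rw [← psi_expand l 1, psi_one S l]

theorem ind_pavg (S : Setting0 p e n P) (l : LinN P) :
    ∑ χ : IrrCharacter G, classInner (indFun (NP P) l.fn) (χ : G → ℂ) * pavg P (χ : G → ℂ) =
      ((n + 1 : ℕ) : ℂ) := by
  classical
  letI : Fintype ↥(P : Subgroup G) := Fintype.ofFinite _
  have hp0 : (p : ℂ) ≠ 0 := Nat.cast_ne_zero.mpr (Fact.out : p.Prime).ne_zero
  -- the left side is `pavg P Psi_l`
  have h1 : ∑ χ : IrrCharacter G, classInner (indFun (NP P) l.fn) (χ : G → ℂ) *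
      pavg P (χ : G → ℂ) = pavg P (indFun (NP P) l.fn) := by
    simp_rw [pavg_eq, psi_expand l]
    rw [Finset.sum_comm, Finset.mul_sum]
    apply Finset.sum_congr rfl
    intro χ _
    rw [Finset.mul_sum, Finset.mul_sum, Finset.mul_sum]
    apply Finset.sum_congr rfl
    intro x _
    ring
  rw [h1, pavg_eq]
  have h2 : ∀ x : ↥(P : Subgroup G), indFun (NP P) l.fn (x : G) =
      1 + (if x = 1 then ((n * p : ℕ) : ℂ) else 0) := by
    intro x
    by_cases hx : x = 1
    · rw [if_pos hx, hx, Subgroup.coe_one, psi_one S l]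
      push_cast
      ring
    · rw [if_neg hx, add_zero]
      exact psi_apply_of_mem S l x.2 (fun h => hx (Subtype.ext h))
  simp_rw [h2]
  rw [Finset.sum_add_distrib, Finset.sum_ite_eq' Finset.univ (1 : ↥(P : Subgroup G)),
    if_pos (Finset.mem_univ _), Finset.sum_const, Finset.card_univ, nsmul_eq_mul, mul_one,
    ← Nat.card_eq_fintype_card, S.hP]
  push_cast
  field_simp
  ring

end IND

end Cfsg.Agent.Lib.Helper95_B43_IND2
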