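import Mathlib
import Cfsg.Prelude.Def_Characters
import Cfsg.Prelude.Def_Blocks
import Cfsg.Agent.Lib.Helper3_CharComplete
import Cfsg.Agent.Lib.Helper80_CharBasic
import Cfsg.Agent.Lib.Helper25_AbDual
import Cfsg.Agent.Lib.Helper23_ZStarB
import Cfsg.Agent.Lib.Helper57_CTHyp
import Cfsg.Agent.Lib.Helper16_BrauerSetup
import Cfsg.Agent.Lib.Helper16_BrauerMain
import Cfsg.Agent.Lib.Helper16_BrauerFinal
import Cfsg.Agent.Lib.Helper16_SelfCent
import Cfsg.Agent.Lib.Helper16_B43Defs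
import Cfsg.Agent.Lib.Helper23_B43_NORM
import Cfsg.Agent.Lib.Helper23_B43_CONJ
import Cfsg.Agent.Lib.Helper95_B43_IND1
import Cfsg.Agent.Lib.Helper95_B43_IND2
import Cfsg.Agent.Lib.Helper55_B43_LAGb
import Cfsg.Agent.Lib.Helper47_B43_DEGZ
import Cfsg.Agent.Lib.Helper47_B43_DVD
import Cfsg.Agent.Lib.Helper47_B43_PERF

/-!
# Brauer 1943 (S0996): the data `BData` from the defect-one library (helper16)
-/

set_option autoImplicit false

namespace Cfsg.Agent.Lib.Helper16_B43Data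

open Cfsg Cfsg.Agent.Lib.Helper16_B43Defs Cfsg.Agent.Lib.Helper3_CharComplete
  Cfsg.Agent.Lib.Helper80_CharBasic Cfsg.Agent.Lib.Helper16_BrauerSetup
  Cfsg.Agent.Lib.Helper16_BrauerMain Cfsg.Agent.Lib.Helper16_BrauerFinal
open scoped ComplexConjugate

variable {G : Type*} [Group G] [Fintype G] {p e n : ℕ} [hp : Fact p.Prime] {P : Sylow p G}

/-- `pavg` is the multiplicity of the trivial character of `P`. -/
theorem pavg_eq_mult [Fintype ↥(P : Subgroup G)] (χ : IrrCharacter G) :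
    pavg P (χ : G → ℂ) = (mult P χ 1 : ℂ) := by
  rw [← mult_spec P χ 1]
  unfold pavg classInner
  rw [finsum_eq_sum_of_fintype]
  congr 1
  refine Finset.sum_congr rfl fun x _ => ?_
  simp [resP]

/-- DATA. -/
theorem exists_bdata (S : Setting0 p e n P) :
    ∃ D : BData p e ((p - 1) / e) n (IrrCharacter G) (LinN P),
      D.one = oneIrr G ∧ D.k1 = LinN.one P ∧
      (∀ χ, D.deg χ = charDegree (χ : G → ℂ)) ∧
      (∀ χ, (D.m1 χ : ℂ) = pavg P (χ : G → ℂ)) ∧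
      (∀ l χ, (D.c l χ : ℂ) = classInner (indFun (NP P) l.fn) (χ : G → ℂ)) ∧
      (∀ χ ∈ D.X, ∀ x ∈ (P : Subgroup G), x ≠ 1 → (χ : G → ℂ) x = (D.δ χ : ℂ)) ∧
      (2 ≤ (p - 1) / e → ∀ θ ∈ D.Y, ∃ θ' ∈ D.Y, ∀ g, (θ' : G → ℂ) g = conj ((θ : G → ℂ) g)) := by
  classical
  let _ : Fintype ↥(P : Subgroup G) := Fintype.ofFinite _
  have hfin : Finite (↥(P : Subgroup G) →* ℂˣ) :=
    Cfsg.Agent.Lib.Helper25_AbDual.finite_hom (comm_of_card P S.hP)
  let _ : Fintype (↥(P : Subgroup G) →* ℂˣ) := Fintype.ofFinite _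
  obtain ⟨M, hM⟩ := Cfsg.Agent.Lib.Helper23_ZStarB.exists_pModular p hp.out
  have hCT : CTHyp G p P := Cfsg.Agent.Lib.Helper57_CTHyp.ct_hyp p P S.hP
  have he : (Subgroup.centralizer ((P : Subgroup G) : Set G)).relIndex
      (Subgroup.normalizer ((P : Subgroup G) : Set G)) = e := by
    rw [S.hC]
    exact Cfsg.Agent.Lib.Helper55_B43_LAGb.relIndex_P S
  obtain ⟨X0, Y0, εX0, ε0, hB0, hdisj0, hXc0, hYc0, hXp0, hε0, hYp0, hYu0, hYs0⟩ :=
    brauer_structure P hM S.hP e he hCT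
  obtain ⟨X, Y, εX, ε, hB, hdisj, hXc, hYc, hXp, hε, hYp, hYu, hYs, h1X, h1ε⟩ :=
    Cfsg.Agent.Lib.Helper23_B43_NORM.structure_one P hM S.hP e S.he2 X0 Y0 εX0 ε0 hB0 hdisj0
      hXc0 hYc0 hXp0 hε0 hYp0 hYu0 hYs0
  have hppos : 0 < p := hp.out.pos
  have hepos : 0 < e := by have := S.he2; omega
  have hedvd : e ∣ p - 1 := Dvd.intro _ hYc
  have hYcard : Y.card = (p - 1) / e := (Nat.div_eq_of_eq_mul_right hepos hYc.symm).symm
  -- membership in the block
  have hBdeg : ∀ χ : IrrCharacter G, (χ ∈ X ∨ χ ∈ Y) ↔ ¬ p ∣ charDegree (χ : G → ℂ) := by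
    intro χ
    rw [← hB χ]
    exact Cfsg.Agent.Lib.Helper16_SelfCent.mem_principalBlock_iff hM S.hP S.hC χ
  -- the multiplicities c
  have hc := fun (l : LinN P) (χ : IrrCharacter G) =>
    Cfsg.Agent.Lib.Helper95_B43_IND1.ind_nat S l χ
  choose c hcspec using hc
  have hm1 : ∀ χ : IrrCharacter G, ((mult P χ 1 : ℕ) : ℂ) = pavg P (χ : G → ℂ) :=
    fun χ => (pavg_eq_mult χ).symm
  have hdegC : ∀ χ : IrrCharacter G, ((charDegree (χ : G → ℂ) : ℕ) : ℂ) = (χ : G → ℂ) 1 :=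
    charDegree_cast
  have hsumX : ∀ χ ∈ X, ∑ φ : ↥(P : Subgroup G) →* ℂˣ, nn P χ φ = - ((p : ℤ) - 1) * εX χ := by
    intro χ hχ
    rw [← sum_subtype_ne_one P (fun φ => nn P χ φ) (nn_one P χ)]
    rw [Finset.sum_congr rfl (fun i _ => (hXp χ hχ).2 i.1 i.2), Finset.sum_const, Finset.card_univ,
      card_ne_one P S.hP, nsmul_eq_mul, Nat.cast_sub hp.out.one_le]
    push_cast
    ring
  refine ⟨{ X := X, Y := Y, one := oneIrr G, k1 := LinN.one P
            deg := fun χ => charDegree (χ : G → ℂ)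
            m1 := fun χ => mult P χ 1
            δ := εX, ε := ε, c := c
            hdisj := hdisj, hXcard := hXc, hYcard := hYcard
            hκ := Cfsg.Agent.Lib.Helper95_B43_IND1.card_linN S
            het := Nat.mul_div_cancel' hedvd
            hone := h1X, hδone := h1ε
            hdeg1 := ?_, hdegone := ?_
            hδ := fun χ hχ => (hXp χ hχ).1
            hε := hε
            hdegX := ?_, hdegY := ?_, hdegYeq := ?_, hdegZ := ?_, hdegpos := ?_, hdvd := ?_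
            hI1 := ?_, hI2 := ?_, hI3 := ?_, hI4 := ?_ }, rfl, rfl, fun _ => rfl, hm1,
          fun l χ => (hcspec l χ).symm, ?_, ?_⟩
  · -- hdeg1
    exact fun χ h => Cfsg.Agent.Lib.Helper47_B43_PERF.eq_oneIrr_of_deg_one S.hperf χ h
  · -- hdegone
    unfold charDegree
    show ⌊((1 : ℂ)).re⌋₊ = 1
    simp
  · -- hdegX
    intro χ hχ
    show ((charDegree (χ : G → ℂ) : ℕ) : ℤ) = (p : ℤ) * ((mult P χ 1 : ℕ) : ℤ) - ((p : ℤ) - 1) * εX χ
    rw [degree_eq P S.hP χ, hsumX χ hχ]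
    ring
  · -- hdegY
    intro θ hθ
    show ((charDegree (θ : G → ℂ) : ℕ) : ℤ) = (p : ℤ) * ((mult P θ 1 : ℕ) : ℤ) + ε * e
    rw [degree_eq P S.hP θ, rowsum_Y P θ ε e (hYp θ hθ) (hYs θ hθ)]
  · -- hdegYeq
    intro χ hχ ψ hψ
    have h1 : ¬ p ∣ orderOf (1 : G) := by
      rw [orderOf_one]
      exact hp.out.one_lt.ne' ∘ Nat.dvd_one.mp
    have e1 := exceptional_reg P hM S.hP e hepos X Y εX ε hB hdisj hXp hYp hYu hYs h1 χ hχ
    have e2 := exceptional_reg P hM S.hP e hepos X Y εX ε hB hdisj hXp hYp hYu hYs h1 ψ hψ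
    rw [← e2] at e1
    have hεC : (ε : ℂ) ≠ 0 := by
      rcases hε with h | h <;> rw [h] <;> norm_num
    have e3 := (starRingEnd ℂ).injective (mul_left_cancel₀ hεC e1)
    have e4 : ((charDegree (χ : G → ℂ) : ℕ) : ℂ) = ((charDegree (ψ : G → ℂ) : ℕ) : ℂ) := by
      rw [hdegC, hdegC, e3]
    exact_mod_cast e4
  · -- hdegZ
    intro χ hX hY
    have hdvd : p ∣ charDegree (χ : G → ℂ) := by
      by_contra hcon
      rcases (hBdeg χ).mpr hcon with h | h
      · exact hX h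
      · exact hY h
    have h1 := Cfsg.Agent.Lib.Helper47_B43_DEGZ.pavg_of_dvd S χ hdvd
    rw [← hm1 χ] at h1
    have h2 : ((charDegree (χ : G → ℂ) : ℕ) : ℂ) = ((p * mult P χ 1 : ℕ) : ℂ) := by
      rw [← h1]; push_cast; ring
    exact_mod_cast h2
  · -- hdegpos
    intro χ
    obtain ⟨k, hk, hk1⟩ := irr_apply_one χ
    have h2 : ((charDegree (χ : G → ℂ) : ℕ) : ℂ) = (k : ℂ) := by rw [hdegC, hk1]
    have h3 : charDegree (χ : G → ℂ) = k := by exact_mod_cast h2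
    show 0 < charDegree (χ : G → ℂ)
    rw [h3]; exact hk
  · -- hdvd
    intro χ h
    exact Cfsg.Agent.Lib.Helper47_B43_DVD.deg_dvd S χ ((hBdeg χ).mp h)
  · -- hI1
    intro χ
    have h1 := Cfsg.Agent.Lib.Helper95_B43_IND2.ind_sum S χ
    rw [← hm1 χ] at h1
    have h2 : ((∑ l, c l χ : ℕ) : ℂ) = ((mult P χ 1 : ℕ) : ℂ) := by
      rw [← h1]
      push_cast
      exact Finset.sum_congr rfl fun l _ => (hcspec l χ).symm
    exact_mod_cast h2
  · -- hI2
    intro l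
    have h1 := Cfsg.Agent.Lib.Helper95_B43_IND2.ind_deg S l
    have h2 : ((∑ χ, c l χ * charDegree (χ : G → ℂ) : ℕ) : ℂ) = ((1 + n * p : ℕ) : ℂ) := by
      rw [← h1]
      push_cast
      refine Finset.sum_congr rfl fun χ _ => ?_
      rw [hcspec l χ, ← hdegC χ]
    exact_mod_cast h2
  · -- hI3
    intro l
    have h1 := Cfsg.Agent.Lib.Helper95_B43_IND2.ind_pavg S l
    have h2 : ((∑ χ, c l χ * mult P χ 1 : ℕ) : ℂ) = ((n + 1 : ℕ) : ℂ) := by
      rw [← h1]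
      push_cast
      refine Finset.sum_congr rfl fun χ _ => ?_
      rw [hcspec l χ, ← hm1 χ]
    exact_mod_cast h2
  · -- hI4
    intro l
    have h1 := Cfsg.Agent.Lib.Helper95_B43_IND1.ind_one S l
    have h2 : (c l (oneIrr G) : ℂ) = if l = LinN.one P then 1 else 0 := by
      rw [← hcspec l (oneIrr G)]
      exact h1
    by_cases hl : l = LinN.one P
    · rw [if_pos hl] at h2 ⊢
      exact_mod_cast h2
    · rw [if_neg hl] at h2 ⊢
      exact_mod_cast h2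
  · -- values on X
    intro χ hχ x hx hx1
    exact value_X P S.hP χ (εX χ) (hXp χ hχ).2 ⟨x, hx⟩ (fun h => hx1 (congrArg Subtype.val h))
  · -- Y closed under conjugation
    intro ht θ hθ
    have he' : e < p - 1 := by
      have h1 : 2 ≤ Y.card := by
        show 2 ≤ Y.card
        rw [hYcard]; exact ht
      nlinarith
    exact Cfsg.Agent.Lib.Helper23_B43_CONJ.conj_mem_Y P hM S.hP e he' X Y εX ε hB hXp hYs θ hθ

end Cfsg.Agent.Lib.Helper16_B43Data
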