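import Mathlib
import Cfsg.Prelude.Def_Characters
import Cfsg.Prelude.Def_Blocks
import Cfsg.Agent.Lib.Helper16_B43Defs
import Cfsg.Agent.Lib.Helper17_Sylow
import Cfsg.Agent.Lib.Helper15_HallCount
import Cfsg.Agent.Lib.Helper80_CharBasic
import Cfsg.Agent.S4503

/-!
# S0996 package A (helper17): an irreducible character without trivial constituent on `P`
is faithful, so Brauer's `(p-1)/2` bound (S4503) applies.
-/

set_option autoImplicit false

namespace Cfsg.Agent.Lib.Helper17_B43_A

open Cfsg Cfsg.Agent.Lib.Helper16_B43Defs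

theorem degree_bound {G : Type*} [Group G] [Fintype G] {p e n : ℕ} [Fact p.Prime]
    {P : Sylow p G} (S : Setting p e n P) (θ : IrrCharacter G)
    (hθ : pavg P (θ : G → ℂ) = 0) : p ≤ 2 * charDegree (θ : G → ℂ) + 1 := by
  have hp : p.Prime := Fact.out
  have hchar : IsCharacter G (θ : G → ℂ) := by
    obtain ⟨k, ρ, _, hρ⟩ := θ.2
    exact ⟨k, ρ, hρ⟩
  obtain ⟨K, hKn, hK⟩ := Cfsg.Agent.Lib.Helper15_HallCount.exists_normal_ker hchar
  obtain ⟨d, hd0, hd⟩ := Cfsg.Agent.Lib.Helper80_CharBasic.irr_apply_one θ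
  -- the kernel is a p'-group
  have hpK : ¬ p ∣ Nat.card K := by
    intro hdvd
    obtain ⟨k, hk⟩ := exists_prime_orderOf_dvd_card' (G := K) p hdvd
    have hk' : orderOf (k : G) = p := by rw [Subgroup.orderOf_coe, hk]
    obtain ⟨Q, hQ⟩ := Cfsg.Agent.Lib.Helper17_Sylow.exists_sylow_eq_zpowers
      (G := G) (p := p) (fun Q => by
        obtain ⟨g, rfl⟩ := MulAction.exists_smul_eq G P Q
        exact (Nat.card_congr (Sylow.equivSMul P g).symm.toEquiv).trans S.hP) (k : G) hk'
    have hQK : (Q : Subgroup G) ≤ K := by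
      rw [hQ, Subgroup.zpowers_le]
      exact k.2
    have hPK : (P : Subgroup G) ≤ K :=
      Cfsg.Agent.Lib.Helper17_Sylow.sylow_le_of_normal K Q P hQK
    have hval : ∀ x : ↥(P : Subgroup G), (θ : G → ℂ) x = (θ : G → ℂ) 1 := fun x =>
      (hK x).1 (hPK x.2)
    have h1 : pavg P (θ : G → ℂ) = (θ : G → ℂ) 1 := by
      unfold pavg
      let _ : Fintype ↥(P : Subgroup G) := Fintype.ofFinite _
      rw [finsum_eq_sum_of_fintype]
      simp_rw [hval]
      rw [Finset.sum_const, Finset.card_univ, nsmul_eq_mul, ← Nat.card_eq_fintype_card,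
        ← mul_assoc, inv_mul_cancel₀, one_mul]
      rw [Nat.cast_ne_zero]
      exact Nat.card_pos.ne'
    rw [h1, hd] at hθ
    have : d = 0 := by exact_mod_cast hθ
    omega
  have hKbot : K = ⊥ := S.hcore K hKn hpK
  -- the arithmetic hypotheses of S4503
  have hdiv : p ∣ Nat.card G := by
    rw [← S.hP]
    exact Subgroup.card_subgroup_dvd_card _
  have hfac : (Nat.card G).factorization p = 1 := by
    have h1 := Sylow.card_eq_multiplicity P
    rw [S.hP] at h1
    have h2 : p ^ 1 = p ^ (Nat.card G).factorization p := by rw [pow_one]; exact h1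
    exact (Nat.pow_right_injective hp.two_le h2).symm
  have hsq : ¬ p ^ 2 ∣ Nat.card G := by
    intro h
    have := (hp.pow_dvd_iff_le_factorization (Nat.card_pos (α := G)).ne').1 h
    omega
  have hnn : ∀ H : Subgroup G, H.Normal → Nat.card H ≠ p := by
    intro H hH hcard
    have hHp : IsPGroup p H := IsPGroup.of_card (n := 1) (by rw [hcard, pow_one])
    obtain ⟨Q, hQ⟩ := hHp.exists_le_sylow
    have hQc : Nat.card (Q : Subgroup G) = p := by
      obtain ⟨g, rfl⟩ := MulAction.exists_smul_eq G P Q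
      exact (Nat.card_congr (Sylow.equivSMul P g).symm.toEquiv).trans S.hP
    have hHQ : H = (Q : Subgroup G) :=
      Subgroup.eq_of_le_of_card_ge hQ (by rw [hQc, hcard])
    have hQn : (Q : Subgroup G).Normal := hHQ ▸ hH
    have h1 : Nat.card (Sylow p G) = 1 := by
      have := Sylow.unique_of_normal Q hQn
      exact Nat.card_unique
    have h2 := S.hn
    rw [h1] at h2
    have hn1 := S.hn1
    have : 0 < n * p := Nat.mul_pos (by omega) hp.pos
    omega
  refine Cfsg.Agent.S4503.result p hp hdiv hsq hnn (θ : G → ℂ) hchar ?_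
  intro g hg
  have : g ∈ K := (hK g).2 hg
  rw [hKbot] at this
  exact Subgroup.mem_bot.1 this

end Cfsg.Agent.Lib.Helper17_B43_A
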