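import Mathlib
import Cfsg.Prelude.Def_Characters
import Cfsg.Agent.Lib.Helper75_Induced

/-!
# The norm of a permutation character (helper17)

`⟨1_H^G, 1_H^G⟩ = |H|⁻² ∑_{x ∈ G} |H ∩ x H x⁻¹|` (Mackey for the trivial character, in the
elementary counting form).
-/

set_option autoImplicit false

namespace Cfsg.Agent.Lib.Helper17_IndNorm

open scoped ComplexConjugate Pointwise
open Cfsg.Agent.Lib.Helper75_Induced

variable {G : Type*} [Group G]

theorem extendByZero_one_apply (H : Subgroup G) [DecidablePred (· ∈ H)] (g : G) :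
    Cfsg.extendByZero H (fun _ => (1 : ℂ)) g = if g ∈ H then 1 else 0 := by
  by_cases hg : g ∈ H
  · rw [if_pos hg, extendByZero_of_mem H _ hg]
  · rw [if_neg hg, extendByZero_of_not_mem H _ hg]

theorem mem_conj_smul_iff (H : Subgroup G) (x h : G) :
    h ∈ (MulAut.conj x • H : Subgroup G) ↔ x⁻¹ * h * x ∈ H := by
  rw [Subgroup.mem_pointwise_smul_iff_inv_smul_mem]
  simp [MulAut.smul_def]

/-- `⟨1_H^G, 1_H^G⟩ = |H|⁻² ∑_{x ∈ G} |H ∩ x H x⁻¹|`. -/
theorem classInner_indFun_one [Fintype G] (H : Subgroup G) :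
    Cfsg.classInner (Cfsg.indFun H (fun _ => (1 : ℂ))) (Cfsg.indFun H (fun _ => (1 : ℂ))) =
      ((Nat.card H : ℂ)⁻¹) ^ 2 *
        ((∑ x : G, Nat.card (H ⊓ MulAut.conj x • H : Subgroup G) : ℕ) : ℂ) := by
  classical
  let _ : Fintype H := Fintype.ofFinite H
  rw [frobenius_reciprocity H _ _ (isClassFunction_indFun H _)]
  unfold Cfsg.classInner
  simp only [one_mul]
  have h1 : ∀ h : H, conj (Cfsg.indFun H (fun _ => (1 : ℂ)) (h : G)) =
      (Nat.card H : ℂ)⁻¹ * ∑ x : G, (if x⁻¹ * (h : G) * x ∈ H then (1 : ℂ) else 0) := by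
    intro h
    rw [indFun_apply, map_mul, map_inv₀, Complex.conj_natCast, map_sum]
    congr 1
    apply Finset.sum_congr rfl
    intro x _
    rw [extendByZero_one_apply]
    split_ifs <;> simp
  simp_rw [h1]
  rw [← Finset.mul_sum, ← mul_assoc, ← pow_two, Finset.sum_comm]
  congr 1
  rw [Nat.cast_sum]
  apply Finset.sum_congr rfl
  intro x _
  rw [Finset.sum_boole]
  congr 1
  rw [Nat.card_eq_fintype_card, ← Fintype.card_subtype]
  symm
  apply Fintype.card_congr
  refine ⟨fun k => ⟨⟨k.1, k.2.1⟩, ?_⟩, fun h => ⟨h.1.1, h.1.2, ?_⟩, ?_, ?_⟩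
  · have h2 : (k : G) ∈ (MulAut.conj x • H : Subgroup G) := k.2.2
    exact (mem_conj_smul_iff H x _).1 h2
  · exact (mem_conj_smul_iff H x _).2 h.2
  · intro k; rfl
  · intro h; rfl

end Cfsg.Agent.Lib.Helper17_IndNorm
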