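import Mathlib
import Cfsg.Prelude.Def_Characters
import Cfsg.Agent.Lib.Helper75_Induced
import Cfsg.Agent.Lib.Helper17_Sylow
import Cfsg.Agent.Lib.Helper17_IndNorm

/-!
# The rank of the action on the Sylow subgroups of prime order (helper17)

`P` a Sylow `p`-subgroup of order `p`, `N = N_G(P)` of order `p e`, `1 + n p` Sylow
`p`-subgroups.  Then `N ∩ N(Q)` has order dividing `e` for `Q ≠ P`,
`⟨1_N^G, 1_N^G⟩ = |N|⁻² S` with `S = ∑_x |N ∩ x N x⁻¹| ≤ |N|² (1 + n)`, and equality forces all
`|N ∩ N(Q)| = e`.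
-/

set_option autoImplicit false

namespace Cfsg.Agent.Lib.Helper17_SylowRank

open Subgroup
open scoped Pointwise
open Cfsg.Agent.Lib.Helper17_Sylow Cfsg.Agent.Lib.Helper17_IndNorm

variable {G : Type*} [Group G]

theorem mem_normalizer_smul_sylow {p : ℕ} (x k : G) (P : Sylow p G) :
    k ∈ normalizer (((x • P : Sylow p G) : Subgroup G) : Set G) ↔
      x⁻¹ * k * x ∈ normalizer ((P : Subgroup G) : Set G) := by
  rw [← smul_eq_iff_mem_normalizer', ← smul_eq_iff_mem_normalizer', mul_smul, mul_smul]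
  constructor
  · intro h
    rw [h, inv_smul_smul]
  · intro h
    have := congrArg (fun R => x • R) h
    simpa using this

theorem conj_smul_normalizer {p : ℕ} (x : G) (P : Sylow p G) :
    (MulAut.conj x • normalizer ((P : Subgroup G) : Set G) : Subgroup G) =
      normalizer (((x • P : Sylow p G) : Subgroup G) : Set G) := by
  ext k
  rw [mem_conj_smul_iff, mem_normalizer_smul_sylow]

/-- Two distinct Sylow subgroups of order `p`: the intersection of the normalizers is a
`p'`-group, of order dividing `e = |N(P) : P|`. -/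
theorem card_inf_normalizer_dvd [Finite G] {p : ℕ} [hp : Fact p.Prime] (P Q : Sylow p G)
    (hP : Nat.card (P : Subgroup G) = p) (e : ℕ)
    (hN : Nat.card (normalizer ((P : Subgroup G) : Set G)) = p * e) (hQ : Q ≠ P) :
    Nat.card (normalizer ((P : Subgroup G) : Set G) ⊓ normalizer ((Q : Subgroup G) : Set G) :
      Subgroup G) ∣ e := by
  set K : Subgroup G := normalizer ((P : Subgroup G) : Set G) ⊓ normalizer ((Q : Subgroup G) : Set G)
    with hK
  have hQc : Nat.card (Q : Subgroup G) = p := by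
    obtain ⟨g, rfl⟩ := MulAction.exists_smul_eq G P Q
    exact (Nat.card_congr (Sylow.equivSMul P g).symm.toEquiv).trans hP
  have h1 : Nat.card K ∣ p * e := by
    rw [← hN]
    exact Subgroup.card_dvd_of_le inf_le_left
  have h2 : Nat.Coprime (Nat.card K) p := by
    rw [Nat.coprime_comm, Nat.Prime.coprime_iff_not_dvd hp.out]
    intro hdvd
    obtain ⟨k, hk⟩ := exists_prime_orderOf_dvd_card' (G := K) p hdvd
    have hk' : orderOf (k : G) = p := by rw [Subgroup.orderOf_coe, hk]
    have hkP : (k : G) ∈ (P : Subgroup G) :=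
      mem_sylow_of_mem_normalizer P _ hk' (k.2.1)
    have hkQ : (k : G) ∈ (Q : Subgroup G) :=
      mem_sylow_of_mem_normalizer Q _ hk' (k.2.2)
    apply hQ
    apply Sylow.ext
    rw [sylow_eq_zpowers P hP _ hkP hk', sylow_eq_zpowers Q hQc _ hkQ hk']
  exact (Nat.Coprime.dvd_mul_left h2).1 h1

/-- The sum `S = ∑_x |N ∩ x N x⁻¹|` for `N = N_G(P)`. -/
noncomputable def rankSum [Fintype G] {p : ℕ} (P : Sylow p G) : ℕ :=
  ∑ x : G, Nat.card (normalizer ((P : Subgroup G) : Set G) ⊓
    MulAut.conj x • normalizer ((P : Subgroup G) : Set G) : Subgroup G)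

/-- `⟨1_N^G, 1_N^G⟩ = |N|⁻² S`. -/
theorem classInner_indFun_normalizer [Fintype G] {p : ℕ} (P : Sylow p G) :
    Cfsg.classInner (Cfsg.indFun (normalizer ((P : Subgroup G) : Set G)) (fun _ => (1 : ℂ)))
      (Cfsg.indFun (normalizer ((P : Subgroup G) : Set G)) (fun _ => (1 : ℂ))) =
      ((Nat.card (normalizer ((P : Subgroup G) : Set G)) : ℂ)⁻¹) ^ 2 * (rankSum P : ℂ) :=
  classInner_indFun_one _

theorem rankSum_term_of_mem {p : ℕ} (P : Sylow p G) {x : G}
    (hx : x ∈ normalizer ((P : Subgroup G) : Set G)) :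
    (normalizer ((P : Subgroup G) : Set G) ⊓
      MulAut.conj x • normalizer ((P : Subgroup G) : Set G) : Subgroup G) =
      normalizer ((P : Subgroup G) : Set G) := by
  rw [conj_smul_normalizer, smul_eq_iff_mem_normalizer'.2 hx, inf_idem]

theorem rankSum_term_of_not_mem [Finite G] {p : ℕ} [hp : Fact p.Prime] (P : Sylow p G)
    (hP : Nat.card (P : Subgroup G) = p) (e : ℕ)
    (hN : Nat.card (normalizer ((P : Subgroup G) : Set G)) = p * e) {x : G}
    (hx : x ∉ normalizer ((P : Subgroup G) : Set G)) :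
    Nat.card (normalizer ((P : Subgroup G) : Set G) ⊓
      MulAut.conj x • normalizer ((P : Subgroup G) : Set G) : Subgroup G) ∣ e := by
  rw [conj_smul_normalizer]
  apply card_inf_normalizer_dvd P (x • P) hP e hN
  intro h
  exact hx (smul_eq_iff_mem_normalizer'.1 h)

/-- `S ≤ |N|² (1 + n)`, and equality forces `|N(P) ∩ N(Q)| = e` for all `Q ≠ P`. -/
theorem rankSum_le [Fintype G] {p : ℕ} [hp : Fact p.Prime] (P : Sylow p G)
    (hP : Nat.card (P : Subgroup G) = p) (e n : ℕ)
    (hN : Nat.card (normalizer ((P : Subgroup G) : Set G)) = p * e)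
    (hS : Nat.card (Sylow p G) = 1 + n * p) :
    rankSum P ≤ (p * e) ^ 2 * (1 + n) ∧
      (rankSum P = (p * e) ^ 2 * (1 + n) → ∀ Q : Sylow p G, Q ≠ P →
        Nat.card (normalizer ((P : Subgroup G) : Set G) ⊓
          normalizer ((Q : Subgroup G) : Set G) : Subgroup G) = e) := by
  classical
  set N : Subgroup G := normalizer ((P : Subgroup G) : Set G) with hNdef
  have hG : Nat.card G = p * e * (1 + n * p) := by
    rw [← card_normalizer_mul_card_sylow P, hN, hS]
  have he : 0 < e := by
    rcases Nat.eq_zero_or_pos e with h | h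
    · exfalso
      have : 0 < Nat.card N := Nat.card_pos
      rw [hN, h, mul_zero] at this
      exact lt_irrefl _ this
    · exact h
  -- the bounding function
  set g : G → ℕ := fun x => if x ∈ N then p * e else e with hg
  have hle : ∀ x ∈ (Finset.univ : Finset G),
      Nat.card (N ⊓ MulAut.conj x • N : Subgroup G) ≤ g x := by
    intro x _
    by_cases hx : x ∈ N
    · simp only [hg, if_pos hx]
      rw [rankSum_term_of_mem P hx, hN]
    · simp only [hg, if_neg hx]
      exact Nat.le_of_dvd he (rankSum_term_of_not_mem P hP e hN hx)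
  have hsum : ∑ x : G, g x = (p * e) ^ 2 * (1 + n) := by
    simp only [hg]
    rw [Finset.sum_ite, Finset.sum_const, Finset.sum_const, smul_eq_mul, smul_eq_mul]
    have h1 : (Finset.univ.filter (fun x : G => x ∈ N)).card = p * e := by
      rw [← hN, Nat.card_eq_fintype_card, Fintype.card_subtype]
    have h2 : (Finset.univ.filter (fun x : G => ¬ x ∈ N)).card = p * e * (n * p) := by
      have h3 := Finset.card_filter_add_card_filter_not (s := (Finset.univ : Finset G))
        (fun x : G => x ∈ N)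
      rw [h1, Finset.card_univ, ← Nat.card_eq_fintype_card, hG] at h3
      have : p * e * (1 + n * p) = p * e + p * e * (n * p) := by ring
      omega
    rw [h1, h2]
    ring
  refine ⟨?_, ?_⟩
  · rw [← hsum]
    exact Finset.sum_le_sum hle
  · intro heq Q hQ
    have heq' : ∑ x : G, Nat.card (N ⊓ MulAut.conj x • N : Subgroup G) = ∑ x : G, g x := by
      rw [hsum]; exact heq
    have hall := (Finset.sum_eq_sum_iff_of_le hle).1 heq'
    obtain ⟨x, rfl⟩ := MulAction.exists_smul_eq G P Q
    have hx : x ∉ N := fun h => hQ (smul_eq_iff_mem_normalizer'.2 h)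
    have := hall x (Finset.mem_univ x)
    simp only [hg, if_neg hx] at this
    rw [← conj_smul_normalizer]
    exact this

/-- Rank form: if `⟨1_N^G, 1_N^G⟩ = 1 + n` then all two-point stabilizers have order `e`. -/
theorem card_inf_normalizer_of_classInner [Fintype G] {p : ℕ} [hp : Fact p.Prime] (P : Sylow p G)
    (hP : Nat.card (P : Subgroup G) = p) (e n : ℕ)
    (hN : Nat.card (normalizer ((P : Subgroup G) : Set G)) = p * e)
    (hS : Nat.card (Sylow p G) = 1 + n * p)
    (hrank : Cfsg.classInner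
      (Cfsg.indFun (normalizer ((P : Subgroup G) : Set G)) (fun _ => (1 : ℂ)))
      (Cfsg.indFun (normalizer ((P : Subgroup G) : Set G)) (fun _ => (1 : ℂ))) = (1 + n : ℂ)) :
    ∀ Q : Sylow p G, Q ≠ P →
      Nat.card (normalizer ((P : Subgroup G) : Set G) ⊓
        normalizer ((Q : Subgroup G) : Set G) : Subgroup G) = e := by
  apply (rankSum_le P hP e n hN hS).2
  rw [classInner_indFun_normalizer, hN] at hrank
  have hpe : ((p * e : ℕ) : ℂ) ≠ 0 := by
    rw [Nat.cast_ne_zero, ← hN]
    exact Nat.card_pos.ne'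
  have h1 : (rankSum P : ℂ) = ((p * e : ℕ) : ℂ) ^ 2 * (1 + n : ℂ) := by
    rw [← hrank, ← mul_assoc, ← mul_pow, mul_inv_cancel₀ hpe, one_pow, one_mul]
  exact_mod_cast h1

/-- Inequality form: if `⟨1_N^G, 1_N^G⟩ = c` with `c` a natural number then `c ≤ 1 + n`. -/
theorem classInner_le [Fintype G] {p : ℕ} [hp : Fact p.Prime] (P : Sylow p G)
    (hP : Nat.card (P : Subgroup G) = p) (e n c : ℕ)
    (hN : Nat.card (normalizer ((P : Subgroup G) : Set G)) = p * e)
    (hS : Nat.card (Sylow p G) = 1 + n * p)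
    (hrank : Cfsg.classInner
      (Cfsg.indFun (normalizer ((P : Subgroup G) : Set G)) (fun _ => (1 : ℂ)))
      (Cfsg.indFun (normalizer ((P : Subgroup G) : Set G)) (fun _ => (1 : ℂ))) = (c : ℂ)) :
    c ≤ 1 + n := by
  have hle := (rankSum_le P hP e n hN hS).1
  rw [classInner_indFun_normalizer, hN] at hrank
  have hpe : ((p * e : ℕ) : ℂ) ≠ 0 := by
    rw [Nat.cast_ne_zero, ← hN]
    exact Nat.card_pos.ne'
  have hpe' : 0 < p * e := by
    rw [← hN]; exact Nat.card_pos
  have h1 : (rankSum P : ℂ) = ((p * e : ℕ) : ℂ) ^ 2 * (c : ℂ) := by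
    rw [← hrank, ← mul_assoc, ← mul_pow, mul_inv_cancel₀ hpe, one_pow, one_mul]
  have h2 : rankSum P = (p * e) ^ 2 * c := by exact_mod_cast h1
  rw [h2] at hle
  exact Nat.le_of_mul_le_mul_left hle (by positivity)

end Cfsg.Agent.Lib.Helper17_SylowRank
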