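import Mathlib
import Cfsg.Prelude.Def_Characters
import Cfsg.Prelude.Def_Blocks
import Cfsg.Agent.Lib.Helper16_B43Defs
import Cfsg.Agent.Lib.Helper17_SylowRank

/-!
# S0996 package LAGa (helper17): the rank of the permutation character on the Sylow
subgroups controls the two-point stabilizers.
-/

set_option autoImplicit false

namespace Cfsg.Agent.Lib.Helper17_B43_LAGa

open Cfsg Cfsg.Agent.Lib.Helper16_B43Defs

theorem twoPt_of_rank {G : Type*} [Group G] [Fintype G] {p e n : ℕ} [Fact p.Prime]
    {P : Sylow p G} (S : Setting0 p e n P)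
    (hrank : classInner (indFun (NP P) (fun _ => (1 : ℂ))) (indFun (NP P) (fun _ => (1 : ℂ))) =
      ((n + 1 : ℕ) : ℂ)) :
    TwoPt P e := by
  intro Q hQ
  refine Cfsg.Agent.Lib.Helper17_SylowRank.card_inf_normalizer_of_classInner P S.hP e n S.hN S.hn
    ?_ Q hQ
  rw [hrank]
  push_cast
  ring

end Cfsg.Agent.Lib.Helper17_B43_LAGa
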