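import Mathlib
import Cfsg.Prelude.Def_Characters
import Cfsg.Prelude.Def_Blocks
import Cfsg.Prelude.Def_Perm
import Cfsg.Agent.Lib.Helper16_B43Defs

/-!
# S0996 package E2c (helper20, for helper16): an elementary abelian TI centralizer gives a subgroup
of index `m`
-/

set_option autoImplicit false

namespace Cfsg.Agent.Lib.Helper20_B43_E2c

open Cfsg Cfsg.Agent.Lib.Helper16_B43Defs

theorem exists_index {G : Type*} [Group G] [Finite G] (j : G) (hj : orderOf j = 2) (m : ℕ)
    (hm : 3 ≤ m) (hC : Nat.card (Subgroup.centralizer ({j} : Set G)) = m - 1)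
    (hG : Nat.card G = m * (m - 1) * (m - 2))
    (hconj : ∀ g ∈ Subgroup.centralizer ({j} : Set G), g ≠ 1 → IsConj g j) :
    ∃ H : Subgroup G, H.index = m := by
  classical
  set C : Subgroup G := Subgroup.centralizer ({j} : Set G) with hCdef
  have hmemC : ∀ x : G, x ∈ C ↔ j * x = x * j := fun x =>
    Subgroup.mem_centralizer_singleton_iff.trans eq_comm
  have hjC : j ∈ C := (hmemC j).2 rfl
  have hj1 : j ≠ 1 := by
    intro h
    rw [h, orderOf_one] at hj
    omega
  have hjj : j * j = 1 := by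
    have := pow_orderOf_eq_one j
    rwa [hj, sq] at this
  -- every element of `C` is an involution or trivial
  have hsq : ∀ x ∈ C, x * x = 1 := by
    intro x hx
    by_cases hx1 : x = 1
    · rw [hx1, one_mul]
    · obtain ⟨c, hc⟩ := isConj_iff.1 (hconj x hx hx1)
      have : c * (x * x) * c⁻¹ = 1 := by
        calc c * (x * x) * c⁻¹ = (c * x * c⁻¹) * (c * x * c⁻¹) := by group
          _ = 1 := by rw [hc, hjj]
      have h2 : c * (x * x) = c := mul_inv_eq_one.1 this
      exact mul_eq_left.1 h2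
  have hinv : ∀ x ∈ C, x⁻¹ = x := fun x hx => inv_eq_of_mul_eq_one_right (hsq x hx)
  -- `C` is abelian
  have hab : ∀ x ∈ C, ∀ y ∈ C, x * y = y * x := by
    intro x hx y hy
    calc x * y = (x * y)⁻¹ := (hinv _ (C.mul_mem hx hy)).symm
      _ = y⁻¹ * x⁻¹ := mul_inv_rev x y
      _ = y * x := by rw [hinv x hx, hinv y hy]
  -- conjugating elements normalize `C`
  have hnorm : ∀ g : G, g * j * g⁻¹ ∈ C → g ∈ Subgroup.normalizer (C : Set G) := by
    intro g hg
    have h1 : g⁻¹ ∈ Subgroup.normalizer (C : Set G) := by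
      apply Subgroup.mem_normalizer_fintype
      intro n hn
      rw [inv_inv]
      show g⁻¹ * n * g ∈ C
      rw [hmemC]
      have h2 := hab n hn _ hg
      calc j * (g⁻¹ * n * g) = g⁻¹ * ((g * j * g⁻¹) * n) * g := by group
        _ = g⁻¹ * (n * (g * j * g⁻¹)) * g := by rw [h2]
        _ = g⁻¹ * n * g * j := by group
    have := (Subgroup.normalizer (C : Set G)).inv_mem h1
    rwa [inv_inv] at this
  set H : Subgroup G := Subgroup.normalizer (C : Set G) with hHdef
  have hCH : C ≤ H := Subgroup.le_normalizer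
  -- choice of conjugating elements
  have hex : ∀ w : {w : C // w ≠ 1}, ∃ g : G, g * j * g⁻¹ = (w.1 : G) := by
    intro w
    have hw1 : (w.1 : G) ≠ 1 := fun h => w.2 (Subtype.ext h)
    obtain ⟨c, hc⟩ := isConj_iff.1 (hconj w.1 w.1.2 hw1)
    refine ⟨c⁻¹, ?_⟩
    rw [← hc]
    group
  choose γ hγ using hex
  have hγH : ∀ w, γ w ∈ H := fun w => hnorm _ (by rw [hγ]; exact w.1.2)
  -- the bijection
  let φ : {w : C // w ≠ 1} × C → H := fun x => ⟨γ x.1 * x.2, H.mul_mem (hγH x.1) (hCH x.2.2)⟩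
  have hφconj : ∀ x, ((φ x : H) : G) * j * ((φ x : H) : G)⁻¹ = (x.1.1 : G) := by
    intro x
    show (γ x.1 * x.2) * j * (γ x.1 * x.2)⁻¹ = _
    have h1 : j * (x.2 : G) = x.2 * j := (hmemC _).1 x.2.2
    calc (γ x.1 * x.2) * j * (γ x.1 * x.2)⁻¹ = γ x.1 * ((x.2 : G) * j) * (x.2 : G)⁻¹ * (γ x.1)⁻¹ := by
          group
      _ = γ x.1 * j * (γ x.1)⁻¹ := by rw [← h1]; group
      _ = _ := hγ x.1
  have hφ : Function.Bijective φ := by
    constructor
    · intro x y hxy
      have h1 : (x.1.1 : G) = y.1.1 := by rw [← hφconj x, ← hφconj y, hxy]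
      have h2 : x.1 = y.1 := Subtype.ext (Subtype.ext h1)
      have h3 : γ x.1 * (x.2 : G) = γ y.1 * (y.2 : G) := congrArg (fun h : H => (h : G)) hxy
      rw [h2] at h3
      have h4 : (x.2 : G) = y.2 := mul_left_cancel h3
      exact Prod.ext h2 (Subtype.ext h4)
    · intro h
      have hwC : (h : G) * j * (h : G)⁻¹ ∈ C :=
        (Subgroup.mem_normalizer_iff.1 h.2 j).1 hjC
      have hw1 : (⟨(h : G) * j * (h : G)⁻¹, hwC⟩ : C) ≠ 1 := by
        intro hcon
        have : (h : G) * j * (h : G)⁻¹ = 1 := congrArg Subtype.val hcon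
        apply hj1
        have h2 : (h : G) * j = h := mul_inv_eq_one.1 this
        exact mul_eq_left.1 h2
      set w : {w : C // w ≠ 1} := ⟨⟨(h : G) * j * (h : G)⁻¹, hwC⟩, hw1⟩ with hw
      have hcC : (γ w)⁻¹ * (h : G) ∈ C := by
        rw [hmemC]
        have h1 : γ w * j * (γ w)⁻¹ = (h : G) * j * (h : G)⁻¹ := hγ w
        have h2 : j = (γ w)⁻¹ * ((h : G) * j * (h : G)⁻¹) * γ w := by rw [← h1]; group
        calc j * ((γ w)⁻¹ * (h : G)) = ((γ w)⁻¹ * ((h : G) * j * (h : G)⁻¹) * γ w) * ((γ w)⁻¹ * (h : G)) := by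
              rw [← h2]
          _ = (γ w)⁻¹ * (h : G) * j := by group
      refine ⟨(w, ⟨(γ w)⁻¹ * (h : G), hcC⟩), ?_⟩
      apply Subtype.ext
      show γ w * ((γ w)⁻¹ * (h : G)) = h
      group
  have hcardH : Nat.card H = (m - 2) * (m - 1) := by
    rw [← Nat.card_congr (Equiv.ofBijective φ hφ), Nat.card_prod, hC]
    congr 1
    have := Fintype.ofFinite C
    rw [Nat.card_eq_fintype_card]
    have h1 : Fintype.card {w : C // w ≠ 1} = Fintype.card C - 1 := Set.card_ne_eq (1 : C)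
    rw [h1, ← Nat.card_eq_fintype_card, hC]
    omega
  refine ⟨H, ?_⟩
  have h1 := Subgroup.card_mul_index H
  rw [hcardH, hG] at h1
  have hpos : 0 < (m - 2) * (m - 1) := by
    apply Nat.mul_pos <;> omega
  have h2 : (m - 2) * (m - 1) * H.index = (m - 2) * (m - 1) * m := by rw [h1]; ring
  exact Nat.eq_of_mul_eq_mul_left hpos h2

end Cfsg.Agent.Lib.Helper20_B43_E2c
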