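import Mathlib

/-!
# S4707 package PK-A (helper69, for helper15): local structure of a primitive group of degree `2p`
with `|N_G(P)| = 2p`.
-/

set_option autoImplicit false
set_option linter.unusedSectionVars false
set_option linter.unusedVariables false

open MulAction

namespace Cfsg.Agent.Lib.Helper69_S4707_A

section general

variable {H : Type*} [Group H] [Finite H] {α : Type*} [Fintype α] [MulAction H α]
  {p : ℕ} [Fact p.Prime]

/-- orbit-stabiliser for a transitive action on `2p` points -/
theorem card_stab [MulAction.IsPretransitive H α] (hα : Fintype.card α = 2 * p) (a : α) :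
    2 * p * Nat.card (MulAction.stabilizer H a) = Nat.card H := by
  have h1 : (MulAction.stabilizer H a).index = 2 * p := by
    rw [MulAction.index_stabilizer, MulAction.orbit_eq_univ, Set.ncard_univ,
      Nat.card_eq_fintype_card, hα]
  rw [← h1, mul_comm]
  exact Subgroup.card_mul_index _

/-- the Sylow `p`-subgroup has order `p` -/
theorem card_sylow [MulAction.IsPretransitive H α] (hp : 3 < p) (hα : Fintype.card α = 2 * p)
    (P : Sylow p H)
    (hN : Nat.card (Subgroup.normalizer ((P : Subgroup H) : Set H)) = 2 * p) :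
    Nat.card P = p := by
  have hp' : p.Prime := Fact.out
  have hαne : Nonempty α := by
    rw [← Fintype.card_pos_iff, hα]
    omega
  obtain ⟨a⟩ := hαne
  have hpG : p ∣ Nat.card H := by
    rw [← card_stab hα a]
    exact Dvd.dvd.mul_right (Dvd.intro_left 2 rfl) _
  have h1 : p ∣ Nat.card P := P.dvd_card_of_dvd_card hpG
  have h2 : Nat.card P ∣ 2 * p := by
    rw [← hN]
    exact Subgroup.card_dvd_of_le Subgroup.le_normalizer
  obtain ⟨k, hk⟩ := IsPGroup.iff_card.mp P.2
  rw [hk] at h1 h2 ⊢
  rcases k with _ | _ | k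
  · rw [pow_zero] at h1
    have := Nat.le_of_dvd one_pos h1
    omega
  · rw [zero_add, pow_one]
  · exfalso
    have h3 : p ^ 2 ∣ 2 * p := dvd_trans (pow_dvd_pow p (by omega)) h2
    rw [pow_two] at h3
    have h4 : p ∣ 2 := by
      have h5 : p * p ∣ p * 2 := by rwa [mul_comm 2 p] at h3
      exact Nat.dvd_of_mul_dvd_mul_left hp'.pos h5
    have := Nat.le_of_dvd (by norm_num) h4
    omega

/-- a group of prime order is commutative -/
theorem commute_of_card_prime {K : Type*} [Group K] (hK : Nat.card K = p) (x y : K) :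
    x * y = y * x := by
  by_cases hx : x = 1
  · rw [hx, one_mul, mul_one]
  · obtain ⟨k, rfl⟩ := Subgroup.mem_zpowers_iff.mp (mem_zpowers_of_prime_card hK hx (g' := y))
    exact ((Commute.refl x).zpow_right k).eq

theorem le_centralizer_of_card_prime (P : Subgroup H) (hcP : Nat.card P = p) :
    P ≤ Subgroup.centralizer (P : Set H) := by
  intro x hx y hy
  have := commute_of_card_prime hcP (⟨y, hy⟩ : P) ⟨x, hx⟩
  exact congrArg Subtype.val this

/-- `C_G(P) = P` -/
theorem centralizer_eq [MulAction.IsPreprimitive H α]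
    (hfaith : ∀ g : H, g ≠ 1 → ∃ a : α, g • a ≠ a) (hp : 3 < p)
    (hα : Fintype.card α = 2 * p) (P : Sylow p H)
    (hN : Nat.card (Subgroup.normalizer ((P : Subgroup H) : Set H)) = 2 * p) :
    Subgroup.centralizer ((P : Subgroup H) : Set H) = (P : Subgroup H) := by
  have hp' : p.Prime := Fact.out
  have hcP := card_sylow hp hα P hN
  have hPle := le_centralizer_of_card_prime (P : Subgroup H) hcP
  by_contra hne
  have hCN : Subgroup.centralizer ((P : Subgroup H) : Set H) ≤
      Subgroup.normalizer ((P : Subgroup H) : Set H) := Subgroup.centralizer_le_normalizer _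
  have h1 : p ∣ Nat.card (Subgroup.centralizer ((P : Subgroup H) : Set H)) := by
    have := Subgroup.card_dvd_of_le hPle
    rwa [hcP] at this
  have h2 : Nat.card (Subgroup.centralizer ((P : Subgroup H) : Set H)) ∣ 2 * p := by
    rw [← hN]
    exact Subgroup.card_dvd_of_le hCN
  obtain ⟨j, hj⟩ := h1
  have hj2 : j ∣ 2 := by
    rw [hj, mul_comm 2 p] at h2
    exact Nat.dvd_of_mul_dvd_mul_left hp'.pos h2
  have hj' : j = 1 ∨ j = 2 := by
    have := Nat.le_of_dvd (by norm_num) hj2
    have h0 : j ≠ 0 := by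
      rintro rfl
      simp at hj2
    omega
  rcases hj' with rfl | rfl
  · apply hne
    symm
    apply Subgroup.eq_of_le_of_card_ge hPle
    rw [hj, hcP, mul_one]
  · -- `N(P) ≤ C(P)`
    have hNC : Subgroup.normalizer ((P : Subgroup H) : Set H) ≤
        Subgroup.centralizer ((P : Subgroup H) : Set H) := by
      have : Subgroup.centralizer ((P : Subgroup H) : Set H) =
          Subgroup.normalizer ((P : Subgroup H) : Set H) := by
        apply Subgroup.eq_of_le_of_card_ge hCN
        rw [hj, hN, mul_comm]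
      rw [this]
    have hK := MonoidHom.ker_transferSylow_isComplement' P hNC
    have hKp := MonoidHom.not_dvd_card_ker_transferSylow P hNC
    have hKcard := hK.card_mul_card
    rw [hcP] at hKcard
    have hαne : Nonempty α := by
      rw [← Fintype.card_pos_iff, hα]
      omega
    obtain ⟨a⟩ := hαne
    have hKcard2 : Nat.card (MonoidHom.transferSylow P hNC).ker =
        2 * Nat.card (MulAction.stabilizer H a) := by
      have h3 := card_stab (H := H) hα a
      rw [← hKcard] at h3
      have h4 : p * (2 * Nat.card (MulAction.stabilizer H a)) =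
          p * Nat.card (MonoidHom.transferSylow P hNC).ker := by
        linarith [h3]
      exact (Nat.eq_of_mul_eq_mul_left hp'.pos h4).symm
    have hKne : (MonoidHom.transferSylow P hNC).ker ≠ ⊥ := by
      intro hbot
      rw [hbot, Subgroup.card_bot] at hKcard2
      have : 0 < Nat.card (MulAction.stabilizer H a) := Nat.card_pos
      omega
    obtain ⟨k, hk1⟩ := (Subgroup.ne_bot_iff_exists_ne_one).mp hKne
    obtain ⟨b, hb⟩ := hfaith k.1 (fun h => hk1 (Subtype.ext h))
    have hfix : MulAction.fixedPoints (MonoidHom.transferSylow P hNC).ker α ≠ Set.univ := by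
      intro h
      have hb' : b ∈ MulAction.fixedPoints (MonoidHom.transferSylow P hNC).ker α := by
        rw [h]; exact Set.mem_univ b
      exact hb (hb' k)
    have : MulAction.IsPretransitive (MonoidHom.transferSylow P hNC).ker α :=
      MulAction.IsQuasiPreprimitive.isPretransitive_of_normal hfix
    have h5 := card_stab (H := (MonoidHom.transferSylow P hNC).ker) hα a
    apply hKp
    rw [← h5]
    exact Dvd.dvd.mul_right (Dvd.intro_left 2 rfl) _

/-- every `p`-singular element lies in a conjugate of `P` -/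
theorem exists_conj_mem (P : Sylow p H) (hcP : Nat.card P = p)
    (hC : Subgroup.centralizer ((P : Subgroup H) : Set H) = (P : Subgroup H))
    (g : H) (hg : p ∣ orderOf g) : ∃ y : H, y * g * y⁻¹ ∈ (P : Subgroup H) := by
  have hp' : p.Prime := Fact.out
  have ho : orderOf g ≠ 0 := (orderOf_pos g).ne'
  obtain ⟨z, hz⟩ : ∃ z : H, z = g ^ (orderOf g / p) := ⟨_, rfl⟩
  have hoz : orderOf z = p := by rw [hz]; exact orderOf_pow_orderOf_div ho hg
  have hzp : IsPGroup p (Subgroup.zpowers z) := by
    apply IsPGroup.of_card (n := 1)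
    rw [Nat.card_zpowers, hoz, pow_one]
  obtain ⟨Q, hQ⟩ := hzp.exists_le_sylow
  obtain ⟨y, hy⟩ := MulAction.exists_smul_eq H Q P
  refine ⟨y, ?_⟩
  have hw : y * z * y⁻¹ ∈ (P : Subgroup H) := by
    rw [← hy, Sylow.coe_subgroup_smul]
    have := Subgroup.smul_mem_pointwise_smul z (MulAut.conj y) (Q : Subgroup H)
      (hQ (Subgroup.mem_zpowers z))
    simpa using this
  have hw1 : y * z * y⁻¹ ≠ 1 := by
    intro h
    have hz1 : z = 1 := by
      have := congrArg (fun t => y⁻¹ * t * y) h
      simpa [mul_assoc] using this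
    rw [hz1, orderOf_one] at hoz
    exact hp'.one_lt.ne hoz
  rw [← hC, Subgroup.mem_centralizer_iff]
  intro x hx
  have hxw : (⟨x, hx⟩ : (P : Subgroup H)) ∈
      Subgroup.zpowers (⟨y * z * y⁻¹, hw⟩ : (P : Subgroup H)) :=
    mem_zpowers_of_prime_card hcP (fun h => hw1 (congrArg Subtype.val h))
  obtain ⟨k, hk⟩ := Subgroup.mem_zpowers_iff.mp hxw
  have hxk : x = (y * z * y⁻¹) ^ k := by
    have := congrArg Subtype.val hk
    simpa using this.symm
  have hgz : Commute g z := by rw [hz]; exact (Commute.refl g).pow_right _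
  have hc : Commute (y * g * y⁻¹) (y * z * y⁻¹) := by
    have : (y * g * y⁻¹) * (y * z * y⁻¹) = (y * z * y⁻¹) * (y * g * y⁻¹) := by
      calc (y * g * y⁻¹) * (y * z * y⁻¹) = y * (g * z) * y⁻¹ := by group
        _ = y * (z * g) * y⁻¹ := by rw [hgz.eq]
        _ = (y * z * y⁻¹) * (y * g * y⁻¹) := by group
    exact this
  rw [hxk]
  exact ((hc.zpow_right k).eq).symm

/-- the number of `p`-singular elements -/
theorem card_singular (P : Sylow p H) (hcP : Nat.card P = p)
    (hconj : ∀ g : H, p ∣ orderOf g → ∃ y : H, y * g * y⁻¹ ∈ (P : Subgroup H)) :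
    Nat.card {g : H // p ∣ orderOf g} = (p - 1) * Nat.card (Sylow p H) := by
  classical
  haveI : Fintype H := Fintype.ofFinite H
  haveI : Fintype (Sylow p H) := Fintype.ofFinite _
  have hp' : p.Prime := Fact.out
  have hcQ : ∀ Q : Sylow p H, Nat.card Q = p := by
    intro Q
    rw [Sylow.card_eq_multiplicity, ← Sylow.card_eq_multiplicity P, hcP]
  have hord : ∀ Q : Sylow p H, ∀ g ∈ (Q : Subgroup H), g ≠ 1 → orderOf g = p := by
    intro Q g hg hg1
    have h1 : orderOf (⟨g, hg⟩ : (Q : Subgroup H)) ∣ p := by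
      have := orderOf_dvd_natCard (⟨g, hg⟩ : (Q : Subgroup H))
      rwa [hcQ Q] at this
    rw [Subgroup.orderOf_mk] at h1
    rcases (Nat.dvd_prime hp').mp h1 with h | h
    · exact absurd (orderOf_eq_one_iff.mp h) hg1
    · exact h
  have huniq : ∀ Q₁ Q₂ : Sylow p H, ∀ g : H, g ≠ 1 → g ∈ (Q₁ : Subgroup H) →
      g ∈ (Q₂ : Subgroup H) → Q₁ = Q₂ := by
    intro Q₁ Q₂ g hg1 h1 h2
    have hz : ∀ Q : Sylow p H, g ∈ (Q : Subgroup H) →
        Subgroup.zpowers g = (Q : Subgroup H) := by
      intro Q hQ
      apply Subgroup.eq_of_le_of_card_ge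
      · exact (Subgroup.zpowers_le).mpr hQ
      · rw [Nat.card_zpowers, hord Q g hQ hg1, hcQ Q]
    apply Sylow.ext
    rw [← hz Q₁ h1, ← hz Q₂ h2]
  rw [Nat.card_eq_fintype_card, Fintype.card_subtype, Nat.card_eq_fintype_card]
  have hU : (Finset.univ.filter (fun g : H => p ∣ orderOf g)) =
      Finset.univ.biUnion (fun Q : Sylow p H =>
        Finset.univ.filter (fun g : H => g ∈ (Q : Subgroup H) ∧ g ≠ 1)) := by
    ext g
    simp only [Finset.mem_filter, Finset.mem_univ, true_and, Finset.mem_biUnion]
    constructor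
    · intro hg
      obtain ⟨y, hy⟩ := hconj g hg
      refine ⟨y⁻¹ • P, ?_, ?_⟩
      · rw [Sylow.coe_subgroup_smul]
        have := Subgroup.smul_mem_pointwise_smul _ (MulAut.conj y⁻¹) (P : Subgroup H) hy
        simpa [mul_assoc] using this
      · rintro rfl
        rw [orderOf_one] at hg
        exact hp'.one_lt.ne' (Nat.dvd_one.mp hg)
    · rintro ⟨Q, hgQ, hg1⟩
      rw [hord Q g hgQ hg1]
  rw [hU, Finset.card_biUnion]
  · rw [Finset.sum_const_nat (m := p - 1)]
    · rw [Finset.card_univ, mul_comm]
    · intro Q _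
      have h1 : (Finset.univ.filter (fun g : H => g ∈ (Q : Subgroup H) ∧ g ≠ 1)) =
          (Finset.univ.filter (fun g : H => g ∈ (Q : Subgroup H))).erase 1 := by
        ext g
        simp [and_comm]
      rw [h1, Finset.card_erase_of_mem (by simp [one_mem])]
      have h2 : (Finset.univ.filter (fun g : H => g ∈ (Q : Subgroup H))).card = p := by
        have h3 := hcQ Q
        rw [Nat.card_eq_fintype_card, Fintype.card_subtype] at h3
        exact h3
      rw [h2]
  · intro Q₁ _ Q₂ _ hne
    show Disjoint _ _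
    rw [Finset.disjoint_left]
    intro g h1 h2
    simp only [Finset.mem_filter, Finset.mem_univ, true_and] at h1 h2
    exact hne (huniq Q₁ Q₂ g h1.2 h1.1 h2.1)

/-- the general form of PK-A, for an abstract finite group acting faithfully -/
theorem pkA_gen [MulAction.IsPreprimitive H α]
    (hfaith : ∀ g : H, g ≠ 1 → ∃ a : α, g • a ≠ a) (hp : 3 < p)
    (hα : Fintype.card α = 2 * p) (P : Sylow p H)
    (hN : Nat.card (Subgroup.normalizer ((P : Subgroup H) : Set H)) = 2 * p) :
    Nat.card P = p ∧
    (∀ g : H, p ∣ orderOf g → ∃ y : H, y * g * y⁻¹ ∈ (P : Subgroup H)) ∧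
    2 * p * Nat.card {g : H // p ∣ orderOf g} = (p - 1) * Nat.card H ∧
    (∀ a : α, 2 * p * Nat.card (MulAction.stabilizer H a) = Nat.card H) ∧
    (∀ g : H, p ∣ orderOf g → ∀ a : α, g • a ≠ a) := by
  have hp' : p.Prime := Fact.out
  have hcP := card_sylow hp hα P hN
  have hC := centralizer_eq hfaith hp hα P hN
  have hconj := exists_conj_mem P hcP hC
  have hstab := fun a : α => card_stab (H := H) hα a
  refine ⟨hcP, hconj, ?_, hstab, ?_⟩
  · have h0 : Nat.card (Sylow p H) = (Subgroup.normalizer ((P : Subgroup H) : Set H)).index :=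
      Sylow.card_eq_index_normalizer P
    rw [card_singular P hcP hconj, h0]
    have h1 := Subgroup.card_mul_index (Subgroup.normalizer ((P : Subgroup H) : Set H))
    rw [hN] at h1
    rw [← h1]
    ring
  · intro g hg a hga
    have hmem : g ∈ MulAction.stabilizer H a := hga
    have h1 : orderOf (⟨g, hmem⟩ : MulAction.stabilizer H a) ∣
        Nat.card (MulAction.stabilizer H a) := orderOf_dvd_natCard _
    rw [Subgroup.orderOf_mk] at h1
    have h2 : p ∣ Nat.card (MulAction.stabilizer H a) := dvd_trans hg h1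
    apply P.not_dvd_index
    have h3 := Subgroup.card_mul_index (P : Subgroup H)
    rw [hcP, ← hstab a] at h3
    have h4 : (P : Subgroup H).index = 2 * Nat.card (MulAction.stabilizer H a) := by
      have h5 : p * (P : Subgroup H).index = p * (2 * Nat.card (MulAction.stabilizer H a)) := by
        linarith [h3]
      exact Nat.eq_of_mul_eq_mul_left hp'.pos h5
    rw [h4]
    exact Dvd.dvd.mul_left h2 2

end general

/-- PK-A of S4707. -/
theorem pkA {α : Type*} [Fintype α] [DecidableEq α] {p : ℕ} [Fact p.Prime] (hp : 3 < p)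
    (hα : Fintype.card α = 2 * p) (G : Subgroup (Equiv.Perm α))
    (hprim : MulAction.IsPreprimitive G α) (P : Sylow p G)
    (hN : Nat.card (Subgroup.normalizer ((P : Subgroup G) : Set G)) = 2 * p) :
    Nat.card P = p ∧
    (∀ g : G, p ∣ orderOf g → ∃ y : G, y * g * y⁻¹ ∈ (P : Subgroup G)) ∧
    2 * p * Nat.card {g : G // p ∣ orderOf g} = (p - 1) * Nat.card G ∧
    (∀ a : α, 2 * p * Nat.card (MulAction.stabilizer G a) = Nat.card G) ∧
    (∀ g : G, p ∣ orderOf g → ∀ a : α, g • a ≠ a) ∧
    (∀ g : G, g ≠ 1 → Nat.card (MulAction.fixedBy α g) + 2 ≤ 2 * p) := by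
  classical
  have hfaith : ∀ g : G, g ≠ 1 → ∃ a : α, g • a ≠ a := by
    intro g hg
    by_contra hcon
    apply hg
    apply Subtype.ext
    apply Equiv.ext
    intro a
    by_contra hne
    exact hcon ⟨a, hne⟩
  obtain ⟨h1, h2, h3, h4, h5⟩ := pkA_gen (H := G) hfaith hp hα P hN
  refine ⟨h1, h2, h3, h4, h5, ?_⟩
  intro g hg
  have hg' : (g : Equiv.Perm α) ≠ 1 := fun h => hg (Subtype.ext h)
  have hsup := Equiv.Perm.two_le_card_support_of_ne_one hg'
  have hfix : Nat.card (MulAction.fixedBy α g) =
      (Finset.univ.filter (fun a : α => (g : Equiv.Perm α) a = a)).card := by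
    rw [Nat.card_eq_fintype_card, ← Fintype.card_subtype]
    rfl
  have hcompl : (Finset.univ.filter (fun a : α => (g : Equiv.Perm α) a = a)) =
      (g : Equiv.Perm α).supportᶜ := by
    ext a
    simp [Equiv.Perm.mem_support]
  rw [hfix, hcompl, Finset.card_compl, hα]
  have hle : (g : Equiv.Perm α).support.card ≤ Fintype.card α := Finset.card_le_univ _
  rw [hα] at hle
  omega


end Cfsg.Agent.Lib.Helper69_S4707_A
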