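import Mathlib
import Cfsg.Prelude.Def_Characters
import Cfsg.Prelude.Def_Blocks
import Cfsg.Prelude.Def_Perm
import Cfsg.Agent.Lib.Helper3_CharComplete
import Cfsg.Agent.Lib.Helper80_CharBasic
import Cfsg.Agent.Lib.Helper16_B43Defs
import Cfsg.Agent.Lib.Helper3_CharGaloisAct
import Cfsg.Agent.Lib.Helper3_CharEigen
import Cfsg.Agent.Lib.Helper75_GalConj
import Cfsg.Agent.Lib.Helper79_TISylowCongr
import Cfsg.Agent.Lib.Helper69_S4707_A

/-!
# S0996 package E2a (helper25, for helper16): values of the unique character of degree `p - 1`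

In the case `e = 2` of Brauer's 1943 theorem the unique irreducible character of degree `p - 1` is rational,
hence integral; it is `-1` on the `p`-singular elements, and the two orthogonality relations force the values
`0` and `1` on the remaining nonidentity elements, with exactly `p (p - 2)` zeros.
-/

set_option autoImplicit false

namespace Cfsg.Agent.Lib.Helper25_B43_E2a

open Cfsg Cfsg.Agent.Lib.Helper16_B43Defs Cfsg.Agent.Lib.Helper3_CharComplete
  Cfsg.Agent.Lib.Helper80_CharBasic
open scoped ComplexConjugate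

theorem e2_values {G : Type*} [Group G] [Fintype G] {p n : ℕ} [Fact p.Prime]
    {P : Sylow p G} (S : Setting0 p 2 n P) (hn : 2 * n + 3 = p)
    (χ₂ : IrrCharacter G) (hdeg : charDegree (χ₂ : G → ℂ) = p - 1)
    (huniq : ∀ ψ : IrrCharacter G, charDegree (ψ : G → ℂ) = p - 1 → ψ = χ₂)
    (hval : ∀ x ∈ (P : Subgroup G), x ≠ 1 → (χ₂ : G → ℂ) x = -1) :
    (∀ g : G, ¬ p ∣ orderOf g → g ≠ 1 → (χ₂ : G → ℂ) g = 0 ∨ (χ₂ : G → ℂ) g = 1) ∧
      Nat.card {g : G // ¬ p ∣ orderOf g ∧ g ≠ 1 ∧ (χ₂ : G → ℂ) g = 0} = p * (p - 2) := by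
  classical
  have hp : p.Prime := Fact.out
  -- integrality
  have hint : ∀ g : G, ∃ a : ℤ, (χ₂ : G → ℂ) g = a := by
    intro g
    obtain ⟨d, ρ, hρirr, hρ⟩ := χ₂.2
    have hpow : ∀ m : ℕ, m.Coprime (Nat.card G) → ρ.character (g ^ m) = ρ.character g := by
      intro m hm
      have hirr := Cfsg.Agent.Lib.Helper75_GalConj.isIrrCharacter_powMap χ₂.2 m hm
      have h1 : (⟨_, hirr⟩ : IrrCharacter G) = χ₂ := by
        apply huniq
        show charDegree (fun g => (χ₂ : G → ℂ) (g ^ m)) = p - 1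
        unfold charDegree at hdeg ⊢
        simpa using hdeg
      have h2 := congrArg (fun ψ : IrrCharacter G => (ψ : G → ℂ) g) h1
      simp only at h2
      rw [hρ]
      exact h2
    obtain ⟨q, hq⟩ := Cfsg.Agent.Lib.Helper3_CharGaloisAct.exists_rat_of_forall_pow ρ g hpow
    have hI := Cfsg.Agent.Lib.Helper3_CharEigen.isIntegral_char ρ g
    rw [hq] at hI
    obtain ⟨a, ha⟩ := Cfsg.Agent.Lib.Helper79_TISylowCongr.exists_int_of_isIntegral_rat q hI
    refine ⟨a, ?_⟩
    rw [← hρ, hq, ha]
    simp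
  choose a ha using hint
  -- the `p`-singular elements
  have hconj := Cfsg.Agent.Lib.Helper69_S4707_A.exists_conj_mem P S.hP S.hC
  have hsing : ∀ g : G, p ∣ orderOf g → a g = -1 := by
    intro g hg
    obtain ⟨y, hy⟩ := hconj g hg
    have hy1 : y * g * y⁻¹ ≠ 1 := by
      intro h1
      have hg1 : g = 1 := by
        have := congrArg (fun t => y⁻¹ * t * y) h1
        simpa [mul_assoc] using this
      rw [hg1, orderOf_one] at hg
      exact hp.one_lt.ne' (Nat.dvd_one.mp hg)
    have h1 := hval _ hy hy1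
    rw [irr_conj] at h1
    have h2 : ((a g : ℤ) : ℂ) = ((-1 : ℤ) : ℂ) := by rw [← ha g, h1]; simp
    exact_mod_cast h2
  have hs : Nat.card {g : G // p ∣ orderOf g} = (p - 1) * (1 + n * p) := by
    rw [Cfsg.Agent.Lib.Helper69_S4707_A.card_singular P S.hP hconj, S.hn]
  -- the group order
  have hG : Nat.card G = p * 2 * (1 + n * p) := by
    rw [← S.hN, ← S.hn, Sylow.card_eq_index_normalizer P]
    exact (Subgroup.card_mul_index (NP P)).symm
  -- the degree
  have ha1 : a 1 = (p : ℤ) - 1 := by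
    obtain ⟨k, hk0, hk⟩ := irr_apply_one χ₂
    have hk' : k = p - 1 := by
      rw [← hdeg]
      unfold charDegree
      rw [hk]
      simp
    have h5 : 5 ≤ p := by
      have := S.hn1
      omega
    have h2 : ((a 1 : ℤ) : ℂ) = (((p : ℤ) - 1 : ℤ) : ℂ) := by
      rw [← ha 1, hk, hk']
      push_cast [Nat.cast_sub (by omega : 1 ≤ p)]
      ring
    exact_mod_cast h2
  have h5 : 5 ≤ p := by
    have := S.hn1
    omega
  -- the two orthogonality sums
  have hne : χ₂ ≠ oneIrr G := by
    intro h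
    rw [h] at hdeg
    unfold charDegree oneIrr at hdeg
    simp at hdeg
    omega
  have hsum1 : ∑ g : G, a g = 0 := by
    have h1 := irr_orthogonal χ₂ (oneIrr G) hne
    have h2 : ∑ g : G, ((a g : ℤ) : ℂ) = 0 := by
      rw [← h1]
      refine Finset.sum_congr rfl (fun g _ => ?_)
      rw [← ha g]
      show _ = (χ₂ : G → ℂ) g * (1 : ℂ)
      rw [mul_one]
    exact_mod_cast h2
  have hsum2 : ∑ g : G, a g ^ 2 = (Nat.card G : ℤ) := by
    have h1 := irr_norm χ₂
    have h2 : ∑ g : G, (((a g : ℤ) : ℂ)) ^ 2 = (Nat.card G : ℂ) := by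
      rw [← h1]
      refine Finset.sum_congr rfl (fun g _ => ?_)
      rw [irr_inv, ha g]
      simp [sq]
    exact_mod_cast h2
  -- the partition of `G`
  set Sg : Finset G := Finset.univ.filter (fun g => p ∣ orderOf g) with hSg
  set A : Finset G := Finset.univ.filter (fun g => ¬ p ∣ orderOf g ∧ g ≠ 1) with hA
  have hpart : ∀ f : G → ℤ, ∑ g : G, f g = f 1 + ∑ g ∈ Sg, f g + ∑ g ∈ A, f g := by
    intro f
    rw [← Finset.sum_filter_add_sum_filter_not Finset.univ (fun g => p ∣ orderOf g) f]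
    have h1 : Finset.univ.filter (fun g : G => ¬ p ∣ orderOf g) = insert 1 A := by
      ext g
      simp only [Finset.mem_filter, Finset.mem_univ, true_and, Finset.mem_insert, hA]
      constructor
      · intro h
        by_cases hg : g = 1
        · left; exact hg
        · right; exact ⟨h, hg⟩
      · rintro (rfl | h)
        · rw [orderOf_one, Nat.dvd_one]; exact hp.one_lt.ne'
        · exact h.1
    have h1A : (1 : G) ∉ A := by simp [hA]
    rw [h1, Finset.sum_insert h1A]
    ring
  have hScard : (Sg.card : ℤ) = ((p : ℤ) - 1) * (1 + n * p) := by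
    have : Sg.card = (p - 1) * (1 + n * p) := by
      rw [← hs, Nat.card_eq_fintype_card, Fintype.card_subtype]
    rw [this]
    push_cast [Nat.cast_sub (by omega : 1 ≤ p)]
    ring
  have hS1 : ∑ g ∈ Sg, a g = -(Sg.card : ℤ) := by
    rw [Finset.sum_congr rfl (fun g hg => hsing g (Finset.mem_filter.mp hg).2), Finset.sum_const,
      nsmul_eq_mul]
    ring
  have hS2 : ∑ g ∈ Sg, a g ^ 2 = (Sg.card : ℤ) := by
    have : ∀ g ∈ Sg, a g ^ 2 = 1 := by
      intro g hg
      rw [hsing g (Finset.mem_filter.mp hg).2]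
      norm_num
    rw [Finset.sum_congr rfl this, Finset.sum_const, nsmul_eq_mul, mul_one]
  have hpn : (p : ℤ) = 2 * n + 3 := by exact_mod_cast hn.symm
  have hGz : (Nat.card G : ℤ) = p * 2 * (1 + n * p) := by exact_mod_cast hG
  have e1 := hpart a
  have e2 := hpart (fun g => a g ^ 2)
  have e3 := hpart (fun _ => 1)
  rw [hsum1, hS1, ha1] at e1
  rw [hsum2, hS2, ha1, hGz] at e2
  rw [Finset.sum_const, Finset.sum_const, Finset.sum_const, Finset.card_univ,
    ← Nat.card_eq_fintype_card, nsmul_eq_mul, nsmul_eq_mul, nsmul_eq_mul, mul_one, mul_one, mul_one,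
    hGz] at e3
  -- values `0` or `1`
  have hAsum : ∑ g ∈ A, (a g * (a g - 1)) = 0 := by
    have : ∑ g ∈ A, (a g * (a g - 1)) = ∑ g ∈ A, a g ^ 2 - ∑ g ∈ A, a g := by
      rw [← Finset.sum_sub_distrib]
      refine Finset.sum_congr rfl (fun g _ => by ring)
    rw [this]
    rw [hScard] at e1 e2
    rw [hpn] at e1 e2
    linear_combination e1 - e2
  have hnonneg : ∀ g ∈ A, 0 ≤ a g * (a g - 1) := by
    intro g _
    rcases le_or_gt (a g) 0 with h | h
    · exact mul_nonneg_of_nonpos_of_nonpos h (by omega)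
    · exact mul_nonneg (by omega) (by omega)
  have h01 : ∀ g ∈ A, a g = 0 ∨ a g = 1 := by
    intro g hg
    have := (Finset.sum_eq_zero_iff_of_nonneg hnonneg).mp hAsum g hg
    rcases mul_eq_zero.mp this with h | h
    · left; exact h
    · right; omega
  have hχ0 : ∀ g : G, (χ₂ : G → ℂ) g = 0 ↔ a g = 0 := by
    intro g
    rw [ha g]
    exact Int.cast_eq_zero
  refine ⟨fun g hg hg1 => ?_, ?_⟩
  · have hgA : g ∈ A := by simp [hA, hg, hg1]
    rcases h01 g hgA with h | h
    · left; rw [ha g, h]; simp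
    · right; rw [ha g, h]; simp
  · set Z : Finset G := A.filter (fun g => a g = 0) with hZ
    have hcardZ : Nat.card {g : G // ¬ p ∣ orderOf g ∧ g ≠ 1 ∧ (χ₂ : G → ℂ) g = 0} = Z.card := by
      rw [Nat.card_eq_fintype_card, Fintype.card_subtype]
      congr 1
      ext g
      simp only [Finset.mem_filter, Finset.mem_univ, true_and, hZ, hA, hχ0 g]
      tauto
    rw [hcardZ]
    have hsplit := Finset.sum_filter_add_sum_filter_not A (fun g => a g = 0) a
    have hz0 : ∑ g ∈ A.filter (fun g => a g = 0), a g = 0 :=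
      Finset.sum_eq_zero (fun g hg => (Finset.mem_filter.mp hg).2)
    have hz1 : ∑ g ∈ A.filter (fun g => ¬ a g = 0), a g = ((A.filter (fun g => ¬ a g = 0)).card : ℤ) := by
      have : ∀ g ∈ A.filter (fun g => ¬ a g = 0), a g = 1 := by
        intro g hg
        rcases h01 g (Finset.mem_filter.mp hg).1 with h | h
        · exact absurd h (Finset.mem_filter.mp hg).2
        · exact h
      rw [Finset.sum_congr rfl this, Finset.sum_const, nsmul_eq_mul, mul_one]
    have hcards := Finset.card_filter_add_card_filter_not (s := A) (fun g => a g = 0)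
    have hcards' : (Z.card : ℤ) + ((A.filter (fun g => ¬ a g = 0)).card : ℤ) = (A.card : ℤ) := by
      exact_mod_cast hcards
    rw [hz0, hz1, zero_add] at hsplit
    rw [hScard] at e1 e3
    have hfin : (Z.card : ℤ) = (p : ℤ) * ((p : ℤ) - 2) := by
      rw [hpn] at e1 e3 ⊢
      linear_combination hcards' - hsplit - e3 + e1
    have h2 : ((p * (p - 2) : ℕ) : ℤ) = (p : ℤ) * ((p : ℤ) - 2) := by
      push_cast [Nat.cast_sub (by omega : 2 ≤ p)]
      ring
    rw [← h2] at hfin
    exact_mod_cast hfin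

end Cfsg.Agent.Lib.Helper25_B43_E2a
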