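import Mathlib
import Cfsg.Prelude.Def_Characters
import Cfsg.Prelude.Def_Blocks
import Cfsg.Prelude.Def_Perm
import Cfsg.Agent.Lib.Helper3_CharComplete
import Cfsg.Agent.Lib.Helper80_CharBasic
import Cfsg.Agent.Lib.Helper16_B43Defs
import Cfsg.Agent.Lib.Helper16_Char
import Cfsg.Agent.Lib.Helper17_BSQ8Char

/-!
# S0996 package E2b (helper25, for helper16): the nonidentity elements of `C_G(j)` are conjugate to `j`

The unique character `χ₂` of degree `p - 1` takes the values `0, 1` on the nonidentity `p`-regular elements.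
Its sum over `C = C_G(j)` (of order `p - 1`) is divisible by `p - 1`, which forces `χ₂ = 0` on `C - {1}`; the
zero set of `χ₂` among the nonidentity `p`-regular elements has `p (p - 2) = |G : C|` elements and contains the
class of `j`, so it is that class.
-/

set_option autoImplicit false

namespace Cfsg.Agent.Lib.Helper25_B43_E2b

open Cfsg Cfsg.Agent.Lib.Helper16_B43Defs Cfsg.Agent.Lib.Helper3_CharComplete
  Cfsg.Agent.Lib.Helper80_CharBasic
open scoped ComplexConjugate

theorem e2_conj {G : Type*} [Group G] [Fintype G] {p n : ℕ} [Fact p.Prime]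
    {P : Sylow p G} (S : Setting0 p 2 n P) (hn : 2 * n + 3 = p)
    (χ₂ : IrrCharacter G) (hdeg : charDegree (χ₂ : G → ℂ) = p - 1)
    (hval : ∀ x ∈ (P : Subgroup G), x ≠ 1 → (χ₂ : G → ℂ) x = -1)
    (h01 : ∀ g : G, ¬ p ∣ orderOf g → g ≠ 1 → (χ₂ : G → ℂ) g = 0 ∨ (χ₂ : G → ℂ) g = 1)
    (hcount : Nat.card {g : G // ¬ p ∣ orderOf g ∧ g ≠ 1 ∧ (χ₂ : G → ℂ) g = 0} = p * (p - 2))
    (j : G) (hjN : j ∈ NP P) (hj : orderOf j = 2)
    (hinv : ∀ x ∈ (P : Subgroup G), j * x * j⁻¹ = x⁻¹)
    (hC : Nat.card (Subgroup.centralizer ({j} : Set G)) = p - 1) :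
    ∀ g ∈ Subgroup.centralizer ({j} : Set G), g ≠ 1 → IsConj g j := by
  classical
  have hp : p.Prime := Fact.out
  have h5 : 5 ≤ p := by
    have := S.hn1
    omega
  set C := Subgroup.centralizer ({j} : Set G) with hCdef
  -- elements of `C` are `p`-regular
  have hreg : ∀ g ∈ C, ¬ p ∣ orderOf g := by
    intro g hg hpg
    have h1 : orderOf (⟨g, hg⟩ : C) ∣ Nat.card C := orderOf_dvd_natCard _
    rw [Subgroup.orderOf_mk, hC] at h1
    have := Nat.le_of_dvd (by omega) (hpg.trans h1)
    omega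
  -- the degree
  have hχ1 : (χ₂ : G → ℂ) 1 = ((p - 1 : ℕ) : ℂ) := by
    obtain ⟨k, hk0, hk⟩ := irr_apply_one χ₂
    have hk' : k = p - 1 := by
      rw [← hdeg]
      unfold charDegree
      rw [hk]
      simp
    rw [hk, hk']
  -- natural-valued version of `χ₂` on `C`
  set b : C → ℕ := fun g => if (g : G) = 1 then p - 1 else if (χ₂ : G → ℂ) g = 1 then 1 else 0 with hb
  have hbχ : ∀ g : C, (χ₂ : G → ℂ) g = (b g : ℂ) := by
    intro g
    by_cases hg1 : (g : G) = 1
    · simp only [hb, hg1, if_true]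
      rw [hχ1]
    · simp only [hb, hg1, if_false]
      rcases h01 g (hreg g g.2) hg1 with h | h
      · rw [h]; simp
      · rw [h]; simp
  obtain ⟨m, hm⟩ := Cfsg.Agent.Lib.Helper17_BSQ8Char.sum_subgroup_nat χ₂ C
  have hsum : ∑ g : C, b g = (p - 1) * m := by
    have : ((∑ g : C, b g : ℕ) : ℂ) = (((p - 1) * m : ℕ) : ℂ) := by
      push_cast
      rw [← hC, ← hm]
      refine Finset.sum_congr rfl (fun g _ => (hbχ g).symm)
      
    exact_mod_cast this
  have hcardC : (Finset.univ : Finset C).card = p - 1 := by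
    rw [Finset.card_univ, ← Nat.card_eq_fintype_card, hC]
  have hb1 : b 1 = p - 1 := by simp [hb]
  have hble : ∀ x ∈ (Finset.univ : Finset C).erase 1, b x ≤ 1 := by
    intro x hx
    have hx1 : (x : G) ≠ 1 := fun h => (Finset.mem_erase.mp hx).1 (Subtype.ext h)
    simp only [hb, hx1, if_false]
    split_ifs <;> omega
  have hk : ∑ x ∈ (Finset.univ : Finset C).erase 1, b x ≤ p - 1 - 1 := by
    have := Finset.sum_le_card_nsmul _ _ 1 hble
    rwa [Finset.card_erase_of_mem (Finset.mem_univ _), hcardC, smul_eq_mul, mul_one] at this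
  have hadd := Finset.add_sum_erase Finset.univ b (Finset.mem_univ (1 : C))
  rw [hb1, hsum] at hadd
  have hk0 : ∑ x ∈ (Finset.univ : Finset C).erase 1, b x = 0 := by
    rcases m with _ | _ | m
    · omega
    · omega
    · exfalso
      have : (p - 1) * (m + 1 + 1) = (p - 1) * m + 2 * (p - 1) := by ring
      rw [this] at hadd
      have : 0 ≤ (p - 1) * m := Nat.zero_le _
      omega
  have hzero : ∀ g ∈ C, g ≠ 1 → (χ₂ : G → ℂ) g = 0 := by
    intro g hg hg1
    have hmem : (⟨g, hg⟩ : C) ∈ (Finset.univ : Finset C).erase 1 :=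
      Finset.mem_erase.mpr ⟨fun h => hg1 (congrArg Subtype.val h), Finset.mem_univ _⟩
    have := (Finset.sum_eq_zero_iff.mp hk0) _ hmem
    rw [hbχ ⟨g, hg⟩, this]
    simp
  -- the zero set is the class of `j`
  have hj1 : j ≠ 1 := by
    intro h
    rw [h, orderOf_one] at hj
    omega
  have hjC : j ∈ C := Subgroup.mem_centralizer_singleton_iff.mpr rfl
  have hχj : (χ₂ : G → ℂ) j = 0 := hzero j hjC hj1
  set Z0 : Finset G := Finset.univ.filter
    (fun g => ¬ p ∣ orderOf g ∧ g ≠ 1 ∧ (χ₂ : G → ℂ) g = 0) with hZ0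
  set Cl : Finset G := Finset.univ.filter (fun k => IsConj j k) with hCl
  have hZ0card : Z0.card = p * (p - 2) := by
    rw [← hcount, Nat.card_eq_fintype_card, Fintype.card_subtype]
  have hG : Nat.card G = p * 2 * (1 + n * p) := by
    rw [← S.hN, ← S.hn, Sylow.card_eq_index_normalizer P]
    exact (Subgroup.card_mul_index (NP P)).symm
  have hClcard : Cl.card = p * (p - 2) := by
    rw [hCl, Cfsg.Agent.Lib.Helper16_Char.card_conj_eq_index j]
    have h1 := Subgroup.card_mul_index C
    rw [hC, hG] at h1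
    have hp1 : 0 < p - 1 := by omega
    apply Nat.eq_of_mul_eq_mul_left hp1
    rw [h1]
    subst hn
    have e1 : 2 * n + 3 - 1 = 2 * n + 2 := by omega
    have e2 : 2 * n + 3 - 2 = 2 * n + 1 := by omega
    rw [e1, e2]
    ring
  have hord : ∀ k : G, IsConj j k → orderOf j = orderOf k := by
    intro k hk
    obtain ⟨c, hc⟩ := isConj_iff.mp hk
    rw [← hc]
    have := orderOf_injective (MulAut.conj c).toMonoidHom (MulAut.conj c).injective j
    simpa using this.symm
  have hsub : Cl ⊆ Z0 := by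
    intro k hk
    rw [hCl, Finset.mem_filter] at hk
    rw [hZ0, Finset.mem_filter]
    refine ⟨Finset.mem_univ _, ?_, ?_, ?_⟩
    · rw [← hord k hk.2, hj]
      intro h2
      have := Nat.le_of_dvd (by norm_num) h2
      omega
    · rintro rfl
      have := hord 1 hk.2
      rw [orderOf_one, hj] at this
      omega
    · rw [← irr_isConj χ₂ hk.2]; exact hχj
  have heq : Cl = Z0 := Finset.eq_of_subset_of_card_le hsub (by rw [hZ0card, hClcard])
  intro g hg hg1
  have hgZ : g ∈ Z0 := by
    rw [hZ0, Finset.mem_filter]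
    exact ⟨Finset.mem_univ _, hreg g hg, hg1, hzero g hg hg1⟩
  rw [← heq, hCl, Finset.mem_filter] at hgZ
  exact hgZ.2.symm

end Cfsg.Agent.Lib.Helper25_B43_E2b
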