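import Mathlib
import Cfsg.Prelude.Def_Characters
import Cfsg.Prelude.Def_Blocks
import Cfsg.Agent.Lib.Helper3_CharComplete
import Cfsg.Agent.Lib.Helper80_CharBasic
import Cfsg.Agent.Lib.Helper16_B43Defs

/-!
# S0996 PK-EVEN (helper58, for helper16): `e` is even

If exactly one nontrivial linear character `l0` of `N/P` has `Ψ_{l0}` meeting the conjugation-closed
family `Y`, then `l0` is real, of order two, and `e` is even.
-/

set_option autoImplicit false
set_option linter.unusedVariables false
set_option linter.unusedSimpArgs false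

namespace Cfsg.Agent.Lib.Helper58_B43_EVEN

open Cfsg Cfsg.Agent.Lib.Helper16_B43Defs Cfsg.Agent.Lib.Helper3_CharComplete
  Cfsg.Agent.Lib.Helper80_CharBasic
open scoped ComplexConjugate

theorem extendByZero_conj {G : Type*} [Group G] (H : Subgroup G) (f : H → ℂ) (g : G) :
    extendByZero H (fun x => conj (f x)) g = conj (extendByZero H f g) := by
  unfold extendByZero
  by_cases hg : ∃ x : H, (x : G) = g
  · obtain ⟨x, rfl⟩ := hg
    rw [Subtype.val_injective.extend_apply, Subtype.val_injective.extend_apply]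
  · rw [Function.extend_apply' _ _ _ hg, Function.extend_apply' _ _ _ hg]
    simp

theorem indFun_conj {G : Type*} [Group G] [Fintype G] (H : Subgroup G) (f : H → ℂ) (g : G) :
    indFun H (fun x => conj (f x)) g = conj (indFun H f g) := by
  unfold indFun
  rw [map_mul, map_inv₀, Complex.conj_natCast, map_sum]
  congr 1
  exact Finset.sum_congr rfl fun x _ => extendByZero_conj H f _

theorem classInner_conj_conj {G : Type*} [Group G] [Fintype G] (φ ψ : G → ℂ) :
    classInner (fun g => conj (φ g)) (fun g => conj (ψ g)) = conj (classInner φ ψ) := by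
  unfold classInner
  rw [map_mul, map_inv₀, Complex.conj_natCast, map_sum]
  congr 1
  exact Finset.sum_congr rfl fun g _ => by rw [map_mul]

theorem inv_fn {G : Type*} [Group G] [Finite G] {p : ℕ} {P : Sylow p G} (l : LinN P)
    (x : ↥(NP P)) : l.inv.fn x = conj (l.fn x) := by
  unfold LinN.fn LinN.inv
  simp only [MonoidHom.inv_apply, Units.val_inv_eq_inv_val]
  apply Complex.inv_eq_conj
  have hfin : (l.1 x) ^ orderOf x = 1 := by rw [← map_pow, pow_orderOf_eq_one, map_one]
  apply Complex.norm_eq_one_of_pow_eq_one (n := orderOf x)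
  · rw [← Units.val_pow_eq_pow_val, hfin, Units.val_one]
  · exact (orderOf_pos x).ne'

/-- The conjugate version of `ind_conj` (no reality needed). -/
theorem ind_conj' {G : Type*} [Group G] [Fintype G] {p : ℕ} {P : Sylow p G} (l : LinN P)
    (χ χ' : G → ℂ) (h : ∀ g, χ' g = conj (χ g)) :
    classInner (indFun (NP P) l.inv.fn) χ' = conj (classInner (indFun (NP P) l.fn) χ) := by
  have h1 : (indFun (NP P) l.inv.fn) = fun g => conj (indFun (NP P) l.fn g) := by
    funext g
    rw [← indFun_conj]
    congr 1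
    funext x
    exact inv_fn l x
  have h2 : χ' = fun g => conj (χ g) := funext h
  rw [h1, h2, classInner_conj_conj]

/-- S0996 PK-EVEN. -/
theorem even_of_unique {G : Type*} [Group G] [Fintype G] {p e n : ℕ} [Fact p.Prime]
    {P : Sylow p G} (S : Setting0 p e n P) (Y : Finset (IrrCharacter G))
    (hY : ∀ θ ∈ Y, ∃ θ' ∈ Y, ∀ g, (θ' : G → ℂ) g = conj ((θ : G → ℂ) g))
    (l0 : LinN P) (hl0 : l0 ≠ LinN.one P)
    (h : ∀ l : LinN P, l ≠ LinN.one P →
      ((∃ θ ∈ Y, classInner (indFun (NP P) l.fn) (θ : G → ℂ) ≠ 0) ↔ l = l0)) :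
    Even e := by
  classical
  obtain ⟨θ, hθY, hθ⟩ := (h l0 hl0).mpr rfl
  obtain ⟨θ', hθ'Y, hθ'⟩ := hY θ hθY
  have hinv_ne : l0.inv ≠ LinN.one P := by
    intro hh
    apply hl0
    apply Subtype.ext
    have h1 : l0.inv.1 = (LinN.one P).1 := congrArg Subtype.val hh
    have h2 : (l0.1)⁻¹ = 1 := h1
    ext x
    have h3 : ((l0.1)⁻¹) x = (1 : ↥(NP P) →* ℂˣ) x := by rw [h2]
    rw [MonoidHom.inv_apply, MonoidHom.one_apply, inv_eq_one] at h3
    rw [h3]
    rfl
  have hinv : l0.inv = l0 := by
    apply (h l0.inv hinv_ne).mp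
    refine ⟨θ', hθ'Y, ?_⟩
    rw [ind_conj' l0 _ _ hθ']
    intro h0
    apply hθ
    have := congrArg conj h0
    simpa using this
  have hsq : ∀ x, l0.1 x * l0.1 x = 1 := by
    intro x
    have h1 : l0.inv.1 x = l0.1 x := by rw [hinv]
    have h2 : (l0.1 x)⁻¹ = l0.1 x := h1
    calc l0.1 x * l0.1 x = (l0.1 x)⁻¹ * l0.1 x := by rw [h2]
      _ = 1 := inv_mul_cancel _
  obtain ⟨a, ha⟩ : ∃ a, l0.1 a ≠ 1 := by
    by_contra hno
    push Not at hno
    apply hl0
    apply Subtype.ext
    ext x
    rw [hno x]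
    rfl
  have hvals : ∀ x, l0.1 x = 1 ∨ l0.1 x = -1 := by
    intro x
    have h1 : ((l0.1 x : ℂˣ) : ℂ) * ((l0.1 x : ℂˣ) : ℂ) = 1 := by
      rw [← Units.val_mul, hsq, Units.val_one]
    rcases mul_self_eq_one_iff.mp h1 with h2 | h2
    · left
      exact Units.ext h2
    · right
      apply Units.ext
      rw [h2]
      simp
  have hneg : (-1 : ℂˣ) ≠ 1 := by
    intro h1
    have h2 := congrArg Units.val h1
    simp only [Units.val_neg, Units.val_one] at h2
    norm_num at h2
  have hidx : l0.1.ker.index = 2 := by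
    rw [Subgroup.index_eq_two_iff]
    refine ⟨a, fun b => ?_⟩
    have ha' : l0.1 a = -1 := (hvals a).resolve_left ha
    rw [MonoidHom.mem_ker, MonoidHom.mem_ker, map_mul, ha']
    rcases hvals b with hb | hb
    · rw [hb]
      right
      exact ⟨rfl, by rw [one_mul]; exact hneg⟩
    · rw [hb]
      left
      exact ⟨by simp, hneg⟩
  have hcard := Subgroup.card_mul_index l0.1.ker
  rw [hidx, S.hN] at hcard
  have hPle : (P : Subgroup G).subgroupOf (NP P) ≤ l0.1.ker := by
    intro x hx
    rw [MonoidHom.mem_ker]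
    exact l0.2 x (Subgroup.mem_subgroupOf.mp hx)
  have hPcard : Nat.card ((P : Subgroup G).subgroupOf (NP P)) = p := by
    exact (Nat.card_congr (Subgroup.subgroupOfEquivOfLe Subgroup.le_normalizer).toEquiv).trans
      S.hP
  have hdvd : p ∣ Nat.card l0.1.ker := by
    have := Subgroup.card_dvd_of_le hPle
    rwa [hPcard] at this
  obtain ⟨k, hk⟩ := hdvd
  rw [hk] at hcard
  have hp0 : 0 < p := (Fact.out : p.Prime).pos
  have he : e = 2 * k := by
    have : p * (k * 2) = p * e := by rw [← hcard]; ring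
    have := Nat.eq_of_mul_eq_mul_left hp0 this
    omega
  exact ⟨k, by omega⟩

end Cfsg.Agent.Lib.Helper58_B43_EVEN
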