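import Mathlib
import Cfsg.Prelude.Def_Characters
import Cfsg.Prelude.Def_Blocks
import Cfsg.Agent.Lib.Helper3_CharComplete
import Cfsg.Agent.Lib.Helper80_CharBasic
import Cfsg.Agent.Lib.Helper74_FS3

/-!
# S0996 PK-FS (helper58, for helper16): the Frobenius–Schur bound

`1 + |G : C(j)| ≤ ∑ χ(1)` for an involution `j`: the number of solutions of `s² = 1` is
`∑ ν(χ) χ(1)` with `ν(χ) ∈ {0, 1, -1}`, and it is at least `1 + |j^G|`.
-/

set_option autoImplicit false
set_option linter.unusedVariables false
set_option linter.unusedSimpArgs false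

namespace Cfsg.Agent.Lib.Helper58_B43_FS

open Cfsg Cfsg.Agent.Lib.Helper3_CharComplete Cfsg.Agent.Lib.Helper80_CharBasic
  Cfsg.Agent.Lib.Helper74_FS
open scoped ComplexConjugate

/-- The number of solutions of `s * s = 1` is at least `1 + |G : C(j)|`. -/
theorem card_sq_one_ge {G : Type*} [Group G] [Fintype G] [DecidableEq G] (j : G)
    (hj : orderOf j = 2) :
    1 + Nat.card G / Nat.card (Subgroup.centralizer ({j} : Set G)) ≤
      (Finset.univ.filter (fun s : G => s * s = 1)).card := by
  classical
  have hj1 : j ≠ 1 := by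
    intro h
    rw [h, orderOf_one] at hj
    omega
  have hjj : j * j = 1 := by
    rw [← pow_two, ← hj, pow_orderOf_eq_one]
  -- the index of the centralizer is the size of the conjugacy class
  have hidx : Nat.card G / Nat.card (Subgroup.centralizer ({j} : Set G)) =
      (MulAction.orbit (ConjAct G) j).ncard := by
    rw [Subgroup.nat_card_centralizer_nat_card_stabilizer, ← MulAction.index_stabilizer]
    have h := Subgroup.card_mul_index (MulAction.stabilizer (ConjAct G) j)
    have hc : Nat.card (ConjAct G) = Nat.card G := rfl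
    rw [hc] at h
    rw [← h, Nat.mul_div_cancel_left _ Nat.card_pos]
  rw [hidx]
  -- the class of `j` together with `1`
  have hfin : (MulAction.orbit (ConjAct G) j).Finite := Set.toFinite _
  have hsub : insert (1 : G) hfin.toFinset ⊆ Finset.univ.filter (fun s : G => s * s = 1) := by
    intro s hs
    rw [Finset.mem_insert] at hs
    rw [Finset.mem_filter]
    refine ⟨Finset.mem_univ _, ?_⟩
    rcases hs with rfl | hs
    · exact one_mul 1
    · rw [Set.Finite.mem_toFinset] at hs
      obtain ⟨g, rfl⟩ := hs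
      show g • j * g • j = 1
      rw [ConjAct.smul_def]
      calc ConjAct.ofConjAct g * j * (ConjAct.ofConjAct g)⁻¹ *
            (ConjAct.ofConjAct g * j * (ConjAct.ofConjAct g)⁻¹)
          = ConjAct.ofConjAct g * (j * j) * (ConjAct.ofConjAct g)⁻¹ := by group
        _ = 1 := by rw [hjj]; group
  have hnot : (1 : G) ∉ hfin.toFinset := by
    rw [Set.Finite.mem_toFinset]
    rintro ⟨g, hg⟩
    apply hj1
    have h1 : g • j = 1 := hg
    rw [ConjAct.smul_def] at h1
    have : j = (ConjAct.ofConjAct g)⁻¹ * (ConjAct.ofConjAct g * j * (ConjAct.ofConjAct g)⁻¹) *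
        ConjAct.ofConjAct g := by group
    rw [this, h1]
    group
  have hcard := Finset.card_le_card hsub
  rw [Finset.card_insert_of_notMem hnot, ← Set.ncard_eq_toFinset_card _ hfin] at hcard
  omega

/-- S0996 PK-FS. -/
theorem fs_bound {G : Type*} [Group G] [Fintype G] (j : G) (hj : orderOf j = 2) :
    1 + Nat.card G / Nat.card (Subgroup.centralizer ({j} : Set G)) ≤
      ∑ χ : IrrCharacter G, charDegree (χ : G → ℂ) := by
  classical
  refine (card_sq_one_ge j hj).trans ?_
  -- degrees and indicators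
  have hdeg : ∀ χ : IrrCharacter G, ∃ d : ℕ, (χ : G → ℂ) 1 = d := fun χ =>
    (irr_apply_one χ).imp fun d h => h.2
  choose d hd using hdeg
  have hcd : ∀ χ : IrrCharacter G, charDegree (χ : G → ℂ) = d χ := by
    intro χ
    unfold charDegree
    rw [hd, Complex.natCast_re, Nat.floor_natCast]
  have hν : ∀ χ : IrrCharacter G, ∃ r : ℤ, r ≤ 1 ∧ fsInd (χ : G → ℂ) = (r : ℂ) := by
    intro χ
    rcases fsInd_irr χ.2 with h | ⟨-, h | h⟩
    · exact ⟨0, by norm_num, by rw [h]; norm_num⟩
    · exact ⟨1, le_refl _, by rw [h]; norm_num⟩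
    · exact ⟨-1, by norm_num, by rw [h]; norm_num⟩
  choose r hr1 hr using hν
  have hcount := sqrtCount_one_eq (G := G)
  have hsq : sqrtCount (1 : G) =
      ((Finset.univ.filter (fun s : G => s * s = 1)).card : ℂ) := by
    unfold sqrtCount
    congr 2
  rw [hsq] at hcount
  have hcount' : (((Finset.univ.filter (fun s : G => s * s = 1)).card : ℤ) : ℂ) =
      ((∑ χ : IrrCharacter G, r χ * (d χ : ℤ) : ℤ) : ℂ) := by
    push_cast
    rw [hcount]
    refine Finset.sum_congr rfl fun χ _ => ?_
    rw [hr, hd]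
  have hcountZ : ((Finset.univ.filter (fun s : G => s * s = 1)).card : ℤ) =
      ∑ χ : IrrCharacter G, r χ * (d χ : ℤ) := by exact_mod_cast hcount'
  have hle : ∑ χ : IrrCharacter G, r χ * (d χ : ℤ) ≤ ∑ χ : IrrCharacter G, (d χ : ℤ) := by
    refine Finset.sum_le_sum fun χ _ => ?_
    have := hr1 χ
    nlinarith [Int.natCast_nonneg (d χ)]
  simp only [hcd]
  have : ((Finset.univ.filter (fun s : G => s * s = 1)).card : ℤ) ≤
      ((∑ χ : IrrCharacter G, d χ : ℕ) : ℤ) := by
    rw [hcountZ]
    push_cast
    exact hle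
  exact_mod_cast this

end Cfsg.Agent.Lib.Helper58_B43_FS
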