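import Mathlib
import Cfsg.Prelude.Def_Characters
import Cfsg.Agent.Lib.Helper75_Induced
import Cfsg.Agent.Lib.Helper74_FS3

/-!
# Induced class functions in a "Zassenhaus-type" configuration, part A (helper21)

Abstract setting: `G` a finite group, `N ≤ B` subgroups with `N` normal in `B`, `B / N` of odd
order `e`, `|N| = h`, `|G| = (h + 1) h e`, `N` a TI-subset with normaliser `B`, and the elements
whose square lies in `B` are the elements of `B` together with `h e` involutions outside `B`.

This file: the Frobenius–Schur sums of functions induced from `N` and from `B`.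
-/

set_option autoImplicit false
set_option linter.unusedSectionVars false
set_option linter.style.haveILetI false

namespace Cfsg.Agent.Lib.Helper21_FeitAbA

open scoped ComplexConjugate
open Cfsg Cfsg.Agent.Lib.Helper75_Induced Cfsg.Agent.Lib.Helper74_FS

universe u

variable {G : Type u} [Group G] [Fintype G]

/-- Sum over `g` of an induced function at `g * g`. -/
theorem sum_indFun_sq (K : Subgroup G) (θ : K → ℂ) :
    ∑ g : G, indFun K θ (g * g) =
      (Nat.card G : ℂ) * (Nat.card K : ℂ)⁻¹ * ∑ g : G, extendByZero K θ (g * g) := by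
  simp only [indFun_apply]
  rw [← Finset.mul_sum, Finset.sum_comm]
  have key : ∀ x : G, ∑ g : G, extendByZero K θ (x⁻¹ * (g * g) * x) =
      ∑ g : G, extendByZero K θ (g * g) := by
    intro x
    apply Fintype.sum_equiv (MulAut.conj x⁻¹).toEquiv
    intro g
    simp only [MulEquiv.toEquiv_eq_coe, EquivLike.coe_coe, MulAut.conj_apply, inv_inv]
    congr 1
    group
  rw [Finset.sum_congr rfl (fun x _ => key x), Finset.sum_const, Finset.card_univ, nsmul_eq_mul,
    ← Nat.card_eq_fintype_card]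
  ring

/-- The Frobenius–Schur sum of an induced function. -/
theorem fsInd_indFun (K : Subgroup G) (θ : K → ℂ) :
    fsInd (indFun K θ) = (Nat.card K : ℂ)⁻¹ * ∑ g : G, extendByZero K θ (g * g) := by
  unfold fsInd
  rw [sum_indFun_sq]
  have hG : (Nat.card G : ℂ) ≠ 0 := by
    rw [Nat.cast_ne_zero]; exact Nat.card_pos.ne'
  field_simp

/-- Conjugate of a function on `N` by an arbitrary element of `G`, extended by zero:
`y ↦ β (x⁻¹ y x)` if `x⁻¹ y x ∈ N` and `0` otherwise. -/
noncomputable def cjG (N : Subgroup G) (x : G) (β : N → ℂ) : N → ℂ :=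
  fun y => extendByZero N β (x⁻¹ * (y : G) * x)

theorem indFun_coe (N : Subgroup G) (β : N → ℂ) (y : N) :
    indFun N β (y : G) = (Nat.card N : ℂ)⁻¹ * ∑ x : G, cjG N x β y := rfl

/-- The abstract configuration. -/
structure Data (N B : Subgroup G) (h e : ℕ) : Prop where
  le : N ≤ B
  norm : ∀ g ∈ B, ∀ y ∈ N, g * y * g⁻¹ ∈ N
  ab : ∀ g₁ ∈ B, ∀ g₂ ∈ B, g₁ * g₂ * g₁⁻¹ * g₂⁻¹ ∈ N
  cardN : Nat.card N = h
  cardB : Nat.card B = h * e
  cardG : Nat.card G = (h + 1) * h * e
  odd : Odd e
  ti : ∀ y ∈ N, y ≠ 1 → ∀ g : G, g⁻¹ * y * g ∈ N → g ∈ B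
  sq : ∀ g : G, g * g ∈ B → g ∈ B ∨ g * g = 1
  cardS : Nat.card {g : G // g ∉ B ∧ g * g = 1} = h * e

namespace Data

variable {N B : Subgroup G} {h e : ℕ} (D : Data N B h e)
include D

theorem h_pos : 0 < h := by
  rw [← D.cardN]; exact Nat.card_pos

theorem e_pos : 0 < e := D.odd.pos

theorem normal_subgroupOf : (N.subgroupOf B).Normal := by
  constructor
  intro n hn g
  rw [Subgroup.mem_subgroupOf] at hn ⊢
  simpa using D.norm g g.2 n hn

theorem card_quotient :
    haveI := D.normal_subgroupOf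
    Nat.card (↥B ⧸ N.subgroupOf B) = e := by
  haveI := D.normal_subgroupOf
  have h1 := Subgroup.card_eq_card_quotient_mul_card_subgroup (N.subgroupOf B)
  have h2 : Nat.card (N.subgroupOf B) = Nat.card N :=
    Nat.card_congr (Subgroup.subgroupOfEquivOfLe D.le).toEquiv
  rw [h2, D.cardN, D.cardB] at h1
  have := D.h_pos
  nlinarith [Nat.eq_of_mul_eq_mul_right this (by linarith : e * h = Nat.card (↥B ⧸ N.subgroupOf B) * h)]

/-- An element of `B` whose square lies in `N` lies in `N` (`B / N` has odd order). -/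
theorem mem_of_sq_mem {g : G} (hg : g ∈ B) (hgg : g * g ∈ N) : g ∈ N := by
  haveI := D.normal_subgroupOf
  have hcard := D.card_quotient
  have h1 : ((QuotientGroup.mk (⟨g, hg⟩ : ↥B) : ↥B ⧸ N.subgroupOf B)) ^ e = 1 := by
    rw [← hcard]; exact pow_card_eq_one'
  rw [← QuotientGroup.mk_pow, QuotientGroup.eq_one_iff, Subgroup.mem_subgroupOf] at h1
  have h2 : g ^ e ∈ N := by simpa using h1
  obtain ⟨k, hk⟩ := D.odd
  have h3 : g ^ e = (g * g) ^ k * g := by
    rw [hk, pow_succ, ← pow_two, ← pow_mul]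
  have h4 : g = ((g * g) ^ k)⁻¹ * g ^ e := by rw [h3]; group
  rw [h4]
  exact N.mul_mem (N.inv_mem (N.pow_mem hgg k)) h2

theorem sq_mem_iff_of_not_mem {g : G} (hg : g ∉ N) : g * g ∈ N ↔ g ∉ B ∧ g * g = 1 := by
  constructor
  · intro hgg
    have hB : g ∉ B := fun hB => hg (D.mem_of_sq_mem hB hgg)
    refine ⟨hB, ?_⟩
    rcases D.sq g (D.le hgg) with h1 | h1
    · exact absurd h1 hB
    · exact h1
  · rintro ⟨-, h1⟩
    rw [h1]; exact N.one_mem

theorem sq_mem_B_iff_of_not_mem {g : G} (hg : g ∉ B) : g * g ∈ B ↔ g ∉ B ∧ g * g = 1 := by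
  constructor
  · intro hgg
    refine ⟨hg, ?_⟩
    rcases D.sq g hgg with h1 | h1
    · exact absurd h1 hg
    · exact h1
  · rintro ⟨-, h1⟩
    rw [h1]; exact B.one_mem

open scoped Classical in
theorem card_filter_S :
    (Finset.univ.filter (fun g : G => g ∉ B ∧ g * g = 1)).card = h * e := by
  rw [← D.cardS, Nat.card_eq_fintype_card, Fintype.card_subtype]

open scoped Classical in
/-- The sum of `α (g * g)` over the `g` with `g * g ∈ N`. -/
theorem sum_ext_sq_N [Fintype N] (α : N → ℂ) :
    ∑ g : G, extendByZero N α (g * g) = ∑ y : N, α (y * y) + ((h * e : ℕ) : ℂ) * α 1 := by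
  have h1 : ∀ g : G, extendByZero N α (g * g) =
      extendByZero N (fun y : N => α (y * y)) g + (if g ∉ B ∧ g * g = 1 then α 1 else 0) := by
    intro g
    by_cases hg : g ∈ N
    · have hgB : ¬ (g ∉ B ∧ g * g = 1) := fun hh => hh.1 (D.le hg)
      rw [if_neg hgB, add_zero, extendByZero_of_mem N _ hg,
        extendByZero_of_mem N _ (N.mul_mem hg hg)]
      rfl
    · rw [extendByZero_of_not_mem N _ hg, zero_add]
      by_cases hgg : g * g ∈ N
      · have hh := (D.sq_mem_iff_of_not_mem hg).1 hgg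
        rw [if_pos hh, extendByZero_of_mem N _ hgg]
        congr 1
        exact Subtype.ext hh.2
      · have hh : ¬ (g ∉ B ∧ g * g = 1) := fun hh => hgg ((D.sq_mem_iff_of_not_mem hg).2 hh)
        rw [if_neg hh, extendByZero_of_not_mem N _ hgg]
  rw [Finset.sum_congr rfl (fun g _ => h1 g), Finset.sum_add_distrib, sum_extendByZero,
    ← Finset.sum_filter, Finset.sum_const, D.card_filter_S, nsmul_eq_mul]

open scoped Classical in
/-- The sum of `β (g * g)` over the `g` with `g * g ∈ B`. -/
theorem sum_ext_sq_B [Fintype B] (β : B → ℂ) :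
    ∑ g : G, extendByZero B β (g * g) = ∑ y : B, β (y * y) + ((h * e : ℕ) : ℂ) * β 1 := by
  have h1 : ∀ g : G, extendByZero B β (g * g) =
      extendByZero B (fun y : B => β (y * y)) g + (if g ∉ B ∧ g * g = 1 then β 1 else 0) := by
    intro g
    by_cases hg : g ∈ B
    · have hgB : ¬ (g ∉ B ∧ g * g = 1) := fun hh => hh.1 hg
      rw [if_neg hgB, add_zero, extendByZero_of_mem B _ hg,
        extendByZero_of_mem B _ (B.mul_mem hg hg)]
      rfl
    · rw [extendByZero_of_not_mem B _ hg, zero_add]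
      by_cases hgg : g * g ∈ B
      · have hh := (D.sq_mem_B_iff_of_not_mem hg).1 hgg
        rw [if_pos hh, extendByZero_of_mem B _ hgg]
        congr 1
        exact Subtype.ext hh.2
      · have hh : ¬ (g ∉ B ∧ g * g = 1) := fun hh => hgg ((D.sq_mem_B_iff_of_not_mem hg).2 hh)
        rw [if_neg hh, extendByZero_of_not_mem B _ hgg]
  rw [Finset.sum_congr rfl (fun g _ => h1 g), Finset.sum_add_distrib, sum_extendByZero,
    ← Finset.sum_filter, Finset.sum_const, D.card_filter_S, nsmul_eq_mul]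

/-- **(FS) for `N`**: `ν(Ind_N^G α) = ν_N(α) + e α(1)`. -/
theorem fsInd_indFun_N [Fintype N] (α : N → ℂ) :
    fsInd (indFun N α) = fsInd α + (e : ℂ) * α 1 := by
  rw [fsInd_indFun, D.sum_ext_sq_N, D.cardN]
  unfold fsInd
  rw [D.cardN]
  have hh : (h : ℂ) ≠ 0 := by
    rw [Nat.cast_ne_zero]; exact D.h_pos.ne'
  push_cast
  field_simp

/-- **(FS) for `B`**: `ν(Ind_B^G β) = ν_B(β) + β(1)`. -/
theorem fsInd_indFun_B [Fintype B] (β : B → ℂ) :
    fsInd (indFun B β) = fsInd β + β 1 := by
  rw [fsInd_indFun, D.sum_ext_sq_B, D.cardB]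
  unfold fsInd
  rw [D.cardB]
  have hh : (h : ℂ) ≠ 0 := by
    rw [Nat.cast_ne_zero]; exact D.h_pos.ne'
  have he : (e : ℂ) ≠ 0 := by
    rw [Nat.cast_ne_zero]; exact D.e_pos.ne'
  push_cast
  field_simp

open scoped Classical in
theorem cjG_of_not_mem {x : G} (hx : x ∉ B) (β : N → ℂ) (y : N) :
    cjG N x β y = if y = 1 then β 1 else 0 := by
  unfold cjG
  by_cases hy : y = 1
  · subst hy
    rw [if_pos rfl]
    have h1 : x⁻¹ * ((1 : N) : G) * x = 1 := by simp
    rw [h1, extendByZero_of_mem N _ N.one_mem]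
    rfl
  · rw [if_neg hy]
    apply extendByZero_of_not_mem
    intro hmem
    apply hx
    refine D.ti (y : G) y.2 ?_ x hmem
    intro h1
    exact hy (Subtype.ext h1)

theorem classInner_cjG_of_not_mem [Fintype N] {x : G} (hx : x ∉ B) (α β : N → ℂ) :
    classInner α (cjG N x β) = (h : ℂ)⁻¹ * (α 1 * conj (β 1)) := by
  classical
  unfold classInner
  rw [D.cardN]
  congr 1
  rw [Finset.sum_eq_single (1 : N)]
  · rw [D.cjG_of_not_mem hx, if_pos rfl]
  · intro y _ hy
    rw [D.cjG_of_not_mem hx, if_neg hy, map_zero, mul_zero]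
  · intro h1
    exact absurd (Finset.mem_univ _) h1

/-- **Mackey formula on `N`** for the inner product of two functions induced from `N`. -/
theorem classInner_indFun_indFun [Fintype N] [Fintype B] (α β : N → ℂ) :
    classInner (indFun N α) (indFun N β) =
      (h : ℂ)⁻¹ * ∑ x : B, classInner α (cjG N (x : G) β) + (e : ℂ) * α 1 * conj (β 1) := by
  classical
  have hh : (h : ℂ) ≠ 0 := by
    rw [Nat.cast_ne_zero]; exact D.h_pos.ne'
  rw [frobenius_reciprocity N α _ (isClassFunction_indFun N β)]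
  -- expand the restriction
  have h1 : classInner α (fun y : N => indFun N β (y : G)) =
      ∑ x : G, (h : ℂ)⁻¹ * classInner α (cjG N x β) := by
    unfold classInner
    simp only [indFun_coe, D.cardN, map_mul, map_inv₀, Complex.conj_natCast, map_sum]
    simp only [Finset.mul_sum]
    rw [Finset.sum_comm]
    refine Finset.sum_congr rfl (fun x _ => ?_)
    refine Finset.sum_congr rfl (fun y _ => ?_)
    ring
  rw [h1]
  set c : ℂ := (h : ℂ)⁻¹ * ((h : ℂ)⁻¹ * (α 1 * conj (β 1))) with hc
  have h2 : ∀ x : G, (h : ℂ)⁻¹ * classInner α (cjG N x β) =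
      extendByZero B (fun b : B => (h : ℂ)⁻¹ * classInner α (cjG N (b : G) β) - c) x + c := by
    intro x
    by_cases hx : x ∈ B
    · rw [extendByZero_of_mem B _ hx]
      ring
    · rw [extendByZero_of_not_mem B _ hx, D.classInner_cjG_of_not_mem hx, zero_add]
  rw [Finset.sum_congr rfl (fun x _ => h2 x), Finset.sum_add_distrib, sum_extendByZero,
    Finset.sum_sub_distrib, Finset.sum_const, Finset.sum_const, Finset.card_univ, Finset.card_univ,
    ← Nat.card_eq_fintype_card, ← Nat.card_eq_fintype_card, D.cardB, D.cardG, nsmul_eq_mul,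
    nsmul_eq_mul, ← Finset.mul_sum, hc]
  push_cast
  field_simp
  ring

end Data

end Cfsg.Agent.Lib.Helper21_FeitAbA
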