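import Mathlib.RepresentationTheory.Character
import Mathlib.RepresentationTheory.Irreducible
import Mathlib.RepresentationTheory.Invariants
import Mathlib.Analysis.Complex.Basic
import Mathlib.GroupTheory.Coset.Card
import Mathlib.GroupTheory.QuotientGroup.Basic
import Mathlib.GroupTheory.OrderOfElement
import Mathlib.Data.Nat.Prime.Basic

/-!
# Normal subgroups fixing a vector act trivially on an irreducible representation (helper79)

* `rep_eq_one_of_fixed` : if `K` is normal, `ρ` irreducible and some nonzero vector is fixed by `K`,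
  then `ρ k = 1` for all `k ∈ K`;
* `exists_fixed_of_sum_ne_zero` : if `∑ h : H, χ h ≠ 0` there is a nonzero `H`-fixed vector;
* `sum_sq_eq_sum_of_odd_index` : if `f` is constant on cosets of the normal subgroup `K` of odd
  index then `∑ g, f (g * g) = ∑ g, f g`.
-/

set_option autoImplicit false

namespace Cfsg.Agent.Lib.Helper79_NormalKer

open Representation

section rep

variable {G : Type*} [Group G] {V : Type*} [AddCommGroup V] [Module ℂ V]
  (ρ : Representation ℂ G V)

/-- The vectors fixed by a normal subgroup form a subrepresentation. -/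
def fixedSub (K : Subgroup G) [K.Normal] : Subrepresentation ρ where
  toSubmodule :=
    { carrier := {w | ∀ k ∈ K, ρ k w = w}
      add_mem' := fun {a b} ha hb k hk => by rw [map_add, ha k hk, hb k hk]
      zero_mem' := fun k _ => map_zero _
      smul_mem' := fun c w hw k hk => by rw [map_smul, hw k hk] }
  apply_mem_toSubmodule := by
    intro g w hw k hk
    have h1 : g⁻¹ * k * g ∈ K := by
      have := Subgroup.Normal.conj_mem (inferInstance : K.Normal) k hk g⁻¹
      simpa using this
    have h2 := hw _ h1
    have h3 : ρ k (ρ g w) = ρ g (ρ (g⁻¹ * k * g) w) := by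
      rw [← Module.End.mul_apply, ← Module.End.mul_apply, ← map_mul, ← map_mul]
      congr 2
      group
    change ρ k (ρ g w) = ρ g w
    rw [h3, h2]

theorem mem_fixedSub (K : Subgroup G) [K.Normal] (w : V) :
    w ∈ (fixedSub ρ K).toSubmodule ↔ ∀ k ∈ K, ρ k w = w := Iff.rfl

/-- If a normal subgroup fixes a nonzero vector of an irreducible representation, it acts
trivially. -/
theorem rep_eq_one_of_fixed [ρ.IsIrreducible] (K : Subgroup G) [K.Normal] (v : V) (hv : v ≠ 0)
    (hfix : ∀ k ∈ K, ρ k v = v) : ∀ k ∈ K, ρ k = 1 := by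
  have hne : fixedSub ρ K ≠ ⊥ := by
    intro h
    have : v ∈ (fixedSub ρ K).toSubmodule := hfix
    rw [h] at this
    exact hv ((Submodule.mem_bot ℂ).1 this)
  have htop : fixedSub ρ K = ⊤ := (eq_bot_or_eq_top (fixedSub ρ K)).resolve_left hne
  intro k hk
  ext w
  have : w ∈ (fixedSub ρ K).toSubmodule := by
    rw [htop]; exact Submodule.mem_top
  exact this k hk

/-- Consequently the character is constant on cosets of `K`. -/
theorem char_mul_of_fixed [ρ.IsIrreducible] (K : Subgroup G) [K.Normal] (v : V) (hv : v ≠ 0)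
    (hfix : ∀ k ∈ K, ρ k v = v) (g : G) {k : G} (hk : k ∈ K) :
    ρ.character (g * k) = ρ.character g := by
  unfold Representation.character
  rw [map_mul, rep_eq_one_of_fixed ρ K v hv hfix k hk, mul_one]

/-- If the sum of the character over a subgroup is nonzero there is a nonzero fixed vector. -/
theorem exists_fixed_of_sum_ne_zero [FiniteDimensional ℂ V] (H : Subgroup G) [Fintype H]
    (hsum : ∑ h : H, ρ.character h ≠ 0) : ∃ v : V, v ≠ 0 ∧ ∀ h ∈ H, ρ h v = v := by
  have hne : (Nat.card H : ℂ) ≠ 0 := by exact_mod_cast Nat.card_pos.ne'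
  have : Invertible (Nat.card H : ℂ) := invertibleOfNonzero hne
  let σ : Representation ℂ H V := ρ.comp H.subtype
  have h := Representation.card_inv_mul_sum_char_eq_finrank σ
  have hfr : Module.finrank ℂ (Representation.invariants σ) ≠ 0 := by
    intro h0
    rw [h0, Nat.cast_zero] at h
    rcases mul_eq_zero.1 h with h1 | h1
    · exact hne (inv_eq_zero.1 h1)
    · exact hsum h1
  have hpos : 0 < Module.finrank ℂ (Representation.invariants σ) := Nat.pos_of_ne_zero hfr
  obtain ⟨w, hw⟩ := Module.finrank_pos_iff_exists_ne_zero.1 hpos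
  refine ⟨(w : V), fun h0 => hw (Subtype.ext h0), fun h hh => ?_⟩
  exact (Representation.mem_invariants σ (w : V)).1 w.2 ⟨h, hh⟩

end rep

section squares

variable {G : Type*} [Group G] [Fintype G]

/-- Summing a function that is constant on cosets of `K` over `G`, through the quotient. -/
theorem sum_eq_card_mul_sum_quotient (K : Subgroup G) [K.Normal] [Fintype (G ⧸ K)]
    (F : G ⧸ K → ℂ) :
    ∑ g : G, F (QuotientGroup.mk g) = (Nat.card K : ℂ) * ∑ x : G ⧸ K, F x := by
  classical
  rw [← Finset.sum_fiberwise Finset.univ (fun g : G => (QuotientGroup.mk g : G ⧸ K))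
    (fun g => F (QuotientGroup.mk g)), Finset.mul_sum]
  refine Finset.sum_congr rfl fun x _ => ?_
  have h1 : ∀ g ∈ Finset.univ.filter (fun g : G => (QuotientGroup.mk g : G ⧸ K) = x),
      F (QuotientGroup.mk g) = F x := by
    intro g hg
    rw [(Finset.mem_filter.1 hg).2]
  rw [Finset.sum_congr rfl h1, Finset.sum_const, nsmul_eq_mul]
  congr 1
  -- the fibre over `x` has `|K|` elements
  obtain ⟨g0, rfl⟩ := QuotientGroup.mk_surjective x
  have hcard : (Finset.univ.filter (fun g : G => (QuotientGroup.mk g : G ⧸ K) =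
      QuotientGroup.mk g0)).card = Nat.card K := by
    rw [Nat.card_eq_fintype_card, ← Finset.card_univ (α := K)]
    symm
    refine Finset.card_bij (fun k _ => g0 * (k : G)) ?_ ?_ ?_
    · intro k _
      simp only [Finset.mem_filter, Finset.mem_univ, true_and]
      rw [QuotientGroup.eq]
      simp
    · intro a _ b _ hab
      exact Subtype.ext (mul_left_cancel hab)
    · intro g hg
      have hg' := (Finset.mem_filter.1 hg).2
      rw [QuotientGroup.eq] at hg'
      refine ⟨⟨g0⁻¹ * g, ?_⟩, Finset.mem_univ _, by simp⟩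
      have := K.inv_mem hg'
      simpa using this
  rw [hcard]

/-- If `f` is constant on cosets of a normal subgroup of odd index, then
`∑ g, f (g * g) = ∑ g, f g`. -/
theorem sum_sq_eq_sum_of_odd_index (K : Subgroup G) [K.Normal] (hodd : Odd K.index)
    (f : G → ℂ) (hf : ∀ (g : G) (k : G), k ∈ K → f (g * k) = f g) :
    ∑ g : G, f (g * g) = ∑ g : G, f g := by
  classical
  haveI : Fintype (G ⧸ K) := Fintype.ofFinite _
  let F : G ⧸ K → ℂ := fun x => f (Quotient.out x)
  have hF : ∀ g : G, F (QuotientGroup.mk g) = f g := by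
    intro g
    obtain ⟨k, hk⟩ := QuotientGroup.mk_out_eq_mul K g
    simp only [F]
    rw [hk]
    exact hf g k k.2
  have h1 : ∑ g : G, f (g * g) = ∑ g : G, (fun x => F (x * x)) (QuotientGroup.mk g : G ⧸ K) := by
    refine Finset.sum_congr rfl fun g _ => ?_
    simp only
    rw [← QuotientGroup.mk_mul, hF]
  have h2 : ∑ g : G, f g = ∑ g : G, F (QuotientGroup.mk g : G ⧸ K) :=
    Finset.sum_congr rfl fun g _ => (hF g).symm
  rw [h1, h2, sum_eq_card_mul_sum_quotient K (fun x => F (x * x)),
    sum_eq_card_mul_sum_quotient K F]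
  congr 1
  have hcop : (Nat.card (G ⧸ K)).Coprime 2 := by
    rw [← Subgroup.index_eq_card]
    exact Nat.coprime_two_right.2 hodd
  refine Fintype.sum_equiv (powCoprime hcop) _ _ (fun x => ?_)
  simp [powCoprime, pow_two]

end squares

end Cfsg.Agent.Lib.Helper79_NormalKer
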