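import Mathlib
import Cfsg.Prelude.Def_Characters
import Cfsg.Agent.Lib.Helper21_FeitAbA
import Cfsg.Agent.Lib.Helper3_CharColumn
import Cfsg.Agent.Lib.Helper75_AbelianInertia
import Cfsg.Agent.Lib.Helper75_IndChar
import Cfsg.Agent.Lib.Helper75_CharArith
import Cfsg.Agent.Lib.Helper79_NormalKer
import Cfsg.Agent.S0194

/-!
# Induced class functions in a "Zassenhaus-type" configuration, part B (helper21)

The "principal series": the functions induced from the linear characters of `B` that are trivial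
on `N` (i.e. from the irreducible characters of the abelian group `B / N` of odd order `e`).
-/

set_option autoImplicit false
set_option linter.unusedSectionVars false
set_option linter.style.haveILetI false

namespace Cfsg.Agent.Lib.Helper21_FeitAbB

open scoped ComplexConjugate
open Cfsg Cfsg.Agent.Lib.Helper75_Induced Cfsg.Agent.Lib.Helper74_FS
  Cfsg.Agent.Lib.Helper21_FeitAbA Cfsg.Agent.Lib.Helper3_CharComplete
  Cfsg.Agent.Lib.Helper3_CharOrtho Cfsg.Agent.Lib.Helper3_CharColumn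

universe u

variable {G : Type u} [Group G] [Fintype G] {N B : Subgroup G}

section lift

variable [(N.subgroupOf B).Normal]

/-- Pull a function on `B / N` back to `B`. -/
def lift (μ : (↥B ⧸ N.subgroupOf B) → ℂ) : ↥B → ℂ := fun b => μ (QuotientGroup.mk b)

/-- The principal series function attached to a function on `B / N`. -/
noncomputable def pser (μ : (↥B ⧸ N.subgroupOf B) → ℂ) : G → ℂ := indFun B (lift μ)

theorem lift_one (μ : (↥B ⧸ N.subgroupOf B) → ℂ) : lift μ 1 = μ 1 := rfl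

theorem isCharacter_lift {μ : (↥B ⧸ N.subgroupOf B) → ℂ}
    (hμ : IsCharacter (↥B ⧸ N.subgroupOf B) μ) : IsCharacter ↥B (lift μ) :=
  Cfsg.Agent.Lib.Helper75_CharArith.isCharacter_comp (QuotientGroup.mk' (N.subgroupOf B)) hμ

theorem isCharacter_pser {μ : (↥B ⧸ N.subgroupOf B) → ℂ}
    (hμ : IsCharacter (↥B ⧸ N.subgroupOf B) μ) : IsCharacter G (pser μ) :=
  Cfsg.Agent.Lib.Helper75_IndChar.isCharacter_indFun B (isCharacter_lift hμ)

theorem conj_pser (μ : (↥B ⧸ N.subgroupOf B) → ℂ) :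
    (fun g => conj (pser μ g)) = pser (fun q => conj (μ q)) := by
  unfold pser
  rw [Cfsg.Agent.S0194.conj_indFun]
  rfl

end lift

end Cfsg.Agent.Lib.Helper21_FeitAbB

namespace Cfsg.Agent.Lib.Helper21_FeitAbA.Data

open scoped ComplexConjugate
open Cfsg Cfsg.Agent.Lib.Helper75_Induced Cfsg.Agent.Lib.Helper74_FS
  Cfsg.Agent.Lib.Helper21_FeitAbA Cfsg.Agent.Lib.Helper3_CharComplete
  Cfsg.Agent.Lib.Helper3_CharOrtho Cfsg.Agent.Lib.Helper3_CharColumn
  Cfsg.Agent.Lib.Helper21_FeitAbB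

universe u

variable {G : Type u} [Group G] [Fintype G] {N B : Subgroup G}
variable {h e : ℕ} (D : Helper21_FeitAbA.Data N B h e)
include D

theorem index_B : B.index = h + 1 := by
  have h1 := B.card_mul_index
  rw [D.cardB, D.cardG] at h1
  have hpos : 0 < h * e := Nat.mul_pos D.h_pos D.e_pos
  have : h * e * B.index = h * e * (h + 1) := by rw [h1]; ring
  exact Nat.eq_of_mul_eq_mul_left hpos this

theorem quot_comm [(N.subgroupOf B).Normal] (x y : ↥B ⧸ N.subgroupOf B) : x * y = y * x := by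
  induction x using QuotientGroup.induction_on with
  | H g₁ =>
    induction y using QuotientGroup.induction_on with
    | H g₂ =>
      rw [← QuotientGroup.mk_mul, ← QuotientGroup.mk_mul, QuotientGroup.eq,
        Subgroup.mem_subgroupOf]
      have := D.ab (g₂ : G)⁻¹ (B.inv_mem g₂.2) (g₁ : G)⁻¹ (B.inv_mem g₁.2)
      simpa [mul_assoc] using this

theorem irr_quot_one [(N.subgroupOf B).Normal] [Fintype (↥B ⧸ N.subgroupOf B)]
    {μ : (↥B ⧸ N.subgroupOf B) → ℂ} (hμ : IsIrrCharacter _ μ) : μ 1 = 1 := by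
  apply Cfsg.Agent.Lib.Helper75_AbelianInertia.irr_one_eq_one_of_abelian_quotient
    (⊥ : Subgroup (↥B ⧸ N.subgroupOf B)) _ hμ
  · rintro ⟨x, hx⟩
    rw [Subgroup.mem_bot] at hx
    subst hx
    rfl
  · intro x y
    rw [Subgroup.mem_bot, D.quot_comm x y]
    group

/-- `Ind_{N}^{B} 1` is the sum of the irreducible characters of `B / N` pulled back to `B`. -/
theorem indFun_one_subgroupOf [(N.subgroupOf B).Normal] [Fintype B]
    [Fintype (↥B ⧸ N.subgroupOf B)] :
    indFun (N.subgroupOf B) (fun _ => (1 : ℂ)) =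
      ∑ μ : IrrCharacter (↥B ⧸ N.subgroupOf B), lift (μ : (↥B ⧸ N.subgroupOf B) → ℂ) := by
  classical
  have hh : (h : ℂ) ≠ 0 := by
    rw [Nat.cast_ne_zero]; exact D.h_pos.ne'
  have hcardN' : Nat.card (N.subgroupOf B) = h := by
    rw [← D.cardN]
    exact Nat.card_congr (Subgroup.subgroupOfEquivOfLe D.le).toEquiv
  funext b
  rw [Finset.sum_apply]
  -- right hand side
  have hR : ∑ μ : IrrCharacter (↥B ⧸ N.subgroupOf B), lift (μ : (↥B ⧸ N.subgroupOf B) → ℂ) b =
      if b ∈ N.subgroupOf B then (e : ℂ) else 0 := by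
    have h1 := column_orthogonality (QuotientGroup.mk b : ↥B ⧸ N.subgroupOf B) 1
    have h2 : ∀ μ : IrrCharacter (↥B ⧸ N.subgroupOf B),
        (μ : (↥B ⧸ N.subgroupOf B) → ℂ) (QuotientGroup.mk b) * conj ((μ : (↥B ⧸ N.subgroupOf B) → ℂ) 1) =
          lift (μ : (↥B ⧸ N.subgroupOf B) → ℂ) b := by
      intro μ
      rw [D.irr_quot_one μ.2, map_one, mul_one]
      rfl
    rw [Finset.sum_congr rfl (fun μ _ => h2 μ)] at h1
    rw [h1]
    by_cases hb : b ∈ N.subgroupOf B
    · have hb1 : (QuotientGroup.mk b : ↥B ⧸ N.subgroupOf B) = 1 :=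
        (QuotientGroup.eq_one_iff b).2 hb
      rw [if_pos hb, hb1, if_pos (IsConj.refl _)]
      have : Subgroup.centralizer ({1} : Set (↥B ⧸ N.subgroupOf B)) = ⊤ := by
        ext x
        simp [Subgroup.mem_centralizer_singleton_iff]
      rw [this, Subgroup.card_top, D.card_quotient]
    · have hb1 : (QuotientGroup.mk b : ↥B ⧸ N.subgroupOf B) ≠ 1 := fun hh =>
        hb ((QuotientGroup.eq_one_iff b).1 hh)
      rw [if_neg hb, if_neg]
      rw [isConj_one_left]
      exact hb1
  rw [hR, indFun_apply, hcardN']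
  by_cases hb : b ∈ N.subgroupOf B
  · rw [if_pos hb]
    have h1 : ∀ x : ↥B, extendByZero (N.subgroupOf B) (fun _ => (1 : ℂ)) (x⁻¹ * b * x) = 1 := by
      intro x
      have hx : x⁻¹ * b * x ∈ N.subgroupOf B := by
        have := (inferInstance : (N.subgroupOf B).Normal).conj_mem b hb x⁻¹
        simpa using this
      rw [extendByZero_of_mem _ _ hx]
    rw [Finset.sum_congr rfl (fun x _ => h1 x), Finset.sum_const, Finset.card_univ,
      ← Nat.card_eq_fintype_card, D.cardB, nsmul_eq_mul]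
    push_cast
    field_simp
  · rw [if_neg hb]
    have h1 : ∀ x : ↥B, extendByZero (N.subgroupOf B) (fun _ => (1 : ℂ)) (x⁻¹ * b * x) = 0 := by
      intro x
      apply extendByZero_of_not_mem
      intro hx
      apply hb
      have := (inferInstance : (N.subgroupOf B).Normal).conj_mem _ hx x
      simpa [mul_assoc] using this
    rw [Finset.sum_congr rfl (fun x _ => h1 x), Finset.sum_const_zero, mul_zero]

/-- `Ind_N^G 1` is the sum of the principal series. -/
theorem indFun_one_eq_sum_pser [(N.subgroupOf B).Normal] [Fintype B]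
    [Fintype (↥B ⧸ N.subgroupOf B)] :
    indFun N (fun _ => (1 : ℂ)) =
      ∑ μ : IrrCharacter (↥B ⧸ N.subgroupOf B), pser (μ : (↥B ⧸ N.subgroupOf B) → ℂ) := by
  have h1 := indFun_trans N B D.le (fun _ => (1 : ℂ))
  have h2 : resSubgroupOf N B (fun _ => (1 : ℂ)) = fun _ => (1 : ℂ) := rfl
  rw [h2, D.indFun_one_subgroupOf, indFun_sum] at h1
  rw [← h1]
  rfl

/-- The degree of a principal series function. -/
theorem pser_one [(N.subgroupOf B).Normal] (μ : (↥B ⧸ N.subgroupOf B) → ℂ) :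
    pser μ 1 = ((h + 1 : ℕ) : ℂ) * μ 1 := by
  unfold pser
  rw [indFun_one, lift_one, D.cardB, D.cardG]
  have hh : (h : ℂ) ≠ 0 := by
    rw [Nat.cast_ne_zero]; exact D.h_pos.ne'
  have he : (e : ℂ) ≠ 0 := by
    rw [Nat.cast_ne_zero]; exact D.e_pos.ne'
  push_cast
  field_simp

/-- The trivial character occurs exactly once in `Ind_B^G 1`. -/
theorem classInner_pser_one [(N.subgroupOf B).Normal] [Fintype B] :
    classInner (pser (N := N) (B := B) (fun _ => (1 : ℂ))) (fun _ => (1 : ℂ)) = 1 := by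
  unfold pser
  rw [frobenius_reciprocity B _ _ (fun _ _ => rfl)]
  unfold classInner lift
  simp only [map_one, mul_one, Finset.sum_const, Finset.card_univ, nsmul_eq_mul,
    ← Nat.card_eq_fintype_card]
  have : (Nat.card B : ℂ) ≠ 0 := by
    rw [Nat.cast_ne_zero]; exact Nat.card_pos.ne'
  field_simp

/-- The Frobenius–Schur sum of a function pulled back from `B / N`. -/
theorem fsInd_lift [(N.subgroupOf B).Normal] [Fintype B] [Fintype (↥B ⧸ N.subgroupOf B)]
    (μ : (↥B ⧸ N.subgroupOf B) → ℂ) : fsInd (lift μ) = fsInd μ := by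
  have hcardN' : Nat.card (N.subgroupOf B) = h := by
    rw [← D.cardN]
    exact Nat.card_congr (Subgroup.subgroupOfEquivOfLe D.le).toEquiv
  unfold fsInd lift
  have h1 := Cfsg.Agent.Lib.Helper79_NormalKer.sum_eq_card_mul_sum_quotient (N.subgroupOf B)
    (fun q => μ (q * q))
  simp only [QuotientGroup.mk_mul]
  rw [h1, hcardN', D.cardB, D.card_quotient]
  have hh : (h : ℂ) ≠ 0 := by
    rw [Nat.cast_ne_zero]; exact D.h_pos.ne'
  have he : (e : ℂ) ≠ 0 := by
    rw [Nat.cast_ne_zero]; exact D.e_pos.ne'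
  push_cast
  field_simp

/-- **(FS) for the principal series**: `ν(Ind_B^G μ~) = 1 + [μ = 1]`. -/
theorem fsInd_pser [(N.subgroupOf B).Normal] [Fintype B] [Fintype (↥B ⧸ N.subgroupOf B)]
    (μ : IrrCharacter (↥B ⧸ N.subgroupOf B)) :
    fsInd (pser (μ : (↥B ⧸ N.subgroupOf B) → ℂ)) =
      (if (μ : (↥B ⧸ N.subgroupOf B) → ℂ) = (fun _ => 1) then 1 else 0) + 1 := by
  unfold pser
  rw [D.fsInd_indFun_B, D.fsInd_lift, lift_one, D.irr_quot_one μ.2]
  congr 1
  by_cases h1 : (μ : (↥B ⧸ N.subgroupOf B) → ℂ) = (fun _ => 1)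
  · rw [if_pos h1, h1]
    unfold fsInd
    simp only [Finset.sum_const, Finset.card_univ, nsmul_eq_mul, ← Nat.card_eq_fintype_card,
      mul_one]
    have : (Nat.card (↥B ⧸ N.subgroupOf B) : ℂ) ≠ 0 := by
      rw [Nat.cast_ne_zero]; exact Nat.card_pos.ne'
    field_simp
  · rw [if_neg h1]
    rcases fsInd_irr μ.2 with h0 | ⟨hreal, -⟩
    · exact h0
    · exfalso
      have hodd : Odd (Nat.card (↥B ⧸ N.subgroupOf B)) := by
        rw [D.card_quotient]; exact D.odd
      obtain ⟨s, hs⟩ := Cfsg.Agent.S0194.exists_im_ne_zero hodd μ.2 h1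
      exact hs (hreal s)

end Cfsg.Agent.Lib.Helper21_FeitAbA.Data
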