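import Mathlib
import Cfsg.Prelude.Def_Characters
import Cfsg.Agent.Lib.Helper21_FeitAbA
import Cfsg.Agent.Lib.Helper21_FeitAbB
import Cfsg.Agent.Lib.Helper79_FrobSchur
import Cfsg.Agent.Lib.Helper80_CharBasic
import Cfsg.Agent.Lib.Helper75_CharProd

/-!
# Multiplicity vectors of characters (helper21)

`mult φ χ` is the multiplicity (a natural number) of the irreducible character `χ` in the
character `φ`; norms, degrees and Frobenius–Schur sums in terms of multiplicities; the integer
valued Frobenius–Schur indicator `nu` and complex conjugation on `IrrCharacter G`.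
-/

set_option autoImplicit false
set_option linter.unusedSectionVars false
set_option linter.style.haveILetI false

namespace Cfsg.Agent.Lib.Helper21_FeitAbC

open scoped ComplexConjugate
open Cfsg Cfsg.Agent.Lib.Helper74_FS Cfsg.Agent.Lib.Helper3_CharComplete
  Cfsg.Agent.Lib.Helper3_CharOrtho Cfsg.Agent.Lib.Helper3_CharBridge
  Cfsg.Agent.Lib.Helper75_CharArith

universe u

variable {G : Type u} [Group G] [Fintype G]

/-- multiplicity of an irreducible character in a (class) function -/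
noncomputable def mult (φ : G → ℂ) (χ : IrrCharacter G) : ℕ :=
  Nat.floor (classInner φ (χ : G → ℂ)).re

theorem mult_spec {φ : G → ℂ} (hφ : IsCharacter G φ) (χ : IrrCharacter G) :
    classInner φ (χ : G → ℂ) = (mult φ χ : ℂ) := by
  obtain ⟨n, hn⟩ := classInner_isCharacter_nat hφ (isCharacter_of_isIrrCharacter χ.2)
  unfold mult
  rw [hn]
  simp

theorem mult_spec' {φ : G → ℂ} (hφ : IsCharacter G φ) (χ : IrrCharacter G) :
    classInner (χ : G → ℂ) φ = (mult φ χ : ℂ) := by
  rw [← classInner_conj_symm, mult_spec hφ, Complex.conj_natCast]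

theorem eq_sum_mult {φ : G → ℂ} (hφ : IsCharacter G φ) :
    φ = ∑ χ : IrrCharacter G, (mult φ χ : ℂ) • (χ : G → ℂ) := by
  conv_lhs => rw [classFunction_eq_sum φ (isClassFunction_of_isCharacter hφ)]
  refine Finset.sum_congr rfl (fun χ _ => ?_)
  rw [mult_spec hφ]

/-- inner product of two characters via multiplicities -/
theorem classInner_eq_sum_mult {φ ψ : G → ℂ} (hφ : IsCharacter G φ) (hψ : IsCharacter G ψ) :
    classInner φ ψ = ((∑ χ : IrrCharacter G, mult φ χ * mult ψ χ : ℕ) : ℂ) := by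
  rw [classInner_eq_sum_irr (isClassFunction_of_isCharacter hφ) ψ]
  push_cast
  refine Finset.sum_congr rfl (fun χ _ => ?_)
  rw [mult_spec hφ, mult_spec' hψ]

/-- degree of an irreducible character as a natural number -/
noncomputable def deg (χ : IrrCharacter G) : ℕ :=
  Classical.choose (Cfsg.Agent.Lib.Helper80_CharBasic.irr_apply_one χ)

theorem deg_spec (χ : IrrCharacter G) : (χ : G → ℂ) 1 = (deg χ : ℂ) :=
  (Classical.choose_spec (Cfsg.Agent.Lib.Helper80_CharBasic.irr_apply_one χ)).2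

theorem deg_pos (χ : IrrCharacter G) : 0 < deg χ :=
  (Classical.choose_spec (Cfsg.Agent.Lib.Helper80_CharBasic.irr_apply_one χ)).1

/-- degree of a character via multiplicities -/
theorem apply_one_eq_sum_mult {φ : G → ℂ} (hφ : IsCharacter G φ) :
    φ 1 = ((∑ χ : IrrCharacter G, mult φ χ * deg χ : ℕ) : ℂ) := by
  conv_lhs => rw [eq_sum_mult hφ]
  rw [Finset.sum_apply]
  push_cast
  refine Finset.sum_congr rfl (fun χ _ => ?_)
  rw [Pi.smul_apply, smul_eq_mul, deg_spec]

theorem fsInd_add (φ ψ : G → ℂ) : fsInd (φ + ψ) = fsInd φ + fsInd ψ := by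
  unfold fsInd
  simp only [Pi.add_apply, Finset.sum_add_distrib, mul_add]

theorem fsInd_smul (c : ℂ) (φ : G → ℂ) : fsInd (c • φ) = c * fsInd φ := by
  unfold fsInd
  simp only [Pi.smul_apply, smul_eq_mul, ← Finset.mul_sum]
  ring

theorem fsInd_sum {κ : Type*} (s : Finset κ) (f : κ → G → ℂ) :
    fsInd (∑ i ∈ s, f i) = ∑ i ∈ s, fsInd (f i) := by
  classical
  induction s using Finset.induction_on with
  | empty =>
    unfold fsInd
    simp
  | insert a s ha ih => rw [Finset.sum_insert ha, Finset.sum_insert ha, fsInd_add, ih]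

/-- the integer Frobenius–Schur indicator -/
noncomputable def nu (χ : IrrCharacter G) : ℤ :=
  haveI := Classical.propDecidable
  if fsInd (χ : G → ℂ) = 1 then 1 else if fsInd (χ : G → ℂ) = -1 then -1 else 0

theorem nu_spec (χ : IrrCharacter G) : fsInd (χ : G → ℂ) = (nu χ : ℂ) := by
  unfold nu
  rcases fsInd_irr χ.2 with h | ⟨-, h | h⟩
  · rw [h]
    have h1 : ¬ ((0 : ℂ) = 1) := by norm_num
    have h2 : ¬ ((0 : ℂ) = -1) := by norm_num
    simp [h1, h2]
  · rw [h]; simp
  · rw [h]
    have h1 : ¬ ((-1 : ℂ) = 1) := by norm_num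
    simp [h1]

theorem nu_le_one (χ : IrrCharacter G) : nu χ ≤ 1 := by
  unfold nu
  split_ifs <;> omega

/-- Frobenius–Schur sum of a character via multiplicities -/
theorem fsInd_eq_sum_mult {φ : G → ℂ} (hφ : IsCharacter G φ) :
    fsInd φ = ((∑ χ : IrrCharacter G, (mult φ χ : ℤ) * nu χ : ℤ) : ℂ) := by
  conv_lhs => rw [eq_sum_mult hφ]
  rw [fsInd_sum]
  push_cast
  refine Finset.sum_congr rfl (fun χ _ => ?_)
  rw [fsInd_smul, nu_spec]

/-- complex conjugation on irreducible characters -/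
noncomputable def cjIrr (χ : IrrCharacter G) : IrrCharacter G :=
  ⟨fun g => conj ((χ : G → ℂ) g), Cfsg.Agent.Lib.Helper75_CharProd.isIrrCharacter_conj χ.2⟩

theorem cjIrr_cjIrr (χ : IrrCharacter G) : cjIrr (cjIrr χ) = χ := by
  apply Subtype.ext
  funext g
  simp [cjIrr]

theorem nu_eq_zero_iff (χ : IrrCharacter G) : nu χ = 0 ↔ cjIrr χ ≠ χ := by
  have h1 : nu χ = 0 ↔ fsInd (χ : G → ℂ) = 0 := by
    rw [nu_spec]
    constructor
    · intro h; rw [h]; simp
    · intro h; exact_mod_cast h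
  rw [h1]
  obtain ⟨n, ρ, hirr, hρ⟩ := χ.2
  have := hirr
  have h2 := Cfsg.Agent.Lib.Helper79_FrobSchur.indicator_eq_zero_iff ρ
  rw [hρ] at h2
  have h3 : fsInd (χ : G → ℂ) = (Nat.card G : ℂ)⁻¹ * ∑ s : G, (χ : G → ℂ) (s * s) := rfl
  rw [h3, h2]
  constructor
  · rintro ⟨s, hs⟩ heq
    apply hs
    have h4 := congrArg (fun ψ : IrrCharacter G => (ψ : G → ℂ) s) heq
    simp only [cjIrr] at h4
    exact Complex.conj_eq_iff_im.1 h4
  · intro hne
    by_contra hcon
    push Not at hcon
    apply hne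
    apply Subtype.ext
    funext s
    simp only [cjIrr]
    exact Complex.conj_eq_iff_im.2 (hcon s)

/-- multiplicities in the complex conjugate -/
theorem mult_conj {φ : G → ℂ} (hφ : IsCharacter G φ) (χ : IrrCharacter G) :
    mult (fun g => conj (φ g)) χ = mult φ (cjIrr χ) := by
  have h1 := Cfsg.Agent.Lib.Helper75_CharProd.classInner_conj_conj φ ((cjIrr χ : IrrCharacter G) : G → ℂ)
  have h2 : (fun g => conj (((cjIrr χ : IrrCharacter G) : G → ℂ) g)) = (χ : G → ℂ) := by
    funext g
    simp [cjIrr]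
  rw [h2, mult_spec hφ, Complex.conj_natCast,
    mult_spec (Cfsg.Agent.Lib.Helper75_CharProd.isCharacter_conj hφ)] at h1
  exact_mod_cast h1

theorem mult_sum {κ : Type*} (s : Finset κ) (f : κ → G → ℂ)
    (hf : ∀ i ∈ s, IsCharacter G (f i)) (χ : IrrCharacter G) :
    mult (∑ i ∈ s, f i) χ = ∑ i ∈ s, mult (f i) χ := by
  have h1 := mult_spec (isCharacter_sum s f hf) χ
  rw [classInner_sum_left] at h1
  have h2 : ∑ i ∈ s, classInner (f i) (χ : G → ℂ) = ((∑ i ∈ s, mult (f i) χ : ℕ) : ℂ) := by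
    push_cast
    exact Finset.sum_congr rfl (fun i hi => mult_spec (hf i hi) χ)
  rw [h2] at h1
  exact_mod_cast h1.symm

end Cfsg.Agent.Lib.Helper21_FeitAbC
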