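import Mathlib

/-!
# A combinatorial model for the Feit inequality (abelian kernel), helper21

Pure arithmetic on multiplicity vectors `ι → ℕ` (`ι` = irreducible characters of `G`).
-/

set_option autoImplicit false
set_option linter.unusedSectionVars false

namespace Cfsg.Agent.Lib.Helper21_FeitAbM

open Finset

variable {ι : Type*} [Fintype ι] [DecidableEq ι]

/-- **K1**: norm `e + 1` and Frobenius–Schur sum `e` force multiplicity-freeness with exactly one
constituent of indicator `0`, all other constituents having indicator `1`. -/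
theorem k1 (m : ι → ℕ) (n : ι → ℤ) (e : ℕ) (hn : ∀ i, n i ≤ 1)
    (h1 : ∑ i, m i * m i = e + 1) (h2 : ∑ i, (m i : ℤ) * n i = e) :
    ∃ x, m x = 1 ∧ n x = 0 ∧ (∀ i, m i ≤ 1) ∧ ∀ i, m i = 1 → i ≠ x → n i = 1 := by
  set t : ι → ℤ := fun i => (m i : ℤ) * ((m i : ℤ) - n i) with ht
  have htnn : ∀ i, 0 ≤ t i := by
    intro i
    rcases Nat.eq_zero_or_pos (m i) with h0 | h0
    · simp [ht, h0]
    · apply mul_nonneg (by positivity)
      have := hn i
      have : (1 : ℤ) ≤ m i := by exact_mod_cast h0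
      linarith
  have hsum : ∑ i, t i = 1 := by
    have h1' : ∑ i, (m i : ℤ) * (m i : ℤ) = e + 1 := by exact_mod_cast h1
    simp only [ht, mul_sub, Finset.sum_sub_distrib, h1', h2]
    ring
  obtain ⟨x, -, hx⟩ := Finset.exists_ne_zero_of_sum_ne_zero (by rw [hsum]; exact one_ne_zero)
  have hx1 : 1 ≤ t x := by
    have := htnn x
    omega
  have hsplit := Finset.add_sum_erase Finset.univ t (Finset.mem_univ x)
  have hrest : 0 ≤ ∑ i ∈ Finset.univ.erase x, t i := Finset.sum_nonneg (fun i _ => htnn i)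
  have htx : t x = 1 := by linarith
  have hrest0 : ∑ i ∈ Finset.univ.erase x, t i = 0 := by linarith
  have hz : ∀ i, i ≠ x → t i = 0 := by
    intro i hi
    exact (Finset.sum_eq_zero_iff_of_nonneg (fun i _ => htnn i)).1 hrest0 i
      (Finset.mem_erase.2 ⟨hi, Finset.mem_univ i⟩)
  have hmx : m x = 1 ∧ n x = 0 := by
    have h3 : (m x : ℤ) * ((m x : ℤ) - n x) = 1 := htx
    rcases Int.mul_eq_one_iff_eq_one_or_neg_one.1 h3 with ⟨ha, hb⟩ | ⟨ha, hb⟩
    · refine ⟨by exact_mod_cast ha, ?_⟩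
      rw [ha] at hb; linarith
    · have : (0 : ℤ) ≤ m x := by positivity
      omega
  have hothers : ∀ i, i ≠ x → (m i = 0 ∨ (m i = 1 ∧ n i = 1)) := by
    intro i hi
    have h3 : (m i : ℤ) * ((m i : ℤ) - n i) = 0 := hz i hi
    rcases mul_eq_zero.1 h3 with h4 | h4
    · left; exact_mod_cast h4
    · rcases Nat.eq_zero_or_pos (m i) with h0 | h0
      · left; exact h0
      · right
        have := hn i
        have h5 : (1 : ℤ) ≤ m i := by exact_mod_cast h0
        have h6 : (m i : ℤ) = 1 := by linarith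
        refine ⟨by exact_mod_cast h6, by linarith⟩
  refine ⟨x, hmx.1, hmx.2, ?_, ?_⟩
  · intro i
    by_cases hi : i = x
    · rw [hi, hmx.1]
    · rcases hothers i hi with h0 | ⟨h0, -⟩ <;> omega
  · intro i hi hix
    rcases hothers i hix with h0 | ⟨-, h0⟩
    · omega
    · exact h0

/-- **K2**: norm equal to the Frobenius–Schur sum forces multiplicity-freeness with all
constituents of indicator `1`. -/
theorem k2 (m : ι → ℕ) (n : ι → ℤ) (hn : ∀ i, n i ≤ 1)
    (h : ∑ i, (m i : ℤ) * m i = ∑ i, (m i : ℤ) * n i) :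
    ∀ i, m i ≠ 0 → n i = 1 := by
  set t : ι → ℤ := fun i => (m i : ℤ) * ((m i : ℤ) - n i) with ht
  have htnn : ∀ i, 0 ≤ t i := by
    intro i
    rcases Nat.eq_zero_or_pos (m i) with h0 | h0
    · simp [ht, h0]
    · apply mul_nonneg (by positivity)
      have := hn i
      have : (1 : ℤ) ≤ m i := by exact_mod_cast h0
      linarith
  have hsum : ∑ i, t i = 0 := by
    simp only [ht, mul_sub, Finset.sum_sub_distrib, h]
    ring
  intro i hi
  have h3 : (m i : ℤ) * ((m i : ℤ) - n i) = 0 :=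
    (Finset.sum_eq_zero_iff_of_nonneg (fun i _ => htnn i)).1 hsum i (Finset.mem_univ i)
  rcases mul_eq_zero.1 h3 with h4 | h4
  · exact absurd (by exact_mod_cast h4) hi
  · have := hn i
    have h5 : (1 : ℤ) ≤ m i := by
      have : 0 < m i := Nat.pos_of_ne_zero hi
      exact_mod_cast this
    linarith

/-- A vector of naturals with sum of squares `1` is an indicator. -/
theorem sq_sum_eq_one (f : ι → ℕ) (h : ∑ i, f i * f i = 1) :
    ∃ j, f j = 1 ∧ ∀ i, i ≠ j → f i = 0 := by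
  obtain ⟨j, -, hj⟩ := Finset.exists_ne_zero_of_sum_ne_zero (by rw [h]; exact one_ne_zero)
  have hsplit := Finset.add_sum_erase Finset.univ (fun i => f i * f i) (Finset.mem_univ j)
  rw [h] at hsplit
  have hj0 : f j ≠ 0 := fun h0 => hj (by simp [h0])
  have hj1 : 1 ≤ f j * f j := Nat.one_le_iff_ne_zero.2 hj
  have hrest : ∑ i ∈ Finset.univ.erase j, f i * f i = 0 := by omega
  have hjj : f j * f j = 1 := by omega
  refine ⟨j, ?_, ?_⟩
  · exact Nat.eq_one_of_mul_eq_one_right hjj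
  · intro i hi
    have := (Finset.sum_eq_zero_iff.1 hrest) i (Finset.mem_erase.2 ⟨hi, Finset.mem_univ i⟩)
    exact (mul_self_eq_zero.1 this)

/-- A vector of naturals with sum of squares `2` and a coordinate equal to `1` is the sum of two
distinct indicators. -/
theorem sq_sum_eq_two (f : ι → ℕ) (o : ι) (ho : f o = 1) (h : ∑ i, f i * f i = 2) :
    ∃ θ, θ ≠ o ∧ f θ = 1 ∧ ∀ i, i ≠ o → i ≠ θ → f i = 0 := by
  have hsplit := Finset.add_sum_erase Finset.univ (fun i => f i * f i) (Finset.mem_univ o)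
  rw [h] at hsplit
  simp only [ho] at hsplit
  have hrest : ∑ i ∈ Finset.univ.erase o, f i * f i = 1 := by omega
  obtain ⟨θ, hθm, hθ⟩ := Finset.exists_ne_zero_of_sum_ne_zero (by rw [hrest]; exact one_ne_zero)
  have hθo : θ ≠ o := (Finset.mem_erase.1 hθm).1
  have hsplit2 := Finset.add_sum_erase (Finset.univ.erase o) (fun i => f i * f i) hθm
  rw [hrest] at hsplit2
  have hθ1 : 1 ≤ f θ * f θ := Nat.one_le_iff_ne_zero.2 hθ
  have hrest2 : ∑ i ∈ (Finset.univ.erase o).erase θ, f i * f i = 0 := by omega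
  have hθθ : f θ * f θ = 1 := by omega
  refine ⟨θ, hθo, Nat.eq_one_of_mul_eq_one_right hθθ, ?_⟩
  intro i hio hiθ
  have := (Finset.sum_eq_zero_iff.1 hrest2) i
    (Finset.mem_erase.2 ⟨hiθ, Finset.mem_erase.2 ⟨hio, Finset.mem_univ i⟩⟩)
  exact (mul_self_eq_zero.1 this)

/-- The principal series data: multiplicity vectors `P μ`, `μ : M`. -/
structure PSeries (ι M : Type*) [Fintype ι] [Fintype M] [DecidableEq M] (e h : ℕ) where
  c : ι → ι
  n : ι → ℤ
  d : ι → ℕ
  o : ι
  P : M → ι → ℕ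
  cM : M → M
  oM : M
  hh : 1 ≤ h
  hn1 : ∀ i, n i ≤ 1
  hn0 : ∀ i, n i = 0 ↔ c i ≠ i
  hdo : d o = 1
  hnorm : ∑ i, (∑ μ, P μ i) * (∑ μ, P μ i) = 2 * e
  hM2 : ∀ μ, ∑ i, (P μ i : ℤ) * n i = 1 + (if μ = oM then 1 else 0)
  hM3 : ∀ μ i, P (cM μ) i = P μ (c i)
  hM4 : ∀ μ, cM μ = μ → μ = oM
  hM5 : Fintype.card M = e
  hM6 : P oM o = 1
  hM7 : ∀ μ, ∑ i, P μ i * d i = h + 1

namespace PSeries

variable {M : Type*} [Fintype M] [DecidableEq M] {e h : ℕ} (S : PSeries ι M e h)

/-- Gram matrix of the principal series. -/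
def A (μ μ' : M) : ℕ := ∑ i, S.P μ i * S.P μ' i

theorem A_comm (μ μ' : M) : S.A μ μ' = S.A μ' μ := by
  unfold A
  exact Finset.sum_congr rfl (fun i _ => mul_comm _ _)

theorem le_A (μ μ' : M) (i : ι) : S.P μ i * S.P μ' i ≤ S.A μ μ' :=
  Finset.single_le_sum (f := fun i => S.P μ i * S.P μ' i) (fun _ _ => Nat.zero_le _)
    (Finset.mem_univ i)

theorem sum_A : ∑ μ, ∑ μ', S.A μ μ' = 2 * e := by
  rw [← S.hnorm]
  unfold A
  calc ∑ μ, ∑ μ', ∑ i, S.P μ i * S.P μ' i
      = ∑ μ, ∑ i, ∑ μ', S.P μ i * S.P μ' i :=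
        Finset.sum_congr rfl (fun μ _ => Finset.sum_comm)
    _ = ∑ i, ∑ μ, ∑ μ', S.P μ i * S.P μ' i := Finset.sum_comm
    _ = ∑ i, (∑ μ, S.P μ i) * (∑ μ, S.P μ i) :=
        Finset.sum_congr rfl (fun i _ => (Finset.sum_mul_sum _ _ _ _).symm)

theorem exists_pos (μ : M) : ∃ i, 1 ≤ S.P μ i := by
  by_contra hcon
  push Not at hcon
  have h0 : ∀ i, S.P μ i = 0 := fun i => by have := hcon i; omega
  have := S.hM7 μ
  simp only [h0, zero_mul, Finset.sum_const_zero] at this
  omega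

theorem one_le_A_self (μ : M) : 1 ≤ S.A μ μ := by
  obtain ⟨i, hi⟩ := S.exists_pos μ
  calc 1 ≤ S.P μ i * S.P μ i := Nat.mul_le_mul hi hi
    _ ≤ S.A μ μ := S.le_A μ μ i

theorem two_le_A_oM : 2 ≤ S.A S.oM S.oM := by
  -- another constituent besides `o`
  have hex : ∃ j, j ≠ S.o ∧ 1 ≤ S.P S.oM j := by
    by_contra hcon
    push Not at hcon
    have h0 : ∀ j, j ≠ S.o → S.P S.oM j = 0 := fun j hj => by have := hcon j hj; omega
    have h7 := S.hM7 S.oM
    rw [Finset.sum_eq_single S.o (fun j _ hj => by rw [h0 j hj, zero_mul])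
      (fun hh => absurd (Finset.mem_univ _) hh), S.hM6, S.hdo] at h7
    have := S.hh
    omega
  obtain ⟨j, hjo, hj⟩ := hex
  unfold A
  have hsplit := Finset.add_sum_erase Finset.univ (fun i => S.P S.oM i * S.P S.oM i)
    (Finset.mem_univ S.o)
  have h2 : S.P S.oM j * S.P S.oM j ≤ ∑ i ∈ Finset.univ.erase S.o, S.P S.oM i * S.P S.oM i :=
    Finset.single_le_sum (f := fun i => S.P S.oM i * S.P S.oM i) (fun _ _ => Nat.zero_le _)
      (Finset.mem_erase.2 ⟨hjo, Finset.mem_univ j⟩)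
  have h3 : 1 ≤ S.P S.oM j * S.P S.oM j := Nat.mul_le_mul hj hj
  simp only [S.hM6] at hsplit
  omega

/-- For `μ ≠ oM` there is a real constituent. -/
theorem exists_real (μ : M) (hμ : μ ≠ S.oM) : ∃ i, 1 ≤ S.P μ i ∧ S.n i = 1 := by
  have h2 := S.hM2 μ
  rw [if_neg hμ, add_zero] at h2
  by_contra hcon
  push Not at hcon
  have hle : ∑ i, (S.P μ i : ℤ) * S.n i ≤ 0 := by
    apply Finset.sum_nonpos
    intro i _
    rcases Nat.eq_zero_or_pos (S.P μ i) with h0 | h0
    · simp [h0]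
    · have h1 := hcon i h0
      have h3 := S.hn1 i
      have h4 : S.n i ≤ 0 := by omega
      exact mul_nonpos_of_nonneg_of_nonpos (by positivity) h4
  omega

theorem c_eq_of_n_one {i : ι} (hi : S.n i = 1) : S.c i = i := by
  by_contra hcon
  have := (S.hn0 i).2 hcon
  omega

theorem one_le_A_cM (μ : M) (hμ : μ ≠ S.oM) : 1 ≤ S.A μ (S.cM μ) := by
  obtain ⟨i, hi, hni⟩ := S.exists_real μ hμ
  have hc := S.c_eq_of_n_one hni
  calc 1 ≤ S.P μ i * S.P μ i := Nat.mul_le_mul hi hi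
    _ = S.P μ i * S.P (S.cM μ) i := by rw [S.hM3, hc]
    _ ≤ S.A μ (S.cM μ) := S.le_A μ (S.cM μ) i

/-- Row sums of the Gram matrix are at least `2`. -/
theorem two_le_row (μ : M) : 2 ≤ ∑ μ', S.A μ μ' := by
  by_cases hμ : μ = S.oM
  · subst hμ
    calc 2 ≤ S.A S.oM S.oM := S.two_le_A_oM
      _ ≤ ∑ μ', S.A S.oM μ' :=
        Finset.single_le_sum (f := fun μ' => S.A S.oM μ') (fun _ _ => Nat.zero_le _)
          (Finset.mem_univ _)
  · have hne : S.cM μ ≠ μ := fun hh => hμ (S.hM4 μ hh)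
    have hsub : ({μ, S.cM μ} : Finset M) ⊆ Finset.univ := Finset.subset_univ _
    calc 2 ≤ S.A μ μ + S.A μ (S.cM μ) := by
          have := S.one_le_A_self μ
          have := S.one_le_A_cM μ hμ
          omega
      _ = ∑ μ' ∈ ({μ, S.cM μ} : Finset M), S.A μ μ' := by
          rw [Finset.sum_pair hne.symm]
      _ ≤ ∑ μ', S.A μ μ' :=
          Finset.sum_le_sum_of_subset hsub

/-- Every row sum is exactly `2`. -/
theorem row_eq_two (μ : M) : ∑ μ', S.A μ μ' = 2 := by
  have htot := S.sum_A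
  have hcard : ∑ _μ : M, 2 = 2 * e := by
    rw [Finset.sum_const, Finset.card_univ, S.hM5, smul_eq_mul, mul_comm]
  by_contra hne
  have hlt : 2 < ∑ μ', S.A μ μ' := lt_of_le_of_ne (S.two_le_row μ) (Ne.symm hne)
  have : ∑ _μ : M, 2 < ∑ μ, ∑ μ', S.A μ μ' :=
    Finset.sum_lt_sum (fun μ _ => S.two_le_row μ) ⟨μ, Finset.mem_univ μ, hlt⟩
  omega

theorem A_oM_self : S.A S.oM S.oM = 2 := by
  have h1 := S.row_eq_two S.oM
  have h2 := S.two_le_A_oM
  have h3 : S.A S.oM S.oM ≤ ∑ μ', S.A S.oM μ' :=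
    Finset.single_le_sum (f := fun μ' => S.A S.oM μ') (fun _ _ => Nat.zero_le _)
      (Finset.mem_univ _)
  omega

theorem A_oM_ne (μ : M) (hμ : μ ≠ S.oM) : S.A S.oM μ = 0 := by
  have h1 := S.row_eq_two S.oM
  have hsplit := Finset.add_sum_erase Finset.univ (fun μ' => S.A S.oM μ') (Finset.mem_univ S.oM)
  rw [h1] at hsplit
  simp only [S.A_oM_self] at hsplit
  have h0 : ∑ μ' ∈ Finset.univ.erase S.oM, S.A S.oM μ' = 0 := by omega
  exact (Finset.sum_eq_zero_iff.1 h0) μ (Finset.mem_erase.2 ⟨hμ, Finset.mem_univ μ⟩)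

theorem A_self (μ : M) (hμ : μ ≠ S.oM) : S.A μ μ = 1 ∧ S.A μ (S.cM μ) = 1 ∧
    ∀ μ', μ' ≠ μ → μ' ≠ S.cM μ → S.A μ μ' = 0 := by
  have hne : S.cM μ ≠ μ := fun hh => hμ (S.hM4 μ hh)
  have h1 := S.row_eq_two μ
  have hsplit := Finset.add_sum_erase Finset.univ (fun μ' => S.A μ μ') (Finset.mem_univ μ)
  have hmem : S.cM μ ∈ Finset.univ.erase μ := Finset.mem_erase.2 ⟨hne, Finset.mem_univ _⟩
  have hsplit2 := Finset.add_sum_erase (Finset.univ.erase μ) (fun μ' => S.A μ μ') hmem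
  have ha := S.one_le_A_self μ
  have hb := S.one_le_A_cM μ hμ
  have h0 : ∑ μ' ∈ (Finset.univ.erase μ).erase (S.cM μ), S.A μ μ' = 0 := by omega
  refine ⟨by omega, by omega, ?_⟩
  intro μ' h1' h2'
  exact (Finset.sum_eq_zero_iff.1 h0) μ'
    (Finset.mem_erase.2 ⟨h2', Finset.mem_erase.2 ⟨h1', Finset.mem_univ μ'⟩⟩)

/-- For `μ ≠ oM`, `P μ` is the indicator of a real index of degree `h + 1`. -/
theorem P_indicator (μ : M) (hμ : μ ≠ S.oM) :
    ∃ j, S.c j = j ∧ S.d j = h + 1 ∧ S.P μ j = 1 ∧ ∀ i, i ≠ j → S.P μ i = 0 := by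
  obtain ⟨j, hj1, hj0⟩ := sq_sum_eq_one (S.P μ) (S.A_self μ hμ).1
  obtain ⟨i, hi, hni⟩ := S.exists_real μ hμ
  have hij : i = j := by
    by_contra hne
    have := hj0 i hne
    omega
  subst hij
  refine ⟨i, S.c_eq_of_n_one hni, ?_, hj1, hj0⟩
  have h7 := S.hM7 μ
  rw [Finset.sum_eq_single i (fun k _ hk => by rw [hj0 k hk, zero_mul])
    (fun hh => absurd (Finset.mem_univ _) hh), hj1, one_mul] at h7
  exact h7

/-- `P oM` is the sum of the indicators of `o` and of a real index `θ` of degree `h`. -/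
theorem P_oM : ∃ θ, θ ≠ S.o ∧ S.c θ = θ ∧ S.c S.o = S.o ∧ S.d θ = h ∧ S.P S.oM θ = 1 ∧
    ∀ i, i ≠ S.o → i ≠ θ → S.P S.oM i = 0 := by
  obtain ⟨θ, hθo, hθ1, hθ0⟩ := sq_sum_eq_two (S.P S.oM) S.o S.hM6 S.A_oM_self
  have h7 := S.hM7 S.oM
  have hsplit := Finset.add_sum_erase Finset.univ (fun i => S.P S.oM i * S.d i)
    (Finset.mem_univ S.o)
  have hmem : θ ∈ Finset.univ.erase S.o := Finset.mem_erase.2 ⟨hθo, Finset.mem_univ _⟩
  have hsplit2 := Finset.add_sum_erase (Finset.univ.erase S.o) (fun i => S.P S.oM i * S.d i) hmem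
  have hrest : ∑ i ∈ (Finset.univ.erase S.o).erase θ, S.P S.oM i * S.d i = 0 := by
    apply Finset.sum_eq_zero
    intro i hi
    rw [Finset.mem_erase, Finset.mem_erase] at hi
    rw [hθ0 i hi.2.1 hi.1, zero_mul]
  simp only [S.hM6, S.hdo, hθ1, one_mul] at hsplit hsplit2
  have hdθ : S.d θ = h := by omega
  -- indicators
  have h2 := S.hM2 S.oM
  rw [if_pos rfl] at h2
  have hsplitn := Finset.add_sum_erase Finset.univ (fun i => (S.P S.oM i : ℤ) * S.n i)
    (Finset.mem_univ S.o)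
  have hsplitn2 := Finset.add_sum_erase (Finset.univ.erase S.o)
    (fun i => (S.P S.oM i : ℤ) * S.n i) hmem
  have hrestn : ∑ i ∈ (Finset.univ.erase S.o).erase θ, (S.P S.oM i : ℤ) * S.n i = 0 := by
    apply Finset.sum_eq_zero
    intro i hi
    rw [Finset.mem_erase, Finset.mem_erase] at hi
    rw [hθ0 i hi.2.1 hi.1]
    simp
  simp only [S.hM6, hθ1, Nat.cast_one, one_mul] at hsplitn hsplitn2
  have hno := S.hn1 S.o
  have hnθ := S.hn1 θ
  have hn1 : S.n S.o = 1 := by omega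
  have hn2 : S.n θ = 1 := by omega
  exact ⟨θ, hθo, S.c_eq_of_n_one hn2, S.c_eq_of_n_one hn1, hdθ, hθ1, hθ0⟩

/-- **(P1)**: every constituent of `∑ μ, P μ` is real. -/
theorem real_of_pos (i : ι) (hi : 1 ≤ ∑ μ, S.P μ i) : S.c i = i := by
  have hex : ∃ μ, 1 ≤ S.P μ i := by
    by_contra hcon
    push Not at hcon
    have : ∑ μ, S.P μ i = 0 := Finset.sum_eq_zero (fun μ _ => by have := hcon μ; omega)
    omega
  obtain ⟨μ, hμi⟩ := hex
  by_cases hμ : μ = S.oM
  · subst hμ
    obtain ⟨θ, -, hcθ, hco, -, -, hθ0⟩ := S.P_oM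
    by_cases h1 : i = S.o
    · rw [h1]; exact hco
    · by_cases h2 : i = θ
      · rw [h2]; exact hcθ
      · have := hθ0 i h1 h2
        omega
  · obtain ⟨j, hcj, -, -, hj0⟩ := S.P_indicator μ hμ
    by_cases h1 : i = j
    · rw [h1]; exact hcj
    · have := hj0 i h1
      omega

/-- **(P3)**: the trivial index has multiplicity one. -/
theorem sum_P_o : ∑ μ, S.P μ S.o = 1 := by
  rw [Finset.sum_eq_single S.oM, S.hM6]
  · intro μ _ hμ
    have h0 := S.A_oM_ne μ hμ
    have h1 := S.le_A S.oM μ S.o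
    rw [S.hM6, one_mul, h0] at h1
    omega
  · intro hh
    exact absurd (Finset.mem_univ _) hh

/-- **(P2)**: degrees of the nontrivial constituents. -/
theorem deg_bound (i : ι) (hi : i ≠ S.o) : (h + 1) * ∑ μ, S.P μ i ≤ 2 * S.d i := by
  by_cases hex : ∃ μ, 1 ≤ S.P μ i
  · obtain ⟨μ₀, hμ₀⟩ := hex
    by_cases hμ : μ₀ = S.oM
    · subst hμ
      obtain ⟨θ, hθo, -, -, hdθ, hθ1, hθ0⟩ := S.P_oM
      have hiθ : i = θ := by
        by_contra hne
        have := hθ0 i hi hne
        omega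
      subst hiθ
      have hsum : ∑ μ, S.P μ i = 1 := by
        rw [Finset.sum_eq_single S.oM, hθ1]
        · intro μ _ hμ
          have h0 := S.A_oM_ne μ hμ
          have h1 := S.le_A S.oM μ i
          rw [hθ1, one_mul, h0] at h1
          omega
        · intro hh
          exact absurd (Finset.mem_univ _) hh
      rw [hsum, hdθ]
      have := S.hh
      omega
    · obtain ⟨j, -, hdj, hj1, hj0⟩ := S.P_indicator μ₀ hμ
      have hij : i = j := by
        by_contra hne
        have := hj0 i hne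
        omega
      subst hij
      obtain ⟨-, hA2, hA0⟩ := S.A_self μ₀ hμ
      have hne : S.cM μ₀ ≠ μ₀ := fun hh => hμ (S.hM4 μ₀ hh)
      have hcne : S.cM μ₀ ≠ S.oM := by
        intro hh
        have h0 := S.A_oM_ne μ₀ hμ
        rw [S.A_comm, ← hh, hA2] at h0
        omega
      obtain ⟨j', -, -, hj'1, hj'0⟩ := S.P_indicator (S.cM μ₀) hcne
      have hle1 : S.P (S.cM μ₀) i ≤ 1 := by
        by_cases h1 : i = j'
        · rw [h1, hj'1]
        · rw [hj'0 i h1]; omega
      have hsum : ∑ μ, S.P μ i ≤ 2 := by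
        have hzero : ∀ μ, μ ∉ ({μ₀, S.cM μ₀} : Finset M) → S.P μ i = 0 := by
          intro μ hμm
          rw [Finset.mem_insert, Finset.mem_singleton] at hμm
          push Not at hμm
          have h0 := hA0 μ hμm.1 hμm.2
          have h1 := S.le_A μ₀ μ i
          rw [hj1, one_mul, h0] at h1
          omega
        rw [← Finset.sum_subset (Finset.subset_univ ({μ₀, S.cM μ₀} : Finset M))
          (fun μ _ hμm => hzero μ hμm), Finset.sum_pair hne.symm, hj1]
        omega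
      rw [hdj]
      nlinarith
  · push Not at hex
    have : ∑ μ, S.P μ i = 0 := Finset.sum_eq_zero (fun μ _ => by have := hex μ; omega)
    rw [this]
    omega

end PSeries

/-- The full model: multiplicity vectors `Φ l` of the functions induced from the irreducible
characters `l : L` of `N`, together with the principal series. -/
structure Model (ι L M : Type*) [Fintype ι] [Fintype L] [Fintype M] [DecidableEq L]
    [DecidableEq M] (e h : ℕ) extends PSeries ι M e h where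
  Φ : L → ι → ℕ
  cL : L → L
  oL : L
  R : L → L → Prop
  he1 : 1 < e
  hcc : ∀ i, c (c i) = i
  hcLo : cL oL = oL
  ha : ∀ l, l ≠ oL → ∑ i, Φ l i * Φ l i = e + 1
  hcross : ∀ l l', ¬ R l l' → ∑ i, Φ l i * Φ l' i = e
  hR : ∀ l l', R l l' → Φ l' = Φ l
  hnu : ∀ l, ∑ i, (Φ l i : ℤ) * n i = e + (if cL l = l then 1 else 0)
  hconj : ∀ l i, Φ (cL l) i = Φ l (c i)
  hRo : ∀ l, R l oL → l = oL
  horb : ∀ l, l ≠ oL → Nat.card {l' // R l l'} = e
  hdeg : ∀ i, d i = ∑ l, Φ l i
  hsq : ∀ i, ∃ Q : ι → ℕ, Q o = 1 ∧ ∑ j, Q j * d j = d i * d i ∧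
      ∑ j, Q j * Φ oL j = ∑ l, Φ l i * Φ l i
  hM1 : ∀ i, Φ oL i = ∑ μ, P μ i

namespace Model

variable {L M : Type*} [Fintype L] [Fintype M] [DecidableEq L] [DecidableEq M] {e h : ℕ}
  (Md : Model ι L M e h)

/-- The special (non-real) constituent attached to a non-real `l`. -/
theorem exists_special (l : L) (hl : Md.cL l ≠ l) :
    ∃ x, Md.Φ l x = 1 ∧ Md.c x ≠ x ∧ ∀ i, Md.c i ≠ i → Md.Φ l i = if i = x then 1 else 0 := by
  have hl0 : l ≠ Md.oL := fun hh => hl (by rw [hh, Md.hcLo])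
  have hnu := Md.hnu l
  rw [if_neg hl, add_zero] at hnu
  obtain ⟨x, h1, h2, h3, h4⟩ := k1 (Md.Φ l) Md.n e Md.hn1 (Md.ha l hl0) hnu
  refine ⟨x, h1, (Md.hn0 x).1 h2, ?_⟩
  intro i hi
  by_cases hix : i = x
  · rw [if_pos hix, hix, h1]
  · rw [if_neg hix]
    have hni := (Md.hn0 i).2 hi
    have := h3 i
    by_contra hne
    have h5 : Md.Φ l i = 1 := by omega
    have := h4 i h5 hix
    omega

open scoped Classical in
/-- **The Feit inequality in the model.** -/
theorem main (l : L) (hl : Md.cL l ≠ l) : h ≤ 2 * e + 1 := by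
  have hl0 : l ≠ Md.oL := fun hh => hl (by rw [hh, Md.hcLo])
  obtain ⟨x, hx1, hxc, hxNR⟩ := Md.exists_special l hl
  have hcxc : Md.c (Md.c x) ≠ Md.c x := by
    rw [Md.hcc]; exact fun hh => hxc hh.symm
  -- the values `Φ l' x`
  have key : ∀ l', Md.Φ l' x = if Md.R l l' then 1 else 0 := by
    intro l'
    by_cases hR : Md.R l l'
    · rw [if_pos hR, Md.hR l l' hR, hx1]
    · rw [if_neg hR]
      by_cases hreal : Md.cL l' = l'
      · by_cases hl'0 : l' = Md.oL
        · subst hl'0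
          by_contra hne
          have hpos : 1 ≤ Md.Φ Md.oL x := by omega
          rw [Md.hM1] at hpos
          exact hxc (Md.toPSeries.real_of_pos x hpos)
        · have hnu := Md.hnu l'
          rw [if_pos hreal] at hnu
          have ha : ∑ i, (Md.Φ l' i : ℤ) * (Md.Φ l' i : ℤ) = e + 1 := by
            exact_mod_cast Md.ha l' hl'0
          have h2 := k2 (Md.Φ l') Md.n Md.hn1 (by rw [ha, hnu])
          by_contra hne
          have h3 := h2 x hne
          have h4 := (Md.hn0 x).2 hxc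
          omega
      · obtain ⟨x', hx'1, hx'c, hx'NR⟩ := Md.exists_special l' hreal
        rw [hx'NR x hxc]
        by_cases hxx : x = x'
        swap
        · rw [if_neg hxx]
        exfalso
        subst hxx
        by_cases hR2 : Md.R l (Md.cL l')
        · have h1 := Md.hR l (Md.cL l') hR2
          have h2 : Md.Φ l' (Md.c x) = 1 := by rw [← Md.hconj, h1, hx1]
          have h3 := hx'NR (Md.c x) hcxc
          rw [h2, if_neg hxc] at h3
          omega
        · have e1 := Md.hcross l l' hR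
          have e2 := Md.hcross l (Md.cL l') hR2
          have key2 : ∀ i, Md.Φ l i * Md.Φ l' i =
              Md.Φ l i * Md.Φ (Md.cL l') i + (if i = x then 1 else 0) := by
            intro i
            rw [Md.hconj]
            by_cases hci : Md.c i = i
            · rw [hci]
              have : i ≠ x := fun hh => hxc (hh ▸ hci)
              rw [if_neg this, add_zero]
            · by_cases hix : i = x
              · subst hix
                have h3 := hx'NR (Md.c i) hcxc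
                rw [if_neg hxc] at h3
                rw [hx1, hx'1, h3, if_pos rfl]
              · rw [hxNR i hci, if_neg hix, zero_mul, zero_mul, add_zero]
          have hsum : ∑ i, Md.Φ l i * Md.Φ l' i = ∑ i, Md.Φ l i * Md.Φ (Md.cL l') i + 1 := by
            rw [Finset.sum_congr rfl (fun i _ => key2 i), Finset.sum_add_distrib,
              Finset.sum_ite_eq' Finset.univ x (fun _ => 1), if_pos (Finset.mem_univ x)]
          omega
  -- the orbit count
  have hcount : ∑ l', (if Md.R l l' then 1 else 0 : ℕ) = e := by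
    have h0 := Md.horb l hl0
    rw [Nat.card_eq_fintype_card, Fintype.card_subtype, Finset.card_filter] at h0
    exact h0
  have hdx : Md.d x = e := by
    rw [Md.hdeg, Finset.sum_congr rfl (fun l' _ => key l'), hcount]
  have hsqx : ∑ l', Md.Φ l' x * Md.Φ l' x = e := by
    refine Eq.trans (Finset.sum_congr rfl (fun l' _ => ?_)) hcount
    rw [key l']
    split_ifs <;> rfl
  obtain ⟨Q, hQo, hQd, hQΦ⟩ := Md.hsq x
  rw [hdx] at hQd
  rw [hsqx] at hQΦ
  have hΦo : Md.Φ Md.oL Md.o = 1 := by rw [Md.hM1, Md.toPSeries.sum_P_o]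
  have hbound : ∀ j, j ≠ Md.o → (h + 1) * Md.Φ Md.oL j ≤ 2 * Md.d j := by
    intro j hj
    rw [Md.hM1]
    exact Md.toPSeries.deg_bound j hj
  -- split off the trivial index
  have hs1 := Finset.add_sum_erase Finset.univ (fun j => Q j * Md.d j) (Finset.mem_univ Md.o)
  have hs2 := Finset.add_sum_erase Finset.univ (fun j => Q j * Md.Φ Md.oL j)
    (Finset.mem_univ Md.o)
  simp only [hQo, Md.hdo, hΦo, one_mul] at hs1 hs2
  rw [hQd] at hs1
  rw [hQΦ] at hs2
  have hrest : (h + 1) * ∑ j ∈ Finset.univ.erase Md.o, Q j * Md.Φ Md.oL j ≤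
      2 * ∑ j ∈ Finset.univ.erase Md.o, Q j * Md.d j := by
    rw [Finset.mul_sum, Finset.mul_sum]
    apply Finset.sum_le_sum
    intro j hj
    have := hbound j (Finset.mem_erase.1 hj).1
    calc (h + 1) * (Q j * Md.Φ Md.oL j) = Q j * ((h + 1) * Md.Φ Md.oL j) := by ring
      _ ≤ Q j * (2 * Md.d j) := Nat.mul_le_mul_left _ this
      _ = 2 * (Q j * Md.d j) := by ring
  have he1 := Md.he1
  -- `(h+1)(e-1) ≤ 2(e*e - 1)`
  set r1 := ∑ j ∈ Finset.univ.erase Md.o, Q j * Md.Φ Md.oL j with hr1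
  set r2 := ∑ j ∈ Finset.univ.erase Md.o, Q j * Md.d j with hr2
  have h5 : r1 = e - 1 := by omega
  have h6 : r2 = e * e - 1 := by omega
  rw [h5, h6] at hrest
  obtain ⟨k, rfl⟩ : ∃ k, e = k + 2 := ⟨e - 2, by omega⟩
  have h7 : (k + 2) * (k + 2) - 1 = (k + 1) * (k + 3) := by
    have : (k + 2) * (k + 2) = (k + 1) * (k + 3) + 1 := by ring
    omega
  have h8 : k + 2 - 1 = k + 1 := by omega
  rw [h7, h8] at hrest
  have h9 : (h + 1) * (k + 1) ≤ (2 * (k + 3)) * (k + 1) := by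
    calc (h + 1) * (k + 1) ≤ 2 * ((k + 1) * (k + 3)) := hrest
      _ = (2 * (k + 3)) * (k + 1) := by ring
  have := Nat.le_of_mul_le_mul_right h9 (by omega)
  omega

end Model

end Cfsg.Agent.Lib.Helper21_FeitAbM
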