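import Mathlib
import Cfsg.Prelude.Def_Characters
import Cfsg.Agent.Lib.Helper21_FeitAbA
import Cfsg.Agent.Lib.Helper21_FeitAbB
import Cfsg.Agent.Lib.Helper21_FeitAbC
import Cfsg.Agent.Lib.Helper21_FeitAbM
import Cfsg.Agent.Lib.Helper15_Linear
import Cfsg.Agent.Lib.Helper81_CharOrth2

/-!
# The Feit inequality for an abelian kernel: the character side (helper21)

Abelian `N`: conjugation of the (linear) irreducible characters of `N` by `B`, stabilisers,
orbits, inner products and Frobenius–Schur sums of the induced characters; assembly of the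
combinatorial model of `Helper21_FeitAbM`.
-/

set_option autoImplicit false
set_option linter.unusedSectionVars false
set_option linter.style.haveILetI false

namespace Cfsg.Agent.Lib.Helper21_FeitAbA.Data

open scoped ComplexConjugate
open Cfsg Cfsg.Agent.Lib.Helper75_Induced Cfsg.Agent.Lib.Helper74_FS
  Cfsg.Agent.Lib.Helper21_FeitAbA Cfsg.Agent.Lib.Helper3_CharComplete
  Cfsg.Agent.Lib.Helper3_CharOrtho Cfsg.Agent.Lib.Helper3_CharColumn
  Cfsg.Agent.Lib.Helper3_CharBridge Cfsg.Agent.Lib.Helper75_CharArith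
  Cfsg.Agent.Lib.Helper21_FeitAbB Cfsg.Agent.Lib.Helper21_FeitAbC

universe u

variable {G : Type u} [Group G] [Fintype G] {N B : Subgroup G}
variable {h e : ℕ} (D : Helper21_FeitAbA.Data N B h e)
include D

theorem conj_mem' {x : G} (hx : x ∈ B) {y : G} (hy : y ∈ N) : x⁻¹ * y * x ∈ N := by
  have := D.norm x⁻¹ (B.inv_mem hx) y hy
  simpa using this

/-- conjugation by an element of `B` as an automorphism of `N` -/
def conjEquiv {x : G} (hx : x ∈ B) : N ≃* N where
  toFun y := ⟨x⁻¹ * (y : G) * x, D.conj_mem' hx y.2⟩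
  invFun y := ⟨x * (y : G) * x⁻¹, D.norm x hx y y.2⟩
  left_inv y := by
    apply Subtype.ext
    simp only
    group
  right_inv y := by
    apply Subtype.ext
    simp only
    group
  map_mul' y z := by
    apply Subtype.ext
    simp only [Subgroup.coe_mul]
    group

theorem cjG_of_mem {x : G} (hx : x ∈ B) (β : N → ℂ) : cjG N x β = β ∘ D.conjEquiv hx := by
  funext y
  unfold cjG
  rw [extendByZero_of_mem N β (D.conj_mem' hx y.2)]
  rfl

theorem isIrr_cjG {x : G} (hx : x ∈ B) {l : N → ℂ} (hl : IsIrrCharacter N l) :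
    IsIrrCharacter N (cjG N x l) := by
  rw [D.cjG_of_mem hx]
  exact Cfsg.Agent.Lib.Helper81_CharOrth2.isIrrCharacter_comp_mulEquiv (D.conjEquiv hx) hl

theorem cjG_mul {x x' : G} (hx : x ∈ B) (hx' : x' ∈ B) (β : N → ℂ) :
    cjG N x (cjG N x' β) = cjG N (x * x') β := by
  rw [D.cjG_of_mem hx, D.cjG_of_mem hx', D.cjG_of_mem (B.mul_mem hx hx')]
  funext y
  simp only [Function.comp_apply]
  congr 1
  apply Subtype.ext
  simp only [conjEquiv, MulEquiv.coe_mk, Equiv.coe_fn_mk]
  group

theorem cjG_one (β : N → ℂ) : cjG N 1 β = β := by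
  rw [D.cjG_of_mem B.one_mem]
  funext y
  simp only [Function.comp_apply]
  congr 1
  apply Subtype.ext
  simp [conjEquiv]

theorem cjG_const {x : G} (hx : x ∈ B) (c : ℂ) : cjG N x (fun _ => c) = fun _ => c := by
  rw [D.cjG_of_mem hx]
  rfl

/-- Inducing a `B`-conjugate gives the same function. -/
theorem indFun_cjG {x : G} (hx : x ∈ B) (β : N → ℂ) : indFun N (cjG N x β) = indFun N β := by
  funext g
  rw [indFun_apply, indFun_apply]
  congr 1
  apply Fintype.sum_equiv (Equiv.mulRight x)
  intro z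
  simp only [Equiv.coe_mulRight]
  by_cases hz : z⁻¹ * g * z ∈ N
  · rw [extendByZero_of_mem N _ hz]
    have h1 : (z * x)⁻¹ * g * (z * x) = x⁻¹ * (z⁻¹ * g * z) * x := by group
    rw [h1]
    rfl
  · rw [extendByZero_of_not_mem N _ hz, extendByZero_of_not_mem]
    intro hmem
    apply hz
    have h1 : z⁻¹ * g * z = x * ((z * x)⁻¹ * g * (z * x)) * x⁻¹ := by group
    rw [h1]
    exact D.norm x hx _ hmem

section abelian

variable (hcomm : ∀ u ∈ N, ∀ v ∈ N, u * v = v * u)
  (hsemi : ∀ g ∈ B, g ∉ N → ∀ y ∈ N, g * y = y * g → y = 1)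
include hcomm

theorem irrN_one [Fintype N] {l : N → ℂ} (hl : IsIrrCharacter N l) : l 1 = 1 := by
  apply Cfsg.Agent.Lib.Helper75_AbelianInertia.irr_one_eq_one_of_abelian_quotient
    (⊥ : Subgroup N) _ hl
  · rintro ⟨x, hx⟩
    rw [Subgroup.mem_bot] at hx
    subst hx
    rfl
  · intro x y
    rw [Subgroup.mem_bot]
    have h1 : x * y = y * x := Subtype.ext (hcomm x x.2 y y.2)
    rw [h1]
    group

theorem irrN_mul [Fintype N] {l : N → ℂ} (hl : IsIrrCharacter N l) (a b : N) :
    l (a * b) = l a * l b :=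
  Cfsg.Agent.Lib.Helper15_Linear.linear_mul l (isCharacter_of_isIrrCharacter hl)
    (D.irrN_one hcomm hl) a b

theorem cjG_eq_of_mem {l : N → ℂ} (hl : IsIrrCharacter N l) {x : G} (hx : x ∈ N) :
    cjG N x l = l := by
  rw [D.cjG_of_mem (D.le hx)]
  funext y
  simp only [Function.comp_apply]
  have h1 := isClassFunction_of_isCharacter (isCharacter_of_isIrrCharacter hl) y
    (⟨x, hx⟩⁻¹ : N)
  rw [← h1]
  congr 1
  apply Subtype.ext
  simp [conjEquiv]

include hsemi in
/-- The stabiliser in `B` of a non-principal irreducible character of `N` is `N`. -/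
theorem mem_of_cjG_eq [Fintype N] {l : N → ℂ} (hl : IsIrrCharacter N l)
    (hl1 : l ≠ fun _ => 1) {x : G} (hx : x ∈ B) (heq : cjG N x l = l) : x ∈ N := by
  by_contra hxN
  apply hl1
  -- the map `y ↦ (x⁻¹ y x) y⁻¹` is injective, hence surjective
  set c : N → N := fun y => D.conjEquiv hx y * y⁻¹ with hc
  have hcoe : ∀ y : N, ((D.conjEquiv hx y : N) : G) = x⁻¹ * (y : G) * x := fun y => rfl
  have hinj : Function.Injective c := by
    intro y z hyz
    have h1 : x⁻¹ * (y : G) * x * (y : G)⁻¹ = x⁻¹ * (z : G) * x * (z : G)⁻¹ := by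
      have := congrArg (fun w : N => (w : G)) hyz
      simpa [hc, hcoe] using this
    -- `w = z⁻¹ y` commutes with `x`
    set w : G := (z : G)⁻¹ * (y : G) with hw
    have hwN : w ∈ N := N.mul_mem (N.inv_mem z.2) y.2
    have h2 : x⁻¹ * w * x = w := by
      have ha : x⁻¹ * (y : G) * x ∈ N := D.conj_mem' hx y.2
      have hb : x⁻¹ * (z : G) * x ∈ N := D.conj_mem' hx z.2
      have h3 : x⁻¹ * w * x = (x⁻¹ * (z : G) * x)⁻¹ * (x⁻¹ * (y : G) * x) := by
        rw [hw]; group
      rw [h3]
      -- in the abelian group `N`: `b⁻¹ a = z⁻¹ y` from `a y⁻¹ = b z⁻¹`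
      have h4 : (x⁻¹ * (y : G) * x) = (x⁻¹ * (z : G) * x) * (z : G)⁻¹ * (y : G) := by
        have : x⁻¹ * (y : G) * x = (x⁻¹ * (y : G) * x * (y : G)⁻¹) * (y : G) := by group
        rw [this, h1]
      rw [h4, hw]
      group
    have h5 : x * w = w * x := by
      have : x * (x⁻¹ * w * x) = x * w := by rw [h2]
      rw [← this]; group
    have hw1 : w = 1 := hsemi x hx hxN w hwN h5
    apply Subtype.ext
    have : (y : G) = (z : G) * w := by rw [hw]; group
    rw [this, hw1, mul_one]
  have hsurj : Function.Surjective c := Finite.injective_iff_surjective.1 hinj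
  funext y
  obtain ⟨z, rfl⟩ := hsurj y
  simp only [hc]
  rw [D.irrN_mul hcomm hl]
  have h6 : l (D.conjEquiv hx z) = l z := by
    have := congrFun heq z
    rw [D.cjG_of_mem hx] at this
    exact this
  rw [h6, ← D.irrN_mul hcomm hl, mul_inv_cancel, D.irrN_one hcomm hl]

open scoped Classical in
theorem sum_mem_N [Fintype B] : ∑ x : B, (if (x : G) ∈ N then (1 : ℂ) else 0) = h := by
  rw [Finset.sum_boole]
  congr 1
  have h1 : Nat.card (N.subgroupOf B) = h := by
    rw [← D.cardN]
    exact Nat.card_congr (Subgroup.subgroupOfEquivOfLe D.le).toEquiv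
  rw [← h1, Nat.card_eq_fintype_card, Fintype.card_subtype]
  rfl

include hsemi in
/-- `[Ind l, Ind l] = e + 1` for a non-principal irreducible character `l` of `N`. -/
theorem inner_self [Fintype N] [Fintype B] {l : N → ℂ} (hl : IsIrrCharacter N l)
    (hl1 : l ≠ fun _ => 1) : classInner (indFun N l) (indFun N l) = (e : ℂ) + 1 := by
  classical
  have hh : (h : ℂ) ≠ 0 := by
    rw [Nat.cast_ne_zero]; exact D.h_pos.ne'
  rw [D.classInner_indFun_indFun, D.irrN_one hcomm hl, map_one, mul_one, mul_one]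
  have h1 : ∀ x : B, classInner l (cjG N (x : G) l) = if (x : G) ∈ N then (1 : ℂ) else 0 := by
    intro x
    by_cases hx : (x : G) ∈ N
    · rw [if_pos hx, D.cjG_eq_of_mem hcomm hl hx, classInner_self_of_isIrrCharacter hl]
    · rw [if_neg hx]
      apply classInner_of_isIrrCharacter_of_ne hl (D.isIrr_cjG x.2 hl)
      intro heq
      exact hx (D.mem_of_cjG_eq hcomm hsemi hl hl1 x.2 heq.symm)
  rw [Finset.sum_congr rfl (fun x _ => h1 x), D.sum_mem_N hcomm]
  field_simp
  ring

/-- `[Ind 1, Ind 1] = 2 e`. -/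
theorem inner_one [Fintype N] [Fintype B] :
    classInner (indFun N (fun _ => (1 : ℂ))) (indFun N (fun _ => (1 : ℂ))) = 2 * (e : ℂ) := by
  have hh : (h : ℂ) ≠ 0 := by
    rw [Nat.cast_ne_zero]; exact D.h_pos.ne'
  rw [D.classInner_indFun_indFun, map_one, mul_one, mul_one]
  have h1 : ∀ x : B, classInner (fun _ : N => (1 : ℂ)) (cjG N (x : G) (fun _ => (1 : ℂ))) = 1 := by
    intro x
    rw [D.cjG_const x.2]
    exact classInner_self_of_isIrrCharacter
      (Cfsg.Agent.Lib.Helper80_CharBasic.isIrrCharacter_one N)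
  rw [Finset.sum_congr rfl (fun x _ => h1 x), Finset.sum_const, Finset.card_univ,
    ← Nat.card_eq_fintype_card, D.cardB, nsmul_eq_mul, mul_one]
  push_cast
  field_simp
  ring

/-- `[Ind l, Ind l'] = e` for irreducible characters `l`, `l'` of `N` that are not
`B`-conjugate. -/
theorem inner_cross [Fintype N] [Fintype B] {l l' : N → ℂ} (hl : IsIrrCharacter N l)
    (hl' : IsIrrCharacter N l') (hne : ∀ x : B, l ≠ cjG N (x : G) l') :
    classInner (indFun N l) (indFun N l') = (e : ℂ) := by
  rw [D.classInner_indFun_indFun, D.irrN_one hcomm hl, D.irrN_one hcomm hl', map_one, mul_one,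
    mul_one]
  have h1 : ∀ x : B, classInner l (cjG N (x : G) l') = 0 := fun x =>
    classInner_of_isIrrCharacter_of_ne hl (D.isIrr_cjG x.2 hl') (hne x)
  rw [Finset.sum_congr rfl (fun x _ => h1 x), Finset.sum_const_zero, mul_zero, zero_add]

open scoped Classical in
/-- `ν(Ind l) = e + [l real]` for an irreducible character `l` of `N`. -/
theorem fsInd_indFun_irr [Fintype N] {l : N → ℂ} (hl : IsIrrCharacter N l) :
    fsInd (indFun N l) = (if (fun y => conj (l y)) = l then (1 : ℂ) else 0) + (e : ℂ) := by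
  rw [D.fsInd_indFun_N, D.irrN_one hcomm hl, mul_one]
  congr 1
  have hcl : IsIrrCharacter N (fun y => conj (l y)) :=
    Cfsg.Agent.Lib.Helper75_CharProd.isIrrCharacter_conj hl
  have h1 : fsInd l = classInner l (fun y => conj (l y)) := by
    unfold fsInd classInner
    congr 1
    refine Finset.sum_congr rfl (fun y _ => ?_)
    rw [D.irrN_mul hcomm hl, Complex.conj_conj]
  rw [h1]
  split_ifs with h2
  · rw [h2]; exact classInner_self_of_isIrrCharacter hl
  · exact classInner_of_isIrrCharacter_of_ne hl hcl (fun hh => h2 hh.symm)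

/-- The action of `B` on the irreducible characters of `N`. -/
noncomputable def actB : MulAction B (IrrCharacter N) where
  smul x l := ⟨cjG N (x : G) (l : N → ℂ), D.isIrr_cjG x.2 l.2⟩
  one_smul l := Subtype.ext (D.cjG_one _)
  mul_smul x y l := Subtype.ext (D.cjG_mul x.2 y.2 _).symm

include hsemi in
/-- The `B`-orbit of a non-principal irreducible character of `N` has `e` elements. -/
theorem card_orbit [Fintype N] (l : IrrCharacter N) (hl1 : (l : N → ℂ) ≠ fun _ => 1) :
    Nat.card {l' : IrrCharacter N // ∃ x : B, (l' : N → ℂ) = cjG N (x : G) (l : N → ℂ)} = e := by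
  letI := D.actB
  have hsmul : ∀ (x : B) (l' : IrrCharacter N),
      ((x • l' : IrrCharacter N) : N → ℂ) = cjG N (x : G) (l' : N → ℂ) := fun _ _ => rfl
  have h1 : Nat.card {l' : IrrCharacter N // ∃ x : B, (l' : N → ℂ) = cjG N (x : G) (l : N → ℂ)} =
      Nat.card (MulAction.orbit B l) := by
    apply Nat.card_congr
    apply Equiv.subtypeEquivRight
    intro l'
    rw [MulAction.mem_orbit_iff]
    constructor
    · rintro ⟨x, hx⟩
      exact ⟨x, Subtype.ext (by rw [hsmul, hx])⟩
    · rintro ⟨x, hx⟩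
      exact ⟨x, by rw [← hx, hsmul]⟩
  have h2 : MulAction.stabilizer B l = N.subgroupOf B := by
    ext x
    rw [MulAction.mem_stabilizer_iff, Subgroup.mem_subgroupOf]
    constructor
    · intro hx
      have : cjG N (x : G) (l : N → ℂ) = (l : N → ℂ) := by rw [← hsmul, hx]
      exact D.mem_of_cjG_eq hcomm hsemi l.2 hl1 x.2 this
    · intro hx
      apply Subtype.ext
      rw [hsmul]
      exact D.cjG_eq_of_mem hcomm l.2 hx
  have h3 : Nat.card (N.subgroupOf B) = h := by
    rw [← D.cardN]
    exact Nat.card_congr (Subgroup.subgroupOfEquivOfLe D.le).toEquiv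
  have h4 := Nat.card_congr (MulAction.orbitProdStabilizerEquivGroup B l)
  rw [Nat.card_prod, h2, h3, D.cardB] at h4
  rw [h1]
  have := D.h_pos
  have h5 : h * Nat.card (MulAction.orbit B l) = h * e := by rw [← h4]; ring
  exact Nat.eq_of_mul_eq_mul_left this h5

/-- Multiplicities in the restriction to `N` (Frobenius reciprocity). -/
theorem mult_res [Fintype N] (χ : IrrCharacter G) (l : IrrCharacter N) :
    mult (fun y : N => (χ : G → ℂ) y) l = mult (indFun N (l : N → ℂ)) χ := by
  have hχ := isCharacter_of_isIrrCharacter χ.2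
  have h1 := mult_spec (isCharacter_restrict N hχ) l
  have h2 := mult_spec (Cfsg.Agent.Lib.Helper75_IndChar.isCharacter_indFun N
    (isCharacter_of_isIrrCharacter l.2)) χ
  rw [frobenius_reciprocity N _ _ (isClassFunction_of_isCharacter hχ)] at h2
  rw [← classInner_conj_symm, h2, Complex.conj_natCast] at h1
  exact_mod_cast h1.symm

/-- The degree of an irreducible character of `G` is the sum of the multiplicities of the
induced characters `Ind l`. -/
theorem deg_eq_sum [Fintype N] (χ : IrrCharacter G) :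
    deg χ = ∑ l : IrrCharacter N, mult (indFun N (l : N → ℂ)) χ := by
  have hχ := isCharacter_of_isIrrCharacter χ.2
  have h1 := apply_one_eq_sum_mult (isCharacter_restrict N hχ)
  have h2 : ∀ l : IrrCharacter N, deg l = 1 := by
    intro l
    have := deg_spec l
    rw [D.irrN_one hcomm l.2] at this
    exact_mod_cast this.symm
  simp only [h2, mul_one, D.mult_res hcomm] at h1
  have h3 : (χ : G → ℂ) ((1 : N) : G) = (deg χ : ℂ) := by
    rw [Subgroup.coe_one, deg_spec]
  rw [h3] at h1
  exact_mod_cast h1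

/-- The character `χ χ̄`: multiplicity of the trivial character, degree, and inner product with
`Ind_N^G 1`. -/
theorem sq_data [Fintype N] (χ : IrrCharacter G) :
    ∃ Q : IrrCharacter G → ℕ, Q (Cfsg.Agent.Lib.Helper80_CharBasic.oneIrr G) = 1 ∧
      ∑ j, Q j * deg j = deg χ * deg χ ∧
      ∑ j, Q j * mult (indFun N (fun _ => (1 : ℂ))) j =
        ∑ l : IrrCharacter N, mult (indFun N (l : N → ℂ)) χ * mult (indFun N (l : N → ℂ)) χ := by
  have hχ := isCharacter_of_isIrrCharacter χ.2
  have hcχ := Cfsg.Agent.Lib.Helper75_CharProd.isCharacter_conj hχ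
  set ψ : G → ℂ := (χ : G → ℂ) * (fun g => conj ((χ : G → ℂ) g)) with hψdef
  have hψ : IsCharacter G ψ := Cfsg.Agent.Lib.Helper75_CharProd.isCharacter_mul hχ hcχ
  refine ⟨mult ψ, ?_, ?_, ?_⟩
  · have h1 := mult_spec hψ (Cfsg.Agent.Lib.Helper80_CharBasic.oneIrr G)
    have h2 : classInner ψ ((Cfsg.Agent.Lib.Helper80_CharBasic.oneIrr G : IrrCharacter G) : G → ℂ) =
        classInner (χ : G → ℂ) (χ : G → ℂ) := by
      unfold classInner
      congr 1
      refine Finset.sum_congr rfl (fun g _ => ?_)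
      simp [hψdef, Cfsg.Agent.Lib.Helper80_CharBasic.oneIrr]
    rw [h2, classInner_self_of_isIrrCharacter χ.2] at h1
    exact_mod_cast h1.symm
  · have h1 := apply_one_eq_sum_mult hψ
    have h2 : ψ 1 = ((deg χ * deg χ : ℕ) : ℂ) := by
      simp only [hψdef, Pi.mul_apply, deg_spec, Complex.conj_natCast]
      push_cast
      rfl
    rw [h2] at h1
    exact_mod_cast h1.symm
  · have hφ1 : IsCharacter G (indFun N (fun _ => (1 : ℂ))) :=
      Cfsg.Agent.Lib.Helper75_IndChar.isCharacter_indFun N
        (isCharacter_of_isIrrCharacter (Cfsg.Agent.Lib.Helper80_CharBasic.isIrrCharacter_one N))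
    have h1 := classInner_eq_sum_mult hψ hφ1
    have h2 : classInner ψ (indFun N (fun _ => (1 : ℂ))) =
        classInner (fun y : N => (χ : G → ℂ) y) (fun y : N => (χ : G → ℂ) y) := by
      rw [← classInner_conj_symm, frobenius_reciprocity N _ _ (isClassFunction_of_isCharacter hψ)]
      unfold classInner
      rw [map_mul, map_inv₀, Complex.conj_natCast, map_sum]
      congr 1
      refine Finset.sum_congr rfl (fun y _ => ?_)
      simp [hψdef]
    have h3 := classInner_eq_sum_mult (isCharacter_restrict N hχ) (isCharacter_restrict N hχ)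
    rw [h2, h3] at h1
    simp only [D.mult_res hcomm] at h1
    exact_mod_cast h1.symm

end abelian

end Cfsg.Agent.Lib.Helper21_FeitAbA.Data
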