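import Mathlib
import Cfsg.Prelude.Def_Characters
import Cfsg.Agent.Lib.Helper21_FeitAbD

/-!
# The Feit inequality for an abelian kernel: the abstract theorem (helper21)

Assembly of the combinatorial model from the character computations, and the resulting inequality
`h ≤ 2 e + 1` in the abstract configuration `Helper21_FeitAbA.Data` with `N` abelian and `B`
acting semiregularly on `N`.
-/

set_option autoImplicit false
set_option linter.unusedSectionVars false
set_option linter.style.haveILetI false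

namespace Cfsg.Agent.Lib.Helper21_FeitAbA.Data

open scoped ComplexConjugate
open Cfsg Cfsg.Agent.Lib.Helper75_Induced Cfsg.Agent.Lib.Helper74_FS
  Cfsg.Agent.Lib.Helper21_FeitAbA Cfsg.Agent.Lib.Helper3_CharComplete
  Cfsg.Agent.Lib.Helper3_CharOrtho Cfsg.Agent.Lib.Helper3_CharColumn
  Cfsg.Agent.Lib.Helper3_CharBridge Cfsg.Agent.Lib.Helper75_CharArith
  Cfsg.Agent.Lib.Helper21_FeitAbB Cfsg.Agent.Lib.Helper21_FeitAbC
  Cfsg.Agent.Lib.Helper80_CharBasic

universe u

variable {G : Type u} [Group G] [Fintype G] {N B : Subgroup G}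
variable {h e : ℕ} (D : Helper21_FeitAbA.Data N B h e)
include D

section pseries

variable [(N.subgroupOf B).Normal] [Fintype B] [Fintype (↥B ⧸ N.subgroupOf B)]

theorem isCharacter_pser_irr (μ : IrrCharacter (↥B ⧸ N.subgroupOf B)) :
    IsCharacter G (pser (μ : (↥B ⧸ N.subgroupOf B) → ℂ)) :=
  isCharacter_pser (isCharacter_of_isIrrCharacter μ.2)

/-- `hM1`: multiplicities of `Ind_N^G 1` as sums over the principal series. -/
theorem mult_indFun_one (χ : IrrCharacter G) :
    mult (indFun N (fun _ => (1 : ℂ))) χ =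
      ∑ μ : IrrCharacter (↥B ⧸ N.subgroupOf B), mult (pser (μ : (↥B ⧸ N.subgroupOf B) → ℂ)) χ := by
  rw [D.indFun_one_eq_sum_pser, mult_sum]
  intro μ _
  exact D.isCharacter_pser_irr μ

/-- `hM2`. -/
theorem pser_nu (μ : IrrCharacter (↥B ⧸ N.subgroupOf B)) [DecidableEq (IrrCharacter (↥B ⧸ N.subgroupOf B))] :
    ∑ χ : IrrCharacter G, (mult (pser (μ : (↥B ⧸ N.subgroupOf B) → ℂ)) χ : ℤ) * nu χ =
      1 + (if μ = oneIrr (↥B ⧸ N.subgroupOf B) then 1 else 0) := by
  classical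
  have h1 := fsInd_eq_sum_mult (D.isCharacter_pser_irr μ)
  rw [D.fsInd_pser] at h1
  have h2 : ((μ : (↥B ⧸ N.subgroupOf B) → ℂ) = fun _ => 1) ↔ μ = oneIrr (↥B ⧸ N.subgroupOf B) := by
    rw [Subtype.ext_iff]
    rfl
  by_cases h3 : μ = oneIrr (↥B ⧸ N.subgroupOf B)
  · rw [if_pos h3]
    rw [if_pos (h2.2 h3)] at h1
    have : ((∑ χ : IrrCharacter G, (mult (pser (μ : (↥B ⧸ N.subgroupOf B) → ℂ)) χ : ℤ) * nu χ : ℤ) : ℂ) =
        ((1 + 1 : ℤ) : ℂ) := by rw [← h1]; push_cast; ring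
    exact_mod_cast this
  · rw [if_neg h3]
    rw [if_neg (fun hh => h3 (h2.1 hh))] at h1
    have : ((∑ χ : IrrCharacter G, (mult (pser (μ : (↥B ⧸ N.subgroupOf B) → ℂ)) χ : ℤ) * nu χ : ℤ) : ℂ) =
        ((1 + 0 : ℤ) : ℂ) := by rw [← h1]; push_cast; ring
    exact_mod_cast this

/-- `hM3`. -/
theorem pser_conj (μ : IrrCharacter (↥B ⧸ N.subgroupOf B)) (χ : IrrCharacter G) :
    mult (pser ((cjIrr μ : IrrCharacter (↥B ⧸ N.subgroupOf B)) : (↥B ⧸ N.subgroupOf B) → ℂ)) χ =
      mult (pser (μ : (↥B ⧸ N.subgroupOf B) → ℂ)) (cjIrr χ) := by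
  rw [← mult_conj (D.isCharacter_pser_irr μ), conj_pser]
  rfl

/-- `hM4`. -/
theorem pser_real (μ : IrrCharacter (↥B ⧸ N.subgroupOf B)) (hμ : cjIrr μ = μ) :
    μ = oneIrr (↥B ⧸ N.subgroupOf B) := by
  by_contra hne
  have hodd : Odd (Nat.card (↥B ⧸ N.subgroupOf B)) := by
    rw [D.card_quotient]; exact D.odd
  have hne' : (μ : (↥B ⧸ N.subgroupOf B) → ℂ) ≠ fun _ => 1 := by
    intro hh
    apply hne
    apply Subtype.ext
    exact hh
  obtain ⟨s, hs⟩ := Cfsg.Agent.S0194.exists_im_ne_zero hodd μ.2 hne'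
  apply hs
  have h1 := congrArg (fun ψ : IrrCharacter (↥B ⧸ N.subgroupOf B) =>
    (ψ : (↥B ⧸ N.subgroupOf B) → ℂ) s) hμ
  simp only [cjIrr] at h1
  exact Complex.conj_eq_iff_im.1 h1

/-- `hM5`. -/
theorem card_irr_quot : Fintype.card (IrrCharacter (↥B ⧸ N.subgroupOf B)) = e := by
  have h1 := sum_sq_irr_one (G := ↥B ⧸ N.subgroupOf B)
  have h2 : ∀ μ : IrrCharacter (↥B ⧸ N.subgroupOf B),
      (μ : (↥B ⧸ N.subgroupOf B) → ℂ) 1 ^ 2 = 1 := by
    intro μ
    rw [D.irr_quot_one μ.2, one_pow]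
  rw [Finset.sum_congr rfl (fun μ _ => h2 μ), Finset.sum_const, Finset.card_univ, nsmul_eq_mul,
    mul_one, D.card_quotient] at h1
  exact_mod_cast h1

/-- `hM6`. -/
theorem pser_one_one :
    mult (pser ((oneIrr (↥B ⧸ N.subgroupOf B) : IrrCharacter (↥B ⧸ N.subgroupOf B)) :
      (↥B ⧸ N.subgroupOf B) → ℂ)) (oneIrr G) = 1 := by
  have h1 := mult_spec (D.isCharacter_pser_irr (oneIrr (↥B ⧸ N.subgroupOf B))) (oneIrr G)
  have h2 := D.classInner_pser_one
  have h3 : ((oneIrr (↥B ⧸ N.subgroupOf B) : IrrCharacter (↥B ⧸ N.subgroupOf B)) :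
      (↥B ⧸ N.subgroupOf B) → ℂ) = fun _ => 1 := rfl
  have h4 : ((oneIrr G : IrrCharacter G) : G → ℂ) = fun _ => 1 := rfl
  rw [h3, h4, h2] at h1
  exact_mod_cast h1.symm

/-- `hM7`. -/
theorem pser_deg (μ : IrrCharacter (↥B ⧸ N.subgroupOf B)) :
    ∑ χ : IrrCharacter G, mult (pser (μ : (↥B ⧸ N.subgroupOf B) → ℂ)) χ * deg χ = h + 1 := by
  have h1 := apply_one_eq_sum_mult (D.isCharacter_pser_irr μ)
  rw [D.pser_one, D.irr_quot_one μ.2, mul_one] at h1
  exact_mod_cast h1.symm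

end pseries

section nside

variable (hcomm : ∀ u ∈ N, ∀ v ∈ N, u * v = v * u)
  (hsemi : ∀ g ∈ B, g ∉ N → ∀ y ∈ N, g * y = y * g → y = 1)
variable [Fintype N] [Fintype B]

omit D in
theorem isCharacter_indN (l : IrrCharacter N) : IsCharacter G (indFun N (l : N → ℂ)) :=
  Cfsg.Agent.Lib.Helper75_IndChar.isCharacter_indFun N (isCharacter_of_isIrrCharacter l.2)

omit D in
theorem ne_one_of_ne {l : IrrCharacter N} (hl : l ≠ oneIrr N) : (l : N → ℂ) ≠ fun _ => 1 := by
  intro hh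
  apply hl
  apply Subtype.ext
  exact hh

include hcomm hsemi in
/-- `ha`. -/
theorem norm_indN (l : IrrCharacter N) (hl : l ≠ oneIrr N) :
    ∑ χ : IrrCharacter G, mult (indFun N (l : N → ℂ)) χ * mult (indFun N (l : N → ℂ)) χ = e + 1 := by
  have h1 := classInner_eq_sum_mult (isCharacter_indN l) (isCharacter_indN l)
  rw [D.inner_self hcomm hsemi l.2 (ne_one_of_ne hl)] at h1
  exact_mod_cast h1.symm

include hcomm in
/-- `hb`. -/
theorem norm_indN_one :
    ∑ χ : IrrCharacter G, mult (indFun N (fun _ => (1 : ℂ))) χ *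
      mult (indFun N (fun _ => (1 : ℂ))) χ = 2 * e := by
  have h1 := classInner_eq_sum_mult (isCharacter_indN (oneIrr N)) (isCharacter_indN (oneIrr N))
  have h2 : ((oneIrr N : IrrCharacter N) : N → ℂ) = fun _ => 1 := rfl
  rw [h2, D.inner_one hcomm] at h1
  exact_mod_cast h1.symm

include hcomm in
/-- `hcross`. -/
theorem cross_indN (l l' : IrrCharacter N)
    (hR : ¬ ∃ x : B, (l' : N → ℂ) = cjG N (x : G) (l : N → ℂ)) :
    ∑ χ : IrrCharacter G, mult (indFun N (l : N → ℂ)) χ * mult (indFun N (l' : N → ℂ)) χ = e := by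
  have h1 := classInner_eq_sum_mult (isCharacter_indN l) (isCharacter_indN l')
  have hne : ∀ x : B, (l : N → ℂ) ≠ cjG N (x : G) (l' : N → ℂ) := by
    intro x heq
    apply hR
    refine ⟨x⁻¹, ?_⟩
    rw [heq]
    have := D.cjG_mul (B.inv_mem x.2) x.2 (l' : N → ℂ)
    rw [Subgroup.coe_inv, this, inv_mul_cancel, D.cjG_one]
  rw [D.inner_cross hcomm l.2 l'.2 hne] at h1
  exact_mod_cast h1.symm

/-- `hR`. -/
theorem mult_indN_of_rel (l l' : IrrCharacter N)
    (hR : ∃ x : B, (l' : N → ℂ) = cjG N (x : G) (l : N → ℂ)) :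
    (fun χ : IrrCharacter G => mult (indFun N (l' : N → ℂ)) χ) =
      fun χ => mult (indFun N (l : N → ℂ)) χ := by
  obtain ⟨x, hx⟩ := hR
  rw [hx, D.indFun_cjG x.2]

include hcomm in
/-- `hnu`. -/
theorem nu_indN (l : IrrCharacter N) [DecidableEq (IrrCharacter N)] :
    ∑ χ : IrrCharacter G, (mult (indFun N (l : N → ℂ)) χ : ℤ) * nu χ =
      e + (if cjIrr l = l then 1 else 0) := by
  classical
  have h1 := fsInd_eq_sum_mult (isCharacter_indN l)
  rw [D.fsInd_indFun_irr hcomm l.2] at h1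
  have h2 : ((fun y => conj ((l : N → ℂ) y)) = (l : N → ℂ)) ↔ cjIrr l = l := by
    rw [Subtype.ext_iff]
    rfl
  by_cases h3 : cjIrr l = l
  · rw [if_pos h3]
    rw [if_pos (h2.2 h3)] at h1
    have : ((∑ χ : IrrCharacter G, (mult (indFun N (l : N → ℂ)) χ : ℤ) * nu χ : ℤ) : ℂ) =
        (((e : ℤ) + 1 : ℤ) : ℂ) := by rw [← h1]; push_cast; ring
    exact_mod_cast this
  · rw [if_neg h3]
    rw [if_neg (fun hh => h3 (h2.1 hh))] at h1
    have : ((∑ χ : IrrCharacter G, (mult (indFun N (l : N → ℂ)) χ : ℤ) * nu χ : ℤ) : ℂ) =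
        (((e : ℤ) + 0 : ℤ) : ℂ) := by rw [← h1]; push_cast; ring
    exact_mod_cast this

omit D in
/-- `hconj`. -/
theorem conj_indN (l : IrrCharacter N) (χ : IrrCharacter G) :
    mult (indFun N ((cjIrr l : IrrCharacter N) : N → ℂ)) χ =
      mult (indFun N (l : N → ℂ)) (cjIrr χ) := by
  rw [← mult_conj (isCharacter_indN l), Cfsg.Agent.S0194.conj_indFun]
  rfl

/-- `hRo`. -/
theorem rel_one (l : IrrCharacter N)
    (hR : ∃ x : B, ((oneIrr N : IrrCharacter N) : N → ℂ) = cjG N (x : G) (l : N → ℂ)) :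
    l = oneIrr N := by
  obtain ⟨x, hx⟩ := hR
  apply Subtype.ext
  have h1 := D.cjG_mul (B.inv_mem x.2) x.2 (l : N → ℂ)
  rw [← hx, inv_mul_cancel, D.cjG_one] at h1
  rw [← h1]
  exact D.cjG_const (B.inv_mem x.2) 1

end nside

/-- If all irreducible characters of the abelian group `N` are real valued, `N` has
exponent `2`. -/
theorem sq_eq_one_of_real [Fintype N] (hcomm : ∀ u ∈ N, ∀ v ∈ N, u * v = v * u)
    (hreal : ∀ l : IrrCharacter N, cjIrr l = l) : ∀ y ∈ N, y * y = 1 := by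
  intro y hy
  have h1 : IsConj ((⟨y, hy⟩ : N) * ⟨y, hy⟩) 1 := by
    rw [isConj_iff_forall_irr]
    intro l
    rw [D.irrN_mul hcomm l.2, D.irrN_one hcomm l.2]
    have h2 : (l : N → ℂ) ⟨y, hy⟩ * (l : N → ℂ) (⟨y, hy⟩ : N)⁻¹ = 1 := by
      rw [← D.irrN_mul hcomm l.2, mul_inv_cancel, D.irrN_one hcomm l.2]
    rw [irr_inv l] at h2
    have h3 := congrArg (fun ψ : IrrCharacter N => (ψ : N → ℂ) ⟨y, hy⟩) (hreal l)
    simp only [cjIrr] at h3
    rw [h3] at h2
    exact h2
  rw [isConj_one_left] at h1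
  exact congrArg Subtype.val h1

/-- **Feit's inequality for an abelian kernel**, abstract form. -/
theorem card_le_core (hcomm : ∀ u ∈ N, ∀ v ∈ N, u * v = v * u)
    (hsemi : ∀ g ∈ B, g ∉ N → ∀ y ∈ N, g * y = y * g → y = 1) (he1 : 1 < e)
    (hexp2 : (∀ y ∈ N, y * y = 1) → h ≤ e + 1) : h ≤ 2 * e + 1 := by
  classical
  haveI : Fintype N := Fintype.ofFinite _
  haveI : Fintype B := Fintype.ofFinite _
  haveI := D.normal_subgroupOf
  haveI : Fintype (↥B ⧸ N.subgroupOf B) := Fintype.ofFinite _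
  by_cases hreal : ∀ l : IrrCharacter N, cjIrr l = l
  · have := hexp2 (D.sq_eq_one_of_real hcomm hreal)
    omega
  · push Not at hreal
    obtain ⟨l, hl⟩ := hreal
    let Md : Cfsg.Agent.Lib.Helper21_FeitAbM.Model (IrrCharacter G) (IrrCharacter N)
        (IrrCharacter (↥B ⧸ N.subgroupOf B)) e h :=
      { c := cjIrr
        n := nu
        d := deg
        o := oneIrr G
        P := fun μ χ => mult (pser (μ : (↥B ⧸ N.subgroupOf B) → ℂ)) χ
        cM := cjIrr
        oM := oneIrr (↥B ⧸ N.subgroupOf B)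
        hh := D.h_pos
        hn1 := nu_le_one
        hn0 := nu_eq_zero_iff
        hdo := by
          have := deg_spec (oneIrr G)
          have h4 : ((oneIrr G : IrrCharacter G) : G → ℂ) 1 = 1 := rfl
          rw [h4] at this
          exact_mod_cast this.symm
        hnorm := by
          have := D.norm_indN_one hcomm
          simp only [D.mult_indFun_one] at this
          exact this
        hM2 := fun μ => D.pser_nu μ
        hM3 := fun μ χ => D.pser_conj μ χ
        hM4 := fun μ hμ => D.pser_real μ hμ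
        hM5 := D.card_irr_quot
        hM6 := D.pser_one_one
        hM7 := fun μ => D.pser_deg μ
        Φ := fun l χ => mult (indFun N (l : N → ℂ)) χ
        cL := cjIrr
        oL := oneIrr N
        R := fun l l' => ∃ x : B, (l' : N → ℂ) = cjG N (x : G) (l : N → ℂ)
        he1 := he1
        hcc := cjIrr_cjIrr
        hcLo := by
          apply Subtype.ext
          funext y
          simp [cjIrr, oneIrr]
        ha := fun l hl => D.norm_indN hcomm hsemi l hl
        hcross := fun l l' hR => D.cross_indN hcomm l l' hR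
        hR := fun l l' hR => D.mult_indN_of_rel l l' hR
        hnu := fun l => D.nu_indN hcomm l
        hconj := fun l χ => conj_indN l χ
        hRo := fun l hR => D.rel_one l hR
        horb := fun l hl => D.card_orbit hcomm hsemi l (ne_one_of_ne hl)
        hdeg := fun χ => D.deg_eq_sum hcomm χ
        hsq := fun χ => D.sq_data hcomm χ
        hM1 := fun χ => D.mult_indFun_one χ }
    exact Md.main l hl

end Cfsg.Agent.Lib.Helper21_FeitAbA.Data
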