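import Mathlib
import Cfsg.Agent.Lib.Helper21_FeitAbA
import Cfsg.Agent.Lib.Helper6_Zassenhaus
import Cfsg.Agent.Lib.Helper10_Feit_PA

/-!
# Package FeitAb-BRIDGE (helper21, for S0731)

From the permutation hypotheses of `FeitAbHyp` to the abstract configuration
`Helper21_FeitAbA.Data`.  The first part is a port of `Helper54_Feit_PB1` / `Helper54_Feit_PB3`
to a structure `Nice'` which only asks for `ZHyp` (not for `IsZassenhausGroup`).
-/

set_option autoImplicit false
set_option linter.unusedSectionVars false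
set_option linter.style.haveILetI false
set_option linter.unusedVariables false

namespace Cfsg.Agent.Lib.Helper54_FeitAbBridge

open Cfsg MulAction Cfsg.Agent.Lib.Helper6_Zassenhaus

universe u v

/-- The nice case with `ZHyp` only. -/
structure Nice' (G : Type u) (Ω : Type v) [Group G] [MulAction G Ω] [Fintype Ω]
    (a b : Ω) (H : Subgroup G) (h e : ℕ) : Prop where
  zh : ZHyp G Ω
  hab : a ≠ b
  card_Ω : Fintype.card Ω = h + 1
  card_E : Nat.card ↥(stabilizer G a ⊓ stabilizer G b : Subgroup G) = e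
  e_odd : Odd e
  H_le : H ≤ stabilizer G a
  card_H : Nat.card H = h
  H_fix : ∀ u ∈ H, u ≠ 1 → ∀ c : Ω, u • c = c → c = a
  swap_sq : ∀ (s : G) (c d : Ω), c ≠ d → s • c = d → s • d = c → s * s = 1

section B
variable {G : Type u} {Ω : Type v} [Group G] [Fintype G] [MulAction G Ω] [Fintype Ω]
  {a b : Ω} {H : Subgroup G} {h e : ℕ}


/-- In the nice case `H` is the Frobenius kernel `Kset G a` of the point stabiliser, and it is
transitive on the other points. -/
theorem H_eq_Kset (hN : Nice' G Ω a b H h e) :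
    (H : Set G) = Kset G a ∧ ∀ c d, c ≠ a → d ≠ a → ∃ k ∈ H, k • c = d := by
  classical
  have hZ : ZHyp G Ω := hN.zh
  obtain ⟨K, hKset, hKtr⟩ := exists_K hZ a
  have hba : b ≠ a := hN.hab.symm
  have hHK : H ≤ K := by
    intro u hu
    have : u ∈ (K : Set G) := by
      rw [hKset]
      refine ⟨hN.H_le hu, ?_⟩
      by_cases h1 : u = 1
      · exact Or.inl h1
      · exact Or.inr fun c hc hfix => hc (hN.H_fix u hu h1 c hfix)
    exact this
  have hKmem : ∀ k ∈ K, k • a = a ∧ (k = 1 ∨ ∀ c, c ≠ a → k • c ≠ c) := by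
    intro k hk
    have : k ∈ (K : Set G) := hk
    rw [hKset] at this
    exact this
  have hcardK : Nat.card K = h := by
    have hbij : Function.Bijective (fun k : K => (⟨(k : G) • b, by
        intro hkb
        have h1 := (hKmem k k.2).1
        apply hba
        have : (k : G) • b = (k : G) • a := by rw [hkb, h1]
        exact smul_left_cancel _ this⟩ : {c : Ω // c ≠ a})) := by
      constructor
      · intro k k' hkk
        have h1 : (k : G) • b = (k' : G) • b := congrArg Subtype.val hkk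
        have h2 : ((k' : G)⁻¹ * (k : G)) • b = b := by
          rw [mul_smul, h1, inv_smul_smul]
        have h3 := hKmem _ (K.mul_mem (K.inv_mem k'.2) k.2)
        rcases h3.2 with h4 | h4
        · apply Subtype.ext
          have : (k : G) = (k' : G) * ((k' : G)⁻¹ * (k : G)) := by group
          rw [this, h4, mul_one]
        · exact absurd h2 (h4 b hba)
      · rintro ⟨c, hc⟩
        obtain ⟨k, hk, hkb⟩ := hKtr b c hba hc
        exact ⟨⟨k, hk⟩, Subtype.ext hkb⟩
    rw [Nat.card_congr (Equiv.ofBijective _ hbij), Nat.card_eq_fintype_card,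
      Fintype.card_subtype_compl, Fintype.card_subtype_eq, hN.card_Ω]
    simp
  have hHeq : H = K := by
    apply Subgroup.eq_of_le_of_card_ge hHK
    rw [hcardK, hN.card_H]
  constructor
  · rw [hHeq, hKset]
  · rw [hHeq]; exact hKtr

/-- every element of `G_a` is a product of an element of `H` and an element of `G_a ∩ G_b` -/
theorem exists_factor (hN : Nice' G Ω a b H h e) {n : G} (hn : n ∈ stabilizer G a) :
    ∃ k ∈ H, ∃ y ∈ (stabilizer G a ⊓ stabilizer G b : Subgroup G), n = k * y := by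
  obtain ⟨_, htr⟩ := H_eq_Kset hN
  have hna : n • a = a := hn
  have hnb : n • b ≠ a := by
    intro hnb
    apply hN.hab
    have : n • b = n • a := by rw [hnb, hna]
    exact (smul_left_cancel _ this).symm
  obtain ⟨k, hk, hkb⟩ := htr b (n • b) hN.hab.symm hnb
  refine ⟨k, hk, k⁻¹ * n, ?_, by group⟩
  rw [Subgroup.mem_inf]
  constructor
  · exact Subgroup.mul_mem _ (Subgroup.inv_mem _ (hN.H_le hk)) hn
  · rw [mem_stabilizer_iff, mul_smul, ← hkb, inv_smul_smul]

theorem H_inf_E (hN : Nice' G Ω a b H h e) :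
    H ⊓ (stabilizer G a ⊓ stabilizer G b) = ⊥ := by
  rw [eq_bot_iff]
  intro x hx
  rw [Subgroup.mem_inf, Subgroup.mem_inf] at hx
  rw [Subgroup.mem_bot]
  by_contra h1
  exact hN.hab (hN.H_fix x hx.1 h1 b hx.2.2).symm

/-- a conjugate of a nonidentity element of `H` lying in `H` comes from the point stabiliser -/
theorem fix_of_conj_mem (hN : Nice' G Ω a b H h e) {g x : G} (hx : x ∈ H) (hx1 : x ≠ 1)
    (hg : g * x * g⁻¹ ∈ H) : g • a = a := by
  apply hN.H_fix _ hg
  · intro h1
    apply hx1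
    have : x = g⁻¹ * (g * x * g⁻¹) * g := by group
    rw [this, h1]; group
  · have hxa : x • a = a := hN.H_le hx
    rw [mul_smul, mul_smul, inv_smul_smul, hxa]

theorem conj_mem (hN : Nice' G Ω a b H h e) {n x : G} (hn : n ∈ stabilizer G a) (hx : x ∈ H) :
    n * x * n⁻¹ ∈ H := by
  obtain ⟨hset, _⟩ := H_eq_Kset hN
  have hna : n • a = a := hn
  have hxa : x • a = a := hN.H_le hx
  have : n * x * n⁻¹ ∈ (H : Set G) := by
    rw [hset]
    refine ⟨?_, ?_⟩
    · rw [mul_smul, mul_smul, inv_smul_eq_iff.2 hna.symm, hxa, hna]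
    · by_cases h1 : x = 1
      · left; rw [h1]; group
      · right
        intro c hc hfix
        apply hc
        have h2 : x • (n⁻¹ • c) = n⁻¹ • c := by
          rw [mul_smul, mul_smul] at hfix
          exact (inv_smul_eq_iff.2 hfix.symm).symm
        have h3 := hN.H_fix x hx h1 _ h2
        rw [inv_smul_eq_iff] at h3
        rw [h3, hna]
  exact this

theorem exists_ne_one (hN : Nice' G Ω a b H h e) : ∃ x ∈ H, x ≠ 1 := by
  have hZ : ZHyp G Ω := hN.zh
  obtain ⟨_, htr⟩ := H_eq_Kset hN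
  obtain ⟨c, hca, hcb⟩ := exists_third hZ a b hN.hab
  obtain ⟨k, hk, hkb⟩ := htr b c hN.hab.symm hca
  refine ⟨k, hk, ?_⟩
  intro h1
  rw [h1, one_smul] at hkb
  exact hcb hkb.symm

theorem normalizer_eq (hN : Nice' G Ω a b H h e) :
    Subgroup.normalizer (H : Set G) = stabilizer G a := by
  ext g
  rw [Subgroup.mem_normalizer_iff]
  constructor
  · intro hg
    obtain ⟨x, hx, hx1⟩ := exists_ne_one hN
    exact fix_of_conj_mem hN hx hx1 ((hg x).1 hx)
  · intro hg x
    constructor
    · intro hx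
      exact conj_mem hN hg hx
    · intro hx
      have := conj_mem hN (Subgroup.inv_mem _ hg) hx
      have h2 : g⁻¹ * (g * x * g⁻¹) * g⁻¹⁻¹ = x := by group
      rw [h2] at this
      exact this

theorem card_stab (hN : Nice' G Ω a b H h e) : Nat.card (stabilizer G a) = h * e := by
  have hbij : Function.Bijective
      (fun p : H × (stabilizer G a ⊓ stabilizer G b : Subgroup G) =>
        (⟨(p.1 : G) * (p.2 : G), Subgroup.mul_mem _ (hN.H_le p.1.2) p.2.2.1⟩ : stabilizer G a)) := by
    constructor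
    · rintro ⟨k, y⟩ ⟨k', y'⟩ hkk
      have h1 : (k : G) * (y : G) = (k' : G) * (y' : G) := congrArg Subtype.val hkk
      have h2 : (k' : G)⁻¹ * (k : G) = (y' : G) * (y : G)⁻¹ := by
        have : (k : G) = (k' : G) * (y' : G) * (y : G)⁻¹ := by rw [← h1]; group
        rw [this]; group
      have h3 : (k' : G)⁻¹ * (k : G) ∈ H ⊓ (stabilizer G a ⊓ stabilizer G b) := by
        refine Subgroup.mem_inf.2 ⟨H.mul_mem (H.inv_mem k'.2) k.2, ?_⟩
        rw [h2]
        exact Subgroup.mul_mem _ y'.2 (Subgroup.inv_mem _ y.2)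
      rw [H_inf_E hN, Subgroup.mem_bot] at h3
      have h4 : (k : G) = (k' : G) := by
        have : (k : G) = (k' : G) * ((k' : G)⁻¹ * (k : G)) := by group
        rw [this, h3, mul_one]
      have h5 : (y : G) = (y' : G) := by
        rw [h4] at h1
        exact mul_left_cancel h1
      exact Prod.ext (Subtype.ext h4) (Subtype.ext h5)
    · rintro ⟨n, hn⟩
      obtain ⟨k, hk, y, hy, hny⟩ := exists_factor hN hn
      exact ⟨⟨⟨k, hk⟩, ⟨y, hy⟩⟩, Subtype.ext hny.symm⟩
  rw [← Nat.card_congr (Equiv.ofBijective _ hbij), Nat.card_prod, hN.card_H, hN.card_E]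

/-- **PB1** (structure of the point stabiliser). -/
theorem PB1' (hN : Nice' G Ω a b H h e) :
    (∀ n ∈ stabilizer G a, ∀ x ∈ H, n * x * n⁻¹ ∈ H) ∧
    Nat.card (stabilizer G a) = h * e ∧
    (stabilizer G a).index = h + 1 ∧
    1 < e ∧
    (∀ x ∈ H, x ≠ 1 → ∀ n ∈ stabilizer G a, n * x = x * n → n ∈ H) ∧
    Cfsg.IsTISubset (H : Set G) ∧
    Subgroup.normalizer (H : Set G) = stabilizer G a ∧
    H ⊓ (stabilizer G a ⊓ stabilizer G b) = ⊥ ∧
    H ⊔ (stabilizer G a ⊓ stabilizer G b) = stabilizer G a := by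
  have hZ : ZHyp G Ω := hN.zh
  refine ⟨fun n hn x hx => conj_mem hN hn hx, card_stab hN, ?_, ?_, ?_, ?_, normalizer_eq hN,
    H_inf_E hN, ?_⟩
  · have : IsPretransitive G Ω := ⟨fun x y => by
      by_cases hxy : x = y
      · exact ⟨1, by rw [one_smul, hxy]⟩
      · obtain ⟨g, hg, _⟩ := hZ.two hxy (Ne.symm hxy)
        exact ⟨g, hg⟩⟩
    rw [index_stabilizer_of_transitive, Nat.card_eq_fintype_card, hN.card_Ω]
  · rw [← hN.card_E, Subgroup.one_lt_card_iff_ne_bot]
    obtain ⟨g, hg1, hga, hgb⟩ := exists_fix hZ a b hN.hab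
    intro hbot
    have : g ∈ (stabilizer G a ⊓ stabilizer G b : Subgroup G) := Subgroup.mem_inf.2 ⟨hga, hgb⟩
    rw [hbot, Subgroup.mem_bot] at this
    exact hg1 this
  · intro x hx hx1 n hn hcomm
    obtain ⟨hset, _⟩ := H_eq_Kset hN
    have hna : n • a = a := hn
    have hxa : x • a = a := hN.H_le hx
    have : n ∈ (H : Set G) := by
      rw [hset]
      refine ⟨hna, ?_⟩
      by_cases hn1 : n = 1
      · exact Or.inl hn1
      · right
        intro c hca hnc
        -- `x • c` is fixed by `n`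
        have h1 : n • (x • c) = x • c := by
          rw [← mul_smul, hcomm, mul_smul, hnc]
        have h2 : x • c ≠ a := by
          intro h2
          apply hca
          have : x • c = x • a := by rw [h2, hxa]
          exact smul_left_cancel _ this
        have h3 : x • c = c := by
          by_contra h3
          exact hn1 (hZ.three n a c (x • c) hca.symm (Ne.symm h3) h2.symm hna hnc h1)
        exact hca (hN.H_fix x hx hx1 c h3)
    exact this
  · intro g hg x hx hgx
    by_contra hx1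
    apply hg
    rw [normalizer_eq hN]
    exact fix_of_conj_mem hN hx hx1 hgx
  · apply le_antisymm
    · exact sup_le hN.H_le inf_le_left
    · intro n hn
      obtain ⟨k, hk, y, hy, hny⟩ := exists_factor hN hn
      rw [hny]
      exact Subgroup.mul_mem_sup hk hy


lemma natCard_subtype {α : Type*} [Fintype α] (p : α → Prop) [DecidablePred p] :
    Nat.card {x // p x} = (Finset.univ.filter p).card := by
  rw [Nat.card_eq_fintype_card, Fintype.card_subtype]

/-- (1): an element moving `a` whose square fixes `a` is an involution -/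
theorem sq_out (hN : Nice' G Ω a b H h e) (s : G) (hs : s ∉ stabilizer G a)
    (hss : s * s ∈ stabilizer G a) : s * s = 1 := by
  have h1 : s • a ≠ a := hs
  have h2 : s • (s • a) = a := by
    rw [← mul_smul]; exact hss
  exact hN.swap_sq s a (s • a) (Ne.symm h1) rfl h2

/-- a nonidentity involution fixes at most one point -/
theorem invol_fix_unique (hN : Nice' G Ω a b H h e) {s : G} (hs1 : s ≠ 1) (hss : s * s = 1)
    {c d : Ω} (hc : s • c = c) (hd : s • d = d) : c = d := by
  have hZ : ZHyp G Ω := hN.zh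
  by_contra hcd
  obtain ⟨g, hga, hgb⟩ := hZ.two hN.hab hcd
  -- s' = g⁻¹ s g lies in E
  have hmem : g⁻¹ * s * g ∈ (stabilizer G a ⊓ stabilizer G b : Subgroup G) := by
    rw [Subgroup.mem_inf, mem_stabilizer_iff, mem_stabilizer_iff]
    constructor
    · rw [mul_smul, mul_smul, hga, hc, ← hga, inv_smul_smul]
    · rw [mul_smul, mul_smul, hgb, hd, ← hgb, inv_smul_smul]
  set y : (stabilizer G a ⊓ stabilizer G b : Subgroup G) := ⟨g⁻¹ * s * g, hmem⟩ with hy
  have hy1 : y ≠ 1 := by
    intro h1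
    apply hs1
    have h2 : g⁻¹ * s * g = 1 := congrArg Subtype.val h1
    have : s = g * (g⁻¹ * s * g) * g⁻¹ := by group
    rw [this, h2]; group
  have hy2 : y ^ 2 = 1 := by
    apply Subtype.ext
    show (g⁻¹ * s * g) ^ 2 = 1
    rw [pow_two]
    have : g⁻¹ * s * g * (g⁻¹ * s * g) = g⁻¹ * (s * s) * g := by group
    rw [this, hss]; group
  have hord : orderOf y = 2 := orderOf_eq_prime hy2 hy1
  have hdvd : 2 ∣ e := by
    rw [← hN.card_E, ← hord]
    exact orderOf_dvd_natCard y
  have := hN.e_odd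
  rw [Nat.odd_iff] at this
  omega

/-- (2): the involutions moving `a` -/
theorem card_invol_out (hN : Nice' G Ω a b H h e) :
    Nat.card {s : G // s ∉ stabilizer G a ∧ s * s = 1} = h * e := by
  classical
  have hZ : ZHyp G Ω := hN.zh
  have ht : ∀ c : {c : Ω // c ≠ a}, ∃ t : G, t • a = c.1 ∧ t • c.1 = a :=
    fun c => hZ.two c.2.symm c.2
  have hu : ∀ c : {c : Ω // c ≠ a}, ∃ u : G, u • a = a ∧ u • b = c.1 :=
    fun c => hZ.two hN.hab c.2.symm
  choose t ht1 ht2 using ht
  choose u hu1 hu2 using hu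
  have key : ∀ (c : {c : Ω // c ≠ a}) (y : (stabilizer G a ⊓ stabilizer G b : Subgroup G)),
      (t c * (u c * (y : G) * (u c)⁻¹)) • a = c.1 ∧ (t c * (u c * (y : G) * (u c)⁻¹)) • c.1 = a := by
    intro c y
    have hya : (y : G) • a = a := (Subgroup.mem_inf.1 y.2).1
    have hyb : (y : G) • b = b := (Subgroup.mem_inf.1 y.2).2
    have h1 : (u c)⁻¹ • a = a := by rw [inv_smul_eq_iff, hu1]
    have h2 : (u c)⁻¹ • c.1 = b := by rw [inv_smul_eq_iff, hu2]
    constructor
    · rw [mul_smul, mul_smul, mul_smul, h1, hya, hu1, ht1]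
    · rw [mul_smul, mul_smul, mul_smul, h2, hyb, hu2, ht2]
  have hbij : Function.Bijective
      (fun p : {c : Ω // c ≠ a} × (stabilizer G a ⊓ stabilizer G b : Subgroup G) =>
        (⟨t p.1 * (u p.1 * (p.2 : G) * (u p.1)⁻¹), by
          obtain ⟨k1, k2⟩ := key p.1 p.2
          refine ⟨?_, ?_⟩
          · intro hmem
            rw [mem_stabilizer_iff, k1] at hmem
            exact p.1.2 hmem
          · exact hN.swap_sq _ a p.1.1 p.1.2.symm k1 k2⟩ :
          {s : G // s ∉ stabilizer G a ∧ s * s = 1})) := by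
    constructor
    · rintro ⟨c, y⟩ ⟨c', y'⟩ hcc
      have h1 : t c * (u c * (y : G) * (u c)⁻¹) = t c' * (u c' * (y' : G) * (u c')⁻¹) :=
        congrArg Subtype.val hcc
      have h2 : c = c' := by
        apply Subtype.ext
        rw [← (key c y).1, ← (key c' y').1, h1]
      subst h2
      have h3 : (y : G) = (y' : G) := by
        have := mul_left_cancel h1
        exact mul_left_cancel (mul_right_cancel this)
      exact Prod.ext rfl (Subtype.ext h3)
    · rintro ⟨s, hs, hss⟩
      have hsa : s • a ≠ a := hs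
      set c : {c : Ω // c ≠ a} := ⟨s • a, hsa⟩ with hc
      have hsc : s • c.1 = a := by
        show s • (s • a) = a
        rw [← mul_smul, hss, one_smul]
      have h1 : (t c)⁻¹ • c.1 = a := by rw [inv_smul_eq_iff, ht1]
      have h2 : (t c)⁻¹ • a = c.1 := by rw [inv_smul_eq_iff, ht2]
      have h3 : (u c)⁻¹ • a = a := by rw [inv_smul_eq_iff, hu1]
      have h4 : (u c)⁻¹ • c.1 = b := by rw [inv_smul_eq_iff, hu2]
      have hy : (u c)⁻¹ * ((t c)⁻¹ * s) * u c ∈ (stabilizer G a ⊓ stabilizer G b : Subgroup G) := by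
        rw [Subgroup.mem_inf, mem_stabilizer_iff, mem_stabilizer_iff]
        constructor
        · rw [mul_smul, mul_smul, mul_smul, hu1]
          show (u c)⁻¹ • (t c)⁻¹ • c.1 = a
          rw [h1, h3]
        · rw [mul_smul, mul_smul, mul_smul, hu2, hsc, h2, h4]
      refine ⟨⟨c, ⟨_, hy⟩⟩, ?_⟩
      apply Subtype.ext
      show t c * (u c * ((u c)⁻¹ * ((t c)⁻¹ * s) * u c) * (u c)⁻¹) = s
      group
  rw [← Nat.card_congr (Equiv.ofBijective _ hbij), Nat.card_prod, hN.card_E,
    Nat.card_eq_fintype_card, Fintype.card_subtype_compl, Fintype.card_subtype_eq, hN.card_Ω]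
  simp

/-- (3): `H` contains at most `e + 1` elements of square one -/
theorem card_invol_H (hN : Nice' G Ω a b H h e) :
    Nat.card {z : G // z ∈ H ∧ z * z = 1} ≤ e + 1 := by
  classical
  have hZ : ZHyp G Ω := hN.zh
  set I : Finset G := Finset.univ.filter (fun s => s * s = 1) with hI
  set A : Ω → ℕ := fun c => (Finset.univ.filter fun s : G => s * s = 1 ∧ s • c = c).card with hA
  set Fx : G → ℕ := fun s => (Finset.univ.filter fun c : Ω => s • c = c).card with hFx
  -- step a
  have stepa : ∀ c, A c = A a := by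
    intro c
    obtain ⟨g, hg⟩ : ∃ g : G, g • a = c := by
      by_cases hca : a = c
      · exact ⟨1, by rw [one_smul, hca]⟩
      · obtain ⟨g, hg, _⟩ := hZ.two hca (Ne.symm hca)
        exact ⟨g, hg⟩
    symm
    apply Finset.card_bij (fun s _ => g * s * g⁻¹)
    · intro s hs
      rw [Finset.mem_filter] at hs ⊢
      refine ⟨Finset.mem_univ _, ?_, ?_⟩
      · have : g * s * g⁻¹ * (g * s * g⁻¹) = g * (s * s) * g⁻¹ := by group
        rw [this, hs.2.1]; group
      · rw [mul_smul, mul_smul, ← hg, inv_smul_smul, hs.2.2]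
    · intro s _ s' _ hss
      exact mul_left_cancel (mul_right_cancel hss)
    · intro s hs
      rw [Finset.mem_filter] at hs
      refine ⟨g⁻¹ * s * g, ?_, by group⟩
      rw [Finset.mem_filter]
      refine ⟨Finset.mem_univ _, ?_, ?_⟩
      · have : g⁻¹ * s * g * (g⁻¹ * s * g) = g⁻¹ * (s * s) * g := by group
        rw [this, hs.2.1]; group
      · rw [mul_smul, mul_smul, hg, hs.2.2, ← hg, inv_smul_smul]
  -- step b
  have stepb : ∑ c, A c = ∑ s ∈ I, Fx s := by
    simp only [hA, hFx, Finset.card_filter]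
    rw [Finset.sum_comm, hI, Finset.sum_filter]
    refine Finset.sum_congr rfl fun s _ => ?_
    by_cases hs : s * s = 1
    · simp [hs]
    · simp [hs]
  -- step c
  have h1I : (1 : G) ∈ I := by simp [hI]
  have hFx1 : Fx 1 = h + 1 := by
    simp only [hFx, one_smul, Finset.filter_true, Finset.card_univ]
    exact hN.card_Ω
  have stepc : ∑ s ∈ I, Fx s ≤ (h + 1) + (I.card - 1) := by
    rw [← Finset.add_sum_erase I Fx h1I, hFx1]
    apply Nat.add_le_add_left
    calc ∑ s ∈ I.erase 1, Fx s ≤ ∑ s ∈ I.erase 1, 1 := by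
          apply Finset.sum_le_sum
          intro s hs
          rw [Finset.mem_erase, hI, Finset.mem_filter] at hs
          apply Finset.card_le_one.2
          intro c hc d hd
          rw [Finset.mem_filter] at hc hd
          exact invol_fix_unique hN hs.1 hs.2.2 hc.2 hd.2
      _ = I.card - 1 := by
          rw [Finset.sum_const, Finset.card_erase_of_mem h1I]; simp
  -- step d
  have stepd : I.card = A a + h * e := by
    rw [← Finset.card_filter_add_card_filter_not (s := I) (fun s => s • a = a)]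
    congr 1
    · rw [hI, Finset.filter_filter]
    · rw [← card_invol_out hN, natCard_subtype, hI, Finset.filter_filter]
      congr 1
      ext s
      simp only [Finset.mem_filter, Finset.mem_univ, true_and, mem_stabilizer_iff]
      tauto
  -- step e
  have hsum : ∑ c : Ω, A c = (h + 1) * A a := by
    rw [Finset.sum_congr rfl (fun c _ => stepa c), Finset.sum_const, Finset.card_univ, hN.card_Ω,
      smul_eq_mul]
  have hIpos : 1 ≤ I.card := Finset.card_pos.2 ⟨1, h1I⟩
  have hhpos : 0 < h := by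
    rw [← hN.card_H]
    exact Nat.card_pos
  have hAle : A a ≤ e + 1 := by
    have h1 : (h + 1) * A a ≤ (h + 1) + (I.card - 1) := by
      rw [← hsum, stepb]; exact stepc
    have h2 : (h + 1) * A a ≤ h + (A a + h * e) := by
      rw [← stepd]; omega
    have h3 : h * A a ≤ h * (e + 1) := by nlinarith
    exact Nat.le_of_mul_le_mul_left h3 hhpos
  -- step f
  refine le_trans ?_ hAle
  rw [natCard_subtype]
  apply Finset.card_le_card
  intro z hz
  rw [Finset.mem_filter] at hz ⊢
  exact ⟨Finset.mem_univ _, hz.2.2, hN.H_le hz.2.1⟩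

/-- **PB3** (involution counting). -/
theorem PB3' (hN : Nice' G Ω a b H h e) :
    (∀ s : G, s ∉ stabilizer G a → s * s ∈ stabilizer G a → s * s = 1) ∧
    Nat.card {s : G // s ∉ stabilizer G a ∧ s * s = 1} = h * e ∧
    Nat.card {z : G // z ∈ H ∧ z * z = 1} ≤ e + 1 :=
  ⟨sq_out hN, card_invol_out hN, card_invol_H hN⟩

end B

/-- the bridge hypotheses give the `Nice'` configuration -/
theorem nice_of_hyps {G : Type u} {Ω : Type v} [Group G] [MulAction G Ω] [Fintype G] [Fintype Ω]
    [FaithfulSMul G Ω]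
    (h2 : IsMultiplyPretransitive G Ω 2)
    (h3 : ∀ g : G, ∀ x y z : Ω, x ≠ y → y ≠ z → x ≠ z → g • x = x → g • y = y → g • z = z →
      g = 1)
    {a b : Ω} (hab : a ≠ b)
    (N : Subgroup G) (hNa : N ≤ stabilizer G a)
    (hreg : ∀ y z : Ω, y ≠ a → z ≠ a → ∃! u : N, (u : G) • y = z)
    (hodd : Odd (Nat.card ↥(stabilizer G a ⊓ stabilizer G b)))
    (hne : 1 < Nat.card ↥(stabilizer G a ⊓ stabilizer G b))
    (hinv : ∀ s : G, s • a = b → s • b = a → ∀ h ∈ stabilizer G a ⊓ stabilizer G b,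
      s * h * s⁻¹ = h⁻¹) :
    Nice' G Ω a b N (Nat.card N) (Nat.card ↥(stabilizer G a ⊓ stabilizer G b)) := by
  classical
  have hZ : ZHyp G Ω := by
    refine ⟨inferInstance, fun h h' => (MulAction.is_two_pretransitive_iff.1 h2) h h', h3, ?_⟩
    rw [Subgroup.one_lt_card_iff_ne_bot] at hne
    obtain ⟨⟨g, hg⟩, hg1⟩ := (Subgroup.ne_bot_iff_exists_ne_one).1 hne
    refine ⟨g, fun h => hg1 (Subtype.ext h), a, b, hab, ?_, ?_⟩
    · exact (Subgroup.mem_inf.1 hg).1
    · exact (Subgroup.mem_inf.1 hg).2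
  have hba : b ≠ a := hab.symm
  refine ⟨hZ, hab, ?_, rfl, hodd, hNa, rfl, ?_, ?_⟩
  · -- card Ω = |N| + 1
    have hbij : Function.Bijective (fun k : N => (⟨(k : G) • b, by
        intro hkb
        have h1 : (k : G) • a = a := hNa k.2
        apply hba
        have : (k : G) • b = (k : G) • a := by rw [hkb, h1]
        exact smul_left_cancel _ this⟩ : {c : Ω // c ≠ a})) := by
      constructor
      · intro k k' hkk
        have h1 : (k : G) • b = (k' : G) • b := congrArg Subtype.val hkk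
        have hk'b : (k' : G) • b ≠ a := by
          intro hkb
          have h1 : (k' : G) • a = a := hNa k'.2
          apply hba
          have : (k' : G) • b = (k' : G) • a := by rw [hkb, h1]
          exact smul_left_cancel _ this
        obtain ⟨u, _, huniq⟩ := hreg b ((k' : G) • b) hba hk'b
        rw [huniq k h1, huniq k' rfl]
      · rintro ⟨c, hc⟩
        obtain ⟨k, hk, _⟩ := hreg b c hba hc
        exact ⟨k, Subtype.ext hk⟩
    have h1 : Nat.card N = Fintype.card Ω - 1 := by
      rw [Nat.card_congr (Equiv.ofBijective _ hbij), Nat.card_eq_fintype_card,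
        Fintype.card_subtype_compl, Fintype.card_subtype_eq]
    have h2 : 0 < Fintype.card Ω := Fintype.card_pos_iff.2 ⟨a⟩
    omega
  · intro u hu hu1 c hc
    by_contra hca
    obtain ⟨w, _, huniq⟩ := hreg c c hca hca
    have e1 := huniq ⟨u, hu⟩ hc
    have e2 := huniq 1 (by simp)
    apply hu1
    have : (⟨u, hu⟩ : N) = 1 := by rw [e1, e2]
    exact congrArg Subtype.val this
  · intro s c d hcd hsc hsd
    exact Cfsg.Agent.Lib.Helper10_Feit_PA.swap_sq_of_invert hZ hab hodd hinv s c d hcd hsc hsd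

theorem bridge {G : Type u} {Ω : Type v} [Group G] [MulAction G Ω] [Fintype G] [Finite Ω]
    [FaithfulSMul G Ω]
    (h2 : IsMultiplyPretransitive G Ω 2)
    (h3 : ∀ g : G, ∀ x y z : Ω, x ≠ y → y ≠ z → x ≠ z → g • x = x → g • y = y → g • z = z →
      g = 1)
    {a b : Ω} (hab : a ≠ b)
    (N : Subgroup G) (hNa : N ≤ stabilizer G a)
    (hreg : ∀ y z : Ω, y ≠ a → z ≠ a → ∃! u : N, (u : G) • y = z)
    (hNcomm : ∀ u ∈ N, ∀ v ∈ N, u * v = v * u)
    (hnorm : ∀ h ∈ stabilizer G a ⊓ stabilizer G b, ∀ u ∈ N, h * u * h⁻¹ ∈ N)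
    (hodd : Odd (Nat.card ↥(stabilizer G a ⊓ stabilizer G b)))
    (hne : 1 < Nat.card ↥(stabilizer G a ⊓ stabilizer G b))
    (hinv : ∀ s : G, s • a = b → s • b = a → ∀ h ∈ stabilizer G a ⊓ stabilizer G b,
      s * h * s⁻¹ = h⁻¹) :
    Cfsg.Agent.Lib.Helper21_FeitAbA.Data N (stabilizer G a) (Nat.card N)
        (Nat.card ↥(stabilizer G a ⊓ stabilizer G b)) ∧
      (∀ g ∈ stabilizer G a, g ∉ N → ∀ y ∈ N, g * y = y * g → y = 1) ∧
      ((∀ y ∈ N, y * y = 1) →
        Nat.card N ≤ Nat.card ↥(stabilizer G a ⊓ stabilizer G b) + 1) := by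
  classical
  haveI : Fintype Ω := Fintype.ofFinite Ω
  have hN := nice_of_hyps h2 h3 hab N hNa hreg hodd hne hinv
  have hZ := hN.zh
  obtain ⟨c1, c2, c3, c4, c5, c6, c7, c8, c9⟩ := PB1' hN
  obtain ⟨d1, d2, d3⟩ := PB3' hN
  -- the two-point stabiliser is abelian
  have hEab : ∀ x ∈ stabilizer G a ⊓ stabilizer G b, ∀ y ∈ stabilizer G a ⊓ stabilizer G b,
      x * y = y * x := by
    intro x hx y hy
    obtain ⟨s, hsa, hsb⟩ := hZ.two hab hab.symm
    have e1 := hinv s hsa hsb x hx
    have e2 := hinv s hsa hsb y hy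
    have e3 := hinv s hsa hsb (x * y) (Subgroup.mul_mem _ hx hy)
    have e4 : s * (x * y) * s⁻¹ = (s * x * s⁻¹) * (s * y * s⁻¹) := by group
    rw [e4, e1, e2, mul_inv_rev] at e3
    have e5 : (x⁻¹ * y⁻¹)⁻¹ = (y⁻¹ * x⁻¹)⁻¹ := by rw [e3]
    simpa using e5.symm
  refine ⟨⟨hNa, c1, ?_, rfl, c2, ?_, hodd, ?_, ?_, d2⟩, ?_, ?_⟩
  · -- commutators of B lie in N
    intro g₁ hg₁ g₂ hg₂
    obtain ⟨n₁, hn₁, x₁, hx₁, rfl⟩ := exists_factor hN hg₁
    obtain ⟨n₂, hn₂, x₂, hx₂, rfl⟩ := exists_factor hN hg₂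
    have hx₁B : x₁ ∈ stabilizer G a := (Subgroup.mem_inf.1 hx₁).1
    have hx₂B : x₂ ∈ stabilizer G a := (Subgroup.mem_inf.1 hx₂).1
    have e1 : n₁ * x₁ * (n₂ * x₂) * (n₁ * x₁)⁻¹ * (n₂ * x₂)⁻¹ =
        n₁ * (x₁ * n₂ * x₁⁻¹) * (x₁ * x₂ * x₁⁻¹ * x₂⁻¹) * (x₂ * n₁⁻¹ * x₂⁻¹) * n₂⁻¹ := by group
    have e2 : x₁ * x₂ * x₁⁻¹ * x₂⁻¹ = 1 := by
      rw [hEab x₁ hx₁ x₂ hx₂]; group
    rw [e1, e2, mul_one]
    exact N.mul_mem (N.mul_mem (N.mul_mem hn₁ (c1 x₁ hx₁B n₂ hn₂)) (c1 x₂ hx₂B _ (N.inv_mem hn₁)))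
      (N.inv_mem hn₂)
  · -- |G|
    rw [← Subgroup.index_mul_card (stabilizer G a), c3, c2]
    ring
  · -- ti
    intro y hy hy1 g hg
    have h1 : g⁻¹ * y * g⁻¹⁻¹ ∈ N := by rw [inv_inv]; exact hg
    have h2 := fix_of_conj_mem hN hy hy1 h1
    rw [mem_stabilizer_iff]
    rw [inv_smul_eq_iff] at h2
    exact h2.symm
  · -- sq
    intro g hg
    by_cases hgB : g ∈ stabilizer G a
    · exact Or.inl hgB
    · exact Or.inr (d1 g hgB hg)
  · intro g hg hgN y hy hcomm
    by_contra hy1
    exact hgN (c5 y hy hy1 g hg hcomm)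
  · intro hexp
    refine le_trans (le_of_eq ?_) d3
    apply Nat.card_congr
    exact
      { toFun := fun z => ⟨(z : G), z.2, hexp z z.2⟩
        invFun := fun z => ⟨z.1, z.2.1⟩
        left_inv := fun z => rfl
        right_inv := fun z => rfl }

end Cfsg.Agent.Lib.Helper54_FeitAbBridge
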