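import Mathlib
import Cfsg.Agent.Lib.Helper21_FeitAbE
import Cfsg.Agent.Lib.Helper54_FeitAbBridge

/-!
# Feit's inequality for an abelian regular normal subgroup of a point stabiliser (helper21)

Let `G` be a 2-transitive group on `Ω` in which only the identity fixes three points, `a ≠ b`,
and let `N ≤ G_a` be an abelian subgroup which is regular on `Ω \ {a}` and normalised by the
two-point stabiliser `G_{ab}`.  If `|G_{ab}|` is odd, greater than `1`, and inverted by every
element swapping `a` and `b`, then `|N| ≤ 2 |G_{ab}| + 1`.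

The permutation-theoretic part is `Helper54_FeitAbBridge.bridge` (helper54), the
character-theoretic part is `Helper21_FeitAbA.Data.card_le_core`.
-/

set_option autoImplicit false

namespace Cfsg.Agent.Lib.Helper21_FeitAb

open MulAction

universe u v

theorem card_le {G : Type u} {Ω : Type v} [Group G] [MulAction G Ω] [Finite G] [Finite Ω]
    [FaithfulSMul G Ω]
    (h2 : IsMultiplyPretransitive G Ω 2)
    (h3 : ∀ g : G, ∀ x y z : Ω, x ≠ y → y ≠ z → x ≠ z → g • x = x → g • y = y → g • z = z →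
      g = 1)
    {a b : Ω} (hab : a ≠ b)
    (N : Subgroup G) (hNa : N ≤ stabilizer G a)
    (hreg : ∀ y z : Ω, y ≠ a → z ≠ a → ∃! u : N, (u : G) • y = z)
    (hNcomm : ∀ u ∈ N, ∀ v ∈ N, u * v = v * u)
    (hnorm : ∀ h ∈ stabilizer G a ⊓ stabilizer G b, ∀ u ∈ N, h * u * h⁻¹ ∈ N)
    (hodd : Odd (Nat.card ↥(stabilizer G a ⊓ stabilizer G b)))
    (hne : 1 < Nat.card ↥(stabilizer G a ⊓ stabilizer G b))
    (hinv : ∀ s : G, s • a = b → s • b = a → ∀ h ∈ stabilizer G a ⊓ stabilizer G b,
      s * h * s⁻¹ = h⁻¹) :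
    Nat.card N ≤ 2 * Nat.card ↥(stabilizer G a ⊓ stabilizer G b) + 1 := by
  classical
  haveI : Fintype G := Fintype.ofFinite G
  obtain ⟨D, hsemi, hexp2⟩ :=
    Cfsg.Agent.Lib.Helper54_FeitAbBridge.bridge h2 h3 hab N hNa hreg hNcomm hnorm hodd hne hinv
  exact D.card_le_core hNcomm hsemi hne hexp2

end Cfsg.Agent.Lib.Helper21_FeitAb
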