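import Mathlib

set_option autoImplicit false

namespace Cfsg.Agent.Lib.Helper56_Mobius

open Matrix OnePoint

section
variable {K : Type*} [Field K] [DecidableEq K]

/-- the Möbius action of `SL(2,K)` on the projective line as a homomorphism into the
permutation group -/
noncomputable def mob : Matrix.SpecialLinearGroup (Fin 2) K →* Equiv.Perm (OnePoint K) :=
  (MulAction.toPermHom (GL (Fin 2) K) (OnePoint K)).comp Matrix.SpecialLinearGroup.toGL

theorem mob_infty (g : Matrix.SpecialLinearGroup (Fin 2) K) :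
    mob g (∞ : OnePoint K) = if g 1 0 = 0 then ∞ else ((g 0 0 / g 1 0 : K) : OnePoint K) := by
  show (Matrix.SpecialLinearGroup.toGL g) • (∞ : OnePoint K) = _
  rw [OnePoint.smul_infty_eq_ite]
  rfl

theorem mob_coe (g : Matrix.SpecialLinearGroup (Fin 2) K) (k : K) :
    mob g (k : OnePoint K) =
      if g 1 0 * k + g 1 1 = 0 then ∞ else (((g 0 0 * k + g 0 1) / (g 1 0 * k + g 1 1) : K) : OnePoint K) := by
  show (Matrix.SpecialLinearGroup.toGL g) • (k : OnePoint K) = _
  rw [OnePoint.smul_some_eq_ite]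
  rfl

end

section
variable {K : Type*} [Field K] [DecidableEq K]

/-- the translation matrix -/
def matU : Matrix.SpecialLinearGroup (Fin 2) K :=
  ⟨!![1, 1; 0, 1], by simp [Matrix.det_fin_two]⟩

/-- the inversion matrix -/
def matW : Matrix.SpecialLinearGroup (Fin 2) K :=
  ⟨!![0, -1; 1, 0], by simp [Matrix.det_fin_two]⟩

theorem mob_matU_infty : mob (matU : Matrix.SpecialLinearGroup (Fin 2) K) ∞ = ∞ := by
  rw [mob_infty]
  simp [matU]

theorem mob_matU_coe (k : K) :
    mob (matU : Matrix.SpecialLinearGroup (Fin 2) K) (k : OnePoint K) = ((k + 1 : K) : OnePoint K) := by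
  rw [mob_coe]
  simp [matU]

theorem mob_matW_infty : mob (matW : Matrix.SpecialLinearGroup (Fin 2) K) ∞ = ((0 : K) : OnePoint K) := by
  rw [mob_infty]
  simp [matW]

theorem mob_matW_zero : mob (matW : Matrix.SpecialLinearGroup (Fin 2) K) ((0 : K) : OnePoint K) = ∞ := by
  rw [mob_coe]
  simp [matW]

theorem mob_matW_coe (k : K) (hk : k ≠ 0) :
    mob (matW : Matrix.SpecialLinearGroup (Fin 2) K) (k : OnePoint K) = ((-k⁻¹ : K) : OnePoint K) := by
  rw [mob_coe]
  simp [matW, hk, div_eq_mul_inv]

theorem mob_ker : (mob : Matrix.SpecialLinearGroup (Fin 2) K →* _).ker =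
    Subgroup.center (Matrix.SpecialLinearGroup (Fin 2) K) := by
  ext g
  rw [MonoidHom.mem_ker, Matrix.SpecialLinearGroup.mem_center_iff]
  constructor
  · intro h
    have h1 : mob g (∞ : OnePoint K) = ∞ := by rw [h]; rfl
    have h2 : mob g ((0 : K) : OnePoint K) = ((0 : K) : OnePoint K) := by rw [h]; rfl
    have h3 : mob g ((1 : K) : OnePoint K) = ((1 : K) : OnePoint K) := by rw [h]; rfl
    rw [mob_infty] at h1
    have h10 : g 1 0 = 0 := by
      by_contra hne
      rw [if_neg hne] at h1
      exact OnePoint.coe_ne_infty _ h1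
    rw [mob_coe, h10] at h2 h3
    simp only [zero_mul, zero_add, mul_zero, mul_one] at h2 h3
    have hdet : g 0 0 * g 1 1 - g 0 1 * g 1 0 = 1 := by
      have := g.2
      rwa [Matrix.det_fin_two] at this
    rw [h10, mul_zero, sub_zero] at hdet
    have h11 : g 1 1 ≠ 0 := by
      intro h
      rw [h, mul_zero] at hdet
      exact zero_ne_one hdet
    rw [if_neg h11, OnePoint.coe_eq_coe] at h2 h3
    have h01 : g 0 1 = 0 := by
      rcases div_eq_zero_iff.mp h2 with h | h
      · exact h
      · exact absurd h h11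
    have h00 : g 0 0 = g 1 1 := by
      rw [h01, add_zero, div_eq_one_iff_eq h11] at h3
      exact h3
    refine ⟨g 0 0, ?_, ?_⟩
    · rw [Fintype.card_fin, pow_two]
      rw [← h00] at hdet
      exact hdet
    · ext i j
      fin_cases i <;> fin_cases j <;> simp [Matrix.scalar, h10, h01, h00]
  · rintro ⟨r, hr, hg⟩
    rw [Fintype.card_fin] at hr
    have hr0 : r ≠ 0 := by
      intro h
      rw [h] at hr
      simp at hr
    have e00 : g 0 0 = r := by rw [← hg]; simp [Matrix.scalar]
    have e01 : g 0 1 = 0 := by rw [← hg]; simp [Matrix.scalar]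
    have e10 : g 1 0 = 0 := by rw [← hg]; simp [Matrix.scalar]
    have e11 : g 1 1 = r := by rw [← hg]; simp [Matrix.scalar]
    apply Equiv.ext
    intro z
    cases z with
    | infty =>
      rw [mob_infty, if_pos e10]
      rfl
    | coe k =>
      rw [mob_coe, e10, e00, e01, e11]
      simp [hr0]

end

section gen
variable {K : Type*} [Field K]

/-- upper unitriangular matrices -/
def matUp (b : K) : Matrix.SpecialLinearGroup (Fin 2) K :=
  ⟨!![1, b; 0, 1], by simp [Matrix.det_fin_two]⟩

/-- lower unitriangular matrices -/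
def matLo (c : K) : Matrix.SpecialLinearGroup (Fin 2) K :=
  ⟨!![1, 0; c, 1], by simp [Matrix.det_fin_two]⟩

theorem matUp_coe (b : K) : (matUp b : Matrix (Fin 2) (Fin 2) K) = !![1, b; 0, 1] := rfl
theorem matLo_coe (b : K) : (matLo b : Matrix (Fin 2) (Fin 2) K) = !![1, 0; b, 1] := rfl
theorem matW_coe [DecidableEq K] :
    ((matW : Matrix.SpecialLinearGroup (Fin 2) K) : Matrix (Fin 2) (Fin 2) K) = !![0, -1; 1, 0] := rfl
theorem matU_coe [DecidableEq K] :
    ((matU : Matrix.SpecialLinearGroup (Fin 2) K) : Matrix (Fin 2) (Fin 2) K) = !![1, 1; 0, 1] := rfl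

theorem matUp_add (a b : K) : matUp a * matUp b = matUp (a + b) := by
  ext i j
  fin_cases i <;> fin_cases j <;>
    simp [matUp_coe, Matrix.SpecialLinearGroup.coe_mul, Matrix.mul_apply, Fin.sum_univ_two, add_comm]

theorem matUp_zero : matUp (0 : K) = 1 := by
  ext i j
  fin_cases i <;> fin_cases j <;> simp [matUp_coe]

theorem matU_pow [DecidableEq K] (n : ℕ) :
    (matU : Matrix.SpecialLinearGroup (Fin 2) K) ^ n = matUp (n : K) := by
  induction n with
  | zero => simp [matUp_zero]
  | succ n ih =>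
    rw [pow_succ, ih]
    have : (matU : Matrix.SpecialLinearGroup (Fin 2) K) = matUp 1 := rfl
    rw [this, matUp_add]
    push_cast
    rfl

theorem matLo_eq [DecidableEq K] (c : K) : matLo c = matW * matUp (-c) * matW⁻¹ := by
  rw [eq_mul_inv_iff_mul_eq]
  ext i j
  fin_cases i <;> fin_cases j <;>
    simp [matUp_coe, matLo_coe, matW_coe, Matrix.SpecialLinearGroup.coe_mul, Matrix.mul_apply,
      Fin.sum_univ_two]

theorem decomp (g : Matrix.SpecialLinearGroup (Fin 2) K) (hc : g 1 0 ≠ 0) :
    g = matUp ((g 0 0 - 1) / g 1 0) * matLo (g 1 0) * matUp ((g 1 1 - 1) / g 1 0) := by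
  have hdet : g 0 0 * g 1 1 - g 0 1 * g 1 0 = 1 := by
    have := g.2
    rwa [Matrix.det_fin_two] at this
  ext i j
  fin_cases i <;> fin_cases j
  · simp [matUp_coe, matLo_coe, Matrix.SpecialLinearGroup.coe_mul, Matrix.mul_apply, Fin.sum_univ_two]
    field_simp
    ring
  · simp [matUp_coe, matLo_coe, Matrix.SpecialLinearGroup.coe_mul, Matrix.mul_apply, Fin.sum_univ_two]
    field_simp
    linear_combination (-1 : K) * hdet
  · simp [matUp_coe, matLo_coe, Matrix.SpecialLinearGroup.coe_mul, Matrix.mul_apply, Fin.sum_univ_two]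
  · simp [matUp_coe, matLo_coe, Matrix.SpecialLinearGroup.coe_mul, Matrix.mul_apply, Fin.sum_univ_two]
    field_simp
    ring

theorem closure_eq_top [DecidableEq K] :
    Subgroup.closure ({g | ∃ b : K, g = matUp b} ∪ {matW} : Set (Matrix.SpecialLinearGroup (Fin 2) K)) = ⊤ := by
  rw [eq_top_iff]
  intro g _
  set H := Subgroup.closure ({g | ∃ b : K, g = matUp b} ∪ {matW} : Set (Matrix.SpecialLinearGroup (Fin 2) K)) with hH
  have hUp : ∀ b : K, matUp b ∈ H := fun b => Subgroup.subset_closure (Or.inl ⟨b, rfl⟩)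
  have hW : (matW : Matrix.SpecialLinearGroup (Fin 2) K) ∈ H := Subgroup.subset_closure (Or.inr rfl)
  have hLo : ∀ c : K, matLo c ∈ H := by
    intro c
    rw [matLo_eq]
    exact H.mul_mem (H.mul_mem hW (hUp _)) (H.inv_mem hW)
  have key : ∀ g : Matrix.SpecialLinearGroup (Fin 2) K, g 1 0 ≠ 0 → g ∈ H := by
    intro g hc
    rw [decomp g hc]
    exact H.mul_mem (H.mul_mem (hUp _) (hLo _)) (hUp _)
  by_cases hc : g 1 0 = 0
  · have hdet : g 0 0 * g 1 1 - g 0 1 * g 1 0 = 1 := by
      have := g.2
      rwa [Matrix.det_fin_two] at this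
    have h00 : g 0 0 ≠ 0 := by
      intro h
      rw [h, hc] at hdet
      simp at hdet
    have h1 : (matW * g : Matrix.SpecialLinearGroup (Fin 2) K) 1 0 ≠ 0 := by
      have : (matW * g : Matrix.SpecialLinearGroup (Fin 2) K) 1 0 = g 0 0 := by
        simp [matW_coe, Matrix.SpecialLinearGroup.coe_mul, Matrix.mul_apply, Fin.sum_univ_two]
      rw [this]
      exact h00
    have h2 := key _ h1
    have : g = matW⁻¹ * (matW * g) := by rw [inv_mul_cancel_left]
    rw [this]
    exact H.mul_mem (H.inv_mem hW) h2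
  · exact key g hc

end gen

section zmod
variable (p : ℕ) [Fact p.Prime]

theorem closure_zmod_eq_top :
    Subgroup.closure ({matU, matW} : Set (Matrix.SpecialLinearGroup (Fin 2) (ZMod p))) = ⊤ := by
  rw [eq_top_iff, ← closure_eq_top, Subgroup.closure_le]
  rintro g (⟨b, rfl⟩ | hg)
  · have : matUp b = (matU : Matrix.SpecialLinearGroup (Fin 2) (ZMod p)) ^ b.val := by
      rw [matU_pow, ZMod.natCast_zmod_val]
    rw [this]
    exact Subgroup.pow_mem _ (Subgroup.subset_closure (by simp)) _
  · rw [Set.mem_singleton_iff] at hg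
    rw [hg]
    exact Subgroup.subset_closure (by simp)

end zmod

end Cfsg.Agent.Lib.Helper56_Mobius
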