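import Mathlib
import Cfsg.Agent.Lib.Helper35_PSL2Card
import Cfsg.Agent.Lib.Helper56_Mobius

set_option autoImplicit false

namespace Cfsg.Agent.Lib.Helper56_MobiusIso

open Matrix OnePoint Cfsg.Agent.Lib.Helper56_Mobius

section
variable (p : ℕ) [Fact p.Prime]

theorem two_ne_zero_zmod (hp2 : p ≠ 2) : (2 : ZMod p) ≠ 0 := by
  intro h
  have h2 : ((2 : ℕ) : ZMod p) = 0 := by exact_mod_cast h
  rw [ZMod.natCast_eq_zero_iff] at h2
  have hp : p.Prime := Fact.out
  exact hp2 ((Nat.prime_dvd_prime_iff_eq hp Nat.prime_two).mp h2)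

theorem card_range_mob (hp2 : p ≠ 2) :
    Nat.card (mob (K := ZMod p)).range * 2 * (p - 1) = (p ^ 2 - 1) * (p ^ 2 - p) := by
  have h1 := Cfsg.Agent.Lib.Helper35_PSL2Card.card_SL2_mul (F := ZMod p)
  have h2 := Cfsg.Agent.Lib.Helper35_PSL2Card.card_SL2_eq_card_PSL2_mul (F := ZMod p)
  have h3 := Cfsg.Agent.Lib.Helper35_PSL2Card.card_center_SL2 (F := ZMod p)
  have h4 := Cfsg.Agent.Lib.Helper35_PSL2Card.card_rootsOfUnity_two_of_ne (F := ZMod p)
    (two_ne_zero_zmod p hp2)
  rw [ZMod.card] at h1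
  have h5 : Nat.card (mob (K := ZMod p)).range =
      Nat.card (Matrix.ProjectiveSpecialLinearGroup (Fin 2) (ZMod p)) := by
    have e1 := QuotientGroup.quotientKerEquivRange (mob (K := ZMod p))
    have e2 : Matrix.SpecialLinearGroup (Fin 2) (ZMod p) ⧸ (mob (K := ZMod p)).ker ≃*
        Matrix.ProjectiveSpecialLinearGroup (Fin 2) (ZMod p) :=
      QuotientGroup.quotientMulEquivOfEq mob_ker
    exact Nat.card_congr (e1.symm.trans e2).toEquiv
  rw [h3, h4] at h2
  rw [h5, ← h2, h1]

theorem iso_psl_of_perm {G : Type*} [Group G] [Finite G] (hp2 : p ≠ 2)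
    (ρ : G →* Equiv.Perm (OnePoint (ZMod p))) (hρ : Function.Injective ρ)
    (hX : mob (matU : Matrix.SpecialLinearGroup (Fin 2) (ZMod p)) ∈ ρ.range)
    (hW : mob (matW : Matrix.SpecialLinearGroup (Fin 2) (ZMod p)) ∈ ρ.range)
    (hcard : Nat.card G * 2 * (p - 1) = (p ^ 2 - 1) * (p ^ 2 - p)) :
    Nonempty (G ≃* Matrix.ProjectiveSpecialLinearGroup (Fin 2) (ZMod p)) := by
  have hle : (mob (K := ZMod p)).range ≤ ρ.range := by
    rw [MonoidHom.range_eq_map, ← closure_zmod_eq_top p, MonoidHom.map_closure, Subgroup.closure_le]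
    rintro _ ⟨g, hg, rfl⟩
    rcases hg with rfl | hg
    · exact hX
    · rw [Set.mem_singleton_iff] at hg
      rw [hg]
      exact hW
  have hcardρ : Nat.card ρ.range = Nat.card G :=
    (Nat.card_congr (MonoidHom.ofInjective hρ).toEquiv).symm
  have hp : p.Prime := Fact.out
  have hp1 : 0 < p - 1 := by have := hp.two_le; omega
  have hcm := card_range_mob p hp2
  have hceq : Nat.card ρ.range = Nat.card (mob (K := ZMod p)).range := by
    rw [hcardρ]
    have : Nat.card G * 2 * (p - 1) = Nat.card (mob (K := ZMod p)).range * 2 * (p - 1) := by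
      rw [hcard, hcm]
    have h2 := Nat.eq_of_mul_eq_mul_right hp1 this
    omega
  have heq : (mob (K := ZMod p)).range = ρ.range :=
    Subgroup.eq_of_le_of_card_ge hle (le_of_eq hceq)
  have e0 : G ≃* ρ.range := MonoidHom.ofInjective hρ
  have e1 : ρ.range ≃* (mob (K := ZMod p)).range := MulEquiv.subgroupCongr heq.symm
  have e2 := QuotientGroup.quotientKerEquivRange (mob (K := ZMod p))
  have e3 : Matrix.SpecialLinearGroup (Fin 2) (ZMod p) ⧸ (mob (K := ZMod p)).ker ≃*
      Matrix.ProjectiveSpecialLinearGroup (Fin 2) (ZMod p) :=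
    QuotientGroup.quotientMulEquivOfEq mob_ker
  exact ⟨((e0.trans e1).trans e2.symm).trans e3⟩

end

section transfer

/-- `SL(2, -)` of isomorphic rings -/
def slCongr {R S : Type*} [CommRing R] [CommRing S] (e : R ≃+* S) :
    Matrix.SpecialLinearGroup (Fin 2) R ≃* Matrix.SpecialLinearGroup (Fin 2) S where
  toFun := Matrix.SpecialLinearGroup.map e.toRingHom
  invFun := Matrix.SpecialLinearGroup.map e.symm.toRingHom
  left_inv := by
    intro A
    ext i j
    simp
  right_inv := by
    intro A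
    ext i j
    simp
  map_mul' := by
    intro A B
    exact map_mul _ A B

theorem psl_congr {R S : Type*} [CommRing R] [CommRing S] (e : R ≃+* S) :
    Nonempty (Matrix.ProjectiveSpecialLinearGroup (Fin 2) R ≃*
      Matrix.ProjectiveSpecialLinearGroup (Fin 2) S) := by
  refine ⟨QuotientGroup.congr _ _ (slCongr e) ?_⟩
  apply le_antisymm
  · rintro _ ⟨z, hz, rfl⟩
    have hz := Subgroup.mem_center_iff.mp hz
    rw [Subgroup.mem_center_iff]
    intro g
    obtain ⟨g', rfl⟩ := (slCongr e).surjective g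
    show (slCongr e) g' * (slCongr e) z = (slCongr e) z * (slCongr e) g'
    rw [← map_mul, ← map_mul, hz g']
  · intro z hz
    refine ⟨(slCongr e).symm z, ?_, by simp⟩
    have hz := Subgroup.mem_center_iff.mp hz
    show _ ∈ Subgroup.center _
    rw [Subgroup.mem_center_iff]
    intro g
    apply (slCongr e).injective
    rw [map_mul, map_mul, MulEquiv.apply_symm_apply, hz]

theorem psl_zmod_iso {F : Type*} [Field F] [Fintype F] (p : ℕ) [Fact p.Prime]
    (hF : Fintype.card F = p) :
    Nonempty (Matrix.ProjectiveSpecialLinearGroup (Fin 2) (ZMod p) ≃*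
      Matrix.ProjectiveSpecialLinearGroup (Fin 2) F) :=
  psl_congr (ZMod.ringEquivOfPrime F Fact.out hF)

end transfer

end Cfsg.Agent.Lib.Helper56_MobiusIso
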