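import Mathlib

/-!
# Transitive groups of degree `p + 1` and order `(p + 1) p d`, `d < p` (helper59)

Part A: the point stabiliser contains a cyclic subgroup `N` of order `p`, regular on the other
points and normal in the stabiliser; no non-identity element fixes three points; the group is
doubly transitive and the two-point stabilisers have order `d`.
-/

set_option autoImplicit false

namespace Cfsg.Agent.Lib.Helper59_PrimeDeg

open MulAction

universe u v

variable {Γ : Type u} {Ω : Type v} [Group Γ] [MulAction Γ Ω]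

/-- the standing hypotheses -/
structure Hyp (Γ : Type u) (Ω : Type v) [Group Γ] [MulAction Γ Ω] (p d : ℕ) : Prop where
  faithful : FaithfulSMul Γ Ω
  trans : IsPretransitive Γ Ω
  prime : p.Prime
  cardΩ : Nat.card Ω = p + 1
  cardΓ : Nat.card Γ = (p + 1) * p * d
  lt : d < p

variable {p d : ℕ}

theorem Hyp.d_pos [Finite Γ] (h : Hyp Γ Ω p d) : 0 < d := by
  rcases Nat.eq_zero_or_pos d with h0 | h0
  · have := h.cardΓ
    rw [h0, mul_zero] at this
    have hpos : 0 < Nat.card Γ := Nat.card_pos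
    omega
  · exact h0

theorem Hyp.card_stabilizer [Finite Γ] (h : Hyp Γ Ω p d) (a : Ω) :
    Nat.card (stabilizer Γ a) = p * d := by
  have := h.trans
  have h1 := index_stabilizer_of_transitive Γ a
  have h2 := Subgroup.card_mul_index (stabilizer Γ a)
  rw [h1, h.cardΩ, h.cardΓ] at h2
  have : Nat.card (stabilizer Γ a) * (p + 1) = (p * d) * (p + 1) := by rw [h2]; ring
  exact Nat.eq_of_mul_eq_mul_right (Nat.succ_pos p) this

/-- the number of points other than `a` -/
theorem card_compl [Finite Ω] (h : Hyp Γ Ω p d) (a : Ω) :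
    Nat.card {y : Ω // y ≠ a} = p := by
  classical
  have hfin : Fintype Ω := Fintype.ofFinite Ω
  have := h.cardΩ
  rw [Nat.card_eq_fintype_card] at this ⊢
  rw [Fintype.card_subtype_compl, Fintype.card_subtype_eq]
  omega

/-- in a cyclic group of prime order every non-identity element generates -/
theorem mem_zpowers_of_prime {w x : Γ} (hp : p.Prime) (hw : orderOf w = p)
    (hx : x ∈ Subgroup.zpowers w) (hx1 : x ≠ 1) : w ∈ Subgroup.zpowers x := by
  have hpf : Fact p.Prime := ⟨hp⟩
  have hcard : Nat.card (Subgroup.zpowers w) = p := by rw [Nat.card_zpowers, hw]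
  have h1 : Subgroup.zpowers (⟨x, hx⟩ : Subgroup.zpowers w) = ⊤ :=
    zpowers_eq_top_of_prime_card hcard (fun e => hx1 (congrArg Subtype.val e))
  have h2 : (⟨w, Subgroup.mem_zpowers w⟩ : Subgroup.zpowers w) ∈
      Subgroup.zpowers (⟨x, hx⟩ : Subgroup.zpowers w) := by rw [h1]; trivial
  obtain ⟨k, hk⟩ := Subgroup.mem_zpowers_iff.1 h2
  rw [Subgroup.mem_zpowers_iff]
  refine ⟨k, ?_⟩
  have := congrArg Subtype.val hk
  simpa using this

/-- **the kernel**: a subgroup of order `p` of the point stabiliser, regular on the other points and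
normalised by the stabiliser -/
theorem exists_kernel [Finite Γ] [Finite Ω] (h : Hyp Γ Ω p d) (a : Ω) :
    ∃ N : Subgroup Γ, N ≤ stabilizer Γ a ∧ Nat.card N = p ∧
      (∀ g ∈ stabilizer Γ a, ∀ n ∈ N, g * n * g⁻¹ ∈ N) ∧
      (∀ y z : Ω, y ≠ a → z ≠ a → ∃! u : N, (u : Γ) • y = z) := by
  classical
  have hfaith := h.faithful
  have hpf : Fact p.Prime := ⟨h.prime⟩
  have hcs := h.card_stabilizer a
  obtain ⟨u, hu⟩ := exists_prime_orderOf_dvd_card' (G := stabilizer Γ a) p
    (by rw [hcs]; exact dvd_mul_right p d)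
  have hu' : orderOf (u : Γ) = p := by rw [Subgroup.orderOf_coe]; exact hu
  set N : Subgroup Γ := Subgroup.zpowers (u : Γ) with hN
  have hNcard : Nat.card N = p := by rw [hN, Nat.card_zpowers, hu']
  have hNa : N ≤ stabilizer Γ a := by
    rw [hN, Subgroup.zpowers_le]
    exact u.2
  have hNfix : ∀ n ∈ N, n • a = a := fun n hn => mem_stabilizer_iff.1 (hNa hn)
  have hu1 : (u : Γ) ≠ 1 := by
    intro h1
    rw [h1, orderOf_one] at hu'
    exact h.prime.one_lt.ne hu'
  -- a point moved by `u`
  obtain ⟨c, hc⟩ : ∃ c : Ω, (u : Γ) • c ≠ c := by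
    by_contra hcon
    push Not at hcon
    apply hu1
    apply FaithfulSMul.eq_of_smul_eq_smul (α := Ω)
    intro x
    rw [hcon x, one_smul]
  have hca : c ≠ a := by
    rintro rfl
    exact hc (mem_stabilizer_iff.1 u.2)
  -- no non-identity element of `N` fixes `c`
  have hstab : ∀ n ∈ N, n • c = c → n = 1 := by
    intro n hn hnc
    by_contra hn1
    have hmem := mem_zpowers_of_prime h.prime hu' hn hn1
    have hle : Subgroup.zpowers n ≤ stabilizer Γ c := by
      rw [Subgroup.zpowers_le]
      exact mem_stabilizer_iff.2 hnc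
    exact hc (mem_stabilizer_iff.1 (hle hmem))
  -- the orbit map is a bijection onto the other points
  have hNc : ∀ n ∈ N, n • c ≠ a := by
    intro n hn hnc
    apply hca
    have : n • c = n • a := by rw [hnc, hNfix n hn]
    exact smul_left_cancel n this
  let f : N → {y : Ω // y ≠ a} := fun n => ⟨(n : Γ) • c, hNc n n.2⟩
  have hfinj : Function.Injective f := by
    intro n m hnm
    have h1 : (n : Γ) • c = (m : Γ) • c := congrArg Subtype.val hnm
    have h2 : ((m : Γ)⁻¹ * (n : Γ)) • c = c := by rw [mul_smul, h1, inv_smul_smul]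
    have h3 := hstab _ (N.mul_mem (N.inv_mem m.2) n.2) h2
    apply Subtype.ext
    calc (n : Γ) = (m : Γ) * ((m : Γ)⁻¹ * (n : Γ)) := by group
      _ = (m : Γ) := by rw [h3, mul_one]
  have hfbij : Function.Bijective f :=
    hfinj.bijective_of_nat_card_le (by rw [card_compl h a, hNcard])
  have hsurj : ∀ y : Ω, y ≠ a → ∃ n ∈ N, n • c = y := by
    intro y hy
    obtain ⟨n, hn⟩ := hfbij.2 ⟨y, hy⟩
    exact ⟨n, n.2, congrArg Subtype.val hn⟩
  refine ⟨N, hNa, hNcard, ?_, ?_⟩
  · -- normalised by the stabiliser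
    have key : ∀ g ∈ stabilizer Γ a, g * (u : Γ) * g⁻¹ ∈ N := by
      intro g hg
      by_contra hnot
      set w : Γ := g * (u : Γ) * g⁻¹ with hw
      have hwo : orderOf w = p := by
        rw [hw, ← hu']
        have : g * (u : Γ) * g⁻¹ = MulAut.conj g (u : Γ) := by simp [MulAut.conj_apply]
        rw [this, MulEquiv.orderOf_eq]
      have hwa : Subgroup.zpowers w ≤ stabilizer Γ a := by
        rw [Subgroup.zpowers_le, hw]
        exact (stabilizer Γ a).mul_mem ((stabilizer Γ a).mul_mem hg u.2)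
          ((stabilizer Γ a).inv_mem hg)
      have hdisj : Disjoint N (Subgroup.zpowers w) := by
        rw [Subgroup.disjoint_def]
        intro x hxN hxw
        by_contra hx1
        have := mem_zpowers_of_prime h.prime hwo hxw hx1
        apply hnot
        have hle : Subgroup.zpowers x ≤ N := by
          rw [Subgroup.zpowers_le]; exact hxN
        exact hle this
      have hinj := Subgroup.mul_injective_of_disjoint hdisj
      let F : N × Subgroup.zpowers w → stabilizer Γ a :=
        fun z => ⟨(z.1 : Γ) * (z.2 : Γ), (stabilizer Γ a).mul_mem (hNa z.1.2) (hwa z.2.2)⟩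
      have hFinj : Function.Injective F := by
        intro z z' hz
        apply hinj
        exact congrArg Subtype.val hz
      have hle := Nat.card_le_card_of_injective F hFinj
      rw [Nat.card_prod, hNcard, Nat.card_zpowers, hwo, hcs] at hle
      have := Nat.le_of_mul_le_mul_left hle h.prime.pos
      have := h.lt
      omega
    intro g hg n hn
    obtain ⟨k, rfl⟩ := Subgroup.mem_zpowers_iff.1 hn
    have : g * (u : Γ) ^ k * g⁻¹ = (g * (u : Γ) * g⁻¹) ^ k := by
      rw [conj_zpow]
    rw [this]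
    exact N.zpow_mem (key g hg) k
  · intro y z hy hz
    obtain ⟨ny, hny, hnyc⟩ := hsurj y hy
    obtain ⟨nz, hnz, hnzc⟩ := hsurj z hz
    refine ⟨⟨nz * ny⁻¹, N.mul_mem hnz (N.inv_mem hny)⟩, ?_, ?_⟩
    · show (nz * ny⁻¹) • y = z
      rw [mul_smul, ← hnyc, inv_smul_smul, hnzc]
    · rintro ⟨w, hw⟩ hwy
      have hwy' : w • y = z := hwy
      apply Subtype.ext
      show w = nz * ny⁻¹
      have h2 : (nz⁻¹ * w * ny) • c = c := by
        rw [mul_smul, mul_smul, hnyc, hwy', ← hnzc, inv_smul_smul]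
      have h3 := hstab _ (N.mul_mem (N.mul_mem (N.inv_mem hnz) hw) hny) h2
      calc w = nz * (nz⁻¹ * w * ny) * ny⁻¹ := by group
        _ = nz * ny⁻¹ := by rw [h3, mul_one]

/-- no non-identity element fixes three points -/
theorem three_fix [Finite Γ] [Finite Ω] (h : Hyp Γ Ω p d) :
    ∀ g : Γ, ∀ a b c : Ω, a ≠ b → b ≠ c → a ≠ c → g • a = a → g • b = b → g • c = c →
      g = 1 := by
  intro g a b c hab hbc hac hga hgb hgc
  have hfaith := h.faithful
  have hpf : Fact p.Prime := ⟨h.prime⟩
  obtain ⟨N, hNa, hNcard, hNnorm, hreg⟩ := exists_kernel h a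
  obtain ⟨n₀, hn₀, hn₀uniq⟩ := hreg b c hab.symm hac.symm
  have hn₀1 : (n₀ : Γ) ≠ 1 := by
    intro h1
    rw [h1, one_smul] at hn₀
    exact hbc hn₀
  have hgstab : g ∈ stabilizer Γ a := mem_stabilizer_iff.2 hga
  have hconj : g * (n₀ : Γ) * g⁻¹ = (n₀ : Γ) := by
    have hmem := hNnorm g hgstab n₀ n₀.2
    have h1 : (g * (n₀ : Γ) * g⁻¹) • b = c := by
      rw [mul_smul, mul_smul, inv_smul_eq_iff.2 hgb.symm, hn₀, hgc]
    have := hn₀uniq ⟨_, hmem⟩ h1
    exact congrArg Subtype.val this
  have hcomm₀ : Commute g (n₀ : Γ) := by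
    have : g * (n₀ : Γ) = (n₀ : Γ) * g := by
      calc g * (n₀ : Γ) = (g * (n₀ : Γ) * g⁻¹) * g := by group
        _ = (n₀ : Γ) * g := by rw [hconj]
    exact this
  have hcomm : ∀ n ∈ N, g * n = n * g := by
    intro n hn
    have h1 : Subgroup.zpowers n₀ = ⊤ :=
      zpowers_eq_top_of_prime_card hNcard (fun e => hn₀1 (congrArg Subtype.val e))
    have h2 : (⟨n, hn⟩ : N) ∈ Subgroup.zpowers n₀ := by rw [h1]; trivial
    obtain ⟨k, hk⟩ := Subgroup.mem_zpowers_iff.1 h2
    have hk' : (n₀ : Γ) ^ k = n := by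
      have := congrArg Subtype.val hk
      simpa using this
    rw [← hk']
    exact (hcomm₀.zpow_right k).eq
  apply FaithfulSMul.eq_of_smul_eq_smul (α := Ω)
  intro y
  rw [one_smul]
  by_cases hy : y = a
  · rw [hy, hga]
  · obtain ⟨n, hn, _⟩ := hreg b y hab.symm hy
    rw [← hn, ← mul_smul, hcomm n n.2, mul_smul, hgb]

/-- the group is doubly transitive -/
theorem two_trans [Finite Γ] [Finite Ω] (h : Hyp Γ Ω p d) {a b c e : Ω} (hab : a ≠ b)
    (hce : c ≠ e) : ∃ g : Γ, g • a = c ∧ g • b = e := by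
  have := h.trans
  obtain ⟨g₁, hg₁⟩ := exists_smul_eq Γ a c
  obtain ⟨N, hNa, _, _, hreg⟩ := exists_kernel h c
  have h1 : g₁ • b ≠ c := by
    intro hh
    apply hab
    rw [← hg₁] at hh
    exact (smul_left_cancel _ hh).symm
  obtain ⟨n, hn, _⟩ := hreg (g₁ • b) e h1 hce.symm
  refine ⟨(n : Γ) * g₁, ?_, ?_⟩
  · rw [mul_smul, hg₁]
    exact mem_stabilizer_iff.1 (hNa n.2)
  · rw [mul_smul, hn]

theorem isMultiplyPretransitive_two [Finite Γ] [Finite Ω] (h : Hyp Γ Ω p d) :
    IsMultiplyPretransitive Γ Ω 2 := by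
  rw [is_two_pretransitive_iff]
  intro a b c e hab hce
  exact two_trans h hab hce

/-- the two-point stabilisers have order `d` -/
theorem card_two_stab [Finite Γ] [Finite Ω] (h : Hyp Γ Ω p d) {a b : Ω} (hab : a ≠ b) :
    Nat.card ↥(stabilizer Γ a ⊓ stabilizer Γ b) = d := by
  obtain ⟨N, hNa, hNcard, _, hreg⟩ := exists_kernel h a
  set H : Subgroup Γ := stabilizer Γ a ⊓ stabilizer Γ b with hH
  have hmemH : ∀ x : Γ, x ∈ H ↔ x • a = a ∧ x • b = b := by
    intro x; simp [hH, Subgroup.mem_inf, mem_stabilizer_iff]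
  let F : N × H → stabilizer Γ a := fun z => ⟨(z.1 : Γ) * (z.2 : Γ),
    (stabilizer Γ a).mul_mem (hNa z.1.2) (Subgroup.mem_inf.1 z.2.2).1⟩
  have hFbij : Function.Bijective F := by
    constructor
    · rintro ⟨n, x⟩ ⟨n', x'⟩ hz
      have h1 : (n : Γ) * (x : Γ) = (n' : Γ) * (x' : Γ) := congrArg Subtype.val hz
      have hxb : (x : Γ) • b = b := ((hmemH _).1 x.2).2
      have hx'b : (x' : Γ) • b = b := ((hmemH _).1 x'.2).2
      have h2 : (n : Γ) • b = (n' : Γ) • b := by
        have := congrArg (fun g : Γ => g • b) h1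
        simp only [mul_smul, hxb, hx'b] at this
        exact this
      obtain ⟨w, _, hwuniq⟩ := hreg b ((n' : Γ) • b) hab.symm (by
        intro hh
        apply hab
        have : (n' : Γ) • b = (n' : Γ) • a := by
          rw [hh, mem_stabilizer_iff.1 (hNa n'.2)]
        exact (smul_left_cancel _ this).symm)
      have e1 := hwuniq n h2
      have e2 := hwuniq n' rfl
      have hnn' : n = n' := e1.trans e2.symm
      subst hnn'
      have hxx' : (x : Γ) = (x' : Γ) := mul_left_cancel h1
      rw [Prod.mk.injEq]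
      exact ⟨rfl, Subtype.ext hxx'⟩
    · rintro ⟨g, hg⟩
      have hga : g • a = a := mem_stabilizer_iff.1 hg
      have hgb : g • b ≠ a := by
        intro hh
        apply hab
        have : g • b = g • a := by rw [hh, hga]
        exact (smul_left_cancel _ this).symm
      obtain ⟨n, hn, _⟩ := hreg b (g • b) hab.symm hgb
      have hna : (n : Γ) • a = a := mem_stabilizer_iff.1 (hNa n.2)
      have hx : (n : Γ)⁻¹ * g ∈ H := by
        rw [hmemH]
        constructor
        · rw [mul_smul, hga, inv_smul_eq_iff, hna]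
        · rw [mul_smul, inv_smul_eq_iff, hn]
      refine ⟨(n, ⟨_, hx⟩), ?_⟩
      apply Subtype.ext
      show (n : Γ) * ((n : Γ)⁻¹ * g) = g
      group
  have hcard := Nat.card_congr (Equiv.ofBijective F hFbij)
  rw [Nat.card_prod, hNcard, h.card_stabilizer a] at hcard
  exact Nat.eq_of_mul_eq_mul_left h.prime.pos hcard

end Cfsg.Agent.Lib.Helper59_PrimeDeg
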