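import Mathlib
import Cfsg.Agent.S0741
import Cfsg.Agent.Lib.Helper59_SharpTrans
import Cfsg.Agent.Lib.Helper35_PSL2Card
import Cfsg.Agent.Lib.Helper56_Mobius

/-!
# Zassenhaus' identification of `PSL(2, q)` (helper59)

A doubly transitive group `G` on `Ω` in which only the identity fixes three points, whose point
stabiliser is `N ⋊ H` with `N` abelian and regular on the other points, `|N| = 2|H| + 1`, and in
which some involution swapping `a`, `b` inverts `H = G_{ab}`, is isomorphic to `PSL(2, K)` for a
field `K` with `|K| = |N|`.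

* `swap_sq_eq_one`: equality case of the involution count (every element swapping `a` and `b` is
  an involution when `|H|` is even and `2|H| ≤ n - 1`).
* `exists_field_of_irreducible`: the field generated by a commuting irreducible family.
* `coords_exist`: field coordinates on `Ω`.
* `exists_inversion`: the structure equation, `t` acts as `x ↦ c / x`.
* `iso_psl_of_coords`: recognition of `PSL(2, K)` from translations and the inversion.
* `psl_of_data`: the assembled theorem.
-/

set_option autoImplicit false

namespace Cfsg.Agent.Lib.Helper59_ZassPSL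

universe u v w

section inS

variable {K : Type*} [Field K]

/-- membership of a field element in a subgroup of the units -/
def InS (S : Subgroup Kˣ) (x : K) : Prop := ∃ s ∈ S, (s : K) = x

variable {S : Subgroup Kˣ}

theorem InS.ne_zero {x : K} (h : InS S x) : x ≠ 0 := by
  obtain ⟨s, _, rfl⟩ := h; exact s.ne_zero

theorem inS_one : InS S (1 : K) := ⟨1, S.one_mem, rfl⟩

theorem InS.mul {x y : K} (hx : InS S x) (hy : InS S y) : InS S (x * y) := by
  obtain ⟨s, hs, rfl⟩ := hx; obtain ⟨r, hr, rfl⟩ := hy
  exact ⟨s * r, S.mul_mem hs hr, by simp⟩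

theorem InS.inv {x : K} (hx : InS S x) : InS S x⁻¹ := by
  obtain ⟨s, hs, rfl⟩ := hx
  exact ⟨s⁻¹, S.inv_mem hs, by simp⟩

theorem inS_iff {x : K} (hx : x ≠ 0) : InS S x ↔ Units.mk0 x hx ∈ S := by
  constructor
  · rintro ⟨s, hs, hsx⟩
    have : Units.mk0 x hx = s := Units.ext (by simp [hsx])
    rw [this]; exact hs
  · intro h
    exact ⟨Units.mk0 x hx, h, rfl⟩

theorem inS_mul_of_not (h2 : S.index = 2) {x y : K} (hx0 : x ≠ 0) (hy0 : y ≠ 0)
    (hx : ¬ InS S x) (hy : ¬ InS S y) : InS S (x * y) := by
  rw [inS_iff hx0] at hx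
  rw [inS_iff hy0] at hy
  rw [inS_iff (mul_ne_zero hx0 hy0)]
  have : Units.mk0 (x * y) (mul_ne_zero hx0 hy0) = Units.mk0 x hx0 * Units.mk0 y hy0 :=
    Units.ext (by simp)
  rw [this, Subgroup.mul_mem_iff_of_index_two h2]
  exact ⟨fun h => absurd h hx, fun h => absurd h hy⟩

theorem not_inS_mul {x y : K} (hx : InS S x) (hy : ¬ InS S y) : ¬ InS S (x * y) := by
  intro h
  apply hy
  have := hx.inv.mul h
  rwa [← mul_assoc, inv_mul_cancel₀ hx.ne_zero, one_mul] at this

theorem not_inS_inv {x : K} (hx : ¬ InS S x) : ¬ InS S x⁻¹ := by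
  intro h
  apply hx
  have := h.inv
  rwa [inv_inv] at this

end inS


section partIII

variable {G Ω K : Type*} [Group G] [MulAction G Ω] [Field K]

/-- counting lemma: a subgroup `S` of index `2` in the units of a finite field contains some `y`
with `y + 1` a nonzero element outside `S` (provided `-1 ∈ S`) -/
theorem exists_inS_add_one_not [Finite K] (S : Subgroup Kˣ) (hS2 : S.index = 2)
    (hneg : InS S (-1 : K)) :
    ∃ y : K, InS S y ∧ y + 1 ≠ 0 ∧ ¬ InS S (y + 1) := by
  classical
  by_contra hcon
  push Not at hcon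
  have hcl : ∀ y : K, InS S y → y + 1 = 0 ∨ InS S (y + 1) := by
    intro y hy
    by_cases h : y + 1 = 0
    · exact Or.inl h
    · exact Or.inr (hcon y hy h)
  -- the additive subgroup `S ∪ {0}`
  let A : AddSubgroup K :=
    { carrier := {x | x = 0 ∨ InS S x}
      zero_mem' := Or.inl rfl
      add_mem' := by
        rintro u v (rfl | hu) (rfl | hv)
        · left; simp
        · right; simpa using hv
        · right; simpa using hu
        · have hv0 := hv.ne_zero
          have h1 : InS S (u * v⁻¹) := hu.mul hv.inv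
          rcases hcl _ h1 with h | h
          · left
            have : u + v = (u * v⁻¹ + 1) * v := by field_simp
            rw [this, h, zero_mul]
          · right
            have : u + v = (u * v⁻¹ + 1) * v := by field_simp
            rw [this]
            exact h.mul hv
      neg_mem' := by
        rintro u (rfl | hu)
        · left; simp
        · right
          have := hneg.mul hu
          simpa using this }
  have hAcard : Nat.card A = Nat.card S + 1 := by
    have e : A ≃ Option S :=
      { toFun := fun x => if h : (x : K) = 0 then none else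
          some ⟨Units.mk0 (x : K) h, by
            have := x.2
            rcases this with h0 | h1
            · exact absurd h0 h
            · exact (inS_iff h).1 h1⟩
        invFun := fun o => match o with
          | none => ⟨0, Or.inl rfl⟩
          | some s => ⟨((s : Kˣ) : K), Or.inr ⟨s, s.2, rfl⟩⟩
        left_inv := by
          intro x
          by_cases h : (x : K) = 0
          · simp only [h, dif_pos]
            exact Subtype.ext h.symm
          · simp only [h, dif_neg, not_false_eq_true]
            exact Subtype.ext rfl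
        right_inv := by
          intro o
          cases o with
          | none => simp
          | some s =>
            have h : ((s : Kˣ) : K) ≠ 0 := (s : Kˣ).ne_zero
            simp only [h, dif_neg, not_false_eq_true]
            congr 1
            exact Subtype.ext (Units.ext rfl) }
    rw [Nat.card_congr e]
    have := Fintype.ofFinite S
    rw [Nat.card_eq_fintype_card, Fintype.card_option, ← Nat.card_eq_fintype_card]
  have hKcard : Nat.card K = 2 * Nat.card S + 1 := by
    have h1 : Nat.card Kˣ = Nat.card S * 2 := by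
      rw [← hS2]; exact (Subgroup.card_mul_index S).symm
    have h2 : Nat.card Kˣ = Nat.card K - 1 := by
      have := Fintype.ofFinite K
      rw [Nat.card_eq_fintype_card, Nat.card_eq_fintype_card, Fintype.card_units]
    have h3 : 0 < Nat.card K := Nat.card_pos
    omega
  have hdvd : Nat.card A ∣ Nat.card K := AddSubgroup.card_addSubgroup_dvd_card A
  rw [hAcard, hKcard] at hdvd
  have h4 : Nat.card S + 1 ∣ 1 := by
    have h5 : Nat.card S + 1 ∣ 2 * (Nat.card S + 1) := Dvd.intro_left 2 rfl
    have h6 : 2 * (Nat.card S + 1) = (2 * Nat.card S + 1) + 1 := by ring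
    rw [h6] at h5
    exact (Nat.dvd_add_right hdvd).1 h5
  have h7 : 0 < Nat.card S := Nat.card_pos
  have := Nat.le_of_dvd one_pos h4
  omega


/-- **The structure equation**: in coordinates where the stabiliser of `∞` consists of the maps
`x ↦ s x + b` (`s ∈ S`, a subgroup of index two of the units), an involution `t` swapping `0`
and `∞` that inverts the multiplications acts as `x ↦ c / x`, and some element acts as
`x ↦ -1/x`. -/
theorem exists_inversion [Finite K]
    (inf : Ω) (P : K → Ω) (hPinj : Function.Injective P) (hPinf : ∀ x, P x ≠ inf)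
    (hcover : ∀ w : Ω, w = inf ∨ ∃ x, w = P x)
    (S : Subgroup Kˣ) (hS2 : S.index = 2)
    (hT : ∀ c : K, ∃ g : G, g • inf = inf ∧ ∀ x, g • P x = P (x + c))
    (hM : ∀ s ∈ S, ∃ g : G, g • inf = inf ∧ ∀ x, g • P x = P ((s : K) * x))
    (hStab : ∀ g : G, g • inf = inf → g • P 0 = P 0 →
      ∃ s ∈ S, ∀ x, g • P x = P ((s : K) * x))
    (t : G) (ht1 : t • inf = P 0) (ht2 : t • P 0 = inf) (htt : t * t = 1)
    (hτS : ∀ s ∈ S, ∀ x y : K, t • P x = P y →
      t • P ((s : K) * x) = P (((s⁻¹ : Kˣ) : K) * y)) :
    ∃ g : G, g • inf = P 0 ∧ g • P 0 = inf ∧ ∀ x : K, x ≠ 0 → g • P x = P (-x⁻¹) := by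
  classical
  -- the map `τ` induced by `t` on the nonzero elements
  have hex : ∀ x : K, ∃ y : K, x ≠ 0 → (y ≠ 0 ∧ t • P x = P y) := by
    intro x
    by_cases hx : x = 0
    · exact ⟨0, fun h => absurd hx h⟩
    · rcases hcover (t • P x) with h | ⟨y, hy⟩
      · exfalso
        rw [← ht2] at h
        exact hx (hPinj (MulAction.injective t h))
      · refine ⟨y, fun _ => ⟨?_, hy⟩⟩
        rintro rfl
        rw [← ht1] at hy
        exact hPinf x (MulAction.injective t hy)
  choose τ hτ using hex
  have τ0 : ∀ x, x ≠ 0 → τ x ≠ 0 := fun x hx => (hτ x hx).1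
  have τP : ∀ x, x ≠ 0 → t • P x = P (τ x) := fun x hx => (hτ x hx).2
  have ττ : ∀ x, x ≠ 0 → τ (τ x) = x := by
    intro x hx
    apply hPinj
    rw [← τP _ (τ0 x hx), ← τP x hx, ← mul_smul, htt, one_smul]
  have τinj : ∀ x y, x ≠ 0 → y ≠ 0 → τ x = τ y → x = y := by
    intro x y hx hy h
    rw [← ττ x hx, ← ττ y hy, h]
  have τS : ∀ s ∈ S, ∀ x, x ≠ 0 → τ ((s : K) * x) = (s : K)⁻¹ * τ x := by
    intro s hs x hx
    apply hPinj
    rw [← τP _ (mul_ne_zero s.ne_zero hx), ← Units.val_inv_eq_inv_val]
    exact hτS s hs x (τ x) (τP x hx)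
  -- the constants
  set c := τ 1 with hc
  have hc0 : c ≠ 0 := τ0 1 one_ne_zero
  have τ_in : ∀ x, InS S x → τ x = c / x := by
    rintro x ⟨s, hs, rfl⟩
    have := τS s hs 1 one_ne_zero
    rw [mul_one] at this
    rw [this, div_eq_mul_inv, mul_comm]
  obtain ⟨ν, hν⟩ : ∃ ν : Kˣ, ν ∉ S := by
    by_contra h
    push Not at h
    have : S = ⊤ := by
      rw [eq_top_iff]; intro x _; exact h x
    rw [this, Subgroup.index_top] at hS2
    omega
  have hνS : ¬ InS S (ν : K) := by
    rintro ⟨s, hs, hsν⟩
    exact hν (by rwa [← Units.ext hsν])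
  set c' := (ν : K) * τ ν with hc'
  have hc'0 : c' ≠ 0 := mul_ne_zero ν.ne_zero (τ0 _ ν.ne_zero)
  have τ_out : ∀ x, x ≠ 0 → ¬ InS S x → τ x = c' / x := by
    intro x hx hxS
    have h1 : InS S (x * (ν : K)⁻¹) :=
      inS_mul_of_not hS2 hx (inv_ne_zero ν.ne_zero) hxS (not_inS_inv hνS)
    obtain ⟨s, hs, hsx⟩ := h1
    have hx' : (s : K) * ν = x := by
      rw [hsx, mul_assoc, inv_mul_cancel₀ ν.ne_zero, mul_one]
    have := τS s hs ν ν.ne_zero
    rw [hx'] at this
    rw [this, hc', hsx]
    have hν0 : (ν : K) ≠ 0 := ν.ne_zero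
    field_simp
  -- affine form of the stabiliser of `∞`
  have hAff : ∀ g : G, g • inf = inf →
      ∃ s ∈ S, ∃ b : K, ∀ x, g • P x = P ((s : K) * x + b) := by
    intro g hg
    rcases hcover (g • P 0) with h | ⟨b, hb⟩
    · exfalso
      rw [← hg] at h
      exact hPinf 0 (MulAction.injective g h)
    · obtain ⟨u, hu1, hu2⟩ := hT (-b)
      obtain ⟨s, hs, hsx⟩ := hStab (u * g) (by rw [mul_smul, hg, hu1])
        (by rw [mul_smul, hb, hu2, add_neg_cancel])
      refine ⟨s, hs, b, fun x => ?_⟩
      have h1 := hsx x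
      rw [mul_smul] at h1
      have h2 := hu2 ((s : K) * x + b)
      rw [show (s : K) * x + b + -b = (s : K) * x by ring, ← h1] at h2
      exact (MulAction.injective u h2).symm
  -- the structure element
  obtain ⟨T1, hT1i, hT1⟩ := hT 1
  obtain ⟨Tc, hTci, hTc⟩ := hT (-c)
  have hg1inf : (t * Tc * t * T1 * t) • inf = inf := by
    simp only [mul_smul]
    rw [ht1, hT1 0, zero_add, τP 1 one_ne_zero, ← hc, hTc c, add_neg_cancel, ht2]
  obtain ⟨s, hs, b, hsb⟩ := hAff _ hg1inf
  have hs0 : (s : K) ≠ 0 := s.ne_zero
  have hnc0 : -c ≠ 0 := neg_ne_zero.2 hc0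
  -- evaluation at `0`
  have hb : b = τ (-c) := by
    have h1 := hsb 0
    simp only [mul_smul] at h1
    rw [ht2, hT1i, ht1, hTc 0, zero_add, τP _ hnc0, mul_zero, zero_add] at h1
    exact (hPinj h1).symm
  -- evaluation at `τ (-1)`
  have hm1 : (-1 : K) ≠ 0 := neg_ne_zero.2 one_ne_zero
  have hsτ : (s : K) * τ (-1) + b = 0 := by
    have h1 := hsb (τ (-1))
    simp only [mul_smul] at h1
    rw [τP _ (τ0 _ hm1), ττ _ hm1, hT1 (-1), neg_add_cancel, ht2, hTci, ht1] at h1
    exact (hPinj h1).symm
  -- general evaluation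
  have hgen : ∀ y : K, y ≠ 0 → y + 1 ≠ 0 →
      τ (τ (y + 1) - c) = (s : K) * τ y + b := by
    intro y hy hy1
    have h1 := hsb (τ y)
    simp only [mul_smul] at h1
    have h3 : τ (y + 1) - c ≠ 0 := by
      intro h
      have h4 : τ (y + 1) = τ 1 := by rw [← hc]; exact sub_eq_zero.1 h
      have := τinj _ _ hy1 one_ne_zero h4
      exact hy (by simpa using this)
    rw [τP _ (τ0 _ hy), ττ _ hy, hT1 y, τP _ hy1, hTc, ← sub_eq_add_neg, τP _ h3] at h1
    exact hPinj h1
  -- `τ x = c / x` everywhere
  have hcc : c' = c := by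
    by_cases hcS : InS S c
    · -- `τ` preserves `S`
      have hc'S : InS S c' := by
        have h1 : ¬ InS S (τ ν) := by
          intro h
          have h2 := τ_in _ h
          rw [ττ _ ν.ne_zero] at h2
          apply hνS
          rw [h2, div_eq_mul_inv]
          exact hcS.mul h.inv
        exact inS_mul_of_not hS2 ν.ne_zero (τ0 _ ν.ne_zero) hνS h1
      -- `-1 ∈ S`
      have hnegS : InS S (-1 : K) := by
        by_contra hneg
        have h1 : ¬ InS S (-c) := by
          have := not_inS_mul hcS hneg
          rwa [mul_neg_one] at this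
        have h2 : τ (-c) = c' / (-c) := τ_out _ hnc0 h1
        have h3 : τ (-1) = c' / (-1) := τ_out _ hm1 hneg
        rw [hb, h2, h3] at hsτ
        have h4 : (s : K) * c = -1 := by
          field_simp at hsτ
          have h5 : c' * (-((s : K) * c) + -1) = 0 := by rw [hsτ, mul_zero]
          rcases mul_eq_zero.1 h5 with h | h
          · exact absurd h hc'0
          · linear_combination (-1 : K) * h
        apply hneg
        rw [← h4]
        exact (show InS S (s : K) from ⟨s, hs, rfl⟩).mul hcS
      obtain ⟨y, hyS, hy1, hy1S⟩ := exists_inS_add_one_not S hS2 hnegS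
      have hy0 : y ≠ 0 := hyS.ne_zero
      have hncS : InS S (-c) := by
        have := hnegS.mul hcS
        rwa [neg_one_mul] at this
      have h2 : τ (-c) = c / (-c) := τ_in _ hncS
      have h3 : τ (-1) = c / (-1) := τ_in _ hnegS
      have hb' : b = -1 := by
        rw [hb, h2]; field_simp
      have hs' : (s : K) * c = -1 := by
        rw [hb', h3] at hsτ
        field_simp at hsτ
        linear_combination (-1 : K) * hsτ
      have h5 := hgen y hy0 hy1
      rw [τ_in y hyS, τ_out _ hy1 hy1S, hb'] at h5
      -- apply `τ` to both sides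
      have h6 : c' / (y + 1) - c ≠ 0 := by
        intro h
        have h4 : τ (y + 1) = τ 1 := by
          rw [τ_out _ hy1 hy1S, ← hc]; exact sub_eq_zero.1 h
        have := τinj _ _ hy1 one_ne_zero h4
        exact hy0 (by simpa using this)
      have h7 := congrArg τ h5
      rw [ττ _ h6] at h7
      -- the right-hand side is `-(1+y)/y`, outside `S`
      have h8 : (s : K) * (c / y) + -1 = (-1) * y⁻¹ * (y + 1) := by
        have : (s : K) * (c / y) = ((s : K) * c) / y := by ring
        rw [this, hs']
        field_simp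
        ring
      have h9 : ¬ InS S ((-1) * y⁻¹ * (y + 1)) := not_inS_mul (hnegS.mul hyS.inv) hy1S
      have h10 : (-1 : K) * y⁻¹ * (y + 1) ≠ 0 :=
        mul_ne_zero (mul_ne_zero hm1 (inv_ne_zero hy0)) hy1
      rw [h8, τ_out _ h10 h9] at h7
      field_simp at h7
      have h11 : (c' - c) * (y + 1) = 0 := by linear_combination h7
      rcases mul_eq_zero.1 h11 with h | h
      · exact sub_eq_zero.1 h
      · exact absurd h hy1
    · -- `τ c = 1` forces `c' = c`
      have h1 : τ c = c' / c := τ_out _ hc0 hcS
      have h2 : τ c = 1 := ττ 1 one_ne_zero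
      rw [h2] at h1
      field_simp at h1
      exact h1.symm
  have τall : ∀ x, x ≠ 0 → τ x = c / x := by
    intro x hx
    by_cases hxS : InS S x
    · exact τ_in x hxS
    · rw [τ_out x hx hxS, hcc]
  -- `-c ∈ S`
  have hncS : InS S (-c) := by
    have h2 : τ (-c) = c / (-c) := τall _ hnc0
    have h3 : τ (-1) = c / (-1) := τall _ hm1
    rw [hb, h2, h3] at hsτ
    have h4 : (s : K) * (-c) = 1 := by
      field_simp at hsτ
      linear_combination hsτ
    have h5 : -c = (s : K)⁻¹ := eq_inv_of_mul_eq_one_right h4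
    rw [h5]
    exact (show InS S (s : K) from ⟨s, hs, rfl⟩).inv
  obtain ⟨r, hr, hrc⟩ := hncS
  obtain ⟨m, hmi, hm⟩ := hM r hr
  refine ⟨t * m, ?_, ?_, ?_⟩
  · rw [mul_smul, hmi, ht1]
  · rw [mul_smul, hm 0, mul_zero, ht2]
  · intro x hx
    rw [mul_smul, hm x, hrc, τP _ (mul_ne_zero hnc0 hx), τall _ (mul_ne_zero hnc0 hx)]
    congr 1
    field_simp

end partIII

section partIV

open Matrix OnePoint Cfsg.Agent.Lib.Helper56_Mobius

variable {G Ω K : Type*} [Group G] [MulAction G Ω] [Field K]

theorem mob_matUp_infty [DecidableEq K] (b : K) :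
    mob (matUp b : Matrix.SpecialLinearGroup (Fin 2) K) ∞ = ∞ := by
  rw [mob_infty]
  simp [matUp]

theorem mob_matUp_coe [DecidableEq K] (b k : K) :
    mob (matUp b : Matrix.SpecialLinearGroup (Fin 2) K) (k : OnePoint K) =
      ((k + b : K) : OnePoint K) := by
  rw [mob_coe]
  simp [matUp]

/-- a faithful group of permutations of the projective line containing the translations and
the inversion, of the order of `PSL(2, K)`, is isomorphic to `PSL(2, K)` -/
theorem iso_psl_of_coords [Finite G] [FaithfulSMul G Ω] [Fintype K]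
    (h2 : (2 : K) ≠ 0)
    (inf : Ω) (P : K → Ω) (hPinj : Function.Injective P) (hPinf : ∀ x, P x ≠ inf)
    (hcover : ∀ w : Ω, w = inf ∨ ∃ x, w = P x)
    (hT : ∀ c : K, ∃ g : G, g • inf = inf ∧ ∀ x, g • P x = P (x + c))
    (hW : ∃ g : G, g • inf = P 0 ∧ g • P 0 = inf ∧ ∀ x : K, x ≠ 0 → g • P x = P (-x⁻¹))
    (hcard : Nat.card G * 2 * (Fintype.card K - 1) =
      (Fintype.card K ^ 2 - 1) * (Fintype.card K ^ 2 - Fintype.card K)) :
    Nonempty (G ≃* Matrix.ProjectiveSpecialLinearGroup (Fin 2) K) := by
  classical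
  -- the coordinate bijection
  let f : OnePoint K → Ω := fun z => z.elim inf P
  have hf : Function.Bijective f := by
    constructor
    · intro z w h
      cases z with
      | infty =>
        cases w with
        | infty => rfl
        | coe y => exact absurd h.symm (hPinf y)
      | coe x =>
        cases w with
        | infty => exact absurd h (hPinf x)
        | coe y => exact congrArg _ (hPinj h)
    · intro w
      rcases hcover w with rfl | ⟨x, rfl⟩
      · exact ⟨∞, rfl⟩
      · exact ⟨(x : OnePoint K), rfl⟩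
  let e : OnePoint K ≃ Ω := Equiv.ofBijective f hf
  have he_inf : e ∞ = inf := rfl
  have he_coe : ∀ x : K, e (x : OnePoint K) = P x := fun _ => rfl
  -- the permutation representation
  let ρ : G →* Equiv.Perm (OnePoint K) :=
    (e.symm.permCongrHom.toMonoidHom).comp (MulAction.toPermHom G Ω)
  have hρ_apply : ∀ (g : G) (z : OnePoint K), ρ g z = e.symm (g • e z) := by
    intro g z
    rfl
  have hρinj : Function.Injective ρ := by
    intro g g' h
    apply MulAction.toPerm_injective (α := G) (β := Ω)
    exact e.symm.permCongrHom.injective h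
  -- translations and the inversion lie in the range
  have hUp : ∀ b : K, mob (matUp b : Matrix.SpecialLinearGroup (Fin 2) K) ∈ ρ.range := by
    intro b
    obtain ⟨g, hg1, hg2⟩ := hT b
    refine ⟨g, ?_⟩
    apply Equiv.ext
    intro z
    rw [hρ_apply]
    cases z with
    | infty =>
      rw [he_inf, hg1, mob_matUp_infty, ← he_inf, Equiv.symm_apply_apply]
    | coe x =>
      rw [he_coe, hg2, mob_matUp_coe, ← he_coe, Equiv.symm_apply_apply]
  have hWm : mob (matW : Matrix.SpecialLinearGroup (Fin 2) K) ∈ ρ.range := by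
    obtain ⟨g, hg1, hg2, hg3⟩ := hW
    refine ⟨g, ?_⟩
    apply Equiv.ext
    intro z
    rw [hρ_apply]
    cases z with
    | infty =>
      rw [he_inf, hg1, mob_matW_infty, ← he_coe, Equiv.symm_apply_apply]
    | coe x =>
      by_cases hx : x = 0
      · rw [hx, he_coe, hg2, mob_matW_zero, ← he_inf, Equiv.symm_apply_apply]
      · rw [he_coe, hg3 x hx, mob_matW_coe x hx, ← he_coe, Equiv.symm_apply_apply]
  have hle : (mob (K := K)).range ≤ ρ.range := by
    rw [MonoidHom.range_eq_map, ← closure_eq_top, MonoidHom.map_closure, Subgroup.closure_le]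
    rintro _ ⟨g, hg, rfl⟩
    rcases hg with ⟨b, rfl⟩ | hg
    · exact hUp b
    · rw [Set.mem_singleton_iff] at hg
      rw [hg]
      exact hWm
  -- cardinalities
  have hcardρ : Nat.card ρ.range = Nat.card G :=
    (Nat.card_congr (MonoidHom.ofInjective hρinj).toEquiv).symm
  have h1 := Cfsg.Agent.Lib.Helper35_PSL2Card.card_SL2_mul (F := K)
  have h2' := Cfsg.Agent.Lib.Helper35_PSL2Card.card_SL2_eq_card_PSL2_mul (F := K)
  have h3 := Cfsg.Agent.Lib.Helper35_PSL2Card.card_center_SL2 (F := K)
  have h4 := Cfsg.Agent.Lib.Helper35_PSL2Card.card_rootsOfUnity_two_of_ne (F := K) h2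
  have h5 : Nat.card (mob (K := K)).range =
      Nat.card (Matrix.ProjectiveSpecialLinearGroup (Fin 2) K) := by
    have e1 := QuotientGroup.quotientKerEquivRange (mob (K := K))
    have e2 : Matrix.SpecialLinearGroup (Fin 2) K ⧸ (mob (K := K)).ker ≃*
        Matrix.ProjectiveSpecialLinearGroup (Fin 2) K :=
      QuotientGroup.quotientMulEquivOfEq mob_ker
    exact Nat.card_congr (e1.symm.trans e2).toEquiv
  rw [h3, h4] at h2'
  have hq1 : 0 < Fintype.card K - 1 := by
    have := Fintype.one_lt_card (α := K)
    omega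
  have hceq : Nat.card ρ.range = Nat.card (mob (K := K)).range := by
    rw [hcardρ, h5]
    have : Nat.card G * 2 * (Fintype.card K - 1) =
        Nat.card (Matrix.ProjectiveSpecialLinearGroup (Fin 2) K) * 2 * (Fintype.card K - 1) := by
      rw [hcard, ← h2', h1]
    have h6 := Nat.eq_of_mul_eq_mul_right hq1 this
    omega
  have heq : (mob (K := K)).range = ρ.range :=
    Subgroup.eq_of_le_of_card_ge hle (le_of_eq hceq)
  have e0 : G ≃* ρ.range := MonoidHom.ofInjective hρinj
  have e1 : ρ.range ≃* (mob (K := K)).range := MulEquiv.subgroupCongr heq.symm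
  have e2 := QuotientGroup.quotientKerEquivRange (mob (K := K))
  have e3 : Matrix.SpecialLinearGroup (Fin 2) K ⧸ (mob (K := K)).ker ≃*
      Matrix.ProjectiveSpecialLinearGroup (Fin 2) K :=
    QuotientGroup.quotientMulEquivOfEq mob_ker
  exact ⟨((e0.trans e1).trans e2.symm).trans e3⟩

end partIV

section fieldOfIrr

/-- **Schur-type lemma**: a commuting family of automorphisms acting irreducibly on a finite abelian
group `V` generates a finite field `K` inside the endomorphism ring, over which `V` is
one-dimensional. -/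
theorem exists_field_of_irreducible {H : Type v} {V : Type u} [Monoid H] [AddCommGroup V]
    [Finite V] [Nontrivial V] (act : H →* AddMonoid.End V)
    (hactcomm : ∀ h h' : H, act h * act h' = act h' * act h)
    (hirr : ∀ W : AddSubgroup V, (∀ (h : H) (w : V), w ∈ W → act h w ∈ W) → W = ⊥ ∨ W = ⊤) :
    ∃ (K : Type u) (_ : Field K) (_ : Finite K) (ev : K ≃+ V) (φ : H →* K),
      ∀ (h : H) (x : K), act h (ev x) = ev (φ h * x) := by
  classical
  let φ0 : H →* AddMonoid.End V := act
  let R : Subring (AddMonoid.End V) := Subring.closure (Set.range φ0)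
  have hcommgen : ∀ x ∈ Set.range φ0, ∀ y ∈ Set.range φ0, x * y = y * x := by
    rintro _ ⟨h, rfl⟩ _ ⟨h', rfl⟩
    exact hactcomm h h' 
  have hRcomm : ∀ x y : R, x * y = y * x := by
    have := Subring.isMulCommutative_closure hcommgen
    intro x y
    exact mul_comm' x y
  let _ : CommRing R := { (inferInstance : Ring R) with mul_comm := hRcomm }
  have hmem : ∀ h : H, φ0 h ∈ R := fun h => Subring.subset_closure ⟨h, rfl⟩
  have hcomm : ∀ (x : R) (h : H) (v : V), (x : AddMonoid.End V) (act h v) =
      act h ((x : AddMonoid.End V) v) := by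
    intro x h v
    have h1 := hRcomm x ⟨φ0 h, hmem h⟩
    have h2 := congrArg Subtype.val h1
    have h3 := DFunLike.congr_fun h2 v
    exact h3
  -- invariant subgroups from elements of `R`
  have hinj : ∀ x : R, x ≠ 0 → Function.Injective (x : AddMonoid.End V) := by
    intro x hx
    let W : AddSubgroup V :=
      { carrier := {w | (x : AddMonoid.End V) w = 0}
        zero_mem' := map_zero _
        add_mem' := by
          intro a b ha hb
          show (x : AddMonoid.End V) (a + b) = 0
          rw [map_add, ha, hb, add_zero]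
        neg_mem' := by
          intro a ha
          show (x : AddMonoid.End V) (-a) = 0
          rw [map_neg, ha, neg_zero] }
    have hk := hirr W (by
      intro h w hw
      show (x : AddMonoid.End V) (act h w) = 0
      rw [hcomm, hw, map_zero])
    rcases hk with hk | hk
    · rw [injective_iff_map_eq_zero]
      intro a ha
      have : a ∈ W := ha
      rwa [hk, AddSubgroup.mem_bot] at this
    · exfalso
      apply hx
      apply Subtype.ext
      ext v
      have : v ∈ W := by rw [hk]; trivial
      exact this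
  have hfin : Finite R := by
    have : Finite (AddMonoid.End V) :=
      Finite.of_injective (fun f : AddMonoid.End V => (f : V → V)) DFunLike.coe_injective
    exact inferInstance
  have : Nontrivial R := by
    obtain ⟨e, he⟩ := exists_ne (0 : V)
    refine ⟨⟨1, 0, ?_⟩⟩
    intro h
    have h2 := congrArg Subtype.val h
    have h3 := DFunLike.congr_fun h2 e
    exact he h3
  have : NoZeroDivisors R := by
    refine ⟨?_⟩
    intro x y hxy
    by_contra hcon
    push Not at hcon
    apply hcon.2
    apply Subtype.ext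
    ext v
    have h2 := congrArg Subtype.val hxy
    have h3 : (x : AddMonoid.End V) ((y : AddMonoid.End V) v) = 0 := DFunLike.congr_fun h2 v
    have h4 : (x : AddMonoid.End V) ((y : AddMonoid.End V) v) = (x : AddMonoid.End V) 0 := by
      rw [h3, map_zero]
    exact hinj x hcon.1 h4
  have : IsDomain R := NoZeroDivisors.to_isDomain R
  have hF : IsField R := Finite.isField_of_domain R
  let _ : Field R := hF.toField
  obtain ⟨e, he⟩ := exists_ne (0 : V)
  let ev0 : R →+ V :=
    { toFun := fun x => (x : AddMonoid.End V) e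
      map_zero' := rfl
      map_add' := fun _ _ => rfl }
  have hev_inj : Function.Injective ev0 := by
    rw [injective_iff_map_eq_zero]
    intro x hx
    by_contra hx0
    have := hinj x hx0 (a₁ := e) (a₂ := 0) (by rw [map_zero]; exact hx)
    exact he this
  have hev_surj : Function.Surjective ev0 := by
    let W : AddSubgroup V :=
      { carrier := Set.range ev0
        zero_mem' := ⟨0, map_zero ev0⟩
        add_mem' := by
          rintro _ _ ⟨a, rfl⟩ ⟨b, rfl⟩
          exact ⟨a + b, map_add ev0 a b⟩
        neg_mem' := by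
          rintro _ ⟨a, rfl⟩
          exact ⟨-a, map_neg ev0 a⟩ }
    have hk := hirr W (by
      rintro h _ ⟨x, rfl⟩
      exact ⟨⟨φ0 h, hmem h⟩ * x, rfl⟩)
    rcases hk with hk | hk
    · exfalso
      have : ev0 1 ∈ W := ⟨1, rfl⟩
      rw [hk, AddSubgroup.mem_bot] at this
      exact he this
    · intro v
      have : v ∈ W := by rw [hk]; trivial
      exact this
  let ev : R ≃+ V := AddEquiv.ofBijective ev0 ⟨hev_inj, hev_surj⟩
  let φ : H →* R :=
    { toFun := fun h => ⟨φ0 h, hmem h⟩
      map_one' := Subtype.ext (map_one φ0)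
      map_mul' := fun a b => Subtype.ext (map_mul φ0 a b) }
  exact ⟨R, inferInstance, hfin, ev, φ, fun h x => rfl⟩

end fieldOfIrr

section partII

open MulAction

variable {G : Type u} {Ω : Type w} [Group G] [MulAction G Ω]

/-- the commutative group structure of a commutative subgroup -/
@[reducible] def commGroupOf (N : Subgroup G) (hc : ∀ u ∈ N, ∀ v ∈ N, u * v = v * u) :
    CommGroup N :=
  { (inferInstance : Group N) with mul_comm := fun x y => Subtype.ext (hc x x.2 y y.2) }

/-- the conjugation by `h` on a subgroup `N` normalised by `h`, as an additive endomorphism -/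
def conjEnd (N : Subgroup G) (h : G) (hh : ∀ u ∈ N, h * u * h⁻¹ ∈ N) :
    AddMonoid.End (Additive N) :=
  { toFun := fun v => Additive.ofMul ⟨h * ((Additive.toMul v : N) : G) * h⁻¹,
      hh _ (Additive.toMul v).2⟩
    map_zero' := by
      apply Additive.toMul.injective
      apply Subtype.ext
      simp
    map_add' := by
      intro x y
      apply Additive.toMul.injective
      apply Subtype.ext
      simp }

theorem conjEnd_apply (N : Subgroup G) (h : G) (hh : ∀ u ∈ N, h * u * h⁻¹ ∈ N)
    (v : Additive N) :
    ((Additive.toMul (conjEnd N h hh v) : N) : G) = h * ((Additive.toMul v : N) : G) * h⁻¹ := rfl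

/-- the conjugation action of a subgroup `H` normalising `N` -/
def conjHom (N H : Subgroup G) (hnorm : ∀ h ∈ H, ∀ u ∈ N, h * u * h⁻¹ ∈ N) :
    H →* AddMonoid.End (Additive N) :=
  { toFun := fun h => conjEnd N (h : G) (hnorm h h.2)
    map_one' := by
      refine DFunLike.ext _ _ (fun v => ?_)
      apply Additive.toMul.injective
      apply Subtype.ext
      rw [conjEnd_apply]
      simp
    map_mul' := by
      intro h h'
      refine DFunLike.ext _ _ (fun v => ?_)
      apply Additive.toMul.injective
      apply Subtype.ext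
      rw [conjEnd_apply]
      change _ = ((Additive.toMul (conjEnd N (h : G) (hnorm h h.2)
        (conjEnd N (h' : G) (hnorm h' h'.2) v)) : N) : G)
      rw [conjEnd_apply, conjEnd_apply]
      simp [mul_assoc] }

theorem conjHom_apply (N H : Subgroup G) (hnorm : ∀ h ∈ H, ∀ u ∈ N, h * u * h⁻¹ ∈ N)
    (h : H) (v : Additive N) :
    ((Additive.toMul (conjHom N H hnorm h v) : N) : G) =
      (h : G) * ((Additive.toMul v : N) : G) * (h : G)⁻¹ := rfl


/-- **Coordinates**: field coordinates on the points of a doubly transitive group whose point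
stabiliser is `N ⋊ H` with `N` abelian regular, `|N| = 2|H| + 1`, and an involution `t`
swapping `a`, `b` and inverting `H`. -/
theorem coords_exist [Finite G]
    (h3 : ∀ g : G, ∀ x y z : Ω, x ≠ y → y ≠ z → x ≠ z → g • x = x → g • y = y → g • z = z →
      g = 1)
    {a b : Ω} (hab : a ≠ b)
    (N : Subgroup G) (hNa : N ≤ stabilizer G a)
    (hreg : ∀ y z : Ω, y ≠ a → z ≠ a → ∃! u : N, (u : G) • y = z)
    (hNcomm : ∀ u ∈ N, ∀ v ∈ N, u * v = v * u)
    (hnorm : ∀ h ∈ stabilizer G a ⊓ stabilizer G b, ∀ u ∈ N, h * u * h⁻¹ ∈ N)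
    (hcard : Nat.card N = 2 * Nat.card ↥(stabilizer G a ⊓ stabilizer G b) + 1)
    (t : G) (htt : t * t = 1)
    (htinv : ∀ h ∈ stabilizer G a ⊓ stabilizer G b, t * h * t = h⁻¹) :
    ∃ (K : Type u) (_ : Field K) (_ : Finite K) (P : K → Ω) (S : Subgroup Kˣ),
      Nat.card K = Nat.card N ∧ P 0 = b ∧ Function.Injective P ∧ (∀ x, P x ≠ a) ∧
      (∀ w : Ω, w = a ∨ ∃ x, w = P x) ∧ S.index = 2 ∧
      (∀ c : K, ∃ g : G, g • a = a ∧ ∀ x, g • P x = P (x + c)) ∧
      (∀ s ∈ S, ∃ g : G, g • a = a ∧ ∀ x, g • P x = P ((s : K) * x)) ∧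
      (∀ g : G, g • a = a → g • P 0 = P 0 → ∃ s ∈ S, ∀ x, g • P x = P ((s : K) * x)) ∧
      (∀ s ∈ S, ∀ x y : K, t • P x = P y →
        t • P ((s : K) * x) = P (((s⁻¹ : Kˣ) : K) * y)) := by
  classical
  set H : Subgroup G := stabilizer G a ⊓ stabilizer G b with hH
  have hmemH : ∀ x : G, x ∈ H ↔ x • a = a ∧ x • b = b := by
    intro x; simp [hH, Subgroup.mem_inf, mem_stabilizer_iff]
  -- `H` is commutative
  have hHcomm : ∀ h ∈ H, ∀ h' ∈ H, h * h' = h' * h := by
    intro h hh h' hh'
    have e1 := htinv h hh
    have e2 := htinv h' hh'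
    have e3 := htinv (h * h') (H.mul_mem hh hh')
    have e4 : t * (h * h') * t = (t * h * t) * (t * h' * t) := by
      calc t * (h * h') * t = t * h * 1 * h' * t := by group
        _ = t * h * (t * t) * h' * t := by rw [htt]
        _ = (t * h * t) * (t * h' * t) := by group
    rw [e3, e1, e2] at e4
    have e5 := congrArg (fun x => x⁻¹) e4
    simpa [mul_inv_rev] using e5
  have hth : ∀ h ∈ H, t * h = h⁻¹ * t := by
    intro h hh
    have e1 := htinv h hh
    calc t * h = t * h * (t * t) := by rw [htt, mul_one]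
      _ = (t * h * t) * t := by group
      _ = h⁻¹ * t := by rw [e1]
  -- facts on `N`
  have hNfix : ∀ u ∈ N, u • a = a := fun u hu => mem_stabilizer_iff.1 (hNa hu)
  have hNb : ∀ u ∈ N, u • b ≠ a := by
    intro u hu h
    have : u • b = u • a := by rw [h, hNfix u hu]
    exact hab (MulAction.injective u this).symm
  have huniq : ∀ u ∈ N, ∀ v ∈ N, u • b = v • b → u = v := by
    intro u hu v hv h
    have := (hreg b (v • b) hab.symm (hNb v hv)).unique (y₁ := ⟨u, hu⟩) (y₂ := ⟨v, hv⟩) h rfl
    exact congrArg Subtype.val this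
  -- semiregularity of `H` on `N`
  have hsemi : ∀ h ∈ H, ∀ u ∈ N, u ≠ 1 → h * u * h⁻¹ = u → h = 1 := by
    intro h hh u hu hu1 hc
    obtain ⟨ha, hb⟩ := (hmemH h).1 hh
    have hub : u • b ≠ b := by
      intro h'
      apply hu1
      exact huniq u hu 1 N.one_mem (by rw [h', one_smul])
    have hcm : h * u = u * h := by
      calc h * u = (h * u * h⁻¹) * h := by group
        _ = u * h := by rw [hc]
    have hfix : h • (u • b) = u • b := by
      rw [← mul_smul, hcm, mul_smul, hb]
    exact h3 h a b (u • b) hab (Ne.symm hub) (Ne.symm (hNb u hu)) ha hb hfix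
  let _ : CommGroup N := commGroupOf N hNcomm
  let act : H →* AddMonoid.End (Additive N) := conjHom N H hnorm
  have hact_apply : ∀ (h : H) (v : Additive N),
      ((Additive.toMul (act h v) : N) : G) =
        (h : G) * ((Additive.toMul v : N) : G) * (h : G)⁻¹ := fun h v => rfl
  have hactcomm : ∀ h h' : H, act h * act h' = act h' * act h := by
    intro h h'
    rw [← map_mul, ← map_mul]
    congr 1
    exact Subtype.ext (hHcomm h h.2 h' h'.2)
  have hact_inj : ∀ w : Additive N, w ≠ 0 → ∀ h h' : H, act h w = act h' w → h = h' := by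
    intro w hw h h' hhh
    have hu1 : ((Additive.toMul w : N) : G) ≠ 1 := by
      intro h1
      apply hw
      apply Additive.toMul.injective
      exact Subtype.ext h1
    have e1 : ((Additive.toMul (act h w) : N) : G) = ((Additive.toMul (act h' w) : N) : G) := by
      rw [hhh]
    rw [hact_apply, hact_apply] at e1
    have e2 : ((h' : G)⁻¹ * (h : G)) * ((Additive.toMul w : N) : G) * ((h' : G)⁻¹ * (h : G))⁻¹ =
        ((Additive.toMul w : N) : G) := by
      calc ((h' : G)⁻¹ * (h : G)) * ((Additive.toMul w : N) : G) * ((h' : G)⁻¹ * (h : G))⁻¹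
          = (h' : G)⁻¹ * ((h : G) * ((Additive.toMul w : N) : G) * (h : G)⁻¹) * (h' : G) := by
            group
        _ = ((Additive.toMul w : N) : G) := by rw [e1]; group
    have e3 := hsemi _ (H.mul_mem (H.inv_mem h'.2) h.2) _ (Additive.toMul w).2 hu1 e2
    apply Subtype.ext
    have : (h : G) = (h' : G) * ((h' : G)⁻¹ * (h : G)) := by group
    rw [this, e3, mul_one]
  have hact_ne : ∀ w : Additive N, w ≠ 0 → ∀ h : H, act h w ≠ 0 := by
    intro w hw h h0
    apply hw
    have e1 : ((Additive.toMul (act h w) : N) : G) = 1 := by rw [h0]; rfl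
    rw [hact_apply] at e1
    apply Additive.toMul.injective
    apply Subtype.ext
    have : ((Additive.toMul w : N) : G) =
        (h : G)⁻¹ * ((h : G) * ((Additive.toMul w : N) : G) * (h : G)⁻¹) * (h : G) := by group
    rw [this, e1]
    simp
  have hd : 0 < Nat.card H := Nat.card_pos
  have hVcard : Nat.card (Additive N) = 2 * Nat.card H + 1 := by
    rw [← hcard]
    exact Nat.card_congr Additive.toMul
  -- irreducibility
  have hirr : ∀ W : AddSubgroup (Additive N),
      (∀ (h : H) (w : Additive N), w ∈ W → act h w ∈ W) → W = ⊥ ∨ W = ⊤ := by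
    intro W hW
    by_contra hcon
    push Not at hcon
    obtain ⟨hbot, htop⟩ := hcon
    obtain ⟨w0, hw0, hw0ne⟩ : ∃ w ∈ W, w ≠ 0 := by
      by_contra h
      push Not at h
      exact hbot ((AddSubgroup.eq_bot_iff_forall W).2 h)
    have hcardW : Nat.card H + 1 ≤ Nat.card W := by
      let f : Option H → W := fun o => match o with
        | none => ⟨0, W.zero_mem⟩
        | some h => ⟨act h w0, hW h w0 hw0⟩
      have hf : Function.Injective f := by
        intro o o' hoo
        cases o with
        | none =>
          cases o' with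
          | none => rfl
          | some h' =>
            exfalso
            have := congrArg Subtype.val hoo
            exact hact_ne w0 hw0ne h' this.symm
        | some h =>
          cases o' with
          | none =>
            exfalso
            have := congrArg Subtype.val hoo
            exact hact_ne w0 hw0ne h this
          | some h' =>
            have := congrArg Subtype.val hoo
            rw [hact_inj w0 hw0ne h h' this]
      have := Nat.card_le_card_of_injective f hf
      have hfin : Fintype H := Fintype.ofFinite H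
      rwa [Nat.card_eq_fintype_card (α := Option H), Fintype.card_option,
        ← Nat.card_eq_fintype_card] at this
    have hdvd : Nat.card W ∣ Nat.card (Additive N) := AddSubgroup.card_addSubgroup_dvd_card W
    have hne : Nat.card W ≠ Nat.card (Additive N) := by
      intro h
      exact htop ((AddSubgroup.card_eq_iff_eq_top W).1 h)
    obtain ⟨k, hk⟩ := hdvd
    rw [hVcard] at hk hne
    rcases k with _ | _ | _ | k
    · omega
    · omega
    · omega
    · nlinarith
  have hfinV : Finite (Additive N) := inferInstance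
  have hntV : Nontrivial (Additive N) := by
    rw [← Finite.one_lt_card_iff_nontrivial, hVcard]
    omega
  obtain ⟨K, hKf, hKfin, ev, φ, hev⟩ := exists_field_of_irreducible act hactcomm hirr
  let P : K → Ω := fun x => ((Additive.toMul (ev x) : N) : G) • b
  have hP_def : ∀ x, P x = ((Additive.toMul (ev x) : N) : G) • b := fun _ => rfl
  let φ' : H →* Kˣ := φ.toHomUnits
  have hφ' : ∀ h : H, ((φ' h : Kˣ) : K) = φ h := fun h => rfl
  -- action of `H` in coordinates
  have hHP : ∀ (h : H) (x : K), (h : G) • P x = P (φ h * x) := by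
    intro h x
    rw [hP_def, hP_def, ← hev, hact_apply]
    have hb := ((hmemH h).1 h.2).2
    rw [mul_smul, mul_smul, inv_smul_eq_iff.2 hb.symm]
  have hφ'inj : Function.Injective φ' := by
    intro h h' hhh
    have e1 : φ h = φ h' := by rw [← hφ', ← hφ', hhh]
    have e2 : act h (ev 1) = act h' (ev 1) := by rw [hev, hev, e1]
    have e3 : ev 1 ≠ 0 := by
      intro h0
      have := ev.injective (h0.trans (map_zero ev).symm)
      exact one_ne_zero this
    exact hact_inj _ e3 h h' e2
  refine ⟨K, hKf, hKfin, P, φ'.range, ?_, ?_, ?_, ?_, ?_, ?_, ?_, ?_, ?_, ?_⟩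
  · rw [Nat.card_congr ev.toEquiv]
    exact Nat.card_congr Additive.toMul
  · rw [hP_def, map_zero]
    exact one_smul _ _
  · intro x y hxy
    rw [hP_def, hP_def] at hxy
    have := huniq _ (Additive.toMul (ev x)).2 _ (Additive.toMul (ev y)).2 hxy
    have h2 : Additive.toMul (ev x) = Additive.toMul (ev y) := Subtype.ext this
    exact ev.injective (Additive.toMul.injective h2)
  · intro x
    exact hNb _ (Additive.toMul (ev x)).2
  · intro w
    by_cases hw : w = a
    · exact Or.inl hw
    · right
      obtain ⟨u, hu, _⟩ := hreg b w hab.symm hw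
      refine ⟨ev.symm (Additive.ofMul u), ?_⟩
      rw [hP_def, AddEquiv.apply_symm_apply]
      exact hu.symm
  · -- the index
    have h1 : Nat.card φ'.range = Nat.card H :=
      (Nat.card_congr (MonoidHom.ofInjective hφ'inj).toEquiv).symm
    have h2 : Nat.card Kˣ = Nat.card K - 1 := by
      have := Fintype.ofFinite K
      rw [Nat.card_eq_fintype_card, Nat.card_eq_fintype_card, Fintype.card_units]
    have h3 : Nat.card K = 2 * Nat.card H + 1 := by
      rw [Nat.card_congr ev.toEquiv, hVcard]
    have h4 := Subgroup.card_mul_index φ'.range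
    rw [h1, h2, h3] at h4
    have h5 : Nat.card H * φ'.range.index = Nat.card H * 2 := by
      rw [h4]; omega
    exact Nat.eq_of_mul_eq_mul_left hd h5
  · intro c
    refine ⟨((Additive.toMul (ev c) : N) : G), hNfix _ (Additive.toMul (ev c)).2, fun x => ?_⟩
    rw [hP_def, hP_def, ← mul_smul, add_comm x c, map_add, toMul_add, Subgroup.coe_mul]
  · rintro s ⟨h, rfl⟩
    exact ⟨(h : G), ((hmemH h).1 h.2).1, fun x => by rw [hHP, hφ']⟩
  · intro g hga hgb
    have hP0 : P 0 = b := by
      rw [hP_def, map_zero]
      exact one_smul _ _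
    rw [hP0] at hgb
    have hgH : g ∈ H := (hmemH g).2 ⟨hga, hgb⟩
    exact ⟨φ' ⟨g, hgH⟩, ⟨⟨g, hgH⟩, rfl⟩, fun x => by rw [hφ']; exact hHP ⟨g, hgH⟩ x⟩
  · rintro s ⟨h, rfl⟩ x y hxy
    rw [hφ', ← hHP, ← mul_smul, hth h h.2, mul_smul, hxy, ← map_inv, hφ']
    exact hHP h⁻¹ y

end partII

section partI

open MulAction Cfsg.Agent.Lib.Helper59_SharpTrans

variable {G Ω : Type*} [Group G] [MulAction G Ω]

/-- **Equality case of the involution count**: if the two-point stabiliser has even order `d`
with `2 d ≤ n - 1`, every element interchanging `a` and `b` is an involution. -/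
theorem swap_sq_eq_one [Finite G] [Fintype Ω] (h2 : IsMultiplyPretransitive G Ω 2)
    (h3 : ∀ g : G, ∀ a b c : Ω, a ≠ b → b ≠ c → a ≠ c → g • a = a → g • b = b → g • c = c → g = 1)
    {a b : Ω} (hab : a ≠ b)
    (heven : Even (Nat.card ↥(stabilizer G a ⊓ stabilizer G b)))
    (hle : 2 * Nat.card ↥(stabilizer G a ⊓ stabilizer G b) ≤ Fintype.card Ω - 2) :
    ∀ s : G, s • a = b → s • b = a → s * s = 1 := by
  classical
  have _ : Fintype G := Fintype.ofFinite G
  set H : Subgroup G := stabilizer G a ⊓ stabilizer G b with hH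
  have hmemH : ∀ x : G, x ∈ H ↔ x • a = a ∧ x • b = b := by
    intro x; simp [hH, Subgroup.mem_inf, mem_stabilizer_iff]
  -- an involution in `H`
  have : Fact (Nat.Prime 2) := ⟨Nat.prime_two⟩
  obtain ⟨t', ht'⟩ := exists_prime_orderOf_dvd_card' (G := H) 2 (even_iff_two_dvd.1 heven)
  set t : G := (t' : G) with ht
  have hto : orderOf t = 2 := by rw [ht, Subgroup.orderOf_coe, ht']
  have ht1 : t ≠ 1 := by
    intro h; rw [h, orderOf_one] at hto; omega
  have htt : t * t = 1 := by
    have := pow_orderOf_eq_one t
    rwa [hto, pow_two] at this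
  have hta : t • a = a := ((hmemH t).1 t'.2).1
  have htb : t • b = b := ((hmemH t).1 t'.2).2
  have hmove : ∀ c : Ω, c ≠ a → c ≠ b → t • c ≠ c := by
    intro c hca hcb hc
    exact ht1 (h3 t a b c hab (Ne.symm hcb) (Ne.symm hca) hta htb hc)
  have hex : ∀ c : Ω, ∃ g : G, c ≠ a → c ≠ b → g • a = c ∧ g • b = t • c := by
    intro c
    by_cases hca : c = a
    · exact ⟨1, fun h => absurd hca h⟩
    by_cases hcb : c = b
    · exact ⟨1, fun _ h => absurd hcb h⟩
    obtain ⟨g, hg⟩ := two_trans (Γ := G) a b c (t • c) hab (Ne.symm (hmove c hca hcb))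
    exact ⟨g, fun _ _ => hg⟩
  choose γ hγ using hex
  set Hset : Finset G := Finset.univ.filter (fun x => x ∈ H) with hHset
  set Sset : Finset G := Finset.univ.filter (fun s => s • a = b ∧ s • b = a) with hSset
  set Cset : Finset Ω := Finset.univ.filter (fun c => c ≠ a ∧ c ≠ b) with hCset
  set d := Nat.card H with hd
  have hHcard : Hset.card = d := by
    rw [hd, Nat.card_eq_fintype_card, Fintype.card_subtype]
  have hdpos : 0 < d := Nat.card_pos
  have hScard : Sset.card ≤ d := by
    by_cases hne : Sset.Nonempty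
    · obtain ⟨s0, hs0⟩ := hne
      rw [hSset, Finset.mem_filter] at hs0
      rw [← hHcard]
      apply Finset.card_le_card_of_injOn (fun s => s0⁻¹ * s)
      · intro s hs
        have hs' : s • a = b ∧ s • b = a := by
          have := hs; rw [hSset] at this; simpa using this
        simp only [hHset, Finset.coe_filter, Finset.mem_univ, true_and, Set.mem_ofPred_eq]
        rw [hmemH]
        constructor
        · rw [mul_smul, hs'.1, inv_smul_eq_iff, hs0.2.1]
        · rw [mul_smul, hs'.2, inv_smul_eq_iff, hs0.2.2]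
      · intro s _ s' _ h
        exact mul_left_cancel h
    · rw [Finset.not_nonempty_iff_eq_empty] at hne
      rw [hne]; simp
  have hCcard : Cset.card = Fintype.card Ω - 2 := by
    have h1 : Cset = Finset.univ \ {a, b} := by
      ext c
      simp [hCset]
    rw [h1, Finset.card_sdiff_of_subset (Finset.subset_univ _), Finset.card_univ,
      Finset.card_pair hab]
  set Kset : Finset G := Hset ∪ Sset with hKset
  have hKcard : Kset.card ≤ 2 * d := by
    calc Kset.card ≤ Hset.card + Sset.card := Finset.card_union_le _ _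
      _ ≤ d + d := by rw [hHcard]; exact Nat.add_le_add_left hScard d
      _ = 2 * d := by ring
  set T : Finset (Ω × G) := Cset ×ˢ Hset with hT
  have hTcard : T.card = (Fintype.card Ω - 2) * d := by
    rw [hT, Finset.card_product, hCcard, hHcard]
  set F : Ω × G → G := fun p => (γ p.1 * p.2)⁻¹ * t * (γ p.1 * p.2) with hF
  have hTmem : ∀ p : Ω × G, p ∈ T ↔ (p.1 ≠ a ∧ p.1 ≠ b) ∧ p.2 ∈ H := by
    intro p; simp [hT, hCset, hHset, Finset.mem_product]
  have hga : ∀ p : Ω × G, p ∈ T → (γ p.1 * p.2) • a = p.1 ∧ (γ p.1 * p.2) • b = t • p.1 := by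
    intro p hp
    obtain ⟨⟨h1, h2'⟩, h3'⟩ := (hTmem p).1 hp
    have h4 := (hmemH p.2).1 h3'
    rw [mul_smul, mul_smul, h4.1, h4.2]
    exact hγ p.1 h1 h2'
  have hmaps : ∀ p ∈ T, F p ∈ Sset := by
    intro p hp
    obtain ⟨e1, e2⟩ := hga p hp
    have e3 : t • (t • p.1) = p.1 := by rw [← mul_smul, htt, one_smul]
    simp only [hSset, Finset.mem_filter, Finset.mem_univ, true_and, hF]
    constructor
    · rw [mul_smul, mul_smul, e1, inv_smul_eq_iff, e2]
    · rw [mul_smul, mul_smul, e2, e3, inv_smul_eq_iff, e1]
  have hfib : ∀ s ∈ T.image F, (T.filter (fun p => F p = s)).card ≤ 2 * d := by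
    intro s _
    by_cases hne : (T.filter (fun p => F p = s)).Nonempty
    · obtain ⟨p0, hp0⟩ := hne
      rw [Finset.mem_filter] at hp0
      refine le_trans ?_ hKcard
      apply Finset.card_le_card_of_injOn (fun p => (γ p.1 * p.2) * (γ p0.1 * p0.2)⁻¹)
      · intro p hp
        have hp' : p ∈ T ∧ F p = s := by simpa using hp
        have hcomm : ((γ p.1 * p.2) * (γ p0.1 * p0.2)⁻¹) * t
            = t * ((γ p.1 * p.2) * (γ p0.1 * p0.2)⁻¹) := by
          have e : F p = F p0 := hp'.2.trans hp0.2.symm
          simp only [hF] at e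
          have e' : t * ((γ p.1 * p.2) * (γ p0.1 * p0.2)⁻¹)
              = (γ p.1 * p.2) * ((γ p0.1 * p0.2)⁻¹ * t * (γ p0.1 * p0.2)) * (γ p0.1 * p0.2)⁻¹ := by
            rw [← e]; group
          rw [e']; group
        have := Cfsg.Agent.S0741.fix_or_swap h3 hab ht1 hta htb hcomm
        simp only [hKset, Finset.coe_union, Set.mem_union, Finset.mem_coe, hHset, hSset,
          Finset.mem_filter, Finset.mem_univ, true_and]
        rcases this with h | h
        · left; exact (hmemH _).2 h
        · right; exact h
      · intro p hp p' hp' h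
        have hp1 : p ∈ T := by
          have : p ∈ T ∧ F p = s := by simpa using hp
          exact this.1
        have hp1' : p' ∈ T := by
          have : p' ∈ T ∧ F p' = s := by simpa using hp'
          exact this.1
        have hgg : γ p.1 * p.2 = γ p'.1 * p'.2 := mul_right_cancel h
        have h1 : p.1 = p'.1 := by
          rw [← (hga p hp1).1, ← (hga p' hp1').1, hgg]
        have h2' : p.2 = p'.2 := by
          rw [h1] at hgg
          exact mul_left_cancel hgg
        exact Prod.ext h1 h2'
    · rw [Finset.not_nonempty_iff_eq_empty] at hne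
      rw [hne]; simp
  have hmain := Finset.card_le_mul_card_image_of_maps_to
    (fun p hp => Finset.mem_image_of_mem F hp) (2 * d) hfib
  rw [hTcard] at hmain
  -- the image has at least `d` elements, hence is all of `Sset`
  have himg_sub : T.image F ⊆ Sset := by
    intro s hs
    obtain ⟨p, hp, rfl⟩ := Finset.mem_image.1 hs
    exact hmaps p hp
  have himg_card : d ≤ (T.image F).card := by
    have h5 : (2 * d) * d ≤ (2 * d) * (T.image F).card :=
      le_trans (Nat.mul_le_mul_right d hle) hmain
    exact Nat.le_of_mul_le_mul_left h5 (by omega)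
  have himg_eq : T.image F = Sset :=
    Finset.eq_of_subset_of_card_le himg_sub (le_trans hScard himg_card)
  intro s hsa hsb
  have hsS : s ∈ Sset := by
    simp only [hSset, Finset.mem_filter, Finset.mem_univ, true_and]
    exact ⟨hsa, hsb⟩
  rw [← himg_eq] at hsS
  obtain ⟨p, _, rfl⟩ := Finset.mem_image.1 hsS
  simp only [hF]
  calc (γ p.1 * p.2)⁻¹ * t * (γ p.1 * p.2) * ((γ p.1 * p.2)⁻¹ * t * (γ p.1 * p.2))
      = (γ p.1 * p.2)⁻¹ * (t * t) * (γ p.1 * p.2) := by group
    _ = 1 := by rw [htt]; group

end partI

section core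

open MulAction Cfsg.Agent.Lib.Helper59_SharpTrans

variable {G : Type u} {Ω : Type w} [Group G] [MulAction G Ω]

/-- a subgroup of the stabiliser of `a` regular on the other points has order `|Ω| - 1` -/
theorem card_of_regular [Finite G] [Finite Ω] {a b : Ω} (hab : a ≠ b)
    (N : Subgroup G) (hNa : N ≤ stabilizer G a)
    (hreg : ∀ y z : Ω, y ≠ a → z ≠ a → ∃! u : N, (u : G) • y = z) :
    Nat.card Ω = Nat.card N + 1 := by
  classical
  have hNfix : ∀ u ∈ N, u • a = a := fun u hu => mem_stabilizer_iff.1 (hNa hu)
  have hNb : ∀ u ∈ N, u • b ≠ a := by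
    intro u hu h
    have : u • b = u • a := by rw [h, hNfix u hu]
    exact hab (MulAction.injective u this).symm
  let f : Option N → Ω := fun o => match o with
    | none => a
    | some u => (u : G) • b
  have hf : Function.Bijective f := by
    constructor
    · intro o o' hoo
      cases o with
      | none =>
        cases o' with
        | none => rfl
        | some u' => exact absurd hoo.symm (hNb u' u'.2)
      | some u =>
        cases o' with
        | none => exact absurd hoo (hNb u u.2)
        | some u' =>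
          have := (hreg b ((u' : G) • b) hab.symm (hNb u' u'.2)).unique (y₁ := u) (y₂ := u')
            hoo rfl
          rw [this]
    · intro w
      by_cases hw : w = a
      · exact ⟨none, hw.symm⟩
      · obtain ⟨u, hu, _⟩ := hreg b w hab.symm hw
        exact ⟨some u, hu⟩
  have hfinN : Fintype N := Fintype.ofFinite N
  rw [← Nat.card_congr (Equiv.ofBijective f hf), Nat.card_eq_fintype_card,
    Fintype.card_option, ← Nat.card_eq_fintype_card]

/-- **Zassenhaus' theorem**: identification of `PSL(2, K)`. -/
theorem psl_of_data [Finite G] [Finite Ω] [FaithfulSMul G Ω]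
    (h2 : IsMultiplyPretransitive G Ω 2)
    (h3 : ∀ g : G, ∀ x y z : Ω, x ≠ y → y ≠ z → x ≠ z → g • x = x → g • y = y → g • z = z →
      g = 1)
    {a b : Ω} (hab : a ≠ b)
    (N : Subgroup G) (hNa : N ≤ stabilizer G a)
    (hreg : ∀ y z : Ω, y ≠ a → z ≠ a → ∃! u : N, (u : G) • y = z)
    (hNcomm : ∀ u ∈ N, ∀ v ∈ N, u * v = v * u)
    (hnorm : ∀ h ∈ stabilizer G a ⊓ stabilizer G b, ∀ u ∈ N, h * u * h⁻¹ ∈ N)
    (hcard : Nat.card N = 2 * Nat.card ↥(stabilizer G a ⊓ stabilizer G b) + 1)
    (t : G) (hta : t • a = b) (htb : t • b = a) (htt : t * t = 1)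
    (htinv : ∀ h ∈ stabilizer G a ⊓ stabilizer G b, t * h * t = h⁻¹) :
    ∃ (K : Type u) (_ : Field K) (_ : Fintype K),
      Fintype.card K = Nat.card N ∧
      Nonempty (G ≃* Matrix.ProjectiveSpecialLinearGroup (Fin 2) K) := by
  classical
  obtain ⟨K, hKf, hKfin, P, S, hKcard, hP0, hPinj, hPa, hcover, hS2, hT, hM, hStab, hτS⟩ :=
    coords_exist h3 hab N hNa hreg hNcomm hnorm hcard t htt htinv
  have hW := exists_inversion a P hPinj hPa hcover S hS2 hT hM hStab t
    (by rw [hP0]; exact hta) (by rw [hP0]; exact htb) htt hτS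
  have hfinK : Fintype K := Fintype.ofFinite K
  have hq : Fintype.card K = 2 * Nat.card ↥(stabilizer G a ⊓ stabilizer G b) + 1 := by
    rw [← Nat.card_eq_fintype_card, hKcard, hcard]
  refine ⟨K, hKf, hfinK, by rw [← Nat.card_eq_fintype_card, hKcard], ?_⟩
  set d := Nat.card ↥(stabilizer G a ⊓ stabilizer G b) with hd
  -- `2 ≠ 0`
  have h2K : (2 : K) ≠ 0 := by
    apply Ring.two_ne_zero
    intro hchar
    have := FiniteField.even_card_of_char_two hchar
    omega
  -- the order of `G`
  have hΩcard : Nat.card Ω = Nat.card N + 1 := card_of_regular hab N hNa hreg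
  have hGcard : Nat.card G = (Nat.card N + 1) * (Nat.card N * d) := by
    have hpre : IsPretransitive G Ω := MulAction.isPretransitive_of_is_two_pretransitive
    have e1 := card_eq_of_transitive_on (⊤ : Subgroup G) (Set.univ : Set Ω)
      (fun _ _ _ _ => Set.mem_univ _)
      (fun x _ y _ => by
        obtain ⟨g, hg⟩ := MulAction.exists_smul_eq G x y
        exact ⟨g, Subgroup.mem_top g, hg⟩) a (Set.mem_univ a)
    rw [Subgroup.card_top, top_inf_eq, Set.ncard_univ, hΩcard] at e1
    have e2 := card_eq_of_transitive_on (stabilizer G a) ({a}ᶜ : Set Ω)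
      (by
        intro m hm x hx
        rw [Set.mem_compl_iff, Set.mem_singleton_iff] at hx ⊢
        intro h
        apply hx
        have : m • x = m • a := by rw [h, mem_stabilizer_iff.1 hm]
        exact MulAction.injective m this)
      (by
        intro x hx y hy
        rw [Set.mem_compl_iff, Set.mem_singleton_iff] at hx hy
        obtain ⟨g, hg1, hg2⟩ := two_trans (Γ := G) a x a y (Ne.symm hx) (Ne.symm hy)
        exact ⟨g, mem_stabilizer_iff.2 hg1, hg2⟩) b (by
          rw [Set.mem_compl_iff, Set.mem_singleton_iff]; exact hab.symm)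
    have e3 : ({a}ᶜ : Set Ω).ncard = Nat.card N := by
      rw [Set.ncard_compl, Set.ncard_singleton, hΩcard]
      omega
    rw [e3, ← hd] at e2
    rw [e1, e2]
  have hNd : Nat.card N = 2 * d + 1 := hcard
  apply iso_psl_of_coords h2K a P hPinj hPa hcover hT hW
  rw [hGcard, hq, hNd]
  have e1 : (2 * d + 1) ^ 2 - 1 = 4 * d ^ 2 + 4 * d := by
    have : (2 * d + 1) ^ 2 = 4 * d ^ 2 + 4 * d + 1 := by ring
    omega
  have e2 : (2 * d + 1) ^ 2 - (2 * d + 1) = 4 * d ^ 2 + 2 * d := by
    have : (2 * d + 1) ^ 2 = 4 * d ^ 2 + 2 * d + (2 * d + 1) := by ring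
    omega
  have e3 : 2 * d + 1 - 1 = 2 * d := by omega
  rw [e1, e2, e3]
  ring

end core

end Cfsg.Agent.Lib.Helper59_ZassPSL
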