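import Mathlib
import Cfsg.Agent.Lib.Helper59_PrimeDeg
import Cfsg.Agent.Lib.Helper59_ZassPSL

/-!
# Transitive groups of degree `p + 1`, order `(p + 1) p d`, `d < p`: the affine case (helper59)

If such a group (with `p` odd) has a regular normal subgroup `R`, then `p + 1 = 2 ^ q` with `q` prime,
`d = 1` or `d = q`, and the group is permutation isomorphic to a group of semi-affine maps of the
field with `2 ^ q` elements.
-/

set_option autoImplicit false

namespace Cfsg.Agent.Lib.Helper59_PrimeDegAff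

open MulAction Cfsg.Agent.Lib.Helper59_PrimeDeg Cfsg.Agent.Lib.Helper59_ZassPSL

universe u v

variable {Γ : Type u} {Ω : Type v} [Group Γ] [MulAction Γ Ω] {p d : ℕ}

/-- basic facts on a regular normal subgroup -/
theorem regular_normal_facts [Finite Γ] [Finite Ω] (h : Hyp Γ Ω p d) (hp2 : p ≠ 2)
    (R : Subgroup Γ) (hRn : R.Normal)
    (hRt : ∀ x y : Ω, ∃ r ∈ R, r • x = y) (hRs : ∀ r ∈ R, ∀ c : Ω, r • c = c → r = 1) (a : Ω)
    (N : Subgroup Γ) (hNa : N ≤ stabilizer Γ a)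
    (hreg : ∀ y z : Ω, y ≠ a → z ≠ a → ∃! u : N, (u : Γ) • y = z) :
    Nat.card R = p + 1 ∧
      (∀ r ∈ R, ∀ r' ∈ R, r ≠ 1 → r' ≠ 1 → ∃ n ∈ N, n * r * n⁻¹ = r') ∧
      (∀ r ∈ R, r * r = 1) := by
  classical
  have huniq : ∀ r ∈ R, ∀ r' ∈ R, r • a = r' • a → r = r' := by
    intro r hr r' hr' hrr
    have h1 : (r'⁻¹ * r) • a = a := by rw [mul_smul, hrr, inv_smul_smul]
    have h2 := hRs _ (R.mul_mem (R.inv_mem hr') hr) a h1
    calc r = r' * (r'⁻¹ * r) := by group
      _ = r' := by rw [h2, mul_one]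
  have hcard : Nat.card R = p + 1 := by
    rw [← h.cardΩ]
    apply Nat.card_congr
    refine Equiv.ofBijective (fun r : R => (r : Γ) • a) ⟨?_, ?_⟩
    · intro r r' hrr
      exact Subtype.ext (huniq r r.2 r' r'.2 hrr)
    · intro y
      obtain ⟨r, hr, hry⟩ := hRt a y
      exact ⟨⟨r, hr⟩, hry⟩
  have hconj : ∀ r ∈ R, ∀ r' ∈ R, r ≠ 1 → r' ≠ 1 → ∃ n ∈ N, n * r * n⁻¹ = r' := by
    intro r hr r' hr' hr1 hr'1
    have hra : r • a ≠ a := fun hh => hr1 (hRs r hr a hh)
    have hr'a : r' • a ≠ a := fun hh => hr'1 (hRs r' hr' a hh)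
    obtain ⟨n, hn, _⟩ := hreg (r • a) (r' • a) hra hr'a
    refine ⟨n, n.2, ?_⟩
    have hna : (n : Γ) • a = a := mem_stabilizer_iff.1 (hNa n.2)
    apply huniq _ (hRn.conj_mem r hr n) r' hr'
    rw [mul_smul, mul_smul, inv_smul_eq_iff.2 hna.symm, hn]
  refine ⟨hcard, hconj, ?_⟩
  -- an involution
  have hodd : Odd p := h.prime.odd_of_ne_two hp2
  have h2dvd : 2 ∣ Nat.card R := by
    rw [hcard]
    obtain ⟨k, hk⟩ := hodd
    exact ⟨k + 1, by omega⟩
  have : Fact (Nat.Prime 2) := ⟨Nat.prime_two⟩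
  obtain ⟨t, ht⟩ := exists_prime_orderOf_dvd_card' (G := R) 2 h2dvd
  have ht1 : (t : Γ) ≠ 1 := by
    intro h1
    have : t = 1 := Subtype.ext h1
    rw [this, orderOf_one] at ht
    omega
  have htt : (t : Γ) * (t : Γ) = 1 := by
    have := pow_orderOf_eq_one t
    rw [ht, pow_two] at this
    exact congrArg Subtype.val this
  intro r hr
  by_cases hr1 : r = 1
  · rw [hr1, one_mul]
  · obtain ⟨n, _, hn⟩ := hconj (t : Γ) t.2 r hr ht1 hr1
    rw [← hn]
    calc n * (t : Γ) * n⁻¹ * (n * (t : Γ) * n⁻¹) = n * ((t : Γ) * (t : Γ)) * n⁻¹ := by group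
      _ = 1 := by rw [htt]; group

/-- the degree is `2 ^ q` with `q` prime -/
theorem card_eq_two_pow [Finite Γ] (h : Hyp Γ Ω p d) (R : Subgroup Γ)
    (hcard : Nat.card R = p + 1) (hinv : ∀ r ∈ R, r * r = 1) :
    ∃ q : ℕ, q.Prime ∧ p + 1 = 2 ^ q := by
  have hpg : IsPGroup 2 R := by
    intro r
    refine ⟨1, ?_⟩
    rw [pow_one, pow_two]
    exact Subtype.ext (hinv r r.2)
  obtain ⟨k, hk⟩ := hpg.exists_card_eq
  rw [hcard] at hk
  have hk1 : k ≠ 1 := by
    rintro rfl
    have := h.prime.two_le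
    omega
  have hpr : (2 ^ k - 1).Prime := by
    have : 2 ^ k - 1 = p := by omega
    rw [this]
    exact h.prime
  exact ⟨k, (Nat.prime_of_pow_sub_one_prime hk1 hpr).2, hk⟩

/-- **field coordinates** for a group with a regular normal elementary abelian subgroup `R` and a
cyclic subgroup `N` of the point stabiliser permuting the non-identity elements of `R` regularly -/
theorem exists_coords [Finite Γ] [Finite Ω] (h : Hyp Γ Ω p d)
    (R : Subgroup Γ) (hRn : R.Normal)
    (hRt : ∀ x y : Ω, ∃ r ∈ R, r • x = y) (hRs : ∀ r ∈ R, ∀ c : Ω, r • c = c → r = 1) (a : Ω)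
    (N : Subgroup Γ) (hNa : N ≤ stabilizer Γ a) (hNcard : Nat.card N = p)
    (hNcomm : ∀ n ∈ N, ∀ m ∈ N, n * m = m * n)
    (hNnorm : ∀ g ∈ stabilizer Γ a, ∀ n ∈ N, g * n * g⁻¹ ∈ N)
    (hreg : ∀ y z : Ω, y ≠ a → z ≠ a → ∃! u : N, (u : Γ) • y = z)
    (hcard : Nat.card R = p + 1)
    (hconj : ∀ r ∈ R, ∀ r' ∈ R, r ≠ 1 → r' ≠ 1 → ∃ n ∈ N, n * r * n⁻¹ = r')
    (hinv : ∀ r ∈ R, r * r = 1) :
    ∃ (K : Type u) (_ : Field K) (_ : Finite K) (e : Ω ≃ K), Nat.card K = p + 1 ∧ e a = 0 ∧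
      (∀ g : Γ, ∃ (c : Kˣ) (b : K) (φ : K ≃+* K), ∀ x, e (g • x) = (c : K) * φ (e x) + b) ∧
      (∀ g : Γ, g • a = a → g • (e.symm 1) = e.symm 1 →
        ∃ φ : K ≃+* K, ∀ x, e (g • x) = φ (e x)) := by
  classical
  have hRcomm : ∀ r ∈ R, ∀ s ∈ R, r * s = s * r := by
    intro r hr s hs
    have hr' : r⁻¹ = r := inv_eq_of_mul_eq_one_right (hinv r hr)
    have hs' : s⁻¹ = s := inv_eq_of_mul_eq_one_right (hinv s hs)
    have hrs' : (r * s)⁻¹ = r * s := inv_eq_of_mul_eq_one_right (hinv _ (R.mul_mem hr hs))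
    calc r * s = (r * s)⁻¹ := hrs'.symm
      _ = s⁻¹ * r⁻¹ := mul_inv_rev _ _
      _ = s * r := by rw [hs', hr']
  have huniq : ∀ r ∈ R, ∀ r' ∈ R, r • a = r' • a → r = r' := by
    intro r hr r' hr' hrr
    have h1 : (r'⁻¹ * r) • a = a := by rw [mul_smul, hrr, inv_smul_smul]
    have h2 := hRs _ (R.mul_mem (R.inv_mem hr') hr) a h1
    calc r = r' * (r'⁻¹ * r) := by group
      _ = r' := by rw [h2, mul_one]
  let _ : CommGroup R := commGroupOf R hRcomm
  have hnormR : ∀ g ∈ stabilizer Γ a, ∀ r ∈ R, g * r * g⁻¹ ∈ R :=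
    fun g _ r hr => hRn.conj_mem r hr g
  have hnormRN : ∀ n ∈ N, ∀ r ∈ R, n * r * n⁻¹ ∈ R := fun n _ r hr => hRn.conj_mem r hr n
  let actS : stabilizer Γ a →* AddMonoid.End (Additive R) := conjHom R (stabilizer Γ a) hnormR
  let actN : N →* AddMonoid.End (Additive R) := conjHom R N hnormRN
  have hactS_apply : ∀ (g : stabilizer Γ a) (v : Additive R),
      ((Additive.toMul (actS g v) : R) : Γ) =
        (g : Γ) * ((Additive.toMul v : R) : Γ) * (g : Γ)⁻¹ := fun _ _ => rfl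
  have hactN_apply : ∀ (n : N) (v : Additive R),
      ((Additive.toMul (actN n v) : R) : Γ) =
        (n : Γ) * ((Additive.toMul v : R) : Γ) * (n : Γ)⁻¹ := fun _ _ => rfl
  have hactcomm : ∀ n n' : N, actN n * actN n' = actN n' * actN n := by
    intro n n'
    rw [← map_mul, ← map_mul]
    congr 1
    exact Subtype.ext (hNcomm n n.2 n' n'.2)
  have hne0 : ∀ v : Additive R, v ≠ 0 → ((Additive.toMul v : R) : Γ) ≠ 1 := by
    intro v hv h1
    apply hv
    apply Additive.toMul.injective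
    exact Subtype.ext h1
  have hirr : ∀ W : AddSubgroup (Additive R),
      (∀ (n : N) (w : Additive R), w ∈ W → actN n w ∈ W) → W = ⊥ ∨ W = ⊤ := by
    intro W hW
    by_cases hbot : W = ⊥
    · exact Or.inl hbot
    right
    obtain ⟨w0, hw0, hw0ne⟩ : ∃ w ∈ W, w ≠ 0 := by
      by_contra hcon
      push Not at hcon
      exact hbot ((AddSubgroup.eq_bot_iff_forall W).2 hcon)
    rw [eq_top_iff]
    intro v _
    by_cases hv : v = 0
    · rw [hv]; exact W.zero_mem
    · obtain ⟨n, hn, hnv⟩ := hconj _ (Additive.toMul w0 : R).2 _ (Additive.toMul v : R).2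
        (hne0 w0 hw0ne) (hne0 v hv)
      have : actN ⟨n, hn⟩ w0 = v := by
        apply Additive.toMul.injective
        apply Subtype.ext
        rw [hactN_apply]
        exact hnv
      rw [← this]
      exact hW _ _ hw0
  have hVcard : Nat.card (Additive R) = p + 1 := by
    rw [← hcard]
    exact Nat.card_congr Additive.toMul
  have hfinV : Finite (Additive R) := inferInstance
  have hntV : Nontrivial (Additive R) := by
    rw [← Finite.one_lt_card_iff_nontrivial, hVcard]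
    have := h.prime.two_le
    omega
  obtain ⟨K, hKf, hKfin, ev, φ, hev⟩ := exists_field_of_irreducible actN hactcomm hirr
  have hKcard : Nat.card K = p + 1 := by
    rw [← hVcard]
    exact Nat.card_congr ev.toEquiv
  -- the coordinate map
  let β : K → Ω := fun k => ((Additive.toMul (ev k) : R) : Γ) • a
  have hβ_def : ∀ k, β k = ((Additive.toMul (ev k) : R) : Γ) • a := fun _ => rfl
  have hβbij : Function.Bijective β := by
    constructor
    · intro k k' hkk
      have := huniq _ (Additive.toMul (ev k) : R).2 _ (Additive.toMul (ev k') : R).2 hkk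
      have h2 : Additive.toMul (ev k) = Additive.toMul (ev k') := Subtype.ext this
      exact ev.injective (Additive.toMul.injective h2)
    · intro y
      obtain ⟨r, hr, hry⟩ := hRt a y
      refine ⟨ev.symm (Additive.ofMul ⟨r, hr⟩), ?_⟩
      rw [hβ_def, AddEquiv.apply_symm_apply]
      exact hry
  let e : Ω ≃ K := (Equiv.ofBijective β hβbij).symm
  have heβ : ∀ k, e (β k) = k := fun k => (Equiv.ofBijective β hβbij).symm_apply_apply k
  have hβe : ∀ x, β (e x) = x := fun x => (Equiv.ofBijective β hβbij).apply_symm_apply x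
  have hesymm : ∀ k, e.symm k = β k := fun _ => rfl
  have hβ0 : β 0 = a := by
    rw [hβ_def, map_zero]
    exact one_smul _ _
  -- action of `R`
  have hRβ : ∀ r₀ (hr₀ : r₀ ∈ R) (k : K),
      r₀ • β k = β (ev.symm (Additive.ofMul ⟨r₀, hr₀⟩) + k) := by
    intro r₀ hr₀ k
    rw [hβ_def, hβ_def, map_add, AddEquiv.apply_symm_apply, ← mul_smul]
    rfl
  -- action of the stabiliser
  let S : stabilizer Γ a → K → K := fun g k => ev.symm (actS g (ev k))
  have hS_def : ∀ g k, S g k = ev.symm (actS g (ev k)) := fun _ _ => rfl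
  have hSβ : ∀ (g : stabilizer Γ a) (k : K), (g : Γ) • β k = β (S g k) := by
    intro g k
    have hga : (g : Γ) • a = a := mem_stabilizer_iff.1 g.2
    rw [hβ_def, hβ_def, hS_def, AddEquiv.apply_symm_apply, hactS_apply, mul_smul, mul_smul,
      inv_smul_eq_iff.2 hga.symm]
  have hS_add : ∀ g k k', S g (k + k') = S g k + S g k' := by
    intro g k k'
    rw [hS_def, hS_def, hS_def, map_add, map_add, map_add]
  have hS_zero : ∀ g, S g 0 = 0 := by
    intro g
    rw [hS_def, map_zero, map_zero, map_zero]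
  have hS_inj : ∀ g, Function.Injective (S g) := by
    intro g k k' hkk
    have h1 : (g : Γ) • β k = (g : Γ) • β k' := by rw [hSβ, hSβ, hkk]
    exact hβbij.1 (smul_left_cancel _ h1)
  -- compatibility with `N`
  have hSN : ∀ (g : stabilizer Γ a) (n : N) (k : K),
      S g (φ n * k) = φ ⟨(g : Γ) * (n : Γ) * (g : Γ)⁻¹, hNnorm g g.2 n n.2⟩ * S g k := by
    intro g n k
    have e1 : ev (φ n * k) = actN n (ev k) := (hev n k).symm
    have e2 : ev (φ ⟨(g : Γ) * (n : Γ) * (g : Γ)⁻¹, hNnorm g g.2 n n.2⟩ * S g k) =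
        actN ⟨(g : Γ) * (n : Γ) * (g : Γ)⁻¹, hNnorm g g.2 n n.2⟩ (ev (S g k)) :=
      (hev _ (S g k)).symm
    have e3 : ev (S g k) = actS g (ev k) := by rw [hS_def, AddEquiv.apply_symm_apply]
    have e4 : ev (S g (φ n * k)) = actS g (ev (φ n * k)) := by
      rw [hS_def, AddEquiv.apply_symm_apply]
    apply ev.injective
    rw [e4, e1, e2, e3]
    apply Additive.toMul.injective
    apply Subtype.ext
    rw [hactS_apply, hactN_apply, hactN_apply, hactS_apply]
    simp only []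
    group
  -- `φ` takes all non-zero values
  have hφne : ∀ n : N, φ n ≠ 0 := by
    intro n h0
    have h1 := hev n 1
    rw [h0, zero_mul, map_zero] at h1
    have h2 : ((Additive.toMul (actN n (ev 1)) : R) : Γ) = 1 := by rw [h1]; rfl
    rw [hactN_apply] at h2
    have h3 : ((Additive.toMul (ev 1) : R) : Γ) = 1 := by
      calc ((Additive.toMul (ev 1) : R) : Γ)
          = (n : Γ)⁻¹ * ((n : Γ) * ((Additive.toMul (ev 1) : R) : Γ) * (n : Γ)⁻¹) * (n : Γ) := by
            group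
        _ = 1 := by rw [h2]; group
    have h4 : ev 1 = 0 := by
      apply Additive.toMul.injective
      exact Subtype.ext h3
    have h5 : ev 1 = ev 0 := by rw [h4, map_zero]
    exact one_ne_zero (ev.injective h5)
  have hr1 : ((Additive.toMul (ev 1) : R) : Γ) ≠ 1 := by
    apply hne0
    intro h0
    have h5 : ev 1 = ev 0 := by rw [h0, map_zero]
    exact one_ne_zero (ev.injective h5)
  have hφinj : Function.Injective φ := by
    intro n n' hnn
    have h1 : actN n (ev 1) = actN n' (ev 1) := by rw [hev, hev, hnn]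
    have h2 : ((Additive.toMul (actN n (ev 1)) : R) : Γ) =
        ((Additive.toMul (actN n' (ev 1)) : R) : Γ) := by rw [h1]
    rw [hactN_apply, hactN_apply] at h2
    set r₁ : Γ := ((Additive.toMul (ev 1) : R) : Γ) with hr₁
    have hr₁R : r₁ ∈ R := (Additive.toMul (ev 1) : R).2
    have hra : r₁ • a ≠ a := fun hh => hr1 (hRs r₁ hr₁R a hh)
    obtain ⟨w, _, hwuniq⟩ := hreg (r₁ • a) (r₁ • a) hra hra
    have hna : ((n' : Γ)⁻¹ * (n : Γ)) • a = a :=
      mem_stabilizer_iff.1 (hNa (N.mul_mem (N.inv_mem n'.2) n.2))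
    have h3 : ((n' : Γ)⁻¹ * (n : Γ)) • (r₁ • a) = r₁ • a := by
      have e1 : ((n' : Γ)⁻¹ * (n : Γ)) * r₁ * ((n' : Γ)⁻¹ * (n : Γ))⁻¹ = r₁ := by
        calc ((n' : Γ)⁻¹ * (n : Γ)) * r₁ * ((n' : Γ)⁻¹ * (n : Γ))⁻¹
            = (n' : Γ)⁻¹ * ((n : Γ) * r₁ * (n : Γ)⁻¹) * (n' : Γ) := by group
          _ = r₁ := by rw [h2]; group
      have e2 : ((n' : Γ)⁻¹ * (n : Γ)) * r₁ = r₁ * ((n' : Γ)⁻¹ * (n : Γ)) := by
        calc ((n' : Γ)⁻¹ * (n : Γ)) * r₁
            = (((n' : Γ)⁻¹ * (n : Γ)) * r₁ * ((n' : Γ)⁻¹ * (n : Γ))⁻¹) * ((n' : Γ)⁻¹ * (n : Γ)) := by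
              group
          _ = r₁ * ((n' : Γ)⁻¹ * (n : Γ)) := by rw [e1]
      rw [← mul_smul, e2, mul_smul, hna]
    have h4 := hwuniq ⟨_, N.mul_mem (N.inv_mem n'.2) n.2⟩ h3
    have h5 := hwuniq 1 (one_smul _ _)
    have h6 : (n' : Γ)⁻¹ * (n : Γ) = 1 := congrArg Subtype.val (h4.trans h5.symm)
    apply Subtype.ext
    calc (n : Γ) = (n' : Γ) * ((n' : Γ)⁻¹ * (n : Γ)) := by group
      _ = (n' : Γ) := by rw [h6, mul_one]
  have hφsurj : ∀ k : K, k ≠ 0 → ∃ n : N, φ n = k := by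
    have hfinK : Fintype K := Fintype.ofFinite K
    let f : N → {k : K // k ≠ 0} := fun n => ⟨φ n, hφne n⟩
    have hfinj : Function.Injective f := fun n n' hnn => hφinj (congrArg Subtype.val hnn)
    have hc : Nat.card {k : K // k ≠ 0} = p := by
      have := hKcard
      rw [Nat.card_eq_fintype_card] at this ⊢
      rw [Fintype.card_subtype_compl, Fintype.card_subtype_eq]
      omega
    have hfbij : Function.Bijective f :=
      hfinj.bijective_of_nat_card_le (by rw [hc, hNcard])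
    intro k hk
    obtain ⟨n, hn⟩ := hfbij.2 ⟨k, hk⟩
    exact ⟨n, congrArg Subtype.val hn⟩
  -- the semilinear description of the stabiliser
  have hsemi : ∀ g : stabilizer Γ a, ∃ ψ : K ≃+* K, ∀ k, S g k = S g 1 * ψ k := by
    intro g
    have hc0 : S g 1 ≠ 0 := by
      intro h0
      have := hS_inj g (h0.trans (hS_zero g).symm)
      exact one_ne_zero this
    let ψ0 : K → K := fun k => (S g 1)⁻¹ * S g k
    have hψ0_def : ∀ k, ψ0 k = (S g 1)⁻¹ * S g k := fun _ => rfl
    have hψ1 : ψ0 1 = 1 := by rw [hψ0_def, inv_mul_cancel₀ hc0]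
    have hψadd : ∀ k k', ψ0 (k + k') = ψ0 k + ψ0 k' := by
      intro k k'
      rw [hψ0_def, hψ0_def, hψ0_def, hS_add, mul_add]
    have hψ0 : ψ0 0 = 0 := by rw [hψ0_def, hS_zero, mul_zero]
    have hψφ : ∀ (n : N) (k : K), ψ0 (φ n * k) =
        φ ⟨(g : Γ) * (n : Γ) * (g : Γ)⁻¹, hNnorm g g.2 n n.2⟩ * ψ0 k := by
      intro n k
      rw [hψ0_def, hψ0_def, hSN]
      ring
    have hψmul : ∀ k k', ψ0 (k * k') = ψ0 k * ψ0 k' := by
      intro k k'
      by_cases hk : k = 0
      · rw [hk, zero_mul, hψ0, zero_mul]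
      · obtain ⟨n, rfl⟩ := hφsurj k hk
        have e1 := hψφ n k'
        have e2 := hψφ n 1
        rw [mul_one, hψ1, mul_one] at e2
        rw [e1, e2]
    let ψr : K →+* K :=
      { toFun := ψ0
        map_one' := hψ1
        map_mul' := hψmul
        map_zero' := hψ0
        map_add' := hψadd }
    have hψbij : Function.Bijective ψr :=
      ⟨ψr.injective, Finite.injective_iff_surjective.1 ψr.injective⟩
    refine ⟨RingEquiv.ofBijective ψr hψbij, ?_⟩
    intro k
    show S g k = S g 1 * ψ0 k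
    rw [hψ0_def, ← mul_assoc, mul_inv_cancel₀ hc0, one_mul]
  refine ⟨K, hKf, hKfin, e, hKcard, ?_, ?_, ?_⟩
  · rw [← hβ0, heβ]
  · intro γ
    obtain ⟨r₀, hr₀, hr₀a⟩ := hRt a (γ • a)
    have hg : r₀⁻¹ * γ ∈ stabilizer Γ a := by
      rw [mem_stabilizer_iff, mul_smul, inv_smul_eq_iff, hr₀a]
    obtain ⟨ψ, hψ⟩ := hsemi ⟨_, hg⟩
    have hc0 : S ⟨_, hg⟩ 1 ≠ 0 := by
      intro h0
      have := hS_inj ⟨_, hg⟩ (h0.trans (hS_zero _).symm)
      exact one_ne_zero this
    refine ⟨Units.mk0 _ hc0, ev.symm (Additive.ofMul ⟨r₀, hr₀⟩), ψ, ?_⟩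
    intro x
    have hx : γ • x = β (ev.symm (Additive.ofMul ⟨r₀, hr₀⟩) + S ⟨_, hg⟩ (e x)) := by
      rw [← hRβ r₀ hr₀, ← hSβ, hβe]
      show γ • x = r₀ • ((r₀⁻¹ * γ) • x)
      rw [← mul_smul]
      congr 1
      group
    rw [hx, heβ, hψ, Units.val_mk0, add_comm]
  · intro g hga hgb
    have hg : g ∈ stabilizer Γ a := mem_stabilizer_iff.2 hga
    obtain ⟨ψ, hψ⟩ := hsemi ⟨g, hg⟩
    have h1 : S ⟨g, hg⟩ 1 = 1 := by
      rw [hesymm] at hgb
      have := hSβ ⟨g, hg⟩ 1
      have h2 : β (S ⟨g, hg⟩ 1) = β 1 := by rw [← this]; exact hgb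
      exact hβbij.1 h2
    refine ⟨ψ, ?_⟩
    intro x
    have hx : g • x = β (S ⟨g, hg⟩ (e x)) := by
      rw [← hSβ, hβe]
    rw [hx, heβ, hψ, h1, one_mul]

/-- a group of ring automorphisms of a field with `2 ^ q` elements, `q` prime, has order `1` or
`q` (Artin) -/
theorem card_subgroup_ringAut {K : Type*} [Field K] [Finite K] {q : ℕ} (hq : q.Prime)
    (hK : Nat.card K = 2 ^ q) (A : Subgroup (RingAut K)) : Nat.card A = 1 ∨ Nat.card A = q := by
  classical
  have : Fintype K := Fintype.ofFinite K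
  have : Finite (RingAut K) :=
    Finite.of_injective (fun f : RingAut K => (f : K → K)) DFunLike.coe_injective
  have : Fintype A := Fintype.ofFinite A
  have h1 := FixedPoints.finrank_eq_card A K
  have : Fintype (FixedPoints.subfield A K) := Fintype.ofFinite _
  have h2 := Module.card_eq_pow_finrank (K := FixedPoints.subfield A K) (V := K)
  rw [h1, ← Nat.card_eq_fintype_card, hK, ← Nat.card_eq_fintype_card (α := A)] at h2
  set m := Fintype.card (FixedPoints.subfield A K) with hm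
  have hApos : 0 < Nat.card A := Nat.card_pos
  have hmdvd : m ∣ 2 ^ q := by
    rw [h2]
    exact dvd_pow_self m hApos.ne'
  obtain ⟨j, _, hj⟩ := (Nat.dvd_prime_pow Nat.prime_two).1 hmdvd
  rw [hj, ← pow_mul] at h2
  have h3 : q = j * Nat.card A := Nat.pow_right_injective (le_refl 2) h2
  have h4 : Nat.card A ∣ q := ⟨j, by rw [h3, mul_comm]⟩
  exact (Nat.dvd_prime hq).1 h4

/-- **the affine case**: a regular normal subgroup forces degree `2 ^ q`, `d ∈ {1, q}` and a
semi-affine action on the field with `2 ^ q` elements -/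
theorem semiaffine_of_regular_normal [Finite Γ] [Finite Ω] (h : Hyp Γ Ω p d) (hp2 : p ≠ 2)
    (R : Subgroup Γ) (hRn : R.Normal)
    (hRt : ∀ x y : Ω, ∃ r ∈ R, r • x = y) (hRs : ∀ r ∈ R, ∀ c : Ω, r • c = c → r = 1) :
    ∃ q : ℕ, q.Prime ∧ p + 1 = 2 ^ q ∧ (d = 1 ∨ d = q) ∧
      ∃ e : Ω ≃ GaloisField 2 q, ∀ g : Γ, ∃ (c : (GaloisField 2 q)ˣ) (b : GaloisField 2 q)
        (φ : GaloisField 2 q ≃+* GaloisField 2 q),
        ∀ x : Ω, e (g • x) = (c : GaloisField 2 q) * φ (e x) + b := by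
  classical
  have hfaith := h.faithful
  obtain ⟨a⟩ : Nonempty Ω := by
    have : 0 < Nat.card Ω := by rw [h.cardΩ]; omega
    exact (Nat.card_pos_iff.1 this).1
  obtain ⟨N, hNa, hNcard, hNnorm, hreg⟩ := exists_kernel h a
  have hpf : Fact p.Prime := ⟨h.prime⟩
  have hNcyc : IsCyclic N := isCyclic_of_prime_card hNcard
  have hNcomm : ∀ n ∈ N, ∀ m ∈ N, n * m = m * n := by
    intro n hn m hm
    have := (IsCyclic.isMulCommutative (α := N)).is_comm.comm ⟨n, hn⟩ ⟨m, hm⟩
    exact congrArg Subtype.val this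
  obtain ⟨hcard, hconj, hinv⟩ := regular_normal_facts h hp2 R hRn hRt hRs a N hNa hreg
  obtain ⟨q, hq, hpq⟩ := card_eq_two_pow h R hcard hinv
  obtain ⟨K, hKf, hKfin, e₀, hKcard, he₀a, hall, hfix⟩ :=
    exists_coords h R hRn hRt hRs a N hNa hNcard hNcomm hNnorm hreg hcard hconj hinv
  have hKcard' : Nat.card K = 2 ^ q := by rw [hKcard, hpq]
  refine ⟨q, hq, hpq, ?_, ?_⟩
  · -- the order of the two-point stabiliser
    set b₁ : Ω := e₀.symm 1 with hb₁
    have hab₁ : a ≠ b₁ := by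
      intro hh
      have : e₀ a = e₀ b₁ := by rw [← hh]
      rw [he₀a, hb₁, Equiv.apply_symm_apply] at this
      exact zero_ne_one this
    have hd := card_two_stab h hab₁
    set H : Subgroup Γ := stabilizer Γ a ⊓ stabilizer Γ b₁ with hH
    have hmemH : ∀ x : Γ, x ∈ H ↔ x • a = a ∧ x • b₁ = b₁ := by
      intro x; simp [hH, Subgroup.mem_inf, mem_stabilizer_iff]
    let A : Subgroup (RingAut K) :=
      { carrier := {φ | ∃ g ∈ H, ∀ x, e₀ (g • x) = φ (e₀ x)}
        one_mem' := ⟨1, H.one_mem, fun x => by rw [one_smul]; rfl⟩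
        mul_mem' := by
          rintro φ φ' ⟨g, hg, hgφ⟩ ⟨g', hg', hgφ'⟩
          refine ⟨g * g', H.mul_mem hg hg', fun x => ?_⟩
          rw [mul_smul, hgφ, hgφ']
          rfl
        inv_mem' := by
          rintro φ ⟨g, hg, hgφ⟩
          refine ⟨g⁻¹, H.inv_mem hg, fun x => ?_⟩
          have := hgφ (g⁻¹ • x)
          rw [smul_inv_smul] at this
          rw [this]
          exact (φ.symm_apply_apply _).symm }
    have hAmem : ∀ φ : RingAut K, φ ∈ A ↔ ∃ g ∈ H, ∀ x, e₀ (g • x) = φ (e₀ x) := fun _ => Iff.rfl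
    have hex : ∀ g : H, ∃ φ : RingAut K, ∀ x, e₀ ((g : Γ) • x) = φ (e₀ x) := by
      intro g
      obtain ⟨hga, hgb⟩ := (hmemH _).1 g.2
      exact hfix (g : Γ) hga hgb
    choose Φ hΦ using hex
    let f : H → A := fun g => ⟨Φ g, (hAmem _).2 ⟨g, g.2, hΦ g⟩⟩
    have hfbij : Function.Bijective f := by
      constructor
      · intro g g' hgg
        have h1 : Φ g = Φ g' := congrArg Subtype.val hgg
        apply Subtype.ext
        apply FaithfulSMul.eq_of_smul_eq_smul (α := Ω)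
        intro x
        apply e₀.injective
        rw [hΦ g, hΦ g', h1]
      · rintro ⟨φ, hφ⟩
        obtain ⟨g, hg, hgφ⟩ := (hAmem φ).1 hφ
        refine ⟨⟨g, hg⟩, ?_⟩
        apply Subtype.ext
        show Φ ⟨g, hg⟩ = φ
        apply RingEquiv.ext
        intro k
        have := hΦ ⟨g, hg⟩ (e₀.symm k)
        rw [hgφ, Equiv.apply_symm_apply] at this
        exact this.symm
    have hcardA : Nat.card A = d := by
      rw [← hd]
      exact (Nat.card_congr (Equiv.ofBijective f hfbij)).symm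
    have := card_subgroup_ringAut hq hKcard' A
    rwa [hcardA] at this
  · -- transport to the Galois field
    have hfinK : Fintype K := Fintype.ofFinite K
    have : Fact (Nat.Prime 2) := ⟨Nat.prime_two⟩
    have hfinGF : Fintype (GaloisField 2 q) := Fintype.ofFinite _
    have hcardeq : Fintype.card K = Fintype.card (GaloisField 2 q) := by
      rw [← Nat.card_eq_fintype_card, ← Nat.card_eq_fintype_card, hKcard',
        GaloisField.card 2 q hq.ne_zero]
    let ρ : K ≃+* GaloisField 2 q := FiniteField.ringEquivOfCardEq hcardeq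
    refine ⟨e₀.trans ρ.toEquiv, ?_⟩
    intro g
    obtain ⟨c, b, φ, hgx⟩ := hall g
    refine ⟨Units.map (ρ : K →* GaloisField 2 q) c, ρ b, (ρ.symm.trans φ).trans ρ, ?_⟩
    intro x
    show ρ (e₀ (g • x)) = ρ (c : K) * ρ (φ (ρ.symm (ρ (e₀ x)))) + ρ b
    rw [hgx, map_add, map_mul, RingEquiv.symm_apply_apply]

end Cfsg.Agent.Lib.Helper59_PrimeDegAff
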