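import Mathlib
import Cfsg.Agent.Lib.Helper6_Zassenhaus

/-!
# The Frobenius kernel of a point stabiliser of a Zassenhaus group (helper59)

Repackaging of helper6's `exists_K`: the point stabiliser `G_a` of a finite Zassenhaus group has a
normal subgroup acting regularly on the other points.
-/

set_option autoImplicit false

namespace Cfsg.Agent.Lib.Helper59_ZassKernel

open MulAction Cfsg Cfsg.Agent.Lib.Helper6_Zassenhaus

variable {G Ω : Type*} [Group G] [MulAction G Ω]

/-- the point stabiliser of a Zassenhaus group has a regular normal subgroup -/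
theorem exists_regular_normal [Finite Ω] (hZ : IsZassenhausGroup G Ω) (a : Ω) :
    ∃ N : Subgroup G, N ≤ stabilizer G a ∧ (N.subgroupOf (stabilizer G a)).Normal ∧
      ∀ y z : Ω, y ≠ a → z ≠ a → ∃! u : N, (u : G) • y = z := by
  obtain ⟨N, hNset, hNtr⟩ := exists_K (zhyp_of_isZassenhausGroup hZ) a
  have hNmem : ∀ g : G, g ∈ N ↔ g • a = a ∧ (g = 1 ∨ ∀ c, c ≠ a → g • c ≠ c) := by
    intro g
    rw [← SetLike.mem_coe, hNset]
    rfl
  refine ⟨N, ?_, ?_, ?_⟩
  · intro g hg
    exact mem_stabilizer_iff.2 ((hNmem g).1 hg).1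
  · constructor
    intro n hn g
    rw [Subgroup.mem_subgroupOf] at hn ⊢
    have hga : (g : G) • a = a := mem_stabilizer_iff.1 g.2
    obtain ⟨hna, hn'⟩ := (hNmem _).1 hn
    show (g : G) * (n : G) * ((g : G))⁻¹ ∈ N
    rw [hNmem]
    constructor
    · rw [mul_smul, mul_smul, inv_smul_eq_iff.2 hga.symm, hna, hga]
    · rcases hn' with h1 | hmove
      · left
        rw [h1]
        group
      · right
        intro c hc hfix
        have hc' : (g : G)⁻¹ • c ≠ a := by
          intro h
          apply hc
          rw [inv_smul_eq_iff] at h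
          rw [h, hga]
        apply hmove _ hc'
        rw [mul_smul, mul_smul] at hfix
        have h4 := congrArg (fun x => (g : G)⁻¹ • x) hfix
        simp only [inv_smul_smul] at h4
        exact h4
  · intro y z hy hz
    obtain ⟨k, hk, hkyz⟩ := hNtr y z hy hz
    refine ⟨⟨k, hk⟩, hkyz, ?_⟩
    rintro ⟨u, hu⟩ huyz
    have hmem : k⁻¹ * u ∈ N := N.mul_mem (N.inv_mem hk) hu
    have hfix : (k⁻¹ * u) • y = y := by
      have huyz' : u • y = z := huyz
      rw [mul_smul, huyz', inv_smul_eq_iff, hkyz]
    obtain ⟨_, h1 | hmove⟩ := (hNmem _).1 hmem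
    · apply Subtype.ext
      show u = k
      have : u = k * (k⁻¹ * u) := by group
      rw [this, h1, mul_one]
    · exact absurd hfix (hmove y hy)

end Cfsg.Agent.Lib.Helper59_ZassKernel
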