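import Mathlib
import Cfsg.Agent.S0738
import Cfsg.Agent.S0741
import Cfsg.Agent.Lib.Helper59_SharpTrans
import Cfsg.Agent.Lib.Helper59_ZassPSL
import Cfsg.Agent.Lib.Helper59_ZassKernel

/-!
# Zassenhaus groups: the order of the two-point stabiliser (helper59)

* `card_stab_dvd`: `|G_{ab}|` divides `n - 1` (degree `n + 1`).
* `stab_transitive_of_card`, `three_trans_of_card`: if `|G_{ab}| = n - 1` the group is sharply
  triply transitive.
* `even_cases`: if `|G_{ab}|` is even it is `n - 1` or `(n - 1) / 2`.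
-/

set_option autoImplicit false

namespace Cfsg.Agent.Lib.Helper59_ZassCases

open MulAction Cfsg Cfsg.Agent.Lib.Helper59_SharpTrans Cfsg.Agent.Lib.Helper59_ZassPSL

variable {G Ω : Type*} [Group G] [MulAction G Ω]

/-- the order of a two-point stabiliser of a Zassenhaus group of degree `n + 1` divides `n - 1` -/
theorem card_stab_dvd [Finite G] [Fintype Ω] (hZ : IsZassenhausGroup G Ω) {a b : Ω} (hab : a ≠ b) :
    Nat.card ↥(stabilizer G a ⊓ stabilizer G b) ∣ Fintype.card Ω - 2 := by
  classical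
  obtain ⟨N, hNle, hNn, hreg⟩ := Cfsg.Agent.Lib.Helper59_ZassKernel.exists_regular_normal hZ a
  obtain ⟨_, _, h3, _, _⟩ := hZ
  set H : Subgroup G := stabilizer G a ⊓ stabilizer G b with hH
  have hmemH : ∀ x : G, x ∈ H ↔ x • a = a ∧ x • b = b := by
    intro x; simp [hH, Subgroup.mem_inf, mem_stabilizer_iff]
  have hNfix : ∀ u ∈ N, u • a = a := fun u hu => mem_stabilizer_iff.1 (hNle hu)
  have hNb : ∀ u ∈ N, u • b ≠ a := by
    intro u hu h
    have : u • b = u • a := by rw [h, hNfix u hu]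
    exact hab (MulAction.injective u this).symm
  have huniq : ∀ u ∈ N, ∀ v ∈ N, u • b = v • b → u = v := by
    intro u hu v hv h
    have := (hreg b (v • b) hab.symm (hNb v hv)).unique (y₁ := ⟨u, hu⟩) (y₂ := ⟨v, hv⟩) h rfl
    exact congrArg Subtype.val this
  have hnorm : ∀ h ∈ H, ∀ u ∈ N, h * u * h⁻¹ ∈ N := by
    intro h hh u hu
    have hha : h ∈ stabilizer G a := mem_stabilizer_iff.2 ((hmemH h).1 hh).1
    have := hNn.conj_mem ⟨u, hNle hu⟩ (Subgroup.mem_subgroupOf.2 hu) ⟨h, hha⟩
    exact Subgroup.mem_subgroupOf.1 this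
  have hsemi : ∀ h ∈ H, ∀ u ∈ N, u ≠ 1 → h * u * h⁻¹ = u → h = 1 := by
    intro h hh u hu hu1 hc
    obtain ⟨ha, hb⟩ := (hmemH h).1 hh
    have hub : u • b ≠ b := by
      intro h'
      apply hu1
      exact huniq u hu 1 N.one_mem (by rw [h', one_smul])
    have hcm : h * u = u * h := by
      calc h * u = (h * u * h⁻¹) * h := by group
        _ = u * h := by rw [hc]
    have hfix : h • (u • b) = u • b := by
      rw [← mul_smul, hcm, mul_smul, hb]
    exact h3 h a b (u • b) hab (Ne.symm hub) (Ne.symm (hNb u hu)) ha hb hfix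
  have h1 := Cfsg.Agent.S0738.dvd_ncard N H hsemi ((N : Set G) \ {1})
    (fun x hx => ⟨hx.1, fun h => hx.2 (by simp [h])⟩)
    (by
      intro h hh x hx
      refine ⟨hnorm h hh x hx.1, fun hc => hx.2 ?_⟩
      have h2 : h * x * h⁻¹ = 1 := by simpa using hc
      have h3 : x = h⁻¹ * (h * x * h⁻¹) * h := by group
      have : x = 1 := by rw [h3, h2]; group
      simpa using this)
  have hc1 : ((N : Set G) \ {1}).ncard = Nat.card N - 1 := by
    rw [Set.ncard_sdiff (by simp [N.one_mem]) (Set.toFinite _), Set.ncard_singleton,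
      ← Nat.card_coe_set_eq]; rfl
  have hΩN : Nat.card Ω = Nat.card N + 1 := card_of_regular hab N hNle hreg
  rw [Nat.card_eq_fintype_card] at hΩN
  rw [hc1] at h1
  have : Nat.card N - 1 = Fintype.card Ω - 2 := by omega
  rwa [this] at h1

/-- if `|G_{ab}| = n - 1`, the two-point stabiliser is transitive on the remaining points -/
theorem stab_transitive_of_card [Finite G] [Fintype Ω]
    (h3 : ∀ g : G, ∀ x y z : Ω, x ≠ y → y ≠ z → x ≠ z → g • x = x → g • y = y → g • z = z →
      g = 1)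
    {a b : Ω} (hab : a ≠ b)
    (hcard : Nat.card ↥(stabilizer G a ⊓ stabilizer G b) = Fintype.card Ω - 2)
    (c c' : Ω) (hca : c ≠ a) (hcb : c ≠ b) (hca' : c' ≠ a) (hcb' : c' ≠ b) :
    ∃ h : G, h • a = a ∧ h • b = b ∧ h • c = c' := by
  classical
  set H : Subgroup G := stabilizer G a ⊓ stabilizer G b with hH
  have hmemH : ∀ x : G, x ∈ H ↔ x • a = a ∧ x • b = b := by
    intro x; simp [hH, Subgroup.mem_inf, mem_stabilizer_iff]
  -- the orbit map `H → Ω ∖ {a, b}` is injective, hence bijective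
  let f : H → {w : Ω // w ≠ a ∧ w ≠ b} := fun h => ⟨(h : G) • c, by
    obtain ⟨ha, hb⟩ := (hmemH h).1 h.2
    constructor
    · intro h'
      apply hca
      have : (h : G) • c = (h : G) • a := by rw [h', ha]
      exact MulAction.injective _ this
    · intro h'
      apply hcb
      have : (h : G) • c = (h : G) • b := by rw [h', hb]
      exact MulAction.injective _ this⟩
  have hf : Function.Injective f := by
    intro h h' hhh
    have e1 : (h : G) • c = (h' : G) • c := congrArg Subtype.val hhh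
    obtain ⟨ha, hb⟩ := (hmemH h).1 h.2
    obtain ⟨ha', hb'⟩ := (hmemH h').1 h'.2
    have e2 : ((h' : G)⁻¹ * (h : G)) = 1 := by
      apply h3 _ a b c hab (Ne.symm hcb) (Ne.symm hca)
      · rw [mul_smul, ha, inv_smul_eq_iff, ha']
      · rw [mul_smul, hb, inv_smul_eq_iff, hb']
      · rw [mul_smul, e1, inv_smul_smul]
    apply Subtype.ext
    have : (h : G) = (h' : G) * ((h' : G)⁻¹ * (h : G)) := by group
    rw [this, e2, mul_one]
  have hcardT : Fintype.card {w : Ω // w ≠ a ∧ w ≠ b} = Fintype.card Ω - 2 := by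
    rw [Fintype.card_subtype]
    have h1 : (Finset.univ.filter (fun w : Ω => w ≠ a ∧ w ≠ b)) = Finset.univ \ {a, b} := by
      ext w
      simp
    rw [h1, Finset.card_sdiff_of_subset (Finset.subset_univ _), Finset.card_univ,
      Finset.card_pair hab]
  have hfinH : Fintype H := Fintype.ofFinite H
  have hbij : Function.Bijective f := by
    rw [Fintype.bijective_iff_injective_and_card]
    refine ⟨hf, ?_⟩
    rw [hcardT, ← hcard, Nat.card_eq_fintype_card]
  obtain ⟨h, hh⟩ := hbij.2 ⟨c', hca', hcb'⟩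
  obtain ⟨ha, hb⟩ := (hmemH h).1 h.2
  exact ⟨h, ha, hb, congrArg Subtype.val hh⟩

/-- if `|G_{ab}| = n - 1`, the group is triply transitive -/
theorem three_trans_of_card [Finite G] [Fintype Ω] (h2 : IsMultiplyPretransitive G Ω 2)
    (h3 : ∀ g : G, ∀ x y z : Ω, x ≠ y → y ≠ z → x ≠ z → g • x = x → g • y = y → g • z = z →
      g = 1)
    {a b : Ω} (hab : a ≠ b)
    (hcard : Nat.card ↥(stabilizer G a ⊓ stabilizer G b) = Fintype.card Ω - 2) :
    IsMultiplyPretransitive G Ω 3 := by
  rw [MulAction.isMultiplyPretransitive_iff]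
  intro x y
  have hx01 : x 0 ≠ x 1 := fun h => by simpa using x.injective h
  have hx02 : x 0 ≠ x 2 := fun h => by simpa using x.injective h
  have hx12 : x 1 ≠ x 2 := fun h => by simpa using x.injective h
  have hy01 : y 0 ≠ y 1 := fun h => by simpa using y.injective h
  have hy02 : y 0 ≠ y 2 := fun h => by simpa using y.injective h
  have hy12 : y 1 ≠ y 2 := fun h => by simpa using y.injective h
  obtain ⟨g1, hg1a, hg1b⟩ := two_trans (Γ := G) (x 0) (x 1) a b hx01 hab
  obtain ⟨g2, hg2a, hg2b⟩ := two_trans (Γ := G) (y 0) (y 1) a b hy01 hab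
  obtain ⟨h, hha, hhb, hhc⟩ := stab_transitive_of_card h3 hab hcard (g1 • x 2) (g2 • y 2)
    (by rw [← hg1a]; exact fun h => hx02 (MulAction.injective g1 h).symm)
    (by rw [← hg1b]; exact fun h => hx12 (MulAction.injective g1 h).symm)
    (by rw [← hg2a]; exact fun h => hy02 (MulAction.injective g2 h).symm)
    (by rw [← hg2b]; exact fun h => hy12 (MulAction.injective g2 h).symm)
  refine ⟨g2⁻¹ * h * g1, ?_⟩
  ext i
  show (g2⁻¹ * h * g1) • x i = y i
  fin_cases i
  · show (g2⁻¹ * h * g1) • x 0 = y 0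
    rw [mul_smul, mul_smul, hg1a, hha, inv_smul_eq_iff, hg2a]
  · show (g2⁻¹ * h * g1) • x 1 = y 1
    rw [mul_smul, mul_smul, hg1b, hhb, inv_smul_eq_iff, hg2b]
  · show (g2⁻¹ * h * g1) • x 2 = y 2
    rw [mul_smul, mul_smul, hhc, inv_smul_smul]

/-- in a Zassenhaus group of degree `n + 1` with two-point stabilisers of even order `d`, either
`d = n - 1` or `2 d = n - 1` -/
theorem even_cases [Finite G] [Fintype Ω] (hZ : IsZassenhausGroup G Ω) {a b : Ω} (hab : a ≠ b)
    (heven : Even (Nat.card ↥(stabilizer G a ⊓ stabilizer G b))) :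
    Nat.card ↥(stabilizer G a ⊓ stabilizer G b) = Fintype.card Ω - 2 ∨
      2 * Nat.card ↥(stabilizer G a ⊓ stabilizer G b) = Fintype.card Ω - 2 := by
  have h1 := card_stab_dvd hZ hab
  have h2 := Cfsg.Agent.S0741.result hZ hab heven
  have hd : 0 < Nat.card ↥(stabilizer G a ⊓ stabilizer G b) := Nat.card_pos
  have h3 : 3 ≤ Fintype.card Ω := by
    classical
    obtain ⟨c, hca, hcb⟩ := Cfsg.Agent.Lib.Helper6_Zassenhaus.exists_third
      (Cfsg.Agent.Lib.Helper6_Zassenhaus.zhyp_of_isZassenhausGroup hZ) a b hab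
    have hsub : ({a, b, c} : Finset Ω) ⊆ Finset.univ := Finset.subset_univ _
    have hc3 : ({a, b, c} : Finset Ω).card = 3 := by
      rw [Finset.card_insert_of_notMem, Finset.card_pair (Ne.symm hcb)]
      simp only [Finset.mem_insert, Finset.mem_singleton, not_or]
      exact ⟨hab, Ne.symm hca⟩
    have := Finset.card_le_card hsub
    rwa [hc3, Finset.card_univ] at this
  obtain ⟨k, hk⟩ := h1
  rw [hk] at h2 ⊢
  rcases k with _ | _ | _ | k
  · exfalso; omega
  · left; omega
  · right; ring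
  · exfalso
    nlinarith

end Cfsg.Agent.Lib.Helper59_ZassCases
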