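import Mathlib
import Cfsg.Agent.Lib.Helper6_Zassenhaus

/-!
# Normal subgroups of Zassenhaus groups (helper59)

A non-trivial normal subgroup `M` of a finite Zassenhaus group `G` on `Ω` is again a Zassenhaus
group on `Ω` (`zassenhaus_of_normal`): it is doubly transitive because it contains the Frobenius
kernels of all point stabilisers, it contains non-identity elements fixing two points, and a regular
normal subgroup of `M` would be normal in `G` (all from helper6's `Helper6_Zassenhaus`).
-/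

set_option autoImplicit false

namespace Cfsg.Agent.Lib.Helper59_ZassNormal

open MulAction Cfsg Cfsg.Agent.Lib.Helper6_Zassenhaus

variable {G Ω : Type*} [Group G] [MulAction G Ω]

/-- a non-trivial normal subgroup of a Zassenhaus group is doubly transitive -/
theorem two_trans_of_normal [Finite Ω] (hZ : IsZassenhausGroup G Ω) (M : Subgroup G) [M.Normal]
    (hM : M ≠ ⊥) {a b c d : Ω} (hab : a ≠ b) (hcd : c ≠ d) :
    ∃ m ∈ M, m • a = c ∧ m • b = d := by
  have hz := zhyp_of_isZassenhausGroup hZ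
  obtain ⟨m₁, hm₁, hm₁a⟩ := normal_transitive hz M hM a c
  obtain ⟨K, hKset, hKtr⟩ := exists_K hz c
  have hKM : K ≤ M := K_le_normal hZ M hM c K hKset
  have h1 : m₁ • b ≠ c := by
    intro h
    apply hab
    rw [← hm₁a] at h
    exact (smul_left_cancel _ h).symm
  obtain ⟨k, hk, hkb⟩ := hKtr (m₁ • b) d h1 hcd.symm
  have hkc : k • c = c := by
    have : k ∈ Kset G c := by rw [← hKset]; exact hk
    exact this.1
  refine ⟨k * m₁, M.mul_mem (hKM hk) hm₁, ?_, ?_⟩
  · rw [mul_smul, hm₁a, hkc]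
  · rw [mul_smul, hkb]

/-- **a non-trivial normal subgroup of a Zassenhaus group is a Zassenhaus group** -/
theorem zassenhaus_of_normal [Finite Ω] (hZ : IsZassenhausGroup G Ω) (M : Subgroup G) [M.Normal]
    (hM : M ≠ ⊥) : IsZassenhausGroup M Ω := by
  have hz := zhyp_of_isZassenhausGroup hZ
  have hfaith := hZ.1
  have hfinG : Finite G := finite_of_finite hz
  refine ⟨inferInstance, ?_, ?_, ?_, ?_⟩
  · rw [MulAction.is_two_pretransitive_iff]
    intro a b c d hab hcd
    obtain ⟨m, hm, h1, h2⟩ := two_trans_of_normal hZ M hM hab hcd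
    exact ⟨⟨m, hm⟩, h1, h2⟩
  · intro g a b c hab hbc hac ha hb hc
    apply Subtype.ext
    exact hZ.2.2.1 (g : G) a b c hab hbc hac ha hb hc
  · obtain ⟨g, _, a, b, hab, _, _⟩ := hZ.2.2.2.1
    obtain ⟨h, hhM, hh1, hha, hhb⟩ := exists_fix_normal hZ M hM a b hab
    exact ⟨⟨h, hhM⟩, fun e => hh1 (congrArg Subtype.val e), a, b, hab, hha, hhb⟩
  · intro N hN hNtr
    by_contra hcon
    push Not at hcon
    obtain ⟨g₀, _, a₀, _, _, _, _⟩ := hZ.2.2.2.1
    have hne : Nonempty Ω := ⟨a₀⟩
    set L : Subgroup G := N.map M.subtype with hL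
    have hmemL : ∀ l : G, l ∈ L ↔ ∃ h : l ∈ M, (⟨l, h⟩ : M) ∈ N := by
      intro l
      rw [hL, Subgroup.mem_map]
      constructor
      · rintro ⟨x, hx, rfl⟩
        exact ⟨x.2, hx⟩
      · rintro ⟨h, hx⟩
        exact ⟨⟨l, h⟩, hx, rfl⟩
    have hreg : RegNormal M L Ω := by
      refine ⟨?_, ?_, ?_, ?_⟩
      · intro l hl
        obtain ⟨h, _⟩ := (hmemL l).1 hl
        exact h
      · intro n hn l hl
        obtain ⟨h, hx⟩ := (hmemL l).1 hl
        rw [hmemL]
        refine ⟨M.mul_mem (M.mul_mem hn h) (M.inv_mem hn), ?_⟩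
        have := hN.conj_mem ⟨l, h⟩ hx ⟨n, hn⟩
        exact this
      · intro x y
        obtain ⟨u, hu⟩ := hNtr.exists_smul_eq x y
        refine ⟨((u : M) : G), (hmemL _).2 ⟨(u : M).2, u.2⟩, hu⟩
      · intro l hl c hc
        obtain ⟨h, hx⟩ := (hmemL l).1 hl
        have hstab : (⟨⟨l, h⟩, hx⟩ : N) ∈ stabilizer N c := mem_stabilizer_iff.2 hc
        rw [hcon c, Subgroup.mem_bot] at hstab
        have := congrArg (fun u : N => ((u : M) : G)) hstab
        exact this
    have hLn : L.Normal :=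
      RegNormal.normal (fun hab hcd => two_trans_of_normal hZ M hM hab hcd) hreg
    obtain ⟨l, hl, hl1, c, hc⟩ := no_regular_normal hZ L hLn hreg.trans
    exact hl1 (hreg.semi l hl c hc)

end Cfsg.Agent.Lib.Helper59_ZassNormal
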