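import Mathlib
import Cfsg.Agent.Lib.Helper6_Zassenhaus
import Cfsg.Agent.Lib.Helper59_ZassNormal
import Cfsg.Agent.Lib.Helper59_ZassPSL
import Cfsg.Agent.Lib.Helper59_ZassCases
import Cfsg.Agent.Lib.Helper56_MobiusIso
import Cfsg.Agent.S0739
import Cfsg.Agent.S0742

/-!
# Zassenhaus groups with abelian kernel (helper59)

Assembly of the classification of Zassenhaus groups whose point stabiliser has an abelian regular
normal subgroup, relative to Feit's inequality in the "inverted" situation (`FeitAbHyp`, supplied by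
helper21's Frobenius-Schur argument).

* `qcompl_data`: a normal `q`-complement `K` (`q` dividing the order `e` of a two-point stabiliser)
  is non-trivial, proper, contains the kernel, and its two-point stabiliser has order prime to `q`
  dividing `e`.
* `kernel_subgroupOf`: the kernel data pass to such a `K`.
* `feit_abelian`: `|N| ≤ 2e + 1` for odd `e`, by induction over normal `q`-complements.
* `main`: sharply triply transitive or `PSL(2, K)`, `K` of odd characteristic.
-/

set_option autoImplicit false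

namespace Cfsg.Agent.Lib.Helper59_ZassAbel

open MulAction Cfsg Cfsg.Agent.Lib.Helper6_Zassenhaus Cfsg.Agent.Lib.Helper59_ZassNormal
  Cfsg.Agent.Lib.Helper59_ZassPSL Cfsg.Agent.Lib.Helper59_ZassCases

universe u v

/-- Feit's inequality for an abelian kernel when every element interchanging `a` and `b` inverts
the two-point stabiliser (the hypothesis against which the assembly is written). -/
def FeitAbHyp : Prop :=
  ∀ (G : Type u) (Ω : Type v) [Group G] [MulAction G Ω] [Finite G] [Finite Ω] [FaithfulSMul G Ω]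
    (_h2 : IsMultiplyPretransitive G Ω 2)
    (_h3 : ∀ g : G, ∀ x y z : Ω, x ≠ y → y ≠ z → x ≠ z → g • x = x → g • y = y → g • z = z →
      g = 1)
    (a b : Ω) (_hab : a ≠ b)
    (N : Subgroup G) (_hNa : N ≤ stabilizer G a)
    (_hreg : ∀ y z : Ω, y ≠ a → z ≠ a → ∃! u : N, (u : G) • y = z)
    (_hNcomm : ∀ u ∈ N, ∀ v ∈ N, u * v = v * u)
    (_hnorm : ∀ h ∈ stabilizer G a ⊓ stabilizer G b, ∀ u ∈ N, h * u * h⁻¹ ∈ N)
    (_hodd : Odd (Nat.card ↥(stabilizer G a ⊓ stabilizer G b)))
    (_hne : 1 < Nat.card ↥(stabilizer G a ⊓ stabilizer G b))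
    (_hinv : ∀ s : G, s • a = b → s • b = a → ∀ h ∈ stabilizer G a ⊓ stabilizer G b,
      s * h * s⁻¹ = h⁻¹),
    Nat.card N ≤ 2 * Nat.card ↥(stabilizer G a ⊓ stabilizer G b) + 1

variable {G : Type u} {Ω : Type v} [Group G] [MulAction G Ω]

/-- the two-point stabiliser of a subgroup embeds in that of the group -/
theorem card_stab_sub_dvd [Finite G] (K : Subgroup G) (a b : Ω) :
    Nat.card ↥(stabilizer K a ⊓ stabilizer K b) ∣
      Nat.card ↥(stabilizer G a ⊓ stabilizer G b) := by
  let f : ↥(stabilizer K a ⊓ stabilizer K b) →* ↥(stabilizer G a ⊓ stabilizer G b) :=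
    { toFun := fun u => ⟨((u : K) : G), by
        have hu := u.2
        rw [Subgroup.mem_inf, mem_stabilizer_iff, mem_stabilizer_iff] at hu ⊢
        exact hu⟩
      map_one' := rfl
      map_mul' := fun _ _ => rfl }
  apply Subgroup.card_dvd_of_injective f
  intro u w huw
  apply Subtype.ext
  apply Subtype.ext
  exact congrArg (fun x : ↥(stabilizer G a ⊓ stabilizer G b) => (x : G)) huw

/-- at least two points besides `a` -/
theorem two_le_card_kernel [Finite G] [Finite Ω] (hZ : IsZassenhausGroup G Ω) {a b : Ω}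
    (hab : a ≠ b) (N : Subgroup G)
    (hreg : ∀ y z : Ω, y ≠ a → z ≠ a → ∃! u : N, (u : G) • y = z) : 2 ≤ Nat.card N := by
  classical
  have hz := zhyp_of_isZassenhausGroup hZ
  obtain ⟨c, hca, hcb⟩ := exists_third hz a b hab
  obtain ⟨u, hu, _⟩ := hreg b c hab.symm hca
  have hu1 : u ≠ 1 := by
    intro h
    rw [h] at hu
    simp at hu
    exact hcb hu.symm
  have : Nontrivial N := ⟨⟨u, 1, hu1⟩⟩
  exact Finite.one_lt_card

/-- **data of a normal `q`-complement**, `q` a prime divisor of the order of a two-point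
stabiliser -/
theorem qcompl_data [Finite G] [Finite Ω] (hZ : IsZassenhausGroup G Ω) {a b : Ω} (hab : a ≠ b)
    (N : Subgroup G) (hNa : N ≤ stabilizer G a)
    (hreg : ∀ y z : Ω, y ≠ a → z ≠ a → ∃! u : N, (u : G) • y = z)
    {q : ℕ} (hq : q.Prime) (hqe : q ∣ Nat.card ↥(stabilizer G a ⊓ stabilizer G b))
    (K : Subgroup G) [K.Normal] (hK : K.index = q ^ (Nat.card G).factorization q) :
    K ≠ ⊥ ∧ Nat.card K < Nat.card G ∧ N ≤ K ∧
      ¬ q ∣ Nat.card ↥(stabilizer K a ⊓ stabilizer K b) := by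
  classical
  have hfinΩ : Fintype Ω := Fintype.ofFinite Ω
  have hGpos : Nat.card G ≠ 0 := Nat.card_pos.ne'
  have heG : Nat.card ↥(stabilizer G a ⊓ stabilizer G b) ∣ Nat.card G :=
    Subgroup.card_subgroup_dvd_card _
  have hqG : q ∣ Nat.card G := hqe.trans heG
  have hm : 0 < (Nat.card G).factorization q := hq.factorization_pos_of_dvd hGpos hqG
  have hnd := Nat.pow_succ_factorization_not_dvd hGpos hq
  obtain ⟨m, hmdef⟩ : ∃ m, m = (Nat.card G).factorization q := ⟨_, rfl⟩
  rw [← hmdef] at hK hm hnd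
  have hidx := Subgroup.card_mul_index K
  rw [hK] at hidx
  have hKpos : 0 < Nat.card K := Nat.card_pos
  have hqK : ¬ q ∣ Nat.card K := by
    intro hdvd
    apply hnd
    rw [← hidx, pow_succ, mul_comm]
    exact Nat.mul_dvd_mul hdvd (dvd_refl _)
  have hlt : Nat.card K < Nat.card G := by
    have h2 : 2 ≤ q ^ m := by
      calc 2 ≤ q := hq.two_le
        _ = q ^ 1 := (pow_one q).symm
        _ ≤ q ^ m := Nat.pow_le_pow_right hq.pos hm
    nlinarith
  -- the kernel lies in `K`
  have hN2 := two_le_card_kernel hZ hab N hreg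
  have hΩN : Nat.card Ω = Nat.card N + 1 := card_of_regular hab N hNa hreg
  have hdvd := card_stab_dvd hZ hab
  rw [← Nat.card_eq_fintype_card, hΩN] at hdvd
  have hqN : ¬ q ∣ Nat.card N := by
    intro h
    have h1 : q ∣ Nat.card N + 1 - 2 := hqe.trans hdvd
    have h2 : q ∣ Nat.card N - (Nat.card N + 1 - 2) := Nat.dvd_sub h h1
    have h3 : Nat.card N - (Nat.card N + 1 - 2) = 1 := by omega
    rw [h3] at h2
    exact hq.one_lt.ne' (Nat.dvd_one.1 h2)
  have hNK : N ≤ K := by
    rw [← Subgroup.relIndex_eq_one]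
    have h1 : K.relIndex N ∣ q ^ m := by
      rw [← hK]
      exact Subgroup.relIndex_dvd_index_of_normal K N
    have h2 : K.relIndex N ∣ Nat.card N := Subgroup.relIndex_dvd_card K N
    have hcop : Nat.Coprime (q ^ m) (Nat.card N) :=
      Nat.Coprime.pow_left _ ((Nat.Prime.coprime_iff_not_dvd hq).2 hqN)
    exact Nat.eq_one_of_dvd_coprimes hcop h1 h2
  refine ⟨?_, hlt, hNK, ?_⟩
  · intro hbot
    rw [hbot, le_bot_iff] at hNK
    rw [hNK, Subgroup.card_bot] at hN2
    omega
  · intro h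
    apply hqK
    exact h.trans (Subgroup.card_subgroup_dvd_card _)

/-- the kernel data pass to a subgroup containing the kernel -/
theorem kernel_subgroupOf {K : Subgroup G} {a : Ω} (N : Subgroup G)
    (hNa : N ≤ stabilizer G a) (hNn : (N.subgroupOf (stabilizer G a)).Normal)
    (hNcomm : ∀ u ∈ N, ∀ v ∈ N, u * v = v * u)
    (hreg : ∀ y z : Ω, y ≠ a → z ≠ a → ∃! u : N, (u : G) • y = z) (hNK : N ≤ K) :
    N.subgroupOf K ≤ stabilizer K a ∧
      ((N.subgroupOf K).subgroupOf (stabilizer K a)).Normal ∧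
      (∀ u ∈ N.subgroupOf K, ∀ v ∈ N.subgroupOf K, u * v = v * u) ∧
      (∀ y z : Ω, y ≠ a → z ≠ a → ∃! u : ↥(N.subgroupOf K), ((u : K)) • y = z) ∧
      Nat.card ↥(N.subgroupOf K) = Nat.card N := by
  refine ⟨?_, ?_, ?_, ?_, ?_⟩
  · intro u hu
    rw [Subgroup.mem_subgroupOf] at hu
    have := hNa hu
    rw [mem_stabilizer_iff] at this ⊢
    exact this
  · constructor
    intro n hn g
    rw [Subgroup.mem_subgroupOf, Subgroup.mem_subgroupOf] at hn ⊢
    have hga : ((g : K) : G) ∈ stabilizer G a := by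
      have := g.2
      rw [mem_stabilizer_iff] at this ⊢
      exact this
    have hna : ((n : K) : G) ∈ stabilizer G a := hNa hn
    have := hNn.conj_mem ⟨((n : K) : G), hna⟩ (Subgroup.mem_subgroupOf.2 hn) ⟨((g : K) : G), hga⟩
    exact Subgroup.mem_subgroupOf.1 this
  · intro u hu w hw
    rw [Subgroup.mem_subgroupOf] at hu hw
    apply Subtype.ext
    exact hNcomm _ hu _ hw
  · intro y z hy hz
    obtain ⟨u, hu, huniq⟩ := hreg y z hy hz
    refine ⟨⟨⟨(u : G), hNK u.2⟩, Subgroup.mem_subgroupOf.2 u.2⟩, hu, ?_⟩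
    intro w hw
    have hwN : ((w : K) : G) ∈ N := Subgroup.mem_subgroupOf.1 w.2
    have := huniq ⟨((w : K) : G), hwN⟩ hw
    apply Subtype.ext
    apply Subtype.ext
    exact congrArg (fun x : N => (x : G)) this
  · exact Nat.card_congr (Subgroup.subgroupOfEquivOfLe hNK).toEquiv

/-- **Feit's inequality for an abelian kernel** (two-point stabiliser of odd order `e`):
`|N| ≤ 2 e + 1`, by induction over normal `q`-complements, relative to the inverted case. -/
theorem feit_abelian (hF : FeitAbHyp.{u, v}) (n : ℕ) :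
    ∀ (G : Type u) (Ω : Type v) [Group G] [MulAction G Ω] [Finite G] [Finite Ω],
      Nat.card G = n → IsZassenhausGroup G Ω → ∀ (a b : Ω), a ≠ b → ∀ N : Subgroup G,
      N ≤ stabilizer G a → (N.subgroupOf (stabilizer G a)).Normal →
      (∀ u ∈ N, ∀ v ∈ N, u * v = v * u) →
      (∀ y z : Ω, y ≠ a → z ≠ a → ∃! u : N, (u : G) • y = z) →
      Odd (Nat.card ↥(stabilizer G a ⊓ stabilizer G b)) →
      Nat.card N ≤ 2 * Nat.card ↥(stabilizer G a ⊓ stabilizer G b) + 1 := by
  induction n using Nat.strong_induction_on with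
  | _ n ih =>
    intro G Ω _ _ _ _ hn hZ a b hab N hNa hNn hNcomm hreg hodd
    have hz := zhyp_of_isZassenhausGroup hZ
    by_cases hex : ∃ q : ℕ, q.Prime ∧ q ∣ Nat.card ↥(stabilizer G a ⊓ stabilizer G b) ∧
        ∃ K : Subgroup G, K.Normal ∧ K.index = q ^ (Nat.card G).factorization q
    · obtain ⟨q, hq, hqe, K, hKn, hK⟩ := hex
      obtain ⟨hKne, hlt, hNK, _⟩ := qcompl_data hZ hab N hNa hreg hq hqe K hK
      have hZK := zassenhaus_of_normal hZ K hKne
      obtain ⟨k1, k2, k3, k4, k5⟩ := kernel_subgroupOf N hNa hNn hNcomm hreg hNK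
      have hdvd := card_stab_sub_dvd K a b
      have hodd' : Odd (Nat.card ↥(stabilizer K a ⊓ stabilizer K b)) := Odd.of_dvd_nat hodd hdvd
      have := ih (Nat.card K) (hn ▸ hlt) K Ω rfl hZK a b hab (N.subgroupOf K) k1 k2 k3 k4 hodd'
      rw [k5] at this
      have hle := Nat.le_of_dvd Nat.card_pos hdvd
      omega
    · push Not at hex
      have hnil : ∀ q : ℕ, q.Prime → q ∣ Nat.card ↥(stabilizer G a ⊓ stabilizer G b) →
          ¬ ∃ K : Subgroup G, K.Normal ∧ K.index = q ^ (Nat.card G).factorization q := by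
        intro q hq hqe hcon
        obtain ⟨K, hKn, hK⟩ := hcon
        exact hex q hq hqe K hKn hK
      obtain ⟨_, _, hinv⟩ := Cfsg.Agent.S0739.main hz hab hodd hnil
      have hfaith := hZ.1
      have hne : 1 < Nat.card ↥(stabilizer G a ⊓ stabilizer G b) := by
        obtain ⟨h, hh1, hha, hhb⟩ := exists_fix hz a b hab
        have hmem : h ∈ stabilizer G a ⊓ stabilizer G b := by
          rw [Subgroup.mem_inf, mem_stabilizer_iff, mem_stabilizer_iff]
          exact ⟨hha, hhb⟩
        have : Nontrivial ↥(stabilizer G a ⊓ stabilizer G b) :=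
          ⟨⟨⟨h, hmem⟩, 1, fun e => hh1 (congrArg Subtype.val e)⟩⟩
        exact Finite.one_lt_card
      have hnorm : ∀ h ∈ stabilizer G a ⊓ stabilizer G b, ∀ u ∈ N, h * u * h⁻¹ ∈ N := by
        intro h hh u hu
        have hha : h ∈ stabilizer G a := (Subgroup.mem_inf.1 hh).1
        have := hNn.conj_mem ⟨u, hNa hu⟩ (Subgroup.mem_subgroupOf.2 hu) ⟨h, hha⟩
        exact Subgroup.mem_subgroupOf.1 this
      exact hF G Ω hZ.2.1 hZ.2.2.1 a b hab N hNa hreg hNcomm hnorm hodd hne hinv

/-- Feit's inequality for an abelian kernel and a two-point stabiliser of odd order, as a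
hypothesis. -/
def FeitIneq : Prop :=
  ∀ (G : Type u) (Ω : Type v) [Group G] [MulAction G Ω] [Finite G] [Finite Ω],
    IsZassenhausGroup G Ω → ∀ (a b : Ω), a ≠ b → ∀ N : Subgroup G,
    N ≤ stabilizer G a → (N.subgroupOf (stabilizer G a)).Normal →
    (∀ u ∈ N, ∀ v ∈ N, u * v = v * u) →
    (∀ y z : Ω, y ≠ a → z ≠ a → ∃! u : N, (u : G) • y = z) →
    Odd (Nat.card ↥(stabilizer G a ⊓ stabilizer G b)) →
    Nat.card N ≤ 2 * Nat.card ↥(stabilizer G a ⊓ stabilizer G b) + 1

/-- `FeitIneq` from the inverted case -/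
theorem feitIneq_of_feitAbHyp (hF : FeitAbHyp.{u, v}) : FeitIneq.{u, v} :=
  fun G Ω _ _ _ _ hZ a b hab N hNa hNn hNcomm hreg hodd =>
    feit_abelian hF (Nat.card G) G Ω rfl hZ a b hab N hNa hNn hNcomm hreg hodd

/-- Feit's theorem on Zassenhaus groups (the statement S0885), as a hypothesis. -/
def FeitHyp : Prop :=
  ∀ (G : Type u) (Ω : Type v) [Group G] [Finite G] [MulAction G Ω] [Fintype Ω]
    (_hZ : IsZassenhausGroup G Ω) (a b : Ω) (_hab : a ≠ b) (h e : ℕ)
    (_hh : Fintype.card Ω = h + 1)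
    (_he : Nat.card ↥(stabilizer G a ⊓ stabilizer G b : Subgroup G) = e) (_hodd : Odd e)
    (H : Subgroup G) (_hHa : H ≤ stabilizer G a) (_hHcard : Nat.card H + 1 = Fintype.card Ω)
    (_hHfix : ∀ u ∈ H, u ≠ 1 → ∀ c : Ω, u • c = c → c = a),
    h - 1 ≤ 2 * e ∨ (IsPGroup 2 H ∧ (∃ u v : H, u * v ≠ v * u) ∧
      (commutator H).index ≤ 4 * e ^ 2 + 1)

/-- `FeitIneq` from Feit's theorem -/
theorem feitIneq_of_feitHyp (hS : FeitHyp.{u, v}) : FeitIneq.{u, v} := by
  intro G Ω _ _ _ _ hZ a b hab N hNa hNn hNcomm hreg hodd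
  classical
  have hfinΩ : Fintype Ω := Fintype.ofFinite Ω
  have hΩN : Nat.card Ω = Nat.card N + 1 := card_of_regular hab N hNa hreg
  rw [Nat.card_eq_fintype_card] at hΩN
  have hfix : ∀ u ∈ N, u ≠ 1 → ∀ c : Ω, u • c = c → c = a := by
    intro u hu hu1 c hc
    by_contra hca
    obtain ⟨w, _, hwuniq⟩ := hreg c c hca hca
    have h1 := hwuniq ⟨u, hu⟩ hc
    have h2 := hwuniq 1 (one_smul _ _)
    apply hu1
    have := h1.trans h2.symm
    exact congrArg Subtype.val this
  rcases hS G Ω hZ a b hab (Nat.card N) _ hΩN rfl hodd N hNa hΩN.symm hfix with h1 | ⟨_, ⟨u, v, huv⟩, _⟩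
  · omega
  · exfalso
    apply huv
    apply Subtype.ext
    exact hNcomm u u.2 v v.2

/-- transport of `PSL(2, K)` to a field in `Type` -/
theorem psl_type_zero (K : Type u) [Field K] [Fintype K] :
    ∃ (K' : Type) (_ : Field K') (_ : Fintype K'), Fintype.card K' = Fintype.card K ∧
      Nonempty (Matrix.ProjectiveSpecialLinearGroup (Fin 2) K ≃*
        Matrix.ProjectiveSpecialLinearGroup (Fin 2) K') := by
  classical
  obtain ⟨n, hp, hcard⟩ := FiniteField.card K (ringChar K)
  have : Fact (ringChar K).Prime := ⟨hp⟩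
  let K' : Type := GaloisField (ringChar K) n
  have hfinK' : Fintype K' := Fintype.ofFinite K'
  have hK'card : Fintype.card K' = ringChar K ^ (n : ℕ) := by
    rw [← Nat.card_eq_fintype_card]
    exact GaloisField.card (ringChar K) n n.ne_zero
  have hcardeq : Fintype.card K = Fintype.card K' := by rw [hK'card, hcard]
  have r : K ≃+* K' := FiniteField.ringEquivOfCardEq hcardeq
  obtain ⟨e'⟩ := Cfsg.Agent.Lib.Helper56_MobiusIso.psl_congr r
  exact ⟨K', inferInstance, hfinK', hcardeq.symm, ⟨e'⟩⟩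

/-- a two-point stabiliser of order `card Ω - 2` gives a sharply triply transitive group -/
theorem sharp_of_card [Finite G] [Fintype Ω] (h2 : IsMultiplyPretransitive G Ω 2)
    (h3 : ∀ g : G, ∀ x y z : Ω, x ≠ y → y ≠ z → x ≠ z → g • x = x → g • y = y → g • z = z →
      g = 1)
    {a b : Ω} (hab : a ≠ b)
    (hcard : Nat.card ↥(stabilizer G a ⊓ stabilizer G b) = Fintype.card Ω - 2) :
    IsMultiplyPretransitive G Ω 3 ∧ ∀ t : Fin 3 ↪ Ω, stabilizer G t = ⊥ := by
  refine ⟨three_trans_of_card h2 h3 hab hcard, ?_⟩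
  intro t
  rw [eq_bot_iff]
  intro g hg
  rw [mem_stabilizer_iff] at hg
  have hi : ∀ i, g • t i = t i := by
    intro i
    have := DFunLike.congr_fun hg i
    simpa using this
  apply Subgroup.mem_bot.2
  exact h3 g (t 0) (t 1) (t 2) (t.injective.ne (by decide)) (t.injective.ne (by decide))
    (t.injective.ne (by decide)) (hi 0) (hi 1) (hi 2)

/-- **Zassenhaus groups with abelian kernel**, relative to `FeitIneq`; the field has as many
elements as the kernel -/
theorem main_strong (hI : FeitIneq.{u, v}) [Finite G] [Finite Ω]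
    (hZ : IsZassenhausGroup G Ω) (x : Ω) (F : Subgroup G) (hFle : F ≤ stabilizer G x)
    (hFn : (F.subgroupOf (stabilizer G x)).Normal) (hFab : IsMulCommutative F)
    (hreg : ∀ y z : Ω, y ≠ x → z ≠ x → ∃! u : F, (u : G) • y = z) :
    (IsMultiplyPretransitive G Ω 3 ∧ ∀ t : Fin 3 ↪ Ω, stabilizer G t = ⊥) ∨
      ∃ (K : Type) (_ : Field K) (_ : Fintype K), ringChar K ≠ 2 ∧
        Fintype.card K = Nat.card F ∧
        Nonempty (G ≃* Matrix.ProjectiveSpecialLinearGroup (Fin 2) K) := by
  classical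
  have hfinΩ : Fintype Ω := Fintype.ofFinite Ω
  have hz := zhyp_of_isZassenhausGroup hZ
  have hfaith := hZ.1
  have h2 := hZ.2.1
  have h3 := hZ.2.2.1
  obtain ⟨y, hyx⟩ : ∃ y : Ω, y ≠ x := by
    obtain ⟨g, _, a', b', hab', _, _⟩ := hz.fix
    by_cases h : a' = x
    · exact ⟨b', fun hb => hab' (h.trans hb.symm)⟩
    · exact ⟨a', h⟩
  have hxy : x ≠ y := hyx.symm
  have hFcomm : ∀ u ∈ F, ∀ v ∈ F, u * v = v * u := by
    intro u hu v hv
    have := hFab.is_comm.comm ⟨u, hu⟩ ⟨v, hv⟩
    exact congrArg Subtype.val this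
  set H : Subgroup G := stabilizer G x ⊓ stabilizer G y with hH
  have hmemH : ∀ g : G, g ∈ H ↔ g • x = x ∧ g • y = y := by
    intro g; simp [hH, Subgroup.mem_inf, mem_stabilizer_iff]
  set e := Nat.card H with he
  have hepos : 0 < e := Nat.card_pos
  have hΩF : Nat.card Ω = Nat.card F + 1 := card_of_regular hxy F hFle hreg
  rw [Nat.card_eq_fintype_card] at hΩF
  have hF2 := two_le_card_kernel hZ hxy F hreg
  have hdvd : e ∣ Fintype.card Ω - 2 := card_stab_dvd hZ hxy
  rcases Nat.even_or_odd e with heven | hodd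
  · rcases even_cases hZ hxy heven with hc | hc
    · exact Or.inl (sharp_of_card h2 h3 hxy hc)
    · right
      obtain ⟨p, f, K, hKf, hKfin, hp, hp2, hKcard, hΩpf, hiso⟩ :=
        Cfsg.Agent.S0742.result hZ hxy heven (le_of_eq hc)
      refine ⟨K, hKf, hKfin, ?_, by omega, hiso⟩
      intro hchar
      have h0 := FiniteField.even_card_of_char_two hchar
      rw [hKcard] at h0
      have h2p : 2 ∣ p ^ f := Nat.dvd_of_mod_eq_zero h0
      have := (Nat.prime_dvd_prime_iff_eq Nat.prime_two hp).1 (Nat.prime_two.dvd_of_dvd_pow h2p)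
      exact hp2 this.symm
  · have hFe := hI G Ω hZ x y hxy F hFle hFn hFcomm hreg hodd
    obtain ⟨k, hk⟩ := hdvd
    have hk0 : k ≠ 0 := by
      rintro rfl
      omega
    have hk2 : k ≤ 2 := by
      by_contra hcon
      have h3k : 3 ≤ k := by omega
      have : e * 3 ≤ e * k := Nat.mul_le_mul_left e h3k
      change Nat.card F ≤ 2 * e + 1 at hFe
      omega
    have hk12 : k = 1 ∨ k = 2 := by omega
    rcases hk12 with rfl | rfl
    · left
      apply sharp_of_card h2 h3 hxy
      change e = Fintype.card Ω - 2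
      omega
    · right
      have hcard : Nat.card F = 2 * e + 1 := by omega
      -- no normal `q`-complements
      have hnil : ∀ q : ℕ, q.Prime → q ∣ e →
          ¬ ∃ K : Subgroup G, K.Normal ∧ K.index = q ^ (Nat.card G).factorization q := by
        rintro q hq hqe ⟨K, hKn, hK⟩
        obtain ⟨hKne, hlt, hNK, hqe'⟩ := qcompl_data hZ hxy F hFle hreg hq hqe K hK
        have hZK := zassenhaus_of_normal hZ K hKne
        obtain ⟨k1, k2, k3, k4, k5⟩ := kernel_subgroupOf F hFle hFn hFcomm hreg hNK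
        have hdvd' := card_stab_sub_dvd K x y
        have hodd' : Odd (Nat.card ↥(stabilizer K x ⊓ stabilizer K y)) :=
          Odd.of_dvd_nat hodd hdvd'
        have hle := hI K Ω hZK x y hxy (F.subgroupOf K) k1 k2 k3 k4 hodd'
        rw [k5] at hle
        obtain ⟨j, hj⟩ := hdvd'
        change e = _ * j at hj
        have hj1 : j ≠ 1 := by
          rintro rfl
          rw [mul_one] at hj
          apply hqe'
          rw [← hj]
          exact hqe
        have hj0 : j ≠ 0 := by
          rintro rfl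
          omega
        have : Nat.card ↥(stabilizer K x ⊓ stabilizer K y) * 2 ≤
            Nat.card ↥(stabilizer K x ⊓ stabilizer K y) * j :=
          Nat.mul_le_mul_left _ (by omega)
        omega
      obtain ⟨_, _, hinv⟩ := Cfsg.Agent.S0739.main hz hxy hodd hnil
      obtain ⟨t, hta, htb⟩ := hz.two hxy hxy.symm
      have httH : t * t ∈ H := by
        rw [hmemH, mul_smul, mul_smul, hta, htb]
        exact ⟨rfl, hta⟩
      have hsq := hinv t hta htb (t * t) httH
      have hsq2 : (t * t) * (t * t) = 1 := by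
        have h1 : t * (t * t) * t⁻¹ = t * t := by group
        rw [h1] at hsq
        have := congrArg (fun z => (t * t) * z) hsq
        simp only [mul_inv_cancel] at this
        exact this
      have htt : t * t = 1 := by
        have hd2 : orderOf (t * t) ∣ 2 := orderOf_dvd_of_pow_eq_one (by rw [pow_two]; exact hsq2)
        have hde : orderOf (t * t) ∣ e := by
          have := orderOf_dvd_natCard (⟨t * t, httH⟩ : H)
          rwa [Subgroup.orderOf_mk] at this
        rcases (Nat.dvd_prime Nat.prime_two).1 hd2 with h1 | h2'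
        · exact orderOf_eq_one_iff.1 h1
        · exfalso
          rw [h2'] at hde
          obtain ⟨j, hj⟩ := hde
          obtain ⟨i, hi⟩ := hodd
          omega
      have htinv' : t⁻¹ = t := inv_eq_of_mul_eq_one_right htt
      have htinv : ∀ h ∈ stabilizer G x ⊓ stabilizer G y, t * h * t = h⁻¹ := by
        intro h hh
        have := hinv t hta htb h hh
        rwa [htinv'] at this
      have hnorm : ∀ h ∈ stabilizer G x ⊓ stabilizer G y, ∀ u ∈ F, h * u * h⁻¹ ∈ F := by
        intro h hh u hu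
        have hha : h ∈ stabilizer G x := (Subgroup.mem_inf.1 hh).1
        have := hFn.conj_mem ⟨u, hFle hu⟩ (Subgroup.mem_subgroupOf.2 hu) ⟨h, hha⟩
        exact Subgroup.mem_subgroupOf.1 this
      obtain ⟨K, hKf, hKfin, hKcard, ⟨iso⟩⟩ := psl_of_data h2 h3 hxy F hFle hreg hFcomm hnorm
        hcard t hta htb htt htinv
      obtain ⟨K', hK'f, hK'fin, hK'card, ⟨iso'⟩⟩ := psl_type_zero K
      refine ⟨K', hK'f, hK'fin, ?_, by rw [hK'card, hKcard], ⟨iso.trans iso'⟩⟩
      intro hchar
      have h0 := FiniteField.even_card_of_char_two hchar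
      rw [hK'card, hKcard, hcard] at h0
      omega

/-- **Zassenhaus groups with abelian kernel**, relative to `FeitIneq` -/
theorem main_of_ineq (hI : FeitIneq.{u, v}) [Finite G] [Finite Ω]
    (hZ : IsZassenhausGroup G Ω) (x : Ω) (F : Subgroup G) (hFle : F ≤ stabilizer G x)
    (hFn : (F.subgroupOf (stabilizer G x)).Normal) (hFab : IsMulCommutative F)
    (hreg : ∀ y z : Ω, y ≠ x → z ≠ x → ∃! u : F, (u : G) • y = z) :
    (IsMultiplyPretransitive G Ω 3 ∧ ∀ t : Fin 3 ↪ Ω, stabilizer G t = ⊥) ∨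
      ∃ (K : Type) (_ : Field K) (_ : Fintype K), ringChar K ≠ 2 ∧
        Nonempty (G ≃* Matrix.ProjectiveSpecialLinearGroup (Fin 2) K) := by
  rcases main_strong hI hZ x F hFle hFn hFab hreg with h | ⟨K, hKf, hKfin, hc, _, hiso⟩
  · exact Or.inl h
  · exact Or.inr ⟨K, hKf, hKfin, hc, hiso⟩

/-- **Zassenhaus groups with abelian kernel**, relative to `FeitAbHyp` -/
theorem main (hF : FeitAbHyp.{u, v}) [Finite G] [Finite Ω]
    (hZ : IsZassenhausGroup G Ω) (x : Ω) (F : Subgroup G) (hFle : F ≤ stabilizer G x)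
    (hFn : (F.subgroupOf (stabilizer G x)).Normal) (hFab : IsMulCommutative F)
    (hreg : ∀ y z : Ω, y ≠ x → z ≠ x → ∃! u : F, (u : G) • y = z) :
    (IsMultiplyPretransitive G Ω 3 ∧ ∀ t : Fin 3 ↪ Ω, stabilizer G t = ⊥) ∨
      ∃ (K : Type) (_ : Field K) (_ : Fintype K), ringChar K ≠ 2 ∧
        Nonempty (G ≃* Matrix.ProjectiveSpecialLinearGroup (Fin 2) K) :=
  main_of_ineq (feitIneq_of_feitAbHyp hF) hZ x F hFle hFn hFab hreg

/-- **Zassenhaus groups with abelian kernel**, relative to Feit's theorem `FeitHyp` (S0885) -/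
theorem main_of_feit (hS : FeitHyp.{u, v}) [Finite G] [Finite Ω]
    (hZ : IsZassenhausGroup G Ω) (x : Ω) (F : Subgroup G) (hFle : F ≤ stabilizer G x)
    (hFn : (F.subgroupOf (stabilizer G x)).Normal) (hFab : IsMulCommutative F)
    (hreg : ∀ y z : Ω, y ≠ x → z ≠ x → ∃! u : F, (u : G) • y = z) :
    (IsMultiplyPretransitive G Ω 3 ∧ ∀ t : Fin 3 ↪ Ω, stabilizer G t = ⊥) ∨
      ∃ (K : Type) (_ : Field K) (_ : Fintype K), ringChar K ≠ 2 ∧
        Nonempty (G ≃* Matrix.ProjectiveSpecialLinearGroup (Fin 2) K) :=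
  main_of_ineq (feitIneq_of_feitHyp hS) hZ x F hFle hFn hFab hreg

end Cfsg.Agent.Lib.Helper59_ZassAbel
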