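import Mathlib
import Cfsg.Agent.Lib.Helper59_PrimeDeg
import Cfsg.Agent.Lib.Helper59_PrimeDegAff
import Cfsg.Agent.Lib.Helper59_ZassAbel
import Cfsg.Agent.Lib.Helper6_Frobenius
import Cfsg.Agent.Lib.Helper21_Sharp3
import Cfsg.Agent.Lib.Helper35_PSL2Card
import Cfsg.Agent.Lib.Helper56_MobiusIso

/-!
# Transitive groups of degree `p + 1`, order `(p + 1) p d`, `d < p`: assembly (helper59)

Relative to Feit's inequality (`Helper59_ZassAbel.FeitIneq`): such a group is sharply triply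
transitive with `d = p - 1`, or `PSL(2, p)` with `2 d = p - 1`, or semi-affine over the field with
`2 ^ q = p + 1` elements.
-/

set_option autoImplicit false

open scoped MatrixGroups

namespace Cfsg.Agent.Lib.Helper59_PrimeDegMain

open scoped Pointwise

open MulAction Cfsg Cfsg.Agent.Lib.Helper59_PrimeDeg Cfsg.Agent.Lib.Helper59_PrimeDegAff
  Cfsg.Agent.Lib.Helper59_ZassAbel

universe u v

variable {Γ : Type u} {Ω : Type v} [Group Γ] [MulAction Γ Ω] {p d : ℕ}

/-- a sharply doubly transitive group has a regular normal subgroup (Frobenius) -/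
theorem exists_regular_normal_of_sharp [Finite Γ] [Finite Ω] (h : Hyp Γ Ω p 1) :
    ∃ R : Subgroup Γ, R.Normal ∧ (∀ x y : Ω, ∃ r ∈ R, r • x = y) ∧
      (∀ r ∈ R, ∀ c : Ω, r • c = c → r = 1) := by
  classical
  have htrans := h.trans
  obtain ⟨a⟩ : Nonempty Ω := by
    have : 0 < Nat.card Ω := by rw [h.cardΩ]; omega
    exact (Nat.card_pos_iff.1 this).1
  set H₀ : Subgroup Γ := stabilizer Γ a with hH₀
  have hcs : Nat.card H₀ = p := by rw [h.card_stabilizer a, mul_one]
  have hidx : H₀.index = p + 1 := by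
    rw [hH₀, index_stabilizer_of_transitive Γ a, h.cardΩ]
  have hmemconj : ∀ (g x : Γ), x ∈ MulAut.conj g • H₀ ↔ x • (g • a) = g • a := by
    intro g x
    rw [Subgroup.mem_pointwise_smul_iff_inv_smul_mem, hH₀, mem_stabilizer_iff]
    simp only [MulAut.smul_def, MulAut.inv_apply, MulAut.conj_symm_apply]
    rw [mul_smul, mul_smul, inv_smul_eq_iff]
  have hFC : IsFrobeniusComplement H₀ := by
    refine ⟨?_, ?_, ?_⟩
    · intro hbot
      rw [hbot, Subgroup.card_bot] at hcs
      exact h.prime.one_lt.ne hcs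
    · intro htop
      rw [htop, Subgroup.index_top] at hidx
      have := h.prime.pos
      omega
    · intro g hg
      rw [eq_bot_iff]
      intro x hx
      obtain ⟨hx1, hx2⟩ := Subgroup.mem_inf.1 hx
      rw [hmemconj] at hx2
      have hxa : x • a = a := mem_stabilizer_iff.1 hx1
      have hga : a ≠ g • a := fun hh => hg (mem_stabilizer_iff.2 hh.symm)
      have hc := card_two_stab h hga
      have hmem : x ∈ stabilizer Γ a ⊓ stabilizer Γ (g • a) :=
        Subgroup.mem_inf.2 ⟨hx1, mem_stabilizer_iff.2 hx2⟩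
      have hsub : Subsingleton ↥(stabilizer Γ a ⊓ stabilizer Γ (g • a)) :=
        (Nat.card_eq_one_iff_unique.1 hc).1
      have := Subsingleton.elim (⟨x, hmem⟩ : ↥(stabilizer Γ a ⊓ stabilizer Γ (g • a))) 1
      exact Subgroup.mem_bot.2 (congrArg Subtype.val this)
  obtain ⟨K₀, hK₀set, hK₀n, hK₀c⟩ := Cfsg.Agent.Lib.Helper6_Frobenius.exists_kernel H₀ hFC
  have hK₀mem : ∀ x : Γ, x ∈ K₀ ↔ x = 1 ∨ ∀ g : Γ, x ∉ MulAut.conj g • H₀ := by
    intro x
    rw [← SetLike.mem_coe, hK₀set]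
    rfl
  have hsemi : ∀ r ∈ K₀, ∀ c : Ω, r • c = c → r = 1 := by
    intro r hr c hrc
    rcases (hK₀mem r).1 hr with h1 | h2
    · exact h1
    · exfalso
      obtain ⟨g, hg⟩ := exists_smul_eq Γ a c
      apply h2 g
      rw [hmemconj, hg, hrc]
  have hK₀card : Nat.card K₀ = p + 1 := by
    have h1 := hK₀c.card_mul_card
    rw [hcs, h.cardΓ, mul_one] at h1
    exact Nat.eq_of_mul_eq_mul_right h.prime.pos h1
  have hbij : Function.Bijective (fun r : K₀ => (r : Γ) • a) := by
    have hinj : Function.Injective (fun r : K₀ => (r : Γ) • a) := by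
      intro r r' hrr
      have hrr' : (r : Γ) • a = (r' : Γ) • a := hrr
      have h1 : ((r' : Γ)⁻¹ * (r : Γ)) • a = a := by rw [mul_smul, hrr', inv_smul_smul]
      have h2 := hsemi _ (K₀.mul_mem (K₀.inv_mem r'.2) r.2) a h1
      apply Subtype.ext
      calc (r : Γ) = (r' : Γ) * ((r' : Γ)⁻¹ * (r : Γ)) := by group
        _ = (r' : Γ) := by rw [h2, mul_one]
    exact hinj.bijective_of_nat_card_le (by rw [hK₀card, h.cardΩ])
  refine ⟨K₀, hK₀n, ?_, hsemi⟩
  intro x y
  obtain ⟨r₁, hr₁⟩ := hbij.2 x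
  obtain ⟨r₂, hr₂⟩ := hbij.2 y
  refine ⟨(r₂ : Γ) * (r₁ : Γ)⁻¹, K₀.mul_mem r₂.2 (K₀.inv_mem r₁.2), ?_⟩
  have hr₁' : (r₁ : Γ) • a = x := hr₁
  have hr₂' : (r₂ : Γ) • a = y := hr₂
  rw [mul_smul, ← hr₁', inv_smul_smul, hr₂']

/-- the order of a two-point stabiliser of `PSL(2, K)`-type: from `|Γ| = |PSL(2, K)|`, `|K| = p` -/
theorem two_d_eq {K : Type} [Field K] [Fintype K] (hchar : ringChar K ≠ 2)
    (hK : Fintype.card K = p) (hp : 2 ≤ p)
    (hΓ : Nat.card (Matrix.ProjectiveSpecialLinearGroup (Fin 2) K) = (p + 1) * p * d) :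
    2 * d = p - 1 := by
  have h2 : (2 : K) ≠ 0 := Ring.two_ne_zero hchar
  have e1 := Cfsg.Agent.Lib.Helper35_PSL2Card.card_SL2_mul (F := K)
  have e2 := Cfsg.Agent.Lib.Helper35_PSL2Card.card_SL2_eq_card_PSL2_mul (F := K)
  have e3 := Cfsg.Agent.Lib.Helper35_PSL2Card.card_center_SL2 (F := K)
  have e4 := Cfsg.Agent.Lib.Helper35_PSL2Card.card_rootsOfUnity_two_of_ne h2
  rw [e2, e3, e4, hΓ, hK] at e1
  obtain ⟨m, rfl⟩ : ∃ m, p = m + 2 := ⟨p - 2, by omega⟩
  have h5 : (m + 2) ^ 2 - 1 = (m + 1) * (m + 3) := by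
    apply Nat.sub_eq_of_eq_add
    ring
  have h6 : (m + 2) ^ 2 - (m + 2) = (m + 2) * (m + 1) := by
    apply Nat.sub_eq_of_eq_add
    ring
  have h7 : m + 2 - 1 = m + 1 := by omega
  rw [h5, h6, h7] at e1
  rw [h7]
  have hpos : 0 < (m + 2 + 1) * (m + 2) * (m + 1) := by positivity
  have : (m + 2 + 1) * (m + 2) * (m + 1) * (2 * d) = (m + 2 + 1) * (m + 2) * (m + 1) * (m + 1) := by
    nlinarith
  exact Nat.eq_of_mul_eq_mul_left hpos this

/-- **the classification**, relative to Feit's inequality -/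
theorem main_abstract (hI : FeitIneq.{u, v}) [Finite Γ] [Finite Ω] (h : Hyp Γ Ω p d) :
    (d = p - 1 ∧ IsMultiplyPretransitive Γ Ω 3 ∧ ∀ t : Fin 3 ↪ Ω, stabilizer Γ t = ⊥) ∨
    (2 * d = p - 1 ∧
      Nonempty (Γ ≃* Matrix.ProjectiveSpecialLinearGroup (Fin 2) (ZMod p))) ∨
    (∃ q : ℕ, q.Prime ∧ p + 1 = 2 ^ q ∧ (d = 1 ∨ d = q) ∧
      ∃ e : Ω ≃ GaloisField 2 q, ∀ g : Γ, ∃ (c : (GaloisField 2 q)ˣ) (b : GaloisField 2 q)
        (φ : GaloisField 2 q ≃+* GaloisField 2 q),
        ∀ x : Ω, e (g • x) = (c : GaloisField 2 q) * φ (e x) + b) := by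
  classical
  have hfinΩ : Fintype Ω := Fintype.ofFinite Ω
  have hfaith := h.faithful
  have hcardΩ : Fintype.card Ω = p + 1 := by rw [← Nat.card_eq_fintype_card, h.cardΩ]
  have h2 := isMultiplyPretransitive_two h
  have h3 := three_fix h
  have hp2le := h.prime.two_le
  -- two points
  obtain ⟨a, b, hab⟩ : ∃ a b : Ω, a ≠ b := by
    have : 1 < Fintype.card Ω := by omega
    exact Fintype.exists_pair_of_one_lt_card this
  have hdab := card_two_stab h hab
  by_cases hdp : d = p - 1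
  · left
    refine ⟨hdp, ?_⟩
    apply sharp_of_card h2 h3 hab
    rw [hdab, hcardΩ, hdp]
    omega
  right
  have hpne2 : p ≠ 2 := by
    rintro rfl
    have := h.lt
    have := h.d_pos
    omega
  by_cases hR : ∃ R : Subgroup Γ, R.Normal ∧ (∀ x y : Ω, ∃ r ∈ R, r • x = y) ∧
      (∀ r ∈ R, ∀ c : Ω, r • c = c → r = 1)
  · right
    obtain ⟨R, hRn, hRt, hRs⟩ := hR
    exact semiaffine_of_regular_normal h hpne2 R hRn hRt hRs
  · left
    have hd1 : d ≠ 1 := by
      rintro rfl
      exact hR (exists_regular_normal_of_sharp h)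
    have hdpos := h.d_pos
    -- a Zassenhaus group
    have hZ : IsZassenhausGroup Γ Ω := by
      refine ⟨hfaith, h2, h3, ?_, ?_⟩
      · have hnt : Nontrivial ↥(stabilizer Γ a ⊓ stabilizer Γ b) := by
          rw [← Finite.one_lt_card_iff_nontrivial, hdab]
          omega
        obtain ⟨g, hg⟩ := exists_ne (1 : ↥(stabilizer Γ a ⊓ stabilizer Γ b))
        obtain ⟨hga, hgb⟩ := Subgroup.mem_inf.1 g.2
        exact ⟨(g : Γ), fun e => hg (Subtype.ext e), a, b, hab, mem_stabilizer_iff.1 hga,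
          mem_stabilizer_iff.1 hgb⟩
      · intro M hM hMt
        by_contra hcon
        push Not at hcon
        apply hR
        refine ⟨M, hM, ?_, ?_⟩
        · intro x y
          obtain ⟨m, hm⟩ := hMt.exists_smul_eq x y
          exact ⟨(m : Γ), m.2, hm⟩
        · intro r hr c hrc
          have hstab : (⟨r, hr⟩ : M) ∈ stabilizer M c := mem_stabilizer_iff.2 hrc
          rw [hcon c, Subgroup.mem_bot] at hstab
          exact congrArg Subtype.val hstab
    obtain ⟨N, hNa, hNcard, hNnorm, hreg⟩ := exists_kernel h a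
    have hpf : Fact p.Prime := ⟨h.prime⟩
    have hNcyc : IsCyclic N := isCyclic_of_prime_card hNcard
    have hNab : IsMulCommutative N := IsCyclic.isMulCommutative
    have hNn : (N.subgroupOf (stabilizer Γ a)).Normal := by
      constructor
      intro n hn g
      rw [Subgroup.mem_subgroupOf] at hn ⊢
      exact hNnorm (g : Γ) g.2 _ hn
    rcases main_strong hI hZ a N hNa hNn hNab hreg with ⟨h3t, hsharp⟩ |
      ⟨K, hKf, hKfin, hchar, hKcard, ⟨iso⟩⟩
    · exfalso
      apply hdp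
      have hs : Cfsg.Agent.Lib.Helper21_Sharp3.Sharp3 Γ Ω := by
        intro g x y z hxy hxz hyz hx hy hz
        exact h3 g x y z hxy hyz hxz hx hy hz
      have hc := Cfsg.Agent.Lib.Helper21_Sharp3.card_group h3t hs (by omega)
      rw [h.cardΓ, hcardΩ] at hc
      have h7 : p + 1 - 1 = p := by omega
      have h8 : p + 1 - 2 = p - 1 := by omega
      rw [h7, h8] at hc
      have hpos : 0 < (p + 1) * p := by positivity
      exact Nat.eq_of_mul_eq_mul_left hpos hc
    · have hKp : Fintype.card K = p := by rw [hKcard, hNcard]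
      have hcardeq : Fintype.card K = Fintype.card (ZMod p) := by rw [hKp, ZMod.card]
      let ρ : K ≃+* ZMod p := FiniteField.ringEquivOfCardEq hcardeq
      obtain ⟨iso'⟩ := Cfsg.Agent.Lib.Helper56_MobiusIso.psl_congr ρ
      refine ⟨?_, ⟨iso.trans iso'⟩⟩
      apply two_d_eq hchar hKp hp2le
      rw [← h.cardΓ]
      exact (Nat.card_congr iso.toEquiv).symm

/-- a group isomorphism maps the centre onto the centre -/
theorem map_center_eq {G H : Type*} [Group G] [Group H] (f : G ≃* H) :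
    (Subgroup.center G).map f.toMonoidHom = Subgroup.center H := by
  ext h
  constructor
  · rintro ⟨z, hz, rfl⟩
    rw [Subgroup.mem_center_iff]
    intro g
    obtain ⟨g', rfl⟩ := f.surjective g
    have := Subgroup.mem_center_iff.1 hz g'
    show f g' * f z = f z * f g'
    rw [← map_mul, ← map_mul, this]
  · intro hh
    have hz : f.symm h ∈ Subgroup.center G := by
      rw [Subgroup.mem_center_iff]
      intro g'
      apply f.injective
      rw [map_mul, map_mul, MulEquiv.apply_symm_apply]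
      exact Subgroup.mem_center_iff.1 hh (f g')
    exact ⟨f.symm h, hz, by simp⟩

/-- `PGL(2, R) ≃* PGL(2, S)` for isomorphic rings -/
theorem pgl_congr {R S : Type*} [CommRing R] [CommRing S] (e : R ≃+* S) :
    Nonempty (Matrix.ProjGenLinGroup (Fin 2) R ≃* Matrix.ProjGenLinGroup (Fin 2) S) := by
  let f : GL (Fin 2) R ≃* GL (Fin 2) S := Units.mapEquiv (e.mapMatrix (m := Fin 2)).toMulEquiv
  let e1 : Matrix.ProjGenLinGroup (Fin 2) R ≃*
      (GL (Fin 2) R ⧸ Subgroup.center (GL (Fin 2) R)) := MulEquiv.refl _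
  let e3 : (GL (Fin 2) S ⧸ Subgroup.center (GL (Fin 2) S)) ≃*
      Matrix.ProjGenLinGroup (Fin 2) S := MulEquiv.refl _
  exact ⟨(e1.trans (QuotientGroup.congr _ _ f (map_center_eq f))).trans e3⟩

end Cfsg.Agent.Lib.Helper59_PrimeDegMain
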