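import Mathlib
import Cfsg.Agent.S0682
import Cfsg.Agent.S0683

/-!
# A sharply doubly transitive group with commutative point stabilisers is the affine group of a
field (helper95)

From helper12's near-field coordinates (S0683): if the point stabilisers are commutative the
near-field is a field.
-/

set_option autoImplicit false

namespace Cfsg.Agent.Lib.Helper95_NFField

open MulAction

/-- the commutative ring structure of a commutative near-field with commutative addition -/
@[reducible] def commRingOfNearField {A : Type*} [nf : Cfsg.NearField A]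
    (hadd : ∀ x y : A, x + y = y + x) (hmul : ∀ x y : A, x * y = y * x) : CommRing A :=
  { nf.toAddGroup, nf.toMonoid with
    add_comm := hadd
    left_distrib := fun a b c => by
      rw [hmul a (b + c), nf.right_distrib, hmul b a, hmul c a]
    right_distrib := nf.right_distrib
    zero_mul := fun a => by
      have h := nf.right_distrib 0 0 a
      rw [add_zero] at h
      have h2 : (0 : A) * a + 0 = 0 * a + 0 * a := by rw [add_zero]; exact h
      exact (add_left_cancel h2).symm
    mul_zero := nf.mul_zero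
    mul_comm := hmul }

/-- a sharply doubly transitive group with commutative point stabilisers consists of the affine
maps of a field structure on the permuted set -/
theorem exists_field {A : Type*} [Fintype A] [DecidableEq A] (Γ : Subgroup (Equiv.Perm A))
    [MulAction.IsMultiplyPretransitive Γ A 2]
    (hsharp : ∀ x : Fin 2 ↪ A, MulAction.stabilizer Γ x = ⊥) (h2 : 2 ≤ Fintype.card A)
    (hcomm : ∀ o : A, ∀ σ ∈ Γ, ∀ τ ∈ Γ, σ o = o → τ o = o → σ * τ = τ * σ) :
    ∃ _ : Field A, ∀ σ : Equiv.Perm A, σ ∈ Γ ↔ ∃ m t : A, m ≠ 0 ∧ ∀ x : A, σ x = x * m + t := by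
  obtain ⟨nf, hnf⟩ := Cfsg.Agent.S0683.result Γ hsharp h2
  obtain ⟨-, -, -, -, -, hadd, -⟩ := Cfsg.Agent.S0682.result (F := A)
  have h2t : IsMultiplyPretransitive Γ A 2 := inferInstance
  have hzm : ∀ a : A, (0 : A) * a = 0 := by
    intro a
    have h := nf.right_distrib 0 0 a
    rw [add_zero] at h
    have h2 : (0 : A) * a + 0 = 0 * a + 0 * a := by rw [add_zero]; exact h
    exact (add_left_cancel h2).symm
  -- right multiplications belong to `Γ`
  have hmulmem : ∀ x : A, x ≠ 0 → ∃ σ ∈ Γ, ∀ z : A, σ z = z * x := by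
    intro x hx
    have h2t' : ∀ a b c d : A, a ≠ b → c ≠ d → ∃ g : Γ, g • a = c ∧ g • b = d :=
      fun a b c d hab hcd => (MulAction.is_two_pretransitive_iff.1 h2t) hab hcd
    obtain ⟨g, hg0, hg1⟩ := h2t' 0 1 0 x nf.zero_ne_one (Ne.symm hx)
    obtain ⟨m, t, hm, hmt⟩ := (hnf (g : Equiv.Perm A)).1 g.2
    have h0 : (g : Equiv.Perm A) 0 = 0 := hg0
    have h1 : (g : Equiv.Perm A) 1 = x := hg1
    rw [hmt, hzm, zero_add] at h0
    rw [hmt, h0, add_zero, one_mul] at h1
    refine ⟨g, g.2, fun z => ?_⟩
    rw [hmt, h0, add_zero, h1]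
  have hmul : ∀ x y : A, x * y = y * x := by
    intro x y
    by_cases hx : x = 0
    · rw [hx, hzm, nf.mul_zero]
    by_cases hy : y = 0
    · rw [hy, hzm, nf.mul_zero]
    obtain ⟨σ, hσ, hσz⟩ := hmulmem x hx
    obtain ⟨τ, hτ, hτz⟩ := hmulmem y hy
    have h := hcomm 0 σ hσ τ hτ (by rw [hσz, hzm]) (by rw [hτz, hzm])
    have h1 := congrArg (fun ρ : Equiv.Perm A => ρ 1) h
    simp only [Equiv.Perm.coe_mul, Function.comp_apply] at h1
    rw [hσz, hτz, hτz, hσz, one_mul, one_mul] at h1
    exact h1.symm
  let R : CommRing A := commRingOfNearField hadd hmul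
  have hF : IsField A :=
    { exists_pair_ne := ⟨0, 1, nf.zero_ne_one⟩
      mul_comm := hmul
      mul_inv_cancel := fun {a} ha => (nf.exists_inv a ha).imp fun b hb => hb.1 }
  exact ⟨hF.toField, hnf⟩

end Cfsg.Agent.Lib.Helper95_NFField
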