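import Mathlib
import Cfsg.Agent.Lib.Helper21_Sharp3

/-!
# Sharply triply transitive groups coordinatised by a field: the involution swapping `0` and `∞`
is the inversion (helper95)

`Coord Γ α F`: a bijection `co : α ≃ Option F` (`none = ∞`) such that the stabiliser of `∞` in `Γ`
consists exactly of the affine maps `z ↦ z * m + t`.  If only the identity of `Γ` fixes three
points, `2 ≠ 0` in `F`, and `s ∈ Γ` swaps `0, ∞` and fixes `1`, then `s` acts as `z ↦ z⁻¹`
(Kerby-Wefelscheid identity `σ(1 + σ z) = 1 - σ(1 + z)`).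
-/

set_option autoImplicit false

namespace Cfsg.Agent.Lib.Helper95_KT

open Cfsg.Agent.Lib.Helper21_Sharp3

/-- field coordinates in which the stabiliser of `∞` is the affine group -/
structure Coord (Γ : Type*) (α : Type*) (F : Type*) [Group Γ] [MulAction Γ α] [Field F] where
  /-- the coordinate map, `none` is the point at infinity -/
  co : α ≃ Option F
  aff : ∀ g : Γ, co (g • co.symm none) = none →
    ∃ m t : F, m ≠ 0 ∧ ∀ x : α, co (g • x) = (co x).map (fun z => z * m + t)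
  exAff : ∀ m t : F, m ≠ 0 →
    ∃ g : Γ, ∀ x : α, co (g • x) = (co x).map (fun z => z * m + t)

variable {Γ : Type*} {α : Type*} {F : Type*} [Group Γ] [MulAction Γ α] [Field F]

namespace Coord

variable (C : Coord Γ α F)

/-- the point with coordinate `z` -/
def pt (z : F) : α := C.co.symm (some z)

/-- the point at infinity -/
def inf : α := C.co.symm none

theorem co_pt (z : F) : C.co (C.pt z) = some z := C.co.apply_symm_apply _

theorem co_inf : C.co C.inf = none := C.co.apply_symm_apply _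

theorem pt_injective : Function.Injective C.pt := fun z w h => by
  have := congrArg C.co h
  rw [co_pt, co_pt] at this
  exact Option.some.inj this

theorem pt_ne_inf (z : F) : C.pt z ≠ C.inf := fun h => by
  have := congrArg C.co h
  rw [co_pt, co_inf] at this
  exact Option.some_ne_none z this

theorem eq_pt_or_inf (x : α) : x = C.inf ∨ ∃ z, x = C.pt z := by
  rcases h : C.co x with _ | z
  · left
    apply C.co.injective
    rw [h, co_inf]
  · right
    refine ⟨z, ?_⟩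
    apply C.co.injective
    rw [h, co_pt]

theorem smul_pt_of_aff {g : Γ} {m t : F}
    (hg : ∀ x : α, C.co (g • x) = (C.co x).map (fun z => z * m + t)) (z : F) :
    g • C.pt z = C.pt (z * m + t) := by
  apply C.co.injective
  rw [hg, co_pt, co_pt]
  rfl

theorem smul_inf_of_aff {g : Γ} {m t : F}
    (hg : ∀ x : α, C.co (g • x) = (C.co x).map (fun z => z * m + t)) :
    g • C.inf = C.inf := by
  apply C.co.injective
  rw [hg, co_inf]
  rfl

end Coord

/-- the data: coordinates, sharpness and the involution `s` -/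
structure Setup (Γ : Type*) (α : Type*) (F : Type*) [Group Γ] [MulAction Γ α] [Field F] where
  /-- the coordinates -/
  C : Coord Γ α F
  sharp : Sharp3 Γ α
  two_ne : (2 : F) ≠ 0
  /-- the involution -/
  s : Γ
  s_inf : s • C.inf = C.pt 0
  s_zero : s • C.pt 0 = C.inf
  s_one : s • C.pt 1 = C.pt 1

namespace Setup

variable (D : Setup Γ α F)

theorem inf_ne_pt_zero : D.C.inf ≠ D.C.pt 0 := (D.C.pt_ne_inf 0).symm

theorem inf_ne_pt_one : D.C.inf ≠ D.C.pt 1 := (D.C.pt_ne_inf 1).symm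

theorem pt_zero_ne_pt_one : D.C.pt 0 ≠ D.C.pt 1 := fun h => zero_ne_one (D.C.pt_injective h)

theorem s_mul_s : D.s * D.s = 1 :=
  D.sharp (D.s * D.s) D.C.inf (D.C.pt 0) (D.C.pt 1) D.inf_ne_pt_zero D.inf_ne_pt_one D.pt_zero_ne_pt_one
    (by rw [mul_smul, D.s_inf, D.s_zero]) (by rw [mul_smul, D.s_zero, D.s_inf])
    (by rw [mul_smul, D.s_one, D.s_one])

theorem s_smul_s_smul (x : α) : D.s • D.s • x = x := by
  rw [← mul_smul, D.s_mul_s, one_smul]

theorem s_inv : D.s⁻¹ = D.s := inv_eq_of_mul_eq_one_left D.s_mul_s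

/-- the action of `s` in coordinates, with `σ 0 = 0` -/
noncomputable def σ (z : F) : F := (D.C.co (D.s • D.C.pt z)).getD 0

theorem σ_zero : D.σ 0 = 0 := by
  unfold σ
  rw [D.s_zero, D.C.co_inf]
  rfl

theorem s_pt {z : F} (hz : z ≠ 0) : D.s • D.C.pt z = D.C.pt (D.σ z) ∧ D.σ z ≠ 0 := by
  rcases D.C.eq_pt_or_inf (D.s • D.C.pt z) with h | ⟨w, hw⟩
  · exfalso
    have h1 : D.s • D.s • D.C.pt z = D.s • D.C.inf := by rw [h]
    rw [D.s_smul_s_smul, D.s_inf] at h1
    exact hz (D.C.pt_injective h1)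
  · have hσ : D.σ z = w := by
      unfold σ
      rw [hw, D.C.co_pt]
      rfl
    rw [hσ]
    refine ⟨hw, ?_⟩
    intro h0
    rw [h0] at hw
    have h1 : D.s • D.s • D.C.pt z = D.s • D.C.pt 0 := by rw [hw]
    rw [D.s_smul_s_smul, D.s_zero] at h1
    exact D.C.pt_ne_inf z h1

theorem σ_ne_zero {z : F} (hz : z ≠ 0) : D.σ z ≠ 0 := (D.s_pt hz).2

theorem σ_σ (z : F) : D.σ (D.σ z) = z := by
  by_cases hz : z = 0
  · rw [hz, σ_zero, σ_zero]
  · have h1 := (D.s_pt hz).1
    have h2 := (D.s_pt (D.σ_ne_zero hz)).1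
    rw [← h1, D.s_smul_s_smul] at h2
    exact (D.C.pt_injective h2).symm

theorem σ_injective : Function.Injective D.σ := fun z w h => by
  rw [← D.σ_σ z, ← D.σ_σ w, h]

theorem σ_one : D.σ 1 = 1 := by
  have h1 := (D.s_pt (one_ne_zero : (1 : F) ≠ 0)).1
  rw [D.s_one] at h1
  exact (D.C.pt_injective h1).symm

/-- `σ` is multiplicative -/
theorem σ_mul {z m : F} (hz : z ≠ 0) (hm : m ≠ 0) : D.σ (z * m) = D.σ z * D.σ m := by
  obtain ⟨g, hg⟩ := D.C.exAff m 0 hm
  have hginf := D.C.smul_inf_of_aff hg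
  have hgpt := D.C.smul_pt_of_aff hg
  -- the conjugate `s g s`
  have h1 : (D.s * g * D.s) • D.C.inf = D.C.inf := by
    rw [mul_smul, mul_smul, D.s_inf, hgpt, zero_mul, zero_add, D.s_zero]
  obtain ⟨m', t', hm', hg'⟩ := D.C.aff (D.s * g * D.s) (by
    change D.C.co ((D.s * g * D.s) • D.C.inf) = none
    rw [h1, D.C.co_inf])
  have hg'pt := D.C.smul_pt_of_aff hg'
  have h2 : (D.s * g * D.s) • D.C.pt 0 = D.C.pt 0 := by
    rw [mul_smul, mul_smul, D.s_zero, hginf, D.s_inf]
  have ht' : t' = 0 := by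
    rw [hg'pt, zero_mul, zero_add] at h2
    exact D.C.pt_injective h2
  have h3 : (D.s * g * D.s) • D.C.pt 1 = D.C.pt (D.σ m) := by
    rw [mul_smul, mul_smul, D.s_one, hgpt, one_mul, add_zero, (D.s_pt hm).1]
  have hm'' : m' = D.σ m := by
    rw [hg'pt, ht', one_mul, add_zero] at h3
    exact D.C.pt_injective h3
  have h4 : (D.s * g * D.s) • D.C.pt (D.σ z) = D.C.pt (D.σ (z * m)) := by
    rw [mul_smul, mul_smul, ← (D.s_pt hz).1, D.s_smul_s_smul, hgpt, add_zero,
      (D.s_pt (mul_ne_zero hz hm)).1]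
  rw [hg'pt, ht', add_zero, hm''] at h4
  exact (D.C.pt_injective h4).symm

theorem σ_inv {z : F} (hz : z ≠ 0) : D.σ z⁻¹ = (D.σ z)⁻¹ := by
  have h1 := D.σ_mul hz (inv_ne_zero hz)
  rw [mul_inv_cancel₀ hz, σ_one] at h1
  exact (eq_inv_of_mul_eq_one_right h1.symm)

theorem s_ne_one : D.s ≠ 1 := by
  intro h
  have h1 := D.s_inf
  rw [h, one_smul] at h1
  exact D.inf_ne_pt_zero h1

/-- a fixed point of `σ` other than `0, 1` is unique -/
theorem σ_fixed_unique {z w : F} (hz : z ≠ 0) (hw : w ≠ 0) (hz1 : z ≠ 1) (hw1 : w ≠ 1)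
    (hσz : D.σ z = z) (hσw : D.σ w = w) : z = w := by
  by_contra hne
  apply D.s_ne_one
  refine D.sharp D.s (D.C.pt 1) (D.C.pt z) (D.C.pt w) ?_ ?_ ?_ D.s_one ?_ ?_
  · exact fun h => hz1 (D.C.pt_injective h).symm
  · exact fun h => hw1 (D.C.pt_injective h).symm
  · exact fun h => hne (D.C.pt_injective h)
  · rw [(D.s_pt hz).1, hσz]
  · rw [(D.s_pt hw).1, hσw]

include D in
theorem neg_one_ne_one' : (-1 : F) ≠ 1 := by
  have h2 := D.two_ne
  intro h
  apply h2
  have : (1 : F) + 1 = 0 := by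
    nth_rewrite 1 [← h]
    ring
  rw [← this]; norm_num

theorem σ_neg_one : D.σ (-1) = -1 := by
  have hne : (-1 : F) ≠ 0 := neg_ne_zero.2 one_ne_zero
  have h1 := D.σ_mul hne hne
  rw [neg_mul_neg, one_mul, σ_one] at h1
  have h2 : D.σ (-1) = 1 ∨ D.σ (-1) = -1 := by
    have : (D.σ (-1) - 1) * (D.σ (-1) + 1) = 0 := by
      ring_nf
      rw [sq, ← h1]; ring
    rcases mul_eq_zero.1 this with h | h
    · left; exact sub_eq_zero.1 h
    · right; exact eq_neg_of_add_eq_zero_left h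
  rcases h2 with h | h
  · exfalso
    have h' : D.σ (-1) = D.σ 1 := by rw [h, D.σ_one]
    exact D.neg_one_ne_one' (D.σ_injective h')
  · exact h

/-- `z * σ z` is `±1` -/
theorem mul_σ_self {z : F} (hz : z ≠ 0) : z * D.σ z = 1 ∨ z * D.σ z = -1 := by
  have hne : z * D.σ z ≠ 0 := mul_ne_zero hz (D.σ_ne_zero hz)
  have hfix : D.σ (z * D.σ z) = z * D.σ z := by
    rw [D.σ_mul hz (D.σ_ne_zero hz), D.σ_σ, mul_comm]
  by_cases h1 : z * D.σ z = 1
  · left; exact h1
  · right
    exact D.σ_fixed_unique hne (neg_ne_zero.2 one_ne_zero) h1 D.neg_one_ne_one' hfix D.σ_neg_one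

/-- the Kerby-Wefelscheid identity -/
theorem kt {z : F} (hz : z ≠ 0) (hz1 : z ≠ -1) : D.σ (D.σ z + 1) = 1 - D.σ (z + 1) := by
  obtain ⟨τ, hτ⟩ := D.C.exAff 1 1 one_ne_zero
  obtain ⟨η, hη⟩ := D.C.exAff (-1) 0 (neg_ne_zero.2 one_ne_zero)
  have hτinf := D.C.smul_inf_of_aff hτ
  have hτpt := D.C.smul_pt_of_aff hτ
  have hηinf := D.C.smul_inf_of_aff hη
  have hηpt := D.C.smul_pt_of_aff hη
  have hne : (-1 : F) ≠ 0 := neg_ne_zero.2 one_ne_zero
  -- the two elements agree on `∞, 0, -1`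
  have hA1 : (D.s * τ * D.s) • D.C.inf = D.C.pt 1 := by
    rw [mul_smul, mul_smul, D.s_inf, hτpt, zero_mul, zero_add, D.s_one]
  have hA2 : (τ * η * D.s * τ) • D.C.inf = D.C.pt 1 := by
    rw [mul_smul, mul_smul, mul_smul, hτinf, D.s_inf, hηpt, hτpt]
    congr 1; ring
  have hB1 : (D.s * τ * D.s) • D.C.pt 0 = D.C.pt 0 := by
    rw [mul_smul, mul_smul, D.s_zero, hτinf, D.s_inf]
  have hB2 : (τ * η * D.s * τ) • D.C.pt 0 = D.C.pt 0 := by
    rw [mul_smul, mul_smul, mul_smul, hτpt, zero_mul, zero_add, D.s_one, hηpt, hτpt]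
    congr 1; ring
  have hC1 : (D.s * τ * D.s) • D.C.pt (-1) = D.C.inf := by
    rw [mul_smul, mul_smul, (D.s_pt hne).1, D.σ_neg_one, hτpt]
    have : (-1 : F) * 1 + 1 = 0 := by ring
    rw [this, D.s_zero]
  have hC2 : (τ * η * D.s * τ) • D.C.pt (-1) = D.C.inf := by
    rw [mul_smul, mul_smul, mul_smul, hτpt]
    have : (-1 : F) * 1 + 1 = 0 := by ring
    rw [this, D.s_zero, hηinf, hτinf]
  have heq : (τ * η * D.s * τ)⁻¹ * (D.s * τ * D.s) = 1 := by
    refine D.sharp _ D.C.inf (D.C.pt 0) (D.C.pt (-1)) D.inf_ne_pt_zero (D.C.pt_ne_inf _).symm ?_ ?_ ?_ ?_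
    · exact fun h => hne (D.C.pt_injective h).symm
    · rw [mul_smul, hA1, inv_smul_eq_iff, hA2]
    · rw [mul_smul, hB1, inv_smul_eq_iff, hB2]
    · rw [mul_smul, hC1, inv_smul_eq_iff, hC2]
  have heq' : D.s * τ * D.s = τ * η * D.s * τ := (inv_mul_eq_one.1 heq).symm
  -- evaluate at `z`
  have hσz1 : D.σ z + 1 ≠ 0 := by
    intro h
    have : D.σ z = -1 := eq_neg_of_add_eq_zero_left h
    rw [← D.σ_neg_one] at this
    exact hz1 (D.σ_injective this)
  have hz2 : z + 1 ≠ 0 := fun h => hz1 (eq_neg_of_add_eq_zero_left h)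
  have hL : (D.s * τ * D.s) • D.C.pt z = D.C.pt (D.σ (D.σ z + 1)) := by
    rw [mul_smul, mul_smul, (D.s_pt hz).1, hτpt, mul_one, (D.s_pt hσz1).1]
  have hR : (τ * η * D.s * τ) • D.C.pt z = D.C.pt (1 - D.σ (z + 1)) := by
    rw [mul_smul, mul_smul, mul_smul, hτpt, mul_one, (D.s_pt hz2).1, hηpt, hτpt]
    congr 1; ring
  rw [heq', hR] at hL
  exact (D.C.pt_injective hL).symm

/-- the set of `z` with `z = 0` or `z * σ z = 1` -/
def Good (z : F) : Prop := z = 0 ∨ z * D.σ z = 1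

theorem good_one : D.Good 1 := Or.inr (by rw [D.σ_one, mul_one])

theorem good_mul {y z : F} (hy : D.Good y) (hz : D.Good z) : D.Good (y * z) := by
  rcases hy with hy | hy
  · left; rw [hy, zero_mul]
  rcases hz with hz | hz
  · left; rw [hz, mul_zero]
  have hy0 : y ≠ 0 := fun h => by rw [h, zero_mul] at hy; exact zero_ne_one hy
  have hz0 : z ≠ 0 := fun h => by rw [h, zero_mul] at hz; exact zero_ne_one hz
  right
  rw [D.σ_mul hy0 hz0]
  calc y * z * (D.σ y * D.σ z) = (y * D.σ y) * (z * D.σ z) := by ring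
    _ = 1 := by rw [hy, hz, mul_one]

theorem good_inv {y : F} (hy : D.Good y) : D.Good y⁻¹ := by
  rcases hy with hy | hy
  · left; rw [hy, inv_zero]
  have hy0 : y ≠ 0 := fun h => by rw [h, zero_mul] at hy; exact zero_ne_one hy
  right
  rw [D.σ_inv hy0, ← mul_inv, hy, inv_one]

theorem good_neg_one : D.Good (-1) := Or.inr (by rw [D.σ_neg_one]; ring)

theorem good_add_one {y : F} (hy : D.Good y) : D.Good (y + 1) := by
  rcases hy with hy | hy
  · rw [hy, zero_add]; exact D.good_one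
  by_cases hy1 : y = -1
  · left; rw [hy1]; ring
  have hy0 : y ≠ 0 := fun h => by rw [h, zero_mul] at hy; exact zero_ne_one hy
  have hσy : D.σ y = y⁻¹ := eq_inv_of_mul_eq_one_right hy
  have hy2 : y + 1 ≠ 0 := fun h => hy1 (eq_neg_of_add_eq_zero_left h)
  have h1 := D.kt hy0 hy1
  rw [hσy] at h1
  have h2 : y⁻¹ + 1 = (y + 1) * y⁻¹ := by
    rw [add_mul, mul_inv_cancel₀ hy0, one_mul, add_comm]
  rw [h2, D.σ_mul hy2 (inv_ne_zero hy0), D.σ_inv hy0, hσy, inv_inv] at h1
  right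
  -- `σ(y+1) * y = 1 - σ(y+1)`
  calc (y + 1) * D.σ (y + 1) = D.σ (y + 1) * y + D.σ (y + 1) := by ring
    _ = (1 - D.σ (y + 1)) + D.σ (y + 1) := by rw [h1]
    _ = 1 := by ring

theorem good_add {y z : F} (hy : D.Good y) (hz : D.Good z) : D.Good (y + z) := by
  by_cases hz0 : z = 0
  · rw [hz0, add_zero]; exact hy
  have h1 : y + z = z * (y * z⁻¹ + 1) := by
    field_simp
  rw [h1]
  exact D.good_mul hz (D.good_add_one (D.good_mul hy (D.good_inv hz)))

theorem good_neg {y : F} (hy : D.Good y) : D.Good (-y) := by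
  have : -y = -1 * y := by ring
  rw [this]
  exact D.good_mul D.good_neg_one hy

theorem good_sq (r : F) : D.Good (r * r) := by
  by_cases hr : r = 0
  · left; rw [hr, zero_mul]
  right
  rw [D.σ_mul hr hr]
  rcases D.mul_σ_self hr with h | h
  · calc r * r * (D.σ r * D.σ r) = (r * D.σ r) * (r * D.σ r) := by ring
      _ = 1 := by rw [h, mul_one]
  · calc r * r * (D.σ r * D.σ r) = (r * D.σ r) * (r * D.σ r) := by ring
      _ = 1 := by rw [h]; ring

theorem good_all (n : F) : D.Good n := by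
  have h2 : D.Good (2 : F) := by
    have : (2 : F) = 1 + 1 := by norm_num
    rw [this]
    exact D.good_add D.good_one D.good_one
  have h3 : n = ((n + 1) * (n + 1) + -(n * n) + -1) * (2 : F)⁻¹ := by
    have := D.two_ne
    field_simp
    ring
  rw [h3]
  exact D.good_mul (D.good_add (D.good_add (D.good_sq _) (D.good_neg (D.good_sq _)))
    D.good_neg_one) (D.good_inv h2)

/-- **the involution is the inversion** -/
theorem σ_eq_inv (z : F) : D.σ z = z⁻¹ := by
  by_cases hz : z = 0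
  · rw [hz, σ_zero, inv_zero]
  rcases D.good_all z with h | h
  · exact absurd h hz
  · exact eq_inv_of_mul_eq_one_right h

theorem s_smul_pt {z : F} (hz : z ≠ 0) : D.s • D.C.pt z = D.C.pt z⁻¹ := by
  rw [(D.s_pt hz).1, D.σ_eq_inv]

end Setup

end Cfsg.Agent.Lib.Helper95_KT
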