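import Mathlib
import Cfsg.Agent.S0266
import Cfsg.Agent.Lib.Helper95_KT

/-!
# A sharply triply transitive group coordinatised by a field is `PGL(2, F)` (helper95)

In the setting of `Helper95_KT.Setup` (stabiliser of `∞` = affine group of the field `F`, `2 ≠ 0`),
if `Γ` is faithful and triply transitive then `Γ ≃* PGL(2, F)`: every element of `Γ` acts on the
projective line as an element of `PGL(2, F)`.
-/

set_option autoImplicit false
open scoped MatrixGroups

namespace Cfsg.Agent.Lib.Helper95_PGL2Iso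

open Cfsg.Agent.Lib.Helper95_KT Cfsg.Agent.Lib.Helper21_Sharp3
open Projectivization Matrix.ProjGenLinGroup
open Cfsg.Agent.S0266

variable {Γ : Type*} {α : Type*} {F : Type*} [Group Γ] [MulAction Γ α] [Field F]

/-- homogeneous coordinates -/
def pvec : Option F → (Fin 2 → F)
  | none => ![1, 0]
  | some z => ![z, 1]

theorem pvec_ne (o : Option F) : pvec o ≠ 0 := by
  rcases o with _ | z
  · intro h; have := congrFun h 0; simp [pvec] at this
  · intro h; have := congrFun h 1; simp [pvec] at this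

/-- the point of the projective line with coordinate `o` -/
noncomputable def ppt (o : Option F) : Projectivization F (Fin 2 → F) :=
  Projectivization.mk F (pvec o) (pvec_ne o)

theorem ppt_injective : Function.Injective (ppt : Option F → Projectivization F (Fin 2 → F)) := by
  intro o o' h
  unfold ppt at h
  rw [mk_eq_mk_iff'] at h
  obtain ⟨a, ha⟩ := h
  rcases o with _ | z <;> rcases o' with _ | z'
  · rfl
  · exfalso
    have h1 := congrFun ha 1
    have h0 := congrFun ha 0
    simp [pvec] at h1 h0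
    rw [h1] at h0
    simp at h0
  · exfalso
    have h1 := congrFun ha 1
    simp [pvec] at h1
  · have h1 := congrFun ha 1
    have h0 := congrFun ha 0
    simp [pvec] at h1 h0
    rw [h1, one_mul] at h0
    rw [h0]

theorem ppt_surjective :
    Function.Surjective (ppt : Option F → Projectivization F (Fin 2 → F)) := by
  intro P
  induction P using Projectivization.ind with
  | h v hv =>
    by_cases h1 : v 1 = 0
    · refine ⟨none, ?_⟩
      unfold ppt
      rw [mk_eq_mk_iff']
      refine ⟨(v 0)⁻¹, ?_⟩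
      have h0 : v 0 ≠ 0 := by
        intro h0
        apply hv
        funext i
        fin_cases i
        · exact h0
        · exact h1
      funext i
      fin_cases i
      · simp [pvec, h0]
      · simp [pvec, h1]
    · refine ⟨some (v 0 / v 1), ?_⟩
      unfold ppt
      rw [mk_eq_mk_iff']
      refine ⟨(v 1)⁻¹, ?_⟩
      funext i
      fin_cases i
      · simp [pvec, div_eq_mul_inv, mul_comm]
      · simp [pvec, h1]

theorem ppt_none : (ppt (none : Option F) : Projectivization F (Fin 2 → F)) = p₀ := rfl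
theorem ppt_zero : (ppt (some (0 : F)) : Projectivization F (Fin 2 → F)) = p₁ := rfl
theorem ppt_one : (ppt (some (1 : F)) : Projectivization F (Fin 2 → F)) = p₂ := rfl

/-- the affine matrix -/
noncomputable def affMat (m t : F) (hm : m ≠ 0) : GL (Fin 2) F :=
  glOf ![m, 0] ![t, 1] (by simp [det2, hm])

theorem affMat_smul_some (m t : F) (hm : m ≠ 0) (z : F) :
    (Matrix.ProjGenLinGroup.mk (affMat m t hm) : PGL(Fin 2, F)) • ppt (some z) =
      ppt (some (z * m + t)) := by
  unfold ppt
  rw [PGL.mk_smul_mk]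
  congr 1
  rw [affMat, glOf_smul]
  funext i
  fin_cases i <;> simp [pvec]

theorem affMat_smul_none (m t : F) (hm : m ≠ 0) :
    (Matrix.ProjGenLinGroup.mk (affMat m t hm) : PGL(Fin 2, F)) • ppt (none : Option F) =
      ppt (none : Option F) := by
  unfold ppt
  rw [PGL.mk_smul_mk, mk_eq_mk_iff']
  refine ⟨m, ?_⟩
  rw [affMat, glOf_smul]
  funext i
  fin_cases i <;> simp [pvec]

/-- the inversion matrix -/
noncomputable def invMat : GL (Fin 2) F :=
  glOf ![0, 1] ![1, 0] (by simp [det2])

theorem invMat_smul_none :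
    (Matrix.ProjGenLinGroup.mk (invMat : GL (Fin 2) F) : PGL(Fin 2, F)) • ppt (none : Option F) =
      ppt (some (0 : F)) := by
  unfold ppt
  rw [PGL.mk_smul_mk]
  congr 1
  rw [invMat, glOf_smul]
  funext i
  fin_cases i <;> simp [pvec]

theorem invMat_smul_zero :
    (Matrix.ProjGenLinGroup.mk (invMat : GL (Fin 2) F) : PGL(Fin 2, F)) • ppt (some (0 : F)) =
      ppt (none : Option F) := by
  unfold ppt
  rw [PGL.mk_smul_mk]
  congr 1
  rw [invMat, glOf_smul]
  funext i
  fin_cases i <;> simp [pvec]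

theorem invMat_smul_some {z : F} (hz : z ≠ 0) :
    (Matrix.ProjGenLinGroup.mk (invMat : GL (Fin 2) F) : PGL(Fin 2, F)) • ppt (some z) =
      ppt (some z⁻¹) := by
  unfold ppt
  rw [PGL.mk_smul_mk, mk_eq_mk_iff']
  refine ⟨z, ?_⟩
  rw [invMat, glOf_smul]
  funext i
  fin_cases i <;> simp [pvec, hz]

variable (D : Setup Γ α F)

/-- the projective coordinate of a point -/
noncomputable def β (x : α) : Projectivization F (Fin 2 → F) := ppt (D.C.co x)

theorem β_injective : Function.Injective (β D) := fun _ _ h =>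
  D.C.co.injective (ppt_injective h)

theorem β_surjective : Function.Surjective (β D) := fun P => by
  obtain ⟨o, ho⟩ := ppt_surjective P
  exact ⟨D.C.co.symm o, by unfold β; rw [Equiv.apply_symm_apply, ho]⟩

theorem β_inf : β D D.C.inf = p₀ := by unfold β; rw [D.C.co_inf]; rfl
theorem β_pt (z : F) : β D (D.C.pt z) = ppt (some z) := by unfold β; rw [D.C.co_pt]

/-- `g` acts as an element of `PGL(2, F)` -/
def IsProj (g : Γ) : Prop := ∃ m : PGL(Fin 2, F), ∀ x : α, β D (g • x) = m • β D x

theorem isProj_of_aff {g : Γ} {m t : F} (hm : m ≠ 0)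
    (hg : ∀ x : α, D.C.co (g • x) = (D.C.co x).map (fun z => z * m + t)) : IsProj D g := by
  refine ⟨Matrix.ProjGenLinGroup.mk (affMat m t hm), fun x => ?_⟩
  unfold β
  rw [hg]
  rcases D.C.co x with _ | z
  · exact (affMat_smul_none m t hm).symm
  · exact (affMat_smul_some m t hm z).symm

theorem isProj_s : IsProj D D.s := by
  refine ⟨Matrix.ProjGenLinGroup.mk invMat, fun x => ?_⟩
  rcases D.C.eq_pt_or_inf x with h | ⟨z, h⟩
  · rw [h, D.s_inf, β_pt, β_inf, ← ppt_none, invMat_smul_none]
  · rw [h]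
    by_cases hz : z = 0
    · rw [hz, D.s_zero, β_inf, β_pt, invMat_smul_zero, ppt_none]
    · rw [D.s_smul_pt hz, β_pt, β_pt, invMat_smul_some hz]

theorem isProj_mul {g h : Γ} (hg : IsProj D g) (hh : IsProj D h) : IsProj D (g * h) := by
  obtain ⟨m, hm⟩ := hg
  obtain ⟨n, hn⟩ := hh
  exact ⟨m * n, fun x => by rw [mul_smul, hm, hn, mul_smul]⟩

theorem isProj_inv {g : Γ} (hg : IsProj D g) : IsProj D g⁻¹ := by
  obtain ⟨m, hm⟩ := hg
  refine ⟨m⁻¹, fun x => ?_⟩
  rw [eq_inv_smul_iff, ← hm, smul_inv_smul]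

theorem isProj_all (g : Γ) : IsProj D g := by
  by_cases hg : D.C.co (g • D.C.inf) = none
  · obtain ⟨m, t, hm, hmt⟩ := D.C.aff g hg
    exact isProj_of_aff D hm hmt
  · obtain ⟨z₀, hz₀⟩ := Option.ne_none_iff_exists'.1 hg
    have hgx : g • D.C.inf = D.C.pt z₀ := by
      apply D.C.co.injective
      rw [hz₀, D.C.co_pt]
    obtain ⟨τ, hτ⟩ := D.C.exAff 1 (-z₀) one_ne_zero
    have hτpt := D.C.smul_pt_of_aff hτ
    have h1 : (D.s * τ * g) • D.C.inf = D.C.inf := by
      rw [mul_smul, mul_smul, hgx, hτpt]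
      have : z₀ * 1 + -z₀ = 0 := by ring
      rw [this, D.s_zero]
    obtain ⟨m, t, hm, hmt⟩ := D.C.aff (D.s * τ * g) (by
      change D.C.co ((D.s * τ * g) • D.C.inf) = none
      rw [h1, D.C.co_inf])
    have h2 : IsProj D (D.s * τ * g) := isProj_of_aff D hm hmt
    have h3 : g = τ⁻¹ * (D.s⁻¹ * (D.s * τ * g)) := by group
    rw [h3]
    exact isProj_mul D (isProj_inv D (isProj_of_aff D one_ne_zero hτ))
      (isProj_mul D (isProj_inv D (isProj_s D)) h2)

/-- the element of `PGL(2, F)` induced by `g` -/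
noncomputable def Φ (g : Γ) : PGL(Fin 2, F) := Classical.choose (isProj_all D g)

theorem Φ_spec (g : Γ) (x : α) : β D (g • x) = Φ D g • β D x :=
  Classical.choose_spec (isProj_all D g) x

theorem eq_of_smul_β_eq {m n : PGL(Fin 2, F)} (h : ∀ x : α, m • β D x = n • β D x) : m = n := by
  have h1 : n⁻¹ * m = 1 := by
    apply eq_one_of_fix_base
    · rw [← β_inf D, mul_smul, h, inv_smul_smul]
    · rw [← ppt_zero, ← β_pt D, mul_smul, h, inv_smul_smul]
    · rw [← ppt_one, ← β_pt D, mul_smul, h, inv_smul_smul]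
  exact (inv_mul_eq_one.1 h1).symm

theorem Φ_mul (g h : Γ) : Φ D (g * h) = Φ D g * Φ D h := by
  apply eq_of_smul_β_eq D
  intro x
  rw [← Φ_spec, mul_smul, mul_smul, Φ_spec, Φ_spec]

include D in
/-- the isomorphism -/
theorem nonempty_mulEquiv (hfaith : ∀ g : Γ, (∀ x : α, g • x = x) → g = 1)
    (hE : ∀ u v w u' v' w' : α, u ≠ v → u ≠ w → v ≠ w → u' ≠ v' → u' ≠ w' → v' ≠ w' →
      ∃ g : Γ, g • u = u' ∧ g • v = v' ∧ g • w = w') :
    Nonempty (Γ ≃* PGL(Fin 2, F)) := by
  let φ : Γ →* PGL(Fin 2, F) := MonoidHom.mk' (Φ D) (Φ_mul D)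
  have hφ : ∀ g, φ g = Φ D g := fun g => rfl
  have hinj : Function.Injective φ := by
    rw [injective_iff_map_eq_one]
    intro g hg
    apply hfaith
    intro x
    apply β_injective D
    rw [Φ_spec, ← hφ, hg, one_smul]
  have hsurj : Function.Surjective φ := by
    intro m
    obtain ⟨x₀, hx₀⟩ := β_surjective D (m • p₀)
    obtain ⟨x₁, hx₁⟩ := β_surjective D (m • p₁)
    obtain ⟨x₂, hx₂⟩ := β_surjective D (m • p₂)
    have hp01 : (p₀ : Projectivization F (Fin 2 → F)) ≠ p₁ := by
      rw [← ppt_none, ← ppt_zero]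
      exact fun h => Option.some_ne_none _ (ppt_injective h).symm
    have hp02 : (p₀ : Projectivization F (Fin 2 → F)) ≠ p₂ := by
      rw [← ppt_none, ← ppt_one]
      exact fun h => Option.some_ne_none _ (ppt_injective h).symm
    have hp12 : (p₁ : Projectivization F (Fin 2 → F)) ≠ p₂ := by
      rw [← ppt_zero, ← ppt_one]
      exact fun h => zero_ne_one (Option.some.inj (ppt_injective h))
    have h01 : x₀ ≠ x₁ := by
      intro h
      rw [h, hx₁] at hx₀
      exact hp01 (smul_left_cancel m hx₀).symm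
    have h02 : x₀ ≠ x₂ := by
      intro h
      rw [h, hx₂] at hx₀
      exact hp02 (smul_left_cancel m hx₀).symm
    have h12 : x₁ ≠ x₂ := by
      intro h
      rw [h, hx₂] at hx₁
      exact hp12 (smul_left_cancel m hx₁).symm
    obtain ⟨g, hg0, hg1, hg2⟩ := hE D.C.inf (D.C.pt 0) (D.C.pt 1) x₀ x₁ x₂ D.inf_ne_pt_zero
      D.inf_ne_pt_one D.pt_zero_ne_pt_one h01 h02 h12
    refine ⟨g, ?_⟩
    rw [hφ]
    have e0 : Φ D g • (p₀ : Projectivization F (Fin 2 → F)) = m • p₀ := by
      have := Φ_spec D g D.C.inf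
      rw [hg0, hx₀, β_inf] at this
      exact this.symm
    have e1 : Φ D g • (p₁ : Projectivization F (Fin 2 → F)) = m • p₁ := by
      have := Φ_spec D g (D.C.pt 0)
      rw [hg1, hx₁, β_pt] at this
      exact this.symm
    have e2 : Φ D g • (p₂ : Projectivization F (Fin 2 → F)) = m • p₂ := by
      have := Φ_spec D g (D.C.pt 1)
      rw [hg2, hx₂, β_pt] at this
      exact this.symm
    have h1 : m⁻¹ * Φ D g = 1 := by
      apply eq_one_of_fix_base
      · rw [mul_smul, e0, inv_smul_smul]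
      · rw [mul_smul, e1, inv_smul_smul]
      · rw [mul_smul, e2, inv_smul_smul]
    exact (inv_mul_eq_one.1 h1).symm
  exact ⟨MulEquiv.ofBijective φ ⟨hinj, hsurj⟩⟩

end Cfsg.Agent.Lib.Helper95_PGL2Iso
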