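import Mathlib

/-!
# Subgroups of index two (helper95)

Small finite-group lemmas producing subgroups of index `2`:
* a nontrivial finite `2`-group, a finite commutative group of even order;
* groups of order `8, 16, 40, 176`; groups of order `24, 48, 120, 528` with at most one subgroup
  of order `3`;
* an index-two subgroup invariant under an involutory automorphism.
-/

set_option autoImplicit false

namespace Cfsg.Agent.Lib.Helper95_IdxTwo

variable {Q : Type*} [Group Q]

/-- a finite group of order `2 ^ (k+1)` has a subgroup of index `2` -/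
theorem exists_index_two_of_card_pow [Finite Q] (k : ℕ) (h : Nat.card Q = 2 ^ (k + 1)) :
    ∃ M : Subgroup Q, M.index = 2 := by
  have : Fact (Nat.Prime 2) := ⟨Nat.prime_two⟩
  obtain ⟨K, hK⟩ := Sylow.exists_subgroup_card_pow_prime (G := Q) 2 (n := k)
    (by rw [h, pow_succ]; exact Dvd.intro _ rfl)
  refine ⟨K, ?_⟩
  have h1 := K.card_mul_index
  rw [hK, h, pow_succ] at h1
  exact Nat.eq_of_mul_eq_mul_left (pow_pos (by norm_num) k) h1

/-- pull back an index-two subgroup of a quotient -/
theorem exists_index_two_of_quotient (N : Subgroup Q) [N.Normal]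
    (h : ∃ M : Subgroup (Q ⧸ N), M.index = 2) : ∃ M : Subgroup Q, M.index = 2 := by
  obtain ⟨M, hM⟩ := h
  exact ⟨M.comap (QuotientGroup.mk' N), by
    rw [Subgroup.index_comap_of_surjective _ (QuotientGroup.mk'_surjective N), hM]⟩

/-- pull back an index-two subgroup along a surjective homomorphism -/
theorem exists_index_two_of_surjective {R : Type*} [Group R] (f : Q →* R)
    (hf : Function.Surjective f) (h : ∃ M : Subgroup R, M.index = 2) :
    ∃ M : Subgroup Q, M.index = 2 := by
  obtain ⟨M, hM⟩ := h
  exact ⟨M.comap f, by rw [Subgroup.index_comap_of_surjective _ hf, hM]⟩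

/-- a finite commutative group of even order has a subgroup of index `2` -/
theorem exists_index_two_of_comm [Finite Q] (hc : ∀ x y : Q, x * y = y * x)
    (he : Even (Nat.card Q)) : ∃ M : Subgroup Q, M.index = 2 := by
  have : Fact (Nat.Prime 2) := ⟨Nat.prime_two⟩
  obtain ⟨t, ht⟩ := exists_prime_orderOf_dvd_card' (G := Q) 2 (even_iff_two_dvd.1 he)
  let f : Q →* Q :=
    { toFun := fun x => x ^ 2
      map_one' := one_pow 2
      map_mul' := fun x y => (Commute.mul_pow (hc x y) 2) }
  have hft : f t = 1 := by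
    change t ^ 2 = 1
    rw [← ht]; exact pow_orderOf_eq_one t
  have ht1 : t ≠ 1 := by
    intro h
    rw [h, orderOf_one] at ht
    omega
  have hninj : ¬ Function.Injective f := by
    intro hinj
    exact ht1 (hinj (by rw [hft, map_one]))
  have hnsurj : ¬ Function.Surjective f := fun hs => hninj (Finite.injective_iff_surjective.2 hs)
  have hN : f.range.Normal := ⟨fun n hn g => by
    have : g * n * g⁻¹ = n := by rw [hc g n, mul_inv_cancel_right]
    rw [this]; exact hn⟩
  apply exists_index_two_of_quotient f.range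
  -- the quotient is a nontrivial elementary abelian 2-group
  have hP : IsPGroup 2 (Q ⧸ f.range) := by
    intro x
    refine ⟨1, ?_⟩
    induction x using QuotientGroup.induction_on with
    | H x =>
      rw [pow_one, ← QuotientGroup.mk_pow, QuotientGroup.eq_one_iff]
      exact ⟨x, rfl⟩
  obtain ⟨n, hn⟩ := IsPGroup.iff_card.1 hP
  have hn0 : n ≠ 0 := by
    intro h0
    rw [h0, pow_zero] at hn
    have h1 : f.range.index = 1 := hn
    rw [Subgroup.index_eq_one] at h1
    exact hnsurj (MonoidHom.range_eq_top.1 h1)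
  obtain ⟨k, rfl⟩ := Nat.exists_eq_succ_of_ne_zero hn0
  exact exists_index_two_of_card_pow k hn

/-- a normal Sylow subgroup from the counting argument -/
theorem sylow_normal_of_card [Finite Q] (r m : ℕ) [Fact r.Prime] (hcard : Nat.card Q = r * m)
    (hrm : ¬ r ∣ m) (hm : ∀ d, d ∣ m → d % r = 1 → d = 1) (P : Sylow r Q) :
    (P : Subgroup Q).Normal ∧ (P : Subgroup Q).index = m := by
  have hr : r.Prime := Fact.out
  have hidx : (P : Subgroup Q).index = m := by
    obtain ⟨n, hn⟩ := IsPGroup.iff_card.1 P.isPGroup'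
    have h1 := (P : Subgroup Q).card_mul_index
    have h2 := P.not_dvd_index
    rw [hn, hcard] at h1
    rcases n with _ | _ | n
    · exfalso
      rw [pow_zero, one_mul] at h1
      exact h2 (h1 ▸ Dvd.intro _ rfl)
    · rw [zero_add, pow_one] at h1
      exact Nat.eq_of_mul_eq_mul_left hr.pos h1
    · exfalso
      rw [pow_succ, pow_succ, mul_assoc, mul_assoc] at h1
      have h3 : r * (r ^ n * (P : Subgroup Q).index) = m := by
        apply Nat.eq_of_mul_eq_mul_left hr.pos
        rw [← h1]; ring
      exact hrm (h3 ▸ Dvd.intro _ rfl)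
  refine ⟨?_, hidx⟩
  have h1 := card_sylow_modEq_one r Q
  have h2 := P.card_dvd_index
  rw [hidx] at h2
  have h3 : Nat.card (Sylow r Q) = 1 := by
    apply hm _ h2
    have := h1
    unfold Nat.ModEq at this
    rw [this]
    exact Nat.mod_eq_of_lt hr.one_lt
  rw [P.card_eq_index_normalizer, Subgroup.index_eq_one] at h3
  exact Subgroup.normalizer_eq_top_iff.1 h3

/-- a group of order `r * 2 ^ (k+1)` whose Sylow `r`-subgroup is forced to be normal has a
subgroup of index `2` -/
theorem exists_index_two_of_card_mul [Finite Q] (r k : ℕ) [Fact r.Prime]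
    (hcard : Nat.card Q = r * 2 ^ (k + 1)) (hrm : ¬ r ∣ 2 ^ (k + 1))
    (hm : ∀ d, d ∣ 2 ^ (k + 1) → d % r = 1 → d = 1) : ∃ M : Subgroup Q, M.index = 2 := by
  obtain ⟨P⟩ : Nonempty (Sylow r Q) := inferInstance
  obtain ⟨hn, hidx⟩ := sylow_normal_of_card r _ hcard hrm hm P
  apply exists_index_two_of_quotient (P : Subgroup Q)
  exact exists_index_two_of_card_pow k hidx

/-- groups of order `8, 16, 40, 176` have a subgroup of index `2` -/
theorem exists_index_two_of_card_aux [Finite Q]
    (h : Nat.card Q = 8 ∨ Nat.card Q = 16 ∨ Nat.card Q = 40 ∨ Nat.card Q = 176) :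
    ∃ M : Subgroup Q, M.index = 2 := by
  rcases h with h | h | h | h
  · exact exists_index_two_of_card_pow 2 (by rw [h]; norm_num)
  · exact exists_index_two_of_card_pow 3 (by rw [h]; norm_num)
  · have : Fact (Nat.Prime 5) := ⟨by norm_num⟩
    refine exists_index_two_of_card_mul 5 2 (by rw [h]; norm_num) (by norm_num) ?_
    intro d hd hd1
    have hle : d ≤ 8 := Nat.le_of_dvd (by norm_num) hd
    interval_cases d <;> simp_all
  · have : Fact (Nat.Prime 11) := ⟨by norm_num⟩
    refine exists_index_two_of_card_mul 11 3 (by rw [h]; norm_num) (by norm_num) ?_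
    intro d hd hd1
    have hle : d ≤ 16 := Nat.le_of_dvd (by norm_num) hd
    interval_cases d <;> simp_all

/-- a finite group of order `24, 48, 120, 528` in which any two elements of order `3` generate the
same subgroup has a subgroup of index `2` -/
theorem exists_index_two_of_card [Finite Q]
    (h : Nat.card Q = 24 ∨ Nat.card Q = 48 ∨ Nat.card Q = 120 ∨ Nat.card Q = 528)
    (hU3 : ∀ x y : Q, x ^ 3 = 1 → x ≠ 1 → y ^ 3 = 1 → y ≠ 1 → y = x ∨ y = x ^ 2) :
    ∃ M : Subgroup Q, M.index = 2 := by
  have : Fact (Nat.Prime 3) := ⟨by norm_num⟩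
  have h3 : 3 ∣ Nat.card Q := by
    rcases h with h | h | h | h <;> rw [h] <;> norm_num
  obtain ⟨x, hx⟩ := exists_prime_orderOf_dvd_card' (G := Q) 3 h3
  have hx3 : x ^ 3 = 1 := by rw [← hx]; exact pow_orderOf_eq_one x
  have hx1 : x ≠ 1 := by
    intro h1
    rw [h1, orderOf_one] at hx
    omega
  have hx2 : x ^ 2 ≠ x := by
    intro h2
    apply hx1
    have : x * x = x := by rw [← pow_two]; exact h2
    exact mul_eq_left.mp this
  have hx4 : (x ^ 2) ^ 2 = x := by
    rw [← pow_mul]
    calc x ^ (2 * 2) = x ^ 3 * x := by rw [← pow_succ]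
      _ = x := by rw [hx3, one_mul]
  have hconj : ∀ g : Q, g * x * g⁻¹ = x ∨ g * x * g⁻¹ = x ^ 2 := by
    intro g
    apply hU3 x _ hx3 hx1
    · rw [conj_pow, hx3, mul_one, mul_inv_cancel]
    · intro h1
      apply hx1
      have := congrArg (fun y => g⁻¹ * y * g) h1
      simpa [mul_assoc] using this
  by_cases hc : ∀ g : Q, g * x * g⁻¹ = x
  · -- `x` is central
    have hN : (Subgroup.zpowers x).Normal := by
      refine ⟨fun n hn g => ?_⟩
      obtain ⟨i, rfl⟩ := Subgroup.mem_zpowers_iff.1 hn
      have h1 : g * x ^ i * g⁻¹ = (g * x * g⁻¹) ^ i := by rw [conj_zpow]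
      rw [h1, hc g]
      exact Subgroup.zpow_mem_zpowers x i
    apply exists_index_two_of_quotient (Subgroup.zpowers x)
    apply exists_index_two_of_card_aux
    have h1 := (Subgroup.zpowers x).card_mul_index
    rw [Nat.card_zpowers, hx] at h1
    change 3 * Nat.card (Q ⧸ Subgroup.zpowers x) = Nat.card Q at h1
    rcases h with h | h | h | h <;> rw [h] at h1 <;> omega
  · -- the centraliser of `x` has index two
    push Not at hc
    obtain ⟨g₀, hg₀⟩ := hc
    have hg₀' : g₀ * x * g₀⁻¹ = x ^ 2 := (hconj g₀).resolve_left hg₀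
    refine ⟨Subgroup.centralizer {x}, ?_⟩
    rw [Subgroup.index_eq_two_iff]
    refine ⟨g₀, fun b => ?_⟩
    have hmem : ∀ g : Q, g ∈ Subgroup.centralizer {x} ↔ g * x * g⁻¹ = x := by
      intro g
      rw [Subgroup.mem_centralizer_singleton_iff]
      constructor
      · intro h1
        rw [h1, mul_inv_cancel_right]
      · intro h1
        have := congrArg (fun y => y * g) h1
        simpa [mul_assoc] using this
    rw [hmem, hmem]
    have hb : (b * g₀) * x * (b * g₀)⁻¹ = (b * x * b⁻¹) ^ 2 := by
      rw [conj_pow, ← hg₀']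
      group
    rcases hconj b with h1 | h1
    · right
      refine ⟨h1, ?_⟩
      rw [hb, h1]
      exact hx2
    · left
      refine ⟨?_, ?_⟩
      · rw [hb, h1, hx4]
      · rw [h1]; exact hx2

/-- an index-two subgroup can be replaced by one invariant under an involutory automorphism -/
theorem exists_invariant_index_two (σ : Q ≃* Q) (hσ : ∀ x, σ (σ x) = x)
    (h : ∃ M : Subgroup Q, M.index = 2) :
    ∃ N : Subgroup Q, N.index = 2 ∧ ∀ n ∈ N, σ n ∈ N := by
  obtain ⟨M, hM⟩ := h
  let M' : Subgroup Q := M.comap σ.toMonoidHom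
  have hM' : M'.index = 2 := by
    rw [Subgroup.index_comap_of_surjective _ σ.surjective, hM]
  have hmem' : ∀ x, x ∈ M' ↔ σ x ∈ M := fun x => Iff.rfl
  by_cases heq : M' = M
  · refine ⟨M, hM, fun n hn => ?_⟩
    rw [← hmem', heq]; exact hn
  · -- the subgroup of elements lying in both or in none
    let N : Subgroup Q :=
      { carrier := {x | x ∈ M ↔ x ∈ M'}
        one_mem' := by
          change (1 : Q) ∈ M ↔ (1 : Q) ∈ M'
          exact ⟨fun _ => M'.one_mem, fun _ => M.one_mem⟩
        mul_mem' := by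
          intro a b ha hb
          change a ∈ M ↔ a ∈ M' at ha
          change b ∈ M ↔ b ∈ M' at hb
          change a * b ∈ M ↔ a * b ∈ M'
          rw [Subgroup.mul_mem_iff_of_index_two hM, Subgroup.mul_mem_iff_of_index_two hM', ha, hb]
        inv_mem' := by
          intro a ha
          change a ∈ M ↔ a ∈ M' at ha
          change a⁻¹ ∈ M ↔ a⁻¹ ∈ M'
          rw [inv_mem_iff, inv_mem_iff, ha] }
    have hmemN : ∀ x, x ∈ N ↔ (x ∈ M ↔ x ∈ M') := fun x => Iff.rfl
    -- an element in exactly one of the two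
    obtain ⟨g₀, hg₀⟩ : ∃ g₀, ¬ (g₀ ∈ M ↔ g₀ ∈ M') := by
      by_contra hcon
      push Not at hcon
      apply heq
      ext x
      exact (hcon x).symm
    refine ⟨N, ?_, ?_⟩
    · rw [Subgroup.index_eq_two_iff]
      refine ⟨g₀, fun b => ?_⟩
      rw [hmemN, hmemN, Subgroup.mul_mem_iff_of_index_two hM,
        Subgroup.mul_mem_iff_of_index_two hM']
      by_cases h1 : g₀ ∈ M <;> by_cases h2 : g₀ ∈ M' <;> by_cases h3 : b ∈ M <;>
        by_cases h4 : b ∈ M' <;> simp_all [Xor]
    · intro n hn
      rw [hmemN] at hn ⊢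
      rw [hmem', hσ, ← hmem']
      exact hn.symm

end Cfsg.Agent.Lib.Helper95_IdxTwo
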