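import Mathlib
import Cfsg.Prelude.Def_SolvableStructure
import Cfsg.Agent.Lib.Helper9_Supersolvable

set_option autoImplicit false

namespace Cfsg.Agent.Lib.Helper9_Supersolvable5

open Subgroup (zpowers)
open scoped commutatorElement
open Cfsg.Agent.Lib.Helper9_Supersolvable

variable {G : Type*} [Group G]

/-- The commutator subgroup centralizes every cyclic normal subgroup. -/
theorem commutator_le_centralizer_of_isCyclic_normal {Q : Type*} [Group Q] (C : Subgroup Q)
    [hn : C.Normal] [hC : IsCyclic C] : commutator Q ≤ Subgroup.centralizer (C : Set Q) := by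
  let _ := (hC.mulAutMulEquiv _).toMonoidHom.commGroupOfInjective (hC.mulAutMulEquiv _).injective
  have h := Abelianization.commutator_subset_ker (MulAut.conjNormal (H := C))
  intro x hx
  have hx' := h hx
  rw [MonoidHom.mem_ker] at hx'
  rw [Subgroup.mem_centralizer_iff]
  intro c hc
  have h1 := DFunLike.congr_fun hx' ⟨c, hc⟩
  have h2 : ((MulAut.conjNormal x : MulAut C) ⟨c, hc⟩ : Q) = x * c * x⁻¹ :=
    MulAut.conjNormal_apply x ⟨c, hc⟩
  rw [h1] at h2
  have h3 : c = x * c * x⁻¹ := h2
  calc c * x = (x * c * x⁻¹) * x := by rw [← h3]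
    _ = x * c := by group

/-- Elements of the commutator subgroup act trivially on each cyclic factor of the chain. -/
theorem commutatorElement_mem_of_step (A : Subgroup G) [hA : A.Normal] (g : G)
    (hn : (A ⊔ zpowers g).Normal) {x y : G} (hx : x ∈ A ⊔ zpowers g) (hy : y ∈ commutator G) :
    ⁅x, y⁆ ∈ A := by
  let π := QuotientGroup.mk' A
  have hAmap : A.map π = ⊥ := by
    rw [← le_bot_iff]
    rintro _ ⟨a, ha, rfl⟩
    rw [Subgroup.mem_bot]
    exact (QuotientGroup.eq_one_iff a).2 ha
  have hCeq : (A ⊔ zpowers g).map π = zpowers (π g) := by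
    rw [Subgroup.map_sup, MonoidHom.map_zpowers, hAmap, bot_sup_eq]
  have hCn : (zpowers (π g)).Normal := by
    rw [← hCeq]
    exact hn.map π (QuotientGroup.mk'_surjective A)
  have hcent := commutator_le_centralizer_of_isCyclic_normal (zpowers (π g))
  have hy' : π y ∈ commutator (G ⧸ A) := by
    have : (commutator G).map π ≤ commutator (G ⧸ A) := by
      rw [commutator_def, commutator_def, Subgroup.map_commutator]
      exact Subgroup.commutator_mono le_top le_top
    exact this (Subgroup.mem_map_of_mem π hy)
  have hx' : π x ∈ zpowers (π g) := by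
    rw [← hCeq]
    exact Subgroup.mem_map_of_mem π hx
  have hcomm := (Subgroup.mem_centralizer_iff.1 (hcent hy')) (π x) hx'
  rw [← QuotientGroup.eq_one_iff]
  change π ⁅x, y⁆ = 1
  rw [map_commutatorElement, commutatorElement_eq_one_iff_mul_comm]
  exact hcomm

theorem reach_exists_le_upperCentralSeries {A : Subgroup G} (h : Reach A) :
    ∃ n : ℕ, ∀ x : commutator G, (x : G) ∈ A → x ∈ Subgroup.upperCentralSeries (commutator G) n := by
  induction h with
  | bot =>
    refine ⟨0, fun x hx => ?_⟩
    rw [Subgroup.mem_bot] at hx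
    have : x = 1 := Subtype.ext hx
    rw [this]
    exact Subgroup.one_mem _
  | step A g hA hn ih =>
    obtain ⟨n, hn'⟩ := ih
    have := hA.normal
    refine ⟨n + 1, fun x hx => ?_⟩
    rw [Subgroup.mem_upperCentralSeries_succ_iff]
    intro y
    apply hn'
    have : ((⁅x, y⁆ : commutator G) : G) = ⁅(x : G), (y : G)⁆ := by
      simp [commutatorElement_def]
    rw [this]
    exact commutatorElement_mem_of_step A g hn hx y.2

/-- In a supersolvable group the commutator subgroup is nilpotent. -/
theorem isNilpotent_commutator (hG : Cfsg.IsSupersolvable G) :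
    Group.IsNilpotent (commutator G) := by
  rw [isSupersolvable_iff_reach_top] at hG
  obtain ⟨n, hn⟩ := reach_exists_le_upperCentralSeries hG
  refine ⟨⟨n, ?_⟩⟩
  rw [eq_top_iff]
  intro x _
  exact hn x (Subgroup.mem_top _)

end Cfsg.Agent.Lib.Helper9_Supersolvable5
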