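import Mathlib

set_option autoImplicit false

namespace Cfsg.Agent.Lib.Helper4_CayleySign

open Equiv

variable {G : Type*} [Group G] [Fintype G] [DecidableEq G]

/-- Every cycle of left multiplication by `t` has length `orderOf t`. -/
theorem mem_cycleType_mulLeft (t : G) (m : ℕ)
    (hm : m ∈ (MulAction.toPermHom G G t).cycleType) : m = orderOf t := by
  set σ := MulAction.toPermHom G G t with hσ
  obtain ⟨c, τ, hστ, hdisj, hc, rfl⟩ := Perm.mem_cycleType_iff.mp hm
  rw [← hc.orderOf]
  rw [orderOf_eq_orderOf_iff]
  intro k
  have hpow : σ ^ k = c ^ k * τ ^ k := by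
    rw [hστ, hdisj.commute.mul_pow]
  have hσk : ∀ a : G, (σ ^ k) a = t ^ k * a := by
    intro a
    rw [hσ, ← map_pow]
    rfl
  constructor
  · intro hck
    obtain ⟨a, ha, -⟩ := hc
    have hτa : τ a = a := by
      rcases hdisj a with h | h
      · exact absurd h ha
      · exact h
    have hτk : (τ ^ k) a = a := by
      have : Function.IsFixedPt τ a := hτa
      have := this.iterate k
      rwa [← Perm.coe_pow] at this
    have h1 : (σ ^ k) a = a := by
      rw [hpow, Perm.mul_apply, hτk, hck, Perm.one_apply]
    rw [hσk] at h1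
    exact mul_eq_right.mp h1
  · intro htk
    have h1 : σ ^ k = 1 := by
      ext a
      rw [hσk, htk, one_mul, Perm.one_apply]
    rw [hpow] at h1
    exact ((hdisj.pow_disjoint_pow k k).mul_eq_one_iff.mp h1).1

/-- Sign of left multiplication by an element of even order. -/
theorem sign_mulLeft_of_even (t : G) (heven : Even (orderOf t)) :
    Perm.sign (MulAction.toPermHom G G t) = (-1) ^ (Fintype.card G / orderOf t) := by
  set σ := MulAction.toPermHom G G t with hσ
  have hrep : σ.cycleType = Multiset.replicate (Multiset.card σ.cycleType) (orderOf t) := by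
    rw [Multiset.eq_replicate_card]
    intro m hm
    exact mem_cycleType_mulLeft t m hm
  rw [Perm.sign_of_cycleType_eq_replicate (orderOf_pos t) hrep]
  rw [if_neg (Nat.not_odd_iff_even.mpr heven)]
  have hfix : Fintype.card (Function.fixedPoints σ) = 0 := by
    rw [Fintype.card_eq_zero_iff]
    constructor
    rintro ⟨a, ha⟩
    have h1 : t * a = a := ha
    have ht1 : t = 1 := mul_eq_right.mp h1
    rw [ht1, orderOf_one] at heven
    exact absurd heven (by decide)
  rw [hfix, Nat.sub_zero]

/-- If some element `t` has even order with `|G| / orderOf t` odd, then `G` has a subgroup of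
index 2. -/
theorem exists_index_two (t : G) (heven : Even (orderOf t))
    (hodd : Odd (Fintype.card G / orderOf t)) : ∃ H : Subgroup G, H.index = 2 := by
  let ε : G →* ℤˣ := Perm.sign.comp (MulAction.toPermHom G G)
  have hε : ε t = -1 := by
    show Perm.sign (MulAction.toPermHom G G t) = -1
    rw [sign_mulLeft_of_even t heven, hodd.neg_one_pow]
  refine ⟨ε.ker, ?_⟩
  rw [Subgroup.index_ker]
  have hrange : ε.range = ⊤ := by
    rw [eq_top_iff]
    intro u _
    rcases Int.units_eq_one_or u with rfl | rfl
    · exact Subgroup.one_mem _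
    · exact ⟨t, hε⟩
  rw [hrange, Subgroup.card_top]
  simp

end Cfsg.Agent.Lib.Helper4_CayleySign
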