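import Mathlib
import Cfsg.Agent.S0688
import Cfsg.Agent.S0689
import Cfsg.Agent.S0219
import Cfsg.Agent.Lib.Helper95_IdxTwo
import Cfsg.Agent.Lib.Helper9_Supersolvable5
import Cfsg.Agent.Lib.Helper54_TwoGroups

/-!
# Linear groups regular on the non-zero vectors: subgroups of index two (helper95)

Let `H` be a group of `ZMod p`-linear automorphisms of a finite module `V` that is regular on the
non-zero vectors (the multiplicative group of a finite near-field).  If `H` has even order and any
two elements of order three of `H` generate the same subgroup, then `H` has a subgroup of index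
two.  (Uses the degrees of the exceptional near-fields, S0688 and S0689.)
-/

set_option autoImplicit false

namespace Cfsg.Agent.Lib.Helper95_RegLin

open Cfsg.Agent.Lib.Helper12_ExcNF Cfsg.Agent.Lib.Helper12_ExcSpread
open Cfsg.Agent.Lib.Helper95_IdxTwo
open scoped commutatorElement

/-- an element of order three of `SL(2,5)` -/
def slX : Matrix.SpecialLinearGroup (Fin 2) (ZMod 5) :=
  ⟨!![0,1;-1,-1], by rw [Matrix.det_fin_two_of]; decide⟩

/-- another element of order three of `SL(2,5)` -/
def slY : Matrix.SpecialLinearGroup (Fin 2) (ZMod 5) :=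
  ⟨!![0,-1;1,-1], by rw [Matrix.det_fin_two_of]; decide⟩

/-- `SL(2,5)` has two elements of order three generating different subgroups -/
theorem sl25_two_order_three :
    ∃ x y : Matrix.SpecialLinearGroup (Fin 2) (ZMod 5),
      x ^ 3 = 1 ∧ x ≠ 1 ∧ y ^ 3 = 1 ∧ y ≠ 1 ∧ y ≠ x ∧ y ≠ x ^ 2 := by
  refine ⟨slX, slY, ?_, ?_, ?_, ?_, ?_, ?_⟩ <;> decide

/-- a group into which `SL(2,5)` embeds has two elements of order three generating different
subgroups -/
theorem not_unique_of_sl25 {Q : Type*} [Group Q]
    (φ : Matrix.SpecialLinearGroup (Fin 2) (ZMod 5) →* Q) (hφ : Function.Injective φ)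
    (hU3 : ∀ x y : Q, x ^ 3 = 1 → x ≠ 1 → y ^ 3 = 1 → y ≠ 1 → y = x ∨ y = x ^ 2) : False := by
  obtain ⟨x, y, hx3, hx1, hy3, hy1, hyx, hyx2⟩ := sl25_two_order_three
  have h1 : φ x ≠ 1 := fun h => hx1 (hφ (by rw [h, map_one]))
  have h2 : φ y ≠ 1 := fun h => hy1 (hφ (by rw [h, map_one]))
  rcases hU3 (φ x) (φ y) (by rw [← map_pow, hx3, map_one]) h1
    (by rw [← map_pow, hy3, map_one]) h2 with h | h
  · exact hyx (hφ h)
  · rw [← map_pow] at h
    exact hyx2 (hφ h)

universe u

variable {p : ℕ} [Fact p.Prime] {V : Type u} [AddCommGroup V] [Module (ZMod p) V]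
variable (H : Subgroup (V ≃ₗ[ZMod p] V))

/-- the centraliser of an irreducible commutative subgroup is commutative (cyclic vector) -/
theorem comm_of_mem_centralizer [Finite V]
    (hreg : ∀ v w : V, v ≠ 0 → w ≠ 0 → ∃! h : H, (h : V ≃ₗ[ZMod p] V) v = w)
    (A : Subgroup H) (hAc : ∀ a ∈ A, ∀ b ∈ A, a * b = b * a)
    (hirr : ∀ W : Submodule (ZMod p) V,
      (∀ a ∈ A, ∀ v ∈ W, ((a : H) : V ≃ₗ[ZMod p] V) v ∈ W) → W = ⊥ ∨ W = ⊤)
    {c c' : H} (hc : c ∈ Subgroup.centralizer (A : Set H))
    (hc' : c' ∈ Subgroup.centralizer (A : Set H)) : c * c' = c' * c := by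
  have := finite_linearEquiv (p := p) (V := V)
  rcases subsingleton_or_nontrivial V with hV | hV
  · apply Subtype.ext
    ext v
    exact Subsingleton.elim _ _
  obtain ⟨v₀, hv₀⟩ := exists_ne (0 : V)
  have : Fintype A := Fintype.ofFinite A
  let gen : A → V := fun a => ((a : H) : V ≃ₗ[ZMod p] V) v₀
  let T : Submodule (ZMod p) V := Submodule.span (ZMod p) (Set.range gen)
  have hTinv : ∀ a ∈ A, ∀ v ∈ T, ((a : H) : V ≃ₗ[ZMod p] V) v ∈ T := by
    intro a ha v hv
    induction hv using Submodule.span_induction with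
    | mem x hx =>
      obtain ⟨b, rfl⟩ := hx
      apply Submodule.subset_span
      exact ⟨⟨a, ha⟩ * b, rfl⟩
    | zero => rw [map_zero]; exact T.zero_mem
    | add x y _ _ hx hy => rw [map_add]; exact T.add_mem hx hy
    | smul r x _ hx => rw [map_smul]; exact T.smul_mem r hx
  have hv₀T : v₀ ∈ T := Submodule.subset_span ⟨1, rfl⟩
  have hT : T = ⊤ := by
    rcases hirr T hTinv with h | h
    · exfalso
      rw [h] at hv₀T
      exact hv₀ ((Submodule.mem_bot _).1 hv₀T)
    · exact h
  have hex : ∀ d : H, ∃ l : A → ZMod p, ∑ a, l a • gen a = (d : V ≃ₗ[ZMod p] V) v₀ := by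
    intro d
    have h1 : (d : V ≃ₗ[ZMod p] V) v₀ ∈ T := by rw [hT]; trivial
    exact (Submodule.mem_span_range_iff_exists_fun (ZMod p)).1 h1
  obtain ⟨l, hl⟩ := hex c
  obtain ⟨m, hm⟩ := hex c'
  have hcomm : ∀ d : H, d ∈ Subgroup.centralizer (A : Set H) → ∀ a : A,
      (d : V ≃ₗ[ZMod p] V) (gen a) =
        ((a : H) : V ≃ₗ[ZMod p] V) ((d : V ≃ₗ[ZMod p] V) v₀) := by
    intro d hd a
    have h1 := Subgroup.mem_centralizer_iff.1 hd (a : H) a.2
    change ((d * (a : H) : H) : V ≃ₗ[ZMod p] V) v₀ = (((a : H) * d : H) : V ≃ₗ[ZMod p] V) v₀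
    rw [h1]
  have hexp : ∀ (d : H) (hd : d ∈ Subgroup.centralizer (A : Set H)) (l₁ l₂ : A → ZMod p),
      ∑ a, l₂ a • gen a = (d : V ≃ₗ[ZMod p] V) v₀ →
      (d : V ≃ₗ[ZMod p] V) (∑ a, l₁ a • gen a) =
        ∑ a, ∑ b, (l₁ a * l₂ b) • ((((a * b : A) : H) : V ≃ₗ[ZMod p] V) v₀) := by
    intro d hd l₁ l₂ h2
    rw [map_sum]
    refine Finset.sum_congr rfl fun a _ => ?_
    rw [map_smul, hcomm d hd a, ← h2, map_sum, Finset.smul_sum]
    refine Finset.sum_congr rfl fun b _ => ?_
    rw [map_smul, smul_smul]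
    rfl
  apply eq_of_apply_eq hreg hv₀
  rw [coe_mul_apply, coe_mul_apply, ← hm, hexp c hc m l hl, ← hl, hexp c' hc' l m hm,
    Finset.sum_comm]
  refine Finset.sum_congr rfl fun a _ => ?_
  refine Finset.sum_congr rfl fun b _ => ?_
  have h1 : a * b = b * a := Subtype.ext (hAc a a.2 b b.2)
  rw [h1, mul_comm]

/-- involutions are unique -/
theorem invol_unique [Finite V]
    (hreg : ∀ v w : V, v ≠ 0 → w ≠ 0 → ∃! h : H, (h : V ≃ₗ[ZMod p] V) v = w)
    {a b : H} (ha : a ^ 2 = 1) (hb : b ^ 2 = 1) (ha1 : a ≠ 1) (hb1 : b ≠ 1) : a = b := by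
  rcases subsingleton_or_nontrivial V with hV | hV
  · apply Subtype.ext
    ext v
    exact Subsingleton.elim _ _
  obtain ⟨v₀, hv₀⟩ := exists_ne (0 : V)
  apply eq_of_apply_eq hreg hv₀
  rw [invol_apply H hreg ha1 (by rw [← pow_two]; exact ha),
    invol_apply H hreg hb1 (by rw [← pow_two]; exact hb)]

open scoped IsMulCommutative in
/-- the main theorem: a subgroup of index two -/
theorem exists_index_two [Finite V]
    (hreg : ∀ v w : V, v ≠ 0 → w ≠ 0 → ∃! h : H, (h : V ≃ₗ[ZMod p] V) v = w)
    (heven : Even (Nat.card H))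
    (hU3 : ∀ x y : H, x ^ 3 = 1 → x ≠ 1 → y ^ 3 = 1 → y ≠ 1 → y = x ∨ y = x ^ 2) :
    ∃ M : Subgroup H, M.index = 2 := by
  have := finite_linearEquiv (p := p) (V := V)
  have hVnt : Nontrivial V := by
    rcases subsingleton_or_nontrivial V with hV | hV
    · exfalso
      have hs : Subsingleton H := ⟨fun a b => by
        apply Subtype.ext
        ext v
        exact Subsingleton.elim _ _⟩
      rw [Nat.card_unique] at heven
      exact absurd heven (by decide)
    · exact hV
  by_cases hsolv : Group.IsSolvable H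
  · by_cases hI : ∀ A : Subgroup H, A.Normal → IsCyclic A → ∃ W : Submodule (ZMod p) V,
        W ≠ ⊥ ∧ W ≠ ⊤ ∧ ∀ a ∈ A, ∀ v ∈ W, ((a : H) : V ≃ₗ[ZMod p] V) v ∈ W
    · -- the exceptional degrees
      have h1 := Cfsg.Agent.S0688.result H hreg hI hsolv
      have h2 := card_add_one H hreg
      apply exists_index_two_of_card _ hU3
      rcases h1 with h | h | h | h <;> rw [h] at h2 <;> omega
    · -- an irreducible cyclic normal subgroup
      push Not at hI
      obtain ⟨A, hAn, hAcyc, hA⟩ := hI
      have hirr : ∀ W : Submodule (ZMod p) V,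
          (∀ a ∈ A, ∀ v ∈ W, ((a : H) : V ≃ₗ[ZMod p] V) v ∈ W) → W = ⊥ ∨ W = ⊤ := by
        intro W hW
        by_contra hcon
        push Not at hcon
        obtain ⟨a, ha, v, hv, hav⟩ := hA W hcon.1 hcon.2
        exact hav (hW a ha v hv)
      have hAc : ∀ a ∈ A, ∀ b ∈ A, a * b = b * a := by
        intro a ha b hb
        have hcomm : IsMulCommutative ↥A := IsCyclic.isMulCommutative
        exact congrArg Subtype.val (hcomm.is_comm.comm ⟨a, ha⟩ ⟨b, hb⟩)
      set C : Subgroup H := Subgroup.centralizer (A : Set H) with hC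
      have hCn : C.Normal := by
        have := hAn
        infer_instance
      have hCc : ∀ c ∈ C, ∀ c' ∈ C, c * c' = c' * c := fun c hc c' hc' =>
        comm_of_mem_centralizer H hreg A hAc hirr hc hc'
      have hder : commutator H ≤ C :=
        Cfsg.Agent.Lib.Helper9_Supersolvable5.commutator_le_centralizer_of_isCyclic_normal A
      have hQc : ∀ x y : H ⧸ C, x * y = y * x := by
        intro x y
        induction x using QuotientGroup.induction_on with
        | H a =>
        induction y using QuotientGroup.induction_on with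
        | H b =>
          rw [← QuotientGroup.mk_mul, ← QuotientGroup.mk_mul, QuotientGroup.eq]
          apply hder
          have h1 : (a * b)⁻¹ * (b * a) = ⁅b⁻¹, a⁻¹⁆ := by
            rw [commutatorElement_def]; group
          rw [h1]
          exact Subgroup.commutator_mem_commutator (Subgroup.mem_top _) (Subgroup.mem_top _)
      by_cases hQ : Even (Nat.card (H ⧸ C))
      · exact exists_index_two_of_quotient C (exists_index_two_of_comm hQc hQ)
      · -- a Sylow 2-subgroup lies in `C`, so it is cyclic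
        have : Fact (Nat.Prime 2) := ⟨Nat.prime_two⟩
        obtain ⟨P⟩ : Nonempty (Sylow 2 H) := inferInstance
        have hPC : (P : Subgroup H) ≤ C := by
          intro x hx
          obtain ⟨k, hk⟩ := P.isPGroup' ⟨x, hx⟩
          have hk' : x ^ 2 ^ k = 1 := by
            have := congrArg Subtype.val hk
            simpa using this
          have h1 : orderOf (x : H ⧸ C) ∣ 2 ^ k := by
            apply orderOf_dvd_of_pow_eq_one
            rw [← QuotientGroup.mk_pow, hk', QuotientGroup.mk_one]
          have h2 : orderOf (x : H ⧸ C) ∣ Nat.card (H ⧸ C) := orderOf_dvd_natCard _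
          have h3 : Nat.Coprime (2 ^ k) (Nat.card (H ⧸ C)) := by
            apply Nat.Coprime.pow_left
            rw [Nat.coprime_two_left]
            exact Nat.not_even_iff_odd.1 hQ
          have h4 : orderOf (x : H ⧸ C) = 1 := Nat.eq_one_of_dvd_coprimes h3 h1 h2
          rw [orderOf_eq_one_iff, QuotientGroup.eq_one_iff] at h4
          exact h4
        have hPc : IsMulCommutative ↥(P : Subgroup H) := ⟨⟨fun a b => by
          apply Subtype.ext
          exact hCc a (hPC a.2) b (hPC b.2)⟩⟩
        have hcyc : IsCyclic ↥(P : Subgroup H) := by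
          apply Cfsg.Agent.Lib.Helper54_TwoGroups.isCyclic_of_unique_involution P.isPGroup'
          intro a b ha hb ha1 hb1
          apply Subtype.ext
          apply invol_unique H hreg
          · exact congrArg Subtype.val ha
          · exact congrArg Subtype.val hb
          · exact fun h => ha1 (Subtype.ext h)
          · exact fun h => hb1 (Subtype.ext h)
        exact Cfsg.Agent.S0219.result heven P hcyc
  · -- the non-solvable case is impossible
    exfalso
    rcases Cfsg.Agent.S0689.result H hreg hsolv with ⟨-, ⟨e⟩⟩ | ⟨-, ⟨e⟩⟩ | ⟨-, ⟨e⟩⟩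
    · exact not_unique_of_sl25 e.symm.toMonoidHom e.symm.injective hU3
    · refine not_unique_of_sl25 (e.symm.toMonoidHom.comp (MonoidHom.inl _ _)) ?_ hU3
      refine e.symm.injective.comp (fun a b h => ?_)
      have := congrArg Prod.fst h
      simpa using this
    · refine not_unique_of_sl25 (e.symm.toMonoidHom.comp (MonoidHom.inl _ _)) ?_ hU3
      refine e.symm.injective.comp (fun a b h => ?_)
      have := congrArg Prod.fst h
      simpa using this

end Cfsg.Agent.Lib.Helper95_RegLin
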