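import Mathlib

/-!
# Linearisation of a group acting regularly on the non-identity elements of an elementary abelian
normal subgroup (helper95)

`K, H` subgroups of a group, `H` normalising `K`, `K` commutative of prime exponent `p`, and `H`
acting (by conjugation) regularly on the non-identity elements of `K`.  Then `V = Additive K` is a
`ZMod p`-module and `H` is isomorphic to a group of linear automorphisms of `V` which is regular on
the non-zero vectors.  (Bridge from sharply doubly transitive permutation groups to the linear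
statements S0684-S0689.)
-/

set_option autoImplicit false

namespace Cfsg.Agent.Lib.Helper95_Sharp2Lin

universe u

/-- the data: `H` normalises the commutative subgroup `K` of exponent `p` -/
structure Data (Γ : Type u) [Group Γ] (p : ℕ) where
  /-- the elementary abelian subgroup -/
  K : Subgroup Γ
  /-- the acting subgroup -/
  H : Subgroup Γ
  hnorm : ∀ h ∈ H, ∀ k ∈ K, h * k * h⁻¹ ∈ K
  hcomm : ∀ x ∈ K, ∀ y ∈ K, x * y = y * x
  hexp : ∀ x ∈ K, x ^ p = 1

namespace Data

variable {Γ : Type u} [Group Γ] {p : ℕ} (D : Data Γ p)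

/-- the additive copy of `K` -/
def V : Type u := Additive D.K

/-- `K` as a commutative group -/
@[reducible] def commGroupK : CommGroup D.K :=
  { (inferInstance : Group D.K) with
    mul_comm := fun a b => Subtype.ext (D.hcomm a a.2 b b.2) }

instance : AddCommGroup D.V :=
  letI : CommGroup D.K := D.commGroupK
  inferInstanceAs (AddCommGroup (Additive D.K))

/-- from `K` to `V` -/
def toV (k : D.K) : D.V := Additive.ofMul k

/-- from `V` to `K` -/
def ofV (v : D.V) : D.K := Additive.toMul v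

@[simp] theorem toV_ofV (v : D.V) : D.toV (D.ofV v) = v := rfl
@[simp] theorem ofV_toV (k : D.K) : D.ofV (D.toV k) = k := rfl
theorem toV_mul (a b : D.K) : D.toV (a * b) = D.toV a + D.toV b := rfl
theorem toV_one : D.toV 1 = 0 := rfl
theorem ofV_add (a b : D.V) : D.ofV (a + b) = D.ofV a * D.ofV b := rfl
theorem ofV_zero : D.ofV 0 = 1 := rfl

theorem toV_injective : Function.Injective D.toV := fun _ _ h => h

theorem toV_eq_zero_iff (k : D.K) : D.toV k = 0 ↔ k = 1 := Iff.rfl

theorem toV_pow (k : D.K) (n : ℕ) : D.toV (k ^ n) = n • D.toV k := by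
  induction n with
  | zero => rw [pow_zero, zero_smul]; rfl
  | succ n ih => rw [pow_succ, toV_mul, ih, succ_nsmul]

theorem nsmul_p (v : D.V) : p • v = 0 := by
  rw [← D.toV_ofV v, ← toV_pow]
  have : D.ofV v ^ p = 1 := Subtype.ext (by
    rw [Subgroup.coe_pow]; exact D.hexp _ (D.ofV v).2)
  rw [this]; rfl

instance : Module (ZMod p) D.V := AddCommGroup.zmodModule D.nsmul_p

instance [Finite D.K] : Finite D.V := inferInstanceAs (Finite (Additive D.K))

theorem card_V : Nat.card D.V = Nat.card D.K := rfl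

/-- conjugation by an element of `H`, on `K` -/
def conjK (h : D.H) (k : D.K) : D.K := ⟨h * k * (h : Γ)⁻¹, D.hnorm h h.2 k k.2⟩

theorem conjK_mul (h : D.H) (a b : D.K) : D.conjK h (a * b) = D.conjK h a * D.conjK h b := by
  apply Subtype.ext
  simp only [conjK, Subgroup.coe_mul]
  group

theorem conjK_one (k : D.K) : D.conjK 1 k = k := by
  apply Subtype.ext
  simp [conjK]

theorem conjK_conjK (h h' : D.H) (k : D.K) : D.conjK h (D.conjK h' k) = D.conjK (h * h') k := by
  apply Subtype.ext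
  simp only [conjK, Subgroup.coe_mul]
  group

/-- conjugation as an additive map -/
def conjAdd (h : D.H) : D.V →+ D.V where
  toFun v := D.toV (D.conjK h (D.ofV v))
  map_zero' := by
    change D.toV (D.conjK h 1) = 0
    rw [toV_eq_zero_iff]
    apply Subtype.ext
    simp [conjK]
  map_add' a b := by
    rw [ofV_add, conjK_mul, toV_mul]

theorem conjAdd_apply (h : D.H) (v : D.V) : D.conjAdd h v = D.toV (D.conjK h (D.ofV v)) := rfl

/-- conjugation as a linear automorphism -/
def conjLin (h : D.H) : D.V ≃ₗ[ZMod p] D.V where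
  toFun := D.conjAdd h
  map_add' := map_add _
  map_smul' c x := ZMod.map_smul (D.conjAdd h) c x
  invFun := D.conjAdd h⁻¹
  left_inv v := by
    rw [conjAdd_apply, conjAdd_apply, ofV_toV, conjK_conjK, inv_mul_cancel, conjK_one, toV_ofV]
  right_inv v := by
    rw [conjAdd_apply, conjAdd_apply, ofV_toV, conjK_conjK, mul_inv_cancel, conjK_one, toV_ofV]

theorem conjLin_apply (h : D.H) (v : D.V) : D.conjLin h v = D.toV (D.conjK h (D.ofV v)) := rfl

/-- the linear representation -/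
def rho : D.H →* (D.V ≃ₗ[ZMod p] D.V) where
  toFun := D.conjLin
  map_one' := by
    ext v
    rw [conjLin_apply, conjK_one, toV_ofV]
    rfl
  map_mul' a b := by
    ext v
    rw [conjLin_apply, LinearEquiv.mul_apply, conjLin_apply, conjLin_apply, ofV_toV, conjK_conjK]

theorem rho_apply (h : D.H) (v : D.V) : D.rho h v = D.toV (D.conjK h (D.ofV v)) := rfl

theorem rho_injective (hfree : ∀ h ∈ D.H, ∀ k ∈ D.K, k ≠ 1 → h * k * h⁻¹ = k → h = 1)
    (hK : ∃ k ∈ D.K, k ≠ 1) : Function.Injective D.rho := by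
  rw [injective_iff_map_eq_one]
  intro h hh
  obtain ⟨k, hk, hk1⟩ := hK
  have h1 := DFunLike.congr_fun hh (D.toV ⟨k, hk⟩)
  rw [rho_apply, ofV_toV] at h1
  have h2 : D.conjK h ⟨k, hk⟩ = ⟨k, hk⟩ := D.toV_injective h1
  have h3 : (h : Γ) * k * (h : Γ)⁻¹ = k := congrArg Subtype.val h2
  exact Subtype.ext (hfree h h.2 k hk hk1 h3)

/-- regularity on the non-zero vectors -/
theorem rho_regular (hfree : ∀ h ∈ D.H, ∀ k ∈ D.K, k ≠ 1 → h * k * h⁻¹ = k → h = 1)
    (htrans : ∀ k ∈ D.K, ∀ k' ∈ D.K, k ≠ 1 → k' ≠ 1 → ∃ h ∈ D.H, h * k * h⁻¹ = k')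
    (v w : D.V) (hv : v ≠ 0) (hw : w ≠ 0) :
    ∃! h : D.rho.range, (h : D.V ≃ₗ[ZMod p] D.V) v = w := by
  have hv1 : (D.ofV v : Γ) ≠ 1 := by
    intro h
    apply hv
    have : D.ofV v = 1 := Subtype.ext h
    rw [← D.toV_ofV v, this]; rfl
  have hw1 : (D.ofV w : Γ) ≠ 1 := by
    intro h
    apply hw
    have : D.ofV w = 1 := Subtype.ext h
    rw [← D.toV_ofV w, this]; rfl
  obtain ⟨h, hh, hhk⟩ := htrans _ (D.ofV v).2 _ (D.ofV w).2 hv1 hw1
  have key : ∀ g : D.H, D.rho g v = w ↔ (g : Γ) * D.ofV v * (g : Γ)⁻¹ = D.ofV w := by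
    intro g
    rw [rho_apply]
    constructor
    · intro h1
      have h2 : D.conjK g (D.ofV v) = D.ofV w := by
        rw [← h1, ofV_toV]
      exact congrArg Subtype.val h2
    · intro h1
      have h2 : D.conjK g (D.ofV v) = D.ofV w := Subtype.ext h1
      rw [h2, toV_ofV]
  refine ⟨⟨D.rho ⟨h, hh⟩, ⟨_, rfl⟩⟩, (key ⟨h, hh⟩).2 hhk, ?_⟩
  rintro ⟨_, ⟨g, rfl⟩⟩ hg
  have hg' := (key g).1 hg
  apply Subtype.ext
  change D.rho g = D.rho ⟨h, hh⟩
  congr 1
  -- `h⁻¹ g` fixes `val v`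
  have h1 : ((h : Γ)⁻¹ * g) * D.ofV v * ((h : Γ)⁻¹ * g)⁻¹ = D.ofV v := by
    have : ((h : Γ)⁻¹ * g) * D.ofV v * ((h : Γ)⁻¹ * g)⁻¹ =
        (h : Γ)⁻¹ * ((g : Γ) * D.ofV v * (g : Γ)⁻¹) * h := by group
    rw [this, hg', ← hhk]
    group
  have h2 := hfree _ (D.H.mul_mem (D.H.inv_mem hh) g.2) _ (D.ofV v).2 hv1 h1
  apply Subtype.ext
  have h3 : (g : Γ) = h := by
    have := congrArg (fun y => h * y) h2
    simpa using this
  exact h3

end Data

/-- **linearisation**: `H` is isomorphic to a linear group which is regular on the non-zero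
vectors of a `ZMod p`-module with as many elements as `K` -/
theorem linearize {Γ : Type u} [Group Γ] (K H : Subgroup Γ) [Finite K] (p : ℕ) [Fact p.Prime]
    (hnorm : ∀ h ∈ H, ∀ k ∈ K, h * k * h⁻¹ ∈ K)
    (hcomm : ∀ x ∈ K, ∀ y ∈ K, x * y = y * x) (hexp : ∀ x ∈ K, x ^ p = 1)
    (hfree : ∀ h ∈ H, ∀ k ∈ K, k ≠ 1 → h * k * h⁻¹ = k → h = 1)
    (htrans : ∀ k ∈ K, ∀ k' ∈ K, k ≠ 1 → k' ≠ 1 → ∃ h ∈ H, h * k * h⁻¹ = k')
    (hK : ∃ k ∈ K, k ≠ 1) (P : Prop)
    (hP : ∀ (V : Type u) [AddCommGroup V] [Module (ZMod p) V] [Finite V]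
      (H' : Subgroup (V ≃ₗ[ZMod p] V)), Nat.card V = Nat.card K → Nonempty (H ≃* H') →
      (∀ v w : V, v ≠ 0 → w ≠ 0 → ∃! h : H', (h : V ≃ₗ[ZMod p] V) v = w) → P) : P := by
  let D : Data Γ p := ⟨K, H, hnorm, hcomm, hexp⟩
  have : Finite D.K := inferInstanceAs (Finite K)
  exact hP D.V D.rho.range D.card_V
    ⟨MonoidHom.ofInjective (D.rho_injective hfree hK)⟩ (D.rho_regular hfree htrans)

end Cfsg.Agent.Lib.Helper95_Sharp2Lin
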