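import Mathlib
import Cfsg.Agent.S0728
import Cfsg.Agent.Lib.Helper12_Sharp2
import Cfsg.Agent.Lib.Helper21_Sharp3
import Cfsg.Agent.Lib.Helper95_RegLin
import Cfsg.Agent.Lib.Helper95_Sharp2Lin

/-!
# Sharply triply transitive groups of even degree: the two-point stabiliser has a subgroup of
index two (helper95)

The one-point stabiliser is sharply doubly transitive, with a regular normal elementary abelian
subgroup `K`; the two-point stabiliser `H` acts regularly on `K \ {1}` by conjugation, so it is a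
regular linear group over `ZMod p` (`Helper95_Sharp2Lin`).  Since `H` has at most one subgroup of
order three (S0728), `Helper95_RegLin.exists_index_two` applies.
-/

set_option autoImplicit false

namespace Cfsg.Agent.Lib.Helper95_Sharp3Idx

open MulAction
open Cfsg.Agent.Lib.Helper12_Sharp2 Cfsg.Agent.Lib.Helper21_Sharp3

universe u v

variable {Γ : Type u} {α : Type v} [Group Γ] [MulAction Γ α]

/-- The regular normal elementary abelian subgroup of a point stabiliser (no parity
assumption). -/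
theorem exists_regular' [Fintype α] [DecidableEq α] [Finite Γ]
    (h3 : IsMultiplyPretransitive Γ α 3) (hs : Sharp3 Γ α) (h4 : 4 ≤ Fintype.card α) (x : α) :
    ∃ (A : Subgroup Γ) (p j : ℕ), p.Prime ∧ 1 ≤ j ∧ Fintype.card α = p ^ j + 1 ∧
      Nat.card A = p ^ j ∧
      (∀ g, g ∈ A ↔ g • x = x ∧ (g = 1 ∨ ∀ y, y ≠ x → g • y ≠ y)) ∧
      (∀ a ∈ A, ∀ b ∈ A, a * b = b * a) ∧ (∀ a ∈ A, a ^ p = 1) := by
  classical
  have hcard3 : 3 ≤ Nat.card α := by rw [Nat.card_eq_fintype_card]; omega
  have hpre : IsPretransitive Γ α := isPretransitive_of_three h3 hcard3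
  have h2 : IsMultiplyPretransitive (stabilizer Γ x) (SubMulAction.ofStabilizer Γ x) 2 :=
    SubMulAction.ofStabilizer.isMultiplyPretransitive.mp h3
  have hfin : Fintype (SubMulAction.ofStabilizer Γ x) := Fintype.ofFinite _
  have hΩ : Fintype.card (SubMulAction.ofStabilizer Γ x) + 1 = Fintype.card α := by
    rw [← Nat.card_eq_fintype_card, ← Nat.card_eq_fintype_card]
    exact SubMulAction.nat_card_ofStabilizer_add_one_eq Γ x
  obtain ⟨N, p, j, hp, hj, hcard, hmem, -, hcomm, hexp, hN⟩ :=
    exists_regular_normal h2 (stabilizer_sharp hs x) (by omega)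
  refine ⟨N.map (stabilizer Γ x).subtype, p, j, hp, hj, by omega, ?_, ?_, ?_, ?_⟩
  · rw [Subgroup.card_map_of_injective (Subgroup.subtype_injective _), hN, hcard]
  · intro g
    rw [Subgroup.mem_map]
    constructor
    · rintro ⟨n, hn, rfl⟩
      refine ⟨n.2, ?_⟩
      rcases (hmem n).mp hn with h1 | hf
      · left
        rw [h1]
        rfl
      · right
        intro y hy hfix
        exact hf ⟨y, (SubMulAction.mem_ofStabilizer_iff Γ x).mpr hy⟩ (Subtype.ext hfix)
    · rintro ⟨hgx, hg⟩
      refine ⟨⟨g, hgx⟩, ?_, rfl⟩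
      rw [hmem]
      rcases hg with h1 | hf
      · left
        exact Subtype.ext h1
      · right
        intro a ha
        exact hf a (SubMulAction.neq_of_mem_ofStabilizer Γ x) (congrArg Subtype.val ha)
  · intro a ha b hb
    rw [Subgroup.mem_map] at ha hb
    obtain ⟨a', ha', rfl⟩ := ha
    obtain ⟨b', hb', rfl⟩ := hb
    have := hcomm a' ha' b' hb'
    exact congrArg Subtype.val this
  · intro a ha
    rw [Subgroup.mem_map] at ha
    obtain ⟨a', ha', rfl⟩ := ha
    have := hexp a' ha'
    exact congrArg Subtype.val this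

/-- triple transitivity on distinct triples -/
theorem exists_smul_triple (h3 : IsMultiplyPretransitive Γ α 3) (u v w u' v' w' : α)
    (huv : u ≠ v) (huw : u ≠ w) (hvw : v ≠ w) (huv' : u' ≠ v') (huw' : u' ≠ w') (hvw' : v' ≠ w') :
    ∃ g : Γ, g • u = u' ∧ g • v = v' ∧ g • w = w' := by
  obtain ⟨g, hg⟩ := MulAction.isMultiplyPretransitive_iff.mp h3
    (Cfsg.Agent.S0728.emb3 u v w huv huw hvw) (Cfsg.Agent.S0728.emb3 u' v' w' huv' huw' hvw')
  refine ⟨g, ?_, ?_, ?_⟩
  · have := congrFun (congrArg DFunLike.coe hg) 0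
    rwa [Function.Embedding.smul_apply] at this
  · have := congrFun (congrArg DFunLike.coe hg) 1
    rwa [Function.Embedding.smul_apply] at this
  · have := congrFun (congrArg DFunLike.coe hg) 2
    rwa [Function.Embedding.smul_apply] at this

/-- the two-point stabiliser of a sharply triply transitive group of even degree at least six has
a subgroup of index two -/
theorem exists_index_two [Fintype α] [DecidableEq α] [Finite Γ]
    (h3 : IsMultiplyPretransitive Γ α 3) (hs : Sharp3 Γ α) (heven : Even (Fintype.card α))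
    (h6 : 6 ≤ Fintype.card α) {a b c : α} (hab : a ≠ b) (hac : a ≠ c) (hbc : b ≠ c) :
    ∃ M : Subgroup ↥(stabilizer Γ a ⊓ stabilizer Γ b), M.index = 2 := by
  obtain ⟨K, p, j, hp, hj, hcard, hKcard, hmem, hcomm, hexp⟩ :=
    exists_regular' h3 hs (by omega) a
  have : Fact p.Prime := ⟨hp⟩
  have hE := exists_smul_triple h3
  have hHmem : ∀ g, g ∈ stabilizer Γ a ⊓ stabilizer Γ b ↔ g • a = a ∧ g • b = b := by
    intro g
    rw [Subgroup.mem_inf, mem_stabilizer_iff, mem_stabilizer_iff]
  have hKfin : Finite K := inferInstance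
  -- non-identity elements of `K` move every point other than `a`
  have hmove : ∀ k ∈ K, k ≠ 1 → ∀ y, y ≠ a → k • y ≠ y := by
    intro k hk hk1
    exact ((hmem k).1 hk).2.resolve_left hk1
  have hKa : ∀ k ∈ K, k • a = a := fun k hk => ((hmem k).1 hk).1
  have hnorm : ∀ h ∈ stabilizer Γ a ⊓ stabilizer Γ b, ∀ k ∈ K, h * k * h⁻¹ ∈ K := by
    intro h hh k hk
    have hha := ((hHmem h).1 hh).1
    have hha' : h⁻¹ • a = a := by rw [inv_smul_eq_iff, hha]
    rw [hmem]
    refine ⟨by rw [mul_smul, mul_smul, hha', hKa k hk, hha], ?_⟩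
    by_cases hk1 : k = 1
    · left
      rw [hk1, mul_one, mul_inv_cancel]
    · right
      intro y hy hfix
      apply hmove k hk hk1 (h⁻¹ • y)
      · intro h1
        apply hy
        rw [inv_smul_eq_iff] at h1
        rw [h1, hha]
      · rw [mul_smul, mul_smul] at hfix
        rw [eq_inv_smul_iff]
        exact hfix
  have hfree : ∀ h ∈ stabilizer Γ a ⊓ stabilizer Γ b, ∀ k ∈ K, k ≠ 1 → h * k * h⁻¹ = k →
      h = 1 := by
    intro h hh k hk hk1 hconj
    obtain ⟨hha, hhb⟩ := (hHmem h).1 hh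
    have h1 : k • b ≠ b := hmove k hk hk1 b (Ne.symm hab)
    have h2 : a ≠ k • b := by
      intro h2
      apply hab
      have : k • a = k • b := by rw [hKa k hk]; exact h2
      exact smul_left_cancel k this
    have h3' : h * k = k * h := by
      have := congrArg (fun y => y * h) hconj
      simpa [mul_assoc] using this
    have h4 : h • (k • b) = k • b := by
      rw [← mul_smul, h3', mul_smul, hhb]
    exact hs h a b (k • b) hab h2 (Ne.symm h1) hha hhb h4
  have htrans : ∀ k ∈ K, ∀ k' ∈ K, k ≠ 1 → k' ≠ 1 →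
      ∃ h ∈ stabilizer Γ a ⊓ stabilizer Γ b, h * k * h⁻¹ = k' := by
    intro k hk k' hk' hk1 hk'1
    have h1 : k • b ≠ b := hmove k hk hk1 b (Ne.symm hab)
    have h1' : k' • b ≠ b := hmove k' hk' hk'1 b (Ne.symm hab)
    have h2 : a ≠ k • b := by
      intro h2
      apply hab
      have : k • a = k • b := by rw [hKa k hk]; exact h2
      exact smul_left_cancel k this
    have h2' : a ≠ k' • b := by
      intro h2
      apply hab
      have : k' • a = k' • b := by rw [hKa k' hk']; exact h2
      exact smul_left_cancel k' this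
    obtain ⟨g, hga, hgb, hgk⟩ := hE a b (k • b) a b (k' • b) hab h2 (Ne.symm h1) hab h2'
      (Ne.symm h1')
    have hgH : g ∈ stabilizer Γ a ⊓ stabilizer Γ b := (hHmem g).2 ⟨hga, hgb⟩
    refine ⟨g, hgH, ?_⟩
    have hgb' : g⁻¹ • b = b := by rw [inv_smul_eq_iff, hgb]
    have h5 : (g * k * g⁻¹) • b = k' • b := by
      rw [mul_smul, mul_smul, hgb', hgk]
    have h6' : k'⁻¹ * (g * k * g⁻¹) ∈ K := K.mul_mem (K.inv_mem hk') (hnorm g hgH k hk)
    have h7 : (k'⁻¹ * (g * k * g⁻¹)) • b = b := by
      rw [mul_smul, h5, inv_smul_smul]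
    have h8 : k'⁻¹ * (g * k * g⁻¹) = 1 := by
      by_contra hne
      exact hmove _ h6' hne b (Ne.symm hab) h7
    exact (inv_mul_eq_one.1 h8).symm
  have hpj : 2 ≤ p ^ j := by
    calc 2 ≤ p := hp.two_le
      _ = p ^ 1 := (pow_one p).symm
      _ ≤ p ^ j := Nat.pow_le_pow_right hp.pos hj
  have hK : ∃ k ∈ K, k ≠ 1 := by
    by_contra hcon
    push Not at hcon
    have hbot : K = ⊥ := by
      rw [eq_bot_iff]
      intro k hk
      rw [Subgroup.mem_bot]
      exact hcon k hk
    rw [hbot, Subgroup.card_bot] at hKcard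
    omega
  apply Cfsg.Agent.Lib.Helper95_Sharp2Lin.linearize K (stabilizer Γ a ⊓ stabilizer Γ b) p hnorm
    hcomm hexp hfree htrans hK
  intro V _ _ _ H' hVcard he hreg
  obtain ⟨e⟩ := he
  have hVnt : Nontrivial V := by
    rw [← Finite.one_lt_card_iff_nontrivial, hVcard, hKcard]
    omega
  have hcardH' : Nat.card H' + 1 = Nat.card V :=
    Cfsg.Agent.Lib.Helper12_ExcNF.card_add_one H' hreg
  have heven' : Even (Nat.card H') := by
    rw [hVcard, hKcard] at hcardH'
    rcases heven with ⟨m, hm⟩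
    exact ⟨m - 1, by omega⟩
  have hU3 : ∀ x y : H', x ^ 3 = 1 → x ≠ 1 → y ^ 3 = 1 → y ≠ 1 → y = x ∨ y = x ^ 2 := by
    intro x y hx3 hx1 hy3 hy1
    have hxH := (hHmem _).1 (e.symm x).2
    have hyH := (hHmem _).1 (e.symm y).2
    have hx3' : ((e.symm x : ↥(stabilizer Γ a ⊓ stabilizer Γ b)) : Γ) ^ 3 = 1 := by
      have h1 : (e.symm x) ^ 3 = 1 := by rw [← map_pow, hx3, map_one]
      have := congrArg Subtype.val h1
      simpa using this
    have hy3' : ((e.symm y : ↥(stabilizer Γ a ⊓ stabilizer Γ b)) : Γ) ^ 3 = 1 := by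
      have h1 : (e.symm y) ^ 3 = 1 := by rw [← map_pow, hy3, map_one]
      have := congrArg Subtype.val h1
      simpa using this
    have hx1' : ((e.symm x : ↥(stabilizer Γ a ⊓ stabilizer Γ b)) : Γ) ≠ 1 := by
      intro h1
      apply hx1
      have h2 : e.symm x = 1 := Subtype.ext h1
      exact (MulEquiv.map_eq_one_iff e.symm).1 h2
    have hy1' : ((e.symm y : ↥(stabilizer Γ a ⊓ stabilizer Γ b)) : Γ) ≠ 1 := by
      intro h1
      apply hy1
      have h2 : e.symm y = 1 := Subtype.ext h1
      exact (MulEquiv.map_eq_one_iff e.symm).1 h2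
    rcases Cfsg.Agent.S0728.order_three_unique hs hE hab hac hbc hxH.1 hxH.2 hx3' hx1'
      hyH.1 hyH.2 hy3' hy1' with h | h
    · left
      apply e.symm.injective
      exact Subtype.ext h
    · right
      apply e.symm.injective
      rw [map_pow]
      apply Subtype.ext
      rw [h]
      simp
  obtain ⟨M, hM⟩ := Cfsg.Agent.Lib.Helper95_RegLin.exists_index_two H' hreg heven' hU3
  exact ⟨M.comap e.toMonoidHom, by
    rw [Subgroup.index_comap_of_surjective _ e.surjective, hM]⟩

end Cfsg.Agent.Lib.Helper95_Sharp3Idx
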