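import Mathlib
import Cfsg.Agent.Lib.Helper50_UniqueInv2

/-!
# Groups with an involutory automorphism fixing at most two elements (helper95)

Let `X` be a finite group of even order with a unique involution in which no element `w` with
`w² ≠ 1` is conjugate to its inverse, and let `σ` be an automorphism with `σ² = 1` fixing at most
one non-identity element.  Then `X` is commutative.  (Applied to the two-point stabiliser of a
sharply triply transitive group of degree `p^f + 1`, `p` and `f` odd.)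
-/

set_option autoImplicit false

namespace Cfsg.Agent.Lib.Helper95_InvAut

open Cfsg.Agent.Lib.Helper50_UniqueInv

variable {X : Type*} [Group X]

/-- an automorphism of order two without non-trivial fixed points on a finite invariant subgroup
inverts it -/
theorem inverts_of_fpf [Finite X] (σ : X ≃* X) (hσ : ∀ x, σ (σ x) = x) (U : Subgroup X)
    (hU : ∀ u ∈ U, σ u ∈ U) (hfpf : ∀ u ∈ U, σ u = u → u = 1) : ∀ u ∈ U, σ u = u⁻¹ := by
  let φ : U → U := fun u => ⟨(u : X)⁻¹ * σ u, U.mul_mem (U.inv_mem u.2) (hU u u.2)⟩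
  have hinj : Function.Injective φ := by
    intro u v huv
    have h1 : (u : X)⁻¹ * σ u = (v : X)⁻¹ * σ v := congrArg Subtype.val huv
    have h2 : σ ((v : X) * (u : X)⁻¹) = (v : X) * (u : X)⁻¹ := by
      rw [map_mul, map_inv]
      have h3 : σ (v : X) = v * ((u : X)⁻¹ * σ u) := by rw [h1]; group
      rw [h3]; group
    have h4 := hfpf _ (U.mul_mem v.2 (U.inv_mem u.2)) h2
    apply Subtype.ext
    exact (mul_inv_eq_one.1 h4).symm
  have hsurj : Function.Surjective φ := Finite.surjective_of_injective hinj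
  intro w hw
  obtain ⟨u, hu⟩ := hsurj ⟨w, hw⟩
  have h1 : w = (u : X)⁻¹ * σ u := (congrArg Subtype.val hu).symm
  rw [h1, map_mul, map_inv, hσ]
  group

/-- the quaternion relation -/
theorem quaternion_rel (n : ℕ) :
    (QuaternionGroup.a 1 : QuaternionGroup n) * (QuaternionGroup.xa 0 * QuaternionGroup.a 1) =
      QuaternionGroup.xa 0 := by
  rw [QuaternionGroup.xa_mul_a, QuaternionGroup.a_mul_xa]
  congr 1
  ring

/-- a Sylow 2-subgroup is cyclic when involutions are unique and no element of order > 2 is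
inverted -/
theorem isCyclic_sylow_two [Finite X]
    (huniq : ∀ u v : X, u ^ 2 = 1 → v ^ 2 = 1 → u ≠ 1 → v ≠ 1 → u = v)
    (hnoinv : ∀ y w : X, w * (y * w) = y → w * w = 1) (P : Sylow 2 X) :
    IsCyclic ↥(P : Subgroup X) := by
  have hU : UniqueInvolution ↥(P : Subgroup X) := by
    intro u v hu hv hu1 hv1
    apply Subtype.ext
    apply huniq
    · have := congrArg Subtype.val hu; simpa using this
    · have := congrArg Subtype.val hv; simpa using this
    · exact fun h => hu1 (Subtype.ext h)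
    · exact fun h => hv1 (Subtype.ext h)
  rcases Cfsg.Agent.Lib.Helper50_UniqueInv2.isCyclic_or_quaternion P.isPGroup' hU with h | ⟨k, hk, ⟨e⟩⟩
  · exact h
  · exfalso
    set A : ↥(P : Subgroup X) := e.symm (QuaternionGroup.a 1) with hA
    set B : ↥(P : Subgroup X) := e.symm (QuaternionGroup.xa 0) with hB
    have h1 : A * (B * A) = B := by
      rw [hA, hB, ← map_mul, ← map_mul, quaternion_rel]
    have h2 : (A : X) * ((B : X) * (A : X)) = B := by
      have := congrArg Subtype.val h1
      simpa using this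
    have h3 := hnoinv _ _ h2
    have h4 : A * A = 1 := Subtype.ext (by simpa using h3)
    have h5 : (QuaternionGroup.a 1 : QuaternionGroup (2 ^ k)) * QuaternionGroup.a 1 = 1 := by
      have := congrArg e h4
      rw [map_mul, hA, MulEquiv.apply_symm_apply, map_one] at this
      exact this
    rw [QuaternionGroup.a_mul_a, QuaternionGroup.one_def] at h5
    have h6 : ((1 : ZMod (2 * 2 ^ k)) + 1) = 0 := by
      injection h5
    have h7 : ((2 : ℕ) : ZMod (2 * 2 ^ k)) = 0 := by
      rw [← h6]; norm_num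
    rw [ZMod.natCast_eq_zero_iff] at h7
    have h8 : 2 * 2 ^ k ≤ 2 := Nat.le_of_dvd (by norm_num) h7
    have h9 : 2 ≤ 2 ^ k := by
      calc 2 = 2 ^ 1 := (pow_one 2).symm
        _ ≤ 2 ^ k := Nat.pow_le_pow_right (by norm_num) hk
    omega

/-- the main theorem -/
theorem comm_of_involutive_aut [Finite X] (σ : X ≃* X) (hσ : ∀ x, σ (σ x) = x)
    (heven : 2 ∣ Nat.card X)
    (huniq : ∀ u v : X, u ^ 2 = 1 → v ^ 2 = 1 → u ≠ 1 → v ≠ 1 → u = v)
    (hnoinv : ∀ y w : X, w * (y * w) = y → w * w = 1)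
    (hfix : ∀ x y : X, σ x = x → σ y = y → x ≠ 1 → y ≠ 1 → x = y) :
    ∀ x y : X, x * y = y * x := by
  have h2prime : Fact (Nat.Prime 2) := ⟨Nat.prime_two⟩
  have hp : (Nat.card X).minFac = 2 := (Nat.minFac_eq_two_iff _).2 heven
  obtain ⟨P⟩ : Nonempty (Sylow 2 X) := inferInstance
  have hPc : IsCyclic ↥(P : Subgroup X) := isCyclic_sylow_two huniq hnoinv P
  set φ := MonoidHom.transferSylow P (hPc.normalizer_le_centralizer hp) with hφ
  set U : Subgroup X := φ.ker with hUdef
  have hcompl : U.IsComplement' (P : Subgroup X) := IsCyclic.isComplement' hp hPc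
  have hUn : U.Normal := by rw [hUdef]; infer_instance
  -- `U` has odd order
  have hUodd : ¬ 2 ∣ Nat.card U := by
    have h1 := hcompl.card_mul_card
    have h2 := (P : Subgroup X).card_mul_index
    have h3 : Nat.card U = (P : Subgroup X).index := by
      have hpos : 0 < Nat.card (P : Subgroup X) := Nat.card_pos
      apply Nat.eq_of_mul_eq_mul_right hpos
      rw [h1, mul_comm, h2]
    rw [h3]
    exact P.not_dvd_index
  have hodd_of_mem : ∀ u ∈ U, ¬ 2 ∣ orderOf u := by
    intro u hu h2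
    apply hUodd
    have h1 : orderOf (⟨u, hu⟩ : U) ∣ Nat.card U := orderOf_dvd_natCard _
    rw [Subgroup.orderOf_mk] at h1
    exact dvd_trans h2 h1
  have hmem_of_odd : ∀ x : X, ¬ 2 ∣ orderOf x → x ∈ U := by
    intro x hx
    rw [hUdef, MonoidHom.mem_ker]
    have h1 : orderOf (φ x) ∣ orderOf x := orderOf_map_dvd φ x
    obtain ⟨k, hk⟩ := (IsPGroup.iff_orderOf.1 P.isPGroup') (φ x)
    rw [hk] at h1
    rcases k with _ | k
    · rw [pow_zero] at hk
      exact orderOf_eq_one_iff.1 hk
    · exfalso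
      apply hx
      exact dvd_trans (Dvd.intro _ (pow_succ' 2 k).symm) h1
  have hσU : ∀ u ∈ U, σ u ∈ U := by
    intro u hu
    apply hmem_of_odd
    rw [MulEquiv.orderOf_eq]
    exact hodd_of_mem u hu
  -- squares in `U`
  have hsq : ∀ u ∈ U, u * u = 1 → u = 1 := by
    intro u hu h1
    have h2 : orderOf u ∣ 2 := orderOf_dvd_of_pow_eq_one (by rw [pow_two]; exact h1)
    rcases (Nat.dvd_prime Nat.prime_two).1 h2 with h3 | h3
    · exact orderOf_eq_one_iff.1 h3
    · exact absurd (h3.symm ▸ dvd_refl 2) (hodd_of_mem u hu)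
  -- `σ` is fixed-point-free on `U`
  have hfpf : ∀ u ∈ U, σ u = u → u = 1 := by
    intro u hu h1
    by_contra hne
    have h2 : σ (u * u) = u * u := by rw [map_mul, h1]
    have h3 : u * u ≠ 1 := fun h => hne (hsq u hu h)
    have h4 := hfix u (u * u) h1 h2 hne h3
    apply hne
    have : u * 1 = u * u := by rw [mul_one]; exact h4
    exact (mul_left_cancel this).symm
  have hinv : ∀ u ∈ U, σ u = u⁻¹ := inverts_of_fpf σ hσ U hσU hfpf
  have hUc : ∀ u ∈ U, ∀ v ∈ U, u * v = v * u := by
    intro u hu v hv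
    have h1 := hinv (u * v) (U.mul_mem hu hv)
    rw [map_mul, hinv u hu, hinv v hv, mul_inv_rev] at h1
    have h2 := congrArg (fun x => x⁻¹) h1
    have h3 : v * u = u * v := by simpa using h2
    exact h3.symm
  -- `g⁻¹ σ(g)`, hence `g σ(g)⁻¹`, centralises `U`
  set B : Subgroup X := Subgroup.centralizer (U : Set X) with hB
  have hBn : B.Normal := by rw [hB]; infer_instance
  have hkey : ∀ g : X, g * (σ g)⁻¹ ∈ B := by
    intro g
    rw [hB, Subgroup.mem_centralizer_iff]
    intro u hu
    -- apply `σ` to `g⁻¹ u g`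
    have h1 : g⁻¹ * u * g ∈ U := by
      have := hUn.conj_mem u hu g⁻¹
      simpa using this
    have h2 := hinv _ h1
    rw [map_mul, map_mul, map_inv, hinv u hu] at h2
    -- `σ(g)⁻¹ u⁻¹ σ(g) = g⁻¹ u⁻¹ g`
    have h3 : (σ g)⁻¹ * u⁻¹ * σ g = g⁻¹ * u⁻¹ * g := by
      rw [h2]; group
    have h4 : g * (σ g)⁻¹ * u⁻¹ = u⁻¹ * (g * (σ g)⁻¹) := by
      calc g * (σ g)⁻¹ * u⁻¹ = g * ((σ g)⁻¹ * u⁻¹ * σ g) * (σ g)⁻¹ := by group
        _ = g * (g⁻¹ * u⁻¹ * g) * (σ g)⁻¹ := by rw [h3]
        _ = u⁻¹ * (g * (σ g)⁻¹) := by group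
    -- pass from `u⁻¹` to `u`
    have h5 : u * (g * (σ g)⁻¹ * u⁻¹) * u = u * (u⁻¹ * (g * (σ g)⁻¹)) * u := by rw [h4]
    have h6 : u * (g * (σ g)⁻¹ * u⁻¹) * u = u * (g * (σ g)⁻¹) := by group
    have h7 : u * (u⁻¹ * (g * (σ g)⁻¹)) * u = g * (σ g)⁻¹ * u := by group
    rw [h6, h7] at h5
    exact h5
  -- the fixed points of `σ`
  let Φ : Subgroup X :=
    { carrier := {x | σ x = x}
      one_mem' := map_one σ
      mul_mem' := by
        intro a b ha hb
        change σ (a * b) = a * b
        rw [map_mul, ha, hb]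
      inv_mem' := by
        intro a ha
        change σ a⁻¹ = a⁻¹
        rw [map_inv, ha] }
  have hΦ : Nat.card Φ ≤ 2 := by
    by_cases hall : ∀ x ∈ Φ, x = 1
    · have : Φ = ⊥ := by
        rw [eq_bot_iff]
        intro x hx
        exact Subgroup.mem_bot.2 (hall x hx)
      rw [this, Subgroup.card_bot]
      norm_num
    · push Not at hall
      obtain ⟨x₀, hx₀, hx₀1⟩ := hall
      have hsub : (Φ : Set X) ⊆ {1, x₀} := by
        intro y hy
        by_cases hy1 : y = 1
        · left; exact hy1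
        · right
          exact hfix y x₀ hy hx₀ hy1 hx₀1
      have h1 : (Φ : Set X).ncard ≤ ({1, x₀} : Set X).ncard :=
        Set.ncard_le_ncard hsub (Set.toFinite _)
      have h2 : ({1, x₀} : Set X).ncard ≤ 2 := by
        have := Set.ncard_insert_le (1 : X) {x₀}
        rw [Set.ncard_singleton] at this
        exact this
      have h3 : Nat.card Φ = (Φ : Set X).ncard := Nat.card_coe_set_eq _
      omega
  -- `B` has index at most two
  have hinjmap : Function.Injective
      (Quotient.lift (s := QuotientGroup.leftRel Φ)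
        (fun g : X => (⟨g * (σ g)⁻¹, hkey g⟩ : B)) (by
          intro g g' hgg'
          apply Subtype.ext
          have h1 : σ (g⁻¹ * g') = g⁻¹ * g' := QuotientGroup.leftRel_apply.1 hgg'
          rw [map_mul, map_inv] at h1
          change g * (σ g)⁻¹ = g' * (σ g')⁻¹
          have h2 : σ g' = σ g * (g⁻¹ * g') := by rw [← h1]; group
          rw [h2]; group)) := by
    intro q q'
    induction q using Quotient.inductionOn with
    | h g =>
    induction q' using Quotient.inductionOn with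
    | h g' =>
      intro h
      apply Quotient.sound
      apply QuotientGroup.leftRel_apply.2
      have h1 : g * (σ g)⁻¹ = g' * (σ g')⁻¹ := congrArg Subtype.val h
      change σ (g⁻¹ * g') = g⁻¹ * g'
      rw [map_mul, map_inv]
      have h2 : (σ g)⁻¹ = g⁻¹ * (g' * (σ g')⁻¹) := by rw [← h1]; group
      rw [h2]; group
  have hidx : B.index ≤ 2 := by
    have h1 : Nat.card (X ⧸ Φ) ≤ Nat.card B := Nat.card_le_card_of_injective _ hinjmap
    have h2 : Φ.index * Nat.card Φ = Nat.card X := by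
      rw [mul_comm]; exact Φ.card_mul_index
    have h3 := B.card_mul_index
    have h4 : Φ.index = Nat.card (X ⧸ Φ) := rfl
    have hBpos : 0 < Nat.card B := Nat.card_pos
    by_contra hcon
    push Not at hcon
    have h5 : Nat.card X ≤ Nat.card B * 2 := by
      calc Nat.card X = Φ.index * Nat.card Φ := h2.symm
        _ ≤ Nat.card B * 2 := Nat.mul_le_mul (h4 ▸ h1) hΦ
    have h6 : Nat.card B * 3 ≤ Nat.card B * B.index := Nat.mul_le_mul_left _ hcon
    omega
  -- squares lie in `B`
  have hsqB : ∀ y : X, y * y ∈ B := by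
    intro y
    have h1 : ((y : X ⧸ B)) ^ Nat.card (X ⧸ B) = 1 := pow_card_eq_one'
    have h2 : Nat.card (X ⧸ B) = B.index := rfl
    have hpos : 0 < B.index := by
      have : B.FiniteIndex := inferInstance
      exact Nat.pos_of_ne_zero this.index_ne_zero
    have h3 : ((y : X ⧸ B)) ^ 2 = 1 := by
      rw [h2] at h1
      have h4 : B.index = 1 ∨ B.index = 2 := by omega
      rcases h4 with h4 | h4
      · rw [h4, pow_one] at h1
        rw [h1, one_pow]
      · rw [h4] at h1; exact h1
    rw [← QuotientGroup.mk_pow, QuotientGroup.eq_one_iff, pow_two] at h3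
    exact h3
  -- every element centralises `U`
  have hcent : ∀ y : X, ∀ u ∈ U, y * u = u * y := by
    intro y u hu
    have hu' : y * u * y⁻¹ ∈ U := hUn.conj_mem u hu y
    set w := u⁻¹ * (y * u * y⁻¹) with hw
    have hwU : w ∈ U := U.mul_mem (U.inv_mem hu) hu'
    have hyy := Subgroup.mem_centralizer_iff.1 (hsqB y) u hu
    -- `y w y⁻¹ = w⁻¹`
    have hc2 : y * (y * u * y⁻¹) * y⁻¹ = u := by
      calc y * (y * u * y⁻¹) * y⁻¹ = (y * y * u) * (y * y)⁻¹ := by group
        _ = (u * (y * y)) * (y * y)⁻¹ := by rw [hyy]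
        _ = u := by group
    have hywy : y * w * y⁻¹ = w⁻¹ := by
      calc y * w * y⁻¹ = (y * u * y⁻¹)⁻¹ * (y * (y * u * y⁻¹) * y⁻¹) := by rw [hw]; group
        _ = (y * u * y⁻¹)⁻¹ * u := by rw [hc2]
        _ = w⁻¹ := by rw [hw]; group
    have h1 : w * (y * w) = y := by
      calc w * (y * w) = w * (y * w * y⁻¹) * y := by group
        _ = y := by rw [hywy]; group
    have h4 := hnoinv y w h1
    have h5 := hsq w hwU h4
    have h6 : y * u * y⁻¹ = u := by
      have := congrArg (fun x => u * x) h5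
      simp only [hw] at this
      simpa using this
    calc y * u = (y * u * y⁻¹) * y := by group
      _ = u * y := by rw [h6]
  -- `X = U P` is commutative
  intro x y
  obtain ⟨⟨⟨u₁, hu₁⟩, ⟨p₁, hp₁⟩⟩, hx, -⟩ := (Subgroup.isComplement_iff_existsUnique.1 hcompl) x
  obtain ⟨⟨⟨u₂, hu₂⟩, ⟨p₂, hp₂⟩⟩, hy, -⟩ := (Subgroup.isComplement_iff_existsUnique.1 hcompl) y
  simp only at hx hy
  subst hx
  subst hy
  have hPcomm : p₁ * p₂ = p₂ * p₁ := by
    have hc : IsMulCommutative ↥(P : Subgroup X) := IsCyclic.isMulCommutative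
    exact congrArg Subtype.val (hc.is_comm.comm ⟨p₁, hp₁⟩ ⟨p₂, hp₂⟩)
  calc u₁ * p₁ * (u₂ * p₂) = u₁ * (p₁ * u₂) * p₂ := by group
    _ = u₁ * (u₂ * p₁) * p₂ := by rw [hcent p₁ u₂ hu₂]
    _ = (u₁ * u₂) * (p₁ * p₂) := by group
    _ = (u₂ * u₁) * (p₂ * p₁) := by rw [hUc u₁ hu₁ u₂ hu₂, hPcomm]
    _ = u₂ * (u₁ * p₂) * p₁ := by group
    _ = u₂ * (p₂ * u₁) * p₁ := by rw [hcent p₂ u₁ hu₁]
    _ = u₂ * p₂ * (u₁ * p₁) := by group

end Cfsg.Agent.Lib.Helper95_InvAut
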