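import Mathlib
import Cfsg.Agent.Lib.Helper95_Sharp3Idx
import Cfsg.Agent.Lib.Helper95_InvAut

/-!
# Sharply triply transitive groups of degree `p^f + 1`, `p` and `f` odd: the two-point stabiliser
is commutative (helper95)

* `linearize3`: the two-point stabiliser as a regular linear group (CPS form);
* `noinv_linear`: in a regular linear group of odd dimension over `ZMod p`, `p` odd, no element
  `w` with `w² ≠ 1` is conjugate to its inverse (determinant of `w - w⁻¹`);
* `comm_two_point`: the two-point stabiliser is commutative.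
-/

set_option autoImplicit false

namespace Cfsg.Agent.Lib.Helper95_Sharp3Lin

open MulAction
open Cfsg.Agent.Lib.Helper12_Sharp2 Cfsg.Agent.Lib.Helper21_Sharp3
open Cfsg.Agent.Lib.Helper95_Sharp3Idx
open Cfsg.Agent.Lib.Helper12_ExcNF Cfsg.Agent.Lib.Helper12_ExcSpread

universe u v

section linear

variable {p : ℕ} [Fact p.Prime] {V : Type u} [AddCommGroup V] [Module (ZMod p) V]
variable (H : Subgroup (V ≃ₗ[ZMod p] V))

/-- no element of order greater than two is inverted, in odd dimension and odd characteristic -/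
theorem noinv_linear [Finite V]
    (hreg : ∀ v w : V, v ≠ 0 → w ≠ 0 → ∃! h : H, (h : V ≃ₗ[ZMod p] V) v = w)
    (hp2 : p ≠ 2) (hodd : Odd (Module.finrank (ZMod p) V)) {y w : H} (h : w * (y * w) = y) :
    w * w = 1 := by
  by_contra hne
  have hw : w ≠ w⁻¹ := fun h1 => hne (mul_eq_one_iff_eq_inv.2 h1)
  -- `y w y⁻¹ = w⁻¹` and `y w⁻¹ y⁻¹ = w`
  have h1 : y * w * y⁻¹ = w⁻¹ := by
    have : y * w = w⁻¹ * y := by
      rw [eq_inv_mul_iff_mul_eq]; exact h
    rw [this]; group
  have h2 : y * w⁻¹ * y⁻¹ = w := by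
    have : y * w⁻¹ * y⁻¹ = (y * w * y⁻¹)⁻¹ := by group
    rw [this, h1, inv_inv]
  let d : V →ₗ[ZMod p] V :=
    ((w : V ≃ₗ[ZMod p] V) : V →ₗ[ZMod p] V) - (((w⁻¹ : H) : V ≃ₗ[ZMod p] V) : V →ₗ[ZMod p] V)
  have hd : ∀ x, d x = (w : V ≃ₗ[ZMod p] V) x - ((w⁻¹ : H) : V ≃ₗ[ZMod p] V) x := fun x => rfl
  have hker : LinearMap.ker d = ⊥ := by
    rw [LinearMap.ker_eq_bot']
    intro x hx
    by_contra hx0
    apply hw
    apply eq_of_apply_eq hreg hx0
    rw [hd] at hx
    exact sub_eq_zero.1 hx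
  have hdet : LinearMap.det d ≠ 0 := by
    intro h0
    exact (LinearMap.bot_lt_ker_of_det_eq_zero h0).ne' hker
  have hconj : ((y : V ≃ₗ[ZMod p] V) : V →ₗ[ZMod p] V) ∘ₗ d ∘ₗ
      (((y : V ≃ₗ[ZMod p] V).symm : V ≃ₗ[ZMod p] V) : V →ₗ[ZMod p] V) = -d := by
    ext x
    have hsymm : (y : V ≃ₗ[ZMod p] V).symm x = ((y⁻¹ : H) : V ≃ₗ[ZMod p] V) x := by
      apply (y : V ≃ₗ[ZMod p] V).injective
      rw [LinearEquiv.apply_symm_apply, coe_apply_inv_apply]
    simp only [LinearMap.comp_apply, LinearEquiv.coe_coe, LinearMap.neg_apply]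
    rw [hsymm, hd, hd, map_sub, ← coe_mul_apply, ← coe_mul_apply, ← coe_mul_apply, ← coe_mul_apply,
      h1, h2]
    abel
  have h3 := LinearMap.det_conj d (y : V ≃ₗ[ZMod p] V)
  rw [hconj] at h3
  have h4 : -d = (-1 : ZMod p) • d := by rw [neg_one_smul]
  rw [h4, LinearMap.det_smul, hodd.neg_one_pow] at h3
  have h5 : (2 : ZMod p) * LinearMap.det d = 0 := by
    have : LinearMap.det d + LinearMap.det d = 0 := by
      nth_rewrite 1 [← h3]
      ring
    rw [two_mul]; exact this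
  have h6 : (2 : ZMod p) ≠ 0 := by
    intro h0
    have h7 : ((2 : ℕ) : ZMod p) = 0 := by exact_mod_cast h0
    rw [ZMod.natCast_eq_zero_iff] at h7
    have hp : p.Prime := Fact.out
    exact hp2 ((Nat.prime_dvd_prime_iff_eq hp Nat.prime_two).1 h7)
  rcases mul_eq_zero.1 h5 with h | h
  · exact h6 h
  · exact hdet h

end linear

variable {Γ : Type u} {α : Type v} [Group Γ] [MulAction Γ α]

/-- the two-point stabiliser as a regular linear group -/
theorem linearize3 [Fintype α] [DecidableEq α] [Finite Γ]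
    (h3 : IsMultiplyPretransitive Γ α 3) (hs : Sharp3 Γ α) (h4 : 4 ≤ Fintype.card α)
    {a b : α} (hab : a ≠ b) (P : Prop)
    (hP : ∀ (p : ℕ) [Fact p.Prime] (V : Type u) [AddCommGroup V] [Module (ZMod p) V] [Finite V]
      (H' : Subgroup (V ≃ₗ[ZMod p] V)), Nat.card V + 1 = Fintype.card α →
      Nonempty (↥(stabilizer Γ a ⊓ stabilizer Γ b) ≃* H') →
      (∀ v w : V, v ≠ 0 → w ≠ 0 → ∃! h : H', (h : V ≃ₗ[ZMod p] V) v = w) → P) : P := by
  obtain ⟨K, p, j, hp, hj, hcard, hKcard, hmem, hcomm, hexp⟩ :=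
    exists_regular' h3 hs h4 a
  have : Fact p.Prime := ⟨hp⟩
  have hE := exists_smul_triple h3
  have hHmem : ∀ g, g ∈ stabilizer Γ a ⊓ stabilizer Γ b ↔ g • a = a ∧ g • b = b := by
    intro g
    rw [Subgroup.mem_inf, mem_stabilizer_iff, mem_stabilizer_iff]
  have hKfin : Finite K := inferInstance
  have hmove : ∀ k ∈ K, k ≠ 1 → ∀ y, y ≠ a → k • y ≠ y := by
    intro k hk hk1
    exact ((hmem k).1 hk).2.resolve_left hk1
  have hKa : ∀ k ∈ K, k • a = a := fun k hk => ((hmem k).1 hk).1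
  have hnorm : ∀ h ∈ stabilizer Γ a ⊓ stabilizer Γ b, ∀ k ∈ K, h * k * h⁻¹ ∈ K := by
    intro h hh k hk
    have hha := ((hHmem h).1 hh).1
    have hha' : h⁻¹ • a = a := by rw [inv_smul_eq_iff, hha]
    rw [hmem]
    refine ⟨by rw [mul_smul, mul_smul, hha', hKa k hk, hha], ?_⟩
    by_cases hk1 : k = 1
    · left
      rw [hk1, mul_one, mul_inv_cancel]
    · right
      intro y hy hfix
      apply hmove k hk hk1 (h⁻¹ • y)
      · intro h1
        apply hy
        rw [inv_smul_eq_iff] at h1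
        rw [h1, hha]
      · rw [mul_smul, mul_smul] at hfix
        rw [eq_inv_smul_iff]
        exact hfix
  have hfree : ∀ h ∈ stabilizer Γ a ⊓ stabilizer Γ b, ∀ k ∈ K, k ≠ 1 → h * k * h⁻¹ = k →
      h = 1 := by
    intro h hh k hk hk1 hconj
    obtain ⟨hha, hhb⟩ := (hHmem h).1 hh
    have h1 : k • b ≠ b := hmove k hk hk1 b (Ne.symm hab)
    have h2 : a ≠ k • b := by
      intro h2
      apply hab
      have : k • a = k • b := by rw [hKa k hk]; exact h2
      exact smul_left_cancel k this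
    have h3' : h * k = k * h := by
      have := congrArg (fun y => y * h) hconj
      simpa [mul_assoc] using this
    have h4' : h • (k • b) = k • b := by
      rw [← mul_smul, h3', mul_smul, hhb]
    exact hs h a b (k • b) hab h2 (Ne.symm h1) hha hhb h4'
  have htrans : ∀ k ∈ K, ∀ k' ∈ K, k ≠ 1 → k' ≠ 1 →
      ∃ h ∈ stabilizer Γ a ⊓ stabilizer Γ b, h * k * h⁻¹ = k' := by
    intro k hk k' hk' hk1 hk'1
    have h1 : k • b ≠ b := hmove k hk hk1 b (Ne.symm hab)
    have h1' : k' • b ≠ b := hmove k' hk' hk'1 b (Ne.symm hab)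
    have h2 : a ≠ k • b := by
      intro h2
      apply hab
      have : k • a = k • b := by rw [hKa k hk]; exact h2
      exact smul_left_cancel k this
    have h2' : a ≠ k' • b := by
      intro h2
      apply hab
      have : k' • a = k' • b := by rw [hKa k' hk']; exact h2
      exact smul_left_cancel k' this
    obtain ⟨g, hga, hgb, hgk⟩ := hE a b (k • b) a b (k' • b) hab h2 (Ne.symm h1) hab h2'
      (Ne.symm h1')
    have hgH : g ∈ stabilizer Γ a ⊓ stabilizer Γ b := (hHmem g).2 ⟨hga, hgb⟩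
    refine ⟨g, hgH, ?_⟩
    have hgb' : g⁻¹ • b = b := by rw [inv_smul_eq_iff, hgb]
    have h5 : (g * k * g⁻¹) • b = k' • b := by
      rw [mul_smul, mul_smul, hgb', hgk]
    have h6' : k'⁻¹ * (g * k * g⁻¹) ∈ K := K.mul_mem (K.inv_mem hk') (hnorm g hgH k hk)
    have h7 : (k'⁻¹ * (g * k * g⁻¹)) • b = b := by
      rw [mul_smul, h5, inv_smul_smul]
    have h8 : k'⁻¹ * (g * k * g⁻¹) = 1 := by
      by_contra hne
      exact hmove _ h6' hne b (Ne.symm hab) h7
    exact (inv_mul_eq_one.1 h8).symm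
  have hpj : 2 ≤ p ^ j := by
    calc 2 ≤ p := hp.two_le
      _ = p ^ 1 := (pow_one p).symm
      _ ≤ p ^ j := Nat.pow_le_pow_right hp.pos hj
  have hK : ∃ k ∈ K, k ≠ 1 := by
    by_contra hcon
    push Not at hcon
    have hbot : K = ⊥ := by
      rw [eq_bot_iff]
      intro k hk
      rw [Subgroup.mem_bot]
      exact hcon k hk
    rw [hbot, Subgroup.card_bot] at hKcard
    omega
  apply Cfsg.Agent.Lib.Helper95_Sharp2Lin.linearize K (stabilizer Γ a ⊓ stabilizer Γ b) p hnorm
    hcomm hexp hfree htrans hK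
  intro V _ _ _ H' hVcard he hreg
  exact hP p V H' (by rw [hVcard, hKcard, hcard]) he hreg

/-- the two-point stabiliser of a sharply triply transitive group of degree `p^f + 1`, `p` and `f`
odd, is commutative -/
theorem comm_two_point [Fintype α] [DecidableEq α] [Finite Γ]
    (h3 : IsMultiplyPretransitive Γ α 3) (hs : Sharp3 Γ α) {p f : ℕ} (hp : p.Prime)
    (hp2 : p ≠ 2) (hfo : Odd f) (hα : Fintype.card α = p ^ f + 1) {a b : α} (hab : a ≠ b) :
    ∀ x ∈ stabilizer Γ a ⊓ stabilizer Γ b, ∀ y ∈ stabilizer Γ a ⊓ stabilizer Γ b,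
      x * y = y * x := by
  classical
  have hf1 : 1 ≤ f := by
    rcases hfo with ⟨k, hk⟩
    omega
  have hq3 : 3 ≤ p ^ f := by
    have h1 : 3 ≤ p := by
      have := hp.two_le
      omega
    calc 3 ≤ p := h1
      _ = p ^ 1 := (pow_one p).symm
      _ ≤ p ^ f := Nat.pow_le_pow_right hp.pos hf1
  have h4 : 4 ≤ Fintype.card α := by omega
  have hE := exists_smul_triple h3
  have hHmem : ∀ g, g ∈ stabilizer Γ a ⊓ stabilizer Γ b ↔ g • a = a ∧ g • b = b := by
    intro g
    rw [Subgroup.mem_inf, mem_stabilizer_iff, mem_stabilizer_iff]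
  -- a third point
  obtain ⟨c, hc⟩ : ∃ c, c ∉ ({a, b} : Finset α) := by
    by_contra h
    push Not at h
    have h1 : (Finset.univ : Finset α) ⊆ {a, b} := fun x _ => h x
    have h2 := Finset.card_le_card h1
    have h3'' : ({a, b} : Finset α).card ≤ 2 := Finset.card_le_two
    rw [Finset.card_univ] at h2
    omega
  have hac : a ≠ c := fun h => hc (by simp [h])
  have hbc : b ≠ c := fun h => hc (by simp [h])
  obtain ⟨s, hsa, hsb, hsc⟩ := hE a b c b a c hab hac hbc (Ne.symm hab) hbc hac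
  have hss : s * s = 1 :=
    hs (s * s) a b c hab hac hbc (by rw [mul_smul, hsa, hsb]) (by rw [mul_smul, hsb, hsa])
      (by rw [mul_smul, hsc, hsc])
  have hsinv : s⁻¹ = s := inv_eq_of_mul_eq_one_left hss
  have hs1 : s ≠ 1 := by
    intro h1
    rw [h1, one_smul] at hsa
    exact hab hsa
  have hnorm : ∀ h ∈ stabilizer Γ a ⊓ stabilizer Γ b,
      s * h * s⁻¹ ∈ stabilizer Γ a ⊓ stabilizer Γ b := by
    intro h hh
    obtain ⟨h1, h2⟩ := (hHmem h).1 hh
    rw [hHmem, hsinv]
    constructor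
    · rw [mul_smul, mul_smul, hsa, h2, hsb]
    · rw [mul_smul, mul_smul, hsb, h1, hsa]
  let σ : ↥(stabilizer Γ a ⊓ stabilizer Γ b) ≃* ↥(stabilizer Γ a ⊓ stabilizer Γ b) :=
    { toFun := fun h => ⟨s * h * s⁻¹, hnorm h h.2⟩
      invFun := fun h => ⟨s * h * s⁻¹, hnorm h h.2⟩
      left_inv := fun h => by
        apply Subtype.ext
        change s * (s * (h : Γ) * s⁻¹) * s⁻¹ = h
        rw [hsinv]
        calc s * (s * (h : Γ) * s) * s = (s * s) * h * (s * s) := by group
          _ = h := by rw [hss, one_mul, mul_one]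
      right_inv := fun h => by
        apply Subtype.ext
        change s * (s * (h : Γ) * s⁻¹) * s⁻¹ = h
        rw [hsinv]
        calc s * (s * (h : Γ) * s) * s = (s * s) * h * (s * s) := by group
          _ = h := by rw [hss, one_mul, mul_one]
      map_mul' := fun x y => by
        apply Subtype.ext
        change s * ((x : Γ) * y) * s⁻¹ = (s * x * s⁻¹) * (s * y * s⁻¹)
        group }
  have hσ : ∀ x, σ (σ x) = x := fun x => σ.left_inv x
  have hσval : ∀ x : ↥(stabilizer Γ a ⊓ stabilizer Γ b), ((σ x : ↥(stabilizer Γ a ⊓ stabilizer Γ b)) : Γ) =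
      s * x * s⁻¹ := fun x => rfl
  -- the fixed points of `σ`
  have hfix : ∀ x y : ↥(stabilizer Γ a ⊓ stabilizer Γ b), σ x = x → σ y = y → x ≠ 1 → y ≠ 1 →
      x = y := by
    intro x y hx hy hx1 hy1
    have hcomm : ∀ z : ↥(stabilizer Γ a ⊓ stabilizer Γ b), σ z = z → s • ((z : Γ) • c) = (z : Γ) • c := by
      intro z hz
      have h1 : s * (z : Γ) * s⁻¹ = z := by rw [← hσval, hz]
      have h2 : s * (z : Γ) = z * s := by
        have := congrArg (fun y => y * s) h1
        simpa [mul_assoc] using this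
      rw [← mul_smul, h2, mul_smul, hsc]
    have hne : ∀ z : ↥(stabilizer Γ a ⊓ stabilizer Γ b), z ≠ 1 → (z : Γ) • c ≠ c := by
      intro z hz h1
      apply hz
      obtain ⟨hza, hzb⟩ := (hHmem _).1 z.2
      exact Subtype.ext (hs (z : Γ) a b c hab hac hbc hza hzb h1)
    -- `s` fixes `c`, `x c`, `y c`
    by_contra hxy
    have hxyc : (x : Γ) • c ≠ (y : Γ) • c := by
      intro h1
      apply hxy
      obtain ⟨hxa, hxb⟩ := (hHmem _).1 x.2
      obtain ⟨hya, hyb⟩ := (hHmem _).1 y.2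
      have h2 : ((y : Γ)⁻¹ * x) = 1 := by
        refine hs _ a b c hab hac hbc ?_ ?_ ?_
        · rw [mul_smul, hxa, inv_smul_eq_iff, hya]
        · rw [mul_smul, hxb, inv_smul_eq_iff, hyb]
        · rw [mul_smul, h1, inv_smul_smul]
      apply Subtype.ext
      exact (inv_mul_eq_one.1 h2).symm
    exact hs1 (hs s c ((x : Γ) • c) ((y : Γ) • c) (Ne.symm (hne x hx1)) (Ne.symm (hne y hy1)) hxyc
      hsc (hcomm x hx) (hcomm y hy))
  -- pass to the linear group
  apply linearize3 h3 hs h4 hab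
  intro p' _ V _ _ _ H' hVcard he hreg
  obtain ⟨e⟩ := he
  have hp' : p'.Prime := Fact.out
  have hVq : Nat.card V = p ^ f := by omega
  have hVnt : Nontrivial V := by
    rw [← Finite.one_lt_card_iff_nontrivial, hVq]
    omega
  have hfr : Nat.card V = p' ^ Module.finrank (ZMod p') V := card_eq_pow_top
  -- identify the prime and the dimension
  have hfr1 : 1 ≤ Module.finrank (ZMod p') V := by
    by_contra h0
    have h1 : Module.finrank (ZMod p') V = 0 := by omega
    rw [h1, pow_zero] at hfr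
    omega
  obtain ⟨d, hd⟩ : ∃ d, Module.finrank (ZMod p') V = d + 1 := ⟨_, (Nat.sub_add_cancel hfr1).symm⟩
  obtain ⟨f', hf'⟩ : ∃ f', f = f' + 1 := ⟨_, (Nat.sub_add_cancel hf1).symm⟩
  have hpp : p' = p ∧ d = f' := by
    apply Nat.Prime.pow_inj hp' hp
    rw [← hd, ← hf', ← hfr, hVq]
  have hp'2 : p' ≠ 2 := by rw [hpp.1]; exact hp2
  have hfrodd : Odd (Module.finrank (ZMod p') V) := by
    rw [hd, hpp.2, ← hf']; exact hfo
  have hcardH' : Nat.card H' + 1 = Nat.card V := card_add_one H' hreg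
  have heven : 2 ∣ Nat.card ↥(stabilizer Γ a ⊓ stabilizer Γ b) := by
    rw [Nat.card_congr e.toEquiv]
    have hodd : Odd (p ^ f) := by
      apply Odd.pow
      exact hp.odd_of_ne_two hp2
    rcases hodd with ⟨m, hm⟩
    exact ⟨m, by omega⟩
  have huniq : ∀ u v : ↥(stabilizer Γ a ⊓ stabilizer Γ b), u ^ 2 = 1 → v ^ 2 = 1 → u ≠ 1 → v ≠ 1 →
      u = v := by
    intro u v hu hv hu1 hv1
    apply e.injective
    apply Cfsg.Agent.Lib.Helper95_RegLin.invol_unique H' hreg
    · rw [← map_pow, hu, map_one]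
    · rw [← map_pow, hv, map_one]
    · exact fun h => hu1 ((MulEquiv.map_eq_one_iff e).1 h)
    · exact fun h => hv1 ((MulEquiv.map_eq_one_iff e).1 h)
  have hnoinv : ∀ y w : ↥(stabilizer Γ a ⊓ stabilizer Γ b), w * (y * w) = y → w * w = 1 := by
    intro y w h
    have h1 : e w * (e y * e w) = e y := by rw [← map_mul, ← map_mul, h]
    have h2 := noinv_linear H' hreg hp'2 hfrodd h1
    rw [← map_mul] at h2
    exact (MulEquiv.map_eq_one_iff e).1 h2
  have hmain := Cfsg.Agent.Lib.Helper95_InvAut.comm_of_involutive_aut σ hσ heven huniq hnoinv hfix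
  intro x hx y hy
  exact congrArg Subtype.val (hmain ⟨x, hx⟩ ⟨y, hy⟩)

end Cfsg.Agent.Lib.Helper95_Sharp3Lin
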