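import Mathlib
import Cfsg.Agent.Lib.Helper95_Sharp3Lin
import Cfsg.Agent.Lib.Helper95_Sharp3Idx
import Cfsg.Agent.Lib.Helper95_NFField
import Cfsg.Agent.Lib.Helper95_PGL2Iso

/-!
# Sharply triply transitive groups of degree `p ^ f + 1`, `p` and `f` odd: glue (helper95)

From a sharply triply transitive permutation group `G` on `α` with `|α| = p ^ f + 1` we build the
field coordinates (`Helper95_KT.Coord`): the stabiliser of a point `a` acts sharply doubly
transitively on `α \ {a}` with commutative point stabilisers (`Helper95_Sharp3Lin.comm_two_point`),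
hence is the affine group of a field structure on `α \ {a}` (`Helper95_NFField.exists_field`);
then `Helper95_PGL2Iso.nonempty_mulEquiv` gives `G ≃* PGL(2, F)`.
-/

set_option autoImplicit false
open scoped MatrixGroups

namespace Cfsg.Agent.Lib.Helper95_Sharp3Glue

open Cfsg.Agent.Lib.Helper95_KT Cfsg.Agent.Lib.Helper21_Sharp3 MulAction

section transport

variable {Γ : Type*} {α : Type*} {K : Type*} {F : Type*} [Group Γ] [MulAction Γ α] [Field K]
  [Field F]

/-- transport of coordinates along a field isomorphism -/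
def transport (C : Coord Γ α K) (κ : K ≃+* F) : Coord Γ α F where
  co := C.co.trans (Equiv.optionCongr κ.toEquiv)
  aff := by
    intro g hg
    have h0 : (Equiv.optionCongr κ.toEquiv).symm none = none := rfl
    have h1 : C.co (g • C.co.symm none) = none := by
      have h2 := hg
      simp only [Equiv.symm_trans_apply, h0, Equiv.trans_apply, Equiv.optionCongr_apply,
        Option.map_eq_none_iff] at h2
      exact h2
    obtain ⟨m, t, hm, hmt⟩ := C.aff g h1
    refine ⟨κ m, κ t, (map_ne_zero_iff κ κ.injective).2 hm, fun x => ?_⟩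
    simp only [Equiv.trans_apply, Equiv.optionCongr_apply, hmt]
    rcases C.co x with _ | z
    · rfl
    · simp
  exAff := by
    intro m t hm
    obtain ⟨g, hg⟩ := C.exAff (κ.symm m) (κ.symm t)
      ((map_ne_zero_iff κ.symm κ.symm.injective).2 hm)
    refine ⟨g, fun x => ?_⟩
    simp only [Equiv.trans_apply, Equiv.optionCongr_apply, hg]
    rcases C.co x with _ | z
    · rfl
    · simp

end transport

theorem two_ne_zero_of_card {F : Type*} [Field F] [Fintype F] {p f : ℕ} (hp : p.Prime)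
    (hp2 : p ≠ 2) (hcard : Fintype.card F = p ^ f) : (2 : F) ≠ 0 := by
  obtain ⟨q, hq⟩ := CharP.exists F
  obtain ⟨n, hqp, hn⟩ := FiniteField.card F q
  have hqp' : q = p := by
    have h1 : q ∣ p ^ f := by
      rw [← hcard, hn]
      exact dvd_pow_self q n.ne_zero
    exact (Nat.prime_dvd_prime_iff_eq hqp hp).1 (hqp.dvd_of_dvd_pow h1)
  subst hqp'
  intro h2
  have h3 : ((2 : ℕ) : F) = 0 := by exact_mod_cast h2
  rw [CharP.cast_eq_zero_iff F q 2] at h3
  exact hp2 ((Nat.prime_dvd_prime_iff_eq hqp Nat.prime_two).1 h3)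

section point

variable {α : Type*}

/-- the group induced by the stabiliser of `a` on the other points -/
def pointGroup (G : Subgroup (Equiv.Perm α)) (a : α) :
    Subgroup (Equiv.Perm {x : α // x ≠ a}) where
  carrier := {τ | ∃ g ∈ G, g a = a ∧ ∀ x : {x : α // x ≠ a}, (τ x : α) = g x}
  one_mem' := ⟨1, G.one_mem, rfl, fun _ => rfl⟩
  mul_mem' := by
    rintro σ τ ⟨g, hg, hga, hgσ⟩ ⟨h, hh, hha, hhτ⟩
    refine ⟨g * h, G.mul_mem hg hh, ?_, fun x => ?_⟩
    · rw [Equiv.Perm.mul_apply, hha, hga]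
    · rw [Equiv.Perm.mul_apply, Equiv.Perm.mul_apply, hgσ, hhτ]
  inv_mem' := by
    rintro σ ⟨g, hg, hga, hgσ⟩
    refine ⟨g⁻¹, G.inv_mem hg, ?_, fun x => ?_⟩
    · rw [Equiv.Perm.inv_eq_iff_eq]
      exact hga.symm
    · rw [Equiv.Perm.eq_inv_iff_eq, ← hgσ, Equiv.Perm.inv_def, Equiv.apply_symm_apply]

/-- restriction of a permutation fixing `a` to the other points -/
def restr (g : Equiv.Perm α) {a : α} (hga : g a = a) : Equiv.Perm {x : α // x ≠ a} :=
  g.subtypePerm (fun x => by
    constructor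
    · intro h hx
      apply h
      rw [hx, hga]
    · intro h hx
      apply h
      apply g.injective
      rw [hx, hga])

theorem restr_mem {G : Subgroup (Equiv.Perm α)} {g : Equiv.Perm α} (hg : g ∈ G) {a : α}
    (hga : g a = a) : restr g hga ∈ pointGroup G a :=
  ⟨g, hg, hga, fun _ => rfl⟩

variable (G : Subgroup (Equiv.Perm α)) (a : α)

theorem pointGroup_two (h3 : IsMultiplyPretransitive G α 3) :
    IsMultiplyPretransitive (pointGroup G a) {x : α // x ≠ a} 2 := by
  rw [MulAction.is_two_pretransitive_iff]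
  intro u v u' v' huv huv'
  obtain ⟨g, hga, hgu, hgv⟩ := Cfsg.Agent.Lib.Helper95_Sharp3Idx.exists_smul_triple h3
    a (u : α) (v : α) a (u' : α) (v' : α) u.2.symm v.2.symm (fun h => huv (Subtype.ext h))
    u'.2.symm v'.2.symm (fun h => huv' (Subtype.ext h))
  exact ⟨⟨restr (g : Equiv.Perm α) hga, restr_mem g.2 hga⟩, Subtype.ext hgu, Subtype.ext hgv⟩

theorem pointGroup_sharp (hs : Sharp3 G α) (x : Fin 2 ↪ {x : α // x ≠ a}) :
    stabilizer (pointGroup G a) x = ⊥ := by
  rw [eq_bot_iff]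
  intro τ hτ
  rw [mem_stabilizer_iff] at hτ
  rw [Subgroup.mem_bot]
  obtain ⟨g, hg, hga, hgτ⟩ := τ.2
  have h0 : (τ : Equiv.Perm {x : α // x ≠ a}) (x 0) = x 0 := DFunLike.congr_fun hτ 0
  have h1 : (τ : Equiv.Perm {x : α // x ≠ a}) (x 1) = x 1 := DFunLike.congr_fun hτ 1
  have h01 : ((x 0 : {x : α // x ≠ a}) : α) ≠ x 1 := by
    intro h
    have := x.injective (Subtype.ext h)
    exact absurd this (by decide)
  have hg1 : (⟨g, hg⟩ : G) = 1 :=
    hs ⟨g, hg⟩ a (x 0) (x 1) (x 0).2.symm (x 1).2.symm h01 hga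
      (by change g (x 0) = x 0; rw [← hgτ, h0]) (by change g (x 1) = x 1; rw [← hgτ, h1])
  have hg1' : g = 1 := congrArg Subtype.val hg1
  apply Subtype.ext
  apply Equiv.ext
  intro y
  apply Subtype.ext
  rw [hgτ, hg1']
  rfl

theorem pointGroup_comm [Fintype α] [DecidableEq α] (h3 : IsMultiplyPretransitive G α 3) (hs : Sharp3 G α) {p f : ℕ}
    (hp : p.Prime) (hp2 : p ≠ 2) (hfo : Odd f) (hα : Fintype.card α = p ^ f + 1)
    (o : {x : α // x ≠ a}) :
    ∀ σ ∈ pointGroup G a, ∀ τ ∈ pointGroup G a, σ o = o → τ o = o → σ * τ = τ * σ := by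
  rintro σ ⟨g, hg, hga, hgσ⟩ τ ⟨h, hh, hha, hhτ⟩ hσo hτo
  have hc := Cfsg.Agent.Lib.Helper95_Sharp3Lin.comm_two_point h3 hs hp hp2 hfo hα
    (a := a) (b := (o : α)) o.2.symm ⟨g, hg⟩
    (by
      rw [Subgroup.mem_inf, mem_stabilizer_iff, mem_stabilizer_iff]
      exact ⟨hga, by change g o = o; rw [← hgσ, hσo]⟩)
    ⟨h, hh⟩
    (by
      rw [Subgroup.mem_inf, mem_stabilizer_iff, mem_stabilizer_iff]
      exact ⟨hha, by change h o = o; rw [← hhτ, hτo]⟩)
  have hc' : g * h = h * g := congrArg Subtype.val hc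
  apply Equiv.ext
  intro x
  apply Subtype.ext
  rw [Equiv.Perm.mul_apply, Equiv.Perm.mul_apply, hgσ, hhτ, hhτ, hgσ]
  exact DFunLike.congr_fun hc' (x : α)

theorem co_aff [DecidableEq α] [Field {x : α // x ≠ a}] (g : Equiv.Perm α) (hga : g a = a)
    (τ : Equiv.Perm {x : α // x ≠ a}) (hτ : ∀ x, (τ x : α) = g x) {m t : {x : α // x ≠ a}}
    (hmt : ∀ x, τ x = x * m + t) (x : α) :
    (Equiv.optionSubtypeNe a).symm (g x) =
      ((Equiv.optionSubtypeNe a).symm x).map (fun z => z * m + t) := by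
  by_cases hx : x = a
  · rw [hx, hga, Equiv.optionSubtypeNe_symm_self]
    rfl
  · have hgx : g x ≠ a := fun h => hx (g.injective (h.trans hga.symm))
    rw [Equiv.optionSubtypeNe_symm_of_ne hx, Equiv.optionSubtypeNe_symm_of_ne hgx]
    change some (⟨g x, hgx⟩ : {x : α // x ≠ a}) = some (⟨x, hx⟩ * m + t)
    congr 1
    rw [← hmt]
    exact Subtype.ext (hτ ⟨x, hx⟩).symm

/-- the coordinates given by a field structure on the other points for which the point group is
the affine group -/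
def coordOf [DecidableEq α] [Field {x : α // x ≠ a}]
    (hdesc : ∀ σ : Equiv.Perm {x : α // x ≠ a}, σ ∈ pointGroup G a ↔
      ∃ m t : {x : α // x ≠ a}, m ≠ 0 ∧ ∀ x, σ x = x * m + t) :
    Coord G α {x : α // x ≠ a} where
  co := (Equiv.optionSubtypeNe a).symm
  aff := by
    intro g hg
    have hga : (g : Equiv.Perm α) a = a := by
      have h1 := congrArg (Equiv.optionSubtypeNe a) hg
      rw [Equiv.apply_symm_apply] at h1
      exact h1
    obtain ⟨m, t, hm, hmt⟩ := (hdesc _).1 (restr_mem g.2 hga)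
    exact ⟨m, t, hm, co_aff a (g : Equiv.Perm α) hga _ (fun _ => rfl) hmt⟩
  exAff := by
    intro m t hm
    have hσ : ((Equiv.mulRight₀ m hm).trans (Equiv.addRight t)) ∈ pointGroup G a :=
      (hdesc _).2 ⟨m, t, hm, fun _ => rfl⟩
    obtain ⟨g, hg, hga, hgσ⟩ := hσ
    exact ⟨⟨g, hg⟩, co_aff a g hga _ hgσ (fun _ => rfl)⟩

end point

/-- a sharply triply transitive group of degree `p ^ f + 1`, `p` and `f` odd, is `PGL(2, p ^ f)` -/
theorem main {α : Type*} [Fintype α] [DecidableEq α] {p f : ℕ} (hp : p.Prime) (hp2 : p ≠ 2)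
    (hfo : Odd f) (hα : Fintype.card α = p ^ f + 1) (G : Subgroup (Equiv.Perm α))
    (h3 : IsMultiplyPretransitive G α 3) (hs : Sharp3 G α) :
    ∃ (F : Type) (_ : Field F) (_ : Fintype F), Fintype.card F = p ^ f ∧
      Nonempty (G ≃* PGL(Fin 2, F)) := by
  classical
  have hf1 : 1 ≤ f := by
    rcases hfo with ⟨k, hk⟩
    omega
  have hq3 : 3 ≤ p ^ f := by
    have h1 : 3 ≤ p := by
      have := hp.two_le
      omega
    calc 3 ≤ p := h1
      _ = p ^ 1 := (pow_one p).symm
      _ ≤ p ^ f := Nat.pow_le_pow_right hp.pos hf1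
  have hne : Nonempty α := by
    rw [← Fintype.card_pos_iff, hα]
    omega
  obtain ⟨a⟩ := hne
  have hA : Fintype.card {x : α // x ≠ a} = p ^ f := by
    have h1 := Fintype.card_congr (Equiv.optionSubtypeNe a)
    rw [Fintype.card_option, hα] at h1
    omega
  have h2t := pointGroup_two G a h3
  obtain ⟨instK, hdesc⟩ := Cfsg.Agent.Lib.Helper95_NFField.exists_field (pointGroup G a)
    (pointGroup_sharp G a hs) (by rw [hA]; omega) (pointGroup_comm G a h3 hs hp hp2 hfo hα)
  let κ : {x : α // x ≠ a} ≃+* Shrink.{0} {x : α // x ≠ a} :=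
    (Shrink.ringEquiv.{0} {x : α // x ≠ a}).symm
  let instF : Fintype (Shrink.{0} {x : α // x ≠ a}) :=
    Fintype.ofEquiv {x : α // x ≠ a} (equivShrink.{0} {x : α // x ≠ a})
  have hF : Fintype.card (Shrink.{0} {x : α // x ≠ a}) = p ^ f := by
    rw [← hA]
    exact Fintype.card_congr (equivShrink.{0} {x : α // x ≠ a}).symm
  let C : Coord G α (Shrink.{0} {x : α // x ≠ a}) := transport (coordOf G a hdesc) κ
  have hE := Cfsg.Agent.Lib.Helper95_Sharp3Idx.exists_smul_triple h3
  have h01 : C.inf ≠ C.pt 0 := (C.pt_ne_inf 0).symm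
  have h02 : C.inf ≠ C.pt 1 := (C.pt_ne_inf 1).symm
  have h12 : C.pt 0 ≠ C.pt 1 := fun h => zero_ne_one (C.pt_injective h)
  obtain ⟨s, hs1, hs2, hs3⟩ := hE C.inf (C.pt 0) (C.pt 1) (C.pt 0) C.inf (C.pt 1) h01 h02 h12
    h01.symm h12 h02
  let D : Setup G α (Shrink.{0} {x : α // x ≠ a}) :=
    { C := C
      sharp := hs
      two_ne := two_ne_zero_of_card hp hp2 hF
      s := s
      s_inf := hs1
      s_zero := hs2
      s_one := hs3 }
  refine ⟨Shrink.{0} {x : α // x ≠ a}, inferInstance, inferInstance, hF, ?_⟩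
  apply Cfsg.Agent.Lib.Helper95_PGL2Iso.nonempty_mulEquiv D
  · intro g hg
    apply Subtype.ext
    apply Equiv.ext
    intro x
    exact hg x
  · exact hE

end Cfsg.Agent.Lib.Helper95_Sharp3Glue
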