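import Mathlib
import Cfsg.Prelude.Def_Perm
import Cfsg.Agent.Lib.Helper59_PrimeDegMain
import Cfsg.Agent.S0730
import Cfsg.Agent.S0727

/-!
# Transitive permutation groups of degree `p + 1` and order `(p + 1) p d`, `d < p` (helper59)

The permutation-group form of `Helper59_PrimeDegMain.main_abstract` (statement S0732), relative to
Feit's inequality `Helper59_ZassAbel.FeitIneq`.
-/

set_option autoImplicit false

namespace Cfsg.Agent.Lib.Helper59_PrimeDegPerm

open MulAction Cfsg Cfsg.Agent.Lib.Helper59_PrimeDeg Cfsg.Agent.Lib.Helper59_PrimeDegMain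
  Cfsg.Agent.Lib.Helper59_ZassAbel

universe u

theorem main_perm (hI : FeitIneq.{u, u}) {α : Type u} [Fintype α] [DecidableEq α] {p d : ℕ}
    (hp : p.Prime) (hα : Fintype.card α = p + 1) (G : Subgroup (Equiv.Perm α))
    [MulAction.IsPretransitive G α] (hG : Nat.card G = (p + 1) * p * d) (hd : d < p) :
    (d = p - 1 ∧ Nonempty (G ≃* Matrix.ProjGenLinGroup (Fin 2) (ZMod p))) ∨
    (2 * d = p - 1 ∧ Nonempty (G ≃* Matrix.ProjectiveSpecialLinearGroup (Fin 2) (ZMod p))) ∨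
    (∃ q : ℕ, q.Prime ∧ p + 1 = 2 ^ q ∧ (d = 1 ∨ d = q) ∧ ∃ e : α ≃ GaloisField 2 q,
      ∀ g : G, (e.symm.trans (((g : Equiv.Perm α)).trans e)) ∈
        Cfsg.semiaffineGroup (GaloisField 2 q)) := by
  classical
  have hpf : Fact p.Prime := ⟨hp⟩
  have hyp : Hyp G α p d :=
    ⟨inferInstance, inferInstance, hp, by rw [Nat.card_eq_fintype_card, hα], hG, hd⟩
  rcases main_abstract hI hyp with ⟨hdp, h3, hsharp⟩ | ⟨h2d, hiso⟩ | ⟨q, hq, hpq, hdq, e, he⟩
  · left
    refine ⟨hdp, ?_⟩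
    have hex : ∃ (F : Type) (_ : Field F) (_ : Fintype F), Fintype.card F = p ∧
        Nonempty (G ≃* Matrix.ProjGenLinGroup (Fin 2) F) := by
      by_cases hp2 : p = 2
      · subst hp2
        obtain ⟨F, hF, hFfin, hFcard, hiso⟩ :=
          Cfsg.Agent.S0727.result (f := 1) (le_refl 1) (by rw [hα, pow_one]) G h3 hsharp
        exact ⟨F, hF, hFfin, by rw [hFcard]; norm_num, hiso⟩
      · obtain ⟨F, hF, hFfin, hFcard, hiso⟩ :=
          Cfsg.Agent.S0730.result hp hp2 (f := 1) odd_one (by rw [hα, pow_one]) G h3 hsharp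
        exact ⟨F, hF, hFfin, by rw [hFcard, pow_one], hiso⟩
    obtain ⟨F, hF, hFfin, hFcard, ⟨iso⟩⟩ := hex
    have hcardeq : Fintype.card F = Fintype.card (ZMod p) := by rw [hFcard, ZMod.card]
    let ρ : F ≃+* ZMod p := FiniteField.ringEquivOfCardEq hcardeq
    obtain ⟨iso'⟩ := pgl_congr ρ
    exact ⟨iso.trans iso'⟩
  · right; left
    exact ⟨h2d, hiso⟩
  · right; right
    refine ⟨q, hq, hpq, hdq, e, ?_⟩
    intro g
    obtain ⟨c, b, φ, hg⟩ := he g
    refine ⟨c, b, φ, ?_⟩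
    intro x
    have := hg (e.symm x)
    rw [Equiv.apply_symm_apply] at this
    exact this

end Cfsg.Agent.Lib.Helper59_PrimeDegPerm
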