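import Mathlib
import Cfsg.Prelude.Def_Perm
import Cfsg.Agent.S0732
import Cfsg.Agent.Lib.Helper16_B43Defs

/-!
# S0996 package N1 (architect helper16): the case `n = 1` of Brauer's theorem (helper63)

* `eq_bot_of_perfect_semiaffine`: a perfect permutation group which is permutation-isomorphic to a group of
  semi-affine maps `x ↦ a φ(x) + b` of a finite field is trivial.
* `endgame_n1`: in the setting with `p + 1` Sylow `p`-subgroups and `2 e = p - 1`, `G ≃* PSL₂(p)`
  (action on the Sylow subgroups + landed `S0732.result`).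
-/

set_option autoImplicit false
set_option linter.unusedSectionVars false

namespace Cfsg.Agent.Lib.Helper63_B43_N1

open Cfsg Cfsg.Agent.Lib.Helper16_B43Defs
open scoped commutatorElement

section field
variable {F : Type*} [Field F] [Finite F]

/-- ring automorphisms of a finite field commute -/
theorem ringAut_comm (φ ψ : F ≃+* F) (x : F) : φ (ψ x) = ψ (φ x) := by
  by_cases hx : x = 0
  · rw [hx, map_zero, map_zero, map_zero]
  obtain ⟨a, ha⟩ := MonoidHom.map_cyclic (Units.map (φ : F →* F))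
  obtain ⟨b, hb⟩ := MonoidHom.map_cyclic (Units.map (ψ : F →* F))
  have h3 : Units.map (φ : F →* F) (Units.map (ψ : F →* F) (Units.mk0 x hx)) =
      Units.map (ψ : F →* F) (Units.map (φ : F →* F) (Units.mk0 x hx)) := by
    rw [hb (Units.mk0 x hx), ha (Units.mk0 x hx), ha, hb, ← zpow_mul, ← zpow_mul, mul_comm]
  have h4 := congrArg Units.val h3
  simpa using h4

/-- the affine permutations `x ↦ a x + b` -/
def affSub (F : Type*) [Field F] : Subgroup (Equiv.Perm F) where
  carrier := {σ | ∃ a : Fˣ, ∃ b : F, ∀ x, σ x = (a : F) * x + b}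
  one_mem' := ⟨1, 0, fun x => by simp⟩
  mul_mem' := by
    rintro σ τ ⟨a, b, hσ⟩ ⟨c, d, hτ⟩
    refine ⟨a * c, (a : F) * d + b, fun x => ?_⟩
    rw [Equiv.Perm.coe_mul, Function.comp_apply, hτ, hσ, Units.val_mul]
    ring
  inv_mem' := by
    rintro σ ⟨a, b, hσ⟩
    refine ⟨a⁻¹, -(((a⁻¹ : Fˣ) : F) * b), fun x => ?_⟩
    apply σ.injective
    rw [Equiv.Perm.inv_def, Equiv.apply_symm_apply, hσ]
    have : (a : F) * ((a⁻¹ : Fˣ) : F) = 1 := by rw [← Units.val_mul, mul_inv_cancel, Units.val_one]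
    linear_combination (-x + b) * this

/-- the translations `x ↦ x + b` -/
def transSub (F : Type*) [Field F] : Subgroup (Equiv.Perm F) where
  carrier := {σ | ∃ b : F, ∀ x, σ x = x + b}
  one_mem' := ⟨0, fun x => by simp⟩
  mul_mem' := by
    rintro σ τ ⟨b, hσ⟩ ⟨d, hτ⟩
    refine ⟨d + b, fun x => ?_⟩
    rw [Equiv.Perm.coe_mul, Function.comp_apply, hτ, hσ]
    ring
  inv_mem' := by
    rintro σ ⟨b, hσ⟩
    refine ⟨-b, fun x => ?_⟩
    apply σ.injective
    rw [Equiv.Perm.inv_def, Equiv.apply_symm_apply, hσ]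
    ring

theorem comm_mem_affSub {σ τ : Equiv.Perm F} (hσ : σ ∈ semiaffineGroup F)
    (hτ : τ ∈ semiaffineGroup F) : ⁅σ, τ⁆ ∈ affSub F := by
  obtain ⟨a, b, φ, hσ⟩ := hσ
  obtain ⟨c, d, ψ, hτ⟩ := hτ
  have hk : ∀ x, ⁅σ, τ⁆ (τ (σ x)) = σ (τ x) := by
    intro x
    have : ⁅σ, τ⁆ * (τ * σ) = σ * τ := by rw [commutatorElement_def]; group
    exact congrArg (fun f : Equiv.Perm F => f x) this
  -- `τ σ x = A θ x + B`, `σ τ x = A' θ x + B'`
  have hA0 : (c : F) * ψ (a : F) ≠ 0 :=
    mul_ne_zero c.ne_zero (by rw [Ne, map_eq_zero_iff ψ ψ.injective]; exact a.ne_zero)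
  have hA'0 : (a : F) * φ (c : F) ≠ 0 :=
    mul_ne_zero a.ne_zero (by rw [Ne, map_eq_zero_iff φ φ.injective]; exact c.ne_zero)
  refine ⟨Units.mk0 ((a : F) * φ (c : F) * ((c : F) * ψ (a : F))⁻¹) (mul_ne_zero hA'0 (inv_ne_zero hA0)),
    (a : F) * φ d + b - (a : F) * φ (c : F) * ((c : F) * ψ (a : F))⁻¹ * ((c : F) * ψ b + d), ?_⟩
  intro z
  obtain ⟨x, hx⟩ : ∃ x, ψ (φ x) = ((c : F) * ψ (a : F))⁻¹ * (z - ((c : F) * ψ b + d)) :=
    ⟨φ.symm (ψ.symm (((c : F) * ψ (a : F))⁻¹ * (z - ((c : F) * ψ b + d)))), by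
      rw [RingEquiv.apply_symm_apply, RingEquiv.apply_symm_apply]⟩
  have h1 : τ (σ x) = z := by
    rw [hσ, hτ, map_add, map_mul, hx]
    field_simp
    ring
  have h2 := hk x
  rw [h1, hτ, hσ, map_add, map_mul, ringAut_comm φ ψ x, hx] at h2
  rw [h2, Units.val_mk0]
  ring

theorem comm_mem_transSub {σ τ : Equiv.Perm F} (hσ : σ ∈ affSub F)
    (hτ : τ ∈ affSub F) : ⁅σ, τ⁆ ∈ transSub F := by
  obtain ⟨a, b, hσ⟩ := hσ
  obtain ⟨c, d, hτ⟩ := hτ
  have hk : ∀ x, ⁅σ, τ⁆ (τ (σ x)) = σ (τ x) := by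
    intro x
    have : ⁅σ, τ⁆ * (τ * σ) = σ * τ := by rw [commutatorElement_def]; group
    exact congrArg (fun f : Equiv.Perm F => f x) this
  refine ⟨(a : F) * d + b - ((c : F) * b + d), ?_⟩
  intro z
  have hca : (c : F) * (a : F) ≠ 0 := mul_ne_zero c.ne_zero a.ne_zero
  have h1 : τ (σ (((c : F) * (a : F))⁻¹ * (z - ((c : F) * b + d)))) = z := by
    rw [hσ, hτ]
    field_simp
    ring
  have h2 := hk (((c : F) * (a : F))⁻¹ * (z - ((c : F) * b + d)))
  rw [h1, hτ, hσ] at h2
  rw [h2]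
  field_simp
  ring

theorem transSub_comm {σ τ : Equiv.Perm F} (hσ : σ ∈ transSub F) (hτ : τ ∈ transSub F) :
    σ * τ = τ * σ := by
  obtain ⟨b, hσ⟩ := hσ
  obtain ⟨d, hτ⟩ := hτ
  ext x
  rw [Equiv.Perm.coe_mul, Equiv.Perm.coe_mul, Function.comp_apply, Function.comp_apply, hσ, hτ, hσ,
    hτ]
  ring

end field

/-- a perfect group maps into any subgroup containing the images of all commutators -/
theorem forall_mem_of_perfect {H K : Type*} [Group H] [Group K] (hperf : commutator H = ⊤)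
    (ι : H →* K) (S : Subgroup K) (hS : ∀ g h : H, ⁅ι g, ι h⁆ ∈ S) (g : H) : ι g ∈ S := by
  have h1 : commutator H ≤ S.comap ι := by
    rw [commutator_eq_closure, Subgroup.closure_le]
    rintro _ ⟨g, h, rfl⟩
    rw [SetLike.mem_coe, Subgroup.mem_comap, map_commutatorElement]
    exact hS g h
  rw [hperf] at h1
  exact h1 (Subgroup.mem_top g)

theorem eq_bot_of_perfect_semiaffine {α : Type*} {F : Type*} [Field F] [Finite F]
    (H : Subgroup (Equiv.Perm α)) (f : α ≃ F)
    (h : ∀ g : H, (f.symm.trans ((g : Equiv.Perm α).trans f)) ∈ semiaffineGroup F)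
    (hperf : commutator H = ⊤) : H = ⊥ := by
  let ι : H →* Equiv.Perm F :=
    { toFun := fun g => f.symm.trans ((g : Equiv.Perm α).trans f)
      map_one' := by
        ext x
        simp
      map_mul' := by
        intro g k
        ext x
        simp }
  have hι : ∀ g : H, ι g = f.symm.trans ((g : Equiv.Perm α).trans f) := fun g => rfl
  have h1 : ∀ g : H, ι g ∈ affSub F :=
    forall_mem_of_perfect hperf ι (affSub F) (fun g k => comm_mem_affSub (h g) (h k))
  have h2 : ∀ g : H, ι g ∈ transSub F :=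
    forall_mem_of_perfect hperf ι (transSub F) (fun g k => comm_mem_transSub (h1 g) (h1 k))
  have h3 : ∀ g : H, ι g ∈ (⊥ : Subgroup (Equiv.Perm F)) :=
    forall_mem_of_perfect hperf ι ⊥ (fun g k => by
      rw [Subgroup.mem_bot, commutatorElement_def, transSub_comm (h2 g) (h2 k)]
      group)
  rw [eq_bot_iff]
  intro g hg
  rw [Subgroup.mem_bot]
  have h4 := h3 ⟨g, hg⟩
  rw [Subgroup.mem_bot] at h4
  ext x
  have h5 := congrArg (fun σ : Equiv.Perm F => f.symm (σ (f x))) h4
  simpa [hι] using h5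

theorem commutator_eq_top_of_surjective {G K : Type*} [Group G] [Group K] (f : G →* K)
    (hf : Function.Surjective f) (h : commutator G = ⊤) : commutator K = ⊤ := by
  rw [commutator_def, ← Subgroup.map_top_of_surjective f hf, ← Subgroup.map_commutator,
    ← commutator_def, h]

/-- an element of order `p` acting trivially on the Sylow `p`-subgroups (of order `p`) forces a unique
Sylow `p`-subgroup -/
theorem sylow_eq_of_kernel {G : Type*} [Group G] [Finite G] {p : ℕ} [Fact p.Prime]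
    (P Q : Sylow p G) (hP : Nat.card P = p) (x : G) (hx : orderOf x = p)
    (hxP : x ∈ Subgroup.normalizer ((P : Subgroup G) : Set G))
    (hxQ : x ∈ Subgroup.normalizer ((Q : Subgroup G) : Set G)) : P = Q := by
  have hpg : IsPGroup p (Subgroup.zpowers x) := by
    apply IsPGroup.of_card (n := 1)
    rw [Nat.card_zpowers, hx, pow_one]
  have hmem : ∀ R : Sylow p G, x ∈ Subgroup.normalizer ((R : Subgroup G) : Set G) →
      Nat.card R = p → (R : Subgroup G) = Subgroup.zpowers x := by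
    intro R hxR hR
    have h1 : Subgroup.zpowers x ⊓ Subgroup.normalizer ((R : Subgroup G) : Set G) =
        Subgroup.zpowers x ⊓ (R : Subgroup G) := hpg.inf_normalizer_sylow R
    have h2 : x ∈ Subgroup.zpowers x ⊓ Subgroup.normalizer ((R : Subgroup G) : Set G) :=
      ⟨Subgroup.mem_zpowers x, hxR⟩
    rw [h1] at h2
    have h3 : Subgroup.zpowers x ≤ (R : Subgroup G) := by
      rw [Subgroup.zpowers_le]
      exact h2.2
    exact (Subgroup.eq_of_le_of_card_ge h3 (by rw [Nat.card_zpowers, hx, hR])).symm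
  have hQ : Nat.card Q = p :=
    ((Sylow.card_eq_multiplicity Q).trans (Sylow.card_eq_multiplicity P).symm).trans hP
  apply Sylow.ext
  rw [hmem P hxP hP, hmem Q hxQ hQ]

theorem endgame_n1 {G : Type*} [Group G] [Finite G] {p e : ℕ} [Fact p.Prime]
    {P : Sylow p G} (S : Setting p e 1 P) (he : 2 * e = p - 1) :
    Nonempty (G ≃* Matrix.ProjectiveSpecialLinearGroup (Fin 2) (ZMod p)) := by
  classical
  have hp : p.Prime := Fact.out
  have := Fintype.ofFinite (Sylow p G)
  obtain ⟨φ, hφ⟩ : ∃ φ : G →* Equiv.Perm (Sylow p G), φ = MulAction.toPermHom G (Sylow p G) :=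
    ⟨_, rfl⟩
  have hφa : ∀ (g : G) (Q : Sylow p G), φ g Q = g • Q := by
    intro g Q
    rw [hφ]
    rfl
  have hcardS : Nat.card (Sylow p G) = p + 1 := by
    rw [S.hn]; ring
  -- the kernel is trivial
  have hker : φ.ker = ⊥ := by
    apply S.hcore φ.ker (MonoidHom.normal_ker φ)
    intro hdvd
    obtain ⟨⟨x, hxK⟩, hx⟩ := exists_prime_orderOf_dvd_card' (G := φ.ker) p hdvd
    have hx' : orderOf x = p := by
      rw [← hx]
      exact (Subgroup.orderOf_mk x hxK).symm
    have hxN : ∀ Q : Sylow p G, x ∈ Subgroup.normalizer ((Q : Subgroup G) : Set G) := by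
      intro Q
      have h1 : x • Q = Q ↔ x ∈ Subgroup.normalizer ((Q : Subgroup G) : Set G) :=
        Sylow.smul_eq_iff_mem_normalizer
      rw [← h1, ← hφa, MonoidHom.mem_ker.1 hxK]
      rfl
    have hnt : Nontrivial (Sylow p G) := by
      rw [← Finite.one_lt_card_iff_nontrivial, hcardS]
      have := hp.two_le
      omega
    obtain ⟨Q, hQ⟩ := exists_ne P
    exact hQ (sylow_eq_of_kernel P Q S.hP x hx' (hxN P) (hxN Q)).symm
  have hinj : Function.Injective φ := (MonoidHom.ker_eq_bot_iff φ).1 hker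
  have ψ : G ≃* φ.range := MonoidHom.ofInjective hinj
  -- transitivity
  have htr : MulAction.IsPretransitive φ.range (Sylow p G) := by
    constructor
    intro Q R
    obtain ⟨g, hg⟩ := MulAction.exists_smul_eq G Q R
    refine ⟨⟨φ g, g, rfl⟩, ?_⟩
    show φ g Q = R
    rw [hφa, hg]
  -- the order
  have hcardG : Nat.card G = (p + 1) * p * e := by
    have h1 : Nat.card (Sylow p G) = (NP P).index := Sylow.card_eq_index_normalizer P
    rw [← Subgroup.index_mul_card (NP P), ← h1, S.hN, hcardS, mul_assoc]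
  have hcardR : Nat.card φ.range = (p + 1) * p * e := by
    rw [← hcardG]
    exact (Nat.card_congr ψ.toEquiv).symm
  have hα : Fintype.card (Sylow p G) = p + 1 := by
    rw [← Nat.card_eq_fintype_card, hcardS]
  have hep : e < p := by
    have := hp.two_le
    omega
  rcases Cfsg.Agent.S0732.result hp hα φ.range hcardR hep with ⟨h1, -⟩ | ⟨-, ⟨ι⟩⟩ | ⟨q, -, -, -, f, hf⟩
  · exfalso
    have := hp.two_le
    have := S.he2
    omega
  · exact ⟨ψ.trans ι⟩
  · exfalso
    have hperf : commutator φ.range = ⊤ :=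
      commutator_eq_top_of_surjective ψ.toMonoidHom ψ.surjective S.hperf
    have hbot := eq_bot_of_perfect_semiaffine φ.range f hf hperf
    rw [hbot, Subgroup.card_bot] at hcardR
    have := hp.two_le
    have h1 : 1 ≤ e := by have := S.he2; omega
    have h2 : 2 * 1 ≤ (p + 1) * p * e :=
      Nat.mul_le_mul (by nlinarith) h1
    omega

end Cfsg.Agent.Lib.Helper63_B43_N1
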