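import Mathlib
import Cfsg.Prelude.Def_Characters
import Cfsg.Prelude.Def_Blocks
import Cfsg.Agent.Lib.Helper3_CharComplete
import Cfsg.Agent.Lib.Helper80_CharBasic
import Cfsg.Agent.Lib.Helper75_CharArith
import Cfsg.Agent.Lib.Helper75_Induced
import Cfsg.Agent.Lib.Helper16_B43Defs
import Cfsg.Agent.Lib.Helper16_B43Arith
import Cfsg.Agent.Lib.Helper16_B43Data
import Cfsg.Agent.Lib.Helper52_B43_ARITH
import Cfsg.Agent.Lib.Helper17_B43_LAGa
import Cfsg.Agent.Lib.Helper55_B43_LAGb
import Cfsg.Agent.Lib.Helper53_B43_INV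
import Cfsg.Agent.Lib.Helper58_B43_FS
import Cfsg.Agent.Lib.Helper58_B43_EVEN
import Cfsg.Agent.Lib.Helper17_B43_A
import Cfsg.Agent.Lib.Helper63_B43_N1
import Cfsg.Agent.Lib.Helper25_B43_E2a
import Cfsg.Agent.Lib.Helper25_B43_E2b
import Cfsg.Agent.Lib.Helper20_B43_E2c
import Cfsg.Agent.Lib.Helper63_B43_E2d

/-!
# Brauer 1943 (S0996): the assembly (helper16)

`main`: in the setting `Setting p e n P` (Sylow subgroup of prime order, self-centralizing,
`|N(P)| = p e`, `1 + n p` Sylow subgroups with `2 n ≤ p + 1`, `G` perfect, no normal `p'`-subgroups)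
the group is `PSL₂(p)` or `PSL₂(2^a)` with `p = 2^a + 1`, and `5 ≤ p`.
-/

set_option autoImplicit false

namespace Cfsg.Agent.Lib.Helper16_B43Main

open Cfsg Cfsg.Agent.Lib.Helper16_B43Defs Cfsg.Agent.Lib.Helper3_CharComplete
  Cfsg.Agent.Lib.Helper80_CharBasic Cfsg.Agent.Lib.Helper16_B43Arith
  Cfsg.Agent.Lib.Helper16_B43Data
open scoped ComplexConjugate

variable {G : Type*} [Group G] [Fintype G] {p e n : ℕ} [hp : Fact p.Prime] {P : Sylow p G}

theorem main (S : Setting p e n P) :
    5 ≤ p ∧
    (Nonempty (G ≃* Matrix.ProjectiveSpecialLinearGroup (Fin 2) (ZMod p)) ∨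
    ∃ (a : ℕ) (F : Type) (_ : Field F) (_ : Fintype F), p = 2 ^ a + 1 ∧ Fintype.card F = 2 ^ a ∧
      Nonempty (G ≃* Matrix.ProjectiveSpecialLinearGroup (Fin 2) F)) := by
  classical
  have S0 : Setting0 p e n P := S.toSetting0
  have hpp : p.Prime := hp.out
  obtain ⟨D, hD1, hDk, hDdeg, hDm1, hDc, hDval, hDconj⟩ := exists_bdata S0
  obtain ⟨hrank, hshape⟩ := shape hpp S0.hn1 S0.hnp D
  have het := D.het
  have he2 := S0.he2
  have hn1 := S0.hn1
  -- the rank in concrete form
  have hrank' : classInner (indFun (NP P) (fun _ => (1 : ℂ))) (indFun (NP P) (fun _ => (1 : ℂ))) =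
      ((n + 1 : ℕ) : ℂ) := by
    have hcf := Cfsg.Agent.Lib.Helper75_Induced.isClassFunction_indFun (NP P)
      (fun _ : ↥(NP P) => (1 : ℂ))
    rw [Cfsg.Agent.Lib.Helper75_CharArith.classInner_self_eq_sum hcf]
    have hfn : (LinN.one P).fn = fun _ : ↥(NP P) => (1 : ℂ) := by
      funext x
      simp [LinN.fn, LinN.one]
    have : ∀ χ : IrrCharacter G,
        classInner (indFun (NP P) (fun _ : ↥(NP P) => (1 : ℂ))) (χ : G → ℂ) =
        (D.c D.k1 χ : ℂ) := by
      intro χ
      rw [hDc, hDk, hfn]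
    simp_rw [this, Complex.conj_natCast]
    rw [← hrank]
    push_cast
    refine Finset.sum_congr rfl fun χ _ => by ring
  have h2 : TwoPt P e := Cfsg.Agent.Lib.Helper17_B43_LAGa.twoPt_of_rank S0 hrank'
  have hp2 : 2 ≤ p := hpp.two_le
  have hYne : 0 < (p - 1) / e := by
    rcases Nat.eq_zero_or_pos ((p - 1) / e) with h | h
    · rw [h, mul_zero] at het; omega
    · exact h
  have hnot4 : p ≠ 4 := by
    rintro rfl
    exact absurd hpp (by norm_num)
  rcases hshape with ⟨hε, hdvd, hY⟩ | ⟨hε, ht1, hdvd⟩ |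
    ⟨hε, ht2, a0, s, ha0, hna, hea, hYB, hXp, hXm, hXmc, hsum, hL2⟩
  · -- Shape A
    have hYcard := D.hYcard
    obtain ⟨θ, hθ⟩ : D.Y.Nonempty := Finset.card_pos.mp (by rw [hYcard]; exact hYne)
    obtain ⟨hdegθ, hm1θ⟩ := hY θ hθ
    have hpav : pavg P (θ : G → ℂ) = 0 := by rw [← hDm1, hm1θ, Nat.cast_zero]
    have hb := Cfsg.Agent.Lib.Helper17_B43_A.degree_bound S θ hpav
    rw [← hDdeg, hdegθ] at hb
    -- p ≤ 2 e + 1, e * t = p - 1, (n+1) ∣ e - 1
    obtain ⟨k, hk⟩ := hdvd
    have hk1 : 1 ≤ k := by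
      rcases Nat.eq_zero_or_pos k with h | h
      · rw [h, mul_zero] at hk; omega
      · exact h
    have he3 : 3 ≤ e := by
      have : 2 ≤ (n + 1) * k := by nlinarith
      omega
    have hp5 : 5 ≤ p := by
      have : 3 ≤ e * ((p - 1) / e) := by nlinarith
      omega
    have hlag := Cfsg.Agent.Lib.Helper55_B43_LAGb.dvd_of_twoPt S0 h2 hp5
    rw [← het] at hlag
    have hn1' : n = 1 ∧ 2 * e = p - 1 := by
      have ht2 : (p - 1) / e ≤ 2 := by
        by_contra hcon
        push Not at hcon
        have : e * 3 ≤ e * ((p - 1) / e) := Nat.mul_le_mul_left e hcon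
        omega
      have hde : (n + 1) ∣ e - 1 := ⟨k, hk⟩
      interval_cases ht : (p - 1) / e
      · -- t = 1
        exfalso
        rw [mul_one] at hlag
        have h3 : (n + 1) ∣ e - (e - 1) := Nat.dvd_sub hlag hde
        have h4 : e - (e - 1) = 1 := by omega
        rw [h4] at h3
        have := Nat.le_of_dvd one_pos h3
        omega
      · -- t = 2
        have h3 : (n + 1) ∣ e * 2 - 2 * (e - 1) := Nat.dvd_sub hlag (Dvd.dvd.mul_left hde 2)
        have h4 : e * 2 - 2 * (e - 1) = 2 := by omega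
        rw [h4] at h3
        have := Nat.le_of_dvd two_pos h3
        refine ⟨by omega, by omega⟩
    obtain ⟨rfl, he⟩ := hn1'
    exact ⟨hp5, Or.inl (Cfsg.Agent.Lib.Helper63_B43_N1.endgame_n1 S he)⟩
  · -- t = 1
    exfalso
    rw [ht1, mul_one] at het
    obtain ⟨k, hk⟩ := hdvd
    have hk1 : 1 ≤ k := by
      rcases Nat.eq_zero_or_pos k with h | h
      · rw [h, mul_zero] at hk; omega
      · exact h
    have hp5 : 5 ≤ p := by
      have : 2 ≤ (n + 1) * k := by nlinarith
      omega
    have hlag := Cfsg.Agent.Lib.Helper55_B43_LAGb.dvd_of_twoPt S0 h2 hp5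
    have h3 : (n + 1) ∣ (p - 1) - (p - 2) := Nat.dvd_sub hlag ⟨k, hk⟩
    have h4 : (p - 1) - (p - 2) = 1 := by omega
    rw [h4] at h3
    have := Nat.le_of_dvd one_pos h3
    omega
  · -- Shape B
    have hp5 : 5 ≤ p := by
      have : 4 ≤ e * ((p - 1) / e) := by nlinarith
      omega
    refine ⟨hp5, ?_⟩
    have hlag := Cfsg.Agent.Lib.Helper55_B43_LAGb.dvd_of_twoPt S0 h2 hp5
    have ha01 : a0 = 1 := by
      rw [← het, hna] at hlag
      have h3 : a0 ∣ e := by
        have h4 : (p - 1) / e * a0 ∣ (p - 1) / e * e := by rwa [mul_comm e] at hlag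
        exact Nat.dvd_of_mul_dvd_mul_left hYne h4
      have h5 : a0 ∣ e - a0 * (s * ((p - 1) / e) + 1) := Nat.dvd_sub h3 (Dvd.intro _ rfl)
      have h6 : e - a0 * (s * ((p - 1) / e) + 1) = 1 := by omega
      rw [h6] at h5
      exact Nat.dvd_one.mp h5
    subst ha01
    rw [mul_one] at hna
    rw [one_mul] at hea
    by_cases ht : (p - 1) / e = 2
    · have hn1' : n = 1 ∧ 2 * e = p - 1 := by
        rw [ht] at hna het
        omega
      obtain ⟨rfl, he⟩ := hn1'
      exact Or.inl (Cfsg.Agent.Lib.Helper63_B43_N1.endgame_n1 S he)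
    · have ht3 : 3 ≤ (p - 1) / e := by omega
      -- the unique l0
      obtain ⟨l0, hl0⟩ := Finset.card_eq_one.mp hL2
      have hl0mem : l0 ∈ Finset.univ.filter
          (fun l : LinN P => l ≠ D.k1 ∧ ∃ θ ∈ D.Y, D.c l θ ≠ 0) := by
        rw [hl0]; exact Finset.mem_singleton_self _
      have hl0ne : l0 ≠ LinN.one P := by
        rw [← hDk]; exact (Finset.mem_filter.mp hl0mem).2.1
      have hev : Even e := by
        refine Cfsg.Agent.Lib.Helper58_B43_EVEN.even_of_unique S0 D.Y (hDconj ht2) l0 hl0ne ?_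
        intro l hl
        constructor
        · rintro ⟨θ, hθ, hne⟩
          have : l ∈ Finset.univ.filter
              (fun l : LinN P => l ≠ D.k1 ∧ ∃ θ ∈ D.Y, D.c l θ ≠ 0) := by
            refine Finset.mem_filter.mpr ⟨Finset.mem_univ _, by rw [hDk]; exact hl, θ, hθ, ?_⟩
            intro h0
            apply hne
            rw [← hDc, h0, Nat.cast_zero]
          rw [hl0] at this
          exact Finset.mem_singleton.mp this
        · rintro rfl
          obtain ⟨θ, hθ, hne⟩ := (Finset.mem_filter.mp hl0mem).2.2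
          refine ⟨θ, hθ, ?_⟩
          rw [← hDc]
          exact_mod_cast hne
      obtain ⟨j, hjN, hj, hjinv, hjC⟩ := Cfsg.Agent.Lib.Helper53_B43_INV.exists_involution S0 h2 hev
      have hfs := Cfsg.Agent.Lib.Helper58_B43_FS.fs_bound j hj
      have hcardG := Cfsg.Agent.Lib.Helper55_B43_LAGb.card_G S0
      have hpe : p = (p - 1) / e * e + 1 := by rw [mul_comm, het]; omega
      have hs : s = 0 := by
        refine Cfsg.Agent.Lib.Helper52_B43_ARITH.fs_arith ht3 hea hpe hna ?_
        refine le_trans ?_ hsum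
        have hdiv : Nat.card G / Nat.card (Subgroup.centralizer ({j} : Set G)) = p * (p - e) := by
          rw [hcardG, hjC]
          have hid : p * e * (1 + n * p) = e * (n + 1) * (p * (p - e)) := by
            have h7 : 1 + n * p = (n + 1) * (p - e) := by
              have h8 : p - e = n * e + 1 := by
                have : p = (n + 1) * e + 1 := by rw [hna]; exact hpe
                rw [this]
                have : (n + 1) * e + 1 - e = n * e + 1 := by
                  rw [Nat.succ_mul]; omega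
                exact this
              rw [h8]
              have : p = (n + 1) * e + 1 := by rw [hna]; exact hpe
              rw [this]
              ring
            rw [h7]; ring
          rw [hid]
          have hpos : 0 < e * (n + 1) := by positivity
          exact Nat.mul_div_cancel_left _ hpos
        rw [hdiv] at hfs
        refine le_trans hfs (le_of_eq ?_)
        exact Finset.sum_congr rfl fun χ _ => (hDdeg χ).symm
      subst hs
      have he2' : e = 2 := by omega
      subst he2'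
      -- the character χ₂
      rw [Nat.sub_zero] at hXmc
      obtain ⟨χ₂, hχ₂⟩ := Finset.card_eq_one.mp hXmc
      have hχ₂mem : χ₂ ∈ D.X.filter (fun χ => D.δ χ = -1) := by
        rw [hχ₂]; exact Finset.mem_singleton_self _
      obtain ⟨hχ₂X, hχ₂δ⟩ := Finset.mem_filter.mp hχ₂mem
      have hdegχ₂ : charDegree (χ₂ : G → ℂ) = p - 1 := by
        rw [← hDdeg]; exact hXm χ₂ hχ₂X hχ₂δ
      have hnp' : 2 * n + 3 = p := by omega
      have huniq : ∀ ψ : IrrCharacter G, charDegree (ψ : G → ℂ) = p - 1 → ψ = χ₂ := by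
        intro ψ hψ
        rw [← hDdeg] at hψ
        by_cases hX : ψ ∈ D.X
        · rcases D.hδ ψ hX with hδ | hδ
          · exfalso
            by_cases h1 : ψ = D.one
            · rw [h1, D.hdegone] at hψ; omega
            · have := hXp ψ hX h1 hδ
              rw [this] at hψ
              nlinarith
          · have : ψ ∈ D.X.filter (fun χ => D.δ χ = -1) := Finset.mem_filter.mpr ⟨hX, hδ⟩
            rw [hχ₂] at this
            exact Finset.mem_singleton.mp this
        · exfalso
          by_cases hY : ψ ∈ D.Y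
          · have := (hYB ψ hY).2
            omega
          · have := D.hdegZ ψ hX hY
            rw [hψ] at this
            have h9 : p ∣ p - 1 := ⟨D.m1 ψ, this⟩
            have := Nat.le_of_dvd (by omega) h9
            omega
      have hval : ∀ x ∈ (P : Subgroup G), x ≠ 1 → (χ₂ : G → ℂ) x = -1 := by
        intro x hx hx1
        rw [hDval χ₂ hχ₂X x hx hx1, hχ₂δ]
        push_cast; ring
      obtain ⟨h01, hcount⟩ := Cfsg.Agent.Lib.Helper25_B43_E2a.e2_values S0 hnp' χ₂ hdegχ₂ huniq hval
      have hjC' : Nat.card (Subgroup.centralizer ({j} : Set G)) = p - 1 := by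
        rw [hjC]; omega
      have hconj := Cfsg.Agent.Lib.Helper25_B43_E2b.e2_conj S0 hnp' χ₂ hdegχ₂ hval h01 hcount j hjN hj
        hjinv hjC'
      have hG : Nat.card G = p * (p - 1) * (p - 2) := by
        rw [hcardG]
        have h7 : p = 2 * n + 3 := hnp'.symm
        rw [h7]
        have : 2 * n + 3 - 1 = 2 * n + 2 := by omega
        rw [this]
        have : 2 * n + 3 - 2 = 2 * n + 1 := by omega
        rw [this]
        ring
      obtain ⟨H, hH⟩ := Cfsg.Agent.Lib.Helper20_B43_E2c.exists_index j hj p (by omega) hjC' hG hconj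
      exact Or.inr (Cfsg.Agent.Lib.Helper63_B43_E2d.endgame_e2 S H hH)

end Cfsg.Agent.Lib.Helper16_B43Main
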