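import Mathlib
import Cfsg.Agent.Lib.Helper16_FrobQuot
import Cfsg.Agent.Lib.Helper16_NilpAb

/-!
# Group theory for Peterfalvi (6.5) (helper16)

`K, M, H₁` normal subgroups of the finite group `L`, `M ≤ K`, `H₁ = [K,K] ⊔ M`, `K / M` nilpotent.

* `exists_prime_pow_mem`: if no normal subgroup of `L` lies strictly between `H₁` and `K`, then
  `K / H₁` has prime exponent;
* `le_comap_commutator`: `H₁` maps into the derived subgroup of `K / M`;
* `prime_pow_of_no_intermediate`: then `|K : M|` is a prime power;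
* `commutator_le_of_prime_relIndex`: if `|K : H₁|` is prime then `[K,K] ≤ M`.
-/

set_option autoImplicit false

namespace Cfsg.Agent.Lib.Helper16_CohChief

open Cfsg.Agent.Lib.Helper16_FrobQuot Cfsg.Agent.Lib.Helper16_NilpAb
open scoped commutatorElement

section Chief

variable {L : Type*} [Group L] [Finite L]

/-- If no normal subgroup of `L` lies strictly between `H₁` and `K` (and `K / H₁` is abelian), then
`K / H₁` has prime exponent. -/
theorem exists_prime_pow_mem (K H₁ : Subgroup L) [hKn : K.Normal] [hH₁n : H₁.Normal]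
    (hcomm : ⁅K, K⁆ ≤ H₁) (hH₁K : H₁ < K)
    (hno : ¬ ∃ N : Subgroup L, N.Normal ∧ H₁ < N ∧ N < K) :
    ∃ p : ℕ, p.Prime ∧ ∀ k ∈ K, k ^ p ∈ H₁ := by
  classical
  set π : L →* L ⧸ H₁ := QuotientGroup.mk' H₁ with hπ
  have hπ1 : ∀ x : L, π x = 1 ↔ x ∈ H₁ := fun x => QuotientGroup.eq_one_iff x
  have hcard : Nat.card (K.map π) = H₁.relIndex K := card_map_mk H₁ K
  have hne1 : H₁.relIndex K ≠ 1 := fun h =>
    (not_le_of_gt hH₁K) (Subgroup.relIndex_eq_one.mp h)
  set p := (H₁.relIndex K).minFac with hp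
  have hpp : p.Prime := Nat.minFac_prime hne1
  have : Fact p.Prime := ⟨hpp⟩
  have hpdvd : p ∣ Nat.card (K.map π) := by
    rw [hcard]; exact Nat.minFac_dvd _
  obtain ⟨x, hx⟩ := exists_prime_orderOf_dvd_card' p hpdvd
  obtain ⟨k₀, hk₀K, hk₀x⟩ := x.2
  have hcommute : ∀ a ∈ K, ∀ b ∈ K, Commute (π a) (π b) := by
    intro a ha b hb
    have h1 : ⁅a, b⁆ ∈ H₁ := hcomm (Subgroup.commutator_mem_commutator ha hb)
    have h2 := (hπ1 _).mpr h1
    rw [commutatorElement_def, map_mul, map_mul, map_mul, map_inv, map_inv] at h2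
    have h3 : π a * π b = π b * π a := by
      have h4 := congrArg (fun t => t * π b * π a) h2
      simpa [mul_assoc] using h4
    exact h3
  let N : Subgroup L :=
    { carrier := {k | k ∈ K ∧ (π k) ^ p = 1}
      mul_mem' := by
        rintro a b ⟨ha, ha'⟩ ⟨hb, hb'⟩
        refine ⟨K.mul_mem ha hb, ?_⟩
        rw [map_mul, (hcommute a ha b hb).mul_pow, ha', hb', one_mul]
      one_mem' := ⟨K.one_mem, by rw [map_one, one_pow]⟩
      inv_mem' := by
        rintro a ⟨ha, ha'⟩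
        exact ⟨K.inv_mem ha, by rw [map_inv, inv_pow, ha', inv_one]⟩ }
  have hNmem : ∀ k, k ∈ N ↔ k ∈ K ∧ (π k) ^ p = 1 := fun k => Iff.rfl
  have hNn : N.Normal := by
    constructor
    intro n hn g
    rw [hNmem] at hn ⊢
    refine ⟨hKn.conj_mem n hn.1 g, ?_⟩
    rw [map_mul, map_mul, map_inv, conj_pow, hn.2, mul_one, mul_inv_cancel]
  have hH₁N : H₁ ≤ N := by
    intro h hh
    rw [hNmem]
    exact ⟨hH₁K.le hh, by rw [(hπ1 h).mpr hh, one_pow]⟩
  have hNK : N ≤ K := fun k hk => ((hNmem k).mp hk).1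
  have hk₀N : k₀ ∈ N := by
    rw [hNmem]
    refine ⟨hk₀K, ?_⟩
    rw [hk₀x]
    have h1 : x ^ p = 1 := by rw [← hx]; exact pow_orderOf_eq_one x
    have h2 := congrArg (Subtype.val) h1
    simpa using h2
  have hk₀H₁ : k₀ ∉ H₁ := by
    intro h
    have h1 : (x : L ⧸ H₁) = 1 := by rw [← hk₀x]; exact (hπ1 k₀).mpr h
    have h2 : x = 1 := Subtype.ext h1
    rw [h2, orderOf_one] at hx
    exact hpp.one_lt.ne hx
  have hlt : H₁ < N := lt_of_le_of_ne hH₁N (fun h => hk₀H₁ (h ▸ hk₀N))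
  have hNeq : N = K := by
    by_contra hne
    exact hno ⟨N, hNn, hlt, lt_of_le_of_ne hNK hne⟩
  refine ⟨p, hpp, fun k hk => ?_⟩
  have hkN : k ∈ N := by rw [hNeq]; exact hk
  have h1 := ((hNmem k).mp hkN).2
  rw [← map_pow] at h1
  exact (hπ1 _).mp h1

end Chief

section Quot

variable {L : Type*} [Group L]

/-- `[K,K] ⊔ M` maps into the derived subgroup of `K / M`. -/
theorem le_comap_commutator (K M : Subgroup L) (hMK : M ≤ K) [(M.subgroupOf K).Normal] :
    (⁅K, K⁆ ⊔ M).subgroupOf K ≤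
      (commutator (↥K ⧸ M.subgroupOf K)).comap (QuotientGroup.mk' (M.subgroupOf K)) := by
  set π := QuotientGroup.mk' (M.subgroupOf K) with hπ
  set W : Subgroup L := ((commutator (↥K ⧸ M.subgroupOf K)).comap π).map K.subtype with hW
  have h1 : ⁅K, K⁆ ≤ W := by
    rw [Subgroup.commutator_le]
    intro a ha b hb
    refine ⟨⁅(⟨a, ha⟩ : K), ⟨b, hb⟩⁆, ?_, rfl⟩
    rw [SetLike.mem_coe, Subgroup.mem_comap, map_commutatorElement, commutator_def]
    exact Subgroup.commutator_mem_commutator (Subgroup.mem_top _) (Subgroup.mem_top _)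
  have h2 : M ≤ W := by
    intro m hm
    refine ⟨⟨m, hMK hm⟩, ?_, rfl⟩
    rw [SetLike.mem_coe, Subgroup.mem_comap]
    have : π ⟨m, hMK hm⟩ = 1 :=
      (QuotientGroup.eq_one_iff _).mpr (Subgroup.mem_subgroupOf.mpr hm)
    rw [this]
    exact Subgroup.one_mem _
  intro k hk
  rw [Subgroup.mem_subgroupOf] at hk
  have hk'' : (k : L) ∈ W := (sup_le h1 h2) hk
  obtain ⟨k', hk'mem, hk'eq⟩ := hk''
  have : k' = k := Subtype.ext hk'eq
  rw [← this]
  exact hk'mem

end Quot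

section Cases

variable {L : Type*} [Group L] [Finite L]

/-- If no normal subgroup lies strictly between `H₁ = [K,K] ⊔ M` and `K`, and `K / M` is nilpotent,
then `|K : M|` is a prime power. -/
theorem prime_pow_of_no_intermediate (K M : Subgroup L) [K.Normal] [M.Normal] (hMK : M ≤ K)
    [(M.subgroupOf K).Normal] (hnil : Group.IsNilpotent (↥K ⧸ M.subgroupOf K))
    (hH₁K : ⁅K, K⁆ ⊔ M < K)
    (hno : ¬ ∃ N : Subgroup L, N.Normal ∧ ⁅K, K⁆ ⊔ M < N ∧ N < K) :
    ∃ p m : ℕ, p.Prime ∧ M.relIndex K = p ^ m := by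
  obtain ⟨p, hpp, hpow⟩ := exists_prime_pow_mem K (⁅K, K⁆ ⊔ M) le_sup_left hH₁K hno
  have : Fact p.Prime := ⟨hpp⟩
  have hP : IsPGroup p (↥K ⧸ M.subgroupOf K) := by
    apply isPGroup_of_abelianization p
    intro q
    obtain ⟨k, rfl⟩ := QuotientGroup.mk_surjective q
    refine ⟨1, ?_⟩
    rw [pow_one]
    have h1 : k ^ p ∈ (⁅K, K⁆ ⊔ M).subgroupOf K := by
      rw [Subgroup.mem_subgroupOf, Subgroup.coe_pow]
      exact hpow k k.2
    have h2 := le_comap_commutator K M hMK h1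
    rw [Subgroup.mem_comap] at h2
    simpa using h2
  obtain ⟨m, hm⟩ := IsPGroup.iff_card.mp hP
  exact ⟨p, m, hpp, hm⟩

/-- If `|K : M| = p ^ m`, `|L : K|` divides `p - 1`, `|L|` is odd and
`|K : H₁| ≤ 4 |L:K|² + 1`, then `[K,K] ≤ M`. -/
theorem commutator_le_of_prime_pow (hodd : Odd (Nat.card L)) (K M : Subgroup L) [K.Normal]
    [M.Normal] (hMK : M ≤ K) [(M.subgroupOf K).Normal]
    (hnil : Group.IsNilpotent (↥K ⧸ M.subgroupOf K)) (hH₁K : ⁅K, K⁆ ⊔ M < K)
    (hbound : (⁅K, K⁆ ⊔ M).relIndex K ≤ 4 * K.index ^ 2 + 1) {p m : ℕ} (hp : p.Prime)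
    (hpm : M.relIndex K = p ^ m) (hdvd : K.index ∣ p - 1) : ⁅K, K⁆ ≤ M := by
  classical
  have : Fact p.Prime := ⟨hp⟩
  set H₁ : Subgroup L := ⁅K, K⁆ ⊔ M with hH₁
  have hr : H₁.relIndex K ∣ p ^ m := by
    rw [← hpm]
    exact Subgroup.relIndex_dvd_of_le_left K (le_sup_right : M ≤ H₁)
  obtain ⟨a, -, ha⟩ := (Nat.dvd_prime_pow hp).mp hr
  have hne1 : H₁.relIndex K ≠ 1 := fun h =>
    (not_le_of_gt hH₁K) (Subgroup.relIndex_eq_one.mp h)
  have ha1 : 1 ≤ a := by
    rcases Nat.eq_zero_or_pos a with h0 | h0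
    · rw [h0, pow_zero] at ha; exact absurd ha hne1
    · exact h0
  have hdvdL : H₁.relIndex K ∣ Nat.card L :=
    (Subgroup.relIndex_dvd_card H₁ K).trans (Subgroup.card_subgroup_dvd_card K)
  have hpodd : Odd p := by
    apply Odd.of_dvd_nat hodd
    refine dvd_trans ?_ hdvdL
    rw [ha]
    exact dvd_pow_self p (by omega)
  have hodde : Odd K.index := Odd.of_dvd_nat hodd (Subgroup.index_dvd_card K)
  have hple := two_mul_add_one_le hpodd hodde hdvd hp.one_lt
  have ha' : a = 1 := by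
    by_contra hne
    have ha2 : 2 ≤ a := by omega
    have h1 : p ^ 2 ≤ p ^ a := Nat.pow_le_pow_right hp.pos ha2
    have h2 : (2 * K.index + 1) ^ 2 ≤ p ^ 2 := Nat.pow_le_pow_left hple 2
    rw [ha] at hbound
    have he1 : 1 ≤ K.index := Nat.one_le_iff_ne_zero.mpr Subgroup.index_ne_zero_of_finite
    have h3 : (2 * K.index + 1) ^ 2 = 4 * K.index ^ 2 + 4 * K.index + 1 := by ring
    linarith
  rw [ha', pow_one] at ha
  -- `K / H₁` is cyclic of order `p`
  have hcyc : IsCyclic (↥K ⧸ H₁.subgroupOf K) := isCyclic_of_prime_card (p := p) ha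
  set φ := QuotientGroup.map (H₁.subgroupOf K) (commutator (↥K ⧸ M.subgroupOf K))
    (QuotientGroup.mk' (M.subgroupOf K)) (le_comap_commutator K M hMK) with hφ
  have hφs : Function.Surjective φ := by
    intro y
    obtain ⟨q, rfl⟩ := QuotientGroup.mk_surjective y
    obtain ⟨k, rfl⟩ := QuotientGroup.mk_surjective q
    exact ⟨QuotientGroup.mk k, rfl⟩
  have hcyc2 : IsCyclic (Abelianization (↥K ⧸ M.subgroupOf K)) := isCyclic_of_surjective φ hφs
  have hcomm := comm_of_isCyclic_abelianization (↥K ⧸ M.subgroupOf K) hcyc2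
  rw [Subgroup.commutator_le]
  intro x hx y hy
  have h1 := hcomm (QuotientGroup.mk ⟨x, hx⟩) (QuotientGroup.mk ⟨y, hy⟩)
  have h2 : (QuotientGroup.mk (⁅(⟨x, hx⟩ : K), ⟨y, hy⟩⁆) : ↥K ⧸ M.subgroupOf K) = 1 := by
    rw [commutatorElement_def, QuotientGroup.mk_mul, QuotientGroup.mk_mul, QuotientGroup.mk_mul,
      QuotientGroup.mk_inv, QuotientGroup.mk_inv, h1]
    group
  have h3 := (QuotientGroup.eq_one_iff _).mp h2
  rw [Subgroup.mem_subgroupOf] at h3
  exact h3

end Cases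

end Cfsg.Agent.Lib.Helper16_CohChief
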