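import Mathlib
import Cfsg.Prelude.Def_Characters
import Cfsg.Prelude.Def_OddOrderChar
import Cfsg.Agent.Lib.Helper16_CohCount
import Cfsg.Agent.Lib.Helper3_CharCenter
import Cfsg.Agent.Lib.Helper3_CharEigen
import Cfsg.Agent.Lib.Helper15_QuasiElem
import Cfsg.Agent.Lib.Helper75_Clifford
import Cfsg.Agent.Lib.Helper77_QuotBlocks

/-!
# Coherence: the degree bound (helper16)

* `deg_sq_le`: for `Z ≤ C ≤ G` with `Z` central in `C`, every irreducible character `χ` of `G`
  has `χ(1)² ≤ |G : C|² |C : Z|`;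
* `deg_sq_le_of_ker`: the same modulo a normal subgroup in the kernel of `χ`.
-/

set_option autoImplicit false

namespace Cfsg.Agent.Lib.Helper16_CohDeg

open scoped ComplexConjugate
open Cfsg.Agent.Lib.Helper3_CharOrtho Cfsg.Agent.Lib.Helper75_CharArith
  Cfsg.Agent.Lib.Helper17_CohSys
  Cfsg.Agent.Lib.Helper75_Induced Cfsg.Agent.Lib.Helper3_CharBridge
  Cfsg.Agent.Lib.Helper3_CharComplete Cfsg.Agent.Lib.Helper16_CohBasic
  Cfsg.Agent.Lib.Helper16_CohCount

section Central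

variable {G : Type*} [Group G] [Fintype G]

/-- An irreducible character has absolute value `χ(1)` on the centre. -/
theorem norm_irr_of_mem_center {χ : G → ℂ} (hχ : Cfsg.IsIrrCharacter G χ) {z : G}
    (hz : z ∈ Subgroup.center G) (k : ℕ) (hk : χ 1 = k) : ‖χ z‖ = k := by
  obtain ⟨n, ρ, hρ, rfl⟩ := hχ
  have := hρ
  rw [Representation.char_one] at hk
  have hk' : Module.finrank ℂ (Fin n → ℂ) = k := by exact_mod_cast hk
  rw [← hk']
  exact (Cfsg.Agent.Lib.Helper3_CharEigen.norm_char_eq_iff ρ z).mpr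
    (Cfsg.Agent.Lib.Helper3_CharCenter.exists_scalar_of_mem_center ρ hz)

/-- The square of the degree of an irreducible character is at most the index of a central
subgroup. -/
theorem deg_sq_le_index_central {χ : G → ℂ} (hχ : Cfsg.IsIrrCharacter G χ) (Z : Subgroup G)
    (hZ : Z ≤ Subgroup.center G) (k : ℕ) (hk : χ 1 = k) : k ^ 2 ≤ Z.index := by
  classical
  have h1 := classInner_self_of_isIrrCharacter hχ
  unfold Cfsg.classInner at h1
  have hG0 : (Nat.card G : ℂ) ≠ 0 := by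
    rw [Nat.cast_ne_zero]; exact Nat.card_pos.ne'
  have h2 : ∑ g : G, χ g * conj (χ g) = (Nat.card G : ℂ) := by
    field_simp at h1
    exact h1
  have h3 : ∑ g : G, ‖χ g‖ ^ 2 = (Nat.card G : ℝ) := by
    have h4 : ((∑ g : G, ‖χ g‖ ^ 2 : ℝ) : ℂ) = (Nat.card G : ℂ) := by
      rw [← h2]
      push_cast
      refine Finset.sum_congr rfl (fun g _ => ?_)
      rw [mul_conj_eq_norm_sq]
      push_cast
      rfl
    exact_mod_cast h4
  have h5 : ∑ g ∈ Finset.univ.filter (fun g : G => g ∈ Z), ‖χ g‖ ^ 2 ≤ ∑ g : G, ‖χ g‖ ^ 2 :=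
    Finset.sum_le_sum_of_subset_of_nonneg (Finset.filter_subset _ _)
      (fun g _ _ => by positivity)
  have h6 : ∑ g ∈ Finset.univ.filter (fun g : G => g ∈ Z), ‖χ g‖ ^ 2 =
      (Nat.card Z : ℝ) * (k : ℝ) ^ 2 := by
    rw [Finset.sum_congr rfl (fun g hg => by
      rw [norm_irr_of_mem_center hχ (hZ (Finset.mem_filter.1 hg).2) k hk]),
      Finset.sum_const, nsmul_eq_mul]
    congr 2
    rw [Nat.card_eq_fintype_card, Fintype.card_subtype]
  rw [h6, h3] at h5
  have h7 : (Nat.card G : ℝ) = (Nat.card Z : ℝ) * (Z.index : ℝ) := by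
    exact_mod_cast (Subgroup.card_mul_index Z).symm
  rw [h7] at h5
  have hZpos : (0 : ℝ) < Nat.card Z := by exact_mod_cast Nat.card_pos
  have h8 : (k : ℝ) ^ 2 ≤ Z.index := le_of_mul_le_mul_left h5 hZpos
  exact_mod_cast h8

end Central

section Main

variable {G : Type*} [Group G] [Fintype G]

/-- For `Z ≤ C ≤ G` with `Z` central in `C`, every irreducible character of `G` has
`χ(1)² ≤ |G : C|² |C : Z|`. -/
theorem deg_sq_le (C Z : Subgroup G) (hcent : ∀ z ∈ Z, ∀ c ∈ C, z * c = c * z)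
    {χ : G → ℂ} (hχ : Cfsg.IsIrrCharacter G χ) (m : ℕ) (hm : χ 1 = m) :
    m ^ 2 ≤ C.index ^ 2 * Z.relIndex C := by
  classical
  have hχc := isCharacter_of_isIrrCharacter hχ
  have h1 : χ 1 ≠ 0 := Cfsg.Agent.Lib.Helper75_Clifford.irr_one_ne_zero hχ
  obtain ⟨ζ, hζ, hne⟩ := Cfsg.Agent.Lib.Helper15_QuasiElem.exists_constituent
    (isCharacter_restrict C hχc) (by simpa using h1)
  obtain ⟨k, hk⟩ := char_apply_one_nat (isCharacter_of_isIrrCharacter hζ)
  -- step 3
  have hψc : Cfsg.IsCharacter G (Cfsg.indFun C ζ) :=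
    Cfsg.Agent.Lib.Helper75_IndChar.isCharacter_indFun C (isCharacter_of_isIrrCharacter hζ)
  obtain ⟨mult, hmult, hsum⟩ := exists_multiplicities hψc
  have hfr : Cfsg.classInner (Cfsg.indFun C ζ) χ ≠ 0 := by
    rw [frobenius_reciprocity C ζ χ (isClassFunction_of_isIrrCharacter hχ),
      ← classInner_conj_symm]
    simpa using hne
  set χ₀ : Cfsg.IrrCharacter G := ⟨χ, hχ⟩ with hχ₀
  have hm0 : mult χ₀ ≠ 0 := by
    intro h
    apply hfr
    have := hmult χ₀
    rw [h] at this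
    simpa using this
  have hdeg : ∀ χ' : Cfsg.IrrCharacter G, ∃ e : ℕ, (χ' : G → ℂ) 1 = e := fun χ' =>
    char_apply_one_nat (isCharacter_of_isIrrCharacter χ'.2)
  choose e he using hdeg
  have h3 : C.index * k = ∑ χ' : Cfsg.IrrCharacter G, mult χ' * e χ' := by
    have h4 := congrFun hsum 1
    rw [indFun_one_index, hk, Finset.sum_apply] at h4
    have h5 : ((C.index * k : ℕ) : ℂ) = ((∑ χ' : Cfsg.IrrCharacter G, mult χ' * e χ' : ℕ) : ℂ) := by
      push_cast
      rw [h4]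
      refine Finset.sum_congr rfl (fun χ' _ => ?_)
      rw [Pi.smul_apply, he χ', smul_eq_mul]
    exact_mod_cast h5
  have he0 : e χ₀ = m := by
    have := he χ₀
    rw [hχ₀] at this
    simp only at this
    rw [hm] at this
    exact_mod_cast this.symm
  have h6 : m ≤ C.index * k := by
    rw [h3]
    calc m ≤ mult χ₀ * e χ₀ := by
          rw [he0]
          exact Nat.le_mul_of_pos_left m (Nat.pos_of_ne_zero hm0)
      _ ≤ ∑ χ' : Cfsg.IrrCharacter G, mult χ' * e χ' :=
          Finset.single_le_sum (f := fun χ' => mult χ' * e χ') (fun _ _ => Nat.zero_le _)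
            (Finset.mem_univ χ₀)
  -- step 4
  have hcen : Z.subgroupOf C ≤ Subgroup.center C := by
    intro z hz
    rw [Subgroup.mem_center_iff]
    intro c
    apply Subtype.ext
    simp only [Subgroup.coe_mul]
    exact (hcent z (Subgroup.mem_subgroupOf.mp hz) c c.2).symm
  have h7 : k ^ 2 ≤ (Z.subgroupOf C).index := deg_sq_le_index_central hζ _ hcen k hk
  have h8 : (Z.subgroupOf C).index = Z.relIndex C := rfl
  rw [h8] at h7
  calc m ^ 2 ≤ (C.index * k) ^ 2 := Nat.pow_le_pow_left h6 2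
    _ = C.index ^ 2 * k ^ 2 := by ring
    _ ≤ C.index ^ 2 * Z.relIndex C := Nat.mul_le_mul_left _ h7

/-- The degree bound modulo a normal subgroup contained in the kernel. -/
theorem deg_sq_le_of_ker (N C Z : Subgroup G) [N.Normal] (hNZ : N ≤ Z) (hZC : Z ≤ C)
    (hcent : ∀ z ∈ Z, ∀ c ∈ C, z * c * z⁻¹ * c⁻¹ ∈ N)
    {θ : G → ℂ} (hθ : Cfsg.IsIrrCharacter G θ) (hker : ∀ x ∈ N, θ x = θ 1) (m : ℕ)
    (hm : θ 1 = m) : m ^ 2 ≤ C.index ^ 2 * Z.relIndex C := by
  classical
  obtain ⟨χ, hχ⟩ := Cfsg.Agent.Lib.Helper77_QuotBlocks.exists_quot_char N ⟨θ, hθ⟩ hker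
  simp only at hχ
  have hfin : Fintype (G ⧸ N) := Fintype.ofFinite _
  have hm' : (χ : G ⧸ N → ℂ) 1 = m := by
    rw [← hm, hχ]
    rfl
  have hcent' : ∀ z ∈ Z.map (QuotientGroup.mk' N), ∀ c ∈ C.map (QuotientGroup.mk' N),
      z * c = c * z := by
    rintro _ ⟨z, hz, rfl⟩ _ ⟨c, hc, rfl⟩
    simp only [QuotientGroup.mk'_apply]
    rw [← QuotientGroup.mk_mul, ← QuotientGroup.mk_mul, QuotientGroup.eq_iff_div_mem]
    have := hcent z hz c hc
    have h2 : z * c / (c * z) = z * c * z⁻¹ * c⁻¹ := by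
      rw [div_eq_mul_inv, mul_inv_rev, ← mul_assoc]
    rw [h2]
    exact this
  have key := deg_sq_le (C.map (QuotientGroup.mk' N)) (Z.map (QuotientGroup.mk' N)) hcent'
    χ.2 m hm'
  have hker1 : (QuotientGroup.mk' N).ker ≤ C := by
    rw [QuotientGroup.ker_mk']; exact hNZ.trans hZC
  have hker2 : (QuotientGroup.mk' N).ker ≤ Z := by
    rw [QuotientGroup.ker_mk']; exact hNZ
  rw [Subgroup.index_map_eq C (QuotientGroup.mk'_surjective N) hker1,
    Subgroup.relIndex_map_map, sup_eq_left.mpr hker1, sup_eq_left.mpr hker2] at key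
  exact key

end Main

section Apply

variable {L : Type*} [Group L] [Fintype L]

/-- The degree bound in the form used for Peterfalvi (6.2). -/
theorem deg_bound (K B C D : Subgroup L) [K.Normal] [B.Normal] (hBD : B ≤ D) (hDC : D ≤ C)
    (hCK : C ≤ K) (hcent : ∀ x ∈ D, ∀ y ∈ C, x * y * x⁻¹ * y⁻¹ ∈ B)
    {θ : K → ℂ} (hθ : Cfsg.IsIrrCharacter K θ) (hker : ∀ a : K, (a : L) ∈ B → θ a = θ 1)
    (m : ℕ) (hm : θ 1 = m) : (K.index * m) ^ 2 ≤ C.index ^ 2 * D.relIndex C := by
  classical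
  have hfin : Fintype K := Fintype.ofFinite _
  have key := deg_sq_le_of_ker (G := K) (B.subgroupOf K) (C.subgroupOf K) (D.subgroupOf K)
    (Subgroup.subgroupOf_mono K hBD) (Subgroup.subgroupOf_mono K hDC) ?_ hθ
    (fun x hx => hker x (Subgroup.mem_subgroupOf.mp hx)) m hm
  · rw [Subgroup.relIndex_subgroupOf hCK] at key
    have h1 : (C.subgroupOf K).index = C.relIndex K := rfl
    rw [h1] at key
    have h2 : C.relIndex K * K.index = C.index := Subgroup.relIndex_mul_index hCK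
    calc (K.index * m) ^ 2 = K.index ^ 2 * m ^ 2 := by ring
      _ ≤ K.index ^ 2 * (C.relIndex K ^ 2 * D.relIndex C) := Nat.mul_le_mul_left _ key
      _ = (C.relIndex K * K.index) ^ 2 * D.relIndex C := by ring
      _ = C.index ^ 2 * D.relIndex C := by rw [h2]
  · intro z hz c hc
    rw [Subgroup.mem_subgroupOf] at hz hc ⊢
    simpa using hcent _ hz _ hc

end Apply

end Cfsg.Agent.Lib.Helper16_CohDeg
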