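import Mathlib
import Cfsg.Prelude.Def_Characters
import Cfsg.Prelude.Def_OddOrderChar
import Cfsg.Agent.Lib.Helper17_CohSys
import Cfsg.Agent.Lib.Helper17_CohExt
import Cfsg.Agent.S1516

/-!
# Coherence: extending a coherent set one pair at a time (helper16)

`exists_coherent_superset`: inside a coherence system `(S, τ, R)`, a conjugation-closed coherent
subset `T₀` can be enlarged to a finite conjugation-closed coherent subset containing a target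
set `T` as soon as the numerical criterion of Peterfalvi (5.7) (statement S1516) is available at
every stage.
-/

set_option autoImplicit false

namespace Cfsg.Agent.Lib.Helper16_CohExtend

open scoped ComplexConjugate
open Cfsg.Agent.Lib.Helper3_CharOrtho Cfsg.Agent.Lib.Helper75_CharArith
  Cfsg.Agent.Lib.Helper17_CohSys Cfsg.Agent.Lib.Helper17_CohExt

variable {L : Type*} [Group L] [Fintype L] {G : Type*} [Group G] [Fintype G]
variable {S : Set (L → ℂ)} {τ : (L → ℂ) → (G → ℂ)} {R : (L → ℂ) → Finset (G → ℂ)}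

/-- Members of a coherence system form a finite set. -/
theorem cs_finite (hS : Cfsg.IsCoherenceSystem S τ R) : S.Finite :=
  finite_of_orthogonal hS.orthogonal (fun _ hχ => cs_norm_ne_zero hS hχ)

/-- Degree and norm functions for a coherence system. -/
theorem cs_exists_deg_norm (hS : Cfsg.IsCoherenceSystem S τ R) :
    ∃ d n : (L → ℂ) → ℕ, (∀ φ ∈ S, φ 1 = (d φ : ℂ)) ∧
      (∀ φ ∈ S, Cfsg.classInner φ φ = (n φ : ℂ)) ∧ (∀ φ ∈ S, 0 < n φ) := by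
  classical
  have hdex : ∀ φ : L → ℂ, ∃ k : ℕ, φ ∈ S → φ 1 = (k : ℂ) := by
    intro φ
    by_cases h : φ ∈ S
    · obtain ⟨k, hk⟩ := char_apply_one_nat (hS.isCharacter φ h)
      exact ⟨k, fun _ => hk⟩
    · exact ⟨0, fun h' => absurd h' h⟩
  have hnex : ∀ φ : L → ℂ, ∃ k : ℕ, φ ∈ S → (Cfsg.classInner φ φ = (k : ℂ) ∧ 0 < k) := by
    intro φ
    by_cases h : φ ∈ S
    · obtain ⟨k, hk, hk0⟩ := cs_norm_nat hS h
      exact ⟨k, fun _ => ⟨hk, Nat.pos_of_ne_zero hk0⟩⟩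
    · exact ⟨0, fun h' => absurd h' h⟩
  choose d hd using hdex
  choose n hn using hnex
  exact ⟨d, n, hd, fun φ hφ => (hn φ hφ).1, fun φ hφ => (hn φ hφ).2⟩

/-- **Extension to a target set.** -/
theorem exists_coherent_superset (hS : Cfsg.IsCoherenceSystem S τ R) (d n : (L → ℂ) → ℕ)
    (hd : ∀ φ ∈ S, φ 1 = (d φ : ℂ)) (hn : ∀ φ ∈ S, Cfsg.classInner φ φ = (n φ : ℂ))
    (T₀ T : Set (L → ℂ)) (hT₀S : T₀ ⊆ S) (hTS : T ⊆ S)
    (hT₀c : ∀ φ ∈ T₀, Cfsg.conjFun φ ∈ T₀) (hcoh : Cfsg.IsCoherent T₀ {1}ᶜ τ)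
    (hstep : ∀ X : Finset (L → ℂ), (↑X : Set (L → ℂ)) ⊆ S → T₀ ⊆ ↑X →
      (∀ φ ∈ X, Cfsg.conjFun φ ∈ X) → Cfsg.IsCoherent (↑X : Set (L → ℂ)) {1}ᶜ τ →
      ∀ φ ∈ T, φ ∉ X → ∃ χ₁ ∈ X, d χ₁ ∣ d φ ∧
        (2 * d φ * d χ₁ : ℝ) < ∑ ξ ∈ X, ((d ξ : ℝ) ^ 2 / (n ξ : ℝ))) :
    ∃ X : Finset (L → ℂ), (↑X : Set (L → ℂ)) ⊆ S ∧ T₀ ⊆ ↑X ∧ T ⊆ ↑X ∧
      (∀ φ ∈ X, Cfsg.conjFun φ ∈ X) ∧ Cfsg.IsCoherent (↑X : Set (L → ℂ)) {1}ᶜ τ := by
  classical
  have hSfin := cs_finite hS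
  set Sf : Finset (L → ℂ) := hSfin.toFinset with hSf
  have hSfmem : ∀ x, x ∈ Sf ↔ x ∈ S := fun x => Set.Finite.mem_toFinset hSfin
  set P : Finset (L → ℂ) → Prop := fun X => (↑X : Set (L → ℂ)) ⊆ S ∧ T₀ ⊆ ↑X ∧
    (∀ φ ∈ X, Cfsg.conjFun φ ∈ X) ∧ Cfsg.IsCoherent (↑X : Set (L → ℂ)) {1}ᶜ τ with hP
  have hT₀fin : T₀.Finite := hSfin.subset hT₀S
  set X₀ : Finset (L → ℂ) := hT₀fin.toFinset with hX₀
  have hX₀coe : (↑X₀ : Set (L → ℂ)) = T₀ := Set.Finite.coe_toFinset hT₀fin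
  have hPX₀ : P X₀ := by
    refine ⟨by rw [hX₀coe]; exact hT₀S, by rw [hX₀coe], ?_, by rw [hX₀coe]; exact hcoh⟩
    intro φ hφ
    have h1 : φ ∈ T₀ := by rw [← hX₀coe]; exact hφ
    have h2 := hT₀c φ h1
    rw [← hX₀coe] at h2
    exact h2
  have hne : (Sf.powerset.filter P).Nonempty := by
    refine ⟨X₀, Finset.mem_filter.2 ⟨Finset.mem_powerset.2 ?_, hPX₀⟩⟩
    intro x hx
    exact (hSfmem x).2 (hPX₀.1 hx)
  obtain ⟨X, hXmem, hXmax⟩ := Finset.exists_max_image _ Finset.card hne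
  obtain ⟨hXS, hXT₀, hXc, hXcoh⟩ := (Finset.mem_filter.1 hXmem).2
  refine ⟨X, hXS, hXT₀, ?_, hXc, hXcoh⟩
  intro φ hφT
  by_contra hφX
  have hφX' : φ ∉ X := fun h => hφX h
  have hφS : φ ∈ S := hTS hφT
  have hcφS : Cfsg.conjFun φ ∈ S := hS.conj_mem φ hφS
  have hcφX : Cfsg.conjFun φ ∉ X := by
    intro h
    have := hXc _ h
    rw [conjFun_conjFun] at this
    exact hφX' this
  obtain ⟨χ₁, hχ₁X, hdvd, hineq⟩ := hstep X hXS hXT₀ hXc hXcoh φ hφT hφX'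
  have hnew := Cfsg.Agent.S1516.result S τ R hS d n hd hn X hXS hXc hXcoh φ hφS hφX' hcφX χ₁ hχ₁X
    hdvd hineq
  set X' : Finset (L → ℂ) := insert φ (insert (Cfsg.conjFun φ) X) with hX'
  have hX'coe : (↑X' : Set (L → ℂ)) = ↑X ∪ {φ, Cfsg.conjFun φ} := by
    ext x
    simp only [hX', Finset.coe_insert, Set.mem_insert_iff, Finset.mem_coe, Set.mem_union,
      Set.mem_singleton_iff]
    tauto
  have hPX' : P X' := by
    refine ⟨?_, ?_, ?_, by rw [hX'coe]; exact hnew⟩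
    · rw [hX'coe]
      intro x hx
      rcases hx with hx | hx | hx
      · exact hXS hx
      · rw [hx]; exact hφS
      · rw [Set.mem_singleton_iff.1 hx]; exact hcφS
    · rw [hX'coe]
      exact fun x hx => Or.inl (hXT₀ hx)
    · intro x hx
      rw [hX', Finset.mem_insert, Finset.mem_insert] at hx ⊢
      rcases hx with hx | hx | hx
      · rw [hx]; exact Or.inr (Or.inl rfl)
      · rw [hx, conjFun_conjFun]; exact Or.inl rfl
      · exact Or.inr (Or.inr (hXc x hx))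
  have hX'mem : X' ∈ Sf.powerset.filter P := by
    refine Finset.mem_filter.2 ⟨Finset.mem_powerset.2 ?_, hPX'⟩
    intro x hx
    exact (hSfmem x).2 (hPX'.1 hx)
  have hcard := hXmax X' hX'mem
  have hlt : X.card < X'.card := by
    apply Finset.card_lt_card
    rw [Finset.ssubset_iff_of_subset]
    · exact ⟨φ, by rw [hX']; exact Finset.mem_insert_self _ _, hφX'⟩
    · intro x hx
      rw [hX']
      exact Finset.mem_insert_of_mem (Finset.mem_insert_of_mem hx)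
  omega

end Cfsg.Agent.Lib.Helper16_CohExtend
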