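import Mathlib
import Cfsg.Prelude.Def_Characters
import Cfsg.Prelude.Def_OddOrderChar
import Cfsg.Agent.Lib.Helper16_CohBasic
import Cfsg.Agent.Lib.Helper16_CohCount
import Cfsg.Agent.Lib.Helper16_CohExtend

/-!
# Coherence: descent from `S(A)` by a degree bound (helper16)

`coherent_of_degree_bound`: for `K ⊴ L` solvable, `S = inducedIrrAbove K ⊥` a coherence system and
`S(A)` coherent (`A ⊴ L` not containing `K`), every set `T ⊆ S` of characters with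
`2 φ(1) < |K : A ∩ K| - 1` lies in a finite coherent conjugation-closed subset containing `S(A)`.
-/

set_option autoImplicit false

namespace Cfsg.Agent.Lib.Helper16_CohDescent

open scoped ComplexConjugate
open Cfsg.Agent.Lib.Helper3_CharOrtho Cfsg.Agent.Lib.Helper75_CharArith
  Cfsg.Agent.Lib.Helper17_CohSys Cfsg.Agent.Lib.Helper17_CohExt
  Cfsg.Agent.Lib.Helper16_CohBasic Cfsg.Agent.Lib.Helper16_CohCount
  Cfsg.Agent.Lib.Helper16_CohExtend

variable {L : Type*} [Group L] [Fintype L] {G : Type*} [Group G] [Fintype G]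

/-- Every member of `S = inducedIrrAbove K ⊥` has degree `|L : K| * m`. -/
theorem deg_of_mem {K A : Subgroup L} {φ : L → ℂ} (hφ : φ ∈ Cfsg.inducedIrrAbove K A) :
    ∃ (θ : K → ℂ) (m : ℕ), Cfsg.IsIrrCharacter K θ ∧
      (∀ a : K, (a : L) ∈ A → θ a = θ 1) ∧ φ = Cfsg.indFun K θ ∧ θ 1 = m ∧
      φ 1 = ((K.index * m : ℕ) : ℂ) := by
  obtain ⟨θ, hθ, -, hker, rfl⟩ := hφ
  obtain ⟨m, hm⟩ := char_apply_one_nat
    (Cfsg.Agent.Lib.Helper3_CharBridge.isCharacter_of_isIrrCharacter hθ)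
  refine ⟨θ, m, hθ, hker, rfl, hm, ?_⟩
  rw [indFun_one_index, hm]
  push_cast
  rfl

/-- **Descent by a degree bound.** -/
theorem coherent_of_degree_bound (K : Subgroup L) [hK : K.Normal] (hsolv : Group.IsSolvable K)
    (τ : (L → ℂ) → (G → ℂ)) (R : (L → ℂ) → Finset (G → ℂ))
    (hS : Cfsg.IsCoherenceSystem (Cfsg.inducedIrrAbove K ⊥) τ R) (A : Subgroup L) [A.Normal]
    (hAK : ¬ K ≤ A) (hA : Cfsg.IsCoherent (Cfsg.inducedIrrAbove K A) {1}ᶜ τ)
    (T : Set (L → ℂ)) (hT : T ⊆ Cfsg.inducedIrrAbove K ⊥)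
    (hdeg : ∀ φ ∈ T, ∀ k : ℕ, φ 1 = (k : ℂ) → 2 * k + 1 < A.relIndex K) :
    ∃ X : Finset (L → ℂ), (↑X : Set (L → ℂ)) ⊆ Cfsg.inducedIrrAbove K ⊥ ∧
      Cfsg.inducedIrrAbove K A ⊆ ↑X ∧ T ⊆ ↑X ∧ (∀ φ ∈ X, Cfsg.conjFun φ ∈ X) ∧
      Cfsg.IsCoherent (↑X : Set (L → ℂ)) {1}ᶜ τ := by
  classical
  have hfinK : Fintype K := Fintype.ofFinite _
  obtain ⟨d, n, hd, hn, hnpos⟩ := cs_exists_deg_norm hS
  obtain ⟨lam, hlam, hlam1, hlamA⟩ := exists_linear_mem K A hsolv hAK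
  have hAS : Cfsg.inducedIrrAbove K A ⊆ Cfsg.inducedIrrAbove K ⊥ :=
    inducedIrrAbove_mono K bot_le
  have hχ₁deg : d (Cfsg.indFun K lam) = K.index := by
    have h1 := hd _ (hAS hlamA)
    rw [indFun_one_index, hlam1, mul_one] at h1
    exact_mod_cast h1.symm
  apply exists_coherent_superset hS d n hd hn (Cfsg.inducedIrrAbove K A) T hAS hT
    (fun φ hφ => conj_mem_inducedIrrAbove K A hφ) hA
  intro X hXS hXA hXc hXcoh φ hφT hφX
  refine ⟨Cfsg.indFun K lam, hXA hlamA, ?_, ?_⟩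
  · obtain ⟨θ, m, -, -, -, -, h1⟩ := deg_of_mem (hT hφT)
    have h2 := hd φ (hT hφT)
    rw [h1] at h2
    have h3 : d φ = K.index * m := by exact_mod_cast h2.symm
    rw [hχ₁deg, h3]
    exact Dvd.intro _ rfl
  · have hb := sum_bound K A X hXA d n (fun ξ hξ => hd ξ (hXS hξ)) (fun ξ hξ => hn ξ (hXS hξ))
      (fun ξ hξ => hnpos ξ (hXS hξ))
    have h4 := hdeg φ hφT (d φ) (hd φ (hT hφT))
    rw [hχ₁deg]
    have h5 : ((2 * d φ + 1 : ℕ) : ℝ) < (A.relIndex K : ℝ) := by exact_mod_cast h4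
    push_cast at h5
    have hℓ : (0 : ℝ) < K.index := by
      exact_mod_cast Nat.pos_of_ne_zero (Subgroup.index_ne_zero_of_finite (H := K))
    have h6 : (2 * (d φ : ℝ)) * K.index < (K.index : ℝ) * ((A.relIndex K : ℝ) - 1) := by
      nlinarith
    calc (2 * (d φ : ℝ) * (K.index : ℝ)) < (K.index : ℝ) * ((A.relIndex K : ℝ) - 1) := h6
      _ ≤ _ := hb

end Cfsg.Agent.Lib.Helper16_CohDescent
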