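import Mathlib
import Cfsg.Prelude.Def_Characters
import Cfsg.Prelude.Def_OddOrderChar
import Cfsg.Agent.Lib.Helper16_CohBasic
import Cfsg.Agent.Lib.Helper16_CohCount
import Cfsg.Agent.Lib.Helper16_CohDescent
import Cfsg.Agent.Lib.Helper3_CharEigen
import Cfsg.Agent.Lib.Helper15_QuasiElem
import Cfsg.Agent.Lib.Helper75_Clifford
import Cfsg.Agent.Lib.Helper75_IndChar

/-!
# Coherence: kernels of constituents, and `S ∖ S(Z)` as a set of irreducible characters (helper16)

* `ker_constituent`: if `Φ g = Φ 1` for a character `Φ`, the same holds for each irreducible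
  constituent;
* `indFun_apply_of_ker`: `Ind θ` is constant `= Ind θ 1` on a normal subgroup in the kernel of `θ`;
* `diff_eq_irr`: Peterfalvi (6.6), first part.
-/

set_option autoImplicit false

namespace Cfsg.Agent.Lib.Helper16_CohIrr

open scoped ComplexConjugate
open Cfsg.Agent.Lib.Helper3_CharOrtho Cfsg.Agent.Lib.Helper75_CharArith
  Cfsg.Agent.Lib.Helper17_CohSys Cfsg.Agent.Lib.Helper75_Induced
  Cfsg.Agent.Lib.Helper3_CharBridge Cfsg.Agent.Lib.Helper3_CharComplete
  Cfsg.Agent.Lib.Helper16_CohBasic Cfsg.Agent.Lib.Helper16_CohCount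
  Cfsg.Agent.Lib.Helper16_CohDescent

section Ker

variable {G : Type*} [Group G] [Fintype G]

theorem norm_irr_le {χ : G → ℂ} (hχ : Cfsg.IsCharacter G χ) (g : G) : ‖χ g‖ ≤ (χ 1).re := by
  obtain ⟨n, ρ, rfl⟩ := hχ
  rw [Representation.char_one, Complex.natCast_re]
  exact Cfsg.Agent.Lib.Helper3_CharEigen.norm_char_le ρ g

/-- If a character takes its degree at `g`, so does each of its irreducible constituents. -/
theorem ker_constituent {Φ ψ : G → ℂ} (hΦ : Cfsg.IsCharacter G Φ) (hψ : Cfsg.IsIrrCharacter G ψ)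
    (hne : Cfsg.classInner Φ ψ ≠ 0) {g : G} (hg : Φ g = Φ 1) : ψ g = ψ 1 := by
  classical
  obtain ⟨m, hm, hsum⟩ := exists_multiplicities hΦ
  set ψ₀ : Cfsg.IrrCharacter G := ⟨ψ, hψ⟩ with hψ₀
  have hm0 : m ψ₀ ≠ 0 := by
    intro h
    apply hne
    have := hm ψ₀
    rw [h] at this
    simpa using this
  have hdeg1 : ∀ χ : Cfsg.IrrCharacter G, ((χ : G → ℂ) 1).im = 0 := by
    intro χ
    obtain ⟨k, hk⟩ := char_apply_one_nat (isCharacter_of_isIrrCharacter χ.2)
    rw [hk]; simp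
  have hterm : ∀ χ : Cfsg.IrrCharacter G,
      0 ≤ (m χ : ℝ) * (((χ : G → ℂ) 1).re - ((χ : G → ℂ) g).re) := by
    intro χ
    have h1 := norm_irr_le (isCharacter_of_isIrrCharacter χ.2) g
    have h2 := Complex.re_le_norm ((χ : G → ℂ) g)
    have h3 : (0 : ℝ) ≤ m χ := by positivity
    exact mul_nonneg h3 (by linarith)
  have hsum0 : ∑ χ : Cfsg.IrrCharacter G,
      (m χ : ℝ) * (((χ : G → ℂ) 1).re - ((χ : G → ℂ) g).re) = 0 := by
    have h1 := congrFun hsum 1
    have hg' := congrFun hsum g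
    rw [Finset.sum_apply] at h1 hg'
    have h4 : (Φ 1 - Φ g).re = 0 := by rw [hg]; simp
    rw [h1, hg', ← Finset.sum_sub_distrib, Complex.re_sum] at h4
    rw [← h4]
    refine Finset.sum_congr rfl (fun χ _ => ?_)
    simp only [Pi.smul_apply, smul_eq_mul]
    rw [← mul_sub, show ((m χ : ℂ)) = (((m χ : ℝ)) : ℂ) by push_cast; rfl,
      Complex.re_ofReal_mul, Complex.sub_re]
  have hz := (Finset.sum_eq_zero_iff_of_nonneg (fun χ _ => hterm χ)).mp hsum0 ψ₀
    (Finset.mem_univ _)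
  have hre : (ψ 1).re = (ψ g).re := by
    have h3 : (m ψ₀ : ℝ) ≠ 0 := by exact_mod_cast hm0
    have := (mul_eq_zero.mp hz).resolve_left h3
    simp only [hψ₀] at this
    linarith
  have hnorm := norm_irr_le (isCharacter_of_isIrrCharacter hψ) g
  have him : (ψ g).im = 0 := by
    have h5 := Complex.sq_norm (ψ g)
    rw [Complex.normSq_apply] at h5
    have h6 : ‖ψ g‖ ^ 2 ≤ (ψ 1).re ^ 2 := by
      apply pow_le_pow_left₀ (norm_nonneg _) hnorm
    rw [hre] at h6
    have h7 : (ψ g).im * (ψ g).im ≤ 0 := by nlinarith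
    exact mul_self_eq_zero.mp (le_antisymm h7 (mul_self_nonneg _))
  apply Complex.ext
  · exact hre.symm
  · rw [him]
    have := hdeg1 ψ₀
    simpa [hψ₀] using this.symm

end Ker

section Diff

variable {L : Type*} [Group L] [Fintype L]

/-- `Ind θ` is constant on a normal subgroup of `L` inside the kernel of `θ`. -/
theorem indFun_apply_of_ker (K Z : Subgroup L) [hZn : Z.Normal] (hZK : Z ≤ K) {θ : K → ℂ}
    (hker : ∀ a : K, (a : L) ∈ Z → θ a = θ 1) {z : L} (hz : z ∈ Z) :
    Cfsg.indFun K θ z = Cfsg.indFun K θ 1 := by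
  rw [indFun_apply, indFun_apply]
  congr 1
  apply Finset.sum_congr rfl
  intro x _
  have h1 : x⁻¹ * z * x ∈ Z := by
    have := hZn.conj_mem z hz x⁻¹
    simpa using this
  rw [extendByZero_of_mem K θ (hZK h1), hker ⟨_, hZK h1⟩ h1]
  have h2 : x⁻¹ * 1 * x = ((1 : K) : L) := by simp
  rw [h2, extendByZero_coe]

/-- If `Z` is in the kernel of `Ind θ`, it is in the kernel of `θ`. -/
theorem ker_of_ind_ker (K Z : Subgroup L) {θ : K → ℂ} (hθ : Cfsg.IsIrrCharacter K θ)
    (h : ∀ z ∈ Z, Cfsg.indFun K θ z = Cfsg.indFun K θ 1) :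
    ∀ a : K, (a : L) ∈ Z → θ a = θ 1 := by
  classical
  have hfinK : Fintype K := Fintype.ofFinite _
  intro a ha
  have hθc := isCharacter_of_isIrrCharacter hθ
  have hΦ : Cfsg.IsCharacter K (fun k : K => Cfsg.indFun K θ k) :=
    isCharacter_restrict K (Cfsg.Agent.Lib.Helper75_IndChar.isCharacter_indFun K hθc)
  have h1 : Cfsg.indFun K θ 1 ≠ 0 := by
    rw [indFun_one_index]
    apply mul_ne_zero
    · rw [Nat.cast_ne_zero]; exact Subgroup.index_ne_zero_of_finite
    · exact Cfsg.Agent.Lib.Helper75_Clifford.irr_one_ne_zero hθ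
  have hne : Cfsg.classInner (fun k : K => Cfsg.indFun K θ k) θ ≠ 0 := by
    rw [← classInner_conj_symm, ← frobenius_reciprocity K θ _ (isClassFunction_indFun K θ)]
    intro h0
    rw [map_eq_zero] at h0
    exact classInner_self_ne_zero h1 h0
  exact ker_constituent hΦ hθ hne (h (a : L) ha)

/-- Irreducible characters of `K` not trivial on `Z` induce members of `S ∖ S(Z)`. -/
theorem mem_diff_of_not_ker (K Z : Subgroup L) [Z.Normal] (hZK : Z ≤ K) {θ : K → ℂ}
    (hθ : Cfsg.IsIrrCharacter K θ) (hnk : ¬ ∀ a : K, (a : L) ∈ Z → θ a = θ 1) :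
    Cfsg.indFun K θ ∈ Cfsg.inducedIrrAbove K ⊥ \ Cfsg.inducedIrrAbove K Z := by
  refine ⟨⟨θ, hθ, ?_, ?_, rfl⟩, ?_⟩
  · intro h
    apply hnk
    intro a _
    rw [h]
  · intro a ha
    have : a = 1 := by
      apply Subtype.ext
      simpa using ha
    rw [this]
  · rintro ⟨θ', -, -, hker', heq⟩
    apply hnk
    apply ker_of_ind_ker K Z hθ
    intro z hz
    rw [heq]
    exact indFun_apply_of_ker K Z hZK hker' hz

/-- Peterfalvi (6.6), first part: if the members of `S ∖ S(Z)` are irreducible, they are exactly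
the irreducible characters of `L` whose kernel does not contain `Z`. -/
theorem diff_eq_irr (K Z : Subgroup L) [Z.Normal] (hZK : Z ≤ K)
    (hirr : ∀ χ ∈ Cfsg.inducedIrrAbove K ⊥ \ Cfsg.inducedIrrAbove K Z, Cfsg.IsIrrCharacter L χ) :
    Cfsg.inducedIrrAbove K ⊥ \ Cfsg.inducedIrrAbove K Z =
      {χ | Cfsg.IsIrrCharacter L χ ∧ ∃ z ∈ Z, χ z ≠ χ 1} := by
  classical
  have hfinK : Fintype K := Fintype.ofFinite _
  ext χ
  constructor
  · intro hχ
    refine ⟨hirr χ hχ, ?_⟩
    by_contra hcon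
    push Not at hcon
    obtain ⟨⟨θ, hθ, hne, -, rfl⟩, hnot⟩ := hχ
    apply hnot
    exact ⟨θ, hθ, hne, ker_of_ind_ker K Z hθ hcon, rfl⟩
  · rintro ⟨hχ, z₀, hz₀, hne⟩
    have hχc := isCharacter_of_isIrrCharacter hχ
    have h1 : χ 1 ≠ 0 := Cfsg.Agent.Lib.Helper75_Clifford.irr_one_ne_zero hχ
    obtain ⟨θ, hθ, hcon⟩ := Cfsg.Agent.Lib.Helper15_QuasiElem.exists_constituent
      (isCharacter_restrict K hχc) (by simpa using h1)
    have hθc := isCharacter_of_isIrrCharacter hθ
    have hind : Cfsg.classInner (Cfsg.indFun K θ) χ ≠ 0 := by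
      rw [frobenius_reciprocity K θ χ (isClassFunction_of_isIrrCharacter hχ),
        ← classInner_conj_symm]
      simpa using hcon
    have hnk : ¬ ∀ a : K, (a : L) ∈ Z → θ a = θ 1 := by
      intro hker
      apply hne
      exact ker_constituent (Cfsg.Agent.Lib.Helper75_IndChar.isCharacter_indFun K hθc) hχ hind
        (indFun_apply_of_ker K Z hZK hker hz₀)
    have hmem := mem_diff_of_not_ker K Z hZK hθ hnk
    have hirr' := hirr _ hmem
    have heq : Cfsg.indFun K θ = χ := by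
      by_contra hneq
      exact hind (classInner_of_isIrrCharacter_of_ne hirr' hχ hneq)
    rw [← heq]
    exact hmem

end Diff

end Cfsg.Agent.Lib.Helper16_CohIrr
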