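import Mathlib
import Cfsg.Prelude.Def_Characters
import Cfsg.Prelude.Def_OddOrderChar
import Cfsg.Agent.Lib.Helper16_CohBasic
import Cfsg.Agent.Lib.Helper17_CohSys

/-!
# Coherence: auxiliary facts for the nilpotent descent, Peterfalvi (6.3) (helper16)

* `exists_ne_zero_zspanOn`: `S(B)` has a nonzero difference `χ - conj χ`;
* `exists_lcs_le`: if `H / M` is nilpotent, some term of the lower central series of `H` lies in `M`;
* `arith_descent`: the inequality needed to apply Peterfalvi (6.2) along the series.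
-/

set_option autoImplicit false

namespace Cfsg.Agent.Lib.Helper16_CohNil

open Cfsg.Agent.Lib.Helper17_CohSys Cfsg.Agent.Lib.Helper16_CohBasic

/-- `S(B)` contains `χ` with `χ - conj χ` a nonzero member of the span vanishing at `1`. -/
theorem exists_ne_zero_zspanOn {L : Type*} [Group L] [Fintype L] {G : Type*} [Group G] [Fintype G]
    (K : Subgroup L) (hsolv : Group.IsSolvable K) {τ : (L → ℂ) → (G → ℂ)}
    {R : (L → ℂ) → Finset (G → ℂ)}
    (hS : Cfsg.IsCoherenceSystem (Cfsg.inducedIrrAbove K ⊥) τ R) (B : Subgroup L) [B.Normal]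
    (hBK : ¬ K ≤ B) :
    ∃ α ∈ Cfsg.zspanOn (Cfsg.inducedIrrAbove K B) ({1}ᶜ : Set L), α ≠ 0 := by
  have hBS : Cfsg.inducedIrrAbove K B ⊆ Cfsg.inducedIrrAbove K ⊥ :=
    inducedIrrAbove_mono K bot_le
  obtain ⟨lam, -, -, hlamB⟩ := exists_linear_mem K B hsolv hBK
  refine ⟨Cfsg.indFun K lam - Cfsg.conjFun (Cfsg.indFun K lam),
    sub_mem_zspanOn hlamB (conj_mem_inducedIrrAbove K B hlamB)
      (conjFun_apply_one (hS.isCharacter _ (hBS hlamB))).symm, ?_⟩
  intro h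
  exact hS.conj_ne _ (hBS hlamB) (sub_eq_zero.1 h).symm

/-- If `H / M` is nilpotent, the lower central series of `H` (computed in the ambient group)
eventually lies in `M`. -/
theorem exists_lcs_le {L : Type*} [Group L] (M H : Subgroup L) [(M.subgroupOf H).Normal]
    (hnil : Group.IsNilpotent (↥H ⧸ M.subgroupOf H)) : ∃ c, H.lowerCentralSeries c ≤ M := by
  obtain ⟨c, hc⟩ := Subgroup.nilpotent_iff_lowerCentralSeries.mp hnil
  refine ⟨c, ?_⟩
  have h1 : ((⊤ : Subgroup H).lowerCentralSeries c).map (QuotientGroup.mk' (M.subgroupOf H)) =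
      ⊥ := by
    rw [Subgroup.map_lowerCentralSeries, ← MonoidHom.range_eq_map,
      MonoidHom.range_eq_top.mpr (QuotientGroup.mk'_surjective _), hc]
  have h2 : (⊤ : Subgroup H).lowerCentralSeries c ≤ M.subgroupOf H := by
    have := (Subgroup.map_eq_bot_iff _).mp h1
    rwa [QuotientGroup.ker_mk'] at this
  rw [← Subgroup.top_subtype_lowerCentralSeries]
  rintro _ ⟨y, hy, rfl⟩
  exact Subgroup.mem_subgroupOf.mp (h2 hy)

/-- The arithmetic of the descent: with `ℓ = |L:K|`, `k = |K:H|`, `x = |H:A|`. -/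
theorem arith_descent (ℓ k x : ℕ) (hk : 0 < k) (hx : 4 * ℓ ^ 2 + 1 < x) :
    4 * (k * ℓ) ^ 2 * x < (x * k - 1) ^ 2 := by
  obtain ⟨y, hy⟩ : ∃ y, x * k = y + 1 :=
    Nat.exists_eq_succ_of_ne_zero (Nat.mul_ne_zero (by omega) hk.ne')
  rw [hy, Nat.add_sub_cancel]
  have hk1 : (1 : ℤ) ≤ k := by exact_mod_cast hk
  have hx2 : (4 : ℤ) * ℓ ^ 2 + 2 ≤ x := by exact_mod_cast hx
  have hyz : (x : ℤ) * k = y + 1 := by exact_mod_cast hy
  have hy0 : (0 : ℤ) ≤ y := by positivity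
  have hx0 : (0 : ℤ) ≤ x := by positivity
  have h1 : (4 : ℤ) * (k * ℓ) ^ 2 * x ≤ (k : ℤ) ^ 2 * x * (x - 2) := by
    have h2 : (0 : ℤ) ≤ (k : ℤ) ^ 2 * x := by positivity
    nlinarith
  have h3 : (k : ℤ) ^ 2 * x * (x - 2) = (y + 1) ^ 2 - 2 * k * (y + 1) := by
    rw [← hyz]; ring
  have h4 : (2 : ℤ) * (y + 1) ≤ 2 * k * (y + 1) := by nlinarith
  have h5 : (4 : ℤ) * (k * ℓ) ^ 2 * x < (y : ℤ) ^ 2 := by nlinarith
  exact_mod_cast h5

end Cfsg.Agent.Lib.Helper16_CohNil
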