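import Mathlib
import Cfsg.Prelude.Def_Characters
import Cfsg.Prelude.Def_OddOrderChar
import Cfsg.Agent.Lib.Helper16_CohBasic
import Cfsg.Agent.Lib.Helper16_CohCount
import Cfsg.Agent.Lib.Helper16_CohDescent
import Cfsg.Agent.Lib.Helper15_QuasiElem
import Cfsg.Agent.Lib.Helper77_QuotBlocks
import Cfsg.Agent.S1517

/-!
# Coherence: sub-systems, and coherence of `S(H₁)` for `[K,K] ≤ H₁` (helper16)

* `cs_subset`: a nonempty conjugation-closed subset of a coherence system is a coherence system;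
* `irr_linear_of_commutator_le_ker`: an irreducible character trivial on the derived subgroup is
  linear;
* `isCoherent_of_commutator_le`: for `K ⊴ L` solvable and `H₁ ⊴ L` with `[K,K] ≤ H₁`, `K ≰ H₁`,
  the set `S(H₁)` is coherent (all its members have degree `|L : K|`).
-/

set_option autoImplicit false

namespace Cfsg.Agent.Lib.Helper16_CohSub

open scoped ComplexConjugate
open Cfsg.Agent.Lib.Helper17_CohSys Cfsg.Agent.Lib.Helper16_CohBasic
  Cfsg.Agent.Lib.Helper16_CohCount Cfsg.Agent.Lib.Helper16_CohDescent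

section Sub

variable {L : Type*} [Group L] [Fintype L] {G : Type*} [Group G] [Fintype G]
variable {τ : (L → ℂ) → (G → ℂ)} {R : (L → ℂ) → Finset (G → ℂ)}

theorem zspanOn_mono {X : Type*} {S T : Set (X → ℂ)} (h : T ⊆ S) (A : Set X) :
    Cfsg.zspanOn T A ⊆ Cfsg.zspanOn S A :=
  fun _ ha => ⟨Submodule.span_mono h ha.1, ha.2⟩

/-- A nonempty conjugation-closed subset of a coherence system is a coherence system. -/
theorem cs_subset {S T : Set (L → ℂ)} (hS : Cfsg.IsCoherenceSystem S τ R) (hTS : T ⊆ S)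
    (hne : T.Nonempty) (hconj : ∀ χ ∈ T, Cfsg.conjFun χ ∈ T) :
    Cfsg.IsCoherenceSystem T τ R where
  nonempty := hne
  isCharacter := fun χ h => hS.isCharacter χ (hTS h)
  conj_mem := hconj
  conj_ne := fun χ h => hS.conj_ne χ (hTS h)
  isometry := isometry_mono (zspanOn_mono hTS _) hS.isometry
  map_one := fun α hα => hS.map_one α (zspanOn_mono hTS _ hα)
  orthogonal := fun χ hχ φ hφ => hS.orthogonal χ (hTS hχ) φ (hTS hφ)
  orthonormal := fun χ hχ => hS.orthonormal χ (hTS hχ)
  virtual := fun χ hχ => hS.virtual χ (hTS hχ)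
  sum_eq := fun χ hχ => hS.sum_eq χ (hTS hχ)
  disjoint := fun χ hχ φ hφ => hS.disjoint χ (hTS hχ) φ (hTS hφ)

end Sub

section Linear

/-- An irreducible character whose kernel contains all commutators is linear. -/
theorem irr_linear_of_commutator_le_ker {H : Type*} [Group H] [Finite H] {θ : H → ℂ}
    (hθ : Cfsg.IsIrrCharacter H θ) (hker : ∀ a b : H, θ (a * b * a⁻¹ * b⁻¹) = θ 1) :
    θ 1 = 1 := by
  have hker' : ∀ x ∈ commutator H, θ x = θ 1 := by
    intro x hx
    obtain ⟨n, ρ, hρ, rfl⟩ := hθ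
    -- the kernel of ρ is a subgroup containing all commutators
    have hmem : commutator H ≤ ρ.ker := by
      rw [commutator_def, Subgroup.commutator_le]
      intro a _ b _
      rw [MonoidHom.mem_ker, commutatorElement_def]
      have h1 := hker a b
      rw [Representation.char_one] at h1
      exact (Cfsg.Agent.Lib.Helper3_CharEigen.char_eq_finrank_iff ρ _).mp h1
    have h2 : ρ x = 1 := hmem hx
    have h3 : ρ x = ρ 1 := by rw [h2, map_one]
    unfold Representation.character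
    rw [h3]
  obtain ⟨χ, hχ⟩ := Cfsg.Agent.Lib.Helper77_QuotBlocks.exists_quot_char (commutator H)
    ⟨θ, hθ⟩ hker'
  simp only at hχ
  have hcomm : ∀ a b : H ⧸ commutator H, a * b = b * a :=
    fun a b => mul_comm (G := Abelianization H) a b
  have h1 := Cfsg.Agent.Lib.Helper15_QuasiElem.irr_one_eq_one_of_comm hcomm χ.2
  rw [hχ]
  exact h1

end Linear

section CohH1

variable {L : Type*} [Group L] [Fintype L] {G : Type*} [Group G] [Fintype G]

/-- Members of `S(H₁)` have degree `|L : K|` when `[K,K] ≤ H₁`. -/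
theorem deg_eq_index_of_commutator_le (K H₁ : Subgroup L) (hcomm : ⁅K, K⁆ ≤ H₁) {φ : L → ℂ}
    (hφ : φ ∈ Cfsg.inducedIrrAbove K H₁) : φ 1 = (K.index : ℂ) := by
  classical
  obtain ⟨θ, m, hθ, hker, rfl, hm, h1⟩ := deg_of_mem hφ
  have hlin : θ 1 = 1 := by
    apply irr_linear_of_commutator_le_ker hθ
    intro a b
    apply hker
    apply hcomm
    have := Subgroup.commutator_mem_commutator a.2 b.2
    rw [commutatorElement_def] at this
    simpa using this
  rw [indFun_one_index, hlin, mul_one]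

/-- `S(H₁)` is coherent when `[K,K] ≤ H₁` and `K ≰ H₁`. -/
theorem isCoherent_of_commutator_le (K : Subgroup L) [K.Normal]
    (hsolv : Group.IsSolvable K) (τ : (L → ℂ) → (G → ℂ)) (R : (L → ℂ) → Finset (G → ℂ))
    (hS : Cfsg.IsCoherenceSystem (Cfsg.inducedIrrAbove K ⊥) τ R) (H₁ : Subgroup L) [H₁.Normal]
    (hcomm : ⁅K, K⁆ ≤ H₁) (hH₁K : ¬ K ≤ H₁) :
    Cfsg.IsCoherent (Cfsg.inducedIrrAbove K H₁) {1}ᶜ τ := by
  obtain ⟨lam, -, -, hlam⟩ := exists_linear_mem K H₁ hsolv hH₁K
  have hsub := cs_subset hS (inducedIrrAbove_mono K (bot_le : ⊥ ≤ H₁)) ⟨_, hlam⟩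
    (fun χ hχ => conj_mem_inducedIrrAbove K H₁ hχ)
  apply Cfsg.Agent.S1517.result _ τ R hsub
  intro φ hφ ψ hψ
  rw [deg_eq_index_of_commutator_le K H₁ hcomm hφ, deg_eq_index_of_commutator_le K H₁ hcomm hψ]

end CohH1

end Cfsg.Agent.Lib.Helper16_CohSub
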