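import Mathlib
import Cfsg.Prelude.Def_Characters
import Cfsg.Prelude.Def_OddOrderChar
import Cfsg.Agent.Lib.Helper17_CohSys
import Cfsg.Agent.Lib.Helper17_CohExt
import Cfsg.Agent.Lib.Helper16_CohBasic
import Cfsg.Agent.Lib.Helper16_CohCount
import Cfsg.Agent.Lib.Helper16_CohDeg
import Cfsg.Agent.Lib.Helper16_CohDescent
import Cfsg.Agent.Lib.Helper16_CohExtend
import Cfsg.Agent.Lib.Helper16_CohExtend2
import Cfsg.Agent.Lib.Helper16_CohSub
import Cfsg.Agent.Lib.Helper16_CohIrr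
import Cfsg.Agent.Lib.Helper16_SectionNorm
import Cfsg.Agent.Lib.Helper3_CharDegree
import Cfsg.Agent.S1517

/-!
# Coherence: Peterfalvi (6.6) when `K` is a `p`-group (helper16)

`coherent_diff_of_pgroup`: `K ⊴ L` a `p`-group (`p` odd, `|L:K|` prime to `p`), `Z ⊴ L` nontrivial
and central in `K`, and all members of `S ∖ S(Z)` irreducible. Then `S ∖ S(Z)` is coherent.
-/

set_option autoImplicit false

namespace Cfsg.Agent.Lib.Helper16_CohPGroup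

open scoped ComplexConjugate
open Cfsg.Agent.Lib.Helper3_CharOrtho Cfsg.Agent.Lib.Helper75_CharArith
  Cfsg.Agent.Lib.Helper17_CohSys Cfsg.Agent.Lib.Helper75_Induced
  Cfsg.Agent.Lib.Helper3_CharBridge Cfsg.Agent.Lib.Helper3_CharComplete
  Cfsg.Agent.Lib.Helper16_CohBasic Cfsg.Agent.Lib.Helper16_CohCount
  Cfsg.Agent.Lib.Helper16_CohDescent Cfsg.Agent.Lib.Helper16_CohExtend
  Cfsg.Agent.Lib.Helper16_CohExtend2 Cfsg.Agent.Lib.Helper16_CohSub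
  Cfsg.Agent.Lib.Helper16_CohIrr Cfsg.Agent.Lib.Helper16_CohDeg
  Cfsg.Agent.Lib.Helper17_CohExt

section Arith

/-- The arithmetic core: the squares of the degrees below `e p^b` add up to at least
`e² p^(2b)`. -/
theorem arith_pgroup {ι : Type*} (Xf : Finset ι) (d : ι → ℕ) (e p c zc : ℕ) (hp : p.Prime)
    (hcop : Nat.Coprime e p)
    (hdeg : ∀ ψ ∈ Xf, ∃ j, d ψ = e * p ^ j)
    (hsum : ∑ ψ ∈ Xf, (d ψ) ^ 2 = e * p ^ c * zc)
    (b : ℕ) (hb : 2 * b ≤ c) (hex : ∃ ψ ∈ Xf, d ψ < e * p ^ b) :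
    e ^ 2 * p ^ (2 * b) ≤ ∑ ψ ∈ Xf.filter (fun ψ => d ψ < e * p ^ b), (d ψ) ^ 2 := by
  classical
  have he : 0 < e := by
    rcases Nat.eq_zero_or_pos e with h | h
    · obtain ⟨ψ, -, hψ⟩ := hex
      rw [h] at hψ; simp at hψ
    · exact h
  have hppos : 0 < p := hp.pos
  choose! j hj using hdeg
  set F := Xf.filter (fun ψ => d ψ < e * p ^ b) with hF
  set A' := ∑ ψ ∈ F, p ^ (2 * j ψ) with hA'
  have hA : ∑ ψ ∈ F, (d ψ) ^ 2 = e ^ 2 * A' := by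
    rw [hA', Finset.mul_sum]
    refine Finset.sum_congr rfl (fun ψ hψ => ?_)
    rw [hj ψ (Finset.mem_filter.1 hψ).1]
    ring
  have hB : p ^ (2 * b) ∣ ∑ ψ ∈ Xf.filter (fun ψ => ¬ d ψ < e * p ^ b), (d ψ) ^ 2 := by
    apply Finset.dvd_sum
    intro ψ hψ
    obtain ⟨hψX, hψd⟩ := Finset.mem_filter.1 hψ
    rw [hj ψ hψX] at hψd ⊢
    have hjb : b ≤ j ψ := by
      by_contra hlt
      push Not at hlt
      apply hψd
      exact Nat.mul_lt_mul_of_pos_left (Nat.pow_lt_pow_right hp.one_lt hlt) he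
    have : (e * p ^ j ψ) ^ 2 = p ^ (2 * b) * (e ^ 2 * p ^ (2 * (j ψ - b))) := by
      have h1 : 2 * j ψ = 2 * b + 2 * (j ψ - b) := by omega
      calc (e * p ^ j ψ) ^ 2 = e ^ 2 * p ^ (2 * j ψ) := by ring
        _ = e ^ 2 * (p ^ (2 * b) * p ^ (2 * (j ψ - b))) := by rw [h1, pow_add]
        _ = _ := by ring
    rw [this]
    exact Dvd.intro _ rfl
  have hsplit := Finset.sum_filter_add_sum_filter_not Xf (fun ψ => d ψ < e * p ^ b)
    (fun ψ => (d ψ) ^ 2)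
  rw [hsum] at hsplit
  have hdvd1 : p ^ (2 * b) ∣ e * p ^ c * zc := by
    have : p ^ (2 * b) ∣ p ^ c := pow_dvd_pow p hb
    exact Dvd.dvd.mul_right (Dvd.dvd.mul_left this e) zc
  have hdvd2 : p ^ (2 * b) ∣ ∑ ψ ∈ F, (d ψ) ^ 2 := by
    rw [← hsplit] at hdvd1
    exact (Nat.dvd_add_left hB).mp hdvd1
  rw [hA] at hdvd2
  have hcop2 : Nat.Coprime (p ^ (2 * b)) (e ^ 2) :=
    Nat.Coprime.pow _ _ hcop.symm
  have hdvd3 : p ^ (2 * b) ∣ A' := hcop2.dvd_of_dvd_mul_left hdvd2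
  have hA'pos : 0 < A' := by
    obtain ⟨ψ, hψX, hψd⟩ := hex
    apply Finset.sum_pos'
    · intro i _; positivity
    · exact ⟨ψ, Finset.mem_filter.2 ⟨hψX, hψd⟩, by positivity⟩
  have hle : p ^ (2 * b) ≤ A' := Nat.le_of_dvd hA'pos hdvd3
  rw [hA]
  exact Nat.mul_le_mul_left _ hle

end Arith

section Deg

/-- The degree of an irreducible character divides the group order. -/
theorem irr_deg_dvd_card {H : Type*} [Group H] [Fintype H] {θ : H → ℂ}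
    (hθ : Cfsg.IsIrrCharacter H θ) (m : ℕ) (hm : θ 1 = m) : m ∣ Nat.card H := by
  obtain ⟨n, ρ, hρ, rfl⟩ := hθ
  have : ρ.IsIrreducible := hρ
  rw [Representation.char_one] at hm
  have hm' : Module.finrank ℂ (Fin n → ℂ) = m := by exact_mod_cast hm
  rw [← hm']
  exact Cfsg.Agent.Lib.Helper3_CharDegree.finrank_dvd_card ρ

variable {L : Type*} [Group L] [Fintype L]

open scoped Classical in
/-- The squares of the degrees of the irreducible characters not having `Z` in their kernel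
add up to `|L| - |L : Z|`. -/
theorem sum_sq_not_ker (Z : Subgroup L) [Z.Normal] :
    ∑ χ : Cfsg.IrrCharacter L, (if ∀ n ∈ Z, (χ : L → ℂ) n = (χ : L → ℂ) 1 then 0 else
      (χ : L → ℂ) 1 * conj ((χ : L → ℂ) 1)) = (Nat.card L : ℂ) - (Z.index : ℂ) := by
  classical
  have h1 := Cfsg.Agent.Lib.Helper16_SectionNorm.sum_deg_sq_of_kernel (H := L) Z
  have h2 := Cfsg.Agent.Lib.Helper16_SectionNorm.sum_deg_sq_of_kernel (H := L) ⊥
  rw [Subgroup.index_bot] at h2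
  have h3 : ∀ χ : Cfsg.IrrCharacter L, (∀ n ∈ (⊥ : Subgroup L), (χ : L → ℂ) n = (χ : L → ℂ) 1) := by
    intro χ n hn
    rw [Subgroup.mem_bot.1 hn]
  rw [Finset.sum_congr rfl (fun χ _ => if_pos (h3 χ))] at h2
  rw [← h2, ← h1, ← Finset.sum_sub_distrib]
  refine Finset.sum_congr rfl (fun χ _ => ?_)
  split_ifs <;> simp

end Deg

section Main

variable {L : Type*} [Group L] [Fintype L] {G : Type*} [Group G] [Fintype G]

/-- Degrees of the members of `S` when `K` is a `p`-group with a central subgroup `Z`. -/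
theorem deg_form (K Z : Subgroup L) (hZc : ∀ z ∈ Z, ∀ k ∈ K, z * k = k * z)
    {p m : ℕ} (hp : p.Prime) (hKcard : Nat.card K = p ^ m) {φ : L → ℂ}
    (hφ : φ ∈ Cfsg.inducedIrrAbove K ⊥) :
    ∃ j, φ 1 = ((K.index * p ^ j : ℕ) : ℂ) ∧ (p ^ j) ^ 2 ≤ Z.relIndex K := by
  classical
  obtain ⟨θ, k, hθ, -, rfl, hk, h1⟩ := deg_of_mem hφ
  have hdvd := irr_deg_dvd_card hθ k hk
  rw [hKcard] at hdvd
  obtain ⟨j, -, rfl⟩ := (Nat.dvd_prime_pow hp).1 hdvd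
  refine ⟨j, h1, ?_⟩
  have hcent : Z.subgroupOf K ≤ Subgroup.center K := by
    intro a ha
    rw [Subgroup.mem_center_iff]
    intro b
    apply Subtype.ext
    have := hZc a ha b b.2
    simpa using this.symm
  exact deg_sq_le_index_central hθ (Z.subgroupOf K) hcent (p ^ j) hk

/-- The sum of the squares of the degrees over `S ∖ S(Z)` when its members are irreducible. -/
theorem exists_finset_diff (K : Subgroup L) (Z : Subgroup L) [Z.Normal] (hZK : Z ≤ K)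
    (hirr : ∀ χ ∈ Cfsg.inducedIrrAbove K ⊥ \ Cfsg.inducedIrrAbove K Z, Cfsg.IsIrrCharacter L χ)
    (d : (L → ℂ) → ℕ) (hd : ∀ φ ∈ Cfsg.inducedIrrAbove K ⊥, φ 1 = (d φ : ℂ)) :
    ∃ Xf : Finset (L → ℂ),
      (↑Xf : Set (L → ℂ)) = Cfsg.inducedIrrAbove K ⊥ \ Cfsg.inducedIrrAbove K Z ∧
      ∑ ψ ∈ Xf, (d ψ) ^ 2 + Z.index = Nat.card L := by
  classical
  have hXeq := diff_eq_irr K Z hZK hirr
  set F : Finset (Cfsg.IrrCharacter L) :=
    Finset.univ.filter (fun χ : Cfsg.IrrCharacter L => ¬ ∀ n ∈ Z, (χ : L → ℂ) n = (χ : L → ℂ) 1)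
    with hF
  refine ⟨F.image Subtype.val, ?_, ?_⟩
  · rw [hXeq]
    ext ψ
    simp only [Finset.coe_image, Set.mem_image, Finset.mem_coe, hF, Finset.mem_filter,
      Finset.mem_univ, true_and, Set.mem_ofPred_eq]
    constructor
    · rintro ⟨χ, hχ, rfl⟩
      refine ⟨χ.2, ?_⟩
      push Not at hχ
      exact hχ
    · rintro ⟨hψ, z, hz, hne⟩
      refine ⟨⟨ψ, hψ⟩, ?_, rfl⟩
      push Not
      exact ⟨z, hz, hne⟩
  · have hmem : ∀ χ ∈ F, (χ : L → ℂ) ∈ Cfsg.inducedIrrAbove K ⊥ := by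
      intro χ hχ
      have h1 : (χ : L → ℂ) ∈ Cfsg.inducedIrrAbove K ⊥ \ Cfsg.inducedIrrAbove K Z := by
        rw [hXeq]
        refine ⟨χ.2, ?_⟩
        have := (Finset.mem_filter.1 hχ).2
        push Not at this
        exact this
      exact h1.1
    have h1 := sum_sq_not_ker (L := L) Z
    have h2 : ((∑ ψ ∈ F.image Subtype.val, (d ψ) ^ 2 : ℕ) : ℂ) =
        (Nat.card L : ℂ) - (Z.index : ℂ) := by
      rw [← h1, Finset.sum_image (fun a _ b _ h => Subtype.ext h)]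
      push_cast
      rw [hF, Finset.sum_filter]
      refine Finset.sum_congr rfl (fun χ _ => ?_)
      by_cases hχ : ∀ n ∈ Z, (χ : L → ℂ) n = (χ : L → ℂ) 1
      · rw [if_neg (not_not.2 hχ), if_pos hχ]
      · rw [if_pos hχ, if_neg hχ]
        have hχF : χ ∈ F := Finset.mem_filter.2 ⟨Finset.mem_univ _, hχ⟩
        rw [hd _ (hmem χ hχF), Complex.conj_natCast]
        ring
    have h3 : ((∑ ψ ∈ F.image Subtype.val, (d ψ) ^ 2 + Z.index : ℕ) : ℂ) = (Nat.card L : ℂ) := by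
      rw [Nat.cast_add, h2]
      ring
    exact_mod_cast h3

/-- **Peterfalvi (6.6) for `p`-groups.** -/
theorem coherent_diff_of_pgroup (K : Subgroup L) [K.Normal]
    (τ : (L → ℂ) → (G → ℂ)) (R : (L → ℂ) → Finset (G → ℂ))
    (hS : Cfsg.IsCoherenceSystem (Cfsg.inducedIrrAbove K ⊥) τ R)
    (Z : Subgroup L) [Z.Normal] (hZ1 : Z ≠ ⊥) (hZK : Z ≤ K)
    (hZc : ∀ z ∈ Z, ∀ k ∈ K, z * k = k * z)
    (hirr : ∀ χ ∈ Cfsg.inducedIrrAbove K ⊥ \ Cfsg.inducedIrrAbove K Z, Cfsg.IsIrrCharacter L χ)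
    {p m : ℕ} (hp : p.Prime) (hp3 : 3 ≤ p) (hKcard : Nat.card K = p ^ m)
    (hcop : Nat.Coprime K.index p) :
    Cfsg.IsCoherent (Cfsg.inducedIrrAbove K ⊥ \ Cfsg.inducedIrrAbove K Z) {1}ᶜ τ := by
  classical
  obtain ⟨d, n, hd, hn, hnpos⟩ := cs_exists_deg_norm hS
  obtain ⟨Xf, hXf, hXsum⟩ := exists_finset_diff K Z hZK hirr d hd
  set X : Set (L → ℂ) := Cfsg.inducedIrrAbove K ⊥ \ Cfsg.inducedIrrAbove K Z with hXdef
  have hXS : X ⊆ Cfsg.inducedIrrAbove K ⊥ := Set.sdiff_subset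
  have hmemXf : ∀ ψ, ψ ∈ Xf ↔ ψ ∈ X := by
    intro ψ
    rw [← hXf]
    rfl
  have hXc : ∀ φ ∈ X, Cfsg.conjFun φ ∈ X := by
    intro φ hφ
    refine ⟨hS.conj_mem φ hφ.1, fun h => hφ.2 ?_⟩
    have := conj_mem_inducedIrrAbove K Z h
    rwa [conjFun_conjFun] at this
  -- norms are one on `X`
  have hn1 : ∀ ψ ∈ X, n ψ = 1 := by
    intro ψ hψ
    have h1 := hn ψ hψ.1
    rw [classInner_self_of_isIrrCharacter (hirr ψ hψ)] at h1
    exact_mod_cast h1.symm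
  -- numerical data
  set e := K.index with he
  have hepos : 0 < e := Nat.pos_of_ne_zero Subgroup.index_ne_zero_of_finite
  have hrel_dvd : Z.relIndex K ∣ p ^ m := by
    rw [← hKcard]
    exact Subgroup.index_dvd_card _
  obtain ⟨c, -, hc⟩ := (Nat.dvd_prime_pow hp).1 hrel_dvd
  have hZidx : Z.index = e * p ^ c := by
    rw [← Subgroup.relIndex_mul_index hZK, hc, mul_comm]
  have hZcard : 2 ≤ Nat.card Z := by
    have h1 : Nat.card Z ≠ 1 := by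
      intro h
      exact hZ1 (Subgroup.card_eq_one.1 h)
    have h2 : 0 < Nat.card Z := Nat.card_pos
    omega
  have hsum : ∑ ψ ∈ Xf, (d ψ) ^ 2 = e * p ^ c * (Nat.card Z - 1) := by
    have h1 := Subgroup.card_mul_index Z
    rw [← h1, hZidx] at hXsum
    rw [hZidx] at h1
    have h2 : Nat.card Z * (e * p ^ c) = e * p ^ c * (Nat.card Z - 1) + e * p ^ c := by
      obtain ⟨k, hk⟩ : ∃ k, Nat.card Z = k + 1 := ⟨Nat.card Z - 1, by omega⟩
      rw [hk]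
      simp only [Nat.add_sub_cancel]
      ring
    omega
  have hdeg2 : ∀ ψ ∈ X, ∃ j, d ψ = e * p ^ j ∧ 2 * j ≤ c := by
    intro ψ hψ
    obtain ⟨j, hj1, hj2⟩ := deg_form K Z hZc hp hKcard hψ.1
    refine ⟨j, ?_, ?_⟩
    · have := hd ψ hψ.1
      rw [hj1] at this
      exact_mod_cast this.symm
    · rw [hc, ← pow_mul, mul_comm] at hj2
      exact (Nat.pow_le_pow_iff_right hp.one_lt).1 hj2
  have hdeg : ∀ ψ ∈ Xf, ∃ j, d ψ = e * p ^ j := by
    intro ψ hψ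
    obtain ⟨j, hj, -⟩ := hdeg2 ψ ((hmemXf ψ).1 hψ)
    exact ⟨j, hj⟩
  -- nonempty
  have hXfne : Xf.Nonempty := by
    rw [Finset.nonempty_iff_ne_empty]
    intro h
    rw [h, Finset.sum_empty] at hsum
    have h1 : 0 < e * p ^ c * (Nat.card Z - 1) := by
      apply Nat.mul_pos (Nat.mul_pos hepos (pow_pos hp.pos _))
      omega
    omega
  obtain ⟨χ₁, hχ₁Xf, hχ₁min⟩ := Finset.exists_min_image Xf d hXfne
  have hχ₁X : χ₁ ∈ X := (hmemXf χ₁).1 hχ₁Xf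
  have hXne : X.Nonempty := ⟨χ₁, hχ₁X⟩
  -- degrees of conjugates
  have hdconj : ∀ ψ ∈ Cfsg.inducedIrrAbove K ⊥, d (Cfsg.conjFun ψ) = d ψ := by
    intro ψ hψ
    have h1 := hd _ (hS.conj_mem ψ hψ)
    have h2 := hd ψ hψ
    have h3 : Cfsg.conjFun ψ 1 = (d ψ : ℂ) := by
      unfold Cfsg.conjFun
      rw [h2, Complex.conj_natCast]
    rw [h3] at h1
    exact_mod_cast h1.symm
  -- the starting set
  set T₀ : Set (L → ℂ) := {ψ | ψ ∈ X ∧ d ψ = d χ₁} with hT₀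
  have hT₀X : T₀ ⊆ X := fun ψ hψ => hψ.1
  have hT₀S : T₀ ⊆ Cfsg.inducedIrrAbove K ⊥ := fun ψ hψ => hXS hψ.1
  have hT₀c : ∀ φ ∈ T₀, Cfsg.conjFun φ ∈ T₀ := by
    intro φ hφ
    exact ⟨hXc φ hφ.1, by rw [hdconj φ (hXS hφ.1)]; exact hφ.2⟩
  have hχ₁T₀ : χ₁ ∈ T₀ := ⟨hχ₁X, rfl⟩
  have hcohT₀ : Cfsg.IsCoherent T₀ {1}ᶜ τ := by
    apply Cfsg.Agent.S1517.result T₀ τ R (cs_subset hS hT₀S ⟨χ₁, hχ₁T₀⟩ hT₀c)
    intro φ hφ ψ hψ
    rw [hd φ (hT₀S hφ), hd ψ (hT₀S hψ), hφ.2, hψ.2]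
  -- the loop
  obtain ⟨Y, -, -, hXY, -, hYcoh⟩ := exists_coherent_superset' hS d n hd hn T₀ X hT₀S hXS hT₀c
    hcohT₀ (by
      intro Y hYS hT₀Y hYc hYcoh hnot
      obtain ⟨φ₀, hφ₀X, hφ₀Y⟩ := Set.not_subset.1 hnot
      have hne : (Xf.filter (fun ψ => ψ ∉ Y)).Nonempty :=
        ⟨φ₀, Finset.mem_filter.2 ⟨(hmemXf φ₀).2 hφ₀X, hφ₀Y⟩⟩
      obtain ⟨φ, hφmem, hφmin⟩ := Finset.exists_min_image _ d hne
      obtain ⟨hφXf, hφY⟩ := Finset.mem_filter.1 hφmem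
      have hφX : φ ∈ X := (hmemXf φ).1 hφXf
      have hχ₁Y : χ₁ ∈ Y := hT₀Y hχ₁T₀
      obtain ⟨a, ha, -⟩ := hdeg2 χ₁ hχ₁X
      obtain ⟨b, hb, hbc⟩ := hdeg2 φ hφX
      have hab : a < b := by
        have h1 : d χ₁ ≤ d φ := hχ₁min φ hφXf
        rw [ha, hb] at h1
        have h2 : p ^ a ≤ p ^ b := Nat.le_of_mul_le_mul_left h1 hepos
        have h3 : a ≤ b := (Nat.pow_le_pow_iff_right hp.one_lt).1 h2
        rcases Nat.lt_or_ge a b with h | h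
        · exact h
        · exfalso
          have h4 : a = b := le_antisymm h3 h
          apply hφY
          apply hT₀Y
          exact ⟨hφX, by rw [ha, hb, h4]⟩
      refine ⟨φ, hφX, hφY, χ₁, hχ₁Y, ?_, ?_⟩
      · rw [ha, hb]
        exact Nat.mul_dvd_mul_left e (pow_dvd_pow p hab.le)
      · have hlt : d χ₁ < e * p ^ b := by
          rw [ha]
          exact Nat.mul_lt_mul_of_pos_left (Nat.pow_lt_pow_right hp.one_lt hab) hepos
        have key := arith_pgroup Xf d e p c (Nat.card Z - 1) hp hcop hdeg hsum b hbc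
          ⟨χ₁, hχ₁Xf, hlt⟩
        -- the small-degree members lie in `Y`
        have hsub : Xf.filter (fun ψ => d ψ < e * p ^ b) ⊆ Y := by
          intro ψ hψ
          obtain ⟨hψXf, hψd⟩ := Finset.mem_filter.1 hψ
          by_contra hψY
          have := hφmin ψ (Finset.mem_filter.2 ⟨hψXf, hψY⟩)
          rw [hb] at this
          omega
        have h1 : ∑ ψ ∈ Xf.filter (fun ψ => d ψ < e * p ^ b), ((d ψ : ℝ) ^ 2 / (n ψ : ℝ)) ≤
            ∑ ξ ∈ Y, ((d ξ : ℝ) ^ 2 / (n ξ : ℝ)) :=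
          Finset.sum_le_sum_of_subset_of_nonneg hsub (fun ξ _ _ => by positivity)
        have h2 : ∑ ψ ∈ Xf.filter (fun ψ => d ψ < e * p ^ b), ((d ψ : ℝ) ^ 2 / (n ψ : ℝ)) =
            ((∑ ψ ∈ Xf.filter (fun ψ => d ψ < e * p ^ b), (d ψ) ^ 2 : ℕ) : ℝ) := by
          push_cast
          refine Finset.sum_congr rfl (fun ψ hψ => ?_)
          rw [hn1 ψ ((hmemXf ψ).1 (Finset.mem_filter.1 hψ).1)]
          simp
        have h3 : 2 * d φ * d χ₁ < e ^ 2 * p ^ (2 * b) := by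
          rw [ha, hb]
          have h4 : p ^ b = p ^ a * p ^ (b - a) := by
            rw [← pow_add]; congr 1; omega
          have h5 : 3 ≤ p ^ (b - a) := by
            calc 3 ≤ p := hp3
              _ = p ^ 1 := (pow_one p).symm
              _ ≤ p ^ (b - a) := Nat.pow_le_pow_right hp.pos (by omega)
          have h6 : 0 < e ^ 2 * p ^ b * p ^ a := by positivity
          have h7 : e ^ 2 * p ^ (2 * b) = e ^ 2 * p ^ b * p ^ a * p ^ (b - a) := by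
            rw [two_mul, pow_add]
            nth_rewrite 2 [h4]
            ring
          have h8 : 2 * (e * p ^ b) * (e * p ^ a) = e ^ 2 * p ^ b * p ^ a * 2 := by ring
          rw [h7, h8]
          exact Nat.mul_lt_mul_of_pos_left (by omega) h6
        have h9 : ((2 * d φ * d χ₁ : ℕ) : ℝ) < ((e ^ 2 * p ^ (2 * b) : ℕ) : ℝ) := by
          exact_mod_cast h3
        have h10 : ((e ^ 2 * p ^ (2 * b) : ℕ) : ℝ) ≤
            ((∑ ψ ∈ Xf.filter (fun ψ => d ψ < e * p ^ b), (d ψ) ^ 2 : ℕ) : ℝ) := by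
          exact_mod_cast key
        rw [← h2] at h10
        have h11 : (2 * (d φ : ℝ) * (d χ₁ : ℝ)) = ((2 * d φ * d χ₁ : ℕ) : ℝ) := by
          push_cast; ring
        rw [h11]
        linarith)
  refine isCoherent_of_subset hXY hYcoh ⟨χ₁ - Cfsg.conjFun χ₁,
    cs_sub_conj_mem (cs_subset hS hXS hXne hXc) hχ₁X, ?_⟩
  intro h
  exact hS.conj_ne χ₁ (hXS hχ₁X) (sub_eq_zero.1 h).symm

/-- `S ∖ S(Z)` is nonempty for `Z ≠ 1`. -/
theorem diff_nonempty (K : Subgroup L) {τ : (L → ℂ) → (G → ℂ)} {R : (L → ℂ) → Finset (G → ℂ)}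
    (hS : Cfsg.IsCoherenceSystem (Cfsg.inducedIrrAbove K ⊥) τ R)
    (Z : Subgroup L) [Z.Normal] (hZ1 : Z ≠ ⊥) (hZK : Z ≤ K)
    (hirr : ∀ χ ∈ Cfsg.inducedIrrAbove K ⊥ \ Cfsg.inducedIrrAbove K Z, Cfsg.IsIrrCharacter L χ) :
    (Cfsg.inducedIrrAbove K ⊥ \ Cfsg.inducedIrrAbove K Z).Nonempty := by
  classical
  obtain ⟨d, n, hd, -, -⟩ := cs_exists_deg_norm hS
  obtain ⟨Xf, hXf, hXsum⟩ := exists_finset_diff K Z hZK hirr d hd
  rw [← hXf, Finset.coe_nonempty, Finset.nonempty_iff_ne_empty]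
  intro h
  rw [h, Finset.sum_empty, zero_add, ← Subgroup.card_mul_index Z] at hXsum
  have h1 : Nat.card Z = 1 := by
    have hpos : 0 < Z.index := Nat.pos_of_ne_zero Subgroup.index_ne_zero_of_finite
    have h2 : Z.index * 1 = Z.index * Nat.card Z := by rw [mul_one, mul_comm]; exact hXsum
    exact (Nat.eq_of_mul_eq_mul_left hpos h2).symm
  exact hZ1 (Subgroup.card_eq_one.1 h1)

/-- If `S` is coherent, so is `S ∖ S(Z)`. -/
theorem coherent_diff_of_coherent (K : Subgroup L) {τ : (L → ℂ) → (G → ℂ)}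
    {R : (L → ℂ) → Finset (G → ℂ)}
    (hS : Cfsg.IsCoherenceSystem (Cfsg.inducedIrrAbove K ⊥) τ R)
    (Z : Subgroup L) [Z.Normal] (hZ1 : Z ≠ ⊥) (hZK : Z ≤ K)
    (hirr : ∀ χ ∈ Cfsg.inducedIrrAbove K ⊥ \ Cfsg.inducedIrrAbove K Z, Cfsg.IsIrrCharacter L χ)
    (hcoh : Cfsg.IsCoherent (Cfsg.inducedIrrAbove K ⊥) {1}ᶜ τ) :
    Cfsg.IsCoherent (Cfsg.inducedIrrAbove K ⊥ \ Cfsg.inducedIrrAbove K Z) {1}ᶜ τ := by
  obtain ⟨χ₁, hχ₁⟩ := diff_nonempty K hS Z hZ1 hZK hirr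
  have hXS : Cfsg.inducedIrrAbove K ⊥ \ Cfsg.inducedIrrAbove K Z ⊆ Cfsg.inducedIrrAbove K ⊥ :=
    Set.sdiff_subset
  have hXc : ∀ φ ∈ Cfsg.inducedIrrAbove K ⊥ \ Cfsg.inducedIrrAbove K Z,
      Cfsg.conjFun φ ∈ Cfsg.inducedIrrAbove K ⊥ \ Cfsg.inducedIrrAbove K Z := by
    intro φ hφ
    refine ⟨hS.conj_mem φ hφ.1, fun h => hφ.2 ?_⟩
    have := conj_mem_inducedIrrAbove K Z h
    rwa [conjFun_conjFun] at this
  refine isCoherent_of_subset hXS hcoh ⟨χ₁ - Cfsg.conjFun χ₁,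
    cs_sub_conj_mem (cs_subset hS hXS ⟨χ₁, hχ₁⟩ hXc) hχ₁, ?_⟩
  intro h
  exact hS.conj_ne χ₁ (hXS hχ₁) (sub_eq_zero.1 h).symm

end Main

end Cfsg.Agent.Lib.Helper16_CohPGroup
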