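import Mathlib
import Cfsg.Prelude.Def_Characters
import Cfsg.Prelude.Def_OddOrderChar
import Cfsg.Agent.Lib.Helper17_CohSys
import Cfsg.Agent.Lib.Helper17_CohExt
import Cfsg.Agent.S1515

/-!
# Coherence: adjoining a character of smaller degree (helper16)

The key step of Sibley's theorem (Peterfalvi (6.8)).  Let `X` be a coherent, conjugation-closed set
of members of norm one of a coherence system, `φ ∈ X` of minimal degree `a ψ(1)` dividing all the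
degrees in `X`, where `ψ` is a member of norm one with `ψ, conj ψ ∉ X`.  If the inner products of
`τ (φ - a ψ)` with the two members of `R ψ` are divisible by `a`, then `X ∪ {ψ, conj ψ}` is
coherent.

* `bessel_indexed`: Bessel's inequality for an orthonormal indexed family, with the equality case.
* `small_extension`: the extension statement.
-/

set_option autoImplicit false

namespace Cfsg.Agent.Lib.Helper16_CohSmall

open scoped ComplexConjugate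
open Cfsg.Agent.Lib.Helper3_CharOrtho Cfsg.Agent.Lib.Helper75_CharArith
  Cfsg.Agent.Lib.Helper17_CohSys Cfsg.Agent.Lib.Helper17_CohExt

section Bessel

variable {G : Type*} [Group G] [Fintype G]

/-- Bessel's inequality for an orthonormal indexed family, with the equality case. -/
theorem bessel_indexed {ι : Type*} [DecidableEq ι] (s : Finset ι) (e : ι → G → ℂ)
    (horth : ∀ i ∈ s, ∀ j ∈ s, Cfsg.classInner (e i) (e j) = if i = j then 1 else 0)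
    (Θ : G → ℂ) :
    ∑ i ∈ s, ‖Cfsg.classInner Θ (e i)‖ ^ 2 ≤ (Cfsg.classInner Θ Θ).re ∧
    (∑ i ∈ s, ‖Cfsg.classInner Θ (e i)‖ ^ 2 = (Cfsg.classInner Θ Θ).re →
      Θ = ∑ i ∈ s, Cfsg.classInner Θ (e i) • e i) := by
  set c : ι → ℂ := fun i => Cfsg.classInner Θ (e i) with hc
  set P : G → ℂ := ∑ i ∈ s, c i • e i with hP
  have hkey : ∀ i, c i * conj (c i) = ((‖c i‖ ^ 2 : ℝ) : ℂ) := fun i => mul_conj_eq_norm_sq (c i)
  have h1 : Cfsg.classInner Θ P = ((∑ i ∈ s, ‖c i‖ ^ 2 : ℝ) : ℂ) := by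
    rw [hP, classInner_sum_right]
    push_cast
    refine Finset.sum_congr rfl (fun i _ => ?_)
    rw [classInner_smul_right, mul_comm]
    have := hkey i
    push_cast at this
    exact this
  have h2 : Cfsg.classInner P Θ = ((∑ i ∈ s, ‖c i‖ ^ 2 : ℝ) : ℂ) := by
    rw [← classInner_conj_symm, h1, Complex.conj_ofReal]
  have h3 : Cfsg.classInner P P = ((∑ i ∈ s, ‖c i‖ ^ 2 : ℝ) : ℂ) := by
    rw [hP, inner_sum_sum]
    push_cast
    refine Finset.sum_congr rfl (fun i hi => ?_)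
    rw [Finset.sum_eq_single i]
    · rw [horth i hi i hi, if_pos rfl, mul_one]
      have := hkey i
      push_cast at this
      exact this
    · intro j hj hji
      rw [horth i hi j hj, if_neg (Ne.symm hji), mul_zero]
    · intro h; exact absurd hi h
  have h4 : Cfsg.classInner (Θ - P) (Θ - P) =
      Cfsg.classInner Θ Θ - ((∑ i ∈ s, ‖c i‖ ^ 2 : ℝ) : ℂ) := by
    rw [classInner_sub_left, classInner_sub_right, classInner_sub_right, h1, h2, h3]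
    ring
  have hre := congrArg Complex.re h4
  rw [Complex.sub_re, Complex.ofReal_re] at hre
  constructor
  · have := classInner_self_re_nonneg (Θ - P)
    linarith
  · intro heq
    have h0 : (Cfsg.classInner (Θ - P) (Θ - P)).re = 0 := by linarith
    exact sub_eq_zero.1 (eq_zero_of_classInner_self_re h0)

end Bessel

section Key

variable {L : Type*} [Group L] [Fintype L] {G : Type*} [Group G] [Fintype G]
variable {S : Set (L → ℂ)} {τ : (L → ℂ) → (G → ℂ)} {R : (L → ℂ) → Finset (G → ℂ)}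

/-- An integer inequality used below. -/
theorem int_key {a g₁ g₂ v s' : ℤ} (ha : a ≠ 0) (hg : g₁ + g₂ = -1) (hs : 2 ≤ s')
    (h : a ^ 2 * (g₁ ^ 2 + g₂ ^ 2) + (v ^ 2 * s' + 2 * v + 1) ≤ 1 + a ^ 2) :
    (g₁ = 0 ∨ g₁ = -1) ∧ (v = 0 ∨ (v = -1 ∧ s' = 2)) ∧
      a ^ 2 * (g₁ ^ 2 + g₂ ^ 2) + (v ^ 2 * s' + 2 * v + 1) = 1 + a ^ 2 := by
  have hg₂ : g₂ = -1 - g₁ := by omega
  subst hg₂
  have hA : 0 ≤ g₁ ^ 2 + g₁ := by
    rcases le_or_gt 0 g₁ with h1 | h1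
    · nlinarith
    · have : g₁ ≤ -1 := by omega
      nlinarith
  have hV : 0 ≤ v ^ 2 + v := by
    rcases le_or_gt 0 v with h1 | h1
    · nlinarith
    · have : v ≤ -1 := by omega
      nlinarith
  have ha2 : 0 < a ^ 2 := by positivity
  have hB : 0 ≤ v ^ 2 * s' + 2 * v := by nlinarith [sq_nonneg v]
  have hsum : a ^ 2 * (2 * (g₁ ^ 2 + g₁)) + (v ^ 2 * s' + 2 * v) ≤ 0 := by nlinarith
  have hA0 : g₁ ^ 2 + g₁ = 0 := by
    by_contra hne
    have : 1 ≤ g₁ ^ 2 + g₁ := by omega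
    nlinarith
  have hB0 : v ^ 2 * s' + 2 * v = 0 := by nlinarith
  refine ⟨?_, ?_, ?_⟩
  · have : g₁ * (g₁ + 1) = 0 := by nlinarith
    rcases mul_eq_zero.1 this with h1 | h1
    · exact Or.inl h1
    · exact Or.inr (by omega)
  · by_cases hv : v = 0
    · exact Or.inl hv
    · right
      have hv2 : 0 < v ^ 2 := by positivity
      have h1 : (s' - 2) * v ^ 2 ≤ 0 := by nlinarith
      have h2 : s' = 2 := by
        by_contra hne
        have : 1 ≤ s' - 2 := by omega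
        nlinarith
      subst h2
      have : v * (v + 1) = 0 := by nlinarith
      rcases mul_eq_zero.1 this with h1 | h1
      · exact absurd h1 hv
      · exact ⟨by omega, rfl⟩
  · nlinarith

/-- The decomposition of `τ (φ - a ψ)` forced by Bessel's inequality and the divisibility
hypothesis. -/
theorem small_key (hS : Cfsg.IsCoherenceSystem S τ R) (d : (L → ℂ) → ℕ)
    (hd : ∀ φ ∈ S, φ 1 = (d φ : ℂ))
    (X : Finset (L → ℂ)) (hXS : (↑X : Set (L → ℂ)) ⊆ S) (hXc : ∀ φ ∈ X, Cfsg.conjFun φ ∈ X)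
    (hX1 : ∀ ξ ∈ X, Cfsg.classInner ξ ξ = 1)
    {τ₁ : (L → ℂ) → (G → ℂ)} (hτ₁ : Cfsg.IsLinearIsometryOn (Cfsg.zspan (↑X : Set (L → ℂ))) τ₁)
    (hag : ∀ α ∈ Cfsg.zspanOn (↑X : Set (L → ℂ)) ({1}ᶜ : Set L), τ₁ α = τ α)
    {ψ : L → ℂ} (hψ : ψ ∈ S) (hψX : ψ ∉ X) (hψcX : Cfsg.conjFun ψ ∉ X)
    (hψ1 : Cfsg.classInner ψ ψ = 1)
    {φ : L → ℂ} (hφ : φ ∈ X) {a : ℕ} (ha : d φ = a * d ψ) (hdvd : ∀ ξ ∈ X, d φ ∣ d ξ)
    (hdiv : ∀ β ∈ R ψ, ∃ g : ℤ, Cfsg.classInner (τ (φ - (a : ℤ) • ψ)) β = (a : ℂ) * g) :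
    ∃ βa βb : G → ℂ, R ψ = {βa, βb} ∧ βa ≠ βb ∧
      (τ (φ - (a : ℤ) • ψ) = τ₁ φ - (a : ℤ) • βa ∨
        (X = {φ, Cfsg.conjFun φ} ∧
          τ (φ - (a : ℤ) • ψ) = -τ₁ (Cfsg.conjFun φ) - (a : ℤ) • βa)) := by
  classical
  have hφS : φ ∈ S := hXS hφ
  have hcψ : Cfsg.conjFun ψ ∈ S := hS.conj_mem ψ hψ
  have hcφ : Cfsg.conjFun φ ∈ X := hXc φ hφ
  have hcφne : Cfsg.conjFun φ ≠ φ := hS.conj_ne φ hφS
  have hcψne : Cfsg.conjFun ψ ≠ ψ := hS.conj_ne ψ hψ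
  have hτ := cs_isometry hS
  -- degrees
  have hdpos : ∀ ξ ∈ S, d ξ ≠ 0 := by
    intro ξ hξ h0
    have h1 : ξ 1 = 0 := by rw [hd ξ hξ, h0]; simp
    exact cs_ne_zero hS hξ (char_eq_zero_of_apply_one (hS.isCharacter ξ hξ) h1)
  have hdφ := hdpos φ hφS
  have ha0 : a ≠ 0 := by
    rintro rfl
    rw [zero_mul] at ha
    exact hdφ ha
  have hdconj : ∀ ξ ∈ S, d (Cfsg.conjFun ξ) = d ξ := by
    intro ξ hξ
    have h1 := hd _ (hS.conj_mem ξ hξ)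
    rw [conjFun_apply_one (hS.isCharacter ξ hξ), hd ξ hξ] at h1
    exact_mod_cast h1.symm
  choose! b hb using hdvd
  have hbφ : b φ = 1 := by
    have h1 := hb φ hφ
    have h2 : d φ * b φ = d φ * 1 := by rw [← h1, mul_one]
    exact Nat.eq_of_mul_eq_mul_left (Nat.pos_of_ne_zero hdφ) h2
  have hbcφ : b (Cfsg.conjFun φ) = 1 := by
    have h1 := hb _ hcφ
    rw [hdconj φ hφS] at h1
    have h2 : d φ * b (Cfsg.conjFun φ) = d φ * 1 := by rw [← h1, mul_one]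
    exact Nat.eq_of_mul_eq_mul_left (Nat.pos_of_ne_zero hdφ) h2
  -- the element `φ - a ψ`
  set α₀ : L → ℂ := φ - (a : ℤ) • ψ with hα₀
  have hmem : α₀ ∈ Cfsg.zspanOn S ({1}ᶜ : Set L) := by
    refine ⟨Submodule.sub_mem _ (Submodule.subset_span hφS)
      (Submodule.smul_mem _ _ (Submodule.subset_span hψ)), ?_⟩
    intro x hx
    have hx' : x = 1 := by simpa using hx
    rw [hx', hα₀, Pi.sub_apply, Pi.smul_apply, hd φ hφS, hd ψ hψ, ha]
    push_cast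
    simp
  set Θ : G → ℂ := τ α₀ with hΘ
  have hΘg : Cfsg.IsGeneralizedCharacter G Θ := hS.isometry.2.2.2 _ hmem
  -- orthogonality relations in `S`
  have hφψ : Cfsg.classInner φ ψ = 0 := hS.orthogonal φ hφS ψ hψ (fun h => hψX (h ▸ hφ))
  have hψφ : Cfsg.classInner ψ φ = 0 := by rw [← classInner_conj_symm, hφψ, map_zero]
  have hφcψ : Cfsg.classInner φ (Cfsg.conjFun ψ) = 0 :=
    hS.orthogonal φ hφS _ hcψ (fun h => hψcX (h ▸ hφ))
  have hψcψ : Cfsg.classInner ψ (Cfsg.conjFun ψ) = 0 := cs_orth_conj hS hψ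
  have hφφ : Cfsg.classInner φ φ = 1 := hX1 φ hφ
  have hnorm : Cfsg.classInner Θ Θ = 1 + (a : ℂ) ^ 2 := by
    rw [hΘ, hS.isometry.2.2.1 _ hmem _ hmem, hα₀]
    simp only [classInner_sub_left, classInner_sub_right, classInner_zsmul_left,
      classInner_zsmul_right]
    rw [hφφ, hφψ, hψφ, hψ1]
    push_cast
    ring
  -- inner products with `τ₁ X`
  obtain ⟨c, hc⟩ := Cfsg.Agent.S1515.inner_int hΘg (hτ₁.2.2.2 _ (subset_zspan hφ))
  have hcoef : ∀ ξ ∈ X, Cfsg.classInner Θ (τ₁ ξ) =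
      (((b ξ : ℤ) * (c - 1) + (if ξ = φ then 1 else 0) : ℤ) : ℂ) := by
    intro ξ hξ
    by_cases hξφ : ξ = φ
    · rw [hξφ, hc, hbφ, if_pos rfl]
      push_cast
      ring
    · rw [if_neg hξφ]
      have hξS := hXS hξ
      have hm1 : ξ - (b ξ : ℤ) • φ ∈ Cfsg.zspanOn (↑X : Set (L → ℂ)) ({1}ᶜ : Set L) := by
        refine ⟨Submodule.sub_mem _ (Submodule.subset_span hξ)
          (Submodule.smul_mem _ _ (Submodule.subset_span hφ)), ?_⟩
        intro x hx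
        have hx' : x = 1 := by simpa using hx
        rw [hx', Pi.sub_apply, Pi.smul_apply, hd ξ hξS, hd φ hφS, hb ξ hξ]
        push_cast
        simp
        ring
      have hm1S : ξ - (b ξ : ℤ) • φ ∈ Cfsg.zspanOn S ({1}ᶜ : Set L) :=
        ⟨Submodule.span_mono hXS hm1.1, hm1.2⟩
      have h1 : τ₁ (ξ - (b ξ : ℤ) • φ) = τ₁ ξ - (b ξ : ℤ) • τ₁ φ := by
        rw [map_sub_of (M := Submodule.span ℤ (↑X : Set (L → ℂ))) hτ₁ (Submodule.subset_span hξ)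
          (Submodule.smul_mem _ _ (Submodule.subset_span hφ)), hτ₁.2.1 _ (subset_zspan hφ)]
      have h2 : Cfsg.classInner Θ (τ (ξ - (b ξ : ℤ) • φ)) = -(b ξ : ℂ) := by
        rw [hΘ, hS.isometry.2.2.1 _ hmem _ hm1S, hα₀]
        simp only [classInner_sub_left, classInner_sub_right, classInner_zsmul_left,
          classInner_zsmul_right]
        rw [hφφ, hψφ, hS.orthogonal φ hφS ξ hξS (Ne.symm hξφ),
          hS.orthogonal ψ hψ ξ hξS (fun h => hψX (h ▸ hξ))]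
        push_cast
        ring
      rw [← hag _ hm1, h1, classInner_sub_right, classInner_zsmul_right, hc] at h2
      have h3 : Cfsg.classInner Θ (τ₁ ξ) = (b ξ : ℂ) * (c : ℂ) - (b ξ : ℂ) := by
        have : ((b ξ : ℤ) : ℂ) = (b ξ : ℂ) := by push_cast; rfl
        rw [this] at h2
        linear_combination h2
      rw [h3]
      push_cast
      ring
  -- the two members of `R ψ`
  have hcard : (R ψ).card = 2 := by
    have := cs_card_R hS hψ (n₁ := 1) (by rw [hψ1]; simp)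
    simpa using this
  obtain ⟨β₁, β₂, hβne, hR⟩ := Finset.card_eq_two.1 hcard
  have hβ₁ : β₁ ∈ R ψ := by rw [hR]; simp
  have hβ₂ : β₂ ∈ R ψ := by rw [hR]; simp
  have hsum12 : Cfsg.classInner Θ β₁ + Cfsg.classInner Θ β₂ = -(a : ℂ) := by
    have h1 : Cfsg.classInner Θ (τ (ψ - Cfsg.conjFun ψ)) = -(a : ℂ) := by
      rw [hΘ, hS.isometry.2.2.1 _ hmem _ (cs_sub_conj_mem hS hψ), hα₀]
      simp only [classInner_sub_left, classInner_sub_right, classInner_zsmul_left]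
      rw [hφψ, hφcψ, hψ1, hψcψ]
      push_cast
      ring
    rw [hS.sum_eq ψ hψ, hR, Finset.sum_pair hβne, classInner_add_right] at h1
    exact h1
  obtain ⟨g₁, hg₁⟩ := hdiv β₁ hβ₁
  obtain ⟨g₂, hg₂⟩ := hdiv β₂ hβ₂
  have hg12 : g₁ + g₂ = -1 := by
    rw [hg₁, hg₂] at hsum12
    have ha0' : (a : ℂ) ≠ 0 := by exact_mod_cast ha0
    have h1 : (a : ℂ) * ((g₁ : ℂ) + (g₂ : ℂ) + 1) = 0 := by linear_combination hsum12
    have h2 : ((g₁ : ℂ) + (g₂ : ℂ) + 1) = 0 := (mul_eq_zero.1 h1).resolve_left ha0'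
    have h3 : ((g₁ + g₂ + 1 : ℤ) : ℂ) = 0 := by push_cast; exact h2
    have h4 : g₁ + g₂ + 1 = 0 := by exact_mod_cast h3
    omega
  -- the orthonormal family
  set s : Finset (L → ℂ) := insert ψ (insert (Cfsg.conjFun ψ) X) with hs
  set e : (L → ℂ) → (G → ℂ) := fun ξ =>
    if ξ = ψ then β₁ else if ξ = Cfsg.conjFun ψ then β₂ else τ₁ ξ with he
  have heψ : e ψ = β₁ := by simp [he]
  have hecψ : e (Cfsg.conjFun ψ) = β₂ := by simp [he, hcψne]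
  have heX : ∀ ξ ∈ X, e ξ = τ₁ ξ := by
    intro ξ hξ
    have e1 : ξ ≠ ψ := fun h => hψX (h ▸ hξ)
    have e2 : ξ ≠ Cfsg.conjFun ψ := fun h => hψcX (h ▸ hξ)
    simp [he, e1, e2]
  have hON := hS.orthonormal ψ hψ
  have horthX : ∀ ξ ∈ X, ∀ β ∈ R ψ, Cfsg.classInner (τ₁ ξ) β = 0 ∧ Cfsg.classInner β (τ₁ ξ) = 0 :=
    fun ξ hξ β hβ => image_orth_R hS hXS hXc hτ₁ hag hξ hψ hψX hψcX hβ
  have hmems : ∀ x, x ∈ s ↔ x = ψ ∨ x = Cfsg.conjFun ψ ∨ x ∈ X := by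
    intro x
    simp [hs]
  have horth : ∀ i ∈ s, ∀ j ∈ s, Cfsg.classInner (e i) (e j) = if i = j then 1 else 0 := by
    intro i hi j hj
    rcases (hmems i).1 hi with h | h | h <;> rcases (hmems j).1 hj with h' | h' | h'
    · rw [h, h', heψ, hON β₁ hβ₁ β₁ hβ₁]; simp
    · rw [h, h', heψ, hecψ, hON β₁ hβ₁ β₂ hβ₂, if_neg hβne, if_neg hcψne.symm]
    · rw [h, heψ, heX j h', (horthX j h' β₁ hβ₁).2, if_neg (fun e1 : ψ = j => hψX (e1 ▸ h'))]
    · rw [h, h', heψ, hecψ, hON β₂ hβ₂ β₁ hβ₁, if_neg hβne.symm, if_neg hcψne]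
    · rw [h, h', hecψ, hON β₂ hβ₂ β₂ hβ₂]; simp
    · rw [h, hecψ, heX j h', (horthX j h' β₂ hβ₂).2,
        if_neg (fun e1 : Cfsg.conjFun ψ = j => hψcX (e1 ▸ h'))]
    · rw [h', heψ, heX i h, (horthX i h β₁ hβ₁).1, if_neg (fun e1 : i = ψ => hψX (e1 ▸ h))]
    · rw [h', hecψ, heX i h, (horthX i h β₂ hβ₂).1,
        if_neg (fun e1 : i = Cfsg.conjFun ψ => hψcX (e1 ▸ h))]
    · rw [heX i h, heX j h', hτ₁.2.2.1 _ (subset_zspan h) _ (subset_zspan h')]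
      by_cases hij : i = j
      · rw [hij, if_pos rfl, hX1 j h']
      · rw [if_neg hij, hS.orthogonal i (hXS h) j (hXS h') hij]
  obtain ⟨hbes, hbeseq⟩ := bessel_indexed s e horth Θ
  -- evaluate the Bessel sum
  set v : ℤ := c - 1 with hv
  set s' : ℤ := ∑ ξ ∈ X, (b ξ : ℤ) ^ 2 with hs'
  have hsumX : ∑ ξ ∈ X, ((b ξ : ℤ) * v + (if ξ = φ then 1 else 0)) ^ 2 = v ^ 2 * s' + 2 * v + 1 := by
    have h1 : ∀ ξ ∈ X, ((b ξ : ℤ) * v + (if ξ = φ then 1 else 0)) ^ 2 =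
        v ^ 2 * (b ξ : ℤ) ^ 2 + (if ξ = φ then (2 * (b ξ : ℤ) * v + 1) else 0) := by
      intro ξ _
      by_cases h : ξ = φ
      · rw [if_pos h, if_pos h]; ring
      · rw [if_neg h, if_neg h]; ring
    rw [Finset.sum_congr rfl h1, Finset.sum_add_distrib, ← Finset.mul_sum,
      Finset.sum_ite_eq' X φ, if_pos hφ, hbφ]
    push_cast
    ring
  have hsum_s : ∑ i ∈ s, ‖Cfsg.classInner Θ (e i)‖ ^ 2 =
      (((a : ℤ) ^ 2 * (g₁ ^ 2 + g₂ ^ 2) + (v ^ 2 * s' + 2 * v + 1) : ℤ) : ℝ) := by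
    have hψs : ψ ∉ insert (Cfsg.conjFun ψ) X := by
      simp only [Finset.mem_insert, not_or]
      exact ⟨hcψne.symm, hψX⟩
    rw [hs, Finset.sum_insert hψs, Finset.sum_insert hψcX, heψ, hecψ, hg₁, hg₂, ← hsumX]
    have h1 : ∀ ξ ∈ X, ‖Cfsg.classInner Θ (e ξ)‖ ^ 2 =
        ((((b ξ : ℤ) * v + (if ξ = φ then 1 else 0)) ^ 2 : ℤ) : ℝ) := by
      intro ξ hξ
      rw [heX ξ hξ, hcoef ξ hξ, Complex.norm_intCast, sq_abs]
      push_cast
      rfl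
    rw [Finset.sum_congr rfl h1]
    have h2 : ‖(a : ℂ) * (g₁ : ℂ)‖ ^ 2 = (((a : ℤ) ^ 2 * g₁ ^ 2 : ℤ) : ℝ) := by
      rw [show (a : ℂ) * (g₁ : ℂ) = (((a : ℤ) * g₁ : ℤ) : ℂ) by push_cast; rfl,
        Complex.norm_intCast, sq_abs]
      push_cast
      ring
    have h3 : ‖(a : ℂ) * (g₂ : ℂ)‖ ^ 2 = (((a : ℤ) ^ 2 * g₂ ^ 2 : ℤ) : ℝ) := by
      rw [show (a : ℂ) * (g₂ : ℂ) = (((a : ℤ) * g₂ : ℤ) : ℂ) by push_cast; rfl,
        Complex.norm_intCast, sq_abs]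
      push_cast
      ring
    rw [h2, h3]
    push_cast
    ring
  have hnormre : (Cfsg.classInner Θ Θ).re = (((1 + (a : ℤ) ^ 2 : ℤ)) : ℝ) := by
    rw [hnorm]
    push_cast
    simp [pow_two]
  have hs'2 : 2 ≤ s' := by
    have hsub : ({φ, Cfsg.conjFun φ} : Finset (L → ℂ)) ⊆ X := by
      intro x hx
      rcases Finset.mem_insert.1 hx with h | h
      · rw [h]; exact hφ
      · rw [Finset.mem_singleton.1 h]; exact hcφ
    have h1 : ∑ ξ ∈ ({φ, Cfsg.conjFun φ} : Finset (L → ℂ)), (b ξ : ℤ) ^ 2 ≤ s' :=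
      Finset.sum_le_sum_of_subset_of_nonneg hsub (fun ξ _ _ => by positivity)
    rw [Finset.sum_pair hcφne.symm, hbφ, hbcφ] at h1
    simpa using h1
  rw [hsum_s, hnormre] at hbes hbeseq
  have hle : (a : ℤ) ^ 2 * (g₁ ^ 2 + g₂ ^ 2) + (v ^ 2 * s' + 2 * v + 1) ≤ 1 + (a : ℤ) ^ 2 := by
    exact_mod_cast hbes
  have ha0' : (a : ℤ) ≠ 0 := by exact_mod_cast ha0
  obtain ⟨hgcase, hvcase, heq⟩ := int_key ha0' hg12 hs'2 hle
  have hexp := hbeseq (by exact_mod_cast heq)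
  -- evaluate the expansion
  have hψs : ψ ∉ insert (Cfsg.conjFun ψ) X := by
    simp only [Finset.mem_insert, not_or]
    exact ⟨hcψne.symm, hψX⟩
  rw [hs, Finset.sum_insert hψs, Finset.sum_insert hψcX, heψ, hecψ, hg₁, hg₂,
    Finset.sum_congr rfl (fun ξ hξ => by rw [heX ξ hξ, hcoef ξ hξ])] at hexp
  -- the `X`-part of the expansion
  have hXpart : (∑ ξ ∈ X, ((((b ξ : ℤ) * (c - 1) + (if ξ = φ then 1 else 0) : ℤ) : ℂ)) • τ₁ ξ =
      τ₁ φ ∧ v = 0) ∨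
      (X = {φ, Cfsg.conjFun φ} ∧
        ∑ ξ ∈ X, ((((b ξ : ℤ) * (c - 1) + (if ξ = φ then 1 else 0) : ℤ) : ℂ)) • τ₁ ξ =
          -τ₁ (Cfsg.conjFun φ)) := by
    rcases hvcase with hv0 | ⟨hv1, hs2⟩
    · left
      refine ⟨?_, hv0⟩
      have hc1 : c - 1 = 0 := hv0
      have h1 : ∀ ξ ∈ X, ((((b ξ : ℤ) * (c - 1) + (if ξ = φ then 1 else 0) : ℤ) : ℂ)) • τ₁ ξ =
          if ξ = φ then τ₁ ξ else 0 := by
        intro ξ _
        rw [hc1, mul_zero, zero_add]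
        by_cases h : ξ = φ
        · rw [if_pos h, if_pos h]; simp
        · rw [if_neg h, if_neg h]; simp
      rw [Finset.sum_congr rfl h1, Finset.sum_ite_eq' X φ, if_pos hφ]
    · right
      have hsub : ({φ, Cfsg.conjFun φ} : Finset (L → ℂ)) ⊆ X := by
        intro x hx
        rcases Finset.mem_insert.1 hx with h | h
        · rw [h]; exact hφ
        · rw [Finset.mem_singleton.1 h]; exact hcφ
      have hXeq : X = {φ, Cfsg.conjFun φ} := by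
        apply Finset.Subset.antisymm _ hsub
        intro ξ hξ
        by_contra hnot
        have h1 : ∑ ξ ∈ insert ξ ({φ, Cfsg.conjFun φ} : Finset (L → ℂ)), (b ξ : ℤ) ^ 2 ≤ s' := by
          apply Finset.sum_le_sum_of_subset_of_nonneg
          · intro x hx
            rcases Finset.mem_insert.1 hx with h | h
            · rw [h]; exact hξ
            · exact hsub h
          · intro x _ _; positivity
        rw [Finset.sum_insert hnot, Finset.sum_pair hcφne.symm, hbφ, hbcφ, hs2] at h1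
        have hbξ : b ξ ≠ 0 := by
          intro h0
          have := hb ξ hξ
          rw [h0, mul_zero] at this
          exact hdpos ξ (hXS hξ) this
        have h2 : (1 : ℤ) ≤ (b ξ : ℤ) ^ 2 := by
          have : (1 : ℤ) ≤ (b ξ : ℤ) := by exact_mod_cast Nat.pos_of_ne_zero hbξ
          nlinarith
        simp at h1
        omega
      refine ⟨hXeq, ?_⟩
      have hc1 : c - 1 = -1 := hv1
      rw [hXeq, Finset.sum_pair hcφne.symm, hbφ, hbcφ, if_pos rfl, if_neg hcφne, hc1]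
      simp
  -- conclude
  have hfinal : ∀ βa βb : G → ℂ, ∀ ga gb : ℤ, ga = -1 → gb = 0 →
      Θ = ((a : ℂ) * (ga : ℂ)) • βa + (((a : ℂ) * (gb : ℂ)) • βb +
        ∑ ξ ∈ X, ((((b ξ : ℤ) * (c - 1) + (if ξ = φ then 1 else 0) : ℤ) : ℂ)) • τ₁ ξ) →
      (Θ = τ₁ φ - (a : ℤ) • βa ∨
        (X = {φ, Cfsg.conjFun φ} ∧ Θ = -τ₁ (Cfsg.conjFun φ) - (a : ℤ) • βa)) := by
    intro βa βb ga gb hga hgb hΘeq
    rw [hga, hgb] at hΘeq
    have hsimp : ((a : ℂ) * ((-1 : ℤ) : ℂ)) • βa + (((a : ℂ) * ((0 : ℤ) : ℂ)) • βb) =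
        -((a : ℤ) • βa) := by
      funext x
      simp
    rcases hXpart with ⟨h1, -⟩ | ⟨hXeq, h1⟩
    · left
      rw [hΘeq, h1, ← add_assoc, hsimp]
      abel
    · right
      refine ⟨hXeq, ?_⟩
      rw [hΘeq, h1, ← add_assoc, hsimp]
      abel
  rcases hgcase with h0 | h1
  · -- g₁ = 0, g₂ = -1
    have hg2 : g₂ = -1 := by omega
    refine ⟨β₂, β₁, by rw [hR, Finset.pair_comm], hβne.symm, ?_⟩
    apply hfinal β₂ β₁ g₂ g₁ hg2 h0
    rw [hexp]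
    abel
  · have hg2 : g₂ = 0 := by omega
    exact ⟨β₁, β₂, hR, hβne, hfinal β₁ β₂ g₁ g₂ h1 hg2 hexp⟩

theorem map_lin3' {M : Submodule ℤ (L → ℂ)} {σ : (L → ℂ) → (G → ℂ)}
    (hσ : Cfsg.IsLinearIsometryOn (M : Set (L → ℂ)) σ) {g p q : L → ℂ} (hg : g ∈ M) (hp : p ∈ M)
    (hq : q ∈ M) (c c' : ℤ) : σ (g + c • p + c' • q) = σ g + c • σ p + c' • σ q := by
  rw [hσ.1 _ (M.add_mem hg (M.smul_mem c hp)) _ (M.smul_mem c' hq), hσ.1 _ hg _ (M.smul_mem c hp),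
    hσ.2.1 _ hp, hσ.2.1 _ hq]

omit [Fintype L] in
/-- A member of the span of a pair `{φ, φ'}` of functions of the same nonzero value at `1`
that vanishes at `1` is a multiple of `φ - φ'`. -/
theorem mem_span_pair_of_apply_one {φ φ' γ : L → ℂ}
    (hγ : γ ∈ Submodule.span ℤ ({φ, φ'} : Set (L → ℂ))) (h1 : φ 1 = φ' 1) (h0 : φ 1 ≠ 0)
    (hγ1 : γ 1 = 0) : ∃ j : ℤ, γ = j • (φ - φ') := by
  obtain ⟨c₁, c₂, rfl⟩ := Submodule.mem_span_pair.1 hγ
  refine ⟨c₁, ?_⟩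
  have h2 : ((c₁ : ℂ) + (c₂ : ℂ)) * φ 1 = 0 := by
    have := hγ1
    rw [Pi.add_apply, Pi.smul_apply, Pi.smul_apply, zsmul_eq_mul, zsmul_eq_mul, ← h1] at this
    linear_combination this
  have h3 : (c₁ : ℂ) + (c₂ : ℂ) = 0 := (mul_eq_zero.1 h2).resolve_right h0
  have h4 : c₂ = -c₁ := by
    have : ((c₁ + c₂ : ℤ) : ℂ) = 0 := by push_cast; exact h3
    have : c₁ + c₂ = 0 := by exact_mod_cast this
    omega
  rw [h4]
  simp only [neg_smul, smul_sub]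
  abel

/-- **Adjoining a member of smaller degree.** -/
theorem small_extension (hS : Cfsg.IsCoherenceSystem S τ R) (d : (L → ℂ) → ℕ)
    (hd : ∀ φ ∈ S, φ 1 = (d φ : ℂ))
    (X : Finset (L → ℂ)) (hXS : (↑X : Set (L → ℂ)) ⊆ S) (hXc : ∀ φ ∈ X, Cfsg.conjFun φ ∈ X)
    (hX1 : ∀ ξ ∈ X, Cfsg.classInner ξ ξ = 1)
    (hcoh : Cfsg.IsCoherent (↑X : Set (L → ℂ)) {1}ᶜ τ)
    {ψ : L → ℂ} (hψ : ψ ∈ S) (hψX : ψ ∉ X) (hψcX : Cfsg.conjFun ψ ∉ X)
    (hψ1 : Cfsg.classInner ψ ψ = 1)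
    {φ : L → ℂ} (hφ : φ ∈ X) {a : ℕ} (ha : d φ = a * d ψ) (hdvd : ∀ ξ ∈ X, d φ ∣ d ξ)
    (hdiv : ∀ τ₁ : (L → ℂ) → (G → ℂ),
      Cfsg.IsLinearIsometryOn (Cfsg.zspan (↑X : Set (L → ℂ))) τ₁ →
      (∀ α ∈ Cfsg.zspanOn (↑X : Set (L → ℂ)) ({1}ᶜ : Set L), τ₁ α = τ α) →
      ∀ β ∈ R ψ, ∃ g : ℤ, Cfsg.classInner (τ (φ - (a : ℤ) • ψ)) β = (a : ℂ) * g) :
    Cfsg.IsCoherent ((↑X : Set (L → ℂ)) ∪ {ψ, Cfsg.conjFun ψ}) {1}ᶜ τ := by
  classical
  obtain ⟨-, τ₁, hτ₁, hag⟩ := hcoh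
  obtain ⟨βa, βb, hR, hβne, hcase⟩ := small_key hS d hd X hXS hXc hX1 hτ₁ hag hψ hψX hψcX hψ1 hφ
    ha hdvd (hdiv τ₁ hτ₁ hag)
  have hφS : φ ∈ S := hXS hφ
  have hcψ : Cfsg.conjFun ψ ∈ S := hS.conj_mem ψ hψ
  have hcφ : Cfsg.conjFun φ ∈ X := hXc φ hφ
  have hcφne : Cfsg.conjFun φ ≠ φ := hS.conj_ne φ hφS
  have hcψne : Cfsg.conjFun ψ ≠ ψ := hS.conj_ne ψ hψ
  have hτ := cs_isometry hS
  have hβa : βa ∈ R ψ := by rw [hR]; simp
  have hβb : βb ∈ R ψ := by rw [hR]; simp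
  have hON := hS.orthonormal ψ hψ
  have hdpos : ∀ ξ ∈ S, d ξ ≠ 0 := by
    intro ξ hξ h0
    have h1 : ξ 1 = 0 := by rw [hd ξ hξ, h0]; simp
    exact cs_ne_zero hS hξ (char_eq_zero_of_apply_one (hS.isCharacter ξ hξ) h1)
  have hdeg1 : Cfsg.conjFun ψ 1 = ψ 1 := conjFun_apply_one (hS.isCharacter ψ hψ)
  -- the element `φ - a ψ`
  set α₀ : L → ℂ := φ - (a : ℤ) • ψ with hα₀
  have hmem : α₀ ∈ Cfsg.zspanOn S ({1}ᶜ : Set L) := by
    refine ⟨Submodule.sub_mem _ (Submodule.subset_span hφS)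
      (Submodule.smul_mem _ _ (Submodule.subset_span hψ)), ?_⟩
    intro x hx
    have hx' : x = 1 := by simpa using hx
    rw [hx', hα₀, Pi.sub_apply, Pi.smul_apply, hd φ hφS, hd ψ hψ, ha]
    push_cast
    simp
  have horthX : ∀ ξ ∈ X, ∀ β ∈ R ψ, Cfsg.classInner (τ₁ ξ) β = 0 ∧ Cfsg.classInner β (τ₁ ξ) = 0 :=
    fun ξ hξ β hβ => image_orth_R hS hXS hXc hτ₁ hag hξ hψ hψX hψcX hβ
  -- the assignment on `X`
  obtain ⟨w₀, hw₀g, hw₀gram, hw₀orth, hw₀ag, hw₀Θ⟩ : ∃ w₀ : (L → ℂ) → (G → ℂ),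
      (∀ ξ ∈ X, Cfsg.IsGeneralizedCharacter G (w₀ ξ)) ∧
      (∀ ξ ∈ X, ∀ ξ' ∈ X, Cfsg.classInner (w₀ ξ) (w₀ ξ') = Cfsg.classInner ξ ξ') ∧
      (∀ ξ ∈ X, ∀ β ∈ R ψ, Cfsg.classInner (w₀ ξ) β = 0) ∧
      (∀ σ : (L → ℂ) → (G → ℂ), Cfsg.IsLinearIsometryOn (Cfsg.zspan (↑X : Set (L → ℂ))) σ →
        (∀ ξ ∈ X, σ ξ = w₀ ξ) →
        ∀ γ ∈ Cfsg.zspanOn (↑X : Set (L → ℂ)) ({1}ᶜ : Set L), σ γ = τ γ) ∧
      τ α₀ = w₀ φ - (a : ℤ) • βa := by
    rcases hcase with hA | ⟨hXeq, hB⟩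
    · refine ⟨τ₁, fun ξ hξ => hτ₁.2.2.2 _ (subset_zspan hξ),
        fun ξ hξ ξ' hξ' => hτ₁.2.2.1 _ (subset_zspan hξ) _ (subset_zspan hξ'),
        fun ξ hξ β hβ => (horthX ξ hξ β hβ).1, ?_, hA⟩
      intro σ hσ hσw γ hγ
      rw [agree_on_span hσ hτ₁ hσw hγ.1]
      exact hag γ hγ
    · refine ⟨fun ξ => -τ₁ (Cfsg.conjFun ξ),
        fun ξ hξ => gen_neg (hτ₁.2.2.2 _ (subset_zspan (hXc ξ hξ))), ?_, ?_, ?_, ?_⟩
      · intro ξ hξ ξ' hξ'
        simp only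
        rw [classInner_neg_left, classInner_neg_right, neg_neg,
          hτ₁.2.2.1 _ (subset_zspan (hXc ξ hξ)) _ (subset_zspan (hXc ξ' hξ')),
          classInner_conjFun_conjFun]
        by_cases h : ξ = ξ'
        · rw [h]
        · rw [hS.orthogonal ξ' (hXS hξ') ξ (hXS hξ) (Ne.symm h),
            hS.orthogonal ξ (hXS hξ) ξ' (hXS hξ') h]
      · intro ξ hξ β hβ
        simp only
        rw [classInner_neg_left, (horthX _ (hXc ξ hξ) β hβ).1, neg_zero]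
      · intro σ hσ hσw γ hγ
        have hspan : γ ∈ Submodule.span ℤ ({φ, Cfsg.conjFun φ} : Set (L → ℂ)) := by
          have h1 : γ ∈ Submodule.span ℤ (↑X : Set (L → ℂ)) := hγ.1
          rw [hXeq, Finset.coe_insert, Finset.coe_singleton] at h1
          exact h1
        have h1φ : φ 1 = Cfsg.conjFun φ 1 :=
          (conjFun_apply_one (hS.isCharacter φ hφS)).symm
        have h0φ : φ 1 ≠ 0 := by
          rw [hd φ hφS]
          exact_mod_cast hdpos φ hφS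
        obtain ⟨j, hj⟩ := mem_span_pair_of_apply_one hspan h1φ h0φ (hγ.2 1 (by simp))
        have hmφ : φ ∈ Submodule.span ℤ (↑X : Set (L → ℂ)) := Submodule.subset_span hφ
        have hmcφ : Cfsg.conjFun φ ∈ Submodule.span ℤ (↑X : Set (L → ℂ)) :=
          Submodule.subset_span hcφ
        have hdm : φ - Cfsg.conjFun φ ∈ Cfsg.zspanOn (↑X : Set (L → ℂ)) ({1}ᶜ : Set L) :=
          sub_mem_zspanOn hφ hcφ h1φ
        have hdmS : φ - Cfsg.conjFun φ ∈ Cfsg.zspanOn S ({1}ᶜ : Set L) := cs_sub_conj_mem hS hφS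
        rw [hj, hσ.2.1 _ (Submodule.sub_mem _ hmφ hmcφ), hτ.2.1 _ hdmS,
          map_sub_of (M := Submodule.span ℤ (↑X : Set (L → ℂ))) hσ hmφ hmcφ, hσw φ hφ,
          hσw _ hcφ, ← hag _ hdm,
          map_sub_of (M := Submodule.span ℤ (↑X : Set (L → ℂ))) hτ₁ hmφ hmcφ]
        simp only [conjFun_conjFun]
        congr 1
        abel
      · simp only
        exact hB
  -- the assignment on `X ∪ {ψ, conj ψ}`
  set S' : Set (L → ℂ) := ↑X ∪ {ψ, Cfsg.conjFun ψ} with hS'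
  have hS'S : S' ⊆ S := by
    intro x hx
    rcases hx with hx | hx | hx
    · exact hXS hx
    · rw [hx]; exact hψ
    · rw [Set.mem_singleton_iff.1 hx]; exact hcψ
  have horth' : ∀ x ∈ S', ∀ y ∈ S', x ≠ y → Cfsg.classInner x y = 0 :=
    fun x hx y hy => hS.orthogonal x (hS'S hx) y (hS'S hy)
  have hne' : ∀ x ∈ S', Cfsg.classInner x x ≠ 0 := fun x hx => cs_norm_ne_zero hS (hS'S hx)
  have hmemS' : ∀ x, x ∈ S' ↔ x ∈ X ∨ x = ψ ∨ x = Cfsg.conjFun ψ := by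
    intro x
    simp [hS']
    tauto
  set v : (L → ℂ) → (G → ℂ) :=
    fun ξ => if ξ = ψ then βa else if ξ = Cfsg.conjFun ψ then -βb else w₀ ξ with hv
  have hv_X : ∀ ξ ∈ X, v ξ = w₀ ξ := by
    intro ξ hξ
    have e1 : ξ ≠ ψ := fun h => hψX (h ▸ hξ)
    have e2 : ξ ≠ Cfsg.conjFun ψ := fun h => hψcX (h ▸ hξ)
    simp [hv, e1, e2]
  have hv_ψ : v ψ = βa := by simp [hv]
  have hv_c : v (Cfsg.conjFun ψ) = -βb := by simp [hv, hcψne]
  have hvg : ∀ ξ ∈ S', Cfsg.IsGeneralizedCharacter G (v ξ) := by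
    intro ξ hξ
    rcases (hmemS' ξ).1 hξ with h | h | h
    · rw [hv_X ξ h]; exact hw₀g ξ h
    · rw [h, hv_ψ]; exact hS.virtual ψ hψ βa hβa
    · rw [h, hv_c]; exact gen_neg (hS.virtual ψ hψ βb hβb)
  have hsymm0 : ∀ {f g : G → ℂ}, Cfsg.classInner f g = 0 → Cfsg.classInner g f = 0 := by
    intro f g h
    rw [← classInner_conj_symm, h, map_zero]
  have hψψ : Cfsg.classInner (Cfsg.conjFun ψ) (Cfsg.conjFun ψ) = 1 := by
    rw [classInner_conjFun_conjFun, hψ1]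
  have hvv : ∀ x ∈ S', ∀ y ∈ S', Cfsg.classInner (v x) (v y) = Cfsg.classInner x y := by
    intro x hx y hy
    rcases (hmemS' x).1 hx with h | h | h <;> rcases (hmemS' y).1 hy with h' | h' | h'
    · rw [hv_X x h, hv_X y h', hw₀gram x h y h']
    · rw [h', hv_X x h, hv_ψ, hw₀orth x h βa hβa,
        hS.orthogonal x (hXS h) ψ hψ (fun e => hψX (e ▸ h))]
    · rw [h', hv_X x h, hv_c, classInner_neg_right, hw₀orth x h βb hβb, neg_zero,
        hS.orthogonal x (hXS h) _ hcψ (fun e => hψcX (e ▸ h))]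
    · rw [h, hv_X y h', hv_ψ, hsymm0 (hw₀orth y h' βa hβa),
        hS.orthogonal ψ hψ y (hXS h') (fun e => hψX (e.symm ▸ h'))]
    · rw [h, h', hv_ψ, hON βa hβa βa hβa, if_pos rfl, hψ1]
    · rw [h, h', hv_ψ, hv_c, classInner_neg_right, hON βa hβa βb hβb, if_neg hβne, neg_zero,
        cs_orth_conj hS hψ]
    · rw [h, hv_X y h', hv_c, classInner_neg_left, hsymm0 (hw₀orth y h' βb hβb), neg_zero,
        hS.orthogonal _ hcψ y (hXS h') (fun e => hψcX (e.symm ▸ h'))]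
    · rw [h, h', hv_ψ, hv_c, classInner_neg_left, hON βb hβb βa hβa, if_neg hβne.symm, neg_zero]
      rw [← classInner_conj_symm, cs_orth_conj hS hψ, map_zero]
    · rw [h, h', hv_c, classInner_neg_left, classInner_neg_right, neg_neg, hON βb hβb βb hβb,
        if_pos rfl, hψψ]
  obtain ⟨τ₂, hτ₂, hτ₂v⟩ := exists_isometry_of_assignment horth' hne' v hvg hvv
  have hψS' : ψ ∈ S' := (hmemS' ψ).2 (Or.inr (Or.inl rfl))
  have hcS' : Cfsg.conjFun ψ ∈ S' := (hmemS' _).2 (Or.inr (Or.inr rfl))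
  have hφS' : φ ∈ S' := (hmemS' _).2 (Or.inl hφ)
  refine ⟨⟨ψ - Cfsg.conjFun ψ, sub_mem_zspanOn hψS' hcS' hdeg1.symm, ?_⟩, τ₂, hτ₂, ?_⟩
  · intro h
    exact hS.conj_ne ψ hψ (sub_eq_zero.1 h).symm
  intro α hα
  -- expansion of `α`
  set F : Finset (L → ℂ) := X ∪ {ψ, Cfsg.conjFun ψ} with hF
  have hFmem : ∀ x, x ∈ F ↔ x ∈ S' := by
    intro x
    rw [hmemS', hF]
    simp
    tauto
  have hexp := expansion horth' hne' F hFmem hα.1
  have hint := coef_int horth' hne' hα.1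
  choose! c hc using hint
  have hα1 : α = ∑ x ∈ F, c x • x := by
    conv_lhs => rw [hexp]
    refine Finset.sum_congr rfl (fun x hx => ?_)
    rw [hc x ((hFmem x).1 hx)]
    funext l
    simp
  have hdisj : Disjoint X ({ψ, Cfsg.conjFun ψ} : Finset (L → ℂ)) := by
    rw [Finset.disjoint_left]
    intro x hx hx'
    rcases Finset.mem_insert.1 hx' with h | h
    · exact hψX (h ▸ hx)
    · exact hψcX ((Finset.mem_singleton.1 h) ▸ hx)
  rw [hF, Finset.sum_union hdisj, Finset.sum_pair hcψne.symm] at hα1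
  -- the degree relation
  choose! b hb using hdvd
  set k : ℤ := ∑ x ∈ X, c x * (b x : ℤ) with hk
  have hrel : c ψ + c (Cfsg.conjFun ψ) = -((a : ℤ) * k) := by
    have h1 : α 1 = 0 := hα.2 1 (by simp)
    have h1' : α 1 = ∑ x ∈ X, (c x : ℂ) * x 1 +
        ((c ψ : ℂ) * ψ 1 + (c (Cfsg.conjFun ψ) : ℂ) * Cfsg.conjFun ψ 1) := by
      conv_lhs => rw [hα1]
      rw [Pi.add_apply, Pi.add_apply, Finset.sum_apply, Pi.smul_apply, Pi.smul_apply,
        zsmul_eq_mul, zsmul_eq_mul]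
      congr 1
      refine Finset.sum_congr rfl (fun x _ => ?_)
      rw [Pi.smul_apply, zsmul_eq_mul]
    rw [h1', hdeg1, hd ψ hψ, Finset.sum_congr rfl (fun x hx => by
      rw [hd x (hXS hx), hb x hx, ha])] at h1
    have hdψ : (d ψ : ℂ) ≠ 0 := by exact_mod_cast hdpos ψ hψ
    have hk' : (k : ℂ) = ∑ x ∈ X, (c x : ℂ) * (b x : ℂ) := by
      rw [hk]
      push_cast
      rfl
    have hsum : ∑ x ∈ X, (c x : ℂ) * ((a * d ψ * b x : ℕ) : ℂ) =
        (d ψ : ℂ) * (a : ℂ) * ∑ x ∈ X, (c x : ℂ) * (b x : ℂ) := by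
      rw [Finset.mul_sum]
      refine Finset.sum_congr rfl (fun x _ => ?_)
      push_cast
      ring
    rw [hsum, ← hk'] at h1
    have h2 : (d ψ : ℂ) * (((a : ℤ) * k + c ψ + c (Cfsg.conjFun ψ) : ℤ) : ℂ) = 0 := by
      push_cast
      linear_combination h1
    have h3 : (((a : ℤ) * k + c ψ + c (Cfsg.conjFun ψ) : ℤ) : ℂ) = 0 :=
      (mul_eq_zero.1 h2).resolve_left hdψ
    have h4 : (a : ℤ) * k + c ψ + c (Cfsg.conjFun ψ) = 0 := by exact_mod_cast h3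
    omega
  -- the decomposition of `α`
  set γ : L → ℂ := ∑ x ∈ X, c x • x - k • φ with hγ
  set δ : L → ℂ := ψ - Cfsg.conjFun ψ with hδ
  have hαγ : α = γ + k • α₀ + (-c (Cfsg.conjFun ψ)) • δ := by
    have hcψeq : c ψ = -((a : ℤ) * k) - c (Cfsg.conjFun ψ) := by omega
    rw [hα1, hγ, hα₀, hδ, hcψeq]
    simp only [smul_sub, smul_smul, sub_smul, neg_smul]
    rw [mul_comm k (a : ℤ)]
    abel
  have hγspan : γ ∈ Submodule.span ℤ (↑X : Set (L → ℂ)) :=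
    Submodule.sub_mem _ (Submodule.sum_mem _ (fun x hx =>
      Submodule.smul_mem _ _ (Submodule.subset_span hx)))
      (Submodule.smul_mem _ _ (Submodule.subset_span hφ))
  have hδmem : δ ∈ Cfsg.zspanOn S ({1}ᶜ : Set L) := cs_sub_conj_mem hS hψ
  have hγ1 : γ ∈ Cfsg.zspanOn (↑X : Set (L → ℂ)) ({1}ᶜ : Set L) := by
    refine ⟨hγspan, ?_⟩
    intro x hx
    have h1 : α x = 0 := hα.2 x hx
    have h2 : α₀ x = 0 := hmem.2 x hx
    have h3 : δ x = 0 := hδmem.2 x hx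
    have h4 : α x = γ x + k • α₀ x + (-c (Cfsg.conjFun ψ)) • δ x := by
      conv_lhs => rw [hαγ]
      simp
    rw [h1, h2, h3] at h4
    simpa using h4.symm
  have hγS : γ ∈ Cfsg.zspanOn S ({1}ᶜ : Set L) := ⟨Submodule.span_mono hXS hγ1.1, hγ1.2⟩
  have hsub : Cfsg.zspan (↑X : Set (L → ℂ)) ⊆ Cfsg.zspan S' := by
    intro x hx
    exact Submodule.span_mono (Set.subset_union_left) hx
  have hα₀S' : α₀ ∈ Submodule.span ℤ S' :=
    Submodule.sub_mem _ (Submodule.subset_span hφS')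
      (Submodule.smul_mem _ _ (Submodule.subset_span hψS'))
  have hδS' : δ ∈ Submodule.span ℤ S' :=
    Submodule.sub_mem _ (Submodule.subset_span hψS') (Submodule.subset_span hcS')
  have e1 : τ₂ α = τ₂ γ + k • τ₂ α₀ + (-c (Cfsg.conjFun ψ)) • τ₂ δ := by
    rw [hαγ]
    exact map_lin3' (M := Submodule.span ℤ S') hτ₂ (hsub hγspan) hα₀S' hδS' _ _
  have e2 : τ α = τ γ + k • τ α₀ + (-c (Cfsg.conjFun ψ)) • τ δ := by
    rw [hαγ]
    exact map_lin3' hτ hγS hmem hδmem _ _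
  have e3 : τ₂ γ = τ γ :=
    hw₀ag τ₂ (isometry_mono hsub hτ₂)
      (fun ξ hξ => by rw [hτ₂v ξ ((hmemS' ξ).2 (Or.inl hξ)), hv_X ξ hξ]) γ hγ1
  have e4 : τ₂ α₀ = τ α₀ := by
    rw [hw₀Θ, hα₀, map_sub_of (M := Submodule.span ℤ S') hτ₂ (Submodule.subset_span hφS')
      (Submodule.smul_mem _ _ (Submodule.subset_span hψS')), hτ₂.2.1 _ (subset_zspan hψS'),
      hτ₂v φ hφS', hτ₂v ψ hψS', hv_ψ, hv_X φ hφ]
  have e5 : τ₂ δ = τ δ := by
    rw [hδ, map_sub_of (M := Submodule.span ℤ S') hτ₂ (Submodule.subset_span hψS')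
      (Submodule.subset_span hcS'), hτ₂v ψ hψS', hτ₂v _ hcS', hv_ψ, hv_c, hS.sum_eq ψ hψ, hR,
      Finset.sum_pair hβne]
    abel
  rw [e1, e2, e3, e4, e5]

end Key

end Cfsg.Agent.Lib.Helper16_CohSmall
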