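import Mathlib
import Cfsg.Agent.S1504

/-!
# Character sums on a finite abelian group (helper16)

Sums of the linear characters trivial on a subgroup, and a Fourier-type vanishing criterion used
for the values of the cyclic TI isometry (Peterfalvi (3.2)).
-/

set_option autoImplicit false

namespace Cfsg.Agent.Lib.Helper16_CycFourier

/-- The linear characters trivial on the subgroup `N`. -/
def trivOn {W : Type*} [Group W] (N : Subgroup W) : Subgroup (W →* ℂˣ) where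
  carrier := {φ | ∀ w ∈ N, φ w = 1}
  one_mem' := fun _ _ => rfl
  mul_mem' := fun {a b} ha hb w hw => by
    rw [MonoidHom.mul_apply, ha w hw, hb w hw, mul_one]
  inv_mem' := fun {a} ha w hw => by
    rw [MonoidHom.inv_apply, ha w hw, inv_one]

theorem mem_trivOn {W : Type*} [Group W] {N : Subgroup W} {φ : W →* ℂˣ} :
    φ ∈ trivOn N ↔ ∀ w ∈ N, φ w = 1 := Iff.rfl

/-- Linear characters trivial on `N` separate the elements outside `N`. -/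
theorem exists_hom_ne_one_comm {W : Type*} [CommGroup W] [Finite W] (N : Subgroup W) {u : W}
    (hu : u ∉ N) : ∃ φ ∈ trivOn N, φ u ≠ 1 := by
  have : NeZero (Monoid.exponent (W ⧸ N)) := ⟨Monoid.exponent_ne_zero_of_finite⟩
  have hne : (QuotientGroup.mk' N u) ≠ 1 := by
    intro h
    exact hu ((QuotientGroup.eq_one_iff u).1 h)
  obtain ⟨η, hη⟩ := CommGroup.exists_apply_ne_one_of_hasEnoughRootsOfUnity (W ⧸ N) ℂ hne
  refine ⟨η.comp (QuotientGroup.mk' N), fun w hw => ?_, hη⟩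
  show η (QuotientGroup.mk' N w) = 1
  have : QuotientGroup.mk' N w = 1 := (QuotientGroup.eq_one_iff w).2 hw
  rw [this, map_one]

theorem exists_hom_ne_one {W : Type*} [Group W] [Finite W] (hcomm : ∀ a b : W, a * b = b * a)
    (N : Subgroup W) {u : W} (hu : u ∉ N) : ∃ φ ∈ trivOn N, φ u ≠ 1 := by
  let inst : CommGroup W := { ‹Group W› with mul_comm := hcomm }
  exact @exists_hom_ne_one_comm W inst _ N u hu

/-- The sum of the values at `u` of the characters trivial on `N`. -/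
theorem sum_trivOn {W : Type*} [Group W] [Finite W] (hcomm : ∀ a b : W, a * b = b * a)
    (N : Subgroup W) [Fintype (trivOn N)] (u : W) [Decidable (u ∈ N)] :
    ∑ φ : trivOn N, ((φ.1 u : ℂˣ) : ℂ) = if u ∈ N then (Fintype.card (trivOn N) : ℂ) else 0 := by
  split_ifs with hu
  · have h1 : ∀ φ : trivOn N, ((φ.1 u : ℂˣ) : ℂ) = 1 := fun φ => by rw [φ.2 u hu]; rfl
    rw [Finset.sum_congr rfl (fun φ _ => h1 φ), Finset.sum_const, Finset.card_univ,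
      nsmul_eq_mul, mul_one]
  · obtain ⟨φ₀, hφ₀, hne⟩ := exists_hom_ne_one hcomm N hu
    let ev : trivOn N →* ℂˣ :=
      { toFun := fun φ => φ.1 u
        map_one' := rfl
        map_mul' := fun a b => rfl }
    have hev : ev ≠ 1 := by
      intro h
      have := DFunLike.congr_fun h ⟨φ₀, hφ₀⟩
      exact hne this
    exact Cfsg.Agent.S1504.sum_units_hom_eq_zero ev hev

/-- A function on a finite abelian group orthogonal to all the products `(1 - φ)(1 - ψ)`, with `φ`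
trivial on `N₂` and `ψ` trivial on `N₁`, vanishes outside `N₁ ∪ N₂` (when `N₁ ⊓ N₂ = ⊥`). -/
theorem eq_zero_of_orth {W : Type*} [Group W] [Fintype W] (hcomm : ∀ a b : W, a * b = b * a)
    (N₁ N₂ : Subgroup W) (hdisj : N₁ ⊓ N₂ = ⊥) (f : W → ℂ)
    (h : ∀ φ ∈ trivOn N₂, ∀ ψ ∈ trivOn N₁,
      ∑ w, (1 - ((φ w : ℂˣ) : ℂ)) * (1 - ((ψ w : ℂˣ) : ℂ)) * f w = 0)
    {v : W} (hv₁ : v ∉ N₁) (hv₂ : v ∉ N₂) : f v = 0 := by
  classical
  have : Fintype (trivOn N₁) := Fintype.ofFinite _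
  have : Fintype (trivOn N₂) := Fintype.ofFinite _
  have key : ∀ (N : Subgroup W) [Fintype (trivOn N)], v ∉ N → ∀ w,
      ∑ φ : trivOn N, ((φ.1 v⁻¹ : ℂˣ) : ℂ) * (1 - ((φ.1 w : ℂˣ) : ℂ)) =
        if v⁻¹ * w ∈ N then -(Fintype.card (trivOn N) : ℂ) else 0 := by
    intro N _ hvN w
    have e : ∀ φ : trivOn N, ((φ.1 v⁻¹ : ℂˣ) : ℂ) * (1 - ((φ.1 w : ℂˣ) : ℂ)) =
        ((φ.1 v⁻¹ : ℂˣ) : ℂ) - ((φ.1 (v⁻¹ * w) : ℂˣ) : ℂ) := fun φ => by
      rw [map_mul, Units.val_mul]; ring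
    rw [Finset.sum_congr rfl (fun φ _ => e φ), Finset.sum_sub_distrib, sum_trivOn hcomm N v⁻¹,
      sum_trivOn hcomm N (v⁻¹ * w)]
    rw [if_neg (fun h => hvN (by simpa using N.inv_mem h))]
    split_ifs <;> simp
  have htot : ∑ φ : trivOn N₂, ∑ ψ : trivOn N₁, ((φ.1 v⁻¹ : ℂˣ) : ℂ) * ((ψ.1 v⁻¹ : ℂˣ) : ℂ) *
      ∑ w, (1 - ((φ.1 w : ℂˣ) : ℂ)) * (1 - ((ψ.1 w : ℂˣ) : ℂ)) * f w = 0 := by
    refine Finset.sum_eq_zero fun φ _ => Finset.sum_eq_zero fun ψ _ => ?_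
    rw [h φ.1 φ.2 ψ.1 ψ.2, mul_zero]
  have hre : ∑ φ : trivOn N₂, ∑ ψ : trivOn N₁, ((φ.1 v⁻¹ : ℂˣ) : ℂ) * ((ψ.1 v⁻¹ : ℂˣ) : ℂ) *
      ∑ w, (1 - ((φ.1 w : ℂˣ) : ℂ)) * (1 - ((ψ.1 w : ℂˣ) : ℂ)) * f w =
      ∑ w, f w * ((∑ φ : trivOn N₂, ((φ.1 v⁻¹ : ℂˣ) : ℂ) * (1 - ((φ.1 w : ℂˣ) : ℂ))) *
        (∑ ψ : trivOn N₁, ((ψ.1 v⁻¹ : ℂˣ) : ℂ) * (1 - ((ψ.1 w : ℂˣ) : ℂ)))) := by
    have h1 : ∀ w, f w * ((∑ φ : trivOn N₂, ((φ.1 v⁻¹ : ℂˣ) : ℂ) * (1 - ((φ.1 w : ℂˣ) : ℂ))) *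
        (∑ ψ : trivOn N₁, ((ψ.1 v⁻¹ : ℂˣ) : ℂ) * (1 - ((ψ.1 w : ℂˣ) : ℂ)))) =
        ∑ φ : trivOn N₂, ∑ ψ : trivOn N₁, f w * ((((φ.1 v⁻¹ : ℂˣ) : ℂ) *
          (1 - ((φ.1 w : ℂˣ) : ℂ))) * (((ψ.1 v⁻¹ : ℂˣ) : ℂ) * (1 - ((ψ.1 w : ℂˣ) : ℂ)))) := by
      intro w
      rw [Finset.sum_mul_sum (R := ℂ), Finset.mul_sum]
      refine Finset.sum_congr rfl fun φ _ => ?_
      rw [Finset.mul_sum]
    symm
    rw [Finset.sum_congr rfl (fun w _ => h1 w)]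
    refine Finset.sum_comm.trans (Finset.sum_congr rfl fun φ _ => ?_)
    refine Finset.sum_comm.trans (Finset.sum_congr rfl fun ψ _ => ?_)
    rw [Finset.mul_sum]
    refine Finset.sum_congr rfl fun w _ => ?_
    ring
  rw [hre] at htot
  simp_rw [key N₂ hv₂, key N₁ hv₁] at htot
  rw [Finset.sum_eq_single v] at htot
  · have h1 : v⁻¹ * v ∈ N₂ := by rw [inv_mul_cancel]; exact N₂.one_mem
    have h2 : v⁻¹ * v ∈ N₁ := by rw [inv_mul_cancel]; exact N₁.one_mem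
    rw [if_pos h1, if_pos h2] at htot
    have c1 : (Fintype.card (trivOn N₁) : ℂ) ≠ 0 := by
      exact_mod_cast Fintype.card_ne_zero
    have c2 : (Fintype.card (trivOn N₂) : ℂ) ≠ 0 := by
      exact_mod_cast Fintype.card_ne_zero
    have : f v * ((Fintype.card (trivOn N₂) : ℂ) * (Fintype.card (trivOn N₁) : ℂ)) = 0 := by
      rw [← htot]; ring
    rcases mul_eq_zero.1 this with h0 | h0
    · exact h0
    · exact absurd h0 (mul_ne_zero c2 c1)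
  · intro w _ hwv
    by_cases h2 : v⁻¹ * w ∈ N₂
    · by_cases h1 : v⁻¹ * w ∈ N₁
      · exfalso
        have : v⁻¹ * w ∈ N₁ ⊓ N₂ := ⟨h1, h2⟩
        rw [hdisj, Subgroup.mem_bot] at this
        exact hwv (inv_mul_eq_one.1 this).symm
      · rw [if_neg h1, mul_zero, mul_zero]
    · rw [if_neg h2, zero_mul, mul_zero]
  · intro hv; exact absurd (Finset.mem_univ v) hv

end Cfsg.Agent.Lib.Helper16_CycFourier
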