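import Mathlib
import Cfsg.Prelude.Def_Characters
import Cfsg.Prelude.Def_OddOrderChar
import Cfsg.Prelude.Def_OddOrderLocal
import Cfsg.Agent.Lib.Helper25_CyclicDual
import Cfsg.Agent.Lib.Helper25_TIInd

/-!
# Index sets for the cyclic TI isometry (helper16)

The linear characters of `W = W₁ ⊔ W₂` trivial on `W₂` (resp. `W₁`), their number, and the unique
factorisation `ω = φ ψ` of every linear character of `W`.
-/

set_option autoImplicit false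

namespace Cfsg.Agent.Lib.Helper16_CycIndex

open Cfsg.Agent.Lib.Helper25_CyclicDual

variable {G : Type*} [Group G]

/-- The nontrivial linear characters of `W₁ ⊔ W₂` trivial on `W₂`. -/
def PhiIdx (W₁ W₂ : Subgroup G) : Type _ :=
  {φ : ↥(W₁ ⊔ W₂) →* ℂˣ // φ ≠ 1 ∧ ∀ w : ↥(W₁ ⊔ W₂), (w : G) ∈ W₂ → φ w = 1}

/-- The nontrivial linear characters of `W₁ ⊔ W₂` trivial on `W₁`. -/
def PsiIdx (W₁ W₂ : Subgroup G) : Type _ :=
  {ψ : ↥(W₁ ⊔ W₂) →* ℂˣ // ψ ≠ 1 ∧ ∀ w : ↥(W₁ ⊔ W₂), (w : G) ∈ W₁ → ψ w = 1}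

instance [Finite G] (W₁ W₂ : Subgroup G) : Finite (PhiIdx W₁ W₂) := by
  unfold PhiIdx; infer_instance

instance [Finite G] (W₁ W₂ : Subgroup G) : Finite (PsiIdx W₁ W₂) := by
  unfold PsiIdx; infer_instance

theorem card_trivial_right [Finite G] (W₁ W₂ : Subgroup G)
    (hW : Cfsg.IsSelfNormalizingCyclic W₁ W₂) :
    Nat.card {φ : ↥(W₁ ⊔ W₂) →* ℂˣ // ∀ w ∈ W₂.subgroupOf (W₁ ⊔ W₂), φ w = 1} = Nat.card W₁ := by
  obtain ⟨-, -, hdisj, hcomm, hcyc, -⟩ := hW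
  have h1 := card_hom_trivial_on ↥(W₁ ⊔ W₂) (W₂.subgroupOf (W₁ ⊔ W₂))
  rw [Nat.card_congr (Subgroup.subgroupOfEquivOfLe (le_sup_right : W₂ ≤ W₁ ⊔ W₂)).toEquiv,
    card_sup_of_commute W₁ W₂ hdisj hcomm] at h1
  exact Nat.eq_of_mul_eq_mul_right Nat.card_pos h1

theorem card_trivial_left [Finite G] (W₁ W₂ : Subgroup G)
    (hW : Cfsg.IsSelfNormalizingCyclic W₁ W₂) :
    Nat.card {ψ : ↥(W₁ ⊔ W₂) →* ℂˣ // ∀ w ∈ W₁.subgroupOf (W₁ ⊔ W₂), ψ w = 1} = Nat.card W₂ := by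
  obtain ⟨-, -, hdisj, hcomm, hcyc, -⟩ := hW
  have h1 := card_hom_trivial_on ↥(W₁ ⊔ W₂) (W₁.subgroupOf (W₁ ⊔ W₂))
  rw [Nat.card_congr (Subgroup.subgroupOfEquivOfLe (le_sup_left : W₁ ≤ W₁ ⊔ W₂)).toEquiv,
    card_sup_of_commute W₁ W₂ hdisj hcomm, mul_comm (Nat.card W₁)] at h1
  exact Nat.eq_of_mul_eq_mul_right Nat.card_pos h1

/-- Every linear character of `W₁ ⊔ W₂` is a product `φ ψ` with `φ` trivial on `W₂` and `ψ`
trivial on `W₁`. -/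
theorem exists_decomp [Finite G] (W₁ W₂ : Subgroup G) (hW : Cfsg.IsSelfNormalizingCyclic W₁ W₂)
    (ω : ↥(W₁ ⊔ W₂) →* ℂˣ) :
    ∃ φ ψ : ↥(W₁ ⊔ W₂) →* ℂˣ, (∀ w : ↥(W₁ ⊔ W₂), (w : G) ∈ W₂ → φ w = 1) ∧
      (∀ w : ↥(W₁ ⊔ W₂), (w : G) ∈ W₁ → ψ w = 1) ∧ φ * ψ = ω := by
  have hc1 := card_trivial_right W₁ W₂ hW
  have hc2 := card_trivial_left W₁ W₂ hW
  obtain ⟨-, -, hdisj, hcomm, hcyc, -⟩ := hW
  let m : {φ : ↥(W₁ ⊔ W₂) →* ℂˣ // ∀ w ∈ W₂.subgroupOf (W₁ ⊔ W₂), φ w = 1} ×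
      {ψ : ↥(W₁ ⊔ W₂) →* ℂˣ // ∀ w ∈ W₁.subgroupOf (W₁ ⊔ W₂), ψ w = 1} → (↥(W₁ ⊔ W₂) →* ℂˣ) :=
    fun p => p.1.1 * p.2.1
  have hinj : Function.Injective m := by
    rintro ⟨⟨φ, hφ⟩, ⟨ψ, hψ⟩⟩ ⟨⟨φ', hφ'⟩, ⟨ψ', hψ'⟩⟩ h
    have := mul_eq_mul W₁ W₂ φ φ' ψ ψ' (fun w hw => hφ w (Subgroup.mem_subgroupOf.2 hw))
      (fun w hw => hφ' w (Subgroup.mem_subgroupOf.2 hw))
      (fun w hw => hψ w (Subgroup.mem_subgroupOf.2 hw))
      (fun w hw => hψ' w (Subgroup.mem_subgroupOf.2 hw)) h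
    obtain ⟨rfl, rfl⟩ := this
    rfl
  have hbij : Function.Bijective m := by
    refine hinj.bijective_of_nat_card_le ?_
    rw [Nat.card_prod, hc1, hc2, card_hom_cyclic, card_sup_of_commute W₁ W₂ hdisj hcomm]
  obtain ⟨⟨⟨φ, hφ⟩, ⟨ψ, hψ⟩⟩, hm⟩ := hbij.2 ω
  exact ⟨φ, ψ, fun w hw => hφ w (Subgroup.mem_subgroupOf.2 hw),
    fun w hw => hψ w (Subgroup.mem_subgroupOf.2 hw), hm⟩

theorem card_phiIdx [Finite G] (W₁ W₂ : Subgroup G) (hW : Cfsg.IsSelfNormalizingCyclic W₁ W₂) :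
    Nat.card (PhiIdx W₁ W₂) + 1 = Nat.card W₁ := by
  classical
  rw [← card_trivial_right W₁ W₂ hW]
  have e : Option (PhiIdx W₁ W₂) ≃
      {φ : ↥(W₁ ⊔ W₂) →* ℂˣ // ∀ w ∈ W₂.subgroupOf (W₁ ⊔ W₂), φ w = 1} :=
    { toFun := fun o => match o with
        | none => ⟨1, fun _ _ => rfl⟩
        | some a => ⟨a.1, fun w hw => a.2.2 w (Subgroup.mem_subgroupOf.1 hw)⟩
      invFun := fun φ => if h : φ.1 = 1 then none else
        some ⟨φ.1, h, fun w hw => φ.2 w (Subgroup.mem_subgroupOf.2 hw)⟩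
      left_inv := by
        rintro (_ | a)
        · simp
        · have : a.1 ≠ 1 := a.2.1
          simp only [this, dif_neg, not_false_eq_true]
          rfl
      right_inv := by
        intro φ
        by_cases h : φ.1 = 1
        · simp only [h, dif_pos]
          exact Subtype.ext h.symm
        · simp only [h, dif_neg, not_false_eq_true] }
  rw [← Nat.card_congr e, Finite.card_option]

theorem card_psiIdx [Finite G] (W₁ W₂ : Subgroup G) (hW : Cfsg.IsSelfNormalizingCyclic W₁ W₂) :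
    Nat.card (PsiIdx W₁ W₂) + 1 = Nat.card W₂ := by
  classical
  rw [← card_trivial_left W₁ W₂ hW]
  have e : Option (PsiIdx W₁ W₂) ≃
      {ψ : ↥(W₁ ⊔ W₂) →* ℂˣ // ∀ w ∈ W₁.subgroupOf (W₁ ⊔ W₂), ψ w = 1} :=
    { toFun := fun o => match o with
        | none => ⟨1, fun _ _ => rfl⟩
        | some a => ⟨a.1, fun w hw => a.2.2 w (Subgroup.mem_subgroupOf.1 hw)⟩
      invFun := fun φ => if h : φ.1 = 1 then none else
        some ⟨φ.1, h, fun w hw => φ.2 w (Subgroup.mem_subgroupOf.2 hw)⟩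
      left_inv := by
        rintro (_ | a)
        · simp
        · have : a.1 ≠ 1 := a.2.1
          simp only [this, dif_neg, not_false_eq_true]
          rfl
      right_inv := by
        intro φ
        by_cases h : φ.1 = 1
        · simp only [h, dif_pos]
          exact Subtype.ext h.symm
        · simp only [h, dif_neg, not_false_eq_true] }
  rw [← Nat.card_congr e, Finite.card_option]

/-- The orders of `W₁` and `W₂` are odd, at least 3 and distinct. -/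
theorem card_facts [Finite G] (W₁ W₂ : Subgroup G) (hW : Cfsg.IsSelfNormalizingCyclic W₁ W₂)
    (hodd : Odd (Nat.card ↥(W₁ ⊔ W₂))) :
    Odd (Nat.card W₁) ∧ Odd (Nat.card W₂) ∧ 3 ≤ Nat.card W₁ ∧ 3 ≤ Nat.card W₂ ∧
      Nat.card W₁ ≠ Nat.card W₂ := by
  obtain ⟨hne₁, hne₂, hdisj, hcomm, hcyc, -⟩ := hW
  have hcard := card_sup_of_commute W₁ W₂ hdisj hcomm
  rw [hcard] at hodd
  have ho1 : Odd (Nat.card W₁) := (Nat.odd_mul.1 hodd).1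
  have ho2 : Odd (Nat.card W₂) := (Nat.odd_mul.1 hodd).2
  have h1 : Nat.card W₁ ≠ 1 := fun h => hne₁ (Subgroup.card_eq_one.1 h)
  have h2 : Nat.card W₂ ≠ 1 := fun h => hne₂ (Subgroup.card_eq_one.1 h)
  have hp1 : 0 < Nat.card W₁ := Nat.card_pos
  have hp2 : 0 < Nat.card W₂ := Nat.card_pos
  refine ⟨ho1, ho2, ?_, ?_, ?_⟩
  · obtain ⟨k, hk⟩ := ho1; omega
  · obtain ⟨k, hk⟩ := ho2; omega
  · intro heq
    apply hne₁
    rw [eq_bot_iff]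
    intro a ha
    have haW : a ∈ W₁ ⊔ W₂ := Subgroup.mem_sup_left ha
    have h3 : a ^ Nat.card W₁ = 1 :=
      (Cfsg.Agent.Lib.Helper25_TIInd.mem_left_iff W₁ W₂ a haW).1 ha
    rw [heq] at h3
    have h4 : a ∈ W₂ := (Cfsg.Agent.Lib.Helper25_TIInd.mem_right_iff W₁ W₂ a haW).2 h3
    have : a ∈ W₁ ⊓ W₂ := ⟨ha, h4⟩
    rw [hdisj] at this
    exact this

end Cfsg.Agent.Lib.Helper16_CycIndex
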