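import Mathlib
import Cfsg.Prelude.Def_Characters
import Cfsg.Prelude.Def_OddOrderChar
import Cfsg.Prelude.Def_OddOrderLocal
import Cfsg.Agent.Lib.Helper16_CycFourier
import Cfsg.Agent.Lib.Helper3_CharOrtho
import Cfsg.Agent.S0146
import Cfsg.Agent.S1505

/-!
# Values of a cyclic TI family on the TI set (helper16)

A family of class functions attached to the linear characters of `W = W₁ ⊔ W₂` which is
orthonormal, sends `1` to `1` and satisfies the induction identity of Peterfalvi (3.2) automatically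
takes the values `χ ω w = ω w` for `w ∈ W` outside `W₁ ∪ W₂`.
-/

set_option autoImplicit false

namespace Cfsg.Agent.Lib.Helper16_CycValues

open Cfsg.Agent.Lib.Helper16_CycFourier Cfsg.Agent.Lib.Helper3_CharOrtho
open scoped ComplexConjugate

open Classical in
theorem eq_on_of_family {G : Type*} [Group G] [Fintype G] (W₁ W₂ : Subgroup G)
    (hW : Cfsg.IsSelfNormalizingCyclic W₁ W₂) (χ : (↥(W₁ ⊔ W₂) →* ℂˣ) → (G → ℂ))
    (hcf : ∀ ω, Cfsg.IsClassFunction G (χ ω))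
    (hon : ∀ ω ω', Cfsg.classInner (χ ω) (χ ω') =
      @ite ℂ (ω = ω') (Classical.propDecidable _) 1 0)
    (hone : χ 1 = fun _ => 1)
    (hind : ∀ φ ψ : ↥(W₁ ⊔ W₂) →* ℂˣ, φ ≠ 1 → ψ ≠ 1 →
      (∀ w : ↥(W₁ ⊔ W₂), (w : G) ∈ W₂ → φ w = 1) → (∀ w : ↥(W₁ ⊔ W₂), (w : G) ∈ W₁ → ψ w = 1) →
      Cfsg.indFun (W₁ ⊔ W₂) (fun w => 1 - (φ w : ℂ) - (ψ w : ℂ) + (φ w : ℂ) * (ψ w : ℂ)) =
        fun g => 1 - χ φ g - χ ψ g + χ (φ * ψ) g) :
    ∀ ω, ∀ w : ↥(W₁ ⊔ W₂), (w : G) ∉ W₁ → (w : G) ∉ W₂ → χ ω w = (ω w : ℂ) := by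
  intro ω v hv₁ hv₂
  obtain ⟨hne₁, hne₂, hdisj, hcomm12, hcyc, hnorm⟩ := hW
  have hcomm : ∀ a b : ↥(W₁ ⊔ W₂), a * b = b * a := fun a b => by
    obtain ⟨g, hg⟩ := IsCyclic.exists_generator (α := ↥(W₁ ⊔ W₂))
    obtain ⟨m, rfl⟩ := Subgroup.mem_zpowers_iff.1 (hg a)
    obtain ⟨n, rfl⟩ := Subgroup.mem_zpowers_iff.1 (hg b)
    exact zpow_mul_comm g m n
  have hd : W₁.subgroupOf (W₁ ⊔ W₂) ⊓ W₂.subgroupOf (W₁ ⊔ W₂) = ⊥ := by
    rw [eq_bot_iff]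
    intro w hw
    have h1 : (w : G) ∈ W₁ := Subgroup.mem_subgroupOf.1 hw.1
    have h2 : (w : G) ∈ W₂ := Subgroup.mem_subgroupOf.1 hw.2
    have h3 : (w : G) ∈ W₁ ⊓ W₂ := ⟨h1, h2⟩
    rw [hdisj, Subgroup.mem_bot] at h3
    exact Subgroup.mem_bot.2 (Subtype.ext h3)
  have key := eq_zero_of_orth hcomm (W₁.subgroupOf (W₁ ⊔ W₂)) (W₂.subgroupOf (W₁ ⊔ W₂)) hd
    (fun w => conj (χ ω w - ((ω w : ℂˣ) : ℂ))) ?_ (v := v)
    (by rw [Subgroup.mem_subgroupOf]; exact hv₁) (by rw [Subgroup.mem_subgroupOf]; exact hv₂)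
  · have h0 : χ ω v - ((ω v : ℂˣ) : ℂ) = 0 := (map_eq_zero (starRingEnd ℂ)).1 key
    exact sub_eq_zero.1 h0
  · intro φ hφ ψ hψ
    have hφ' : ∀ w : ↥(W₁ ⊔ W₂), (w : G) ∈ W₂ → φ w = 1 := fun w hw =>
      hφ w (Subgroup.mem_subgroupOf.2 hw)
    have hψ' : ∀ w : ↥(W₁ ⊔ W₂), (w : G) ∈ W₁ → ψ w = 1 := fun w hw =>
      hψ w (Subgroup.mem_subgroupOf.2 hw)
    by_cases h1 : φ = 1
    · subst h1; simp
    by_cases h2 : ψ = 1
    · subst h2; simp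
    have hA : Cfsg.classInner (fun w : ↥(W₁ ⊔ W₂) => 1 - (φ w : ℂ) - (ψ w : ℂ) +
        (φ w : ℂ) * (ψ w : ℂ)) (fun w : ↥(W₁ ⊔ W₂) => χ ω w) =
        @ite ℂ ((1 : ↥(W₁ ⊔ W₂) →* ℂˣ) = ω) (Classical.propDecidable _) 1 0 -
          @ite ℂ (φ = ω) (Classical.propDecidable _) 1 0 -
          @ite ℂ (ψ = ω) (Classical.propDecidable _) 1 0 +
          @ite ℂ (φ * ψ = ω) (Classical.propDecidable _) 1 0 := by
      rw [← Cfsg.Agent.S0146.result (W₁ ⊔ W₂) _ (χ ω) (hcf ω), hind φ ψ h1 h2 hφ' hψ']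
      have e : (fun g => 1 - χ φ g - χ ψ g + χ (φ * ψ) g) = χ 1 - χ φ - χ ψ + χ (φ * ψ) := by
        funext g
        simp [hone]
      rw [e, classInner_add_left, classInner_sub_left, classInner_sub_left, hon, hon, hon, hon]
    have hB : Cfsg.classInner (fun w : ↥(W₁ ⊔ W₂) => 1 - (φ w : ℂ) - (ψ w : ℂ) +
        (φ w : ℂ) * (ψ w : ℂ)) (Cfsg.Agent.S1505.cf ω) =
        @ite ℂ ((1 : ↥(W₁ ⊔ W₂) →* ℂˣ) = ω) (Classical.propDecidable _) 1 0 -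
          @ite ℂ (φ = ω) (Classical.propDecidable _) 1 0 -
          @ite ℂ (ψ = ω) (Classical.propDecidable _) 1 0 +
          @ite ℂ (φ * ψ = ω) (Classical.propDecidable _) 1 0 := by
      have hom : ∀ ω₁ ω₂ : ↥(W₁ ⊔ W₂) →* ℂˣ,
          Cfsg.classInner (Cfsg.Agent.S1505.cf ω₁) (Cfsg.Agent.S1505.cf ω₂) =
            @ite ℂ (ω₁ = ω₂) (Classical.propDecidable _) 1 0 := fun ω₁ ω₂ =>
        @Cfsg.Agent.S1505.classInner_hom _ _ _ ω₁ ω₂ (Classical.propDecidable _)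
      have hα : (fun w : ↥(W₁ ⊔ W₂) => 1 - (φ w : ℂ) - (ψ w : ℂ) + (φ w : ℂ) * (ψ w : ℂ)) =
          Cfsg.Agent.S1505.cf (1 : ↥(W₁ ⊔ W₂) →* ℂˣ) - Cfsg.Agent.S1505.cf φ -
            Cfsg.Agent.S1505.cf ψ + Cfsg.Agent.S1505.cf (φ * ψ) := by
        funext w
        simp [Cfsg.Agent.S1505.cf]
      rw [hα, classInner_add_left, classInner_sub_left, classInner_sub_left, hom, hom, hom, hom]
    have hC : Cfsg.classInner (fun w : ↥(W₁ ⊔ W₂) => 1 - (φ w : ℂ) - (ψ w : ℂ) +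
        (φ w : ℂ) * (ψ w : ℂ))
        ((fun w : ↥(W₁ ⊔ W₂) => χ ω w) - Cfsg.Agent.S1505.cf ω) = 0 := by
      rw [Cfsg.Agent.Lib.Helper25_CyclicTI.classInner_sub_right, hA, hB, sub_self]
    unfold Cfsg.classInner at hC
    have hcard : ((Nat.card ↥(W₁ ⊔ W₂) : ℂ))⁻¹ ≠ 0 :=
      inv_ne_zero (by exact_mod_cast (Nat.card_pos (α := ↥(W₁ ⊔ W₂))).ne')
    rcases mul_eq_zero.1 hC with h0 | h0
    · exact absurd h0 hcard
    · rw [← h0]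
      refine Finset.sum_congr rfl fun w _ => ?_
      simp only [Pi.sub_apply, Cfsg.Agent.S1505.cf]
      ring

end Cfsg.Agent.Lib.Helper16_CycValues
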