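import Mathlib
import Cfsg.Prelude.Def_Characters
import Cfsg.Prelude.Def_OddOrderChar
import Cfsg.Prelude.Def_OddOrderLocal
import Cfsg.Agent.Lib.Helper16_Array
import Cfsg.Agent.Lib.Helper16_Array2
import Cfsg.Agent.Lib.Helper16_CycValues
import Cfsg.Agent.Lib.Helper16_CycCoeff
import Cfsg.Agent.Lib.Helper16_CycIndex
import Cfsg.Agent.Lib.Helper3_CharOrtho
import Cfsg.Agent.Lib.Helper3_CharBridge
import Cfsg.Agent.Lib.Helper3_CharComplete
import Cfsg.Agent.Lib.Helper25_CyclicDual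
import Cfsg.Agent.S1505

/-!
# Existence of the cyclic TI isometry (helper16)

Peterfalvi (3.2)/(3.5): for `W = W₁ ⊔ W₂` cyclic of odd order, self-normalizing on `W ∖ (W₁ ∪ W₂)`,
there is a family `χ ω` of irreducible characters up to sign, indexed by the linear characters of
`W`, with all the properties of `Cfsg.IsCyclicTIFamily`.
-/

set_option autoImplicit false

namespace Cfsg.Agent.Lib.Helper16_CycMain

open Cfsg.Agent.Lib.Helper16_Array Cfsg.Agent.Lib.Helper16_CycCoeff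
open Cfsg.Agent.Lib.Helper16_CycIndex Cfsg.Agent.Lib.Helper3_CharOrtho
open Cfsg.Agent.Lib.Helper3_CharBridge Cfsg.Agent.Lib.Helper3_CharComplete
open scoped ComplexConjugate

section generic

variable {X A B : Type*}

/-- The irreducible constituent attached to an index. -/
def irrO (triv : X) (x : A → X) (y : B → X) (z : A → B → X) : Option A × Option B → X
  | (none, none) => triv
  | (some a, none) => x a
  | (none, some b) => y b
  | (some a, some b) => z a b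

/-- The sign attached to an index. -/
def sgnO (s : A → ℤ) (t : B → ℤ) (u : A → B → ℤ) : Option A × Option B → ℤ
  | (none, none) => 1
  | (some a, none) => - s a
  | (none, some b) => - t b
  | (some a, some b) => u a b

theorem irrO_injective (triv : X) (x : A → X) (y : B → X) (z : A → B → X)
    (hx : Function.Injective x) (hy : Function.Injective y)
    (hz : ∀ a b a' b', z a b = z a' b' → a = a' ∧ b = b') (hxy : ∀ a b, x a ≠ y b)
    (hxz : ∀ a a' b, x a ≠ z a' b) (hyz : ∀ b a b', y b ≠ z a b') (htx : ∀ a, x a ≠ triv)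
    (hty : ∀ b, y b ≠ triv) (htz : ∀ a b, z a b ≠ triv) :
    Function.Injective (irrO triv x y z) := by
  rintro ⟨_ | a, _ | b⟩ ⟨_ | a', _ | b'⟩ h <;> simp only [irrO] at h
  · rfl
  · exact absurd h.symm (hty _)
  · exact absurd h.symm (htx _)
  · exact absurd h.symm (htz _ _)
  · exact absurd h (hty _)
  · rw [hy h]
  · exact absurd h.symm (hxy _ _)
  · exact absurd h (hyz _ _ _)
  · exact absurd h (htx _)
  · exact absurd h (hxy _ _)
  · rw [hx h]
  · exact absurd h (hxz _ _ _)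
  · exact absurd h (htz _ _)
  · exact absurd h.symm (hyz _ _ _)
  · exact absurd h.symm (hxz _ _ _)
  · obtain ⟨rfl, rfl⟩ := hz _ _ _ _ h
    rfl

theorem sgnO_eq (s : A → ℤ) (t : B → ℤ) (u : A → B → ℤ) (hs : ∀ a, s a = 1 ∨ s a = -1)
    (ht : ∀ b, t b = 1 ∨ t b = -1) (hu : ∀ a b, u a b = 1 ∨ u a b = -1) (i : Option A × Option B) :
    sgnO s t u i = 1 ∨ sgnO s t u i = -1 := by
  rcases i with ⟨_ | a, _ | b⟩
  · left; rfl
  · show - t b = 1 ∨ - t b = -1
    rcases ht b with h | h <;> rw [h] <;> simp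
  · show - s a = 1 ∨ - s a = -1
    rcases hs a with h | h <;> rw [h] <;> simp
  · exact hu a b

end generic

/-- **Existence of the cyclic TI isometry** (Peterfalvi (3.2), (3.5)). -/
theorem exists_family {G : Type*} [Group G] [Fintype G] (W₁ W₂ : Subgroup G)
    (hW : Cfsg.IsSelfNormalizingCyclic W₁ W₂) (hodd : Odd (Nat.card ↥(W₁ ⊔ W₂))) :
    ∃ χ : (↥(W₁ ⊔ W₂) →* ℂˣ) → (G → ℂ), Cfsg.IsCyclicTIFamily W₁ W₂ χ := by
  classical
  have instA : Fintype (PhiIdx W₁ W₂) := Fintype.ofFinite _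
  have instB : Fintype (PsiIdx W₁ W₂) := Fintype.ofFinite _
  -- the coefficient array
  have hint : ∀ (a : PhiIdx W₁ W₂) (b : PsiIdx W₁ W₂) (χ : Cfsg.IrrCharacter G),
      ∃ n : ℤ, Cfsg.classInner (betaFun W₁ W₂ a.1 b.1) χ = n :=
    fun a b χ => exists_int_beta W₁ W₂ a.1 b.1 χ
  choose V hV using hint
  have harr : IsArray V := by
    intro a b a' b'
    have h1 := classInner_eq_int_dot (isClassFunction_beta W₁ W₂ a.1 b.1) (hV a b) (hV a' b')
    rw [classInner_beta W₁ W₂ hW a.1 a'.1 b.1 b'.1 a.2.1 a'.2.1 b.2.1 b'.2.1 a.2.2 a'.2.2 b.2.2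
      b'.2.2] at h1
    have h2 : ((dot (V a b) (V a' b') : ℤ) : ℂ) =
        (((if a = a' then 1 else 0) + (if b = b' then 1 else 0) +
          (if a = a' ∧ b = b' then 1 else 0) : ℤ) : ℂ) := by
      rw [show dot (V a b) (V a' b') = ∑ χ, V a b χ * V a' b' χ from rfl, ← h1]
      by_cases ha : a = a'
      · by_cases hb : b = b'
        · subst ha; subst hb; simp; norm_num
        · have hb' : b.1 ≠ b'.1 := fun h => hb (Subtype.ext h)
          subst ha; simp [hb, hb']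
      · have ha' : a.1 ≠ a'.1 := fun h => ha (Subtype.ext h)
        by_cases hb : b = b'
        · subst hb; simp [ha, ha']
        · have hb' : b.1 ≠ b'.1 := fun h => hb (Subtype.ext h)
          simp [ha, ha', hb, hb']
    exact_mod_cast h2
  -- cardinalities
  obtain ⟨ho1, ho2, h31, h32, hne12⟩ := card_facts W₁ W₂ hW hodd
  have hcA := card_phiIdx W₁ W₂ hW
  have hcB := card_psiIdx W₁ W₂ hW
  rw [Nat.card_eq_fintype_card] at hcA hcB
  obtain ⟨k1, hk1⟩ := ho1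
  obtain ⟨k2, hk2⟩ := ho2
  have hA2 : 2 ≤ Fintype.card (PhiIdx W₁ W₂) := by omega
  have hA3 : Fintype.card (PhiIdx W₁ W₂) ≠ 3 := by omega
  have hB2 : 2 ≤ Fintype.card (PsiIdx W₁ W₂) := by omega
  have hB3 : Fintype.card (PsiIdx W₁ W₂) ≠ 3 := by omega
  have h4 : 4 ≤ Fintype.card (PhiIdx W₁ W₂) ∨ 4 ≤ Fintype.card (PsiIdx W₁ W₂) := by omega
  obtain ⟨x, y, z, s, t, u, hs, ht, hu, hxinj, hyinj, hzinj, hxy, hxz, hyz, hVx, hVy, hVz, hV0⟩ :=
    harr.decomp hA2 hA3 hB2 hB3 h4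
  obtain ⟨a₀⟩ : Nonempty (PhiIdx W₁ W₂) := Fintype.card_pos_iff.1 (by omega)
  obtain ⟨b₀⟩ : Nonempty (PsiIdx W₁ W₂) := Fintype.card_pos_iff.1 (by omega)
  -- the principal character
  let triv : Cfsg.IrrCharacter G := ⟨fun _ => 1, isIrrCharacter_one⟩
  have hVtriv : ∀ a b, V a b triv = 0 := by
    intro a b
    have h1 := hV a b triv
    have h2 := (Cfsg.Agent.S1505.result W₁ W₂ hW a.1 a.1 b.1 b.1 a.2.1 a.2.1 b.2.1 b.2.1
      (fun w hw => ⟨a.2.2 w hw, a.2.2 w hw⟩) (fun w hw => ⟨b.2.2 w hw, b.2.2 w hw⟩)).1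
    have h3 : Cfsg.classInner (fun _ : G => (1 : ℂ)) (fun _ : G => (1 : ℂ)) = 1 :=
      classInner_self_of_isIrrCharacter isIrrCharacter_one
    have h4 : Cfsg.classInner (betaFun W₁ W₂ a.1 b.1) (fun _ : G => (1 : ℂ)) = 0 := by
      unfold betaFun
      rw [classInner_sub_left, h2, h3, sub_self]
    have h5 : ((V a b triv : ℤ) : ℂ) = 0 := by rw [← h1]; exact h4
    exact_mod_cast h5
  have hsne : ∀ a, s a ≠ 0 := fun a => by rcases hs a with h | h <;> rw [h] <;> decide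
  have htne : ∀ b, t b ≠ 0 := fun b => by rcases ht b with h | h <;> rw [h] <;> decide
  have hune : ∀ a b, u a b ≠ 0 := fun a b => by rcases hu a b with h | h <;> rw [h] <;> decide
  have htx : ∀ a, x a ≠ triv := fun a h => hsne a (by rw [← hVx a b₀, h, hVtriv])
  have hty : ∀ b, y b ≠ triv := fun b h => htne b (by rw [← hVy a₀ b, h, hVtriv])
  have htz : ∀ a b, z a b ≠ triv := fun a b h => hune a b (by rw [← hVz a b, h, hVtriv])
  have hirrinj := irrO_injective triv x y z hxinj hyinj hzinj hxy hxz hyz htx hty htz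
  have hsgn := sgnO_eq s t u hs ht hu
  -- the factorisation of linear characters
  choose dφ dψ hdφ hdψ hdmul using exists_decomp W₁ W₂ hW
  have huniq : ∀ φ ψ : ↥(W₁ ⊔ W₂) →* ℂˣ, (∀ w : ↥(W₁ ⊔ W₂), (w : G) ∈ W₂ → φ w = 1) →
      (∀ w : ↥(W₁ ⊔ W₂), (w : G) ∈ W₁ → ψ w = 1) → dφ (φ * ψ) = φ ∧ dψ (φ * ψ) = ψ :=
    fun φ ψ hφ hψ => Cfsg.Agent.Lib.Helper25_CyclicDual.mul_eq_mul W₁ W₂ _ _ _ _
      (hdφ _) hφ (hdψ _) hψ (hdmul _)
  let idx : (↥(W₁ ⊔ W₂) →* ℂˣ) → Option (PhiIdx W₁ W₂) × Option (PsiIdx W₁ W₂) := fun ω =>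
    (if h : dφ ω = 1 then none else some ⟨dφ ω, h, hdφ ω⟩,
      if h : dψ ω = 1 then none else some ⟨dψ ω, h, hdψ ω⟩)
  have hidx : ∀ φ ψ : ↥(W₁ ⊔ W₂) →* ℂˣ, ∀ hφ : (∀ w : ↥(W₁ ⊔ W₂), (w : G) ∈ W₂ → φ w = 1),
      ∀ hψ : (∀ w : ↥(W₁ ⊔ W₂), (w : G) ∈ W₁ → ψ w = 1),
      idx (φ * ψ) = (if h : φ = 1 then none else some ⟨φ, h, hφ⟩,
        if h : ψ = 1 then none else some ⟨ψ, h, hψ⟩) := by
    intro φ ψ hφ hψ
    obtain ⟨e1, e2⟩ := huniq φ ψ hφ hψ
    simp only [idx]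
    congr 1
    · by_cases h : φ = 1
      · rw [dif_pos h, dif_pos (e1.trans h)]
      · rw [dif_neg h, dif_neg (fun h' => h (e1.symm.trans h'))]
        congr 1
        exact Subtype.ext e1
    · by_cases h : ψ = 1
      · rw [dif_pos h, dif_pos (e2.trans h)]
      · rw [dif_neg h, dif_neg (fun h' => h (e2.symm.trans h'))]
        congr 1
        exact Subtype.ext e2
  have h1φ : ∀ w : ↥(W₁ ⊔ W₂), (w : G) ∈ W₂ → (1 : ↥(W₁ ⊔ W₂) →* ℂˣ) w = 1 := fun _ _ => rfl
  have h1ψ : ∀ w : ↥(W₁ ⊔ W₂), (w : G) ∈ W₁ → (1 : ↥(W₁ ⊔ W₂) →* ℂˣ) w = 1 := fun _ _ => rfl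
  have hidx_inj : Function.Injective idx := by
    intro ω ω' h
    have e1 : dφ ω = dφ ω' := by
      have := congrArg Prod.fst h
      simp only [idx] at this
      by_cases h1 : dφ ω = 1
      · by_cases h2 : dφ ω' = 1
        · rw [h1, h2]
        · rw [dif_pos h1, dif_neg h2] at this
          exact absurd this (by simp)
      · by_cases h2 : dφ ω' = 1
        · rw [dif_neg h1, dif_pos h2] at this
          exact absurd this (by simp)
        · rw [dif_neg h1, dif_neg h2] at this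
          exact congrArg Subtype.val (Option.some.inj this)
    have e2 : dψ ω = dψ ω' := by
      have := congrArg Prod.snd h
      simp only [idx] at this
      by_cases h1 : dψ ω = 1
      · by_cases h2 : dψ ω' = 1
        · rw [h1, h2]
        · rw [dif_pos h1, dif_neg h2] at this
          exact absurd this (by simp)
      · by_cases h2 : dψ ω' = 1
        · rw [dif_neg h1, dif_pos h2] at this
          exact absurd this (by simp)
        · rw [dif_neg h1, dif_neg h2] at this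
          exact congrArg Subtype.val (Option.some.inj this)
    rw [← hdmul ω, ← hdmul ω', e1, e2]
  -- the family
  let χ : (↥(W₁ ⊔ W₂) →* ℂˣ) → (G → ℂ) := fun ω =>
    ((sgnO s t u (idx ω) : ℤ) : ℂ) • ((irrO triv x y z (idx ω) : Cfsg.IrrCharacter G) : G → ℂ)
  have hχone : χ 1 = fun _ => 1 := by
    have h := hidx 1 1 h1φ h1ψ
    have e : ((1 : ↥(W₁ ⊔ W₂) →* ℂˣ) * 1) = 1 := mul_one (1 : ↥(W₁ ⊔ W₂) →* ℂˣ)
    rw [e, dif_pos rfl, dif_pos rfl] at h
    show ((sgnO s t u (idx 1) : ℤ) : ℂ) • ((irrO triv x y z (idx 1) : Cfsg.IrrCharacter G) : G → ℂ)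
      = fun _ => 1
    rw [h]
    funext g
    simp [sgnO, irrO, triv]
  have hχon : ∀ ω ω', Cfsg.classInner (χ ω) (χ ω') =
      @ite ℂ (ω = ω') (Classical.propDecidable _) 1 0 := by
    intro ω ω'
    show Cfsg.classInner (((sgnO s t u (idx ω) : ℤ) : ℂ) • _) (((sgnO s t u (idx ω') : ℤ) : ℂ) • _)
      = _
    rw [classInner_smul_left, classInner_smul_right]
    by_cases h : ω = ω'
    · subst h
      rw [if_pos rfl, classInner_self_of_isIrrCharacter (irrO triv x y z (idx ω)).2]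
      rcases hsgn (idx ω) with h' | h' <;> rw [h'] <;> simp
    · rw [if_neg h, classInner_of_isIrrCharacter_of_ne (irrO triv x y z (idx ω)).2
        (irrO triv x y z (idx ω')).2
        (fun e => h (hidx_inj (hirrinj (Subtype.ext e)))), mul_zero, mul_zero]
  have hχind : ∀ φ ψ : ↥(W₁ ⊔ W₂) →* ℂˣ, φ ≠ 1 → ψ ≠ 1 →
      (∀ w : ↥(W₁ ⊔ W₂), (w : G) ∈ W₂ → φ w = 1) → (∀ w : ↥(W₁ ⊔ W₂), (w : G) ∈ W₁ → ψ w = 1) →
      Cfsg.indFun (W₁ ⊔ W₂) (fun w => 1 - (φ w : ℂ) - (ψ w : ℂ) + (φ w : ℂ) * (ψ w : ℂ)) =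
        fun g => 1 - χ φ g - χ ψ g + χ (φ * ψ) g := by
    intro φ ψ hφ1 hψ1 hφ hψ
    let a : PhiIdx W₁ W₂ := ⟨φ, hφ1, hφ⟩
    let b : PsiIdx W₁ W₂ := ⟨ψ, hψ1, hψ⟩
    have i1 : idx φ = (some a, none) := by
      have h := hidx φ 1 hφ h1ψ
      have e : (φ * (1 : ↥(W₁ ⊔ W₂) →* ℂˣ)) = φ := mul_one φ
      rw [e, dif_neg hφ1, dif_pos rfl] at h
      exact h
    have i2 : idx ψ = (none, some b) := by
      have h := hidx 1 ψ h1φ hψ
      have e : ((1 : ↥(W₁ ⊔ W₂) →* ℂˣ) * ψ) = ψ := one_mul ψ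
      rw [e, dif_pos rfl, dif_neg hψ1] at h
      exact h
    have i3 : idx (φ * ψ) = (some a, some b) := by
      have h := hidx φ ψ hφ hψ
      rw [dif_neg hφ1, dif_neg hψ1] at h
      exact h
    -- expansion of betaFun
    have hb : betaFun W₁ W₂ φ ψ = ((s a : ℤ) : ℂ) • ((x a : Cfsg.IrrCharacter G) : G → ℂ) +
        ((t b : ℤ) : ℂ) • ((y b : Cfsg.IrrCharacter G) : G → ℂ) +
        ((u a b : ℤ) : ℂ) • ((z a b : Cfsg.IrrCharacter G) : G → ℂ) := by
      have h1 := classFunction_eq_sum (betaFun W₁ W₂ φ ψ) (isClassFunction_beta W₁ W₂ φ ψ)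
      have h2 : ∑ χ' : Cfsg.IrrCharacter G, Cfsg.classInner (betaFun W₁ W₂ φ ψ) χ' • (χ' : G → ℂ) =
          ∑ χ' ∈ ({x a, y b, z a b} : Finset (Cfsg.IrrCharacter G)),
            ((V a b χ' : ℤ) : ℂ) • (χ' : G → ℂ) := by
        have e : ∀ χ' : Cfsg.IrrCharacter G,
            Cfsg.classInner (betaFun W₁ W₂ φ ψ) χ' • (χ' : G → ℂ) =
              ((V a b χ' : ℤ) : ℂ) • (χ' : G → ℂ) := fun χ' => by rw [← hV a b χ']
        rw [Finset.sum_congr rfl (fun χ' _ => e χ')]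
        symm
        refine Finset.sum_subset (Finset.subset_univ _) fun χ' _ hχ' => ?_
        simp only [Finset.mem_insert, Finset.mem_singleton, not_or] at hχ'
        rw [hV0 a b χ' hχ'.1 hχ'.2.1 hχ'.2.2, Int.cast_zero, zero_smul]
      rw [h1, h2, Finset.sum_insert (by simp [hxy a b, hxz a a b]),
        Finset.sum_insert (by simp [hyz b a b]), Finset.sum_singleton, hVx, hVy, hVz, add_assoc]
    have hind : Cfsg.indFun (W₁ ⊔ W₂)
        (fun w => 1 - (φ w : ℂ) - (ψ w : ℂ) + (φ w : ℂ) * (ψ w : ℂ)) =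
        betaFun W₁ W₂ φ ψ + fun _ => (1 : ℂ) := by
      unfold betaFun
      rw [sub_add_cancel]
    rw [hind, hb]
    funext g
    have hχapply : ∀ ω g, χ ω g = ((sgnO s t u (idx ω) : ℤ) : ℂ) *
        ((irrO triv x y z (idx ω) : Cfsg.IrrCharacter G) : G → ℂ) g := fun _ _ => rfl
    rw [hχapply, hχapply, hχapply, i1, i2, i3]
    simp only [sgnO, irrO, Pi.add_apply, Pi.smul_apply, smul_eq_mul, Int.cast_neg]
    ring
  have hχcf : ∀ ω, Cfsg.IsClassFunction G (χ ω) := fun ω =>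
    isClassFunction_smul _ (isClassFunction_of_isIrrCharacter (irrO triv x y z (idx ω)).2)
  refine ⟨χ, ⟨?_, hχon, hχone, ?_, hχind⟩⟩
  · intro ω
    rcases hsgn (idx ω) with h | h
    · left
      show Cfsg.IsIrrCharacter G (((sgnO s t u (idx ω) : ℤ) : ℂ) • _)
      rw [h, Int.cast_one, one_smul]
      exact (irrO triv x y z (idx ω)).2
    · right
      show Cfsg.IsIrrCharacter G (-(((sgnO s t u (idx ω) : ℤ) : ℂ) • _))
      rw [h, Int.cast_neg, Int.cast_one, neg_smul, one_smul, neg_neg]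
      exact (irrO triv x y z (idx ω)).2
  · exact Cfsg.Agent.Lib.Helper16_CycValues.eq_on_of_family W₁ W₂ hW χ hχcf hχon hχone hχind

end Cfsg.Agent.Lib.Helper16_CycMain
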