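import Mathlib
import Cfsg.Prelude.Def_Characters
import Cfsg.Agent.Lib.Helper39_CharTools
import Cfsg.Agent.Lib.Helper3_CharOrtho

/-!
# DEFZERO market, package R6C (helper16)

A constituent `θ` of the restriction `φ|_B` of a character `φ` lies under some irreducible
constituent `ψ` of `φ`.
-/

set_option autoImplicit false

namespace Cfsg.Agent.Lib.Helper16_DZ_R6C

open Cfsg

/-- R6C.  `φ = ∑ m_ψ ψ`, so `⟨φ|_B, θ⟩ = ∑ m_ψ ⟨ψ|_B, θ⟩ ≠ 0`: some term is nonzero. -/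
theorem dz_r6c {H : Type*} [Group H] [Fintype H] (B : Subgroup H) [Fintype B] (φ : H → ℂ)
    (hφ : Cfsg.IsCharacter H φ) (θ : B → ℂ) (hθ : Cfsg.IsCharacter B θ)
    (hne : Cfsg.classInner (fun b : B => φ b) θ ≠ 0) :
    ∃ ψ : Cfsg.IrrCharacter H, Cfsg.classInner φ (ψ : H → ℂ) ≠ 0 ∧
      Cfsg.classInner (fun b : B => (ψ : H → ℂ) b) θ ≠ 0 := by
  classical
  obtain ⟨m, hm, hsum⟩ := Cfsg.Agent.Lib.Helper39_CharTools.char_eq_sum_nat hφ
  by_contra hcon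
  push Not at hcon
  apply hne
  have hdec : (fun b : B => φ b) =
      ∑ ψ : IrrCharacter H, (m ψ : ℂ) • (fun b : B => (ψ : H → ℂ) b) := by
    funext b
    rw [hsum, Finset.sum_apply]
    rfl
  rw [hdec, Cfsg.Agent.Lib.Helper3_CharOrtho.classInner_sum_left]
  refine Finset.sum_eq_zero fun ψ _ => ?_
  rw [Cfsg.Agent.Lib.Helper3_CharOrtho.classInner_smul_left]
  by_cases h0 : Cfsg.classInner φ (ψ : H → ℂ) = 0
  · rw [hm ψ] at h0
    rw [h0, zero_mul]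
  · rw [hcon ψ h0, mul_zero]

end Cfsg.Agent.Lib.Helper16_DZ_R6C
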