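import Mathlib
import Cfsg.Prelude.Def_Blocks
import Cfsg.Agent.Lib.Helper78_LocalRing
import Cfsg.Agent.Lib.Helper78_CentralChar
import Cfsg.Agent.Lib.Helper78_CharFacts
import Cfsg.Agent.Lib.Helper78_SecondMainChar
import Cfsg.Agent.Lib.Helper78_Deficiency
import Cfsg.Agent.Lib.Helper78_FirstMainGT
import Cfsg.Agent.Lib.Helper80_CharBasic
import Cfsg.Agent.Lib.Helper80_CharComplete
import Cfsg.Agent.Lib.Helper3_CharComplete
import Cfsg.Agent.Lib.Helper16_Char
import Cfsg.Agent.Lib.Helper16_BlockOrth
import Cfsg.Agent.Lib.Helper16_PrincipalSection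
import Cfsg.Agent.Lib.Helper16_SectionNorm

/-!
# Orthogonality relations for subsections (helper16)

`u` a `p`-element of `G`, `H = C_G(u)`, `e` a block of `H`; for an irreducible character `ζ` of
`G` write `ζ^(u,e)` for the `e`-part of `c ↦ ζ (u c)`.

* `subsection_raw` : `∑_ζ conj (ζ (u y')) ζ^(u,e)(y) = ∑_{ψ ∈ e} ψ y conj (ψ y')` for `p`-regular
  `y, y' ∈ H`, the sum over all irreducible characters of `G`.
* `subsection_block` : the same with `ζ` running over `B = e^G` only.
* `irr_mul_eq_blockPart_of_unique` : if `e` is the only block of `H` inducing `B`, then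
  `ζ (u y) = ζ^(u,e)(y)` for `ζ ∈ B` and `p`-regular `y`.
* `section_orthogonality_of_unique` : then `∑_{ζ ∈ B} ζ (u y) conj (ζ (u y')) =
  ∑_{ψ ∈ e} ψ y conj (ψ y')`.
-/

set_option autoImplicit false
set_option linter.unusedSectionVars false

namespace Cfsg.Agent.Lib.Helper16_Subsection

open Cfsg Cfsg.Agent.Lib.Helper78_LocalRing Cfsg.Agent.Lib.Helper78_CentralChar
  Cfsg.Agent.Lib.Helper78_CharFacts Cfsg.Agent.Lib.Helper16_Char
  Cfsg.Agent.Lib.Helper16_PrincipalSection Cfsg.Agent.Lib.Helper16_SectionNorm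

open scoped ComplexConjugate

variable {G : Type*} [Group G] [Finite G] {p : ℕ} [Fact p.Prime] {M : Ideal AlgInt}

/-- **Subsection orthogonality, raw form**: the sum runs over all irreducible characters. -/
theorem subsection_raw (hM : IsPModular p M) (u : G) (hu : ∃ k : ℕ, orderOf u = p ^ k)
    (e : Set (IrrCharacter (Subgroup.centralizer ({u} : Set G)))) (he : IsPBlock M e)
    (y y' : Subgroup.centralizer ({u} : Set G)) (hy : ¬ p ∣ orderOf y) (hy' : ¬ p ∣ orderOf y')
    [Fintype (IrrCharacter G)] :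
    ∑ ζ : IrrCharacter G, conj ((ζ : G → ℂ) (u * (y' : G))) *
        blockPart e (fun c : Subgroup.centralizer ({u} : Set G) => (ζ : G → ℂ) (u * (c : G))) y =
      ∑ᶠ ψ ∈ e, (ψ : Subgroup.centralizer ({u} : Set G) → ℂ) y *
        conj ((ψ : Subgroup.centralizer ({u} : Set G) → ℂ) y') := by
  classical
  have hp : p.Prime := Fact.out
  have hMp := isPrime_of_isPModular hM
  let _ : Fintype G := Fintype.ofFinite G
  let _ : Fintype (Subgroup.centralizer ({u} : Set G)) := Fintype.ofFinite _
  have hfinH : Finite (IrrCharacter (Subgroup.centralizer ({u} : Set G))) := charFacts.finite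
  have := Fintype.ofFinite (IrrCharacter (Subgroup.centralizer ({u} : Set G)))
  have hHne : (Nat.card (Subgroup.centralizer ({u} : Set G)) : ℂ) ≠ 0 := by
    exact_mod_cast (Nat.card_pos (α := Subgroup.centralizer ({u} : Set G))).ne'
  set a : IrrCharacter G → ℂ := fun ζ => (ζ : G → ℂ) (u * (y' : G)) with ha
  set W : Subgroup.centralizer ({u} : Set G) → ℂ := fun c =>
    ∑ ψ : IrrCharacter (Subgroup.centralizer ({u} : Set G)),
      if ψ ∈ e then (ψ : _ → ℂ) y * conj ((ψ : _ → ℂ) c) else 0 with hW
  set Ω : Subgroup.centralizer ({u} : Set G) → ℂ := fun c =>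
    ∑ ζ : IrrCharacter G, (ζ : G → ℂ) (u * (c : G)) * conj (a ζ) with hΩ
  have hR : ∑ᶠ χ ∈ e, (χ : Subgroup.centralizer ({u} : Set G) → ℂ) y *
      conj ((χ : Subgroup.centralizer ({u} : Set G) → ℂ) y') = W y' :=
    finsum_mem_eq_sum_ite (fun ψ => ψ ∈ e) _
  have hL : ∑ ζ : IrrCharacter G, conj (a ζ) *
      blockPart e (fun c : Subgroup.centralizer ({u} : Set G) => (ζ : G → ℂ) (u * (c : G))) y =
      (Nat.card (Subgroup.centralizer ({u} : Set G)) : ℂ)⁻¹ *
        ∑ c : Subgroup.centralizer ({u} : Set G), Ω c * W c := by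
    have h2 : ∀ ζ : IrrCharacter G,
        blockPart e (fun c : Subgroup.centralizer ({u} : Set G) =>
          (ζ : G → ℂ) (u * (c : G))) y =
        ∑ ψ : IrrCharacter (Subgroup.centralizer ({u} : Set G)),
          ∑ c : Subgroup.centralizer ({u} : Set G),
            if ψ ∈ e then (Nat.card (Subgroup.centralizer ({u} : Set G)) : ℂ)⁻¹ *
              ((ζ : G → ℂ) (u * (c : G)) * conj ((ψ : _ → ℂ) c)) * (ψ : _ → ℂ) y else 0 := by
      intro ζ
      unfold blockPart
      have e' := finsum_mem_eq_sum_ite (fun ψ => ψ ∈ e)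
        (fun ψ : IrrCharacter (Subgroup.centralizer ({u} : Set G)) =>
          classInner (fun c : Subgroup.centralizer ({u} : Set G) => (ζ : G → ℂ) (u * (c : G)))
            (ψ : _ → ℂ) * (ψ : _ → ℂ) y)
      rw [show (∑ᶠ ψ ∈ e, classInner (fun c : Subgroup.centralizer ({u} : Set G) =>
        (ζ : G → ℂ) (u * (c : G))) (ψ : _ → ℂ) * (ψ : _ → ℂ) y) = _ from e']
      refine Finset.sum_congr rfl fun ψ _ => ?_
      by_cases hψ : ψ ∈ e
      · simp only [if_pos hψ]
        unfold classInner
        rw [Finset.mul_sum, Finset.sum_mul]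
      · simp only [if_neg hψ]
        rw [Finset.sum_const_zero]
    have key : ∀ ζ : IrrCharacter G,
        conj (a ζ) * blockPart e (fun c : Subgroup.centralizer ({u} : Set G) =>
          (ζ : G → ℂ) (u * (c : G))) y =
        (Nat.card (Subgroup.centralizer ({u} : Set G)) : ℂ)⁻¹ *
          ∑ c : Subgroup.centralizer ({u} : Set G),
            ((ζ : G → ℂ) (u * (c : G)) * conj (a ζ)) * W c := by
      intro ζ
      rw [h2 ζ, Finset.sum_comm, Finset.mul_sum, Finset.mul_sum]
      refine Finset.sum_congr rfl fun c _ => ?_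
      simp only [hW]
      rw [Finset.mul_sum, Finset.mul_sum, Finset.mul_sum]
      refine Finset.sum_congr rfl fun ψ _ => ?_
      split_ifs
      · ring
      · ring
    rw [Finset.sum_congr rfl fun ζ _ => key ζ, ← Finset.mul_sum, Finset.sum_comm]
    congr 1
    refine Finset.sum_congr rfl fun c _ => ?_
    simp only [hΩ]
    rw [Finset.sum_mul]
  rw [hL, hR]
  -- pointwise evaluation
  have hpt : ∀ c : Subgroup.centralizer ({u} : Set G), Ω c * W c =
      if IsConj y' c then
        (Nat.card (Subgroup.centralizer ({c} : Set (Subgroup.centralizer ({u} : Set G)))) : ℂ) *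
          W y' else 0 := by
    intro c
    by_cases hcs : p ∣ orderOf c
    · have hnc : ¬ IsConj y' c := by
        intro h
        obtain ⟨t, ht⟩ := isConj_iff.mp h
        have : orderOf c = orderOf y' := by
          rw [← ht]
          exact (MulAut.conj t).orderOf_eq y'
        rw [this] at hcs
        exact hy' hcs
      rw [if_neg hnc]
      have hW0 : W c = 0 := by
        obtain ⟨s, hs⟩ := Cfsg.Agent.Lib.Helper16_BlockOrth.exists_isPPart hp c
        have hy1 : IsPPart p y 1 :=
          ⟨y, one_mul y, Commute.one_left y, ⟨0, by rw [orderOf_one, pow_zero]⟩, hy⟩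
        have hs1 : ¬ IsConj (1 : Subgroup.centralizer ({u} : Set G)) s := by
          intro h
          have hs1' : s = 1 := isConj_one_left.mp h.symm
          obtain ⟨y₀, hsy, -, -, hy₀⟩ := hs
          rw [hs1', one_mul] at hsy
          rw [hsy] at hy₀
          exact hy₀ hcs
        have h0 := Cfsg.Agent.Lib.Helper16_BlockOrth.block_orthogonality hM he hy1 hs hs1
        have e' := finsum_mem_eq_sum_ite (fun ψ => ψ ∈ e)
          (fun ψ : IrrCharacter (Subgroup.centralizer ({u} : Set G)) =>
            (ψ : _ → ℂ) y * conj ((ψ : _ → ℂ) c))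
        rw [show (∑ᶠ ψ ∈ e, (ψ : Subgroup.centralizer ({u} : Set G) → ℂ) y *
          conj ((ψ : Subgroup.centralizer ({u} : Set G) → ℂ) c)) = _ from e'] at h0
        exact h0
      rw [hW0, mul_zero]
    · have hΩc : Ω c = if IsConj (u * (c : G)) (u * (y' : G)) then
          (Nat.card (Subgroup.centralizer ({u * (c : G)} : Set G)) : ℂ) else 0 :=
        Cfsg.Agent.Lib.Helper80_CharComplete.second_orthogonality_sum (u * (c : G)) (u * (y' : G))
      by_cases hcy : IsConj y' c
      · rw [if_pos hcy]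
        have hconj : IsConj (u * (c : G)) (u * (y' : G)) :=
          (isConj_section_iff hp u hu c y' hcs hy').mpr hcy.symm
        rw [hΩc, if_pos hconj, card_centralizer_section hp u hu c hcs]
        congr 1
        simp only [hW]
        refine Finset.sum_congr rfl fun ψ _ => ?_
        split_ifs
        · obtain ⟨t, ht⟩ := isConj_iff.mp hcy
          rw [← ht, isIrrCharacter_isClassFunction ψ.2 y' t]
        · rfl
      · rw [if_neg hcy]
        have hconj : ¬ IsConj (u * (c : G)) (u * (y' : G)) := by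
          intro h
          exact hcy ((isConj_section_iff hp u hu c y' hcs hy').mp h).symm
        rw [hΩc, if_neg hconj, zero_mul]
  rw [Finset.sum_congr rfl fun c _ => hpt c]
  have hcl : ∀ x c : Subgroup.centralizer ({u} : Set G),
      (fun k : Subgroup.centralizer ({u} : Set G) =>
        (Nat.card (Subgroup.centralizer ({k} : Set (Subgroup.centralizer ({u} : Set G)))) : ℂ) *
          W y') (x * c * x⁻¹) =
      (fun k : Subgroup.centralizer ({u} : Set G) =>
        (Nat.card (Subgroup.centralizer ({k} : Set (Subgroup.centralizer ({u} : Set G)))) : ℂ) *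
          W y') c := by
    intro x c
    simp only
    rw [Cfsg.Agent.Lib.Helper78_FirstMainGT.card_centralizer_conj]
  rw [sum_isConj_const y' _ hcl]
  have hidx : ((Subgroup.centralizer ({y'} : Set (Subgroup.centralizer ({u} : Set G)))).index : ℂ) *
      (Nat.card (Subgroup.centralizer ({y'} : Set (Subgroup.centralizer ({u} : Set G)))) : ℂ) =
      (Nat.card (Subgroup.centralizer ({u} : Set G)) : ℂ) := by
    rw [← Nat.cast_mul, mul_comm, Subgroup.card_mul_index]
  have hfin : ∀ A I C w : ℂ, I * C = A → A ≠ 0 → A⁻¹ * (I * (C * w)) = w := by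
    intro A I C w h1 h2
    rw [show A⁻¹ * (I * (C * w)) = A⁻¹ * (I * C) * w by ring, h1, inv_mul_cancel₀ h2, one_mul]
  exact hfin _ _ _ _ hidx hHne

/-- For `ζ` outside `B = e^G`, the `e`-part of `c ↦ ζ (u c)` vanishes at the `p`-regular
elements. -/
theorem blockPart_eq_zero_of_not_mem (hM : IsPModular p M) (u : G)
    (hu : ∃ k : ℕ, orderOf u = p ^ k)
    (e : Set (IrrCharacter (Subgroup.centralizer ({u} : Set G))))
    (B : Set (IrrCharacter G)) (hind : IsInducedBlock M (Subgroup.centralizer ({u} : Set G)) e B)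
    (ζ : IrrCharacter G) (hζ : ζ ∉ B)
    (y : Subgroup.centralizer ({u} : Set G)) (hy : ¬ p ∣ orderOf y) :
    blockPart e (fun c : Subgroup.centralizer ({u} : Set G) => (ζ : G → ℂ) (u * (c : G))) y =
      0 := by
  have hMp := isPrime_of_isPModular hM
  apply Cfsg.Agent.Lib.Helper78_SecondMainChar.second_main_char hM u hu
    (blockOf M (ζ : G → ℂ)) (isPBlock_blockOf ζ) ζ (mem_blockOf_self hMp ζ) e hind.1 _ y hy
  intro hind'
  apply hζ
  have := Cfsg.Agent.Lib.Helper78_Deficiency.isInducedBlock_unique hMp hind' hind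
  rw [← this]
  exact mem_blockOf_self hMp ζ

/-- **Subsection orthogonality**: the sum over `B = e^G`. -/
theorem subsection_block (hM : IsPModular p M) (u : G) (hu : ∃ k : ℕ, orderOf u = p ^ k)
    (e : Set (IrrCharacter (Subgroup.centralizer ({u} : Set G))))
    (B : Set (IrrCharacter G)) (hind : IsInducedBlock M (Subgroup.centralizer ({u} : Set G)) e B)
    (y y' : Subgroup.centralizer ({u} : Set G)) (hy : ¬ p ∣ orderOf y)
    (hy' : ¬ p ∣ orderOf y') :
    ∑ᶠ ζ ∈ B, conj ((ζ : G → ℂ) (u * (y' : G))) *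
        blockPart e (fun c : Subgroup.centralizer ({u} : Set G) => (ζ : G → ℂ) (u * (c : G))) y =
      ∑ᶠ ψ ∈ e, (ψ : Subgroup.centralizer ({u} : Set G) → ℂ) y *
        conj ((ψ : Subgroup.centralizer ({u} : Set G) → ℂ) y') := by
  classical
  let _ : Fintype G := Fintype.ofFinite G
  have hfinG : Finite (IrrCharacter G) := charFacts.finite
  have := Fintype.ofFinite (IrrCharacter G)
  rw [← subsection_raw hM u hu e hind.1 y y' hy hy']
  have e' := finsum_mem_eq_sum_ite (fun ζ => ζ ∈ B)
    (fun ζ : IrrCharacter G => conj ((ζ : G → ℂ) (u * (y' : G))) *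
      blockPart e (fun c : Subgroup.centralizer ({u} : Set G) => (ζ : G → ℂ) (u * (c : G))) y)
  rw [show (∑ᶠ ζ ∈ B, conj ((ζ : G → ℂ) (u * (y' : G))) *
      blockPart e (fun c : Subgroup.centralizer ({u} : Set G) => (ζ : G → ℂ) (u * (c : G))) y) =
      _ from e']
  refine Finset.sum_congr rfl fun ζ _ => ?_
  split_ifs with hζ
  · rfl
  · rw [blockPart_eq_zero_of_not_mem hM u hu e B hind ζ hζ y hy, mul_zero]

/-- If `e` is the only block of `H = C_G(u)` inducing `B`, then `ζ (u y)` is the value at `y` of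
the `e`-part of `c ↦ ζ (u c)`, for `ζ ∈ B` and `p`-regular `y`. -/
theorem irr_mul_eq_blockPart_of_unique (hM : IsPModular p M) (u : G)
    (hu : ∃ k : ℕ, orderOf u = p ^ k)
    (e : Set (IrrCharacter (Subgroup.centralizer ({u} : Set G)))) (he : IsPBlock M e)
    (B : Set (IrrCharacter G)) (hB : IsPBlock M B)
    (huniq : ∀ e' : Set (IrrCharacter (Subgroup.centralizer ({u} : Set G))),
      IsInducedBlock M (Subgroup.centralizer ({u} : Set G)) e' B → e' = e)
    (χ : IrrCharacter G) (hχ : χ ∈ B)
    (y : Subgroup.centralizer ({u} : Set G)) (hy : ¬ p ∣ orderOf y) :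
    (χ : G → ℂ) (u * (y : G)) =
      blockPart e (fun c : Subgroup.centralizer ({u} : Set G) => (χ : G → ℂ) (u * (c : G))) y := by
  classical
  have hMp := isPrime_of_isPModular hM
  let _ : Fintype (Subgroup.centralizer ({u} : Set G)) := Fintype.ofFinite _
  have hχc := isIrrCharacter_isClassFunction χ.2
  have hcomm : ∀ c : Subgroup.centralizer ({u} : Set G), u * (c : G) = (c : G) * u :=
    fun c => Subgroup.mem_centralizer_iff.mp c.2 u (Set.mem_singleton u)
  set ϑ : Subgroup.centralizer ({u} : Set G) → ℂ := fun c => (χ : G → ℂ) (u * (c : G)) with hϑdef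
  have hϑ : IsClassFunction (Subgroup.centralizer ({u} : Set G)) ϑ := by
    intro c h
    show (χ : G → ℂ) (u * ((h * c * h⁻¹ : Subgroup.centralizer ({u} : Set G)) : G)) =
      (χ : G → ℂ) (u * (c : G))
    push_cast
    have : u * ((h : G) * (c : G) * (h : G)⁻¹) = (h : G) * (u * (c : G)) * (h : G)⁻¹ := by
      calc u * ((h : G) * (c : G) * (h : G)⁻¹) = (u * (h : G)) * (c : G) * (h : G)⁻¹ := by group
        _ = ((h : G) * u) * (c : G) * (h : G)⁻¹ := by rw [hcomm h]
        _ = (h : G) * (u * (c : G)) * (h : G)⁻¹ := by group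
    rw [this, hχc]
  have hsum := congrFun (Cfsg.Agent.Lib.Helper3_CharComplete.classFunction_eq_sum ϑ hϑ) y
  rw [Finset.sum_apply] at hsum
  simp only [Pi.smul_apply, smul_eq_mul] at hsum
  show ϑ y = _
  rw [hsum]
  unfold blockPart
  apply sum_eq_finsum_mem_block hMp _ he
  intro b hb hne
  have hnot : ¬ IsInducedBlock M (Subgroup.centralizer ({u} : Set G)) b B := by
    intro hind
    exact hne (huniq b hind)
  have := Cfsg.Agent.Lib.Helper78_SecondMainChar.second_main_char hM u hu B hB
    χ hχ b hb hnot y hy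
  unfold blockPart at this
  exact this

/-- **Orthogonality on a `p`-section**, when a single block `e` of `C_G(u)` induces `B`. -/
theorem section_orthogonality_of_unique (hM : IsPModular p M) (u : G)
    (hu : ∃ k : ℕ, orderOf u = p ^ k)
    (e : Set (IrrCharacter (Subgroup.centralizer ({u} : Set G))))
    (B : Set (IrrCharacter G)) (hind : IsInducedBlock M (Subgroup.centralizer ({u} : Set G)) e B)
    (huniq : ∀ e' : Set (IrrCharacter (Subgroup.centralizer ({u} : Set G))),
      IsInducedBlock M (Subgroup.centralizer ({u} : Set G)) e' B → e' = e)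
    (y y' : Subgroup.centralizer ({u} : Set G)) (hy : ¬ p ∣ orderOf y)
    (hy' : ¬ p ∣ orderOf y') :
    ∑ᶠ ζ ∈ B, (ζ : G → ℂ) (u * (y : G)) * conj ((ζ : G → ℂ) (u * (y' : G))) =
      ∑ᶠ ψ ∈ e, (ψ : Subgroup.centralizer ({u} : Set G) → ℂ) y *
        conj ((ψ : Subgroup.centralizer ({u} : Set G) → ℂ) y') := by
  rw [← subsection_block hM u hu e B hind y y' hy hy']
  refine finsum_congr fun ζ => finsum_congr fun hζ => ?_
  rw [irr_mul_eq_blockPart_of_unique hM u hu e hind.1 B hind.2.1 huniq ζ hζ y hy, mul_comm]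

end Cfsg.Agent.Lib.Helper16_Subsection
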