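import Mathlib
import Cfsg.Prelude.Def_Blocks
import Cfsg.Agent.Lib.Helper78_LocalRing
import Cfsg.Agent.Lib.Helper78_CentralChar
import Cfsg.Agent.Lib.Helper78_CharFacts
import Cfsg.Agent.Lib.Helper78_Deficiency
import Cfsg.Agent.Lib.Helper80_CharBasic
import Cfsg.Agent.Lib.Helper16_Char
import Cfsg.Agent.Lib.Helper16_BlockOrth
import Cfsg.Agent.Lib.Helper16_Subsection
import Cfsg.Agent.Lib.Helper16_InducedFusion
import Cfsg.Agent.Lib.Helper77_CentralDefect
import Cfsg.Agent.Lib.Helper77_WeakOrth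
import Cfsg.Agent.Lib.Helper75_CharArith
import Cfsg.Agent.S0968
import Cfsg.Agent.S0920
import Cfsg.Agent.S0927

/-!
# 2-blocks with a defect group of order 2 (helper16)
-/

set_option autoImplicit false
set_option linter.unusedSectionVars false

namespace Cfsg.Agent.Lib.Helper16_DefectTwo

open Cfsg Cfsg.Agent.Lib.Helper78_LocalRing Cfsg.Agent.Lib.Helper78_CentralChar
  Cfsg.Agent.Lib.Helper78_CharFacts Cfsg.Agent.Lib.Helper16_Char

open scoped ComplexConjugate

section Central

variable {K : Type*} [Group K] [Finite K] {M : Ideal AlgInt}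

/-- The subgroup generated by a central involution is the defect group of every block of
defect `1`. -/
theorem isDefectGroup_zpowers_of_central (hM : IsPModular 2 M) (x' : K)
    (hx'c : x' ∈ Subgroup.center K) (hx'2 : orderOf x' = 2)
    (b : Set (IrrCharacter K)) (hb : IsPBlock M b) (hd : blockDefect 2 b = 1) :
    IsDefectGroup 2 M b (Subgroup.zpowers x') := by
  obtain ⟨D, hD⟩ := Cfsg.Agent.Lib.Helper78_Deficiency.exists_isDefectGroup hM hb
  have hcard : Nat.card D = 2 := by
    rw [Cfsg.Agent.Lib.Helper78_Deficiency.card_isDefectGroup hM hb hD, hd, pow_one]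
  have hxD : x' ∈ D := by
    obtain ⟨g, -, P, hPeq⟩ := hD
    have hxg : x' ∈ Subgroup.centralizer ({g} : Set K) := by
      rw [Subgroup.mem_centralizer_iff]
      intro k hk
      exact Subgroup.mem_center_iff.mp hx'c k
    set xg : Subgroup.centralizer ({g} : Set K) := ⟨x', hxg⟩ with hxgdef
    have hcomm : ∀ w : Subgroup.centralizer ({g} : Set K), w * xg = xg * w := by
      intro w
      apply Subtype.ext
      push_cast
      exact Subgroup.mem_center_iff.mp hx'c (w : K)
    have hnorm : (Subgroup.zpowers xg).Normal := by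
      refine ⟨fun n hn w => ?_⟩
      obtain ⟨k, rfl⟩ := Subgroup.mem_zpowers_iff.mp hn
      have : w * xg ^ k * w⁻¹ = xg ^ k := by
        have h1 : Commute w xg := hcomm w
        have h2 : Commute w (xg ^ k) := h1.zpow_right k
        rw [h2.eq, mul_inv_cancel_right]
      rw [this]
      exact Subgroup.zpow_mem_zpowers xg k
    have hpg : IsPGroup 2 (Subgroup.zpowers xg) := by
      apply IsPGroup.of_card (n := 1)
      rw [Nat.card_zpowers, pow_one, ← Subgroup.orderOf_coe]
      exact hx'2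
    have hle := hpg.le_sylow_of_normal P
    have hxP : xg ∈ (P : Subgroup (Subgroup.centralizer ({g} : Set K))) :=
      hle (Subgroup.mem_zpowers xg)
    rw [hPeq]
    exact ⟨xg, hxP, rfl⟩
  have hle : Subgroup.zpowers x' ≤ D := by
    rw [Subgroup.zpowers_le]
    exact hxD
  have heq : Subgroup.zpowers x' = D := by
    apply Subgroup.eq_of_le_of_card_ge hle
    rw [hcard, Nat.card_zpowers, hx'2]
  rw [heq]
  exact hD

/-- The number of conjugacy classes of a group of order `2`. -/
theorem card_conjClasses_zpowers_two (x' : K) (hx'2 : orderOf x' = 2) :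
    Nat.card (ConjClasses (Subgroup.zpowers x')) = 2 := by
  have hcomm : ∀ a c : Subgroup.zpowers x', c * a * c⁻¹ = a := by
    intro a c
    obtain ⟨i, hi⟩ := Subgroup.mem_zpowers_iff.mp a.2
    obtain ⟨j, hj⟩ := Subgroup.mem_zpowers_iff.mp c.2
    apply Subtype.ext
    push_cast
    rw [← hi, ← hj, ← zpow_add, ← zpow_neg, ← zpow_add]
    congr 1
    ring
  have h1 : Nat.card (ConjClasses (Subgroup.zpowers x')) = Nat.card (Subgroup.zpowers x') := by
    symm
    apply Nat.card_congr
    refine Equiv.ofBijective ConjClasses.mk ⟨?_, ConjClasses.mk_surjective⟩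
    intro a a' h
    obtain ⟨c, hc⟩ := isConj_iff.mp (ConjClasses.mk_eq_mk_iff_isConj.mp h)
    rw [hcomm a c] at hc
    exact hc
  rw [h1, Nat.card_zpowers, hx'2]

/-- The value of an irreducible character at a central involution is `±` the degree. -/
theorem central_involution_value (x' : K) (hx'c : x' ∈ Subgroup.center K)
    (hx'2 : orderOf x' = 2) (ξ : IrrCharacter K) :
    (ξ : K → ℂ) x' = (ξ : K → ℂ) 1 ∨ (ξ : K → ℂ) x' = - (ξ : K → ℂ) 1 := by
  have h1 : (ξ : K → ℂ) 1 ≠ 0 := isIrrCharacter_one_ne_zero ξ.2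
  have h2 := Cfsg.Agent.Lib.Helper77_CentralDefect.irr_mul_center ξ x' hx'c x'
  have hxx : x' * x' = 1 := by
    rw [← pow_two, ← hx'2]
    exact pow_orderOf_eq_one x'
  rw [hxx] at h2
  have h3 : (ξ : K → ℂ) x' * (ξ : K → ℂ) x' = (ξ : K → ℂ) 1 * (ξ : K → ℂ) 1 := by
    field_simp at h2
    linear_combination (-1 : ℂ) * h2
  have h4 : ((ξ : K → ℂ) x' - (ξ : K → ℂ) 1) * ((ξ : K → ℂ) x' + (ξ : K → ℂ) 1) = 0 := by
    linear_combination h3
  rcases mul_eq_zero.mp h4 with h | h
  · left; linear_combination h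
  · right; linear_combination h

/-- A `2`-block of defect `1` of a group with a central involution `x'`: it consists of the
character `θ` with `x'` in its kernel and one more character `θ'`, which agrees with `θ` on the
elements of odd order and has `θ' x' = - θ' 1`. -/
theorem block_of_central_involution (hM : IsPModular 2 M) (x' : K)
    (hx'c : x' ∈ Subgroup.center K) (hx'2 : orderOf x' = 2)
    (b : Set (IrrCharacter K)) (hb : IsPBlock M b) (hd : blockDefect 2 b = 1)
    (θ : IrrCharacter K) (hθ : θ ∈ b) (hθx : (θ : K → ℂ) x' = (θ : K → ℂ) 1) :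
    ∃ θ' : IrrCharacter K, θ' ∈ b ∧ θ' ≠ θ ∧ (∀ ξ ∈ b, ξ = θ ∨ ξ = θ') ∧
      (θ' : K → ℂ) x' = - (θ' : K → ℂ) 1 ∧
      ∀ y : K, ¬ 2 ∣ orderOf y → (θ' : K → ℂ) y = (θ : K → ℂ) y := by
  classical
  have hMp := isPrime_of_isPModular hM
  let _ : Fintype K := Fintype.ofFinite K
  have hfin : Finite (IrrCharacter K) := charFacts.finite
  have := Fintype.ofFinite (IrrCharacter K)
  have hDef := isDefectGroup_zpowers_of_central hM x' hx'c hx'2 b hb hd
  have hPG : IsPGroup 2 (Subgroup.zpowers x') := by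
    apply IsPGroup.of_card (n := 1)
    rw [Nat.card_zpowers, pow_one, hx'2]
  have hPle : Subgroup.zpowers x' ≤ Subgroup.center K := by
    rw [Subgroup.zpowers_le]
    exact hx'c
  have hG : Subgroup.zpowers x' ⊔ Subgroup.centralizer ((Subgroup.zpowers x' : Subgroup K) : Set K)
      = ⊤ := by
    have : Subgroup.centralizer ((Subgroup.zpowers x' : Subgroup K) : Set K) = ⊤ := by
      rw [Subgroup.centralizer_eq_top_iff_subset]
      exact hPle
    rw [this, sup_top_eq]
  obtain ⟨huniq, -, hcard⟩ := Cfsg.Agent.S0968.result 2 M hM (Subgroup.zpowers x') hPG hG b hb hDef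
  rw [card_conjClasses_zpowers_two x' hx'2] at hcard
  -- membership in the kernel
  have hker : ∀ ξ : IrrCharacter K, (ξ : K → ℂ) x' = (ξ : K → ℂ) 1 →
      ∀ u ∈ Subgroup.zpowers x', (ξ : K → ℂ) u = (ξ : K → ℂ) 1 := by
    intro ξ hξ u hu
    have h1 : orderOf u ∣ 2 := by
      rw [← hx'2]
      exact orderOf_dvd_of_mem_zpowers hu
    rcases (Nat.dvd_prime Nat.prime_two).mp h1 with h | h
    · rw [orderOf_eq_one_iff.mp h]
    · -- `u` is the non-identity element of `zpowers x'`
      obtain ⟨k, rfl⟩ := Subgroup.mem_zpowers_iff.mp hu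
      rcases Int.even_or_odd k with hk | hk
      · exfalso
        obtain ⟨j, rfl⟩ := hk
        have : x' ^ (j + j) = 1 := by
          rw [← two_mul, zpow_mul, zpow_ofNat, ← hx'2, pow_orderOf_eq_one, one_zpow]
        rw [this, orderOf_one] at h
        omega
      · obtain ⟨j, rfl⟩ := hk
        have : x' ^ (2 * j + 1) = x' := by
          rw [zpow_add, zpow_mul, zpow_ofNat, ← hx'2, pow_orderOf_eq_one, one_zpow, one_mul,
            zpow_one]
        rw [this, hξ]
  -- a second member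
  have hex : ∃ θ' ∈ b, θ' ≠ θ := by
    by_contra hcon
    push Not at hcon
    have hbeq : b = {θ} := by
      ext ξ
      constructor
      · intro hξ
        exact hcon ξ hξ
      · intro hξ
        rw [Set.mem_singleton_iff] at hξ
        rw [hξ]; exact hθ
    rw [hbeq] at hcard
    simp at hcard
  obtain ⟨θ', hθ'b, hθ'ne⟩ := hex
  have hall : ∀ ξ ∈ b, ξ = θ ∨ ξ = θ' := by
    intro ξ hξ
    by_contra hcon
    push Not at hcon
    have hsub : ({θ, θ', ξ} : Set (IrrCharacter K)) ⊆ b := by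
      intro w hw
      rcases hw with h | h | h
      · rw [h]; exact hθ
      · rw [h]; exact hθ'b
      · rw [Set.mem_singleton_iff] at h; rw [h]; exact hξ
    have h3 : Nat.card ({θ, θ', ξ} : Set (IrrCharacter K)) = 3 := by
      rw [Nat.card_coe_set_eq, Set.ncard_eq_toFinset_card']
      have : ({θ, θ', ξ} : Set (IrrCharacter K)).toFinset = {θ, θ', ξ} := by
        ext w; simp
      rw [this]
      rw [Finset.card_insert_of_notMem, Finset.card_insert_of_notMem, Finset.card_singleton]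
      · simp [hcon.2.symm]
      · simp [hθ'ne.symm, hcon.1.symm]
    have hle : Nat.card ({θ, θ', ξ} : Set (IrrCharacter K)) ≤ Nat.card b :=
      Nat.card_mono (Set.toFinite b) hsub
    omega
  have hθ'x : (θ' : K → ℂ) x' = - (θ' : K → ℂ) 1 := by
    rcases central_involution_value x' hx'c hx'2 θ' with h | h
    · exfalso
      apply hθ'ne
      exact huniq.unique ⟨hθ'b, hker θ' h⟩ ⟨hθ, hker θ hθx⟩
    · exact h
  refine ⟨θ', hθ'b, hθ'ne, hall, hθ'x, ?_⟩
  -- block orthogonality between the sections of `1` and `x'`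
  have hx'1 : x' ≠ 1 := by
    intro h
    rw [h, orderOf_one] at hx'2
    omega
  have horth : ∀ y y' : K, ¬ 2 ∣ orderOf y → ¬ 2 ∣ orderOf y' →
      (θ : K → ℂ) y * conj ((θ : K → ℂ) y') = (θ' : K → ℂ) y * conj ((θ' : K → ℂ) y') := by
    intro y y' hy hy'
    have hy1 : IsPPart 2 y 1 :=
      ⟨y, one_mul y, Commute.one_left y, ⟨0, by rw [orderOf_one, pow_zero]⟩, hy⟩
    have hy2 : IsPPart 2 (x' * y') x' :=
      ⟨y', rfl, (Subgroup.mem_center_iff.mp hx'c y').symm, ⟨1, by rw [hx'2, pow_one]⟩, hy'⟩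
    have hnc : ¬ IsConj (1 : K) x' := by
      intro h
      exact hx'1 (isConj_one_right.mp h)
    have h0 := Cfsg.Agent.Lib.Helper16_BlockOrth.block_orthogonality hM hb hy1 hy2 hnc
    have e' := finsum_mem_eq_sum_ite (fun ψ => ψ ∈ b)
      (fun ψ : IrrCharacter K => (ψ : K → ℂ) y * conj ((ψ : K → ℂ) (x' * y')))
    rw [show (∑ᶠ ψ ∈ b, (ψ : K → ℂ) y * conj ((ψ : K → ℂ) (x' * y'))) = _ from e',
      ← Finset.sum_filter] at h0
    have hfilt : Finset.univ.filter (fun ψ : IrrCharacter K => ψ ∈ b) = {θ, θ'} := by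
      ext w
      simp only [Finset.mem_filter, Finset.mem_univ, true_and, Finset.mem_insert,
        Finset.mem_singleton]
      constructor
      · exact hall w
      · rintro (h | h)
        · rw [h]; exact hθ
        · rw [h]; exact hθ'b
    rw [hfilt, Finset.sum_pair hθ'ne.symm] at h0
    have hcm : x' * y' = y' * x' := (Subgroup.mem_center_iff.mp hx'c y').symm
    have e1 := Cfsg.Agent.Lib.Helper77_CentralDefect.irr_mul_center θ x' hx'c y'
    have e2 := Cfsg.Agent.Lib.Helper77_CentralDefect.irr_mul_center θ' x' hx'c y'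
    have hθ1 : (θ : K → ℂ) 1 ≠ 0 := isIrrCharacter_one_ne_zero θ.2
    have hθ'1 : (θ' : K → ℂ) 1 ≠ 0 := isIrrCharacter_one_ne_zero θ'.2
    rw [hcm, e1, e2, hθx, hθ'x] at h0
    have e3 : (θ : K → ℂ) 1 * (θ : K → ℂ) y' / (θ : K → ℂ) 1 = (θ : K → ℂ) y' := by
      field_simp
    have e4 : - (θ' : K → ℂ) 1 * (θ' : K → ℂ) y' / (θ' : K → ℂ) 1 = - (θ' : K → ℂ) y' := by
      field_simp
    rw [e3, e4, map_neg] at h0
    linear_combination h0
  have hreg1 : ¬ 2 ∣ orderOf (1 : K) := by rw [orderOf_one]; norm_num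
  obtain ⟨n, hn, hθn⟩ := isIrrCharacter_one_eq_natCast θ.2
  obtain ⟨n', hn', hθ'n⟩ := isIrrCharacter_one_eq_natCast θ'.2
  have hdeg : n' = n := by
    have h := horth 1 1 hreg1 hreg1
    rw [hθn, hθ'n, Complex.conj_natCast, Complex.conj_natCast] at h
    have h' : n * n = n' * n' := by exact_mod_cast h
    nlinarith
  intro y hy
  have h := horth y 1 hy hreg1
  rw [hθn, hθ'n, Complex.conj_natCast, Complex.conj_natCast, hdeg] at h
  have hn0 : (n : ℂ) ≠ 0 := by exact_mod_cast hn.ne'
  exact (mul_right_cancel₀ hn0 h).symm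

end Central

section Main

variable {G : Type*} [Group G] [Finite G] {M : Ideal AlgInt}

/-- A non-identity element of the group generated by an involution `x` is `x`. -/
theorem eq_of_mem_zpowers_of_ne_one {x u : G} (hx : orderOf x = 2)
    (hu : u ∈ Subgroup.zpowers x) (hu1 : u ≠ 1) : u = x := by
  obtain ⟨k, rfl⟩ := Subgroup.mem_zpowers_iff.mp hu
  rcases Int.even_or_odd k with hk | hk
  · exfalso
    apply hu1
    obtain ⟨j, rfl⟩ := hk
    rw [← two_mul, zpow_mul, zpow_ofNat, ← hx, pow_orderOf_eq_one, one_zpow]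
  · obtain ⟨j, rfl⟩ := hk
    rw [zpow_add, zpow_mul, zpow_ofNat, ← hx, pow_orderOf_eq_one, one_zpow, one_mul, zpow_one]

/-- The centralizer of an involution is the normalizer of the subgroup it generates. -/
theorem centralizer_eq_normalizer_zpowers (x : G) (hx : orderOf x = 2) :
    Subgroup.centralizer ({x} : Set G) =
      Subgroup.normalizer ((Subgroup.zpowers x : Subgroup G) : Set G) := by
  ext n
  rw [Subgroup.mem_centralizer_iff, Subgroup.mem_normalizer_iff]
  constructor
  · intro h u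
    have hc : Commute n x := (h x (Set.mem_singleton x)).symm
    have hpow : ∀ k : ℤ, n * x ^ k * n⁻¹ = x ^ k := by
      intro k
      rw [(hc.zpow_right k).eq, mul_inv_cancel_right]
    constructor
    · intro hu
      obtain ⟨k, rfl⟩ := Subgroup.mem_zpowers_iff.mp hu
      rw [hpow k]
      exact Subgroup.zpow_mem_zpowers x k
    · intro hu
      obtain ⟨k, hk⟩ := Subgroup.mem_zpowers_iff.mp hu
      have h1 : u = n⁻¹ * (n * u * n⁻¹) * n := by group
      rw [h1, ← hk, ← hpow k]
      have : n⁻¹ * (n * x ^ k * n⁻¹) * n = x ^ k := by group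
      rw [this]
      exact Subgroup.zpow_mem_zpowers x k
  · intro h k hk
    rw [Set.mem_singleton_iff] at hk
    rw [hk]
    have h1 : n * x * n⁻¹ ∈ Subgroup.zpowers x := (h x).mp (Subgroup.mem_zpowers x)
    have hx1 : x ≠ 1 := by
      intro h0
      rw [h0, orderOf_one] at hx
      omega
    have h2 : n * x * n⁻¹ ≠ 1 := by
      intro h0
      apply hx1
      have : x = n⁻¹ * (n * x * n⁻¹) * n := by group
      rw [this, h0]
      group
    have h3 := eq_of_mem_zpowers_of_ne_one hx h1 h2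
    calc x * n = (n * x * n⁻¹) * n := by rw [h3]
      _ = n * x := by group

/-- `⟨x⟩ ∩ H` as the subgroup of `H` generated by `x ∈ H`. -/
theorem zpowers_subgroupOf (H : Subgroup G) (x : G) (hxH : x ∈ H) :
    (Subgroup.zpowers x).subgroupOf H = Subgroup.zpowers (⟨x, hxH⟩ : H) := by
  ext c
  rw [Subgroup.mem_subgroupOf, Subgroup.mem_zpowers_iff, Subgroup.mem_zpowers_iff]
  constructor
  · rintro ⟨k, hk⟩
    refine ⟨k, Subtype.ext ?_⟩
    push_cast
    exact hk
  · rintro ⟨k, hk⟩
    refine ⟨k, ?_⟩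
    rw [← hk]
    push_cast
    rfl

/-- Uniqueness in Brauer's first main theorem, for a subgroup equal to the normalizer. -/
theorem firstMain_unique_of_eq (hM : IsPModular 2 M) (D : Subgroup G) (hD : IsPGroup 2 D)
    (B : Set (IrrCharacter G)) (hB : IsPBlock M B) (hBD : IsDefectGroup 2 M B D)
    (H : Subgroup G) (hH : H = Subgroup.normalizer (D : Set G))
    (b b' : Set (IrrCharacter H)) (hb : IsPBlock M b) (hb' : IsPBlock M b')
    (hd : IsDefectGroup 2 M b (D.subgroupOf H)) (hd' : IsDefectGroup 2 M b' (D.subgroupOf H))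
    (hind : IsInducedBlock M H b B) (hind' : IsInducedBlock M H b' B) : b = b' := by
  subst hH
  exact ((Cfsg.Agent.S0920.result 2 M hM D hD).2 B hB hBD).unique ⟨hb, hd, hind⟩
    ⟨hb', hd', hind'⟩

/-- Two nonzero integers whose squares add up to `2`. -/
theorem two_elements {X : Type*} [DecidableEq X] (S : Finset X) (m : X → ℤ)
    (hm0 : ∀ x ∈ S, m x ≠ 0) (hsq : ∑ x ∈ S, (m x) ^ 2 = 2) :
    ∃ a b : X, a ≠ b ∧ S = {a, b} ∧ (m a = 1 ∨ m a = -1) ∧ (m b = 1 ∨ m b = -1) := by
  have hv1 : ∀ x ∈ S, (m x) ^ 2 = 1 := by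
    intro x hx
    by_contra hne
    have h0 := hm0 x hx
    have h4 : 4 ≤ (m x) ^ 2 := by
      rcases lt_or_gt_of_ne h0 with h | h
      · have h1 : m x ≤ -1 := by omega
        rcases eq_or_lt_of_le h1 with h2 | h2
        · exfalso; apply hne; rw [h2]; norm_num
        · nlinarith
      · have h1 : 1 ≤ m x := by omega
        rcases eq_or_lt_of_le h1 with h2 | h2
        · exfalso; apply hne; rw [← h2]; norm_num
        · nlinarith
    have hle : (m x) ^ 2 ≤ ∑ y ∈ S, (m y) ^ 2 :=
      Finset.single_le_sum (f := fun y => (m y) ^ 2) (fun y _ => sq_nonneg (m y)) hx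
    linarith
  have hv1' : ∀ x ∈ S, m x = 1 ∨ m x = -1 := by
    intro x hx
    have := hv1 x hx
    have h : (m x - 1) * (m x + 1) = 0 := by ring_nf; linarith
    rcases mul_eq_zero.mp h with h | h
    · left; linarith
    · right; linarith
  have hcard : S.card = 2 := by
    have : ∑ x ∈ S, (m x) ^ 2 = ∑ x ∈ S, (1 : ℤ) := Finset.sum_congr rfl hv1
    rw [hsq, Finset.sum_const, nsmul_eq_mul, mul_one] at this
    exact_mod_cast this.symm
  obtain ⟨a, b, hab, hS⟩ := Finset.card_eq_two.mp hcard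
  refine ⟨a, b, hab, hS, hv1' a ?_, hv1' b ?_⟩
  · rw [hS]; simp
  · rw [hS]; simp

/-- The inner product of `c ↦ ζ (x c)` with an irreducible character `ξ` of `C_G(x)`, `x` an
involution on which `ξ` takes the value `s ξ 1` with `s` real. -/
theorem classInner_translate (x : G) (hx : orderOf x = 2) (ζ : IrrCharacter G)
    (ξ : IrrCharacter (Subgroup.centralizer ({x} : Set G)))
    (x' : Subgroup.centralizer ({x} : Set G)) (hx' : (x' : G) = x)
    (hx'c : x' ∈ Subgroup.center (Subgroup.centralizer ({x} : Set G)))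
    [Fintype (Subgroup.centralizer ({x} : Set G))]
    (s : ℂ) (hs : conj s = s)
    (hξ : (ξ : Subgroup.centralizer ({x} : Set G) → ℂ) x' =
      s * (ξ : Subgroup.centralizer ({x} : Set G) → ℂ) 1) :
    classInner (fun c : Subgroup.centralizer ({x} : Set G) => (ζ : G → ℂ) (x * (c : G)))
        (ξ : Subgroup.centralizer ({x} : Set G) → ℂ) =
      s * classInner (fun c : Subgroup.centralizer ({x} : Set G) => (ζ : G → ℂ) (c : G))
        (ξ : Subgroup.centralizer ({x} : Set G) → ℂ) := by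
  have hxx : x * x = 1 := by
    rw [← pow_two, ← hx]
    exact pow_orderOf_eq_one x
  have hξ1 : (ξ : Subgroup.centralizer ({x} : Set G) → ℂ) 1 ≠ 0 := isIrrCharacter_one_ne_zero ξ.2
  have key : ∑ c : Subgroup.centralizer ({x} : Set G), (ζ : G → ℂ) (x * (c : G)) *
      conj ((ξ : Subgroup.centralizer ({x} : Set G) → ℂ) c) =
      s * ∑ c : Subgroup.centralizer ({x} : Set G), (ζ : G → ℂ) (c : G) *
        conj ((ξ : Subgroup.centralizer ({x} : Set G) → ℂ) c) := by
    have hre := (Equiv.sum_comp (Equiv.mulLeft x')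
      (fun c : Subgroup.centralizer ({x} : Set G) => (ζ : G → ℂ) (x * (c : G)) *
        conj ((ξ : Subgroup.centralizer ({x} : Set G) → ℂ) c))).symm
    rw [hre, Finset.mul_sum]
    refine Finset.sum_congr rfl fun c _ => ?_
    simp only [Equiv.coe_mulLeft]
    have h1 : x * ((x' * c : Subgroup.centralizer ({x} : Set G)) : G) = (c : G) := by
      push_cast
      rw [hx', ← mul_assoc, hxx, one_mul]
    have h2 : x' * c = c * x' := (Subgroup.mem_center_iff.mp hx'c c).symm
    rw [h1, h2, Cfsg.Agent.Lib.Helper77_CentralDefect.irr_mul_center ξ x' hx'c c, hξ]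
    have h3 : s * (ξ : Subgroup.centralizer ({x} : Set G) → ℂ) 1 *
        (ξ : Subgroup.centralizer ({x} : Set G) → ℂ) c /
        (ξ : Subgroup.centralizer ({x} : Set G) → ℂ) 1 =
        s * (ξ : Subgroup.centralizer ({x} : Set G) → ℂ) c := by
      field_simp
    rw [h3, map_mul, hs]
    ring
  unfold classInner
  show _ * (∑ c : Subgroup.centralizer ({x} : Set G), (ζ : G → ℂ) (x * (c : G)) *
      conj ((ξ : Subgroup.centralizer ({x} : Set G) → ℂ) c)) =
    s * (_ * ∑ c : Subgroup.centralizer ({x} : Set G), (ζ : G → ℂ) (c : G) *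
      conj ((ξ : Subgroup.centralizer ({x} : Set G) → ℂ) c))
  rw [key]
  ring

/-- **Blocks of defect one for `p = 2`.** -/
theorem defect_two_block (hM : IsPModular 2 M) (x : G) (hx : orderOf x = 2)
    (B : Set (IrrCharacter G)) (hB : IsPBlock M B)
    (hBD : IsDefectGroup 2 M B (Subgroup.zpowers x))
    (b : Set (IrrCharacter (Subgroup.centralizer ({x} : Set G))))
    (hb : IsInducedBlock M (Subgroup.centralizer ({x} : Set G)) b B)
    (θ : IrrCharacter (Subgroup.centralizer ({x} : Set G))) (hθ : θ ∈ b)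
    (hθx : ∀ z : Subgroup.centralizer ({x} : Set G), (z : G) = x →
      (θ : Subgroup.centralizer ({x} : Set G) → ℂ) z =
        (θ : Subgroup.centralizer ({x} : Set G) → ℂ) 1) :
    Nat.card B = 2 ∧
      (∀ χ ∈ B, ∀ ψ ∈ B, ∀ g : G, ¬ 2 ∣ orderOf g → (χ : G → ℂ) g = (ψ : G → ℂ) g) ∧
      ∃ χ₁ ∈ B, ∃ χ₂ ∈ B, χ₁ ≠ χ₂ ∧ ∃ ε₁ ε₂ : ℤ, (ε₁ = 1 ∨ ε₁ = -1) ∧ (ε₂ = 1 ∨ ε₂ = -1) ∧
        ε₁ * ε₂ = -1 ∧
        ∀ y : Subgroup.centralizer ({x} : Set G), ¬ 2 ∣ orderOf y →
          (χ₁ : G → ℂ) (x * y) =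
            (ε₁ : ℂ) * (θ : Subgroup.centralizer ({x} : Set G) → ℂ) y ∧
          (χ₂ : G → ℂ) (x * y) =
            (ε₂ : ℂ) * (θ : Subgroup.centralizer ({x} : Set G) → ℂ) y := by
  classical
  have hMp := isPrime_of_isPModular hM
  let _ : Fintype G := Fintype.ofFinite G
  let _ : Fintype (Subgroup.centralizer ({x} : Set G)) := Fintype.ofFinite _
  have hfinG : Finite (IrrCharacter G) := charFacts.finite
  have := Fintype.ofFinite (IrrCharacter G)
  have hfinC : Finite (IrrCharacter (Subgroup.centralizer ({x} : Set G))) := charFacts.finite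
  have := Fintype.ofFinite (IrrCharacter (Subgroup.centralizer ({x} : Set G)))
  have hxC : x ∈ Subgroup.centralizer ({x} : Set G) := by
    rw [Subgroup.mem_centralizer_iff]
    intro k hk
    rw [Set.mem_singleton_iff.mp hk]
  set x' : Subgroup.centralizer ({x} : Set G) := ⟨x, hxC⟩ with hx'def
  have hx'c : x' ∈ Subgroup.center (Subgroup.centralizer ({x} : Set G)) := by
    rw [Subgroup.mem_center_iff]
    intro c
    apply Subtype.ext
    push_cast
    exact (Subgroup.mem_centralizer_iff.mp c.2 x (Set.mem_singleton x)).symm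
  have hx'2 : orderOf x' = 2 := by
    rw [← Subgroup.orderOf_coe]
    exact hx
  have hu : ∃ k : ℕ, orderOf x = 2 ^ k := ⟨1, by rw [hx, pow_one]⟩
  have hPG : IsPGroup 2 (Subgroup.zpowers x) := by
    apply IsPGroup.of_card (n := 1)
    rw [Nat.card_zpowers, pow_one, hx]
  -- defects
  have hdB : blockDefect 2 B = 1 := by
    have h1 := Cfsg.Agent.Lib.Helper78_Deficiency.card_isDefectGroup hM hB hBD
    rw [Nat.card_zpowers, hx] at h1
    have h2 : (2 : ℕ) ^ 1 = 2 ^ blockDefect 2 B := by rw [pow_one]; exact h1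
    exact (Nat.pow_right_injective (le_refl 2) h2).symm
  have hdb : ∀ b' : Set (IrrCharacter (Subgroup.centralizer ({x} : Set G))),
      IsInducedBlock M (Subgroup.centralizer ({x} : Set G)) b' B → blockDefect 2 b' = 1 := by
    intro b' hb'
    have h1 := Cfsg.Agent.Lib.Helper78_Deficiency.blockDefect_le_of_induced hM _ hb'
    have h2 := Cfsg.Agent.Lib.Helper16_InducedFusion.blockDefect_eq_zero_iff_of_induced hM _ hb'
    rw [hdB] at h1
    have h3 : blockDefect 2 b' ≠ 0 := by
      intro h0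
      have := h2.mp h0
      omega
    omega
  -- uniqueness of `b`
  have huniq : ∀ b' : Set (IrrCharacter (Subgroup.centralizer ({x} : Set G))),
      IsInducedBlock M (Subgroup.centralizer ({x} : Set G)) b' B → b' = b := by
    intro b' hb'
    have hd' := isDefectGroup_zpowers_of_central hM x' hx'c hx'2 b' hb'.1 (hdb b' hb')
    have hd := isDefectGroup_zpowers_of_central hM x' hx'c hx'2 b hb.1 (hdb b hb)
    rw [hx'def, ← zpowers_subgroupOf _ x hxC] at hd hd'
    exact firstMain_unique_of_eq hM (Subgroup.zpowers x) hPG B hB hBD _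
      (centralizer_eq_normalizer_zpowers x hx) b' b hb'.1 hb.1 hd' hd hb' hb
  -- the structure of `b`
  obtain ⟨θ', hθ'b, hθ'ne, hall, hθ'x, hθ'reg⟩ :=
    block_of_central_involution hM x' hx'c hx'2 b hb.1 (hdb b hb) θ hθ (hθx x' rfl)
  have hfilt : Finset.univ.filter
      (fun ψ : IrrCharacter (Subgroup.centralizer ({x} : Set G)) => ψ ∈ b) = {θ, θ'} := by
    ext w
    simp only [Finset.mem_filter, Finset.mem_univ, true_and, Finset.mem_insert,
      Finset.mem_singleton]
    constructor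
    · exact hall w
    · rintro (h | h)
      · rw [h]; exact hθ
      · rw [h]; exact hθ'b
  have hsumb : ∀ f : IrrCharacter (Subgroup.centralizer ({x} : Set G)) → ℂ,
      ∑ᶠ ψ ∈ b, f ψ = f θ + f θ' := by
    intro f
    have e' := finsum_mem_eq_sum_ite (fun ψ => ψ ∈ b) f
    rw [show (∑ᶠ ψ ∈ b, f ψ) = _ from e', ← Finset.sum_filter, hfilt,
      Finset.sum_pair hθ'ne.symm]
  -- multiplicities
  have hnat : ∀ (ζ : IrrCharacter G) (ξ : IrrCharacter (Subgroup.centralizer ({x} : Set G))),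
      ∃ n : ℕ, classInner (fun c : Subgroup.centralizer ({x} : Set G) => (ζ : G → ℂ) (c : G))
        (ξ : Subgroup.centralizer ({x} : Set G) → ℂ) = (n : ℂ) := by
    intro ζ ξ
    exact Cfsg.Agent.Lib.Helper75_CharArith.classInner_isCharacter_nat
      (Cfsg.Agent.Lib.Helper75_CharArith.isCharacter_restrict _ (isIrrCharacter_isCharacter ζ.2))
      (isIrrCharacter_isCharacter ξ.2)
  choose n hn using hnat
  set m : IrrCharacter G → ℤ := fun ζ => (n ζ θ : ℤ) - (n ζ θ' : ℤ) with hmdef
  have hθ1 : (θ : Subgroup.centralizer ({x} : Set G) → ℂ) 1 ≠ 0 := isIrrCharacter_one_ne_zero θ.2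
  have hθ'1 : (θ' : Subgroup.centralizer ({x} : Set G) → ℂ) 1 =
      (θ : Subgroup.centralizer ({x} : Set G) → ℂ) 1 :=
    hθ'reg 1 (by rw [orderOf_one]; norm_num)
  -- the values on the section of `x`
  have hsec : ∀ ζ ∈ B, ∀ y : Subgroup.centralizer ({x} : Set G), ¬ 2 ∣ orderOf y →
      (ζ : G → ℂ) (x * (y : G)) =
        (m ζ : ℂ) * (θ : Subgroup.centralizer ({x} : Set G) → ℂ) y := by
    intro ζ hζ y hy
    rw [Cfsg.Agent.Lib.Helper16_Subsection.irr_mul_eq_blockPart_of_unique hM x hu b hb.1 B hB huniq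
      ζ hζ y hy]
    unfold blockPart
    rw [hsumb]
    rw [classInner_translate x hx ζ θ x' rfl hx'c 1 (map_one _) (by rw [one_mul]; exact hθx x' rfl),
      classInner_translate x hx ζ θ' x' rfl hx'c (-1) (by rw [map_neg, map_one])
        (by rw [hθ'x]; ring),
      hn ζ θ, hn ζ θ', hθ'reg y hy, hmdef]
    push_cast
    ring
  -- nonvanishing
  have hm0 : ∀ ζ ∈ B, m ζ ≠ 0 := by
    intro ζ hζ h0
    obtain ⟨g, hg, P, hPeq⟩ := hBD
    have hxP : x ∈ (P : Subgroup (Subgroup.centralizer ({g} : Set G))).map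
        (Subgroup.centralizer ({g} : Set G)).subtype := by
      rw [← hPeq]
      exact Subgroup.mem_zpowers x
    obtain ⟨xg, hxgP, hxg⟩ := hxP
    have hxgval : (xg : G) = x := hxg
    have hcommP : ∀ w ∈ (P : Subgroup (Subgroup.centralizer ({g} : Set G))),
        xg * w = w * xg := by
      intro w hw
      have hwz : (w : G) ∈ Subgroup.zpowers x := by
        rw [hPeq]
        exact ⟨w, hw, rfl⟩
      obtain ⟨k, hk⟩ := Subgroup.mem_zpowers_iff.mp hwz
      apply Subtype.ext
      push_cast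
      rw [hxgval, ← hk]
      exact ((Commute.refl x).zpow_right k).eq
    have hgreg : ¬ 2 ∣ orderOf g := by
      intro hdvd
      have h0' := Cfsg.Agent.Lib.Helper77_WeakOrth.blockCoeff_block_eq_zero_of_sing hM hB g hdvd
      apply hg.2.1
      rw [h0']
      exact memLocalIdeal_zero hMp
    have hgx : g * x = x * g := by
      have := Subgroup.mem_centralizer_iff.mp xg.2 g (Set.mem_singleton g)
      rw [hxgval] at this
      exact this
    have hgC : g ∈ Subgroup.centralizer ({x} : Set G) := by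
      rw [Subgroup.mem_centralizer_iff]
      intro k hk
      rw [Set.mem_singleton_iff.mp hk]
      exact hgx.symm
    have hS := (Cfsg.Agent.S0927.result 2 M hM B hB g hg P xg hxgP).2 hcommP ζ hζ
    apply hS
    rw [hxgval]
    have hval := hsec ζ hζ ⟨g, hgC⟩ (by rw [← Subgroup.orderOf_coe]; exact hgreg)
    have hval' : (ζ : G → ℂ) (x * g) = 0 := by
      rw [show x * g = x * ((⟨g, hgC⟩ : Subgroup.centralizer ({x} : Set G)) : G) from rfl, hval,
        h0, Int.cast_zero, zero_mul]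
    unfold centralChar
    rw [hval', mul_zero, zero_div]
    exact memLocalIdeal_zero hMp
  -- the block as a finset
  set S : Finset (IrrCharacter G) := Finset.univ.filter (fun χ => χ ∈ B) with hSdef
  have hS : ∀ f : IrrCharacter G → ℂ, ∑ᶠ χ ∈ B, f χ = ∑ χ ∈ S, f χ := by
    intro f
    have e' := finsum_mem_eq_sum_ite (fun χ => χ ∈ B) f
    rw [show (∑ᶠ χ ∈ B, f χ) = _ from e', hSdef, Finset.sum_filter]
  have hmemS : ∀ χ, χ ∈ S ↔ χ ∈ B := by
    intro χ
    rw [hSdef, Finset.mem_filter]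
    exact ⟨fun h => h.2, fun h => ⟨Finset.mem_univ _, h⟩⟩
  have hreg1 : ¬ 2 ∣ orderOf (1 : Subgroup.centralizer ({x} : Set G)) := by
    rw [orderOf_one]; norm_num
  have hx1 : ∀ ζ ∈ B, (ζ : G → ℂ) x =
      (m ζ : ℂ) * (θ : Subgroup.centralizer ({x} : Set G) → ℂ) 1 := by
    intro ζ hζ
    have := hsec ζ hζ 1 hreg1
    simpa using this
  obtain ⟨d, hd, hθd⟩ := isIrrCharacter_one_eq_natCast θ.2
  have hd0 : (d : ℂ) ≠ 0 := by exact_mod_cast hd.ne'
  have hsq : ∑ ζ ∈ S, (m ζ) ^ 2 = 2 := by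
    have h0 := Cfsg.Agent.Lib.Helper16_Subsection.section_orthogonality_of_unique hM x hu b B hb
      huniq 1 1 hreg1 hreg1
    rw [hS, hsumb, hθ'1] at h0
    simp only [OneMemClass.coe_one, mul_one] at h0
    have h1 : ∑ ζ ∈ S, (ζ : G → ℂ) x * conj ((ζ : G → ℂ) x) =
        ((∑ ζ ∈ S, (m ζ) ^ 2 : ℤ) : ℂ) * ((d : ℂ) * (d : ℂ)) := by
      rw [Int.cast_sum, Finset.sum_mul]
      refine Finset.sum_congr rfl fun ζ hζ => ?_
      rw [hx1 ζ ((hmemS ζ).mp hζ), hθd, map_mul, map_intCast (starRingEnd ℂ),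
        Complex.conj_natCast]
      push_cast
      ring
    rw [h1, hθd, Complex.conj_natCast] at h0
    have h2 : ((∑ ζ ∈ S, (m ζ) ^ 2 : ℤ) : ℂ) = 2 := by
      have hdd : (d : ℂ) * (d : ℂ) ≠ 0 := mul_ne_zero hd0 hd0
      apply mul_right_cancel₀ hdd
      linear_combination h0
    exact_mod_cast h2
  obtain ⟨χ₁, χ₂, h12, hSeq, hm1, hm2⟩ :=
    two_elements S m (fun ζ hζ => hm0 ζ ((hmemS ζ).mp hζ)) hsq
  have hχ₁B : χ₁ ∈ B := (hmemS χ₁).mp (by rw [hSeq]; simp)
  have hχ₂B : χ₂ ∈ B := (hmemS χ₂).mp (by rw [hSeq]; simp)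
  have hBall : ∀ χ ∈ B, χ = χ₁ ∨ χ = χ₂ := by
    intro χ hχ
    have := (hmemS χ).mpr hχ
    rw [hSeq] at this
    simpa using this
  -- orthogonality with the odd-order elements
  have hxdvd : 2 ∣ orderOf x := by rw [hx]
  have horth : ∀ g : G, ¬ 2 ∣ orderOf g →
      (m χ₁ : ℂ) * (χ₁ : G → ℂ) g + (m χ₂ : ℂ) * (χ₂ : G → ℂ) g = 0 := by
    intro g hg
    have h0 := Cfsg.Agent.Lib.Helper77_WeakOrth.weak_orthogonality_block hM hB g x hg hxdvd
    rw [hS, hSeq, Finset.sum_pair h12, hx1 χ₁ hχ₁B, hx1 χ₂ hχ₂B, hθd] at h0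
    simp only [map_mul, map_intCast (starRingEnd ℂ), Complex.conj_natCast] at h0
    apply mul_right_cancel₀ hd0
    linear_combination h0
  obtain ⟨d₁, hd₁, hχ₁d⟩ := isIrrCharacter_one_eq_natCast χ₁.2
  obtain ⟨d₂, hd₂, hχ₂d⟩ := isIrrCharacter_one_eq_natCast χ₂.2
  have hone := horth 1 (by rw [orderOf_one]; norm_num)
  rw [hχ₁d, hχ₂d] at hone
  have hone' : m χ₁ * (d₁ : ℤ) + m χ₂ * (d₂ : ℤ) = 0 := by exact_mod_cast hone
  have hsign : m χ₁ * m χ₂ = -1 := by
    rcases hm1 with h1 | h1 <;> rcases hm2 with h2 | h2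
    · exfalso
      rw [h1, h2] at hone'
      have : (0 : ℤ) < d₁ := by exact_mod_cast hd₁
      have : (0 : ℤ) < d₂ := by exact_mod_cast hd₂
      linarith
    · rw [h1, h2]; norm_num
    · rw [h1, h2]; norm_num
    · exfalso
      rw [h1, h2] at hone'
      have : (0 : ℤ) < d₁ := by exact_mod_cast hd₁
      have : (0 : ℤ) < d₂ := by exact_mod_cast hd₂
      linarith
  have hm2eq : m χ₂ = - m χ₁ := by
    rcases hm1 with h1 | h1 <;> rcases hm2 with h2 | h2 <;> rw [h1, h2] at hsign <;>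
      rw [h1, h2] <;> omega
  have hagree : ∀ g : G, ¬ 2 ∣ orderOf g → (χ₁ : G → ℂ) g = (χ₂ : G → ℂ) g := by
    intro g hg
    have h := horth g hg
    rw [hm2eq] at h
    have hm1ne : (m χ₁ : ℂ) ≠ 0 := by
      rcases hm1 with h1 | h1 <;> rw [h1] <;> norm_num
    apply mul_left_cancel₀ hm1ne
    push_cast at h
    linear_combination h
  refine ⟨?_, ?_, χ₁, hχ₁B, χ₂, hχ₂B, h12, m χ₁, m χ₂, hm1, hm2, hsign, ?_⟩
  · have hBeq : B = {χ₁, χ₂} := by
      ext χ
      constructor
      · intro hχ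
        rcases hBall χ hχ with h | h
        · left; exact h
        · right; exact h
      · rintro (h | h)
        · rw [h]; exact hχ₁B
        · rw [Set.mem_singleton_iff] at h; rw [h]; exact hχ₂B
    rw [hBeq, Nat.card_coe_set_eq, Set.ncard_pair h12]
  · intro χ hχ ψ hψ g hg
    rcases hBall χ hχ with h | h <;> rcases hBall ψ hψ with h' | h' <;> rw [h, h']
    · exact hagree g hg
    · exact (hagree g hg).symm
  · intro y hy
    exact ⟨hsec χ₁ hχ₁B y hy, hsec χ₂ hχ₂B y hy⟩

end Main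

end Cfsg.Agent.Lib.Helper16_DefectTwo
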