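import Mathlib
import Cfsg.Prelude.Def_Blocks
import Cfsg.Agent.Lib.Helper62_InvCount_Defs
import Cfsg.Agent.Lib.Helper47_INV_BR4
import Cfsg.Agent.Lib.Helper77_BlockBasics
import Cfsg.Agent.Lib.Helper80_CharBasic
import Cfsg.Agent.Lib.Helper17_Sylow

/-!
# F5040-BR6 (package of S0978, architect helper62; formalized by helper16)

Brauer's theorem on blocks of defect one (`Cfsg.Agent.S4441.result`, through
`Helper47_INV_BR4.block_data`) with `e = p - 1` and `C_G(P) = P`: the principal block `B` has `p`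
characters with signs `δ`, `χ(1) ≡ δ (p)`, `χ(x) = δ` on `P ∖ 1`, every other irreducible character
vanishes at `x`, `∑_B δ χ(g) = 0` for `p`-regular `g`, and `invSum(z,x) = ∑_B δ χ(z)²/χ(1)`.
-/

set_option autoImplicit false

namespace Cfsg.Agent.Lib.Helper16_F5040_BR6

open Cfsg Cfsg.Agent.Lib.Helper62_InvCount_Defs Cfsg.Agent.Lib.Helper80_CharBasic
open scoped ComplexConjugate

theorem brauer_e6 {G : Type*} [Group G] [Finite G] {p : ℕ} [Fact p.Prime] (hp5 : 5 ≤ p)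
    (P : Sylow p G) (hP : Nat.card P = p)
    (hC : Subgroup.centralizer ((P : Subgroup G) : Set G) = (P : Subgroup G))
    (hN : Nat.card (Subgroup.normalizer ((P : Subgroup G) : Set G)) = (p - 1) * p)
    (x : G) (hx : x ∈ (P : Subgroup G)) (hx1 : x ≠ 1) :
    ∃ (B : Finset (Cfsg.IrrCharacter G)) (δ : Cfsg.IrrCharacter G → ℤ),
      oneIrr G ∈ B ∧ B.card = p ∧ δ (oneIrr G) = 1 ∧
      (∀ χ ∈ B, (δ χ = 1 ∨ δ χ = -1) ∧
        ((Cfsg.charDegree (χ : G → ℂ) : ℤ) ≡ δ χ [ZMOD p]) ∧ (χ : G → ℂ) x = (δ χ : ℂ)) ∧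
      (∀ χ : Cfsg.IrrCharacter G, χ ∉ B → (χ : G → ℂ) x = 0) ∧
      (∀ g : G, ¬ p ∣ orderOf g → ∑ χ ∈ B, (δ χ : ℂ) * (χ : G → ℂ) g = 0) ∧
      ∀ z : G, invSum G z x =
        ∑ χ ∈ B, (δ χ : ℂ) * ((χ : G → ℂ) z) ^ 2 / (Cfsg.charDegree (χ : G → ℂ) : ℂ) := by
  classical
  let _ : Fintype G := Fintype.ofFinite G
  have hp' : p.Prime := Fact.out
  have hp2 : p ≠ 2 := by omega
  have he : (Subgroup.centralizer ((P : Subgroup G) : Set G)).relIndex
      (Subgroup.normalizer ((P : Subgroup G) : Set G)) = p - 1 := by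
    have h1 := Cfsg.Agent.Lib.Helper17_Sylow.card_mul_relIndex_of_le
      (Subgroup.centralizer_le_normalizer (s := ((P : Subgroup G) : Set G)))
    set k := (Subgroup.centralizer ((P : Subgroup G) : Set G)).relIndex
      (Subgroup.normalizer ((P : Subgroup G) : Set G)) with hk
    have h2 : Nat.card (Subgroup.centralizer ((P : Subgroup G) : Set G)) = p := by
      rw [hC]; exact hP
    rw [h2, hN] at h1
    have hpos : 0 < p := hp'.pos
    have : p * k = p * (p - 1) := by rw [h1]; ring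
    exact Nat.eq_of_mul_eq_mul_left hpos this
  obtain ⟨X, Y, εX, ε, hdisj, hXc, hYc, h1mem, hX, hε, hYdeg, hYreg, hrel, hout⟩ :=
    Cfsg.Agent.Lib.Helper47_INV_BR4.block_data hp2 P hP hC (p - 1) he
  have h1reg : ¬ p ∣ orderOf (1 : G) := by
    rw [orderOf_one]
    exact fun h => hp'.one_lt.ne' (Nat.dvd_one.mp h)
  have hXx : ∀ χ ∈ X, (χ : G → ℂ) x = (εX χ : ℂ) := fun χ hχ => (hX χ hχ).2.2 x hx hx1
  have houtx : ∀ χ : IrrCharacter G, χ ∉ X → χ ∉ Y → (χ : G → ℂ) x = 0 :=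
    fun χ h1 h2 => hout χ h1 h2 x hx hx1
  have hd : ∀ χ : IrrCharacter G, (χ : G → ℂ) 1 = (charDegree (χ : G → ℂ) : ℂ) :=
    fun χ => Cfsg.Agent.Lib.Helper77_BlockBasics.apply_one_eq_charDegree χ
  have hdeg1 : charDegree ((oneIrr G : IrrCharacter G) : G → ℂ) = 1 := by
    show ⌊((1 : ℂ)).re⌋₊ = 1
    simp
  -- `Y` is a singleton
  have hYc1 : Y.card = 1 := by
    rw [hYc]
    exact Nat.div_self (by omega)
  obtain ⟨θ, hYθ⟩ := Finset.card_eq_one.1 hYc1
  have hθY : θ ∈ Y := by rw [hYθ]; exact Finset.mem_singleton_self θ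
  have hθX : θ ∉ X := fun h => Finset.disjoint_left.1 hdisj h hθY
  have hY1 : ∀ θ' ∈ Y, (θ' : G → ℂ) 1 = (θ : G → ℂ) 1 :=
    fun θ' hθ' => hYreg θ' hθ' θ hθY 1 h1reg
  have hrel1 := hrel θ hθY 1 h1reg
  have hsumY := Cfsg.Agent.Lib.Helper47_INV_BR4.sumY_eq X Y εX ε hdisj x hx1 hXx houtx θ hY1 hrel1
  rw [hYθ, Finset.sum_singleton] at hsumY
  -- the sign function
  set δ : IrrCharacter G → ℤ := fun χ => if χ ∈ X then εX χ else -ε with hδ
  have hδX : ∀ χ ∈ X, δ χ = εX χ := fun χ hχ => by rw [hδ]; exact if_pos hχ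
  have hδθ : δ θ = -ε := by rw [hδ]; exact if_neg hθX
  -- `p - 1 ≡ -1`
  have hcast : ((p - 1 : ℕ) : ℤ) = (p : ℤ) - 1 := by
    have : 1 ≤ p := hp'.one_lt.le
    push_cast [Nat.cast_sub this]
    ring
  have hθdeg : (charDegree (θ : G → ℂ) : ℤ) ≡ -ε [ZMOD p] := by
    refine (hYdeg θ hθY).trans ?_
    rw [hcast, Int.modEq_iff_dvd]
    exact ⟨-ε, by ring⟩
  -- a sign congruent to `1` is `1`
  have hsign : ∀ s : ℤ, (s = 1 ∨ s = -1) → ((1 : ℕ) : ℤ) ≡ s [ZMOD p] → s = 1 := by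
    intro s hs hmod
    rcases hs with h | h
    · exact h
    · exfalso
      rw [h] at hmod
      have h4 := Int.modEq_iff_dvd.1 hmod
      have h5 : (p : ℤ) ∣ 2 := by
        have : (-1 : ℤ) - ((1 : ℕ) : ℤ) = -2 := by norm_num
        rw [this] at h4
        exact dvd_neg.1 h4
      have h6 : (p : ℤ) ≤ 2 := Int.le_of_dvd (by norm_num) h5
      omega
  have hεneg : -ε = 1 ∨ -ε = -1 := by
    rcases hε with h | h
    · right; rw [h]
    · left; rw [h]; norm_num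
  have hsplit : ∀ f : IrrCharacter G → ℂ, ∑ χ ∈ X ∪ Y, f χ = ∑ χ ∈ X, f χ + f θ := by
    intro f
    rw [Finset.sum_union hdisj, hYθ, Finset.sum_singleton]
  refine ⟨X ∪ Y, δ, ?_, ?_, ?_, ?_, ?_, ?_, ?_⟩
  · rcases h1mem with h | h
    · exact Finset.mem_union_left _ h
    · exact Finset.mem_union_right _ h
  · rw [Finset.card_union_of_disjoint hdisj, hXc, hYc1]
    have : 1 ≤ p := hp'.one_lt.le
    omega
  · rcases h1mem with h | h
    · rw [hδX _ h]
      obtain ⟨h2, h3, -⟩ := hX _ h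
      rw [hdeg1] at h3
      exact hsign _ h2 h3
    · have hθ1 : oneIrr G = θ := by
        rw [hYθ] at h
        exact Finset.mem_singleton.1 h
      rw [hθ1, hδθ]
      have h3 := hθdeg
      rw [← hθ1, hdeg1] at h3
      exact hsign _ hεneg h3
  · intro χ hχ
    rcases Finset.mem_union.1 hχ with h | h
    · rw [hδX χ h]
      exact ⟨(hX χ h).1, (hX χ h).2.1, hXx χ h⟩
    · have hχθ : χ = θ := by
        rw [hYθ] at h
        exact Finset.mem_singleton.1 h
      rw [hχθ, hδθ]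
      refine ⟨hεneg, hθdeg, ?_⟩
      rw [hsumY]
      push_cast
      ring
  · intro χ hχ
    rw [Finset.mem_union, not_or] at hχ
    exact houtx χ hχ.1 hχ.2
  · intro g hg
    rw [hsplit, hδθ]
    have h3 := hrel θ hθY g hg
    have h4 : ∑ χ ∈ X, (δ χ : ℂ) * (χ : G → ℂ) g = ∑ χ ∈ X, (εX χ : ℂ) * (χ : G → ℂ) g := by
      refine Finset.sum_congr rfl fun χ hχ => ?_
      rw [hδX χ hχ]
    rw [h4, ← h3]
    push_cast
    ring
  · intro z
    unfold invSum
    rw [finsum_eq_sum_of_fintype, ← Finset.sum_add_sum_compl (X ∪ Y)]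
    have h3 : ∑ χ ∈ (X ∪ Y)ᶜ, (χ : G → ℂ) z * (χ : G → ℂ) z * conj ((χ : G → ℂ) x) /
        (χ : G → ℂ) 1 = 0 := by
      apply Finset.sum_eq_zero
      intro χ hχ
      rw [Finset.mem_compl, Finset.mem_union, not_or] at hχ
      rw [houtx χ hχ.1 hχ.2, map_zero, mul_zero, zero_div]
    rw [h3, add_zero]
    refine Finset.sum_congr rfl fun χ hχ => ?_
    have hval : (χ : G → ℂ) x = (δ χ : ℂ) := by
      rcases Finset.mem_union.1 hχ with h | h
      · rw [hδX χ h]; exact hXx χ h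
      · have hχθ : χ = θ := by
          rw [hYθ] at h
          exact Finset.mem_singleton.1 h
        rw [hχθ, hδθ, hsumY]
        push_cast
        ring
    rw [hval, map_intCast, hd]
    ring

end Cfsg.Agent.Lib.Helper16_F5040_BR6
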