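import Mathlib
import Cfsg.Prelude.Def_Blocks
import Cfsg.Agent.S4441
import Cfsg.Agent.Lib.Helper23_ZStarB
import Cfsg.Agent.Lib.Helper30_KleinBlock
import Cfsg.Agent.Lib.Helper17_Sylow
import Cfsg.Agent.Lib.Helper74_CharTools
import Cfsg.Agent.Lib.Helper77_BlockBasics
import Cfsg.Agent.Lib.Helper80_CharBasic

/-!
# F5040-BRX7 (package of S0978, architect helper62; formalized by helper16)

`G` simple of order `5040 = 2^4·3^2·5·7`, `P` a Sylow `7`-subgroup, `e = |N(P) : C(P)| ∈ {2,3}`.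
Brauer's theorem (S4441) gives the `e` non-exceptional characters `X` of the principal block with
their signs, and an exceptional character `θ`; the degree of a nontrivial member of `X` is
`8, 15, 36 (+)` or `6, 20, 48 (-)`.  Modelled on `Helper11_N19_BRX`.
-/

set_option autoImplicit false
open Cfsg Cfsg.Agent.Lib.Helper80_CharBasic

namespace Cfsg.Agent.Lib.Helper16_F5040_BRX7

/-- The divisors of `5040` that are `≡ ±1 (mod 7)` with square at most `5040`. -/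
theorem divisor_list7 : ∀ d : ℕ, d ≤ 70 → d ∣ 5040 → (d % 7 = 1 ∨ d % 7 = 6) →
    (d % 7 = 1 ∧ (d = 1 ∨ d = 8 ∨ d = 15 ∨ d = 36)) ∨
      (d % 7 = 6 ∧ (d = 6 ∨ d = 20 ∨ d = 48)) := by
  intro d hd hdvd hmod
  interval_cases d <;> omega

theorem brauer_X7 {G : Type*} [Group G] [Finite G] [IsSimpleGroup G] [Fact (Nat.Prime 7)]
    (hG : Nat.card G = 5040) (P : Sylow 7 G) (hP : Nat.card P = 7) (e : ℕ)
    (he : (Subgroup.centralizer ((P : Subgroup G) : Set G)).relIndex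
      (Subgroup.normalizer ((P : Subgroup G) : Set G)) = e)
    (he' : e = 2 ∨ e = 3) :
    ∃ (X : Finset (Cfsg.IrrCharacter G)) (εX : Cfsg.IrrCharacter G → ℤ)
      (θ : Cfsg.IrrCharacter G) (ε : ℤ),
      oneIrr G ∈ X ∧ X.card = e ∧ εX (oneIrr G) = 1 ∧ θ ∉ X ∧
      (∀ χ ∈ X, χ ≠ oneIrr G →
        ((Cfsg.charDegree (χ : G → ℂ) = 8 ∨ Cfsg.charDegree (χ : G → ℂ) = 15 ∨
          Cfsg.charDegree (χ : G → ℂ) = 36) ∧ εX χ = 1) ∨
        ((Cfsg.charDegree (χ : G → ℂ) = 6 ∨ Cfsg.charDegree (χ : G → ℂ) = 20 ∨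
          Cfsg.charDegree (χ : G → ℂ) = 48) ∧ εX χ = -1)) ∧
      (∀ χ ∈ X, ∀ x : G, x ∈ (P : Subgroup G) → x ≠ 1 → ∀ y : G,
        y ∈ Subgroup.centralizer ((P : Subgroup G) : Set G) → ¬ 7 ∣ orderOf y →
        (χ : G → ℂ) (x * y) = (εX χ : ℂ)) ∧
      Cfsg.charDegree (θ : G → ℂ) ∣ 5040 ∧ (ε = 1 ∨ ε = -1) ∧
      ε * (Cfsg.charDegree (θ : G → ℂ) : ℤ) =
        ∑ χ ∈ X, εX χ * (Cfsg.charDegree (χ : G → ℂ) : ℤ) ∧
      ∀ g : G, ¬ 7 ∣ orderOf g →
        (ε : ℂ) * (θ : G → ℂ) g = ∑ χ ∈ X, (εX χ : ℂ) * (χ : G → ℂ) g := by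
  classical
  let _ : Fintype G := Fintype.ofFinite G
  have hp : Nat.Prime 7 := Fact.out
  obtain ⟨M, hM⟩ := Cfsg.Agent.Lib.Helper23_ZStarB.exists_pModular 7 hp
  obtain ⟨X₀, Y₀, hB, hdisj, hcX, hcY, εX, ε, hX, hε, hYdeg, hYagree, hrel⟩ :=
    Cfsg.Agent.S4441.result 7 M hM (by norm_num) P hP e he
  have hdeg1 : charDegree ((oneIrr G : IrrCharacter G) : G → ℂ) = 1 := by
    show ⌊((1 : ℂ)).re⌋₊ = 1
    simp
  have h1B : oneIrr G ∈ X₀ ∪ Y₀ := by
    rw [← hB]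
    exact Cfsg.Agent.Lib.Helper30_KleinBlock.oneIrr_mem hM
  -- the principal character lies in `X₀`
  have h1X : oneIrr G ∈ X₀ := by
    rcases h1B with h | h
    · exact h
    · exfalso
      have h2 := hYdeg _ h
      rw [hdeg1] at h2
      unfold Int.ModEq at h2
      rcases hε with h3 | h3 <;> rcases he' with h4 | h4 <;> rw [h3, h4] at h2 <;>
        norm_num at h2
  have hε1 : εX (oneIrr G) = 1 := by
    obtain ⟨h2, h3, -⟩ := hX _ h1X
    rw [hdeg1] at h3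
    rcases h2 with h2 | h2
    · exact h2
    · exfalso
      rw [h2] at h3
      unfold Int.ModEq at h3
      omega
  have hfin : X₀.Finite := Set.toFinite X₀
  -- non-commutativity
  have hnp : ¬ (Nat.card G).Prime := by rw [hG]; norm_num
  have hna : ¬ ∀ a b : G, a * b = b * a := by
    intro h
    exact Cfsg.Agent.Lib.Helper17_Sylow.not_isMulCommutative_of_not_prime hnp ⟨⟨h⟩⟩
  -- a member of `Y₀`
  have hYne : Nonempty Y₀ := by
    have : 0 < Nat.card Y₀ := by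
      rw [hcY]
      rcases he' with h | h <;> rw [h] <;> norm_num
    exact (Nat.card_pos_iff.mp this).1
  obtain ⟨⟨θ, hθ⟩⟩ := hYne
  have hreg1 : ¬ 7 ∣ orderOf (1 : G) := by
    rw [orderOf_one]
    norm_num
  have hrel1 := hrel θ hθ 1 hreg1
  refine ⟨hfin.toFinset, εX, θ, ε, ?_, ?_, hε1, ?_, ?_, ?_, ?_, hε, ?_, ?_⟩
  · exact hfin.mem_toFinset.mpr h1X
  · rw [← Set.ncard_eq_toFinset_card X₀ hfin, ← Nat.card_coe_set_eq, hcX]
  · intro h
    exact (Set.disjoint_left.mp hdisj (hfin.mem_toFinset.mp h)) hθ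
  · intro χ hχ hχ1
    have hχX : χ ∈ X₀ := hfin.mem_toFinset.mp hχ
    obtain ⟨hs, hmod, -⟩ := hX χ hχX
    have hdvd : charDegree (χ : G → ℂ) ∣ 5040 := by
      rw [← hG]
      exact Cfsg.Agent.Lib.Helper77_BlockBasics.charDegree_dvd_card χ
    have hsq : charDegree (χ : G → ℂ) ^ 2 ≤ 5040 := by
      rw [← hG]
      exact Cfsg.Agent.Lib.Helper74_CharTools.charDegree_sq_le χ
    have hne1 : charDegree (χ : G → ℂ) ≠ 1 := fun h =>
      hχ1 (Cfsg.Agent.Lib.Helper74_CharTools.eq_oneIrr_of_degree_one hna χ h)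
    obtain ⟨d, hd⟩ : ∃ d : ℕ, d = charDegree (χ : G → ℂ) := ⟨_, rfl⟩
    rw [← hd] at hdvd hsq hne1 hmod ⊢
    have hle : d ≤ 70 := by
      by_contra h
      have : 71 ≤ d := by omega
      nlinarith
    unfold Int.ModEq at hmod
    rcases hs with hs | hs
    · rw [hs] at hmod ⊢
      have hm : d % 7 = 1 := by
        push_cast at hmod
        omega
      rcases divisor_list7 d hle hdvd (Or.inl hm) with ⟨-, h | h | h | h⟩ | ⟨h, -⟩
      · exact absurd h hne1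
      · left; exact ⟨Or.inl h, rfl⟩
      · left; exact ⟨Or.inr (Or.inl h), rfl⟩
      · left; exact ⟨Or.inr (Or.inr h), rfl⟩
      · omega
    · rw [hs] at hmod ⊢
      have hm : d % 7 = 6 := by
        push_cast at hmod
        omega
      rcases divisor_list7 d hle hdvd (Or.inr hm) with ⟨h, -⟩ | ⟨-, h⟩
      · omega
      · right; exact ⟨h, rfl⟩
  · intro χ hχ x hx hx1 y hy hyo
    exact (hX χ (hfin.mem_toFinset.mp hχ)).2.2 x hx hx1 y hy hyo
  · rw [← hG]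
    exact Cfsg.Agent.Lib.Helper77_BlockBasics.charDegree_dvd_card θ
  · rw [finsum_mem_eq_finite_toFinset_sum _ hfin,
      Cfsg.Agent.Lib.Helper77_BlockBasics.apply_one_eq_charDegree θ] at hrel1
    have h2 : ((ε * (charDegree (θ : G → ℂ) : ℤ) : ℤ) : ℂ) =
        ((∑ χ ∈ hfin.toFinset, εX χ * (charDegree (χ : G → ℂ) : ℤ) : ℤ) : ℂ) := by
      push_cast
      rw [hrel1]
      refine Finset.sum_congr rfl fun χ _ => ?_
      rw [Cfsg.Agent.Lib.Helper77_BlockBasics.apply_one_eq_charDegree χ]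
    exact_mod_cast h2
  · intro g hg
    have h3 := hrel θ hθ g hg
    rw [finsum_mem_eq_finite_toFinset_sum _ hfin] at h3
    exact h3

end Cfsg.Agent.Lib.Helper16_F5040_BRX7
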