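import Mathlib
import Cfsg.Prelude.Def_Characters
import Cfsg.Agent.Lib.Helper80_CharBasic

/-!
# S3331 (Feit–Thompson, self-centralizing subgroup of order 3): shared definitions for the
character core (packages B1–B6 of helper6's proof, finding 167).

`Hyp G x t`  : the standing hypotheses of the simple case (`G` perfect, `x` of order `3` with
`C_G(x) = ⟨x⟩`, `t` an involution inverting `x`).
`Data G x t` : the numerical data `d, a, m` and the two characters `θ, φ` produced by B1/B2.
`fourSet x`  : the `x`-invariant Klein four-subgroups;  `USet x` : the union of the `x`-invariant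
`3'`-subgroups in its element-wise description.
-/

set_option autoImplicit false

namespace Cfsg.Agent.Lib.Helper1_FT3Defs

open Cfsg Cfsg.Agent.Lib.Helper80_CharBasic

open scoped ComplexConjugate

/-- standing hypotheses: `G` perfect, `x` of order three and self-centralizing, `t` an involution
inverting `x`. -/
structure Hyp (G : Type*) [Group G] (x t : G) : Prop where
  perf : commutator G = ⊤
  ox : orderOf x = 3
  cx : Subgroup.centralizer ({x} : Set G) = Subgroup.zpowers x
  ot : orderOf t = 2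
  inv : t * x * t⁻¹ = x⁻¹

/-- the character data: `θ(x) = 1`, `φ(x) = -1`, `θ(1) = d`, `φ(1) = d + 1`, `a = θ(t)`,
`|C(t)| = m (d - a)`, `|G| = 3 d (d+1) m²`, one class of involutions. -/
structure Data (G : Type*) [Group G] (x t : G) where
  θ : IrrCharacter G
  φ : IrrCharacter G
  d : ℕ
  a : ℤ
  m : ℕ
  θ_one : (θ : G → ℂ) 1 = d
  φ_one : (φ : G → ℂ) 1 = (d : ℂ) + 1
  θ_x : (θ : G → ℂ) x = 1
  φ_x : (φ : G → ℂ) x = -1
  θ_ne : θ ≠ oneIrr G
  φ_ne : φ ≠ oneIrr G
  θφ_ne : θ ≠ φ
  d_mod : (3 : ℤ) ∣ (d : ℤ) - 1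
  d_ge : 4 ≤ d
  expand : ∀ F : IrrCharacter G → ℂ,
    ∑ᶠ χ : IrrCharacter G, F χ * conj ((χ : G → ℂ) x) = F (oneIrr G) + F θ - F φ
  θ_t : (θ : G → ℂ) t = a
  m_pos : 0 < m
  card_cent : (Nat.card (Subgroup.centralizer ({t} : Set G)) : ℤ) = m * ((d : ℤ) - a)
  card_G : Nat.card G = 3 * d * (d + 1) * m ^ 2
  allconj : ∀ v : G, orderOf v = 2 → IsConj t v

/-- the `x`-invariant Klein four-subgroups -/
def fourSet {G : Type*} [Group G] (x : G) : Set (Subgroup G) :=
  {V | Nat.card V = 4 ∧ (∀ v ∈ V, v * v = 1) ∧ x ∈ Subgroup.normalizer (V : Set G)}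

/-- element-wise description of the union of all `x`-invariant `3'`-subgroups -/
def USet {G : Type*} [Group G] (x : G) : Set G :=
  {v | orderOf (v * x) = 3 ∧ orderOf (v * x⁻¹) = 3}

/-- `B` is an `x`-invariant `3'`-subgroup (an `X`-signalizer) -/
def IsSig {G : Type*} [Group G] (x : G) (B : Subgroup G) : Prop :=
  ¬ 3 ∣ Nat.card B ∧ x ∈ Subgroup.normalizer (B : Set G)

end Cfsg.Agent.Lib.Helper1_FT3Defs
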