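import Mathlib
import Cfsg.Prelude.Def_Characters
import Cfsg.Agent.Lib.Helper80_CharBasic
import Cfsg.Agent.Lib.Helper80_CharComplete
import Cfsg.Agent.Lib.Helper1_FT3Defs
import Cfsg.Agent.S0840
import Cfsg.Agent.Lib.Helper30_SelfCent3
import Cfsg.Agent.Lib.Helper30_KleinCount

/-!
# S3331 package B4b, main computation (helper16)

Class-algebra count at `(t, x, x)`: the number `n` of involutions `s` with `s x` of order three
satisfies `n (d - a) = m (d² + 2d + (2d+1) a)`.  (Package B4a identifies `n = 3 w`.)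
-/

set_option autoImplicit false

namespace Cfsg.Agent.Lib.Helper16_FT3_B4bAux

open Cfsg Cfsg.Agent.Lib.Helper80_CharBasic Cfsg.Agent.Lib.Helper1_FT3Defs

open scoped ComplexConjugate

variable {G : Type*} [Group G] [Finite G] {x t : G}

omit [Finite G] in
/-- conjugates of `t` are exactly the involutions -/
theorem isConj_t_iff (h : Hyp G x t) (D : Data G x t) (s : G) : IsConj t s ↔ orderOf s = 2 := by
  constructor
  · intro hs
    obtain ⟨c, hc⟩ := isConj_iff.mp hs
    have := (MulAut.conj c).orderOf_eq t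
    rw [MulAut.conj_apply, hc, h.ot] at this
    exact this
  · exact D.allconj s

/-- conjugates of `x` are exactly the elements of order three -/
theorem isConj_x_iff (h : Hyp G x t) (p : G) : IsConj x p ↔ orderOf p = 3 := by
  constructor
  · intro hp
    obtain ⟨c, hc⟩ := isConj_iff.mp hp
    have := (MulAut.conj c).orderOf_eq x
    rw [MulAut.conj_apply, hc, h.ox] at this
    exact this
  · intro hp
    exact Cfsg.Agent.Lib.Helper30_SelfCent3.isConj_of_order_three h.perf h.ox h.cx hp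

/-- `φ(t) = a + 1` -/
theorem phi_t (h : Hyp G x t) (D : Data G x t) : (D.φ : G → ℂ) t = (D.a : ℂ) + 1 := by
  have hnc : ¬ IsConj t x := by
    intro hc
    have := (isConj_t_iff h D x).1 hc
    rw [h.ox] at this
    omega
  have h1 := (Cfsg.Agent.Lib.Helper80_CharComplete.second_orthogonality t x).2 hnc
  rw [D.expand (fun χ => (χ : G → ℂ) t), D.θ_t] at h1
  have hone : ((oneIrr G : IrrCharacter G) : G → ℂ) t = 1 := rfl
  rw [hone] at h1
  linear_combination -h1

/-- the pairs `(s, y)`, `s ~ t`, `y ~ x`, `s y = x`, biject with the involutions `s` such that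
`s x` has order three -/
noncomputable def pairsEquiv (h : Hyp G x t) (D : Data G x t) :
    {p : G × G // IsConj t p.1 ∧ IsConj x p.2 ∧ p.1 * p.2 = x} ≃
      {s : G // orderOf s = 2 ∧ orderOf (s * x) = 3} where
  toFun p := ⟨p.1.1, by
    obtain ⟨⟨s, y⟩, hs, hy, hsy⟩ := p
    simp only at hs hy hsy ⊢
    have hs2 := (isConj_t_iff h D s).1 hs
    have hss : s * s = 1 := by rw [← pow_two, ← hs2]; exact pow_orderOf_eq_one s
    refine ⟨hs2, ?_⟩
    have : s * x = y := by rw [← hsy, ← mul_assoc, hss, one_mul]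
    rw [this]
    exact (isConj_x_iff h y).1 hy⟩
  invFun s := ⟨(s.1, s.1 * x), by
    obtain ⟨s, hs2, hs3⟩ := s
    simp only
    have hss : s * s = 1 := by rw [← pow_two, ← hs2]; exact pow_orderOf_eq_one s
    exact ⟨(isConj_t_iff h D s).2 hs2, (isConj_x_iff h _).2 hs3, by
      rw [← mul_assoc, hss, one_mul]⟩⟩
  left_inv p := by
    obtain ⟨⟨s, y⟩, hs, hy, hsy⟩ := p
    simp only at hs hy hsy
    apply Subtype.ext
    show (s, s * x) = (s, y)
    have hs2 := (isConj_t_iff h D s).1 hs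
    have hss : s * s = 1 := by rw [← pow_two, ← hs2]; exact pow_orderOf_eq_one s
    have : s * x = y := by rw [← hsy, ← mul_assoc, hss, one_mul]
    rw [this]
  right_inv s := rfl

/-- the class-algebra count at `(t, x, x)` -/
theorem count_formula (h : Hyp G x t) (D : Data G x t) :
    (Nat.card {s : G // orderOf s = 2 ∧ orderOf (s * x) = 3} : ℤ) * ((D.d : ℤ) - D.a) =
      D.m * ((D.d : ℤ) ^ 2 + 2 * D.d + (2 * D.d + 1) * D.a) := by
  classical
  have hcard := Nat.card_congr (pairsEquiv h D)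
  have hS := Cfsg.Agent.S0840.result t x x
  have h1 : (fun χ : IrrCharacter G =>
      (χ : G → ℂ) t * (χ : G → ℂ) x * conj ((χ : G → ℂ) x) / (χ : G → ℂ) 1) =
      fun χ : IrrCharacter G =>
        ((χ : G → ℂ) t * (χ : G → ℂ) x / (χ : G → ℂ) 1) * conj ((χ : G → ℂ) x) := by
    funext χ; ring
  rw [h1, D.expand (fun χ => (χ : G → ℂ) t * (χ : G → ℂ) x / (χ : G → ℂ) 1), D.θ_one, D.φ_one,
    D.θ_x, D.φ_x, D.θ_t, phi_t h D] at hS
  have hone : ∀ g : G, ((oneIrr G : IrrCharacter G) : G → ℂ) g = 1 := fun g => rfl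
  rw [hone, hone, hone] at hS
  -- class sizes
  have hclx := Cfsg.Agent.Lib.Helper30_KleinCount.card_class_mul x
  have hcx : Nat.card (Subgroup.centralizer ({x} : Set G)) = 3 := by
    rw [h.cx, Nat.card_zpowers, h.ox]
  rw [hcx, D.card_G] at hclx
  have hclx' : Nat.card {w : G // IsConj x w} = D.d * (D.d + 1) * D.m ^ 2 := by
    have : Nat.card {w : G // IsConj x w} * 3 = (D.d * (D.d + 1) * D.m ^ 2) * 3 := by
      rw [hclx]; ring
    exact Nat.eq_of_mul_eq_mul_right (by norm_num) this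
  have hclt := Cfsg.Agent.Lib.Helper30_KleinCount.card_class_mul t
  have hcpos : 0 < Nat.card (Subgroup.centralizer ({t} : Set G)) := Nat.card_pos
  have hcent : ((Nat.card (Subgroup.centralizer ({t} : Set G)) : ℕ) : ℂ) =
      (D.m : ℂ) * ((D.d : ℂ) - (D.a : ℂ)) := by
    have := D.card_cent
    have h2 : (((Nat.card (Subgroup.centralizer ({t} : Set G)) : ℕ) : ℤ) : ℂ) =
        ((D.m * ((D.d : ℤ) - D.a) : ℤ) : ℂ) := by rw [this]
    push_cast at h2
    exact h2
  have hc0 : (D.m : ℂ) * ((D.d : ℂ) - (D.a : ℂ)) ≠ 0 := by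
    rw [← hcent]
    exact_mod_cast hcpos.ne'
  have hda0 : (D.d : ℂ) - (D.a : ℂ) ≠ 0 := right_ne_zero_of_mul hc0
  have hclt' : (Nat.card {w : G // IsConj t w} : ℂ) =
      (Nat.card G : ℂ) / ((D.m : ℂ) * ((D.d : ℂ) - (D.a : ℂ))) := by
    rw [eq_div_iff hc0, ← hcent]
    exact_mod_cast hclt
  rw [hclt', hclx', hcard] at hS
  have hd0 : (D.d : ℂ) ≠ 0 := by
    have := D.d_ge
    exact_mod_cast (by omega : D.d ≠ 0)
  have hd1 : (D.d : ℂ) + 1 ≠ 0 := by
    exact_mod_cast (Nat.succ_ne_zero D.d)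
  have hm0 : (D.m : ℂ) ≠ 0 := by exact_mod_cast D.m_pos.ne'
  have hG0 : (Nat.card G : ℂ) ≠ 0 := by exact_mod_cast (Nat.card_pos (α := G)).ne'
  have hfin : (((Nat.card {s : G // orderOf s = 2 ∧ orderOf (s * x) = 3} : ℤ) *
      ((D.d : ℤ) - D.a) : ℤ) : ℂ) =
      ((D.m * ((D.d : ℤ) ^ 2 + 2 * D.d + (2 * D.d + 1) * D.a) : ℤ) : ℂ) := by
    push_cast
    push_cast at hS
    rw [hS]
    field_simp
    ring
  exact_mod_cast hfin

end Cfsg.Agent.Lib.Helper16_FT3_B4bAux
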