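import Mathlib
import Cfsg.Prelude.Def_Characters
import Cfsg.Agent.Lib.Helper80_CharBasic
import Cfsg.Agent.Lib.Helper1_FT3Defs
import Cfsg.Agent.Lib.Helper30_SelfCent3

/-!
# S3331 (helper61): the basic FACT used by the group-theoretic packages

Under `Hyp G x t`: every element `y` of order 3 is self-centralizing (`C_G(y) = {1, y, y⁻¹}`), and
no element of order 3 commutes with an involution.
-/

set_option autoImplicit false
set_option linter.unusedSectionVars false

namespace Cfsg.Agent.Lib.Helper61_FT3_Fact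

open Cfsg Cfsg.Agent.Lib.Helper80_CharBasic Cfsg.Agent.Lib.Helper1_FT3Defs

variable {G : Type*} [Group G] [Finite G] {x t : G}

/-- the elements of a cyclic group of order three -/
theorem mem_zpowers_three {y z : G} (hy : orderOf y = 3) (hz : z ∈ Subgroup.zpowers y) :
    z = 1 ∨ z = y ∨ z = y⁻¹ := by
  obtain ⟨k, rfl⟩ := Subgroup.mem_zpowers_iff.mp hz
  have h3 : y ^ 3 = 1 := by rw [← hy]; exact pow_orderOf_eq_one y
  have hk : y ^ k = y ^ (k % 3) := by
    have := zpow_mod_orderOf y k
    rw [hy] at this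
    exact this.symm
  have h0 : 0 ≤ k % 3 := Int.emod_nonneg k (by norm_num)
  have h1 : k % 3 < 3 := Int.emod_lt_of_pos k (by norm_num)
  rw [hk]
  obtain ⟨n, hn⟩ := Int.eq_ofNat_of_zero_le h0
  rw [hn] at h1 ⊢
  rw [zpow_natCast]
  have hn3 : n < 3 := by exact_mod_cast h1
  interval_cases n
  · left; simp
  · right; left; simp
  · right; right
    have : y ^ 2 * y = 1 := by rw [← pow_succ]; exact h3
    exact eq_inv_of_mul_eq_one_left this

/-- every element of order three is self-centralizing -/
theorem cent_three (h : Hyp G x t) {y z : G} (hy : orderOf y = 3) (hz : z * y = y * z) :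
    z = 1 ∨ z = y ∨ z = y⁻¹ := by
  obtain ⟨c, hc⟩ := isConj_iff.mp
    (Cfsg.Agent.Lib.Helper30_SelfCent3.isConj_of_order_three h.perf h.ox h.cx hy)
  -- `c * x * c⁻¹ = y`
  have h1 : (c⁻¹ * z * c) * x = x * (c⁻¹ * z * c) := by
    have hx : x = c⁻¹ * y * c := by rw [← hc]; group
    calc (c⁻¹ * z * c) * x = c⁻¹ * (z * y) * c := by rw [hx]; group
      _ = c⁻¹ * (y * z) * c := by rw [hz]
      _ = x * (c⁻¹ * z * c) := by rw [hx]; group
  have h2 : c⁻¹ * z * c ∈ Subgroup.zpowers x := by
    rw [← h.cx, Subgroup.mem_centralizer_iff]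
    intro w hw
    rw [Set.mem_singleton_iff] at hw
    rw [hw]
    exact h1.symm
  rcases mem_zpowers_three h.ox h2 with h3 | h3 | h3
  · left
    calc z = c * (c⁻¹ * z * c) * c⁻¹ := by group
      _ = 1 := by rw [h3]; group
  · right; left
    calc z = c * (c⁻¹ * z * c) * c⁻¹ := by group
      _ = y := by rw [h3, hc]
  · right; right
    calc z = c * (c⁻¹ * z * c) * c⁻¹ := by group
      _ = c * x⁻¹ * c⁻¹ := by rw [h3]
      _ = (c * x * c⁻¹)⁻¹ := by group
      _ = y⁻¹ := by rw [hc]

/-- FACT: an involution does not commute with an element of order three -/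
theorem not_comm_inv_three (h : Hyp G x t) {y s : G} (hy : orderOf y = 3) (hs : orderOf s = 2) :
    s * y ≠ y * s := by
  intro hcomm
  rcases cent_three h hy hcomm with h1 | h1 | h1
  · rw [h1, orderOf_one] at hs; omega
  · rw [h1, hy] at hs; omega
  · rw [h1, orderOf_inv, hy] at hs; omega

end Cfsg.Agent.Lib.Helper61_FT3_Fact
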