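import Mathlib
import Cfsg.Prelude.Def_Characters
import Cfsg.Agent.Lib.Helper80_CharBasic
import Cfsg.Agent.Lib.Helper1_FT3Defs

/-!
# S3331-S2 (helper61, for helper1's S3331-B market)

For an `x`-invariant `3'`-subgroup `B` (`x` of order 3, `C_G(x) = ⟨x⟩`), every element of `B x`
and of `B x⁻¹` has order 3: indeed `b x` is a `B`-conjugate of `x`.
-/

set_option autoImplicit false
set_option linter.unusedSectionVars false

namespace Cfsg.Agent.Lib.Helper61_FT3_S2

open Cfsg Cfsg.Agent.Lib.Helper80_CharBasic Cfsg.Agent.Lib.Helper1_FT3Defs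

variable {G : Type*} [Group G] [Finite G] {x t : G}

/-- conjugates have the same order -/
theorem orderOf_conj' (c y : G) : orderOf (c⁻¹ * y * c) = orderOf y := by
  have h := orderOf_injective (MulAut.conj c⁻¹ : G ≃* G).toMonoidHom (MulEquiv.injective _) y
  simpa [MulAut.conj_apply] using h

/-- the key lemma: for `y` of order 3 with `C_G(y) = ⟨y⟩` normalizing the `3'`-subgroup `B`,
every element of the coset `B y` is a `B`-conjugate of `y`. -/
theorem exists_conj_of_sig {y : G} (hy : orderOf y = 3)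
    (hc : Subgroup.centralizer ({y} : Set G) = Subgroup.zpowers y) (B : Subgroup G)
    (h3 : ¬ 3 ∣ Nat.card B) (hn : y ∈ Subgroup.normalizer (B : Set G)) (b : G) (hb : b ∈ B) :
    ∃ c ∈ B, b * y = c⁻¹ * y * c := by
  -- `C_B(y) = 1`
  have hcent : ∀ c ∈ B, c * y = y * c → c = 1 := by
    intro c hcB hcy
    have hmem : c ∈ Subgroup.zpowers y := by
      rw [← hc, Subgroup.mem_centralizer_iff]
      intro z hz
      rw [Set.mem_singleton_iff] at hz
      rw [hz]
      exact hcy.symm
    have hdvd : orderOf c ∣ 3 := by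
      rw [← hy]
      exact orderOf_dvd_of_mem_zpowers hmem
    rcases (Nat.dvd_prime Nat.prime_three).mp hdvd with h1 | h1
    · exact orderOf_eq_one_iff.mp h1
    · exfalso
      apply h3
      have : orderOf (⟨c, hcB⟩ : B) = 3 := by
        rw [← h1]
        exact Subgroup.orderOf_mk c hcB
      rw [← this]
      exact orderOf_dvd_natCard _
  have hnorm : ∀ c : G, c ∈ B → y * c * y⁻¹ ∈ B := fun c hcB =>
    (Subgroup.mem_normalizer_iff.mp hn c).mp hcB
  -- the map `c ↦ c⁻¹ (y c y⁻¹)` on `B`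
  let ψ : B → B := fun c => ⟨(c : G)⁻¹ * (y * c * y⁻¹), B.mul_mem (B.inv_mem c.2) (hnorm c c.2)⟩
  have hinj : Function.Injective ψ := by
    intro c c' hcc
    have h1 : (c : G)⁻¹ * (y * c * y⁻¹) = (c' : G)⁻¹ * (y * c' * y⁻¹) := congrArg Subtype.val hcc
    have h2 : ((c' : G) * (c : G)⁻¹) * y = y * ((c' : G) * (c : G)⁻¹) := by
      have h3 : (c : G)⁻¹ * y * c = (c' : G)⁻¹ * y * c' := by
        have := congrArg (fun z => z * y) h1
        simpa [mul_assoc] using this
      calc ((c' : G) * (c : G)⁻¹) * y = (c' : G) * ((c : G)⁻¹ * y * c) * (c : G)⁻¹ := by group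
        _ = (c' : G) * ((c' : G)⁻¹ * y * c') * (c : G)⁻¹ := by rw [h3]
        _ = y * ((c' : G) * (c : G)⁻¹) := by group
    have h4 := hcent _ (B.mul_mem c'.2 (B.inv_mem c.2)) h2
    apply Subtype.ext
    exact (mul_inv_eq_one.mp h4).symm
  have hsurj : Function.Surjective ψ := Finite.injective_iff_surjective.mp hinj
  obtain ⟨c, hcψ⟩ := hsurj ⟨b, hb⟩
  refine ⟨c, c.2, ?_⟩
  have h1 : b = (c : G)⁻¹ * (y * c * y⁻¹) := (congrArg Subtype.val hcψ).symm
  rw [h1]
  group

/-- PKG S2. Elements of `B x` and `B x⁻¹` have order 3 for an `x`-invariant `3'`-subgroup `B`. -/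
theorem order_mul_of_sig (h : Hyp G x t) (B : Subgroup G) (hB : IsSig x B) (b : G) (hb : b ∈ B) :
    orderOf (b * x) = 3 ∧ orderOf (b * x⁻¹) = 3 := by
  constructor
  · obtain ⟨c, -, hc⟩ := exists_conj_of_sig h.ox h.cx B hB.1 hB.2 b hb
    rw [hc, orderOf_conj', h.ox]
  · have hox : orderOf x⁻¹ = 3 := by rw [orderOf_inv, h.ox]
    have hcx : Subgroup.centralizer ({x⁻¹} : Set G) = Subgroup.zpowers x⁻¹ := by
      rw [Subgroup.zpowers_inv, ← h.cx]
      ext z
      simp only [Subgroup.mem_centralizer_iff, Set.mem_singleton_iff, forall_eq]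
      constructor
      · intro hz
        have : z * x⁻¹ = x⁻¹ * z := hz.symm
        calc x * z = x * (z * x⁻¹) * x := by group
          _ = x * (x⁻¹ * z) * x := by rw [this]
          _ = z * x := by group
      · intro hz
        calc x⁻¹ * z = x⁻¹ * (z * x) * x⁻¹ := by group
          _ = x⁻¹ * (x * z) * x⁻¹ := by rw [hz]
          _ = z * x⁻¹ := by group
    obtain ⟨c, -, hc⟩ := exists_conj_of_sig hox hcx B hB.1 (Subgroup.inv_mem _ hB.2) b hb
    rw [hc, orderOf_conj', hox]

end Cfsg.Agent.Lib.Helper61_FT3_S2
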