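import Mathlib
import Cfsg.Prelude.Def_Characters
import Cfsg.Agent.Lib.Helper80_CharBasic
import Cfsg.Agent.Lib.Helper1_FT3Defs
import Cfsg.Agent.Lib.Helper61_FT3_S2
import Cfsg.Agent.Lib.Helper61_FT3_Fact

/-!
# S3331-B4a (helper61, for helper1's S3331-B market)

An involution `s` has `s x` of order 3 iff it lies in an `x`-invariant four-group; each such
four-group contains exactly three of them and is determined by any one of them.
-/

set_option autoImplicit false
set_option linter.unusedSectionVars false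

namespace Cfsg.Agent.Lib.Helper61_FT3_B4a

open Cfsg Cfsg.Agent.Lib.Helper80_CharBasic Cfsg.Agent.Lib.Helper1_FT3Defs
  Cfsg.Agent.Lib.Helper61_FT3_Fact

variable {G : Type*} [Group G]

/-- the four-group `{1, a, b, ab}` generated by two commuting elements of square one -/
def fourGroup (a b : G) (ha : a * a = 1) (hb : b * b = 1) (hab : a * b = b * a) : Subgroup G where
  carrier := {1, a, b, a * b}
  one_mem' := by simp
  mul_mem' := by
    intro u w hu hw
    simp only [Set.mem_insert_iff, Set.mem_singleton_iff] at hu hw ⊢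
    have e1 : a * (a * b) = b := by rw [← mul_assoc, ha, one_mul]
    have e2 : b * (a * b) = a := by rw [hab, ← mul_assoc, hb, one_mul]
    have e3 : a * b * a = b := by rw [hab, mul_assoc, ha, mul_one]
    have e4 : a * b * b = a := by rw [mul_assoc, hb, mul_one]
    have e5 : a * b * (a * b) = 1 := by rw [← mul_assoc, e3, hb]
    rcases hu with rfl | rfl | rfl | rfl <;> rcases hw with rfl | rfl | rfl | rfl
    · left; exact one_mul _
    · right; left; exact one_mul _
    · right; right; left; exact one_mul _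
    · right; right; right; exact one_mul _
    · right; left; exact mul_one _
    · left; exact ha
    · right; right; right; rfl
    · right; right; left; exact e1
    · right; right; left; exact mul_one _
    · right; right; right; exact hab.symm
    · left; exact hb
    · right; left; exact e2
    · right; right; right; exact mul_one _
    · right; right; left; exact e3
    · right; left; exact e4
    · left; exact e5
  inv_mem' := by
    intro u hu
    simp only [Set.mem_insert_iff, Set.mem_singleton_iff] at hu ⊢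
    have i1 : a⁻¹ = a := inv_eq_of_mul_eq_one_left ha
    have i2 : b⁻¹ = b := inv_eq_of_mul_eq_one_left hb
    rcases hu with rfl | rfl | rfl | rfl
    · left; exact inv_one
    · right; left; exact i1
    · right; right; left; exact i2
    · right; right; right
      rw [mul_inv_rev, i1, i2, hab]

theorem mem_fourGroup {a b : G} {ha : a * a = 1} {hb : b * b = 1} {hab : a * b = b * a} {u : G} :
    u ∈ fourGroup a b ha hb hab ↔ u = 1 ∨ u = a ∨ u = b ∨ u = a * b := by
  show u ∈ ({1, a, b, a * b} : Set G) ↔ _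
  simp only [Set.mem_insert_iff, Set.mem_singleton_iff]

theorem card_fourGroup {a b : G} (ha : a * a = 1) (hb : b * b = 1) (hab : a * b = b * a)
    (ha1 : a ≠ 1) (hb1 : b ≠ 1) (hne : a ≠ b) : Nat.card (fourGroup a b ha hb hab) = 4 := by
  classical
  have hcar : ((fourGroup a b ha hb hab : Subgroup G) : Set G) =
      ((({1, a, b, a * b} : Finset G) : Finset G) : Set G) := by
    ext u
    simp only [SetLike.mem_coe, mem_fourGroup, Finset.coe_insert, Finset.coe_singleton,
      Set.mem_insert_iff, Set.mem_singleton_iff]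
  have h1 : Nat.card (fourGroup a b ha hb hab) =
      Nat.card ((fourGroup a b ha hb hab : Subgroup G) : Set G) := rfl
  rw [h1, hcar, _root_.Nat.card_coe_set_eq, Set.ncard_coe_finset]
  have n1 : a ≠ a * b := by
    intro h
    apply hb1
    have := congrArg (fun z => a⁻¹ * z) h
    simpa using this.symm
  have n2 : b ≠ a * b := by
    intro h
    apply ha1
    have := congrArg (fun z => z * b⁻¹) h
    simpa using this.symm
  have n3 : (1 : G) ≠ a * b := by
    intro h
    apply hne
    have h2 : a * (a * b) = a := by rw [← h, mul_one]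
    rw [← mul_assoc, ha, one_mul] at h2
    exact h2.symm
  rw [Finset.card_insert_of_notMem, Finset.card_insert_of_notMem, Finset.card_insert_of_notMem,
    Finset.card_singleton]
  · simp only [Finset.mem_singleton]; exact n2
  · simp only [Finset.mem_insert, Finset.mem_singleton, not_or]; exact ⟨hne, n1⟩
  · simp only [Finset.mem_insert, Finset.mem_singleton, not_or]
    exact ⟨fun h => ha1 h.symm, fun h => hb1 h.symm, n3⟩

variable [Finite G] {x t : G}

/-- an element of square one different from one has order two -/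
theorem orderOf_two_of_sq {s : G} (h2 : s * s = 1) (h1 : s ≠ 1) : orderOf s = 2 := by
  have : Fact (Nat.Prime 2) := ⟨Nat.prime_two⟩
  apply orderOf_eq_prime
  · rw [pow_two]; exact h2
  · exact h1

/-- the data attached to an involution `s` with `s x` of order three -/
theorem key_of_inv (h : Hyp G x t) {s : G} (hs : orderOf s = 2) (hsx : orderOf (s * x) = 3) :
    s * s = 1 ∧ (x * s * x⁻¹) * (x * s * x⁻¹) = 1 ∧ s * (x * s * x⁻¹) = (x * s * x⁻¹) * s ∧
      s ≠ 1 ∧ x * s * x⁻¹ ≠ 1 ∧ s ≠ x * s * x⁻¹ ∧
      x * (x * s * x⁻¹) * x⁻¹ = s * (x * s * x⁻¹) := by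
  have hss : s * s = 1 := by
    have := pow_orderOf_eq_one s
    rwa [hs, pow_two] at this
  have hs1 : s ≠ 1 := by
    intro h1
    rw [h1, orderOf_one] at hs
    omega
  have hx3 : x ^ 3 = 1 := by rw [← h.ox]; exact pow_orderOf_eq_one x
  have hxx : x * x = x⁻¹ := by
    have : x * x * x = 1 := by rw [← hx3, pow_three']
    exact eq_inv_of_mul_eq_one_left this
  have hxi : x⁻¹ * x⁻¹ = x := by
    have : x⁻¹ * x⁻¹ = (x * x)⁻¹ := by group
    rw [this, hxx, inv_inv]
  set p := x * s * x⁻¹ with hp
  set q := x⁻¹ * s * x with hq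
  have hpp : p * p = 1 := by
    calc p * p = x * (s * s) * x⁻¹ := by rw [hp]; group
      _ = 1 := by rw [hss]; group
  have hqq : q * q = 1 := by
    calc q * q = x⁻¹ * (s * s) * x := by rw [hq]; group
      _ = 1 := by rw [hss]; group
  have e1 : s * p * q = 1 := by
    have h3 : (s * x) ^ 3 = 1 := by rw [← hsx]; exact pow_orderOf_eq_one _
    calc s * p * q = s * (x * s * x⁻¹) * (x⁻¹ * s * x) := rfl
      _ = s * x * s * (x⁻¹ * x⁻¹) * s * x := by group
      _ = s * x * s * x * s * x := by rw [hxi]
      _ = (s * x) ^ 3 := by rw [pow_three']; simp only [mul_assoc]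
      _ = 1 := h3
  -- `s p = q`
  have hspq : s * p = q := by
    have : s * p = q⁻¹ := eq_inv_of_mul_eq_one_left e1
    rw [this]
    exact inv_eq_of_mul_eq_one_left hqq
  have hcomm : s * p = p * s := by
    -- `(s p)² = 1`
    have h4 : s * p * (s * p) = 1 := by rw [hspq]; exact hqq
    calc s * p = s * p * (s * p * (p * s)) := by
          have : s * p * (p * s) = 1 := by
            rw [mul_assoc, ← mul_assoc p p s, hpp, one_mul, hss]
          rw [this, mul_one]
      _ = (s * p * (s * p)) * (p * s) := by group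
      _ = p * s := by rw [h4, one_mul]
  have hp1 : p ≠ 1 := by
    intro h1
    apply hs1
    calc s = x⁻¹ * p * x := by rw [hp]; group
      _ = 1 := by rw [h1]; group
  have hne : s ≠ p := by
    intro h1
    apply not_comm_inv_three h h.ox hs
    calc s * x = (x * s * x⁻¹) * x := by rw [← hp, ← h1]
      _ = x * s := by group
  refine ⟨hss, hpp, hcomm, hs1, hp1, hne, ?_⟩
  calc x * p * x⁻¹ = (x * x) * s * (x⁻¹ * x⁻¹) := by rw [hp]; group
    _ = x⁻¹ * s * x := by rw [hxx, hxi]
    _ = s * p := hspq.symm

/-- PKG B4a (group theory). An involution `s` has `s x` of order 3 iff it lies in an `x`-invariant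
four-group; each such four-group contains exactly three of them, distinct four-groups meet in 1. -/
theorem card_inv_mul_three (h : Hyp G x t) :
    Nat.card {s : G // orderOf s = 2 ∧ orderOf (s * x) = 3} = 3 * Nat.card (fourSet x) := by
  classical
  -- the four-group of `s`
  let Vs : G → Subgroup G := fun s =>
    if hs : orderOf s = 2 ∧ orderOf (s * x) = 3 then
      fourGroup s (x * s * x⁻¹) (key_of_inv h hs.1 hs.2).1 (key_of_inv h hs.1 hs.2).2.1
        (key_of_inv h hs.1 hs.2).2.2.1
    else ⊥
  have hVs : ∀ s : G, ∀ hs : orderOf s = 2 ∧ orderOf (s * x) = 3,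
      Vs s = fourGroup s (x * s * x⁻¹) (key_of_inv h hs.1 hs.2).1 (key_of_inv h hs.1 hs.2).2.1
        (key_of_inv h hs.1 hs.2).2.2.1 := fun s hs => dif_pos hs
  -- (A)
  have hA : ∀ s : G, orderOf s = 2 ∧ orderOf (s * x) = 3 → Vs s ∈ fourSet x ∧ s ∈ Vs s := by
    intro s hs
    rw [hVs s hs]
    obtain ⟨hss, hpp, hcomm, hs1, hp1, hne, hxp⟩ := key_of_inv h hs.1 hs.2
    refine ⟨⟨card_fourGroup hss hpp hcomm hs1 hp1 hne, ?_, ?_⟩,
      mem_fourGroup.mpr (Or.inr (Or.inl rfl))⟩
    · intro v hv
      rcases mem_fourGroup.mp hv with rfl | rfl | rfl | rfl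
      · exact one_mul _
      · exact hss
      · exact hpp
      · calc s * (x * s * x⁻¹) * (s * (x * s * x⁻¹))
            = s * ((x * s * x⁻¹) * s) * (x * s * x⁻¹) := by group
          _ = s * (s * (x * s * x⁻¹)) * (x * s * x⁻¹) := by rw [hcomm]
          _ = (s * s) * ((x * s * x⁻¹) * (x * s * x⁻¹)) := by group
          _ = 1 := by rw [hss, hpp, one_mul]
    · apply Subgroup.mem_normalizer_fintype
      intro n hn
      rw [SetLike.mem_coe] at hn ⊢
      rcases mem_fourGroup.mp hn with rfl | rfl | rfl | rfl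
      · rw [mem_fourGroup]; left; group
      · rw [mem_fourGroup]; right; right; left; rfl
      · rw [mem_fourGroup]; right; right; right; exact hxp
      · rw [mem_fourGroup]; right; left
        calc x * (s * (x * s * x⁻¹)) * x⁻¹ = (x * s * x⁻¹) * (x * (x * s * x⁻¹) * x⁻¹) := by group
          _ = (x * s * x⁻¹) * (s * (x * s * x⁻¹)) := by rw [hxp]
          _ = ((x * s * x⁻¹) * s) * (x * s * x⁻¹) := by group
          _ = (s * (x * s * x⁻¹)) * (x * s * x⁻¹) := by rw [hcomm]
          _ = s * ((x * s * x⁻¹) * (x * s * x⁻¹)) := by group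
          _ = s := by rw [hpp, mul_one]
  -- (B) members of four-groups
  have hB : ∀ V ∈ fourSet x, ∀ s ∈ V, s ≠ 1 → orderOf s = 2 ∧ orderOf (s * x) = 3 := by
    intro V hV s hsV hs1
    refine ⟨orderOf_two_of_sq (hV.2.1 s hsV) hs1, ?_⟩
    have hsig : IsSig x V := ⟨by rw [hV.1]; norm_num, hV.2.2⟩
    exact (Cfsg.Agent.Lib.Helper61_FT3_S2.order_mul_of_sig h V hsig s hsV).1
  have hBuniq : ∀ V ∈ fourSet x, ∀ s ∈ V, s ≠ 1 → Vs s = V := by
    intro V hV s hsV hs1
    have hs := hB V hV s hsV hs1
    have hpV : x * s * x⁻¹ ∈ V := (Subgroup.mem_normalizer_iff.mp hV.2.2 s).mp hsV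
    have hle : Vs s ≤ V := by
      rw [hVs s hs]
      intro u hu
      rcases mem_fourGroup.mp hu with rfl | rfl | rfl | rfl
      · exact V.one_mem
      · exact hsV
      · exact hpV
      · exact V.mul_mem hsV hpV
    apply Subgroup.eq_of_le_of_card_ge hle
    rw [(hA s hs).1.1, hV.1]
  -- (C) three involutions in each four-group
  have hC : ∀ V : fourSet x, Nat.card {s : G // s ∈ V.1 ∧ s ≠ 1} = 3 := by
    intro V
    have h1 : Nat.card {s : G // s ∈ V.1 ∧ s ≠ 1} = Nat.card {v : V.1 // v ≠ 1} := by
      apply Nat.card_congr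
      exact
        { toFun := fun s => ⟨⟨s.1, s.2.1⟩, fun h => s.2.2 (congrArg Subtype.val h)⟩
          invFun := fun v => ⟨v.1.1, v.1.2, fun h => v.2 (Subtype.ext h)⟩
          left_inv := fun s => rfl
          right_inv := fun v => rfl }
    rw [h1]
    have : Fintype V.1 := Fintype.ofFinite _
    rw [Nat.card_eq_fintype_card, Fintype.card_subtype_compl, Fintype.card_subtype_eq,
      ← Nat.card_eq_fintype_card, V.2.1]
  -- the set of flags `(V, s)`
  let e₁ : {s : G // orderOf s = 2 ∧ orderOf (s * x) = 3} ≃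
      {p : Subgroup G × G // p.1 ∈ fourSet x ∧ p.2 ∈ p.1 ∧ p.2 ≠ 1} :=
    { toFun := fun s => ⟨(Vs s.1, s.1), (hA s.1 s.2).1, (hA s.1 s.2).2, by
        intro h1
        have h1' : s.1 = 1 := h1
        have := s.2.1
        rw [h1', orderOf_one] at this
        omega⟩
      invFun := fun p => ⟨p.1.2, hB p.1.1 p.2.1 p.1.2 p.2.2.1 p.2.2.2⟩
      left_inv := fun s => rfl
      right_inv := by
        rintro ⟨⟨V, s⟩, hV, hsV, hs1⟩
        apply Subtype.ext
        show (Vs s, s) = (V, s)
        rw [hBuniq V hV s hsV hs1] }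
  let e₂ : {p : Subgroup G × G // p.1 ∈ fourSet x ∧ p.2 ∈ p.1 ∧ p.2 ≠ 1} ≃
      Σ V : fourSet x, {s : G // s ∈ V.1 ∧ s ≠ 1} :=
    { toFun := fun p => ⟨⟨p.1.1, p.2.1⟩, ⟨p.1.2, p.2.2⟩⟩
      invFun := fun q => ⟨(q.1.1, q.2.1), q.1.2, q.2.2⟩
      left_inv := fun p => rfl
      right_inv := fun q => rfl }
  have : Fintype (fourSet x) := Fintype.ofFinite _
  rw [Nat.card_congr (e₁.trans e₂), Nat.card_sigma]
  simp only [hC, Finset.sum_const, Finset.card_univ, smul_eq_mul, Nat.card_eq_fintype_card]
  exact mul_comm _ _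

end Cfsg.Agent.Lib.Helper61_FT3_B4a
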