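import Mathlib
import Cfsg.Prelude.Def_Characters
import Cfsg.Agent.Lib.Helper80_CharBasic
import Cfsg.Agent.Lib.Helper1_FT3Defs
import Cfsg.Agent.Lib.Helper16_FT3_B4bAux
import Cfsg.Agent.Lib.Helper61_FT3_B4a

/-!
# S3331 package B4b (helper16): `3 w (d - a) = m (d² + 2d + (2d+1) a)`

`Helper16_FT3_B4bAux.count_formula` (class algebra at `(t, x, x)`) combined with package B4a
(`Helper61_FT3_B4a.card_inv_mul_three`).
-/

set_option autoImplicit false

namespace Cfsg.Agent.Lib.Helper16_FT3_B4b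

open Cfsg Cfsg.Agent.Lib.Helper80_CharBasic Cfsg.Agent.Lib.Helper1_FT3Defs

open scoped ComplexConjugate

variable {G : Type*} [Group G] [Finite G] {x t : G}

/-- PKG B4b (class algebra). `3 w D = m (d² + 2d + (2d+1) a)`. -/
theorem w_formula (h : Hyp G x t) (D : Data G x t) :
    (3 : ℤ) * (Nat.card (fourSet x) : ℤ) * ((D.d : ℤ) - D.a) =
      D.m * ((D.d : ℤ) ^ 2 + 2 * D.d + (2 * D.d + 1) * D.a) := by
  have h1 := Cfsg.Agent.Lib.Helper16_FT3_B4bAux.count_formula h D
  rw [Cfsg.Agent.Lib.Helper61_FT3_B4a.card_inv_mul_three h] at h1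
  push_cast at h1
  exact h1

end Cfsg.Agent.Lib.Helper16_FT3_B4b
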