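import Mathlib
import Cfsg.Prelude.Def_Characters
import Cfsg.Agent.Lib.Helper80_CharBasic
import Cfsg.Agent.Lib.Helper1_FT3Defs
import Cfsg.Agent.S0840
import Cfsg.Agent.Lib.Helper30_SelfCent3
import Cfsg.Agent.Lib.Helper30_KleinCount

/-!
# S3331 package B5b (helper16): `3 |U| = m² (d² + d + 1)`

Class-algebra count at `(x, x, x)`: the pairs `(p, q)` of conjugates of `x` with `p q = x`
biject with `USet x` via `v ↦ ((v x)⁻¹, v x⁻¹)`.
-/

set_option autoImplicit false

namespace Cfsg.Agent.Lib.Helper16_FT3_B5b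

open Cfsg Cfsg.Agent.Lib.Helper80_CharBasic Cfsg.Agent.Lib.Helper1_FT3Defs

open scoped ComplexConjugate

variable {G : Type*} [Group G] [Finite G] {x t : G}

/-- conjugates of `x` are exactly the elements of order three -/
theorem isConj_iff_order (h : Hyp G x t) (p : G) : IsConj x p ↔ orderOf p = 3 := by
  constructor
  · intro hp
    obtain ⟨c, hc⟩ := isConj_iff.mp hp
    have := (MulAut.conj c).orderOf_eq x
    rw [MulAut.conj_apply, hc, h.ox] at this
    exact this
  · intro hp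
    exact Cfsg.Agent.Lib.Helper30_SelfCent3.isConj_of_order_three h.perf h.ox h.cx hp

/-- the bijection between the pairs and `USet x` -/
noncomputable def pairsEquiv (h : Hyp G x t) :
    {p : G × G // IsConj x p.1 ∧ IsConj x p.2 ∧ p.1 * p.2 = x} ≃ USet x where
  toFun p := ⟨p.1.2 * x, by
    obtain ⟨⟨p, q⟩, hp, hq, hpq⟩ := p
    simp only at hp hq hpq ⊢
    have hx3 : x ^ 3 = 1 := by rw [← h.ox]; exact pow_orderOf_eq_one x
    have hxx : x * x * x = 1 := by rw [← hx3, pow_succ, pow_two]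
    have hp3 := (isConj_iff_order h p).1 hp
    have hq3 := (isConj_iff_order h q).1 hq
    show orderOf (q * x * x) = 3 ∧ orderOf (q * x * x⁻¹) = 3
    constructor
    · -- q x x = p⁻¹
      have h1 : q * x * x = p⁻¹ := by
        have hxinv : x⁻¹ = x * x := inv_eq_of_mul_eq_one_right (by rw [← mul_assoc]; exact hxx)
        have : p = x * q⁻¹ := by rw [← hpq]; group
        rw [this, mul_inv_rev, inv_inv, hxinv, mul_assoc]
      rw [h1, orderOf_inv, hp3]
    · have h1 : q * x * x⁻¹ = q := by group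
      rw [h1, hq3]⟩
  invFun v := ⟨((v.1 * x)⁻¹, v.1 * x⁻¹), by
    obtain ⟨v, hv1, hv2⟩ := v
    simp only
    have hx3 : x ^ 3 = 1 := by rw [← h.ox]; exact pow_orderOf_eq_one x
    have hxx : x * x * x = 1 := by rw [← hx3, pow_succ, pow_two]
    refine ⟨(isConj_iff_order h _).2 (by rw [orderOf_inv]; exact hv1),
      (isConj_iff_order h _).2 hv2, ?_⟩
    have hxinv : x⁻¹ = x * x := inv_eq_of_mul_eq_one_right (by rw [← mul_assoc]; exact hxx)
    calc (v * x)⁻¹ * (v * x⁻¹) = x⁻¹ * x⁻¹ := by group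
      _ = x := by
        rw [hxinv]
        calc x * x * (x * x) = (x * x * x) * x := by group
          _ = x := by rw [hxx, one_mul]⟩
  left_inv p := by
    obtain ⟨⟨p, q⟩, hp, hq, hpq⟩ := p
    simp only at hp hq hpq
    apply Subtype.ext
    show ((q * x * x)⁻¹, q * x * x⁻¹) = (p, q)
    have hx3 : x ^ 3 = 1 := by rw [← h.ox]; exact pow_orderOf_eq_one x
    have hxx : x * x * x = 1 := by rw [← hx3, pow_succ, pow_two]
    have hxinv : x⁻¹ = x * x := inv_eq_of_mul_eq_one_right (by rw [← mul_assoc]; exact hxx)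
    have h1 : q * x * x = p⁻¹ := by
      have : p = x * q⁻¹ := by rw [← hpq]; group
      rw [this, mul_inv_rev, inv_inv, hxinv, mul_assoc]
    have h2 : q * x * x⁻¹ = q := by group
    rw [h1, h2, inv_inv]
  right_inv v := by
    apply Subtype.ext
    show v.1 * x⁻¹ * x = v.1
    group

theorem card_USet (h : Hyp G x t) (D : Data G x t) :
    3 * Nat.card (USet x) = D.m ^ 2 * (D.d ^ 2 + D.d + 1) := by
  classical
  have hcard := Nat.card_congr (pairsEquiv h)
  have hS := Cfsg.Agent.S0840.result x x x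
  -- the character sum
  have h1 : (fun χ : IrrCharacter G =>
      (χ : G → ℂ) x * (χ : G → ℂ) x * conj ((χ : G → ℂ) x) / (χ : G → ℂ) 1) =
      fun χ : IrrCharacter G =>
        ((χ : G → ℂ) x * (χ : G → ℂ) x / (χ : G → ℂ) 1) * conj ((χ : G → ℂ) x) := by
    funext χ; ring
  rw [h1, D.expand (fun χ => (χ : G → ℂ) x * (χ : G → ℂ) x / (χ : G → ℂ) 1), D.θ_one, D.φ_one,
    D.θ_x, D.φ_x] at hS
  have hone : ∀ g : G, ((oneIrr G : IrrCharacter G) : G → ℂ) g = 1 := fun g => rfl
  rw [hone, hone] at hS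
  -- the class size
  have hcl := Cfsg.Agent.Lib.Helper30_KleinCount.card_class_mul x
  have hcx : Nat.card (Subgroup.centralizer ({x} : Set G)) = 3 := by
    rw [h.cx, Nat.card_zpowers, h.ox]
  rw [hcx, D.card_G] at hcl
  have hcl' : Nat.card {w : G // IsConj x w} = D.d * (D.d + 1) * D.m ^ 2 := by
    have : Nat.card {w : G // IsConj x w} * 3 = (D.d * (D.d + 1) * D.m ^ 2) * 3 := by
      rw [hcl]; ring
    exact Nat.eq_of_mul_eq_mul_right (by norm_num) this
  rw [hcl', D.card_G, hcard] at hS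
  have hd0 : (D.d : ℂ) ≠ 0 := by
    have := D.d_ge
    exact_mod_cast (by omega : D.d ≠ 0)
  have hd1 : (D.d : ℂ) + 1 ≠ 0 := by
    exact_mod_cast (Nat.succ_ne_zero D.d)
  have hm0 : (D.m : ℂ) ≠ 0 := by exact_mod_cast D.m_pos.ne'
  have hfin : ((3 * Nat.card (USet x) : ℕ) : ℂ) = ((D.m ^ 2 * (D.d ^ 2 + D.d + 1) : ℕ) : ℂ) := by
    push_cast
    push_cast at hS
    rw [hS]
    field_simp
    ring
  exact_mod_cast hfin

end Cfsg.Agent.Lib.Helper16_FT3_B5b
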