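import Mathlib
import Cfsg.Agent.Lib.Helper6_FT3Defs

/-!
# S3331 package EVSUM (helper16): the sum over the even maximal signalizers is at most `EV`
-/

set_option autoImplicit false

namespace Cfsg.Agent.Lib.Helper16_FT3_EVSUM

open Cfsg Cfsg.Agent.Lib.Helper6_FT3Defs
open scoped ComplexConjugate

universe u

variable {G : Type u} [Group G] [Finite G] {X : Subgroup G}

omit [Finite G] in
/-- a Klein four-subgroup contains an involution -/
theorem exists_involution (V : Subgroup G) (hV : IsKleinFour V) :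
    ∃ s : G, s ∈ V ∧ orderOf s = 2 := by
  have hcard : Nat.card V = 4 := hV.card_four
  have : Finite V := Nat.finite_of_card_ne_zero (by rw [hcard]; norm_num)
  have hnt : Nontrivial V := by
    rw [← Finite.one_lt_card_iff_nontrivial, hcard]; norm_num
  obtain ⟨v, hv⟩ := exists_ne (1 : V)
  refine ⟨(v : G), v.2, ?_⟩
  have : Fact (Nat.Prime 2) := ⟨Nat.prime_two⟩
  apply orderOf_eq_prime
  · have h1 : v * v = 1 := IsKleinFour.mul_self v
    have h2 := congrArg (fun y : V => (y : G)) h1
    simp only [Subgroup.coe_mul, Subgroup.coe_one] at h2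
    rw [pow_two]; exact h2
  · intro h1
    exact hv (Subtype.ext h1)

omit [Finite G] in
/-- the centralizer of a conjugate -/
theorem centralizer_conj (g s : G) :
    Subgroup.centralizer ({g * s * g⁻¹} : Set G) = cj g (Subgroup.centralizer ({s} : Set G)) := by
  ext y
  simp only [Subgroup.mem_centralizer_singleton_iff, Subgroup.mem_map, MulEquiv.coe_toMonoidHom,
    MulAut.conj_apply]
  constructor
  · intro hy
    refine ⟨g⁻¹ * y * g, ?_, by group⟩
    have h1 : g⁻¹ * (g * s * g⁻¹ * y) * g = g⁻¹ * (y * (g * s * g⁻¹)) * g := by rw [hy]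
    symm
    calc s * (g⁻¹ * y * g) = g⁻¹ * (g * s * g⁻¹ * y) * g := by group
      _ = g⁻¹ * (y * (g * s * g⁻¹)) * g := h1
      _ = g⁻¹ * y * g * s := by group
  · rintro ⟨z, hz, rfl⟩
    symm
    calc g * s * g⁻¹ * (g * z * g⁻¹) = g * (s * z) * g⁻¹ := by group
      _ = g * (z * s) * g⁻¹ := by rw [hz]
      _ = g * z * g⁻¹ * (g * s * g⁻¹) := by group

/-- an arithmetic step -/
theorem arith_step (n1 n2 μ w a b : ℕ) (h1 : n1 ≤ μ) (h2 : μ ≤ w) (h3 : n1 + n2 ≤ w) (hab : b ≤ a) :
    n1 * a + n2 * b ≤ μ * a + (w - μ) * b := by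
  obtain ⟨k, rfl⟩ := Nat.exists_eq_add_of_le h1
  obtain ⟨j, rfl⟩ := Nat.exists_eq_add_of_le h2
  have h4 : n2 ≤ j + k := by omega
  have h5 : n1 + k + j - (n1 + k) = j := by omega
  rw [h5]
  have h6 : n2 * b ≤ (j + k) * b := Nat.mul_le_mul_right b h4
  have h7 : k * b ≤ k * a := Nat.mul_le_mul_left k hab
  nlinarith

theorem even_sum (h : Hyp G X) (m e : ℕ)
    (hcent : ∀ t : G, orderOf t = 2 → Nat.card (Subgroup.centralizer ({t} : Set G)) = 4 * m * e)
    (hconj : ∀ s t : G, orderOf s = 2 → orderOf t = 2 → IsConj s t)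
    (hmod : ∀ A : Subgroup G, IsSig X A → Nat.card A % 3 = 1)
    (hc3 : ∀ g : G, g ≠ 1 → ¬ 3 ∣ orderOf g →
      ¬ 3 ∣ Nat.card (Subgroup.centralizer ({g} : Set G)))
    (hG1 : ∀ A : Subgroup G, Nat.card {B : Subgroup G // (∃ g : G, B = cj g A) ∧
      X ≤ Subgroup.normalizer (B : Set G)} ≤ 2)
    (hEven : ∀ A : Subgroup G, IsMaxSig X A → 2 ∣ Nat.card A →
      ∃ V ∈ fourGroups X, A = Subgroup.centralizer (V : Set G)) :
    ∑ᶠ A ∈ evenMembers X, (Nat.card A - 1) ≤ EV m e (Nat.card (fourGroups X)) := by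
  classical
  have hfin : (evenMembers X).Finite := Set.toFinite _
  rw [finsum_mem_eq_finite_toFinset_sum _ hfin]
  obtain ⟨E, hEdef⟩ : ∃ E : Finset (Subgroup G), E = hfin.toFinset := ⟨_, rfl⟩
  rw [← hEdef]
  obtain ⟨q, hq⟩ : ∃ q : ℕ, q = m * e := ⟨_, rfl⟩
  have hc4 : 4 * m * e = 4 * q := by rw [hq]; ring
  have hc2 : 2 * m * e = 2 * q := by rw [hq]; ring
  have hmem : ∀ A ∈ E, IsMaxSig X A ∧ 2 ∣ Nat.card A := by
    intro A hA
    rw [hEdef] at hA
    exact hfin.mem_toFinset.mp hA
  -- the four-group and the involution attached to a member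
  have hVs : ∀ A ∈ E, ∃ V ∈ fourGroups X, A = Subgroup.centralizer (V : Set G) ∧
      ∃ s : G, s ∈ V ∧ orderOf s = 2 := by
    intro A hA
    obtain ⟨V, hV, hAV⟩ := hEven A (hmem A hA).1 (hmem A hA).2
    exact ⟨V, hV, hAV, exists_involution V hV.1⟩
  -- numerical facts
  have hfacts : ∀ A ∈ E, Nat.card A ∣ 4 * q ∧ Nat.card A % 3 = 1 ∧ ¬ 3 ∣ 4 * q ∧
      (Nat.card A = 4 * q → ∃ s : G, orderOf s = 2 ∧ A = Subgroup.centralizer ({s} : Set G)) := by
    intro A hA
    obtain ⟨V, hV, hAV, s, hsV, hs2⟩ := hVs A hA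
    have hle : A ≤ Subgroup.centralizer ({s} : Set G) := by
      rw [hAV]
      apply Subgroup.centralizer_le
      intro y hy
      rw [Set.mem_singleton_iff] at hy
      rw [hy]; exact hsV
    have hcs := hcent s hs2
    rw [hc4] at hcs
    refine ⟨?_, hmod A (hmem A hA).1.1, ?_, ?_⟩
    · rw [← hcs]; exact Subgroup.card_dvd_of_le hle
    · rw [← hcs]
      apply hc3 s
      · intro h1; rw [h1, orderOf_one] at hs2; omega
      · rw [hs2]; omega
    · intro hcard
      refine ⟨s, hs2, ?_⟩
      apply Subgroup.eq_of_le_of_card_ge hle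
      rw [hcs, hcard]
  -- `|E| ≤ w`
  have hEw : E.card ≤ Nat.card (fourGroups X) := by
    have hch : ∀ A : E, ∃ V : fourGroups X, (A : Subgroup G) =
        Subgroup.centralizer ((V : Subgroup G) : Set G) := by
      intro A
      obtain ⟨V, hV, hAV, -⟩ := hVs A.1 A.2
      exact ⟨⟨V, hV⟩, hAV⟩
    choose f hf using hch
    have hinj : Function.Injective f := by
      intro A B hAB
      apply Subtype.ext
      rw [hf A, hf B, hAB]
    have := Nat.card_le_card_of_injective f hinj
    rwa [Nat.card_eq_fintype_card, Fintype.card_coe] at this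
  unfold EV
  rw [hc4, hc2, ← hq]
  split_ifs with hc
  · -- `c ≡ 2 (mod 3)`: every member has order at most `c / 2`
    have hbound : ∀ A ∈ E, Nat.card A - 1 ≤ 2 * q - 1 := by
      intro A hA
      obtain ⟨⟨ι, hι⟩, hA3, -, -⟩ := hfacts A hA
      have hι2 : 2 ≤ ι := by
        rcases Nat.lt_or_ge ι 2 with hlt | hge
        · exfalso
          interval_cases ι
          · rw [mul_zero] at hι; rw [hι] at hc; omega
          · rw [mul_one] at hι; rw [hι] at hc; omega
        · exact hge
      have : Nat.card A * 2 ≤ 4 * q := by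
        rw [hι]; exact Nat.mul_le_mul_left _ hι2
      omega
    calc ∑ A ∈ E, (Nat.card A - 1) ≤ E.card • (2 * q - 1) := Finset.sum_le_card_nsmul _ _ _ hbound
      _ = E.card * (2 * q - 1) := smul_eq_mul _ _
      _ ≤ Nat.card (fourGroups X) * (2 * q - 1) := Nat.mul_le_mul_right _ hEw
  · -- `c ≢ 2 (mod 3)`
    obtain ⟨S1, hS1⟩ : ∃ S1 : Finset (Subgroup G), S1 = E.filter (fun A : Subgroup G => Nat.card A = 4 * q) :=
      ⟨_, rfl⟩
    obtain ⟨S2, hS2⟩ : ∃ S2 : Finset (Subgroup G), S2 = E.filter (fun A : Subgroup G => ¬ Nat.card A = 4 * q) :=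
      ⟨_, rfl⟩
    have hsplit : ∑ A ∈ E, (Nat.card A - 1) =
        ∑ A ∈ S1, (Nat.card A - 1) + ∑ A ∈ S2, (Nat.card A - 1) := by
      rw [hS1, hS2]
      exact (Finset.sum_filter_add_sum_filter_not E _ _).symm
    have hcards : S1.card + S2.card = E.card := by
      rw [hS1, hS2]
      exact Finset.card_filter_add_card_filter_not _
    have hsum1 : ∑ A ∈ S1, (Nat.card A - 1) ≤ S1.card * (4 * q - 1) := by
      calc ∑ A ∈ S1, (Nat.card A - 1) ≤ S1.card • (4 * q - 1) := by
            apply Finset.sum_le_card_nsmul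
            intro A hA
            rw [hS1, Finset.mem_filter] at hA
            rw [hA.2]
        _ = S1.card * (4 * q - 1) := smul_eq_mul _ _
    have hsum2 : ∑ A ∈ S2, (Nat.card A - 1) ≤ S2.card * (q - 1) := by
      calc ∑ A ∈ S2, (Nat.card A - 1) ≤ S2.card • (q - 1) := by
            apply Finset.sum_le_card_nsmul
            intro A hA
            rw [hS2, Finset.mem_filter] at hA
            obtain ⟨⟨ι, hι⟩, hA3, hq3, -⟩ := hfacts A hA.1
            have hι4 : 4 ≤ ι := by
              rcases Nat.lt_or_ge ι 4 with hlt | hge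
              · exfalso
                interval_cases ι
                · rw [mul_zero] at hι; rw [hι] at hq3; omega
                · rw [mul_one] at hι; exact hA.2 hι.symm
                · have : (4 * q) % 3 = 2 := by rw [hι]; omega
                  exact hc this
                · exact hq3 ⟨Nat.card A, by rw [hι]; ring⟩
              · exact hge
            have : Nat.card A * 4 ≤ 4 * q := by
              rw [hι]; exact Nat.mul_le_mul_left _ hι4
            omega
        _ = S2.card * (q - 1) := smul_eq_mul _ _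
    -- at most two members are involution centralizers
    have hS1le : S1.card ≤ 2 := by
      rcases S1.eq_empty_or_nonempty with hemp | ⟨A1, hA1⟩
      · rw [hemp]; simp
      · have hA1' := hA1
        rw [hS1, Finset.mem_filter] at hA1'
        obtain ⟨s1, hs1, hA1s⟩ := (hfacts A1 hA1'.1).2.2.2 hA1'.2
        have hmap : ∀ A : S1, (∃ g : G, (A : Subgroup G) = cj g A1) ∧
            X ≤ Subgroup.normalizer (((A : Subgroup G)) : Set G) := by
          rintro ⟨A, hA'⟩
          rw [hS1, Finset.mem_filter] at hA'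
          simp only
          obtain ⟨s, hs, hAs⟩ := (hfacts A hA'.1).2.2.2 hA'.2
          refine ⟨?_, (hmem A hA'.1).1.1.1⟩
          obtain ⟨g, hg⟩ := isConj_iff.mp (hconj s1 s hs1 hs)
          refine ⟨g, ?_⟩
          rw [hAs, hA1s, ← hg, centralizer_conj]
        let f : S1 → {B : Subgroup G // (∃ g : G, B = cj g A1) ∧
            X ≤ Subgroup.normalizer (B : Set G)} := fun A => ⟨A.1, hmap A⟩
        have hinj : Function.Injective f := by
          intro A B hAB
          apply Subtype.ext
          exact congrArg (fun y => y.1) hAB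
        have h1 := Nat.card_le_card_of_injective f hinj
        rw [Nat.card_eq_fintype_card, Fintype.card_coe] at h1
        exact h1.trans (hG1 A1)
    have hS1w : S1.card ≤ min 2 (Nat.card (fourGroups X)) := by
      apply le_min hS1le
      have : S1.card ≤ E.card := by rw [← hcards]; omega
      exact this.trans hEw
    rw [hsplit]
    calc ∑ A ∈ S1, (Nat.card A - 1) + ∑ A ∈ S2, (Nat.card A - 1)
        ≤ S1.card * (4 * q - 1) + S2.card * (q - 1) := Nat.add_le_add hsum1 hsum2
      _ ≤ min 2 (Nat.card (fourGroups X)) * (4 * q - 1) +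
          (Nat.card (fourGroups X) - min 2 (Nat.card (fourGroups X))) * (q - 1) := by
        apply arith_step _ _ _ _ _ _ hS1w (min_le_right _ _)
        · rw [hcards]; exact hEw
        · omega

end Cfsg.Agent.Lib.Helper16_FT3_EVSUM
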