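import Mathlib
import Cfsg.Agent.Lib.Helper6_FT3Defs
import Cfsg.Agent.S4496

/-!
# S3331-QUOT (architect helper6; formalized by helper5)

The hypothesis `Hyp G X` (`X` of order 3, self-centralizing) passes to the quotient by a normal
subgroup of order prime to 3 (landed S4496, part (b)).
-/

set_option autoImplicit false

open Cfsg Cfsg.Agent.Lib.Helper6_FT3Defs

namespace Cfsg.Agent.Lib.Helper5_FT3_QUOT

universe u

/-- the centralizer of a cyclic subgroup is the centralizer of its generator -/
theorem centralizer_zpowers_eq {H : Type*} [Group H] (g : H) :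
    Subgroup.centralizer ((Subgroup.zpowers g : Subgroup H) : Set H) =
      Subgroup.centralizer ({g} : Set H) := by
  apply le_antisymm
  · apply Subgroup.centralizer_le
    intro y hy
    rw [Set.mem_singleton_iff] at hy
    subst hy
    exact Subgroup.mem_zpowers _
  · intro h hh
    rw [Subgroup.mem_centralizer_iff] at hh ⊢
    intro w hw
    obtain ⟨k, rfl⟩ := hw
    have hc : Commute g h := hh g (Set.mem_singleton g)
    exact (hc.zpow_left k).eq

/-- a generator of `X` -/
theorem exists_gen {G : Type u} [Group G] [Finite G] {X : Subgroup G} (h : Hyp G X) :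
    ∃ x : G, orderOf x = 3 ∧ X = Subgroup.zpowers x ∧
      Subgroup.centralizer ({x} : Set G) = Subgroup.zpowers x := by
  have : Fact (Nat.Prime 3) := ⟨Nat.prime_three⟩
  obtain ⟨hcard, hcent⟩ := h
  have hnt : Nontrivial X := by
    rw [← Finite.one_lt_card_iff_nontrivial, hcard]
    norm_num
  obtain ⟨x, hx⟩ := exists_ne (1 : X)
  have htop : Subgroup.zpowers x = ⊤ := zpowers_eq_top_of_prime_card hcard hx
  have hX : X = Subgroup.zpowers (x : G) := by
    have h1 : (Subgroup.zpowers x).map X.subtype = Subgroup.zpowers (x : G) := by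
      rw [MonoidHom.map_zpowers]
      rfl
    rw [← h1, htop, ← MonoidHom.range_eq_map, Subgroup.range_subtype]
  refine ⟨(x : G), ?_, hX, ?_⟩
  · rw [← Nat.card_zpowers, ← hX, hcard]
  · rw [← centralizer_zpowers_eq, ← hX, hcent]

theorem hyp_quotient {G : Type u} [Group G] [Finite G] {X : Subgroup G} (h : Hyp G X)
    (K : Subgroup G) [K.Normal] (hK : ¬ 3 ∣ Nat.card K) :
    Hyp (G ⧸ K) (X.map (QuotientGroup.mk' K)) := by
  obtain ⟨x, hx3, hX, hC⟩ := exists_gen h
  obtain ⟨-, h2⟩ := Cfsg.Agent.S4496.result 3 Nat.prime_three x hx3 hC K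
  obtain ⟨-, -, ho, hc⟩ := h2 hK
  have hmap : X.map (QuotientGroup.mk' K) =
      Subgroup.zpowers (QuotientGroup.mk x : G ⧸ K) := by
    rw [hX, MonoidHom.map_zpowers]
    rfl
  constructor
  · rw [hmap, Nat.card_zpowers, ho]
  · rw [hmap, centralizer_zpowers_eq, hc]

end Cfsg.Agent.Lib.Helper5_FT3_QUOT
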