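import Mathlib
import Cfsg.Agent.Lib.Helper6_FT3Defs
import Cfsg.Agent.Lib.Helper5_FT3_QUOT

/-!
# S3331 package HIGW (helper16): Higman's lemma for `A5`, the induction wrapper

Induction on `|N|`: pass to `G ⧸ Z`, `Z` the image in `G` of the centre of `N`.
-/

set_option autoImplicit false

namespace Cfsg.Agent.Lib.Helper16_FT3_HIGW

open Cfsg Cfsg.Agent.Lib.Helper6_FT3Defs
open scoped ComplexConjugate

universe u

variable {G : Type u} [Group G] [Finite G] {X : Subgroup G}

/-- [L] Induction on |N| (all G in universe u). -/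
theorem higman_A5
    (hEng : ∀ (G : Type u) [Group G] [Finite G] (X N : Subgroup G) [N.Normal], Hyp G X → IsPGroup 2 N →
      Nonempty (G ⧸ N ≃* alternatingGroup (Fin 5)) →
      ∃ T : Subgroup G, N ≤ T ∧ Nat.card T = 4 * Nat.card N ∧ (∀ r ∈ T, r ^ 2 ∈ N) ∧
        ∀ w ∈ T, ∀ u ∈ T, Commute w (u * w * u⁻¹))
    (hA : ∀ (G : Type u) [Group G] [Finite G] (X N : Subgroup G) [N.Normal], Hyp G X → IsPGroup 2 N →
      Nonempty (G ⧸ N ≃* alternatingGroup (Fin 5)) → ∀ T : Subgroup G, N ≤ T → (∃ r ∈ T, r ∉ N) →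
      (∀ w ∈ T, ∀ u ∈ T, Commute w (u * w * u⁻¹)) →
      (∀ a ∈ N, ∀ b ∈ N, ∀ c ∈ N, Commute (a * b * a⁻¹ * b⁻¹) c) →
      (∀ a ∈ N, ∀ c ∈ N, Commute (a ^ 2) c) → ∀ a ∈ N, ∀ b ∈ N, Commute a b)
    (hB : ∀ (G : Type u) [Group G] [Finite G] (X N : Subgroup G) [N.Normal], Hyp G X → IsPGroup 2 N →
      Nonempty (G ⧸ N ≃* alternatingGroup (Fin 5)) → ∀ T : Subgroup G, N ≤ T → (∃ r ∈ T, r ∉ N) →
      (∀ r ∈ T, r ^ 2 ∈ N) → (∀ w ∈ T, ∀ u ∈ T, Commute w (u * w * u⁻¹)) →
      (∀ a ∈ N, ∀ b ∈ N, Commute a b) → ∀ a ∈ N, a ^ 2 = 1)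
    (h : Hyp G X) (N : Subgroup G) [N.Normal] (hN2 : IsPGroup 2 N)
    (hN : Nonempty (G ⧸ N ≃* alternatingGroup (Fin 5))) :
    (∀ a ∈ N, ∀ b ∈ N, Commute a b) ∧ ∀ a ∈ N, a ^ 2 = 1 := by
  have key : ∀ n : ℕ, ∀ (G : Type u) [Group G] [Finite G] (X N : Subgroup G) [N.Normal],
      Nat.card N = n → Hyp G X → IsPGroup 2 N →
      Nonempty (G ⧸ N ≃* alternatingGroup (Fin 5)) →
      (∀ a ∈ N, ∀ b ∈ N, Commute a b) ∧ ∀ a ∈ N, a ^ 2 = 1 := by
    intro n
    induction n using Nat.strong_induction_on with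
    | _ n ih =>
      intro G _ _ X N _ hn h hN2 hN
      by_cases hbot : N = ⊥
      · subst hbot
        refine ⟨fun a ha b hb => ?_, fun a ha => ?_⟩
        · rw [Subgroup.mem_bot] at ha hb
          rw [ha, hb]
        · rw [Subgroup.mem_bot] at ha
          rw [ha, one_pow]
      -- the image of the centre of `N`
      have hchar : (Subgroup.center N).Characteristic := Subgroup.centerCharacteristic
      have hZn : ((Subgroup.center N).map N.subtype).Normal :=
        ConjAct.normal_of_characteristic_of_normal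
      obtain ⟨Z, hZdef⟩ : ∃ Z : Subgroup G, Z = (Subgroup.center N).map N.subtype := ⟨_, rfl⟩
      rw [← hZdef] at hZn
      have hZN : Z ≤ N := by
        rw [hZdef]
        intro z hz
        obtain ⟨z', -, rfl⟩ := hz
        exact z'.2
      have hZcomm : ∀ z ∈ Z, ∀ c ∈ N, Commute z c := by
        intro z hz c hc
        rw [hZdef] at hz
        obtain ⟨z', hz', rfl⟩ := hz
        have := Subgroup.mem_center_iff.mp hz' ⟨c, hc⟩
        have h2 := congrArg (fun y : N => (y : G)) this
        simp only [Subgroup.coe_mul] at h2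
        exact h2.symm
      -- `Z` is nontrivial
      have hNnt : Nontrivial N := (Subgroup.nontrivial_iff_ne_bot N).mpr hbot
      have hcnt : Nontrivial (Subgroup.center N) := hN2.center_nontrivial
      have hZcard : Nat.card Z = Nat.card (Subgroup.center N) := by
        rw [hZdef]
        exact Nat.card_congr
          ((Subgroup.center N).equivMapOfInjective N.subtype N.subtype_injective).symm.toEquiv
      have hZ2 : 2 ≤ Nat.card Z := by
        rw [hZcard]
        exact Finite.one_lt_card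
      -- `3 ∤ |Z|`
      obtain ⟨k, hk⟩ := (IsPGroup.iff_card).mp hN2
      have hZ3 : ¬ 3 ∣ Nat.card Z := by
        intro h3
        have h1 : Nat.card Z ∣ Nat.card N := Subgroup.card_dvd_of_le hZN
        have h2 : 3 ∣ 2 ^ k := by rw [← hk]; exact h3.trans h1
        have := (Nat.Prime.dvd_of_dvd_pow Nat.prime_three h2)
        omega
      -- the quotient
      have hyp' := Cfsg.Agent.Lib.Helper5_FT3_QUOT.hyp_quotient h Z hZ3
      obtain ⟨N', hN'def⟩ : ∃ N' : Subgroup (G ⧸ Z), N' = N.map (QuotientGroup.mk' Z) := ⟨_, rfl⟩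
      have hN'n : N'.Normal := by
        rw [hN'def]
        exact Subgroup.Normal.map inferInstance _ (QuotientGroup.mk'_surjective Z)
      have hN'2 : IsPGroup 2 N' := by
        rw [hN'def]
        exact hN2.map _
      have hiso : Nonempty ((G ⧸ Z) ⧸ N' ≃* alternatingGroup (Fin 5)) := by
        obtain ⟨e⟩ := hN
        subst hN'def
        exact ⟨(QuotientGroup.quotientQuotientEquivQuotient Z N hZN).trans e⟩
      -- `|N'| |Z| = |N|`
      have hcardN' : Nat.card N' * Nat.card Z = Nat.card N := by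
        have h1 : Nat.card G = Nat.card (G ⧸ Z) * Nat.card Z :=
          Subgroup.card_eq_card_quotient_mul_card_subgroup Z
        have h2 : Nat.card G = Nat.card (G ⧸ N) * Nat.card N :=
          Subgroup.card_eq_card_quotient_mul_card_subgroup N
        have h3 : Nat.card (G ⧸ Z) = Nat.card ((G ⧸ Z) ⧸ N') * Nat.card N' :=
          Subgroup.card_eq_card_quotient_mul_card_subgroup N'
        have h4 : Nat.card ((G ⧸ Z) ⧸ N') = Nat.card (G ⧸ N) := by
          obtain ⟨e⟩ := hiso
          obtain ⟨e'⟩ := hN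
          exact Nat.card_congr (e.trans e'.symm).toEquiv
        have hpos : 0 < Nat.card (G ⧸ N) := Nat.card_pos
        rw [h3, h4, mul_assoc] at h1
        rw [h1] at h2
        exact Nat.eq_of_mul_eq_mul_left hpos h2
      have hlt : Nat.card N' < n := by
        rw [← hn, ← hcardN']
        have hpos : 0 < Nat.card N' := Nat.card_pos
        nlinarith
      obtain ⟨hab', hsq'⟩ := ih (Nat.card N') hlt (G ⧸ Z) (X.map (QuotientGroup.mk' Z)) N' rfl
        hyp' hN'2 hiso
      -- membership in `Z` via the quotient map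
      have hmemZ : ∀ g : G, (QuotientGroup.mk' Z g = 1) → g ∈ Z := by
        intro g hg
        rwa [QuotientGroup.mk'_apply, QuotientGroup.eq_one_iff] at hg
      have himg : ∀ a ∈ N, QuotientGroup.mk' Z a ∈ N' := by
        intro a ha
        rw [hN'def]
        exact Subgroup.mem_map_of_mem _ ha
      have hcl : ∀ a ∈ N, ∀ b ∈ N, ∀ c ∈ N, Commute (a * b * a⁻¹ * b⁻¹) c := by
        intro a ha b hb c hc
        apply hZcomm _ _ c hc
        apply hmemZ
        have hc' := hab' _ (himg a ha) _ (himg b hb)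
        rw [map_mul, map_mul, map_mul, map_inv, map_inv, hc'.eq]
        group
      have hsq : ∀ a ∈ N, ∀ c ∈ N, Commute (a ^ 2) c := by
        intro a ha c hc
        apply hZcomm _ _ c hc
        apply hmemZ
        rw [map_pow]
        exact hsq' _ (himg a ha)
      obtain ⟨T, hNT, hTcard, hT2, hE⟩ := hEng G X N h hN2 hN
      have hr : ∃ r ∈ T, r ∉ N := by
        by_contra hcon
        have hTN : T ≤ N := by
          intro r hrT
          by_contra hrN
          exact hcon ⟨r, hrT, hrN⟩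
        have heq : T = N := le_antisymm hTN hNT
        rw [heq] at hTcard
        have hpos : 0 < Nat.card N := Nat.card_pos
        omega
      have hab := hA G X N h hN2 hN T hNT hr hE hcl hsq
      exact ⟨hab, hB G X N h hN2 hN T hNT hr hT2 hE hab⟩
  exact key (Nat.card N) G X N rfl h hN2 hN

end Cfsg.Agent.Lib.Helper16_FT3_HIGW
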