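import Mathlib
import Cfsg.Agent.S0963
import Cfsg.Agent.S0921
import Cfsg.Agent.Lib.Helper16_Cover
import Cfsg.Agent.Lib.Helper78_MinMax
import Cfsg.Agent.Lib.Helper78_AlgHom
import Cfsg.Agent.Lib.Helper78_Defect
import Cfsg.Agent.Lib.Helper78_Deficiency
import Cfsg.Agent.Lib.Helper77_DefectOrder
import Cfsg.Agent.Lib.Helper77_CentralInt

/-!
# Fong's theorem on blocks covering an invariant block (helper16)

`N` normal in `G`, `b` a `G`-invariant block of `N`.
* `exists_unit_class` : if `χ` lies over `θ ∈ b` there is `x ∈ N` at which the idempotent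
  coefficient of `b` and the central character of `χ` are both units.
* `induced_congr` : `inducedCentralChar N θ x ≡ n_x * centralChar θ x` for `θ ∈ b`, `x ∈ N`, where
  `n_x` is the number of `N`-classes in the `G`-class of `x`.
-/

set_option autoImplicit false

namespace Cfsg.Agent.Lib.Helper16_Fong

open Cfsg Cfsg.Agent.Lib.Helper16_Char Cfsg.Agent.Lib.Helper16_Clifford
  Cfsg.Agent.Lib.Helper16_Orbit Cfsg.Agent.Lib.Helper78_LocalRing Cfsg.Agent.Lib.Helper78_Osima
  Cfsg.Agent.Lib.Helper78_CentralChar Cfsg.Agent.Lib.Helper78_CharFacts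
  Cfsg.Agent.Lib.Helper16_Cover
open scoped ComplexConjugate

universe u

variable {G : Type u} [Group G] [Fintype G] (N : Subgroup G) [hN : N.Normal] [Fintype N]
  {M : Ideal AlgInt}

theorem gClosure_eq_of_inv {b : Set (IrrCharacter N)}
    (hinv : ∀ x : G, ∀ θ ∈ b, cjIrr N x θ ∈ b) : gClosure N b = b := by
  apply Set.Subset.antisymm
  · rintro φ ⟨x, θ, hθ, h⟩
    have h1 := hinv x θ hθ
    have e : cjIrr N x θ = φ := Subtype.ext h.symm
    rwa [e] at h1
  · exact subset_gClosure N b

theorem covF_eq_of_inv {b : Set (IrrCharacter N)}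
    (hinv : ∀ x : G, ∀ θ ∈ b, cjIrr N x θ ∈ b) : covF N b = blockCoeff b := by
  unfold covF
  rw [gClosure_eq_of_inv N hinv]

/-- a class of `N` at which `e_b` and `ω_χ` are both units -/
theorem exists_unit_class (hM : M.IsPrime) {b : Set (IrrCharacter N)} (hb : IsPBlock M b)
    (hinv : ∀ x : G, ∀ θ ∈ b, cjIrr N x θ ∈ b) (χ : IrrCharacter G) (θ : IrrCharacter N)
    (hθ : θ ∈ b) (hov : classInner (fun n : N => (χ : G → ℂ) n) (θ : N → ℂ) ≠ 0) :
    ∃ x : N, ¬ MemLocalIdeal M (blockCoeff b x) ∧
      ¬ MemLocalIdeal M (centralChar (χ : G → ℂ) (x : G)) := by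
  classical
  have h1 : omega (χ : G → ℂ) (extZero N (covF N b)) = 1 := by
    rw [omega_extZero_eq N χ θ hov _ (cj_covF N b), omega_covF,
      Set.indicator_of_mem (subset_gClosure N b hθ)]
  by_contra hcon
  push Not at hcon
  rw [omega_eq_sum_conjClasses (isIrrCharacter_isClassFunction χ.2)
    (extZero_isClassFunction N _ (cj_covF N b))] at h1
  have h2 : MemLocalIdeal M (∑ c : ConjClasses G, extZero N (covF N b) c.out *
      centralChar (χ : G → ℂ) c.out) := by
    refine memLocalIdeal_sum hM _ _ fun c _ => ?_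
    by_cases hc : c.out ∈ N
    · have e : extZero N (covF N b) c.out = blockCoeff b (⟨c.out, hc⟩ : N) := by
        have e1 := extZero_mem N (covF N b) (⟨c.out, hc⟩ : N)
        rw [covF_eq_of_inv N hinv] at e1
        rw [covF_eq_of_inv N hinv]
        exact e1
      rw [e]
      by_cases h3 : MemLocalIdeal M (blockCoeff b (⟨c.out, hc⟩ : N))
      · exact memLocalIdeal_mul_right hM h3
          (Cfsg.Agent.Lib.Helper77_CentralInt.memLocalRing_centralChar M hM _ χ.2 _)
      · exact memLocalIdeal_mul_left hM (osima_block' hM hb _) (hcon ⟨c.out, hc⟩ h3)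
    · rw [extZero_not_mem N _ hc, zero_mul]
      exact memLocalIdeal_zero hM
  rw [h1] at h2
  exact not_memLocalIdeal_one hM h2

/-- the number of `N`-classes contained in the `G`-class of `x` -/
noncomputable def nCls (x : G) : ℕ := by
  classical
  exact (Finset.univ.filter (fun c : ConjClasses N => IsConj x ((c.out : N) : G))).card

theorem isConj_coe_conjNormal (g : G) (x : N) :
    ((MulAut.conjNormal g : MulAut N) x : G) = g * (x : G) * g⁻¹ := by
  rw [MulAut.conjNormal_apply]

/-- `inducedCentralChar N θ x ≡ n_x * ω_θ(x)` for `θ` in a `G`-invariant block -/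
theorem induced_congr (hM : M.IsPrime) {b : Set (IrrCharacter N)} (hb : IsPBlock M b)
    (hinv : ∀ x : G, ∀ θ ∈ b, cjIrr N x θ ∈ b) (θ : IrrCharacter N) (hθ : θ ∈ b) (x : N) :
    MemLocalIdeal M (inducedCentralChar N (θ : N → ℂ) (x : G) -
      (nCls N (x : G) : ℂ) * centralChar (θ : N → ℂ) x) := by
  classical
  rw [Cfsg.Agent.Lib.Helper78_Defect.inducedCentralChar_eq_sum N
    (isIrrCharacter_isClassFunction θ.2) (x : G)]
  have h1 : (nCls N (x : G) : ℂ) * centralChar (θ : N → ℂ) x =
      ∑ c : ConjClasses N, if IsConj (x : G) ((c.out : N) : G) then centralChar (θ : N → ℂ) x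
        else 0 := by
    rw [← Finset.sum_filter, Finset.sum_const, nsmul_eq_mul]
    unfold nCls
    congr 3
  rw [h1, ← Finset.sum_sub_distrib]
  refine memLocalIdeal_sum hM _ _ fun c _ => ?_
  by_cases hc : IsConj (x : G) ((c.out : N) : G)
  · rw [if_pos hc, if_pos hc]
    obtain ⟨g, hg⟩ := isConj_iff.mp hc
    have e : c.out = (MulAut.conjNormal g : MulAut N) x := by
      apply Subtype.ext
      rw [isConj_coe_conjNormal, hg]
    have h2 := centralChar_cj N g⁻¹ (θ : N → ℂ) x
    rw [inv_inv] at h2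
    rw [e, ← h2]
    have h3 : cjIrr N g⁻¹ θ ∈ b := hinv g⁻¹ θ hθ
    exact (isPBlock_sameBlock hM hb h3 hθ) x
  · rw [if_neg hc, if_neg hc, sub_zero]
    exact memLocalIdeal_zero hM

/-- counting: `n_x * |N : C_N(x)| = |G : C_G(x)|` -/
theorem nCls_mul_index (x : N) :
    nCls N (x : G) * (Subgroup.centralizer ({x} : Set N)).index =
      (Subgroup.centralizer ({(x : G)} : Set G)).index := by
  classical
  have hcf : IsClassFunction N (fun _ : N => (1 : ℂ)) := fun _ _ => rfl
  have h1 := Cfsg.Agent.Lib.Helper78_Defect.inducedCentralChar_eq_sum N hcf (x : G)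
  have h2 := Cfsg.Agent.Lib.Helper16_Clifford.inducedCentralChar_eq_sum N (fun _ : N => (1 : ℂ))
    (x : G)
  rw [h1] at h2
  have h3 : ∀ c : ConjClasses N, (if IsConj (x : G) ((c.out : N) : G) then
      centralChar (fun _ : N => (1 : ℂ)) c.out else 0) =
      if IsConj (x : G) ((c.out : N) : G) then
        ((Subgroup.centralizer ({x} : Set N)).index : ℂ) else 0 := by
    intro c
    by_cases hc : IsConj (x : G) ((c.out : N) : G)
    · rw [if_pos hc, if_pos hc]
      obtain ⟨g, hg⟩ := isConj_iff.mp hc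
      have e : c.out = (MulAut.conjNormal g : MulAut N) x := by
        apply Subtype.ext
        rw [isConj_coe_conjNormal, hg]
      unfold centralChar
      rw [e, index_centralizer_equiv]
      simp
    · rw [if_neg hc, if_neg hc]
  rw [Finset.sum_congr rfl (fun c _ => h3 c), ← Finset.sum_filter, Finset.sum_const,
    nsmul_eq_mul, div_one] at h2
  have h4 : (∑ k : N, if IsConj (x : G) (k : G) then (1 : ℂ) else 0) =
      ∑ k : G, if IsConj (x : G) k then (1 : ℂ) else 0 := by
    rw [Cfsg.Agent.Lib.Helper16_Clifford.sum_subgroup_eq N (fun k : G => IsConj (x : G) k) ?_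
      (fun _ => (1 : ℂ))]
    intro k hk
    obtain ⟨g, hg⟩ := isConj_iff.mp hk
    rw [← hg]
    exact hN.conj_mem _ x.2 g
  rw [h4, ← Finset.sum_filter, Finset.sum_const, nsmul_eq_mul, mul_one,
    card_conjClass_filter] at h2
  have h5 : ((nCls N (x : G) * (Subgroup.centralizer ({x} : Set N)).index : ℕ) : ℂ) =
      ((Subgroup.centralizer ({(x : G)} : Set G)).index : ℂ) := by
    rw [← h2]
    push_cast
    unfold nCls
    congr 3
  exact_mod_cast h5

/-- the irreducible characters of `G` lying over members of `b` -/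
def overSet (b : Set (IrrCharacter N)) : Set (IrrCharacter G) :=
  {χ | ∃ θ ∈ b, classInner (fun n : N => (χ : G → ℂ) n) (θ : N → ℂ) ≠ 0}

theorem exists_under' (χ : IrrCharacter G) :
    ∃ θ : IrrCharacter N, classInner (fun n : N => (χ : G → ℂ) n) (θ : N → ℂ) ≠ 0 :=
  Cfsg.Agent.S0921.exists_constituent N χ

theorem overSet_closed (hM : M.IsPrime) {b : Set (IrrCharacter N)} (hb : IsPBlock M b)
    (hinv : ∀ x : G, ∀ θ ∈ b, cjIrr N x θ ∈ b) :
    ∀ χ ∈ overSet N b, ∀ ψ : IrrCharacter G, SameBlock M (χ : G → ℂ) (ψ : G → ℂ) →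
      ψ ∈ overSet N b := by
  rintro χ ⟨θ, hθ, hov⟩ ψ hsb
  obtain ⟨θ', hθ'⟩ := exists_under' N ψ
  have h := mem_gClosure_of_sameBlock N hM hb hsb (subset_gClosure N b hθ) hov hθ'
  rw [gClosure_eq_of_inv N hinv] at h
  exact ⟨θ', h, hθ'⟩

theorem cj_blockCoeff_of_inv {b : Set (IrrCharacter N)}
    (hinv : ∀ x : G, ∀ θ ∈ b, cjIrr N x θ ∈ b) (x : G) :
    cj N x (blockCoeff b) = blockCoeff b := by
  have := cj_covF N b x
  rwa [covF_eq_of_inv N hinv] at this

/-- the idempotent of a `G`-invariant block of `N`, as a function on `G`, is the idempotent of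
the set of characters of `G` lying over it -/
theorem blockCoeff_overSet (hM : M.IsPrime) {b : Set (IrrCharacter N)} (hb : IsPBlock M b)
    (hinv : ∀ x : G, ∀ θ ∈ b, cjIrr N x θ ∈ b) :
    blockCoeff (overSet N b) = extZero N (blockCoeff b) := by
  classical
  refine eq_of_omega_eq charFacts (blockCoeff_isClassFunction _)
    (extZero_isClassFunction N _ (cj_blockCoeff_of_inv N hinv)) fun χ => ?_
  obtain ⟨θ, hθ⟩ := exists_under' N χ
  rw [omega_blockCoeff charFacts, omega_extZero_eq N χ θ hθ _ (cj_blockCoeff_of_inv N hinv),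
    omega_blockCoeff charFacts]
  by_cases hθb : θ ∈ b
  · rw [Set.indicator_of_mem hθb, Set.indicator_of_mem (show χ ∈ overSet N b from ⟨θ, hθb, hθ⟩)]
  · have hχ : χ ∉ overSet N b := by
      rintro ⟨θ', hθ', hov⟩
      have h := mem_gClosure_of_sameBlock N hM hb (sameBlock_refl hM (χ : G → ℂ))
        (subset_gClosure N b hθ') hov hθ
      rw [gClosure_eq_of_inv N hinv] at h
      exact hθb h
    rw [Set.indicator_of_notMem hθb, Set.indicator_of_notMem hχ]

section Main

variable {p : ℕ} [hp : Fact p.Prime]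

/-- key choice: a defect class `y` of `b` centralized by the defect group `P` of `B` -/
theorem exists_good_class (hM : IsPModular p M) {b : Set (IrrCharacter N)} (hb : IsPBlock M b)
    (hinv : ∀ x : G, ∀ θ ∈ b, cjIrr N x θ ∈ b) {B : Set (IrrCharacter G)} (hB : IsPBlock M B)
    (χ : IrrCharacter G) (hχ : χ ∈ B) (θ : IrrCharacter N) (hθ : θ ∈ b)
    (hov : classInner (fun n : N => (χ : G → ℂ) n) (θ : N → ℂ) ≠ 0)
    {P : Subgroup G} (hP : IsDefectGroup p M B P) :
    ∃ y : N, P ≤ Subgroup.centralizer ({(y : G)} : Set G) ∧ IsDefectClass M b y ∧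
      ¬ p ∣ nCls N (y : G) := by
  classical
  have hMp := isPrime_of_isPModular hM
  obtain ⟨x, hx1, hx2⟩ := exists_unit_class N hMp hb hinv χ θ hθ hov
  obtain ⟨g, hg, D, hPD⟩ := hP
  obtain ⟨t, ht⟩ := Cfsg.Agent.Lib.Helper78_MinMax.conj_le_centralizer_of_centralChar_not_mem
    hM hB hg D (x : G) ⟨χ, hχ, hx2⟩
  rw [← hPD] at ht
  set y : N := (MulAut.conjNormal t⁻¹ : MulAut N) x with hy
  have hyG : (y : G) = t⁻¹ * (x : G) * t⁻¹⁻¹ := isConj_coe_conjNormal N t⁻¹ x
  have hPy : P ≤ Subgroup.centralizer ({(y : G)} : Set G) := by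
    intro d hd
    rw [hyG, ← Cfsg.Agent.Lib.Helper78_MinMax.conj_mem_centralizer_iff, inv_inv]
    exact ht ⟨d, hd, rfl⟩
  have hy1 : ¬ MemLocalIdeal M (blockCoeff b y) := by
    have h1 := congrFun (cj_blockCoeff_of_inv N hinv t) x
    have h2 : cj N t (blockCoeff b) x = blockCoeff b y := rfl
    rw [← h2, h1]
    exact hx1
  have hy2 : ¬ MemLocalIdeal M (centralChar (χ : G → ℂ) (y : G)) := by
    rw [hyG, Cfsg.Agent.Lib.Helper78_Defect.centralChar_conj
      (isIrrCharacter_isClassFunction χ.2)]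
    exact hx2
  have h3 : centralChar (χ : G → ℂ) (y : G) = inducedCentralChar N (θ : N → ℂ) (y : G) :=
    (Cfsg.Agent.S0963.result N χ θ).mp hov y
  have h4 := induced_congr N hMp hb hinv θ hθ y
  have hθR : MemLocalRing M (centralChar (θ : N → ℂ) y) :=
    Cfsg.Agent.Lib.Helper77_CentralInt.memLocalRing_centralChar M hMp _ θ.2 _
  have h5 : ¬ MemLocalIdeal M ((nCls N (y : G) : ℂ) * centralChar (θ : N → ℂ) y) := by
    intro h
    apply hy2
    rw [h3]
    have := memLocalIdeal_add hMp h4 h
    rwa [sub_add_cancel] at this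
  rw [memLocalIdeal_mul_iff hMp (memLocalRing_natCast hMp _) hθR] at h5
  push Not at h5
  refine ⟨y, hPy, ⟨osima_block' hMp hb y, hy1, ?_⟩, ?_⟩
  · intro θ' hθ' hJ
    apply h5.2
    have hsb := (isPBlock_sameBlock hMp hb hθ' hθ) y
    have := memLocalIdeal_sub hMp hJ hsb
    rwa [sub_sub_cancel] at this
  · intro hdvd
    exact h5.1 ((memLocalIdeal_natCast_iff hM _).mpr hdvd)

/-- the `p`-part of `|C_G(y)|` for a good class -/
theorem factorization_card_centralizer (y : N) (hn : ¬ p ∣ nCls N (y : G)) :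
    (Nat.card (Subgroup.centralizer ({(y : G)} : Set G))).factorization p =
      (Nat.card (Subgroup.centralizer ({y} : Set N))).factorization p +
        N.index.factorization p := by
  have hp' : p.Prime := hp.1
  have h1 := nCls_mul_index N y
  have h2 := Subgroup.card_mul_index (Subgroup.centralizer ({(y : G)} : Set G))
  have h3 := Subgroup.card_mul_index (Subgroup.centralizer ({y} : Set N))
  have h4 := Subgroup.card_mul_index N
  set cG := Nat.card (Subgroup.centralizer ({(y : G)} : Set G)) with hcG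
  set cN := Nat.card (Subgroup.centralizer ({y} : Set N)) with hcN
  set iG := (Subgroup.centralizer ({(y : G)} : Set G)).index with hiG
  set iN := (Subgroup.centralizer ({y} : Set N)).index with hiN
  set n := nCls N (y : G) with hn'
  have hcG0 : cG ≠ 0 := Nat.card_pos.ne'
  have hcN0 : cN ≠ 0 := Nat.card_pos.ne'
  have hiN0 : iN ≠ 0 := Subgroup.index_ne_zero_of_finite
  have hN0 : N.index ≠ 0 := Subgroup.index_ne_zero_of_finite
  have hn0 : n ≠ 0 := by
    intro h0
    apply hn
    rw [h0]
    exact dvd_zero p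
  have key : cG * n = cN * N.index := by
    have e1 : cG * (n * iN) = cN * iN * N.index := by
      rw [h1, h2, ← h4, ← h3]
    have e2 : (cG * n) * iN = (cN * N.index) * iN := by
      calc (cG * n) * iN = cG * (n * iN) := by ring
        _ = cN * iN * N.index := e1
        _ = (cN * N.index) * iN := by ring
    exact Nat.eq_of_mul_eq_mul_right (Nat.pos_of_ne_zero hiN0) e2
  have hfac : (cG * n).factorization p = (cN * N.index).factorization p := by rw [key]
  rw [Nat.factorization_mul hcG0 hn0, Nat.factorization_mul hcN0 hN0, Finsupp.add_apply,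
    Finsupp.add_apply, Nat.factorization_eq_zero_of_not_dvd hn, add_zero] at hfac
  exact hfac

/-- **Fong's theorem** for a block of maximal defect covering an invariant block -/
theorem fong (hM : IsPModular p M) {b : Set (IrrCharacter N)} (hb : IsPBlock M b)
    (hinv : ∀ x : G, ∀ θ ∈ b, cjIrr N x θ ∈ b) {B : Set (IrrCharacter G)} (hB : IsPBlock M B)
    (hcov : ∃ χ ∈ B, ∃ θ ∈ b, classInner (fun n : N => (χ : G → ℂ) n) (θ : N → ℂ) ≠ 0)
    (hmax : ∀ B' : Set (IrrCharacter G), IsPBlock M B' →
      (∃ χ ∈ B', ∃ θ ∈ b, classInner (fun n : N => (χ : G → ℂ) n) (θ : N → ℂ) ≠ 0) →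
      blockDefect p B' ≤ blockDefect p B)
    {P : Subgroup G} (hP : IsDefectGroup p M B P) :
    ¬ p ∣ (P ⊔ N).index ∧ IsDefectGroup p M b ((P ⊓ N).subgroupOf N) ∧
      blockDefect p B = blockDefect p b + N.index.factorization p := by
  classical
  have hp' : p.Prime := hp.1
  have hMp := isPrime_of_isPModular hM
  obtain ⟨χ, hχ, θ, hθ, hov⟩ := hcov
  obtain ⟨y, hPy, hdc, hn⟩ := exists_good_class N hM hb hinv hB χ hχ θ hθ hov hP
  have hcardP : Nat.card P = p ^ blockDefect p B :=
    Cfsg.Agent.Lib.Helper78_Deficiency.card_isDefectGroup hM hB hP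
  have hd1 : (Nat.card (Subgroup.centralizer ({y} : Set N))).factorization p = blockDefect p b :=
    Cfsg.Agent.Lib.Helper77_DefectOrder.card_defectGroup hM hb hdc
  have hd2 := factorization_card_centralizer N y hn
  rw [hd1] at hd2
  set cG := Nat.card (Subgroup.centralizer ({(y : G)} : Set G)) with hcG
  have hcG0 : cG ≠ 0 := Nat.card_pos.ne'
  -- upper bound
  have hup : blockDefect p B ≤ cG.factorization p := by
    have h1 : Nat.card P ∣ cG := Subgroup.card_dvd_of_le hPy
    rw [hcardP] at h1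
    exact (hp'.pow_dvd_iff_le_factorization hcG0).mp h1
  -- lower bound
  have hlow : cG.factorization p ≤ blockDefect p B := by
    have hbc : blockCoeff (overSet N b) (y : G) = blockCoeff b y := by
      rw [blockCoeff_overSet N hMp hb hinv, extZero_mem]
    obtain ⟨B', hB', hB'S, hB'y⟩ := Cfsg.Agent.Lib.Helper78_AlgHom.exists_block_not_mem charFacts
      hMp (fun f : G → ℂ => f (y : G)) (fun _ _ => rfl) rfl _ (overSet N b) rfl
      (overSet_closed N hMp hb hinv) (by rw [hbc]; exact hdc.2.1)
    obtain ⟨χ', hχ'⟩ := isPBlock_nonempty hMp hB'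
    obtain ⟨θ', hθ', hov'⟩ := hB'S hχ'
    have hle := hmax B' hB' ⟨χ', hχ', θ', hθ', hov'⟩
    obtain ⟨g', hg'⟩ := exists_isDefectClass' hMp hB'
    obtain ⟨D'⟩ : Nonempty (Sylow p (Subgroup.centralizer ({g'} : Set G))) := inferInstance
    obtain ⟨T⟩ : Nonempty (Sylow p (Subgroup.centralizer ({(y : G)} : Set G))) := inferInstance
    obtain ⟨z, hz⟩ := Cfsg.Agent.Lib.Helper78_MinMax.le_conj_of_blockCoeff_not_mem hM hB' hg' D'
      (y : G) hB'y _ (Cfsg.Agent.Lib.Helper78_MinMax.isPGroup_map_sylow _ T)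
      (Cfsg.Agent.Lib.Helper78_MinMax.map_sylow_le _ T)
    have h1 := Subgroup.card_le_of_le hz
    have e1 : Nat.card ((((D' : Subgroup (Subgroup.centralizer ({g'} : Set G))).map
        (Subgroup.centralizer ({g'} : Set G)).subtype).map (MulAut.conj z).toMonoidHom :
          Subgroup G)) = p ^ blockDefect p B' := by
      rw [Subgroup.card_map_of_injective (MulAut.conj z).injective]
      exact Cfsg.Agent.Lib.Helper78_Deficiency.card_isDefectGroup hM hB' ⟨g', hg', D', rfl⟩
    have e2 : Nat.card (((T : Subgroup (Subgroup.centralizer ({(y : G)} : Set G))).map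
        (Subgroup.centralizer ({(y : G)} : Set G)).subtype : Subgroup G)) =
          p ^ cG.factorization p := by
      rw [Subgroup.card_map_of_injective (Subgroup.subtype_injective _)]
      exact T.card_eq_multiplicity
    rw [e1, e2] at h1
    exact le_trans ((Nat.pow_le_pow_iff_right hp'.one_lt).mp h1) hle
  have hdB : blockDefect p B = blockDefect p b + N.index.factorization p := by
    rw [← hd2]
    exact le_antisymm hup hlow
  -- the intersection with `N`
  set S : Subgroup N := (P ⊓ N).subgroupOf N with hS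
  have hPp : IsPGroup p P := IsPGroup.of_card hcardP
  have hSp : IsPGroup p S := (hPp.to_le inf_le_left).comap_subtype
  have hSc : S ≤ Subgroup.centralizer ({y} : Set N) := by
    intro s hs
    rw [Subgroup.mem_centralizer_singleton_iff]
    have h1 : (s : G) ∈ P := (Subgroup.mem_subgroupOf.mp hs).1
    have h2 := Subgroup.mem_centralizer_singleton_iff.mp (hPy h1)
    apply Subtype.ext
    exact h2
  obtain ⟨k, hk⟩ := hSp.exists_card_eq
  have hcN0 : Nat.card (Subgroup.centralizer ({y} : Set N)) ≠ 0 := Nat.card_pos.ne'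
  have hk1 : k ≤ blockDefect p b := by
    have h1 : Nat.card S ∣ Nat.card (Subgroup.centralizer ({y} : Set N)) :=
      Subgroup.card_dvd_of_le hSc
    rw [hk] at h1
    rw [← hd1]
    exact (hp'.pow_dvd_iff_le_factorization hcN0).mp h1
  have h1 : N.relIndex (P ⊔ N) * (P ⊔ N).index = N.index :=
    Subgroup.relIndex_mul_index le_sup_right
  rw [Subgroup.relIndex_sup_right] at h1
  have h2 : Nat.card (N.subgroupOf P) * N.relIndex P = Nat.card P :=
    Subgroup.card_mul_index (N.subgroupOf P)
  have h3 : Nat.card (N.subgroupOf P) = Nat.card S := by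
    rw [← Subgroup.inf_subgroupOf_left N P]
    exact (Nat.card_congr (Subgroup.subgroupOfEquivOfLe inf_le_left).toEquiv).trans
      (Nat.card_congr (Subgroup.subgroupOfEquivOfLe inf_le_right).toEquiv).symm
  set ν := N.index.factorization p with hν
  have hN0 : N.index ≠ 0 := Subgroup.index_ne_zero_of_finite
  rw [h3, hk, hcardP, hdB] at h2
  have hkle : k ≤ blockDefect p b + ν := le_trans hk1 (Nat.le_add_right _ _)
  have h4 : N.relIndex P = p ^ (blockDefect p b + ν - k) := by
    apply Nat.eq_of_mul_eq_mul_left (pow_pos hp'.pos k)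
    rw [h2, ← pow_add, Nat.add_sub_cancel' hkle]
  have h5 : blockDefect p b + ν - k ≤ ν := by
    have h6 : p ^ (blockDefect p b + ν - k) ∣ N.index := by
      rw [← h4, ← h1]
      exact dvd_mul_right _ _
    exact (hp'.pow_dvd_iff_le_factorization hN0).mp h6
  have hkeq : k = blockDefect p b := by omega
  refine ⟨?_, ?_, hdB⟩
  · intro hdvd
    have h6 : p ^ (ν + 1) ∣ N.index := by
      rw [← h1, h4, hkeq, Nat.add_sub_cancel_left, pow_succ]
      exact Nat.mul_dvd_mul_left _ hdvd
    exact Nat.pow_succ_factorization_not_dvd hN0 hp' h6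
  · have hQcard : Nat.card (S.subgroupOf (Subgroup.centralizer ({y} : Set N))) =
        p ^ (Nat.card (Subgroup.centralizer ({y} : Set N))).factorization p := by
      rw [hd1, ← hkeq, ← hk]
      exact Nat.card_congr (Subgroup.subgroupOfEquivOfLe hSc).toEquiv
    refine ⟨y, hdc, Sylow.ofCard _ hQcard, ?_⟩
    rw [Sylow.coe_ofCard, Subgroup.map_subgroupOf_eq_of_le hSc]

end Main

end Cfsg.Agent.Lib.Helper16_Fong
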