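import Mathlib

/-!
# Frobenius-type configurations (helper16)

* `mem_of_commute_of_complement`: if `L = K W` with `K ⊴ L` and the non-identity elements of `W`
  have no non-identity fixed points on `K`, then `C_L(k) ≤ K` for `1 ≠ k ∈ K`;
* `index_dvd_card_sub_one`: if `C_L(k) ≤ K` for `1 ≠ k ∈ K` then `|L : K|` divides `|Z| - 1` for
  every normal subgroup `Z ≤ K` of `L`;
* `coprime_card_index`: in that situation `|K|` and `|L : K|` are coprime;
* `exists_sylow_eq`: a `p`-subgroup `H` with `p ∤ |N_G(H) : H|` is a Sylow `p`-subgroup.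
-/

set_option autoImplicit false

namespace Cfsg.Agent.Lib.Helper16_FrobGroup

section Frob

variable {L : Type*} [Group L] [Finite L]

/-- A complement acting without fixed points gives the Frobenius condition on centralizers. -/
theorem mem_of_commute_of_complement (K W : Subgroup L) [hK : K.Normal] (hsup : K ⊔ W = ⊤)
    (hfpf : ∀ w ∈ W, w ≠ 1 → ∀ k ∈ K, w * k = k * w → k = 1) :
    ∀ k ∈ K, k ≠ 1 → ∀ x : L, x * k = k * x → x ∈ K := by
  classical
  intro k hk hk1 x hx
  have hxtop : x ∈ ((K ⊔ W : Subgroup L) : Set L) := by rw [hsup]; trivial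
  rw [Subgroup.normal_mul K W] at hxtop
  obtain ⟨h, hh, w, hw, rfl⟩ := Set.mem_mul.1 hxtop
  by_cases hw1 : w = 1
  · rw [hw1, mul_one]; exact hh
  exfalso
  -- the map `u ↦ u⁻¹ (w u w⁻¹)` is injective on `K`
  let f : K → K := fun u => ⟨(u : L)⁻¹ * (w * u * w⁻¹),
    K.mul_mem (K.inv_mem u.2) (hK.conj_mem u u.2 w)⟩
  have hf : Function.Injective f := by
    intro u u' huu'
    have h1 : (u : L)⁻¹ * (w * u * w⁻¹) = (u' : L)⁻¹ * (w * u' * w⁻¹) := congrArg Subtype.val huu'
    have h2 : w * ((u : L) * (u' : L)⁻¹) = ((u : L) * (u' : L)⁻¹) * w := by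
      have h3 : w * (u : L) = (u : L) * (u' : L)⁻¹ * (w * u') := by
        have := congrArg (fun t => (u : L) * t * w) h1
        calc w * (u : L) = (u : L) * ((u : L)⁻¹ * (w * u * w⁻¹)) * w := by group
          _ = (u : L) * ((u' : L)⁻¹ * (w * u' * w⁻¹)) * w := this
          _ = (u : L) * (u' : L)⁻¹ * (w * u') := by group
      calc w * ((u : L) * (u' : L)⁻¹) = (w * u) * (u' : L)⁻¹ := by group
        _ = ((u : L) * (u' : L)⁻¹ * (w * u')) * (u' : L)⁻¹ := by rw [h3]
        _ = ((u : L) * (u' : L)⁻¹) * w := by group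
    have h4 := hfpf w hw hw1 _ (K.mul_mem u.2 (K.inv_mem u'.2)) h2
    apply Subtype.ext
    exact mul_inv_eq_one.1 h4
  have hsurj : Function.Surjective f := Finite.injective_iff_surjective.1 hf
  obtain ⟨u, hu⟩ := hsurj ⟨h, hh⟩
  have hu' : (u : L)⁻¹ * (w * u * w⁻¹) = h := congrArg Subtype.val hu
  -- `h w = u⁻¹ w u`
  have hconj : h * w = (u : L)⁻¹ * w * u := by
    rw [← hu']; group
  rw [hconj] at hx
  have h5 : w * ((u : L) * k * (u : L)⁻¹) = ((u : L) * k * (u : L)⁻¹) * w := by
    calc w * ((u : L) * k * (u : L)⁻¹) = (u : L) * (((u : L)⁻¹ * w * u) * k) * (u : L)⁻¹ := by group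
      _ = (u : L) * (k * ((u : L)⁻¹ * w * u)) * (u : L)⁻¹ := by rw [hx]
      _ = ((u : L) * k * (u : L)⁻¹) * w := by group
  have h6 := hfpf w hw hw1 _ (hK.conj_mem k hk u) h5
  apply hk1
  have : k = (u : L)⁻¹ * ((u : L) * k * (u : L)⁻¹) * u := by group
  rw [this, h6]
  group

/-- The Frobenius congruence for a normal subgroup of the kernel. -/
theorem index_dvd_card_sub_one (K Z : Subgroup L) [hZ : Z.Normal] (hZK : Z ≤ K)
    (hfrob : ∀ k ∈ K, k ≠ 1 → ∀ x : L, x * k = k * x → x ∈ K) :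
    K.index ∣ Nat.card Z - 1 := by
  classical
  let X := {q : L // q ∈ (Z : Set L) \ {1}}
  let act : MulAction L X :=
    { smul := fun x q => ⟨x * q.1 * x⁻¹, hZ.conj_mem _ q.2.1 _, fun h => q.2.2 (by
        have h' : x * q.1 * x⁻¹ = 1 := h
        rw [conj_eq_one_iff] at h'
        exact h')⟩
      one_smul := fun q => Subtype.ext (by
        change (1 : L) * q.1 * (1 : L)⁻¹ = q.1
        simp)
      mul_smul := fun x y q => Subtype.ext (by
        change (x * y) * q.1 * (x * y)⁻¹ = x * (y * q.1 * y⁻¹) * x⁻¹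
        simp [mul_assoc]) }
  have hsmul : ∀ (x : L) (q : X), ((x • q : X) : L) = x * q.1 * x⁻¹ := fun _ _ => rfl
  have hstab : ∀ q : X, MulAction.stabilizer L q ≤ K := by
    intro q x hx
    rw [MulAction.mem_stabilizer_iff] at hx
    have h1 : x * q.1 * x⁻¹ = q.1 := by rw [← hsmul, hx]
    have h2 : x * q.1 = q.1 * x := by
      calc x * q.1 = x * q.1 * x⁻¹ * x := by group
        _ = q.1 * x := by rw [h1]
    exact hfrob q.1 (hZK q.2.1) (fun h => q.2.2 h) x h2
  have hfinΩ : Fintype (Quotient (MulAction.orbitRel L X)) := Fintype.ofFinite _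
  have hcard : K.index ∣ Nat.card X := by
    rw [Nat.card_congr (MulAction.selfEquivSigmaOrbitsQuotientStabilizer L X), Nat.card_sigma]
    apply Finset.dvd_sum
    intro ω _
    have : Nat.card (L ⧸ MulAction.stabilizer L ω.out) = (MulAction.stabilizer L ω.out).index := rfl
    rw [this]
    exact Subgroup.index_dvd_of_le (hstab _)
  have hX : Nat.card X = Nat.card Z - 1 := by
    have h0 : Nat.card X = ((Z : Set L) \ {1}).ncard := Nat.card_coe_set_eq _
    rw [h0, Set.ncard_sdiff_singleton_of_mem (Z.one_mem), ← Nat.card_coe_set_eq]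
    rfl
  rw [← hX]
  exact hcard

/-- The order and the index of a Frobenius kernel are coprime. -/
theorem coprime_card_index (K : Subgroup L) [hK : K.Normal]
    (hfrob : ∀ k ∈ K, k ≠ 1 → ∀ x : L, x * k = k * x → x ∈ K) :
    (Nat.card K).Coprime K.index := by
  have h1 := index_dvd_card_sub_one K K le_rfl hfrob
  have hpos : 0 < Nat.card K := Nat.card_pos
  rw [Nat.coprime_comm]
  apply Nat.Coprime.coprime_dvd_left h1
  have : Nat.card K = (Nat.card K - 1) + 1 := by omega
  rw [Nat.coprime_comm]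
  nth_rewrite 1 [this]
  simp

end Frob

section Sylow

variable {G : Type*} [Group G] [Finite G]

/-- A `p`-subgroup whose index in its normalizer is prime to `p` is a Sylow `p`-subgroup. -/
theorem exists_sylow_eq (H : Subgroup G) {p m : ℕ} [hp : Fact p.Prime]
    (hcard : Nat.card H = p ^ m)
    (hcop : (H.subgroupOf (Subgroup.normalizer (H : Set G))).index.Coprime p) :
    ∃ P : Sylow p G, (P : Subgroup G) = H := by
  classical
  have hHp : IsPGroup p H := IsPGroup.of_card hcard
  obtain ⟨P, hHP⟩ := hHp.exists_le_sylow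
  refine ⟨P, ?_⟩
  by_contra hne
  have hlt : H < (P : Subgroup G) := lt_of_le_of_ne hHP (Ne.symm hne)
  have hnilP : Group.IsNilpotent ↥(P : Subgroup G) := IsPGroup.isNilpotent P.isPGroup'
  set H' : Subgroup ↥(P : Subgroup G) := H.subgroupOf (P : Subgroup G) with hH'
  have hH'top : H' ≠ ⊤ := by
    intro h
    have : (P : Subgroup G) ≤ H := Subgroup.subgroupOf_eq_top.1 h
    exact (not_le_of_gt hlt) this
  have hnc := Group.normalizerCondition_of_isNilpotent (G := ↥(P : Subgroup G))
  have hlt' : H' < Subgroup.normalizer (H' : Set ↥(P : Subgroup G)) := hnc H' (lt_top_iff_ne_top.2 hH'top)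
  obtain ⟨x, hxn, hxH'⟩ := Set.exists_of_ssubset hlt'
  have hxH : (x : G) ∉ H := fun h => hxH' (Subgroup.mem_subgroupOf.2 h)
  -- `x` normalizes `H`
  have hxN : (x : G) ∈ Subgroup.normalizer (H : Set G) := by
    rw [Subgroup.mem_normalizer_iff]
    intro g
    rw [SetLike.mem_coe, Subgroup.mem_normalizer_iff] at hxn
    constructor
    · intro hg
      have h1 := (hxn ⟨g, hHP hg⟩).1 (Subgroup.mem_subgroupOf.2 hg)
      exact Subgroup.mem_subgroupOf.1 h1
    · intro hg
      have hgP : g ∈ (P : Subgroup G) := by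
        have h2 : g = (x : G)⁻¹ * ((x : G) * g * (x : G)⁻¹) * (x : G) := by group
        rw [h2]
        exact Subgroup.mul_mem _ (Subgroup.mul_mem _ (Subgroup.inv_mem _ x.2) (hHP hg)) x.2
      have h1 := (hxn ⟨g, hgP⟩).2 (Subgroup.mem_subgroupOf.2 hg)
      exact Subgroup.mem_subgroupOf.1 h1
  set N : Subgroup G := Subgroup.normalizer (H : Set G) with hN
  set K : Subgroup ↥N := H.subgroupOf N with hK
  have hKn : K.Normal := Subgroup.normal_in_normalizer
  set y : ↥N := ⟨(x : G), hxN⟩ with hy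
  have hyK : y ∉ K := fun h => hxH (Subgroup.mem_subgroupOf.1 h)
  apply hyK
  rw [← QuotientGroup.eq_one_iff, ← orderOf_eq_one_iff]
  obtain ⟨k, hk⟩ := P.isPGroup' x
  have hyk : y ^ p ^ k = 1 := by
    apply Subtype.ext
    have := congrArg Subtype.val hk
    simpa using this
  have h1 : orderOf (y : ↥N ⧸ K) ∣ p ^ k := by
    apply orderOf_dvd_of_pow_eq_one
    rw [← QuotientGroup.mk_pow, hyk]
    rfl
  have h2 : orderOf (y : ↥N ⧸ K) ∣ K.index := by
    rw [Subgroup.index_eq_card]; exact orderOf_dvd_natCard _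
  have h3 := Nat.dvd_gcd h2 h1
  have h4 : Nat.gcd K.index (p ^ k) = 1 := Nat.Coprime.pow_right k hcop
  rw [h4, Nat.dvd_one] at h3
  exact h3

end Sylow

end Cfsg.Agent.Lib.Helper16_FrobGroup
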