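import Mathlib
import Cfsg.Prelude.Def_Blocks
import Cfsg.Agent.Lib.Helper25_AbDual
import Cfsg.Agent.Lib.Helper3_CharBridge
import Cfsg.Agent.Lib.Helper74_AutExt
import Cfsg.Agent.Lib.Helper78_Deficiency
import Cfsg.Agent.Lib.Helper78_CentralProd
import Cfsg.Agent.Lib.Helper78_PartAGen
import Cfsg.Agent.Lib.Helper78_PartAGen2
import Cfsg.Agent.Lib.Helper16_BrauerSetup
import Cfsg.Agent.Lib.Helper16_GenSetup
import Cfsg.Agent.Lib.Helper16_GenK
import Cfsg.Agent.Lib.Helper16_GenMain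
import Cfsg.Agent.Lib.Helper16_GenFinal
import Cfsg.Agent.Lib.Helper16_GenConj
import Cfsg.Agent.Lib.Helper16_GenBridge
import Cfsg.Agent.Lib.Helper16_GenGlue

/-!
# Blocks of defect one, general root: the glue for S4507 (helper16)

`s4507_glue` is the statement S4507 (exceptional family = one full `p`-conjugacy class, count,
signs) from the lattice hypothesis `CTGen` and the multiplicity-freeness `H1V`.
-/

set_option autoImplicit false
set_option linter.unusedSectionVars false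

namespace Cfsg.Agent.Lib.Helper16_GenGlue2

open Cfsg Cfsg.Agent.Lib.Helper16_BrauerSetup
  Cfsg.Agent.Lib.Helper16_GenSetup Cfsg.Agent.Lib.Helper16_GenK Cfsg.Agent.Lib.Helper16_GenMain
  Cfsg.Agent.Lib.Helper16_GenFinal Cfsg.Agent.Lib.Helper16_GenConj
  Cfsg.Agent.Lib.Helper16_GenBridge Cfsg.Agent.Lib.Helper16_GenGlue
  Cfsg.Agent.Lib.Helper78_CentralProd Cfsg.Agent.Lib.Helper78_PartAGen
  Cfsg.Agent.Lib.Helper78_PartAGen2
open scoped ComplexConjugate

variable {G : Type*} [Group G] [Fintype G] {p : ℕ} [hp : Fact p.Prime] {M : Ideal AlgInt}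

/-- **Statement S4507** from the lattice hypothesis `CTGen` and the multiplicity-freeness `H1V`. -/
theorem s4507_glue (hM : IsPModular p M) (hdiv : p ∣ Nat.card G) (hsq : ¬ p ^ 2 ∣ Nat.card G)
    (B : Set (IrrCharacter G)) (hB : IsPBlock M B) (hd : 0 < blockDefect p B)
    (hCT : ∀ P : Sylow p G, Nat.card P = p → CTGen G p P)
    (hH1 : ∀ (P : Sylow p G) (V : Subgroup G) [Fintype ↥V] (hV : IsPCompl P V)
      (θ' : IrrCharacter ↥V), H1V hV θ') :
    ∃ Y : Set (IrrCharacter G), Y ⊆ B ∧ Y.Nonempty ∧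
      (∀ θ ∈ Y, ∀ ψ : IrrCharacter G,
        (∃ σ : ℂ ≃+* ℂ, σ (Complex.exp (2 * Real.pi * Complex.I /
            ((Nat.card G / p ^ (Nat.card G).factorization p) : ℕ))) =
          Complex.exp (2 * Real.pi * Complex.I /
            ((Nat.card G / p ^ (Nat.card G).factorization p) : ℕ)) ∧
          (ψ : G → ℂ) = fun g => σ ((θ : G → ℂ) g)) ↔ ψ ∈ Y) ∧
      (∀ χ ∈ B, χ ∉ Y → ∀ ψ : IrrCharacter G,
        (∃ σ : ℂ ≃+* ℂ, σ (Complex.exp (2 * Real.pi * Complex.I /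
            ((Nat.card G / p ^ (Nat.card G).factorization p) : ℕ))) =
          Complex.exp (2 * Real.pi * Complex.I /
            ((Nat.card G / p ^ (Nat.card G).factorization p) : ℕ)) ∧
          (ψ : G → ℂ) = fun g => σ ((χ : G → ℂ) g)) → ψ = χ) ∧
      Nat.card Y ∣ p - 1 ∧ Nat.card B = Nat.card Y + (p - 1) / Nat.card Y ∧
      ∃ δ : IrrCharacter G → ℤ, (∀ χ ∈ B, δ χ = 1 ∨ δ χ = -1) ∧
        ∀ x : G, ¬ p ∣ orderOf x → ∀ θ ∈ Y,
          (∑ᶠ χ ∈ B \ Y, (δ χ : ℂ) * (χ : G → ℂ) x) + (δ θ : ℂ) * (θ : G → ℂ) x = 0 := by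
  classical
  have hGpos : Nat.card G ≠ 0 := Nat.card_pos.ne'
  have hν : (Nat.card G).factorization p = 1 := by
    have h1 : 1 ≤ (Nat.card G).factorization p :=
      (hp.out.dvd_iff_one_le_factorization hGpos).mp hdiv
    have h2 : ¬ 2 ≤ (Nat.card G).factorization p :=
      fun h => hsq ((hp.out.pow_dvd_iff_le_factorization hGpos).mpr h)
    omega
  obtain ⟨D, hD⟩ := Cfsg.Agent.Lib.Helper78_Deficiency.exists_isDefectGroup hM hB
  have hDcard := Cfsg.Agent.Lib.Helper78_Deficiency.card_isDefectGroup hM hB hD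
  have hdef : blockDefect p B = 1 := by
    have hle : blockDefect p B ≤ (Nat.card G).factorization p := by
      unfold blockDefect
      exact Nat.sub_le _ _
    omega
  rw [hdef, pow_one] at hDcard
  have hDcard' : Nat.card D = p ^ (Nat.card G).factorization p := by rw [hDcard, hν, pow_one]
  obtain ⟨P, hPD⟩ : ∃ P : Sylow p G, (P : Subgroup G) = D :=
    ⟨Sylow.ofCard D hDcard', Sylow.coe_ofCard D hDcard'⟩
  have hP : Nat.card P = p := by
    have : Nat.card (P : Subgroup G) = p := by rw [hPD]; exact hDcard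
    exact this
  have hBP : IsDefectGroup p M B (P : Subgroup G) := by rw [hPD]; exact hD
  obtain ⟨b, θ, hind, hθ, hkZ⟩ := exists_root P hM hP hB hBP
  have hker : KerP θ := kerP_of_kerZ hkZ
  obtain ⟨V, hV⟩ := exists_isPCompl (P := P) hP
  let _ : Fintype ↥(P : Subgroup G) := Fintype.ofFinite _
  let _ : Fintype ↥V := Fintype.ofFinite _
  have hfin : Finite (↥(P : Subgroup G) →* ℂˣ) :=
    Cfsg.Agent.Lib.Helper25_AbDual.finite_hom (comm_of_card P hP)
  let _ : Fintype (↥(P : Subgroup G) →* ℂˣ) := Fintype.ofFinite _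
  set θV : IrrCharacter ↥V := resV hP hV θ hker with hθV
  obtain ⟨X, Y, εX, ε, hBXY, hdisj, hXc, hYc, hXp, hε, hYp, hYu, hYs⟩ :=
    gen_structure hP hV θV _ rfl (hCT P hP) (hH1 P V hV θV)
  set e := (Subgroup.centralizer ((P : Subgroup G) : Set G)).relIndex (stab hV θV) with hedef
  have hBeq : B = BGen P V θV := block_eq_BGen hM hP hV hB hBP hind hθ hker
  have hp1 : 0 < p - 1 := by have := hp.out.two_le; omega
  have hepos : 0 < e := by
    rcases Nat.eq_zero_or_pos e with h | h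
    · rw [h, zero_mul] at hYc
      omega
    · exact h
  have hYpos : 0 < Y.card := by
    rcases Nat.eq_zero_or_pos Y.card with h | h
    · rw [h, mul_zero] at hYc
      omega
    · exact h
  have hset : B = ↑(X ∪ Y) := by
    ext χ
    rw [hBeq, Finset.coe_union, Set.mem_union, Finset.mem_coe, Finset.mem_coe]
    exact hBXY χ
  have hBXY' : ∀ χ, χ ∈ BGen P V θV ↔ χ ∈ X ∨ χ ∈ Y := hBXY
  have hvan : ∀ χ ∈ B, ∀ θ' : IrrCharacter ↥V, ¬ IsConjθ hV θV θ' →
      ∀ h : ↥(P : Subgroup G), h ≠ 1 → sfun P V θ' χ h = 0 :=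
    fun χ hχ θ' hnc h hh => block_vanish hM hP hV hB hBP hind hθ hker hχ θ' hnc h hh
  have hXB : ∀ χ ∈ X, χ ∈ B := fun χ hχ => by
    rw [hset]
    exact Finset.mem_coe.mpr (Finset.mem_union_left _ hχ)
  have hYB : ∀ χ ∈ Y, χ ∈ B := fun χ hχ => by
    rw [hset]
    exact Finset.mem_coe.mpr (Finset.mem_union_right _ hχ)
  have hvanX : ∀ χ ∈ X, ∀ θ' : IrrCharacter ↥V, ¬ IsConjθ hV θV θ' →
      ∀ h : ↥(P : Subgroup G), h ≠ 1 → sfun P V θ' χ h = 0 := fun χ hχ => hvan χ (hXB χ hχ)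
  have hXp' : ∀ χ ∈ X, ∀ φ : ↥(P : Subgroup G) →* ℂˣ, φ ≠ 1 → nng hV θV χ φ = - εX χ :=
    fun χ hχ => (hXp χ hχ).2
  have hYne : ∀ ψ ∈ Y, ∃ φ : ↥(P : Subgroup G) →* ℂˣ, nng hV θV ψ φ ≠ 0 := by
    intro ψ hψ
    have hne : (Finset.univ.filter
        (fun φ : ↥(P : Subgroup G) →* ℂˣ => nng hV θV ψ φ ≠ 0)).Nonempty := by
      rw [← Finset.card_pos, hYs ψ hψ]
      exact hepos
    obtain ⟨φ, hφ⟩ := hne
    exact ⟨φ, (Finset.mem_filter.mp hφ).2⟩
  have hreg : ∀ g : G, ¬ p ∣ orderOf g → ∀ ψ ∈ Y,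
      (ε : ℂ) * conj ((ψ : G → ℂ) g) = ∑ χ ∈ X, (εX χ : ℂ) * conj ((χ : G → ℂ) g) :=
    fun g hg ψ hψ => exceptional_reg hP hV θV e hepos X Y εX ε hdisj hXp hYp hYu hYs
      (fun h hh => block_orth hM hP hV hB θ hker (X ∪ Y) hset hg h hh) ψ hψ
  have hdvd : Nat.card G / p ^ (Nat.card G).factorization p ∣ Nat.card G :=
    Nat.ordCompl_dvd _ _
  have hconj : ∀ χ ψ : IrrCharacter G,
      (∃ σ : ℂ ≃+* ℂ, σ (Complex.exp (2 * Real.pi * Complex.I /
            ((Nat.card G / p ^ (Nat.card G).factorization p) : ℕ))) =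
          Complex.exp (2 * Real.pi * Complex.I /
            ((Nat.card G / p ^ (Nat.card G).factorization p) : ℕ)) ∧
          (ψ : G → ℂ) = fun g => σ ((χ : G → ℂ) g)) ↔
        ∃ k : ℕ, k.Coprime (Nat.card G) ∧
          k ≡ 1 [MOD Nat.card G / p ^ (Nat.card G).factorization p] ∧
          ∀ g : G, (ψ : G → ℂ) g = (χ : G → ℂ) (g ^ k) :=
    fun χ ψ => Cfsg.Agent.Lib.Helper74_AutExt.conj_iff_pow _ hdvd (χ : G → ℂ) (ψ : G → ℂ)
      (Cfsg.Agent.Lib.Helper3_CharBridge.isCharacter_of_isIrrCharacter χ.2)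
  have hεconj : conj (ε : ℂ) = (ε : ℂ) := map_intCast (starRingEnd ℂ) ε
  have hcY : Nat.card ↥((↑Y : Set (IrrCharacter G))) = Y.card := by
    rw [Nat.card_coe_set_eq, Set.ncard_coe_finset]
  have hcB : Nat.card ↥B = e + Y.card := by
    rw [hset, Nat.card_coe_set_eq, Set.ncard_coe_finset, Finset.card_union_of_disjoint hdisj, hXc]
  refine ⟨↑Y, fun χ hχ => hYB χ (Finset.mem_coe.mp hχ), ?_, ?_, ?_, ?_, ?_, ?_⟩
  · rw [Finset.coe_nonempty, ← Finset.card_pos]
    exact hYpos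
  · intro θ₁ hθ₁ ψ
    have hθ₁Y : θ₁ ∈ Y := Finset.mem_coe.mp hθ₁
    rw [hconj θ₁ ψ, Finset.mem_coe]
    constructor
    · rintro ⟨k, hk, hk1, hψ⟩
      exact twist_mem_Y hP hV θV X Y εX hBXY' hdisj hXp' hvanX hθ₁Y hk hk1 hψ
    · intro hψ
      exact exists_twist_Y hP hV θV X Y εX hBXY' hdisj hXp' hvanX hYu hYne hθ₁Y hψ
  · intro χ hχB hχY ψ hψ
    have hχX : χ ∈ X := by
      rw [hset] at hχB
      rcases Finset.mem_union.mp (Finset.mem_coe.mp hχB) with h | h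
      · exact h
      · exact absurd (Finset.mem_coe.mpr h) hχY
    obtain ⟨k, hk, hk1, hψk⟩ := (hconj χ ψ).mp hψ
    exact twist_eq_of_X hP hV θV χ ψ (εX χ) (hXp' χ hχX) (hvanX χ hχX) hk hk1 hψk
  · rw [hcY]
    exact ⟨e, by rw [mul_comm]; exact hYc.symm⟩
  · rw [hcY, hcB, add_comm]
    congr 1
    exact (Nat.div_eq_of_eq_mul_left hYpos hYc.symm).symm
  · have hδX : ∀ χ ∈ X, (fun χ : IrrCharacter G => if χ ∈ X then εX χ else - ε) χ = εX χ :=
      fun χ hχ => if_pos hχ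
    have hδY : ∀ χ, χ ∉ X → (fun χ : IrrCharacter G => if χ ∈ X then εX χ else - ε) χ = - ε :=
      fun χ hχ => if_neg hχ
    refine ⟨fun χ => if χ ∈ X then εX χ else - ε, ?_, ?_⟩
    · intro χ _
      by_cases hχ : χ ∈ X
      · rw [hδX χ hχ]
        exact (hXp χ hχ).1
      · rw [hδY χ hχ]
        rcases hε with h | h
        · right; rw [h]
        · left; rw [h]; norm_num
    · intro x hx θ₁ hθ₁
      have hθ₁Y : θ₁ ∈ Y := Finset.mem_coe.mp hθ₁
      have hθ₁X : θ₁ ∉ X := fun h => (Finset.disjoint_left.mp hdisj h) hθ₁Y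
      have hBY : B \ ↑Y = ↑X := by
        ext χ
        rw [hset, Set.mem_sdiff, Finset.mem_coe, Finset.mem_coe, Finset.mem_coe,
          Finset.mem_union]
        constructor
        · rintro ⟨h1 | h1, h2⟩
          · exact h1
          · exact absurd h1 h2
        · intro h
          exact ⟨Or.inl h, fun h2 => (Finset.disjoint_left.mp hdisj h) h2⟩
      rw [hBY, finsum_mem_coe_finset, hδY θ₁ hθ₁X]
      have h1 := hreg x hx θ₁ hθ₁Y
      have h2 := congrArg (starRingEnd ℂ) h1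
      rw [map_mul, hεconj, Complex.conj_conj, map_sum] at h2
      have h3 : ∑ χ ∈ X, (((fun χ : IrrCharacter G => if χ ∈ X then εX χ else - ε) χ : ℤ) : ℂ) *
          (χ : G → ℂ) x =
          ∑ χ ∈ X, (starRingEnd ℂ) ((εX χ : ℂ) * conj ((χ : G → ℂ) x)) := by
        refine Finset.sum_congr rfl fun χ hχ => ?_
        rw [hδX χ hχ, map_mul, map_intCast, Complex.conj_conj]
      rw [h3, ← h2]
      push_cast
      ring

end Cfsg.Agent.Lib.Helper16_GenGlue2
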