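import Mathlib
import Cfsg.Prelude.Def_Characters
import Cfsg.Agent.Lib.Helper80_CharBasic
import Cfsg.Agent.Lib.Helper3_CharBridge
import Cfsg.Agent.Lib.Helper75_CharArith
import Cfsg.Agent.Lib.Helper79_Linear
import Cfsg.Agent.Lib.Helper17_H27Defs
import Cfsg.Agent.Lib.Helper33_H27_MULT1
import Cfsg.Agent.Lib.Helper76_H648Defs
import Cfsg.Agent.Lib.Helper16_H648_TAB

set_option autoImplicit false
set_option linter.unusedSectionVars false
set_option linter.unusedVariables false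
open scoped ComplexConjugate

/-!
h648 market (helper76, row S3702), package MULTJ: multiplicities of the linear characters of
`J = ⟨a, b, c⟩` in an irreducible character.  (helper16)
-/

namespace Cfsg.Agent.Lib.Helper16_H648_MULTJ

open Cfsg Cfsg.Agent.Lib.Helper80_CharBasic Cfsg.Agent.Lib.Helper76_H648Defs
  Cfsg.Agent.Lib.Helper16_H648_TAB
open Cfsg.Agent.Lib.Helper17_H27Defs (elt)
open Cfsg.Agent.Lib.Helper33_H27_MULT1 (A3 eltHom pow_val_add)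

/-- the linear character `e ↦ w^(p i + q j + r k)` of `(ℤ/3)³` -/
def lamHom3 (w : ℂˣ) (hw : w ^ 3 = 1) (p q r : ZMod 3) : A3 →* ℂˣ where
  toFun e := w ^ (p * (Multiplicative.toAdd e).1 + q * (Multiplicative.toAdd e).2.1 +
    r * (Multiplicative.toAdd e).2.2).val
  map_one' := by simp
  map_mul' x y := by
    rw [← pow_val_add hw]
    congr 2
    simp only [toAdd_mul, Prod.fst_add, Prod.snd_add]
    ring

section grp
variable {G : Type*} [Group G] [Finite G]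

/-- multiplicity of a general linear character of `⟨a⟩ × ⟨b⟩ × ⟨c⟩` -/
theorem mult_gen {a b c : G} (ha : a ^ 3 = 1) (hb : b ^ 3 = 1) (hc : c ^ 3 = 1)
    (hab : a * b = b * a) (hac : a * c = c * a) (hbc : b * c = c * b)
    (χ : IrrCharacter G) (ζ : ℂ) (hζ : ζ ^ 2 + ζ + 1 = 0) (p q r : ZMod 3) :
    ∃ m : ℕ, ∑ e : ZMod 3 × ZMod 3 × ZMod 3,
      (χ : G → ℂ) (elt a b c e) * ζ ^ (p * e.1 + q * e.2.1 + r * e.2.2).val = 27 * (m : ℂ) := by
  classical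
  have hζ3 : ζ ^ 3 = 1 := by linear_combination (ζ - 1) * hζ
  have hcζ3 : (conj ζ) ^ 3 = 1 := by rw [← map_pow, hζ3, map_one]
  have hcζ0 : conj ζ ≠ 0 := by
    intro h0
    rw [h0] at hcζ3
    norm_num at hcζ3
  set w : ℂˣ := Units.mk0 (conj ζ) hcζ0 with hw
  have hw3 : w ^ 3 = 1 := by
    apply Units.ext
    rw [Units.val_pow_eq_pow_val, Units.val_one, hw, Units.val_mk0, hcζ3]
  set f : A3 →* G := eltHom a b c ha hb hc hab hac hbc with hf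
  set μ : A3 →* ℂˣ := lamHom3 w hw3 p q r with hμ
  have hχ : IsCharacter G (χ : G → ℂ) :=
    Cfsg.Agent.Lib.Helper3_CharBridge.isCharacter_of_isIrrCharacter χ.2
  have hχA : IsCharacter A3 (fun x : A3 => (χ : G → ℂ) (f x)) :=
    Cfsg.Agent.Lib.Helper75_CharArith.isCharacter_comp f hχ
  have hμA : IsCharacter A3 (fun x : A3 => ((μ x : ℂˣ) : ℂ)) :=
    Cfsg.Agent.Lib.Helper3_CharBridge.isCharacter_of_isIrrCharacter
      (Cfsg.Agent.Lib.Helper79_Linear.isIrrCharacter_of_hom μ)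
  obtain ⟨m, hm⟩ := Cfsg.Agent.Lib.Helper75_CharArith.classInner_isCharacter_nat hχA hμA
  refine ⟨m, ?_⟩
  unfold classInner at hm
  have hcard : Nat.card A3 = 27 := by
    rw [Nat.card_eq_fintype_card]
    rfl
  rw [hcard] at hm
  have h27 : ((27 : ℕ) : ℂ) ≠ 0 := by norm_num
  rw [inv_mul_eq_iff_eq_mul₀ h27] at hm
  have hsum : ∑ x : A3, (χ : G → ℂ) (f x) * conj ((μ x : ℂˣ) : ℂ) =
      ∑ e : ZMod 3 × ZMod 3 × ZMod 3,
        (χ : G → ℂ) (elt a b c e) * ζ ^ (p * e.1 + q * e.2.1 + r * e.2.2).val := by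
    refine (Fintype.sum_equiv Multiplicative.ofAdd _ _ fun e => ?_).symm
    congr 1
    rw [hμ]
    simp only [lamHom3, MonoidHom.coe_mk, OneHom.coe_mk, toAdd_ofAdd, Units.val_pow_eq_pow_val, hw,
      Units.val_mk0, map_pow, Complex.conj_conj]
  rw [← hsum, hm]
  push_cast
  ring

end grp

theorem sum3 (f : ZMod 3 → ℂ) : ∑ x, f x = f 0 + f 1 + f 2 := Fin.sum_univ_three f

theorem expand27 (F : ZMod 3 × ZMod 3 × ZMod 3 → ℂ) :
    ∑ e, F e =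
      F (0, 0, 0) + F (0, 0, 1) + F (0, 0, 2) + F (0, 1, 0) + F (0, 1, 1) + F (0, 1, 2) +
      F (0, 2, 0) + F (0, 2, 1) + F (0, 2, 2) + F (1, 0, 0) + F (1, 0, 1) + F (1, 0, 2) +
      F (1, 1, 0) + F (1, 1, 1) + F (1, 1, 2) + F (1, 2, 0) + F (1, 2, 1) + F (1, 2, 2) +
      F (2, 0, 0) + F (2, 0, 1) + F (2, 0, 2) + F (2, 1, 0) + F (2, 1, 1) + F (2, 1, 2) +
      F (2, 2, 0) + F (2, 2, 1) + F (2, 2, 2) := by
  simp only [Fintype.sum_prod_type, sum3]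
  ring

/-! ### the relations of `J₀` in `K₀` -/

set_option maxRecDepth 100000 in
theorem G1_3 : G1 ^ 3 = 1 := Subtype.ext (by decide)
set_option maxRecDepth 100000 in
theorem kB_3 : kB ^ 3 = 1 := Subtype.ext (by decide)
set_option maxRecDepth 100000 in
theorem kC_3 : kC ^ 3 = 1 := Subtype.ext (by decide)
set_option maxRecDepth 100000 in
theorem G1_kB : G1 * kB = kB * G1 := Subtype.ext (by decide)
set_option maxRecDepth 100000 in
theorem G1_kC : G1 * kC = kC * G1 := Subtype.ext (by decide)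
set_option maxRecDepth 100000 in
theorem kB_kC : kB * kC = kC * kB := Subtype.ext (by decide)

section grp2
variable {G : Type*} [Group G] [Finite G] {H J : Subgroup G} {a b c σ u v s : G}

theorem rels (h : Hyp G H J a b c σ u v s) :
    a ^ 3 = 1 ∧ b ^ 3 = 1 ∧ c ^ 3 = 1 ∧ a * b = b * a ∧ a * c = c * a ∧ b * c = c * b := by
  obtain ⟨ψ, hinj, ea, eb, ec, es, eu, ev, et⟩ := exists_psi h
  refine ⟨?_, ?_, ?_, ?_, ?_, ?_⟩
  · rw [← ea, ← map_pow, G1_3, map_one]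
  · rw [← eb, ← map_pow, kB_3, map_one]
  · rw [← ec, ← map_pow, kC_3, map_one]
  · rw [← ea, ← eb, ← map_mul, G1_kB, map_mul]
  · rw [← ea, ← ec, ← map_mul, G1_kC, map_mul]
  · rw [← eb, ← ec, ← map_mul, kB_kC, map_mul]

/-- **MULTJ** -/
theorem multJ (h : Hyp G H J a b c σ u v s) (χ : IrrCharacter G) :
    ∃ (m0 : ℕ) (n1 n2 n3 : ℤ),
      ((χ : G → ℂ) 1 + 6 * (χ : G → ℂ) c + 12 * (χ : G → ℂ) (a * b) + 8 * (χ : G → ℂ) (a * b * c)) / 27
        = m0 ∧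
      -((χ : G → ℂ) c + 4 * (χ : G → ℂ) (a * b) + 4 * (χ : G → ℂ) (a * b * c)) / 9 = n1 ∧
      -(2 * (χ : G → ℂ) c + 5 * (χ : G → ℂ) (a * b) + 2 * (χ : G → ℂ) (a * b * c)) / 9 = n2 ∧
      -((χ : G → ℂ) c + (χ : G → ℂ) (a * b) + (χ : G → ℂ) (a * b * c)) / 3 = n3 := by
  obtain ⟨ha, hb, hc, hab, hac, hbc⟩ := rels h
  -- a primitive cube root of unity
  obtain ⟨ζ, hζ⟩ : ∃ ζ : ℂ, ζ ^ 2 + ζ + 1 = 0 := by
    have hp := Complex.isPrimitiveRoot_exp 3 (by norm_num)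
    refine ⟨Complex.exp (2 * Real.pi * Complex.I / (3 : ℕ)), ?_⟩
    have := hp.geom_sum_eq_zero (by norm_num)
    simp only [Finset.sum_range_succ, Finset.sum_range_zero, pow_zero, pow_one, zero_add] at this
    linear_combination this
  have x000 : (χ : G → ℂ) (elt a b c ((0 : ZMod 3), ((0 : ZMod 3), (0 : ZMod 3)))) =
      (χ : G → ℂ) 1 := by
    simp [elt]
  have x001 : (χ : G → ℂ) (elt a b c ((0 : ZMod 3), ((0 : ZMod 3), (1 : ZMod 3)))) = (χ : G → ℂ) c :=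
    irr_isConj χ (tabJ h _ (by decide))
  have x002 : (χ : G → ℂ) (elt a b c ((0 : ZMod 3), ((0 : ZMod 3), (2 : ZMod 3)))) = (χ : G → ℂ) c :=
    irr_isConj χ (tabJ h _ (by decide))
  have x010 : (χ : G → ℂ) (elt a b c ((0 : ZMod 3), ((1 : ZMod 3), (0 : ZMod 3)))) = (χ : G → ℂ) c :=
    irr_isConj χ (tabJ h _ (by decide))
  have x011 : (χ : G → ℂ) (elt a b c ((0 : ZMod 3), ((1 : ZMod 3), (1 : ZMod 3)))) = (χ : G → ℂ) (a * b) :=
    irr_isConj χ (tabJ h _ (by decide))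
  have x012 : (χ : G → ℂ) (elt a b c ((0 : ZMod 3), ((1 : ZMod 3), (2 : ZMod 3)))) = (χ : G → ℂ) (a * b) :=
    irr_isConj χ (tabJ h _ (by decide))
  have x020 : (χ : G → ℂ) (elt a b c ((0 : ZMod 3), ((2 : ZMod 3), (0 : ZMod 3)))) = (χ : G → ℂ) c :=
    irr_isConj χ (tabJ h _ (by decide))
  have x021 : (χ : G → ℂ) (elt a b c ((0 : ZMod 3), ((2 : ZMod 3), (1 : ZMod 3)))) = (χ : G → ℂ) (a * b) :=
    irr_isConj χ (tabJ h _ (by decide))
  have x022 : (χ : G → ℂ) (elt a b c ((0 : ZMod 3), ((2 : ZMod 3), (2 : ZMod 3)))) = (χ : G → ℂ) (a * b) :=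
    irr_isConj χ (tabJ h _ (by decide))
  have x100 : (χ : G → ℂ) (elt a b c ((1 : ZMod 3), ((0 : ZMod 3), (0 : ZMod 3)))) = (χ : G → ℂ) c :=
    irr_isConj χ (tabJ h _ (by decide))
  have x101 : (χ : G → ℂ) (elt a b c ((1 : ZMod 3), ((0 : ZMod 3), (1 : ZMod 3)))) = (χ : G → ℂ) (a * b) :=
    irr_isConj χ (tabJ h _ (by decide))
  have x102 : (χ : G → ℂ) (elt a b c ((1 : ZMod 3), ((0 : ZMod 3), (2 : ZMod 3)))) = (χ : G → ℂ) (a * b) :=
    irr_isConj χ (tabJ h _ (by decide))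
  have x110 : (χ : G → ℂ) (elt a b c ((1 : ZMod 3), ((1 : ZMod 3), (0 : ZMod 3)))) = (χ : G → ℂ) (a * b) :=
    irr_isConj χ (tabJ h _ (by decide))
  have x111 : (χ : G → ℂ) (elt a b c ((1 : ZMod 3), ((1 : ZMod 3), (1 : ZMod 3)))) = (χ : G → ℂ) (a * b * c) :=
    irr_isConj χ (tabJ h _ (by decide))
  have x112 : (χ : G → ℂ) (elt a b c ((1 : ZMod 3), ((1 : ZMod 3), (2 : ZMod 3)))) = (χ : G → ℂ) (a * b * c) :=
    irr_isConj χ (tabJ h _ (by decide))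
  have x120 : (χ : G → ℂ) (elt a b c ((1 : ZMod 3), ((2 : ZMod 3), (0 : ZMod 3)))) = (χ : G → ℂ) (a * b) :=
    irr_isConj χ (tabJ h _ (by decide))
  have x121 : (χ : G → ℂ) (elt a b c ((1 : ZMod 3), ((2 : ZMod 3), (1 : ZMod 3)))) = (χ : G → ℂ) (a * b * c) :=
    irr_isConj χ (tabJ h _ (by decide))
  have x122 : (χ : G → ℂ) (elt a b c ((1 : ZMod 3), ((2 : ZMod 3), (2 : ZMod 3)))) = (χ : G → ℂ) (a * b * c) :=
    irr_isConj χ (tabJ h _ (by decide))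
  have x200 : (χ : G → ℂ) (elt a b c ((2 : ZMod 3), ((0 : ZMod 3), (0 : ZMod 3)))) = (χ : G → ℂ) c :=
    irr_isConj χ (tabJ h _ (by decide))
  have x201 : (χ : G → ℂ) (elt a b c ((2 : ZMod 3), ((0 : ZMod 3), (1 : ZMod 3)))) = (χ : G → ℂ) (a * b) :=
    irr_isConj χ (tabJ h _ (by decide))
  have x202 : (χ : G → ℂ) (elt a b c ((2 : ZMod 3), ((0 : ZMod 3), (2 : ZMod 3)))) = (χ : G → ℂ) (a * b) :=
    irr_isConj χ (tabJ h _ (by decide))
  have x210 : (χ : G → ℂ) (elt a b c ((2 : ZMod 3), ((1 : ZMod 3), (0 : ZMod 3)))) = (χ : G → ℂ) (a * b) :=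
    irr_isConj χ (tabJ h _ (by decide))
  have x211 : (χ : G → ℂ) (elt a b c ((2 : ZMod 3), ((1 : ZMod 3), (1 : ZMod 3)))) = (χ : G → ℂ) (a * b * c) :=
    irr_isConj χ (tabJ h _ (by decide))
  have x212 : (χ : G → ℂ) (elt a b c ((2 : ZMod 3), ((1 : ZMod 3), (2 : ZMod 3)))) = (χ : G → ℂ) (a * b * c) :=
    irr_isConj χ (tabJ h _ (by decide))
  have x220 : (χ : G → ℂ) (elt a b c ((2 : ZMod 3), ((2 : ZMod 3), (0 : ZMod 3)))) = (χ : G → ℂ) (a * b) :=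
    irr_isConj χ (tabJ h _ (by decide))
  have x221 : (χ : G → ℂ) (elt a b c ((2 : ZMod 3), ((2 : ZMod 3), (1 : ZMod 3)))) = (χ : G → ℂ) (a * b * c) :=
    irr_isConj χ (tabJ h _ (by decide))
  have x222 : (χ : G → ℂ) (elt a b c ((2 : ZMod 3), ((2 : ZMod 3), (2 : ZMod 3)))) = (χ : G → ℂ) (a * b * c) :=
    irr_isConj χ (tabJ h _ (by decide))
  have v0 : (0 : ZMod 3).val = 0 := rfl
  have v1 : (1 : ZMod 3).val = 1 := rfl
  have v2 : (2 : ZMod 3).val = 2 := rfl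
  have a11 : (1 : ZMod 3) + 1 = 2 := by decide
  have a12 : (1 : ZMod 3) + 2 = 0 := by decide
  have a21 : (2 : ZMod 3) + 1 = 0 := by decide
  have a22 : (2 : ZMod 3) + 2 = 1 := by decide
  obtain ⟨m0, hm0⟩ := mult_gen ha hb hc hab hac hbc χ ζ hζ 0 0 0
  obtain ⟨m1, hm1⟩ := mult_gen ha hb hc hab hac hbc χ ζ hζ 1 0 0
  obtain ⟨m2, hm2⟩ := mult_gen ha hb hc hab hac hbc χ ζ hζ 1 1 0
  obtain ⟨m3, hm3⟩ := mult_gen ha hb hc hab hac hbc χ ζ hζ 1 1 1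
  rw [expand27] at hm0 hm1 hm2 hm3
  simp only [mul_zero, zero_mul, one_mul, add_zero, zero_add, a11, a12, a21, a22, v0, v1, v2,
    pow_zero, pow_one, mul_one, x000, x001, x002, x010, x011, x012, x020, x021, x022, x100, x101, x102, x110, x111, x112, x120, x121, x122, x200, x201, x202, x210, x211, x212, x220, x221, x222] at hm0 hm1 hm2 hm3
  have e0 : (χ : G → ℂ) 1 + 6 * (χ : G → ℂ) c + 12 * (χ : G → ℂ) (a * b) +
      8 * (χ : G → ℂ) (a * b * c) = 27 * (m0 : ℂ) := by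
    linear_combination hm0
  have e1 : (χ : G → ℂ) 1 + 3 * (χ : G → ℂ) c - 4 * (χ : G → ℂ) (a * b * c) = 27 * (m1 : ℂ) := by
    linear_combination hm1 - ((χ : G → ℂ) c + 4 * (χ : G → ℂ) (a * b) +
      4 * (χ : G → ℂ) (a * b * c)) * hζ
  have e2 : (χ : G → ℂ) 1 - 3 * (χ : G → ℂ) (a * b) + 2 * (χ : G → ℂ) (a * b * c) =
      27 * (m2 : ℂ) := by
    linear_combination hm2 - (2 * (χ : G → ℂ) c + 5 * (χ : G → ℂ) (a * b) +
      2 * (χ : G → ℂ) (a * b * c)) * hζ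
  have e3 : (χ : G → ℂ) 1 - 3 * (χ : G → ℂ) c + 3 * (χ : G → ℂ) (a * b) -
      (χ : G → ℂ) (a * b * c) = 27 * (m3 : ℂ) := by
    linear_combination hm3 - (3 * (χ : G → ℂ) c + 3 * (χ : G → ℂ) (a * b) +
      3 * (χ : G → ℂ) (a * b * c)) * hζ
  refine ⟨m0, (m1 : ℤ) - m0, (m2 : ℤ) - m0, (m3 : ℤ) - m0, ?_, ?_, ?_, ?_⟩
  · rw [e0]; ring
  · push_cast
    linear_combination (1 / 27 : ℂ) * e1 - (1 / 27 : ℂ) * e0
  · push_cast
    linear_combination (1 / 27 : ℂ) * e2 - (1 / 27 : ℂ) * e0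
  · push_cast
    linear_combination (1 / 27 : ℂ) * e3 - (1 / 27 : ℂ) * e0

end grp2

end Cfsg.Agent.Lib.Helper16_H648_MULTJ
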