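import Mathlib
import Cfsg.Prelude.Def_Characters
import Cfsg.Agent.Lib.Helper76_HIDefs
import Cfsg.Agent.Lib.Helper75_Clifford
import Cfsg.Agent.Lib.Helper17_MultFree

/-!
# hi_packages RMF (S4563 + S4564 market, helper76): `rel_multfree`

Multiplicity-freeness over a cyclic quotient for `B ⊴ A ≤ H`: transport of
`Helper17_MultFree.classInner_res_eq_zero_or_one` to the vocabulary of `Helper76_HIDefs`.
-/

set_option autoImplicit false
open scoped ComplexConjugate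

namespace Cfsg.Agent.Lib.Helper16_HI_RMF

open Cfsg Cfsg.Agent.Lib.Helper76_HIDefs

section fin
variable {H : Type*} [Group H] [Finite H]

omit [Finite H] in
/-- the quotient `A / (B ∩ A)` is cyclic if `A = ⟨g⟩ B` -/
theorem isCyclic_quot (A B : Subgroup H) [hN : (B.subgroupOf A).Normal]
    (hcyc : ∃ g ∈ A, ∀ x ∈ A, ∃ k : ℕ, ∃ b ∈ B, x = g ^ k * b) :
    IsCyclic (↥A ⧸ B.subgroupOf A) := by
  obtain ⟨g, hg, hx⟩ := hcyc
  refine ⟨⟨((⟨g, hg⟩ : ↥A) : ↥A ⧸ B.subgroupOf A), ?_⟩⟩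
  intro y
  induction y using QuotientGroup.induction_on with
  | H x =>
    obtain ⟨k, b, hb, hxb⟩ := hx x.1 x.2
    refine ⟨(k : ℤ), ?_⟩
    show ((⟨g, hg⟩ : ↥A) : ↥A ⧸ B.subgroupOf A) ^ (k : ℤ) = ((x : ↥A) : ↥A ⧸ B.subgroupOf A)
    rw [zpow_natCast, ← QuotientGroup.mk_pow]
    rw [QuotientGroup.eq]
    rw [Subgroup.mem_subgroupOf]
    have : (((⟨g, hg⟩ : ↥A) ^ k)⁻¹ * x : ↥A).1 = b := by
      show ((⟨g, hg⟩ : ↥A) ^ k)⁻¹.1 * x.1 = b
      rw [hxb]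
      simp
    rw [this]
    exact hb

/-! ### RMF: multiplicity-freeness over a cyclic quotient, for `B ⊴ A ≤ H` -/
theorem rel_multfree (A B : Subgroup H) (hBA : B ≤ A)
    (hAN : A ≤ Subgroup.normalizer (B : Set H))
    (hcyc : ∃ g ∈ A, ∀ x ∈ A, ∃ k : ℕ, ∃ b ∈ B, x = g ^ k * b)
    {ξ : ↥A → ℂ} (hξ : Cfsg.IsIrrCharacter ↥A ξ) {μ : ↥B → ℂ} (hμ : Cfsg.IsIrrCharacter ↥B μ) :
    ip (rs A B ξ) μ = 0 ∨ ip (rs A B ξ) μ = 1 := by
  classical
  have hN : (B.subgroupOf A).Normal := (Subgroup.normal_subgroupOf_iff_le_normalizer hBA).2 hAN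
  have hc : IsCyclic (↥A ⧸ B.subgroupOf A) := isCyclic_quot A B hcyc
  let e : ↥(B.subgroupOf A) ≃* ↥B := Subgroup.subgroupOfEquivOfLe hBA
  have : Fintype ↥A := Fintype.ofFinite _
  have : Fintype ↥B := Fintype.ofFinite _
  have : Fintype ↥(B.subgroupOf A) := Fintype.ofFinite _
  have hθ : Cfsg.IsIrrCharacter ↥(B.subgroupOf A) (fun n => μ (e n)) :=
    Cfsg.Agent.Lib.Helper75_Clifford.isIrrCharacter_comp_equiv e hμ
  have key := Cfsg.Agent.Lib.Helper17_MultFree.classInner_res_eq_zero_or_one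
    (G := ↥A) (B.subgroupOf A) hN hc hξ hθ
  have h1 : ip (rs A B ξ) μ =
      Cfsg.classInner (fun n : ↥(B.subgroupOf A) => ξ n) (fun n => μ (e n)) := by
    rw [ip_eq_classInner, ← Cfsg.Agent.Lib.Helper75_Clifford.classInner_comp_equiv e]
    congr 1
    funext n
    have hmem : (e n).1 ∈ A := hBA (e n).2
    rw [rs_apply ξ (e n) hmem]
    congr 1
  rw [h1]
  exact key

end fin

end Cfsg.Agent.Lib.Helper16_HI_RMF
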