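import Mathlib

set_option autoImplicit false

/-!
# Abelian Sylow 2-subgroups of rank 2 with homocyclic structure

`Hyp P` : `P` is an abelian 2-subgroup of odd index of `G` whose elements of order at most 2
form a group of order at most 4.  Consequences (with `N = N_G(P)`, `C = C_G(P)`):
* `Hyp.mem_centralizer_of_fix` : an element of `N` centralizing the involutions of `P` lies in `C`;
* `Hyp.mem_centralizer_of_fix_invol` : an element of `N` centralizing one involution of `P` is in `C`;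
* `Hyp.relIndex_eq_one_or_three`, `Hyp.centralizer_inf_normalizer`, `Hyp.exists_conj`.
`hyp_of_equiv` : the hypothesis holds for a Sylow 2-subgroup isomorphic to `Z/2^m × Z/2^m`.
-/

namespace Cfsg.Agent.Lib.Helper16_Homocyclic

section zmod

theorem zmod_two_torsion (k : ℕ) (a : ZMod (2^(k+1))) (ha : a + a = 0) :
    a = 0 ∨ a = ((2^k : ℕ) : ZMod (2^(k+1))) := by
  have : NeZero (2^(k+1)) := ⟨by positivity⟩
  have hlt := ZMod.val_lt a
  have h2 : ((a.val + a.val : ℕ) : ZMod (2^(k+1))) = 0 := by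
    rw [Nat.cast_add, ZMod.natCast_zmod_val]; exact ha
  rw [ZMod.natCast_eq_zero_iff] at h2
  have h3 : 2^k ∣ a.val := by
    have h2' : 2 * 2^k ∣ 2 * a.val := by
      have e1 : 2^(k+1) = 2 * 2^k := by ring
      have e2 : a.val + a.val = 2 * a.val := by ring
      rw [← e1, ← e2]; exact h2
    exact Nat.dvd_of_mul_dvd_mul_left (by norm_num) h2'
  obtain ⟨j, hj⟩ := h3
  have hj2 : j < 2 := by
    by_contra hcon
    push Not at hcon
    have h4 : 2^(k+1) ≤ a.val := by
      rw [hj, pow_succ]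
      exact Nat.mul_le_mul_left _ hcon
    omega
  interval_cases j
  · left
    have : a.val = 0 := by simpa using hj
    exact (ZMod.val_eq_zero a).mp this
  · right
    rw [← ZMod.natCast_zmod_val a, hj, mul_one]

theorem half_add_half (k : ℕ) :
    ((2^k : ℕ) : ZMod (2^(k+1))) + ((2^k : ℕ) : ZMod (2^(k+1))) = 0 := by
  rw [← Nat.cast_add, ← two_mul, ← pow_succ']
  exact ZMod.natCast_self _

theorem half_ne_zero (k : ℕ) : ((2^k : ℕ) : ZMod (2^(k+1))) ≠ 0 := by
  rw [Ne, ZMod.natCast_eq_zero_iff]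
  intro h
  have := Nat.le_of_dvd (by positivity) h
  have : 2^k < 2^(k+1) := Nat.pow_lt_pow_right (by norm_num) (by omega)
  omega

theorem torsion_cases (k : ℕ) (s t x : ZMod (2^(k+1)) × ZMod (2^(k+1)))
    (hs : s + s = 0) (ht : t + t = 0) (hx : x + x = 0) (hs0 : s ≠ 0) (ht0 : t ≠ 0)
    (hst : s ≠ t) : x = 0 ∨ x = s ∨ x = t ∨ x = s + t := by
  obtain ⟨s1, s2⟩ := s
  obtain ⟨t1, t2⟩ := t
  obtain ⟨x1, x2⟩ := x
  simp only [Prod.mk_add_mk, Prod.mk_eq_zero] at hs ht hx
  have hh := half_add_half k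
  have hne := half_ne_zero k
  have hne' := hne.symm
  rcases zmod_two_torsion k s1 hs.1 with rfl | rfl <;>
  rcases zmod_two_torsion k s2 hs.2 with rfl | rfl <;>
  rcases zmod_two_torsion k t1 ht.1 with rfl | rfl <;>
  rcases zmod_two_torsion k t2 ht.2 with rfl | rfl <;>
  rcases zmod_two_torsion k x1 hx.1 with rfl | rfl <;>
  rcases zmod_two_torsion k x2 hx.2 with rfl | rfl <;>
  simp_all

/-- multiplicative form -/
theorem torsion_cases_mul (m : ℕ) (hm : 1 ≤ m)
    (s t x : Multiplicative (ZMod (2^m) × ZMod (2^m)))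
    (hs : s^2 = 1) (ht : t^2 = 1) (hx : x^2 = 1) (hs0 : s ≠ 1) (ht0 : t ≠ 1)
    (hst : s ≠ t) : x = 1 ∨ x = s ∨ x = t ∨ x = s * t := by
  obtain ⟨k, rfl⟩ : ∃ k, m = k + 1 := ⟨m - 1, by omega⟩
  have conv : ∀ u : Multiplicative (ZMod (2^(k+1)) × ZMod (2^(k+1))), u^2 = 1 →
      Multiplicative.toAdd u + Multiplicative.toAdd u = 0 := by
    intro u hu
    have := congrArg Multiplicative.toAdd hu
    rw [pow_two, toAdd_mul] at this
    exact this
  have h := torsion_cases k (Multiplicative.toAdd s) (Multiplicative.toAdd t)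
    (Multiplicative.toAdd x) (conv s hs) (conv t ht) (conv x hx)
    (fun h => hs0 (Multiplicative.toAdd.injective h))
    (fun h => ht0 (Multiplicative.toAdd.injective h))
    (fun h => hst (Multiplicative.toAdd.injective h))
  rcases h with h | h | h | h
  · exact Or.inl (Multiplicative.toAdd.injective h)
  · exact Or.inr (Or.inl (Multiplicative.toAdd.injective h))
  · exact Or.inr (Or.inr (Or.inl (Multiplicative.toAdd.injective h)))
  · refine Or.inr (Or.inr (Or.inr (Multiplicative.toAdd.injective ?_)))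
    rw [toAdd_mul]; exact h

end zmod

section generic

variable {G : Type*} [Group G]

theorem conj_pow_eq {g s a : G} (hsa : g * s * g⁻¹ = s * a) (hca : Commute g a) (n : ℕ) :
    g^n * s * (g^n)⁻¹ = s * a^n := by
  induction n with
  | zero => simp
  | succ n ih =>
    have : g^(n+1) * s * (g^(n+1))⁻¹ = g * (g^n * s * (g^n)⁻¹) * g⁻¹ := by
      rw [pow_succ']; group
    rw [this, ih]
    have hcan : g * a^n * g⁻¹ = a^n := by
      rw [(hca.pow_right n).eq, mul_inv_cancel_right]
    calc g * (s * a^n) * g⁻¹ = (g * s * g⁻¹) * (g * a^n * g⁻¹) := by group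
      _ = s * a * a^n := by rw [hcan, hsa]
      _ = s * a^(n+1) := by rw [pow_succ', mul_assoc]

theorem conj_sq (n u : G) : n^2 * u * (n^2)⁻¹ = n * (n * u * n⁻¹) * n⁻¹ := by
  rw [pow_two, mul_inv_rev]; simp only [mul_assoc]

theorem conj_injective (n : G) {u v : G} (h : n * u * n⁻¹ = n * v * n⁻¹) : u = v :=
  mul_left_cancel (mul_right_cancel h)

/-- the standing hypothesis -/
structure Hyp (P : Subgroup G) : Prop where
  two : IsPGroup 2 P
  odd : ¬ 2 ∣ P.index
  comm : ∀ x ∈ P, ∀ y ∈ P, x * y = y * x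
  omega : ∀ s ∈ P, ∀ t ∈ P, ∀ x ∈ P, s^2 = 1 → t^2 = 1 → x^2 = 1 → s ≠ 1 → t ≠ 1 → s ≠ t →
    x = 1 ∨ x = s ∨ x = t ∨ x = s * t

variable {P : Subgroup G}

theorem Hyp.le_centralizer (h : Hyp P) : P ≤ Subgroup.centralizer (P : Set G) := by
  intro x hx
  rw [Subgroup.mem_centralizer_iff]
  intro y hy
  exact h.comm y hy x hx

theorem Hyp.odd_relIndex (h : Hyp P) :
    Odd ((Subgroup.centralizer (P : Set G)).relIndex (Subgroup.normalizer (P : Set G))) := by
  have d1 := Subgroup.relIndex_dvd_of_le_left (Subgroup.normalizer (P : Set G)) h.le_centralizer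
  have d2 : P.relIndex (Subgroup.normalizer (P : Set G)) ∣ P.index :=
    Subgroup.relIndex_dvd_index_of_le Subgroup.le_normalizer
  rw [← Nat.not_even_iff_odd, even_iff_two_dvd]
  intro h2
  exact h.odd (dvd_trans h2 (dvd_trans d1 d2))

theorem pow_relIndex_mem_centralizer {n : G} (hn : n ∈ Subgroup.normalizer (P : Set G)) :
    n ^ ((Subgroup.centralizer (P : Set G)).relIndex (Subgroup.normalizer (P : Set G)))
      ∈ Subgroup.centralizer (P : Set G) := by
  have : ((Subgroup.centralizer (P : Set G)).subgroupOf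
      (Subgroup.normalizer (P : Set G))).Normal := by
    rw [← Subgroup.normalizerMonoidHom_ker]; infer_instance
  have h := Subgroup.pow_index_mem ((Subgroup.centralizer (P : Set G)).subgroupOf
      (Subgroup.normalizer (P : Set G))) ⟨n, hn⟩
  rw [Subgroup.mem_subgroupOf] at h
  rw [Subgroup.relIndex]
  simpa using h

theorem Hyp.exists_pow (h : Hyp P) {x : G} (hx : x ∈ P) : ∃ k : ℕ, x^(2^k) = 1 := by
  obtain ⟨k, hk⟩ := h.two ⟨x, hx⟩
  refine ⟨k, ?_⟩
  have := congrArg Subtype.val hk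
  simpa using this

theorem Hyp.exists_invol (h : Hyp P) {z : G} (hz : z ∈ P) (hz1 : z ≠ 1) :
    ∃ j : ℕ, z^(2^j) ≠ 1 ∧ (z^(2^j))^2 = 1 := by
  classical
  have hex := h.exists_pow hz
  have hk := Nat.find_spec hex
  have hk0 : Nat.find hex ≠ 0 := by
    intro h0
    rw [h0, pow_zero, pow_one] at hk
    exact hz1 hk
  refine ⟨Nat.find hex - 1, ?_, ?_⟩
  · exact Nat.find_min hex (by omega)
  · rw [← pow_mul, ← pow_succ, show Nat.find hex - 1 + 1 = Nat.find hex by omega]
    exact hk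

/-- an element of `N(P)` centralizing all involutions of `P` centralizes `P` -/
theorem Hyp.mem_centralizer_of_fix (h : Hyp P) {n : G}
    (hn : n ∈ Subgroup.normalizer (P : Set G))
    (hfix : ∀ x ∈ P, x^2 = 1 → n * x * n⁻¹ = x) : n ∈ Subgroup.centralizer (P : Set G) := by
  have key : ∀ k : ℕ, ∀ x ∈ P, x^(2^k) = 1 → n * x * n⁻¹ = x := by
    intro k
    induction k with
    | zero =>
      intro x _ h1
      rw [pow_zero, pow_one] at h1
      rw [h1, mul_one, mul_inv_cancel]
    | succ k ih =>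
      intro x hx h1
      have hx2 : (x^2)^(2^k) = 1 := by rw [← pow_mul, ← pow_succ']; exact h1
      have e1 := ih (x^2) (P.pow_mem hx 2) hx2
      have hy : n * x * n⁻¹ ∈ P := (Subgroup.mem_normalizer_iff.mp hn x).mp hx
      have hy2 : (n * x * n⁻¹)^2 = x^2 := by rw [conj_pow]; exact e1
      have ht : x⁻¹ * (n * x * n⁻¹) ∈ P := P.mul_mem (P.inv_mem hx) hy
      have ht2 : (x⁻¹ * (n * x * n⁻¹))^2 = 1 := by
        have hc : Commute x⁻¹ (n * x * n⁻¹) := h.comm _ (P.inv_mem hx) _ hy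
        rw [hc.mul_pow, inv_pow, hy2, inv_mul_cancel]
      have hnt := hfix _ ht ht2
      have hct : Commute n (x⁻¹ * (n * x * n⁻¹)) := mul_inv_eq_iff_eq_mul.mp hnt
      have hsa : n * x * n⁻¹ = x * (x⁻¹ * (n * x * n⁻¹)) := by rw [mul_inv_cancel_left]
      have hpow := conj_pow_eq hsa hct
        ((Subgroup.centralizer (P : Set G)).relIndex (Subgroup.normalizer (P : Set G)))
      have hr := pow_relIndex_mem_centralizer hn
      have hrx : n ^ ((Subgroup.centralizer (P : Set G)).relIndex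
          (Subgroup.normalizer (P : Set G))) * x *
          (n ^ ((Subgroup.centralizer (P : Set G)).relIndex
          (Subgroup.normalizer (P : Set G))))⁻¹ = x := by
        have := Subgroup.mem_centralizer_iff.mp hr x hx
        rw [← this, mul_inv_cancel_right]
      rw [hrx] at hpow
      obtain ⟨j, hj⟩ := h.odd_relIndex
      have ht1 : x⁻¹ * (n * x * n⁻¹) = 1 := by
        have h3 : (x⁻¹ * (n * x * n⁻¹)) ^ ((Subgroup.centralizer (P : Set G)).relIndex
            (Subgroup.normalizer (P : Set G))) = 1 := by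
          have : x * 1 = x * (x⁻¹ * (n * x * n⁻¹)) ^ ((Subgroup.centralizer (P : Set G)).relIndex
            (Subgroup.normalizer (P : Set G))) := by rw [mul_one]; exact hpow
          exact (mul_left_cancel this).symm
        rw [hj, pow_succ, pow_mul, ht2, one_pow, one_mul] at h3
        exact h3
      rw [hsa, ht1, mul_one]
  rw [Subgroup.mem_centralizer_iff]
  intro x hx
  obtain ⟨k, hk⟩ := h.exists_pow hx
  have := mul_inv_eq_iff_eq_mul.mp (key k x hx hk)
  exact this.symm

/-- an element of `N(P)` centralizing one involution of `P` centralizes `P` -/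
theorem Hyp.mem_centralizer_of_fix_invol (h : Hyp P) {n t : G}
    (hn : n ∈ Subgroup.normalizer (P : Set G)) (ht : t ∈ P) (ht2 : t^2 = 1) (ht1 : t ≠ 1)
    (hnt : n * t * n⁻¹ = t) : n ∈ Subgroup.centralizer (P : Set G) := by
  have hn2 : n^2 ∈ Subgroup.normalizer (P : Set G) := Subgroup.pow_mem _ hn 2
  have hfix2 : ∀ s ∈ P, s^2 = 1 → n^2 * s * (n^2)⁻¹ = s := by
    intro s hs hs2
    rw [conj_sq]
    by_cases hs1 : s = 1
    · rw [hs1]; simp
    by_cases hst : s = t
    · rw [hst, hnt, hnt]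
    have hs' : n * s * n⁻¹ ∈ P := (Subgroup.mem_normalizer_iff.mp hn s).mp hs
    have hs'2 : (n * s * n⁻¹)^2 = 1 := by rw [conj_pow, hs2, mul_one, mul_inv_cancel]
    have hs'1 : n * s * n⁻¹ ≠ 1 := by
      intro h'
      apply hs1
      apply conj_injective n
      rw [h', mul_one, mul_inv_cancel]
    have hs't : n * s * n⁻¹ ≠ t := by
      intro h'
      apply hst
      apply conj_injective n
      rw [h', hnt]
    rcases h.omega t ht s hs _ hs' ht2 hs2 hs'2 ht1 hs1 (Ne.symm hst) with h1 | h1 | h1 | h1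
    · exact absurd h1 hs'1
    · exact absurd h1 hs't
    · rw [h1, h1]
    · rw [h1]
      calc n * (t * s) * n⁻¹ = (n * t * n⁻¹) * (n * s * n⁻¹) := by group
        _ = t * (t * s) := by rw [hnt, h1]
        _ = s := by rw [← mul_assoc, ← pow_two, ht2, one_mul]
  have hC2 := h.mem_centralizer_of_fix hn2 hfix2
  have hCr := pow_relIndex_mem_centralizer hn
  obtain ⟨j, hj⟩ := h.odd_relIndex
  have hn' : n = (n^2)^(j+1) * (n ^ ((Subgroup.centralizer (P : Set G)).relIndex
      (Subgroup.normalizer (P : Set G))))⁻¹ := by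
    rw [hj, ← pow_mul, show 2 * (j+1) = (2 * j + 1) + 1 by ring, pow_succ (n := 2 * j + 1)]
    group
  rw [hn']
  exact Subgroup.mul_mem _ (Subgroup.pow_mem _ hC2 _) (Subgroup.inv_mem _ hCr)

/-- (ii) -/
theorem Hyp.centralizer_inf_normalizer (h : Hyp P) {z : G} (hz : z ∈ P) (hz1 : z ≠ 1) :
    Subgroup.centralizer ({z} : Set G) ⊓ Subgroup.normalizer (P : Set G)
      = Subgroup.centralizer (P : Set G) := by
  apply le_antisymm
  · rintro n ⟨hnz, hnN⟩
    obtain ⟨j, hj1, hj2⟩ := h.exists_invol hz hz1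
    have hcomm : Commute n z := Subgroup.mem_centralizer_singleton_iff.mp hnz
    have hfix : n * z^(2^j) * n⁻¹ = z^(2^j) := by
      rw [(hcomm.pow_right _).eq, mul_inv_cancel_right]
    exact h.mem_centralizer_of_fix_invol hnN (P.pow_mem hz _) hj2 hj1 hfix
  · apply le_inf
    · apply Subgroup.centralizer_le
      intro x hx
      rw [Set.mem_singleton_iff] at hx
      rw [hx]; exact hz
    · exact Subgroup.centralizer_le_normalizer _

theorem Hyp.ncard_invol_le (h : Hyp P) :
    ({x | x ∈ P ∧ x^2 = 1 ∧ x ≠ 1} : Set G).ncard ≤ 3 := by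
  classical
  by_cases hX : ∃ t, t ∈ ({x | x ∈ P ∧ x^2 = 1 ∧ x ≠ 1} : Set G)
  · obtain ⟨t, ht, ht2, ht1⟩ := hX
    by_cases h2 : ∃ t', t' ∈ ({x | x ∈ P ∧ x^2 = 1 ∧ x ≠ 1} : Set G) ∧ t' ≠ t
    · obtain ⟨t', ⟨ht', ht'2, ht'1⟩, hne⟩ := h2
      have hsub : ({x | x ∈ P ∧ x^2 = 1 ∧ x ≠ 1} : Set G) ⊆
          ((({t, t', t * t'} : Finset G)) : Set G) := by
        rintro x ⟨hx, hx2, hx1⟩
        rcases h.omega t ht t' ht' x hx ht2 ht'2 hx2 ht1 ht'1 (Ne.symm hne) with h1 | h1 | h1 | h1
        · exact absurd h1 hx1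
        all_goals simp [h1]
      calc ({x | x ∈ P ∧ x^2 = 1 ∧ x ≠ 1} : Set G).ncard
          ≤ ((({t, t', t * t'} : Finset G)) : Set G).ncard :=
            Set.ncard_le_ncard hsub (Finset.finite_toSet _)
        _ = ({t, t', t * t'} : Finset G).card := Set.ncard_coe_finset _
        _ ≤ 3 := Finset.card_le_three
    · push Not at h2
      have hsub : ({x | x ∈ P ∧ x^2 = 1 ∧ x ≠ 1} : Set G) ⊆ {t} := by
        intro x hx
        rw [Set.mem_singleton_iff]
        exact h2 x hx
      calc ({x | x ∈ P ∧ x^2 = 1 ∧ x ≠ 1} : Set G).ncard ≤ ({t} : Set G).ncard :=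
            Set.ncard_le_ncard hsub (Set.finite_singleton _)
        _ = 1 := Set.ncard_singleton _
        _ ≤ 3 := by norm_num
  · have : ({x | x ∈ P ∧ x^2 = 1 ∧ x ≠ 1} : Set G) = ∅ := by
      rw [Set.eq_empty_iff_forall_notMem]
      intro x hx
      exact hX ⟨x, hx⟩
    rw [this, Set.ncard_empty]
    norm_num

/-- the orbit map of an involution `t` of `P` under `N/C` is injective; consequences -/
theorem Hyp.orbit (h : Hyp P) [Finite G] {t : G} (ht : t ∈ P) (ht2 : t^2 = 1) (ht1 : t ≠ 1) :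
    (Subgroup.centralizer (P : Set G)).relIndex (Subgroup.normalizer (P : Set G)) ≤ 3 ∧
    ((Subgroup.centralizer (P : Set G)).relIndex (Subgroup.normalizer (P : Set G)) = 3 →
      ∀ s ∈ P, s^2 = 1 → s ≠ 1 → ∃ n ∈ Subgroup.normalizer (P : Set G), n * t * n⁻¹ = s) := by
  classical
  have hXcard := h.ncard_invol_le
  rw [← Nat.card_coe_set_eq] at hXcard
  have hmemX : ∀ n : Subgroup.normalizer (P : Set G),
      (n : G) * t * (n : G)⁻¹ ∈ ({x | x ∈ P ∧ x^2 = 1 ∧ x ≠ 1} : Set G) := by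
    intro n
    refine ⟨(Subgroup.mem_normalizer_iff.mp n.2 t).mp ht, ?_, ?_⟩
    · rw [conj_pow, ht2, mul_one, mul_inv_cancel]
    · intro h'
      apply ht1
      apply conj_injective (n : G)
      rw [h', mul_one, mul_inv_cancel]
  let f : (Subgroup.normalizer (P : Set G) ⧸ (Subgroup.centralizer (P : Set G)).subgroupOf
      (Subgroup.normalizer (P : Set G))) → ({x | x ∈ P ∧ x^2 = 1 ∧ x ≠ 1} : Set G) :=
    fun q => ⟨(q.out : G) * t * (q.out : G)⁻¹, hmemX q.out⟩
  have hf : Function.Injective f := by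
    intro q q' hqq'
    have e : (q.out : G) * t * (q.out : G)⁻¹ = (q'.out : G) * t * (q'.out : G)⁻¹ :=
      congrArg Subtype.val hqq'
    have hmem : (q.out)⁻¹ * q'.out ∈ (Subgroup.centralizer (P : Set G)).subgroupOf
        (Subgroup.normalizer (P : Set G)) := by
      rw [Subgroup.mem_subgroupOf]
      apply h.mem_centralizer_of_fix_invol ((q.out)⁻¹ * q'.out).2 ht ht2 ht1
      have : ((((q.out)⁻¹ * q'.out : Subgroup.normalizer (P : Set G))) : G)
          = (q.out : G)⁻¹ * (q'.out : G) := by simp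
      rw [this]
      calc (q.out : G)⁻¹ * (q'.out : G) * t * ((q.out : G)⁻¹ * (q'.out : G))⁻¹
          = (q.out : G)⁻¹ * ((q'.out : G) * t * (q'.out : G)⁻¹) * (q.out : G) := by group
        _ = (q.out : G)⁻¹ * ((q.out : G) * t * (q.out : G)⁻¹) * (q.out : G) := by rw [e]
        _ = t := by group
    rw [← QuotientGroup.out_eq' q, ← QuotientGroup.out_eq' q', QuotientGroup.eq]
    exact hmem
  have hidx : (Subgroup.centralizer (P : Set G)).relIndex (Subgroup.normalizer (P : Set G))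
      = Nat.card (Subgroup.normalizer (P : Set G) ⧸ (Subgroup.centralizer (P : Set G)).subgroupOf
      (Subgroup.normalizer (P : Set G))) := rfl
  have hfin : Finite ({x | x ∈ P ∧ x^2 = 1 ∧ x ≠ 1} : Set G) := Finite.of_injective _
    Subtype.val_injective
  refine ⟨?_, ?_⟩
  · rw [hidx]
    exact le_trans (Nat.card_le_card_of_injective f hf) hXcard
  · intro h3 s hs hs2 hs1
    have hbij := hf.bijective_of_nat_card_le (by rw [← hidx, h3]; exact hXcard)
    obtain ⟨q, hq⟩ := hbij.2 ⟨s, hs, hs2, hs1⟩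
    exact ⟨q.out, q.out.2, congrArg Subtype.val hq⟩

/-- (i) -/
theorem Hyp.relIndex_eq_one_or_three (h : Hyp P) [Finite G] :
    (Subgroup.centralizer (P : Set G)).relIndex (Subgroup.normalizer (P : Set G)) = 1 ∨
    (Subgroup.centralizer (P : Set G)).relIndex (Subgroup.normalizer (P : Set G)) = 3 := by
  by_cases hX : ∃ t ∈ P, t^2 = 1 ∧ t ≠ 1
  · obtain ⟨t, ht, ht2, ht1⟩ := hX
    have h3 := (h.orbit ht ht2 ht1).1
    obtain ⟨j, hj⟩ := h.odd_relIndex
    omega
  · left
    rw [Subgroup.relIndex_eq_one]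
    intro n hn
    apply h.mem_centralizer_of_fix hn
    intro x hx hx2
    by_cases hx1 : x = 1
    · rw [hx1, mul_one, mul_inv_cancel]
    · exact absurd ⟨x, hx, hx2, hx1⟩ hX

end generic

section transfer

variable {G : Type*} [Group G] [Finite G]

/-- the hypothesis holds for a homocyclic Sylow 2-subgroup of rank 2 -/
theorem hyp_of_equiv (P : Sylow 2 G) (m : ℕ) (hm : 1 ≤ m)
    (e : (P : Subgroup G) ≃* Multiplicative (ZMod (2 ^ m) × ZMod (2 ^ m))) :
    Hyp (P : Subgroup G) := by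
  have : Fact (Nat.Prime 2) := ⟨Nat.prime_two⟩
  let ι : Multiplicative (ZMod (2 ^ m) × ZMod (2 ^ m)) →* G :=
    (P : Subgroup G).subtype.comp e.symm.toMonoidHom
  have hι : Function.Injective ι := (Subgroup.subtype_injective _).comp e.symm.injective
  have hrange : ∀ x ∈ (P : Subgroup G), ∃ q, ι q = x := by
    intro x hx
    exact ⟨e ⟨x, hx⟩, by simp [ι]⟩
  refine ⟨P.2, P.not_dvd_index, ?_, ?_⟩
  · intro x hx y hy
    obtain ⟨q, rfl⟩ := hrange x hx
    obtain ⟨r, rfl⟩ := hrange y hy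
    rw [← map_mul, ← map_mul, mul_comm]
  · intro s hs t ht x hx hs2 ht2 hx2 hs1 ht1 hst
    obtain ⟨q, rfl⟩ := hrange s hs
    obtain ⟨r, rfl⟩ := hrange t ht
    obtain ⟨u, rfl⟩ := hrange x hx
    simp only [← map_pow, ← map_mul, map_eq_one_iff ι hι, ne_eq, hι.eq_iff]
      at hs2 ht2 hx2 hs1 ht1 hst ⊢
    exact torsion_cases_mul m hm q r u hs2 ht2 hx2 hs1 ht1 hst

end transfer

end Cfsg.Agent.Lib.Helper16_Homocyclic
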