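import Mathlib
import Cfsg.Prelude.Def_Blocks
import Cfsg.Prelude.Def_BlockRank
import Cfsg.Agent.Lib.Helper16_KleinBlock
import Cfsg.Agent.Lib.Helper16_PrincipalSection
import Cfsg.Agent.Lib.Helper16_SectionNorm
import Cfsg.Agent.Lib.Helper16_BlockOrth
import Cfsg.Agent.Lib.Helper77_RegProj
import Cfsg.Agent.Lib.Helper81_CharOrth
import Cfsg.Agent.Lib.Helper80_CharBasic
import Cfsg.Agent.Lib.Helper4_KleinSylow
import Cfsg.Agent.Lib.Helper1_Cores
import Cfsg.Agent.S2269

/-!
# The 2-regular rank of the principal 2-block, Klein four Sylow 2-subgroups with one class of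
involutions (helper16)
-/

set_option autoImplicit false
set_option linter.unusedSectionVars false

namespace Cfsg.Agent.Lib.Helper16_KleinRank

open Cfsg Cfsg.Agent.Lib.Helper78_LocalRing Cfsg.Agent.Lib.Helper78_CentralChar
  Cfsg.Agent.Lib.Helper16_Char Cfsg.Agent.Lib.Helper16_KleinBlock
  Cfsg.Agent.Lib.Helper4_KleinSylow Cfsg.Agent.Lib.Helper16_SectionNorm
  Cfsg.Agent.Lib.Helper16_PrincipalSection

open scoped ComplexConjugate

variable {G : Type*} [Group G] [Finite G] {M : Ideal AlgInt}

/-- A Sylow `2`-subgroup of order `4` and exponent `2` is a Klein four group. -/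
theorem isKleinFour_of_card_of_exp (P : Sylow 2 G) (hP : Nat.card P = 4)
    (hexp : ∀ x : P, x * x = 1) : IsKleinFour (P : Subgroup G) := by
  refine ⟨hP, ?_⟩
  have hdvd : Monoid.exponent (P : Subgroup G) ∣ 2 := by
    apply Monoid.exponent_dvd_of_forall_pow_eq_one
    intro x
    rw [pow_two]
    exact hexp x
  rcases (Nat.dvd_prime Nat.prime_two).mp hdvd with h | h
  · exfalso
    have hsub : Subsingleton (P : Subgroup G) := Monoid.exp_eq_one_iff.mp h
    have : Nat.card (P : Subgroup G) = 1 := Nat.card_unique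
    have h4 : Nat.card (P : Subgroup G) = 4 := hP
    omega
  · exact h

/-- With Klein four Sylow `2`-subgroups and one class of involutions, a character of the principal
`2`-block takes at every `2`-singular element its value at an involution. -/
theorem singular_value (hM : IsPModular 2 M) (P : Sylow 2 G) (hP : IsKleinFour (P : Subgroup G))
    (hone : ∀ s t : G, orderOf s = 2 → orderOf t = 2 → IsConj s t)
    (z : G) (hzP : z ∈ (P : Subgroup G)) (hz1 : z ≠ 1)
    (ζ : IrrCharacter G) (hζ : ζ ∈ principalBlock M G) (g : G) (hg : 2 ∣ orderOf g) :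
    (ζ : G → ℂ) g = (ζ : G → ℂ) z := by
  have hz2 : orderOf z = 2 := klein_orderOf P hP z hzP hz1
  obtain ⟨s, y, hsy, hcomm, ⟨k, hk⟩, hy⟩ :=
    Cfsg.Agent.Lib.Helper16_BlockOrth.exists_isPPart Nat.prime_two g
  have hs1 : s ≠ 1 := by
    intro h
    rw [h, one_mul] at hsy
    rw [hsy] at hy
    exact hy hg
  have hs2 : orderOf s = 2 := by
    have hpow : s ^ 2 ^ k = 1 := by rw [← hk]; exact pow_orderOf_eq_one s
    obtain ⟨w, hwP, hsw⟩ := Cfsg.Agent.S2269.exists_conj_mem_sylow P s k hpow
    have hw1 : w ≠ 1 := by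
      intro h
      rw [h] at hsw
      exact hs1 (isConj_one_left.mp hsw)
    have hw2 : orderOf w = 2 := klein_orderOf P hP w hwP hw1
    obtain ⟨t, ht⟩ := isConj_iff.mp hsw
    rw [← hw2, ← ht]
    exact ((MulAut.conj t).orderOf_eq s).symm
  obtain ⟨t, ht⟩ := isConj_iff.mp (hone z s hz2 hs2)
  -- `g = t (z y') t⁻¹` with `y' = t⁻¹ y t`
  set y' := t⁻¹ * y * t with hy'
  have hgt : g = t * (z * y') * t⁻¹ := by
    rw [← hsy, ← ht, hy']
    group
  have hzy' : z * y' = y' * z := by
    have h1 : s * y = y * s := hcomm.eq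
    rw [← ht] at h1
    rw [hy']
    calc z * (t⁻¹ * y * t) = t⁻¹ * ((t * z * t⁻¹) * y) * t := by group
      _ = t⁻¹ * (y * (t * z * t⁻¹)) * t := by rw [h1]
      _ = t⁻¹ * y * t * z := by group
  have hy'ord : ¬ 2 ∣ orderOf y' := by
    have : orderOf y' = orderOf y := by
      rw [hy']
      have := (MulAut.conj t⁻¹).orderOf_eq y
      simpa using this
    rw [this]
    exact hy
  have hy'H : y' ∈ Subgroup.centralizer ({z} : Set G) := by
    rw [Subgroup.mem_centralizer_iff]
    intro k' hk'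
    rw [Set.mem_singleton_iff] at hk'
    rw [hk']
    exact hzy'
  obtain ⟨⟨k₀, hk₀⟩, -⟩ := centralizer_normal_complement P hP z hzP hz1
  have hy'K : (⟨y', hy'H⟩ : Subgroup.centralizer ({z} : Set G)) ∈
      pPrimeCore 2 (Subgroup.centralizer ({z} : Set G)) := by
    apply mem_of_index_pow Nat.prime_two _ hk₀
    rw [← Subgroup.orderOf_coe]
    exact hy'ord
  have hv : y' ∈ centralizerPPrimeCore 2 z := ⟨⟨y', hy'H⟩, hy'K, rfl⟩
  rw [hgt, isIrrCharacter_isClassFunction ζ.2 (z * y') t]
  exact principal_mul_centralizerPPrimeCore hM z ⟨1, by rw [hz2, pow_one]⟩ y' hv ζ hζ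

/-- **The principal `2`-block has `2`-regular rank `3`** for Klein four Sylow `2`-subgroups with
one class of involutions. -/
theorem klein_blockRank (hM : IsPModular 2 M) (P : Sylow 2 G)
    (hP : IsKleinFour (P : Subgroup G))
    (hone : ∀ s t : G, orderOf s = 2 → orderOf t = 2 → IsConj s t) :
    blockRank 2 (principalBlock M G) = 3 := by
  classical
  have hMp := isPrime_of_isPModular hM
  obtain ⟨ζ₂, ζ₃, ζ₄, ε, hε, h21, h31, h23, h24, h34, hB, hinv, -, -, -, hrel⟩ :=
    klein_principal_block M hM P hP hone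
  -- an involution of `P`
  obtain ⟨z, hzP, hz1⟩ : ∃ z : G, z ∈ (P : Subgroup G) ∧ z ≠ 1 := by
    by_contra hcon
    push Not at hcon
    have hbot : (P : Subgroup G) = ⊥ := (Subgroup.eq_bot_iff_forall _).mpr hcon
    have h4 := hP.card_four
    rw [hbot, Subgroup.card_bot] at h4
    omega
  have hz2 : orderOf z = 2 := klein_orderOf P hP z hzP hz1
  obtain ⟨hz₂, hz₃, hz₄⟩ := hinv z hz2
  set e₁ : IrrCharacter G := Cfsg.Agent.Lib.Helper80_CharBasic.oneIrr G with he₁def
  have he₁val : ∀ g : G, (e₁ : G → ℂ) g = 1 := fun g => rfl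
  have hmemB : ∀ w : IrrCharacter G, w ∈ principalBlock M G ↔
      w = e₁ ∨ w = ζ₂ ∨ w = ζ₃ ∨ w = ζ₄ := by
    intro w
    rw [hB]
    constructor
    · rintro (h | h | h | h)
      · exact Or.inl (Subtype.ext h)
      · exact Or.inr (Or.inl h)
      · exact Or.inr (Or.inr (Or.inl h))
      · exact Or.inr (Or.inr (Or.inr h))
    · rintro (h | h | h | h)
      · left; rw [h]; rfl
      · exact Or.inr (Or.inl h)
      · exact Or.inr (Or.inr (Or.inl h))
      · exact Or.inr (Or.inr (Or.inr h))
  have h12 : e₁ ≠ ζ₂ := fun h => h21 (by rw [← h]; rfl)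
  have h13 : e₁ ≠ ζ₃ := fun h => h31 (by rw [← h]; rfl)
  have h14 : e₁ ≠ ζ₄ := by
    intro h
    rw [← h, he₁val] at hz₄
    norm_num at hz₄
  -- values on `2`-singular elements
  have hsing : ∀ (w : IrrCharacter G), w ∈ principalBlock M G → ∀ g : G, 2 ∣ orderOf g →
      (w : G → ℂ) g = (w : G → ℂ) z :=
    fun w hw g hg => singular_value hM P hP hone z hzP hz1 w hw g hg
  have hε2 : (ε : ℂ) * (ε : ℂ) = 1 := by
    rcases hε with h | h
    · rw [h]; norm_num
    · rw [h]; norm_num
  set f : IrrCharacter G → (G → ℂ) := fun χ => pRegularPart 2 (χ : G → ℂ) with hf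
  have hfreg : ∀ (χ : IrrCharacter G) (g : G), ¬ 2 ∣ orderOf g → f χ g = (χ : G → ℂ) g :=
    fun χ g hg => Cfsg.Agent.Lib.Helper77_RegProj.pRegularPart_of_reg _ hg
  have hfsing : ∀ (χ : IrrCharacter G) (g : G), 2 ∣ orderOf g → f χ g = 0 :=
    fun χ g hg => Cfsg.Agent.Lib.Helper77_RegProj.pRegularPart_of_sing _ hg
  -- the relation
  have hf4 : f ζ₄ = f e₁ + f ζ₂ + (ε : ℂ) • f ζ₃ := by
    funext g
    by_cases hg : 2 ∣ orderOf g
    · simp only [Pi.add_apply, Pi.smul_apply, smul_eq_mul, hfsing _ g hg]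
      ring
    · simp only [Pi.add_apply, Pi.smul_apply, smul_eq_mul, hfreg _ g hg]
      have hodd : Odd (orderOf g) := by
        rw [← Nat.not_even_iff_odd, even_iff_two_dvd]
        exact hg
      have := hrel g hodd
      rw [he₁val]
      linear_combination (-1 : ℂ) * this
  -- the spanning family
  let w : Fin 3 → (G → ℂ) := ![f e₁, f ζ₂, f ζ₃]
  have hspan : Submodule.span ℂ (f '' principalBlock M G) = Submodule.span ℂ (Set.range w) := by
    apply le_antisymm
    · apply Submodule.span_le.mpr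
      rintro _ ⟨χ, hχ, rfl⟩
      have h0 : f e₁ ∈ Submodule.span ℂ (Set.range w) :=
        Submodule.subset_span ⟨0, rfl⟩
      have h1 : f ζ₂ ∈ Submodule.span ℂ (Set.range w) :=
        Submodule.subset_span ⟨1, rfl⟩
      have h2 : f ζ₃ ∈ Submodule.span ℂ (Set.range w) :=
        Submodule.subset_span ⟨2, rfl⟩
      rcases (hmemB χ).mp hχ with h | h | h | h
      · rw [h]; exact h0
      · rw [h]; exact h1
      · rw [h]; exact h2
      · rw [h, hf4]
        exact Submodule.add_mem _ (Submodule.add_mem _ h0 h1) (Submodule.smul_mem _ _ h2)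
    · apply Submodule.span_le.mpr
      rintro _ ⟨i, rfl⟩
      apply Submodule.subset_span
      fin_cases i
      · exact ⟨e₁, (hmemB e₁).mpr (Or.inl rfl), rfl⟩
      · exact ⟨ζ₂, (hmemB ζ₂).mpr (Or.inr (Or.inl rfl)), rfl⟩
      · exact ⟨ζ₃, (hmemB ζ₃).mpr (Or.inr (Or.inr (Or.inl rfl))), rfl⟩
  -- linear independence
  have hli : LinearIndependent ℂ w := by
    rw [Fintype.linearIndependent_iff]
    intro c hc
    rw [Fin.sum_univ_three] at hc
    have hc' : c 0 • f e₁ + c 1 • f ζ₂ + c 2 • f ζ₃ = 0 := hc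
    set κ : ℂ := c 0 + c 1 + c 2 * (ε : ℂ) with hκ
    -- the four irreducible characters
    let u : Fin 4 → IrrCharacter G := ![e₁, ζ₂, ζ₃, ζ₄]
    have hu : Function.Injective u := by
      intro i j hij
      fin_cases i <;> fin_cases j <;> first
        | rfl
        | (exfalso; simp only [u] at hij; first
            | exact h12 hij | exact h12 hij.symm | exact h13 hij | exact h13 hij.symm
            | exact h14 hij | exact h14 hij.symm | exact h23 hij | exact h23 hij.symm
            | exact h24 hij | exact h24 hij.symm | exact h34 hij | exact h34 hij.symm)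
    have hli4 := (Cfsg.Agent.Lib.Helper81_CharOrth.linearIndependent_irr (G := G)).comp u hu
    rw [Fintype.linearIndependent_iff] at hli4
    have hcomb : ∑ i, (![4 * c 0 - κ, 4 * c 1 - κ, 4 * c 2 - κ * (ε : ℂ), κ] : Fin 4 → ℂ) i •
        ((fun χ : IrrCharacter G => (χ : G → ℂ)) ∘ u) i = 0 := by
      rw [Fin.sum_univ_four]
      funext g
      simp only [u, Function.comp_apply, Matrix.cons_val_zero, Matrix.cons_val_one,
        Matrix.cons_val_two, Matrix.cons_val_three, Matrix.head_cons, Matrix.tail_cons,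
        Pi.add_apply, Pi.smul_apply, smul_eq_mul, Pi.zero_apply]
      have hcg := congrFun hc' g
      simp only [Pi.add_apply, Pi.smul_apply, smul_eq_mul, Pi.zero_apply] at hcg
      by_cases hg : 2 ∣ orderOf g
      · rw [hsing e₁ ((hmemB e₁).mpr (Or.inl rfl)) g hg,
          hsing ζ₂ ((hmemB ζ₂).mpr (Or.inr (Or.inl rfl))) g hg,
          hsing ζ₃ ((hmemB ζ₃).mpr (Or.inr (Or.inr (Or.inl rfl)))) g hg,
          hsing ζ₄ ((hmemB ζ₄).mpr (Or.inr (Or.inr (Or.inr rfl)))) g hg,
          he₁val, hz₂, hz₃, hz₄, hκ]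
        linear_combination (-(c 0 + c 1 + c 2 * (ε : ℂ))) * hε2
      · rw [hfreg _ g hg, hfreg _ g hg, hfreg _ g hg] at hcg
        have hodd : Odd (orderOf g) := by
          rw [← Nat.not_even_iff_odd, even_iff_two_dvd]
          exact hg
        have hr := hrel g hodd
        rw [he₁val] at hcg ⊢
        linear_combination 4 * hcg - κ * hr
    have hall := hli4 _ hcomb
    have hκ0 : κ = 0 := by simpa using hall 3
    have h0 : 4 * c 0 - κ = 0 := by simpa using hall 0
    have h1 : 4 * c 1 - κ = 0 := by simpa using hall 1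
    have h2 : 4 * c 2 - κ * (ε : ℂ) = 0 := by simpa using hall 2
    rw [hκ0] at h0 h1 h2
    intro i
    fin_cases i
    · show c 0 = 0
      linear_combination (1 / 4 : ℂ) * h0
    · show c 1 = 0
      linear_combination (1 / 4 : ℂ) * h1
    · show c 2 = 0
      linear_combination (1 / 4 : ℂ) * h2
  unfold blockRank
  have hspan' : Submodule.span ℂ ((fun χ : IrrCharacter G => pRegularPart 2 (χ : G → ℂ)) ''
      principalBlock M G) = Submodule.span ℂ (Set.range w) := hspan
  rw [hspan', finrank_span_eq_card hli]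
  rfl

end Cfsg.Agent.Lib.Helper16_KleinRank
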