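import Mathlib
import Cfsg.Prelude.Def_Characters
import Cfsg.Prelude.Def_Blocks
import Cfsg.Agent.Lib.Helper23_ZStarB
import Cfsg.Agent.Lib.Helper25_AbDual
import Cfsg.Agent.Lib.Helper57_CTHyp
import Cfsg.Agent.Lib.Helper16_BrauerSetup
import Cfsg.Agent.Lib.Helper16_BrauerMain
import Cfsg.Agent.Lib.Helper16_BrauerFinal
import Cfsg.Agent.Lib.Helper16_SelfCent

/-!
# M11-BR: Brauer's theorem for a self-centralizing Sylow subgroup of prime order, degree form
(helper16, package of helper53's cluster S4429 / S0434 / S0435)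
-/

set_option autoImplicit false

namespace Cfsg.Agent.Lib.Helper16_M11_BR

open Cfsg Cfsg.Agent.Lib.Helper16_BrauerSetup Cfsg.Agent.Lib.Helper16_BrauerMain
  Cfsg.Agent.Lib.Helper16_BrauerFinal
open scoped ComplexConjugate

variable {G : Type*} [Group G] [Finite G]

set_option linter.unusedSectionVars false in
/-- M11-BR (M, ~300 lines, for someone who knows Helper16_Gen*): Brauer's theorem on blocks of defect one for a
self-centralizing Sylow subgroup of prime order, in degree form.  GENERAL (any finite group). -/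
theorem BR (p : ℕ) [Fact p.Prime] (P : Sylow p G) (hP : Nat.card P = p)
    (hC : Subgroup.centralizer ((P : Subgroup G) : Set G) = (P : Subgroup G))
    (e : ℕ) (he : Nat.card (Subgroup.normalizer ((P : Subgroup G) : Set G)) = p * e) :
    ∃ (X Y : Finset (IrrCharacter G)) (s : IrrCharacter G → ℤ) (ε : ℤ),
      Disjoint X Y ∧ X.card = e ∧ e * Y.card = p - 1 ∧
      (∀ χ : IrrCharacter G, ¬ p ∣ charDegree (χ : G → ℂ) ↔ χ ∈ X ∨ χ ∈ Y) ∧
      (∀ χ ∈ X, (s χ = 1 ∨ s χ = -1) ∧ (charDegree (χ : G → ℂ) : ℤ) ≡ s χ [ZMOD p]) ∧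
      (ε = 1 ∨ ε = -1) ∧
      (∀ ψ ∈ Y, (charDegree (ψ : G → ℂ) : ℤ) ≡ ε * e [ZMOD p]) ∧
      (∀ ψ ∈ Y, ε * (charDegree (ψ : G → ℂ) : ℤ) =
        ∑ χ ∈ X, s χ * (charDegree (χ : G → ℂ) : ℤ)) := by
  classical
  have hp : p.Prime := Fact.out
  let _ : Fintype G := Fintype.ofFinite G
  let _ : Fintype ↥(P : Subgroup G) := Fintype.ofFinite _
  have hfin : Finite (↥(P : Subgroup G) →* ℂˣ) :=
    Cfsg.Agent.Lib.Helper25_AbDual.finite_hom (comm_of_card P hP)
  let _ : Fintype (↥(P : Subgroup G) →* ℂˣ) := Fintype.ofFinite _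
  obtain ⟨M, hM⟩ := Cfsg.Agent.Lib.Helper23_ZStarB.exists_pModular p hp
  -- the index
  have he' : (Subgroup.centralizer ((P : Subgroup G) : Set G)).relIndex
      (Subgroup.normalizer ((P : Subgroup G) : Set G)) = e := by
    rw [hC]
    have hle : (P : Subgroup G) ≤ Subgroup.normalizer ((P : Subgroup G) : Set G) :=
      Subgroup.le_normalizer
    have h1 := Subgroup.relIndex_mul_relIndex (⊥ : Subgroup G) (P : Subgroup G)
      (Subgroup.normalizer ((P : Subgroup G) : Set G)) bot_le hle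
    have hP' : Nat.card (P : Subgroup G) = p := hP
    rw [Subgroup.relIndex_bot_left, Subgroup.relIndex_bot_left, he, hP'] at h1
    exact Nat.eq_of_mul_eq_mul_left hp.pos h1
  obtain ⟨X, Y, εX, ε, hB, hdisj, hXc, hYc, hXp, hε, hYp, hYu, hYs⟩ :=
    brauer_structure P hM hP e he' (Cfsg.Agent.Lib.Helper57_CTHyp.ct_hyp p P hP)
  have hepos : 0 < e := by
    rcases Nat.eq_zero_or_pos e with h | h
    · rw [h, zero_mul] at hYc
      have := hp.two_le
      omega
    · exact h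
  refine ⟨X, Y, εX, ε, hdisj, hXc, hYc, ?_, ?_, hε, ?_, ?_⟩
  · intro χ
    rw [← Cfsg.Agent.Lib.Helper16_SelfCent.mem_principalBlock_iff hM hP hC χ]
    exact hB χ
  · intro χ hχ
    obtain ⟨h1, h2⟩ := hXp χ hχ
    exact ⟨h1, degree_X P hP χ (εX χ) h2⟩
  · intro ψ hψ
    exact degree_Y P hP ψ ε e (hYp ψ hψ) (hYs ψ hψ)
  · intro ψ hψ
    have hg : ¬ p ∣ orderOf (1 : G) := by
      rw [orderOf_one]
      exact fun h => hp.one_lt.ne' (Nat.dvd_one.mp h)
    have h1 := exceptional_reg P hM hP e hepos X Y εX ε hB hdisj hXp hYp hYu hYs hg ψ hψ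
    have h2 : ((ε * (charDegree (ψ : G → ℂ) : ℤ) : ℤ) : ℂ) =
        ((∑ χ ∈ X, εX χ * (charDegree (χ : G → ℂ) : ℤ) : ℤ) : ℂ) := by
      push_cast
      rw [charDegree_cast ψ]
      have h3 : conj ((ψ : G → ℂ) 1) = (ψ : G → ℂ) 1 := by
        rw [← charDegree_cast ψ, Complex.conj_natCast]
      rw [h3] at h1
      rw [h1]
      refine Finset.sum_congr rfl fun χ _ => ?_
      rw [charDegree_cast χ, ← charDegree_cast χ, Complex.conj_natCast]
    exact_mod_cast h2

end Cfsg.Agent.Lib.Helper16_M11_BR
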