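import Mathlib
import Cfsg.Prelude.Def_Blocks
import Cfsg.Prelude.Def_BlockLocal
import Cfsg.Prelude.Def_BrauerPairs
import Cfsg.Prelude.Def_BlockFusion
import Cfsg.Agent.Lib.Helper78_LocalRing
import Cfsg.Agent.Lib.Helper78_CentralChar
import Cfsg.Agent.Lib.Helper78_Osima
import Cfsg.Agent.Lib.Helper78_CharFacts
import Cfsg.Agent.Lib.Helper78_AlgHom
import Cfsg.Agent.Lib.Helper78_BrauerMap
import Cfsg.Agent.Lib.Helper78_BrDecomp
import Cfsg.Agent.Lib.Helper78_ExtConv
import Cfsg.Agent.Lib.Helper78_SecondMain
import Cfsg.Agent.Lib.Helper78_BrauerPairs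
import Cfsg.Agent.Lib.Helper78_Transport
import Cfsg.Agent.Lib.Helper78_NilpotentPrincipal
import Cfsg.Agent.Lib.Helper35_FrobeniusNPC
import Cfsg.Agent.Lib.Helper80_CharBasic

/-!
# The fusion system of the principal block (helper78)

* `blockCoeff_principal_res`: the Brauer image at a `p`-subgroup `Q` of the idempotent of the
  principal block of `G` is congruent, coefficient by coefficient, to the idempotent of the
  principal block of `C_G(Q)`.
* `isNormalSubpair_principal`, `subpairLE_principal`: inclusion of principal Brauer pairs.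
* `conjBlock_principal`: conjugates of principal blocks are principal.
* `principal_fusion` (S4681).
-/

set_option autoImplicit false
set_option linter.unusedSectionVars false

namespace Cfsg.Agent.Lib.Helper78_PrincipalFusion

open Cfsg Cfsg.Agent.Lib.Helper78_LocalRing Cfsg.Agent.Lib.Helper78_CentralChar
  Cfsg.Agent.Lib.Helper78_Osima Cfsg.Agent.Lib.Helper78_CharFacts
  Cfsg.Agent.Lib.Helper78_AlgHom
  Cfsg.Agent.Lib.Helper78_BrauerMap Cfsg.Agent.Lib.Helper78_BrDecomp
  Cfsg.Agent.Lib.Helper78_ExtConv Cfsg.Agent.Lib.Helper78_SecondMain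
  Cfsg.Agent.Lib.Helper78_BrauerPairs Cfsg.Agent.Lib.Helper78_Transport
  Cfsg.Agent.Lib.Helper78_NilpotentPrincipal
  Cfsg.Agent.Lib.Helper35_FrobeniusNPC
  Cfsg.Agent.Lib.Helper80_CharBasic

universe u

variable {G : Type u} [Group G] {M : Ideal AlgInt} {p : ℕ}

theorem isPBlock_principal (G : Type u) [Group G] : IsPBlock M (principalBlock M G) :=
  ⟨oneIrr G, rfl⟩

/-- The central character of `ξ` on the Brauer image at `Q` of the principal block idempotent
is congruent to `1` or `0` according as `ξ` lies in the principal block of `C_G(Q)` or not. -/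
theorem omega_res_principal [Fintype G] [Fact p.Prime] (hM : IsPModular p M) (Q : Subgroup G)
    (hQ : IsPGroup p Q) [Fintype (Subgroup.centralizer (Q : Set G))]
    (ξ : IrrCharacter (Subgroup.centralizer (Q : Set G))) :
    MemLocalIdeal M (omega (ξ : Subgroup.centralizer (Q : Set G) → ℂ)
      (res (Subgroup.centralizer (Q : Set G)) (blockCoeff (principalBlock M G))) -
        (principalBlock M (Subgroup.centralizer (Q : Set G))).indicator (fun _ => (1 : ℂ)) ξ) := by
  classical
  have hMp := isPrime_of_isPModular hM
  have hcG := Cfsg.Agent.Lib.Helper78_CharFacts.charFacts (G := G)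
  have hPG : IsPBlock M (principalBlock M G) := isPBlock_principal G
  have hPC : IsPBlock M (principalBlock M (Subgroup.centralizer (Q : Set G))) :=
    isPBlock_principal _
  have hec : IsClassFunction G (blockCoeff (principalBlock M G)) := blockCoeff_isClassFunction _
  have heR : ∀ g, MemLocalRing M (blockCoeff (principalBlock M G) g) := osima_block hcG hMp hPG
  set cc := res (Subgroup.centralizer (Q : Set G)) (blockCoeff (principalBlock M G)) with hcc_def
  have hcc : IsClassFunction (Subgroup.centralizer (Q : Set G)) cc :=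
    res_isClassFunction _ (fun q _ x => hec x q)
  have hcR : ∀ c, MemLocalRing M (cc c) := res_memLocalRing _ heR
  have hidem : ∀ c, MemLocalIdeal M (conv cc cc c - cc c) := by
    intro c
    have := br_blockCoeff_idem hM hQ (le_refl _) hPG (H := Subgroup.centralizer (Q : Set G)) c
    rwa [br_eq_res] at this
  by_cases hξ : ξ ∈ principalBlock M (Subgroup.centralizer (Q : Set G))
  · rw [Set.indicator_of_mem hξ]
    have h1 := ((isBrauerPairOf_principal_iff hM Q hQ _ hPC).mpr rfl).2.2 ξ hξ
    rwa [brauerOmega_eq_omega] at h1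
  · rw [Set.indicator_of_notMem hξ, sub_zero]
    rcases omega_idem_dichotomy hMp hcc hcR hidem ξ.2 with h0 | h1
    · exact h0
    · exfalso
      apply hξ
      have hpair : IsBrauerPairOf p M (principalBlock M G) Q
          (blockOf M (ξ : Subgroup.centralizer (Q : Set G) → ℂ)) := by
        refine ⟨⟨hQ, isPBlock_blockOf ξ⟩, hPG, fun ξ' hξ' => ?_⟩
        have h2 := memLocalIdeal_brauerOmega_sub hMp Q
          (isPBlock_sameBlock hMp (isPBlock_blockOf ξ) hξ' (mem_blockOf_self hMp ξ)) hec heR
        rw [brauerOmega_eq_omega, brauerOmega_eq_omega] at h2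
        rw [brauerOmega_eq_omega]
        have h3 := memLocalIdeal_add hMp h2 h1
        have h4 : omega (ξ' : Subgroup.centralizer (Q : Set G) → ℂ) cc -
            omega (ξ : Subgroup.centralizer (Q : Set G) → ℂ) cc +
            (omega (ξ : Subgroup.centralizer (Q : Set G) → ℂ) cc - 1) =
            omega (ξ' : Subgroup.centralizer (Q : Set G) → ℂ) cc - 1 := by ring
        rwa [h4] at h3
      have := (isBrauerPairOf_principal_iff hM Q hQ _ (isPBlock_blockOf ξ)).mp hpair
      rw [← this]
      exact mem_blockOf_self hMp ξ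

/-- The Brauer image at `Q` of the principal block idempotent of `G` is congruent, coefficient by
coefficient, to the principal block idempotent of `C_G(Q)`. -/
theorem blockCoeff_principal_res [Fintype G] [Fact p.Prime] (hM : IsPModular p M)
    (Q : Subgroup G) (hQ : IsPGroup p Q) (c : Subgroup.centralizer (Q : Set G)) :
    MemLocalIdeal M (blockCoeff (principalBlock M G) (c : G) -
      blockCoeff (principalBlock M (Subgroup.centralizer (Q : Set G))) c) := by
  classical
  have := Fintype.ofFinite (Subgroup.centralizer (Q : Set G))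
  have hMp := isPrime_of_isPModular hM
  have hcG := Cfsg.Agent.Lib.Helper78_CharFacts.charFacts (G := G)
  have hcC := Cfsg.Agent.Lib.Helper78_CharFacts.charFacts (G := Subgroup.centralizer (Q : Set G))
  have hPG : IsPBlock M (principalBlock M G) := isPBlock_principal G
  have hPC : IsPBlock M (principalBlock M (Subgroup.centralizer (Q : Set G))) :=
    isPBlock_principal _
  have hec : IsClassFunction G (blockCoeff (principalBlock M G)) := blockCoeff_isClassFunction _
  have heR : ∀ g, MemLocalRing M (blockCoeff (principalBlock M G) g) := osima_block hcG hMp hPG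
  set cc := res (Subgroup.centralizer (Q : Set G)) (blockCoeff (principalBlock M G)) with hcc_def
  have hcc : IsClassFunction (Subgroup.centralizer (Q : Set G)) cc :=
    res_isClassFunction _ (fun q _ x => hec x q)
  have hcR : ∀ c, MemLocalRing M (cc c) := res_memLocalRing _ heR
  have hidem : ∀ c, MemLocalIdeal M (conv cc cc c - cc c) := by
    intro c
    have := br_blockCoeff_idem hM hQ (le_refl _) hPG (H := Subgroup.centralizer (Q : Set G)) c
    rwa [br_eq_res] at this
  set S := principalBlock M (Subgroup.centralizer (Q : Set G)) with hS_def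
  have hSclosed : ∀ χ ∈ S, ∀ ψ : IrrCharacter (Subgroup.centralizer (Q : Set G)),
      SameBlock M (χ : Subgroup.centralizer (Q : Set G) → ℂ) (ψ : Subgroup.centralizer (Q : Set G) → ℂ) → ψ ∈ S :=
    fun _ hχ _ h => isPBlock_mem_of_sameBlock hMp hPC hχ h
  have hfc : IsClassFunction (Subgroup.centralizer (Q : Set G)) (blockCoeff S) :=
    blockCoeff_isClassFunction S
  have hfR : ∀ c, MemLocalRing M (blockCoeff S c) := osima_block hcC hMp hPC
  have hom : ∀ ξ : IrrCharacter (Subgroup.centralizer (Q : Set G)),
      MemLocalIdeal M (omega (ξ : Subgroup.centralizer (Q : Set G) → ℂ) cc - S.indicator (fun _ => (1 : ℂ)) ξ) :=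
    fun ξ => omega_res_principal hM Q hQ ξ
  have hce : ∀ c, MemLocalIdeal M (blockCoeff S c - conv cc (blockCoeff S) c) := by
    refine blockCoeff_sub_conv_mem_of_omega_sub_one_mem hcC hMp hcc hcR hidem S hSclosed ?_
    intro ψ hψ
    have := hom ψ
    rwa [Set.indicator_of_mem hψ] at this
  -- `u = cc - e_S` is idempotent modulo the ideal and lies in the radical
  set u : Subgroup.centralizer (Q : Set G) → ℂ := cc - blockCoeff S with hu_def
  have huc : IsClassFunction (Subgroup.centralizer (Q : Set G)) u := sub_isClassFunction hcc hfc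
  have huR : ∀ c, MemLocalRing M (u c) := fun c => memLocalRing_sub hMp (hcR c) (hfR c)
  have homu : ∀ ξ : IrrCharacter (Subgroup.centralizer (Q : Set G)),
      omega (ξ : Subgroup.centralizer (Q : Set G) → ℂ) u = omega (ξ : Subgroup.centralizer (Q : Set G) → ℂ) cc - S.indicator (fun _ => (1 : ℂ)) ξ := by
    intro ξ
    rw [hu_def, omega_sub, omega_blockCoeff hcC]
  have h2 : conv u u - u = (conv cc cc - cc) +
      ((blockCoeff S - conv cc (blockCoeff S)) + (blockCoeff S - conv cc (blockCoeff S))) := by
    refine eq_of_omega_eq hcC (sub_isClassFunction (conv_isClassFunction huc huc) huc) ?_ ?_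
    · intro g k
      simp only [Pi.add_apply, Pi.sub_apply]
      rw [conv_isClassFunction hcc hcc g k, hcc g k, hfc g k,
        conv_isClassFunction hcc hfc g k]
    · intro ξ
      rw [omega_sub, omega_conv ξ.2 u huc, homu, omega_add, omega_add, omega_sub, omega_sub,
        omega_conv ξ.2 cc hcc, omega_conv ξ.2 cc hfc, omega_blockCoeff hcC]
      by_cases hξ : ξ ∈ S
      · rw [Set.indicator_of_mem hξ]; ring
      · rw [Set.indicator_of_notMem hξ]; ring
  have huidem : ∀ c, MemLocalIdeal M (conv u u c - u c) := by
    intro c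
    have h3 := congrFun h2 c
    simp only [Pi.add_apply, Pi.sub_apply] at h3
    rw [h3]
    exact memLocalIdeal_add hMp (hidem c) (memLocalIdeal_add hMp (hce c) (hce c))
  have hurad : ∀ ξ : IrrCharacter (Subgroup.centralizer (Q : Set G)),
      MemLocalIdeal M (omega (ξ : Subgroup.centralizer (Q : Set G) → ℂ) u) := by
    intro ξ
    rw [homu]
    exact hom ξ
  have := pointwise_mem_of_idem hcC hMp huc huR huidem hurad c
  exact this

/-- Normal inclusion of principal Brauer pairs. -/
theorem isNormalSubpair_principal [Fintype G] [Fact p.Prime] (hM : IsPModular p M)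
    {Q P : Subgroup G} (hP : IsPGroup p P) (hQP : Q ≤ P)
    (hPN : P ≤ Subgroup.normalizer (Q : Set G)) :
    IsNormalSubpair p M Q (principalBlock M (Subgroup.centralizer (Q : Set G))) P
      (principalBlock M (Subgroup.centralizer (P : Set G))) := by
  classical
  have := Fintype.ofFinite (Subgroup.centralizer (Q : Set G))
  have := Fintype.ofFinite (Subgroup.centralizer (P : Set G))
  have hMp := isPrime_of_isPModular hM
  have hQ : IsPGroup p Q := hP.to_le hQP
  have hcG := Cfsg.Agent.Lib.Helper78_CharFacts.charFacts (G := G)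
  have hPG : IsPBlock M (principalBlock M G) := isPBlock_principal G
  have hec : IsClassFunction G (blockCoeff (principalBlock M G)) := blockCoeff_isClassFunction _
  have hCle : Subgroup.centralizer (P : Set G) ≤ Subgroup.centralizer (Q : Set G) :=
    Subgroup.centralizer_le hQP
  refine ⟨⟨hQ, isPBlock_principal _⟩, ⟨hP, isPBlock_principal _⟩, hQP, hPN, ?_, ?_⟩
  · intro x hx
    exact stabilizesBlock_principal _ x (normalizer_le_normalizer_centralizer Q (hPN hx))
  · intro ξ hξ
    rw [brauerOmega_eq_omega]
    set β := subgroupBlockCoeff (Subgroup.centralizer (Q : Set G))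
      (principalBlock M (Subgroup.centralizer (Q : Set G))) with hβ
    set β₀ := blockCoeff (principalBlock M G) with hβ₀
    have h1 := ((isBrauerPairOf_principal_iff hM P hP _ (isPBlock_principal _)).mpr rfl).2.2 ξ hξ
    rw [brauerOmega_eq_omega] at h1
    have hβapp : ∀ x : Subgroup.centralizer (P : Set G),
        β (x : G) = blockCoeff (principalBlock M (Subgroup.centralizer (Q : Set G)))
          ⟨(x : G), hCle x.2⟩ := by
      intro x
      simp only [hβ, subgroupBlockCoeff]
      rw [dif_pos (hCle x.2)]
    have hcl : IsClassFunction (Subgroup.centralizer (P : Set G))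
        (res (Subgroup.centralizer (P : Set G)) β - res (Subgroup.centralizer (P : Set G)) β₀) := by
      refine sub_isClassFunction ?_ (res_isClassFunction _ (fun q _ x => hec x q))
      intro c k
      show β ((k * c * k⁻¹ : Subgroup.centralizer (P : Set G)) : G) = β (c : G)
      rw [hβapp, hβapp]
      have := blockCoeff_isClassFunction
        (principalBlock M (Subgroup.centralizer (Q : Set G)))
        ⟨(c : G), hCle c.2⟩ ⟨(k : G), hCle k.2⟩
      rw [← this]
      rfl
    have hpt : ∀ c, MemLocalIdeal M ((res (Subgroup.centralizer (P : Set G)) β -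
        res (Subgroup.centralizer (P : Set G)) β₀) c) := by
      intro c
      show MemLocalIdeal M (β (c : G) - β₀ (c : G))
      rw [hβapp]
      have := blockCoeff_principal_res hM Q hQ ⟨(c : G), hCle c.2⟩
      have h' := memLocalIdeal_neg this
      rwa [neg_sub] at h'
    have h2 := memLocalIdeal_omega_of_pointwise hMp ξ.2 hcl hpt
    rw [omega_sub] at h2
    have h3 := memLocalIdeal_add hMp h2 h1
    have h4 : omega (ξ : Subgroup.centralizer (P : Set G) → ℂ) (res (Subgroup.centralizer (P : Set G)) β) -
        omega (ξ : Subgroup.centralizer (P : Set G) → ℂ) (res (Subgroup.centralizer (P : Set G)) β₀) +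
        (omega (ξ : Subgroup.centralizer (P : Set G) → ℂ) (res (Subgroup.centralizer (P : Set G)) β₀) - 1) =
        omega (ξ : Subgroup.centralizer (P : Set G) → ℂ) (res (Subgroup.centralizer (P : Set G)) β) - 1 := by ring
    rwa [h4] at h3

/-- Inclusion of Brauer pairs implies inclusion of the subgroups. -/
theorem subpairLE_le {Q P : Subgroup G}
    {f : Set (IrrCharacter (Subgroup.centralizer (Q : Set G)))}
    {e : Set (IrrCharacter (Subgroup.centralizer (P : Set G)))}
    (h : SubpairLE p M Q f P e) : Q ≤ P := by
  have key : ∀ a b : BrauerPairIdx G, Relation.ReflTransGen (NormalSubpairRel p M) a b →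
      a.1 ≤ b.1 := by
    intro a b hab
    induction hab with
    | refl => exact le_refl _
    | tail _ hbc ih => exact ih.trans hbc.2.2.1
  exact key ⟨Q, f⟩ ⟨P, e⟩ h

/-- Inclusion of principal Brauer pairs. -/
theorem subpairLE_principal [Fintype G] [Fact p.Prime] (hM : IsPModular p M)
    {Q P : Subgroup G} (hP : IsPGroup p P) (hQP : Q ≤ P) :
    SubpairLE p M Q (principalBlock M (Subgroup.centralizer (Q : Set G))) P
      (principalBlock M (Subgroup.centralizer (P : Set G))) := by
  suffices h : ∀ n : ℕ, ∀ Q : Subgroup G, Q ≤ P → Nat.card P - Nat.card Q = n →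
      SubpairLE p M Q (principalBlock M (Subgroup.centralizer (Q : Set G))) P
        (principalBlock M (Subgroup.centralizer (P : Set G))) from h _ Q hQP rfl
  intro n
  induction n using Nat.strong_induction_on with
  | _ n ih =>
    intro Q hQP hn
    by_cases hne : Q = P
    · subst hne
      exact Relation.ReflTransGen.refl
    · obtain ⟨x, hxP, hxN, hxQ⟩ := exists_mem_normalizer_not_mem hP hQP hne
      set N := P ⊓ Subgroup.normalizer (Q : Set G) with hN
      have hQN : Q ≤ N := le_inf hQP Subgroup.le_normalizer
      have hNP : N ≤ P := inf_le_left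
      have hstep : IsNormalSubpair p M Q (principalBlock M (Subgroup.centralizer (Q : Set G))) N
          (principalBlock M (Subgroup.centralizer (N : Set G))) :=
        isNormalSubpair_principal hM (hP.to_le hNP) hQN inf_le_right
      have hlt : Nat.card Q < Nat.card N := card_lt_card_of_lt hQN ⟨hxP, hxN⟩ hxQ
      have hle : Nat.card N ≤ Nat.card P := Subgroup.card_le_of_le hNP
      have hrec := ih (Nat.card P - Nat.card N) (by omega) N hNP rfl
      have hstep' : NormalSubpairRel p M
          ⟨Q, principalBlock M (Subgroup.centralizer (Q : Set G))⟩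
          ⟨N, principalBlock M (Subgroup.centralizer (N : Set G))⟩ := hstep
      exact Relation.ReflTransGen.head hstep' hrec

/-- Conjugation by `x⁻¹` as an isomorphism `C_G(x Q x⁻¹) ≃* C_G(Q)`. -/
noncomputable def centConjEquiv (Q : Subgroup G) (x : G) :
    Subgroup.centralizer ((Q.map (MulAut.conj x).toMonoidHom : Subgroup G) : Set G) ≃*
      Subgroup.centralizer (Q : Set G) where
  toFun c' := ⟨x⁻¹ * (c' : G) * x, by
    rw [Subgroup.mem_centralizer_iff]
    intro q hq
    have h1 : x * q * x⁻¹ ∈ ((Q.map (MulAut.conj x).toMonoidHom : Subgroup G) : Set G) :=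
      ⟨q, hq, rfl⟩
    have h2 := (Subgroup.mem_centralizer_iff.mp c'.2) _ h1
    calc q * (x⁻¹ * (c' : G) * x) = x⁻¹ * ((x * q * x⁻¹) * (c' : G)) * x := by group
      _ = x⁻¹ * ((c' : G) * (x * q * x⁻¹)) * x := by rw [h2]
      _ = x⁻¹ * (c' : G) * x * q := by group⟩
  invFun c := ⟨x * (c : G) * x⁻¹, by
    rw [Subgroup.mem_centralizer_iff]
    rintro _ ⟨q, hq, rfl⟩
    have h2 := (Subgroup.mem_centralizer_iff.mp c.2) q hq
    show x * q * x⁻¹ * (x * (c : G) * x⁻¹) = x * (c : G) * x⁻¹ * (x * q * x⁻¹)
    calc x * q * x⁻¹ * (x * (c : G) * x⁻¹) = x * (q * (c : G)) * x⁻¹ := by group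
      _ = x * ((c : G) * q) * x⁻¹ := by rw [h2]
      _ = x * (c : G) * x⁻¹ * (x * q * x⁻¹) := by group⟩
  left_inv c' := by
    apply Subtype.ext
    show x * (x⁻¹ * (c' : G) * x) * x⁻¹ = c'
    group
  right_inv c := by
    apply Subtype.ext
    show x⁻¹ * (x * (c : G) * x⁻¹) * x = c
    group
  map_mul' a b := by
    apply Subtype.ext
    show x⁻¹ * ((a : G) * (b : G)) * x = (x⁻¹ * (a : G) * x) * (x⁻¹ * (b : G) * x)
    group

theorem centConjEquiv_apply (Q : Subgroup G) (x : G)
    (c' : Subgroup.centralizer ((Q.map (MulAut.conj x).toMonoidHom : Subgroup G) : Set G)) :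
    ((centConjEquiv Q x c' : Subgroup.centralizer (Q : Set G)) : G) = x⁻¹ * (c' : G) * x := rfl

theorem centConjEquiv_symm_apply (Q : Subgroup G) (x : G)
    (c : Subgroup.centralizer (Q : Set G)) :
    (((centConjEquiv Q x).symm c :
      Subgroup.centralizer ((Q.map (MulAut.conj x).toMonoidHom : Subgroup G) : Set G)) : G) =
      x * (c : G) * x⁻¹ := rfl

/-- Conjugates of principal blocks are principal blocks. -/
theorem conjBlock_principal (Q : Subgroup G) (x : G) :
    conjBlock Q x (principalBlock M (Subgroup.centralizer (Q : Set G))) =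
      principalBlock M
        (Subgroup.centralizer ((Q.map (MulAut.conj x).toMonoidHom : Subgroup G) : Set G)) := by
  ext ξ'
  constructor
  · rintro ⟨ξ, hξ, h⟩
    have h1 : (ξ' : Subgroup.centralizer
        ((Q.map (MulAut.conj x).toMonoidHom : Subgroup G) : Set G) → ℂ) =
        (ξ : Subgroup.centralizer (Q : Set G) → ℂ) ∘ (centConjEquiv Q x) := by
      funext c'
      refine h (centConjEquiv Q x c') c' ?_
      rw [centConjEquiv_apply]
      group
    have h2 : SameBlock M (fun _ : Subgroup.centralizer (Q : Set G) => (1 : ℂ))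
        (ξ : Subgroup.centralizer (Q : Set G) → ℂ) := hξ
    have h3 := sameBlock_comp_mulEquiv (centConjEquiv Q x) h2
    show SameBlock M _ _
    rw [h1]
    exact h3
  · intro hξ'
    have h2 : SameBlock M (fun _ : Subgroup.centralizer
        ((Q.map (MulAut.conj x).toMonoidHom : Subgroup G) : Set G) => (1 : ℂ))
        (ξ' : Subgroup.centralizer
          ((Q.map (MulAut.conj x).toMonoidHom : Subgroup G) : Set G) → ℂ) := hξ'
    refine ⟨irrComp (centConjEquiv Q x).symm ξ', ?_, ?_⟩
    · exact sameBlock_comp_mulEquiv (centConjEquiv Q x).symm h2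
    · intro c c' hcc'
      rw [irrComp_apply]
      have hc : c' = (centConjEquiv Q x).symm c := by
        apply Subtype.ext
        rw [centConjEquiv_symm_apply, hcc']
      rw [hc]

/-- **S4681**: `(S, B₀(C_G(S)))` is a maximal Brauer pair of the principal block, and the fusion
system of the principal block is the fusion system of the group. -/
theorem principal_fusion [Fintype G] [Fact p.Prime] (hM : IsPModular p M) (S : Sylow p G) :
    IsMaximalBrauerPair p M (principalBlock M G) (S : Subgroup G)
        (principalBlock M (Subgroup.centralizer ((S : Subgroup G) : Set G))) ∧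
      ∀ F : FusionSystem (S : Subgroup G),
        IsBlockFusionSystemOn p M (principalBlock M G) (S : Subgroup G)
          (principalBlock M (Subgroup.centralizer ((S : Subgroup G) : Set G))) F →
        ∀ Q : Subgroup G, F.Hom Q = (groupFusionSystem (S : Subgroup G)).Hom Q := by
  refine ⟨⟨(isBrauerPairOf_principal_iff hM (S : Subgroup G) S.2 _ (isPBlock_principal _)).mpr rfl, ?_⟩, ?_⟩
  · intro R g hR hle
    exact S.3 hR.1.1 (subpairLE_le hle)
  · intro F hF Q
    ext φ
    rw [hF.2 Q φ]
    constructor
    · rintro ⟨hQS, g, hφ, hmap, -⟩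
      refine ⟨hQS, fun x => ?_, g, hφ⟩
      rw [hφ x]
      exact hmap ⟨x, x.2, rfl⟩
    · rintro ⟨hQS, hφS, g, hφ⟩
      have hmap : Q.map (MulAut.conj g).toMonoidHom ≤ (S : Subgroup G) := by
        rintro _ ⟨q, hq, rfl⟩
        have := hφS ⟨q, hq⟩
        rw [hφ] at this
        exact this
      refine ⟨hQS, g, hφ, hmap, principalBlock M (Subgroup.centralizer (Q : Set G)),
        subpairLE_principal hM S.2 hQS, ?_⟩
      rw [conjBlock_principal]
      exact subpairLE_principal hM S.2 hmap

end Cfsg.Agent.Lib.Helper78_PrincipalFusion
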