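import Mathlib
import Cfsg.Prelude.Def_Blocks
import Cfsg.Prelude.Def_BlockLocal
import Cfsg.Prelude.Def_BrauerPairs
import Cfsg.Agent.Lib.Helper78_LocalRing
import Cfsg.Agent.Lib.Helper78_CentralChar
import Cfsg.Agent.Lib.Helper78_Osima
import Cfsg.Agent.Lib.Helper78_CharFacts
import Cfsg.Agent.Lib.Helper78_AlgHom
import Cfsg.Agent.Lib.Helper78_BrauerMap
import Cfsg.Agent.Lib.Helper78_BrDecomp
import Cfsg.Agent.Lib.Helper78_ExtConv
import Cfsg.Agent.Lib.Helper78_SecondMain
import Cfsg.Agent.Lib.Helper78_BrauerPairs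
import Cfsg.Agent.Lib.Helper78_Transport
import Cfsg.Agent.Lib.Helper78_TransportBlocks
import Cfsg.Agent.Lib.Helper78_NilpotentPrincipal
import Cfsg.Agent.Lib.Helper78_BrauerCorr
import Cfsg.Agent.Lib.Helper78_SubpairBasic
import Cfsg.Agent.Lib.Helper78_SubpairNormal
import Cfsg.Agent.Lib.Helper78_SubpairTrans

/-!
# Uniqueness of the Brauer pair below a given one (helper78, S4655)

Below a Brauer pair `(P, e)` there is exactly one Brauer pair `(Q, f)` on each subgroup `Q ≤ P`.
-/

set_option autoImplicit false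
set_option linter.unusedSectionVars false

namespace Cfsg.Agent.Lib.Helper78_SubpairUnique

open Cfsg Cfsg.Agent.Lib.Helper78_LocalRing Cfsg.Agent.Lib.Helper78_CentralChar
  Cfsg.Agent.Lib.Helper78_Osima Cfsg.Agent.Lib.Helper78_CharFacts
  Cfsg.Agent.Lib.Helper78_AlgHom
  Cfsg.Agent.Lib.Helper78_BrauerMap Cfsg.Agent.Lib.Helper78_BrDecomp
  Cfsg.Agent.Lib.Helper78_ExtConv Cfsg.Agent.Lib.Helper78_SecondMain
  Cfsg.Agent.Lib.Helper78_BrauerPairs Cfsg.Agent.Lib.Helper78_Transport
  Cfsg.Agent.Lib.Helper78_TransportBlocks Cfsg.Agent.Lib.Helper78_NilpotentPrincipal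
  Cfsg.Agent.Lib.Helper78_BrauerCorr
  Cfsg.Agent.Lib.Helper78_SubpairBasic Cfsg.Agent.Lib.Helper78_SubpairNormal
  Cfsg.Agent.Lib.Helper78_SubpairTrans

universe u

variable {G : Type u} [Group G] {M : Ideal AlgInt} {p : ℕ}

/-! ### Group theory -/

/-- Normalizers grow in finite `p`-groups. -/
theorem lt_inf_normalizer [Finite G] [Fact p.Prime] {Q S : Subgroup G}
    (hS : IsPGroup p S) (hQS : Q < S) : Q < S ⊓ Subgroup.normalizer (Q : Set G) := by
  have : Group.IsNilpotent S := hS.isNilpotent
  have hnc : NormalizerCondition S := Group.normalizerCondition_of_isNilpotent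
  have hlt : Q.subgroupOf S < ⊤ := by
    rw [lt_top_iff_ne_top, Ne, Subgroup.subgroupOf_eq_top]
    exact fun h => hQS.not_ge h
  obtain ⟨x, hx1, hx2⟩ := SetLike.exists_of_lt (hnc _ hlt)
  rw [← Subgroup.subgroupOf_normalizer_eq hQS.le, Subgroup.mem_subgroupOf] at hx1
  rw [Subgroup.mem_subgroupOf] at hx2
  refine lt_of_le_of_ne (le_inf hQS.le Subgroup.le_normalizer) ?_
  intro h
  apply hx2
  rw [h]
  exact ⟨x.2, hx1⟩

theorem le_normalizer_inf {P R R' : Subgroup G} (hR : P ≤ Subgroup.normalizer (R : Set G))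
    (hR' : P ≤ Subgroup.normalizer (R' : Set G)) :
    P ≤ Subgroup.normalizer (((R ⊓ R' : Subgroup G)) : Set G) := by
  intro x hx
  rw [Subgroup.mem_set_normalizer_iff]
  intro g
  have h1 := Subgroup.mem_set_normalizer_iff.mp (hR hx) g
  have h2 := Subgroup.mem_set_normalizer_iff.mp (hR' hx) g
  constructor
  · rintro ⟨a, b⟩
    exact ⟨h1.mp a, h2.mp b⟩
  · rintro ⟨a, b⟩
    exact ⟨h1.mpr a, h2.mpr b⟩

/-! ### Chains -/

theorem le_of_chain {a b : BrauerPairIdx G}
    (h : Relation.ReflTransGen (NormalSubpairRel p M) a b) : a.1 ≤ b.1 := by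
  induction h with
  | refl => exact le_rfl
  | tail _ hbc ih => exact ih.trans hbc.2.2.1

section Same

variable [Fintype G]

/-- A normal inclusion on the same subgroup is an equality. -/
theorem eq_of_isNormalSubpair_same (hM : M.IsPrime) {P : Subgroup G}
    {e f : Set (IrrCharacter (Subgroup.centralizer (P : Set G)))}
    (h : IsNormalSubpair p M P f P e) : f = e := by
  classical
  have := Fintype.ofFinite (Subgroup.centralizer (P : Set G))
  have hcC := Cfsg.Agent.Lib.Helper78_CharFacts.charFacts (G := Subgroup.centralizer (P : Set G))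
  obtain ⟨hPf, hPe, -, -, -, hlam⟩ := h
  obtain ⟨ξ, hξ⟩ := isPBlock_nonempty hM hPe.2
  have h1 : MemLocalIdeal M (lam P (Subgroup.centralizer (P : Set G)) f
      (ξ : Subgroup.centralizer (P : Set G) → ℂ) - 1) := hlam ξ hξ
  rw [lam_eq_omega] at h1
  have h2 : rs P (Subgroup.centralizer (P : Set G)) f = blockCoeff f := by
    funext c
    rw [rs_apply le_rfl]
  rw [h2, omega_blockCoeff hcC] at h1
  by_contra hne
  have hd := isPBlock_disjoint_of_ne hM hPf.2 hPe.2 hne
  have hξf : ξ ∉ f := fun h => (Set.disjoint_left.mp hd) h hξ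
  rw [Set.indicator_of_notMem hξf, zero_sub] at h1
  have h3 := memLocalIdeal_neg h1
  rw [neg_neg] at h3
  exact not_memLocalIdeal_one hM h3

theorem eq_of_rel_same (hM : M.IsPrime) {a b : BrauerPairIdx G}
    (h : NormalSubpairRel p M a b) (hab : a.1 = b.1) : a = b := by
  obtain ⟨Q, f⟩ := a
  obtain ⟨P, e⟩ := b
  simp only at hab
  subst hab
  have h' : f = e := eq_of_isNormalSubpair_same hM h
  rw [h']

theorem eq_of_chain_same (hM : M.IsPrime) {a b : BrauerPairIdx G}
    (h : Relation.ReflTransGen (NormalSubpairRel p M) a b) (hab : a.1 = b.1) : a = b := by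
  induction h with
  | refl => rfl
  | tail hac hcb ih =>
    rename_i c b
    have h1 : a.1 ≤ c.1 := le_of_chain hac
    have h2 : c.1 ≤ b.1 := hcb.2.2.1
    have h3 : c.1 = b.1 := le_antisymm h2 (hab ▸ h1)
    have h4 : a.1 = c.1 := hab.trans h3.symm
    rw [ih h4]
    exact eq_of_rel_same hM hcb h3

/-- A nontrivial chain ends with a proper normal inclusion. -/
theorem exists_proper_last (hM : M.IsPrime) {a b : BrauerPairIdx G}
    (h : Relation.ReflTransGen (NormalSubpairRel p M) a b) (hab : a.1 ≠ b.1) :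
    ∃ c : BrauerPairIdx G, Relation.ReflTransGen (NormalSubpairRel p M) a c ∧
      NormalSubpairRel p M c b ∧ c.1 ≠ b.1 := by
  induction h with
  | refl => exact absurd rfl hab
  | tail hac hcb ih =>
    rename_i c b
    by_cases hcb' : c.1 = b.1
    · have hcb'' := eq_of_rel_same hM hcb hcb'
      subst hcb''
      exact ih hab
    · exact ⟨c, hac, hcb, hcb'⟩

end Same

/-! ### The diamond lemma -/

section Diamond

variable [Fintype G] [Fact p.Prime]

/-- If `(T, h)` and `(R, g)` are both normally below `(P, e)` and `T ≤ R`, then `(T, h)` is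
normally below `(R, g)`. -/
theorem isNormalSubpair_of_both (hM : IsPModular p M) {P R T : Subgroup G}
    {e : Set (IrrCharacter (Subgroup.centralizer (P : Set G)))}
    {g : Set (IrrCharacter (Subgroup.centralizer (R : Set G)))}
    {h : Set (IrrCharacter (Subgroup.centralizer (T : Set G)))}
    (hTR : T ≤ R)
    (hT : IsNormalSubpair p M T h P e) (hR : IsNormalSubpair p M R g P e) :
    IsNormalSubpair p M T h R g := by
  classical
  have := Fintype.ofFinite (Subgroup.centralizer (P : Set G))
  have := Fintype.ofFinite (Subgroup.centralizer (R : Set G))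
  have := Fintype.ofFinite (Subgroup.centralizer (T : Set G))
  have hMp := isPrime_of_isPModular hM
  have hcT := Cfsg.Agent.Lib.Helper78_CharFacts.charFacts (G := Subgroup.centralizer (T : Set G))
  obtain ⟨hTh, hPe, hTP, hPNT, hhP, hlamT⟩ := hT
  obtain ⟨hRg, -, hRP, hPNR, hgP, hlamR⟩ := hR
  have hP := hPe.1
  have hRp := hRg.1
  have hPKT : P ≤ Subgroup.normalizer
      ((Subgroup.centralizer (T : Set G) : Subgroup G) : Set G) :=
    fun x hx => normalizer_le_normalizer_centralizer T (hPNT hx)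
  have hPKR : P ≤ Subgroup.normalizer
      ((Subgroup.centralizer (R : Set G) : Subgroup G) : Set G) :=
    fun x hx => normalizer_le_normalizer_centralizer R (hPNR hx)
  have hCPR : Subgroup.centralizer (P : Set G) ≤ Subgroup.centralizer (R : Set G) :=
    Subgroup.centralizer_le hRP
  have hCRT : Subgroup.centralizer (R : Set G) ≤ Subgroup.centralizer (T : Set G) :=
    Subgroup.centralizer_le hTR
  have hhc : Closed M h := closed_of_isPBlock hMp hTh.2
  have hgc : Closed M g := closed_of_isPBlock hMp hRg.2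
  set φ : G → ℂ := ext (Subgroup.centralizer (T : Set G)) (blockCoeff h) with hφ
  have hφR : ∀ x, MemLocalRing M (φ x) :=
    ext_memLocalRing hMp _ (osima' hMp h hhc)
  have hφP : ∀ q ∈ P, ∀ x, φ (q * x * q⁻¹) = φ x :=
    fun q hq x => ext_blockCoeff_invariant hPKT hhP q hq x
  have hφC : ∀ y ∈ Subgroup.centralizer (R : Set G), ∀ x, φ (y * x * y⁻¹) = φ x :=
    fun y hy x => ext_conj _ (blockCoeff_isClassFunction h) (hCRT hy) x
  have hφi : conv φ φ = φ := by
    rw [hφ, ext_conv, conv_blockCoeff_self hcT]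
  set S := brSet M R φ with hS
  have hSc : Closed M S := closed_brSet hMp hφR hφC
  have hSP : PStable (Subgroup.centralizer (R : Set G)) P S := pstable_brSet hPNR hφP
  obtain ⟨ξ₀, hξ₀⟩ := isPBlock_nonempty hMp hPe.2
  have hfac := omega_res_sub_lam hM hRp hRP hφR (fun q hq x => hφP q (hRP hq) x) hφC hφi ξ₀
  have h1 : MemLocalIdeal M (lam P (Subgroup.centralizer (T : Set G)) h
      (ξ₀ : Subgroup.centralizer (P : Set G) → ℂ) - 1) := hlamT ξ₀ hξ₀
  rw [lam_eq_omega] at h1
  have h2 : MemLocalIdeal M (lam P (Subgroup.centralizer (R : Set G)) g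
      (ξ₀ : Subgroup.centralizer (P : Set G) → ℂ) - 1) := hlamR ξ₀ hξ₀
  have hmul := lam_inter hM hP hPKR hCPR hgc hSc hgP hSP ξ₀
  have hsub : g ⊆ S := by
    rcases block_subset_or_disjoint hMp hRg.2 hSc with hsub | hdis
    · exact hsub
    · exfalso
      rw [Set.disjoint_iff_inter_eq_empty.mp hdis, lam_empty, zero_sub] at hmul
      set a := lam P (Subgroup.centralizer (R : Set G)) g
        (ξ₀ : Subgroup.centralizer (P : Set G) → ℂ) with ha
      set b := lam P (Subgroup.centralizer (R : Set G)) S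
        (ξ₀ : Subgroup.centralizer (P : Set G) → ℂ) with hb
      have hbR : MemLocalRing M b := memLocalRing_lam hMp hCPR hSc ξ₀
      -- `b ≡ 1`
      have h3 : MemLocalIdeal M (b - 1) := by
        have := memLocalIdeal_sub hMp h1 hfac
        have h4 : omega (ξ₀ : Subgroup.centralizer (P : Set G) → ℂ)
            (rs P (Subgroup.centralizer (T : Set G)) h) - 1 -
          (omega (ξ₀ : Subgroup.centralizer (P : Set G) → ℂ)
            (res (Subgroup.centralizer (P : Set G)) φ) - b) = b - 1 := by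
          show omega (ξ₀ : Subgroup.centralizer (P : Set G) → ℂ)
            (res (Subgroup.centralizer (P : Set G)) φ) - 1 -
            (omega (ξ₀ : Subgroup.centralizer (P : Set G) → ℂ)
              (res (Subgroup.centralizer (P : Set G)) φ) - b) = b - 1
          ring
        rw [h4] at this
        exact this
      have h5 : MemLocalIdeal M ((a - 1) * b) := memLocalIdeal_mul_right hMp h2 hbR
      have h6 := memLocalIdeal_add hMp (memLocalIdeal_add hMp hmul h5) h3
      have h7 : -(a * b) + (a - 1) * b + (b - 1) = -1 := by ring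
      rw [h7] at h6
      have h8 := memLocalIdeal_neg h6
      rw [neg_neg] at h8
      exact not_memLocalIdeal_one hMp h8
  refine ⟨hTh, hRg, hTR, hRP.trans hPNT, fun x hx => hhP x (hRP hx), fun ζ hζ => ?_⟩
  have h9 : MemLocalIdeal M (omega (ζ : Subgroup.centralizer (R : Set G) → ℂ)
    (res (Subgroup.centralizer (R : Set G)) φ) - 1) := hsub hζ
  show MemLocalIdeal M (lam R (Subgroup.centralizer (T : Set G)) h
      (ζ : Subgroup.centralizer (R : Set G) → ℂ) - 1)
  rw [lam_eq_omega]
  exact h9

end Diamond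

/-! ### Existence and uniqueness -/

section Main

variable [Fintype G] [Fact p.Prime]

theorem exists_subpairLE (hM : IsPModular p M) {P : Subgroup G}
    {e : Set (IrrCharacter (Subgroup.centralizer (P : Set G)))} (hPe : IsBrauerPair p M P e)
    (Q : Subgroup G) (hQP : Q ≤ P) :
    ∃ f : Set (IrrCharacter (Subgroup.centralizer (Q : Set G))),
      IsPBlock M f ∧ SubpairLE p M Q f P e := by
  have hP := hPe.1
  induction Q using WellFoundedGT.induction with
  | ind Q ih =>
    by_cases hQ : Q = P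
    · subst hQ
      exact ⟨e, hPe.2, Relation.ReflTransGen.refl⟩
    · have hlt : Q < P := lt_of_le_of_ne hQP hQ
      have hN := lt_inf_normalizer hP hlt
      obtain ⟨g, hg, hle⟩ := ih _ hN inf_le_left
      obtain ⟨f, hf, -⟩ := existsUnique_isNormalSubpair hM (P ⊓ Subgroup.normalizer (Q : Set G)) Q g
        ⟨hP.to_le inf_le_left, hg⟩ hN.le inf_le_right
      have hf' : NormalSubpairRel p M (⟨Q, f⟩ : BrauerPairIdx G)
          ⟨P ⊓ Subgroup.normalizer (Q : Set G), g⟩ := hf
      exact ⟨f, hf.1.2, Relation.ReflTransGen.head hf' hle⟩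

theorem subpairLE_unique (hM : IsPModular p M) (P : Subgroup G) :
    ∀ (e : Set (IrrCharacter (Subgroup.centralizer (P : Set G)))) (Q : Subgroup G)
      (f f' : Set (IrrCharacter (Subgroup.centralizer (Q : Set G)))),
      SubpairLE p M Q f P e → SubpairLE p M Q f' P e → f = f' := by
  have hMp := isPrime_of_isPModular hM
  induction P using WellFoundedLT.induction with
  | ind P ih =>
    intro e Q f f' hf hf'
    by_cases hQ : Q = P
    · subst hQ
      have h1 := eq_of_chain_same hMp hf rfl
      have h2 := eq_of_chain_same hMp hf' rfl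
      have h3 : (⟨Q, f⟩ : BrauerPairIdx G) = ⟨Q, f'⟩ := h1.trans h2.symm
      exact eq_of_heq (Sigma.mk.inj h3).2
    · obtain ⟨⟨R, g⟩, hfR, hRP, hRne⟩ := exists_proper_last hMp hf hQ
      obtain ⟨⟨R', g'⟩, hf'R', hR'P, hR'ne⟩ := exists_proper_last hMp hf' hQ
      have hPe : IsBrauerPair p M P e := hRP.2.1
      have hQR : Q ≤ R := le_of_chain hfR
      have hQR' : Q ≤ R' := le_of_chain hf'R'
      have hRlt : R < P := lt_of_le_of_ne hRP.2.2.1 hRne
      have hR'lt : R' < P := lt_of_le_of_ne hR'P.2.2.1 hR'ne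
      have hTP : R ⊓ R' ≤ P := inf_le_left.trans hRlt.le
      have hPT : P ≤ Subgroup.normalizer (((R ⊓ R' : Subgroup G)) : Set G) :=
        le_normalizer_inf hRP.2.2.2.1 hR'P.2.2.2.1
      obtain ⟨h, hTh, -⟩ := existsUnique_isNormalSubpair hM P (R ⊓ R') e hPe hTP hPT
      have hTR : IsNormalSubpair p M (R ⊓ R') h R g := isNormalSubpair_of_both hM inf_le_left hTh hRP
      have hTR' : IsNormalSubpair p M (R ⊓ R') h R' g' :=
        isNormalSubpair_of_both hM inf_le_right hTh hR'P
      obtain ⟨f'', -, hle''⟩ := exists_subpairLE hM hTh.1 Q (le_inf hQR hQR')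
      have c1 : SubpairLE p M Q f'' R g := Relation.ReflTransGen.tail hle'' hTR
      have c2 : SubpairLE p M Q f'' R' g' := Relation.ReflTransGen.tail hle'' hTR'
      have e1 : f = f'' := ih R hRlt g Q f f'' hfR c1
      have e2 : f' = f'' := ih R' hR'lt g' Q f' f'' hf'R' c2
      exact e1.trans e2.symm

/-- **S4655**: below a Brauer pair `(P, e)` there is exactly one Brauer pair on each `Q ≤ P`. -/
theorem existsUnique_subpairLE (hM : IsPModular p M) (P Q : Subgroup G)
    (e : Set (IrrCharacter (Subgroup.centralizer (P : Set G))))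
    (hPe : IsBrauerPair p M P e) (hQP : Q ≤ P) :
    ∃! f : Set (IrrCharacter (Subgroup.centralizer (Q : Set G))),
      IsPBlock M f ∧ SubpairLE p M Q f P e := by
  obtain ⟨f, hf, hle⟩ := exists_subpairLE hM hPe Q hQP
  exact ⟨f, ⟨hf, hle⟩, fun f' hf' => subpairLE_unique hM P e Q f' f hf'.2 hle⟩

end Main

end Cfsg.Agent.Lib.Helper78_SubpairUnique
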