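import Mathlib
import Cfsg.Prelude.Def_Blocks
import Cfsg.Prelude.Def_BlockLocal
import Cfsg.Prelude.Def_BrauerPairs
import Cfsg.Agent.Lib.Helper78_LocalRing
import Cfsg.Agent.Lib.Helper78_CentralChar
import Cfsg.Agent.Lib.Helper78_Osima
import Cfsg.Agent.Lib.Helper78_CharFacts
import Cfsg.Agent.Lib.Helper78_AlgHom
import Cfsg.Agent.Lib.Helper78_BrauerMap
import Cfsg.Agent.Lib.Helper78_BrDecomp
import Cfsg.Agent.Lib.Helper78_ExtConv
import Cfsg.Agent.Lib.Helper78_SecondMain
import Cfsg.Agent.Lib.Helper78_BrauerPairs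
import Cfsg.Agent.Lib.Helper78_Transport
import Cfsg.Agent.Lib.Helper78_TransportBlocks
import Cfsg.Agent.Lib.Helper78_NilpotentPrincipal
import Cfsg.Agent.Lib.Helper78_PrincipalFusion
import Cfsg.Agent.Lib.Helper78_BrauerCorr
import Cfsg.Agent.Lib.Helper78_SubpairBasic
import Cfsg.Agent.Lib.Helper78_SubpairNormal
import Cfsg.Agent.Lib.Helper78_SubpairTrans
import Cfsg.Agent.Lib.Helper78_SubpairUnique
import Cfsg.Agent.Lib.Helper78_MinMax
import Cfsg.Agent.Lib.Helper78_Defect
import Cfsg.Agent.Lib.Helper78_FirstMainGT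
import Cfsg.Agent.Lib.Helper78_FirstMain
import Cfsg.Agent.Lib.Helper78_MaxPair

/-!
# Conjugation of Brauer pairs (helper78, S4660)

Conjugation by a group element transports Brauer pairs, normal inclusions and inclusions; every
Brauer pair of a block is conjugate to a pair below a given maximal pair.
-/

set_option autoImplicit false
set_option linter.unusedSectionVars false

namespace Cfsg.Agent.Lib.Helper78_PairConj

open Cfsg Cfsg.Agent.Lib.Helper78_LocalRing Cfsg.Agent.Lib.Helper78_CentralChar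
  Cfsg.Agent.Lib.Helper78_Osima Cfsg.Agent.Lib.Helper78_CharFacts
  Cfsg.Agent.Lib.Helper78_AlgHom
  Cfsg.Agent.Lib.Helper78_BrauerMap Cfsg.Agent.Lib.Helper78_BrDecomp
  Cfsg.Agent.Lib.Helper78_ExtConv Cfsg.Agent.Lib.Helper78_SecondMain
  Cfsg.Agent.Lib.Helper78_BrauerPairs Cfsg.Agent.Lib.Helper78_Transport
  Cfsg.Agent.Lib.Helper78_TransportBlocks Cfsg.Agent.Lib.Helper78_NilpotentPrincipal
  Cfsg.Agent.Lib.Helper78_PrincipalFusion
  Cfsg.Agent.Lib.Helper78_BrauerCorr
  Cfsg.Agent.Lib.Helper78_SubpairBasic Cfsg.Agent.Lib.Helper78_SubpairNormal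
  Cfsg.Agent.Lib.Helper78_SubpairTrans Cfsg.Agent.Lib.Helper78_SubpairUnique
  Cfsg.Agent.Lib.Helper78_MinMax
  Cfsg.Agent.Lib.Helper78_Defect Cfsg.Agent.Lib.Helper78_FirstMainGT
  Cfsg.Agent.Lib.Helper78_FirstMain Cfsg.Agent.Lib.Helper78_MaxPair

universe u

variable {G : Type u} [Group G] {M : Ideal AlgInt} {p : ℕ}

/-! ### `conjBlock` through `mapBlock` -/

theorem conjBlock_eq_mapBlock (Q : Subgroup G) (x : G)
    (f : Set (IrrCharacter (Subgroup.centralizer (Q : Set G)))) :
    conjBlock Q x f = mapBlock (centConjEquiv Q x) f := by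
  ext ξ'
  constructor
  · rintro ⟨ξ, hξ, h⟩
    refine ⟨ξ, hξ, ?_⟩
    apply Subtype.ext
    funext c'
    rw [irrComp_apply]
    refine (h (centConjEquiv Q x c') c' ?_).symm
    rw [centConjEquiv_apply]
    group
  · rintro ⟨ξ, hξ, rfl⟩
    refine ⟨ξ, hξ, ?_⟩
    intro c c' hcc'
    rw [irrComp_apply]
    refine congrArg _ (Subtype.ext ?_)
    rw [centConjEquiv_apply, hcc']
    group

theorem mem_centralizer_map_conj_iff (Q : Subgroup G) (x c : G) :
    x * c * x⁻¹ ∈ Subgroup.centralizer ((Q.map (MulAut.conj x).toMonoidHom : Subgroup G) : Set G) ↔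
      c ∈ Subgroup.centralizer (Q : Set G) := by
  constructor
  · intro h
    have := (centConjEquiv Q x ⟨_, h⟩).2
    rw [centConjEquiv_apply] at this
    have h2 : x⁻¹ * (x * c * x⁻¹) * x = c := by group
    simpa [h2] using this
  · intro h
    exact ((centConjEquiv Q x).symm ⟨c, h⟩).2

/-- Conjugating the extended idempotent. -/
theorem subgroupBlockCoeff_conj (Q : Subgroup G) (x : G)
    (f : Set (IrrCharacter (Subgroup.centralizer (Q : Set G)))) (c : G) :
    subgroupBlockCoeff (Subgroup.centralizer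
      ((Q.map (MulAut.conj x).toMonoidHom : Subgroup G) : Set G)) (conjBlock Q x f)
        (x * c * x⁻¹) =
      subgroupBlockCoeff (Subgroup.centralizer (Q : Set G)) f c := by
  classical
  unfold subgroupBlockCoeff
  by_cases hc : c ∈ Subgroup.centralizer (Q : Set G)
  · have hc' := (mem_centralizer_map_conj_iff Q x c).mpr hc
    rw [dif_pos hc, dif_pos hc', conjBlock_eq_mapBlock, blockCoeff_mapBlock]
    congr 1
    apply Subtype.ext
    rw [centConjEquiv_apply]
    show x⁻¹ * (x * c * x⁻¹) * x = c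
    group
  · have hc' : ¬ x * c * x⁻¹ ∈ Subgroup.centralizer
        ((Q.map (MulAut.conj x).toMonoidHom : Subgroup G) : Set G) :=
      fun h => hc ((mem_centralizer_map_conj_iff Q x c).mp h)
    rw [dif_neg hc, dif_neg hc']

/-- Conjugating `brauerOmega`. -/
theorem brauerOmega_conj (P : Subgroup G) (x : G) (β β' : G → ℂ)
    (hβ : ∀ c : G, β' (x * c * x⁻¹) = β c) (ξ : Subgroup.centralizer (P : Set G) → ℂ) :
    brauerOmega (P.map (MulAut.conj x).toMonoidHom) β' (ξ ∘ centConjEquiv P x) =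
      brauerOmega P β ξ := by
  unfold brauerOmega
  rw [← finsum_comp_equiv (centConjEquiv P x).toEquiv]
  refine finsum_congr fun c' => ?_
  simp only [Function.comp_apply, MulEquiv.toEquiv_eq_coe, MulEquiv.coe_toEquiv, map_one]
  congr 2
  have h1 : (c' : G) = x * ((centConjEquiv P x c' : Subgroup.centralizer (P : Set G)) : G) * x⁻¹ := by
    rw [centConjEquiv_apply]
    group
  rw [h1, hβ]

theorem isBrauerPair_conj (x : G) {Q : Subgroup G}
    {f : Set (IrrCharacter (Subgroup.centralizer (Q : Set G)))} (h : IsBrauerPair p M Q f) :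
    IsBrauerPair p M (Q.map (MulAut.conj x).toMonoidHom) (conjBlock Q x f) := by
  refine ⟨h.1.map _, ?_⟩
  rw [conjBlock_eq_mapBlock]
  exact isPBlock_mapBlock _ h.2

theorem map_conj_le_normalizer (x : G) {Q P : Subgroup G}
    (h : P ≤ Subgroup.normalizer (Q : Set G)) :
    P.map (MulAut.conj x).toMonoidHom ≤
      Subgroup.normalizer ((Q.map (MulAut.conj x).toMonoidHom : Subgroup G) : Set G) := by
  rintro _ ⟨y, hy, rfl⟩
  have hyN := h hy
  rw [Subgroup.mem_set_normalizer_iff]
  intro g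
  simp only [MulEquiv.coe_toMonoidHom, MulAut.conj_apply, SetLike.mem_coe]
  have key : ∀ g : G, g ∈ Q.map (MulAut.conj x).toMonoidHom ↔ x⁻¹ * g * x ∈ Q := by
    intro g
    constructor
    · rintro ⟨q, hq, rfl⟩
      simp only [MulEquiv.coe_toMonoidHom, MulAut.conj_apply]
      have : x⁻¹ * (x * q * x⁻¹) * x = q := by group
      rwa [this]
    · intro hg
      exact ⟨x⁻¹ * g * x, hg, by simp only [MulEquiv.coe_toMonoidHom, MulAut.conj_apply]; group⟩
  rw [key, key]
  have h1 := Subgroup.mem_set_normalizer_iff.mp hyN (x⁻¹ * g * x)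
  have h2 : x⁻¹ * (x * y * x⁻¹ * g * (x * y * x⁻¹)⁻¹) * x = y * (x⁻¹ * g * x) * y⁻¹ := by group
  rw [h2]
  exact h1

/-- Conjugation transports normal inclusions of Brauer pairs. -/
theorem isNormalSubpair_conj (x : G) {Q P : Subgroup G}
    {f : Set (IrrCharacter (Subgroup.centralizer (Q : Set G)))}
    {e : Set (IrrCharacter (Subgroup.centralizer (P : Set G)))}
    (h : IsNormalSubpair p M Q f P e) :
    IsNormalSubpair p M (Q.map (MulAut.conj x).toMonoidHom) (conjBlock Q x f)
      (P.map (MulAut.conj x).toMonoidHom) (conjBlock P x e) := by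
  obtain ⟨hQf, hPe, hQP, hPN, hfP, hlam⟩ := h
  refine ⟨isBrauerPair_conj x hQf, isBrauerPair_conj x hPe, Subgroup.map_mono hQP,
    map_conj_le_normalizer x hPN, ?_, ?_⟩
  · rintro _ ⟨y, hy, rfl⟩
    obtain ⟨hyN, hst⟩ := hfP y hy
    refine ⟨?_, ?_⟩
    · exact normalizer_le_normalizer_centralizer _
        (map_conj_le_normalizer x hPN ⟨y, hy, rfl⟩)
    · intro χ hχ
      rw [conjBlock_eq_mapBlock] at hχ
      obtain ⟨ξ, hξ, rfl⟩ := hχ
      obtain ⟨ξ', hξ', hconj⟩ := hst ξ hξ
      refine ⟨irrComp (centConjEquiv Q x) ξ', ?_, ?_⟩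
      · rw [conjBlock_eq_mapBlock]
        exact irrComp_mem_mapBlock _ hξ'
      · intro k k' hkk'
        rw [irrComp_apply, irrComp_apply]
        apply hconj
        rw [centConjEquiv_apply, centConjEquiv_apply, hkk']
        simp only [MulEquiv.coe_toMonoidHom, MulAut.conj_apply]
        group
  · intro ξ' hξ'
    rw [conjBlock_eq_mapBlock] at hξ'
    obtain ⟨ξ, hξ, rfl⟩ := hξ'
    have h1 := brauerOmega_conj P x
      (subgroupBlockCoeff (Subgroup.centralizer (Q : Set G)) f)
      (subgroupBlockCoeff (Subgroup.centralizer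
        ((Q.map (MulAut.conj x).toMonoidHom : Subgroup G) : Set G)) (conjBlock Q x f))
      (subgroupBlockCoeff_conj Q x f) (ξ : Subgroup.centralizer (P : Set G) → ℂ)
    have h2 : (irrComp (centConjEquiv P x) ξ : Subgroup.centralizer
        ((P.map (MulAut.conj x).toMonoidHom : Subgroup G) : Set G) → ℂ) =
        (ξ : Subgroup.centralizer (P : Set G) → ℂ) ∘ centConjEquiv P x := rfl
    rw [h2, h1]
    exact hlam ξ hξ

/-- Conjugation transports Brauer pairs of a block. -/
theorem isBrauerPairOf_conj (x : G) {B : Set (IrrCharacter G)} {Q : Subgroup G}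
    {f : Set (IrrCharacter (Subgroup.centralizer (Q : Set G)))}
    (h : IsBrauerPairOf p M B Q f) :
    IsBrauerPairOf p M B (Q.map (MulAut.conj x).toMonoidHom) (conjBlock Q x f) := by
  obtain ⟨hQf, hB, hlam⟩ := h
  refine ⟨isBrauerPair_conj x hQf, hB, ?_⟩
  intro ξ' hξ'
  rw [conjBlock_eq_mapBlock] at hξ'
  obtain ⟨ξ, hξ, rfl⟩ := hξ'
  have h1 := brauerOmega_conj Q x (blockCoeff B) (blockCoeff B)
    (fun c => blockCoeff_conj B c x) (ξ : Subgroup.centralizer (Q : Set G) → ℂ)
  have h2 : (irrComp (centConjEquiv Q x) ξ : Subgroup.centralizer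
      ((Q.map (MulAut.conj x).toMonoidHom : Subgroup G) : Set G) → ℂ) =
      (ξ : Subgroup.centralizer (Q : Set G) → ℂ) ∘ centConjEquiv Q x := rfl
  rw [h2, h1]
  exact hlam ξ hξ

/-! ### Conjugation on the index type -/

/-- The conjugate of a pair. -/
def conjPair (x : G) (a : BrauerPairIdx G) : BrauerPairIdx G :=
  ⟨a.1.map (MulAut.conj x).toMonoidHom, conjBlock a.1 x a.2⟩

theorem chain_conj (x : G) {a b : BrauerPairIdx G}
    (h : Relation.ReflTransGen (NormalSubpairRel p M) a b) :
    Relation.ReflTransGen (NormalSubpairRel p M) (conjPair x a) (conjPair x b) := by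
  induction h with
  | refl => exact Relation.ReflTransGen.refl
  | tail _ hcb ih => exact Relation.ReflTransGen.tail ih (isNormalSubpair_conj x hcb)

/-- Equality of pairs from equality of subgroups and matching characters. -/
theorem pair_ext {Q₁ Q₂ : Subgroup G} (h : Q₁ = Q₂)
    {S₁ : Set (IrrCharacter (Subgroup.centralizer (Q₁ : Set G)))}
    {S₂ : Set (IrrCharacter (Subgroup.centralizer (Q₂ : Set G)))}
    (h12 : ∀ ξ₁ ∈ S₁, ∃ ξ₂ ∈ S₂, ∀ (c₁ : Subgroup.centralizer (Q₁ : Set G))
      (c₂ : Subgroup.centralizer (Q₂ : Set G)), (c₁ : G) = (c₂ : G) →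
        (ξ₁ : Subgroup.centralizer (Q₁ : Set G) → ℂ) c₁ =
          (ξ₂ : Subgroup.centralizer (Q₂ : Set G) → ℂ) c₂)
    (h21 : ∀ ξ₂ ∈ S₂, ∃ ξ₁ ∈ S₁, ∀ (c₁ : Subgroup.centralizer (Q₁ : Set G))
      (c₂ : Subgroup.centralizer (Q₂ : Set G)), (c₁ : G) = (c₂ : G) →
        (ξ₁ : Subgroup.centralizer (Q₁ : Set G) → ℂ) c₁ =
          (ξ₂ : Subgroup.centralizer (Q₂ : Set G) → ℂ) c₂) :
    (⟨Q₁, S₁⟩ : BrauerPairIdx G) = ⟨Q₂, S₂⟩ := by
  subst h
  have : S₁ = S₂ := by
    ext ξ
    constructor
    · intro hξ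
      obtain ⟨ξ₂, hξ₂, h⟩ := h12 ξ hξ
      have : ξ = ξ₂ := Subtype.ext (funext fun c => h c c rfl)
      rw [this]
      exact hξ₂
    · intro hξ
      obtain ⟨ξ₁, hξ₁, h⟩ := h21 ξ hξ
      have : ξ₁ = ξ := Subtype.ext (funext fun c => h c c rfl)
      rw [← this]
      exact hξ₁
  rw [this]

theorem map_conj_mul (Q : Subgroup G) (x y : G) :
    Q.map (MulAut.conj (x * y)).toMonoidHom =
      (Q.map (MulAut.conj y).toMonoidHom).map (MulAut.conj x).toMonoidHom := by
  rw [Subgroup.map_map]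
  congr 1
  ext g
  simp [MulAut.conj_apply, mul_assoc]

theorem conjPair_mul (x y : G) (a : BrauerPairIdx G) :
    conjPair (x * y) a = conjPair x (conjPair y a) := by
  obtain ⟨Q, f⟩ := a
  unfold conjPair
  refine pair_ext (map_conj_mul Q x y) ?_ ?_
  · intro ξ₁ hξ₁
    rw [conjBlock_eq_mapBlock] at hξ₁
    obtain ⟨ξ, hξ, rfl⟩ := hξ₁
    refine ⟨irrComp (centConjEquiv _ x) (irrComp (centConjEquiv Q y) ξ), ?_, ?_⟩
    · rw [conjBlock_eq_mapBlock, conjBlock_eq_mapBlock]
      exact irrComp_mem_mapBlock _ (irrComp_mem_mapBlock _ hξ)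
    · intro c₁ c₂ h
      rw [irrComp_apply, irrComp_apply, irrComp_apply]
      refine congrArg _ (Subtype.ext ?_)
      rw [centConjEquiv_apply, centConjEquiv_apply, centConjEquiv_apply, h]
      group
  · intro ξ₂ hξ₂
    rw [conjBlock_eq_mapBlock, conjBlock_eq_mapBlock] at hξ₂
    obtain ⟨ξ', ⟨ξ, hξ, rfl⟩, rfl⟩ := hξ₂
    refine ⟨irrComp (centConjEquiv Q (x * y)) ξ, ?_, ?_⟩
    · rw [conjBlock_eq_mapBlock]
      exact irrComp_mem_mapBlock _ hξ
    · intro c₁ c₂ h
      rw [irrComp_apply, irrComp_apply, irrComp_apply]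
      refine congrArg _ (Subtype.ext ?_)
      rw [centConjEquiv_apply, centConjEquiv_apply, centConjEquiv_apply, h]
      group

theorem map_conj_inv_eq_of_mem_normalizer {P : Subgroup G} {n : G}
    (hn : n ∈ Subgroup.normalizer (P : Set G)) :
    P.map (MulAut.conj n⁻¹).toMonoidHom = P := by
  ext g
  constructor
  · rintro ⟨q, hq, rfl⟩
    simp only [MulEquiv.coe_toMonoidHom, MulAut.conj_apply, inv_inv]
    have h1 := Subgroup.mem_set_normalizer_iff.mp (Subgroup.inv_mem _ hn) q
    rw [inv_inv] at h1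
    exact h1.mp hq
  · intro hg
    refine ⟨n * g * n⁻¹, (Subgroup.mem_set_normalizer_iff.mp hn g).mp hg, ?_⟩
    simp only [MulEquiv.coe_toMonoidHom, MulAut.conj_apply, inv_inv]
    group

/-- Conjugating back a translate of `e`. -/
theorem conjPair_inv_mapBlock {P : Subgroup G} (n : Subgroup.normalizer (P : Set G))
    (e : Set (IrrCharacter (Subgroup.centralizer (P : Set G)))) :
    conjPair (n : G)⁻¹ (⟨P, mapBlock (conjEquiv (Subgroup.centralizer (P : Set G)) (n : G)
      (normalizer_le P n.2)) e⟩ : BrauerPairIdx G) = ⟨P, e⟩ := by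
  unfold conjPair
  refine pair_ext (map_conj_inv_eq_of_mem_normalizer n.2) ?_ ?_
  · intro ξ₁ hξ₁
    rw [conjBlock_eq_mapBlock] at hξ₁
    obtain ⟨ξ', ⟨ξ, hξ, rfl⟩, rfl⟩ := hξ₁
    refine ⟨ξ, hξ, ?_⟩
    intro c₁ c₂ h
    rw [irrComp_apply, irrComp_apply]
    refine congrArg _ (Subtype.ext ?_)
    rw [conjEquiv_apply, centConjEquiv_apply, h]
    group
  · intro ξ hξ
    refine ⟨irrComp (centConjEquiv P (n : G)⁻¹)
      (irrComp (conjEquiv (Subgroup.centralizer (P : Set G)) (n : G) (normalizer_le P n.2)) ξ),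
      ?_, ?_⟩
    · rw [conjBlock_eq_mapBlock]
      exact irrComp_mem_mapBlock _ (irrComp_mem_mapBlock _ hξ)
    · intro c₁ c₂ h
      rw [irrComp_apply, irrComp_apply]
      refine congrArg _ (Subtype.ext ?_)
      rw [conjEquiv_apply, centConjEquiv_apply, h]
      group

/-! ### Maximal pairs above a pair, conjugacy of defect groups -/

theorem exists_maximal_ge [Finite G] (B : Set (IrrCharacter G)) :
    ∀ (Q : Subgroup G) (f : Set (IrrCharacter (Subgroup.centralizer (Q : Set G)))),
      IsBrauerPairOf p M B Q f →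
      ∃ (Q' : Subgroup G) (f' : Set (IrrCharacter (Subgroup.centralizer (Q' : Set G)))),
        IsMaximalBrauerPair p M B Q' f' ∧ SubpairLE p M Q f Q' f' := by
  intro Q
  induction Q using WellFoundedGT.induction with
  | ind Q ih =>
    intro f hf
    by_cases hmax : IsMaximalBrauerPair p M B Q f
    · exact ⟨Q, f, hmax, Relation.ReflTransGen.refl⟩
    · unfold IsMaximalBrauerPair at hmax
      push Not at hmax
      obtain ⟨R, g, hRg, hle, hne⟩ := hmax hf
      have hQR : Q ≤ R := le_of_chain hle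
      have hlt : Q < R := lt_of_le_of_ne hQR (Ne.symm hne)
      obtain ⟨Q', f', hmax', hle'⟩ := ih R hlt g hRg
      exact ⟨Q', f', hmax', Relation.ReflTransGen.trans hle hle'⟩

theorem exists_conj_eq_of_isDefectGroup [Finite G] [Fact p.Prime] (hM : IsPModular p M)
    {B : Set (IrrCharacter G)} (hB : IsPBlock M B) {D D' : Subgroup G}
    (hD : IsDefectGroup p M B D) (hD' : IsDefectGroup p M B D') :
    ∃ y : G, D.map (MulAut.conj y).toMonoidHom = D' := by
  have hcard := isDefectGroup_card_eq hM hB hD hD'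
  obtain ⟨g, hg, Pg, rfl⟩ := hD
  obtain ⟨g', hg', Pg', hD'eq⟩ := hD'
  have hD'p : IsPGroup p D' := by rw [hD'eq]; exact isPGroup_map_sylow _ Pg'
  have hD'c : D' ≤ Subgroup.centralizer ({g'} : Set G) := by
    rw [hD'eq]; exact map_sylow_le _ Pg'
  obtain ⟨x, hx⟩ := le_conj_of_blockCoeff_not_mem hM hB hg Pg g' hg'.2.1 D' hD'p hD'c
  refine ⟨x, ?_⟩
  symm
  apply Subgroup.eq_of_le_of_card_ge hx
  rw [card_map_conj, hcard]

section Main

variable [Fintype G] [Fact p.Prime]

/-- Brauer pairs of `B` at the subgroup of a maximal pair `(P, e)` are `N_G(P)`-conjugate to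
`(P, e)`. -/
theorem exists_conj_of_pair (hM : IsPModular p M) {B : Set (IrrCharacter G)} {P : Subgroup G}
    {e e₁ : Set (IrrCharacter (Subgroup.centralizer (P : Set G)))}
    (hmax : IsMaximalBrauerPair p M B P e) (h₁ : IsBrauerPairOf p M B P e₁) :
    ∃ n : Subgroup.normalizer (P : Set G),
      e₁ = mapBlock (conjEquiv (Subgroup.centralizer (P : Set G)) (n : G)
        (normalizer_le P n.2)) e := by
  classical
  have := Fintype.ofFinite (Subgroup.centralizer (P : Set G))
  have := Fintype.ofFinite (Quotient (orbSetoid (Subgroup.centralizer (P : Set G))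
    (Subgroup.normalizer (P : Set G))))
  have hMp := isPrime_of_isPModular hM
  have hcC := Cfsg.Agent.Lib.Helper78_CharFacts.charFacts (G := Subgroup.centralizer (P : Set G))
  have hBe := hmax.1
  have hPe := hBe.1
  have hP := hPe.1
  have he := hPe.2
  have he₁ := h₁.1.2
  have hB := hBe.2.1
  have hNK := normalizer_le P
  have hCN := centralizer_le_normalizer P
  obtain ⟨ξ₀, hξ₀⟩ := isPBlock_nonempty hMp he
  obtain ⟨ξ₁, hξ₁⟩ := isPBlock_nonempty hMp he₁
  obtain ⟨χ₀, hχ₀⟩ := exists_irr_brauerOmega hM P hP ξ₀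
  obtain ⟨χ₁, hχ₁⟩ := exists_irr_brauerOmega hM P hP ξ₁
  have hχ₀B : χ₀ ∈ B := (isBrauerPairOf_iff_mem hM P hP he hB hξ₀ hχ₀).mp hBe
  have hχ₁B : χ₁ ∈ B := (isBrauerPairOf_iff_mem hM P hP he₁ hB hξ₁ hχ₁).mp h₁
  have hsb := isPBlock_sameBlock hMp hB hχ₁B hχ₀B
  have hOc : Closed M (orbitUnion (Subgroup.centralizer (P : Set G))
      (Subgroup.normalizer (P : Set G)) (normalizer_le P) e) := closed_orbitUnion hNK hMp he
  have hON : PStable (Subgroup.centralizer (P : Set G)) (Subgroup.normalizer (P : Set G))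
      (orbitUnion (Subgroup.centralizer (P : Set G))
      (Subgroup.normalizer (P : Set G)) (normalizer_le P) e) := pstable_orbitUnion hNK e
  have h0 : omega (ξ₀ : Subgroup.centralizer (P : Set G) → ℂ)
      (blockCoeff (orbitUnion (Subgroup.centralizer (P : Set G))
      (Subgroup.normalizer (P : Set G)) (normalizer_le P) e)) = 1 := by
    rw [omega_blockCoeff hcC, Set.indicator_of_mem (subset_orbitUnion hNK e hξ₀)]
  have hconst : ∀ c c' : Subgroup.centralizer (P : Set G),
      (orbSetoid (Subgroup.centralizer (P : Set G)) (Subgroup.normalizer (P : Set G))).r c c' →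
      blockCoeff (orbitUnion (Subgroup.centralizer (P : Set G))
        (Subgroup.normalizer (P : Set G)) (normalizer_le P) e) c =
      blockCoeff (orbitUnion (Subgroup.centralizer (P : Set G))
        (Subgroup.normalizer (P : Set G)) (normalizer_le P) e) c' := by
    rintro c c' ⟨n, hn, hnc⟩
    have h2 := blockCoeff_conj_of_pstable hNK hON (Subgroup.inv_mem _ hn) c
    rw [← h2]
    congr 1
    apply Subtype.ext
    rw [conjEquiv_apply, inv_inv]
    exact hnc
  -- the key congruence
  have hkey : MemLocalIdeal M (omega (ξ₁ : Subgroup.centralizer (P : Set G) → ℂ)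
      (blockCoeff (orbitUnion (Subgroup.centralizer (P : Set G))
      (Subgroup.normalizer (P : Set G)) (normalizer_le P) e)) -
      omega (ξ₀ : Subgroup.centralizer (P : Set G) → ℂ)
      (blockCoeff (orbitUnion (Subgroup.centralizer (P : Set G))
      (Subgroup.normalizer (P : Set G)) (normalizer_le P) e))) := by
    rw [omega_eq_sum_orbits _ hconst, omega_eq_sum_orbits _ hconst, ← Finset.sum_sub_distrib]
    refine memLocalIdeal_sum hMp _ _ fun q _ => ?_
    rw [← mul_sub]
    have hR1 := osima' hMp _ hOc q.out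
    have hR2 := memLocalRing_omega hMp ξ₁.2 (orbInd_isClassFunction hCN q)
      (orbInd_memLocalRing hMp _ _ q)
    have hR3 := memLocalRing_omega hMp ξ₀.2 (orbInd_isClassFunction hCN q)
      (orbInd_memLocalRing hMp _ _ q)
    by_cases hq : MemLocalIdeal M (blockCoeff (orbitUnion (Subgroup.centralizer (P : Set G))
        (Subgroup.normalizer (P : Set G)) (normalizer_le P) e) q.out)
    · exact memLocalIdeal_mul_right hMp hq (memLocalRing_sub hMp hR2 hR3)
    · refine memLocalIdeal_mul_left hMp hR1 ?_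
      have hmaxc := max_of_blockCoeff_orbit hM hmax q.out hq
      have hres := res_classIndicator_eq hP q.out hmaxc
      rw [Quotient.out_eq] at hres
      have h1 := hχ₀ (classIndicator ((q.out : Subgroup.centralizer (P : Set G)) : G))
        (classIndicator_isClassFunction _) (memLocalRing_classIndicator hMp _)
      rw [brauerOmega_eq_omega, hres,
        omega_classIndicator (isIrrCharacter_isClassFunction χ₀.2)] at h1
      have h2 := hχ₁ (classIndicator ((q.out : Subgroup.centralizer (P : Set G)) : G))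
        (classIndicator_isClassFunction _) (memLocalRing_classIndicator hMp _)
      rw [brauerOmega_eq_omega, hres,
        omega_classIndicator (isIrrCharacter_isClassFunction χ₁.2)] at h2
      have h3 := hsb ((q.out : Subgroup.centralizer (P : Set G)) : G)
      have h4 := memLocalIdeal_sub hMp (memLocalIdeal_add hMp h2 h3) h1
      have h5 : omega (ξ₁ : Subgroup.centralizer (P : Set G) → ℂ)
            (orbInd (Subgroup.centralizer (P : Set G)) (Subgroup.normalizer (P : Set G)) q) -
          centralChar (χ₁ : G → ℂ) ((q.out : Subgroup.centralizer (P : Set G)) : G) +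
          (centralChar (χ₁ : G → ℂ) ((q.out : Subgroup.centralizer (P : Set G)) : G) -
            centralChar (χ₀ : G → ℂ) ((q.out : Subgroup.centralizer (P : Set G)) : G)) -
          (omega (ξ₀ : Subgroup.centralizer (P : Set G) → ℂ)
            (orbInd (Subgroup.centralizer (P : Set G)) (Subgroup.normalizer (P : Set G)) q) -
          centralChar (χ₀ : G → ℂ) ((q.out : Subgroup.centralizer (P : Set G)) : G)) =
          omega (ξ₁ : Subgroup.centralizer (P : Set G) → ℂ)
            (orbInd (Subgroup.centralizer (P : Set G)) (Subgroup.normalizer (P : Set G)) q) -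
          omega (ξ₀ : Subgroup.centralizer (P : Set G) → ℂ)
            (orbInd (Subgroup.centralizer (P : Set G)) (Subgroup.normalizer (P : Set G)) q) := by
        ring
      rw [h5] at h4
      exact h4
  rw [h0, omega_blockCoeff hcC] at hkey
  have hξ₁O : ξ₁ ∈ orbitUnion (Subgroup.centralizer (P : Set G))
      (Subgroup.normalizer (P : Set G)) (normalizer_le P) e := by
    by_contra hne
    rw [Set.indicator_of_notMem hne, zero_sub] at hkey
    have := memLocalIdeal_neg hkey
    rw [neg_neg] at this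
    exact not_memLocalIdeal_one hMp this
  obtain ⟨n, hn⟩ := Set.mem_iUnion.mp hξ₁O
  exact ⟨n, isPBlock_eq_of_mem_of_mem hMp he₁ (isPBlock_mapBlock _ he) hξ₁ hn⟩

/-- **S4660**: every Brauer pair of `B` is conjugate to a pair below a given maximal pair. -/
theorem exists_conj_subpairLE (hM : IsPModular p M) {B : Set (IrrCharacter G)}
    {P Q : Subgroup G} {e : Set (IrrCharacter (Subgroup.centralizer (P : Set G)))}
    {f : Set (IrrCharacter (Subgroup.centralizer (Q : Set G)))}
    (hmax : IsMaximalBrauerPair p M B P e) (hQf : IsBrauerPairOf p M B Q f) :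
    ∃ x : G, SubpairLE p M (Q.map (MulAut.conj x).toMonoidHom) (conjBlock Q x f) P e := by
  have hB := hQf.2.1
  obtain ⟨Q', f', hmax', hle⟩ := exists_maximal_ge B Q f hQf
  have hD' := isDefectGroup_of_isMaximalBrauerPair hM hmax'
  have hD := isDefectGroup_of_isMaximalBrauerPair hM hmax
  obtain ⟨y, hy⟩ := exists_conj_eq_of_isDefectGroup hM hB hD' hD
  have hex : ∃ e₁ : Set (IrrCharacter (Subgroup.centralizer (P : Set G))),
      conjPair y (⟨Q', f'⟩ : BrauerPairIdx G) = (⟨P, e₁⟩ : BrauerPairIdx G) := by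
    generalize hgen : conjPair y (⟨Q', f'⟩ : BrauerPairIdx G) = a
    have ha : a.1 = P := by
      rw [← hgen]
      exact hy
    obtain ⟨Q₂, e₂⟩ := a
    simp only at ha
    subst ha
    exact ⟨e₂, rfl⟩
  obtain ⟨e₁, he₁⟩ := hex
  have hB₁ : IsBrauerPairOf p M B P e₁ := by
    have h2 : IsBrauerPairOf p M B (conjPair y (⟨Q', f'⟩ : BrauerPairIdx G)).1
        (conjPair y (⟨Q', f'⟩ : BrauerPairIdx G)).2 := isBrauerPairOf_conj y hmax'.1
    rw [he₁] at h2
    exact h2
  obtain ⟨n, hn⟩ := exists_conj_of_pair hM hmax hB₁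
  have h4 : conjPair (n : G)⁻¹ (⟨P, e₁⟩ : BrauerPairIdx G) = ⟨P, e⟩ := by
    rw [hn]
    exact conjPair_inv_mapBlock n e
  refine ⟨(n : G)⁻¹ * y, ?_⟩
  have h5 := chain_conj (n : G)⁻¹ (chain_conj y hle)
  rw [he₁, h4, ← conjPair_mul] at h5
  exact h5

end Main

end Cfsg.Agent.Lib.Helper78_PairConj
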