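import Mathlib
import Cfsg.Prelude.Def_Blocks
import Cfsg.Prelude.Def_BlockLocal
import Cfsg.Prelude.Def_BrauerPairs
import Cfsg.Agent.Lib.Helper78_LocalRing
import Cfsg.Agent.Lib.Helper78_CentralChar
import Cfsg.Agent.Lib.Helper78_Osima
import Cfsg.Agent.Lib.Helper78_CharFacts
import Cfsg.Agent.Lib.Helper78_AlgHom
import Cfsg.Agent.Lib.Helper78_BrauerMap
import Cfsg.Agent.Lib.Helper78_BrDecomp
import Cfsg.Agent.Lib.Helper78_ExtConv
import Cfsg.Agent.Lib.Helper78_SecondMain
import Cfsg.Agent.Lib.Helper78_BrauerPairs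
import Cfsg.Agent.Lib.Helper78_Transport
import Cfsg.Agent.Lib.Helper78_TransportBlocks
import Cfsg.Agent.Lib.Helper78_NilpotentPrincipal
import Cfsg.Agent.Lib.Helper78_PrincipalFusion
import Cfsg.Agent.Lib.Helper78_BrauerCorr
import Cfsg.Agent.Lib.Helper78_SubpairBasic
import Cfsg.Agent.Lib.Helper78_SubpairNormal
import Cfsg.Agent.Lib.Helper78_SubpairTrans
import Cfsg.Agent.Lib.Helper78_SubpairUnique
import Cfsg.Agent.Lib.Helper78_MinMax
import Cfsg.Agent.Lib.Helper78_Defect
import Cfsg.Agent.Lib.Helper78_FirstMainGT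
import Cfsg.Agent.Lib.Helper78_FirstMain
import Cfsg.Agent.Lib.Helper78_MaxPair
import Cfsg.Agent.Lib.Helper78_PairConj

/-!
# Brauer pairs of a centralizer (helper78, S4661)

For a `p`-subgroup `Q` of `G` with `H = C_G(Q)` and a subgroup `D` of `H`, the centralizer of `D`
in `H` is the centralizer of `Q ⊔ D` in `G`.  Brauer pairs `(D, g)` of a block `f` of the group `H`
correspond to the pairs `(Q ⊔ D, g)` of `G` with `(Q, f)` normally below them.
-/

set_option autoImplicit false
set_option linter.unusedSectionVars false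

namespace Cfsg.Agent.Lib.Helper78_PairCent

open Cfsg Cfsg.Agent.Lib.Helper78_LocalRing Cfsg.Agent.Lib.Helper78_CentralChar
  Cfsg.Agent.Lib.Helper78_Osima Cfsg.Agent.Lib.Helper78_CharFacts
  Cfsg.Agent.Lib.Helper78_AlgHom
  Cfsg.Agent.Lib.Helper78_BrauerMap Cfsg.Agent.Lib.Helper78_BrDecomp
  Cfsg.Agent.Lib.Helper78_ExtConv Cfsg.Agent.Lib.Helper78_SecondMain
  Cfsg.Agent.Lib.Helper78_BrauerPairs Cfsg.Agent.Lib.Helper78_Transport
  Cfsg.Agent.Lib.Helper78_TransportBlocks Cfsg.Agent.Lib.Helper78_NilpotentPrincipal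
  Cfsg.Agent.Lib.Helper78_PrincipalFusion
  Cfsg.Agent.Lib.Helper78_BrauerCorr
  Cfsg.Agent.Lib.Helper78_SubpairBasic Cfsg.Agent.Lib.Helper78_SubpairNormal
  Cfsg.Agent.Lib.Helper78_SubpairTrans Cfsg.Agent.Lib.Helper78_SubpairUnique
  Cfsg.Agent.Lib.Helper78_MinMax
  Cfsg.Agent.Lib.Helper78_Defect Cfsg.Agent.Lib.Helper78_FirstMainGT
  Cfsg.Agent.Lib.Helper78_FirstMain Cfsg.Agent.Lib.Helper78_MaxPair
  Cfsg.Agent.Lib.Helper78_PairConj

universe u

variable {G : Type u} [Group G] {M : Ideal AlgInt} {p : ℕ}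

/-! ### Group theory -/

theorem mem_centralizer_iff_le (S : Subgroup G) (c : G) :
    c ∈ Subgroup.centralizer (S : Set G) ↔ S ≤ Subgroup.centralizer ({c} : Set G) := by
  constructor
  · intro h s hs
    rw [Subgroup.mem_centralizer_iff]
    intro z hz
    rw [Set.mem_singleton_iff] at hz
    subst hz
    exact (Subgroup.mem_centralizer_iff.mp h s hs).symm
  · intro h
    rw [Subgroup.mem_centralizer_iff]
    intro s hs
    exact (Subgroup.mem_centralizer_iff.mp (h hs) c (Set.mem_singleton _)).symm

theorem mem_centralizer_sup_iff (A B : Subgroup G) (c : G) :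
    c ∈ Subgroup.centralizer ((A ⊔ B : Subgroup G) : Set G) ↔
      c ∈ Subgroup.centralizer (A : Set G) ∧ c ∈ Subgroup.centralizer (B : Set G) := by
  rw [mem_centralizer_iff_le, mem_centralizer_iff_le, mem_centralizer_iff_le, sup_le_iff]

/-- The subgroup `Q ⊔ D` of `G` attached to a subgroup `D` of `C_G(Q)`. -/
def supSub (Q : Subgroup G) (D : Subgroup (Subgroup.centralizer (Q : Set G))) : Subgroup G :=
  Q ⊔ D.map (Subgroup.centralizer (Q : Set G)).subtype

theorem le_supSub (Q : Subgroup G) (D : Subgroup (Subgroup.centralizer (Q : Set G))) :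
    Q ≤ supSub Q D := le_sup_left

theorem map_le_supSub (Q : Subgroup G) (D : Subgroup (Subgroup.centralizer (Q : Set G))) :
    D.map (Subgroup.centralizer (Q : Set G)).subtype ≤ supSub Q D := le_sup_right

theorem map_le_centralizer (Q : Subgroup G) (D : Subgroup (Subgroup.centralizer (Q : Set G))) :
    D.map (Subgroup.centralizer (Q : Set G)).subtype ≤ Subgroup.centralizer (Q : Set G) := by
  rintro _ ⟨d, -, rfl⟩
  exact d.2

theorem supSub_le_normalizer (Q : Subgroup G) (D : Subgroup (Subgroup.centralizer (Q : Set G))) :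
    supSub Q D ≤ Subgroup.normalizer (Q : Set G) :=
  sup_le Subgroup.le_normalizer ((map_le_centralizer Q D).trans (centralizer_le_normalizer Q))

theorem isPGroup_supSub {Q : Subgroup G} (hQ : IsPGroup p Q)
    {D : Subgroup (Subgroup.centralizer (Q : Set G))} (hD : IsPGroup p D) :
    IsPGroup p (supSub Q D) := by
  have hD' : IsPGroup p (D.map (Subgroup.centralizer (Q : Set G)).subtype) := hD.map _
  exact IsPGroup.to_sup_of_normal_left' hQ hD'
    ((map_le_centralizer Q D).trans (centralizer_le_normalizer Q))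

/-- `C_H(D) ≃* C_G(Q ⊔ D)` for `H = C_G(Q)`. -/
noncomputable def centIso (Q : Subgroup G) (D : Subgroup (Subgroup.centralizer (Q : Set G))) :
    Subgroup.centralizer (D : Set (Subgroup.centralizer (Q : Set G))) ≃*
      Subgroup.centralizer ((supSub Q D : Subgroup G) : Set G) where
  toFun h := ⟨((h : Subgroup.centralizer (Q : Set G)) : G), by
    unfold supSub
    rw [mem_centralizer_sup_iff]
    refine ⟨(h : Subgroup.centralizer (Q : Set G)).2, ?_⟩
    rw [Subgroup.mem_centralizer_iff]
    rintro _ ⟨d, hd, rfl⟩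
    have := Subgroup.mem_centralizer_iff.mp h.2 d hd
    exact congrArg Subtype.val this⟩
  invFun c := ⟨⟨(c : G), by
      have := c.2
      unfold supSub at this
      rw [mem_centralizer_sup_iff] at this
      exact this.1⟩, by
    have := c.2
    unfold supSub at this
    rw [mem_centralizer_sup_iff] at this
    rw [Subgroup.mem_centralizer_iff]
    intro d hd
    apply Subtype.ext
    exact Subgroup.mem_centralizer_iff.mp this.2 (d : G) ⟨d, hd, rfl⟩⟩
  left_inv h := rfl
  right_inv c := rfl
  map_mul' a b := rfl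

theorem centIso_apply (Q : Subgroup G) (D : Subgroup (Subgroup.centralizer (Q : Set G)))
    (h : Subgroup.centralizer (D : Set (Subgroup.centralizer (Q : Set G)))) :
    ((centIso Q D h : Subgroup.centralizer ((supSub Q D : Subgroup G) : Set G)) : G) =
      ((h : Subgroup.centralizer (Q : Set G)) : G) := rfl

/-- The two Brauer maps agree. -/
theorem brauerOmega_centIso (Q : Subgroup G) (D : Subgroup (Subgroup.centralizer (Q : Set G)))
    (f : Set (IrrCharacter (Subgroup.centralizer (Q : Set G))))
    (ζ : Subgroup.centralizer ((supSub Q D : Subgroup G) : Set G) → ℂ) :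
    brauerOmega D (blockCoeff f) (ζ ∘ centIso Q D) =
      brauerOmega (supSub Q D) (subgroupBlockCoeff (Subgroup.centralizer (Q : Set G)) f) ζ := by
  classical
  unfold brauerOmega
  rw [← finsum_comp_equiv (centIso Q D).toEquiv]
  refine finsum_congr fun h => ?_
  simp only [Function.comp_apply, MulEquiv.toEquiv_eq_coe, MulEquiv.coe_toEquiv, map_one]
  congr 2
  unfold subgroupBlockCoeff
  rw [centIso_apply, dif_pos (h : Subgroup.centralizer (Q : Set G)).2]

/-! ### Elements acting on `H` by inner automorphisms fix every block -/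

theorem stabilizesBlock_of_mem_supSub (Q : Subgroup G)
    (D : Subgroup (Subgroup.centralizer (Q : Set G)))
    (f : Set (IrrCharacter (Subgroup.centralizer (Q : Set G)))) {x : G}
    (hx : x ∈ supSub Q D) : StabilizesBlock (Subgroup.centralizer (Q : Set G)) f x := by
  -- the subgroup of elements fixing every irreducible character of `H`
  let K : Subgroup G :=
    { carrier := {x | x ∈ Subgroup.normalizer
          ((Subgroup.centralizer (Q : Set G) : Subgroup G) : Set G) ∧
        ∀ χ : IrrCharacter (Subgroup.centralizer (Q : Set G)),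
          IsConjCharOf (Subgroup.centralizer (Q : Set G)) x
            (χ : Subgroup.centralizer (Q : Set G) → ℂ) (χ : Subgroup.centralizer (Q : Set G) → ℂ)}
      one_mem' := by
        refine ⟨Subgroup.one_mem _, fun χ k k' h => ?_⟩
        have : k' = k := Subtype.ext (by rw [h]; group)
        rw [this]
      mul_mem' := by
        rintro a b ⟨haN, ha⟩ ⟨hbN, hb⟩
        refine ⟨Subgroup.mul_mem _ haN hbN, fun χ k k' h => ?_⟩
        have hk'' : b * (k : G) * b⁻¹ ∈ Subgroup.centralizer (Q : Set G) :=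
          (Subgroup.mem_set_normalizer_iff.mp hbN (k : G)).mp k.2
        have h1 := hb χ k ⟨_, hk''⟩ rfl
        have h2 := ha χ ⟨_, hk''⟩ k' (by rw [h]; group)
        rw [h2, h1]
      inv_mem' := by
        rintro a ⟨haN, ha⟩
        refine ⟨Subgroup.inv_mem _ haN, fun χ k k' h => ?_⟩
        have h1 := ha χ k' k (by rw [h]; group)
        exact h1.symm }
  have hQK : Q ≤ K := by
    intro q hq
    have hcomm : ∀ k : Subgroup.centralizer (Q : Set G), q * (k : G) * q⁻¹ = (k : G) := by
      intro k
      have := Subgroup.mem_centralizer_iff.mp k.2 q hq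
      rw [this]
      group
    refine ⟨?_, fun χ k k' h => ?_⟩
    · rw [Subgroup.mem_set_normalizer_iff]
      intro g
      constructor
      · intro hg
        have := hcomm ⟨g, hg⟩
        simp only at this
        rw [SetLike.mem_coe, this]
        exact hg
      · intro hg
        have h1 := hcomm ⟨_, hg⟩
        simp only at h1
        have h2 : g = q * g * q⁻¹ := by
          have h3 : q⁻¹ * (q * (q * g * q⁻¹) * q⁻¹) * q = q⁻¹ * (q * g * q⁻¹) * q := by rw [h1]
          have e1 : q⁻¹ * (q * (q * g * q⁻¹) * q⁻¹) * q = q * g * q⁻¹ := by group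
          have e2 : q⁻¹ * (q * g * q⁻¹) * q = g := by group
          rw [e1, e2] at h3
          exact h3.symm
        rw [SetLike.mem_coe, h2]
        exact hg
    · have : k' = k := Subtype.ext (by rw [h, hcomm k])
      rw [this]
  have hHK : Subgroup.centralizer (Q : Set G) ≤ K := by
    intro h hh
    refine ⟨Subgroup.le_normalizer hh, fun χ k k' hk => ?_⟩
    have h1 := isIrrCharacter_isClassFunction χ.2 k ⟨h, hh⟩
    rw [← h1]
    refine congrArg _ (Subtype.ext ?_)
    rw [hk]
    rfl
  have hxK : x ∈ K := (sup_le hQK ((map_le_centralizer Q D).trans hHK)) hx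
  exact ⟨hxK.1, fun χ hχ => ⟨χ, hχ, hxK.2 χ⟩⟩

/-! ### Transport of pairs -/

/-- From a pair of `G` normally above `(Q, f)` to a Brauer pair of the block `f` of `C_G(Q)`. -/
theorem isBrauerPairOf_of_isNormalSubpair {Q : Subgroup G}
    {D : Subgroup (Subgroup.centralizer (Q : Set G))}
    {f : Set (IrrCharacter (Subgroup.centralizer (Q : Set G)))}
    {g : Set (IrrCharacter (Subgroup.centralizer ((supSub Q D : Subgroup G) : Set G)))}
    (h : IsNormalSubpair p M Q f (supSub Q D) g) :
    IsBrauerPairOf p M f D (mapBlock (centIso Q D) g) := by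
  obtain ⟨hQf, hRg, -, -, -, hlam⟩ := h
  have hDp : IsPGroup p D := by
    have h1 : IsPGroup p (D.map (Subgroup.centralizer (Q : Set G)).subtype) :=
      hRg.1.to_le (map_le_supSub Q D)
    exact h1.of_equiv
      (Subgroup.equivMapOfInjective D _ (Subgroup.subtype_injective _)).symm
  refine ⟨⟨hDp, isPBlock_mapBlock _ hRg.2⟩, hQf.2, ?_⟩
  rintro _ ⟨ζ, hζ, rfl⟩
  have h1 : (irrComp (centIso Q D) ζ :
      Subgroup.centralizer (D : Set (Subgroup.centralizer (Q : Set G))) → ℂ) =
      (ζ : Subgroup.centralizer ((supSub Q D : Subgroup G) : Set G) → ℂ) ∘ centIso Q D := rfl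
  rw [h1, brauerOmega_centIso]
  exact hlam ζ hζ

/-- From a Brauer pair of the block `f` of `C_G(Q)` to a pair of `G` normally above `(Q, f)`. -/
theorem isNormalSubpair_of_isBrauerPairOf {Q : Subgroup G} (hQ : IsPGroup p Q)
    {D : Subgroup (Subgroup.centralizer (Q : Set G))}
    {f : Set (IrrCharacter (Subgroup.centralizer (Q : Set G)))}
    {g' : Set (IrrCharacter (Subgroup.centralizer
      (D : Set (Subgroup.centralizer (Q : Set G)))))}
    (h : IsBrauerPairOf p M f D g') :
    IsNormalSubpair p M Q f (supSub Q D) (mapBlock (centIso Q D).symm g') := by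
  obtain ⟨hDg, hf, hlam⟩ := h
  refine ⟨⟨hQ, hf⟩, ⟨isPGroup_supSub hQ hDg.1, isPBlock_mapBlock _ hDg.2⟩, le_supSub Q D,
    supSub_le_normalizer Q D, fun x hx => stabilizesBlock_of_mem_supSub Q D f hx, ?_⟩
  rintro _ ⟨ξ, hξ, rfl⟩
  rw [← brauerOmega_centIso]
  have h1 : (irrComp (centIso Q D).symm ξ :
      Subgroup.centralizer ((supSub Q D : Subgroup G) : Set G) → ℂ) ∘ centIso Q D =
      (ξ : Subgroup.centralizer (D : Set (Subgroup.centralizer (Q : Set G))) → ℂ) := by
    funext c
    simp only [Function.comp_apply]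
    rw [irrComp_apply, MulEquiv.symm_apply_apply]
  rw [h1]
  exact hlam ξ hξ

section Main

variable [Fintype G] [Fact p.Prime]

theorem supSub_subgroupOf {Q P : Subgroup G} (hQP : Q ≤ P) :
    supSub Q ((P ⊓ Subgroup.centralizer (Q : Set G)).subgroupOf
      (Subgroup.centralizer (Q : Set G))) = Q ⊔ (P ⊓ Subgroup.centralizer (Q : Set G)) := by
  unfold supSub
  rw [Subgroup.map_subgroupOf_eq_of_le inf_le_right]

/-- **S4661 (a)**: below a pair `(P, e)`, `C_P(Q)` gives a Brauer pair of `f` in `C_G(Q)`; in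
particular it lies in a defect group of `f`. -/
theorem exists_pair_of_subpairLE (hM : IsPModular p M) {P Q : Subgroup G}
    {e : Set (IrrCharacter (Subgroup.centralizer (P : Set G)))}
    {f : Set (IrrCharacter (Subgroup.centralizer (Q : Set G)))}
    (hPe : IsBrauerPair p M P e) (hQP : Q ≤ P) (hf : IsPBlock M f)
    (hle : SubpairLE p M Q f P e) :
    ∃ g' : Set (IrrCharacter (Subgroup.centralizer
      (((P ⊓ Subgroup.centralizer (Q : Set G)).subgroupOf (Subgroup.centralizer (Q : Set G)) :
        Subgroup (Subgroup.centralizer (Q : Set G))) :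
          Set (Subgroup.centralizer (Q : Set G))))),
      IsBrauerPairOf p M f ((P ⊓ Subgroup.centralizer (Q : Set G)).subgroupOf
        (Subgroup.centralizer (Q : Set G))) g' := by
  have hP := hPe.1
  set D₁ := (P ⊓ Subgroup.centralizer (Q : Set G)).subgroupOf
    (Subgroup.centralizer (Q : Set G)) with hD₁
  have hRP : supSub Q D₁ ≤ P := by
    rw [hD₁, supSub_subgroupOf hQP]
    exact sup_le hQP inf_le_left
  obtain ⟨g, hg, hgle⟩ := exists_subpairLE hM hPe (supSub Q D₁) hRP
  obtain ⟨f₁, hf₁, -⟩ := existsUnique_isNormalSubpair hM (supSub Q D₁) Q g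
    ⟨hP.to_le hRP, hg⟩ (le_supSub Q D₁) (supSub_le_normalizer Q D₁)
  have hle₁ : SubpairLE p M Q f₁ P e :=
    Relation.ReflTransGen.head (show NormalSubpairRel p M (⟨Q, f₁⟩ : BrauerPairIdx G)
      ⟨supSub Q D₁, g⟩ from hf₁) hgle
  have hff : f₁ = f := subpairLE_unique hM P e Q f₁ f hle₁ hle
  rw [hff] at hf₁
  exact ⟨_, isBrauerPairOf_of_isNormalSubpair hf₁⟩

/-- **S4661**: for `(Q, f) ≤ (P, e)` with `(P, e)` maximal, `C_P(Q)` lies in a defect group of
`f`, and for a suitable conjugate it is a defect group. -/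
theorem centralizer_defect (hM : IsPModular p M) {B : Set (IrrCharacter G)} {P Q : Subgroup G}
    {e : Set (IrrCharacter (Subgroup.centralizer (P : Set G)))}
    {f : Set (IrrCharacter (Subgroup.centralizer (Q : Set G)))}
    (hmax : IsMaximalBrauerPair p M B P e) (hQP : Q ≤ P) (hf : IsPBlock M f)
    (hle : SubpairLE p M Q f P e) :
    (∃ D : Subgroup (Subgroup.centralizer (Q : Set G)), IsDefectGroup p M f D ∧
      (P ⊓ Subgroup.centralizer (Q : Set G)).subgroupOf (Subgroup.centralizer (Q : Set G)) ≤ D) ∧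
    ∃ x : G, SubpairLE p M (Q.map (MulAut.conj x).toMonoidHom) (conjBlock Q x f) P e ∧
      IsDefectGroup p M (conjBlock Q x f)
        ((P ⊓ Subgroup.centralizer ((Q.map (MulAut.conj x).toMonoidHom : Subgroup G) : Set G)).subgroupOf
          (Subgroup.centralizer ((Q.map (MulAut.conj x).toMonoidHom : Subgroup G) : Set G))) := by
  classical
  have := Fintype.ofFinite (Subgroup.centralizer (Q : Set G))
  have hPe := hmax.1.1
  have hB := hmax.1.2.1
  have hQ : IsPGroup p Q := hPe.1.to_le hQP
  obtain ⟨g₁, hg₁⟩ := exists_pair_of_subpairLE hM hPe hQP hf hle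
  refine ⟨exists_isDefectGroup_ge_of_pair hM hg₁, ?_⟩
  obtain ⟨D', g', hmax', -⟩ := exists_maximal_ge f _ g₁ hg₁
  have hD' : IsDefectGroup p M f D' := isDefectGroup_of_isMaximalBrauerPair hM hmax'
  have hnorm := isNormalSubpair_of_isBrauerPairOf hQ hmax'.1
  have hstep : SubpairLE p M Q f (supSub Q D') (mapBlock (centIso Q D').symm g') :=
    Relation.ReflTransGen.single hnorm
  have hQfB : IsBrauerPairOf p M B Q f := (isBrauerPairOf_iff_of_subpairLE hM hle hB).mp hmax.1
  have hR'B : IsBrauerPairOf p M B (supSub Q D') (mapBlock (centIso Q D').symm g') :=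
    (isBrauerPairOf_iff_of_subpairLE hM hstep hB).mpr hQfB
  obtain ⟨x, hx⟩ := exists_conj_subpairLE hM hmax hR'B
  have hchain : SubpairLE p M (Q.map (MulAut.conj x).toMonoidHom) (conjBlock Q x f) P e :=
    Relation.ReflTransGen.trans (chain_conj x hstep) hx
  refine ⟨x, hchain, ?_⟩
  have := Fintype.ofFinite (Subgroup.centralizer
    ((Q.map (MulAut.conj x).toMonoidHom : Subgroup G) : Set G))
  have hQxP : Q.map (MulAut.conj x).toMonoidHom ≤ P := le_of_chain hchain
  have hfx : IsPBlock M (conjBlock Q x f) := (isBrauerPair_conj x ⟨hQ, hf⟩).2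
  obtain ⟨g₂, hg₂⟩ := exists_pair_of_subpairLE hM hPe hQxP hfx hchain
  obtain ⟨E, hE, hEle⟩ := exists_isDefectGroup_ge_of_pair hM hg₂
  -- cardinalities
  have hDx : IsDefectGroup p M (conjBlock Q x f)
      (D'.map ((centConjEquiv Q x).symm : Subgroup.centralizer (Q : Set G) →*
        Subgroup.centralizer ((Q.map (MulAut.conj x).toMonoidHom : Subgroup G) : Set G))) := by
    rw [conjBlock_eq_mapBlock]
    exact isDefectGroup_mapBlock (centConjEquiv Q x) hD'
  have hc1 : Nat.card E = Nat.card D' := by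
    rw [isDefectGroup_card_eq hM hfx hDx hE]
    exact Subgroup.card_map_of_injective (centConjEquiv Q x).symm.injective
  have hle2 : (D'.map (Subgroup.centralizer (Q : Set G)).subtype).map
      (MulAut.conj x).toMonoidHom ≤
      P ⊓ Subgroup.centralizer ((Q.map (MulAut.conj x).toMonoidHom : Subgroup G) : Set G) := by
    refine le_inf ?_ ?_
    · have h1 : (supSub Q D').map (MulAut.conj x).toMonoidHom ≤ P := le_of_chain hx
      exact (Subgroup.map_mono (map_le_supSub Q D')).trans h1
    · rintro _ ⟨d, hd, rfl⟩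
      simp only [MulEquiv.coe_toMonoidHom, MulAut.conj_apply]
      exact (mem_centralizer_map_conj_iff Q x d).mpr (map_le_centralizer Q D' hd)
  have hc2 : Nat.card D' ≤ Nat.card ((P ⊓ Subgroup.centralizer
      ((Q.map (MulAut.conj x).toMonoidHom : Subgroup G) : Set G)).subgroupOf
        (Subgroup.centralizer ((Q.map (MulAut.conj x).toMonoidHom : Subgroup G) : Set G))) := by
    rw [card_subgroupOf_of_le inf_le_right]
    calc Nat.card D' = Nat.card (D'.map (Subgroup.centralizer (Q : Set G)).subtype) :=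
          (Subgroup.card_map_of_injective (Subgroup.subtype_injective _)).symm
      _ = Nat.card ((D'.map (Subgroup.centralizer (Q : Set G)).subtype).map
          (MulAut.conj x).toMonoidHom) := (card_map_conj _ x).symm
      _ ≤ _ := Subgroup.card_le_of_le hle2
  have heq := Subgroup.eq_of_le_of_card_ge hEle (hc1 ▸ hc2)
  rw [heq]
  exact hE

end Main

end Cfsg.Agent.Lib.Helper78_PairCent
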