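import Mathlib
import Cfsg.Prelude.Def_Blocks
import Cfsg.Agent.Lib.Helper77_RegClasses
import Cfsg.Agent.Lib.Helper16_Clifford
import Cfsg.Agent.Lib.Helper81_CharExpand
import Cfsg.Agent.Lib.Helper78_CentralNil

set_option autoImplicit false

namespace Cfsg.Agent.Lib.Helper77_Support

open Cfsg Cfsg.Agent.Lib.Helper78_LocalRing Cfsg.Agent.Lib.Helper77_BlockBasics
  Cfsg.Agent.Lib.Helper78_Osima Cfsg.Agent.Lib.Helper78_CharFacts
  Cfsg.Agent.Lib.Helper78_CentralChar

open scoped ComplexConjugate

variable {G : Type*} [Group G] [Fintype G]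

/-- Two irreducible characters of `G` lying over the same irreducible character of the normal
subgroup `N` have the same central character on `N`. -/
theorem centralChar_eq_of_over (N : Subgroup G) [N.Normal] [Fintype N]
    (χ ψ : IrrCharacter G) (θ : IrrCharacter N)
    (hχ : classInner (fun n : N => (χ : G → ℂ) (n : G)) (θ : N → ℂ) ≠ 0)
    (hψ : classInner (fun n : N => (ψ : G → ℂ) (n : G)) (θ : N → ℂ) ≠ 0) (n : N) :
    centralChar (χ : G → ℂ) (n : G) = centralChar (ψ : G → ℂ) (n : G) := by
  classical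
  obtain ⟨a, ρ, hρ, hρχ⟩ := χ.2
  obtain ⟨b, σ, hσ, hσψ⟩ := ψ.2
  obtain ⟨c, τ, hτ, hτθ⟩ := θ.2
  rw [← hρχ, ← hτθ] at hχ
  rw [← hσψ, ← hτθ] at hψ
  have h1 := Cfsg.Agent.Lib.Helper16_Clifford.centralChar_eq_of_classInner_ne_zero N ρ τ hχ n
  have h2 := Cfsg.Agent.Lib.Helper16_Clifford.centralChar_eq_of_classInner_ne_zero N σ τ hψ n
  rw [← hρχ, ← hσψ, h1, h2]

/-- **Support of block idempotents.** Let `N` be a normal subgroup such that the central character
of every irreducible character lies in the local ideal at every element outside `N`. Then the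
idempotent of a `SameBlock`-closed set of irreducible characters vanishes outside `N`. -/
theorem blockCoeff_eq_zero_of_not_mem {M : Ideal AlgInt} (hM : M.IsPrime)
    (N : Subgroup G) [N.Normal]
    (hN : ∀ χ : IrrCharacter G, ∀ g : G, g ∉ N → MemLocalIdeal M (centralChar (χ : G → ℂ) g))
    (S : Set (IrrCharacter G))
    (hS : ∀ χ ∈ S, ∀ ψ : IrrCharacter G, SameBlock M (χ : G → ℂ) (ψ : G → ℂ) → ψ ∈ S)
    (g : G) (hg : g ∉ N) : blockCoeff S g = 0 := by
  classical
  have := Fintype.ofFinite N
  have hfinG : Finite (IrrCharacter G) := charFacts.finite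
  have hfinN : Finite (IrrCharacter N) := charFacts.finite
  have := Fintype.ofFinite (IrrCharacter N)
  have hGne : (Nat.card G : ℂ) ≠ 0 := by exact_mod_cast (Nat.card_pos (α := G)).ne'
  have hNne : (Nat.card N : ℂ) ≠ 0 := by exact_mod_cast (Nat.card_pos (α := N)).ne'
  -- characters over the same `θ` are in the same block
  have hover : ∀ (χ ψ : IrrCharacter G) (θ : IrrCharacter N),
      classInner (fun n : N => (χ : G → ℂ) (n : G)) (θ : N → ℂ) ≠ 0 →
      classInner (fun n : N => (ψ : G → ℂ) (n : G)) (θ : N → ℂ) ≠ 0 →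
      SameBlock M (χ : G → ℂ) (ψ : G → ℂ) := by
    intro χ ψ θ hχ hψ x
    by_cases hx : x ∈ N
    · have := centralChar_eq_of_over N χ ψ θ hχ hψ ⟨x, hx⟩
      simp only at this
      rw [this, sub_self]
      exact memLocalIdeal_zero hM
    · exact memLocalIdeal_sub hM (hN χ x hx) (hN ψ x hx)
  -- the characters of `N` under `S`
  set Θ : Finset (IrrCharacter N) := Finset.univ.filter (fun θ : IrrCharacter N =>
    ∃ ψ ∈ S, classInner (fun n : N => (ψ : G → ℂ) (n : G)) (θ : N → ℂ) ≠ 0) with hΘ
  set f : G → ℂ := fun x => if hx : x ∈ N then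
    ∑ θ ∈ Θ, (Nat.card N : ℂ)⁻¹ * (θ : N → ℂ) 1 * conj ((θ : N → ℂ) ⟨x, hx⟩) else 0 with hf
  set f' : G → ℂ := fun x => (Nat.card G : ℂ)⁻¹ * ∑ y : G, f (y * x * y⁻¹) with hf'
  have hf'cl : IsClassFunction G f' := by
    intro x z
    simp only [hf']
    congr 1
    rw [← Equiv.sum_comp (Equiv.mulRight z) (fun y => f (y * x * y⁻¹))]
    refine Finset.sum_congr rfl fun y _ => ?_
    simp only [Equiv.coe_mulRight]
    congr 1
    group
  have hf'supp : ∀ x : G, x ∉ N → f' x = 0 := by
    intro x hx
    simp only [hf']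
    rw [Finset.sum_eq_zero, mul_zero]
    intro y _
    have : y * x * y⁻¹ ∉ N := by
      intro hmem
      apply hx
      have := (inferInstance : N.Normal).conj_mem _ hmem y⁻¹
      simpa [mul_assoc] using this
    simp only [hf, dif_neg this]
  -- `ω_χ(f') = [χ ∈ S]`
  have hsumf : ∀ χ : IrrCharacter G, ∑ x : G, f x * (χ : G → ℂ) x =
      ∑ θ ∈ Θ, (θ : N → ℂ) 1 * classInner (fun n : N => (χ : G → ℂ) (n : G)) (θ : N → ℂ) := by
    intro χ
    have h1 : ∑ x : G, f x * (χ : G → ℂ) x = ∑ n : N, f (n : G) * (χ : G → ℂ) (n : G) := by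
      rw [← Finset.sum_subtype (Finset.univ.filter (fun x : G => x ∈ N)) (p := fun x => x ∈ N)
        (by intro x; simp) (fun x => f x * (χ : G → ℂ) x)]
      rw [Finset.sum_filter]
      refine Finset.sum_congr rfl fun x _ => ?_
      split_ifs with hx
      · rfl
      · simp only [hf, dif_neg hx, zero_mul]
    rw [h1]
    have h2 : ∀ n : N, f (n : G) = ∑ θ ∈ Θ, (Nat.card N : ℂ)⁻¹ * (θ : N → ℂ) 1 *
        conj ((θ : N → ℂ) n) := by
      intro n
      simp only [hf, dif_pos n.2]
    simp_rw [h2, Finset.sum_mul]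
    rw [Finset.sum_comm]
    refine Finset.sum_congr rfl fun θ _ => ?_
    unfold classInner
    rw [Finset.mul_sum, Finset.mul_sum]
    refine Finset.sum_congr rfl fun n _ => ?_
    ring
  have homega_f' : ∀ χ : IrrCharacter G, omega (χ : G → ℂ) f' = omega (χ : G → ℂ) f := by
    intro χ
    unfold omega
    congr 1
    simp only [hf']
    have hχcl := isIrrCharacter_isClassFunction χ.2
    calc ∑ x : G, (Nat.card G : ℂ)⁻¹ * (∑ y : G, f (y * x * y⁻¹)) * (χ : G → ℂ) x
        = (Nat.card G : ℂ)⁻¹ * ∑ y : G, ∑ x : G, f (y * x * y⁻¹) * (χ : G → ℂ) x := by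
          rw [Finset.sum_comm, Finset.mul_sum]
          refine Finset.sum_congr rfl fun x _ => ?_
          rw [mul_assoc, Finset.sum_mul]
      _ = (Nat.card G : ℂ)⁻¹ * ∑ y : G, ∑ x : G, f x * (χ : G → ℂ) x := by
          congr 1
          refine Finset.sum_congr rfl fun y _ => ?_
          rw [← Equiv.sum_comp (MulAut.conj y).toEquiv (fun x => f x * (χ : G → ℂ) x)]
          refine Finset.sum_congr rfl fun x _ => ?_
          simp only [MulEquiv.toEquiv_eq_coe, EquivLike.coe_coe, MulAut.conj_apply]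
          rw [hχcl x y]
      _ = ∑ x : G, f x * (χ : G → ℂ) x := by
          rw [Finset.sum_const, Finset.card_univ, nsmul_eq_mul, ← Nat.card_eq_fintype_card,
            ← mul_assoc, inv_mul_cancel₀ hGne, one_mul]
  -- expansion of the restriction at `1`
  have hexp : ∀ χ : IrrCharacter G, (χ : G → ℂ) 1 = ∑ θ : IrrCharacter N,
      (θ : N → ℂ) 1 * classInner (fun n : N => (χ : G → ℂ) (n : G)) (θ : N → ℂ) := by
    intro χ
    have hcl : IsClassFunction N (fun n : N => (χ : G → ℂ) (n : G)) := by
      intro n m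
      have := isIrrCharacter_isClassFunction χ.2 (n : G) (m : G)
      simpa using this
    have := Cfsg.Agent.Lib.Helper81_CharExpand.classFunction_expansion_apply
      (fun n : N => (χ : G → ℂ) (n : G)) hcl 1
    simp only [OneMemClass.coe_one] at this
    rw [this]
    refine Finset.sum_congr rfl fun θ _ => ?_
    unfold classInner
    rw [mul_comm]
    congr 2
    refine Finset.sum_congr rfl fun n _ => ?_
    rw [Cfsg.Agent.Lib.Helper80_CharBasic.irr_inv θ n]
  have hom : ∀ χ : IrrCharacter G, omega (χ : G → ℂ) f' = S.indicator (fun _ => (1 : ℂ)) χ := by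
    intro χ
    rw [homega_f']
    unfold omega
    rw [hsumf]
    have hχ1 := isIrrCharacter_one_ne_zero χ.2
    by_cases hχS : χ ∈ S
    · rw [Set.indicator_of_mem hχS]
      have : ∑ θ ∈ Θ, (θ : N → ℂ) 1 *
          classInner (fun n : N => (χ : G → ℂ) (n : G)) (θ : N → ℂ) = (χ : G → ℂ) 1 := by
        rw [hexp χ]
        apply Finset.sum_subset (Finset.subset_univ _)
        intro θ _ hθ
        have : classInner (fun n : N => (χ : G → ℂ) (n : G)) (θ : N → ℂ) = 0 := by
          by_contra hne
          apply hθ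
          rw [hΘ, Finset.mem_filter]
          exact ⟨Finset.mem_univ _, χ, hχS, hne⟩
        rw [this, mul_zero]
      rw [this, div_self hχ1]
    · rw [Set.indicator_of_notMem hχS]
      rw [Finset.sum_eq_zero, zero_div]
      intro θ hθ
      rw [hΘ, Finset.mem_filter] at hθ
      obtain ⟨-, ψ, hψS, hψθ⟩ := hθ
      have : classInner (fun n : N => (χ : G → ℂ) (n : G)) (θ : N → ℂ) = 0 := by
        by_contra hne
        exact hχS (hS ψ hψS χ (hover ψ χ θ hψθ hne))
      rw [this, mul_zero]
  -- conclude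
  have h0 : f' - blockCoeff S = 0 := by
    apply eq_zero_of_omega_eq_zero charFacts
    · intro x z
      simp only [Pi.sub_apply]
      rw [hf'cl x z, blockCoeff_isClassFunction S x z]
    · intro χ
      rw [omega_sub, hom χ, omega_blockCoeff charFacts, sub_self]
  have h1 : blockCoeff S g = f' g := by
    have := congrFun h0 g
    simp only [Pi.sub_apply, Pi.zero_apply] at this
    exact (sub_eq_zero.mp this).symm
  rw [h1, hf'supp g hg]

end Cfsg.Agent.Lib.Helper77_Support
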