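import Mathlib
import Cfsg.Prelude.Def_Blocks
import Cfsg.Prelude.Def_BlockLocal
import Cfsg.Prelude.Def_BrauerPairs
import Cfsg.Agent.Lib.Helper77_StableCover
import Cfsg.Agent.Lib.Helper78_TransportBlocks
import Cfsg.Agent.S4653

/-!
# Blocks over a normal `p`-subgroup as traces of blocks of the centralizer (helper77)
-/

set_option autoImplicit false
set_option linter.unusedSectionVars false

namespace Cfsg.Agent.Lib.Helper77_NormalPair

open Cfsg Cfsg.Agent.Lib.Helper16_Char Cfsg.Agent.Lib.Helper16_Clifford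
  Cfsg.Agent.Lib.Helper16_Orbit Cfsg.Agent.Lib.Helper16_Cover
  Cfsg.Agent.Lib.Helper78_LocalRing Cfsg.Agent.Lib.Helper78_Osima
  Cfsg.Agent.Lib.Helper78_CentralChar Cfsg.Agent.Lib.Helper78_CharFacts
  Cfsg.Agent.Lib.Helper77_StableCover
open scoped ComplexConjugate

universe u

section general

variable {G : Type u} [Group G] [Fintype G] (N : Subgroup G) [hN : N.Normal] [Fintype N]
  {M : Ideal AlgInt}

theorem cj_eq_self_of_mem {y : G} (hy : y ∈ N) {φ : N → ℂ} (hφ : IsClassFunction N φ) :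
    cj N y φ = φ := by
  funext n
  unfold cj
  have : (MulAut.conjNormal y⁻¹ : MulAut N) n = (⟨y, hy⟩ : N)⁻¹ * n * ((⟨y, hy⟩ : N)⁻¹)⁻¹ := by
    apply Subtype.ext
    rw [MulAut.conjNormal_apply]
    rfl
  rw [this, hφ]

theorem cj_eq_self_of_commute {y : G} (hy : ∀ n : N, y * (n : G) = (n : G) * y) (φ : N → ℂ) :
    cj N y φ = φ := by
  funext n
  unfold cj
  congr 1
  apply Subtype.ext
  rw [MulAut.conjNormal_apply, inv_inv, mul_assoc, ← hy n, inv_mul_cancel_left]

theorem stabilizes_iff (c : Set (IrrCharacter N)) (x : G) :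
    StabilizesBlock N c x ↔ ∀ θ ∈ c, cjIrr N x θ ∈ c := by
  constructor
  · intro h θ hθ
    exact cjIrr_mem_of_stabilizes N h hθ
  · intro h
    refine ⟨by rw [Subgroup.normalizer_eq_top]; trivial, fun θ hθ => ⟨cjIrr N x θ, h θ hθ, ?_⟩⟩
    intro k k' hk
    show cj N x (θ : N → ℂ) k' = (θ : N → ℂ) k
    unfold cj
    have : (MulAut.conjNormal x⁻¹ : MulAut N) k' = k := by
      apply Subtype.ext
      rw [MulAut.conjNormal_apply, hk]
      group
    rw [this]

theorem omega_cj (x : G) (φ F : N → ℂ) : omega (cj N x φ) (cj N x F) = omega φ F := by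
  unfold omega cj
  rw [map_one]
  congr 1
  exact Equiv.sum_comp (MulAut.conjNormal x⁻¹ : MulAut N).toEquiv (fun n => F n * φ n)

theorem cjIrr_mem_of_one (hM : M.IsPrime) {e : Set (IrrCharacter N)} (he : IsPBlock M e) {y : G}
    {ξ₀ : IrrCharacter N} (h₀ : ξ₀ ∈ e) (h : cjIrr N y ξ₀ ∈ e) :
    ∀ ξ ∈ e, cjIrr N y ξ ∈ e := by
  intro ξ hξ
  have h1 : SameBlock M (cj N y (ξ₀ : N → ℂ)) (cj N y (ξ : N → ℂ)) :=
    sameBlock_cj N y (isPBlock_sameBlock hM he h₀ hξ)
  exact isPBlock_mem_of_sameBlock hM he h h1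

/-- If the block `e` of `N` occurs in the idempotent of the block `B` of `G`, and that idempotent is
supported on `N`, then it is the sum of the idempotents of the conjugates of `e`. -/
theorem blockCoeff_eq_extZero_covF (hM : M.IsPrime) {e : Set (IrrCharacter N)}
    (he : IsPBlock M e) {B : Set (IrrCharacter G)} (hB : IsPBlock M B)
    (hsupp : ∀ g : G, g ∉ N → blockCoeff B g = 0)
    (hpair : ∀ ξ ∈ e, MemLocalIdeal M
      (omega (ξ : N → ℂ) (fun n : N => blockCoeff B (n : G)) - 1)) :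
    blockCoeff B = extZero N (covF N e) := by
  classical
  set F : N → ℂ := fun n => blockCoeff B (n : G) with hFdef
  have hF : ∀ x : G, cj N x F = F := by
    intro x
    funext n
    unfold cj
    simp only [hFdef]
    rw [MulAut.conjNormal_apply]
    exact blockCoeff_isClassFunction B (n : G) x⁻¹
  have hext : extZero N F = blockCoeff B := by
    funext g
    by_cases hg : g ∈ N
    · exact extZero_mem N F ⟨g, hg⟩
    · rw [extZero_not_mem N F hg]
      exact (hsupp g hg).symm
  -- members of `B` are exactly the characters over the closure of `e`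
  have hmem : ∀ (χ' : IrrCharacter G) (ξ' : IrrCharacter N),
      classInner (fun n : N => (χ' : G → ℂ) n) (ξ' : N → ℂ) ≠ 0 → ξ' ∈ gClosure N e →
      χ' ∈ B := by
    intro χ' ξ' hover hξ'
    obtain ⟨x, ξ, hξ, hx⟩ := hξ'
    have h1 : omega (ξ' : N → ℂ) F = omega (ξ : N → ℂ) F := by
      rw [hx]
      conv_lhs => rw [← hF x]
      exact omega_cj N x _ F
    have h2 : omega (ξ' : N → ℂ) F = B.indicator (fun _ => (1 : ℂ)) χ' := by
      rw [← omega_extZero_eq N χ' ξ' hover F hF, hext, omega_blockCoeff charFacts B χ']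
    by_contra hχ'
    rw [Set.indicator_of_notMem hχ'] at h2
    have h3 := hpair ξ hξ
    rw [← h1, h2, zero_sub] at h3
    have h4 := memLocalIdeal_neg h3
    rw [neg_neg] at h4
    exact not_memLocalIdeal_one hM h4
  obtain ⟨ξ₀, hξ₀⟩ := isPBlock_nonempty hM he
  obtain ⟨χ₀, hχ₀⟩ := exists_over N ξ₀
  have hχ₀B : χ₀ ∈ B := hmem χ₀ ξ₀ hχ₀ (subset_gClosure N e hξ₀)
  refine eq_of_omega_eq charFacts (blockCoeff_isClassFunction B)
    (extZero_isClassFunction N _ (cj_covF N e)) ?_
  intro χ'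
  obtain ⟨ξ', hover⟩ := exists_under N χ'
  rw [omega_blockCoeff charFacts B χ', omega_extZero_eq N χ' ξ' hover _ (cj_covF N e),
    omega_covF]
  by_cases hχ' : χ' ∈ B
  · have hξ' : ξ' ∈ gClosure N e :=
      mem_gClosure_of_sameBlock N hM he (isPBlock_sameBlock hM hB hχ₀B hχ')
        (subset_gClosure N e hξ₀) hχ₀ hover
    rw [Set.indicator_of_mem hχ', Set.indicator_of_mem hξ']
  · have hξ' : ξ' ∉ gClosure N e := fun h => hχ' (hmem χ' ξ' hover h)
    rw [Set.indicator_of_notMem hχ', Set.indicator_of_notMem hξ']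

open Classical in
/-- The number of conjugates of `e` containing `ψ`, counted over `G`. -/
theorem count_conj (hM : M.IsPrime) {e : Set (IrrCharacter N)} (he : IsPBlock M e)
    (T : Subgroup G) (hT : ∀ x : G, x ∈ T ↔ ∀ ξ ∈ e, cjIrr N x ξ ∈ e) (ψ : IrrCharacter N) :
    (∑ x : G, if cjIrr N x⁻¹ ψ ∈ e then (1 : ℂ) else 0) =
      if ψ ∈ gClosure N e then (Nat.card T : ℂ) else 0 := by
  classical
  by_cases hψ : ψ ∈ gClosure N e
  · rw [if_pos hψ]
    obtain ⟨x₀, ξ₀, hξ₀, hx₀⟩ := hψ
    have hiff : ∀ x : G, cjIrr N x⁻¹ ψ ∈ e ↔ x⁻¹ * x₀ ∈ T := by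
      intro x
      have h1 : cjIrr N x⁻¹ ψ = cjIrr N (x⁻¹ * x₀) ξ₀ := by
        apply Subtype.ext
        show cj N x⁻¹ (ψ : N → ℂ) = cj N (x⁻¹ * x₀) (ξ₀ : N → ℂ)
        rw [hx₀, cj_mul]
      rw [h1, hT]
      exact ⟨fun h => cjIrr_mem_of_one N hM he hξ₀ h, fun h => h ξ₀ hξ₀⟩
    simp_rw [hiff]
    have h2 := Equiv.sum_comp ((Equiv.inv G).trans (Equiv.mulRight x₀))
      (fun y : G => if y ∈ T then (1 : ℂ) else 0)
    simp only [Equiv.trans_apply, Equiv.inv_apply, Equiv.coe_mulRight] at h2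
    rw [h2, Finset.sum_boole, Nat.card_eq_fintype_card, Fintype.card_subtype]
  · rw [if_neg hψ]
    apply Finset.sum_eq_zero
    intro x _
    rw [if_neg]
    intro h
    apply hψ
    refine ⟨x, cjIrr N x⁻¹ ψ, h, ?_⟩
    show (ψ : N → ℂ) = cj N x (cj N x⁻¹ (ψ : N → ℂ))
    rw [cj_cj_inv]

/-- The idempotent of the union of the conjugates of `e` as a trace from the stabilizer `T`. -/
theorem covF_eq_sum (hM : M.IsPrime) {e : Set (IrrCharacter N)} (he : IsPBlock M e)
    (T : Subgroup G) (hT : ∀ x : G, x ∈ T ↔ ∀ ξ ∈ e, cjIrr N x ξ ∈ e) (n : N) :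
    covF N e n = (Nat.card T : ℂ)⁻¹ * ∑ x : G, cj N x (blockCoeff e) n := by
  classical
  have : Finite (IrrCharacter N) := (charFacts (G := N)).finite
  have := Fintype.ofFinite (IrrCharacter N)
  have hT0 : (Nat.card T : ℂ) ≠ 0 := by exact_mod_cast (Nat.card_pos (α := T)).ne'
  have hterm : ∀ x : G, cj N x (blockCoeff e) n = (Nat.card N : ℂ)⁻¹ *
      ∑ ψ : IrrCharacter N, (if cjIrr N x⁻¹ ψ ∈ e then (1 : ℂ) else 0) *
        ((ψ : N → ℂ) 1 * conj ((ψ : N → ℂ) n)) := by
    intro x
    unfold cj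
    rw [blockCoeff_eq_sum]
    congr 1
    rw [← Equiv.sum_comp (cjIrr N x⁻¹)]
    refine Finset.sum_congr rfl fun ψ _ => ?_
    by_cases h : cjIrr N x⁻¹ ψ ∈ e
    · rw [Set.indicator_of_mem h, if_pos h, one_mul]
      show cj N x⁻¹ (ψ : N → ℂ) 1 * conj (cj N x⁻¹ (ψ : N → ℂ)
        ((MulAut.conjNormal x⁻¹ : MulAut N) n)) = _
      unfold cj
      rw [map_one, inv_inv]
      have : (MulAut.conjNormal x : MulAut N) ((MulAut.conjNormal x⁻¹ : MulAut N) n) = n := by
        apply Subtype.ext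
        rw [MulAut.conjNormal_apply, MulAut.conjNormal_apply]
        group
      rw [this]
    · rw [Set.indicator_of_notMem h, if_neg h, zero_mul]
  unfold covF
  rw [blockCoeff_eq_sum]
  simp_rw [hterm]
  rw [← Finset.mul_sum, Finset.sum_comm]
  simp_rw [← Finset.sum_mul, count_conj N hM he T hT]
  rw [← mul_assoc, mul_comm ((Nat.card T : ℂ)⁻¹), mul_assoc]
  congr 1
  rw [Finset.mul_sum]
  refine Finset.sum_congr rfl fun ψ _ => ?_
  by_cases hψ : ψ ∈ gClosure N e
  · rw [Set.indicator_of_mem hψ, if_pos hψ]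
    field_simp
  · rw [Set.indicator_of_notMem hψ, if_neg hψ, zero_mul, mul_zero]

end general

section pair

variable {G : Type u} [Group G] [Fintype G] {M : Ideal AlgInt} {p : ℕ} [Fact p.Prime]

/-- The idempotent of `B` is the trace from the stabilizer of the idempotent of `e`. -/
theorem trace_formula (hM : IsPModular p M) (P : Subgroup G) [P.Normal] (hP : IsPGroup p P)
    (B : Set (IrrCharacter G)) (e : Set (IrrCharacter (Subgroup.centralizer (P : Set G))))
    (hBe : IsBrauerPairOf p M B P e) (T : Subgroup G)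
    (hT : ∀ x : G, x ∈ T ↔ StabilizesBlock (Subgroup.centralizer (P : Set G)) e x) (g : G) :
    blockCoeff B g = (Nat.card T : ℂ)⁻¹ *
      ∑ x : G, subgroupBlockCoeff (Subgroup.centralizer (P : Set G)) e (x⁻¹ * g * x) := by
  classical
  have hCn : (Subgroup.centralizer (P : Set G)).Normal := Subgroup.normal_centralizer
  have : Fintype (Subgroup.centralizer (P : Set G)) := Fintype.ofFinite _
  have hMp := isPrime_of_isPModular hM
  obtain ⟨⟨-, he⟩, hB, hpair⟩ := hBe
  have hsupp : ∀ g : G, g ∉ Subgroup.centralizer (P : Set G) → blockCoeff B g = 0 :=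
    fun g hg => Cfsg.Agent.S4653.result p M hM P hP B hB g hg
  have hpair' : ∀ ξ ∈ e, MemLocalIdeal M
      (omega (ξ : Subgroup.centralizer (P : Set G) → ℂ)
        (fun n : Subgroup.centralizer (P : Set G) => blockCoeff B (n : G)) - 1) := by
    intro ξ hξ
    have := hpair ξ hξ
    unfold brauerOmega at this
    rw [finsum_eq_sum_of_fintype] at this
    unfold omega
    rw [Finset.sum_div]
    exact this
  have hA := blockCoeff_eq_extZero_covF (Subgroup.centralizer (P : Set G)) hMp he hB hsupp hpair'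
  have hT' : ∀ x : G, x ∈ T ↔ ∀ ξ ∈ e, cjIrr (Subgroup.centralizer (P : Set G)) x ξ ∈ e :=
    fun x => (hT x).trans (stabilizes_iff _ e x)
  by_cases hg : g ∈ Subgroup.centralizer (P : Set G)
  · rw [hA]
    have h1 := extZero_mem (Subgroup.centralizer (P : Set G))
      (covF (Subgroup.centralizer (P : Set G)) e) ⟨g, hg⟩
    simp only at h1
    rw [h1, covF_eq_sum _ hMp he T hT' ⟨g, hg⟩]
    congr 1
    refine Finset.sum_congr rfl fun x _ => ?_
    unfold cj subgroupBlockCoeff
    have hmem : x⁻¹ * g * x ∈ Subgroup.centralizer (P : Set G) := by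
      have := hCn.conj_mem g hg x⁻¹
      rwa [inv_inv] at this
    rw [dif_pos hmem]
    congr 1
    apply Subtype.ext
    rw [MulAut.conjNormal_apply, inv_inv]
  · rw [hsupp g hg]
    symm
    rw [mul_eq_zero]
    right
    apply Finset.sum_eq_zero
    intro x _
    unfold subgroupBlockCoeff
    rw [dif_neg]
    intro hmem
    apply hg
    have := hCn.conj_mem _ hmem x
    have h2 : x * (x⁻¹ * g * x) * x⁻¹ = g := by group
    rwa [h2] at this

open Cfsg.Agent.Lib.Helper78_Transport Cfsg.Agent.Lib.Helper78_TransportBlocks in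
/-- The idempotent of `e` is a block idempotent of the stabilizer `T` of `e`. -/
theorem exists_block_stabilizer (hM : IsPModular p M) (P : Subgroup G) [P.Normal]
    (hP : IsPGroup p P) (e : Set (IrrCharacter (Subgroup.centralizer (P : Set G))))
    (he : IsPBlock M e) (T : Subgroup G)
    (hT : ∀ x : G, x ∈ T ↔ StabilizesBlock (Subgroup.centralizer (P : Set G)) e x) :
    ∃ E : Set (IrrCharacter T), IsPBlock M E ∧ ∀ t : T,
      blockCoeff E t = subgroupBlockCoeff (Subgroup.centralizer (P : Set G)) e (t : G) := by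
  classical
  have hCn : (Subgroup.centralizer (P : Set G)).Normal := Subgroup.normal_centralizer
  have : Fintype (Subgroup.centralizer (P : Set G)) := Fintype.ofFinite _
  have : Fintype T := Fintype.ofFinite _
  have hMp := isPrime_of_isPModular hM
  have hT' : ∀ x : G, x ∈ T ↔ ∀ ξ ∈ e, cjIrr (Subgroup.centralizer (P : Set G)) x ξ ∈ e :=
    fun x => (hT x).trans (stabilizes_iff _ e x)
  -- `C ≤ T` and `P ≤ T`
  have hCT : Subgroup.centralizer (P : Set G) ≤ T := by
    intro y hy
    rw [hT']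
    intro ξ hξ
    have : cjIrr (Subgroup.centralizer (P : Set G)) y ξ = ξ := by
      apply Subtype.ext
      exact cj_eq_self_of_mem _ hy (isIrrCharacter_isClassFunction ξ.2)
    rw [this]
    exact hξ
  have hPT : P ≤ T := by
    intro y hy
    rw [hT']
    intro ξ hξ
    have : cjIrr (Subgroup.centralizer (P : Set G)) y ξ = ξ := by
      apply Subtype.ext
      refine cj_eq_self_of_commute _ ?_ _
      intro n
      exact (Subgroup.mem_centralizer_iff.mp n.2 y hy)
    rw [this]
    exact hξ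
  -- the subgroups of `T`
  set N' : Subgroup T := (Subgroup.centralizer (P : Set G)).subgroupOf T with hN'
  have hN'n : N'.Normal := hCn.subgroupOf T
  have : Fintype N' := Fintype.ofFinite _
  set P' : Subgroup T := P.subgroupOf T with hP'
  have hP'n : P'.Normal := (inferInstance : P.Normal).subgroupOf T
  have hP'p : IsPGroup p P' := hP.comap_subtype
  have hcent : Subgroup.centralizer (P' : Set T) ≤ N' := by
    intro t ht
    rw [hN', Subgroup.mem_subgroupOf, Subgroup.mem_centralizer_iff]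
    intro y hy
    have h1 : (⟨y, hPT hy⟩ : T) ∈ (P' : Set T) := by
      rw [SetLike.mem_coe, hP', Subgroup.mem_subgroupOf]
      exact hy
    have h2 := Subgroup.mem_centralizer_iff.mp ht _ h1
    exact congrArg Subtype.val h2
  -- transport `e`
  set φ : N' ≃* Subgroup.centralizer (P : Set G) := Subgroup.subgroupOfEquivOfLe hCT with hφ
  set c' : Set (IrrCharacter N') := mapBlock φ e with hc'
  have hc'b : IsPBlock M c' := isPBlock_mapBlock φ he
  have hstab : gClosure N' c' = c' := by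
    apply Set.Subset.antisymm
    · rintro ψ ⟨t, θ', ⟨ξ, hξ, rfl⟩, h⟩
      have h1 : cjIrr (Subgroup.centralizer (P : Set G)) (t : G) ξ ∈ e := (hT' t).mp t.2 ξ hξ
      refine ⟨_, h1, ?_⟩
      apply Subtype.ext
      rw [h]
      funext n'
      show (ξ : Subgroup.centralizer (P : Set G) → ℂ)
          ((MulAut.conjNormal (t : G)⁻¹ : MulAut (Subgroup.centralizer (P : Set G))) (φ n')) =
        (ξ : Subgroup.centralizer (P : Set G) → ℂ) (φ ((MulAut.conjNormal t⁻¹ : MulAut N') n'))
      congr 1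
    · exact subset_gClosure N' c'
  obtain ⟨ξ₀, hξ₀⟩ := isPBlock_nonempty hMp he
  have hθ₀ : irrComp φ ξ₀ ∈ c' := irrComp_mem_mapBlock φ hξ₀
  obtain ⟨τ₀, hτ₀⟩ := exists_over N' (irrComp φ ξ₀)
  have hE : IsPBlock M (blockOf M (τ₀ : T → ℂ)) := isPBlock_blockOf τ₀
  refine ⟨blockOf M (τ₀ : T → ℂ), hE, ?_⟩
  have hsupp : ∀ t : T, t ∉ N' → blockCoeff (blockOf M (τ₀ : T → ℂ)) t = 0 := by
    intro t ht
    exact Cfsg.Agent.S4653.result p M hM P' hP'p _ hE t (fun h => ht (hcent h))
  have hmain := blockCoeff_eq_extZero N' hMp hc'b hstab hE hsupp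
    ⟨τ₀, mem_blockOf_self hMp τ₀, _, hθ₀, hτ₀⟩
  intro t
  rw [hmain]
  unfold extZero subgroupBlockCoeff
  by_cases ht : t ∈ N'
  · have ht' : (t : G) ∈ Subgroup.centralizer (P : Set G) := Subgroup.mem_subgroupOf.mp ht
    rw [dif_pos ht, dif_pos ht', hc', blockCoeff_mapBlock]
    rfl
  · have ht' : (t : G) ∉ Subgroup.centralizer (P : Set G) :=
      fun h => ht (Subgroup.mem_subgroupOf.mpr h)
    rw [dif_neg ht, dif_neg ht']

end pair

end Cfsg.Agent.Lib.Helper77_NormalPair
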