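import Mathlib
import Cfsg.Prelude.Def_Blocks
import Cfsg.Prelude.Def_BlockLocal
import Cfsg.Prelude.Def_BrauerPairs
import Cfsg.Agent.Lib.Helper78_LocalRing
import Cfsg.Agent.Lib.Helper78_Transport
import Cfsg.Agent.Lib.Helper78_TransportBlocks
import Cfsg.Agent.Lib.Helper78_NilpotentPrincipal
import Cfsg.Agent.Lib.Helper78_FirstMain
import Cfsg.Agent.Lib.Helper77_NormalPair

/-!
# The block of the stabilizer of a Brauer pair (helper78, towards S4662)

For a `p`-subgroup `Q` of `G` and a block `f` of `C_G(Q)`, the idempotent of `f` is a block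
idempotent of the stabilizer `T` of `f` in `N_G(Q)` (transport of helper77's theorem for normal
`p`-subgroups to the group `N_G(Q)`).
-/

set_option autoImplicit false
set_option linter.unusedSectionVars false

namespace Cfsg.Agent.Lib.Helper78_StabBlock

open Cfsg Cfsg.Agent.Lib.Helper78_LocalRing Cfsg.Agent.Lib.Helper78_Transport
  Cfsg.Agent.Lib.Helper78_TransportBlocks Cfsg.Agent.Lib.Helper78_NilpotentPrincipal
  Cfsg.Agent.Lib.Helper78_FirstMain

universe u

variable {G : Type u} [Group G] {M : Ideal AlgInt} {p : ℕ}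

/-- `C_N(Q ∩ N) ≃* C_G(Q)` for `N = N_G(Q)`. -/
noncomputable def centNormIso (Q : Subgroup G) :
    Subgroup.centralizer ((Q.subgroupOf (Subgroup.normalizer (Q : Set G)) :
      Subgroup (Subgroup.normalizer (Q : Set G))) : Set (Subgroup.normalizer (Q : Set G))) ≃*
      Subgroup.centralizer (Q : Set G) where
  toFun c := ⟨((c : Subgroup.normalizer (Q : Set G)) : G), by
    rw [Subgroup.mem_centralizer_iff]
    intro q hq
    have h1 : (⟨q, Subgroup.le_normalizer hq⟩ : Subgroup.normalizer (Q : Set G)) ∈
        ((Q.subgroupOf (Subgroup.normalizer (Q : Set G)) :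
          Subgroup (Subgroup.normalizer (Q : Set G))) : Set (Subgroup.normalizer (Q : Set G))) := by
      rw [SetLike.mem_coe, Subgroup.mem_subgroupOf]
      exact hq
    have := Subgroup.mem_centralizer_iff.mp c.2 _ h1
    exact congrArg Subtype.val this⟩
  invFun h := ⟨⟨(h : G), centralizer_le_normalizer Q h.2⟩, by
    rw [Subgroup.mem_centralizer_iff]
    intro q hq
    rw [SetLike.mem_coe, Subgroup.mem_subgroupOf] at hq
    apply Subtype.ext
    exact Subgroup.mem_centralizer_iff.mp h.2 (q : G) hq⟩
  left_inv c := rfl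
  right_inv h := rfl
  map_mul' a b := rfl

theorem centNormIso_apply (Q : Subgroup G)
    (c : Subgroup.centralizer ((Q.subgroupOf (Subgroup.normalizer (Q : Set G)) :
      Subgroup (Subgroup.normalizer (Q : Set G))) : Set (Subgroup.normalizer (Q : Set G)))) :
    ((centNormIso Q c : Subgroup.centralizer (Q : Set G)) : G) =
      ((c : Subgroup.normalizer (Q : Set G)) : G) := rfl

theorem mem_centralizer_subgroupOf_iff (Q : Subgroup G) (n : Subgroup.normalizer (Q : Set G)) :
    n ∈ Subgroup.centralizer ((Q.subgroupOf (Subgroup.normalizer (Q : Set G)) :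
      Subgroup (Subgroup.normalizer (Q : Set G))) : Set (Subgroup.normalizer (Q : Set G))) ↔
      (n : G) ∈ Subgroup.centralizer (Q : Set G) := by
  constructor
  · intro h
    exact (centNormIso Q ⟨n, h⟩).2
  · intro h
    exact ((centNormIso Q).symm ⟨(n : G), h⟩).2

section Main

variable [Fintype G] [Fact p.Prime]

/-- The idempotent of `f` is a block idempotent of the stabilizer of `f` in `N_G(Q)`. -/
theorem exists_block_stabilizer' (hM : IsPModular p M) {Q : Subgroup G} (hQ : IsPGroup p Q)
    {f : Set (IrrCharacter (Subgroup.centralizer (Q : Set G)))} (hf : IsPBlock M f)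
    (T : Subgroup G)
    (hT : ∀ y : G, y ∈ T ↔ y ∈ Subgroup.normalizer (Q : Set G) ∧
      StabilizesBlock (Subgroup.centralizer (Q : Set G)) f y) :
    ∃ F : Set (IrrCharacter T), IsPBlock M F ∧ ∀ t : T,
      blockCoeff F t = subgroupBlockCoeff (Subgroup.centralizer (Q : Set G)) f (t : G) := by
  classical
  have := Fintype.ofFinite (Subgroup.normalizer (Q : Set G))
  have hTN : T ≤ Subgroup.normalizer (Q : Set G) := fun y hy => ((hT y).mp hy).1
  have hQN : IsPGroup p (Q.subgroupOf (Subgroup.normalizer (Q : Set G))) := hQ.comap_subtype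
  have hCn : (Subgroup.centralizer ((Q.subgroupOf (Subgroup.normalizer (Q : Set G)) :
      Subgroup (Subgroup.normalizer (Q : Set G))) :
        Set (Subgroup.normalizer (Q : Set G)))).Normal := Subgroup.normal_centralizer
  -- the stabilizer inside `N`
  have hT_N : ∀ x : Subgroup.normalizer (Q : Set G),
      x ∈ T.subgroupOf (Subgroup.normalizer (Q : Set G)) ↔
      StabilizesBlock (Subgroup.centralizer ((Q.subgroupOf (Subgroup.normalizer (Q : Set G)) :
        Subgroup (Subgroup.normalizer (Q : Set G))) : Set (Subgroup.normalizer (Q : Set G))))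
        (mapBlock (centNormIso Q) f) x := by
    intro x
    rw [Subgroup.mem_subgroupOf, hT]
    constructor
    · rintro ⟨-, -, hst⟩
      refine ⟨?_, ?_⟩
      · have h1 := Subgroup.normalizer_eq_top_iff.mpr hCn
        rw [h1]
        exact Subgroup.mem_top x
      · rintro _ ⟨ξ, hξ, rfl⟩
        obtain ⟨ξ', hξ', hconj⟩ := hst ξ hξ
        refine ⟨irrComp (centNormIso Q) ξ', irrComp_mem_mapBlock _ hξ', ?_⟩
        intro k k' hkk'
        rw [irrComp_apply, irrComp_apply]
        apply hconj
        rw [centNormIso_apply, centNormIso_apply, hkk']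
        rfl
    · rintro ⟨-, hst⟩
      refine ⟨x.2, normalizer_le_normalizer_centralizer Q x.2, ?_⟩
      intro ξ hξ
      obtain ⟨χ', ⟨ξ', hξ', rfl⟩, hconj⟩ := hst _ (irrComp_mem_mapBlock (centNormIso Q) hξ)
      refine ⟨ξ', hξ', ?_⟩
      intro h h' hhh'
      have := hconj ((centNormIso Q).symm h) ((centNormIso Q).symm h') (by
        apply Subtype.ext
        exact hhh')
      rw [irrComp_apply, irrComp_apply, MulEquiv.apply_symm_apply,
        MulEquiv.apply_symm_apply] at this
      exact this
  obtain ⟨E, hE, hEc⟩ := Cfsg.Agent.Lib.Helper77_NormalPair.exists_block_stabilizer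
    (G := Subgroup.normalizer (Q : Set G)) hM
    (Q.subgroupOf (Subgroup.normalizer (Q : Set G))) hQN (mapBlock (centNormIso Q) f)
    (isPBlock_mapBlock _ hf) (T.subgroupOf (Subgroup.normalizer (Q : Set G))) hT_N
  refine ⟨mapBlock (Subgroup.subgroupOfEquivOfLe hTN).symm E, isPBlock_mapBlock _ hE, ?_⟩
  intro t
  rw [blockCoeff_mapBlock, hEc]
  unfold subgroupBlockCoeff
  by_cases ht : (t : G) ∈ Subgroup.centralizer (Q : Set G)
  · have ht' : (((Subgroup.subgroupOfEquivOfLe hTN).symm t :
        T.subgroupOf (Subgroup.normalizer (Q : Set G))) : Subgroup.normalizer (Q : Set G)) ∈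
        Subgroup.centralizer ((Q.subgroupOf (Subgroup.normalizer (Q : Set G)) :
          Subgroup (Subgroup.normalizer (Q : Set G))) :
            Set (Subgroup.normalizer (Q : Set G))) := by
      rw [mem_centralizer_subgroupOf_iff]
      exact ht
    rw [dif_pos ht, dif_pos ht', blockCoeff_mapBlock]
    rfl
  · have ht' : ¬ (((Subgroup.subgroupOfEquivOfLe hTN).symm t :
        T.subgroupOf (Subgroup.normalizer (Q : Set G))) : Subgroup.normalizer (Q : Set G)) ∈
        Subgroup.centralizer ((Q.subgroupOf (Subgroup.normalizer (Q : Set G)) :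
          Subgroup (Subgroup.normalizer (Q : Set G))) :
            Set (Subgroup.normalizer (Q : Set G))) := by
      rw [mem_centralizer_subgroupOf_iff]
      exact ht
    rw [dif_neg ht, dif_neg ht']

end Main

end Cfsg.Agent.Lib.Helper78_StabBlock
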