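import Mathlib
import Cfsg.Prelude.Def_Blocks
import Cfsg.Prelude.Def_BlockLocal
import Cfsg.Prelude.Def_BrauerPairs
import Cfsg.Agent.Lib.Helper78_LocalRing
import Cfsg.Agent.Lib.Helper78_CentralChar
import Cfsg.Agent.Lib.Helper78_Transport
import Cfsg.Agent.Lib.Helper78_TransportBlocks
import Cfsg.Agent.Lib.Helper78_NilpotentPrincipal
import Cfsg.Agent.Lib.Helper78_PrincipalFusion
import Cfsg.Agent.Lib.Helper78_BrauerCorr
import Cfsg.Agent.Lib.Helper78_SubpairBasic
import Cfsg.Agent.Lib.Helper78_SubpairNormal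
import Cfsg.Agent.Lib.Helper78_SubpairTrans
import Cfsg.Agent.Lib.Helper78_SubpairUnique
import Cfsg.Agent.Lib.Helper78_FirstMainGT
import Cfsg.Agent.Lib.Helper78_FirstMain
import Cfsg.Agent.Lib.Helper78_MaxPair
import Cfsg.Agent.Lib.Helper78_PairConj
import Cfsg.Agent.Lib.Helper78_PairCent
import Cfsg.Agent.Lib.Helper78_StabBlock

/-!
# Brauer pairs of the stabilizer of a pair (helper78, S4662)

For a pair `(Q, f)` of `G` with stabilizer `T = N_G(Q, f)` and the block `F` of `T` with the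
idempotent of `f`, the Brauer pairs `(D, g)` of `F` with `Q ≤ D` correspond to the pairs of `G`
normally above `(Q, f)`.
-/

set_option autoImplicit false
set_option linter.unusedSectionVars false

namespace Cfsg.Agent.Lib.Helper78_PairStab

open Cfsg Cfsg.Agent.Lib.Helper78_LocalRing Cfsg.Agent.Lib.Helper78_CentralChar
  Cfsg.Agent.Lib.Helper78_Transport
  Cfsg.Agent.Lib.Helper78_TransportBlocks Cfsg.Agent.Lib.Helper78_NilpotentPrincipal
  Cfsg.Agent.Lib.Helper78_PrincipalFusion
  Cfsg.Agent.Lib.Helper78_BrauerCorr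
  Cfsg.Agent.Lib.Helper78_SubpairBasic Cfsg.Agent.Lib.Helper78_SubpairNormal
  Cfsg.Agent.Lib.Helper78_SubpairTrans Cfsg.Agent.Lib.Helper78_SubpairUnique
  Cfsg.Agent.Lib.Helper78_FirstMainGT
  Cfsg.Agent.Lib.Helper78_FirstMain Cfsg.Agent.Lib.Helper78_MaxPair
  Cfsg.Agent.Lib.Helper78_PairConj Cfsg.Agent.Lib.Helper78_PairCent
  Cfsg.Agent.Lib.Helper78_StabBlock

universe u

variable {G : Type u} [Group G] {M : Ideal AlgInt} {p : ℕ}

/-- `C_G(Q)` lies in the stabilizer of any block of `C_G(Q)`. -/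
theorem centralizer_le_stab {Q : Subgroup G}
    {f : Set (IrrCharacter (Subgroup.centralizer (Q : Set G)))} {T : Subgroup G}
    (hT : ∀ y : G, y ∈ T ↔ y ∈ Subgroup.normalizer (Q : Set G) ∧
      StabilizesBlock (Subgroup.centralizer (Q : Set G)) f y) :
    Subgroup.centralizer (Q : Set G) ≤ T := by
  intro h hh
  rw [hT]
  refine ⟨centralizer_le_normalizer Q hh, Subgroup.le_normalizer hh, fun χ hχ => ⟨χ, hχ, ?_⟩⟩
  intro k k' hk
  have h1 := isIrrCharacter_isClassFunction χ.2 k ⟨h, hh⟩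
  rw [← h1]
  refine congrArg _ (Subtype.ext ?_)
  rw [hk]
  rfl

/-- `C_T(D) ≃* C_G(D)` for `Q ≤ D ≤ T`, `C_G(Q) ≤ T`. -/
noncomputable def centIsoT {Q T : Subgroup G} (hHT : Subgroup.centralizer (Q : Set G) ≤ T)
    (D : Subgroup T) (hQD : Q ≤ D.map T.subtype) :
    Subgroup.centralizer (D : Set T) ≃*
      Subgroup.centralizer ((D.map T.subtype : Subgroup G) : Set G) where
  toFun c := ⟨((c : T) : G), by
    rw [Subgroup.mem_centralizer_iff]
    rintro _ ⟨d, hd, rfl⟩
    have := Subgroup.mem_centralizer_iff.mp c.2 d hd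
    exact congrArg Subtype.val this⟩
  invFun c := ⟨⟨(c : G), hHT (Subgroup.centralizer_le hQD c.2)⟩, by
    rw [Subgroup.mem_centralizer_iff]
    intro d hd
    apply Subtype.ext
    exact Subgroup.mem_centralizer_iff.mp c.2 (d : G) ⟨d, hd, rfl⟩⟩
  left_inv c := rfl
  right_inv c := rfl
  map_mul' a b := rfl

theorem centIsoT_apply {Q T : Subgroup G} (hHT : Subgroup.centralizer (Q : Set G) ≤ T)
    (D : Subgroup T) (hQD : Q ≤ D.map T.subtype) (c : Subgroup.centralizer (D : Set T)) :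
    ((centIsoT hHT D hQD c : Subgroup.centralizer ((D.map T.subtype : Subgroup G) : Set G)) : G) =
      ((c : T) : G) := rfl

theorem brauerOmega_centIsoT {Q T : Subgroup G} (hHT : Subgroup.centralizer (Q : Set G) ≤ T)
    (D : Subgroup T) (hQD : Q ≤ D.map T.subtype)
    {f : Set (IrrCharacter (Subgroup.centralizer (Q : Set G)))} {F : Set (IrrCharacter T)}
    (hFc : ∀ t : T, blockCoeff F t =
      subgroupBlockCoeff (Subgroup.centralizer (Q : Set G)) f (t : G))
    (ζ : Subgroup.centralizer ((D.map T.subtype : Subgroup G) : Set G) → ℂ) :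
    brauerOmega D (blockCoeff F) (ζ ∘ centIsoT hHT D hQD) =
      brauerOmega (D.map T.subtype) (subgroupBlockCoeff (Subgroup.centralizer (Q : Set G)) f) ζ := by
  unfold brauerOmega
  rw [← finsum_comp_equiv (centIsoT hHT D hQD).toEquiv]
  refine finsum_congr fun c => ?_
  simp only [Function.comp_apply, MulEquiv.toEquiv_eq_coe, MulEquiv.coe_toEquiv, map_one]
  congr 2
  rw [hFc, centIsoT_apply]

/-- From a pair of `G` normally above `(Q, f)` to a Brauer pair of the block `F` of `T`. -/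
theorem isBrauerPairOf_of_isNormalSubpair {Q T : Subgroup G}
    (hHT : Subgroup.centralizer (Q : Set G) ≤ T)
    (D : Subgroup T) (hQD : Q ≤ D.map T.subtype)
    {f : Set (IrrCharacter (Subgroup.centralizer (Q : Set G)))} {F : Set (IrrCharacter T)}
    (hF : IsPBlock M F)
    (hFc : ∀ t : T, blockCoeff F t =
      subgroupBlockCoeff (Subgroup.centralizer (Q : Set G)) f (t : G))
    {g : Set (IrrCharacter (Subgroup.centralizer ((D.map T.subtype : Subgroup G) : Set G)))}
    (h : IsNormalSubpair p M Q f (D.map T.subtype) g) :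
    IsBrauerPairOf p M F D (mapBlock (centIsoT hHT D hQD) g) := by
  obtain ⟨-, hRg, -, -, -, hlam⟩ := h
  have hDp : IsPGroup p D :=
    hRg.1.of_equiv (Subgroup.equivMapOfInjective D _ (Subgroup.subtype_injective _)).symm
  refine ⟨⟨hDp, isPBlock_mapBlock _ hRg.2⟩, hF, ?_⟩
  rintro _ ⟨ζ, hζ, rfl⟩
  have h1 : (irrComp (centIsoT hHT D hQD) ζ : Subgroup.centralizer (D : Set T) → ℂ) =
      (ζ : Subgroup.centralizer ((D.map T.subtype : Subgroup G) : Set G) → ℂ) ∘
        centIsoT hHT D hQD := rfl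
  rw [h1, brauerOmega_centIsoT hHT D hQD hFc]
  exact hlam ζ hζ

/-- From a Brauer pair of the block `F` of `T` to a pair of `G` normally above `(Q, f)`. -/
theorem isNormalSubpair_of_isBrauerPairOf {Q T : Subgroup G} (hQ : IsPGroup p Q)
    {f : Set (IrrCharacter (Subgroup.centralizer (Q : Set G)))} (hf : IsPBlock M f)
    (hT : ∀ y : G, y ∈ T ↔ y ∈ Subgroup.normalizer (Q : Set G) ∧
      StabilizesBlock (Subgroup.centralizer (Q : Set G)) f y)
    (D : Subgroup T) (hQD : Q ≤ D.map T.subtype) {F : Set (IrrCharacter T)}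
    (hFc : ∀ t : T, blockCoeff F t =
      subgroupBlockCoeff (Subgroup.centralizer (Q : Set G)) f (t : G))
    {g' : Set (IrrCharacter (Subgroup.centralizer (D : Set T)))}
    (h : IsBrauerPairOf p M F D g') :
    IsNormalSubpair p M Q f (D.map T.subtype)
      (mapBlock (centIsoT (centralizer_le_stab hT) D hQD).symm g') := by
  obtain ⟨hDg, -, hlam⟩ := h
  have hDT : D.map T.subtype ≤ T := by
    rintro _ ⟨d, -, rfl⟩
    exact d.2
  refine ⟨⟨hQ, hf⟩, ⟨hDg.1.map _, isPBlock_mapBlock _ hDg.2⟩, hQD,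
    fun x hx => ((hT x).mp (hDT hx)).1, fun x hx => ((hT x).mp (hDT hx)).2, ?_⟩
  rintro _ ⟨ξ, hξ, rfl⟩
  rw [← brauerOmega_centIsoT (centralizer_le_stab hT) D hQD hFc]
  have h1 : (irrComp (centIsoT (centralizer_le_stab hT) D hQD).symm ξ :
      Subgroup.centralizer ((D.map T.subtype : Subgroup G) : Set G) → ℂ) ∘
        centIsoT (centralizer_le_stab hT) D hQD =
      (ξ : Subgroup.centralizer (D : Set T) → ℂ) := by
    funext c
    simp only [Function.comp_apply]
    rw [irrComp_apply, MulEquiv.symm_apply_apply]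
  rw [h1]
  exact hlam ξ hξ

theorem exists_isNormalSubpair_congr {Q R R' : Subgroup G}
    {f : Set (IrrCharacter (Subgroup.centralizer (Q : Set G)))} (h : R = R')
    (hex : ∃ g : Set (IrrCharacter (Subgroup.centralizer (R : Set G))),
      IsNormalSubpair p M Q f R g) :
    ∃ g' : Set (IrrCharacter (Subgroup.centralizer (R' : Set G))),
      IsNormalSubpair p M Q f R' g' := by
  subst h
  exact hex

/-! ### Conjugation of stabilizers -/

theorem mem_map_conj_iff (Q : Subgroup G) (x g : G) :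
    g ∈ Q.map (MulAut.conj x).toMonoidHom ↔ x⁻¹ * g * x ∈ Q := by
  constructor
  · rintro ⟨q, hq, rfl⟩
    simp only [MulEquiv.coe_toMonoidHom, MulAut.conj_apply]
    have : x⁻¹ * (x * q * x⁻¹) * x = q := by group
    rwa [this]
  · intro hg
    exact ⟨x⁻¹ * g * x, hg, by simp only [MulEquiv.coe_toMonoidHom, MulAut.conj_apply]; group⟩

theorem mem_normalizer_map_conj_iff (Q : Subgroup G) (x y : G) :
    x * y * x⁻¹ ∈ Subgroup.normalizer ((Q.map (MulAut.conj x).toMonoidHom : Subgroup G) : Set G) ↔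
      y ∈ Subgroup.normalizer (Q : Set G) := by
  rw [Subgroup.mem_set_normalizer_iff, Subgroup.mem_set_normalizer_iff]
  constructor
  · intro h g
    have h1 := h (x * g * x⁻¹)
    simp only [SetLike.mem_coe, mem_map_conj_iff] at h1
    have e1 : x⁻¹ * (x * g * x⁻¹) * x = g := by group
    have e2 : x⁻¹ * (x * y * x⁻¹ * (x * g * x⁻¹) * (x * y * x⁻¹)⁻¹) * x = y * g * y⁻¹ := by group
    rw [e1, e2] at h1
    exact h1
  · intro h g
    simp only [SetLike.mem_coe, mem_map_conj_iff]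
    have h1 := h (x⁻¹ * g * x)
    have e2 : x⁻¹ * (x * y * x⁻¹ * g * (x * y * x⁻¹)⁻¹) * x = y * (x⁻¹ * g * x) * y⁻¹ := by group
    rw [e2]
    exact h1

/-- Stabilizers of conjugate pairs are conjugate. -/
theorem stab_conj_iff (Q : Subgroup G) (x : G)
    (f : Set (IrrCharacter (Subgroup.centralizer (Q : Set G)))) (y : G) :
    (x * y * x⁻¹ ∈ Subgroup.normalizer
        ((Q.map (MulAut.conj x).toMonoidHom : Subgroup G) : Set G) ∧
      StabilizesBlock (Subgroup.centralizer
        ((Q.map (MulAut.conj x).toMonoidHom : Subgroup G) : Set G)) (conjBlock Q x f)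
          (x * y * x⁻¹)) ↔
    (y ∈ Subgroup.normalizer (Q : Set G) ∧
      StabilizesBlock (Subgroup.centralizer (Q : Set G)) f y) := by
  rw [mem_normalizer_map_conj_iff]
  refine and_congr_right fun hyN => ?_
  have hyN' : x * y * x⁻¹ ∈ Subgroup.normalizer
      ((Q.map (MulAut.conj x).toMonoidHom : Subgroup G) : Set G) :=
    (mem_normalizer_map_conj_iff Q x y).mpr hyN
  constructor
  · rintro ⟨-, hst⟩
    refine ⟨normalizer_le_normalizer_centralizer Q hyN, ?_⟩
    intro ξ hξ
    have hχ : irrComp (centConjEquiv Q x) ξ ∈ conjBlock Q x f := by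
      rw [conjBlock_eq_mapBlock]
      exact irrComp_mem_mapBlock _ hξ
    obtain ⟨χ', hχ', hconj⟩ := hst _ hχ
    rw [conjBlock_eq_mapBlock] at hχ'
    obtain ⟨ξ', hξ', rfl⟩ := hχ'
    refine ⟨ξ', hξ', ?_⟩
    intro h h' hhh'
    have := hconj ((centConjEquiv Q x).symm h) ((centConjEquiv Q x).symm h') (by
      rw [centConjEquiv_symm_apply, centConjEquiv_symm_apply, hhh']
      group)
    rw [irrComp_apply, irrComp_apply, MulEquiv.apply_symm_apply,
      MulEquiv.apply_symm_apply] at this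
    exact this
  · rintro ⟨-, hst⟩
    refine ⟨normalizer_le_normalizer_centralizer _ hyN', ?_⟩
    intro χ hχ
    rw [conjBlock_eq_mapBlock] at hχ
    obtain ⟨ξ, hξ, rfl⟩ := hχ
    obtain ⟨ξ', hξ', hconj⟩ := hst ξ hξ
    refine ⟨irrComp (centConjEquiv Q x) ξ', ?_, ?_⟩
    · rw [conjBlock_eq_mapBlock]
      exact irrComp_mem_mapBlock _ hξ'
    · intro k k' hkk'
      rw [irrComp_apply, irrComp_apply]
      apply hconj
      rw [centConjEquiv_apply, centConjEquiv_apply, hkk']
      group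

/-- Conjugation by `x⁻¹` as an isomorphism between conjugate subgroups. -/
noncomputable def stabConjIso {T T' : Subgroup G} (x : G)
    (h : ∀ t' : G, t' ∈ T' ↔ x⁻¹ * t' * x ∈ T) : T' ≃* T where
  toFun t' := ⟨x⁻¹ * (t' : G) * x, (h t').mp t'.2⟩
  invFun t := ⟨x * (t : G) * x⁻¹, (h _).mpr (by
    have : x⁻¹ * (x * (t : G) * x⁻¹) * x = (t : G) := by group
    rw [this]
    exact t.2)⟩
  left_inv t' := by
    apply Subtype.ext
    show x * (x⁻¹ * (t' : G) * x) * x⁻¹ = t'
    group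
  right_inv t := by
    apply Subtype.ext
    show x⁻¹ * (x * (t : G) * x⁻¹) * x = t
    group
  map_mul' a b := by
    apply Subtype.ext
    show x⁻¹ * ((a : G) * (b : G)) * x = (x⁻¹ * (a : G) * x) * (x⁻¹ * (b : G) * x)
    group

theorem stabConjIso_apply {T T' : Subgroup G} (x : G)
    (h : ∀ t' : G, t' ∈ T' ↔ x⁻¹ * t' * x ∈ T) (t' : T') :
    ((stabConjIso x h t' : T) : G) = x⁻¹ * (t' : G) * x := rfl

section Main

variable [Fintype G] [Fact p.Prime]

/-- `N_P(Q)` lies in the stabilizer of `f` and carries a Brauer pair of the block `F`. -/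
theorem pair_of_normalizer (hM : IsPModular p M) {P Q : Subgroup G}
    {e : Set (IrrCharacter (Subgroup.centralizer (P : Set G)))}
    {f : Set (IrrCharacter (Subgroup.centralizer (Q : Set G)))}
    (hPe : IsBrauerPair p M P e) (hQP : Q ≤ P) (hf : IsPBlock M f)
    (hle : SubpairLE p M Q f P e) (T : Subgroup G)
    (hT : ∀ y : G, y ∈ T ↔ y ∈ Subgroup.normalizer (Q : Set G) ∧
      StabilizesBlock (Subgroup.centralizer (Q : Set G)) f y)
    {F : Set (IrrCharacter T)} (hF : IsPBlock M F)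
    (hFc : ∀ t : T, blockCoeff F t =
      subgroupBlockCoeff (Subgroup.centralizer (Q : Set G)) f (t : G)) :
    P ⊓ Subgroup.normalizer (Q : Set G) ≤ T ∧
    ∃ g' : Set (IrrCharacter (Subgroup.centralizer
      (((P ⊓ Subgroup.normalizer (Q : Set G)).subgroupOf T : Subgroup T) : Set T))),
      IsBrauerPairOf p M F ((P ⊓ Subgroup.normalizer (Q : Set G)).subgroupOf T) g' := by
  have hP := hPe.1
  have hR₁P : P ⊓ Subgroup.normalizer (Q : Set G) ≤ P := inf_le_left
  have hQR₁ : Q ≤ P ⊓ Subgroup.normalizer (Q : Set G) := le_inf hQP Subgroup.le_normalizer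
  obtain ⟨g₀, hg₀, hg₀le⟩ := exists_subpairLE hM hPe _ hR₁P
  obtain ⟨f₁, hf₁, -⟩ := existsUnique_isNormalSubpair hM (P ⊓ Subgroup.normalizer (Q : Set G)) Q
    g₀ ⟨hP.to_le hR₁P, hg₀⟩ hQR₁ inf_le_right
  have hle₁ : SubpairLE p M Q f₁ P e :=
    Relation.ReflTransGen.head (show NormalSubpairRel p M (⟨Q, f₁⟩ : BrauerPairIdx G)
      ⟨P ⊓ Subgroup.normalizer (Q : Set G), g₀⟩ from hf₁) hg₀le
  have hff : f₁ = f := subpairLE_unique hM P e Q f₁ f hle₁ hle
  rw [hff] at hf₁
  have hR₁T : P ⊓ Subgroup.normalizer (Q : Set G) ≤ T := by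
    intro y hy
    rw [hT]
    exact ⟨hy.2, hf₁.2.2.2.2.1 y hy⟩
  refine ⟨hR₁T, ?_⟩
  have heq : ((P ⊓ Subgroup.normalizer (Q : Set G)).subgroupOf T).map T.subtype =
      P ⊓ Subgroup.normalizer (Q : Set G) := Subgroup.map_subgroupOf_eq_of_le hR₁T
  obtain ⟨g', hg'⟩ := exists_isNormalSubpair_congr heq.symm ⟨g₀, hf₁⟩
  have hQD : Q ≤ ((P ⊓ Subgroup.normalizer (Q : Set G)).subgroupOf T).map T.subtype := by
    rw [heq]
    exact hQR₁
  exact ⟨_, isBrauerPairOf_of_isNormalSubpair (centralizer_le_stab hT) _ hQD hF hFc hg'⟩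

/-- **S4662**. -/
theorem normalizer_defect (hM : IsPModular p M) {B : Set (IrrCharacter G)} {P Q : Subgroup G}
    {e : Set (IrrCharacter (Subgroup.centralizer (P : Set G)))}
    {f : Set (IrrCharacter (Subgroup.centralizer (Q : Set G)))}
    (hmax : IsMaximalBrauerPair p M B P e) (hQP : Q ≤ P) (hf : IsPBlock M f)
    (hle : SubpairLE p M Q f P e) (T : Subgroup G)
    (hT : ∀ y : G, y ∈ T ↔ y ∈ Subgroup.normalizer (Q : Set G) ∧
      StabilizesBlock (Subgroup.centralizer (Q : Set G)) f y) :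
    (∃ F : Set (IrrCharacter T), IsPBlock M F ∧
      (∀ t : T, blockCoeff F t =
        subgroupBlockCoeff (Subgroup.centralizer (Q : Set G)) f (t : G)) ∧
      ∃ D : Subgroup T, IsDefectGroup p M F D ∧
        (P ⊓ Subgroup.normalizer (Q : Set G)).subgroupOf T ≤ D) ∧
    ∃ x : G, SubpairLE p M (Q.map (MulAut.conj x).toMonoidHom) (conjBlock Q x f) P e ∧
      ∀ (T' : Subgroup G), (∀ y : G, y ∈ T' ↔
        y ∈ Subgroup.normalizer ((Q.map (MulAut.conj x).toMonoidHom : Subgroup G) : Set G) ∧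
        StabilizesBlock (Subgroup.centralizer
          ((Q.map (MulAut.conj x).toMonoidHom : Subgroup G) : Set G)) (conjBlock Q x f) y) →
        ∃ F' : Set (IrrCharacter T'), IsPBlock M F' ∧
          (∀ t : T', blockCoeff F' t = subgroupBlockCoeff (Subgroup.centralizer
            ((Q.map (MulAut.conj x).toMonoidHom : Subgroup G) : Set G)) (conjBlock Q x f) (t : G)) ∧
          IsDefectGroup p M F' ((P ⊓ Subgroup.normalizer
            ((Q.map (MulAut.conj x).toMonoidHom : Subgroup G) : Set G)).subgroupOf T') := by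
  classical
  have := Fintype.ofFinite T
  have hMp := isPrime_of_isPModular hM
  have hPe := hmax.1.1
  have hB := hmax.1.2.1
  have hQ : IsPGroup p Q := hPe.1.to_le hQP
  obtain ⟨F, hF, hFc⟩ := exists_block_stabilizer' hM hQ hf T hT
  obtain ⟨hR₁T, g₁, hg₁⟩ := pair_of_normalizer hM hPe hQP hf hle T hT hF hFc
  refine ⟨⟨F, hF, hFc, exists_isDefectGroup_ge_of_pair hM hg₁⟩, ?_⟩
  obtain ⟨D', g', hmax', hle'⟩ := exists_maximal_ge F _ g₁ hg₁
  have hD' : IsDefectGroup p M F D' := isDefectGroup_of_isMaximalBrauerPair hM hmax'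
  have hD₁D' : (P ⊓ Subgroup.normalizer (Q : Set G)).subgroupOf T ≤ D' := le_of_chain hle'
  have hQD' : Q ≤ D'.map T.subtype := by
    intro q hq
    have hq1 : q ∈ P ⊓ Subgroup.normalizer (Q : Set G) := ⟨hQP hq, Subgroup.le_normalizer hq⟩
    exact ⟨⟨q, hR₁T hq1⟩, hD₁D' (by rw [Subgroup.mem_subgroupOf]; exact hq1), rfl⟩
  have hD'T : D'.map T.subtype ≤ T := by
    rintro _ ⟨d, -, rfl⟩
    exact d.2
  have hnorm := isNormalSubpair_of_isBrauerPairOf hQ hf hT D' hQD' hFc hmax'.1
  have hstep : SubpairLE p M Q f (D'.map T.subtype)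
      (mapBlock (centIsoT (centralizer_le_stab hT) D' hQD').symm g') :=
    Relation.ReflTransGen.single hnorm
  have hQfB : IsBrauerPairOf p M B Q f := (isBrauerPairOf_iff_of_subpairLE hM hle hB).mp hmax.1
  have hR'B : IsBrauerPairOf p M B (D'.map T.subtype)
      (mapBlock (centIsoT (centralizer_le_stab hT) D' hQD').symm g') :=
    (isBrauerPairOf_iff_of_subpairLE hM hstep hB).mpr hQfB
  obtain ⟨x, hx⟩ := exists_conj_subpairLE hM hmax hR'B
  have hchain : SubpairLE p M (Q.map (MulAut.conj x).toMonoidHom) (conjBlock Q x f) P e :=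
    Relation.ReflTransGen.trans (chain_conj x hstep) hx
  refine ⟨x, hchain, ?_⟩
  intro T' hT'
  have := Fintype.ofFinite T'
  have hQxP : Q.map (MulAut.conj x).toMonoidHom ≤ P := le_of_chain hchain
  have hQx : IsPGroup p (Q.map (MulAut.conj x).toMonoidHom) := hQ.map _
  have hfx : IsPBlock M (conjBlock Q x f) := (isBrauerPair_conj x ⟨hQ, hf⟩).2
  obtain ⟨F', hF', hF'c⟩ := exists_block_stabilizer' hM hQx hfx T' hT'
  obtain ⟨hR₁'T', g₂, hg₂⟩ := pair_of_normalizer hM hPe hQxP hfx hchain T' hT' hF' hF'c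
  obtain ⟨E', hE', hE'le⟩ := exists_isDefectGroup_ge_of_pair hM hg₂
  refine ⟨F', hF', hF'c, ?_⟩
  -- the conjugation isomorphism `T' ≃* T`
  have hTT' : ∀ t' : G, t' ∈ T' ↔ x⁻¹ * t' * x ∈ T := by
    intro t'
    rw [hT', hT]
    have h1 := stab_conj_iff Q x f (x⁻¹ * t' * x)
    have e1 : x * (x⁻¹ * t' * x) * x⁻¹ = t' := by group
    rw [e1] at h1
    exact h1
  have hmap : mapBlock (stabConjIso x hTT') F = F' := by
    apply eq_of_blockCoeff_congr hMp (isPBlock_mapBlock _ hF) hF'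
    intro t'
    rw [blockCoeff_mapBlock, hFc, hF'c, stabConjIso_apply]
    have h1 := subgroupBlockCoeff_conj Q x f (x⁻¹ * (t' : G) * x)
    have e1 : x * (x⁻¹ * (t' : G) * x) * x⁻¹ = (t' : G) := by group
    rw [e1] at h1
    rw [h1, sub_self]
    exact memLocalIdeal_zero hMp
  have hDx : IsDefectGroup p M F' (D'.map ((stabConjIso x hTT').symm : T →* T')) := by
    rw [← hmap]
    exact isDefectGroup_mapBlock (stabConjIso x hTT') hD'
  have hc1 : Nat.card E' = Nat.card D' := by
    rw [isDefectGroup_card_eq hM hF' hDx hE']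
    exact Subgroup.card_map_of_injective (stabConjIso x hTT').symm.injective
  have hle2 : (D'.map T.subtype).map (MulAut.conj x).toMonoidHom ≤
      P ⊓ Subgroup.normalizer ((Q.map (MulAut.conj x).toMonoidHom : Subgroup G) : Set G) := by
    refine le_inf (le_of_chain hx) ?_
    rintro _ ⟨d, hd, rfl⟩
    simp only [MulEquiv.coe_toMonoidHom, MulAut.conj_apply]
    exact (mem_normalizer_map_conj_iff Q x d).mpr ((hT d).mp (hD'T hd)).1
  have hc2 : Nat.card D' ≤ Nat.card ((P ⊓ Subgroup.normalizer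
      ((Q.map (MulAut.conj x).toMonoidHom : Subgroup G) : Set G)).subgroupOf T') := by
    rw [card_subgroupOf_of_le hR₁'T']
    calc Nat.card D' = Nat.card (D'.map T.subtype) :=
          (Subgroup.card_map_of_injective (Subgroup.subtype_injective _)).symm
      _ = Nat.card ((D'.map T.subtype).map (MulAut.conj x).toMonoidHom) :=
          (card_map_conj _ x).symm
      _ ≤ _ := Subgroup.card_le_of_le hle2
  have heq := Subgroup.eq_of_le_of_card_ge hE'le (hc1 ▸ hc2)
  rw [heq]
  exact hE'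

end Main

end Cfsg.Agent.Lib.Helper78_PairStab
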