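import Mathlib
import Cfsg.Prelude.Def_Blocks
import Cfsg.Prelude.Def_BlockLocal
import Cfsg.Prelude.Def_BrauerPairs
import Cfsg.Prelude.Def_BlockFusion
import Cfsg.Agent.Lib.Helper78_LocalRing
import Cfsg.Agent.Lib.Helper78_Transport
import Cfsg.Agent.Lib.Helper78_TransportBlocks
import Cfsg.Agent.Lib.Helper78_PrincipalFusion
import Cfsg.Agent.Lib.Helper78_BrauerCorr
import Cfsg.Agent.Lib.Helper78_SubpairUnique
import Cfsg.Agent.Lib.Helper78_FirstMainGT
import Cfsg.Agent.Lib.Helper78_MaxPair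
import Cfsg.Agent.Lib.Helper78_PairConj
import Cfsg.Agent.Lib.Helper78_PairCent

/-!
# The fusion system of a block: fully centralized and centric subgroups (helper78, S4678, S4680)
-/

set_option autoImplicit false
set_option linter.unusedSectionVars false

namespace Cfsg.Agent.Lib.Helper78_BlockFusion

open Cfsg Cfsg.Agent.Lib.Helper78_LocalRing Cfsg.Agent.Lib.Helper78_Transport
  Cfsg.Agent.Lib.Helper78_TransportBlocks Cfsg.Agent.Lib.Helper78_PrincipalFusion
  Cfsg.Agent.Lib.Helper78_BrauerCorr Cfsg.Agent.Lib.Helper78_SubpairUnique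
  Cfsg.Agent.Lib.Helper78_FirstMainGT Cfsg.Agent.Lib.Helper78_MaxPair
  Cfsg.Agent.Lib.Helper78_PairConj Cfsg.Agent.Lib.Helper78_PairCent

universe u

variable {G : Type u} [Group G] {M : Ideal AlgInt} {p : ℕ}

/-- Conjugate blocks have defect groups of the same order. -/
theorem card_defect_conj [Finite G] [Fact p.Prime] (hM : IsPModular p M) {Q : Subgroup G} (x : G)
    {f : Set (IrrCharacter (Subgroup.centralizer (Q : Set G)))} (hf : IsPBlock M f)
    {D : Subgroup (Subgroup.centralizer (Q : Set G))} (hD : IsDefectGroup p M f D)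
    {E : Subgroup (Subgroup.centralizer ((Q.map (MulAut.conj x).toMonoidHom : Subgroup G) : Set G))}
    (hE : IsDefectGroup p M (conjBlock Q x f) E) : Nat.card E = Nat.card D := by
  have hDx : IsDefectGroup p M (conjBlock Q x f)
      (D.map ((centConjEquiv Q x).symm : Subgroup.centralizer (Q : Set G) →*
        Subgroup.centralizer ((Q.map (MulAut.conj x).toMonoidHom : Subgroup G) : Set G))) := by
    rw [conjBlock_eq_mapBlock]
    exact isDefectGroup_mapBlock (centConjEquiv Q x) hD
  have hfx : IsPBlock M (conjBlock Q x f) := by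
    rw [conjBlock_eq_mapBlock]
    exact isPBlock_mapBlock _ hf
  rw [isDefectGroup_card_eq hM hfx hDx hE]
  exact Subgroup.card_map_of_injective (centConjEquiv Q x).symm.injective

/-- The centre of a conjugate. -/
theorem center_map_conj (Q : Subgroup G) (x : G) :
    Q.map (MulAut.conj x).toMonoidHom ⊓
      Subgroup.centralizer ((Q.map (MulAut.conj x).toMonoidHom : Subgroup G) : Set G) =
      (Q ⊓ Subgroup.centralizer (Q : Set G)).map (MulAut.conj x).toMonoidHom := by
  ext c
  constructor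
  · rintro ⟨⟨q, hq, rfl⟩, hc⟩
    simp only [MulEquiv.coe_toMonoidHom, MulAut.conj_apply] at hc
    exact ⟨q, ⟨hq, (mem_centralizer_map_conj_iff Q x q).mp hc⟩, rfl⟩
  · rintro ⟨q, ⟨hq, hqc⟩, rfl⟩
    refine ⟨⟨q, hq, rfl⟩, ?_⟩
    simp only [MulEquiv.coe_toMonoidHom, MulAut.conj_apply]
    exact (mem_centralizer_map_conj_iff Q x q).mpr hqc

theorem range_eq_map_conj {Q : Subgroup G} {φ : Q →* G} {g : G}
    (h : ∀ u : Q, φ u = g * (u : G) * g⁻¹) : φ.range = Q.map (MulAut.conj g).toMonoidHom := by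
  ext y
  constructor
  · rintro ⟨u, rfl⟩
    exact ⟨(u : G), u.2, by simp [h u]⟩
  · rintro ⟨q, hq, rfl⟩
    exact ⟨⟨q, hq⟩, by simp [h ⟨q, hq⟩]⟩

section Main

variable [Fintype G] [Fact p.Prime]

/-- Conjugacy in the fusion system of a block. -/
theorem isConj_iff (hM : IsPModular p M) {B : Set (IrrCharacter G)} {P : Subgroup G}
    {e : Set (IrrCharacter (Subgroup.centralizer (P : Set G)))} {F : FusionSystem P}
    (hF : IsBlockFusionSystemOn p M B P e F) {Q : Subgroup G}
    {f : Set (IrrCharacter (Subgroup.centralizer (Q : Set G)))} (hQP : Q ≤ P)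
    (hle : SubpairLE p M Q f P e) (Q' : Subgroup G) :
    F.IsConj Q Q' ↔ ∃ g : G, Q' = Q.map (MulAut.conj g).toMonoidHom ∧
      SubpairLE p M (Q.map (MulAut.conj g).toMonoidHom) (conjBlock Q g f) P e := by
  constructor
  · rintro ⟨φ, hφ, hrange⟩
    obtain ⟨-, g, hg, -, f₀, hf₀, hf₀g⟩ := (hF.2 Q φ).mp hφ
    have hff : f₀ = f := subpairLE_unique hM P e Q f₀ f hf₀ hle
    rw [hff] at hf₀g
    exact ⟨g, by rw [← hrange, range_eq_map_conj hg], hf₀g⟩
  · rintro ⟨g, rfl, hg⟩
    refine ⟨conjHom Q g, ?_, ?_⟩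
    · rw [hF.2]
      exact ⟨hQP, g, fun u => rfl, le_of_chain hg, f, hle, hg⟩
    · exact range_eq_map_conj (fun u => rfl)

/-- **S4678**: `Q` is fully centralized iff `C_P(Q)` is a defect group of `f`. -/
theorem isFullyCentralized_iff (hM : IsPModular p M) {B : Set (IrrCharacter G)} {P : Subgroup G}
    {e : Set (IrrCharacter (Subgroup.centralizer (P : Set G)))}
    (hmax : IsMaximalBrauerPair p M B P e) {F : FusionSystem P}
    (hF : IsBlockFusionSystemOn p M B P e F) {Q : Subgroup G}
    {f : Set (IrrCharacter (Subgroup.centralizer (Q : Set G)))} (hQP : Q ≤ P)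
    (hf : IsPBlock M f) (hle : SubpairLE p M Q f P e) :
    F.IsFullyCentralized Q ↔ IsDefectGroup p M f
      ((P ⊓ Subgroup.centralizer (Q : Set G)).subgroupOf (Subgroup.centralizer (Q : Set G))) := by
  have hQ : IsPGroup p Q := hmax.1.1.1.to_le hQP
  obtain ⟨⟨E, hE, hEle⟩, x, hx, hxD⟩ := centralizer_defect hM hmax hQP hf hle
  constructor
  · rintro ⟨-, hfc⟩
    have h1 := hfc _ ((isConj_iff hM hF hQP hle _).mpr ⟨x, rfl, hx⟩)
    unfold FusionSystem.centralizerIn at h1
    have h2 : Nat.card E = Nat.card ((P ⊓ Subgroup.centralizer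
        ((Q.map (MulAut.conj x).toMonoidHom : Subgroup G) : Set G)).subgroupOf
          (Subgroup.centralizer ((Q.map (MulAut.conj x).toMonoidHom : Subgroup G) : Set G))) :=
      (card_defect_conj hM x hf hE hxD).symm
    rw [card_subgroupOf_of_le inf_le_right] at h2
    have h3 : Nat.card E ≤ Nat.card ((P ⊓ Subgroup.centralizer (Q : Set G)).subgroupOf
        (Subgroup.centralizer (Q : Set G))) := by
      rw [card_subgroupOf_of_le inf_le_right, h2]
      exact h1
    rw [Subgroup.eq_of_le_of_card_ge hEle h3]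
    exact hE
  · intro hD
    refine ⟨hQP, fun Q' hQ' => ?_⟩
    obtain ⟨g, rfl, hg⟩ := (isConj_iff hM hF hQP hle _).mp hQ'
    have hfg : IsPBlock M (conjBlock Q g f) := (isBrauerPair_conj g ⟨hQ, hf⟩).2
    obtain ⟨⟨E', hE', hE'le⟩, -⟩ := centralizer_defect hM hmax (le_of_chain hg) hfg hg
    unfold FusionSystem.centralizerIn
    have h1 : Nat.card E' = Nat.card ((P ⊓ Subgroup.centralizer (Q : Set G)).subgroupOf
        (Subgroup.centralizer (Q : Set G))) := card_defect_conj hM g hf hD hE'
    rw [card_subgroupOf_of_le inf_le_right] at h1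
    rw [← h1, ← card_subgroupOf_of_le (inf_le_right : P ⊓ Subgroup.centralizer
      ((Q.map (MulAut.conj g).toMonoidHom : Subgroup G) : Set G) ≤ _)]
    exact Subgroup.card_le_of_le hE'le

/-- **S4680**: `Q` is centric iff `Z(Q)` is a defect group of `f`. -/
theorem isCentric_iff (hM : IsPModular p M) {B : Set (IrrCharacter G)} {P : Subgroup G}
    {e : Set (IrrCharacter (Subgroup.centralizer (P : Set G)))}
    (hmax : IsMaximalBrauerPair p M B P e) {F : FusionSystem P}
    (hF : IsBlockFusionSystemOn p M B P e F) {Q : Subgroup G}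
    {f : Set (IrrCharacter (Subgroup.centralizer (Q : Set G)))} (hQP : Q ≤ P)
    (hf : IsPBlock M f) (hle : SubpairLE p M Q f P e) :
    F.IsCentric Q ↔ IsDefectGroup p M f
      ((Q ⊓ Subgroup.centralizer (Q : Set G)).subgroupOf (Subgroup.centralizer (Q : Set G))) := by
  have hQ : IsPGroup p Q := hmax.1.1.1.to_le hQP
  obtain ⟨⟨E, hE, hEle⟩, x, hx, hxD⟩ := centralizer_defect hM hmax hQP hf hle
  have hZle : ∀ (R : Subgroup G), R ≤ P → R ⊓ Subgroup.centralizer (R : Set G) ≤
      P ⊓ Subgroup.centralizer (R : Set G) := fun R hR => inf_le_inf_right _ hR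
  have hcardZ : ∀ g : G, Nat.card ((Q.map (MulAut.conj g).toMonoidHom ⊓
      Subgroup.centralizer ((Q.map (MulAut.conj g).toMonoidHom : Subgroup G) : Set G) :
        Subgroup G)) = Nat.card ((Q ⊓ Subgroup.centralizer (Q : Set G) : Subgroup G)) := by
    intro g
    rw [center_map_conj, card_map_conj]
  constructor
  · rintro ⟨-, hcen⟩
    have h1 := hcen _ ((isConj_iff hM hF hQP hle _).mpr ⟨x, rfl, hx⟩)
    unfold FusionSystem.centralizerIn at h1
    -- `C_P(Q^x) = Z(Q^x)`
    have h2 : P ⊓ Subgroup.centralizer ((Q.map (MulAut.conj x).toMonoidHom : Subgroup G) : Set G) =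
        Q.map (MulAut.conj x).toMonoidHom ⊓
          Subgroup.centralizer ((Q.map (MulAut.conj x).toMonoidHom : Subgroup G) : Set G) :=
      le_antisymm (le_inf h1 inf_le_right) (hZle _ (le_of_chain hx))
    have h3 : Nat.card E = Nat.card ((Q ⊓ Subgroup.centralizer (Q : Set G)).subgroupOf
        (Subgroup.centralizer (Q : Set G))) := by
      rw [card_subgroupOf_of_le inf_le_right, ← hcardZ x, ← h2,
        ← card_subgroupOf_of_le (inf_le_right : P ⊓ Subgroup.centralizer
          ((Q.map (MulAut.conj x).toMonoidHom : Subgroup G) : Set G) ≤ _)]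
      exact (card_defect_conj hM x hf hE hxD).symm
    have h4 : (Q ⊓ Subgroup.centralizer (Q : Set G)).subgroupOf
        (Subgroup.centralizer (Q : Set G)) ≤ E := by
      refine le_trans ?_ hEle
      intro c hc
      exact hZle Q hQP hc
    rw [Subgroup.eq_of_le_of_card_ge h4 h3.le]
    exact hE
  · intro hD
    refine ⟨hQP, fun Q' hQ' => ?_⟩
    obtain ⟨g, rfl, hg⟩ := (isConj_iff hM hF hQP hle _).mp hQ'
    have hfg : IsPBlock M (conjBlock Q g f) := (isBrauerPair_conj g ⟨hQ, hf⟩).2
    obtain ⟨⟨E', hE', hE'le⟩, -⟩ := centralizer_defect hM hmax (le_of_chain hg) hfg hg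
    unfold FusionSystem.centralizerIn
    have h1 : Nat.card E' = Nat.card ((Q ⊓ Subgroup.centralizer (Q : Set G)).subgroupOf
        (Subgroup.centralizer (Q : Set G))) := card_defect_conj hM g hf hD hE'
    rw [card_subgroupOf_of_le inf_le_right, ← hcardZ g] at h1
    -- `Z(Q^g) ≤ C_P(Q^g)` with `|C_P(Q^g)| ≤ |E'| = |Z(Q^g)|`
    have h2 : Nat.card ((P ⊓ Subgroup.centralizer
        ((Q.map (MulAut.conj g).toMonoidHom : Subgroup G) : Set G) : Subgroup G)) ≤
        Nat.card ((Q.map (MulAut.conj g).toMonoidHom ⊓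
      Subgroup.centralizer ((Q.map (MulAut.conj g).toMonoidHom : Subgroup G) : Set G) :
        Subgroup G)) := by
      rw [← h1, ← card_subgroupOf_of_le (inf_le_right : P ⊓ Subgroup.centralizer
        ((Q.map (MulAut.conj g).toMonoidHom : Subgroup G) : Set G) ≤ _)]
      exact Subgroup.card_le_of_le hE'le
    have h3 := Subgroup.eq_of_le_of_card_ge (hZle _ (le_of_chain hg)) h2
    rw [← h3]
    exact inf_le_left

end Main

end Cfsg.Agent.Lib.Helper78_BlockFusion
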