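import Mathlib
import Cfsg.Prelude.Def_Blocks
import Cfsg.Prelude.Def_BlockLocal
import Cfsg.Prelude.Def_BrauerPairs
import Cfsg.Prelude.Def_BlockFusion
import Cfsg.Agent.Lib.Helper78_PairConj
import Cfsg.Agent.Lib.Helper78_BlockFusion

/-!
# The fusion system of a block exists (helper78, towards S4677)

The conjugation maps between the Brauer pairs below a maximal Brauer pair `(P, e)` form a fusion
system on `P`.
-/

set_option autoImplicit false
set_option linter.unusedSectionVars false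

namespace Cfsg.Agent.Lib.Helper78_BlockFusionSys

open Cfsg Cfsg.Agent.Lib.Helper78_LocalRing
  Cfsg.Agent.Lib.Helper78_Transport
  Cfsg.Agent.Lib.Helper78_TransportBlocks Cfsg.Agent.Lib.Helper78_NilpotentPrincipal
  Cfsg.Agent.Lib.Helper78_PrincipalFusion
  Cfsg.Agent.Lib.Helper78_SubpairBasic Cfsg.Agent.Lib.Helper78_SubpairNormal
  Cfsg.Agent.Lib.Helper78_SubpairTrans Cfsg.Agent.Lib.Helper78_SubpairUnique
  Cfsg.Agent.Lib.Helper78_FirstMain Cfsg.Agent.Lib.Helper78_MaxPair
  Cfsg.Agent.Lib.Helper78_PairConj Cfsg.Agent.Lib.Helper78_BlockFusion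

universe u

variable {G : Type u} [Group G] {M : Ideal AlgInt} {p : ℕ}

/-! ### More on conjugation of pairs -/

theorem map_conj_one (Q : Subgroup G) : Q.map (MulAut.conj (1 : G)).toMonoidHom = Q := by
  ext g
  constructor
  · rintro ⟨q, hq, rfl⟩
    simpa using hq
  · intro hg
    exact ⟨g, hg, by simp⟩

theorem conjPair_one (a : BrauerPairIdx G) : conjPair (1 : G) a = a := by
  obtain ⟨Q, f⟩ := a
  unfold conjPair
  refine pair_ext (map_conj_one Q) ?_ ?_
  · intro ξ₁ hξ₁
    rw [conjBlock_eq_mapBlock] at hξ₁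
    obtain ⟨ξ, hξ, rfl⟩ := hξ₁
    refine ⟨ξ, hξ, ?_⟩
    intro c₁ c₂ h
    rw [irrComp_apply]
    refine congrArg _ (Subtype.ext ?_)
    rw [centConjEquiv_apply, h]
    group
  · intro ξ hξ
    refine ⟨irrComp (centConjEquiv Q 1) ξ, ?_, ?_⟩
    · rw [conjBlock_eq_mapBlock]
      exact irrComp_mem_mapBlock _ hξ
    · intro c₁ c₂ h
      rw [irrComp_apply]
      refine congrArg _ (Subtype.ext ?_)
      rw [centConjEquiv_apply, h]
      group

theorem conjPair_inv_conjPair (x : G) (a : BrauerPairIdx G) :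
    conjPair x⁻¹ (conjPair x a) = a := by
  rw [← conjPair_mul, inv_mul_cancel, conjPair_one]

theorem conjPair_conjPair_inv (x : G) (a : BrauerPairIdx G) :
    conjPair x (conjPair x⁻¹ a) = a := by
  rw [← conjPair_mul, mul_inv_cancel, conjPair_one]

theorem map_conj_eq_of_mem {P : Subgroup G} {g : G} (hg : g ∈ P) :
    P.map (MulAut.conj g).toMonoidHom = P := by
  ext y
  constructor
  · rintro ⟨q, hq, rfl⟩
    simp only [MulEquiv.coe_toMonoidHom, MulAut.conj_apply]
    exact P.mul_mem (P.mul_mem hg hq) (P.inv_mem hg)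
  · intro hy
    refine ⟨g⁻¹ * y * g, P.mul_mem (P.mul_mem (P.inv_mem hg) hy) hg, ?_⟩
    simp only [MulEquiv.coe_toMonoidHom, MulAut.conj_apply]
    group

/-- Conjugation by an element of `P` fixes every pair on `P`. -/
theorem conjPair_of_mem {P : Subgroup G} {g : G} (hg : g ∈ P)
    (e : Set (IrrCharacter (Subgroup.centralizer (P : Set G)))) :
    conjPair g (⟨P, e⟩ : BrauerPairIdx G) = ⟨P, e⟩ := by
  unfold conjPair
  have hcomm : ∀ c : G, c ∈ Subgroup.centralizer (P : Set G) → g⁻¹ * c * g = c := by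
    intro c hc
    have h1 := Subgroup.mem_centralizer_iff.mp hc g hg
    calc g⁻¹ * c * g = g⁻¹ * (c * g) := by group
      _ = g⁻¹ * (g * c) := by rw [h1]
      _ = c := by group
  refine pair_ext (map_conj_eq_of_mem hg) ?_ ?_
  · intro ξ₁ hξ₁
    rw [conjBlock_eq_mapBlock] at hξ₁
    obtain ⟨ξ, hξ, rfl⟩ := hξ₁
    refine ⟨ξ, hξ, ?_⟩
    intro c₁ c₂ h
    rw [irrComp_apply]
    refine congrArg _ (Subtype.ext ?_)
    rw [centConjEquiv_apply, h]
    exact hcomm _ c₂.2
  · intro ξ hξ
    refine ⟨irrComp (centConjEquiv P g) ξ, ?_, ?_⟩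
    · rw [conjBlock_eq_mapBlock]
      exact irrComp_mem_mapBlock _ hξ
    · intro c₁ c₂ h
      rw [irrComp_apply]
      refine congrArg _ (Subtype.ext ?_)
      rw [centConjEquiv_apply, h]
      exact hcomm _ c₂.2

section Uniq

variable [Fintype G] [Fact p.Prime]

/-- Uniqueness of the pair below a given pair, for elements of the index type. -/
theorem pair_unique (hM : IsPModular p M) {a a' b : BrauerPairIdx G}
    (h : Relation.ReflTransGen (NormalSubpairRel p M) a b)
    (h' : Relation.ReflTransGen (NormalSubpairRel p M) a' b) (heq : a.1 = a'.1) : a = a' := by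
  obtain ⟨Q, f⟩ := a
  obtain ⟨Q', f'⟩ := a'
  obtain ⟨P, e⟩ := b
  simp only at heq
  subst heq
  have := subpairLE_unique hM P e Q f f' h h'
  rw [this]

/-- Below `b`, a pair `a` and a subgroup `R` between them: the pair on `R` below `b` lies above
`a`. -/
theorem chain_mid (hM : IsPModular p M) {a c b : BrauerPairIdx G}
    (hab : Relation.ReflTransGen (NormalSubpairRel p M) a b)
    (hcb : Relation.ReflTransGen (NormalSubpairRel p M) c b) (hc : IsBrauerPair p M c.1 c.2)
    (hac : a.1 ≤ c.1) : Relation.ReflTransGen (NormalSubpairRel p M) a c := by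
  obtain ⟨Q, f⟩ := a
  obtain ⟨R, fR⟩ := c
  obtain ⟨f₁, -, hf₁⟩ := exists_subpairLE hM hc Q hac
  have h1 : Relation.ReflTransGen (NormalSubpairRel p M) (⟨Q, f₁⟩ : BrauerPairIdx G) b :=
    Relation.ReflTransGen.trans hf₁ hcb
  have h2 : (⟨Q, f₁⟩ : BrauerPairIdx G) = ⟨Q, f⟩ := pair_unique hM h1 hab rfl
  rw [← h2]
  exact hf₁

end Uniq

/-- A pair in a chain is a Brauer pair, if the end is. -/
theorem isBrauerPair_of_chain {a b : BrauerPairIdx G}
    (h : Relation.ReflTransGen (NormalSubpairRel p M) a b) (hb : IsBrauerPair p M b.1 b.2) :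
    IsBrauerPair p M a.1 a.2 := by
  induction h using Relation.ReflTransGen.head_induction_on with
  | refl => exact hb
  | head hac _ _ => exact hac.1

/-! ### The maps -/

/-- The maps of the fusion system of a block with source `Q`. -/
def blockHom (p : ℕ) (M : Ideal AlgInt) (P : Subgroup G)
    (e : Set (IrrCharacter (Subgroup.centralizer (P : Set G)))) (Q : Subgroup G) :
    Set (Q →* G) :=
  {φ | Q ≤ P ∧ ∃ g : G, (∀ u : Q, φ u = g * (u : G) * g⁻¹) ∧
    Q.map (MulAut.conj g).toMonoidHom ≤ P ∧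
    ∃ f : Set (IrrCharacter (Subgroup.centralizer (Q : Set G))),
      SubpairLE p M Q f P e ∧
        SubpairLE p M (Q.map (MulAut.conj g).toMonoidHom) (conjBlock Q g f) P e}

theorem blockHom_conjHom_inv {P : Subgroup G}
    {e : Set (IrrCharacter (Subgroup.centralizer (P : Set G)))} {Q : Subgroup G} {g : G}
    {f : Set (IrrCharacter (Subgroup.centralizer (Q : Set G)))}
    (hQP : Q ≤ P) (hle : SubpairLE p M Q f P e)
    (hleg : SubpairLE p M (Q.map (MulAut.conj g).toMonoidHom) (conjBlock Q g f) P e)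
    (R : Subgroup G) (hR : R = Q.map (MulAut.conj g).toMonoidHom) :
    conjHom R g⁻¹ ∈ blockHom p M P e R := by
  subst hR
  refine ⟨le_of_chain hleg, g⁻¹, fun u => rfl, ?_, conjBlock Q g f, hleg, ?_⟩
  · rw [← map_conj_mul, inv_mul_cancel, map_conj_one]
    exact hQP
  · have h1 : conjPair g⁻¹ (conjPair g (⟨Q, f⟩ : BrauerPairIdx G)) = ⟨Q, f⟩ :=
      conjPair_inv_conjPair g _
    show Relation.ReflTransGen (NormalSubpairRel p M)
      (conjPair g⁻¹ (conjPair g (⟨Q, f⟩ : BrauerPairIdx G))) ⟨P, e⟩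
    rw [h1]
    exact hle

section Sys

variable [Fintype G] [Fact p.Prime]

/-- **The fusion system of a block on a maximal Brauer pair.** -/
noncomputable def blockFusionSystem (hM : IsPModular p M) {P : Subgroup G}
    {e : Set (IrrCharacter (Subgroup.centralizer (P : Set G)))}
    (hPe : IsBrauerPair p M P e) : FusionSystem P where
  Hom := blockHom p M P e
  le_of_mem := by
    rintro Q φ ⟨hQP, g, hg, hgP, -⟩
    refine ⟨hQP, fun x => hgP ?_⟩
    rw [hg x]
    exact ⟨(x : G), x.2, rfl⟩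
  injective_of_mem := by
    rintro Q φ ⟨-, g, hg, -⟩ x y hxy
    rw [hg x, hg y] at hxy
    apply Subtype.ext
    have := mul_left_cancel (mul_right_cancel hxy)
    exact this
  conj_mem := by
    intro Q g hQP hgP
    obtain ⟨f, -, hf⟩ := exists_subpairLE hM hPe Q hQP
    have hmap : Q.map (MulAut.conj g).toMonoidHom ≤ P := by
      rintro _ ⟨q, hq, rfl⟩
      simp only [MulEquiv.coe_toMonoidHom, MulAut.conj_apply]
      exact P.mul_mem (P.mul_mem hgP (hQP hq)) (P.inv_mem hgP)
    refine ⟨hQP, g, fun u => rfl, hmap, f, hf, ?_⟩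
    have h1 := chain_conj g hf
    rw [conjPair_of_mem hgP] at h1
    exact h1
  comp_mem := by
    rintro Q R φ ψ ⟨hQP, g, hg, hgP, f, hf, hfg⟩ ⟨hRP, h, hh, hhP, fR, hfR, hfRh⟩ hφR
    have hQR : Q.map (MulAut.conj g).toMonoidHom ≤ R := by
      rintro _ ⟨q, hq, rfl⟩
      have := hφR ⟨q, hq⟩
      rw [hg] at this
      exact this
    have hRpair : IsBrauerPair p M R fR := isBrauerPair_of_chain hfR hPe
    have hmid : Relation.ReflTransGen (NormalSubpairRel p M)
        (conjPair g (⟨Q, f⟩ : BrauerPairIdx G)) ⟨R, fR⟩ :=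
      chain_mid hM hfg hfR hRpair hQR
    have h2 := Relation.ReflTransGen.trans (chain_conj h hmid) hfRh
    rw [← conjPair_mul] at h2
    refine ⟨hQP, h * g, ?_, le_of_chain h2, f, hf, h2⟩
    intro u
    show ψ ⟨φ u, hφR u⟩ = _
    rw [hh]
    show h * φ u * h⁻¹ = _
    rw [hg]
    group
  inv_mem := by
    rintro Q φ ⟨hQP, g, hg, hgP, f, hf, hfg⟩
    refine ⟨conjHom φ.range g⁻¹,
      blockHom_conjHom_inv hQP hf hfg φ.range (range_eq_map_conj hg), ?_⟩
    intro x
    show g⁻¹ * φ x * g⁻¹⁻¹ = x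
    rw [hg]
    group

theorem blockFusionSystem_hom (hM : IsPModular p M) {P : Subgroup G}
    {e : Set (IrrCharacter (Subgroup.centralizer (P : Set G)))}
    (hPe : IsBrauerPair p M P e) (Q : Subgroup G) :
    (blockFusionSystem hM hPe).Hom Q = blockHom p M P e Q := rfl

theorem isBlockFusionSystemOn_blockFusionSystem (hM : IsPModular p M)
    {B : Set (IrrCharacter G)} {P : Subgroup G}
    {e : Set (IrrCharacter (Subgroup.centralizer (P : Set G)))}
    (hmax : IsMaximalBrauerPair p M B P e) :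
    IsBlockFusionSystemOn p M B P e (blockFusionSystem hM hmax.1.1) :=
  ⟨hmax, fun _ _ => Iff.rfl⟩

end Sys

end Cfsg.Agent.Lib.Helper78_BlockFusionSys
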