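import Mathlib
import Cfsg.Prelude.Def_Blocks
import Cfsg.Prelude.Def_BlockLocal
import Cfsg.Prelude.Def_BrauerPairs
import Cfsg.Agent.Lib.Helper77_StableCover
import Cfsg.Agent.Lib.Helper78_MinMax

/-!
# Defect groups when a block idempotent lies in a normal subgroup (helper78)

If `N` is a normal subgroup of `G`, `c` is a block of `N` and `B` is a block of `G` with the same
idempotent, and `P` is a defect group of `B`, then `P ∩ N` is a defect group of `c` and the index
of `N P` in `G` is prime to `p`.  (The first part is the argument of helper77 for normal subgroups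
of `p`-power index, which does not use the index.)
-/

set_option autoImplicit false
set_option linter.unusedSectionVars false

namespace Cfsg.Agent.Lib.Helper78_FongKnorr

open Cfsg Cfsg.Agent.Lib.Helper16_Char Cfsg.Agent.Lib.Helper16_Clifford
  Cfsg.Agent.Lib.Helper16_Orbit Cfsg.Agent.Lib.Helper16_Cover
  Cfsg.Agent.Lib.Helper78_LocalRing Cfsg.Agent.Lib.Helper78_Osima
  Cfsg.Agent.Lib.Helper78_CentralChar Cfsg.Agent.Lib.Helper78_CharFacts
  Cfsg.Agent.Lib.Helper77_BlockBasics Cfsg.Agent.Lib.Helper77_QuotDefect2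
  Cfsg.Agent.Lib.Helper77_StableCover

universe u

variable {G : Type u} [Group G] [Fintype G] (N : Subgroup G) [hN : N.Normal] [Fintype N]
  {M : Ideal AlgInt} {p : ℕ} [Fact p.Prime]

/-- Defects when the idempotents of `B` and `c` agree. -/
theorem blockDefect_eq_add_factorization (hM : IsPModular p M)
    {c : Set (IrrCharacter N)} (hc : IsPBlock M c) {B : Set (IrrCharacter G)}
    (hB : IsPBlock M B) (h : ∀ g : G, blockCoeff B g = subgroupBlockCoeff N c g) :
    blockDefect p B = blockDefect p c + (N.index).factorization p := by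
  have hp : p.Prime := Fact.out
  have hMp := isPrime_of_isPModular hM
  have h1 := Cfsg.Agent.S4491.result p M hM B hB
  have h2 := Cfsg.Agent.S4491.result p M hM c hc
  have h3 := sum_deg_sq_eq_index_mul N h
  have hcpos := finsum_deg_sq_pos hMp hc
  have hidx0 : N.index ≠ 0 := Subgroup.index_ne_zero_of_finite
  have ha : (Nat.card G).factorization p =
      (Nat.card N).factorization p + (N.index).factorization p := by
    rw [← Subgroup.card_mul_index N,
      Nat.factorization_mul (Nat.card_pos).ne' hidx0, Finsupp.add_apply]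
  have hν : (∑ᶠ χ ∈ B, charDegree (χ : G → ℂ) ^ 2).factorization p =
      (N.index).factorization p + (∑ᶠ θ ∈ c, charDegree (θ : N → ℂ) ^ 2).factorization p := by
    rw [h3, Nat.factorization_mul hidx0 hcpos.ne', Finsupp.add_apply]
  have hd1 : blockDefect p B ≤ (Nat.card G).factorization p := Nat.sub_le _ _
  have hd2 : blockDefect p c ≤ (Nat.card N).factorization p := Nat.sub_le _ _
  omega

/-- **Defect groups** when the idempotent of the block `B` of `G` is the idempotent of the block `c`
of the normal subgroup `N`. -/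
theorem defect_groups_of_eq' (hM : IsPModular p M)
    {c : Set (IrrCharacter N)} (hc : IsPBlock M c) {B : Set (IrrCharacter G)}
    (hB : IsPBlock M B) (h : ∀ g : G, blockCoeff B g = subgroupBlockCoeff N c g)
    {P : Subgroup G} (hP : IsDefectGroup p M B P) :
    IsDefectGroup p M c ((P ⊓ N).subgroupOf N) ∧ ¬ p ∣ (N ⊔ P).index := by
  classical
  have hp : p.Prime := Fact.out
  have hMp := isPrime_of_isPModular hM
  have hcardP := Cfsg.Agent.Lib.Helper77_CentralDefect.card_of_isDefectGroup hM hB hP
  obtain ⟨g, hg, D, hPD⟩ := hP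
  have hgN : g ∈ N := by
    by_contra hgN
    apply hg.2.1
    rw [h g]
    unfold subgroupBlockCoeff
    rw [dif_neg hgN]
    exact memLocalIdeal_zero hMp
  set n : N := ⟨g, hgN⟩ with hn
  have hcn : blockCoeff c n = blockCoeff B g := by
    rw [h g]
    unfold subgroupBlockCoeff
    rw [dif_pos hgN]
  obtain ⟨Q, hQ⟩ := exists_dg hM hc
  have hcardQ := Cfsg.Agent.Lib.Helper77_CentralDefect.card_of_isDefectGroup hM hc hQ
  have hQ₀ := hQ
  obtain ⟨n₁, hn₁, D₁, hQD⟩ := hQ
  set S : Subgroup N := (P ⊓ N).subgroupOf N with hS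
  have hSp : IsPGroup p S := (hcardP.1.to_le inf_le_left).comap_subtype
  have hPcent : P ≤ Subgroup.centralizer ({g} : Set G) := by
    rw [hPD]
    exact Subgroup.map_subtype_le _
  have hSc : S ≤ Subgroup.centralizer ({n} : Set N) := by
    intro s hs
    rw [Subgroup.mem_centralizer_singleton_iff]
    have h1 : (s : G) ∈ P := (Subgroup.mem_subgroupOf.mp hs).1
    have h2 := Subgroup.mem_centralizer_singleton_iff.mp (hPcent h1)
    apply Subtype.ext
    exact h2
  obtain ⟨x, hx⟩ := Cfsg.Agent.Lib.Helper78_MinMax.le_conj_of_blockCoeff_not_mem hM hc hn₁ D₁ n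
    (by rw [hcn]; exact hg.2.1) S hSp hSc
  rw [← hQD] at hx
  have hQ' := isDefectGroup_map_conj hM hc hQ₀ x
  -- the cardinality of `S`
  have hQG : IsPGroup p (Q.map N.subtype) := hcardQ.1.map _
  have hQGc : Q.map N.subtype ≤ Subgroup.centralizer ({(n₁ : G)} : Set G) := by
    rintro _ ⟨q, hq, rfl⟩
    have hq' : q ∈ Subgroup.centralizer ({n₁} : Set N) := by
      rw [hQD] at hq
      exact Subgroup.map_subtype_le _ hq
    rw [Subgroup.mem_centralizer_singleton_iff] at hq' ⊢
    exact congrArg Subtype.val hq'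
  have hBn₁ : ¬ MemLocalIdeal M (blockCoeff B (n₁ : G)) := by
    rw [h]
    unfold subgroupBlockCoeff
    rw [dif_pos n₁.2]
    exact hn₁.2.1
  obtain ⟨y, hy⟩ := Cfsg.Agent.Lib.Helper78_MinMax.le_conj_of_blockCoeff_not_mem hM hB hg D
    (n₁ : G) hBn₁ _ hQG hQGc
  rw [← hPD] at hy
  have hle : Q.map N.subtype ≤ (P ⊓ N).map (MulAut.conj y).toMonoidHom := by
    rintro _ ⟨q, hq, rfl⟩
    obtain ⟨z, hz, hzq⟩ := hy ⟨q, hq, rfl⟩
    refine ⟨z, ⟨hz, ?_⟩, hzq⟩
    have hz' : z = y⁻¹ * (q : G) * y := by
      have h1 : y * z * y⁻¹ = (q : G) := hzq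
      rw [← h1]
      group
    rw [SetLike.mem_coe, hz']
    have := hN.conj_mem (q : G) q.2 y⁻¹
    rwa [inv_inv] at this
  have hcard : Nat.card Q ≤ Nat.card S := by
    calc Nat.card Q = Nat.card (Q.map N.subtype) :=
          (Subgroup.card_map_of_injective (Subgroup.subtype_injective N)).symm
      _ ≤ Nat.card ((P ⊓ N).map (MulAut.conj y).toMonoidHom) := Subgroup.card_le_of_le hle
      _ = Nat.card (P ⊓ N : Subgroup G) :=
          Subgroup.card_map_of_injective (MulAut.conj y).injective
      _ = Nat.card S :=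
          (Nat.card_congr (Subgroup.subgroupOfEquivOfLe inf_le_right).toEquiv).symm
  have hSQ : S = Q.map (MulAut.conj x).toMonoidHom :=
    Subgroup.eq_of_le_of_card_ge hx (by
      rw [Subgroup.card_map_of_injective (MulAut.conj x).injective]
      exact hcard)
  refine ⟨by rw [hSQ]; exact hQ', ?_⟩
  -- the index of `N ⊔ P`
  have hd := blockDefect_eq_add_factorization N hM hc hB h
  have hcardS : Nat.card S = p ^ blockDefect p c := by
    rw [hSQ, Subgroup.card_map_of_injective (MulAut.conj x).injective, hcardQ.2]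
  have h1 : N.relIndex (N ⊔ P) * (N ⊔ P).index = N.index :=
    Subgroup.relIndex_mul_index le_sup_left
  rw [Subgroup.relIndex_sup_left] at h1
  have h2 : Nat.card (N.subgroupOf P) * N.relIndex P = Nat.card P :=
    Subgroup.card_mul_index (N.subgroupOf P)
  have h3 : Nat.card (N.subgroupOf P) = Nat.card S := by
    rw [← Subgroup.inf_subgroupOf_left N P]
    exact (Nat.card_congr (Subgroup.subgroupOfEquivOfLe inf_le_left).toEquiv).trans
      (Nat.card_congr (Subgroup.subgroupOfEquivOfLe inf_le_right).toEquiv).symm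
  rw [h3, hcardS, hcardP.2, hd, pow_add] at h2
  have h4 : N.relIndex P = p ^ (N.index).factorization p :=
    Nat.eq_of_mul_eq_mul_left (pow_pos hp.pos _) h2
  rw [h4] at h1
  intro hdvd
  have hidx0 : N.index ≠ 0 := Subgroup.index_ne_zero_of_finite
  have h5 : p ^ ((N.index).factorization p + 1) ∣ N.index := by
    obtain ⟨k, hk⟩ := hdvd
    refine ⟨k, ?_⟩
    rw [pow_succ, mul_assoc, ← hk]
    exact h1.symm
  have h6 := (hp.pow_dvd_iff_le_factorization hidx0).mp h5
  omega

end Cfsg.Agent.Lib.Helper78_FongKnorr
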