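import Mathlib
import Cfsg.Prelude.Def_Blocks
import Cfsg.Prelude.Def_BlockLocal
import Cfsg.Prelude.Def_BrauerPairs
import Cfsg.Agent.Lib.Helper78_FongKnorr
import Cfsg.Agent.Lib.Helper78_TransportBlocks

/-!
# Defect groups when a block idempotent lies in a normal subgroup: subgroup version (helper78)

The statement of `Helper78_FongKnorr` for subgroups `C ≤ T` of an ambient group, `C` normal in `T`,
with the blocks given as sets of characters of the subgroups `C` and `T`.
-/

set_option autoImplicit false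
set_option linter.unusedSectionVars false

namespace Cfsg.Agent.Lib.Helper78_FongKnorrSub

open Cfsg Cfsg.Agent.Lib.Helper78_LocalRing Cfsg.Agent.Lib.Helper78_Transport
  Cfsg.Agent.Lib.Helper78_TransportBlocks Cfsg.Agent.Lib.Helper78_FongKnorr

universe u

variable {G : Type u} [Group G] [Fintype G] {M : Ideal AlgInt} {p : ℕ} [Fact p.Prime]

theorem subgroupBlockCoeff_subgroupOf {C T : Subgroup G} (hCT : C ≤ T)
    (f : Set (IrrCharacter C)) (t : T) :
    subgroupBlockCoeff (C.subgroupOf T) (mapBlock (Subgroup.subgroupOfEquivOfLe hCT) f) t =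
      subgroupBlockCoeff C f (t : G) := by
  classical
  unfold subgroupBlockCoeff
  by_cases ht : (t : G) ∈ C
  · have ht' : t ∈ C.subgroupOf T := Subgroup.mem_subgroupOf.mpr ht
    rw [dif_pos ht, dif_pos ht', blockCoeff_mapBlock]
    rfl
  · have ht' : ¬ t ∈ C.subgroupOf T := fun h => ht (Subgroup.mem_subgroupOf.mp h)
    rw [dif_neg ht, dif_neg ht']

/-- Subgroup version of `defect_groups_of_eq'`. -/
theorem defect_of_eq_sub (hM : IsPModular p M) {C T : Subgroup G} (hCT : C ≤ T)
    (hnorm : (C.subgroupOf T).Normal)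
    {f : Set (IrrCharacter C)} (hf : IsPBlock M f) {F : Set (IrrCharacter T)}
    (hF : IsPBlock M F)
    (hFc : ∀ t : T, blockCoeff F t = subgroupBlockCoeff C f (t : G))
    {D : Subgroup T} (hD : IsDefectGroup p M F D) :
    IsDefectGroup p M f ((D.map T.subtype ⊓ C).subgroupOf C) ∧
      ¬ p ∣ (C.subgroupOf T ⊔ D).index := by
  classical
  have := Fintype.ofFinite T
  have := Fintype.ofFinite (C.subgroupOf T)
  have := Fintype.ofFinite C
  have hc : IsPBlock M (mapBlock (Subgroup.subgroupOfEquivOfLe hCT) f) :=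
    isPBlock_mapBlock _ hf
  have h : ∀ t : T, blockCoeff F t =
      subgroupBlockCoeff (C.subgroupOf T) (mapBlock (Subgroup.subgroupOfEquivOfLe hCT) f) t := by
    intro t
    rw [hFc, subgroupBlockCoeff_subgroupOf]
  obtain ⟨h1, h2⟩ := defect_groups_of_eq' (C.subgroupOf T) hM hc hF h hD
  refine ⟨?_, h2⟩
  have h3 := isDefectGroup_mapBlock (Subgroup.subgroupOfEquivOfLe hCT).symm h1
  rw [mapBlock_symm_mapBlock] at h3
  have h4 : ((D ⊓ C.subgroupOf T).subgroupOf (C.subgroupOf T)).map
      (((Subgroup.subgroupOfEquivOfLe hCT).symm.symm : C.subgroupOf T ≃* C) :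
        C.subgroupOf T →* C) = (D.map T.subtype ⊓ C).subgroupOf C := by
    ext c
    constructor
    · rintro ⟨x, hx, rfl⟩
      rw [SetLike.mem_coe, Subgroup.mem_subgroupOf] at hx
      rw [Subgroup.mem_subgroupOf]
      refine ⟨⟨(x : T), hx.1, rfl⟩, ?_⟩
      exact Subgroup.mem_subgroupOf.mp hx.2
    · intro hc
      rw [Subgroup.mem_subgroupOf] at hc
      obtain ⟨⟨d, hd, hdc⟩, hcC⟩ := hc
      have hdC : d ∈ C.subgroupOf T := by
        rw [Subgroup.mem_subgroupOf]
        have : ((d : T) : G) = (c : G) := hdc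
        rw [this]
        exact c.2
      refine ⟨⟨d, hdC⟩, ?_, ?_⟩
      · rw [SetLike.mem_coe, Subgroup.mem_subgroupOf]
        exact ⟨hd, hdC⟩
      · apply Subtype.ext
        exact hdc
  rw [h4] at h3
  exact h3

end Cfsg.Agent.Lib.Helper78_FongKnorrSub
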