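import Mathlib
import Cfsg.Prelude.Def_Blocks
import Cfsg.Prelude.Def_BlockLocal
import Cfsg.Prelude.Def_BrauerPairs
import Cfsg.Prelude.Def_BlockFusion
import Cfsg.Agent.Lib.Helper78_PairConj
import Cfsg.Agent.Lib.Helper78_PairStab
import Cfsg.Agent.Lib.Helper78_BlockFusion
import Cfsg.Agent.Lib.Helper78_BlockFusionSys
import Cfsg.Agent.Lib.Helper78_FongKnorrSub

/-!
# Fully automized subgroups of the fusion system of a block (helper78, towards S4677)

If `N_P(Q)` is a defect group of the block of the stabilizer `T = N_G(Q, f)` with the idempotent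
of `f`, then `Aut_P(Q)` is a Sylow `p`-subgroup of `Aut_F(Q) = T / C_G(Q)`.
-/

set_option autoImplicit false
set_option linter.unusedSectionVars false

namespace Cfsg.Agent.Lib.Helper78_Automized

open Cfsg Cfsg.Agent.Lib.Helper78_LocalRing
  Cfsg.Agent.Lib.Helper78_Transport
  Cfsg.Agent.Lib.Helper78_TransportBlocks Cfsg.Agent.Lib.Helper78_NilpotentPrincipal
  Cfsg.Agent.Lib.Helper78_PrincipalFusion
  Cfsg.Agent.Lib.Helper78_SubpairBasic Cfsg.Agent.Lib.Helper78_SubpairNormal
  Cfsg.Agent.Lib.Helper78_SubpairTrans Cfsg.Agent.Lib.Helper78_SubpairUnique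
  Cfsg.Agent.Lib.Helper78_FirstMain Cfsg.Agent.Lib.Helper78_MaxPair
  Cfsg.Agent.Lib.Helper78_PairConj Cfsg.Agent.Lib.Helper78_PairStab
  Cfsg.Agent.Lib.Helper78_BlockFusion Cfsg.Agent.Lib.Helper78_BlockFusionSys
  Cfsg.Agent.Lib.Helper78_FongKnorrSub

universe u

variable {G : Type u} [Group G] {M : Ideal AlgInt} {p : ℕ}

/-! ### The conjugation action of the normalizer -/

/-- The action of `N_G(Q)` on `Q` by conjugation. -/
noncomputable def normAut (Q : Subgroup G) : Subgroup.normalizer (Q : Set G) →* MulAut Q where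
  toFun n :=
    { toFun := fun q => ⟨(n : G) * (q : G) * (n : G)⁻¹,
        (Subgroup.mem_set_normalizer_iff.mp n.2 (q : G)).mp q.2⟩
      invFun := fun q => ⟨(n : G)⁻¹ * (q : G) * (n : G), by
        have h1 := (Subgroup.mem_set_normalizer_iff.mp (inv_mem n.2) (q : G)).mp q.2
        rwa [inv_inv] at h1⟩
      left_inv := fun q => by
        apply Subtype.ext
        show (n : G)⁻¹ * ((n : G) * (q : G) * (n : G)⁻¹) * (n : G) = (q : G)
        group
      right_inv := fun q => by
        apply Subtype.ext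
        show (n : G) * ((n : G)⁻¹ * (q : G) * (n : G)) * (n : G)⁻¹ = (q : G)
        group
      map_mul' := fun a b => by
        apply Subtype.ext
        show (n : G) * ((a : G) * (b : G)) * (n : G)⁻¹ =
          (n : G) * (a : G) * (n : G)⁻¹ * ((n : G) * (b : G) * (n : G)⁻¹)
        group }
  map_one' := by
    ext q
    show ((1 : Subgroup.normalizer (Q : Set G)) : G) * (q : G) *
      ((1 : Subgroup.normalizer (Q : Set G)) : G)⁻¹ = (q : G)
    simp
  map_mul' := fun a b => by
    ext q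
    show ((a * b : Subgroup.normalizer (Q : Set G)) : G) * (q : G) *
      ((a * b : Subgroup.normalizer (Q : Set G)) : G)⁻¹ =
      (a : G) * ((b : G) * (q : G) * (b : G)⁻¹) * (a : G)⁻¹
    push_cast
    group

theorem normAut_apply (Q : Subgroup G) (n : Subgroup.normalizer (Q : Set G)) (q : Q) :
    ((normAut Q n q : Q) : G) = (n : G) * (q : G) * (n : G)⁻¹ := rfl

theorem mem_normalizer_of_map_conj_eq {Q : Subgroup G} {g : G}
    (h : Q.map (MulAut.conj g).toMonoidHom = Q) : g ∈ Subgroup.normalizer (Q : Set G) := by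
  rw [Subgroup.mem_set_normalizer_iff]
  intro x
  constructor
  · intro hx
    have : g * x * g⁻¹ ∈ Q.map (MulAut.conj g).toMonoidHom := ⟨x, hx, rfl⟩
    rwa [h] at this
  · intro hx
    have hx' : g * x * g⁻¹ ∈ Q.map (MulAut.conj g).toMonoidHom := by rw [h]; exact hx
    obtain ⟨q, hq, hqx⟩ := hx'
    simp only [MulEquiv.coe_toMonoidHom, MulAut.conj_apply] at hqx
    have : q = x := mul_left_cancel (mul_right_cancel hqx)
    rw [← this]
    exact hq

theorem map_conj_eq_of_mem_normalizer {Q : Subgroup G} {g : G}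
    (hg : g ∈ Subgroup.normalizer (Q : Set G)) : Q.map (MulAut.conj g).toMonoidHom = Q := by
  have h1 := map_conj_inv_eq_of_mem_normalizer (inv_mem hg)
  rwa [inv_inv] at h1

/-- An automorphism of `Q` given by conjugation by `g` forces `g Q g⁻¹ = Q`. -/
theorem map_conj_eq_of_aut {Q : Subgroup G} {g : G} (α : MulAut Q)
    (h : ∀ u : Q, ((α u : Q) : G) = g * (u : G) * g⁻¹) :
    Q.map (MulAut.conj g).toMonoidHom = Q := by
  ext y
  constructor
  · rintro ⟨q, hq, rfl⟩
    simp only [MulEquiv.coe_toMonoidHom, MulAut.conj_apply]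
    rw [← h ⟨q, hq⟩]
    exact (α ⟨q, hq⟩).2
  · intro hy
    refine ⟨((α.symm ⟨y, hy⟩ : Q) : G), (α.symm ⟨y, hy⟩).2, ?_⟩
    simp only [MulEquiv.coe_toMonoidHom, MulAut.conj_apply]
    rw [← h, MulEquiv.apply_symm_apply]

/-! ### Stabilizers through conjugation of pairs -/

theorem conjPair_eq_of_stab (hM : M.IsPrime) {Q : Subgroup G}
    {f : Set (IrrCharacter (Subgroup.centralizer (Q : Set G)))} (hf : IsPBlock M f) {g : G}
    (hgN : g ∈ Subgroup.normalizer (Q : Set G))
    (hst : StabilizesBlock (Subgroup.centralizer (Q : Set G)) f g) :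
    conjPair g (⟨Q, f⟩ : BrauerPairIdx G) = ⟨Q, f⟩ := by
  have hsub := (stabilizesBlock_iff _ f g (normalizer_le Q hgN)).mp hst
  have hf' : IsPBlock M (mapBlock (conjEquiv (Subgroup.centralizer (Q : Set G)) g
      (normalizer_le Q hgN)) f) := isPBlock_mapBlock _ hf
  obtain ⟨θ, hθ⟩ := isPBlock_nonempty hM hf'
  have heq : mapBlock (conjEquiv (Subgroup.centralizer (Q : Set G)) g
      (normalizer_le Q hgN)) f = f :=
    isPBlock_eq_of_mem_of_mem hM hf' hf hθ (hsub hθ)
  have h1 := conjPair_inv_mapBlock ⟨g, hgN⟩ f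
  simp only at h1
  rw [heq] at h1
  have h2 := conjPair_conjPair_inv g (⟨Q, f⟩ : BrauerPairIdx G)
  rw [h1] at h2
  exact h2

theorem stab_of_conjPair_eq {Q : Subgroup G}
    {f : Set (IrrCharacter (Subgroup.centralizer (Q : Set G)))} {g : G}
    (hgN : g ∈ Subgroup.normalizer (Q : Set G))
    (h : conjPair g (⟨Q, f⟩ : BrauerPairIdx G) = ⟨Q, f⟩) :
    StabilizesBlock (Subgroup.centralizer (Q : Set G)) f g := by
  have h1 : conjPair g⁻¹ (⟨Q, f⟩ : BrauerPairIdx G) = ⟨Q, f⟩ := by
    have := conjPair_inv_conjPair g (⟨Q, f⟩ : BrauerPairIdx G)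
    rwa [h] at this
  have h2 := conjPair_inv_mapBlock ⟨g, hgN⟩ f
  simp only at h2
  have h3 : (⟨Q, mapBlock (conjEquiv (Subgroup.centralizer (Q : Set G)) g
      (normalizer_le Q hgN)) f⟩ : BrauerPairIdx G) = ⟨Q, f⟩ := by
    have h4 := congrArg (conjPair g) (h2.trans h1.symm)
    rwa [conjPair_conjPair_inv, conjPair_conjPair_inv] at h4
  have h5 : mapBlock (conjEquiv (Subgroup.centralizer (Q : Set G)) g
      (normalizer_le Q hgN)) f = f := eq_of_heq (Sigma.mk.inj h3).2
  rw [stabilizesBlock_iff _ f g (normalizer_le Q hgN), h5]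

section Main

variable [Fintype G] [Fact p.Prime]

/-- The generators of `Aut_F(Q)`. -/
theorem mem_autGen_iff (hM : IsPModular p M) {B : Set (IrrCharacter G)} {P : Subgroup G}
    {e : Set (IrrCharacter (Subgroup.centralizer (P : Set G)))} {F : FusionSystem P}
    (hF : IsBlockFusionSystemOn p M B P e F) {Q : Subgroup G}
    {f : Set (IrrCharacter (Subgroup.centralizer (Q : Set G)))} (hQP : Q ≤ P)
    (hf : IsPBlock M f) (hle : SubpairLE p M Q f P e) (T : Subgroup G)
    (hT : ∀ y : G, y ∈ T ↔ y ∈ Subgroup.normalizer (Q : Set G) ∧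
      StabilizesBlock (Subgroup.centralizer (Q : Set G)) f y) (α : MulAut Q) :
    Q.subtype.comp α.toMonoidHom ∈ F.Hom Q ↔
      ∃ t ∈ T, ∀ u : Q, ((α u : Q) : G) = t * (u : G) * t⁻¹ := by
  have hMp := isPrime_of_isPModular hM
  constructor
  · intro hα
    obtain ⟨-, g, hg, -, f₀, hf₀, hf₀g⟩ := (hF.2 Q _).mp hα
    have hff : f₀ = f := subpairLE_unique hM P e Q f₀ f hf₀ hle
    rw [hff] at hf₀g
    have hg' : ∀ u : Q, ((α u : Q) : G) = g * (u : G) * g⁻¹ := fun u => hg u
    have hmap := map_conj_eq_of_aut α hg'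
    have hgN := mem_normalizer_of_map_conj_eq hmap
    have heq : conjPair g (⟨Q, f⟩ : BrauerPairIdx G) = ⟨Q, f⟩ :=
      pair_unique hM hf₀g hle hmap
    exact ⟨g, (hT g).mpr ⟨hgN, stab_of_conjPair_eq hgN heq⟩, hg'⟩
  · rintro ⟨t, ht, hα⟩
    obtain ⟨htN, hst⟩ := (hT t).mp ht
    rw [hF.2]
    have hmap := map_conj_eq_of_mem_normalizer htN
    refine ⟨hQP, t, fun u => hα u, by rw [hmap]; exact hQP, f, hle, ?_⟩
    show Relation.ReflTransGen (NormalSubpairRel p M) (conjPair t (⟨Q, f⟩ : BrauerPairIdx G))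
      ⟨P, e⟩
    rw [conjPair_eq_of_stab hMp hf htN hst]
    exact hle

/-- **Fully automized**: if `N_P(Q)` is a defect group of the block of the stabilizer with the
idempotent of `f`, then `Q` is fully automized in the fusion system of the block. -/
theorem isFullyAutomized_of_defect (hM : IsPModular p M) {B : Set (IrrCharacter G)}
    {P : Subgroup G} {e : Set (IrrCharacter (Subgroup.centralizer (P : Set G)))}
    {F : FusionSystem P} (hF : IsBlockFusionSystemOn p M B P e F) {Q : Subgroup G}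
    {f : Set (IrrCharacter (Subgroup.centralizer (Q : Set G)))} (hQP : Q ≤ P)
    (hf : IsPBlock M f) (hle : SubpairLE p M Q f P e) (T : Subgroup G)
    (hT : ∀ y : G, y ∈ T ↔ y ∈ Subgroup.normalizer (Q : Set G) ∧
      StabilizesBlock (Subgroup.centralizer (Q : Set G)) f y)
    {F' : Set (IrrCharacter T)} (hF' : IsPBlock M F')
    (hF'c : ∀ t : T, blockCoeff F' t =
      subgroupBlockCoeff (Subgroup.centralizer (Q : Set G)) f (t : G))
    (hD : IsDefectGroup p M F' ((P ⊓ Subgroup.normalizer (Q : Set G)).subgroupOf T)) :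
    F.IsFullyAutomized p Q := by
  classical
  have hPe := hF.1.1.1
  have hTN : T ≤ Subgroup.normalizer (Q : Set G) := fun y hy => ((hT y).mp hy).1
  have hCT := centralizer_le_stab hT
  obtain ⟨hDT, -⟩ := pair_of_normalizer hM hPe hQP hf hle T hT hF' hF'c
  -- the action of `T` on `Q`
  set κ : T →* MulAut Q := (normAut Q).comp (Subgroup.inclusion hTN) with hκ
  have hκ_apply : ∀ (t : T) (u : Q), ((κ t u : Q) : G) = (t : G) * (u : G) * (t : G)⁻¹ :=
    fun t u => rfl
  have hker : κ.ker = (Subgroup.centralizer (Q : Set G)).subgroupOf T := by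
    ext t
    rw [MonoidHom.mem_ker, Subgroup.mem_subgroupOf, Subgroup.mem_centralizer_iff]
    constructor
    · intro h q hq
      have h1 := hκ_apply t ⟨q, hq⟩
      rw [h] at h1
      have h2 : q = (t : G) * q * (t : G)⁻¹ := h1
      calc q * (t : G) = (t : G) * q * (t : G)⁻¹ * (t : G) := by rw [← h2]
        _ = (t : G) * q := by group
    · intro h
      ext u
      rw [hκ_apply]
      have h1 := h (u : G) u.2
      show (t : G) * (u : G) * (t : G)⁻¹ = (u : G)
      rw [← h1]
      group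
  have hnorm : ((Subgroup.centralizer (Q : Set G)).subgroupOf T).Normal := by
    rw [← hker]
    exact MonoidHom.normal_ker κ
  -- the two automorphism groups
  have hautF : F.autGroup Q = κ.range := by
    unfold FusionSystem.autGroup
    have hset : {α : MulAut Q | Q.subtype.comp α.toMonoidHom ∈ F.Hom Q} =
        (κ.range : Set (MulAut Q)) := by
      ext α
      rw [Set.mem_setOf_eq, mem_autGen_iff hM hF hQP hf hle T hT]
      constructor
      · rintro ⟨t, ht, hα⟩
        refine ⟨⟨t, ht⟩, ?_⟩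
        ext u
        rw [hκ_apply, hα]
      · rintro ⟨t, rfl⟩
        exact ⟨(t : G), t.2, fun u => hκ_apply t u⟩
    rw [hset, Subgroup.closure_eq]
  have hautP : autInducedBy P Q =
      ((P ⊓ Subgroup.normalizer (Q : Set G)).subgroupOf T).map κ := by
    unfold autInducedBy
    have hset : {α : MulAut Q | ∃ g ∈ P, ∀ x : Q, ((α x : Q) : G) = g * (x : G) * g⁻¹} =
        ((((P ⊓ Subgroup.normalizer (Q : Set G)).subgroupOf T).map κ : Subgroup (MulAut Q)) :
          Set (MulAut Q)) := by
      ext α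
      constructor
      · rintro ⟨g, hgP, hα⟩
        have hgN := mem_normalizer_of_map_conj_eq (map_conj_eq_of_aut α hα)
        have hgD : g ∈ P ⊓ Subgroup.normalizer (Q : Set G) := ⟨hgP, hgN⟩
        refine ⟨⟨g, hDT hgD⟩, ?_, ?_⟩
        · rw [SetLike.mem_coe, Subgroup.mem_subgroupOf]
          exact hgD
        · ext u
          rw [hκ_apply, hα]
      · rintro ⟨t, ht, rfl⟩
        rw [SetLike.mem_coe, Subgroup.mem_subgroupOf] at ht
        exact ⟨(t : G), ht.1, fun u => hκ_apply t u⟩
    rw [hset, Subgroup.closure_eq]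
  refine ⟨hQP, ?_⟩
  have hDp : IsPGroup p ((P ⊓ Subgroup.normalizer (Q : Set G)).subgroupOf T) :=
    (hPe.1.to_le inf_le_left).comap_subtype
  have hp1 : IsPGroup p ((autInducedBy P Q).subgroupOf (F.autGroup Q)) := by
    rw [hautP]
    exact (hDp.map κ).comap_subtype
  have hp2 : ¬ p ∣ ((autInducedBy P Q).subgroupOf (F.autGroup Q)).index := by
    have h1 : ((autInducedBy P Q).subgroupOf (F.autGroup Q)).index =
        (autInducedBy P Q).relIndex (F.autGroup Q) := rfl
    rw [h1, hautP, hautF, ← Subgroup.index_comap, Subgroup.comap_map_eq, hker, sup_comm]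
    exact (defect_of_eq_sub hM hCT hnorm hf hF' hF'c hD).2
  exact ⟨hp1.toSylow hp2, rfl⟩

end Main

end Cfsg.Agent.Lib.Helper78_Automized
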