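import Mathlib
import Cfsg.Prelude.Def_Blocks
import Cfsg.Prelude.Def_BlockLocal
import Cfsg.Prelude.Def_BrauerPairs
import Cfsg.Agent.Lib.Helper77_StableCover
import Cfsg.Agent.Lib.Helper78_PairConj
import Cfsg.Agent.Lib.Helper78_PairStab
import Cfsg.Agent.Lib.Helper78_BlockFusionSys
import Cfsg.Agent.Lib.Helper78_FongKnorrSub

/-!
# The block of `N_P(Q) C_G(Q)` with the idempotent of a stable block of `C_G(Q)` (helper78)

Auxiliary results towards the extension axiom for the fusion system of a block.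
-/

set_option autoImplicit false
set_option linter.unusedSectionVars false

namespace Cfsg.Agent.Lib.Helper78_LocalBlockX

open Cfsg Cfsg.Agent.Lib.Helper78_LocalRing
  Cfsg.Agent.Lib.Helper78_Transport
  Cfsg.Agent.Lib.Helper78_TransportBlocks Cfsg.Agent.Lib.Helper78_NilpotentPrincipal
  Cfsg.Agent.Lib.Helper78_PrincipalFusion
  Cfsg.Agent.Lib.Helper78_SubpairBasic Cfsg.Agent.Lib.Helper78_SubpairNormal
  Cfsg.Agent.Lib.Helper78_SubpairTrans Cfsg.Agent.Lib.Helper78_SubpairUnique
  Cfsg.Agent.Lib.Helper78_FirstMain Cfsg.Agent.Lib.Helper78_MaxPair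
  Cfsg.Agent.Lib.Helper78_PairConj Cfsg.Agent.Lib.Helper78_PairStab
  Cfsg.Agent.Lib.Helper78_BlockFusionSys Cfsg.Agent.Lib.Helper78_FongKnorrSub

universe u

variable {G : Type u} [Group G] {M : Ideal AlgInt} {p : ℕ}

theorem exists_pair_eq {A A' : Subgroup G} (h : A' = A)
    (a : Set (IrrCharacter (Subgroup.centralizer (A : Set G)))) :
    ∃ a' : Set (IrrCharacter (Subgroup.centralizer (A' : Set G))),
      (⟨A, a⟩ : BrauerPairIdx G) = ⟨A', a'⟩ := by
  subst h
  exact ⟨a, rfl⟩

/-- Decomposition of the elements of `D ⊔ C` when `D` normalizes `C`. -/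
theorem exists_mul_of_mem_sup {D C : Subgroup G}
    (hDC : D ≤ Subgroup.normalizer (C : Set G)) {x : G} (hx : x ∈ D ⊔ C) :
    ∃ d ∈ D, ∃ c ∈ C, x = d * c := by
  have h1 : x ∈ ((D ⊔ C : Subgroup G) : Set G) := hx
  rw [Subgroup.coe_mul_of_left_le_normalizer_right D C hDC] at h1
  obtain ⟨d, hd, c, hc, rfl⟩ := h1
  exact ⟨d, hd, c, hc, rfl⟩

theorem normal_subgroupOf_sup {D C : Subgroup G}
    (hDC : D ≤ Subgroup.normalizer (C : Set G)) : (C.subgroupOf (D ⊔ C)).Normal := by
  rw [Subgroup.normal_subgroupOf_iff_le_normalizer le_sup_right]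
  exact sup_le hDC Subgroup.le_normalizer

/-- The index of `C` in `D C` is a power of `p`, for a `p`-group `D` normalizing `C`. -/
theorem index_sup_ppower [Finite G] [Fact p.Prime] {D C : Subgroup G} (hD : IsPGroup p D)
    (hDC : D ≤ Subgroup.normalizer (C : Set G)) :
    ∃ k : ℕ, (C.subgroupOf (D ⊔ C)).index = p ^ k := by
  have hnorm := normal_subgroupOf_sup hDC
  have hquot : IsPGroup p ((D ⊔ C : Subgroup G) ⧸ C.subgroupOf (D ⊔ C)) := by
    intro y
    obtain ⟨x, rfl⟩ := QuotientGroup.mk_surjective y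
    obtain ⟨d, hd, c, hc, hx⟩ := exists_mul_of_mem_sup hDC x.2
    obtain ⟨k, hk⟩ := hD ⟨d, hd⟩
    refine ⟨k, ?_⟩
    have hdX : d ∈ D ⊔ C := (le_sup_left : D ≤ D ⊔ C) hd
    have h1 : (QuotientGroup.mk x : (D ⊔ C : Subgroup G) ⧸ C.subgroupOf (D ⊔ C)) =
        QuotientGroup.mk (⟨d, hdX⟩ : (D ⊔ C : Subgroup G)) := by
      rw [QuotientGroup.eq, Subgroup.mem_subgroupOf]
      have : ((x⁻¹ * ⟨d, hdX⟩ : (D ⊔ C : Subgroup G)) : G) = c⁻¹ := by
        push_cast
        rw [hx]
        group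
      rw [this]
      exact C.inv_mem hc
    rw [h1, ← QuotientGroup.mk_pow]
    have h2 : (⟨d, hdX⟩ : (D ⊔ C : Subgroup G)) ^ p ^ k = 1 := by
      apply Subtype.ext
      have := congrArg Subtype.val hk
      simpa using this
    rw [h2]
    rfl
  obtain ⟨k, hk⟩ := hquot.exists_card_eq
  exact ⟨k, by rw [Subgroup.index_eq_card, hk]⟩

section Block

variable [Fintype G] [Fact p.Prime]

/-- A stable block of a normal subgroup of `p`-power index of `X` gives a block of `X` with the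
same idempotent (subgroup version of helper77's theorem). -/
theorem exists_block_of_ppower (hM : IsPModular p M) {C X : Subgroup G} (hCX : C ≤ X)
    (hnorm : (C.subgroupOf X).Normal) {k : ℕ} (hidx : (C.subgroupOf X).index = p ^ k)
    {f : Set (IrrCharacter C)} (hf : IsPBlock M f)
    (hst : ∀ x ∈ X, StabilizesBlock C f x) :
    ∃ FX : Set (IrrCharacter X), IsPBlock M FX ∧
      ∀ x : X, blockCoeff FX x = subgroupBlockCoeff C f (x : G) := by
  classical
  have := Fintype.ofFinite X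
  have := Fintype.ofFinite (C.subgroupOf X)
  have hc : IsPBlock M (mapBlock (Subgroup.subgroupOfEquivOfLe hCX) f) :=
    isPBlock_mapBlock _ hf
  have hst' : ∀ x : X, StabilizesBlock (C.subgroupOf X)
      (mapBlock (Subgroup.subgroupOfEquivOfLe hCX) f) x := by
    intro x
    refine ⟨?_, ?_⟩
    · have h1 := Subgroup.normalizer_eq_top_iff.mpr hnorm
      rw [h1]
      exact Subgroup.mem_top x
    · rintro _ ⟨ξ, hξ, rfl⟩
      obtain ⟨ξ', hξ', hconj⟩ := (hst (x : G) x.2).2 ξ hξ
      refine ⟨irrComp (Subgroup.subgroupOfEquivOfLe hCX) ξ', irrComp_mem_mapBlock _ hξ', ?_⟩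
      intro k k' hkk'
      rw [irrComp_apply, irrComp_apply]
      apply hconj
      have := congrArg Subtype.val hkk'
      exact this
  obtain ⟨FX, hFX, hFXc⟩ := Cfsg.Agent.Lib.Helper77_StableCover.exists_block_eq
    (G := X) (C.subgroupOf X) hM hidx hc hst'
  refine ⟨FX, hFX, fun x => ?_⟩
  rw [hFXc, subgroupBlockCoeff_subgroupOf]

/-- An inclusion `(Q, f) ≤ (R, g)` with `R ≤ N_G(Q)` is a normal inclusion. -/
theorem normal_of_chain (hM : IsPModular p M) {Q R : Subgroup G}
    {f : Set (IrrCharacter (Subgroup.centralizer (Q : Set G)))}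
    {g : Set (IrrCharacter (Subgroup.centralizer (R : Set G)))}
    (hR : IsBrauerPair p M R g)
    (h : Relation.ReflTransGen (NormalSubpairRel p M) (⟨Q, f⟩ : BrauerPairIdx G) ⟨R, g⟩)
    (hRN : R ≤ Subgroup.normalizer (Q : Set G)) : IsNormalSubpair p M Q f R g := by
  have hQR : Q ≤ R := le_of_chain h
  obtain ⟨f₁, hf₁, -⟩ := existsUnique_isNormalSubpair hM R Q g hR hQR hRN
  have hff : f₁ = f := subpairLE_unique hM R g Q f₁ f (Relation.ReflTransGen.single hf₁) h
  rw [← hff]
  exact hf₁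

end Block

end Cfsg.Agent.Lib.Helper78_LocalBlockX
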