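import Mathlib
import Cfsg.Prelude.Def_Blocks
import Cfsg.Prelude.Def_BlockLocal
import Cfsg.Prelude.Def_BrauerPairs
import Cfsg.Agent.Lib.Helper78_PairConj
import Cfsg.Agent.Lib.Helper78_PairStab
import Cfsg.Agent.Lib.Helper78_BlockFusionSys

/-!
# Transport of inclusions of Brauer pairs from a subgroup `X ⊇ C_G(Q)` to `G` (helper78)

For a subgroup `X` of `G` containing `C_G(Q)`, a Brauer pair `(A, a)` of the group `X` with
`Q ≤ A` gives a Brauer pair of `G` on the same subgroup, through `C_X(A) ≃* C_G(A)`.  Normal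
inclusions, inclusions and conjugation are compatible with this correspondence.
-/

set_option autoImplicit false
set_option linter.unusedSectionVars false

namespace Cfsg.Agent.Lib.Helper78_PairTransport

open Cfsg Cfsg.Agent.Lib.Helper78_LocalRing
  Cfsg.Agent.Lib.Helper78_Transport
  Cfsg.Agent.Lib.Helper78_TransportBlocks Cfsg.Agent.Lib.Helper78_NilpotentPrincipal
  Cfsg.Agent.Lib.Helper78_PrincipalFusion
  Cfsg.Agent.Lib.Helper78_SubpairBasic Cfsg.Agent.Lib.Helper78_SubpairNormal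
  Cfsg.Agent.Lib.Helper78_SubpairTrans Cfsg.Agent.Lib.Helper78_SubpairUnique
  Cfsg.Agent.Lib.Helper78_FirstMain Cfsg.Agent.Lib.Helper78_MaxPair
  Cfsg.Agent.Lib.Helper78_PairConj Cfsg.Agent.Lib.Helper78_PairStab
  Cfsg.Agent.Lib.Helper78_BlockFusionSys

universe u

variable {G : Type u} [Group G] {M : Ideal AlgInt} {p : ℕ}

variable {Q X : Subgroup G}

/-- The pair of `G` attached to a pair of `X` whose subgroup contains `Q`. -/
noncomputable def toG (hCX : Subgroup.centralizer (Q : Set G) ≤ X) (a : BrauerPairIdx X)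
    (h : Q ≤ a.1.map X.subtype) : BrauerPairIdx G :=
  ⟨a.1.map X.subtype, mapBlock (centIsoT hCX a.1 h).symm a.2⟩

theorem toG_fst (hCX : Subgroup.centralizer (Q : Set G) ≤ X) (a : BrauerPairIdx X)
    (h : Q ≤ a.1.map X.subtype) : (toG hCX a h).1 = a.1.map X.subtype := rfl

/-- The pair of `X` attached to a pair of `G` on the image of a subgroup of `X`. -/
noncomputable def fromG (hCX : Subgroup.centralizer (Q : Set G) ≤ X) (A : Subgroup X)
    (h : Q ≤ A.map X.subtype)
    (a : Set (IrrCharacter (Subgroup.centralizer ((A.map X.subtype : Subgroup G) : Set G)))) :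
    BrauerPairIdx X :=
  ⟨A, mapBlock (centIsoT hCX A h) a⟩

theorem toG_fromG (hCX : Subgroup.centralizer (Q : Set G) ≤ X) (A : Subgroup X)
    (h : Q ≤ A.map X.subtype)
    (a : Set (IrrCharacter (Subgroup.centralizer ((A.map X.subtype : Subgroup G) : Set G)))) :
    toG hCX (fromG hCX A h a) h = ⟨A.map X.subtype, a⟩ := by
  unfold toG fromG
  simp only
  rw [mapBlock_symm_mapBlock]

theorem mem_centralizer_map_iff (A : Subgroup X) (x : X) :
    (x : G) ∈ Subgroup.centralizer ((A.map X.subtype : Subgroup G) : Set G) ↔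
      x ∈ Subgroup.centralizer (A : Set X) := by
  rw [Subgroup.mem_centralizer_iff, Subgroup.mem_centralizer_iff]
  constructor
  · intro h a ha
    apply Subtype.ext
    exact h (a : G) ⟨a, ha, rfl⟩
  · rintro h _ ⟨a, ha, rfl⟩
    exact congrArg Subtype.val (h a ha)

theorem subgroupBlockCoeff_toG (hCX : Subgroup.centralizer (Q : Set G) ≤ X) (A : Subgroup X)
    (h : Q ≤ A.map X.subtype) (a : Set (IrrCharacter (Subgroup.centralizer (A : Set X))))
    (x : X) :
    subgroupBlockCoeff (Subgroup.centralizer ((A.map X.subtype : Subgroup G) : Set G))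
      (mapBlock (centIsoT hCX A h).symm a) (x : G) =
      subgroupBlockCoeff (Subgroup.centralizer (A : Set X)) a x := by
  classical
  unfold subgroupBlockCoeff
  by_cases hx : x ∈ Subgroup.centralizer (A : Set X)
  · have hx' := (mem_centralizer_map_iff A x).mpr hx
    rw [dif_pos hx, dif_pos hx', blockCoeff_mapBlock]
    rfl
  · have hx' : ¬ (x : G) ∈ Subgroup.centralizer ((A.map X.subtype : Subgroup G) : Set G) :=
      fun h' => hx ((mem_centralizer_map_iff A x).mp h')
    rw [dif_neg hx, dif_neg hx']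

theorem brauerOmega_toG (hCX : Subgroup.centralizer (Q : Set G) ≤ X) (A : Subgroup X)
    (h : Q ≤ A.map X.subtype) (β : G → ℂ) (β' : X → ℂ) (hβ : ∀ x : X, β (x : G) = β' x)
    (ζ : Subgroup.centralizer (A : Set X) → ℂ) :
    brauerOmega (A.map X.subtype) β (ζ ∘ (centIsoT hCX A h).symm) = brauerOmega A β' ζ := by
  unfold brauerOmega
  rw [← finsum_comp_equiv (centIsoT hCX A h).toEquiv]
  refine finsum_congr fun c => ?_
  simp only [Function.comp_apply, MulEquiv.toEquiv_eq_coe, MulEquiv.coe_toEquiv, map_one,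
    MulEquiv.symm_apply_apply]
  congr 2
  rw [centIsoT_apply, hβ]

/-- Normal inclusions of pairs of `X` give normal inclusions of pairs of `G`. -/
theorem isNormalSubpair_toG (hCX : Subgroup.centralizer (Q : Set G) ≤ X)
    {A₁ A₂ : Subgroup X} {a₁ : Set (IrrCharacter (Subgroup.centralizer (A₁ : Set X)))}
    {a₂ : Set (IrrCharacter (Subgroup.centralizer (A₂ : Set X)))}
    (h12 : IsNormalSubpair p M A₁ a₁ A₂ a₂) (h₁ : Q ≤ A₁.map X.subtype)
    (h₂ : Q ≤ A₂.map X.subtype) :
    IsNormalSubpair p M (A₁.map X.subtype) (mapBlock (centIsoT hCX A₁ h₁).symm a₁)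
      (A₂.map X.subtype) (mapBlock (centIsoT hCX A₂ h₂).symm a₂) := by
  obtain ⟨hp1, hp2, hle, hnorm, hstab, hlam⟩ := h12
  have hN : A₂.map X.subtype ≤
      Subgroup.normalizer ((A₁.map X.subtype : Subgroup G) : Set G) :=
    (Subgroup.map_mono hnorm).trans (Subgroup.le_normalizer_map X.subtype)
  refine ⟨⟨hp1.1.map _, isPBlock_mapBlock _ hp1.2⟩, ⟨hp2.1.map _, isPBlock_mapBlock _ hp2.2⟩,
    Subgroup.map_mono hle, hN, ?_, ?_⟩
  · rintro _ ⟨x, hx, rfl⟩
    obtain ⟨-, hst⟩ := hstab x hx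
    refine ⟨normalizer_le _ (hN ⟨x, hx, rfl⟩), ?_⟩
    rintro _ ⟨ξ, hξ, rfl⟩
    obtain ⟨ξ', hξ', hconj⟩ := hst ξ hξ
    refine ⟨irrComp (centIsoT hCX A₁ h₁).symm ξ', irrComp_mem_mapBlock _ hξ', ?_⟩
    intro k k' hkk'
    rw [irrComp_apply, irrComp_apply]
    apply hconj
    apply Subtype.ext
    exact hkk'
  · rintro _ ⟨ζ, hζ, rfl⟩
    have h1 : (irrComp (centIsoT hCX A₂ h₂).symm ζ :
        Subgroup.centralizer ((A₂.map X.subtype : Subgroup G) : Set G) → ℂ) =
        (ζ : Subgroup.centralizer (A₂ : Set X) → ℂ) ∘ (centIsoT hCX A₂ h₂).symm := rfl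
    rw [h1, brauerOmega_toG hCX A₂ h₂ _ _ (subgroupBlockCoeff_toG hCX A₁ h₁ a₁)]
    exact hlam ζ hζ

/-- Inclusions of pairs of `X` give inclusions of pairs of `G`. -/
theorem chain_toG (hCX : Subgroup.centralizer (Q : Set G) ≤ X) {a b : BrauerPairIdx X}
    (h : Relation.ReflTransGen (NormalSubpairRel p M) a b) (ha : Q ≤ a.1.map X.subtype)
    (hb : Q ≤ b.1.map X.subtype) :
    Relation.ReflTransGen (NormalSubpairRel p M) (toG hCX a ha) (toG hCX b hb) := by
  revert ha
  induction h using Relation.ReflTransGen.head_induction_on with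
  | refl => intro ha; exact Relation.ReflTransGen.refl
  | head hac hcb ih =>
    rename_i a c
    intro ha
    have hc : Q ≤ c.1.map X.subtype := ha.trans (Subgroup.map_mono hac.2.2.1)
    exact Relation.ReflTransGen.head
      (show NormalSubpairRel p M (toG hCX a ha) (toG hCX c hc) from
        isNormalSubpair_toG hCX hac ha hc) (ih hc)

theorem map_conj_map_subtype (A : Subgroup X) (x : X) :
    (A.map (MulAut.conj x).toMonoidHom).map X.subtype =
      (A.map X.subtype).map (MulAut.conj (x : G)).toMonoidHom := by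
  ext y
  constructor
  · rintro ⟨_, ⟨a, ha, rfl⟩, rfl⟩
    exact ⟨(a : G), ⟨a, ha, rfl⟩, by simp⟩
  · rintro ⟨_, ⟨a, ha, rfl⟩, rfl⟩
    exact ⟨x * a * x⁻¹, ⟨a, ha, by simp⟩, by simp⟩

/-- The correspondence commutes with conjugation by elements of `X`. -/
theorem toG_conjPair (hCX : Subgroup.centralizer (Q : Set G) ≤ X) (x : X) (a : BrauerPairIdx X)
    (h : Q ≤ a.1.map X.subtype) (h' : Q ≤ (conjPair x a).1.map X.subtype) :
    toG hCX (conjPair x a) h' = conjPair (x : G) (toG hCX a h) := by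
  obtain ⟨A, a⟩ := a
  unfold toG conjPair
  simp only
  refine pair_ext (map_conj_map_subtype A x) ?_ ?_
  · rintro _ ⟨ξ', hξ', rfl⟩
    rw [conjBlock_eq_mapBlock] at hξ'
    obtain ⟨ξ, hξ, rfl⟩ := hξ'
    refine ⟨irrComp (centConjEquiv (A.map X.subtype) (x : G))
      (irrComp (centIsoT hCX A h).symm ξ), ?_, ?_⟩
    · rw [conjBlock_eq_mapBlock]
      exact irrComp_mem_mapBlock _ (irrComp_mem_mapBlock _ hξ)
    · intro c₁ c₂ hc
      rw [irrComp_apply, irrComp_apply, irrComp_apply, irrComp_apply]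
      refine congrArg _ (Subtype.ext (Subtype.ext ?_))
      show ((x : G))⁻¹ * (c₁ : G) * (x : G) = ((x : G))⁻¹ * (c₂ : G) * (x : G)
      rw [hc]
  · intro ξ₂ hξ₂
    rw [conjBlock_eq_mapBlock] at hξ₂
    obtain ⟨ξ', ⟨ξ, hξ, rfl⟩, rfl⟩ := hξ₂
    refine ⟨irrComp (centIsoT hCX (A.map (MulAut.conj x).toMonoidHom) h').symm
      (irrComp (centConjEquiv A x) ξ), ?_, ?_⟩
    · refine irrComp_mem_mapBlock _ ?_
      rw [conjBlock_eq_mapBlock]
      exact irrComp_mem_mapBlock _ hξ
    · intro c₁ c₂ hc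
      rw [irrComp_apply, irrComp_apply, irrComp_apply, irrComp_apply]
      refine congrArg _ (Subtype.ext (Subtype.ext ?_))
      show ((x : G))⁻¹ * (c₁ : G) * (x : G) = ((x : G))⁻¹ * (c₂ : G) * (x : G)
      rw [hc]

end Cfsg.Agent.Lib.Helper78_PairTransport
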