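import Mathlib
import Cfsg.Prelude.Def_Blocks
import Cfsg.Prelude.Def_BlockLocal
import Cfsg.Prelude.Def_BrauerPairs
import Cfsg.Prelude.Def_BlockFusion
import Cfsg.Agent.Lib.Helper78_PairConj
import Cfsg.Agent.Lib.Helper78_PairStab
import Cfsg.Agent.Lib.Helper78_BlockFusion
import Cfsg.Agent.Lib.Helper78_BlockFusionSys
import Cfsg.Agent.Lib.Helper78_Automized
import Cfsg.Agent.Lib.Helper78_PairTransport
import Cfsg.Agent.Lib.Helper78_LocalBlockX

/-!
# Receptive subgroups of the fusion system of a block (helper78, towards S4677)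

If `N_P(Q)` is a defect group of the block of the stabilizer `T = N_G(Q, f)` with the idempotent
of `f`, then `Q` is receptive in the fusion system of the block; hence the fusion system of a
block is saturated.
-/

set_option autoImplicit false
set_option linter.unusedSectionVars false

namespace Cfsg.Agent.Lib.Helper78_Receptive

open Cfsg Cfsg.Agent.Lib.Helper78_LocalRing
  Cfsg.Agent.Lib.Helper78_Transport
  Cfsg.Agent.Lib.Helper78_TransportBlocks Cfsg.Agent.Lib.Helper78_NilpotentPrincipal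
  Cfsg.Agent.Lib.Helper78_PrincipalFusion
  Cfsg.Agent.Lib.Helper78_BrauerCorr
  Cfsg.Agent.Lib.Helper78_SubpairBasic Cfsg.Agent.Lib.Helper78_SubpairNormal
  Cfsg.Agent.Lib.Helper78_SubpairTrans Cfsg.Agent.Lib.Helper78_SubpairUnique
  Cfsg.Agent.Lib.Helper78_FirstMainGT
  Cfsg.Agent.Lib.Helper78_FirstMain Cfsg.Agent.Lib.Helper78_MaxPair
  Cfsg.Agent.Lib.Helper78_PairConj Cfsg.Agent.Lib.Helper78_PairStab
  Cfsg.Agent.Lib.Helper78_BlockFusion Cfsg.Agent.Lib.Helper78_BlockFusionSys
  Cfsg.Agent.Lib.Helper78_Automized Cfsg.Agent.Lib.Helper78_PairTransport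
  Cfsg.Agent.Lib.Helper78_LocalBlockX

universe u

variable {G : Type u} [Group G] {M : Ideal AlgInt} {p : ℕ}

section Main

variable [Fintype G] [Fact p.Prime]

/-- The key step, for a subgroup `X` between `C_G(Q)` and the stabilizer `T` all of whose
elements are products of an element of `N_P(Q)` and an element of `C_G(Q)`. -/
theorem exists_centralizer_conj_aux (hM : IsPModular p M) {P Q : Subgroup G}
    {e : Set (IrrCharacter (Subgroup.centralizer (P : Set G)))}
    {f : Set (IrrCharacter (Subgroup.centralizer (Q : Set G)))}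
    (hPe : IsBrauerPair p M P e) (hQP : Q ≤ P) (hf : IsPBlock M f)
    (hle : SubpairLE p M Q f P e) (T : Subgroup G)
    (hT : ∀ y : G, y ∈ T ↔ y ∈ Subgroup.normalizer (Q : Set G) ∧
      StabilizesBlock (Subgroup.centralizer (Q : Set G)) f y)
    {F' : Set (IrrCharacter T)} (hF' : IsPBlock M F')
    (hF'c : ∀ t : T, blockCoeff F' t =
      subgroupBlockCoeff (Subgroup.centralizer (Q : Set G)) f (t : G))
    (hD : IsDefectGroup p M F' ((P ⊓ Subgroup.normalizer (Q : Set G)).subgroupOf T))
    (X : Subgroup G) (hCX : Subgroup.centralizer (Q : Set G) ≤ X)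
    (hDX : P ⊓ Subgroup.normalizer (Q : Set G) ≤ X) (hXT : X ≤ T)
    (hdec : ∀ x ∈ X, ∃ d ∈ P ⊓ Subgroup.normalizer (Q : Set G),
      ∃ c ∈ Subgroup.centralizer (Q : Set G), x = d * c)
    {FX : Set (IrrCharacter X)} (hFX : IsPBlock M FX)
    (hFXc : ∀ x : X, blockCoeff FX x =
      subgroupBlockCoeff (Subgroup.centralizer (Q : Set G)) f (x : G))
    {A : Subgroup G} {a : Set (IrrCharacter (Subgroup.centralizer (A : Set G)))}
    (hAa : IsBrauerPair p M A a)
    (hA : Relation.ReflTransGen (NormalSubpairRel p M) (⟨Q, f⟩ : BrauerPairIdx G) ⟨A, a⟩)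
    (hAX : A ≤ X) :
    ∃ c ∈ Subgroup.centralizer (Q : Set G),
      Relation.ReflTransGen (NormalSubpairRel p M) (conjPair c ⟨A, a⟩) ⟨P, e⟩ := by
  classical
  have := Fintype.ofFinite X
  have := Fintype.ofFinite T
  have hMp := isPrime_of_isPModular hM
  have hCT := centralizer_le_stab hT
  have hTN : T ≤ Subgroup.normalizer (Q : Set G) := fun y hy => ((hT y).mp hy).1
  obtain ⟨hDT, -⟩ := pair_of_normalizer hM hPe hQP hf hle T hT hF' hF'c
  -- the pair on `D = N_P(Q)`
  set DX : Subgroup X := (P ⊓ Subgroup.normalizer (Q : Set G)).subgroupOf X with hDXdef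
  have hDXmap : DX.map X.subtype = P ⊓ Subgroup.normalizer (Q : Set G) :=
    Subgroup.map_subgroupOf_eq_of_le hDX
  have hQDX : Q ≤ DX.map X.subtype := by
    rw [hDXmap]
    exact le_inf hQP Subgroup.le_normalizer
  have hDXP : DX.map X.subtype ≤ P := by
    rw [hDXmap]
    exact inf_le_left
  obtain ⟨eD, heD, heDle⟩ := exists_subpairLE hM hPe (DX.map X.subtype) hDXP
  have hDpair : IsBrauerPair p M (DX.map X.subtype) eD := ⟨hPe.1.to_le hDXP, heD⟩
  have hQD : Relation.ReflTransGen (NormalSubpairRel p M) (⟨Q, f⟩ : BrauerPairIdx G)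
      ⟨DX.map X.subtype, eD⟩ := chain_mid hM hle heDle hDpair hQDX
  have hDXN : DX.map X.subtype ≤ Subgroup.normalizer (Q : Set G) := by
    rw [hDXmap]
    exact inf_le_right
  have hnD : IsNormalSubpair p M Q f (DX.map X.subtype) eD :=
    normal_of_chain hM hDpair hQD hDXN
  have hpairD : IsBrauerPairOf p M FX (fromG hCX DX hQDX eD).1 (fromG hCX DX hQDX eD).2 :=
    isBrauerPairOf_of_isNormalSubpair hCX DX hQDX hFX hFXc hnD
  -- the pair on `A`
  set AX : Subgroup X := A.subgroupOf X with hAXdef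
  have hAXmap : AX.map X.subtype = A := Subgroup.map_subgroupOf_eq_of_le hAX
  obtain ⟨a', ha'⟩ := exists_pair_eq hAXmap a
  have hAa' : IsBrauerPair p M (AX.map X.subtype) a' := by
    have h1 : IsBrauerPair p M (⟨A, a⟩ : BrauerPairIdx G).1 (⟨A, a⟩ : BrauerPairIdx G).2 := hAa
    rw [ha'] at h1
    exact h1
  rw [ha'] at hA ⊢
  have hQA : Q ≤ AX.map X.subtype := le_of_chain hA
  have hAN : AX.map X.subtype ≤ Subgroup.normalizer (Q : Set G) := by
    rw [hAXmap]
    exact hAX.trans (hXT.trans hTN)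
  have hnA : IsNormalSubpair p M Q f (AX.map X.subtype) a' := normal_of_chain hM hAa' hA hAN
  have hpairA : IsBrauerPairOf p M FX (fromG hCX AX hQA a').1 (fromG hCX AX hQA a').2 :=
    isBrauerPairOf_of_isNormalSubpair hCX AX hQA hFX hFXc hnA
  -- maximality of the pair on `D`
  have hmaxD : IsMaximalBrauerPair p M FX (fromG hCX DX hQDX eD).1 (fromG hCX DX hQDX eD).2 := by
    refine ⟨hpairD, fun R g hRg hchain => ?_⟩
    have hchain' : Relation.ReflTransGen (NormalSubpairRel p M) (fromG hCX DX hQDX eD)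
        (⟨R, g⟩ : BrauerPairIdx X) := hchain
    have hDR : DX ≤ R := le_of_chain hchain'
    have hQR : Q ≤ R.map X.subtype := hQDX.trans (Subgroup.map_mono hDR)
    have h1 := chain_toG hCX hchain' hQDX hQR
    rw [toG_fromG] at h1
    have h3 := Relation.ReflTransGen.trans hQD h1
    have hRX : R.map X.subtype ≤ X := Subgroup.map_subtype_le R
    have hRN : R.map X.subtype ≤ Subgroup.normalizer (Q : Set G) := hRX.trans (hXT.trans hTN)
    have hRpair : IsBrauerPair p M (R.map X.subtype) (mapBlock (centIsoT hCX R hQR).symm g) :=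
      ⟨hRg.1.1.map _, isPBlock_mapBlock _ hRg.1.2⟩
    have hnR : IsNormalSubpair p M Q f (R.map X.subtype)
        (mapBlock (centIsoT hCX R hQR).symm g) := normal_of_chain hM hRpair h3 hRN
    have hRT : R.map X.subtype ≤ T := hRX.trans hXT
    have hRTmap : ((R.map X.subtype).subgroupOf T).map T.subtype = R.map X.subtype :=
      Subgroup.map_subgroupOf_eq_of_le hRT
    obtain ⟨g', hg'⟩ := exists_isNormalSubpair_congr hRTmap.symm ⟨_, hnR⟩
    have hQRT : Q ≤ ((R.map X.subtype).subgroupOf T).map T.subtype := by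
      rw [hRTmap]
      exact hQR
    have hpairT := isBrauerPairOf_of_isNormalSubpair hCT _ hQRT hF' hF'c hg'
    obtain ⟨E, hE, hRE⟩ := exists_isDefectGroup_ge_of_pair hM hpairT
    have hcard : Nat.card E =
        Nat.card ((P ⊓ Subgroup.normalizer (Q : Set G)).subgroupOf T) :=
      isDefectGroup_card_eq hM hF' hD hE
    have hle' : Nat.card R ≤ Nat.card DX := by
      calc Nat.card R = Nat.card (R.map X.subtype) :=
            (Subgroup.card_map_of_injective (Subgroup.subtype_injective _)).symm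
        _ = Nat.card ((R.map X.subtype).subgroupOf T) := (card_subgroupOf_of_le hRT).symm
        _ ≤ Nat.card E := Subgroup.card_le_of_le hRE
        _ = Nat.card ((P ⊓ Subgroup.normalizer (Q : Set G)).subgroupOf T) := hcard
        _ = Nat.card (P ⊓ Subgroup.normalizer (Q : Set G) : Subgroup G) :=
            card_subgroupOf_of_le hDT
        _ = Nat.card DX := (card_subgroupOf_of_le hDX).symm
    exact (Subgroup.eq_of_le_of_card_ge hDR hle').symm
  -- conjugation in `X`
  obtain ⟨x, hx⟩ := exists_conj_subpairLE hM hmaxD hpairA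
  have hx' : Relation.ReflTransGen (NormalSubpairRel p M)
      (conjPair x (fromG hCX AX hQA a')) (fromG hCX DX hQDX eD) := hx
  have hxN : (x : G) ∈ Subgroup.normalizer (Q : Set G) := hTN (hXT x.2)
  have hQA' : Q ≤ (conjPair x (fromG hCX AX hQA a')).1.map X.subtype := by
    show Q ≤ (AX.map (MulAut.conj x).toMonoidHom).map X.subtype
    rw [map_conj_map_subtype]
    calc Q = Q.map (MulAut.conj (x : G)).toMonoidHom := (map_conj_eq_of_mem_normalizer hxN).symm
      _ ≤ _ := Subgroup.map_mono hQA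
  have h1 := chain_toG hCX hx' hQA' hQDX
  rw [toG_conjPair hCX x _ hQA hQA', toG_fromG, toG_fromG] at h1
  have h2 := Relation.ReflTransGen.trans h1 heDle
  obtain ⟨d, hd, c, hc, hxdc⟩ := hdec (x : G) x.2
  refine ⟨c, hc, ?_⟩
  have h3 := chain_conj d⁻¹ h2
  rw [conjPair_of_mem (P.inv_mem hd.1), ← conjPair_mul, hxdc] at h3
  have h4 : d⁻¹ * (d * c) = c := by group
  rw [h4] at h3
  exact h3

/-- The key step: a pair above `(Q, f)` on a subgroup of `N_P(Q) C_G(Q)` is conjugate, under
`C_G(Q)`, to a pair below `(P, e)`. -/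
theorem exists_centralizer_conj (hM : IsPModular p M) {P Q : Subgroup G}
    {e : Set (IrrCharacter (Subgroup.centralizer (P : Set G)))}
    {f : Set (IrrCharacter (Subgroup.centralizer (Q : Set G)))}
    (hPe : IsBrauerPair p M P e) (hQP : Q ≤ P) (hf : IsPBlock M f)
    (hle : SubpairLE p M Q f P e) (T : Subgroup G)
    (hT : ∀ y : G, y ∈ T ↔ y ∈ Subgroup.normalizer (Q : Set G) ∧
      StabilizesBlock (Subgroup.centralizer (Q : Set G)) f y)
    {F' : Set (IrrCharacter T)} (hF' : IsPBlock M F')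
    (hF'c : ∀ t : T, blockCoeff F' t =
      subgroupBlockCoeff (Subgroup.centralizer (Q : Set G)) f (t : G))
    (hD : IsDefectGroup p M F' ((P ⊓ Subgroup.normalizer (Q : Set G)).subgroupOf T))
    {A : Subgroup G} {a : Set (IrrCharacter (Subgroup.centralizer (A : Set G)))}
    (hAa : IsBrauerPair p M A a)
    (hA : Relation.ReflTransGen (NormalSubpairRel p M) (⟨Q, f⟩ : BrauerPairIdx G) ⟨A, a⟩)
    (hAX : A ≤ (P ⊓ Subgroup.normalizer (Q : Set G)) ⊔ Subgroup.centralizer (Q : Set G)) :
    ∃ c ∈ Subgroup.centralizer (Q : Set G),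
      Relation.ReflTransGen (NormalSubpairRel p M) (conjPair c ⟨A, a⟩) ⟨P, e⟩ := by
  have hCT := centralizer_le_stab hT
  obtain ⟨hDT, -⟩ := pair_of_normalizer hM hPe hQP hf hle T hT hF' hF'c
  have hDp : IsPGroup p (P ⊓ Subgroup.normalizer (Q : Set G) : Subgroup G) :=
    hPe.1.to_le inf_le_left
  have hDC : P ⊓ Subgroup.normalizer (Q : Set G) ≤
      Subgroup.normalizer ((Subgroup.centralizer (Q : Set G) : Subgroup G) : Set G) :=
    fun y hy => normalizer_le Q hy.2
  have hXT : (P ⊓ Subgroup.normalizer (Q : Set G)) ⊔ Subgroup.centralizer (Q : Set G) ≤ T :=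
    sup_le hDT hCT
  have hnorm := normal_subgroupOf_sup hDC
  obtain ⟨k, hk⟩ := index_sup_ppower hDp hDC
  obtain ⟨FX, hFX, hFXc⟩ := exists_block_of_ppower hM le_sup_right hnorm hk hf
    (fun x hx => ((hT x).mp (hXT hx)).2)
  exact exists_centralizer_conj_aux hM hPe hQP hf hle T hT hF' hF'c hD _ le_sup_right
    le_sup_left hXT (fun x hx => exists_mul_of_mem_sup hDC hx) hFX hFXc hAa hA hAX

end Main

end Cfsg.Agent.Lib.Helper78_Receptive
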