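import Mathlib
import Cfsg.Prelude.Def_Blocks
import Cfsg.Prelude.Def_BlockLocal
import Cfsg.Prelude.Def_BrauerPairs
import Cfsg.Prelude.Def_BlockFusion
import Cfsg.Agent.Lib.Helper78_PairConj
import Cfsg.Agent.Lib.Helper78_PairStab
import Cfsg.Agent.Lib.Helper78_BlockFusion
import Cfsg.Agent.Lib.Helper78_BlockFusionSys
import Cfsg.Agent.Lib.Helper78_Automized
import Cfsg.Agent.Lib.Helper78_Receptive

/-!
# The fusion system of a block is saturated (helper78, S4677)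
-/

set_option autoImplicit false
set_option linter.unusedSectionVars false

namespace Cfsg.Agent.Lib.Helper78_Saturated

open Cfsg Cfsg.Agent.Lib.Helper78_LocalRing
  Cfsg.Agent.Lib.Helper78_Transport
  Cfsg.Agent.Lib.Helper78_TransportBlocks Cfsg.Agent.Lib.Helper78_NilpotentPrincipal
  Cfsg.Agent.Lib.Helper78_PrincipalFusion
  Cfsg.Agent.Lib.Helper78_SubpairBasic Cfsg.Agent.Lib.Helper78_SubpairNormal
  Cfsg.Agent.Lib.Helper78_SubpairTrans Cfsg.Agent.Lib.Helper78_SubpairUnique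
  Cfsg.Agent.Lib.Helper78_FirstMain Cfsg.Agent.Lib.Helper78_MaxPair
  Cfsg.Agent.Lib.Helper78_PairConj Cfsg.Agent.Lib.Helper78_PairStab
  Cfsg.Agent.Lib.Helper78_BlockFusion Cfsg.Agent.Lib.Helper78_BlockFusionSys
  Cfsg.Agent.Lib.Helper78_Automized Cfsg.Agent.Lib.Helper78_Receptive

universe u

variable {G : Type u} [Group G] {M : Ideal AlgInt} {p : ℕ}

/-- The stabilizer of a pair, as a subgroup. -/
def stabPair (Q : Subgroup G) (f : Set (IrrCharacter (Subgroup.centralizer (Q : Set G)))) :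
    Subgroup G where
  carrier := {y | y ∈ Subgroup.normalizer (Q : Set G) ∧
    conjPair y (⟨Q, f⟩ : BrauerPairIdx G) = ⟨Q, f⟩}
  one_mem' := ⟨Subgroup.one_mem _, conjPair_one _⟩
  mul_mem' := by
    rintro x y ⟨hx, hx'⟩ ⟨hy, hy'⟩
    refine ⟨Subgroup.mul_mem _ hx hy, ?_⟩
    rw [conjPair_mul, hy', hx']
  inv_mem' := by
    rintro x ⟨hx, hx'⟩
    refine ⟨Subgroup.inv_mem _ hx, ?_⟩
    have := conjPair_inv_conjPair x (⟨Q, f⟩ : BrauerPairIdx G)
    rwa [hx'] at this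

theorem mem_stabPair_iff (hM : M.IsPrime) {Q : Subgroup G}
    {f : Set (IrrCharacter (Subgroup.centralizer (Q : Set G)))} (hf : IsPBlock M f) (y : G) :
    y ∈ stabPair Q f ↔ y ∈ Subgroup.normalizer (Q : Set G) ∧
      StabilizesBlock (Subgroup.centralizer (Q : Set G)) f y := by
  constructor
  · rintro ⟨hy, hy'⟩
    exact ⟨hy, stab_of_conjPair_eq hy hy'⟩
  · rintro ⟨hy, hst⟩
    exact ⟨hy, conjPair_eq_of_stab hM hf hy hst⟩

section Main

variable [Fintype G] [Fact p.Prime]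

/-- **Receptive**: if `N_P(Q)` is a defect group of the block of the stabilizer with the idempotent
of `f`, then `Q` is receptive in the fusion system of the block. -/
theorem isReceptive_of_defect (hM : IsPModular p M) {B : Set (IrrCharacter G)}
    {P : Subgroup G} {e : Set (IrrCharacter (Subgroup.centralizer (P : Set G)))}
    {F : FusionSystem P} (hF : IsBlockFusionSystemOn p M B P e F) {Q : Subgroup G}
    {f : Set (IrrCharacter (Subgroup.centralizer (Q : Set G)))} (hQP : Q ≤ P)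
    (hf : IsPBlock M f) (hle : SubpairLE p M Q f P e) (T : Subgroup G)
    (hT : ∀ y : G, y ∈ T ↔ y ∈ Subgroup.normalizer (Q : Set G) ∧
      StabilizesBlock (Subgroup.centralizer (Q : Set G)) f y)
    {F' : Set (IrrCharacter T)} (hF' : IsPBlock M F')
    (hF'c : ∀ t : T, blockCoeff F' t =
      subgroupBlockCoeff (Subgroup.centralizer (Q : Set G)) f (t : G))
    (hD : IsDefectGroup p M F' ((P ⊓ Subgroup.normalizer (Q : Set G)).subgroupOf T)) :
    F.IsReceptive Q := by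
  classical
  have hPe := hF.1.1.1
  refine ⟨hQP, fun R φ hφ hrange => ?_⟩
  obtain ⟨hRP, g₀, hg₀, hg₀P, fR, hfR, hfRg⟩ := (hF.2 R φ).mp hφ
  have hmap : R.map (MulAut.conj g₀).toMonoidHom = Q :=
    (range_eq_map_conj hg₀).symm.trans hrange
  have hpair : conjPair g₀ (⟨R, fR⟩ : BrauerPairIdx G) = ⟨Q, f⟩ :=
    pair_unique hM hfRg hle hmap
  have hCN : Subgroup.centralizer (Q : Set G) ≤ Subgroup.normalizer (Q : Set G) :=
    centralizer_le_normalizer Q
  -- the extender lies in `N_P(R)` and is carried into `N_P(Q) C_G(Q)`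
  have hext : FusionSystem.extender P R φ ≤ (P ⊓ Subgroup.normalizer (R : Set G)) ⊓
      ((P ⊓ Subgroup.normalizer (Q : Set G)) ⊔ Subgroup.centralizer (Q : Set G)).comap
        (MulAut.conj g₀).toMonoidHom := by
    unfold FusionSystem.extender
    rw [Subgroup.closure_le]
    rintro n ⟨hnP, hnN, h, hhP, hh⟩
    refine ⟨⟨hnP, hnN⟩, ?_⟩
    show g₀ * n * g₀⁻¹ ∈ (P ⊓ Subgroup.normalizer (Q : Set G)) ⊔ Subgroup.centralizer (Q : Set G)
    -- `c = h⁻¹ g₀ n g₀⁻¹` centralizes `Q`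
    have hc : h⁻¹ * (g₀ * n * g₀⁻¹) ∈ Subgroup.centralizer (Q : Set G) := by
      rw [Subgroup.mem_centralizer_iff]
      intro q hq
      rw [← hmap] at hq
      obtain ⟨x, hx, rfl⟩ := hq
      simp only [MulEquiv.coe_toMonoidHom, MulAut.conj_apply]
      have hx' : n * x * n⁻¹ ∈ R := (Subgroup.mem_set_normalizer_iff.mp hnN x).mp hx
      have h1 := hh ⟨x, hx⟩ hx'
      rw [hg₀, hg₀] at h1
      simp only at h1
      -- h1 : g₀ * (n * x * n⁻¹) * g₀⁻¹ = h * (g₀ * x * g₀⁻¹) * h⁻¹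
      calc g₀ * x * g₀⁻¹ * (h⁻¹ * (g₀ * n * g₀⁻¹))
          = h⁻¹ * (h * (g₀ * x * g₀⁻¹) * h⁻¹) * (g₀ * n * g₀⁻¹) := by group
        _ = h⁻¹ * (g₀ * (n * x * n⁻¹) * g₀⁻¹) * (g₀ * n * g₀⁻¹) := by rw [h1]
        _ = h⁻¹ * (g₀ * n * g₀⁻¹) * (g₀ * x * g₀⁻¹) := by group
    have hgn : g₀ * n * g₀⁻¹ ∈ Subgroup.normalizer (Q : Set G) := by
      rw [← hmap]
      exact (mem_normalizer_map_conj_iff R g₀ n).mpr hnN
    have hhN : h ∈ Subgroup.normalizer (Q : Set G) := by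
      have h2 : h = g₀ * n * g₀⁻¹ * (h⁻¹ * (g₀ * n * g₀⁻¹))⁻¹ := by group
      rw [h2]
      exact Subgroup.mul_mem _ hgn (Subgroup.inv_mem _ (hCN hc))
    have h3 : g₀ * n * g₀⁻¹ = h * (h⁻¹ * (g₀ * n * g₀⁻¹)) := by group
    rw [h3]
    exact Subgroup.mul_mem_sup ⟨hhP, hhN⟩ hc
  have hRext : R ≤ FusionSystem.extender P R φ := by
    intro r hr
    unfold FusionSystem.extender
    apply Subgroup.subset_closure
    refine ⟨hRP hr, Subgroup.le_normalizer hr, φ ⟨r, hr⟩, (F.le_of_mem hφ).2 _, ?_⟩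
    intro x hx
    have h1 : (⟨r * (x : G) * r⁻¹, hx⟩ : R) = ⟨r, hr⟩ * x * ⟨r, hr⟩⁻¹ := by
      apply Subtype.ext
      rfl
    rw [h1, map_mul, map_mul, map_inv]
  set N := FusionSystem.extender P R φ with hN
  have hNP : N ≤ P := fun n hn => (hext hn).1.1
  obtain ⟨eN, heN, heNle⟩ := exists_subpairLE hM hPe N hNP
  have hNpair : IsBrauerPair p M N eN := ⟨hPe.1.to_le hNP, heN⟩
  have hRN : Relation.ReflTransGen (NormalSubpairRel p M) (⟨R, fR⟩ : BrauerPairIdx G) ⟨N, eN⟩ :=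
    chain_mid hM hfR heNle hNpair hRext
  have hQA : Relation.ReflTransGen (NormalSubpairRel p M) (⟨Q, f⟩ : BrauerPairIdx G)
      (conjPair g₀ ⟨N, eN⟩) := by
    have := chain_conj g₀ hRN
    rwa [hpair] at this
  have hAX : (conjPair g₀ (⟨N, eN⟩ : BrauerPairIdx G)).1 ≤
      (P ⊓ Subgroup.normalizer (Q : Set G)) ⊔ Subgroup.centralizer (Q : Set G) := by
    rintro _ ⟨n, hn, rfl⟩
    exact (hext hn).2
  obtain ⟨c, hc, hchain⟩ := exists_centralizer_conj hM hPe hQP hf hle T hT hF' hF'c hD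
    (isBrauerPair_conj g₀ hNpair) hQA hAX
  have hchain' : Relation.ReflTransGen (NormalSubpairRel p M)
      (conjPair c (conjPair g₀ (⟨N, eN⟩ : BrauerPairIdx G))) ⟨P, e⟩ := hchain
  rw [← conjPair_mul] at hchain'
  clear hchain
  have hchain := hchain'
  refine ⟨conjHom N (c * g₀), ?_, ?_⟩
  · rw [hF.2]
    exact ⟨hNP, c * g₀, fun u => rfl, le_of_chain hchain, eN, heNle, hchain⟩
  · intro x hxR hxN
    show c * g₀ * x * (c * g₀)⁻¹ = φ ⟨x, hxR⟩
    rw [hg₀]
    have hq : g₀ * x * g₀⁻¹ ∈ Q := by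
      rw [← hmap]
      exact ⟨x, hxR, rfl⟩
    have h1 := Subgroup.mem_centralizer_iff.mp hc _ hq
    calc c * g₀ * x * (c * g₀)⁻¹ = c * (g₀ * x * g₀⁻¹) * c⁻¹ := by group
      _ = g₀ * x * g₀⁻¹ * c * c⁻¹ := by rw [h1]
      _ = g₀ * x * g₀⁻¹ := by group

/-- **The fusion system of a block is saturated.** -/
theorem isSaturated (hM : IsPModular p M) {B : Set (IrrCharacter G)}
    {P : Subgroup G} {e : Set (IrrCharacter (Subgroup.centralizer (P : Set G)))}
    {F : FusionSystem P} (hF : IsBlockFusionSystemOn p M B P e F) : F.IsSaturated p := by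
  have hMp := isPrime_of_isPModular hM
  have hmax := hF.1
  have hPe := hmax.1.1
  intro Q hQP
  have hQ : IsPGroup p Q := hPe.1.to_le hQP
  obtain ⟨f, hf, hle⟩ := exists_subpairLE hM hPe Q hQP
  obtain ⟨-, x, hx, hxT⟩ := normalizer_defect hM hmax hQP hf hle (stabPair Q f)
    (mem_stabPair_iff hMp hf)
  have hfx : IsPBlock M (conjBlock Q x f) := (isBrauerPair_conj x ⟨hQ, hf⟩).2
  obtain ⟨F', hF', hF'c, hD'⟩ := hxT (stabPair _ (conjBlock Q x f)) (mem_stabPair_iff hMp hfx)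
  have hQxP : Q.map (MulAut.conj x).toMonoidHom ≤ P := le_of_chain hx
  refine ⟨Q.map (MulAut.conj x).toMonoidHom,
    (isConj_iff hM hF hQP hle _).mpr ⟨x, rfl, hx⟩, ?_, ?_⟩
  · exact isFullyAutomized_of_defect hM hF hQxP hfx hx _ (mem_stabPair_iff hMp hfx) hF' hF'c hD'
  · exact isReceptive_of_defect hM hF hQxP hfx hx _ (mem_stabPair_iff hMp hfx) hF' hF'c hD'

/-- **S4677**. -/
theorem exists_blockFusionSystem (hM : IsPModular p M) {B : Set (IrrCharacter G)}
    {P : Subgroup G} {e : Set (IrrCharacter (Subgroup.centralizer (P : Set G)))}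
    (hmax : IsMaximalBrauerPair p M B P e) :
    ∃ F : FusionSystem P, IsBlockFusionSystemOn p M B P e F ∧ F.IsSaturated p :=
  ⟨blockFusionSystem hM hmax.1.1, isBlockFusionSystemOn_blockFusionSystem hM hmax,
    isSaturated hM (isBlockFusionSystemOn_blockFusionSystem hM hmax)⟩

end Main

end Cfsg.Agent.Lib.Helper78_Saturated
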