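import Mathlib
import Cfsg.Prelude.Def_Blocks
import Cfsg.Prelude.Def_BlockLocal
import Cfsg.Prelude.Def_BrauerPairs
import Cfsg.Agent.Lib.Helper78_LocalRing
import Cfsg.Agent.Lib.Helper78_BrauerCorr
import Cfsg.Agent.Lib.Helper78_BrauerPairs
import Cfsg.Agent.Lib.Helper78_TransportBlocks
import Cfsg.Agent.Lib.Helper78_SubpairBasic
import Cfsg.Agent.Lib.Helper78_SubpairNormal
import Cfsg.Agent.Lib.Helper78_SubpairTrans
import Cfsg.Agent.Lib.Helper78_SubpairUnique
import Cfsg.Agent.Lib.Helper78_MaxPair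
import Cfsg.Agent.Lib.Helper78_PairConj
import Cfsg.Agent.Lib.Helper78_PairCent
import Cfsg.Agent.Lib.Helper78_PairStab
import Cfsg.Agent.Lib.Helper78_StabBlock
import Cfsg.Agent.Lib.Helper78_Saturated
import Cfsg.Agent.Lib.Helper77_QuotBlocks
import Cfsg.Agent.Lib.Helper77_QuotRank
import Cfsg.Agent.Lib.Helper77_QuotDefect2
import Cfsg.Agent.Lib.Helper77_CentralDefect
import Cfsg.Agent.Lib.Helper77_StableCover
import Cfsg.Agent.Lib.Helper77_BlockBasics
import Cfsg.Agent.Lib.Helper51_Offender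
import Cfsg.Agent.S0914
import Cfsg.Agent.S4491

/-!
# Maximal Brauer pairs through a canonical character (helper16, S4828)

A Brauer pair `(Q, e)` is maximal for its block iff `Z(Q)` is a defect group of `e` (expressed by
a character of `e` of defect zero modulo `Z(Q)`) and the stabilizer of the pair has index prime to
`p` over `Q C_G(Q)`.
-/

set_option autoImplicit false
set_option linter.unusedSectionVars false

namespace Cfsg.Agent.Lib.Helper16_MaxPairChar

open Cfsg Cfsg.Agent.Lib.Helper78_LocalRing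

universe u

section Generic

variable {H : Type*} [Group H] [Finite H] {p : ℕ} [Fact p.Prime] {M : Ideal AlgInt}

open Cfsg.Agent.Lib.Helper77_QuotRank (infl infl_apply infl_ker)
open Cfsg.Agent.Lib.Helper77_QuotDefect2 (quotSet)

/-- Factorization of the order through a normal subgroup. -/
theorem factorization_card_quot (Z : Subgroup H) [Z.Normal] :
    (Nat.card H).factorization p =
      (Nat.card (H ⧸ Z)).factorization p + (Nat.card Z).factorization p := by
  rw [Subgroup.card_eq_card_quotient_mul_card_subgroup Z,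
    Nat.factorization_mul (Nat.card_pos).ne' (Nat.card_pos).ne', Finsupp.add_apply]

/-- A block whose defect group is the normal subgroup `Z` has a character that is trivial on `Z`
and of defect zero modulo `Z`. -/
theorem exists_char_of_isDefectGroup (hM : IsPModular p M) (Z : Subgroup H) [Z.Normal]
    {e : Set (IrrCharacter H)} (he : IsPBlock M e) (hD : IsDefectGroup p M e Z) :
    ∃ θ ∈ e, (∀ u ∈ Z, (θ : H → ℂ) u = (θ : H → ℂ) 1) ∧
      (charDegree (θ : H → ℂ)).factorization p + (Nat.card Z).factorization p =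
        (Nat.card H).factorization p := by
  classical
  have hp : p.Prime := Fact.out
  have hMp : M.IsPrime := isPrime_of_isPModular hM
  have hZp : IsPGroup p Z := (Cfsg.Agent.Lib.Helper77_CentralDefect.card_of_isDefectGroup hM he hD).1
  obtain ⟨Bbar, hBbar, hsub, hdef⟩ :=
    Cfsg.Agent.Lib.Helper77_QuotDefect2.exists_block_quot hM Z hZp he
  have hbot : IsDefectGroup p M Bbar (Z.map (QuotientGroup.mk' Z)) := (hdef _).mpr ⟨Z, hD, rfl⟩
  have hcard := (Cfsg.Agent.Lib.Helper77_CentralDefect.card_of_isDefectGroup hM hBbar hbot).2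
  rw [QuotientGroup.map_mk'_self, Subgroup.card_bot] at hcard
  have hd0 : blockDefect p Bbar = 0 := by
    rcases Nat.pow_eq_one.mp hcard.symm with h | h
    · exact absurd h hp.one_lt.ne'
    · exact h
  obtain ⟨χ, hχ⟩ := isPBlock_nonempty hMp hBbar
  obtain ⟨n, hnpos, -, hdn, hndvd⟩ := Cfsg.Agent.S0914.exists_degree χ
  have hle1 : sInf ((fun ψ : IrrCharacter (H ⧸ Z) =>
      (charDegree (ψ : H ⧸ Z → ℂ)).factorization p) '' Bbar) ≤
      (charDegree (χ : H ⧸ Z → ℂ)).factorization p := Nat.sInf_le ⟨χ, hχ, rfl⟩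
  have hle2 : (charDegree (χ : H ⧸ Z → ℂ)).factorization p ≤
      (Nat.card (H ⧸ Z)).factorization p := by
    rw [hdn]
    exact (Nat.factorization_le_iff_dvd hnpos.ne' (Nat.card_pos).ne').mpr hndvd p
  have hle3 : (Nat.card (H ⧸ Z)).factorization p ≤ sInf ((fun ψ : IrrCharacter (H ⧸ Z) =>
      (charDegree (ψ : H ⧸ Z → ℂ)).factorization p) '' Bbar) := by
    unfold blockDefect at hd0
    exact Nat.sub_eq_zero_iff_le.mp hd0
  refine ⟨infl Z χ, hsub χ hχ (infl Z χ) rfl, fun u hu => infl_ker Z χ u hu, ?_⟩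
  rw [factorization_card_quot (p := p) Z]
  have : charDegree (infl Z χ : H → ℂ) = charDegree (χ : H ⧸ Z → ℂ) := rfl
  rw [this]
  omega

/-- Conversely, a central `p`-subgroup `Z` is a defect group of a block containing a character
that is trivial on `Z` and of defect zero modulo `Z`. -/
theorem isDefectGroup_of_char (hM : IsPModular p M) (Z : Subgroup H) [Z.Normal]
    (hZp : IsPGroup p Z) (hZc : Z ≤ Subgroup.center H)
    {e : Set (IrrCharacter H)} (he : IsPBlock M e) (θ : IrrCharacter H) (hθ : θ ∈ e)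
    (hker : ∀ u ∈ Z, (θ : H → ℂ) u = (θ : H → ℂ) 1)
    (hdeg : (charDegree (θ : H → ℂ)).factorization p + (Nat.card Z).factorization p =
        (Nat.card H).factorization p) : IsDefectGroup p M e Z := by
  classical
  have hp : p.Prime := Fact.out
  have hMp : M.IsPrime := isPrime_of_isPModular hM
  obtain ⟨χ, hχ⟩ := Cfsg.Agent.Lib.Helper77_QuotBlocks.exists_quot_char Z θ hker
  have hθχ : θ = infl Z χ := Subtype.ext hχ
  have hχq : χ ∈ quotSet Z e := by
    show infl Z χ ∈ e
    rw [← hθχ]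
    exact hθ
  have hdegχ : charDegree (χ : H ⧸ Z → ℂ) = charDegree (θ : H → ℂ) := by
    rw [hθχ]
    rfl
  have hν : (charDegree (χ : H ⧸ Z → ℂ)).factorization p =
      (Nat.card (H ⧸ Z)).factorization p := by
    have := factorization_card_quot (p := p) Z
    rw [hdegχ]
    omega
  obtain ⟨n, hnpos, -, hdn, hndvd⟩ := Cfsg.Agent.S0914.exists_degree χ
  have hblock : blockOf M (χ : H ⧸ Z → ℂ) = {χ} := by
    rw [← Cfsg.Agent.S0914.result p M hM χ]
    rw [hdn] at hν ⊢
    obtain ⟨k, hk⟩ := hndvd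
    have hkpos : 0 < k := by
      rcases Nat.eq_zero_or_pos k with h0 | h0
      · rw [h0, mul_zero] at hk
        exact absurd hk (Nat.card_pos).ne'
      · exact h0
    rw [hk, Nat.mul_div_cancel_left _ hnpos]
    intro hpk
    have h1 : 1 ≤ k.factorization p := (hp.dvd_iff_one_le_factorization hkpos.ne').mp hpk
    rw [hk, Nat.factorization_mul hnpos.ne' hkpos.ne', Finsupp.add_apply] at hν
    omega
  obtain ⟨χ', hχ', hcard⟩ := Cfsg.Agent.Lib.Helper77_QuotDefect2.exists_max_defect hM Z hZp he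
  have hreg : ∀ y : H, ¬ p ∣ orderOf y → ∀ u ∈ Z, y * u = u * y := fun y _ u hu =>
    Subgroup.mem_center_iff.mp (hZc hu) y
  have hsame : SameBlock M (χ : H ⧸ Z → ℂ) (χ' : H ⧸ Z → ℂ) := by
    apply Cfsg.Agent.Lib.Helper77_QuotBlocks.sameBlock_of_comp_mk hM Z hZp hreg χ χ'
    exact isPBlock_sameBlock hMp he hχq hχ'
  have hχ'eq : χ' = χ := by
    have h1 : χ' ∈ blockOf M (χ : H ⧸ Z → ℂ) := hsame
    rw [hblock] at h1
    exact h1
  rw [hχ'eq, hblock] at hcard
  have hd0 : blockDefect p ({χ} : Set (IrrCharacter (H ⧸ Z))) = 0 := by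
    unfold blockDefect
    rw [Set.image_singleton, csInf_singleton, hν]
    exact Nat.sub_self _
  rw [hd0, pow_zero, one_mul] at hcard
  obtain ⟨D, hD⟩ := Cfsg.Agent.Lib.Helper77_QuotDefect2.exists_dg hM he
  have hZD := Cfsg.Agent.Lib.Helper77_QuotDefect2.le_of_isDefectGroup hM Z hZp he hD
  have hDcard := (Cfsg.Agent.Lib.Helper77_CentralDefect.card_of_isDefectGroup hM he hD).2
  have hZeq : Z = D := Subgroup.eq_of_le_of_card_ge hZD (by rw [hDcard, hcard])
  rw [hZeq]
  exact hD

/-- An element of `p`-power order lies in a normal subgroup of index prime to `p`. -/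
theorem mem_of_orderOf_pow_of_index (N : Subgroup H) [N.Normal] (hidx : ¬ p ∣ N.index)
    (t : H) (k : ℕ) (ht : orderOf t = p ^ k) : t ∈ N := by
  have hp : p.Prime := Fact.out
  have h1 : orderOf (QuotientGroup.mk' N t) ∣ p ^ k := by
    rw [← ht]
    exact orderOf_map_dvd _ t
  have h2 : orderOf (QuotientGroup.mk' N t) ∣ N.index := by
    rw [Subgroup.index]
    exact orderOf_dvd_natCard _
  obtain ⟨j, -, hj⟩ := (Nat.dvd_prime_pow hp).mp h1
  have hj0 : j = 0 := by
    by_contra hne
    apply hidx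
    refine dvd_trans ?_ h2
    rw [hj]
    exact dvd_pow_self p hne
  rw [hj0, pow_zero, orderOf_eq_one_iff] at hj
  exact (QuotientGroup.eq_one_iff t).mp hj

end Generic

section Pairs

open Cfsg.Agent.Lib.Helper78_TransportBlocks Cfsg.Agent.Lib.Helper78_Transport
  Cfsg.Agent.Lib.Helper78_SubpairBasic Cfsg.Agent.Lib.Helper78_SubpairNormal
  Cfsg.Agent.Lib.Helper78_SubpairTrans Cfsg.Agent.Lib.Helper78_SubpairUnique
  Cfsg.Agent.Lib.Helper78_MaxPair Cfsg.Agent.Lib.Helper78_PairConj
  Cfsg.Agent.Lib.Helper78_PairCent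

variable {G : Type u} [Group G] {M : Ideal AlgInt} {p : ℕ}

/-- `Z(Q)` as a subgroup of `C_G(Q)`. -/
abbrev zsub (Q : Subgroup G) : Subgroup (Subgroup.centralizer (Q : Set G)) :=
  (Q ⊓ Subgroup.centralizer (Q : Set G)).subgroupOf (Subgroup.centralizer (Q : Set G))

theorem zsub_le_center (Q : Subgroup G) :
    zsub Q ≤ Subgroup.center (Subgroup.centralizer (Q : Set G)) := by
  intro z hz
  rw [Subgroup.mem_subgroupOf] at hz
  rw [Subgroup.mem_center_iff]
  intro c
  apply Subtype.ext
  show (c : G) * (z : G) = (z : G) * (c : G)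
  exact (Subgroup.mem_centralizer_iff.mp c.2 (z : G) hz.1).symm

instance zsub_normal (Q : Subgroup G) : (zsub Q).Normal := by
  refine ⟨fun n hn g => ?_⟩
  have h1 := Subgroup.mem_center_iff.mp (zsub_le_center Q hn) g
  rw [h1, mul_inv_cancel_right]
  exact hn

theorem zsub_isPGroup {Q : Subgroup G} (hQ : IsPGroup p Q) : IsPGroup p (zsub Q) :=
  (hQ.to_le inf_le_left).comap_subtype

theorem card_zsub [Finite G] (Q : Subgroup G) :
    Nat.card (zsub Q) = Nat.card ↥(Q ⊓ Subgroup.centralizer (Q : Set G)) :=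
  Cfsg.Agent.Lib.Helper78_BrauerCorr.card_subgroupOf_of_le inf_le_right

variable [Fintype G] [Fact p.Prime]

/-- For a maximal pair `(Q, e)`, the subgroup `Z(Q)` is a defect group of `e`. -/
theorem isDefectGroup_zsub_of_maximal (hM : IsPModular p M) {B : Set (IrrCharacter G)}
    {Q : Subgroup G} {e : Set (IrrCharacter (Subgroup.centralizer (Q : Set G)))}
    (hmax : IsMaximalBrauerPair p M B Q e) : IsDefectGroup p M e (zsub Q) := by
  classical
  have := Fintype.ofFinite (Subgroup.centralizer (Q : Set G))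
  have hQe := hmax.1.1
  have hB := hmax.1.2.1
  have hQ : IsPGroup p Q := hQe.1
  obtain ⟨g₁, hg₁⟩ := exists_pair_of_subpairLE hM hQe (le_refl Q) hQe.2
    Relation.ReflTransGen.refl
  obtain ⟨D', g', hmax', hle'⟩ := exists_maximal_ge e _ g₁ hg₁
  have hD' : IsDefectGroup p M e D' := isDefectGroup_of_isMaximalBrauerPair hM hmax'
  have hnorm := isNormalSubpair_of_isBrauerPairOf hQ hmax'.1
  have hstep : SubpairLE p M Q e (supSub Q D') (mapBlock (centIso Q D').symm g') :=
    Relation.ReflTransGen.single hnorm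
  have hR'B : IsBrauerPairOf p M B (supSub Q D') (mapBlock (centIso Q D').symm g') :=
    (isBrauerPairOf_iff_of_subpairLE hM hstep hB).mpr hmax.1
  have heq : supSub Q D' = Q := hmax.2 _ _ hR'B hstep
  have hD'Z : D' ≤ zsub Q := by
    intro d hd
    rw [Subgroup.mem_subgroupOf]
    refine ⟨?_, d.2⟩
    have h1 : (d : G) ∈ supSub Q D' := map_le_supSub Q D' ⟨d, hd, rfl⟩
    rwa [heq] at h1
  have hZD' : zsub Q ≤ D' := le_of_chain hle'
  rw [le_antisymm hZD' hD'Z]
  exact hD'

/-- If `Z(Q)` is a defect group of `e` and all `p`-elements of the stabilizer of `(Q, e)` lie in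
`Q C_G(Q)`, then a Brauer pair `(Q, e)` of `B` is maximal. -/
theorem isMaximal_of_conditions (hM : IsPModular p M) {B : Set (IrrCharacter G)}
    {Q : Subgroup G} {e : Set (IrrCharacter (Subgroup.centralizer (Q : Set G)))}
    (hBe : IsBrauerPairOf p M B Q e) (hZ : IsDefectGroup p M e (zsub Q))
    (h3 : ∀ g : G, g ∈ Subgroup.normalizer (Q : Set G) →
      StabilizesBlock (Subgroup.centralizer (Q : Set G)) e g → (∃ k : ℕ, orderOf g = p ^ k) →
      g ∈ Q ⊔ Subgroup.centralizer (Q : Set G)) :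
    IsMaximalBrauerPair p M B Q e := by
  classical
  have := Fintype.ofFinite (Subgroup.centralizer (Q : Set G))
  have hMp := isPrime_of_isPModular hM
  have hQ : IsPGroup p Q := hBe.1.1
  have he : IsPBlock M e := hBe.1.2
  refine ⟨hBe, fun R g hRg hle => ?_⟩
  by_contra hne
  have hQR : Q ≤ R := le_of_chain hle
  have hlt : Q < R := lt_of_le_of_ne hQR (Ne.symm hne)
  have hRp : IsPGroup p R := hRg.1.1
  have hlt1 : Q < R ⊓ Subgroup.normalizer (Q : Set G) := lt_inf_normalizer hRp hlt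
  obtain ⟨g₁, hg₁, hg₁le⟩ := exists_subpairLE hM hRg.1 (R ⊓ Subgroup.normalizer (Q : Set G))
    inf_le_left
  have hR₁p : IsPGroup p ↥(R ⊓ Subgroup.normalizer (Q : Set G)) := hRp.to_le inf_le_left
  have hR₁g₁ : IsBrauerPair p M (R ⊓ Subgroup.normalizer (Q : Set G)) g₁ := ⟨hR₁p, hg₁⟩
  obtain ⟨f₁, hf₁, -⟩ := existsUnique_isNormalSubpair hM (R ⊓ Subgroup.normalizer (Q : Set G)) Q
    g₁ hR₁g₁ hlt1.le inf_le_right
  have hle₁ : SubpairLE p M Q f₁ R g :=
    Relation.ReflTransGen.head (show NormalSubpairRel p M (⟨Q, f₁⟩ : BrauerPairIdx G)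
      ⟨R ⊓ Subgroup.normalizer (Q : Set G), g₁⟩ from hf₁) hg₁le
  have hff : f₁ = e := subpairLE_unique hM R g Q f₁ e hle₁ hle
  rw [hff] at hf₁
  -- the normal step lies in `Q C_G(Q)`
  have hR₁QC : R ⊓ Subgroup.normalizer (Q : Set G) ≤ Q ⊔ Subgroup.centralizer (Q : Set G) := by
    intro x hx
    apply h3 x hx.2 (hf₁.2.2.2.2.1 x hx)
    obtain ⟨k, hk⟩ := (IsPGroup.iff_orderOf.mp hR₁p) ⟨x, hx⟩
    refine ⟨k, ?_⟩
    rw [← hk]
    exact (Subgroup.orderOf_mk x hx).symm
  -- `C_{R₁}(Q)` lies in a defect group of `e`, which is `Z(Q)`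
  obtain ⟨g', hg'⟩ := exists_pair_of_subpairLE hM hR₁g₁ hlt1.le he
    (Relation.ReflTransGen.single hf₁)
  obtain ⟨E, hE, hD₁E⟩ := exists_isDefectGroup_ge_of_pair hM hg'
  have hZE : zsub Q ≤ E :=
    Cfsg.Agent.Lib.Helper77_QuotDefect2.le_of_isDefectGroup hM (zsub Q) (zsub_isPGroup hQ) he hE
  have hcard : Nat.card E = Nat.card (zsub Q) :=
    Cfsg.Agent.Lib.Helper78_FirstMainGT.isDefectGroup_card_eq hM he hZ hE
  have hEZ : zsub Q = E := Subgroup.eq_of_le_of_card_ge hZE hcard.le
  have hQN : Q ≤ Subgroup.normalizer ((Subgroup.centralizer (Q : Set G) : Subgroup G) : Set G) :=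
    Subgroup.le_normalizer.trans (normalizer_le Q)
  have hR₁Q : R ⊓ Subgroup.normalizer (Q : Set G) ≤ Q := by
    intro x hx
    have h1 : x ∈ ((Q ⊔ Subgroup.centralizer (Q : Set G) : Subgroup G) : Set G) := hR₁QC hx
    rw [Subgroup.coe_mul_of_left_le_normalizer_right Q _ hQN] at h1
    obtain ⟨q, hq, c, hc, rfl⟩ := h1
    have hcR : c ∈ R ⊓ Subgroup.normalizer (Q : Set G) := by
      have h2 : c = q⁻¹ * (q * c) := by group
      rw [h2]
      exact Subgroup.mul_mem _ (Subgroup.inv_mem _ (hlt1.le hq)) hx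
    have hcZ : (⟨c, hc⟩ : Subgroup.centralizer (Q : Set G)) ∈ zsub Q := by
      rw [hEZ]
      apply hD₁E
      rw [Subgroup.mem_subgroupOf]
      exact ⟨hcR, hc⟩
    rw [Subgroup.mem_subgroupOf] at hcZ
    exact Subgroup.mul_mem _ hq hcZ.1
  exact (not_le_of_gt hlt1) hR₁Q

/-- Degree formula when the idempotent of the block `F` of `T` is the idempotent of the block `c`
of the subgroup `K ≤ T`. -/
theorem sum_deg_sq_eq_relIndex_mul [Finite G] {K T : Subgroup G} (hKT : K ≤ T)
    {c : Set (IrrCharacter K)} {F : Set (IrrCharacter T)}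
    (h1 : blockCoeff F 1 = blockCoeff c 1) :
    ∑ᶠ χ ∈ F, charDegree (χ : T → ℂ) ^ 2 =
      K.relIndex T * ∑ᶠ θ ∈ c, charDegree (θ : K → ℂ) ^ 2 := by
  rw [Cfsg.Agent.Lib.Helper77_StableCover.blockCoeff_one_eq,
    Cfsg.Agent.Lib.Helper77_StableCover.blockCoeff_one_eq] at h1
  have hT0 : (Nat.card T : ℂ) ≠ 0 := by exact_mod_cast (Nat.card_pos (α := T)).ne'
  have hK0 : (Nat.card K : ℂ) ≠ 0 := by exact_mod_cast (Nat.card_pos (α := K)).ne'
  have hcard : (Nat.card T : ℂ) = (K.relIndex T : ℂ) * (Nat.card K : ℂ) := by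
    have := Cfsg.Agent.Lib.Helper51_Offender.card_mul_relIndex hKT
    rw [← this]
    push_cast
    ring
  have h3 : ((∑ᶠ χ ∈ F, charDegree (χ : T → ℂ) ^ 2 : ℕ) : ℂ) =
      ((K.relIndex T * ∑ᶠ θ ∈ c, charDegree (θ : K → ℂ) ^ 2 : ℕ) : ℂ) := by
    rw [hcard] at h1
    have hidx0 : (K.relIndex T : ℂ) ≠ 0 := by
      intro h0
      rw [h0, zero_mul] at hcard
      exact hT0 hcard
    field_simp at h1
    rw [Nat.cast_mul]
    linear_combination h1
  exact_mod_cast h3

/-- For a maximal pair `(Q, e)`, every `p`-element of the stabilizer of the pair lies in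
`Q C_G(Q)`. -/
theorem mem_sup_of_maximal (hM : IsPModular p M) {B : Set (IrrCharacter G)}
    {Q : Subgroup G} {e : Set (IrrCharacter (Subgroup.centralizer (Q : Set G)))}
    (hmax : IsMaximalBrauerPair p M B Q e) (g : G)
    (hgN : g ∈ Subgroup.normalizer (Q : Set G))
    (hgS : StabilizesBlock (Subgroup.centralizer (Q : Set G)) e g)
    (hgp : ∃ k : ℕ, orderOf g = p ^ k) : g ∈ Q ⊔ Subgroup.centralizer (Q : Set G) := by
  classical
  have hp : p.Prime := Fact.out
  have hMp := isPrime_of_isPModular hM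
  have hQe := hmax.1.1
  have hB := hmax.1.2.1
  have hQ : IsPGroup p Q := hQe.1
  have he : IsPBlock M e := hQe.2
  set T : Subgroup G := Cfsg.Agent.Lib.Helper78_Saturated.stabPair Q e with hTdef
  have hT : ∀ y : G, y ∈ T ↔ y ∈ Subgroup.normalizer (Q : Set G) ∧
      StabilizesBlock (Subgroup.centralizer (Q : Set G)) e y :=
    Cfsg.Agent.Lib.Helper78_Saturated.mem_stabPair_iff hMp he
  have := Fintype.ofFinite T
  have := Fintype.ofFinite (Subgroup.centralizer (Q : Set G))
  obtain ⟨F, hF, hFc⟩ := Cfsg.Agent.Lib.Helper78_StabBlock.exists_block_stabilizer' hM hQ he T hT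
  obtain ⟨hR₁T, g₁, hg₁⟩ := Cfsg.Agent.Lib.Helper78_PairStab.pair_of_normalizer hM hQe (le_refl Q)
    he Relation.ReflTransGen.refl T hT hF hFc
  obtain ⟨D', g', hmax', hle'⟩ := exists_maximal_ge F _ g₁ hg₁
  have hD' : IsDefectGroup p M F D' := isDefectGroup_of_isMaximalBrauerPair hM hmax'
  have hD₁D' : (Q ⊓ Subgroup.normalizer (Q : Set G)).subgroupOf T ≤ D' := le_of_chain hle'
  have hQD' : Q ≤ D'.map T.subtype := by
    intro q hq
    have hq1 : q ∈ Q ⊓ Subgroup.normalizer (Q : Set G) := ⟨hq, Subgroup.le_normalizer hq⟩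
    exact ⟨⟨q, hR₁T hq1⟩, hD₁D' (by rw [Subgroup.mem_subgroupOf]; exact hq1), rfl⟩
  have hnorm := Cfsg.Agent.Lib.Helper78_PairStab.isNormalSubpair_of_isBrauerPairOf hQ he hT D'
    hQD' hFc hmax'.1
  have hstep : SubpairLE p M Q e (D'.map T.subtype)
      (mapBlock (Cfsg.Agent.Lib.Helper78_PairStab.centIsoT
        (Cfsg.Agent.Lib.Helper78_PairStab.centralizer_le_stab hT) D' hQD').symm g') :=
    Relation.ReflTransGen.single hnorm
  have hR'B : IsBrauerPairOf p M B (D'.map T.subtype)
      (mapBlock (Cfsg.Agent.Lib.Helper78_PairStab.centIsoT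
        (Cfsg.Agent.Lib.Helper78_PairStab.centralizer_le_stab hT) D' hQD').symm g') :=
    (isBrauerPairOf_iff_of_subpairLE hM hstep hB).mpr hmax.1
  have heq : D'.map T.subtype = Q := hmax.2 _ _ hR'B hstep
  -- the orders
  have hcardD' : Nat.card D' = Nat.card Q := by
    rw [← heq]
    exact (Subgroup.card_map_of_injective (Subgroup.subtype_injective _)).symm
  have hdF := (Cfsg.Agent.Lib.Helper77_CentralDefect.card_of_isDefectGroup hM hF hD').2
  have hZ := isDefectGroup_zsub_of_maximal hM hmax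
  have hde := (Cfsg.Agent.Lib.Helper77_CentralDefect.card_of_isDefectGroup hM he hZ).2
  rw [hcardD'] at hdF
  rw [card_zsub] at hde
  have hCT : Subgroup.centralizer (Q : Set G) ≤ T :=
    Cfsg.Agent.Lib.Helper78_PairStab.centralizer_le_stab hT
  have hQT : Q ≤ T := fun q hq => hR₁T ⟨hq, Subgroup.le_normalizer hq⟩
  have hTN : T ≤ Subgroup.normalizer (Q : Set G) := fun t ht => ((hT t).mp ht).1
  have hone : blockCoeff F 1 = blockCoeff e 1 := by
    rw [hFc 1]
    unfold subgroupBlockCoeff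
    have h1 : ((1 : T) : G) ∈ Subgroup.centralizer (Q : Set G) := by
      rw [Subgroup.coe_one]
      exact Subgroup.one_mem _
    rw [dif_pos h1]
    rfl
  have hsum := sum_deg_sq_eq_relIndex_mul hCT hone
  have hS1 := Cfsg.Agent.S4491.result p M hM F hF
  have hS2 := Cfsg.Agent.S4491.result p M hM e he
  have hepos := Cfsg.Agent.Lib.Helper77_QuotDefect2.finsum_deg_sq_pos hMp he
  have hidxpos : 0 < (Subgroup.centralizer (Q : Set G)).relIndex T := by
    rcases Nat.eq_zero_or_pos ((Subgroup.centralizer (Q : Set G)).relIndex T) with h0 | h0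
    · have h1 := Cfsg.Agent.Lib.Helper51_Offender.card_mul_relIndex hCT
      rw [h0, mul_zero] at h1
      exact absurd h1.symm (Nat.card_pos (α := T)).ne'
    · exact h0
  have haT : (Nat.card T).factorization p =
      ((Subgroup.centralizer (Q : Set G)).relIndex T).factorization p +
        (Nat.card (Subgroup.centralizer (Q : Set G))).factorization p := by
    rw [← Cfsg.Agent.Lib.Helper51_Offender.card_mul_relIndex hCT,
      Nat.factorization_mul (Nat.card_pos).ne' hidxpos.ne', Finsupp.add_apply, add_comm]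
  have hν : (∑ᶠ χ ∈ F, charDegree (χ : T → ℂ) ^ 2).factorization p =
      ((Subgroup.centralizer (Q : Set G)).relIndex T).factorization p +
        (∑ᶠ θ ∈ e, charDegree (θ : Subgroup.centralizer (Q : Set G) → ℂ) ^ 2).factorization p := by
    rw [hsum, Nat.factorization_mul hidxpos.ne' hepos.ne', Finsupp.add_apply]
  have hd1 : blockDefect p F ≤ (Nat.card T).factorization p := Nat.sub_le _ _
  have hd2 : blockDefect p e ≤ (Nat.card (Subgroup.centralizer (Q : Set G))).factorization p :=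
    Nat.sub_le _ _
  have hqf : (Nat.card Q).factorization p = blockDefect p F := by
    rw [hdF, Nat.Prime.factorization_pow hp]
    simp
  have hzf : (Nat.card ↥(Q ⊓ Subgroup.centralizer (Q : Set G))).factorization p =
      blockDefect p e := by
    rw [hde, Nat.Prime.factorization_pow hp]
    simp
  have hprod := Cfsg.Agent.Lib.Helper51_Offender.card_sup_mul_card_inf Q
    (Subgroup.centralizer (Q : Set G)) (Cfsg.Agent.Lib.Helper78_PairStab.centralizer_le_stab hT
      |>.trans hTN)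
  have hprodf : (Nat.card ↥(Q ⊔ Subgroup.centralizer (Q : Set G))).factorization p +
      (Nat.card ↥(Q ⊓ Subgroup.centralizer (Q : Set G))).factorization p =
      (Nat.card Q).factorization p +
        (Nat.card (Subgroup.centralizer (Q : Set G))).factorization p := by
    rw [← Finsupp.add_apply, ← Finsupp.add_apply,
      ← Nat.factorization_mul (Nat.card_pos).ne' (Nat.card_pos).ne',
      ← Nat.factorization_mul (Nat.card_pos).ne' (Nat.card_pos).ne', hprod]
  -- the normal subgroup `Q C_G(Q)` of `T`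
  have hQCT : Q ⊔ Subgroup.centralizer (Q : Set G) ≤ T := sup_le hQT hCT
  have hQNC : Q ≤ Subgroup.normalizer
      ((Subgroup.centralizer (Q : Set G) : Subgroup G) : Set G) :=
    Subgroup.le_normalizer.trans (normalizer_le Q)
  have hconj : ∀ t ∈ T, ∀ x ∈ Q ⊔ Subgroup.centralizer (Q : Set G),
      t * x * t⁻¹ ∈ Q ⊔ Subgroup.centralizer (Q : Set G) := by
    intro t ht x hx
    have htN : t ∈ Subgroup.normalizer (Q : Set G) := hTN ht
    have htC : t ∈ Subgroup.normalizer
        ((Subgroup.centralizer (Q : Set G) : Subgroup G) : Set G) := normalizer_le Q htN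
    have h1 : x ∈ ((Q ⊔ Subgroup.centralizer (Q : Set G) : Subgroup G) : Set G) := hx
    rw [Subgroup.coe_mul_of_left_le_normalizer_right Q _ hQNC] at h1
    obtain ⟨q, hq, c, hc, rfl⟩ := h1
    have e1 : t * (q * c) * t⁻¹ = (t * q * t⁻¹) * (t * c * t⁻¹) := by group
    rw [e1]
    exact Subgroup.mul_mem_sup ((Subgroup.mem_normalizer_iff.mp htN q).mp hq)
      ((Subgroup.mem_normalizer_iff.mp htC c).mp hc)
  have hTNQC : T ≤ Subgroup.normalizer
      ((Q ⊔ Subgroup.centralizer (Q : Set G) : Subgroup G) : Set G) := by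
    intro t ht
    rw [Subgroup.mem_normalizer_iff]
    intro x
    refine ⟨hconj t ht x, fun hx => ?_⟩
    have h1 := hconj t⁻¹ (Subgroup.inv_mem _ ht) _ hx
    have e1 : t⁻¹ * (t * x * t⁻¹) * t⁻¹⁻¹ = x := by group
    rwa [e1] at h1
  have hnormal : ((Q ⊔ Subgroup.centralizer (Q : Set G)).subgroupOf T).Normal :=
    Subgroup.normal_subgroupOf_of_le_normalizer hTNQC
  have hcardQC := Cfsg.Agent.Lib.Helper51_Offender.card_mul_relIndex hQCT
  have hidx2pos : 0 < (Q ⊔ Subgroup.centralizer (Q : Set G)).relIndex T := by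
    rcases Nat.eq_zero_or_pos ((Q ⊔ Subgroup.centralizer (Q : Set G)).relIndex T) with h0 | h0
    · rw [h0, mul_zero] at hcardQC
      exact absurd hcardQC.symm (Nat.card_pos (α := T)).ne'
    · exact h0
  have hfQC : (Nat.card ↥(Q ⊔ Subgroup.centralizer (Q : Set G))).factorization p +
      ((Q ⊔ Subgroup.centralizer (Q : Set G)).relIndex T).factorization p =
      (Nat.card T).factorization p := by
    rw [← hcardQC, Nat.factorization_mul (Nat.card_pos).ne' hidx2pos.ne', Finsupp.add_apply]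
  have hidx : ¬ p ∣ ((Q ⊔ Subgroup.centralizer (Q : Set G)).subgroupOf T).index := by
    intro hdvd
    have h1 : 1 ≤ ((Q ⊔ Subgroup.centralizer (Q : Set G)).relIndex T).factorization p :=
      (hp.dvd_iff_one_le_factorization hidx2pos.ne').mp hdvd
    omega
  obtain ⟨k, hk⟩ := hgp
  have hgT : g ∈ T := (hT g).mpr ⟨hgN, hgS⟩
  have hmem := mem_of_orderOf_pow_of_index (p := p)
    ((Q ⊔ Subgroup.centralizer (Q : Set G)).subgroupOf T) hidx ⟨g, hgT⟩ k
    (by rw [← hk]; exact Subgroup.orderOf_mk g hgT)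
  rw [Subgroup.mem_subgroupOf] at hmem
  exact hmem

end Pairs

end Cfsg.Agent.Lib.Helper16_MaxPairChar
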