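import Mathlib
import Cfsg.Agent.Lib.Helper32_OFDefs

set_option autoImplicit false
set_option linter.unusedSimpArgs false
set_option linter.unusedVariables false
set_option linter.unusedSectionVars false

/-!
Definitions for CASE (A) of the orthogonal frame rows S5679 / S5696 (helper98): theorem `T(m)`.

Setting (helper94 + helper32): `Q : V → F`, `B` its polar form, `OFr Q B c e` an orthogonal frame
(basis) with `Q (e i) = c ≠ 0`, `co B c e v i` the coordinates.  `L` is a group of isometries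
containing all sign changes `zJ B c e {k}` and all 3-cycles of the frame.

* `Rf Q B a`      : the reflection in `a` as a TOTAL function of `a` (the identity if `Q a = 0`);
* `XL Q B c L`    : the set `X` of vectors `x` with `Q x = c` whose reflection lies in `L`;
* `ZL Q B L u`    : the set `Z_u` of `z ⟂ u` with `sieg Q B u z ∈ L`;
* `osupp`, `nu`, `part` : support, partial norm `∑_{i ∈ T} x_i²`, partial vector `x_T`;
* `TCtx`          : the standing hypotheses of `T(m)`;
* `InA t`         : `t ∈ {0, 1, 1/4, 1/2} ∪ {roots of 16 t² - 12 t + 1}` (= `cos²` of the angles of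
                    rotations of order at most 5);
* `extU U hc h`   : the extension by the identity on a complement of an automorphism of a subspace.
-/

namespace Cfsg.Agent.Lib.Helper98_OFADefs

open Module Cfsg.Agent.Lib.Helper94_Symp Cfsg.Agent.Lib.Helper94_OrthSmall
  Cfsg.Agent.Lib.Helper94_OrthSiegel Cfsg.Agent.Lib.Helper32_OFDefs

variable {F V : Type*} [Field F] [AddCommGroup V] [Module F V]

section Refl

variable (Q : V → F) (B : LinearMap.BilinForm F V)

open Classical in
/-- the reflection in `a` (the identity if `reflLin Q B a` is not an involution, e.g. `Q a = 0`) -/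
noncomputable def Rf (a : V) : V ≃ₗ[F] V :=
  if h : Function.Involutive (reflLin Q B a) then LinearEquiv.ofInvolutive (reflLin Q B a) h else 1

variable (hQs : ∀ (c : F) (v : V), Q (c • v) = c * c * Q v)
  (hQp : ∀ u v : V, Q (u + v) = Q u + Q v + B u v)

include hQs hQp in
lemma Rf_eq_refl {a : V} (ha : Q a ≠ 0) : Rf Q B a = refl Q B hQs hQp ha := by
  unfold Rf
  rw [dif_pos (reflLin_invol Q B hQs hQp ha)]
  rfl

include hQs hQp in
lemma Rf_apply {a : V} (ha : Q a ≠ 0) (x : V) :
    Rf Q B a x = x - ((Q a)⁻¹ * B x a) • a := by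
  rw [Rf_eq_refl Q B hQs hQp ha, refl_apply]

include hQs hQp in
lemma Rf_mem_oG {a : V} (ha : Q a ≠ 0) : Rf Q B a ∈ oG Q := by
  rw [Rf_eq_refl Q B hQs hQp ha]; exact refl_mem Q B hQs hQp ha

lemma Rf_mul_self (a : V) : Rf Q B a * Rf Q B a = 1 := by
  unfold Rf
  split_ifs with h
  · ext x
    rw [LinearEquiv.mul_apply]
    exact h x
  · rw [one_mul]

lemma Rf_inv (a : V) : (Rf Q B a)⁻¹ = Rf Q B a :=
  inv_eq_of_mul_eq_one_right (Rf_mul_self Q B a)

include hQs hQp in
lemma conj_Rf {g : V ≃ₗ[F] V} (hg : g ∈ oG Q) {a : V} (ha : Q a ≠ 0) :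
    g * Rf Q B a * g⁻¹ = Rf Q B (g a) := by
  have hga : Q (g a) ≠ 0 := by rw [hg]; exact ha
  rw [Rf_eq_refl Q B hQs hQp ha, Rf_eq_refl Q B hQs hQp hga]
  exact conj_refl Q B hQs hQp hg ha

include hQs hQp in
lemma Rf_smul {a : V} (ha : Q a ≠ 0) {t : F} (ht : t ≠ 0) : Rf Q B (t • a) = Rf Q B a := by
  have hta : Q (t • a) ≠ 0 := by
    rw [hQs]; exact mul_ne_zero (mul_ne_zero ht ht) ha
  ext x
  rw [Rf_apply Q B hQs hQp hta, Rf_apply Q B hQs hQp ha, hQs, map_smul, smul_eq_mul, smul_smul]
  congr 2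
  field_simp

/-- the set `X`: vectors of norm `c` whose reflection lies in `L` -/
def XL (c : F) (L : Subgroup (V ≃ₗ[F] V)) : Set V := {x | Q x = c ∧ Rf Q B x ∈ L}

/-- the set `Z_u`: vectors `z ⟂ u` with `sieg Q B u z ∈ L` -/
def ZL (L : Subgroup (V ≃ₗ[F] V)) (u : V) : Set V := {z | B u z = 0 ∧ sieg Q B u z ∈ L}

end Refl

/-- `t ∈ {0, 1, 1/4, 1/2} ∪ {roots of 16 t² - 12 t + 1}` -/
def InA (t : F) : Prop :=
  t = 0 ∨ t = 1 ∨ 4 * t = 1 ∨ 2 * t = 1 ∨ 16 * t * t - 12 * t + 1 = 0

section Coords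

variable {ι : Type*} [Fintype ι] [DecidableEq ι]

open Classical in
/-- the support of `v` with respect to the frame -/
noncomputable def osupp (B : LinearMap.BilinForm F V) (c : F) (e : ι → V) (v : V) : Finset ι :=
  Finset.univ.filter fun i => co B c e v i ≠ 0

/-- the partial norm `∑_{i ∈ T} v_i²` -/
def nu (B : LinearMap.BilinForm F V) (c : F) (e : ι → V) (T : Finset ι) (v : V) : F :=
  ∑ i ∈ T, co B c e v i * co B c e v i

/-- the partial vector `v_T = ∑_{i ∈ T} v_i e_i` -/
def part (B : LinearMap.BilinForm F V) (c : F) (e : ι → V) (T : Finset ι) (v : V) : V :=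
  ∑ i ∈ T, co B c e v i • e i

/-- The standing hypotheses of `T(m)`: `L` is a group of isometries containing the sign changes and
the 3-cycles of the frame `e`, over a prime field. -/
structure TCtx (Q : V → F) (B : LinearMap.BilinForm F V) (c : F) (e : ι → V)
    (L : Subgroup (V ≃ₗ[F] V)) : Prop where
  fr : OFr Q B c e
  hLO : L ≤ oG Q
  hz : ∀ k : ι, zJ B c e {k} ∈ L
  h3 : ∀ a b d : ι, a ≠ b → a ≠ d → b ≠ d → ∃ τ ∈ L, τ (e a) = e b ∧ τ (e b) = e d ∧
    τ (e d) = e a ∧ ∀ i, i ≠ a → i ≠ b → i ≠ d → τ (e i) = e i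
  hp : (Nat.card F).Prime

lemma mem_osupp {B : LinearMap.BilinForm F V} {c : F} {e : ι → V} {v : V} {i : ι} :
    i ∈ osupp B c e v ↔ co B c e v i ≠ 0 := by
  unfold osupp
  simp

end Coords


/-- `x = ± e k` for some `k` -/
def IsPM {ι : Type*} (e : ι → V) (x : V) : Prop := ∃ k, x = e k ∨ x = -e k

section Coords2

variable {ι : Type*} [Fintype ι] [DecidableEq ι]

/-- `x` is a root `(± e i ± e j) / √2` -/
def IsRoot (B : LinearMap.BilinForm F V) (c : F) (e : ι → V) (x : V) : Prop :=
  ∃ i j, i ≠ j ∧ (∀ k, k ≠ i → k ≠ j → co B c e x k = 0) ∧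
    2 * (co B c e x i * co B c e x i) = 1 ∧ 2 * (co B c e x j * co B c e x j) = 1

/-- there is a "tangent" element of `X`: a proper nonempty subset of the support with zero partial
norm -/
def Tang (Q : V → F) (B : LinearMap.BilinForm F V) (c : F) (e : ι → V)
    (L : Subgroup (V ≃ₗ[F] V)) : Prop :=
  ∃ x ∈ XL Q B c L, ∃ T : Finset ι, T.Nonempty ∧ T ⊂ osupp B c e x ∧ nu B c e T x = 0

/-- `u` is a singular vector with at least two zero coordinates such that `e j ∈ Z_u` for every
zero coordinate `j` of `u` -/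
def GoodU (Q : V → F) (B : LinearMap.BilinForm F V) (c : F) (e : ι → V)
    (L : Subgroup (V ≃ₗ[F] V)) (u : V) : Prop :=
  Q u = 0 ∧ u ≠ 0 ∧ 2 ≤ (osupp B c e u)ᶜ.card ∧ ∀ j, co B c e u j = 0 → e j ∈ ZL Q B L u

/-- the generating vectors of the reflection group of the coordinate 3-space `V_T` enlarged by `y`:
the `e k` (`k ∈ T`), the `e i - e j` (`i ≠ j ∈ T`) and `y` -/
def A3 (e : ι → V) (T : Finset ι) (y : V) : Set V :=
  {v | (∃ k ∈ T, v = e k) ∨ (∃ i ∈ T, ∃ j ∈ T, i ≠ j ∧ v = e i - e j) ∨ v = y}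

/-- the rotation subgroup generated by the products of two reflections in vectors of `A` -/
def RotGp (Q : V → F) (B : LinearMap.BilinForm F V) (A : Set V) : Subgroup (V ≃ₗ[F] V) :=
  Subgroup.closure {g | ∃ a ∈ A, ∃ b ∈ A, g = Rf Q B a * Rf Q B b}

/-- the statement about one coordinate 3-space in `Full3` -/
def Full3At (Q : V → F) (B : LinearMap.BilinForm F V) (c : F) (e : ι → V)
    (L : Subgroup (V ≃ₗ[F] V)) (T : Finset ι) : Prop :=
  (∀ w ∈ Submodule.span F (e '' (T : Set ι)), Q w = 0 →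
      ∀ z ∈ Submodule.span F (e '' (T : Set ι)), B w z = 0 → sieg Q B w z ∈ L) ∧
    (∀ v ∈ Submodule.span F (e '' (T : Set ι)), Q v = c → v ∈ XL Q B c L)

/-- for every coordinate 3-space `V_T`: all Siegel elements of `V_T` are in `L` and all vectors of
norm `c` of `V_T` are in `X` -/
def Full3 (Q : V → F) (B : LinearMap.BilinForm F V) (c : F) (e : ι → V)
    (L : Subgroup (V ≃ₗ[F] V)) : Prop :=
  ∀ T : Finset ι, T.card = 3 → Full3At Q B c e L T

end Coords2

section Ext

/-- the extension of an automorphism of `U` by the identity on the complement `U'` -/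
noncomputable def extU (U U' : Submodule F V) (hc : IsCompl U U') (h : U ≃ₗ[F] U) : V ≃ₗ[F] V :=
  (Submodule.prodEquivOfIsCompl U U' hc).symm.trans
    ((h.prodCongr (LinearEquiv.refl F U')).trans (Submodule.prodEquivOfIsCompl U U' hc))

lemma extU_apply (U U' : Submodule F V) (hc : IsCompl U U') (h : U ≃ₗ[F] U) (u : U) (u' : U') :
    extU U U' hc h ((u : V) + (u' : V)) = (h u : V) + (u' : V) := by
  unfold extU
  have h1 : (Submodule.prodEquivOfIsCompl U U' hc).symm ((u : V) + (u' : V)) = (u, u') := by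
    rw [LinearEquiv.symm_apply_eq]
    simp
  simp only [LinearEquiv.trans_apply, h1]
  simp

end Ext

end Cfsg.Agent.Lib.Helper98_OFADefs
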