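import Mathlib
import Cfsg.Agent.Lib.Helper98_OFADefs

set_option autoImplicit false
set_option linter.unusedSectionVars false

/-!
# OFA package API1 (helper54 for helper98): the basic API of the set `X` and of the sign changes.
-/

namespace Cfsg.Agent.Lib.Helper54_OFA_API1

open Module Cfsg.Agent.Lib.Helper94_Symp Cfsg.Agent.Lib.Helper94_OrthSmall
  Cfsg.Agent.Lib.Helper94_OrthSiegel Cfsg.Agent.Lib.Helper32_OFDefs
  Cfsg.Agent.Lib.Helper98_OFADefs

variable {F V : Type*} [Field F] [Finite F] [AddCommGroup V] [Module F V] [FiniteDimensional F V]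
variable {Q : V → F} {B : LinearMap.BilinForm F V}
variable {ι : Type*} [Fintype ι] [DecidableEq ι] {c : F} {e : ι → V}
variable {L : Subgroup (V ≃ₗ[F] V)}

/-- the sign change at one index is the reflection in the frame vector -/
theorem zJ_single (hfr : OFr Q B c e) (k : ι) : zJ B c e {k} = Rf Q B (e k) := by
  have hk : Q (e k) ≠ 0 := by rw [hfr.Qe]; exact hfr.c0
  apply hfr.equiv_ext
  intro i
  rw [hfr.zJ_e, Rf_apply Q B hfr.hQs hfr.hQp hk, hfr.Qe, hfr.Bee']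
  by_cases hik : i = k
  · subst hik
    rw [if_pos (Finset.mem_singleton_self i), if_pos rfl]
    have h1 : c⁻¹ * (2 * c) = 2 := by
      rw [mul_comm, mul_assoc, mul_inv_cancel₀ hfr.c0, mul_one]
    rw [h1, two_smul]
    abel
  · rw [if_neg (by simpa using hik), if_neg hik, mul_zero, zero_smul, sub_zero]

/-- the sign change at `insert k T` -/
theorem zJ_insert (hfr : OFr Q B c e) {k : ι} {T : Finset ι} (hk : k ∉ T) :
    zJ B c e (insert k T) = zJ B c e {k} * zJ B c e T := by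
  apply hfr.equiv_ext
  intro i
  rw [LinearEquiv.mul_apply, hfr.zJ_e, hfr.zJ_e T]
  by_cases hiT : i ∈ T
  · have hik : i ≠ k := fun h => hk (h ▸ hiT)
    rw [if_pos (Finset.mem_insert_of_mem hiT), if_pos hiT, map_neg, hfr.zJ_e,
      if_neg (by simpa using hik)]
  · rw [if_neg hiT, hfr.zJ_e]
    by_cases hik : i = k
    · subst hik
      rw [if_pos (Finset.mem_insert_self i T), if_pos (Finset.mem_singleton_self i)]
    · rw [if_neg (by simp [hik, hiT]), if_neg (by simpa using hik)]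

/-- all sign changes are in `L` -/
theorem zJ_mem (hC : TCtx Q B c e L) (T : Finset ι) : zJ B c e T ∈ L := by
  induction T using Finset.induction_on with
  | empty =>
    rw [hC.fr.zJ_empty]
    exact L.one_mem
  | insert k T hk ih =>
    rw [zJ_insert hC.fr hk]
    exact L.mul_mem (hC.hz k) ih

theorem XL_ne_zero (hfr : OFr Q B c e) {x : V} (hx : x ∈ XL Q B c L) : Q x ≠ 0 := by
  rw [hx.1]
  exact hfr.c0

theorem e_mem_XL (hC : TCtx Q B c e L) (k : ι) : e k ∈ XL Q B c L := by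
  refine ⟨hC.fr.Qe k, ?_⟩
  rw [← zJ_single hC.fr k]
  exact hC.hz k

theorem neg_mem_XL (hC : TCtx Q B c e L) {x : V} (hx : x ∈ XL Q B c L) : -x ∈ XL Q B c L := by
  have h1 : -x = (-1 : F) • x := by rw [neg_smul, one_smul]
  refine ⟨?_, ?_⟩
  · rw [h1, hC.fr.hQs, hx.1]
    ring
  · rw [h1, Rf_smul Q B hC.fr.hQs hC.fr.hQp (XL_ne_zero hC.fr hx) (neg_ne_zero.2 one_ne_zero)]
    exact hx.2

theorem map_mem_XL (hC : TCtx Q B c e L) {g : V ≃ₗ[F] V} (hg : g ∈ L) {x : V}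
    (hx : x ∈ XL Q B c L) : g x ∈ XL Q B c L := by
  have hgO : g ∈ oG Q := hC.hLO hg
  refine ⟨?_, ?_⟩
  · rw [hgO x, hx.1]
  · rw [← conj_Rf Q B hC.fr.hQs hC.fr.hQp hgO (XL_ne_zero hC.fr hx)]
    exact L.mul_mem (L.mul_mem hg hx.2) (L.inv_mem hg)

theorem co_zJ (hfr : OFr Q B c e) (T : Finset ι) (v : V) (i : ι) :
    co B c e (zJ B c e T v) i = if i ∈ T then - co B c e v i else co B c e v i := by
  unfold co
  rw [hfr.B_zJ]
  split_ifs
  · rw [mul_neg]
  · rfl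

/-- OFA-API1 (M). -/
theorem API1 (hC : TCtx Q B c e L) :
    (∀ k, zJ B c e {k} = Rf Q B (e k)) ∧
    (∀ T : Finset ι, zJ B c e T ∈ L) ∧
    (∀ k, e k ∈ XL Q B c L) ∧
    (∀ x ∈ XL Q B c L, -x ∈ XL Q B c L) ∧
    (∀ g ∈ L, ∀ x ∈ XL Q B c L, g x ∈ XL Q B c L) ∧
    (∀ x ∈ XL Q B c L, ∀ y ∈ XL Q B c L, Rf Q B x y ∈ XL Q B c L) ∧
    (∀ (T : Finset ι) (v : V) (i : ι),
      co B c e (zJ B c e T v) i = if i ∈ T then - co B c e v i else co B c e v i) ∧
    ((∃ g ∈ L, ¬ IsMon e g) → ∃ x ∈ XL Q B c L, ¬ IsPM e x) := by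
  refine ⟨zJ_single hC.fr, zJ_mem hC, e_mem_XL hC, fun x hx => neg_mem_XL hC hx,
    fun g hg x hx => map_mem_XL hC hg hx, fun x hx y hy => map_mem_XL hC hx.2 hy,
    co_zJ hC.fr, ?_⟩
  rintro ⟨g, hg, hmon⟩
  unfold IsMon at hmon
  push Not at hmon
  obtain ⟨i, hi⟩ := hmon
  refine ⟨g (e i), map_mem_XL hC hg (e_mem_XL hC i), ?_⟩
  rintro ⟨k, hk⟩
  rcases hk with hk | hk
  · exact (hi k).1 hk
  · exact (hi k).2 hk

end Cfsg.Agent.Lib.Helper54_OFA_API1
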