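import Mathlib
import Cfsg.Agent.Lib.Helper98_OFADefs
import Cfsg.Agent.Lib.Helper54_OFA_API1

set_option autoImplicit false
set_option linter.unusedSectionVars false
set_option linter.unusedVariables false

/-!
# OFA package F4 (helper78 for helper98)

`x ∈ X` of support four with all coordinates `± 1/2`: with a 3-cycle `τ` moving one support index to
a free index, `x' = Rf x (τ x) = τ x - (3/2) x ∈ X` has support five.
-/

namespace Cfsg.Agent.Lib.Helper78_OFA_F4

open Module Cfsg.Agent.Lib.Helper94_Symp Cfsg.Agent.Lib.Helper94_OrthSmall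
  Cfsg.Agent.Lib.Helper94_OrthSiegel Cfsg.Agent.Lib.Helper32_OFDefs
  Cfsg.Agent.Lib.Helper98_OFADefs

variable {F V : Type*} [Field F] [Finite F] [AddCommGroup V] [Module F V] [FiniteDimensional F V]
variable {Q : V → F} {B : LinearMap.BilinForm F V}
variable {ι : Type*} [Fintype ι] [DecidableEq ι] {c : F} {e : ι → V}
variable {L : Subgroup (V ≃ₗ[F] V)}

omit [AddCommGroup V] [Module F V] [FiniteDimensional F V] in
/-- a natural number smaller than the (prime) cardinality of the field is nonzero in the field -/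
theorem natCast_ne_zero (hp : (Nat.card F).Prime) (n : ℕ) (hn0 : n ≠ 0) (hn : n < Nat.card F) :
    ((n : ℕ) : F) ≠ 0 := by
  have := Fintype.ofFinite F
  have hcard : ((Nat.card F : ℕ) : F) = 0 := by
    rw [Nat.card_eq_fintype_card]
    exact Nat.cast_card_eq_zero F
  have h1 : ringChar F ∣ Nat.card F := (ringChar.spec F _).mp hcard
  have h2 : ringChar F = Nat.card F := by
    rcases (Nat.dvd_prime hp).mp h1 with h | h
    · exact absurd h (CharP.ringChar_ne_one)
    · exact h
  intro h0
  have h3 : ringChar F ∣ n := (ringChar.spec F _).mp h0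
  rw [h2] at h3
  have := Nat.le_of_dvd (Nat.pos_of_ne_zero hn0) h3
  omega

omit [Finite F] [FiniteDimensional F V] [Fintype ι] [DecidableEq ι] in
theorem co_sub_smul (x y : V) (t : F) (i : ι) :
    co B c e (y - t • x) i = co B c e y i - t * co B c e x i := by
  unfold co
  rw [map_sub, map_smul, LinearMap.sub_apply, LinearMap.smul_apply, smul_eq_mul]
  ring

/-- OFA-F4 (M). -/
theorem F4 (hC : TCtx Q B c e L) (hm : 6 ≤ Fintype.card ι) (hp5 : 5 ≤ Nat.card F) {x : V}
    (hx : x ∈ XL Q B c L) (hs : (osupp B c e x).card = 4)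
    (hq : ∀ i ∈ osupp B c e x, 4 * (co B c e x i * co B c e x i) = 1) :
    ∃ x' ∈ XL Q B c L, (osupp B c e x').card = 5 := by
  have hfr := hC.fr
  have h2 : (2 : F) ≠ 0 := hfr.h2
  have h3 : (3 : F) ≠ 0 := by
    have := natCast_ne_zero (F := F) hC.hp 3 (by norm_num) (by omega)
    exact_mod_cast this
  have h4 : (4 : F) ≠ 0 := by
    have : (4 : F) = 2 * 2 := by norm_num
    rw [this]
    exact mul_ne_zero h2 h2
  have hc0 : c ≠ 0 := hfr.c0
  set S := osupp B c e x with hS
  -- the indices
  obtain ⟨i4, hi4⟩ : S.Nonempty := Finset.card_pos.mp (by omega)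
  have hcompl : 1 < Sᶜ.card := by
    rw [Finset.card_compl, hs]
    omega
  obtain ⟨j, hj, j', hj', hjj'⟩ := Finset.one_lt_card.mp hcompl
  have hjS : j ∉ S := Finset.mem_compl.mp hj
  have hj'S : j' ∉ S := Finset.mem_compl.mp hj'
  have hxj : co B c e x j = 0 := by
    by_contra hne
    exact hjS (mem_osupp.mpr hne)
  have hxj' : co B c e x j' = 0 := by
    by_contra hne
    exact hj'S (mem_osupp.mpr hne)
  have hxi4 : co B c e x i4 ≠ 0 := mem_osupp.mp hi4
  have hi4j : i4 ≠ j := fun h => hjS (h ▸ hi4)
  have hi4j' : i4 ≠ j' := fun h => hj'S (h ▸ hi4)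
  obtain ⟨τ, hτL, ht1, ht2, ht3, ht4⟩ := hC.h3 i4 j j' hi4j hi4j' hjj'
  have hτO : τ ∈ oG Q := hC.hLO hτL
  -- the coordinates of `τ x`
  have hco : ∀ i i' : ι, τ (e i') = e i → co B c e (τ x) i = co B c e x i' := by
    intro i i' hii
    unfold co
    rw [← hii, oG_B Q B hfr.hQp hτO]
  have hcj : co B c e (τ x) j = co B c e x i4 := hco j i4 ht1
  have hcj' : co B c e (τ x) j' = 0 := by rw [hco j' j ht2, hxj]
  have hci4 : co B c e (τ x) i4 = 0 := by rw [hco i4 j' ht3, hxj']
  have hcother : ∀ i, i ≠ i4 → i ≠ j → i ≠ j' → co B c e (τ x) i = co B c e x i :=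
    fun i h1 h2 h3 => hco i i (ht4 i h1 h2 h3)
  -- membership
  have hxd : τ x ∈ XL Q B c L := Cfsg.Agent.Lib.Helper54_OFA_API1.map_mem_XL hC hτL hx
  have hx' : Rf Q B x (τ x) ∈ XL Q B c L :=
    Cfsg.Agent.Lib.Helper54_OFA_API1.map_mem_XL hC hx.2 hxd
  have hQx : Q x ≠ 0 := by rw [hx.1]; exact hc0
  -- the inner product
  have hsum : ∑ i, co B c e (τ x) i * co B c e x i = 3 * 4⁻¹ := by
    have hsub : S.erase i4 ⊆ Finset.univ := Finset.subset_univ _
    rw [← Finset.sum_subset hsub]
    · have hconst : ∀ i ∈ S.erase i4, co B c e (τ x) i * co B c e x i = 4⁻¹ := by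
        intro i hi
        have hiS : i ∈ S := Finset.mem_of_mem_erase hi
        have hne : i ≠ i4 := Finset.ne_of_mem_erase hi
        have hnj : i ≠ j := fun h => hjS (h ▸ hiS)
        have hnj' : i ≠ j' := fun h => hj'S (h ▸ hiS)
        rw [hcother i hne hnj hnj']
        have := hq i hiS
        field_simp
        linear_combination this
      rw [Finset.sum_congr rfl hconst, Finset.sum_const, Finset.card_erase_of_mem hi4, hs]
      norm_num
    · intro i _ hi
      by_cases hiS : i ∈ S
      · have : i = i4 := by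
          by_contra hne
          exact hi (Finset.mem_erase.mpr ⟨hne, hiS⟩)
        rw [this, hci4, zero_mul]
      · have : co B c e x i = 0 := by
          by_contra hne
          exact hiS (mem_osupp.mpr hne)
        rw [this, mul_zero]
  have hlam : (Q x)⁻¹ * B (τ x) x = 3 * 2⁻¹ := by
    rw [hx.1, hfr.B_eq, hsum]
    field_simp
    norm_num
  have hform : Rf Q B x (τ x) = τ x - (3 * 2⁻¹ : F) • x := by
    rw [Rf_apply Q B hfr.hQs hfr.hQp hQx, hlam]
  refine ⟨Rf Q B x (τ x), hx', ?_⟩
  have hsupp : osupp B c e (Rf Q B x (τ x)) = insert j S := by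
    ext i
    rw [mem_osupp, hform, co_sub_smul, Finset.mem_insert]
    by_cases hij : i = j
    · subst hij
      rw [hcj, hxj, mul_zero, sub_zero]
      exact ⟨fun _ => Or.inl rfl, fun _ => hxi4⟩
    · by_cases hij' : i = j'
      · subst hij'
        rw [hcj', hxj', mul_zero, sub_zero]
        constructor
        · intro h; exact absurd rfl h
        · rintro (h | h)
          · exact absurd h hij
          · exact absurd h hj'S
      · by_cases hii4 : i = i4
        · subst hii4
          rw [hci4, zero_sub]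
          constructor
          · intro _; exact Or.inr hi4
          · intro _
            exact neg_ne_zero.mpr (mul_ne_zero (mul_ne_zero h3 (inv_ne_zero h2)) hxi4)
        · rw [hcother i hii4 hij hij']
          have e1 : co B c e x i - 3 * 2⁻¹ * co B c e x i = (-(2 : F)⁻¹) * co B c e x i := by
            field_simp
            ring
          rw [e1]
          constructor
          · intro h
            right
            exact mem_osupp.mpr (right_ne_zero_of_mul h)
          · rintro (h | h)
            · exact absurd h hij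
            · exact mul_ne_zero (neg_ne_zero.mpr (inv_ne_zero h2)) (mem_osupp.mp h)
  rw [hsupp, Finset.card_insert_of_notMem hjS, hs]

end Cfsg.Agent.Lib.Helper78_OFA_F4
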