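import Mathlib
import Cfsg.Agent.Lib.Helper98_OFADefs
import Cfsg.Agent.Lib.Helper78_OFA_F4

set_option autoImplicit false
set_option linter.unusedSectionVars false
set_option linter.unusedVariables false
set_option linter.unusedSimpArgs false

namespace Cfsg.Agent.Lib.Helper70_OFA_SMALL5

open Module Cfsg.Agent.Lib.Helper94_Symp Cfsg.Agent.Lib.Helper94_OrthSmall
  Cfsg.Agent.Lib.Helper94_OrthSiegel Cfsg.Agent.Lib.Helper32_OFDefs
  Cfsg.Agent.Lib.Helper98_OFADefs

section T

variable {F V : Type*} [Field F] [Finite F] [AddCommGroup V] [Module F V] [FiniteDimensional F V]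
variable {Q : V → F} {B : LinearMap.BilinForm F V}
variable {ι : Type*} [Fintype ι] [DecidableEq ι] {c : F} {e : ι → V}
variable {L : Subgroup (V ≃ₗ[F] V)}

omit [Finite F] [FiniteDimensional F V] in
lemma sum_univ_eq_osupp (y : V) :
    ∑ i, co B c e y i * co B c e y i = ∑ i ∈ osupp B c e y, co B c e y i * co B c e y i := by
  symm
  apply Finset.sum_subset (Finset.subset_univ _)
  intro i _ hi
  rw [mem_osupp, not_not] at hi
  rw [hi, mul_zero]

omit [FiniteDimensional F V] in
lemma five_eq_zero (h5 : Nat.card F = 5) : (5 : F) = 0 := by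
  have : Fintype F := Fintype.ofFinite F
  have h := Nat.cast_card_eq_zero F
  rw [← Nat.card_eq_fintype_card, h5] at h
  exact_mod_cast h

omit [FiniteDimensional F V] in
lemma sq_pm_one (h5 : Nat.card F = 5) {a : F} (ha : a ≠ 0) : a * a = 1 ∨ a * a = -1 := by
  have : Fintype F := Fintype.ofFinite F
  have h := FiniteField.pow_card_sub_one_eq_one a ha
  rw [← Nat.card_eq_fintype_card, h5] at h
  have h' : (a * a - 1) * (a * a + 1) = 0 := by
    have : (a * a - 1) * (a * a + 1) = a ^ (5 - 1) - 1 := by ring
    rw [this, h, sub_self]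
  rcases mul_eq_zero.1 h' with h1 | h1
  · exact Or.inl (sub_eq_zero.1 h1)
  · exact Or.inr (eq_neg_of_add_eq_zero_left h1)

omit [FiniteDimensional F V] in
lemma dvd_of_cast_eq_zero (h5 : Nat.card F = 5) {n : ℕ} (hn : (n : F) = 0) : 5 ∣ n := by
  have : CharP F 5 := by
    rw [CharP.charP_iff_prime_eq_zero (by norm_num : Nat.Prime 5)]
    exact_mod_cast five_eq_zero h5
  exact (CharP.cast_eq_zero_iff F 5 n).1 hn

/-- The trichotomy for `p = 5`. -/
lemma small5_core (hfr : OFr Q B c e) (h5 : Nat.card F = 5) {y : V} (hy : y ∈ XL Q B c L) :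
    Tang Q B c e L ∨ (osupp B c e y).card = 1 ∨
      ((osupp B c e y).card = 4 ∧
        ∀ i ∈ osupp B c e y, 4 * (co B c e y i * co B c e y i) = 1) := by
  have h50 : (5 : F) = 0 := five_eq_zero h5
  have hsum : ∑ i ∈ osupp B c e y, co B c e y i * co B c e y i = 1 := by
    have h1 := hfr.Q_eq y
    rw [hy.1, sum_univ_eq_osupp] at h1
    have h2 : c * (∑ i ∈ osupp B c e y, co B c e y i * co B c e y i) = c * 1 := by
      rw [mul_one]; exact h1.symm
    exact mul_left_cancel₀ hfr.c0 h2
  have hpm : ∀ i ∈ osupp B c e y,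
      co B c e y i * co B c e y i = 1 ∨ co B c e y i * co B c e y i = -1 :=
    fun i hi => sq_pm_one h5 (mem_osupp.1 hi)
  have h1ne : (1 : F) ≠ -1 := by
    intro h
    apply hfr.h2
    have : (2 : F) = 1 + 1 := by norm_num
    rw [this]; nth_rewrite 2 [h]; ring
  by_cases hP : ∃ i ∈ osupp B c e y, co B c e y i * co B c e y i = 1
  · by_cases hN : ∃ j ∈ osupp B c e y, co B c e y j * co B c e y j = -1
    · -- both signs
      obtain ⟨i, hi, hi1⟩ := hP
      obtain ⟨j, hj, hj1⟩ := hN
      have hij : i ≠ j := by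
        rintro rfl
        rw [hi1] at hj1; exact h1ne hj1
      left
      refine ⟨y, hy, {i, j}, ⟨i, Finset.mem_insert_self _ _⟩, ⟨?_, ?_⟩, ?_⟩
      · intro k hk
        rcases Finset.mem_insert.1 hk with rfl | hk
        · exact hi
        · rw [Finset.mem_singleton.1 hk]; exact hj
      · intro hsub
        have hS : osupp B c e y = {i, j} := by
          apply Finset.Subset.antisymm hsub
          intro k hk
          rcases Finset.mem_insert.1 hk with rfl | hk
          · exact hi
          · rw [Finset.mem_singleton.1 hk]; exact hj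
        rw [hS, Finset.sum_pair hij, hi1, hj1] at hsum
        have : (1 : F) + -1 = 0 := by ring
        rw [this] at hsum
        exact zero_ne_one hsum
      · unfold nu
        rw [Finset.sum_pair hij, hi1, hj1]; ring
    · -- all `+1`
      have hall : ∀ i ∈ osupp B c e y, co B c e y i * co B c e y i = 1 := by
        intro i hi
        rcases hpm i hi with h | h
        · exact h
        · exact absurd ⟨i, hi, h⟩ hN
      have hcard : ((osupp B c e y).card : F) = 1 := by
        rw [← hsum, Finset.sum_congr rfl hall, Finset.sum_const, nsmul_eq_mul, mul_one]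
      have hpos : 1 ≤ (osupp B c e y).card := by
        rcases Nat.eq_zero_or_pos (osupp B c e y).card with h0 | h0
        · rw [h0, Nat.cast_zero] at hcard; exact absurd hcard zero_ne_one
        · exact h0
      obtain ⟨m, hm⟩ : ∃ m, (osupp B c e y).card = m + 1 := ⟨_, (Nat.sub_add_cancel hpos).symm⟩
      have hm0 : (m : F) = 0 := by
        rw [hm, Nat.cast_add, Nat.cast_one] at hcard
        exact add_eq_right.1 hcard
      have hdvd := dvd_of_cast_eq_zero h5 hm0
      rcases Nat.eq_zero_or_pos m with h0 | h0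
      · right; left; rw [hm, h0]
      · left
        have h6 : 6 ≤ (osupp B c e y).card := by
          have := Nat.le_of_dvd h0 hdvd
          omega
        obtain ⟨T, hTS, hT5⟩ := Finset.exists_subset_card_eq (show 5 ≤ (osupp B c e y).card by omega)
        refine ⟨y, hy, T, ?_, ⟨hTS, fun h => ?_⟩, ?_⟩
        · rw [← Finset.card_pos, hT5]; norm_num
        · have := Finset.card_le_card h
          omega
        · unfold nu
          rw [Finset.sum_congr rfl (fun i hi => hall i (hTS hi)), Finset.sum_const, hT5,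
            nsmul_eq_mul, mul_one]
          exact_mod_cast h50
  · -- all `-1`
    have hall : ∀ i ∈ osupp B c e y, co B c e y i * co B c e y i = -1 := by
      intro i hi
      rcases hpm i hi with h | h
      · exact absurd ⟨i, hi, h⟩ hP
      · exact h
    have hcard : (((osupp B c e y).card + 1 : ℕ) : F) = 0 := by
      rw [Finset.sum_congr rfl hall, Finset.sum_const, nsmul_eq_mul] at hsum
      rw [Nat.cast_add, Nat.cast_one, ← hsum]; ring
    have hdvd := dvd_of_cast_eq_zero h5 hcard
    by_cases h4 : (osupp B c e y).card = 4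
    · right; right
      refine ⟨h4, fun i hi => ?_⟩
      rw [hall i hi]
      have : (4 : F) * -1 = 1 - 5 := by ring
      rw [this, h50, sub_zero]
    · left
      have h9 : 9 ≤ (osupp B c e y).card := by
        obtain ⟨k, hk⟩ := hdvd
        omega
      obtain ⟨T, hTS, hT5⟩ := Finset.exists_subset_card_eq (show 5 ≤ (osupp B c e y).card by omega)
      refine ⟨y, hy, T, ?_, ⟨hTS, fun h => ?_⟩, ?_⟩
      · rw [← Finset.card_pos, hT5]; norm_num
      · have := Finset.card_le_card h
        omega
      · unfold nu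
        rw [Finset.sum_congr rfl (fun i hi => hall i (hTS hi)), Finset.sum_const, hT5,
          nsmul_eq_mul, mul_neg, mul_one]
        have : ((5 : ℕ) : F) = 5 := by norm_num
        rw [this, h50, neg_zero]

/-- support of size one means `± e k` -/
lemma isPM_of_card_one (hfr : OFr Q B c e) {y : V} (hy : Q y = c)
    (h1 : (osupp B c e y).card = 1) : IsPM e y := by
  obtain ⟨k, hk⟩ := Finset.card_eq_one.1 h1
  have hsum : ∑ i ∈ osupp B c e y, co B c e y i * co B c e y i = 1 := by
    have h1 := hfr.Q_eq y
    rw [hy, sum_univ_eq_osupp] at h1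
    have h2 : c * (∑ i ∈ osupp B c e y, co B c e y i * co B c e y i) = c * 1 := by
      rw [mul_one]; exact h1.symm
    exact mul_left_cancel₀ hfr.c0 h2
  rw [hk, Finset.sum_singleton] at hsum
  have hexp : y = co B c e y k • e k := by
    have h2 := hfr.exp' y
    have h3 : ∑ i, co B c e y i • e i = ∑ i ∈ osupp B c e y, co B c e y i • e i := by
      symm
      apply Finset.sum_subset (Finset.subset_univ _)
      intro i _ hi
      rw [mem_osupp, not_not] at hi
      rw [hi, zero_smul]
    rw [h3, hk, Finset.sum_singleton] at h2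
    exact h2
  refine ⟨k, ?_⟩
  rcases mul_self_eq_one_iff.1 hsum with h | h
  · left; rw [hexp, h, one_smul]; 
  · right; rw [hexp, h, neg_one_smul]

/-- OFA-SMALL5 with the statement of F4 as a hypothesis. -/
theorem SMALL5_aux (hC : TCtx Q B c e L) (h5 : Nat.card F = 5) (hm : 6 ≤ Fintype.card ι)
    (hF4 : ∀ {x : V}, x ∈ XL Q B c L → (osupp B c e x).card = 4 →
      (∀ i ∈ osupp B c e x, 4 * (co B c e x i * co B c e x i) = 1) →
      ∃ x' ∈ XL Q B c L, (osupp B c e x').card = 5) {x : V}
    (hx : x ∈ XL Q B c L) (hxE : ¬ IsPM e x) : Tang Q B c e L := by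
  rcases small5_core hC.fr h5 hx with h | h | ⟨h4, hq⟩
  · exact h
  · exact absurd (isPM_of_card_one hC.fr hx.1 h) hxE
  · obtain ⟨x', hx', hs'⟩ := hF4 hx h4 hq
    rcases small5_core hC.fr h5 hx' with h | h | ⟨h4', _⟩
    · exact h
    · omega
    · omega

/-- OFA-SMALL5 (M). -/
theorem SMALL5 (hC : TCtx Q B c e L) (h5 : Nat.card F = 5) (hm : 6 ≤ Fintype.card ι) {x : V}
    (hx : x ∈ XL Q B c L) (hxE : ¬ IsPM e x) : Tang Q B c e L :=
  SMALL5_aux hC h5 hm
    (fun hx hs hq => Cfsg.Agent.Lib.Helper78_OFA_F4.F4 hC hm (by rw [h5]) hx hs hq) hx hxE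

end T

end Cfsg.Agent.Lib.Helper70_OFA_SMALL5
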