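import Mathlib
import Cfsg.Agent.Lib.Helper98_OFADefs
import Cfsg.Agent.Lib.Helper54_OFA_API1
import Cfsg.Agent.Lib.Helper70_OFA_SMALL5
import Cfsg.Agent.Lib.Helper78_OFA_F4

set_option autoImplicit false
set_option linter.unusedSectionVars false
set_option linter.unusedVariables false
set_option linter.unusedSimpArgs false

/-!
OFA market (helper98), package OFA-SMALL7: over the field with seven elements, an element of `X`
which is neither `± e k` nor a root yields a tangent element of `X`.  (helper16)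
-/

namespace Cfsg.Agent.Lib.Helper16_OFA_SMALL7

open Module Cfsg.Agent.Lib.Helper94_Symp Cfsg.Agent.Lib.Helper94_OrthSmall
  Cfsg.Agent.Lib.Helper94_OrthSiegel Cfsg.Agent.Lib.Helper32_OFDefs
  Cfsg.Agent.Lib.Helper98_OFADefs

section Arith

variable {F : Type*} [Field F] [Finite F]

lemma seven_eq_zero (h7 : Nat.card F = 7) : (7 : F) = 0 := by
  have : Fintype F := Fintype.ofFinite F
  have h := Nat.cast_card_eq_zero F
  rw [← Nat.card_eq_fintype_card, h7] at h
  exact_mod_cast h

lemma charP7 (h7 : Nat.card F = 7) : CharP F 7 := by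
  rw [CharP.charP_iff_prime_eq_zero (by norm_num : Nat.Prime 7)]
  exact_mod_cast seven_eq_zero h7

lemma sq_cases (h7 : Nat.card F = 7) {a : F} (ha : a ≠ 0) :
    a * a = 1 ∨ a * a = 2 ∨ a * a = 4 := by
  have : Fintype F := Fintype.ofFinite F
  have h := FiniteField.pow_card_sub_one_eq_one a ha
  rw [← Nat.card_eq_fintype_card, h7] at h
  have h70 := seven_eq_zero h7
  have h' : (a * a - 1) * ((a * a - 2) * (a * a - 4)) = 0 := by
    have : (a * a - 1) * ((a * a - 2) * (a * a - 4)) =
        (a ^ (7 - 1) - 1) - 7 * (a * a * (a * a) - 2 * (a * a) + 1) := by ring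
    rw [this, h, h70]
    ring
  rcases mul_eq_zero.1 h' with h1 | h1
  · exact Or.inl (sub_eq_zero.1 h1)
  · rcases mul_eq_zero.1 h1 with h2 | h2
    · exact Or.inr (Or.inl (sub_eq_zero.1 h2))
    · exact Or.inr (Or.inr (sub_eq_zero.1 h2))

lemma natCast_eq_zero_iff (h7 : Nat.card F = 7) (n : ℕ) : (n : F) = 0 ↔ 7 ∣ n := by
  have := charP7 h7
  exact CharP.cast_eq_zero_iff F 7 n

lemma two_ne_four (h7 : Nat.card F = 7) : (2 : F) ≠ 4 := by
  intro h
  have h1 : ((2 : ℕ) : F) = 0 := by
    have : (4 : F) - 2 = 0 := by rw [← h]; ring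
    have h2 : (4 : F) - 2 = 2 := by norm_num
    rw [h2] at this
    exact_mod_cast this
  have := (natCast_eq_zero_iff h7 2).1 h1
  omega

lemma one_ne_two (h7 : Nat.card F = 7) : (1 : F) ≠ 2 := by
  intro h
  have : (2 : F) - 1 = 0 := by rw [← h]; ring
  have h2 : (2 : F) - 1 = 1 := by norm_num
  rw [h2] at this
  exact one_ne_zero this

lemma one_ne_four (h7 : Nat.card F = 7) : (1 : F) ≠ 4 := by
  intro h
  have h1 : ((3 : ℕ) : F) = 0 := by
    have : (4 : F) - 1 = 0 := by rw [← h]; ring
    have h2 : (4 : F) - 1 = 3 := by norm_num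
    rw [h2] at this
    exact_mod_cast this
  have := (natCast_eq_zero_iff h7 3).1 h1
  omega

/-- choose a subset with prescribed numbers of values `2` and `4` -/
lemma exists_sub {ι : Type*} [DecidableEq ι] (h24 : (2 : F) ≠ 4) (S : Finset ι) (f : ι → F)
    (S2 S4 : Finset ι) (hS2 : ∀ i, i ∈ S2 ↔ i ∈ S ∧ f i = 2) (hS4 : ∀ i, i ∈ S4 ↔ i ∈ S ∧ f i = 4)
    (b' c' : ℕ) (hb : b' ≤ S2.card) (hc : c' ≤ S4.card) :
    ∃ T, T ⊆ S ∧ T.card = b' + c' ∧ ∑ i ∈ T, f i = 2 * (b' : F) + 4 * (c' : F) := by
  obtain ⟨T2, hT2, hT2c⟩ := Finset.exists_subset_card_eq hb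
  obtain ⟨T4, hT4, hT4c⟩ := Finset.exists_subset_card_eq hc
  have hdisj : Disjoint T2 T4 := by
    rw [Finset.disjoint_left]
    intro i h2 h4
    have h2' := ((hS2 i).1 (hT2 h2)).2
    have h4' := ((hS4 i).1 (hT4 h4)).2
    rw [h2'] at h4'
    exact h24 h4'
  refine ⟨T2 ∪ T4, ?_, ?_, ?_⟩
  · intro i hi
    rcases Finset.mem_union.1 hi with h | h
    · exact ((hS2 i).1 (hT2 h)).1
    · exact ((hS4 i).1 (hT4 h)).1
  · rw [Finset.card_union_of_disjoint hdisj, hT2c, hT4c]
  · rw [Finset.sum_union hdisj,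
      Finset.sum_congr rfl (fun i hi => ((hS2 i).1 (hT2 hi)).2),
      Finset.sum_congr rfl (fun i hi => ((hS4 i).1 (hT4 hi)).2),
      Finset.sum_const, Finset.sum_const, hT2c, hT4c, nsmul_eq_mul, nsmul_eq_mul]
    ring

end Arith

section T

variable {F V : Type*} [Field F] [Finite F] [AddCommGroup V] [Module F V] [FiniteDimensional F V]
variable {Q : V → F} {B : LinearMap.BilinForm F V}
variable {ι : Type*} [Fintype ι] [DecidableEq ι] {c : F} {e : ι → V}
variable {L : Subgroup (V ≃ₗ[F] V)}

open Cfsg.Agent.Lib.Helper70_OFA_SMALL5 in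
lemma sum_osupp_eq_one (hfr : OFr Q B c e) {y : V} (hy : Q y = c) :
    ∑ i ∈ osupp B c e y, co B c e y i * co B c e y i = 1 := by
  have h1 := hfr.Q_eq y
  rw [hy, sum_univ_eq_osupp] at h1
  have h2 : c * (∑ i ∈ osupp B c e y, co B c e y i * co B c e y i) = c * 1 := by
    rw [mul_one]; exact h1.symm
  exact mul_left_cancel₀ hfr.c0 h2

/-- a coordinate of square one together with another nonzero coordinate gives a tangent subset -/
lemma tang_of_sq_one (hfr : OFr Q B c e) {y : V} (hy : Q y = c) {i j : ι} (hij : j ≠ i)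
    (hi : co B c e y i * co B c e y i = 1) (hj : co B c e y j ≠ 0) :
    ∃ T : Finset ι, T.Nonempty ∧ T ⊂ osupp B c e y ∧ nu B c e T y = 0 := by
  have hiS : i ∈ osupp B c e y := by
    rw [mem_osupp]
    intro h0
    rw [h0, mul_zero] at hi
    exact zero_ne_one hi
  refine ⟨(osupp B c e y).erase i, ⟨j, ?_⟩, Finset.erase_ssubset hiS, ?_⟩
  · rw [Finset.mem_erase]
    exact ⟨hij, mem_osupp.2 hj⟩
  · unfold nu
    have h1 := Finset.add_sum_erase (osupp B c e y)
      (fun k => co B c e y k * co B c e y k) hiS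
    rw [sum_osupp_eq_one hfr hy, hi] at h1
    exact add_left_cancel (a := (1 : F)) (by rw [h1, add_zero])

open Classical in
/-- the classification of the vectors of norm `c` without tangent subset over the field with
seven elements -/
lemma classify (hfr : OFr Q B c e) (h7 : Nat.card F = 7) {x : V} (hx : Q x = c)
    (hnt : ∀ T : Finset ι, T.Nonempty → T ⊂ osupp B c e x → nu B c e T x ≠ 0) :
    (osupp B c e x).card = 1 ∨
    ∃ S2 S4 : Finset ι,
      (∀ i, i ∈ S2 ↔ i ∈ osupp B c e x ∧ co B c e x i * co B c e x i = 2) ∧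
      (∀ i, i ∈ S4 ↔ i ∈ osupp B c e x ∧ co B c e x i * co B c e x i = 4) ∧
      (∀ i ∈ osupp B c e x, i ∈ S2 ∨ i ∈ S4) ∧
      (osupp B c e x).card = S2.card + S4.card ∧
      ((S2.card = 4 ∧ S4.card = 0) ∨ (S2.card = 2 ∧ S4.card = 1) ∨
        (S2.card = 0 ∧ S4.card = 2)) := by
  set S := osupp B c e x with hS
  have hsum := sum_osupp_eq_one hfr hx
  rw [← hS] at hsum
  have hsq : ∀ i ∈ S, co B c e x i * co B c e x i = 1 ∨ co B c e x i * co B c e x i = 2 ∨
      co B c e x i * co B c e x i = 4 := fun i hi => sq_cases h7 (mem_osupp.1 hi)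
  by_cases h1 : ∃ i ∈ S, co B c e x i * co B c e x i = 1
  · left
    obtain ⟨i, hiS, hi1⟩ := h1
    by_cases hj : ∃ j ∈ S, j ≠ i
    · obtain ⟨j, hjS, hji⟩ := hj
      obtain ⟨T, hT, hTS, hTn⟩ := tang_of_sq_one hfr hx hji hi1 (mem_osupp.1 hjS)
      exact absurd hTn (hnt T hT hTS)
    · push Not at hj
      rw [Finset.card_eq_one]
      refine ⟨i, ?_⟩
      ext k
      rw [Finset.mem_singleton]
      exact ⟨fun hk => hj k hk, fun hk => hk ▸ hiS⟩
  · right
    push Not at h1
    have h24 : ∀ i ∈ S, co B c e x i * co B c e x i = 2 ∨ co B c e x i * co B c e x i = 4 := by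
      intro i hi
      rcases hsq i hi with h | h
      · exact absurd h (h1 i hi)
      · exact h
    have hne24 := two_ne_four (F := F) h7
    set S2 := S.filter (fun i => co B c e x i * co B c e x i = 2) with hS2
    set S4 := S.filter (fun i => co B c e x i * co B c e x i = 4) with hS4
    have hcov : ∀ i ∈ S, i ∈ S2 ∨ i ∈ S4 := by
      intro i hi
      rcases h24 i hi with h | h
      · exact Or.inl (Finset.mem_filter.2 ⟨hi, h⟩)
      · exact Or.inr (Finset.mem_filter.2 ⟨hi, h⟩)
    have hcard : S.card = S2.card + S4.card := by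
      have hdisj : Disjoint S2 S4 := by
        rw [Finset.disjoint_left]
        intro i h2 h4
        have h2' := (Finset.mem_filter.1 h2).2
        have h4' := (Finset.mem_filter.1 h4).2
        rw [h2'] at h4'
        exact hne24 h4'
      rw [← Finset.card_union_of_disjoint hdisj]
      congr 1
      ext i
      rw [Finset.mem_union]
      constructor
      · intro hi
        exact hcov i hi
      · rintro (h | h)
        · exact (Finset.mem_filter.1 h).1
        · exact (Finset.mem_filter.1 h).1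
    refine ⟨S2, S4, fun i => Finset.mem_filter, fun i => Finset.mem_filter, hcov, hcard, ?_⟩
    · 
      have hsub := exists_sub hne24 S (fun i => co B c e x i * co B c e x i) S2 S4
        (fun i => Finset.mem_filter) (fun i => Finset.mem_filter)
      -- the total sum
      have htot : (2 * S2.card + 4 * S4.card) % 7 = 1 := by
        obtain ⟨T, hTS, hTc, hTsum⟩ := hsub S2.card S4.card le_rfl le_rfl
        have hTeq : T = S := Finset.eq_of_subset_of_card_le hTS (by rw [hTc, hcard])
        rw [hTeq, hsum] at hTsum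
        have h3 : ((2 * S2.card + 4 * S4.card : ℕ) : F) = ((1 : ℕ) : F) := by
          push_cast
          exact hTsum.symm
        have := charP7 h7
        have h4 := (CharP.natCast_eq_natCast F 7).1 h3
        exact h4
      -- no tangent subset
      have hno : ∀ b' c' : ℕ, b' ≤ S2.card → c' ≤ S4.card → 0 < b' + c' → 7 ∣ b' + 2 * c' →
          False := by
        intro b' c' hb hc hpos hdvd
        obtain ⟨T, hTS, hTc, hTsum⟩ := hsub b' c' hb hc
        have hz : (2 : F) * (b' : F) + 4 * (c' : F) = 0 := by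
          have h5 : ((b' + 2 * c' : ℕ) : F) = 0 := (natCast_eq_zero_iff h7 _).2 hdvd
          push_cast at h5
          linear_combination 2 * h5
        rw [hz] at hTsum
        have hTne : T.Nonempty := by
          rw [← Finset.card_pos, hTc]
          exact hpos
        have hTS' : T ⊂ S := by
          refine ⟨hTS, fun h => ?_⟩
          have hTeq : T = S := Finset.Subset.antisymm hTS h
          rw [hTeq, hsum] at hTsum
          exact one_ne_zero hTsum
        exact hnt T hTne hTS' hTsum
      have c1 := hno 7 0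
      have c2 := hno 0 7
      have c3 := hno 1 3
      have c4 := hno 3 2
      have c5 := hno 5 1
      have d1 : ¬ (7 ≤ S2.card) := fun h => c1 h (Nat.zero_le _) (by norm_num) (by norm_num)
      have d2 : ¬ (7 ≤ S4.card) := fun h => c2 (Nat.zero_le _) h (by norm_num) (by norm_num)
      have d3 : ¬ (1 ≤ S2.card ∧ 3 ≤ S4.card) := fun h => c3 h.1 h.2 (by norm_num) (by norm_num)
      have d4 : ¬ (3 ≤ S2.card ∧ 2 ≤ S4.card) := fun h => c4 h.1 h.2 (by norm_num) (by norm_num)
      have d5 : ¬ (5 ≤ S2.card ∧ 1 ≤ S4.card) := fun h => c5 h.1 h.2 (by norm_num) (by norm_num)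
      omega

open Cfsg.Agent.Lib.Helper54_OFA_API1 Cfsg.Agent.Lib.Helper70_OFA_SMALL5
  Cfsg.Agent.Lib.Helper78_OFA_F4 in
/-- OFA-SMALL7 with the statement of F4 as a hypothesis. -/
theorem SMALL7_aux (hC : TCtx Q B c e L) (h7 : Nat.card F = 7) (hm : 6 ≤ Fintype.card ι)
    (hF4 : ∀ {x : V}, x ∈ XL Q B c L → (osupp B c e x).card = 4 →
      (∀ i ∈ osupp B c e x, 4 * (co B c e x i * co B c e x i) = 1) →
      ∃ x' ∈ XL Q B c L, (osupp B c e x').card = 5) {x : V}
    (hx : x ∈ XL Q B c L) (hxE : ¬ IsPM e x) (hxR : ¬ IsRoot B c e x) : Tang Q B c e L := by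
  classical
  have hfr := hC.fr
  have h70 := seven_eq_zero (F := F) h7
  by_contra hT
  have hnt : ∀ y ∈ XL Q B c L, ∀ T : Finset ι, T.Nonempty → T ⊂ osupp B c e y →
      nu B c e T y ≠ 0 := fun y hy T hT1 hT2 hT3 => hT ⟨y, hy, T, hT1, hT2, hT3⟩
  rcases classify hfr h7 hx.1 (hnt x hx) with h1 | ⟨S2, S4, hS2, hS4, hcov, hcard, hcases⟩
  · exact hxE (isPM_of_card_one hfr hx.1 h1)
  rcases hcases with ⟨hb, hc⟩ | ⟨hb, hc⟩ | ⟨hb, hc⟩
  · -- the F4 case
    have h4 : (osupp B c e x).card = 4 := by omega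
    have hq : ∀ i ∈ osupp B c e x, 4 * (co B c e x i * co B c e x i) = 1 := by
      intro i hi
      rcases hcov i hi with h | h
      · rw [((hS2 i).1 h).2]
        have : (4 : F) * 2 = 1 + 7 := by norm_num
        rw [this, h70, add_zero]
      · rw [Finset.card_eq_zero] at hc
        rw [hc] at h
        exact absurd h (Finset.notMem_empty i)
    obtain ⟨x', hx', hs'⟩ := hF4 hx h4 hq
    rcases classify hfr h7 hx'.1 (hnt x' hx') with h1 | ⟨S2', S4', _, _, _, hcard', hcases'⟩
    · omega
    · omega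
  · -- type I: squares (2, 2, 4)
    obtain ⟨i1, i2, h12, hS2eq⟩ := Finset.card_eq_two.1 hb
    obtain ⟨i3, hS4eq⟩ := Finset.card_eq_one.1 hc
    have hi1 : i1 ∈ S2 := by rw [hS2eq]; exact Finset.mem_insert_self _ _
    have hi2 : i2 ∈ S2 := by
      rw [hS2eq]; exact Finset.mem_insert_of_mem (Finset.mem_singleton_self _)
    have hi3 : i3 ∈ S4 := by rw [hS4eq]; exact Finset.mem_singleton_self _
    have q1 := ((hS2 i1).1 hi1).2
    have q2 := ((hS2 i2).1 hi2).2
    have q3 := ((hS4 i3).1 hi3).2
    have hne24 := two_ne_four (F := F) h7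
    have h13 : i1 ≠ i3 := by
      intro h
      rw [h, q3] at q1
      exact hne24 q1.symm
    have h23 : i2 ≠ i3 := by
      intro h
      rw [h, q3] at q2
      exact hne24 q2.symm
    have hsupp : ∀ k, k ≠ i1 → k ≠ i2 → k ≠ i3 → co B c e x k = 0 := by
      intro k k1 k2 k3
      by_contra hk
      rcases hcov k (mem_osupp.2 hk) with h | h
      · rw [hS2eq, Finset.mem_insert, Finset.mem_singleton] at h
        rcases h with h | h
        · exact k1 h
        · exact k2 h
      · rw [hS4eq, Finset.mem_singleton] at h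
        exact k3 h
    obtain ⟨j, hj1, hj2, hj3⟩ : ∃ j : ι, j ≠ i1 ∧ j ≠ i2 ∧ j ≠ i3 := by
      by_contra hcon
      push Not at hcon
      have hsub : (Finset.univ : Finset ι) ⊆ {i1, i2, i3} := by
        intro k _
        simp only [Finset.mem_insert, Finset.mem_singleton]
        by_cases k1 : k = i1
        · exact Or.inl k1
        · by_cases k2 : k = i2
          · exact Or.inr (Or.inl k2)
          · exact Or.inr (Or.inr (hcon k k1 k2))
      have h5 := Finset.card_le_card hsub
      have h6 : ({i1, i2, i3} : Finset ι).card ≤ 3 := Finset.card_le_three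
      rw [Finset.card_univ] at h5
      omega
    obtain ⟨τ, hτL, t1, t2, t3, t4⟩ := hC.h3 i2 i3 j h23 (Ne.symm hj2) (Ne.symm hj3)
    have hτO : τ ∈ oG Q := hC.hLO hτL
    have hco : ∀ k k', τ (e k) = e k' → co B c e (τ x) k' = co B c e x k := by
      intro k k' h
      unfold co
      rw [← h, oG_B Q B hfr.hQp hτO]
    have a1 : co B c e (τ x) i1 = co B c e x i1 := hco i1 i1 (t4 i1 h12 h13 (Ne.symm hj1))
    have a2 : co B c e (τ x) i2 = 0 := by
      rw [hco j i2 t3]
      exact hsupp j hj1 hj2 hj3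
    have a3 : co B c e (τ x) i3 = co B c e x i2 := hco i2 i3 t1
    have hτx : τ x ∈ XL Q B c L := map_mem_XL hC hτL hx
    have hp : (co B c e x i2 * co B c e x i3) * (co B c e x i2 * co B c e x i3) = 1 := by
      have : (co B c e x i2 * co B c e x i3) * (co B c e x i2 * co B c e x i3) =
          (co B c e x i2 * co B c e x i2) * (co B c e x i3 * co B c e x i3) := by ring
      rw [this, q2, q3]
      have : (2 : F) * 4 = 1 + 7 := by norm_num
      rw [this, h70, add_zero]
    -- the second vector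
    obtain ⟨x'', hx'', b1, b2, b3⟩ : ∃ x'' ∈ XL Q B c L, co B c e x'' i1 = co B c e x i1 ∧
        co B c e x'' i2 = 0 ∧ co B c e x'' i3 * co B c e x i3 = -1 := by
      rcases mul_self_eq_one_iff.1 hp with hp1 | hp1
      · refine ⟨zJ B c e {i3} (τ x), map_mem_XL hC (hC.hz i3) hτx, ?_, ?_, ?_⟩
        · rw [co_zJ hfr, if_neg (by rw [Finset.mem_singleton]; exact h13), a1]
        · rw [co_zJ hfr, if_neg (by rw [Finset.mem_singleton]; exact h23), a2]
        · rw [co_zJ hfr, if_pos (Finset.mem_singleton_self _), a3, neg_mul, hp1]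
      · exact ⟨τ x, hτx, a1, a2, by rw [a3, hp1]⟩
    have hB : B x'' x = 2 * c := by
      rw [hfr.B_eq]
      have hs : ∑ k, co B c e x'' k * co B c e x k =
          ∑ k ∈ ({i1, i2, i3} : Finset ι), co B c e x'' k * co B c e x k := by
        symm
        apply Finset.sum_subset (Finset.subset_univ _)
        intro k _ hk
        simp only [Finset.mem_insert, Finset.mem_singleton, not_or] at hk
        rw [hsupp k hk.1 hk.2.1 hk.2.2, mul_zero]
      rw [hs, Finset.sum_insert (by
          simp only [Finset.mem_insert, Finset.mem_singleton, not_or]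
          exact ⟨h12, h13⟩),
        Finset.sum_insert (by rw [Finset.mem_singleton]; exact h23), Finset.sum_singleton,
        b1, b2, b3, q1]
      ring
    have hQx : Q x ≠ 0 := XL_ne_zero hfr hx
    have hy : Rf Q B x x'' ∈ XL Q B c L := map_mem_XL hC hx.2 hx''
    have hyeq : Rf Q B x x'' = x'' - (2 : F) • x := by
      rw [Rf_apply Q B hfr.hQs hfr.hQp hQx, hB, hx.1]
      congr 2
      have := hfr.c0
      field_simp
    have c2 : co B c e (Rf Q B x x'') i2 * co B c e (Rf Q B x x'') i2 = 1 := by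
      rw [hyeq, co_sub_smul, b2]
      have : (0 - 2 * co B c e x i2) * (0 - 2 * co B c e x i2) =
          4 * (co B c e x i2 * co B c e x i2) := by ring
      rw [this, q2]
      have : (4 : F) * 2 = 1 + 7 := by norm_num
      rw [this, h70, add_zero]
    have c1 : co B c e (Rf Q B x x'') i1 ≠ 0 := by
      rw [hyeq, co_sub_smul, b1]
      have : co B c e x i1 - 2 * co B c e x i1 = -co B c e x i1 := by ring
      rw [this, neg_ne_zero]
      exact mem_osupp.1 ((hS2 i1).1 hi1).1
    obtain ⟨T, hT1, hT2, hT3⟩ := tang_of_sq_one hfr hy.1 h12 c2 c1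
    exact hT ⟨_, hy, T, hT1, hT2, hT3⟩
  · -- the root case
    apply hxR
    obtain ⟨i, j, hij, hS4eq⟩ := Finset.card_eq_two.1 hc
    rw [Finset.card_eq_zero] at hb
    have hi : i ∈ S4 := by rw [hS4eq]; exact Finset.mem_insert_self _ _
    have hj : j ∈ S4 := by
      rw [hS4eq]; exact Finset.mem_insert_of_mem (Finset.mem_singleton_self _)
    have h24 : (2 : F) * 4 = 1 := by
      have : (2 : F) * 4 = 1 + 7 := by norm_num
      rw [this, h70, add_zero]
    refine ⟨i, j, hij, ?_, ?_, ?_⟩
    · intro k hki hkj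
      by_contra hk
      rcases hcov k (mem_osupp.2 hk) with h | h
      · rw [hb] at h
        exact absurd h (Finset.notMem_empty k)
      · rw [hS4eq, Finset.mem_insert, Finset.mem_singleton] at h
        rcases h with h | h
        · exact hki h
        · exact hkj h
    · rw [((hS4 i).1 hi).2, h24]
    · rw [((hS4 j).1 hj).2, h24]

open Cfsg.Agent.Lib.Helper78_OFA_F4 in
/-- OFA-SMALL7 (M/L). -/
theorem SMALL7 (hC : TCtx Q B c e L) (h7 : Nat.card F = 7) (hm : 6 ≤ Fintype.card ι) {x : V}
    (hx : x ∈ XL Q B c L) (hxE : ¬ IsPM e x) (hxR : ¬ IsRoot B c e x) : Tang Q B c e L :=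
  SMALL7_aux hC h7 hm (fun hx hs hq => F4 hC hm (by omega) hx hs hq) hx hxE hxR

end T

end Cfsg.Agent.Lib.Helper16_OFA_SMALL7
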