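import Mathlib
import Cfsg.Agent.Lib.Helper87_OO2Defs

set_option autoImplicit false
set_option linter.unusedSimpArgs false
set_option linter.unnecessarySeqFocus false
set_option linter.unusedTactic false
set_option linter.unreachableTactic false

/-!
S2344, package OO2-ELT (helper85): action of helper87's elements `xr`, `nw`, `hh` on a hyperbolic
quadruple `a, a', b, b'` and on the common orthogonal complement; an extensionality lemma for linear
maps on such a frame.
-/

namespace Cfsg.Agent.Lib.Helper85_OO2_ELT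

open Module Cfsg.Agent.Lib.Helper14_OmegaSimple Cfsg.Agent.Lib.Helper87_OO2Defs

variable {F V : Type*} [Field F] [AddCommGroup V] [Module F V] {Q : QuadraticForm F V}

theorem polar_self_of_sing {a : V} (ha : Q a = 0) : QuadraticMap.polar (⇑Q) a a = 0 := by
  rw [QuadraticMap.polar_self, ha, smul_zero]

/-- General formula for `xr Q a b' s`. -/
theorem xr_apply {a b' : V} (ha : Q a = 0) (hb' : Q b' = 0)
    (hab' : QuadraticMap.polar (⇑Q) a b' = 0) (s : F) (x : V) :
    xr Q a b' s x = x + (s * QuadraticMap.polar (⇑Q) x a) • b' -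
      (s * QuadraticMap.polar (⇑Q) x b') • a := by
  unfold xr
  have h1 : QuadraticMap.polar (⇑Q) a (s • b') = 0 := by
    rw [QuadraticMap.polar_smul_right, hab', smul_zero]
  rw [E_apply Q ha h1, QuadraticMap.polar_smul_right, QuadraticMap.map_smul, hb', smul_zero,
    zero_mul, zero_smul, sub_zero, smul_smul, smul_eq_mul, mul_comm (QuadraticMap.polar (⇑Q) x a)]

section quad

variable {a a' b b' : V} (h : HQuad Q a a' b b')
include h

theorem pol_aa : QuadraticMap.polar (⇑Q) a a = 0 := polar_self_of_sing h.pa.qa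
theorem pol_a'a' : QuadraticMap.polar (⇑Q) a' a' = 0 := polar_self_of_sing h.pa.qa'
theorem pol_bb : QuadraticMap.polar (⇑Q) b b = 0 := polar_self_of_sing h.pb.qa
theorem pol_b'b' : QuadraticMap.polar (⇑Q) b' b' = 0 := polar_self_of_sing h.pb.qa'
theorem pol_a'a : QuadraticMap.polar (⇑Q) a' a = 1 := by rw [QuadraticMap.polar_comm]; exact h.pa.aa'
theorem pol_b'b : QuadraticMap.polar (⇑Q) b' b = 1 := by rw [QuadraticMap.polar_comm]; exact h.pb.aa'
theorem pol_ba : QuadraticMap.polar (⇑Q) b a = 0 := by rw [QuadraticMap.polar_comm]; exact h.ab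
theorem pol_b'a : QuadraticMap.polar (⇑Q) b' a = 0 := by rw [QuadraticMap.polar_comm]; exact h.ab'
theorem pol_ba' : QuadraticMap.polar (⇑Q) b a' = 0 := by rw [QuadraticMap.polar_comm]; exact h.a'b
theorem pol_b'a' : QuadraticMap.polar (⇑Q) b' a' = 0 := by rw [QuadraticMap.polar_comm]; exact h.a'b'

/-! #### `xr Q a b' s` -/

theorem xr_a (s : F) : xr Q a b' s a = a := by
  rw [xr_apply h.pa.qa h.pb.qa' h.ab', pol_aa h, h.ab']; simp

theorem xr_b (s : F) : xr Q a b' s b = b - s • a := by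
  rw [xr_apply h.pa.qa h.pb.qa' h.ab', pol_ba h, h.pb.aa']; simp

theorem xr_a' (s : F) : xr Q a b' s a' = a' + s • b' := by
  rw [xr_apply h.pa.qa h.pb.qa' h.ab', pol_a'a h, h.a'b']; simp

theorem xr_b' (s : F) : xr Q a b' s b' = b' := by
  rw [xr_apply h.pa.qa h.pb.qa' h.ab', pol_b'a h, pol_b'b' h]; simp

omit h in
theorem xr_perp {a b' : V} (ha : Q a = 0) (hb' : Q b' = 0)
    (hab' : QuadraticMap.polar (⇑Q) a b' = 0) (s : F) {x : V}
    (hxa : QuadraticMap.polar (⇑Q) x a = 0) (hxb' : QuadraticMap.polar (⇑Q) x b' = 0) :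
    xr Q a b' s x = x := by
  rw [xr_apply ha hb' hab', hxa, hxb']; simp

/-! #### the opposite root element `xr Q b a' s` -/

theorem xo_a (s : F) : xr Q b a' s a = a - s • b := xr_b h.symm s
theorem xo_b (s : F) : xr Q b a' s b = b := xr_a h.symm s
theorem xo_a' (s : F) : xr Q b a' s a' = a' := xr_b' h.symm s
theorem xo_b' (s : F) : xr Q b a' s b' = b' + s • a' := xr_a' h.symm s

end quad

section quad2

variable {a a' b b' : V} (h : HQuad Q a a' b b')
include h

theorem xo_perp (s : F) {x : V} (hxb : QuadraticMap.polar (⇑Q) x b = 0)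
    (hxa' : QuadraticMap.polar (⇑Q) x a' = 0) : xr Q b a' s x = x :=
  xr_perp h.pb.qa h.pa.qa' (pol_ba' h) s hxb hxa'

/-! #### `nw Q a a' b b' t` -/

omit h in
theorem nw_apply (t : F) (x : V) :
    nw Q a a' b b' t x = xr Q a b' t (xr Q b a' (-t⁻¹) (xr Q a b' t x)) := rfl

theorem nw_a {t : F} (ht : t ≠ 0) : nw Q a a' b b' t a = t⁻¹ • b := by
  simp only [nw_apply, map_sub, map_add, map_smul, map_neg, xr_a h, xr_b h, xr_a' h, xr_b' h,
    xo_a h, xo_b h, xo_a' h, xo_b' h]
  match_scalars <;> field_simp <;> ring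

theorem nw_b {t : F} (ht : t ≠ 0) : nw Q a a' b b' t b = -(t • a) := by
  simp only [nw_apply, map_sub, map_add, map_smul, map_neg, xr_a h, xr_b h, xr_a' h, xr_b' h,
    xo_a h, xo_b h, xo_a' h, xo_b' h]
  match_scalars <;> field_simp <;> ring

theorem nw_a' {t : F} (ht : t ≠ 0) : nw Q a a' b b' t a' = t • b' := by
  simp only [nw_apply, map_sub, map_add, map_smul, map_neg, xr_a h, xr_b h, xr_a' h, xr_b' h,
    xo_a h, xo_b h, xo_a' h, xo_b' h]
  match_scalars <;> field_simp <;> ring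

theorem nw_b' {t : F} (ht : t ≠ 0) : nw Q a a' b b' t b' = -(t⁻¹ • a') := by
  simp only [nw_apply, map_sub, map_add, map_smul, map_neg, xr_a h, xr_b h, xr_a' h, xr_b' h,
    xo_a h, xo_b h, xo_a' h, xo_b' h]
  match_scalars <;> field_simp <;> ring

theorem nw_perp (t : F) {x : V} (hxa : QuadraticMap.polar (⇑Q) x a = 0)
    (hxa' : QuadraticMap.polar (⇑Q) x a' = 0) (hxb : QuadraticMap.polar (⇑Q) x b = 0)
    (hxb' : QuadraticMap.polar (⇑Q) x b' = 0) : nw Q a a' b b' t x = x := by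
  rw [nw_apply, xr_perp h.pa.qa h.pb.qa' h.ab' t hxa hxb', xo_perp h _ hxb hxa',
    xr_perp h.pa.qa h.pb.qa' h.ab' t hxa hxb']

end quad2

section quad3

variable {a a' b b' : V} (h : HQuad Q a a' b b')
include h

/-! #### `(nw Q a a' b b' 1)⁻¹` -/

theorem nwinv_a : (nw Q a a' b b' 1)⁻¹ a = -b := by
  show (nw Q a a' b b' 1).symm a = -b
  rw [LinearEquiv.symm_apply_eq, map_neg, nw_b h one_ne_zero, one_smul, neg_neg]

theorem nwinv_b : (nw Q a a' b b' 1)⁻¹ b = a := by
  show (nw Q a a' b b' 1).symm b = a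
  rw [LinearEquiv.symm_apply_eq, nw_a h one_ne_zero, inv_one, one_smul]

theorem nwinv_a' : (nw Q a a' b b' 1)⁻¹ a' = -b' := by
  show (nw Q a a' b b' 1).symm a' = -b'
  rw [LinearEquiv.symm_apply_eq, map_neg, nw_b' h one_ne_zero, inv_one, one_smul, neg_neg]

theorem nwinv_b' : (nw Q a a' b b' 1)⁻¹ b' = a' := by
  show (nw Q a a' b b' 1).symm b' = a'
  rw [LinearEquiv.symm_apply_eq, nw_a' h one_ne_zero, one_smul]

theorem nwinv_perp {x : V} (hxa : QuadraticMap.polar (⇑Q) x a = 0)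
    (hxa' : QuadraticMap.polar (⇑Q) x a' = 0) (hxb : QuadraticMap.polar (⇑Q) x b = 0)
    (hxb' : QuadraticMap.polar (⇑Q) x b' = 0) : (nw Q a a' b b' 1)⁻¹ x = x := by
  show (nw Q a a' b b' 1).symm x = x
  rw [LinearEquiv.symm_apply_eq, nw_perp h 1 hxa hxa' hxb hxb']

/-! #### `hh Q a a' b b' t` -/

omit h in
theorem hh_apply (t : F) (x : V) :
    hh Q a a' b b' t x = nw Q a a' b b' t ((nw Q a a' b b' 1)⁻¹ x) := rfl

theorem hh_a {t : F} (ht : t ≠ 0) : hh Q a a' b b' t a = t • a := by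
  rw [hh_apply, nwinv_a h, map_neg, nw_b h ht, neg_neg]

theorem hh_b {t : F} (ht : t ≠ 0) : hh Q a a' b b' t b = t⁻¹ • b := by
  rw [hh_apply, nwinv_b h, nw_a h ht]

theorem hh_a' {t : F} (ht : t ≠ 0) : hh Q a a' b b' t a' = t⁻¹ • a' := by
  rw [hh_apply, nwinv_a' h, map_neg, nw_b' h ht, neg_neg]

theorem hh_b' {t : F} (ht : t ≠ 0) : hh Q a a' b b' t b' = t • b' := by
  rw [hh_apply, nwinv_b' h, nw_a' h ht]

theorem hh_perp (t : F) {x : V} (hxa : QuadraticMap.polar (⇑Q) x a = 0)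
    (hxa' : QuadraticMap.polar (⇑Q) x a' = 0) (hxb : QuadraticMap.polar (⇑Q) x b = 0)
    (hxb' : QuadraticMap.polar (⇑Q) x b' = 0) : hh Q a a' b b' t x = x := by
  rw [hh_apply, nwinv_perp h hxa hxa' hxb hxb', nw_perp h t hxa hxa' hxb hxb']

/-! #### extensionality on a frame -/

/-- The component of `x` orthogonal to the frame. -/
theorem frame_decomp (x : V) :
    ∃ x₀ : V, QuadraticMap.polar (⇑Q) x₀ a = 0 ∧ QuadraticMap.polar (⇑Q) x₀ a' = 0 ∧
      QuadraticMap.polar (⇑Q) x₀ b = 0 ∧ QuadraticMap.polar (⇑Q) x₀ b' = 0 ∧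
      x = x₀ + QuadraticMap.polar (⇑Q) x a' • a + QuadraticMap.polar (⇑Q) x a • a' +
        QuadraticMap.polar (⇑Q) x b' • b + QuadraticMap.polar (⇑Q) x b • b' := by
  refine ⟨x - QuadraticMap.polar (⇑Q) x a' • a - QuadraticMap.polar (⇑Q) x a • a' -
      QuadraticMap.polar (⇑Q) x b' • b - QuadraticMap.polar (⇑Q) x b • b', ?_, ?_, ?_, ?_, ?_⟩
  · simp only [QuadraticMap.polar_sub_left, QuadraticMap.polar_smul_left, pol_aa h, pol_a'a h,
      pol_ba h, pol_b'a h, smul_eq_mul]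
    ring
  · simp only [QuadraticMap.polar_sub_left, QuadraticMap.polar_smul_left, h.pa.aa', pol_a'a' h,
      pol_ba' h, pol_b'a' h, smul_eq_mul]
    ring
  · simp only [QuadraticMap.polar_sub_left, QuadraticMap.polar_smul_left, h.ab, h.a'b,
      pol_bb h, pol_b'b h, smul_eq_mul]
    ring
  · simp only [QuadraticMap.polar_sub_left, QuadraticMap.polar_smul_left, h.ab', h.a'b',
      h.pb.aa', pol_b'b' h, smul_eq_mul]
    ring
  · abel

/-- Two linear maps agreeing on `a, a', b, b'` and on the common orthogonal complement are equal. -/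
theorem ext_frame {V₂ : Type*} [AddCommGroup V₂] [Module F V₂] {f g : V →ₗ[F] V₂}
    (ha : f a = g a) (ha' : f a' = g a') (hb : f b = g b) (hb' : f b' = g b')
    (hperp : ∀ x, QuadraticMap.polar (⇑Q) x a = 0 → QuadraticMap.polar (⇑Q) x a' = 0 →
      QuadraticMap.polar (⇑Q) x b = 0 → QuadraticMap.polar (⇑Q) x b' = 0 → f x = g x) : f = g := by
  ext x
  obtain ⟨x₀, h1, h2, h3, h4, hx⟩ := frame_decomp h x
  rw [hx]
  simp only [map_add, map_smul, ha, ha', hb, hb', hperp x₀ h1 h2 h3 h4]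

/-- Version for linear equivalences. -/
theorem ext_frame_equiv {f g : V ≃ₗ[F] V}
    (ha : f a = g a) (ha' : f a' = g a') (hb : f b = g b) (hb' : f b' = g b')
    (hperp : ∀ x, QuadraticMap.polar (⇑Q) x a = 0 → QuadraticMap.polar (⇑Q) x a' = 0 →
      QuadraticMap.polar (⇑Q) x b = 0 → QuadraticMap.polar (⇑Q) x b' = 0 → f x = g x) : f = g := by
  apply LinearEquiv.toLinearMap_injective
  exact ext_frame h ha ha' hb hb' hperp

end quad3

end Cfsg.Agent.Lib.Helper85_OO2_ELT
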