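import Mathlib
import Cfsg.Agent.Lib.Helper95_OPDefs
import Cfsg.Agent.Lib.Helper95_OPBasic
import Cfsg.Agent.Lib.Helper48_OODefs
import Cfsg.Agent.Lib.Helper87_OO2Defs
import Cfsg.Agent.Lib.Helper87_OO2Defs2
import Cfsg.Agent.Lib.Helper85_OO2_ELT
import Cfsg.Agent.Lib.Helper12_OO2_HEIS

set_option autoImplicit false
set_option linter.unusedVariables false
set_option linter.unusedSectionVars false

/-!
S2344 wave 2, package OO2-N1MAP (cutter helper87; formalised by helper41): the Weyl-type element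
`n1 = nw Q v v' w0 w0' 1` maps `A_z = X_{(z,0)}` onto `B_z = X_{(0,z)}`, so these spaces have the same
dimension.
-/

namespace Cfsg.Agent.Lib.Helper41_OO2_N1MAP

open Module Cfsg.Agent.Lib.Helper94_OrthSmall Cfsg.Agent.Lib.Helper44_QuadClass
  Cfsg.Agent.Lib.Helper14_OmegaSimple Cfsg.Agent.Lib.Helper38_MIODefs
  Cfsg.Agent.Lib.Helper95_OPDefs Cfsg.Agent.Lib.Helper95_OPBasic Cfsg.Agent.Lib.Helper48_OODefs
  Cfsg.Agent.Lib.Helper87_OO2Defs Cfsg.Agent.Lib.Helper85_OO2_ELT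

variable {F V : Type*} [Field F] [Fintype F] [AddCommGroup V] [Module F V] [FiniteDimensional F V]
  {X : Type*} [AddCommGroup X] [Module ℂ X] [FiniteDimensional ℂ X]

/-- moving a Siegel element through `ρ(g)` -/
theorem repE_E_comm (Q : QuadraticForm F V) (hQ : (QuadraticMap.polarBilin Q).Nondegenerate)
    (hdim : 5 ≤ finrank F V) (ρ : Representation ℂ ↥(T Q) X) {g : V ≃ₗ[F] V} (hg : g ∈ T Q)
    {u w : V} (hu : Q u = 0) (huw : QuadraticMap.polar (⇑Q) u w = 0) (x : X) :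
    repE Q ρ (E Q u w) (repE Q ρ g x) = repE Q ρ g (repE Q ρ (E Q (g⁻¹ u) (g⁻¹ w)) x) := by
  have hginv : g⁻¹ ∈ T Q := Subgroup.inv_mem _ hg
  have hgo : g⁻¹ ∈ oG (⇑Q) := T_le_oG Q hginv
  have hc := conj_E Q hgo hu huw
  rw [inv_inv] at hc
  have hu' : Q (g⁻¹ u) = 0 := by
    have := mem_oG.1 hgo u
    rw [this, hu]
  have huw' : QuadraticMap.polar (⇑Q) (g⁻¹ u) (g⁻¹ w) = 0 := by rw [oG_polar Q hgo, huw]
  have h1 : E Q u w ∈ T Q := E_mem_T Q hQ hdim hu huw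
  have h2 : E Q (g⁻¹ u) (g⁻¹ w) ∈ T Q := E_mem_T Q hQ hdim hu' huw'
  have e : E Q u w * g = g * E Q (g⁻¹ u) (g⁻¹ w) := by
    rw [← hc]; group
  have e2 := congrArg (repE Q ρ) e
  rw [repE_mul Q ρ h1 hg, repE_mul Q ρ hg h2] at e2
  exact LinearMap.congr_fun e2 x

section main

variable (Q : QuadraticForm F V) {v v' w0 w0' : V} (h : HQuad Q v v' w0 w0')

omit [Fintype F] [FiniteDimensional F V] in
/-- the four orthogonality relations of a vector of `W_1` -/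
theorem W1_polar {w : V} (hw : w ∈ W1 Q v v' w0 w0') :
    QuadraticMap.polar (⇑Q) w v = 0 ∧ QuadraticMap.polar (⇑Q) w v' = 0 ∧
      QuadraticMap.polar (⇑Q) w w0 = 0 ∧ QuadraticMap.polar (⇑Q) w w0' = 0 := by
  obtain ⟨h1, h2⟩ := Submodule.mem_inf.1 hw
  obtain ⟨a1, a2⟩ := (mem_perp Q v v').1 h1
  obtain ⟨b1, b2⟩ := (mem_perp Q w0 w0').1 h2
  refine ⟨?_, ?_, ?_, ?_⟩ <;> rw [QuadraticMap.polar_comm] <;> assumption

omit [Fintype F] [FiniteDimensional F V] in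
include h in
/-- `E(w0, w1 + c v) = E(w0, w1) E(v, c (-w0))` for `w1 ∈ W_1` -/
theorem E_w0_add {w1 : V} (hw1 : w1 ∈ W1 Q v v' w0 w0') (c : F) :
    E Q w0 (w1 + c • v) = E Q w0 w1 * E Q v (c • -w0) := by
  obtain ⟨p1, p2, p3, p4⟩ := W1_polar Q hw1
  have hw0 : Q w0 = 0 := h.pb.qa
  have hv : Q v = 0 := h.pa.qa
  have q1 : QuadraticMap.polar (⇑Q) w0 w1 = 0 := by rw [QuadraticMap.polar_comm]; exact p3
  have q2 : QuadraticMap.polar (⇑Q) w0 v = 0 := by rw [QuadraticMap.polar_comm]; exact h.ab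
  have q3 : QuadraticMap.polar (⇑Q) w0 (c • v) = 0 := by
    rw [QuadraticMap.polar_smul_right, q2, smul_zero]
  have hcv : Q (c • v) = 0 := by rw [QuadraticMap.map_smul, hv, smul_zero]
  rw [← E_mul Q hw0 q1 q3, Cfsg.Agent.Lib.Helper12_OO2_HEIS.E_swap hw0 hcv q3,
    E_smul_left Q hv (by rw [QuadraticMap.polar_neg_right, h.ab, neg_zero]) c]

variable (hQ : (QuadraticMap.polarBilin Q).Nondegenerate) (hdim : 5 ≤ finrank F V)
  (ρ : Representation ℂ ↥(T Q) X) (ψ : AddChar F ℂ)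

omit [FiniteDimensional ℂ X] in
include h hQ hdim in
/-- the action of `E(w0, w1 + c v)` on a vector of `fixE v (W_1 + F w0)` or `eigE ψ v (W_1 + F w0) z` -/
theorem repE_w0_add {z : V} (hz : z ∈ W1 Q v v' w0 w0') {w1 : V} (hw1 : w1 ∈ W1 Q v v' w0 w0')
    (c : F) (x : X)
    (hx : x ∈ eigE Q ρ ψ v (W1 Q v v' w0 w0' ⊔ Submodule.span F {w0}) z ∨
      x ∈ fixE Q ρ v (W1 Q v v' w0 w0' ⊔ Submodule.span F {w0})) :
    repE Q ρ (E Q w0 (w1 + c • v)) x = repE Q ρ (E Q w0 w1) x := by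
  obtain ⟨p1, p2, p3, p4⟩ := W1_polar Q hw1
  obtain ⟨z1, z2, z3, z4⟩ := W1_polar Q hz
  have hw0 : Q w0 = 0 := h.pb.qa
  have hv : Q v = 0 := h.pa.qa
  have q1 : QuadraticMap.polar (⇑Q) w0 w1 = 0 := by rw [QuadraticMap.polar_comm]; exact p3
  have q4 : QuadraticMap.polar (⇑Q) v (c • -w0) = 0 := by
    rw [QuadraticMap.polar_smul_right, QuadraticMap.polar_neg_right, h.ab, neg_zero, smul_zero]
  have hmem : c • -w0 ∈ W1 Q v v' w0 w0' ⊔ Submodule.span F {w0} :=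
    Submodule.mem_sup_right (Submodule.smul_mem _ _
      (Submodule.neg_mem _ (Submodule.mem_span_singleton_self w0)))
  have hfix : repE Q ρ (E Q v (c • -w0)) x = x := by
    rcases hx with hx | hx
    · rw [(mem_eigE Q ρ ψ v _ z x).1 hx _ hmem, QuadraticMap.polar_smul_right,
        QuadraticMap.polar_neg_right, z3, neg_zero, smul_zero, AddChar.map_zero_eq_one, one_smul]
    · exact (mem_fixE Q ρ v _ x).1 hx _ hmem
  rw [E_w0_add Q h hw1 c, repE_mul Q ρ (E_mem_T Q hQ hdim hw0 q1) (E_mem_T Q hQ hdim hv q4),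
    Module.End.mul_apply, hfix]

include h hQ hdim in
/-- `n1` maps `A_z` into `B_z` -/
theorem n1_Asp_le {z : V} (hz : z ∈ W1 Q v v' w0 w0') (x : X)
    (hx : x ∈ Asp Q ρ ψ v v' w0 w0' z) :
    repE Q ρ (nw Q v v' w0 w0' 1) x ∈ Bsp Q ρ ψ v v' w0 w0' z := by
  obtain ⟨hx1, hx2⟩ := Submodule.mem_inf.1 hx
  have hn : nw Q v v' w0 w0' 1 ∈ T Q := nw_mem_T h 1
  have hw0 : Q w0 = 0 := h.pb.qa
  have hv : Q v = 0 := h.pa.qa
  refine Submodule.mem_inf.2 ⟨?_, ?_⟩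
  · rw [mem_fixE]
    intro w hw
    obtain ⟨w1, hw1, y, hy, rfl⟩ := Submodule.mem_sup.1 hw
    obtain ⟨c, rfl⟩ := Submodule.mem_span_singleton.1 hy
    obtain ⟨p1, p2, p3, p4⟩ := W1_polar Q hw1
    have hvw : QuadraticMap.polar (⇑Q) v (w1 + c • w0) = 0 := by
      rw [QuadraticMap.polar_add_right, QuadraticMap.polar_smul_right, h.ab, smul_zero, add_zero,
        QuadraticMap.polar_comm, p1]
    rw [repE_E_comm Q hQ hdim ρ hn hv hvw]
    have e1 : (nw Q v v' w0 w0' 1)⁻¹ v = -w0 := nwinv_a h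
    have e2 : (nw Q v v' w0 w0' 1)⁻¹ (w1 + c • w0) = w1 + c • v := by
      rw [map_add, map_smul, nwinv_b h, nwinv_perp h p1 p2 p3 p4]
    rw [e1, e2]
    have q5 : QuadraticMap.polar (⇑Q) w0 (w1 + c • v) = 0 := by
      have q2 : QuadraticMap.polar (⇑Q) w0 v = 0 := by rw [QuadraticMap.polar_comm]; exact h.ab
      rw [QuadraticMap.polar_add_right, QuadraticMap.polar_smul_right, q2, smul_zero, add_zero,
        QuadraticMap.polar_comm, p3]
    have e3 : E Q (-w0) (w1 + c • v) = E Q w0 (-w1 + (-c) • v) := by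
      have h5 := E_smul_left Q hw0 q5 (-1)
      rw [neg_one_smul] at h5
      rw [h5]
      congr 1
      module
    rw [e3, repE_w0_add Q h hQ hdim ρ ψ hz (Submodule.neg_mem _ hw1) (-c) x (Or.inl hx1),
      (mem_fixE Q ρ w0 _ x).1 hx2 (-w1) (Submodule.neg_mem _ hw1)]
  · rw [mem_eigE]
    intro w hw
    obtain ⟨p1, p2, p3, p4⟩ := W1_polar Q hw
    have hw0w : QuadraticMap.polar (⇑Q) w0 w = 0 := by rw [QuadraticMap.polar_comm]; exact p3
    rw [repE_E_comm Q hQ hdim ρ hn hw0 hw0w, nwinv_b h, nwinv_perp h p1 p2 p3 p4,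
      (mem_eigE Q ρ ψ v _ z x).1 hx1 w (Submodule.mem_sup_left hw), map_smul]

include h hQ hdim in
/-- `n1⁻¹` maps `B_z` into `A_z` -/
theorem n1inv_Bsp_le {z : V} (hz : z ∈ W1 Q v v' w0 w0') (x : X)
    (hx : x ∈ Bsp Q ρ ψ v v' w0 w0' z) :
    repE Q ρ (nw Q v v' w0 w0' 1)⁻¹ x ∈ Asp Q ρ ψ v v' w0 w0' z := by
  obtain ⟨hx1, hx2⟩ := Submodule.mem_inf.1 hx
  have hn : (nw Q v v' w0 w0' 1)⁻¹ ∈ T Q := Subgroup.inv_mem _ (nw_mem_T h 1)
  have hw0 : Q w0 = 0 := h.pb.qa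
  have hv : Q v = 0 := h.pa.qa
  obtain ⟨z1, z2, z3, z4⟩ := W1_polar Q hz
  refine Submodule.mem_inf.2 ⟨?_, ?_⟩
  · rw [mem_eigE]
    intro w hw
    obtain ⟨w1, hw1, y, hy, rfl⟩ := Submodule.mem_sup.1 hw
    obtain ⟨c, rfl⟩ := Submodule.mem_span_singleton.1 hy
    obtain ⟨p1, p2, p3, p4⟩ := W1_polar Q hw1
    have hvw : QuadraticMap.polar (⇑Q) v (w1 + c • w0) = 0 := by
      rw [QuadraticMap.polar_add_right, QuadraticMap.polar_smul_right, h.ab, smul_zero, add_zero,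
        QuadraticMap.polar_comm, p1]
    rw [repE_E_comm Q hQ hdim ρ hn hv hvw, inv_inv]
    have e1 : nw Q v v' w0 w0' 1 v = w0 := by rw [nw_a h one_ne_zero, inv_one, one_smul]
    have e2 : nw Q v v' w0 w0' 1 (w1 + c • w0) = w1 + (-c) • v := by
      rw [map_add, map_smul, nw_b h one_ne_zero, nw_perp h 1 p1 p2 p3 p4]
      module
    rw [e1, e2, repE_w0_add Q h hQ hdim ρ ψ hz hw1 (-c) x (Or.inr hx1),
      (mem_eigE Q ρ ψ w0 _ z x).1 hx2 w1 hw1, map_smul]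
    congr 2
    rw [QuadraticMap.polar_add_right, QuadraticMap.polar_smul_right, z3, smul_zero, add_zero]
  · rw [mem_fixE]
    intro w hw
    obtain ⟨p1, p2, p3, p4⟩ := W1_polar Q hw
    have hw0w : QuadraticMap.polar (⇑Q) w0 w = 0 := by rw [QuadraticMap.polar_comm]; exact p3
    have hvw : QuadraticMap.polar (⇑Q) v w = 0 := by rw [QuadraticMap.polar_comm]; exact p1
    rw [repE_E_comm Q hQ hdim ρ hn hw0 hw0w, inv_inv]
    have e1 : nw Q v v' w0 w0' 1 w0 = -v := by rw [nw_b h one_ne_zero, one_smul]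
    have e2 : nw Q v v' w0 w0' 1 w = w := nw_perp h 1 p1 p2 p3 p4
    have e3 : E Q (-v) w = E Q v (-w) := by
      have h5 := E_smul_left Q hv hvw (-1)
      rwa [neg_one_smul, neg_one_smul] at h5
    rw [e1, e2, e3, (mem_fixE Q ρ v _ x).1 hx1 (-w)
      (Submodule.mem_sup_left (Submodule.neg_mem _ hw))]

/-- OO2-N1MAP -/
theorem finrank_Bsp_eq (Q : QuadraticForm F V) (hQ : (QuadraticMap.polarBilin Q).Nondegenerate)
    (hdim : 5 ≤ finrank F V) {v v' w0 w0' : V} (h : HQuad Q v v' w0 w0')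
    (ρ : Representation ℂ ↥(T Q) X) (ψ : AddChar F ℂ) (z : V) (hz : z ∈ W1 Q v v' w0 w0') :
    finrank ℂ ↥(Bsp Q ρ ψ v v' w0 w0' z) = finrank ℂ ↥(Asp Q ρ ψ v v' w0 w0' z) := by
  have hn : nw Q v v' w0 w0' 1 ∈ T Q := nw_mem_T h 1
  have hni : (nw Q v v' w0 w0' 1)⁻¹ ∈ T Q := Subgroup.inv_mem _ hn
  have hMN : ∀ x : X, repE Q ρ (nw Q v v' w0 w0' 1)⁻¹ (repE Q ρ (nw Q v v' w0 w0' 1) x) = x := by
    intro x
    rw [← Module.End.mul_apply, ← repE_mul Q ρ hni hn, inv_mul_cancel, repE_one]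
    rfl
  have hNM : ∀ x : X, repE Q ρ (nw Q v v' w0 w0' 1) (repE Q ρ (nw Q v v' w0 w0' 1)⁻¹ x) = x := by
    intro x
    rw [← Module.End.mul_apply, ← repE_mul Q ρ hn hni, mul_inv_cancel, repE_one]
    rfl
  apply le_antisymm
  · refine LinearMap.finrank_le_finrank_of_injective
      (f := (repE Q ρ (nw Q v v' w0 w0' 1)⁻¹).restrict
        (fun x hx => n1inv_Bsp_le Q h hQ hdim ρ ψ hz x hx)) ?_
    intro a b hab
    have h1 : repE Q ρ (nw Q v v' w0 w0' 1)⁻¹ (a : X) = repE Q ρ (nw Q v v' w0 w0' 1)⁻¹ (b : X) :=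
      congrArg Subtype.val hab
    apply Subtype.ext
    rw [← hNM (a : X), h1, hNM]
  · refine LinearMap.finrank_le_finrank_of_injective
      (f := (repE Q ρ (nw Q v v' w0 w0' 1)).restrict
        (fun x hx => n1_Asp_le Q h hQ hdim ρ ψ hz x hx)) ?_
    intro a b hab
    have h1 : repE Q ρ (nw Q v v' w0 w0' 1) (a : X) = repE Q ρ (nw Q v v' w0 w0' 1) (b : X) :=
      congrArg Subtype.val hab
    apply Subtype.ext
    rw [← hMN (a : X), h1, hMN]

end main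

end Cfsg.Agent.Lib.Helper41_OO2_N1MAP
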