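import Mathlib
import Cfsg.Agent.Lib.Helper38_MIODefs

set_option autoImplicit false
set_option linter.unusedVariables false
set_option linter.unusedSimpArgs false
set_option linter.unusedSectionVars false

/-!
# S2143 (MIO, architect helper38), package MIO-ZEL: the square-multiplier torus element
`z = ⁅h, r⁆ = h²` inside `T Q`.  Also the explicit torus `hE` (used by MIO-GT).
-/

namespace Cfsg.Agent.Lib.Helper58_MIO_ZEL

open Module Cfsg.Agent.Lib.Helper94_OrthSmall Cfsg.Agent.Lib.Helper44_QuadClass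
  Cfsg.Agent.Lib.Helper14_OmegaSimple Cfsg.Agent.Lib.Helper38_MIODefs
  Cfsg.Agent.Lib.Helper94_Symp
open scoped commutatorElement

variable {F V : Type*} [Field F] [AddCommGroup V] [Module F V]

local notation "P" => QuadraticMap.polar

/-- `g x = y → g⁻¹ y = x` -/
theorem inv_apply_eq_of_apply_eq (g : V ≃ₗ[F] V) {x y : V} (h : g x = y) : g⁻¹ y = x := by
  have h1 := inv_apply_apply' g x
  rw [h] at h1
  exact h1

section torus

variable (Q : QuadraticForm F V) (v v' : V)

/-- the torus map `x ↦ x + (t-1) B(x,v') v + (t⁻¹-1) B(x,v) v'` -/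
def hL (t : F) : V →ₗ[F] V where
  toFun x := x + ((t - 1) * P (⇑Q) x v') • v + ((t⁻¹ - 1) * P (⇑Q) x v) • v'
  map_add' x y := by
    rw [QuadraticMap.polar_add_left, QuadraticMap.polar_add_left]
    module
  map_smul' c x := by
    rw [QuadraticMap.polar_smul_left, QuadraticMap.polar_smul_left, RingHom.id_apply,
      smul_eq_mul, smul_eq_mul]
    module

theorem hL_apply (t : F) (x : V) :
    hL Q v v' t x = x + ((t - 1) * P (⇑Q) x v') • v + ((t⁻¹ - 1) * P (⇑Q) x v) • v' := rfl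

variable {Q v v'}

theorem hL_polar_v' (hv : Q v = 0) (hv' : Q v' = 0) (hvv' : P (⇑Q) v v' = 1) (t : F) (x : V) :
    P (⇑Q) (hL Q v v' t x) v' = t * P (⇑Q) x v' := by
  rw [hL_apply, QuadraticMap.polar_add_left, QuadraticMap.polar_add_left,
    QuadraticMap.polar_smul_left, QuadraticMap.polar_smul_left, hvv', polar_self', hv',
    smul_eq_mul, smul_eq_mul]
  ring

theorem hL_polar_v (hv : Q v = 0) (hv' : Q v' = 0) (hvv' : P (⇑Q) v v' = 1) (t : F) (x : V) :
    P (⇑Q) (hL Q v v' t x) v = t⁻¹ * P (⇑Q) x v := by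
  have hv'v : P (⇑Q) v' v = 1 := by rw [QuadraticMap.polar_comm]; exact hvv'
  rw [hL_apply, QuadraticMap.polar_add_left, QuadraticMap.polar_add_left,
    QuadraticMap.polar_smul_left, QuadraticMap.polar_smul_left, hv'v, polar_self', hv,
    smul_eq_mul, smul_eq_mul]
  ring

theorem hL_comp (hv : Q v = 0) (hv' : Q v' = 0) (hvv' : P (⇑Q) v v' = 1) (s t : F) (x : V) :
    hL Q v v' s (hL Q v v' t x) = hL Q v v' (s * t) x := by
  rw [hL_apply Q v v' s, hL_polar_v' hv hv' hvv', hL_polar_v hv hv' hvv', hL_apply, hL_apply,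
    mul_inv]
  module

theorem hL_one (x : V) : hL Q v v' 1 x = x := by
  rw [hL_apply]
  simp

/-- the torus element as a linear equivalence -/
def hE (hv : Q v = 0) (hv' : Q v' = 0) (hvv' : P (⇑Q) v v' = 1) (t : F) (ht : t ≠ 0) :
    V ≃ₗ[F] V :=
  LinearEquiv.ofLinearMap (hL Q v v' t) (hL Q v v' t⁻¹)
    (by
      ext x
      rw [LinearMap.comp_apply, hL_comp hv hv' hvv', mul_inv_cancel₀ ht, hL_one]
      rfl)
    (by
      ext x
      rw [LinearMap.comp_apply, hL_comp hv hv' hvv', inv_mul_cancel₀ ht, hL_one]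
      rfl)

theorem hE_apply (hv : Q v = 0) (hv' : Q v' = 0) (hvv' : P (⇑Q) v v' = 1) (t : F) (ht : t ≠ 0)
    (x : V) : hE hv hv' hvv' t ht x = hL Q v v' t x := rfl

theorem hE_v (hv : Q v = 0) (hv' : Q v' = 0) (hvv' : P (⇑Q) v v' = 1) (t : F) (ht : t ≠ 0) :
    hE hv hv' hvv' t ht v = t • v := by
  rw [hE_apply, hL_apply, hvv', polar_self', hv]
  module

theorem hE_v' (hv : Q v = 0) (hv' : Q v' = 0) (hvv' : P (⇑Q) v v' = 1) (t : F) (ht : t ≠ 0) :
    hE hv hv' hvv' t ht v' = t⁻¹ • v' := by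
  have hv'v : P (⇑Q) v' v = 1 := by rw [QuadraticMap.polar_comm]; exact hvv'
  rw [hE_apply, hL_apply, hv'v, polar_self', hv']
  module

theorem hE_of_mem (hv : Q v = 0) (hv' : Q v' = 0) (hvv' : P (⇑Q) v v' = 1) (t : F) (ht : t ≠ 0)
    {w : V} (hw : w ∈ perp Q v v') : hE hv hv' hvv' t ht w = w := by
  have h := (mem_perp Q v v').1 hw
  rw [hE_apply, hL_apply, QuadraticMap.polar_comm (⇑Q) w v', QuadraticMap.polar_comm (⇑Q) w v,
    h.1, h.2]
  simp

theorem hE_mem_oG (hv : Q v = 0) (hv' : Q v' = 0) (hvv' : P (⇑Q) v v' = 1) (t : F) (ht : t ≠ 0) :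
    hE hv hv' hvv' t ht ∈ oG (⇑Q) := by
  intro x
  rw [hE_apply, hL_apply, add_assoc, QuadraticMap.map_add Q, QuadraticMap.map_add Q,
    QuadraticMap.map_smul, QuadraticMap.map_smul, hv, hv', QuadraticMap.polar_add_right,
    QuadraticMap.polar_smul_right, QuadraticMap.polar_smul_right, QuadraticMap.polar_smul_left,
    QuadraticMap.polar_smul_right, hvv']
  simp only [smul_eq_mul, mul_zero, zero_add, mul_one, add_zero]
  have h : t * t⁻¹ = 1 := mul_inv_cancel₀ ht
  linear_combination (P (⇑Q) x v * P (⇑Q) x v') * h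

/-- inverse images under the torus -/
theorem hE_inv_v (hv : Q v = 0) (hv' : Q v' = 0) (hvv' : P (⇑Q) v v' = 1) (t : F) (ht : t ≠ 0) :
    (hE hv hv' hvv' t ht)⁻¹ v = t⁻¹ • v := by
  have h1 : hE hv hv' hvv' t ht (t⁻¹ • v) = v := by
    rw [map_smul, hE_v, smul_smul, inv_mul_cancel₀ ht, one_smul]
  exact inv_apply_eq_of_apply_eq _ h1

theorem hE_inv_v' (hv : Q v = 0) (hv' : Q v' = 0) (hvv' : P (⇑Q) v v' = 1) (t : F) (ht : t ≠ 0) :
    (hE hv hv' hvv' t ht)⁻¹ v' = t • v' := by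
  have h1 : hE hv hv' hvv' t ht (t • v') = v' := by
    rw [map_smul, hE_v', smul_smul, mul_inv_cancel₀ ht, one_smul]
  exact inv_apply_eq_of_apply_eq _ h1

theorem hE_inv_of_mem (hv : Q v = 0) (hv' : Q v' = 0) (hvv' : P (⇑Q) v v' = 1) (t : F)
    (ht : t ≠ 0) {w : V} (hw : w ∈ perp Q v v') : (hE hv hv' hvv' t ht)⁻¹ w = w := by
  exact inv_apply_eq_of_apply_eq _ (hE_of_mem hv hv' hvv' t ht hw)

end torus

section refl

variable (Q : QuadraticForm F V) (d : V)

/-- the map `x ↦ x + B(x,d) d` (the reflection in `d` when `Q d = -1`) -/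
def rL : V →ₗ[F] V where
  toFun x := x + P (⇑Q) x d • d
  map_add' x y := by
    rw [QuadraticMap.polar_add_left]
    module
  map_smul' c x := by
    rw [QuadraticMap.polar_smul_left, RingHom.id_apply, smul_eq_mul]
    module

theorem rL_apply (x : V) : rL Q d x = x + P (⇑Q) x d • d := rfl

variable {Q d}

theorem rL_rL (hd : Q d = -1) (x : V) : rL Q d (rL Q d x) = x := by
  rw [rL_apply Q d (rL Q d x), rL_apply, QuadraticMap.polar_add_left, QuadraticMap.polar_smul_left,
    polar_self', hd, smul_eq_mul]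
  module

/-- the reflection as a linear equivalence -/
def rE (hd : Q d = -1) : V ≃ₗ[F] V :=
  LinearEquiv.ofLinearMap (rL Q d) (rL Q d)
    (by ext x; rw [LinearMap.comp_apply, rL_rL hd]; rfl)
    (by ext x; rw [LinearMap.comp_apply, rL_rL hd]; rfl)

theorem rE_apply (hd : Q d = -1) (x : V) : rE hd x = x + P (⇑Q) x d • d := rfl

theorem rE_mem_oG (hd : Q d = -1) : rE hd ∈ oG (⇑Q) := by
  intro x
  rw [rE_apply, QuadraticMap.map_add Q, QuadraticMap.map_smul, hd, QuadraticMap.polar_smul_right,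
    smul_eq_mul, smul_eq_mul]
  ring

end refl

variable [Fintype F] [FiniteDimensional F V]

theorem exists_zel (Q : QuadraticForm F V) (hQ : (QuadraticMap.polarBilin Q).Nondegenerate)
    (hdim : 5 ≤ finrank F V) (hcomm : ⁅oG (⇑Q), oG (⇑Q)⁆ ≤ T Q) {v v' : V} (hv : Q v = 0)
    (hv' : Q v' = 0) (hvv' : QuadraticMap.polar (⇑Q) v v' = 1) (t : F) (ht : t ≠ 0) :
    ∃ z ∈ T Q, z v = t ^ 2 • v ∧ z v' = (t ^ 2)⁻¹ • v' ∧ ∀ w ∈ perp Q v v', z w = w := by
  have hv'v : P (⇑Q) v' v = 1 := by rw [QuadraticMap.polar_comm]; exact hvv'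
  have hd : Q (v - v') = -1 := by
    rw [Cfsg.Agent.Lib.Helper14_OmegaSimple.map_sub', hv, hv', hvv']
    ring
  -- the reflection swaps `v` and `v'` and fixes `W'`
  have hrv : rE hd v = v' := by
    rw [rE_apply, QuadraticMap.polar_sub_right, polar_self', hv, hvv']
    module
  have hrv' : rE hd v' = v := by
    rw [rE_apply, QuadraticMap.polar_sub_right, polar_self', hv', hv'v]
    module
  have hrw : ∀ w ∈ perp Q v v', rE hd w = w := by
    intro w hw
    have h := (mem_perp Q v v').1 hw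
    rw [rE_apply, QuadraticMap.polar_sub_right, QuadraticMap.polar_comm (⇑Q) w v,
      QuadraticMap.polar_comm (⇑Q) w v', h.1, h.2]
    simp
  have hriv : (rE hd)⁻¹ v = v' := inv_apply_eq_of_apply_eq _ hrv'
  have hriv' : (rE hd)⁻¹ v' = v := inv_apply_eq_of_apply_eq _ hrv
  have hriw : ∀ w ∈ perp Q v v', (rE hd)⁻¹ w = w :=
    fun w hw => inv_apply_eq_of_apply_eq _ (hrw w hw)
  refine ⟨⁅hE hv hv' hvv' t ht, rE hd⁆, hcomm (Subgroup.commutator_mem_commutator
    (hE_mem_oG hv hv' hvv' t ht) (rE_mem_oG hd)), ?_, ?_, ?_⟩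
  · rw [commutatorElement_def, LinearEquiv.mul_apply, LinearEquiv.mul_apply,
      LinearEquiv.mul_apply, hriv, hE_inv_v', map_smul, hrv', map_smul, hE_v, smul_smul, sq]
  · rw [commutatorElement_def, LinearEquiv.mul_apply, LinearEquiv.mul_apply,
      LinearEquiv.mul_apply, hriv', hE_inv_v, map_smul, hrv, map_smul, hE_v', smul_smul, sq,
      mul_inv]
  · intro w hw
    rw [commutatorElement_def, LinearEquiv.mul_apply, LinearEquiv.mul_apply,
      LinearEquiv.mul_apply, hriw w hw, hE_inv_of_mem hv hv' hvv' t ht hw, hrw w hw,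
      hE_of_mem hv hv' hvv' t ht hw]

end Cfsg.Agent.Lib.Helper58_MIO_ZEL
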