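import Mathlib
import Cfsg.Agent.Lib.Helper14_POmegaSimple
import Cfsg.Agent.Lib.Helper14_MI2_BRLOW
import Cfsg.Agent.Lib.Helper14_MI2_BREX
import Cfsg.Agent.Lib.Helper5_QuadCount

/-!
# Helper73_MIOBridge (bridge side of the orthogonal min-index rows S2143/S2145/S2147, architect helper38)

Generic in the quadratic form `Q : QuadraticForm F (ι → F)` (nondegenerate polar form, `5 ≤ card ι`):
* `range_phi`, `commutator_oG_eq_T` : `⁅oG Q, oG Q⁆ = T Q` (B2);
* `exists_index_points` : if `N` = number of singular points is a lower bound for the index of every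
  proper subgroup of `PΩ(Q)`, it is attained (B4);  (B3 = `Helper14_MI2_BRLOW.lower_gen`);
* `card_level_quadFormOdd_ge` : level sets of the standard odd form have at least `q^(2e) - q^e`
  elements (B1).
-/

set_option autoImplicit false

namespace Cfsg.Agent.Lib.Helper73_MIOBridge

open Module Matrix Cfsg.Agent.Lib.Helper94_Symp Cfsg.Agent.Lib.Helper94_Bridge
  Cfsg.Agent.Lib.Helper94_OrthSmall Cfsg.Agent.Lib.Helper94_OrthBridge
  Cfsg.Agent.Lib.Helper14_OmegaSimple Cfsg.Agent.Lib.Helper14_POmegaSimple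
  Cfsg.Agent.Lib.Helper14_SiegelOmega2 Cfsg.Agent.Lib.Helper14_MI2_BRLOW
  Cfsg.Agent.Lib.Helper14_MI2_BREX Cfsg.Agent.Lib.Helper44_StdForms
  Cfsg.Agent.Lib.Helper5_QuadCount
open scoped commutatorElement Pointwise

section generic

variable {F : Type*} [Field F] [Fintype F] {ι : Type} [Fintype ι] [DecidableEq ι]

omit [Fintype F] in
/-- the image of the isometry group is `oG` -/
theorem range_phi (Q : QuadraticForm F (ι → F)) : (phi Q).range = oG (⇑Q) := by
  ext g
  constructor
  · rintro ⟨a, rfl⟩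
    have ha : (a : GL ι F) ∈ (oG (⇑Q)).comap (glEquiv ι F).toMonoidHom := by
      rw [← isometryGroup_eq]; exact a.2
    exact ha
  · intro hg
    obtain ⟨a, ha⟩ := (glEquiv ι F).surjective g
    have hmem : a ∈ Cfsg.isometryGroup F (⇑Q) := by
      rw [isometryGroup_eq, Subgroup.mem_comap]
      show (glEquiv ι F) a ∈ oG (⇑Q)
      rw [ha]; exact hg
    exact ⟨⟨a, hmem⟩, ha⟩

/-- **B2**: the derived group of the isometry group is the group of Siegel elements. -/
theorem commutator_oG_eq_T (Q : QuadraticForm F (ι → F))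
    (hQ : (QuadraticMap.polarBilin Q).Nondegenerate) (hn : 5 ≤ Fintype.card ι) :
    ⁅oG (⇑Q), oG (⇑Q)⁆ = T Q := by
  have hmap : (Cfsg.Omega F (⇑Q)).map (phi Q) = T Q := by
    rw [omega_eq_siegelGroup Q hQ hn, map_siegelGroup]
  rw [← hmap, ← range_phi Q, MonoidHom.range_eq_map, ← Subgroup.map_commutator]
  rfl

/-- **B4** (generic): if the lower bound `N` holds in `PΩ(Q)` and `N` is the number of singular points,
then the index `N` is attained (image of the stabiliser of a singular point). -/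
theorem exists_index_points (Q : QuadraticForm F (ι → F))
    (hQ : (QuadraticMap.polarBilin Q).Nondegenerate) (hn : 5 ≤ Fintype.card ι) (N : ℕ)
    (hN2 : 2 ≤ N)
    (hpts : Nat.card {W : Submodule F (ι → F) // finrank F W = 1 ∧ ∀ w ∈ W, Q w = 0} = N)
    (hlow : ∀ H : Subgroup (Cfsg.POmega F (⇑Q)), H ≠ ⊤ → N ≤ H.index) :
    ∃ H : Subgroup (Cfsg.POmega F (⇑Q)), H.index = N := by
  have hdim : 5 ≤ finrank F (ι → F) := by
    rw [Module.finrank_fintype_fun_eq_card]; exact hn
  -- a singular point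
  have hne : Nonempty {W : Submodule F (ι → F) // finrank F W = 1 ∧ ∀ w ∈ W, Q w = 0} := by
    have : 0 < Nat.card {W : Submodule F (ι → F) // finrank F W = 1 ∧ ∀ w ∈ W, Q w = 0} := by
      omega
    exact (Nat.card_pos_iff.1 this).1
  obtain ⟨⟨W₀, hW₀1, hW₀s⟩⟩ := hne
  obtain ⟨v₀, hv₀0, hv₀⟩ := finrank_eq_one_iff'.1 hW₀1
  have hv₀ne : (v₀ : ι → F) ≠ 0 := fun h => hv₀0 (Subtype.ext h)
  have hQv₀ : Q (v₀ : ι → F) = 0 := hW₀s _ v₀.2
  have hW₀span : W₀ = Submodule.span F {(v₀ : ι → F)} := by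
    apply le_antisymm
    · intro w hw
      obtain ⟨c, hc⟩ := hv₀ ⟨w, hw⟩
      rw [Submodule.mem_span_singleton]
      exact ⟨c, by simpa using congrArg Subtype.val hc⟩
    · rw [Submodule.span_singleton_le_iff_mem]
      exact v₀.2
  -- the orbit of `W₀` under `T Q`
  have hsmul : ∀ (g : ↥(T Q)) (S : Submodule F (ι → F)),
      g • S = S.map ((g : (ι → F) ≃ₗ[F] (ι → F)) : (ι → F) →ₗ[F] (ι → F)) := by
    intro g S
    rfl
  have horb : MulAction.orbit ↥(T Q) W₀ =
      {W : Submodule F (ι → F) | finrank F W = 1 ∧ ∀ w ∈ W, Q w = 0} := by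
    ext W
    constructor
    · rintro ⟨g, rfl⟩
      have hg := T_le_oG Q g.2
      show finrank F ↥(g • W₀) = 1 ∧ ∀ w ∈ g • W₀, Q w = 0
      rw [hsmul]
      constructor
      · rw [← hW₀1]
        exact LinearEquiv.finrank_map_eq (g : (ι → F) ≃ₗ[F] (ι → F)) W₀
      · rintro _ ⟨w, hw, rfl⟩
        show Q ((g : (ι → F) ≃ₗ[F] (ι → F)) w) = 0
        rw [hg w]
        exact hW₀s w hw
    · rintro ⟨hW1, hWs⟩
      obtain ⟨w, hw0, hw⟩ := finrank_eq_one_iff'.1 hW1
      have hwne : (w : ι → F) ≠ 0 := fun h => hw0 (Subtype.ext h)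
      have hQw : Q (w : ι → F) = 0 := hWs _ w.2
      have hWspan : W = Submodule.span F {(w : ι → F)} := by
        apply le_antisymm
        · intro x hx
          obtain ⟨c, hc⟩ := hw ⟨x, hx⟩
          rw [Submodule.mem_span_singleton]
          exact ⟨c, by simpa using congrArg Subtype.val hc⟩
        · rw [Submodule.span_singleton_le_iff_mem]
          exact w.2
      obtain ⟨g, hg, c, hc, hgv⟩ := exists_mem_T_map Q hQ hdim hv₀ne hQv₀ hwne hQw
      refine ⟨⟨g, hg⟩, ?_⟩
      show (⟨g, hg⟩ : ↥(T Q)) • W₀ = W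
      rw [hsmul, hW₀span, hWspan, Submodule.map_span, Set.image_singleton]
      show Submodule.span F {g (v₀ : ι → F)} = _
      rw [hgv]
      exact Submodule.span_singleton_smul_eq (IsUnit.mk0 c hc) _
  have hSidx : (MulAction.stabilizer ↥(T Q) W₀).index = N := by
    rw [MulAction.index_stabilizer, horb, ← hpts, ← Nat.card_coe_set_eq]
    rfl
  -- transport to `Ω`
  have hKidx : ((MulAction.stabilizer ↥(T Q) W₀).comap
      (omegaEquivT Q hQ hn).toMonoidHom).index = N := by
    rw [Subgroup.index_comap_of_surjective _ (omegaEquivT Q hQ hn).surjective, hSidx]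
  have hKne : (MulAction.stabilizer ↥(T Q) W₀).comap (omegaEquivT Q hQ hn).toMonoidHom ≠ ⊤ := by
    intro h
    rw [h, Subgroup.index_top] at hKidx
    omega
  have hperf : commutator ↥(Cfsg.Omega F (⇑Q)) = ⊤ := by
    have h1 := commutator_T_eq_top Q hQ hdim
    apply Subgroup.map_injective (f := (omegaEquivT Q hQ hn).toMonoidHom)
      (omegaEquivT Q hQ hn).injective
    rw [commutator_def, Subgroup.map_commutator,
      Subgroup.map_top_of_surjective _ (omegaEquivT Q hQ hn).surjective, ← commutator_def, h1]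
  have hHne := map_center_ne_top hperf _ hKne
  have hdvd := Subgroup.index_map_dvd ((MulAction.stabilizer ↥(T Q) W₀).comap
      (omegaEquivT Q hQ hn).toMonoidHom)
    (QuotientGroup.mk'_surjective (Subgroup.center ↥(Cfsg.Omega F (⇑Q))))
  rw [hKidx] at hdvd
  exact ⟨_, le_antisymm (Nat.le_of_dvd (by omega) hdvd) (hlow _ hHne)⟩

end generic

section counts

universe v
variable {F : Type v} [Field F] [Fintype F]

/-- level sets of the odd standard form as a sigma type -/
def levelEquivOdd (e : ℕ) (c : F) :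
    {v : Unit ⊕ (Fin e ⊕ Fin e) → F // Cfsg.quadFormOdd e F v = c} ≃
      Σ a : F, {p : (Fin e → F) × (Fin e → F) // p.1 ⬝ᵥ p.2 = c - a * a} where
  toFun := fun v => ⟨v.1 (Sum.inl ()),
    ⟨(fun i => v.1 (Sum.inr (Sum.inl i)), fun i => v.1 (Sum.inr (Sum.inr i))), by
      have := v.2
      unfold Cfsg.quadFormOdd at this
      simp only [dotProduct]
      linear_combination this⟩⟩
  invFun := fun s => ⟨Sum.elim (fun _ => s.1) (Sum.elim s.2.1.1 s.2.1.2), by
      have := s.2.2
      unfold Cfsg.quadFormOdd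
      simp only [dotProduct] at this
      simp only [Sum.elim_inl, Sum.elim_inr]
      linear_combination this⟩
  left_inv := fun v => by
    apply Subtype.ext
    funext k
    rcases k with ⟨⟩ | k | k <;> rfl
  right_inv := fun s => by
    rcases s with ⟨a, ⟨⟨x, y⟩, h⟩⟩
    rfl

/-- **B1** (odd form): every level set has at least `q^(2e) - q^e` elements. -/
theorem card_level_quadFormOdd_ge (e : ℕ) (c : F) :
    Fintype.card F ^ (2 * e) - Fintype.card F ^ e ≤
      Nat.card {v : Unit ⊕ (Fin e ⊕ Fin e) → F // Cfsg.quadFormOdd e F v = c} := by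
  classical
  rw [Nat.card_congr (levelEquivOdd e c), Nat.card_sigma]
  have h1 : ∀ a : F, (Fintype.card F ^ e - 1) * Fintype.card F ^ (e - 1) ≤
      Nat.card {p : (Fin e → F) × (Fin e → F) // p.1 ⬝ᵥ p.2 = c - a * a} := by
    intro a
    rw [card_pairs]
    exact Nat.le_add_left _ _
  calc Fintype.card F ^ (2 * e) - Fintype.card F ^ e
      = ∑ _a : F, (Fintype.card F ^ e - 1) * Fintype.card F ^ (e - 1) := by
        rw [Finset.sum_const, Finset.card_univ, smul_eq_mul]
        rcases e with _ | e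
        · simp
        · rw [Nat.add_sub_cancel, Nat.sub_mul, one_mul, Nat.mul_sub, ← pow_add, ← pow_succ',
            ← pow_succ']
          congr 2 <;> ring
    _ ≤ _ := Finset.sum_le_sum (fun a _ => h1 a)

end counts

end Cfsg.Agent.Lib.Helper73_MIOBridge
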