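import Mathlib
import Cfsg.Agent.Lib.Helper95_OPDefs
import Cfsg.Agent.Lib.Helper95_OPBasic
import Cfsg.Agent.Lib.Helper73_MIOBridge

/-!
# S2345 package OP-HCOMM (architect helper95, proof helper63)

`⁅O(W), O(W)⁆ ≤ T Qw` for an abstract quadratic space `W` of dimension at least five with
non-degenerate polar form over a finite field: transport of
`Helper73_MIOBridge.commutator_oG_eq_T` (stated for `ι → F`) along a basis of `W`.
-/

set_option autoImplicit false

namespace Cfsg.Agent.Lib.Helper63_OP_HCOMM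

open Module Cfsg.Agent.Lib.Helper94_OrthSmall Cfsg.Agent.Lib.Helper44_QuadClass
  Cfsg.Agent.Lib.Helper14_OmegaSimple Cfsg.Agent.Lib.Helper38_MIODefs
  Cfsg.Agent.Lib.Helper95_OPDefs Cfsg.Agent.Lib.Helper95_OPBasic
open scoped commutatorElement

section transport

variable {F W W' : Type*} [Field F] [AddCommGroup W] [Module F W] [AddCommGroup W'] [Module F W']

/-- conjugation by a linear equivalence, as an isomorphism of the automorphism groups -/
def conjL (φ : W ≃ₗ[F] W') : (W ≃ₗ[F] W) ≃* (W' ≃ₗ[F] W') where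
  toFun g := (φ.symm.trans g).trans φ
  invFun g := (φ.trans g).trans φ.symm
  left_inv g := by
    apply LinearEquiv.ext
    intro x
    simp
  right_inv g := by
    apply LinearEquiv.ext
    intro x
    simp
  map_mul' g g' := by
    apply LinearEquiv.ext
    intro x
    simp [LinearEquiv.mul_apply]

theorem conjL_apply (φ : W ≃ₗ[F] W') (g : W ≃ₗ[F] W) (x : W') :
    conjL φ g x = φ (g (φ.symm x)) := rfl

/-- the transported quadratic form -/
def trQ (Qw : QuadraticForm F W) (φ : W ≃ₗ[F] W') : QuadraticForm F W' :=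
  Qw.comp (φ.symm : W' →ₗ[F] W)

theorem trQ_apply (Qw : QuadraticForm F W) (φ : W ≃ₗ[F] W') (x : W') :
    trQ Qw φ x = Qw (φ.symm x) := rfl

theorem polar_trQ (Qw : QuadraticForm F W) (φ : W ≃ₗ[F] W') (x y : W') :
    QuadraticMap.polar (⇑(trQ Qw φ)) x y = QuadraticMap.polar (⇑Qw) (φ.symm x) (φ.symm y) := by
  simp only [QuadraticMap.polar, trQ_apply, map_add]

theorem conjL_mem_oG (Qw : QuadraticForm F W) (φ : W ≃ₗ[F] W') {g : W ≃ₗ[F] W}
    (hg : g ∈ oG (⇑Qw)) : conjL φ g ∈ oG (⇑(trQ Qw φ)) := by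
  intro x
  rw [conjL_apply, trQ_apply, trQ_apply, LinearEquiv.symm_apply_apply]
  exact hg _

theorem conjL_E (Qw : QuadraticForm F W) (φ : W ≃ₗ[F] W') {u z : W'} (hu : trQ Qw φ u = 0)
    (huz : QuadraticMap.polar (⇑(trQ Qw φ)) u z = 0) :
    conjL φ (E Qw (φ.symm u) (φ.symm z)) = E (trQ Qw φ) u z := by
  apply LinearEquiv.ext
  intro x
  have hu' : Qw (φ.symm u) = 0 := hu
  have huz' : QuadraticMap.polar (⇑Qw) (φ.symm u) (φ.symm z) = 0 := by
    rw [← polar_trQ]; exact huz
  rw [conjL_apply, E_apply Qw hu' huz', E_apply (trQ Qw φ) hu huz]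
  simp only [polar_trQ, trQ_apply, map_add, map_sub, map_smul, LinearEquiv.apply_symm_apply]

theorem nondeg_trQ (Qw : QuadraticForm F W) (φ : W ≃ₗ[F] W')
    (hQ : (QuadraticMap.polarBilin Qw).Nondegenerate) :
    (QuadraticMap.polarBilin (trQ Qw φ)).Nondegenerate := by
  constructor
  · intro x hx
    have h1 : φ.symm x = 0 := by
      apply hQ.1
      intro y
      have := hx (φ y)
      rw [QuadraticMap.polarBilin_apply_apply, polar_trQ, LinearEquiv.symm_apply_apply] at this
      rw [QuadraticMap.polarBilin_apply_apply]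
      exact this
    exact φ.symm.map_eq_zero_iff.mp h1
  · intro y hy
    have h1 : φ.symm y = 0 := by
      apply hQ.2
      intro x
      have := hy (φ x)
      rw [QuadraticMap.polarBilin_apply_apply, polar_trQ, LinearEquiv.symm_apply_apply] at this
      rw [QuadraticMap.polarBilin_apply_apply]
      exact this
    exact φ.symm.map_eq_zero_iff.mp h1

end transport

section partC

variable {F W : Type*} [Field F] [Fintype F] [AddCommGroup W] [Module F W] [FiniteDimensional F W]

/-! ## OP-HCOMM (M) -/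
theorem comm_oG_le_T (Qw : QuadraticForm F W) (hQ : (QuadraticMap.polarBilin Qw).Nondegenerate)
    (hdim : 5 ≤ finrank F W) : ⁅oG (⇑Qw), oG (⇑Qw)⁆ ≤ T Qw := by
  let b : W ≃ₗ[F] (Fin (finrank F W) → F) := (Module.finBasis F W).equivFun
  have hT := Cfsg.Agent.Lib.Helper73_MIOBridge.commutator_oG_eq_T (trQ Qw b) (nondeg_trQ Qw b hQ)
    (by rw [Fintype.card_fin]; exact hdim)
  have hinj : Function.Injective (conjL b).toMonoidHom := (conjL b).injective
  rw [← Subgroup.map_le_map_iff_of_injective hinj, Subgroup.map_commutator]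
  have h1 : (oG (⇑Qw)).map (conjL b).toMonoidHom ≤ oG (⇑(trQ Qw b)) := by
    rintro _ ⟨g, hg, rfl⟩
    exact conjL_mem_oG Qw b hg
  calc ⁅(oG (⇑Qw)).map (conjL b).toMonoidHom, (oG (⇑Qw)).map (conjL b).toMonoidHom⁆
      ≤ ⁅oG (⇑(trQ Qw b)), oG (⇑(trQ Qw b))⁆ := Subgroup.commutator_mono h1 h1
    _ = T (trQ Qw b) := hT
    _ ≤ (T Qw).map (conjL b).toMonoidHom := by
        rw [T, Subgroup.closure_le]
        rintro g ⟨u, s, hu, hs, hus, rfl⟩
        have hu' : Qw (b.symm u) = 0 := hu
        have hs' : Qw (b.symm s) = 0 := hs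
        have hus' : QuadraticMap.polar (⇑Qw) (b.symm u) (b.symm s) = 0 := by
          rw [← polar_trQ]; exact hus
        exact ⟨E Qw (b.symm u) (b.symm s), root_mem_T Qw hu' hs' hus', conjL_E Qw b hu hus⟩

end partC

end Cfsg.Agent.Lib.Helper63_OP_HCOMM
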