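import Mathlib
import Cfsg.Agent.Lib.Helper38_MIODefs
import Cfsg.Agent.Lib.Helper58_MIO_ZEL

set_option autoImplicit false
set_option linter.unusedVariables false
set_option linter.unusedSimpArgs false
set_option linter.unusedSectionVars false

/-!
# S2143 (MIO, architect helper38), package MIO-GT: the torus element `g = ⁅h, σ⁆ ∈ T Q` with
`g v = t v`, `g v' = t⁻¹ v'`, restricted to `W' = ⟨v, v'⟩^⊥`.
-/

namespace Cfsg.Agent.Lib.Helper58_MIO_GT

open Module Cfsg.Agent.Lib.Helper94_OrthSmall Cfsg.Agent.Lib.Helper44_QuadClass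
  Cfsg.Agent.Lib.Helper14_OmegaSimple Cfsg.Agent.Lib.Helper38_MIODefs
  Cfsg.Agent.Lib.Helper94_Symp Cfsg.Agent.Lib.Helper58_MIO_ZEL
open scoped commutatorElement

variable {F V : Type*} [Field F] [AddCommGroup V] [Module F V]

local notation "P" => QuadraticMap.polar

section swap

variable (Q : QuadraticForm F V) (a b : V)

/-- `x ↦ x - B(x,b) a - B(x,a) b`: for singular `a, b` with `B(a,b) = 2` an involutive isometry -/
def sL : V →ₗ[F] V where
  toFun x := x - P (⇑Q) x b • a - P (⇑Q) x a • b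
  map_add' x y := by
    rw [QuadraticMap.polar_add_left, QuadraticMap.polar_add_left]
    module
  map_smul' c x := by
    rw [QuadraticMap.polar_smul_left, QuadraticMap.polar_smul_left, RingHom.id_apply,
      smul_eq_mul, smul_eq_mul]
    module

theorem sL_apply (x : V) : sL Q a b x = x - P (⇑Q) x b • a - P (⇑Q) x a • b := rfl

variable {Q a b}

theorem sL_sL (ha : Q a = 0) (hb : Q b = 0) (hab : P (⇑Q) a b = 2) (x : V) :
    sL Q a b (sL Q a b x) = x := by
  have hba : P (⇑Q) b a = 2 := by rw [QuadraticMap.polar_comm]; exact hab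
  have h1 : P (⇑Q) (sL Q a b x) b = - P (⇑Q) x b := by
    rw [sL_apply, QuadraticMap.polar_sub_left, QuadraticMap.polar_sub_left,
      QuadraticMap.polar_smul_left, QuadraticMap.polar_smul_left, hab, polar_self', hb,
      smul_eq_mul, smul_eq_mul]
    ring
  have h2 : P (⇑Q) (sL Q a b x) a = - P (⇑Q) x a := by
    rw [sL_apply, QuadraticMap.polar_sub_left, QuadraticMap.polar_sub_left,
      QuadraticMap.polar_smul_left, QuadraticMap.polar_smul_left, hba, polar_self', ha,
      smul_eq_mul, smul_eq_mul]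
    ring
  rw [sL_apply Q a b (sL Q a b x), h1, h2, sL_apply]
  module

/-- the swap as a linear equivalence -/
def sE (ha : Q a = 0) (hb : Q b = 0) (hab : P (⇑Q) a b = 2) : V ≃ₗ[F] V :=
  LinearEquiv.ofLinearMap (sL Q a b) (sL Q a b)
    (by ext x; rw [LinearMap.comp_apply, sL_sL ha hb hab]; rfl)
    (by ext x; rw [LinearMap.comp_apply, sL_sL ha hb hab]; rfl)

theorem sE_apply (ha : Q a = 0) (hb : Q b = 0) (hab : P (⇑Q) a b = 2) (x : V) :
    sE ha hb hab x = x - P (⇑Q) x b • a - P (⇑Q) x a • b := rfl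

theorem sE_mem_oG (ha : Q a = 0) (hb : Q b = 0) (hab : P (⇑Q) a b = 2) :
    sE ha hb hab ∈ oG (⇑Q) := by
  intro x
  have e : x - P (⇑Q) x b • a - P (⇑Q) x a • b =
      x + ((-P (⇑Q) x b) • a + (-P (⇑Q) x a) • b) := by module
  rw [sE_apply, e, QuadraticMap.map_add Q, QuadraticMap.map_add Q, QuadraticMap.map_smul,
    QuadraticMap.map_smul, ha, hb, QuadraticMap.polar_add_right, QuadraticMap.polar_smul_right,
    QuadraticMap.polar_smul_right, QuadraticMap.polar_smul_left, QuadraticMap.polar_smul_right,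
    hab]
  simp only [smul_eq_mul, mul_zero, zero_add]
  ring

end swap

/-- an isometry scaling `v` by `t` and `v'` by `t⁻¹` preserves `⟨v, v'⟩^⊥` -/
theorem map_mem_perp (Q : QuadraticForm F V) {v v' : V} {g : V ≃ₗ[F] V} (hg : g ∈ oG (⇑Q))
    {t : F} (ht : t ≠ 0) (hgv : g v = t • v) (hgv' : g v' = t⁻¹ • v') {w : V}
    (hw : w ∈ perp Q v v') : g w ∈ perp Q v v' := by
  have h := (mem_perp Q v v').1 hw
  rw [mem_perp]
  constructor
  · have h1 := oG_polar Q hg v w
    rw [hgv, QuadraticMap.polar_smul_left, h.1, smul_eq_mul] at h1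
    rcases mul_eq_zero.mp h1 with h0 | h0
    · exact absurd h0 ht
    · exact h0
  · have h1 := oG_polar Q hg v' w
    rw [hgv', QuadraticMap.polar_smul_left, h.2, smul_eq_mul] at h1
    rcases mul_eq_zero.mp h1 with h0 | h0
    · exact absurd h0 (inv_ne_zero ht)
    · exact h0

variable [Fintype F] [FiniteDimensional F V]

theorem exists_torus (Q : QuadraticForm F V) (hQ : (QuadraticMap.polarBilin Q).Nondegenerate)
    (hdim : 7 ≤ finrank F V) (hcomm : ⁅oG (⇑Q), oG (⇑Q)⁆ ≤ T Q) {v v' : V} (hv : Q v = 0)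
    (hv' : Q v' = 0) (hvv' : QuadraticMap.polar (⇑Q) v v' = 1) (t : F) (ht : t ≠ 0) :
    ∃ g ∈ T Q, g v = t • v ∧ g v' = t⁻¹ • v' ∧
      ∃ ψ : ↥(perp Q v v') ≃ₗ[F] ↥(perp Q v v'),
        ∀ w : ↥(perp Q v v'), ((ψ w : ↥(perp Q v v')) : V) = g (w : V) := by
  have hv'v : P (⇑Q) v' v = 1 := by rw [QuadraticMap.polar_comm]; exact hvv'
  -- a hyperbolic pair inside `W'`
  have hndW := nondegenerate_perp hQ hv hv' hvv'
  have hdimW : 3 ≤ finrank F ↥(perp Q v v') := by
    have := finrank_perp hv hv' hvv'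
    omega
  obtain ⟨l0, hl0, hQl0⟩ := exists_singular (Q.comp (perp Q v v').subtype) hdimW
  obtain ⟨l0', hQl0', hll0⟩ := exists_hyperbolic_partner (Q.comp (perp Q v v').subtype) hndW hl0 hQl0
  obtain ⟨l, hl⟩ : ∃ l : V, l = (l0 : V) := ⟨_, rfl⟩
  obtain ⟨l', hl'⟩ : ∃ l' : V, l' = (l0' : V) := ⟨_, rfl⟩
  have hlW : l ∈ perp Q v v' := by rw [hl]; exact l0.2
  have hl'W : l' ∈ perp Q v v' := by rw [hl']; exact l0'.2
  have hQl : Q l = 0 := by rw [hl]; simpa using hQl0
  have hQl' : Q l' = 0 := by rw [hl']; simpa using hQl0'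
  have hll' : P (⇑Q) l l' = 1 := by
    rw [hl, hl', ← polar_comp_subtype]
    exact hll0
  have hl1 := (mem_perp Q v v').1 hlW
  have hl2 := (mem_perp Q v v').1 hl'W
  have hl'l : P (⇑Q) l' l = 1 := by rw [QuadraticMap.polar_comm]; exact hll'
  -- the swap
  have ha : Q (v - l) = 0 := by
    rw [Cfsg.Agent.Lib.Helper14_OmegaSimple.map_sub', hv, hQl, hl1.1]
    ring
  have hb : Q (v' - l') = 0 := by
    rw [Cfsg.Agent.Lib.Helper14_OmegaSimple.map_sub', hv', hQl', hl2.2]
    ring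
  have hab : P (⇑Q) (v - l) (v' - l') = 2 := by
    rw [QuadraticMap.polar_sub_left, QuadraticMap.polar_sub_right, QuadraticMap.polar_sub_right,
      hvv', hl2.1, hll', QuadraticMap.polar_comm (⇑Q) l v', hl1.2]
    ring
  -- values of the swap
  have hsl : sE ha hb hab l = v := by
    rw [sE_apply, QuadraticMap.polar_sub_right, QuadraticMap.polar_sub_right, hll',
      polar_self', hQl, QuadraticMap.polar_comm (⇑Q) l v', hl1.2,
      QuadraticMap.polar_comm (⇑Q) l v, hl1.1]
    module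
  have hsv : sE ha hb hab v = l := by
    rw [sE_apply, QuadraticMap.polar_sub_right, QuadraticMap.polar_sub_right, hvv',
      polar_self', hv, hl2.1, hl1.1]
    module
  have hsl' : sE ha hb hab l' = v' := by
    rw [sE_apply, QuadraticMap.polar_sub_right, QuadraticMap.polar_sub_right, hl'l,
      polar_self', hQl', QuadraticMap.polar_comm (⇑Q) l' v', hl2.2,
      QuadraticMap.polar_comm (⇑Q) l' v, hl2.1]
    module
  have hsv' : sE ha hb hab v' = l' := by
    rw [sE_apply, QuadraticMap.polar_sub_right, QuadraticMap.polar_sub_right, hv'v,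
      polar_self', hv', hl2.2, hl1.2]
    module
  have hsiv : (sE ha hb hab)⁻¹ v = l := inv_apply_eq_of_apply_eq _ hsl
  have hsiv' : (sE ha hb hab)⁻¹ v' = l' := inv_apply_eq_of_apply_eq _ hsl'
  -- the commutator
  obtain ⟨g, hgdef⟩ : ∃ g, g = ⁅hE hv hv' hvv' t ht, sE ha hb hab⁆ := ⟨_, rfl⟩
  have hgoG : g ∈ oG (⇑Q) := by
    rw [hgdef]
    exact Subgroup.commutator_le_self _ (Subgroup.commutator_mem_commutator
      (hE_mem_oG hv hv' hvv' t ht) (sE_mem_oG ha hb hab))
  have hgT : g ∈ T Q := by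
    rw [hgdef]
    exact hcomm (Subgroup.commutator_mem_commutator
      (hE_mem_oG hv hv' hvv' t ht) (sE_mem_oG ha hb hab))
  have hgv : g v = t • v := by
    rw [hgdef, commutatorElement_def, LinearEquiv.mul_apply, LinearEquiv.mul_apply,
      LinearEquiv.mul_apply, hsiv, hE_inv_of_mem hv hv' hvv' t ht hlW, hsl, hE_v]
  have hgv' : g v' = t⁻¹ • v' := by
    rw [hgdef, commutatorElement_def, LinearEquiv.mul_apply, LinearEquiv.mul_apply,
      LinearEquiv.mul_apply, hsiv', hE_inv_of_mem hv hv' hvv' t ht hl'W, hsl', hE_v']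
  refine ⟨g, hgT, hgv, hgv', ?_⟩
  -- the restriction to `W'`
  have hgiv : g⁻¹ v = t⁻¹ • v := by
    apply inv_apply_eq_of_apply_eq
    rw [map_smul, hgv, smul_smul, inv_mul_cancel₀ ht, one_smul]
  have hgiv' : g⁻¹ v' = t⁻¹⁻¹ • v' := by
    apply inv_apply_eq_of_apply_eq
    rw [map_smul, hgv', smul_smul, inv_inv, mul_inv_cancel₀ ht, one_smul]
  have hmap : (perp Q v v').map (g : V →ₗ[F] V) = perp Q v v' := by
    apply le_antisymm
    · rintro _ ⟨w, hw, rfl⟩
      exact map_mem_perp Q hgoG ht hgv hgv' hw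
    · intro w hw
      refine ⟨g⁻¹ w, map_mem_perp Q ((oG (⇑Q)).inv_mem hgoG) (inv_ne_zero ht) hgiv hgiv' hw, ?_⟩
      exact apply_inv_apply' g w
  refine ⟨LinearEquiv.ofSubmodules g (perp Q v v') (perp Q v v') hmap, ?_⟩
  intro w
  rfl

end Cfsg.Agent.Lib.Helper58_MIO_GT
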