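import Mathlib
import Cfsg.Agent.Lib.Helper5_Transv

/-!
# Definitions for S2332 (minimal complex degree of `SL_n(q)`), architect helper77

Model group: `SL (Unit ⊕ κ) F`.  `xu u = [[1,u],[0,1]]` (row type unipotent radical of the stabiliser
of the vector `e₁`), `emb A = diag(1, A)` (the Levi complement `SL κ F`), weight spaces `wsp ρ ψ v`
of the abelian group `{xu u}` (label `v : κ → F`, character `u ↦ ψ (u ⬝ᵥ v)`), the representation
`psiRep` of `SL κ F` on the fixed space `wsp ρ ψ 0`, and the numerical data `WData`.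
-/

set_option autoImplicit false
set_option linter.unusedSectionVars false
set_option linter.unusedVariables false

namespace Cfsg.Agent.Lib.Helper77_SLnDefs

open Matrix Cfsg.Agent.Lib.Helper5_Transv

/-- `N_m = 1 + q + ... + q^(m-1)`, the number of points of `P^(m-1)(q)`. -/
def NN (q m : ℕ) : ℕ := ∑ i ∈ Finset.range m, q ^ i

section model

variable {F : Type*} [Field F] {κ : Type*} [Fintype κ] [DecidableEq κ]

/-- the first basis vector of `Unit ⊕ κ → F` -/
def e0 : Unit ⊕ κ → F := Sum.elim (fun _ => 1) (fun _ => 0)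

/-- extension of a (co)vector on `κ` by `0` on the `Unit` coordinate -/
def ext0 (u : κ → F) : Unit ⊕ κ → F := Sum.elim (fun _ => 0) u

theorem ext0_dot_e0 (u : κ → F) : ext0 u ⬝ᵥ (e0 : Unit ⊕ κ → F) = 0 := by
  simp [ext0, e0, dotProduct, Fintype.sum_sum_type]

theorem ext0_dot_ext0 (u v : κ → F) : ext0 u ⬝ᵥ ext0 v = u ⬝ᵥ v := by
  simp [ext0, dotProduct, Fintype.sum_sum_type]

/-- the unipotent element `[[1,u],[0,1]]` -/
def xu (u : κ → F) : Matrix.SpecialLinearGroup (Unit ⊕ κ) F :=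
  tvS e0 (ext0 u) (ext0_dot_e0 u) 1

/-- the Levi embedding `A ↦ diag(1, A)` -/
def emb : Matrix.SpecialLinearGroup κ F →* Matrix.SpecialLinearGroup (Unit ⊕ κ) F where
  toFun A := ⟨Matrix.fromBlocks 1 0 0 A.1, by
    rw [Matrix.det_fromBlocks_zero₂₁, Matrix.det_one, one_mul, A.2]⟩
  map_one' := by
    apply Subtype.ext
    simp [Matrix.fromBlocks_one]
  map_mul' A B := by
    apply Subtype.ext
    show Matrix.fromBlocks 1 0 0 (A.1 * B.1) = Matrix.fromBlocks 1 0 0 A.1 * Matrix.fromBlocks 1 0 0 B.1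
    rw [Matrix.fromBlocks_multiply]
    simp

/-- diagonal elements of the big group -/
def diagS (d : Unit ⊕ κ → F) (h : ∏ i, d i = 1) : Matrix.SpecialLinearGroup (Unit ⊕ κ) F :=
  ⟨Matrix.diagonal d, by rw [Matrix.det_diagonal, h]⟩

/-- the root element `1 + t E_jk` of `SL κ F` -/
def rootEl (j k : κ) (hjk : j ≠ k) (t : F) : Matrix.SpecialLinearGroup κ F :=
  tvS (e j) (e k) (by rw [e_dot]; simp [e, hjk]) t

variable {V : Type*} [AddCommGroup V] [Module ℂ V]

/-- the weight space of label `v`: `xu u` acts by the scalar `ψ (u ⬝ᵥ v)` -/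
def wsp (ρ : Representation ℂ (Matrix.SpecialLinearGroup (Unit ⊕ κ) F) V) (ψ : AddChar F ℂ)
    (v : κ → F) : Submodule ℂ V where
  carrier := {w | ∀ u : κ → F, ρ (xu u) w = ψ (u ⬝ᵥ v) • w}
  add_mem' := by
    intro a b ha hb u
    rw [map_add, ha u, hb u, smul_add]
  zero_mem' := by
    intro u
    simp
  smul_mem' := by
    intro c a ha u
    rw [map_smul, ha u, smul_comm]

theorem mem_wsp (ρ : Representation ℂ (Matrix.SpecialLinearGroup (Unit ⊕ κ) F) V) (ψ : AddChar F ℂ)
    (v : κ → F) (w : V) : w ∈ wsp ρ ψ v ↔ ∀ u : κ → F, ρ (xu u) w = ψ (u ⬝ᵥ v) • w := Iff.rfl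

theorem emb_coe (A : Matrix.SpecialLinearGroup κ F) :
    (emb A).1 = Matrix.fromBlocks 1 0 0 A.1 := rfl

theorem emb_mulVec (A : Matrix.SpecialLinearGroup κ F) (a : Unit → F) (v : κ → F) :
    (emb A).1 *ᵥ (Sum.elim a v) = Sum.elim a (A.1 *ᵥ v) := by
  rw [emb_coe, Matrix.fromBlocks_mulVec]
  simp

theorem vecMul_emb (A : Matrix.SpecialLinearGroup κ F) (a : Unit → F) (u : κ → F) :
    (Sum.elim a u) ᵥ* (emb A).1 = Sum.elim a (u ᵥ* A.1) := by
  rw [emb_coe, Matrix.vecMul_fromBlocks]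
  simp

theorem emb_mulVec_e0 (A : Matrix.SpecialLinearGroup κ F) :
    (emb A).1 *ᵥ (e0 : Unit ⊕ κ → F) = e0 := by
  have h : (fun _ : κ => (0 : F)) = 0 := rfl
  unfold e0
  rw [emb_mulVec, h, Matrix.mulVec_zero]

theorem ext0_vecMul_emb (A : Matrix.SpecialLinearGroup κ F) (u : κ → F) :
    ext0 u ᵥ* (emb A).1 = ext0 (u ᵥ* A.1) := by
  unfold ext0
  rw [vecMul_emb]

/-- conjugation of the unipotent radical by the Levi complement -/
theorem emb_conj_xu (A : Matrix.SpecialLinearGroup κ F) (u : κ → F) :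
    emb A * xu u * (emb A)⁻¹ = xu (u ᵥ* (A⁻¹).1) := by
  unfold xu
  rw [conj_tvS]
  apply Subtype.ext
  rw [tvS_coe, tvS_coe, emb_mulVec_e0, ← map_inv, ext0_vecMul_emb]

theorem xu_add (u u' : κ → F) : xu (u + u') = xu u * xu u' := by
  apply Subtype.ext
  unfold xu
  simp only [tvS_coe, Matrix.SpecialLinearGroup.coe_mul]
  rw [tv_mul_tv, ext0_dot_e0, mul_zero, zero_smul, add_zero]
  unfold tv ext0
  have : (Sum.elim (fun _ => (0 : F)) (u + u') : Unit ⊕ κ → F) =
      Sum.elim (fun _ => 0) u + Sum.elim (fun _ => 0) u' := by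
    funext i
    cases i <;> simp
  rw [this, Matrix.vecMulVec_add, one_smul, one_smul, add_assoc]
  simp

theorem xu_zero : xu (0 : κ → F) = 1 := by
  apply Subtype.ext
  unfold xu
  simp only [tvS_coe, Matrix.SpecialLinearGroup.coe_one]
  unfold tv ext0
  have : (Sum.elim (fun _ => (0 : F)) (0 : κ → F) : Unit ⊕ κ → F) = 0 := by
    funext i
    cases i <;> simp
  rw [this]
  simp

/-- the Levi complement permutes the weight spaces through the natural action on labels -/
theorem wsp_emb (ρ : Representation ℂ (Matrix.SpecialLinearGroup (Unit ⊕ κ) F) V) (ψ : AddChar F ℂ)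
    (A : Matrix.SpecialLinearGroup κ F) (v : κ → F) (w : V) (hw : w ∈ wsp ρ ψ v) :
    ρ (emb A) w ∈ wsp ρ ψ (A.1 *ᵥ v) := by
  intro u
  have h1 : xu u * emb A = emb A * xu (u ᵥ* A.1) := by
    have h := emb_conj_xu A (u ᵥ* A.1)
    have h2 : (u ᵥ* A.1) ᵥ* (A⁻¹).1 = u := by
      rw [Matrix.vecMul_vecMul]
      have : A.1 * (A⁻¹).1 = 1 := congrArg Subtype.val (mul_inv_cancel A)
      rw [this, Matrix.vecMul_one]
    rw [h2] at h
    rw [← h]
    group
  have h3 : ρ (xu u) (ρ (emb A) w) = ρ (emb A) (ρ (xu (u ᵥ* A.1)) w) := by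
    rw [← Module.End.mul_apply, ← map_mul, h1, map_mul, Module.End.mul_apply]
  rw [h3, hw (u ᵥ* A.1), map_smul, Matrix.dotProduct_mulVec]

/-- the representation of the Levi complement `SL κ F` on the fixed space `wsp ρ ψ 0` -/
def psiRep (ρ : Representation ℂ (Matrix.SpecialLinearGroup (Unit ⊕ κ) F) V) (ψ : AddChar F ℂ) :
    Representation ℂ (Matrix.SpecialLinearGroup κ F) (wsp ρ ψ (0 : κ → F)) where
  toFun A := (ρ (emb A)).restrict (p := wsp ρ ψ (0 : κ → F)) (q := wsp ρ ψ (0 : κ → F))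
    (fun w hw => by
      have := wsp_emb ρ ψ A 0 w hw
      rwa [Matrix.mulVec_zero] at this)
  map_one' := by
    ext w
    simp
  map_mul' A B := by
    ext w
    simp

theorem psiRep_apply (ρ : Representation ℂ (Matrix.SpecialLinearGroup (Unit ⊕ κ) F) V)
    (ψ : AddChar F ℂ) (A : Matrix.SpecialLinearGroup κ F) (w : wsp ρ ψ (0 : κ → F)) :
    ((psiRep ρ ψ A) w : V) = ρ (emb A) (w : V) := rfl

/-- the numerical weight data of a representation: common multiplicity `e` of the nonzero labels,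
multiplicity `f` of the zero label -/
structure WData [Fintype F] (ρ : Representation ℂ (Matrix.SpecialLinearGroup (Unit ⊕ κ) F) V)
    (ψ : AddChar F ℂ) (e f : ℕ) : Prop where
  he : ∀ v : κ → F, v ≠ 0 → Module.finrank ℂ (wsp ρ ψ v) = e
  hf : Module.finrank ℂ (wsp ρ ψ (0 : κ → F)) = f
  hD : Module.finrank ℂ V = f + e * (Fintype.card F ^ Fintype.card κ - 1)
  htr : ∀ u : κ → F, u ≠ 0 → LinearMap.trace ℂ V (ρ (xu u)) = (f : ℂ) - (e : ℂ)

end model

/-- reindexing isomorphism of special linear groups -/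
def slReindex {F : Type*} [CommRing F] {ι ι' : Type*} [Fintype ι] [DecidableEq ι] [Fintype ι']
    [DecidableEq ι'] (σ : ι ≃ ι') :
    Matrix.SpecialLinearGroup ι F ≃* Matrix.SpecialLinearGroup ι' F where
  toFun A := ⟨Matrix.reindex σ σ A.1, by rw [Matrix.det_reindex_self, A.2]⟩
  invFun A := ⟨Matrix.reindex σ.symm σ.symm A.1, by rw [Matrix.det_reindex_self, A.2]⟩
  left_inv A := by
    apply Subtype.ext
    simp
  right_inv A := by
    apply Subtype.ext
    simp
  map_mul' A B := by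
    apply Subtype.ext
    show Matrix.reindex σ σ (A.1 * B.1) = Matrix.reindex σ σ A.1 * Matrix.reindex σ σ B.1
    simp [Matrix.submatrix_mul_equiv]

/-- the vectors fixed by a subgroup -/
def stabFix {G : Type*} [Group G] {X : Type*} [AddCommGroup X] [Module ℂ X]
    (ρ : Representation ℂ G X) (H : Subgroup G) : Submodule ℂ X where
  carrier := {w | ∀ h ∈ H, ρ h w = w}
  add_mem' := by
    intro a b ha hb h hh
    rw [map_add, ha h hh, hb h hh]
  zero_mem' := by
    intro h _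
    simp
  smul_mem' := by
    intro c a ha h hh
    rw [map_smul, ha h hh]

theorem mem_stabFix {G : Type*} [Group G] {X : Type*} [AddCommGroup X] [Module ℂ X]
    (ρ : Representation ℂ G X) (H : Subgroup G) (w : X) :
    w ∈ stabFix ρ H ↔ ∀ h ∈ H, ρ h w = w := Iff.rfl

section action

variable {F : Type*} [Field F] {ι : Type*} [Fintype ι] [DecidableEq ι]

/-- the nonzero vectors of `ι → F` -/
def NZv (ι : Type*) (F : Type*) [Zero F] : Type _ := {x : ι → F // x ≠ 0}

theorem mulVec_ne_zero (g : Matrix.SpecialLinearGroup ι F) (x : ι → F) (hx : x ≠ 0) :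
    g.1 *ᵥ x ≠ 0 := by
  intro h
  apply hx
  have h1 : (g⁻¹).1 *ᵥ (g.1 *ᵥ x) = x := by
    rw [Matrix.mulVec_mulVec]
    have : (g⁻¹).1 * g.1 = 1 := congrArg Subtype.val (inv_mul_cancel g)
    rw [this, Matrix.one_mulVec]
  rw [← h1, h, Matrix.mulVec_zero]

/-- the natural action of `SL ι F` on the nonzero vectors -/
instance : MulAction (Matrix.SpecialLinearGroup ι F) (NZv ι F) where
  smul g x := ⟨g.1 *ᵥ x.1, mulVec_ne_zero g x.1 x.2⟩
  one_smul x := by
    apply Subtype.ext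
    show (1 : Matrix.SpecialLinearGroup ι F).1 *ᵥ x.1 = x.1
    simp
  mul_smul g h x := by
    apply Subtype.ext
    show (g * h).1 *ᵥ x.1 = g.1 *ᵥ (h.1 *ᵥ x.1)
    rw [Matrix.SpecialLinearGroup.coe_mul, Matrix.mulVec_mulVec]

theorem smul_NZv_val (g : Matrix.SpecialLinearGroup ι F) (x : NZv ι F) :
    (g • x).1 = g.1 *ᵥ x.1 := rfl

instance [Fintype F] [DecidableEq F] : Fintype (NZv ι F) := by
  unfold NZv
  infer_instance

end action

section basepoint

variable {F : Type*} [Field F] {κ : Type*} [Fintype κ] [DecidableEq κ]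

theorem e0_ne_zero : (e0 : Unit ⊕ κ → F) ≠ 0 := by
  intro h
  have := congrFun h (Sum.inl ())
  simp [e0] at this

/-- the base point `e₁` of the action on nonzero vectors -/
def x0 : NZv (Unit ⊕ κ) F := ⟨e0, e0_ne_zero⟩

/-- the stabiliser of the line spanned by `e₁` -/
def Pline : Subgroup (Matrix.SpecialLinearGroup (Unit ⊕ κ) F) where
  carrier := {g | ∃ c : F, g.1 *ᵥ (e0 : Unit ⊕ κ → F) = c • e0}
  mul_mem' := by
    rintro a b ⟨c, hc⟩ ⟨d, hd⟩
    refine ⟨d * c, ?_⟩
    rw [Matrix.SpecialLinearGroup.coe_mul, ← Matrix.mulVec_mulVec, hd, Matrix.mulVec_smul, hc,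
      smul_smul]
  one_mem' := ⟨1, by simp⟩
  inv_mem' := by
    rintro a ⟨c, hc⟩
    have hc0 : c ≠ 0 := by
      intro h0
      rw [h0, zero_smul] at hc
      exact mulVec_ne_zero a e0 e0_ne_zero hc
    refine ⟨c⁻¹, ?_⟩
    have h1 : (a⁻¹).1 *ᵥ (a.1 *ᵥ (e0 : Unit ⊕ κ → F)) = e0 := by
      rw [Matrix.mulVec_mulVec]
      have : (a⁻¹).1 * a.1 = 1 := congrArg Subtype.val (inv_mul_cancel a)
      rw [this, Matrix.one_mulVec]
    rw [hc, Matrix.mulVec_smul] at h1
    have h2 : c⁻¹ • (c • ((a⁻¹).1 *ᵥ (e0 : Unit ⊕ κ → F))) = c⁻¹ • e0 := by rw [h1]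
    rw [smul_smul, inv_mul_cancel₀ hc0, one_smul] at h2
    exact h2

end basepoint

/-- every irreducible complex representation of degree at least two of `SL ι F`, `|ι| = m`,
has degree at least `d` -/
def MinDeg (F : Type*) [Field F] (m d : ℕ) : Prop :=
  ∀ (ι : Type) [Fintype ι] [DecidableEq ι], Fintype.card ι = m →
    ∀ (V : Type) [AddCommGroup V] [Module ℂ V] [FiniteDimensional ℂ V]
      (ρ : Representation ℂ (Matrix.SpecialLinearGroup ι F) V), ρ.IsIrreducible →
      2 ≤ Module.finrank ℂ V → d ≤ Module.finrank ℂ V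

end Cfsg.Agent.Lib.Helper77_SLnDefs
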