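import Mathlib
import Cfsg.Agent.Lib.Helper77_SLnDefs
import Cfsg.Prelude.Def_Characters


/-!
# S2332 package LINEGEN (architect helper77)
-/

set_option autoImplicit false
open Matrix Cfsg.Agent.Lib.Helper5_Transv Cfsg.Agent.Lib.Helper77_SLnDefs

namespace Cfsg.Agent.Lib.Helper60_S2332_LINEGEN

variable {F : Type*} [Field F] [Fintype F] [DecidableEq F] {κ : Type} [Fintype κ] [DecidableEq κ]
  {V : Type} [AddCommGroup V] [Module ℂ V] [FiniteDimensional ℂ V]

theorem comm_fixes_line {G : Type*} [Group G] {X : Type*} [AddCommGroup X] [Module ℂ X]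
    (ρ : Representation ℂ G X) (L : Submodule ℂ X) (hL : Module.finrank ℂ L = 1) (a b : G)
    (ha : ∀ w ∈ L, ρ a w ∈ L) (hb : ∀ w ∈ L, ρ b w ∈ L) (w : X) (hw : w ∈ L) :
    ρ (a * b * a⁻¹ * b⁻¹) w = w := by
  obtain ⟨v, hv0, hv⟩ := finrank_eq_one_iff'.1 hL
  -- scalars
  have hsc : ∀ g : G, (∀ w ∈ L, ρ g w ∈ L) → ∃ c : ℂ, ∀ x ∈ L, ρ g x = c • x := by
    intro g hg
    obtain ⟨c, hc⟩ := hv ⟨ρ g (v : X), hg _ v.2⟩
    have hc' : ρ g (v : X) = c • (v : X) := by
      have := congrArg Subtype.val hc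
      simpa using this.symm
    refine ⟨c, fun x hx => ?_⟩
    obtain ⟨d, hd⟩ := hv ⟨x, hx⟩
    have hd' : x = d • (v : X) := by
      have := congrArg Subtype.val hd
      simpa using this.symm
    rw [hd', map_smul, hc', smul_comm]
  obtain ⟨α, hα⟩ := hsc a ha
  obtain ⟨β, hβ⟩ := hsc b hb
  have hvne : (v : X) ≠ 0 := fun h => hv0 (Subtype.ext h)
  have hα0 : α ≠ 0 := by
    intro h0
    have h1 := hα v v.2
    rw [h0, zero_smul] at h1
    have h2 : ρ a⁻¹ (ρ a (v : X)) = (v : X) := by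
      rw [← Module.End.mul_apply, ← map_mul, inv_mul_cancel, map_one, Module.End.one_apply]
    rw [h1, map_zero] at h2
    exact hvne h2.symm
  have hβ0 : β ≠ 0 := by
    intro h0
    have h1 := hβ v v.2
    rw [h0, zero_smul] at h1
    have h2 : ρ b⁻¹ (ρ b (v : X)) = (v : X) := by
      rw [← Module.End.mul_apply, ← map_mul, inv_mul_cancel, map_one, Module.End.one_apply]
    rw [h1, map_zero] at h2
    exact hvne h2.symm
  have hinv : ∀ (g : G) (c : ℂ), c ≠ 0 → (∀ x ∈ L, ρ g x = c • x) → ∀ x ∈ L, ρ g⁻¹ x = c⁻¹ • x := by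
    intro g c hc hg x hx
    have h1 : ρ g⁻¹ (ρ g x) = x := by
      rw [← Module.End.mul_apply, ← map_mul, inv_mul_cancel, map_one, Module.End.one_apply]
    rw [hg x hx, map_smul] at h1
    have h2 : c⁻¹ • (c • ρ g⁻¹ x) = c⁻¹ • x := by rw [h1]
    rwa [smul_smul, inv_mul_cancel₀ hc, one_smul] at h2
  have hαi := hinv a α hα0 hα
  have hβi := hinv b β hβ0 hβ
  rw [map_mul, map_mul, map_mul]
  simp only [Module.End.mul_apply]
  rw [hβi w hw]
  simp only [map_smul]
  rw [hαi w hw]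
  simp only [map_smul]
  rw [hβ w hw]
  simp only [map_smul]
  rw [hα w hw, smul_smul, smul_smul, smul_smul]
  have : β⁻¹ * α⁻¹ * β * α = 1 := by field_simp
  rw [this, one_smul]

end Cfsg.Agent.Lib.Helper60_S2332_LINEGEN
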