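import Mathlib
import Cfsg.Agent.Lib.Helper95_OPDefs
import Cfsg.Agent.Lib.Helper95_OPBasic
import Cfsg.Agent.Lib.Helper58_MIO_GT
import Cfsg.Agent.Lib.Helper60_S2332_LINEGEN

/-!
# S2345 package OP-COMMFIX (architect helper95): the commutator of two elements of `T Q` fixing
`v, v', u` acts trivially on a one-dimensional weight space `wsp u`
-/

set_option autoImplicit false

namespace Cfsg.Agent.Lib.Helper70_OP_COMMFIX

open Module Cfsg.Agent.Lib.Helper94_OrthSmall Cfsg.Agent.Lib.Helper44_QuadClass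
  Cfsg.Agent.Lib.Helper14_OmegaSimple Cfsg.Agent.Lib.Helper38_MIODefs
  Cfsg.Agent.Lib.Helper95_OPDefs Cfsg.Agent.Lib.Helper95_OPBasic

section restr

variable {F V : Type*} [Field F] [AddCommGroup V] [Module F V]

/-- an isometry fixing `v` and `v'` restricts to a linear equivalence of `perp Q v v'` -/
theorem exists_restr (Q : QuadraticForm F V) {v v' : V} {g : V ≃ₗ[F] V} (hg : g ∈ oG (⇑Q))
    (hgv : g v = v) (hgv' : g v' = v') :
    ∃ φ : ↥(perp Q v v') ≃ₗ[F] ↥(perp Q v v'),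
      ∀ w : ↥(perp Q v v'), ((φ w : ↥(perp Q v v')) : V) = g (w : V) := by
  have h1 : (1 : F) ≠ 0 := one_ne_zero
  have hgv1 : g v = (1 : F) • v := by rw [one_smul, hgv]
  have hgv1' : g v' = (1 : F)⁻¹ • v' := by rw [inv_one, one_smul, hgv']
  have hgiv : g⁻¹ v = (1 : F) • v := by
    rw [one_smul]
    exact Cfsg.Agent.Lib.Helper58_MIO_ZEL.inv_apply_eq_of_apply_eq g hgv
  have hgiv' : g⁻¹ v' = (1 : F)⁻¹ • v' := by
    rw [inv_one, one_smul]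
    exact Cfsg.Agent.Lib.Helper58_MIO_ZEL.inv_apply_eq_of_apply_eq g hgv'
  have hmap : (perp Q v v').map (g : V →ₗ[F] V) = perp Q v v' := by
    apply le_antisymm
    · rintro _ ⟨w, hw, rfl⟩
      exact Cfsg.Agent.Lib.Helper58_MIO_GT.map_mem_perp Q hg h1 hgv1 hgv1' hw
    · intro w hw
      refine ⟨g⁻¹ w, Cfsg.Agent.Lib.Helper58_MIO_GT.map_mem_perp Q ((oG (⇑Q)).inv_mem hg) h1
        hgiv hgiv' hw, ?_⟩
      exact Cfsg.Agent.Lib.Helper94_Symp.apply_inv_apply' g w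
  exact ⟨LinearEquiv.ofSubmodules g (perp Q v v') (perp Q v v') hmap, fun w => rfl⟩

end restr

variable {F V : Type*} [Field F] [Fintype F] [AddCommGroup V] [Module F V] [FiniteDimensional F V]
  {X : Type*} [AddCommGroup X] [Module ℂ X] [FiniteDimensional ℂ X]

/-- an element of `T Q` fixing `v, v'` and the label `u` preserves the weight space of `u` -/
theorem wsp_fix (Q : QuadraticForm F V) (hQ : (QuadraticMap.polarBilin Q).Nondegenerate)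
    (hdim : 5 ≤ finrank F V) {v v' : V} (hv : Q v = 0)
    (ρ : Representation ℂ ↥(T Q) X) (ψ : AddChar F ℂ) (u : ↥(perp Q v v'))
    (g : V ≃ₗ[F] V) (hg : g ∈ T Q) (hgv : g v = v) (hgv' : g v' = v')
    (hgu : g (u : V) = (u : V)) (x : X) (hx : x ∈ wsp Q ρ ψ v v' u) :
    repE Q ρ g x ∈ wsp Q ρ ψ v v' u := by
  obtain ⟨φ, hφ⟩ := exists_restr Q (T_le_oG Q hg) hgv hgv'
  have h := wsp_map Q hQ hdim hv ρ ψ g hg 1 one_ne_zero (by rw [one_smul, hgv]) φ hφ u x hx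
  have hφu : φ u = u := Subtype.ext (by rw [hφ, hgu])
  rw [inv_one, one_smul, hφu] at h
  exact h

/-! ## OP-COMMFIX (M) -/
theorem comm_fix (Q : QuadraticForm F V) (hQ : (QuadraticMap.polarBilin Q).Nondegenerate)
    (hdim : 5 ≤ finrank F V) {v v' : V} (hv : Q v = 0) (hv' : Q v' = 0)
    (hvv' : QuadraticMap.polar (⇑Q) v v' = 1)
    (ρ : Representation ℂ ↥(T Q) X) (ψ : AddChar F ℂ) (u : ↥(perp Q v v'))
    (h1 : finrank ℂ (wsp Q ρ ψ v v' u) = 1) (g₁ g₂ : V ≃ₗ[F] V) (hg₁ : g₁ ∈ T Q) (hg₂ : g₂ ∈ T Q)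
    (h₁v : g₁ v = v) (h₁v' : g₁ v' = v') (h₁u : g₁ (u : V) = (u : V))
    (h₂v : g₂ v = v) (h₂v' : g₂ v' = v') (h₂u : g₂ (u : V) = (u : V))
    (x : X) (hx : x ∈ wsp Q ρ ψ v v' u) :
    repE Q ρ (g₁ * g₂ * g₁⁻¹ * g₂⁻¹) x = x := by
  have hmem : g₁ * g₂ * g₁⁻¹ * g₂⁻¹ ∈ T Q :=
    (T Q).mul_mem ((T Q).mul_mem ((T Q).mul_mem hg₁ hg₂) ((T Q).inv_mem hg₁)) ((T Q).inv_mem hg₂)
  rw [repE_of_mem Q ρ hmem]
  have hc := Cfsg.Agent.Lib.Helper60_S2332_LINEGEN.comm_fixes_line ρ (wsp Q ρ ψ v v' u) h1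
    (⟨g₁, hg₁⟩ : ↥(T Q)) ⟨g₂, hg₂⟩
    (fun w hw => by
      have := wsp_fix Q hQ hdim hv ρ ψ u g₁ hg₁ h₁v h₁v' h₁u w hw
      rw [repE_of_mem Q ρ hg₁] at this
      exact this)
    (fun w hw => by
      have := wsp_fix Q hQ hdim hv ρ ψ u g₂ hg₂ h₂v h₂v' h₂u w hw
      rw [repE_of_mem Q ρ hg₂] at this
      exact this) x hx
  exact hc

end Cfsg.Agent.Lib.Helper70_OP_COMMFIX
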