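/-
S2344 OO2 market (cutter helper87), package OO2-AZ: the level-2 weight space `A_z = X_(z,0)` is `0` for a
non-singular `z ∈ W₁` and a line for a non-zero singular `z ∈ W₁`.
-/
import Mathlib
import Cfsg.Agent.Lib.Helper95_OPDefs
import Cfsg.Agent.Lib.Helper95_OPBasic
import Cfsg.Agent.Lib.Helper48_OODefs
import Cfsg.Agent.Lib.Helper87_OO2Defs
import Cfsg.Agent.Lib.Helper87_OO2Defs2
import Cfsg.Agent.Lib.Helper9_OO_K_COMP
import Cfsg.Agent.Lib.Helper86_OO_K_WSUPP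
import Cfsg.Agent.Lib.Helper63_OP_HCOMM
import Cfsg.Agent.Lib.Helper58_MIO_ZEL
import Cfsg.Agent.Lib.Helper70_OP_COMMFIX

set_option autoImplicit false
set_option linter.unusedSectionVars false
set_option linter.unusedVariables false

namespace Cfsg.Agent.Lib.Helper52_OO2_AZ

open Module Cfsg.Agent.Lib.Helper94_OrthSmall Cfsg.Agent.Lib.Helper44_QuadClass
  Cfsg.Agent.Lib.Helper14_OmegaSimple Cfsg.Agent.Lib.Helper38_MIODefs
  Cfsg.Agent.Lib.Helper95_OPDefs Cfsg.Agent.Lib.Helper95_OPBasic Cfsg.Agent.Lib.Helper48_OODefs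
  Cfsg.Agent.Lib.Helper87_OO2Defs

section geom

variable {F V : Type*} [Field F] [AddCommGroup V] [Module F V]

theorem mem_W1 (Q : QuadraticForm F V) (v v' w0 w0' w : V) :
    w ∈ W1 Q v v' w0 w0' ↔ (QuadraticMap.polar (⇑Q) v w = 0 ∧ QuadraticMap.polar (⇑Q) v' w = 0) ∧
      (QuadraticMap.polar (⇑Q) w0 w = 0 ∧ QuadraticMap.polar (⇑Q) w0' w = 0) := by
  unfold W1
  rw [Submodule.mem_inf, mem_perp, mem_perp]

/-- the `W₁`-component of a vector -/
def w1c (Q : QuadraticForm F V) (v v' w0 w0' x : V) : V :=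
  x - QuadraticMap.polar (⇑Q) x v' • v - QuadraticMap.polar (⇑Q) x v • v'
    - QuadraticMap.polar (⇑Q) x w0' • w0 - QuadraticMap.polar (⇑Q) x w0 • w0'

theorem w1c_mem (Q : QuadraticForm F V) {v v' w0 w0' : V} (h : HQuad Q v v' w0 w0') (x : V) :
    w1c Q v v' w0 w0' x ∈ W1 Q v v' w0 w0' := by
  have svv : QuadraticMap.polar (⇑Q) v v = 0 := by
    rw [QuadraticMap.polar_self, h.pa.qa, smul_zero]
  have sv'v' : QuadraticMap.polar (⇑Q) v' v' = 0 := by
    rw [QuadraticMap.polar_self, h.pa.qa', smul_zero]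
  have saa : QuadraticMap.polar (⇑Q) w0 w0 = 0 := by
    rw [QuadraticMap.polar_self, h.pb.qa, smul_zero]
  have sa'a' : QuadraticMap.polar (⇑Q) w0' w0' = 0 := by
    rw [QuadraticMap.polar_self, h.pb.qa', smul_zero]
  have cv'v : QuadraticMap.polar (⇑Q) v' v = 1 := by rw [QuadraticMap.polar_comm, h.pa.aa']
  have ca'a : QuadraticMap.polar (⇑Q) w0' w0 = 1 := by rw [QuadraticMap.polar_comm, h.pb.aa']
  have cav : QuadraticMap.polar (⇑Q) w0 v = 0 := by rw [QuadraticMap.polar_comm, h.ab]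
  have ca'v : QuadraticMap.polar (⇑Q) w0' v = 0 := by rw [QuadraticMap.polar_comm, h.ab']
  have cav' : QuadraticMap.polar (⇑Q) w0 v' = 0 := by rw [QuadraticMap.polar_comm, h.a'b]
  have ca'v' : QuadraticMap.polar (⇑Q) w0' v' = 0 := by rw [QuadraticMap.polar_comm, h.a'b']
  rw [mem_W1]
  unfold w1c
  refine ⟨⟨?_, ?_⟩, ?_, ?_⟩
  · simp only [QuadraticMap.polar_sub_right, QuadraticMap.polar_smul_right, smul_eq_mul, svv,
      h.pa.aa', h.ab, h.ab', QuadraticMap.polar_comm (⇑Q) v x]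
    ring
  · simp only [QuadraticMap.polar_sub_right, QuadraticMap.polar_smul_right, smul_eq_mul, sv'v',
      cv'v, h.a'b, h.a'b', QuadraticMap.polar_comm (⇑Q) v' x]
    ring
  · simp only [QuadraticMap.polar_sub_right, QuadraticMap.polar_smul_right, smul_eq_mul, saa,
      h.pb.aa', cav, cav', QuadraticMap.polar_comm (⇑Q) w0 x]
    ring
  · simp only [QuadraticMap.polar_sub_right, QuadraticMap.polar_smul_right, smul_eq_mul, sa'a',
      ca'a, ca'v, ca'v', QuadraticMap.polar_comm (⇑Q) w0' x]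
    ring

theorem w1c_decomp (Q : QuadraticForm F V) (v v' w0 w0' x : V) :
    x = w1c Q v v' w0 w0' x + QuadraticMap.polar (⇑Q) x v' • v + QuadraticMap.polar (⇑Q) x v • v'
      + QuadraticMap.polar (⇑Q) x w0' • w0 + QuadraticMap.polar (⇑Q) x w0 • w0' := by
  unfold w1c
  abel

/-- a vector of `W₁` pairs with `x` as with the `W₁`-component of `x` -/
theorem polar_w1c (Q : QuadraticForm F V) {v v' w0 w0' : V} (z x : V)
    (hz : z ∈ W1 Q v v' w0 w0') :
    QuadraticMap.polar (⇑Q) z (w1c Q v v' w0 w0' x) = QuadraticMap.polar (⇑Q) z x := by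
  obtain ⟨⟨z1, z2⟩, z3, z4⟩ := (mem_W1 Q v v' w0 w0' z).1 hz
  rw [QuadraticMap.polar_comm] at z1 z2 z3 z4
  unfold w1c
  simp only [QuadraticMap.polar_sub_right, QuadraticMap.polar_smul_right, smul_eq_mul, z1, z2, z3, z4,
    mul_zero, sub_zero]

/-- a non-zero vector of `W₁` pairs to `1` with a vector of `W₁` -/
theorem exists_dual_W1 (Q : QuadraticForm F V) (hQ : (QuadraticMap.polarBilin Q).Nondegenerate)
    {v v' w0 w0' : V} (h : HQuad Q v v' w0 w0') (z : V) (hz : z ∈ W1 Q v v' w0 w0') (hz0 : z ≠ 0) :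
    ∃ y ∈ W1 Q v v' w0 w0', QuadraticMap.polar (⇑Q) z y = 1 := by
  have hex : ∃ x : V, QuadraticMap.polar (⇑Q) z x ≠ 0 := by
    by_contra hcon
    push Not at hcon
    apply hz0
    apply hQ.1
    intro x
    rw [QuadraticMap.polarBilin_apply_apply]
    exact hcon x
  obtain ⟨x, hx⟩ := hex
  refine ⟨(QuadraticMap.polar (⇑Q) z x)⁻¹ • w1c Q v v' w0 w0' x,
    Submodule.smul_mem _ _ (w1c_mem Q h x), ?_⟩
  rw [QuadraticMap.polar_smul_right, polar_w1c Q z x hz, smul_eq_mul, inv_mul_cancel₀ hx]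

/-- a vector of `W` orthogonal to `W₁` and to `w0` is a multiple of `w0` -/
theorem eq_smul_w0 (Q : QuadraticForm F V) (hQ : (QuadraticMap.polarBilin Q).Nondegenerate)
    {v v' w0 w0' : V} (h : HQuad Q v v' w0 w0') (y : V) (hy : y ∈ perp Q v v')
    (hy1 : ∀ r ∈ W1 Q v v' w0 w0', QuadraticMap.polar (⇑Q) y r = 0)
    (hy0 : QuadraticMap.polar (⇑Q) y w0 = 0) :
    y = QuadraticMap.polar (⇑Q) y w0' • w0 := by
  obtain ⟨hyv, hyv'⟩ := (mem_perp Q v v').1 hy
  rw [QuadraticMap.polar_comm] at hyv hyv'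
  have saa : QuadraticMap.polar (⇑Q) w0 w0 = 0 := by
    rw [QuadraticMap.polar_self, h.pb.qa, smul_zero]
  have cav : QuadraticMap.polar (⇑Q) w0 v = 0 := by rw [QuadraticMap.polar_comm, h.ab]
  have cav' : QuadraticMap.polar (⇑Q) w0 v' = 0 := by rw [QuadraticMap.polar_comm, h.a'b]
  rw [← sub_eq_zero]
  apply hQ.1
  intro x
  rw [QuadraticMap.polarBilin_apply_apply]
  have hw01 : ∀ r ∈ W1 Q v v' w0 w0', QuadraticMap.polar (⇑Q) w0 r = 0 := by
    intro r hr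
    exact ((mem_W1 Q v v' w0 w0' r).1 hr).2.1
  rw [w1c_decomp Q v v' w0 w0' x]
  simp only [QuadraticMap.polar_add_right, QuadraticMap.polar_sub_left, QuadraticMap.polar_smul_left,
    QuadraticMap.polar_smul_right, smul_eq_mul, hy1 _ (w1c_mem Q h x), hw01 _ (w1c_mem Q h x), hyv,
    hyv', hy0, saa, cav, cav', h.pb.aa']
  ring

end geom

section rep

open Cfsg.Agent.Lib.Helper64_OOKDefs Cfsg.Agent.Lib.Helper9_OO_K_COMP
  Cfsg.Agent.Lib.Helper86_OO_K_WSUPP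

variable {F V : Type*} [Field F] [Fintype F] [AddCommGroup V] [Module F V] [FiniteDimensional F V]
  {X : Type*} [AddCommGroup X] [Module ℂ X] [FiniteDimensional ℂ X]

theorem sup_le_perp (Q : QuadraticForm F V) {v v' w0 w0' : V} (h : HQuad Q v v' w0 w0') :
    W1 Q v v' w0 w0' ⊔ Submodule.span F {w0} ≤ perp Q v v' := by
  apply sup_le
  · exact inf_le_left
  · rw [Submodule.span_le, Set.singleton_subset_iff]
    exact h.mem_perp.1

/-- the weights occurring in a vector of `eigE v (W₁ + F w0) z` are of the form `z + a w0` -/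
theorem comp_support (Q : QuadraticForm F V) (hQ : (QuadraticMap.polarBilin Q).Nondegenerate)
    (hdim : 5 ≤ finrank F V) {v v' w0 w0' : V} (h : HQuad Q v v' w0 w0')
    [DecidableEq ↥(perp Q v v')]
    (ρ : Representation ℂ ↥(T Q) X) (ψ : AddChar F ℂ) (hψ : ψ ≠ 1)
    (hint : DirectSum.IsInternal (fun u : ↥(perp Q v v') => wsp Q ρ ψ v v' u))
    (z : V) (hz : z ∈ W1 Q v v' w0 w0') (x : X)
    (hx : x ∈ eigE Q ρ ψ v (W1 Q v v' w0 w0' ⊔ Submodule.span F {w0}) z)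
    (u : ↥(perp Q v v')) (hu : comp Q ρ ψ hint x u ≠ 0) :
    ∃ a : F, (u : V) = z + a • w0 := by
  have hle := sup_le_perp Q h
  have key : ∀ r ∈ W1 Q v v' w0 w0' ⊔ Submodule.span F {w0},
      QuadraticMap.polar (⇑Q) (u : V) r = QuadraticMap.polar (⇑Q) z r := by
    intro r hr
    by_contra hne
    apply hu
    apply comp_eq_zero_of_eigen Q hQ hdim h.pa.qa ρ ψ hψ hint ⟨r, hle hr⟩
      (QuadraticMap.polar (⇑Q) z r) x
    · intro s
      have := (mem_eigE Q ρ ψ v _ z x).1 hx (s • r) (Submodule.smul_mem _ s hr)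
      rw [this, QuadraticMap.polar_smul_right, smul_eq_mul, mul_comm]
    · rw [polar_comp_subtype]
      exact hne
  have hzW : z ∈ perp Q v v' := hz.1
  have hy : (u : V) - z ∈ perp Q v v' := Submodule.sub_mem _ u.2 hzW
  have h1 : ∀ r ∈ W1 Q v v' w0 w0', QuadraticMap.polar (⇑Q) ((u : V) - z) r = 0 := by
    intro r hr
    rw [QuadraticMap.polar_sub_left, key r (Submodule.mem_sup_left hr), sub_self]
  have h0 : QuadraticMap.polar (⇑Q) ((u : V) - z) w0 = 0 := by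
    rw [QuadraticMap.polar_sub_left,
      key w0 (Submodule.mem_sup_right (Submodule.mem_span_singleton_self w0)), sub_self]
  have := eq_smul_w0 Q hQ h _ hy h1 h0
  refine ⟨QuadraticMap.polar (⇑Q) ((u : V) - z) w0', ?_⟩
  rw [← this]
  abel

/-- `Q (z + a w0) = Q z` for `z ∈ W₁` -/
theorem Q_add_smul_w0 (Q : QuadraticForm F V) {v v' w0 w0' : V} (h : HQuad Q v v' w0 w0')
    (z : V) (hz : z ∈ W1 Q v v' w0 w0') (a : F) : Q (z + a • w0) = Q z := by
  have hzw0 : QuadraticMap.polar (⇑Q) z w0 = 0 := by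
    rw [QuadraticMap.polar_comm]
    exact ((mem_W1 Q v v' w0 w0' z).1 hz).2.1
  have := QuadraticMap.map_add (⇑Q) z (a • w0)
  rw [this, QuadraticMap.map_smul, h.pb.qa, smul_zero, QuadraticMap.polar_smul_right, hzw0,
    smul_zero, add_zero, add_zero]

theorem Asp_eq_bot (Q : QuadraticForm F V) (n : ℕ) (hn : 3 ≤ n) (hq : 4 ≤ Fintype.card F)
    (hP : IsOddT Q n) {v v' w0 w0' : V} (h : HQuad Q v v' w0 w0') [DecidableEq ↥(perp Q v v')]
    (ρ : Representation ℂ ↥(T Q) X) (ψ : AddChar F ℂ) (hψ : ψ ≠ 1)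
    (hint : DirectSum.IsInternal (fun u : ↥(perp Q v v') => wsp Q ρ ψ v v' u))
    (f : ℕ) (hW : WData Q ρ ψ v v' 1 f) (z : V) (hz : z ∈ W1 Q v v' w0 w0') (hQz : Q z ≠ 0) :
    Asp Q ρ ψ v v' w0 w0' z = ⊥ := by
  classical
  have hQ := hP.nondeg
  have hdimV : finrank F V = 2 * n + 1 := hP.dim
  have hdim5 : 5 ≤ finrank F V := by omega
  have : Finite V := Module.finite_of_finite F
  let _ : Fintype ↥(perp Q v v') := Fintype.ofFinite _
  rw [eq_bot_iff]
  intro x hx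
  rw [Submodule.mem_bot, ← sum_comp Q ρ ψ hint x]
  apply Finset.sum_eq_zero
  intro u _
  by_contra hne
  obtain ⟨a, ha⟩ := comp_support Q hQ hdim5 h ρ ψ hψ hint z hz x hx.1 u hne
  have hQu : Qp Q v v' u ≠ 0 := by
    show Q (u : V) ≠ 0
    rw [ha, Q_add_smul_w0 Q h z hz a]
    exact hQz
  have hbot := hW.hns u hQu
  have hmem := comp_mem Q ρ ψ hint x u
  rw [hbot, Submodule.mem_bot] at hmem
  exact hne hmem

/-- `E(w0, y)`, `y ∈ W₁`, fixes the vectors orthogonal to `w0` and `y` -/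
theorem Ew0_fix (Q : QuadraticForm F V) {v v' w0 w0' : V} (h : HQuad Q v v' w0 w0')
    (y : V) (hy : y ∈ W1 Q v v' w0 w0') (x : V) (h1 : QuadraticMap.polar (⇑Q) x w0 = 0)
    (h2 : QuadraticMap.polar (⇑Q) x y = 0) : E Q w0 y x = x := by
  have hw0y : QuadraticMap.polar (⇑Q) w0 y = 0 := ((mem_W1 Q v v' w0 w0' y).1 hy).2.1
  rw [E_apply Q h.pb.qa hw0y, h1, h2]
  simp

/-- `E(w0, y)`, `y ∈ W₁`, on the labels `z + a w0` -/
theorem Ew0_lab (Q : QuadraticForm F V) {v v' w0 w0' : V} (h : HQuad Q v v' w0 w0')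
    (y : V) (hy : y ∈ W1 Q v v' w0 w0') (z : V) (hz : z ∈ W1 Q v v' w0 w0') (a : F) :
    E Q w0 y (z + a • w0) = z + (a - QuadraticMap.polar (⇑Q) z y) • w0 := by
  have hw0y : QuadraticMap.polar (⇑Q) w0 y = 0 := ((mem_W1 Q v v' w0 w0' y).1 hy).2.1
  have hzw0 : QuadraticMap.polar (⇑Q) z w0 = 0 := by
    rw [QuadraticMap.polar_comm]
    exact ((mem_W1 Q v v' w0 w0' z).1 hz).2.1
  have saa : QuadraticMap.polar (⇑Q) w0 w0 = 0 := by
    rw [QuadraticMap.polar_self, h.pb.qa, smul_zero]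
  rw [E_apply Q h.pb.qa hw0y]
  simp only [QuadraticMap.polar_add_left, QuadraticMap.polar_smul_left, smul_eq_mul, hzw0, saa, hw0y,
    mul_zero, add_zero, zero_smul, sub_zero]
  module

theorem Ew0_mem_T (Q : QuadraticForm F V) (hQ : (QuadraticMap.polarBilin Q).Nondegenerate)
    (hdim : 5 ≤ finrank F V) {v v' w0 w0' : V} (h : HQuad Q v v' w0 w0')
    (y : V) (hy : y ∈ W1 Q v v' w0 w0') : E Q w0 y ∈ T Q :=
  E_mem_T Q hQ hdim h.pb.qa ((mem_W1 Q v v' w0 w0' y).1 hy).2.1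

theorem Ew0_v (Q : QuadraticForm F V) {v v' w0 w0' : V} (h : HQuad Q v v' w0 w0')
    (y : V) (hy : y ∈ W1 Q v v' w0 w0') : E Q w0 y v = v :=
  Ew0_fix Q h y hy v h.ab ((mem_W1 Q v v' w0 w0' y).1 hy).1.1

theorem Ew0_v' (Q : QuadraticForm F V) {v v' w0 w0' : V} (h : HQuad Q v v' w0 w0')
    (y : V) (hy : y ∈ W1 Q v v' w0 w0') : E Q w0 y v' = v' :=
  Ew0_fix Q h y hy v' h.a'b ((mem_W1 Q v v' w0 w0' y).1 hy).1.2

/-- the stabiliser of the label `z` in `R₁` acts trivially on the line `X_z` -/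
theorem stab_fix (Q : QuadraticForm F V) (hQ : (QuadraticMap.polarBilin Q).Nondegenerate)
    (hdim : 5 ≤ finrank F V) (hq : 4 ≤ Fintype.card F) {v v' w0 w0' : V}
    (h : HQuad Q v v' w0 w0') (ρ : Representation ℂ ↥(T Q) X) (ψ : AddChar F ℂ)
    (z : ↥(perp Q v v')) (hz : (z : V) ∈ W1 Q v v' w0 w0')
    (h1 : finrank ℂ (wsp Q ρ ψ v v' z) = 1)
    (w : V) (hw : w ∈ W1 Q v v' w0 w0') (hzw : QuadraticMap.polar (⇑Q) (z : V) w = 0)
    (x : X) (hx : x ∈ wsp Q ρ ψ v v' z) : repE Q ρ (E Q w0 w) x = x := by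
  have hcomm := Cfsg.Agent.Lib.Helper63_OP_HCOMM.comm_oG_le_T Q hQ hdim
  -- a scalar `t` with `t ≠ 0`, `t ^ 2 ≠ 1`
  obtain ⟨t, ht0, ht1⟩ : ∃ t : F, t ≠ 0 ∧ t ^ 2 - 1 ≠ 0 := by
    classical
    by_contra hcon
    push Not at hcon
    have hsub : (Finset.univ : Finset F) ⊆ {0, 1, -1} := by
      intro t _
      by_cases h0 : t = 0
      · simp [h0]
      · have h1 := hcon t h0
        have : (t - 1) * (t + 1) = 0 := by linear_combination h1
        rcases mul_eq_zero.mp this with h | h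
        · have : t = 1 := sub_eq_zero.mp h
          simp [this]
        · have : t = -1 := eq_neg_of_add_eq_zero_left h
          simp [this]
    have h1 := Finset.card_le_card hsub
    have h2 : ({0, 1, -1} : Finset F).card ≤ 3 := Finset.card_le_three
    rw [Finset.card_univ] at h1
    omega
  obtain ⟨ζ, hζT, hζb, -, hζW⟩ := Cfsg.Agent.Lib.Helper58_MIO_ZEL.exists_zel Q hQ hdim hcomm
    h.pb.qa h.pb.qa' h.pb.aa' t ht0
  obtain ⟨⟨w1, w2⟩, w3, w4⟩ := (mem_W1 Q v v' w0 w0' w).1 hw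
  obtain ⟨⟨z1, z2⟩, z3, z4⟩ := (mem_W1 Q v v' w0 w0' (z : V)).1 hz
  have hζv : ζ v = v := hζW v ((mem_perp Q w0 w0').mpr
    ⟨by rw [QuadraticMap.polar_comm]; exact h.ab, by rw [QuadraticMap.polar_comm]; exact h.ab'⟩)
  have hζv' : ζ v' = v' := hζW v' ((mem_perp Q w0 w0').mpr
    ⟨by rw [QuadraticMap.polar_comm]; exact h.a'b, by rw [QuadraticMap.polar_comm]; exact h.a'b'⟩)
  have hζz : ζ (z : V) = (z : V) := hζW _ hz.2
  have hζw : ζ w = w := hζW _ hw.2
  obtain ⟨c, hc⟩ : ∃ c : F, c = (t ^ 2 - 1)⁻¹ := ⟨_, rfl⟩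
  have hcw : c • w ∈ W1 Q v v' w0 w0' := Submodule.smul_mem _ c hw
  have hacb : QuadraticMap.polar (⇑Q) w0 (c • w) = 0 := by
    rw [QuadraticMap.polar_smul_right, w3, smul_zero]
  have hzw0 : QuadraticMap.polar (⇑Q) (z : V) w0 = 0 := by
    rw [QuadraticMap.polar_comm]; exact z3
  have hzcw : QuadraticMap.polar (⇑Q) (z : V) (c • w) = 0 := by
    rw [QuadraticMap.polar_smul_right, hzw, smul_zero]
  have hg2T : E Q w0 (c • w) ∈ T Q := Ew0_mem_T Q hQ hdim h (c • w) hcw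
  have hζO : ζ ∈ oG (⇑Q) := T_le_oG Q hζT
  have e1 : ζ * E Q w0 (c • w) * ζ⁻¹ = E Q w0 ((t ^ 2 * c) • w) := by
    rw [conj_E Q hζO h.pb.qa hacb, hζb, map_smul, hζw, E_smul_left Q h.pb.qa hacb, smul_smul]
  have hac2 : QuadraticMap.polar (⇑Q) w0 ((t ^ 2 * c) • w) = 0 := by
    rw [QuadraticMap.polar_smul_right, w3, smul_zero]
  have hac3 : QuadraticMap.polar (⇑Q) w0 (-(c • w)) = 0 := by
    rw [QuadraticMap.polar_neg_right, hacb, neg_zero]
  have hE : E Q w0 w = ζ * E Q w0 (c • w) * ζ⁻¹ * (E Q w0 (c • w))⁻¹ := by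
    rw [e1, E_inv Q h.pb.qa hacb, E_mul Q h.pb.qa hac2 hac3]
    congr 1
    have : t ^ 2 * c - c = 1 := by
      rw [hc]
      field_simp
    rw [← sub_eq_add_neg, ← sub_smul, this, one_smul]
  rw [hE]
  exact Cfsg.Agent.Lib.Helper70_OP_COMMFIX.comm_fix Q hQ hdim h.pa.qa h.pa.qa' h.pa.aa' ρ ψ z h1 ζ
    (E Q w0 (c • w)) hζT hg2T hζv hζv' hζz (Ew0_v Q h _ hcw) (Ew0_v' Q h _ hcw)
    (Ew0_fix Q h _ hcw _ hzw0 hzcw) x hx

/-- `w0` is orthogonal to `W₁ + F w0` -/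
theorem polar_w0_sup (Q : QuadraticForm F V) {v v' w0 w0' : V} (h : HQuad Q v v' w0 w0')
    (w : V) (hw : w ∈ W1 Q v v' w0 w0' ⊔ Submodule.span F {w0}) :
    QuadraticMap.polar (⇑Q) w0 w = 0 := by
  obtain ⟨w1, hw1, w2, hw2, rfl⟩ := Submodule.mem_sup.1 hw
  obtain ⟨c, rfl⟩ := Submodule.mem_span_singleton.1 hw2
  rw [QuadraticMap.polar_add_right, ((mem_W1 Q v v' w0 w0' w1).1 hw1).2.1,
    QuadraticMap.polar_smul_right, QuadraticMap.polar_self, h.pb.qa]
  simp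

theorem finrank_Asp (Q : QuadraticForm F V) (n : ℕ) (hn : 3 ≤ n) (hq : 4 ≤ Fintype.card F)
    (hP : IsOddT Q n) {v v' w0 w0' : V} (h : HQuad Q v v' w0 w0') [DecidableEq ↥(perp Q v v')]
    (ρ : Representation ℂ ↥(T Q) X) (ψ : AddChar F ℂ) (hψ : ψ ≠ 1)
    (hint : DirectSum.IsInternal (fun u : ↥(perp Q v v') => wsp Q ρ ψ v v' u))
    (f : ℕ) (hW : WData Q ρ ψ v v' 1 f) (z : V) (hz : z ∈ W1 Q v v' w0 w0') (hz0 : z ≠ 0)
    (hQz : Q z = 0) : finrank ℂ ↥(Asp Q ρ ψ v v' w0 w0' z) = 1 := by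
  classical
  have hQ := hP.nondeg
  have hdimV : finrank F V = 2 * n + 1 := hP.dim
  have hdim5 : 5 ≤ finrank F V := by omega
  have : Finite V := Module.finite_of_finite F
  let _ : Fintype ↥(perp Q v v') := Fintype.ofFinite _
  obtain ⟨y, hy, hzy⟩ := exists_dual_W1 Q hQ h z hz hz0
  have hw0W : w0 ∈ perp Q v v' := h.mem_perp.1
  have hle := sup_le_perp Q h
  obtain ⟨zW, hzW⟩ : ∃ zW : ↥(perp Q v v'), (zW : V) = z := ⟨⟨z, hz.1⟩, rfl⟩
  obtain ⟨lab, hlab⟩ : ∃ lab : F → ↥(perp Q v v'), ∀ a, ((lab a : ↥(perp Q v v')) : V) = z + a • w0 :=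
    ⟨fun a => ⟨z + a • w0, Submodule.add_mem _ hz.1 (Submodule.smul_mem _ a hw0W)⟩, fun a => rfl⟩
  have hlab0 : lab 0 = zW := Subtype.ext (by rw [hlab, hzW, zero_smul, add_zero])
  have hw0ne : w0 ≠ 0 := by
    intro h0
    have := h.pb.aa'
    rw [h0] at this
    simp [QuadraticMap.polar] at this
  have hlab_inj : Function.Injective lab := by
    intro a b hab
    have h1 : z + a • w0 = z + b • w0 := by rw [← hlab, ← hlab, hab]
    have h2 : (a - b) • w0 = 0 := by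
      rw [sub_smul, sub_eq_zero]
      exact add_left_cancel h1
    rcases smul_eq_zero.1 h2 with h3 | h3
    · exact sub_eq_zero.1 h3
    · exact absurd h3 hw0ne
  have hzW0 : zW ≠ 0 := by
    intro h0
    apply hz0
    rw [← hzW, h0]
    rfl
  have hzWmem : (zW : V) ∈ W1 Q v v' w0 w0' := by rw [hzW]; exact hz
  have h1 : finrank ℂ (wsp Q ρ ψ v v' zW) = 1 := hW.he zW hzW0 (by show Q (zW : V) = 0; rw [hzW]; exact hQz)
  have hsy : ∀ s : F, s • y ∈ W1 Q v v' w0 w0' := fun s => Submodule.smul_mem _ s hy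
  have hgT : ∀ s : F, E Q w0 (s • y) ∈ T Q := fun s => Ew0_mem_T Q hQ hdim5 h _ (hsy s)
  have hgv : ∀ s : F, E Q w0 (s • y) v = (1 : F) • v := fun s => by
    rw [one_smul]; exact Ew0_v Q h _ (hsy s)
  have hglab : ∀ s a : F, E Q w0 (s • y) (z + a • w0) = z + (a - s) • w0 := by
    intro s a
    rw [Ew0_lab Q h _ (hsy s) z hz a, QuadraticMap.polar_smul_right, hzy, smul_eq_mul, mul_one]
  obtain ⟨Φ, hΦ⟩ : ∃ Φ : Module.End ℂ X, ∀ x, Φ x = ∑ s : F, repE Q ρ (E Q w0 (s • y)) x :=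
    ⟨∑ s : F, repE Q ρ (E Q w0 (s • y)), fun x => by rw [LinearMap.sum_apply]⟩
  -- restrictions to `W`
  have hφ : ∀ s : F, ∃ φ : ↥(perp Q v v') ≃ₗ[F] ↥(perp Q v v'),
      (∀ w : ↥(perp Q v v'), ((φ w : ↥(perp Q v v')) : V) = E Q w0 (s • y) (w : V)) ∧
      ∀ a : F, (1 : F)⁻¹ • φ (lab a) = lab (a - s) := by
    intro s
    obtain ⟨φ, hφ⟩ := Cfsg.Agent.Lib.Helper70_OP_COMMFIX.exists_restr Q (T_le_oG Q (hgT s))
      (Ew0_v Q h _ (hsy s)) (Ew0_v' Q h _ (hsy s))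
    refine ⟨φ, hφ, fun a => ?_⟩
    rw [inv_one, one_smul]
    apply Subtype.ext
    rw [hφ, hlab, hlab, hglab]
  -- (a) images of weight vectors
  have hmapw : ∀ (s a : F) (x : X), x ∈ wsp Q ρ ψ v v' (lab a) →
      repE Q ρ (E Q w0 (s • y)) x ∈ wsp Q ρ ψ v v' (lab (a - s)) := by
    intro s a x hx
    obtain ⟨φ, hφ1, hφ2⟩ := hφ s
    have := wsp_map Q hQ hdim5 h.pa.qa ρ ψ _ (hgT s) 1 one_ne_zero (hgv s) φ hφ1 (lab a) x hx
    rwa [hφ2] at this
  -- (b) components of fixed vectors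
  have hcompg : ∀ x : X, (∀ s : F, repE Q ρ (E Q w0 (s • y)) x = x) → ∀ s a : F,
      comp Q ρ ψ hint x (lab (a - s)) = repE Q ρ (E Q w0 (s • y)) (comp Q ρ ψ hint x (lab a)) := by
    intro x hfix s a
    obtain ⟨φ, hφ1, hφ2⟩ := hφ s
    have := comp_map Q hQ hdim5 h.pa.qa ρ ψ hint _ (hgT s) 1 one_ne_zero (hgv s) φ hφ1 x (lab a)
    rwa [hfix s, hφ2] at this
  -- (C1)
  have hC1 : ∀ x ∈ Asp Q ρ ψ v v' w0 w0' z, x = Φ (comp Q ρ ψ hint x zW) := by
    intro x hx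
    have hfix : ∀ s : F, repE Q ρ (E Q w0 (s • y)) x = x := fun s => hx.2 _ (hsy s)
    calc x = ∑ u, comp Q ρ ψ hint x u := (sum_comp Q ρ ψ hint x).symm
      _ = ∑ a : F, comp Q ρ ψ hint x (lab a) := by
          symm
          apply Finset.sum_of_injOn lab (hlab_inj.injOn) (fun _ _ => Finset.mem_coe.2 (Finset.mem_univ _))
          · intro u _ hu
            by_contra hne
            obtain ⟨a, ha⟩ := comp_support Q hQ hdim5 h ρ ψ hψ hint z hz x hx.1 u hne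
            exact hu ⟨a, Finset.mem_coe.2 (Finset.mem_univ _), Subtype.ext (by rw [hlab, ha])⟩
          · intro a _; rfl
      _ = ∑ s : F, comp Q ρ ψ hint x (lab (0 - s)) :=
          (Fintype.sum_equiv (Equiv.subLeft (0 : F)) (fun s => comp Q ρ ψ hint x (lab (0 - s)))
            (fun a => comp Q ρ ψ hint x (lab a)) (fun s => rfl)).symm
      _ = ∑ s : F, repE Q ρ (E Q w0 (s • y)) (comp Q ρ ψ hint x (lab 0)) := by
          apply Finset.sum_congr rfl
          intro s _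
          exact hcompg x hfix s 0
      _ = Φ (comp Q ρ ψ hint x zW) := by rw [hΦ, hlab0]
  -- (C2)
  have hC2 : ∀ x0 ∈ wsp Q ρ ψ v v' zW, Φ x0 ∈ Asp Q ρ ψ v v' w0 w0' z := by
    intro x0 hx0
    have hx0' : x0 ∈ wsp Q ρ ψ v v' (lab 0) := by rw [hlab0]; exact hx0
    refine ⟨?_, ?_⟩
    · intro w hw
      rw [hΦ, map_sum, Finset.smul_sum]
      apply Finset.sum_congr rfl
      intro s _
      have hmem := hmapw s 0 x0 hx0'
      have := (mem_wsp Q ρ ψ v v' _ _).1 hmem ⟨w, hle hw⟩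
      rw [this, hlab]
      congr 2
      rw [QuadraticMap.polar_add_left, QuadraticMap.polar_smul_left, polar_w0_sup Q h w hw,
        smul_zero, add_zero]
    · intro w hw
      rw [hΦ, map_sum]
      obtain ⟨b, hb⟩ : ∃ b : F, b = QuadraticMap.polar (⇑Q) z w := ⟨_, rfl⟩
      have hw'' : w - b • y ∈ W1 Q v v' w0 w0' := Submodule.sub_mem _ hw (hsy b)
      have hzw'' : QuadraticMap.polar (⇑Q) (zW : V) (w - b • y) = 0 := by
        rw [hzW, QuadraticMap.polar_sub_right, QuadraticMap.polar_smul_right, hzy, ← hb]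
        simp
      have hstep : ∀ s : F, repE Q ρ (E Q w0 w) (repE Q ρ (E Q w0 (s • y)) x0) =
          repE Q ρ (E Q w0 ((s + b) • y)) x0 := by
        intro s
        have hp1 : QuadraticMap.polar (⇑Q) w0 w = 0 := ((mem_W1 Q v v' w0 w0' w).1 hw).2.1
        have hp2 : ∀ w' ∈ W1 Q v v' w0 w0', QuadraticMap.polar (⇑Q) w0 w' = 0 :=
          fun w' hw' => ((mem_W1 Q v v' w0 w0' w').1 hw').2.1
        have e1 : E Q w0 w * E Q w0 (s • y) = E Q w0 ((s + b) • y) * E Q w0 (w - b • y) := by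
          rw [E_mul Q h.pb.qa hp1 (hp2 _ (hsy s)), E_mul Q h.pb.qa (hp2 _ (hsy _)) (hp2 _ hw'')]
          congr 1
          module
        rw [← Module.End.mul_apply, ← repE_mul Q ρ (Ew0_mem_T Q hQ hdim5 h w hw) (hgT s), e1,
          repE_mul Q ρ (hgT _) (Ew0_mem_T Q hQ hdim5 h _ hw''), Module.End.mul_apply,
          stab_fix Q hQ hdim5 hq h ρ ψ zW hzWmem h1 _ hw'' hzw'' x0 hx0]
      rw [Finset.sum_congr rfl (fun s _ => hstep s)]
      exact Fintype.sum_equiv (Equiv.addRight b) (fun s => repE Q ρ (E Q w0 ((s + b) • y)) x0)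
        (fun s => repE Q ρ (E Q w0 (s • y)) x0) (fun s => rfl)
  -- (C3)
  have hC3 : ∀ x0 ∈ wsp Q ρ ψ v v' zW, comp Q ρ ψ hint (Φ x0) zW = x0 := by
    intro x0 hx0
    have hx0' : x0 ∈ wsp Q ρ ψ v v' (lab 0) := by rw [hlab0]; exact hx0
    have hc : ∀ u : ↥(perp Q v v'),
        (∑ s : F, if lab (0 - s) = u then repE Q ρ (E Q w0 (s • y)) x0 else 0) ∈
          wsp Q ρ ψ v v' u := by
      intro u
      apply Submodule.sum_mem
      intro s _
      split_ifs with hu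
      · rw [← hu]
        exact hmapw s 0 x0 hx0'
      · exact Submodule.zero_mem _
    have hsum : ∑ u : ↥(perp Q v v'),
        (∑ s : F, if lab (0 - s) = u then repE Q ρ (E Q w0 (s • y)) x0 else 0) = Φ x0 := by
      rw [Finset.sum_comm, hΦ]
      apply Finset.sum_congr rfl
      intro s _
      rw [Finset.sum_ite_eq]
      simp
    rw [comp_unique Q ρ ψ hint (Φ x0) _ hc hsum zW, Finset.sum_eq_single 0]
    · rw [if_pos (by rw [sub_zero, hlab0]), zero_smul, E_zero_right Q h.pb.qa, repE_one]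
      rfl
    · intro s _ hs
      rw [if_neg]
      intro hcon
      rw [← hlab0] at hcon
      have := hlab_inj hcon
      apply hs
      rw [← neg_eq_zero, ← zero_sub]
      exact this
    · intro hcon
      exact absurd (Finset.mem_univ _) hcon
  -- conclusion
  obtain ⟨⟨x0, hx0⟩, hx0ne, hspan⟩ := finrank_eq_one_iff'.1 h1
  rw [finrank_eq_one_iff']
  refine ⟨⟨Φ x0, hC2 x0 hx0⟩, ?_, ?_⟩
  · intro h0
    apply hx0ne
    have h0' : Φ x0 = 0 := congrArg Subtype.val h0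
    have e1 := hC3 x0 hx0
    have e2 := hC3 0 (Submodule.zero_mem _)
    rw [map_zero] at e2
    rw [h0', e2] at e1
    exact Subtype.ext e1.symm
  · rintro ⟨x, hx⟩
    obtain ⟨c, hc⟩ := hspan ⟨comp Q ρ ψ hint x zW, comp_mem Q ρ ψ hint x zW⟩
    have hc' : c • x0 = comp Q ρ ψ hint x zW := congrArg Subtype.val hc
    refine ⟨c, Subtype.ext ?_⟩
    show c • Φ x0 = x
    rw [hC1 x hx, ← hc', map_smul]

end rep

end Cfsg.Agent.Lib.Helper52_OO2_AZ
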