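import Mathlib

set_option autoImplicit false

/-!
S2344, abstract package OO2-INVOL (helper85): two commuting involutions `σ₁, σ₂` of a finite dimensional
complex space `E` and two injective operators `J₁, J₂` twisting the joint eigenspaces
(`J₁ : (e,e') ↦ (e, e e')`, `J₂ : (e,e') ↦ (e e', e')`), as in (B2)/(C3) of `pending/helper87/S2344_proof.md`.
The three joint eigenspaces `(-,+)`, `(-,-)`, `(+,-)` have the same dimension `b`, and
`finrank E = a + 3 b`, `a = finrank (+,+)`.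
-/

namespace Cfsg.Agent.Lib.Helper85_OO2_INVOL

open Module

variable {E : Type*} [AddCommGroup E] [Module ℂ E]

/-- The joint eigenspace `σ₁ = e`, `σ₂ = e'`. -/
def eig (σ₁ σ₂ : Module.End ℂ E) (e e' : ℂ) : Submodule ℂ E where
  carrier := {y | σ₁ y = e • y ∧ σ₂ y = e' • y}
  add_mem' := by
    rintro a b ⟨ha1, ha2⟩ ⟨hb1, hb2⟩
    exact ⟨by rw [map_add, ha1, hb1, smul_add], by rw [map_add, ha2, hb2, smul_add]⟩
  zero_mem' := ⟨by simp, by simp⟩
  smul_mem' := by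
    rintro c a ⟨ha1, ha2⟩
    exact ⟨by rw [map_smul, ha1, smul_comm], by rw [map_smul, ha2, smul_comm]⟩

theorem mem_eig {σ₁ σ₂ : Module.End ℂ E} {e e' : ℂ} {y : E} :
    y ∈ eig σ₁ σ₂ e e' ↔ σ₁ y = e • y ∧ σ₂ y = e' • y := Iff.rfl

/-- Hypotheses of the package. -/
structure InvData (σ₁ σ₂ J₁ J₂ : Module.End ℂ E) : Prop where
  s11 : σ₁ * σ₁ = 1
  s22 : σ₂ * σ₂ = 1
  comm : σ₁ * σ₂ = σ₂ * σ₁
  inj1 : ∀ y, J₁ y = 0 → y = 0
  inj2 : ∀ y, J₂ y = 0 → y = 0
  a1 : σ₁ * J₁ = J₁ * σ₁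
  a2 : σ₂ * J₁ = J₁ * (σ₁ * σ₂)
  b1 : σ₂ * J₂ = J₂ * σ₂
  b2 : σ₁ * J₂ = J₂ * (σ₁ * σ₂)

section

variable {σ₁ σ₂ J₁ J₂ : Module.End ℂ E}

theorem InvData.J1_map (D : InvData σ₁ σ₂ J₁ J₂) {e e' : ℂ} {y : E} (hy : y ∈ eig σ₁ σ₂ e e') :
    J₁ y ∈ eig σ₁ σ₂ e (e * e') := by
  obtain ⟨h1, h2⟩ := hy
  constructor
  · have := congrArg (fun f => f y) D.a1
    simp only [Module.End.mul_apply] at this
    rw [this, h1, map_smul]
  · have := congrArg (fun f => f y) D.a2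
    simp only [Module.End.mul_apply] at this
    rw [this, h2, map_smul, h1, map_smul, map_smul, smul_smul, mul_comm]

theorem InvData.J2_map (D : InvData σ₁ σ₂ J₁ J₂) {e e' : ℂ} {y : E} (hy : y ∈ eig σ₁ σ₂ e e') :
    J₂ y ∈ eig σ₁ σ₂ (e * e') e' := by
  obtain ⟨h1, h2⟩ := hy
  constructor
  · have := congrArg (fun f => f y) D.b2
    simp only [Module.End.mul_apply] at this
    rw [this, h2, map_smul, h1, map_smul, map_smul, smul_smul, mul_comm]
  · have := congrArg (fun f => f y) D.b1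
    simp only [Module.End.mul_apply] at this
    rw [this, h2, map_smul]

variable [FiniteDimensional ℂ E]

theorem finrank_le_of_inj {S T : Submodule ℂ E} (J : Module.End ℂ E) (hinj : ∀ y, J y = 0 → y = 0)
    (hmap : ∀ y ∈ S, J y ∈ T) : finrank ℂ S ≤ finrank ℂ T := by
  let f : S →ₗ[ℂ] T := (J.comp S.subtype).codRestrict T (fun y => hmap y y.2)
  apply LinearMap.finrank_le_finrank_of_injective (f := f)
  intro y z hyz
  have h1 : J (y : E) = J (z : E) := congrArg Subtype.val hyz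
  have h2 : J ((y : E) - z) = 0 := by rw [map_sub, h1, sub_self]
  exact Subtype.ext (sub_eq_zero.mp (hinj _ h2))

/-- The three non-trivial joint eigenspaces have the same dimension. -/
theorem InvData.finrank_eq (D : InvData σ₁ σ₂ J₁ J₂) :
    finrank ℂ (eig σ₁ σ₂ (-1) 1) = finrank ℂ (eig σ₁ σ₂ (-1) (-1)) ∧
      finrank ℂ (eig σ₁ σ₂ (-1) (-1)) = finrank ℂ (eig σ₁ σ₂ 1 (-1)) := by
  constructor
  · apply le_antisymm
    · refine finrank_le_of_inj J₁ D.inj1 fun y hy => ?_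
      have := D.J1_map hy
      simpa using this
    · refine finrank_le_of_inj J₁ D.inj1 fun y hy => ?_
      have := D.J1_map hy
      simpa using this
  · apply le_antisymm
    · refine finrank_le_of_inj J₂ D.inj2 fun y hy => ?_
      have := D.J2_map hy
      simpa using this
    · refine finrank_le_of_inj J₂ D.inj2 fun y hy => ?_
      have := D.J2_map hy
      simpa using this

end

section decomp

variable [FiniteDimensional ℂ E]

/-- The eigenspace `σ = e`. -/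
def eig1 (σ : Module.End ℂ E) (e : ℂ) : Submodule ℂ E where
  carrier := {y | σ y = e • y}
  add_mem' := by
    intro a b ha hb
    show σ (a + b) = e • (a + b)
    rw [map_add, ha, hb, smul_add]
  zero_mem' := by
    show σ 0 = e • (0 : E)
    simp
  smul_mem' := by
    intro c a ha
    show σ (c • a) = e • c • a
    rw [map_smul, ha, smul_comm]

omit [FiniteDimensional ℂ E] in
theorem mem_eig1 {σ : Module.End ℂ E} {e : ℂ} {y : E} : y ∈ eig1 σ e ↔ σ y = e • y := Iff.rfl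

omit [FiniteDimensional ℂ E] in
theorem eig_eq_inf (σ₁ σ₂ : Module.End ℂ E) (e e' : ℂ) :
    eig σ₁ σ₂ e e' = eig1 σ₁ e ⊓ eig1 σ₂ e' := by
  ext y
  simp [mem_eig, mem_eig1]

/-- An involution splits every stable subspace into its `±1`-eigenspaces. -/
theorem finrank_split {σ : Module.End ℂ E} (hσ : σ * σ = 1) (S : Submodule ℂ E)
    (hS : ∀ y ∈ S, σ y ∈ S) :
    finrank ℂ S = finrank ℂ ↥(S ⊓ eig1 σ 1) + finrank ℂ ↥(S ⊓ eig1 σ (-1)) := by
  have hσσ : ∀ y, σ (σ y) = y := fun y => by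
    have := congrArg (fun f => f y) hσ
    simpa using this
  have hsup : (S ⊓ eig1 σ 1) ⊔ (S ⊓ eig1 σ (-1)) = S := by
    apply le_antisymm
    · exact sup_le inf_le_left inf_le_left
    · intro y hy
      have h1 : (1 / 2 : ℂ) • (y + σ y) ∈ S ⊓ eig1 σ 1 := by
        refine ⟨S.smul_mem _ (S.add_mem hy (hS y hy)), ?_⟩
        show σ ((1 / 2 : ℂ) • (y + σ y)) = (1 : ℂ) • ((1 / 2 : ℂ) • (y + σ y))
        rw [map_smul, map_add, hσσ, one_smul, add_comm]
      have h2 : (1 / 2 : ℂ) • (y - σ y) ∈ S ⊓ eig1 σ (-1) := by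
        refine ⟨S.smul_mem _ (S.sub_mem hy (hS y hy)), ?_⟩
        show σ ((1 / 2 : ℂ) • (y - σ y)) = (-1 : ℂ) • ((1 / 2 : ℂ) • (y - σ y))
        rw [map_smul, map_sub, hσσ, smul_comm, neg_one_smul, neg_sub]
      have h3 : y = (1 / 2 : ℂ) • (y + σ y) + (1 / 2 : ℂ) • (y - σ y) := by
        rw [← smul_add, add_add_sub_cancel, ← two_smul ℂ y, smul_smul]
        norm_num
      rw [h3]
      exact Submodule.add_mem_sup h1 h2
  have hinf : (S ⊓ eig1 σ 1) ⊓ (S ⊓ eig1 σ (-1)) = ⊥ := by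
    rw [eq_bot_iff]
    rintro y ⟨⟨_, h1⟩, ⟨_, h2⟩⟩
    have h1' : σ y = (1 : ℂ) • y := h1
    have h2' : σ y = (-1 : ℂ) • y := h2
    rw [h1', one_smul, neg_one_smul] at h2'
    have h3 : (2 : ℂ) • y = 0 := by
      rw [two_smul]
      nth_rewrite 1 [h2']
      exact neg_add_cancel y
    rcases smul_eq_zero.mp h3 with h | h
    · norm_num at h
    · exact h
  have := Submodule.finrank_sup_add_finrank_inf_eq (S ⊓ eig1 σ 1) (S ⊓ eig1 σ (-1))
  rw [hsup, hinf, finrank_bot, add_zero] at this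
  exact this

variable {σ₁ σ₂ J₁ J₂ : Module.End ℂ E}

/-- `finrank E` is the sum of the dimensions of the four joint eigenspaces. -/
theorem InvData.finrank_sum (D : InvData σ₁ σ₂ J₁ J₂) :
    finrank ℂ E = finrank ℂ (eig σ₁ σ₂ 1 1) + finrank ℂ (eig σ₁ σ₂ 1 (-1)) +
      (finrank ℂ (eig σ₁ σ₂ (-1) 1) + finrank ℂ (eig σ₁ σ₂ (-1) (-1))) := by
  have hcomm : ∀ y, σ₂ (σ₁ y) = σ₁ (σ₂ y) := fun y => by
    have := congrArg (fun f => f y) D.comm
    simpa using this.symm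
  have hstab : ∀ e : ℂ, ∀ y ∈ eig1 σ₁ e, σ₂ y ∈ eig1 σ₁ e := by
    intro e y hy
    show σ₁ (σ₂ y) = e • σ₂ y
    rw [← hcomm, mem_eig1.mp hy, map_smul]
  have h0 := finrank_split D.s11 (⊤ : Submodule ℂ E) (fun _ _ => Submodule.mem_top)
  rw [finrank_top, top_inf_eq, top_inf_eq] at h0
  have h1 := finrank_split D.s22 (eig1 σ₁ 1) (hstab 1)
  have h2 := finrank_split D.s22 (eig1 σ₁ (-1)) (hstab (-1))
  rw [h0, h1, h2, eig_eq_inf, eig_eq_inf, eig_eq_inf, eig_eq_inf]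

/-- `finrank E = a + 3 b`. -/
theorem InvData.finrank_eq_add (D : InvData σ₁ σ₂ J₁ J₂) :
    finrank ℂ E = finrank ℂ (eig σ₁ σ₂ 1 1) + 3 * finrank ℂ (eig σ₁ σ₂ (-1) 1) := by
  have h := D.finrank_sum
  obtain ⟨h1, h2⟩ := D.finrank_eq
  omega

/-- If `finrank E ≤ 2` the two involutions are trivial. -/
theorem InvData.trivial_of_finrank_le_two (D : InvData σ₁ σ₂ J₁ J₂) (hE : finrank ℂ E ≤ 2) :
    σ₁ = 1 ∧ σ₂ = 1 := by
  have h := D.finrank_eq_add
  have hb : finrank ℂ (eig σ₁ σ₂ (-1) 1) = 0 := by omega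
  have ha : finrank ℂ (eig σ₁ σ₂ 1 1) = finrank ℂ E := by omega
  have htop : eig σ₁ σ₂ 1 1 = ⊤ := Submodule.eq_top_of_finrank_eq ha
  constructor
  · ext y
    have hy : y ∈ eig σ₁ σ₂ 1 1 := by rw [htop]; exact Submodule.mem_top
    rw [hy.1, one_smul]; rfl
  · ext y
    have hy : y ∈ eig σ₁ σ₂ 1 1 := by rw [htop]; exact Submodule.mem_top
    rw [hy.2, one_smul]; rfl

end decomp

end Cfsg.Agent.Lib.Helper85_OO2_INVOL
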