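import Mathlib
import Cfsg.Agent.Lib.Helper95_OPDefs
import Cfsg.Agent.Lib.Helper95_OPBasic
import Cfsg.Agent.Lib.Helper48_OODefs
import Cfsg.Agent.Lib.Helper87_OO2Defs
import Cfsg.Agent.Lib.Helper87_OO2Defs2

set_option autoImplicit false

/-!
Third layer of definitions for S2344 (helper87, cutter): the base `n = 3` (`G = Ω_7(q)`, `W_1 = ⟨w1, w1', x⟩`).
-/

namespace Cfsg.Agent.Lib.Helper87_OO2Defs

open Module Cfsg.Agent.Lib.Helper94_OrthSmall Cfsg.Agent.Lib.Helper44_QuadClass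
  Cfsg.Agent.Lib.Helper14_OmegaSimple Cfsg.Agent.Lib.Helper38_MIODefs
  Cfsg.Agent.Lib.Helper95_OPDefs Cfsg.Agent.Lib.Helper95_OPBasic Cfsg.Agent.Lib.Helper48_OODefs

variable {F V : Type*} [Field F] [AddCommGroup V] [Module F V] (Q : QuadraticForm F V)

/-- Three mutually orthogonal hyperbolic pairs `(v,v')`, `(w0,w0')`, `(w1,w1')` and a non-singular vector `x`
orthogonal to all of them. -/
structure Frame3 (v v' w0 w0' w1 w1' x : V) : Prop where
  h01 : HQuad Q v v' w0 w0'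
  h02 : HQuad Q v v' w1 w1'
  h12 : HQuad Q w0 w0' w1 w1'
  xW1 : x ∈ W1 Q v v' w0 w0'
  xw1 : QuadraticMap.polar (⇑Q) x w1 = 0
  xw1' : QuadraticMap.polar (⇑Q) x w1' = 0
  qx : Q x ≠ 0

variable {X : Type*} [AddCommGroup X] [Module ℂ X] (ρ : Representation ℂ ↥(T Q) X)

/-- `M_2 = (X^R)^{Z'}`, `Z' = {E(w0, s w1)}`: the `K_2'`-module of the base. -/
def M2sp (v v' w0 w1 : V) : Submodule ℂ X :=
  X0sp Q ρ v v' ⊓ fixE Q ρ w0 (Submodule.span F {w1})

end Cfsg.Agent.Lib.Helper87_OO2Defs
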