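import Mathlib
import Cfsg.Agent.Lib.Helper95_OPDefs
import Cfsg.Agent.Lib.Helper95_OPBasic
import Cfsg.Agent.Lib.Helper48_OODefs
import Cfsg.Agent.Lib.Helper87_OO2Defs
import Cfsg.Agent.Lib.Helper87_OO2Defs2
import Cfsg.Agent.Lib.Helper87_OO2Defs3
import Cfsg.Agent.Lib.Helper85_OO2_RankOne
import Cfsg.Agent.Lib.Helper85_OO2_LemK
import Cfsg.Agent.Lib.Helper85_OO2_INVOL
import Cfsg.Agent.Lib.Helper41_OO2_N1MAP
import Cfsg.Agent.Lib.Helper43_OO2_XTRIV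
import Cfsg.Agent.Lib.Helper52_OO2_AZ

/-!
# S2344 wave 3, package OO2-WSP2 (cutter helper87; formalised by helper43)

Level-2 weight spaces at the `ρ`-level: `wsp2 z = Bsp z` as soon as `Bsp z` has dimension at most one
(OO2-XTRIV), and `finrank (Bsp z) = finrank (Asp z)` (OO2-N1MAP).  The `_of` forms take the OO2-AZ
statements about `Asp z` as hypotheses; the final statements plug in `Helper52_OO2_AZ`.
-/

set_option autoImplicit false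
set_option linter.unusedVariables false
set_option linter.unusedSectionVars false

namespace Cfsg.Agent.Lib.Helper43_OO2_WSP2

open Module Cfsg.Agent.Lib.Helper94_OrthSmall Cfsg.Agent.Lib.Helper44_QuadClass
  Cfsg.Agent.Lib.Helper14_OmegaSimple Cfsg.Agent.Lib.Helper38_MIODefs
  Cfsg.Agent.Lib.Helper95_OPDefs Cfsg.Agent.Lib.Helper95_OPBasic Cfsg.Agent.Lib.Helper48_OODefs
  Cfsg.Agent.Lib.Helper87_OO2Defs Cfsg.Agent.Lib.Helper85_OO2_RankOne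

variable {F V : Type*} [Field F] [Fintype F] [AddCommGroup V] [Module F V] [FiniteDimensional F V]
  {X : Type*} [AddCommGroup X] [Module ℂ X] [FiniteDimensional ℂ X]

local notation "P" => QuadraticMap.polar

/-- `W_1 + F w0 ≤ W = perp Q v v'` -/
theorem sup_le_perp (Q : QuadraticForm F V) {v v' w0 w0' : V} (h : HQuad Q v v' w0 w0') :
    W1 Q v v' w0 w0' ⊔ Submodule.span F {w0} ≤ perp Q v v' := by
  apply sup_le
  · unfold W1
    exact inf_le_left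
  · rw [Submodule.span_singleton_le_iff_mem]
    exact h.mem_perp.1

/-- `wsp2 z ≤ Bsp z` -/
theorem wsp2_le_Bsp (Q : QuadraticForm F V) {v v' w0 w0' : V} (h : HQuad Q v v' w0 w0')
    (ρ : Representation ℂ ↥(T Q) X) (ψ : AddChar F ℂ) (z : V) :
    wsp2 Q ρ ψ v v' w0 w0' z ≤ Bsp Q ρ ψ v v' w0 w0' z := by
  unfold wsp2 Bsp X0sp
  apply inf_le_inf_right
  intro x hx
  rw [mem_fixE] at hx ⊢
  intro w hw
  exact hx w (sup_le_perp Q h hw)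

/-- `wsp2 z = Bsp z` when `Bsp z` has dimension at most one -/
theorem wsp2_eq_Bsp_of (Q : QuadraticForm F V) (hQ : (QuadraticMap.polarBilin Q).Nondegenerate)
    (hdim : 5 ≤ finrank F V) (hq : 4 ≤ Fintype.card F) {v v' w0 w0' : V}
    (h : HQuad Q v v' w0 w0') (ρ : Representation ℂ ↥(T Q) X) (ψ : AddChar F ℂ) (z : V)
    (hz : z ∈ W1 Q v v' w0 w0') (hfr : finrank ℂ ↥(Bsp Q ρ ψ v v' w0 w0' z) ≤ 1) :
    wsp2 Q ρ ψ v v' w0 w0' z = Bsp Q ρ ψ v v' w0 w0' z := by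
  apply le_antisymm (wsp2_le_Bsp Q h ρ ψ z)
  have hX := Cfsg.Agent.Lib.Helper43_OO2_XTRIV.Bsp_le_X0 Q hQ hdim hq h ρ ψ z hz hfr
  unfold wsp2
  apply le_inf hX
  unfold Bsp
  exact inf_le_right

/-- `wsp2 z = ⊥` when `Asp z = ⊥` -/
theorem wsp2_eq_bot_of (Q : QuadraticForm F V) (hQ : (QuadraticMap.polarBilin Q).Nondegenerate)
    (hdim : 5 ≤ finrank F V) {v v' w0 w0' : V}
    (h : HQuad Q v v' w0 w0') (ρ : Representation ℂ ↥(T Q) X) (ψ : AddChar F ℂ) (z : V)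
    (hz : z ∈ W1 Q v v' w0 w0') (hA : Asp Q ρ ψ v v' w0 w0' z = ⊥) :
    wsp2 Q ρ ψ v v' w0 w0' z = ⊥ := by
  have h1 := Cfsg.Agent.Lib.Helper41_OO2_N1MAP.finrank_Bsp_eq Q hQ hdim h ρ ψ z hz
  rw [hA, finrank_bot] at h1
  have h2 : Bsp Q ρ ψ v v' w0 w0' z = ⊥ := Submodule.finrank_eq_zero.1 h1
  rw [eq_bot_iff, ← h2]
  exact wsp2_le_Bsp Q h ρ ψ z

/-- `wsp2 z` is a line when `Asp z` is -/
theorem finrank_wsp2_of (Q : QuadraticForm F V) (hQ : (QuadraticMap.polarBilin Q).Nondegenerate)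
    (hdim : 5 ≤ finrank F V) (hq : 4 ≤ Fintype.card F) {v v' w0 w0' : V}
    (h : HQuad Q v v' w0 w0') (ρ : Representation ℂ ↥(T Q) X) (ψ : AddChar F ℂ) (z : V)
    (hz : z ∈ W1 Q v v' w0 w0') (hA : finrank ℂ ↥(Asp Q ρ ψ v v' w0 w0' z) = 1) :
    finrank ℂ ↥(wsp2 Q ρ ψ v v' w0 w0' z) = 1 := by
  have h1 := Cfsg.Agent.Lib.Helper41_OO2_N1MAP.finrank_Bsp_eq Q hQ hdim h ρ ψ z hz
  rw [hA] at h1
  rw [wsp2_eq_Bsp_of Q hQ hdim hq h ρ ψ z hz (le_of_eq h1), h1]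

theorem wsp2_zero (Q : QuadraticForm F V) {v v' w0 w0' : V} (ρ : Representation ℂ ↥(T Q) X)
    (ψ : AddChar F ℂ) : wsp2 Q ρ ψ v v' w0 w0' 0 = F2sp Q ρ v v' w0 w0' := by
  unfold wsp2 F2sp X0sp
  congr 1
  ext x
  rw [mem_eigE, mem_fixE]
  constructor
  · intro hx w hw
    have := hx w hw
    rw [QuadraticMap.polar_zero_left, AddChar.map_zero_eq_one, one_smul] at this
    exact this
  · intro hx w hw
    rw [QuadraticMap.polar_zero_left, AddChar.map_zero_eq_one, one_smul]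
    exact hx w hw

/-- the hypotheses `hQ`, `hdim` from the odd type -/
theorem dim_of_isOddT (Q : QuadraticForm F V) (n : ℕ) (hn : 3 ≤ n) (hP : IsOddT Q n) :
    5 ≤ finrank F V := by
  rw [hP.dim]
  omega

/-! ## OO2-WSP2 (M): `wsp2 z = Bsp z` from OO2-AZ / N1MAP / XTRIV -/
theorem wsp2_eq_bot (Q : QuadraticForm F V) (n : ℕ) (hn : 3 ≤ n) (hq : 4 ≤ Fintype.card F)
    (hP : IsOddT Q n) {v v' w0 w0' : V} (h : HQuad Q v v' w0 w0') [DecidableEq ↥(perp Q v v')]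
    (ρ : Representation ℂ ↥(T Q) X) (ψ : AddChar F ℂ) (hψ : ψ ≠ 1)
    (hint : DirectSum.IsInternal (fun u : ↥(perp Q v v') => wsp Q ρ ψ v v' u))
    (f : ℕ) (hW : WData Q ρ ψ v v' 1 f) (z : V) (hz : z ∈ W1 Q v v' w0 w0') (hQz : Q z ≠ 0) :
    wsp2 Q ρ ψ v v' w0 w0' z = ⊥ :=
  wsp2_eq_bot_of Q hP.nondeg (dim_of_isOddT Q n hn hP) h ρ ψ z hz
    (Cfsg.Agent.Lib.Helper52_OO2_AZ.Asp_eq_bot Q n hn hq hP h ρ ψ hψ hint f hW z hz hQz)

theorem finrank_wsp2 (Q : QuadraticForm F V) (n : ℕ) (hn : 3 ≤ n) (hq : 4 ≤ Fintype.card F)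
    (hP : IsOddT Q n) {v v' w0 w0' : V} (h : HQuad Q v v' w0 w0') [DecidableEq ↥(perp Q v v')]
    (ρ : Representation ℂ ↥(T Q) X) (ψ : AddChar F ℂ) (hψ : ψ ≠ 1)
    (hint : DirectSum.IsInternal (fun u : ↥(perp Q v v') => wsp Q ρ ψ v v' u))
    (f : ℕ) (hW : WData Q ρ ψ v v' 1 f) (z : V) (hz : z ∈ W1 Q v v' w0 w0') (hz0 : z ≠ 0)
    (hQz : Q z = 0) : finrank ℂ ↥(wsp2 Q ρ ψ v v' w0 w0' z) = 1 :=
  finrank_wsp2_of Q hP.nondeg (dim_of_isOddT Q n hn hP) hq h ρ ψ z hz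
    (Cfsg.Agent.Lib.Helper52_OO2_AZ.finrank_Asp Q n hn hq hP h ρ ψ hψ hint f hW z hz hz0 hQz)

end Cfsg.Agent.Lib.Helper43_OO2_WSP2
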