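import Mathlib
import Cfsg.Agent.Lib.Helper95_OPDefs
import Cfsg.Agent.Lib.Helper95_OPBasic

/-!
# S2345 package OP-EXT (architect helper95): the Levi embedding `T (Q|W) →* T Q`  (helper73)

`extLE` extends a linear equivalence of `W = perp Q v v'` by the identity on `⟨v, v'⟩`:
`ext g x = x - π x + g (π x)`, `π x = x - B(v',x) v - B(v,x) v'`.
-/

set_option autoImplicit false

namespace Cfsg.Agent.Lib.Helper73_OP_EXT

open Module Cfsg.Agent.Lib.Helper94_OrthSmall Cfsg.Agent.Lib.Helper44_QuadClass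
  Cfsg.Agent.Lib.Helper14_OmegaSimple Cfsg.Agent.Lib.Helper38_MIODefs
  Cfsg.Agent.Lib.Helper95_OPDefs Cfsg.Agent.Lib.Helper95_OPBasic

variable {F V : Type*} [Field F] [AddCommGroup V] [Module F V]

section proj

variable (Q : QuadraticForm F V) (v v' : V)

/-- the projection onto `perp Q v v'` along `⟨v, v'⟩`, as an endomorphism of `V` -/
noncomputable def pr0 : V →ₗ[F] V :=
  LinearMap.id - (QuadraticMap.polarBilin Q v').smulRight v -
    (QuadraticMap.polarBilin Q v).smulRight v'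

theorem pr0_apply (x : V) :
    pr0 Q v v' x = x - QuadraticMap.polar (⇑Q) v' x • v - QuadraticMap.polar (⇑Q) v x • v' := by
  simp [pr0]

variable {Q v v'}

theorem pr0_mem (hv : Q v = 0) (hv' : Q v' = 0) (hvv' : QuadraticMap.polar (⇑Q) v v' = 1) (x : V) :
    pr0 Q v v' x ∈ perp Q v v' := by
  have hv'v : QuadraticMap.polar (⇑Q) v' v = 1 := by rw [QuadraticMap.polar_comm, hvv']
  rw [mem_perp, pr0_apply]
  constructor
  · rw [QuadraticMap.polar_sub_right, QuadraticMap.polar_sub_right, QuadraticMap.polar_smul_right,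
      QuadraticMap.polar_smul_right, polar_self', hv, hvv']
    simp
  · rw [QuadraticMap.polar_sub_right, QuadraticMap.polar_sub_right, QuadraticMap.polar_smul_right,
      QuadraticMap.polar_smul_right, polar_self', hv', hv'v]
    simp

theorem pr0_of_mem {w : V} (hw : w ∈ perp Q v v') : pr0 Q v v' w = w := by
  rw [pr0_apply, ((mem_perp Q v v').1 hw).1, ((mem_perp Q v v').1 hw).2]
  simp

theorem pr0_v (hv : Q v = 0) (hvv' : QuadraticMap.polar (⇑Q) v v' = 1) : pr0 Q v v' v = 0 := by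
  have hv'v : QuadraticMap.polar (⇑Q) v' v = 1 := by rw [QuadraticMap.polar_comm, hvv']
  rw [pr0_apply, polar_self', hv, hv'v]
  simp

theorem pr0_v' (hv' : Q v' = 0) (hvv' : QuadraticMap.polar (⇑Q) v v' = 1) : pr0 Q v v' v' = 0 := by
  rw [pr0_apply, polar_self', hv', hvv']
  simp

/-- every vector is its projection plus its `⟨v, v'⟩`-part -/
theorem decomp (x : V) :
    x = pr0 Q v v' x + QuadraticMap.polar (⇑Q) v' x • v + QuadraticMap.polar (⇑Q) v x • v' := by
  rw [pr0_apply]; abel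

/-- the projection onto `W = perp Q v v'` -/
noncomputable def pr (hv : Q v = 0) (hv' : Q v' = 0) (hvv' : QuadraticMap.polar (⇑Q) v v' = 1) :
    V →ₗ[F] ↥(perp Q v v') :=
  (pr0 Q v v').codRestrict (perp Q v v') (pr0_mem hv hv' hvv')

theorem pr_coe (hv : Q v = 0) (hv' : Q v' = 0) (hvv' : QuadraticMap.polar (⇑Q) v v' = 1) (x : V) :
    ((pr hv hv' hvv' x : ↥(perp Q v v')) : V) = pr0 Q v v' x := rfl

theorem pr_of_mem (hv : Q v = 0) (hv' : Q v' = 0) (hvv' : QuadraticMap.polar (⇑Q) v v' = 1)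
    (w : ↥(perp Q v v')) : pr hv hv' hvv' (w : V) = w :=
  Subtype.ext (pr0_of_mem w.2)

/-- extension of an endomorphism of `W` by the identity on `⟨v, v'⟩` -/
noncomputable def extEnd (hv : Q v = 0) (hv' : Q v' = 0)
    (hvv' : QuadraticMap.polar (⇑Q) v v' = 1) :
    Module.End F ↥(perp Q v v') →* Module.End F V where
  toFun f := LinearMap.id - (perp Q v v').subtype ∘ₗ pr hv hv' hvv' +
    (perp Q v v').subtype ∘ₗ f ∘ₗ pr hv hv' hvv'
  map_one' := by
    ext x
    simp
  map_mul' f g := by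
    ext x
    have h1 : pr hv hv' hvv' (x - ((pr hv hv' hvv' x : ↥(perp Q v v')) : V) +
        ((g (pr hv hv' hvv' x) : ↥(perp Q v v')) : V)) = g (pr hv hv' hvv' x) := by
      rw [map_add, map_sub, pr_of_mem, pr_of_mem, sub_self, zero_add]
    simp only [LinearMap.add_apply, LinearMap.sub_apply, LinearMap.id_apply, LinearMap.comp_apply,
      Submodule.subtype_apply, Module.End.mul_apply, h1]
    abel

theorem extEnd_apply (hv : Q v = 0) (hv' : Q v' = 0) (hvv' : QuadraticMap.polar (⇑Q) v v' = 1)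
    (f : Module.End F ↥(perp Q v v')) (x : V) :
    extEnd hv hv' hvv' f x = x - ((pr hv hv' hvv' x : ↥(perp Q v v')) : V) +
      ((f (pr hv hv' hvv' x) : ↥(perp Q v v')) : V) := rfl

/-- extension of a linear equivalence of `W` by the identity on `⟨v, v'⟩` -/
noncomputable def extLE (hv : Q v = 0) (hv' : Q v' = 0)
    (hvv' : QuadraticMap.polar (⇑Q) v v' = 1) :
    (↥(perp Q v v') ≃ₗ[F] ↥(perp Q v v')) →* (V ≃ₗ[F] V) :=
  (LinearMap.GeneralLinearGroup.generalLinearEquiv F V).toMonoidHom.comp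
    ((Units.map (extEnd hv hv' hvv')).comp
      (LinearMap.GeneralLinearGroup.generalLinearEquiv F ↥(perp Q v v')).symm.toMonoidHom)

theorem extLE_apply (hv : Q v = 0) (hv' : Q v' = 0) (hvv' : QuadraticMap.polar (⇑Q) v v' = 1)
    (g : ↥(perp Q v v') ≃ₗ[F] ↥(perp Q v v')) (x : V) :
    extLE hv hv' hvv' g x = x - ((pr hv hv' hvv' x : ↥(perp Q v v')) : V) +
      ((g (pr hv hv' hvv' x) : ↥(perp Q v v')) : V) := rfl

theorem extLE_mem (hv : Q v = 0) (hv' : Q v' = 0) (hvv' : QuadraticMap.polar (⇑Q) v v' = 1)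
    (g : ↥(perp Q v v') ≃ₗ[F] ↥(perp Q v v')) (w : ↥(perp Q v v')) :
    extLE hv hv' hvv' g (w : V) = ((g w : ↥(perp Q v v')) : V) := by
  rw [extLE_apply, pr_of_mem]
  abel

theorem extLE_v (hv : Q v = 0) (hv' : Q v' = 0) (hvv' : QuadraticMap.polar (⇑Q) v v' = 1)
    (g : ↥(perp Q v v') ≃ₗ[F] ↥(perp Q v v')) : extLE hv hv' hvv' g v = v := by
  have h0 : pr hv hv' hvv' v = 0 := Subtype.ext (pr0_v hv hvv')
  rw [extLE_apply, h0, map_zero]
  simp

theorem extLE_v' (hv : Q v = 0) (hv' : Q v' = 0) (hvv' : QuadraticMap.polar (⇑Q) v v' = 1)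
    (g : ↥(perp Q v v') ≃ₗ[F] ↥(perp Q v v')) : extLE hv hv' hvv' g v' = v' := by
  have h0 : pr hv hv' hvv' v' = 0 := Subtype.ext (pr0_v' hv' hvv')
  rw [extLE_apply, h0, map_zero]
  simp

/-- a linear equivalence of `V` is determined by its values on `W`, `v`, `v'` -/
theorem ext_of_agree {g h : V ≃ₗ[F] V} (hv : Q v = 0) (hv' : Q v' = 0)
    (hvv' : QuadraticMap.polar (⇑Q) v v' = 1)
    (hW : ∀ w : ↥(perp Q v v'), g (w : V) = h (w : V)) (h1 : g v = h v) (h2 : g v' = h v') :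
    g = h := by
  apply LinearEquiv.ext
  intro x
  rw [decomp (Q := Q) (v := v) (v' := v') x, map_add, map_add, map_add, map_add, map_smul,
    map_smul, map_smul, map_smul, h1, h2]
  congr 2
  exact hW ⟨pr0 Q v v' x, pr0_mem hv hv' hvv' x⟩

/-- a Siegel element with both parameters in `W` fixes `v` and `v'` -/
theorem E_fix (a z : ↥(perp Q v v')) (ha : Q (a : V) = 0)
    (haz : QuadraticMap.polar (⇑Q) (a : V) (z : V) = 0) :
    E Q (a : V) (z : V) v = v ∧ E Q (a : V) (z : V) v' = v' := by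
  have ha1 := ((mem_perp Q v v').1 a.2).1
  have ha2 := ((mem_perp Q v v').1 a.2).2
  have hz1 := ((mem_perp Q v v').1 z.2).1
  have hz2 := ((mem_perp Q v v').1 z.2).2
  constructor
  · rw [E_apply Q ha haz, ha1, hz1]
    simp
  · rw [E_apply Q ha haz, ha2, hz2]
    simp

/-- the Siegel element of `W` is the restriction of the Siegel element of `V`
(as `Helper52_MIO_RESTR.restr`, without finiteness assumptions) -/
theorem restr' (u z x : ↥(perp Q v v')) (hu : Q (u : V) = 0)
    (huz : QuadraticMap.polar (⇑Q) (u : V) (z : V) = 0) :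
    ((E (Qp Q v v') u z x : ↥(perp Q v v')) : V) = E Q (u : V) (z : V) (x : V) := by
  have hu' : Qp Q v v' u = 0 := hu
  have huz' : QuadraticMap.polar (⇑(Qp Q v v')) u z = 0 := by
    rw [polar_comp_subtype]; exact huz
  rw [E_apply (Qp Q v v') hu' huz', E_apply Q hu huz]
  simp only [polar_comp_subtype, Submodule.coe_sub, Submodule.coe_add, Submodule.coe_smul]
  rfl

/-- the extension of a Siegel element of `W` is the Siegel element of `V` -/
theorem extLE_E (hv : Q v = 0) (hv' : Q v' = 0) (hvv' : QuadraticMap.polar (⇑Q) v v' = 1)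
    (a z : ↥(perp Q v v')) (ha : Qp Q v v' a = 0)
    (haz : QuadraticMap.polar (⇑(Qp Q v v')) a z = 0) :
    extLE hv hv' hvv' (E (Qp Q v v') a z) = E Q (a : V) (z : V) := by
  have ha' : Q (a : V) = 0 := ha
  have haz' : QuadraticMap.polar (⇑Q) (a : V) (z : V) = 0 := by
    rw [← polar_comp_subtype]; exact haz
  obtain ⟨f1, f2⟩ := E_fix a z ha' haz'
  apply ext_of_agree hv hv' hvv'
  · intro w
    rw [extLE_mem]
    exact restr' a z w ha' haz'
  · rw [extLE_v, f1]
  · rw [extLE_v', f2]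

end proj

end Cfsg.Agent.Lib.Helper73_OP_EXT

namespace Cfsg.Agent.Lib.Helper73_OP_EXT

open Module Cfsg.Agent.Lib.Helper94_OrthSmall Cfsg.Agent.Lib.Helper44_QuadClass
  Cfsg.Agent.Lib.Helper14_OmegaSimple Cfsg.Agent.Lib.Helper38_MIODefs
  Cfsg.Agent.Lib.Helper95_OPDefs Cfsg.Agent.Lib.Helper95_OPBasic

variable {F V : Type*} [Field F] [Fintype F] [AddCommGroup V] [Module F V] [FiniteDimensional F V]

/-! ## OP-EXT (M/L) -/
theorem exists_leviHom (Q : QuadraticForm F V)
    (hQ : (QuadraticMap.polarBilin Q).Nondegenerate)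
    {v v' : V} (hv : Q v = 0) (hv' : Q v' = 0) (hvv' : QuadraticMap.polar (⇑Q) v v' = 1) :
    Nonempty (LeviHom Q v v') := by
  have hmaps : T (Qp Q v v') ≤ (T Q).comap (extLE hv hv' hvv') := by
    rw [T, Subgroup.closure_le]
    rintro g ⟨a, s, ha, hs, has, rfl⟩
    show extLE hv hv' hvv' (E (Qp Q v v') a s) ∈ T Q
    rw [extLE_E hv hv' hvv' a s ha has]
    have has' : QuadraticMap.polar (⇑Q) (a : V) (s : V) = 0 := by
      rw [← polar_comp_subtype]; exact has
    exact root_mem_T Q ha hs has'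
  refine ⟨⟨((extLE hv hv' hvv').comp (T (Qp Q v v')).subtype).codRestrict (T Q)
    (fun g => hmaps g.2), ?_, ?_, ?_⟩⟩
  · intro g w
    exact extLE_mem hv hv' hvv' _ w
  · intro g
    exact extLE_v hv hv' hvv' _
  · intro g
    exact extLE_v' hv hv' hvv' _

theorem leviHom_E (Q : QuadraticForm F V)
    (hQ : (QuadraticMap.polarBilin Q).Nondegenerate)
    {v v' : V} (hv : Q v = 0) (hv' : Q v' = 0) (hvv' : QuadraticMap.polar (⇑Q) v v' = 1)
    (L : LeviHom Q v v') (a z : ↥(perp Q v v')) (ha : Qp Q v v' a = 0)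
    (haz : QuadraticMap.polar (⇑(Qp Q v v')) a z = 0)
    (h : E (Qp Q v v') a z ∈ T (Qp Q v v')) :
    ((L.ι ⟨E (Qp Q v v') a z, h⟩ : ↥(T Q)) : V ≃ₗ[F] V) = E Q (a : V) (z : V) := by
  have ha' : Q (a : V) = 0 := ha
  have haz' : QuadraticMap.polar (⇑Q) (a : V) (z : V) = 0 := by
    rw [← polar_comp_subtype]; exact haz
  obtain ⟨f1, f2⟩ := E_fix a z ha' haz'
  apply ext_of_agree hv hv' hvv'
  · intro w
    rw [L.apply_coe]
    exact restr' a z w ha' haz'
  · rw [L.apply_v, f1]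
  · rw [L.apply_v', f2]

end Cfsg.Agent.Lib.Helper73_OP_EXT
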