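import Mathlib
import Cfsg.Agent.Lib.Helper95_OPDefs
import Cfsg.Agent.Lib.Helper95_OPBasic
import Cfsg.Agent.Lib.Helper73_OP_EXT
import Cfsg.Agent.Lib.Helper48_OODefs

set_option autoImplicit false

/-!
S2344 (helper48): glue between the `ρ`-level (elements of `T Q` acting on `X`) and the `σ`-level (the Levi
factor `T (Q|W)` acting on `X_0 = wsp 0` through `sigmaRep`).
-/

namespace Cfsg.Agent.Lib.Helper48_OO2_Glue

open Module Cfsg.Agent.Lib.Helper94_OrthSmall Cfsg.Agent.Lib.Helper44_QuadClass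
  Cfsg.Agent.Lib.Helper14_OmegaSimple Cfsg.Agent.Lib.Helper38_MIODefs
  Cfsg.Agent.Lib.Helper95_OPDefs Cfsg.Agent.Lib.Helper95_OPBasic Cfsg.Agent.Lib.Helper48_OODefs

variable {F V : Type*} [Field F] [Fintype F] [AddCommGroup V] [Module F V] [FiniteDimensional F V]
  {X : Type*} [AddCommGroup X] [Module ℂ X]

set_option linter.unusedSectionVars false
set_option linter.unusedVariables false

/-- `repE` of `sigmaRep` at an element of `T (Q|W)`. -/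
theorem repE_sigma_of_mem (Q : QuadraticForm F V) {v v' : V}
    (ρ : Representation ℂ ↥(T Q) X) (ψ : AddChar F ℂ) (L : LeviHom Q v v')
    (hinv : ∀ (g : ↥(T (Qp Q v v'))) (x : X), x ∈ wsp Q ρ ψ v v' 0 →
      ρ (L.ι g) x ∈ wsp Q ρ ψ v v' 0)
    (g : ↥(perp Q v v') ≃ₗ[F] ↥(perp Q v v')) (hg : g ∈ T (Qp Q v v'))
    (x : ↥(wsp Q ρ ψ v v' 0)) :
    ((repE (Qp Q v v') (sigmaRep Q ρ ψ v v' L hinv) g x : ↥(wsp Q ρ ψ v v' 0)) : X) =
      ρ (L.ι ⟨g, hg⟩) (x : X) := by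
  rw [repE_of_mem (Qp Q v v') _ hg, sigmaRep_apply]

/-- `repE` of `sigmaRep` at a Siegel element of `W` is `repE` of `ρ` at the same Siegel element of `V`. -/
theorem repE_sigma_E (Q : QuadraticForm F V) (hQ : (QuadraticMap.polarBilin Q).Nondegenerate)
    {v v' : V} (hv : Q v = 0) (hv' : Q v' = 0) (hvv' : QuadraticMap.polar (⇑Q) v v' = 1)
    (ρ : Representation ℂ ↥(T Q) X) (ψ : AddChar F ℂ) (L : LeviHom Q v v')
    (hinv : ∀ (g : ↥(T (Qp Q v v'))) (x : X), x ∈ wsp Q ρ ψ v v' 0 →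
      ρ (L.ι g) x ∈ wsp Q ρ ψ v v' 0)
    (a z : ↥(perp Q v v')) (ha : Qp Q v v' a = 0)
    (haz : QuadraticMap.polar (⇑(Qp Q v v')) a z = 0)
    (h : E (Qp Q v v') a z ∈ T (Qp Q v v')) (x : ↥(wsp Q ρ ψ v v' 0)) :
    ((repE (Qp Q v v') (sigmaRep Q ρ ψ v v' L hinv) (E (Qp Q v v') a z) x :
        ↥(wsp Q ρ ψ v v' 0)) : X) = repE Q ρ (E Q (a : V) (z : V)) (x : X) := by
  rw [repE_sigma_of_mem Q ρ ψ L hinv _ h, ← repE_coe,
    Cfsg.Agent.Lib.Helper73_OP_EXT.leviHom_E Q hQ hv hv' hvv' L a z ha haz h]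

/-- Membership in a weight space of `sigmaRep` (for the hyperbolic pair `w0, w0'` of `W`) in terms of `ρ`. -/
theorem mem_wsp_sigma (Q : QuadraticForm F V) (hQ : (QuadraticMap.polarBilin Q).Nondegenerate)
    {v v' : V} (hv : Q v = 0) (hv' : Q v' = 0) (hvv' : QuadraticMap.polar (⇑Q) v v' = 1)
    (hQW : (QuadraticMap.polarBilin (Qp Q v v')).Nondegenerate)
    (hdimW : 5 ≤ finrank F ↥(perp Q v v'))
    (ρ : Representation ℂ ↥(T Q) X) (ψ : AddChar F ℂ) (L : LeviHom Q v v')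
    (hinv : ∀ (g : ↥(T (Qp Q v v'))) (x : X), x ∈ wsp Q ρ ψ v v' 0 →
      ρ (L.ι g) x ∈ wsp Q ρ ψ v v' 0)
    {w0 w0' : ↥(perp Q v v')} (hw0 : Qp Q v v' w0 = 0)
    (z : ↥(perp (Qp Q v v') w0 w0')) (x : ↥(wsp Q ρ ψ v v' 0)) :
    x ∈ wsp (Qp Q v v') (sigmaRep Q ρ ψ v v' L hinv) ψ w0 w0' z ↔
      ∀ w : ↥(perp (Qp Q v v') w0 w0'),
        repE Q ρ (E Q (w0 : V) ((w : ↥(perp Q v v')) : V)) (x : X) =
          ψ (QuadraticMap.polar (⇑(Qp Q v v')) (z : ↥(perp Q v v')) (w : ↥(perp Q v v'))) • (x : X) := by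
  rw [mem_wsp]
  refine forall_congr' (fun w => ?_)
  have hw0w : QuadraticMap.polar (⇑(Qp Q v v')) w0 (w : ↥(perp Q v v')) = 0 := by
    have := w.2
    rw [mem_perp] at this
    exact this.1
  have hmem : E (Qp Q v v') w0 (w : ↥(perp Q v v')) ∈ T (Qp Q v v') :=
    rad_mem (Qp Q v v') hQW hdimW hw0 w
  rw [← Subtype.coe_inj, repE_sigma_E Q hQ hv hv' hvv' ρ ψ L hinv w0 w hw0 hw0w hmem x]
  rfl

end Cfsg.Agent.Lib.Helper48_OO2_Glue
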