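import Mathlib
import Cfsg.Agent.Lib.Helper87_OO2Defs2

set_option autoImplicit false

/-!
S2344 (helper48, package OO2-IHAPP, abstract part): for a complex representation `σ` of a finite group,
`M = invariants ⊕ aug σ`; the augmentation submodule is spanned by the `σ s m - m`, `s` in a generating set;
vectors on which some group element acts by a scalar `≠ 1` lie in `aug σ`.
-/

namespace Cfsg.Agent.Lib.Helper48_OO2_IHAbs

open Cfsg.Agent.Lib.Helper87_OO2Defs

variable {G M : Type*} [Group G] [AddCommGroup M] [Module ℂ M] (σ : Representation ℂ G M)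

theorem aug_stable (g : G) (m : M) (hm : m ∈ aug σ) : σ g m ∈ aug σ := by
  unfold aug at hm ⊢
  induction hm using Submodule.span_induction with
  | mem y hy =>
    obtain ⟨h, m', rfl⟩ := hy
    apply Submodule.subset_span
    refine ⟨g * h * g⁻¹, σ g m', ?_⟩
    rw [map_sub, ← Module.End.mul_apply, ← Module.End.mul_apply, ← map_mul, ← map_mul]
    congr 2
    group
  | zero => rw [map_zero]; exact Submodule.zero_mem _
  | add a b _ _ ha hb => rw [map_add]; exact Submodule.add_mem _ ha hb
  | smul c a _ ha => rw [map_smul]; exact Submodule.smul_mem _ c ha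

theorem sub_mem_aug' (g : G) (m : M) : m - σ g m ∈ aug σ := by
  have := Submodule.neg_mem _ (sub_mem_aug σ g m)
  rwa [neg_sub] at this

/-- a vector on which `g` acts by a scalar `c ≠ 1` lies in the augmentation -/
theorem mem_aug_of_eigen (g : G) (c : ℂ) (hc : c ≠ 1) (m : M) (hm : σ g m = c • m) :
    m ∈ aug σ := by
  have h1 : σ g m - m = (c - 1) • m := by rw [hm, sub_smul, one_smul]
  have h2 : (c - 1) ≠ 0 := sub_ne_zero.mpr hc
  have h3 : m = (c - 1)⁻¹ • (σ g m - m) := by
    rw [h1, smul_smul, inv_mul_cancel₀ h2, one_smul]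
  rw [h3]
  exact Submodule.smul_mem _ _ (sub_mem_aug σ g m)

/-- The augmentation is spanned by the `σ s m - m` with `s` in a generating set. -/
theorem aug_eq_span_of_closure (S : Set G) (hS : Subgroup.closure S = ⊤) :
    aug σ = Submodule.span ℂ {y | ∃ s ∈ S, ∃ m : M, y = σ s m - m} := by
  apply le_antisymm
  · unfold aug
    rw [Submodule.span_le]
    rintro y ⟨g, m, rfl⟩
    have hg : g ∈ Subgroup.closure S := by rw [hS]; trivial
    revert m
    induction hg using Subgroup.closure_induction with
    | mem s hs => intro m; exact Submodule.subset_span ⟨s, hs, m, rfl⟩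
    | one => intro m; simp
    | mul a b _ _ ha hb =>
      intro m
      have : σ (a * b) m - m = (σ a (σ b m) - σ b m) + (σ b m - m) := by
        rw [map_mul]; simp
      rw [this]
      exact Submodule.add_mem _ (ha _) (hb _)
    | inv a _ ha =>
      intro m
      have : σ a⁻¹ m - m = -(σ a (σ a⁻¹ m) - σ a⁻¹ m) := by
        rw [← Module.End.mul_apply, ← map_mul, mul_inv_cancel, map_one]
        simp
      rw [this]
      exact Submodule.neg_mem _ (ha _)
  · rw [Submodule.span_le]
    rintro y ⟨s, _, m, rfl⟩
    exact sub_mem_aug σ s m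

variable [Finite G]

/-- the (unnormalised) averaging operator -/
noncomputable def avg : Module.End ℂ M :=
  open Classical in
  letI : Fintype G := Fintype.ofFinite G
  ∑ g : G, σ g

theorem avg_apply [Fintype G] (m : M) : avg σ m = ∑ g : G, σ g m := by
  unfold avg
  rw [LinearMap.sum_apply]
  exact Finset.sum_congr (by ext; simp) (fun _ _ => rfl)

theorem avg_mem_invariants (m : M) : avg σ m ∈ Representation.invariants σ := by
  classical
  letI : Fintype G := Fintype.ofFinite G
  intro h
  rw [avg_apply, map_sum]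
  have : ∀ g : G, σ h (σ g m) = σ (h * g) m := by
    intro g; rw [map_mul]; rfl
  simp only [this]
  exact Fintype.sum_equiv (Equiv.mulLeft h) _ _ (fun g => rfl)

theorem avg_of_invariant (m : M) (hm : m ∈ Representation.invariants σ) :
    avg σ m = (Nat.card G : ℂ) • m := by
  classical
  letI : Fintype G := Fintype.ofFinite G
  rw [avg_apply]
  have : ∀ g : G, σ g m = m := fun g => hm g
  simp only [this]
  rw [Finset.sum_const, Finset.card_univ, Nat.card_eq_fintype_card, Nat.cast_smul_eq_nsmul]

theorem avg_of_aug (m : M) (hm : m ∈ aug σ) : avg σ m = 0 := by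
  classical
  letI : Fintype G := Fintype.ofFinite G
  unfold aug at hm
  induction hm using Submodule.span_induction with
  | mem y hy =>
    obtain ⟨h, m', rfl⟩ := hy
    rw [map_sub, avg_apply, avg_apply, sub_eq_zero]
    have : ∀ g : G, σ g (σ h m') = σ (g * h) m' := by
      intro g; rw [map_mul]; rfl
    simp only [this]
    exact Fintype.sum_equiv (Equiv.mulRight h) _ _ (fun g => rfl)
  | zero => exact map_zero _
  | add a b _ _ ha hb => rw [map_add, ha, hb, add_zero]
  | smul c a _ ha => rw [map_smul, ha, smul_zero]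

theorem card_smul_sub_avg_mem_aug (m : M) : (Nat.card G : ℂ) • m - avg σ m ∈ aug σ := by
  classical
  letI : Fintype G := Fintype.ofFinite G
  rw [avg_apply]
  have : (Nat.card G : ℂ) • m = ∑ _g : G, m := by
    rw [Finset.sum_const, Finset.card_univ, Nat.card_eq_fintype_card, Nat.cast_smul_eq_nsmul]
  rw [this, ← Finset.sum_sub_distrib]
  exact Submodule.sum_mem _ (fun g _ => sub_mem_aug' σ g m)

theorem card_ne_zero : (Nat.card G : ℂ) ≠ 0 := by
  have : Nat.card G ≠ 0 := Nat.card_pos.ne'
  exact_mod_cast this

/-- **invariants ∩ augmentation = 0** -/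
theorem invariants_inf_aug : Representation.invariants σ ⊓ aug σ = ⊥ := by
  rw [eq_bot_iff]
  rintro m ⟨h1, h2⟩
  have h3 := avg_of_invariant σ m h1
  rw [avg_of_aug σ m h2] at h3
  rw [Submodule.mem_bot]
  have := (smul_eq_zero.mp h3.symm).resolve_left (card_ne_zero (G := G))
  exact this

/-- **invariants + augmentation = everything**, with the explicit decomposition -/
theorem exists_decomp (m : M) :
    ∃ m₀ ∈ Representation.invariants σ, ∃ m₁ ∈ aug σ, m = m₀ + m₁ := by
  refine ⟨(Nat.card G : ℂ)⁻¹ • avg σ m, Submodule.smul_mem _ _ (avg_mem_invariants σ m),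
    (Nat.card G : ℂ)⁻¹ • ((Nat.card G : ℂ) • m - avg σ m),
    Submodule.smul_mem _ _ (card_smul_sub_avg_mem_aug σ m), ?_⟩
  rw [← smul_add, add_sub_cancel, smul_smul, inv_mul_cancel₀ (card_ne_zero (G := G)), one_smul]

theorem invariants_sup_aug : Representation.invariants σ ⊔ aug σ = ⊤ := by
  rw [eq_top_iff]
  intro m _
  obtain ⟨m₀, h0, m₁, h1, rfl⟩ := exists_decomp σ m
  exact Submodule.add_mem_sup h0 h1

theorem isCompl_invariants_aug : IsCompl (Representation.invariants σ) (aug σ) :=
  ⟨disjoint_iff.mpr (invariants_inf_aug σ), codisjoint_iff.mpr (invariants_sup_aug σ)⟩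

end Cfsg.Agent.Lib.Helper48_OO2_IHAbs
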