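import Mathlib
import Cfsg.Agent.Lib.Helper95_OPDefs
import Cfsg.Agent.Lib.Helper95_OPBasic
import Cfsg.Agent.Lib.Helper73_OP_EXT
import Cfsg.Agent.Lib.Helper48_OODefs
import Cfsg.Agent.Lib.Helper48_OO2_Glue
import Cfsg.Agent.Lib.Helper48_OO2_IHAbs
import Cfsg.Agent.Lib.Helper87_OO2Defs
import Cfsg.Agent.Lib.Helper87_OO2Defs2

set_option autoImplicit false

/-!
S2344 (helper48, package OO2-IHAPP, geometric translations): the dictionary between the `σ`-level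
(`σ = sigmaRep` on `X_0 = wsp 0`, a representation of `T (Q|W)`) and the `ρ`-level spaces of
`Helper87_OO2Defs`/`Helper87_OO2Defs2` (`X0sp`, `wsp2`, `Ysp`, `Y2sp`, `augL`, `Ypsp`).
-/

namespace Cfsg.Agent.Lib.Helper48_OO2_IHGeo

open Module Cfsg.Agent.Lib.Helper94_OrthSmall Cfsg.Agent.Lib.Helper44_QuadClass
  Cfsg.Agent.Lib.Helper14_OmegaSimple Cfsg.Agent.Lib.Helper38_MIODefs
  Cfsg.Agent.Lib.Helper95_OPDefs Cfsg.Agent.Lib.Helper95_OPBasic Cfsg.Agent.Lib.Helper48_OODefs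
  Cfsg.Agent.Lib.Helper87_OO2Defs Cfsg.Agent.Lib.Helper48_OO2_Glue Cfsg.Agent.Lib.Helper48_OO2_IHAbs

variable {F V : Type*} [Field F] [Fintype F] [AddCommGroup V] [Module F V] [FiniteDimensional F V]
  {X : Type*} [AddCommGroup X] [Module ℂ X]

set_option linter.unusedSectionVars false
set_option linter.unusedVariables false

/-- `X^R` is the weight space of label `0`. -/
theorem X0sp_eq (Q : QuadraticForm F V) (ρ : Representation ℂ ↥(T Q) X) (ψ : AddChar F ℂ)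
    (v v' : V) : X0sp Q ρ v v' = wsp Q ρ ψ v v' 0 := by
  ext x
  rw [X0sp, mem_fixE, mem_wsp]
  constructor
  · intro h w
    rw [h (w : V) w.2]
    simp
  · intro h w hw
    have := h ⟨w, hw⟩
    simpa using this

/-- the elements of `W` attached to a second hyperbolic pair -/
def toW (Q : QuadraticForm F V) {v v' w : V} (hw : w ∈ perp Q v v') : ↥(perp Q v v') := ⟨w, hw⟩

theorem hpair_W (Q : QuadraticForm F V) {v v' w0 w0' : V} (h : HQuad Q v v' w0 w0') :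
    HPair (Qp Q v v') (⟨w0, h.mem_perp.1⟩ : ↥(perp Q v v')) ⟨w0', h.mem_perp.2⟩ :=
  ⟨h.pb.qa, h.pb.qa', by rw [polar_comp_subtype]; exact h.pb.aa'⟩

theorem hquad_W (Q : QuadraticForm F V) {v v' w0 w0' w1 w1' : V} (h : HQuad Q v v' w0 w0')
    (h1 : HQuad Q v v' w1 w1') (h2 : HQuad Q w0 w0' w1 w1') :
    HQuad (Qp Q v v') (⟨w0, h.mem_perp.1⟩ : ↥(perp Q v v')) ⟨w0', h.mem_perp.2⟩
      ⟨w1, h1.mem_perp.1⟩ ⟨w1', h1.mem_perp.2⟩ :=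
  ⟨hpair_W Q h, hpair_W Q h1, by rw [polar_comp_subtype]; exact h2.ab,
    by rw [polar_comp_subtype]; exact h2.ab', by rw [polar_comp_subtype]; exact h2.a'b,
    by rw [polar_comp_subtype]; exact h2.a'b'⟩

/-- `W_1` versus the nested complement. -/
theorem mem_W1_iff (Q : QuadraticForm F V) {v v' w0 w0' : V} (h : HQuad Q v v' w0 w0') (w : V) :
    w ∈ W1 Q v v' w0 w0' ↔ ∃ hw : w ∈ perp Q v v',
      (⟨w, hw⟩ : ↥(perp Q v v')) ∈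
        perp (Qp Q v v') (⟨w0, h.mem_perp.1⟩ : ↥(perp Q v v')) ⟨w0', h.mem_perp.2⟩ := by
  unfold W1
  rw [Submodule.mem_inf]
  constructor
  · rintro ⟨h1, h2⟩
    refine ⟨h1, ?_⟩
    rw [mem_perp, polar_comp_subtype, polar_comp_subtype]
    exact (mem_perp Q w0 w0').1 h2
  · rintro ⟨h1, h2⟩
    refine ⟨h1, ?_⟩
    rw [mem_perp, polar_comp_subtype, polar_comp_subtype] at h2
    exact (mem_perp Q w0 w0').2 h2

theorem coe_mem_W1 (Q : QuadraticForm F V) {v v' w0 w0' : V} (h : HQuad Q v v' w0 w0')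
    (w : ↥(perp (Qp Q v v') (⟨w0, h.mem_perp.1⟩ : ↥(perp Q v v')) ⟨w0', h.mem_perp.2⟩)) :
    ((w : ↥(perp Q v v')) : V) ∈ W1 Q v v' w0 w0' :=
  (mem_W1_iff Q h _).2 ⟨(w : ↥(perp Q v v')).2, w.2⟩

/-- The level-2 weight spaces of `σ` are (after the embedding `X_0 ⊆ X`) the spaces `wsp2`. -/
theorem map_wsp_sigma (Q : QuadraticForm F V) (hQ : (QuadraticMap.polarBilin Q).Nondegenerate)
    {v v' w0 w0' : V} (h : HQuad Q v v' w0 w0')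
    (hQW : (QuadraticMap.polarBilin (Qp Q v v')).Nondegenerate)
    (hdimW : 5 ≤ finrank F ↥(perp Q v v'))
    (ρ : Representation ℂ ↥(T Q) X) (ψ : AddChar F ℂ) (L : LeviHom Q v v')
    (hinv : ∀ (g : ↥(T (Qp Q v v'))) (x : X), x ∈ wsp Q ρ ψ v v' 0 →
      ρ (L.ι g) x ∈ wsp Q ρ ψ v v' 0)
    (z : ↥(perp (Qp Q v v') (⟨w0, h.mem_perp.1⟩ : ↥(perp Q v v')) ⟨w0', h.mem_perp.2⟩)) :
    (wsp (Qp Q v v') (sigmaRep Q ρ ψ v v' L hinv) ψ ⟨w0, h.mem_perp.1⟩ ⟨w0', h.mem_perp.2⟩ z).map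
        (wsp Q ρ ψ v v' 0).subtype =
      wsp2 Q ρ ψ v v' w0 w0' ((z : ↥(perp Q v v')) : V) := by
  ext x
  rw [Submodule.mem_map]
  unfold wsp2
  rw [Submodule.mem_inf, X0sp_eq Q ρ ψ v v', mem_eigE]
  constructor
  · rintro ⟨x0, hx0, rfl⟩
    refine ⟨x0.2, ?_⟩
    intro w hw
    obtain ⟨hw1, hw2⟩ := (mem_W1_iff Q h w).1 hw
    have := (mem_wsp_sigma Q hQ h.pa.qa h.pa.qa' h.pa.aa' hQW hdimW ρ ψ L hinv
      (w0 := ⟨w0, h.mem_perp.1⟩) (w0' := ⟨w0', h.mem_perp.2⟩) h.pb.qa z x0).1 hx0 ⟨⟨w, hw1⟩, hw2⟩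
    rw [polar_comp_subtype] at this
    exact this
  · rintro ⟨hx0, hx⟩
    refine ⟨⟨x, hx0⟩, ?_, rfl⟩
    rw [mem_wsp_sigma Q hQ h.pa.qa h.pa.qa' h.pa.aa' hQW hdimW ρ ψ L hinv
      (w0 := ⟨w0, h.mem_perp.1⟩) (w0' := ⟨w0', h.mem_perp.2⟩) h.pb.qa z ⟨x, hx0⟩]
    intro w
    have := hx _ (coe_mem_W1 Q h w)
    rw [polar_comp_subtype]
    exact this

theorem finrank_wsp_sigma [FiniteDimensional ℂ X] (Q : QuadraticForm F V)
    (hQ : (QuadraticMap.polarBilin Q).Nondegenerate)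
    {v v' w0 w0' : V} (h : HQuad Q v v' w0 w0')
    (hQW : (QuadraticMap.polarBilin (Qp Q v v')).Nondegenerate)
    (hdimW : 5 ≤ finrank F ↥(perp Q v v'))
    (ρ : Representation ℂ ↥(T Q) X) (ψ : AddChar F ℂ) (L : LeviHom Q v v')
    (hinv : ∀ (g : ↥(T (Qp Q v v'))) (x : X), x ∈ wsp Q ρ ψ v v' 0 →
      ρ (L.ι g) x ∈ wsp Q ρ ψ v v' 0)
    (z : ↥(perp (Qp Q v v') (⟨w0, h.mem_perp.1⟩ : ↥(perp Q v v')) ⟨w0', h.mem_perp.2⟩)) :
    finrank ℂ ↥(wsp (Qp Q v v') (sigmaRep Q ρ ψ v v' L hinv) ψ ⟨w0, h.mem_perp.1⟩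
        ⟨w0', h.mem_perp.2⟩ z) =
      finrank ℂ ↥(wsp2 Q ρ ψ v v' w0 w0' ((z : ↥(perp Q v v')) : V)) := by
  rw [← map_wsp_sigma Q hQ h hQW hdimW ρ ψ L hinv z]
  exact (LinearEquiv.finrank_eq (Submodule.equivMapOfInjective _
    (Submodule.injective_subtype _) _))

/-! ### the Levi embedding on the elements `xr`, `nw`, `hh` -/

theorem leviHom_eq_extLE (Q : QuadraticForm F V) {v v' : V} (hv : Q v = 0) (hv' : Q v' = 0)
    (hvv' : QuadraticMap.polar (⇑Q) v v' = 1) (L : LeviHom Q v v') (g : ↥(T (Qp Q v v'))) :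
    ((L.ι g : ↥(T Q)) : V ≃ₗ[F] V) =
      Cfsg.Agent.Lib.Helper73_OP_EXT.extLE hv hv' hvv' (g : ↥(perp Q v v') ≃ₗ[F] ↥(perp Q v v')) := by
  apply Cfsg.Agent.Lib.Helper73_OP_EXT.ext_of_agree hv hv' hvv'
  · intro w
    rw [L.apply_coe, Cfsg.Agent.Lib.Helper73_OP_EXT.extLE_mem]
  · rw [L.apply_v, Cfsg.Agent.Lib.Helper73_OP_EXT.extLE_v]
  · rw [L.apply_v', Cfsg.Agent.Lib.Helper73_OP_EXT.extLE_v']

theorem extLE_xr (Q : QuadraticForm F V) {v v' : V} (hv : Q v = 0) (hv' : Q v' = 0)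
    (hvv' : QuadraticMap.polar (⇑Q) v v' = 1) (a b' : ↥(perp Q v v')) (ha : Qp Q v v' a = 0)
    (hab' : QuadraticMap.polar (⇑(Qp Q v v')) a b' = 0) (s : F) :
    Cfsg.Agent.Lib.Helper73_OP_EXT.extLE hv hv' hvv' (xr (Qp Q v v') a b' s) =
      xr Q (a : V) (b' : V) s := by
  unfold xr
  rw [Cfsg.Agent.Lib.Helper73_OP_EXT.extLE_E hv hv' hvv' a (s • b') ha
    (by rw [QuadraticMap.polar_smul_right, hab', smul_zero])]
  rfl

theorem extLE_nw (Q : QuadraticForm F V) {v v' : V} (hv : Q v = 0) (hv' : Q v' = 0)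
    (hvv' : QuadraticMap.polar (⇑Q) v v' = 1) {a a' b b' : ↥(perp Q v v')}
    (h : HQuad (Qp Q v v') a a' b b') (t : F) :
    Cfsg.Agent.Lib.Helper73_OP_EXT.extLE hv hv' hvv' (nw (Qp Q v v') a a' b b' t) =
      nw Q (a : V) (a' : V) (b : V) (b' : V) t := by
  unfold nw
  rw [map_mul, map_mul, extLE_xr Q hv hv' hvv' a b' h.pa.qa h.ab',
    extLE_xr Q hv hv' hvv' b a' h.pb.qa (by rw [QuadraticMap.polar_comm]; exact h.a'b)]

theorem extLE_hh (Q : QuadraticForm F V) {v v' : V} (hv : Q v = 0) (hv' : Q v' = 0)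
    (hvv' : QuadraticMap.polar (⇑Q) v v' = 1) {a a' b b' : ↥(perp Q v v')}
    (h : HQuad (Qp Q v v') a a' b b') (t : F) :
    Cfsg.Agent.Lib.Helper73_OP_EXT.extLE hv hv' hvv' (hh (Qp Q v v') a a' b b' t) =
      hh Q (a : V) (a' : V) (b : V) (b' : V) t := by
  unfold hh
  rw [map_mul, map_inv, extLE_nw Q hv hv' hvv' h, extLE_nw Q hv hv' hvv' h]

/-- `σ` at a torus element of `W` is `ρ` at the torus element of `V`. -/
theorem repE_sigma_hh (Q : QuadraticForm F V) {v v' : V} (hv : Q v = 0) (hv' : Q v' = 0)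
    (hvv' : QuadraticMap.polar (⇑Q) v v' = 1)
    (ρ : Representation ℂ ↥(T Q) X) (ψ : AddChar F ℂ) (L : LeviHom Q v v')
    (hinv : ∀ (g : ↥(T (Qp Q v v'))) (x : X), x ∈ wsp Q ρ ψ v v' 0 →
      ρ (L.ι g) x ∈ wsp Q ρ ψ v v' 0)
    {a a' b b' : ↥(perp Q v v')} (h : HQuad (Qp Q v v') a a' b b') (t : F)
    (x : ↥(wsp Q ρ ψ v v' 0)) :
    ((repE (Qp Q v v') (sigmaRep Q ρ ψ v v' L hinv) (hh (Qp Q v v') a a' b b' t) x :
        ↥(wsp Q ρ ψ v v' 0)) : X) =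
      repE Q ρ (hh Q (a : V) (a' : V) (b : V) (b' : V) t) (x : X) := by
  rw [repE_sigma_of_mem Q ρ ψ L hinv _ (hh_mem_T h t), ← repE_coe,
    leviHom_eq_extLE Q hv hv' hvv' L]
  show repE Q ρ (Cfsg.Agent.Lib.Helper73_OP_EXT.extLE hv hv' hvv' (hh (Qp Q v v') a a' b b' t)) _ = _
  rw [extLE_hh Q hv hv' hvv' h]

/-! ### sub-representations, invariants, augmentation -/

theorem repE_subrep {W M : Type*} [AddCommGroup W] [Module F W] [AddCommGroup M] [Module ℂ M]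
    (Q' : QuadraticForm F W) (τ : Representation ℂ ↥(T Q') M) (N : Submodule ℂ M)
    (hN : ∀ g, N ≤ N.comap (τ g)) (g : W ≃ₗ[F] W) (x : ↥N) :
    ((repE Q' (τ.subrepresentation N hN) g x : ↥N) : M) = repE Q' τ g (x : M) := by
  by_cases hg : g ∈ T Q'
  · rw [repE_of_mem _ _ hg, repE_of_mem _ _ hg]
    rfl
  · unfold repE
    rw [dif_neg hg, dif_neg hg]
    rfl

/-- The weight spaces of a sub-representation. -/
theorem mem_wsp_subrep {W M : Type*} [AddCommGroup W] [Module F W] [AddCommGroup M] [Module ℂ M]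
    (Q' : QuadraticForm F W) (τ : Representation ℂ ↥(T Q') M) (N : Submodule ℂ M)
    (hN : ∀ g, N ≤ N.comap (τ g)) (ψ : AddChar F ℂ) (a a' : W) (z : ↥(perp Q' a a')) (x : ↥N) :
    x ∈ wsp Q' (τ.subrepresentation N hN) ψ a a' z ↔ (x : M) ∈ wsp Q' τ ψ a a' z := by
  rw [mem_wsp, mem_wsp]
  refine forall_congr' (fun w => ?_)
  rw [← Subtype.coe_inj, repE_subrep]
  rfl

/-- The invariants of `σ` are the space `Y = X^{R L'}`. -/
theorem map_invariants_sigma (Q : QuadraticForm F V)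
    (hQ : (QuadraticMap.polarBilin Q).Nondegenerate)
    {v v' : V} (hv : Q v = 0) (hv' : Q v' = 0) (hvv' : QuadraticMap.polar (⇑Q) v v' = 1)
    (ρ : Representation ℂ ↥(T Q) X) (ψ : AddChar F ℂ) (L : LeviHom Q v v')
    (hinv : ∀ (g : ↥(T (Qp Q v v'))) (x : X), x ∈ wsp Q ρ ψ v v' 0 →
      ρ (L.ι g) x ∈ wsp Q ρ ψ v v' 0) :
    (Representation.invariants (sigmaRep Q ρ ψ v v' L hinv)).map (wsp Q ρ ψ v v' 0).subtype =
      Ysp Q ρ v v' := by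
  ext x
  rw [Submodule.mem_map]
  unfold Ysp
  rw [Submodule.mem_inf, ← X0sp, X0sp_eq Q ρ ψ v v', mem_fixL]
  constructor
  · rintro ⟨x0, hx0, rfl⟩
    refine ⟨x0.2, ?_⟩
    intro a ha b hb hQa hQb hab
    have hab' : QuadraticMap.polar (⇑(Qp Q v v')) (⟨a, ha⟩ : ↥(perp Q v v')) ⟨b, hb⟩ = 0 := by
      rw [polar_comp_subtype]; exact hab
    have hmem : E (Qp Q v v') (⟨a, ha⟩ : ↥(perp Q v v')) ⟨b, hb⟩ ∈ T (Qp Q v v') :=
      root_mem_T (Qp Q v v') hQa hQb hab'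
    have h1 := hx0 ⟨_, hmem⟩
    have h2 := repE_sigma_E Q hQ hv hv' hvv' ρ ψ L hinv ⟨a, ha⟩ ⟨b, hb⟩ hQa hab' hmem x0
    rw [repE_of_mem _ _ hmem, h1] at h2
    exact h2.symm
  · rintro ⟨hx0, hx⟩
    refine ⟨⟨x, hx0⟩, ?_, rfl⟩
    intro g
    obtain ⟨g, hg⟩ := g
    induction hg using Subgroup.closure_induction with
    | mem g hg =>
      obtain ⟨a, b, hQa, hQb, hab, rfl⟩ := hg
      have hab' : QuadraticMap.polar (⇑Q) (a : V) (b : V) = 0 := by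
        rw [← polar_comp_subtype]; exact hab
      have hmem : E (Qp Q v v') a b ∈ T (Qp Q v v') := root_mem_T (Qp Q v v') hQa hQb hab
      have h2 := repE_sigma_E Q hQ hv hv' hvv' ρ ψ L hinv a b hQa hab hmem ⟨x, hx0⟩
      rw [repE_of_mem _ _ hmem] at h2
      apply Subtype.ext
      rw [h2]
      exact hx (a : V) a.2 (b : V) b.2 hQa hQb hab'
    | one =>
      have : (⟨1, Subgroup.one_mem _⟩ : ↥(T (Qp Q v v'))) = 1 := rfl
      rw [this, map_one]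
      rfl
    | mul a b ha hb iha ihb =>
      have : (⟨a * b, Subgroup.mul_mem _ ha hb⟩ : ↥(T (Qp Q v v'))) = ⟨a, ha⟩ * ⟨b, hb⟩ := rfl
      rw [this, map_mul, Module.End.mul_apply, ihb, iha]
    | inv a ha iha =>
      have : (⟨a⁻¹, Subgroup.inv_mem _ ha⟩ : ↥(T (Qp Q v v'))) = (⟨a, ha⟩ : ↥(T (Qp Q v v')))⁻¹ := rfl
      rw [this]
      have h3 : (sigmaRep Q ρ ψ v v' L hinv (⟨a, ha⟩ : ↥(T (Qp Q v v')))⁻¹)
          (sigmaRep Q ρ ψ v v' L hinv ⟨a, ha⟩ ⟨x, hx0⟩) = ⟨x, hx0⟩ := by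
        rw [← Module.End.mul_apply, ← map_mul, inv_mul_cancel, map_one]
        rfl
      rw [iha] at h3
      exact h3

/-- The augmentation of `σ` is the space `[L', X^R]`. -/
theorem map_aug_sigma (Q : QuadraticForm F V)
    (hQ : (QuadraticMap.polarBilin Q).Nondegenerate)
    {v v' : V} (hv : Q v = 0) (hv' : Q v' = 0) (hvv' : QuadraticMap.polar (⇑Q) v v' = 1)
    (ρ : Representation ℂ ↥(T Q) X) (ψ : AddChar F ℂ) (L : LeviHom Q v v')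
    (hinv : ∀ (g : ↥(T (Qp Q v v'))) (x : X), x ∈ wsp Q ρ ψ v v' 0 →
      ρ (L.ι g) x ∈ wsp Q ρ ψ v v' 0) :
    (aug (sigmaRep Q ρ ψ v v' L hinv)).map (wsp Q ρ ψ v v' 0).subtype =
      augL Q ρ (perp Q v v') (X0sp Q ρ v v') := by
  have hcl : Subgroup.closure
      (((↑) : ↥(T (Qp Q v v')) → (↥(perp Q v v') ≃ₗ[F] ↥(perp Q v v'))) ⁻¹' rootSet (Qp Q v v')) = ⊤ :=
    Subgroup.closure_closure_coe_preimage
  rw [aug_eq_span_of_closure _ _ hcl, Submodule.map_span]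
  unfold augL
  congr 1
  ext y
  constructor
  · rintro ⟨y0, ⟨s, hs, m, rfl⟩, rfl⟩
    obtain ⟨s, hsT⟩ := s
    obtain ⟨a, b, hQa, hQb, hab, rfl⟩ := hs
    have hab' : QuadraticMap.polar (⇑Q) (a : V) (b : V) = 0 := by
      rw [← polar_comp_subtype]; exact hab
    refine ⟨(a : V), a.2, (b : V), b.2, hQa, hQb, hab', (m : X), ?_, ?_⟩
    · rw [X0sp_eq Q ρ ψ v v']; exact m.2
    · have h2 := repE_sigma_E Q hQ hv hv' hvv' ρ ψ L hinv a b hQa hab hsT m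
      rw [repE_of_mem _ _ hsT] at h2
      rw [← h2]
      rfl
  · rintro ⟨a, ha, b, hb, hQa, hQb, hab, m, hm, rfl⟩
    rw [X0sp_eq Q ρ ψ v v'] at hm
    have hab' : QuadraticMap.polar (⇑(Qp Q v v')) (⟨a, ha⟩ : ↥(perp Q v v')) ⟨b, hb⟩ = 0 := by
      rw [polar_comp_subtype]; exact hab
    have hmem : E (Qp Q v v') (⟨a, ha⟩ : ↥(perp Q v v')) ⟨b, hb⟩ ∈ T (Qp Q v v') :=
      root_mem_T (Qp Q v v') hQa hQb hab'
    refine ⟨sigmaRep Q ρ ψ v v' L hinv ⟨_, hmem⟩ ⟨m, hm⟩ - ⟨m, hm⟩,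
      ⟨⟨_, hmem⟩, ⟨⟨a, ha⟩, ⟨b, hb⟩, hQa, hQb, hab', rfl⟩, ⟨m, hm⟩, rfl⟩, ?_⟩
    have h2 := repE_sigma_E Q hQ hv hv' hvv' ρ ψ L hinv ⟨a, ha⟩ ⟨b, hb⟩ hQa hab' hmem ⟨m, hm⟩
    rw [repE_of_mem _ _ hmem] at h2
    rw [map_sub]
    show ((sigmaRep Q ρ ψ v v' L hinv ⟨_, hmem⟩ ⟨m, hm⟩ : ↥(wsp Q ρ ψ v v' 0)) : X) - m = _
    rw [h2]

/-- The space `Y` of a sub-representation of `σ` (for the pair `w0, w0'` of `W`) at the `ρ`-level. -/
theorem mem_Ysp_subrep (Q : QuadraticForm F V) (hQ : (QuadraticMap.polarBilin Q).Nondegenerate)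
    {v v' w0 w0' : V} (h : HQuad Q v v' w0 w0')
    (hQW : (QuadraticMap.polarBilin (Qp Q v v')).Nondegenerate)
    (hdimW : 5 ≤ finrank F ↥(perp Q v v'))
    (ρ : Representation ℂ ↥(T Q) X) (ψ : AddChar F ℂ) (L : LeviHom Q v v')
    (hinv : ∀ (g : ↥(T (Qp Q v v'))) (x : X), x ∈ wsp Q ρ ψ v v' 0 →
      ρ (L.ι g) x ∈ wsp Q ρ ψ v v' 0)
    (N : Submodule ℂ ↥(wsp Q ρ ψ v v' 0))
    (hN : ∀ g, N ≤ N.comap (sigmaRep Q ρ ψ v v' L hinv g)) (y : ↥N) :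
    y ∈ Ysp (Qp Q v v') ((sigmaRep Q ρ ψ v v' L hinv).subrepresentation N hN)
        (⟨w0, h.mem_perp.1⟩ : ↥(perp Q v v')) ⟨w0', h.mem_perp.2⟩ ↔
      (((y : ↥(wsp Q ρ ψ v v' 0)) : X) ∈ fixE Q ρ w0 (W1 Q v v' w0 w0') ∧
        ((y : ↥(wsp Q ρ ψ v v' 0)) : X) ∈ fixL Q ρ (W1 Q v v' w0 w0')) := by
  unfold Ysp
  rw [Submodule.mem_inf, mem_fixE, mem_fixL, mem_fixE, mem_fixL]
  have hv := h.pa.qa
  have hv' := h.pa.qa'
  have hvv' := h.pa.aa'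
  constructor
  · rintro ⟨h1, h2⟩
    constructor
    · intro w hw
      obtain ⟨hw1, hw2⟩ := (mem_W1_iff Q h w).1 hw
      have h3 := h1 ⟨w, hw1⟩ hw2
      have hw0w : QuadraticMap.polar (⇑(Qp Q v v')) (⟨w0, h.mem_perp.1⟩ : ↥(perp Q v v'))
          ⟨w, hw1⟩ = 0 := ((mem_perp _ _ _).1 hw2).1
      have hmem : E (Qp Q v v') (⟨w0, h.mem_perp.1⟩ : ↥(perp Q v v')) ⟨w, hw1⟩ ∈ T (Qp Q v v') :=
        rad_mem (Qp Q v v') hQW hdimW h.pb.qa ⟨⟨w, hw1⟩, hw2⟩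
      have h4 := repE_sigma_E Q hQ hv hv' hvv' ρ ψ L hinv ⟨w0, h.mem_perp.1⟩ ⟨w, hw1⟩ h.pb.qa
        hw0w hmem (y : ↥(wsp Q ρ ψ v v' 0))
      rw [← repE_subrep (Qp Q v v') (sigmaRep Q ρ ψ v v' L hinv) N hN, h3] at h4
      exact h4.symm
    · intro a ha b hb hQa hQb hab
      obtain ⟨ha1, ha2⟩ := (mem_W1_iff Q h a).1 ha
      obtain ⟨hb1, hb2⟩ := (mem_W1_iff Q h b).1 hb
      have hab' : QuadraticMap.polar (⇑(Qp Q v v')) (⟨a, ha1⟩ : ↥(perp Q v v')) ⟨b, hb1⟩ = 0 := by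
        rw [polar_comp_subtype]; exact hab
      have h3 := h2 ⟨a, ha1⟩ ha2 ⟨b, hb1⟩ hb2 hQa hQb hab'
      have hmem : E (Qp Q v v') (⟨a, ha1⟩ : ↥(perp Q v v')) ⟨b, hb1⟩ ∈ T (Qp Q v v') :=
        root_mem_T (Qp Q v v') hQa hQb hab'
      have h4 := repE_sigma_E Q hQ hv hv' hvv' ρ ψ L hinv ⟨a, ha1⟩ ⟨b, hb1⟩ hQa hab' hmem
        (y : ↥(wsp Q ρ ψ v v' 0))
      rw [← repE_subrep (Qp Q v v') (sigmaRep Q ρ ψ v v' L hinv) N hN, h3] at h4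
      exact h4.symm
  · rintro ⟨h1, h2⟩
    constructor
    · intro w hw
      have hwW1 : ((w : ↥(perp Q v v')) : V) ∈ W1 Q v v' w0 w0' :=
        (mem_W1_iff Q h _).2 ⟨w.2, hw⟩
      have h3 := h1 _ hwW1
      have hw0w : QuadraticMap.polar (⇑(Qp Q v v')) (⟨w0, h.mem_perp.1⟩ : ↥(perp Q v v')) w = 0 :=
        ((mem_perp _ _ _).1 hw).1
      have hmem : E (Qp Q v v') (⟨w0, h.mem_perp.1⟩ : ↥(perp Q v v')) w ∈ T (Qp Q v v') :=
        rad_mem (Qp Q v v') hQW hdimW h.pb.qa ⟨w, hw⟩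
      have h4 := repE_sigma_E Q hQ hv hv' hvv' ρ ψ L hinv ⟨w0, h.mem_perp.1⟩ w h.pb.qa
        hw0w hmem (y : ↥(wsp Q ρ ψ v v' 0))
      apply Subtype.ext
      apply Subtype.ext
      rw [repE_subrep (Qp Q v v') (sigmaRep Q ρ ψ v v' L hinv) N hN, h4]
      exact h3
    · intro a ha b hb hQa hQb hab
      have haW1 : ((a : ↥(perp Q v v')) : V) ∈ W1 Q v v' w0 w0' := (mem_W1_iff Q h _).2 ⟨a.2, ha⟩
      have hbW1 : ((b : ↥(perp Q v v')) : V) ∈ W1 Q v v' w0 w0' := (mem_W1_iff Q h _).2 ⟨b.2, hb⟩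
      have hab' : QuadraticMap.polar (⇑Q) (a : V) (b : V) = 0 := by
        rw [← polar_comp_subtype]; exact hab
      have h3 := h2 _ haW1 _ hbW1 hQa hQb hab'
      have hmem : E (Qp Q v v') a b ∈ T (Qp Q v v') := root_mem_T (Qp Q v v') hQa hQb hab
      have h4 := repE_sigma_E Q hQ hv hv' hvv' ρ ψ L hinv a b hQa hab hmem
        (y : ↥(wsp Q ρ ψ v v' 0))
      apply Subtype.ext
      apply Subtype.ext
      rw [repE_subrep (Qp Q v v') (sigmaRep Q ρ ψ v v' L hinv) N hN, h4]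
      exact h3

end Cfsg.Agent.Lib.Helper48_OO2_IHGeo
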