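import Mathlib
import Cfsg.Agent.Lib.Helper95_OPDefs
import Cfsg.Agent.Lib.Helper95_OPBasic
import Cfsg.Agent.Lib.Helper81_JointEigen
import Cfsg.Agent.Lib.Helper81_AddCharDual

/-!
# S2345 package OP-WSDEC (architect helper95)

Simultaneous diagonalisation of the abelian radical `{E Q v w : w ∈ W}`, `W = perp Q v v'`: the representation
space is the internal direct sum of the weight spaces `wsp Q ρ ψ v v' u`, `u ∈ W`.
-/

set_option autoImplicit false

namespace Cfsg.Agent.Lib.Helper69_OP_WSDEC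

open Module Cfsg.Agent.Lib.Helper94_OrthSmall Cfsg.Agent.Lib.Helper44_QuadClass
  Cfsg.Agent.Lib.Helper14_OmegaSimple Cfsg.Agent.Lib.Helper38_MIODefs
  Cfsg.Agent.Lib.Helper95_OPDefs Cfsg.Agent.Lib.Helper95_OPBasic
  Cfsg.Agent.Lib.Helper20_MIO_NORM
  Cfsg.Agent.Lib.Helper81_JointEigen Cfsg.Agent.Lib.Helper81_AddCharDual

variable {F V : Type*} [Field F] [Fintype F] [AddCommGroup V] [Module F V] [FiniteDimensional F V]
  {X : Type*} [AddCommGroup X] [Module ℂ X] [FiniteDimensional ℂ X]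

/-! ## OP-WSDEC (L) -/
theorem wsp_isInternal (Q : QuadraticForm F V) (hQ : (QuadraticMap.polarBilin Q).Nondegenerate)
    (hdim : 5 ≤ finrank F V) {v v' : V} (hv : Q v = 0) (hv' : Q v' = 0)
    (hvv' : QuadraticMap.polar (⇑Q) v v' = 1) [DecidableEq ↥(perp Q v v')]
    (ρ : Representation ℂ ↥(T Q) X) (ψ : AddChar F ℂ) (hψ : ψ ≠ 1) :
    DirectSum.IsInternal (fun u : ↥(perp Q v v') => wsp Q ρ ψ v v' u) := by
  haveI : Finite V := Module.finite_of_finite F
  obtain ⟨p, hpchar⟩ := CharP.exists F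
  have hprime : p.Prime := CharP.char_is_prime F p
  have hpC : (p : ℂ) ≠ 0 := by exact_mod_cast hprime.ne_zero
  obtain ⟨A, hAdef⟩ : ∃ A : ↥(perp Q v v') → Module.End ℂ X,
      ∀ w, A w = repE Q ρ (E Q v (w : V)) := ⟨fun w => repE Q ρ (E Q v (w : V)), fun w => rfl⟩
  have hAadd : ∀ w w', A (w + w') = A w * A w' := by
    intro w w'
    rw [hAdef, hAdef, hAdef, ← repE_mul Q ρ (rad_mem Q hQ hdim hv w) (rad_mem Q hQ hdim hv w'),
      E_mul Q hv (polar_v_perp Q w) (polar_v_perp Q w')]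
    rfl
  have hA0 : A 0 = 1 := by
    rw [hAdef]
    show repE Q ρ (E Q v 0) = 1
    rw [E_zero_right Q hv, repE_one]
  have hAn : ∀ (w : ↥(perp Q v v')) (n : ℕ), A (n • w) = A w ^ n := by
    intro w n
    induction n with
    | zero => rw [zero_smul, hA0, pow_zero]
    | succ n ih => rw [succ_nsmul, hAadd, ih, pow_succ]
  have hA : ∀ w, A w ^ p = 1 := by
    intro w
    rw [← hAn]
    have h1 : p • w = 0 := by
      rw [← Nat.cast_smul_eq_nsmul F, CharP.cast_eq_zero, zero_smul]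
    rw [h1, hA0]
  have hcomm : ∀ w w', Commute (A w) (A w') := by
    intro w w'
    show A w * A w' = A w' * A w
    rw [← hAadd, ← hAadd, add_comm]
  -- weights are additive characters
  have hwt : ∀ χ : ↥(perp Q v v') → ℂ, jointEigenspace A χ ≠ ⊥ →
      χ 0 = 1 ∧ ∀ w w', χ (w + w') = χ w * χ w' := by
    intro χ hχ
    obtain ⟨x, hxmem, hxne⟩ := Submodule.exists_mem_ne_zero_of_ne_bot hχ
    have hx : ∀ w, A w x = χ w • x := (mem_jointEigenspace A χ x).mp hxmem
    constructor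
    · have h1 : χ 0 • x = (1 : ℂ) • x := by
        rw [← hx 0, hA0, one_smul]
        rfl
      exact smul_left_injective ℂ hxne h1
    · intro w w'
      have h1 : χ (w + w') • x = (χ w * χ w') • x := by
        rw [← hx (w + w'), hAadd, Module.End.mul_apply, hx w', map_smul, hx w, smul_smul,
          mul_comm]
      exact smul_left_injective ℂ hxne h1
  -- the pairing
  have hψ0 : (ψ : F → ℂ) 0 = 1 := AddChar.map_zero_eq_one ψ
  have hψadd : ∀ a b, (ψ : F → ℂ) (a + b) = ψ a * ψ b := fun a b => AddChar.map_add_eq_mul ψ a b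
  have hψne : ∃ a, (ψ : F → ℂ) a ≠ 1 := (AddChar.ne_one_iff).mp hψ
  have hnd := nondegenerate_perp hQ hv hv' hvv'
  have hP : ∀ y : ↥(perp Q v v'), y ≠ 0 → ∃ f : ↥(perp Q v v'), Bp Q v v' f y ≠ 0 := by
    intro y hy
    by_contra hcon
    push Not at hcon
    exact hy (hnd.2 y hcon)
  have hBp : ∀ f y : ↥(perp Q v v'),
      Bp Q v v' f y = QuadraticMap.polar (⇑Q) (y : V) (f : V) := by
    intro f y
    show QuadraticMap.polar (⇑(Qp Q v v')) f y = _
    rw [polar_comp_subtype, QuadraticMap.polar_comm]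
  obtain ⟨wt, hwtdef⟩ : ∃ wt : ↥(perp Q v v') → ↥(perp Q v v') → ℂ,
      ∀ u w, wt u w = ψ (QuadraticMap.polar (⇑Q) (u : V) (w : V)) :=
    ⟨fun u w => ψ (QuadraticMap.polar (⇑Q) (u : V) (w : V)), fun u w => rfl⟩
  have hwtinj : Function.Injective wt := by
    have h1 := pairing_injective (ψ : F → ℂ) hψ0 hψadd hψne (Bp Q v v') hP
    intro u u' huu'
    apply h1
    funext w
    have h2 := congrFun huu' w
    rw [hwtdef, hwtdef] at h2
    show (ψ : F → ℂ) (Bp Q v v' w u) = ψ (Bp Q v v' w u')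
    rw [hBp, hBp]
    exact h2
  have hwsp : ∀ u, wsp Q ρ ψ v v' u = jointEigenspace A (wt u) := by
    intro u
    ext x
    rw [mem_jointEigenspace, mem_wsp]
    constructor
    · intro h w
      rw [hAdef, hwtdef]
      exact h w
    · intro h w
      have h1 := h w
      rw [hAdef, hwtdef] at h1
      exact h1
  have hex : ∀ χ : ↥(perp Q v v') → ℂ, jointEigenspace A χ ≠ ⊥ → ∃ u, χ = wt u := by
    intro χ hχ
    obtain ⟨u, hu⟩ := exists_eq_pairing (ψ : F → ℂ) hψ0 hψadd hψne (Bp Q v v') hP le_rfl χ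
      (hwt χ hχ).1 (hwt χ hχ).2
    refine ⟨u, funext fun w => ?_⟩
    rw [hu w, hwtdef, hBp]
  rw [DirectSum.isInternal_submodule_iff_iSupIndep_and_iSup_eq_top]
  constructor
  · have h1 := (iSupIndep_jointEigenspace hpC A hA hcomm).comp hwtinj
    have h2 : (fun u : ↥(perp Q v v') => wsp Q ρ ψ v v' u) = jointEigenspace A ∘ wt :=
      funext hwsp
    rw [h2]
    exact h1
  · have htop := iSup_jointEigenspace hpC A hA hcomm
    rw [eq_top_iff, ← htop]
    refine iSup_le fun χ => ?_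
    by_cases h : jointEigenspace A χ = ⊥
    · rw [h]
      exact bot_le
    · obtain ⟨u, hu⟩ := hex χ h
      rw [hu, ← hwsp u]
      exact le_iSup (fun u : ↥(perp Q v v') => wsp Q ρ ψ v v' u) u

end Cfsg.Agent.Lib.Helper69_OP_WSDEC
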