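import Mathlib
import Cfsg.Agent.Lib.Helper95_OPDefs
import Cfsg.Agent.Lib.Helper95_OPBasic
import Cfsg.Agent.Lib.Helper48_OODefs
import Cfsg.Agent.Lib.Helper87_OO2Defs
import Cfsg.Agent.Lib.Helper87_OO2Defs2
import Cfsg.Agent.Lib.Helper85_OO2_ELT

/-!
helper73 — package OO2-STAB of helper87's wave 2 for S2344: the torus elements `h12 = hh Q v v' w0 w0' a`
and `h23 = hh Q w0 w0' w1 w1' a` preserve the spaces `Y`, `Y'`, `Ψ_2`, and `h23` is trivial on `Y`.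

General tools: `repE_conj` (conjugation of a Siegel element at the level of the representation),
`fixE_stable`, `fixL_stable`, `augL_stable` (an element of `T Q` which scales `u` and preserves `S` preserves
`fixE u S`, `fixL S`, `augL S M`), and the stability of `X0sp`, `Ysp`, `F2sp`, `Y2sp`, `Ypsp`, `Psisp` under an
element of `T Q` for which `v, v', w0, w0'` are eigenvectors (`Ysp_stable` … `Psisp_stable`).
-/

set_option autoImplicit false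
set_option linter.unusedSectionVars false
set_option linter.unusedVariables false

namespace Cfsg.Agent.Lib.Helper73_OO2_STAB

open Module Cfsg.Agent.Lib.Helper94_OrthSmall Cfsg.Agent.Lib.Helper44_QuadClass
  Cfsg.Agent.Lib.Helper14_OmegaSimple Cfsg.Agent.Lib.Helper38_MIODefs
  Cfsg.Agent.Lib.Helper95_OPDefs Cfsg.Agent.Lib.Helper95_OPBasic Cfsg.Agent.Lib.Helper48_OODefs
  Cfsg.Agent.Lib.Helper87_OO2Defs

section general

variable {F V : Type*} [Field F] [AddCommGroup V] [Module F V] {Q : QuadraticForm F V}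
  {X : Type*} [AddCommGroup X] [Module ℂ X]

/-- conjugation of a Siegel element, at the level of the representation -/
theorem repE_conj (ρ : Representation ℂ ↥(T Q) X) {g : V ≃ₗ[F] V} (hg : g ∈ T Q) {u z : V}
    (hu : Q u = 0) (huz : QuadraticMap.polar (⇑Q) u z = 0) (hE : E Q u z ∈ T Q) (x : X) :
    repE Q ρ (E Q (g u) (g z)) (repE Q ρ g x) = repE Q ρ g (repE Q ρ (E Q u z) x) := by
  have hgO : g ∈ oG (⇑Q) := T_le_oG Q hg
  have h1 := conj_E Q hgO hu huz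
  have hE' : E Q (g u) (g z) ∈ T Q := by
    rw [← h1]
    exact Subgroup.mul_mem _ (Subgroup.mul_mem _ hg hE) (Subgroup.inv_mem _ hg)
  have h2 : E Q (g u) (g z) * g = g * E Q u z := by
    rw [← h1]
    group
  rw [← Module.End.mul_apply, ← repE_mul Q ρ hE' hg, h2, repE_mul Q ρ hg hE, Module.End.mul_apply]

theorem apply_inv_self (g : V ≃ₗ[F] V) (w : V) : g (g⁻¹ w) = w :=
  LinearEquiv.apply_symm_apply g w

theorem inv_apply_self (g : V ≃ₗ[F] V) (w : V) : g⁻¹ (g w) = w :=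
  LinearEquiv.symm_apply_apply g w

/-- the inverse of an element scaling `u` -/
theorem inv_smul_of_smul {g : V ≃ₗ[F] V} {u : V} {c : F} (hc : c ≠ 0) (hgu : g u = c • u) :
    g⁻¹ u = c⁻¹ • u := by
  have h1 : g⁻¹ (c • u) = u := by rw [← hgu, inv_apply_self]
  rw [map_smul] at h1
  rw [← h1, smul_smul, inv_mul_cancel₀ hc, one_smul]
  rw [h1]

/-- an isometry for which `e`, `f` are eigenvectors preserves `perp Q e f` -/
theorem perp_stable {g : V ≃ₗ[F] V} (hgO : g ∈ oG (⇑Q)) {e f : V} {c d : F} (hc : c ≠ 0)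
    (hd : d ≠ 0) (he : g e = c • e) (hf : g f = d • f) {w : V} (hw : w ∈ perp Q e f) :
    g w ∈ perp Q e f := by
  rw [mem_perp] at hw ⊢
  constructor
  · have h1 : QuadraticMap.polar (⇑Q) (g e) (g w) = QuadraticMap.polar (⇑Q) e w := oG_polar Q hgO e w
    rw [he, QuadraticMap.polar_smul_left, hw.1, smul_eq_mul] at h1
    rcases mul_eq_zero.mp h1 with h | h
    · exact absurd h hc
    · exact h
  · have h1 : QuadraticMap.polar (⇑Q) (g f) (g w) = QuadraticMap.polar (⇑Q) f w := oG_polar Q hgO f w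
    rw [hf, QuadraticMap.polar_smul_left, hw.2, smul_eq_mul] at h1
    rcases mul_eq_zero.mp h1 with h | h
    · exact absurd h hd
    · exact h

theorem perp_stable_inv {g : V ≃ₗ[F] V} (hgO : g ∈ oG (⇑Q)) {e f : V} {c d : F} (hc : c ≠ 0)
    (hd : d ≠ 0) (he : g e = c • e) (hf : g f = d • f) {w : V} (hw : w ∈ perp Q e f) :
    g⁻¹ w ∈ perp Q e f :=
  perp_stable (Subgroup.inv_mem _ hgO) (inv_ne_zero hc) (inv_ne_zero hd) (inv_smul_of_smul hc he)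
    (inv_smul_of_smul hd hf) hw

/-- an element of `T Q` scaling `u` and preserving `S` preserves `fixE u S` -/
theorem fixE_stable [Fintype F] [FiniteDimensional F V] (hQ : (QuadraticMap.polarBilin Q).Nondegenerate)
    (hdim : 5 ≤ finrank F V) (ρ : Representation ℂ ↥(T Q) X) {g : V ≃ₗ[F] V} (hg : g ∈ T Q)
    {u : V} (hu : Q u = 0) {c : F} (hc : c ≠ 0) (hgu : g u = c • u) {S : Submodule F V}
    (hS : ∀ w ∈ S, QuadraticMap.polar (⇑Q) u w = 0) (hSg : ∀ w ∈ S, g⁻¹ w ∈ S) {x : X}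
    (hx : x ∈ fixE Q ρ u S) : repE Q ρ g x ∈ fixE Q ρ u S := by
  intro w hw
  have hz : c⁻¹ • g⁻¹ w ∈ S := S.smul_mem _ (hSg w hw)
  have huz : QuadraticMap.polar (⇑Q) u (c⁻¹ • g⁻¹ w) = 0 := hS _ hz
  have h1 := repE_conj ρ hg hu huz (E_mem_T Q hQ hdim hu huz) x
  have huw : QuadraticMap.polar (⇑Q) u (c⁻¹ • w) = 0 := hS _ (S.smul_mem _ hw)
  have h2 : E Q (g u) (g (c⁻¹ • g⁻¹ w)) = E Q u w := by
    rw [hgu, map_smul, apply_inv_self, E_smul_left Q hu huw, smul_smul, mul_inv_cancel₀ hc,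
      one_smul]
  rw [h2, hx _ hz] at h1
  exact h1

/-- an element of `T Q` preserving `S` preserves `fixL S` -/
theorem fixL_stable (ρ : Representation ℂ ↥(T Q) X) {g : V ≃ₗ[F] V} (hg : g ∈ T Q)
    {S : Submodule F V} (hSg : ∀ w ∈ S, g⁻¹ w ∈ S) {x : X} (hx : x ∈ fixL Q ρ S) :
    repE Q ρ g x ∈ fixL Q ρ S := by
  intro a ha b hb hQa hQb hab
  have hgO : g⁻¹ ∈ oG (⇑Q) := T_le_oG Q (Subgroup.inv_mem _ hg)
  have hQa' : Q (g⁻¹ a) = 0 := by rw [hgO a, hQa]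
  have hQb' : Q (g⁻¹ b) = 0 := by rw [hgO b, hQb]
  have hab' : QuadraticMap.polar (⇑Q) (g⁻¹ a) (g⁻¹ b) = 0 := by rw [oG_polar Q hgO, hab]
  have h1 := repE_conj ρ hg hQa' hab' (root_mem_T Q hQa' hQb' hab') x
  rw [apply_inv_self, apply_inv_self, hx _ (hSg a ha) _ (hSg b hb) hQa' hQb' hab'] at h1
  exact h1

/-- an element of `T Q` preserving `S` and `M` preserves `augL S M` -/
theorem augL_stable (ρ : Representation ℂ ↥(T Q) X) {g : V ≃ₗ[F] V} (hg : g ∈ T Q)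
    {S : Submodule F V} (hSg : ∀ w ∈ S, g w ∈ S) {M : Submodule ℂ X}
    (hM : ∀ m ∈ M, repE Q ρ g m ∈ M) {x : X} (hx : x ∈ augL Q ρ S M) :
    repE Q ρ g x ∈ augL Q ρ S M := by
  have hgO : g ∈ oG (⇑Q) := T_le_oG Q hg
  have hle : Submodule.map (repE Q ρ g) (augL Q ρ S M) ≤ augL Q ρ S M := by
    unfold augL
    rw [Submodule.map_span_le]
    rintro y ⟨a, ha, b, hb, hQa, hQb, hab, m, hm, rfl⟩
    apply Submodule.subset_span
    refine ⟨g a, hSg a ha, g b, hSg b hb, by rw [hgO a, hQa], by rw [hgO b, hQb],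
      by rw [oG_polar Q hgO, hab], repE Q ρ g m, hM m hm, ?_⟩
    rw [map_sub, repE_conj ρ hg hQa hab (root_mem_T Q hQa hQb hab) m]
  exact hle (Submodule.mem_map_of_mem hx)

/-- products and inverses of elements fixing a vector -/
theorem repE_mul_fix (ρ : Representation ℂ ↥(T Q) X) {g h : V ≃ₗ[F] V} (hg : g ∈ T Q)
    (hh' : h ∈ T Q) {x : X} (hgx : repE Q ρ g x = x) (hhx : repE Q ρ h x = x) :
    repE Q ρ (g * h) x = x := by
  rw [repE_mul Q ρ hg hh', Module.End.mul_apply, hhx, hgx]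

theorem repE_inv_fix (ρ : Representation ℂ ↥(T Q) X) {g : V ≃ₗ[F] V} (hg : g ∈ T Q) {x : X}
    (hgx : repE Q ρ g x = x) : repE Q ρ g⁻¹ x = x := by
  have h1 : repE Q ρ (g⁻¹ * g) x = x := by
    rw [inv_mul_cancel, repE_one]
    rfl
  rw [repE_mul Q ρ (Subgroup.inv_mem _ hg) hg, Module.End.mul_apply, hgx] at h1
  exact h1

end general

section torus

variable {F V : Type*} [Field F] [Fintype F] [AddCommGroup V] [Module F V] [FiniteDimensional F V]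
  {X : Type*} [AddCommGroup X] [Module ℂ X] [FiniteDimensional ℂ X]

/-- `u` is an eigenvector of `g` -/
def Eig (g : V ≃ₗ[F] V) (u : V) : Prop := ∃ c : F, c ≠ 0 ∧ g u = c • u

variable {Q : QuadraticForm F V} {g : V ≃ₗ[F] V} {v v' w0 w0' : V}

theorem perp_stable' (hgO : g ∈ oG (⇑Q)) (h1 : Eig g v) (h2 : Eig g v') {w : V}
    (hw : w ∈ perp Q v v') : g w ∈ perp Q v v' := by
  obtain ⟨c, hc, hv⟩ := h1
  obtain ⟨d, hd, hv'⟩ := h2
  exact perp_stable hgO hc hd hv hv' hw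

theorem perp_stable_inv' (hgO : g ∈ oG (⇑Q)) (h1 : Eig g v) (h2 : Eig g v') {w : V}
    (hw : w ∈ perp Q v v') : g⁻¹ w ∈ perp Q v v' := by
  obtain ⟨c, hc, hv⟩ := h1
  obtain ⟨d, hd, hv'⟩ := h2
  exact perp_stable_inv hgO hc hd hv hv' hw

theorem W1_stable (hgO : g ∈ oG (⇑Q)) (h1 : Eig g v) (h2 : Eig g v') (h3 : Eig g w0)
    (h4 : Eig g w0') {w : V} (hw : w ∈ W1 Q v v' w0 w0') : g w ∈ W1 Q v v' w0 w0' :=
  ⟨perp_stable' hgO h1 h2 hw.1, perp_stable' hgO h3 h4 hw.2⟩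

theorem W1_stable_inv (hgO : g ∈ oG (⇑Q)) (h1 : Eig g v) (h2 : Eig g v') (h3 : Eig g w0)
    (h4 : Eig g w0') {w : V} (hw : w ∈ W1 Q v v' w0 w0') : g⁻¹ w ∈ W1 Q v v' w0 w0' :=
  ⟨perp_stable_inv' hgO h1 h2 hw.1, perp_stable_inv' hgO h3 h4 hw.2⟩

theorem X0sp_stable (hQ : (QuadraticMap.polarBilin Q).Nondegenerate) (hdim : 5 ≤ finrank F V)
    (ρ : Representation ℂ ↥(T Q) X) (hg : g ∈ T Q) (hv : Q v = 0) (h1 : Eig g v) (h2 : Eig g v')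
    {x : X} (hx : x ∈ X0sp Q ρ v v') : repE Q ρ g x ∈ X0sp Q ρ v v' := by
  obtain ⟨c, hc, hgv⟩ := h1
  exact fixE_stable (S := perp Q v v') hQ hdim ρ hg hv hc hgv
    (fun w hw => ((mem_perp Q v v').1 hw).1)
    (fun w hw => perp_stable_inv' (T_le_oG Q hg) ⟨c, hc, hgv⟩ h2 hw) hx

theorem Ysp_stable (hQ : (QuadraticMap.polarBilin Q).Nondegenerate) (hdim : 5 ≤ finrank F V)
    (ρ : Representation ℂ ↥(T Q) X) (hg : g ∈ T Q) (hv : Q v = 0) (h1 : Eig g v) (h2 : Eig g v')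
    {x : X} (hx : x ∈ Ysp Q ρ v v') : repE Q ρ g x ∈ Ysp Q ρ v v' :=
  ⟨X0sp_stable hQ hdim ρ hg hv h1 h2 hx.1,
    fixL_stable ρ hg (fun w hw => perp_stable_inv' (T_le_oG Q hg) h1 h2 hw) hx.2⟩

theorem F2sp_stable (hQ : (QuadraticMap.polarBilin Q).Nondegenerate) (hdim : 5 ≤ finrank F V)
    (ρ : Representation ℂ ↥(T Q) X) (hg : g ∈ T Q) (hv : Q v = 0) (hw0 : Q w0 = 0)
    (h1 : Eig g v) (h2 : Eig g v') (h3 : Eig g w0) (h4 : Eig g w0')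
    {x : X} (hx : x ∈ F2sp Q ρ v v' w0 w0') : repE Q ρ g x ∈ F2sp Q ρ v v' w0 w0' := by
  refine ⟨X0sp_stable hQ hdim ρ hg hv h1 h2 hx.1, ?_⟩
  obtain ⟨c, hc, hgw0⟩ := h3
  exact fixE_stable (S := W1 Q v v' w0 w0') hQ hdim ρ hg hw0 hc hgw0
    (fun w hw => ((mem_perp Q w0 w0').1 (Submodule.mem_inf.mp hw).2).1)
    (fun w hw => W1_stable_inv (T_le_oG Q hg) h1 h2 ⟨c, hc, hgw0⟩ h4 hw) hx.2

theorem Y2sp_stable (hQ : (QuadraticMap.polarBilin Q).Nondegenerate) (hdim : 5 ≤ finrank F V)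
    (ρ : Representation ℂ ↥(T Q) X) (hg : g ∈ T Q) (hv : Q v = 0) (hw0 : Q w0 = 0)
    (h1 : Eig g v) (h2 : Eig g v') (h3 : Eig g w0) (h4 : Eig g w0')
    {x : X} (hx : x ∈ Y2sp Q ρ v v' w0 w0') : repE Q ρ g x ∈ Y2sp Q ρ v v' w0 w0' :=
  ⟨F2sp_stable hQ hdim ρ hg hv hw0 h1 h2 h3 h4 hx.1,
    fixL_stable ρ hg (fun w hw => W1_stable_inv (T_le_oG Q hg) h1 h2 h3 h4 hw) hx.2⟩

theorem Ypsp_stable (hQ : (QuadraticMap.polarBilin Q).Nondegenerate) (hdim : 5 ≤ finrank F V)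
    (ρ : Representation ℂ ↥(T Q) X) (hg : g ∈ T Q) (hv : Q v = 0) (hw0 : Q w0 = 0)
    (h1 : Eig g v) (h2 : Eig g v') (h3 : Eig g w0) (h4 : Eig g w0')
    {x : X} (hx : x ∈ Ypsp Q ρ v v' w0 w0') : repE Q ρ g x ∈ Ypsp Q ρ v v' w0 w0' :=
  ⟨Y2sp_stable hQ hdim ρ hg hv hw0 h1 h2 h3 h4 hx.1,
    augL_stable ρ hg (fun w hw => perp_stable' (T_le_oG Q hg) h1 h2 hw)
      (fun m hm => X0sp_stable hQ hdim ρ hg hv h1 h2 hm) hx.2⟩

theorem Psisp_stable (hQ : (QuadraticMap.polarBilin Q).Nondegenerate) (hdim : 5 ≤ finrank F V)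
    (ρ : Representation ℂ ↥(T Q) X) (hg : g ∈ T Q) (hv : Q v = 0) (hw0 : Q w0 = 0)
    (h1 : Eig g v) (h2 : Eig g v') (h3 : Eig g w0) (h4 : Eig g w0')
    {x : X} (hx : x ∈ Psisp Q ρ v v' w0 w0') : repE Q ρ g x ∈ Psisp Q ρ v v' w0 w0' :=
  ⟨F2sp_stable hQ hdim ρ hg hv hw0 h1 h2 h3 h4 hx.1,
    augL_stable ρ hg (fun w hw => W1_stable (T_le_oG Q hg) h1 h2 h3 h4 hw)
      (fun m hm => F2sp_stable hQ hdim ρ hg hv hw0 h1 h2 h3 h4 hm) hx.2⟩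

/-! ### the eigenvectors of the torus elements -/

open Cfsg.Agent.Lib.Helper85_OO2_ELT

theorem eig_h12 (h : HQuad Q v v' w0 w0') {a : F} (ha : a ≠ 0) :
    Eig (hh Q v v' w0 w0' a) v ∧ Eig (hh Q v v' w0 w0' a) v' ∧ Eig (hh Q v v' w0 w0' a) w0 ∧
      Eig (hh Q v v' w0 w0' a) w0' :=
  ⟨⟨a, ha, hh_a h ha⟩, ⟨a⁻¹, inv_ne_zero ha, hh_a' h ha⟩, ⟨a⁻¹, inv_ne_zero ha, hh_b h ha⟩,
    ⟨a, ha, hh_b' h ha⟩⟩

theorem eig_h23 {w1 w1' : V} (h : HQuad Q v v' w0 w0') (h1 : HQuad Q v v' w1 w1')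
    (h2 : HQuad Q w0 w0' w1 w1') {a : F} (ha : a ≠ 0) :
    Eig (hh Q w0 w0' w1 w1' a) v ∧ Eig (hh Q w0 w0' w1 w1' a) v' ∧
      Eig (hh Q w0 w0' w1 w1' a) w0 ∧ Eig (hh Q w0 w0' w1 w1' a) w0' := by
  refine ⟨⟨1, one_ne_zero, ?_⟩, ⟨1, one_ne_zero, ?_⟩, ⟨a, ha, hh_a h2 ha⟩,
    ⟨a⁻¹, inv_ne_zero ha, hh_a' h2 ha⟩⟩
  · rw [one_smul]
    exact hh_perp h2 a h.ab h.ab' h1.ab h1.ab'
  · rw [one_smul]
    exact hh_perp h2 a h.a'b h.a'b' h1.a'b h1.a'b'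

end torus

section partE

variable {F V : Type*} [Field F] [Fintype F] [AddCommGroup V] [Module F V] [FiniteDimensional F V]
  {X : Type*} [AddCommGroup X] [Module ℂ X] [FiniteDimensional ℂ X]

/-! ## OO2-STAB (M/L): the torus elements preserve the spaces -/
theorem Ysp_h12 (Q : QuadraticForm F V) (hQ : (QuadraticMap.polarBilin Q).Nondegenerate)
    (hdim : 5 ≤ finrank F V) {v v' w0 w0' : V} (h : HQuad Q v v' w0 w0')
    (ρ : Representation ℂ ↥(T Q) X) (a : F) (ha : a ≠ 0) (x : X) (hx : x ∈ Ysp Q ρ v v') :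
    repE Q ρ (hh Q v v' w0 w0' a) x ∈ Ysp Q ρ v v' := by
  obtain ⟨e1, e2, -, -⟩ := eig_h12 h ha
  exact Ysp_stable hQ hdim ρ (hh_mem_T h a) h.pa.qa e1 e2 hx

theorem Ysp_h23 (Q : QuadraticForm F V) {v v' w0 w0' w1 w1' : V} (h : HQuad Q v v' w0 w0')
    (h1 : HQuad Q v v' w1 w1') (h2 : HQuad Q w0 w0' w1 w1')
    (ρ : Representation ℂ ↥(T Q) X) (a : F) (ha : a ≠ 0) (x : X) (hx : x ∈ Ysp Q ρ v v') :
    repE Q ρ (hh Q w0 w0' w1 w1' a) x = x := by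
  have hxL : ∀ a ∈ perp Q v v', ∀ b ∈ perp Q v v', Q a = 0 → Q b = 0 →
      QuadraticMap.polar (⇑Q) a b = 0 → repE Q ρ (E Q a b) x = x :=
    (mem_fixL Q ρ (perp Q v v') x).1 (Submodule.mem_inf.mp hx).2
  have hw0 : w0 ∈ perp Q v v' := (mem_perp Q v v').2 ⟨h.ab, h.a'b⟩
  have hw0' : w0' ∈ perp Q v v' := (mem_perp Q v v').2 ⟨h.ab', h.a'b'⟩
  have hw1 : w1 ∈ perp Q v v' := (mem_perp Q v v').2 ⟨h1.ab, h1.a'b⟩
  have hw1' : w1' ∈ perp Q v v' := (mem_perp Q v v').2 ⟨h1.ab', h1.a'b'⟩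
  -- the two families of root elements fix `x`
  have hA : ∀ s : F, repE Q ρ (xr Q w0 w1' s) x = x := by
    intro s
    unfold xr
    apply hxL w0 hw0 (s • w1') ((perp Q v v').smul_mem s hw1') h2.pa.qa
    · rw [hQs, h2.pb.qa', mul_zero]
    · rw [QuadraticMap.polar_smul_right, h2.ab', smul_zero]
  have hB : ∀ s : F, repE Q ρ (xr Q w1 w0' s) x = x := by
    intro s
    unfold xr
    apply hxL w1 hw1 (s • w0') ((perp Q v v').smul_mem s hw0') h2.pb.qa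
    · rw [hQs, h2.pa.qa', mul_zero]
    · rw [QuadraticMap.polar_smul_right, QuadraticMap.polar_comm, h2.a'b, smul_zero]
  have hAT : ∀ s : F, xr Q w0 w1' s ∈ T Q := fun s => xr_mem_T h2.pa.qa h2.pb.qa' h2.ab' s
  have hBT : ∀ s : F, xr Q w1 w0' s ∈ T Q := fun s =>
    xr_mem_T h2.pb.qa h2.pa.qa' (by rw [QuadraticMap.polar_comm]; exact h2.a'b) s
  have hN : ∀ t : F, repE Q ρ (nw Q w0 w0' w1 w1' t) x = x := by
    intro t
    unfold nw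
    exact repE_mul_fix ρ (Subgroup.mul_mem _ (hAT t) (hBT _)) (hAT t)
      (repE_mul_fix ρ (hAT t) (hBT _) (hA t) (hB _)) (hA t)
  unfold hh
  exact repE_mul_fix ρ (nw_mem_T h2 a) (Subgroup.inv_mem _ (nw_mem_T h2 1)) (hN a)
    (repE_inv_fix ρ (nw_mem_T h2 1) (hN 1))

theorem Ypsp_h12 (Q : QuadraticForm F V) (hQ : (QuadraticMap.polarBilin Q).Nondegenerate)
    (hdim : 5 ≤ finrank F V) {v v' w0 w0' : V} (h : HQuad Q v v' w0 w0')
    (ρ : Representation ℂ ↥(T Q) X) (a : F) (ha : a ≠ 0) (x : X)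
    (hx : x ∈ Ypsp Q ρ v v' w0 w0') :
    repE Q ρ (hh Q v v' w0 w0' a) x ∈ Ypsp Q ρ v v' w0 w0' := by
  obtain ⟨e1, e2, e3, e4⟩ := eig_h12 h ha
  exact Ypsp_stable hQ hdim ρ (hh_mem_T h a) h.pa.qa h.pb.qa e1 e2 e3 e4 hx

theorem Ypsp_h23 (Q : QuadraticForm F V) (hQ : (QuadraticMap.polarBilin Q).Nondegenerate)
    (hdim : 5 ≤ finrank F V) {v v' w0 w0' w1 w1' : V} (h : HQuad Q v v' w0 w0')
    (h1 : HQuad Q v v' w1 w1') (h2 : HQuad Q w0 w0' w1 w1')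
    (ρ : Representation ℂ ↥(T Q) X) (a : F) (ha : a ≠ 0) (x : X)
    (hx : x ∈ Ypsp Q ρ v v' w0 w0') :
    repE Q ρ (hh Q w0 w0' w1 w1' a) x ∈ Ypsp Q ρ v v' w0 w0' := by
  obtain ⟨e1, e2, e3, e4⟩ := eig_h23 h h1 h2 ha
  exact Ypsp_stable hQ hdim ρ (hh_mem_T h2 a) h.pa.qa h.pb.qa e1 e2 e3 e4 hx

theorem Psisp_h12 (Q : QuadraticForm F V) (hQ : (QuadraticMap.polarBilin Q).Nondegenerate)
    (hdim : 5 ≤ finrank F V) {v v' w0 w0' : V} (h : HQuad Q v v' w0 w0')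
    (ρ : Representation ℂ ↥(T Q) X) (a : F) (ha : a ≠ 0) (x : X)
    (hx : x ∈ Psisp Q ρ v v' w0 w0') :
    repE Q ρ (hh Q v v' w0 w0' a) x ∈ Psisp Q ρ v v' w0 w0' := by
  obtain ⟨e1, e2, e3, e4⟩ := eig_h12 h ha
  exact Psisp_stable hQ hdim ρ (hh_mem_T h a) h.pa.qa h.pb.qa e1 e2 e3 e4 hx

theorem Psisp_h23 (Q : QuadraticForm F V) (hQ : (QuadraticMap.polarBilin Q).Nondegenerate)
    (hdim : 5 ≤ finrank F V) {v v' w0 w0' w1 w1' : V} (h : HQuad Q v v' w0 w0')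
    (h1 : HQuad Q v v' w1 w1') (h2 : HQuad Q w0 w0' w1 w1')
    (ρ : Representation ℂ ↥(T Q) X) (a : F) (ha : a ≠ 0) (x : X)
    (hx : x ∈ Psisp Q ρ v v' w0 w0') :
    repE Q ρ (hh Q w0 w0' w1 w1' a) x ∈ Psisp Q ρ v v' w0 w0' := by
  obtain ⟨e1, e2, e3, e4⟩ := eig_h23 h h1 h2 ha
  exact Psisp_stable hQ hdim ρ (hh_mem_T h2 a) h.pa.qa h.pb.qa e1 e2 e3 e4 hx

end partE

end Cfsg.Agent.Lib.Helper73_OO2_STAB
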