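import Mathlib
import Cfsg.Agent.Lib.Helper95_OPDefs
import Cfsg.Agent.Lib.Helper95_OPBasic
import Cfsg.Agent.Lib.Helper48_OODefs
import Cfsg.Agent.Lib.Helper87_OO2Defs
import Cfsg.Agent.Lib.Helper87_OO2Defs2
import Cfsg.Agent.Lib.Helper87_OO2Defs3
import Cfsg.Agent.Lib.Helper81_JointEigen
import Cfsg.Agent.Lib.Helper81_AddCharDual
import Cfsg.Agent.Lib.Helper73_OO2_STAB
import Cfsg.Agent.Lib.Helper73_OP_EXT
import Cfsg.Agent.Lib.Helper48_OOThin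
import Cfsg.Agent.Lib.Helper48_OO2_IHGeo
import Cfsg.Agent.Lib.Helper69_OP_WSDEC
import Cfsg.Agent.Lib.Helper43_OO2_WSP2

set_option autoImplicit false

/-!
# S2344 wave 3, package OO2-X0CARD (cutter helper87): `finrank X^R = finrank F_2 + (q^(2(n-2)) - 1)`.
-/

namespace Cfsg.Agent.Lib.Helper46_OO2_X0CARD

open Module Cfsg.Agent.Lib.Helper94_OrthSmall Cfsg.Agent.Lib.Helper44_QuadClass
  Cfsg.Agent.Lib.Helper14_OmegaSimple Cfsg.Agent.Lib.Helper38_MIODefs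
  Cfsg.Agent.Lib.Helper95_OPDefs Cfsg.Agent.Lib.Helper95_OPBasic Cfsg.Agent.Lib.Helper48_OODefs
  Cfsg.Agent.Lib.Helper87_OO2Defs
  Cfsg.Agent.Lib.Helper81_JointEigen Cfsg.Agent.Lib.Helper81_AddCharDual

section general

variable {k U : Type*} [Field k] [AddCommGroup U] [Module k U]

/-- the dimension of the join of an independent finite family is the sum of the dimensions. -/
theorem finrank_iSup_of_indep [FiniteDimensional k U] {ι : Type*} [Fintype ι]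
    [DecidableEq ι] (p : ι → Submodule k U) (h : iSupIndep p) :
    finrank k ↥(⨆ i, p i) = ∑ i, finrank k (p i) := by
  have hinj : Function.Injective (DirectSum.coeLinearMap p) :=
    (iSupIndep_iff_dfinsupp_lsum_injective p).1 h
  rw [← DirectSum.range_coeLinearMap, LinearMap.finrank_range_of_inj hinj,
    Module.finrank_directSum]

end general

variable {F V : Type*} [Field F] [Fintype F] [AddCommGroup V] [Module F V] [FiniteDimensional F V]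
  {X : Type*} [AddCommGroup X] [Module ℂ X] [FiniteDimensional ℂ X]

/-- membership facts for `W_1`. -/
theorem W1_polar (Q : QuadraticForm F V) {v v' w0 w0' w : V} (hw : w ∈ W1 Q v v' w0 w0') :
    QuadraticMap.polar (⇑Q) v w = 0 ∧ QuadraticMap.polar (⇑Q) v' w = 0 ∧
      QuadraticMap.polar (⇑Q) w0 w = 0 ∧ QuadraticMap.polar (⇑Q) w0' w = 0 := by
  have h1 := (mem_perp Q v v').1 (Submodule.mem_inf.1 hw).1
  have h2 := (mem_perp Q w0 w0').1 (Submodule.mem_inf.1 hw).2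
  exact ⟨h1.1, h1.2, h2.1, h2.2⟩

/-- the polar form is non-degenerate on `W_1`. -/
theorem W1_nondeg (Q : QuadraticForm F V) (hQ : (QuadraticMap.polarBilin Q).Nondegenerate)
    {v v' w0 w0' : V} (h : HQuad Q v v' w0 w0') (y : V) (hy : y ∈ W1 Q v v' w0 w0') (hy0 : y ≠ 0) :
    ∃ u ∈ W1 Q v v' w0 w0', QuadraticMap.polar (⇑Q) u y ≠ 0 := by
  obtain ⟨y1, y2, y3, y4⟩ := W1_polar Q hy
  have hex : ∃ u : V, QuadraticMap.polar (⇑Q) u y ≠ 0 := by
    by_contra hcon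
    push Not at hcon
    apply hy0
    apply hQ.2
    intro u
    rw [QuadraticMap.polarBilin_apply_apply]
    exact hcon u
  obtain ⟨u, hu⟩ := hex
  have hv'v : QuadraticMap.polar (⇑Q) v' v = 1 := by rw [QuadraticMap.polar_comm]; exact h.pa.aa'
  have hw0'w0 : QuadraticMap.polar (⇑Q) w0' w0 = 1 := by
    rw [QuadraticMap.polar_comm]; exact h.pb.aa'
  have hvv : QuadraticMap.polar (⇑Q) v v = 0 := by rw [polar_self', h.pa.qa, mul_zero]
  have hv'v' : QuadraticMap.polar (⇑Q) v' v' = 0 := by rw [polar_self', h.pa.qa', mul_zero]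
  have hw0w0 : QuadraticMap.polar (⇑Q) w0 w0 = 0 := by rw [polar_self', h.pb.qa, mul_zero]
  have hw0'w0' : QuadraticMap.polar (⇑Q) w0' w0' = 0 := by rw [polar_self', h.pb.qa', mul_zero]
  have c1 : QuadraticMap.polar (⇑Q) w0 v = 0 := by rw [QuadraticMap.polar_comm]; exact h.ab
  have c2 : QuadraticMap.polar (⇑Q) w0' v = 0 := by rw [QuadraticMap.polar_comm]; exact h.ab'
  have c3 : QuadraticMap.polar (⇑Q) w0 v' = 0 := by rw [QuadraticMap.polar_comm]; exact h.a'b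
  have c4 : QuadraticMap.polar (⇑Q) w0' v' = 0 := by rw [QuadraticMap.polar_comm]; exact h.a'b'
  refine ⟨u - QuadraticMap.polar (⇑Q) v' u • v - QuadraticMap.polar (⇑Q) v u • v'
    - QuadraticMap.polar (⇑Q) w0' u • w0 - QuadraticMap.polar (⇑Q) w0 u • w0', ?_, ?_⟩
  · refine Submodule.mem_inf.2 ⟨(mem_perp Q v v').2 ⟨?_, ?_⟩, (mem_perp Q w0 w0').2 ⟨?_, ?_⟩⟩
    · simp only [QuadraticMap.polar_sub_right, QuadraticMap.polar_smul_right, hvv, h.pa.aa', h.ab,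
        h.ab', smul_eq_mul, mul_zero, mul_one, sub_zero, sub_self]
    · simp only [QuadraticMap.polar_sub_right, QuadraticMap.polar_smul_right, hv'v, hv'v', h.a'b,
        h.a'b', smul_eq_mul, mul_zero, mul_one, sub_zero, sub_self]
    · simp only [QuadraticMap.polar_sub_right, QuadraticMap.polar_smul_right, c1, c3, hw0w0,
        h.pb.aa', smul_eq_mul, mul_zero, mul_one, sub_zero, sub_self]
    · simp only [QuadraticMap.polar_sub_right, QuadraticMap.polar_smul_right, c2, c4, hw0'w0,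
        hw0'w0', smul_eq_mul, mul_zero, mul_one, sub_zero, sub_self]
  · simp only [QuadraticMap.polar_sub_left, QuadraticMap.polar_smul_left, y1, y2, y3, y4,
      smul_eq_mul, mul_zero, sub_zero]
    exact hu

/-- the level-2 weight spaces are independent. -/
theorem indep_wsp2 (Q : QuadraticForm F V) (hQ : (QuadraticMap.polarBilin Q).Nondegenerate)
    (hdim : 5 ≤ finrank F V) {v v' w0 w0' : V} (h : HQuad Q v v' w0 w0')
    (ρ : Representation ℂ ↥(T Q) X) (ψ : AddChar F ℂ) (hψ : ψ ≠ 1) :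
    iSupIndep (fun z : ↥(W1 Q v v' w0 w0') => wsp2 Q ρ ψ v v' w0 w0' (z : V)) := by
  haveI : Finite V := Module.finite_of_finite F
  obtain ⟨p, hpchar⟩ := CharP.exists F
  have hprime : p.Prime := CharP.char_is_prime F p
  have hpC : (p : ℂ) ≠ 0 := by exact_mod_cast hprime.ne_zero
  have hw0 : Q w0 = 0 := h.pb.qa
  have hpol : ∀ w : ↥(W1 Q v v' w0 w0'), QuadraticMap.polar (⇑Q) w0 (w : V) = 0 :=
    fun w => (W1_polar Q w.2).2.2.1
  have hmemT : ∀ w : ↥(W1 Q v v' w0 w0'), E Q w0 (w : V) ∈ T Q :=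
    fun w => E_mem_T Q hQ hdim hw0 (hpol w)
  obtain ⟨A, hAdef⟩ : ∃ A : ↥(W1 Q v v' w0 w0') → Module.End ℂ X,
      ∀ w, A w = repE Q ρ (E Q w0 (w : V)) := ⟨fun w => repE Q ρ (E Q w0 (w : V)), fun w => rfl⟩
  have hAadd : ∀ w w', A (w + w') = A w * A w' := by
    intro w w'
    rw [hAdef, hAdef, hAdef, ← repE_mul Q ρ (hmemT w) (hmemT w'),
      E_mul Q hw0 (hpol w) (hpol w')]
    rfl
  have hA0 : A 0 = 1 := by
    rw [hAdef]
    show repE Q ρ (E Q w0 0) = 1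
    rw [E_zero_right Q hw0, repE_one]
  have hAn : ∀ (w : ↥(W1 Q v v' w0 w0')) (n : ℕ), A (n • w) = A w ^ n := by
    intro w n
    induction n with
    | zero => rw [zero_smul, hA0, pow_zero]
    | succ n ih => rw [succ_nsmul, hAadd, ih, pow_succ]
  have hA : ∀ w, A w ^ p = 1 := by
    intro w
    rw [← hAn]
    have h1 : p • w = 0 := by
      rw [← Nat.cast_smul_eq_nsmul F, CharP.cast_eq_zero, zero_smul]
    rw [h1, hA0]
  have hcomm : ∀ w w', Commute (A w) (A w') := by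
    intro w w'
    show A w * A w' = A w' * A w
    rw [← hAadd, ← hAadd, add_comm]
  -- the pairing
  have hψ0 : (ψ : F → ℂ) 0 = 1 := AddChar.map_zero_eq_one ψ
  have hψadd : ∀ a b, (ψ : F → ℂ) (a + b) = ψ a * ψ b := fun a b => AddChar.map_add_eq_mul ψ a b
  have hψne : ∃ a, (ψ : F → ℂ) a ≠ 1 := (AddChar.ne_one_iff).mp hψ
  obtain ⟨P, hPdef⟩ : ∃ P : ↥(W1 Q v v' w0 w0') →ₗ[F] ↥(W1 Q v v' w0 w0') →ₗ[F] F,
      ∀ f y, P f y = QuadraticMap.polar (⇑Q) (y : V) (f : V) := by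
    refine ⟨QuadraticMap.polarBilin (Q.comp (W1 Q v v' w0 w0').subtype), fun f y => ?_⟩
    rw [QuadraticMap.polarBilin_apply_apply, polar_comp_subtype, QuadraticMap.polar_comm]
  have hP : ∀ y : ↥(W1 Q v v' w0 w0'), y ≠ 0 → ∃ f : ↥(W1 Q v v' w0 w0'), P f y ≠ 0 := by
    intro y hy
    obtain ⟨u, hu, hne⟩ := W1_nondeg Q hQ h (y : V) y.2 (fun h0 => hy (Subtype.ext h0))
    refine ⟨⟨u, hu⟩, ?_⟩
    rw [hPdef, QuadraticMap.polar_comm]
    exact hne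
  obtain ⟨wt, hwtdef⟩ : ∃ wt : ↥(W1 Q v v' w0 w0') → ↥(W1 Q v v' w0 w0') → ℂ,
      ∀ u w, wt u w = ψ (QuadraticMap.polar (⇑Q) (u : V) (w : V)) :=
    ⟨fun u w => ψ (QuadraticMap.polar (⇑Q) (u : V) (w : V)), fun u w => rfl⟩
  have hwtinj : Function.Injective wt := by
    have h1 := pairing_injective (ψ : F → ℂ) hψ0 hψadd hψne P hP
    intro u u' huu'
    apply h1
    funext w
    have h2 := congrFun huu' w
    rw [hwtdef, hwtdef] at h2
    show (ψ : F → ℂ) (P w u) = ψ (P w u')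
    rw [hPdef, hPdef]
    exact h2
  have hle : ∀ z : ↥(W1 Q v v' w0 w0'),
      wsp2 Q ρ ψ v v' w0 w0' (z : V) ≤ (jointEigenspace A ∘ wt) z := by
    intro z x hx
    rw [Function.comp_apply, mem_jointEigenspace]
    intro w
    rw [hAdef, hwtdef]
    exact (Submodule.mem_inf.1 hx).2 (w : V) w.2
  exact ((iSupIndep_jointEigenspace hpC A hA hcomm).comp hwtinj).mono hle

/-- the number of non-zero singular vectors of `W_1`. -/
theorem card_sing_W1 (Q : QuadraticForm F V) (n : ℕ) (hn : 3 ≤ n) (hP : IsOddT Q n)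
    {v v' w0 w0' : V} (h : HQuad Q v v' w0 w0') :
    Nat.card {z : ↥(W1 Q v v' w0 w0') // z ≠ 0 ∧ Q (z : V) = 0} =
      Fintype.card F ^ (2 * (n - 2)) - 1 := by
  have hP' := isOddT_perp Q n (by omega) hP h.pa.qa h.pa.qa' h.pa.aa'
  obtain ⟨hw0m, hw0'm⟩ := h.mem_perp
  have ha : Qp Q v v' ⟨w0, hw0m⟩ = 0 := h.pb.qa
  have ha' : Qp Q v v' ⟨w0', hw0'm⟩ = 0 := h.pb.qa'
  have haa' : QuadraticMap.polar (⇑(Qp Q v v')) ⟨w0, hw0m⟩ ⟨w0', hw0'm⟩ = 1 := by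
    rw [polar_comp_subtype]; exact h.pb.aa'
  have hc := card_sing_perp (Qp Q v v') (n - 1) (by omega) hP' ha ha' haa'
  have e2 : n - 1 - 1 = n - 2 := by omega
  rw [e2] at hc
  rw [← hc]
  refine Nat.card_congr ?_
  refine
    { toFun := fun z => ⟨⟨⟨(z.1 : V), (Submodule.mem_inf.1 z.1.2).1⟩, ?_⟩, ?_, ?_⟩
      invFun := fun x => ⟨⟨((x.1 : ↥(perp Q v v')) : V), ?_⟩, ?_, ?_⟩
      left_inv := fun z => rfl
      right_inv := fun x => rfl }
  · rw [mem_perp, polar_comp_subtype, polar_comp_subtype]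
    exact (mem_perp Q w0 w0').1 (Submodule.mem_inf.1 z.1.2).2
  · intro h0
    apply z.2.1
    apply Subtype.ext
    exact congrArg (fun y : ↥(perp (Qp Q v v') ⟨w0, hw0m⟩ ⟨w0', hw0'm⟩) =>
      ((y : ↥(perp Q v v')) : V)) h0
  · exact z.2.2
  · refine Submodule.mem_inf.2 ⟨(x.1 : ↥(perp Q v v')).2, ?_⟩
    have := (mem_perp (Qp Q v v') ⟨w0, hw0m⟩ ⟨w0', hw0'm⟩).1 x.1.2
    rw [polar_comp_subtype, polar_comp_subtype] at this
    exact (mem_perp Q w0 w0').2 this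
  · intro h0
    apply x.2.1
    apply Subtype.ext
    apply Subtype.ext
    exact congrArg (fun y : ↥(W1 Q v v' w0 w0') => (y : V)) h0
  · exact x.2.2

/-- `E(w0, w)`, `w ∈ W_1`, preserves `X^R`. -/
theorem X0sp_stable_W1 (Q : QuadraticForm F V) (hQ : (QuadraticMap.polarBilin Q).Nondegenerate)
    (hdim : 5 ≤ finrank F V) {v v' w0 w0' : V} (h : HQuad Q v v' w0 w0')
    (ρ : Representation ℂ ↥(T Q) X) (w : V) (hw : w ∈ W1 Q v v' w0 w0') (m : X)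
    (hm : m ∈ X0sp Q ρ v v') : repE Q ρ (E Q w0 w) m ∈ X0sp Q ρ v v' := by
  obtain ⟨y1, y2, y3, y4⟩ := W1_polar Q hw
  have hmemT : E Q w0 w ∈ T Q := E_mem_T Q hQ hdim h.pb.qa y3
  have e1 : E Q w0 w v = v := by
    rw [E_apply Q h.pb.qa y3, h.ab, y1]
    simp
  have e2 : E Q w0 w v' = v' := by
    rw [E_apply Q h.pb.qa y3, h.a'b, y2]
    simp
  exact Cfsg.Agent.Lib.Helper73_OO2_STAB.X0sp_stable hQ hdim ρ hmemT h.pa.qa
    ⟨1, one_ne_zero, by rw [e1, one_smul]⟩ ⟨1, one_ne_zero, by rw [e2, one_smul]⟩ hm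

/-- OO2-X0CARD from the conclusions of OO2-WSP2 and OO2-X0DEC. -/
theorem finrank_X0_of (Q : QuadraticForm F V) (n : ℕ) (hn : 3 ≤ n)
    (hP : IsOddT Q n) {v v' w0 w0' : V} (h : HQuad Q v v' w0 w0')
    (ρ : Representation ℂ ↥(T Q) X) (ψ : AddChar F ℂ) (hψ : ψ ≠ 1)
    (hbot : ∀ z ∈ W1 Q v v' w0 w0', Q z ≠ 0 → wsp2 Q ρ ψ v v' w0 w0' z = ⊥)
    (hone : ∀ z ∈ W1 Q v v' w0 w0', z ≠ 0 → Q z = 0 →
      finrank ℂ ↥(wsp2 Q ρ ψ v v' w0 w0' z) = 1)
    (hzero : wsp2 Q ρ ψ v v' w0 w0' 0 = F2sp Q ρ v v' w0 w0')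
    (hdec : X0sp Q ρ v v' ≤
      ⨆ z : ↥(W1 Q v v' w0 w0'), X0sp Q ρ v v' ⊓ wsp2 Q ρ ψ v v' w0 w0' (z : V)) :
    finrank ℂ ↥(X0sp Q ρ v v') =
      finrank ℂ ↥(F2sp Q ρ v v' w0 w0') + (Fintype.card F ^ (2 * (n - 2)) - 1) := by
  classical
  haveI : Finite V := Module.finite_of_finite F
  haveI : Fintype ↥(W1 Q v v' w0 w0') := Fintype.ofFinite _
  have hQ := hP.nondeg
  have hdim : 5 ≤ finrank F V := by rw [hP.dim]; omega
  have hind := indep_wsp2 Q hQ hdim h ρ ψ hψ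
  have hsup : (⨆ z : ↥(W1 Q v v' w0 w0'), wsp2 Q ρ ψ v v' w0 w0' (z : V)) = X0sp Q ρ v v' := by
    apply le_antisymm
    · exact iSup_le fun z => inf_le_left
    · exact hdec.trans (iSup_mono fun z => inf_le_right)
  rw [← hsup, finrank_iSup_of_indep _ hind, ← card_sing_W1 Q n hn hP h]
  rw [← Finset.add_sum_erase Finset.univ _ (Finset.mem_univ (0 : ↥(W1 Q v v' w0 w0')))]
  have h0 : finrank ℂ ↥(wsp2 Q ρ ψ v v' w0 w0' ((0 : ↥(W1 Q v v' w0 w0')) : V)) =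
      finrank ℂ ↥(F2sp Q ρ v v' w0 w0') := by
    rw [Submodule.coe_zero, hzero]
  rw [h0]
  congr 1
  have hterm : ∀ z ∈ Finset.univ.erase (0 : ↥(W1 Q v v' w0 w0')),
      finrank ℂ ↥(wsp2 Q ρ ψ v v' w0 w0' (z : V)) = if Q (z : V) = 0 then 1 else 0 := by
    intro z hz
    have hz0 : z ≠ 0 := (Finset.mem_erase.1 hz).1
    have hz0' : (z : V) ≠ 0 := fun h0 => hz0 (Subtype.ext h0)
    by_cases hq : Q (z : V) = 0
    · rw [if_pos hq, hone (z : V) z.2 hz0' hq]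
    · rw [if_neg hq, hbot (z : V) z.2 hq, finrank_bot]
  rw [Finset.sum_congr rfl hterm, Finset.sum_ite, Finset.sum_const_zero, add_zero,
    Finset.sum_const, smul_eq_mul, mul_one, Nat.card_eq_fintype_card, Fintype.card_subtype]
  congr 1
  ext z
  simp only [Finset.mem_filter, Finset.mem_erase, Finset.mem_univ, and_true, true_and]

/-- the decomposition of `X^R` into level-2 weight spaces (the case `M = X^R` of OO2-X0DEC), through the
representation `sigmaRep` of the Levi factor on `X^R` and `Helper69_OP_WSDEC.wsp_isInternal` one level down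
(route suggested by helper48). -/
theorem dec_X0 (Q : QuadraticForm F V) (hQ : (QuadraticMap.polarBilin Q).Nondegenerate)
    {v v' w0 w0' : V} (h : HQuad Q v v' w0 w0') (hdimW : 5 ≤ finrank F ↥(perp Q v v'))
    (ρ : Representation ℂ ↥(T Q) X) (ψ : AddChar F ℂ) (hψ : ψ ≠ 1) :
    X0sp Q ρ v v' ≤
      ⨆ z : ↥(W1 Q v v' w0 w0'), X0sp Q ρ v v' ⊓ wsp2 Q ρ ψ v v' w0 w0' (z : V) := by
  classical
  have hdim : 5 ≤ finrank F V := by
    have := finrank_perp h.pa.qa h.pa.qa' h.pa.aa'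
    omega
  obtain ⟨L⟩ := Cfsg.Agent.Lib.Helper73_OP_EXT.exists_leviHom Q hQ h.pa.qa h.pa.qa' h.pa.aa'
  have hinv : ∀ (g : ↥(T (Qp Q v v'))) (x : X), x ∈ wsp Q ρ ψ v v' 0 →
      ρ (L.ι g) x ∈ wsp Q ρ ψ v v' 0 := fun g x hx =>
    Cfsg.Agent.Lib.Helper48_OOThin.wsp_zero_inv Q hQ hdim h.pa.qa ρ ψ L g x hx
  have hQW := nondegenerate_perp hQ h.pa.qa h.pa.qa' h.pa.aa'
  have hp := Cfsg.Agent.Lib.Helper48_OO2_IHGeo.hpair_W Q h
  have hint := Cfsg.Agent.Lib.Helper69_OP_WSDEC.wsp_isInternal (Qp Q v v') hQW hdimW hp.qa hp.qa'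
    hp.aa' (sigmaRep Q ρ ψ v v' L hinv) ψ hψ
  have htop := hint.submodule_iSup_eq_top
  intro x hx
  rw [Cfsg.Agent.Lib.Helper48_OO2_IHGeo.X0sp_eq Q ρ ψ v v'] at hx
  have hx' : (⟨x, hx⟩ : ↥(wsp Q ρ ψ v v' 0)) ∈ (⊤ : Submodule ℂ ↥(wsp Q ρ ψ v v' 0)) := trivial
  rw [← htop] at hx'
  have hmap : x ∈ (⨆ z, wsp (Qp Q v v') (sigmaRep Q ρ ψ v v' L hinv) ψ
      (⟨w0, h.mem_perp.1⟩ : ↥(perp Q v v')) ⟨w0', h.mem_perp.2⟩ z).map
        (wsp Q ρ ψ v v' 0).subtype := ⟨⟨x, hx⟩, hx', rfl⟩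
  rw [Submodule.map_iSup] at hmap
  have hle : (⨆ z, (wsp (Qp Q v v') (sigmaRep Q ρ ψ v v' L hinv) ψ
      (⟨w0, h.mem_perp.1⟩ : ↥(perp Q v v')) ⟨w0', h.mem_perp.2⟩ z).map
        (wsp Q ρ ψ v v' 0).subtype) ≤
      ⨆ z : ↥(W1 Q v v' w0 w0'), X0sp Q ρ v v' ⊓ wsp2 Q ρ ψ v v' w0 w0' (z : V) := by
    refine iSup_le fun z => ?_
    rw [Cfsg.Agent.Lib.Helper48_OO2_IHGeo.map_wsp_sigma Q hQ h hQW hdimW ρ ψ L hinv z]
    exact le_trans (le_inf inf_le_left le_rfl)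
      (le_iSup (fun z' : ↥(W1 Q v v' w0 w0') =>
        X0sp Q ρ v v' ⊓ wsp2 Q ρ ψ v v' w0 w0' (z' : V))
        ⟨_, Cfsg.Agent.Lib.Helper48_OO2_IHGeo.coe_mem_W1 Q h z⟩)
  exact hle hmap

/-- OO2-X0CARD (L) -/
theorem finrank_X0 (Q : QuadraticForm F V) (n : ℕ) (hn : 3 ≤ n) (hq : 4 ≤ Fintype.card F)
    (hP : IsOddT Q n) {v v' w0 w0' : V} (h : HQuad Q v v' w0 w0') [DecidableEq ↥(perp Q v v')]
    (ρ : Representation ℂ ↥(T Q) X) (ψ : AddChar F ℂ) (hψ : ψ ≠ 1)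
    (hint : DirectSum.IsInternal (fun u : ↥(perp Q v v') => wsp Q ρ ψ v v' u))
    (f : ℕ) (hW : WData Q ρ ψ v v' 1 f) :
    finrank ℂ ↥(X0sp Q ρ v v') =
      finrank ℂ ↥(F2sp Q ρ v v' w0 w0') + (Fintype.card F ^ (2 * (n - 2)) - 1) := by
  have hdimW : 5 ≤ finrank F ↥(perp Q v v') := by
    have h1 := finrank_perp h.pa.qa h.pa.qa' h.pa.aa'
    have h2 := hP.dim
    omega
  exact finrank_X0_of Q n hn hP h ρ ψ hψ
    (fun z hz hQz => Cfsg.Agent.Lib.Helper43_OO2_WSP2.wsp2_eq_bot Q n hn hq hP h ρ ψ hψ hint f hW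
      z hz hQz)
    (fun z hz hz0 hQz => Cfsg.Agent.Lib.Helper43_OO2_WSP2.finrank_wsp2 Q n hn hq hP h ρ ψ hψ hint
      f hW z hz hz0 hQz)
    (Cfsg.Agent.Lib.Helper43_OO2_WSP2.wsp2_zero Q ρ ψ)
    (dec_X0 Q hP.nondeg h hdimW ρ ψ hψ)

end Cfsg.Agent.Lib.Helper46_OO2_X0CARD
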