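import Mathlib
import Cfsg.Agent.Lib.Helper95_OPDefs
import Cfsg.Agent.Lib.Helper95_OPBasic
import Cfsg.Agent.Lib.Helper48_OODefs
import Cfsg.Agent.Lib.Helper87_OO2Defs
import Cfsg.Agent.Lib.Helper87_OO2Defs2
import Cfsg.Agent.Lib.Helper87_OO2Defs3
import Cfsg.Agent.Lib.Helper85_OO2_RankOne
import Cfsg.Agent.Lib.Helper85_OO2_LemK
import Cfsg.Agent.Lib.Helper85_OO2_INVOL
import Cfsg.Agent.Lib.Helper48_OO2_IHGeo

set_option autoImplicit false

/-!
S2344, market OO2 wave 3 (cutter helper87), package OO2-BASEL: in the base `n = 3` the space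
`W_1 = ⟨w1, w1', x⟩` is of dimension `3` and of Witt index `1`, so that two orthogonal singular vectors of `W_1`
are proportional, every long root element `E(a, b)`, `a, b ∈ W_1`, is trivial, and `fixL W_1` is the whole space.
-/

namespace Cfsg.Agent.Lib.Helper61_OO2_BASEL

open Module Cfsg.Agent.Lib.Helper94_OrthSmall Cfsg.Agent.Lib.Helper44_QuadClass
  Cfsg.Agent.Lib.Helper14_OmegaSimple Cfsg.Agent.Lib.Helper38_MIODefs
  Cfsg.Agent.Lib.Helper95_OPDefs Cfsg.Agent.Lib.Helper95_OPBasic Cfsg.Agent.Lib.Helper48_OODefs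
  Cfsg.Agent.Lib.Helper87_OO2Defs Cfsg.Agent.Lib.Helper85_OO2_RankOne

section geom

variable {F V : Type*} [Field F] [AddCommGroup V] [Module F V] (Q : QuadraticForm F V)

theorem polar_self_sing {a : V} (ha : Q a = 0) : QuadraticMap.polar (⇑Q) a a = 0 := by
  rw [QuadraticMap.polar_self, ha, smul_zero]

/-- Coordinates in the span of a hyperbolic pair `(p, p')` and a vector `x` orthogonal to it. -/
theorem decomp3 {p p' x z : V} (hp : Q p = 0) (hp' : Q p' = 0)
    (hpp' : QuadraticMap.polar (⇑Q) p p' = 1) (hxp : QuadraticMap.polar (⇑Q) x p = 0)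
    (hxp' : QuadraticMap.polar (⇑Q) x p' = 0) (hz : z ∈ Submodule.span F {p, p', x}) :
    ∃ γ : F, z = QuadraticMap.polar (⇑Q) z p' • p + QuadraticMap.polar (⇑Q) z p • p' + γ • x := by
  obtain ⟨α, β, γ, rfl⟩ := Submodule.mem_span_triple.1 hz
  have hp'p : QuadraticMap.polar (⇑Q) p' p = 1 := by rw [QuadraticMap.polar_comm]; exact hpp'
  refine ⟨γ, ?_⟩
  have h1 : QuadraticMap.polar (⇑Q) (α • p + β • p' + γ • x) p' = α := by
    rw [QuadraticMap.polar_add_left, QuadraticMap.polar_add_left, QuadraticMap.polar_smul_left,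
      QuadraticMap.polar_smul_left, QuadraticMap.polar_smul_left, hpp', hxp',
      polar_self_sing Q hp']
    simp
  have h2 : QuadraticMap.polar (⇑Q) (α • p + β • p' + γ • x) p = β := by
    rw [QuadraticMap.polar_add_left, QuadraticMap.polar_add_left, QuadraticMap.polar_smul_left,
      QuadraticMap.polar_smul_left, QuadraticMap.polar_smul_left, hp'p, hxp,
      polar_self_sing Q hp]
    simp
  rw [h1, h2]

/-- In `⟨p, p', x⟩` (`(p, p')` a hyperbolic pair, `x` non-singular and orthogonal to it), a singular vector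
`b` orthogonal to a singular vector `a` with non-zero `p`-coordinate is a multiple of `a`. -/
theorem prop_of_coord_ne {p p' x a b : V} (hp : Q p = 0) (hp' : Q p' = 0)
    (hpp' : QuadraticMap.polar (⇑Q) p p' = 1) (hxp : QuadraticMap.polar (⇑Q) x p = 0)
    (hxp' : QuadraticMap.polar (⇑Q) x p' = 0) (hx : Q x ≠ 0)
    (ha : a ∈ Submodule.span F {p, p', x}) (hb : b ∈ Submodule.span F {p, p', x})
    (hQa : Q a = 0) (hQb : Q b = 0) (hab : QuadraticMap.polar (⇑Q) a b = 0)
    (hne : QuadraticMap.polar (⇑Q) a p' ≠ 0) : ∃ t : F, b = t • a := by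
  set α := QuadraticMap.polar (⇑Q) a p' with hα
  set t := QuadraticMap.polar (⇑Q) b p' / α with ht
  refine ⟨t, ?_⟩
  have hd : b + (-t) • a ∈ Submodule.span F {p, p', x} :=
    Submodule.add_mem _ hb (Submodule.smul_mem _ _ ha)
  obtain ⟨γ, hγ⟩ := decomp3 Q hp hp' hpp' hxp hxp' hd
  have hd1 : QuadraticMap.polar (⇑Q) (b + (-t) • a) p' = 0 := by
    rw [QuadraticMap.polar_add_left, QuadraticMap.polar_smul_left, ← hα, ht, smul_eq_mul]
    field_simp
    ring
  rw [hd1, zero_smul, zero_add] at hγ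
  set β' := QuadraticMap.polar (⇑Q) (b + (-t) • a) p with hβ'
  have hba : QuadraticMap.polar (⇑Q) b a = 0 := by rw [QuadraticMap.polar_comm]; exact hab
  -- `Q d = 0`
  have hQd : Q (b + (-t) • a) = 0 := by
    rw [QuadraticMap.map_add Q, QuadraticMap.map_smul, QuadraticMap.polar_smul_right, hQa, hQb, hba]
    simp
  have hp'x : QuadraticMap.polar (⇑Q) p' x = 0 := by rw [QuadraticMap.polar_comm]; exact hxp'
  have hQd2 : Q (β' • p' + γ • x) = γ * γ * Q x := by
    rw [QuadraticMap.map_add Q, QuadraticMap.map_smul, QuadraticMap.map_smul, hp',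
      QuadraticMap.polar_smul_left, QuadraticMap.polar_smul_right, hp'x]
    simp
  rw [hγ, hQd2] at hQd
  have hγ0 : γ = 0 := by
    rcases mul_eq_zero.1 hQd with h | h
    · exact mul_self_eq_zero.1 h
    · exact absurd h hx
  rw [hγ0, zero_smul, add_zero] at hγ
  -- `B(a, d) = 0`
  have had : QuadraticMap.polar (⇑Q) a (b + (-t) • a) = 0 := by
    rw [QuadraticMap.polar_add_right, QuadraticMap.polar_smul_right, hab, polar_self_sing Q hQa]
    simp
  have had2 : QuadraticMap.polar (⇑Q) a (β' • p') = β' * α := by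
    rw [QuadraticMap.polar_smul_right, smul_eq_mul]
  rw [hγ, had2] at had
  have hβ0 : β' = 0 := by
    rcases mul_eq_zero.1 had with h | h
    · exact h
    · exact absurd h hne
  rw [hβ0, zero_smul] at hγ
  have : b = -((-t) • a) := eq_neg_of_add_eq_zero_left hγ
  rw [this, neg_smul, neg_neg]

/-- Witt index one: two orthogonal singular vectors of `⟨p, p', x⟩` are proportional. -/
theorem zero_or_prop {p p' x a b : V} (hp : Q p = 0) (hp' : Q p' = 0)
    (hpp' : QuadraticMap.polar (⇑Q) p p' = 1) (hxp : QuadraticMap.polar (⇑Q) x p = 0)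
    (hxp' : QuadraticMap.polar (⇑Q) x p' = 0) (hx : Q x ≠ 0)
    (ha : a ∈ Submodule.span F {p, p', x}) (hb : b ∈ Submodule.span F {p, p', x})
    (hQa : Q a = 0) (hQb : Q b = 0) (hab : QuadraticMap.polar (⇑Q) a b = 0) :
    a = 0 ∨ ∃ t : F, b = t • a := by
  by_cases h1 : QuadraticMap.polar (⇑Q) a p' = 0
  · by_cases h2 : QuadraticMap.polar (⇑Q) a p = 0
    · left
      obtain ⟨γ, hγ⟩ := decomp3 Q hp hp' hpp' hxp hxp' ha
      rw [h1, h2, zero_smul, zero_smul, zero_add, zero_add] at hγ
      have hQ : Q a = γ * γ * Q x := by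
        conv_lhs => rw [hγ]
        rw [QuadraticMap.map_smul]
        rfl
      rw [hQa] at hQ
      have hγ0 : γ = 0 := by
        rcases mul_eq_zero.1 hQ.symm with h | h
        · exact mul_self_eq_zero.1 h
        · exact absurd h hx
      rw [hγ, hγ0, zero_smul]
    · right
      have hsw : (Submodule.span F {p, p', x} : Submodule F V) = Submodule.span F {p', p, x} := by
        rw [Set.insert_comm]
      rw [hsw] at ha hb
      have hp'p : QuadraticMap.polar (⇑Q) p' p = 1 := by rw [QuadraticMap.polar_comm]; exact hpp'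
      exact prop_of_coord_ne Q hp' hp hp'p hxp' hxp hx ha hb hQa hQb hab h2
  · right
    exact prop_of_coord_ne Q hp hp' hpp' hxp hxp' hx ha hb hQa hQb hab h1

/-- A long root element attached to two proportional vectors is trivial. -/
theorem E_eq_one_of_zero_or_prop {a b : V} (hQa : Q a = 0) (h : a = 0 ∨ ∃ t : F, b = t • a) :
    E Q a b = 1 := by
  rcases h with rfl | ⟨t, rfl⟩
  · exact E_zero_left Q b
  · have h0 : QuadraticMap.polar (⇑Q) a 0 = 0 := by simp [QuadraticMap.polar]
    have := E_add_smul Q hQa h0 t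
    rw [zero_add] at this
    rw [this, E_zero_right Q hQa]

end geom

section partI

variable {F V : Type*} [Field F] [Fintype F] [AddCommGroup V] [Module F V] [FiniteDimensional F V]
  {X : Type*} [AddCommGroup X] [Module ℂ X] [FiniteDimensional ℂ X]

theorem W1_eq_map (Q : QuadraticForm F V) {v v' w0 w0' : V} (h : HQuad Q v v' w0 w0') :
    W1 Q v v' w0 w0' =
      (perp (Qp Q v v') (⟨w0, h.mem_perp.1⟩ : ↥(perp Q v v')) ⟨w0', h.mem_perp.2⟩).map
        (perp Q v v').subtype := by
  ext w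
  rw [Cfsg.Agent.Lib.Helper48_OO2_IHGeo.mem_W1_iff Q h, Submodule.mem_map]
  constructor
  · rintro ⟨hw, h2⟩
    exact ⟨⟨w, hw⟩, h2, rfl⟩
  · rintro ⟨y, hy, rfl⟩
    exact ⟨y.2, hy⟩

theorem finrank_W1 (Q : QuadraticForm F V) {v v' w0 w0' : V} (h : HQuad Q v v' w0 w0') :
    finrank F ↥(W1 Q v v' w0 w0') + 4 = finrank F V := by
  rw [W1_eq_map Q h, Submodule.finrank_map_subtype_eq]
  have h1 := finrank_perp h.pa.qa h.pa.qa' h.pa.aa'
  have hW := Cfsg.Agent.Lib.Helper48_OO2_IHGeo.hpair_W Q h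
  have h2 := finrank_perp hW.qa hW.qa' hW.aa'
  omega

theorem W1_eq_span (Q : QuadraticForm F V) (hP : IsOddT Q 3) {v v' w0 w0' w1 w1' x : V}
    (fr : Frame3 Q v v' w0 w0' w1 w1' x) :
    W1 Q v v' w0 w0' = Submodule.span F {w1, w1', x} := by
  have hd := finrank_W1 Q fr.h01
  rw [hP.dim] at hd
  have hw1 : w1 ∈ W1 Q v v' w0 w0' := Submodule.mem_inf.2 ⟨fr.h02.mem_perp.1, fr.h12.mem_perp.1⟩
  have hw1' : w1' ∈ W1 Q v v' w0 w0' := Submodule.mem_inf.2 ⟨fr.h02.mem_perp.2, fr.h12.mem_perp.2⟩
  have hle : Submodule.span F {w1, w1', x} ≤ W1 Q v v' w0 w0' := by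
    rw [Submodule.span_le]
    intro z hz
    rcases hz with rfl | rfl | rfl
    · exact hw1
    · exact hw1'
    · exact fr.xW1
  symm
  apply Submodule.eq_of_le_of_finrank_eq hle
  have hli : LinearIndependent F ![w1, w1', x] := by
    rw [Fintype.linearIndependent_iff]
    intro g hg
    rw [Fin.sum_univ_three] at hg
    replace hg : g 0 • w1 + g 1 • w1' + g 2 • x = 0 := hg
    have hp := fr.h12.pb
    have hp'p : QuadraticMap.polar (⇑Q) w1' w1 = 1 := by rw [QuadraticMap.polar_comm]; exact hp.aa'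
    have e0 : g 0 = 0 := by
      have := congrArg (fun z => QuadraticMap.polar (⇑Q) z w1') hg
      simp only [QuadraticMap.polar_add_left, QuadraticMap.polar_smul_left, hp.aa', fr.xw1',
        polar_self_sing Q hp.qa'] at this
      simpa [QuadraticMap.polar] using this
    have e1 : g 1 = 0 := by
      have := congrArg (fun z => QuadraticMap.polar (⇑Q) z w1) hg
      simp only [QuadraticMap.polar_add_left, QuadraticMap.polar_smul_left, hp'p, fr.xw1,
        polar_self_sing Q hp.qa] at this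
      simpa [QuadraticMap.polar] using this
    have e2 : g 2 = 0 := by
      rw [e0, e1, zero_smul, zero_smul, zero_add, zero_add] at hg
      rcases smul_eq_zero.1 hg with h | h
      · exact h
      · exfalso
        apply fr.qx
        rw [h, map_zero]
    intro i
    fin_cases i
    · exact e0
    · exact e1
    · exact e2
  have hr : Set.range ![w1, w1', x] = {w1, w1', x} := by
    rw [Matrix.range_cons, Matrix.range_cons_cons_empty, Set.singleton_union]
  have := finrank_span_eq_card hli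
  rw [hr] at this
  rw [this, Fintype.card_fin]
  omega

omit [FiniteDimensional ℂ X] in
theorem fixL_W1_eq_top (Q : QuadraticForm F V) (hP : IsOddT Q 3) {v v' w0 w0' w1 w1' x : V}
    (fr : Frame3 Q v v' w0 w0' w1 w1' x) (ρ : Representation ℂ ↥(T Q) X) :
    fixL Q ρ (W1 Q v v' w0 w0') = ⊤ := by
  rw [eq_top_iff]
  intro y _
  rw [mem_fixL]
  intro a ha b hb hQa hQb hab
  rw [W1_eq_span Q hP fr] at ha hb
  have hp := fr.h12.pb
  have h1 := zero_or_prop Q hp.qa hp.qa' hp.aa' fr.xw1 fr.xw1' fr.qx ha hb hQa hQb hab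
  rw [E_eq_one_of_zero_or_prop Q hQa h1, repE_one]
  rfl

end partI

end Cfsg.Agent.Lib.Helper61_OO2_BASEL
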