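import Mathlib
import Cfsg.Agent.Lib.Helper95_OPDefs
import Cfsg.Agent.Lib.Helper95_OPBasic
import Cfsg.Agent.Lib.Helper48_OODefs
import Cfsg.Agent.Lib.Helper87_OO2Defs
import Cfsg.Agent.Lib.Helper87_OO2Defs2

/-!
OO2-X0DEC (helper87's wave 3 of the OO2 market for S2344): Fourier decomposition for the abelian group
`R_1 = {E(w0,w) : w ∈ W_1}`: an `R_1`-stable subspace `M` of `X^R` is the sum of the `M ⊓ wsp2 z`, `z ∈ W_1`.
-/

set_option autoImplicit false
set_option linter.unusedSectionVars false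
set_option linter.unusedVariables false

namespace Cfsg.Agent.Lib.Helper95_OO2_X0DEC

open Module Cfsg.Agent.Lib.Helper94_OrthSmall Cfsg.Agent.Lib.Helper44_QuadClass
  Cfsg.Agent.Lib.Helper14_OmegaSimple Cfsg.Agent.Lib.Helper38_MIODefs
  Cfsg.Agent.Lib.Helper95_OPDefs Cfsg.Agent.Lib.Helper95_OPBasic Cfsg.Agent.Lib.Helper48_OODefs
  Cfsg.Agent.Lib.Helper87_OO2Defs

section geom

variable {F V : Type*} [Field F] [AddCommGroup V] [Module F V]

/-- The polar form is non-degenerate on `W_1`: a non-zero vector of `W_1` is not orthogonal to `W_1`. -/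
theorem exists_polar_ne_zero (Q : QuadraticForm F V)
    (hQ : (QuadraticMap.polarBilin Q).Nondegenerate) {v v' w0 w0' : V}
    (h : HQuad Q v v' w0 w0') {w : V} (hw : w ∈ W1 Q v v' w0 w0') (hw0 : w ≠ 0) :
    ∃ z ∈ W1 Q v v' w0 w0', QuadraticMap.polar (⇑Q) z w ≠ 0 := by
  obtain ⟨y, hy⟩ : ∃ y, QuadraticMap.polar (⇑Q) y w ≠ 0 := by
    by_contra hcon
    push Not at hcon
    apply hw0
    apply hQ.2 w
    intro y
    rw [QuadraticMap.polarBilin_apply_apply]
    exact hcon y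
  have hw1 := (mem_perp Q v v').1 hw.1
  have hw2 := (mem_perp Q w0 w0').1 hw.2
  -- the projection of `y` to `W_1`
  obtain ⟨z, hz⟩ : ∃ z : V, z = y - QuadraticMap.polar (⇑Q) v' y • v - QuadraticMap.polar (⇑Q) v y • v' -
      QuadraticMap.polar (⇑Q) w0' y • w0 - QuadraticMap.polar (⇑Q) w0 y • w0' := ⟨_, rfl⟩
  have hvv : QuadraticMap.polar (⇑Q) v v = 0 := by rw [polar_self', h.pa.qa, mul_zero]
  have hv'v' : QuadraticMap.polar (⇑Q) v' v' = 0 := by rw [polar_self', h.pa.qa', mul_zero]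
  have hw0w0 : QuadraticMap.polar (⇑Q) w0 w0 = 0 := by rw [polar_self', h.pb.qa, mul_zero]
  have hw0'w0' : QuadraticMap.polar (⇑Q) w0' w0' = 0 := by rw [polar_self', h.pb.qa', mul_zero]
  have hvv' : QuadraticMap.polar (⇑Q) v v' = 1 := h.pa.aa'
  have hw0w0'' : QuadraticMap.polar (⇑Q) w0 w0' = 1 := h.pb.aa'
  have hv'v : QuadraticMap.polar (⇑Q) v' v = 1 := by rw [QuadraticMap.polar_comm]; exact h.pa.aa'
  have hw0'w0 : QuadraticMap.polar (⇑Q) w0' w0 = 1 := by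
    rw [QuadraticMap.polar_comm]; exact h.pb.aa'
  have hw0v : QuadraticMap.polar (⇑Q) w0 v = 0 := by rw [QuadraticMap.polar_comm]; exact h.ab
  have hw0'v : QuadraticMap.polar (⇑Q) w0' v = 0 := by rw [QuadraticMap.polar_comm]; exact h.ab'
  have hw0v' : QuadraticMap.polar (⇑Q) w0 v' = 0 := by rw [QuadraticMap.polar_comm]; exact h.a'b
  have hw0'v' : QuadraticMap.polar (⇑Q) w0' v' = 0 := by
    rw [QuadraticMap.polar_comm]; exact h.a'b'
  have hab := h.ab
  have hab' := h.ab'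
  have ha'b := h.a'b
  have ha'b' := h.a'b'
  refine ⟨z, ⟨(mem_perp Q v v').2 ⟨?_, ?_⟩, (mem_perp Q w0 w0').2 ⟨?_, ?_⟩⟩, ?_⟩
  · rw [hz]
    simp only [QuadraticMap.polar_sub_right, QuadraticMap.polar_smul_right, smul_eq_mul]
    rw [hvv, hvv', hab, hab']
    ring
  · rw [hz]
    simp only [QuadraticMap.polar_sub_right, QuadraticMap.polar_smul_right, smul_eq_mul]
    rw [hv'v', hv'v, ha'b, ha'b']
    ring
  · rw [hz]
    simp only [QuadraticMap.polar_sub_right, QuadraticMap.polar_smul_right, smul_eq_mul]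
    rw [hw0w0, hw0w0'', hw0v, hw0v']
    ring
  · rw [hz]
    simp only [QuadraticMap.polar_sub_right, QuadraticMap.polar_smul_right, smul_eq_mul]
    rw [hw0'w0', hw0'w0, hw0'v, hw0'v']
    ring
  · have : QuadraticMap.polar (⇑Q) z w = QuadraticMap.polar (⇑Q) y w := by
      rw [hz]
      simp only [QuadraticMap.polar_sub_left, QuadraticMap.polar_smul_left, smul_eq_mul]
      rw [hw1.1, hw1.2, hw2.1, hw2.2]
      ring
    rw [this]
    exact hy

end geom

section sums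

variable {F V : Type*} [Field F] [Fintype F] [AddCommGroup V] [Module F V]

/-- orthogonality of the characters `z ↦ ψ(-B(z,w))` of `W_1` -/
theorem sum_psi_W1 (Q : QuadraticForm F V) (hQ : (QuadraticMap.polarBilin Q).Nondegenerate)
    {v v' w0 w0' : V} (h : HQuad Q v v' w0 w0') [Fintype ↥(W1 Q v v' w0 w0')]
    (ψ : AddChar F ℂ) (hψ : ψ ≠ 1) (w : ↥(W1 Q v v' w0 w0')) (hw : w ≠ 0) :
    ∑ z : ↥(W1 Q v v' w0 w0'), ψ (-QuadraticMap.polar (⇑Q) (z : V) (w : V)) = 0 := by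
  have hwV : (w : V) ≠ 0 := fun h0 => hw (Subtype.ext h0)
  obtain ⟨z0, hz0, hne⟩ := exists_polar_ne_zero Q hQ h w.2 hwV
  obtain ⟨a, ha⟩ := AddChar.ne_one_iff.1 hψ
  set c := QuadraticMap.polar (⇑Q) z0 (w : V) with hc
  set z1 : ↥(W1 Q v v' w0 w0') := ⟨(-(a / c)) • z0, Submodule.smul_mem _ _ hz0⟩ with hz1
  have hz1a : -QuadraticMap.polar (⇑Q) ((z1 : ↥(W1 Q v v' w0 w0')) : V) (w : V) = a := by
    rw [hz1]
    show -QuadraticMap.polar (⇑Q) ((-(a / c)) • z0) (w : V) = a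
    rw [QuadraticMap.polar_smul_left, ← hc, smul_eq_mul]
    field_simp
  have key : ∑ z : ↥(W1 Q v v' w0 w0'), ψ (-QuadraticMap.polar (⇑Q) (z : V) (w : V)) =
      ψ a * ∑ z : ↥(W1 Q v v' w0 w0'), ψ (-QuadraticMap.polar (⇑Q) (z : V) (w : V)) := by
    rw [Finset.mul_sum, ← Equiv.sum_comp (Equiv.addRight z1)]
    apply Finset.sum_congr rfl
    intro z _
    rw [Equiv.coe_addRight, Submodule.coe_add, QuadraticMap.polar_add_left, neg_add,
      AddChar.map_add_eq_mul, hz1a, mul_comm]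
  have h2 : (1 - ψ a) * ∑ z : ↥(W1 Q v v' w0 w0'),
      ψ (-QuadraticMap.polar (⇑Q) (z : V) (w : V)) = 0 := by
    linear_combination key
  rcases mul_eq_zero.mp h2 with h3 | h3
  · exact absurd (sub_eq_zero.mp h3).symm ha
  · exact h3

end sums

section partH

variable {F V : Type*} [Field F] [Fintype F] [AddCommGroup V] [Module F V] [FiniteDimensional F V]
  {X : Type*} [AddCommGroup X] [Module ℂ X] [FiniteDimensional ℂ X]

/-! ## OO2-X0DEC (L): decomposition of an `R_1`-stable subspace of `X^R` into level-2 weight spaces -/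
theorem le_iSup_wsp2 (Q : QuadraticForm F V) (hQ : (QuadraticMap.polarBilin Q).Nondegenerate)
    (hdim : 5 ≤ finrank F V) {v v' w0 w0' : V} (h : HQuad Q v v' w0 w0')
    (ρ : Representation ℂ ↥(T Q) X) (ψ : AddChar F ℂ) (hψ : ψ ≠ 1) (M : Submodule ℂ X)
    (hM : M ≤ X0sp Q ρ v v')
    (hst : ∀ w ∈ W1 Q v v' w0 w0', ∀ m ∈ M, repE Q ρ (E Q w0 w) m ∈ M) :
    M ≤ ⨆ z : ↥(W1 Q v v' w0 w0'), M ⊓ wsp2 Q ρ ψ v v' w0 w0' (z : V) := by
  classical
  intro m hm
  haveI : Finite V := Module.finite_of_finite F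
  letI : Fintype ↥(W1 Q v v' w0 w0') := Fintype.ofFinite _
  have hw0 : Q w0 = 0 := h.pb.qa
  have hpol : ∀ w ∈ W1 Q v v' w0 w0', QuadraticMap.polar (⇑Q) w0 w = 0 := fun w hw =>
    ((mem_perp Q w0 w0').1 hw.2).1
  have hmemT : ∀ w ∈ W1 Q v v' w0 w0', E Q w0 w ∈ T Q := fun w hw =>
    E_mem_T Q hQ hdim hw0 (hpol w hw)
  obtain ⟨A, hAdef⟩ : ∃ A : ↥(W1 Q v v' w0 w0') → Module.End ℂ X,
      ∀ w, A w = repE Q ρ (E Q w0 (w : V)) := ⟨fun w => repE Q ρ (E Q w0 (w : V)), fun w => rfl⟩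
  have hAadd : ∀ w w', A (w + w') = A w * A w' := by
    intro w w'
    rw [hAdef, hAdef, hAdef, ← repE_mul Q ρ (hmemT _ w.2) (hmemT _ w'.2),
      E_mul Q hw0 (hpol _ w.2) (hpol _ w'.2)]
    rfl
  have hA0 : A 0 = 1 := by
    rw [hAdef]
    show repE Q ρ (E Q w0 0) = 1
    rw [E_zero_right Q hw0, repE_one]
  have hAM : ∀ w, ∀ m' ∈ M, A w m' ∈ M := by
    intro w m' hm'
    rw [hAdef]
    exact hst _ w.2 m' hm'
  set N : ℂ := (Fintype.card ↥(W1 Q v v' w0 w0') : ℂ) with hN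
  have hN0 : N ≠ 0 := by
    rw [hN]
    exact_mod_cast Fintype.card_ne_zero
  obtain ⟨P, hPdef⟩ : ∃ P : ↥(W1 Q v v' w0 w0') → X, ∀ z, P z =
      N⁻¹ • ∑ w : ↥(W1 Q v v' w0 w0'), ψ (-QuadraticMap.polar (⇑Q) (z : V) (w : V)) • A w m :=
    ⟨fun z => N⁻¹ • ∑ w : ↥(W1 Q v v' w0 w0'),
      ψ (-QuadraticMap.polar (⇑Q) (z : V) (w : V)) • A w m, fun z => rfl⟩
  -- (a) `P z ∈ M`
  have hPM : ∀ z, P z ∈ M := by
    intro z
    rw [hPdef]
    exact M.smul_mem _ (M.sum_mem fun w _ => M.smul_mem _ (hAM w m hm))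
  -- (c) `P z` is an eigenvector
  have hPeig : ∀ z w', A w' (P z) = ψ (QuadraticMap.polar (⇑Q) (z : V) (w' : V)) • P z := by
    intro z w'
    rw [hPdef, map_smul, smul_comm (ψ _) N⁻¹]
    congr 1
    rw [map_sum, Finset.smul_sum, ← Equiv.sum_comp (Equiv.addLeft w')
      (fun u => ψ (QuadraticMap.polar (⇑Q) (z : V) (w' : V)) •
        ψ (-QuadraticMap.polar (⇑Q) (z : V) (u : V)) • A u m)]
    apply Finset.sum_congr rfl
    intro w _
    rw [map_smul, Equiv.coe_addLeft, hAadd, Module.End.mul_apply, smul_smul]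
    congr 1
    rw [← AddChar.map_add_eq_mul]
    congr 1
    rw [Submodule.coe_add, QuadraticMap.polar_add_right]
    ring
  -- (d) the components add up to `m`
  have hsum : ∑ z : ↥(W1 Q v v' w0 w0'), P z = m := by
    have h1 : ∑ z : ↥(W1 Q v v' w0 w0'), P z =
        N⁻¹ • ∑ w : ↥(W1 Q v v' w0 w0'),
          (∑ z : ↥(W1 Q v v' w0 w0'), ψ (-QuadraticMap.polar (⇑Q) (z : V) (w : V))) • A w m := by
      simp_rw [hPdef]
      rw [← Finset.smul_sum, Finset.sum_comm]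
      congr 1
      apply Finset.sum_congr rfl
      intro w _
      rw [Finset.sum_smul]
    rw [h1, Finset.sum_eq_single (0 : ↥(W1 Q v v' w0 w0'))]
    · have h2 : ∑ z : ↥(W1 Q v v' w0 w0'),
          ψ (-QuadraticMap.polar (⇑Q) (z : V) (((0 : ↥(W1 Q v v' w0 w0')) : ↥(W1 Q v v' w0 w0')) : V)) = N := by
        rw [hN, ZeroMemClass.coe_zero]
        have : ∀ z : ↥(W1 Q v v' w0 w0'), ψ (-QuadraticMap.polar (⇑Q) (z : V) (0 : V)) = 1 := by
          intro z
          have h0 : QuadraticMap.polar (⇑Q) (z : V) (0 : V) = 0 := by simp [QuadraticMap.polar]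
          rw [h0, neg_zero, AddChar.map_zero_eq_one]
        simp_rw [this]
        simp
      rw [h2, hA0, smul_smul, inv_mul_cancel₀ hN0, one_smul]
      rfl
    · intro w _ hw
      rw [sum_psi_W1 Q hQ h ψ hψ w hw, zero_smul]
    · intro h0
      exact absurd (Finset.mem_univ _) h0
  rw [← hsum]
  refine Submodule.sum_mem _ fun z _ => ?_
  refine Submodule.mem_iSup_of_mem z ⟨hPM z, hM (hPM z), ?_⟩
  intro w hw
  have := hPeig z ⟨w, hw⟩
  rw [hAdef] at this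
  exact this

end partH

end Cfsg.Agent.Lib.Helper95_OO2_X0DEC
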