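import Mathlib
import Cfsg.Agent.Lib.Helper95_OPDefs
import Cfsg.Agent.Lib.Helper95_OPBasic
import Cfsg.Agent.Lib.Helper48_OODefs
import Cfsg.Agent.Lib.Helper87_OO2Defs
import Cfsg.Agent.Lib.Helper87_OO2Defs2
import Cfsg.Agent.Lib.Helper87_OO2Defs3
import Cfsg.Agent.Lib.Helper85_OO2_ELT
import Cfsg.Agent.Lib.Helper12_OO2_HEIS
import Cfsg.Agent.Lib.Helper73_OO2_STAB
import Cfsg.Agent.Lib.Helper95_OO2_X0DEC
import Cfsg.Agent.Lib.Helper43_OO2_WSP2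
import Cfsg.Agent.Lib.Helper46_OO2_X0CARD
import Cfsg.Agent.Lib.Helper61_OO2_BASEL

/-!
# S2344 wave 3, package OO2-M2 (cutter helper87; parallel seat helper16)

The `K_2'`-module `M_2 = (X^R)^{Z'}`, `Z' = {E(w0, s w1)}`, of the base `n = 3`.
-/

set_option autoImplicit false
set_option linter.unusedVariables false
set_option linter.unusedSectionVars false

namespace Cfsg.Agent.Lib.Helper16_OO2_M2

open Module Cfsg.Agent.Lib.Helper94_OrthSmall Cfsg.Agent.Lib.Helper44_QuadClass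
  Cfsg.Agent.Lib.Helper14_OmegaSimple Cfsg.Agent.Lib.Helper38_MIODefs
  Cfsg.Agent.Lib.Helper95_OPDefs Cfsg.Agent.Lib.Helper95_OPBasic Cfsg.Agent.Lib.Helper48_OODefs
  Cfsg.Agent.Lib.Helper87_OO2Defs Cfsg.Agent.Lib.Helper85_OO2_ELT
  Cfsg.Agent.Lib.Helper73_OO2_STAB

variable {F V : Type*} [Field F] [Fintype F] [AddCommGroup V] [Module F V] [FiniteDimensional F V]
  {X : Type*} [AddCommGroup X] [Module ℂ X] [FiniteDimensional ℂ X]

/-! ### generalities -/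

theorem mem_M2 (Q : QuadraticForm F V) (ρ : Representation ℂ ↥(T Q) X) (v v' w0 w1 : V) (m : X) :
    m ∈ M2sp Q ρ v v' w0 w1 ↔
      m ∈ X0sp Q ρ v v' ∧ ∀ t : F, repE Q ρ (E Q w0 (t • w1)) m = m := by
  unfold M2sp
  rw [Submodule.mem_inf, mem_fixE]
  constructor
  · rintro ⟨h1, h2⟩
    exact ⟨h1, fun t => h2 _ (Submodule.smul_mem _ t (Submodule.mem_span_singleton_self w1))⟩
  · rintro ⟨h1, h2⟩
    refine ⟨h1, fun w hw => ?_⟩
    obtain ⟨t, rfl⟩ := Submodule.mem_span_singleton.mp hw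
    exact h2 t

theorem dim5 (Q : QuadraticForm F V) (hP : IsOddT Q 3) : 5 ≤ finrank F V := by
  rw [hP.dim]
  norm_num

section facts

variable {Q : QuadraticForm F V} {v v' w0 w0' w1 w1' x : V}

theorem w1_mem (fr : Frame3 Q v v' w0 w0' w1 w1' x) : w1 ∈ W1 Q v v' w0 w0' :=
  Submodule.mem_inf.2 ⟨fr.h02.mem_perp.1, fr.h12.mem_perp.1⟩

theorem w1'_mem (fr : Frame3 Q v v' w0 w0' w1 w1' x) : w1' ∈ W1 Q v v' w0 w0' :=
  Submodule.mem_inf.2 ⟨fr.h02.mem_perp.2, fr.h12.mem_perp.2⟩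

/-- vectors of `W_1` are orthogonal to `w0` -/
theorem polar_w0 {w : V} (hw : w ∈ W1 Q v v' w0 w0') : QuadraticMap.polar (⇑Q) w0 w = 0 :=
  ((mem_perp Q w0 w0').1 (Submodule.mem_inf.1 hw).2).1

/-- `E(w0, a) E(w0, b) = E(w0, b) E(w0, a)` at the level of the representation -/
theorem comm_w0 (hQ : (QuadraticMap.polarBilin Q).Nondegenerate) (hdim : 5 ≤ finrank F V)
    (ρ : Representation ℂ ↥(T Q) X) (hw0 : Q w0 = 0) {a b : V}
    (ha : QuadraticMap.polar (⇑Q) w0 a = 0) (hb : QuadraticMap.polar (⇑Q) w0 b = 0) (m : X) :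
    repE Q ρ (E Q w0 a) (repE Q ρ (E Q w0 b) m) = repE Q ρ (E Q w0 b) (repE Q ρ (E Q w0 a) m) := by
  have hTa := E_mem_T Q hQ hdim hw0 ha
  have hTb := E_mem_T Q hQ hdim hw0 hb
  rw [← Module.End.mul_apply, ← Module.End.mul_apply, ← repE_mul Q ρ hTa hTb,
    ← repE_mul Q ρ hTb hTa, E_mul Q hw0 ha hb, E_mul Q hw0 hb ha, add_comm]

/-- the action of a sum -/
theorem rep_add_w0 (hQ : (QuadraticMap.polarBilin Q).Nondegenerate) (hdim : 5 ≤ finrank F V)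
    (ρ : Representation ℂ ↥(T Q) X) (hw0 : Q w0 = 0) {a b : V}
    (ha : QuadraticMap.polar (⇑Q) w0 a = 0) (hb : QuadraticMap.polar (⇑Q) w0 b = 0) (m : X) :
    repE Q ρ (E Q w0 (a + b)) m = repE Q ρ (E Q w0 a) (repE Q ρ (E Q w0 b) m) := by
  have hTa := E_mem_T Q hQ hdim hw0 ha
  have hTb := E_mem_T Q hQ hdim hw0 hb
  rw [← Module.End.mul_apply, ← repE_mul Q ρ hTa hTb, E_mul Q hw0 ha hb]

end facts

/-! ### the stability statements -/

theorem M2_x2 (Q : QuadraticForm F V) (hP : IsOddT Q 3) {v v' w0 w0' w1 w1' x : V}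
    (fr : Frame3 Q v v' w0 w0' w1 w1' x) (ρ : Representation ℂ ↥(T Q) X) (s : F) (m : X)
    (hm : m ∈ M2sp Q ρ v v' w0 w1) : repE Q ρ (xr Q w0 w1' s) m ∈ M2sp Q ρ v v' w0 w1 := by
  have hQ := hP.nondeg
  have hdim := dim5 Q hP
  rw [mem_M2] at hm ⊢
  have hw1' : s • w1' ∈ W1 Q v v' w0 w0' := Submodule.smul_mem _ s (w1'_mem fr)
  refine ⟨?_, fun t => ?_⟩
  · exact Cfsg.Agent.Lib.Helper46_OO2_X0CARD.X0sp_stable_W1 Q hQ hdim fr.h01 ρ _ hw1' m hm.1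
  · have h1 : QuadraticMap.polar (⇑Q) w0 (t • w1) = 0 :=
      polar_w0 (Submodule.smul_mem _ t (w1_mem fr))
    have h2 : QuadraticMap.polar (⇑Q) w0 (s • w1') = 0 := polar_w0 hw1'
    show repE Q ρ (E Q w0 (t • w1)) (repE Q ρ (E Q w0 (s • w1')) m) = repE Q ρ (E Q w0 (s • w1')) m
    rw [comm_w0 hQ hdim ρ fr.h01.pb.qa h1 h2, hm.2 t]

theorem M2_n2 (Q : QuadraticForm F V) (hP : IsOddT Q 3) {v v' w0 w0' w1 w1' x : V}
    (fr : Frame3 Q v v' w0 w0' w1 w1' x) (ρ : Representation ℂ ↥(T Q) X) (m : X)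
    (hm : m ∈ M2sp Q ρ v v' w0 w1) :
    repE Q ρ (nw Q w0 w0' w1 w1' 1) m ∈ M2sp Q ρ v v' w0 w1 := by
  have hQ := hP.nondeg
  have hdim := dim5 Q hP
  rw [mem_M2] at hm ⊢
  have hg : nw Q w0 w0' w1 w1' 1 ∈ T Q := nw_mem_T fr.h12 1
  have hpol : ∀ {a b : V}, QuadraticMap.polar (⇑Q) a b = 0 → QuadraticMap.polar (⇑Q) b a = 0 :=
    fun h => by rw [QuadraticMap.polar_comm]; exact h
  have hgv : nw Q w0 w0' w1 w1' 1 v = v :=
    nw_perp fr.h12 1 fr.h01.ab fr.h01.ab' fr.h02.ab fr.h02.ab'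
  have hgv' : nw Q w0 w0' w1 w1' 1 v' = v' :=
    nw_perp fr.h12 1 fr.h01.a'b fr.h01.a'b' fr.h02.a'b fr.h02.a'b'
  refine ⟨?_, fun t => ?_⟩
  · exact X0sp_stable hQ hdim ρ hg fr.h01.pa.qa ⟨1, one_ne_zero, by rw [hgv, one_smul]⟩
      ⟨1, one_ne_zero, by rw [hgv', one_smul]⟩ hm.1
  · -- `E(w0, t w1) = E(n2 w1, n2 ((-t) w0))`
    have hgw1 : nw Q w0 w0' w1 w1' 1 w1 = -w0 := by
      rw [nw_b fr.h12 one_ne_zero, one_smul]
    have hgw0 : nw Q w0 w0' w1 w1' 1 w0 = w1 := by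
      rw [nw_a fr.h12 one_ne_zero, inv_one, one_smul]
    have hw1w0 : QuadraticMap.polar (⇑Q) w1 w0 = 0 := hpol fr.h12.ab
    have huz : QuadraticMap.polar (⇑Q) w1 ((-t) • w0) = 0 := by
      rw [QuadraticMap.polar_smul_right, hw1w0, smul_zero]
    have hQz : Q ((-t) • w0) = 0 := by
      rw [QuadraticMap.map_smul, fr.h12.pa.qa, smul_zero]
    have hE : E Q w1 ((-t) • w0) ∈ T Q := root_mem_T Q fr.h12.pb.qa hQz huz
    have h1 := repE_conj ρ hg fr.h12.pb.qa huz hE m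
    -- the right-hand side: `E(w1, (-t) w0) = E(w0, t w1)` fixes `m`
    have h2 : E Q w1 ((-t) • w0) = E Q w0 (t • w1) := by
      rw [Cfsg.Agent.Lib.Helper12_OO2_HEIS.E_swap fr.h12.pb.qa hQz huz]
      have hw0w1 : QuadraticMap.polar (⇑Q) w0 (-w1) = 0 := by
        rw [QuadraticMap.polar_neg_right, fr.h12.ab, neg_zero]
      rw [E_smul_left Q fr.h12.pa.qa hw0w1, smul_neg, neg_smul, neg_neg]
    -- the left-hand side
    have h3 : E Q (nw Q w0 w0' w1 w1' 1 w1) (nw Q w0 w0' w1 w1' 1 ((-t) • w0)) =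
        E Q w0 (t • w1) := by
      rw [hgw1, map_smul, hgw0]
      have hw0w1 : QuadraticMap.polar (⇑Q) w0 ((-t) • w1) = 0 := by
        rw [QuadraticMap.polar_smul_right, fr.h12.ab, smul_zero]
      have : (-w0 : V) = (-1 : F) • w0 := by rw [neg_smul, one_smul]
      rw [this, E_smul_left Q fr.h12.pa.qa hw0w1, smul_smul]
      congr 2
      ring
    rw [h3, h2, hm.2 t] at h1
    exact h1

theorem M2_h12 (Q : QuadraticForm F V) (hP : IsOddT Q 3) {v v' w0 w0' w1 w1' x : V}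
    (fr : Frame3 Q v v' w0 w0' w1 w1' x) (ρ : Representation ℂ ↥(T Q) X) (a : F) (ha : a ≠ 0)
    (m : X) (hm : m ∈ M2sp Q ρ v v' w0 w1) :
    repE Q ρ (hh Q v v' w0 w0' a) m ∈ M2sp Q ρ v v' w0 w1 := by
  have hQ := hP.nondeg
  have hdim := dim5 Q hP
  have hg : hh Q v v' w0 w0' a ∈ T Q := hh_mem_T fr.h01 a
  have hpol : ∀ {a b : V}, QuadraticMap.polar (⇑Q) a b = 0 → QuadraticMap.polar (⇑Q) b a = 0 :=
    fun h => by rw [QuadraticMap.polar_comm]; exact h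
  have hgw1 : hh Q v v' w0 w0' a w1 = w1 :=
    hh_perp fr.h01 a (hpol fr.h02.ab) (hpol fr.h02.a'b) (hpol fr.h12.ab) (hpol fr.h12.a'b)
  refine ⟨?_, ?_⟩
  · exact X0sp_stable hQ hdim ρ hg fr.h01.pa.qa ⟨a, ha, hh_a fr.h01 ha⟩
      ⟨a⁻¹, inv_ne_zero ha, hh_a' fr.h01 ha⟩ hm.1
  · refine fixE_stable hQ hdim ρ hg fr.h01.pb.qa (inv_ne_zero ha) (hh_b fr.h01 ha) ?_ ?_ hm.2
    · intro w hw
      obtain ⟨t, rfl⟩ := Submodule.mem_span_singleton.mp hw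
      rw [QuadraticMap.polar_smul_right, fr.h12.ab, smul_zero]
    · intro w hw
      obtain ⟨t, rfl⟩ := Submodule.mem_span_singleton.mp hw
      rw [map_smul]
      have : (hh Q v v' w0 w0' a)⁻¹ w1 = w1 := by
        rw [← hgw1, inv_apply_self, hgw1]
      rw [this]
      exact Submodule.smul_mem _ t (Submodule.mem_span_singleton_self w1)

theorem M2_h23 (Q : QuadraticForm F V) (hP : IsOddT Q 3) {v v' w0 w0' w1 w1' x : V}
    (fr : Frame3 Q v v' w0 w0' w1 w1' x) (ρ : Representation ℂ ↥(T Q) X) (a : F) (ha : a ≠ 0)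
    (m : X) (hm : m ∈ M2sp Q ρ v v' w0 w1) :
    repE Q ρ (hh Q w0 w0' w1 w1' a) m ∈ M2sp Q ρ v v' w0 w1 := by
  have hQ := hP.nondeg
  have hdim := dim5 Q hP
  have hg : hh Q w0 w0' w1 w1' a ∈ T Q := hh_mem_T fr.h12 a
  have hgv : hh Q w0 w0' w1 w1' a v = v :=
    hh_perp fr.h12 a fr.h01.ab fr.h01.ab' fr.h02.ab fr.h02.ab'
  have hgv' : hh Q w0 w0' w1 w1' a v' = v' :=
    hh_perp fr.h12 a fr.h01.a'b fr.h01.a'b' fr.h02.a'b fr.h02.a'b'
  refine ⟨?_, ?_⟩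
  · exact X0sp_stable hQ hdim ρ hg fr.h01.pa.qa ⟨1, one_ne_zero, by rw [hgv, one_smul]⟩
      ⟨1, one_ne_zero, by rw [hgv', one_smul]⟩ hm.1
  · refine fixE_stable hQ hdim ρ hg fr.h12.pa.qa ha (hh_a fr.h12 ha) ?_ ?_ hm.2
    · intro w hw
      obtain ⟨t, rfl⟩ := Submodule.mem_span_singleton.mp hw
      rw [QuadraticMap.polar_smul_right, fr.h12.ab, smul_zero]
    · intro w hw
      obtain ⟨t, rfl⟩ := Submodule.mem_span_singleton.mp hw
      rw [map_smul, inv_smul_of_smul (inv_ne_zero ha) (hh_b fr.h12 ha)]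
      exact Submodule.smul_mem _ t (Submodule.smul_mem _ _ (Submodule.mem_span_singleton_self w1))

theorem F2_le_M2 (Q : QuadraticForm F V) {v v' w0 w0' w1 w1' x : V}
    (fr : Frame3 Q v v' w0 w0' w1 w1' x) (ρ : Representation ℂ ↥(T Q) X) :
    F2sp Q ρ v v' w0 w0' ≤ M2sp Q ρ v v' w0 w1 := by
  intro m hm
  refine ⟨hm.1, fun w hw => hm.2 w ?_⟩
  obtain ⟨t, rfl⟩ := Submodule.mem_span_singleton.mp hw
  exact Submodule.smul_mem _ t (w1_mem fr)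

/-! ### `E(w0, s x)` acts trivially on `M_2` -/

/-- the coordinates of a vector of `W_1` -/
theorem exists_coord (Q : QuadraticForm F V) (hP : IsOddT Q 3) {v v' w0 w0' w1 w1' x : V}
    (fr : Frame3 Q v v' w0 w0' w1 w1' x) {w : V} (hw : w ∈ W1 Q v v' w0 w0') :
    ∃ α β γ : F, w = α • w1 + β • w1' + γ • x := by
  rw [Cfsg.Agent.Lib.Helper61_OO2_BASEL.W1_eq_span Q hP fr] at hw
  obtain ⟨α, β, γ, h⟩ := Submodule.mem_span_triple.1 hw
  exact ⟨α, β, γ, h.symm⟩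

theorem M2_fix_x (Q : QuadraticForm F V) (hq : 4 ≤ Fintype.card F) (hP : IsOddT Q 3)
    {v v' w0 w0' w1 w1' x : V} (fr : Frame3 Q v v' w0 w0' w1 w1' x)
    [DecidableEq ↥(perp Q v v')] (ρ : Representation ℂ ↥(T Q) X) (ψ : AddChar F ℂ) (hψ : ψ ≠ 1)
    (hint : DirectSum.IsInternal (fun u : ↥(perp Q v v') => wsp Q ρ ψ v v' u))
    (f : ℕ) (hW : WData Q ρ ψ v v' 1 f) (m : X) (hm : m ∈ M2sp Q ρ v v' w0 w1) (s : F) :
    repE Q ρ (E Q w0 (s • x)) m = m := by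
  have hQ := hP.nondeg
  have hdim := dim5 Q hP
  have hw0 : Q w0 = 0 := fr.h01.pb.qa
  have hst : ∀ w ∈ W1 Q v v' w0 w0', ∀ m ∈ M2sp Q ρ v v' w0 w1,
      repE Q ρ (E Q w0 w) m ∈ M2sp Q ρ v v' w0 w1 := by
    intro w hw m hm
    rw [mem_M2] at hm ⊢
    refine ⟨Cfsg.Agent.Lib.Helper46_OO2_X0CARD.X0sp_stable_W1 Q hQ hdim fr.h01 ρ w hw m hm.1,
      fun t => ?_⟩
    rw [comm_w0 hQ hdim ρ hw0 (polar_w0 (Submodule.smul_mem _ t (w1_mem fr))) (polar_w0 hw),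
      hm.2 t]
  have hdec := Cfsg.Agent.Lib.Helper95_OO2_X0DEC.le_iSup_wsp2 Q hQ hdim fr.h01 ρ ψ hψ
    (M2sp Q ρ v v' w0 w1) inf_le_left hst
  have key : ∀ z : ↥(W1 Q v v' w0 w0'),
      M2sp Q ρ v v' w0 w1 ⊓ wsp2 Q ρ ψ v v' w0 w0' (z : V) ≤
        fixE Q ρ w0 (Submodule.span F {x}) := by
    rintro ⟨z, hz⟩ m' ⟨hm1, hm2⟩
    show m' ∈ fixE Q ρ w0 (Submodule.span F {x})
    by_cases hm0 : m' = 0
    · rw [hm0]
      exact Submodule.zero_mem _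
    have hm1' := (mem_M2 Q ρ v v' w0 w1 m').1 hm1
    have heig : ∀ w ∈ W1 Q v v' w0 w0',
        repE Q ρ (E Q w0 w) m' = ψ (QuadraticMap.polar (⇑Q) z w) • m' := hm2.2
    -- `z` is singular
    have hQz : Q z = 0 := by
      by_contra hne
      have hbot := Cfsg.Agent.Lib.Helper43_OO2_WSP2.wsp2_eq_bot Q 3 le_rfl hq hP fr.h01 ρ ψ hψ hint
        f hW z hz hne
      have : m' ∈ (⊥ : Submodule ℂ X) := by
        rw [← hbot]
        exact hm2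
      exact hm0 ((Submodule.mem_bot ℂ).1 this)
    -- `z ⊥ w1`
    have hzw1 : QuadraticMap.polar (⇑Q) z w1 = 0 := by
      by_contra hne
      apply hψ
      ext a
      have h1 := heig ((a / QuadraticMap.polar (⇑Q) z w1) • w1)
        (Submodule.smul_mem _ _ (w1_mem fr))
      rw [hm1'.2, QuadraticMap.polar_smul_right, smul_eq_mul, div_mul_cancel₀ _ hne] at h1
      have h2 : (1 : ℂ) • m' = ψ a • m' := by rw [one_smul]; exact h1
      have h3 := smul_left_injective ℂ hm0 h2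
      rw [AddChar.one_apply]
      exact h3.symm
    -- coordinates of `z`
    have hzs : z ∈ Submodule.span F {w1, w1', x} := by
      rw [← Cfsg.Agent.Lib.Helper61_OO2_BASEL.W1_eq_span Q hP fr]
      exact hz
    obtain ⟨γ, hγ⟩ := Cfsg.Agent.Lib.Helper61_OO2_BASEL.decomp3 Q fr.h12.pb.qa fr.h12.pb.qa'
      fr.h12.pb.aa' fr.xw1 fr.xw1' hzs
    rw [hzw1, zero_smul, add_zero] at hγ
    have hw1x : QuadraticMap.polar (⇑Q) w1 x = 0 := by
      rw [QuadraticMap.polar_comm]; exact fr.xw1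
    have hγ0 : γ = 0 := by
      have h1 : Q z = γ * γ * Q x := by
        conv_lhs => rw [hγ]
        rw [QuadraticMap.map_add (⇑Q), QuadraticMap.map_smul, QuadraticMap.map_smul, fr.h12.pb.qa,
          QuadraticMap.polar_smul_left, QuadraticMap.polar_smul_right, hw1x]
        simp
      rw [hQz] at h1
      have h2 : γ * γ = 0 := by
        rcases mul_eq_zero.mp h1.symm with h | h
        · exact h
        · exact absurd h fr.qx
      exact mul_self_eq_zero.mp h2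
    rw [hγ0, zero_smul, add_zero] at hγ
    intro w hw
    obtain ⟨t, rfl⟩ := Submodule.mem_span_singleton.mp hw
    rw [heig (t • x) (Submodule.smul_mem _ t fr.xW1)]
    have : QuadraticMap.polar (⇑Q) z (t • x) = 0 := by
      rw [hγ, QuadraticMap.polar_smul_left, QuadraticMap.polar_smul_right, hw1x]
      simp
    rw [this, AddChar.map_zero_eq_one, one_smul]
  have hle : M2sp Q ρ v v' w0 w1 ≤ fixE Q ρ w0 (Submodule.span F {x}) :=
    hdec.trans (iSup_le key)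
  exact hle hm _ (Submodule.smul_mem _ s (Submodule.mem_span_singleton_self x))

theorem M2_fix (Q : QuadraticForm F V) (hq : 4 ≤ Fintype.card F) (hP : IsOddT Q 3)
    {v v' w0 w0' w1 w1' x : V} (fr : Frame3 Q v v' w0 w0' w1 w1' x)
    [DecidableEq ↥(perp Q v v')] (ρ : Representation ℂ ↥(T Q) X) (ψ : AddChar F ℂ) (hψ : ψ ≠ 1)
    (hint : DirectSum.IsInternal (fun u : ↥(perp Q v v') => wsp Q ρ ψ v v' u))
    (f : ℕ) (hW : WData Q ρ ψ v v' 1 f) (m : X) (hm : m ∈ M2sp Q ρ v v' w0 w1)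
    (hfix : ∀ s : F, repE Q ρ (xr Q w0 w1' s) m = m) : m ∈ F2sp Q ρ v v' w0 w0' := by
  have hQ := hP.nondeg
  have hdim := dim5 Q hP
  have hw0 : Q w0 = 0 := fr.h01.pb.qa
  have hm' := (mem_M2 Q ρ v v' w0 w1 m).1 hm
  refine ⟨hm'.1, fun w hw => ?_⟩
  obtain ⟨α, β, γ, rfl⟩ := exists_coord Q hP fr hw
  have h1 : QuadraticMap.polar (⇑Q) w0 (α • w1) = 0 :=
    polar_w0 (Submodule.smul_mem _ α (w1_mem fr))
  have h2 : QuadraticMap.polar (⇑Q) w0 (β • w1') = 0 :=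
    polar_w0 (Submodule.smul_mem _ β (w1'_mem fr))
  have h3 : QuadraticMap.polar (⇑Q) w0 (γ • x) = 0 :=
    polar_w0 (Submodule.smul_mem _ γ fr.xW1)
  have h12 : QuadraticMap.polar (⇑Q) w0 (α • w1 + β • w1') = 0 := by
    rw [QuadraticMap.polar_add_right, h1, h2, add_zero]
  rw [rep_add_w0 hQ hdim ρ hw0 h12 h3, M2_fix_x Q hq hP fr ρ ψ hψ hint f hW m hm γ,
    rep_add_w0 hQ hdim ρ hw0 h1 h2]
  have hx2 : repE Q ρ (E Q w0 (β • w1')) m = m := hfix β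
  rw [hx2, hm'.2 α]

theorem M2_line (Q : QuadraticForm F V) (hq : 4 ≤ Fintype.card F) (hP : IsOddT Q 3)
    {v v' w0 w0' w1 w1' x : V} (fr : Frame3 Q v v' w0 w0' w1 w1' x)
    [DecidableEq ↥(perp Q v v')] (ρ : Representation ℂ ↥(T Q) X) (ψ : AddChar F ℂ) (hψ : ψ ≠ 1)
    (hint : DirectSum.IsInternal (fun u : ↥(perp Q v v') => wsp Q ρ ψ v v' u))
    (f : ℕ) (hW : WData Q ρ ψ v v' 1 f) (c : F) (hc : c ≠ 0) (m m' : X)
    (hm : m ∈ M2sp Q ρ v v' w0 w1) (hm' : m' ∈ M2sp Q ρ v v' w0 w1)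
    (he : ∀ s : F, repE Q ρ (xr Q w0 w1' s) m = ψ (c * s) • m)
    (he' : ∀ s : F, repE Q ρ (xr Q w0 w1' s) m' = ψ (c * s) • m') (hm'0 : m' ≠ 0) :
    ∃ a : ℂ, m = a • m' := by
  have hQ := hP.nondeg
  have hdim := dim5 Q hP
  have hw0 : Q w0 = 0 := fr.h01.pb.qa
  have hw1x : QuadraticMap.polar (⇑Q) w1 x = 0 := by
    rw [QuadraticMap.polar_comm]; exact fr.xw1
  have hw1w1 : QuadraticMap.polar (⇑Q) w1 w1 = 0 := pol_aa fr.h12.symm
  -- both vectors lie in the level-2 weight space of `c • w1`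
  have hmem : ∀ y : X, y ∈ M2sp Q ρ v v' w0 w1 →
      (∀ s : F, repE Q ρ (xr Q w0 w1' s) y = ψ (c * s) • y) →
      y ∈ wsp2 Q ρ ψ v v' w0 w0' (c • w1) := by
    intro y hy hey
    have hy' := (mem_M2 Q ρ v v' w0 w1 y).1 hy
    refine ⟨hy'.1, fun w hw => ?_⟩
    obtain ⟨α, β, γ, rfl⟩ := exists_coord Q hP fr hw
    have h1 : QuadraticMap.polar (⇑Q) w0 (α • w1) = 0 :=
      polar_w0 (Submodule.smul_mem _ α (w1_mem fr))
    have h2 : QuadraticMap.polar (⇑Q) w0 (β • w1') = 0 :=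
      polar_w0 (Submodule.smul_mem _ β (w1'_mem fr))
    have h3 : QuadraticMap.polar (⇑Q) w0 (γ • x) = 0 :=
      polar_w0 (Submodule.smul_mem _ γ fr.xW1)
    have h12 : QuadraticMap.polar (⇑Q) w0 (α • w1 + β • w1') = 0 := by
      rw [QuadraticMap.polar_add_right, h1, h2, add_zero]
    rw [rep_add_w0 hQ hdim ρ hw0 h12 h3, M2_fix_x Q hq hP fr ρ ψ hψ hint f hW y hy γ,
      rep_add_w0 hQ hdim ρ hw0 h1 h2]
    have hx2 : repE Q ρ (E Q w0 (β • w1')) y = ψ (c * β) • y := hey β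
    rw [hx2, map_smul, hy'.2 α]
    congr 2
    simp only [QuadraticMap.polar_add_right, QuadraticMap.polar_smul_right,
      QuadraticMap.polar_smul_left, hw1w1, fr.h12.pb.aa', hw1x, smul_eq_mul]
    ring
  have hz : c • w1 ∈ W1 Q v v' w0 w0' := Submodule.smul_mem _ c (w1_mem fr)
  have hw1ne : w1 ≠ 0 := by
    intro h0
    have := fr.h12.pb.aa'
    rw [h0, QuadraticMap.polar_zero_left] at this
    exact zero_ne_one this
  have hz0 : c • w1 ≠ 0 := smul_ne_zero hc hw1ne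
  have hQz : Q (c • w1) = 0 := by
    rw [QuadraticMap.map_smul, fr.h12.pb.qa, smul_zero]
  have hfr := Cfsg.Agent.Lib.Helper43_OO2_WSP2.finrank_wsp2 Q 3 le_rfl hq hP fr.h01 ρ ψ hψ hint f hW
    (c • w1) hz hz0 hQz
  have hne : (⟨m', hmem m' hm' he'⟩ : ↥(wsp2 Q ρ ψ v v' w0 w0' (c • w1))) ≠ 0 := by
    intro h0
    exact hm'0 (congrArg Subtype.val h0)
  obtain ⟨a, ha⟩ := (finrank_eq_one_iff_of_nonzero' _ hne).1 hfr ⟨m, hmem m hm he⟩
  exact ⟨a, (congrArg Subtype.val ha).symm⟩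

end Cfsg.Agent.Lib.Helper16_OO2_M2
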