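import Mathlib
import Cfsg.Agent.S4503
import Cfsg.Agent.Lib.Helper3_Brauer503R

/-!
# Ordinary-character glue for S4504 (helper3)

* `irr_of_half`: under the hypotheses of S4504 (`p ∥ |G|`, no normal subgroup of order `p`, `χ` a
  faithful character with `2 χ(1) + 1 = p`) the character `χ` is irreducible.
-/

set_option autoImplicit false

namespace Cfsg.Agent.Lib.Helper3_Brauer504A

open Cfsg Cfsg.Agent.Lib.Helper76_GalConj Cfsg.Agent.Lib.Helper80_CharBasic
  Cfsg.Agent.Lib.Helper3_Brauer503R Cfsg.Agent.Lib.Helper75_CharArith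

universe u

section grp

set_option linter.unusedSectionVars false

variable {G : Type*} [Group G] [Finite G] {p : ℕ} [hp : Fact p.Prime]

/-- Elements of `P ⊔ K` (`K` normal, `|P| = p`) have their `p`-th power in `K`. -/
theorem pow_mem_of_mem_sup (P : Sylow p G) (hP : Nat.card (P : Subgroup G) = p) (K : Subgroup G)
    [K.Normal] {g : G} (hg : g ∈ (P : Subgroup G) ⊔ K) : g ^ p ∈ K := by
  rw [Subgroup.mem_sup_of_normal_right] at hg
  obtain ⟨a, ha, k, hk, rfl⟩ := hg
  rw [← QuotientGroup.eq_one_iff, QuotientGroup.mk_pow, QuotientGroup.mk_mul,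
    (QuotientGroup.eq_one_iff k).mpr hk, mul_one, ← QuotientGroup.mk_pow]
  have : a ^ p = 1 := by
    have h1 : (⟨a, ha⟩ : ↥(P : Subgroup G)) ^ Nat.card (P : Subgroup G) = 1 := pow_card_eq_one'
    rw [hP] at h1
    exact congrArg Subtype.val h1
  rw [this, QuotientGroup.mk_one]

/-- A normal subgroup of exponent `p` containing the Sylow subgroup `P` is `P`. -/
theorem eq_of_exponent (P : Sylow p G) (L : Subgroup G) (hPL : (P : Subgroup G) ≤ L)
    (hL : ∀ g ∈ L, g ^ p = 1) : L = (P : Subgroup G) := by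
  have hLp : IsPGroup p L := by
    intro g
    refine ⟨1, ?_⟩
    rw [pow_one]
    exact Subtype.ext (hL g g.2)
  exact P.is_maximal' hLp hPL

end grp

section main

open Cfsg.Agent.Lib.Helper75_Clifford

/-- Under the hypotheses of S4504 the faithful character `χ` of degree `(p - 1) / 2` is
irreducible. -/
theorem irr_of_half {G : Type u} [Group G] [Finite G] (p : ℕ) (hp : p.Prime)
    (hdiv : p ∣ Nat.card G) (hsq : ¬ p ^ 2 ∣ Nat.card G)
    (hnn : ∀ H : Subgroup G, H.Normal → Nat.card H ≠ p) (χ : G → ℂ)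
    (hχ : Cfsg.IsCharacter G χ) (hfaith : ∀ g : G, χ g = χ 1 → g = 1)
    (hdeg : 2 * Cfsg.charDegree χ + 1 = p) : Cfsg.IsIrrCharacter G χ := by
  classical
  have : Fact p.Prime := ⟨hp⟩
  have : Fintype G := Fintype.ofFinite G
  obtain ⟨P⟩ : Nonempty (Sylow p G) := inferInstance
  have hPc : Nat.card (P : Subgroup G) = p :=
    Cfsg.Agent.Lib.Helper78_McKayA.card_sylow_eq hdiv hsq P
  have hPn : ¬ (P : Subgroup G).Normal := fun h => hnn _ h hPc
  obtain ⟨m, hm, hsum⟩ := exists_multiplicities hχ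
  -- some constituent `ψ` has `P ⊔ ker ψ` not normal
  have hex : ∃ ψ : IrrCharacter G, m ψ ≠ 0 ∧ ¬ ((P : Subgroup G) ⊔ kerC ψ).Normal := by
    by_contra hall
    push Not at hall
    apply hPn
    set L : Subgroup G := ⨅ ψ : {ψ : IrrCharacter G // m ψ ≠ 0}, (P : Subgroup G) ⊔ kerC ψ.1
      with hL
    have hLn : L.Normal := by
      have : ∀ ψ : {ψ : IrrCharacter G // m ψ ≠ 0}, ((P : Subgroup G) ⊔ kerC ψ.1).Normal :=
        fun ψ => hall ψ.1 ψ.2
      exact Subgroup.normal_iInf_normal this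
    have hPL : (P : Subgroup G) ≤ L := le_iInf fun ψ => le_sup_left
    have hLe : ∀ g ∈ L, g ^ p = 1 := by
      intro g hg
      apply hfaith
      apply apply_eq_of_mem_kers m hsum
      intro ψ hψ
      have hg' : g ∈ (P : Subgroup G) ⊔ kerC ψ := (Subgroup.mem_iInf.mp hg) ⟨ψ, hψ⟩
      exact pow_mem_of_mem_sup P hPc (kerC ψ) hg'
    rw [← eq_of_exponent P L hPL hLe]
    exact hLn
  obtain ⟨ψ, hmψ, hnotn⟩ := hex
  -- the kernel of `ψ` is a `p'`-group
  have hcardmul : Nat.card G = Nat.card (G ⧸ kerC ψ) * Nat.card (kerC ψ) :=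
    Subgroup.card_eq_card_quotient_mul_card_subgroup (kerC ψ)
  -- a `p`-element maps to `1` in a quotient of order prime to `p`
  have hPle : ∀ N : Subgroup G, N.Normal → ¬ p ∣ N.index → (P : Subgroup G) ≤ N := by
    intro N hN hidx a ha
    have h1 : a ^ p = 1 := by
      have h1 : (⟨a, ha⟩ : ↥(P : Subgroup G)) ^ Nat.card (P : Subgroup G) = 1 := pow_card_eq_one'
      rw [hPc] at h1
      exact congrArg Subtype.val h1
    have h2 : orderOf (QuotientGroup.mk a : G ⧸ N) ∣ p := by
      apply orderOf_dvd_of_pow_eq_one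
      rw [← QuotientGroup.mk_pow, h1, QuotientGroup.mk_one]
    have h3 : orderOf (QuotientGroup.mk a : G ⧸ N) ∣ N.index := by
      rw [Subgroup.index_eq_card]
      exact orderOf_dvd_natCard _
    rcases (Nat.dvd_prime hp).mp h2 with h4 | h4
    · exact (QuotientGroup.eq_one_iff a).mp (orderOf_eq_one_iff.mp h4)
    · exact absurd (h4 ▸ h3) hidx
  have hpK : ¬ p ∣ Nat.card (kerC ψ) := by
    intro hdvd
    apply hnotn
    have hidx : ¬ p ∣ (kerC ψ).index := by
      intro h
      apply hsq
      rw [pow_two, ← Subgroup.index_mul_card (kerC ψ)]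
      exact Nat.mul_dvd_mul h hdvd
    rw [sup_eq_right.mpr (hPle (kerC ψ) inferInstance hidx)]
    infer_instance
  have hqdiv : p ∣ Nat.card (G ⧸ kerC ψ) := by
    rw [hcardmul] at hdiv
    rcases (Nat.Prime.dvd_mul hp).mp hdiv with h | h
    · exact h
    · exact absurd h hpK
  have hqsq : ¬ p ^ 2 ∣ Nat.card (G ⧸ kerC ψ) := fun h =>
    hsq (hcardmul ▸ Dvd.dvd.mul_right h _)
  have hqnn : ∀ H : Subgroup (G ⧸ kerC ψ), H.Normal → Nat.card H ≠ p := by
    intro H hH hHc
    apply hnotn
    have hcomapN : (H.comap (QuotientGroup.mk' (kerC ψ))).Normal := hH.comap _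
    have hidx : ¬ p ∣ (H.comap (QuotientGroup.mk' (kerC ψ))).index := by
      rw [Subgroup.index_comap_of_surjective _ (QuotientGroup.mk'_surjective _)]
      intro h
      apply hqsq
      rw [pow_two, ← Subgroup.index_mul_card H, hHc]
      exact Nat.mul_dvd_mul_right h p
    have hP' := hPle _ hcomapN hidx
    -- the image of `P` is all of `H`
    have hmapH : (P : Subgroup G).map (QuotientGroup.mk' (kerC ψ)) = H := by
      apply Subgroup.eq_of_le_of_card_ge
      · rintro _ ⟨a, ha, rfl⟩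
        exact hP' ha
      · rw [hHc]
        have h1 : Nat.card ((P : Subgroup G).map (QuotientGroup.mk' (kerC ψ))) ∣ p := by
          have := Subgroup.card_map_dvd (H := (P : Subgroup G)) (QuotientGroup.mk' (kerC ψ))
          rwa [hPc] at this
        rcases (Nat.dvd_prime hp).mp h1 with h2 | h2
        · exfalso
          apply hpK
          have hle : (P : Subgroup G) ≤ kerC ψ := by
            intro a ha
            have : (QuotientGroup.mk' (kerC ψ)) a ∈
                (P : Subgroup G).map (QuotientGroup.mk' (kerC ψ)) := ⟨a, ha, rfl⟩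
            rw [(Subgroup.card_eq_one).mp h2, Subgroup.mem_bot] at this
            exact (QuotientGroup.eq_one_iff a).mp this
          have := Subgroup.card_dvd_of_le hle
          rwa [hPc] at this
        · exact h2.ge
    have heq : (P : Subgroup G) ⊔ kerC ψ = H.comap (QuotientGroup.mk' (kerC ψ)) := by
      apply le_antisymm
      · apply sup_le hP'
        intro k hk
        rw [Subgroup.mem_comap, QuotientGroup.mk'_apply, (QuotientGroup.eq_one_iff k).mpr hk]
        exact H.one_mem
      · intro g hg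
        rw [Subgroup.mem_comap, ← hmapH] at hg
        obtain ⟨a, ha, hag⟩ := hg
        have hk : a⁻¹ * g ∈ kerC ψ := by
          rw [← QuotientGroup.eq_one_iff, QuotientGroup.mk_mul, QuotientGroup.mk_inv]
          rw [QuotientGroup.mk'_apply, QuotientGroup.mk'_apply] at hag
          rw [hag, inv_mul_cancel]
        have : g = a * (a⁻¹ * g) := by group
        rw [this]
        exact Subgroup.mul_mem _ (Subgroup.mem_sup_left ha) (Subgroup.mem_sup_right hk)
    rw [heq]
    exact hcomapN
  -- deflate `ψ` and apply S4503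
  obtain ⟨ψq, hψq⟩ := exists_quot_char (kerC ψ) ψ le_rfl
  have hqdeg : charDegree (ψq : G ⧸ kerC ψ → ℂ) = charDegree (ψ : G → ℂ) := by
    rw [← charDegree_infl (kerC ψ) ψq, hψq]
  have hqfaith : ∀ x : G ⧸ kerC ψ,
      (ψq : G ⧸ kerC ψ → ℂ) x = (ψq : G ⧸ kerC ψ → ℂ) 1 → x = 1 := by
    intro x hx
    obtain ⟨g, rfl⟩ := QuotientGroup.mk_surjective x
    rw [QuotientGroup.eq_one_iff, mem_kerC, ← hψq]
    simpa using hx
  have hbound := Cfsg.Agent.S4503.result p hp hqdiv hqsq hqnn (ψq : G ⧸ kerC ψ → ℂ)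
    (Cfsg.Agent.Lib.Helper3_CharBridge.isCharacter_of_isIrrCharacter ψq.2) hqfaith
  rw [hqdeg] at hbound
  have hle := charDegree_le_of_mult m hsum ψ hmψ
  have hdeq : charDegree (ψ : G → ℂ) = charDegree χ := by omega
  -- all other multiplicities vanish
  have hsumdeg := charDegree_eq_sum m hsum
  rw [← Finset.add_sum_erase Finset.univ _ (Finset.mem_univ ψ), hdeq] at hsumdeg
  have hdpos : 0 < charDegree χ := hdeq ▸ charDegree_pos ψ
  have hm1 : m ψ = 1 := by
    have h1 : m ψ * charDegree χ ≤ charDegree χ := by omega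
    have h2 : m ψ ≤ 1 := by
      by_contra h
      push Not at h
      have : 2 * charDegree χ ≤ m ψ * charDegree χ := Nat.mul_le_mul_right _ h
      omega
    omega
  have hrest : ∑ ψ' ∈ Finset.univ.erase ψ, m ψ' * charDegree (ψ' : G → ℂ) = 0 := by
    rw [hm1, one_mul] at hsumdeg
    omega
  have hm0 : ∀ ψ' : IrrCharacter G, ψ' ≠ ψ → m ψ' = 0 := by
    intro ψ' hne
    have := (Finset.sum_eq_zero_iff.mp hrest) ψ' (Finset.mem_erase.mpr ⟨hne, Finset.mem_univ _⟩)
    rcases Nat.mul_eq_zero.mp this with h | h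
    · exact h
    · exact absurd h (charDegree_pos ψ').ne'
  have hχψ : χ = (ψ : G → ℂ) := by
    rw [hsum, Finset.sum_eq_single ψ]
    · rw [hm1, Nat.cast_one, one_smul]
    · intro ψ' _ hne
      rw [hm0 ψ' hne, Nat.cast_zero, zero_smul]
    · intro h
      exact absurd (Finset.mem_univ ψ) h
  rw [hχψ]
  exact ψ.2

/-- Under the hypotheses of S4504, the restriction of `χ` to a normal subgroup of order divisible
by `p` (for instance the normal closure of a Sylow `p`-subgroup) is still irreducible. -/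
theorem irr_res_of_normal {G : Type u} [Group G] [Finite G] (p : ℕ) (hp : p.Prime)
    (hsq : ¬ p ^ 2 ∣ Nat.card G)
    (hnn : ∀ H : Subgroup G, H.Normal → Nat.card H ≠ p) (χ : G → ℂ)
    (hχ : Cfsg.IsCharacter G χ) (hfaith : ∀ g : G, χ g = χ 1 → g = 1)
    (hdeg : 2 * Cfsg.charDegree χ + 1 = p) (N : Subgroup G) [N.Normal]
    (hpN : p ∣ Nat.card N) : Cfsg.IsIrrCharacter ↥N (res N χ) := by
  have : Fact p.Prime := ⟨hp⟩
  have hsqN : ¬ p ^ 2 ∣ Nat.card N :=
    fun h => hsq (h.trans (Subgroup.card_subgroup_dvd_card N))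
  have hnnN : ∀ Q : Subgroup N, Q.Normal → Nat.card Q ≠ p := by
    intro Q hQ hQc
    obtain ⟨H, hH, hHc⟩ := exists_normal_of_normal_sub hsq N Q hQc
    exact hnn H hH hHc
  exact irr_of_half p hp hpN hsqN hnnN (res N χ) (isCharacter_res N hχ)
    (res_faithful N χ hfaith) (by rw [charDegree_res]; exact hdeg)

end main


end Cfsg.Agent.Lib.Helper3_Brauer504A
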