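import Cfsg.Prelude.Def_FusionSystem
import Cfsg.Prelude.Def_FusionComponents

/-!
Basic API for `Cfsg.FusionSystem` (helper85). Everything lives in
`Cfsg.Agent.Lib.Helper85_Fusion`.
-/

set_option autoImplicit false

namespace Cfsg.Agent.Lib.Helper85_Fusion

open Cfsg Cfsg.FusionSystem

universe u

variable {Ω : Type u} [Group Ω] {S : Subgroup Ω}

/-- `conjHom P 1` is the inclusion. -/
theorem conjHom_one (P : Subgroup Ω) : conjHom P (1 : Ω) = P.subtype := by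
  ext x
  simp [conjHom]

theorem conjHom_apply (P : Subgroup Ω) (g : Ω) (x : P) : conjHom P g x = g * (x : Ω) * g⁻¹ := rfl

/-- The inclusion of a subgroup of `S` is a map of the system. -/
theorem subtype_mem (F : FusionSystem S) {P : Subgroup Ω} (hP : P ≤ S) : P.subtype ∈ F.Hom P := by
  have h := F.conj_mem hP S.one_mem
  rwa [conjHom_one] at h

/-- The source of a map lies in `S`. -/
theorem source_le (F : FusionSystem S) {P : Subgroup Ω} {φ : P →* Ω} (hφ : φ ∈ F.Hom P) : P ≤ S :=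
  (F.le_of_mem hφ).1

/-- The values of a map lie in `S`. -/
theorem apply_mem (F : FusionSystem S) {P : Subgroup Ω} {φ : P →* Ω} (hφ : φ ∈ F.Hom P) (x : P) : φ x ∈ S :=
  (F.le_of_mem hφ).2 x

/-- The range of a map lies in `S`. -/
theorem range_le (F : FusionSystem S) {P : Subgroup Ω} {φ : P →* Ω} (hφ : φ ∈ F.Hom P) : φ.range ≤ S := by
  rintro _ ⟨x, rfl⟩
  exact apply_mem F hφ x

/-- Restriction of a map to a smaller subgroup is a map. -/
theorem restrict_mem (F : FusionSystem S) {P R : Subgroup Ω} (hRP : R ≤ P) {φ : P →* Ω}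
    (hφ : φ ∈ F.Hom P) : φ.comp (Subgroup.inclusion hRP) ∈ F.Hom R := by
  have h1 : R.subtype ∈ F.Hom R := subtype_mem F (hRP.trans (source_le F hφ))
  have h2 := F.comp_mem h1 hφ (fun x => hRP x.2)
  have h3 : φ.comp (R.subtype.codRestrict P (fun x => hRP x.2)) = φ.comp (Subgroup.inclusion hRP) := by
    ext x
    rfl
  rwa [h3] at h2

/-- Transport of a map along an equality of sources. -/
theorem cast_mem (F : FusionSystem S) {P P' : Subgroup Ω} (h : P' = P) {φ : P →* Ω}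
    (hφ : φ ∈ F.Hom P) : φ.comp (Subgroup.inclusion h.le) ∈ F.Hom P' :=
  restrict_mem F h.le hφ

/-- Composition, in applied form. -/
theorem comp_mem' (F : FusionSystem S) {P Q : Subgroup Ω} {φ : P →* Ω} {ψ : Q →* Ω}
    (hφ : φ ∈ F.Hom P) (hψ : ψ ∈ F.Hom Q) (h : ∀ x : P, φ x ∈ Q) :
    ∃ χ ∈ F.Hom P, ∀ x : P, χ x = ψ ⟨φ x, h x⟩ :=
  ⟨ψ.comp (φ.codRestrict Q h), F.comp_mem hφ hψ h, fun _ => rfl⟩

/-- A map followed by conjugation by an element of `S`. -/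
theorem conj_comp_mem (F : FusionSystem S) {P : Subgroup Ω} {φ : P →* Ω} (hφ : φ ∈ F.Hom P)
    {g : Ω} (hg : g ∈ S) : ∃ χ ∈ F.Hom P, ∀ x : P, χ x = g * φ x * g⁻¹ := by
  have h1 : conjHom S g ∈ F.Hom S := F.conj_mem le_rfl hg
  obtain ⟨χ, hχ, h⟩ := comp_mem' F hφ h1 (apply_mem F hφ)
  exact ⟨χ, hχ, fun x => by rw [h]; rfl⟩

/-- Two maps of the system with equal values are equal as elements of `Hom`. -/
theorem mem_of_eq (F : FusionSystem S) {P : Subgroup Ω} {φ ψ : P →* Ω} (hφ : φ ∈ F.Hom P)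
    (h : ∀ x : P, ψ x = φ x) : ψ ∈ F.Hom P := by
  have : ψ = φ := MonoidHom.ext h
  rwa [this]

/-- The inverse of a map, as a map on the range (restated). -/
theorem inv_mem' (F : FusionSystem S) {P : Subgroup Ω} {φ : P →* Ω} (hφ : φ ∈ F.Hom P) :
    ∃ ψ ∈ F.Hom φ.range, (∀ x : P, ψ ⟨φ x, ⟨x, rfl⟩⟩ = (x : Ω)) ∧ ψ.range = P := by
  obtain ⟨ψ, hψ, h⟩ := F.inv_mem hφ
  refine ⟨ψ, hψ, h, ?_⟩
  apply le_antisymm
  · rintro _ ⟨⟨_, x, rfl⟩, rfl⟩
    rw [h]
    exact x.2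
  · intro x hx
    exact ⟨⟨φ ⟨x, hx⟩, ⟨⟨x, hx⟩, rfl⟩⟩, h ⟨x, hx⟩⟩

/-! ### Conjugacy of subgroups -/

theorem isConj_refl (F : FusionSystem S) {P : Subgroup Ω} (hP : P ≤ S) : F.IsConj P P :=
  ⟨P.subtype, subtype_mem F hP, P.range_subtype⟩

theorem isConj_symm (F : FusionSystem S) {P Q : Subgroup Ω} (h : F.IsConj P Q) : F.IsConj Q P := by
  obtain ⟨φ, hφ, rfl⟩ := h
  obtain ⟨ψ, hψ, -, hr⟩ := inv_mem' F hφ
  exact ⟨ψ, hψ, hr⟩

theorem isConj_trans (F : FusionSystem S) {P Q R : Subgroup Ω} (h₁ : F.IsConj P Q)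
    (h₂ : F.IsConj Q R) : F.IsConj P R := by
  obtain ⟨φ, hφ, rfl⟩ := h₁
  obtain ⟨ψ, hψ, rfl⟩ := h₂
  refine ⟨ψ.comp (φ.codRestrict φ.range fun x => ⟨x, rfl⟩), F.comp_mem hφ hψ _, ?_⟩
  apply le_antisymm
  · rintro _ ⟨x, rfl⟩
    exact ⟨_, rfl⟩
  · rintro _ ⟨⟨_, x, rfl⟩, rfl⟩
    exact ⟨x, rfl⟩

theorem isConj_le_left (F : FusionSystem S) {P Q : Subgroup Ω} (h : F.IsConj P Q) : P ≤ S := by
  obtain ⟨φ, hφ, rfl⟩ := h
  exact source_le F hφ

theorem isConj_le_right (F : FusionSystem S) {P Q : Subgroup Ω} (h : F.IsConj P Q) : Q ≤ S := by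
  obtain ⟨φ, hφ, rfl⟩ := h
  exact range_le F hφ

/-- Conjugate subgroups have the same cardinality. -/
theorem isConj_card_eq (F : FusionSystem S) {P Q : Subgroup Ω} (h : F.IsConj P Q) :
    Nat.card P = Nat.card Q := by
  obtain ⟨φ, hφ, rfl⟩ := h
  exact Nat.card_congr (Equiv.ofInjective φ (F.injective_of_mem hφ))

/-! ### The automorphism group of the system on a subgroup -/

/-- For `P ≤ S` the generating set of `Aut_F(P)` is already a subgroup. -/
theorem mem_autGroup_iff (F : FusionSystem S) {P : Subgroup Ω} (hP : P ≤ S) (α : MulAut P) :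
    α ∈ F.autGroup P ↔ P.subtype.comp α.toMonoidHom ∈ F.Hom P := by
  constructor
  · intro h
    unfold FusionSystem.autGroup at h
    induction h using Subgroup.closure_induction with
    | mem x hx => exact hx
    | one => exact subtype_mem F hP
    | mul x y _ _ hx hy =>
      have h2 := F.comp_mem hy hx (fun z => (y z).2)
      refine mem_of_eq F h2 (fun z => ?_)
      rfl
    | inv x _ hx =>
      obtain ⟨ψ, hψ, h1⟩ := F.inv_mem hx
      have hle : P ≤ (P.subtype.comp x.toMonoidHom).range := by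
        intro y hy
        refine ⟨x⁻¹ ⟨y, hy⟩, ?_⟩
        show ((x (x⁻¹ ⟨y, hy⟩) : P) : Ω) = y
        rw [MulAut.apply_inv_self]
      have h2 := restrict_mem F hle hψ
      refine mem_of_eq F h2 (fun z => ?_)
      have h3 := h1 (x⁻¹ z)
      show ((x⁻¹ z : P) : Ω) = ψ ⟨z, _⟩
      rw [← h3]
      congr 1
      apply Subtype.ext
      show ((x (x⁻¹ z) : P) : Ω) = (z : Ω)
      rw [MulAut.apply_inv_self]
  · intro h
    exact Subgroup.subset_closure h

/-- If `P` is not contained in `S` then `Aut_F(P)` is trivial. -/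
theorem autGroup_eq_bot_of_not_le (F : FusionSystem S) {P : Subgroup Ω} (hP : ¬ P ≤ S) :
    F.autGroup P = ⊥ := by
  unfold FusionSystem.autGroup
  rw [Subgroup.closure_eq_bot_iff]
  intro α hα
  exact absurd (source_le F hα) hP

/-- Membership in `Aut_K(P)`: the generating set is already a subgroup. -/
theorem mem_autInducedBy_iff (K P : Subgroup Ω) (α : MulAut P) :
    α ∈ autInducedBy K P ↔ ∃ g ∈ K, ∀ x : P, ((α x : P) : Ω) = g * (x : Ω) * g⁻¹ := by
  constructor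
  · intro h
    unfold autInducedBy at h
    induction h using Subgroup.closure_induction with
    | mem x hx => exact hx
    | one => exact ⟨1, K.one_mem, fun x => by simp⟩
    | mul x y _ _ hx hy =>
      obtain ⟨g, hg, hgx⟩ := hx
      obtain ⟨k, hk, hky⟩ := hy
      refine ⟨g * k, K.mul_mem hg hk, fun z => ?_⟩
      show ((x (y z) : P) : Ω) = _
      rw [hgx, hky, mul_inv_rev]
      simp only [mul_assoc]
    | inv x _ hx =>
      obtain ⟨g, hg, hgx⟩ := hx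
      refine ⟨g⁻¹, K.inv_mem hg, fun z => ?_⟩
      have h1 := hgx (x⁻¹ z)
      rw [MulAut.apply_inv_self] at h1
      rw [h1]
      simp only [mul_assoc, inv_inv, inv_mul_cancel, mul_one, inv_mul_cancel_left]
  · intro h
    exact Subgroup.subset_closure h

/-- `Aut_S(P) ≤ Aut_F(P)` for `P ≤ S`. -/
theorem autInducedBy_le_autGroup (F : FusionSystem S) {P : Subgroup Ω} (hP : P ≤ S) :
    autInducedBy S P ≤ F.autGroup P := by
  intro α hα
  obtain ⟨g, hg, h⟩ := (mem_autInducedBy_iff S P α).1 hα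
  rw [mem_autGroup_iff F hP]
  exact mem_of_eq F (F.conj_mem hP hg) (fun x => h x)


/-! ### Images of subgroups under maps defined on a subgroup, fixed points -/

/-- Membership in the image `(R.subgroupOf D).map ψ`. -/
theorem mem_map_subgroupOf {D R : Subgroup Ω} (ψ : D →* Ω) (x : Ω) :
    x ∈ (R.subgroupOf D).map ψ ↔ ∃ (y : Ω) (_ : y ∈ R) (hD : y ∈ D), ψ ⟨y, hD⟩ = x := by
  constructor
  · rintro ⟨⟨y, hD⟩, hy, rfl⟩
    exact ⟨y, Subgroup.mem_subgroupOf.1 hy, hD, rfl⟩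
  · rintro ⟨y, hR, hD, rfl⟩
    exact ⟨⟨y, hD⟩, Subgroup.mem_subgroupOf.2 hR, rfl⟩

/-- The image of a subgroup does not change under restriction of the map to a subgroup containing it. -/
theorem map_subgroupOf_comp_inclusion {D D' R : Subgroup Ω} (h : D' ≤ D) (hR : R ≤ D') (ψ : D →* Ω) :
    (R.subgroupOf D').map (ψ.comp (Subgroup.inclusion h)) = (R.subgroupOf D).map ψ := by
  ext x
  rw [mem_map_subgroupOf, mem_map_subgroupOf]
  constructor
  · rintro ⟨y, hy, hD, rfl⟩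
    exact ⟨y, hy, h hD, rfl⟩
  · rintro ⟨y, hy, hD, rfl⟩
    exact ⟨y, hy, hR hy, rfl⟩

/-- The image of a join is the join of the images. -/
theorem map_subgroupOf_sup {D R₁ R₂ : Subgroup Ω} (h₁ : R₁ ≤ D) (h₂ : R₂ ≤ D) (ψ : D →* Ω) :
    ((R₁ ⊔ R₂).subgroupOf D).map ψ = (R₁.subgroupOf D).map ψ ⊔ (R₂.subgroupOf D).map ψ := by
  rw [Subgroup.subgroupOf_sup h₁ h₂, Subgroup.map_sup]

/-- If a homomorphism defined on `D` fixes `Q₁ ≤ D` and `Q₂ ≤ D` elementwise, it fixes their join. -/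
theorem fixes_sup {D Q₁ Q₂ : Subgroup Ω} (ψ : D →* Ω) (h₁ : Q₁ ≤ D) (h₂ : Q₂ ≤ D)
    (hf₁ : ∀ (x : Ω) (_ : x ∈ Q₁) (hD : x ∈ D), ψ ⟨x, hD⟩ = x)
    (hf₂ : ∀ (x : Ω) (_ : x ∈ Q₂) (hD : x ∈ D), ψ ⟨x, hD⟩ = x) :
    ∀ (x : Ω) (_ : x ∈ Q₁ ⊔ Q₂) (hD : x ∈ D), ψ ⟨x, hD⟩ = x := by
  have key : Q₁ ⊔ Q₂ ≤ (MonoidHom.eqLocus ψ D.subtype).map D.subtype := by
    refine sup_le ?_ ?_
    · intro x hx
      exact ⟨⟨x, h₁ hx⟩, hf₁ x hx (h₁ hx), rfl⟩
    · intro x hx
      exact ⟨⟨x, h₂ hx⟩, hf₂ x hx (h₂ hx), rfl⟩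
  intro x hx hD
  obtain ⟨y, hy, hyx⟩ := key hx
  have : y = ⟨x, hD⟩ := Subtype.ext hyx
  rw [← this]
  have hy' : ψ y = D.subtype y := hy
  rw [hy', ← hyx]

/-- A property of elements of a complete lattice that holds for `⊥`, is closed under binary joins
and holds on a finite set holds for the supremum of that set. -/
theorem sSup_induction_of_finite {α : Type*} [CompleteLattice α] (p : α → Prop) (C : Set α)
    (hfin : C.Finite) (hbot : p ⊥) (hsup : ∀ a b, p a → p b → p (a ⊔ b)) (hC : ∀ a ∈ C, p a) :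
    p (sSup C) := by
  have h1 : sSup C = hfin.toFinset.sup id := by
    rw [Finset.sup_id_eq_sSup, Set.Finite.coe_toFinset]
  rw [h1]
  refine Finset.sup_induction hbot (fun a ha b hb => hsup a b ha hb) ?_
  intro b hb
  exact hC b ((Set.Finite.mem_toFinset hfin).1 hb)

/-- There are finitely many subgroups of the ambient group inside a finite subgroup. -/
theorem finite_subgroups_le (S : Subgroup Ω) [Finite S] : {Q : Subgroup Ω | Q ≤ S}.Finite := by
  have hinj : Set.InjOn (fun Q : Subgroup Ω => Q.subgroupOf S) {Q : Subgroup Ω | Q ≤ S} := by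
    intro Q₁ h₁ Q₂ h₂ h
    have h3 := Subgroup.subgroupOf_inj.1 h
    rwa [inf_eq_left.2 h₁, inf_eq_left.2 h₂] at h3
  exact Set.Finite.of_finite_image (Set.toFinite _) hinj


/-! ### Central and normal subgroups: bottom, joins, the centre and the core -/

theorem isCentral_bot (F : FusionSystem S) : F.IsCentral ⊥ := by
  refine ⟨bot_le, fun P φ hφ => ?_⟩
  have hle : P ⊔ ⊥ ≤ P := by simp
  refine ⟨φ.comp (Subgroup.inclusion hle), restrict_mem F hle hφ, fun x => rfl, ?_⟩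
  rintro ⟨x, hx⟩
  have hx1 : x = 1 := Subgroup.mem_bot.1 hx
  subst hx1
  exact map_one _

theorem isCentral_sup (F : FusionSystem S) {Q₁ Q₂ : Subgroup Ω} (h₁ : F.IsCentral Q₁)
    (h₂ : F.IsCentral Q₂) : F.IsCentral (Q₁ ⊔ Q₂) := by
  refine ⟨sup_le h₁.1 h₂.1, fun P φ hφ => ?_⟩
  obtain ⟨ψ₁, hψ₁, hext₁, hfix₁⟩ := h₁.2 P φ hφ
  obtain ⟨ψ₂, hψ₂, hext₂, hfix₂⟩ := h₂.2 (P ⊔ Q₁) ψ₁ hψ₁
  have hle : P ⊔ (Q₁ ⊔ Q₂) ≤ P ⊔ Q₁ ⊔ Q₂ := by rw [sup_assoc]
  refine ⟨ψ₂.comp (Subgroup.inclusion hle), restrict_mem F hle hψ₂, fun x => ?_, ?_⟩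
  · have := hext₂ (Subgroup.inclusion le_sup_left x)
    rw [hext₁] at this
    exact this
  · have hQ₁ : Q₁ ≤ P ⊔ Q₁ ⊔ Q₂ := le_sup_right.trans le_sup_left
    have hQ₂ : Q₂ ≤ P ⊔ Q₁ ⊔ Q₂ := le_sup_right
    have key := fixes_sup ψ₂ hQ₁ hQ₂
      (fun x hx hD => by
        have := hext₂ (Subgroup.inclusion le_sup_right ⟨x, hx⟩)
        rw [hfix₁] at this
        exact this)
      (fun x hx hD => hfix₂ ⟨x, hx⟩)
    rintro ⟨x, hx⟩
    exact key x hx _

/-- For finite `S` the centre of the system is central in it. -/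
theorem isCentral_center [Finite S] (F : FusionSystem S) : F.IsCentral F.center := by
  unfold FusionSystem.center
  refine sSup_induction_of_finite (fun Q => F.IsCentral Q) _ ?_ (isCentral_bot F)
    (fun a b ha hb => isCentral_sup F ha hb) (fun a ha => ha)
  exact (finite_subgroups_le S).subset (fun Q hQ => hQ.1)

theorem isNormal_bot (F : FusionSystem S) : F.IsNormal ⊥ := by
  refine ⟨bot_le, fun P φ hφ => ?_⟩
  have hle : P ⊔ ⊥ ≤ P := by simp
  refine ⟨φ.comp (Subgroup.inclusion hle), restrict_mem F hle hφ, fun x => rfl, ?_⟩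
  rw [Subgroup.bot_subgroupOf, Subgroup.map_bot]

theorem isNormal_sup (F : FusionSystem S) {Q₁ Q₂ : Subgroup Ω} (h₁ : F.IsNormal Q₁)
    (h₂ : F.IsNormal Q₂) : F.IsNormal (Q₁ ⊔ Q₂) := by
  refine ⟨sup_le h₁.1 h₂.1, fun P φ hφ => ?_⟩
  obtain ⟨ψ₁, hψ₁, hext₁, himg₁⟩ := h₁.2 P φ hφ
  obtain ⟨ψ₂, hψ₂, hext₂, himg₂⟩ := h₂.2 (P ⊔ Q₁) ψ₁ hψ₁
  have hle : P ⊔ (Q₁ ⊔ Q₂) ≤ P ⊔ Q₁ ⊔ Q₂ := by rw [sup_assoc]
  refine ⟨ψ₂.comp (Subgroup.inclusion hle), restrict_mem F hle hψ₂, fun x => ?_, ?_⟩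
  · have := hext₂ (Subgroup.inclusion le_sup_left x)
    rw [hext₁] at this
    exact this
  · have hQ₁ : Q₁ ≤ P ⊔ Q₁ ⊔ Q₂ := le_sup_right.trans le_sup_left
    have hQ₂ : Q₂ ≤ P ⊔ Q₁ ⊔ Q₂ := le_sup_right
    rw [map_subgroupOf_comp_inclusion hle le_sup_right ψ₂, map_subgroupOf_sup hQ₁ hQ₂, himg₂]
    congr 1
    have hψ : ψ₁ = ψ₂.comp (Subgroup.inclusion le_sup_left) := by
      ext x
      exact (hext₂ x).symm
    have h3 := map_subgroupOf_comp_inclusion (R := Q₁) (le_sup_left : P ⊔ Q₁ ≤ P ⊔ Q₁ ⊔ Q₂)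
      le_sup_right ψ₂
    rw [← h3, ← hψ, himg₁]

/-- For finite `S` the join of all subgroups normal in the system is normal in it. -/
theorem isNormal_core [Finite S] (F : FusionSystem S) : F.IsNormal F.core := by
  unfold FusionSystem.core
  refine sSup_induction_of_finite (fun Q => F.IsNormal Q) _ ?_ (isNormal_bot F)
    (fun a b ha hb => isNormal_sup F ha hb) (fun a ha => ha)
  exact (finite_subgroups_le S).subset (fun Q hQ => hQ.1)


/-! ### Maps defined on a join `P ⊔ Q` -/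

theorem range_eq_sup_map {P Q : Subgroup Ω} (ψ : ↥(P ⊔ Q) →* Ω) :
    ψ.range = (P.subgroupOf (P ⊔ Q)).map ψ ⊔ (Q.subgroupOf (P ⊔ Q)).map ψ := by
  rw [← map_subgroupOf_sup le_sup_left le_sup_right, Subgroup.subgroupOf_self,
    MonoidHom.range_eq_map]

theorem map_subgroupOf_eq_range_of_ext {P D : Subgroup Ω} (hPD : P ≤ D) (φ : P →* Ω) (ψ : D →* Ω)
    (h : ∀ x : P, ψ (Subgroup.inclusion hPD x) = φ x) : (P.subgroupOf D).map ψ = φ.range := by
  ext y
  rw [mem_map_subgroupOf]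
  constructor
  · rintro ⟨x, hx, hD, rfl⟩
    exact ⟨⟨x, hx⟩, (h ⟨x, hx⟩).symm⟩
  · rintro ⟨x, rfl⟩
    exact ⟨x, x.2, hPD x.2, h x⟩

theorem apply_mem_of_map_eq {D R R' : Subgroup Ω} (ψ : D →* Ω) (himg : (R.subgroupOf D).map ψ = R')
    (z : Ω) (hz : z ∈ R) (hD : z ∈ D) : ψ ⟨z, hD⟩ ∈ R' := by
  rw [← himg, mem_map_subgroupOf]
  exact ⟨z, hz, hD, rfl⟩

theorem exists_of_map_eq {D R R' : Subgroup Ω} (ψ : D →* Ω) (himg : (R.subgroupOf D).map ψ = R')
    (y : Ω) (hy : y ∈ R') : ∃ (z : Ω) (_ : z ∈ R) (hD : z ∈ D), ψ ⟨z, hD⟩ = y := by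
  rw [← himg, mem_map_subgroupOf] at hy
  exact hy

/-! ### The normalizer and centralizer systems -/

/-- The normalizer system `N_F(Q)` as a fusion system over `N_S(Q)`. -/
def normalizerSystem (F : FusionSystem S) (Q : Subgroup Ω) (hQ : Q ≤ S) :
    FusionSystem (normalizerIn S Q) where
  Hom P := F.normalizerHom Q P
  le_of_mem h := ⟨h.2.1, h.2.2.1⟩
  injective_of_mem h := F.injective_of_mem h.1
  conj_mem := by
    intro P g hP hg
    have hPS : P ≤ S := hP.trans inf_le_left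
    refine ⟨F.conj_mem hPS hg.1, hP, fun x => ?_, conjHom (P ⊔ Q) g,
      F.conj_mem (sup_le hPS hQ) hg.1, fun x => rfl, ?_⟩
    · exact (normalizerIn S Q).mul_mem ((normalizerIn S Q).mul_mem hg (hP x.2))
        ((normalizerIn S Q).inv_mem hg)
    · have hgn : g ∈ Subgroup.normalizer (Q : Set Ω) := hg.2
      ext y
      rw [mem_map_subgroupOf]
      constructor
      · rintro ⟨z, hz, hD, rfl⟩
        exact (Subgroup.mem_normalizer_iff.1 hgn z).1 hz
      · intro hy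
        have h1 : g⁻¹ * y * g ∈ Q := (Subgroup.mem_normalizer_iff''.1 hgn y).1 hy
        refine ⟨g⁻¹ * y * g, h1, (le_sup_right : Q ≤ P ⊔ Q) h1, ?_⟩
        show g * (g⁻¹ * y * g) * g⁻¹ = y
        group
  comp_mem := by
    rintro P P' φ ψ ⟨hφ, hPN, hφN, φ', hφ', hext, himg⟩ ⟨hψ, hPN', hψN, ψ', hψ', hext', himg'⟩ h
    have hr : (P.subgroupOf (P ⊔ Q)).map φ' = φ.range :=
      map_subgroupOf_eq_range_of_ext le_sup_left φ φ' hext
    have h' : ∀ x : ↥(P ⊔ Q), φ' x ∈ P' ⊔ Q := by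
      intro x
      have h1 : φ' x ∈ φ'.range := ⟨x, rfl⟩
      rw [range_eq_sup_map, hr, himg] at h1
      refine (sup_le_sup_right ?_ Q) h1
      rintro _ ⟨y, rfl⟩
      exact h y
    refine ⟨F.comp_mem hφ hψ h, hPN, fun x => hψN _, ψ'.comp (φ'.codRestrict (P' ⊔ Q) h'),
      F.comp_mem hφ' hψ' h', fun x => ?_, ?_⟩
    · show ψ' ⟨φ' (Subgroup.inclusion le_sup_left x), _⟩ = ψ ⟨φ x, h x⟩
      rw [← hext' ⟨φ x, h x⟩]
      congr 1
      exact Subtype.ext (hext x)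
    · ext y
      rw [mem_map_subgroupOf]
      constructor
      · rintro ⟨z, hz, hD, rfl⟩
        have h1 : φ' ⟨z, hD⟩ ∈ Q := apply_mem_of_map_eq φ' himg z hz hD
        exact apply_mem_of_map_eq ψ' himg' _ h1 (h' _)
      · intro hy
        obtain ⟨w, hw, hwD, rfl⟩ := exists_of_map_eq ψ' himg' y hy
        obtain ⟨z, hz, hzD, rfl⟩ := exists_of_map_eq φ' himg w hw
        exact ⟨z, hz, hzD, rfl⟩
  inv_mem := by
    rintro P φ ⟨hφ, hPN, hφN, φ', hφ', hext, himg⟩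
    obtain ⟨χ, hχ, hχinv⟩ := F.inv_mem hφ'
    have hr : (P.subgroupOf (P ⊔ Q)).map φ' = φ.range :=
      map_subgroupOf_eq_range_of_ext le_sup_left φ φ' hext
    have hle : φ.range ⊔ Q ≤ φ'.range := by
      rw [range_eq_sup_map, hr, himg]
    have hφ'Q : ∀ (z : Ω) (hz : z ∈ Q) (hD : z ∈ P ⊔ Q), φ' ⟨z, hD⟩ ∈ Q :=
      fun z hz hD => apply_mem_of_map_eq φ' himg z hz hD
    have hval : ∀ (x : P) (hx : φ x ∈ φ'.range), χ ⟨φ x, hx⟩ = (x : Ω) := by
      intro x hx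
      have h1 := hχinv (Subgroup.inclusion le_sup_left x)
      have h2 : (⟨φ' (Subgroup.inclusion le_sup_left x), ⟨_, rfl⟩⟩ : φ'.range) = ⟨φ x, hx⟩ :=
        Subtype.ext (hext x)
      rw [h2] at h1
      exact h1
    refine ⟨χ.comp (Subgroup.inclusion (le_sup_left.trans hle)),
      ⟨restrict_mem F _ hχ, ?_, ?_, χ.comp (Subgroup.inclusion hle), restrict_mem F hle hχ,
        fun x => rfl, ?_⟩, fun x => hval x _⟩
    · rintro _ ⟨x, rfl⟩
      exact hφN x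
    · rintro ⟨_, x, rfl⟩
      show χ ⟨φ x, _⟩ ∈ normalizerIn S Q
      rw [hval x]
      exact hPN x.2
    · ext y
      rw [mem_map_subgroupOf]
      constructor
      · rintro ⟨w, hw, hwD, rfl⟩
        obtain ⟨z, hz, hzD, rfl⟩ := exists_of_map_eq φ' himg w hw
        show χ ⟨φ' ⟨z, hzD⟩, _⟩ ∈ Q
        rw [hχinv ⟨z, hzD⟩]
        exact hz
      · intro hy
        have hyD : y ∈ P ⊔ Q := (le_sup_right : Q ≤ P ⊔ Q) hy
        refine ⟨φ' ⟨y, hyD⟩, hφ'Q y hy hyD, (le_sup_right : Q ≤ φ.range ⊔ Q) (hφ'Q y hy hyD), ?_⟩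
        show χ ⟨φ' ⟨y, hyD⟩, _⟩ = y
        exact hχinv ⟨y, hyD⟩

theorem normalizerSystem_isNormalizerSystem (F : FusionSystem S) (Q : Subgroup Ω) (hQ : Q ≤ S) :
    F.IsNormalizerSystem Q (normalizerSystem F Q hQ) :=
  fun _ => rfl


/-- The centralizer system `C_F(Q)` as a fusion system over `C_S(Q)`. -/
def centralizerSystem (F : FusionSystem S) (Q : Subgroup Ω) (hQ : Q ≤ S) :
    FusionSystem (centralizerIn S Q) where
  Hom P := F.centralizerHom Q P
  le_of_mem h := ⟨h.2.1, h.2.2.1⟩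
  injective_of_mem h := F.injective_of_mem h.1
  conj_mem := by
    intro P g hP hg
    have hPS : P ≤ S := hP.trans inf_le_left
    refine ⟨F.conj_mem hPS hg.1, hP, fun x => ?_, conjHom (P ⊔ Q) g,
      F.conj_mem (sup_le hPS hQ) hg.1, fun x => rfl, ?_⟩
    · exact (centralizerIn S Q).mul_mem ((centralizerIn S Q).mul_mem hg (hP x.2))
        ((centralizerIn S Q).inv_mem hg)
    · intro y
      have hgc : g ∈ Subgroup.centralizer (Q : Set Ω) := hg.2
      have h1 : (y : Ω) * g = g * (y : Ω) := hgc y y.2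
      show g * (y : Ω) * g⁻¹ = y
      rw [← h1, mul_inv_cancel_right]
  comp_mem := by
    rintro P P' φ ψ ⟨hφ, hPN, hφN, φ', hφ', hext, hfix⟩ ⟨hψ, hPN', hψN, ψ', hψ', hext', hfix'⟩ h
    have hr : (P.subgroupOf (P ⊔ Q)).map φ' = φ.range :=
      map_subgroupOf_eq_range_of_ext le_sup_left φ φ' hext
    have himg : (Q.subgroupOf (P ⊔ Q)).map φ' = Q := by
      ext y
      rw [mem_map_subgroupOf]
      constructor
      · rintro ⟨z, hz, hD, rfl⟩
        have := hfix ⟨z, hz⟩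
        have h2 : (Subgroup.inclusion (le_sup_right : Q ≤ P ⊔ Q) ⟨z, hz⟩) = ⟨z, hD⟩ := rfl
        rw [h2] at this
        rw [this]
        exact hz
      · intro hy
        exact ⟨y, hy, (le_sup_right : Q ≤ P ⊔ Q) hy, hfix ⟨y, hy⟩⟩
    have h' : ∀ x : ↥(P ⊔ Q), φ' x ∈ P' ⊔ Q := by
      intro x
      have h1 : φ' x ∈ φ'.range := ⟨x, rfl⟩
      rw [range_eq_sup_map, hr, himg] at h1
      refine (sup_le_sup_right ?_ Q) h1
      rintro _ ⟨y, rfl⟩
      exact h y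
    refine ⟨F.comp_mem hφ hψ h, hPN, fun x => hψN _, ψ'.comp (φ'.codRestrict (P' ⊔ Q) h'),
      F.comp_mem hφ' hψ' h', fun x => ?_, ?_⟩
    · show ψ' ⟨φ' (Subgroup.inclusion le_sup_left x), _⟩ = ψ ⟨φ x, h x⟩
      rw [← hext' ⟨φ x, h x⟩]
      congr 1
      exact Subtype.ext (hext x)
    · intro y
      show ψ' ⟨φ' (Subgroup.inclusion le_sup_right y), _⟩ = y
      rw [← hfix' y]
      congr 1
      exact Subtype.ext (hfix y)
  inv_mem := by
    rintro P φ ⟨hφ, hPN, hφN, φ', hφ', hext, hfix⟩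
    obtain ⟨χ, hχ, hχinv⟩ := F.inv_mem hφ'
    have hr : (P.subgroupOf (P ⊔ Q)).map φ' = φ.range :=
      map_subgroupOf_eq_range_of_ext le_sup_left φ φ' hext
    have himg : (Q.subgroupOf (P ⊔ Q)).map φ' = Q := by
      ext y
      rw [mem_map_subgroupOf]
      constructor
      · rintro ⟨z, hz, hD, rfl⟩
        have := hfix ⟨z, hz⟩
        have h2 : (Subgroup.inclusion (le_sup_right : Q ≤ P ⊔ Q) ⟨z, hz⟩) = ⟨z, hD⟩ := rfl
        rw [h2] at this
        rw [this]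
        exact hz
      · intro hy
        exact ⟨y, hy, (le_sup_right : Q ≤ P ⊔ Q) hy, hfix ⟨y, hy⟩⟩
    have hle : φ.range ⊔ Q ≤ φ'.range := by
      rw [range_eq_sup_map, hr, himg]
    have hval : ∀ (x : P) (hx : φ x ∈ φ'.range), χ ⟨φ x, hx⟩ = (x : Ω) := by
      intro x hx
      have h1 := hχinv (Subgroup.inclusion le_sup_left x)
      have h2 : (⟨φ' (Subgroup.inclusion le_sup_left x), ⟨_, rfl⟩⟩ : φ'.range) = ⟨φ x, hx⟩ :=
        Subtype.ext (hext x)
      rw [h2] at h1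
      exact h1
    refine ⟨χ.comp (Subgroup.inclusion (le_sup_left.trans hle)),
      ⟨restrict_mem F _ hχ, ?_, ?_, χ.comp (Subgroup.inclusion hle), restrict_mem F hle hχ,
        fun x => rfl, ?_⟩, fun x => hval x _⟩
    · rintro _ ⟨x, rfl⟩
      exact hφN x
    · rintro ⟨_, x, rfl⟩
      show χ ⟨φ x, _⟩ ∈ centralizerIn S Q
      rw [hval x]
      exact hPN x.2
    · intro y
      show χ ⟨(y : Ω), _⟩ = y
      have h1 := hχinv (Subgroup.inclusion le_sup_right y)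
      have h2 : (⟨φ' (Subgroup.inclusion le_sup_right y), ⟨_, rfl⟩⟩ : φ'.range) =
          ⟨(y : Ω), hle ((le_sup_right : Q ≤ φ.range ⊔ Q) y.2)⟩ := Subtype.ext (hfix y)
      rw [h2] at h1
      exact h1

theorem centralizerSystem_isCentralizerSystem (F : FusionSystem S) (Q : Subgroup Ω) (hQ : Q ≤ S) :
    F.IsCentralizerSystem Q (centralizerSystem F Q hQ) :=
  fun _ => rfl

end Cfsg.Agent.Lib.Helper85_Fusion
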