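import Cfsg.Agent.Lib.Helper84_Fusion
import Cfsg.Agent.Lib.Helper85_Fusion
import Cfsg.Agent.Lib.Helper84_RelSylow

/-!
Fusion systems: automorphism groups, transport along isomorphisms of the system, and the extension
lemma `N_S(Q) → N_S(P)` for `P` fully automized and receptive (helper84).
-/

set_option autoImplicit false

namespace Cfsg.Agent.Lib.Helper84_FusionSat

open Cfsg Cfsg.FusionSystem Cfsg.Agent.Lib.Helper85_Fusion Cfsg.Agent.Lib.Helper84_RelSylow

variable {Ω : Type*} [Group Ω] {S : Subgroup Ω}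

/-- The isomorphism `Q ≃* P` induced by an injective homomorphism with source `Q` and image `P`. -/
noncomputable def isoOfRange {Q P : Subgroup Ω} (φ : Q →* Ω) (hinj : Function.Injective φ)
    (hr : φ.range = P) : Q ≃* P :=
  MulEquiv.ofBijective (φ.codRestrict P (fun x => hr ▸ ⟨x, rfl⟩))
    ⟨fun a b hab => hinj (congrArg Subtype.val hab), fun y => by
      have hy : (y : Ω) ∈ φ.range := hr ▸ y.2
      obtain ⟨x, hx⟩ := hy
      exact ⟨x, Subtype.ext hx⟩⟩

@[simp]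
theorem coe_isoOfRange {Q P : Subgroup Ω} (φ : Q →* Ω) (hinj : Function.Injective φ)
    (hr : φ.range = P) (x : Q) : ((isoOfRange φ hinj hr x : P) : Ω) = φ x := rfl

theorem apply_isoOfRange_symm {Q P : Subgroup Ω} (φ : Q →* Ω) (hinj : Function.Injective φ)
    (hr : φ.range = P) (y : P) : φ ((isoOfRange φ hinj hr).symm y) = y := by
  rw [← coe_isoOfRange φ hinj hr, MulEquiv.apply_symm_apply]

/-- `Aut_S(Q)` is a `p`-group when `S` is. -/
theorem isPGroup_autInducedBy {p : ℕ} (hS : IsPGroup p S) (Q : Subgroup Ω) :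
    IsPGroup p (autInducedBy S Q) := by
  rintro ⟨α, hα⟩
  obtain ⟨g, hg, hgα⟩ := (mem_autInducedBy_iff S Q α).1 hα
  obtain ⟨k, hk⟩ := hS ⟨g, hg⟩
  have hk' : g ^ (p ^ k) = 1 := congrArg Subtype.val hk
  refine ⟨k, Subtype.ext ?_⟩
  show α ^ (p ^ k) = 1
  have hpow : ∀ n : ℕ, ∀ x : Q, (((α ^ n) x : Q) : Ω) = g ^ n * x * (g ^ n)⁻¹ := by
    intro n
    induction n with
    | zero => intro x; simp
    | succ n ih =>
      intro x
      rw [pow_succ', MulAut.mul_apply, hgα, ih, pow_succ']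
      group
  ext x
  rw [hpow, hk']
  simp

/-- For finite `P`, a fully automized subgroup has `Aut_S(P)` Sylow in `Aut_F(P)`. -/
theorem isSylowIn_of_isFullyAutomized {p : ℕ} [Fact p.Prime] (F : FusionSystem S) {P : Subgroup Ω}
    [Finite P] (h : F.IsFullyAutomized p P) :
    IsSylowIn p (autInducedBy S P) (F.autGroup P) := by
  obtain ⟨hPS, R, hR⟩ := h
  refine ⟨autInducedBy_le_autGroup F hPS, ?_, ?_⟩
  · have h1 : IsPGroup p ((autInducedBy S P).subgroupOf (F.autGroup P)) := hR ▸ R.2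
    have h2 := h1.map (F.autGroup P).subtype
    rw [Subgroup.subgroupOf_map_subtype, inf_eq_left.mpr (autInducedBy_le_autGroup F hPS)] at h2
    exact h2
  · rw [Subgroup.relIndex, ← hR]
    exact R.not_dvd_index

/-- Transport of an automorphism in `Aut_F(Q)` along an isomorphism `Q → P` of the system. -/
theorem congr_mem_autGroup (F : FusionSystem S) {Q P : Subgroup Ω} {φ : Q →* Ω} (hφ : φ ∈ F.Hom Q)
    (hr : φ.range = P) {α : MulAut Q} (hα : α ∈ F.autGroup Q) :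
    MulAut.congr (isoOfRange φ (F.injective_of_mem hφ) hr) α ∈ F.autGroup P := by
  have hQS : Q ≤ S := source_le F hφ
  have hPS : P ≤ S := hr ▸ range_le F hφ
  rw [mem_autGroup_iff F hPS]
  rw [mem_autGroup_iff F hQS] at hα
  obtain ⟨ψ, hψ, hψr, hψφ, hφψ⟩ := Helper84_Fusion.exists_inverse F hφ hr
  have hψQ : ∀ y : P, ψ y ∈ Q := fun y => hψr ▸ ⟨y, rfl⟩
  have h1 := F.comp_mem hψ hα hψQ
  have h2 := F.comp_mem h1 hφ (fun y => (α ⟨ψ y, hψQ y⟩).2)
  refine mem_of_eq F h2 (fun y => ?_)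
  show φ (α ((isoOfRange φ (F.injective_of_mem hφ) hr).symm y)) = φ (α ⟨ψ y, hψQ y⟩)
  congr 2
  apply F.injective_of_mem hφ
  rw [apply_isoOfRange_symm]
  exact (hφψ y (hψQ y)).symm

/-- The automorphism of `Q` induced by an element of `N_S(Q)`. -/
theorem normalizerMonoidHom_mem_autInducedBy {Q : Subgroup Ω} {g : Ω} (hgS : g ∈ S)
    (hgN : g ∈ Subgroup.normalizer (Q : Set Ω)) :
    Q.normalizerMonoidHom ⟨g, hgN⟩ ∈ autInducedBy S Q :=
  (mem_autInducedBy_iff S Q _).2 ⟨g, hgS, fun _ => rfl⟩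

/-- **Extension lemma** (AKO I.2.6(c)): if `P` is fully automized and receptive and `Q` is conjugate
to `P` in the system, then some map of the system with source `N_S(Q)` and values in `N_S(P)` carries
`Q` onto `P`. -/
theorem exists_normalizer_map [Finite S] {p : ℕ} [Fact p.Prime] (hS : IsPGroup p S) (F : FusionSystem S)
    {P Q : Subgroup Ω} (h₁ : F.IsFullyAutomized p P) (h₂ : F.IsReceptive P) (hQ : F.IsConj Q P) :
    ∃ φ ∈ F.Hom (normalizerIn S Q), (∀ x, φ x ∈ normalizerIn S P) ∧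
      (Q.subgroupOf (normalizerIn S Q)).map φ = P := by
  obtain ⟨φ₀, hφ₀, hr⟩ := hQ
  have hQS : Q ≤ S := source_le F hφ₀
  have hPS : P ≤ S := h₁.1
  have : Finite P := Finite.of_injective (Subgroup.inclusion hPS) (Subgroup.inclusion_injective hPS)
  have : Finite (F.autGroup P) := inferInstance
  set e := isoOfRange φ₀ (F.injective_of_mem hφ₀) hr with he
  -- the image of Aut_S(Q) in Aut_F(P)
  have hK : (autInducedBy S Q).map (MulAut.congr e).toMonoidHom ≤ F.autGroup P := by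
    rintro _ ⟨α, hα, rfl⟩
    exact congr_mem_autGroup F hφ₀ hr (autInducedBy_le_autGroup F hQS hα)
  have hKp : IsPGroup p ((autInducedBy S Q).map (MulAut.congr e).toMonoidHom) :=
    (isPGroup_autInducedBy hS Q).map _
  obtain ⟨χ, hχ, hχK⟩ := (isSylowIn_of_isFullyAutomized F h₁).exists_conj_le hK hKp
  -- the new isomorphism φ₁ = χ ∘ φ₀
  have hχ' := (mem_autGroup_iff F hPS χ).1 hχ
  have hφ₀P : ∀ x : Q, φ₀ x ∈ P := fun x => hr ▸ ⟨x, rfl⟩
  have hφ₁ := F.comp_mem hφ₀ hχ' hφ₀P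
  set φ₁ : Q →* Ω := (P.subtype.comp χ.toMonoidHom).comp (φ₀.codRestrict P hφ₀P) with hφ₁def
  have hφ₁apply : ∀ x : Q, φ₁ x = ((χ (e x) : P) : Ω) := fun x => rfl
  have hφ₁r : φ₁.range = P := by
    ext y
    constructor
    · rintro ⟨x, rfl⟩
      exact (χ (e x)).2
    · intro hy
      refine ⟨e.symm (χ⁻¹ ⟨y, hy⟩), ?_⟩
      rw [hφ₁apply, MulEquiv.apply_symm_apply, MulAut.apply_inv_self]
  -- N_S(Q) ≤ N_{φ₁}
  have hNle : normalizerIn S Q ≤ extender S Q φ₁ := by
    intro g hg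
    apply Helper84_Fusion.subset_extender
    obtain ⟨hgS, hgN⟩ := hg
    have hα := normalizerMonoidHom_mem_autInducedBy (S := S) hgS hgN
    have h3 := hχK _ ⟨_, hα, rfl⟩
    obtain ⟨h, hhS, hh⟩ := (mem_autInducedBy_iff S P _).1 h3
    refine ⟨hgS, hgN, h, hhS, fun x hx => ?_⟩
    have h4 := hh (χ (e x))
    rw [hφ₁apply, hφ₁apply, ← h4]
    simp only [MulAut.mul_apply, MulAut.inv_apply_self, MulEquiv.coe_toMonoidHom, MulAut.congr_apply,
      MulEquiv.trans_apply, MulEquiv.symm_apply_apply]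
    rfl
  obtain ⟨ψ, hψ, hψφ⟩ := h₂.2 Q φ₁ hφ₁ hφ₁r
  have hQN : Q ≤ normalizerIn S Q := le_inf hQS Subgroup.le_normalizer
  refine ⟨ψ.comp (Subgroup.inclusion hNle), restrict_mem F hNle hψ, ?_, ?_⟩
  · -- values normalize P
    have key : ∀ g : normalizerIn S Q, ∀ y ∈ P,
        ψ (Subgroup.inclusion hNle g) * y * (ψ (Subgroup.inclusion hNle g))⁻¹ ∈ P := by
      intro g y hy
      rw [← hφ₁r] at hy
      obtain ⟨x, rfl⟩ := hy
      have hx' : (g : Ω) * x * (g : Ω)⁻¹ ∈ Q := (g.2.2 x).mp x.2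
      have e1 : φ₁ x = ψ (Subgroup.inclusion hNle ⟨x, hQN x.2⟩) :=
        (hψφ x x.2 (hNle (hQN x.2))).symm
      have e2 : φ₁ ⟨(g : Ω) * x * (g : Ω)⁻¹, hx'⟩ =
          ψ (Subgroup.inclusion hNle ⟨(g : Ω) * x * (g : Ω)⁻¹, hQN hx'⟩) :=
        (hψφ _ hx' (hNle (hQN hx'))).symm
      have e3 : ψ (Subgroup.inclusion hNle g) * φ₁ x * (ψ (Subgroup.inclusion hNle g))⁻¹ =
          φ₁ ⟨(g : Ω) * x * (g : Ω)⁻¹, hx'⟩ := by
        rw [e1, e2, ← map_inv, ← map_mul, ← map_mul]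
        rfl
      rw [e3, ← hφ₁r]
      exact ⟨_, rfl⟩
    intro g
    refine ⟨apply_mem F hψ _, ?_⟩
    intro y
    constructor
    · intro hy
      exact key g y hy
    · intro hy
      have := key g⁻¹ _ hy
      rw [map_inv, map_inv, inv_inv] at this
      simpa [mul_assoc] using this
  · ext y
    constructor
    · rintro ⟨x, hx, rfl⟩
      rw [SetLike.mem_coe, Subgroup.mem_subgroupOf] at hx
      have := hψφ x hx (hNle x.2)
      show ψ (Subgroup.inclusion hNle x) ∈ P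
      have e1 : ψ (Subgroup.inclusion hNle x) = φ₁ ⟨x, hx⟩ := this
      rw [e1, ← hφ₁r]
      exact ⟨_, rfl⟩
    · intro hy
      rw [← hφ₁r] at hy
      obtain ⟨x, rfl⟩ := hy
      refine ⟨⟨x, hQN x.2⟩, ?_, ?_⟩
      · rw [SetLike.mem_coe, Subgroup.mem_subgroupOf]
        exact x.2
      · exact hψφ x x.2 (hNle (hQN x.2))

end Cfsg.Agent.Lib.Helper84_FusionSat
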