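import Cfsg.Agent.Lib.Helper88_Centric2
import Cfsg.Agent.Lib.Helper84_FusionRS

/-!
Fusion systems (helper88): an isomorphism of the system onto a receptive subgroup `Q'` extends to `Q C_S(Q)`
(function-level form), and small facts about images.
-/

set_option autoImplicit false

namespace Cfsg.Agent.Lib.Helper88_Receptive

open Cfsg Cfsg.FusionSystem Cfsg.Agent.Lib.Helper87_Alperin Cfsg.Agent.Lib.Helper88_Centric
  Cfsg.Agent.Lib.Helper88_Centric2

variable {Ω : Type*} [Group Ω] {S : Subgroup Ω}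

/-- An isomorphism `ψ : Q → Q'` of the system onto a receptive subgroup `Q'` extends to a map of the system defined
on `Q C_S(Q)`. -/
theorem exists_extension_centralizerIn {F : FusionSystem S} {Q Q' : Subgroup Ω} (hQ'r : F.IsReceptive Q')
    {ψ : Ω → Ω} (hψ : IsMapOn F Q ψ) (hQ' : IsImage Q ψ Q') :
    ∃ ψ' : Ω → Ω, IsMapOn F (Q ⊔ centralizerIn S Q) ψ' ∧ ∀ x ∈ Q, ψ' x = ψ x := by
  obtain ⟨φ, hφ, hφψ⟩ := hψ
  have hr : φ.range = Q' := by
    ext y
    rw [hQ' y]
    constructor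
    · rintro ⟨x, rfl⟩
      exact ⟨x, x.2, (hφψ x).symm⟩
    · rintro ⟨x, hx, rfl⟩
      exact ⟨⟨x, hx⟩, hφψ _⟩
  obtain ⟨χ, hχ, hχext⟩ := hQ'r.2 Q φ hφ hr
  have hQS : Q ≤ S := hom_le F hφ
  have hle : Q ⊔ centralizerIn S Q ≤ extender S Q φ :=
    sup_le (Cfsg.Agent.Lib.Helper84_Fusion.le_extender S Q φ hQS (hom_mem F hφ))
      (Cfsg.Agent.Lib.Helper84_Fusion.centralizerIn_le_extender S Q φ)
  refine ⟨extHom χ, (isMapOn_extHom F hχ).mono hle, fun x hx => ?_⟩
  have hxN : x ∈ extender S Q φ := hle ((le_sup_left : Q ≤ Q ⊔ centralizerIn S Q) hx)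
  rw [extHom_apply χ hxN, hχext x hx hxN, hφψ]

/-- The image of a subgroup under a map of the system is a subgroup of the image of a larger subgroup. -/
theorem IsImage.mono {P R P' R' : Subgroup Ω} {f : Ω → Ω} (hP : IsImage P f P') (hR : IsImage R f R')
    (hRP : R ≤ P) : R' ≤ P' := by
  intro y hy
  obtain ⟨x, hx, rfl⟩ := (hR y).1 hy
  exact hP.mem (hRP hx)

/-- A map of the system carries commuting elements to commuting elements. -/
theorem IsMapOn.map_comm {F : FusionSystem S} {P : Subgroup Ω} {f : Ω → Ω} (hf : IsMapOn F P f) {x y : Ω}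
    (hx : x ∈ P) (hy : y ∈ P) (h : x * y = y * x) : f x * f y = f y * f x := by
  rw [← hf.map_mul hx hy, ← hf.map_mul hy hx, h]

end Cfsg.Agent.Lib.Helper88_Receptive
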