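import Cfsg.Agent.Lib.Helper85_Transport2
import Cfsg.Agent.Lib.Helper88_Receptive
import Cfsg.Agent.Lib.Helper84_FusionRS

/-!
Fusion systems (helper85): the full subsystem of a saturated fusion system `F` over a strongly closed subgroup `T`
with `S = T C_S(T)` is saturated; extension of automorphisms of strongly closed subgroups; small function-level tools
for subsystems given by centralizer maps.
-/

set_option autoImplicit false

namespace Cfsg.Agent.Lib.Helper85_DirectFactor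

open Cfsg Cfsg.FusionSystem Cfsg.Agent.Lib.Helper87_Alperin Cfsg.Agent.Lib.Helper88_Centric
  Cfsg.Agent.Lib.Helper88_Centric2 Cfsg.Agent.Lib.Helper88_Receptive Cfsg.Agent.Lib.Helper84_FusionRS

variable {Ω : Type*} [Group Ω] {S : Subgroup Ω}

/-! ### Elementwise commuting subgroups -/

theorem exists_mul_of_mem_sup {A B : Subgroup Ω} (hcomm : ∀ a ∈ A, ∀ b ∈ B, a * b = b * a) {s : Ω}
    (hs : s ∈ A ⊔ B) : ∃ a ∈ A, ∃ b ∈ B, s = a * b := by
  rw [Subgroup.sup_eq_closure] at hs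
  induction hs using Subgroup.closure_induction with
  | mem y hy =>
    rcases hy with hy | hy
    · exact ⟨y, hy, 1, B.one_mem, (mul_one y).symm⟩
    · exact ⟨1, A.one_mem, y, hy, (one_mul y).symm⟩
  | one => exact ⟨1, A.one_mem, 1, B.one_mem, (mul_one 1).symm⟩
  | mul x y _ _ hx hy =>
    obtain ⟨a, ha, b, hb, rfl⟩ := hx
    obtain ⟨a', ha', b', hb', rfl⟩ := hy
    refine ⟨a * a', A.mul_mem ha ha', b * b', B.mul_mem hb hb', ?_⟩
    calc a * b * (a' * b') = a * (b * a') * b' := by group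
      _ = a * (a' * b) * b' := by rw [hcomm a' ha' b hb]
      _ = a * a' * (b * b') := by group
  | inv x _ hx =>
    obtain ⟨a, ha, b, hb, rfl⟩ := hx
    refine ⟨a⁻¹, A.inv_mem ha, b⁻¹, B.inv_mem hb, ?_⟩
    rw [mul_inv_rev, hcomm a⁻¹ (A.inv_mem ha) b⁻¹ (B.inv_mem hb)]

/-! ### Maps on a join -/

theorem IsMapOn.mem_of_sup {F : FusionSystem S} {D A B C : Subgroup Ω} {f : Ω → Ω} (hf : IsMapOn F D f)
    (hAB : A ⊔ B ≤ D) (hA : ∀ x ∈ A, f x ∈ C) (hB : ∀ x ∈ B, f x ∈ C) : ∀ x ∈ A ⊔ B, f x ∈ C := by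
  obtain ⟨φ, hφ, hφf⟩ := hf
  have hle : A ⊔ B ≤ (C.comap φ).map D.subtype := by
    refine sup_le ?_ ?_
    · intro x hx
      have hxD : x ∈ D := hAB ((le_sup_left : A ≤ A ⊔ B) hx)
      refine ⟨⟨x, hxD⟩, ?_, rfl⟩
      show φ ⟨x, hxD⟩ ∈ C
      rw [hφf]
      exact hA x hx
    · intro x hx
      have hxD : x ∈ D := hAB ((le_sup_right : B ≤ A ⊔ B) hx)
      refine ⟨⟨x, hxD⟩, ?_, rfl⟩
      show φ ⟨x, hxD⟩ ∈ C
      rw [hφf]
      exact hB x hx
  intro x hx
  obtain ⟨d, hd, rfl⟩ := hle hx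
  have : φ d ∈ C := hd
  rw [hφf] at this
  exact this

theorem IsMapOn.eq_of_sup {F : FusionSystem S} {D A B : Subgroup Ω} {f g : Ω → Ω} (hf : IsMapOn F D f)
    (hg : IsMapOn F D g) (hAB : A ⊔ B ≤ D) (hA : ∀ x ∈ A, f x = g x) (hB : ∀ x ∈ B, f x = g x) :
    ∀ x ∈ A ⊔ B, f x = g x := by
  intro x hx
  have hcl : Subgroup.closure ((A : Set Ω) ∪ B) ≤ D := by rw [← Subgroup.sup_eq_closure]; exact hAB
  rw [Subgroup.sup_eq_closure] at hx
  induction hx using Subgroup.closure_induction with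
  | mem y hy =>
    rcases hy with hy | hy
    · exact hA y hy
    · exact hB y hy
  | one => rw [hf.map_one, hg.map_one]
  | mul x y hx hy hfx hfy =>
    rw [hf.map_mul (hcl hx) (hcl hy), hg.map_mul (hcl hx) (hcl hy), hfx, hfy]
  | inv x hx hfx =>
    rw [hf.map_inv (hcl hx), hg.map_inv (hcl hx), hfx]

/-! ### Strongly closed subgroups -/

theorem apply_mem_of_stronglyClosed {F : FusionSystem S} {T P : Subgroup Ω} (hT : F.StronglyClosed T)
    {f : Ω → Ω} (hf : IsMapOn F P f) (hP : P ≤ T) : ∀ x ∈ P, f x ∈ T := by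
  obtain ⟨φ, hφ, hφf⟩ := hf
  intro x hx
  rw [← hφf ⟨x, hx⟩]
  exact hT.2 P hP φ hφ ⟨x, hx⟩

theorem isConj_eq_of_stronglyClosed [Finite S] {F : FusionSystem S} {T Q : Subgroup Ω}
    (hT : F.StronglyClosed T) (h : F.IsConj T Q) : Q = T := by
  obtain ⟨φ, hφ, rfl⟩ := h
  have hfin : Finite T := finite_of_le_S hT.1
  have hle : φ.range ≤ T := by
    rintro _ ⟨x, rfl⟩
    exact hT.2 T le_rfl φ hφ x
  have hcard : Nat.card φ.range = Nat.card T :=
    Nat.card_congr (Equiv.ofInjective φ (F.injective_of_mem hφ)).symm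
  exact Subgroup.eq_of_le_of_card_ge hle hcard.ge

theorem isFullyNormalized_of_stronglyClosed [Finite S] {F : FusionSystem S} {T : Subgroup Ω}
    (hT : F.StronglyClosed T) : F.IsFullyNormalized T := by
  refine ⟨hT.1, fun Q hQ => ?_⟩
  rw [isConj_eq_of_stronglyClosed hT hQ]

theorem isFullyCentralized_of_stronglyClosed [Finite S] {F : FusionSystem S} {T : Subgroup Ω}
    (hT : F.StronglyClosed T) : F.IsFullyCentralized T := by
  refine ⟨hT.1, fun Q hQ => ?_⟩
  rw [isConj_eq_of_stronglyClosed hT hQ]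

/-- An automorphism in `F` of a strongly closed subgroup `T` extends to `T C_S(T)`. -/
theorem exists_extension_of_stronglyClosed [Finite S] {p : ℕ} [Fact p.Prime] (hS : IsPGroup p S)
    {F : FusionSystem S} (hF : F.IsSaturated p) {T : Subgroup Ω} (hT : F.StronglyClosed T)
    {a : Ω → Ω} (ha : IsMapOn F T a) :
    ∃ b : Ω → Ω, IsMapOn F (T ⊔ centralizerIn S T) b ∧ ∀ x ∈ T, b x = a x := by
  have hr : F.IsReceptive T := IsSaturated.isReceptive_of_isFullyNormalized hS hF (isFullyNormalized_of_stronglyClosed hT)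
  obtain ⟨T', hT', hconj⟩ := exists_isImage ha
  have : T' = T := isConj_eq_of_stronglyClosed hT hconj
  subst this
  exact exists_extension_centralizerIn hr ha hT'

/-! ### The full subsystem over a strongly closed subgroup -/

theorem extender_mono {T : Subgroup Ω} (hTS : T ≤ S) (P : Subgroup Ω) (φ : P →* Ω) :
    extender T P φ ≤ extender S P φ := by
  unfold extender
  apply Subgroup.closure_mono
  rintro g ⟨hgT, hgN, h, hhT, hh⟩
  exact ⟨hTS hgT, hgN, h, hTS hhT, hh⟩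

/-- The full subsystem of a saturated fusion system over a strongly closed subgroup `T` with `S = T C_S(T)` is
saturated. -/
theorem fullSub_isSaturated [Finite S] {p : ℕ} [Fact p.Prime] (hS : IsPGroup p S) {F : FusionSystem S}
    (hF : F.IsSaturated p) {T : Subgroup Ω} (hT : F.StronglyClosed T)
    (hST : ∀ s ∈ S, ∃ t ∈ T, ∃ c ∈ centralizerIn S T, s = t * c)
    (R : FusionSystem T) (hR : ∀ P : Subgroup Ω, P ≤ T → R.Hom P = F.Hom P) : R.IsSaturated p := by
  intro P hP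
  obtain ⟨Q, hPQ, hQfn⟩ := exists_isFullyNormalized_conj F (hP.trans hT.1)
  have hQT : Q ≤ T := by
    obtain ⟨φ, hφ, rfl⟩ := hPQ
    rintro _ ⟨x, rfl⟩
    exact hT.2 P hP φ hφ x
  refine ⟨Q, ?_, ?_, ?_⟩
  · obtain ⟨φ, hφ, hr⟩ := hPQ
    exact ⟨φ, by rw [hR P hP]; exact hφ, hr⟩
  · have hAut : R.autGroup Q = F.autGroup Q := by
      unfold FusionSystem.autGroup
      rw [hR Q hQT]
    have hInd : autInducedBy T Q = autInducedBy S Q := by
      unfold autInducedBy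
      congr 1
      ext α
      constructor
      · rintro ⟨g, hg, h⟩
        exact ⟨g, hT.1 hg, h⟩
      · rintro ⟨g, hg, h⟩
        obtain ⟨t, ht, c, hc, rfl⟩ := hST g hg
        refine ⟨t, ht, fun x => ?_⟩
        rw [h x]
        have hcx : (x : Ω) * c = c * x := ((mem_centralizerIn_iff S T c).1 hc).2 x (hQT x.2)
        calc t * c * (x : Ω) * (t * c)⁻¹ = t * (c * x) * c⁻¹ * t⁻¹ := by group
          _ = t * (x * c) * c⁻¹ * t⁻¹ := by rw [hcx]
          _ = t * x * t⁻¹ := by group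
    obtain ⟨-, R₀, hR₀⟩ := IsSaturated.isFullyAutomized hS hF hQfn
    refine ⟨hQT, ?_⟩
    rw [hAut, hInd]
    exact ⟨R₀, hR₀⟩
  · have hQr : F.IsReceptive Q := IsSaturated.isReceptive_of_isFullyNormalized hS hF hQfn
    refine ⟨hQT, fun P' φ hφ hr => ?_⟩
    have hP'T : P' ≤ T := (R.le_of_mem hφ).1
    have hφF : φ ∈ F.Hom P' := by rw [← hR P' hP'T]; exact hφ
    obtain ⟨ψ, hψ, hψext⟩ := hQr.2 P' φ hφF hr
    have hle : extender T P' φ ≤ extender S P' φ := extender_mono hT.1 P' φ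
    have hleT : extender T P' φ ≤ T := extender_le' φ
    refine ⟨ψ.comp (Subgroup.inclusion hle), ?_, fun x hxP hxN => ?_⟩
    · rw [hR _ hleT]
      exact Helper87_Alperin.restrict_mem F hψ hle
    · exact hψext x hxP (hle hxN)

/-! ### Subsystems given by full or centralizer map sets -/

theorem isMapOn_full {F : FusionSystem S} {T : Subgroup Ω} {R : FusionSystem T}
    (hR : ∀ P : Subgroup Ω, P ≤ T → R.Hom P = F.Hom P) {P : Subgroup Ω} (hP : P ≤ T) {f : Ω → Ω} :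
    IsMapOn R P f ↔ IsMapOn F P f := by
  unfold IsMapOn
  rw [hR P hP]

theorem isMapOn_cent {F : FusionSystem S} {T Q : Subgroup Ω} {R' : FusionSystem T}
    (hR' : ∀ P : Subgroup Ω, P ≤ T → R'.Hom P = F.centralizerHom Q P) (hTQ : T ≤ centralizerIn S Q)
    (hT : F.StronglyClosed T) {P : Subgroup Ω} (hP : P ≤ T) {f : Ω → Ω} :
    IsMapOn R' P f ↔
      ∃ g : Ω → Ω, IsMapOn F (P ⊔ Q) g ∧ (∀ x ∈ P, g x = f x) ∧ ∀ y ∈ Q, g y = y := by
  constructor
  · rintro ⟨φ, hφ, hφf⟩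
    rw [hR' P hP] at hφ
    obtain ⟨-, -, -, ψ, hψ, hψP, hψQ⟩ := hφ
    refine ⟨extHom ψ, isMapOn_extHom F hψ, fun x hx => ?_, fun y hy => ?_⟩
    · have := hψP ⟨x, hx⟩
      rw [← hφf ⟨x, hx⟩, ← this]
      exact extHom_apply ψ _
    · have := hψQ ⟨y, hy⟩
      rw [extHom_apply ψ ((le_sup_right : Q ≤ P ⊔ Q) hy)]
      exact this
  · rintro ⟨g, hg, hgP, hgQ⟩
    obtain ⟨φ, hφ, hφg⟩ := hg.mono (le_sup_left : P ≤ P ⊔ Q)
    refine ⟨φ, ?_, fun x => by rw [hφg, hgP x x.2]⟩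
    rw [hR' P hP]
    refine ⟨hφ, hP.trans hTQ, fun x => hTQ (hT.2 P hP φ hφ x), ?_⟩
    obtain ⟨ψ, hψ, hψg⟩ := hg
    refine ⟨ψ, hψ, fun x => ?_, fun y => ?_⟩
    · rw [hψg, hφg]
      rfl
    · rw [hψg]
      exact hgQ y y.2

end Cfsg.Agent.Lib.Helper85_DirectFactor
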