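import Cfsg.Prelude.Def_FusionSystem
import Mathlib

set_option autoImplicit false

namespace Cfsg.Agent.Lib.Helper87_Alperin

open Cfsg Cfsg.FusionSystem
open scoped Pointwise

variable {Ω : Type*} [Group Ω] {S : Subgroup Ω}

/-! ### Basic API -/

theorem hom_le (F : FusionSystem S) {P : Subgroup Ω} {φ : P →* Ω} (h : φ ∈ F.Hom P) : P ≤ S :=
  (F.le_of_mem h).1

theorem hom_mem (F : FusionSystem S) {P : Subgroup Ω} {φ : P →* Ω} (h : φ ∈ F.Hom P) (x : P) :
    φ x ∈ S :=
  (F.le_of_mem h).2 x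

/-- Restriction of a map of the system to a smaller subgroup is a map of the system. -/
theorem restrict_mem (F : FusionSystem S) {P R : Subgroup Ω} {φ : P →* Ω} (hφ : φ ∈ F.Hom P)
    (hRP : R ≤ P) : φ.comp (Subgroup.inclusion hRP) ∈ F.Hom R := by
  have hR : R ≤ S := hRP.trans (hom_le F hφ)
  have h1 : conjHom R 1 ∈ F.Hom R := F.conj_mem hR S.one_mem
  have h : ∀ x : R, conjHom R 1 x ∈ P := fun x => by
    simpa [conjHom] using hRP x.2
  have h2 := F.comp_mem h1 hφ h
  have h3 : φ.comp ((conjHom R 1).codRestrict P h) = φ.comp (Subgroup.inclusion hRP) := by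
    ext x
    simp only [MonoidHom.comp_apply]
    congr 1
    apply Subtype.ext
    simp [conjHom]
  rw [← h3]
  exact h2

/-- The inclusion of a subgroup of `S` is a map of the system. -/
theorem subtype_mem (F : FusionSystem S) {P : Subgroup Ω} (hP : P ≤ S) : P.subtype ∈ F.Hom P := by
  have h1 : conjHom P 1 ∈ F.Hom P := F.conj_mem hP S.one_mem
  have h2 : conjHom P 1 = P.subtype := by
    ext x
    simp [conjHom]
  rwa [h2] at h1

/-! ### Maps of the system as functions on the ambient group -/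

/-- The function `f : Ω → Ω`, restricted to the subgroup `P`, is a map of the system. -/
def IsMapOn (F : FusionSystem S) (P : Subgroup Ω) (f : Ω → Ω) : Prop :=
  ∃ φ ∈ F.Hom P, ∀ x : P, φ x = f x

namespace IsMapOn

variable {F : FusionSystem S} {P Q R : Subgroup Ω} {f g : Ω → Ω}

theorem le (h : IsMapOn F P f) : P ≤ S := by
  obtain ⟨φ, hφ, -⟩ := h
  exact hom_le F hφ

theorem mem (h : IsMapOn F P f) {x : Ω} (hx : x ∈ P) : f x ∈ S := by
  obtain ⟨φ, hφ, hf⟩ := h
  rw [← hf ⟨x, hx⟩]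
  exact hom_mem F hφ _

theorem map_mul (h : IsMapOn F P f) {x y : Ω} (hx : x ∈ P) (hy : y ∈ P) :
    f (x * y) = f x * f y := by
  obtain ⟨φ, -, hf⟩ := h
  have := φ.map_mul ⟨x, hx⟩ ⟨y, hy⟩
  rw [← hf ⟨x, hx⟩, ← hf ⟨y, hy⟩, ← this]
  exact (hf ⟨x * y, P.mul_mem hx hy⟩).symm

theorem map_one (h : IsMapOn F P f) : f 1 = 1 := by
  obtain ⟨φ, -, hf⟩ := h
  have := hf 1
  rw [φ.map_one] at this
  exact this.symm

theorem map_inv (h : IsMapOn F P f) {x : Ω} (hx : x ∈ P) : f x⁻¹ = (f x)⁻¹ := by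
  obtain ⟨φ, -, hf⟩ := h
  have := φ.map_inv ⟨x, hx⟩
  rw [← hf ⟨x, hx⟩, ← this]
  exact (hf ⟨x⁻¹, P.inv_mem hx⟩).symm

theorem injOn (h : IsMapOn F P f) {x y : Ω} (hx : x ∈ P) (hy : y ∈ P) (hxy : f x = f y) :
    x = y := by
  obtain ⟨φ, hφ, hf⟩ := h
  have h1 : φ ⟨x, hx⟩ = φ ⟨y, hy⟩ := by rw [hf, hf]; exact hxy
  exact congrArg Subtype.val (F.injective_of_mem hφ h1)

theorem congr (h : IsMapOn F P f) (hfg : ∀ x ∈ P, f x = g x) : IsMapOn F P g := by
  obtain ⟨φ, hφ, hf⟩ := h
  exact ⟨φ, hφ, fun x => (hf x).trans (hfg x x.2)⟩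

theorem mono (h : IsMapOn F P f) (hRP : R ≤ P) : IsMapOn F R f := by
  obtain ⟨φ, hφ, hf⟩ := h
  exact ⟨_, restrict_mem F hφ hRP, fun x => hf ⟨x, hRP x.2⟩⟩

theorem comp (hf : IsMapOn F P f) (hg : IsMapOn F Q g) (h : ∀ x ∈ P, f x ∈ Q) :
    IsMapOn F P (g ∘ f) := by
  obtain ⟨φ, hφ, hφf⟩ := hf
  obtain ⟨ψ, hψ, hψg⟩ := hg
  have h' : ∀ x : P, φ x ∈ Q := fun x => by rw [hφf]; exact h x x.2
  refine ⟨_, F.comp_mem hφ hψ h', fun x => ?_⟩
  simp only [MonoidHom.comp_apply, Function.comp_apply]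
  rw [hψg]
  simp only [MonoidHom.codRestrict_apply]
  rw [hφf]

theorem conj (F : FusionSystem S) (hP : P ≤ S) {a : Ω} (ha : a ∈ S) :
    IsMapOn F P (fun x => a * x * a⁻¹) :=
  ⟨_, F.conj_mem hP ha, fun _ => rfl⟩

theorem id (F : FusionSystem S) (hP : P ≤ S) : IsMapOn F P (fun x => x) :=
  ⟨_, subtype_mem F hP, fun _ => rfl⟩

/-- The inverse of a map of the system, on any subgroup `Q` that is the image. -/
theorem inv (hf : IsMapOn F P f) (hQ : ∀ y, y ∈ Q ↔ ∃ x ∈ P, f x = y) :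
    ∃ g : Ω → Ω, IsMapOn F Q g ∧ (∀ x ∈ P, g (f x) = x) ∧ (∀ y ∈ Q, g y ∈ P) ∧
      ∀ y ∈ Q, f (g y) = y := by
  classical
  obtain ⟨φ, hφ, hφf⟩ := hf
  obtain ⟨ψ, hψ, hψφ⟩ := F.inv_mem hφ
  have hQr : Q ≤ φ.range := by
    intro y hy
    obtain ⟨x, hx, rfl⟩ := (hQ y).1 hy
    exact ⟨⟨x, hx⟩, hφf _⟩
  refine ⟨fun y => if hy : y ∈ φ.range then ψ ⟨y, hy⟩ else 1, ⟨_, restrict_mem F hψ hQr, ?_⟩, ?_, ?_, ?_⟩
  · intro y
    simp only [MonoidHom.comp_apply]
    rw [dif_pos (hQr y.2)]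
    rfl
  · intro x hx
    have hx' : f x ∈ φ.range := ⟨⟨x, hx⟩, hφf _⟩
    simp only
    rw [dif_pos hx']
    have := hψφ ⟨x, hx⟩
    simp only [hφf] at this
    exact this
  · intro y hy
    obtain ⟨x, hx, rfl⟩ := (hQ y).1 hy
    have hx' : f x ∈ φ.range := ⟨⟨x, hx⟩, hφf _⟩
    simp only
    rw [dif_pos hx']
    have := hψφ ⟨x, hx⟩
    simp only [hφf] at this
    rw [this]
    exact hx
  · intro y hy
    obtain ⟨x, hx, rfl⟩ := (hQ y).1 hy
    have hx' : f x ∈ φ.range := ⟨⟨x, hx⟩, hφf _⟩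
    simp only
    rw [dif_pos hx']
    have := hψφ ⟨x, hx⟩
    simp only [hφf] at this
    rw [this]

end IsMapOn

/-! ### Automorphism groups -/

open Classical in
/-- Extension of an automorphism of `P` to a function on the ambient group (junk value `1` outside). -/
noncomputable def extFun {P : Subgroup Ω} (α : MulAut P) : Ω → Ω :=
  fun x => if h : x ∈ P then ((α ⟨x, h⟩ : P) : Ω) else 1

theorem extFun_apply {P : Subgroup Ω} (α : MulAut P) {x : Ω} (hx : x ∈ P) :
    extFun α x = ((α ⟨x, hx⟩ : P) : Ω) := by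
  simp only [extFun]
  rw [dif_pos hx]

theorem extFun_coe {P : Subgroup Ω} (α : MulAut P) (x : P) :
    extFun α (x : Ω) = ((α x : P) : Ω) :=
  extFun_apply α x.2

theorem extFun_mem {P : Subgroup Ω} (α : MulAut P) {x : Ω} (hx : x ∈ P) : extFun α x ∈ P := by
  rw [extFun_apply α hx]
  exact (α ⟨x, hx⟩).2

theorem extFun_mul {P : Subgroup Ω} (α β : MulAut P) {x : Ω} (hx : x ∈ P) :
    extFun (α * β) x = extFun α (extFun β x) := by
  rw [extFun_apply _ hx, extFun_apply β hx, extFun_coe]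
  rfl

theorem extFun_inv_apply {P : Subgroup Ω} (α : MulAut P) {x : Ω} (hx : x ∈ P) :
    extFun α⁻¹ (extFun α x) = x := by
  rw [extFun_apply α hx, extFun_coe]
  simp

theorem extFun_apply_inv {P : Subgroup Ω} (α : MulAut P) {x : Ω} (hx : x ∈ P) :
    extFun α (extFun α⁻¹ x) = x := by
  rw [extFun_apply α⁻¹ hx, extFun_coe]
  simp

theorem comp_mem_iff_isMapOn (F : FusionSystem S) {P : Subgroup Ω} (α : MulAut P) :
    P.subtype.comp α.toMonoidHom ∈ F.Hom P ↔ IsMapOn F P (extFun α) := by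
  constructor
  · intro h
    exact ⟨_, h, fun x => (extFun_coe α x).symm⟩
  · rintro ⟨φ, hφ, hf⟩
    have : P.subtype.comp α.toMonoidHom = φ := by
      ext x
      rw [hf, extFun_coe]
      rfl
    rw [this]
    exact hφ

/-- For `P ≤ S`, the generating set of `Aut_F(P)` is already a subgroup. -/
theorem mem_autGroup_iff (F : FusionSystem S) {P : Subgroup Ω} (hP : P ≤ S) (α : MulAut P) :
    α ∈ F.autGroup P ↔ IsMapOn F P (extFun α) := by
  constructor
  · intro h
    unfold FusionSystem.autGroup at h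
    induction h using Subgroup.closure_induction with
    | mem x hx => exact (comp_mem_iff_isMapOn F x).1 hx
    | one =>
      refine (IsMapOn.id F hP).congr fun x hx => ?_
      rw [extFun_apply _ hx]
      rfl
    | mul x y _ _ hx hy =>
      refine (hy.comp hx fun z hz => extFun_mem y hz).congr fun z hz => ?_
      rw [extFun_mul _ _ hz]
      rfl
    | inv x _ hx =>
      obtain ⟨g, hg, hgf, -, -⟩ := hx.inv (Q := P) (fun y => ⟨fun hy =>
        ⟨extFun x⁻¹ y, extFun_mem _ hy, extFun_apply_inv x hy⟩, fun ⟨z, hz, hzy⟩ => hzy ▸ extFun_mem x hz⟩)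
      refine hg.congr fun y hy => ?_
      have := hgf (extFun x⁻¹ y) (extFun_mem _ hy)
      rw [extFun_apply_inv x hy] at this
      exact this
  · intro h
    exact Subgroup.subset_closure ((comp_mem_iff_isMapOn F α).2 h)

theorem mem_autGroup_iff' (F : FusionSystem S) {P : Subgroup Ω} (hP : P ≤ S) (α : MulAut P) :
    α ∈ F.autGroup P ↔ P.subtype.comp α.toMonoidHom ∈ F.Hom P := by
  rw [mem_autGroup_iff F hP, comp_mem_iff_isMapOn]

/-- The automorphisms of `P` induced by conjugation by elements of `K` form a subgroup, so the closure in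
`autInducedBy` adds nothing. -/
theorem mem_autInducedBy_iff (K P : Subgroup Ω) (α : MulAut P) :
    α ∈ autInducedBy K P ↔ ∃ g ∈ K, ∀ x : P, ((α x : P) : Ω) = g * (x : Ω) * g⁻¹ := by
  constructor
  · intro h
    unfold autInducedBy at h
    induction h using Subgroup.closure_induction with
    | mem x hx => exact hx
    | one => exact ⟨1, K.one_mem, fun x => by simp⟩
    | mul x y _ _ hx hy =>
      obtain ⟨a, ha, hxa⟩ := hx
      obtain ⟨b, hb, hyb⟩ := hy
      refine ⟨a * b, K.mul_mem ha hb, fun z => ?_⟩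
      rw [MulAut.mul_apply, hxa, hyb]
      group
    | inv x _ hx =>
      obtain ⟨a, ha, hxa⟩ := hx
      refine ⟨a⁻¹, K.inv_mem ha, fun z => ?_⟩
      have := hxa (x⁻¹ z)
      rw [MulAut.apply_inv_self] at this
      rw [this]
      group
  · intro h
    exact Subgroup.subset_closure h

theorem autInducedBy_le_autGroup (F : FusionSystem S) {P : Subgroup Ω} (hP : P ≤ S) :
    autInducedBy S P ≤ F.autGroup P := by
  intro α hα
  obtain ⟨g, hg, hα⟩ := (mem_autInducedBy_iff S P α).1 hα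
  rw [mem_autGroup_iff F hP]
  refine (IsMapOn.conj F hP hg).congr fun x hx => ?_
  rw [extFun_apply _ hx, hα]

open Classical in
/-- Extension of a homomorphism defined on `P` to a function on the ambient group (junk value `1` outside). -/
noncomputable def extHom {P : Subgroup Ω} (φ : P →* Ω) : Ω → Ω :=
  fun x => if h : x ∈ P then φ ⟨x, h⟩ else 1

theorem extHom_apply {P : Subgroup Ω} (φ : P →* Ω) {x : Ω} (hx : x ∈ P) :
    extHom φ x = φ ⟨x, hx⟩ := by
  simp only [extHom]
  rw [dif_pos hx]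

theorem extHom_coe {P : Subgroup Ω} (φ : P →* Ω) (x : P) : extHom φ (x : Ω) = φ x :=
  extHom_apply φ x.2

theorem isMapOn_extHom (F : FusionSystem S) {P : Subgroup Ω} {φ : P →* Ω} (h : φ ∈ F.Hom P) :
    IsMapOn F P (extHom φ) :=
  ⟨φ, h, fun x => (extHom_coe φ x).symm⟩

theorem mem_hom_iff_isMapOn (F : FusionSystem S) {P : Subgroup Ω} (φ : P →* Ω) :
    φ ∈ F.Hom P ↔ IsMapOn F P (extHom φ) := by
  refine ⟨isMapOn_extHom F, ?_⟩
  rintro ⟨ψ, hψ, hf⟩
  have : φ = ψ := by
    ext x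
    rw [hf, extHom_coe]
  rw [this]
  exact hψ

/-! ### Sylow conjugation -/

theorem sylow_conj_into {G : Type*} [Group G] [Finite G] {p : ℕ} [Fact p.Prime] (R : Sylow p G)
    {B : Subgroup G} (hB : IsPGroup p B) : ∃ χ : G, ∀ b ∈ B, χ * b * χ⁻¹ ∈ (R : Subgroup G) := by
  obtain ⟨R', hBR'⟩ := hB.exists_le_sylow
  obtain ⟨χ, hχ⟩ := MulAction.exists_smul_eq G R' R
  refine ⟨χ, fun b hb => ?_⟩
  have h1 : b ∈ (R' : Subgroup G) := hBR' hb
  have h2 : MulAut.conj χ • b ∈ MulAut.conj χ • (R' : Subgroup G) :=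
    Subgroup.smul_mem_pointwise_smul _ _ _ h1
  have h3 : ((χ • R' : Sylow p G) : Subgroup G) = MulAut.conj χ • (R' : Subgroup G) :=
    Sylow.coe_subgroup_smul
  rw [← h3, hχ] at h2
  simpa [MulAut.smul_def] using h2

/-! ### Extension to the normalizer -/

theorem normalizerIn_le (S P : Subgroup Ω) : normalizerIn S P ≤ S := inf_le_left

theorem normalizerIn_le_normalizer (S P : Subgroup Ω) :
    normalizerIn S P ≤ Subgroup.normalizer (P : Set Ω) := inf_le_right

theorem le_normalizerIn {S P : Subgroup Ω} (hP : P ≤ S) : P ≤ normalizerIn S P :=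
  le_inf hP Subgroup.le_normalizer

theorem conj_mem_of_mem_normalizerIn {S P : Subgroup Ω} {g x : Ω} (hg : g ∈ normalizerIn S P)
    (hx : x ∈ P) : g * x * g⁻¹ ∈ P :=
  ((normalizerIn_le_normalizer S P hg) x).1 hx

/-- AKO Lemma I.2.6(c): if `Q` is fully automized and receptive and `φ` is a map of the system from `P` onto
`Q`, then, after composing with a suitable element `α` of `Aut_F(Q)`, the map extends to `N_S(P)`. -/
theorem exists_extension (F : FusionSystem S) [Finite S] {p : ℕ} [Fact p.Prime] (hS : IsPGroup p S)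
    {P Q : Subgroup Ω} (hQa : F.IsFullyAutomized p Q) (hQr : F.IsReceptive Q) {φ : P →* Ω}
    (hφ : φ ∈ F.Hom P) (hr : φ.range = Q) :
    ∃ α ∈ F.autGroup Q, ∃ a : Ω → Ω, IsMapOn F (normalizerIn S P) a ∧
      ∀ x : P, a x = extFun α (φ x) := by
  classical
  obtain ⟨hQS, R, hR⟩ := hQa
  have hPS : P ≤ S := hom_le F hφ
  have hφQ : ∀ x : P, φ x ∈ Q := fun x => hr ▸ ⟨x, rfl⟩
  have hinj : Function.Injective φ := F.injective_of_mem hφ
  have hfinQ : Finite Q := Finite.of_injective (Subgroup.inclusion hQS) (Subgroup.inclusion_injective hQS)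
  -- the isomorphism `e : P ≃* Q`
  have hbij : Function.Bijective (φ.codRestrict Q hφQ) := by
    constructor
    · intro x y hxy
      apply hinj
      exact congrArg Subtype.val hxy
    · rintro ⟨y, hy⟩
      rw [← hr] at hy
      obtain ⟨x, rfl⟩ := hy
      exact ⟨x, rfl⟩
  let e : P ≃* Q := MulEquiv.ofBijective (φ.codRestrict Q hφQ) hbij
  have he : ∀ x : P, ((e x : Q) : Ω) = φ x := fun x => rfl
  -- the conjugation action of `N_S(P)` transported to `Q`
  let κ : ↥(normalizerIn S P) →* MulAut Q :=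
    (MulAut.congr e).toMonoidHom.comp
      ((Subgroup.normalizerMonoidHom P).comp (Subgroup.inclusion (normalizerIn_le_normalizer S P)))
  have hκ : ∀ (g : ↥(normalizerIn S P)) (x : P),
      ((κ g (e x) : Q) : Ω) = φ ⟨g * x * (g : Ω)⁻¹, conj_mem_of_mem_normalizerIn g.2 x.2⟩ := by
    intro g x
    simp only [κ, MonoidHom.comp_apply, MulEquiv.coe_toMonoidHom, MulAut.congr_apply,
      MulEquiv.trans_apply, MulEquiv.symm_apply_apply]
    rw [he]
    congr 1
  have hf : IsMapOn F P (extHom φ) := isMapOn_extHom F hφ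
  have hQiff : ∀ y, y ∈ Q ↔ ∃ x ∈ P, extHom φ x = y := by
    intro y
    constructor
    · intro hy
      rw [← hr] at hy
      obtain ⟨x, rfl⟩ := hy
      exact ⟨x, x.2, extHom_coe φ x⟩
    · rintro ⟨x, hx, rfl⟩
      rw [extHom_apply φ hx]
      exact hφQ _
  obtain ⟨finv, hfinv, hfinv1, hfinv2, hfinv3⟩ := hf.inv hQiff
  have hκmem : ∀ g : ↥(normalizerIn S P), κ g ∈ F.autGroup Q := by
    intro g
    rw [mem_autGroup_iff F hQS]
    have hgS : (g : Ω) ∈ S := normalizerIn_le S P g.2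
    have h1 : IsMapOn F Q ((fun x => (g : Ω) * x * (g : Ω)⁻¹) ∘ finv) :=
      hfinv.comp (IsMapOn.conj F hPS hgS) hfinv2
    have h2 : IsMapOn F Q (extHom φ ∘ ((fun x => (g : Ω) * x * (g : Ω)⁻¹) ∘ finv)) :=
      h1.comp hf fun y hy => conj_mem_of_mem_normalizerIn g.2 (hfinv2 y hy)
    refine h2.congr fun y hy => ?_
    simp only [Function.comp_apply]
    rw [extFun_apply _ hy]
    have hy' : (⟨y, hy⟩ : Q) = e ⟨finv y, hfinv2 y hy⟩ := by
      apply Subtype.ext
      rw [he, ← extHom_apply φ (hfinv2 y hy), hfinv3 y hy]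
    rw [hy', hκ, extHom_apply φ (conj_mem_of_mem_normalizerIn g.2 (hfinv2 y hy))]
  let κ' : ↥(normalizerIn S P) →* F.autGroup Q := κ.codRestrict _ hκmem
  have hNp : IsPGroup p ↥(normalizerIn S P) := by
    have : IsPGroup p ↥((normalizerIn S P).subgroupOf S) := hS.to_subgroup _
    exact this.of_equiv (Subgroup.subgroupOfEquivOfLe (normalizerIn_le S P))
  have hB : IsPGroup p ↥κ'.range := by
    have h := hNp.of_surjective κ'.rangeRestrict κ'.rangeRestrict_surjective
    exact h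
  have : Finite (F.autGroup Q) := inferInstance
  obtain ⟨χ, hχ⟩ := sylow_conj_into R hB
  -- the automorphism
  refine ⟨χ, χ.2, ?_⟩
  have hχmap : IsMapOn F Q (extFun (χ : MulAut Q)) := (mem_autGroup_iff F hQS _).1 χ.2
  have hψ₀' : IsMapOn F P (extFun (χ : MulAut Q) ∘ extHom φ) :=
    hf.comp hχmap fun x hx => (hQiff _).2 ⟨x, hx, rfl⟩
  obtain ⟨ψ₀, hψ₀, hψ₀f⟩ := hψ₀'
  have hψ₀x : ∀ x : P, ψ₀ x = extFun (χ : MulAut Q) (φ x) := by
    intro x
    rw [hψ₀f, Function.comp_apply, extHom_coe]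
  have hψ₀r : ψ₀.range = Q := by
    ext y
    constructor
    · rintro ⟨x, rfl⟩
      rw [hψ₀x]
      exact extFun_mem _ (hφQ x)
    · intro hy
      have h1 : extFun (χ : MulAut Q)⁻¹ y ∈ Q := extFun_mem _ hy
      obtain ⟨x, hxP, hx⟩ := (hQiff _).1 h1
      refine ⟨⟨x, hxP⟩, ?_⟩
      rw [hψ₀x, ← extHom_apply φ hxP, hx]
      exact extFun_apply_inv _ hy
  -- `N_S(P)` is contained in the extender of `ψ₀`
  have hle : normalizerIn S P ≤ extender S P ψ₀ := by
    intro g hg
    have h1 : (χ * κ' ⟨g, hg⟩ * χ⁻¹ : F.autGroup Q) ∈ (R : Subgroup (F.autGroup Q)) :=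
      hχ _ ⟨⟨g, hg⟩, rfl⟩
    rw [hR, Subgroup.mem_subgroupOf, mem_autInducedBy_iff] at h1
    obtain ⟨h, hhS, hh⟩ := h1
    refine Subgroup.subset_closure ⟨normalizerIn_le S P hg, normalizerIn_le_normalizer S P hg, h, hhS, ?_⟩
    intro x hx
    rw [hψ₀x, hψ₀x, extFun_apply _ (hφQ _), extFun_apply _ (hφQ _)]
    have h2 := hh ((χ : MulAut Q) ⟨φ x, hφQ x⟩)
    rw [← h2]
    simp only [Subgroup.coe_mul, Subgroup.coe_inv, MulAut.mul_apply, MulAut.inv_apply_self]
    congr 2
    have h3 : (⟨φ x, hφQ x⟩ : Q) = e x := rfl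
    rw [h3]
    apply Subtype.ext
    have h4 := hκ ⟨g, hg⟩ x
    exact h4.symm
  obtain ⟨ψ, hψ, hψP⟩ := hQr.2 P ψ₀ hψ₀ hψ₀r
  refine ⟨extHom (ψ.comp (Subgroup.inclusion hle)), isMapOn_extHom F (restrict_mem F hψ hle), ?_⟩
  intro x
  have hxN : (x : Ω) ∈ normalizerIn S P := le_normalizerIn hPS x.2
  rw [extHom_apply _ hxN, ← hψ₀x]
  exact hψP x x.2 (hle hxN)

/-! ### Proper subgroups of `S` have strictly larger normalizers -/

theorem card_lt_of_lt {A B : Subgroup Ω} [Finite B] (h : A < B) : Nat.card A < Nat.card B := by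
  have hle := Subgroup.card_le_of_le h.le
  rcases hle.lt_or_eq with h1 | h1
  · exact h1
  · exact absurd (Subgroup.eq_of_le_of_card_ge h.le h1.ge) h.ne

theorem lt_normalizerIn [Finite S] {p : ℕ} [Fact p.Prime] (hS : IsPGroup p S) {P : Subgroup Ω}
    (hPS : P ≤ S) (hne : P ≠ S) : P < normalizerIn S P := by
  have hnil : Group.IsNilpotent S := hS.isNilpotent
  have hnc := Group.normalizerCondition_of_isNilpotent (G := S)
  have hH : P.subgroupOf S < ⊤ := by
    rw [lt_top_iff_ne_top, Ne, Subgroup.subgroupOf_eq_top]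
    exact fun h => hne (le_antisymm hPS h)
  have h1 := hnc _ hH
  obtain ⟨x, hxN, hxH⟩ := SetLike.exists_of_lt h1
  refine lt_of_le_of_ne (le_normalizerIn hPS) ?_
  intro heq
  apply hxH
  rw [Subgroup.mem_subgroupOf, heq]
  refine ⟨x.2, ?_⟩
  show (x : Ω) ∈ Subgroup.normalizer (P : Set Ω)
  rw [Subgroup.mem_normalizer_iff] at hxN ⊢
  intro h
  constructor
  · intro hh
    have := (hxN ⟨h, hPS hh⟩).1 (Subgroup.mem_subgroupOf.2 hh)
    exact Subgroup.mem_subgroupOf.1 this
  · intro hh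
    have hhS : h ∈ S := by
      have h2 : (x : Ω) * h * (x : Ω)⁻¹ ∈ S := hPS hh
      have h3 : h = (x : Ω)⁻¹ * ((x : Ω) * h * (x : Ω)⁻¹) * (x : Ω) := by group
      rw [h3]
      exact S.mul_mem (S.mul_mem (S.inv_mem x.2) h2) x.2
    exact Subgroup.mem_subgroupOf.1 ((hxN ⟨h, hhS⟩).2 (Subgroup.mem_subgroupOf.2 hh))

/-! ### The weak form of Alperin's fusion theorem -/

/-- Weak Alperin: a fusion system `E` over `S` that contains `Aut_F(Q)` for every fully automized and receptive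
subgroup `Q` of the saturated system `F` contains every map of `F`. -/
theorem weak_alperin_isMapOn (F : FusionSystem S) [Finite S] {p : ℕ} [Fact p.Prime] (hS : IsPGroup p S)
    (hF : F.IsSaturated p) (E : FusionSystem S)
    (hE : ∀ Q : Subgroup Ω, F.IsFullyAutomized p Q → F.IsReceptive Q →
      ∀ α ∈ F.autGroup Q, IsMapOn E Q (extFun α)) :
    ∀ (P : Subgroup Ω) (f : Ω → Ω), IsMapOn F P f → IsMapOn E P f := by
  classical
  intro P f hf
  induction' hn : Nat.card S - Nat.card P using Nat.strong_induction_on with n ih generalizing P f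
  have hPS : P ≤ S := hf.le
  have hfinP : Finite P := Finite.of_injective (Subgroup.inclusion hPS) (Subgroup.inclusion_injective hPS)
  obtain ⟨Q, ⟨k₀, hk₀, hk₀r⟩, hQa, hQr⟩ := hF P hPS
  have hQS : Q ≤ S := hQa.1
  have hfinQ : Finite Q := Finite.of_injective (Subgroup.inclusion hQS) (Subgroup.inclusion_injective hQS)
  have hk₀Q : ∀ x : P, k₀ x ∈ Q := fun x => hk₀r ▸ ⟨x, rfl⟩
  have hk₀inj : Function.Injective k₀ := F.injective_of_mem hk₀
  have hcardPQ : Nat.card P = Nat.card Q := by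
    apply Nat.card_congr
    refine Equiv.ofBijective (fun x => (⟨k₀ x, hk₀Q x⟩ : Q)) ⟨?_, ?_⟩
    · intro x y hxy
      exact hk₀inj (congrArg Subtype.val hxy)
    · rintro ⟨y, hy⟩
      rw [← hk₀r] at hy
      obtain ⟨x, rfl⟩ := hy
      exact ⟨x, rfl⟩
  obtain ⟨φ, hφ, hφf⟩ := hf
  have hφinj : Function.Injective φ := F.injective_of_mem hφ
  have hφS : ∀ x : P, φ x ∈ S := hom_mem F hφ
  by_cases hPeq : P = S
  · -- the case `P = S`
    have hQeq : Q = P := by
      rw [hPeq]
      refine Subgroup.eq_of_le_of_card_ge hQS ?_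
      rw [← hcardPQ, hPeq]
    rw [hQeq] at hQa hQr
    have hφP : ∀ x : P, φ x ∈ P := fun x => hPeq.ge (hφS x)
    have hbij : Function.Bijective (φ.codRestrict P hφP) := by
      rw [← Finite.injective_iff_bijective]
      intro x y hxy
      exact hφinj (congrArg Subtype.val hxy)
    let α : MulAut P := MulEquiv.ofBijective (φ.codRestrict P hφP) hbij
    have hα : ∀ x : P, ((α x : P) : Ω) = φ x := fun x => rfl
    have hαmem : α ∈ F.autGroup P := by
      rw [mem_autGroup_iff F hPS]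
      exact ⟨φ, hφ, fun x => by rw [extFun_coe, hα]⟩
    refine (hE P hQa hQr α hαmem).congr fun x hx => ?_
    rw [extFun_apply _ hx, hα, hφf]
  · -- the case `P < S`
    have hlt : P < normalizerIn S P := lt_normalizerIn hS hPS hPeq
    have hfinN : Finite ↥(normalizerIn S P) :=
      Finite.of_injective (Subgroup.inclusion (normalizerIn_le S P)) (Subgroup.inclusion_injective _)
    have hcardlt : Nat.card P < Nat.card ↥(normalizerIn S P) := card_lt_of_lt hlt
    have hcardN : Nat.card ↥(normalizerIn S P) ≤ Nat.card S := Subgroup.card_le_of_le (normalizerIn_le S P)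
    -- the image `P'` of `φ`
    have hP'S : φ.range ≤ S := by
      rintro _ ⟨x, rfl⟩
      exact hφS x
    have hfinP' : Finite φ.range :=
      Finite.of_injective (Subgroup.inclusion hP'S) (Subgroup.inclusion_injective hP'S)
    have hcardP' : Nat.card φ.range = Nat.card P := by
      symm
      apply Nat.card_congr
      exact (MonoidHom.ofInjective hφinj).toEquiv
    have hP'ne : φ.range ≠ S := by
      intro h
      apply hPeq
      refine Subgroup.eq_of_le_of_card_ge hPS ?_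
      rw [← hcardP', h]
    have hlt' : φ.range < normalizerIn S φ.range := lt_normalizerIn hS hP'S hP'ne
    have hfinN' : Finite ↥(normalizerIn S φ.range) :=
      Finite.of_injective (Subgroup.inclusion (normalizerIn_le S _)) (Subgroup.inclusion_injective _)
    have hcardlt' : Nat.card φ.range < Nat.card ↥(normalizerIn S φ.range) := card_lt_of_lt hlt'
    have hcardN' : Nat.card ↥(normalizerIn S φ.range) ≤ Nat.card S :=
      Subgroup.card_le_of_le (normalizerIn_le S _)
    -- the inverse of `φ`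
    have hfφ : IsMapOn F P (extHom φ) := isMapOn_extHom F hφ
    have hP'iff : ∀ y, y ∈ φ.range ↔ ∃ x ∈ P, extHom φ x = y := by
      intro y
      constructor
      · rintro ⟨x, rfl⟩
        exact ⟨x, x.2, extHom_coe φ x⟩
      · rintro ⟨x, hx, rfl⟩
        exact ⟨⟨x, hx⟩, (extHom_apply φ hx).symm⟩
    obtain ⟨finv, hfinv, hfinv1, hfinv2, hfinv3⟩ := hfφ.inv hP'iff
    -- the map `k₂ = k₀ ∘ φ⁻¹ : P' → Q`
    have hk₀map : IsMapOn F P (extHom k₀) := isMapOn_extHom F hk₀
    have hk₂map : IsMapOn F φ.range (extHom k₀ ∘ finv) := hfinv.comp hk₀map hfinv2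
    obtain ⟨k₂, hk₂, hk₂f⟩ := hk₂map
    have hk₂r : k₂.range = Q := by
      ext y
      constructor
      · rintro ⟨x, rfl⟩
        rw [hk₂f, Function.comp_apply, extHom_apply k₀ (hfinv2 _ x.2)]
        exact hk₀Q _
      · intro hy
        rw [← hk₀r] at hy
        obtain ⟨x, rfl⟩ := hy
        refine ⟨⟨φ x, ⟨x, rfl⟩⟩, ?_⟩
        rw [hk₂f, Function.comp_apply]
        have : finv (φ x) = x := by
          have := hfinv1 x x.2
          rwa [extHom_coe] at this
        rw [this, extHom_coe]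
    -- extensions to the normalizers
    obtain ⟨α₁, hα₁, a₁, ha₁, ha₁P⟩ := exists_extension F hS hQa hQr hk₀ hk₀r
    obtain ⟨α₂, hα₂, a₂, ha₂, ha₂P⟩ := exists_extension F hS hQa hQr hk₂ hk₂r
    -- induction hypothesis
    have hE₁ : IsMapOn E (normalizerIn S P) a₁ := ih _ (by omega) _ _ ha₁ rfl
    have hE₂ : IsMapOn E (normalizerIn S φ.range) a₂ := ih _ (by omega) _ _ ha₂ rfl
    have hE₁P : IsMapOn E P a₁ := hE₁.mono hlt.le
    have hE₂P' : IsMapOn E φ.range a₂ := hE₂.mono hlt'.le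
    -- images
    have hQiff₂ : ∀ y, y ∈ Q ↔ ∃ x ∈ φ.range, a₂ x = y := by
      intro y
      constructor
      · intro hy
        have h1 : extFun α₂⁻¹ y ∈ Q := extFun_mem _ hy
        have h1' : extFun α₂⁻¹ y ∈ k₂.range := hk₂r.ge h1
        obtain ⟨x, hx⟩ := h1'
        refine ⟨x, x.2, ?_⟩
        rw [ha₂P, hx]
        exact extFun_apply_inv _ hy
      · rintro ⟨x, hx, rfl⟩
        rw [ha₂P ⟨x, hx⟩]
        refine extFun_mem _ ?_
        rw [← hk₂r]
        exact ⟨_, rfl⟩
    obtain ⟨b₂, hb₂, hb₂1, hb₂2, hb₂3⟩ := hE₂P'.inv hQiff₂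
    -- the middle automorphism
    have hmid : IsMapOn E Q (extFun (α₂ * α₁⁻¹)) :=
      hE Q hQa hQr _ ((F.autGroup Q).mul_mem hα₂ ((F.autGroup Q).inv_mem hα₁))
    have ha₁Q : ∀ x ∈ P, a₁ x ∈ Q := by
      intro x hx
      rw [ha₁P ⟨x, hx⟩]
      exact extFun_mem _ (hk₀Q _)
    have hcomp : IsMapOn E P (b₂ ∘ (extFun (α₂ * α₁⁻¹) ∘ a₁)) :=
      (hE₁P.comp hmid ha₁Q).comp hb₂ fun x hx => extFun_mem _ (ha₁Q x hx)
    refine hcomp.congr fun x hx => ?_
    simp only [Function.comp_apply]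
    rw [← hφf ⟨x, hx⟩]
    have h1 : a₁ x = extFun α₁ (k₀ ⟨x, hx⟩) := ha₁P ⟨x, hx⟩
    have h2 : a₂ (φ ⟨x, hx⟩) = extFun α₂ (k₀ ⟨x, hx⟩) := by
      rw [ha₂P ⟨φ ⟨x, hx⟩, ⟨_, rfl⟩⟩, hk₂f, Function.comp_apply]
      have : finv (φ ⟨x, hx⟩) = x := by
        have := hfinv1 x hx
        rwa [extHom_apply φ hx] at this
      simp only [this, extHom_apply k₀ hx]
    have h3 : extFun (α₂ * α₁⁻¹) (a₁ x) = a₂ (φ ⟨x, hx⟩) := by
      rw [h1, h2, extFun_mul _ _ (extFun_mem _ (hk₀Q _)), extFun_inv_apply _ (hk₀Q _)]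
    rw [h3]
    exact hb₂1 _ ⟨_, rfl⟩

/-- Weak Alperin, in terms of the map sets. -/
theorem weak_alperin (F : FusionSystem S) [Finite S] {p : ℕ} [Fact p.Prime] (hS : IsPGroup p S)
    (hF : F.IsSaturated p) (E : FusionSystem S)
    (hE : ∀ Q : Subgroup Ω, F.IsFullyAutomized p Q → F.IsReceptive Q →
      ∀ α ∈ F.autGroup Q, Q.subtype.comp (α : MulAut Q).toMonoidHom ∈ E.Hom Q) :
    F.IsSubsystemOf E := by
  intro P φ hφ
  rw [mem_hom_iff_isMapOn]
  refine weak_alperin_isMapOn F hS hF E ?_ P _ (isMapOn_extHom F hφ)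
  intro Q hQa hQr α hα
  exact (comp_mem_iff_isMapOn E α).1 (hE Q hQa hQr α hα)

/-- The inner fusion system is contained in every fusion system over `S`. -/
theorem inner_hom_subset (F : FusionSystem S) (P : Subgroup Ω) :
    (innerFusionSystem S).Hom P ⊆ F.Hom P := by
  rintro φ ⟨hP, g, hg, hφ⟩
  have : φ = conjHom P g := by
    ext x
    rw [hφ]
    rfl
  rw [this]
  exact F.conj_mem hP hg

/-- Frobenius' criterion for fusion systems, weak form: a saturated fusion system over `S` in which `Aut_F(Q)` is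
a `p`-group for every fully automized receptive `Q` is the inner fusion system of `S`. -/
theorem eq_inner_of_autGroup_isPGroup (F : FusionSystem S) [Finite S] {p : ℕ} [Fact p.Prime]
    (hS : IsPGroup p S) (hF : F.IsSaturated p)
    (hA : ∀ Q : Subgroup Ω, F.IsFullyAutomized p Q → F.IsReceptive Q → IsPGroup p (F.autGroup Q)) :
    ∀ P : Subgroup Ω, F.Hom P = (innerFusionSystem S).Hom P := by
  intro P
  refine Set.Subset.antisymm ?_ (inner_hom_subset F P)
  refine weak_alperin F hS hF (innerFusionSystem S) ?_ P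
  intro Q hQa hQr α hα
  obtain ⟨hQS, R, hR⟩ := hQa
  have hp := hA Q ⟨hQS, R, hR⟩ hQr
  have htop : (⊤ : Subgroup (F.autGroup Q)) = (R : Subgroup (F.autGroup Q)) :=
    R.is_maximal' (hp.to_subgroup ⊤) le_top
  have hαR : (⟨α, hα⟩ : F.autGroup Q) ∈ (R : Subgroup (F.autGroup Q)) := by
    rw [← htop]
    exact Subgroup.mem_top _
  rw [hR, Subgroup.mem_subgroupOf, mem_autInducedBy_iff] at hαR
  obtain ⟨g, hg, hαg⟩ := hαR
  exact ⟨hQS, g, hg, fun x => hαg x⟩

/-! ### Automorphisms of order prime to `p` stabilizing a chain -/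

/-- An automorphism `β` of order prime to `p` of a finite `p`-group `P` that "stabilizes" a chain `C 0 ≥ P`, ...,
`C n = ⊥` (not necessarily nested) in the sense that `x⁻¹ β(x) ∈ C (i+1)` for `x ∈ P ∩ C i`, is trivial. -/
theorem aut_eq_one_of_chain {P : Subgroup Ω} [Finite P] {p : ℕ} [Fact p.Prime] (hP : IsPGroup p P)
    (β : MulAut P) (hβ : (orderOf β).Coprime p) (C : ℕ → Subgroup Ω) (n : ℕ) (hC0 : P ≤ C 0)
    (hCn : C n = ⊥)
    (hstep : ∀ i < n, ∀ x : P, (x : Ω) ∈ C i → (x : Ω)⁻¹ * ((β x : P) : Ω) ∈ C (i + 1)) : β = 1 := by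
  -- (A) invariance
  have hA : ∀ i ≤ n, ∀ x : P, (∀ j ≤ i, (x : Ω) ∈ C j) → ∀ j ≤ i, ((β x : P) : Ω) ∈ C j := by
    intro i
    induction i with
    | zero =>
      intro _ x _ j hj
      obtain rfl : j = 0 := by omega
      exact hC0 (β x).2
    | succ i ih =>
      intro hi x hx j hj
      rcases Nat.lt_or_ge j (i + 1) with hlt | hge
      · exact ih (by omega) x (fun j' hj' => hx j' (by omega)) j (by omega)
      · obtain rfl : j = i + 1 := by omega
        have h1 : (x : Ω)⁻¹ * ((β x : P) : Ω) ∈ C (i + 1) := hstep i (by omega) x (hx i (by omega))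
        have h2 : (x : Ω) ∈ C (i + 1) := hx (i + 1) le_rfl
        have h3 : ((β x : P) : Ω) = (x : Ω) * ((x : Ω)⁻¹ * ((β x : P) : Ω)) := by group
        rw [h3]
        exact (C (i + 1)).mul_mem h2 h1
  -- (B) triviality, by downward induction
  have hB : ∀ k ≤ n, ∀ x : P, (∀ j ≤ n - k, (x : Ω) ∈ C j) → β x = x := by
    intro k
    induction k with
    | zero =>
      intro _ x hx
      have h1 : (x : Ω) ∈ C n := hx n (by omega)
      rw [hCn, Subgroup.mem_bot] at h1
      have h2 : x = 1 := Subtype.ext h1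
      rw [h2, map_one]
    | succ k ih =>
      intro hk x hx
      set i := n - (k + 1) with hi
      have hin : i < n := by omega
      -- y = x⁻¹ β(x)
      set y : P := x⁻¹ * β x with hy
      have hyC : ∀ j ≤ n - k, ((y : P) : Ω) ∈ C j := by
        intro j hj
        rcases Nat.lt_or_ge j (i + 1) with hlt | hge
        · have h1 : (x : Ω) ∈ C j := hx j (by omega)
          have h2 : ((β x : P) : Ω) ∈ C j := hA i (by omega) x hx j (by omega)
          have h3 : ((y : P) : Ω) = (x : Ω)⁻¹ * ((β x : P) : Ω) := rfl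
          rw [h3]
          exact (C j).mul_mem ((C j).inv_mem h1) h2
        · obtain rfl : j = i + 1 := by omega
          exact hstep i hin x (hx i le_rfl)
      have hβy : β y = y := ih (by omega) y hyC
      have hβx : β x = x * y := by rw [hy]; group
      have hpow : ∀ m : ℕ, (β ^ m) x = x * y ^ m := by
        intro m
        induction m with
        | zero => simp
        | succ m ihm =>
          rw [pow_succ', MulAut.mul_apply, ihm, map_mul, map_pow, hβy, hβx, pow_succ', mul_assoc]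
      have h1 := hpow (orderOf β)
      rw [pow_orderOf_eq_one, MulAut.one_apply] at h1
      have h2 : y ^ orderOf β = 1 := by
        have := h1.symm
        rwa [mul_eq_left] at this
      have h3 : orderOf y ∣ orderOf β := orderOf_dvd_of_pow_eq_one h2
      obtain ⟨a, ha⟩ := IsPGroup.iff_orderOf.1 hP y
      have h4 : orderOf y = 1 := by
        have h5 : (orderOf y).Coprime (orderOf y) := by
          apply Nat.Coprime.coprime_dvd_left h3
          rw [ha]
          exact Nat.Coprime.pow_right a hβ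
        exact (Nat.coprime_self _).1 h5
      rw [orderOf_eq_one_iff] at h4
      rw [hβx, h4, mul_one]
  ext x
  have := hB n le_rfl x (fun j hj => by
    obtain rfl : j = 0 := by omega
    exact hC0 x.2)
  rw [this]
  rfl

/-- A finite group all of whose elements of order prime to `p` are trivial is a `p`-group. -/
theorem isPGroup_of_coprime_eq_one {G : Type*} [Group G] [Finite G] {p : ℕ} [hp : Fact p.Prime]
    (h : ∀ g : G, (orderOf g).Coprime p → g = 1) : IsPGroup p G := by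
  intro g
  have hm0 : orderOf g ≠ 0 := (orderOf_pos g).ne'
  obtain ⟨k, m', hm', hm⟩ := Nat.exists_eq_pow_mul_and_not_dvd hm0 p hp.out.ne_one
  refine ⟨k, h _ ?_⟩
  have h1 : orderOf (g ^ p ^ k) = m' := by
    rw [orderOf_pow' g (pow_ne_zero k hp.out.ne_zero), hm]
    have h2 : Nat.gcd (p ^ k * m') (p ^ k) = p ^ k := Nat.gcd_eq_right (dvd_mul_right _ _)
    rw [h2]
    exact Nat.mul_div_cancel_left m' (pow_pos hp.out.pos k)
  rw [h1]
  exact ((Nat.Prime.coprime_iff_not_dvd hp.out).2 hm').symm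

end Cfsg.Agent.Lib.Helper87_Alperin
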