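import Cfsg.Agent.Lib.Helper85_Fusion
import Cfsg.Agent.Lib.Helper84_FusionRS
import Cfsg.Agent.Lib.Helper87_Alperin
import Cfsg.Agent.Lib.Helper85_GroupFusion

/-!
Transport of fusion systems along an isomorphism `e : S ≃* T`, where `S ≤ Ω` and `T ≤ Ω'` live in
different ambient groups (helper85).
-/

set_option autoImplicit false
set_option linter.style.haveILetI false

namespace Cfsg.Agent.Lib.Helper85_Transport

open Cfsg Cfsg.FusionSystem Cfsg.Agent.Lib
open Cfsg.Agent.Lib.Helper87_Alperin (IsMapOn extFun extHom)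

variable {Ω Ω' : Type*} [Group Ω] [Group Ω'] {S : Subgroup Ω} {T : Subgroup Ω'}

/-! ### Extending an isomorphism to a function on the ambient group -/

open Classical in
/-- The isomorphism `e : S ≃* T` as a function `Ω → Ω'` (junk value `1` outside `S`). -/
noncomputable def ext (e : S ≃* T) : Ω → Ω' := fun x => if h : x ∈ S then ((e ⟨x, h⟩ : T) : Ω') else 1

theorem ext_apply (e : S ≃* T) {x : Ω} (hx : x ∈ S) : ext e x = ((e ⟨x, hx⟩ : T) : Ω') := by
  simp only [ext]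
  rw [dif_pos hx]

theorem ext_coe (e : S ≃* T) (x : S) : ext e (x : Ω) = ((e x : T) : Ω') := ext_apply e x.2

theorem ext_mem (e : S ≃* T) (x : Ω) : ext e x ∈ T := by
  by_cases hx : x ∈ S
  · rw [ext_apply e hx]; exact (e _).2
  · simp only [ext]; rw [dif_neg hx]; exact T.one_mem

theorem ext_symm_ext (e : S ≃* T) {x : Ω} (hx : x ∈ S) : ext e.symm (ext e x) = x := by
  rw [ext_apply e hx, ext_coe]
  simp

theorem ext_ext_symm (e : S ≃* T) {y : Ω'} (hy : y ∈ T) : ext e (ext e.symm y) = y := by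
  rw [ext_apply e.symm hy, ext_coe]
  simp

theorem ext_mul (e : S ≃* T) {x y : Ω} (hx : x ∈ S) (hy : y ∈ S) :
    ext e (x * y) = ext e x * ext e y := by
  rw [ext_apply e hx, ext_apply e hy, ext_apply e (S.mul_mem hx hy)]
  have : (⟨x * y, S.mul_mem hx hy⟩ : S) = ⟨x, hx⟩ * ⟨y, hy⟩ := rfl
  rw [this, map_mul]
  rfl

theorem ext_one (e : S ≃* T) : ext e (1 : Ω) = 1 := by
  rw [ext_apply e S.one_mem]
  have : (⟨1, S.one_mem⟩ : S) = 1 := rfl
  rw [this, map_one]
  rfl

theorem ext_inv (e : S ≃* T) {x : Ω} (hx : x ∈ S) : ext e x⁻¹ = (ext e x)⁻¹ := by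
  rw [ext_apply e hx, ext_apply e (S.inv_mem hx)]
  have : (⟨x⁻¹, S.inv_mem hx⟩ : S) = ⟨x, hx⟩⁻¹ := rfl
  rw [this, map_inv]
  rfl

theorem ext_conj (e : S ≃* T) {g x : Ω} (hg : g ∈ S) (hx : x ∈ S) :
    ext e (g * x * g⁻¹) = ext e g * ext e x * (ext e g)⁻¹ := by
  rw [ext_mul e (S.mul_mem hg hx) (S.inv_mem hg), ext_mul e hg hx, ext_inv e hg]

theorem ext_injOn (e : S ≃* T) {x y : Ω} (hx : x ∈ S) (hy : y ∈ S) (h : ext e x = ext e y) :
    x = y := by
  rw [← ext_symm_ext e hx, ← ext_symm_ext e hy, h]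

/-! ### Transport of subgroups -/

/-- The image of `P ⊓ S` under `e`. -/
def push (e : S ≃* T) (P : Subgroup Ω) : Subgroup Ω' :=
  (P.subgroupOf S).map (T.subtype.comp e.toMonoidHom)

theorem mem_push (e : S ≃* T) (P : Subgroup Ω) (y : Ω') :
    y ∈ push e P ↔ ∃ x ∈ P, x ∈ S ∧ ext e x = y := by
  constructor
  · rintro ⟨x, hx, rfl⟩
    exact ⟨x, Subgroup.mem_subgroupOf.1 hx, x.2, ext_coe e x⟩
  · rintro ⟨x, hxP, hxS, rfl⟩
    exact ⟨⟨x, hxS⟩, Subgroup.mem_subgroupOf.2 hxP, (ext_apply e hxS).symm⟩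

theorem push_le (e : S ≃* T) (P : Subgroup Ω) : push e P ≤ T := by
  intro y hy
  obtain ⟨x, -, -, rfl⟩ := (mem_push e P y).1 hy
  exact ext_mem e x

theorem ext_mem_push (e : S ≃* T) {P : Subgroup Ω} {x : Ω} (hx : x ∈ P) (hxS : x ∈ S) :
    ext e x ∈ push e P :=
  (mem_push e P _).2 ⟨x, hx, hxS, rfl⟩

theorem ext_symm_mem (e : S ≃* T) {P : Subgroup Ω} {y : Ω'} (hy : y ∈ push e P) :
    ext e.symm y ∈ P := by
  obtain ⟨x, hx, hxS, rfl⟩ := (mem_push e P y).1 hy
  rwa [ext_symm_ext e hxS]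

theorem push_symm_push (e : S ≃* T) {P : Subgroup Ω} (hP : P ≤ S) : push e.symm (push e P) = P := by
  ext x
  rw [mem_push]
  constructor
  · rintro ⟨y, hy, -, rfl⟩
    exact ext_symm_mem e hy
  · intro hx
    exact ⟨ext e x, ext_mem_push e hx (hP hx), ext_mem e x, ext_symm_ext e (hP hx)⟩

theorem push_push_symm (e : S ≃* T) {P' : Subgroup Ω'} (hP' : P' ≤ T) :
    push e (push e.symm P') = P' := by
  have := push_symm_push e.symm hP'
  rwa [MulEquiv.symm_symm] at this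

theorem push_mono (e : S ≃* T) {P Q : Subgroup Ω} (h : P ≤ Q) : push e P ≤ push e Q := by
  intro y hy
  obtain ⟨x, hx, hxS, rfl⟩ := (mem_push e P y).1 hy
  exact ext_mem_push e (h hx) hxS

theorem le_of_push_le (e : S ≃* T) {P Q : Subgroup Ω} (hP : P ≤ S) (hQ : Q ≤ S)
    (h : push e P ≤ push e Q) : P ≤ Q := by
  rw [← push_symm_push e hP, ← push_symm_push e hQ]
  exact push_mono e.symm h

theorem push_self (e : S ≃* T) : push e S = T := by
  apply le_antisymm (push_le e S)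
  intro y hy
  exact (mem_push e S y).2 ⟨ext e.symm y, ext_mem e.symm y, ext_mem e.symm y, ext_ext_symm e hy⟩

theorem card_push (e : S ≃* T) {P : Subgroup Ω} (hP : P ≤ S) : Nat.card (push e P) = Nat.card P := by
  have hinj : Function.Injective (T.subtype.comp e.toMonoidHom) :=
    T.subtype_injective.comp e.injective
  unfold push
  rw [Subgroup.card_map_of_injective hinj]
  exact Nat.card_congr (Subgroup.subgroupOfEquivOfLe hP).toEquiv

theorem push_sup (e : S ≃* T) {P Q : Subgroup Ω} (hP : P ≤ S) (hQ : Q ≤ S) :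
    push e (P ⊔ Q) = push e P ⊔ push e Q := by
  unfold push
  rw [Subgroup.subgroupOf_sup hP hQ, Subgroup.map_sup]

theorem ext_mem_normalizerIn (e : S ≃* T) {P : Subgroup Ω} {g : Ω} (hg : g ∈ normalizerIn S P) :
    ext e g ∈ normalizerIn T (push e P) := by
  have key : ∀ g ∈ normalizerIn S P, ∀ y ∈ push e P, ext e g * y * (ext e g)⁻¹ ∈ push e P := by
    intro g hg y hy
    obtain ⟨x, hx, hxS, rfl⟩ := (mem_push e P y).1 hy
    rw [← ext_conj e hg.1 hxS]
    exact ext_mem_push e (Helper87_Alperin.conj_mem_of_mem_normalizerIn hg hx)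
      (S.mul_mem (S.mul_mem hg.1 hxS) (S.inv_mem hg.1))
  have hN : ext e g ∈ Subgroup.normalizer ((push e P : Subgroup Ω') : Set Ω') := by
    rw [Subgroup.mem_normalizer_iff]
    intro y
    refine ⟨key g hg y, fun hy => ?_⟩
    have hg' : g⁻¹ ∈ normalizerIn S P := Subgroup.inv_mem _ hg
    have := key g⁻¹ hg' _ hy
    rw [ext_inv e hg.1] at this
    have h2 : (ext e g)⁻¹ * (ext e g * y * (ext e g)⁻¹) * (ext e g)⁻¹⁻¹ = y := by group
    rwa [h2] at this
  exact ⟨ext_mem e g, hN⟩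

theorem push_normalizerIn (e : S ≃* T) {P : Subgroup Ω} (hP : P ≤ S) :
    push e (normalizerIn S P) = normalizerIn T (push e P) := by
  apply le_antisymm
  · intro y hy
    obtain ⟨g, hg, -, rfl⟩ := (mem_push e _ y).1 hy
    exact ext_mem_normalizerIn e hg
  · intro y hy
    have h1 := ext_mem_normalizerIn e.symm hy
    rw [push_symm_push e hP] at h1
    have h2 := ext_mem_push e h1 h1.1
    rwa [ext_ext_symm e hy.1] at h2

theorem ext_mem_centralizerIn (e : S ≃* T) {P : Subgroup Ω} {g : Ω} (hg : g ∈ centralizerIn S P) :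
    ext e g ∈ centralizerIn T (push e P) := by
  have hC : ext e g ∈ Subgroup.centralizer ((push e P : Subgroup Ω') : Set Ω') := by
    rw [Subgroup.mem_centralizer_iff]
    intro y hy
    obtain ⟨x, hx, hxS, rfl⟩ := (mem_push e P y).1 hy
    rw [← ext_mul e hxS hg.1, ← ext_mul e hg.1 hxS, (Subgroup.mem_centralizer_iff.1 hg.2) x hx]
  exact ⟨ext_mem e g, hC⟩

theorem push_centralizerIn (e : S ≃* T) {P : Subgroup Ω} (hP : P ≤ S) :
    push e (centralizerIn S P) = centralizerIn T (push e P) := by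
  apply le_antisymm
  · intro y hy
    obtain ⟨g, hg, -, rfl⟩ := (mem_push e _ y).1 hy
    exact ext_mem_centralizerIn e hg
  · intro y hy
    have h1 := ext_mem_centralizerIn e.symm hy
    rw [push_symm_push e hP] at h1
    have h2 := ext_mem_push e h1 h1.1
    rwa [ext_ext_symm e hy.1] at h2

/-! ### Corresponding fusion systems -/

/-- The fusion systems `F` over `S` and `F'` over `T` correspond under `e : S ≃* T`. -/
structure Corr (e : S ≃* T) (F : FusionSystem S) (F' : FusionSystem T) : Prop where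
  fwd : ∀ (P : Subgroup Ω) (f : Ω → Ω), IsMapOn F P f →
    IsMapOn F' (push e P) (ext e ∘ f ∘ ext e.symm)
  bwd : ∀ (P' : Subgroup Ω') (f' : Ω' → Ω'), IsMapOn F' P' f' →
    IsMapOn F (push e.symm P') (ext e.symm ∘ f' ∘ ext e)

variable {e : S ≃* T} {F : FusionSystem S} {F' : FusionSystem T}

theorem Corr.symm (h : Corr e F F') : Corr e.symm F' F :=
  ⟨h.bwd, fun P f hf => by simpa only [MulEquiv.symm_symm] using h.fwd P f hf⟩

/-- Function-level description of conjugacy. -/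
theorem isConj_iff_isMapOn {Ω : Type*} [Group Ω] {S : Subgroup Ω} (F : FusionSystem S)
    (P Q : Subgroup Ω) :
    F.IsConj P Q ↔ ∃ f : Ω → Ω, IsMapOn F P f ∧ ∀ y, y ∈ Q ↔ ∃ x ∈ P, f x = y := by
  constructor
  · rintro ⟨φ, hφ, rfl⟩
    refine ⟨extHom φ, Helper87_Alperin.isMapOn_extHom F hφ, fun y => ?_⟩
    constructor
    · rintro ⟨x, rfl⟩
      exact ⟨x, x.2, Helper87_Alperin.extHom_coe φ x⟩
    · rintro ⟨x, hx, rfl⟩
      exact ⟨⟨x, hx⟩, (Helper87_Alperin.extHom_apply φ hx).symm⟩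
  · rintro ⟨f, ⟨φ, hφ, hφf⟩, hQ⟩
    refine ⟨φ, hφ, ?_⟩
    ext y
    rw [hQ]
    constructor
    · rintro ⟨x, rfl⟩
      exact ⟨x, x.2, (hφf x).symm⟩
    · rintro ⟨x, hx, rfl⟩
      exact ⟨⟨x, hx⟩, hφf _⟩

theorem Corr.isConj (h : Corr e F F') {P Q : Subgroup Ω} (hc : F.IsConj P Q) :
    F'.IsConj (push e P) (push e Q) := by
  obtain ⟨f, hf, hQ⟩ := (isConj_iff_isMapOn F P Q).1 hc
  have hPS : P ≤ S := hf.le
  rw [isConj_iff_isMapOn]
  refine ⟨_, h.fwd P f hf, fun y => ?_⟩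
  rw [mem_push]
  constructor
  · rintro ⟨z, hz, hzS, rfl⟩
    obtain ⟨x, hx, rfl⟩ := (hQ z).1 hz
    refine ⟨ext e x, ext_mem_push e hx (hPS hx), ?_⟩
    simp only [Function.comp_apply]
    rw [ext_symm_ext e (hPS hx)]
  · rintro ⟨y', hy', rfl⟩
    obtain ⟨x, hx, hxS, rfl⟩ := (mem_push e P y').1 hy'
    refine ⟨f x, (hQ _).2 ⟨x, hx, rfl⟩, hf.mem hx, ?_⟩
    simp only [Function.comp_apply]
    rw [ext_symm_ext e hxS]

theorem Corr.isConj_iff (h : Corr e F F') {P Q : Subgroup Ω} (hP : P ≤ S) (hQ : Q ≤ S) :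
    F'.IsConj (push e P) (push e Q) ↔ F.IsConj P Q := by
  refine ⟨fun hc => ?_, h.isConj⟩
  have := h.symm.isConj hc
  rwa [push_symm_push e hP, push_symm_push e hQ] at this


/-! ### Automorphism groups -/

/-- The restriction of `e` to an isomorphism `P ≃* push e P`. -/
noncomputable def restrictEquiv (e : S ≃* T) {P : Subgroup Ω} (hP : P ≤ S) : P ≃* push e P where
  toFun x := ⟨ext e x, ext_mem_push e x.2 (hP x.2)⟩
  invFun y := ⟨ext e.symm y, ext_symm_mem e y.2⟩
  left_inv x := Subtype.ext (ext_symm_ext e (hP x.2))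
  right_inv y := Subtype.ext (ext_ext_symm e (push_le e P y.2))
  map_mul' x y := Subtype.ext (ext_mul e (hP x.2) (hP y.2))

theorem coe_restrictEquiv (e : S ≃* T) {P : Subgroup Ω} (hP : P ≤ S) (x : P) :
    ((restrictEquiv e hP x : push e P) : Ω') = ext e (x : Ω) := rfl

theorem coe_restrictEquiv_symm (e : S ≃* T) {P : Subgroup Ω} (hP : P ≤ S) (y : push e P) :
    (((restrictEquiv e hP).symm y : P) : Ω) = ext e.symm (y : Ω') := rfl

theorem coe_congr_apply (e : S ≃* T) {P : Subgroup Ω} (hP : P ≤ S) (α : MulAut P) (y : push e P) :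
    ((MulAut.congr (restrictEquiv e hP) α y : push e P) : Ω') =
      ext e ((α ⟨ext e.symm (y : Ω'), ext_symm_mem e y.2⟩ : P) : Ω) := rfl

theorem coe_congr_symm_apply (e : S ≃* T) {P : Subgroup Ω} (hP : P ≤ S) (α' : MulAut (push e P))
    (x : P) :
    (((MulAut.congr (restrictEquiv e hP)).symm α' x : P) : Ω) =
      ext e.symm ((α' ⟨ext e (x : Ω), ext_mem_push e x.2 (hP x.2)⟩ : push e P) : Ω') := rfl

theorem Corr.congr_mem_autGroup (h : Corr e F F') {P : Subgroup Ω} (hP : P ≤ S) {α : MulAut P}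
    (hα : α ∈ F.autGroup P) : MulAut.congr (restrictEquiv e hP) α ∈ F'.autGroup (push e P) := by
  rw [Helper87_Alperin.mem_autGroup_iff F' (push_le e P)]
  have := h.fwd P (extFun α) ((Helper87_Alperin.mem_autGroup_iff F hP α).1 hα)
  refine this.congr fun y hy => ?_
  rw [Helper87_Alperin.extFun_apply _ hy, coe_congr_apply]
  simp only [Function.comp_apply]
  rw [Helper87_Alperin.extFun_apply α (ext_symm_mem e hy)]

theorem Corr.congr_symm_mem_autGroup (h : Corr e F F') {P : Subgroup Ω} (hP : P ≤ S)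
    {α' : MulAut (push e P)} (hα' : α' ∈ F'.autGroup (push e P)) :
    (MulAut.congr (restrictEquiv e hP)).symm α' ∈ F.autGroup P := by
  rw [Helper87_Alperin.mem_autGroup_iff F hP]
  have := h.bwd (push e P) (extFun α')
    ((Helper87_Alperin.mem_autGroup_iff F' (push_le e P) α').1 hα')
  rw [push_symm_push e hP] at this
  refine this.congr fun x hx => ?_
  rw [Helper87_Alperin.extFun_apply _ hx, coe_congr_symm_apply]
  simp only [Function.comp_apply]
  rw [Helper87_Alperin.extFun_apply α' (ext_mem_push e hx (hP hx))]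

theorem congr_mem_autInducedBy (e : S ≃* T) {P : Subgroup Ω} (hP : P ≤ S) {α : MulAut P}
    (hα : α ∈ autInducedBy S P) :
    MulAut.congr (restrictEquiv e hP) α ∈ autInducedBy T (push e P) := by
  obtain ⟨g, hg, hgα⟩ := (Helper85_Fusion.mem_autInducedBy_iff S P α).1 hα
  refine (Helper85_Fusion.mem_autInducedBy_iff T _ _).2 ⟨ext e g, ext_mem e g, fun y => ?_⟩
  rw [coe_congr_apply, hgα]
  have hyS : ext e.symm (y : Ω') ∈ S := ext_mem e.symm _
  show ext e (g * ext e.symm (y : Ω') * g⁻¹) = _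
  rw [ext_conj e hg hyS, ext_ext_symm e (push_le e P y.2)]

theorem congr_symm_mem_autInducedBy (e : S ≃* T) {P : Subgroup Ω} (hP : P ≤ S)
    {α' : MulAut (push e P)} (hα' : α' ∈ autInducedBy T (push e P)) :
    (MulAut.congr (restrictEquiv e hP)).symm α' ∈ autInducedBy S P := by
  obtain ⟨g, hg, hgα⟩ := (Helper85_Fusion.mem_autInducedBy_iff T _ α').1 hα'
  refine (Helper85_Fusion.mem_autInducedBy_iff S _ _).2 ⟨ext e.symm g, ext_mem e.symm g, fun x => ?_⟩
  rw [coe_congr_symm_apply, hgα]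
  have hxT : ext e (x : Ω) ∈ T := ext_mem e _
  show ext e.symm (g * ext e (x : Ω) * g⁻¹) = _
  rw [ext_conj e.symm hg hxT, ext_symm_ext e (hP x.2)]

theorem Corr.isFullyAutomized (h : Corr e F F') [Finite S] {p : ℕ} [Fact p.Prime] {P : Subgroup Ω}
    (hfa : F.IsFullyAutomized p P) : F'.IsFullyAutomized p (push e P) := by
  have hP : P ≤ S := hfa.1
  haveI : Finite P := Helper84_FusionRS.finite_of_le_S hP
  have h1 := Helper84_FusionSat.isSylowIn_of_isFullyAutomized F hfa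
  have h2 := h1.map_of_injective (MulAut.congr (restrictEquiv e hP)).toMonoidHom
    (MulAut.congr (restrictEquiv e hP)).injective
  have h3 : (F.autGroup P).map (MulAut.congr (restrictEquiv e hP)).toMonoidHom =
      F'.autGroup (push e P) := by
    apply le_antisymm
    · rintro _ ⟨α, hα, rfl⟩
      exact h.congr_mem_autGroup hP hα
    · intro α' hα'
      exact ⟨_, h.congr_symm_mem_autGroup hP hα', MulEquiv.apply_symm_apply _ α'⟩
  have h4 : (autInducedBy S P).map (MulAut.congr (restrictEquiv e hP)).toMonoidHom =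
      autInducedBy T (push e P) := by
    apply le_antisymm
    · rintro _ ⟨α, hα, rfl⟩
      exact congr_mem_autInducedBy e hP hα
    · intro α' hα'
      exact ⟨_, congr_symm_mem_autInducedBy e hP hα', MulEquiv.apply_symm_apply _ α'⟩
  rw [h3, h4] at h2
  exact Helper84_FusionRS.isFullyAutomized_of_isSylowIn F' (push_le e P) h2


/-! ### Receptive subgroups -/

theorem Corr.isReceptive (h : Corr e F F') {Q : Subgroup Ω} (hQ : Q ≤ S)
    (hr : F'.IsReceptive (push e Q)) : F.IsReceptive Q := by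
  refine ⟨hQ, fun P φ hφ hrange => ?_⟩
  have hPS : P ≤ S := Helper85_Fusion.source_le F hφ
  have hf : IsMapOn F P (extHom φ) := Helper87_Alperin.isMapOn_extHom F hφ
  obtain ⟨φ', hφ', hφ'f⟩ := h.fwd P _ hf
  -- the value of `φ'` at `ext e x`
  have hφ'x : ∀ (x : Ω) (hx : x ∈ P) (hy : ext e x ∈ push e P),
      φ' ⟨ext e x, hy⟩ = ext e (φ ⟨x, hx⟩) := by
    intro x hx hy
    rw [hφ'f]
    simp only [Function.comp_apply]
    rw [ext_symm_ext e (hPS hx), Helper87_Alperin.extHom_apply φ hx]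
  have hrange' : φ'.range = push e Q := by
    ext y
    constructor
    · rintro ⟨⟨y0, hy0⟩, rfl⟩
      obtain ⟨x, hx, hxS, rfl⟩ := (mem_push e P y0).1 hy0
      rw [hφ'x x hx]
      exact ext_mem_push e (hrange ▸ ⟨⟨x, hx⟩, rfl⟩) (Helper85_Fusion.apply_mem F hφ _)
    · intro hy
      obtain ⟨z, hz, hzS, rfl⟩ := (mem_push e Q y).1 hy
      rw [← hrange] at hz
      obtain ⟨x, rfl⟩ := hz
      exact ⟨⟨ext e (x : Ω), ext_mem_push e x.2 (hPS x.2)⟩, hφ'x x x.2 _⟩
  obtain ⟨ψ', hψ', hψ'φ'⟩ := hr.2 (push e P) φ' hφ' hrange'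
  have hb := h.bwd _ _ (Helper87_Alperin.isMapOn_extHom F' hψ')
  have hmem : ∀ g ∈ extender S P φ, ext e g ∈ extender T (push e P) φ' := by
    intro g hg
    obtain ⟨hgS, hgN, k, hkS, hk⟩ := (Helper84_FusionRS.mem_extender_iff φ g).1 hg
    rw [Helper84_FusionRS.mem_extender_iff]
    refine ⟨ext_mem e g, (ext_mem_normalizerIn e ⟨hgS, hgN⟩).2, ext e k, ext_mem e k, ?_⟩
    rintro ⟨y, hy⟩ hy2
    obtain ⟨x, hx, hxS, rfl⟩ := (mem_push e P y).1 hy
    have hgx : g * x * g⁻¹ ∈ P := ((Subgroup.mem_normalizer_iff.1 hgN) x).1 hx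
    have h1 : ext e g * ext e x * (ext e g)⁻¹ = ext e (g * x * g⁻¹) := (ext_conj e hgS hxS).symm
    have h2 : (⟨ext e g * ext e x * (ext e g)⁻¹, hy2⟩ : push e P) =
        ⟨ext e (g * x * g⁻¹), h1 ▸ hy2⟩ := Subtype.ext h1
    rw [h2, hφ'x _ hgx, hφ'x x hx, hk ⟨x, hx⟩ hgx,
      ext_conj e hkS (Helper85_Fusion.apply_mem F hφ _)]
  have hle : extender S P φ ≤ push e.symm (extender T (push e P) φ') := by
    intro g hg
    have hgS : g ∈ S := Helper84_FusionRS.extender_le' φ hg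
    exact (mem_push e.symm _ g).2 ⟨ext e g, hmem g hg, ext_mem e g, ext_symm_ext e hgS⟩
  obtain ⟨ψ, hψ, hψf⟩ := hb.mono hle
  refine ⟨ψ, hψ, fun x hxP hxN => ?_⟩
  rw [hψf]
  simp only [Function.comp_apply]
  have hy : ext e x ∈ push e P := ext_mem_push e hxP (hPS hxP)
  rw [Helper87_Alperin.extHom_apply ψ' (hmem x hxN), hψ'φ' (ext e x) hy, hφ'x x hxP,
    ext_symm_ext e (Helper85_Fusion.apply_mem F hφ _)]

/-! ### Saturation -/

theorem Corr.isSaturated (h : Corr e F F') [Finite S] {p : ℕ} [Fact p.Prime]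
    (hF' : F'.IsSaturated p) : F.IsSaturated p := by
  intro P hP
  obtain ⟨Q', hc, hfa, hr⟩ := hF' (push e P) (push_le e P)
  have hQ'T : Q' ≤ T := hfa.1
  haveI : Finite T := Finite.of_equiv S e.toEquiv
  refine ⟨push e.symm Q', ?_, h.symm.isFullyAutomized hfa, ?_⟩
  · have := h.symm.isConj hc
    rwa [push_symm_push e hP] at this
  · apply h.isReceptive (push_le e.symm Q')
    rwa [push_push_symm e hQ'T]


/-! ### Normal and centric subgroups -/

theorem Corr.exists_push_hom (h : Corr e F F') {P : Subgroup Ω} {φ : P →* Ω} (hφ : φ ∈ F.Hom P) :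
    ∃ φ' ∈ F'.Hom (push e P), ∀ (x : Ω) (hx : x ∈ P) (hy : ext e x ∈ push e P),
      φ' ⟨ext e x, hy⟩ = ext e (φ ⟨x, hx⟩) := by
  have hPS : P ≤ S := Helper85_Fusion.source_le F hφ
  obtain ⟨φ', hφ', hφ'f⟩ := h.fwd P _ (Helper87_Alperin.isMapOn_extHom F hφ)
  refine ⟨φ', hφ', fun x hx hy => ?_⟩
  rw [hφ'f]
  simp only [Function.comp_apply]
  rw [ext_symm_ext e (hPS hx), Helper87_Alperin.extHom_apply φ hx]

theorem Corr.isNormal (h : Corr e F F') {Q : Subgroup Ω} (hQ : Q ≤ S)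
    (hn : F'.IsNormal (push e Q)) : F.IsNormal Q := by
  refine ⟨hQ, fun P φ hφ => ?_⟩
  have hPS : P ≤ S := Helper85_Fusion.source_le F hφ
  obtain ⟨φ', hφ', hφ'x⟩ := h.exists_push_hom hφ
  obtain ⟨ψ', hψ', hext', himg'⟩ := hn.2 (push e P) φ' hφ'
  have hb := h.bwd _ _ (Helper87_Alperin.isMapOn_extHom F' hψ')
  have hD : push e.symm (push e P ⊔ push e Q) = P ⊔ Q := by
    rw [← push_sup e hPS hQ, push_symm_push e (sup_le hPS hQ)]
  obtain ⟨ψ, hψ, hψf⟩ := hb.mono (le_of_eq hD.symm)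
  have hDS : P ⊔ Q ≤ S := sup_le hPS hQ
  have hmemD : ∀ x ∈ P ⊔ Q, ext e x ∈ push e P ⊔ push e Q := by
    intro x hx
    rw [← push_sup e hPS hQ]
    exact ext_mem_push e hx (hDS hx)
  have hψx : ∀ (x : Ω) (hx : x ∈ P ⊔ Q), ψ ⟨x, hx⟩ = ext e.symm (ψ' ⟨ext e x, hmemD x hx⟩) := by
    intro x hx
    rw [hψf]
    simp only [Function.comp_apply]
    rw [Helper87_Alperin.extHom_apply ψ' (hmemD x hx)]
  refine ⟨ψ, hψ, fun x => ?_, ?_⟩
  · have hy : ext e (x : Ω) ∈ push e P := ext_mem_push e x.2 (hPS x.2)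
    have h1 := hext' ⟨ext e (x : Ω), hy⟩
    rw [hφ'x x x.2 hy] at h1
    have h2 := hψx x (Subgroup.mem_sup_left x.2)
    have h3 : (Subgroup.inclusion le_sup_left x : ↥(P ⊔ Q)) = ⟨(x : Ω), Subgroup.mem_sup_left x.2⟩ :=
      rfl
    rw [h3, h2]
    have h4 : (⟨ext e (x : Ω), hmemD x (Subgroup.mem_sup_left x.2)⟩ : ↥(push e P ⊔ push e Q)) =
        Subgroup.inclusion le_sup_left ⟨ext e (x : Ω), hy⟩ := rfl
    rw [h4, h1, ext_symm_ext e (Helper85_Fusion.apply_mem F hφ _)]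
  · ext z
    rw [Helper85_Fusion.mem_map_subgroupOf]
    constructor
    · rintro ⟨x, hxQ, hxD, rfl⟩
      rw [hψx x hxD]
      apply ext_symm_mem e
      exact Helper85_Fusion.apply_mem_of_map_eq ψ' himg' _ (ext_mem_push e hxQ (hQ hxQ)) _
    · intro hz
      obtain ⟨y, hy, hyD, hyz⟩ := Helper85_Fusion.exists_of_map_eq ψ' himg' _
        (ext_mem_push e hz (hQ hz))
      have hx : ext e.symm y ∈ Q := ext_symm_mem e hy
      refine ⟨ext e.symm y, hx, Subgroup.mem_sup_right hx, ?_⟩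
      rw [hψx _ (Subgroup.mem_sup_right hx)]
      have h5 : (⟨ext e (ext e.symm y), hmemD _ (Subgroup.mem_sup_right hx)⟩ :
          ↥(push e P ⊔ push e Q)) = ⟨y, hyD⟩ := Subtype.ext (ext_ext_symm e (push_le e Q hy))
      rw [h5, hyz, ext_symm_ext e (hQ hz)]

theorem Corr.isCentric (h : Corr e F F') {P : Subgroup Ω} (hP : P ≤ S)
    (hc : F'.IsCentric (push e P)) : F.IsCentric P := by
  refine ⟨hP, fun Q hPQ => ?_⟩
  have hQS : Q ≤ S := Helper85_Fusion.isConj_le_right F hPQ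
  have h1 := hc.2 _ (h.isConj hPQ)
  rw [← push_centralizerIn e hQS] at h1
  exact le_of_push_le e inf_le_left hQS h1

theorem Corr.isConstrained (h : Corr e F F') [Finite S] {p : ℕ} [Fact p.Prime]
    (hF' : F'.IsConstrained p) : F.IsConstrained p := by
  obtain ⟨hsat, Q', hn, hc⟩ := hF'
  have hQ'T : Q' ≤ T := hn.1
  refine ⟨h.isSaturated hsat, push e.symm Q', ?_, ?_⟩
  · apply h.isNormal (push_le e.symm Q')
    rwa [push_push_symm e hQ'T]
  · apply h.isCentric (push_le e.symm Q')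
    rwa [push_push_symm e hQ'T]


/-! ### Instances of the correspondence -/

theorem ext_mem_of_mem_push_symm (e : S ≃* T) {P' : Subgroup Ω'} {x : Ω}
    (hx : x ∈ push e.symm P') : ext e x ∈ P' := by
  obtain ⟨y, hy, hyT, rfl⟩ := (mem_push e.symm P' x).1 hx
  rwa [ext_ext_symm e hyT]

theorem pull_mul (e : S ≃* T) {F' : FusionSystem T} {P' : Subgroup Ω'} {f' : Ω' → Ω'}
    (hf' : IsMapOn F' P' f') (x : Ω) (hx : x ∈ push e.symm P') (y : Ω) (hy : y ∈ push e.symm P') :
    (ext e.symm ∘ f' ∘ ext e) (x * y) =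
      (ext e.symm ∘ f' ∘ ext e) x * (ext e.symm ∘ f' ∘ ext e) y := by
  simp only [Function.comp_apply]
  have hxS : x ∈ S := push_le e.symm P' hx
  have hyS : y ∈ S := push_le e.symm P' hy
  rw [ext_mul e hxS hyS, hf'.map_mul (ext_mem_of_mem_push_symm e hx) (ext_mem_of_mem_push_symm e hy),
    ext_mul e.symm (hf'.mem (ext_mem_of_mem_push_symm e hx)) (hf'.mem (ext_mem_of_mem_push_symm e hy))]

/-- A function multiplicative on `P`, as a homomorphism with source `P`. -/
def homOfMulOn {Ω : Type*} [Group Ω] (P : Subgroup Ω) (f : Ω → Ω)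
    (hmul : ∀ x ∈ P, ∀ y ∈ P, f (x * y) = f x * f y) : P →* Ω :=
  MonoidHom.mk' (fun x => f x) (fun a b => hmul a a.2 b b.2)

theorem homOfMulOn_apply {Ω : Type*} [Group Ω] (P : Subgroup Ω) (f : Ω → Ω)
    (hmul : ∀ x ∈ P, ∀ y ∈ P, f (x * y) = f x * f y) (x : P) : homOfMulOn P f hmul x = f x := rfl

/-- A system realized by `ι : S →* G` corresponds to the fusion system of `G` on `ι(S)`. -/
theorem corr_of_isRealizedBy {G : Type*} [Group G] {F : FusionSystem S} {ι : S →* G}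
    (h : F.IsRealizedBy ι) :
    Corr (MonoidHom.ofInjective h.1) F (groupFusionSystem ι.range) := by
  have hext : ∀ (x : Ω) (hx : x ∈ S), ext (MonoidHom.ofInjective h.1) x = ι ⟨x, hx⟩ := by
    intro x hx
    rw [ext_apply _ hx]
    rfl
  constructor
  · rintro P f ⟨φ, hφ, hφf⟩
    have hP : P ≤ S := Helper85_Fusion.source_le F hφ
    have hφS : ∀ x : P, φ x ∈ S := Helper85_Fusion.apply_mem F hφ
    obtain ⟨g, hg⟩ := (h.2 P hP φ hφS).1 hφ
    have key : ∀ y : push (MonoidHom.ofInjective h.1) P,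
        conjHom (push (MonoidHom.ofInjective h.1) P) g y =
          (ext (MonoidHom.ofInjective h.1) ∘ f ∘ ext (MonoidHom.ofInjective h.1).symm) y := by
      rintro ⟨y, hy⟩
      obtain ⟨x, hx, hxS, rfl⟩ := (mem_push _ P y).1 hy
      show g * ext (MonoidHom.ofInjective h.1) x * g⁻¹ = _
      simp only [Function.comp_apply]
      rw [ext_symm_ext _ hxS, ← hφf ⟨x, hx⟩, hext _ (hφS _), hg ⟨x, hx⟩, hext x hxS]
    refine ⟨conjHom _ g, ⟨push_le _ P, fun y => ?_, g, fun _ => rfl⟩, key⟩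
    rw [key]
    exact ext_mem _ _
  · rintro P' f' hf'
    obtain ⟨φ', ⟨hP'T, hφ'T, g, hg⟩, hφ'f⟩ := id hf'
    refine ⟨homOfMulOn _ _ (pull_mul _ hf'), ?_, fun x => rfl⟩
    have hP : push (MonoidHom.ofInjective h.1).symm P' ≤ S := push_le _ P'
    have hval : ∀ x : push (MonoidHom.ofInjective h.1).symm P',
        homOfMulOn _ _ (pull_mul (MonoidHom.ofInjective h.1) hf') x ∈ S := fun x => ext_mem _ _
    refine (h.2 _ hP _ hval).2 ⟨g, fun x => ?_⟩
    have hx' : ext (MonoidHom.ofInjective h.1) (x : Ω) ∈ P' := ext_mem_of_mem_push_symm _ x.2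
    rw [← hext _ (hval x), ← hext _ (hP x.2), homOfMulOn_apply]
    simp only [Function.comp_apply]
    rw [ext_ext_symm _ (hf'.mem hx'), ← hφ'f ⟨_, hx'⟩, hg]


/-- The fusion system of `H` on `T₀ ≤ H`, computed inside `H` and inside the ambient group. -/
theorem corr_subgroup {G : Type*} [Group G] (H T₀ : Subgroup G) (hTH : T₀ ≤ H) :
    Corr (Subgroup.subgroupOfEquivOfLe hTH) (groupFusionSystem (T₀.subgroupOf H))
      (fusionSystemOfSubgroup H T₀ hTH) := by
  have hext : ∀ (x : H) (hx : x ∈ T₀.subgroupOf H),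
      ext (Subgroup.subgroupOfEquivOfLe hTH) x = (x : G) := by
    intro x hx
    rw [ext_apply _ hx]
    rfl
  have hext' : ∀ (y : G) (hy : y ∈ T₀),
      ((ext (Subgroup.subgroupOfEquivOfLe hTH).symm y : H) : G) = y := by
    intro y hy
    rw [ext_apply _ hy]
    rfl
  constructor
  · rintro P f ⟨φ, ⟨hP, hφS, g, hg⟩, hφf⟩
    have key : ∀ y : push (Subgroup.subgroupOfEquivOfLe hTH) P,
        conjHom (push (Subgroup.subgroupOfEquivOfLe hTH) P) (g : G) y =
          (ext (Subgroup.subgroupOfEquivOfLe hTH) ∘ f ∘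
            ext (Subgroup.subgroupOfEquivOfLe hTH).symm) y := by
      rintro ⟨y, hy⟩
      obtain ⟨x, hx, hxS, rfl⟩ := (mem_push _ P y).1 hy
      show (g : G) * ext (Subgroup.subgroupOfEquivOfLe hTH) x * (g : G)⁻¹ = _
      simp only [Function.comp_apply]
      rw [ext_symm_ext _ hxS, ← hφf ⟨x, hx⟩, hext _ (hφS _), hg ⟨x, hx⟩, hext x hxS]
      rfl
    refine ⟨conjHom _ (g : G), ⟨push_le _ P, fun y => ?_, (g : G), g.2, fun _ => rfl⟩, key⟩
    rw [key]
    exact ext_mem _ _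
  · rintro P' f' hf'
    obtain ⟨φ', ⟨hP'T, hφ'T, g, hgH, hg⟩, hφ'f⟩ := id hf'
    refine ⟨homOfMulOn _ _ (pull_mul _ hf'), ⟨push_le _ P', fun x => ext_mem _ _, ⟨g, hgH⟩,
      fun x => ?_⟩, fun x => rfl⟩
    have hx' : ext (Subgroup.subgroupOfEquivOfLe hTH) (x : H) ∈ P' :=
      ext_mem_of_mem_push_symm _ x.2
    have hxS : (x : H) ∈ T₀.subgroupOf H := push_le _ P' x.2
    apply Subtype.ext
    rw [homOfMulOn_apply]
    simp only [Function.comp_apply]
    rw [hext' _ (hf'.mem hx'), ← hφ'f ⟨_, hx'⟩, hg]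
    show g * ext (Subgroup.subgroupOfEquivOfLe hTH) (x : H) * g⁻¹ = g * ((x : H) : G) * g⁻¹
    rw [hext _ hxS]

/-! ### Consequences -/

/-- A fusion system realized by a finite group on a Sylow subgroup is saturated. -/
theorem isSaturated_of_isRealizedBy [Finite S] {p : ℕ} [Fact p.Prime] {G : Type*} [Group G] [Finite G]
    {F : FusionSystem S} {ι : S →* G} (h : F.IsRealizedBy ι) (R : Sylow p G)
    (hR : (R : Subgroup G) = ι.range) : F.IsSaturated p := by
  apply (corr_of_isRealizedBy h).isSaturated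
  rw [← hR]
  exact Helper85_GroupFusion.group_isSaturated R

/-- The fusion system of `H ≤ G` on a Sylow subgroup `T₀` of `H` is saturated. -/
theorem subgroup_isSaturated {G : Type*} [Group G] [Finite G] {p : ℕ} [Fact p.Prime]
    (H T₀ : Subgroup G) (hTH : T₀ ≤ H) (R : Sylow p H) (hR : (R : Subgroup H) = T₀.subgroupOf H) :
    (fusionSystemOfSubgroup H T₀ hTH).IsSaturated p := by
  haveI : Finite (T₀.subgroupOf H) := inferInstance
  have h1 : (groupFusionSystem (T₀.subgroupOf H)).IsSaturated p := by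
    rw [← hR]
    exact Helper85_GroupFusion.group_isSaturated R
  haveI : Finite T₀ := inferInstance
  exact (corr_subgroup H T₀ hTH).symm.isSaturated h1


end Cfsg.Agent.Lib.Helper85_Transport
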