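import Cfsg.Agent.Lib.Helper87_Alperin

/-!
Saturated fusion systems (helper88): maps that agree on a centric subgroup differ by an inner automorphism
(`BLO2`, Proposition A.8), overgroups of centric subgroups are centric, and the key lemma for comparing
a saturated subsystem with the ambient system on centric subgroups.
Built on helper87's `IsMapOn` API.
-/

set_option autoImplicit false

namespace Cfsg.Agent.Lib.Helper88_Centric

open Cfsg Cfsg.FusionSystem Cfsg.Agent.Lib.Helper87_Alperin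

variable {Ω : Type*} [Group Ω] {S : Subgroup Ω}

/-! ### Images and conjugacy -/

/-- `P'` is the image of `P` under `f`. -/
def IsImage (P : Subgroup Ω) (f : Ω → Ω) (P' : Subgroup Ω) : Prop :=
  ∀ y, y ∈ P' ↔ ∃ x ∈ P, f x = y

theorem IsImage.mem {P P' : Subgroup Ω} {f : Ω → Ω} (h : IsImage P f P') {x : Ω} (hx : x ∈ P) :
    f x ∈ P' := (h _).2 ⟨x, hx, rfl⟩

theorem exists_isImage {F : FusionSystem S} {P : Subgroup Ω} {f : Ω → Ω} (hf : IsMapOn F P f) :
    ∃ P' : Subgroup Ω, IsImage P f P' ∧ F.IsConj P P' := by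
  obtain ⟨φ, hφ, hφf⟩ := hf
  refine ⟨φ.range, ?_, φ, hφ, rfl⟩
  intro y
  constructor
  · rintro ⟨x, rfl⟩
    exact ⟨x, x.2, (hφf x).symm⟩
  · rintro ⟨x, hx, rfl⟩
    exact ⟨⟨x, hx⟩, hφf _⟩

theorem isConj_of_isImage {F : FusionSystem S} {P P' : Subgroup Ω} {f : Ω → Ω} (hf : IsMapOn F P f)
    (h : IsImage P f P') : F.IsConj P P' := by
  obtain ⟨φ, hφ, hφf⟩ := hf
  refine ⟨φ, hφ, ?_⟩
  ext y
  rw [h y]
  constructor
  · rintro ⟨x, rfl⟩
    exact ⟨x, x.2, (hφf x).symm⟩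
  · rintro ⟨x, hx, rfl⟩
    exact ⟨⟨x, hx⟩, hφf _⟩

theorem exists_isMapOn_of_isConj {F : FusionSystem S} {P P' : Subgroup Ω} (h : F.IsConj P P') :
    ∃ f : Ω → Ω, IsMapOn F P f ∧ IsImage P f P' := by
  obtain ⟨φ, hφ, rfl⟩ := h
  refine ⟨extHom φ, isMapOn_extHom F hφ, ?_⟩
  intro y
  constructor
  · rintro ⟨x, rfl⟩
    exact ⟨x, x.2, extHom_coe φ x⟩
  · rintro ⟨x, hx, rfl⟩
    exact ⟨⟨x, hx⟩, (extHom_apply φ hx).symm⟩

theorem IsImage.le {F : FusionSystem S} {P P' : Subgroup Ω} {f : Ω → Ω} (hf : IsMapOn F P f)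
    (h : IsImage P f P') : P' ≤ S := by
  intro y hy
  obtain ⟨x, hx, rfl⟩ := (h y).1 hy
  exact hf.mem hx

/-- The image of a subgroup `R ≤ P` under a map defined on `P`. -/
theorem exists_isImage_of_le {F : FusionSystem S} {P R : Subgroup Ω} {f : Ω → Ω} (hf : IsMapOn F P f)
    (hRP : R ≤ P) : ∃ R' : Subgroup Ω, IsImage R f R' ∧ F.IsConj R R' :=
  exists_isImage (hf.mono hRP)

/-! ### Centric subgroups -/

theorem mem_centralizerIn_iff (S Q : Subgroup Ω) (s : Ω) :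
    s ∈ centralizerIn S Q ↔ s ∈ S ∧ ∀ y ∈ Q, y * s = s * y := by
  unfold centralizerIn
  rw [Subgroup.mem_inf, Subgroup.mem_centralizer_iff]
  rfl

theorem mem_of_centralizes {F : FusionSystem S} {Q Q' : Subgroup Ω} (hQ : F.IsCentric Q)
    (hc : F.IsConj Q Q') {s : Ω} (hs : s ∈ S) (h : ∀ y ∈ Q', s * y = y * s) : s ∈ Q' := by
  apply hQ.2 Q' hc
  rw [mem_centralizerIn_iff]
  exact ⟨hs, fun y hy => (h y hy).symm⟩

theorem isConj_refl (F : FusionSystem S) {P : Subgroup Ω} (hP : P ≤ S) : F.IsConj P P :=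
  ⟨P.subtype, subtype_mem F hP, P.range_subtype⟩

/-- A subgroup of `S` containing a centric subgroup is centric. -/
theorem isCentric_of_le {F : FusionSystem S} {R Q : Subgroup Ω} (hR : F.IsCentric R) (hRQ : R ≤ Q)
    (hQS : Q ≤ S) : F.IsCentric Q := by
  refine ⟨hQS, ?_⟩
  intro Q' hQQ'
  obtain ⟨f, hf, himg⟩ := exists_isMapOn_of_isConj hQQ'
  obtain ⟨R', hR', hRR'⟩ := exists_isImage_of_le hf hRQ
  have hR'Q' : R' ≤ Q' := by
    intro y hy
    obtain ⟨x, hx, rfl⟩ := (hR' y).1 hy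
    exact himg.mem (hRQ hx)
  intro s hs
  rw [mem_centralizerIn_iff] at hs
  apply hR'Q'
  exact mem_of_centralizes hR hRR' hs.1 (fun y hy => (hs.2 y (hR'Q' hy)).symm)

/-! ### Automorphisms from maps -/

/-- A map of the system carrying `P` into itself is an element of `Aut_F(P)`. -/
theorem exists_aut_of_isMapOn {F : FusionSystem S} [Finite S] {P : Subgroup Ω} {f : Ω → Ω}
    (hf : IsMapOn F P f) (hfP : ∀ x ∈ P, f x ∈ P) :
    ∃ β ∈ F.autGroup P, ∀ x : P, ((β x : P) : Ω) = f x := by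
  have hPS := hf.le
  have hfin : Finite P := Finite.of_injective (Subgroup.inclusion hPS) (Subgroup.inclusion_injective hPS)
  obtain ⟨φ, hφ, hφf⟩ := hf
  have hφP : ∀ x : P, φ x ∈ P := fun x => by rw [hφf]; exact hfP x x.2
  have hinj : Function.Injective (φ.codRestrict P hφP) := by
    intro a b hab
    apply F.injective_of_mem hφ
    exact congrArg Subtype.val hab
  have hbij : Function.Bijective (φ.codRestrict P hφP) :=
    ⟨hinj, Finite.injective_iff_surjective.1 hinj⟩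
  refine ⟨MulEquiv.ofBijective (φ.codRestrict P hφP) hbij, ?_, fun x => hφf x⟩
  rw [mem_autGroup_iff' F hPS]
  have : P.subtype.comp (MulEquiv.ofBijective (φ.codRestrict P hφP) hbij).toMonoidHom = φ := by
    ext x
    rfl
  rw [this]
  exact hφ

theorem pow_apply_eq_iterate {P : Subgroup Ω} (β : MulAut P) (f : Ω → Ω)
    (h : ∀ x : P, ((β x : P) : Ω) = f x) (k : ℕ) (x : P) : (((β ^ k) x : P) : Ω) = f^[k] x := by
  induction k with
  | zero => simp
  | succ k ih =>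
    rw [pow_succ', MulAut.mul_apply, h, ih, Function.iterate_succ_apply']


/-! ### Maps fixing a centric subgroup: the fully automized case -/

theorem inner_of_fixes_centric_of_fullyAutomized {F : FusionSystem S} [Finite S] {p : ℕ} [Fact p.Prime]
    {P Q : Subgroup Ω} (hfa : F.IsFullyAutomized p P) (hQP : Q ≤ P) (hQ : F.IsCentric Q)
    {f : Ω → Ω} (hf : IsMapOn F P f) (hfP : ∀ x ∈ P, f x ∈ P) (hfQ : ∀ x ∈ Q, f x = x)
    (hpow : ∃ a : ℕ, ∀ x ∈ P, f^[p ^ a] x = x) :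
    ∃ z ∈ Q, (∀ x ∈ Q, z * x = x * z) ∧ ∀ y ∈ P, f y = z * y * z⁻¹ := by
  obtain ⟨hPS, R, hR⟩ := hfa
  have hfinP : Finite P := Finite.of_injective (Subgroup.inclusion hPS) (Subgroup.inclusion_injective hPS)
  obtain ⟨β, hβ, hβf⟩ := exists_aut_of_isMapOn hf hfP
  obtain ⟨a, ha⟩ := hpow
  have hβpow : β ^ (p ^ a) = 1 := by
    ext x
    rw [pow_apply_eq_iterate β f hβf, ha x x.2]
    rfl
  have hβ'pow : (⟨β, hβ⟩ : F.autGroup P) ^ (p ^ a) = 1 := Subtype.ext hβpow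
  have hB : IsPGroup p (Subgroup.zpowers (⟨β, hβ⟩ : F.autGroup P)) := by
    obtain ⟨b, -, hb⟩ := (Nat.dvd_prime_pow Fact.out).1 (orderOf_dvd_of_pow_eq_one hβ'pow)
    exact IsPGroup.of_card (n := b) (by rw [Nat.card_zpowers, hb])
  obtain ⟨γ, hγ⟩ := sylow_conj_into R hB
  have h1 := hγ ⟨β, hβ⟩ (Subgroup.mem_zpowers _)
  rw [hR, Subgroup.mem_subgroupOf, mem_autInducedBy_iff] at h1
  obtain ⟨s, hs, hsx⟩ := h1
  have hsx' : ∀ x : P, (((γ : MulAut P) (β ((γ : MulAut P)⁻¹ x)) : P) : Ω) = s * (x : Ω) * s⁻¹ :=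
    fun x => hsx x
  have hγmap : IsMapOn F P (extFun (γ : MulAut P)) := (mem_autGroup_iff F hPS _).1 γ.2
  obtain ⟨Q2, hQ2, hQQ2⟩ := exists_isImage_of_le hγmap hQP
  have hβQ : ∀ x : P, (x : Ω) ∈ Q → β x = x := fun x hx => Subtype.ext ((hβf x).trans (hfQ x hx))
  have hsQ2 : ∀ y ∈ Q2, s * y = y * s := by
    intro y hy
    obtain ⟨x, hx, rfl⟩ := (hQ2 y).1 hy
    have h2 := hsx' ((γ : MulAut P) ⟨x, hQP hx⟩)
    rw [MulAut.inv_apply_self, hβQ ⟨x, hQP hx⟩ hx] at h2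
    rw [extFun_apply _ (hQP hx)]
    generalize (((γ : MulAut P) ⟨x, hQP hx⟩ : P) : Ω) = t at h2 ⊢
    have h3 : s * t * s⁻¹ * s = t * s := by rw [← h2]
    calc s * t = s * t * s⁻¹ * s := by group
      _ = t * s := h3
  have hsQ2mem : s ∈ Q2 := mem_of_centralizes hQ hQQ2 hs hsQ2
  obtain ⟨x₀, hx₀, hx₀s⟩ := (hQ2 s).1 hsQ2mem
  rw [extFun_apply _ (hQP hx₀)] at hx₀s
  have hmain : ∀ y ∈ P, f y = x₀ * y * x₀⁻¹ := by
    intro y hy
    have h2 := hsx' ((γ : MulAut P) ⟨y, hy⟩)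
    rw [MulAut.inv_apply_self, ← hx₀s] at h2
    have h3 : (γ : MulAut P) (β ⟨y, hy⟩) =
        (γ : MulAut P) (⟨x₀, hQP hx₀⟩ * ⟨y, hy⟩ * ⟨x₀, hQP hx₀⟩⁻¹) := by
      apply Subtype.ext
      rw [h2, map_mul, map_mul, map_inv]
      rfl
    have h4 := (γ : MulAut P).injective h3
    rw [← hβf ⟨y, hy⟩, h4]
    rfl
  refine ⟨x₀, hx₀, ?_, hmain⟩
  intro x hx
  have h5 := hmain x (hQP hx)
  rw [hfQ x hx] at h5
  calc x₀ * x = (x₀ * x * x₀⁻¹) * x₀ := by group
    _ = x * x₀ := by rw [← h5]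


/-! ### Conjugacy, continued -/

theorem isConj_trans {F : FusionSystem S} {P Q R : Subgroup Ω} (h₁ : F.IsConj P Q) (h₂ : F.IsConj Q R) :
    F.IsConj P R := by
  obtain ⟨f, hf, hfi⟩ := exists_isMapOn_of_isConj h₁
  obtain ⟨g, hg, hgi⟩ := exists_isMapOn_of_isConj h₂
  refine isConj_of_isImage (hf.comp hg fun x hx => hfi.mem hx) ?_
  intro y
  constructor
  · intro hy
    obtain ⟨x, hx, rfl⟩ := (hgi y).1 hy
    obtain ⟨w, hw, rfl⟩ := (hfi x).1 hx
    exact ⟨w, hw, rfl⟩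
  · rintro ⟨w, hw, rfl⟩
    exact hgi.mem (hfi.mem hw)

theorem isConj_le_right {F : FusionSystem S} {P Q : Subgroup Ω} (h : F.IsConj P Q) : Q ≤ S := by
  obtain ⟨f, hf, hfi⟩ := exists_isMapOn_of_isConj h
  exact hfi.le hf

theorem isCentric_of_isConj {F : FusionSystem S} {Q Q' : Subgroup Ω} (hQ : F.IsCentric Q)
    (h : F.IsConj Q Q') : F.IsCentric Q' :=
  ⟨isConj_le_right h, fun Q'' h' => hQ.2 Q'' (isConj_trans h h')⟩

/-! ### Maps fixing a normal centric subgroup -/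

theorem iterate_eq_mul_pow {f : Ω → Ω} {P Q : Subgroup Ω}
    (hmul : ∀ x ∈ P, ∀ y ∈ P, f (x * y) = f x * f y) (hQP : Q ≤ P) (hfQ : ∀ x ∈ Q, f x = x)
    {g : Ω} (hg : g ∈ P) (hw : g⁻¹ * f g ∈ Q) (k : ℕ) : f^[k] g = g * (g⁻¹ * f g) ^ k := by
  induction k with
  | zero => simp
  | succ k ih =>
    rw [Function.iterate_succ_apply', ih, hmul g hg _ (hQP (Q.pow_mem hw k)), hfQ _ (Q.pow_mem hw k),
      pow_succ', ← mul_assoc g, mul_inv_cancel_left]

theorem inner_of_fixes_centric_normal {F : FusionSystem S} [Finite S] {p : ℕ} [Fact p.Prime]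
    (hS : IsPGroup p S) (hF : F.IsSaturated p) {P Q : Subgroup Ω} (hQP : Q ≤ P)
    (hnorm : ∀ g ∈ P, ∀ x ∈ Q, g * x * g⁻¹ ∈ Q) (hQ : F.IsCentric Q)
    {f : Ω → Ω} (hf : IsMapOn F P f) (hfQ : ∀ x ∈ Q, f x = x) :
    ∃ z ∈ Q, (∀ x ∈ Q, z * x = x * z) ∧ ∀ y ∈ P, f y = z * y * z⁻¹ := by
  have hPS := hf.le
  have hQS : Q ≤ S := hQ.1
  -- (a) `g⁻¹ f(g) ∈ Z(Q)`
  have hw : ∀ g ∈ P, g⁻¹ * f g ∈ Q := by
    intro g hg
    have hwS : g⁻¹ * f g ∈ S := S.mul_mem (S.inv_mem (hPS hg)) (hf.mem hg)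
    refine mem_of_centralizes hQ (isConj_refl F hQS) hwS ?_
    intro x hx
    have h1 : f (g * x * g⁻¹) = g * x * g⁻¹ := hfQ _ (hnorm g hg x hx)
    rw [hf.map_mul (P.mul_mem hg (hQP hx)) (P.inv_mem hg), hf.map_mul hg (hQP hx), hf.map_inv hg,
      hfQ x hx] at h1
    calc g⁻¹ * f g * x = g⁻¹ * (f g * x * (f g)⁻¹) * f g := by group
      _ = g⁻¹ * (g * x * g⁻¹) * f g := by rw [h1]
      _ = x * (g⁻¹ * f g) := by group
  have hfP : ∀ g ∈ P, f g ∈ P := by
    intro g hg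
    have h1 : f g = g * (g⁻¹ * f g) := by group
    rw [h1]
    exact P.mul_mem hg (hQP (hw g hg))
  -- (b) `f` has `p`-power order on `P`
  have hQp : IsPGroup p Q := by
    intro x
    obtain ⟨k, hk⟩ := hS ⟨x, hQS x.2⟩
    exact ⟨k, Subtype.ext (by simpa using congrArg Subtype.val hk)⟩
  have hfinQ : Finite Q := Finite.of_injective (Subgroup.inclusion hQS) (Subgroup.inclusion_injective hQS)
  obtain ⟨a, ha⟩ := (IsPGroup.iff_card).1 hQp
  have hpow : ∀ g ∈ P, f^[p ^ a] g = g := by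
    intro g hg
    rw [iterate_eq_mul_pow (fun x hx y hy => hf.map_mul hx hy) hQP hfQ hg (hw g hg)]
    have h1 : (⟨g⁻¹ * f g, hw g hg⟩ : Q) ^ (p ^ a) = 1 := by
      rw [← ha]
      exact pow_card_eq_one'
    have h2 : (g⁻¹ * f g) ^ (p ^ a) = 1 := by
      have := congrArg Subtype.val h1
      simpa using this
    rw [h2, mul_one]
  -- (c) transport to a fully automized conjugate
  obtain ⟨P2, hconj, hfa, -⟩ := hF P hPS
  obtain ⟨c, hc, hcimg⟩ := exists_isMapOn_of_isConj hconj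
  obtain ⟨c', hc', hc'c, hc'P, hcc'⟩ := hc.inv hcimg
  have hf2 : IsMapOn F P2 (c ∘ (f ∘ c')) :=
    (hc'.comp hf hc'P).comp hc (fun x hx => hfP _ (hc'P x hx))
  obtain ⟨Q2, hQ2, hQQ2⟩ := exists_isImage_of_le hc hQP
  have hQ2P2 : Q2 ≤ P2 := by
    intro y hy
    obtain ⟨x, hx, rfl⟩ := (hQ2 y).1 hy
    exact hcimg.mem (hQP hx)
  have hit : ∀ k : ℕ, ∀ x ∈ P2, (c ∘ (f ∘ c'))^[k] x = c (f^[k] (c' x)) := by
    intro k
    induction k with
    | zero =>
      intro x hx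
      simp only [Function.iterate_zero, id_eq]
      exact (hcc' x hx).symm
    | succ k ih =>
      intro x hx
      have hkP : ∀ j : ℕ, f^[j] (c' x) ∈ P := by
        intro j
        induction j with
        | zero => exact hc'P x hx
        | succ j ihj =>
          rw [Function.iterate_succ_apply']
          exact hfP _ ihj
      rw [Function.iterate_succ_apply', ih x hx, Function.iterate_succ_apply']
      show c (f (c' (c (f^[k] (c' x))))) = _
      rw [hc'c _ (hkP k)]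
  obtain ⟨z2, hz2, -, hz2f⟩ := inner_of_fixes_centric_of_fullyAutomized hfa hQ2P2
    (isCentric_of_isConj hQ hQQ2) hf2
    (fun x hx => hcimg.mem (hfP _ (hc'P x hx)))
    (fun x hx => by
      obtain ⟨q, hq, rfl⟩ := (hQ2 x).1 hx
      show c (f (c' (c q))) = c q
      rw [hc'c q (hQP hq), hfQ q hq])
    ⟨a, fun x hx => by rw [hit _ x hx, hpow _ (hc'P x hx), hcc' x hx]⟩
  -- (d) pull back
  obtain ⟨q0, hq0, rfl⟩ := (hQ2 z2).1 hz2
  have hmain : ∀ y ∈ P, f y = q0 * y * q0⁻¹ := by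
    intro y hy
    have h1 := hz2f (c y) (hcimg.mem hy)
    have h2 : c (f (c' (c y))) = c q0 * c y * (c q0)⁻¹ := h1
    rw [hc'c y hy, ← hc.map_inv (hQP hq0), ← hc.map_mul (hQP hq0) hy,
      ← hc.map_mul (P.mul_mem (hQP hq0) hy) (P.inv_mem (hQP hq0))] at h2
    exact hc.injOn (hfP y hy) (P.mul_mem (P.mul_mem (hQP hq0) hy) (P.inv_mem (hQP hq0))) h2
  refine ⟨q0, hq0, ?_, hmain⟩
  intro x hx
  have h5 := hmain x (hQP hx)
  rw [hfQ x hx] at h5
  calc q0 * x = (q0 * x * q0⁻¹) * q0 := by group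
    _ = x * q0 := by rw [← h5]


/-! ### Two maps agreeing on a centric subgroup -/

/-- `BLO2` A.8, normal case: two maps on `P` agreeing on a centric subgroup `Q` normalized by `P` differ by
conjugation by an element of `Z(Q)`. -/
theorem eq_comp_conj_of_agree_normal {F : FusionSystem S} [Finite S] {p : ℕ} [Fact p.Prime]
    (hS : IsPGroup p S) (hF : F.IsSaturated p) {P Q : Subgroup Ω} (hQP : Q ≤ P)
    (hnorm : ∀ g ∈ P, ∀ x ∈ Q, g * x * g⁻¹ ∈ Q) (hQ : F.IsCentric Q)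
    {f f' : Ω → Ω} (hf : IsMapOn F P f) (hf' : IsMapOn F P f') (hagree : ∀ x ∈ Q, f x = f' x) :
    ∃ z ∈ Q, (∀ x ∈ Q, z * x = x * z) ∧ ∀ y ∈ P, f' y = f (z * y * z⁻¹) := by
  obtain ⟨P1, hP1, -⟩ := exists_isImage hf
  obtain ⟨g, hg, hgf, hgP, hfg⟩ := hf.inv hP1
  obtain ⟨Q1, hQ1, hQQ1⟩ := exists_isImage_of_le hf hQP
  have hQ1P1 : Q1 ≤ P1 := by
    intro y hy
    obtain ⟨x, hx, rfl⟩ := (hQ1 y).1 hy
    exact hP1.mem (hQP hx)
  have hh : IsMapOn F P1 (f' ∘ g) := hg.comp hf' hgP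
  have hnorm1 : ∀ u ∈ P1, ∀ x ∈ Q1, u * x * u⁻¹ ∈ Q1 := by
    intro u hu x hx
    obtain ⟨v, hv, rfl⟩ := (hP1 u).1 hu
    obtain ⟨q, hq, rfl⟩ := (hQ1 x).1 hx
    rw [← hf.map_inv hv, ← hf.map_mul hv (hQP hq), ← hf.map_mul (P.mul_mem hv (hQP hq)) (P.inv_mem hv)]
    exact hQ1.mem (hnorm v hv q hq)
  have hfix : ∀ x ∈ Q1, (f' ∘ g) x = x := by
    intro x hx
    obtain ⟨q, hq, rfl⟩ := (hQ1 x).1 hx
    show f' (g (f q)) = f q
    rw [hgf q (hQP hq), hagree q hq]
  obtain ⟨z1, hz1, hz1c, hz1f⟩ := inner_of_fixes_centric_normal hS hF hQ1P1 hnorm1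
    (isCentric_of_isConj hQ hQQ1) hh hfix
  obtain ⟨q0, hq0, rfl⟩ := (hQ1 z1).1 hz1
  refine ⟨q0, hq0, ?_, ?_⟩
  · intro x hx
    have h1 := hz1c (f x) (hQ1.mem hx)
    rw [← hf.map_mul (hQP hq0) (hQP hx), ← hf.map_mul (hQP hx) (hQP hq0)] at h1
    exact hf.injOn (P.mul_mem (hQP hq0) (hQP hx)) (P.mul_mem (hQP hx) (hQP hq0)) h1
  · intro y hy
    have h1 := hz1f (f y) (hP1.mem hy)
    have h2 : f' (g (f y)) = f q0 * f y * (f q0)⁻¹ := h1
    rw [hgf y hy, ← hf.map_inv (hQP hq0), ← hf.map_mul (hQP hq0) hy,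
      ← hf.map_mul (P.mul_mem (hQP hq0) hy) (P.inv_mem (hQP hq0))] at h2
    exact h2

/-- `BLO2` A.8: two maps on `P` agreeing on a centric subgroup `Q ≤ P` differ by conjugation by an element of
`Z(Q)`. -/
theorem eq_comp_conj_of_agree {F : FusionSystem S} [Finite S] {p : ℕ} [Fact p.Prime]
    (hS : IsPGroup p S) (hF : F.IsSaturated p) {P : Subgroup Ω} :
    ∀ (n : ℕ) {Q : Subgroup Ω}, Nat.card P - Nat.card Q = n → Q ≤ P → F.IsCentric Q →
    ∀ {f f' : Ω → Ω}, IsMapOn F P f → IsMapOn F P f' → (∀ x ∈ Q, f x = f' x) →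
    ∃ z ∈ Q, (∀ x ∈ Q, z * x = x * z) ∧ ∀ y ∈ P, f' y = f (z * y * z⁻¹) := by
  intro n
  induction n using Nat.strong_induction_on with
  | _ n ih =>
    intro Q hn hQP hQ f f' hf hf' hagree
    have hPS := hf.le
    have hfinP : Finite P := Finite.of_injective (Subgroup.inclusion hPS) (Subgroup.inclusion_injective hPS)
    by_cases hQeq : Q = P
    · refine ⟨1, Q.one_mem, fun x _ => by simp, fun y hy => ?_⟩
      rw [one_mul, inv_one, mul_one]
      exact (hagree y (hQeq ▸ hy)).symm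
    · -- `Q < N_P(Q)`
      have hPp : IsPGroup p P := by
        intro x
        obtain ⟨k, hk⟩ := hS ⟨x, hPS x.2⟩
        exact ⟨k, Subtype.ext (by simpa using congrArg Subtype.val hk)⟩
      set Q1 : Subgroup Ω := normalizerIn P Q with hQ1def
      have hQlt : Q < Q1 := lt_normalizerIn (S := P) hPp hQP hQeq
      have hQ1P : Q1 ≤ P := normalizerIn_le P Q
      have hnorm : ∀ g ∈ Q1, ∀ x ∈ Q, g * x * g⁻¹ ∈ Q := fun g hg x hx =>
        conj_mem_of_mem_normalizerIn hg hx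
      obtain ⟨z1, hz1, hz1c, hz1f⟩ := eq_comp_conj_of_agree_normal hS hF hQlt.le hnorm hQ
        (hf.mono hQ1P) (hf'.mono hQ1P) hagree
      -- the map `f₂ = f ∘ c_{z1}` on `P`
      have hz1P : z1 ∈ P := hQP hz1
      have hc : IsMapOn F P (fun y => z1 * y * z1⁻¹) := IsMapOn.conj F hPS (hPS hz1P)
      have hf2 : IsMapOn F P (f ∘ fun y => z1 * y * z1⁻¹) :=
        hc.comp hf (fun y hy => P.mul_mem (P.mul_mem hz1P hy) (P.inv_mem hz1P))
      have hQ1c : F.IsCentric Q1 := isCentric_of_le hQ hQlt.le (hQ1P.trans hPS)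
      have hlt : Nat.card P - Nat.card Q1 < n := by
        have h1 : Nat.card Q < Nat.card Q1 := by
          have : Finite Q1 := Finite.of_injective (Subgroup.inclusion hQ1P) (Subgroup.inclusion_injective hQ1P)
          exact card_lt_of_lt hQlt
        have h2 : Nat.card Q1 ≤ Nat.card P := Subgroup.card_le_of_le hQ1P
        omega
      obtain ⟨z2, hz2, hz2c, hz2f⟩ := ih _ hlt rfl hQ1P hQ1c hf2 hf'
        (fun x hx => (hz1f x hx).symm)
      -- `z2 ∈ Z(Q1) ≤ C_S(Q) ≤ Q`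
      have hz2Q : z2 ∈ Q := by
        refine mem_of_centralizes hQ (isConj_refl F hQ.1) (hPS (hQ1P hz2)) ?_
        intro x hx
        exact hz2c x (hQlt.le hx)
      refine ⟨z1 * z2, Q.mul_mem hz1 hz2Q, ?_, ?_⟩
      · intro x hx
        rw [mul_assoc, hz2c x (hQlt.le hx), ← mul_assoc, hz1c x hx, mul_assoc]
      · intro y hy
        rw [hz2f y hy]
        show f (z1 * (z2 * y * z2⁻¹) * z1⁻¹) = f (z1 * z2 * y * (z1 * z2)⁻¹)
        congr 1
        group


/-! ### Comparing a saturated subsystem with the ambient system on centric subgroups -/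

theorem isMapOn_of_le {F F' : FusionSystem S} (hle : ∀ P : Subgroup Ω, F'.Hom P ⊆ F.Hom P)
    {P : Subgroup Ω} {f : Ω → Ω} (h : IsMapOn F' P f) : IsMapOn F P f := by
  obtain ⟨φ, hφ, hφf⟩ := h
  exact ⟨φ, hle P hφ, hφf⟩

/-- If `g` normalizes `R` (inside the source of the map `f`), then `f g` normalizes the image of `R`. -/
theorem map_mem_normalizer {F : FusionSystem S} {P R R' : Subgroup Ω} {f : Ω → Ω} (hf : IsMapOn F P f)
    (hRP : R ≤ P) (hR' : IsImage R f R') {g : Ω} (hgP : g ∈ P)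
    (hg : g ∈ Subgroup.normalizer (R : Set Ω)) : f g ∈ Subgroup.normalizer (R' : Set Ω) := by
  rw [Subgroup.mem_normalizer_iff] at hg ⊢
  intro h
  constructor
  · intro hh
    obtain ⟨x, hx, rfl⟩ := (hR' h).1 hh
    rw [← hf.map_inv hgP, ← hf.map_mul hgP (hRP hx), ← hf.map_mul (P.mul_mem hgP (hRP hx)) (P.inv_mem hgP)]
    exact hR'.mem ((hg x).1 hx)
  · intro hh
    obtain ⟨x, hx, hxe⟩ := (hR' _).1 hh
    have hx' : g⁻¹ * x * g ∈ R := by
      have h1 := (hg (g⁻¹ * x * g)).2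
      apply h1
      have : g * (g⁻¹ * x * g) * g⁻¹ = x := by group
      rw [this]
      exact hx
    have h2 : h = f (g⁻¹ * x * g) := by
      rw [hf.map_mul (P.mul_mem (P.inv_mem hgP) (hRP hx)) hgP, hf.map_mul (P.inv_mem hgP) (hRP hx),
        hf.map_inv hgP, hxe]
      group
    rw [h2]
    exact hR'.mem hx'

/-- Key lemma: let `F' ≤ F` be saturated, `R ≤ Q` with `R` centric in `F`, and `f` a map of `F` on `Q` whose
restriction to `R` is a map of `F'`. Then `f` is a map of `F'` on `Q`. -/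
theorem isMapOn_of_restrict_centric {F F' : FusionSystem S} [Finite S] {p : ℕ} [Fact p.Prime]
    (hS : IsPGroup p S) (hF : F.IsSaturated p) (hF' : F'.IsSaturated p)
    (hle : ∀ P : Subgroup Ω, F'.Hom P ⊆ F.Hom P) {Q : Subgroup Ω} :
    ∀ (n : ℕ) {R : Subgroup Ω}, Nat.card Q - Nat.card R = n → R ≤ Q → F.IsCentric R →
    ∀ {f : Ω → Ω}, IsMapOn F Q f → IsMapOn F' R f → IsMapOn F' Q f := by
  intro n
  induction n using Nat.strong_induction_on with
  | _ n ih =>
    intro R hn hRQ hRc f hf hf'R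
    have hQS := hf.le
    have hfinQ : Finite Q := Finite.of_injective (Subgroup.inclusion hQS) (Subgroup.inclusion_injective hQS)
    by_cases hReq : R = Q
    · exact hReq ▸ hf'R
    · have hQp : IsPGroup p Q := by
        intro x
        obtain ⟨k, hk⟩ := hS ⟨x, hQS x.2⟩
        exact ⟨k, Subtype.ext (by simpa using congrArg Subtype.val hk)⟩
      set R1 : Subgroup Ω := normalizerIn Q R with hR1def
      have hRlt : R < R1 := lt_normalizerIn (S := Q) hQp hRQ hReq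
      have hR1Q : R1 ≤ Q := normalizerIn_le Q R
      have hR1S : R1 ≤ S := hR1Q.trans hQS
      have hfR1 : IsMapOn F R1 f := hf.mono hR1Q
      -- the image `R'` of `R` and a fully automized receptive `F'`-conjugate `T` of it
      obtain ⟨R', hR', hRR'⟩ := exists_isImage hf'R
      have hR'S : R' ≤ S := hR'.le hf'R
      obtain ⟨T, ⟨φ, hφ, hφr⟩, hTa, hTr⟩ := hF' R' hR'S
      obtain ⟨α, hα, a, ha, haφ⟩ := exists_extension F' hS hTa hTr hφ hφr
      have hTS : T ≤ S := hTa.1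
      have hαmap : IsMapOn F' T (extFun α) := (mem_autGroup_iff F' hTS α).1 hα
      have haR' : ∀ x ∈ R', a x ∈ T := by
        intro x hx
        rw [haφ ⟨x, hx⟩]
        exact extFun_mem α (hφr.le ⟨⟨x, hx⟩, rfl⟩)
      have hR'N : R' ≤ normalizerIn S R' := le_normalizerIn hR'S
      -- `f` maps `R1` into `N_S(R')`
      have hfN : ∀ g ∈ R1, f g ∈ normalizerIn S R' := by
        intro g hg
        refine Subgroup.mem_inf.2 ⟨hfR1.mem hg, ?_⟩
        exact map_mem_normalizer hfR1 hRlt.le hR' hg (normalizerIn_le_normalizer Q R hg)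
      have haF : IsMapOn F (normalizerIn S R') a := isMapOn_of_le hle ha
      have haf : IsMapOn F R1 (a ∘ f) := hfR1.comp haF hfN
      have haf' : IsMapOn F' R (a ∘ f) := hf'R.comp ha (fun x hx => hR'N (hR'.mem hx))
      -- the image of `R` under `a ∘ f` is `T`
      have himgT : IsImage R (a ∘ f) T := by
        intro t
        constructor
        · intro ht
          have ht' : extFun α⁻¹ t ∈ T := extFun_mem _ ht
          obtain ⟨x, hx⟩ := hφr.ge ht'
          obtain ⟨w, hw, hwx⟩ := (hR' x).1 x.2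
          refine ⟨w, hw, ?_⟩
          show a (f w) = t
          have h1 := haφ x
          rw [hx, extFun_apply_inv α ht] at h1
          rw [hwx]
          exact h1
        · rintro ⟨w, hw, rfl⟩
          exact haR' _ (hR'.mem hw)
      obtain ⟨ψ₀, hψ₀, hψ₀f⟩ := haf'
      have hψ₀r : ψ₀.range = T := by
        ext t
        rw [himgT t]
        constructor
        · rintro ⟨x, rfl⟩
          exact ⟨x, x.2, (hψ₀f x).symm⟩
        · rintro ⟨x, hx, rfl⟩
          exact ⟨⟨x, hx⟩, hψ₀f _⟩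
      obtain ⟨ψ, hψ, hψext⟩ := hTr.2 R ψ₀ hψ₀ hψ₀r
      -- `R1` lies in the extender
      have hR1ext : R1 ≤ extender S R ψ₀ := by
        intro g hg
        apply Subgroup.subset_closure
        refine ⟨hR1S hg, normalizerIn_le_normalizer Q R hg, a (f g), haf.mem hg, ?_⟩
        intro x hx
        rw [hψ₀f, hψ₀f]
        show a (f (g * (x : Ω) * g⁻¹)) = a (f g) * a (f (x : Ω)) * (a (f g))⁻¹
        have hgR1 : g ∈ R1 := hg
        have hxR1 : (x : Ω) ∈ R1 := hRlt.le x.2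
        have e1 := haf.map_mul (R1.mul_mem hgR1 hxR1) (R1.inv_mem hgR1)
        have e2 := haf.map_mul hgR1 hxR1
        have e3 := haf.map_inv hgR1
        simp only [Function.comp_apply] at e1 e2 e3
        rw [e1, e2, e3]
      have hb : IsMapOn F' R1 (extHom ψ) := (isMapOn_extHom F' hψ).mono hR1ext
      have hbR : ∀ x ∈ R, extHom ψ x = (a ∘ f) x := by
        intro x hx
        rw [extHom_apply ψ (hR1ext (hRlt.le hx)), hψext x hx, hψ₀f]
      -- the two maps differ by conjugation by an element of `Z(R)`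
      have hnorm : ∀ g ∈ R1, ∀ x ∈ R, g * x * g⁻¹ ∈ R := fun g hg x hx =>
        conj_mem_of_mem_normalizerIn hg hx
      obtain ⟨z, hz, -, hzf⟩ := eq_comp_conj_of_agree_normal hS hF hRlt.le hnorm hRc
        (isMapOn_of_le hle hb) haf hbR
      have hzR1 : z ∈ R1 := hRlt.le hz
      have hconj : IsMapOn F' R1 (fun y => z * y * z⁻¹) := IsMapOn.conj F' hR1S (hR1S hzR1)
      have haf1 : IsMapOn F' R1 (a ∘ f) := by
        refine (hconj.comp hb (fun y hy => R1.mul_mem (R1.mul_mem hzR1 hy) (R1.inv_mem hzR1))).congr ?_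
        intro y hy
        exact (hzf y hy).symm
      -- invert `a`
      obtain ⟨N', hN', -⟩ := exists_isImage ha
      obtain ⟨a', ha', ha'a, -, -⟩ := ha.inv hN'
      have hf1 : IsMapOn F' R1 f := by
        refine (haf1.comp ha' (fun y hy => hN'.mem (hfN y hy))).congr ?_
        intro y hy
        exact ha'a _ (hfN y hy)
      -- induct
      have hR1c : F.IsCentric R1 := isCentric_of_le hRc hRlt.le hR1S
      have hlt : Nat.card Q - Nat.card R1 < n := by
        have h1 : Nat.card R < Nat.card R1 := by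
          have : Finite R1 := Finite.of_injective (Subgroup.inclusion hR1Q) (Subgroup.inclusion_injective hR1Q)
          exact card_lt_of_lt hRlt
        have h2 : Nat.card R1 ≤ Nat.card Q := Subgroup.card_le_of_le hR1Q
        omega
      exact ih _ hlt rfl hR1Q hR1c hf hf1

end Cfsg.Agent.Lib.Helper88_Centric
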