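import Cfsg.Agent.Lib.Helper84_FusionAlperin
import Cfsg.Agent.Lib.Helper48_SPE

/-!
Fusion systems: essential subgroups and the Alperin–Goldschmidt theorem (helper84).
-/

set_option autoImplicit false

namespace Cfsg.Agent.Lib.Helper84_FusionEssential

open Cfsg Cfsg.FusionSystem Cfsg.Agent.Lib.Helper85_Fusion Cfsg.Agent.Lib.Helper84_RelSylow
  Cfsg.Agent.Lib.Helper84_FusionSat Cfsg.Agent.Lib.Helper84_FusionRS
  Cfsg.Agent.Lib.Helper84_FusionAlperin

variable {Ω : Type*} [Group Ω] {S : Subgroup Ω}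

theorem map_center_subtype (Q : Subgroup Ω) :
    (Subgroup.center Q).map Q.subtype = Q ⊓ Subgroup.centralizer (Q : Set Ω) := by
  ext y
  constructor
  · rintro ⟨z, hz, rfl⟩
    refine ⟨z.2, ?_⟩
    show (z : Ω) ∈ Subgroup.centralizer (Q : Set Ω)
    rw [Subgroup.mem_centralizer_iff]
    intro x hx
    have := Subgroup.mem_center_iff.mp hz ⟨x, hx⟩
    exact congrArg Subtype.val this
  · rintro ⟨hyQ, hyC⟩
    refine ⟨⟨y, hyQ⟩, ?_, rfl⟩
    rw [SetLike.mem_coe, Subgroup.mem_center_iff]
    intro x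
    apply Subtype.ext
    exact Subgroup.mem_centralizer_iff.mp hyC x x.2

theorem card_inf_centralizer (Q : Subgroup Ω) :
    Nat.card (Q ⊓ Subgroup.centralizer (Q : Set Ω) : Subgroup Ω) = Nat.card (Subgroup.center Q) := by
  rw [← map_center_subtype]
  exact Subgroup.card_map_of_injective Q.subtype_injective

/-- A fully centralized subgroup containing its centralizer in `S` is centric. -/
theorem isCentric_of_centralizerIn_le [Finite S] (F : FusionSystem S) {R : Subgroup Ω}
    (hfc : F.IsFullyCentralized R) (hC : centralizerIn S R ≤ R) : F.IsCentric R := by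
  refine ⟨hfc.1, fun Q hRQ => ?_⟩
  have hQS : Q ≤ S := isConj_le_right F hRQ
  obtain ⟨φ, hφ, hr⟩ := hRQ
  have e := isoOfRange φ (F.injective_of_mem hφ) hr
  have hcen : Nat.card (Subgroup.center Q) = Nat.card (Subgroup.center R) :=
    (Nat.card_congr (Subgroup.centerCongr e).toEquiv).symm
  have h1 : Nat.card (centralizerIn S Q) ≤ Nat.card (centralizerIn S R) := hfc.2 Q ⟨φ, hφ, hr⟩
  have h2 : centralizerIn S R ≤ R ⊓ Subgroup.centralizer (R : Set Ω) := le_inf hC inf_le_right
  have : Finite (R ⊓ Subgroup.centralizer (R : Set Ω) : Subgroup Ω) :=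
    finite_of_le_S (inf_le_left.trans hfc.1)
  have h3 : Nat.card (centralizerIn S R) ≤ Nat.card (Subgroup.center R) := by
    rw [← card_inf_centralizer]
    exact Subgroup.card_le_of_le h2
  have h4 : Q ⊓ Subgroup.centralizer (Q : Set Ω) ≤ centralizerIn S Q := inf_le_inf_right _ hQS
  have : Finite (centralizerIn S Q) := finite_of_le_S inf_le_left
  have h5 : Q ⊓ Subgroup.centralizer (Q : Set Ω) = centralizerIn S Q := by
    apply Subgroup.eq_of_le_of_card_ge h4
    rw [card_inf_centralizer, hcen]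
    exact h1.trans h3
  rw [← h5]
  exact inf_le_left

/-- The automorphisms of `R` that extend to maps of the system defined on strictly larger
subgroups. -/
def extSet (F : FusionSystem S) (R : Subgroup Ω) : Set (MulAut R) :=
  {α : MulAut R | ∃ (Q : Subgroup Ω) (hPQ : R < Q) (φ : Q →* Ω), φ ∈ F.Hom Q ∧
    ∀ x : R, φ (Subgroup.inclusion hPQ.le x) = α x}

/-- The subgroup of `Aut(R)` generated by the automorphisms that extend to strictly larger
subgroups. -/
def extClosure (F : FusionSystem S) (R : Subgroup Ω) : Subgroup (MulAut R) :=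
  Subgroup.closure (extSet F R)

theorem extSet_subset_autGroup (F : FusionSystem S) {R : Subgroup Ω} :
    extSet F R ⊆ F.autGroup R := by
  rintro α ⟨Q, hRQ, φ, hφ, hα⟩
  have hRS : R ≤ S := hRQ.le.trans (source_le F hφ)
  rw [SetLike.mem_coe, mem_autGroup_iff F hRS]
  exact mem_of_eq F (restrict_mem F hRQ.le hφ) (fun x => (hα x).symm)

theorem extClosure_le_autGroup (F : FusionSystem S) {R : Subgroup Ω} :
    extClosure F R ≤ F.autGroup R :=
  (Subgroup.closure_le _).2 (extSet_subset_autGroup F)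

/-- An automorphism in `Aut_F(R)` of a receptive `R` whose `N_α` is strictly larger than `R`
extends to a strictly larger subgroup. -/
theorem mem_extSet_of_lt_extender (F : FusionSystem S) {R : Subgroup Ω} (hRr : F.IsReceptive R)
    {α : MulAut R} (hα : α ∈ F.autGroup R)
    (hlt : R < extender S R (R.subtype.comp α.toMonoidHom)) : α ∈ extSet F R := by
  have hα' := (mem_autGroup_iff F hRr.1 α).1 hα
  obtain ⟨ψ, hψ, hψα⟩ := hRr.2 R _ hα' (range_subtype_comp_equiv α)
  refine ⟨_, hlt, ψ, hψ, fun x => ?_⟩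
  exact hψα x x.2 (hlt.le x.2)

/-- Membership of `g ∈ N_S(R)` in `N_α`, in terms of automorphisms. -/
theorem mem_extender_of_conj_mem {R : Subgroup Ω} (α : MulAut R) {g : Ω} (hgS : g ∈ S)
    (hgN : g ∈ Subgroup.normalizer (R : Set Ω))
    (h : α * R.normalizerMonoidHom ⟨g, hgN⟩ * α⁻¹ ∈ autInducedBy S R) :
    g ∈ extender S R (R.subtype.comp α.toMonoidHom) := by
  obtain ⟨k, hkS, hk⟩ := (mem_autInducedBy_iff S R _).1 h
  rw [mem_extender_iff]
  refine ⟨hgS, hgN, k, hkS, fun x hx => ?_⟩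
  have := hk (α x)
  simp only [MulAut.mul_apply, MulAut.inv_apply_self] at this
  show ((α ⟨g * ↑x * g⁻¹, hx⟩ : R) : Ω) = k * ((α x : R) : Ω) * k⁻¹
  rw [← this]
  rfl

/-- Inner automorphisms extend to `N_S(R)`. -/
theorem inn_le_extClosure [Finite S] {p : ℕ} [Fact p.Prime] (hS : IsPGroup p S) (F : FusionSystem S)
    {R : Subgroup Ω} (hRS : R < S) : Inn R ≤ extClosure F R := by
  rintro _ ⟨x, rfl⟩
  apply Subgroup.subset_closure
  have hRN : R < normalizerIn S R := lt_normalizerIn hS hRS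
  refine ⟨normalizerIn S R, hRN, conjHom (normalizerIn S R) x, F.conj_mem inf_le_left (hRS.le x.2), ?_⟩
  intro y
  rfl

theorem le_extender_aut {R : Subgroup Ω} (hRS : R ≤ S) (α : MulAut R) :
    R ≤ extender S R (R.subtype.comp α.toMonoidHom) :=
  Helper84_Fusion.le_extender S R _ hRS (fun x => hRS (α x).2)

/-- If `C_S(R) ≰ R` for a receptive `R`, every automorphism in `Aut_F(R)` extends to a strictly
larger subgroup. -/
theorem autGroup_le_extClosure_of_not_le (F : FusionSystem S) {R : Subgroup Ω} (hRr : F.IsReceptive R)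
    (hC : ¬ centralizerIn S R ≤ R) : F.autGroup R ≤ extClosure F R := by
  intro α hα
  apply Subgroup.subset_closure
  apply mem_extSet_of_lt_extender F hRr hα
  refine lt_of_le_of_ne (le_extender_aut hRr.1 α) ?_
  intro h
  apply hC
  have h2 := Helper84_Fusion.centralizerIn_le_extender S R (R.subtype.comp α.toMonoidHom)
  rwa [← h] at h2

theorem inn_le_autInducedBy {R : Subgroup Ω} (hRS : R ≤ S) : Inn R ≤ autInducedBy S R := by
  rintro _ ⟨x, rfl⟩
  rw [mem_autInducedBy_iff]
  exact ⟨x, hRS x.2, fun y => rfl⟩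

/-- For `g ∈ N_S(R)` with `C_S(R) ≤ R`: if `c_g` is inner on `R` then `g ∈ R`. -/
theorem mem_of_normalizerMonoidHom_mem_inn {R : Subgroup Ω} (hC : centralizerIn S R ≤ R) {g : Ω}
    (hgS : g ∈ S) (hRS : R ≤ S) (hgN : g ∈ Subgroup.normalizer (R : Set Ω))
    (h : R.normalizerMonoidHom ⟨g, hgN⟩ ∈ Inn R) : g ∈ R := by
  obtain ⟨x, hx⟩ := h
  have hcomm : ∀ y : R, (x : Ω) * y * (x : Ω)⁻¹ = g * y * g⁻¹ := by
    intro y
    have := congrArg (fun f : MulAut R => ((f y : R) : Ω)) hx
    exact this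
  have hc : (x : Ω)⁻¹ * g ∈ centralizerIn S R := by
    refine ⟨S.mul_mem (S.inv_mem (hRS x.2)) hgS, ?_⟩
    show _ ∈ Subgroup.centralizer (R : Set Ω)
    rw [Subgroup.mem_centralizer_iff]
    intro y hy
    have h1 := hcomm ⟨y, hy⟩
    simp only at h1
    calc y * ((x : Ω)⁻¹ * g) = (x : Ω)⁻¹ * ((x : Ω) * y * (x : Ω)⁻¹) * g := by group
      _ = (x : Ω)⁻¹ * (g * y * g⁻¹) * g := by rw [h1]
      _ = (x : Ω)⁻¹ * g * y := by group
  have h2 := R.mul_mem x.2 (hC hc)
  simpa using h2

/-- **Main step for the Alperin–Goldschmidt theorem.** Let `F` be saturated, `R < S` fully normalized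
with `C_S(R) ≤ R`, and suppose the automorphisms extending to strictly larger subgroups do not
generate `Aut_F(R)`. Then the image of the subgroup they generate is strongly `p`-embedded in
`Out_F(R)`. -/
theorem isStronglyPEmbedded_extClosure [Finite S] {p : ℕ} [Fact p.Prime] (hS : IsPGroup p S)
    (F : FusionSystem S) (hF : F.IsSaturated p) {R : Subgroup Ω} (hRS : R < S)
    (hRn : F.IsFullyNormalized R) (hC : centralizerIn S R ≤ R)
    (hne : extClosure F R ≠ F.autGroup R) [hn : ((Inn R).subgroupOf (F.autGroup R)).Normal] :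
    IsStronglyPEmbedded p (((extClosure F R).subgroupOf (F.autGroup R)).map
      (QuotientGroup.mk' ((Inn R).subgroupOf (F.autGroup R)))) := by
  have hRS' : R ≤ S := hRS.le
  have : Finite R := finite_of_le_S hRS'
  have hRa := IsSaturated.isFullyAutomized hS hF hRn
  have hRr := IsSaturated.isReceptive_of_isFullyNormalized hS hF hRn
  have hHA := extClosure_le_autGroup F (R := R)
  have hInnH := inn_le_extClosure hS F hRS
  have hAutS_le : autInducedBy S R ≤ F.autGroup R := autInducedBy_le_autGroup F hRS'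
  have hInnS : Inn R ≤ autInducedBy S R := inn_le_autInducedBy hRS'
  -- key: elements α of A with some g ∈ N_S(R) \ R such that α c_g α⁻¹ ∈ Aut_S(R) lie in H
  have key : ∀ α ∈ F.autGroup R, ∀ (g : Ω) (_ : g ∈ S) (hgN : g ∈ Subgroup.normalizer (R : Set Ω)),
      g ∉ R → α * R.normalizerMonoidHom ⟨g, hgN⟩ * α⁻¹ ∈ autInducedBy S R → α ∈ extClosure F R := by
    intro α hα g hgS hgN hgR h
    apply Subgroup.subset_closure
    apply mem_extSet_of_lt_extender F hRr hα
    refine lt_of_le_of_ne (le_extender_aut hRS' α) ?_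
    intro heq
    apply hgR
    rw [heq]
    exact mem_extender_of_conj_mem α hgS hgN h
  have hmemN : ∀ a : F.autGroup R, a ∈ (Inn R).subgroupOf (F.autGroup R) ↔ (a : MulAut R) ∈ Inn R :=
    fun a => Subgroup.mem_subgroupOf
  have hπ1 : ∀ a : F.autGroup R, QuotientGroup.mk' ((Inn R).subgroupOf (F.autGroup R)) a = 1 ↔
      (a : MulAut R) ∈ Inn R := by
    intro a
    rw [QuotientGroup.mk'_apply, QuotientGroup.eq_one_iff, hmemN]
  obtain ⟨hRS'', T₀, hT₀⟩ := hRa
  have hmemT₀ : ∀ a : F.autGroup R, a ∈ T₀ ↔ (a : MulAut R) ∈ autInducedBy S R := by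
    intro a
    have : a ∈ (T₀ : Subgroup (F.autGroup R)) ↔ a ∈ (autInducedBy S R).subgroupOf (F.autGroup R) := by
      rw [hT₀]
    rw [Subgroup.mem_subgroupOf] at this
    exact this
  refine ⟨?_, ?_, T₀.mapSurjective (QuotientGroup.mk'_surjective _), ?_⟩
  · -- p divides the order of Out_F(R)
    obtain ⟨g, ⟨hgS, hgN⟩, hgR⟩ := exists_mem_normalizerIn_not_mem hS hRS
    have hβS : R.normalizerMonoidHom ⟨g, hgN⟩ ∈ autInducedBy S R :=
      normalizerMonoidHom_mem_autInducedBy hgS hgN
    set b : F.autGroup R := ⟨R.normalizerMonoidHom ⟨g, hgN⟩, hAutS_le hβS⟩ with hb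
    have hb1 : QuotientGroup.mk' ((Inn R).subgroupOf (F.autGroup R)) b ≠ 1 := by
      intro h
      exact hgR (mem_of_normalizerMonoidHom_mem_inn hC hgS hRS' hgN ((hπ1 b).1 h))
    obtain ⟨k, hk⟩ := (isPGroup_autInducedBy hS R) ⟨_, hβS⟩
    have hk' : b ^ (p ^ k) = 1 := by
      apply Subtype.ext
      have := congrArg Subtype.val hk
      simpa using this
    have hk'' : (QuotientGroup.mk' ((Inn R).subgroupOf (F.autGroup R)) b) ^ (p ^ k) = 1 := by
      rw [← map_pow, hk', map_one]
    have hdvd := orderOf_dvd_of_pow_eq_one hk''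
    obtain ⟨j, -, hj⟩ := (Nat.dvd_prime_pow (Fact.out : p.Prime)).1 hdvd
    have hj0 : j ≠ 0 := by
      rintro rfl
      rw [pow_zero, orderOf_eq_one_iff] at hj
      exact hb1 hj
    calc p ∣ p ^ j := dvd_pow_self p hj0
      _ = orderOf (QuotientGroup.mk' ((Inn R).subgroupOf (F.autGroup R)) b) := hj.symm
      _ ∣ _ := orderOf_dvd_natCard _
  · -- the image of H is proper
    intro htop
    apply hne
    apply le_antisymm hHA
    intro α hα
    have h1 : QuotientGroup.mk' ((Inn R).subgroupOf (F.autGroup R)) ⟨α, hα⟩ ∈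
        ((extClosure F R).subgroupOf (F.autGroup R)).map
          (QuotientGroup.mk' ((Inn R).subgroupOf (F.autGroup R))) := by
      rw [htop]; trivial
    obtain ⟨η, hη, hηα⟩ := h1
    rw [SetLike.mem_coe, Subgroup.mem_subgroupOf] at hη
    have h2 : ((η⁻¹ * ⟨α, hα⟩ : F.autGroup R) : MulAut R) ∈ Inn R := by
      rw [← hπ1, map_mul, map_inv, hηα]
      simp
    have h3 := (extClosure F R).mul_mem hη (hInnH h2)
    simpa using h3
  · -- the 1-generated core lies in the image of H
    unfold kGeneratedCore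
    apply iSup_le
    rintro ⟨Qb, hQT, hQr⟩
    intro xb hxb
    have hQ1 : Qb ≠ ⊥ := Helper48_SPE.ne_bot_of_not_pRankLE_zero (by simpa using hQr)
    obtain ⟨⟨yb, hyQ⟩, hyb1⟩ := (Subgroup.ne_bot_iff_exists_ne_one).1 hQ1
    have hyb1' : yb ≠ 1 := fun h => hyb1 (Subtype.ext h)
    -- yb comes from b = c_g ∈ Aut_S(R)
    have hyT : yb ∈ ((T₀.mapSurjective (QuotientGroup.mk'_surjective
        ((Inn R).subgroupOf (F.autGroup R))) : Sylow p _) : Subgroup _) := hQT hyQ
    rw [Sylow.coe_mapSurjective] at hyT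
    obtain ⟨b, hbT, hby⟩ := hyT
    have hbS : (b : MulAut R) ∈ autInducedBy S R := (hmemT₀ b).1 hbT
    obtain ⟨g, hgS, hg⟩ := (mem_autInducedBy_iff S R _).1 hbS
    have hgN : g ∈ Subgroup.normalizer (R : Set Ω) := mem_normalizer_of_aut _ g hg
    have hbg : (b : MulAut R) = R.normalizerMonoidHom ⟨g, hgN⟩ := by
      ext x
      exact hg x
    have hgR : g ∉ R := by
      intro hgR
      apply hyb1'
      rw [← hby, hπ1, hbg]
      exact ⟨⟨g, hgR⟩, by ext x; rfl⟩
    obtain ⟨a, rfl⟩ := QuotientGroup.mk'_surjective ((Inn R).subgroupOf (F.autGroup R)) xb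
    -- conjugate of yb by xb lies in T
    have hconj : QuotientGroup.mk' ((Inn R).subgroupOf (F.autGroup R)) a * yb *
        (QuotientGroup.mk' ((Inn R).subgroupOf (F.autGroup R)) a)⁻¹ ∈ Qb := (hxb yb).mp hyQ
    have hconjT := hQT hconj
    rw [Sylow.coe_mapSurjective] at hconjT
    obtain ⟨d, hdT, hd⟩ := hconjT
    have hdS : (d : MulAut R) ∈ autInducedBy S R := (hmemT₀ d).1 hdT
    have h2 : ((d⁻¹ * (a * b * a⁻¹) : F.autGroup R) : MulAut R) ∈ Inn R := by
      rw [← hπ1, map_mul, map_inv, hd, map_mul, map_mul, map_inv, hby]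
      group
    have h3 : (a : MulAut R) * (b : MulAut R) * (a : MulAut R)⁻¹ ∈ autInducedBy S R := by
      have := (autInducedBy S R).mul_mem hdS (hInnS h2)
      simpa using this
    rw [hbg] at h3
    have h4 : (a : MulAut R) ∈ extClosure F R := key _ a.2 g hgS hgN hgR h3
    exact ⟨a, by rw [SetLike.mem_coe, Subgroup.mem_subgroupOf]; exact h4, rfl⟩

theorem inn_subgroupOf_normal {R : Subgroup Ω} (A : Subgroup (MulAut R)) :
    ((Inn R).subgroupOf A).Normal :=
  Subgroup.Normal.subgroupOf inferInstance A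

/-- In a saturated system, a fully normalized proper subgroup `R` for which the automorphisms
extending to strictly larger subgroups do not generate `Aut_F(R)` is essential. -/
theorem isEssential_of_extClosure_ne [Finite S] {p : ℕ} [Fact p.Prime] (hS : IsPGroup p S)
    (F : FusionSystem S) (hF : F.IsSaturated p) {R : Subgroup Ω} (hRS : R < S)
    (hRn : F.IsFullyNormalized R) (hne : extClosure F R ≠ F.autGroup R) : F.IsEssential p R := by
  have hRr := IsSaturated.isReceptive_of_isFullyNormalized hS hF hRn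
  have hC : centralizerIn S R ≤ R := by
    by_contra hC
    exact hne (le_antisymm (extClosure_le_autGroup F) (autGroup_le_extClosure_of_not_le F hRr hC))
  have hcen : F.IsCentric R :=
    isCentric_of_centralizerIn_le F (IsSaturated.isFullyCentralized hS hF hRn) hC
  have hn := inn_subgroupOf_normal (F.autGroup R)
  exact ⟨hcen, hRn, hn, _, isStronglyPEmbedded_extClosure hS F hF hRS hRn hC hne⟩

/-- In a saturated system, if `R < S` is fully normalized and not essential then `Aut_F(R)` is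
generated by the automorphisms that extend to strictly larger subgroups. -/
theorem autGroup_le_extClosure_of_not_isEssential [Finite S] {p : ℕ} [Fact p.Prime] (hS : IsPGroup p S)
    (F : FusionSystem S) (hF : F.IsSaturated p) {R : Subgroup Ω} (hRS : R < S)
    (hRn : F.IsFullyNormalized R) (hne : ¬ F.IsEssential p R) : F.autGroup R ≤ extClosure F R := by
  by_contra h
  apply hne
  apply isEssential_of_extClosure_ne hS F hF hRS hRn
  intro heq
  exact h heq.ge

/-- **Alperin–Goldschmidt fusion theorem.** -/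
theorem alperin_goldschmidt [Finite S] {p : ℕ} [Fact p.Prime] (hS : IsPGroup p S)
    (F : FusionSystem S) (hF : F.IsSaturated p) (E : FusionSystem S)
    (hE : ∀ P : Subgroup Ω, (P = S ∨ F.IsEssential p P) → F.autGroup P ≤ E.autGroup P) : F ≤ E := by
  apply alperin_induction hS F hF E
  intro R hRn hbig
  by_cases hRS : R = S
  · exact hE R (Or.inl hRS)
  by_cases hess : F.IsEssential p R
  · exact hE R (Or.inr hess)
  have hlt : R < S := lt_of_le_of_ne hRn.1 hRS
  refine (autGroup_le_extClosure_of_not_isEssential hS F hF hlt hRn hess).trans ?_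
  unfold extClosure
  rw [Subgroup.closure_le]
  rintro α ⟨Q, hRQ, φ, hφ, hα⟩
  have hφE := hbig Q φ hRQ hφ
  rw [SetLike.mem_coe, mem_autGroup_iff E hRn.1]
  exact mem_of_eq E (restrict_mem E hRQ.le hφE) (fun x => (hα x).symm)

section Converse
open scoped Pointwise

theorem isPGroup_zpowers_of_pow_eq_one {X : Type*} [Group X] {p : ℕ} {u : X} {k : ℕ}
    (h : u ^ (p ^ k) = 1) : IsPGroup p (Subgroup.zpowers u) := by
  rintro ⟨y, hy⟩
  obtain ⟨n, rfl⟩ := hy
  refine ⟨k, Subtype.ext ?_⟩
  show (u ^ n) ^ (p ^ k) = 1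
  rw [← zpow_natCast, ← zpow_mul, mul_comm, zpow_mul, zpow_natCast, h, one_zpow]

/-- In a saturated system, for an essential subgroup `P < S` the automorphisms extending to
strictly larger subgroups do not generate `Aut_F(P)`. -/
theorem extClosure_ne_of_isEssential [Finite S] {p : ℕ} [Fact p.Prime] (hS : IsPGroup p S)
    (F : FusionSystem S) (hF : F.IsSaturated p) {P : Subgroup Ω} (hPS : P < S)
    (hP : F.IsEssential p P) : extClosure F P ≠ F.autGroup P := by
  obtain ⟨hcen, hPn, hn, M, hM⟩ := hP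
  have hPS' : P ≤ S := hPS.le
  have : Finite P := finite_of_le_S hPS'
  have hC : centralizerIn S P ≤ P := hcen.2 P (isConj_refl F hPS')
  have hRa := IsSaturated.isFullyAutomized hS hF hPn
  have hAutS_le : autInducedBy S P ≤ F.autGroup P := autInducedBy_le_autGroup F hPS'
  obtain ⟨-, T₀, hT₀⟩ := hRa
  have hmemT₀ : ∀ a : F.autGroup P, a ∈ T₀ ↔ (a : MulAut P) ∈ autInducedBy S P := by
    intro a
    have : a ∈ (T₀ : Subgroup (F.autGroup P)) ↔ a ∈ (autInducedBy S P).subgroupOf (F.autGroup P) := by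
      rw [hT₀]
    rw [Subgroup.mem_subgroupOf] at this
    exact this
  have hπ1 : ∀ a : F.autGroup P, QuotientGroup.mk' ((Inn P).subgroupOf (F.autGroup P)) a = 1 ↔
      (a : MulAut P) ∈ Inn P := by
    intro a
    rw [QuotientGroup.mk'_apply, QuotientGroup.eq_one_iff, Subgroup.mem_subgroupOf]
  have hSPE := Helper48_SPE.spe_of_isStronglyPEmbedded hM
  obtain ⟨T', hT'M⟩ := hSPE.sylow_le
  set T := T₀.mapSurjective (QuotientGroup.mk'_surjective ((Inn P).subgroupOf (F.autGroup P))) with hT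
  obtain ⟨x, hx⟩ := MulAction.exists_smul_eq (F.autGroup P ⧸ (Inn P).subgroupOf (F.autGroup P)) T' T
  -- elements of T conjugated by x⁻¹ land in M
  have hTM : ∀ t ∈ T, x⁻¹ * t * x ∈ M := by
    intro t ht
    have hx' : T.toSubgroup = MulAut.conj x • T'.toSubgroup := by
      rw [← hx]
      exact Sylow.coe_subgroup_smul
    have ht' : t ∈ T.toSubgroup := ht
    rw [hx', Helper48_SPE.mem_conj_smul_iff] at ht'
    exact hT'M ht'
  have hmemT : ∀ a : F.autGroup P, (a : MulAut P) ∈ autInducedBy S P →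
      QuotientGroup.mk' ((Inn P).subgroupOf (F.autGroup P)) a ∈ T := by
    intro a ha
    show _ ∈ T.toSubgroup
    rw [hT, Sylow.coe_mapSurjective]
    exact ⟨a, (hmemT₀ a).2 ha, rfl⟩
  -- generators of H map into the conjugate of M
  have hgen : ∀ α ∈ extSet F P, ∃ hα : α ∈ F.autGroup P,
      x⁻¹ * QuotientGroup.mk' ((Inn P).subgroupOf (F.autGroup P)) ⟨α, hα⟩ * x ∈ M := by
    intro α hαext
    have hαA : α ∈ F.autGroup P := extSet_subset_autGroup F hαext
    refine ⟨hαA, ?_⟩
    obtain ⟨Q, hPQ, φ, hφ, hφα⟩ := hαext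
    have hQS : Q ≤ S := source_le F hφ
    have : Finite Q := finite_of_le_S hQS
    obtain ⟨g, ⟨hgQ, hgN⟩, hgP⟩ := exists_mem_normalizerIn_not_mem (S := Q) (hS.to_le hQS) hPQ
    have hgS : g ∈ S := hQS hgQ
    have hβS : P.normalizerMonoidHom ⟨g, hgN⟩ ∈ autInducedBy S P :=
      normalizerMonoidHom_mem_autInducedBy hgS hgN
    set b : F.autGroup P := ⟨P.normalizerMonoidHom ⟨g, hgN⟩, hAutS_le hβS⟩ with hb
    set a : F.autGroup P := ⟨α, hαA⟩ with ha
    -- α β α⁻¹ is induced by φ(g)
    have hconj : ((a * b * a⁻¹ : F.autGroup P) : MulAut P) ∈ autInducedBy S P := by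
      rw [mem_autInducedBy_iff]
      refine ⟨φ ⟨g, hgQ⟩, apply_mem F hφ _, fun y => ?_⟩
      show ((α (P.normalizerMonoidHom ⟨g, hgN⟩ (α⁻¹ y)) : P) : Ω) = _
      have hz : ∀ z : P, ((α z : P) : Ω) = φ ⟨z, hPQ.le z.2⟩ := fun z => (hφα z).symm
      rw [hz]
      have e1 : (⟨((P.normalizerMonoidHom ⟨g, hgN⟩ (α⁻¹ y) : P) : Ω), hPQ.le (P.normalizerMonoidHom ⟨g, hgN⟩ (α⁻¹ y)).2⟩ : Q) =
          ⟨g, hgQ⟩ * ⟨((α⁻¹ y : P) : Ω), hPQ.le (α⁻¹ y).2⟩ * ⟨g, hgQ⟩⁻¹ := rfl
      rw [e1, map_mul, map_mul, map_inv, ← hz, MulAut.apply_inv_self]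
    set u := x⁻¹ * QuotientGroup.mk' ((Inn P).subgroupOf (F.autGroup P)) b * x with hu
    set k := x⁻¹ * QuotientGroup.mk' ((Inn P).subgroupOf (F.autGroup P)) a * x with hk
    have huM : u ∈ M := hTM _ (hmemT b hβS)
    have hkuM : k * u * k⁻¹ ∈ M := by
      have := hTM _ (hmemT _ hconj)
      rw [map_mul, map_mul, map_inv] at this
      have e : k * u * k⁻¹ = x⁻¹ * (QuotientGroup.mk' ((Inn P).subgroupOf (F.autGroup P)) a *
          QuotientGroup.mk' ((Inn P).subgroupOf (F.autGroup P)) b *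
          (QuotientGroup.mk' ((Inn P).subgroupOf (F.autGroup P)) a)⁻¹) * x := by
        rw [hk, hu]; group
      rw [e]; exact this
    -- u ≠ 1
    have hu1 : u ≠ 1 := by
      intro h
      have h1 : QuotientGroup.mk' ((Inn P).subgroupOf (F.autGroup P)) b = 1 := by
        have : QuotientGroup.mk' ((Inn P).subgroupOf (F.autGroup P)) b = x * u * x⁻¹ := by
          rw [hu]; group
        rw [this, h]; group
      exact hgP (mem_of_normalizerMonoidHom_mem_inn hC hgS hPS' hgN ((hπ1 b).1 h1))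
    -- u is a p-element
    obtain ⟨j, hj⟩ := (isPGroup_autInducedBy hS P) ⟨_, hβS⟩
    have hbj : b ^ (p ^ j) = 1 := by
      apply Subtype.ext
      have := congrArg Subtype.val hj
      simpa using this
    have huj : u ^ (p ^ j) = 1 := by
      have : u = MulAut.conj x⁻¹ (QuotientGroup.mk' ((Inn P).subgroupOf (F.autGroup P)) b) := by
        rw [hu, MulAut.conj_apply, inv_inv]
      rw [this, ← map_pow, ← map_pow, hbj, map_one, map_one]
    have hQp : IsPGroup p (Subgroup.zpowers u) := isPGroup_zpowers_of_pow_eq_one huj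
    have hQ1 : Subgroup.zpowers u ≠ ⊥ := by
      rw [Ne, Subgroup.zpowers_eq_bot]; exact hu1
    have hQM : Subgroup.zpowers u ≤ M := by
      rw [Subgroup.zpowers_le]; exact huM
    have hkQ : MulAut.conj k • Subgroup.zpowers u ≤ M := by
      rw [Helper48_SPE.conj_smul_le_iff]
      have : Subgroup.zpowers u ≤ M.comap (MulAut.conj k).toMonoidHom := by
        rw [Subgroup.zpowers_le]
        exact hkuM
      intro y hy
      exact this hy
    exact hSPE.mem_of_conj_le' hQp hQ1 hQM hkQ
  -- hence the image of H lies in a conjugate of M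
  have hall : ∀ α ∈ extClosure F P, ∃ hα : α ∈ F.autGroup P,
      x⁻¹ * QuotientGroup.mk' ((Inn P).subgroupOf (F.autGroup P)) ⟨α, hα⟩ * x ∈ M := by
    intro α hα
    unfold extClosure at hα
    induction hα using Subgroup.closure_induction with
    | mem α hα => exact hgen α hα
    | one =>
      refine ⟨Subgroup.one_mem _, ?_⟩
      have : (⟨1, Subgroup.one_mem _⟩ : F.autGroup P) = 1 := rfl
      rw [this, map_one]
      simp
    | mul α β _ _ hα hβ =>
      obtain ⟨hαA, hαM⟩ := hα
      obtain ⟨hβA, hβM⟩ := hβ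
      refine ⟨Subgroup.mul_mem _ hαA hβA, ?_⟩
      have : (⟨α * β, Subgroup.mul_mem _ hαA hβA⟩ : F.autGroup P) = ⟨α, hαA⟩ * ⟨β, hβA⟩ := rfl
      rw [this, map_mul]
      have := M.mul_mem hαM hβM
      convert this using 1
      group
    | inv α _ hα =>
      obtain ⟨hαA, hαM⟩ := hα
      refine ⟨Subgroup.inv_mem _ hαA, ?_⟩
      have : (⟨α⁻¹, Subgroup.inv_mem _ hαA⟩ : F.autGroup P) = (⟨α, hαA⟩ : F.autGroup P)⁻¹ := rfl
      rw [this, map_inv]
      have := M.inv_mem hαM
      convert this using 1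
      group
  intro heq
  apply hSPE.2.1
  rw [eq_top_iff]
  intro y _
  obtain ⟨a, ha⟩ := QuotientGroup.mk'_surjective ((Inn P).subgroupOf (F.autGroup P)) (x * y * x⁻¹)
  have haH : (a : MulAut P) ∈ extClosure F P := by rw [heq]; exact a.2
  obtain ⟨_, h2⟩ := hall a haH
  have h3 : (⟨(a : MulAut P), a.2⟩ : F.autGroup P) = a := rfl
  rw [h3, ha] at h2
  have e : x⁻¹ * (x * y * x⁻¹) * x = y := by group
  rwa [e] at h2


end Converse

end Cfsg.Agent.Lib.Helper84_FusionEssential
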