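import Cfsg.Agent.Lib.Helper85_Fusion
import Cfsg.Agent.Lib.Helper87_Alperin
import Cfsg.Agent.S5080
import Cfsg.Agent.S5082

/-!
Criteria for a subgroup to be normal in a saturated fusion system (helper85):
* `isNormal_of_le_essential`: a strongly closed subgroup contained in every essential subgroup is normal;
* `le_of_centric_radical`: a subgroup `Q ⊴ S` lies in a centric radical subgroup `U` as soon as
  `N_Q(U)` induces on `U` automorphisms lying in a normal `p`-subgroup of `Aut_F(U)`.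
-/

set_option autoImplicit false

namespace Cfsg.Agent.Lib.Helper85_FusionNormal

open Cfsg Cfsg.FusionSystem Cfsg.Agent.Lib.Helper85_Fusion

universe u

variable {Ω : Type u} [Group Ω] {S : Subgroup Ω}

/-- A fusion system over `S₁`, viewed over an equal subgroup `S₂`; the map sets are unchanged. -/
def castSystem {S₁ S₂ : Subgroup Ω} (h : S₁ = S₂) (E : FusionSystem S₁) : FusionSystem S₂ where
  Hom := E.Hom
  le_of_mem hφ := h ▸ E.le_of_mem hφ
  injective_of_mem := E.injective_of_mem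
  conj_mem hP hg := E.conj_mem (h ▸ hP) (h ▸ hg)
  comp_mem := E.comp_mem
  inv_mem := E.inv_mem

/-- A strongly closed subgroup is normalized by `S`. -/
theorem sc_conj_mem {F : FusionSystem S} {Q : Subgroup Ω} (hQ : F.StronglyClosed Q)
    {s : Ω} (hs : s ∈ S) {x : Ω} (hx : x ∈ Q) : s * x * s⁻¹ ∈ Q :=
  hQ.2 Q le_rfl _ (F.conj_mem hQ.1 hs) ⟨x, hx⟩

theorem sc_le_normalizer {F : FusionSystem S} {Q : Subgroup Ω} (hQ : F.StronglyClosed Q) :
    S ≤ Subgroup.normalizer (Q : Set Ω) := by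
  intro s hs
  rw [Subgroup.mem_normalizer_iff]
  intro x
  constructor
  · exact fun hx => sc_conj_mem hQ hs hx
  · intro hx
    have := sc_conj_mem hQ (S.inv_mem hs) hx
    have e : s⁻¹ * (s * x * s⁻¹) * s⁻¹⁻¹ = x := by group
    rwa [e] at this

/-- A map of the system defined on a subgroup `P` carries `P ⊓ Q` into `Q` when `Q` is strongly closed. -/
theorem sc_apply_mem {F : FusionSystem S} {Q : Subgroup Ω} (hQ : F.StronglyClosed Q)
    {P : Subgroup Ω} {φ : P →* Ω} (hφ : φ ∈ F.Hom P) (x : P) (hx : (x : Ω) ∈ Q) : φ x ∈ Q := by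
  have h1 := restrict_mem F (inf_le_left : P ⊓ Q ≤ P) hφ
  exact hQ.2 (P ⊓ Q) inf_le_right _ h1 ⟨x, ⟨x.2, hx⟩⟩

/-- An automorphism in `Aut_F(P)` maps `P ⊓ Q` into `Q` when `Q` is strongly closed. -/
theorem sc_aut_apply_mem {F : FusionSystem S} {Q : Subgroup Ω} (hQ : F.StronglyClosed Q)
    {P : Subgroup Ω} (hP : P ≤ S) {α : MulAut P} (hα : α ∈ F.autGroup P) (x : P) (hx : (x : Ω) ∈ Q) :
    ((α x : P) : Ω) ∈ Q :=
  sc_apply_mem hQ ((mem_autGroup_iff F hP α).1 hα) x hx

theorem sc_aut_apply_mem_iff {F : FusionSystem S} {Q : Subgroup Ω} (hQ : F.StronglyClosed Q)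
    {P : Subgroup Ω} (hP : P ≤ S) {α : MulAut P} (hα : α ∈ F.autGroup P) (x : P) :
    ((α x : P) : Ω) ∈ Q ↔ (x : Ω) ∈ Q := by
  constructor
  · intro h
    have := sc_aut_apply_mem hQ hP ((F.autGroup P).inv_mem hα) (α x) h
    rwa [MulAut.inv_apply_self] at this
  · exact sc_aut_apply_mem hQ hP hα x

/-- **Criterion**: in a saturated fusion system, a strongly closed subgroup contained in every
essential subgroup is normal in the system. -/
theorem isNormal_of_le_essential [Finite S] {p : ℕ} [Fact p.Prime] (hS : IsPGroup p S)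
    (F : FusionSystem S) (hF : F.IsSaturated p) {Q : Subgroup Ω} (hQ : F.StronglyClosed Q)
    (hess : ∀ U : Subgroup Ω, F.IsEssential p U → Q ≤ U) : F.IsNormal Q := by
  have hN : normalizerIn S Q = S := inf_eq_left.2 (sc_le_normalizer hQ)
  let E : FusionSystem S := castSystem hN (normalizerSystem F Q hQ.1)
  have hEhom : ∀ P : Subgroup Ω, E.Hom P = F.normalizerHom Q P := fun _ => rfl
  have key : F ≤ E := by
    refine Cfsg.Agent.S5082.result p hS F hF E ?_
    intro P hP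
    have hQP : Q ≤ P := by
      rcases hP with rfl | hP
      · exact hQ.1
      · exact hess P hP
    have hPS : P ≤ S := by
      rcases hP with rfl | hP
      · exact le_rfl
      · exact hP.1.1
    intro α hα
    apply Subgroup.subset_closure
    show P.subtype.comp α.toMonoidHom ∈ E.Hom P
    rw [hEhom]
    have hα' := (mem_autGroup_iff F hPS α).1 hα
    have hle : P ⊔ Q ≤ P := sup_le le_rfl hQP
    refine ⟨hα', ?_, ?_, (P.subtype.comp α.toMonoidHom).comp (Subgroup.inclusion hle),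
      restrict_mem F hle hα', fun x => rfl, ?_⟩
    · rw [hN]; exact hPS
    · intro x; rw [hN]; exact hPS (α x).2
    · ext y
      rw [mem_map_subgroupOf]
      constructor
      · rintro ⟨z, hz, hD, rfl⟩
        exact sc_aut_apply_mem hQ hPS hα ⟨z, hle hD⟩ hz
      · intro hy
        have hyP : y ∈ P := hQP hy
        have h1 : ((α⁻¹ ⟨y, hyP⟩ : P) : Ω) ∈ Q :=
          sc_aut_apply_mem hQ hPS ((F.autGroup P).inv_mem hα) ⟨y, hyP⟩ hy
        refine ⟨((α⁻¹ ⟨y, hyP⟩ : P) : Ω), h1, (le_sup_right : Q ≤ P ⊔ Q) h1, ?_⟩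
        show ((α (Subgroup.inclusion hle ⟨((α⁻¹ ⟨y, hyP⟩ : P) : Ω), _⟩) : P) : Ω) = y
        have h2 : (Subgroup.inclusion hle ⟨((α⁻¹ ⟨y, hyP⟩ : P) : Ω), (le_sup_right : Q ≤ P ⊔ Q) h1⟩) =
            α⁻¹ ⟨y, hyP⟩ := Subtype.ext rfl
        rw [h2, MulAut.apply_inv_self]
  refine ⟨hQ.1, fun P φ hφ => ?_⟩
  have h1 : φ ∈ E.Hom P := key P hφ
  rw [hEhom] at h1
  exact h1.2.2.2

/-- A normal `p`-subgroup of `Aut_F(U)`, for `U` radical, consists of inner automorphisms. -/
theorem le_inn_of_radical {p : ℕ} (F : FusionSystem S) {U : Subgroup Ω} (hU : F.IsRadical p U)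
    (K : Subgroup (MulAut U)) (hKA : K ≤ F.autGroup U)
    (hKn : ∀ β ∈ F.autGroup U, ∀ α ∈ K, β * α * β⁻¹ ∈ K) (hKp : IsPGroup p K) :
    K ≤ Inn U := by
  have hnormal : (K.subgroupOf (F.autGroup U)).Normal := by
    refine ⟨fun α hα β => ?_⟩
    rw [Subgroup.mem_subgroupOf] at hα ⊢
    exact hKn β β.2 α hα
  have hp : IsPGroup p (K.subgroupOf (F.autGroup U)) :=
    hKp.comap_of_injective _ (Subgroup.subtype_injective _)
  have hle : K.subgroupOf (F.autGroup U) ≤ pCore p (F.autGroup U) := le_sSup ⟨hnormal, hp⟩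
  intro α hα
  rw [← hU.2]
  exact ⟨⟨α, hKA hα⟩, hle (Subgroup.mem_subgroupOf.2 hα), rfl⟩

/-- If `Q` is normalized by `S`, `U` is centric and radical, and `N_Q(U)` induces on `U` automorphisms lying
in a subgroup `K` of `Aut_F(U)` that is a `p`-group normalized by `Aut_F(U)`, then `Q ≤ U`. -/
theorem le_of_centric_radical [Finite S] {p : ℕ} [Fact p.Prime] (hS : IsPGroup p S)
    (F : FusionSystem S) {U Q : Subgroup Ω} (hUc : F.IsCentric U) (hUr : F.IsRadical p U)
    (hQS : Q ≤ S) (hQn : ∀ s ∈ S, ∀ x ∈ Q, s * x * s⁻¹ ∈ Q)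
    (K : Subgroup (MulAut U)) (hKA : K ≤ F.autGroup U)
    (hKn : ∀ β ∈ F.autGroup U, ∀ α ∈ K, β * α * β⁻¹ ∈ K) (hKp : IsPGroup p K)
    (hK : ∀ (r : Ω) (_ : r ∈ Q) (hr : r ∈ Subgroup.normalizer (U : Set Ω)),
      U.normalizerMonoidHom ⟨r, hr⟩ ∈ K) : Q ≤ U := by
  have hUS : U ≤ S := hUc.1
  have hKI := le_inn_of_radical F hUr K hKA hKn hKp
  -- elements of `N_Q(U)` lie in `U`
  have hNQ : ∀ r ∈ Q, r ∈ Subgroup.normalizer (U : Set Ω) → r ∈ U := by
    intro r hrQ hrN
    obtain ⟨u, hu⟩ := hKI (hK r hrQ hrN)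
    have hcent : (u : Ω)⁻¹ * r ∈ centralizerIn S U := by
      refine ⟨S.mul_mem (S.inv_mem (hUS u.2)) (hQS hrQ), ?_⟩
      show (u : Ω)⁻¹ * r ∈ Subgroup.centralizer (U : Set Ω)
      rw [Subgroup.mem_centralizer_iff]
      intro x hx
      have h1 : ((MulAut.conj u) ⟨x, hx⟩ : U) = U.normalizerMonoidHom ⟨r, hrN⟩ ⟨x, hx⟩ := by rw [hu]
      have h2 : (u : Ω) * x * (u : Ω)⁻¹ = r * x * r⁻¹ := congrArg Subtype.val h1
      have e : (u : Ω)⁻¹ * r * x = (u : Ω)⁻¹ * (r * x * r⁻¹) * r := by group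
      rw [e, ← h2]
      group
    have h3 : (u : Ω)⁻¹ * r ∈ U := hUc.2 U (isConj_refl F hUS) hcent
    have e : r = (u : Ω) * ((u : Ω)⁻¹ * r) := by group
    rw [e]
    exact U.mul_mem u.2 h3
  by_contra hne
  -- `V = U Q` properly contains `U`
  set V : Subgroup Ω := U ⊔ Q with hV
  have hVS : V ≤ S := sup_le hUS hQS
  have hfinV : Finite V := Finite.of_injective _ (Subgroup.inclusion_injective hVS)
  have hVp : IsPGroup p V := hS.to_le hVS
  have hUV : U ≤ V := le_sup_left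
  have hUneV : U ≠ V := by
    intro h
    apply hne
    rw [h]
    exact le_sup_right
  have hlt := Cfsg.Agent.Lib.Helper87_Alperin.lt_normalizerIn (S := V) hVp hUV hUneV
  obtain ⟨y, hyN, hyU⟩ := SetLike.exists_of_lt hlt
  have hyV : y ∈ V := hyN.1
  have hUnormQ : U ≤ Subgroup.normalizer (Q : Set Ω) := by
    intro s hs
    rw [Subgroup.mem_normalizer_iff]
    intro x
    constructor
    · exact hQn s (hUS hs) x
    · intro hx
      have := hQn s⁻¹ (S.inv_mem (hUS hs)) _ hx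
      have e : s⁻¹ * (s * x * s⁻¹) * s⁻¹⁻¹ = x := by group
      rwa [e] at this
  have hyV' : y ∈ ((U ⊔ Q : Subgroup Ω) : Set Ω) := hyV
  rw [Subgroup.coe_mul_of_left_le_normalizer_right U Q hUnormQ] at hyV'
  obtain ⟨u, hu, r, hr, rfl⟩ := hyV'
  apply hyU
  refine U.mul_mem hu (hNQ r hr ?_)
  have e : r = u⁻¹ * (u * r) := by group
  rw [e]
  exact Subgroup.mul_mem _ (Subgroup.inv_mem _ (Subgroup.le_normalizer hu)) hyN.2


/-- A subgroup normal in the system is strongly closed in it. -/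
theorem stronglyClosed_of_isNormal {F : FusionSystem S} {R : Subgroup Ω} (hR : F.IsNormal R) :
    F.StronglyClosed R := by
  refine ⟨hR.1, fun P hP φ hφ x => ?_⟩
  obtain ⟨ψ, -, hext, himg⟩ := hR.2 P φ hφ
  rw [← hext x]
  exact apply_mem_of_map_eq ψ himg _ (hP x.2) _

/-- If `R` is normal in the system, every map of the system defined on a subgroup of `R` is the
restriction of an element of `Aut_F(R)`. -/
theorem exists_aut_of_isNormal [Finite S] {F : FusionSystem S} {R : Subgroup Ω} (hR : F.IsNormal R)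
    {P : Subgroup Ω} (hPR : P ≤ R) {φ : P →* Ω} (hφ : φ ∈ F.Hom P) :
    ∃ α ∈ F.autGroup R, ∀ x : P, ((α (Subgroup.inclusion hPR x) : R) : Ω) = φ x := by
  obtain ⟨ψ, hψ, hext, himg⟩ := hR.2 P φ hφ
  have hRS : R ≤ S := hR.1
  have hfinR : Finite R := Finite.of_injective _ (Subgroup.inclusion_injective hRS)
  have hle : R ≤ P ⊔ R := le_sup_right
  set ψ' : R →* Ω := ψ.comp (Subgroup.inclusion hle) with hψ'
  have hψ'mem : ψ' ∈ F.Hom R := restrict_mem F hle hψ
  have hval : ∀ x : R, ψ' x ∈ R := fun x => apply_mem_of_map_eq ψ himg _ x.2 _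
  have hinj : Function.Injective (ψ'.codRestrict R hval) := by
    intro x y hxy
    apply F.injective_of_mem hψ'mem
    exact congrArg Subtype.val hxy
  have hbij : Function.Bijective (ψ'.codRestrict R hval) :=
    ⟨hinj, Finite.surjective_of_injective hinj⟩
  let α : MulAut R := MulEquiv.ofBijective (ψ'.codRestrict R hval) hbij
  refine ⟨α, ?_, fun x => ?_⟩
  · rw [mem_autGroup_iff F hRS]
    exact mem_of_eq F hψ'mem (fun x => rfl)
  · show ψ (Subgroup.inclusion hle (Subgroup.inclusion hPR x)) = φ x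
    rw [← hext x]
    rfl

end Cfsg.Agent.Lib.Helper85_FusionNormal
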