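import Cfsg.Agent.Lib.Helper88_Centric2
import Cfsg.Agent.S5106

/-!
Fusion systems (helper88): transport of maps and of normal subgroups of an invariant subsystem `E` (over `T`) of `F`
along elements of `Aut_F(T)`.
-/

set_option autoImplicit false

namespace Cfsg.Agent.Lib.Helper88_Invariant

open Cfsg Cfsg.FusionSystem Cfsg.Agent.Lib.Helper87_Alperin Cfsg.Agent.Lib.Helper88_Centric
  Cfsg.Agent.Lib.Helper88_Centric2

variable {Ω : Type*} [Group Ω] {S : Subgroup Ω}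

/-- Transport of a map of an invariant subsystem `E` along `α ∈ Aut_F(T)`: `α f α⁻¹` is a map of `E` on `α(P)`. -/
theorem isMapOn_transport {F : FusionSystem S} {T : Subgroup Ω} {E : FusionSystem T}
    (hEF : E.IsInvariantIn F) {α : MulAut T} (hα : α ∈ F.autGroup T) {P P' : Subgroup Ω} {f : Ω → Ω}
    (hf : IsMapOn E P f) (hP' : IsImage P (extFun α) P') :
    IsMapOn E P' (extFun α ∘ f ∘ extFun α⁻¹) := by
  obtain ⟨φ, hφ, hφf⟩ := hf
  have hPT : P ≤ T := hom_le E hφ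
  obtain ⟨χ, hχ, hχα⟩ := hEF.2.2.1 P hPT φ hφ α hα
  have hP₂ : (P.subgroupOf T).map (T.subtype.comp α.toMonoidHom) = P' := by
    ext y
    rw [hP' y]
    constructor
    · rintro ⟨z, hz, rfl⟩
      exact ⟨z, hz, extFun_coe α z⟩
    · rintro ⟨x, hx, rfl⟩
      exact ⟨⟨x, hPT hx⟩, hx, (extFun_apply α (hPT hx)).symm⟩
  subst hP₂
  refine ⟨χ, hχ, ?_⟩
  rintro ⟨y, hy⟩
  obtain ⟨z, hz, rfl⟩ := hy
  have hφT : φ ⟨z, hz⟩ ∈ T := hom_mem E hφ _
  have h1 := hχα ⟨z, hz⟩ hφT ⟨z, hz, rfl⟩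
  refine h1.trans ?_
  show ((α ⟨φ ⟨z, hz⟩, hφT⟩ : T) : Ω) = extFun α (f (extFun α⁻¹ ((α z : T) : Ω)))
  rw [extFun_coe, MulAut.inv_apply_self, ← hφf ⟨z, hz⟩, extFun_apply α hφT]

theorem isMapOn_extFun {F : FusionSystem S} {T : Subgroup Ω} (hTS : T ≤ S) {α : MulAut T}
    (hα : α ∈ F.autGroup T) : IsMapOn F T (extFun α) :=
  (mem_autGroup_iff F hTS α).1 hα

/-- Transport of a normal subgroup of a saturated invariant subsystem `E` along `α ∈ Aut_F(T)`. -/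
theorem isNormal_transport [Finite S] {p : ℕ} [Fact p.Prime] (hS : IsPGroup p S) {F : FusionSystem S}
    {T : Subgroup Ω} {E : FusionSystem T} (hEsat : E.IsSaturated p) (hTS : T ≤ S)
    (hEF : E.IsInvariantIn F) {α : MulAut T} (hα : α ∈ F.autGroup T) {R R' : Subgroup Ω}
    (hR : E.IsNormal R) (hR' : IsImage R (extFun α) R') : E.IsNormal R' := by
  have hfinT : Finite T := Finite.of_injective (Subgroup.inclusion hTS) (Subgroup.inclusion_injective hTS)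
  have hTp : IsPGroup p T := hS.to_le hTS
  have hRT : R ≤ T := hR.1
  have hR'T : R' ≤ T := by
    intro y hy
    obtain ⟨x, hx, rfl⟩ := (hR' y).1 hy
    exact extFun_mem α (hRT hx)
  have hαi : α⁻¹ ∈ F.autGroup T := (F.autGroup T).inv_mem hα
  have hinvR : ∀ y ∈ R', extFun α⁻¹ y ∈ R := by
    intro y hy
    obtain ⟨x, hx, rfl⟩ := (hR' y).1 hy
    rw [extFun_inv_apply α (hRT hx)]
    exact hx
  rw [Cfsg.Agent.S5106.result p hTp E hEsat R' hR'T]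
  intro P' hP'R' φ' hφ'
  have hP'T : P' ≤ T := hP'R'.trans hR'T
  obtain ⟨P, hP, -⟩ := exists_isImage ((isMapOn_extFun hTS hαi).mono hP'T)
  have h1 := isMapOn_transport hEF hαi (isMapOn_extHom E hφ') hP
  rw [inv_inv] at h1
  have hPR : P ≤ R := by
    intro x hx
    obtain ⟨y, hy, rfl⟩ := (hP x).1 hx
    exact hinvR y (hP'R' hy)
  obtain ⟨φ, hφ, hφf⟩ := h1
  obtain ⟨β, hβ, hβφ⟩ := Cfsg.Agent.Lib.Helper85_FusionNormal.exists_aut_of_isNormal hR hPR hφ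
  have hβm : IsMapOn E R (extFun β) := (mem_autGroup_iff E hRT β).1 hβ
  have h2 := isMapOn_transport hEF hα hβm hR'
  have h2R' : ∀ y ∈ R', (extFun α ∘ extFun β ∘ extFun α⁻¹) y ∈ R' := fun y hy =>
    hR'.mem (extFun_mem β (hinvR y hy))
  obtain ⟨β', hβ', hβ'g⟩ := exists_aut_of_isMapOn h2 h2R'
  refine ⟨β', hβ', fun x => ?_⟩
  have hxP : extFun α⁻¹ (x : Ω) ∈ P := hP.mem x.2
  have hxT : (x : Ω) ∈ T := hP'T x.2
  have h3 : ((β ⟨extFun α⁻¹ (x : Ω), hPR hxP⟩ : R) : Ω) = φ ⟨extFun α⁻¹ (x : Ω), hxP⟩ := hβφ ⟨_, hxP⟩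
  have h4 : φ' x ∈ T := hom_mem E hφ' x
  show ((β' ⟨(x : Ω), hP'R' x.2⟩ : R') : Ω) = φ' x
  rw [hβ'g]
  show extFun α (extFun β (extFun α⁻¹ (x : Ω))) = φ' x
  rw [extFun_apply β (hPR hxP), h3, hφf]
  show extFun α (extFun α⁻¹ (extHom φ' (extFun α (extFun α⁻¹ (x : Ω))))) = φ' x
  rw [extFun_apply_inv α hxT, extHom_coe, extFun_apply_inv α h4]

end Cfsg.Agent.Lib.Helper88_Invariant
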