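import Cfsg.Agent.Lib.Helper85_Transport
import Cfsg.Agent.Lib.Helper88_Centric
import Cfsg.Agent.Lib.Helper88_Invariant

/-!
Transport of subsystems along an isomorphism `e : S ≃* S'` (helper85), continued: fusion systems from
function-level predicates, pushed-forward subsystems, transport of subsystem relations, strong closure,
invariance, (weak) normality and subnormality.
-/

set_option autoImplicit false
set_option linter.style.haveILetI false

namespace Cfsg.Agent.Lib.Helper85_Transport2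

open Cfsg Cfsg.FusionSystem Cfsg.Agent.Lib Cfsg.Agent.Lib.Helper85_Transport
open Cfsg.Agent.Lib.Helper87_Alperin (IsMapOn extFun extHom)
open Cfsg.Agent.Lib.Helper88_Centric (IsImage)

/-! ### Fusion systems from function-level predicates -/

section OfPred

variable {Ω : Type*} [Group Ω]

/-- A fusion system over `S` given by a predicate on (subgroup, function) pairs. -/
def ofPred (S : Subgroup Ω) (M : Subgroup Ω → (Ω → Ω) → Prop)
    (hle : ∀ {P : Subgroup Ω} {f : Ω → Ω}, M P f → P ≤ S ∧ ∀ x ∈ P, f x ∈ S)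
    (hinj : ∀ {P : Subgroup Ω} {f : Ω → Ω}, M P f → ∀ x ∈ P, ∀ y ∈ P, f x = f y → x = y)
    (hcongr : ∀ {P : Subgroup Ω} {f g : Ω → Ω}, M P f → (∀ x ∈ P, f x = g x) → M P g)
    (hconj : ∀ {P : Subgroup Ω} {a : Ω}, P ≤ S → a ∈ S → M P (fun x => a * x * a⁻¹))
    (hcomp : ∀ {P Q : Subgroup Ω} {f g : Ω → Ω}, M P f → M Q g → (∀ x ∈ P, f x ∈ Q) → M P (g ∘ f))
    (hinv : ∀ {P : Subgroup Ω} {f : Ω → Ω} (φ : P →* Ω), M P f → (∀ x : P, φ x = f x) →
      ∃ g : Ω → Ω, M φ.range g ∧ ∀ x ∈ P, g (f x) = x) : FusionSystem S where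
  Hom P := {φ | M P (extHom φ)}
  le_of_mem {P φ} h := ⟨(hle h).1, fun x => by
    have := (hle h).2 x x.2
    rwa [Helper87_Alperin.extHom_coe] at this⟩
  injective_of_mem {P φ} h := by
    intro x y hxy
    apply Subtype.ext
    apply hinj h x x.2 y y.2
    rw [Helper87_Alperin.extHom_coe, Helper87_Alperin.extHom_coe, hxy]
  conj_mem {P g} hP hg := by
    refine hcongr (hconj hP hg) (fun x hx => ?_)
    rw [Helper87_Alperin.extHom_apply _ hx]
    rfl
  comp_mem {P Q φ ψ} hφ hψ h := by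
    refine hcongr (hcomp hφ hψ (fun x hx => ?_)) (fun x hx => ?_)
    · rw [Helper87_Alperin.extHom_apply _ hx]
      exact h ⟨x, hx⟩
    · rw [Helper87_Alperin.extHom_apply _ hx, Function.comp_apply, Helper87_Alperin.extHom_apply _ hx,
        Helper87_Alperin.extHom_apply _ (h ⟨x, hx⟩)]
      rfl
  inv_mem {P φ} hφ := by
    obtain ⟨g, hg, hgf⟩ := hinv φ hφ (fun x => (Helper87_Alperin.extHom_coe φ x).symm)
    have hmul : ∀ x ∈ φ.range, ∀ y ∈ φ.range, g (x * y) = g x * g y := by
      rintro _ ⟨x, rfl⟩ _ ⟨y, rfl⟩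
      rw [← map_mul, ← Helper87_Alperin.extHom_coe φ, ← Helper87_Alperin.extHom_coe φ x,
        ← Helper87_Alperin.extHom_coe φ y, hgf _ (x * y).2, hgf _ x.2, hgf _ y.2]
      rfl
    refine ⟨homOfMulOn φ.range g hmul, ?_, fun x => ?_⟩
    · refine hcongr hg (fun y hy => ?_)
      rw [Helper87_Alperin.extHom_apply _ hy]
      rfl
    · rw [homOfMulOn_apply]
      show g (φ x) = x
      rw [← Helper87_Alperin.extHom_coe φ x]
      exact hgf _ x.2

theorem isMapOn_of_hom_iff {S : Subgroup Ω} (F : FusionSystem S) {M : Subgroup Ω → (Ω → Ω) → Prop}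
    (hF : ∀ (P : Subgroup Ω) (φ : P →* Ω), φ ∈ F.Hom P ↔ M P (extHom φ))
    (hcongr : ∀ {P : Subgroup Ω} {f g : Ω → Ω}, M P f → (∀ x ∈ P, f x = g x) → M P g)
    (hmul : ∀ {P : Subgroup Ω} {f : Ω → Ω}, M P f → ∀ x ∈ P, ∀ y ∈ P, f (x * y) = f x * f y)
    {P : Subgroup Ω} {f : Ω → Ω} :
    IsMapOn F P f ↔ M P f := by
  constructor
  · rintro ⟨φ, hφ, hφf⟩
    refine hcongr ((hF P φ).1 hφ) (fun x hx => ?_)
    rw [Helper87_Alperin.extHom_apply _ hx]
    exact hφf ⟨x, hx⟩
  · intro h
    refine ⟨homOfMulOn P f (hmul h), (hF P _).2 ?_, fun x => rfl⟩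
    refine hcongr h (fun x hx => ?_)
    rw [Helper87_Alperin.extHom_apply _ hx]
    rfl

end OfPred


/-! ### Corresponding subsystems -/

section Sub

variable {Ω Ω' : Type*} [Group Ω] [Group Ω'] {S : Subgroup Ω} {S' : Subgroup Ω'}

/-- `E` over `T ≤ S` and `E'` over `T' = e(T)` correspond under `e : S ≃* S'`. -/
structure SubCorr (e : S ≃* S') {T : Subgroup Ω} (E : FusionSystem T) {T' : Subgroup Ω'}
    (E' : FusionSystem T') : Prop where
  le : T ≤ S
  eq : T' = push e T
  fwd : ∀ (P : Subgroup Ω) (f : Ω → Ω), IsMapOn E P f →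
    IsMapOn E' (push e P) (ext e ∘ f ∘ ext e.symm)
  bwd : ∀ (P' : Subgroup Ω') (f' : Ω' → Ω'), IsMapOn E' P' f' →
    IsMapOn E (push e.symm P') (ext e.symm ∘ f' ∘ ext e)

variable {e : S ≃* S'} {T : Subgroup Ω} {E : FusionSystem T} {T' : Subgroup Ω'} {E' : FusionSystem T'}

theorem SubCorr.le' (h : SubCorr e E E') : T' ≤ S' := by
  rw [h.eq]
  exact push_le e T

theorem SubCorr.symm (h : SubCorr e E E') : SubCorr e.symm E' E where
  le := h.le'
  eq := by rw [h.eq, push_symm_push e h.le]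
  fwd := h.bwd
  bwd := fun P f hf => by simpa only [MulEquiv.symm_symm] using h.fwd P f hf

theorem subCorr_of_corr {F : FusionSystem S} {F' : FusionSystem S'} (h : Corr e F F') : SubCorr e F F' where
  le := le_rfl
  eq := (push_self e).symm
  fwd := h.fwd
  bwd := h.bwd

theorem push_symm_le {P' : Subgroup Ω'} (hT : T ≤ S) (hP' : P' ≤ push e T) : push e.symm P' ≤ T := by
  have := push_mono e.symm hP'
  rwa [push_symm_push e hT] at this

/-- The predicate defining the pushed-forward system. -/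
def PushPred (e : S ≃* S') {T : Subgroup Ω} (E : FusionSystem T) (P' : Subgroup Ω') (f' : Ω' → Ω') : Prop :=
  P' ≤ push e T ∧ (∀ y ∈ P', f' y ∈ push e T) ∧ IsMapOn E (push e.symm P') (ext e.symm ∘ f' ∘ ext e)

theorem PushPred.pull_apply {P' : Subgroup Ω'} {f' : Ω' → Ω'} (h : PushPred e E P' f') {y : Ω'} (hy : y ∈ P') :
    (ext e.symm ∘ f' ∘ ext e) (ext e.symm y) = ext e.symm (f' y) := by
  simp only [Function.comp_apply]
  rw [ext_ext_symm e (push_le e T (h.1 hy))]

theorem PushPred.mul {P' : Subgroup Ω'} {f' : Ω' → Ω'} (h : PushPred e E P' f') :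
    ∀ x ∈ P', ∀ y ∈ P', f' (x * y) = f' x * f' y := by
  intro x hx y hy
  have hxS : x ∈ S' := push_le e T (h.1 hx)
  have hyS : y ∈ S' := push_le e T (h.1 hy)
  have hx0 : ext e.symm x ∈ push e.symm P' := ext_mem_push e.symm hx hxS
  have hy0 : ext e.symm y ∈ push e.symm P' := ext_mem_push e.symm hy hyS
  have h1 := h.2.2.map_mul hx0 hy0
  rw [← ext_mul e.symm hxS hyS, h.pull_apply (P'.mul_mem hx hy), h.pull_apply hx, h.pull_apply hy,
    ← ext_mul e.symm (push_le e T (h.2.1 x hx)) (push_le e T (h.2.1 y hy))] at h1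
  exact ext_injOn e.symm (push_le e T (h.2.1 _ (P'.mul_mem hx hy)))
    (S'.mul_mem (push_le e T (h.2.1 x hx)) (push_le e T (h.2.1 y hy))) h1

/-- The system over `e(T)` corresponding to `E`. -/
def pushSub (e : S ≃* S') {T : Subgroup Ω} (hT : T ≤ S) (E : FusionSystem T) : FusionSystem (push e T) :=
  ofPred (push e T) (PushPred e E)
    (fun {P' f'} h => ⟨h.1, h.2.1⟩)
    (fun {P' f'} h x hx y hy hxy => by
      have hxS : x ∈ S' := push_le e T (h.1 hx)
      have hyS : y ∈ S' := push_le e T (h.1 hy)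
      have hx0 : ext e.symm x ∈ push e.symm P' := ext_mem_push e.symm hx hxS
      have hy0 : ext e.symm y ∈ push e.symm P' := ext_mem_push e.symm hy hyS
      have h1 : (ext e.symm ∘ f' ∘ ext e) (ext e.symm x) = (ext e.symm ∘ f' ∘ ext e) (ext e.symm y) := by
        rw [h.pull_apply hx, h.pull_apply hy, hxy]
      exact ext_injOn e.symm hxS hyS (h.2.2.injOn hx0 hy0 h1))
    (fun {P' f' g'} h hfg => ⟨h.1, fun y hy => by rw [← hfg y hy]; exact h.2.1 y hy,
      h.2.2.congr (fun x hx => by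
        simp only [Function.comp_apply]
        rw [hfg _ (ext_mem_of_mem_push_symm e hx)])⟩)
    (fun {P' a} hP' ha => by
      refine ⟨hP', fun y hy => (push e T).mul_mem ((push e T).mul_mem ha (hP' hy)) ((push e T).inv_mem ha), ?_⟩
      have hle : push e.symm P' ≤ T := push_symm_le hT hP'
      refine (IsMapOn.conj E hle (ext_symm_mem e ha)).congr (fun x hx => ?_)
      simp only [Function.comp_apply]
      rw [ext_conj e.symm (push_le e T ha) (ext_mem e x), ext_symm_ext e (hT (hle hx))])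
    (fun {P' Q' f' g'} hf hg hfg => by
      refine ⟨hf.1, fun y hy => hg.2.1 _ (hfg y hy), ?_⟩
      have h1 : ∀ x ∈ push e.symm P', (ext e.symm ∘ f' ∘ ext e) x ∈ push e.symm Q' := by
        intro x hx
        have hx' : ext e x ∈ P' := ext_mem_of_mem_push_symm e hx
        exact ext_mem_push e.symm (hfg _ hx') (push_le e T (hf.2.1 _ hx'))
      refine (hf.2.2.comp hg.2.2 h1).congr (fun x hx => ?_)
      have hx' : ext e x ∈ P' := ext_mem_of_mem_push_symm e hx
      simp only [Function.comp_apply]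
      rw [ext_ext_symm e (push_le e T (hf.2.1 _ hx'))])
    (fun {P' f'} φ' h hφ' => by
      have hQ : ∀ z, z ∈ push e.symm φ'.range ↔ ∃ x ∈ push e.symm P', (ext e.symm ∘ f' ∘ ext e) x = z := by
        intro z
        rw [mem_push]
        constructor
        · rintro ⟨_, ⟨y, rfl⟩, hyS, rfl⟩
          refine ⟨ext e.symm (y : Ω'), ext_mem_push e.symm y.2 (push_le e T (h.1 y.2)), ?_⟩
          rw [h.pull_apply y.2, hφ']
        · rintro ⟨x, hx, rfl⟩
          have hx' : ext e x ∈ P' := ext_mem_of_mem_push_symm e hx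
          refine ⟨f' (ext e x), ⟨⟨_, hx'⟩, hφ' _⟩, push_le e T (h.2.1 _ hx'), rfl⟩
      obtain ⟨g, hg, hgf, hgP, -⟩ := h.2.2.inv hQ
      have hrange : φ'.range ≤ push e T := by
        rintro _ ⟨y, rfl⟩
        rw [hφ']
        exact h.2.1 _ y.2
      have hPT : push e.symm P' ≤ T := push_symm_le hT h.1
      refine ⟨ext e ∘ g ∘ ext e.symm, ⟨hrange, fun y hy => ?_, ?_⟩, fun x hx => ?_⟩
      · simp only [Function.comp_apply]
        have h1 : ext e.symm y ∈ push e.symm φ'.range := ext_mem_push e.symm hy (push_le e T (hrange hy))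
        exact ext_mem_push e (hPT (hgP _ h1)) (hT (hPT (hgP _ h1)))
      · refine hg.congr (fun z hz => ?_)
        have hzS : z ∈ S := push_le e.symm _ hz
        simp only [Function.comp_apply]
        rw [ext_symm_ext e hzS, ext_symm_ext e (hT (hPT (hgP _ hz)))]
      · simp only [Function.comp_apply]
        have hx0 : ext e.symm x ∈ push e.symm P' := ext_mem_push e.symm hx (push_le e T (h.1 hx))
        rw [← h.pull_apply hx, hgf _ hx0, ext_ext_symm e (push_le e T (h.1 hx))])

theorem isMapOn_pushSub (hT : T ≤ S) {P' : Subgroup Ω'} {f' : Ω' → Ω'} :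
    IsMapOn (pushSub e hT E) P' f' ↔ PushPred e E P' f' := by
  refine isMapOn_of_hom_iff (pushSub e hT E) (M := PushPred e E) (fun _ _ => Iff.rfl) ?_ (fun h => h.mul)
  intro P' f' g' h hfg
  exact ⟨h.1, fun y hy => by rw [← hfg y hy]; exact h.2.1 y hy,
      h.2.2.congr (fun x hx => by
        simp only [Function.comp_apply]
        rw [hfg _ (ext_mem_of_mem_push_symm e hx)])⟩

theorem subCorr_pushSub (hT : T ≤ S) : SubCorr e E (pushSub e hT E) where
  le := hT
  eq := rfl
  fwd := by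
    intro P f hf
    rw [isMapOn_pushSub]
    have hP : P ≤ T := hf.le
    refine ⟨push_mono e hP, fun y hy => ?_, ?_⟩
    · simp only [Function.comp_apply]
      have h1 := hf.mem (ext_symm_mem e hy)
      exact ext_mem_push e h1 (hT h1)
    · rw [push_symm_push e (hP.trans hT)]
      refine hf.congr (fun x hx => ?_)
      simp only [Function.comp_apply]
      rw [ext_symm_ext e (hT (hP hx)), ext_symm_ext e (hT (hf.mem hx))]
  bwd := by
    intro P' f' hf'
    exact ((isMapOn_pushSub hT).1 hf').2.2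

end Sub


/-! ### Function-level forms of invariance -/

section Invariant

variable {Ω : Type*} [Group Ω] {S T : Subgroup Ω} {F : FusionSystem S} {E : FusionSystem T}

theorem isMapOn_of_isSubsystemOf (h : E.IsSubsystemOf F) {P : Subgroup Ω} {f : Ω → Ω} (hf : IsMapOn E P f) :
    IsMapOn F P f := by
  obtain ⟨φ, hφ, hφf⟩ := hf
  exact ⟨φ, h P hφ, hφf⟩

theorem exists_frattini (hEF : E.IsInvariantIn F) {P : Subgroup Ω} {f : Ω → Ω} (hP : P ≤ T)
    (hf : IsMapOn F P f) :
    ∃ α ∈ F.autGroup T, ∃ f₀ : Ω → Ω, IsMapOn E P f₀ ∧ ∀ x ∈ P, f x = extFun α (f₀ x) := by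
  obtain ⟨φ, hφ, hφf⟩ := hf
  obtain ⟨α, hα, φ₀, hφ₀, h⟩ := hEF.2.2.2 P hP φ hφ
  refine ⟨α, hα, extHom φ₀, Helper87_Alperin.isMapOn_extHom E hφ₀, fun x hx => ?_⟩
  have hmem : φ₀ ⟨x, hx⟩ ∈ T := Helper87_Alperin.hom_mem E hφ₀ _
  rw [← hφf ⟨x, hx⟩, h ⟨x, hx⟩ hmem, Helper87_Alperin.extHom_apply φ₀ hx,
    Helper87_Alperin.extFun_apply α hmem]

theorem isInvariantIn_intro (hsub : E.IsSubsystemOf F) (hsc : F.StronglyClosed T)
    (hinv : ∀ (P P' : Subgroup Ω) (f : Ω → Ω) (α : MulAut T), α ∈ F.autGroup T → IsMapOn E P f →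
      IsImage P (extFun α) P' → IsMapOn E P' (extFun α ∘ f ∘ extFun α⁻¹))
    (hfr : ∀ (P : Subgroup Ω) (f : Ω → Ω), P ≤ T → IsMapOn F P f →
      ∃ α ∈ F.autGroup T, ∃ f₀ : Ω → Ω, IsMapOn E P f₀ ∧ ∀ x ∈ P, f x = extFun α (f₀ x)) :
    E.IsInvariantIn F := by
  refine ⟨hsub, hsc, ?_, ?_⟩
  · intro P hPT φ hφ α hα
    have hP' : IsImage P (extFun α) ((P.subgroupOf T).map (T.subtype.comp α.toMonoidHom)) := by
      intro y
      constructor
      · rintro ⟨z, hz, rfl⟩
        exact ⟨(z : Ω), Subgroup.mem_subgroupOf.1 hz, Helper87_Alperin.extFun_coe α z⟩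
      · rintro ⟨x, hx, rfl⟩
        exact ⟨⟨x, hPT hx⟩, Subgroup.mem_subgroupOf.2 hx,
          (Helper87_Alperin.extFun_apply α (hPT hx)).symm⟩
    obtain ⟨χ, hχ, hχf⟩ := hinv P _ (extHom φ) α hα (Helper87_Alperin.isMapOn_extHom E hφ) hP'
    refine ⟨χ, hχ, fun x hφx hαx => ?_⟩
    rw [hχf]
    simp only [Function.comp_apply]
    rw [Helper87_Alperin.extFun_coe, MulAut.inv_apply_self, Helper87_Alperin.extHom_apply φ x.2,
      Helper87_Alperin.extFun_apply α hφx]
  · intro P hPT φ hφ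
    obtain ⟨α, hα, f₀, ⟨φ₀, hφ₀, hφ₀f⟩, h⟩ := hfr P (extHom φ) hPT (Helper87_Alperin.isMapOn_extHom F hφ)
    refine ⟨α, hα, φ₀, hφ₀, fun x hx => ?_⟩
    have h1 := h x x.2
    rw [Helper87_Alperin.extHom_coe, ← hφ₀f x, Helper87_Alperin.extFun_apply α hx] at h1
    exact h1

end Invariant

/-! ### Compatibility with restriction of the isomorphism -/

section Restrict

variable {Ω Ω' : Type*} [Group Ω] [Group Ω'] {S : Subgroup Ω} {S' : Subgroup Ω'} (e : S ≃* S')

theorem ext_restrictEquiv {U : Subgroup Ω} (hU : U ≤ S) {x : Ω} (hx : x ∈ U) :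
    ext (restrictEquiv e hU) x = ext e x := by
  rw [ext_apply _ hx]
  rfl

theorem ext_restrictEquiv_symm {U : Subgroup Ω} (hU : U ≤ S) {y : Ω'} (hy : y ∈ push e U) :
    ext (restrictEquiv e hU).symm y = ext e.symm y := by
  rw [ext_apply _ hy]
  rfl

theorem push_restrictEquiv {U : Subgroup Ω} (hU : U ≤ S) {P : Subgroup Ω} (hP : P ≤ U) :
    push (restrictEquiv e hU) P = push e P := by
  ext y
  rw [mem_push, mem_push]
  constructor
  · rintro ⟨x, hx, hxU, rfl⟩
    exact ⟨x, hx, hU hxU, (ext_restrictEquiv e hU hxU).symm⟩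
  · rintro ⟨x, hx, -, rfl⟩
    exact ⟨x, hx, hP hx, ext_restrictEquiv e hU (hP hx)⟩

theorem push_restrictEquiv_symm {U : Subgroup Ω} (hU : U ≤ S) {P' : Subgroup Ω'} (hP' : P' ≤ push e U) :
    push (restrictEquiv e hU).symm P' = push e.symm P' := by
  ext x
  rw [mem_push, mem_push]
  constructor
  · rintro ⟨y, hy, hyU, rfl⟩
    exact ⟨y, hy, push_le e U hyU, (ext_restrictEquiv_symm e hU hyU).symm⟩
  · rintro ⟨y, hy, -, rfl⟩
    exact ⟨y, hy, hP' hy, ext_restrictEquiv_symm e hU (hP' hy)⟩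

variable {e}

theorem SubCorr.restrict {T U : Subgroup Ω} {E : FusionSystem T} {T' : Subgroup Ω'} {E' : FusionSystem T'}
    (h : SubCorr e E E') (hTU : T ≤ U) (hU : U ≤ S) : SubCorr (restrictEquiv e hU) E E' where
  le := hTU
  eq := by rw [push_restrictEquiv e hU hTU, h.eq]
  fwd := by
    intro P f hf
    have hP : P ≤ T := hf.le
    have h1 := h.fwd P f hf
    rw [push_restrictEquiv e hU (hP.trans hTU)]
    refine h1.congr (fun y hy => ?_)
    have hyU : y ∈ push e U := push_mono e (hP.trans hTU) hy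
    simp only [Function.comp_apply]
    rw [ext_restrictEquiv_symm e hU hyU, ext_restrictEquiv e hU (hTU (hf.mem (ext_symm_mem e hy)))]
  bwd := by
    intro P' f' hf'
    have hP' : P' ≤ T' := hf'.le
    have hP'U : P' ≤ push e U := by
      rw [h.eq] at hP'
      exact hP'.trans (push_mono e hTU)
    have h1 := h.bwd P' f' hf'
    rw [push_restrictEquiv_symm e hU hP'U]
    refine h1.congr (fun x hx => ?_)
    have hxU : x ∈ U := by
      have := push_mono e.symm hP'U hx
      rwa [push_symm_push e hU] at this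
    simp only [Function.comp_apply]
    have h2 : f' (ext e x) ∈ push e U := by
      have := hf'.mem (ext_mem_of_mem_push_symm e hx)
      rw [h.eq] at this
      exact push_mono e hTU this
    rw [ext_restrictEquiv e hU hxU, ext_restrictEquiv_symm e hU h2]

theorem SubCorr.toCorr {T : Subgroup Ω} {E : FusionSystem T} {E' : FusionSystem (push e T)}
    (h : SubCorr e E E') : Corr (restrictEquiv e h.le) E E' where
  fwd := (h.restrict le_rfl h.le).fwd
  bwd := (h.restrict le_rfl h.le).bwd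

theorem conj_conj_apply {f' : Ω' → Ω'} {y : Ω'} (hy : y ∈ S') (hfy : f' y ∈ S') :
    (ext e ∘ (ext e.symm ∘ f' ∘ ext e) ∘ ext e.symm) y = f' y := by
  simp only [Function.comp_apply]
  rw [ext_ext_symm e hy, ext_ext_symm e hfy]

end Restrict

/-! ### Transport of relations between subsystems -/

section Transport

variable {Ω Ω' : Type*} [Group Ω] [Group Ω'] {S : Subgroup Ω} {S' : Subgroup Ω'} {e : S ≃* S'}
  {F : FusionSystem S} {F' : FusionSystem S'} {T : Subgroup Ω} {E : FusionSystem T} {T' : Subgroup Ω'}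
  {E' : FusionSystem T'}

theorem SubCorr.isSubsystemOf (hF : Corr e F F') (hE : SubCorr e E E') (h : E.IsSubsystemOf F) :
    E'.IsSubsystemOf F' := by
  intro P' φ' hφ'
  have hP' : P' ≤ S' := (Helper87_Alperin.hom_le E' hφ').trans hE.le'
  have h1 := hE.bwd P' (extHom φ') (Helper87_Alperin.isMapOn_extHom E' hφ')
  have h3 := hF.fwd _ _ (isMapOn_of_isSubsystemOf h h1)
  rw [push_push_symm e hP'] at h3
  rw [Helper87_Alperin.mem_hom_iff_isMapOn]
  refine h3.congr (fun y hy => ?_)
  refine conj_conj_apply (hP' hy) ?_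
  rw [Helper87_Alperin.extHom_apply φ' hy]
  exact hE.le' (Helper87_Alperin.hom_mem E' hφ' _)

theorem stronglyClosed_push (hF : Corr e F F') (h : F.StronglyClosed T) : F'.StronglyClosed (push e T) := by
  refine ⟨push_le e T, fun R' hR' φ' hφ' y => ?_⟩
  have hR'S : R' ≤ S' := hR'.trans (push_le e T)
  obtain ⟨φ, hφ, hφg⟩ := hF.bwd R' (extHom φ') (Helper87_Alperin.isMapOn_extHom F' hφ')
  have hRT : push e.symm R' ≤ T := push_symm_le h.1 hR'
  have hx : ext e.symm (y : Ω') ∈ push e.symm R' := ext_mem_push e.symm y.2 (hR'S y.2)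
  have h1 := h.2 _ hRT φ hφ ⟨_, hx⟩
  rw [hφg] at h1
  simp only [Function.comp_apply] at h1
  rw [ext_ext_symm e (hR'S y.2), Helper87_Alperin.extHom_coe] at h1
  have h2 := ext_mem_push e h1 (h.1 h1)
  rwa [ext_ext_symm e (Helper87_Alperin.hom_mem F' hφ' y)] at h2

/-- The automorphism of `T` corresponding to an automorphism of `e(T)`. -/
theorem extFun_congr_symm (hT : T ≤ S) (α' : MulAut (push e T)) {x : Ω} (hx : x ∈ T) :
    extFun ((MulAut.congr (restrictEquiv e hT)).symm α') x = ext e.symm (extFun α' (ext e x)) := by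
  rw [Helper87_Alperin.extFun_apply _ hx, coe_congr_symm_apply,
    Helper87_Alperin.extFun_apply α' (ext_mem_push e hx (hT hx))]

theorem extFun_congr (hT : T ≤ S) (α : MulAut T) {y : Ω'} (hy : y ∈ push e T) :
    extFun (MulAut.congr (restrictEquiv e hT) α) y = ext e (extFun α (ext e.symm y)) := by
  rw [Helper87_Alperin.extFun_apply _ hy, coe_congr_apply,
    Helper87_Alperin.extFun_apply α (ext_symm_mem e hy)]

theorem SubCorr.isInvariantIn {E' : FusionSystem (push e T)} (hF : Corr e F F') (hE : SubCorr e E E')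
    (h : E.IsInvariantIn F) : E'.IsInvariantIn F' := by
  have hT : T ≤ S := hE.le
  refine isInvariantIn_intro (hE.isSubsystemOf hF h.1) (stronglyClosed_push hF h.2.1) ?_ ?_
  · intro P' Q' f' α' hα' hf' hQ'
    have hP'T : P' ≤ push e T := hf'.le
    set α := (MulAut.congr (restrictEquiv e hT)).symm α' with hαdef
    have hα : α ∈ F.autGroup T := hF.congr_symm_mem_autGroup hT hα'
    have hαi : α⁻¹ = (MulAut.congr (restrictEquiv e hT)).symm α'⁻¹ := by
      rw [hαdef, map_inv]
    have hf := hE.bwd P' f' hf'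
    have hPT : push e.symm P' ≤ T := push_symm_le hT hP'T
    have hQ'T : Q' ≤ push e T := by
      intro y hy
      obtain ⟨x, hx, rfl⟩ := (hQ' y).1 hy
      exact Helper87_Alperin.extFun_mem α' (hP'T hx)
    have hQ : IsImage (push e.symm P') (extFun α) (push e.symm Q') := by
      intro z
      rw [mem_push]
      constructor
      · rintro ⟨y, hy, hyS, rfl⟩
        obtain ⟨x, hx, rfl⟩ := (hQ' y).1 hy
        have hxS : x ∈ S' := push_le e T (hP'T hx)
        refine ⟨ext e.symm x, ext_mem_push e.symm hx hxS, ?_⟩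
        rw [extFun_congr_symm hT α' (ext_symm_mem e (hP'T hx)), ext_ext_symm e hxS]
      · rintro ⟨x, hx, rfl⟩
        have hx' : ext e x ∈ P' := ext_mem_of_mem_push_symm e hx
        refine ⟨extFun α' (ext e x), (hQ' _).2 ⟨_, hx', rfl⟩,
          push_le e T (Helper87_Alperin.extFun_mem α' (hP'T hx')), ?_⟩
        rw [extFun_congr_symm hT α' (hPT hx)]
    have h1 := Helper88_Invariant.isMapOn_transport h hα hf hQ
    have h2 := hE.fwd _ _ h1
    rw [push_push_symm e (hQ'T.trans (push_le e T))] at h2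
    refine h2.congr (fun y hy => ?_)
    obtain ⟨x, hx, rfl⟩ := (hQ' y).1 hy
    have hxT : x ∈ push e T := hP'T hx
    have hxS : x ∈ S' := push_le e T hxT
    have hfx : f' x ∈ push e T := hf'.mem hx
    have hax : extFun α' x ∈ push e T := Helper87_Alperin.extFun_mem α' hxT
    simp only [Function.comp_apply]
    rw [hαi, extFun_congr_symm hT α'⁻¹ (ext_symm_mem e hax), ext_ext_symm e (push_le e T hax),
      Helper87_Alperin.extFun_inv_apply α' hxT, ext_ext_symm e hxS,
      extFun_congr_symm hT α' (ext_symm_mem e hfx), ext_ext_symm e (push_le e T hfx),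
      ext_ext_symm e (push_le e T (Helper87_Alperin.extFun_mem α' hfx))]
  · intro P' f' hP' hf'
    have hf := hF.bwd P' f' hf'
    have hPT : push e.symm P' ≤ T := push_symm_le hT hP'
    obtain ⟨α, hα, f₀, hf₀, hff₀⟩ := exists_frattini h hPT hf
    refine ⟨MulAut.congr (restrictEquiv e hT) α, hF.congr_mem_autGroup hT hα, ext e ∘ f₀ ∘ ext e.symm, ?_, ?_⟩
    · have := hE.fwd _ _ hf₀
      rwa [push_push_symm e (hP'.trans (push_le e T))] at this
    · intro y hy
      have hyS : y ∈ S' := push_le e T (hP' hy)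
      have hy0 : ext e.symm y ∈ push e.symm P' := ext_mem_push e.symm hy hyS
      have h1 := hff₀ _ hy0
      simp only [Function.comp_apply] at h1 ⊢
      rw [ext_ext_symm e hyS] at h1
      have hf₀T : f₀ (ext e.symm y) ∈ T := hf₀.mem hy0
      rw [extFun_congr hT α (ext_mem_push e hf₀T (hT hf₀T)), ext_symm_ext e (hT hf₀T), ← h1,
        ext_ext_symm e (hf'.mem hy)]


theorem SubCorr.isSaturated {E' : FusionSystem (push e T)} [Finite S] {p : ℕ} [Fact p.Prime]
    (hE : SubCorr e E E') (h : E.IsSaturated p) : E'.IsSaturated p := by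
  haveI : Finite S' := Finite.of_equiv S e.toEquiv
  haveI : Finite (push e T) := Helper84_FusionRS.finite_of_le_S (push_le e T)
  exact hE.toCorr.symm.isSaturated h

theorem SubCorr.isWeaklyNormalIn {E' : FusionSystem (push e T)} [Finite S] {p : ℕ} [Fact p.Prime]
    (hF : Corr e F F') (hE : SubCorr e E E') (h : E.IsWeaklyNormalIn F p) : E'.IsWeaklyNormalIn F' p := by
  haveI : Finite S' := Finite.of_equiv S e.toEquiv
  exact ⟨hE.isSaturated h.1, hF.symm.isSaturated h.2.1, hE.isInvariantIn hF h.2.2⟩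

theorem SubCorr.isNormalIn {E' : FusionSystem (push e T)} [Finite S] {p : ℕ} [Fact p.Prime]
    (hF : Corr e F F') (hE : SubCorr e E E') (h : E.IsNormalIn F p) : E'.IsNormalIn F' p := by
  have hT : T ≤ S := hE.le
  haveI : Finite S' := Finite.of_equiv S e.toEquiv
  refine ⟨hE.isWeaklyNormalIn hF h.1, fun α' hα' => ?_⟩
  set α := (MulAut.congr (restrictEquiv e hT)).symm α' with hαdef
  have hα : α ∈ E.autGroup T := by
    rw [Helper87_Alperin.mem_autGroup_iff E le_rfl]
    have h1 := hE.bwd _ _ ((Helper87_Alperin.mem_autGroup_iff E' le_rfl α').1 hα')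
    rw [push_symm_push e hT] at h1
    refine h1.congr (fun x hx => ?_)
    rw [extFun_congr_symm hT α' hx]
    rfl
  obtain ⟨β, hβ, hβα, hβc⟩ := h.2 α hα
  have hCS : centralizerIn S T ≤ S := inf_le_left
  have hU : T ⊔ centralizerIn S T ≤ S := sup_le hT hCS
  have hb : IsMapOn F (T ⊔ centralizerIn S T) (extFun β) := (Helper87_Alperin.mem_autGroup_iff F hU β).1 hβ
  have hpushU : push e (T ⊔ centralizerIn S T) = push e T ⊔ centralizerIn S' (push e T) := by
    rw [push_sup e hT hCS, push_centralizerIn e hT]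
  have hb' := hF.fwd _ _ hb
  rw [hpushU] at hb'
  have hb'U : ∀ y ∈ push e T ⊔ centralizerIn S' (push e T),
      (ext e ∘ extFun β ∘ ext e.symm) y ∈ push e T ⊔ centralizerIn S' (push e T) := by
    intro y hy
    rw [← hpushU] at hy ⊢
    simp only [Function.comp_apply]
    have h1 := Helper87_Alperin.extFun_mem β (ext_symm_mem e hy)
    exact ext_mem_push e h1 (hU h1)
  obtain ⟨β', hβ', hβ'b⟩ := Helper88_Centric.exists_aut_of_isMapOn hb' hb'U
  refine ⟨β', hβ', fun x => ?_, fun c hc => ?_⟩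
  · rw [hβ'b]
    simp only [Function.comp_apply]
    have hxT : (x : Ω') ∈ push e T := x.2
    have hz : ext e.symm (x : Ω') ∈ T := ext_symm_mem e hxT
    have h1 : extFun β (ext e.symm (x : Ω')) = extFun α (ext e.symm (x : Ω')) := by
      rw [Helper87_Alperin.extFun_apply β (le_sup_left (a := T) hz), Helper87_Alperin.extFun_apply α hz]
      exact hβα ⟨_, hz⟩
    show ext e (extFun β (ext e.symm (x : Ω'))) = _
    rw [h1, extFun_congr_symm hT α' hz, ext_ext_symm e (push_le e T hxT),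
      ext_ext_symm e (push_le e T (Helper87_Alperin.extFun_mem α' hxT)),
      Helper87_Alperin.extFun_coe]
  · rw [hβ'b]
    simp only [Function.comp_apply]
    have hc0 : ext e.symm (c : Ω') ∈ centralizerIn S T := by
      have := ext_mem_centralizerIn e.symm hc
      rwa [push_symm_push e hT] at this
    have hcU : ext e.symm (c : Ω') ∈ T ⊔ centralizerIn S T := le_sup_right (a := T) hc0
    have h1 := hβc ⟨_, hcU⟩ hc0
    have hcS : (c : Ω') ∈ S' := hc.1
    have hbS : extFun β (ext e.symm (c : Ω')) ∈ S := hU (Helper87_Alperin.extFun_mem β hcU)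
    have h2 : ext e ((ext e.symm (c : Ω'))⁻¹ * extFun β (ext e.symm (c : Ω'))) =
        (c : Ω')⁻¹ * ext e (extFun β (ext e.symm (c : Ω'))) := by
      rw [ext_mul e (S.inv_mem (hCS hc0)) hbS, ext_inv e (hCS hc0), ext_ext_symm e hcS]
    rw [← Helper87_Alperin.extFun_apply β hcU] at h1
    show (c : Ω')⁻¹ * ext e (extFun β (ext e.symm (c : Ω'))) ∈ _
    rw [← h2]
    set z := (ext e.symm (c : Ω'))⁻¹ * extFun β (ext e.symm (c : Ω')) with hz
    refine ⟨ext_mem_push e h1.1 (hT h1.1), ?_⟩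
    show ext e z ∈ Subgroup.centralizer ((push e T : Subgroup Ω') : Set Ω')
    rw [Subgroup.mem_centralizer_iff]
    intro t' ht'
    have ht : ext e.symm t' ∈ T := ext_symm_mem e ht'
    have h3 := (Subgroup.mem_centralizer_iff.1 h1.2) _ ht
    have h4 : t' = ext e (ext e.symm t') := (ext_ext_symm e (push_le e T ht')).symm
    rw [h4, ← ext_mul e (hT ht) (hT h1.1), ← ext_mul e (hT h1.1) (hT ht), h3]


theorem SubCorr.isNormalIn' [Finite S] {p : ℕ} [Fact p.Prime]
    (hF : Corr e F F') (hE : SubCorr e E E') (h : E.IsNormalIn F p) : E'.IsNormalIn F' p := by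
  have h1 := hE.eq
  subst h1
  exact hE.isNormalIn hF h

theorem SubCorr.isSaturated' [Finite S] {p : ℕ} [Fact p.Prime]
    (hE : SubCorr e E E') (h : E.IsSaturated p) : E'.IsSaturated p := by
  have h1 := hE.eq
  subst h1
  exact hE.isSaturated h

/-- Monotonicity of the correspondence. -/
theorem SubCorr.isSubsystemOf' {T₁ T₂ : Subgroup Ω} {E₁ : FusionSystem T₁} {E₂ : FusionSystem T₂}
    {T₁' T₂' : Subgroup Ω'} {E₁' : FusionSystem T₁'} {E₂' : FusionSystem T₂'}
    (h₁ : SubCorr e E₁ E₁') (h₂ : SubCorr e E₂ E₂') (h : E₁.IsSubsystemOf E₂) : E₁'.IsSubsystemOf E₂' := by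
  intro P' φ' hφ'
  have hP' : P' ≤ S' := (Helper87_Alperin.hom_le E₁' hφ').trans h₁.le'
  have h3 := h₂.fwd _ _ (isMapOn_of_isSubsystemOf h
    (h₁.bwd P' (extHom φ') (Helper87_Alperin.isMapOn_extHom E₁' hφ')))
  rw [push_push_symm e hP'] at h3
  rw [Helper87_Alperin.mem_hom_iff_isMapOn]
  refine h3.congr (fun y hy => ?_)
  refine conj_conj_apply (hP' hy) ?_
  rw [Helper87_Alperin.extHom_apply φ' hy]
  exact h₁.le' (Helper87_Alperin.hom_mem E₁' hφ' _)

end Transport

section Subnormal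

variable {Ω Ω' : Type*} [Group Ω] [Group Ω'] {S : Subgroup Ω} {S' : Subgroup Ω'} {e : S ≃* S'}

theorem fs_ext {T : Subgroup Ω} {E₁ E₂ : FusionSystem T} (h : ∀ P, E₁.Hom P = E₂.Hom P) : E₁ = E₂ := by
  cases E₁
  cases E₂
  simp only [FusionSystem.mk.injEq]
  funext P
  exact h P

theorem isSubnormalIn_of_eq {p : ℕ} {T U : Subgroup Ω} (hTU : T = U) {E : FusionSystem T} {D : FusionSystem U}
    (h : ∀ P, E.Hom P ⊆ D.Hom P) (h' : ∀ P, D.Hom P ⊆ E.Hom P) : E.IsSubnormalIn D p := by
  subst hTU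
  have : E = D := fs_ext (fun P => Set.Subset.antisymm (h P) (h' P))
  rw [this]
  exact IsSubnormalIn.refl _ _

theorem isSubnormalIn_push_aux [Finite S] {p : ℕ} {T U : Subgroup Ω} {E : FusionSystem T}
    {D : FusionSystem U} (h : E.IsSubnormalIn D p) :
    p.Prime → ∀ {T' U' : Subgroup Ω'} {E' : FusionSystem T'} {D' : FusionSystem U'},
      SubCorr e E E' → SubCorr e D D' → E'.IsSubnormalIn D' p := by
  induction h with
  | refl F p =>
    intro _ T' U' E' D' hE hD
    exact isSubnormalIn_of_eq (hE.eq.trans hD.eq.symm) (hE.isSubsystemOf' hD (fun _ _ h => h))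
      (hD.isSubsystemOf' hE (fun _ _ h => h))
  | step h₁ hn ih =>
    intro hp T' U' E' D' hE hD
    haveI : Fact (Nat.Prime _) := ⟨hp⟩
    have hUS := hD.le
    have hU₁U := hn.1.2.2.2.1.1
    have hU₁S := hU₁U.trans hUS
    have h2 := ih hp hE (subCorr_pushSub (e := e) hU₁S)
    have hUeq := hD.eq
    subst hUeq
    haveI := Helper84_FusionRS.finite_of_le_S hUS
    have h3 := SubCorr.isNormalIn' (e := restrictEquiv e hUS) hD.toCorr
        ((subCorr_pushSub (e := e) hU₁S).restrict hU₁U hUS) hn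
    exact IsSubnormalIn.step h2 h3

theorem isSubnormalIn_push [Finite S] {p : ℕ} [hp : Fact p.Prime] {T U : Subgroup Ω} {E : FusionSystem T}
    {D : FusionSystem U} (h : E.IsSubnormalIn D p) {T' U' : Subgroup Ω'} {E' : FusionSystem T'}
    {D' : FusionSystem U'} (hE : SubCorr e E E') (hD : SubCorr e D D') : E'.IsSubnormalIn D' p :=
  isSubnormalIn_push_aux h hp.out hE hD

end Subnormal

end Cfsg.Agent.Lib.Helper85_Transport2
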