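import Cfsg.Agent.Lib.Helper85_StableSub
import Cfsg.Agent.Lib.Helper85_GroupFusion
import Cfsg.Agent.Lib.Helper85_Transport
import Cfsg.Agent.Lib.Helper85_Transport2
import Cfsg.Agent.Lib.Helper85_DirectFactor
import Cfsg.Agent.Lib.Helper88_Invariant
import Cfsg.Agent.Lib.Helper1_Cores
import Cfsg.Agent.Lib.Helper34_Sylow
import Cfsg.Agent.Lib.Helper84_FusionSat

/-!
# Normal subsystems of the fusion system of a constrained group, I (helper85)

General lemmas: maps of `F_S(G)` and `F_T(H)` as conjugations, stability of invariant subsystems under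
conjugation by maps of the big system, a coprime-action lemma for chains.
-/

set_option autoImplicit false

namespace Cfsg.Agent.Lib.Helper85_ConstrainedNormal

open Cfsg Cfsg.FusionSystem Cfsg.Agent.Lib.Helper87_Alperin Cfsg.Agent.Lib.Helper88_Centric
  Cfsg.Agent.Lib.Helper84_FusionRS Cfsg.Agent.Lib.Helper85_StableSub

section General

variable {Ω : Type*} [Group Ω]

/-- The maps of `F_S(G)` are the conjugations. -/
theorem isMapOn_group_iff {S P : Subgroup Ω} {f : Ω → Ω} :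
    IsMapOn (groupFusionSystem S) P f ↔
      P ≤ S ∧ ∃ g : Ω, ∀ x ∈ P, f x = g * x * g⁻¹ ∧ g * x * g⁻¹ ∈ S := by
  constructor
  · rintro ⟨φ, ⟨hP, hφS, g, hg⟩, hφf⟩
    refine ⟨hP, g, fun x hx => ?_⟩
    have h1 := hφf ⟨x, hx⟩
    have h2 := hg ⟨x, hx⟩
    have h3 := hφS ⟨x, hx⟩
    simp only at h1 h2 h3
    rw [← h1, h2]
    exact ⟨rfl, h2 ▸ h3⟩
  · rintro ⟨hP, g, hg⟩
    refine ⟨conjHom P g, ⟨hP, fun x => (hg x x.2).2, g, fun x => rfl⟩, fun x => ?_⟩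
    exact (hg x x.2).1.symm

/-- The maps of `F_T(H)` are the conjugations by elements of `H`. -/
theorem isMapOn_subgroup_iff {H T : Subgroup Ω} (hTH : T ≤ H) {P : Subgroup Ω} {f : Ω → Ω} :
    IsMapOn (fusionSystemOfSubgroup H T hTH) P f ↔
      P ≤ T ∧ ∃ g ∈ H, ∀ x ∈ P, f x = g * x * g⁻¹ ∧ g * x * g⁻¹ ∈ T := by
  constructor
  · rintro ⟨φ, ⟨hP, hφS, g, hgH, hg⟩, hφf⟩
    refine ⟨hP, g, hgH, fun x hx => ?_⟩
    have h1 := hφf ⟨x, hx⟩
    have h2 := hg ⟨x, hx⟩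
    have h3 := hφS ⟨x, hx⟩
    simp only at h1 h2 h3
    rw [← h1, h2]
    exact ⟨rfl, h2 ▸ h3⟩
  · rintro ⟨hP, g, hgH, hg⟩
    refine ⟨conjHom P g, ⟨hP, fun x => (hg x x.2).2, g, hgH, fun x => rfl⟩, fun x => ?_⟩
    exact (hg x x.2).1.symm

/-- An invariant subsystem is stable under conjugation by the maps of the big system. -/
theorem stable_of_invariant {S T : Subgroup Ω} {F : FusionSystem S} {E : FusionSystem T}
    (hinv : E.IsInvariantIn F) {U U' : Subgroup Ω} {g f : Ω → Ω} (hU : U ≤ T) (hg : IsMapOn F U g)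
    (hI : IsImage U g U') (hf : IsMapOn E U' f) (hfU : ∀ y ∈ U', f y ∈ U') :
    ∃ f' : Ω → Ω, IsMapOn E U f' ∧ ∀ x ∈ U, f' x ∈ U ∧ g (f' x) = f (g x) := by
  obtain ⟨α, hα, g₀, hg₀, hgα⟩ := Helper85_Transport2.exists_frattini hinv hU hg
  obtain ⟨U₀, hU₀, -⟩ := exists_isImage hg₀
  have hU₀T : U₀ ≤ T := fun y hy => by
    obtain ⟨x, hx, rfl⟩ := (hU₀ y).1 hy
    exact hg₀.mem hx
  obtain ⟨g₀i, hg₀i, hg₀i1, hg₀i2, hg₀i3⟩ := IsMapOn.inv hg₀ hU₀
  -- `U'` is the image of `U₀` under `α`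
  have hαU₀ : ∀ y ∈ U₀, extFun α y ∈ U' := by
    intro y hy
    obtain ⟨x, hx, rfl⟩ := (hU₀ y).1 hy
    rw [← hgα x hx]
    exact hI.mem hx
  have hαinv : ∀ z ∈ U', extFun α⁻¹ z ∈ U₀ := by
    intro z hz
    obtain ⟨x, hx, rfl⟩ := (hI z).1 hz
    rw [hgα x hx, extFun_inv_apply α (hg₀.mem hx)]
    exact hU₀.mem hx
  have hU'T : U' ≤ T := hf.le
  have hI' : IsImage U' (extFun α⁻¹) U₀ := by
    intro y
    constructor
    · intro hy
      exact ⟨extFun α y, hαU₀ y hy, extFun_inv_apply α (hU₀T hy)⟩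
    · rintro ⟨z, hz, rfl⟩
      exact hαinv z hz
  have hf₁ : IsMapOn E U₀ (extFun α⁻¹ ∘ f ∘ extFun α⁻¹⁻¹) :=
    Helper88_Invariant.isMapOn_transport hinv ((F.autGroup T).inv_mem hα) hf hI'
  rw [inv_inv] at hf₁
  have hf₁U₀ : ∀ y ∈ U₀, (extFun α⁻¹ ∘ f ∘ extFun α) y ∈ U₀ := fun y hy =>
    hαinv _ (hfU _ (hαU₀ y hy))
  refine ⟨g₀i ∘ (extFun α⁻¹ ∘ f ∘ extFun α) ∘ g₀,
    (hg₀.comp hf₁ (fun x hx => hU₀.mem hx)).comp hg₀i (fun x hx => hf₁U₀ _ (hU₀.mem hx)), ?_⟩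
  intro x hx
  simp only [Function.comp_apply]
  have h1 : extFun α⁻¹ (f (extFun α (g₀ x))) ∈ U₀ := hf₁U₀ _ (hU₀.mem hx)
  refine ⟨hg₀i2 _ h1, ?_⟩
  rw [hgα _ (hg₀i2 _ h1), hg₀i3 _ h1, hgα x hx]
  exact extFun_apply_inv α (hU'T (hfU _ (hαU₀ _ (hU₀.mem hx))))

/-- Coprime action on a chain, abstract form: if `v q v⁻¹ = q a` and `v` commutes with `a`, with `v` and `a`
of coprime orders, then `a = 1`. -/
theorem eq_one_of_chain_aux {v q a : Ω} (h1 : v * q * v⁻¹ = q * a) (h2 : v * a * v⁻¹ = a) {n m : ℕ}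
    (hv : v ^ n = 1) (ha : a ^ m = 1) (hnm : n.Coprime m) : a = 1 := by
  have key : ∀ k : ℕ, v ^ k * q * (v ^ k)⁻¹ = q * a ^ k := by
    intro k
    induction k with
    | zero => simp
    | succ k ih =>
      have hpow : ∀ j : ℕ, v * a ^ j * v⁻¹ = a ^ j := by
        intro j
        induction j with
        | zero => simp
        | succ j ihj =>
          calc v * a ^ (j + 1) * v⁻¹ = (v * a ^ j * v⁻¹) * (v * a * v⁻¹) := by
                rw [pow_succ]; group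
            _ = a ^ (j + 1) := by rw [ihj, h2, pow_succ]
      calc v ^ (k + 1) * q * (v ^ (k + 1))⁻¹ = v * (v ^ k * q * (v ^ k)⁻¹) * v⁻¹ := by
            rw [pow_succ']; group
        _ = v * (q * a ^ k) * v⁻¹ := by rw [ih]
        _ = (v * q * v⁻¹) * (v * a ^ k * v⁻¹) := by group
        _ = q * a ^ (k + 1) := by rw [h1, hpow, pow_succ']; group
  have h3 := key n
  rw [hv] at h3
  have h4 : a ^ n = 1 := by
    have : q = q * a ^ n := by simpa using h3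
    exact (mul_eq_left.1 this.symm)
  have h5 : orderOf a ∣ n := orderOf_dvd_of_pow_eq_one h4
  have h6 : orderOf a ∣ m := orderOf_dvd_of_pow_eq_one ha
  have h7 : orderOf a = 1 := Nat.eq_one_of_dvd_coprimes hnm h5 h6
  exact orderOf_eq_one_iff.1 h7

/-- Coprime action on a chain modulo a normal subgroup `N`. -/
theorem mem_of_chain {N : Subgroup Ω} (hN : N.Normal) {v q a : Ω}
    (h1 : (q * a)⁻¹ * (v * q * v⁻¹) ∈ N) (h2 : a⁻¹ * (v * a * v⁻¹) ∈ N) {n m : ℕ}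
    (hv : v ^ n = 1) (ha : a ^ m ∈ N) (hnm : n.Coprime m) : a ∈ N := by
  haveI := hN
  have e1 : (QuotientGroup.mk v : Ω ⧸ N) * QuotientGroup.mk q * (QuotientGroup.mk v)⁻¹ =
      QuotientGroup.mk q * QuotientGroup.mk a := by
    have := (QuotientGroup.eq (s := N) (a := q * a) (b := v * q * v⁻¹)).2 h1
    simpa using this.symm
  have e2 : (QuotientGroup.mk v : Ω ⧸ N) * QuotientGroup.mk a * (QuotientGroup.mk v)⁻¹ =
      QuotientGroup.mk a := by
    have := (QuotientGroup.eq (s := N) (a := a) (b := v * a * v⁻¹)).2 h2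
    simpa using this.symm
  have e3 : (QuotientGroup.mk v : Ω ⧸ N) ^ n = 1 := by
    rw [← QuotientGroup.mk_pow, hv]; rfl
  have e4 : (QuotientGroup.mk a : Ω ⧸ N) ^ m = 1 := by
    rw [← QuotientGroup.mk_pow]
    exact (QuotientGroup.eq_one_iff _).2 ha
  exact (QuotientGroup.eq_one_iff a).1 (eq_one_of_chain_aux e1 e2 e3 e4 hnm)

end General

end Cfsg.Agent.Lib.Helper85_ConstrainedNormal
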