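import Cfsg.Agent.Lib.Helper87_Factor

set_option autoImplicit false

namespace Cfsg.Agent.Lib.Helper87_Hyperfocal

open Cfsg Cfsg.FusionSystem Cfsg.Agent.Lib Cfsg.Agent.Lib.Helper87_Alperin Cfsg.Agent.Lib.Helper87_Alperin2
  Cfsg.Agent.Lib.Helper87_Normal Cfsg.Agent.Lib.Helper87_ModT Cfsg.Agent.Lib.Helper87_Factor

universe u v

/-! ### Automorphisms from injective endomorphisms of finite subgroups -/

/-- An injective homomorphism from a finite subgroup `Q` to the ambient group with values in `Q`, as an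
automorphism of `Q`. -/
noncomputable def autOfInjective {G : Type*} [Group G] {Q : Subgroup G} [Finite Q] (φ : Q →* G)
    (hφ : ∀ x : Q, φ x ∈ Q) (hinj : Function.Injective φ) : MulAut Q :=
  MulEquiv.ofBijective (φ.codRestrict Q hφ)
    (Finite.injective_iff_bijective.1 (fun _ _ hab => hinj (congrArg Subtype.val hab)))

theorem autOfInjective_apply {G : Type*} [Group G] {Q : Subgroup G} [Finite Q] (φ : Q →* G)
    (hφ : ∀ x : Q, φ x ∈ Q) (hinj : Function.Injective φ) (x : Q) :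
    ((autOfInjective φ hφ hinj x : Q) : G) = φ x := rfl

/-! ### The part of order prime to `p` of an element -/

/-- For an element `g` of finite order and `m'` prime to `p`, some power `g ^ k` with `k ≡ 1 [MOD m']` has order
prime to `p`. -/
theorem exists_pow_coprime {G : Type*} [Group G] {p : ℕ} [hp : Fact p.Prime] (g : G) (hg : orderOf g ≠ 0)
    {m' : ℕ} (hm' : m'.Coprime p) : ∃ k : ℕ, (orderOf (g ^ k)).Coprime p ∧ k ≡ 1 [MOD m'] := by
  obtain ⟨a, m, hm, hn⟩ := Nat.exists_eq_pow_mul_and_not_dvd hg p hp.out.ne_one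
  have hco : (p ^ a).Coprime m' := Nat.Coprime.pow_left a hm'.symm
  obtain ⟨k, hk0, hk1⟩ := Nat.chineseRemainder hco 0 1
  refine ⟨k, ?_, hk1⟩
  have hdvd : p ^ a ∣ k := (Nat.modEq_zero_iff_dvd).1 hk0
  have h1 : (g ^ k) ^ m = 1 := by
    rw [← pow_mul]
    apply orderOf_dvd_iff_pow_eq_one.1
    rw [hn]
    exact Nat.mul_dvd_mul_right hdvd m
  have h2 : orderOf (g ^ k) ∣ m := orderOf_dvd_of_pow_eq_one h1
  have h3 : m.Coprime p := ((Nat.Prime.coprime_iff_not_dvd hp.out).2 hm).symm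
  exact Nat.Coprime.coprime_dvd_left h2 h3

variable {Ω : Type u} [Group Ω] {S : Subgroup Ω}

/-! ### A criterion for containing the hyperfocal subgroup -/

/-- A subgroup containing `x⁻¹ α(x)` for all `P ≤ S`, all `α ∈ Aut_F(P)` of order prime to `p` and all `x ∈ P`
contains the hyperfocal subgroup. -/
theorem hyperfocal_le {F : FusionSystem S} {p : ℕ} {H : Subgroup Ω}
    (h : ∀ P : Subgroup Ω, P ≤ S → ∀ α ∈ F.autGroup P, (orderOf α).Coprime p →
      ∀ x : P, (x : Ω)⁻¹ * ((α x : P) : Ω) ∈ H) : F.hyperfocalSubgroup p ≤ H := by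
  apply (Subgroup.closure_le _).2
  rintro _ ⟨P, α, x, hP, hα, rfl⟩
  have key : ∀ β : F.autGroup P, β ∈ pResidual p (F.autGroup P) →
      ∀ y : P, (y : Ω)⁻¹ * (((β : MulAut P) y : P) : Ω) ∈ H := by
    intro β hβ
    unfold pResidual at hβ
    induction hβ using Subgroup.closure_induction with
    | mem g hg =>
      intro y
      have hg' : (orderOf (g : MulAut P)).Coprime p := by
        rw [Subgroup.orderOf_coe]
        exact hg
      exact h P hP g g.2 hg' y
    | one =>
      intro y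
      simp
    | mul a b _ _ iha ihb =>
      intro y
      have h1 := ihb y
      have h2 := iha ((b : MulAut P) y)
      have h3 : (y : Ω)⁻¹ * ((((a * b : F.autGroup P) : MulAut P) y : P) : Ω) =
          ((y : Ω)⁻¹ * (((b : MulAut P) y : P) : Ω)) *
            ((((b : MulAut P) y : P) : Ω)⁻¹ * (((a : MulAut P) ((b : MulAut P) y) : P) : Ω)) := by
        simp only [Subgroup.coe_mul, MulAut.mul_apply]
        group
      rw [h3]
      exact H.mul_mem h1 h2
    | inv a _ iha =>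
      intro y
      have h1 := iha (((a⁻¹ : F.autGroup P) : MulAut P) y)
      have h2 : ((a : MulAut P) (((a⁻¹ : F.autGroup P) : MulAut P) y)) = y := by simp
      rw [h2] at h1
      have h3 : (y : Ω)⁻¹ * (((((a⁻¹ : F.autGroup P) : MulAut P)) y : P) : Ω) =
          ((((((a⁻¹ : F.autGroup P) : MulAut P)) y : P) : Ω)⁻¹ * (y : Ω))⁻¹ := by group
      rw [h3]
      exact H.inv_mem h1
  exact key α hα x

/-- Generators of the hyperfocal subgroup coming from automorphisms of order prime to `p`. -/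
theorem mem_hyperfocal {F : FusionSystem S} {p : ℕ} {P : Subgroup Ω} (hP : P ≤ S) {α : MulAut P}
    (hα : α ∈ F.autGroup P) (hcop : (orderOf α).Coprime p) (x : P) :
    (x : Ω)⁻¹ * ((α x : P) : Ω) ∈ F.hyperfocalSubgroup p := by
  apply Subgroup.subset_closure
  refine ⟨P, ⟨α, hα⟩, x, hP, ?_, rfl⟩
  apply Subgroup.subset_closure
  show (orderOf (⟨α, hα⟩ : F.autGroup P)).Coprime p
  rw [Subgroup.orderOf_mk]
  exact hcop

theorem hyperfocal_le_base (F : FusionSystem S) (p : ℕ) : F.hyperfocalSubgroup p ≤ S := by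
  apply (Subgroup.closure_le _).2
  rintro _ ⟨P, α, x, hP, -, rfl⟩
  exact S.mul_mem (S.inv_mem (hP x.2)) (hP ((α : MulAut P) x).2)

/-! ### Automorphisms induced on the factor system, and automorphisms inducing a given one -/

variable {Ω' : Type v} [Group Ω'] {S' : Subgroup Ω'}

/-- Powers of an automorphism `α'` induced by `α` along a function are induced by the powers of `α`. -/
theorem pow_induced {P : Subgroup Ω} {P' : Subgroup Ω'} (θf : Ω → Ω') (α : MulAut P) (α' : MulAut P')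
    (hθ : ∀ x : P, θf (x : Ω) ∈ P')
    (h : ∀ x : P, ((α' ⟨θf (x : Ω), hθ x⟩ : P') : Ω') = θf ((α x : P) : Ω)) (k : ℕ) (x : P) :
    (((α' ^ k) ⟨θf (x : Ω), hθ x⟩ : P') : Ω') = θf (((α ^ k) x : P) : Ω) := by
  induction k generalizing x with
  | zero => simp
  | succ k ih =>
    rw [pow_succ, pow_succ, MulAut.mul_apply, MulAut.mul_apply]
    have h1 : α' ⟨θf (x : Ω), hθ x⟩ = ⟨θf ((α x : P) : Ω), hθ (α x)⟩ := Subtype.ext (h x)
    rw [h1, ih]

theorem finite_imageAlong [Finite S] (θ : S →* Ω') (P : Subgroup Ω) : Finite ↥(imageAlong θ P) :=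
  Finite.of_surjective (θ.subgroupMap (P.subgroupOf S)) (θ.subgroupMap_surjective _)

/-- Every automorphism in `Aut_F(P)` induces an automorphism in `Aut_{F/T}(θ(P))`, of order dividing its order. -/
theorem exists_induced_aut (F : FusionSystem S) [Finite S] {p : ℕ} [Fact p.Prime] (hS : IsPGroup p S)
    (hF : F.IsSaturated p) {T : Subgroup Ω} (hT : F.StronglyClosed T) {θ : S →* Ω'} {E : FusionSystem S'}
    (hE : F.IsFactorSystem T θ E) {P : Subgroup Ω} (hP : P ≤ S) {α : MulAut P} (hα : α ∈ F.autGroup P) :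
    ∃ α' : MulAut ↥(imageAlong θ P), α' ∈ E.autGroup (imageAlong θ P) ∧
      (∀ (x : P) (hx : extOn θ (x : Ω) ∈ imageAlong θ P),
        ((α' ⟨extOn θ (x : Ω), hx⟩ : ↥(imageAlong θ P)) : Ω') = extOn θ ((α x : P) : Ω)) ∧
      orderOf α' ∣ orderOf α := by
  classical
  have hφ : autHom α ∈ F.Hom P := (mem_autGroup_iff' F hP α).1 hα
  obtain ⟨φ', hφ'E, hφ'⟩ := exists_induced_hom F hS hF hT hE hφ
  have hP'S' : imageAlong θ P ≤ S' := hom_le E hφ'E
  have hfin : Finite ↥(imageAlong θ P) := finite_imageAlong θ P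
  have hθ : ∀ x : P, extOn θ (x : Ω) ∈ imageAlong θ P := fun x => extOn_mem_imageAlong θ hP x.2
  have hφ'P' : ∀ y : ↥(imageAlong θ P), φ' y ∈ imageAlong θ P := by
    rintro ⟨y', hy'⟩
    obtain ⟨x, -, hxP, rfl⟩ := (mem_imageAlong θ P _).1 hy'
    rw [hφ' ⟨x, hxP⟩ hy']
    exact hθ (α ⟨x, hxP⟩)
  let α' : MulAut ↥(imageAlong θ P) := autOfInjective φ' hφ'P' (E.injective_of_mem hφ'E)
  have hα' : ∀ (x : P) (hx : extOn θ (x : Ω) ∈ imageAlong θ P),
      ((α' ⟨extOn θ (x : Ω), hx⟩ : ↥(imageAlong θ P)) : Ω') = extOn θ ((α x : P) : Ω) := by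
    intro x hx
    rw [autOfInjective_apply, hφ' x hx]
    rfl
  refine ⟨α', ?_, hα', ?_⟩
  · rw [mem_autGroup_iff' E hP'S']
    have h1 : (imageAlong θ P).subtype.comp α'.toMonoidHom = φ' := by
      ext y
      rfl
    rw [h1]
    exact hφ'E
  · apply orderOf_dvd_of_pow_eq_one
    ext ⟨y', hy'⟩
    obtain ⟨x, -, hxP, rfl⟩ := (mem_imageAlong θ P _).1 hy'
    have h2 := pow_induced (extOn θ) α α' hθ (fun x => hα' x (hθ x)) (orderOf α) ⟨x, hxP⟩
    rw [pow_orderOf_eq_one] at h2
    exact h2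

/-- Every automorphism in `Aut_{F/T}(P')` is induced by an automorphism in `Aut_F` of the full preimage of `P'`. -/
theorem exists_aut_of_induced (F : FusionSystem S) [Finite S] {T : Subgroup Ω} {θ : S →* Ω'}
    {E : FusionSystem S'} (hE : F.IsFactorSystem T θ E) {P' : Subgroup Ω'} (hP' : P' ≤ S')
    {α' : MulAut P'} (hα' : α' ∈ E.autGroup P') :
    ∃ α₀ : MulAut ↥(preimageAlong θ P'), α₀ ∈ F.autGroup (preimageAlong θ P') ∧
      ∀ (x : ↥(preimageAlong θ P')) (hx : extOn θ (x : Ω) ∈ P'),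
        ((α' ⟨extOn θ (x : Ω), hx⟩ : P') : Ω') = extOn θ ((α₀ x : ↥(preimageAlong θ P')) : Ω) := by
  classical
  obtain ⟨-, -, -, hEhom⟩ := hE
  have hφ' : autHom α' ∈ E.Hom P' := (mem_autGroup_iff' E hP' α').1 hα'
  obtain ⟨-, φ, hφF, hind⟩ := (hEhom P' (autHom α')).1 hφ'
  obtain ⟨hPS, hφS, hφ⟩ := extOn_of_inducedAlong hind
  have hfin : Finite ↥(preimageAlong θ P') :=
    Finite.of_injective (Subgroup.inclusion hPS) (Subgroup.inclusion_injective hPS)
  have hxP' : ∀ x : ↥(preimageAlong θ P'), extOn θ (x : Ω) ∈ P' := fun x =>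
    ((mem_preimageAlong θ P' _).1 x.2).2
  have hφP : ∀ x : ↥(preimageAlong θ P'), φ x ∈ preimageAlong θ P' := by
    intro x
    rw [mem_preimageAlong]
    refine ⟨hφS x, ?_⟩
    rw [← hφ x (hxP' x)]
    exact (α' _).2
  refine ⟨autOfInjective φ hφP (F.injective_of_mem hφF), ?_, fun x hx => ?_⟩
  · rw [mem_autGroup_iff' F hPS]
    have h1 : (preimageAlong θ P').subtype.comp
        (autOfInjective φ hφP (F.injective_of_mem hφF)).toMonoidHom = φ := by
      ext y
      rfl
    rw [h1]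
    exact hφF
  · rw [autOfInjective_apply, ← hφ x hx]
    rfl

end Cfsg.Agent.Lib.Helper87_Hyperfocal
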