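import Cfsg.Agent.Lib.Helper87_Alperin

set_option autoImplicit false

namespace Cfsg.Agent.Lib.Helper87_Frattini

open Cfsg.Agent.Lib.Helper87_Alperin
open scoped Pointwise

variable {K : Type*} [Group K]

/-- The intersection of a Sylow `p`-subgroup of a finite group with a normal subgroup `L` is a Sylow
`p`-subgroup of `L`: here in the form that it coincides with any Sylow `p`-subgroup of `L` containing it. -/
theorem inf_sylow_eq_of_le [Finite K] {p : ℕ} [Fact p.Prime] (L : Subgroup K) [L.Normal]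
    (R : Sylow p K) (P : Sylow p L) (hle : L ⊓ (R : Subgroup K) ≤ (P : Subgroup L).map L.subtype) :
    L ⊓ (R : Subgroup K) = (P : Subgroup L).map L.subtype := by
  have hP₁ : IsPGroup p ((P : Subgroup L).map L.subtype) := P.isPGroup'.map _
  obtain ⟨κ, hκ⟩ := sylow_conj_into R hP₁
  have hP₁L : (P : Subgroup L).map L.subtype ≤ L := by
    rintro _ ⟨x, -, rfl⟩
    exact x.2
  refine Subgroup.eq_of_le_of_card_ge hle ?_
  -- conjugation by `κ` embeds `P₁` into `L ⊓ R`
  have hmem : ∀ b ∈ (P : Subgroup L).map L.subtype, κ * b * κ⁻¹ ∈ L ⊓ (R : Subgroup K) := by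
    intro b hb
    exact ⟨(inferInstance : L.Normal).conj_mem b (hP₁L hb) κ, hκ b hb⟩
  apply Nat.card_le_card_of_injective
    (fun b : ((P : Subgroup L).map L.subtype) => (⟨κ * b * κ⁻¹, hmem b b.2⟩ : ↥(L ⊓ (R : Subgroup K))))
  intro a b hab
  have h1 : κ * (a : K) * κ⁻¹ = κ * (b : K) * κ⁻¹ := congrArg Subtype.val hab
  apply Subtype.ext
  exact mul_left_cancel (mul_right_cancel h1)

/-- Frattini decomposition relative to a Sylow subgroup of the whole group: every element `α` of the finite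
group `K` is a product `ν * l` with `l` in the normal subgroup `L` and `ν` conjugating `L ⊓ R` into `R`. -/
theorem frattini_decomp [Finite K] {p : ℕ} [Fact p.Prime] (L : Subgroup K) [L.Normal]
    (R : Sylow p K) (α : K) :
    ∃ ν l : K, α = ν * l ∧ l ∈ L ∧
      ∀ β ∈ L, β ∈ (R : Subgroup K) → ν * β * ν⁻¹ ∈ (R : Subgroup K) := by
  have hU : IsPGroup p ((L ⊓ (R : Subgroup K)).subgroupOf L) := by
    have h1 : IsPGroup p ↥(L ⊓ (R : Subgroup K)) := R.isPGroup'.to_le inf_le_right
    exact h1.comap_subtype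
  obtain ⟨P, hP⟩ := hU.exists_le_sylow
  have hle : L ⊓ (R : Subgroup K) ≤ (P : Subgroup L).map L.subtype := by
    intro x hx
    exact ⟨⟨x, hx.1⟩, hP (Subgroup.mem_subgroupOf.2 hx), rfl⟩
  have heq := inf_sylow_eq_of_le L R P hle
  have hfr := Sylow.normalizer_sup_eq_top P
  have hα : α ∈ Subgroup.normalizer (((P : Subgroup L).map L.subtype : Subgroup K) : Set K) ⊔ L := by
    rw [hfr]
    exact Subgroup.mem_top α
  obtain ⟨ν, hν, l, hl, rfl⟩ := Subgroup.mem_sup_of_normal_right.1 hα
  refine ⟨ν, l, rfl, hl, ?_⟩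
  intro β hβL hβR
  have h1 : β ∈ (P : Subgroup L).map L.subtype := by
    rw [← heq]
    exact ⟨hβL, hβR⟩
  have h2 := (Subgroup.mem_normalizer_iff.1 hν β).1 h1
  rw [← heq] at h2
  exact h2.2

end Cfsg.Agent.Lib.Helper87_Frattini
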