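import Cfsg.Agent.Lib.Helper87_Normal
import Cfsg.Agent.Lib.Helper87_Frattini

set_option autoImplicit false

namespace Cfsg.Agent.Lib.Helper87_ModT

open Cfsg Cfsg.FusionSystem Cfsg.Agent.Lib Cfsg.Agent.Lib.Helper87_Alperin Cfsg.Agent.Lib.Helper87_Alperin2
  Cfsg.Agent.Lib.Helper87_Normal Cfsg.Agent.Lib.Helper87_Frattini
open scoped Pointwise

universe u

variable {Ω : Type u} [Group Ω] {S : Subgroup Ω}

/-! ### Alperin induction relative to a strongly closed subgroup -/

/-- Let `T` be strongly closed in the saturated system `F` over `S`. A fusion system `E` over `S` contains every map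
of `F` as soon as (1) it contains `Aut_F(R)` for the fully automized receptive subgroups `R` containing `T`, and
(2) it contains every `l ∈ Aut_F(R)`, `R ≤ S`, that induces the identity on `R / (R ∩ T)`. -/
theorem alperin_mod_stronglyClosed (F : FusionSystem S) [Finite S] {p : ℕ} [Fact p.Prime]
    (hS : IsPGroup p S) (hF : F.IsSaturated p) {T : Subgroup Ω} (hT : F.StronglyClosed T)
    (E : FusionSystem S)
    (h1 : ∀ R : Subgroup Ω, T ≤ R → F.IsFullyAutomized p R → F.IsReceptive R →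
      ∀ α ∈ F.autGroup R, IsMapOn E R (extFun α))
    (h2 : ∀ R : Subgroup Ω, R ≤ S → ∀ l ∈ F.autGroup R,
      (∀ r : R, (r : Ω)⁻¹ * ((l r : R) : Ω) ∈ T) → IsMapOn E R (extFun l)) :
    ∀ (P : Subgroup Ω) (f : Ω → Ω), IsMapOn F P f → IsMapOn E P f := by
  classical
  have hTS : T ≤ S := hT.1
  have hnormT : S ≤ Subgroup.normalizer (T : Set Ω) := stronglyClosed_le_normalizer hT
  refine alperin_induction_isMapOn F hS hF E ?_
  intro R hRa hRr hIH α hα
  have hRS : R ≤ S := hRa.1
  by_cases hTR : T ≤ R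
  · exact h1 R hTR hRa hRr α hα
  · obtain ⟨-, Rsyl, hRsyl⟩ := hRa
    -- the normal subgroup `L` of `Aut_F(R)` of automorphisms centralizing `R / (R ∩ T)`
    let L : Subgroup (F.autGroup R) :=
      { carrier := {l | ∀ r : R, (r : Ω)⁻¹ * (((l : MulAut R) r : R) : Ω) ∈ T}
        one_mem' := by
          intro r
          simp
        mul_mem' := by
          intro a b ha hb r
          have h1 := hb r
          have h2 := ha ((b : MulAut R) r)
          have h3 : (r : Ω)⁻¹ * ((((a * b : F.autGroup R) : MulAut R) r : R) : Ω) =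
              ((r : Ω)⁻¹ * (((b : MulAut R) r : R) : Ω)) *
                ((((b : MulAut R) r : R) : Ω)⁻¹ * (((a : MulAut R) ((b : MulAut R) r) : R) : Ω)) := by
            simp only [Subgroup.coe_mul, MulAut.mul_apply]
            group
          show (r : Ω)⁻¹ * ((((a * b : F.autGroup R) : MulAut R) r : R) : Ω) ∈ T
          rw [h3]
          exact T.mul_mem h1 h2
        inv_mem' := by
          intro a ha r
          have h1 := ha (((a⁻¹ : F.autGroup R) : MulAut R) r)
          have h2 : ((a : MulAut R) (((a⁻¹ : F.autGroup R) : MulAut R) r)) = r := by simp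
          rw [h2] at h1
          have h3 : (r : Ω)⁻¹ * (((((a⁻¹ : F.autGroup R) : MulAut R)) r : R) : Ω) =
              ((((((a⁻¹ : F.autGroup R) : MulAut R)) r : R) : Ω)⁻¹ * (r : Ω))⁻¹ := by group
          show (r : Ω)⁻¹ * (((((a⁻¹ : F.autGroup R) : MulAut R)) r : R) : Ω) ∈ T
          rw [h3]
          exact T.inv_mem h1 }
    have hLmem : ∀ l : F.autGroup R, l ∈ L ↔
        ∀ r : R, (r : Ω)⁻¹ * (((l : MulAut R) r : R) : Ω) ∈ T := fun _ => Iff.rfl
    have hLn : L.Normal := by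
      constructor
      intro a ha g
      rw [hLmem] at ha ⊢
      intro r
      set w : R := ((g⁻¹ : F.autGroup R) : MulAut R) r with hw
      have h1 := ha w
      have h2 : (((g : MulAut R) (w⁻¹ * (a : MulAut R) w) : R) : Ω) ∈ T :=
        stronglyClosed_aut_mem hT hRS g.2 (w⁻¹ * (a : MulAut R) w) h1
      have h4 : (g : MulAut R) w = r := by
        rw [hw]
        simp
      have h5 : (r : Ω)⁻¹ * ((((g * a * g⁻¹ : F.autGroup R) : MulAut R) r : R) : Ω) =
          (((g : MulAut R) (w⁻¹ * (a : MulAut R) w) : R) : Ω) := by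
        simp only [Subgroup.coe_mul, MulAut.mul_apply, map_mul, map_inv, h4]
        rfl
      rw [h5]
      exact h2
    have hfinK : Finite (F.autGroup R) := by
      have : Finite R := Finite.of_injective (Subgroup.inclusion hRS) (Subgroup.inclusion_injective hRS)
      infer_instance
    obtain ⟨ν, l, hαeq, hl, hν⟩ := frattini_decomp L Rsyl ⟨α, hα⟩
    -- an element of `N_T(R)` outside `R`
    obtain ⟨t, htT, htN, htR⟩ :=
      exists_mem_normalizer_not_mem hS hRS hTS (hRS.trans hnormT) hTR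
    let βt : MulAut R := Subgroup.normalizerMonoidHom R ⟨t, htN⟩
    have hβt : ∀ y : R, ((βt y : R) : Ω) = t * y * t⁻¹ := fun y => rfl
    have hβtK : βt ∈ F.autGroup R :=
      autInducedBy_le_autGroup F hRS ((mem_autInducedBy_iff S R βt).2 ⟨t, hTS htT, hβt⟩)
    have hβtL : (⟨βt, hβtK⟩ : F.autGroup R) ∈ L := by
      rw [hLmem]
      intro r
      rw [hβt]
      have h1 : (r : Ω)⁻¹ * t * ((r : Ω)⁻¹)⁻¹ ∈ T :=
        stronglyClosed_conj_mem hT (S.inv_mem (hRS r.2)) htT
      have h2 : (r : Ω)⁻¹ * (t * (r : Ω) * t⁻¹) = ((r : Ω)⁻¹ * t * ((r : Ω)⁻¹)⁻¹) * t⁻¹ := by group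
      rw [h2]
      exact T.mul_mem h1 (T.inv_mem htT)
    have hβtR : (⟨βt, hβtK⟩ : F.autGroup R) ∈ (Rsyl : Subgroup (F.autGroup R)) := by
      rw [hRsyl, Subgroup.mem_subgroupOf, mem_autInducedBy_iff]
      exact ⟨t, hTS htT, hβt⟩
    have h1' := hν _ hβtL hβtR
    rw [hRsyl, Subgroup.mem_subgroupOf, mem_autInducedBy_iff] at h1'
    obtain ⟨h, hhS, hh⟩ := h1'
    have htE : t ∈ extender S R (autHom (ν : MulAut R)) := by
      refine Subgroup.subset_closure ⟨hTS htT, htN, h, hhS, ?_⟩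
      intro x hx
      have h2 := hh ((ν : MulAut R) x)
      simp only [Subgroup.coe_mul, Subgroup.coe_inv, MulAut.mul_apply, MulAut.inv_apply_self] at h2
      rw [autHom_apply, autHom_apply, ← h2]
      rfl
    have hνE : IsMapOn E R (extFun (ν : MulAut R)) :=
      isMapOn_of_lt_extender F E hRr hIH ν.2 htE htR
    have hlE : IsMapOn E R (extFun (l : MulAut R)) := h2 R hRS l l.2 ((hLmem l).1 hl)
    have hcomp := hlE.comp hνE (fun x hx => extFun_mem _ hx)
    refine hcomp.congr fun x hx => ?_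
    have h4 : α = (ν : MulAut R) * (l : MulAut R) := by
      have := congrArg Subtype.val hαeq
      exact this
    rw [h4, extFun_mul _ _ hx]
    rfl

/-! ### Lifting maps modulo a strongly closed subgroup -/

/-- Elements of `P ⊔ T` are products, when `P` normalizes `T`. -/
theorem mem_sup_iff_exists_mul {P T : Subgroup Ω} (hPN : P ≤ Subgroup.normalizer (T : Set Ω)) (y : Ω) :
    y ∈ P ⊔ T ↔ ∃ x ∈ P, ∃ t ∈ T, y = x * t := by
  have hmul : ((P ⊔ T : Subgroup Ω) : Set Ω) = (P : Set Ω) * (T : Set Ω) :=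
    Subgroup.coe_mul_of_left_le_normalizer_right P T hPN
  constructor
  · intro hy
    have hy' : y ∈ (P : Set Ω) * (T : Set Ω) := by
      rw [← hmul]
      exact hy
    obtain ⟨x, hx, t, ht, rfl⟩ := Set.mem_mul.1 hy'
    exact ⟨x, hx, t, ht, rfl⟩
  · rintro ⟨x, hx, t, ht, rfl⟩
    exact Subgroup.mul_mem_sup hx ht

/-- A map of the system sends the elements of a strongly closed subgroup into it. -/
theorem IsMapOn.mem_stronglyClosed {F : FusionSystem S} {T Q : Subgroup Ω} (hT : F.StronglyClosed T)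
    {g : Ω → Ω} (hg : IsMapOn F Q g) {x : Ω} (hxQ : x ∈ Q) (hxT : x ∈ T) : g x ∈ T := by
  obtain ⟨φ, hφ, hφg⟩ := hg
  have h2 := restrict_mem F hφ (inf_le_left : Q ⊓ T ≤ Q)
  have h3 := hT.2 (Q ⊓ T) inf_le_right _ h2 ⟨x, ⟨hxQ, hxT⟩⟩
  rw [← hφg ⟨x, hxQ⟩]
  exact h3

/-- A map of the system defined on a subgroup containing the finite strongly closed subgroup `T` maps `T` onto
`T`. -/
theorem IsMapOn.surjOn_stronglyClosed {F : FusionSystem S} [Finite S] {T Q : Subgroup Ω}
    (hT : F.StronglyClosed T) {g : Ω → Ω} (hg : IsMapOn F Q g) (hTQ : T ≤ Q) {t : Ω} (ht : t ∈ T) :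
    ∃ t' ∈ T, g t' = t := by
  have hfinT : Finite T := Finite.of_injective (Subgroup.inclusion hT.1) (Subgroup.inclusion_injective hT.1)
  let f : T → T := fun y => ⟨g y, IsMapOn.mem_stronglyClosed hT hg (hTQ y.2) y.2⟩
  have hinj : Function.Injective f := by
    intro a b hab
    have h1 : g a = g b := congrArg Subtype.val hab
    exact Subtype.ext (hg.injOn (hTQ a.2) (hTQ b.2) h1)
  obtain ⟨t', ht'⟩ := (Finite.injective_iff_surjective.1 hinj) ⟨t, ht⟩
  exact ⟨t', t'.2, congrArg Subtype.val ht'⟩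

/-- The function `f` on `P` has a lift modulo `T`: a map of the system on `P ⊔ T` agreeing with `f` modulo `T`. -/
def HasLift (F : FusionSystem S) (T P : Subgroup Ω) (f : Ω → Ω) : Prop :=
  ∃ g : Ω → Ω, IsMapOn F (P ⊔ T) g ∧ ∀ x ∈ P, (f x)⁻¹ * g x ∈ T

/-- The maps of `F` that have a lift modulo the strongly closed subgroup `T` form a fusion system over `S`. -/
def liftSystem (F : FusionSystem S) [Finite S] (T : Subgroup Ω) (hT : F.StronglyClosed T) :
    FusionSystem S where
  Hom P := {φ | φ ∈ F.Hom P ∧ HasLift F T P (extHom φ)}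
  le_of_mem h := F.le_of_mem h.1
  injective_of_mem h := F.injective_of_mem h.1
  conj_mem := by
    intro P a hP ha
    refine ⟨F.conj_mem hP ha, fun x => a * x * a⁻¹, IsMapOn.conj F (sup_le hP hT.1) ha, fun x hx => ?_⟩
    rw [extHom_apply _ hx]
    show (a * x * a⁻¹)⁻¹ * (a * x * a⁻¹) ∈ T
    rw [inv_mul_cancel]
    exact T.one_mem
  comp_mem := by
    rintro P Q φ ψ ⟨hφ, g, hg, hgφ⟩ ⟨hψ, g₂, hg₂, hgψ⟩ h
    have hPS : P ≤ S := hom_le F hφ
    have hnormT : S ≤ Subgroup.normalizer (T : Set Ω) := stronglyClosed_le_normalizer hT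
    refine ⟨F.comp_mem hφ hψ h, g₂ ∘ g, hg.comp hg₂ ?_, fun x hx => ?_⟩
    · intro y hy
      obtain ⟨x, hx, t, ht, rfl⟩ := (mem_sup_iff_exists_mul (hPS.trans hnormT) y).1 hy
      rw [hg.map_mul (le_sup_left (a := P) hx) (le_sup_right (b := T) ht)]
      have h1 : g x = extHom φ x * ((extHom φ x)⁻¹ * g x) := by group
      rw [h1]
      refine (Q ⊔ T).mul_mem (Subgroup.mul_mem_sup ?_ (hgφ x hx))
        (le_sup_right (a := Q) (IsMapOn.mem_stronglyClosed hT hg (le_sup_right (b := T) ht) ht))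
      rw [extHom_apply _ hx]
      exact h ⟨x, hx⟩
    · have hφQ : extHom φ x ∈ Q := by
        rw [extHom_apply _ hx]
        exact h ⟨x, hx⟩
      have h1 : g x = extHom φ x * ((extHom φ x)⁻¹ * g x) := by group
      have h2 : extHom (ψ.comp (φ.codRestrict Q h)) x = extHom ψ (extHom φ x) := by
        rw [extHom_apply _ hx, extHom_apply _ hφQ]
        simp only [MonoidHom.comp_apply]
        congr 1
        apply Subtype.ext
        simp only [MonoidHom.codRestrict_apply]
        rw [extHom_apply _ hx]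
      rw [h2, Function.comp_apply, h1,
        hg₂.map_mul (le_sup_left (a := Q) hφQ) (le_sup_right (b := T) (hgφ x hx)), ← mul_assoc]
      exact T.mul_mem (hgψ _ hφQ)
        (IsMapOn.mem_stronglyClosed hT hg₂ (le_sup_right (b := T) (hgφ x hx)) (hgφ x hx))
  inv_mem := by
    rintro P φ ⟨hφ, g, hg, hgφ⟩
    have hPS : P ≤ S := hom_le F hφ
    have hnormT : S ≤ Subgroup.normalizer (T : Set Ω) := stronglyClosed_le_normalizer hT
    obtain ⟨χ, hχ, hχφ⟩ := F.inv_mem hφ
    have hrS : φ.range ≤ S := hom_le F hχ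
    have hgP : ∀ x ∈ P, g x = extHom φ x * ((extHom φ x)⁻¹ * g x) := fun x _ => by group
    have hφr : ∀ x (hx : x ∈ P), extHom φ x ∈ φ.range := fun x hx => by
      rw [extHom_apply _ hx]
      exact ⟨_, rfl⟩
    have hQ : ∀ y, y ∈ φ.range ⊔ T ↔ ∃ x ∈ P ⊔ T, g x = y := by
      intro y
      constructor
      · intro hy
        obtain ⟨a, ha, t, ht, rfl⟩ := (mem_sup_iff_exists_mul (hrS.trans hnormT) y).1 hy
        obtain ⟨x₀, rfl⟩ := ha
        have h1 : ((extHom φ x₀)⁻¹ * g x₀)⁻¹ * t ∈ T := T.mul_mem (T.inv_mem (hgφ x₀ x₀.2)) ht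
        obtain ⟨t', ht', hgt'⟩ := IsMapOn.surjOn_stronglyClosed hT hg le_sup_right h1
        refine ⟨x₀ * t', Subgroup.mul_mem_sup x₀.2 ht', ?_⟩
        rw [hg.map_mul (le_sup_left (a := P) x₀.2) (le_sup_right (b := T) ht'), hgt', extHom_coe]
        group
      · rintro ⟨x, hx, rfl⟩
        obtain ⟨a, ha, t, ht, rfl⟩ := (mem_sup_iff_exists_mul (hPS.trans hnormT) x).1 hx
        rw [hg.map_mul (le_sup_left (a := P) ha) (le_sup_right (b := T) ht), hgP a ha]
        exact (φ.range ⊔ T).mul_mem (Subgroup.mul_mem_sup (hφr a ha) (hgφ a ha))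
          (le_sup_right (a := φ.range)
            (IsMapOn.mem_stronglyClosed hT hg (le_sup_right (b := T) ht) ht))
    obtain ⟨g', hg', hg'g, -, -⟩ := hg.inv hQ
    refine ⟨χ, ⟨hχ, g', hg', ?_⟩, hχφ⟩
    rintro _ ⟨x₀, rfl⟩
    have hmem : φ x₀ ∈ φ.range := ⟨x₀, rfl⟩
    rw [extHom_apply _ hmem, hχφ x₀]
    set t₁ := (extHom φ x₀)⁻¹ * g x₀ with ht₁
    have ht₁T : t₁ ∈ T := hgφ x₀ x₀.2
    have h1 : φ x₀ = g x₀ * t₁⁻¹ := by
      rw [ht₁, extHom_coe]
      group
    have hgx₀ : g x₀ ∈ φ.range ⊔ T := (hQ _).2 ⟨x₀, le_sup_left (a := P) x₀.2, rfl⟩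
    rw [h1, hg'.map_mul hgx₀ (le_sup_right (a := φ.range) (T.inv_mem ht₁T)),
      hg'g _ (le_sup_left (a := P) x₀.2), ← mul_assoc, inv_mul_cancel, one_mul]
    exact IsMapOn.mem_stronglyClosed hT hg' (le_sup_right (a := φ.range) (T.inv_mem ht₁T))
      (T.inv_mem ht₁T)

/-- Every map of a saturated fusion system lifts modulo a strongly closed subgroup `T`: for a map `f` on `P` there
is a map `g` of the system on `P ⊔ T` with `g x ∈ f x * T` for all `x ∈ P`. -/
theorem exists_lift (F : FusionSystem S) [Finite S] {p : ℕ} [Fact p.Prime] (hS : IsPGroup p S)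
    (hF : F.IsSaturated p) {T : Subgroup Ω} (hT : F.StronglyClosed T) {P : Subgroup Ω} {f : Ω → Ω}
    (hf : IsMapOn F P f) : HasLift F T P f := by
  have key := alperin_mod_stronglyClosed F hS hF hT (liftSystem F T hT) ?_ ?_ P f hf
  · obtain ⟨φ', ⟨-, g, hg, hgφ⟩, hφ'f⟩ := key
    refine ⟨g, hg, fun x hx => ?_⟩
    have := hgφ x hx
    rwa [extHom_apply _ hx, hφ'f ⟨x, hx⟩] at this
  · intro R hTR hRa _ α hα
    have hRS : R ≤ S := hRa.1
    have h1 : autHom α ∈ F.Hom R := (mem_autGroup_iff' F hRS α).1 hα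
    refine ⟨autHom α, ⟨h1, extFun α, ?_, fun x hx => ?_⟩, fun x => (extFun_coe α x).symm⟩
    · rw [sup_eq_left.2 hTR]
      exact ⟨autHom α, h1, fun x => (extFun_coe α x).symm⟩
    · rw [extHom_apply _ hx, extFun_apply α hx, autHom_apply, inv_mul_cancel]
      exact T.one_mem
  · intro R hRS l hl hlT
    have h1 : autHom l ∈ F.Hom R := (mem_autGroup_iff' F hRS l).1 hl
    refine ⟨autHom l, ⟨h1, fun x => x, IsMapOn.id F (sup_le hRS hT.1), fun x hx => ?_⟩,
      fun x => (extFun_coe l x).symm⟩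
    rw [extHom_apply _ hx, autHom_apply]
    have h2 := T.inv_mem (hlT ⟨x, hx⟩)
    rwa [mul_inv_rev, inv_inv] at h2

end Cfsg.Agent.Lib.Helper87_ModT
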