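import Cfsg.Agent.Lib.Helper88_Centric

/-!
More on centric subgroups (helper88): `Q C_S(Q)` is centric for fully centralized `Q`; existence of minimal
centric subgroups; extension of automorphisms of receptive subgroups to `Q C_S(Q)`.
-/

set_option autoImplicit false

namespace Cfsg.Agent.Lib.Helper88_Centric2

open Cfsg Cfsg.FusionSystem Cfsg.Agent.Lib.Helper87_Alperin Cfsg.Agent.Lib.Helper88_Centric

variable {Ω : Type*} [Group Ω] {S : Subgroup Ω}

theorem card_eq_of_isImage {F : FusionSystem S} {P P' : Subgroup Ω} {f : Ω → Ω} (hf : IsMapOn F P f)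
    (h : IsImage P f P') : Nat.card P = Nat.card P' := by
  obtain ⟨φ, hφ, rfl⟩ := isConj_of_isImage hf h
  exact Nat.card_congr (Equiv.ofInjective φ (F.injective_of_mem hφ))

/-- For a fully centralized `Q`, the subgroup `Q C_S(Q)` is centric. -/
theorem isCentric_sup_centralizerIn {F : FusionSystem S} [Finite S] {Q : Subgroup Ω}
    (hQ : F.IsFullyCentralized Q) : F.IsCentric (Q ⊔ centralizerIn S Q) := by
  have hQS : Q ≤ S := hQ.1
  have hCS : centralizerIn S Q ≤ S := inf_le_left
  have hDS : Q ⊔ centralizerIn S Q ≤ S := sup_le hQS hCS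
  refine ⟨hDS, ?_⟩
  intro D' hDD'
  obtain ⟨f, hf, hD'⟩ := exists_isMapOn_of_isConj hDD'
  obtain ⟨Q', hQ', hQQ'⟩ := exists_isImage_of_le hf (le_sup_left : Q ≤ Q ⊔ centralizerIn S Q)
  obtain ⟨C', hC', -⟩ := exists_isImage_of_le hf (le_sup_right : centralizerIn S Q ≤ Q ⊔ centralizerIn S Q)
  have hC'le : C' ≤ centralizerIn S Q' := by
    intro y hy
    obtain ⟨c, hc, rfl⟩ := (hC' y).1 hy
    rw [mem_centralizerIn_iff] at hc ⊢
    refine ⟨hf.mem (le_sup_right (a := Q) ((mem_centralizerIn_iff S Q c).2 hc)), ?_⟩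
    intro w hw
    obtain ⟨x, hx, rfl⟩ := (hQ' w).1 hw
    have hxD : x ∈ Q ⊔ centralizerIn S Q := le_sup_left (a := Q) hx
    have hcD : c ∈ Q ⊔ centralizerIn S Q := le_sup_right (a := Q) ((mem_centralizerIn_iff S Q c).2 hc)
    rw [← hf.map_mul hxD hcD, ← hf.map_mul hcD hxD, hc.2 x hx]
  have hcard : Nat.card (centralizerIn S Q') ≤ Nat.card C' := by
    have h1 := hQ.2 Q' hQQ'
    have h2 : Nat.card (centralizerIn S Q) = Nat.card C' :=
      card_eq_of_isImage (hf.mono le_sup_right) hC'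
    rw [← h2]
    exact h1
  have hfin : Finite (centralizerIn S Q') :=
    Finite.of_injective (Subgroup.inclusion (inf_le_left : centralizerIn S Q' ≤ S))
      (Subgroup.inclusion_injective _)
  have hC'eq : C' = centralizerIn S Q' := Subgroup.eq_of_le_of_card_ge hC'le hcard
  intro s hs
  rw [mem_centralizerIn_iff] at hs
  have hs' : s ∈ centralizerIn S Q' := by
    rw [mem_centralizerIn_iff]
    refine ⟨hs.1, fun y hy => hs.2 y ?_⟩
    obtain ⟨x, hx, rfl⟩ := (hQ' y).1 hy
    exact hD'.mem (le_sup_left (a := Q) hx)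
  rw [← hC'eq] at hs'
  obtain ⟨c, hc, rfl⟩ := (hC' s).1 hs'
  exact hD'.mem (le_sup_right (a := Q) hc)

/-- Every centric subgroup contains a minimal centric subgroup. -/
theorem exists_minimal_centric {F : FusionSystem S} [Finite S] {D : Subgroup Ω} (hD : F.IsCentric D) :
    ∃ M : Subgroup Ω, M ≤ D ∧ F.IsCentric M ∧ ∀ R : Subgroup Ω, R < M → ¬ F.IsCentric R := by
  classical
  have hex : ∃ n : ℕ, ∃ R : Subgroup Ω, R ≤ D ∧ F.IsCentric R ∧ Nat.card R = n :=
    ⟨Nat.card D, D, le_rfl, hD, rfl⟩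
  obtain ⟨M, hMD, hMc, hMn⟩ := Nat.find_spec hex
  refine ⟨M, hMD, hMc, ?_⟩
  intro R hRM hRc
  have hMS : M ≤ S := hMc.1
  have hfinM : Finite M := Finite.of_injective (Subgroup.inclusion hMS) (Subgroup.inclusion_injective hMS)
  have h1 : Nat.card R < Nat.card M := card_lt_of_lt hRM
  have h2 : Nat.find hex ≤ Nat.card R := Nat.find_min' hex ⟨R, hRM.le.trans hMD, hRc, rfl⟩
  omega

/-- An automorphism (in the system) of a receptive subgroup `Q` extends to a map defined on `Q C_S(Q)`. -/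
theorem exists_extension_sup_centralizerIn {F : FusionSystem S} {Q : Subgroup Ω} (hQr : F.IsReceptive Q)
    {φ : Q →* Ω} (hφ : φ ∈ F.Hom Q) (hr : φ.range = Q) :
    ∃ f : Ω → Ω, IsMapOn F (Q ⊔ centralizerIn S Q) f ∧ ∀ x : Q, f x = φ x := by
  obtain ⟨ψ, hψ, hψext⟩ := hQr.2 Q φ hφ hr
  have hQS : Q ≤ S := hQr.1
  have hle : Q ⊔ centralizerIn S Q ≤ extender S Q φ := by
    refine sup_le ?_ ?_
    · intro g hg
      apply Subgroup.subset_closure
      refine ⟨hQS hg, Subgroup.le_normalizer hg, φ ⟨g, hg⟩, hom_mem F hφ _, ?_⟩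
      intro x hx
      have : (⟨g * (x : Ω) * g⁻¹, hx⟩ : Q) = ⟨g, hg⟩ * x * ⟨g, hg⟩⁻¹ := Subtype.ext rfl
      rw [this, map_mul, map_mul, map_inv]
    · intro g hg
      rw [mem_centralizerIn_iff] at hg
      apply Subgroup.subset_closure
      have hconj : ∀ x : Q, g * (x : Ω) * g⁻¹ = x := fun x => by
        rw [← hg.2 x x.2, mul_inv_cancel_right]
      refine ⟨hg.1, ?_, 1, S.one_mem, ?_⟩
      · rw [Subgroup.mem_normalizer_iff]
        intro h
        constructor
        · intro hh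
          rw [hconj ⟨h, hh⟩]
          exact hh
        · intro hh
          have h1 : g * h * g⁻¹ * g = g * (g * h * g⁻¹) := hg.2 _ hh
          have h2 : g * h = g * (g * h * g⁻¹) := by
            rw [← h1]
            group
          have h3 : h = g * h * g⁻¹ := mul_left_cancel h2
          rw [h3]
          exact hh
      · intro x hx
        have : (⟨g * (x : Ω) * g⁻¹, hx⟩ : Q) = x := Subtype.ext (hconj x)
        rw [this]
        simp
  refine ⟨extHom ψ, (isMapOn_extHom F hψ).mono hle, ?_⟩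
  intro x
  rw [extHom_apply ψ (hle (le_sup_left (a := Q) x.2))]
  exact hψext x x.2 _

end Cfsg.Agent.Lib.Helper88_Centric2
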