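import Cfsg.Agent.Lib.Helper88_Centric2
import Cfsg.Agent.Lib.Helper84_FusionEssential

/-!
Fusion systems (helper88): subsystems cut out by a predicate on the underlying functions of the maps; an essential
subgroup is proper; for a fully normalized proper subgroup `Q` of a saturated system `F` the subsystem `dropClass`
of the maps of `F` that, seen through charts `N_S(P) → N_S(Q)`, induce on `Q` an automorphism in the subgroup
generated by the automorphisms extending to strictly larger subgroups.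
-/

set_option autoImplicit false

namespace Cfsg.Agent.Lib.Helper88_Essential

open Cfsg Cfsg.FusionSystem Cfsg.Agent.Lib.Helper87_Alperin Cfsg.Agent.Lib.Helper88_Centric
  Cfsg.Agent.Lib.Helper88_Centric2 Cfsg.Agent.Lib.Helper84_FusionEssential

variable {Ω : Type*} [Group Ω] {S : Subgroup Ω}

/-! ### Subsystems given by a predicate on functions -/

theorem isImage_extHom_range {P : Subgroup Ω} (φ : P →* Ω) : IsImage P (extHom φ) φ.range := by
  intro y
  constructor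
  · rintro ⟨x, rfl⟩
    exact ⟨x, x.2, extHom_coe φ x⟩
  · rintro ⟨x, hx, rfl⟩
    exact ⟨⟨x, hx⟩, (extHom_apply φ hx).symm⟩

/-- The subsystem of `F` consisting of the maps `φ` of `F` whose underlying function satisfies the predicate `G`. -/
def subsystemOf (F : FusionSystem S) (G : Subgroup Ω → (Ω → Ω) → Prop)
    (hcongr : ∀ {P : Subgroup Ω} {f g : Ω → Ω}, G P f → (∀ x ∈ P, f x = g x) → G P g)
    (hconj : ∀ {P : Subgroup Ω} {a : Ω}, P ≤ S → a ∈ S → G P (fun x => a * x * a⁻¹))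
    (hcomp : ∀ {P R : Subgroup Ω} {f g : Ω → Ω}, IsMapOn F P f → G P f → IsMapOn F R g → G R g →
      (∀ x ∈ P, f x ∈ R) → G P (g ∘ f))
    (hinv : ∀ {P P' : Subgroup Ω} {f g : Ω → Ω}, IsMapOn F P f → G P f → IsImage P f P' →
      IsMapOn F P' g → (∀ x ∈ P, g (f x) = x) → G P' g) : FusionSystem S where
  Hom P := {φ | φ ∈ F.Hom P ∧ G P (extHom φ)}
  le_of_mem h := F.le_of_mem h.1
  injective_of_mem h := F.injective_of_mem h.1
  conj_mem {P g} hP hg := by
    refine ⟨F.conj_mem hP hg, hcongr (hconj hP hg) (fun x hx => ?_)⟩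
    rw [extHom_apply _ hx]
    rfl
  comp_mem {P Q φ ψ} hφ hψ h := by
    refine ⟨F.comp_mem hφ.1 hψ.1 h, ?_⟩
    refine hcongr (hcomp (isMapOn_extHom F hφ.1) hφ.2 (isMapOn_extHom F hψ.1) hψ.2 (fun x hx => ?_))
      (fun x hx => ?_)
    · rw [extHom_apply _ hx]
      exact h ⟨x, hx⟩
    · rw [extHom_apply _ hx, Function.comp_apply, extHom_apply _ hx, extHom_apply _ (h ⟨x, hx⟩)]
      rfl
  inv_mem {P φ} hφ := by
    obtain ⟨ψ, hψ, hψφ⟩ := F.inv_mem hφ.1
    refine ⟨ψ, ⟨hψ, hinv (isMapOn_extHom F hφ.1) hφ.2 (isImage_extHom_range φ) (isMapOn_extHom F hψ)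
      (fun x hx => ?_)⟩, hψφ⟩
    rw [extHom_apply _ hx, extHom_apply ψ ⟨⟨x, hx⟩, rfl⟩]
    exact hψφ ⟨x, hx⟩

theorem mem_subsystemOf_hom (F : FusionSystem S) (G : Subgroup Ω → (Ω → Ω) → Prop)
    (hcongr : ∀ {P : Subgroup Ω} {f g : Ω → Ω}, G P f → (∀ x ∈ P, f x = g x) → G P g)
    (hconj : ∀ {P : Subgroup Ω} {a : Ω}, P ≤ S → a ∈ S → G P (fun x => a * x * a⁻¹))
    (hcomp : ∀ {P R : Subgroup Ω} {f g : Ω → Ω}, IsMapOn F P f → G P f → IsMapOn F R g → G R g →
      (∀ x ∈ P, f x ∈ R) → G P (g ∘ f))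
    (hinv : ∀ {P P' : Subgroup Ω} {f g : Ω → Ω}, IsMapOn F P f → G P f → IsImage P f P' →
      IsMapOn F P' g → (∀ x ∈ P, g (f x) = x) → G P' g) {P : Subgroup Ω} (φ : P →* Ω) :
    φ ∈ (subsystemOf F G hcongr hconj hcomp hinv).Hom P ↔ φ ∈ F.Hom P ∧ G P (extHom φ) := Iff.rfl

theorem subsystemOf_le (F : FusionSystem S) (G : Subgroup Ω → (Ω → Ω) → Prop)
    (hcongr : ∀ {P : Subgroup Ω} {f g : Ω → Ω}, G P f → (∀ x ∈ P, f x = g x) → G P g)
    (hconj : ∀ {P : Subgroup Ω} {a : Ω}, P ≤ S → a ∈ S → G P (fun x => a * x * a⁻¹))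
    (hcomp : ∀ {P R : Subgroup Ω} {f g : Ω → Ω}, IsMapOn F P f → G P f → IsMapOn F R g → G R g →
      (∀ x ∈ P, f x ∈ R) → G P (g ∘ f))
    (hinv : ∀ {P P' : Subgroup Ω} {f g : Ω → Ω}, IsMapOn F P f → G P f → IsImage P f P' →
      IsMapOn F P' g → (∀ x ∈ P, g (f x) = x) → G P' g) :
    subsystemOf F G hcongr hconj hcomp hinv ≤ F := fun _ _ h => h.1

/-- If the predicate holds vacuously on `R`, the subsystem has the full automorphism group of `R`. -/
theorem autGroup_le_subsystemOf (F : FusionSystem S) (G : Subgroup Ω → (Ω → Ω) → Prop)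
    (hcongr : ∀ {P : Subgroup Ω} {f g : Ω → Ω}, G P f → (∀ x ∈ P, f x = g x) → G P g)
    (hconj : ∀ {P : Subgroup Ω} {a : Ω}, P ≤ S → a ∈ S → G P (fun x => a * x * a⁻¹))
    (hcomp : ∀ {P R : Subgroup Ω} {f g : Ω → Ω}, IsMapOn F P f → G P f → IsMapOn F R g → G R g →
      (∀ x ∈ P, f x ∈ R) → G P (g ∘ f))
    (hinv : ∀ {P P' : Subgroup Ω} {f g : Ω → Ω}, IsMapOn F P f → G P f → IsImage P f P' →
      IsMapOn F P' g → (∀ x ∈ P, g (f x) = x) → G P' g) {R : Subgroup Ω} (hRS : R ≤ S)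
    (hR : ∀ f : Ω → Ω, IsMapOn F R f → G R f) :
    F.autGroup R ≤ (subsystemOf F G hcongr hconj hcomp hinv).autGroup R := by
  intro α hα
  have h1 := (mem_autGroup_iff' F hRS α).1 hα
  apply Subgroup.subset_closure
  exact ⟨h1, hR _ (isMapOn_extHom F h1)⟩

/-! ### Essential subgroups are proper -/

theorem autInducedBy_self_eq_inn (S : Subgroup Ω) : autInducedBy S S = Inn S := by
  apply le_antisymm
  · intro α hα
    obtain ⟨g, hg, hα⟩ := (mem_autInducedBy_iff S S α).1 hα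
    refine ⟨⟨g, hg⟩, ?_⟩
    ext x
    rw [hα]
    rfl
  · exact inn_le_autInducedBy le_rfl

/-- An essential subgroup of a saturated fusion system over `S` is a proper subgroup of `S`. -/
theorem lt_of_isEssential [Finite S] {p : ℕ} [Fact p.Prime] (hS : IsPGroup p S) (F : FusionSystem S)
    (hF : F.IsSaturated p) {Q : Subgroup Ω} (hQ : F.IsEssential p Q) : Q < S := by
  obtain ⟨-, hQn, hn, M, hM⟩ := hQ
  refine lt_of_le_of_ne hQn.1 ?_
  intro hQS
  subst hQS
  obtain ⟨-, T, hT⟩ := Cfsg.Agent.Lib.Helper84_FusionRS.IsSaturated.isFullyAutomized hS hF hQn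
  have h1 : (T : Subgroup (F.autGroup Q)) = (Inn Q).subgroupOf (F.autGroup Q) := by
    rw [hT, autInducedBy_self_eq_inn]
  have h2 := hM.1
  rw [← Subgroup.index_eq_card, ← h1] at h2
  exact T.not_dvd_index h2

/-! ### Charts -/

/-- A chart of `P` (relative to `Q`): a map of the system defined on `N_S(P)` carrying `P` onto `Q`. -/
def IsChart (F : FusionSystem S) (Q P : Subgroup Ω) (t : Ω → Ω) : Prop :=
  P ≤ S ∧ IsMapOn F (normalizerIn S P) t ∧ IsImage P t Q

theorem IsChart.isConj {F : FusionSystem S} {Q P : Subgroup Ω} {t : Ω → Ω} (h : IsChart F Q P t) :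
    F.IsConj P Q :=
  isConj_of_isImage (h.2.1.mono (le_normalizerIn h.1)) h.2.2

theorem isChart_id (F : FusionSystem S) {Q : Subgroup Ω} (hQS : Q ≤ S) : IsChart F Q Q (fun x => x) :=
  ⟨hQS, IsMapOn.id F (normalizerIn_le S Q), fun y => ⟨fun hy => ⟨y, hy, rfl⟩, fun ⟨_, hx, h⟩ => h ▸ hx⟩⟩

theorem exists_isChart [Finite S] {p : ℕ} [Fact p.Prime] (hS : IsPGroup p S) (F : FusionSystem S)
    {Q P : Subgroup Ω} (hQa : F.IsFullyAutomized p Q) (hQr : F.IsReceptive Q) (h : F.IsConj P Q) :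
    ∃ t : Ω → Ω, IsChart F Q P t := by
  obtain ⟨φ, hφ, -, hφQ⟩ := Cfsg.Agent.Lib.Helper84_FusionSat.exists_normalizer_map hS F hQa hQr h
  have hPS : P ≤ S := Cfsg.Agent.Lib.Helper84_Fusion.isConj_le_left F h
  refine ⟨extHom φ, hPS, isMapOn_extHom F hφ, ?_⟩
  intro y
  rw [← hφQ]
  constructor
  · rintro ⟨z, hz, rfl⟩
    exact ⟨z, hz, extHom_coe φ z⟩
  · rintro ⟨x, hx, rfl⟩
    have hxN : x ∈ normalizerIn S P := le_normalizerIn hPS hx
    exact ⟨⟨x, hxN⟩, hx, (extHom_apply φ hxN).symm⟩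

/-- **Key lemma.** A map `f` of the system defined on `N`, where `P < N ≤ N_S(P)`, seen through charts of `P` and
of `f(P)`, induces on `Q` an automorphism that extends to a strictly larger subgroup. -/
theorem exists_mem_extSet_of_isChart [Finite S] {F : FusionSystem S} {Q P P' N : Subgroup Ω}
    {f t t' : Ω → Ω} (hf : IsMapOn F N f) (hPN : P < N) (hNP : N ≤ normalizerIn S P)
    (hP' : IsImage P f P') (ht : IsChart F Q P t) (ht' : IsChart F Q P' t') :
    ∃ α ∈ extSet F Q, ∀ x ∈ P, extFun α (t x) = t' (f x) := by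
  obtain ⟨hPS, htm, hti⟩ := ht
  obtain ⟨hP'S, ht'm, ht'i⟩ := ht'
  have hfN : ∀ g ∈ N, f g ∈ normalizerIn S P' := fun g hg =>
    ⟨hf.mem hg, map_mem_normalizer hf hPN.le hP' hg (hNP hg).2⟩
  have hu : IsMapOn F N (t' ∘ f) := hf.comp ht'm hfN
  have htN : IsMapOn F N t := htm.mono hNP
  obtain ⟨N₁, hN₁, -⟩ := exists_isImage htN
  obtain ⟨s, hs, hst, hsN, hts⟩ := htN.inv hN₁
  have hv : IsMapOn F N₁ ((t' ∘ f) ∘ s) := hs.comp hu hsN
  have hQN₁ : Q ≤ N₁ := by
    intro y hy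
    obtain ⟨x, hx, rfl⟩ := (hti y).1 hy
    exact hN₁.mem (hPN.le hx)
  have hlt : Q < N₁ := by
    refine lt_of_le_of_ne hQN₁ ?_
    intro heq
    obtain ⟨g, hgN, hgP⟩ := SetLike.exists_of_lt hPN
    have h1 : t g ∈ Q := heq ▸ hN₁.mem hgN
    obtain ⟨x, hx, hxg⟩ := (hti _).1 h1
    have := htN.injOn (hPN.le hx) hgN hxg
    exact hgP (this ▸ hx)
  have hsQ : ∀ y ∈ Q, s y ∈ P := by
    intro y hy
    obtain ⟨x, hx, rfl⟩ := (hti y).1 hy
    rw [hst x (hPN.le hx)]
    exact hx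
  have hvQ : ∀ y ∈ Q, ((t' ∘ f) ∘ s) y ∈ Q := fun y hy => ht'i.mem (hP'.mem (hsQ y hy))
  obtain ⟨β, hβ, hβv⟩ := exists_aut_of_isMapOn (hv.mono hQN₁) hvQ
  refine ⟨β, ?_, ?_⟩
  · obtain ⟨φ, hφ, hφv⟩ := hv
    exact ⟨N₁, hlt, φ, hφ, fun x => by rw [hφv]; exact (hβv x).symm⟩
  · intro x hx
    have htx : t x ∈ Q := hti.mem hx
    rw [extFun_apply β htx, hβv]
    show t' (f (s (t x))) = _
    rw [hst x (hPN.le hx)]

/-! ### The relation -/

/-- The function `f` on `P`, seen through any charts of `P` and of its image, induces on `Q` an element of the subgroup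
generated by the automorphisms of `Q` extending to strictly larger subgroups. -/
def Rel (F : FusionSystem S) (Q P : Subgroup Ω) (f : Ω → Ω) : Prop :=
  ∀ (P' : Subgroup Ω) (t t' : Ω → Ω), IsImage P f P' → IsChart F Q P t → IsChart F Q P' t' →
    ∃ α ∈ extClosure F Q, ∀ x ∈ P, extFun α (t x) = t' (f x)

theorem Rel.congr {F : FusionSystem S} {Q P : Subgroup Ω} {f g : Ω → Ω} (h : Rel F Q P f)
    (hfg : ∀ x ∈ P, f x = g x) : Rel F Q P g := by
  intro P' t t' hP' ht ht'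
  have hP'f : IsImage P f P' := fun y => by
    rw [hP' y]
    constructor
    · rintro ⟨x, hx, rfl⟩
      exact ⟨x, hx, hfg x hx⟩
    · rintro ⟨x, hx, rfl⟩
      exact ⟨x, hx, (hfg x hx).symm⟩
  obtain ⟨α, hα, h'⟩ := h P' t t' hP'f ht ht'
  exact ⟨α, hα, fun x hx => by rw [h' x hx, hfg x hx]⟩

/-- A map that extends to a strictly larger subgroup satisfies the relation. -/
theorem rel_of_lt [Finite S] {p : ℕ} [Fact p.Prime] (hS : IsPGroup p S) {F : FusionSystem S}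
    {Q P N : Subgroup Ω} {f : Ω → Ω} (hf : IsMapOn F N f) (hPN : P < N) : Rel F Q P f := by
  intro P' t t' hP' ht ht'
  have hNS : N ≤ S := hf.le
  have hfinN : Finite N := Cfsg.Agent.Lib.Helper84_FusionRS.finite_of_le_S hNS
  have hlt : P < N ⊓ normalizerIn S P := by
    have h1 := Cfsg.Agent.Lib.Helper84_FusionAlperin.lt_normalizerIn (S := N) (hS.to_le hNS) hPN
    refine lt_of_lt_of_le h1 ?_
    exact le_inf inf_le_left (le_inf (inf_le_left.trans hNS) inf_le_right)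
  obtain ⟨α, hα, h⟩ := exists_mem_extSet_of_isChart (hf.mono inf_le_left) hlt inf_le_right hP' ht ht'
  exact ⟨α, Subgroup.subset_closure hα, h⟩

theorem rel_conj [Finite S] {p : ℕ} [Fact p.Prime] (hS : IsPGroup p S) {F : FusionSystem S}
    {Q P : Subgroup Ω} (hQS : Q < S) (hPS : P ≤ S) {a : Ω} (ha : a ∈ S) :
    Rel F Q P (fun x => a * x * a⁻¹) := by
  by_cases h : P = S
  · intro P' t t' hP' ht ht'
    exfalso
    have h1 := card_eq_of_isImage (ht.2.1.mono (le_normalizerIn ht.1)) ht.2.2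
    rw [h] at h1
    exact absurd h1.symm (ne_of_lt (Cfsg.Agent.Lib.Helper84_FusionAlperin.card_lt_card_of_lt le_rfl hQS))
  · exact rel_of_lt hS (IsMapOn.conj F le_rfl ha) (lt_of_le_of_ne hPS h)

theorem Rel.comp [Finite S] {p : ℕ} [Fact p.Prime] (hS : IsPGroup p S) {F : FusionSystem S}
    {Q P R : Subgroup Ω} {f g : Ω → Ω} (hQa : F.IsFullyAutomized p Q) (hQr : F.IsReceptive Q)
    (hf : IsMapOn F P f) (hrf : Rel F Q P f) (hg : IsMapOn F R g) (hrg : Rel F Q R g)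
    (hfR : ∀ x ∈ P, f x ∈ R) : Rel F Q P (g ∘ f) := by
  intro P'' t t'' hP'' ht ht''
  obtain ⟨P', hP', -⟩ := exists_isImage hf
  have hP'R : P' ≤ R := by
    intro y hy
    obtain ⟨x, hx, rfl⟩ := (hP' y).1 hy
    exact hfR x hx
  have hP'conj : F.IsConj P' Q :=
    isConj_trans (Cfsg.Agent.Lib.Helper84_Fusion.isConj_symm F (isConj_of_isImage hf hP')) ht.isConj
  obtain ⟨t', ht'⟩ := exists_isChart hS F hQa hQr hP'conj
  have hgP' : IsImage P' g P'' := by
    intro y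
    rw [hP'' y]
    constructor
    · rintro ⟨x, hx, rfl⟩
      exact ⟨f x, hP'.mem hx, rfl⟩
    · rintro ⟨z, hz, rfl⟩
      obtain ⟨x, hx, rfl⟩ := (hP' z).1 hz
      exact ⟨x, hx, rfl⟩
  obtain ⟨α, hα, hα'⟩ := hrf P' t t' hP' ht ht'
  have hrg' : Rel F Q P' g := by
    by_cases h : P' = R
    · rw [h]
      exact hrg
    · exact rel_of_lt hS hg (lt_of_le_of_ne hP'R h)
  obtain ⟨β, hβ, hβ'⟩ := hrg' P'' t' t'' hgP' ht' ht''
  refine ⟨β * α, (extClosure F Q).mul_mem hβ hα, fun x hx => ?_⟩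
  rw [extFun_mul _ _ (ht.2.2.mem hx), hα' x hx, hβ' (f x) (hP'.mem hx)]
  rfl

theorem Rel.inv {F : FusionSystem S} {Q P P' : Subgroup Ω} {f g : Ω → Ω}
    (hrf : Rel F Q P f) (hP' : IsImage P f P') (hgf : ∀ x ∈ P, g (f x) = x) : Rel F Q P' g := by
  intro P₂ t' t₂ hP₂ ht' ht₂
  have hP₂P : P₂ = P := by
    ext y
    rw [hP₂ y]
    constructor
    · rintro ⟨z, hz, rfl⟩
      obtain ⟨x, hx, rfl⟩ := (hP' z).1 hz
      rw [hgf x hx]
      exact hx
    · intro hy
      exact ⟨f y, hP'.mem hy, hgf y hy⟩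
  subst hP₂P
  obtain ⟨α, hα, hα'⟩ := hrf P' t₂ t' hP' ht₂ ht'
  refine ⟨α⁻¹, (extClosure F Q).inv_mem hα, fun y hy => ?_⟩
  obtain ⟨x, hx, rfl⟩ := (hP' y).1 hy
  rw [hgf x hx, ← hα' x hx, extFun_inv_apply α (ht₂.2.2.mem hx)]

/-! ### The subsystem leaving out the class of `Q` -/

/-- For a fully automized, receptive proper subgroup `Q`: the subsystem of `F` of the maps that, through charts,
induce on `Q` automorphisms in the subgroup generated by those extending to strictly larger subgroups. -/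
noncomputable def dropClass [Finite S] {p : ℕ} [Fact p.Prime] (hS : IsPGroup p S) (F : FusionSystem S)
    (Q : Subgroup Ω) (hQS : Q < S) (hQa : F.IsFullyAutomized p Q) (hQr : F.IsReceptive Q) : FusionSystem S :=
  subsystemOf F (Rel F Q) (fun h hfg => h.congr hfg) (fun hP ha => rel_conj hS hQS hP ha)
    (fun hf hrf hg hrg h => Rel.comp hS hQa hQr hf hrf hg hrg h)
    (fun _ hrf hP' _ hgf => Rel.inv hrf hP' hgf)

theorem autGroup_le_dropClass [Finite S] {p : ℕ} [Fact p.Prime] (hS : IsPGroup p S) (F : FusionSystem S)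
    (Q : Subgroup Ω) (hQS : Q < S) (hQa : F.IsFullyAutomized p Q) (hQr : F.IsReceptive Q)
    {R : Subgroup Ω} (hRS : R ≤ S) (hR : ¬ F.IsConj Q R) :
    F.autGroup R ≤ (dropClass hS F Q hQS hQa hQr).autGroup R := by
  apply autGroup_le_subsystemOf F _ _ _ _ _ hRS
  intro f _ P' t t' _ ht _
  exact absurd (Cfsg.Agent.Lib.Helper84_Fusion.isConj_symm F ht.isConj) hR

theorem not_le_dropClass [Finite S] {p : ℕ} [Fact p.Prime] (hS : IsPGroup p S) (F : FusionSystem S)
    (Q : Subgroup Ω) (hQS : Q < S) (hQa : F.IsFullyAutomized p Q) (hQr : F.IsReceptive Q)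
    (hne : extClosure F Q ≠ F.autGroup Q) : ¬ F ≤ dropClass hS F Q hQS hQa hQr := by
  intro hle
  apply hne
  refine le_antisymm (extClosure_le_autGroup F) ?_
  intro α hα
  have h1 := (mem_autGroup_iff' F hQS.le α).1 hα
  have h2 := hle Q h1
  have h3 : Rel F Q Q (extHom (Q.subtype.comp α.toMonoidHom)) := h2.2
  have himg : IsImage Q (extHom (Q.subtype.comp α.toMonoidHom)) Q := by
    intro y
    constructor
    · intro hy
      refine ⟨(α⁻¹ ⟨y, hy⟩ : Q), (α⁻¹ ⟨y, hy⟩).2, ?_⟩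
      rw [extHom_coe]
      simp
    · rintro ⟨x, hx, rfl⟩
      rw [extHom_apply _ hx]
      exact (α ⟨x, hx⟩).2
  obtain ⟨β, hβ, hβα⟩ := h3 Q _ _ himg (isChart_id F hQS.le) (isChart_id F hQS.le)
  have : α = β := by
    ext x
    have := hβα x x.2
    rw [extFun_coe, extHom_coe] at this
    exact this.symm
  rw [this]
  exact hβ

end Cfsg.Agent.Lib.Helper88_Essential
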