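import Cfsg.Agent.Lib.Helper47_PClosed

set_option autoImplicit false

namespace Cfsg.Agent.Lib.Helper47_Quot

open Cfsg
open Cfsg.Agent.Lib.Helper47_PLocal Cfsg.Agent.Lib.Helper47_PReduced Cfsg.Agent.Lib.Helper47_SubAPI
open Cfsg.Agent.Lib.Helper47_PClosed
open scoped commutatorElement Pointwise

variable {G : Type*} [Group G] {p : ℕ}

/-! ### `O^p` and homomorphisms -/

theorem map_pResidual_le {G' : Type*} [Group G'] (f : G →* G') :
    (Cfsg.pResidual p G).map f ≤ Cfsg.pResidual p G' := by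
  have h0 : Cfsg.pResidual p G = Subgroup.closure {g : G | Nat.Coprime (orderOf g) p} := rfl
  rw [h0, MonoidHom.map_closure, Subgroup.closure_le]
  rintro _ ⟨g, hg, rfl⟩
  apply mem_pResidual_of_coprime
  exact Nat.Coprime.coprime_dvd_left (orderOf_map_dvd f g) hg

theorem pResidual_le_map_of_surjective [Finite G] [Fact p.Prime] {G' : Type*} [Group G']
    {f : G →* G'} (hf : Function.Surjective f) :
    Cfsg.pResidual p G' ≤ (Cfsg.pResidual p G).map f := by
  have h0 : Cfsg.pResidual p G' = Subgroup.closure {g : G' | Nat.Coprime (orderOf g) p} := rfl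
  rw [h0, Subgroup.closure_le]
  intro y hy
  obtain ⟨g, rfl⟩ := hf y
  obtain ⟨k, hk⟩ := exists_pow_mem_pResidual (p := p) g
  have hy' : (orderOf (f g)).Coprime p := hy
  refine mem_of_pow_mem_of_pow_mem_of_coprime (a := p ^ k) (b := orderOf (f g))
    (Nat.Coprime.pow_left k hy'.symm) ?_ ?_
  · rw [← map_pow]; exact Subgroup.mem_map_of_mem _ hk
  · rw [pow_orderOf_eq_one]; exact Subgroup.one_mem _

/-! ### Quotients by a normal `p`-subgroup -/

theorem comap_pCore_quotient (D : Subgroup G) [D.Normal] (hD : IsPGroup p D) :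
    (Cfsg.pCore p (G ⧸ D)).comap (QuotientGroup.mk' D) = Cfsg.pCore p G := by
  apply le_antisymm
  · apply le_pCore (Subgroup.Normal.comap inferInstance _)
    apply (pCore_isPGroup p (G ⧸ D)).comap_of_ker_isPGroup
    rw [QuotientGroup.ker_mk']; exact hD
  · rw [← Subgroup.map_le_iff_le_comap]
    exact le_pCore (Subgroup.Normal.map inferInstance _ (QuotientGroup.mk'_surjective D))
      ((pCore_isPGroup p G).map _)

theorem map_pCore_le_pCore_quotient (D : Subgroup G) [D.Normal] :
    (Cfsg.pCore p G).map (QuotientGroup.mk' D) ≤ Cfsg.pCore p (G ⧸ D) :=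
  le_pCore (Subgroup.Normal.map inferInstance _ (QuotientGroup.mk'_surjective D))
    ((pCore_isPGroup p G).map _)

/-- A preimage of a `p`-element modulo a `p`-group is a `p`-element. -/
theorem exists_pow_eq_one_of_map {D : Subgroup G} [D.Normal] (hD : IsPGroup p D) {g : G}
    (h : ∃ k : ℕ, (QuotientGroup.mk' D g) ^ (p ^ k) = 1) : ∃ k : ℕ, g ^ (p ^ k) = 1 := by
  obtain ⟨k, hk⟩ := h
  rw [← map_pow] at hk
  have h1 : g ^ (p ^ k) ∈ D := (QuotientGroup.eq_one_iff _).mp hk
  obtain ⟨j, hj⟩ := exists_pow_eq_one_of_mem hD h1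
  exact ⟨k + j, by rw [pow_add, pow_mul, hj]⟩

theorem isPClosed_quotient_iff [Finite G] [Fact p.Prime] (D : Subgroup G) [D.Normal]
    (hD : IsPGroup p D) : Cfsg.IsPClosed p (G ⧸ D) ↔ Cfsg.IsPClosed p G := by
  rw [isPClosed_iff_forall_mem_pCore, isPClosed_iff_forall_mem_pCore]
  constructor
  · intro h g hg
    rw [← comap_pCore_quotient D hD, Subgroup.mem_comap]
    apply h
    obtain ⟨k, hk⟩ := hg
    exact ⟨k, by rw [← map_pow, hk, map_one]⟩
  · intro h x hx
    obtain ⟨g, rfl⟩ := QuotientGroup.mk'_surjective D x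
    exact map_pCore_le_pCore_quotient D
      (Subgroup.mem_map_of_mem _ (h g (exists_pow_eq_one_of_map hD hx)))

theorem isPClosed_map_iff [Finite G] [Fact p.Prime] (D : Subgroup G) [D.Normal]
    (hD : IsPGroup p D) (N : Subgroup G) :
    Cfsg.IsPClosed p (N.map (QuotientGroup.mk' D)) ↔ Cfsg.IsPClosed p N := by
  rw [isPClosed_subgroup_iff, isPClosed_subgroup_iff]
  constructor
  · intro h g hgN hg
    have h1 : QuotientGroup.mk' D g ∈ Cfsg.pCoreOf p (N.map (QuotientGroup.mk' D)) := by
      apply h _ (Subgroup.mem_map_of_mem _ hgN)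
      obtain ⟨k, hk⟩ := hg
      exact ⟨k, by rw [← map_pow, hk, map_one]⟩
    have hQ : (Cfsg.pCoreOf p (N.map (QuotientGroup.mk' D))).comap (QuotientGroup.mk' D) ⊓ N ≤
        Cfsg.pCoreOf p N := by
      apply le_pCoreOf inf_le_right
      · refine (le_inf ?_ Subgroup.le_normalizer).trans (normalizer_inf_le_normalizer_inf _ _)
        have h2 : N ≤ (N.map (QuotientGroup.mk' D)).comap (QuotientGroup.mk' D) :=
          Subgroup.le_comap_map _ _
        have h3 := Subgroup.comap_mono (f := QuotientGroup.mk' D)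
          (le_normalizer_pCoreOf (p := p) (N.map (QuotientGroup.mk' D)))
        exact h2.trans (h3.trans (Subgroup.le_normalizer_comap _))
      · apply IsPGroup.to_le _ inf_le_left
        apply (isPGroup_pCoreOf _).comap_of_ker_isPGroup
        rw [QuotientGroup.ker_mk']; exact hD
    exact hQ ⟨h1, hgN⟩
  · rintro h _ ⟨g, hgN, rfl⟩ hx
    have h1 := h g hgN (exists_pow_eq_one_of_map hD hx)
    have hQ : (Cfsg.pCoreOf p N).map (QuotientGroup.mk' D) ≤
        Cfsg.pCoreOf p (N.map (QuotientGroup.mk' D)) := by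
      apply le_pCoreOf (Subgroup.map_mono (pCoreOf_le N))
      · exact (Subgroup.map_mono (le_normalizer_pCoreOf N)).trans (Subgroup.le_normalizer_map _)
      · exact (isPGroup_pCoreOf N).map _
    exact hQ (Subgroup.mem_map_of_mem _ h1)

end Cfsg.Agent.Lib.Helper47_Quot
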