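import Cfsg.Agent.S5092
import Cfsg.Agent.Lib.Helper85_GroupFusion
import Cfsg.Agent.Lib.Helper47_Quot
import Cfsg.Agent.Lib.Helper2_PResidual
import Cfsg.Agent.Lib.Helper1_Frattini
import Mathlib.GroupTheory.Focal

/-!
Ingredients for the hyperfocal subgroup theorem (helper84).
-/

set_option autoImplicit false

namespace Cfsg.Agent.Lib.Helper84_Hyperfocal

open Cfsg Cfsg.FusionSystem Cfsg.Agent.Lib.Helper85_Fusion Cfsg.Agent.Lib.Helper85_GroupFusion
open scoped commutatorElement

variable {G : Type*} [Group G]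

/-- `O^p(O^p(G)) = O^p(G)`. -/
theorem pResidual_pResidual_eq_top (p : ℕ) : pResidual p ↥(pResidual p G) = ⊤ := by
  have h : pResidual p G ≤ (pResidual p ↥(pResidual p G)).map (pResidual p G).subtype := by
    calc pResidual p G = Subgroup.closure {g : G | Nat.Coprime (orderOf g) p} := rfl
      _ ≤ _ := by
        rw [Subgroup.closure_le]
        intro g hg
        have hgK : g ∈ pResidual p G := Subgroup.subset_closure hg
        refine ⟨⟨g, hgK⟩, Subgroup.subset_closure ?_, rfl⟩
        show Nat.Coprime (orderOf (⟨g, hgK⟩ : pResidual p G)) p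
        rw [Subgroup.orderOf_mk]
        exact hg
  rw [eq_top_iff]
  intro x _
  obtain ⟨y, hy, hyx⟩ := h x.2
  have : y = x := Subtype.ext hyx
  rwa [← this]

/-- In a finite `p`-group, a subgroup that generates the group together with the derived subgroup
is the whole group. -/
theorem eq_top_of_sup_commutator_eq_top {R : Type*} [Group R] [Finite R] {p : ℕ} [Fact p.Prime]
    (hR : IsPGroup p R) (H : Subgroup R) (h : H ⊔ commutator R = ⊤) : H = ⊤ := by
  apply frattini_nongenerating
  rw [eq_top_iff, ← h]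
  exact sup_le_sup_left (Helper1_Frattini.commutator_le_frattini_of_isPGroup hR) H

/-- Mathlib's focal subgroup of `T` lies in the focal subgroup of the fusion system of `G` on `T`. -/
theorem focalSubgroup_le_focal (T : Subgroup G) :
    T.focalSubgroup ≤ (groupFusionSystem T).focalSubgroup := by
  rw [Subgroup.focalSubgroup_def, Subgroup.closure_le]
  rintro g ⟨hgT, x, hxT, u, rfl⟩
  apply Subgroup.subset_closure
  have hy : x⁻¹ ∈ T := T.inv_mem hxT
  have hcy : u * x⁻¹ * u⁻¹ ∈ T := by
    have : u * x⁻¹ * u⁻¹ = x⁻¹ * ⁅x, u⁆ := by rw [commutatorElement_def]; group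
    rw [this]
    exact T.mul_mem hy hgT
  refine ⟨Subgroup.zpowers x⁻¹, conjHom _ u, ⟨x⁻¹, Subgroup.mem_zpowers _⟩,
    ⟨?_, ?_, u, fun z => rfl⟩, ?_⟩
  · rw [Subgroup.zpowers_le]
    exact hy
  · rintro ⟨z, hz⟩
    obtain ⟨k, rfl⟩ := Subgroup.mem_zpowers_iff.1 hz
    show u * (x⁻¹) ^ k * u⁻¹ ∈ T
    have : u * (x⁻¹) ^ k * u⁻¹ = (u * x⁻¹ * u⁻¹) ^ k := by
      rw [conj_zpow]
    rw [this]
    exact T.zpow_mem hcy k
  · show ⁅x, u⁆ = (x⁻¹)⁻¹ * (u * x⁻¹ * u⁻¹)
    rw [commutatorElement_def]
    group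

/-- The easy inclusion of the hyperfocal subgroup theorem. -/
theorem hyperfocal_le [Finite G] (p : ℕ) [Fact p.Prime] (S : Subgroup G) :
    (groupFusionSystem S).hyperfocalSubgroup p ≤ S ⊓ pResidual p G := by
  unfold FusionSystem.hyperfocalSubgroup
  rw [Subgroup.closure_le]
  rintro y ⟨P, α, x, hPS, hα, rfl⟩
  refine ⟨S.mul_mem (S.inv_mem (hPS x.2)) (hPS ((α : MulAut P) x).2), ?_⟩
  have hmem : ∀ n : Subgroup.normalizer (P : Set G),
      P.normalizerMonoidHom n ∈ (groupFusionSystem S).autGroup P := fun n =>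
    (group_mem_autGroup_iff hPS _).2 ⟨n, fun z => rfl⟩
  let ν : Subgroup.normalizer (P : Set G) →* (groupFusionSystem S).autGroup P :=
    P.normalizerMonoidHom.codRestrict _ hmem
  have hsurj : Function.Surjective ν := by
    rintro ⟨β, hβ⟩
    obtain ⟨g, hg⟩ := (group_mem_autGroup_iff hPS β).1 hβ
    have hgN : g ∈ Subgroup.normalizer (P : Set G) := mem_normalizer_of_aut β g hg
    refine ⟨⟨g, hgN⟩, Subtype.ext ?_⟩
    ext z
    exact (hg z).symm
  obtain ⟨n, hn, hnα⟩ := Helper47_Quot.pResidual_le_map_of_surjective hsurj hα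
  have hnK : (n : G) ∈ pResidual p G :=
    Helper47_Quot.map_pResidual_le (Subgroup.normalizer (P : Set G)).subtype ⟨n, hn, rfl⟩
  have e : (((α : MulAut P) x : P) : G) = n * x * (n : G)⁻¹ := by
    rw [← hnα]
    rfl
  show (x : G)⁻¹ * (((α : MulAut P) x : P) : G) ∈ pResidual p G
  rw [e]
  have hnorm : (pResidual p G).Normal := Helper2_PResidual.pResidual_normal
  have h1 : (x : G)⁻¹ * n * (x : G)⁻¹⁻¹ ∈ pResidual p G := hnorm.conj_mem _ hnK _
  have := (pResidual p G).mul_mem h1 ((pResidual p G).inv_mem hnK)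
  convert this using 1
  group

/-- Transport of the hyperfocal subgroup from a subgroup `K` (as a group) to `G`. -/
theorem map_hyperfocal_le (p : ℕ) (S K : Subgroup G) (R : Subgroup K)
    (hRS : R.map K.subtype ≤ S) :
    ((groupFusionSystem R).hyperfocalSubgroup p).map K.subtype ≤
      (groupFusionSystem S).hyperfocalSubgroup p := by
  unfold FusionSystem.hyperfocalSubgroup
  rw [MonoidHom.map_closure, Subgroup.closure_le]
  rintro _ ⟨y, ⟨P, α, x, hPR, hα, rfl⟩, rfl⟩
  apply Subgroup.subset_closure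
  have hP'S : P.map K.subtype ≤ S := (Subgroup.map_mono hPR).trans hRS
  let e : P ≃* P.map K.subtype := P.equivMapOfInjective K.subtype K.subtype_injective
  have he : ∀ w : P, ((e w : P.map K.subtype) : G) = ((w : K) : G) := fun w => rfl
  have hmem : ∀ β : (groupFusionSystem R).autGroup P,
      MulAut.congr e (β : MulAut P) ∈ (groupFusionSystem S).autGroup (P.map K.subtype) := by
    intro β
    obtain ⟨k, hk⟩ := (group_mem_autGroup_iff hPR (β : MulAut P)).1 β.2
    rw [group_mem_autGroup_iff hP'S]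
    refine ⟨(k : G), fun z => ?_⟩
    obtain ⟨w, rfl⟩ := e.surjective z
    show ((e ((β : MulAut P) (e.symm (e w))) : P.map K.subtype) : G) = k * (e w : G) * (k : G)⁻¹
    rw [e.symm_apply_apply, he, he]
    have := congrArg Subtype.val (hk w)
    exact this
  let Φ : (groupFusionSystem R).autGroup P →* (groupFusionSystem S).autGroup (P.map K.subtype) :=
    ((MulAut.congr e).toMonoidHom.comp (Subgroup.subtype _)).codRestrict _ hmem
  have hΦα : Φ α ∈ pResidual p ((groupFusionSystem S).autGroup (P.map K.subtype)) :=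
    Helper47_Quot.map_pResidual_le Φ ⟨α, hα, rfl⟩
  refine ⟨P.map K.subtype, Φ α, e x, hP'S, hΦα, ?_⟩
  show ((x⁻¹ * (α : MulAut P) x : K) : G) =
    (e x : G)⁻¹ * ((e ((α : MulAut P) (e.symm (e x))) : P.map K.subtype) : G)
  rw [e.symm_apply_apply]
  rfl

end Cfsg.Agent.Lib.Helper84_Hyperfocal
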