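import Cfsg.Prelude.Def_FusionReduction
import Cfsg.Agent.S5120
import Cfsg.Agent.S5111
import Cfsg.Agent.Lib.Helper87_ModT
import Cfsg.Agent.Lib.Helper87_Hyperfocal
import Cfsg.Agent.Lib.Helper84_FusionAlperin

/-!
# Residual limits of fusion systems (helper85)

* `hyperfocal_eq_of_pPower`: a subsystem `E` of `p`-power index in `F` (over a strongly closed `T`) has the same
  hyperfocal subgroup as `F`.
* `pPower_trans`: transitivity of `p`-power index.
* `limit_unique`: residual limits of a saturated system are unique (as families of maps).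
* `limit_of_pPower`: a residual limit of a saturated subsystem of `p`-power index is a residual limit of `F`.
-/

set_option autoImplicit false
set_option linter.style.haveILetI false

namespace Cfsg.Agent.Lib.Helper85_ResLimit

open Cfsg Cfsg.FusionSystem Cfsg.Agent.Lib
open Cfsg.Agent.Lib.Helper87_Alperin (IsMapOn extFun extHom)

universe u

/-! ### Coprime action: lifting fixed points -/

/-- Let `α` be an automorphism of `P` of `r`-power order, `Q ≤ P` an `α`-invariant finite subgroup of order prime to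
`r`, and `x ∈ P` with `x⁻¹ α(x) ∈ Q`.  Then `x⁻¹ α(x) = q⁻¹ α(q)` for some `q ∈ Q`. -/
theorem exists_fixed_coset {P : Type*} [Group P] (Q : Subgroup P) [Finite Q] {r a : ℕ}
    [Fact r.Prime] (hr : ¬ r ∣ Nat.card Q) (α : MulAut P) (hα : α ^ (r ^ a) = 1)
    (hQα : ∀ q ∈ Q, α q ∈ Q) (x : P) (hx : x⁻¹ * α x ∈ Q) :
    ∃ q ∈ Q, x⁻¹ * α x = q⁻¹ * α q := by
  classical
  haveI : Fintype Q := Fintype.ofFinite Q
  have hmem : ∀ q : Q, x⁻¹ * α (x * q) ∈ Q := by
    intro q
    rw [map_mul, ← mul_assoc]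
    exact Q.mul_mem hx (hQα _ q.2)
  let σ₀ : Q → Q := fun q => ⟨x⁻¹ * α (x * q), hmem q⟩
  have hinj : Function.Injective σ₀ := by
    intro q₁ q₂ h
    have h1 : x⁻¹ * α (x * q₁) = x⁻¹ * α (x * q₂) := congrArg Subtype.val h
    have h2 := α.injective (mul_left_cancel h1)
    exact Subtype.ext (mul_left_cancel h2)
  let σ : Equiv.Perm Q := Equiv.ofBijective σ₀ (Finite.injective_iff_bijective.1 hinj)
  have hpow : ∀ (m : ℕ) (q : Q), (((σ ^ m) q : Q) : P) = x⁻¹ * (α ^ m) (x * q) := by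
    intro m
    induction m with
    | zero =>
      intro q
      simp
    | succ m ih =>
      intro q
      rw [pow_succ', Equiv.Perm.mul_apply]
      show x⁻¹ * α (x * (((σ ^ m) q : Q) : P)) = _
      rw [ih q, mul_inv_cancel_left, pow_succ', MulAut.mul_apply]
  have hσ : σ ^ (r ^ a) = 1 := by
    ext q
    rw [hpow, hα]
    simp
  have hr' : ¬ r ∣ Fintype.card Q := by
    rw [← Nat.card_eq_fintype_card]
    exact hr
  obtain ⟨q, hq⟩ := Equiv.Perm.exists_fixed_point_of_prime hr' hσ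
  have hq' : x⁻¹ * α (x * q) = q := congrArg Subtype.val hq
  refine ⟨(q : P)⁻¹, Q.inv_mem q.2, ?_⟩
  rw [map_mul] at hq'
  rw [inv_inv, map_inv]
  calc x⁻¹ * α x = (x⁻¹ * (α x * α (q : P))) * (α (q : P))⁻¹ := by group
    _ = (q : P) * (α (q : P))⁻¹ := by rw [hq']

/-- Decomposition of an element of a finite group into its `r`-part and its `r'`-part. -/
theorem exists_pow_decomp' {G : Type*} [Group G] [Finite G] (r : ℕ) [hr : Fact r.Prime] (g : G) :
    ∃ a b k : ℕ, g = g ^ a * g ^ b ∧ (g ^ a) ^ (r ^ k) = 1 ∧ (orderOf (g ^ b)).Coprime r := by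
  have ho : orderOf g ≠ 0 := (orderOf_pos g).ne'
  obtain ⟨k, m, hm, hom⟩ := Nat.exists_eq_pow_mul_and_not_dvd ho r hr.out.ne_one
  have hmp : m.Coprime r := ((Nat.Prime.coprime_iff_not_dvd hr.out).2 hm).symm
  have hco : Nat.Coprime (r ^ k) m := (Nat.Coprime.pow_right k hmp).symm
  obtain ⟨a, ha1, ha0⟩ := Nat.chineseRemainder hco 1 0
  obtain ⟨b, hb0, hb1⟩ := Nat.chineseRemainder hco 0 1
  refine ⟨a, b, k, ?_, ?_, ?_⟩
  · rw [← pow_add]
    have h1 : a + b ≡ 1 [MOD orderOf g] := by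
      rw [hom, ← Nat.modEq_and_modEq_iff_modEq_mul hco]
      exact ⟨by simpa using ha1.add hb0, by simpa using ha0.add hb1⟩
    have h2 := (pow_eq_pow_iff_modEq (x := g)).2 h1
    rw [h2, pow_one]
  · rw [← pow_mul]
    apply orderOf_dvd_iff_pow_eq_one.1
    rw [hom, mul_comm a]
    exact Nat.mul_dvd_mul dvd_rfl ((Nat.modEq_zero_iff_dvd).1 ha0)
  · have hdvd : orderOf (g ^ b) ∣ m := by
      apply orderOf_dvd_of_pow_eq_one
      rw [← pow_mul]
      apply orderOf_dvd_iff_pow_eq_one.1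
      rw [hom]
      exact Nat.mul_dvd_mul ((Nat.modEq_zero_iff_dvd).1 hb0) dvd_rfl
    exact Nat.Coprime.coprime_dvd_left hdvd hmp

/-- Induction on `p'`-elements of a finite group: a multiplicative property that holds for the elements of prime power
order `r ^ k`, `r ≠ p`, holds for all elements of order prime to `p`. -/
theorem coprime_induction {G : Type*} [Group G] [Finite G] (p : ℕ) (C : G → Prop)
    (hone : C 1) (hmul : ∀ a b, C a → C b → C (a * b))
    (hpp : ∀ (g : G) (r k : ℕ), r.Prime → r ≠ p → g ^ (r ^ k) = 1 → C g) :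
    ∀ (n : ℕ) (g : G), orderOf g = n → n.Coprime p → C g := by
  intro n
  induction n using Nat.strong_induction_on with
  | _ n ih =>
    intro g hg hn
    by_cases h1 : n = 1
    · have : g = 1 := orderOf_eq_one_iff.1 (hg.trans h1)
      rw [this]
      exact hone
    · have hr : (n.minFac).Prime := Nat.minFac_prime h1
      haveI : Fact (n.minFac).Prime := ⟨hr⟩
      have hrn : n.minFac ∣ n := Nat.minFac_dvd n
      have hrp : n.minFac ≠ p := by
        intro h
        have hpn : p ∣ n := h ▸ hrn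
        have := Nat.Coprime.eq_one_of_dvd hn.symm hpn
        exact hr.one_lt.ne' (h.trans this)
      obtain ⟨a, b, k, hab, ha, hb⟩ := exists_pow_decomp' n.minFac g
      have hbn : orderOf (g ^ b) ∣ n := hg ▸ orderOf_pow_dvd b
      have hblt : orderOf (g ^ b) < n := by
        refine lt_of_le_of_ne (Nat.le_of_dvd (hg ▸ orderOf_pos g) hbn) ?_
        intro h
        rw [h] at hb
        exact hr.one_lt.ne' (Nat.Coprime.eq_one_of_dvd hb.symm hrn)
      rw [hab]
      exact hmul _ _ (hpp _ _ k hr hrp ha)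
        (ih _ hblt (g ^ b) rfl (Nat.Coprime.coprime_dvd_left hbn hn))

/-! ### The hyperfocal subgroup of a subsystem of `p`-power index -/

variable {Ω : Type u} [Group Ω] {S T : Subgroup Ω} {F : FusionSystem S} {E : FusionSystem T} {p : ℕ}

theorem hyperfocal_le_of_subsystem (hTS : T ≤ S) (hEF : E.IsSubsystemOf F) :
    E.hyperfocalSubgroup p ≤ F.hyperfocalSubgroup p := by
  apply Helper87_Hyperfocal.hyperfocal_le
  intro P hP α hα hcop x
  exact Helper87_Hyperfocal.mem_hyperfocal (hP.trans hTS)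
    (Cfsg.Agent.S5139.autGroup_mono hEF P hα) hcop x

/-- The prime-power case of `hyperfocal_le_of_pPower`. -/
theorem quot_mem_hyperfocal_of_pPower [Finite S] [hp : Fact p.Prime] (hS : IsPGroup p S)
    (hT : F.StronglyClosed T) (hidx : E.HasPPowerIndexIn F p) {P : Subgroup Ω} (hPS : P ≤ S)
    {β : MulAut P} (hβ : β ∈ F.autGroup P) {r k : ℕ} (hr : r.Prime) (hrp : r ≠ p)
    (hβr : β ^ (r ^ k) = 1) (x : P) :
    (x : Ω)⁻¹ * ((β x : P) : Ω) ∈ E.hyperfocalSubgroup p := by
  haveI : Fact r.Prime := ⟨hr⟩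
  have hTS : T ≤ S := hT.1
  haveI : Finite P := Helper84_FusionRS.finite_of_le_S hPS
  have hrp' : (r ^ k).Coprime p := Nat.Coprime.pow_left k ((Nat.coprime_primes hr hp.out).2 hrp)
  have hcop : (orderOf β).Coprime p :=
    Nat.Coprime.coprime_dvd_left (orderOf_dvd_of_pow_eq_one hβr) hrp'
  have hβmap : IsMapOn F P (extFun β) := (Helper87_Alperin.mem_autGroup_iff F hPS β).1 hβ
  have hβT : ∀ q : P, (q : Ω) ∈ T → ((β q : P) : Ω) ∈ T := by
    intro q hq
    rw [← Helper87_Alperin.extFun_coe β q]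
    exact Helper87_ModT.IsMapOn.mem_stronglyClosed hT hβmap q.2 hq
  -- the fixed point argument in the group `P`
  have hPp : IsPGroup p P := hS.to_le hPS
  have hQp : IsPGroup p (T.subgroupOf P) := hPp.to_subgroup _
  have hrQ : ¬ r ∣ Nat.card (T.subgroupOf P) := by
    obtain ⟨n, hn⟩ := IsPGroup.iff_card.1 hQp
    rw [hn]
    intro h
    exact hrp ((Nat.prime_dvd_prime_iff_eq hr hp.out).1 (hr.dvd_of_dvd_pow h))
  have hx : x⁻¹ * β x ∈ T.subgroupOf P := by
    rw [Subgroup.mem_subgroupOf]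
    have := Helper87_Hyperfocal.mem_hyperfocal hPS hβ hcop x
    exact hidx.2.1 (by simpa using this)
  obtain ⟨q, hq, hxq⟩ := exists_fixed_coset (T.subgroupOf P) hrQ β hβr
    (fun q hq => Subgroup.mem_subgroupOf.2 (hβT q (Subgroup.mem_subgroupOf.1 hq))) x hx
  have hqT : (q : Ω) ∈ T := Subgroup.mem_subgroupOf.1 hq
  have hxq' : (x : Ω)⁻¹ * ((β x : P) : Ω) = (q : Ω)⁻¹ * ((β q : P) : Ω) := by
    have := congrArg Subtype.val hxq
    simpa using this
  rw [hxq']
  -- the restriction of `β` to `P ⊓ T`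
  have hRT : P ⊓ T ≤ T := inf_le_right
  have hRS : P ⊓ T ≤ S := inf_le_left.trans hPS
  haveI : Finite ↥(P ⊓ T) := Helper84_FusionRS.finite_of_le_S hRS
  have hRmem : ∀ y ∈ P ⊓ T, extFun β y ∈ P ⊓ T := by
    intro y hy
    refine ⟨Helper87_Alperin.extFun_mem β hy.1, ?_⟩
    exact Helper87_ModT.IsMapOn.mem_stronglyClosed hT hβmap hy.1 hy.2
  obtain ⟨γ, hγ, hγβ⟩ := Cfsg.Agent.S5111.exists_aut_of_isMapOn (hβmap.mono inf_le_left) hRmem
  have hpow : ∀ (m : ℕ) (y : ↥(P ⊓ T)),
      (((γ ^ m) y : ↥(P ⊓ T)) : Ω) = (((β ^ m) ⟨y, y.2.1⟩ : P) : Ω) := by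
    intro m
    induction m with
    | zero => intro y; rfl
    | succ m ih =>
      intro y
      rw [pow_succ', pow_succ', MulAut.mul_apply, MulAut.mul_apply, hγβ, ih y,
        Helper87_Alperin.extFun_coe]
  have hγr : γ ^ (r ^ k) = 1 := by
    ext y
    rw [hpow, hβr]
    rfl
  have hcopγ : (orderOf γ).Coprime p :=
    Nat.Coprime.coprime_dvd_left (orderOf_dvd_of_pow_eq_one hγr) hrp'
  have hγE : γ ∈ E.autGroup (P ⊓ T) :=
    Cfsg.Agent.S5120.closure_PP_le hidx hRT (Subgroup.subset_closure ⟨hγ, hcopγ⟩)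
  have h := Helper87_Hyperfocal.mem_hyperfocal hRT hγE hcopγ ⟨q, ⟨q.2, hqT⟩⟩
  rw [hγβ] at h
  rw [← Helper87_Alperin.extFun_coe β q]
  exact h

/-- A subsystem of `p`-power index over a strongly closed subgroup has the same hyperfocal subgroup. -/
theorem hyperfocal_eq_of_pPower [Finite S] [hp : Fact p.Prime] (hS : IsPGroup p S)
    (hT : F.StronglyClosed T) (hidx : E.HasPPowerIndexIn F p) :
    E.hyperfocalSubgroup p = F.hyperfocalSubgroup p := by
  apply le_antisymm (hyperfocal_le_of_subsystem hT.1 hidx.1)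
  apply Helper87_Hyperfocal.hyperfocal_le
  intro P hPS α hα hcop x
  haveI : Finite P := Helper84_FusionRS.finite_of_le_S hPS
  haveI : Finite (MulAut P) := inferInstance
  have key := coprime_induction (G := F.autGroup P) p
    (fun g => ∀ x : P, (x : Ω)⁻¹ * (((g : MulAut P) x : P) : Ω) ∈ E.hyperfocalSubgroup p)
    (by intro y; simp)
    (by
      intro a b iha ihb y
      have h1 := ihb y
      have h2 := iha ((b : MulAut P) y)
      have h3 : (y : Ω)⁻¹ * ((((a * b : F.autGroup P) : MulAut P) y : P) : Ω) =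
          ((y : Ω)⁻¹ * (((b : MulAut P) y : P) : Ω)) *
            ((((b : MulAut P) y : P) : Ω)⁻¹ * (((a : MulAut P) ((b : MulAut P) y) : P) : Ω)) := by
        simp only [Subgroup.coe_mul, MulAut.mul_apply]
        group
      rw [h3]
      exact Subgroup.mul_mem _ h1 h2)
    (by
      intro g r k hr hrp hg y
      have hg' : (g : MulAut P) ^ (r ^ k) = 1 := by
        have := congrArg Subtype.val hg
        simpa using this
      exact quot_mem_hyperfocal_of_pPower hS hT hidx hPS g.2 hr hrp hg' y)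
  have hord : orderOf (⟨α, hα⟩ : F.autGroup P) = orderOf α := Subgroup.orderOf_mk α hα
  exact key (orderOf α) ⟨α, hα⟩ hord hcop x

/-- Transitivity of `p`-power index. -/
theorem pPower_trans (hidx : E.HasPPowerIndexIn F p)
    (hhyp : F.hyperfocalSubgroup p ≤ E.hyperfocalSubgroup p) {H : Subgroup Ω} {D : FusionSystem H}
    (hD : D.HasPPowerIndexIn E p) : D.HasPPowerIndexIn F p := by
  have hHT : H ≤ T := by
    have h1 : conjHom H 1 ∈ D.Hom H := D.conj_mem le_rfl (Subgroup.one_mem _)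
    exact (E.le_of_mem (hD.1 H h1)).1
  refine ⟨fun P φ hφ => hidx.1 P (hD.1 P hφ), hhyp.trans hD.2.1, fun P hPH => ?_⟩
  rintro _ ⟨α, hα, rfl⟩
  have hPT : P ≤ T := hPH.trans hHT
  have h1 := Cfsg.Agent.S5124.coe_mem_of_mem_pResidual F p P α hα
  have h2 : ((F.autGroup P).subtype α : MulAut P) ∈
      Subgroup.closure {β : MulAut P | β ∈ E.autGroup P ∧ (orderOf β).Coprime p} := by
    refine (Subgroup.closure_le _).2 ?_ h1
    intro β hβ
    apply Subgroup.subset_closure
    exact ⟨Cfsg.Agent.S5120.closure_PP_le hidx hPT (Subgroup.subset_closure hβ), hβ.2⟩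
  obtain ⟨h3, h4⟩ := Cfsg.Agent.S5124.mem_pResidual_of_coe_mem E p P _ h2
  exact hD.2.2 P hPH ⟨⟨_, h3⟩, h4, rfl⟩

/-! ### Systems with the same maps -/

theorem base_le_of_hom_eq {S₁ S₂ : Subgroup Ω} {F₁ : FusionSystem S₁} {F₂ : FusionSystem S₂}
    (h : ∀ P : Subgroup Ω, F₁.Hom P = F₂.Hom P) : S₁ ≤ S₂ := by
  have h1 : conjHom S₁ 1 ∈ F₁.Hom S₁ := F₁.conj_mem le_rfl (Subgroup.one_mem _)
  rw [h S₁] at h1
  exact (F₂.le_of_mem h1).1

theorem base_eq_of_hom_eq {S₁ S₂ : Subgroup Ω} {F₁ : FusionSystem S₁} {F₂ : FusionSystem S₂}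
    (h : ∀ P : Subgroup Ω, F₁.Hom P = F₂.Hom P) : S₁ = S₂ :=
  le_antisymm (base_le_of_hom_eq h) (base_le_of_hom_eq fun P => (h P).symm)

/-- Transport of a property along systems with the same maps. -/
theorem sameMaps_rec {S₁ S₂ : Subgroup Ω} {F₁ : FusionSystem S₁} {F₂ : FusionSystem S₂}
    (h : ∀ P : Subgroup Ω, F₁.Hom P = F₂.Hom P)
    (motive : ∀ S : Subgroup Ω, FusionSystem S → Prop) (h1 : motive S₁ F₁) : motive S₂ F₂ := by
  have hS : S₁ = S₂ := base_eq_of_hom_eq h
  subst hS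
  have hF : F₁ = F₂ := Helper84_FusionAlperin.fusionSystem_ext h
  subst hF
  exact h1

theorem hasPPowerIndexIn_self (F : FusionSystem S) (p : ℕ) : F.HasPPowerIndexIn F p := by
  refine ⟨fun _ _ h => h, Helper87_Hyperfocal.hyperfocal_le_base F p, fun P _ => ?_⟩
  rintro _ ⟨α, -, rfl⟩
  exact α.2

/-- Uniqueness of the `p`-residual subsystem. -/
theorem pResidual_unique [Finite S] [Fact p.Prime] (hS : IsPGroup p S)
    {D₁ D₂ : FusionSystem (F.hyperfocalSubgroup p)} (h₁ : F.IsPResidual p D₁)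
    (h₂ : F.IsPResidual p D₂) : D₁ = D₂ := by
  have hle := Helper87_Hyperfocal.hyperfocal_le_base F p
  haveI : Finite ↥(F.hyperfocalSubgroup p) := Helper84_FusionRS.finite_of_le_S hle
  exact Helper84_FusionAlperin.fusionSystem_ext fun P =>
    Cfsg.Agent.S5139.hom_eq_of_pPower rfl (hS.to_le hle) F D₁ D₂ h₁.1 h₁.2 h₂.1 h₂.2 P

/-- Uniqueness of the `p'`-residual subsystem. -/
theorem pPrimeResidual_unique {D₁ D₂ : FusionSystem S} (h₁ : F.IsPPrimeResidual p D₁)
    (h₂ : F.IsPPrimeResidual p D₂) : D₁ = D₂ :=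
  Helper84_FusionAlperin.fusionSystem_le_antisymm (h₁.2.2 D₂ h₂.1 h₂.2.1) (h₂.2.2 D₁ h₁.1 h₁.2.1)

/-! ### Uniqueness of residual limits -/

/-- A stable system is its only residual limit. -/
theorem limit_of_stable {T S : Subgroup Ω} {E : FusionSystem T} {F : FusionSystem S} {p : ℕ}
    (h : IsResidualLimitOf E F p) : p.Prime → Finite S → IsPGroup p S → F.IsSaturated p →
      F.hyperfocalSubgroup p = S → F.IsPPrimeResidual p F →
      ∀ P : Subgroup Ω, E.Hom P = F.Hom P := by
  induction h with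
  | stable F p _ _ =>
    intro _ _ _ _ _ _ P
    rfl
  | step F p D D' hD hD' _ ih =>
    intro hp hfin hS hF hst hres P
    haveI : Fact p.Prime := ⟨hp⟩
    have hle := Helper87_Hyperfocal.hyperfocal_le_base F p
    haveI hfin' : Finite ↥(F.hyperfocalSubgroup p) := Helper84_FusionRS.finite_of_le_S hle
    have hS' : IsPGroup p ↥(F.hyperfocalSubgroup p) := hS.to_le hle
    have hDF : ∀ P : Subgroup Ω, D.Hom P = F.Hom P := fun P =>
      Cfsg.Agent.S5139.hom_eq_of_pPower hst hS' F D F hD.1 hD.2 hF (hasPPowerIndexIn_self F p) P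
    have hDres : D.IsPPrimeResidual p D :=
      sameMaps_rec (fun P => (hDF P).symm) (fun _ F' => F'.IsPPrimeResidual p F') hres
    have hD'D : D' = D := pPrimeResidual_unique hD' hDres
    subst hD'D
    have hall := sameMaps_rec (fun P => (hDF P).symm)
      (fun S' F' => F'.IsSaturated p ∧ F'.hyperfocalSubgroup p = S' ∧ F'.IsPPrimeResidual p F')
      ⟨hF, hst, hres⟩
    rw [ih hp hfin' hS' hall.1 hall.2.1 hall.2.2 P, hDF P]

/-- **Uniqueness of the residual limit.** -/
theorem limit_unique {T₁ S : Subgroup Ω} {E₁ : FusionSystem T₁} {F : FusionSystem S} {p : ℕ}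
    (h₁ : IsResidualLimitOf E₁ F p) : p.Prime → Finite S → IsPGroup p S → F.IsSaturated p →
      ∀ {T₂ : Subgroup Ω} (E₂ : FusionSystem T₂), IsResidualLimitOf E₂ F p →
      ∀ P : Subgroup Ω, E₁.Hom P = E₂.Hom P := by
  induction h₁ with
  | stable F p hst hres =>
    intro hp hfin hS hF T₂ E₂ h₂ P
    exact (limit_of_stable h₂ hp hfin hS hF hst hres P).symm
  | step F p D D' hD hD' h' ih =>
    intro hp hfin hS hF T₂ E₂ h₂ P
    haveI : Fact p.Prime := ⟨hp⟩
    have hle := Helper87_Hyperfocal.hyperfocal_le_base F p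
    haveI hfin' : Finite ↥(F.hyperfocalSubgroup p) := Helper84_FusionRS.finite_of_le_S hle
    have hS' : IsPGroup p ↥(F.hyperfocalSubgroup p) := hS.to_le hle
    cases h₂ with
    | stable _ _ hst hres =>
      exact limit_of_stable (IsResidualLimitOf.step F p D D' hD hD' h') hp hfin hS hF hst hres P
    | step _ _ D₂ D₂' hD₂ hD₂' h₂' =>
      have e1 : D = D₂ := pResidual_unique hS hD hD₂
      subst e1
      have e2 : D' = D₂' := pPrimeResidual_unique hD' hD₂'
      subst e2
      exact ih hp hfin' hS' hD'.1 E₂ h₂' P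

/-! ### Residual limits of subsystems of `p`-power index -/

theorem step_of_eq {H : Subgroup Ω} (hH : H = F.hyperfocalSubgroup p) (D D' : FusionSystem H)
    (hD : D.IsSaturated p ∧ D.HasPPowerIndexIn F p) (hD' : D.IsPPrimeResidual p D')
    {V : Subgroup Ω} {Einf : FusionSystem V} (h : IsResidualLimitOf Einf D' p) :
    IsResidualLimitOf Einf F p := by
  subst hH
  exact IsResidualLimitOf.step F p D D' hD hD' h

/-- A residual limit of a saturated subsystem of `p`-power index (over a strongly closed subgroup) is a residual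
limit of the whole system. -/
theorem limit_of_pPower [Finite S] [Fact p.Prime] (hS : IsPGroup p S) (hT : F.StronglyClosed T)
    (hE : E.IsSaturated p) (hidx : E.HasPPowerIndexIn F p) {V : Subgroup Ω} {Einf : FusionSystem V}
    (h : IsResidualLimitOf Einf E p) : IsResidualLimitOf Einf F p := by
  have hhyp := hyperfocal_eq_of_pPower hS hT hidx
  cases h with
  | stable _ _ hst hres =>
    exact step_of_eq (hst.symm.trans hhyp) E E ⟨hE, hidx⟩ hres
      (IsResidualLimitOf.stable E p hst hres)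
  | step _ _ D D' hD hD' h' =>
    exact step_of_eq hhyp D D' ⟨hD.1, pPower_trans hidx hhyp.ge hD.2⟩ hD' h'

end Cfsg.Agent.Lib.Helper85_ResLimit
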