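import Mathlib
import Cfsg.Prelude.Def_Local
import Cfsg.Prelude.Def_Transfer
import Cfsg.Agent.Lib.Helper1_Cores
import Cfsg.Agent.Lib.Helper32_PSolvable
import Cfsg.Agent.Lib.Lead_PSolvable
import Cfsg.Agent.Lib.Helper34_Sylow
import Cfsg.Agent.Lib.Helper76_PSolvable
import Cfsg.Agent.Lib.Helper85_ConstrainedNormal
import Cfsg.Agent.Lib.Helper85_ResLimit

/-!
# Terminating residual series, part 1: group theory (helper85)

* `isPSolvable_of_card`: `p`-groups and `p'`-groups are `p`-soluble;
* `isPSolvable_ext`: an extension of a `p`-soluble normal subgroup by a `p`-soluble quotient is `p`-soluble;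
* `centralizer_pCore_le_of_normal`: if `C_G(O_p(G)) ≤ O_p(G)` then the same holds in every normal subgroup;
* `card_pResidual_normalClosure_lt`: in a nontrivial `p`-soluble group, `O^p(O^{p'}(G))` is a proper subgroup.
-/

set_option autoImplicit false

namespace Cfsg.Agent.Lib.Helper85_TRS1

open Cfsg Cfsg.Agent.Lib

universe u

section Basic

variable {G : Type*} [Group G]

/-- An element whose order is prime to the index of a normal subgroup lies in it. -/
theorem mem_of_coprime_index [Finite G] (M : Subgroup G) [M.Normal] {g : G}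
    (h : (orderOf g).Coprime M.index) : g ∈ M := by
  have h1 : orderOf (QuotientGroup.mk g : G ⧸ M) ∣ orderOf g := by
    apply orderOf_dvd_of_pow_eq_one
    rw [← QuotientGroup.mk_pow, pow_orderOf_eq_one]
    rfl
  have h2 : orderOf (QuotientGroup.mk g : G ⧸ M) ∣ M.index := by
    have := orderOf_dvd_natCard (QuotientGroup.mk g : G ⧸ M)
    rwa [← Subgroup.index_eq_card] at this
  have h3 : orderOf (QuotientGroup.mk g : G ⧸ M) = 1 := Nat.eq_one_of_dvd_coprimes h h1 h2
  exact (QuotientGroup.eq_one_iff g).1 (orderOf_eq_one_iff.1 h3)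

/-- A finite group all of whose elements of order prime to `p` are trivial is a `p`-group. -/
theorem isPGroup_of_coprime_eq_one [Finite G] {p : ℕ} [Fact p.Prime]
    (h : ∀ g : G, (orderOf g).Coprime p → g = 1) : IsPGroup p G := by
  intro g
  obtain ⟨a, b, k, hab, ha, hb⟩ := Helper85_ResLimit.exists_pow_decomp' p g
  have hb1 : g ^ b = 1 := h _ hb
  refine ⟨k, ?_⟩
  rw [hab, hb1, mul_one]
  exact ha

/-- Groups of prime power order and groups of order prime to `p` are `p`-soluble. -/
theorem isPSolvable_of_card {p : ℕ} (h : (∃ m : ℕ, Nat.card G = p ^ m) ∨ (Nat.card G).Coprime p) :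
    Cfsg.IsPSolvable p G := by
  refine ⟨1, ![⊥, ⊤], rfl, rfl, ?_, ?_, ?_⟩
  · rw [Fin.monotone_iff_le_succ]
    intro i
    fin_cases i
    exact bot_le
  · intro i
    fin_cases i
    · exact Subgroup.normal_bot
    · exact Subgroup.normal_top
  · intro i
    fin_cases i
    have e : (⊥ : Subgroup G).relIndex ⊤ = Nat.card G := by
      rw [Subgroup.relIndex_bot_left, Subgroup.card_top]
    rcases h with ⟨m, hm⟩ | hc
    · left
      exact ⟨m, by simpa [Subgroup.relIndex_bot_left] using hm⟩
    · right
      simpa [Subgroup.relIndex_bot_left] using hc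

end Basic

/-- **Extensions of `p`-soluble groups by `p`-soluble groups are `p`-soluble.** -/
theorem isPSolvable_ext (p : ℕ) [hp : Fact p.Prime] :
    ∀ (n : ℕ) (G : Type u) [Group G] [Finite G] (N : Subgroup G) [N.Normal], Nat.card N = n →
      Cfsg.IsPSolvable p N → Cfsg.IsPSolvable p (G ⧸ N) → Cfsg.IsPSolvable p G := by
  intro n
  induction n using Nat.strong_induction_on with
  | _ n ih =>
  intro G _ _ N hN hn hNs hq
  by_cases h1 : Nat.card N = 1
  · exact Lead_PSolvable.isPSolvable_of_quotient N (Or.inl ⟨0, by rw [h1, pow_zero]⟩) hq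
  · haveI : Nontrivial N := by
      rw [← Finite.one_lt_card_iff_nontrivial]
      have : 0 < Nat.card N := Nat.card_pos
      omega
    -- a nontrivial characteristic subgroup of `N` which is a `p`-group or a `p'`-group
    have key : ∃ M₀ : Subgroup N, M₀.Characteristic ∧ M₀ ≠ ⊥ ∧
        ((∃ m : ℕ, Nat.card M₀ = p ^ m) ∨ (Nat.card M₀).Coprime p) := by
      rcases Helper32_PSolvable.exists_core_ne_bot hNs with h | h
      · exact ⟨pPrimeCore p N, inferInstance, h, Or.inr (Helper1_Cores.pPrimeCore_card_coprime p)⟩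
      · exact ⟨pCore p N, inferInstance, h, Or.inl (Helper1_Cores.pCore_isPGroup p).exists_card_eq⟩
    obtain ⟨M₀, hM₀c, hM₀ne, hM₀card⟩ := key
    set M : Subgroup G := M₀.map N.subtype with hMdef
    haveI hMn : M.Normal := ConjAct.normal_of_characteristic_of_normal
    have hMN : M ≤ N := Subgroup.map_subtype_le M₀
    have hcardM : Nat.card M = Nat.card M₀ :=
      Subgroup.card_map_of_injective N.subtype_injective
    have hMgt : 1 < Nat.card M := by
      rw [hcardM]
      by_contra hle
      have h0 : 0 < Nat.card M₀ := Nat.card_pos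
      have h1' : Nat.card M₀ = 1 := by omega
      exact hM₀ne (Subgroup.card_eq_one.1 h1')
    -- the quotient
    set N' : Subgroup (G ⧸ M) := N.map (QuotientGroup.mk' M) with hN'def
    haveI hN'n : N'.Normal := hN.map _ (QuotientGroup.mk'_surjective M)
    have hcardN' : Nat.card M * Nat.card N' = Nat.card N :=
      Helper76_PSolvable.card_mul_card_map_mk M N hMN
    have hlt : Nat.card N' < n := by
      rw [← hn, ← hcardN']
      have h0 : 0 < Nat.card N' := Nat.card_pos
      nlinarith
    have hN's : Cfsg.IsPSolvable p N' :=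
      Helper32_PSolvable.isPSolvable_of_surjective ((QuotientGroup.mk' M).subgroupMap N)
        (MonoidHom.subgroupMap_surjective _ _) hNs
    have hq' : Cfsg.IsPSolvable p ((G ⧸ M) ⧸ N') := by
      set f : G →* (G ⧸ M) ⧸ N' := (QuotientGroup.mk' N').comp (QuotientGroup.mk' M) with hf
      have hfs : Function.Surjective f :=
        (QuotientGroup.mk'_surjective N').comp (QuotientGroup.mk'_surjective M)
      have hker : N ≤ f.ker := by
        intro x hx
        rw [MonoidHom.mem_ker, hf, MonoidHom.comp_apply, QuotientGroup.mk'_apply,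
          QuotientGroup.eq_one_iff]
        exact Subgroup.mem_map_of_mem _ hx
      exact Helper32_PSolvable.isPSolvable_of_surjective (QuotientGroup.lift N f hker)
        (QuotientGroup.lift_surjective_of_surjective N f hfs hker) hq
    have hGM : Cfsg.IsPSolvable p (G ⧸ M) := ih _ hlt (G ⧸ M) N' rfl hN's hq'
    refine Lead_PSolvable.isPSolvable_of_quotient M ?_ hGM
    rw [hcardM]
    exact hM₀card

section Model

variable {G : Type*} [Group G] [Finite G]

/-- **The model condition passes to normal subgroups.** -/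
theorem centralizer_pCore_le_of_normal (p : ℕ) [hp : Fact p.Prime]
    (hG : Subgroup.centralizer ((pCore p G : Subgroup G) : Set G) ≤ pCore p G)
    (N : Subgroup G) [hN : N.Normal] :
    Subgroup.centralizer ((pCore p N : Subgroup N) : Set N) ≤ pCore p N := by
  set C : Subgroup N := Subgroup.centralizer ((pCore p N : Subgroup N) : Set N) with hC
  haveI : (pCore p N).Normal := Helper1_Cores.pCore_normal p
  haveI hCn : C.Normal := Subgroup.normal_centralizer
  refine Helper1_Cores.le_pCore hCn ?_
  apply isPGroup_of_coprime_eq_one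
  rintro ⟨⟨c, hcN⟩, hcC⟩ hcop
  have hcop' : (orderOf c).Coprime p := by
    have e1 : orderOf (⟨⟨c, hcN⟩, hcC⟩ : C) = orderOf (⟨c, hcN⟩ : N) := Subgroup.orderOf_mk _ _
    have e2 : orderOf (⟨c, hcN⟩ : N) = orderOf c := Subgroup.orderOf_mk _ _
    rw [← e2, ← e1]
    exact hcop
  -- `(Q ⊓ N)` inside `N` lies in `O_p(N)`
  have hQN : ((pCore p G) ⊓ N).subgroupOf N ≤ pCore p N := by
    refine Helper1_Cores.le_pCore ?_ ?_
    · haveI : ((pCore p G) ⊓ N).Normal := inferInstance
      exact Subgroup.Normal.subgroupOf inferInstance N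
    · have h1 : IsPGroup p ((pCore p G) ⊓ N : Subgroup G) :=
        (Helper1_Cores.pCore_isPGroup p).to_le inf_le_left
      exact h1.comap_subtype
  -- `c` centralizes `O_p(G)`
  have hcent : c ∈ Subgroup.centralizer ((pCore p G : Subgroup G) : Set G) := by
    rw [Subgroup.mem_centralizer_iff]
    intro q hq
    set a : G := q⁻¹ * (c * q * c⁻¹) with ha
    have haQ : a ∈ pCore p G :=
      Subgroup.mul_mem _ (Subgroup.inv_mem _ hq) ((Helper1_Cores.pCore_normal p).conj_mem q hq c)
    have haN : a ∈ N := by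
      have e : a = (q⁻¹ * c * q⁻¹⁻¹) * c⁻¹ := by rw [ha]; group
      rw [e]
      exact N.mul_mem (hN.conj_mem c hcN q⁻¹) (N.inv_mem hcN)
    have haco : (⟨a, haN⟩ : N) ∈ pCore p N := hQN (Subgroup.mem_subgroupOf.2 ⟨haQ, haN⟩)
    have hcomm := (Subgroup.mem_centralizer_iff.1 hcC) ⟨a, haN⟩ haco
    have hcomm' : a * c = c * a := congrArg Subtype.val hcomm
    have h1 : c * q * c⁻¹ = q * a := by rw [ha]; group
    have h2 : c * a * c⁻¹ = a := by rw [← hcomm']; group
    obtain ⟨k, hk⟩ := (Helper1_Cores.pCore_isPGroup p) ⟨a, haQ⟩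
    have hak : a ^ p ^ k = 1 := by
      have := congrArg Subtype.val hk
      simpa using this
    have ha1 : a = 1 := Helper85_ConstrainedNormal.eq_one_of_chain_aux h1 h2 (pow_orderOf_eq_one c) hak
      (Nat.Coprime.pow_right k hcop')
    rw [ha1, mul_one] at h1
    calc q * c = (c * q * c⁻¹) * c := by rw [h1]
      _ = c * q := by group
  have hcQ : c ∈ pCore p G := hG hcent
  obtain ⟨k, hk⟩ := (Helper1_Cores.pCore_isPGroup p) ⟨c, hcQ⟩
  have hck : c ^ p ^ k = 1 := by
    have := congrArg Subtype.val hk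
    simpa using this
  have hdvd : orderOf c ∣ p ^ k := orderOf_dvd_of_pow_eq_one hck
  have hone : orderOf c = 1 :=
    Nat.eq_one_of_dvd_coprimes (Nat.Coprime.pow_right k hcop') dvd_rfl hdvd
  have hc1 : c = 1 := orderOf_eq_one_iff.1 hone
  apply Subtype.ext
  apply Subtype.ext
  exact hc1

/-- The image in `G` of `O^p(H)` lies in `O^p(G)`. -/
theorem map_pResidual_le (p : ℕ) (H : Subgroup G) :
    (pResidual p H).map H.subtype ≤ pResidual p G := by
  rw [Subgroup.map_le_iff_le_comap]
  refine (Subgroup.closure_le _).2 ?_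
  intro g hg
  show (g : G) ∈ pResidual p G
  apply Subgroup.subset_closure
  show (orderOf (g : G)).Coprime p
  rw [Subgroup.orderOf_coe]
  exact hg

/-- **In a nontrivial `p`-soluble group, `O^p(O^{p'}(G))` is a proper subgroup.** -/
theorem card_pResidual_normalClosure_lt (p : ℕ) [hp : Fact p.Prime] [Nontrivial G]
    (hsol : Cfsg.IsPSolvable p G) (R : Subgroup G) (hR : IsPGroup p R) :
    Nat.card (pResidual p (Subgroup.normalClosure (R : Set G))) < Nat.card G := by
  classical
  obtain ⟨n, H, h0, hlast, hmono, hnorm, hstep⟩ := hsol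
  -- the first index where the chain reaches `⊤`
  have hex : ∃ k : ℕ, ∃ hk : k < n + 1, H ⟨k, hk⟩ = ⊤ := ⟨n, Nat.lt_succ_self n, hlast⟩
  set k := Nat.find hex with hkdef
  obtain ⟨hk, hHk⟩ := Nat.find_spec hex
  have hk0 : k ≠ 0 := by
    intro hk0
    have e : (⟨k, hk⟩ : Fin (n + 1)) = 0 := Fin.ext hk0
    rw [e, h0] at hHk
    exact bot_ne_top hHk
  obtain ⟨j, hj⟩ : ∃ j, k = j + 1 := ⟨k - 1, by omega⟩
  have hjn : j < n := by omega
  have hjlt : j < n + 1 := by omega
  have hMne : H ⟨j, hjlt⟩ ≠ ⊤ := by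
    intro h
    have := Nat.find_min hex (m := j) (by omega)
    exact this ⟨hjlt, h⟩
  set M := H ⟨j, hjlt⟩ with hM
  haveI : M.Normal := hnorm _
  have hidx : M.relIndex (H ⟨k, hk⟩) = M.index := by
    rw [hHk, Subgroup.relIndex_top_right]
  have hs := hstep ⟨j, hjn⟩
  have e1 : (⟨j, hjn⟩ : Fin n).castSucc = ⟨j, hjlt⟩ := rfl
  have e2 : (⟨j, hjn⟩ : Fin n).succ = ⟨k, hk⟩ := Fin.ext (by simp [hj])
  rw [e1, e2, hidx] at hs
  have hMlt : Nat.card M < Nat.card G := by
    have h1 : M.index ≠ 1 := fun h => hMne (Subgroup.index_eq_one.1 h)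
    have h2 := Subgroup.card_mul_index M
    have h3 : 0 < Nat.card M := Nat.card_pos
    have h4 : 0 < M.index := Nat.pos_of_ne_zero Subgroup.index_ne_zero_of_finite
    have h5 : 2 ≤ M.index := by omega
    nlinarith
  set H₁ := Subgroup.normalClosure (R : Set G) with hH₁
  have hK1 : Nat.card (pResidual p H₁) ≤ Nat.card (pResidual p G) := by
    have h1 : Nat.card ((pResidual p H₁).map H₁.subtype) = Nat.card (pResidual p H₁) :=
      Subgroup.card_map_of_injective H₁.subtype_injective
    rw [← h1]
    exact Subgroup.card_le_of_le (map_pResidual_le p H₁)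
  have hK2 : Nat.card (pResidual p H₁) ≤ Nat.card H₁ := Subgroup.card_le_card_group _
  rcases hs with ⟨m, hm⟩ | hc
  · -- `G / M` is a `p`-group: `O^p(G) ≤ M`
    have hle : pResidual p G ≤ M := by
      refine (Subgroup.closure_le _).2 ?_
      intro g hg
      apply mem_of_coprime_index M
      rw [hm]
      exact Nat.Coprime.pow_right m hg
    exact lt_of_le_of_lt (hK1.trans (Subgroup.card_le_of_le hle)) hMlt
  · -- `G / M` is a `p'`-group: `O^{p'}(G) ≤ M`
    have hRM : R ≤ M := by
      intro x hx
      apply mem_of_coprime_index M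
      obtain ⟨t, ht⟩ := hR ⟨x, hx⟩
      have hxt : x ^ p ^ t = 1 := by
        have := congrArg Subtype.val ht
        simpa using this
      have hdvd : orderOf x ∣ p ^ t := orderOf_dvd_of_pow_eq_one hxt
      obtain ⟨t', -, ht'⟩ := (Nat.dvd_prime_pow hp.out).1 hdvd
      rw [ht']
      exact Nat.Coprime.pow_left t' hc.symm
    have hle : H₁ ≤ M := Subgroup.normalClosure_le_normal hRM
    exact lt_of_le_of_lt (hK2.trans (Subgroup.card_le_of_le hle)) hMlt

end Model

end Cfsg.Agent.Lib.Helper85_TRS1
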