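import Mathlib
import Cfsg.Agent.S4468
import Cfsg.Agent.Lib.Helper3_Brauer504A
import Cfsg.Agent.Lib.Lead_PSolvable
import Cfsg.Agent.Lib.Helper85_TRS1

/-!
# Ordinary-character glue for S4504, part B (helper3)

* `centralizes_of_normal_coprime`: a normal `p'`-subgroup centralizes every element of order `p`, when
  `G` has a faithful character of degree `< p - 1` and `p ∥ |G|` (Itô, S4468).
-/

set_option autoImplicit false

namespace Cfsg.Agent.Lib.Helper3_Brauer504B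

open Cfsg Cfsg.Agent.Lib.Helper76_GalConj Cfsg.Agent.Lib.Helper80_CharBasic
  Cfsg.Agent.Lib.Helper3_Brauer503R Cfsg.Agent.Lib.Helper75_Clifford

universe u

section ito

set_option linter.unusedSectionVars false

variable {G : Type u} [Group G] [Finite G] {p : ℕ} [hp : Fact p.Prime]

/-- `K ⊔ ⟨x⟩` is `p`-solvable for a normal `p'`-subgroup `K` and `x` of order `p`. -/
theorem isPSolvable_sup (x : G) (hx : orderOf x = p) (K : Subgroup G) [K.Normal]
    (hcop : (Nat.card K).Coprime p) : IsPSolvable p ↥(K ⊔ Subgroup.zpowers x) := by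
  set H : Subgroup G := K ⊔ Subgroup.zpowers x with hH
  have hKn : (K.subgroupOf H).Normal := inferInstance
  apply Cfsg.Agent.Lib.Lead_PSolvable.isPSolvable_of_quotient (K.subgroupOf H)
  · right
    rw [Nat.card_congr (Subgroup.subgroupOfEquivOfLe (le_sup_left : K ≤ H)).toEquiv]
    exact hcop
  · apply Cfsg.Agent.Lib.Helper85_TRS1.isPSolvable_of_card
    left
    -- the quotient is a quotient of `⟨x⟩`
    have hxH : x ∈ H := Subgroup.mem_sup_right (Subgroup.mem_zpowers x)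
    let f : Subgroup.zpowers (⟨x, hxH⟩ : ↥H) →* ↥H ⧸ K.subgroupOf H :=
      (QuotientGroup.mk' (K.subgroupOf H)).comp (Subgroup.subtype _)
    have hf : Function.Surjective f := by
      intro y
      obtain ⟨⟨g, hg⟩, rfl⟩ := QuotientGroup.mk_surjective y
      have hg' := hg
      rw [hH, Subgroup.mem_sup_of_normal_left] at hg'
      obtain ⟨k, hk, z, hz, rfl⟩ := hg'
      obtain ⟨i, rfl⟩ := Subgroup.mem_zpowers_iff.mp hz
      refine ⟨⟨(⟨x, hxH⟩ : ↥H) ^ i, Subgroup.zpow_mem_zpowers _ i⟩, ?_⟩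
      show (QuotientGroup.mk ((⟨x, hxH⟩ : ↥H) ^ i) : ↥H ⧸ K.subgroupOf H) = QuotientGroup.mk _
      rw [QuotientGroup.eq]
      rw [Subgroup.mem_subgroupOf]
      have : ((((⟨x, hxH⟩ : ↥H) ^ i)⁻¹ * ⟨k * x ^ i, hg⟩ : ↥H) : G) = (x ^ i)⁻¹ * (k * x ^ i) := by
        simp
      rw [this]
      have := (inferInstance : K.Normal).conj_mem k hk (x ^ i)⁻¹
      simpa [mul_assoc] using this
    have hdvd : Nat.card (↥H ⧸ K.subgroupOf H) ∣ Nat.card (Subgroup.zpowers (⟨x, hxH⟩ : ↥H)) :=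
      Subgroup.card_dvd_of_surjective f hf
    rw [Nat.card_zpowers, Subgroup.orderOf_mk, hx] at hdvd
    rcases (Nat.dvd_prime hp.out).mp hdvd with h | h
    · exact ⟨0, by rw [h, pow_zero]⟩
    · exact ⟨1, by rw [h, pow_one]⟩

/-- **Itô glue**: if `p ∥ |G|` and `G` has a faithful character of degree `≤ p - 2`, every normal
`p'`-subgroup centralizes every element of order `p`. -/
theorem centralizes_of_normal_coprime (hsq : ¬ p ^ 2 ∣ Nat.card G) (χ : G → ℂ)
    (hχ : IsCharacter G χ) (hfaith : ∀ g : G, χ g = χ 1 → g = 1)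
    (hdeg : charDegree χ + 2 ≤ p) (x : G) (hx : orderOf x = p) (K : Subgroup G) (hK : K.Normal)
    (hcop : (Nat.card K).Coprime p) : ∀ g ∈ K, g * x = x * g := by
  intro g hg
  set H : Subgroup G := K ⊔ Subgroup.zpowers x with hH
  have hsol : IsPSolvable p ↥H := isPSolvable_sup x hx K hcop
  have hxH : x ∈ H := Subgroup.mem_sup_right (Subgroup.mem_zpowers x)
  have hgH : g ∈ H := Subgroup.mem_sup_left hg
  set x' : ↥H := ⟨x, hxH⟩ with hx'
  have hx'o : orderOf x' = p := by rw [hx', Subgroup.orderOf_mk, hx]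
  have hzp : IsPGroup p (Subgroup.zpowers x') :=
    IsPGroup.of_card (n := 1) (by rw [Nat.card_zpowers, hx'o, pow_one])
  obtain ⟨Q, hQ⟩ := hzp.exists_le_sylow
  have hdivH : p ∣ Nat.card ↥H := hx'o ▸ orderOf_dvd_natCard x'
  have hsqH : ¬ p ^ 2 ∣ Nat.card ↥H :=
    fun h => hsq (h.trans (Subgroup.card_subgroup_dvd_card H))
  have hQc : Nat.card (Q : Subgroup ↥H) = p :=
    Cfsg.Agent.Lib.Helper78_McKayA.card_sylow_eq hdivH hsqH Q
  have hQeq : Subgroup.zpowers x' = (Q : Subgroup ↥H) :=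
    Subgroup.eq_of_le_of_card_ge hQ (by rw [hQc, Nat.card_zpowers, hx'o])
  have hQn : (Q : Subgroup ↥H).Normal := by
    by_contra hQn
    have := Cfsg.Agent.S4468.result (res H χ) (isCharacter_res H hχ) (res_faithful H χ hfaith)
      (charDegree χ) (charDegree_res H χ) p hp.out hsol (by omega) Q hQn
    omega
  -- `g x g⁻¹` is a power of `x`
  have hconj : (⟨g, hgH⟩ : ↥H) * x' * (⟨g, hgH⟩ : ↥H)⁻¹ ∈ Subgroup.zpowers x' := by
    rw [hQeq]
    exact hQn.conj_mem x' (hQeq ▸ Subgroup.mem_zpowers x') _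
  obtain ⟨i, hi⟩ := Subgroup.mem_zpowers_iff.mp hconj
  have hi' : x ^ i = g * x * g⁻¹ := by
    have := congrArg Subtype.val hi
    simpa using this
  -- the commutator lies in `K ⊓ ⟨x⟩`
  have hc1 : g * x * g⁻¹ * x⁻¹ ∈ K := by
    have h1 : x * g⁻¹ * x⁻¹ ∈ K := hK.conj_mem g⁻¹ (K.inv_mem hg) x
    have : g * x * g⁻¹ * x⁻¹ = g * (x * g⁻¹ * x⁻¹) := by group
    rw [this]
    exact K.mul_mem hg h1
  have hc2 : g * x * g⁻¹ * x⁻¹ ∈ Subgroup.zpowers x := by
    rw [← hi']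
    exact Subgroup.mul_mem _ (Subgroup.zpow_mem_zpowers x i)
      (Subgroup.inv_mem _ (Subgroup.mem_zpowers x))
  have hc : g * x * g⁻¹ * x⁻¹ = 1 := by
    have h1 : orderOf (g * x * g⁻¹ * x⁻¹) ∣ Nat.card K := by
      have := orderOf_dvd_natCard (⟨_, hc1⟩ : ↥K)
      rwa [Subgroup.orderOf_mk] at this
    have h2 : orderOf (g * x * g⁻¹ * x⁻¹) ∣ p := by
      have := orderOf_dvd_natCard (⟨_, hc2⟩ : ↥(Subgroup.zpowers x))
      rwa [Subgroup.orderOf_mk, Nat.card_zpowers, hx] at this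
    have h3 : orderOf (g * x * g⁻¹ * x⁻¹) ∣ Nat.gcd (Nat.card K) p := Nat.dvd_gcd h1 h2
    rw [hcop] at h3
    exact orderOf_eq_one_iff.mp (Nat.dvd_one.mp h3)
  calc g * x = (g * x * g⁻¹ * x⁻¹) * x * g := by group
    _ = x * g := by rw [hc, one_mul]

end ito


end Cfsg.Agent.Lib.Helper3_Brauer504B
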