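import Mathlib
import Cfsg.Agent.Lib.Helper16_SmallDeg
import Cfsg.Agent.Lib.Helper3_Brauer504B
import Cfsg.Agent.Lib.Helper79_Linear

/-!
# S4705, package P2-LOC (helper16): local analysis of a faithful irreducible character of degree `p - 2`

`P` a Sylow subgroup of order `p`, not normal, `C_G(P) = P × V`.  If `z` is a faithful irreducible
character of degree `p - 2` then `V = Z(G)`, `|N_G(P) : C_G(P)| = 2`, and there is a nontrivial linear
character `lam` of `P` with `z x = -(lam x + (lam x)⁻¹)` for `1 ≠ x ∈ P`.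

* `false_of_normalizer_le` : `N_G(P) = C_G(P)` is impossible (Burnside transfer + Itô);
* `p2_local` : the package.
-/

set_option autoImplicit false
set_option linter.unusedSectionVars false

namespace Cfsg.Agent.Lib.Helper16_P2_LOC

open Cfsg Cfsg.Agent.Lib.Helper16_BrauerSetup Cfsg.Agent.Lib.Helper16_BrauerAut
  Cfsg.Agent.Lib.Helper16_GenSetup Cfsg.Agent.Lib.Helper16_GenK
  Cfsg.Agent.Lib.Helper16_GenFinal Cfsg.Agent.Lib.Helper16_GenConj
  Cfsg.Agent.Lib.Helper16_SmallDeg
open scoped ComplexConjugate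

variable {G : Type*} [Group G] [Fintype G] {p : ℕ} [hp : Fact p.Prime] {P : Sylow p G}
  {V : Subgroup G}

section burnside

/-- A Sylow subgroup of order `p` containing a nontrivial central element is normal. -/
theorem normal_of_central (hP : Nat.card P = p) (x₀ : ↥(P : Subgroup G)) (hx₀ : x₀ ≠ 1)
    (hxc : ∀ g : G, g * (x₀ : G) = (x₀ : G) * g) : (P : Subgroup G).Normal := by
  have hP' : Nat.card (P : Subgroup G) = p := hP
  set x : G := (x₀ : G) with hx
  have hxo : orderOf x = p := by
    have h1 : orderOf x₀ ∣ p := by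
      have h0 := orderOf_dvd_natCard x₀
      rw [hP'] at h0
      exact h0
    have h2 : orderOf x₀ ≠ 1 := by
      rw [Ne, orderOf_eq_one_iff]
      exact hx₀
    rw [hx, Subgroup.orderOf_coe]
    rcases (Nat.dvd_prime hp.out).mp h1 with h | h
    · exact absurd h h2
    · exact h
  have hPz : (P : Subgroup G) = Subgroup.zpowers x := by
    symm
    apply Subgroup.eq_of_le_of_card_ge
    · rw [Subgroup.zpowers_le]
      exact x₀.2
    · rw [Nat.card_zpowers, hxo, hP']
  constructor
  intro n hn g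
  rw [hPz] at hn ⊢
  obtain ⟨i, rfl⟩ := Subgroup.mem_zpowers_iff.mp hn
  have hc : Commute g x := hxc g
  have : g * x ^ i * g⁻¹ = x ^ i := by
    rw [(hc.zpow_right i).eq]
    group
  rw [this]
  exact Subgroup.zpow_mem_zpowers x i

/-- If `N_G(P) = C_G(P)` for a Sylow subgroup of order `p` which is not normal, there is no faithful
character of degree `≤ p - 2`. -/
theorem false_of_normalizer_le (hP : Nat.card P = p) (z : IrrCharacter G)
    (hnn : ¬ (P : Subgroup G).Normal)
    (hfaith : ∀ g : G, (z : G → ℂ) g = (z : G → ℂ) 1 → g = 1)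
    (hdeg : charDegree (z : G → ℂ) + 2 ≤ p)
    (hNC : Subgroup.normalizer ((P : Subgroup G) : Set G) ≤
      Subgroup.centralizer ((P : Subgroup G) : Set G)) : False := by
  have hcompl := MonoidHom.ker_transferSylow_isComplement' P hNC
  set K : Subgroup G := (MonoidHom.transferSylow P hNC).ker with hK
  have hKn : K.Normal := MonoidHom.normal_ker _
  have hcard : Nat.card K * Nat.card (P : Subgroup G) = Nat.card G := hcompl.card_mul_card
  have hidx : (P : Subgroup G).index * Nat.card (P : Subgroup G) = Nat.card G :=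
    Subgroup.index_mul_card _
  have hPpos : 0 < Nat.card (P : Subgroup G) := Nat.card_pos
  have hKidx : Nat.card K = (P : Subgroup G).index := by
    have := hcard.trans hidx.symm
    exact Nat.eq_of_mul_eq_mul_right hPpos this
  have hcopi : (Nat.card (P : Subgroup G)).Coprime (P : Subgroup G).index := P.card_coprime_index
  have hP' : Nat.card (P : Subgroup G) = p := hP
  have hcop : (Nat.card K).Coprime p := by
    have h1 := hcopi.symm
    rw [hP'] at h1
    rw [hKidx]
    exact h1
  have hsq : ¬ p ^ 2 ∣ Nat.card G := by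
    intro hdvd
    rw [← hcard, hP', sq] at hdvd
    have h1 : p ∣ Nat.card K := Nat.dvd_of_mul_dvd_mul_right hp.out.pos hdvd
    have h2 := Nat.Coprime.eq_one_of_dvd hcop.symm h1
    exact hp.out.one_lt.ne' h2
  -- a generator of `P`
  obtain ⟨x₀, hx₀⟩ : ∃ x₀ : ↥(P : Subgroup G), x₀ ≠ 1 := by
    have h1 : 1 < Nat.card ↥(P : Subgroup G) := by
      rw [hP']
      exact hp.out.one_lt
    have : Nontrivial ↥(P : Subgroup G) := (Finite.one_lt_card_iff_nontrivial).mp h1
    exact exists_ne 1
  set x : G := (x₀ : G) with hx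
  have hxo : orderOf x = p := by
    have h1 : orderOf x₀ ∣ p := by
      have h0 := orderOf_dvd_natCard x₀
      rw [hP'] at h0
      exact h0
    have h2 : orderOf x₀ ≠ 1 := by
      rw [Ne, orderOf_eq_one_iff]
      exact hx₀
    rw [hx, Subgroup.orderOf_coe]
    rcases (Nat.dvd_prime hp.out).mp h1 with h | h
    · exact absurd h h2
    · exact h
  have hcen := Cfsg.Agent.Lib.Helper3_Brauer504B.centralizes_of_normal_coprime hsq (z : G → ℂ)
    (Cfsg.Agent.Lib.Helper3_CharBridge.isCharacter_of_isIrrCharacter z.2) hfaith hdeg x hxo K hKn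
    hcop
  -- `x` is central
  have hxc : ∀ g : G, g * x = x * g := by
    intro g
    obtain ⟨⟨k, y⟩, hky, -⟩ := hcompl.existsUnique g
    simp only at hky
    rw [← hky]
    have h1 : (k : G) * x = x * (k : G) := hcen k k.2
    have h2 : (y : G) * x = x * (y : G) := by
      have := comm_of_card P hP ⟨(y : G), y.2⟩ x₀
      exact congrArg Subtype.val this
    calc (k : G) * (y : G) * x = (k : G) * ((y : G) * x) := by group
      _ = (k : G) * (x * (y : G)) := by rw [h2]
      _ = ((k : G) * x) * (y : G) := by group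
      _ = (x * (k : G)) * (y : G) := by rw [h1]
      _ = x * ((k : G) * (y : G)) := by group
  exact hnn (normal_of_central hP x₀ hx₀ hxc)

end burnside

section main

variable [Fintype ↥(P : Subgroup G)] [Fintype ↥V] [Fintype (↥(P : Subgroup G) →* ℂˣ)]

open scoped Classical in
/-- The shape of the `θ`-component of a faithful irreducible character of degree `p - 2`: it is an
exceptional character with sign `-1`, `a = 1`, `e = 2`, `θ` linear and `N_G(P)`-invariant. -/
theorem p2_shape (hP : Nat.card P = p) (hV : IsPCompl P V) (z : IrrCharacter G)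
    (hp5 : 5 < p) (hnn : ¬ (P : Subgroup G).Normal)
    (hfaith : ∀ g : G, (z : G → ℂ) g = (z : G → ℂ) 1 → g = 1)
    (hdeg : charDegree (z : G → ℂ) = p - 2) :
    ∃ θ : IrrCharacter ↥V,
      (∀ θ' : IrrCharacter ↥V, ¬ IsConjθ hV θ θ' →
        ∀ h : ↥(P : Subgroup G), h ≠ 1 → sfun P V θ' z h = 0) ∧
      charDegree (θ : ↥V → ℂ) = 1 ∧
      (stab hV θ).relIndex (Subgroup.normalizer ((P : Subgroup G) : Set G)) = 1 ∧
      (Subgroup.centralizer ((P : Subgroup G) : Set G)).relIndex (stab hV θ) = 2 ∧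
      multg hV θ z 1 = 1 ∧
      (∀ φ : ↥(P : Subgroup G) →* ℂˣ, nng hV θ z φ = 0 ∨ nng hV θ z φ = -1) ∧
      (Finset.univ.filter
        (fun φ : ↥(P : Subgroup G) →* ℂˣ => nng hV θ z φ ≠ 0)).card = 2 := by
  have hp2 := hp.out.two_le
  have hDpos := Cfsg.Agent.Lib.Helper77_BlockBasics.charDegree_pos z
  have hdegp : charDegree (z : G → ℂ) < p := by omega
  have hzp : ¬ p ∣ charDegree (z : G → ℂ) := Nat.not_dvd_of_pos_of_lt hDpos hdegp
  obtain ⟨θ, hzB, hvan⟩ := exists_gen_data hP hV z hzp
  have hvanz := hvan z hzB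
  obtain ⟨X, Y, εX, ε, hBXY, hdisj, hXc, hYc, hXp, hε, hYp, hYu, hYs⟩ :=
    Cfsg.Agent.Lib.Helper16_GenMain.gen_structure hP hV θ _ rfl
      (Cfsg.Agent.Lib.Helper57_CTGen.ct_gen p P hP) (Cfsg.Agent.Lib.Helper74_H1V.h1V hP hV θ)
  set e := (Subgroup.centralizer ((P : Subgroup G) : Set G)).relIndex (stab hV θ) with he
  set f := (Subgroup.centralizer ((P : Subgroup G) : Set G)).relIndex
    (Subgroup.normalizer ((P : Subgroup G) : Set G)) with hf
  set r := (stab hV θ).relIndex (Subgroup.normalizer ((P : Subgroup G) : Set G)) with hr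
  have hfe : e * r = f :=
    Subgroup.relIndex_mul_relIndex _ _ _ (centralizer_le_stab hV θ) (stab_le_normalizer hV θ)
  set t := charDegree (θ : ↥V → ℂ) with ht
  have htpos : 0 < t := Cfsg.Agent.Lib.Helper77_BlockBasics.charDegree_pos θ
  have hfpos : 0 < f := by
    rw [← Cfsg.Agent.Lib.Helper16_BrauerAut.card_autP P f rfl]
    exact Nat.card_pos
  have hepos : 0 < e := by
    rcases Nat.eq_zero_or_pos e with h | h
    · rw [h, zero_mul] at hfe
      omega
    · exact h
  have hrpos : 0 < r := by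
    rcases Nat.eq_zero_or_pos r with h | h
    · rw [h, mul_zero] at hfe
      omega
    · exact h
  -- not of trivial type
  have hnt : ¬ ∀ φ : ↥(P : Subgroup G) →* ℂˣ, φ ≠ 1 → multg hV θ z φ = 0 := by
    intro hT
    obtain ⟨h₀, hh₀⟩ : ∃ h₀ : ↥(P : Subgroup G), h₀ ≠ 1 := by
      have h1 : 1 < Nat.card ↥(P : Subgroup G) := by
        have hP' : Nat.card ↥(P : Subgroup G) = p := hP
        rw [hP']
        exact hp.out.one_lt
      have : Nontrivial ↥(P : Subgroup G) := (Finite.one_lt_card_iff_nontrivial).mp h1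
      exact exists_ne 1
    have h2 := const_on_P_of_trivial hP hV θ z hdegp hvanz hT h₀
    exact hh₀ (Subtype.ext (hfaith _ h2))
  -- bookkeeping
  have hs1def : s1 hV θ z = (p : ℤ) * (multg hV θ z 1 : ℤ) +
      ∑ φ : ↥(P : Subgroup G) →* ℂˣ, nng hV θ z φ := rfl
  have hmφ : ∀ φ : ↥(P : Subgroup G) →* ℂˣ,
      (multg hV θ z φ : ℤ) = multg hV θ z 1 + nng hV θ z φ := by
    intro φ
    unfold nng
    ring
  have hs1nn := s1_nonneg hP hV θ z
  have ha0 : (0 : ℤ) ≤ multg hV θ z 1 := Int.natCast_nonneg _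
  have hpZ : (7 : ℤ) ≤ p := by
    have : 7 ≤ p := by
      have h6 : p ≠ 6 := by
        intro h
        have := hp.out
        rw [h] at this
        exact absurd this (by decide)
      omega
    exact_mod_cast this
  have hrZ : (1 : ℤ) ≤ r := by exact_mod_cast hrpos
  have htZ : (1 : ℤ) ≤ t := by exact_mod_cast htpos
  have heZ : (1 : ℤ) ≤ e := by exact_mod_cast hepos
  -- the degree
  have hDeg : (p : ℤ) - 2 = (r : ℤ) * ((t : ℤ) * s1 hV θ z) := by
    have h1 := degree_eq_sum hP hV z
    rw [sum_orbit hV θ (fun θ' => ((charDegree (θ' : ↥V → ℂ) : ℕ) : ℤ) * s1 hV θ' z)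
      ((t : ℤ) * s1 hV θ z) ?_ ?_] at h1
    · rw [nsmul_eq_mul, hdeg, Nat.cast_sub (by omega : 2 ≤ p)] at h1
      push_cast at h1
      exact h1
    · rintro θ' ⟨n, hn, rfl⟩
      show ((charDegree (conjθ hV n hn θ : ↥V → ℂ) : ℕ) : ℤ) * s1 hV (conjθ hV n hn θ) z = _
      rw [charDegree_conjθ, s1_conj hP]
    · intro θ' hnc
      show ((charDegree (θ' : ↥V → ℂ) : ℕ) : ℤ) * s1 hV θ' z = 0
      rw [s1_eq_zero_of_vanish hP hV θ' z hdegp (hvanz θ' hnc), mul_zero]
  have hp0 : (0 : ℤ) ≤ p := by linarith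
  have hrt1 : (1 : ℤ) ≤ (r : ℤ) * t := one_le_mul_of_one_le_of_one_le hrZ htZ
  have hs1le : s1 hV θ z ≤ (p : ℤ) - 2 := by
    rw [hDeg]
    have h2 : s1 hV θ z ≤ ((r : ℤ) * t) * s1 hV θ z := le_mul_of_one_le_left hs1nn hrt1
    have h3 : (r : ℤ) * ((t : ℤ) * s1 hV θ z) = ((r : ℤ) * t) * s1 hV θ z := by ring
    rw [h3]
    exact h2
  have hele : e ≤ p - 1 := by
    have hYpos : 0 < Y.card := by
      rcases Nat.eq_zero_or_pos Y.card with h | h
      · rw [h, mul_zero] at hYc
        omega
      · exact h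
    calc e = e * 1 := (mul_one e).symm
      _ ≤ e * Y.card := Nat.mul_le_mul_left e hYpos
      _ = p - 1 := hYc
  have heleZ : (e : ℤ) ≤ (p : ℤ) - 1 := by
    have : ((e : ℕ) : ℤ) ≤ ((p - 1 : ℕ) : ℤ) := by exact_mod_cast hele
    rw [Nat.cast_sub hp.out.one_le] at this
    push_cast at this
    exact this
  rcases (hBXY z).mp hzB with hzX | hzY
  · -- non-exceptional: impossible
    exfalso
    obtain ⟨hεz, hnz⟩ := hXp z hzX
    have hsum := sum_nng_X hP hV θ z (εX z) hnz
    rw [hsum] at hs1def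
    rcases hεz with h1 | h1
    · rw [h1] at hs1def hnz
      have ha1 : (multg hV θ z 1 : ℤ) = 1 := by
        have hle : (multg hV θ z 1 : ℤ) ≤ 1 := by
          by_contra hgt
          push Not at hgt
          have h2a : (2 : ℤ) ≤ multg hV θ z 1 := by omega
          have : (p : ℤ) * 2 ≤ (p : ℤ) * (multg hV θ z 1 : ℤ) :=
            mul_le_mul_of_nonneg_left h2a hp0
          linarith
        have hge : (1 : ℤ) ≤ multg hV θ z 1 := by
          by_contra hlt
          push Not at hlt
          have : (multg hV θ z 1 : ℤ) = 0 := by omega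
          rw [this] at hs1def
          linarith
        omega
      apply hnt
      intro φ hφ
      have h2 := hmφ φ
      rw [hnz φ hφ, ha1] at h2
      have : (multg hV θ z φ : ℤ) = 0 := by linarith
      exact_mod_cast this
    · rw [h1] at hs1def
      have h2b : (0 : ℤ) ≤ (p : ℤ) * (multg hV θ z 1 : ℤ) := mul_nonneg hp0 ha0
      have : (p : ℤ) - 1 ≤ s1 hV θ z := by
        rw [hs1def]
        linarith
      linarith
  · -- exceptional
    have hrow := rowsum_Y hV θ z ε e (hYp z hzY) (hYs z hzY)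
    rw [hrow] at hs1def
    rcases hε with h1 | h1
    · -- sign `+1`: then `N_G(P) = C_G(P)`
      exfalso
      rw [h1, one_mul] at hs1def
      have ha : (multg hV θ z 1 : ℤ) = 0 := by
        by_contra hne
        have h2 : (1 : ℤ) ≤ multg hV θ z 1 := by omega
        have : (p : ℤ) ≤ (p : ℤ) * (multg hV θ z 1 : ℤ) := le_mul_of_one_le_right hp0 h2
        linarith
      rw [ha, mul_zero, zero_add] at hs1def
      rw [hs1def] at hDeg
      have hDegN : p - 2 = t * f := by
        have h2 : ((p - 2 : ℕ) : ℤ) = ((t * f : ℕ) : ℤ) := by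
          rw [Nat.cast_sub (by omega : 2 ≤ p), ← hfe]
          push_cast
          rw [hDeg]
          ring
        exact_mod_cast h2
      have hfd : f ∣ p - 1 := Cfsg.Agent.Lib.Helper16_BrauerMain.e_dvd P hP f rfl
      have hfd2 : f ∣ p - 2 := ⟨t, by rw [hDegN]; ring⟩
      have hf1 : f = 1 := by
        have h3 : f ∣ (p - 1) - (p - 2) := Nat.dvd_sub hfd hfd2
        have h4 : (p - 1) - (p - 2) = 1 := by omega
        rw [h4] at h3
        exact Nat.dvd_one.mp h3
      have hNC : Subgroup.normalizer ((P : Subgroup G) : Set G) ≤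
          Subgroup.centralizer ((P : Subgroup G) : Set G) := Subgroup.relIndex_eq_one.mp hf1
      exact false_of_normalizer_le hP z hnn hfaith (by omega) hNC
    · -- sign `-1`
      rw [h1] at hs1def
      have ha1 : (multg hV θ z 1 : ℤ) = 1 := by
        have hle : (multg hV θ z 1 : ℤ) ≤ 1 := by
          by_contra hgt
          push Not at hgt
          have h2a : (2 : ℤ) ≤ multg hV θ z 1 := by omega
          have : (p : ℤ) * 2 ≤ (p : ℤ) * (multg hV θ z 1 : ℤ) :=
            mul_le_mul_of_nonneg_left h2a hp0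
          linarith
        have hge : (1 : ℤ) ≤ multg hV θ z 1 := by
          by_contra hlt
          push Not at hlt
          have : (multg hV θ z 1 : ℤ) = 0 := by omega
          rw [this] at hs1def
          linarith
        omega
      rw [ha1, mul_one] at hs1def
      -- `e ≠ p - 1`
      have hne1 : e ≠ p - 1 := by
        intro he1
        apply hnt
        have hall : ∀ φ : ↥(P : Subgroup G) →* ℂˣ, φ ≠ 1 → nng hV θ z φ = -1 := by
          have hsub : Finset.univ.filter
              (fun φ : ↥(P : Subgroup G) →* ℂˣ => nng hV θ z φ ≠ 0) ⊆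
              Finset.univ.filter (fun φ : ↥(P : Subgroup G) →* ℂˣ => φ ≠ 1) := by
            intro φ hφ
            rw [Finset.mem_filter] at hφ ⊢
            refine ⟨hφ.1, ?_⟩
            rintro rfl
            exact hφ.2 (nng_one hV θ z)
          have hcard : (Finset.univ.filter
              (fun φ : ↥(P : Subgroup G) →* ℂˣ => φ ≠ 1)).card = p - 1 := by
            rw [Finset.filter_ne' Finset.univ (1 : ↥(P : Subgroup G) →* ℂˣ),
              Finset.card_erase_of_mem (Finset.mem_univ _), Finset.card_univ, card_hom_eq hP]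
          have heq := Finset.eq_of_subset_of_card_le hsub (by rw [hcard, hYs z hzY, he1])
          intro φ hφ
          have hmem : φ ∈ Finset.univ.filter
              (fun φ : ↥(P : Subgroup G) →* ℂˣ => nng hV θ z φ ≠ 0) := by
            rw [heq]
            exact Finset.mem_filter.mpr ⟨Finset.mem_univ _, hφ⟩
          have hne := (Finset.mem_filter.mp hmem).2
          rcases hYp z hzY φ hφ with h3 | h3
          · exact absurd h3 hne
          · rw [h3, h1]
        intro φ hφ
        have h2 := hmφ φ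
        rw [hall φ hφ, ha1] at h2
        have : (multg hV θ z φ : ℤ) = 0 := by linarith
        exact_mod_cast this
      have hY2 : 2 ≤ Y.card := by
        by_contra hlt
        have hYpos : 0 < Y.card := Finset.card_pos.mpr ⟨z, hzY⟩
        have : Y.card = 1 := by omega
        rw [this, mul_one] at hYc
        exact hne1 hYc
      have h2e : 2 * e ≤ p - 1 := by
        calc 2 * e = e * 2 := by ring
          _ ≤ e * Y.card := Nat.mul_le_mul_left e hY2
          _ = p - 1 := hYc
      have h2eZ : (2 : ℤ) * e ≤ (p : ℤ) - 1 := by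
        have : ((2 * e : ℕ) : ℤ) ≤ ((p - 1 : ℕ) : ℤ) := by exact_mod_cast h2e
        rw [Nat.cast_sub hp.out.one_le] at this
        push_cast at this
        exact this
      -- `r t = 1`
      rw [hs1def] at hDeg
      have hrt : (r : ℤ) * t = 1 := by
        by_contra hne
        have h3 : (2 : ℤ) ≤ (r : ℤ) * t := by
          have := lt_of_le_of_ne hrt1 (Ne.symm hne)
          linarith [Int.add_one_le_iff.mpr this]
        have h4 : (r : ℤ) * ((t : ℤ) * ((p : ℤ) + -1 * e)) = ((r : ℤ) * t) * ((p : ℤ) - e) := by ring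
        rw [h4] at hDeg
        have h5 : (0 : ℤ) ≤ (p : ℤ) - e := by linarith
        have h6 : (2 : ℤ) * ((p : ℤ) - e) ≤ ((r : ℤ) * t) * ((p : ℤ) - e) :=
          mul_le_mul_of_nonneg_right h3 h5
        linarith
      have hr1 : r = 1 := by
        have h2 : (r : ℤ) = 1 := by
          rcases Int.eq_one_or_neg_one_of_mul_eq_one' hrt with ⟨h, _⟩ | ⟨h, _⟩
          · exact h
          · linarith
        exact_mod_cast h2
      have ht1 : t = 1 := by
        have h2 : (t : ℤ) = 1 := by
          rcases Int.eq_one_or_neg_one_of_mul_eq_one' hrt with ⟨_, h⟩ | ⟨_, h⟩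
          · exact h
          · linarith
        exact_mod_cast h2
      have he2 : e = 2 := by
        have h4 : (r : ℤ) * ((t : ℤ) * ((p : ℤ) + -1 * e)) = ((r : ℤ) * t) * ((p : ℤ) - e) := by ring
        rw [h4, hrt, one_mul] at hDeg
        have : (e : ℤ) = 2 := by linarith
        exact_mod_cast this
      refine ⟨θ, hvanz, ht1, hr1, he2, by exact_mod_cast ha1, ?_, ?_⟩
      · intro φ
        by_cases hφ : φ = 1
        · left
          rw [hφ]
          exact nng_one hV θ z
        · rcases hYp z hzY φ hφ with h3 | h3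
          · left
            exact h3
          · right
            rw [h3, h1]
      · rw [hYs z hzY, he2]

open scoped Classical in
/-- **P2-LOC**: local structure of a faithful irreducible character of degree `p - 2` when `P` (of
order `p`) is not normal: `V = Z(G)`, `|N_G(P) : C_G(P)| = 2` and `z = -(lam + lam⁻¹)` on
`P \ {1}` for a nontrivial linear character `lam` of `P`. -/
theorem p2_local (hP : Nat.card P = p) (hV : IsPCompl P V) (z : IrrCharacter G)
    (hp5 : 5 < p) (hnn : ¬ (P : Subgroup G).Normal)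
    (hfaith : ∀ g : G, (z : G → ℂ) g = (z : G → ℂ) 1 → g = 1)
    (hdeg : charDegree (z : G → ℂ) = p - 2) :
    V = Subgroup.center G ∧
    (Subgroup.centralizer ((P : Subgroup G) : Set G)).relIndex
      (Subgroup.normalizer ((P : Subgroup G) : Set G)) = 2 ∧
    ∃ lam : ↥(P : Subgroup G) →* ℂˣ, lam ≠ 1 ∧
      ∀ x : ↥(P : Subgroup G), x ≠ 1 →
        (z : G → ℂ) (x : G) = -(((lam x : ℂˣ) : ℂ) + ((lam x : ℂˣ) : ℂ)⁻¹) := by
  obtain ⟨θ, hvanz, ht1, hr1, he2, ha1, hn01, hOcard⟩ :=
    p2_shape hP hV z hp5 hnn hfaith hdeg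
  have hp2 := hp.out.two_le
  have hdegp : charDegree (z : G → ℂ) < p := by omega
  have hf2 : (Subgroup.centralizer ((P : Subgroup G) : Set G)).relIndex
      (Subgroup.normalizer ((P : Subgroup G) : Set G)) = 2 := by
    have h1 := Subgroup.relIndex_mul_relIndex _ _ _ (centralizer_le_stab hV θ)
      (stab_le_normalizer hV θ)
    rw [he2, hr1] at h1
    rw [← h1]
  -- the only conjugate of `θ` is `θ`
  have hconj : ∀ θ' : IrrCharacter ↥V, IsConjθ hV θ θ' → θ' = θ := by
    have h1 := ncard_conjθ hV θ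
    rw [hr1] at h1
    obtain ⟨θ0, hθ0⟩ := Set.ncard_eq_one.mp h1
    have hmem : θ ∈ {θ' : IrrCharacter ↥V | IsConjθ hV θ θ'} :=
      ⟨1, Subgroup.one_mem _, (conjθ_one hV θ).symm⟩
    intro θ' hθ'
    have h2 : θ' ∈ ({θ0} : Set (IrrCharacter ↥V)) := by
      rw [← hθ0]
      exact hθ'
    have h3 : θ ∈ ({θ0} : Set (IrrCharacter ↥V)) := by
      rw [← hθ0]
      exact hmem
    rw [Set.mem_singleton_iff] at h2 h3
    rw [h2, h3]
  have hvanθ : ∀ θ' : IrrCharacter ↥V, θ' ≠ θ →
      ∀ h : ↥(P : Subgroup G), h ≠ 1 → sfun P V θ' z h = 0 :=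
    fun θ' hne => hvanz θ' (fun hc => hne (hconj θ' hc))
  -- multiplicities on `P`
  have hmult : ∀ φ : ↥(P : Subgroup G) →* ℂˣ, mult P z φ = multg hV θ z φ := by
    intro φ
    rw [mult_eq_sum_multg hV z φ, Finset.sum_eq_single θ]
    · rw [ht1, one_mul]
    · intro θ' _ hne
      rw [multg_eq_zero_of_vanish hP hV θ' z hdegp (hvanθ θ' hne) φ, mul_zero]
    · intro h
      exact absurd (Finset.mem_univ _) h
  have hmφ : ∀ φ : ↥(P : Subgroup G) →* ℂˣ,
      (multg hV θ z φ : ℤ) = multg hV θ z 1 + nng hV θ z φ := by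
    intro φ
    unfold nng
    ring
  set O := Finset.univ.filter (fun φ : ↥(P : Subgroup G) →* ℂˣ => nng hV θ z φ ≠ 0) with hO
  have hmultO : ∀ φ : ↥(P : Subgroup G) →* ℂˣ, φ ∈ O → mult P z φ = 0 := by
    intro φ hφ
    have hne := (Finset.mem_filter.mp hφ).2
    have h1 := hmφ φ
    rcases hn01 φ with h2 | h2
    · exact absurd h2 hne
    · rw [h2, ha1] at h1
      rw [hmult φ]
      have : (multg hV θ z φ : ℤ) = 0 := by
        rw [h1]
        norm_num
      exact_mod_cast this
  have hmultnO : ∀ φ : ↥(P : Subgroup G) →* ℂˣ, φ ∉ O → mult P z φ = 1 := by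
    intro φ hφ
    have h0 : nng hV θ z φ = 0 := by
      by_contra hne
      exact hφ (Finset.mem_filter.mpr ⟨Finset.mem_univ _, hne⟩)
    have h1 := hmφ φ
    rw [h0, ha1] at h1
    rw [hmult φ]
    have : (multg hV θ z φ : ℤ) = 1 := by
      rw [h1]
      norm_num
    exact_mod_cast this
  obtain ⟨l1, l2, hl12, hOeq⟩ := Finset.card_eq_two.mp hOcard
  have hl1O : l1 ∈ O := by
    rw [hOeq]
    exact Finset.mem_insert_self _ _
  have hl1ne : l1 ≠ 1 := by
    rintro rfl
    exact (Finset.mem_filter.mp hl1O).2 (nng_one hV θ z)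
  -- a nontrivial element of the automizer
  have hcardA : Nat.card (autP P) = 2 := Cfsg.Agent.Lib.Helper16_BrauerAut.card_autP P 2 hf2
  obtain ⟨α, hα, hα1⟩ : ∃ α ∈ autP P, α ≠ 1 := by
    by_contra hall
    push Not at hall
    have hbot : autP P = ⊥ := by
      rw [Subgroup.eq_bot_iff_forall]
      exact hall
    rw [hbot, Subgroup.card_bot] at hcardA
    omega
  have hαα : ∀ y : ↥(P : Subgroup G), α (α y) = y := by
    have h1 : (⟨α, hα⟩ : autP P) ^ Nat.card (autP P) = 1 := pow_card_eq_one'
    rw [hcardA, sq] at h1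
    have h2 : α * α = 1 := congrArg Subtype.val h1
    intro y
    have h3 := congrArg (fun β : MulAut ↥(P : Subgroup G) => β y) h2
    simpa using h3
  have hmem : l1.comp α.toMonoidHom ∈ O := by
    by_contra hn
    have h1 := hmultnO _ hn
    rw [mult_comp_autP z l1 hα, hmultO l1 hl1O] at h1
    exact zero_ne_one h1
  have hne : l1.comp α.toMonoidHom ≠ l1 :=
    fun h => hα1 ((Cfsg.Agent.Lib.Helper16_BrauerAut.comp_eq_iff P hP hl1ne α).mp h)
  have hl2 : l1.comp α.toMonoidHom = l2 := by
    rw [hOeq, Finset.mem_insert, Finset.mem_singleton] at hmem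
    rcases hmem with h | h
    · exact absurd h hne
    · exact h
  have hinv : ∀ y : ↥(P : Subgroup G), l1 (α y) = (l1 y)⁻¹ := by
    set μ : ↥(P : Subgroup G) →* ℂˣ := l1 * l1.comp α.toMonoidHom with hμdef
    have hμα : μ.comp α.toMonoidHom = μ := by
      ext y
      show ((l1 (α y) * l1 (α (α y)) : ℂˣ) : ℂ) = ((l1 y * l1 (α y) : ℂˣ) : ℂ)
      rw [hαα y, mul_comm]
    have hμ1 : μ = 1 := by
      by_contra hμ
      exact hα1 ((Cfsg.Agent.Lib.Helper16_BrauerAut.comp_eq_iff P hP hμ α).mp hμα)
    intro y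
    have h1 : l1 y * l1 (α y) = 1 := DFunLike.congr_fun hμ1 y
    exact eq_inv_of_mul_eq_one_right h1
  -- `V ≤ Z(G)`
  have hθ1 : (θ : ↥V → ℂ) 1 = 1 := by
    rw [← Cfsg.Agent.Lib.Helper16_BrauerFinal.charDegree_cast θ, ht1]
    norm_num
  have hzv : ∀ v : ↥V, (z : G → ℂ) (v : G) = sfun P V θ z 1 * (θ : ↥V → ℂ) v := by
    intro v
    have h1 := value_hv hV z 1 v
    simp only [OneMemClass.coe_one, one_mul] at h1
    rw [h1, Finset.sum_eq_single θ]
    · intro θ' _ hne
      rw [← s1_cast hP hV θ' z, s1_eq_zero_of_vanish hP hV θ' z hdegp (hvanθ θ' hne)]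
      simp
    · intro h
      exact absurd (Finset.mem_univ _) h
  have hVc : ∀ v : ↥V, (v : G) ∈ Subgroup.center G := by
    intro v
    apply mem_center_of_norm_eq z hfaith
    have h1 := hzv v
    have h2 := hzv 1
    rw [OneMemClass.coe_one, hθ1, mul_one] at h2
    rw [h1, h2, norm_mul,
      Cfsg.Agent.Lib.Helper79_Linear.linear_norm (⟨θ, hθ1⟩ : {χ : IrrCharacter ↥V //
        (χ : ↥V → ℂ) 1 = 1}) v, mul_one]
  refine ⟨?_, hf2, l1, hl1ne, ?_⟩
  · apply le_antisymm
    · intro v hv
      exact hVc ⟨v, hv⟩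
    · intro w hw
      have hwC : w ∈ Subgroup.centralizer ((P : Subgroup G) : Set G) := by
        rw [Subgroup.mem_centralizer_iff]
        intro y _
        exact (Subgroup.mem_center_iff.mp hw y)
      obtain ⟨h, hh, v, hv, rfl⟩ := hV.prod w hwC
      have hvc := hVc ⟨v, hv⟩
      have hhc : h ∈ Subgroup.center G := by
        have : h = (h * v) * v⁻¹ := by group
        rw [this]
        exact Subgroup.mul_mem _ hw (Subgroup.inv_mem _ hvc)
      have hh1 : h = 1 := by
        by_contra hne
        apply hnn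
        refine normal_of_central hP ⟨h, hh⟩ (fun h0 => hne (congrArg Subtype.val h0)) ?_
        intro g
        exact (Subgroup.mem_center_iff.mp hhc g)
      rw [hh1, one_mul]
      exact hv
  · intro x hx
    rw [Cfsg.Agent.Lib.Helper16_BrauerSetup.value_eq P hP z x]
    have h0 := Cfsg.Agent.Lib.Helper25_AbDual.sum_hom_apply (comm_of_card P hP) x
    rw [if_neg hx] at h0
    have h1 : ∀ φ : ↥(P : Subgroup G) →* ℂˣ,
        (mult P z φ : ℂ) * ((φ x : ℂˣ) : ℂ) =
          ((φ x : ℂˣ) : ℂ) - (if φ ∈ O then ((φ x : ℂˣ) : ℂ) else 0) := by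
      intro φ
      by_cases h : φ ∈ O
      · rw [hmultO φ h, if_pos h]
        simp
      · rw [hmultnO φ h, if_neg h]
        simp
    rw [Finset.sum_congr rfl (fun φ _ => h1 φ), Finset.sum_sub_distrib, h0, zero_sub,
      ← Finset.sum_filter]
    have h2 : Finset.univ.filter (fun φ : ↥(P : Subgroup G) →* ℂˣ => φ ∈ O) = O := by
      ext φ
      simp
    rw [h2, hOeq, Finset.sum_pair hl12, ← hl2]
    show -(((l1 x : ℂˣ) : ℂ) + ((l1 (α x) : ℂˣ) : ℂ)) = _
    rw [hinv x, Units.val_inv_eq_inv_val]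

end main

end Cfsg.Agent.Lib.Helper16_P2_LOC
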