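import Mathlib
import Cfsg.Prelude.Def_Characters
import Cfsg.Prelude.Def_Blocks

/-!
# S4705 (faithful irreducible character of degree `p - 2`): definitions (helper3)

`Hyp G p P ζ` : the hypotheses of S4705.
`Loc G p P ζ` : the local conclusion (Part A): `C_G(P) = P × Z(G)`, `|N_G(P) : C_G(P)| = 2`,
  `ζ = -(λ + λ⁻¹)` on `P \ {1}`.
`Core G p P ζ k₂` : everything the element-wise analysis of a perfect `G` needs (Part B2/B3):
  `Hyp`, `Loc`, `|Z(G)|` odd, the exponent `k₂` (`g ^ k₂ = g` on `2`-elements, `= g²` on `p`-regular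
  elements of odd order) with the KEY identity `ζ(g²) = ζ(g)² - (p - 3) ζ(g ^ k₂)` on `p`-regular `g`,
  and integrality of `ζ` on `2`-elements.
`RegVals G p ζ` : the `p`-regular elements are central, or (involution)·(central), or zeros of `ζ`.
Paper proof: `pending/helper3/S4705_proof.md`.
-/

set_option autoImplicit false

namespace Cfsg.Agent.Lib.Helper3_P2Defs

open Cfsg

/-- Hypotheses of S4705 for `(G, p, P, ζ)`. -/
structure Hyp (G : Type*) [Group G] (p : ℕ) (P : Sylow p G) (ζ : G → ℂ) : Prop where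
  p5 : 5 < p
  cardP : Nat.card P = p
  nn : ¬ (P : Subgroup G).Normal
  irr : IsIrrCharacter G ζ
  faith : ∀ g : G, ζ g = ζ 1 → g = 1
  deg : charDegree ζ = p - 2

/-- The local conclusion (Part A). -/
structure Loc (G : Type*) [Group G] (p : ℕ) (P : Sylow p G) (ζ : G → ℂ) : Prop where
  cent : ∀ c ∈ Subgroup.centralizer ((P : Subgroup G) : Set G),
    ∃ x ∈ (P : Subgroup G), ∃ w ∈ Subgroup.center G, c = x * w
  idx : (Subgroup.centralizer ((P : Subgroup G) : Set G)).relIndex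
    (Subgroup.normalizer ((P : Subgroup G) : Set G)) = 2
  vals : ∃ lam : ↥(P : Subgroup G) →* ℂˣ, lam ≠ 1 ∧ ∀ x : ↥(P : Subgroup G), x ≠ 1 →
    ζ (x : G) = -(((lam x : ℂˣ) : ℂ) + (((lam x)⁻¹ : ℂˣ) : ℂ))

/-- The data for the element-wise analysis of a perfect group (Parts B2, B3). -/
structure Core (G : Type*) [Group G] (p : ℕ) (P : Sylow p G) (ζ : G → ℂ) (k₂ : ℕ) : Prop
    extends Hyp G p P ζ, Loc G p P ζ where
  zodd : Odd (Nat.card (Subgroup.center G))
  k2two : ∀ g : G, (∃ n : ℕ, orderOf g = 2 ^ n) → g ^ k₂ = g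
  k2odd : ∀ g : G, Odd (orderOf g) → ¬ p ∣ orderOf g → g ^ k₂ = g * g
  key : ∀ g : G, ¬ p ∣ orderOf g → ζ (g * g) = ζ g ^ 2 - ((p : ℂ) - 3) * ζ (g ^ k₂)
  rat2 : ∀ u : G, (∃ n : ℕ, orderOf u = 2 ^ n) → ∃ m : ℤ, ζ u = (m : ℂ)

/-- The `p`-regular elements: central, (involution)·(central), or zeros of `ζ`. -/
def RegVals (G : Type*) [Group G] (p : ℕ) (ζ : G → ℂ) : Prop :=
  ∀ g : G, ¬ p ∣ orderOf g → g ∈ Subgroup.center G ∨
    (∃ u : G, orderOf u = 2 ∧ ∃ w ∈ Subgroup.center G, g = u * w) ∨ ζ g = 0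

end Cfsg.Agent.Lib.Helper3_P2Defs
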