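import Mathlib
import Cfsg.Agent.Lib.Helper3_P2Defs
import Cfsg.Agent.Lib.Helper16_GenSetup
import Cfsg.Agent.Lib.Helper16_GenBridge
import Cfsg.Agent.Lib.Helper16_P2_LOC

/-!
# S4705, Part A (helper16): `Hyp G p P ζ → Loc G p P ζ`

Direct consequence of `Helper16_P2_LOC.p2_local`; replaces the packages LOC1, LOC2, LOC3A, LOC3B, DICH
of `pending/helper3/S4705_packages.lean.txt`.  `locA` is stated verbatim as in
`pending/helper3/S4705_main.lean.txt`.
-/

set_option autoImplicit false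
set_option linter.unusedSectionVars false

namespace Cfsg.Agent.Lib.Helper16_P2_LOCA

open Cfsg Cfsg.Agent.Lib.Helper3_P2Defs Cfsg.Agent.Lib.Helper16_GenSetup

universe u

variable {G : Type u} [Group G] [Finite G] {p : ℕ} [hp : Fact p.Prime] {P : Sylow p G}
  {ζ : G → ℂ}

/-- **Part A** of S4705. -/
theorem locA (h : Hyp G p P ζ) : Loc G p P ζ := by
  classical
  have : Fintype G := Fintype.ofFinite G
  obtain ⟨V, hV⟩ := Cfsg.Agent.Lib.Helper16_GenBridge.exists_isPCompl (P := P) h.cardP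
  have : Fintype ↥(P : Subgroup G) := Fintype.ofFinite _
  have : Fintype ↥V := Fintype.ofFinite _
  have : Fintype (↥(P : Subgroup G) →* ℂˣ) := Fintype.ofFinite _
  obtain ⟨hVZ, hidx, lam, hl1, hval⟩ :=
    Cfsg.Agent.Lib.Helper16_P2_LOC.p2_local h.cardP hV ⟨ζ, h.irr⟩ h.p5 h.nn h.faith h.deg
  refine ⟨?_, hidx, lam, hl1, ?_⟩
  · intro c hc
    obtain ⟨x, hx, v, hv, rfl⟩ := hV.prod c hc
    exact ⟨x, hx, v, hVZ ▸ hv, rfl⟩
  · intro x hx
    have h1 := hval x hx
    rw [Units.val_inv_eq_inv_val]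
    exact h1

end Cfsg.Agent.Lib.Helper16_P2_LOCA
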