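import Mathlib
import Cfsg.Prelude.Def_Characters
import Cfsg.Prelude.Def_Blocks
import Cfsg.Agent.Lib.Helper3_P2Defs
import Cfsg.Agent.Lib.Helper16_GenSetup
import Cfsg.Agent.Lib.Helper16_GenK
import Cfsg.Agent.Lib.Helper16_GenMain
import Cfsg.Agent.Lib.Helper16_GenFinal
import Cfsg.Agent.Lib.Helper25_AbDual
import Cfsg.Agent.S1504

/-!
# S4705, package P2-NNG (helper16)

If the `ϑ`-component `sfun P V ϑ χ` equals `-(μ + μ⁻¹)` on `P \ {1}` (`μ ≠ 1` a linear character of `P`)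
then `nng hV ϑ χ φ = -1` for `φ ∈ {μ, μ⁻¹}` and `= 0` for every other `φ ≠ 1`.
-/

set_option autoImplicit false
set_option linter.unusedSectionVars false
set_option linter.unusedVariables false

namespace Cfsg.Agent.Lib.Helper16_P2_NNG

open Cfsg Cfsg.Agent.Lib.Helper3_P2Defs Cfsg.Agent.Lib.Helper16_GenSetup
  Cfsg.Agent.Lib.Helper16_GenMain Cfsg.Agent.Lib.Helper16_GenFinal
open scoped ComplexConjugate

universe u

section partB1

variable {G : Type u} [Group G] [Fintype G] {p : ℕ} [hp : Fact p.Prime] {P : Sylow p G}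
  {V : Subgroup G} {ζ : G → ℂ}

section nng

variable [Fintype ↥(P : Subgroup G)] [Fintype ↥V] [Fintype (↥(P : Subgroup G) →* ℂˣ)]

/-- The sum of the values of a linear character of `P`. -/
theorem sum_hom (hP : Nat.card P = p) (ψ : ↥(P : Subgroup G) →* ℂˣ) :
    ∑ h : ↥(P : Subgroup G), ((ψ h : ℂˣ) : ℂ) =
      open scoped Classical in if ψ = 1 then (p : ℂ) else 0 := by
  classical
  by_cases hψ : ψ = 1
  · rw [if_pos hψ, hψ]
    simp only [MonoidHom.one_apply, Units.val_one, Finset.sum_const, Finset.card_univ,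
      nsmul_eq_mul, mul_one]
    rw [← Nat.card_eq_fintype_card]
    have hP' : Nat.card ↥(P : Subgroup G) = p := hP
    rw [hP']
  · rw [if_neg hψ]
    exact Cfsg.Agent.S1504.sum_units_hom_eq_zero ψ hψ

omit [Fintype G] hp [Fintype ↥(P : Subgroup G)] [Fintype (↥(P : Subgroup G) →* ℂˣ)] in
theorem hom_mul_inv_eq_one_iff (a b : ↥(P : Subgroup G) →* ℂˣ) : a * b⁻¹ = 1 ↔ b = a := by
  constructor
  · intro h
    apply MonoidHom.ext
    intro x
    have h1 := DFunLike.congr_fun h x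
    rw [MonoidHom.mul_apply, MonoidHom.inv_apply, MonoidHom.one_apply, mul_inv_eq_one] at h1
    exact h1.symm
  · rintro rfl
    apply MonoidHom.ext
    intro x
    rw [MonoidHom.mul_apply, MonoidHom.inv_apply, MonoidHom.one_apply, mul_inv_cancel]

/-- `μ = μ⁻¹` is impossible for a nontrivial `μ` under the hypothesis on `sfun`. -/
theorem ne_inv (hP : Nat.card P = p) (hV : IsPCompl P V)
    (ϑ : IrrCharacter ↥V) (χ : IrrCharacter G) (μ : ↥(P : Subgroup G) →* ℂˣ) (hμ : μ ≠ 1)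
    (hval : ∀ x : ↥(P : Subgroup G), x ≠ 1 →
      sfun P V ϑ χ x = -(((μ x : ℂˣ) : ℂ) + (((μ x)⁻¹ : ℂˣ) : ℂ))) :
    μ ≠ μ⁻¹ := by
  classical
  intro hμμ
  have hP' : Nat.card ↥(P : Subgroup G) = p := hP
  -- a point where `μ` is not `1`
  have hex : ∃ x : ↥(P : Subgroup G), μ x ≠ 1 := by
    by_contra hc
    push Not at hc
    exact hμ (MonoidHom.ext fun x => by rw [hc x]; rfl)
  obtain ⟨x, hx⟩ := hex
  have hx1 : x ≠ 1 := by
    rintro rfl
    exact hx (map_one μ)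
  have hsq : μ x * μ x = 1 := by
    have h1 : μ x = (μ⁻¹) x := by rw [← hμμ]
    rw [MonoidHom.inv_apply] at h1
    calc μ x * μ x = μ x * (μ x)⁻¹ := by rw [← h1]
      _ = 1 := mul_inv_cancel _
  -- `p = 2`
  have hxp : x ^ p = 1 := by
    have h1 : x ^ Nat.card ↥(P : Subgroup G) = 1 := pow_card_eq_one'
    rw [hP'] at h1
    exact h1
  have hpow : μ x ^ p = 1 := by
    rw [← map_pow, hxp, map_one]
  have hp2 : p = 2 := by
    by_contra hne
    have hodd : Odd p := hp.out.odd_of_ne_two hne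
    obtain ⟨t, ht⟩ := hodd
    have h2 : μ x ^ (2 * t) = 1 := by
      rw [pow_mul, pow_two, hsq, one_pow]
    have h3 : μ x ^ p = μ x ^ (2 * t + 1) := congrArg (fun n => μ x ^ n) ht
    rw [h3, pow_succ, h2, one_mul] at hpow
    exact hx hpow
  -- value of `sfun` at `x`
  have hμx : ((μ x : ℂˣ) : ℂ) * ((μ x : ℂˣ) : ℂ) = 1 := by
    rw [← Units.val_mul, hsq, Units.val_one]
  have hinv : (((μ x)⁻¹ : ℂˣ) : ℂ) = ((μ x : ℂˣ) : ℂ) := by
    have h1 : (μ x)⁻¹ = μ x := by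
      rw [inv_eq_iff_mul_eq_one]
      exact hsq
    rw [h1]
  have hs : sfun P V ϑ χ x = -(2 * ((μ x : ℂˣ) : ℂ)) := by
    rw [hval x hx1, hinv]
    ring
  have hnorm : sfun P V ϑ χ x * conj (sfun P V ϑ χ x) = 4 := by
    have hc : conj ((μ x : ℂˣ) : ℂ) = ((μ x : ℂˣ) : ℂ)⁻¹ := by
      have h1 : ((μ x : ℂˣ) : ℂ) ^ 2 = 1 := by rw [pow_two]; exact hμx
      have h2 : ‖((μ x : ℂˣ) : ℂ)‖ = 1 := Complex.norm_eq_one_of_pow_eq_one h1 (by norm_num)
      rw [Complex.inv_eq_conj h2]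
    have hne : ((μ x : ℂˣ) : ℂ) ≠ 0 := Units.ne_zero _
    rw [hs, map_neg, map_mul, hc]
    simp only [map_ofNat]
    field_simp
    norm_num
  have hK := Cfsg.Agent.Lib.Helper16_GenK.K_formula hP hV ϑ hx1 x
  rw [if_pos ⟨1, Subgroup.one_mem _, by rw [one_mul, inv_one, mul_one]⟩] at hK
  -- the single term is at most the sum
  have hterm : ∀ χ' : IrrCharacter G,
      sfun P V ϑ χ' x * conj (sfun P V ϑ χ' x) = ((Complex.normSq (sfun P V ϑ χ' x) : ℝ) : ℂ) :=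
    fun χ' => Complex.mul_conj _
  have hK' : ∑ χ' : IrrCharacter G, Complex.normSq (sfun P V ϑ χ' x) = (p : ℝ) := by
    have h1 : ((∑ χ' : IrrCharacter G, Complex.normSq (sfun P V ϑ χ' x) : ℝ) : ℂ) = ((p : ℝ) : ℂ) := by
      push_cast
      rw [← hK]
      exact Finset.sum_congr rfl fun χ' _ => (hterm χ').symm
    exact_mod_cast h1
  have h4 : Complex.normSq (sfun P V ϑ χ x) = 4 := by
    have h1 : ((Complex.normSq (sfun P V ϑ χ x) : ℝ) : ℂ) = ((4 : ℝ) : ℂ) := by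
      rw [← hterm, hnorm]
      norm_num
    exact_mod_cast h1
  have hle : Complex.normSq (sfun P V ϑ χ x) ≤
      ∑ χ' : IrrCharacter G, Complex.normSq (sfun P V ϑ χ' x) :=
    Finset.single_le_sum (f := fun χ' : IrrCharacter G => Complex.normSq (sfun P V ϑ χ' x))
      (fun χ' _ => Complex.normSq_nonneg _) (Finset.mem_univ χ)
  rw [hK', h4, hp2] at hle
  norm_num at hle

/-- **P2-NNG**. -/
theorem nng_of_vals (hP : Nat.card P = p) (hV : IsPCompl P V)
    (ϑ : IrrCharacter ↥V) (χ : IrrCharacter G) (μ : ↥(P : Subgroup G) →* ℂˣ) (hμ : μ ≠ 1)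
    (hval : ∀ x : ↥(P : Subgroup G), x ≠ 1 →
      sfun P V ϑ χ x = -(((μ x : ℂˣ) : ℂ) + (((μ x)⁻¹ : ℂˣ) : ℂ)))
    (φ : ↥(P : Subgroup G) →* ℂˣ) (hφ : φ ≠ 1) :
    nng hV ϑ χ φ = if (φ = μ ∨ φ = μ⁻¹) then -1 else 0 := by
  classical
  have hP' : Nat.card ↥(P : Subgroup G) = p := hP
  have hp0 : (p : ℂ) ≠ 0 := by
    rw [Nat.cast_ne_zero]
    exact hp.out.ne_zero
  have hμi : μ⁻¹ ≠ 1 := by
    intro h
    apply hμ
    apply MonoidHom.ext
    intro x
    have h1 := DFunLike.congr_fun h x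
    rw [MonoidHom.inv_apply, MonoidHom.one_apply, inv_eq_one] at h1
    rw [h1, MonoidHom.one_apply]
  have hne := ne_inv hP hV ϑ χ μ hμ hval
  -- conjugates
  have hconj : ∀ h : ↥(P : Subgroup G), conj ((φ h : ℂˣ) : ℂ) = (((φ⁻¹) h : ℂˣ) : ℂ) := by
    intro h
    rw [Cfsg.Agent.Lib.Helper25_AbDual.conj_hom, map_inv, MonoidHom.inv_apply]
  -- the sum
  have hterm : ∀ h : ↥(P : Subgroup G),
      sfun P V ϑ χ h * (conj ((φ h : ℂˣ) : ℂ) - 1) =
        -((((μ * φ⁻¹) h : ℂˣ) : ℂ)) - ((((μ⁻¹ * φ⁻¹) h : ℂˣ) : ℂ)) +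
          ((μ h : ℂˣ) : ℂ) + (((μ⁻¹) h : ℂˣ) : ℂ) := by
    intro h
    by_cases hh : h = 1
    · rw [hh]
      simp only [map_one, Units.val_one, sub_self, mul_zero]
      ring
    · rw [hval h hh, hconj h]
      simp only [MonoidHom.mul_apply, MonoidHom.inv_apply, Units.val_mul]
      ring
  have hnn := nng_eq hP hV ϑ χ φ
  rw [Finset.sum_congr rfl (fun h _ => hterm h)] at hnn
  rw [Finset.sum_add_distrib, Finset.sum_add_distrib, Finset.sum_sub_distrib,
    Finset.sum_neg_distrib, sum_hom hP, sum_hom hP, sum_hom hP, sum_hom hP,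
    if_neg hμ, if_neg hμi] at hnn
  have e1 : μ * φ⁻¹ = 1 ↔ φ = μ := hom_mul_inv_eq_one_iff μ φ
  have e2 : μ⁻¹ * φ⁻¹ = 1 ↔ φ = μ⁻¹ := hom_mul_inv_eq_one_iff μ⁻¹ φ
  by_cases h1 : φ = μ
  · have h2 : ¬ φ = μ⁻¹ := by
      intro h2
      exact hne (h1.symm.trans h2)
    rw [if_pos (e1.mpr h1), if_neg (fun h => h2 (e2.mp h))] at hnn
    rw [if_pos (Or.inl h1)]
    have : (nng hV ϑ χ φ : ℂ) = ((-1 : ℤ) : ℂ) := by
      rw [hnn]
      push_cast
      field_simp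
      ring
    exact_mod_cast this
  · by_cases h2 : φ = μ⁻¹
    · rw [if_neg (fun h => h1 (e1.mp h)), if_pos (e2.mpr h2)] at hnn
      rw [if_pos (Or.inr h2)]
      have : (nng hV ϑ χ φ : ℂ) = ((-1 : ℤ) : ℂ) := by
        rw [hnn]
        push_cast
        field_simp
        ring
      exact_mod_cast this
    · rw [if_neg (fun h => h1 (e1.mp h)), if_neg (fun h => h2 (e2.mp h))] at hnn
      rw [if_neg (by rintro (h | h); exact h1 h; exact h2 h)]
      have : (nng hV ϑ χ φ : ℂ) = ((0 : ℤ) : ℂ) := by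
        rw [hnn]
        push_cast
        ring
      exact_mod_cast this

end nng

end partB1

end Cfsg.Agent.Lib.Helper16_P2_NNG
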