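import Mathlib
import Cfsg.Prelude.Def_Characters
import Cfsg.Prelude.Def_Blocks
import Cfsg.Agent.Lib.Helper3_P2Defs
import Cfsg.Agent.Lib.Helper16_GenSetup
import Cfsg.Agent.Lib.Helper16_GenMain
import Cfsg.Agent.Lib.Helper16_GenFinal
import Cfsg.Agent.Lib.Helper25_AbDual
import Cfsg.Agent.Lib.Helper75_GalConj
import Cfsg.Agent.Lib.Helper76_GalConj
import Cfsg.Agent.Lib.Helper79_Linear

/-!
# S4705, package P2-SFUN (helper16)

The Galois twist `χ = ζ(·^k)` of the character `ζ` of S4705 (`V = Z(G)`), the linear character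
`ϑ w = ζ(w^k)/ζ(1)` of `Z(G)`, and the `ϑ`-component of `χ` on `P \ {1}`: `-(lam^k + lam^{-k})`.
-/

set_option autoImplicit false
set_option linter.unusedSectionVars false
set_option linter.unusedVariables false

namespace Cfsg.Agent.Lib.Helper16_P2_SFUN

open Cfsg Cfsg.Agent.Lib.Helper3_P2Defs Cfsg.Agent.Lib.Helper16_GenSetup
  Cfsg.Agent.Lib.Helper16_GenMain Cfsg.Agent.Lib.Helper16_GenFinal
open scoped ComplexConjugate

universe u

section partB1

variable {G : Type u} [Group G] [Fintype G] {p : ℕ} [hp : Fact p.Prime] {P : Sylow p G}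
  {V : Subgroup G} {ζ : G → ℂ}

section sfun

variable [Fintype ↥(P : Subgroup G)] [Fintype ↥(Subgroup.center G)]

/-- **P2-SFUN**. -/
theorem sfun_twist (h : Hyp G p P ζ) (hV : IsPCompl P (Subgroup.center G))
    (lam : ↥(P : Subgroup G) →* ℂˣ)
    (hval : ∀ x : ↥(P : Subgroup G), x ≠ 1 →
      ζ (x : G) = -(((lam x : ℂˣ) : ℂ) + (((lam x)⁻¹ : ℂˣ) : ℂ)))
    (k : ℕ) (hk : k.Coprime (Nat.card G)) :
    ∃ (ϑ : IrrCharacter ↥(Subgroup.center G)) (χ : IrrCharacter G),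
      (∀ g : G, (χ : G → ℂ) g = ζ (g ^ k)) ∧
      (∀ w : ↥(Subgroup.center G), (ϑ : ↥(Subgroup.center G) → ℂ) w * ζ 1 = ζ ((w : G) ^ k)) ∧
      ∀ x : ↥(P : Subgroup G), x ≠ 1 →
        sfun P (Subgroup.center G) ϑ χ x =
          -((((lam ^ k) x : ℂˣ) : ℂ) + ((((lam ^ k) x)⁻¹ : ℂˣ) : ℂ)) := by
  classical
  set z : IrrCharacter G := ⟨ζ, h.irr⟩ with hz
  have hz1 : ζ 1 ≠ 0 := Cfsg.Agent.Lib.Helper76_GalConj.irr_one_ne_zero z
  -- the central character as a hom to the units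
  set ω : ↥(Subgroup.center G) →* ℂˣ :=
    (Cfsg.Agent.Lib.Helper76_GalConj.centralHom z).toHomUnits with hω
  have hωv : ∀ w : ↥(Subgroup.center G), ((ω w : ℂˣ) : ℂ) = ζ (w : G) / ζ 1 := by
    intro w
    rw [hω, MonoidHom.coe_toHomUnits]
    rfl
  set ϑ : IrrCharacter ↥(Subgroup.center G) :=
    ⟨fun w => (((ω ^ k) w : ℂˣ) : ℂ), Cfsg.Agent.Lib.Helper79_Linear.isIrrCharacter_of_hom (ω ^ k)⟩
    with hϑ
  set χ : IrrCharacter G :=
    ⟨fun g => ζ (g ^ k), Cfsg.Agent.Lib.Helper75_GalConj.isIrrCharacter_powMap h.irr k hk⟩ with hχ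
  have hϑv : ∀ w : ↥(Subgroup.center G), (ϑ : ↥(Subgroup.center G) → ℂ) w * ζ 1 = ζ ((w : G) ^ k) := by
    intro w
    show (((ω ^ k) w : ℂˣ) : ℂ) * ζ 1 = ζ ((w : G) ^ k)
    rw [MonoidHom.pow_apply, ← map_pow, hωv, Subgroup.coe_pow]
    field_simp
  refine ⟨ϑ, χ, fun g => rfl, hϑv, ?_⟩
  intro x hx
  have hP' : Nat.card ↥(P : Subgroup G) = p := h.cardP
  -- `x ^ k ≠ 1`
  have hxk : x ^ k ≠ 1 := by
    intro hc
    have h1 : orderOf x ∣ k := orderOf_dvd_of_pow_eq_one hc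
    have h2 : orderOf x ∣ Nat.card G := by
      rw [← Subgroup.orderOf_coe]
      exact orderOf_dvd_natCard _
    have h3 : orderOf x ∣ 1 := by
      have := Nat.dvd_gcd h1 h2
      rwa [Nat.Coprime.gcd_eq_one hk] at this
    have h4 : orderOf x = 1 := Nat.dvd_one.mp h3
    exact hx (orderOf_eq_one_iff.mp h4)
  -- the terms of the sum
  have hterm : ∀ v : ↥(Subgroup.center G),
      (χ : G → ℂ) ((x : G) * (v : G)) * conj ((ϑ : ↥(Subgroup.center G) → ℂ) v) =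
        ζ (((x ^ k : ↥(P : Subgroup G)) : G)) := by
    intro v
    have hcomm : Commute (x : G) (v : G) := (Subgroup.mem_center_iff.mp v.2 (x : G))
    have hvk : (v : G) ^ k ∈ Subgroup.center G := Subgroup.pow_mem _ v.2 k
    have h1 := Cfsg.Agent.Lib.Helper76_GalConj.irr_mul_central z hvk ((x : G) ^ k)
    have h2 := hϑv v
    show ζ (((x : G) * (v : G)) ^ k) * conj ((ϑ : ↥(Subgroup.center G) → ℂ) v) = _
    rw [hcomm.mul_pow, Subgroup.coe_pow]
    have h3 : ζ ((x : G) ^ k * (v : G) ^ k) = (ϑ : ↥(Subgroup.center G) → ℂ) v * ζ ((x : G) ^ k) := by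
      have h1' : ζ ((x : G) ^ k * (v : G) ^ k) * ζ 1 = ζ ((v : G) ^ k) * ζ ((x : G) ^ k) := h1
      rw [← h2] at h1'
      have : ζ ((x : G) ^ k * (v : G) ^ k) * ζ 1 =
          ((ϑ : ↥(Subgroup.center G) → ℂ) v * ζ ((x : G) ^ k)) * ζ 1 := by
        rw [h1']; ring
      exact mul_right_cancel₀ hz1 this
    rw [h3]
    have h4 : (ϑ : ↥(Subgroup.center G) → ℂ) v * conj ((ϑ : ↥(Subgroup.center G) → ℂ) v) = 1 := by
      show (((ω ^ k) v : ℂˣ) : ℂ) * conj (((ω ^ k) v : ℂˣ) : ℂ) = 1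
      rw [Cfsg.Agent.Lib.Helper25_AbDual.conj_hom, ← Units.val_mul, ← map_mul, mul_inv_cancel,
        map_one, Units.val_one]
    calc (ϑ : ↥(Subgroup.center G) → ℂ) v * ζ ((x : G) ^ k) * conj ((ϑ : ↥(Subgroup.center G) → ℂ) v)
        = ((ϑ : ↥(Subgroup.center G) → ℂ) v * conj ((ϑ : ↥(Subgroup.center G) → ℂ) v)) *
            ζ ((x : G) ^ k) := by ring
      _ = ζ ((x : G) ^ k) := by rw [h4, one_mul]
  have hZ0 : (Nat.card ↥(Subgroup.center G) : ℂ) ≠ 0 := by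
    rw [Nat.cast_ne_zero]
    exact Nat.card_pos.ne'
  have hs : sfun P (Subgroup.center G) ϑ χ x = ζ (((x ^ k : ↥(P : Subgroup G)) : G)) := by
    unfold sfun
    rw [Finset.sum_congr rfl (fun v _ => hterm v)]
    rw [Finset.sum_const, Finset.card_univ, ← Nat.card_eq_fintype_card, nsmul_eq_mul,
      ← mul_assoc, inv_mul_cancel₀ hZ0, one_mul]
  rw [hs, hval (x ^ k) hxk, map_pow, MonoidHom.pow_apply]

end sfun

end partB1

end Cfsg.Agent.Lib.Helper16_P2_SFUN
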