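import Mathlib
import Cfsg.Prelude.Def_Characters
import Cfsg.Prelude.Def_Blocks
import Cfsg.Prelude.Def_Solvable
import Cfsg.Prelude.Def_Local
import Cfsg.Agent.Lib.Helper3_P2Defs
import Cfsg.Agent.Lib.Helper16_GenSetup
import Cfsg.Agent.Lib.Helper16_GenMain
import Cfsg.Agent.Lib.Helper16_GenFinal

/-!
# S4705 package P2-PCOMPL (architect helper3): `Z(G)` is the `p`-complement of `C_G(P)`.
-/

set_option autoImplicit false
set_option linter.unusedSectionVars false
set_option linter.unusedVariables false

namespace Cfsg.Agent.Lib.Helper53_P2_PCOMPL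

open Cfsg Cfsg.Agent.Lib.Helper3_P2Defs Cfsg.Agent.Lib.Helper16_GenSetup
  Cfsg.Agent.Lib.Helper16_GenMain Cfsg.Agent.Lib.Helper16_GenFinal
open scoped ComplexConjugate

universe u

variable {G : Type u} [Group G] [Fintype G] {p : ℕ} [hp : Fact p.Prime] {P : Sylow p G}
  {V : Subgroup G} {ζ : G → ℂ}

/-- the centre has order prime to `p` (else the Sylow `p`-subgroup of order `p` would be normal) -/
theorem coprime_center (h : Hyp G p P ζ) : (Nat.card (Subgroup.center G)).Coprime p := by
  rw [Nat.coprime_comm, Nat.Prime.coprime_iff_not_dvd hp.out]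
  intro hdvd
  obtain ⟨z, hz⟩ := exists_prime_orderOf_dvd_card' p hdvd
  have hz' : orderOf (z : G) = p := by rw [Subgroup.orderOf_coe]; exact hz
  have hcard : Nat.card (Subgroup.zpowers (z : G)) = p := by rw [Nat.card_zpowers, hz']
  have hpg : IsPGroup p (Subgroup.zpowers (z : G)) := IsPGroup.of_card (n := 1) (by rw [hcard, pow_one])
  have hN : (Subgroup.zpowers (z : G)).Normal := by
    refine ⟨fun n hn g => ?_⟩
    have hnc : n ∈ Subgroup.center G := by
      have : Subgroup.zpowers (z : G) ≤ Subgroup.center G := by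
        rw [Subgroup.zpowers_le]; exact z.2
      exact this hn
    have : g * n * g⁻¹ = n := by
      rw [Subgroup.mem_center_iff.mp hnc g, mul_assoc, mul_inv_cancel, mul_one]
    rwa [this]
  have hle : Subgroup.zpowers (z : G) ≤ (P : Subgroup G) := hpg.le_sylow_of_normal P
  have hPcard : Nat.card (P : Subgroup G) = p := h.cardP
  have hEq : Subgroup.zpowers (z : G) = (P : Subgroup G) :=
    Subgroup.eq_of_le_of_card_ge hle (by rw [hPcard, hcard])
  exact h.nn (hEq ▸ hN)

theorem isPCompl_center (h : Hyp G p P ζ) (hl : Loc G p P ζ) : IsPCompl P (Subgroup.center G) := by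
  have hcop := coprime_center h
  refine ⟨Subgroup.center_le_centralizer _, hcop, hl.cent, ?_, ?_⟩
  · intro v hv hpv
    obtain ⟨x, hx, w, hw, rfl⟩ := hl.cent v hv
    have hcomm : Commute x w := (Subgroup.mem_center_iff.mp hw x)
    set m := Nat.card (Subgroup.center G) with hm
    set n := orderOf (x * w) with hn
    have hwm : w ^ m = 1 := by
      have := pow_card_eq_one' (G := Subgroup.center G) (x := ⟨w, hw⟩)
      exact congrArg Subtype.val this
    have hxp : x ^ p = 1 := by
      have := pow_card_eq_one' (G := (P : Subgroup G)) (x := ⟨x, hx⟩)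
      have hc : Nat.card (↥(P : Subgroup G)) = p := h.cardP
      rw [hc] at this
      exact congrArg Subtype.val this
    have hxmn : x ^ (m * n) = 1 := by
      have h1 : (x * w) ^ (m * n) = 1 := by
        rw [mul_comm, pow_mul, pow_orderOf_eq_one, one_pow]
      rw [hcomm.mul_pow, pow_mul w, hwm, one_pow, mul_one] at h1
      exact h1
    have hcop2 : (m * n).Coprime p := by
      apply Nat.Coprime.mul_left hcop
      rw [Nat.coprime_comm, Nat.Prime.coprime_iff_not_dvd hp.out]
      exact hpv
    have hx1 : x = 1 := by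
      have h1 : orderOf x ∣ m * n := orderOf_dvd_of_pow_eq_one hxmn
      have h2 : orderOf x ∣ p := orderOf_dvd_of_pow_eq_one hxp
      have h3 : orderOf x ∣ Nat.gcd (m * n) p := Nat.dvd_gcd h1 h2
      rw [hcop2] at h3
      exact orderOf_eq_one_iff.mp (Nat.dvd_one.mp h3)
    rw [hx1, one_mul]
    exact hw
  · intro n hn v hv
    exact (inferInstance : (Subgroup.center G).Normal).conj_mem v hv n

end Cfsg.Agent.Lib.Helper53_P2_PCOMPL
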