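import Mathlib
import Cfsg.Prelude.Def_Characters
import Cfsg.Prelude.Def_Blocks
import Cfsg.Agent.Lib.Helper3_P2Defs
import Cfsg.Agent.Lib.Helper16_GenSetup
import Cfsg.Agent.Lib.Helper16_GenK
import Cfsg.Agent.Lib.Helper16_GenNorm
import Cfsg.Agent.Lib.Helper16_GenMain
import Cfsg.Agent.Lib.Helper16_GenFinal
import Cfsg.Agent.Lib.Helper57_CTGen
import Cfsg.Agent.Lib.Helper74_H1V
import Cfsg.Agent.Lib.Helper53_P2_PCOMPL
import Cfsg.Agent.Lib.Helper42_P2_KAPPA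
import Cfsg.Agent.Lib.Helper16_P2_NNG
import Cfsg.Agent.Lib.Helper16_P2_SFUN

/-!
# S4705, package P2-RAT (helper16)

`ζ(g^k) = ζ(g)` on `p`-regular `g` for `k` prime to `|G|`, `k ≡ 1 (mod |Z(G)|)`: the Galois twists
`ζ(·^k)` and `ζ(·^κ)` (`κ ≡ k (mod p)`, `κ ≡ 1 (mod |G|/p)`) are exceptional characters of the same
`BGen θ` with the same nonzero `nng`, hence equal (uniqueness clause of `gen_structure`).
-/

set_option autoImplicit false
set_option linter.unusedSectionVars false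
set_option linter.unusedVariables false

namespace Cfsg.Agent.Lib.Helper16_P2_RAT

open Cfsg Cfsg.Agent.Lib.Helper3_P2Defs Cfsg.Agent.Lib.Helper16_GenSetup
  Cfsg.Agent.Lib.Helper16_GenMain Cfsg.Agent.Lib.Helper16_GenFinal
open scoped ComplexConjugate

universe u

section partB1

variable {G : Type u} [Group G] [Fintype G] {p : ℕ} [hp : Fact p.Prime] {P : Sylow p G}
  {V : Subgroup G} {ζ : G → ℂ}

/-- For `V = Z(G)` every character of `V` is `N_G(P)`-stable. -/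
theorem stab_center [Fintype ↥(Subgroup.center G)] (hV : IsPCompl P (Subgroup.center G))
    (ϑ : IrrCharacter ↥(Subgroup.center G)) :
    Cfsg.Agent.Lib.Helper16_GenK.stab hV ϑ = Subgroup.normalizer ((P : Subgroup G) : Set G) := by
  apply le_antisymm (Cfsg.Agent.Lib.Helper16_GenK.stab_le_normalizer hV ϑ)
  intro n hn
  refine ⟨hn, fun v v' hv => ?_⟩
  have : v' = v := by
    apply Subtype.ext
    rw [hv]
    have h1 : n * (v : G) = (v : G) * n := (Subgroup.mem_center_iff.mp v.2 n)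
    rw [h1, mul_inv_cancel_right]
  rw [this]

/-- A character with a nonzero `nng` lies in `BGen`. -/
theorem mem_BGen_of_nng [Fintype ↥(P : Subgroup G)] [Fintype ↥V]
    [Fintype (↥(P : Subgroup G) →* ℂˣ)] (hP : Nat.card P = p) (hV : IsPCompl P V)
    (θ : IrrCharacter ↥V) (χ : IrrCharacter G) (φ : ↥(P : Subgroup G) →* ℂˣ)
    (hne : nng hV θ χ φ ≠ 0) : χ ∈ BGen P V θ := by
  by_contra hc
  exact hne (Cfsg.Agent.Lib.Helper16_GenNorm.nng_eq_zero hP hV θ hc φ)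

/-- The twist `ζ(·^k)` is determined by `k mod p` and the central character. -/
theorem twist_unique [Fintype ↥(P : Subgroup G)] [Fintype ↥(Subgroup.center G)]
    [Fintype (↥(P : Subgroup G) →* ℂˣ)]
    (h : Hyp G p P ζ) (hl : Loc G p P ζ) (hV : IsPCompl P (Subgroup.center G))
    (ϑ : IrrCharacter ↥(Subgroup.center G)) (χ₁ χ₂ : IrrCharacter G)
    (μ : ↥(P : Subgroup G) →* ℂˣ) (hμ : μ ≠ 1)
    (hs₁ : ∀ x : ↥(P : Subgroup G), x ≠ 1 →
      sfun P (Subgroup.center G) ϑ χ₁ x = -(((μ x : ℂˣ) : ℂ) + (((μ x)⁻¹ : ℂˣ) : ℂ)))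
    (hs₂ : ∀ x : ↥(P : Subgroup G), x ≠ 1 →
      sfun P (Subgroup.center G) ϑ χ₂ x = -(((μ x : ℂˣ) : ℂ) + (((μ x)⁻¹ : ℂˣ) : ℂ))) :
    χ₁ = χ₂ := by
  classical
  have hP := h.cardP
  have hp5 := h.p5
  have hn₁ := Cfsg.Agent.Lib.Helper16_P2_NNG.nng_of_vals hP hV ϑ χ₁ μ hμ hs₁
  have hn₂ := Cfsg.Agent.Lib.Helper16_P2_NNG.nng_of_vals hP hV ϑ χ₂ μ hμ hs₂
  have he : (Subgroup.centralizer ((P : Subgroup G) : Set G)).relIndex
      (Cfsg.Agent.Lib.Helper16_GenK.stab hV ϑ) = 2 := by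
    rw [stab_center hV ϑ]
    exact hl.idx
  obtain ⟨X, Y, εX, ε, hBXY, hdisj, hXc, hYc, hXp, hε, hYp, hYu, hYs⟩ :=
    Cfsg.Agent.Lib.Helper16_GenMain.gen_structure hP hV ϑ 2 he
      (Cfsg.Agent.Lib.Helper57_CTGen.ct_gen p P hP) (Cfsg.Agent.Lib.Helper74_H1V.h1V hP hV ϑ)
  -- a `φ ≠ 1` different from `μ`, `μ⁻¹`
  have hcard : Nat.card (↥(P : Subgroup G) →* ℂˣ) = p := by
    rw [Cfsg.Agent.Lib.Helper25_AbDual.card_hom]
    · exact hP
    · intro a b
      have hcyc : IsCyclic ↥(P : Subgroup G) :=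
        isCyclic_of_prime_card (p := p) (by exact hP)
      exact hcyc.commGroup.mul_comm a b
  have hex : ∃ φ : ↥(P : Subgroup G) →* ℂˣ, φ ≠ 1 ∧ φ ≠ μ ∧ φ ≠ μ⁻¹ := by
    by_contra hc
    push Not at hc
    have hsub : (Finset.univ : Finset (↥(P : Subgroup G) →* ℂˣ)) ⊆ {1, μ, μ⁻¹} := by
      intro φ _
      simp only [Finset.mem_insert, Finset.mem_singleton]
      by_cases h1 : φ = 1
      · exact Or.inl h1
      · by_cases h2 : φ = μ
        · exact Or.inr (Or.inl h2)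
        · exact Or.inr (Or.inr (hc φ h1 h2))
    have h1 := Finset.card_le_card hsub
    rw [Finset.card_univ, ← Nat.card_eq_fintype_card, hcard] at h1
    have h2 : ({1, μ, μ⁻¹} : Finset (↥(P : Subgroup G) →* ℂˣ)).card ≤ 3 := Finset.card_le_three
    omega
  obtain ⟨φ₀, hφ1, hφμ, hφμi⟩ := hex
  have hmem : ∀ χ : IrrCharacter G,
      (∀ φ : ↥(P : Subgroup G) →* ℂˣ, φ ≠ 1 →
        nng hV ϑ χ φ = if (φ = μ ∨ φ = μ⁻¹) then -1 else 0) →
      χ ∈ Y ∧ nng hV ϑ χ μ ≠ 0 := by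
    intro χ hn
    have hnμ : nng hV ϑ χ μ = -1 := by
      rw [hn μ hμ, if_pos (Or.inl rfl)]
    have hnμ0 : nng hV ϑ χ μ ≠ 0 := by
      rw [hnμ]
      norm_num
    have hB : χ ∈ BGen P (Subgroup.center G) ϑ := mem_BGen_of_nng hP hV ϑ χ μ hnμ0
    refine ⟨?_, hnμ0⟩
    rcases (hBXY χ).mp hB with hX | hY
    · exfalso
      obtain ⟨hεχ, hall⟩ := hXp χ hX
      have h0 : nng hV ϑ χ φ₀ = 0 := by
        rw [hn φ₀ hφ1, if_neg (by rintro (h | h); exact hφμ h; exact hφμi h)]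
      rw [hall φ₀ hφ1] at h0
      rcases hεχ with h1 | h1 <;> rw [h1] at h0 <;> norm_num at h0
    · exact hY
  obtain ⟨hY₁, hne₁⟩ := hmem χ₁ (fun φ hφ => hn₁ φ hφ)
  obtain ⟨hY₂, hne₂⟩ := hmem χ₂ (fun φ hφ => hn₂ φ hφ)
  obtain ⟨ψ, -, -, hψu⟩ := hYu μ hμ
  rw [hψu χ₁ hY₁ hne₁, hψu χ₂ hY₂ hne₂]

/-- **P2-RAT**. -/
theorem rat (h : Hyp G p P ζ) (hl : Loc G p P ζ) (k : ℕ) (hk : k.Coprime (Nat.card G))
    (hkz : k ≡ 1 [MOD Nat.card (Subgroup.center G)]) :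
    ∀ g : G, ¬ p ∣ orderOf g → ζ (g ^ k) = ζ g := by
  classical
  have : Fintype ↥(P : Subgroup G) := Fintype.ofFinite _
  have : Fintype ↥(Subgroup.center G) := Fintype.ofFinite _
  have : Fintype (↥(P : Subgroup G) →* ℂˣ) := Fintype.ofFinite _
  have hP := h.cardP
  have hP' : Nat.card ↥(P : Subgroup G) = p := hP
  have hV := Cfsg.Agent.Lib.Helper53_P2_PCOMPL.isPCompl_center h hl
  obtain ⟨lam, hlam1, hval⟩ := hl.vals
  have hz1 : ζ 1 ≠ 0 := Cfsg.Agent.Lib.Helper76_GalConj.irr_one_ne_zero ⟨ζ, h.irr⟩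
  -- `p ∣ |G|`, `p ∤ k`
  have hpG : p ∣ Nat.card G := by
    have h1 := Subgroup.card_subgroup_dvd_card (P : Subgroup G)
    rw [hP'] at h1
    exact h1
  have hpk : ¬ p ∣ k := by
    intro hd
    have h1 := Nat.dvd_gcd hd hpG
    rw [Nat.Coprime.gcd_eq_one hk] at h1
    exact hp.out.one_lt.ne' (Nat.dvd_one.mp h1)
  obtain ⟨κ, hκc, hκp, hκ1⟩ := Cfsg.Agent.Lib.Helper42_P2_KAPPA.exists_kappa hP k hpk
  -- `κ ≡ 1 (mod |Z(G)|)`
  have hGp : Nat.card G = Nat.card G / p * p := (Nat.div_mul_cancel hpG).symm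
  have hZdvd : Nat.card (Subgroup.center G) ∣ Nat.card G / p := by
    have h1 : Nat.card (Subgroup.center G) ∣ Nat.card G / p * p := by
      rw [← hGp]
      exact Subgroup.card_subgroup_dvd_card _
    exact Nat.Coprime.dvd_of_dvd_mul_right hV.coprime h1
  have hκz : κ ≡ 1 [MOD Nat.card (Subgroup.center G)] := hκ1.of_dvd hZdvd
  -- powers of central elements
  have hpowZ : ∀ (m : ℕ), m ≡ 1 [MOD Nat.card (Subgroup.center G)] →
      ∀ w : ↥(Subgroup.center G), (w : G) ^ m = (w : G) := by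
    intro m hm w
    have h1 : orderOf (w : G) ∣ Nat.card (Subgroup.center G) := by
      rw [Subgroup.orderOf_coe]
      exact orderOf_dvd_natCard w
    have h2 : m ≡ 1 [MOD orderOf (w : G)] := hm.of_dvd h1
    have h3 := pow_eq_pow_iff_modEq.mpr h2
    rw [pow_one] at h3
    exact h3
  -- powers of `lam`
  have hlamp : ∀ x : ↥(P : Subgroup G), orderOf (lam x) ∣ p := by
    intro x
    apply orderOf_dvd_of_pow_eq_one
    have h1 : x ^ Nat.card ↥(P : Subgroup G) = 1 := pow_card_eq_one'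
    rw [hP'] at h1
    rw [← map_pow, h1, map_one]
  have hlamκ : lam ^ κ = lam ^ k := by
    apply MonoidHom.ext
    intro x
    rw [MonoidHom.pow_apply, MonoidHom.pow_apply]
    exact pow_eq_pow_iff_modEq.mpr (hκp.of_dvd (hlamp x))
  have hμ : lam ^ k ≠ 1 := by
    intro hc
    have hex : ∃ x : ↥(P : Subgroup G), lam x ≠ 1 := by
      by_contra hcon
      push Not at hcon
      exact hlam1 (MonoidHom.ext fun x => by rw [hcon x]; rfl)
    obtain ⟨x, hx⟩ := hex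
    have h1 : lam x ^ k = 1 := by
      have := DFunLike.congr_fun hc x
      rwa [MonoidHom.pow_apply, MonoidHom.one_apply] at this
    have h2 : orderOf (lam x) ∣ k := orderOf_dvd_of_pow_eq_one h1
    rcases (Nat.dvd_prime hp.out).mp (hlamp x) with h3 | h3
    · exact hx (orderOf_eq_one_iff.mp h3)
    · rw [h3] at h2
      exact hpk h2
  -- the two twists
  obtain ⟨ϑ₁, χ₁, hχ₁, hϑ₁, hs₁⟩ :=
    Cfsg.Agent.Lib.Helper16_P2_SFUN.sfun_twist h hV lam hval k hk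
  obtain ⟨ϑ₂, χ₂, hχ₂, hϑ₂, hs₂⟩ :=
    Cfsg.Agent.Lib.Helper16_P2_SFUN.sfun_twist h hV lam hval κ hκc
  have hϑ : ϑ₂ = ϑ₁ := by
    apply Subtype.ext
    funext w
    have h1 := hϑ₁ w
    have h2 := hϑ₂ w
    rw [hpowZ k hkz w] at h1
    rw [hpowZ κ hκz w] at h2
    exact mul_right_cancel₀ hz1 (h2.trans h1.symm)
  rw [hϑ, hlamκ] at hs₂
  have heq : χ₁ = χ₂ := twist_unique h hl hV ϑ₁ χ₁ χ₂ (lam ^ k) hμ hs₁ hs₂
  -- evaluation at `p`-regular elements
  intro g hg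
  have hgκ : g ^ κ = g := by
    have h1 : orderOf g ∣ Nat.card G / p := by
      have h2 : orderOf g ∣ Nat.card G / p * p := by
        rw [← hGp]
        exact orderOf_dvd_natCard g
      have h3 : (orderOf g).Coprime p :=
        (Nat.Prime.coprime_iff_not_dvd hp.out).mpr hg |>.symm
      exact Nat.Coprime.dvd_of_dvd_mul_right h3 h2
    have h2 : κ ≡ 1 [MOD orderOf g] := hκ1.of_dvd h1
    have h3 := pow_eq_pow_iff_modEq.mpr h2
    rw [pow_one] at h3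
    exact h3
  calc ζ (g ^ k) = (χ₁ : G → ℂ) g := (hχ₁ g).symm
    _ = (χ₂ : G → ℂ) g := by rw [heq]
    _ = ζ (g ^ κ) := hχ₂ g
    _ = ζ g := by rw [hgκ]

end partB1

end Cfsg.Agent.Lib.Helper16_P2_RAT
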