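/-
More combinatorics of groups generated by involutions with the exchange condition: the factorisation
`W = W^K · W_K` with additive lengths, the resulting factorisation of the Poincaré polynomial, and
the alternating sum of the Poincaré polynomials of the sets `W^K`.
-/
import Mathlib
import Cfsg.Agent.Lib.Helper6_Word
import Cfsg.Agent.Lib.Helper81_CoxComb

set_option autoImplicit false
set_option linter.unusedSectionVars false
set_option linter.unusedVariables false

namespace Cfsg.Agent.Lib.Helper81_CoxPoincare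

open Cfsg.Agent.Lib.Helper6_Word Cfsg.Agent.Lib.Helper81_CoxComb

variable {W : Type*} [Group W]

/-- lengths add on `W^K · W_K` -/
theorem len_red_mul {S : Set W} (h : InvGen S) (hE : Exchange S) {K : Set W} (hK : K ⊆ S)
    {d x : W} (hd : d ∈ Red S ∅ K) (hx : x ∈ Subgroup.closure K) :
    len S (d * x) = len S d + len S x := by
  obtain ⟨ld, hld, hpd, hlend⟩ := exists_reduced h d
  obtain ⟨lx, hlx, hpx, hlenx⟩ := exists_reduced_word_of_mem_closure h hE hK hx
  have hword : IsWord S (ld ++ lx) := isWord_append.2 ⟨hld, hlx.mono hK⟩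
  have hprod : (ld ++ lx).prod = d * x := by rw [List.prod_append, hpd, hpx]
  obtain ⟨l', hsub, hp', hlen'⟩ := exists_reduced_sublist h hE _ _ rfl hword
  rw [hprod] at hp' hlen'
  obtain ⟨b, c, rfl, hb, hc⟩ := List.sublist_append_iff.1 hsub
  have hcK : IsWord K c := hlx.sublist hc
  have hbS : IsWord S b := hld.sublist hb
  rw [List.prod_append] at hp'
  have hy : c.prod * x⁻¹ ∈ Subgroup.closure K :=
    Subgroup.mul_mem _ (prod_mem_closure hcK) (Subgroup.inv_mem _ hx)
  have he : d = 1 * b.prod * (c.prod * x⁻¹) := by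
    rw [one_mul, ← mul_assoc, hp']; group
  obtain ⟨b', hb', hpb', hlenb'⟩ := red_sublist h hE (Set.empty_subset S) hK hd
    (Subgroup.one_mem _) hy he b hbS rfl
  have h1 := hb.length_le
  have h2 := hb'.length_le
  have hbl : b = ld := hb.eq_of_length_le (by omega)
  subst hbl
  have hcx : c.prod = x := by
    rw [hpd] at hp'
    exact mul_left_cancel hp'
  have h3 := len_le_length (hcK.mono hK)
  rw [hcx] at h3
  have h4 := len_mul_le h d x
  rw [List.length_append] at hlen'
  omega

/-- the factorisation `W^K × W_K ≃ W` -/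
theorem factor_bijective {S : Set W} (h : InvGen S) (hE : Exchange S) {K : Set W} (hK : K ⊆ S) :
    Function.Bijective (fun p : Red S ∅ K × Subgroup.closure K => (p.1 : W) * (p.2 : W)) := by
  constructor
  · rintro ⟨⟨d, hd⟩, ⟨x, hx⟩⟩ ⟨⟨d', hd'⟩, ⟨x', hx'⟩⟩ he
    simp only at he
    have he' : d' = 1 * d * (x * x'⁻¹) := by
      rw [one_mul, ← mul_assoc, he]; group
    have hdd := red_unique h hE (Set.empty_subset S) hK hd hd' (Subgroup.one_mem _)
      (Subgroup.mul_mem _ hx (Subgroup.inv_mem _ hx')) he'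
    subst hdd
    have := mul_left_cancel he
    subst this
    rfl
  · intro w
    obtain ⟨d, hd, x, hx, y, hy, he⟩ := exists_red h hE (Set.empty_subset S) hK _ w rfl
    rw [Subgroup.closure_empty, Subgroup.mem_bot] at hx
    subst hx
    exact ⟨(⟨d, hd⟩, ⟨y, hy⟩), by simp [he]⟩

open Classical in
/-- factorisation of the Poincaré polynomial -/
theorem poincare_factor [Fintype W] {S : Set W} (h : InvGen S) (hE : Exchange S) {K : Set W}
    (hK : K ⊆ S) (q : ℕ) :
    ∑ w : W, q ^ len S w =
      (∑ d : Red S ∅ K, q ^ len S (d : W)) * (∑ x : Subgroup.closure K, q ^ len S (x : W)) := by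
  rw [Finset.sum_mul_sum, ← Finset.sum_product']
  rw [← (Equiv.ofBijective _ (factor_bijective h hE hK)).sum_comp]
  apply Finset.sum_congr rfl
  rintro ⟨d, x⟩ _
  simp only [Equiv.ofBijective_apply]
  rw [len_red_mul h hE hK d.2 x.2, pow_add]

theorem eq_of_full_right_descent {S : Set W} (h : InvGen S) (hE : Exchange S) {w₀ w : W}
    (hw₀ : ∀ s ∈ S, len S (s * w₀) ≤ len S w₀) (hw : ∀ s ∈ S, len S (w * s) ≤ len S w) :
    w = w₀ := by
  have h1 : ∀ s ∈ S, len S (s * w⁻¹) ≤ len S w⁻¹ := by
    intro s hs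
    have e : s * w⁻¹ = (w * s)⁻¹ := by rw [mul_inv_rev, inv_eq_of_sq (h.sq s hs)]
    rw [e, len_inv h, len_inv h]
    exact hw s hs
  have h2 := full_descent_unique h hE hw₀ h1
  rw [← full_descent_inv h hE hw₀, ← h2, inv_inv]

open Classical in
/-- The alternating sum over `J` of the sums of a function over `W^J` is its value at `w₀`. -/
theorem alternating_sum_red_right [Fintype W] {S : Set W} (h : InvGen S) (hE : Exchange S)
    {ι : Type*} (I : Finset ι) (σ : ι → W) (hσ : σ '' (I : Set ι) = S) (φ : W → ℤ) {w₀ : W}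
    (hw₀ : ∀ s ∈ S, len S (s * w₀) ≤ len S w₀) :
    ∑ J ∈ I.powerset, (-1 : ℤ) ^ J.card * (∑ d : Red S ∅ (σ '' (J : Set ι)), φ (d : W)) =
      φ w₀ := by
  have hcard : ∀ J : Finset ι, (∑ d : Red S ∅ (σ '' (J : Set ι)), φ (d : W)) =
      ∑ w : W, if w ∈ Red S ∅ (σ '' (J : Set ι)) then φ w else 0 := by
    intro J
    rw [← Finset.sum_filter, Finset.sum_subtype (p := fun w => w ∈ Red S ∅ (σ '' (J : Set ι)))
      (f := fun w => φ w)]
    intro w
    rw [Finset.mem_filter]
    exact ⟨fun hh => hh.2, fun hh => ⟨Finset.mem_univ _, hh⟩⟩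
  simp_rw [hcard, Finset.mul_sum]
  rw [Finset.sum_comm]
  have hinner : ∀ w : W, ∑ J ∈ I.powerset,
      (-1 : ℤ) ^ J.card * (if w ∈ Red S ∅ (σ '' (J : Set ι)) then φ w else 0) =
      if w = w₀ then φ w₀ else 0 := by
    intro w
    set A : Finset ι := I.filter (fun i => len S w < len S (w * σ i)) with hA
    have hAI : A ⊆ I := Finset.filter_subset _ _
    have hmem : ∀ J ∈ I.powerset, (w ∈ Red S ∅ (σ '' (J : Set ι)) ↔ J ⊆ A) := by
      intro J hJ
      rw [Finset.mem_powerset] at hJ
      constructor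
      · intro hr i hi
        rw [hA, Finset.mem_filter]
        exact ⟨hJ hi, hr.2 (σ i) ⟨i, hi, rfl⟩⟩
      · intro hr
        refine ⟨fun s hs => absurd hs (Set.notMem_empty _), ?_⟩
        rintro _ ⟨i, hi, rfl⟩
        exact (Finset.mem_filter.1 (hr hi)).2
    have hfilt : I.powerset.filter (fun J => J ⊆ A) = A.powerset := by
      ext J
      rw [Finset.mem_filter, Finset.mem_powerset, Finset.mem_powerset]
      exact ⟨fun hh => hh.2, fun hh => ⟨hh.trans hAI, hh⟩⟩
    have hAempty : A = ∅ ↔ w = w₀ := by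
      constructor
      · intro hAe
        apply eq_of_full_right_descent h hE hw₀
        intro s hs
        rw [← hσ] at hs
        obtain ⟨i, hi, rfl⟩ := hs
        by_contra hcon
        push Not at hcon
        have : i ∈ A := by
          rw [hA, Finset.mem_filter]
          exact ⟨hi, hcon⟩
        rw [hAe] at this
        exact absurd this (Finset.notMem_empty _)
      · intro hw
        rw [Finset.eq_empty_iff_forall_notMem]
        intro i hi
        rw [hA, Finset.mem_filter] at hi
        have := full_descent_right h hE hw₀ (σ i) (by rw [← hσ]; exact ⟨i, hi.1, rfl⟩)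
        rw [hw] at hi
        omega
    have hsum : ∑ J ∈ I.powerset,
        (-1 : ℤ) ^ J.card * (if w ∈ Red S ∅ (σ '' (J : Set ι)) then φ w else 0) =
        (∑ J ∈ I.powerset, if J ⊆ A then (-1 : ℤ) ^ J.card else 0) * φ w := by
      rw [Finset.sum_mul]
      apply Finset.sum_congr rfl
      intro J hJ
      by_cases hJA : J ⊆ A
      · rw [if_pos ((hmem J hJ).2 hJA), if_pos hJA]
      · rw [if_neg (fun hr => hJA ((hmem J hJ).1 hr)), if_neg hJA, mul_zero, zero_mul]
    rw [hsum, ← Finset.sum_filter, hfilt, Finset.sum_powerset_neg_one_pow_card]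
    by_cases hw : w = w₀
    · rw [if_pos (hAempty.2 hw), if_pos hw, one_mul, hw]
    · rw [if_neg (fun hh => hw (hAempty.1 hh)), if_neg hw, zero_mul]
  simp_rw [hinner]
  rw [Finset.sum_ite_eq' Finset.univ w₀ (fun _ => φ w₀), if_pos (Finset.mem_univ _)]

open Classical in
/-- The alternating sum over `J` of the Poincaré polynomials of `W^J` is `q ^ len w₀`. -/
theorem alternating_sum_poincare [Fintype W] {S : Set W} (h : InvGen S) (hE : Exchange S)
    {ι : Type*} (I : Finset ι) (σ : ι → W) (hσ : σ '' (I : Set ι) = S) (q : ℕ) {w₀ : W}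
    (hw₀ : ∀ s ∈ S, len S (s * w₀) ≤ len S w₀) :
    ∑ J ∈ I.powerset, (-1 : ℤ) ^ J.card *
        ((∑ d : Red S ∅ (σ '' (J : Set ι)), q ^ len S (d : W) : ℕ) : ℤ) =
      (q : ℤ) ^ len S w₀ := by
  have := alternating_sum_red_right h hE I σ hσ (fun w => (q : ℤ) ^ len S w) hw₀
  rw [← this]
  apply Finset.sum_congr rfl
  intro J _
  push_cast
  rfl

end Cfsg.Agent.Lib.Helper81_CoxPoincare
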