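/-
For a finite group with a (B, N)-pair in which `|B n B| = |B| q^ℓ(n)`: orders and indices of the standard
parabolic subgroups, and the degree of the Steinberg character.
-/
import Mathlib
import Cfsg.Prelude.Def_ParabolicCharacters
import Cfsg.Agent.Lib.Helper6_BNPairC
import Cfsg.Agent.Lib.Helper81_CoxPoincare
import Cfsg.Agent.Lib.Helper81_BNSteinberg

set_option autoImplicit false
set_option linter.unusedSectionVars false
set_option linter.unusedVariables false

namespace Cfsg.Agent.Lib.Helper81_BNIndex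

open Cfsg DoubleCoset Cfsg.Agent.Lib.Helper6_Word Cfsg.Agent.Lib.Helper6_BNPair
  Cfsg.Agent.Lib.Helper81_CoxComb Cfsg.Agent.Lib.Helper81_CoxPoincare
  Cfsg.Agent.Lib.Helper81_BNSteinberg

variable {G : Type*} [Group G] (P : BNPair G)

/-- the Bruhat cell of an element, as an element of the Weyl group -/
noncomputable def cell (g : G) : W P := π P (Classical.choose (exists_mem_C P g))

theorem cell_eq {g : G} {n : P.N} (h : g ∈ C P (n : G)) : cell P g = π P n :=
  (C_eq_iff P).1 (C_eq_of_mem_of_mem P (Classical.choose_spec (exists_mem_C P g)) h)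

theorem mem_C_of_cell_eq {g : G} {n : P.N} (h : cell P g = π P n) : g ∈ C P (n : G) := by
  have h1 := Classical.choose_spec (exists_mem_C P g)
  rw [← C_congr P h]
  exact h1

theorem mem_parabolic_iff_cell {J : Set G} (hJ : J ⊆ P.S) (g : G) :
    g ∈ P.parabolic J ↔ cell P g ∈ Subgroup.closure (JW P J) := by
  rw [mem_parabolic_iff P hJ]
  constructor
  · rintro ⟨n, hn, hg⟩
    have hnN : n ∈ P.N := closure_le_N P hJ hn
    rw [cell_eq P (n := ⟨n, hnN⟩) hg]
    exact π_mem_closure_JW P hJ (n := ⟨n, hnN⟩) hn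
  · intro h
    obtain ⟨n, hn, hπ⟩ := exists_rep_of_mem_closure_JW P hJ h
    exact ⟨n, hn, mem_C_of_cell_eq P hπ.symm⟩

section counting

variable [Finite G] (q : ℕ)
  (hq : ∀ n : P.N, Nat.card (C P (n : G)) = Nat.card P.B * q ^ ℓ P n)

include hq in
theorem card_fiber (w : W P) :
    Nat.card {g : G // cell P g = w} = Nat.card P.B * q ^ len (SW P) w := by
  obtain ⟨n, rfl⟩ := π_surjective P w
  have : {g : G | cell P g = π P n} = C P (n : G) := by
    ext g
    exact ⟨fun h => mem_C_of_cell_eq P h, fun h => cell_eq P h⟩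
  have h2 := hq n
  rw [← this] at h2
  exact h2

include hq in
theorem card_cells (A : Set (W P)) :
    Nat.card {g : G // cell P g ∈ A} = Nat.card P.B * ∑ᶠ x : A, q ^ len (SW P) (x : W P) := by
  classical
  have : Fintype A := Fintype.ofFinite _
  let f : {g : G // cell P g ∈ A} → A := fun g => ⟨cell P g.1, g.2⟩
  have e2 : ∀ x : A, Nat.card {g' : {g : G // cell P g ∈ A} // f g' = x} =
      Nat.card {g : G // cell P g = (x : W P)} := by
    intro x
    apply Nat.card_congr
    exact
      { toFun := fun g' => ⟨g'.1.1, congrArg Subtype.val g'.2⟩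
        invFun := fun g => ⟨⟨g.1, by rw [g.2]; exact x.2⟩, Subtype.ext g.2⟩
        left_inv := fun g' => rfl
        right_inv := fun g => rfl }
  rw [Nat.card_congr (Equiv.sigmaFiberEquiv f).symm, Nat.card_sigma, finsum_eq_sum_of_fintype,
    Finset.mul_sum]
  apply Finset.sum_congr rfl
  intro x _
  rw [e2 x]
  exact card_fiber P q hq x
include hq in
theorem card_parabolic {J : Set G} (hJ : J ⊆ P.S) :
    Nat.card (P.parabolic J) =
      Nat.card P.B * ∑ᶠ x : Subgroup.closure (JW P J), q ^ len (SW P) (x : W P) := by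
  have h := card_cells P q hq (Subgroup.closure (JW P J) : Set (W P))
  have e : Nat.card (P.parabolic J) =
      Nat.card {g : G // cell P g ∈ (Subgroup.closure (JW P J) : Set (W P))} :=
    Nat.card_congr (Equiv.subtypeEquivRight (fun g => mem_parabolic_iff_cell P hJ g))
  rw [e, h]
  rfl

include hq in
theorem card_group : Nat.card G = Nat.card P.B * ∑ᶠ w : W P, q ^ len (SW P) w := by
  classical
  have : Fintype (W P) := Fintype.ofFinite _
  rw [Nat.card_congr (Equiv.sigmaFiberEquiv (cell P)).symm, Nat.card_sigma,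
    finsum_eq_sum_of_fintype, Finset.mul_sum]
  apply Finset.sum_congr rfl
  intro x _
  exact card_fiber P q hq x

include hq in
theorem index_parabolic {J : Set G} (hJ : J ⊆ P.S) :
    (P.parabolic J).index = ∑ᶠ d : Red (SW P) ∅ (JW P J), q ^ len (SW P) (d : W P) := by
  classical
  have : Fintype (W P) := Fintype.ofFinite _
  have h1 := (P.parabolic J).card_mul_index
  have h2 := card_group P q hq
  have h3 := card_parabolic P q hq hJ
  have h4 := poincare_factor (invGen P) (exchange P) (JW_subset_SW P hJ) q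
  rw [finsum_eq_sum_of_fintype] at h2 h3 ⊢
  have hpos : 0 < Nat.card (P.parabolic J) := Nat.card_pos
  have h5 : Nat.card (P.parabolic J) * (P.parabolic J).index =
      Nat.card (P.parabolic J) * ∑ d : Red (SW P) ∅ (JW P J), q ^ len (SW P) (d : W P) := by
    rw [h1, h2, h3]
    have : (∑ w : W P, q ^ len (SW P) w) = (∑ d : Red (SW P) ∅ (JW P J), q ^ len (SW P) (d : W P)) *
        (∑ x : Subgroup.closure (JW P J), q ^ len (SW P) (x : W P)) := by
      convert h4 using 2
    rw [this]
    ring
  exact Nat.eq_of_mul_eq_mul_left hpos h5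

end counting

theorem fpc_one (H : Subgroup G) : Cfsg.fixedPointCharacter H 1 = (H.index : ℂ) := by
  unfold Cfsg.fixedPointCharacter Subgroup.index
  congr 1
  apply Nat.card_congr
  exact Equiv.subtypeUnivEquiv (fun x => by rw [MulAction.mem_fixedBy, one_smul])

/-- the degree of the Steinberg character -/
theorem St_one [Fintype G] {ι : Type*} [DecidableEq ι] (I : Finset ι) (s : ι → G)
    (hs : s '' (I : Set ι) = P.S) (q : ℕ)
    (hq : ∀ n : P.N, Nat.card (C P (n : G)) = Nat.card P.B * q ^ ℓ P n) {w₀ : W P}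
    (hw₀ : ∀ x ∈ SW P, len (SW P) (x * w₀) ≤ len (SW P) w₀) :
    St P I s 1 = (q : ℂ) ^ len (SW P) w₀ := by
  classical
  have : Fintype (W P) := Fintype.ofFinite _
  have h1 : St P I s 1 = ((∑ J ∈ I.powerset, (-1 : ℤ) ^ J.card *
      ((∑ d : Red (SW P) ∅ (σW P s '' (J : Set ι)), q ^ len (SW P) (d : W P) : ℕ) : ℤ) : ℤ) : ℂ) := by
    unfold St
    rw [Int.cast_sum]
    apply Finset.sum_congr rfl
    intro J hJ
    rw [Finset.mem_powerset] at hJ
    rw [fpc_one, index_parabolic P q hq (image_subset_S P I s hs hJ), finsum_eq_sum_of_fintype]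
    have hJW := JW_image P I s hs hJ
    push_cast
    congr 1
    have : ∀ (A B : Set (W P)) (hAB : A = B),
        (∑ d : Red (SW P) ∅ A, (q : ℂ) ^ len (SW P) (d : W P)) =
        ∑ d : Red (SW P) ∅ B, (q : ℂ) ^ len (SW P) (d : W P) := by
      intro A B hAB
      subst hAB
      rfl
    convert this _ _ hJW using 1
  rw [h1, alternating_sum_poincare (invGen P) (exchange P) I (σW P s) (σW_image P I s hs) q hw₀]
  push_cast
  rfl

end Cfsg.Agent.Lib.Helper81_BNIndex
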