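/-
For a finite group with a (B, N)-pair: the values of the Steinberg character on `B` count the fixed points
on the big cell `B w₀ B / B`.
-/
import Mathlib
import Cfsg.Prelude.Def_ParabolicCharacters
import Cfsg.Agent.Lib.Helper6_BNPairC
import Cfsg.Agent.Lib.Helper81_CoxPoincare
import Cfsg.Agent.Lib.Helper81_BNSteinberg
import Cfsg.Agent.Lib.Helper81_BNIndex

set_option autoImplicit false
set_option linter.unusedSectionVars false
set_option linter.unusedVariables false

namespace Cfsg.Agent.Lib.Helper81_BNBorel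

open Cfsg DoubleCoset Cfsg.Agent.Lib.Helper6_Word Cfsg.Agent.Lib.Helper6_BNPair
  Cfsg.Agent.Lib.Helper81_CoxComb Cfsg.Agent.Lib.Helper81_CoxPoincare
  Cfsg.Agent.Lib.Helper81_BNSteinberg Cfsg.Agent.Lib.Helper81_BNIndex

variable {G : Type*} [Group G] (P : BNPair G)

theorem ℓ_mul_le (a b : P.N) : ℓ P (a * b) ≤ ℓ P a + ℓ P b := by
  unfold ℓ
  rw [map_mul]
  exact len_mul_le (invGen P) _ _

/-- if lengths add then `d B x ⊆ B d x B` -/
theorem mul_mem_C_of_len_add : ∀ (k : ℕ) (d x : P.N), ℓ P d = k → ℓ P (d * x) = ℓ P d + ℓ P x →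
    ∀ b ∈ P.B, (d : G) * b * x ∈ C P ((d : G) * x) := by
  intro k
  induction k with
  | zero =>
    intro d x hd _ b hb
    have hdB : (d : G) ∈ P.B := (ℓ_eq_zero_iff P).1 hd
    rw [C_mul_left P hdB]
    exact (mem_C P).2 ⟨d * b, P.B.mul_mem hdB hb, 1, P.B.one_mem, by group⟩
  | succ k ih =>
    intro d x hd hadd b hb
    obtain ⟨σ, hσS, hk⟩ := exists_simple_mul_of_ℓ_succ P hd
    have hσ : IsSimple P σ := isSimple_of_mem P hσS
    have h1 : ℓ P (σ * d * x) = ℓ P (σ * d) + ℓ P x := by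
      have h2 := ℓ_mul_le P (σ * d) x
      have h3 := ℓ_le_simple_mul P hσ (d * x)
      rw [← mul_assoc] at h3
      omega
    have h4 := ih (σ * d) x hk h1 b hb
    obtain ⟨b₁, hb₁, b₂, hb₂, e⟩ := (mem_C P).1 h4
    have hle : ℓ P (σ * d * x) ≤ ℓ P (σ⁻¹ * (σ * d * x)) := by
      have : σ⁻¹ * (σ * d * x) = d * x := by group
      rw [this]
      omega
    have h5 := simple_mul_mem_of_le P hσ.inv hle hb₁
    have e1 : (d : G) * b * x = ((σ⁻¹ : P.N) : G) * b₁ * ((σ * d * x : P.N) : G) * b₂ := by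
      simp only [Subgroup.coe_mul, Subgroup.coe_inv] at e ⊢
      calc (d : G) * b * x = (σ : G)⁻¹ * ((σ : G) * d * b * x) := by group
        _ = (σ : G)⁻¹ * (b₁ * ((σ : G) * d * x) * b₂) := by rw [e]
        _ = _ := by group
    have e2 : ((σ⁻¹ : P.N) : G) * ((σ * d * x : P.N) : G) = (d : G) * x := by
      simp only [Subgroup.coe_mul, Subgroup.coe_inv]
      group
    rw [e1, ← e2]
    exact mem_C_mul_right P hb₂ h5

/-- if lengths add then `(B d B)(B x B) ⊆ B d x B` -/
theorem mul_mem_C_of_mem {d x : P.N} (hadd : ℓ P (d * x) = ℓ P d + ℓ P x) {g p : G}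
    (hg : g ∈ C P (d : G)) (hp : p ∈ C P (x : G)) : g * p ∈ C P ((d : G) * x) := by
  obtain ⟨b₁, hb₁, b₂, hb₂, rfl⟩ := (mem_C P).1 hg
  obtain ⟨b₃, hb₃, b₄, hb₄, rfl⟩ := (mem_C P).1 hp
  have h := mul_mem_C_of_len_add P _ d x rfl hadd (b₂ * b₃) (P.B.mul_mem hb₂ hb₃)
  have e : b₁ * (d : G) * b₂ * (b₃ * (x : G) * b₄) = b₁ * ((d : G) * (b₂ * b₃) * x) * b₄ := by group
  rw [e]
  exact mem_C_mul_right P hb₄ (mem_C_mul_left P hb₁ h)

/-- for `d ∈ W^J`: `d⁻¹ B d ∩ P_J ⊆ B` -/
theorem mem_B_of_conj_mem {J : Set G} (hJ : J ⊆ P.S) {d : P.N}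
    (hd : π P d ∈ Red (SW P) ∅ (JW P J)) {g : G} (hg : g ∈ P.parabolic J)
    (hconj : (d : G) * g * (d : G)⁻¹ ∈ P.B) : g ∈ P.B := by
  obtain ⟨x, hx, hgx⟩ := (mem_parabolic_iff P hJ g).1 hg
  have hxN : x ∈ P.N := closure_le_N P hJ hx
  have hπx : π P ⟨x, hxN⟩ ∈ Subgroup.closure (JW P J) := π_mem_closure_JW P hJ (n := ⟨x, hxN⟩) hx
  have hadd : ℓ P (d * ⟨x, hxN⟩) = ℓ P d + ℓ P ⟨x, hxN⟩ := by
    unfold ℓ
    rw [map_mul]
    exact len_red_mul (invGen P) (exchange P) (JW_subset_SW P hJ) hd hπx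
  have h1 : (d : G) * g ∈ C P ((d : G) * x) :=
    mul_mem_C_of_mem P hadd (mem_C_self P (d : G)) hgx
  have h2 : (d : G) * g ∈ C P (d : G) :=
    (mem_C P).2 ⟨(d : G) * g * (d : G)⁻¹, hconj, 1, P.B.one_mem, by group⟩
  have h3 : C P (((d * ⟨x, hxN⟩ : P.N) : G)) = C P (d : G) := C_eq_of_mem_of_mem P h1 h2
  have h4 := (C_eq_iff P).1 h3
  rw [map_mul, mul_eq_left] at h4
  have hxB : x ∈ P.B := (π_eq_one_iff P).1 h4
  exact (mem_C_of_mem_B P hxB).1 hgx

/-! ### Cells of `G / B` -/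

theorem cell_mul_right {g b : G} (hb : b ∈ P.B) : cell P (g * b) = cell P g := by
  obtain ⟨n, hn⟩ := exists_mem_C P g
  rw [cell_eq P hn, cell_eq P (mem_C_mul_right P hb hn)]

/-- the Bruhat cell of a coset `g B` -/
noncomputable def cellB (y : G ⧸ P.B) : W P := cell P y.out

theorem cellB_mk (g : G) : cellB P (g : G ⧸ P.B) = cell P g := by
  unfold cellB
  obtain ⟨b, hb⟩ := QuotientGroup.mk_out_eq_mul P.B g
  rw [hb, cell_mul_right P b.2]

/-- the number of fixed points of `b` in the cell `B d B / B` -/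
noncomputable def fixCell (b : G) (d : W P) : ℕ :=
  Nat.card {y : MulAction.fixedBy (G ⧸ P.B) b // cellB P (y : G ⧸ P.B) = d}

theorem smul_quotientMapOfLE {H K : Subgroup G} (h : H ≤ K) (g : G) (y : G ⧸ H) :
    g • Subgroup.quotientMapOfLE h y = Subgroup.quotientMapOfLE h (g • y) := by
  induction y using QuotientGroup.induction_on with
  | H x => rfl

theorem card_fiberwise {Y V : Type*} [Finite Y] [Finite V] (f : Y → V) (A : Set V) :
    Nat.card {y : Y // f y ∈ A} = ∑ᶠ d : A, Nat.card {y : Y // f y = (d : V)} := by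
  classical
  have : Fintype A := Fintype.ofFinite _
  let f' : {y : Y // f y ∈ A} → A := fun y => ⟨f y.1, y.2⟩
  have e2 : ∀ x : A, Nat.card {y' : {y : Y // f y ∈ A} // f' y' = x} =
      Nat.card {y : Y // f y = (x : V)} := by
    intro x
    apply Nat.card_congr
    exact
      { toFun := fun y' => ⟨y'.1.1, congrArg Subtype.val y'.2⟩
        invFun := fun y => ⟨⟨y.1, by rw [y.2]; exact x.2⟩, Subtype.ext y.2⟩
        left_inv := fun y' => rfl
        right_inv := fun y => rfl }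
  rw [Nat.card_congr (Equiv.sigmaFiberEquiv f').symm, Nat.card_sigma, finsum_eq_sum_of_fintype]
  apply Finset.sum_congr rfl
  intro x _
  exact e2 x

theorem card_fixedBy_parabolic [Finite G] {J : Set G} (hJ : J ⊆ P.S) {b : G} (hb : b ∈ P.B) :
    Nat.card (MulAction.fixedBy (G ⧸ P.parabolic J) b) =
      ∑ᶠ d : Red (SW P) ∅ (JW P J), fixCell P b (d : W P) := by
  have hle := B_le_parabolic P J
  have hJW := JW_subset_SW P hJ
  let Ψ : {y : MulAction.fixedBy (G ⧸ P.B) b // cellB P (y : G ⧸ P.B) ∈ Red (SW P) ∅ (JW P J)} →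
      MulAction.fixedBy (G ⧸ P.parabolic J) b := fun y =>
    ⟨Subgroup.quotientMapOfLE hle (y.1 : G ⧸ P.B), by
      rw [MulAction.mem_fixedBy, smul_quotientMapOfLE, y.1.2]⟩
  have hΨ : Function.Bijective Ψ := by
    constructor
    · rintro ⟨⟨y, hy⟩, hyd⟩ ⟨⟨y', hy'⟩, hyd'⟩ e
      have e1 : Subgroup.quotientMapOfLE hle y = Subgroup.quotientMapOfLE hle y' :=
        congrArg Subtype.val e
      apply Subtype.ext
      apply Subtype.ext
      show y = y'
      induction y using QuotientGroup.induction_on with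
      | H g =>
        induction y' using QuotientGroup.induction_on with
        | H g' =>
          rw [Subgroup.quotientMapOfLE_apply_mk, Subgroup.quotientMapOfLE_apply_mk,
            QuotientGroup.eq] at e1
          simp only at hyd hyd'
          rw [cellB_mk] at hyd hyd'
          obtain ⟨n, hn⟩ := exists_mem_C P g
          rw [cell_eq P hn] at hyd
          obtain ⟨x, hx, hpx⟩ := (mem_parabolic_iff P hJ _).1 e1
          have hxN : x ∈ P.N := closure_le_N P hJ hx
          have hπx : π P ⟨x, hxN⟩ ∈ Subgroup.closure (JW P J) :=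
            π_mem_closure_JW P hJ (n := ⟨x, hxN⟩) hx
          have hadd : ℓ P (n * ⟨x, hxN⟩) = ℓ P n + ℓ P ⟨x, hxN⟩ := by
            unfold ℓ
            rw [map_mul]
            exact len_red_mul (invGen P) (exchange P) hJW hyd hπx
          have h1 : g * (g⁻¹ * g') ∈ C P ((n : G) * x) := mul_mem_C_of_mem P hadd hn hpx
          rw [mul_inv_cancel_left] at h1
          have h2 : cell P g' = π P (n * ⟨x, hxN⟩) := cell_eq P (n := n * ⟨x, hxN⟩) h1
          rw [h2, map_mul] at hyd'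
          have h3 := red_unique (invGen P) (exchange P) (Set.empty_subset _) hJW hyd hyd'
            (Subgroup.one_mem _) hπx (by rw [one_mul])
          rw [mul_eq_left] at h3
          have hxB : x ∈ P.B := (π_eq_one_iff P).1 h3
          have hpB : g⁻¹ * g' ∈ P.B := (mem_C_of_mem_B P hxB).1 hpx
          exact QuotientGroup.eq.2 hpB
    · rintro ⟨z, hz⟩
      induction z using QuotientGroup.induction_on with
      | H g =>
        rw [MulAction.mem_fixedBy] at hz
        have hz' : (b * g)⁻¹ * g ∈ P.parabolic J := QuotientGroup.eq.1 hz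
        obtain ⟨n, hn⟩ := exists_mem_C P g
        obtain ⟨b₁, hb₁, b₂, hb₂, hg⟩ := (mem_C P).1 hn
        obtain ⟨d, hd, x', hx', y, hy, he⟩ := exists_red (invGen P) (exchange P)
          (Set.empty_subset _) hJW _ (π P n) rfl
        rw [Subgroup.closure_empty, Subgroup.mem_bot] at hx'
        subst hx'
        rw [one_mul] at he
        obtain ⟨nd, rfl⟩ := π_surjective P d
        obtain ⟨ny, hny, rfl⟩ := exists_rep_of_mem_closure_JW P hJ hy
        rw [← map_mul] at he
        have ht : ((nd * ny : P.N) : G)⁻¹ * n ∈ P.B := (π_eq_iff P).1 he.symm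
        -- `g = g₀ * p₀`
        set g₀ : G := b₁ * nd with hg₀
        set p₀ : G := (ny : G) * (((nd * ny : P.N) : G)⁻¹ * n) * b₂ with hp₀
        have hgp : g = g₀ * p₀ := by
          rw [hg, hg₀, hp₀]
          simp only [Subgroup.coe_mul]
          group
        have hp₀J : p₀ ∈ P.parabolic J :=
          Subgroup.mul_mem _ (Subgroup.mul_mem _ (closure_le_parabolic P J hny) (hle ht)) (hle hb₂)
        have hg₀C : g₀ ∈ C P (nd : G) := (mem_C P).2 ⟨b₁, hb₁, 1, P.B.one_mem, by rw [mul_one]⟩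
        have hfix : g₀⁻¹ * b⁻¹ * g₀ ∈ P.B := by
          apply mem_B_of_conj_mem P hJ hd
          · have e : g₀⁻¹ * b⁻¹ * g₀ = p₀ * ((b * g)⁻¹ * g) * p₀⁻¹ := by
              rw [hgp]
              group
            rw [e]
            exact Subgroup.mul_mem _ (Subgroup.mul_mem _ hp₀J hz') (Subgroup.inv_mem _ hp₀J)
          · have e : (nd : G) * (g₀⁻¹ * b⁻¹ * g₀) * (nd : G)⁻¹ = b₁⁻¹ * b⁻¹ * b₁ := by
              rw [hg₀]
              group
            rw [e]
            exact P.B.mul_mem (P.B.mul_mem (P.B.inv_mem hb₁) (P.B.inv_mem hb)) hb₁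
        have hfix' : b • ((g₀ : G) : G ⧸ P.B) = ((g₀ : G) : G ⧸ P.B) := by
          show (((b * g₀ : G)) : G ⧸ P.B) = ((g₀ : G) : G ⧸ P.B)
          rw [QuotientGroup.eq]
          have e : (b * g₀)⁻¹ * g₀ = g₀⁻¹ * b⁻¹ * g₀ := by group
          rw [e]
          exact hfix
        refine ⟨⟨⟨((g₀ : G) : G ⧸ P.B), hfix'⟩, ?_⟩, ?_⟩
        · show cellB P ((g₀ : G) : G ⧸ P.B) ∈ Red (SW P) ∅ (JW P J)
          rw [cellB_mk, cell_eq P hg₀C]
          exact hd
        · apply Subtype.ext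
          show Subgroup.quotientMapOfLE hle ((g₀ : G) : G ⧸ P.B) = ((g : G) : G ⧸ P.parabolic J)
          rw [Subgroup.quotientMapOfLE_apply_mk, QuotientGroup.eq, hgp]
          have e : g₀⁻¹ * (g₀ * p₀) = p₀ := by group
          rw [e]
          exact hp₀J
  haveI : Finite (W P) := inferInstance
  rw [← Nat.card_congr (Equiv.ofBijective Ψ hΨ),
    card_fiberwise (fun y : MulAction.fixedBy (G ⧸ P.B) b => cellB P (y : G ⧸ P.B))
      (Red (SW P) ∅ (JW P J))]
  rfl

/-- the values of the Steinberg character on `B` -/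
theorem St_apply_of_mem_B [Fintype G] {ι : Type*} [DecidableEq ι] (I : Finset ι) (s : ι → G)
    (hs : s '' (I : Set ι) = P.S) {b : G} (hb : b ∈ P.B) {w₀ : W P}
    (hw₀ : ∀ x ∈ SW P, len (SW P) (x * w₀) ≤ len (SW P) w₀) :
    St P I s b = (fixCell P b w₀ : ℂ) := by
  classical
  haveI : Fintype (W P) := Fintype.ofFinite _
  have h1 : St P I s b = ((∑ J ∈ I.powerset, (-1 : ℤ) ^ J.card *
      (∑ d : Red (SW P) ∅ (σW P s '' (J : Set ι)), (fixCell P b (d : W P) : ℤ)) : ℤ) : ℂ) := by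
    unfold St
    rw [Int.cast_sum]
    apply Finset.sum_congr rfl
    intro J hJ
    rw [Finset.mem_powerset] at hJ
    unfold Cfsg.fixedPointCharacter
    rw [card_fixedBy_parabolic P (image_subset_S P I s hs hJ) hb, finsum_eq_sum_of_fintype]
    have hJW := JW_image P I s hs hJ
    push_cast
    congr 1
    have : ∀ (A B : Set (W P)) (hAB : A = B),
        (∑ d : Red (SW P) ∅ A, (fixCell P b (d : W P) : ℂ)) =
        ∑ d : Red (SW P) ∅ B, (fixCell P b (d : W P) : ℂ) := by
      intro A B hAB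
      subst hAB
      rfl
    convert this _ _ hJW using 1
  rw [h1, alternating_sum_red_right (invGen P) (exchange P) I (σW P s) (σW_image P I s hs)
    (fun w => (fixCell P b w : ℤ)) hw₀]
  push_cast
  rfl

end Cfsg.Agent.Lib.Helper81_BNBorel
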