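import Mathlib
import Cfsg.Prelude.Def_ParabolicCharacters
import Cfsg.Agent.Lib.Helper6_BNPair
import Cfsg.Agent.Lib.Helper81_BNIndex
import Cfsg.Agent.Lib.Helper81_BNBorel

/-!
# PK-FIXC (S2314 market, helper81): `fixCell_eq`

The fixed points of `b` in the Bruhat cell `B n B / B` are exactly the fixed points of
the shape `x n B` with `x ∈ B`.
-/

set_option autoImplicit false
set_option linter.unusedSectionVars false
set_option linter.unusedVariables false

namespace Cfsg.Agent.Lib.Helper16_PC_FIXC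

open Cfsg DoubleCoset Cfsg.Agent.Lib.Helper6_BNPair
  Cfsg.Agent.Lib.Helper81_BNIndex Cfsg.Agent.Lib.Helper81_BNBorel

/-- a coset lies in the cell of `n` iff it has a representative `x n` with `x ∈ B` -/
theorem cellB_eq_iff {G : Type*} [Group G] (P : BNPair G) (n : P.N) (y : G ⧸ P.B) :
    cellB P y = π P n ↔ ∃ x ∈ P.B, y = ((x * (n : G) : G) : G ⧸ P.B) := by
  induction y using QuotientGroup.induction_on with
  | H g =>
    rw [cellB_mk]
    constructor
    · intro h
      obtain ⟨x, hx, z, hz, hg⟩ := (mem_C P).1 (mem_C_of_cell_eq P h)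
      refine ⟨x, hx, ?_⟩
      rw [hg]
      exact (QuotientGroup.mk_mul_of_mem (s := P.B) (x * (n : G)) hz)
    · rintro ⟨x, hx, hg⟩
      have h1 : (x * (n : G))⁻¹ * g ∈ P.B := QuotientGroup.eq.1 hg.symm
      apply cell_eq P
      refine (mem_C P).2 ⟨x, hx, (x * (n : G))⁻¹ * g, h1, ?_⟩
      group

end Cfsg.Agent.Lib.Helper16_PC_FIXC

namespace Cfsg.Agent.Lib.Helper81_PCount

open Cfsg DoubleCoset Cfsg.Agent.Lib.Helper6_BNPair
  Cfsg.Agent.Lib.Helper81_BNIndex Cfsg.Agent.Lib.Helper81_BNBorel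

theorem fixCell_eq {G : Type*} [Group G] (P : BNPair G) (b : G) (n : P.N) :
    fixCell P b (π P n) = Nat.card {y : MulAction.fixedBy (G ⧸ P.B) b //
        ∃ x ∈ P.B, (y : G ⧸ P.B) = ((x * (n : G) : G) : G ⧸ P.B)} := by
  unfold fixCell
  apply Nat.card_congr
  exact Equiv.subtypeEquivRight fun y =>
    Cfsg.Agent.Lib.Helper16_PC_FIXC.cellB_eq_iff P n (y : G ⧸ P.B)

end Cfsg.Agent.Lib.Helper81_PCount
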