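import Mathlib
import Cfsg.Prelude.Def_Characters
import Cfsg.Agent.Lib.Helper15_IndFun
import Cfsg.Agent.Lib.Helper15_Brauer
import Cfsg.Agent.Lib.Helper75_CharArith
import Cfsg.Agent.Lib.Helper75_IndChar
import Cfsg.Agent.Lib.Helper3_CharBridge

/-!
# `p ^ a * χ` on the `p`-regular elements is a generalized character (helper16)

* `indFun_res_normal` : induction from a normal subgroup of the restriction of a class function.
* `exists_normal_pRegular` : in an elementary group the `p`-regular elements form a normal
  subgroup of `p`-power index.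
* `isGeneralizedCharacter_pRegular` (S0961).
-/

set_option autoImplicit false
set_option linter.unusedSectionVars false

namespace Cfsg.Agent.Lib.Helper16_PRegChar

open Cfsg Cfsg.Agent.Lib.Helper15_IndFun

/-- Induction from a normal subgroup `K` of the restriction of a class function `ψ`. -/
theorem indFun_res_normal {E : Type*} [Group E] [Fintype E] (K : Subgroup E) [hK : K.Normal]
    (ψ : E → ℂ) (hψ : IsClassFunction E ψ) [DecidablePred (· ∈ K)] :
    indFun K (fun k : K => ψ k) = fun e => if e ∈ K then (K.index : ℂ) * ψ e else 0 := by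
  funext e
  unfold indFun
  have hKne : (Nat.card K : ℂ) ≠ 0 := by
    exact_mod_cast (Nat.card_pos (α := K)).ne'
  split_ifs with he
  · have h1 : ∀ x : E, extendByZero K (fun k : K => ψ k) (x⁻¹ * e * x) = ψ e := by
      intro x
      have hmem : x⁻¹ * e * x ∈ K := by
        have := hK.conj_mem e he x⁻¹
        simpa using this
      rw [extendByZero_mem K _ _ hmem]
      show ψ (x⁻¹ * e * x) = ψ e
      have := hψ e x⁻¹
      simpa using this
    rw [Finset.sum_congr rfl (fun x _ => h1 x), Finset.sum_const, Finset.card_univ, nsmul_eq_mul,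
      ← Nat.card_eq_fintype_card, ← Subgroup.card_mul_index K]
    push_cast
    field_simp
  · have h1 : ∀ x : E, extendByZero K (fun k : K => ψ k) (x⁻¹ * e * x) = 0 := by
      intro x
      apply extendByZero_not_mem
      intro hmem
      apply he
      have := hK.conj_mem _ hmem x
      simpa [mul_assoc] using this
    rw [Finset.sum_congr rfl (fun x _ => h1 x), Finset.sum_const_zero, mul_zero]

/-- In an elementary group, the `p`-regular elements form a normal subgroup of `p`-power index. -/
theorem exists_normal_pRegular {E : Type*} [Group E] [Finite E] {q : ℕ} (hq : q.Prime)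
    (hE : IsElementary q E) (p : ℕ) (hp : p.Prime) :
    ∃ K : Subgroup E, K.Normal ∧ (∀ e : E, e ∈ K ↔ ¬ p ∣ orderOf e) ∧
      ∃ i : ℕ, K.index = p ^ i := by
  obtain ⟨x, hxc, hxq, k, hk⟩ := hE
  have hAc : Subgroup.zpowers x ≤ Subgroup.center E := by
    rw [Subgroup.zpowers_le]
    exact hxc
  by_cases hpq : p = q
  · subst hpq
    have hAn : (Subgroup.zpowers x).Normal := by
      constructor
      intro n hn g
      have hnc : n ∈ Subgroup.center E := hAc hn
      rw [Subgroup.mem_center_iff] at hnc
      have : g * n * g⁻¹ = n := by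
        rw [hnc g]
        group
      rw [this]
      exact hn
    refine ⟨Subgroup.zpowers x, hAn, ?_, k, hk⟩
    intro e
    constructor
    · intro he hpe
      have h1 : orderOf e ∣ orderOf x := by
        obtain ⟨j, rfl⟩ := Subgroup.mem_zpowers_iff.mp he
        exact orderOf_dvd_of_pow_eq_one (by
          rw [← zpow_natCast, ← zpow_mul, mul_comm, zpow_mul, zpow_natCast, pow_orderOf_eq_one,
            one_zpow])
      have h2 : p ∣ orderOf x := dvd_trans hpe h1
      have h3 := Nat.Coprime.eq_one_of_dvd hxq.symm h2
      exact hp.one_lt.ne' h3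
    · intro hpe
      -- `e ^ (p ^ k) ∈ A` and `e` is a power of it
      have h1 : e ^ (p ^ k) ∈ Subgroup.zpowers x := by
        rw [← hk]
        exact Subgroup.pow_index_mem _ e
      have hcop : Nat.Coprime (p ^ k) (orderOf e) := by
        apply Nat.Coprime.pow_left
        exact (Nat.Prime.coprime_iff_not_dvd hp).mpr hpe
      obtain ⟨m, -, hm⟩ := Nat.exists_mul_mod_eq_of_coprime 1 hcop (orderOf_pos e).ne'
      have h2 : (e ^ (p ^ k)) ^ m = e := by
        rw [← pow_mul, ← pow_mod_orderOf, hm, pow_mod_orderOf, pow_one]
      rw [← h2]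
      exact Subgroup.pow_mem _ h1 m
  · -- `p ≠ q`
    have hfi : (Subgroup.center E).FiniteIndex := inferInstance
    have hm : (Subgroup.center E).index ∣ q ^ k := by
      rw [← hk]
      exact Subgroup.index_dvd_of_le hAc
    obtain ⟨i, -, hi⟩ := (Nat.dvd_prime_pow hq).mp hm
    set r : ℕ := Nat.card (Subgroup.center E) / p ^ (Nat.card (Subgroup.center E)).factorization p with hr
    have hZr : p ^ (Nat.card (Subgroup.center E)).factorization p * r = Nat.card (Subgroup.center E) :=
      Nat.ordProj_mul_ordCompl_eq_self (Nat.card (Subgroup.center E)) p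
    have hpr : ¬ p ∣ r := Nat.not_dvd_ordCompl hp Nat.card_pos.ne'
    have hpqi : ¬ p ∣ q ^ i := by
      intro h
      have := hp.dvd_of_dvd_pow h
      exact hpq ((Nat.prime_dvd_prime_iff_eq hp hq).mp this)
    let T : E →* Subgroup.center E := MonoidHom.transferCenterPow E
    have hcomm : ∀ a b : Subgroup.center E, Commute a b := by
      intro a b
      apply Subtype.ext
      have := Subgroup.mem_center_iff.mp b.2 (a : E)
      push_cast
      exact this
    let φ : E →* Subgroup.center E :=
      { toFun := fun e => (T e) ^ r
        map_one' := by rw [map_one, one_pow]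
        map_mul' := fun a b => by rw [map_mul, (hcomm (T a) (T b)).mul_pow] }
    have hφ : ∀ e : E, ((φ e : Subgroup.center E) : E) = e ^ (q ^ i * r) := by
      intro e
      show (((T e) ^ r : Subgroup.center E) : E) = e ^ (q ^ i * r)
      push_cast
      rw [MonoidHom.transferCenterPow_apply, hi, ← pow_mul]
    refine ⟨φ.ker, MonoidHom.normal_ker φ, ?_, ?_⟩
    · intro e
      rw [MonoidHom.mem_ker]
      have hiff : φ e = 1 ↔ e ^ (q ^ i * r) = 1 := by
        rw [← hφ e]
        constructor
        · intro h; rw [h]; rfl
        · intro h; exact Subtype.ext h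
      rw [hiff]
      constructor
      · intro h hpe
        have h1 : orderOf e ∣ q ^ i * r := orderOf_dvd_of_pow_eq_one h
        rcases hp.dvd_mul.mp (dvd_trans hpe h1) with h2 | h2
        · exact hpqi h2
        · exact hpr h2
      · intro hpe
        -- `z = e ^ (q^i) ∈ Z` has order prime to `p`, dividing `|Z|`
        have hz : ((T e : Subgroup.center E) : E) = e ^ (q ^ i) := by
          rw [MonoidHom.transferCenterPow_apply, hi]
        have ho1 : orderOf (T e) ∣ Nat.card (Subgroup.center E) := orderOf_dvd_natCard (T e)
        have ho2 : orderOf (T e) ∣ orderOf e := by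
          rw [← Subgroup.orderOf_coe, hz]
          exact orderOf_pow_dvd (q ^ i)
        have hcop : Nat.Coprime (orderOf (T e)) (p ^ (Nat.card (Subgroup.center E)).factorization p) := by
          apply Nat.Coprime.pow_right
          rw [Nat.coprime_comm]
          apply (Nat.Prime.coprime_iff_not_dvd hp).mpr
          intro h
          exact hpe (dvd_trans h ho2)
        have ho3 : orderOf (T e) ∣ r := by
          rw [← hZr] at ho1
          exact hcop.dvd_of_dvd_mul_left ho1
        have h4 : (T e) ^ r = 1 := orderOf_dvd_iff_pow_eq_one.mp ho3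
        have h5 := congrArg Subtype.val h4
        rw [pow_mul, ← hz]
        simpa using h5
    · -- the index is a power of `p`
      rw [Subgroup.index_ker]
      have hpg : IsPGroup p φ.range := by
        rintro ⟨_, e, rfl⟩
        refine ⟨(Nat.card (Subgroup.center E)).factorization p, ?_⟩
        apply Subtype.ext
        show (φ e) ^ (p ^ (Nat.card (Subgroup.center E)).factorization p) = 1
        show ((T e) ^ r) ^ (p ^ (Nat.card (Subgroup.center E)).factorization p) = 1
        rw [← pow_mul, mul_comm, hZr]
        exact pow_card_eq_one'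
      have : Fact p.Prime := ⟨hp⟩
      obtain ⟨j, hj⟩ := IsPGroup.iff_card.mp hpg
      exact ⟨j, hj⟩

/-- **S0961**: `p ^ a * χ` on the `p`-regular elements (and `0` elsewhere) is a generalized
character, for `p ^ a` the `p`-part of `|G|` and `χ` a character. -/
theorem isGeneralizedCharacter_pRegular {G : Type*} [Group G] [Finite G] (p : ℕ) (hp : p.Prime)
    {χ : G → ℂ} (hχ : IsCharacter G χ) :
    IsGeneralizedCharacter G (fun x : G => if p ∣ orderOf x then 0
      else ((p ^ (Nat.card G).factorization p : ℕ) : ℂ) * χ x) := by
  classical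
  let _ : Fintype G := Fintype.ofFinite G
  have hχc : IsClassFunction G χ :=
    Cfsg.Agent.Lib.Helper3_CharBridge.isClassFunction_of_isCharacter hχ
  apply Cfsg.Agent.Lib.Helper15_Brauer.isGeneralizedCharacter_of_elementary
  · intro g h
    have ho : orderOf (h * g * h⁻¹) = orderOf g := (MulAut.conj h).orderOf_eq g
    simp only [ho, hχc g h]
  · intro E q hq hEl
    let _ : Fintype E := Fintype.ofFinite E
    obtain ⟨K, hKn, hKmem, i, hKi⟩ := exists_normal_pRegular hq hEl p hp
    set a := (Nat.card G).factorization p with ha
    -- `p ^ i ∣ |G|`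
    have hdvd : p ^ i ∣ Nat.card G := by
      rw [← hKi]
      exact dvd_trans (Subgroup.index_dvd_card K) (Subgroup.card_subgroup_dvd_card E)
    have hia : i ≤ a := (hp.pow_dvd_iff_le_factorization Nat.card_pos.ne').mp hdvd
    have hψ : IsCharacter E (fun e : E => χ e) :=
      Cfsg.Agent.Lib.Helper75_CharArith.isCharacter_restrict E hχ
    have hψc : IsClassFunction E (fun e : E => χ e) :=
      Cfsg.Agent.Lib.Helper3_CharBridge.isClassFunction_of_isCharacter hψ
    have hind : IsCharacter E (indFun K (fun k : K => (fun e : E => χ e) k)) :=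
      Cfsg.Agent.Lib.Helper75_IndChar.isCharacter_indFun K
        (Cfsg.Agent.Lib.Helper75_CharArith.isCharacter_restrict K hψ)
    have hchar := Cfsg.Agent.Lib.Helper75_CharArith.isCharacter_nsmul (p ^ (a - i)) hind
    refine ⟨_, 0, hchar, Cfsg.Agent.Lib.Helper75_CharArith.isCharacter_zero, ?_⟩
    rw [sub_zero, indFun_res_normal K (fun e : E => χ e) hψc]
    funext e
    have ho : orderOf (e : G) = orderOf e := Subgroup.orderOf_coe e
    simp only [ho, Pi.smul_apply, nsmul_eq_mul]
    by_cases hpe : p ∣ orderOf e
    · rw [if_pos hpe, if_neg (fun h => (hKmem e).mp h hpe), mul_zero]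
    · rw [if_neg hpe, if_pos ((hKmem e).mpr hpe), hKi, ← mul_assoc]
      congr 1
      have : p ^ a = p ^ (a - i) * p ^ i := by
        rw [← pow_add, Nat.sub_add_cancel hia]
      rw [this]
      push_cast
      ring

end Cfsg.Agent.Lib.Helper16_PRegChar
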