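import Mathlib
import Cfsg.Agent.Lib.Helper94_Q2Defs

set_option autoImplicit false
set_option linter.unusedSectionVars false
set_option linter.unusedVariables false

/-!
Q2 market (helper94), package Q2-BRISO: an orthogonal decomposition into isometric anisotropic
planes over a finite field is isometric to the model `E^t`, `E = QuadraticAlgebra F a b`, with its
coordinate planes.  (helper16)
-/

namespace Cfsg.Agent.Lib.Helper16_Q2_BRISO

open Module Polynomial Cfsg.Agent.Lib.Helper94_Symp Cfsg.Agent.Lib.Helper94_OrthSmall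
  Cfsg.Agent.Lib.Helper94_OrthSiegel Cfsg.Agent.Lib.Helper94_OrthNondeg
  Cfsg.Agent.Lib.Helper29_ODDefs Cfsg.Agent.Lib.Helper94_Q2Defs

section Aux

variable {F : Type*} [Field F]

/-- Over a finite field of odd order, `c x² + d y² = 1` is solvable when `c, d ≠ 0`. -/
lemma exists_sq_sum_one [Finite F] (h2 : (2 : F) ≠ 0) {c d : F} (hc : c ≠ 0) (hd : d ≠ 0) :
    ∃ x y : F, c * (x * x) + d * (y * y) = 1 := by
  have := Fintype.ofFinite F
  have hodd : Fintype.card F % 2 = 1 := by
    have : ringChar F ≠ 2 := by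
      intro h
      apply h2
      have : ((2 : ℕ) : F) = 0 := by rw [← h]; exact ringChar.Nat.cast_ringChar
      exact_mod_cast this
    exact FiniteField.odd_card_of_char_ne_two this
  have hf : degree (C c * X ^ 2 : F[X]) = 2 := by
    rw [degree_C_mul_X_pow 2 hc]; rfl
  have hg : degree (C d * X ^ 2 + C (-1) : F[X]) = 2 := by
    rw [degree_add_C]
    · rw [degree_C_mul_X_pow 2 hd]; rfl
    · rw [degree_C_mul_X_pow 2 hd]; norm_num
  obtain ⟨x, y, hxy⟩ := FiniteField.exists_root_sum_quadratic hf hg hodd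
  refine ⟨x, y, ?_⟩
  simp only [eval_mul, eval_C, eval_pow, eval_X, eval_add] at hxy
  linear_combination hxy

/-- In a finite field with `2 = 0` every element is a square. -/
lemma exists_sq_eq [Finite F] (h2 : (2 : F) = 0) (c : F) : ∃ s : F, s * s = c := by
  have hch : ringChar F = 2 := by
    apply CharP.ringChar_of_prime_eq_zero Nat.prime_two
    exact_mod_cast h2
  obtain ⟨s, hs⟩ := FiniteField.isSquare_of_char_two hch c
  exact ⟨s, hs.symm⟩

end Aux

section Abs

variable {F V : Type*} [Field F] [AddCommGroup V] [Module F V]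
  {Q : V → F} {B : LinearMap.BilinForm F V}

/-- `Q` of a sum of pairwise orthogonal vectors. -/
lemma Q_sum_orth (hQs : ∀ (c : F) (v : V), Q (c • v) = c * c * Q v)
    (hQp : ∀ u v : V, Q (u + v) = Q u + Q v + B u v) {ι : Type*} (s : Finset ι) (v : ι → V)
    (h : ∀ i ∈ s, ∀ j ∈ s, i ≠ j → B (v i) (v j) = 0) :
    Q (∑ i ∈ s, v i) = ∑ i ∈ s, Q (v i) := by
  classical
  induction s using Finset.induction_on with
  | empty =>
    rw [Finset.sum_empty, Finset.sum_empty]
    exact Q_zero Q hQs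
  | insert x s hx ih =>
    have h0 : ∑ i ∈ s, B (v x) (v i) = 0 := by
      apply Finset.sum_eq_zero
      intro i hi
      exact h x (Finset.mem_insert_self x s) i (Finset.mem_insert_of_mem hi)
        (fun hxi => hx (hxi ▸ hi))
    have h1 : Q (∑ i ∈ s, v i) = ∑ i ∈ s, Q (v i) := by
      apply ih
      intro i hi j hj hij
      exact h i (Finset.mem_insert_of_mem hi) j (Finset.mem_insert_of_mem hj) hij
    rw [Finset.sum_insert hx, Finset.sum_insert hx, hQp, h1, map_sum, h0, add_zero]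

lemma Q_comb (hQs : ∀ (c : F) (v : V), Q (c • v) = c * c * Q v)
    (hQp : ∀ u v : V, Q (u + v) = Q u + Q v + B u v) (α β : F) (x y : V) :
    Q (α • x + β • y) = α * α * Q x + β * β * Q y + α * β * B x y := by
  rw [hQp, hQs, hQs, map_smul, map_smul, LinearMap.smul_apply, smul_eq_mul, smul_eq_mul]
  ring

/-- A plane contains a vector outside a given line. -/
lemma exists_not_mem_span [FiniteDimensional F V] (P : Submodule F V) (hfr : finrank F P = 2)
    (x : V) : ∃ y ∈ P, y ∉ Submodule.span F ({x} : Set V) := by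
  by_contra hcon
  push Not at hcon
  have hle : P ≤ Submodule.span F ({x} : Set V) := hcon
  have h1 := Submodule.finrank_mono hle
  have h2 : finrank F (Submodule.span F ({x} : Set V)) ≤ 1 :=
    le_trans (finrank_span_le_card ({x} : Set V)) (by simp)
  omega

/-- An anisotropic plane over a finite field represents `1`. -/
lemma exists_Q_one [Finite F] [FiniteDimensional F V]
    (hQs : ∀ (c : F) (v : V), Q (c • v) = c * c * Q v)
    (hQp : ∀ u v : V, Q (u + v) = Q u + Q v + B u v) (P : Submodule F V)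
    (hfr : finrank F P = 2) (hani : ∀ x ∈ P, Q x = 0 → x = 0) : ∃ x ∈ P, Q x = 1 := by
  obtain ⟨x, hxP, hx0⟩ : ∃ x ∈ P, x ≠ 0 := by
    obtain ⟨y, hyP, hy⟩ := exists_not_mem_span P hfr (0 : V)
    refine ⟨y, hyP, fun h => hy ?_⟩
    rw [h]
    exact Submodule.zero_mem _
  have hc : Q x ≠ 0 := fun h => hx0 (hani x hxP h)
  by_cases h2 : (2 : F) = 0
  · obtain ⟨s, hs⟩ := exists_sq_eq h2 (Q x)⁻¹
    refine ⟨s • x, P.smul_mem s hxP, ?_⟩
    rw [hQs, hs, inv_mul_cancel₀ hc]
  · obtain ⟨y, hyP, hy⟩ := exists_not_mem_span P hfr x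
    obtain ⟨y', hy'⟩ : ∃ y' : V, y' = y - (B y x / (2 * Q x)) • x := ⟨_, rfl⟩
    have hy'P : y' ∈ P := by
      rw [hy']
      exact P.sub_mem hyP (P.smul_mem _ hxP)
    have hy'0 : y' ≠ 0 := by
      intro h
      apply hy
      rw [hy', sub_eq_zero] at h
      rw [h]
      exact Submodule.smul_mem _ _ (Submodule.subset_span rfl)
    have hd : Q y' ≠ 0 := fun h => hy'0 (hani y' hy'P h)
    have hB : B x y' = 0 := by
      rw [B_symm Q B hQp, hy', map_sub, map_smul, LinearMap.sub_apply, LinearMap.smul_apply,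
        B_self Q B hQs hQp x, smul_eq_mul]
      field_simp
      ring
    obtain ⟨α, β, hαβ⟩ := exists_sq_sum_one h2 hc hd
    refine ⟨α • x + β • y', P.add_mem (P.smul_mem _ hxP) (P.smul_mem _ hy'P), ?_⟩
    rw [Q_comb hQs hQp, hB, mul_zero, add_zero]
    linear_combination hαβ

/-- An anisotropic plane over a finite field is isometric to the norm form of a quadratic
algebra without roots. -/
lemma exists_plane_iso [Finite F] [FiniteDimensional F V]
    (hQs : ∀ (c : F) (v : V), Q (c • v) = c * c * Q v)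
    (hQp : ∀ u v : V, Q (u + v) = Q u + Q v + B u v) (P : Submodule F V)
    (hfr : finrank F P = 2) (hani : ∀ x ∈ P, Q x = 0 → x = 0) :
    ∃ a b : F, (∀ r : F, r ^ 2 ≠ a + b * r) ∧
      ∃ θ : QuadraticAlgebra F a b ≃ₗ[F] P, ∀ z, Q (θ z : V) = QuadraticAlgebra.norm z := by
  obtain ⟨x₀, hx₀P, hx1⟩ := exists_Q_one hQs hQp P hfr hani
  obtain ⟨y₀, hy₀P, hy₀⟩ := exists_not_mem_span P hfr x₀
  have hab : ∀ r : F, r ^ 2 ≠ -Q y₀ + B x₀ y₀ * r := by
    intro r hr
    have h1 : Q ((-r) • x₀ + (1 : F) • y₀) = 0 := by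
      rw [Q_comb hQs hQp, hx1]
      linear_combination hr
    have h2 := hani _ (P.add_mem (P.smul_mem _ hx₀P) (P.smul_mem _ hy₀P)) h1
    apply hy₀
    have h3 : y₀ = r • x₀ := by
      rw [one_smul, neg_smul] at h2
      rw [← sub_eq_zero]
      rw [← h2]
      abel
    rw [h3]
    exact Submodule.smul_mem _ _ (Submodule.subset_span rfl)
  refine ⟨-Q y₀, B x₀ y₀, hab, ?_⟩
  have : Fact (∀ r : F, r ^ 2 ≠ -Q y₀ + B x₀ y₀ * r) := ⟨hab⟩
  let θ₀ : QuadraticAlgebra F (-Q y₀) (B x₀ y₀) →ₗ[F] P :=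
    { toFun := fun z => z.re • (⟨x₀, hx₀P⟩ : P) + z.im • (⟨y₀, hy₀P⟩ : P)
      map_add' := by
        intro z w
        rw [QuadraticAlgebra.re_add, QuadraticAlgebra.im_add, add_smul, add_smul]
        abel
      map_smul' := by
        intro c z
        rw [QuadraticAlgebra.re_smul, QuadraticAlgebra.im_smul, RingHom.id_apply, smul_add,
          smul_eq_mul, smul_eq_mul, mul_smul, mul_smul] }
  have hθ₀ : ∀ z, ((θ₀ z : P) : V) = z.re • x₀ + z.im • y₀ := fun z => rfl
  have hθQ : ∀ z, Q (θ₀ z : V) = QuadraticAlgebra.norm z := by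
    intro z
    rw [hθ₀, Q_comb hQs hQp, hx1, QuadraticAlgebra.norm_def]
    ring
  have hinj : Function.Injective θ₀ := by
    rw [← LinearMap.ker_eq_bot, LinearMap.ker_eq_bot']
    intro z hz
    have h1 := hθQ z
    rw [hz, Submodule.coe_zero, Q_zero Q hQs] at h1
    exact QuadraticAlgebra.norm_eq_zero_iff_eq_zero.mp h1.symm
  have hfin : finrank F (QuadraticAlgebra F (-Q y₀) (B x₀ y₀)) = finrank F P := by
    rw [hfr, QuadraticAlgebra.finrank_eq_two]
  have hsurj : Function.Surjective θ₀ :=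
    (LinearMap.injective_iff_surjective_of_finrank_eq_finrank hfin).mp hinj
  exact ⟨LinearEquiv.ofBijective θ₀ ⟨hinj, hsurj⟩, fun z => hθQ z⟩

/-- Gluing isometries of the model plane onto the blocks into an isometry of the model space. -/
lemma of_family (hQs : ∀ (c : F) (v : V), Q (c • v) = c * c * Q v)
    (hQp : ∀ u v : V, Q (u + v) = Q u + Q v + B u v) {a b : F} {t : ℕ}
    (D : Fin t → Submodule F V) (hD : ODec Q B 2 D)
    (θ : ∀ l, QuadraticAlgebra F a b ≃ₗ[F] D l)
    (hθ : ∀ l z, Q (θ l z : V) = QuadraticAlgebra.norm z) :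
    ∃ φ : V ≃ₗ[F] MV a b t, (∀ v, mQ a b t (φ v) = Q v) ∧
      ∀ l, (D l).map (φ : V →ₗ[F] MV a b t) = mD a b t l := by
  classical
  let ψ : MV a b t →ₗ[F] V :=
    { toFun := fun z => ∑ l, (θ l (z l) : V)
      map_add' := by
        intro x y
        simp only [Pi.add_apply, map_add, Submodule.coe_add, Finset.sum_add_distrib]
      map_smul' := by
        intro c x
        simp only [Pi.smul_apply, map_smul, Submodule.coe_smul, Finset.smul_sum,
          RingHom.id_apply] }
  have hψ : ∀ z, ψ z = ∑ l, (θ l (z l) : V) := fun z => rfl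
  have hψQ : ∀ z, Q (ψ z) = mQ a b t z := by
    intro z
    rw [hψ, Q_sum_orth hQs hQp, mQ_apply]
    · exact Finset.sum_congr rfl (fun l _ => hθ l (z l))
    · intro i _ j _ hij
      exact hD.orth i j hij _ (θ i (z i)).2 _ (θ j (z j)).2
  have hψs : ∀ l (ζ : QuadraticAlgebra F a b), ψ (Pi.single l ζ) = (θ l ζ : V) := by
    intro l ζ
    rw [hψ, Finset.sum_eq_single l]
    · rw [Pi.single_eq_same]
    · intro k _ hk
      rw [Pi.single_eq_of_ne hk, map_zero, Submodule.coe_zero]
    · intro h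
      exact absurd (Finset.mem_univ l) h
  have hinj : Function.Injective ψ := by
    rw [← LinearMap.ker_eq_bot, LinearMap.ker_eq_bot']
    intro z hz
    funext l
    have h1 : ∀ d ∈ D l, B d (θ l (z l) : V) = 0 := by
      intro d hd
      have h2 : B d (ψ z) = B d (θ l (z l) : V) := by
        rw [hψ, map_sum, Finset.sum_eq_single l]
        · intro k _ hk
          exact hD.orth l k (Ne.symm hk) d hd _ (θ k (z k)).2
        · intro h
          exact absurd (Finset.mem_univ l) h
      rw [← h2, hz, map_zero]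
    have h3 : (θ l (z l) : V) = 0 := by
      by_contra hne
      obtain ⟨d, hd, hdn⟩ := hD.nd l _ (θ l (z l)).2 hne
      exact hdn (h1 d hd)
    have h4 : θ l (z l) = 0 := Subtype.ext h3
    rw [Pi.zero_apply]
    exact (θ l).injective (h4.trans (map_zero (θ l)).symm)
  have hsurj : Function.Surjective ψ := by
    rw [← LinearMap.range_eq_top, eq_top_iff, ← hD.sup]
    apply iSup_le
    intro l d hd
    refine ⟨Pi.single l ((θ l).symm ⟨d, hd⟩), ?_⟩
    rw [hψs, LinearEquiv.apply_symm_apply]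
  let Ψ : MV a b t ≃ₗ[F] V := LinearEquiv.ofBijective ψ ⟨hinj, hsurj⟩
  have hΨ : ∀ z, Ψ z = ψ z := fun z => rfl
  refine ⟨Ψ.symm, ?_, ?_⟩
  · intro v
    rw [← hψQ, ← hΨ, LinearEquiv.apply_symm_apply]
  · intro l
    ext z
    rw [Submodule.mem_map]
    constructor
    · rintro ⟨v, hv, rfl⟩
      have h1 : Ψ (Pi.single l ((θ l).symm ⟨v, hv⟩)) = v := by
        rw [hΨ, hψs, LinearEquiv.apply_symm_apply]
      have h2 : Ψ.symm v = Pi.single l ((θ l).symm ⟨v, hv⟩) := by
        rw [LinearEquiv.symm_apply_eq]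
        exact h1.symm
      show Ψ.symm v ∈ mD a b t l
      rw [h2]
      intro k hk
      exact Pi.single_eq_of_ne hk _
    · intro hz
      refine ⟨Ψ z, ?_, ?_⟩
      · have h1 : z = Pi.single l (z l) := by
          funext k
          by_cases hk : k = l
          · rw [hk, Pi.single_eq_same]
          · rw [Pi.single_eq_of_ne hk, hz k hk]
        rw [h1, hΨ, hψs]
        exact (θ l _).2
      · show Ψ.symm (Ψ z) = z
        rw [LinearEquiv.symm_apply_apply]

end Abs

section Main

/-- **Q2-BRISO** -/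
theorem BRISO {F V : Type*} [Field F] [AddCommGroup V] [Module F V] [Finite F]
    [FiniteDimensional F V] {Q : V → F} {B : LinearMap.BilinForm F V}
    (hQs : ∀ (c : F) (v : V), Q (c • v) = c * c * Q v)
    (hQp : ∀ u v : V, Q (u + v) = Q u + Q v + B u v)
    {t : ℕ} (ht : 0 < t) (D : Fin t → Submodule F V) (hD : ODec Q B 2 D)
    (hani : ∀ i, ∀ x ∈ D i, Q x = 0 → x = 0) :
    ∃ a b : F, (∀ r : F, r ^ 2 ≠ a + b * r) ∧ ∃ φ : V ≃ₗ[F] MV a b t,
      (∀ v, mQ a b t (φ v) = Q v) ∧
      ∀ l, (D l).map (φ : V →ₗ[F] MV a b t) = mD a b t l := by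
  obtain ⟨a, b, hab, θ, hθ⟩ :=
    exists_plane_iso hQs hQp (D ⟨0, ht⟩) (hD.fr ⟨0, ht⟩) (hani ⟨0, ht⟩)
  refine ⟨a, b, hab, ?_⟩
  choose e he using fun l => hD.iso ⟨0, ht⟩ l
  exact of_family hQs hQp D hD (fun l => θ ≪≫ₗ e l) (fun l z => by
    rw [LinearEquiv.trans_apply, he l, hθ])

end Main

end Cfsg.Agent.Lib.Helper16_Q2_BRISO
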