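import Mathlib
import Cfsg.Agent.Lib.Helper94_Q2Defs

set_option autoImplicit false
set_option linter.unusedSectionVars false
set_option linter.unusedVariables false

/-!
Q2 market (helper94), package Q2-T1BETA: a product of two reflections in orthogonal vectors of
equal norm which permutes the coordinate planes induces the identity or (odd characteristic) a
transposition on them.  (helper16)
-/

namespace Cfsg.Agent.Lib.Helper16_Q2_T1BETA

open Module Cfsg.Agent.Lib.Helper94_Symp Cfsg.Agent.Lib.Helper94_OrthSmall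
  Cfsg.Agent.Lib.Helper94_OrthSiegel Cfsg.Agent.Lib.Helper94_OrthNondeg
  Cfsg.Agent.Lib.Helper29_ODDefs Cfsg.Agent.Lib.Helper94_Q2Defs

variable {F : Type*} [Field F] [Finite F] {a b : F} [Fact (∀ r : F, r ^ 2 ≠ a + b * r)] {t : ℕ}
  {S M L : Subgroup (MV a b t ≃ₗ[F] MV a b t)}

/-- The product of two reflections in orthogonal vectors. -/
lemma beta_apply {m m' : MV a b t} (hm0 : mQ a b t m ≠ 0) (hm0' : mQ a b t m' ≠ 0)
    (horth : mB a b t m m' = 0) (v : MV a b t) :
    (mrefl a b t hm0 * mrefl a b t hm0') v =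
      v - ((mQ a b t m')⁻¹ * mB a b t v m') • m' - ((mQ a b t m)⁻¹ * mB a b t v m) • m := by
  have hsymm : mB a b t m' m = 0 := by
    rw [B_symm (mQ a b t) (mB a b t) (mQp a b t)]; exact horth
  rw [LinearEquiv.mul_apply, refl_apply, refl_apply]
  rw [map_sub, map_smul, LinearMap.sub_apply, LinearMap.smul_apply, hsymm, smul_zero, sub_zero]

lemma beta_mem_oG {m m' : MV a b t} (hm0 : mQ a b t m ≠ 0) (hm0' : mQ a b t m' ≠ 0) :
    mrefl a b t hm0 * mrefl a b t hm0' ∈ oG (mQ a b t) :=
  (oG (mQ a b t)).mul_mem (refl_mem _ _ _ _ hm0) (refl_mem _ _ _ _ hm0')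

/-- Image of a vector of the plane `j` lies in the plane `σ j`. -/
lemma img_mem {β : MV a b t ≃ₗ[F] MV a b t} {σ : Equiv.Perm (Fin t)}
    (hσ : ∀ j, (mD a b t j).map (β : MV a b t →ₗ[F] MV a b t) = mD a b t (σ j))
    {j : Fin t} {v : MV a b t} (hv : v ∈ mD a b t j) : β v ∈ mD a b t (σ j) := by
  rw [← hσ j]
  exact Submodule.mem_map_of_mem hv

lemma finrank_span_pair_le' (x y : MV a b t) :
    finrank F (Submodule.span F ({x, y} : Set (MV a b t))) ≤ 2 := by
  classical
  have h6 := finrank_span_finset_le_card (R := F) ({x, y} : Finset (MV a b t))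
  have h7 : (({x, y} : Finset (MV a b t)) : Set (MV a b t)) = {x, y} := by simp
  rw [h7, Set.finrank] at h6
  have := Finset.card_le_two (a := x) (b := y)
  omega

/-- If the plane `j` is moved, `m` is of the form `β v - v` with `v` in the plane `j`. -/
lemma exists_pre {m m' : MV a b t} (hm0 : mQ a b t m ≠ 0) (hm0' : mQ a b t m' ≠ 0)
    (horth : mB a b t m m' = 0) (σ : Equiv.Perm (Fin t))
    (hσ : ∀ j, (mD a b t j).map
      ((mrefl a b t hm0 * mrefl a b t hm0' : MV a b t ≃ₗ[F] MV a b t) :
        MV a b t →ₗ[F] MV a b t) = mD a b t (σ j)) {j : Fin t} (hj : σ j ≠ j) :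
    ∃ v ∈ mD a b t j, m = (mrefl a b t hm0 * mrefl a b t hm0') v - v := by
  classical
  set β : MV a b t ≃ₗ[F] MV a b t := mrefl a b t hm0 * mrefl a b t hm0' with hβ
  let f : QuadraticAlgebra F a b →ₗ[F] MV a b t :=
    ((β : MV a b t →ₗ[F] MV a b t) - LinearMap.id) ∘ₗ
      (LinearMap.single F (fun _ : Fin t => QuadraticAlgebra F a b) j)
  have hf : ∀ z, f z = β (Pi.single j z) - Pi.single j z := fun z => rfl
  have hsm : ∀ z : QuadraticAlgebra F a b, (Pi.single j z : MV a b t) ∈ mD a b t j := by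
    intro z k hk
    exact Pi.single_eq_of_ne (M := fun _ : Fin t => QuadraticAlgebra F a b) hk z
  have hinj : Function.Injective f := by
    rw [← LinearMap.ker_eq_bot, LinearMap.ker_eq_bot']
    intro z hz
    rw [hf, sub_eq_zero] at hz
    have h1 : β (Pi.single j z) ∈ mD a b t (σ j) := img_mem hσ (hsm z)
    have h2 := h1 j (Ne.symm hj)
    rw [hz, Pi.single_eq_same] at h2
    exact h2
  have hW : LinearMap.range f ≤ Submodule.span F ({m, m'} : Set (MV a b t)) := by
    rintro _ ⟨z, rfl⟩
    rw [hf, hβ, beta_apply hm0 hm0' horth]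
    have e : ∀ (x : MV a b t) (c c' : F), x - c' • m' - c • m - x = (-c) • m + (-c') • m' := by
      intro x c c'
      module
    rw [e]
    exact Submodule.add_mem _
      (Submodule.smul_mem _ _ (Submodule.subset_span (by simp)))
      (Submodule.smul_mem _ _ (Submodule.subset_span (by simp)))
  have hfr : finrank F (LinearMap.range f) = 2 := by
    rw [LinearMap.finrank_range_of_inj hinj, QuadraticAlgebra.finrank_eq_two]
  have heq : LinearMap.range f = Submodule.span F ({m, m'} : Set (MV a b t)) := by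
    apply Submodule.eq_of_le_of_finrank_le hW
    rw [hfr]
    exact finrank_span_pair_le' m m'
  have hm : m ∈ LinearMap.range f := by
    rw [heq]
    exact Submodule.subset_span (by simp)
  obtain ⟨z, hz⟩ := hm
  exact ⟨Pi.single j z, hsm z, by rw [← hz, hf]⟩

/-- `Q (β v - v) = 2 Q v` when `v` and `β v` lie in different planes. -/
lemma mQ_sub {β : MV a b t ≃ₗ[F] MV a b t} (hβ : β ∈ oG (mQ a b t)) {j j' : Fin t}
    (hjj' : j' ≠ j) {v : MV a b t} (hv : v ∈ mD a b t j) (hv' : β v ∈ mD a b t j') :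
    mQ a b t (β v - v) = 2 * mQ a b t v := by
  have h0 : mB a b t (β v) v = 0 := by
    rw [mB_apply]
    apply Finset.sum_eq_zero
    intro l _
    by_cases hl : l = j
    · subst hl
      rw [hv' l (Ne.symm hjj'), zero_mul, map_zero]
    · rw [hv l hl, star_zero, mul_zero, map_zero]
  have h1 : β v - v = β v + (-1 : F) • v := by module
  rw [h1, mQp, mQs, hβ v, map_smul, h0]
  simp only [smul_eq_mul]
  ring

/-- **Q2-T1BETA** -/
theorem T1BETA {m m' : MV a b t} (hm0 : mQ a b t m ≠ 0) (hm0' : mQ a b t m' ≠ 0)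
    (hQ : mQ a b t m = mQ a b t m') (horth : mB a b t m m' = 0) (σ : Equiv.Perm (Fin t))
    (hσ : ∀ j, (mD a b t j).map
      ((mrefl a b t hm0 * mrefl a b t hm0' : MV a b t ≃ₗ[F] MV a b t) :
        MV a b t →ₗ[F] MV a b t) = mD a b t (σ j)) :
    σ = 1 ∨ ((2 : F) ≠ 0 ∧ ∃ j j', j ≠ j' ∧ σ = Equiv.swap j j') := by
  classical
  set β : MV a b t ≃ₗ[F] MV a b t := mrefl a b t hm0 * mrefl a b t hm0' with hβ
  have hβO : β ∈ oG (mQ a b t) := beta_mem_oG hm0 hm0'
  -- the key fact
  have key : ∀ j, σ j ≠ j → ∃ v ∈ mD a b t j, m = β v - v ∧ β v ∈ mD a b t (σ j) ∧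
      mQ a b t m = 2 * mQ a b t v := by
    intro j hj
    obtain ⟨v, hv, hmv⟩ := exists_pre hm0 hm0' horth σ hσ hj
    have hv' : β v ∈ mD a b t (σ j) := img_mem hσ hv
    refine ⟨v, hv, hmv, hv', ?_⟩
    rw [hmv]
    exact mQ_sub hβO hj hv hv'
  by_cases h1 : σ = 1
  · exact Or.inl h1
  right
  obtain ⟨j, hj⟩ : ∃ j, σ j ≠ j := by
    by_contra hcon
    push Not at hcon
    exact h1 (Equiv.ext hcon)
  obtain ⟨v, hv, hmv, hv', hQv⟩ := key j hj
  have h2 : (2 : F) ≠ 0 := by
    intro h2
    rw [h2, zero_mul] at hQv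
    exact hm0 hQv
  refine ⟨h2, j, σ j, Ne.symm hj, ?_⟩
  -- coordinates of m
  have hmj : m j ≠ 0 := by
    intro h0
    have h3 : v j = 0 := by
      have := congrFun hmv j
      rw [Pi.sub_apply, hv' j (Ne.symm hj), zero_sub, h0] at this
      exact neg_eq_zero.mp this.symm
    have h4 : v = 0 := by
      funext k
      by_cases hk : k = j
      · rw [hk]; exact h3
      · exact hv k hk
    rw [h4, map_zero, sub_zero] at hmv
    rw [hmv] at hm0
    exact hm0 (Q_zero (mQ a b t) (mQs a b t))
  have hmk : ∀ k, k ≠ j → k ≠ σ j → m k = 0 := by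
    intro k hk hk'
    have := congrFun hmv k
    rw [Pi.sub_apply, hv' k hk', hv k hk, sub_zero] at this
    exact this
  apply Equiv.ext
  intro i
  by_cases hi : σ i = i
  · have hij : i ≠ j := fun h => hj (h ▸ hi)
    have hij' : i ≠ σ j := by
      intro h
      apply hj
      have : σ i = σ j := by rw [hi]; exact h
      exact (σ.injective this) ▸ hi
    rw [Equiv.swap_apply_of_ne_of_ne hij hij', hi]
  · obtain ⟨w, hw, hmw, hw', _⟩ := key i hi
    -- m i ≠ 0 and m (σ i) ≠ 0
    have hmi : m i ≠ 0 := by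
      intro h0
      have h3 : w i = 0 := by
        have := congrFun hmw i
        rw [Pi.sub_apply, hw' i (Ne.symm hi), zero_sub, h0] at this
        exact neg_eq_zero.mp this.symm
      have h4 : w = 0 := by
        funext k
        by_cases hk : k = i
        · rw [hk]; exact h3
        · exact hw k hk
      rw [h4, map_zero, sub_zero] at hmw
      rw [hmw] at hm0
      exact hm0 (Q_zero (mQ a b t) (mQs a b t))
    have hmsi : m (σ i) ≠ 0 := by
      intro h0
      have h3 : β w (σ i) = 0 := by
        have := congrFun hmw (σ i)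
        rw [Pi.sub_apply, hw (σ i) hi, sub_zero, h0] at this
        exact this.symm
      have h4 : β w = 0 := by
        funext k
        by_cases hk : k = σ i
        · rw [hk]; exact h3
        · exact hw' k hk
      have h5 : w = 0 := by
        have := β.injective (h4.trans (map_zero β).symm)
        exact this
      rw [h5, map_zero, sub_zero] at hmw
      rw [hmw] at hm0
      exact hm0 (Q_zero (mQ a b t) (mQs a b t))
    have hi1 : i = j ∨ i = σ j := by
      by_contra hcon
      push Not at hcon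
      exact hmi (hmk i hcon.1 hcon.2)
    have hi2 : σ i = j ∨ σ i = σ j := by
      by_contra hcon
      push Not at hcon
      exact hmsi (hmk (σ i) hcon.1 hcon.2)
    rcases hi1 with h | h
    · rw [h, Equiv.swap_apply_left]
    · rcases hi2 with h' | h'
      · rw [h, Equiv.swap_apply_right]
        rw [h] at h'
        exact h'
      · exact absurd (h.symm.trans (σ.injective h')) hj

end Cfsg.Agent.Lib.Helper16_Q2_T1BETA
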