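import Mathlib
import Cfsg.Agent.Lib.Helper66_S92Defs

set_option autoImplicit false

/-!
Definitions for the `LIFT2` packages of S2092 (central extensions of `Sp_{2m}(2)`, `m ≥ 4`):
the standard alternating form on `ι ⊕ ι → K` in the conventions of `Helper66_S92Defs`.
-/

namespace Cfsg.Agent.Lib.Helper66_S92

variable {ι : Type*} [Fintype ι] {K : Type*} [Field K]

/-- the standard alternating form: `Bst b_a b_{ng a} = om a` -/
def Bst (v w : ι ⊕ ι → K) : K := ∑ a, om K a * v a * w (ng a)

theorem Bst_def (v w : ι ⊕ ι → K) : Bst v w = ∑ a, om K a * v a * w (ng a) := rfl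

end Cfsg.Agent.Lib.Helper66_S92
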