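import Mathlib
import Cfsg.Agent.Lib.Helper66_S92Calc
import Cfsg.Agent.Lib.Helper81_UceA

set_option autoImplicit false
set_option linter.unusedSectionVars false

/-!
Lifting a Steinberg family of type `C` through a central extension (helper66, for S2092): commutators
of lifts, the torus data, and the notion of an equivariant family of lifts.
-/

namespace Cfsg.Agent.Lib.Helper66_S92

open Cfsg.Agent.Lib.Helper81_UceA

section general

variable {S E : Type*} [Group S] [Group E] {π : E →* S}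

/-- a chosen lift -/
noncomputable def lft (hπ : CExt π) (g : S) : E := Function.surjInv hπ.surj g

theorem map_lft (hπ : CExt π) (g : S) : π (lft hπ g) = g := Function.surjInv_eq hπ.surj g

/-- the commutator of lifts; it does not depend on the lifts -/
noncomputable def brk (hπ : CExt π) (g h : S) : E :=
  lft hπ g * lft hπ h * (lft hπ g)⁻¹ * (lft hπ h)⁻¹

theorem brk_eq (hπ : CExt π) (a b : E) : a * b * a⁻¹ * b⁻¹ = brk hπ (π a) (π b) :=
  hπ.commutator_eq (map_lft hπ (π a)).symm (map_lft hπ (π b)).symm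

theorem brk_eq' (hπ : CExt π) {a b : E} {g h : S} (ha : π a = g) (hb : π b = h) :
    a * b * a⁻¹ * b⁻¹ = brk hπ g h := by
  subst ha hb
  exact brk_eq hπ a b

theorem map_brk (hπ : CExt π) (g h : S) : π (brk hπ g h) = g * h * g⁻¹ * h⁻¹ := by
  unfold brk
  simp only [map_mul, map_inv, map_lft]

theorem conj_brk (hπ : CExt π) (e : E) (g h : S) :
    e * brk hπ g h * e⁻¹ = brk hπ (π e * g * (π e)⁻¹) (π e * h * (π e)⁻¹) := by
  have h1 : π (e * lft hπ g * e⁻¹) = π e * g * (π e)⁻¹ := by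
    simp only [map_mul, map_inv, map_lft]
  have h2 : π (e * lft hπ h * e⁻¹) = π e * h * (π e)⁻¹ := by
    simp only [map_mul, map_inv, map_lft]
  rw [← brk_eq' hπ h1 h2]
  unfold brk
  group

/-- the kernel is central -/
theorem ker_comm (hπ : CExt π) {z : E} (hz : π z = 1) (e : E) : z * e = e * z :=
  hπ.comm_of_ker hz e

theorem brk_ker (hπ : CExt π) {g h : S} (hgh : g * h = h * g) : π (brk hπ g h) = 1 := by
  rw [map_brk, hgh]
  group

theorem brk_mul_right (hπ : CExt π) (g h₁ h₂ : S) :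
    brk hπ g (h₁ * h₂) = brk hπ g h₁ * (lft hπ h₁ * brk hπ g h₂ * (lft hπ h₁)⁻¹) := by
  have h1 : π (lft hπ h₁ * lft hπ h₂) = h₁ * h₂ := by
    simp only [map_mul, map_lft]
  rw [← brk_eq' hπ (map_lft hπ g) h1]
  unfold brk
  group

theorem brk_mul_left (hπ : CExt π) (g₁ g₂ h : S) :
    brk hπ (g₁ * g₂) h = (lft hπ g₁ * brk hπ g₂ h * (lft hπ g₁)⁻¹) * brk hπ g₁ h := by
  have h1 : π (lft hπ g₁ * lft hπ g₂) = g₁ * g₂ := by
    simp only [map_mul, map_lft]
  rw [← brk_eq' hπ h1 (map_lft hπ h)]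
  unfold brk
  group

theorem brk_inv (hπ : CExt π) (g h : S) : (brk hπ g h)⁻¹ = brk hπ h g := by
  unfold brk
  group

theorem brk_self (hπ : CExt π) (g : S) : brk hπ g g = 1 := by
  unfold brk
  group

/-- an element commuting with `a` and `b` commutes with their commutator -/
theorem commute_comm {x a b : E} (ha : x * a = a * x) (hb : x * b = b * x) :
    x * (a * b * a⁻¹ * b⁻¹) = (a * b * a⁻¹ * b⁻¹) * x := by
  have ha' : x * a⁻¹ = a⁻¹ * x := by
    have : a⁻¹ * (x * a) * a⁻¹ = a⁻¹ * (a * x) * a⁻¹ := by rw [ha]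
    simpa [mul_assoc] using this.symm
  have hb' : x * b⁻¹ = b⁻¹ * x := by
    have : b⁻¹ * (x * b) * b⁻¹ = b⁻¹ * (b * x) * b⁻¹ := by rw [hb]
    simpa [mul_assoc] using this.symm
  calc x * (a * b * a⁻¹ * b⁻¹) = (x * a) * b * a⁻¹ * b⁻¹ := by group
    _ = a * (x * b) * a⁻¹ * b⁻¹ := by rw [ha]; group
    _ = a * b * (x * a⁻¹) * b⁻¹ := by rw [hb]; group
    _ = a * b * a⁻¹ * (x * b⁻¹) := by rw [ha']; group
    _ = (a * b * a⁻¹ * b⁻¹) * x := by rw [hb']; group

end general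

section family

variable {ι : Type*} [DecidableEq ι] {K : Type*} [Field K] {S E : Type*} [Group S] [Group E]

/-- the index of the hyperbolic pair of `a` -/
def idx (a : ι ⊕ ι) : ι := Sum.elim id id a

/-- the torus data for a family of root elements -/
structure TorusC (XM : ι ⊕ ι → ι ⊕ ι → K → S) where
  T : Subgroup S
  chi : S → ι ⊕ ι → K
  chi_ne : ∀ h ∈ T, ∀ d, chi h d ≠ 0
  chi_ng : ∀ h ∈ T, ∀ d, chi h (ng d) = (chi h d)⁻¹
  conj : ∀ h ∈ T, ∀ a c t, h * XM a c t * h⁻¹ = XM a c (chi h a * chi h c * t)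
  comm : ∀ h ∈ T, ∀ k ∈ T, h * k = k * h
  rich : ∀ χ : ι → Kˣ, ∃ h ∈ T, ∀ i, chi h (Sum.inl i) = (χ i : K)
  weyl : ∀ a c : ι ⊕ ι, c ≠ ng a → ∀ s : K, s ≠ 0 → ∀ h ∈ T,
    WC XM a c s * h * (WC XM a c s)⁻¹ ∈ T ∧
      ∀ d, chi (WC XM a c s * h * (WC XM a c s)⁻¹) (sgC a c d) = chi h d

/-- lifts of commuting root elements (and of elements of one root subgroup) commute -/
def LiftComm (π : E →* S) (XM : ι ⊕ ι → ι ⊕ ι → K → S) : Prop :=
  ∀ (a c d e : ι ⊕ ι) (t u : K) (x y : E), d ≠ ng a → d ≠ ng c → e ≠ ng a → e ≠ ng c →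
    π x = XM a c t → π y = XM d e u → x * y = y * x

/-- an equivariant family of lifts of the root elements -/
structure LiftFam (π : E →* S) (XM : ι ⊕ ι → ι ⊕ ι → K → S) (Y : ι ⊕ ι → ι ⊕ ι → K → E) :
    Prop where
  lift : ∀ a c t, π (Y a c t) = XM a c t
  add : ∀ a c t u, Y a c t * Y a c u = Y a c (t + u)
  symm : ∀ a c t, Y a c t = Y c a t
  opp : ∀ a t, Y a (ng a) t = 1
  weyl : ∀ p r : ι ⊕ ι, r ≠ ng p → ∀ s : K, s ≠ 0 → ∀ e : E, π e = WC XM p r s → ∀ a c t,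
    e * Y a c t * e⁻¹ = Y (sgC p r a) (sgC p r c) (muC p r s a * muC p r s c * t)

/-- equivariance under the torus -/
def TorEq (π : E →* S) {XM : ι ⊕ ι → ι ⊕ ι → K → S} (Tor : TorusC XM)
    (Y : ι ⊕ ι → ι ⊕ ι → K → E) : Prop :=
  ∀ e : E, π e ∈ Tor.T → ∀ a c t,
    e * Y a c t * e⁻¹ = Y a c (Tor.chi (π e) a * Tor.chi (π e) c * t)

end family

end Cfsg.Agent.Lib.Helper66_S92
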