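import Mathlib
import Cfsg.Agent.Lib.Helper66_S92LiftDefs
import Cfsg.Agent.Lib.Helper66_S92Lift2Defs
import Cfsg.Agent.Lib.Helper66_S92Rank

set_option autoImplicit false
set_option linter.unusedVariables false
set_option linter.unusedSectionVars false

/-!
Package L2_BST of helper66's `s92_packages` market (S2092, wave 2b): the standard alternating form
`Bst` is invariant under the model action `xact` of the root elements, hence under any action `ρ`
with `IsAct XM ρ` of a group generated by the `XM a c t`; conjugates of long root elements act as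
transvections.  Auxiliary lemmas live in `Cfsg.Agent.Lib.Helper16_S92_L2_BST`; the package theorems
are in helper66's namespace under the names of the stubs.
-/

namespace Cfsg.Agent.Lib.Helper16_S92_L2_BST

open Cfsg.Agent.Lib.Helper66_S92

variable {ι : Type*} [DecidableEq ι] [Fintype ι] {K : Type*} [Field K]

theorem Bst_sub_left (v v' w : ι ⊕ ι → K) : Bst (v - v') w = Bst v w - Bst v' w := by
  unfold Bst
  rw [← Finset.sum_sub_distrib]
  refine Finset.sum_congr rfl fun a _ => ?_
  simp only [Pi.sub_apply]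
  ring

theorem Bst_sub_right (v w w' : ι ⊕ ι → K) : Bst v (w - w') = Bst v w - Bst v w' := by
  unfold Bst
  rw [← Finset.sum_sub_distrib]
  refine Finset.sum_congr rfl fun a _ => ?_
  simp only [Pi.sub_apply]
  ring

theorem Bst_add_left (v v' w : ι ⊕ ι → K) : Bst (v + v') w = Bst v w + Bst v' w := by
  unfold Bst
  rw [← Finset.sum_add_distrib]
  refine Finset.sum_congr rfl fun a _ => ?_
  simp only [Pi.add_apply]
  ring

theorem Bst_smul_left (x : K) (v w : ι ⊕ ι → K) : Bst (x • v) w = x * Bst v w := by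
  unfold Bst
  rw [Finset.mul_sum]
  refine Finset.sum_congr rfl fun a _ => ?_
  simp only [Pi.smul_apply, smul_eq_mul]
  ring

theorem Bst_single_right (v : ι ⊕ ι → K) (a : ι ⊕ ι) (x : K) :
    Bst v (Pi.single a x) = -(om K a * v (ng a) * x) := by
  unfold Bst
  rw [Finset.sum_eq_single (ng a)]
  · rw [ng_ng, Pi.single_eq_same, om_ng]
    ring
  · intro d _ hd
    have : ng d ≠ a := fun h => hd ((ng_eq_iff d a).mp h)
    rw [Pi.single_eq_of_ne this, mul_zero]
  · intro h
    exact absurd (Finset.mem_univ _) h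

theorem Bst_single_left (w : ι ⊕ ι → K) (a : ι ⊕ ι) (x : K) :
    Bst (Pi.single a x) w = om K a * x * w (ng a) := by
  unfold Bst
  rw [Finset.sum_eq_single a]
  · rw [Pi.single_eq_same]
  · intro d _ hd
    rw [Pi.single_eq_of_ne hd, mul_zero, zero_mul]
  · intro h
    exact absurd (Finset.mem_univ _) h

theorem Bst_single_single (a c : ι ⊕ ι) (hc : c ≠ ng a) (x y : K) :
    Bst (Pi.single a x : ι ⊕ ι → K) (Pi.single c y) = 0 := by
  rw [Bst_single_left, Pi.single_eq_of_ne hc.symm, mul_zero]

theorem Bst_expand (a c : ι ⊕ ι) (h1 : c ≠ ng a) (h3 : a ≠ ng c) (x y x' y' : K)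
    (v w : ι ⊕ ι → K) :
    Bst (v - Pi.single c x - Pi.single a y) (w - Pi.single c x' - Pi.single a y') =
      Bst v w + om K c * v (ng c) * x' + om K a * v (ng a) * y' - om K c * x * w (ng c)
        - om K a * y * w (ng a) := by
  rw [Bst_sub_left, Bst_sub_left]
  simp only [Bst_sub_right]
  rw [Bst_single_single c c (ne_ng c), Bst_single_single c a h3, Bst_single_single a c h1,
    Bst_single_single a a (ne_ng a), Bst_single_left, Bst_single_left, Bst_single_right,
    Bst_single_right]
  ring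

/-- the long root elements act as transvections -/
theorem xact_long (o : ι ⊕ ι) (t : K) (y : ι ⊕ ι → K) :
    xact o o t y = y + (t * Bst y (Pi.single o 1)) • (Pi.single o 1 : ι ⊕ ι → K) := by
  unfold xact
  rw [if_neg (ne_ng o), if_pos rfl, Bst_single_right, sub_eq_add_neg]
  congr 1
  ext d
  by_cases hd : d = o
  · subst hd
    simp only [Pi.neg_apply, Pi.single_eq_same, Pi.smul_apply, smul_eq_mul]
    ring
  · simp only [Pi.neg_apply, Pi.single_eq_of_ne hd, Pi.smul_apply, smul_eq_mul, mul_zero, neg_zero]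

end Cfsg.Agent.Lib.Helper16_S92_L2_BST

namespace Cfsg.Agent.Lib.Helper66_S92

open Cfsg.Agent.Lib.Helper81_UceA Cfsg.Agent.Lib.Helper5_SteinbergA
open Cfsg.Agent.Lib.Helper16_S92_L2_BST

variable {ι : Type*} [DecidableEq ι] [Fintype ι] {K : Type*} [Field K] {S E : Type*} [Group S] [Group E]
  {π : E →* S} {XM : ι ⊕ ι → ι ⊕ ι → K → S}

/-! ## L2_BST -/

theorem xact_Bst (a c : ι ⊕ ι) (t : K) (v w : ι ⊕ ι → K) :
    Bst (xact a c t v) (xact a c t w) = Bst v w := by
  unfold xact
  by_cases h1 : c = ng a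
  · rw [if_pos h1, if_pos h1]
  · rw [if_neg h1, if_neg h1]
    by_cases h2 : a = c
    · rw [if_pos h2, if_pos h2]
      rw [Bst_sub_left, Bst_sub_right, Bst_sub_right, Bst_single_right, Bst_single_left,
        Bst_single_single a a (ne_ng a)]
      ring
    · rw [if_neg h2, if_neg h2]
      have h3 : a ≠ ng c := fun h => h1 (by rw [h, ng_ng])
      rw [Bst_expand a c h1 h3]
      ring

theorem act_Bst (ρ : S →* Module.End K (ι ⊕ ι → K)) (hρ : IsAct XM ρ)
    (hgen : Subgroup.closure {g | ∃ a c t, g = XM a c t} = ⊤)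
    (g : S) (v w : ι ⊕ ι → K) : Bst (ρ g v) (ρ g w) = Bst v w := by
  have hmem : g ∈ Subgroup.closure {g | ∃ a c t, g = XM a c t} := by
    rw [hgen]
    exact Subgroup.mem_top g
  revert v w
  induction hmem using Subgroup.closure_induction with
  | mem x hx =>
    obtain ⟨a, c, t, rfl⟩ := hx
    intro v w
    rw [hρ, hρ, xact_Bst]
  | one =>
    intro v w
    rw [map_one]
    rfl
  | mul x y _ _ hx hy =>
    intro v w
    rw [map_mul, Module.End.mul_apply, Module.End.mul_apply, hx, hy]
  | inv x _ hx =>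
    intro v w
    have h1 : ρ x (ρ x⁻¹ v) = v := by
      rw [← Module.End.mul_apply, ← map_mul, mul_inv_cancel, map_one]
      rfl
    have h2 : ρ x (ρ x⁻¹ w) = w := by
      rw [← Module.End.mul_apply, ← map_mul, mul_inv_cancel, map_one]
      rfl
    rw [← hx (ρ x⁻¹ v) (ρ x⁻¹ w), h1, h2]

theorem act_conj_long (ρ : S →* Module.End K (ι ⊕ ι → K)) (hρ : IsAct XM ρ)
    (hgen : Subgroup.closure {g | ∃ a c t, g = XM a c t} = ⊤)
    (g : S) (o : ι ⊕ ι) (t : K) (x : ι ⊕ ι → K) :
    ρ (g * XM o o t * g⁻¹) x =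
      x + (t * Bst x (ρ g (Pi.single o 1))) • ρ g (Pi.single o 1) := by
  have h1 : ρ g (ρ g⁻¹ x) = x := by
    rw [← Module.End.mul_apply, ← map_mul, mul_inv_cancel, map_one]
    rfl
  have h2 : Bst (ρ g⁻¹ x) (Pi.single o 1) = Bst x (ρ g (Pi.single o 1)) := by
    rw [← act_Bst ρ hρ hgen g (ρ g⁻¹ x) (Pi.single o 1), h1]
  rw [map_mul, map_mul, Module.End.mul_apply, Module.End.mul_apply, hρ, xact_long, map_add,
    map_smul, h1, h2]

end Cfsg.Agent.Lib.Helper66_S92
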