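import Mathlib
import Cfsg.Agent.Lib.Helper66_S92LiftDefs
import Cfsg.Agent.Lib.Helper66_S92Lift2Defs
import Cfsg.Agent.Lib.Helper66_S92Rank

set_option autoImplicit false
set_option linter.unusedVariables false
set_option linter.unusedSectionVars false

/-!
Package L2_TRANS of helper66's `s92_packages` market (S2092, wave 2b): a group acting on
`ι ⊕ ι → K` through root elements as in the model (`IsAct XM ρ`) is transitive on the nonzero vectors
(pivot argument).  Auxiliary lemmas live in `Cfsg.Agent.Lib.Helper16_S92_L2_TRANS`; the package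
theorems are in helper66's namespace under the names of the stubs.
-/

namespace Cfsg.Agent.Lib.Helper16_S92_L2_TRANS

open Cfsg.Agent.Lib.Helper66_S92

variable {ι : Type*} [DecidableEq ι] {K : Type*} [Field K]

/-- the short root element `X (ng p) c t`, `c ∉ {p, ng p}` -/
theorem xact_short (p c : ι ⊕ ι) (hcp : c ≠ p) (hcn : c ≠ ng p) (t : K) (u : ι ⊕ ι → K) :
    xact (ng p) c t u =
      u - Pi.single c (t * om K (ng p) * u p) - Pi.single (ng p) (t * om K c * u (ng c)) := by
  unfold xact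
  rw [if_neg (by rw [ng_ng]; exact hcp), if_neg (fun h => hcn h.symm), ng_ng]

/-- the long root element `X (ng p) (ng p) t` -/
theorem xact_long' (p : ι ⊕ ι) (t : K) (u : ι ⊕ ι → K) :
    xact (ng p) (ng p) t u = u - Pi.single (ng p) (t * om K (ng p) * u p) := by
  unfold xact
  rw [if_neg (ne_ng (ng p)), if_pos rfl, ng_ng]

end Cfsg.Agent.Lib.Helper16_S92_L2_TRANS

namespace Cfsg.Agent.Lib.Helper66_S92

open Cfsg.Agent.Lib.Helper81_UceA Cfsg.Agent.Lib.Helper5_SteinbergA
open Cfsg.Agent.Lib.Helper16_S92_L2_TRANS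

variable {ι : Type*} [DecidableEq ι] [Fintype ι] {K : Type*} [Field K] {S E : Type*} [Group S] [Group E]
  {π : E →* S} {XM : ι ⊕ ι → ι ⊕ ι → K → S}

/-! ## L2_TRANS -/

/-- with a pivot coordinate `p`, every vector with the same `p` coordinate can be reached -/
theorem act_reach (ρ : S →* Module.End K (ι ⊕ ι → K)) (hρ : IsAct XM ρ)
    (p : ι ⊕ ι) (v w : ι ⊕ ι → K) (hv : v p ≠ 0) (hw : w p = v p) :
    ∃ g : S, ρ g v = w := by
  have hom : om K (ng p) ≠ 0 := om_ne_zero (ng p)
  have hpn : p ≠ ng p := ne_ng p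
  -- step 1: all coordinates outside `{p, ng p}`
  have hstep : ∀ s : Finset (ι ⊕ ι), p ∉ s → ng p ∉ s →
      ∃ g : S, (ρ g v) p = v p ∧ ∀ c ∈ s, (ρ g v) c = w c := by
    intro s
    induction s using Finset.induction_on with
    | empty =>
      intro _ _
      refine ⟨1, ?_, fun c hc => absurd hc (Finset.notMem_empty c)⟩
      rw [map_one]
      rfl
    | insert c s hcs ih =>
      intro hp hn
      have hcp : c ≠ p := fun h => hp (by rw [← h]; exact Finset.mem_insert_self c s)
      have hcn : c ≠ ng p := fun h => hn (by rw [← h]; exact Finset.mem_insert_self c s)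
      obtain ⟨g₀, h0p, h0s⟩ := ih (fun h => hp (Finset.mem_insert_of_mem h))
        (fun h => hn (Finset.mem_insert_of_mem h))
      obtain ⟨u, hu⟩ : ∃ u : ι ⊕ ι → K, u = ρ g₀ v := ⟨_, rfl⟩
      rw [← hu] at h0p h0s
      have hup : u p ≠ 0 := by rw [h0p]; exact hv
      obtain ⟨t, ht⟩ : ∃ t : K, t = (u c - w c) / (om K (ng p) * u p) := ⟨_, rfl⟩
      refine ⟨XM (ng p) c t * g₀, ?_, ?_⟩
      · rw [map_mul, Module.End.mul_apply, ← hu, hρ, xact_short p c hcp hcn]
        simp only [Pi.sub_apply, Pi.single_eq_of_ne hcp.symm, Pi.single_eq_of_ne hpn, sub_zero]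
        exact h0p
      · intro c' hc'
        rw [map_mul, Module.End.mul_apply, ← hu, hρ, xact_short p c hcp hcn]
        rcases Finset.mem_insert.mp hc' with rfl | hc's
        · simp only [Pi.sub_apply, Pi.single_eq_same, Pi.single_eq_of_ne hcn, sub_zero]
          rw [ht]
          field_simp
          ring
        · have h1 : c' ≠ c := fun h => hcs (by rw [← h]; exact hc's)
          have h2 : c' ≠ ng p := fun h => hn (by rw [← h]; exact Finset.mem_insert_of_mem hc's)
          simp only [Pi.sub_apply, Pi.single_eq_of_ne h1, Pi.single_eq_of_ne h2, sub_zero]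
          exact h0s c' hc's
  obtain ⟨g₁, h1p, h1s⟩ := hstep ((Finset.univ.erase p).erase (ng p))
    (fun h => (Finset.notMem_erase p _) (Finset.mem_of_mem_erase h))
    (Finset.notMem_erase (ng p) _)
  obtain ⟨u, hu⟩ : ∃ u : ι ⊕ ι → K, u = ρ g₁ v := ⟨_, rfl⟩
  rw [← hu] at h1p h1s
  have hup : u p ≠ 0 := by rw [h1p]; exact hv
  obtain ⟨t, ht⟩ : ∃ t : K, t = (u (ng p) - w (ng p)) / (om K (ng p) * u p) := ⟨_, rfl⟩
  refine ⟨XM (ng p) (ng p) t * g₁, ?_⟩
  rw [map_mul, Module.End.mul_apply, ← hu, hρ, xact_long']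
  funext d
  by_cases hd : d = ng p
  · subst hd
    simp only [Pi.sub_apply, Pi.single_eq_same]
    rw [ht]
    field_simp
    ring
  · simp only [Pi.sub_apply, Pi.single_eq_of_ne hd, sub_zero]
    by_cases hdp : d = p
    · rw [hdp, h1p, hw]
    · exact h1s d (Finset.mem_erase.mpr ⟨hd, Finset.mem_erase.mpr ⟨hdp, Finset.mem_univ d⟩⟩)

theorem act_trans (ρ : S →* Module.End K (ι ⊕ ι → K)) (hρ : IsAct XM ρ)
    (o : ι ⊕ ι) (v : ι ⊕ ι → K) (hv : v ≠ 0) :
    ∃ g : S, ρ g (Pi.single o 1) = v := by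
  obtain ⟨p, hp⟩ : ∃ p, v p ≠ 0 := by
    by_contra hc
    push Not at hc
    exact hv (funext hc)
  by_cases hpo : p = o
  · subst hpo
    have hq : ng p ≠ p := ng_ne p
    -- three moves
    obtain ⟨g₁, h1⟩ := act_reach ρ hρ p (Pi.single p 1) (Pi.single p 1 + Pi.single (ng p) 1)
      (by rw [Pi.single_eq_same]; exact one_ne_zero)
      (by simp only [Pi.add_apply, Pi.single_eq_same, Pi.single_eq_of_ne hq.symm, add_zero])
    obtain ⟨g₂, h2⟩ := act_reach ρ hρ (ng p) (Pi.single p 1 + Pi.single (ng p) 1)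
      (Pi.single p (v p) + Pi.single (ng p) 1)
      (by
        simp only [Pi.add_apply, Pi.single_eq_same, Pi.single_eq_of_ne hq, zero_add]
        exact one_ne_zero)
      (by simp only [Pi.add_apply, Pi.single_eq_same, Pi.single_eq_of_ne hq, zero_add])
    obtain ⟨g₃, h3⟩ := act_reach ρ hρ p (Pi.single p (v p) + Pi.single (ng p) 1) v
      (by
        simp only [Pi.add_apply, Pi.single_eq_same, Pi.single_eq_of_ne hq.symm, add_zero]
        exact hp)
      (by simp only [Pi.add_apply, Pi.single_eq_same, Pi.single_eq_of_ne hq.symm, add_zero])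
    refine ⟨g₃ * g₂ * g₁, ?_⟩
    rw [map_mul, map_mul, Module.End.mul_apply, Module.End.mul_apply, h1, h2, h3]
  · -- two moves
    have hop : o ≠ p := fun h => hpo h.symm
    obtain ⟨g₁, h1⟩ := act_reach ρ hρ o (Pi.single o 1) (Pi.single o 1 + Pi.single p (v p))
      (by rw [Pi.single_eq_same]; exact one_ne_zero)
      (by simp only [Pi.add_apply, Pi.single_eq_same, Pi.single_eq_of_ne hop, add_zero])
    obtain ⟨g₂, h2⟩ := act_reach ρ hρ p (Pi.single o 1 + Pi.single p (v p)) v
      (by
        simp only [Pi.add_apply, Pi.single_eq_same, Pi.single_eq_of_ne hpo, zero_add]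
        exact hp)
      (by simp only [Pi.add_apply, Pi.single_eq_same, Pi.single_eq_of_ne hpo, zero_add])
    refine ⟨g₂ * g₁, ?_⟩
    rw [map_mul, Module.End.mul_apply, h1, h2]

end Cfsg.Agent.Lib.Helper66_S92
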