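import Mathlib
import Cfsg.Agent.Lib.Helper68_StOoDefs

/-!
Helper22_S94ODefs: S2094 (helper66 coordinator), MODEL block, generation of `Ω_{2m+1}(F)` by the root elements (helper22):
the shape `Shp` of the matrices of the unipotent radical of the stabiliser of `e_0`: column `e_0` is the identity column and
the rows `x ≠ e_0` are identity rows except in the column `f_0`, where the entry is `c x` (on top of the identity).
helper22.
-/

set_option autoImplicit false

namespace Cfsg.Agent.Lib.Helper22_S94O

open Matrix Cfsg.Agent.Lib.Helper68_StOoDefs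

variable {m : ℕ} {F : Type*} [Field F]

/-- the shape of the matrices of the unipotent radical of the stabiliser of `e_0` -/
structure Shp (hm : 0 < m) (M : Matrix (I m) (I m) F) (c : I m → F) : Prop where
  row : ∀ x, x ≠ ie ⟨0, hm⟩ → ∀ y,
    M x y = (1 : Matrix (I m) (I m) F) x y + if y = jf ⟨0, hm⟩ then c x else 0
  col : ∀ x, M x (ie ⟨0, hm⟩) = (1 : Matrix (I m) (I m) F) x (ie ⟨0, hm⟩)
  cf : c (jf ⟨0, hm⟩) = 0

end Cfsg.Agent.Lib.Helper22_S94O
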