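import Mathlib
import Cfsg.Agent.Lib.Helper68_StOoDefs
import Cfsg.Agent.Lib.Helper22_S94ODefs

/-!
# s94o_packages O-ROOT (S2094 MODEL block, architect helper22)

The root elements `lxM y f_0 s` and `sxM e_0 s` of the unipotent radical have the shape `Shp`.
-/

set_option autoImplicit false
set_option linter.unusedSectionVars false
set_option linter.unusedVariables false

namespace Cfsg.Agent.Lib.Helper16_S94O_ROOT

open Matrix Cfsg.Agent.Lib.Helper68_MatGrp Cfsg.Agent.Lib.Helper68_StOoDefs Cfsg.Agent.Lib.Helper22_S94O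

variable {m : ℕ} {F : Type*} [Field F] [Fintype F] [NeZero (2 : F)]

theorem shp_lxM (hm : 0 < m) {y : I m} (hy : y ≠ jf ⟨0, hm⟩) (s : F) :
    Shp hm (lxM y (jf ⟨0, hm⟩) s) (Pi.single y s) := by
  have hfe : (jf ⟨0, hm⟩ : I m) ≠ ie ⟨0, hm⟩ := fun h => ie_ne_jf _ _ h.symm
  refine ⟨?_, ?_, ?_⟩
  · intro x hx z
    have hx' : ¬ (ie ⟨0, hm⟩ : I m) = x := fun h => hx h.symm
    unfold lxM
    simp only [Matrix.sub_apply, Matrix.add_apply, Matrix.single_apply, op_jf, Pi.single_apply]
    by_cases hz : z = jf ⟨0, hm⟩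
    · subst hz
      by_cases hxy : x = y
      · subst hxy
        simp [hx']
      · have : ¬ y = x := fun h => hxy h.symm
        simp [hx', hxy, this]
    · have : ¬ (jf ⟨0, hm⟩ : I m) = z := fun h => hz h.symm
      simp [hx', hz, this]
  · intro x
    unfold lxM
    simp only [Matrix.sub_apply, Matrix.add_apply, Matrix.single_apply, op_jf]
    have h1 : ¬ (op y : I m) = ie ⟨0, hm⟩ := by
      intro h
      apply hy
      have := congrArg op h
      simpa using this
    simp [hfe, h1]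
  · simp [Ne.symm hy]

theorem shp_sxM (hm : 0 < m) (s : F) :
    Shp hm (sxM (ie ⟨0, hm⟩) s : Matrix (I m) (I m) F) (Pi.single z0 s) := by
  have hfe : (jf ⟨0, hm⟩ : I m) ≠ ie ⟨0, hm⟩ := fun h => ie_ne_jf _ _ h.symm
  have hze : (z0 : I m) ≠ ie ⟨0, hm⟩ := fun h => ie_ne_z0 _ h.symm
  have hfz : (jf ⟨0, hm⟩ : I m) ≠ z0 := jf_ne_z0 _
  refine ⟨?_, ?_, ?_⟩
  · intro x hx z
    have hx' : ¬ (ie ⟨0, hm⟩ : I m) = x := fun h => hx h.symm
    unfold sxM
    simp only [Matrix.sub_apply, Matrix.add_apply, Matrix.single_apply, op_ie, Pi.single_apply]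
    by_cases hz : z = jf ⟨0, hm⟩
    · subst hz
      by_cases hxz : x = z0
      · subst hxz
        simp [hx']
      · have : ¬ (z0 : I m) = x := fun h => hxz h.symm
        simp [hx', hxz, this]
    · have : ¬ (jf ⟨0, hm⟩ : I m) = z := fun h => hz h.symm
      simp [hx', hz, this]
  · intro x
    unfold sxM
    simp only [Matrix.sub_apply, Matrix.add_apply, Matrix.single_apply, op_ie]
    simp [hfe, hze]
  · simp [hfz]

end Cfsg.Agent.Lib.Helper16_S94O_ROOT
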