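import Mathlib
import Cfsg.Prelude.Def_Blocks
import Cfsg.Agent.S4441
import Cfsg.Agent.Lib.Helper23_ZStarB
import Cfsg.Agent.Lib.Helper30_KleinBlock
import Cfsg.Agent.Lib.Helper17_Sylow
import Cfsg.Agent.Lib.Helper74_CharTools
import Cfsg.Agent.Lib.Helper77_BlockBasics
import Cfsg.Agent.Lib.Helper80_CharBasic
import Cfsg.Agent.Lib.Helper16_SelfCent

/-!
# S0983 toolbox: Brauer's defect-one data for a simple group (helper16)

`brauer_data`: `G` finite, `p` odd, `|P| = p`, `e = |N(P) : C(P)| ≠ 1`.  Extraction of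
`Cfsg.Agent.S4441.result` as `Finset`s: the `e` non-exceptional characters `X` of the principal
block with signs, one exceptional character `θ` (there are `t = (p-1)/e` of them, all of the same
degree), the degree congruences, the relation `ε θ = ∑_X ε_χ χ` on `p`-regular elements, the
inequality `∑_X χ(1)² + t θ(1)² ≤ |G|`, and (when `C(P) = P`) the fact that every irreducible
character of degree prime to `p` lies in `X` or has the degree of `θ`.

The principal character lies in `X` with sign `+1`, except possibly when `e = p - 1` (`t = 1`),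
where it may be the "exceptional" one (then `ε = -1`).
-/

set_option autoImplicit false
open Cfsg Cfsg.Agent.Lib.Helper80_CharBasic

namespace Cfsg.Agent.Lib.Helper16_SO_Brauer

theorem not_comm_of_not_isMulCommutative {G : Type*} [Group G] (hG : ¬ IsMulCommutative G) :
    ¬ ∀ a b : G, a * b = b * a := fun h => hG ⟨⟨h⟩⟩

theorem charDegree_oneIrr (G : Type*) [Group G] :
    charDegree ((oneIrr G : IrrCharacter G) : G → ℂ) = 1 := by
  show ⌊((1 : ℂ)).re⌋₊ = 1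
  simp

/-- A sign congruent to `1` modulo an odd prime is `1`. -/
theorem sign_eq_one_of_modEq {p : ℕ} (hp : p.Prime) (hp2 : p ≠ 2) (s : ℤ) (hs : s = 1 ∨ s = -1)
    (h : ((1 : ℕ) : ℤ) ≡ s [ZMOD p]) : s = 1 := by
  rcases hs with h1 | h1
  · exact h1
  · exfalso
    rw [h1] at h
    have h4 := Int.modEq_iff_dvd.1 h
    have h5 : (p : ℤ) ∣ 2 := by
      have : (-1 : ℤ) - ((1 : ℕ) : ℤ) = -2 := by norm_num
      rw [this] at h4
      exact dvd_neg.1 h4
    have h6 : (p : ℤ) ≤ 2 := Int.le_of_dvd (by norm_num) h5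
    have h7 : 2 ≤ p := hp.two_le
    omega

theorem brauer_data {G : Type*} [Group G] [Finite G] {p : ℕ} [Fact p.Prime] (hp2 : p ≠ 2)
    (P : Sylow p G) (hP : Nat.card P = p) (e : ℕ)
    (he : (Subgroup.centralizer ((P : Subgroup G) : Set G)).relIndex
      (Subgroup.normalizer ((P : Subgroup G) : Set G)) = e) (he1 : e ≠ 1) :
    ∃ (X : Finset (Cfsg.IrrCharacter G)) (εX : Cfsg.IrrCharacter G → ℤ)
      (θ : Cfsg.IrrCharacter G) (ε : ℤ),
      X.card = e ∧ θ ∉ X ∧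
      ((oneIrr G ∈ X ∧ εX (oneIrr G) = 1) ∨ (θ = oneIrr G ∧ ε = -1 ∧ e = p - 1)) ∧
      (∀ χ ∈ X, (εX χ = 1 ∨ εX χ = -1) ∧
        ((Cfsg.charDegree (χ : G → ℂ) : ℤ) ≡ εX χ [ZMOD p]) ∧
        ∀ x : G, x ∈ (P : Subgroup G) → x ≠ 1 → ∀ y : G,
          y ∈ Subgroup.centralizer ((P : Subgroup G) : Set G) → ¬ p ∣ orderOf y →
          (χ : G → ℂ) (x * y) = (εX χ : ℂ)) ∧
      (ε = 1 ∨ ε = -1) ∧
      ((Cfsg.charDegree (θ : G → ℂ) : ℤ) ≡ ε * (e : ℤ) [ZMOD p]) ∧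
      ε * (Cfsg.charDegree (θ : G → ℂ) : ℤ) =
        ∑ χ ∈ X, εX χ * (Cfsg.charDegree (χ : G → ℂ) : ℤ) ∧
      (∀ g : G, ¬ p ∣ orderOf g →
        (ε : ℂ) * (θ : G → ℂ) g = ∑ χ ∈ X, (εX χ : ℂ) * (χ : G → ℂ) g) ∧
      ∑ χ ∈ X, Cfsg.charDegree (χ : G → ℂ) ^ 2 +
        ((p - 1) / e) * Cfsg.charDegree (θ : G → ℂ) ^ 2 ≤ Nat.card G ∧
      (Subgroup.centralizer ((P : Subgroup G) : Set G) = (P : Subgroup G) →
        ∀ χ : Cfsg.IrrCharacter G, ¬ p ∣ Cfsg.charDegree (χ : G → ℂ) →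
          χ ∈ X ∨ Cfsg.charDegree (χ : G → ℂ) = Cfsg.charDegree (θ : G → ℂ)) := by
  classical
  let _ : Fintype G := Fintype.ofFinite G
  let _ : Fintype (IrrCharacter G) := Fintype.ofFinite _
  have hp : p.Prime := Fact.out
  obtain ⟨M, hM⟩ := Cfsg.Agent.Lib.Helper23_ZStarB.exists_pModular p hp
  obtain ⟨X₀, Y₀, hB, hdisj, hcX, hcY, εX, ε, hX, hε, hYdeg, hYagree, hrel⟩ :=
    Cfsg.Agent.S4441.result p M hM hp2 P hP e he
  have hdeg1 := charDegree_oneIrr G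
  -- `e ∣ p - 1`
  have hedvd : e ∣ p - 1 := by
    rw [← he]
    exact Cfsg.Agent.Lib.Helper17_Sylow.relIndex_centralizer_normalizer_dvd_pred
      (P : Subgroup G) hP
  have hp1 : 0 < p - 1 := by have := hp.two_le; omega
  have hele : e ≤ p - 1 := Nat.le_of_dvd hp1 hedvd
  have he0 : 0 < e := Nat.pos_of_dvd_of_pos hedvd hp1
  have htpos : 0 < (p - 1) / e := Nat.div_pos hele he0
  -- finsets
  set X' : Finset (IrrCharacter G) := Finset.univ.filter (fun χ => χ ∈ X₀) with hX'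
  set Y' : Finset (IrrCharacter G) := Finset.univ.filter (fun χ => χ ∈ Y₀) with hY'
  have hXs : X₀ = (X' : Set (IrrCharacter G)) := by
    ext χ; simp [hX']
  have hYs : Y₀ = (Y' : Set (IrrCharacter G)) := by
    ext χ; simp [hY']
  have hmX : ∀ χ, χ ∈ X' ↔ χ ∈ X₀ := by
    intro χ; simp [hX']
  have hmY : ∀ χ, χ ∈ Y' ↔ χ ∈ Y₀ := by
    intro χ; simp [hY']
  have hXcard : X'.card = e := by
    rw [← hcX, hXs, Nat.card_coe_set_eq, Set.ncard_coe_finset]
  have hYcard : Y'.card = (p - 1) / e := by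
    rw [← hcY, hYs, Nat.card_coe_set_eq, Set.ncard_coe_finset]
  have hdisj' : Disjoint X' Y' := by
    rw [Finset.disjoint_left]
    intro χ h1 h2
    exact Set.disjoint_left.1 hdisj ((hmX χ).1 h1) ((hmY χ).1 h2)
  have h1reg : ¬ p ∣ orderOf (1 : G) := by
    rw [orderOf_one]
    exact fun h => hp.one_lt.ne' (Nat.dvd_one.mp h)
  have h1B : oneIrr G ∈ X₀ ∪ Y₀ := by
    rw [← hB]
    exact Cfsg.Agent.Lib.Helper30_KleinBlock.oneIrr_mem hM
  -- the common degree of `Y`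
  have hYdegeq : ∀ θ ∈ Y₀, ∀ θ' ∈ Y₀,
      charDegree (θ : G → ℂ) = charDegree (θ' : G → ℂ) := by
    intro θ hθ θ' hθ'
    have h := hYagree θ hθ θ' hθ' 1 h1reg
    rw [Cfsg.Agent.Lib.Helper77_BlockBasics.apply_one_eq_charDegree θ,
      Cfsg.Agent.Lib.Helper77_BlockBasics.apply_one_eq_charDegree θ'] at h
    exact_mod_cast h
  -- the generic conclusion for a chosen `θ ∈ Y₀`
  have key : ∀ θ : IrrCharacter G, θ ∈ Y₀ →
      X'.card = e ∧ θ ∉ X' ∧
      (∀ χ ∈ X', (εX χ = 1 ∨ εX χ = -1) ∧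
        ((Cfsg.charDegree (χ : G → ℂ) : ℤ) ≡ εX χ [ZMOD p]) ∧
        ∀ x : G, x ∈ (P : Subgroup G) → x ≠ 1 → ∀ y : G,
          y ∈ Subgroup.centralizer ((P : Subgroup G) : Set G) → ¬ p ∣ orderOf y →
          (χ : G → ℂ) (x * y) = (εX χ : ℂ)) ∧
      (ε = 1 ∨ ε = -1) ∧
      ((Cfsg.charDegree (θ : G → ℂ) : ℤ) ≡ ε * (e : ℤ) [ZMOD p]) ∧
      ε * (Cfsg.charDegree (θ : G → ℂ) : ℤ) =
        ∑ χ ∈ X', εX χ * (Cfsg.charDegree (χ : G → ℂ) : ℤ) ∧
      (∀ g : G, ¬ p ∣ orderOf g →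
        (ε : ℂ) * (θ : G → ℂ) g = ∑ χ ∈ X', (εX χ : ℂ) * (χ : G → ℂ) g) ∧
      ∑ χ ∈ X', Cfsg.charDegree (χ : G → ℂ) ^ 2 +
        ((p - 1) / e) * Cfsg.charDegree (θ : G → ℂ) ^ 2 ≤ Nat.card G ∧
      (Subgroup.centralizer ((P : Subgroup G) : Set G) = (P : Subgroup G) →
        ∀ χ : Cfsg.IrrCharacter G, ¬ p ∣ Cfsg.charDegree (χ : G → ℂ) →
          χ ∈ X' ∨ Cfsg.charDegree (χ : G → ℂ) = Cfsg.charDegree (θ : G → ℂ)) := by
    intro θ hθ
    have hrelθ : ∀ g : G, ¬ p ∣ orderOf g →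
        (ε : ℂ) * (θ : G → ℂ) g = ∑ χ ∈ X', (εX χ : ℂ) * (χ : G → ℂ) g := by
      intro g hg
      have h3 := hrel θ hθ g hg
      rw [h3, hXs, finsum_mem_coe_finset]
    refine ⟨hXcard, ?_, ?_, hε, hYdeg θ hθ, ?_, hrelθ, ?_, ?_⟩
    · intro h
      exact Set.disjoint_left.1 hdisj ((hmX θ).1 h) hθ
    · intro χ hχ
      exact hX χ ((hmX χ).1 hχ)
    · have hrel1 := hrelθ 1 h1reg
      rw [Cfsg.Agent.Lib.Helper77_BlockBasics.apply_one_eq_charDegree θ] at hrel1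
      have h2 : ((ε * (charDegree (θ : G → ℂ) : ℤ) : ℤ) : ℂ) =
          ((∑ χ ∈ X', εX χ * (charDegree (χ : G → ℂ) : ℤ) : ℤ) : ℂ) := by
        push_cast
        rw [hrel1]
        refine Finset.sum_congr rfl fun χ _ => ?_
        rw [Cfsg.Agent.Lib.Helper77_BlockBasics.apply_one_eq_charDegree χ]
      exact_mod_cast h2
    · -- sum of squares
      have htot := Cfsg.Agent.Lib.Helper74_CharTools.sum_sq_charDegree (G := G)
      have hsub : X' ∪ Y' ⊆ Finset.univ := Finset.subset_univ _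
      have hle : ∑ χ ∈ X' ∪ Y', charDegree (χ : G → ℂ) ^ 2 ≤
          ∑ χ : IrrCharacter G, charDegree (χ : G → ℂ) ^ 2 :=
        Finset.sum_le_sum_of_subset hsub
      rw [Finset.sum_union hdisj', htot] at hle
      have hY2 : ∑ χ ∈ Y', charDegree (χ : G → ℂ) ^ 2 =
          ((p - 1) / e) * charDegree (θ : G → ℂ) ^ 2 := by
        rw [← hYcard, ← smul_eq_mul, ← Finset.sum_const]
        refine Finset.sum_congr rfl fun χ hχ => ?_
        rw [hYdegeq χ ((hmY χ).1 hχ) θ hθ]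
      rw [hY2] at hle
      exact hle
    · intro hC χ hχ
      have hmem := (Cfsg.Agent.Lib.Helper16_SelfCent.mem_principalBlock_iff hM hP hC χ).2 hχ
      rw [hB] at hmem
      rcases hmem with h | h
      · left; exact (hmX χ).2 h
      · right; exact hYdegeq χ h θ hθ
  rcases h1B with h1X | h1Y
  · -- principal character in `X`
    have hYne : Y'.Nonempty := by
      rw [← Finset.card_pos, hYcard]
      exact htpos
    obtain ⟨θ, hθ'⟩ := hYne
    have hθ : θ ∈ Y₀ := (hmY θ).1 hθ'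
    obtain ⟨k1, k2, k3, k4, k5, k6, k7, k8, k9⟩ := key θ hθ
    refine ⟨X', εX, θ, ε, k1, k2, Or.inl ⟨(hmX _).2 h1X, ?_⟩, k3, k4, k5, k6, k7, k8, k9⟩
    obtain ⟨h2, h3, -⟩ := hX _ h1X
    rw [hdeg1] at h3
    exact sign_eq_one_of_modEq hp hp2 _ h2 h3
  · -- principal character in `Y`
    obtain ⟨k1, k2, k3, k4, k5, k6, k7, k8, k9⟩ := key (oneIrr G) h1Y
    have hcong := k5
    rw [hdeg1] at hcong
    have hdvd := Int.modEq_iff_dvd.1 hcong
    have hsign : ε = -1 ∧ e = p - 1 := by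
      rcases hε with h | h
      · exfalso
        rw [h] at hdvd
        have h5 : (p : ℤ) ∣ (e : ℤ) - 1 := by
          have : (1 : ℤ) * (e : ℤ) - ((1 : ℕ) : ℤ) = (e : ℤ) - 1 := by push_cast; ring
          rwa [this] at hdvd
        have h6 : (0 : ℤ) < (e : ℤ) - 1 := by
          have : 2 ≤ e := by omega
          have : (2 : ℤ) ≤ (e : ℤ) := by exact_mod_cast this
          linarith
        have h7 := Int.le_of_dvd h6 h5
        have h8 : (e : ℤ) ≤ (p : ℤ) - 1 := by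
          have : e + 1 ≤ p := by omega
          have : ((e + 1 : ℕ) : ℤ) ≤ (p : ℤ) := by exact_mod_cast this
          push_cast at this
          linarith
        linarith
      · refine ⟨h, ?_⟩
        rw [h] at hdvd
        have h5 : (p : ℤ) ∣ (e : ℤ) + 1 := by
          have : (-1 : ℤ) * (e : ℤ) - ((1 : ℕ) : ℤ) = -((e : ℤ) + 1) := by push_cast; ring
          rw [this] at hdvd
          exact dvd_neg.1 hdvd
        have h6 : (0 : ℤ) < (e : ℤ) + 1 := by positivity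
        have h7 := Int.le_of_dvd h6 h5
        have h8 : p ≤ e + 1 := by exact_mod_cast h7
        omega
    exact ⟨X', εX, oneIrr G, ε, k1, k2, Or.inr ⟨rfl, hsign.1, hsign.2⟩, k3, k4, k5, k6, k7, k8, k9⟩

end Cfsg.Agent.Lib.Helper16_SO_Brauer
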