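import Cfsg.Agent.Lib.Helper17_Sylow
import Cfsg.Agent.S0989
import Cfsg.Agent.S0990

set_option autoImplicit false

namespace Cfsg.Agent.Lib.Helper17_SylowPerm

open Cfsg.Agent.Lib.Helper17_Sylow Subgroup

/-- The image of a normalizer under an injective homomorphism has the same order and lies in
the normalizer of the image, so `|N_G(P)|` divides `|N_H(f(P))|`. -/
theorem card_normalizer_dvd_of_injective {G H : Type*} [Group G] [Group H] [Finite H]
    (f : G →* H) (hf : Function.Injective f) (P : Subgroup G) :
    Nat.card (normalizer (P : Set G)) ∣ Nat.card (normalizer ((P.map f : Subgroup H) : Set H)) := by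
  have h1 : (normalizer (P : Set G)).map f ≤ normalizer ((P.map f : Subgroup H) : Set H) :=
    Subgroup.le_normalizer_map f
  have h2 := Subgroup.card_dvd_of_le h1
  rwa [Subgroup.card_map_of_injective hf] at h2

/-- Let `G` be a non-abelian finite simple group with a proper subgroup of index `p` or `p + 1`,
`p` an odd prime, and `P` a Sylow `p`-subgroup of `G` of order `p`. Then `2 * |N_G(P)|` divides
`p * (p - 1)`. -/
theorem two_mul_card_normalizer_dvd {G : Type*} [Group G] [Finite G] [IsSimpleGroup G]
    (hG : ¬ IsMulCommutative G) (H : Subgroup G) (hH : H ≠ ⊤) (p : ℕ) [hp : Fact p.Prime]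
    (hp2 : p ≠ 2) (hidx : H.index = p ∨ H.index = p + 1) (P : Sylow p G)
    (hP : Nat.card (P : Subgroup G) = p) :
    2 * Nat.card (normalizer ((P : Subgroup G) : Set G)) ∣ p * (p - 1) := by
  classical
  obtain ⟨f, hf⟩ := exists_embedding_alternating hG H hH
  have hα : Fintype.card (Fin H.index) = p ∨ Fintype.card (Fin H.index) = p + 1 := by
    rw [Fintype.card_fin]; exact hidx
  have hα2 : 2 ≤ Fintype.card (Fin H.index) := by
    have := hp.out.two_le
    rcases hα with h | h <;> omega
  -- the image of P in the alternating group and in the symmetric group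
  let g : G →* Equiv.Perm (Fin H.index) := (alternatingGroup (Fin H.index)).subtype.comp f
  have hginj : Function.Injective g := fun a b hab => hf (Subtype.ext hab)
  have hQpg : IsPGroup p ((P : Subgroup G).map g) := P.2.map g
  obtain ⟨Q', hQ'⟩ := hQpg.exists_le_sylow
  have hQ'card := Cfsg.Agent.S0989.card_sylow_perm p hα Q'
  have hQeq : (P : Subgroup G).map g = (Q' : Subgroup _) := by
    apply Subgroup.eq_of_le_of_card_ge hQ'
    rw [hQ'card, Subgroup.card_map_of_injective hginj, hP]
  have h89 := Cfsg.Agent.S0989.result p hα Q'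
  obtain ⟨hle, h90⟩ := Cfsg.Agent.S0990.result hα2 p hp2 Q'
  rw [h89] at h90
  rw [← h90]
  apply Nat.mul_dvd_mul_left
  -- N_G(P) embeds in N_A(Q' ∩ A)
  have h1 := card_normalizer_dvd_of_injective f hf (P : Subgroup G)
  have h2 : (P : Subgroup G).map f =
      (Q' : Subgroup _).subgroupOf (alternatingGroup (Fin H.index)) := by
    rw [← hQeq]
    ext x
    simp only [Subgroup.mem_map, Subgroup.mem_subgroupOf]
    constructor
    · rintro ⟨y, hy, rfl⟩; exact ⟨y, hy, rfl⟩
    · rintro ⟨y, hy, hyx⟩; exact ⟨y, hy, Subtype.ext hyx⟩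
  rw [h2] at h1
  exact h1

end Cfsg.Agent.Lib.Helper17_SylowPerm
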