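import Mathlib
import Cfsg.Agent.S0493
import Cfsg.Agent.S0499
import Cfsg.Agent.Lib.Helper17_Sylow
import Cfsg.Agent.Lib.Helper17_SylowPerm

/-!
# S0496 engine: generic kill lemmas for "no simple group of order N" (helper75)

Each lemma excludes one candidate value of the number of Sylow `p`-subgroups.
-/

set_option autoImplicit false

namespace Cfsg.Agent.Lib.Helper75_SM_Base

open Cfsg.Agent.Lib.Helper17_Sylow Cfsg.Agent.Lib.Helper17_SylowPerm Subgroup

variable {G : Type*} [Group G] [Finite G] [IsSimpleGroup G]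

omit [Finite G] [IsSimpleGroup G] in
theorem not_cyclic (hG : ¬ IsMulCommutative G) : ¬ IsCyclic G := by
  intro hc
  apply hG
  exact ⟨⟨fun a b => (IsCyclic.commGroup (α := G)).mul_comm a b⟩⟩

/-- Burnside `p^a q^b`. -/
theorem tp (hG : ¬ IsMulCommutative G) (p q a b : ℕ) (hp : p.Prime) (hq : q.Prime)
    (h : Nat.card G = p ^ a * q ^ b) : False :=
  Cfsg.Agent.S0493.false_of_two_primes (not_cyclic hG) p q a b hp hq h

/-- S0499: the order of a non-abelian simple group of even order is divisible by 12, 16 or 56. -/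
theorem ev (hG : ¬ IsMulCommutative G) (h2 : Even (Nat.card G))
    (h : ¬ (12 ∣ Nat.card G ∨ 16 ∣ Nat.card G ∨ 56 ∣ Nat.card G)) : False :=
  h (Cfsg.Agent.S0499.result hG h2)

/-- `n_p = d` is impossible when `2 |G| ∤ d!`. -/
theorem fact_kill (hG : ¬ IsMulCommutative G) {p : ℕ} [Fact p.Prime] (d : ℕ)
    (hd : Nat.card (Sylow p G) = d) (h1 : 1 < d) (hnd : ¬ 2 * Nat.card G ∣ d.factorial) : False := by
  apply hnd
  have := two_mul_card_dvd_factorial_card_sylow hG (p := p) (by rw [hd]; exact h1)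
  rwa [hd] at this

/-- `n_p = d` is impossible when `p ∥ |G|` and `|N(P)|/p` is prime to `p - 1` (Burnside). -/
theorem burn_kill {p m : ℕ} [Fact p.Prime] (hc : Nat.card G = p ^ 1 * m) (hm : ¬ p ∣ m)
    (hm1 : 1 < m) (d : ℕ) (hd : Nat.card (Sylow p G) = d) (hcop : Nat.Coprime (m / d) (p - 1)) :
    False := by
  have := not_coprime_of_simple hc hm hm1
  rw [hd] at this
  exact this hcop

/-- `n_p = p + 1` is impossible when `2 |N(P)| ∤ p (p - 1)` (`p` odd, `p ∥ |G|`). -/
theorem perm_kill (hG : ¬ IsMulCommutative G) {p m : ℕ} [Fact p.Prime] (hp2 : p ≠ 2)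
    (hc : Nat.card G = p ^ 1 * m) (hm : ¬ p ∣ m)
    (hd : Nat.card (Sylow p G) = p + 1) (c : ℕ) (hcm : c * (p + 1) = Nat.card G)
    (hnd : ¬ 2 * c ∣ p * (p - 1)) : False := by
  obtain ⟨P⟩ : Nonempty (Sylow p G) := inferInstance
  have hP : Nat.card (P : Subgroup G) = p := by
    have := card_sylow_eq_pow hc hm P
    rwa [pow_one] at this
  have hlt : 1 < Nat.card (Sylow p G) := by
    rw [hd]; have := (Fact.out : p.Prime).pos; omega
  have hidx : (normalizer ((P : Subgroup G) : Set G)).index = p + 1 := by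
    have := Sylow.card_eq_index_normalizer P
    rw [hd] at this
    exact this.symm
  have hNtop : normalizer ((P : Subgroup G) : Set G) ≠ ⊤ := by
    intro h
    rw [h, Subgroup.index_top] at hidx
    have := (Fact.out : p.Prime).pos
    omega
  have hdvd := two_mul_card_normalizer_dvd hG _ hNtop p hp2 (Or.inr hidx) P hP
  have hN := card_normalizer_mul_card_sylow P
  rw [hd, ← hcm] at hN
  have hN' : Nat.card (normalizer ((P : Subgroup G) : Set G)) = c :=
    Nat.eq_of_mul_eq_mul_right (by omega) hN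
  rw [hN'] at hdvd
  exact hnd hdvd

/-- `N(P) = P` with `|P| = p²` (abelian): Burnside. -/
theorem burn2_kill {p m : ℕ} [hp : Fact p.Prime] (hc : Nat.card G = p ^ 2 * m) (hm : ¬ p ∣ m)
    (hm1 : 1 < m) (hd : Nat.card (Sylow p G) = m) : False := by
  obtain ⟨P⟩ : Nonempty (Sylow p G) := inferInstance
  have hP : Nat.card (P : Subgroup G) = p ^ 2 := card_sylow_eq_pow hc hm P
  have hN := card_normalizer_mul_card_sylow P
  rw [hd, hc] at hN
  have hN' : Nat.card (normalizer ((P : Subgroup G) : Set G)) = p ^ 2 :=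
    Nat.eq_of_mul_eq_mul_right (by omega) hN
  have hPN : (P : Subgroup G) ≤ normalizer ((P : Subgroup G) : Set G) := le_normalizer
  have heq : (P : Subgroup G) = normalizer ((P : Subgroup G) : Set G) :=
    Subgroup.eq_of_le_of_card_ge hPN (by rw [hN', hP])
  have hcomm : IsMulCommutative (P : Subgroup G) := by
    have := IsPGroup.commutative_of_card_eq_prime_sq (p := p) (G := (P : Subgroup G)) hP
    exact ⟨⟨this⟩⟩
  have hle : (P : Subgroup G) ≤ centralizer ((P : Subgroup G) : Set G) :=
    Subgroup.le_centralizer_iff_isMulCommutative.mpr hcomm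
  rcases sylow_eq_bot_or_top_of_normalizer_le_centralizer P (by rw [← heq]; exact hle) with h | h
  · rw [h, Subgroup.card_bot] at hP
    have := hp.out.one_lt
    have : 1 < p ^ 2 := Nat.one_lt_pow (by norm_num) this
    omega
  · rw [h, Subgroup.card_top, hc] at hP
    have hp0 : 0 < p ^ 2 := pow_pos hp.out.pos 2
    have : p ^ 2 * m = p ^ 2 * 1 := by rw [mul_one]; exact hP
    have := Nat.eq_of_mul_eq_mul_left hp0 this
    omega

end Cfsg.Agent.Lib.Helper75_SM_Base
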