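import Mathlib
import Cfsg.Agent.Lib.Helper75_SM_Base

/-!
# S0983 engine, generated file: no simple group of order N for the easy N in [3641, 3700]
(helper16; same scheme as helper75's `Helper75_SM_E*`)
-/

set_option autoImplicit false
set_option linter.unusedVariables false

namespace Cfsg.Agent.Lib.Helper16_SO_E00

open Cfsg.Agent.Lib.Helper17_Sylow Cfsg.Agent.Lib.Helper75_SM_Base

theorem no_3641 {G : Type*} [Group G] [Finite G] [IsSimpleGroup G]
    (hG : ¬ IsMulCommutative G) (h : Nat.card G = 3641) : False := by
  exact tp hG 11 331 1 1 (by norm_num) (by norm_num) (by rw [h]; norm_num)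

theorem no_3642 {G : Type*} [Group G] [Finite G] [IsSimpleGroup G]
    (hG : ¬ IsMulCommutative G) (h : Nat.card G = 3642) : False := by
  exact ev hG (by rw [h]; exact ⟨1821, by norm_num⟩) (by rw [h]; omega)

theorem no_3643 {G : Type*} [Group G] [Finite G] [IsSimpleGroup G]
    (hG : ¬ IsMulCommutative G) (h : Nat.card G = 3643) : False := by
  exact tp hG 3643 2 1 0 (by norm_num) (by norm_num) (by rw [h]; norm_num)

theorem no_3644 {G : Type*} [Group G] [Finite G] [IsSimpleGroup G]
    (hG : ¬ IsMulCommutative G) (h : Nat.card G = 3644) : False := by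
  exact tp hG 2 911 2 1 (by norm_num) (by norm_num) (by rw [h]; norm_num)

theorem no_3645 {G : Type*} [Group G] [Finite G] [IsSimpleGroup G]
    (hG : ¬ IsMulCommutative G) (h : Nat.card G = 3645) : False := by
  exact tp hG 3 5 6 1 (by norm_num) (by norm_num) (by rw [h]; norm_num)

theorem no_3646 {G : Type*} [Group G] [Finite G] [IsSimpleGroup G]
    (hG : ¬ IsMulCommutative G) (h : Nat.card G = 3646) : False := by
  exact tp hG 2 1823 1 1 (by norm_num) (by norm_num) (by rw [h]; norm_num)

theorem no_3647 {G : Type*} [Group G] [Finite G] [IsSimpleGroup G]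
    (hG : ¬ IsMulCommutative G) (h : Nat.card G = 3647) : False := by
  exact tp hG 7 521 1 1 (by norm_num) (by norm_num) (by rw [h]; norm_num)

theorem no_3649 {G : Type*} [Group G] [Finite G] [IsSimpleGroup G]
    (hG : ¬ IsMulCommutative G) (h : Nat.card G = 3649) : False := by
  exact tp hG 41 89 1 1 (by norm_num) (by norm_num) (by rw [h]; norm_num)

theorem no_3650 {G : Type*} [Group G] [Finite G] [IsSimpleGroup G]
    (hG : ¬ IsMulCommutative G) (h : Nat.card G = 3650) : False := by
  exact ev hG (by rw [h]; exact ⟨1825, by norm_num⟩) (by rw [h]; omega)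

theorem no_3651 {G : Type*} [Group G] [Finite G] [IsSimpleGroup G]
    (hG : ¬ IsMulCommutative G) (h : Nat.card G = 3651) : False := by
  exact tp hG 3 1217 1 1 (by norm_num) (by norm_num) (by rw [h]; norm_num)

theorem no_3652 {G : Type*} [Group G] [Finite G] [IsSimpleGroup G]
    (hG : ¬ IsMulCommutative G) (h : Nat.card G = 3652) : False := by
  exact ev hG (by rw [h]; exact ⟨1826, by norm_num⟩) (by rw [h]; omega)

theorem no_3653 {G : Type*} [Group G] [Finite G] [IsSimpleGroup G]
    (hG : ¬ IsMulCommutative G) (h : Nat.card G = 3653) : False := by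
  exact tp hG 13 281 1 1 (by norm_num) (by norm_num) (by rw [h]; norm_num)

theorem no_3654 {G : Type*} [Group G] [Finite G] [IsSimpleGroup G]
    (hG : ¬ IsMulCommutative G) (h : Nat.card G = 3654) : False := by
  exact ev hG (by rw [h]; exact ⟨1827, by norm_num⟩) (by rw [h]; omega)

theorem no_3655 {G : Type*} [Group G] [Finite G] [IsSimpleGroup G]
    (hG : ¬ IsMulCommutative G) (h : Nat.card G = 3655) : False := by
  have : Fact (Nat.Prime 43) := ⟨by norm_num⟩
  have hc : Nat.card G = 43 ^ 1 * 85 := by rw [h]; norm_num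
  have hm : ¬ 43 ∣ 85 := by norm_num
  have hmem := card_sylow_mem_candidates hc hm
  have hcand : sylowCandidates 43 85 = [1] := by decide
  rw [hcand] at hmem
  simp only [List.mem_cons, List.not_mem_nil, or_false] at hmem
  have hlt := one_lt_card_sylow_of_card hc hm (by norm_num) (by norm_num)
  have hd := hmem
  · omega

theorem no_3656 {G : Type*} [Group G] [Finite G] [IsSimpleGroup G]
    (hG : ¬ IsMulCommutative G) (h : Nat.card G = 3656) : False := by
  exact tp hG 2 457 3 1 (by norm_num) (by norm_num) (by rw [h]; norm_num)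

theorem no_3657 {G : Type*} [Group G] [Finite G] [IsSimpleGroup G]
    (hG : ¬ IsMulCommutative G) (h : Nat.card G = 3657) : False := by
  have : Fact (Nat.Prime 53) := ⟨by norm_num⟩
  have hc : Nat.card G = 53 ^ 1 * 69 := by rw [h]; norm_num
  have hm : ¬ 53 ∣ 69 := by norm_num
  have hmem := card_sylow_mem_candidates hc hm
  have hcand : sylowCandidates 53 69 = [1] := by decide
  rw [hcand] at hmem
  simp only [List.mem_cons, List.not_mem_nil, or_false] at hmem
  have hlt := one_lt_card_sylow_of_card hc hm (by norm_num) (by norm_num)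
  have hd := hmem
  · omega

theorem no_3658 {G : Type*} [Group G] [Finite G] [IsSimpleGroup G]
    (hG : ¬ IsMulCommutative G) (h : Nat.card G = 3658) : False := by
  exact ev hG (by rw [h]; exact ⟨1829, by norm_num⟩) (by rw [h]; omega)

theorem no_3659 {G : Type*} [Group G] [Finite G] [IsSimpleGroup G]
    (hG : ¬ IsMulCommutative G) (h : Nat.card G = 3659) : False := by
  exact tp hG 3659 2 1 0 (by norm_num) (by norm_num) (by rw [h]; norm_num)

theorem no_3660 {G : Type*} [Group G] [Finite G] [IsSimpleGroup G]
    (hG : ¬ IsMulCommutative G) (h : Nat.card G = 3660) : False := by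
  have : Fact (Nat.Prime 61) := ⟨by norm_num⟩
  have hc : Nat.card G = 61 ^ 1 * 60 := by rw [h]; norm_num
  have hm : ¬ 61 ∣ 60 := by norm_num
  have hmem := card_sylow_mem_candidates hc hm
  have hcand : sylowCandidates 61 60 = [1] := by decide
  rw [hcand] at hmem
  simp only [List.mem_cons, List.not_mem_nil, or_false] at hmem
  have hlt := one_lt_card_sylow_of_card hc hm (by norm_num) (by norm_num)
  have hd := hmem
  · omega

theorem no_3661 {G : Type*} [Group G] [Finite G] [IsSimpleGroup G]
    (hG : ¬ IsMulCommutative G) (h : Nat.card G = 3661) : False := by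
  exact tp hG 7 523 1 1 (by norm_num) (by norm_num) (by rw [h]; norm_num)

theorem no_3662 {G : Type*} [Group G] [Finite G] [IsSimpleGroup G]
    (hG : ¬ IsMulCommutative G) (h : Nat.card G = 3662) : False := by
  exact tp hG 2 1831 1 1 (by norm_num) (by norm_num) (by rw [h]; norm_num)

theorem no_3663 {G : Type*} [Group G] [Finite G] [IsSimpleGroup G]
    (hG : ¬ IsMulCommutative G) (h : Nat.card G = 3663) : False := by
  have : Fact (Nat.Prime 37) := ⟨by norm_num⟩
  have hc : Nat.card G = 37 ^ 1 * 99 := by rw [h]; norm_num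
  have hm : ¬ 37 ∣ 99 := by norm_num
  have hmem := card_sylow_mem_candidates hc hm
  have hcand : sylowCandidates 37 99 = [1] := by decide
  rw [hcand] at hmem
  simp only [List.mem_cons, List.not_mem_nil, or_false] at hmem
  have hlt := one_lt_card_sylow_of_card hc hm (by norm_num) (by norm_num)
  have hd := hmem
  · omega

theorem no_3664 {G : Type*} [Group G] [Finite G] [IsSimpleGroup G]
    (hG : ¬ IsMulCommutative G) (h : Nat.card G = 3664) : False := by
  exact tp hG 2 229 4 1 (by norm_num) (by norm_num) (by rw [h]; norm_num)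

theorem no_3665 {G : Type*} [Group G] [Finite G] [IsSimpleGroup G]
    (hG : ¬ IsMulCommutative G) (h : Nat.card G = 3665) : False := by
  exact tp hG 5 733 1 1 (by norm_num) (by norm_num) (by rw [h]; norm_num)

theorem no_3666 {G : Type*} [Group G] [Finite G] [IsSimpleGroup G]
    (hG : ¬ IsMulCommutative G) (h : Nat.card G = 3666) : False := by
  exact ev hG (by rw [h]; exact ⟨1833, by norm_num⟩) (by rw [h]; omega)

theorem no_3667 {G : Type*} [Group G] [Finite G] [IsSimpleGroup G]
    (hG : ¬ IsMulCommutative G) (h : Nat.card G = 3667) : False := by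
  exact tp hG 19 193 1 1 (by norm_num) (by norm_num) (by rw [h]; norm_num)

theorem no_3668 {G : Type*} [Group G] [Finite G] [IsSimpleGroup G]
    (hG : ¬ IsMulCommutative G) (h : Nat.card G = 3668) : False := by
  exact ev hG (by rw [h]; exact ⟨1834, by norm_num⟩) (by rw [h]; omega)

theorem no_3669 {G : Type*} [Group G] [Finite G] [IsSimpleGroup G]
    (hG : ¬ IsMulCommutative G) (h : Nat.card G = 3669) : False := by
  exact tp hG 3 1223 1 1 (by norm_num) (by norm_num) (by rw [h]; norm_num)

theorem no_3670 {G : Type*} [Group G] [Finite G] [IsSimpleGroup G]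
    (hG : ¬ IsMulCommutative G) (h : Nat.card G = 3670) : False := by
  exact ev hG (by rw [h]; exact ⟨1835, by norm_num⟩) (by rw [h]; omega)

theorem no_3671 {G : Type*} [Group G] [Finite G] [IsSimpleGroup G]
    (hG : ¬ IsMulCommutative G) (h : Nat.card G = 3671) : False := by
  exact tp hG 3671 2 1 0 (by norm_num) (by norm_num) (by rw [h]; norm_num)

theorem no_3672 {G : Type*} [Group G] [Finite G] [IsSimpleGroup G]
    (hG : ¬ IsMulCommutative G) (h : Nat.card G = 3672) : False := by
  have : Fact (Nat.Prime 17) := ⟨by norm_num⟩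
  have hc : Nat.card G = 17 ^ 1 * 216 := by rw [h]; norm_num
  have hm : ¬ 17 ∣ 216 := by norm_num
  have hmem := card_sylow_mem_candidates hc hm
  have hcand : sylowCandidates 17 216 = [1, 18] := by decide
  rw [hcand] at hmem
  simp only [List.mem_cons, List.not_mem_nil, or_false] at hmem
  have hlt := one_lt_card_sylow_of_card hc hm (by norm_num) (by norm_num)
  rcases hmem with hd | hd
  · omega
  · exact perm_kill hG (by norm_num) hc hm hd 204 (by omega) (by decide)

theorem no_3673 {G : Type*} [Group G] [Finite G] [IsSimpleGroup G]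
    (hG : ¬ IsMulCommutative G) (h : Nat.card G = 3673) : False := by
  exact tp hG 3673 2 1 0 (by norm_num) (by norm_num) (by rw [h]; norm_num)

theorem no_3674 {G : Type*} [Group G] [Finite G] [IsSimpleGroup G]
    (hG : ¬ IsMulCommutative G) (h : Nat.card G = 3674) : False := by
  exact ev hG (by rw [h]; exact ⟨1837, by norm_num⟩) (by rw [h]; omega)

theorem no_3675 {G : Type*} [Group G] [Finite G] [IsSimpleGroup G]
    (hG : ¬ IsMulCommutative G) (h : Nat.card G = 3675) : False := by
  have : Fact (Nat.Prime 3) := ⟨by norm_num⟩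
  have hc : Nat.card G = 3 ^ 1 * 1225 := by rw [h]; norm_num
  have hm : ¬ 3 ∣ 1225 := by norm_num
  have hmem := card_sylow_mem_candidates hc hm
  have hcand : sylowCandidates 3 1225 = [1, 7, 25, 49, 175, 1225] := by decide
  rw [hcand] at hmem
  simp only [List.mem_cons, List.not_mem_nil, or_false] at hmem
  have hlt := one_lt_card_sylow_of_card hc hm (by norm_num) (by norm_num)
  rcases hmem with hd | hd | hd | hd | hd | hd
  · omega
  · exact fact_kill hG 7 hd (by norm_num) (by rw [h]; decide)
  · exact burn_kill hc hm (by norm_num) 25 hd (by decide)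
  · exact burn_kill hc hm (by norm_num) 49 hd (by decide)
  · exact burn_kill hc hm (by norm_num) 175 hd (by decide)
  · exact burn_kill hc hm (by norm_num) 1225 hd (by decide)

theorem no_3676 {G : Type*} [Group G] [Finite G] [IsSimpleGroup G]
    (hG : ¬ IsMulCommutative G) (h : Nat.card G = 3676) : False := by
  exact tp hG 2 919 2 1 (by norm_num) (by norm_num) (by rw [h]; norm_num)

theorem no_3677 {G : Type*} [Group G] [Finite G] [IsSimpleGroup G]
    (hG : ¬ IsMulCommutative G) (h : Nat.card G = 3677) : False := by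
  exact tp hG 3677 2 1 0 (by norm_num) (by norm_num) (by rw [h]; norm_num)

theorem no_3678 {G : Type*} [Group G] [Finite G] [IsSimpleGroup G]
    (hG : ¬ IsMulCommutative G) (h : Nat.card G = 3678) : False := by
  exact ev hG (by rw [h]; exact ⟨1839, by norm_num⟩) (by rw [h]; omega)

theorem no_3679 {G : Type*} [Group G] [Finite G] [IsSimpleGroup G]
    (hG : ¬ IsMulCommutative G) (h : Nat.card G = 3679) : False := by
  exact tp hG 13 283 1 1 (by norm_num) (by norm_num) (by rw [h]; norm_num)

theorem no_3680 {G : Type*} [Group G] [Finite G] [IsSimpleGroup G]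
    (hG : ¬ IsMulCommutative G) (h : Nat.card G = 3680) : False := by
  have : Fact (Nat.Prime 23) := ⟨by norm_num⟩
  have hc : Nat.card G = 23 ^ 1 * 160 := by rw [h]; norm_num
  have hm : ¬ 23 ∣ 160 := by norm_num
  have hmem := card_sylow_mem_candidates hc hm
  have hcand : sylowCandidates 23 160 = [1] := by decide
  rw [hcand] at hmem
  simp only [List.mem_cons, List.not_mem_nil, or_false] at hmem
  have hlt := one_lt_card_sylow_of_card hc hm (by norm_num) (by norm_num)
  have hd := hmem
  · omega

theorem no_3681 {G : Type*} [Group G] [Finite G] [IsSimpleGroup G]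
    (hG : ¬ IsMulCommutative G) (h : Nat.card G = 3681) : False := by
  exact tp hG 3 409 2 1 (by norm_num) (by norm_num) (by rw [h]; norm_num)

theorem no_3682 {G : Type*} [Group G] [Finite G] [IsSimpleGroup G]
    (hG : ¬ IsMulCommutative G) (h : Nat.card G = 3682) : False := by
  exact ev hG (by rw [h]; exact ⟨1841, by norm_num⟩) (by rw [h]; omega)

theorem no_3683 {G : Type*} [Group G] [Finite G] [IsSimpleGroup G]
    (hG : ¬ IsMulCommutative G) (h : Nat.card G = 3683) : False := by
  exact tp hG 29 127 1 1 (by norm_num) (by norm_num) (by rw [h]; norm_num)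

theorem no_3684 {G : Type*} [Group G] [Finite G] [IsSimpleGroup G]
    (hG : ¬ IsMulCommutative G) (h : Nat.card G = 3684) : False := by
  have : Fact (Nat.Prime 307) := ⟨by norm_num⟩
  have hc : Nat.card G = 307 ^ 1 * 12 := by rw [h]; norm_num
  have hm : ¬ 307 ∣ 12 := by norm_num
  have hmem := card_sylow_mem_candidates hc hm
  have hcand : sylowCandidates 307 12 = [1] := by decide
  rw [hcand] at hmem
  simp only [List.mem_cons, List.not_mem_nil, or_false] at hmem
  have hlt := one_lt_card_sylow_of_card hc hm (by norm_num) (by norm_num)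
  have hd := hmem
  · omega

theorem no_3685 {G : Type*} [Group G] [Finite G] [IsSimpleGroup G]
    (hG : ¬ IsMulCommutative G) (h : Nat.card G = 3685) : False := by
  have : Fact (Nat.Prime 67) := ⟨by norm_num⟩
  have hc : Nat.card G = 67 ^ 1 * 55 := by rw [h]; norm_num
  have hm : ¬ 67 ∣ 55 := by norm_num
  have hmem := card_sylow_mem_candidates hc hm
  have hcand : sylowCandidates 67 55 = [1] := by decide
  rw [hcand] at hmem
  simp only [List.mem_cons, List.not_mem_nil, or_false] at hmem
  have hlt := one_lt_card_sylow_of_card hc hm (by norm_num) (by norm_num)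
  have hd := hmem
  · omega

theorem no_3686 {G : Type*} [Group G] [Finite G] [IsSimpleGroup G]
    (hG : ¬ IsMulCommutative G) (h : Nat.card G = 3686) : False := by
  exact ev hG (by rw [h]; exact ⟨1843, by norm_num⟩) (by rw [h]; omega)

theorem no_3687 {G : Type*} [Group G] [Finite G] [IsSimpleGroup G]
    (hG : ¬ IsMulCommutative G) (h : Nat.card G = 3687) : False := by
  exact tp hG 3 1229 1 1 (by norm_num) (by norm_num) (by rw [h]; norm_num)

theorem no_3688 {G : Type*} [Group G] [Finite G] [IsSimpleGroup G]
    (hG : ¬ IsMulCommutative G) (h : Nat.card G = 3688) : False := by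
  exact tp hG 2 461 3 1 (by norm_num) (by norm_num) (by rw [h]; norm_num)

theorem no_3689 {G : Type*} [Group G] [Finite G] [IsSimpleGroup G]
    (hG : ¬ IsMulCommutative G) (h : Nat.card G = 3689) : False := by
  have : Fact (Nat.Prime 31) := ⟨by norm_num⟩
  have hc : Nat.card G = 31 ^ 1 * 119 := by rw [h]; norm_num
  have hm : ¬ 31 ∣ 119 := by norm_num
  have hmem := card_sylow_mem_candidates hc hm
  have hcand : sylowCandidates 31 119 = [1] := by decide
  rw [hcand] at hmem
  simp only [List.mem_cons, List.not_mem_nil, or_false] at hmem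
  have hlt := one_lt_card_sylow_of_card hc hm (by norm_num) (by norm_num)
  have hd := hmem
  · omega

theorem no_3690 {G : Type*} [Group G] [Finite G] [IsSimpleGroup G]
    (hG : ¬ IsMulCommutative G) (h : Nat.card G = 3690) : False := by
  exact ev hG (by rw [h]; exact ⟨1845, by norm_num⟩) (by rw [h]; omega)

theorem no_3691 {G : Type*} [Group G] [Finite G] [IsSimpleGroup G]
    (hG : ¬ IsMulCommutative G) (h : Nat.card G = 3691) : False := by
  exact tp hG 3691 2 1 0 (by norm_num) (by norm_num) (by rw [h]; norm_num)

theorem no_3692 {G : Type*} [Group G] [Finite G] [IsSimpleGroup G]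
    (hG : ¬ IsMulCommutative G) (h : Nat.card G = 3692) : False := by
  exact ev hG (by rw [h]; exact ⟨1846, by norm_num⟩) (by rw [h]; omega)

theorem no_3693 {G : Type*} [Group G] [Finite G] [IsSimpleGroup G]
    (hG : ¬ IsMulCommutative G) (h : Nat.card G = 3693) : False := by
  exact tp hG 3 1231 1 1 (by norm_num) (by norm_num) (by rw [h]; norm_num)

theorem no_3694 {G : Type*} [Group G] [Finite G] [IsSimpleGroup G]
    (hG : ¬ IsMulCommutative G) (h : Nat.card G = 3694) : False := by
  exact tp hG 2 1847 1 1 (by norm_num) (by norm_num) (by rw [h]; norm_num)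

theorem no_3695 {G : Type*} [Group G] [Finite G] [IsSimpleGroup G]
    (hG : ¬ IsMulCommutative G) (h : Nat.card G = 3695) : False := by
  exact tp hG 5 739 1 1 (by norm_num) (by norm_num) (by rw [h]; norm_num)

theorem no_3697 {G : Type*} [Group G] [Finite G] [IsSimpleGroup G]
    (hG : ¬ IsMulCommutative G) (h : Nat.card G = 3697) : False := by
  exact tp hG 3697 2 1 0 (by norm_num) (by norm_num) (by rw [h]; norm_num)

theorem no_3698 {G : Type*} [Group G] [Finite G] [IsSimpleGroup G]
    (hG : ¬ IsMulCommutative G) (h : Nat.card G = 3698) : False := by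
  exact tp hG 2 43 1 2 (by norm_num) (by norm_num) (by rw [h]; norm_num)

theorem no_3699 {G : Type*} [Group G] [Finite G] [IsSimpleGroup G]
    (hG : ¬ IsMulCommutative G) (h : Nat.card G = 3699) : False := by
  exact tp hG 3 137 3 1 (by norm_num) (by norm_num) (by rw [h]; norm_num)

theorem no_3700 {G : Type*} [Group G] [Finite G] [IsSimpleGroup G]
    (hG : ¬ IsMulCommutative G) (h : Nat.card G = 3700) : False := by
  exact ev hG (by rw [h]; exact ⟨1850, by norm_num⟩) (by rw [h]; omega)

/-- the orders in [3641, 3700] not excluded by the engine -/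
theorem chunk {G : Type*} [Group G] [Finite G] [IsSimpleGroup G]
    (hG : ¬ IsMulCommutative G) (n : ℕ) (hn : Nat.card G = n) (h1 : 3641 ≤ n) (h2 : n ≤ 3700) :
    n = 3648 ∨ n = 3696 := by
  interval_cases n
  · exact (no_3641 hG hn).elim
  · exact (no_3642 hG hn).elim
  · exact (no_3643 hG hn).elim
  · exact (no_3644 hG hn).elim
  · exact (no_3645 hG hn).elim
  · exact (no_3646 hG hn).elim
  · exact (no_3647 hG hn).elim
  · simp
  · exact (no_3649 hG hn).elim
  · exact (no_3650 hG hn).elim
  · exact (no_3651 hG hn).elim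
  · exact (no_3652 hG hn).elim
  · exact (no_3653 hG hn).elim
  · exact (no_3654 hG hn).elim
  · exact (no_3655 hG hn).elim
  · exact (no_3656 hG hn).elim
  · exact (no_3657 hG hn).elim
  · exact (no_3658 hG hn).elim
  · exact (no_3659 hG hn).elim
  · exact (no_3660 hG hn).elim
  · exact (no_3661 hG hn).elim
  · exact (no_3662 hG hn).elim
  · exact (no_3663 hG hn).elim
  · exact (no_3664 hG hn).elim
  · exact (no_3665 hG hn).elim
  · exact (no_3666 hG hn).elim
  · exact (no_3667 hG hn).elim
  · exact (no_3668 hG hn).elim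
  · exact (no_3669 hG hn).elim
  · exact (no_3670 hG hn).elim
  · exact (no_3671 hG hn).elim
  · exact (no_3672 hG hn).elim
  · exact (no_3673 hG hn).elim
  · exact (no_3674 hG hn).elim
  · exact (no_3675 hG hn).elim
  · exact (no_3676 hG hn).elim
  · exact (no_3677 hG hn).elim
  · exact (no_3678 hG hn).elim
  · exact (no_3679 hG hn).elim
  · exact (no_3680 hG hn).elim
  · exact (no_3681 hG hn).elim
  · exact (no_3682 hG hn).elim
  · exact (no_3683 hG hn).elim
  · exact (no_3684 hG hn).elim
  · exact (no_3685 hG hn).elim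
  · exact (no_3686 hG hn).elim
  · exact (no_3687 hG hn).elim
  · exact (no_3688 hG hn).elim
  · exact (no_3689 hG hn).elim
  · exact (no_3690 hG hn).elim
  · exact (no_3691 hG hn).elim
  · exact (no_3692 hG hn).elim
  · exact (no_3693 hG hn).elim
  · exact (no_3694 hG hn).elim
  · exact (no_3695 hG hn).elim
  · simp
  · exact (no_3697 hG hn).elim
  · exact (no_3698 hG hn).elim
  · exact (no_3699 hG hn).elim
  · exact (no_3700 hG hn).elim

end Cfsg.Agent.Lib.Helper16_SO_E00
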