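import Mathlib
import Cfsg.Agent.Lib.Helper75_SM_Base

/-!
# S0983 engine, generated file: no simple group of order N for the easy N in [3701, 3800]
(helper16; same scheme as helper75's `Helper75_SM_E*`)
-/

set_option autoImplicit false
set_option linter.unusedVariables false

namespace Cfsg.Agent.Lib.Helper16_SO_E01

open Cfsg.Agent.Lib.Helper17_Sylow Cfsg.Agent.Lib.Helper75_SM_Base

theorem no_3701 {G : Type*} [Group G] [Finite G] [IsSimpleGroup G]
    (hG : ¬ IsMulCommutative G) (h : Nat.card G = 3701) : False := by
  exact tp hG 3701 2 1 0 (by norm_num) (by norm_num) (by rw [h]; norm_num)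

theorem no_3702 {G : Type*} [Group G] [Finite G] [IsSimpleGroup G]
    (hG : ¬ IsMulCommutative G) (h : Nat.card G = 3702) : False := by
  exact ev hG (by rw [h]; exact ⟨1851, by norm_num⟩) (by rw [h]; omega)

theorem no_3703 {G : Type*} [Group G] [Finite G] [IsSimpleGroup G]
    (hG : ¬ IsMulCommutative G) (h : Nat.card G = 3703) : False := by
  exact tp hG 7 23 1 2 (by norm_num) (by norm_num) (by rw [h]; norm_num)

theorem no_3704 {G : Type*} [Group G] [Finite G] [IsSimpleGroup G]
    (hG : ¬ IsMulCommutative G) (h : Nat.card G = 3704) : False := by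
  exact tp hG 2 463 3 1 (by norm_num) (by norm_num) (by rw [h]; norm_num)

theorem no_3705 {G : Type*} [Group G] [Finite G] [IsSimpleGroup G]
    (hG : ¬ IsMulCommutative G) (h : Nat.card G = 3705) : False := by
  have : Fact (Nat.Prime 19) := ⟨by norm_num⟩
  have hc : Nat.card G = 19 ^ 1 * 195 := by rw [h]; norm_num
  have hm : ¬ 19 ∣ 195 := by norm_num
  have hmem := card_sylow_mem_candidates hc hm
  have hcand : sylowCandidates 19 195 = [1, 39] := by decide
  rw [hcand] at hmem
  simp only [List.mem_cons, List.not_mem_nil, or_false] at hmem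
  have hlt := one_lt_card_sylow_of_card hc hm (by norm_num) (by norm_num)
  rcases hmem with hd | hd
  · omega
  · exact burn_kill hc hm (by norm_num) 39 hd (by decide)

theorem no_3706 {G : Type*} [Group G] [Finite G] [IsSimpleGroup G]
    (hG : ¬ IsMulCommutative G) (h : Nat.card G = 3706) : False := by
  exact ev hG (by rw [h]; exact ⟨1853, by norm_num⟩) (by rw [h]; omega)

theorem no_3707 {G : Type*} [Group G] [Finite G] [IsSimpleGroup G]
    (hG : ¬ IsMulCommutative G) (h : Nat.card G = 3707) : False := by
  exact tp hG 11 337 1 1 (by norm_num) (by norm_num) (by rw [h]; norm_num)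

theorem no_3708 {G : Type*} [Group G] [Finite G] [IsSimpleGroup G]
    (hG : ¬ IsMulCommutative G) (h : Nat.card G = 3708) : False := by
  have : Fact (Nat.Prime 103) := ⟨by norm_num⟩
  have hc : Nat.card G = 103 ^ 1 * 36 := by rw [h]; norm_num
  have hm : ¬ 103 ∣ 36 := by norm_num
  have hmem := card_sylow_mem_candidates hc hm
  have hcand : sylowCandidates 103 36 = [1] := by decide
  rw [hcand] at hmem
  simp only [List.mem_cons, List.not_mem_nil, or_false] at hmem
  have hlt := one_lt_card_sylow_of_card hc hm (by norm_num) (by norm_num)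
  have hd := hmem
  · omega

theorem no_3709 {G : Type*} [Group G] [Finite G] [IsSimpleGroup G]
    (hG : ¬ IsMulCommutative G) (h : Nat.card G = 3709) : False := by
  exact tp hG 3709 2 1 0 (by norm_num) (by norm_num) (by rw [h]; norm_num)

theorem no_3710 {G : Type*} [Group G] [Finite G] [IsSimpleGroup G]
    (hG : ¬ IsMulCommutative G) (h : Nat.card G = 3710) : False := by
  exact ev hG (by rw [h]; exact ⟨1855, by norm_num⟩) (by rw [h]; omega)

theorem no_3711 {G : Type*} [Group G] [Finite G] [IsSimpleGroup G]
    (hG : ¬ IsMulCommutative G) (h : Nat.card G = 3711) : False := by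
  exact tp hG 3 1237 1 1 (by norm_num) (by norm_num) (by rw [h]; norm_num)

theorem no_3712 {G : Type*} [Group G] [Finite G] [IsSimpleGroup G]
    (hG : ¬ IsMulCommutative G) (h : Nat.card G = 3712) : False := by
  exact tp hG 2 29 7 1 (by norm_num) (by norm_num) (by rw [h]; norm_num)

theorem no_3713 {G : Type*} [Group G] [Finite G] [IsSimpleGroup G]
    (hG : ¬ IsMulCommutative G) (h : Nat.card G = 3713) : False := by
  exact tp hG 47 79 1 1 (by norm_num) (by norm_num) (by rw [h]; norm_num)

theorem no_3714 {G : Type*} [Group G] [Finite G] [IsSimpleGroup G]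
    (hG : ¬ IsMulCommutative G) (h : Nat.card G = 3714) : False := by
  exact ev hG (by rw [h]; exact ⟨1857, by norm_num⟩) (by rw [h]; omega)

theorem no_3715 {G : Type*} [Group G] [Finite G] [IsSimpleGroup G]
    (hG : ¬ IsMulCommutative G) (h : Nat.card G = 3715) : False := by
  exact tp hG 5 743 1 1 (by norm_num) (by norm_num) (by rw [h]; norm_num)

theorem no_3716 {G : Type*} [Group G] [Finite G] [IsSimpleGroup G]
    (hG : ¬ IsMulCommutative G) (h : Nat.card G = 3716) : False := by
  exact tp hG 2 929 2 1 (by norm_num) (by norm_num) (by rw [h]; norm_num)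

theorem no_3717 {G : Type*} [Group G] [Finite G] [IsSimpleGroup G]
    (hG : ¬ IsMulCommutative G) (h : Nat.card G = 3717) : False := by
  have : Fact (Nat.Prime 59) := ⟨by norm_num⟩
  have hc : Nat.card G = 59 ^ 1 * 63 := by rw [h]; norm_num
  have hm : ¬ 59 ∣ 63 := by norm_num
  have hmem := card_sylow_mem_candidates hc hm
  have hcand : sylowCandidates 59 63 = [1] := by decide
  rw [hcand] at hmem
  simp only [List.mem_cons, List.not_mem_nil, or_false] at hmem
  have hlt := one_lt_card_sylow_of_card hc hm (by norm_num) (by norm_num)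
  have hd := hmem
  · omega

theorem no_3718 {G : Type*} [Group G] [Finite G] [IsSimpleGroup G]
    (hG : ¬ IsMulCommutative G) (h : Nat.card G = 3718) : False := by
  exact ev hG (by rw [h]; exact ⟨1859, by norm_num⟩) (by rw [h]; omega)

theorem no_3719 {G : Type*} [Group G] [Finite G] [IsSimpleGroup G]
    (hG : ¬ IsMulCommutative G) (h : Nat.card G = 3719) : False := by
  exact tp hG 3719 2 1 0 (by norm_num) (by norm_num) (by rw [h]; norm_num)

theorem no_3720 {G : Type*} [Group G] [Finite G] [IsSimpleGroup G]
    (hG : ¬ IsMulCommutative G) (h : Nat.card G = 3720) : False := by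
  have : Fact (Nat.Prime 31) := ⟨by norm_num⟩
  have hc : Nat.card G = 31 ^ 1 * 120 := by rw [h]; norm_num
  have hm : ¬ 31 ∣ 120 := by norm_num
  have hmem := card_sylow_mem_candidates hc hm
  have hcand : sylowCandidates 31 120 = [1] := by decide
  rw [hcand] at hmem
  simp only [List.mem_cons, List.not_mem_nil, or_false] at hmem
  have hlt := one_lt_card_sylow_of_card hc hm (by norm_num) (by norm_num)
  have hd := hmem
  · omega

theorem no_3721 {G : Type*} [Group G] [Finite G] [IsSimpleGroup G]
    (hG : ¬ IsMulCommutative G) (h : Nat.card G = 3721) : False := by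
  exact tp hG 61 2 2 0 (by norm_num) (by norm_num) (by rw [h]; norm_num)

theorem no_3722 {G : Type*} [Group G] [Finite G] [IsSimpleGroup G]
    (hG : ¬ IsMulCommutative G) (h : Nat.card G = 3722) : False := by
  exact tp hG 2 1861 1 1 (by norm_num) (by norm_num) (by rw [h]; norm_num)

theorem no_3723 {G : Type*} [Group G] [Finite G] [IsSimpleGroup G]
    (hG : ¬ IsMulCommutative G) (h : Nat.card G = 3723) : False := by
  have : Fact (Nat.Prime 73) := ⟨by norm_num⟩
  have hc : Nat.card G = 73 ^ 1 * 51 := by rw [h]; norm_num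
  have hm : ¬ 73 ∣ 51 := by norm_num
  have hmem := card_sylow_mem_candidates hc hm
  have hcand : sylowCandidates 73 51 = [1] := by decide
  rw [hcand] at hmem
  simp only [List.mem_cons, List.not_mem_nil, or_false] at hmem
  have hlt := one_lt_card_sylow_of_card hc hm (by norm_num) (by norm_num)
  have hd := hmem
  · omega

theorem no_3724 {G : Type*} [Group G] [Finite G] [IsSimpleGroup G]
    (hG : ¬ IsMulCommutative G) (h : Nat.card G = 3724) : False := by
  exact ev hG (by rw [h]; exact ⟨1862, by norm_num⟩) (by rw [h]; omega)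

theorem no_3725 {G : Type*} [Group G] [Finite G] [IsSimpleGroup G]
    (hG : ¬ IsMulCommutative G) (h : Nat.card G = 3725) : False := by
  exact tp hG 5 149 2 1 (by norm_num) (by norm_num) (by rw [h]; norm_num)

theorem no_3726 {G : Type*} [Group G] [Finite G] [IsSimpleGroup G]
    (hG : ¬ IsMulCommutative G) (h : Nat.card G = 3726) : False := by
  exact ev hG (by rw [h]; exact ⟨1863, by norm_num⟩) (by rw [h]; omega)

theorem no_3727 {G : Type*} [Group G] [Finite G] [IsSimpleGroup G]
    (hG : ¬ IsMulCommutative G) (h : Nat.card G = 3727) : False := by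
  exact tp hG 3727 2 1 0 (by norm_num) (by norm_num) (by rw [h]; norm_num)

theorem no_3728 {G : Type*} [Group G] [Finite G] [IsSimpleGroup G]
    (hG : ¬ IsMulCommutative G) (h : Nat.card G = 3728) : False := by
  exact tp hG 2 233 4 1 (by norm_num) (by norm_num) (by rw [h]; norm_num)

theorem no_3729 {G : Type*} [Group G] [Finite G] [IsSimpleGroup G]
    (hG : ¬ IsMulCommutative G) (h : Nat.card G = 3729) : False := by
  have : Fact (Nat.Prime 113) := ⟨by norm_num⟩
  have hc : Nat.card G = 113 ^ 1 * 33 := by rw [h]; norm_num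
  have hm : ¬ 113 ∣ 33 := by norm_num
  have hmem := card_sylow_mem_candidates hc hm
  have hcand : sylowCandidates 113 33 = [1] := by decide
  rw [hcand] at hmem
  simp only [List.mem_cons, List.not_mem_nil, or_false] at hmem
  have hlt := one_lt_card_sylow_of_card hc hm (by norm_num) (by norm_num)
  have hd := hmem
  · omega

theorem no_3730 {G : Type*} [Group G] [Finite G] [IsSimpleGroup G]
    (hG : ¬ IsMulCommutative G) (h : Nat.card G = 3730) : False := by
  exact ev hG (by rw [h]; exact ⟨1865, by norm_num⟩) (by rw [h]; omega)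

theorem no_3731 {G : Type*} [Group G] [Finite G] [IsSimpleGroup G]
    (hG : ¬ IsMulCommutative G) (h : Nat.card G = 3731) : False := by
  have : Fact (Nat.Prime 41) := ⟨by norm_num⟩
  have hc : Nat.card G = 41 ^ 1 * 91 := by rw [h]; norm_num
  have hm : ¬ 41 ∣ 91 := by norm_num
  have hmem := card_sylow_mem_candidates hc hm
  have hcand : sylowCandidates 41 91 = [1] := by decide
  rw [hcand] at hmem
  simp only [List.mem_cons, List.not_mem_nil, or_false] at hmem
  have hlt := one_lt_card_sylow_of_card hc hm (by norm_num) (by norm_num)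
  have hd := hmem
  · omega

theorem no_3732 {G : Type*} [Group G] [Finite G] [IsSimpleGroup G]
    (hG : ¬ IsMulCommutative G) (h : Nat.card G = 3732) : False := by
  have : Fact (Nat.Prime 311) := ⟨by norm_num⟩
  have hc : Nat.card G = 311 ^ 1 * 12 := by rw [h]; norm_num
  have hm : ¬ 311 ∣ 12 := by norm_num
  have hmem := card_sylow_mem_candidates hc hm
  have hcand : sylowCandidates 311 12 = [1] := by decide
  rw [hcand] at hmem
  simp only [List.mem_cons, List.not_mem_nil, or_false] at hmem
  have hlt := one_lt_card_sylow_of_card hc hm (by norm_num) (by norm_num)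
  have hd := hmem
  · omega

theorem no_3733 {G : Type*} [Group G] [Finite G] [IsSimpleGroup G]
    (hG : ¬ IsMulCommutative G) (h : Nat.card G = 3733) : False := by
  exact tp hG 3733 2 1 0 (by norm_num) (by norm_num) (by rw [h]; norm_num)

theorem no_3734 {G : Type*} [Group G] [Finite G] [IsSimpleGroup G]
    (hG : ¬ IsMulCommutative G) (h : Nat.card G = 3734) : False := by
  exact tp hG 2 1867 1 1 (by norm_num) (by norm_num) (by rw [h]; norm_num)

theorem no_3735 {G : Type*} [Group G] [Finite G] [IsSimpleGroup G]
    (hG : ¬ IsMulCommutative G) (h : Nat.card G = 3735) : False := by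
  have : Fact (Nat.Prime 83) := ⟨by norm_num⟩
  have hc : Nat.card G = 83 ^ 1 * 45 := by rw [h]; norm_num
  have hm : ¬ 83 ∣ 45 := by norm_num
  have hmem := card_sylow_mem_candidates hc hm
  have hcand : sylowCandidates 83 45 = [1] := by decide
  rw [hcand] at hmem
  simp only [List.mem_cons, List.not_mem_nil, or_false] at hmem
  have hlt := one_lt_card_sylow_of_card hc hm (by norm_num) (by norm_num)
  have hd := hmem
  · omega

theorem no_3736 {G : Type*} [Group G] [Finite G] [IsSimpleGroup G]
    (hG : ¬ IsMulCommutative G) (h : Nat.card G = 3736) : False := by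
  exact tp hG 2 467 3 1 (by norm_num) (by norm_num) (by rw [h]; norm_num)

theorem no_3737 {G : Type*} [Group G] [Finite G] [IsSimpleGroup G]
    (hG : ¬ IsMulCommutative G) (h : Nat.card G = 3737) : False := by
  exact tp hG 37 101 1 1 (by norm_num) (by norm_num) (by rw [h]; norm_num)

theorem no_3738 {G : Type*} [Group G] [Finite G] [IsSimpleGroup G]
    (hG : ¬ IsMulCommutative G) (h : Nat.card G = 3738) : False := by
  exact ev hG (by rw [h]; exact ⟨1869, by norm_num⟩) (by rw [h]; omega)

theorem no_3739 {G : Type*} [Group G] [Finite G] [IsSimpleGroup G]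
    (hG : ¬ IsMulCommutative G) (h : Nat.card G = 3739) : False := by
  exact tp hG 3739 2 1 0 (by norm_num) (by norm_num) (by rw [h]; norm_num)

theorem no_3740 {G : Type*} [Group G] [Finite G] [IsSimpleGroup G]
    (hG : ¬ IsMulCommutative G) (h : Nat.card G = 3740) : False := by
  exact ev hG (by rw [h]; exact ⟨1870, by norm_num⟩) (by rw [h]; omega)

theorem no_3741 {G : Type*} [Group G] [Finite G] [IsSimpleGroup G]
    (hG : ¬ IsMulCommutative G) (h : Nat.card G = 3741) : False := by
  have : Fact (Nat.Prime 43) := ⟨by norm_num⟩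
  have hc : Nat.card G = 43 ^ 1 * 87 := by rw [h]; norm_num
  have hm : ¬ 43 ∣ 87 := by norm_num
  have hmem := card_sylow_mem_candidates hc hm
  have hcand : sylowCandidates 43 87 = [1, 87] := by decide
  rw [hcand] at hmem
  simp only [List.mem_cons, List.not_mem_nil, or_false] at hmem
  have hlt := one_lt_card_sylow_of_card hc hm (by norm_num) (by norm_num)
  rcases hmem with hd | hd
  · omega
  · exact burn_kill hc hm (by norm_num) 87 hd (by decide)

theorem no_3742 {G : Type*} [Group G] [Finite G] [IsSimpleGroup G]
    (hG : ¬ IsMulCommutative G) (h : Nat.card G = 3742) : False := by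
  exact tp hG 2 1871 1 1 (by norm_num) (by norm_num) (by rw [h]; norm_num)

theorem no_3743 {G : Type*} [Group G] [Finite G] [IsSimpleGroup G]
    (hG : ¬ IsMulCommutative G) (h : Nat.card G = 3743) : False := by
  exact tp hG 19 197 1 1 (by norm_num) (by norm_num) (by rw [h]; norm_num)

theorem no_3745 {G : Type*} [Group G] [Finite G] [IsSimpleGroup G]
    (hG : ¬ IsMulCommutative G) (h : Nat.card G = 3745) : False := by
  have : Fact (Nat.Prime 107) := ⟨by norm_num⟩
  have hc : Nat.card G = 107 ^ 1 * 35 := by rw [h]; norm_num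
  have hm : ¬ 107 ∣ 35 := by norm_num
  have hmem := card_sylow_mem_candidates hc hm
  have hcand : sylowCandidates 107 35 = [1] := by decide
  rw [hcand] at hmem
  simp only [List.mem_cons, List.not_mem_nil, or_false] at hmem
  have hlt := one_lt_card_sylow_of_card hc hm (by norm_num) (by norm_num)
  have hd := hmem
  · omega

theorem no_3746 {G : Type*} [Group G] [Finite G] [IsSimpleGroup G]
    (hG : ¬ IsMulCommutative G) (h : Nat.card G = 3746) : False := by
  exact tp hG 2 1873 1 1 (by norm_num) (by norm_num) (by rw [h]; norm_num)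

theorem no_3747 {G : Type*} [Group G] [Finite G] [IsSimpleGroup G]
    (hG : ¬ IsMulCommutative G) (h : Nat.card G = 3747) : False := by
  exact tp hG 3 1249 1 1 (by norm_num) (by norm_num) (by rw [h]; norm_num)

theorem no_3748 {G : Type*} [Group G] [Finite G] [IsSimpleGroup G]
    (hG : ¬ IsMulCommutative G) (h : Nat.card G = 3748) : False := by
  exact tp hG 2 937 2 1 (by norm_num) (by norm_num) (by rw [h]; norm_num)

theorem no_3749 {G : Type*} [Group G] [Finite G] [IsSimpleGroup G]
    (hG : ¬ IsMulCommutative G) (h : Nat.card G = 3749) : False := by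
  exact tp hG 23 163 1 1 (by norm_num) (by norm_num) (by rw [h]; norm_num)

theorem no_3750 {G : Type*} [Group G] [Finite G] [IsSimpleGroup G]
    (hG : ¬ IsMulCommutative G) (h : Nat.card G = 3750) : False := by
  exact ev hG (by rw [h]; exact ⟨1875, by norm_num⟩) (by rw [h]; omega)

theorem no_3751 {G : Type*} [Group G] [Finite G] [IsSimpleGroup G]
    (hG : ¬ IsMulCommutative G) (h : Nat.card G = 3751) : False := by
  exact tp hG 11 31 2 1 (by norm_num) (by norm_num) (by rw [h]; norm_num)

theorem no_3752 {G : Type*} [Group G] [Finite G] [IsSimpleGroup G]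
    (hG : ¬ IsMulCommutative G) (h : Nat.card G = 3752) : False := by
  have : Fact (Nat.Prime 67) := ⟨by norm_num⟩
  have hc : Nat.card G = 67 ^ 1 * 56 := by rw [h]; norm_num
  have hm : ¬ 67 ∣ 56 := by norm_num
  have hmem := card_sylow_mem_candidates hc hm
  have hcand : sylowCandidates 67 56 = [1] := by decide
  rw [hcand] at hmem
  simp only [List.mem_cons, List.not_mem_nil, or_false] at hmem
  have hlt := one_lt_card_sylow_of_card hc hm (by norm_num) (by norm_num)
  have hd := hmem
  · omega

theorem no_3753 {G : Type*} [Group G] [Finite G] [IsSimpleGroup G]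
    (hG : ¬ IsMulCommutative G) (h : Nat.card G = 3753) : False := by
  exact tp hG 3 139 3 1 (by norm_num) (by norm_num) (by rw [h]; norm_num)

theorem no_3754 {G : Type*} [Group G] [Finite G] [IsSimpleGroup G]
    (hG : ¬ IsMulCommutative G) (h : Nat.card G = 3754) : False := by
  exact tp hG 2 1877 1 1 (by norm_num) (by norm_num) (by rw [h]; norm_num)

theorem no_3755 {G : Type*} [Group G] [Finite G] [IsSimpleGroup G]
    (hG : ¬ IsMulCommutative G) (h : Nat.card G = 3755) : False := by
  exact tp hG 5 751 1 1 (by norm_num) (by norm_num) (by rw [h]; norm_num)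

theorem no_3756 {G : Type*} [Group G] [Finite G] [IsSimpleGroup G]
    (hG : ¬ IsMulCommutative G) (h : Nat.card G = 3756) : False := by
  have : Fact (Nat.Prime 313) := ⟨by norm_num⟩
  have hc : Nat.card G = 313 ^ 1 * 12 := by rw [h]; norm_num
  have hm : ¬ 313 ∣ 12 := by norm_num
  have hmem := card_sylow_mem_candidates hc hm
  have hcand : sylowCandidates 313 12 = [1] := by decide
  rw [hcand] at hmem
  simp only [List.mem_cons, List.not_mem_nil, or_false] at hmem
  have hlt := one_lt_card_sylow_of_card hc hm (by norm_num) (by norm_num)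
  have hd := hmem
  · omega

theorem no_3757 {G : Type*} [Group G] [Finite G] [IsSimpleGroup G]
    (hG : ¬ IsMulCommutative G) (h : Nat.card G = 3757) : False := by
  exact tp hG 13 17 1 2 (by norm_num) (by norm_num) (by rw [h]; norm_num)

theorem no_3758 {G : Type*} [Group G] [Finite G] [IsSimpleGroup G]
    (hG : ¬ IsMulCommutative G) (h : Nat.card G = 3758) : False := by
  exact tp hG 2 1879 1 1 (by norm_num) (by norm_num) (by rw [h]; norm_num)

theorem no_3759 {G : Type*} [Group G] [Finite G] [IsSimpleGroup G]
    (hG : ¬ IsMulCommutative G) (h : Nat.card G = 3759) : False := by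
  have : Fact (Nat.Prime 179) := ⟨by norm_num⟩
  have hc : Nat.card G = 179 ^ 1 * 21 := by rw [h]; norm_num
  have hm : ¬ 179 ∣ 21 := by norm_num
  have hmem := card_sylow_mem_candidates hc hm
  have hcand : sylowCandidates 179 21 = [1] := by decide
  rw [hcand] at hmem
  simp only [List.mem_cons, List.not_mem_nil, or_false] at hmem
  have hlt := one_lt_card_sylow_of_card hc hm (by norm_num) (by norm_num)
  have hd := hmem
  · omega

theorem no_3760 {G : Type*} [Group G] [Finite G] [IsSimpleGroup G]
    (hG : ¬ IsMulCommutative G) (h : Nat.card G = 3760) : False := by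
  have : Fact (Nat.Prime 47) := ⟨by norm_num⟩
  have hc : Nat.card G = 47 ^ 1 * 80 := by rw [h]; norm_num
  have hm : ¬ 47 ∣ 80 := by norm_num
  have hmem := card_sylow_mem_candidates hc hm
  have hcand : sylowCandidates 47 80 = [1] := by decide
  rw [hcand] at hmem
  simp only [List.mem_cons, List.not_mem_nil, or_false] at hmem
  have hlt := one_lt_card_sylow_of_card hc hm (by norm_num) (by norm_num)
  have hd := hmem
  · omega

theorem no_3761 {G : Type*} [Group G] [Finite G] [IsSimpleGroup G]
    (hG : ¬ IsMulCommutative G) (h : Nat.card G = 3761) : False := by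
  exact tp hG 3761 2 1 0 (by norm_num) (by norm_num) (by rw [h]; norm_num)

theorem no_3762 {G : Type*} [Group G] [Finite G] [IsSimpleGroup G]
    (hG : ¬ IsMulCommutative G) (h : Nat.card G = 3762) : False := by
  exact ev hG (by rw [h]; exact ⟨1881, by norm_num⟩) (by rw [h]; omega)

theorem no_3763 {G : Type*} [Group G] [Finite G] [IsSimpleGroup G]
    (hG : ¬ IsMulCommutative G) (h : Nat.card G = 3763) : False := by
  exact tp hG 53 71 1 1 (by norm_num) (by norm_num) (by rw [h]; norm_num)

theorem no_3764 {G : Type*} [Group G] [Finite G] [IsSimpleGroup G]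
    (hG : ¬ IsMulCommutative G) (h : Nat.card G = 3764) : False := by
  exact tp hG 2 941 2 1 (by norm_num) (by norm_num) (by rw [h]; norm_num)

theorem no_3765 {G : Type*} [Group G] [Finite G] [IsSimpleGroup G]
    (hG : ¬ IsMulCommutative G) (h : Nat.card G = 3765) : False := by
  have : Fact (Nat.Prime 251) := ⟨by norm_num⟩
  have hc : Nat.card G = 251 ^ 1 * 15 := by rw [h]; norm_num
  have hm : ¬ 251 ∣ 15 := by norm_num
  have hmem := card_sylow_mem_candidates hc hm
  have hcand : sylowCandidates 251 15 = [1] := by decide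
  rw [hcand] at hmem
  simp only [List.mem_cons, List.not_mem_nil, or_false] at hmem
  have hlt := one_lt_card_sylow_of_card hc hm (by norm_num) (by norm_num)
  have hd := hmem
  · omega

theorem no_3766 {G : Type*} [Group G] [Finite G] [IsSimpleGroup G]
    (hG : ¬ IsMulCommutative G) (h : Nat.card G = 3766) : False := by
  exact ev hG (by rw [h]; exact ⟨1883, by norm_num⟩) (by rw [h]; omega)

theorem no_3767 {G : Type*} [Group G] [Finite G] [IsSimpleGroup G]
    (hG : ¬ IsMulCommutative G) (h : Nat.card G = 3767) : False := by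
  exact tp hG 3767 2 1 0 (by norm_num) (by norm_num) (by rw [h]; norm_num)

theorem no_3768 {G : Type*} [Group G] [Finite G] [IsSimpleGroup G]
    (hG : ¬ IsMulCommutative G) (h : Nat.card G = 3768) : False := by
  have : Fact (Nat.Prime 157) := ⟨by norm_num⟩
  have hc : Nat.card G = 157 ^ 1 * 24 := by rw [h]; norm_num
  have hm : ¬ 157 ∣ 24 := by norm_num
  have hmem := card_sylow_mem_candidates hc hm
  have hcand : sylowCandidates 157 24 = [1] := by decide
  rw [hcand] at hmem
  simp only [List.mem_cons, List.not_mem_nil, or_false] at hmem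
  have hlt := one_lt_card_sylow_of_card hc hm (by norm_num) (by norm_num)
  have hd := hmem
  · omega

theorem no_3769 {G : Type*} [Group G] [Finite G] [IsSimpleGroup G]
    (hG : ¬ IsMulCommutative G) (h : Nat.card G = 3769) : False := by
  exact tp hG 3769 2 1 0 (by norm_num) (by norm_num) (by rw [h]; norm_num)

theorem no_3770 {G : Type*} [Group G] [Finite G] [IsSimpleGroup G]
    (hG : ¬ IsMulCommutative G) (h : Nat.card G = 3770) : False := by
  exact ev hG (by rw [h]; exact ⟨1885, by norm_num⟩) (by rw [h]; omega)

theorem no_3771 {G : Type*} [Group G] [Finite G] [IsSimpleGroup G]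
    (hG : ¬ IsMulCommutative G) (h : Nat.card G = 3771) : False := by
  exact tp hG 3 419 2 1 (by norm_num) (by norm_num) (by rw [h]; norm_num)

theorem no_3772 {G : Type*} [Group G] [Finite G] [IsSimpleGroup G]
    (hG : ¬ IsMulCommutative G) (h : Nat.card G = 3772) : False := by
  exact ev hG (by rw [h]; exact ⟨1886, by norm_num⟩) (by rw [h]; omega)

theorem no_3773 {G : Type*} [Group G] [Finite G] [IsSimpleGroup G]
    (hG : ¬ IsMulCommutative G) (h : Nat.card G = 3773) : False := by
  exact tp hG 7 11 3 1 (by norm_num) (by norm_num) (by rw [h]; norm_num)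

theorem no_3774 {G : Type*} [Group G] [Finite G] [IsSimpleGroup G]
    (hG : ¬ IsMulCommutative G) (h : Nat.card G = 3774) : False := by
  exact ev hG (by rw [h]; exact ⟨1887, by norm_num⟩) (by rw [h]; omega)

theorem no_3775 {G : Type*} [Group G] [Finite G] [IsSimpleGroup G]
    (hG : ¬ IsMulCommutative G) (h : Nat.card G = 3775) : False := by
  exact tp hG 5 151 2 1 (by norm_num) (by norm_num) (by rw [h]; norm_num)

theorem no_3776 {G : Type*} [Group G] [Finite G] [IsSimpleGroup G]
    (hG : ¬ IsMulCommutative G) (h : Nat.card G = 3776) : False := by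
  exact tp hG 2 59 6 1 (by norm_num) (by norm_num) (by rw [h]; norm_num)

theorem no_3777 {G : Type*} [Group G] [Finite G] [IsSimpleGroup G]
    (hG : ¬ IsMulCommutative G) (h : Nat.card G = 3777) : False := by
  exact tp hG 3 1259 1 1 (by norm_num) (by norm_num) (by rw [h]; norm_num)

theorem no_3778 {G : Type*} [Group G] [Finite G] [IsSimpleGroup G]
    (hG : ¬ IsMulCommutative G) (h : Nat.card G = 3778) : False := by
  exact tp hG 2 1889 1 1 (by norm_num) (by norm_num) (by rw [h]; norm_num)

theorem no_3779 {G : Type*} [Group G] [Finite G] [IsSimpleGroup G]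
    (hG : ¬ IsMulCommutative G) (h : Nat.card G = 3779) : False := by
  exact tp hG 3779 2 1 0 (by norm_num) (by norm_num) (by rw [h]; norm_num)

theorem no_3781 {G : Type*} [Group G] [Finite G] [IsSimpleGroup G]
    (hG : ¬ IsMulCommutative G) (h : Nat.card G = 3781) : False := by
  exact tp hG 19 199 1 1 (by norm_num) (by norm_num) (by rw [h]; norm_num)

theorem no_3782 {G : Type*} [Group G] [Finite G] [IsSimpleGroup G]
    (hG : ¬ IsMulCommutative G) (h : Nat.card G = 3782) : False := by
  exact ev hG (by rw [h]; exact ⟨1891, by norm_num⟩) (by rw [h]; omega)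

theorem no_3783 {G : Type*} [Group G] [Finite G] [IsSimpleGroup G]
    (hG : ¬ IsMulCommutative G) (h : Nat.card G = 3783) : False := by
  have : Fact (Nat.Prime 97) := ⟨by norm_num⟩
  have hc : Nat.card G = 97 ^ 1 * 39 := by rw [h]; norm_num
  have hm : ¬ 97 ∣ 39 := by norm_num
  have hmem := card_sylow_mem_candidates hc hm
  have hcand : sylowCandidates 97 39 = [1] := by decide
  rw [hcand] at hmem
  simp only [List.mem_cons, List.not_mem_nil, or_false] at hmem
  have hlt := one_lt_card_sylow_of_card hc hm (by norm_num) (by norm_num)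
  have hd := hmem
  · omega

theorem no_3784 {G : Type*} [Group G] [Finite G] [IsSimpleGroup G]
    (hG : ¬ IsMulCommutative G) (h : Nat.card G = 3784) : False := by
  exact ev hG (by rw [h]; exact ⟨1892, by norm_num⟩) (by rw [h]; omega)

theorem no_3785 {G : Type*} [Group G] [Finite G] [IsSimpleGroup G]
    (hG : ¬ IsMulCommutative G) (h : Nat.card G = 3785) : False := by
  exact tp hG 5 757 1 1 (by norm_num) (by norm_num) (by rw [h]; norm_num)

theorem no_3786 {G : Type*} [Group G] [Finite G] [IsSimpleGroup G]
    (hG : ¬ IsMulCommutative G) (h : Nat.card G = 3786) : False := by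
  exact ev hG (by rw [h]; exact ⟨1893, by norm_num⟩) (by rw [h]; omega)

theorem no_3787 {G : Type*} [Group G] [Finite G] [IsSimpleGroup G]
    (hG : ¬ IsMulCommutative G) (h : Nat.card G = 3787) : False := by
  exact tp hG 7 541 1 1 (by norm_num) (by norm_num) (by rw [h]; norm_num)

theorem no_3788 {G : Type*} [Group G] [Finite G] [IsSimpleGroup G]
    (hG : ¬ IsMulCommutative G) (h : Nat.card G = 3788) : False := by
  exact tp hG 2 947 2 1 (by norm_num) (by norm_num) (by rw [h]; norm_num)

theorem no_3789 {G : Type*} [Group G] [Finite G] [IsSimpleGroup G]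
    (hG : ¬ IsMulCommutative G) (h : Nat.card G = 3789) : False := by
  exact tp hG 3 421 2 1 (by norm_num) (by norm_num) (by rw [h]; norm_num)

theorem no_3790 {G : Type*} [Group G] [Finite G] [IsSimpleGroup G]
    (hG : ¬ IsMulCommutative G) (h : Nat.card G = 3790) : False := by
  exact ev hG (by rw [h]; exact ⟨1895, by norm_num⟩) (by rw [h]; omega)

theorem no_3791 {G : Type*} [Group G] [Finite G] [IsSimpleGroup G]
    (hG : ¬ IsMulCommutative G) (h : Nat.card G = 3791) : False := by
  exact tp hG 17 223 1 1 (by norm_num) (by norm_num) (by rw [h]; norm_num)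

theorem no_3792 {G : Type*} [Group G] [Finite G] [IsSimpleGroup G]
    (hG : ¬ IsMulCommutative G) (h : Nat.card G = 3792) : False := by
  have : Fact (Nat.Prime 79) := ⟨by norm_num⟩
  have hc : Nat.card G = 79 ^ 1 * 48 := by rw [h]; norm_num
  have hm : ¬ 79 ∣ 48 := by norm_num
  have hmem := card_sylow_mem_candidates hc hm
  have hcand : sylowCandidates 79 48 = [1] := by decide
  rw [hcand] at hmem
  simp only [List.mem_cons, List.not_mem_nil, or_false] at hmem
  have hlt := one_lt_card_sylow_of_card hc hm (by norm_num) (by norm_num)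
  have hd := hmem
  · omega

theorem no_3793 {G : Type*} [Group G] [Finite G] [IsSimpleGroup G]
    (hG : ¬ IsMulCommutative G) (h : Nat.card G = 3793) : False := by
  exact tp hG 3793 2 1 0 (by norm_num) (by norm_num) (by rw [h]; norm_num)

theorem no_3794 {G : Type*} [Group G] [Finite G] [IsSimpleGroup G]
    (hG : ¬ IsMulCommutative G) (h : Nat.card G = 3794) : False := by
  exact ev hG (by rw [h]; exact ⟨1897, by norm_num⟩) (by rw [h]; omega)

theorem no_3795 {G : Type*} [Group G] [Finite G] [IsSimpleGroup G]
    (hG : ¬ IsMulCommutative G) (h : Nat.card G = 3795) : False := by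
  have : Fact (Nat.Prime 23) := ⟨by norm_num⟩
  have hc : Nat.card G = 23 ^ 1 * 165 := by rw [h]; norm_num
  have hm : ¬ 23 ∣ 165 := by norm_num
  have hmem := card_sylow_mem_candidates hc hm
  have hcand : sylowCandidates 23 165 = [1] := by decide
  rw [hcand] at hmem
  simp only [List.mem_cons, List.not_mem_nil, or_false] at hmem
  have hlt := one_lt_card_sylow_of_card hc hm (by norm_num) (by norm_num)
  have hd := hmem
  · omega

theorem no_3796 {G : Type*} [Group G] [Finite G] [IsSimpleGroup G]
    (hG : ¬ IsMulCommutative G) (h : Nat.card G = 3796) : False := by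
  exact ev hG (by rw [h]; exact ⟨1898, by norm_num⟩) (by rw [h]; omega)

theorem no_3797 {G : Type*} [Group G] [Finite G] [IsSimpleGroup G]
    (hG : ¬ IsMulCommutative G) (h : Nat.card G = 3797) : False := by
  exact tp hG 3797 2 1 0 (by norm_num) (by norm_num) (by rw [h]; norm_num)

theorem no_3798 {G : Type*} [Group G] [Finite G] [IsSimpleGroup G]
    (hG : ¬ IsMulCommutative G) (h : Nat.card G = 3798) : False := by
  exact ev hG (by rw [h]; exact ⟨1899, by norm_num⟩) (by rw [h]; omega)

theorem no_3799 {G : Type*} [Group G] [Finite G] [IsSimpleGroup G]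
    (hG : ¬ IsMulCommutative G) (h : Nat.card G = 3799) : False := by
  exact tp hG 29 131 1 1 (by norm_num) (by norm_num) (by rw [h]; norm_num)

theorem no_3800 {G : Type*} [Group G] [Finite G] [IsSimpleGroup G]
    (hG : ¬ IsMulCommutative G) (h : Nat.card G = 3800) : False := by
  exact ev hG (by rw [h]; exact ⟨1900, by norm_num⟩) (by rw [h]; omega)

/-- the orders in [3701, 3800] not excluded by the engine -/
theorem chunk {G : Type*} [Group G] [Finite G] [IsSimpleGroup G]
    (hG : ¬ IsMulCommutative G) (n : ℕ) (hn : Nat.card G = n) (h1 : 3701 ≤ n) (h2 : n ≤ 3800) :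
    n = 3744 ∨ n = 3780 := by
  interval_cases n
  · exact (no_3701 hG hn).elim
  · exact (no_3702 hG hn).elim
  · exact (no_3703 hG hn).elim
  · exact (no_3704 hG hn).elim
  · exact (no_3705 hG hn).elim
  · exact (no_3706 hG hn).elim
  · exact (no_3707 hG hn).elim
  · exact (no_3708 hG hn).elim
  · exact (no_3709 hG hn).elim
  · exact (no_3710 hG hn).elim
  · exact (no_3711 hG hn).elim
  · exact (no_3712 hG hn).elim
  · exact (no_3713 hG hn).elim
  · exact (no_3714 hG hn).elim
  · exact (no_3715 hG hn).elim
  · exact (no_3716 hG hn).elim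
  · exact (no_3717 hG hn).elim
  · exact (no_3718 hG hn).elim
  · exact (no_3719 hG hn).elim
  · exact (no_3720 hG hn).elim
  · exact (no_3721 hG hn).elim
  · exact (no_3722 hG hn).elim
  · exact (no_3723 hG hn).elim
  · exact (no_3724 hG hn).elim
  · exact (no_3725 hG hn).elim
  · exact (no_3726 hG hn).elim
  · exact (no_3727 hG hn).elim
  · exact (no_3728 hG hn).elim
  · exact (no_3729 hG hn).elim
  · exact (no_3730 hG hn).elim
  · exact (no_3731 hG hn).elim
  · exact (no_3732 hG hn).elim
  · exact (no_3733 hG hn).elim
  · exact (no_3734 hG hn).elim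
  · exact (no_3735 hG hn).elim
  · exact (no_3736 hG hn).elim
  · exact (no_3737 hG hn).elim
  · exact (no_3738 hG hn).elim
  · exact (no_3739 hG hn).elim
  · exact (no_3740 hG hn).elim
  · exact (no_3741 hG hn).elim
  · exact (no_3742 hG hn).elim
  · exact (no_3743 hG hn).elim
  · simp
  · exact (no_3745 hG hn).elim
  · exact (no_3746 hG hn).elim
  · exact (no_3747 hG hn).elim
  · exact (no_3748 hG hn).elim
  · exact (no_3749 hG hn).elim
  · exact (no_3750 hG hn).elim
  · exact (no_3751 hG hn).elim
  · exact (no_3752 hG hn).elim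
  · exact (no_3753 hG hn).elim
  · exact (no_3754 hG hn).elim
  · exact (no_3755 hG hn).elim
  · exact (no_3756 hG hn).elim
  · exact (no_3757 hG hn).elim
  · exact (no_3758 hG hn).elim
  · exact (no_3759 hG hn).elim
  · exact (no_3760 hG hn).elim
  · exact (no_3761 hG hn).elim
  · exact (no_3762 hG hn).elim
  · exact (no_3763 hG hn).elim
  · exact (no_3764 hG hn).elim
  · exact (no_3765 hG hn).elim
  · exact (no_3766 hG hn).elim
  · exact (no_3767 hG hn).elim
  · exact (no_3768 hG hn).elim
  · exact (no_3769 hG hn).elim
  · exact (no_3770 hG hn).elim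
  · exact (no_3771 hG hn).elim
  · exact (no_3772 hG hn).elim
  · exact (no_3773 hG hn).elim
  · exact (no_3774 hG hn).elim
  · exact (no_3775 hG hn).elim
  · exact (no_3776 hG hn).elim
  · exact (no_3777 hG hn).elim
  · exact (no_3778 hG hn).elim
  · exact (no_3779 hG hn).elim
  · simp
  · exact (no_3781 hG hn).elim
  · exact (no_3782 hG hn).elim
  · exact (no_3783 hG hn).elim
  · exact (no_3784 hG hn).elim
  · exact (no_3785 hG hn).elim
  · exact (no_3786 hG hn).elim
  · exact (no_3787 hG hn).elim
  · exact (no_3788 hG hn).elim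
  · exact (no_3789 hG hn).elim
  · exact (no_3790 hG hn).elim
  · exact (no_3791 hG hn).elim
  · exact (no_3792 hG hn).elim
  · exact (no_3793 hG hn).elim
  · exact (no_3794 hG hn).elim
  · exact (no_3795 hG hn).elim
  · exact (no_3796 hG hn).elim
  · exact (no_3797 hG hn).elim
  · exact (no_3798 hG hn).elim
  · exact (no_3799 hG hn).elim
  · exact (no_3800 hG hn).elim

end Cfsg.Agent.Lib.Helper16_SO_E01
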