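import Mathlib
import Cfsg.Agent.Lib.Helper75_SM_Base

/-!
# S0983 engine, generated file: no simple group of order N for the easy N in [3801, 3900]
(helper16; same scheme as helper75's `Helper75_SM_E*`)
-/

set_option autoImplicit false
set_option linter.unusedVariables false

namespace Cfsg.Agent.Lib.Helper16_SO_E02

open Cfsg.Agent.Lib.Helper17_Sylow Cfsg.Agent.Lib.Helper75_SM_Base

theorem no_3801 {G : Type*} [Group G] [Finite G] [IsSimpleGroup G]
    (hG : ¬ IsMulCommutative G) (h : Nat.card G = 3801) : False := by
  have : Fact (Nat.Prime 181) := ⟨by norm_num⟩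
  have hc : Nat.card G = 181 ^ 1 * 21 := by rw [h]; norm_num
  have hm : ¬ 181 ∣ 21 := by norm_num
  have hmem := card_sylow_mem_candidates hc hm
  have hcand : sylowCandidates 181 21 = [1] := by decide
  rw [hcand] at hmem
  simp only [List.mem_cons, List.not_mem_nil, or_false] at hmem
  have hlt := one_lt_card_sylow_of_card hc hm (by norm_num) (by norm_num)
  have hd := hmem
  · omega

theorem no_3802 {G : Type*} [Group G] [Finite G] [IsSimpleGroup G]
    (hG : ¬ IsMulCommutative G) (h : Nat.card G = 3802) : False := by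
  exact tp hG 2 1901 1 1 (by norm_num) (by norm_num) (by rw [h]; norm_num)

theorem no_3803 {G : Type*} [Group G] [Finite G] [IsSimpleGroup G]
    (hG : ¬ IsMulCommutative G) (h : Nat.card G = 3803) : False := by
  exact tp hG 3803 2 1 0 (by norm_num) (by norm_num) (by rw [h]; norm_num)

theorem no_3804 {G : Type*} [Group G] [Finite G] [IsSimpleGroup G]
    (hG : ¬ IsMulCommutative G) (h : Nat.card G = 3804) : False := by
  have : Fact (Nat.Prime 317) := ⟨by norm_num⟩
  have hc : Nat.card G = 317 ^ 1 * 12 := by rw [h]; norm_num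
  have hm : ¬ 317 ∣ 12 := by norm_num
  have hmem := card_sylow_mem_candidates hc hm
  have hcand : sylowCandidates 317 12 = [1] := by decide
  rw [hcand] at hmem
  simp only [List.mem_cons, List.not_mem_nil, or_false] at hmem
  have hlt := one_lt_card_sylow_of_card hc hm (by norm_num) (by norm_num)
  have hd := hmem
  · omega

theorem no_3805 {G : Type*} [Group G] [Finite G] [IsSimpleGroup G]
    (hG : ¬ IsMulCommutative G) (h : Nat.card G = 3805) : False := by
  exact tp hG 5 761 1 1 (by norm_num) (by norm_num) (by rw [h]; norm_num)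

theorem no_3806 {G : Type*} [Group G] [Finite G] [IsSimpleGroup G]
    (hG : ¬ IsMulCommutative G) (h : Nat.card G = 3806) : False := by
  exact ev hG (by rw [h]; exact ⟨1903, by norm_num⟩) (by rw [h]; omega)

theorem no_3807 {G : Type*} [Group G] [Finite G] [IsSimpleGroup G]
    (hG : ¬ IsMulCommutative G) (h : Nat.card G = 3807) : False := by
  exact tp hG 3 47 4 1 (by norm_num) (by norm_num) (by rw [h]; norm_num)

theorem no_3808 {G : Type*} [Group G] [Finite G] [IsSimpleGroup G]
    (hG : ¬ IsMulCommutative G) (h : Nat.card G = 3808) : False := by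
  have : Fact (Nat.Prime 17) := ⟨by norm_num⟩
  have hc : Nat.card G = 17 ^ 1 * 224 := by rw [h]; norm_num
  have hm : ¬ 17 ∣ 224 := by norm_num
  have hmem := card_sylow_mem_candidates hc hm
  have hcand : sylowCandidates 17 224 = [1] := by decide
  rw [hcand] at hmem
  simp only [List.mem_cons, List.not_mem_nil, or_false] at hmem
  have hlt := one_lt_card_sylow_of_card hc hm (by norm_num) (by norm_num)
  have hd := hmem
  · omega

theorem no_3809 {G : Type*} [Group G] [Finite G] [IsSimpleGroup G]
    (hG : ¬ IsMulCommutative G) (h : Nat.card G = 3809) : False := by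
  exact tp hG 13 293 1 1 (by norm_num) (by norm_num) (by rw [h]; norm_num)

theorem no_3810 {G : Type*} [Group G] [Finite G] [IsSimpleGroup G]
    (hG : ¬ IsMulCommutative G) (h : Nat.card G = 3810) : False := by
  exact ev hG (by rw [h]; exact ⟨1905, by norm_num⟩) (by rw [h]; omega)

theorem no_3811 {G : Type*} [Group G] [Finite G] [IsSimpleGroup G]
    (hG : ¬ IsMulCommutative G) (h : Nat.card G = 3811) : False := by
  exact tp hG 37 103 1 1 (by norm_num) (by norm_num) (by rw [h]; norm_num)

theorem no_3812 {G : Type*} [Group G] [Finite G] [IsSimpleGroup G]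
    (hG : ¬ IsMulCommutative G) (h : Nat.card G = 3812) : False := by
  exact tp hG 2 953 2 1 (by norm_num) (by norm_num) (by rw [h]; norm_num)

theorem no_3813 {G : Type*} [Group G] [Finite G] [IsSimpleGroup G]
    (hG : ¬ IsMulCommutative G) (h : Nat.card G = 3813) : False := by
  have : Fact (Nat.Prime 41) := ⟨by norm_num⟩
  have hc : Nat.card G = 41 ^ 1 * 93 := by rw [h]; norm_num
  have hm : ¬ 41 ∣ 93 := by norm_num
  have hmem := card_sylow_mem_candidates hc hm
  have hcand : sylowCandidates 41 93 = [1] := by decide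
  rw [hcand] at hmem
  simp only [List.mem_cons, List.not_mem_nil, or_false] at hmem
  have hlt := one_lt_card_sylow_of_card hc hm (by norm_num) (by norm_num)
  have hd := hmem
  · omega

theorem no_3814 {G : Type*} [Group G] [Finite G] [IsSimpleGroup G]
    (hG : ¬ IsMulCommutative G) (h : Nat.card G = 3814) : False := by
  exact tp hG 2 1907 1 1 (by norm_num) (by norm_num) (by rw [h]; norm_num)

theorem no_3815 {G : Type*} [Group G] [Finite G] [IsSimpleGroup G]
    (hG : ¬ IsMulCommutative G) (h : Nat.card G = 3815) : False := by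
  have : Fact (Nat.Prime 109) := ⟨by norm_num⟩
  have hc : Nat.card G = 109 ^ 1 * 35 := by rw [h]; norm_num
  have hm : ¬ 109 ∣ 35 := by norm_num
  have hmem := card_sylow_mem_candidates hc hm
  have hcand : sylowCandidates 109 35 = [1] := by decide
  rw [hcand] at hmem
  simp only [List.mem_cons, List.not_mem_nil, or_false] at hmem
  have hlt := one_lt_card_sylow_of_card hc hm (by norm_num) (by norm_num)
  have hd := hmem
  · omega

theorem no_3816 {G : Type*} [Group G] [Finite G] [IsSimpleGroup G]
    (hG : ¬ IsMulCommutative G) (h : Nat.card G = 3816) : False := by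
  have : Fact (Nat.Prime 53) := ⟨by norm_num⟩
  have hc : Nat.card G = 53 ^ 1 * 72 := by rw [h]; norm_num
  have hm : ¬ 53 ∣ 72 := by norm_num
  have hmem := card_sylow_mem_candidates hc hm
  have hcand : sylowCandidates 53 72 = [1] := by decide
  rw [hcand] at hmem
  simp only [List.mem_cons, List.not_mem_nil, or_false] at hmem
  have hlt := one_lt_card_sylow_of_card hc hm (by norm_num) (by norm_num)
  have hd := hmem
  · omega

theorem no_3817 {G : Type*} [Group G] [Finite G] [IsSimpleGroup G]
    (hG : ¬ IsMulCommutative G) (h : Nat.card G = 3817) : False := by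
  exact tp hG 11 347 1 1 (by norm_num) (by norm_num) (by rw [h]; norm_num)

theorem no_3818 {G : Type*} [Group G] [Finite G] [IsSimpleGroup G]
    (hG : ¬ IsMulCommutative G) (h : Nat.card G = 3818) : False := by
  exact ev hG (by rw [h]; exact ⟨1909, by norm_num⟩) (by rw [h]; omega)

theorem no_3819 {G : Type*} [Group G] [Finite G] [IsSimpleGroup G]
    (hG : ¬ IsMulCommutative G) (h : Nat.card G = 3819) : False := by
  have : Fact (Nat.Prime 67) := ⟨by norm_num⟩
  have hc : Nat.card G = 67 ^ 1 * 57 := by rw [h]; norm_num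
  have hm : ¬ 67 ∣ 57 := by norm_num
  have hmem := card_sylow_mem_candidates hc hm
  have hcand : sylowCandidates 67 57 = [1] := by decide
  rw [hcand] at hmem
  simp only [List.mem_cons, List.not_mem_nil, or_false] at hmem
  have hlt := one_lt_card_sylow_of_card hc hm (by norm_num) (by norm_num)
  have hd := hmem
  · omega

theorem no_3820 {G : Type*} [Group G] [Finite G] [IsSimpleGroup G]
    (hG : ¬ IsMulCommutative G) (h : Nat.card G = 3820) : False := by
  exact ev hG (by rw [h]; exact ⟨1910, by norm_num⟩) (by rw [h]; omega)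

theorem no_3821 {G : Type*} [Group G] [Finite G] [IsSimpleGroup G]
    (hG : ¬ IsMulCommutative G) (h : Nat.card G = 3821) : False := by
  exact tp hG 3821 2 1 0 (by norm_num) (by norm_num) (by rw [h]; norm_num)

theorem no_3822 {G : Type*} [Group G] [Finite G] [IsSimpleGroup G]
    (hG : ¬ IsMulCommutative G) (h : Nat.card G = 3822) : False := by
  exact ev hG (by rw [h]; exact ⟨1911, by norm_num⟩) (by rw [h]; omega)

theorem no_3823 {G : Type*} [Group G] [Finite G] [IsSimpleGroup G]
    (hG : ¬ IsMulCommutative G) (h : Nat.card G = 3823) : False := by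
  exact tp hG 3823 2 1 0 (by norm_num) (by norm_num) (by rw [h]; norm_num)

theorem no_3824 {G : Type*} [Group G] [Finite G] [IsSimpleGroup G]
    (hG : ¬ IsMulCommutative G) (h : Nat.card G = 3824) : False := by
  exact tp hG 2 239 4 1 (by norm_num) (by norm_num) (by rw [h]; norm_num)

theorem no_3825 {G : Type*} [Group G] [Finite G] [IsSimpleGroup G]
    (hG : ¬ IsMulCommutative G) (h : Nat.card G = 3825) : False := by
  have : Fact (Nat.Prime 17) := ⟨by norm_num⟩
  have hc : Nat.card G = 17 ^ 1 * 225 := by rw [h]; norm_num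
  have hm : ¬ 17 ∣ 225 := by norm_num
  have hmem := card_sylow_mem_candidates hc hm
  have hcand : sylowCandidates 17 225 = [1] := by decide
  rw [hcand] at hmem
  simp only [List.mem_cons, List.not_mem_nil, or_false] at hmem
  have hlt := one_lt_card_sylow_of_card hc hm (by norm_num) (by norm_num)
  have hd := hmem
  · omega

theorem no_3826 {G : Type*} [Group G] [Finite G] [IsSimpleGroup G]
    (hG : ¬ IsMulCommutative G) (h : Nat.card G = 3826) : False := by
  exact tp hG 2 1913 1 1 (by norm_num) (by norm_num) (by rw [h]; norm_num)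

theorem no_3827 {G : Type*} [Group G] [Finite G] [IsSimpleGroup G]
    (hG : ¬ IsMulCommutative G) (h : Nat.card G = 3827) : False := by
  exact tp hG 43 89 1 1 (by norm_num) (by norm_num) (by rw [h]; norm_num)

theorem no_3828 {G : Type*} [Group G] [Finite G] [IsSimpleGroup G]
    (hG : ¬ IsMulCommutative G) (h : Nat.card G = 3828) : False := by
  have : Fact (Nat.Prime 29) := ⟨by norm_num⟩
  have hc : Nat.card G = 29 ^ 1 * 132 := by rw [h]; norm_num
  have hm : ¬ 29 ∣ 132 := by norm_num
  have hmem := card_sylow_mem_candidates hc hm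
  have hcand : sylowCandidates 29 132 = [1] := by decide
  rw [hcand] at hmem
  simp only [List.mem_cons, List.not_mem_nil, or_false] at hmem
  have hlt := one_lt_card_sylow_of_card hc hm (by norm_num) (by norm_num)
  have hd := hmem
  · omega

theorem no_3829 {G : Type*} [Group G] [Finite G] [IsSimpleGroup G]
    (hG : ¬ IsMulCommutative G) (h : Nat.card G = 3829) : False := by
  exact tp hG 7 547 1 1 (by norm_num) (by norm_num) (by rw [h]; norm_num)

theorem no_3830 {G : Type*} [Group G] [Finite G] [IsSimpleGroup G]
    (hG : ¬ IsMulCommutative G) (h : Nat.card G = 3830) : False := by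
  exact ev hG (by rw [h]; exact ⟨1915, by norm_num⟩) (by rw [h]; omega)

theorem no_3831 {G : Type*} [Group G] [Finite G] [IsSimpleGroup G]
    (hG : ¬ IsMulCommutative G) (h : Nat.card G = 3831) : False := by
  exact tp hG 3 1277 1 1 (by norm_num) (by norm_num) (by rw [h]; norm_num)

theorem no_3832 {G : Type*} [Group G] [Finite G] [IsSimpleGroup G]
    (hG : ¬ IsMulCommutative G) (h : Nat.card G = 3832) : False := by
  exact tp hG 2 479 3 1 (by norm_num) (by norm_num) (by rw [h]; norm_num)

theorem no_3833 {G : Type*} [Group G] [Finite G] [IsSimpleGroup G]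
    (hG : ¬ IsMulCommutative G) (h : Nat.card G = 3833) : False := by
  exact tp hG 3833 2 1 0 (by norm_num) (by norm_num) (by rw [h]; norm_num)

theorem no_3834 {G : Type*} [Group G] [Finite G] [IsSimpleGroup G]
    (hG : ¬ IsMulCommutative G) (h : Nat.card G = 3834) : False := by
  exact ev hG (by rw [h]; exact ⟨1917, by norm_num⟩) (by rw [h]; omega)

theorem no_3835 {G : Type*} [Group G] [Finite G] [IsSimpleGroup G]
    (hG : ¬ IsMulCommutative G) (h : Nat.card G = 3835) : False := by
  have : Fact (Nat.Prime 59) := ⟨by norm_num⟩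
  have hc : Nat.card G = 59 ^ 1 * 65 := by rw [h]; norm_num
  have hm : ¬ 59 ∣ 65 := by norm_num
  have hmem := card_sylow_mem_candidates hc hm
  have hcand : sylowCandidates 59 65 = [1] := by decide
  rw [hcand] at hmem
  simp only [List.mem_cons, List.not_mem_nil, or_false] at hmem
  have hlt := one_lt_card_sylow_of_card hc hm (by norm_num) (by norm_num)
  have hd := hmem
  · omega

theorem no_3836 {G : Type*} [Group G] [Finite G] [IsSimpleGroup G]
    (hG : ¬ IsMulCommutative G) (h : Nat.card G = 3836) : False := by
  exact ev hG (by rw [h]; exact ⟨1918, by norm_num⟩) (by rw [h]; omega)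

theorem no_3837 {G : Type*} [Group G] [Finite G] [IsSimpleGroup G]
    (hG : ¬ IsMulCommutative G) (h : Nat.card G = 3837) : False := by
  exact tp hG 3 1279 1 1 (by norm_num) (by norm_num) (by rw [h]; norm_num)

theorem no_3838 {G : Type*} [Group G] [Finite G] [IsSimpleGroup G]
    (hG : ¬ IsMulCommutative G) (h : Nat.card G = 3838) : False := by
  exact ev hG (by rw [h]; exact ⟨1919, by norm_num⟩) (by rw [h]; omega)

theorem no_3839 {G : Type*} [Group G] [Finite G] [IsSimpleGroup G]
    (hG : ¬ IsMulCommutative G) (h : Nat.card G = 3839) : False := by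
  exact tp hG 11 349 1 1 (by norm_num) (by norm_num) (by rw [h]; norm_num)

theorem no_3841 {G : Type*} [Group G] [Finite G] [IsSimpleGroup G]
    (hG : ¬ IsMulCommutative G) (h : Nat.card G = 3841) : False := by
  exact tp hG 23 167 1 1 (by norm_num) (by norm_num) (by rw [h]; norm_num)

theorem no_3842 {G : Type*} [Group G] [Finite G] [IsSimpleGroup G]
    (hG : ¬ IsMulCommutative G) (h : Nat.card G = 3842) : False := by
  exact ev hG (by rw [h]; exact ⟨1921, by norm_num⟩) (by rw [h]; omega)

theorem no_3843 {G : Type*} [Group G] [Finite G] [IsSimpleGroup G]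
    (hG : ¬ IsMulCommutative G) (h : Nat.card G = 3843) : False := by
  have : Fact (Nat.Prime 61) := ⟨by norm_num⟩
  have hc : Nat.card G = 61 ^ 1 * 63 := by rw [h]; norm_num
  have hm : ¬ 61 ∣ 63 := by norm_num
  have hmem := card_sylow_mem_candidates hc hm
  have hcand : sylowCandidates 61 63 = [1] := by decide
  rw [hcand] at hmem
  simp only [List.mem_cons, List.not_mem_nil, or_false] at hmem
  have hlt := one_lt_card_sylow_of_card hc hm (by norm_num) (by norm_num)
  have hd := hmem
  · omega

theorem no_3844 {G : Type*} [Group G] [Finite G] [IsSimpleGroup G]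
    (hG : ¬ IsMulCommutative G) (h : Nat.card G = 3844) : False := by
  exact tp hG 2 31 2 2 (by norm_num) (by norm_num) (by rw [h]; norm_num)

theorem no_3845 {G : Type*} [Group G] [Finite G] [IsSimpleGroup G]
    (hG : ¬ IsMulCommutative G) (h : Nat.card G = 3845) : False := by
  exact tp hG 5 769 1 1 (by norm_num) (by norm_num) (by rw [h]; norm_num)

theorem no_3846 {G : Type*} [Group G] [Finite G] [IsSimpleGroup G]
    (hG : ¬ IsMulCommutative G) (h : Nat.card G = 3846) : False := by
  exact ev hG (by rw [h]; exact ⟨1923, by norm_num⟩) (by rw [h]; omega)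

theorem no_3847 {G : Type*} [Group G] [Finite G] [IsSimpleGroup G]
    (hG : ¬ IsMulCommutative G) (h : Nat.card G = 3847) : False := by
  exact tp hG 3847 2 1 0 (by norm_num) (by norm_num) (by rw [h]; norm_num)

theorem no_3848 {G : Type*} [Group G] [Finite G] [IsSimpleGroup G]
    (hG : ¬ IsMulCommutative G) (h : Nat.card G = 3848) : False := by
  exact ev hG (by rw [h]; exact ⟨1924, by norm_num⟩) (by rw [h]; omega)

theorem no_3849 {G : Type*} [Group G] [Finite G] [IsSimpleGroup G]
    (hG : ¬ IsMulCommutative G) (h : Nat.card G = 3849) : False := by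
  exact tp hG 3 1283 1 1 (by norm_num) (by norm_num) (by rw [h]; norm_num)

theorem no_3850 {G : Type*} [Group G] [Finite G] [IsSimpleGroup G]
    (hG : ¬ IsMulCommutative G) (h : Nat.card G = 3850) : False := by
  exact ev hG (by rw [h]; exact ⟨1925, by norm_num⟩) (by rw [h]; omega)

theorem no_3851 {G : Type*} [Group G] [Finite G] [IsSimpleGroup G]
    (hG : ¬ IsMulCommutative G) (h : Nat.card G = 3851) : False := by
  exact tp hG 3851 2 1 0 (by norm_num) (by norm_num) (by rw [h]; norm_num)

theorem no_3852 {G : Type*} [Group G] [Finite G] [IsSimpleGroup G]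
    (hG : ¬ IsMulCommutative G) (h : Nat.card G = 3852) : False := by
  have : Fact (Nat.Prime 107) := ⟨by norm_num⟩
  have hc : Nat.card G = 107 ^ 1 * 36 := by rw [h]; norm_num
  have hm : ¬ 107 ∣ 36 := by norm_num
  have hmem := card_sylow_mem_candidates hc hm
  have hcand : sylowCandidates 107 36 = [1] := by decide
  rw [hcand] at hmem
  simp only [List.mem_cons, List.not_mem_nil, or_false] at hmem
  have hlt := one_lt_card_sylow_of_card hc hm (by norm_num) (by norm_num)
  have hd := hmem
  · omega

theorem no_3853 {G : Type*} [Group G] [Finite G] [IsSimpleGroup G]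
    (hG : ¬ IsMulCommutative G) (h : Nat.card G = 3853) : False := by
  exact tp hG 3853 2 1 0 (by norm_num) (by norm_num) (by rw [h]; norm_num)

theorem no_3854 {G : Type*} [Group G] [Finite G] [IsSimpleGroup G]
    (hG : ¬ IsMulCommutative G) (h : Nat.card G = 3854) : False := by
  exact ev hG (by rw [h]; exact ⟨1927, by norm_num⟩) (by rw [h]; omega)

theorem no_3855 {G : Type*} [Group G] [Finite G] [IsSimpleGroup G]
    (hG : ¬ IsMulCommutative G) (h : Nat.card G = 3855) : False := by
  have : Fact (Nat.Prime 257) := ⟨by norm_num⟩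
  have hc : Nat.card G = 257 ^ 1 * 15 := by rw [h]; norm_num
  have hm : ¬ 257 ∣ 15 := by norm_num
  have hmem := card_sylow_mem_candidates hc hm
  have hcand : sylowCandidates 257 15 = [1] := by decide
  rw [hcand] at hmem
  simp only [List.mem_cons, List.not_mem_nil, or_false] at hmem
  have hlt := one_lt_card_sylow_of_card hc hm (by norm_num) (by norm_num)
  have hd := hmem
  · omega

theorem no_3856 {G : Type*} [Group G] [Finite G] [IsSimpleGroup G]
    (hG : ¬ IsMulCommutative G) (h : Nat.card G = 3856) : False := by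
  exact tp hG 2 241 4 1 (by norm_num) (by norm_num) (by rw [h]; norm_num)

theorem no_3857 {G : Type*} [Group G] [Finite G] [IsSimpleGroup G]
    (hG : ¬ IsMulCommutative G) (h : Nat.card G = 3857) : False := by
  have : Fact (Nat.Prime 29) := ⟨by norm_num⟩
  have hc : Nat.card G = 29 ^ 1 * 133 := by rw [h]; norm_num
  have hm : ¬ 29 ∣ 133 := by norm_num
  have hmem := card_sylow_mem_candidates hc hm
  have hcand : sylowCandidates 29 133 = [1] := by decide
  rw [hcand] at hmem
  simp only [List.mem_cons, List.not_mem_nil, or_false] at hmem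
  have hlt := one_lt_card_sylow_of_card hc hm (by norm_num) (by norm_num)
  have hd := hmem
  · omega

theorem no_3858 {G : Type*} [Group G] [Finite G] [IsSimpleGroup G]
    (hG : ¬ IsMulCommutative G) (h : Nat.card G = 3858) : False := by
  exact ev hG (by rw [h]; exact ⟨1929, by norm_num⟩) (by rw [h]; omega)

theorem no_3859 {G : Type*} [Group G] [Finite G] [IsSimpleGroup G]
    (hG : ¬ IsMulCommutative G) (h : Nat.card G = 3859) : False := by
  exact tp hG 17 227 1 1 (by norm_num) (by norm_num) (by rw [h]; norm_num)

theorem no_3860 {G : Type*} [Group G] [Finite G] [IsSimpleGroup G]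
    (hG : ¬ IsMulCommutative G) (h : Nat.card G = 3860) : False := by
  exact ev hG (by rw [h]; exact ⟨1930, by norm_num⟩) (by rw [h]; omega)

theorem no_3861 {G : Type*} [Group G] [Finite G] [IsSimpleGroup G]
    (hG : ¬ IsMulCommutative G) (h : Nat.card G = 3861) : False := by
  have : Fact (Nat.Prime 13) := ⟨by norm_num⟩
  have hc : Nat.card G = 13 ^ 1 * 297 := by rw [h]; norm_num
  have hm : ¬ 13 ∣ 297 := by norm_num
  have hmem := card_sylow_mem_candidates hc hm
  have hcand : sylowCandidates 13 297 = [1, 27] := by decide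
  rw [hcand] at hmem
  simp only [List.mem_cons, List.not_mem_nil, or_false] at hmem
  have hlt := one_lt_card_sylow_of_card hc hm (by norm_num) (by norm_num)
  rcases hmem with hd | hd
  · omega
  · exact burn_kill hc hm (by norm_num) 27 hd (by decide)

theorem no_3862 {G : Type*} [Group G] [Finite G] [IsSimpleGroup G]
    (hG : ¬ IsMulCommutative G) (h : Nat.card G = 3862) : False := by
  exact tp hG 2 1931 1 1 (by norm_num) (by norm_num) (by rw [h]; norm_num)

theorem no_3863 {G : Type*} [Group G] [Finite G] [IsSimpleGroup G]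
    (hG : ¬ IsMulCommutative G) (h : Nat.card G = 3863) : False := by
  exact tp hG 3863 2 1 0 (by norm_num) (by norm_num) (by rw [h]; norm_num)

theorem no_3864 {G : Type*} [Group G] [Finite G] [IsSimpleGroup G]
    (hG : ¬ IsMulCommutative G) (h : Nat.card G = 3864) : False := by
  have : Fact (Nat.Prime 23) := ⟨by norm_num⟩
  have hc : Nat.card G = 23 ^ 1 * 168 := by rw [h]; norm_num
  have hm : ¬ 23 ∣ 168 := by norm_num
  have hmem := card_sylow_mem_candidates hc hm
  have hcand : sylowCandidates 23 168 = [1, 24] := by decide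
  rw [hcand] at hmem
  simp only [List.mem_cons, List.not_mem_nil, or_false] at hmem
  have hlt := one_lt_card_sylow_of_card hc hm (by norm_num) (by norm_num)
  rcases hmem with hd | hd
  · omega
  · exact burn_kill hc hm (by norm_num) 24 hd (by decide)

theorem no_3865 {G : Type*} [Group G] [Finite G] [IsSimpleGroup G]
    (hG : ¬ IsMulCommutative G) (h : Nat.card G = 3865) : False := by
  exact tp hG 5 773 1 1 (by norm_num) (by norm_num) (by rw [h]; norm_num)

theorem no_3866 {G : Type*} [Group G] [Finite G] [IsSimpleGroup G]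
    (hG : ¬ IsMulCommutative G) (h : Nat.card G = 3866) : False := by
  exact tp hG 2 1933 1 1 (by norm_num) (by norm_num) (by rw [h]; norm_num)

theorem no_3867 {G : Type*} [Group G] [Finite G] [IsSimpleGroup G]
    (hG : ¬ IsMulCommutative G) (h : Nat.card G = 3867) : False := by
  exact tp hG 3 1289 1 1 (by norm_num) (by norm_num) (by rw [h]; norm_num)

theorem no_3868 {G : Type*} [Group G] [Finite G] [IsSimpleGroup G]
    (hG : ¬ IsMulCommutative G) (h : Nat.card G = 3868) : False := by
  exact tp hG 2 967 2 1 (by norm_num) (by norm_num) (by rw [h]; norm_num)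

theorem no_3869 {G : Type*} [Group G] [Finite G] [IsSimpleGroup G]
    (hG : ¬ IsMulCommutative G) (h : Nat.card G = 3869) : False := by
  exact tp hG 53 73 1 1 (by norm_num) (by norm_num) (by rw [h]; norm_num)

theorem no_3870 {G : Type*} [Group G] [Finite G] [IsSimpleGroup G]
    (hG : ¬ IsMulCommutative G) (h : Nat.card G = 3870) : False := by
  exact ev hG (by rw [h]; exact ⟨1935, by norm_num⟩) (by rw [h]; omega)

theorem no_3871 {G : Type*} [Group G] [Finite G] [IsSimpleGroup G]
    (hG : ¬ IsMulCommutative G) (h : Nat.card G = 3871) : False := by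
  exact tp hG 7 79 2 1 (by norm_num) (by norm_num) (by rw [h]; norm_num)

theorem no_3872 {G : Type*} [Group G] [Finite G] [IsSimpleGroup G]
    (hG : ¬ IsMulCommutative G) (h : Nat.card G = 3872) : False := by
  exact tp hG 2 11 5 2 (by norm_num) (by norm_num) (by rw [h]; norm_num)

theorem no_3873 {G : Type*} [Group G] [Finite G] [IsSimpleGroup G]
    (hG : ¬ IsMulCommutative G) (h : Nat.card G = 3873) : False := by
  exact tp hG 3 1291 1 1 (by norm_num) (by norm_num) (by rw [h]; norm_num)

theorem no_3874 {G : Type*} [Group G] [Finite G] [IsSimpleGroup G]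
    (hG : ¬ IsMulCommutative G) (h : Nat.card G = 3874) : False := by
  exact ev hG (by rw [h]; exact ⟨1937, by norm_num⟩) (by rw [h]; omega)

theorem no_3875 {G : Type*} [Group G] [Finite G] [IsSimpleGroup G]
    (hG : ¬ IsMulCommutative G) (h : Nat.card G = 3875) : False := by
  exact tp hG 5 31 3 1 (by norm_num) (by norm_num) (by rw [h]; norm_num)

theorem no_3876 {G : Type*} [Group G] [Finite G] [IsSimpleGroup G]
    (hG : ¬ IsMulCommutative G) (h : Nat.card G = 3876) : False := by
  have : Fact (Nat.Prime 19) := ⟨by norm_num⟩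
  have hc : Nat.card G = 19 ^ 1 * 204 := by rw [h]; norm_num
  have hm : ¬ 19 ∣ 204 := by norm_num
  have hmem := card_sylow_mem_candidates hc hm
  have hcand : sylowCandidates 19 204 = [1] := by decide
  rw [hcand] at hmem
  simp only [List.mem_cons, List.not_mem_nil, or_false] at hmem
  have hlt := one_lt_card_sylow_of_card hc hm (by norm_num) (by norm_num)
  have hd := hmem
  · omega

theorem no_3877 {G : Type*} [Group G] [Finite G] [IsSimpleGroup G]
    (hG : ¬ IsMulCommutative G) (h : Nat.card G = 3877) : False := by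
  exact tp hG 3877 2 1 0 (by norm_num) (by norm_num) (by rw [h]; norm_num)

theorem no_3878 {G : Type*} [Group G] [Finite G] [IsSimpleGroup G]
    (hG : ¬ IsMulCommutative G) (h : Nat.card G = 3878) : False := by
  exact ev hG (by rw [h]; exact ⟨1939, by norm_num⟩) (by rw [h]; omega)

theorem no_3879 {G : Type*} [Group G] [Finite G] [IsSimpleGroup G]
    (hG : ¬ IsMulCommutative G) (h : Nat.card G = 3879) : False := by
  exact tp hG 3 431 2 1 (by norm_num) (by norm_num) (by rw [h]; norm_num)

theorem no_3880 {G : Type*} [Group G] [Finite G] [IsSimpleGroup G]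
    (hG : ¬ IsMulCommutative G) (h : Nat.card G = 3880) : False := by
  exact ev hG (by rw [h]; exact ⟨1940, by norm_num⟩) (by rw [h]; omega)

theorem no_3881 {G : Type*} [Group G] [Finite G] [IsSimpleGroup G]
    (hG : ¬ IsMulCommutative G) (h : Nat.card G = 3881) : False := by
  exact tp hG 3881 2 1 0 (by norm_num) (by norm_num) (by rw [h]; norm_num)

theorem no_3882 {G : Type*} [Group G] [Finite G] [IsSimpleGroup G]
    (hG : ¬ IsMulCommutative G) (h : Nat.card G = 3882) : False := by
  exact ev hG (by rw [h]; exact ⟨1941, by norm_num⟩) (by rw [h]; omega)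

theorem no_3883 {G : Type*} [Group G] [Finite G] [IsSimpleGroup G]
    (hG : ¬ IsMulCommutative G) (h : Nat.card G = 3883) : False := by
  exact tp hG 11 353 1 1 (by norm_num) (by norm_num) (by rw [h]; norm_num)

theorem no_3884 {G : Type*} [Group G] [Finite G] [IsSimpleGroup G]
    (hG : ¬ IsMulCommutative G) (h : Nat.card G = 3884) : False := by
  exact tp hG 2 971 2 1 (by norm_num) (by norm_num) (by rw [h]; norm_num)

theorem no_3885 {G : Type*} [Group G] [Finite G] [IsSimpleGroup G]
    (hG : ¬ IsMulCommutative G) (h : Nat.card G = 3885) : False := by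
  have : Fact (Nat.Prime 37) := ⟨by norm_num⟩
  have hc : Nat.card G = 37 ^ 1 * 105 := by rw [h]; norm_num
  have hm : ¬ 37 ∣ 105 := by norm_num
  have hmem := card_sylow_mem_candidates hc hm
  have hcand : sylowCandidates 37 105 = [1] := by decide
  rw [hcand] at hmem
  simp only [List.mem_cons, List.not_mem_nil, or_false] at hmem
  have hlt := one_lt_card_sylow_of_card hc hm (by norm_num) (by norm_num)
  have hd := hmem
  · omega

theorem no_3886 {G : Type*} [Group G] [Finite G] [IsSimpleGroup G]
    (hG : ¬ IsMulCommutative G) (h : Nat.card G = 3886) : False := by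
  exact ev hG (by rw [h]; exact ⟨1943, by norm_num⟩) (by rw [h]; omega)

theorem no_3887 {G : Type*} [Group G] [Finite G] [IsSimpleGroup G]
    (hG : ¬ IsMulCommutative G) (h : Nat.card G = 3887) : False := by
  exact tp hG 13 23 2 1 (by norm_num) (by norm_num) (by rw [h]; norm_num)

theorem no_3888 {G : Type*} [Group G] [Finite G] [IsSimpleGroup G]
    (hG : ¬ IsMulCommutative G) (h : Nat.card G = 3888) : False := by
  exact tp hG 2 3 4 5 (by norm_num) (by norm_num) (by rw [h]; norm_num)

theorem no_3889 {G : Type*} [Group G] [Finite G] [IsSimpleGroup G]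
    (hG : ¬ IsMulCommutative G) (h : Nat.card G = 3889) : False := by
  exact tp hG 3889 2 1 0 (by norm_num) (by norm_num) (by rw [h]; norm_num)

theorem no_3890 {G : Type*} [Group G] [Finite G] [IsSimpleGroup G]
    (hG : ¬ IsMulCommutative G) (h : Nat.card G = 3890) : False := by
  exact ev hG (by rw [h]; exact ⟨1945, by norm_num⟩) (by rw [h]; omega)

theorem no_3891 {G : Type*} [Group G] [Finite G] [IsSimpleGroup G]
    (hG : ¬ IsMulCommutative G) (h : Nat.card G = 3891) : False := by
  exact tp hG 3 1297 1 1 (by norm_num) (by norm_num) (by rw [h]; norm_num)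

theorem no_3892 {G : Type*} [Group G] [Finite G] [IsSimpleGroup G]
    (hG : ¬ IsMulCommutative G) (h : Nat.card G = 3892) : False := by
  exact ev hG (by rw [h]; exact ⟨1946, by norm_num⟩) (by rw [h]; omega)

theorem no_3893 {G : Type*} [Group G] [Finite G] [IsSimpleGroup G]
    (hG : ¬ IsMulCommutative G) (h : Nat.card G = 3893) : False := by
  exact tp hG 17 229 1 1 (by norm_num) (by norm_num) (by rw [h]; norm_num)

theorem no_3894 {G : Type*} [Group G] [Finite G] [IsSimpleGroup G]
    (hG : ¬ IsMulCommutative G) (h : Nat.card G = 3894) : False := by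
  exact ev hG (by rw [h]; exact ⟨1947, by norm_num⟩) (by rw [h]; omega)

theorem no_3895 {G : Type*} [Group G] [Finite G] [IsSimpleGroup G]
    (hG : ¬ IsMulCommutative G) (h : Nat.card G = 3895) : False := by
  have : Fact (Nat.Prime 41) := ⟨by norm_num⟩
  have hc : Nat.card G = 41 ^ 1 * 95 := by rw [h]; norm_num
  have hm : ¬ 41 ∣ 95 := by norm_num
  have hmem := card_sylow_mem_candidates hc hm
  have hcand : sylowCandidates 41 95 = [1] := by decide
  rw [hcand] at hmem
  simp only [List.mem_cons, List.not_mem_nil, or_false] at hmem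
  have hlt := one_lt_card_sylow_of_card hc hm (by norm_num) (by norm_num)
  have hd := hmem
  · omega

theorem no_3896 {G : Type*} [Group G] [Finite G] [IsSimpleGroup G]
    (hG : ¬ IsMulCommutative G) (h : Nat.card G = 3896) : False := by
  exact tp hG 2 487 3 1 (by norm_num) (by norm_num) (by rw [h]; norm_num)

theorem no_3897 {G : Type*} [Group G] [Finite G] [IsSimpleGroup G]
    (hG : ¬ IsMulCommutative G) (h : Nat.card G = 3897) : False := by
  exact tp hG 3 433 2 1 (by norm_num) (by norm_num) (by rw [h]; norm_num)

theorem no_3898 {G : Type*} [Group G] [Finite G] [IsSimpleGroup G]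
    (hG : ¬ IsMulCommutative G) (h : Nat.card G = 3898) : False := by
  exact tp hG 2 1949 1 1 (by norm_num) (by norm_num) (by rw [h]; norm_num)

theorem no_3899 {G : Type*} [Group G] [Finite G] [IsSimpleGroup G]
    (hG : ¬ IsMulCommutative G) (h : Nat.card G = 3899) : False := by
  exact tp hG 7 557 1 1 (by norm_num) (by norm_num) (by rw [h]; norm_num)

theorem no_3900 {G : Type*} [Group G] [Finite G] [IsSimpleGroup G]
    (hG : ¬ IsMulCommutative G) (h : Nat.card G = 3900) : False := by
  have : Fact (Nat.Prime 13) := ⟨by norm_num⟩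
  have hc : Nat.card G = 13 ^ 1 * 300 := by rw [h]; norm_num
  have hm : ¬ 13 ∣ 300 := by norm_num
  have hmem := card_sylow_mem_candidates hc hm
  have hcand : sylowCandidates 13 300 = [1, 300] := by decide
  rw [hcand] at hmem
  simp only [List.mem_cons, List.not_mem_nil, or_false] at hmem
  have hlt := one_lt_card_sylow_of_card hc hm (by norm_num) (by norm_num)
  rcases hmem with hd | hd
  · omega
  · exact burn_kill hc hm (by norm_num) 300 hd (by decide)

/-- the orders in [3801, 3900] not excluded by the engine -/
theorem chunk {G : Type*} [Group G] [Finite G] [IsSimpleGroup G]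
    (hG : ¬ IsMulCommutative G) (n : ℕ) (hn : Nat.card G = n) (h1 : 3801 ≤ n) (h2 : n ≤ 3900) :
    n = 3840 := by
  interval_cases n
  · exact (no_3801 hG hn).elim
  · exact (no_3802 hG hn).elim
  · exact (no_3803 hG hn).elim
  · exact (no_3804 hG hn).elim
  · exact (no_3805 hG hn).elim
  · exact (no_3806 hG hn).elim
  · exact (no_3807 hG hn).elim
  · exact (no_3808 hG hn).elim
  · exact (no_3809 hG hn).elim
  · exact (no_3810 hG hn).elim
  · exact (no_3811 hG hn).elim
  · exact (no_3812 hG hn).elim
  · exact (no_3813 hG hn).elim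
  · exact (no_3814 hG hn).elim
  · exact (no_3815 hG hn).elim
  · exact (no_3816 hG hn).elim
  · exact (no_3817 hG hn).elim
  · exact (no_3818 hG hn).elim
  · exact (no_3819 hG hn).elim
  · exact (no_3820 hG hn).elim
  · exact (no_3821 hG hn).elim
  · exact (no_3822 hG hn).elim
  · exact (no_3823 hG hn).elim
  · exact (no_3824 hG hn).elim
  · exact (no_3825 hG hn).elim
  · exact (no_3826 hG hn).elim
  · exact (no_3827 hG hn).elim
  · exact (no_3828 hG hn).elim
  · exact (no_3829 hG hn).elim
  · exact (no_3830 hG hn).elim
  · exact (no_3831 hG hn).elim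
  · exact (no_3832 hG hn).elim
  · exact (no_3833 hG hn).elim
  · exact (no_3834 hG hn).elim
  · exact (no_3835 hG hn).elim
  · exact (no_3836 hG hn).elim
  · exact (no_3837 hG hn).elim
  · exact (no_3838 hG hn).elim
  · exact (no_3839 hG hn).elim
  · simp
  · exact (no_3841 hG hn).elim
  · exact (no_3842 hG hn).elim
  · exact (no_3843 hG hn).elim
  · exact (no_3844 hG hn).elim
  · exact (no_3845 hG hn).elim
  · exact (no_3846 hG hn).elim
  · exact (no_3847 hG hn).elim
  · exact (no_3848 hG hn).elim
  · exact (no_3849 hG hn).elim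
  · exact (no_3850 hG hn).elim
  · exact (no_3851 hG hn).elim
  · exact (no_3852 hG hn).elim
  · exact (no_3853 hG hn).elim
  · exact (no_3854 hG hn).elim
  · exact (no_3855 hG hn).elim
  · exact (no_3856 hG hn).elim
  · exact (no_3857 hG hn).elim
  · exact (no_3858 hG hn).elim
  · exact (no_3859 hG hn).elim
  · exact (no_3860 hG hn).elim
  · exact (no_3861 hG hn).elim
  · exact (no_3862 hG hn).elim
  · exact (no_3863 hG hn).elim
  · exact (no_3864 hG hn).elim
  · exact (no_3865 hG hn).elim
  · exact (no_3866 hG hn).elim
  · exact (no_3867 hG hn).elim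
  · exact (no_3868 hG hn).elim
  · exact (no_3869 hG hn).elim
  · exact (no_3870 hG hn).elim
  · exact (no_3871 hG hn).elim
  · exact (no_3872 hG hn).elim
  · exact (no_3873 hG hn).elim
  · exact (no_3874 hG hn).elim
  · exact (no_3875 hG hn).elim
  · exact (no_3876 hG hn).elim
  · exact (no_3877 hG hn).elim
  · exact (no_3878 hG hn).elim
  · exact (no_3879 hG hn).elim
  · exact (no_3880 hG hn).elim
  · exact (no_3881 hG hn).elim
  · exact (no_3882 hG hn).elim
  · exact (no_3883 hG hn).elim
  · exact (no_3884 hG hn).elim
  · exact (no_3885 hG hn).elim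
  · exact (no_3886 hG hn).elim
  · exact (no_3887 hG hn).elim
  · exact (no_3888 hG hn).elim
  · exact (no_3889 hG hn).elim
  · exact (no_3890 hG hn).elim
  · exact (no_3891 hG hn).elim
  · exact (no_3892 hG hn).elim
  · exact (no_3893 hG hn).elim
  · exact (no_3894 hG hn).elim
  · exact (no_3895 hG hn).elim
  · exact (no_3896 hG hn).elim
  · exact (no_3897 hG hn).elim
  · exact (no_3898 hG hn).elim
  · exact (no_3899 hG hn).elim
  · exact (no_3900 hG hn).elim

end Cfsg.Agent.Lib.Helper16_SO_E02
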