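import Mathlib
import Cfsg.Agent.Lib.Helper75_SM_Base

/-!
# S0983 engine, generated file: no simple group of order N for the easy N in [3901, 4000]
(helper16; same scheme as helper75's `Helper75_SM_E*`)
-/

set_option autoImplicit false
set_option linter.unusedVariables false

namespace Cfsg.Agent.Lib.Helper16_SO_E03

open Cfsg.Agent.Lib.Helper17_Sylow Cfsg.Agent.Lib.Helper75_SM_Base

theorem no_3901 {G : Type*} [Group G] [Finite G] [IsSimpleGroup G]
    (hG : ¬ IsMulCommutative G) (h : Nat.card G = 3901) : False := by
  exact tp hG 47 83 1 1 (by norm_num) (by norm_num) (by rw [h]; norm_num)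

theorem no_3902 {G : Type*} [Group G] [Finite G] [IsSimpleGroup G]
    (hG : ¬ IsMulCommutative G) (h : Nat.card G = 3902) : False := by
  exact tp hG 2 1951 1 1 (by norm_num) (by norm_num) (by rw [h]; norm_num)

theorem no_3903 {G : Type*} [Group G] [Finite G] [IsSimpleGroup G]
    (hG : ¬ IsMulCommutative G) (h : Nat.card G = 3903) : False := by
  exact tp hG 3 1301 1 1 (by norm_num) (by norm_num) (by rw [h]; norm_num)

theorem no_3904 {G : Type*} [Group G] [Finite G] [IsSimpleGroup G]
    (hG : ¬ IsMulCommutative G) (h : Nat.card G = 3904) : False := by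
  exact tp hG 2 61 6 1 (by norm_num) (by norm_num) (by rw [h]; norm_num)

theorem no_3905 {G : Type*} [Group G] [Finite G] [IsSimpleGroup G]
    (hG : ¬ IsMulCommutative G) (h : Nat.card G = 3905) : False := by
  have : Fact (Nat.Prime 71) := ⟨by norm_num⟩
  have hc : Nat.card G = 71 ^ 1 * 55 := by rw [h]; norm_num
  have hm : ¬ 71 ∣ 55 := by norm_num
  have hmem := card_sylow_mem_candidates hc hm
  have hcand : sylowCandidates 71 55 = [1] := by decide
  rw [hcand] at hmem
  simp only [List.mem_cons, List.not_mem_nil, or_false] at hmem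
  have hlt := one_lt_card_sylow_of_card hc hm (by norm_num) (by norm_num)
  have hd := hmem
  · omega

theorem no_3906 {G : Type*} [Group G] [Finite G] [IsSimpleGroup G]
    (hG : ¬ IsMulCommutative G) (h : Nat.card G = 3906) : False := by
  exact ev hG (by rw [h]; exact ⟨1953, by norm_num⟩) (by rw [h]; omega)

theorem no_3907 {G : Type*} [Group G] [Finite G] [IsSimpleGroup G]
    (hG : ¬ IsMulCommutative G) (h : Nat.card G = 3907) : False := by
  exact tp hG 3907 2 1 0 (by norm_num) (by norm_num) (by rw [h]; norm_num)

theorem no_3908 {G : Type*} [Group G] [Finite G] [IsSimpleGroup G]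
    (hG : ¬ IsMulCommutative G) (h : Nat.card G = 3908) : False := by
  exact tp hG 2 977 2 1 (by norm_num) (by norm_num) (by rw [h]; norm_num)

theorem no_3909 {G : Type*} [Group G] [Finite G] [IsSimpleGroup G]
    (hG : ¬ IsMulCommutative G) (h : Nat.card G = 3909) : False := by
  exact tp hG 3 1303 1 1 (by norm_num) (by norm_num) (by rw [h]; norm_num)

theorem no_3910 {G : Type*} [Group G] [Finite G] [IsSimpleGroup G]
    (hG : ¬ IsMulCommutative G) (h : Nat.card G = 3910) : False := by
  exact ev hG (by rw [h]; exact ⟨1955, by norm_num⟩) (by rw [h]; omega)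

theorem no_3911 {G : Type*} [Group G] [Finite G] [IsSimpleGroup G]
    (hG : ¬ IsMulCommutative G) (h : Nat.card G = 3911) : False := by
  exact tp hG 3911 2 1 0 (by norm_num) (by norm_num) (by rw [h]; norm_num)

theorem no_3912 {G : Type*} [Group G] [Finite G] [IsSimpleGroup G]
    (hG : ¬ IsMulCommutative G) (h : Nat.card G = 3912) : False := by
  have : Fact (Nat.Prime 163) := ⟨by norm_num⟩
  have hc : Nat.card G = 163 ^ 1 * 24 := by rw [h]; norm_num
  have hm : ¬ 163 ∣ 24 := by norm_num
  have hmem := card_sylow_mem_candidates hc hm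
  have hcand : sylowCandidates 163 24 = [1] := by decide
  rw [hcand] at hmem
  simp only [List.mem_cons, List.not_mem_nil, or_false] at hmem
  have hlt := one_lt_card_sylow_of_card hc hm (by norm_num) (by norm_num)
  have hd := hmem
  · omega

theorem no_3913 {G : Type*} [Group G] [Finite G] [IsSimpleGroup G]
    (hG : ¬ IsMulCommutative G) (h : Nat.card G = 3913) : False := by
  have : Fact (Nat.Prime 43) := ⟨by norm_num⟩
  have hc : Nat.card G = 43 ^ 1 * 91 := by rw [h]; norm_num
  have hm : ¬ 43 ∣ 91 := by norm_num
  have hmem := card_sylow_mem_candidates hc hm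
  have hcand : sylowCandidates 43 91 = [1] := by decide
  rw [hcand] at hmem
  simp only [List.mem_cons, List.not_mem_nil, or_false] at hmem
  have hlt := one_lt_card_sylow_of_card hc hm (by norm_num) (by norm_num)
  have hd := hmem
  · omega

theorem no_3914 {G : Type*} [Group G] [Finite G] [IsSimpleGroup G]
    (hG : ¬ IsMulCommutative G) (h : Nat.card G = 3914) : False := by
  exact ev hG (by rw [h]; exact ⟨1957, by norm_num⟩) (by rw [h]; omega)

theorem no_3915 {G : Type*} [Group G] [Finite G] [IsSimpleGroup G]
    (hG : ¬ IsMulCommutative G) (h : Nat.card G = 3915) : False := by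
  have : Fact (Nat.Prime 29) := ⟨by norm_num⟩
  have hc : Nat.card G = 29 ^ 1 * 135 := by rw [h]; norm_num
  have hm : ¬ 29 ∣ 135 := by norm_num
  have hmem := card_sylow_mem_candidates hc hm
  have hcand : sylowCandidates 29 135 = [1] := by decide
  rw [hcand] at hmem
  simp only [List.mem_cons, List.not_mem_nil, or_false] at hmem
  have hlt := one_lt_card_sylow_of_card hc hm (by norm_num) (by norm_num)
  have hd := hmem
  · omega

theorem no_3916 {G : Type*} [Group G] [Finite G] [IsSimpleGroup G]
    (hG : ¬ IsMulCommutative G) (h : Nat.card G = 3916) : False := by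
  exact ev hG (by rw [h]; exact ⟨1958, by norm_num⟩) (by rw [h]; omega)

theorem no_3917 {G : Type*} [Group G] [Finite G] [IsSimpleGroup G]
    (hG : ¬ IsMulCommutative G) (h : Nat.card G = 3917) : False := by
  exact tp hG 3917 2 1 0 (by norm_num) (by norm_num) (by rw [h]; norm_num)

theorem no_3918 {G : Type*} [Group G] [Finite G] [IsSimpleGroup G]
    (hG : ¬ IsMulCommutative G) (h : Nat.card G = 3918) : False := by
  exact ev hG (by rw [h]; exact ⟨1959, by norm_num⟩) (by rw [h]; omega)

theorem no_3919 {G : Type*} [Group G] [Finite G] [IsSimpleGroup G]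
    (hG : ¬ IsMulCommutative G) (h : Nat.card G = 3919) : False := by
  exact tp hG 3919 2 1 0 (by norm_num) (by norm_num) (by rw [h]; norm_num)

theorem no_3920 {G : Type*} [Group G] [Finite G] [IsSimpleGroup G]
    (hG : ¬ IsMulCommutative G) (h : Nat.card G = 3920) : False := by
  have : Fact (Nat.Prime 7) := ⟨by norm_num⟩
  have hc : Nat.card G = 7 ^ 2 * 80 := by rw [h]; norm_num
  have hm : ¬ 7 ∣ 80 := by norm_num
  have hmem := card_sylow_mem_candidates hc hm
  have hcand : sylowCandidates 7 80 = [1, 8] := by decide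
  rw [hcand] at hmem
  simp only [List.mem_cons, List.not_mem_nil, or_false] at hmem
  have hlt := one_lt_card_sylow_of_card hc hm (by norm_num) (by norm_num)
  rcases hmem with hd | hd
  · omega
  · exact fact_kill hG 8 hd (by norm_num) (by rw [h]; decide)

theorem no_3921 {G : Type*} [Group G] [Finite G] [IsSimpleGroup G]
    (hG : ¬ IsMulCommutative G) (h : Nat.card G = 3921) : False := by
  exact tp hG 3 1307 1 1 (by norm_num) (by norm_num) (by rw [h]; norm_num)

theorem no_3922 {G : Type*} [Group G] [Finite G] [IsSimpleGroup G]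
    (hG : ¬ IsMulCommutative G) (h : Nat.card G = 3922) : False := by
  exact ev hG (by rw [h]; exact ⟨1961, by norm_num⟩) (by rw [h]; omega)

theorem no_3923 {G : Type*} [Group G] [Finite G] [IsSimpleGroup G]
    (hG : ¬ IsMulCommutative G) (h : Nat.card G = 3923) : False := by
  exact tp hG 3923 2 1 0 (by norm_num) (by norm_num) (by rw [h]; norm_num)

theorem no_3924 {G : Type*} [Group G] [Finite G] [IsSimpleGroup G]
    (hG : ¬ IsMulCommutative G) (h : Nat.card G = 3924) : False := by
  have : Fact (Nat.Prime 109) := ⟨by norm_num⟩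
  have hc : Nat.card G = 109 ^ 1 * 36 := by rw [h]; norm_num
  have hm : ¬ 109 ∣ 36 := by norm_num
  have hmem := card_sylow_mem_candidates hc hm
  have hcand : sylowCandidates 109 36 = [1] := by decide
  rw [hcand] at hmem
  simp only [List.mem_cons, List.not_mem_nil, or_false] at hmem
  have hlt := one_lt_card_sylow_of_card hc hm (by norm_num) (by norm_num)
  have hd := hmem
  · omega

theorem no_3925 {G : Type*} [Group G] [Finite G] [IsSimpleGroup G]
    (hG : ¬ IsMulCommutative G) (h : Nat.card G = 3925) : False := by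
  exact tp hG 5 157 2 1 (by norm_num) (by norm_num) (by rw [h]; norm_num)

theorem no_3926 {G : Type*} [Group G] [Finite G] [IsSimpleGroup G]
    (hG : ¬ IsMulCommutative G) (h : Nat.card G = 3926) : False := by
  exact ev hG (by rw [h]; exact ⟨1963, by norm_num⟩) (by rw [h]; omega)

theorem no_3927 {G : Type*} [Group G] [Finite G] [IsSimpleGroup G]
    (hG : ¬ IsMulCommutative G) (h : Nat.card G = 3927) : False := by
  have : Fact (Nat.Prime 17) := ⟨by norm_num⟩
  have hc : Nat.card G = 17 ^ 1 * 231 := by rw [h]; norm_num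
  have hm : ¬ 17 ∣ 231 := by norm_num
  have hmem := card_sylow_mem_candidates hc hm
  have hcand : sylowCandidates 17 231 = [1] := by decide
  rw [hcand] at hmem
  simp only [List.mem_cons, List.not_mem_nil, or_false] at hmem
  have hlt := one_lt_card_sylow_of_card hc hm (by norm_num) (by norm_num)
  have hd := hmem
  · omega

theorem no_3928 {G : Type*} [Group G] [Finite G] [IsSimpleGroup G]
    (hG : ¬ IsMulCommutative G) (h : Nat.card G = 3928) : False := by
  exact tp hG 2 491 3 1 (by norm_num) (by norm_num) (by rw [h]; norm_num)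

theorem no_3929 {G : Type*} [Group G] [Finite G] [IsSimpleGroup G]
    (hG : ¬ IsMulCommutative G) (h : Nat.card G = 3929) : False := by
  exact tp hG 3929 2 1 0 (by norm_num) (by norm_num) (by rw [h]; norm_num)

theorem no_3930 {G : Type*} [Group G] [Finite G] [IsSimpleGroup G]
    (hG : ¬ IsMulCommutative G) (h : Nat.card G = 3930) : False := by
  exact ev hG (by rw [h]; exact ⟨1965, by norm_num⟩) (by rw [h]; omega)

theorem no_3931 {G : Type*} [Group G] [Finite G] [IsSimpleGroup G]
    (hG : ¬ IsMulCommutative G) (h : Nat.card G = 3931) : False := by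
  exact tp hG 3931 2 1 0 (by norm_num) (by norm_num) (by rw [h]; norm_num)

theorem no_3932 {G : Type*} [Group G] [Finite G] [IsSimpleGroup G]
    (hG : ¬ IsMulCommutative G) (h : Nat.card G = 3932) : False := by
  exact tp hG 2 983 2 1 (by norm_num) (by norm_num) (by rw [h]; norm_num)

theorem no_3933 {G : Type*} [Group G] [Finite G] [IsSimpleGroup G]
    (hG : ¬ IsMulCommutative G) (h : Nat.card G = 3933) : False := by
  have : Fact (Nat.Prime 23) := ⟨by norm_num⟩
  have hc : Nat.card G = 23 ^ 1 * 171 := by rw [h]; norm_num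
  have hm : ¬ 23 ∣ 171 := by norm_num
  have hmem := card_sylow_mem_candidates hc hm
  have hcand : sylowCandidates 23 171 = [1] := by decide
  rw [hcand] at hmem
  simp only [List.mem_cons, List.not_mem_nil, or_false] at hmem
  have hlt := one_lt_card_sylow_of_card hc hm (by norm_num) (by norm_num)
  have hd := hmem
  · omega

theorem no_3934 {G : Type*} [Group G] [Finite G] [IsSimpleGroup G]
    (hG : ¬ IsMulCommutative G) (h : Nat.card G = 3934) : False := by
  exact ev hG (by rw [h]; exact ⟨1967, by norm_num⟩) (by rw [h]; omega)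

theorem no_3935 {G : Type*} [Group G] [Finite G] [IsSimpleGroup G]
    (hG : ¬ IsMulCommutative G) (h : Nat.card G = 3935) : False := by
  exact tp hG 5 787 1 1 (by norm_num) (by norm_num) (by rw [h]; norm_num)

theorem no_3936 {G : Type*} [Group G] [Finite G] [IsSimpleGroup G]
    (hG : ¬ IsMulCommutative G) (h : Nat.card G = 3936) : False := by
  have : Fact (Nat.Prime 41) := ⟨by norm_num⟩
  have hc : Nat.card G = 41 ^ 1 * 96 := by rw [h]; norm_num
  have hm : ¬ 41 ∣ 96 := by norm_num
  have hmem := card_sylow_mem_candidates hc hm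
  have hcand : sylowCandidates 41 96 = [1] := by decide
  rw [hcand] at hmem
  simp only [List.mem_cons, List.not_mem_nil, or_false] at hmem
  have hlt := one_lt_card_sylow_of_card hc hm (by norm_num) (by norm_num)
  have hd := hmem
  · omega

theorem no_3937 {G : Type*} [Group G] [Finite G] [IsSimpleGroup G]
    (hG : ¬ IsMulCommutative G) (h : Nat.card G = 3937) : False := by
  exact tp hG 31 127 1 1 (by norm_num) (by norm_num) (by rw [h]; norm_num)

theorem no_3938 {G : Type*} [Group G] [Finite G] [IsSimpleGroup G]
    (hG : ¬ IsMulCommutative G) (h : Nat.card G = 3938) : False := by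
  exact ev hG (by rw [h]; exact ⟨1969, by norm_num⟩) (by rw [h]; omega)

theorem no_3939 {G : Type*} [Group G] [Finite G] [IsSimpleGroup G]
    (hG : ¬ IsMulCommutative G) (h : Nat.card G = 3939) : False := by
  have : Fact (Nat.Prime 101) := ⟨by norm_num⟩
  have hc : Nat.card G = 101 ^ 1 * 39 := by rw [h]; norm_num
  have hm : ¬ 101 ∣ 39 := by norm_num
  have hmem := card_sylow_mem_candidates hc hm
  have hcand : sylowCandidates 101 39 = [1] := by decide
  rw [hcand] at hmem
  simp only [List.mem_cons, List.not_mem_nil, or_false] at hmem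
  have hlt := one_lt_card_sylow_of_card hc hm (by norm_num) (by norm_num)
  have hd := hmem
  · omega

theorem no_3940 {G : Type*} [Group G] [Finite G] [IsSimpleGroup G]
    (hG : ¬ IsMulCommutative G) (h : Nat.card G = 3940) : False := by
  exact ev hG (by rw [h]; exact ⟨1970, by norm_num⟩) (by rw [h]; omega)

theorem no_3941 {G : Type*} [Group G] [Finite G] [IsSimpleGroup G]
    (hG : ¬ IsMulCommutative G) (h : Nat.card G = 3941) : False := by
  exact tp hG 7 563 1 1 (by norm_num) (by norm_num) (by rw [h]; norm_num)

theorem no_3942 {G : Type*} [Group G] [Finite G] [IsSimpleGroup G]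
    (hG : ¬ IsMulCommutative G) (h : Nat.card G = 3942) : False := by
  exact ev hG (by rw [h]; exact ⟨1971, by norm_num⟩) (by rw [h]; omega)

theorem no_3943 {G : Type*} [Group G] [Finite G] [IsSimpleGroup G]
    (hG : ¬ IsMulCommutative G) (h : Nat.card G = 3943) : False := by
  exact tp hG 3943 2 1 0 (by norm_num) (by norm_num) (by rw [h]; norm_num)

theorem no_3944 {G : Type*} [Group G] [Finite G] [IsSimpleGroup G]
    (hG : ¬ IsMulCommutative G) (h : Nat.card G = 3944) : False := by
  exact ev hG (by rw [h]; exact ⟨1972, by norm_num⟩) (by rw [h]; omega)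

theorem no_3945 {G : Type*} [Group G] [Finite G] [IsSimpleGroup G]
    (hG : ¬ IsMulCommutative G) (h : Nat.card G = 3945) : False := by
  have : Fact (Nat.Prime 263) := ⟨by norm_num⟩
  have hc : Nat.card G = 263 ^ 1 * 15 := by rw [h]; norm_num
  have hm : ¬ 263 ∣ 15 := by norm_num
  have hmem := card_sylow_mem_candidates hc hm
  have hcand : sylowCandidates 263 15 = [1] := by decide
  rw [hcand] at hmem
  simp only [List.mem_cons, List.not_mem_nil, or_false] at hmem
  have hlt := one_lt_card_sylow_of_card hc hm (by norm_num) (by norm_num)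
  have hd := hmem
  · omega

theorem no_3946 {G : Type*} [Group G] [Finite G] [IsSimpleGroup G]
    (hG : ¬ IsMulCommutative G) (h : Nat.card G = 3946) : False := by
  exact tp hG 2 1973 1 1 (by norm_num) (by norm_num) (by rw [h]; norm_num)

theorem no_3947 {G : Type*} [Group G] [Finite G] [IsSimpleGroup G]
    (hG : ¬ IsMulCommutative G) (h : Nat.card G = 3947) : False := by
  exact tp hG 3947 2 1 0 (by norm_num) (by norm_num) (by rw [h]; norm_num)

theorem no_3948 {G : Type*} [Group G] [Finite G] [IsSimpleGroup G]
    (hG : ¬ IsMulCommutative G) (h : Nat.card G = 3948) : False := by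
  have : Fact (Nat.Prime 47) := ⟨by norm_num⟩
  have hc : Nat.card G = 47 ^ 1 * 84 := by rw [h]; norm_num
  have hm : ¬ 47 ∣ 84 := by norm_num
  have hmem := card_sylow_mem_candidates hc hm
  have hcand : sylowCandidates 47 84 = [1] := by decide
  rw [hcand] at hmem
  simp only [List.mem_cons, List.not_mem_nil, or_false] at hmem
  have hlt := one_lt_card_sylow_of_card hc hm (by norm_num) (by norm_num)
  have hd := hmem
  · omega

theorem no_3949 {G : Type*} [Group G] [Finite G] [IsSimpleGroup G]
    (hG : ¬ IsMulCommutative G) (h : Nat.card G = 3949) : False := by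
  exact tp hG 11 359 1 1 (by norm_num) (by norm_num) (by rw [h]; norm_num)

theorem no_3950 {G : Type*} [Group G] [Finite G] [IsSimpleGroup G]
    (hG : ¬ IsMulCommutative G) (h : Nat.card G = 3950) : False := by
  exact ev hG (by rw [h]; exact ⟨1975, by norm_num⟩) (by rw [h]; omega)

theorem no_3951 {G : Type*} [Group G] [Finite G] [IsSimpleGroup G]
    (hG : ¬ IsMulCommutative G) (h : Nat.card G = 3951) : False := by
  exact tp hG 3 439 2 1 (by norm_num) (by norm_num) (by rw [h]; norm_num)

theorem no_3952 {G : Type*} [Group G] [Finite G] [IsSimpleGroup G]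
    (hG : ¬ IsMulCommutative G) (h : Nat.card G = 3952) : False := by
  have : Fact (Nat.Prime 19) := ⟨by norm_num⟩
  have hc : Nat.card G = 19 ^ 1 * 208 := by rw [h]; norm_num
  have hm : ¬ 19 ∣ 208 := by norm_num
  have hmem := card_sylow_mem_candidates hc hm
  have hcand : sylowCandidates 19 208 = [1] := by decide
  rw [hcand] at hmem
  simp only [List.mem_cons, List.not_mem_nil, or_false] at hmem
  have hlt := one_lt_card_sylow_of_card hc hm (by norm_num) (by norm_num)
  have hd := hmem
  · omega

theorem no_3953 {G : Type*} [Group G] [Finite G] [IsSimpleGroup G]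
    (hG : ¬ IsMulCommutative G) (h : Nat.card G = 3953) : False := by
  exact tp hG 59 67 1 1 (by norm_num) (by norm_num) (by rw [h]; norm_num)

theorem no_3954 {G : Type*} [Group G] [Finite G] [IsSimpleGroup G]
    (hG : ¬ IsMulCommutative G) (h : Nat.card G = 3954) : False := by
  exact ev hG (by rw [h]; exact ⟨1977, by norm_num⟩) (by rw [h]; omega)

theorem no_3955 {G : Type*} [Group G] [Finite G] [IsSimpleGroup G]
    (hG : ¬ IsMulCommutative G) (h : Nat.card G = 3955) : False := by
  have : Fact (Nat.Prime 113) := ⟨by norm_num⟩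
  have hc : Nat.card G = 113 ^ 1 * 35 := by rw [h]; norm_num
  have hm : ¬ 113 ∣ 35 := by norm_num
  have hmem := card_sylow_mem_candidates hc hm
  have hcand : sylowCandidates 113 35 = [1] := by decide
  rw [hcand] at hmem
  simp only [List.mem_cons, List.not_mem_nil, or_false] at hmem
  have hlt := one_lt_card_sylow_of_card hc hm (by norm_num) (by norm_num)
  have hd := hmem
  · omega

theorem no_3956 {G : Type*} [Group G] [Finite G] [IsSimpleGroup G]
    (hG : ¬ IsMulCommutative G) (h : Nat.card G = 3956) : False := by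
  exact ev hG (by rw [h]; exact ⟨1978, by norm_num⟩) (by rw [h]; omega)

theorem no_3957 {G : Type*} [Group G] [Finite G] [IsSimpleGroup G]
    (hG : ¬ IsMulCommutative G) (h : Nat.card G = 3957) : False := by
  exact tp hG 3 1319 1 1 (by norm_num) (by norm_num) (by rw [h]; norm_num)

theorem no_3958 {G : Type*} [Group G] [Finite G] [IsSimpleGroup G]
    (hG : ¬ IsMulCommutative G) (h : Nat.card G = 3958) : False := by
  exact tp hG 2 1979 1 1 (by norm_num) (by norm_num) (by rw [h]; norm_num)

theorem no_3959 {G : Type*} [Group G] [Finite G] [IsSimpleGroup G]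
    (hG : ¬ IsMulCommutative G) (h : Nat.card G = 3959) : False := by
  exact tp hG 37 107 1 1 (by norm_num) (by norm_num) (by rw [h]; norm_num)

theorem no_3961 {G : Type*} [Group G] [Finite G] [IsSimpleGroup G]
    (hG : ¬ IsMulCommutative G) (h : Nat.card G = 3961) : False := by
  exact tp hG 17 233 1 1 (by norm_num) (by norm_num) (by rw [h]; norm_num)

theorem no_3962 {G : Type*} [Group G] [Finite G] [IsSimpleGroup G]
    (hG : ¬ IsMulCommutative G) (h : Nat.card G = 3962) : False := by
  exact ev hG (by rw [h]; exact ⟨1981, by norm_num⟩) (by rw [h]; omega)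

theorem no_3963 {G : Type*} [Group G] [Finite G] [IsSimpleGroup G]
    (hG : ¬ IsMulCommutative G) (h : Nat.card G = 3963) : False := by
  exact tp hG 3 1321 1 1 (by norm_num) (by norm_num) (by rw [h]; norm_num)

theorem no_3964 {G : Type*} [Group G] [Finite G] [IsSimpleGroup G]
    (hG : ¬ IsMulCommutative G) (h : Nat.card G = 3964) : False := by
  exact tp hG 2 991 2 1 (by norm_num) (by norm_num) (by rw [h]; norm_num)

theorem no_3965 {G : Type*} [Group G] [Finite G] [IsSimpleGroup G]
    (hG : ¬ IsMulCommutative G) (h : Nat.card G = 3965) : False := by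
  have : Fact (Nat.Prime 61) := ⟨by norm_num⟩
  have hc : Nat.card G = 61 ^ 1 * 65 := by rw [h]; norm_num
  have hm : ¬ 61 ∣ 65 := by norm_num
  have hmem := card_sylow_mem_candidates hc hm
  have hcand : sylowCandidates 61 65 = [1] := by decide
  rw [hcand] at hmem
  simp only [List.mem_cons, List.not_mem_nil, or_false] at hmem
  have hlt := one_lt_card_sylow_of_card hc hm (by norm_num) (by norm_num)
  have hd := hmem
  · omega

theorem no_3966 {G : Type*} [Group G] [Finite G] [IsSimpleGroup G]
    (hG : ¬ IsMulCommutative G) (h : Nat.card G = 3966) : False := by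
  exact ev hG (by rw [h]; exact ⟨1983, by norm_num⟩) (by rw [h]; omega)

theorem no_3967 {G : Type*} [Group G] [Finite G] [IsSimpleGroup G]
    (hG : ¬ IsMulCommutative G) (h : Nat.card G = 3967) : False := by
  exact tp hG 3967 2 1 0 (by norm_num) (by norm_num) (by rw [h]; norm_num)

theorem no_3968 {G : Type*} [Group G] [Finite G] [IsSimpleGroup G]
    (hG : ¬ IsMulCommutative G) (h : Nat.card G = 3968) : False := by
  exact tp hG 2 31 7 1 (by norm_num) (by norm_num) (by rw [h]; norm_num)

theorem no_3969 {G : Type*} [Group G] [Finite G] [IsSimpleGroup G]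
    (hG : ¬ IsMulCommutative G) (h : Nat.card G = 3969) : False := by
  exact tp hG 3 7 4 2 (by norm_num) (by norm_num) (by rw [h]; norm_num)

theorem no_3970 {G : Type*} [Group G] [Finite G] [IsSimpleGroup G]
    (hG : ¬ IsMulCommutative G) (h : Nat.card G = 3970) : False := by
  exact ev hG (by rw [h]; exact ⟨1985, by norm_num⟩) (by rw [h]; omega)

theorem no_3971 {G : Type*} [Group G] [Finite G] [IsSimpleGroup G]
    (hG : ¬ IsMulCommutative G) (h : Nat.card G = 3971) : False := by
  exact tp hG 11 19 1 2 (by norm_num) (by norm_num) (by rw [h]; norm_num)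

theorem no_3972 {G : Type*} [Group G] [Finite G] [IsSimpleGroup G]
    (hG : ¬ IsMulCommutative G) (h : Nat.card G = 3972) : False := by
  have : Fact (Nat.Prime 331) := ⟨by norm_num⟩
  have hc : Nat.card G = 331 ^ 1 * 12 := by rw [h]; norm_num
  have hm : ¬ 331 ∣ 12 := by norm_num
  have hmem := card_sylow_mem_candidates hc hm
  have hcand : sylowCandidates 331 12 = [1] := by decide
  rw [hcand] at hmem
  simp only [List.mem_cons, List.not_mem_nil, or_false] at hmem
  have hlt := one_lt_card_sylow_of_card hc hm (by norm_num) (by norm_num)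
  have hd := hmem
  · omega

theorem no_3973 {G : Type*} [Group G] [Finite G] [IsSimpleGroup G]
    (hG : ¬ IsMulCommutative G) (h : Nat.card G = 3973) : False := by
  exact tp hG 29 137 1 1 (by norm_num) (by norm_num) (by rw [h]; norm_num)

theorem no_3974 {G : Type*} [Group G] [Finite G] [IsSimpleGroup G]
    (hG : ¬ IsMulCommutative G) (h : Nat.card G = 3974) : False := by
  exact tp hG 2 1987 1 1 (by norm_num) (by norm_num) (by rw [h]; norm_num)

theorem no_3975 {G : Type*} [Group G] [Finite G] [IsSimpleGroup G]
    (hG : ¬ IsMulCommutative G) (h : Nat.card G = 3975) : False := by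
  have : Fact (Nat.Prime 53) := ⟨by norm_num⟩
  have hc : Nat.card G = 53 ^ 1 * 75 := by rw [h]; norm_num
  have hm : ¬ 53 ∣ 75 := by norm_num
  have hmem := card_sylow_mem_candidates hc hm
  have hcand : sylowCandidates 53 75 = [1] := by decide
  rw [hcand] at hmem
  simp only [List.mem_cons, List.not_mem_nil, or_false] at hmem
  have hlt := one_lt_card_sylow_of_card hc hm (by norm_num) (by norm_num)
  have hd := hmem
  · omega

theorem no_3976 {G : Type*} [Group G] [Finite G] [IsSimpleGroup G]
    (hG : ¬ IsMulCommutative G) (h : Nat.card G = 3976) : False := by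
  have : Fact (Nat.Prime 71) := ⟨by norm_num⟩
  have hc : Nat.card G = 71 ^ 1 * 56 := by rw [h]; norm_num
  have hm : ¬ 71 ∣ 56 := by norm_num
  have hmem := card_sylow_mem_candidates hc hm
  have hcand : sylowCandidates 71 56 = [1] := by decide
  rw [hcand] at hmem
  simp only [List.mem_cons, List.not_mem_nil, or_false] at hmem
  have hlt := one_lt_card_sylow_of_card hc hm (by norm_num) (by norm_num)
  have hd := hmem
  · omega

theorem no_3977 {G : Type*} [Group G] [Finite G] [IsSimpleGroup G]
    (hG : ¬ IsMulCommutative G) (h : Nat.card G = 3977) : False := by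
  exact tp hG 41 97 1 1 (by norm_num) (by norm_num) (by rw [h]; norm_num)

theorem no_3978 {G : Type*} [Group G] [Finite G] [IsSimpleGroup G]
    (hG : ¬ IsMulCommutative G) (h : Nat.card G = 3978) : False := by
  exact ev hG (by rw [h]; exact ⟨1989, by norm_num⟩) (by rw [h]; omega)

theorem no_3979 {G : Type*} [Group G] [Finite G] [IsSimpleGroup G]
    (hG : ¬ IsMulCommutative G) (h : Nat.card G = 3979) : False := by
  exact tp hG 23 173 1 1 (by norm_num) (by norm_num) (by rw [h]; norm_num)

theorem no_3980 {G : Type*} [Group G] [Finite G] [IsSimpleGroup G]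
    (hG : ¬ IsMulCommutative G) (h : Nat.card G = 3980) : False := by
  exact ev hG (by rw [h]; exact ⟨1990, by norm_num⟩) (by rw [h]; omega)

theorem no_3981 {G : Type*} [Group G] [Finite G] [IsSimpleGroup G]
    (hG : ¬ IsMulCommutative G) (h : Nat.card G = 3981) : False := by
  exact tp hG 3 1327 1 1 (by norm_num) (by norm_num) (by rw [h]; norm_num)

theorem no_3982 {G : Type*} [Group G] [Finite G] [IsSimpleGroup G]
    (hG : ¬ IsMulCommutative G) (h : Nat.card G = 3982) : False := by
  exact ev hG (by rw [h]; exact ⟨1991, by norm_num⟩) (by rw [h]; omega)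

theorem no_3983 {G : Type*} [Group G] [Finite G] [IsSimpleGroup G]
    (hG : ¬ IsMulCommutative G) (h : Nat.card G = 3983) : False := by
  exact tp hG 7 569 1 1 (by norm_num) (by norm_num) (by rw [h]; norm_num)

theorem no_3984 {G : Type*} [Group G] [Finite G] [IsSimpleGroup G]
    (hG : ¬ IsMulCommutative G) (h : Nat.card G = 3984) : False := by
  have : Fact (Nat.Prime 83) := ⟨by norm_num⟩
  have hc : Nat.card G = 83 ^ 1 * 48 := by rw [h]; norm_num
  have hm : ¬ 83 ∣ 48 := by norm_num
  have hmem := card_sylow_mem_candidates hc hm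
  have hcand : sylowCandidates 83 48 = [1] := by decide
  rw [hcand] at hmem
  simp only [List.mem_cons, List.not_mem_nil, or_false] at hmem
  have hlt := one_lt_card_sylow_of_card hc hm (by norm_num) (by norm_num)
  have hd := hmem
  · omega

theorem no_3985 {G : Type*} [Group G] [Finite G] [IsSimpleGroup G]
    (hG : ¬ IsMulCommutative G) (h : Nat.card G = 3985) : False := by
  exact tp hG 5 797 1 1 (by norm_num) (by norm_num) (by rw [h]; norm_num)

theorem no_3986 {G : Type*} [Group G] [Finite G] [IsSimpleGroup G]
    (hG : ¬ IsMulCommutative G) (h : Nat.card G = 3986) : False := by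
  exact tp hG 2 1993 1 1 (by norm_num) (by norm_num) (by rw [h]; norm_num)

theorem no_3987 {G : Type*} [Group G] [Finite G] [IsSimpleGroup G]
    (hG : ¬ IsMulCommutative G) (h : Nat.card G = 3987) : False := by
  exact tp hG 3 443 2 1 (by norm_num) (by norm_num) (by rw [h]; norm_num)

theorem no_3988 {G : Type*} [Group G] [Finite G] [IsSimpleGroup G]
    (hG : ¬ IsMulCommutative G) (h : Nat.card G = 3988) : False := by
  exact tp hG 2 997 2 1 (by norm_num) (by norm_num) (by rw [h]; norm_num)

theorem no_3989 {G : Type*} [Group G] [Finite G] [IsSimpleGroup G]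
    (hG : ¬ IsMulCommutative G) (h : Nat.card G = 3989) : False := by
  exact tp hG 3989 2 1 0 (by norm_num) (by norm_num) (by rw [h]; norm_num)

theorem no_3990 {G : Type*} [Group G] [Finite G] [IsSimpleGroup G]
    (hG : ¬ IsMulCommutative G) (h : Nat.card G = 3990) : False := by
  exact ev hG (by rw [h]; exact ⟨1995, by norm_num⟩) (by rw [h]; omega)

theorem no_3991 {G : Type*} [Group G] [Finite G] [IsSimpleGroup G]
    (hG : ¬ IsMulCommutative G) (h : Nat.card G = 3991) : False := by
  exact tp hG 13 307 1 1 (by norm_num) (by norm_num) (by rw [h]; norm_num)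

theorem no_3992 {G : Type*} [Group G] [Finite G] [IsSimpleGroup G]
    (hG : ¬ IsMulCommutative G) (h : Nat.card G = 3992) : False := by
  exact tp hG 2 499 3 1 (by norm_num) (by norm_num) (by rw [h]; norm_num)

theorem no_3993 {G : Type*} [Group G] [Finite G] [IsSimpleGroup G]
    (hG : ¬ IsMulCommutative G) (h : Nat.card G = 3993) : False := by
  exact tp hG 3 11 1 3 (by norm_num) (by norm_num) (by rw [h]; norm_num)

theorem no_3994 {G : Type*} [Group G] [Finite G] [IsSimpleGroup G]
    (hG : ¬ IsMulCommutative G) (h : Nat.card G = 3994) : False := by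
  exact tp hG 2 1997 1 1 (by norm_num) (by norm_num) (by rw [h]; norm_num)

theorem no_3995 {G : Type*} [Group G] [Finite G] [IsSimpleGroup G]
    (hG : ¬ IsMulCommutative G) (h : Nat.card G = 3995) : False := by
  have : Fact (Nat.Prime 47) := ⟨by norm_num⟩
  have hc : Nat.card G = 47 ^ 1 * 85 := by rw [h]; norm_num
  have hm : ¬ 47 ∣ 85 := by norm_num
  have hmem := card_sylow_mem_candidates hc hm
  have hcand : sylowCandidates 47 85 = [1] := by decide
  rw [hcand] at hmem
  simp only [List.mem_cons, List.not_mem_nil, or_false] at hmem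
  have hlt := one_lt_card_sylow_of_card hc hm (by norm_num) (by norm_num)
  have hd := hmem
  · omega

theorem no_3996 {G : Type*} [Group G] [Finite G] [IsSimpleGroup G]
    (hG : ¬ IsMulCommutative G) (h : Nat.card G = 3996) : False := by
  have : Fact (Nat.Prime 37) := ⟨by norm_num⟩
  have hc : Nat.card G = 37 ^ 1 * 108 := by rw [h]; norm_num
  have hm : ¬ 37 ∣ 108 := by norm_num
  have hmem := card_sylow_mem_candidates hc hm
  have hcand : sylowCandidates 37 108 = [1] := by decide
  rw [hcand] at hmem
  simp only [List.mem_cons, List.not_mem_nil, or_false] at hmem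
  have hlt := one_lt_card_sylow_of_card hc hm (by norm_num) (by norm_num)
  have hd := hmem
  · omega

theorem no_3997 {G : Type*} [Group G] [Finite G] [IsSimpleGroup G]
    (hG : ¬ IsMulCommutative G) (h : Nat.card G = 3997) : False := by
  exact tp hG 7 571 1 1 (by norm_num) (by norm_num) (by rw [h]; norm_num)

theorem no_3998 {G : Type*} [Group G] [Finite G] [IsSimpleGroup G]
    (hG : ¬ IsMulCommutative G) (h : Nat.card G = 3998) : False := by
  exact tp hG 2 1999 1 1 (by norm_num) (by norm_num) (by rw [h]; norm_num)

theorem no_3999 {G : Type*} [Group G] [Finite G] [IsSimpleGroup G]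
    (hG : ¬ IsMulCommutative G) (h : Nat.card G = 3999) : False := by
  have : Fact (Nat.Prime 43) := ⟨by norm_num⟩
  have hc : Nat.card G = 43 ^ 1 * 93 := by rw [h]; norm_num
  have hm : ¬ 43 ∣ 93 := by norm_num
  have hmem := card_sylow_mem_candidates hc hm
  have hcand : sylowCandidates 43 93 = [1] := by decide
  rw [hcand] at hmem
  simp only [List.mem_cons, List.not_mem_nil, or_false] at hmem
  have hlt := one_lt_card_sylow_of_card hc hm (by norm_num) (by norm_num)
  have hd := hmem
  · omega

theorem no_4000 {G : Type*} [Group G] [Finite G] [IsSimpleGroup G]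
    (hG : ¬ IsMulCommutative G) (h : Nat.card G = 4000) : False := by
  exact tp hG 2 5 5 3 (by norm_num) (by norm_num) (by rw [h]; norm_num)

/-- the orders in [3901, 4000] not excluded by the engine -/
theorem chunk {G : Type*} [Group G] [Finite G] [IsSimpleGroup G]
    (hG : ¬ IsMulCommutative G) (n : ℕ) (hn : Nat.card G = n) (h1 : 3901 ≤ n) (h2 : n ≤ 4000) :
    n = 3960 := by
  interval_cases n
  · exact (no_3901 hG hn).elim
  · exact (no_3902 hG hn).elim
  · exact (no_3903 hG hn).elim
  · exact (no_3904 hG hn).elim
  · exact (no_3905 hG hn).elim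
  · exact (no_3906 hG hn).elim
  · exact (no_3907 hG hn).elim
  · exact (no_3908 hG hn).elim
  · exact (no_3909 hG hn).elim
  · exact (no_3910 hG hn).elim
  · exact (no_3911 hG hn).elim
  · exact (no_3912 hG hn).elim
  · exact (no_3913 hG hn).elim
  · exact (no_3914 hG hn).elim
  · exact (no_3915 hG hn).elim
  · exact (no_3916 hG hn).elim
  · exact (no_3917 hG hn).elim
  · exact (no_3918 hG hn).elim
  · exact (no_3919 hG hn).elim
  · exact (no_3920 hG hn).elim
  · exact (no_3921 hG hn).elim
  · exact (no_3922 hG hn).elim
  · exact (no_3923 hG hn).elim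
  · exact (no_3924 hG hn).elim
  · exact (no_3925 hG hn).elim
  · exact (no_3926 hG hn).elim
  · exact (no_3927 hG hn).elim
  · exact (no_3928 hG hn).elim
  · exact (no_3929 hG hn).elim
  · exact (no_3930 hG hn).elim
  · exact (no_3931 hG hn).elim
  · exact (no_3932 hG hn).elim
  · exact (no_3933 hG hn).elim
  · exact (no_3934 hG hn).elim
  · exact (no_3935 hG hn).elim
  · exact (no_3936 hG hn).elim
  · exact (no_3937 hG hn).elim
  · exact (no_3938 hG hn).elim
  · exact (no_3939 hG hn).elim
  · exact (no_3940 hG hn).elim
  · exact (no_3941 hG hn).elim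
  · exact (no_3942 hG hn).elim
  · exact (no_3943 hG hn).elim
  · exact (no_3944 hG hn).elim
  · exact (no_3945 hG hn).elim
  · exact (no_3946 hG hn).elim
  · exact (no_3947 hG hn).elim
  · exact (no_3948 hG hn).elim
  · exact (no_3949 hG hn).elim
  · exact (no_3950 hG hn).elim
  · exact (no_3951 hG hn).elim
  · exact (no_3952 hG hn).elim
  · exact (no_3953 hG hn).elim
  · exact (no_3954 hG hn).elim
  · exact (no_3955 hG hn).elim
  · exact (no_3956 hG hn).elim
  · exact (no_3957 hG hn).elim
  · exact (no_3958 hG hn).elim
  · exact (no_3959 hG hn).elim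
  · simp
  · exact (no_3961 hG hn).elim
  · exact (no_3962 hG hn).elim
  · exact (no_3963 hG hn).elim
  · exact (no_3964 hG hn).elim
  · exact (no_3965 hG hn).elim
  · exact (no_3966 hG hn).elim
  · exact (no_3967 hG hn).elim
  · exact (no_3968 hG hn).elim
  · exact (no_3969 hG hn).elim
  · exact (no_3970 hG hn).elim
  · exact (no_3971 hG hn).elim
  · exact (no_3972 hG hn).elim
  · exact (no_3973 hG hn).elim
  · exact (no_3974 hG hn).elim
  · exact (no_3975 hG hn).elim
  · exact (no_3976 hG hn).elim
  · exact (no_3977 hG hn).elim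
  · exact (no_3978 hG hn).elim
  · exact (no_3979 hG hn).elim
  · exact (no_3980 hG hn).elim
  · exact (no_3981 hG hn).elim
  · exact (no_3982 hG hn).elim
  · exact (no_3983 hG hn).elim
  · exact (no_3984 hG hn).elim
  · exact (no_3985 hG hn).elim
  · exact (no_3986 hG hn).elim
  · exact (no_3987 hG hn).elim
  · exact (no_3988 hG hn).elim
  · exact (no_3989 hG hn).elim
  · exact (no_3990 hG hn).elim
  · exact (no_3991 hG hn).elim
  · exact (no_3992 hG hn).elim
  · exact (no_3993 hG hn).elim
  · exact (no_3994 hG hn).elim
  · exact (no_3995 hG hn).elim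
  · exact (no_3996 hG hn).elim
  · exact (no_3997 hG hn).elim
  · exact (no_3998 hG hn).elim
  · exact (no_3999 hG hn).elim
  · exact (no_4000 hG hn).elim

end Cfsg.Agent.Lib.Helper16_SO_E03
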