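import Mathlib
import Cfsg.Agent.Lib.Helper75_SM_Base

/-!
# S0983 engine, generated file: no simple group of order N for the easy N in [4001, 4100]
(helper16; same scheme as helper75's `Helper75_SM_E*`)
-/

set_option autoImplicit false
set_option linter.unusedVariables false

namespace Cfsg.Agent.Lib.Helper16_SO_E04

open Cfsg.Agent.Lib.Helper17_Sylow Cfsg.Agent.Lib.Helper75_SM_Base

theorem no_4001 {G : Type*} [Group G] [Finite G] [IsSimpleGroup G]
    (hG : ¬ IsMulCommutative G) (h : Nat.card G = 4001) : False := by
  exact tp hG 4001 2 1 0 (by norm_num) (by norm_num) (by rw [h]; norm_num)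

theorem no_4002 {G : Type*} [Group G] [Finite G] [IsSimpleGroup G]
    (hG : ¬ IsMulCommutative G) (h : Nat.card G = 4002) : False := by
  exact ev hG (by rw [h]; exact ⟨2001, by norm_num⟩) (by rw [h]; omega)

theorem no_4003 {G : Type*} [Group G] [Finite G] [IsSimpleGroup G]
    (hG : ¬ IsMulCommutative G) (h : Nat.card G = 4003) : False := by
  exact tp hG 4003 2 1 0 (by norm_num) (by norm_num) (by rw [h]; norm_num)

theorem no_4004 {G : Type*} [Group G] [Finite G] [IsSimpleGroup G]
    (hG : ¬ IsMulCommutative G) (h : Nat.card G = 4004) : False := by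
  exact ev hG (by rw [h]; exact ⟨2002, by norm_num⟩) (by rw [h]; omega)

theorem no_4005 {G : Type*} [Group G] [Finite G] [IsSimpleGroup G]
    (hG : ¬ IsMulCommutative G) (h : Nat.card G = 4005) : False := by
  have : Fact (Nat.Prime 89) := ⟨by norm_num⟩
  have hc : Nat.card G = 89 ^ 1 * 45 := by rw [h]; norm_num
  have hm : ¬ 89 ∣ 45 := by norm_num
  have hmem := card_sylow_mem_candidates hc hm
  have hcand : sylowCandidates 89 45 = [1] := by decide
  rw [hcand] at hmem
  simp only [List.mem_cons, List.not_mem_nil, or_false] at hmem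
  have hlt := one_lt_card_sylow_of_card hc hm (by norm_num) (by norm_num)
  have hd := hmem
  · omega

theorem no_4006 {G : Type*} [Group G] [Finite G] [IsSimpleGroup G]
    (hG : ¬ IsMulCommutative G) (h : Nat.card G = 4006) : False := by
  exact tp hG 2 2003 1 1 (by norm_num) (by norm_num) (by rw [h]; norm_num)

theorem no_4007 {G : Type*} [Group G] [Finite G] [IsSimpleGroup G]
    (hG : ¬ IsMulCommutative G) (h : Nat.card G = 4007) : False := by
  exact tp hG 4007 2 1 0 (by norm_num) (by norm_num) (by rw [h]; norm_num)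

theorem no_4008 {G : Type*} [Group G] [Finite G] [IsSimpleGroup G]
    (hG : ¬ IsMulCommutative G) (h : Nat.card G = 4008) : False := by
  have : Fact (Nat.Prime 167) := ⟨by norm_num⟩
  have hc : Nat.card G = 167 ^ 1 * 24 := by rw [h]; norm_num
  have hm : ¬ 167 ∣ 24 := by norm_num
  have hmem := card_sylow_mem_candidates hc hm
  have hcand : sylowCandidates 167 24 = [1] := by decide
  rw [hcand] at hmem
  simp only [List.mem_cons, List.not_mem_nil, or_false] at hmem
  have hlt := one_lt_card_sylow_of_card hc hm (by norm_num) (by norm_num)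
  have hd := hmem
  · omega

theorem no_4009 {G : Type*} [Group G] [Finite G] [IsSimpleGroup G]
    (hG : ¬ IsMulCommutative G) (h : Nat.card G = 4009) : False := by
  exact tp hG 19 211 1 1 (by norm_num) (by norm_num) (by rw [h]; norm_num)

theorem no_4010 {G : Type*} [Group G] [Finite G] [IsSimpleGroup G]
    (hG : ¬ IsMulCommutative G) (h : Nat.card G = 4010) : False := by
  exact ev hG (by rw [h]; exact ⟨2005, by norm_num⟩) (by rw [h]; omega)

theorem no_4011 {G : Type*} [Group G] [Finite G] [IsSimpleGroup G]
    (hG : ¬ IsMulCommutative G) (h : Nat.card G = 4011) : False := by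
  have : Fact (Nat.Prime 191) := ⟨by norm_num⟩
  have hc : Nat.card G = 191 ^ 1 * 21 := by rw [h]; norm_num
  have hm : ¬ 191 ∣ 21 := by norm_num
  have hmem := card_sylow_mem_candidates hc hm
  have hcand : sylowCandidates 191 21 = [1] := by decide
  rw [hcand] at hmem
  simp only [List.mem_cons, List.not_mem_nil, or_false] at hmem
  have hlt := one_lt_card_sylow_of_card hc hm (by norm_num) (by norm_num)
  have hd := hmem
  · omega

theorem no_4012 {G : Type*} [Group G] [Finite G] [IsSimpleGroup G]
    (hG : ¬ IsMulCommutative G) (h : Nat.card G = 4012) : False := by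
  exact ev hG (by rw [h]; exact ⟨2006, by norm_num⟩) (by rw [h]; omega)

theorem no_4013 {G : Type*} [Group G] [Finite G] [IsSimpleGroup G]
    (hG : ¬ IsMulCommutative G) (h : Nat.card G = 4013) : False := by
  exact tp hG 4013 2 1 0 (by norm_num) (by norm_num) (by rw [h]; norm_num)

theorem no_4014 {G : Type*} [Group G] [Finite G] [IsSimpleGroup G]
    (hG : ¬ IsMulCommutative G) (h : Nat.card G = 4014) : False := by
  exact ev hG (by rw [h]; exact ⟨2007, by norm_num⟩) (by rw [h]; omega)

theorem no_4015 {G : Type*} [Group G] [Finite G] [IsSimpleGroup G]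
    (hG : ¬ IsMulCommutative G) (h : Nat.card G = 4015) : False := by
  have : Fact (Nat.Prime 73) := ⟨by norm_num⟩
  have hc : Nat.card G = 73 ^ 1 * 55 := by rw [h]; norm_num
  have hm : ¬ 73 ∣ 55 := by norm_num
  have hmem := card_sylow_mem_candidates hc hm
  have hcand : sylowCandidates 73 55 = [1] := by decide
  rw [hcand] at hmem
  simp only [List.mem_cons, List.not_mem_nil, or_false] at hmem
  have hlt := one_lt_card_sylow_of_card hc hm (by norm_num) (by norm_num)
  have hd := hmem
  · omega

theorem no_4016 {G : Type*} [Group G] [Finite G] [IsSimpleGroup G]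
    (hG : ¬ IsMulCommutative G) (h : Nat.card G = 4016) : False := by
  exact tp hG 2 251 4 1 (by norm_num) (by norm_num) (by rw [h]; norm_num)

theorem no_4017 {G : Type*} [Group G] [Finite G] [IsSimpleGroup G]
    (hG : ¬ IsMulCommutative G) (h : Nat.card G = 4017) : False := by
  have : Fact (Nat.Prime 103) := ⟨by norm_num⟩
  have hc : Nat.card G = 103 ^ 1 * 39 := by rw [h]; norm_num
  have hm : ¬ 103 ∣ 39 := by norm_num
  have hmem := card_sylow_mem_candidates hc hm
  have hcand : sylowCandidates 103 39 = [1] := by decide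
  rw [hcand] at hmem
  simp only [List.mem_cons, List.not_mem_nil, or_false] at hmem
  have hlt := one_lt_card_sylow_of_card hc hm (by norm_num) (by norm_num)
  have hd := hmem
  · omega

theorem no_4018 {G : Type*} [Group G] [Finite G] [IsSimpleGroup G]
    (hG : ¬ IsMulCommutative G) (h : Nat.card G = 4018) : False := by
  exact ev hG (by rw [h]; exact ⟨2009, by norm_num⟩) (by rw [h]; omega)

theorem no_4019 {G : Type*} [Group G] [Finite G] [IsSimpleGroup G]
    (hG : ¬ IsMulCommutative G) (h : Nat.card G = 4019) : False := by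
  exact tp hG 4019 2 1 0 (by norm_num) (by norm_num) (by rw [h]; norm_num)

theorem no_4020 {G : Type*} [Group G] [Finite G] [IsSimpleGroup G]
    (hG : ¬ IsMulCommutative G) (h : Nat.card G = 4020) : False := by
  have : Fact (Nat.Prime 67) := ⟨by norm_num⟩
  have hc : Nat.card G = 67 ^ 1 * 60 := by rw [h]; norm_num
  have hm : ¬ 67 ∣ 60 := by norm_num
  have hmem := card_sylow_mem_candidates hc hm
  have hcand : sylowCandidates 67 60 = [1] := by decide
  rw [hcand] at hmem
  simp only [List.mem_cons, List.not_mem_nil, or_false] at hmem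
  have hlt := one_lt_card_sylow_of_card hc hm (by norm_num) (by norm_num)
  have hd := hmem
  · omega

theorem no_4021 {G : Type*} [Group G] [Finite G] [IsSimpleGroup G]
    (hG : ¬ IsMulCommutative G) (h : Nat.card G = 4021) : False := by
  exact tp hG 4021 2 1 0 (by norm_num) (by norm_num) (by rw [h]; norm_num)

theorem no_4022 {G : Type*} [Group G] [Finite G] [IsSimpleGroup G]
    (hG : ¬ IsMulCommutative G) (h : Nat.card G = 4022) : False := by
  exact tp hG 2 2011 1 1 (by norm_num) (by norm_num) (by rw [h]; norm_num)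

theorem no_4023 {G : Type*} [Group G] [Finite G] [IsSimpleGroup G]
    (hG : ¬ IsMulCommutative G) (h : Nat.card G = 4023) : False := by
  exact tp hG 3 149 3 1 (by norm_num) (by norm_num) (by rw [h]; norm_num)

theorem no_4024 {G : Type*} [Group G] [Finite G] [IsSimpleGroup G]
    (hG : ¬ IsMulCommutative G) (h : Nat.card G = 4024) : False := by
  exact tp hG 2 503 3 1 (by norm_num) (by norm_num) (by rw [h]; norm_num)

theorem no_4025 {G : Type*} [Group G] [Finite G] [IsSimpleGroup G]
    (hG : ¬ IsMulCommutative G) (h : Nat.card G = 4025) : False := by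
  have : Fact (Nat.Prime 23) := ⟨by norm_num⟩
  have hc : Nat.card G = 23 ^ 1 * 175 := by rw [h]; norm_num
  have hm : ¬ 23 ∣ 175 := by norm_num
  have hmem := card_sylow_mem_candidates hc hm
  have hcand : sylowCandidates 23 175 = [1] := by decide
  rw [hcand] at hmem
  simp only [List.mem_cons, List.not_mem_nil, or_false] at hmem
  have hlt := one_lt_card_sylow_of_card hc hm (by norm_num) (by norm_num)
  have hd := hmem
  · omega

theorem no_4026 {G : Type*} [Group G] [Finite G] [IsSimpleGroup G]
    (hG : ¬ IsMulCommutative G) (h : Nat.card G = 4026) : False := by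
  exact ev hG (by rw [h]; exact ⟨2013, by norm_num⟩) (by rw [h]; omega)

theorem no_4027 {G : Type*} [Group G] [Finite G] [IsSimpleGroup G]
    (hG : ¬ IsMulCommutative G) (h : Nat.card G = 4027) : False := by
  exact tp hG 4027 2 1 0 (by norm_num) (by norm_num) (by rw [h]; norm_num)

theorem no_4028 {G : Type*} [Group G] [Finite G] [IsSimpleGroup G]
    (hG : ¬ IsMulCommutative G) (h : Nat.card G = 4028) : False := by
  exact ev hG (by rw [h]; exact ⟨2014, by norm_num⟩) (by rw [h]; omega)

theorem no_4029 {G : Type*} [Group G] [Finite G] [IsSimpleGroup G]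
    (hG : ¬ IsMulCommutative G) (h : Nat.card G = 4029) : False := by
  have : Fact (Nat.Prime 79) := ⟨by norm_num⟩
  have hc : Nat.card G = 79 ^ 1 * 51 := by rw [h]; norm_num
  have hm : ¬ 79 ∣ 51 := by norm_num
  have hmem := card_sylow_mem_candidates hc hm
  have hcand : sylowCandidates 79 51 = [1] := by decide
  rw [hcand] at hmem
  simp only [List.mem_cons, List.not_mem_nil, or_false] at hmem
  have hlt := one_lt_card_sylow_of_card hc hm (by norm_num) (by norm_num)
  have hd := hmem
  · omega

theorem no_4030 {G : Type*} [Group G] [Finite G] [IsSimpleGroup G]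
    (hG : ¬ IsMulCommutative G) (h : Nat.card G = 4030) : False := by
  exact ev hG (by rw [h]; exact ⟨2015, by norm_num⟩) (by rw [h]; omega)

theorem no_4031 {G : Type*} [Group G] [Finite G] [IsSimpleGroup G]
    (hG : ¬ IsMulCommutative G) (h : Nat.card G = 4031) : False := by
  exact tp hG 29 139 1 1 (by norm_num) (by norm_num) (by rw [h]; norm_num)

theorem no_4033 {G : Type*} [Group G] [Finite G] [IsSimpleGroup G]
    (hG : ¬ IsMulCommutative G) (h : Nat.card G = 4033) : False := by
  exact tp hG 37 109 1 1 (by norm_num) (by norm_num) (by rw [h]; norm_num)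

theorem no_4034 {G : Type*} [Group G] [Finite G] [IsSimpleGroup G]
    (hG : ¬ IsMulCommutative G) (h : Nat.card G = 4034) : False := by
  exact tp hG 2 2017 1 1 (by norm_num) (by norm_num) (by rw [h]; norm_num)

theorem no_4035 {G : Type*} [Group G] [Finite G] [IsSimpleGroup G]
    (hG : ¬ IsMulCommutative G) (h : Nat.card G = 4035) : False := by
  have : Fact (Nat.Prime 269) := ⟨by norm_num⟩
  have hc : Nat.card G = 269 ^ 1 * 15 := by rw [h]; norm_num
  have hm : ¬ 269 ∣ 15 := by norm_num
  have hmem := card_sylow_mem_candidates hc hm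
  have hcand : sylowCandidates 269 15 = [1] := by decide
  rw [hcand] at hmem
  simp only [List.mem_cons, List.not_mem_nil, or_false] at hmem
  have hlt := one_lt_card_sylow_of_card hc hm (by norm_num) (by norm_num)
  have hd := hmem
  · omega

theorem no_4036 {G : Type*} [Group G] [Finite G] [IsSimpleGroup G]
    (hG : ¬ IsMulCommutative G) (h : Nat.card G = 4036) : False := by
  exact tp hG 2 1009 2 1 (by norm_num) (by norm_num) (by rw [h]; norm_num)

theorem no_4037 {G : Type*} [Group G] [Finite G] [IsSimpleGroup G]
    (hG : ¬ IsMulCommutative G) (h : Nat.card G = 4037) : False := by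
  exact tp hG 11 367 1 1 (by norm_num) (by norm_num) (by rw [h]; norm_num)

theorem no_4038 {G : Type*} [Group G] [Finite G] [IsSimpleGroup G]
    (hG : ¬ IsMulCommutative G) (h : Nat.card G = 4038) : False := by
  exact ev hG (by rw [h]; exact ⟨2019, by norm_num⟩) (by rw [h]; omega)

theorem no_4039 {G : Type*} [Group G] [Finite G] [IsSimpleGroup G]
    (hG : ¬ IsMulCommutative G) (h : Nat.card G = 4039) : False := by
  exact tp hG 7 577 1 1 (by norm_num) (by norm_num) (by rw [h]; norm_num)

theorem no_4040 {G : Type*} [Group G] [Finite G] [IsSimpleGroup G]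
    (hG : ¬ IsMulCommutative G) (h : Nat.card G = 4040) : False := by
  exact ev hG (by rw [h]; exact ⟨2020, by norm_num⟩) (by rw [h]; omega)

theorem no_4041 {G : Type*} [Group G] [Finite G] [IsSimpleGroup G]
    (hG : ¬ IsMulCommutative G) (h : Nat.card G = 4041) : False := by
  exact tp hG 3 449 2 1 (by norm_num) (by norm_num) (by rw [h]; norm_num)

theorem no_4042 {G : Type*} [Group G] [Finite G] [IsSimpleGroup G]
    (hG : ¬ IsMulCommutative G) (h : Nat.card G = 4042) : False := by
  exact ev hG (by rw [h]; exact ⟨2021, by norm_num⟩) (by rw [h]; omega)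

theorem no_4043 {G : Type*} [Group G] [Finite G] [IsSimpleGroup G]
    (hG : ¬ IsMulCommutative G) (h : Nat.card G = 4043) : False := by
  exact tp hG 13 311 1 1 (by norm_num) (by norm_num) (by rw [h]; norm_num)

theorem no_4044 {G : Type*} [Group G] [Finite G] [IsSimpleGroup G]
    (hG : ¬ IsMulCommutative G) (h : Nat.card G = 4044) : False := by
  have : Fact (Nat.Prime 337) := ⟨by norm_num⟩
  have hc : Nat.card G = 337 ^ 1 * 12 := by rw [h]; norm_num
  have hm : ¬ 337 ∣ 12 := by norm_num
  have hmem := card_sylow_mem_candidates hc hm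
  have hcand : sylowCandidates 337 12 = [1] := by decide
  rw [hcand] at hmem
  simp only [List.mem_cons, List.not_mem_nil, or_false] at hmem
  have hlt := one_lt_card_sylow_of_card hc hm (by norm_num) (by norm_num)
  have hd := hmem
  · omega

theorem no_4045 {G : Type*} [Group G] [Finite G] [IsSimpleGroup G]
    (hG : ¬ IsMulCommutative G) (h : Nat.card G = 4045) : False := by
  exact tp hG 5 809 1 1 (by norm_num) (by norm_num) (by rw [h]; norm_num)

theorem no_4046 {G : Type*} [Group G] [Finite G] [IsSimpleGroup G]
    (hG : ¬ IsMulCommutative G) (h : Nat.card G = 4046) : False := by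
  exact ev hG (by rw [h]; exact ⟨2023, by norm_num⟩) (by rw [h]; omega)

theorem no_4047 {G : Type*} [Group G] [Finite G] [IsSimpleGroup G]
    (hG : ¬ IsMulCommutative G) (h : Nat.card G = 4047) : False := by
  have : Fact (Nat.Prime 71) := ⟨by norm_num⟩
  have hc : Nat.card G = 71 ^ 1 * 57 := by rw [h]; norm_num
  have hm : ¬ 71 ∣ 57 := by norm_num
  have hmem := card_sylow_mem_candidates hc hm
  have hcand : sylowCandidates 71 57 = [1] := by decide
  rw [hcand] at hmem
  simp only [List.mem_cons, List.not_mem_nil, or_false] at hmem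
  have hlt := one_lt_card_sylow_of_card hc hm (by norm_num) (by norm_num)
  have hd := hmem
  · omega

theorem no_4048 {G : Type*} [Group G] [Finite G] [IsSimpleGroup G]
    (hG : ¬ IsMulCommutative G) (h : Nat.card G = 4048) : False := by
  have : Fact (Nat.Prime 23) := ⟨by norm_num⟩
  have hc : Nat.card G = 23 ^ 1 * 176 := by rw [h]; norm_num
  have hm : ¬ 23 ∣ 176 := by norm_num
  have hmem := card_sylow_mem_candidates hc hm
  have hcand : sylowCandidates 23 176 = [1] := by decide
  rw [hcand] at hmem
  simp only [List.mem_cons, List.not_mem_nil, or_false] at hmem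
  have hlt := one_lt_card_sylow_of_card hc hm (by norm_num) (by norm_num)
  have hd := hmem
  · omega

theorem no_4049 {G : Type*} [Group G] [Finite G] [IsSimpleGroup G]
    (hG : ¬ IsMulCommutative G) (h : Nat.card G = 4049) : False := by
  exact tp hG 4049 2 1 0 (by norm_num) (by norm_num) (by rw [h]; norm_num)

theorem no_4050 {G : Type*} [Group G] [Finite G] [IsSimpleGroup G]
    (hG : ¬ IsMulCommutative G) (h : Nat.card G = 4050) : False := by
  exact ev hG (by rw [h]; exact ⟨2025, by norm_num⟩) (by rw [h]; omega)

theorem no_4051 {G : Type*} [Group G] [Finite G] [IsSimpleGroup G]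
    (hG : ¬ IsMulCommutative G) (h : Nat.card G = 4051) : False := by
  exact tp hG 4051 2 1 0 (by norm_num) (by norm_num) (by rw [h]; norm_num)

theorem no_4052 {G : Type*} [Group G] [Finite G] [IsSimpleGroup G]
    (hG : ¬ IsMulCommutative G) (h : Nat.card G = 4052) : False := by
  exact tp hG 2 1013 2 1 (by norm_num) (by norm_num) (by rw [h]; norm_num)

theorem no_4053 {G : Type*} [Group G] [Finite G] [IsSimpleGroup G]
    (hG : ¬ IsMulCommutative G) (h : Nat.card G = 4053) : False := by
  have : Fact (Nat.Prime 193) := ⟨by norm_num⟩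
  have hc : Nat.card G = 193 ^ 1 * 21 := by rw [h]; norm_num
  have hm : ¬ 193 ∣ 21 := by norm_num
  have hmem := card_sylow_mem_candidates hc hm
  have hcand : sylowCandidates 193 21 = [1] := by decide
  rw [hcand] at hmem
  simp only [List.mem_cons, List.not_mem_nil, or_false] at hmem
  have hlt := one_lt_card_sylow_of_card hc hm (by norm_num) (by norm_num)
  have hd := hmem
  · omega

theorem no_4054 {G : Type*} [Group G] [Finite G] [IsSimpleGroup G]
    (hG : ¬ IsMulCommutative G) (h : Nat.card G = 4054) : False := by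
  exact tp hG 2 2027 1 1 (by norm_num) (by norm_num) (by rw [h]; norm_num)

theorem no_4055 {G : Type*} [Group G] [Finite G] [IsSimpleGroup G]
    (hG : ¬ IsMulCommutative G) (h : Nat.card G = 4055) : False := by
  exact tp hG 5 811 1 1 (by norm_num) (by norm_num) (by rw [h]; norm_num)

theorem no_4056 {G : Type*} [Group G] [Finite G] [IsSimpleGroup G]
    (hG : ¬ IsMulCommutative G) (h : Nat.card G = 4056) : False := by
  have : Fact (Nat.Prime 13) := ⟨by norm_num⟩
  have hc : Nat.card G = 13 ^ 2 * 24 := by rw [h]; norm_num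
  have hm : ¬ 13 ∣ 24 := by norm_num
  have hmem := card_sylow_mem_candidates hc hm
  have hcand : sylowCandidates 13 24 = [1] := by decide
  rw [hcand] at hmem
  simp only [List.mem_cons, List.not_mem_nil, or_false] at hmem
  have hlt := one_lt_card_sylow_of_card hc hm (by norm_num) (by norm_num)
  have hd := hmem
  · omega

theorem no_4057 {G : Type*} [Group G] [Finite G] [IsSimpleGroup G]
    (hG : ¬ IsMulCommutative G) (h : Nat.card G = 4057) : False := by
  exact tp hG 4057 2 1 0 (by norm_num) (by norm_num) (by rw [h]; norm_num)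

theorem no_4058 {G : Type*} [Group G] [Finite G] [IsSimpleGroup G]
    (hG : ¬ IsMulCommutative G) (h : Nat.card G = 4058) : False := by
  exact tp hG 2 2029 1 1 (by norm_num) (by norm_num) (by rw [h]; norm_num)

theorem no_4059 {G : Type*} [Group G] [Finite G] [IsSimpleGroup G]
    (hG : ¬ IsMulCommutative G) (h : Nat.card G = 4059) : False := by
  have : Fact (Nat.Prime 41) := ⟨by norm_num⟩
  have hc : Nat.card G = 41 ^ 1 * 99 := by rw [h]; norm_num
  have hm : ¬ 41 ∣ 99 := by norm_num
  have hmem := card_sylow_mem_candidates hc hm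
  have hcand : sylowCandidates 41 99 = [1] := by decide
  rw [hcand] at hmem
  simp only [List.mem_cons, List.not_mem_nil, or_false] at hmem
  have hlt := one_lt_card_sylow_of_card hc hm (by norm_num) (by norm_num)
  have hd := hmem
  · omega

theorem no_4060 {G : Type*} [Group G] [Finite G] [IsSimpleGroup G]
    (hG : ¬ IsMulCommutative G) (h : Nat.card G = 4060) : False := by
  exact ev hG (by rw [h]; exact ⟨2030, by norm_num⟩) (by rw [h]; omega)

theorem no_4061 {G : Type*} [Group G] [Finite G] [IsSimpleGroup G]
    (hG : ¬ IsMulCommutative G) (h : Nat.card G = 4061) : False := by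
  exact tp hG 31 131 1 1 (by norm_num) (by norm_num) (by rw [h]; norm_num)

theorem no_4062 {G : Type*} [Group G] [Finite G] [IsSimpleGroup G]
    (hG : ¬ IsMulCommutative G) (h : Nat.card G = 4062) : False := by
  exact ev hG (by rw [h]; exact ⟨2031, by norm_num⟩) (by rw [h]; omega)

theorem no_4063 {G : Type*} [Group G] [Finite G] [IsSimpleGroup G]
    (hG : ¬ IsMulCommutative G) (h : Nat.card G = 4063) : False := by
  exact tp hG 17 239 1 1 (by norm_num) (by norm_num) (by rw [h]; norm_num)

theorem no_4064 {G : Type*} [Group G] [Finite G] [IsSimpleGroup G]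
    (hG : ¬ IsMulCommutative G) (h : Nat.card G = 4064) : False := by
  exact tp hG 2 127 5 1 (by norm_num) (by norm_num) (by rw [h]; norm_num)

theorem no_4065 {G : Type*} [Group G] [Finite G] [IsSimpleGroup G]
    (hG : ¬ IsMulCommutative G) (h : Nat.card G = 4065) : False := by
  have : Fact (Nat.Prime 271) := ⟨by norm_num⟩
  have hc : Nat.card G = 271 ^ 1 * 15 := by rw [h]; norm_num
  have hm : ¬ 271 ∣ 15 := by norm_num
  have hmem := card_sylow_mem_candidates hc hm
  have hcand : sylowCandidates 271 15 = [1] := by decide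
  rw [hcand] at hmem
  simp only [List.mem_cons, List.not_mem_nil, or_false] at hmem
  have hlt := one_lt_card_sylow_of_card hc hm (by norm_num) (by norm_num)
  have hd := hmem
  · omega

theorem no_4066 {G : Type*} [Group G] [Finite G] [IsSimpleGroup G]
    (hG : ¬ IsMulCommutative G) (h : Nat.card G = 4066) : False := by
  exact ev hG (by rw [h]; exact ⟨2033, by norm_num⟩) (by rw [h]; omega)

theorem no_4067 {G : Type*} [Group G] [Finite G] [IsSimpleGroup G]
    (hG : ¬ IsMulCommutative G) (h : Nat.card G = 4067) : False := by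
  exact tp hG 7 83 2 1 (by norm_num) (by norm_num) (by rw [h]; norm_num)

theorem no_4068 {G : Type*} [Group G] [Finite G] [IsSimpleGroup G]
    (hG : ¬ IsMulCommutative G) (h : Nat.card G = 4068) : False := by
  have : Fact (Nat.Prime 113) := ⟨by norm_num⟩
  have hc : Nat.card G = 113 ^ 1 * 36 := by rw [h]; norm_num
  have hm : ¬ 113 ∣ 36 := by norm_num
  have hmem := card_sylow_mem_candidates hc hm
  have hcand : sylowCandidates 113 36 = [1] := by decide
  rw [hcand] at hmem
  simp only [List.mem_cons, List.not_mem_nil, or_false] at hmem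
  have hlt := one_lt_card_sylow_of_card hc hm (by norm_num) (by norm_num)
  have hd := hmem
  · omega

theorem no_4069 {G : Type*} [Group G] [Finite G] [IsSimpleGroup G]
    (hG : ¬ IsMulCommutative G) (h : Nat.card G = 4069) : False := by
  exact tp hG 13 313 1 1 (by norm_num) (by norm_num) (by rw [h]; norm_num)

theorem no_4070 {G : Type*} [Group G] [Finite G] [IsSimpleGroup G]
    (hG : ¬ IsMulCommutative G) (h : Nat.card G = 4070) : False := by
  exact ev hG (by rw [h]; exact ⟨2035, by norm_num⟩) (by rw [h]; omega)

theorem no_4071 {G : Type*} [Group G] [Finite G] [IsSimpleGroup G]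
    (hG : ¬ IsMulCommutative G) (h : Nat.card G = 4071) : False := by
  have : Fact (Nat.Prime 59) := ⟨by norm_num⟩
  have hc : Nat.card G = 59 ^ 1 * 69 := by rw [h]; norm_num
  have hm : ¬ 59 ∣ 69 := by norm_num
  have hmem := card_sylow_mem_candidates hc hm
  have hcand : sylowCandidates 59 69 = [1] := by decide
  rw [hcand] at hmem
  simp only [List.mem_cons, List.not_mem_nil, or_false] at hmem
  have hlt := one_lt_card_sylow_of_card hc hm (by norm_num) (by norm_num)
  have hd := hmem
  · omega

theorem no_4072 {G : Type*} [Group G] [Finite G] [IsSimpleGroup G]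
    (hG : ¬ IsMulCommutative G) (h : Nat.card G = 4072) : False := by
  exact tp hG 2 509 3 1 (by norm_num) (by norm_num) (by rw [h]; norm_num)

theorem no_4073 {G : Type*} [Group G] [Finite G] [IsSimpleGroup G]
    (hG : ¬ IsMulCommutative G) (h : Nat.card G = 4073) : False := by
  exact tp hG 4073 2 1 0 (by norm_num) (by norm_num) (by rw [h]; norm_num)

theorem no_4074 {G : Type*} [Group G] [Finite G] [IsSimpleGroup G]
    (hG : ¬ IsMulCommutative G) (h : Nat.card G = 4074) : False := by
  exact ev hG (by rw [h]; exact ⟨2037, by norm_num⟩) (by rw [h]; omega)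

theorem no_4075 {G : Type*} [Group G] [Finite G] [IsSimpleGroup G]
    (hG : ¬ IsMulCommutative G) (h : Nat.card G = 4075) : False := by
  exact tp hG 5 163 2 1 (by norm_num) (by norm_num) (by rw [h]; norm_num)

theorem no_4076 {G : Type*} [Group G] [Finite G] [IsSimpleGroup G]
    (hG : ¬ IsMulCommutative G) (h : Nat.card G = 4076) : False := by
  exact tp hG 2 1019 2 1 (by norm_num) (by norm_num) (by rw [h]; norm_num)

theorem no_4077 {G : Type*} [Group G] [Finite G] [IsSimpleGroup G]
    (hG : ¬ IsMulCommutative G) (h : Nat.card G = 4077) : False := by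
  exact tp hG 3 151 3 1 (by norm_num) (by norm_num) (by rw [h]; norm_num)

theorem no_4078 {G : Type*} [Group G] [Finite G] [IsSimpleGroup G]
    (hG : ¬ IsMulCommutative G) (h : Nat.card G = 4078) : False := by
  exact tp hG 2 2039 1 1 (by norm_num) (by norm_num) (by rw [h]; norm_num)

theorem no_4079 {G : Type*} [Group G] [Finite G] [IsSimpleGroup G]
    (hG : ¬ IsMulCommutative G) (h : Nat.card G = 4079) : False := by
  exact tp hG 4079 2 1 0 (by norm_num) (by norm_num) (by rw [h]; norm_num)

theorem no_4081 {G : Type*} [Group G] [Finite G] [IsSimpleGroup G]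
    (hG : ¬ IsMulCommutative G) (h : Nat.card G = 4081) : False := by
  have : Fact (Nat.Prime 53) := ⟨by norm_num⟩
  have hc : Nat.card G = 53 ^ 1 * 77 := by rw [h]; norm_num
  have hm : ¬ 53 ∣ 77 := by norm_num
  have hmem := card_sylow_mem_candidates hc hm
  have hcand : sylowCandidates 53 77 = [1] := by decide
  rw [hcand] at hmem
  simp only [List.mem_cons, List.not_mem_nil, or_false] at hmem
  have hlt := one_lt_card_sylow_of_card hc hm (by norm_num) (by norm_num)
  have hd := hmem
  · omega

theorem no_4082 {G : Type*} [Group G] [Finite G] [IsSimpleGroup G]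
    (hG : ¬ IsMulCommutative G) (h : Nat.card G = 4082) : False := by
  exact ev hG (by rw [h]; exact ⟨2041, by norm_num⟩) (by rw [h]; omega)

theorem no_4083 {G : Type*} [Group G] [Finite G] [IsSimpleGroup G]
    (hG : ¬ IsMulCommutative G) (h : Nat.card G = 4083) : False := by
  exact tp hG 3 1361 1 1 (by norm_num) (by norm_num) (by rw [h]; norm_num)

theorem no_4084 {G : Type*} [Group G] [Finite G] [IsSimpleGroup G]
    (hG : ¬ IsMulCommutative G) (h : Nat.card G = 4084) : False := by
  exact tp hG 2 1021 2 1 (by norm_num) (by norm_num) (by rw [h]; norm_num)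

theorem no_4085 {G : Type*} [Group G] [Finite G] [IsSimpleGroup G]
    (hG : ¬ IsMulCommutative G) (h : Nat.card G = 4085) : False := by
  have : Fact (Nat.Prime 43) := ⟨by norm_num⟩
  have hc : Nat.card G = 43 ^ 1 * 95 := by rw [h]; norm_num
  have hm : ¬ 43 ∣ 95 := by norm_num
  have hmem := card_sylow_mem_candidates hc hm
  have hcand : sylowCandidates 43 95 = [1] := by decide
  rw [hcand] at hmem
  simp only [List.mem_cons, List.not_mem_nil, or_false] at hmem
  have hlt := one_lt_card_sylow_of_card hc hm (by norm_num) (by norm_num)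
  have hd := hmem
  · omega

theorem no_4086 {G : Type*} [Group G] [Finite G] [IsSimpleGroup G]
    (hG : ¬ IsMulCommutative G) (h : Nat.card G = 4086) : False := by
  exact ev hG (by rw [h]; exact ⟨2043, by norm_num⟩) (by rw [h]; omega)

theorem no_4087 {G : Type*} [Group G] [Finite G] [IsSimpleGroup G]
    (hG : ¬ IsMulCommutative G) (h : Nat.card G = 4087) : False := by
  exact tp hG 61 67 1 1 (by norm_num) (by norm_num) (by rw [h]; norm_num)

theorem no_4088 {G : Type*} [Group G] [Finite G] [IsSimpleGroup G]
    (hG : ¬ IsMulCommutative G) (h : Nat.card G = 4088) : False := by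
  have : Fact (Nat.Prime 73) := ⟨by norm_num⟩
  have hc : Nat.card G = 73 ^ 1 * 56 := by rw [h]; norm_num
  have hm : ¬ 73 ∣ 56 := by norm_num
  have hmem := card_sylow_mem_candidates hc hm
  have hcand : sylowCandidates 73 56 = [1] := by decide
  rw [hcand] at hmem
  simp only [List.mem_cons, List.not_mem_nil, or_false] at hmem
  have hlt := one_lt_card_sylow_of_card hc hm (by norm_num) (by norm_num)
  have hd := hmem
  · omega

theorem no_4089 {G : Type*} [Group G] [Finite G] [IsSimpleGroup G]
    (hG : ¬ IsMulCommutative G) (h : Nat.card G = 4089) : False := by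
  have : Fact (Nat.Prime 47) := ⟨by norm_num⟩
  have hc : Nat.card G = 47 ^ 1 * 87 := by rw [h]; norm_num
  have hm : ¬ 47 ∣ 87 := by norm_num
  have hmem := card_sylow_mem_candidates hc hm
  have hcand : sylowCandidates 47 87 = [1] := by decide
  rw [hcand] at hmem
  simp only [List.mem_cons, List.not_mem_nil, or_false] at hmem
  have hlt := one_lt_card_sylow_of_card hc hm (by norm_num) (by norm_num)
  have hd := hmem
  · omega

theorem no_4090 {G : Type*} [Group G] [Finite G] [IsSimpleGroup G]
    (hG : ¬ IsMulCommutative G) (h : Nat.card G = 4090) : False := by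
  exact ev hG (by rw [h]; exact ⟨2045, by norm_num⟩) (by rw [h]; omega)

theorem no_4091 {G : Type*} [Group G] [Finite G] [IsSimpleGroup G]
    (hG : ¬ IsMulCommutative G) (h : Nat.card G = 4091) : False := by
  exact tp hG 4091 2 1 0 (by norm_num) (by norm_num) (by rw [h]; norm_num)

theorem no_4092 {G : Type*} [Group G] [Finite G] [IsSimpleGroup G]
    (hG : ¬ IsMulCommutative G) (h : Nat.card G = 4092) : False := by
  have : Fact (Nat.Prime 31) := ⟨by norm_num⟩
  have hc : Nat.card G = 31 ^ 1 * 132 := by rw [h]; norm_num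
  have hm : ¬ 31 ∣ 132 := by norm_num
  have hmem := card_sylow_mem_candidates hc hm
  have hcand : sylowCandidates 31 132 = [1] := by decide
  rw [hcand] at hmem
  simp only [List.mem_cons, List.not_mem_nil, or_false] at hmem
  have hlt := one_lt_card_sylow_of_card hc hm (by norm_num) (by norm_num)
  have hd := hmem
  · omega

theorem no_4093 {G : Type*} [Group G] [Finite G] [IsSimpleGroup G]
    (hG : ¬ IsMulCommutative G) (h : Nat.card G = 4093) : False := by
  exact tp hG 4093 2 1 0 (by norm_num) (by norm_num) (by rw [h]; norm_num)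

theorem no_4094 {G : Type*} [Group G] [Finite G] [IsSimpleGroup G]
    (hG : ¬ IsMulCommutative G) (h : Nat.card G = 4094) : False := by
  exact ev hG (by rw [h]; exact ⟨2047, by norm_num⟩) (by rw [h]; omega)

theorem no_4095 {G : Type*} [Group G] [Finite G] [IsSimpleGroup G]
    (hG : ¬ IsMulCommutative G) (h : Nat.card G = 4095) : False := by
  have : Fact (Nat.Prime 5) := ⟨by norm_num⟩
  have hc : Nat.card G = 5 ^ 1 * 819 := by rw [h]; norm_num
  have hm : ¬ 5 ∣ 819 := by norm_num
  have hmem := card_sylow_mem_candidates hc hm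
  have hcand : sylowCandidates 5 819 = [1, 21, 91] := by decide
  rw [hcand] at hmem
  simp only [List.mem_cons, List.not_mem_nil, or_false] at hmem
  have hlt := one_lt_card_sylow_of_card hc hm (by norm_num) (by norm_num)
  rcases hmem with hd | hd | hd
  · omega
  · exact burn_kill hc hm (by norm_num) 21 hd (by decide)
  · exact burn_kill hc hm (by norm_num) 91 hd (by decide)

theorem no_4096 {G : Type*} [Group G] [Finite G] [IsSimpleGroup G]
    (hG : ¬ IsMulCommutative G) (h : Nat.card G = 4096) : False := by
  exact tp hG 2 3 12 0 (by norm_num) (by norm_num) (by rw [h]; norm_num)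

theorem no_4097 {G : Type*} [Group G] [Finite G] [IsSimpleGroup G]
    (hG : ¬ IsMulCommutative G) (h : Nat.card G = 4097) : False := by
  exact tp hG 17 241 1 1 (by norm_num) (by norm_num) (by rw [h]; norm_num)

theorem no_4098 {G : Type*} [Group G] [Finite G] [IsSimpleGroup G]
    (hG : ¬ IsMulCommutative G) (h : Nat.card G = 4098) : False := by
  exact ev hG (by rw [h]; exact ⟨2049, by norm_num⟩) (by rw [h]; omega)

theorem no_4099 {G : Type*} [Group G] [Finite G] [IsSimpleGroup G]
    (hG : ¬ IsMulCommutative G) (h : Nat.card G = 4099) : False := by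
  exact tp hG 4099 2 1 0 (by norm_num) (by norm_num) (by rw [h]; norm_num)

theorem no_4100 {G : Type*} [Group G] [Finite G] [IsSimpleGroup G]
    (hG : ¬ IsMulCommutative G) (h : Nat.card G = 4100) : False := by
  exact ev hG (by rw [h]; exact ⟨2050, by norm_num⟩) (by rw [h]; omega)

/-- the orders in [4001, 4100] not excluded by the engine -/
theorem chunk {G : Type*} [Group G] [Finite G] [IsSimpleGroup G]
    (hG : ¬ IsMulCommutative G) (n : ℕ) (hn : Nat.card G = n) (h1 : 4001 ≤ n) (h2 : n ≤ 4100) :
    n = 4032 ∨ n = 4080 := by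
  interval_cases n
  · exact (no_4001 hG hn).elim
  · exact (no_4002 hG hn).elim
  · exact (no_4003 hG hn).elim
  · exact (no_4004 hG hn).elim
  · exact (no_4005 hG hn).elim
  · exact (no_4006 hG hn).elim
  · exact (no_4007 hG hn).elim
  · exact (no_4008 hG hn).elim
  · exact (no_4009 hG hn).elim
  · exact (no_4010 hG hn).elim
  · exact (no_4011 hG hn).elim
  · exact (no_4012 hG hn).elim
  · exact (no_4013 hG hn).elim
  · exact (no_4014 hG hn).elim
  · exact (no_4015 hG hn).elim
  · exact (no_4016 hG hn).elim
  · exact (no_4017 hG hn).elim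
  · exact (no_4018 hG hn).elim
  · exact (no_4019 hG hn).elim
  · exact (no_4020 hG hn).elim
  · exact (no_4021 hG hn).elim
  · exact (no_4022 hG hn).elim
  · exact (no_4023 hG hn).elim
  · exact (no_4024 hG hn).elim
  · exact (no_4025 hG hn).elim
  · exact (no_4026 hG hn).elim
  · exact (no_4027 hG hn).elim
  · exact (no_4028 hG hn).elim
  · exact (no_4029 hG hn).elim
  · exact (no_4030 hG hn).elim
  · exact (no_4031 hG hn).elim
  · simp
  · exact (no_4033 hG hn).elim
  · exact (no_4034 hG hn).elim
  · exact (no_4035 hG hn).elim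
  · exact (no_4036 hG hn).elim
  · exact (no_4037 hG hn).elim
  · exact (no_4038 hG hn).elim
  · exact (no_4039 hG hn).elim
  · exact (no_4040 hG hn).elim
  · exact (no_4041 hG hn).elim
  · exact (no_4042 hG hn).elim
  · exact (no_4043 hG hn).elim
  · exact (no_4044 hG hn).elim
  · exact (no_4045 hG hn).elim
  · exact (no_4046 hG hn).elim
  · exact (no_4047 hG hn).elim
  · exact (no_4048 hG hn).elim
  · exact (no_4049 hG hn).elim
  · exact (no_4050 hG hn).elim
  · exact (no_4051 hG hn).elim
  · exact (no_4052 hG hn).elim
  · exact (no_4053 hG hn).elim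
  · exact (no_4054 hG hn).elim
  · exact (no_4055 hG hn).elim
  · exact (no_4056 hG hn).elim
  · exact (no_4057 hG hn).elim
  · exact (no_4058 hG hn).elim
  · exact (no_4059 hG hn).elim
  · exact (no_4060 hG hn).elim
  · exact (no_4061 hG hn).elim
  · exact (no_4062 hG hn).elim
  · exact (no_4063 hG hn).elim
  · exact (no_4064 hG hn).elim
  · exact (no_4065 hG hn).elim
  · exact (no_4066 hG hn).elim
  · exact (no_4067 hG hn).elim
  · exact (no_4068 hG hn).elim
  · exact (no_4069 hG hn).elim
  · exact (no_4070 hG hn).elim
  · exact (no_4071 hG hn).elim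
  · exact (no_4072 hG hn).elim
  · exact (no_4073 hG hn).elim
  · exact (no_4074 hG hn).elim
  · exact (no_4075 hG hn).elim
  · exact (no_4076 hG hn).elim
  · exact (no_4077 hG hn).elim
  · exact (no_4078 hG hn).elim
  · exact (no_4079 hG hn).elim
  · simp
  · exact (no_4081 hG hn).elim
  · exact (no_4082 hG hn).elim
  · exact (no_4083 hG hn).elim
  · exact (no_4084 hG hn).elim
  · exact (no_4085 hG hn).elim
  · exact (no_4086 hG hn).elim
  · exact (no_4087 hG hn).elim
  · exact (no_4088 hG hn).elim
  · exact (no_4089 hG hn).elim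
  · exact (no_4090 hG hn).elim
  · exact (no_4091 hG hn).elim
  · exact (no_4092 hG hn).elim
  · exact (no_4093 hG hn).elim
  · exact (no_4094 hG hn).elim
  · exact (no_4095 hG hn).elim
  · exact (no_4096 hG hn).elim
  · exact (no_4097 hG hn).elim
  · exact (no_4098 hG hn).elim
  · exact (no_4099 hG hn).elim
  · exact (no_4100 hG hn).elim

end Cfsg.Agent.Lib.Helper16_SO_E04
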