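import Mathlib
import Cfsg.Agent.Lib.Helper75_SM_Base

/-!
# S0983 engine, generated file: no simple group of order N for the easy N in [4101, 4200]
(helper16; same scheme as helper75's `Helper75_SM_E*`)
-/

set_option autoImplicit false
set_option linter.unusedVariables false

namespace Cfsg.Agent.Lib.Helper16_SO_E05

open Cfsg.Agent.Lib.Helper17_Sylow Cfsg.Agent.Lib.Helper75_SM_Base

theorem no_4101 {G : Type*} [Group G] [Finite G] [IsSimpleGroup G]
    (hG : ¬ IsMulCommutative G) (h : Nat.card G = 4101) : False := by
  exact tp hG 3 1367 1 1 (by norm_num) (by norm_num) (by rw [h]; norm_num)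

theorem no_4102 {G : Type*} [Group G] [Finite G] [IsSimpleGroup G]
    (hG : ¬ IsMulCommutative G) (h : Nat.card G = 4102) : False := by
  exact ev hG (by rw [h]; exact ⟨2051, by norm_num⟩) (by rw [h]; omega)

theorem no_4103 {G : Type*} [Group G] [Finite G] [IsSimpleGroup G]
    (hG : ¬ IsMulCommutative G) (h : Nat.card G = 4103) : False := by
  exact tp hG 11 373 1 1 (by norm_num) (by norm_num) (by rw [h]; norm_num)

theorem no_4104 {G : Type*} [Group G] [Finite G] [IsSimpleGroup G]
    (hG : ¬ IsMulCommutative G) (h : Nat.card G = 4104) : False := by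
  have : Fact (Nat.Prime 19) := ⟨by norm_num⟩
  have hc : Nat.card G = 19 ^ 1 * 216 := by rw [h]; norm_num
  have hm : ¬ 19 ∣ 216 := by norm_num
  have hmem := card_sylow_mem_candidates hc hm
  have hcand : sylowCandidates 19 216 = [1] := by decide
  rw [hcand] at hmem
  simp only [List.mem_cons, List.not_mem_nil, or_false] at hmem
  have hlt := one_lt_card_sylow_of_card hc hm (by norm_num) (by norm_num)
  have hd := hmem
  · omega

theorem no_4105 {G : Type*} [Group G] [Finite G] [IsSimpleGroup G]
    (hG : ¬ IsMulCommutative G) (h : Nat.card G = 4105) : False := by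
  exact tp hG 5 821 1 1 (by norm_num) (by norm_num) (by rw [h]; norm_num)

theorem no_4106 {G : Type*} [Group G] [Finite G] [IsSimpleGroup G]
    (hG : ¬ IsMulCommutative G) (h : Nat.card G = 4106) : False := by
  exact tp hG 2 2053 1 1 (by norm_num) (by norm_num) (by rw [h]; norm_num)

theorem no_4107 {G : Type*} [Group G] [Finite G] [IsSimpleGroup G]
    (hG : ¬ IsMulCommutative G) (h : Nat.card G = 4107) : False := by
  exact tp hG 3 37 1 2 (by norm_num) (by norm_num) (by rw [h]; norm_num)

theorem no_4108 {G : Type*} [Group G] [Finite G] [IsSimpleGroup G]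
    (hG : ¬ IsMulCommutative G) (h : Nat.card G = 4108) : False := by
  exact ev hG (by rw [h]; exact ⟨2054, by norm_num⟩) (by rw [h]; omega)

theorem no_4109 {G : Type*} [Group G] [Finite G] [IsSimpleGroup G]
    (hG : ¬ IsMulCommutative G) (h : Nat.card G = 4109) : False := by
  exact tp hG 7 587 1 1 (by norm_num) (by norm_num) (by rw [h]; norm_num)

theorem no_4110 {G : Type*} [Group G] [Finite G] [IsSimpleGroup G]
    (hG : ¬ IsMulCommutative G) (h : Nat.card G = 4110) : False := by
  exact ev hG (by rw [h]; exact ⟨2055, by norm_num⟩) (by rw [h]; omega)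

theorem no_4111 {G : Type*} [Group G] [Finite G] [IsSimpleGroup G]
    (hG : ¬ IsMulCommutative G) (h : Nat.card G = 4111) : False := by
  exact tp hG 4111 2 1 0 (by norm_num) (by norm_num) (by rw [h]; norm_num)

theorem no_4112 {G : Type*} [Group G] [Finite G] [IsSimpleGroup G]
    (hG : ¬ IsMulCommutative G) (h : Nat.card G = 4112) : False := by
  exact tp hG 2 257 4 1 (by norm_num) (by norm_num) (by rw [h]; norm_num)

theorem no_4113 {G : Type*} [Group G] [Finite G] [IsSimpleGroup G]
    (hG : ¬ IsMulCommutative G) (h : Nat.card G = 4113) : False := by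
  exact tp hG 3 457 2 1 (by norm_num) (by norm_num) (by rw [h]; norm_num)

theorem no_4114 {G : Type*} [Group G] [Finite G] [IsSimpleGroup G]
    (hG : ¬ IsMulCommutative G) (h : Nat.card G = 4114) : False := by
  exact ev hG (by rw [h]; exact ⟨2057, by norm_num⟩) (by rw [h]; omega)

theorem no_4115 {G : Type*} [Group G] [Finite G] [IsSimpleGroup G]
    (hG : ¬ IsMulCommutative G) (h : Nat.card G = 4115) : False := by
  exact tp hG 5 823 1 1 (by norm_num) (by norm_num) (by rw [h]; norm_num)

theorem no_4116 {G : Type*} [Group G] [Finite G] [IsSimpleGroup G]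
    (hG : ¬ IsMulCommutative G) (h : Nat.card G = 4116) : False := by
  have : Fact (Nat.Prime 7) := ⟨by norm_num⟩
  have hc : Nat.card G = 7 ^ 3 * 12 := by rw [h]; norm_num
  have hm : ¬ 7 ∣ 12 := by norm_num
  have hmem := card_sylow_mem_candidates hc hm
  have hcand : sylowCandidates 7 12 = [1] := by decide
  rw [hcand] at hmem
  simp only [List.mem_cons, List.not_mem_nil, or_false] at hmem
  have hlt := one_lt_card_sylow_of_card hc hm (by norm_num) (by norm_num)
  have hd := hmem
  · omega

theorem no_4117 {G : Type*} [Group G] [Finite G] [IsSimpleGroup G]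
    (hG : ¬ IsMulCommutative G) (h : Nat.card G = 4117) : False := by
  exact tp hG 23 179 1 1 (by norm_num) (by norm_num) (by rw [h]; norm_num)

theorem no_4118 {G : Type*} [Group G] [Finite G] [IsSimpleGroup G]
    (hG : ¬ IsMulCommutative G) (h : Nat.card G = 4118) : False := by
  exact ev hG (by rw [h]; exact ⟨2059, by norm_num⟩) (by rw [h]; omega)

theorem no_4119 {G : Type*} [Group G] [Finite G] [IsSimpleGroup G]
    (hG : ¬ IsMulCommutative G) (h : Nat.card G = 4119) : False := by
  exact tp hG 3 1373 1 1 (by norm_num) (by norm_num) (by rw [h]; norm_num)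

theorem no_4120 {G : Type*} [Group G] [Finite G] [IsSimpleGroup G]
    (hG : ¬ IsMulCommutative G) (h : Nat.card G = 4120) : False := by
  exact ev hG (by rw [h]; exact ⟨2060, by norm_num⟩) (by rw [h]; omega)

theorem no_4121 {G : Type*} [Group G] [Finite G] [IsSimpleGroup G]
    (hG : ¬ IsMulCommutative G) (h : Nat.card G = 4121) : False := by
  exact tp hG 13 317 1 1 (by norm_num) (by norm_num) (by rw [h]; norm_num)

theorem no_4122 {G : Type*} [Group G] [Finite G] [IsSimpleGroup G]
    (hG : ¬ IsMulCommutative G) (h : Nat.card G = 4122) : False := by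
  exact ev hG (by rw [h]; exact ⟨2061, by norm_num⟩) (by rw [h]; omega)

theorem no_4123 {G : Type*} [Group G] [Finite G] [IsSimpleGroup G]
    (hG : ¬ IsMulCommutative G) (h : Nat.card G = 4123) : False := by
  have : Fact (Nat.Prime 31) := ⟨by norm_num⟩
  have hc : Nat.card G = 31 ^ 1 * 133 := by rw [h]; norm_num
  have hm : ¬ 31 ∣ 133 := by norm_num
  have hmem := card_sylow_mem_candidates hc hm
  have hcand : sylowCandidates 31 133 = [1] := by decide
  rw [hcand] at hmem
  simp only [List.mem_cons, List.not_mem_nil, or_false] at hmem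
  have hlt := one_lt_card_sylow_of_card hc hm (by norm_num) (by norm_num)
  have hd := hmem
  · omega

theorem no_4124 {G : Type*} [Group G] [Finite G] [IsSimpleGroup G]
    (hG : ¬ IsMulCommutative G) (h : Nat.card G = 4124) : False := by
  exact tp hG 2 1031 2 1 (by norm_num) (by norm_num) (by rw [h]; norm_num)

theorem no_4125 {G : Type*} [Group G] [Finite G] [IsSimpleGroup G]
    (hG : ¬ IsMulCommutative G) (h : Nat.card G = 4125) : False := by
  have : Fact (Nat.Prime 5) := ⟨by norm_num⟩
  have hc : Nat.card G = 5 ^ 3 * 33 := by rw [h]; norm_num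
  have hm : ¬ 5 ∣ 33 := by norm_num
  have hmem := card_sylow_mem_candidates hc hm
  have hcand : sylowCandidates 5 33 = [1, 11] := by decide
  rw [hcand] at hmem
  simp only [List.mem_cons, List.not_mem_nil, or_false] at hmem
  have hlt := one_lt_card_sylow_of_card hc hm (by norm_num) (by norm_num)
  rcases hmem with hd | hd
  · omega
  · exact fact_kill hG 11 hd (by norm_num) (by rw [h]; decide)

theorem no_4126 {G : Type*} [Group G] [Finite G] [IsSimpleGroup G]
    (hG : ¬ IsMulCommutative G) (h : Nat.card G = 4126) : False := by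
  exact tp hG 2 2063 1 1 (by norm_num) (by norm_num) (by rw [h]; norm_num)

theorem no_4127 {G : Type*} [Group G] [Finite G] [IsSimpleGroup G]
    (hG : ¬ IsMulCommutative G) (h : Nat.card G = 4127) : False := by
  exact tp hG 4127 2 1 0 (by norm_num) (by norm_num) (by rw [h]; norm_num)

theorem no_4128 {G : Type*} [Group G] [Finite G] [IsSimpleGroup G]
    (hG : ¬ IsMulCommutative G) (h : Nat.card G = 4128) : False := by
  have : Fact (Nat.Prime 43) := ⟨by norm_num⟩
  have hc : Nat.card G = 43 ^ 1 * 96 := by rw [h]; norm_num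
  have hm : ¬ 43 ∣ 96 := by norm_num
  have hmem := card_sylow_mem_candidates hc hm
  have hcand : sylowCandidates 43 96 = [1] := by decide
  rw [hcand] at hmem
  simp only [List.mem_cons, List.not_mem_nil, or_false] at hmem
  have hlt := one_lt_card_sylow_of_card hc hm (by norm_num) (by norm_num)
  have hd := hmem
  · omega

theorem no_4129 {G : Type*} [Group G] [Finite G] [IsSimpleGroup G]
    (hG : ¬ IsMulCommutative G) (h : Nat.card G = 4129) : False := by
  exact tp hG 4129 2 1 0 (by norm_num) (by norm_num) (by rw [h]; norm_num)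

theorem no_4130 {G : Type*} [Group G] [Finite G] [IsSimpleGroup G]
    (hG : ¬ IsMulCommutative G) (h : Nat.card G = 4130) : False := by
  exact ev hG (by rw [h]; exact ⟨2065, by norm_num⟩) (by rw [h]; omega)

theorem no_4131 {G : Type*} [Group G] [Finite G] [IsSimpleGroup G]
    (hG : ¬ IsMulCommutative G) (h : Nat.card G = 4131) : False := by
  exact tp hG 3 17 5 1 (by norm_num) (by norm_num) (by rw [h]; norm_num)

theorem no_4132 {G : Type*} [Group G] [Finite G] [IsSimpleGroup G]
    (hG : ¬ IsMulCommutative G) (h : Nat.card G = 4132) : False := by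
  exact tp hG 2 1033 2 1 (by norm_num) (by norm_num) (by rw [h]; norm_num)

theorem no_4133 {G : Type*} [Group G] [Finite G] [IsSimpleGroup G]
    (hG : ¬ IsMulCommutative G) (h : Nat.card G = 4133) : False := by
  exact tp hG 4133 2 1 0 (by norm_num) (by norm_num) (by rw [h]; norm_num)

theorem no_4134 {G : Type*} [Group G] [Finite G] [IsSimpleGroup G]
    (hG : ¬ IsMulCommutative G) (h : Nat.card G = 4134) : False := by
  exact ev hG (by rw [h]; exact ⟨2067, by norm_num⟩) (by rw [h]; omega)

theorem no_4135 {G : Type*} [Group G] [Finite G] [IsSimpleGroup G]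
    (hG : ¬ IsMulCommutative G) (h : Nat.card G = 4135) : False := by
  exact tp hG 5 827 1 1 (by norm_num) (by norm_num) (by rw [h]; norm_num)

theorem no_4136 {G : Type*} [Group G] [Finite G] [IsSimpleGroup G]
    (hG : ¬ IsMulCommutative G) (h : Nat.card G = 4136) : False := by
  exact ev hG (by rw [h]; exact ⟨2068, by norm_num⟩) (by rw [h]; omega)

theorem no_4137 {G : Type*} [Group G] [Finite G] [IsSimpleGroup G]
    (hG : ¬ IsMulCommutative G) (h : Nat.card G = 4137) : False := by
  have : Fact (Nat.Prime 197) := ⟨by norm_num⟩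
  have hc : Nat.card G = 197 ^ 1 * 21 := by rw [h]; norm_num
  have hm : ¬ 197 ∣ 21 := by norm_num
  have hmem := card_sylow_mem_candidates hc hm
  have hcand : sylowCandidates 197 21 = [1] := by decide
  rw [hcand] at hmem
  simp only [List.mem_cons, List.not_mem_nil, or_false] at hmem
  have hlt := one_lt_card_sylow_of_card hc hm (by norm_num) (by norm_num)
  have hd := hmem
  · omega

theorem no_4138 {G : Type*} [Group G] [Finite G] [IsSimpleGroup G]
    (hG : ¬ IsMulCommutative G) (h : Nat.card G = 4138) : False := by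
  exact tp hG 2 2069 1 1 (by norm_num) (by norm_num) (by rw [h]; norm_num)

theorem no_4139 {G : Type*} [Group G] [Finite G] [IsSimpleGroup G]
    (hG : ¬ IsMulCommutative G) (h : Nat.card G = 4139) : False := by
  exact tp hG 4139 2 1 0 (by norm_num) (by norm_num) (by rw [h]; norm_num)

theorem no_4140 {G : Type*} [Group G] [Finite G] [IsSimpleGroup G]
    (hG : ¬ IsMulCommutative G) (h : Nat.card G = 4140) : False := by
  have : Fact (Nat.Prime 23) := ⟨by norm_num⟩
  have hc : Nat.card G = 23 ^ 1 * 180 := by rw [h]; norm_num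
  have hm : ¬ 23 ∣ 180 := by norm_num
  have hmem := card_sylow_mem_candidates hc hm
  have hcand : sylowCandidates 23 180 = [1] := by decide
  rw [hcand] at hmem
  simp only [List.mem_cons, List.not_mem_nil, or_false] at hmem
  have hlt := one_lt_card_sylow_of_card hc hm (by norm_num) (by norm_num)
  have hd := hmem
  · omega

theorem no_4141 {G : Type*} [Group G] [Finite G] [IsSimpleGroup G]
    (hG : ¬ IsMulCommutative G) (h : Nat.card G = 4141) : False := by
  exact tp hG 41 101 1 1 (by norm_num) (by norm_num) (by rw [h]; norm_num)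

theorem no_4142 {G : Type*} [Group G] [Finite G] [IsSimpleGroup G]
    (hG : ¬ IsMulCommutative G) (h : Nat.card G = 4142) : False := by
  exact ev hG (by rw [h]; exact ⟨2071, by norm_num⟩) (by rw [h]; omega)

theorem no_4143 {G : Type*} [Group G] [Finite G] [IsSimpleGroup G]
    (hG : ¬ IsMulCommutative G) (h : Nat.card G = 4143) : False := by
  exact tp hG 3 1381 1 1 (by norm_num) (by norm_num) (by rw [h]; norm_num)

theorem no_4144 {G : Type*} [Group G] [Finite G] [IsSimpleGroup G]
    (hG : ¬ IsMulCommutative G) (h : Nat.card G = 4144) : False := by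
  have : Fact (Nat.Prime 37) := ⟨by norm_num⟩
  have hc : Nat.card G = 37 ^ 1 * 112 := by rw [h]; norm_num
  have hm : ¬ 37 ∣ 112 := by norm_num
  have hmem := card_sylow_mem_candidates hc hm
  have hcand : sylowCandidates 37 112 = [1, 112] := by decide
  rw [hcand] at hmem
  simp only [List.mem_cons, List.not_mem_nil, or_false] at hmem
  have hlt := one_lt_card_sylow_of_card hc hm (by norm_num) (by norm_num)
  rcases hmem with hd | hd
  · omega
  · exact burn_kill hc hm (by norm_num) 112 hd (by decide)

theorem no_4145 {G : Type*} [Group G] [Finite G] [IsSimpleGroup G]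
    (hG : ¬ IsMulCommutative G) (h : Nat.card G = 4145) : False := by
  exact tp hG 5 829 1 1 (by norm_num) (by norm_num) (by rw [h]; norm_num)

theorem no_4146 {G : Type*} [Group G] [Finite G] [IsSimpleGroup G]
    (hG : ¬ IsMulCommutative G) (h : Nat.card G = 4146) : False := by
  exact ev hG (by rw [h]; exact ⟨2073, by norm_num⟩) (by rw [h]; omega)

theorem no_4147 {G : Type*} [Group G] [Finite G] [IsSimpleGroup G]
    (hG : ¬ IsMulCommutative G) (h : Nat.card G = 4147) : False := by
  have : Fact (Nat.Prime 29) := ⟨by norm_num⟩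
  have hc : Nat.card G = 29 ^ 1 * 143 := by rw [h]; norm_num
  have hm : ¬ 29 ∣ 143 := by norm_num
  have hmem := card_sylow_mem_candidates hc hm
  have hcand : sylowCandidates 29 143 = [1] := by decide
  rw [hcand] at hmem
  simp only [List.mem_cons, List.not_mem_nil, or_false] at hmem
  have hlt := one_lt_card_sylow_of_card hc hm (by norm_num) (by norm_num)
  have hd := hmem
  · omega

theorem no_4148 {G : Type*} [Group G] [Finite G] [IsSimpleGroup G]
    (hG : ¬ IsMulCommutative G) (h : Nat.card G = 4148) : False := by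
  exact ev hG (by rw [h]; exact ⟨2074, by norm_num⟩) (by rw [h]; omega)

theorem no_4149 {G : Type*} [Group G] [Finite G] [IsSimpleGroup G]
    (hG : ¬ IsMulCommutative G) (h : Nat.card G = 4149) : False := by
  exact tp hG 3 461 2 1 (by norm_num) (by norm_num) (by rw [h]; norm_num)

theorem no_4150 {G : Type*} [Group G] [Finite G] [IsSimpleGroup G]
    (hG : ¬ IsMulCommutative G) (h : Nat.card G = 4150) : False := by
  exact ev hG (by rw [h]; exact ⟨2075, by norm_num⟩) (by rw [h]; omega)

theorem no_4151 {G : Type*} [Group G] [Finite G] [IsSimpleGroup G]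
    (hG : ¬ IsMulCommutative G) (h : Nat.card G = 4151) : False := by
  exact tp hG 7 593 1 1 (by norm_num) (by norm_num) (by rw [h]; norm_num)

theorem no_4152 {G : Type*} [Group G] [Finite G] [IsSimpleGroup G]
    (hG : ¬ IsMulCommutative G) (h : Nat.card G = 4152) : False := by
  have : Fact (Nat.Prime 173) := ⟨by norm_num⟩
  have hc : Nat.card G = 173 ^ 1 * 24 := by rw [h]; norm_num
  have hm : ¬ 173 ∣ 24 := by norm_num
  have hmem := card_sylow_mem_candidates hc hm
  have hcand : sylowCandidates 173 24 = [1] := by decide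
  rw [hcand] at hmem
  simp only [List.mem_cons, List.not_mem_nil, or_false] at hmem
  have hlt := one_lt_card_sylow_of_card hc hm (by norm_num) (by norm_num)
  have hd := hmem
  · omega

theorem no_4153 {G : Type*} [Group G] [Finite G] [IsSimpleGroup G]
    (hG : ¬ IsMulCommutative G) (h : Nat.card G = 4153) : False := by
  exact tp hG 4153 2 1 0 (by norm_num) (by norm_num) (by rw [h]; norm_num)

theorem no_4154 {G : Type*} [Group G] [Finite G] [IsSimpleGroup G]
    (hG : ¬ IsMulCommutative G) (h : Nat.card G = 4154) : False := by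
  exact ev hG (by rw [h]; exact ⟨2077, by norm_num⟩) (by rw [h]; omega)

theorem no_4155 {G : Type*} [Group G] [Finite G] [IsSimpleGroup G]
    (hG : ¬ IsMulCommutative G) (h : Nat.card G = 4155) : False := by
  have : Fact (Nat.Prime 277) := ⟨by norm_num⟩
  have hc : Nat.card G = 277 ^ 1 * 15 := by rw [h]; norm_num
  have hm : ¬ 277 ∣ 15 := by norm_num
  have hmem := card_sylow_mem_candidates hc hm
  have hcand : sylowCandidates 277 15 = [1] := by decide
  rw [hcand] at hmem
  simp only [List.mem_cons, List.not_mem_nil, or_false] at hmem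
  have hlt := one_lt_card_sylow_of_card hc hm (by norm_num) (by norm_num)
  have hd := hmem
  · omega

theorem no_4156 {G : Type*} [Group G] [Finite G] [IsSimpleGroup G]
    (hG : ¬ IsMulCommutative G) (h : Nat.card G = 4156) : False := by
  exact tp hG 2 1039 2 1 (by norm_num) (by norm_num) (by rw [h]; norm_num)

theorem no_4157 {G : Type*} [Group G] [Finite G] [IsSimpleGroup G]
    (hG : ¬ IsMulCommutative G) (h : Nat.card G = 4157) : False := by
  exact tp hG 4157 2 1 0 (by norm_num) (by norm_num) (by rw [h]; norm_num)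

theorem no_4158 {G : Type*} [Group G] [Finite G] [IsSimpleGroup G]
    (hG : ¬ IsMulCommutative G) (h : Nat.card G = 4158) : False := by
  exact ev hG (by rw [h]; exact ⟨2079, by norm_num⟩) (by rw [h]; omega)

theorem no_4159 {G : Type*} [Group G] [Finite G] [IsSimpleGroup G]
    (hG : ¬ IsMulCommutative G) (h : Nat.card G = 4159) : False := by
  exact tp hG 4159 2 1 0 (by norm_num) (by norm_num) (by rw [h]; norm_num)

theorem no_4161 {G : Type*} [Group G] [Finite G] [IsSimpleGroup G]
    (hG : ¬ IsMulCommutative G) (h : Nat.card G = 4161) : False := by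
  have : Fact (Nat.Prime 73) := ⟨by norm_num⟩
  have hc : Nat.card G = 73 ^ 1 * 57 := by rw [h]; norm_num
  have hm : ¬ 73 ∣ 57 := by norm_num
  have hmem := card_sylow_mem_candidates hc hm
  have hcand : sylowCandidates 73 57 = [1] := by decide
  rw [hcand] at hmem
  simp only [List.mem_cons, List.not_mem_nil, or_false] at hmem
  have hlt := one_lt_card_sylow_of_card hc hm (by norm_num) (by norm_num)
  have hd := hmem
  · omega

theorem no_4162 {G : Type*} [Group G] [Finite G] [IsSimpleGroup G]
    (hG : ¬ IsMulCommutative G) (h : Nat.card G = 4162) : False := by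
  exact tp hG 2 2081 1 1 (by norm_num) (by norm_num) (by rw [h]; norm_num)

theorem no_4163 {G : Type*} [Group G] [Finite G] [IsSimpleGroup G]
    (hG : ¬ IsMulCommutative G) (h : Nat.card G = 4163) : False := by
  exact tp hG 23 181 1 1 (by norm_num) (by norm_num) (by rw [h]; norm_num)

theorem no_4164 {G : Type*} [Group G] [Finite G] [IsSimpleGroup G]
    (hG : ¬ IsMulCommutative G) (h : Nat.card G = 4164) : False := by
  have : Fact (Nat.Prime 347) := ⟨by norm_num⟩
  have hc : Nat.card G = 347 ^ 1 * 12 := by rw [h]; norm_num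
  have hm : ¬ 347 ∣ 12 := by norm_num
  have hmem := card_sylow_mem_candidates hc hm
  have hcand : sylowCandidates 347 12 = [1] := by decide
  rw [hcand] at hmem
  simp only [List.mem_cons, List.not_mem_nil, or_false] at hmem
  have hlt := one_lt_card_sylow_of_card hc hm (by norm_num) (by norm_num)
  have hd := hmem
  · omega

theorem no_4165 {G : Type*} [Group G] [Finite G] [IsSimpleGroup G]
    (hG : ¬ IsMulCommutative G) (h : Nat.card G = 4165) : False := by
  have : Fact (Nat.Prime 7) := ⟨by norm_num⟩
  have hc : Nat.card G = 7 ^ 2 * 85 := by rw [h]; norm_num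
  have hm : ¬ 7 ∣ 85 := by norm_num
  have hmem := card_sylow_mem_candidates hc hm
  have hcand : sylowCandidates 7 85 = [1, 85] := by decide
  rw [hcand] at hmem
  simp only [List.mem_cons, List.not_mem_nil, or_false] at hmem
  have hlt := one_lt_card_sylow_of_card hc hm (by norm_num) (by norm_num)
  rcases hmem with hd | hd
  · omega
  · exact burn2_kill hc hm (by norm_num) hd

theorem no_4166 {G : Type*} [Group G] [Finite G] [IsSimpleGroup G]
    (hG : ¬ IsMulCommutative G) (h : Nat.card G = 4166) : False := by
  exact tp hG 2 2083 1 1 (by norm_num) (by norm_num) (by rw [h]; norm_num)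

theorem no_4167 {G : Type*} [Group G] [Finite G] [IsSimpleGroup G]
    (hG : ¬ IsMulCommutative G) (h : Nat.card G = 4167) : False := by
  exact tp hG 3 463 2 1 (by norm_num) (by norm_num) (by rw [h]; norm_num)

theorem no_4168 {G : Type*} [Group G] [Finite G] [IsSimpleGroup G]
    (hG : ¬ IsMulCommutative G) (h : Nat.card G = 4168) : False := by
  exact tp hG 2 521 3 1 (by norm_num) (by norm_num) (by rw [h]; norm_num)

theorem no_4169 {G : Type*} [Group G] [Finite G] [IsSimpleGroup G]
    (hG : ¬ IsMulCommutative G) (h : Nat.card G = 4169) : False := by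
  exact tp hG 11 379 1 1 (by norm_num) (by norm_num) (by rw [h]; norm_num)

theorem no_4170 {G : Type*} [Group G] [Finite G] [IsSimpleGroup G]
    (hG : ¬ IsMulCommutative G) (h : Nat.card G = 4170) : False := by
  exact ev hG (by rw [h]; exact ⟨2085, by norm_num⟩) (by rw [h]; omega)

theorem no_4171 {G : Type*} [Group G] [Finite G] [IsSimpleGroup G]
    (hG : ¬ IsMulCommutative G) (h : Nat.card G = 4171) : False := by
  exact tp hG 43 97 1 1 (by norm_num) (by norm_num) (by rw [h]; norm_num)

theorem no_4172 {G : Type*} [Group G] [Finite G] [IsSimpleGroup G]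
    (hG : ¬ IsMulCommutative G) (h : Nat.card G = 4172) : False := by
  exact ev hG (by rw [h]; exact ⟨2086, by norm_num⟩) (by rw [h]; omega)

theorem no_4173 {G : Type*} [Group G] [Finite G] [IsSimpleGroup G]
    (hG : ¬ IsMulCommutative G) (h : Nat.card G = 4173) : False := by
  have : Fact (Nat.Prime 107) := ⟨by norm_num⟩
  have hc : Nat.card G = 107 ^ 1 * 39 := by rw [h]; norm_num
  have hm : ¬ 107 ∣ 39 := by norm_num
  have hmem := card_sylow_mem_candidates hc hm
  have hcand : sylowCandidates 107 39 = [1] := by decide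
  rw [hcand] at hmem
  simp only [List.mem_cons, List.not_mem_nil, or_false] at hmem
  have hlt := one_lt_card_sylow_of_card hc hm (by norm_num) (by norm_num)
  have hd := hmem
  · omega

theorem no_4174 {G : Type*} [Group G] [Finite G] [IsSimpleGroup G]
    (hG : ¬ IsMulCommutative G) (h : Nat.card G = 4174) : False := by
  exact tp hG 2 2087 1 1 (by norm_num) (by norm_num) (by rw [h]; norm_num)

theorem no_4175 {G : Type*} [Group G] [Finite G] [IsSimpleGroup G]
    (hG : ¬ IsMulCommutative G) (h : Nat.card G = 4175) : False := by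
  exact tp hG 5 167 2 1 (by norm_num) (by norm_num) (by rw [h]; norm_num)

theorem no_4176 {G : Type*} [Group G] [Finite G] [IsSimpleGroup G]
    (hG : ¬ IsMulCommutative G) (h : Nat.card G = 4176) : False := by
  have : Fact (Nat.Prime 29) := ⟨by norm_num⟩
  have hc : Nat.card G = 29 ^ 1 * 144 := by rw [h]; norm_num
  have hm : ¬ 29 ∣ 144 := by norm_num
  have hmem := card_sylow_mem_candidates hc hm
  have hcand : sylowCandidates 29 144 = [1] := by decide
  rw [hcand] at hmem
  simp only [List.mem_cons, List.not_mem_nil, or_false] at hmem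
  have hlt := one_lt_card_sylow_of_card hc hm (by norm_num) (by norm_num)
  have hd := hmem
  · omega

theorem no_4177 {G : Type*} [Group G] [Finite G] [IsSimpleGroup G]
    (hG : ¬ IsMulCommutative G) (h : Nat.card G = 4177) : False := by
  exact tp hG 4177 2 1 0 (by norm_num) (by norm_num) (by rw [h]; norm_num)

theorem no_4178 {G : Type*} [Group G] [Finite G] [IsSimpleGroup G]
    (hG : ¬ IsMulCommutative G) (h : Nat.card G = 4178) : False := by
  exact tp hG 2 2089 1 1 (by norm_num) (by norm_num) (by rw [h]; norm_num)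

theorem no_4179 {G : Type*} [Group G] [Finite G] [IsSimpleGroup G]
    (hG : ¬ IsMulCommutative G) (h : Nat.card G = 4179) : False := by
  have : Fact (Nat.Prime 199) := ⟨by norm_num⟩
  have hc : Nat.card G = 199 ^ 1 * 21 := by rw [h]; norm_num
  have hm : ¬ 199 ∣ 21 := by norm_num
  have hmem := card_sylow_mem_candidates hc hm
  have hcand : sylowCandidates 199 21 = [1] := by decide
  rw [hcand] at hmem
  simp only [List.mem_cons, List.not_mem_nil, or_false] at hmem
  have hlt := one_lt_card_sylow_of_card hc hm (by norm_num) (by norm_num)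
  have hd := hmem
  · omega

theorem no_4180 {G : Type*} [Group G] [Finite G] [IsSimpleGroup G]
    (hG : ¬ IsMulCommutative G) (h : Nat.card G = 4180) : False := by
  exact ev hG (by rw [h]; exact ⟨2090, by norm_num⟩) (by rw [h]; omega)

theorem no_4181 {G : Type*} [Group G] [Finite G] [IsSimpleGroup G]
    (hG : ¬ IsMulCommutative G) (h : Nat.card G = 4181) : False := by
  exact tp hG 37 113 1 1 (by norm_num) (by norm_num) (by rw [h]; norm_num)

theorem no_4182 {G : Type*} [Group G] [Finite G] [IsSimpleGroup G]
    (hG : ¬ IsMulCommutative G) (h : Nat.card G = 4182) : False := by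
  exact ev hG (by rw [h]; exact ⟨2091, by norm_num⟩) (by rw [h]; omega)

theorem no_4183 {G : Type*} [Group G] [Finite G] [IsSimpleGroup G]
    (hG : ¬ IsMulCommutative G) (h : Nat.card G = 4183) : False := by
  exact tp hG 47 89 1 1 (by norm_num) (by norm_num) (by rw [h]; norm_num)

theorem no_4184 {G : Type*} [Group G] [Finite G] [IsSimpleGroup G]
    (hG : ¬ IsMulCommutative G) (h : Nat.card G = 4184) : False := by
  exact tp hG 2 523 3 1 (by norm_num) (by norm_num) (by rw [h]; norm_num)

theorem no_4185 {G : Type*} [Group G] [Finite G] [IsSimpleGroup G]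
    (hG : ¬ IsMulCommutative G) (h : Nat.card G = 4185) : False := by
  have : Fact (Nat.Prime 31) := ⟨by norm_num⟩
  have hc : Nat.card G = 31 ^ 1 * 135 := by rw [h]; norm_num
  have hm : ¬ 31 ∣ 135 := by norm_num
  have hmem := card_sylow_mem_candidates hc hm
  have hcand : sylowCandidates 31 135 = [1] := by decide
  rw [hcand] at hmem
  simp only [List.mem_cons, List.not_mem_nil, or_false] at hmem
  have hlt := one_lt_card_sylow_of_card hc hm (by norm_num) (by norm_num)
  have hd := hmem
  · omega

theorem no_4186 {G : Type*} [Group G] [Finite G] [IsSimpleGroup G]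
    (hG : ¬ IsMulCommutative G) (h : Nat.card G = 4186) : False := by
  exact ev hG (by rw [h]; exact ⟨2093, by norm_num⟩) (by rw [h]; omega)

theorem no_4187 {G : Type*} [Group G] [Finite G] [IsSimpleGroup G]
    (hG : ¬ IsMulCommutative G) (h : Nat.card G = 4187) : False := by
  exact tp hG 53 79 1 1 (by norm_num) (by norm_num) (by rw [h]; norm_num)

theorem no_4188 {G : Type*} [Group G] [Finite G] [IsSimpleGroup G]
    (hG : ¬ IsMulCommutative G) (h : Nat.card G = 4188) : False := by
  have : Fact (Nat.Prime 349) := ⟨by norm_num⟩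
  have hc : Nat.card G = 349 ^ 1 * 12 := by rw [h]; norm_num
  have hm : ¬ 349 ∣ 12 := by norm_num
  have hmem := card_sylow_mem_candidates hc hm
  have hcand : sylowCandidates 349 12 = [1] := by decide
  rw [hcand] at hmem
  simp only [List.mem_cons, List.not_mem_nil, or_false] at hmem
  have hlt := one_lt_card_sylow_of_card hc hm (by norm_num) (by norm_num)
  have hd := hmem
  · omega

theorem no_4189 {G : Type*} [Group G] [Finite G] [IsSimpleGroup G]
    (hG : ¬ IsMulCommutative G) (h : Nat.card G = 4189) : False := by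
  exact tp hG 59 71 1 1 (by norm_num) (by norm_num) (by rw [h]; norm_num)

theorem no_4190 {G : Type*} [Group G] [Finite G] [IsSimpleGroup G]
    (hG : ¬ IsMulCommutative G) (h : Nat.card G = 4190) : False := by
  exact ev hG (by rw [h]; exact ⟨2095, by norm_num⟩) (by rw [h]; omega)

theorem no_4191 {G : Type*} [Group G] [Finite G] [IsSimpleGroup G]
    (hG : ¬ IsMulCommutative G) (h : Nat.card G = 4191) : False := by
  have : Fact (Nat.Prime 127) := ⟨by norm_num⟩
  have hc : Nat.card G = 127 ^ 1 * 33 := by rw [h]; norm_num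
  have hm : ¬ 127 ∣ 33 := by norm_num
  have hmem := card_sylow_mem_candidates hc hm
  have hcand : sylowCandidates 127 33 = [1] := by decide
  rw [hcand] at hmem
  simp only [List.mem_cons, List.not_mem_nil, or_false] at hmem
  have hlt := one_lt_card_sylow_of_card hc hm (by norm_num) (by norm_num)
  have hd := hmem
  · omega

theorem no_4192 {G : Type*} [Group G] [Finite G] [IsSimpleGroup G]
    (hG : ¬ IsMulCommutative G) (h : Nat.card G = 4192) : False := by
  exact tp hG 2 131 5 1 (by norm_num) (by norm_num) (by rw [h]; norm_num)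

theorem no_4193 {G : Type*} [Group G] [Finite G] [IsSimpleGroup G]
    (hG : ¬ IsMulCommutative G) (h : Nat.card G = 4193) : False := by
  exact tp hG 7 599 1 1 (by norm_num) (by norm_num) (by rw [h]; norm_num)

theorem no_4194 {G : Type*} [Group G] [Finite G] [IsSimpleGroup G]
    (hG : ¬ IsMulCommutative G) (h : Nat.card G = 4194) : False := by
  exact ev hG (by rw [h]; exact ⟨2097, by norm_num⟩) (by rw [h]; omega)

theorem no_4195 {G : Type*} [Group G] [Finite G] [IsSimpleGroup G]
    (hG : ¬ IsMulCommutative G) (h : Nat.card G = 4195) : False := by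
  exact tp hG 5 839 1 1 (by norm_num) (by norm_num) (by rw [h]; norm_num)

theorem no_4196 {G : Type*} [Group G] [Finite G] [IsSimpleGroup G]
    (hG : ¬ IsMulCommutative G) (h : Nat.card G = 4196) : False := by
  exact tp hG 2 1049 2 1 (by norm_num) (by norm_num) (by rw [h]; norm_num)

theorem no_4197 {G : Type*} [Group G] [Finite G] [IsSimpleGroup G]
    (hG : ¬ IsMulCommutative G) (h : Nat.card G = 4197) : False := by
  exact tp hG 3 1399 1 1 (by norm_num) (by norm_num) (by rw [h]; norm_num)

theorem no_4198 {G : Type*} [Group G] [Finite G] [IsSimpleGroup G]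
    (hG : ¬ IsMulCommutative G) (h : Nat.card G = 4198) : False := by
  exact tp hG 2 2099 1 1 (by norm_num) (by norm_num) (by rw [h]; norm_num)

theorem no_4199 {G : Type*} [Group G] [Finite G] [IsSimpleGroup G]
    (hG : ¬ IsMulCommutative G) (h : Nat.card G = 4199) : False := by
  have : Fact (Nat.Prime 19) := ⟨by norm_num⟩
  have hc : Nat.card G = 19 ^ 1 * 221 := by rw [h]; norm_num
  have hm : ¬ 19 ∣ 221 := by norm_num
  have hmem := card_sylow_mem_candidates hc hm
  have hcand : sylowCandidates 19 221 = [1] := by decide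
  rw [hcand] at hmem
  simp only [List.mem_cons, List.not_mem_nil, or_false] at hmem
  have hlt := one_lt_card_sylow_of_card hc hm (by norm_num) (by norm_num)
  have hd := hmem
  · omega

/-- the orders in [4101, 4200] not excluded by the engine -/
theorem chunk {G : Type*} [Group G] [Finite G] [IsSimpleGroup G]
    (hG : ¬ IsMulCommutative G) (n : ℕ) (hn : Nat.card G = n) (h1 : 4101 ≤ n) (h2 : n ≤ 4200) :
    n = 4160 ∨ n = 4200 := by
  interval_cases n
  · exact (no_4101 hG hn).elim
  · exact (no_4102 hG hn).elim
  · exact (no_4103 hG hn).elim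
  · exact (no_4104 hG hn).elim
  · exact (no_4105 hG hn).elim
  · exact (no_4106 hG hn).elim
  · exact (no_4107 hG hn).elim
  · exact (no_4108 hG hn).elim
  · exact (no_4109 hG hn).elim
  · exact (no_4110 hG hn).elim
  · exact (no_4111 hG hn).elim
  · exact (no_4112 hG hn).elim
  · exact (no_4113 hG hn).elim
  · exact (no_4114 hG hn).elim
  · exact (no_4115 hG hn).elim
  · exact (no_4116 hG hn).elim
  · exact (no_4117 hG hn).elim
  · exact (no_4118 hG hn).elim
  · exact (no_4119 hG hn).elim
  · exact (no_4120 hG hn).elim
  · exact (no_4121 hG hn).elim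
  · exact (no_4122 hG hn).elim
  · exact (no_4123 hG hn).elim
  · exact (no_4124 hG hn).elim
  · exact (no_4125 hG hn).elim
  · exact (no_4126 hG hn).elim
  · exact (no_4127 hG hn).elim
  · exact (no_4128 hG hn).elim
  · exact (no_4129 hG hn).elim
  · exact (no_4130 hG hn).elim
  · exact (no_4131 hG hn).elim
  · exact (no_4132 hG hn).elim
  · exact (no_4133 hG hn).elim
  · exact (no_4134 hG hn).elim
  · exact (no_4135 hG hn).elim
  · exact (no_4136 hG hn).elim
  · exact (no_4137 hG hn).elim
  · exact (no_4138 hG hn).elim
  · exact (no_4139 hG hn).elim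
  · exact (no_4140 hG hn).elim
  · exact (no_4141 hG hn).elim
  · exact (no_4142 hG hn).elim
  · exact (no_4143 hG hn).elim
  · exact (no_4144 hG hn).elim
  · exact (no_4145 hG hn).elim
  · exact (no_4146 hG hn).elim
  · exact (no_4147 hG hn).elim
  · exact (no_4148 hG hn).elim
  · exact (no_4149 hG hn).elim
  · exact (no_4150 hG hn).elim
  · exact (no_4151 hG hn).elim
  · exact (no_4152 hG hn).elim
  · exact (no_4153 hG hn).elim
  · exact (no_4154 hG hn).elim
  · exact (no_4155 hG hn).elim
  · exact (no_4156 hG hn).elim
  · exact (no_4157 hG hn).elim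
  · exact (no_4158 hG hn).elim
  · exact (no_4159 hG hn).elim
  · simp
  · exact (no_4161 hG hn).elim
  · exact (no_4162 hG hn).elim
  · exact (no_4163 hG hn).elim
  · exact (no_4164 hG hn).elim
  · exact (no_4165 hG hn).elim
  · exact (no_4166 hG hn).elim
  · exact (no_4167 hG hn).elim
  · exact (no_4168 hG hn).elim
  · exact (no_4169 hG hn).elim
  · exact (no_4170 hG hn).elim
  · exact (no_4171 hG hn).elim
  · exact (no_4172 hG hn).elim
  · exact (no_4173 hG hn).elim
  · exact (no_4174 hG hn).elim
  · exact (no_4175 hG hn).elim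
  · exact (no_4176 hG hn).elim
  · exact (no_4177 hG hn).elim
  · exact (no_4178 hG hn).elim
  · exact (no_4179 hG hn).elim
  · exact (no_4180 hG hn).elim
  · exact (no_4181 hG hn).elim
  · exact (no_4182 hG hn).elim
  · exact (no_4183 hG hn).elim
  · exact (no_4184 hG hn).elim
  · exact (no_4185 hG hn).elim
  · exact (no_4186 hG hn).elim
  · exact (no_4187 hG hn).elim
  · exact (no_4188 hG hn).elim
  · exact (no_4189 hG hn).elim
  · exact (no_4190 hG hn).elim
  · exact (no_4191 hG hn).elim
  · exact (no_4192 hG hn).elim
  · exact (no_4193 hG hn).elim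
  · exact (no_4194 hG hn).elim
  · exact (no_4195 hG hn).elim
  · exact (no_4196 hG hn).elim
  · exact (no_4197 hG hn).elim
  · exact (no_4198 hG hn).elim
  · exact (no_4199 hG hn).elim
  · simp

end Cfsg.Agent.Lib.Helper16_SO_E05
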