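import Mathlib
import Cfsg.Agent.Lib.Helper75_SM_Base

/-!
# S0983 engine, generated file: no simple group of order N for the easy N in [4201, 4300]
(helper16; same scheme as helper75's `Helper75_SM_E*`)
-/

set_option autoImplicit false
set_option linter.unusedVariables false

namespace Cfsg.Agent.Lib.Helper16_SO_E06

open Cfsg.Agent.Lib.Helper17_Sylow Cfsg.Agent.Lib.Helper75_SM_Base

theorem no_4201 {G : Type*} [Group G] [Finite G] [IsSimpleGroup G]
    (hG : ¬ IsMulCommutative G) (h : Nat.card G = 4201) : False := by
  exact tp hG 4201 2 1 0 (by norm_num) (by norm_num) (by rw [h]; norm_num)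

theorem no_4202 {G : Type*} [Group G] [Finite G] [IsSimpleGroup G]
    (hG : ¬ IsMulCommutative G) (h : Nat.card G = 4202) : False := by
  exact ev hG (by rw [h]; exact ⟨2101, by norm_num⟩) (by rw [h]; omega)

theorem no_4203 {G : Type*} [Group G] [Finite G] [IsSimpleGroup G]
    (hG : ¬ IsMulCommutative G) (h : Nat.card G = 4203) : False := by
  exact tp hG 3 467 2 1 (by norm_num) (by norm_num) (by rw [h]; norm_num)

theorem no_4204 {G : Type*} [Group G] [Finite G] [IsSimpleGroup G]
    (hG : ¬ IsMulCommutative G) (h : Nat.card G = 4204) : False := by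
  exact tp hG 2 1051 2 1 (by norm_num) (by norm_num) (by rw [h]; norm_num)

theorem no_4205 {G : Type*} [Group G] [Finite G] [IsSimpleGroup G]
    (hG : ¬ IsMulCommutative G) (h : Nat.card G = 4205) : False := by
  exact tp hG 5 29 1 2 (by norm_num) (by norm_num) (by rw [h]; norm_num)

theorem no_4206 {G : Type*} [Group G] [Finite G] [IsSimpleGroup G]
    (hG : ¬ IsMulCommutative G) (h : Nat.card G = 4206) : False := by
  exact ev hG (by rw [h]; exact ⟨2103, by norm_num⟩) (by rw [h]; omega)

theorem no_4207 {G : Type*} [Group G] [Finite G] [IsSimpleGroup G]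
    (hG : ¬ IsMulCommutative G) (h : Nat.card G = 4207) : False := by
  exact tp hG 7 601 1 1 (by norm_num) (by norm_num) (by rw [h]; norm_num)

theorem no_4208 {G : Type*} [Group G] [Finite G] [IsSimpleGroup G]
    (hG : ¬ IsMulCommutative G) (h : Nat.card G = 4208) : False := by
  exact tp hG 2 263 4 1 (by norm_num) (by norm_num) (by rw [h]; norm_num)

theorem no_4209 {G : Type*} [Group G] [Finite G] [IsSimpleGroup G]
    (hG : ¬ IsMulCommutative G) (h : Nat.card G = 4209) : False := by
  have : Fact (Nat.Prime 61) := ⟨by norm_num⟩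
  have hc : Nat.card G = 61 ^ 1 * 69 := by rw [h]; norm_num
  have hm : ¬ 61 ∣ 69 := by norm_num
  have hmem := card_sylow_mem_candidates hc hm
  have hcand : sylowCandidates 61 69 = [1] := by decide
  rw [hcand] at hmem
  simp only [List.mem_cons, List.not_mem_nil, or_false] at hmem
  have hlt := one_lt_card_sylow_of_card hc hm (by norm_num) (by norm_num)
  have hd := hmem
  · omega

theorem no_4210 {G : Type*} [Group G] [Finite G] [IsSimpleGroup G]
    (hG : ¬ IsMulCommutative G) (h : Nat.card G = 4210) : False := by
  exact ev hG (by rw [h]; exact ⟨2105, by norm_num⟩) (by rw [h]; omega)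

theorem no_4211 {G : Type*} [Group G] [Finite G] [IsSimpleGroup G]
    (hG : ¬ IsMulCommutative G) (h : Nat.card G = 4211) : False := by
  exact tp hG 4211 2 1 0 (by norm_num) (by norm_num) (by rw [h]; norm_num)

theorem no_4213 {G : Type*} [Group G] [Finite G] [IsSimpleGroup G]
    (hG : ¬ IsMulCommutative G) (h : Nat.card G = 4213) : False := by
  exact tp hG 11 383 1 1 (by norm_num) (by norm_num) (by rw [h]; norm_num)

theorem no_4214 {G : Type*} [Group G] [Finite G] [IsSimpleGroup G]
    (hG : ¬ IsMulCommutative G) (h : Nat.card G = 4214) : False := by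
  exact ev hG (by rw [h]; exact ⟨2107, by norm_num⟩) (by rw [h]; omega)

theorem no_4215 {G : Type*} [Group G] [Finite G] [IsSimpleGroup G]
    (hG : ¬ IsMulCommutative G) (h : Nat.card G = 4215) : False := by
  have : Fact (Nat.Prime 281) := ⟨by norm_num⟩
  have hc : Nat.card G = 281 ^ 1 * 15 := by rw [h]; norm_num
  have hm : ¬ 281 ∣ 15 := by norm_num
  have hmem := card_sylow_mem_candidates hc hm
  have hcand : sylowCandidates 281 15 = [1] := by decide
  rw [hcand] at hmem
  simp only [List.mem_cons, List.not_mem_nil, or_false] at hmem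
  have hlt := one_lt_card_sylow_of_card hc hm (by norm_num) (by norm_num)
  have hd := hmem
  · omega

theorem no_4216 {G : Type*} [Group G] [Finite G] [IsSimpleGroup G]
    (hG : ¬ IsMulCommutative G) (h : Nat.card G = 4216) : False := by
  exact ev hG (by rw [h]; exact ⟨2108, by norm_num⟩) (by rw [h]; omega)

theorem no_4217 {G : Type*} [Group G] [Finite G] [IsSimpleGroup G]
    (hG : ¬ IsMulCommutative G) (h : Nat.card G = 4217) : False := by
  exact tp hG 4217 2 1 0 (by norm_num) (by norm_num) (by rw [h]; norm_num)

theorem no_4218 {G : Type*} [Group G] [Finite G] [IsSimpleGroup G]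
    (hG : ¬ IsMulCommutative G) (h : Nat.card G = 4218) : False := by
  exact ev hG (by rw [h]; exact ⟨2109, by norm_num⟩) (by rw [h]; omega)

theorem no_4219 {G : Type*} [Group G] [Finite G] [IsSimpleGroup G]
    (hG : ¬ IsMulCommutative G) (h : Nat.card G = 4219) : False := by
  exact tp hG 4219 2 1 0 (by norm_num) (by norm_num) (by rw [h]; norm_num)

theorem no_4220 {G : Type*} [Group G] [Finite G] [IsSimpleGroup G]
    (hG : ¬ IsMulCommutative G) (h : Nat.card G = 4220) : False := by
  exact ev hG (by rw [h]; exact ⟨2110, by norm_num⟩) (by rw [h]; omega)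

theorem no_4221 {G : Type*} [Group G] [Finite G] [IsSimpleGroup G]
    (hG : ¬ IsMulCommutative G) (h : Nat.card G = 4221) : False := by
  have : Fact (Nat.Prime 67) := ⟨by norm_num⟩
  have hc : Nat.card G = 67 ^ 1 * 63 := by rw [h]; norm_num
  have hm : ¬ 67 ∣ 63 := by norm_num
  have hmem := card_sylow_mem_candidates hc hm
  have hcand : sylowCandidates 67 63 = [1] := by decide
  rw [hcand] at hmem
  simp only [List.mem_cons, List.not_mem_nil, or_false] at hmem
  have hlt := one_lt_card_sylow_of_card hc hm (by norm_num) (by norm_num)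
  have hd := hmem
  · omega

theorem no_4222 {G : Type*} [Group G] [Finite G] [IsSimpleGroup G]
    (hG : ¬ IsMulCommutative G) (h : Nat.card G = 4222) : False := by
  exact tp hG 2 2111 1 1 (by norm_num) (by norm_num) (by rw [h]; norm_num)

theorem no_4223 {G : Type*} [Group G] [Finite G] [IsSimpleGroup G]
    (hG : ¬ IsMulCommutative G) (h : Nat.card G = 4223) : False := by
  exact tp hG 41 103 1 1 (by norm_num) (by norm_num) (by rw [h]; norm_num)

theorem no_4224 {G : Type*} [Group G] [Finite G] [IsSimpleGroup G]
    (hG : ¬ IsMulCommutative G) (h : Nat.card G = 4224) : False := by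
  have : Fact (Nat.Prime 11) := ⟨by norm_num⟩
  have hc : Nat.card G = 11 ^ 1 * 384 := by rw [h]; norm_num
  have hm : ¬ 11 ∣ 384 := by norm_num
  have hmem := card_sylow_mem_candidates hc hm
  have hcand : sylowCandidates 11 384 = [1, 12] := by decide
  rw [hcand] at hmem
  simp only [List.mem_cons, List.not_mem_nil, or_false] at hmem
  have hlt := one_lt_card_sylow_of_card hc hm (by norm_num) (by norm_num)
  rcases hmem with hd | hd
  · omega
  · exact perm_kill hG (by norm_num) hc hm hd 352 (by omega) (by decide)

theorem no_4225 {G : Type*} [Group G] [Finite G] [IsSimpleGroup G]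
    (hG : ¬ IsMulCommutative G) (h : Nat.card G = 4225) : False := by
  exact tp hG 5 13 2 2 (by norm_num) (by norm_num) (by rw [h]; norm_num)

theorem no_4226 {G : Type*} [Group G] [Finite G] [IsSimpleGroup G]
    (hG : ¬ IsMulCommutative G) (h : Nat.card G = 4226) : False := by
  exact tp hG 2 2113 1 1 (by norm_num) (by norm_num) (by rw [h]; norm_num)

theorem no_4227 {G : Type*} [Group G] [Finite G] [IsSimpleGroup G]
    (hG : ¬ IsMulCommutative G) (h : Nat.card G = 4227) : False := by
  exact tp hG 3 1409 1 1 (by norm_num) (by norm_num) (by rw [h]; norm_num)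

theorem no_4228 {G : Type*} [Group G] [Finite G] [IsSimpleGroup G]
    (hG : ¬ IsMulCommutative G) (h : Nat.card G = 4228) : False := by
  exact ev hG (by rw [h]; exact ⟨2114, by norm_num⟩) (by rw [h]; omega)

theorem no_4229 {G : Type*} [Group G] [Finite G] [IsSimpleGroup G]
    (hG : ¬ IsMulCommutative G) (h : Nat.card G = 4229) : False := by
  exact tp hG 4229 2 1 0 (by norm_num) (by norm_num) (by rw [h]; norm_num)

theorem no_4230 {G : Type*} [Group G] [Finite G] [IsSimpleGroup G]
    (hG : ¬ IsMulCommutative G) (h : Nat.card G = 4230) : False := by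
  exact ev hG (by rw [h]; exact ⟨2115, by norm_num⟩) (by rw [h]; omega)

theorem no_4231 {G : Type*} [Group G] [Finite G] [IsSimpleGroup G]
    (hG : ¬ IsMulCommutative G) (h : Nat.card G = 4231) : False := by
  exact tp hG 4231 2 1 0 (by norm_num) (by norm_num) (by rw [h]; norm_num)

theorem no_4232 {G : Type*} [Group G] [Finite G] [IsSimpleGroup G]
    (hG : ¬ IsMulCommutative G) (h : Nat.card G = 4232) : False := by
  exact tp hG 2 23 3 2 (by norm_num) (by norm_num) (by rw [h]; norm_num)

theorem no_4233 {G : Type*} [Group G] [Finite G] [IsSimpleGroup G]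
    (hG : ¬ IsMulCommutative G) (h : Nat.card G = 4233) : False := by
  have : Fact (Nat.Prime 83) := ⟨by norm_num⟩
  have hc : Nat.card G = 83 ^ 1 * 51 := by rw [h]; norm_num
  have hm : ¬ 83 ∣ 51 := by norm_num
  have hmem := card_sylow_mem_candidates hc hm
  have hcand : sylowCandidates 83 51 = [1] := by decide
  rw [hcand] at hmem
  simp only [List.mem_cons, List.not_mem_nil, or_false] at hmem
  have hlt := one_lt_card_sylow_of_card hc hm (by norm_num) (by norm_num)
  have hd := hmem
  · omega

theorem no_4234 {G : Type*} [Group G] [Finite G] [IsSimpleGroup G]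
    (hG : ¬ IsMulCommutative G) (h : Nat.card G = 4234) : False := by
  exact ev hG (by rw [h]; exact ⟨2117, by norm_num⟩) (by rw [h]; omega)

theorem no_4235 {G : Type*} [Group G] [Finite G] [IsSimpleGroup G]
    (hG : ¬ IsMulCommutative G) (h : Nat.card G = 4235) : False := by
  have : Fact (Nat.Prime 11) := ⟨by norm_num⟩
  have hc : Nat.card G = 11 ^ 2 * 35 := by rw [h]; norm_num
  have hm : ¬ 11 ∣ 35 := by norm_num
  have hmem := card_sylow_mem_candidates hc hm
  have hcand : sylowCandidates 11 35 = [1] := by decide
  rw [hcand] at hmem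
  simp only [List.mem_cons, List.not_mem_nil, or_false] at hmem
  have hlt := one_lt_card_sylow_of_card hc hm (by norm_num) (by norm_num)
  have hd := hmem
  · omega

theorem no_4236 {G : Type*} [Group G] [Finite G] [IsSimpleGroup G]
    (hG : ¬ IsMulCommutative G) (h : Nat.card G = 4236) : False := by
  have : Fact (Nat.Prime 353) := ⟨by norm_num⟩
  have hc : Nat.card G = 353 ^ 1 * 12 := by rw [h]; norm_num
  have hm : ¬ 353 ∣ 12 := by norm_num
  have hmem := card_sylow_mem_candidates hc hm
  have hcand : sylowCandidates 353 12 = [1] := by decide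
  rw [hcand] at hmem
  simp only [List.mem_cons, List.not_mem_nil, or_false] at hmem
  have hlt := one_lt_card_sylow_of_card hc hm (by norm_num) (by norm_num)
  have hd := hmem
  · omega

theorem no_4237 {G : Type*} [Group G] [Finite G] [IsSimpleGroup G]
    (hG : ¬ IsMulCommutative G) (h : Nat.card G = 4237) : False := by
  exact tp hG 19 223 1 1 (by norm_num) (by norm_num) (by rw [h]; norm_num)

theorem no_4238 {G : Type*} [Group G] [Finite G] [IsSimpleGroup G]
    (hG : ¬ IsMulCommutative G) (h : Nat.card G = 4238) : False := by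
  exact ev hG (by rw [h]; exact ⟨2119, by norm_num⟩) (by rw [h]; omega)

theorem no_4239 {G : Type*} [Group G] [Finite G] [IsSimpleGroup G]
    (hG : ¬ IsMulCommutative G) (h : Nat.card G = 4239) : False := by
  exact tp hG 3 157 3 1 (by norm_num) (by norm_num) (by rw [h]; norm_num)

theorem no_4240 {G : Type*} [Group G] [Finite G] [IsSimpleGroup G]
    (hG : ¬ IsMulCommutative G) (h : Nat.card G = 4240) : False := by
  have : Fact (Nat.Prime 53) := ⟨by norm_num⟩
  have hc : Nat.card G = 53 ^ 1 * 80 := by rw [h]; norm_num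
  have hm : ¬ 53 ∣ 80 := by norm_num
  have hmem := card_sylow_mem_candidates hc hm
  have hcand : sylowCandidates 53 80 = [1] := by decide
  rw [hcand] at hmem
  simp only [List.mem_cons, List.not_mem_nil, or_false] at hmem
  have hlt := one_lt_card_sylow_of_card hc hm (by norm_num) (by norm_num)
  have hd := hmem
  · omega

theorem no_4241 {G : Type*} [Group G] [Finite G] [IsSimpleGroup G]
    (hG : ¬ IsMulCommutative G) (h : Nat.card G = 4241) : False := by
  exact tp hG 4241 2 1 0 (by norm_num) (by norm_num) (by rw [h]; norm_num)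

theorem no_4242 {G : Type*} [Group G] [Finite G] [IsSimpleGroup G]
    (hG : ¬ IsMulCommutative G) (h : Nat.card G = 4242) : False := by
  exact ev hG (by rw [h]; exact ⟨2121, by norm_num⟩) (by rw [h]; omega)

theorem no_4243 {G : Type*} [Group G] [Finite G] [IsSimpleGroup G]
    (hG : ¬ IsMulCommutative G) (h : Nat.card G = 4243) : False := by
  exact tp hG 4243 2 1 0 (by norm_num) (by norm_num) (by rw [h]; norm_num)

theorem no_4244 {G : Type*} [Group G] [Finite G] [IsSimpleGroup G]
    (hG : ¬ IsMulCommutative G) (h : Nat.card G = 4244) : False := by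
  exact tp hG 2 1061 2 1 (by norm_num) (by norm_num) (by rw [h]; norm_num)

theorem no_4245 {G : Type*} [Group G] [Finite G] [IsSimpleGroup G]
    (hG : ¬ IsMulCommutative G) (h : Nat.card G = 4245) : False := by
  have : Fact (Nat.Prime 283) := ⟨by norm_num⟩
  have hc : Nat.card G = 283 ^ 1 * 15 := by rw [h]; norm_num
  have hm : ¬ 283 ∣ 15 := by norm_num
  have hmem := card_sylow_mem_candidates hc hm
  have hcand : sylowCandidates 283 15 = [1] := by decide
  rw [hcand] at hmem
  simp only [List.mem_cons, List.not_mem_nil, or_false] at hmem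
  have hlt := one_lt_card_sylow_of_card hc hm (by norm_num) (by norm_num)
  have hd := hmem
  · omega

theorem no_4246 {G : Type*} [Group G] [Finite G] [IsSimpleGroup G]
    (hG : ¬ IsMulCommutative G) (h : Nat.card G = 4246) : False := by
  exact ev hG (by rw [h]; exact ⟨2123, by norm_num⟩) (by rw [h]; omega)

theorem no_4247 {G : Type*} [Group G] [Finite G] [IsSimpleGroup G]
    (hG : ¬ IsMulCommutative G) (h : Nat.card G = 4247) : False := by
  exact tp hG 31 137 1 1 (by norm_num) (by norm_num) (by rw [h]; norm_num)

theorem no_4248 {G : Type*} [Group G] [Finite G] [IsSimpleGroup G]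
    (hG : ¬ IsMulCommutative G) (h : Nat.card G = 4248) : False := by
  have : Fact (Nat.Prime 59) := ⟨by norm_num⟩
  have hc : Nat.card G = 59 ^ 1 * 72 := by rw [h]; norm_num
  have hm : ¬ 59 ∣ 72 := by norm_num
  have hmem := card_sylow_mem_candidates hc hm
  have hcand : sylowCandidates 59 72 = [1] := by decide
  rw [hcand] at hmem
  simp only [List.mem_cons, List.not_mem_nil, or_false] at hmem
  have hlt := one_lt_card_sylow_of_card hc hm (by norm_num) (by norm_num)
  have hd := hmem
  · omega

theorem no_4249 {G : Type*} [Group G] [Finite G] [IsSimpleGroup G]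
    (hG : ¬ IsMulCommutative G) (h : Nat.card G = 4249) : False := by
  exact tp hG 7 607 1 1 (by norm_num) (by norm_num) (by rw [h]; norm_num)

theorem no_4250 {G : Type*} [Group G] [Finite G] [IsSimpleGroup G]
    (hG : ¬ IsMulCommutative G) (h : Nat.card G = 4250) : False := by
  exact ev hG (by rw [h]; exact ⟨2125, by norm_num⟩) (by rw [h]; omega)

theorem no_4251 {G : Type*} [Group G] [Finite G] [IsSimpleGroup G]
    (hG : ¬ IsMulCommutative G) (h : Nat.card G = 4251) : False := by
  have : Fact (Nat.Prime 109) := ⟨by norm_num⟩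
  have hc : Nat.card G = 109 ^ 1 * 39 := by rw [h]; norm_num
  have hm : ¬ 109 ∣ 39 := by norm_num
  have hmem := card_sylow_mem_candidates hc hm
  have hcand : sylowCandidates 109 39 = [1] := by decide
  rw [hcand] at hmem
  simp only [List.mem_cons, List.not_mem_nil, or_false] at hmem
  have hlt := one_lt_card_sylow_of_card hc hm (by norm_num) (by norm_num)
  have hd := hmem
  · omega

theorem no_4252 {G : Type*} [Group G] [Finite G] [IsSimpleGroup G]
    (hG : ¬ IsMulCommutative G) (h : Nat.card G = 4252) : False := by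
  exact tp hG 2 1063 2 1 (by norm_num) (by norm_num) (by rw [h]; norm_num)

theorem no_4253 {G : Type*} [Group G] [Finite G] [IsSimpleGroup G]
    (hG : ¬ IsMulCommutative G) (h : Nat.card G = 4253) : False := by
  exact tp hG 4253 2 1 0 (by norm_num) (by norm_num) (by rw [h]; norm_num)

theorem no_4254 {G : Type*} [Group G] [Finite G] [IsSimpleGroup G]
    (hG : ¬ IsMulCommutative G) (h : Nat.card G = 4254) : False := by
  exact ev hG (by rw [h]; exact ⟨2127, by norm_num⟩) (by rw [h]; omega)

theorem no_4255 {G : Type*} [Group G] [Finite G] [IsSimpleGroup G]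
    (hG : ¬ IsMulCommutative G) (h : Nat.card G = 4255) : False := by
  have : Fact (Nat.Prime 37) := ⟨by norm_num⟩
  have hc : Nat.card G = 37 ^ 1 * 115 := by rw [h]; norm_num
  have hm : ¬ 37 ∣ 115 := by norm_num
  have hmem := card_sylow_mem_candidates hc hm
  have hcand : sylowCandidates 37 115 = [1] := by decide
  rw [hcand] at hmem
  simp only [List.mem_cons, List.not_mem_nil, or_false] at hmem
  have hlt := one_lt_card_sylow_of_card hc hm (by norm_num) (by norm_num)
  have hd := hmem
  · omega

theorem no_4256 {G : Type*} [Group G] [Finite G] [IsSimpleGroup G]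
    (hG : ¬ IsMulCommutative G) (h : Nat.card G = 4256) : False := by
  have : Fact (Nat.Prime 19) := ⟨by norm_num⟩
  have hc : Nat.card G = 19 ^ 1 * 224 := by rw [h]; norm_num
  have hm : ¬ 19 ∣ 224 := by norm_num
  have hmem := card_sylow_mem_candidates hc hm
  have hcand : sylowCandidates 19 224 = [1] := by decide
  rw [hcand] at hmem
  simp only [List.mem_cons, List.not_mem_nil, or_false] at hmem
  have hlt := one_lt_card_sylow_of_card hc hm (by norm_num) (by norm_num)
  have hd := hmem
  · omega

theorem no_4257 {G : Type*} [Group G] [Finite G] [IsSimpleGroup G]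
    (hG : ¬ IsMulCommutative G) (h : Nat.card G = 4257) : False := by
  have : Fact (Nat.Prime 43) := ⟨by norm_num⟩
  have hc : Nat.card G = 43 ^ 1 * 99 := by rw [h]; norm_num
  have hm : ¬ 43 ∣ 99 := by norm_num
  have hmem := card_sylow_mem_candidates hc hm
  have hcand : sylowCandidates 43 99 = [1] := by decide
  rw [hcand] at hmem
  simp only [List.mem_cons, List.not_mem_nil, or_false] at hmem
  have hlt := one_lt_card_sylow_of_card hc hm (by norm_num) (by norm_num)
  have hd := hmem
  · omega

theorem no_4258 {G : Type*} [Group G] [Finite G] [IsSimpleGroup G]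
    (hG : ¬ IsMulCommutative G) (h : Nat.card G = 4258) : False := by
  exact tp hG 2 2129 1 1 (by norm_num) (by norm_num) (by rw [h]; norm_num)

theorem no_4259 {G : Type*} [Group G] [Finite G] [IsSimpleGroup G]
    (hG : ¬ IsMulCommutative G) (h : Nat.card G = 4259) : False := by
  exact tp hG 4259 2 1 0 (by norm_num) (by norm_num) (by rw [h]; norm_num)

theorem no_4260 {G : Type*} [Group G] [Finite G] [IsSimpleGroup G]
    (hG : ¬ IsMulCommutative G) (h : Nat.card G = 4260) : False := by
  have : Fact (Nat.Prime 71) := ⟨by norm_num⟩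
  have hc : Nat.card G = 71 ^ 1 * 60 := by rw [h]; norm_num
  have hm : ¬ 71 ∣ 60 := by norm_num
  have hmem := card_sylow_mem_candidates hc hm
  have hcand : sylowCandidates 71 60 = [1] := by decide
  rw [hcand] at hmem
  simp only [List.mem_cons, List.not_mem_nil, or_false] at hmem
  have hlt := one_lt_card_sylow_of_card hc hm (by norm_num) (by norm_num)
  have hd := hmem
  · omega

theorem no_4261 {G : Type*} [Group G] [Finite G] [IsSimpleGroup G]
    (hG : ¬ IsMulCommutative G) (h : Nat.card G = 4261) : False := by
  exact tp hG 4261 2 1 0 (by norm_num) (by norm_num) (by rw [h]; norm_num)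

theorem no_4262 {G : Type*} [Group G] [Finite G] [IsSimpleGroup G]
    (hG : ¬ IsMulCommutative G) (h : Nat.card G = 4262) : False := by
  exact tp hG 2 2131 1 1 (by norm_num) (by norm_num) (by rw [h]; norm_num)

theorem no_4263 {G : Type*} [Group G] [Finite G] [IsSimpleGroup G]
    (hG : ¬ IsMulCommutative G) (h : Nat.card G = 4263) : False := by
  have : Fact (Nat.Prime 29) := ⟨by norm_num⟩
  have hc : Nat.card G = 29 ^ 1 * 147 := by rw [h]; norm_num
  have hm : ¬ 29 ∣ 147 := by norm_num
  have hmem := card_sylow_mem_candidates hc hm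
  have hcand : sylowCandidates 29 147 = [1] := by decide
  rw [hcand] at hmem
  simp only [List.mem_cons, List.not_mem_nil, or_false] at hmem
  have hlt := one_lt_card_sylow_of_card hc hm (by norm_num) (by norm_num)
  have hd := hmem
  · omega

theorem no_4264 {G : Type*} [Group G] [Finite G] [IsSimpleGroup G]
    (hG : ¬ IsMulCommutative G) (h : Nat.card G = 4264) : False := by
  exact ev hG (by rw [h]; exact ⟨2132, by norm_num⟩) (by rw [h]; omega)

theorem no_4265 {G : Type*} [Group G] [Finite G] [IsSimpleGroup G]
    (hG : ¬ IsMulCommutative G) (h : Nat.card G = 4265) : False := by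
  exact tp hG 5 853 1 1 (by norm_num) (by norm_num) (by rw [h]; norm_num)

theorem no_4266 {G : Type*} [Group G] [Finite G] [IsSimpleGroup G]
    (hG : ¬ IsMulCommutative G) (h : Nat.card G = 4266) : False := by
  exact ev hG (by rw [h]; exact ⟨2133, by norm_num⟩) (by rw [h]; omega)

theorem no_4267 {G : Type*} [Group G] [Finite G] [IsSimpleGroup G]
    (hG : ¬ IsMulCommutative G) (h : Nat.card G = 4267) : False := by
  exact tp hG 17 251 1 1 (by norm_num) (by norm_num) (by rw [h]; norm_num)

theorem no_4268 {G : Type*} [Group G] [Finite G] [IsSimpleGroup G]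
    (hG : ¬ IsMulCommutative G) (h : Nat.card G = 4268) : False := by
  exact ev hG (by rw [h]; exact ⟨2134, by norm_num⟩) (by rw [h]; omega)

theorem no_4269 {G : Type*} [Group G] [Finite G] [IsSimpleGroup G]
    (hG : ¬ IsMulCommutative G) (h : Nat.card G = 4269) : False := by
  exact tp hG 3 1423 1 1 (by norm_num) (by norm_num) (by rw [h]; norm_num)

theorem no_4270 {G : Type*} [Group G] [Finite G] [IsSimpleGroup G]
    (hG : ¬ IsMulCommutative G) (h : Nat.card G = 4270) : False := by
  exact ev hG (by rw [h]; exact ⟨2135, by norm_num⟩) (by rw [h]; omega)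

theorem no_4271 {G : Type*} [Group G] [Finite G] [IsSimpleGroup G]
    (hG : ¬ IsMulCommutative G) (h : Nat.card G = 4271) : False := by
  exact tp hG 4271 2 1 0 (by norm_num) (by norm_num) (by rw [h]; norm_num)

theorem no_4272 {G : Type*} [Group G] [Finite G] [IsSimpleGroup G]
    (hG : ¬ IsMulCommutative G) (h : Nat.card G = 4272) : False := by
  have : Fact (Nat.Prime 89) := ⟨by norm_num⟩
  have hc : Nat.card G = 89 ^ 1 * 48 := by rw [h]; norm_num
  have hm : ¬ 89 ∣ 48 := by norm_num
  have hmem := card_sylow_mem_candidates hc hm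
  have hcand : sylowCandidates 89 48 = [1] := by decide
  rw [hcand] at hmem
  simp only [List.mem_cons, List.not_mem_nil, or_false] at hmem
  have hlt := one_lt_card_sylow_of_card hc hm (by norm_num) (by norm_num)
  have hd := hmem
  · omega

theorem no_4273 {G : Type*} [Group G] [Finite G] [IsSimpleGroup G]
    (hG : ¬ IsMulCommutative G) (h : Nat.card G = 4273) : False := by
  exact tp hG 4273 2 1 0 (by norm_num) (by norm_num) (by rw [h]; norm_num)

theorem no_4274 {G : Type*} [Group G] [Finite G] [IsSimpleGroup G]
    (hG : ¬ IsMulCommutative G) (h : Nat.card G = 4274) : False := by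
  exact tp hG 2 2137 1 1 (by norm_num) (by norm_num) (by rw [h]; norm_num)

theorem no_4275 {G : Type*} [Group G] [Finite G] [IsSimpleGroup G]
    (hG : ¬ IsMulCommutative G) (h : Nat.card G = 4275) : False := by
  have : Fact (Nat.Prime 19) := ⟨by norm_num⟩
  have hc : Nat.card G = 19 ^ 1 * 225 := by rw [h]; norm_num
  have hm : ¬ 19 ∣ 225 := by norm_num
  have hmem := card_sylow_mem_candidates hc hm
  have hcand : sylowCandidates 19 225 = [1] := by decide
  rw [hcand] at hmem
  simp only [List.mem_cons, List.not_mem_nil, or_false] at hmem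
  have hlt := one_lt_card_sylow_of_card hc hm (by norm_num) (by norm_num)
  have hd := hmem
  · omega

theorem no_4276 {G : Type*} [Group G] [Finite G] [IsSimpleGroup G]
    (hG : ¬ IsMulCommutative G) (h : Nat.card G = 4276) : False := by
  exact tp hG 2 1069 2 1 (by norm_num) (by norm_num) (by rw [h]; norm_num)

theorem no_4277 {G : Type*} [Group G] [Finite G] [IsSimpleGroup G]
    (hG : ¬ IsMulCommutative G) (h : Nat.card G = 4277) : False := by
  have : Fact (Nat.Prime 47) := ⟨by norm_num⟩
  have hc : Nat.card G = 47 ^ 1 * 91 := by rw [h]; norm_num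
  have hm : ¬ 47 ∣ 91 := by norm_num
  have hmem := card_sylow_mem_candidates hc hm
  have hcand : sylowCandidates 47 91 = [1] := by decide
  rw [hcand] at hmem
  simp only [List.mem_cons, List.not_mem_nil, or_false] at hmem
  have hlt := one_lt_card_sylow_of_card hc hm (by norm_num) (by norm_num)
  have hd := hmem
  · omega

theorem no_4278 {G : Type*} [Group G] [Finite G] [IsSimpleGroup G]
    (hG : ¬ IsMulCommutative G) (h : Nat.card G = 4278) : False := by
  exact ev hG (by rw [h]; exact ⟨2139, by norm_num⟩) (by rw [h]; omega)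

theorem no_4279 {G : Type*} [Group G] [Finite G] [IsSimpleGroup G]
    (hG : ¬ IsMulCommutative G) (h : Nat.card G = 4279) : False := by
  exact tp hG 11 389 1 1 (by norm_num) (by norm_num) (by rw [h]; norm_num)

theorem no_4280 {G : Type*} [Group G] [Finite G] [IsSimpleGroup G]
    (hG : ¬ IsMulCommutative G) (h : Nat.card G = 4280) : False := by
  exact ev hG (by rw [h]; exact ⟨2140, by norm_num⟩) (by rw [h]; omega)

theorem no_4281 {G : Type*} [Group G] [Finite G] [IsSimpleGroup G]
    (hG : ¬ IsMulCommutative G) (h : Nat.card G = 4281) : False := by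
  exact tp hG 3 1427 1 1 (by norm_num) (by norm_num) (by rw [h]; norm_num)

theorem no_4282 {G : Type*} [Group G] [Finite G] [IsSimpleGroup G]
    (hG : ¬ IsMulCommutative G) (h : Nat.card G = 4282) : False := by
  exact tp hG 2 2141 1 1 (by norm_num) (by norm_num) (by rw [h]; norm_num)

theorem no_4283 {G : Type*} [Group G] [Finite G] [IsSimpleGroup G]
    (hG : ¬ IsMulCommutative G) (h : Nat.card G = 4283) : False := by
  exact tp hG 4283 2 1 0 (by norm_num) (by norm_num) (by rw [h]; norm_num)

theorem no_4284 {G : Type*} [Group G] [Finite G] [IsSimpleGroup G]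
    (hG : ¬ IsMulCommutative G) (h : Nat.card G = 4284) : False := by
  have : Fact (Nat.Prime 17) := ⟨by norm_num⟩
  have hc : Nat.card G = 17 ^ 1 * 252 := by rw [h]; norm_num
  have hm : ¬ 17 ∣ 252 := by norm_num
  have hmem := card_sylow_mem_candidates hc hm
  have hcand : sylowCandidates 17 252 = [1, 18] := by decide
  rw [hcand] at hmem
  simp only [List.mem_cons, List.not_mem_nil, or_false] at hmem
  have hlt := one_lt_card_sylow_of_card hc hm (by norm_num) (by norm_num)
  rcases hmem with hd | hd
  · omega
  · exact perm_kill hG (by norm_num) hc hm hd 238 (by omega) (by decide)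

theorem no_4285 {G : Type*} [Group G] [Finite G] [IsSimpleGroup G]
    (hG : ¬ IsMulCommutative G) (h : Nat.card G = 4285) : False := by
  exact tp hG 5 857 1 1 (by norm_num) (by norm_num) (by rw [h]; norm_num)

theorem no_4286 {G : Type*} [Group G] [Finite G] [IsSimpleGroup G]
    (hG : ¬ IsMulCommutative G) (h : Nat.card G = 4286) : False := by
  exact tp hG 2 2143 1 1 (by norm_num) (by norm_num) (by rw [h]; norm_num)

theorem no_4287 {G : Type*} [Group G] [Finite G] [IsSimpleGroup G]
    (hG : ¬ IsMulCommutative G) (h : Nat.card G = 4287) : False := by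
  exact tp hG 3 1429 1 1 (by norm_num) (by norm_num) (by rw [h]; norm_num)

theorem no_4288 {G : Type*} [Group G] [Finite G] [IsSimpleGroup G]
    (hG : ¬ IsMulCommutative G) (h : Nat.card G = 4288) : False := by
  exact tp hG 2 67 6 1 (by norm_num) (by norm_num) (by rw [h]; norm_num)

theorem no_4289 {G : Type*} [Group G] [Finite G] [IsSimpleGroup G]
    (hG : ¬ IsMulCommutative G) (h : Nat.card G = 4289) : False := by
  exact tp hG 4289 2 1 0 (by norm_num) (by norm_num) (by rw [h]; norm_num)

theorem no_4290 {G : Type*} [Group G] [Finite G] [IsSimpleGroup G]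
    (hG : ¬ IsMulCommutative G) (h : Nat.card G = 4290) : False := by
  exact ev hG (by rw [h]; exact ⟨2145, by norm_num⟩) (by rw [h]; omega)

theorem no_4291 {G : Type*} [Group G] [Finite G] [IsSimpleGroup G]
    (hG : ¬ IsMulCommutative G) (h : Nat.card G = 4291) : False := by
  exact tp hG 7 613 1 1 (by norm_num) (by norm_num) (by rw [h]; norm_num)

theorem no_4292 {G : Type*} [Group G] [Finite G] [IsSimpleGroup G]
    (hG : ¬ IsMulCommutative G) (h : Nat.card G = 4292) : False := by
  exact ev hG (by rw [h]; exact ⟨2146, by norm_num⟩) (by rw [h]; omega)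

theorem no_4293 {G : Type*} [Group G] [Finite G] [IsSimpleGroup G]
    (hG : ¬ IsMulCommutative G) (h : Nat.card G = 4293) : False := by
  exact tp hG 3 53 4 1 (by norm_num) (by norm_num) (by rw [h]; norm_num)

theorem no_4294 {G : Type*} [Group G] [Finite G] [IsSimpleGroup G]
    (hG : ¬ IsMulCommutative G) (h : Nat.card G = 4294) : False := by
  exact ev hG (by rw [h]; exact ⟨2147, by norm_num⟩) (by rw [h]; omega)

theorem no_4295 {G : Type*} [Group G] [Finite G] [IsSimpleGroup G]
    (hG : ¬ IsMulCommutative G) (h : Nat.card G = 4295) : False := by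
  exact tp hG 5 859 1 1 (by norm_num) (by norm_num) (by rw [h]; norm_num)

theorem no_4296 {G : Type*} [Group G] [Finite G] [IsSimpleGroup G]
    (hG : ¬ IsMulCommutative G) (h : Nat.card G = 4296) : False := by
  have : Fact (Nat.Prime 179) := ⟨by norm_num⟩
  have hc : Nat.card G = 179 ^ 1 * 24 := by rw [h]; norm_num
  have hm : ¬ 179 ∣ 24 := by norm_num
  have hmem := card_sylow_mem_candidates hc hm
  have hcand : sylowCandidates 179 24 = [1] := by decide
  rw [hcand] at hmem
  simp only [List.mem_cons, List.not_mem_nil, or_false] at hmem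
  have hlt := one_lt_card_sylow_of_card hc hm (by norm_num) (by norm_num)
  have hd := hmem
  · omega

theorem no_4297 {G : Type*} [Group G] [Finite G] [IsSimpleGroup G]
    (hG : ¬ IsMulCommutative G) (h : Nat.card G = 4297) : False := by
  exact tp hG 4297 2 1 0 (by norm_num) (by norm_num) (by rw [h]; norm_num)

theorem no_4298 {G : Type*} [Group G] [Finite G] [IsSimpleGroup G]
    (hG : ¬ IsMulCommutative G) (h : Nat.card G = 4298) : False := by
  exact ev hG (by rw [h]; exact ⟨2149, by norm_num⟩) (by rw [h]; omega)

theorem no_4299 {G : Type*} [Group G] [Finite G] [IsSimpleGroup G]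
    (hG : ¬ IsMulCommutative G) (h : Nat.card G = 4299) : False := by
  exact tp hG 3 1433 1 1 (by norm_num) (by norm_num) (by rw [h]; norm_num)

theorem no_4300 {G : Type*} [Group G] [Finite G] [IsSimpleGroup G]
    (hG : ¬ IsMulCommutative G) (h : Nat.card G = 4300) : False := by
  exact ev hG (by rw [h]; exact ⟨2150, by norm_num⟩) (by rw [h]; omega)

/-- the orders in [4201, 4300] not excluded by the engine -/
theorem chunk {G : Type*} [Group G] [Finite G] [IsSimpleGroup G]
    (hG : ¬ IsMulCommutative G) (n : ℕ) (hn : Nat.card G = n) (h1 : 4201 ≤ n) (h2 : n ≤ 4300) :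
    n = 4212 := by
  interval_cases n
  · exact (no_4201 hG hn).elim
  · exact (no_4202 hG hn).elim
  · exact (no_4203 hG hn).elim
  · exact (no_4204 hG hn).elim
  · exact (no_4205 hG hn).elim
  · exact (no_4206 hG hn).elim
  · exact (no_4207 hG hn).elim
  · exact (no_4208 hG hn).elim
  · exact (no_4209 hG hn).elim
  · exact (no_4210 hG hn).elim
  · exact (no_4211 hG hn).elim
  · simp
  · exact (no_4213 hG hn).elim
  · exact (no_4214 hG hn).elim
  · exact (no_4215 hG hn).elim
  · exact (no_4216 hG hn).elim
  · exact (no_4217 hG hn).elim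
  · exact (no_4218 hG hn).elim
  · exact (no_4219 hG hn).elim
  · exact (no_4220 hG hn).elim
  · exact (no_4221 hG hn).elim
  · exact (no_4222 hG hn).elim
  · exact (no_4223 hG hn).elim
  · exact (no_4224 hG hn).elim
  · exact (no_4225 hG hn).elim
  · exact (no_4226 hG hn).elim
  · exact (no_4227 hG hn).elim
  · exact (no_4228 hG hn).elim
  · exact (no_4229 hG hn).elim
  · exact (no_4230 hG hn).elim
  · exact (no_4231 hG hn).elim
  · exact (no_4232 hG hn).elim
  · exact (no_4233 hG hn).elim
  · exact (no_4234 hG hn).elim
  · exact (no_4235 hG hn).elim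
  · exact (no_4236 hG hn).elim
  · exact (no_4237 hG hn).elim
  · exact (no_4238 hG hn).elim
  · exact (no_4239 hG hn).elim
  · exact (no_4240 hG hn).elim
  · exact (no_4241 hG hn).elim
  · exact (no_4242 hG hn).elim
  · exact (no_4243 hG hn).elim
  · exact (no_4244 hG hn).elim
  · exact (no_4245 hG hn).elim
  · exact (no_4246 hG hn).elim
  · exact (no_4247 hG hn).elim
  · exact (no_4248 hG hn).elim
  · exact (no_4249 hG hn).elim
  · exact (no_4250 hG hn).elim
  · exact (no_4251 hG hn).elim
  · exact (no_4252 hG hn).elim
  · exact (no_4253 hG hn).elim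
  · exact (no_4254 hG hn).elim
  · exact (no_4255 hG hn).elim
  · exact (no_4256 hG hn).elim
  · exact (no_4257 hG hn).elim
  · exact (no_4258 hG hn).elim
  · exact (no_4259 hG hn).elim
  · exact (no_4260 hG hn).elim
  · exact (no_4261 hG hn).elim
  · exact (no_4262 hG hn).elim
  · exact (no_4263 hG hn).elim
  · exact (no_4264 hG hn).elim
  · exact (no_4265 hG hn).elim
  · exact (no_4266 hG hn).elim
  · exact (no_4267 hG hn).elim
  · exact (no_4268 hG hn).elim
  · exact (no_4269 hG hn).elim
  · exact (no_4270 hG hn).elim
  · exact (no_4271 hG hn).elim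
  · exact (no_4272 hG hn).elim
  · exact (no_4273 hG hn).elim
  · exact (no_4274 hG hn).elim
  · exact (no_4275 hG hn).elim
  · exact (no_4276 hG hn).elim
  · exact (no_4277 hG hn).elim
  · exact (no_4278 hG hn).elim
  · exact (no_4279 hG hn).elim
  · exact (no_4280 hG hn).elim
  · exact (no_4281 hG hn).elim
  · exact (no_4282 hG hn).elim
  · exact (no_4283 hG hn).elim
  · exact (no_4284 hG hn).elim
  · exact (no_4285 hG hn).elim
  · exact (no_4286 hG hn).elim
  · exact (no_4287 hG hn).elim
  · exact (no_4288 hG hn).elim
  · exact (no_4289 hG hn).elim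
  · exact (no_4290 hG hn).elim
  · exact (no_4291 hG hn).elim
  · exact (no_4292 hG hn).elim
  · exact (no_4293 hG hn).elim
  · exact (no_4294 hG hn).elim
  · exact (no_4295 hG hn).elim
  · exact (no_4296 hG hn).elim
  · exact (no_4297 hG hn).elim
  · exact (no_4298 hG hn).elim
  · exact (no_4299 hG hn).elim
  · exact (no_4300 hG hn).elim

end Cfsg.Agent.Lib.Helper16_SO_E06
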