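import Mathlib
import Cfsg.Agent.Lib.Helper75_SM_Base

/-!
# S0983 engine, generated file: no simple group of order N for the easy N in [4301, 4400]
(helper16; same scheme as helper75's `Helper75_SM_E*`)
-/

set_option autoImplicit false
set_option linter.unusedVariables false

namespace Cfsg.Agent.Lib.Helper16_SO_E07

open Cfsg.Agent.Lib.Helper17_Sylow Cfsg.Agent.Lib.Helper75_SM_Base

theorem no_4301 {G : Type*} [Group G] [Finite G] [IsSimpleGroup G]
    (hG : ¬ IsMulCommutative G) (h : Nat.card G = 4301) : False := by
  have : Fact (Nat.Prime 23) := ⟨by norm_num⟩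
  have hc : Nat.card G = 23 ^ 1 * 187 := by rw [h]; norm_num
  have hm : ¬ 23 ∣ 187 := by norm_num
  have hmem := card_sylow_mem_candidates hc hm
  have hcand : sylowCandidates 23 187 = [1] := by decide
  rw [hcand] at hmem
  simp only [List.mem_cons, List.not_mem_nil, or_false] at hmem
  have hlt := one_lt_card_sylow_of_card hc hm (by norm_num) (by norm_num)
  have hd := hmem
  · omega

theorem no_4302 {G : Type*} [Group G] [Finite G] [IsSimpleGroup G]
    (hG : ¬ IsMulCommutative G) (h : Nat.card G = 4302) : False := by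
  exact ev hG (by rw [h]; exact ⟨2151, by norm_num⟩) (by rw [h]; omega)

theorem no_4303 {G : Type*} [Group G] [Finite G] [IsSimpleGroup G]
    (hG : ¬ IsMulCommutative G) (h : Nat.card G = 4303) : False := by
  exact tp hG 13 331 1 1 (by norm_num) (by norm_num) (by rw [h]; norm_num)

theorem no_4304 {G : Type*} [Group G] [Finite G] [IsSimpleGroup G]
    (hG : ¬ IsMulCommutative G) (h : Nat.card G = 4304) : False := by
  exact tp hG 2 269 4 1 (by norm_num) (by norm_num) (by rw [h]; norm_num)

theorem no_4305 {G : Type*} [Group G] [Finite G] [IsSimpleGroup G]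
    (hG : ¬ IsMulCommutative G) (h : Nat.card G = 4305) : False := by
  have : Fact (Nat.Prime 41) := ⟨by norm_num⟩
  have hc : Nat.card G = 41 ^ 1 * 105 := by rw [h]; norm_num
  have hm : ¬ 41 ∣ 105 := by norm_num
  have hmem := card_sylow_mem_candidates hc hm
  have hcand : sylowCandidates 41 105 = [1] := by decide
  rw [hcand] at hmem
  simp only [List.mem_cons, List.not_mem_nil, or_false] at hmem
  have hlt := one_lt_card_sylow_of_card hc hm (by norm_num) (by norm_num)
  have hd := hmem
  · omega

theorem no_4306 {G : Type*} [Group G] [Finite G] [IsSimpleGroup G]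
    (hG : ¬ IsMulCommutative G) (h : Nat.card G = 4306) : False := by
  exact tp hG 2 2153 1 1 (by norm_num) (by norm_num) (by rw [h]; norm_num)

theorem no_4307 {G : Type*} [Group G] [Finite G] [IsSimpleGroup G]
    (hG : ¬ IsMulCommutative G) (h : Nat.card G = 4307) : False := by
  exact tp hG 59 73 1 1 (by norm_num) (by norm_num) (by rw [h]; norm_num)

theorem no_4308 {G : Type*} [Group G] [Finite G] [IsSimpleGroup G]
    (hG : ¬ IsMulCommutative G) (h : Nat.card G = 4308) : False := by
  have : Fact (Nat.Prime 359) := ⟨by norm_num⟩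
  have hc : Nat.card G = 359 ^ 1 * 12 := by rw [h]; norm_num
  have hm : ¬ 359 ∣ 12 := by norm_num
  have hmem := card_sylow_mem_candidates hc hm
  have hcand : sylowCandidates 359 12 = [1] := by decide
  rw [hcand] at hmem
  simp only [List.mem_cons, List.not_mem_nil, or_false] at hmem
  have hlt := one_lt_card_sylow_of_card hc hm (by norm_num) (by norm_num)
  have hd := hmem
  · omega

theorem no_4309 {G : Type*} [Group G] [Finite G] [IsSimpleGroup G]
    (hG : ¬ IsMulCommutative G) (h : Nat.card G = 4309) : False := by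
  exact tp hG 31 139 1 1 (by norm_num) (by norm_num) (by rw [h]; norm_num)

theorem no_4310 {G : Type*} [Group G] [Finite G] [IsSimpleGroup G]
    (hG : ¬ IsMulCommutative G) (h : Nat.card G = 4310) : False := by
  exact ev hG (by rw [h]; exact ⟨2155, by norm_num⟩) (by rw [h]; omega)

theorem no_4311 {G : Type*} [Group G] [Finite G] [IsSimpleGroup G]
    (hG : ¬ IsMulCommutative G) (h : Nat.card G = 4311) : False := by
  exact tp hG 3 479 2 1 (by norm_num) (by norm_num) (by rw [h]; norm_num)

theorem no_4312 {G : Type*} [Group G] [Finite G] [IsSimpleGroup G]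
    (hG : ¬ IsMulCommutative G) (h : Nat.card G = 4312) : False := by
  have : Fact (Nat.Prime 11) := ⟨by norm_num⟩
  have hc : Nat.card G = 11 ^ 1 * 392 := by rw [h]; norm_num
  have hm : ¬ 11 ∣ 392 := by norm_num
  have hmem := card_sylow_mem_candidates hc hm
  have hcand : sylowCandidates 11 392 = [1, 56] := by decide
  rw [hcand] at hmem
  simp only [List.mem_cons, List.not_mem_nil, or_false] at hmem
  have hlt := one_lt_card_sylow_of_card hc hm (by norm_num) (by norm_num)
  rcases hmem with hd | hd
  · omega
  · exact burn_kill hc hm (by norm_num) 56 hd (by decide)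

theorem no_4313 {G : Type*} [Group G] [Finite G] [IsSimpleGroup G]
    (hG : ¬ IsMulCommutative G) (h : Nat.card G = 4313) : False := by
  exact tp hG 19 227 1 1 (by norm_num) (by norm_num) (by rw [h]; norm_num)

theorem no_4314 {G : Type*} [Group G] [Finite G] [IsSimpleGroup G]
    (hG : ¬ IsMulCommutative G) (h : Nat.card G = 4314) : False := by
  exact ev hG (by rw [h]; exact ⟨2157, by norm_num⟩) (by rw [h]; omega)

theorem no_4315 {G : Type*} [Group G] [Finite G] [IsSimpleGroup G]
    (hG : ¬ IsMulCommutative G) (h : Nat.card G = 4315) : False := by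
  exact tp hG 5 863 1 1 (by norm_num) (by norm_num) (by rw [h]; norm_num)

theorem no_4316 {G : Type*} [Group G] [Finite G] [IsSimpleGroup G]
    (hG : ¬ IsMulCommutative G) (h : Nat.card G = 4316) : False := by
  exact ev hG (by rw [h]; exact ⟨2158, by norm_num⟩) (by rw [h]; omega)

theorem no_4317 {G : Type*} [Group G] [Finite G] [IsSimpleGroup G]
    (hG : ¬ IsMulCommutative G) (h : Nat.card G = 4317) : False := by
  exact tp hG 3 1439 1 1 (by norm_num) (by norm_num) (by rw [h]; norm_num)

theorem no_4318 {G : Type*} [Group G] [Finite G] [IsSimpleGroup G]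
    (hG : ¬ IsMulCommutative G) (h : Nat.card G = 4318) : False := by
  exact ev hG (by rw [h]; exact ⟨2159, by norm_num⟩) (by rw [h]; omega)

theorem no_4319 {G : Type*} [Group G] [Finite G] [IsSimpleGroup G]
    (hG : ¬ IsMulCommutative G) (h : Nat.card G = 4319) : False := by
  exact tp hG 7 617 1 1 (by norm_num) (by norm_num) (by rw [h]; norm_num)

theorem no_4321 {G : Type*} [Group G] [Finite G] [IsSimpleGroup G]
    (hG : ¬ IsMulCommutative G) (h : Nat.card G = 4321) : False := by
  exact tp hG 29 149 1 1 (by norm_num) (by norm_num) (by rw [h]; norm_num)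

theorem no_4322 {G : Type*} [Group G] [Finite G] [IsSimpleGroup G]
    (hG : ¬ IsMulCommutative G) (h : Nat.card G = 4322) : False := by
  exact tp hG 2 2161 1 1 (by norm_num) (by norm_num) (by rw [h]; norm_num)

theorem no_4323 {G : Type*} [Group G] [Finite G] [IsSimpleGroup G]
    (hG : ¬ IsMulCommutative G) (h : Nat.card G = 4323) : False := by
  have : Fact (Nat.Prime 131) := ⟨by norm_num⟩
  have hc : Nat.card G = 131 ^ 1 * 33 := by rw [h]; norm_num
  have hm : ¬ 131 ∣ 33 := by norm_num
  have hmem := card_sylow_mem_candidates hc hm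
  have hcand : sylowCandidates 131 33 = [1] := by decide
  rw [hcand] at hmem
  simp only [List.mem_cons, List.not_mem_nil, or_false] at hmem
  have hlt := one_lt_card_sylow_of_card hc hm (by norm_num) (by norm_num)
  have hd := hmem
  · omega

theorem no_4324 {G : Type*} [Group G] [Finite G] [IsSimpleGroup G]
    (hG : ¬ IsMulCommutative G) (h : Nat.card G = 4324) : False := by
  exact ev hG (by rw [h]; exact ⟨2162, by norm_num⟩) (by rw [h]; omega)

theorem no_4325 {G : Type*} [Group G] [Finite G] [IsSimpleGroup G]
    (hG : ¬ IsMulCommutative G) (h : Nat.card G = 4325) : False := by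
  exact tp hG 5 173 2 1 (by norm_num) (by norm_num) (by rw [h]; norm_num)

theorem no_4326 {G : Type*} [Group G] [Finite G] [IsSimpleGroup G]
    (hG : ¬ IsMulCommutative G) (h : Nat.card G = 4326) : False := by
  exact ev hG (by rw [h]; exact ⟨2163, by norm_num⟩) (by rw [h]; omega)

theorem no_4327 {G : Type*} [Group G] [Finite G] [IsSimpleGroup G]
    (hG : ¬ IsMulCommutative G) (h : Nat.card G = 4327) : False := by
  exact tp hG 4327 2 1 0 (by norm_num) (by norm_num) (by rw [h]; norm_num)

theorem no_4328 {G : Type*} [Group G] [Finite G] [IsSimpleGroup G]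
    (hG : ¬ IsMulCommutative G) (h : Nat.card G = 4328) : False := by
  exact tp hG 2 541 3 1 (by norm_num) (by norm_num) (by rw [h]; norm_num)

theorem no_4329 {G : Type*} [Group G] [Finite G] [IsSimpleGroup G]
    (hG : ¬ IsMulCommutative G) (h : Nat.card G = 4329) : False := by
  have : Fact (Nat.Prime 37) := ⟨by norm_num⟩
  have hc : Nat.card G = 37 ^ 1 * 117 := by rw [h]; norm_num
  have hm : ¬ 37 ∣ 117 := by norm_num
  have hmem := card_sylow_mem_candidates hc hm
  have hcand : sylowCandidates 37 117 = [1] := by decide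
  rw [hcand] at hmem
  simp only [List.mem_cons, List.not_mem_nil, or_false] at hmem
  have hlt := one_lt_card_sylow_of_card hc hm (by norm_num) (by norm_num)
  have hd := hmem
  · omega

theorem no_4330 {G : Type*} [Group G] [Finite G] [IsSimpleGroup G]
    (hG : ¬ IsMulCommutative G) (h : Nat.card G = 4330) : False := by
  exact ev hG (by rw [h]; exact ⟨2165, by norm_num⟩) (by rw [h]; omega)

theorem no_4331 {G : Type*} [Group G] [Finite G] [IsSimpleGroup G]
    (hG : ¬ IsMulCommutative G) (h : Nat.card G = 4331) : False := by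
  exact tp hG 61 71 1 1 (by norm_num) (by norm_num) (by rw [h]; norm_num)

theorem no_4332 {G : Type*} [Group G] [Finite G] [IsSimpleGroup G]
    (hG : ¬ IsMulCommutative G) (h : Nat.card G = 4332) : False := by
  have : Fact (Nat.Prime 19) := ⟨by norm_num⟩
  have hc : Nat.card G = 19 ^ 2 * 12 := by rw [h]; norm_num
  have hm : ¬ 19 ∣ 12 := by norm_num
  have hmem := card_sylow_mem_candidates hc hm
  have hcand : sylowCandidates 19 12 = [1] := by decide
  rw [hcand] at hmem
  simp only [List.mem_cons, List.not_mem_nil, or_false] at hmem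
  have hlt := one_lt_card_sylow_of_card hc hm (by norm_num) (by norm_num)
  have hd := hmem
  · omega

theorem no_4333 {G : Type*} [Group G] [Finite G] [IsSimpleGroup G]
    (hG : ¬ IsMulCommutative G) (h : Nat.card G = 4333) : False := by
  exact tp hG 7 619 1 1 (by norm_num) (by norm_num) (by rw [h]; norm_num)

theorem no_4334 {G : Type*} [Group G] [Finite G] [IsSimpleGroup G]
    (hG : ¬ IsMulCommutative G) (h : Nat.card G = 4334) : False := by
  exact ev hG (by rw [h]; exact ⟨2167, by norm_num⟩) (by rw [h]; omega)

theorem no_4335 {G : Type*} [Group G] [Finite G] [IsSimpleGroup G]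
    (hG : ¬ IsMulCommutative G) (h : Nat.card G = 4335) : False := by
  have : Fact (Nat.Prime 17) := ⟨by norm_num⟩
  have hc : Nat.card G = 17 ^ 2 * 15 := by rw [h]; norm_num
  have hm : ¬ 17 ∣ 15 := by norm_num
  have hmem := card_sylow_mem_candidates hc hm
  have hcand : sylowCandidates 17 15 = [1] := by decide
  rw [hcand] at hmem
  simp only [List.mem_cons, List.not_mem_nil, or_false] at hmem
  have hlt := one_lt_card_sylow_of_card hc hm (by norm_num) (by norm_num)
  have hd := hmem
  · omega

theorem no_4336 {G : Type*} [Group G] [Finite G] [IsSimpleGroup G]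
    (hG : ¬ IsMulCommutative G) (h : Nat.card G = 4336) : False := by
  exact tp hG 2 271 4 1 (by norm_num) (by norm_num) (by rw [h]; norm_num)

theorem no_4337 {G : Type*} [Group G] [Finite G] [IsSimpleGroup G]
    (hG : ¬ IsMulCommutative G) (h : Nat.card G = 4337) : False := by
  exact tp hG 4337 2 1 0 (by norm_num) (by norm_num) (by rw [h]; norm_num)

theorem no_4338 {G : Type*} [Group G] [Finite G] [IsSimpleGroup G]
    (hG : ¬ IsMulCommutative G) (h : Nat.card G = 4338) : False := by
  exact ev hG (by rw [h]; exact ⟨2169, by norm_num⟩) (by rw [h]; omega)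

theorem no_4339 {G : Type*} [Group G] [Finite G] [IsSimpleGroup G]
    (hG : ¬ IsMulCommutative G) (h : Nat.card G = 4339) : False := by
  exact tp hG 4339 2 1 0 (by norm_num) (by norm_num) (by rw [h]; norm_num)

theorem no_4340 {G : Type*} [Group G] [Finite G] [IsSimpleGroup G]
    (hG : ¬ IsMulCommutative G) (h : Nat.card G = 4340) : False := by
  exact ev hG (by rw [h]; exact ⟨2170, by norm_num⟩) (by rw [h]; omega)

theorem no_4341 {G : Type*} [Group G] [Finite G] [IsSimpleGroup G]
    (hG : ¬ IsMulCommutative G) (h : Nat.card G = 4341) : False := by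
  exact tp hG 3 1447 1 1 (by norm_num) (by norm_num) (by rw [h]; norm_num)

theorem no_4342 {G : Type*} [Group G] [Finite G] [IsSimpleGroup G]
    (hG : ¬ IsMulCommutative G) (h : Nat.card G = 4342) : False := by
  exact ev hG (by rw [h]; exact ⟨2171, by norm_num⟩) (by rw [h]; omega)

theorem no_4343 {G : Type*} [Group G] [Finite G] [IsSimpleGroup G]
    (hG : ¬ IsMulCommutative G) (h : Nat.card G = 4343) : False := by
  exact tp hG 43 101 1 1 (by norm_num) (by norm_num) (by rw [h]; norm_num)

theorem no_4344 {G : Type*} [Group G] [Finite G] [IsSimpleGroup G]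
    (hG : ¬ IsMulCommutative G) (h : Nat.card G = 4344) : False := by
  have : Fact (Nat.Prime 181) := ⟨by norm_num⟩
  have hc : Nat.card G = 181 ^ 1 * 24 := by rw [h]; norm_num
  have hm : ¬ 181 ∣ 24 := by norm_num
  have hmem := card_sylow_mem_candidates hc hm
  have hcand : sylowCandidates 181 24 = [1] := by decide
  rw [hcand] at hmem
  simp only [List.mem_cons, List.not_mem_nil, or_false] at hmem
  have hlt := one_lt_card_sylow_of_card hc hm (by norm_num) (by norm_num)
  have hd := hmem
  · omega

theorem no_4345 {G : Type*} [Group G] [Finite G] [IsSimpleGroup G]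
    (hG : ¬ IsMulCommutative G) (h : Nat.card G = 4345) : False := by
  have : Fact (Nat.Prime 79) := ⟨by norm_num⟩
  have hc : Nat.card G = 79 ^ 1 * 55 := by rw [h]; norm_num
  have hm : ¬ 79 ∣ 55 := by norm_num
  have hmem := card_sylow_mem_candidates hc hm
  have hcand : sylowCandidates 79 55 = [1] := by decide
  rw [hcand] at hmem
  simp only [List.mem_cons, List.not_mem_nil, or_false] at hmem
  have hlt := one_lt_card_sylow_of_card hc hm (by norm_num) (by norm_num)
  have hd := hmem
  · omega

theorem no_4346 {G : Type*} [Group G] [Finite G] [IsSimpleGroup G]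
    (hG : ¬ IsMulCommutative G) (h : Nat.card G = 4346) : False := by
  exact ev hG (by rw [h]; exact ⟨2173, by norm_num⟩) (by rw [h]; omega)

theorem no_4347 {G : Type*} [Group G] [Finite G] [IsSimpleGroup G]
    (hG : ¬ IsMulCommutative G) (h : Nat.card G = 4347) : False := by
  have : Fact (Nat.Prime 23) := ⟨by norm_num⟩
  have hc : Nat.card G = 23 ^ 1 * 189 := by rw [h]; norm_num
  have hm : ¬ 23 ∣ 189 := by norm_num
  have hmem := card_sylow_mem_candidates hc hm
  have hcand : sylowCandidates 23 189 = [1] := by decide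
  rw [hcand] at hmem
  simp only [List.mem_cons, List.not_mem_nil, or_false] at hmem
  have hlt := one_lt_card_sylow_of_card hc hm (by norm_num) (by norm_num)
  have hd := hmem
  · omega

theorem no_4348 {G : Type*} [Group G] [Finite G] [IsSimpleGroup G]
    (hG : ¬ IsMulCommutative G) (h : Nat.card G = 4348) : False := by
  exact tp hG 2 1087 2 1 (by norm_num) (by norm_num) (by rw [h]; norm_num)

theorem no_4349 {G : Type*} [Group G] [Finite G] [IsSimpleGroup G]
    (hG : ¬ IsMulCommutative G) (h : Nat.card G = 4349) : False := by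
  exact tp hG 4349 2 1 0 (by norm_num) (by norm_num) (by rw [h]; norm_num)

theorem no_4350 {G : Type*} [Group G] [Finite G] [IsSimpleGroup G]
    (hG : ¬ IsMulCommutative G) (h : Nat.card G = 4350) : False := by
  exact ev hG (by rw [h]; exact ⟨2175, by norm_num⟩) (by rw [h]; omega)

theorem no_4351 {G : Type*} [Group G] [Finite G] [IsSimpleGroup G]
    (hG : ¬ IsMulCommutative G) (h : Nat.card G = 4351) : False := by
  exact tp hG 19 229 1 1 (by norm_num) (by norm_num) (by rw [h]; norm_num)

theorem no_4352 {G : Type*} [Group G] [Finite G] [IsSimpleGroup G]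
    (hG : ¬ IsMulCommutative G) (h : Nat.card G = 4352) : False := by
  exact tp hG 2 17 8 1 (by norm_num) (by norm_num) (by rw [h]; norm_num)

theorem no_4353 {G : Type*} [Group G] [Finite G] [IsSimpleGroup G]
    (hG : ¬ IsMulCommutative G) (h : Nat.card G = 4353) : False := by
  exact tp hG 3 1451 1 1 (by norm_num) (by norm_num) (by rw [h]; norm_num)

theorem no_4354 {G : Type*} [Group G] [Finite G] [IsSimpleGroup G]
    (hG : ¬ IsMulCommutative G) (h : Nat.card G = 4354) : False := by
  exact ev hG (by rw [h]; exact ⟨2177, by norm_num⟩) (by rw [h]; omega)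

theorem no_4355 {G : Type*} [Group G] [Finite G] [IsSimpleGroup G]
    (hG : ¬ IsMulCommutative G) (h : Nat.card G = 4355) : False := by
  have : Fact (Nat.Prime 67) := ⟨by norm_num⟩
  have hc : Nat.card G = 67 ^ 1 * 65 := by rw [h]; norm_num
  have hm : ¬ 67 ∣ 65 := by norm_num
  have hmem := card_sylow_mem_candidates hc hm
  have hcand : sylowCandidates 67 65 = [1] := by decide
  rw [hcand] at hmem
  simp only [List.mem_cons, List.not_mem_nil, or_false] at hmem
  have hlt := one_lt_card_sylow_of_card hc hm (by norm_num) (by norm_num)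
  have hd := hmem
  · omega

theorem no_4356 {G : Type*} [Group G] [Finite G] [IsSimpleGroup G]
    (hG : ¬ IsMulCommutative G) (h : Nat.card G = 4356) : False := by
  have : Fact (Nat.Prime 11) := ⟨by norm_num⟩
  have hc : Nat.card G = 11 ^ 2 * 36 := by rw [h]; norm_num
  have hm : ¬ 11 ∣ 36 := by norm_num
  have hmem := card_sylow_mem_candidates hc hm
  have hcand : sylowCandidates 11 36 = [1, 12] := by decide
  rw [hcand] at hmem
  simp only [List.mem_cons, List.not_mem_nil, or_false] at hmem
  have hlt := one_lt_card_sylow_of_card hc hm (by norm_num) (by norm_num)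
  rcases hmem with hd | hd
  · omega
  · exact fact_kill hG 12 hd (by norm_num) (by rw [h]; decide)

theorem no_4357 {G : Type*} [Group G] [Finite G] [IsSimpleGroup G]
    (hG : ¬ IsMulCommutative G) (h : Nat.card G = 4357) : False := by
  exact tp hG 4357 2 1 0 (by norm_num) (by norm_num) (by rw [h]; norm_num)

theorem no_4358 {G : Type*} [Group G] [Finite G] [IsSimpleGroup G]
    (hG : ¬ IsMulCommutative G) (h : Nat.card G = 4358) : False := by
  exact tp hG 2 2179 1 1 (by norm_num) (by norm_num) (by rw [h]; norm_num)

theorem no_4359 {G : Type*} [Group G] [Finite G] [IsSimpleGroup G]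
    (hG : ¬ IsMulCommutative G) (h : Nat.card G = 4359) : False := by
  exact tp hG 3 1453 1 1 (by norm_num) (by norm_num) (by rw [h]; norm_num)

theorem no_4360 {G : Type*} [Group G] [Finite G] [IsSimpleGroup G]
    (hG : ¬ IsMulCommutative G) (h : Nat.card G = 4360) : False := by
  exact ev hG (by rw [h]; exact ⟨2180, by norm_num⟩) (by rw [h]; omega)

theorem no_4361 {G : Type*} [Group G] [Finite G] [IsSimpleGroup G]
    (hG : ¬ IsMulCommutative G) (h : Nat.card G = 4361) : False := by
  exact tp hG 7 89 2 1 (by norm_num) (by norm_num) (by rw [h]; norm_num)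

theorem no_4362 {G : Type*} [Group G] [Finite G] [IsSimpleGroup G]
    (hG : ¬ IsMulCommutative G) (h : Nat.card G = 4362) : False := by
  exact ev hG (by rw [h]; exact ⟨2181, by norm_num⟩) (by rw [h]; omega)

theorem no_4363 {G : Type*} [Group G] [Finite G] [IsSimpleGroup G]
    (hG : ¬ IsMulCommutative G) (h : Nat.card G = 4363) : False := by
  exact tp hG 4363 2 1 0 (by norm_num) (by norm_num) (by rw [h]; norm_num)

theorem no_4364 {G : Type*} [Group G] [Finite G] [IsSimpleGroup G]
    (hG : ¬ IsMulCommutative G) (h : Nat.card G = 4364) : False := by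
  exact tp hG 2 1091 2 1 (by norm_num) (by norm_num) (by rw [h]; norm_num)

theorem no_4365 {G : Type*} [Group G] [Finite G] [IsSimpleGroup G]
    (hG : ¬ IsMulCommutative G) (h : Nat.card G = 4365) : False := by
  have : Fact (Nat.Prime 97) := ⟨by norm_num⟩
  have hc : Nat.card G = 97 ^ 1 * 45 := by rw [h]; norm_num
  have hm : ¬ 97 ∣ 45 := by norm_num
  have hmem := card_sylow_mem_candidates hc hm
  have hcand : sylowCandidates 97 45 = [1] := by decide
  rw [hcand] at hmem
  simp only [List.mem_cons, List.not_mem_nil, or_false] at hmem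
  have hlt := one_lt_card_sylow_of_card hc hm (by norm_num) (by norm_num)
  have hd := hmem
  · omega

theorem no_4366 {G : Type*} [Group G] [Finite G] [IsSimpleGroup G]
    (hG : ¬ IsMulCommutative G) (h : Nat.card G = 4366) : False := by
  exact ev hG (by rw [h]; exact ⟨2183, by norm_num⟩) (by rw [h]; omega)

theorem no_4367 {G : Type*} [Group G] [Finite G] [IsSimpleGroup G]
    (hG : ¬ IsMulCommutative G) (h : Nat.card G = 4367) : False := by
  exact tp hG 11 397 1 1 (by norm_num) (by norm_num) (by rw [h]; norm_num)

theorem no_4368 {G : Type*} [Group G] [Finite G] [IsSimpleGroup G]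
    (hG : ¬ IsMulCommutative G) (h : Nat.card G = 4368) : False := by
  have : Fact (Nat.Prime 13) := ⟨by norm_num⟩
  have hc : Nat.card G = 13 ^ 1 * 336 := by rw [h]; norm_num
  have hm : ¬ 13 ∣ 336 := by norm_num
  have hmem := card_sylow_mem_candidates hc hm
  have hcand : sylowCandidates 13 336 = [1, 14] := by decide
  rw [hcand] at hmem
  simp only [List.mem_cons, List.not_mem_nil, or_false] at hmem
  have hlt := one_lt_card_sylow_of_card hc hm (by norm_num) (by norm_num)
  rcases hmem with hd | hd
  · omega
  · exact perm_kill hG (by norm_num) hc hm hd 312 (by omega) (by decide)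

theorem no_4369 {G : Type*} [Group G] [Finite G] [IsSimpleGroup G]
    (hG : ¬ IsMulCommutative G) (h : Nat.card G = 4369) : False := by
  exact tp hG 17 257 1 1 (by norm_num) (by norm_num) (by rw [h]; norm_num)

theorem no_4370 {G : Type*} [Group G] [Finite G] [IsSimpleGroup G]
    (hG : ¬ IsMulCommutative G) (h : Nat.card G = 4370) : False := by
  exact ev hG (by rw [h]; exact ⟨2185, by norm_num⟩) (by rw [h]; omega)

theorem no_4371 {G : Type*} [Group G] [Finite G] [IsSimpleGroup G]
    (hG : ¬ IsMulCommutative G) (h : Nat.card G = 4371) : False := by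
  have : Fact (Nat.Prime 47) := ⟨by norm_num⟩
  have hc : Nat.card G = 47 ^ 1 * 93 := by rw [h]; norm_num
  have hm : ¬ 47 ∣ 93 := by norm_num
  have hmem := card_sylow_mem_candidates hc hm
  have hcand : sylowCandidates 47 93 = [1] := by decide
  rw [hcand] at hmem
  simp only [List.mem_cons, List.not_mem_nil, or_false] at hmem
  have hlt := one_lt_card_sylow_of_card hc hm (by norm_num) (by norm_num)
  have hd := hmem
  · omega

theorem no_4372 {G : Type*} [Group G] [Finite G] [IsSimpleGroup G]
    (hG : ¬ IsMulCommutative G) (h : Nat.card G = 4372) : False := by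
  exact tp hG 2 1093 2 1 (by norm_num) (by norm_num) (by rw [h]; norm_num)

theorem no_4373 {G : Type*} [Group G] [Finite G] [IsSimpleGroup G]
    (hG : ¬ IsMulCommutative G) (h : Nat.card G = 4373) : False := by
  exact tp hG 4373 2 1 0 (by norm_num) (by norm_num) (by rw [h]; norm_num)

theorem no_4374 {G : Type*} [Group G] [Finite G] [IsSimpleGroup G]
    (hG : ¬ IsMulCommutative G) (h : Nat.card G = 4374) : False := by
  exact tp hG 2 3 1 7 (by norm_num) (by norm_num) (by rw [h]; norm_num)

theorem no_4375 {G : Type*} [Group G] [Finite G] [IsSimpleGroup G]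
    (hG : ¬ IsMulCommutative G) (h : Nat.card G = 4375) : False := by
  exact tp hG 5 7 4 1 (by norm_num) (by norm_num) (by rw [h]; norm_num)

theorem no_4376 {G : Type*} [Group G] [Finite G] [IsSimpleGroup G]
    (hG : ¬ IsMulCommutative G) (h : Nat.card G = 4376) : False := by
  exact tp hG 2 547 3 1 (by norm_num) (by norm_num) (by rw [h]; norm_num)

theorem no_4377 {G : Type*} [Group G] [Finite G] [IsSimpleGroup G]
    (hG : ¬ IsMulCommutative G) (h : Nat.card G = 4377) : False := by
  exact tp hG 3 1459 1 1 (by norm_num) (by norm_num) (by rw [h]; norm_num)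

theorem no_4378 {G : Type*} [Group G] [Finite G] [IsSimpleGroup G]
    (hG : ¬ IsMulCommutative G) (h : Nat.card G = 4378) : False := by
  exact ev hG (by rw [h]; exact ⟨2189, by norm_num⟩) (by rw [h]; omega)

theorem no_4379 {G : Type*} [Group G] [Finite G] [IsSimpleGroup G]
    (hG : ¬ IsMulCommutative G) (h : Nat.card G = 4379) : False := by
  exact tp hG 29 151 1 1 (by norm_num) (by norm_num) (by rw [h]; norm_num)

theorem no_4380 {G : Type*} [Group G] [Finite G] [IsSimpleGroup G]
    (hG : ¬ IsMulCommutative G) (h : Nat.card G = 4380) : False := by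
  have : Fact (Nat.Prime 73) := ⟨by norm_num⟩
  have hc : Nat.card G = 73 ^ 1 * 60 := by rw [h]; norm_num
  have hm : ¬ 73 ∣ 60 := by norm_num
  have hmem := card_sylow_mem_candidates hc hm
  have hcand : sylowCandidates 73 60 = [1] := by decide
  rw [hcand] at hmem
  simp only [List.mem_cons, List.not_mem_nil, or_false] at hmem
  have hlt := one_lt_card_sylow_of_card hc hm (by norm_num) (by norm_num)
  have hd := hmem
  · omega

theorem no_4381 {G : Type*} [Group G] [Finite G] [IsSimpleGroup G]
    (hG : ¬ IsMulCommutative G) (h : Nat.card G = 4381) : False := by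
  exact tp hG 13 337 1 1 (by norm_num) (by norm_num) (by rw [h]; norm_num)

theorem no_4382 {G : Type*} [Group G] [Finite G] [IsSimpleGroup G]
    (hG : ¬ IsMulCommutative G) (h : Nat.card G = 4382) : False := by
  exact ev hG (by rw [h]; exact ⟨2191, by norm_num⟩) (by rw [h]; omega)

theorem no_4383 {G : Type*} [Group G] [Finite G] [IsSimpleGroup G]
    (hG : ¬ IsMulCommutative G) (h : Nat.card G = 4383) : False := by
  exact tp hG 3 487 2 1 (by norm_num) (by norm_num) (by rw [h]; norm_num)

theorem no_4384 {G : Type*} [Group G] [Finite G] [IsSimpleGroup G]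
    (hG : ¬ IsMulCommutative G) (h : Nat.card G = 4384) : False := by
  exact tp hG 2 137 5 1 (by norm_num) (by norm_num) (by rw [h]; norm_num)

theorem no_4385 {G : Type*} [Group G] [Finite G] [IsSimpleGroup G]
    (hG : ¬ IsMulCommutative G) (h : Nat.card G = 4385) : False := by
  exact tp hG 5 877 1 1 (by norm_num) (by norm_num) (by rw [h]; norm_num)

theorem no_4386 {G : Type*} [Group G] [Finite G] [IsSimpleGroup G]
    (hG : ¬ IsMulCommutative G) (h : Nat.card G = 4386) : False := by
  exact ev hG (by rw [h]; exact ⟨2193, by norm_num⟩) (by rw [h]; omega)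

theorem no_4387 {G : Type*} [Group G] [Finite G] [IsSimpleGroup G]
    (hG : ¬ IsMulCommutative G) (h : Nat.card G = 4387) : False := by
  exact tp hG 41 107 1 1 (by norm_num) (by norm_num) (by rw [h]; norm_num)

theorem no_4388 {G : Type*} [Group G] [Finite G] [IsSimpleGroup G]
    (hG : ¬ IsMulCommutative G) (h : Nat.card G = 4388) : False := by
  exact tp hG 2 1097 2 1 (by norm_num) (by norm_num) (by rw [h]; norm_num)

theorem no_4389 {G : Type*} [Group G] [Finite G] [IsSimpleGroup G]
    (hG : ¬ IsMulCommutative G) (h : Nat.card G = 4389) : False := by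
  have : Fact (Nat.Prime 11) := ⟨by norm_num⟩
  have hc : Nat.card G = 11 ^ 1 * 399 := by rw [h]; norm_num
  have hm : ¬ 11 ∣ 399 := by norm_num
  have hmem := card_sylow_mem_candidates hc hm
  have hcand : sylowCandidates 11 399 = [1, 133] := by decide
  rw [hcand] at hmem
  simp only [List.mem_cons, List.not_mem_nil, or_false] at hmem
  have hlt := one_lt_card_sylow_of_card hc hm (by norm_num) (by norm_num)
  rcases hmem with hd | hd
  · omega
  · exact burn_kill hc hm (by norm_num) 133 hd (by decide)

theorem no_4390 {G : Type*} [Group G] [Finite G] [IsSimpleGroup G]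
    (hG : ¬ IsMulCommutative G) (h : Nat.card G = 4390) : False := by
  exact ev hG (by rw [h]; exact ⟨2195, by norm_num⟩) (by rw [h]; omega)

theorem no_4391 {G : Type*} [Group G] [Finite G] [IsSimpleGroup G]
    (hG : ¬ IsMulCommutative G) (h : Nat.card G = 4391) : False := by
  exact tp hG 4391 2 1 0 (by norm_num) (by norm_num) (by rw [h]; norm_num)

theorem no_4392 {G : Type*} [Group G] [Finite G] [IsSimpleGroup G]
    (hG : ¬ IsMulCommutative G) (h : Nat.card G = 4392) : False := by
  have : Fact (Nat.Prime 61) := ⟨by norm_num⟩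
  have hc : Nat.card G = 61 ^ 1 * 72 := by rw [h]; norm_num
  have hm : ¬ 61 ∣ 72 := by norm_num
  have hmem := card_sylow_mem_candidates hc hm
  have hcand : sylowCandidates 61 72 = [1] := by decide
  rw [hcand] at hmem
  simp only [List.mem_cons, List.not_mem_nil, or_false] at hmem
  have hlt := one_lt_card_sylow_of_card hc hm (by norm_num) (by norm_num)
  have hd := hmem
  · omega

theorem no_4393 {G : Type*} [Group G] [Finite G] [IsSimpleGroup G]
    (hG : ¬ IsMulCommutative G) (h : Nat.card G = 4393) : False := by
  exact tp hG 23 191 1 1 (by norm_num) (by norm_num) (by rw [h]; norm_num)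

theorem no_4394 {G : Type*} [Group G] [Finite G] [IsSimpleGroup G]
    (hG : ¬ IsMulCommutative G) (h : Nat.card G = 4394) : False := by
  exact tp hG 2 13 1 3 (by norm_num) (by norm_num) (by rw [h]; norm_num)

theorem no_4395 {G : Type*} [Group G] [Finite G] [IsSimpleGroup G]
    (hG : ¬ IsMulCommutative G) (h : Nat.card G = 4395) : False := by
  have : Fact (Nat.Prime 293) := ⟨by norm_num⟩
  have hc : Nat.card G = 293 ^ 1 * 15 := by rw [h]; norm_num
  have hm : ¬ 293 ∣ 15 := by norm_num
  have hmem := card_sylow_mem_candidates hc hm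
  have hcand : sylowCandidates 293 15 = [1] := by decide
  rw [hcand] at hmem
  simp only [List.mem_cons, List.not_mem_nil, or_false] at hmem
  have hlt := one_lt_card_sylow_of_card hc hm (by norm_num) (by norm_num)
  have hd := hmem
  · omega

theorem no_4396 {G : Type*} [Group G] [Finite G] [IsSimpleGroup G]
    (hG : ¬ IsMulCommutative G) (h : Nat.card G = 4396) : False := by
  exact ev hG (by rw [h]; exact ⟨2198, by norm_num⟩) (by rw [h]; omega)

theorem no_4397 {G : Type*} [Group G] [Finite G] [IsSimpleGroup G]
    (hG : ¬ IsMulCommutative G) (h : Nat.card G = 4397) : False := by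
  exact tp hG 4397 2 1 0 (by norm_num) (by norm_num) (by rw [h]; norm_num)

theorem no_4398 {G : Type*} [Group G] [Finite G] [IsSimpleGroup G]
    (hG : ¬ IsMulCommutative G) (h : Nat.card G = 4398) : False := by
  exact ev hG (by rw [h]; exact ⟨2199, by norm_num⟩) (by rw [h]; omega)

theorem no_4399 {G : Type*} [Group G] [Finite G] [IsSimpleGroup G]
    (hG : ¬ IsMulCommutative G) (h : Nat.card G = 4399) : False := by
  exact tp hG 53 83 1 1 (by norm_num) (by norm_num) (by rw [h]; norm_num)

/-- the orders in [4301, 4400] not excluded by the engine -/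
theorem chunk {G : Type*} [Group G] [Finite G] [IsSimpleGroup G]
    (hG : ¬ IsMulCommutative G) (n : ℕ) (hn : Nat.card G = n) (h1 : 4301 ≤ n) (h2 : n ≤ 4400) :
    n = 4320 ∨ n = 4400 := by
  interval_cases n
  · exact (no_4301 hG hn).elim
  · exact (no_4302 hG hn).elim
  · exact (no_4303 hG hn).elim
  · exact (no_4304 hG hn).elim
  · exact (no_4305 hG hn).elim
  · exact (no_4306 hG hn).elim
  · exact (no_4307 hG hn).elim
  · exact (no_4308 hG hn).elim
  · exact (no_4309 hG hn).elim
  · exact (no_4310 hG hn).elim
  · exact (no_4311 hG hn).elim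
  · exact (no_4312 hG hn).elim
  · exact (no_4313 hG hn).elim
  · exact (no_4314 hG hn).elim
  · exact (no_4315 hG hn).elim
  · exact (no_4316 hG hn).elim
  · exact (no_4317 hG hn).elim
  · exact (no_4318 hG hn).elim
  · exact (no_4319 hG hn).elim
  · simp
  · exact (no_4321 hG hn).elim
  · exact (no_4322 hG hn).elim
  · exact (no_4323 hG hn).elim
  · exact (no_4324 hG hn).elim
  · exact (no_4325 hG hn).elim
  · exact (no_4326 hG hn).elim
  · exact (no_4327 hG hn).elim
  · exact (no_4328 hG hn).elim
  · exact (no_4329 hG hn).elim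
  · exact (no_4330 hG hn).elim
  · exact (no_4331 hG hn).elim
  · exact (no_4332 hG hn).elim
  · exact (no_4333 hG hn).elim
  · exact (no_4334 hG hn).elim
  · exact (no_4335 hG hn).elim
  · exact (no_4336 hG hn).elim
  · exact (no_4337 hG hn).elim
  · exact (no_4338 hG hn).elim
  · exact (no_4339 hG hn).elim
  · exact (no_4340 hG hn).elim
  · exact (no_4341 hG hn).elim
  · exact (no_4342 hG hn).elim
  · exact (no_4343 hG hn).elim
  · exact (no_4344 hG hn).elim
  · exact (no_4345 hG hn).elim
  · exact (no_4346 hG hn).elim
  · exact (no_4347 hG hn).elim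
  · exact (no_4348 hG hn).elim
  · exact (no_4349 hG hn).elim
  · exact (no_4350 hG hn).elim
  · exact (no_4351 hG hn).elim
  · exact (no_4352 hG hn).elim
  · exact (no_4353 hG hn).elim
  · exact (no_4354 hG hn).elim
  · exact (no_4355 hG hn).elim
  · exact (no_4356 hG hn).elim
  · exact (no_4357 hG hn).elim
  · exact (no_4358 hG hn).elim
  · exact (no_4359 hG hn).elim
  · exact (no_4360 hG hn).elim
  · exact (no_4361 hG hn).elim
  · exact (no_4362 hG hn).elim
  · exact (no_4363 hG hn).elim
  · exact (no_4364 hG hn).elim
  · exact (no_4365 hG hn).elim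
  · exact (no_4366 hG hn).elim
  · exact (no_4367 hG hn).elim
  · exact (no_4368 hG hn).elim
  · exact (no_4369 hG hn).elim
  · exact (no_4370 hG hn).elim
  · exact (no_4371 hG hn).elim
  · exact (no_4372 hG hn).elim
  · exact (no_4373 hG hn).elim
  · exact (no_4374 hG hn).elim
  · exact (no_4375 hG hn).elim
  · exact (no_4376 hG hn).elim
  · exact (no_4377 hG hn).elim
  · exact (no_4378 hG hn).elim
  · exact (no_4379 hG hn).elim
  · exact (no_4380 hG hn).elim
  · exact (no_4381 hG hn).elim
  · exact (no_4382 hG hn).elim
  · exact (no_4383 hG hn).elim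
  · exact (no_4384 hG hn).elim
  · exact (no_4385 hG hn).elim
  · exact (no_4386 hG hn).elim
  · exact (no_4387 hG hn).elim
  · exact (no_4388 hG hn).elim
  · exact (no_4389 hG hn).elim
  · exact (no_4390 hG hn).elim
  · exact (no_4391 hG hn).elim
  · exact (no_4392 hG hn).elim
  · exact (no_4393 hG hn).elim
  · exact (no_4394 hG hn).elim
  · exact (no_4395 hG hn).elim
  · exact (no_4396 hG hn).elim
  · exact (no_4397 hG hn).elim
  · exact (no_4398 hG hn).elim
  · exact (no_4399 hG hn).elim
  · simp

end Cfsg.Agent.Lib.Helper16_SO_E07
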