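import Mathlib
import Cfsg.Agent.Lib.Helper75_SM_Base

/-!
# S0983 engine, generated file: no simple group of order N for the easy N in [4401, 4500]
(helper16; same scheme as helper75's `Helper75_SM_E*`)
-/

set_option autoImplicit false
set_option linter.unusedVariables false

namespace Cfsg.Agent.Lib.Helper16_SO_E08

open Cfsg.Agent.Lib.Helper17_Sylow Cfsg.Agent.Lib.Helper75_SM_Base

theorem no_4401 {G : Type*} [Group G] [Finite G] [IsSimpleGroup G]
    (hG : ¬ IsMulCommutative G) (h : Nat.card G = 4401) : False := by
  exact tp hG 3 163 3 1 (by norm_num) (by norm_num) (by rw [h]; norm_num)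

theorem no_4402 {G : Type*} [Group G] [Finite G] [IsSimpleGroup G]
    (hG : ¬ IsMulCommutative G) (h : Nat.card G = 4402) : False := by
  exact ev hG (by rw [h]; exact ⟨2201, by norm_num⟩) (by rw [h]; omega)

theorem no_4403 {G : Type*} [Group G] [Finite G] [IsSimpleGroup G]
    (hG : ¬ IsMulCommutative G) (h : Nat.card G = 4403) : False := by
  have : Fact (Nat.Prime 37) := ⟨by norm_num⟩
  have hc : Nat.card G = 37 ^ 1 * 119 := by rw [h]; norm_num
  have hm : ¬ 37 ∣ 119 := by norm_num
  have hmem := card_sylow_mem_candidates hc hm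
  have hcand : sylowCandidates 37 119 = [1] := by decide
  rw [hcand] at hmem
  simp only [List.mem_cons, List.not_mem_nil, or_false] at hmem
  have hlt := one_lt_card_sylow_of_card hc hm (by norm_num) (by norm_num)
  have hd := hmem
  · omega

theorem no_4404 {G : Type*} [Group G] [Finite G] [IsSimpleGroup G]
    (hG : ¬ IsMulCommutative G) (h : Nat.card G = 4404) : False := by
  have : Fact (Nat.Prime 367) := ⟨by norm_num⟩
  have hc : Nat.card G = 367 ^ 1 * 12 := by rw [h]; norm_num
  have hm : ¬ 367 ∣ 12 := by norm_num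
  have hmem := card_sylow_mem_candidates hc hm
  have hcand : sylowCandidates 367 12 = [1] := by decide
  rw [hcand] at hmem
  simp only [List.mem_cons, List.not_mem_nil, or_false] at hmem
  have hlt := one_lt_card_sylow_of_card hc hm (by norm_num) (by norm_num)
  have hd := hmem
  · omega

theorem no_4405 {G : Type*} [Group G] [Finite G] [IsSimpleGroup G]
    (hG : ¬ IsMulCommutative G) (h : Nat.card G = 4405) : False := by
  exact tp hG 5 881 1 1 (by norm_num) (by norm_num) (by rw [h]; norm_num)

theorem no_4406 {G : Type*} [Group G] [Finite G] [IsSimpleGroup G]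
    (hG : ¬ IsMulCommutative G) (h : Nat.card G = 4406) : False := by
  exact tp hG 2 2203 1 1 (by norm_num) (by norm_num) (by rw [h]; norm_num)

theorem no_4407 {G : Type*} [Group G] [Finite G] [IsSimpleGroup G]
    (hG : ¬ IsMulCommutative G) (h : Nat.card G = 4407) : False := by
  have : Fact (Nat.Prime 113) := ⟨by norm_num⟩
  have hc : Nat.card G = 113 ^ 1 * 39 := by rw [h]; norm_num
  have hm : ¬ 113 ∣ 39 := by norm_num
  have hmem := card_sylow_mem_candidates hc hm
  have hcand : sylowCandidates 113 39 = [1] := by decide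
  rw [hcand] at hmem
  simp only [List.mem_cons, List.not_mem_nil, or_false] at hmem
  have hlt := one_lt_card_sylow_of_card hc hm (by norm_num) (by norm_num)
  have hd := hmem
  · omega

theorem no_4408 {G : Type*} [Group G] [Finite G] [IsSimpleGroup G]
    (hG : ¬ IsMulCommutative G) (h : Nat.card G = 4408) : False := by
  exact ev hG (by rw [h]; exact ⟨2204, by norm_num⟩) (by rw [h]; omega)

theorem no_4409 {G : Type*} [Group G] [Finite G] [IsSimpleGroup G]
    (hG : ¬ IsMulCommutative G) (h : Nat.card G = 4409) : False := by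
  exact tp hG 4409 2 1 0 (by norm_num) (by norm_num) (by rw [h]; norm_num)

theorem no_4410 {G : Type*} [Group G] [Finite G] [IsSimpleGroup G]
    (hG : ¬ IsMulCommutative G) (h : Nat.card G = 4410) : False := by
  exact ev hG (by rw [h]; exact ⟨2205, by norm_num⟩) (by rw [h]; omega)

theorem no_4411 {G : Type*} [Group G] [Finite G] [IsSimpleGroup G]
    (hG : ¬ IsMulCommutative G) (h : Nat.card G = 4411) : False := by
  exact tp hG 11 401 1 1 (by norm_num) (by norm_num) (by rw [h]; norm_num)

theorem no_4412 {G : Type*} [Group G] [Finite G] [IsSimpleGroup G]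
    (hG : ¬ IsMulCommutative G) (h : Nat.card G = 4412) : False := by
  exact tp hG 2 1103 2 1 (by norm_num) (by norm_num) (by rw [h]; norm_num)

theorem no_4413 {G : Type*} [Group G] [Finite G] [IsSimpleGroup G]
    (hG : ¬ IsMulCommutative G) (h : Nat.card G = 4413) : False := by
  exact tp hG 3 1471 1 1 (by norm_num) (by norm_num) (by rw [h]; norm_num)

theorem no_4414 {G : Type*} [Group G] [Finite G] [IsSimpleGroup G]
    (hG : ¬ IsMulCommutative G) (h : Nat.card G = 4414) : False := by
  exact tp hG 2 2207 1 1 (by norm_num) (by norm_num) (by rw [h]; norm_num)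

theorem no_4415 {G : Type*} [Group G] [Finite G] [IsSimpleGroup G]
    (hG : ¬ IsMulCommutative G) (h : Nat.card G = 4415) : False := by
  exact tp hG 5 883 1 1 (by norm_num) (by norm_num) (by rw [h]; norm_num)

theorem no_4416 {G : Type*} [Group G] [Finite G] [IsSimpleGroup G]
    (hG : ¬ IsMulCommutative G) (h : Nat.card G = 4416) : False := by
  have : Fact (Nat.Prime 23) := ⟨by norm_num⟩
  have hc : Nat.card G = 23 ^ 1 * 192 := by rw [h]; norm_num
  have hm : ¬ 23 ∣ 192 := by norm_num
  have hmem := card_sylow_mem_candidates hc hm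
  have hcand : sylowCandidates 23 192 = [1, 24] := by decide
  rw [hcand] at hmem
  simp only [List.mem_cons, List.not_mem_nil, or_false] at hmem
  have hlt := one_lt_card_sylow_of_card hc hm (by norm_num) (by norm_num)
  rcases hmem with hd | hd
  · omega
  · exact perm_kill hG (by norm_num) hc hm hd 184 (by omega) (by decide)

theorem no_4417 {G : Type*} [Group G] [Finite G] [IsSimpleGroup G]
    (hG : ¬ IsMulCommutative G) (h : Nat.card G = 4417) : False := by
  exact tp hG 7 631 1 1 (by norm_num) (by norm_num) (by rw [h]; norm_num)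

theorem no_4418 {G : Type*} [Group G] [Finite G] [IsSimpleGroup G]
    (hG : ¬ IsMulCommutative G) (h : Nat.card G = 4418) : False := by
  exact tp hG 2 47 1 2 (by norm_num) (by norm_num) (by rw [h]; norm_num)

theorem no_4419 {G : Type*} [Group G] [Finite G] [IsSimpleGroup G]
    (hG : ¬ IsMulCommutative G) (h : Nat.card G = 4419) : False := by
  exact tp hG 3 491 2 1 (by norm_num) (by norm_num) (by rw [h]; norm_num)

theorem no_4420 {G : Type*} [Group G] [Finite G] [IsSimpleGroup G]
    (hG : ¬ IsMulCommutative G) (h : Nat.card G = 4420) : False := by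
  exact ev hG (by rw [h]; exact ⟨2210, by norm_num⟩) (by rw [h]; omega)

theorem no_4421 {G : Type*} [Group G] [Finite G] [IsSimpleGroup G]
    (hG : ¬ IsMulCommutative G) (h : Nat.card G = 4421) : False := by
  exact tp hG 4421 2 1 0 (by norm_num) (by norm_num) (by rw [h]; norm_num)

theorem no_4422 {G : Type*} [Group G] [Finite G] [IsSimpleGroup G]
    (hG : ¬ IsMulCommutative G) (h : Nat.card G = 4422) : False := by
  exact ev hG (by rw [h]; exact ⟨2211, by norm_num⟩) (by rw [h]; omega)

theorem no_4423 {G : Type*} [Group G] [Finite G] [IsSimpleGroup G]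
    (hG : ¬ IsMulCommutative G) (h : Nat.card G = 4423) : False := by
  exact tp hG 4423 2 1 0 (by norm_num) (by norm_num) (by rw [h]; norm_num)

theorem no_4424 {G : Type*} [Group G] [Finite G] [IsSimpleGroup G]
    (hG : ¬ IsMulCommutative G) (h : Nat.card G = 4424) : False := by
  have : Fact (Nat.Prime 79) := ⟨by norm_num⟩
  have hc : Nat.card G = 79 ^ 1 * 56 := by rw [h]; norm_num
  have hm : ¬ 79 ∣ 56 := by norm_num
  have hmem := card_sylow_mem_candidates hc hm
  have hcand : sylowCandidates 79 56 = [1] := by decide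
  rw [hcand] at hmem
  simp only [List.mem_cons, List.not_mem_nil, or_false] at hmem
  have hlt := one_lt_card_sylow_of_card hc hm (by norm_num) (by norm_num)
  have hd := hmem
  · omega

theorem no_4425 {G : Type*} [Group G] [Finite G] [IsSimpleGroup G]
    (hG : ¬ IsMulCommutative G) (h : Nat.card G = 4425) : False := by
  have : Fact (Nat.Prime 59) := ⟨by norm_num⟩
  have hc : Nat.card G = 59 ^ 1 * 75 := by rw [h]; norm_num
  have hm : ¬ 59 ∣ 75 := by norm_num
  have hmem := card_sylow_mem_candidates hc hm
  have hcand : sylowCandidates 59 75 = [1] := by decide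
  rw [hcand] at hmem
  simp only [List.mem_cons, List.not_mem_nil, or_false] at hmem
  have hlt := one_lt_card_sylow_of_card hc hm (by norm_num) (by norm_num)
  have hd := hmem
  · omega

theorem no_4426 {G : Type*} [Group G] [Finite G] [IsSimpleGroup G]
    (hG : ¬ IsMulCommutative G) (h : Nat.card G = 4426) : False := by
  exact tp hG 2 2213 1 1 (by norm_num) (by norm_num) (by rw [h]; norm_num)

theorem no_4427 {G : Type*} [Group G] [Finite G] [IsSimpleGroup G]
    (hG : ¬ IsMulCommutative G) (h : Nat.card G = 4427) : False := by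
  exact tp hG 19 233 1 1 (by norm_num) (by norm_num) (by rw [h]; norm_num)

theorem no_4428 {G : Type*} [Group G] [Finite G] [IsSimpleGroup G]
    (hG : ¬ IsMulCommutative G) (h : Nat.card G = 4428) : False := by
  have : Fact (Nat.Prime 41) := ⟨by norm_num⟩
  have hc : Nat.card G = 41 ^ 1 * 108 := by rw [h]; norm_num
  have hm : ¬ 41 ∣ 108 := by norm_num
  have hmem := card_sylow_mem_candidates hc hm
  have hcand : sylowCandidates 41 108 = [1] := by decide
  rw [hcand] at hmem
  simp only [List.mem_cons, List.not_mem_nil, or_false] at hmem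
  have hlt := one_lt_card_sylow_of_card hc hm (by norm_num) (by norm_num)
  have hd := hmem
  · omega

theorem no_4429 {G : Type*} [Group G] [Finite G] [IsSimpleGroup G]
    (hG : ¬ IsMulCommutative G) (h : Nat.card G = 4429) : False := by
  exact tp hG 43 103 1 1 (by norm_num) (by norm_num) (by rw [h]; norm_num)

theorem no_4430 {G : Type*} [Group G] [Finite G] [IsSimpleGroup G]
    (hG : ¬ IsMulCommutative G) (h : Nat.card G = 4430) : False := by
  exact ev hG (by rw [h]; exact ⟨2215, by norm_num⟩) (by rw [h]; omega)

theorem no_4431 {G : Type*} [Group G] [Finite G] [IsSimpleGroup G]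
    (hG : ¬ IsMulCommutative G) (h : Nat.card G = 4431) : False := by
  have : Fact (Nat.Prime 211) := ⟨by norm_num⟩
  have hc : Nat.card G = 211 ^ 1 * 21 := by rw [h]; norm_num
  have hm : ¬ 211 ∣ 21 := by norm_num
  have hmem := card_sylow_mem_candidates hc hm
  have hcand : sylowCandidates 211 21 = [1] := by decide
  rw [hcand] at hmem
  simp only [List.mem_cons, List.not_mem_nil, or_false] at hmem
  have hlt := one_lt_card_sylow_of_card hc hm (by norm_num) (by norm_num)
  have hd := hmem
  · omega

theorem no_4432 {G : Type*} [Group G] [Finite G] [IsSimpleGroup G]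
    (hG : ¬ IsMulCommutative G) (h : Nat.card G = 4432) : False := by
  exact tp hG 2 277 4 1 (by norm_num) (by norm_num) (by rw [h]; norm_num)

theorem no_4433 {G : Type*} [Group G] [Finite G] [IsSimpleGroup G]
    (hG : ¬ IsMulCommutative G) (h : Nat.card G = 4433) : False := by
  have : Fact (Nat.Prime 31) := ⟨by norm_num⟩
  have hc : Nat.card G = 31 ^ 1 * 143 := by rw [h]; norm_num
  have hm : ¬ 31 ∣ 143 := by norm_num
  have hmem := card_sylow_mem_candidates hc hm
  have hcand : sylowCandidates 31 143 = [1] := by decide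
  rw [hcand] at hmem
  simp only [List.mem_cons, List.not_mem_nil, or_false] at hmem
  have hlt := one_lt_card_sylow_of_card hc hm (by norm_num) (by norm_num)
  have hd := hmem
  · omega

theorem no_4434 {G : Type*} [Group G] [Finite G] [IsSimpleGroup G]
    (hG : ¬ IsMulCommutative G) (h : Nat.card G = 4434) : False := by
  exact ev hG (by rw [h]; exact ⟨2217, by norm_num⟩) (by rw [h]; omega)

theorem no_4435 {G : Type*} [Group G] [Finite G] [IsSimpleGroup G]
    (hG : ¬ IsMulCommutative G) (h : Nat.card G = 4435) : False := by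
  exact tp hG 5 887 1 1 (by norm_num) (by norm_num) (by rw [h]; norm_num)

theorem no_4436 {G : Type*} [Group G] [Finite G] [IsSimpleGroup G]
    (hG : ¬ IsMulCommutative G) (h : Nat.card G = 4436) : False := by
  exact tp hG 2 1109 2 1 (by norm_num) (by norm_num) (by rw [h]; norm_num)

theorem no_4437 {G : Type*} [Group G] [Finite G] [IsSimpleGroup G]
    (hG : ¬ IsMulCommutative G) (h : Nat.card G = 4437) : False := by
  have : Fact (Nat.Prime 29) := ⟨by norm_num⟩
  have hc : Nat.card G = 29 ^ 1 * 153 := by rw [h]; norm_num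
  have hm : ¬ 29 ∣ 153 := by norm_num
  have hmem := card_sylow_mem_candidates hc hm
  have hcand : sylowCandidates 29 153 = [1] := by decide
  rw [hcand] at hmem
  simp only [List.mem_cons, List.not_mem_nil, or_false] at hmem
  have hlt := one_lt_card_sylow_of_card hc hm (by norm_num) (by norm_num)
  have hd := hmem
  · omega

theorem no_4438 {G : Type*} [Group G] [Finite G] [IsSimpleGroup G]
    (hG : ¬ IsMulCommutative G) (h : Nat.card G = 4438) : False := by
  exact ev hG (by rw [h]; exact ⟨2219, by norm_num⟩) (by rw [h]; omega)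

theorem no_4439 {G : Type*} [Group G] [Finite G] [IsSimpleGroup G]
    (hG : ¬ IsMulCommutative G) (h : Nat.card G = 4439) : False := by
  exact tp hG 23 193 1 1 (by norm_num) (by norm_num) (by rw [h]; norm_num)

theorem no_4440 {G : Type*} [Group G] [Finite G] [IsSimpleGroup G]
    (hG : ¬ IsMulCommutative G) (h : Nat.card G = 4440) : False := by
  have : Fact (Nat.Prime 37) := ⟨by norm_num⟩
  have hc : Nat.card G = 37 ^ 1 * 120 := by rw [h]; norm_num
  have hm : ¬ 37 ∣ 120 := by norm_num
  have hmem := card_sylow_mem_candidates hc hm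
  have hcand : sylowCandidates 37 120 = [1] := by decide
  rw [hcand] at hmem
  simp only [List.mem_cons, List.not_mem_nil, or_false] at hmem
  have hlt := one_lt_card_sylow_of_card hc hm (by norm_num) (by norm_num)
  have hd := hmem
  · omega

theorem no_4441 {G : Type*} [Group G] [Finite G] [IsSimpleGroup G]
    (hG : ¬ IsMulCommutative G) (h : Nat.card G = 4441) : False := by
  exact tp hG 4441 2 1 0 (by norm_num) (by norm_num) (by rw [h]; norm_num)

theorem no_4442 {G : Type*} [Group G] [Finite G] [IsSimpleGroup G]
    (hG : ¬ IsMulCommutative G) (h : Nat.card G = 4442) : False := by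
  exact tp hG 2 2221 1 1 (by norm_num) (by norm_num) (by rw [h]; norm_num)

theorem no_4443 {G : Type*} [Group G] [Finite G] [IsSimpleGroup G]
    (hG : ¬ IsMulCommutative G) (h : Nat.card G = 4443) : False := by
  exact tp hG 3 1481 1 1 (by norm_num) (by norm_num) (by rw [h]; norm_num)

theorem no_4444 {G : Type*} [Group G] [Finite G] [IsSimpleGroup G]
    (hG : ¬ IsMulCommutative G) (h : Nat.card G = 4444) : False := by
  exact ev hG (by rw [h]; exact ⟨2222, by norm_num⟩) (by rw [h]; omega)

theorem no_4445 {G : Type*} [Group G] [Finite G] [IsSimpleGroup G]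
    (hG : ¬ IsMulCommutative G) (h : Nat.card G = 4445) : False := by
  have : Fact (Nat.Prime 127) := ⟨by norm_num⟩
  have hc : Nat.card G = 127 ^ 1 * 35 := by rw [h]; norm_num
  have hm : ¬ 127 ∣ 35 := by norm_num
  have hmem := card_sylow_mem_candidates hc hm
  have hcand : sylowCandidates 127 35 = [1] := by decide
  rw [hcand] at hmem
  simp only [List.mem_cons, List.not_mem_nil, or_false] at hmem
  have hlt := one_lt_card_sylow_of_card hc hm (by norm_num) (by norm_num)
  have hd := hmem
  · omega

theorem no_4446 {G : Type*} [Group G] [Finite G] [IsSimpleGroup G]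
    (hG : ¬ IsMulCommutative G) (h : Nat.card G = 4446) : False := by
  exact ev hG (by rw [h]; exact ⟨2223, by norm_num⟩) (by rw [h]; omega)

theorem no_4447 {G : Type*} [Group G] [Finite G] [IsSimpleGroup G]
    (hG : ¬ IsMulCommutative G) (h : Nat.card G = 4447) : False := by
  exact tp hG 4447 2 1 0 (by norm_num) (by norm_num) (by rw [h]; norm_num)

theorem no_4448 {G : Type*} [Group G] [Finite G] [IsSimpleGroup G]
    (hG : ¬ IsMulCommutative G) (h : Nat.card G = 4448) : False := by
  exact tp hG 2 139 5 1 (by norm_num) (by norm_num) (by rw [h]; norm_num)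

theorem no_4449 {G : Type*} [Group G] [Finite G] [IsSimpleGroup G]
    (hG : ¬ IsMulCommutative G) (h : Nat.card G = 4449) : False := by
  exact tp hG 3 1483 1 1 (by norm_num) (by norm_num) (by rw [h]; norm_num)

theorem no_4450 {G : Type*} [Group G] [Finite G] [IsSimpleGroup G]
    (hG : ¬ IsMulCommutative G) (h : Nat.card G = 4450) : False := by
  exact ev hG (by rw [h]; exact ⟨2225, by norm_num⟩) (by rw [h]; omega)

theorem no_4451 {G : Type*} [Group G] [Finite G] [IsSimpleGroup G]
    (hG : ¬ IsMulCommutative G) (h : Nat.card G = 4451) : False := by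
  exact tp hG 4451 2 1 0 (by norm_num) (by norm_num) (by rw [h]; norm_num)

theorem no_4452 {G : Type*} [Group G] [Finite G] [IsSimpleGroup G]
    (hG : ¬ IsMulCommutative G) (h : Nat.card G = 4452) : False := by
  have : Fact (Nat.Prime 53) := ⟨by norm_num⟩
  have hc : Nat.card G = 53 ^ 1 * 84 := by rw [h]; norm_num
  have hm : ¬ 53 ∣ 84 := by norm_num
  have hmem := card_sylow_mem_candidates hc hm
  have hcand : sylowCandidates 53 84 = [1] := by decide
  rw [hcand] at hmem
  simp only [List.mem_cons, List.not_mem_nil, or_false] at hmem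
  have hlt := one_lt_card_sylow_of_card hc hm (by norm_num) (by norm_num)
  have hd := hmem
  · omega

theorem no_4453 {G : Type*} [Group G] [Finite G] [IsSimpleGroup G]
    (hG : ¬ IsMulCommutative G) (h : Nat.card G = 4453) : False := by
  exact tp hG 61 73 1 1 (by norm_num) (by norm_num) (by rw [h]; norm_num)

theorem no_4454 {G : Type*} [Group G] [Finite G] [IsSimpleGroup G]
    (hG : ¬ IsMulCommutative G) (h : Nat.card G = 4454) : False := by
  exact ev hG (by rw [h]; exact ⟨2227, by norm_num⟩) (by rw [h]; omega)

theorem no_4455 {G : Type*} [Group G] [Finite G] [IsSimpleGroup G]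
    (hG : ¬ IsMulCommutative G) (h : Nat.card G = 4455) : False := by
  have : Fact (Nat.Prime 11) := ⟨by norm_num⟩
  have hc : Nat.card G = 11 ^ 1 * 405 := by rw [h]; norm_num
  have hm : ¬ 11 ∣ 405 := by norm_num
  have hmem := card_sylow_mem_candidates hc hm
  have hcand : sylowCandidates 11 405 = [1, 45] := by decide
  rw [hcand] at hmem
  simp only [List.mem_cons, List.not_mem_nil, or_false] at hmem
  have hlt := one_lt_card_sylow_of_card hc hm (by norm_num) (by norm_num)
  rcases hmem with hd | hd
  · omega
  · exact burn_kill hc hm (by norm_num) 45 hd (by decide)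

theorem no_4456 {G : Type*} [Group G] [Finite G] [IsSimpleGroup G]
    (hG : ¬ IsMulCommutative G) (h : Nat.card G = 4456) : False := by
  exact tp hG 2 557 3 1 (by norm_num) (by norm_num) (by rw [h]; norm_num)

theorem no_4457 {G : Type*} [Group G] [Finite G] [IsSimpleGroup G]
    (hG : ¬ IsMulCommutative G) (h : Nat.card G = 4457) : False := by
  exact tp hG 4457 2 1 0 (by norm_num) (by norm_num) (by rw [h]; norm_num)

theorem no_4458 {G : Type*} [Group G] [Finite G] [IsSimpleGroup G]
    (hG : ¬ IsMulCommutative G) (h : Nat.card G = 4458) : False := by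
  exact ev hG (by rw [h]; exact ⟨2229, by norm_num⟩) (by rw [h]; omega)

theorem no_4459 {G : Type*} [Group G] [Finite G] [IsSimpleGroup G]
    (hG : ¬ IsMulCommutative G) (h : Nat.card G = 4459) : False := by
  exact tp hG 7 13 3 1 (by norm_num) (by norm_num) (by rw [h]; norm_num)

theorem no_4460 {G : Type*} [Group G] [Finite G] [IsSimpleGroup G]
    (hG : ¬ IsMulCommutative G) (h : Nat.card G = 4460) : False := by
  exact ev hG (by rw [h]; exact ⟨2230, by norm_num⟩) (by rw [h]; omega)

theorem no_4461 {G : Type*} [Group G] [Finite G] [IsSimpleGroup G]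
    (hG : ¬ IsMulCommutative G) (h : Nat.card G = 4461) : False := by
  exact tp hG 3 1487 1 1 (by norm_num) (by norm_num) (by rw [h]; norm_num)

theorem no_4462 {G : Type*} [Group G] [Finite G] [IsSimpleGroup G]
    (hG : ¬ IsMulCommutative G) (h : Nat.card G = 4462) : False := by
  exact ev hG (by rw [h]; exact ⟨2231, by norm_num⟩) (by rw [h]; omega)

theorem no_4463 {G : Type*} [Group G] [Finite G] [IsSimpleGroup G]
    (hG : ¬ IsMulCommutative G) (h : Nat.card G = 4463) : False := by
  exact tp hG 4463 2 1 0 (by norm_num) (by norm_num) (by rw [h]; norm_num)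

theorem no_4464 {G : Type*} [Group G] [Finite G] [IsSimpleGroup G]
    (hG : ¬ IsMulCommutative G) (h : Nat.card G = 4464) : False := by
  have : Fact (Nat.Prime 31) := ⟨by norm_num⟩
  have hc : Nat.card G = 31 ^ 1 * 144 := by rw [h]; norm_num
  have hm : ¬ 31 ∣ 144 := by norm_num
  have hmem := card_sylow_mem_candidates hc hm
  have hcand : sylowCandidates 31 144 = [1] := by decide
  rw [hcand] at hmem
  simp only [List.mem_cons, List.not_mem_nil, or_false] at hmem
  have hlt := one_lt_card_sylow_of_card hc hm (by norm_num) (by norm_num)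
  have hd := hmem
  · omega

theorem no_4465 {G : Type*} [Group G] [Finite G] [IsSimpleGroup G]
    (hG : ¬ IsMulCommutative G) (h : Nat.card G = 4465) : False := by
  have : Fact (Nat.Prime 47) := ⟨by norm_num⟩
  have hc : Nat.card G = 47 ^ 1 * 95 := by rw [h]; norm_num
  have hm : ¬ 47 ∣ 95 := by norm_num
  have hmem := card_sylow_mem_candidates hc hm
  have hcand : sylowCandidates 47 95 = [1, 95] := by decide
  rw [hcand] at hmem
  simp only [List.mem_cons, List.not_mem_nil, or_false] at hmem
  have hlt := one_lt_card_sylow_of_card hc hm (by norm_num) (by norm_num)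
  rcases hmem with hd | hd
  · omega
  · exact burn_kill hc hm (by norm_num) 95 hd (by decide)

theorem no_4466 {G : Type*} [Group G] [Finite G] [IsSimpleGroup G]
    (hG : ¬ IsMulCommutative G) (h : Nat.card G = 4466) : False := by
  exact ev hG (by rw [h]; exact ⟨2233, by norm_num⟩) (by rw [h]; omega)

theorem no_4467 {G : Type*} [Group G] [Finite G] [IsSimpleGroup G]
    (hG : ¬ IsMulCommutative G) (h : Nat.card G = 4467) : False := by
  exact tp hG 3 1489 1 1 (by norm_num) (by norm_num) (by rw [h]; norm_num)

theorem no_4468 {G : Type*} [Group G] [Finite G] [IsSimpleGroup G]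
    (hG : ¬ IsMulCommutative G) (h : Nat.card G = 4468) : False := by
  exact tp hG 2 1117 2 1 (by norm_num) (by norm_num) (by rw [h]; norm_num)

theorem no_4469 {G : Type*} [Group G] [Finite G] [IsSimpleGroup G]
    (hG : ¬ IsMulCommutative G) (h : Nat.card G = 4469) : False := by
  exact tp hG 41 109 1 1 (by norm_num) (by norm_num) (by rw [h]; norm_num)

theorem no_4470 {G : Type*} [Group G] [Finite G] [IsSimpleGroup G]
    (hG : ¬ IsMulCommutative G) (h : Nat.card G = 4470) : False := by
  exact ev hG (by rw [h]; exact ⟨2235, by norm_num⟩) (by rw [h]; omega)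

theorem no_4471 {G : Type*} [Group G] [Finite G] [IsSimpleGroup G]
    (hG : ¬ IsMulCommutative G) (h : Nat.card G = 4471) : False := by
  exact tp hG 17 263 1 1 (by norm_num) (by norm_num) (by rw [h]; norm_num)

theorem no_4472 {G : Type*} [Group G] [Finite G] [IsSimpleGroup G]
    (hG : ¬ IsMulCommutative G) (h : Nat.card G = 4472) : False := by
  exact ev hG (by rw [h]; exact ⟨2236, by norm_num⟩) (by rw [h]; omega)

theorem no_4473 {G : Type*} [Group G] [Finite G] [IsSimpleGroup G]
    (hG : ¬ IsMulCommutative G) (h : Nat.card G = 4473) : False := by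
  have : Fact (Nat.Prime 71) := ⟨by norm_num⟩
  have hc : Nat.card G = 71 ^ 1 * 63 := by rw [h]; norm_num
  have hm : ¬ 71 ∣ 63 := by norm_num
  have hmem := card_sylow_mem_candidates hc hm
  have hcand : sylowCandidates 71 63 = [1] := by decide
  rw [hcand] at hmem
  simp only [List.mem_cons, List.not_mem_nil, or_false] at hmem
  have hlt := one_lt_card_sylow_of_card hc hm (by norm_num) (by norm_num)
  have hd := hmem
  · omega

theorem no_4474 {G : Type*} [Group G] [Finite G] [IsSimpleGroup G]
    (hG : ¬ IsMulCommutative G) (h : Nat.card G = 4474) : False := by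
  exact tp hG 2 2237 1 1 (by norm_num) (by norm_num) (by rw [h]; norm_num)

theorem no_4475 {G : Type*} [Group G] [Finite G] [IsSimpleGroup G]
    (hG : ¬ IsMulCommutative G) (h : Nat.card G = 4475) : False := by
  exact tp hG 5 179 2 1 (by norm_num) (by norm_num) (by rw [h]; norm_num)

theorem no_4476 {G : Type*} [Group G] [Finite G] [IsSimpleGroup G]
    (hG : ¬ IsMulCommutative G) (h : Nat.card G = 4476) : False := by
  have : Fact (Nat.Prime 373) := ⟨by norm_num⟩
  have hc : Nat.card G = 373 ^ 1 * 12 := by rw [h]; norm_num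
  have hm : ¬ 373 ∣ 12 := by norm_num
  have hmem := card_sylow_mem_candidates hc hm
  have hcand : sylowCandidates 373 12 = [1] := by decide
  rw [hcand] at hmem
  simp only [List.mem_cons, List.not_mem_nil, or_false] at hmem
  have hlt := one_lt_card_sylow_of_card hc hm (by norm_num) (by norm_num)
  have hd := hmem
  · omega

theorem no_4477 {G : Type*} [Group G] [Finite G] [IsSimpleGroup G]
    (hG : ¬ IsMulCommutative G) (h : Nat.card G = 4477) : False := by
  exact tp hG 11 37 2 1 (by norm_num) (by norm_num) (by rw [h]; norm_num)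

theorem no_4478 {G : Type*} [Group G] [Finite G] [IsSimpleGroup G]
    (hG : ¬ IsMulCommutative G) (h : Nat.card G = 4478) : False := by
  exact tp hG 2 2239 1 1 (by norm_num) (by norm_num) (by rw [h]; norm_num)

theorem no_4479 {G : Type*} [Group G] [Finite G] [IsSimpleGroup G]
    (hG : ¬ IsMulCommutative G) (h : Nat.card G = 4479) : False := by
  exact tp hG 3 1493 1 1 (by norm_num) (by norm_num) (by rw [h]; norm_num)

theorem no_4481 {G : Type*} [Group G] [Finite G] [IsSimpleGroup G]
    (hG : ¬ IsMulCommutative G) (h : Nat.card G = 4481) : False := by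
  exact tp hG 4481 2 1 0 (by norm_num) (by norm_num) (by rw [h]; norm_num)

theorem no_4482 {G : Type*} [Group G] [Finite G] [IsSimpleGroup G]
    (hG : ¬ IsMulCommutative G) (h : Nat.card G = 4482) : False := by
  exact ev hG (by rw [h]; exact ⟨2241, by norm_num⟩) (by rw [h]; omega)

theorem no_4483 {G : Type*} [Group G] [Finite G] [IsSimpleGroup G]
    (hG : ¬ IsMulCommutative G) (h : Nat.card G = 4483) : False := by
  exact tp hG 4483 2 1 0 (by norm_num) (by norm_num) (by rw [h]; norm_num)

theorem no_4484 {G : Type*} [Group G] [Finite G] [IsSimpleGroup G]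
    (hG : ¬ IsMulCommutative G) (h : Nat.card G = 4484) : False := by
  exact ev hG (by rw [h]; exact ⟨2242, by norm_num⟩) (by rw [h]; omega)

theorem no_4485 {G : Type*} [Group G] [Finite G] [IsSimpleGroup G]
    (hG : ¬ IsMulCommutative G) (h : Nat.card G = 4485) : False := by
  have : Fact (Nat.Prime 23) := ⟨by norm_num⟩
  have hc : Nat.card G = 23 ^ 1 * 195 := by rw [h]; norm_num
  have hm : ¬ 23 ∣ 195 := by norm_num
  have hmem := card_sylow_mem_candidates hc hm
  have hcand : sylowCandidates 23 195 = [1] := by decide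
  rw [hcand] at hmem
  simp only [List.mem_cons, List.not_mem_nil, or_false] at hmem
  have hlt := one_lt_card_sylow_of_card hc hm (by norm_num) (by norm_num)
  have hd := hmem
  · omega

theorem no_4486 {G : Type*} [Group G] [Finite G] [IsSimpleGroup G]
    (hG : ¬ IsMulCommutative G) (h : Nat.card G = 4486) : False := by
  exact tp hG 2 2243 1 1 (by norm_num) (by norm_num) (by rw [h]; norm_num)

theorem no_4487 {G : Type*} [Group G] [Finite G] [IsSimpleGroup G]
    (hG : ¬ IsMulCommutative G) (h : Nat.card G = 4487) : False := by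
  exact tp hG 7 641 1 1 (by norm_num) (by norm_num) (by rw [h]; norm_num)

theorem no_4488 {G : Type*} [Group G] [Finite G] [IsSimpleGroup G]
    (hG : ¬ IsMulCommutative G) (h : Nat.card G = 4488) : False := by
  have : Fact (Nat.Prime 17) := ⟨by norm_num⟩
  have hc : Nat.card G = 17 ^ 1 * 264 := by rw [h]; norm_num
  have hm : ¬ 17 ∣ 264 := by norm_num
  have hmem := card_sylow_mem_candidates hc hm
  have hcand : sylowCandidates 17 264 = [1] := by decide
  rw [hcand] at hmem
  simp only [List.mem_cons, List.not_mem_nil, or_false] at hmem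
  have hlt := one_lt_card_sylow_of_card hc hm (by norm_num) (by norm_num)
  have hd := hmem
  · omega

theorem no_4489 {G : Type*} [Group G] [Finite G] [IsSimpleGroup G]
    (hG : ¬ IsMulCommutative G) (h : Nat.card G = 4489) : False := by
  exact tp hG 67 2 2 0 (by norm_num) (by norm_num) (by rw [h]; norm_num)

theorem no_4490 {G : Type*} [Group G] [Finite G] [IsSimpleGroup G]
    (hG : ¬ IsMulCommutative G) (h : Nat.card G = 4490) : False := by
  exact ev hG (by rw [h]; exact ⟨2245, by norm_num⟩) (by rw [h]; omega)

theorem no_4491 {G : Type*} [Group G] [Finite G] [IsSimpleGroup G]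
    (hG : ¬ IsMulCommutative G) (h : Nat.card G = 4491) : False := by
  exact tp hG 3 499 2 1 (by norm_num) (by norm_num) (by rw [h]; norm_num)

theorem no_4492 {G : Type*} [Group G] [Finite G] [IsSimpleGroup G]
    (hG : ¬ IsMulCommutative G) (h : Nat.card G = 4492) : False := by
  exact tp hG 2 1123 2 1 (by norm_num) (by norm_num) (by rw [h]; norm_num)

theorem no_4493 {G : Type*} [Group G] [Finite G] [IsSimpleGroup G]
    (hG : ¬ IsMulCommutative G) (h : Nat.card G = 4493) : False := by
  exact tp hG 4493 2 1 0 (by norm_num) (by norm_num) (by rw [h]; norm_num)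

theorem no_4494 {G : Type*} [Group G] [Finite G] [IsSimpleGroup G]
    (hG : ¬ IsMulCommutative G) (h : Nat.card G = 4494) : False := by
  exact ev hG (by rw [h]; exact ⟨2247, by norm_num⟩) (by rw [h]; omega)

theorem no_4495 {G : Type*} [Group G] [Finite G] [IsSimpleGroup G]
    (hG : ¬ IsMulCommutative G) (h : Nat.card G = 4495) : False := by
  have : Fact (Nat.Prime 31) := ⟨by norm_num⟩
  have hc : Nat.card G = 31 ^ 1 * 145 := by rw [h]; norm_num
  have hm : ¬ 31 ∣ 145 := by norm_num
  have hmem := card_sylow_mem_candidates hc hm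
  have hcand : sylowCandidates 31 145 = [1] := by decide
  rw [hcand] at hmem
  simp only [List.mem_cons, List.not_mem_nil, or_false] at hmem
  have hlt := one_lt_card_sylow_of_card hc hm (by norm_num) (by norm_num)
  have hd := hmem
  · omega

theorem no_4496 {G : Type*} [Group G] [Finite G] [IsSimpleGroup G]
    (hG : ¬ IsMulCommutative G) (h : Nat.card G = 4496) : False := by
  exact tp hG 2 281 4 1 (by norm_num) (by norm_num) (by rw [h]; norm_num)

theorem no_4497 {G : Type*} [Group G] [Finite G] [IsSimpleGroup G]
    (hG : ¬ IsMulCommutative G) (h : Nat.card G = 4497) : False := by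
  exact tp hG 3 1499 1 1 (by norm_num) (by norm_num) (by rw [h]; norm_num)

theorem no_4498 {G : Type*} [Group G] [Finite G] [IsSimpleGroup G]
    (hG : ¬ IsMulCommutative G) (h : Nat.card G = 4498) : False := by
  exact ev hG (by rw [h]; exact ⟨2249, by norm_num⟩) (by rw [h]; omega)

theorem no_4499 {G : Type*} [Group G] [Finite G] [IsSimpleGroup G]
    (hG : ¬ IsMulCommutative G) (h : Nat.card G = 4499) : False := by
  exact tp hG 11 409 1 1 (by norm_num) (by norm_num) (by rw [h]; norm_num)

/-- the orders in [4401, 4500] not excluded by the engine -/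
theorem chunk {G : Type*} [Group G] [Finite G] [IsSimpleGroup G]
    (hG : ¬ IsMulCommutative G) (n : ℕ) (hn : Nat.card G = n) (h1 : 4401 ≤ n) (h2 : n ≤ 4500) :
    n = 4480 ∨ n = 4500 := by
  interval_cases n
  · exact (no_4401 hG hn).elim
  · exact (no_4402 hG hn).elim
  · exact (no_4403 hG hn).elim
  · exact (no_4404 hG hn).elim
  · exact (no_4405 hG hn).elim
  · exact (no_4406 hG hn).elim
  · exact (no_4407 hG hn).elim
  · exact (no_4408 hG hn).elim
  · exact (no_4409 hG hn).elim
  · exact (no_4410 hG hn).elim
  · exact (no_4411 hG hn).elim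
  · exact (no_4412 hG hn).elim
  · exact (no_4413 hG hn).elim
  · exact (no_4414 hG hn).elim
  · exact (no_4415 hG hn).elim
  · exact (no_4416 hG hn).elim
  · exact (no_4417 hG hn).elim
  · exact (no_4418 hG hn).elim
  · exact (no_4419 hG hn).elim
  · exact (no_4420 hG hn).elim
  · exact (no_4421 hG hn).elim
  · exact (no_4422 hG hn).elim
  · exact (no_4423 hG hn).elim
  · exact (no_4424 hG hn).elim
  · exact (no_4425 hG hn).elim
  · exact (no_4426 hG hn).elim
  · exact (no_4427 hG hn).elim
  · exact (no_4428 hG hn).elim
  · exact (no_4429 hG hn).elim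
  · exact (no_4430 hG hn).elim
  · exact (no_4431 hG hn).elim
  · exact (no_4432 hG hn).elim
  · exact (no_4433 hG hn).elim
  · exact (no_4434 hG hn).elim
  · exact (no_4435 hG hn).elim
  · exact (no_4436 hG hn).elim
  · exact (no_4437 hG hn).elim
  · exact (no_4438 hG hn).elim
  · exact (no_4439 hG hn).elim
  · exact (no_4440 hG hn).elim
  · exact (no_4441 hG hn).elim
  · exact (no_4442 hG hn).elim
  · exact (no_4443 hG hn).elim
  · exact (no_4444 hG hn).elim
  · exact (no_4445 hG hn).elim
  · exact (no_4446 hG hn).elim
  · exact (no_4447 hG hn).elim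
  · exact (no_4448 hG hn).elim
  · exact (no_4449 hG hn).elim
  · exact (no_4450 hG hn).elim
  · exact (no_4451 hG hn).elim
  · exact (no_4452 hG hn).elim
  · exact (no_4453 hG hn).elim
  · exact (no_4454 hG hn).elim
  · exact (no_4455 hG hn).elim
  · exact (no_4456 hG hn).elim
  · exact (no_4457 hG hn).elim
  · exact (no_4458 hG hn).elim
  · exact (no_4459 hG hn).elim
  · exact (no_4460 hG hn).elim
  · exact (no_4461 hG hn).elim
  · exact (no_4462 hG hn).elim
  · exact (no_4463 hG hn).elim
  · exact (no_4464 hG hn).elim
  · exact (no_4465 hG hn).elim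
  · exact (no_4466 hG hn).elim
  · exact (no_4467 hG hn).elim
  · exact (no_4468 hG hn).elim
  · exact (no_4469 hG hn).elim
  · exact (no_4470 hG hn).elim
  · exact (no_4471 hG hn).elim
  · exact (no_4472 hG hn).elim
  · exact (no_4473 hG hn).elim
  · exact (no_4474 hG hn).elim
  · exact (no_4475 hG hn).elim
  · exact (no_4476 hG hn).elim
  · exact (no_4477 hG hn).elim
  · exact (no_4478 hG hn).elim
  · exact (no_4479 hG hn).elim
  · simp
  · exact (no_4481 hG hn).elim
  · exact (no_4482 hG hn).elim
  · exact (no_4483 hG hn).elim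
  · exact (no_4484 hG hn).elim
  · exact (no_4485 hG hn).elim
  · exact (no_4486 hG hn).elim
  · exact (no_4487 hG hn).elim
  · exact (no_4488 hG hn).elim
  · exact (no_4489 hG hn).elim
  · exact (no_4490 hG hn).elim
  · exact (no_4491 hG hn).elim
  · exact (no_4492 hG hn).elim
  · exact (no_4493 hG hn).elim
  · exact (no_4494 hG hn).elim
  · exact (no_4495 hG hn).elim
  · exact (no_4496 hG hn).elim
  · exact (no_4497 hG hn).elim
  · exact (no_4498 hG hn).elim
  · exact (no_4499 hG hn).elim
  · simp

end Cfsg.Agent.Lib.Helper16_SO_E08
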