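import Mathlib
import Cfsg.Agent.Lib.Helper75_SM_Base

/-!
# S0983 engine, generated file: no simple group of order N for the easy N in [4501, 4600]
(helper16; same scheme as helper75's `Helper75_SM_E*`)
-/

set_option autoImplicit false
set_option linter.unusedVariables false

namespace Cfsg.Agent.Lib.Helper16_SO_E09

open Cfsg.Agent.Lib.Helper17_Sylow Cfsg.Agent.Lib.Helper75_SM_Base

theorem no_4501 {G : Type*} [Group G] [Finite G] [IsSimpleGroup G]
    (hG : ¬ IsMulCommutative G) (h : Nat.card G = 4501) : False := by
  exact tp hG 7 643 1 1 (by norm_num) (by norm_num) (by rw [h]; norm_num)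

theorem no_4502 {G : Type*} [Group G] [Finite G] [IsSimpleGroup G]
    (hG : ¬ IsMulCommutative G) (h : Nat.card G = 4502) : False := by
  exact tp hG 2 2251 1 1 (by norm_num) (by norm_num) (by rw [h]; norm_num)

theorem no_4503 {G : Type*} [Group G] [Finite G] [IsSimpleGroup G]
    (hG : ¬ IsMulCommutative G) (h : Nat.card G = 4503) : False := by
  have : Fact (Nat.Prime 79) := ⟨by norm_num⟩
  have hc : Nat.card G = 79 ^ 1 * 57 := by rw [h]; norm_num
  have hm : ¬ 79 ∣ 57 := by norm_num
  have hmem := card_sylow_mem_candidates hc hm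
  have hcand : sylowCandidates 79 57 = [1] := by decide
  rw [hcand] at hmem
  simp only [List.mem_cons, List.not_mem_nil, or_false] at hmem
  have hlt := one_lt_card_sylow_of_card hc hm (by norm_num) (by norm_num)
  have hd := hmem
  · omega

theorem no_4504 {G : Type*} [Group G] [Finite G] [IsSimpleGroup G]
    (hG : ¬ IsMulCommutative G) (h : Nat.card G = 4504) : False := by
  exact tp hG 2 563 3 1 (by norm_num) (by norm_num) (by rw [h]; norm_num)

theorem no_4505 {G : Type*} [Group G] [Finite G] [IsSimpleGroup G]
    (hG : ¬ IsMulCommutative G) (h : Nat.card G = 4505) : False := by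
  have : Fact (Nat.Prime 53) := ⟨by norm_num⟩
  have hc : Nat.card G = 53 ^ 1 * 85 := by rw [h]; norm_num
  have hm : ¬ 53 ∣ 85 := by norm_num
  have hmem := card_sylow_mem_candidates hc hm
  have hcand : sylowCandidates 53 85 = [1] := by decide
  rw [hcand] at hmem
  simp only [List.mem_cons, List.not_mem_nil, or_false] at hmem
  have hlt := one_lt_card_sylow_of_card hc hm (by norm_num) (by norm_num)
  have hd := hmem
  · omega

theorem no_4506 {G : Type*} [Group G] [Finite G] [IsSimpleGroup G]
    (hG : ¬ IsMulCommutative G) (h : Nat.card G = 4506) : False := by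
  exact ev hG (by rw [h]; exact ⟨2253, by norm_num⟩) (by rw [h]; omega)

theorem no_4507 {G : Type*} [Group G] [Finite G] [IsSimpleGroup G]
    (hG : ¬ IsMulCommutative G) (h : Nat.card G = 4507) : False := by
  exact tp hG 4507 2 1 0 (by norm_num) (by norm_num) (by rw [h]; norm_num)

theorem no_4508 {G : Type*} [Group G] [Finite G] [IsSimpleGroup G]
    (hG : ¬ IsMulCommutative G) (h : Nat.card G = 4508) : False := by
  exact ev hG (by rw [h]; exact ⟨2254, by norm_num⟩) (by rw [h]; omega)

theorem no_4509 {G : Type*} [Group G] [Finite G] [IsSimpleGroup G]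
    (hG : ¬ IsMulCommutative G) (h : Nat.card G = 4509) : False := by
  exact tp hG 3 167 3 1 (by norm_num) (by norm_num) (by rw [h]; norm_num)

theorem no_4510 {G : Type*} [Group G] [Finite G] [IsSimpleGroup G]
    (hG : ¬ IsMulCommutative G) (h : Nat.card G = 4510) : False := by
  exact ev hG (by rw [h]; exact ⟨2255, by norm_num⟩) (by rw [h]; omega)

theorem no_4511 {G : Type*} [Group G] [Finite G] [IsSimpleGroup G]
    (hG : ¬ IsMulCommutative G) (h : Nat.card G = 4511) : False := by
  exact tp hG 13 347 1 1 (by norm_num) (by norm_num) (by rw [h]; norm_num)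

theorem no_4512 {G : Type*} [Group G] [Finite G] [IsSimpleGroup G]
    (hG : ¬ IsMulCommutative G) (h : Nat.card G = 4512) : False := by
  have : Fact (Nat.Prime 47) := ⟨by norm_num⟩
  have hc : Nat.card G = 47 ^ 1 * 96 := by rw [h]; norm_num
  have hm : ¬ 47 ∣ 96 := by norm_num
  have hmem := card_sylow_mem_candidates hc hm
  have hcand : sylowCandidates 47 96 = [1, 48] := by decide
  rw [hcand] at hmem
  simp only [List.mem_cons, List.not_mem_nil, or_false] at hmem
  have hlt := one_lt_card_sylow_of_card hc hm (by norm_num) (by norm_num)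
  rcases hmem with hd | hd
  · omega
  · exact perm_kill hG (by norm_num) hc hm hd 94 (by omega) (by decide)

theorem no_4513 {G : Type*} [Group G] [Finite G] [IsSimpleGroup G]
    (hG : ¬ IsMulCommutative G) (h : Nat.card G = 4513) : False := by
  exact tp hG 4513 2 1 0 (by norm_num) (by norm_num) (by rw [h]; norm_num)

theorem no_4514 {G : Type*} [Group G] [Finite G] [IsSimpleGroup G]
    (hG : ¬ IsMulCommutative G) (h : Nat.card G = 4514) : False := by
  exact ev hG (by rw [h]; exact ⟨2257, by norm_num⟩) (by rw [h]; omega)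

theorem no_4515 {G : Type*} [Group G] [Finite G] [IsSimpleGroup G]
    (hG : ¬ IsMulCommutative G) (h : Nat.card G = 4515) : False := by
  have : Fact (Nat.Prime 43) := ⟨by norm_num⟩
  have hc : Nat.card G = 43 ^ 1 * 105 := by rw [h]; norm_num
  have hm : ¬ 43 ∣ 105 := by norm_num
  have hmem := card_sylow_mem_candidates hc hm
  have hcand : sylowCandidates 43 105 = [1] := by decide
  rw [hcand] at hmem
  simp only [List.mem_cons, List.not_mem_nil, or_false] at hmem
  have hlt := one_lt_card_sylow_of_card hc hm (by norm_num) (by norm_num)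
  have hd := hmem
  · omega

theorem no_4516 {G : Type*} [Group G] [Finite G] [IsSimpleGroup G]
    (hG : ¬ IsMulCommutative G) (h : Nat.card G = 4516) : False := by
  exact tp hG 2 1129 2 1 (by norm_num) (by norm_num) (by rw [h]; norm_num)

theorem no_4517 {G : Type*} [Group G] [Finite G] [IsSimpleGroup G]
    (hG : ¬ IsMulCommutative G) (h : Nat.card G = 4517) : False := by
  exact tp hG 4517 2 1 0 (by norm_num) (by norm_num) (by rw [h]; norm_num)

theorem no_4518 {G : Type*} [Group G] [Finite G] [IsSimpleGroup G]
    (hG : ¬ IsMulCommutative G) (h : Nat.card G = 4518) : False := by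
  exact ev hG (by rw [h]; exact ⟨2259, by norm_num⟩) (by rw [h]; omega)

theorem no_4519 {G : Type*} [Group G] [Finite G] [IsSimpleGroup G]
    (hG : ¬ IsMulCommutative G) (h : Nat.card G = 4519) : False := by
  exact tp hG 4519 2 1 0 (by norm_num) (by norm_num) (by rw [h]; norm_num)

theorem no_4520 {G : Type*} [Group G] [Finite G] [IsSimpleGroup G]
    (hG : ¬ IsMulCommutative G) (h : Nat.card G = 4520) : False := by
  exact ev hG (by rw [h]; exact ⟨2260, by norm_num⟩) (by rw [h]; omega)

theorem no_4521 {G : Type*} [Group G] [Finite G] [IsSimpleGroup G]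
    (hG : ¬ IsMulCommutative G) (h : Nat.card G = 4521) : False := by
  have : Fact (Nat.Prime 137) := ⟨by norm_num⟩
  have hc : Nat.card G = 137 ^ 1 * 33 := by rw [h]; norm_num
  have hm : ¬ 137 ∣ 33 := by norm_num
  have hmem := card_sylow_mem_candidates hc hm
  have hcand : sylowCandidates 137 33 = [1] := by decide
  rw [hcand] at hmem
  simp only [List.mem_cons, List.not_mem_nil, or_false] at hmem
  have hlt := one_lt_card_sylow_of_card hc hm (by norm_num) (by norm_num)
  have hd := hmem
  · omega

theorem no_4522 {G : Type*} [Group G] [Finite G] [IsSimpleGroup G]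
    (hG : ¬ IsMulCommutative G) (h : Nat.card G = 4522) : False := by
  exact ev hG (by rw [h]; exact ⟨2261, by norm_num⟩) (by rw [h]; omega)

theorem no_4523 {G : Type*} [Group G] [Finite G] [IsSimpleGroup G]
    (hG : ¬ IsMulCommutative G) (h : Nat.card G = 4523) : False := by
  exact tp hG 4523 2 1 0 (by norm_num) (by norm_num) (by rw [h]; norm_num)

theorem no_4524 {G : Type*} [Group G] [Finite G] [IsSimpleGroup G]
    (hG : ¬ IsMulCommutative G) (h : Nat.card G = 4524) : False := by
  have : Fact (Nat.Prime 29) := ⟨by norm_num⟩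
  have hc : Nat.card G = 29 ^ 1 * 156 := by rw [h]; norm_num
  have hm : ¬ 29 ∣ 156 := by norm_num
  have hmem := card_sylow_mem_candidates hc hm
  have hcand : sylowCandidates 29 156 = [1] := by decide
  rw [hcand] at hmem
  simp only [List.mem_cons, List.not_mem_nil, or_false] at hmem
  have hlt := one_lt_card_sylow_of_card hc hm (by norm_num) (by norm_num)
  have hd := hmem
  · omega

theorem no_4525 {G : Type*} [Group G] [Finite G] [IsSimpleGroup G]
    (hG : ¬ IsMulCommutative G) (h : Nat.card G = 4525) : False := by
  exact tp hG 5 181 2 1 (by norm_num) (by norm_num) (by rw [h]; norm_num)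

theorem no_4526 {G : Type*} [Group G] [Finite G] [IsSimpleGroup G]
    (hG : ¬ IsMulCommutative G) (h : Nat.card G = 4526) : False := by
  exact ev hG (by rw [h]; exact ⟨2263, by norm_num⟩) (by rw [h]; omega)

theorem no_4527 {G : Type*} [Group G] [Finite G] [IsSimpleGroup G]
    (hG : ¬ IsMulCommutative G) (h : Nat.card G = 4527) : False := by
  exact tp hG 3 503 2 1 (by norm_num) (by norm_num) (by rw [h]; norm_num)

theorem no_4528 {G : Type*} [Group G] [Finite G] [IsSimpleGroup G]
    (hG : ¬ IsMulCommutative G) (h : Nat.card G = 4528) : False := by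
  exact tp hG 2 283 4 1 (by norm_num) (by norm_num) (by rw [h]; norm_num)

theorem no_4529 {G : Type*} [Group G] [Finite G] [IsSimpleGroup G]
    (hG : ¬ IsMulCommutative G) (h : Nat.card G = 4529) : False := by
  exact tp hG 7 647 1 1 (by norm_num) (by norm_num) (by rw [h]; norm_num)

theorem no_4530 {G : Type*} [Group G] [Finite G] [IsSimpleGroup G]
    (hG : ¬ IsMulCommutative G) (h : Nat.card G = 4530) : False := by
  exact ev hG (by rw [h]; exact ⟨2265, by norm_num⟩) (by rw [h]; omega)

theorem no_4531 {G : Type*} [Group G] [Finite G] [IsSimpleGroup G]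
    (hG : ¬ IsMulCommutative G) (h : Nat.card G = 4531) : False := by
  exact tp hG 23 197 1 1 (by norm_num) (by norm_num) (by rw [h]; norm_num)

theorem no_4532 {G : Type*} [Group G] [Finite G] [IsSimpleGroup G]
    (hG : ¬ IsMulCommutative G) (h : Nat.card G = 4532) : False := by
  exact ev hG (by rw [h]; exact ⟨2266, by norm_num⟩) (by rw [h]; omega)

theorem no_4533 {G : Type*} [Group G] [Finite G] [IsSimpleGroup G]
    (hG : ¬ IsMulCommutative G) (h : Nat.card G = 4533) : False := by
  exact tp hG 3 1511 1 1 (by norm_num) (by norm_num) (by rw [h]; norm_num)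

theorem no_4534 {G : Type*} [Group G] [Finite G] [IsSimpleGroup G]
    (hG : ¬ IsMulCommutative G) (h : Nat.card G = 4534) : False := by
  exact tp hG 2 2267 1 1 (by norm_num) (by norm_num) (by rw [h]; norm_num)

theorem no_4535 {G : Type*} [Group G] [Finite G] [IsSimpleGroup G]
    (hG : ¬ IsMulCommutative G) (h : Nat.card G = 4535) : False := by
  exact tp hG 5 907 1 1 (by norm_num) (by norm_num) (by rw [h]; norm_num)

theorem no_4537 {G : Type*} [Group G] [Finite G] [IsSimpleGroup G]
    (hG : ¬ IsMulCommutative G) (h : Nat.card G = 4537) : False := by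
  exact tp hG 13 349 1 1 (by norm_num) (by norm_num) (by rw [h]; norm_num)

theorem no_4538 {G : Type*} [Group G] [Finite G] [IsSimpleGroup G]
    (hG : ¬ IsMulCommutative G) (h : Nat.card G = 4538) : False := by
  exact tp hG 2 2269 1 1 (by norm_num) (by norm_num) (by rw [h]; norm_num)

theorem no_4539 {G : Type*} [Group G] [Finite G] [IsSimpleGroup G]
    (hG : ¬ IsMulCommutative G) (h : Nat.card G = 4539) : False := by
  have : Fact (Nat.Prime 89) := ⟨by norm_num⟩
  have hc : Nat.card G = 89 ^ 1 * 51 := by rw [h]; norm_num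
  have hm : ¬ 89 ∣ 51 := by norm_num
  have hmem := card_sylow_mem_candidates hc hm
  have hcand : sylowCandidates 89 51 = [1] := by decide
  rw [hcand] at hmem
  simp only [List.mem_cons, List.not_mem_nil, or_false] at hmem
  have hlt := one_lt_card_sylow_of_card hc hm (by norm_num) (by norm_num)
  have hd := hmem
  · omega

theorem no_4540 {G : Type*} [Group G] [Finite G] [IsSimpleGroup G]
    (hG : ¬ IsMulCommutative G) (h : Nat.card G = 4540) : False := by
  exact ev hG (by rw [h]; exact ⟨2270, by norm_num⟩) (by rw [h]; omega)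

theorem no_4541 {G : Type*} [Group G] [Finite G] [IsSimpleGroup G]
    (hG : ¬ IsMulCommutative G) (h : Nat.card G = 4541) : False := by
  exact tp hG 19 239 1 1 (by norm_num) (by norm_num) (by rw [h]; norm_num)

theorem no_4542 {G : Type*} [Group G] [Finite G] [IsSimpleGroup G]
    (hG : ¬ IsMulCommutative G) (h : Nat.card G = 4542) : False := by
  exact ev hG (by rw [h]; exact ⟨2271, by norm_num⟩) (by rw [h]; omega)

theorem no_4543 {G : Type*} [Group G] [Finite G] [IsSimpleGroup G]
    (hG : ¬ IsMulCommutative G) (h : Nat.card G = 4543) : False := by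
  have : Fact (Nat.Prime 59) := ⟨by norm_num⟩
  have hc : Nat.card G = 59 ^ 1 * 77 := by rw [h]; norm_num
  have hm : ¬ 59 ∣ 77 := by norm_num
  have hmem := card_sylow_mem_candidates hc hm
  have hcand : sylowCandidates 59 77 = [1] := by decide
  rw [hcand] at hmem
  simp only [List.mem_cons, List.not_mem_nil, or_false] at hmem
  have hlt := one_lt_card_sylow_of_card hc hm (by norm_num) (by norm_num)
  have hd := hmem
  · omega

theorem no_4544 {G : Type*} [Group G] [Finite G] [IsSimpleGroup G]
    (hG : ¬ IsMulCommutative G) (h : Nat.card G = 4544) : False := by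
  exact tp hG 2 71 6 1 (by norm_num) (by norm_num) (by rw [h]; norm_num)

theorem no_4545 {G : Type*} [Group G] [Finite G] [IsSimpleGroup G]
    (hG : ¬ IsMulCommutative G) (h : Nat.card G = 4545) : False := by
  have : Fact (Nat.Prime 101) := ⟨by norm_num⟩
  have hc : Nat.card G = 101 ^ 1 * 45 := by rw [h]; norm_num
  have hm : ¬ 101 ∣ 45 := by norm_num
  have hmem := card_sylow_mem_candidates hc hm
  have hcand : sylowCandidates 101 45 = [1] := by decide
  rw [hcand] at hmem
  simp only [List.mem_cons, List.not_mem_nil, or_false] at hmem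
  have hlt := one_lt_card_sylow_of_card hc hm (by norm_num) (by norm_num)
  have hd := hmem
  · omega

theorem no_4546 {G : Type*} [Group G] [Finite G] [IsSimpleGroup G]
    (hG : ¬ IsMulCommutative G) (h : Nat.card G = 4546) : False := by
  exact tp hG 2 2273 1 1 (by norm_num) (by norm_num) (by rw [h]; norm_num)

theorem no_4547 {G : Type*} [Group G] [Finite G] [IsSimpleGroup G]
    (hG : ¬ IsMulCommutative G) (h : Nat.card G = 4547) : False := by
  exact tp hG 4547 2 1 0 (by norm_num) (by norm_num) (by rw [h]; norm_num)

theorem no_4548 {G : Type*} [Group G] [Finite G] [IsSimpleGroup G]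
    (hG : ¬ IsMulCommutative G) (h : Nat.card G = 4548) : False := by
  have : Fact (Nat.Prime 379) := ⟨by norm_num⟩
  have hc : Nat.card G = 379 ^ 1 * 12 := by rw [h]; norm_num
  have hm : ¬ 379 ∣ 12 := by norm_num
  have hmem := card_sylow_mem_candidates hc hm
  have hcand : sylowCandidates 379 12 = [1] := by decide
  rw [hcand] at hmem
  simp only [List.mem_cons, List.not_mem_nil, or_false] at hmem
  have hlt := one_lt_card_sylow_of_card hc hm (by norm_num) (by norm_num)
  have hd := hmem
  · omega

theorem no_4549 {G : Type*} [Group G] [Finite G] [IsSimpleGroup G]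
    (hG : ¬ IsMulCommutative G) (h : Nat.card G = 4549) : False := by
  exact tp hG 4549 2 1 0 (by norm_num) (by norm_num) (by rw [h]; norm_num)

theorem no_4550 {G : Type*} [Group G] [Finite G] [IsSimpleGroup G]
    (hG : ¬ IsMulCommutative G) (h : Nat.card G = 4550) : False := by
  exact ev hG (by rw [h]; exact ⟨2275, by norm_num⟩) (by rw [h]; omega)

theorem no_4551 {G : Type*} [Group G] [Finite G] [IsSimpleGroup G]
    (hG : ¬ IsMulCommutative G) (h : Nat.card G = 4551) : False := by
  have : Fact (Nat.Prime 41) := ⟨by norm_num⟩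
  have hc : Nat.card G = 41 ^ 1 * 111 := by rw [h]; norm_num
  have hm : ¬ 41 ∣ 111 := by norm_num
  have hmem := card_sylow_mem_candidates hc hm
  have hcand : sylowCandidates 41 111 = [1] := by decide
  rw [hcand] at hmem
  simp only [List.mem_cons, List.not_mem_nil, or_false] at hmem
  have hlt := one_lt_card_sylow_of_card hc hm (by norm_num) (by norm_num)
  have hd := hmem
  · omega

theorem no_4552 {G : Type*} [Group G] [Finite G] [IsSimpleGroup G]
    (hG : ¬ IsMulCommutative G) (h : Nat.card G = 4552) : False := by
  exact tp hG 2 569 3 1 (by norm_num) (by norm_num) (by rw [h]; norm_num)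

theorem no_4553 {G : Type*} [Group G] [Finite G] [IsSimpleGroup G]
    (hG : ¬ IsMulCommutative G) (h : Nat.card G = 4553) : False := by
  exact tp hG 29 157 1 1 (by norm_num) (by norm_num) (by rw [h]; norm_num)

theorem no_4554 {G : Type*} [Group G] [Finite G] [IsSimpleGroup G]
    (hG : ¬ IsMulCommutative G) (h : Nat.card G = 4554) : False := by
  exact ev hG (by rw [h]; exact ⟨2277, by norm_num⟩) (by rw [h]; omega)

theorem no_4555 {G : Type*} [Group G] [Finite G] [IsSimpleGroup G]
    (hG : ¬ IsMulCommutative G) (h : Nat.card G = 4555) : False := by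
  exact tp hG 5 911 1 1 (by norm_num) (by norm_num) (by rw [h]; norm_num)

theorem no_4556 {G : Type*} [Group G] [Finite G] [IsSimpleGroup G]
    (hG : ¬ IsMulCommutative G) (h : Nat.card G = 4556) : False := by
  exact ev hG (by rw [h]; exact ⟨2278, by norm_num⟩) (by rw [h]; omega)

theorem no_4557 {G : Type*} [Group G] [Finite G] [IsSimpleGroup G]
    (hG : ¬ IsMulCommutative G) (h : Nat.card G = 4557) : False := by
  have : Fact (Nat.Prime 31) := ⟨by norm_num⟩
  have hc : Nat.card G = 31 ^ 1 * 147 := by rw [h]; norm_num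
  have hm : ¬ 31 ∣ 147 := by norm_num
  have hmem := card_sylow_mem_candidates hc hm
  have hcand : sylowCandidates 31 147 = [1] := by decide
  rw [hcand] at hmem
  simp only [List.mem_cons, List.not_mem_nil, or_false] at hmem
  have hlt := one_lt_card_sylow_of_card hc hm (by norm_num) (by norm_num)
  have hd := hmem
  · omega

theorem no_4558 {G : Type*} [Group G] [Finite G] [IsSimpleGroup G]
    (hG : ¬ IsMulCommutative G) (h : Nat.card G = 4558) : False := by
  exact ev hG (by rw [h]; exact ⟨2279, by norm_num⟩) (by rw [h]; omega)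

theorem no_4559 {G : Type*} [Group G] [Finite G] [IsSimpleGroup G]
    (hG : ¬ IsMulCommutative G) (h : Nat.card G = 4559) : False := by
  exact tp hG 47 97 1 1 (by norm_num) (by norm_num) (by rw [h]; norm_num)

theorem no_4560 {G : Type*} [Group G] [Finite G] [IsSimpleGroup G]
    (hG : ¬ IsMulCommutative G) (h : Nat.card G = 4560) : False := by
  have : Fact (Nat.Prime 19) := ⟨by norm_num⟩
  have hc : Nat.card G = 19 ^ 1 * 240 := by rw [h]; norm_num
  have hm : ¬ 19 ∣ 240 := by norm_num
  have hmem := card_sylow_mem_candidates hc hm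
  have hcand : sylowCandidates 19 240 = [1, 20] := by decide
  rw [hcand] at hmem
  simp only [List.mem_cons, List.not_mem_nil, or_false] at hmem
  have hlt := one_lt_card_sylow_of_card hc hm (by norm_num) (by norm_num)
  rcases hmem with hd | hd
  · omega
  · exact perm_kill hG (by norm_num) hc hm hd 228 (by omega) (by decide)

theorem no_4561 {G : Type*} [Group G] [Finite G] [IsSimpleGroup G]
    (hG : ¬ IsMulCommutative G) (h : Nat.card G = 4561) : False := by
  exact tp hG 4561 2 1 0 (by norm_num) (by norm_num) (by rw [h]; norm_num)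

theorem no_4562 {G : Type*} [Group G] [Finite G] [IsSimpleGroup G]
    (hG : ¬ IsMulCommutative G) (h : Nat.card G = 4562) : False := by
  exact tp hG 2 2281 1 1 (by norm_num) (by norm_num) (by rw [h]; norm_num)

theorem no_4563 {G : Type*} [Group G] [Finite G] [IsSimpleGroup G]
    (hG : ¬ IsMulCommutative G) (h : Nat.card G = 4563) : False := by
  exact tp hG 3 13 3 2 (by norm_num) (by norm_num) (by rw [h]; norm_num)

theorem no_4564 {G : Type*} [Group G] [Finite G] [IsSimpleGroup G]
    (hG : ¬ IsMulCommutative G) (h : Nat.card G = 4564) : False := by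
  exact ev hG (by rw [h]; exact ⟨2282, by norm_num⟩) (by rw [h]; omega)

theorem no_4565 {G : Type*} [Group G] [Finite G] [IsSimpleGroup G]
    (hG : ¬ IsMulCommutative G) (h : Nat.card G = 4565) : False := by
  have : Fact (Nat.Prime 83) := ⟨by norm_num⟩
  have hc : Nat.card G = 83 ^ 1 * 55 := by rw [h]; norm_num
  have hm : ¬ 83 ∣ 55 := by norm_num
  have hmem := card_sylow_mem_candidates hc hm
  have hcand : sylowCandidates 83 55 = [1] := by decide
  rw [hcand] at hmem
  simp only [List.mem_cons, List.not_mem_nil, or_false] at hmem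
  have hlt := one_lt_card_sylow_of_card hc hm (by norm_num) (by norm_num)
  have hd := hmem
  · omega

theorem no_4566 {G : Type*} [Group G] [Finite G] [IsSimpleGroup G]
    (hG : ¬ IsMulCommutative G) (h : Nat.card G = 4566) : False := by
  exact ev hG (by rw [h]; exact ⟨2283, by norm_num⟩) (by rw [h]; omega)

theorem no_4567 {G : Type*} [Group G] [Finite G] [IsSimpleGroup G]
    (hG : ¬ IsMulCommutative G) (h : Nat.card G = 4567) : False := by
  exact tp hG 4567 2 1 0 (by norm_num) (by norm_num) (by rw [h]; norm_num)

theorem no_4568 {G : Type*} [Group G] [Finite G] [IsSimpleGroup G]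
    (hG : ¬ IsMulCommutative G) (h : Nat.card G = 4568) : False := by
  exact tp hG 2 571 3 1 (by norm_num) (by norm_num) (by rw [h]; norm_num)

theorem no_4569 {G : Type*} [Group G] [Finite G] [IsSimpleGroup G]
    (hG : ¬ IsMulCommutative G) (h : Nat.card G = 4569) : False := by
  exact tp hG 3 1523 1 1 (by norm_num) (by norm_num) (by rw [h]; norm_num)

theorem no_4570 {G : Type*} [Group G] [Finite G] [IsSimpleGroup G]
    (hG : ¬ IsMulCommutative G) (h : Nat.card G = 4570) : False := by
  exact ev hG (by rw [h]; exact ⟨2285, by norm_num⟩) (by rw [h]; omega)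

theorem no_4571 {G : Type*} [Group G] [Finite G] [IsSimpleGroup G]
    (hG : ¬ IsMulCommutative G) (h : Nat.card G = 4571) : False := by
  exact tp hG 7 653 1 1 (by norm_num) (by norm_num) (by rw [h]; norm_num)

theorem no_4572 {G : Type*} [Group G] [Finite G] [IsSimpleGroup G]
    (hG : ¬ IsMulCommutative G) (h : Nat.card G = 4572) : False := by
  have : Fact (Nat.Prime 127) := ⟨by norm_num⟩
  have hc : Nat.card G = 127 ^ 1 * 36 := by rw [h]; norm_num
  have hm : ¬ 127 ∣ 36 := by norm_num
  have hmem := card_sylow_mem_candidates hc hm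
  have hcand : sylowCandidates 127 36 = [1] := by decide
  rw [hcand] at hmem
  simp only [List.mem_cons, List.not_mem_nil, or_false] at hmem
  have hlt := one_lt_card_sylow_of_card hc hm (by norm_num) (by norm_num)
  have hd := hmem
  · omega

theorem no_4573 {G : Type*} [Group G] [Finite G] [IsSimpleGroup G]
    (hG : ¬ IsMulCommutative G) (h : Nat.card G = 4573) : False := by
  exact tp hG 17 269 1 1 (by norm_num) (by norm_num) (by rw [h]; norm_num)

theorem no_4574 {G : Type*} [Group G] [Finite G] [IsSimpleGroup G]
    (hG : ¬ IsMulCommutative G) (h : Nat.card G = 4574) : False := by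
  exact tp hG 2 2287 1 1 (by norm_num) (by norm_num) (by rw [h]; norm_num)

theorem no_4575 {G : Type*} [Group G] [Finite G] [IsSimpleGroup G]
    (hG : ¬ IsMulCommutative G) (h : Nat.card G = 4575) : False := by
  have : Fact (Nat.Prime 61) := ⟨by norm_num⟩
  have hc : Nat.card G = 61 ^ 1 * 75 := by rw [h]; norm_num
  have hm : ¬ 61 ∣ 75 := by norm_num
  have hmem := card_sylow_mem_candidates hc hm
  have hcand : sylowCandidates 61 75 = [1] := by decide
  rw [hcand] at hmem
  simp only [List.mem_cons, List.not_mem_nil, or_false] at hmem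
  have hlt := one_lt_card_sylow_of_card hc hm (by norm_num) (by norm_num)
  have hd := hmem
  · omega

theorem no_4576 {G : Type*} [Group G] [Finite G] [IsSimpleGroup G]
    (hG : ¬ IsMulCommutative G) (h : Nat.card G = 4576) : False := by
  have : Fact (Nat.Prime 13) := ⟨by norm_num⟩
  have hc : Nat.card G = 13 ^ 1 * 352 := by rw [h]; norm_num
  have hm : ¬ 13 ∣ 352 := by norm_num
  have hmem := card_sylow_mem_candidates hc hm
  have hcand : sylowCandidates 13 352 = [1, 352] := by decide
  rw [hcand] at hmem
  simp only [List.mem_cons, List.not_mem_nil, or_false] at hmem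
  have hlt := one_lt_card_sylow_of_card hc hm (by norm_num) (by norm_num)
  rcases hmem with hd | hd
  · omega
  · exact burn_kill hc hm (by norm_num) 352 hd (by decide)

theorem no_4577 {G : Type*} [Group G] [Finite G] [IsSimpleGroup G]
    (hG : ¬ IsMulCommutative G) (h : Nat.card G = 4577) : False := by
  exact tp hG 23 199 1 1 (by norm_num) (by norm_num) (by rw [h]; norm_num)

theorem no_4578 {G : Type*} [Group G] [Finite G] [IsSimpleGroup G]
    (hG : ¬ IsMulCommutative G) (h : Nat.card G = 4578) : False := by
  exact ev hG (by rw [h]; exact ⟨2289, by norm_num⟩) (by rw [h]; omega)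

theorem no_4579 {G : Type*} [Group G] [Finite G] [IsSimpleGroup G]
    (hG : ¬ IsMulCommutative G) (h : Nat.card G = 4579) : False := by
  exact tp hG 19 241 1 1 (by norm_num) (by norm_num) (by rw [h]; norm_num)

theorem no_4580 {G : Type*} [Group G] [Finite G] [IsSimpleGroup G]
    (hG : ¬ IsMulCommutative G) (h : Nat.card G = 4580) : False := by
  exact ev hG (by rw [h]; exact ⟨2290, by norm_num⟩) (by rw [h]; omega)

theorem no_4581 {G : Type*} [Group G] [Finite G] [IsSimpleGroup G]
    (hG : ¬ IsMulCommutative G) (h : Nat.card G = 4581) : False := by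
  exact tp hG 3 509 2 1 (by norm_num) (by norm_num) (by rw [h]; norm_num)

theorem no_4582 {G : Type*} [Group G] [Finite G] [IsSimpleGroup G]
    (hG : ¬ IsMulCommutative G) (h : Nat.card G = 4582) : False := by
  exact ev hG (by rw [h]; exact ⟨2291, by norm_num⟩) (by rw [h]; omega)

theorem no_4583 {G : Type*} [Group G] [Finite G] [IsSimpleGroup G]
    (hG : ¬ IsMulCommutative G) (h : Nat.card G = 4583) : False := by
  exact tp hG 4583 2 1 0 (by norm_num) (by norm_num) (by rw [h]; norm_num)

theorem no_4584 {G : Type*} [Group G] [Finite G] [IsSimpleGroup G]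
    (hG : ¬ IsMulCommutative G) (h : Nat.card G = 4584) : False := by
  have : Fact (Nat.Prime 191) := ⟨by norm_num⟩
  have hc : Nat.card G = 191 ^ 1 * 24 := by rw [h]; norm_num
  have hm : ¬ 191 ∣ 24 := by norm_num
  have hmem := card_sylow_mem_candidates hc hm
  have hcand : sylowCandidates 191 24 = [1] := by decide
  rw [hcand] at hmem
  simp only [List.mem_cons, List.not_mem_nil, or_false] at hmem
  have hlt := one_lt_card_sylow_of_card hc hm (by norm_num) (by norm_num)
  have hd := hmem
  · omega

theorem no_4585 {G : Type*} [Group G] [Finite G] [IsSimpleGroup G]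
    (hG : ¬ IsMulCommutative G) (h : Nat.card G = 4585) : False := by
  have : Fact (Nat.Prime 131) := ⟨by norm_num⟩
  have hc : Nat.card G = 131 ^ 1 * 35 := by rw [h]; norm_num
  have hm : ¬ 131 ∣ 35 := by norm_num
  have hmem := card_sylow_mem_candidates hc hm
  have hcand : sylowCandidates 131 35 = [1] := by decide
  rw [hcand] at hmem
  simp only [List.mem_cons, List.not_mem_nil, or_false] at hmem
  have hlt := one_lt_card_sylow_of_card hc hm (by norm_num) (by norm_num)
  have hd := hmem
  · omega

theorem no_4586 {G : Type*} [Group G] [Finite G] [IsSimpleGroup G]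
    (hG : ¬ IsMulCommutative G) (h : Nat.card G = 4586) : False := by
  exact tp hG 2 2293 1 1 (by norm_num) (by norm_num) (by rw [h]; norm_num)

theorem no_4587 {G : Type*} [Group G] [Finite G] [IsSimpleGroup G]
    (hG : ¬ IsMulCommutative G) (h : Nat.card G = 4587) : False := by
  have : Fact (Nat.Prime 139) := ⟨by norm_num⟩
  have hc : Nat.card G = 139 ^ 1 * 33 := by rw [h]; norm_num
  have hm : ¬ 139 ∣ 33 := by norm_num
  have hmem := card_sylow_mem_candidates hc hm
  have hcand : sylowCandidates 139 33 = [1] := by decide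
  rw [hcand] at hmem
  simp only [List.mem_cons, List.not_mem_nil, or_false] at hmem
  have hlt := one_lt_card_sylow_of_card hc hm (by norm_num) (by norm_num)
  have hd := hmem
  · omega

theorem no_4588 {G : Type*} [Group G] [Finite G] [IsSimpleGroup G]
    (hG : ¬ IsMulCommutative G) (h : Nat.card G = 4588) : False := by
  exact ev hG (by rw [h]; exact ⟨2294, by norm_num⟩) (by rw [h]; omega)

theorem no_4589 {G : Type*} [Group G] [Finite G] [IsSimpleGroup G]
    (hG : ¬ IsMulCommutative G) (h : Nat.card G = 4589) : False := by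
  exact tp hG 13 353 1 1 (by norm_num) (by norm_num) (by rw [h]; norm_num)

theorem no_4590 {G : Type*} [Group G] [Finite G] [IsSimpleGroup G]
    (hG : ¬ IsMulCommutative G) (h : Nat.card G = 4590) : False := by
  exact ev hG (by rw [h]; exact ⟨2295, by norm_num⟩) (by rw [h]; omega)

theorem no_4591 {G : Type*} [Group G] [Finite G] [IsSimpleGroup G]
    (hG : ¬ IsMulCommutative G) (h : Nat.card G = 4591) : False := by
  exact tp hG 4591 2 1 0 (by norm_num) (by norm_num) (by rw [h]; norm_num)

theorem no_4592 {G : Type*} [Group G] [Finite G] [IsSimpleGroup G]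
    (hG : ¬ IsMulCommutative G) (h : Nat.card G = 4592) : False := by
  have : Fact (Nat.Prime 41) := ⟨by norm_num⟩
  have hc : Nat.card G = 41 ^ 1 * 112 := by rw [h]; norm_num
  have hm : ¬ 41 ∣ 112 := by norm_num
  have hmem := card_sylow_mem_candidates hc hm
  have hcand : sylowCandidates 41 112 = [1] := by decide
  rw [hcand] at hmem
  simp only [List.mem_cons, List.not_mem_nil, or_false] at hmem
  have hlt := one_lt_card_sylow_of_card hc hm (by norm_num) (by norm_num)
  have hd := hmem
  · omega

theorem no_4593 {G : Type*} [Group G] [Finite G] [IsSimpleGroup G]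
    (hG : ¬ IsMulCommutative G) (h : Nat.card G = 4593) : False := by
  exact tp hG 3 1531 1 1 (by norm_num) (by norm_num) (by rw [h]; norm_num)

theorem no_4594 {G : Type*} [Group G] [Finite G] [IsSimpleGroup G]
    (hG : ¬ IsMulCommutative G) (h : Nat.card G = 4594) : False := by
  exact tp hG 2 2297 1 1 (by norm_num) (by norm_num) (by rw [h]; norm_num)

theorem no_4595 {G : Type*} [Group G] [Finite G] [IsSimpleGroup G]
    (hG : ¬ IsMulCommutative G) (h : Nat.card G = 4595) : False := by
  exact tp hG 5 919 1 1 (by norm_num) (by norm_num) (by rw [h]; norm_num)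

theorem no_4596 {G : Type*} [Group G] [Finite G] [IsSimpleGroup G]
    (hG : ¬ IsMulCommutative G) (h : Nat.card G = 4596) : False := by
  have : Fact (Nat.Prime 383) := ⟨by norm_num⟩
  have hc : Nat.card G = 383 ^ 1 * 12 := by rw [h]; norm_num
  have hm : ¬ 383 ∣ 12 := by norm_num
  have hmem := card_sylow_mem_candidates hc hm
  have hcand : sylowCandidates 383 12 = [1] := by decide
  rw [hcand] at hmem
  simp only [List.mem_cons, List.not_mem_nil, or_false] at hmem
  have hlt := one_lt_card_sylow_of_card hc hm (by norm_num) (by norm_num)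
  have hd := hmem
  · omega

theorem no_4597 {G : Type*} [Group G] [Finite G] [IsSimpleGroup G]
    (hG : ¬ IsMulCommutative G) (h : Nat.card G = 4597) : False := by
  exact tp hG 4597 2 1 0 (by norm_num) (by norm_num) (by rw [h]; norm_num)

theorem no_4598 {G : Type*} [Group G] [Finite G] [IsSimpleGroup G]
    (hG : ¬ IsMulCommutative G) (h : Nat.card G = 4598) : False := by
  exact ev hG (by rw [h]; exact ⟨2299, by norm_num⟩) (by rw [h]; omega)

theorem no_4599 {G : Type*} [Group G] [Finite G] [IsSimpleGroup G]
    (hG : ¬ IsMulCommutative G) (h : Nat.card G = 4599) : False := by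
  have : Fact (Nat.Prime 73) := ⟨by norm_num⟩
  have hc : Nat.card G = 73 ^ 1 * 63 := by rw [h]; norm_num
  have hm : ¬ 73 ∣ 63 := by norm_num
  have hmem := card_sylow_mem_candidates hc hm
  have hcand : sylowCandidates 73 63 = [1] := by decide
  rw [hcand] at hmem
  simp only [List.mem_cons, List.not_mem_nil, or_false] at hmem
  have hlt := one_lt_card_sylow_of_card hc hm (by norm_num) (by norm_num)
  have hd := hmem
  · omega

theorem no_4600 {G : Type*} [Group G] [Finite G] [IsSimpleGroup G]
    (hG : ¬ IsMulCommutative G) (h : Nat.card G = 4600) : False := by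
  exact ev hG (by rw [h]; exact ⟨2300, by norm_num⟩) (by rw [h]; omega)

/-- the orders in [4501, 4600] not excluded by the engine -/
theorem chunk {G : Type*} [Group G] [Finite G] [IsSimpleGroup G]
    (hG : ¬ IsMulCommutative G) (n : ℕ) (hn : Nat.card G = n) (h1 : 4501 ≤ n) (h2 : n ≤ 4600) :
    n = 4536 := by
  interval_cases n
  · exact (no_4501 hG hn).elim
  · exact (no_4502 hG hn).elim
  · exact (no_4503 hG hn).elim
  · exact (no_4504 hG hn).elim
  · exact (no_4505 hG hn).elim
  · exact (no_4506 hG hn).elim
  · exact (no_4507 hG hn).elim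
  · exact (no_4508 hG hn).elim
  · exact (no_4509 hG hn).elim
  · exact (no_4510 hG hn).elim
  · exact (no_4511 hG hn).elim
  · exact (no_4512 hG hn).elim
  · exact (no_4513 hG hn).elim
  · exact (no_4514 hG hn).elim
  · exact (no_4515 hG hn).elim
  · exact (no_4516 hG hn).elim
  · exact (no_4517 hG hn).elim
  · exact (no_4518 hG hn).elim
  · exact (no_4519 hG hn).elim
  · exact (no_4520 hG hn).elim
  · exact (no_4521 hG hn).elim
  · exact (no_4522 hG hn).elim
  · exact (no_4523 hG hn).elim
  · exact (no_4524 hG hn).elim
  · exact (no_4525 hG hn).elim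
  · exact (no_4526 hG hn).elim
  · exact (no_4527 hG hn).elim
  · exact (no_4528 hG hn).elim
  · exact (no_4529 hG hn).elim
  · exact (no_4530 hG hn).elim
  · exact (no_4531 hG hn).elim
  · exact (no_4532 hG hn).elim
  · exact (no_4533 hG hn).elim
  · exact (no_4534 hG hn).elim
  · exact (no_4535 hG hn).elim
  · simp
  · exact (no_4537 hG hn).elim
  · exact (no_4538 hG hn).elim
  · exact (no_4539 hG hn).elim
  · exact (no_4540 hG hn).elim
  · exact (no_4541 hG hn).elim
  · exact (no_4542 hG hn).elim
  · exact (no_4543 hG hn).elim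
  · exact (no_4544 hG hn).elim
  · exact (no_4545 hG hn).elim
  · exact (no_4546 hG hn).elim
  · exact (no_4547 hG hn).elim
  · exact (no_4548 hG hn).elim
  · exact (no_4549 hG hn).elim
  · exact (no_4550 hG hn).elim
  · exact (no_4551 hG hn).elim
  · exact (no_4552 hG hn).elim
  · exact (no_4553 hG hn).elim
  · exact (no_4554 hG hn).elim
  · exact (no_4555 hG hn).elim
  · exact (no_4556 hG hn).elim
  · exact (no_4557 hG hn).elim
  · exact (no_4558 hG hn).elim
  · exact (no_4559 hG hn).elim
  · exact (no_4560 hG hn).elim
  · exact (no_4561 hG hn).elim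
  · exact (no_4562 hG hn).elim
  · exact (no_4563 hG hn).elim
  · exact (no_4564 hG hn).elim
  · exact (no_4565 hG hn).elim
  · exact (no_4566 hG hn).elim
  · exact (no_4567 hG hn).elim
  · exact (no_4568 hG hn).elim
  · exact (no_4569 hG hn).elim
  · exact (no_4570 hG hn).elim
  · exact (no_4571 hG hn).elim
  · exact (no_4572 hG hn).elim
  · exact (no_4573 hG hn).elim
  · exact (no_4574 hG hn).elim
  · exact (no_4575 hG hn).elim
  · exact (no_4576 hG hn).elim
  · exact (no_4577 hG hn).elim
  · exact (no_4578 hG hn).elim
  · exact (no_4579 hG hn).elim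
  · exact (no_4580 hG hn).elim
  · exact (no_4581 hG hn).elim
  · exact (no_4582 hG hn).elim
  · exact (no_4583 hG hn).elim
  · exact (no_4584 hG hn).elim
  · exact (no_4585 hG hn).elim
  · exact (no_4586 hG hn).elim
  · exact (no_4587 hG hn).elim
  · exact (no_4588 hG hn).elim
  · exact (no_4589 hG hn).elim
  · exact (no_4590 hG hn).elim
  · exact (no_4591 hG hn).elim
  · exact (no_4592 hG hn).elim
  · exact (no_4593 hG hn).elim
  · exact (no_4594 hG hn).elim
  · exact (no_4595 hG hn).elim
  · exact (no_4596 hG hn).elim
  · exact (no_4597 hG hn).elim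
  · exact (no_4598 hG hn).elim
  · exact (no_4599 hG hn).elim
  · exact (no_4600 hG hn).elim

end Cfsg.Agent.Lib.Helper16_SO_E09
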