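import Mathlib
import Cfsg.Agent.Lib.Helper75_SM_Base

/-!
# S0983 engine, generated file: no simple group of order N for the easy N in [4601, 4700]
(helper16; same scheme as helper75's `Helper75_SM_E*`)
-/

set_option autoImplicit false
set_option linter.unusedVariables false

namespace Cfsg.Agent.Lib.Helper16_SO_E10

open Cfsg.Agent.Lib.Helper17_Sylow Cfsg.Agent.Lib.Helper75_SM_Base

theorem no_4601 {G : Type*} [Group G] [Finite G] [IsSimpleGroup G]
    (hG : ¬ IsMulCommutative G) (h : Nat.card G = 4601) : False := by
  exact tp hG 43 107 1 1 (by norm_num) (by norm_num) (by rw [h]; norm_num)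

theorem no_4602 {G : Type*} [Group G] [Finite G] [IsSimpleGroup G]
    (hG : ¬ IsMulCommutative G) (h : Nat.card G = 4602) : False := by
  exact ev hG (by rw [h]; exact ⟨2301, by norm_num⟩) (by rw [h]; omega)

theorem no_4603 {G : Type*} [Group G] [Finite G] [IsSimpleGroup G]
    (hG : ¬ IsMulCommutative G) (h : Nat.card G = 4603) : False := by
  exact tp hG 4603 2 1 0 (by norm_num) (by norm_num) (by rw [h]; norm_num)

theorem no_4604 {G : Type*} [Group G] [Finite G] [IsSimpleGroup G]
    (hG : ¬ IsMulCommutative G) (h : Nat.card G = 4604) : False := by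
  exact tp hG 2 1151 2 1 (by norm_num) (by norm_num) (by rw [h]; norm_num)

theorem no_4605 {G : Type*} [Group G] [Finite G] [IsSimpleGroup G]
    (hG : ¬ IsMulCommutative G) (h : Nat.card G = 4605) : False := by
  have : Fact (Nat.Prime 307) := ⟨by norm_num⟩
  have hc : Nat.card G = 307 ^ 1 * 15 := by rw [h]; norm_num
  have hm : ¬ 307 ∣ 15 := by norm_num
  have hmem := card_sylow_mem_candidates hc hm
  have hcand : sylowCandidates 307 15 = [1] := by decide
  rw [hcand] at hmem
  simp only [List.mem_cons, List.not_mem_nil, or_false] at hmem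
  have hlt := one_lt_card_sylow_of_card hc hm (by norm_num) (by norm_num)
  have hd := hmem
  · omega

theorem no_4606 {G : Type*} [Group G] [Finite G] [IsSimpleGroup G]
    (hG : ¬ IsMulCommutative G) (h : Nat.card G = 4606) : False := by
  exact ev hG (by rw [h]; exact ⟨2303, by norm_num⟩) (by rw [h]; omega)

theorem no_4607 {G : Type*} [Group G] [Finite G] [IsSimpleGroup G]
    (hG : ¬ IsMulCommutative G) (h : Nat.card G = 4607) : False := by
  exact tp hG 17 271 1 1 (by norm_num) (by norm_num) (by rw [h]; norm_num)

theorem no_4608 {G : Type*} [Group G] [Finite G] [IsSimpleGroup G]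
    (hG : ¬ IsMulCommutative G) (h : Nat.card G = 4608) : False := by
  exact tp hG 2 3 9 2 (by norm_num) (by norm_num) (by rw [h]; norm_num)

theorem no_4609 {G : Type*} [Group G] [Finite G] [IsSimpleGroup G]
    (hG : ¬ IsMulCommutative G) (h : Nat.card G = 4609) : False := by
  exact tp hG 11 419 1 1 (by norm_num) (by norm_num) (by rw [h]; norm_num)

theorem no_4610 {G : Type*} [Group G] [Finite G] [IsSimpleGroup G]
    (hG : ¬ IsMulCommutative G) (h : Nat.card G = 4610) : False := by
  exact ev hG (by rw [h]; exact ⟨2305, by norm_num⟩) (by rw [h]; omega)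

theorem no_4611 {G : Type*} [Group G] [Finite G] [IsSimpleGroup G]
    (hG : ¬ IsMulCommutative G) (h : Nat.card G = 4611) : False := by
  have : Fact (Nat.Prime 53) := ⟨by norm_num⟩
  have hc : Nat.card G = 53 ^ 1 * 87 := by rw [h]; norm_num
  have hm : ¬ 53 ∣ 87 := by norm_num
  have hmem := card_sylow_mem_candidates hc hm
  have hcand : sylowCandidates 53 87 = [1] := by decide
  rw [hcand] at hmem
  simp only [List.mem_cons, List.not_mem_nil, or_false] at hmem
  have hlt := one_lt_card_sylow_of_card hc hm (by norm_num) (by norm_num)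
  have hd := hmem
  · omega

theorem no_4612 {G : Type*} [Group G] [Finite G] [IsSimpleGroup G]
    (hG : ¬ IsMulCommutative G) (h : Nat.card G = 4612) : False := by
  exact tp hG 2 1153 2 1 (by norm_num) (by norm_num) (by rw [h]; norm_num)

theorem no_4613 {G : Type*} [Group G] [Finite G] [IsSimpleGroup G]
    (hG : ¬ IsMulCommutative G) (h : Nat.card G = 4613) : False := by
  exact tp hG 7 659 1 1 (by norm_num) (by norm_num) (by rw [h]; norm_num)

theorem no_4614 {G : Type*} [Group G] [Finite G] [IsSimpleGroup G]
    (hG : ¬ IsMulCommutative G) (h : Nat.card G = 4614) : False := by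
  exact ev hG (by rw [h]; exact ⟨2307, by norm_num⟩) (by rw [h]; omega)

theorem no_4615 {G : Type*} [Group G] [Finite G] [IsSimpleGroup G]
    (hG : ¬ IsMulCommutative G) (h : Nat.card G = 4615) : False := by
  have : Fact (Nat.Prime 71) := ⟨by norm_num⟩
  have hc : Nat.card G = 71 ^ 1 * 65 := by rw [h]; norm_num
  have hm : ¬ 71 ∣ 65 := by norm_num
  have hmem := card_sylow_mem_candidates hc hm
  have hcand : sylowCandidates 71 65 = [1] := by decide
  rw [hcand] at hmem
  simp only [List.mem_cons, List.not_mem_nil, or_false] at hmem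
  have hlt := one_lt_card_sylow_of_card hc hm (by norm_num) (by norm_num)
  have hd := hmem
  · omega

theorem no_4616 {G : Type*} [Group G] [Finite G] [IsSimpleGroup G]
    (hG : ¬ IsMulCommutative G) (h : Nat.card G = 4616) : False := by
  exact tp hG 2 577 3 1 (by norm_num) (by norm_num) (by rw [h]; norm_num)

theorem no_4617 {G : Type*} [Group G] [Finite G] [IsSimpleGroup G]
    (hG : ¬ IsMulCommutative G) (h : Nat.card G = 4617) : False := by
  exact tp hG 3 19 5 1 (by norm_num) (by norm_num) (by rw [h]; norm_num)

theorem no_4618 {G : Type*} [Group G] [Finite G] [IsSimpleGroup G]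
    (hG : ¬ IsMulCommutative G) (h : Nat.card G = 4618) : False := by
  exact tp hG 2 2309 1 1 (by norm_num) (by norm_num) (by rw [h]; norm_num)

theorem no_4619 {G : Type*} [Group G] [Finite G] [IsSimpleGroup G]
    (hG : ¬ IsMulCommutative G) (h : Nat.card G = 4619) : False := by
  exact tp hG 31 149 1 1 (by norm_num) (by norm_num) (by rw [h]; norm_num)

theorem no_4621 {G : Type*} [Group G] [Finite G] [IsSimpleGroup G]
    (hG : ¬ IsMulCommutative G) (h : Nat.card G = 4621) : False := by
  exact tp hG 4621 2 1 0 (by norm_num) (by norm_num) (by rw [h]; norm_num)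

theorem no_4622 {G : Type*} [Group G] [Finite G] [IsSimpleGroup G]
    (hG : ¬ IsMulCommutative G) (h : Nat.card G = 4622) : False := by
  exact tp hG 2 2311 1 1 (by norm_num) (by norm_num) (by rw [h]; norm_num)

theorem no_4623 {G : Type*} [Group G] [Finite G] [IsSimpleGroup G]
    (hG : ¬ IsMulCommutative G) (h : Nat.card G = 4623) : False := by
  have : Fact (Nat.Prime 67) := ⟨by norm_num⟩
  have hc : Nat.card G = 67 ^ 1 * 69 := by rw [h]; norm_num
  have hm : ¬ 67 ∣ 69 := by norm_num
  have hmem := card_sylow_mem_candidates hc hm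
  have hcand : sylowCandidates 67 69 = [1] := by decide
  rw [hcand] at hmem
  simp only [List.mem_cons, List.not_mem_nil, or_false] at hmem
  have hlt := one_lt_card_sylow_of_card hc hm (by norm_num) (by norm_num)
  have hd := hmem
  · omega

theorem no_4624 {G : Type*} [Group G] [Finite G] [IsSimpleGroup G]
    (hG : ¬ IsMulCommutative G) (h : Nat.card G = 4624) : False := by
  exact tp hG 2 17 4 2 (by norm_num) (by norm_num) (by rw [h]; norm_num)

theorem no_4625 {G : Type*} [Group G] [Finite G] [IsSimpleGroup G]
    (hG : ¬ IsMulCommutative G) (h : Nat.card G = 4625) : False := by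
  exact tp hG 5 37 3 1 (by norm_num) (by norm_num) (by rw [h]; norm_num)

theorem no_4626 {G : Type*} [Group G] [Finite G] [IsSimpleGroup G]
    (hG : ¬ IsMulCommutative G) (h : Nat.card G = 4626) : False := by
  exact ev hG (by rw [h]; exact ⟨2313, by norm_num⟩) (by rw [h]; omega)

theorem no_4627 {G : Type*} [Group G] [Finite G] [IsSimpleGroup G]
    (hG : ¬ IsMulCommutative G) (h : Nat.card G = 4627) : False := by
  exact tp hG 7 661 1 1 (by norm_num) (by norm_num) (by rw [h]; norm_num)

theorem no_4628 {G : Type*} [Group G] [Finite G] [IsSimpleGroup G]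
    (hG : ¬ IsMulCommutative G) (h : Nat.card G = 4628) : False := by
  exact ev hG (by rw [h]; exact ⟨2314, by norm_num⟩) (by rw [h]; omega)

theorem no_4629 {G : Type*} [Group G] [Finite G] [IsSimpleGroup G]
    (hG : ¬ IsMulCommutative G) (h : Nat.card G = 4629) : False := by
  exact tp hG 3 1543 1 1 (by norm_num) (by norm_num) (by rw [h]; norm_num)

theorem no_4630 {G : Type*} [Group G] [Finite G] [IsSimpleGroup G]
    (hG : ¬ IsMulCommutative G) (h : Nat.card G = 4630) : False := by
  exact ev hG (by rw [h]; exact ⟨2315, by norm_num⟩) (by rw [h]; omega)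

theorem no_4631 {G : Type*} [Group G] [Finite G] [IsSimpleGroup G]
    (hG : ¬ IsMulCommutative G) (h : Nat.card G = 4631) : False := by
  exact tp hG 11 421 1 1 (by norm_num) (by norm_num) (by rw [h]; norm_num)

theorem no_4632 {G : Type*} [Group G] [Finite G] [IsSimpleGroup G]
    (hG : ¬ IsMulCommutative G) (h : Nat.card G = 4632) : False := by
  have : Fact (Nat.Prime 193) := ⟨by norm_num⟩
  have hc : Nat.card G = 193 ^ 1 * 24 := by rw [h]; norm_num
  have hm : ¬ 193 ∣ 24 := by norm_num
  have hmem := card_sylow_mem_candidates hc hm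
  have hcand : sylowCandidates 193 24 = [1] := by decide
  rw [hcand] at hmem
  simp only [List.mem_cons, List.not_mem_nil, or_false] at hmem
  have hlt := one_lt_card_sylow_of_card hc hm (by norm_num) (by norm_num)
  have hd := hmem
  · omega

theorem no_4633 {G : Type*} [Group G] [Finite G] [IsSimpleGroup G]
    (hG : ¬ IsMulCommutative G) (h : Nat.card G = 4633) : False := by
  exact tp hG 41 113 1 1 (by norm_num) (by norm_num) (by rw [h]; norm_num)

theorem no_4634 {G : Type*} [Group G] [Finite G] [IsSimpleGroup G]
    (hG : ¬ IsMulCommutative G) (h : Nat.card G = 4634) : False := by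
  exact ev hG (by rw [h]; exact ⟨2317, by norm_num⟩) (by rw [h]; omega)

theorem no_4635 {G : Type*} [Group G] [Finite G] [IsSimpleGroup G]
    (hG : ¬ IsMulCommutative G) (h : Nat.card G = 4635) : False := by
  have : Fact (Nat.Prime 103) := ⟨by norm_num⟩
  have hc : Nat.card G = 103 ^ 1 * 45 := by rw [h]; norm_num
  have hm : ¬ 103 ∣ 45 := by norm_num
  have hmem := card_sylow_mem_candidates hc hm
  have hcand : sylowCandidates 103 45 = [1] := by decide
  rw [hcand] at hmem
  simp only [List.mem_cons, List.not_mem_nil, or_false] at hmem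
  have hlt := one_lt_card_sylow_of_card hc hm (by norm_num) (by norm_num)
  have hd := hmem
  · omega

theorem no_4636 {G : Type*} [Group G] [Finite G] [IsSimpleGroup G]
    (hG : ¬ IsMulCommutative G) (h : Nat.card G = 4636) : False := by
  exact ev hG (by rw [h]; exact ⟨2318, by norm_num⟩) (by rw [h]; omega)

theorem no_4637 {G : Type*} [Group G] [Finite G] [IsSimpleGroup G]
    (hG : ¬ IsMulCommutative G) (h : Nat.card G = 4637) : False := by
  exact tp hG 4637 2 1 0 (by norm_num) (by norm_num) (by rw [h]; norm_num)

theorem no_4638 {G : Type*} [Group G] [Finite G] [IsSimpleGroup G]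
    (hG : ¬ IsMulCommutative G) (h : Nat.card G = 4638) : False := by
  exact ev hG (by rw [h]; exact ⟨2319, by norm_num⟩) (by rw [h]; omega)

theorem no_4639 {G : Type*} [Group G] [Finite G] [IsSimpleGroup G]
    (hG : ¬ IsMulCommutative G) (h : Nat.card G = 4639) : False := by
  exact tp hG 4639 2 1 0 (by norm_num) (by norm_num) (by rw [h]; norm_num)

theorem no_4640 {G : Type*} [Group G] [Finite G] [IsSimpleGroup G]
    (hG : ¬ IsMulCommutative G) (h : Nat.card G = 4640) : False := by
  have : Fact (Nat.Prime 29) := ⟨by norm_num⟩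
  have hc : Nat.card G = 29 ^ 1 * 160 := by rw [h]; norm_num
  have hm : ¬ 29 ∣ 160 := by norm_num
  have hmem := card_sylow_mem_candidates hc hm
  have hcand : sylowCandidates 29 160 = [1] := by decide
  rw [hcand] at hmem
  simp only [List.mem_cons, List.not_mem_nil, or_false] at hmem
  have hlt := one_lt_card_sylow_of_card hc hm (by norm_num) (by norm_num)
  have hd := hmem
  · omega

theorem no_4641 {G : Type*} [Group G] [Finite G] [IsSimpleGroup G]
    (hG : ¬ IsMulCommutative G) (h : Nat.card G = 4641) : False := by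
  have : Fact (Nat.Prime 17) := ⟨by norm_num⟩
  have hc : Nat.card G = 17 ^ 1 * 273 := by rw [h]; norm_num
  have hm : ¬ 17 ∣ 273 := by norm_num
  have hmem := card_sylow_mem_candidates hc hm
  have hcand : sylowCandidates 17 273 = [1, 273] := by decide
  rw [hcand] at hmem
  simp only [List.mem_cons, List.not_mem_nil, or_false] at hmem
  have hlt := one_lt_card_sylow_of_card hc hm (by norm_num) (by norm_num)
  rcases hmem with hd | hd
  · omega
  · exact burn_kill hc hm (by norm_num) 273 hd (by decide)

theorem no_4642 {G : Type*} [Group G] [Finite G] [IsSimpleGroup G]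
    (hG : ¬ IsMulCommutative G) (h : Nat.card G = 4642) : False := by
  exact ev hG (by rw [h]; exact ⟨2321, by norm_num⟩) (by rw [h]; omega)

theorem no_4643 {G : Type*} [Group G] [Finite G] [IsSimpleGroup G]
    (hG : ¬ IsMulCommutative G) (h : Nat.card G = 4643) : False := by
  exact tp hG 4643 2 1 0 (by norm_num) (by norm_num) (by rw [h]; norm_num)

theorem no_4644 {G : Type*} [Group G] [Finite G] [IsSimpleGroup G]
    (hG : ¬ IsMulCommutative G) (h : Nat.card G = 4644) : False := by
  have : Fact (Nat.Prime 43) := ⟨by norm_num⟩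
  have hc : Nat.card G = 43 ^ 1 * 108 := by rw [h]; norm_num
  have hm : ¬ 43 ∣ 108 := by norm_num
  have hmem := card_sylow_mem_candidates hc hm
  have hcand : sylowCandidates 43 108 = [1] := by decide
  rw [hcand] at hmem
  simp only [List.mem_cons, List.not_mem_nil, or_false] at hmem
  have hlt := one_lt_card_sylow_of_card hc hm (by norm_num) (by norm_num)
  have hd := hmem
  · omega

theorem no_4645 {G : Type*} [Group G] [Finite G] [IsSimpleGroup G]
    (hG : ¬ IsMulCommutative G) (h : Nat.card G = 4645) : False := by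
  exact tp hG 5 929 1 1 (by norm_num) (by norm_num) (by rw [h]; norm_num)

theorem no_4646 {G : Type*} [Group G] [Finite G] [IsSimpleGroup G]
    (hG : ¬ IsMulCommutative G) (h : Nat.card G = 4646) : False := by
  exact ev hG (by rw [h]; exact ⟨2323, by norm_num⟩) (by rw [h]; omega)

theorem no_4647 {G : Type*} [Group G] [Finite G] [IsSimpleGroup G]
    (hG : ¬ IsMulCommutative G) (h : Nat.card G = 4647) : False := by
  exact tp hG 3 1549 1 1 (by norm_num) (by norm_num) (by rw [h]; norm_num)

theorem no_4648 {G : Type*} [Group G] [Finite G] [IsSimpleGroup G]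
    (hG : ¬ IsMulCommutative G) (h : Nat.card G = 4648) : False := by
  have : Fact (Nat.Prime 83) := ⟨by norm_num⟩
  have hc : Nat.card G = 83 ^ 1 * 56 := by rw [h]; norm_num
  have hm : ¬ 83 ∣ 56 := by norm_num
  have hmem := card_sylow_mem_candidates hc hm
  have hcand : sylowCandidates 83 56 = [1] := by decide
  rw [hcand] at hmem
  simp only [List.mem_cons, List.not_mem_nil, or_false] at hmem
  have hlt := one_lt_card_sylow_of_card hc hm (by norm_num) (by norm_num)
  have hd := hmem
  · omega

theorem no_4649 {G : Type*} [Group G] [Finite G] [IsSimpleGroup G]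
    (hG : ¬ IsMulCommutative G) (h : Nat.card G = 4649) : False := by
  exact tp hG 4649 2 1 0 (by norm_num) (by norm_num) (by rw [h]; norm_num)

theorem no_4650 {G : Type*} [Group G] [Finite G] [IsSimpleGroup G]
    (hG : ¬ IsMulCommutative G) (h : Nat.card G = 4650) : False := by
  exact ev hG (by rw [h]; exact ⟨2325, by norm_num⟩) (by rw [h]; omega)

theorem no_4651 {G : Type*} [Group G] [Finite G] [IsSimpleGroup G]
    (hG : ¬ IsMulCommutative G) (h : Nat.card G = 4651) : False := by
  exact tp hG 4651 2 1 0 (by norm_num) (by norm_num) (by rw [h]; norm_num)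

theorem no_4652 {G : Type*} [Group G] [Finite G] [IsSimpleGroup G]
    (hG : ¬ IsMulCommutative G) (h : Nat.card G = 4652) : False := by
  exact tp hG 2 1163 2 1 (by norm_num) (by norm_num) (by rw [h]; norm_num)

theorem no_4653 {G : Type*} [Group G] [Finite G] [IsSimpleGroup G]
    (hG : ¬ IsMulCommutative G) (h : Nat.card G = 4653) : False := by
  have : Fact (Nat.Prime 47) := ⟨by norm_num⟩
  have hc : Nat.card G = 47 ^ 1 * 99 := by rw [h]; norm_num
  have hm : ¬ 47 ∣ 99 := by norm_num
  have hmem := card_sylow_mem_candidates hc hm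
  have hcand : sylowCandidates 47 99 = [1] := by decide
  rw [hcand] at hmem
  simp only [List.mem_cons, List.not_mem_nil, or_false] at hmem
  have hlt := one_lt_card_sylow_of_card hc hm (by norm_num) (by norm_num)
  have hd := hmem
  · omega

theorem no_4654 {G : Type*} [Group G] [Finite G] [IsSimpleGroup G]
    (hG : ¬ IsMulCommutative G) (h : Nat.card G = 4654) : False := by
  exact ev hG (by rw [h]; exact ⟨2327, by norm_num⟩) (by rw [h]; omega)

theorem no_4655 {G : Type*} [Group G] [Finite G] [IsSimpleGroup G]
    (hG : ¬ IsMulCommutative G) (h : Nat.card G = 4655) : False := by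
  have : Fact (Nat.Prime 19) := ⟨by norm_num⟩
  have hc : Nat.card G = 19 ^ 1 * 245 := by rw [h]; norm_num
  have hm : ¬ 19 ∣ 245 := by norm_num
  have hmem := card_sylow_mem_candidates hc hm
  have hcand : sylowCandidates 19 245 = [1] := by decide
  rw [hcand] at hmem
  simp only [List.mem_cons, List.not_mem_nil, or_false] at hmem
  have hlt := one_lt_card_sylow_of_card hc hm (by norm_num) (by norm_num)
  have hd := hmem
  · omega

theorem no_4656 {G : Type*} [Group G] [Finite G] [IsSimpleGroup G]
    (hG : ¬ IsMulCommutative G) (h : Nat.card G = 4656) : False := by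
  have : Fact (Nat.Prime 97) := ⟨by norm_num⟩
  have hc : Nat.card G = 97 ^ 1 * 48 := by rw [h]; norm_num
  have hm : ¬ 97 ∣ 48 := by norm_num
  have hmem := card_sylow_mem_candidates hc hm
  have hcand : sylowCandidates 97 48 = [1] := by decide
  rw [hcand] at hmem
  simp only [List.mem_cons, List.not_mem_nil, or_false] at hmem
  have hlt := one_lt_card_sylow_of_card hc hm (by norm_num) (by norm_num)
  have hd := hmem
  · omega

theorem no_4657 {G : Type*} [Group G] [Finite G] [IsSimpleGroup G]
    (hG : ¬ IsMulCommutative G) (h : Nat.card G = 4657) : False := by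
  exact tp hG 4657 2 1 0 (by norm_num) (by norm_num) (by rw [h]; norm_num)

theorem no_4658 {G : Type*} [Group G] [Finite G] [IsSimpleGroup G]
    (hG : ¬ IsMulCommutative G) (h : Nat.card G = 4658) : False := by
  exact ev hG (by rw [h]; exact ⟨2329, by norm_num⟩) (by rw [h]; omega)

theorem no_4659 {G : Type*} [Group G] [Finite G] [IsSimpleGroup G]
    (hG : ¬ IsMulCommutative G) (h : Nat.card G = 4659) : False := by
  exact tp hG 3 1553 1 1 (by norm_num) (by norm_num) (by rw [h]; norm_num)

theorem no_4660 {G : Type*} [Group G] [Finite G] [IsSimpleGroup G]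
    (hG : ¬ IsMulCommutative G) (h : Nat.card G = 4660) : False := by
  exact ev hG (by rw [h]; exact ⟨2330, by norm_num⟩) (by rw [h]; omega)

theorem no_4661 {G : Type*} [Group G] [Finite G] [IsSimpleGroup G]
    (hG : ¬ IsMulCommutative G) (h : Nat.card G = 4661) : False := by
  exact tp hG 59 79 1 1 (by norm_num) (by norm_num) (by rw [h]; norm_num)

theorem no_4662 {G : Type*} [Group G] [Finite G] [IsSimpleGroup G]
    (hG : ¬ IsMulCommutative G) (h : Nat.card G = 4662) : False := by
  exact ev hG (by rw [h]; exact ⟨2331, by norm_num⟩) (by rw [h]; omega)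

theorem no_4663 {G : Type*} [Group G] [Finite G] [IsSimpleGroup G]
    (hG : ¬ IsMulCommutative G) (h : Nat.card G = 4663) : False := by
  exact tp hG 4663 2 1 0 (by norm_num) (by norm_num) (by rw [h]; norm_num)

theorem no_4664 {G : Type*} [Group G] [Finite G] [IsSimpleGroup G]
    (hG : ¬ IsMulCommutative G) (h : Nat.card G = 4664) : False := by
  exact ev hG (by rw [h]; exact ⟨2332, by norm_num⟩) (by rw [h]; omega)

theorem no_4665 {G : Type*} [Group G] [Finite G] [IsSimpleGroup G]
    (hG : ¬ IsMulCommutative G) (h : Nat.card G = 4665) : False := by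
  have : Fact (Nat.Prime 311) := ⟨by norm_num⟩
  have hc : Nat.card G = 311 ^ 1 * 15 := by rw [h]; norm_num
  have hm : ¬ 311 ∣ 15 := by norm_num
  have hmem := card_sylow_mem_candidates hc hm
  have hcand : sylowCandidates 311 15 = [1] := by decide
  rw [hcand] at hmem
  simp only [List.mem_cons, List.not_mem_nil, or_false] at hmem
  have hlt := one_lt_card_sylow_of_card hc hm (by norm_num) (by norm_num)
  have hd := hmem
  · omega

theorem no_4666 {G : Type*} [Group G] [Finite G] [IsSimpleGroup G]
    (hG : ¬ IsMulCommutative G) (h : Nat.card G = 4666) : False := by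
  exact tp hG 2 2333 1 1 (by norm_num) (by norm_num) (by rw [h]; norm_num)

theorem no_4667 {G : Type*} [Group G] [Finite G] [IsSimpleGroup G]
    (hG : ¬ IsMulCommutative G) (h : Nat.card G = 4667) : False := by
  exact tp hG 13 359 1 1 (by norm_num) (by norm_num) (by rw [h]; norm_num)

theorem no_4668 {G : Type*} [Group G] [Finite G] [IsSimpleGroup G]
    (hG : ¬ IsMulCommutative G) (h : Nat.card G = 4668) : False := by
  have : Fact (Nat.Prime 389) := ⟨by norm_num⟩
  have hc : Nat.card G = 389 ^ 1 * 12 := by rw [h]; norm_num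
  have hm : ¬ 389 ∣ 12 := by norm_num
  have hmem := card_sylow_mem_candidates hc hm
  have hcand : sylowCandidates 389 12 = [1] := by decide
  rw [hcand] at hmem
  simp only [List.mem_cons, List.not_mem_nil, or_false] at hmem
  have hlt := one_lt_card_sylow_of_card hc hm (by norm_num) (by norm_num)
  have hd := hmem
  · omega

theorem no_4669 {G : Type*} [Group G] [Finite G] [IsSimpleGroup G]
    (hG : ¬ IsMulCommutative G) (h : Nat.card G = 4669) : False := by
  have : Fact (Nat.Prime 29) := ⟨by norm_num⟩
  have hc : Nat.card G = 29 ^ 1 * 161 := by rw [h]; norm_num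
  have hm : ¬ 29 ∣ 161 := by norm_num
  have hmem := card_sylow_mem_candidates hc hm
  have hcand : sylowCandidates 29 161 = [1] := by decide
  rw [hcand] at hmem
  simp only [List.mem_cons, List.not_mem_nil, or_false] at hmem
  have hlt := one_lt_card_sylow_of_card hc hm (by norm_num) (by norm_num)
  have hd := hmem
  · omega

theorem no_4670 {G : Type*} [Group G] [Finite G] [IsSimpleGroup G]
    (hG : ¬ IsMulCommutative G) (h : Nat.card G = 4670) : False := by
  exact ev hG (by rw [h]; exact ⟨2335, by norm_num⟩) (by rw [h]; omega)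

theorem no_4671 {G : Type*} [Group G] [Finite G] [IsSimpleGroup G]
    (hG : ¬ IsMulCommutative G) (h : Nat.card G = 4671) : False := by
  exact tp hG 3 173 3 1 (by norm_num) (by norm_num) (by rw [h]; norm_num)

theorem no_4672 {G : Type*} [Group G] [Finite G] [IsSimpleGroup G]
    (hG : ¬ IsMulCommutative G) (h : Nat.card G = 4672) : False := by
  exact tp hG 2 73 6 1 (by norm_num) (by norm_num) (by rw [h]; norm_num)

theorem no_4673 {G : Type*} [Group G] [Finite G] [IsSimpleGroup G]
    (hG : ¬ IsMulCommutative G) (h : Nat.card G = 4673) : False := by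
  exact tp hG 4673 2 1 0 (by norm_num) (by norm_num) (by rw [h]; norm_num)

theorem no_4674 {G : Type*} [Group G] [Finite G] [IsSimpleGroup G]
    (hG : ¬ IsMulCommutative G) (h : Nat.card G = 4674) : False := by
  exact ev hG (by rw [h]; exact ⟨2337, by norm_num⟩) (by rw [h]; omega)

theorem no_4675 {G : Type*} [Group G] [Finite G] [IsSimpleGroup G]
    (hG : ¬ IsMulCommutative G) (h : Nat.card G = 4675) : False := by
  have : Fact (Nat.Prime 17) := ⟨by norm_num⟩
  have hc : Nat.card G = 17 ^ 1 * 275 := by rw [h]; norm_num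
  have hm : ¬ 17 ∣ 275 := by norm_num
  have hmem := card_sylow_mem_candidates hc hm
  have hcand : sylowCandidates 17 275 = [1] := by decide
  rw [hcand] at hmem
  simp only [List.mem_cons, List.not_mem_nil, or_false] at hmem
  have hlt := one_lt_card_sylow_of_card hc hm (by norm_num) (by norm_num)
  have hd := hmem
  · omega

theorem no_4676 {G : Type*} [Group G] [Finite G] [IsSimpleGroup G]
    (hG : ¬ IsMulCommutative G) (h : Nat.card G = 4676) : False := by
  exact ev hG (by rw [h]; exact ⟨2338, by norm_num⟩) (by rw [h]; omega)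

theorem no_4677 {G : Type*} [Group G] [Finite G] [IsSimpleGroup G]
    (hG : ¬ IsMulCommutative G) (h : Nat.card G = 4677) : False := by
  exact tp hG 3 1559 1 1 (by norm_num) (by norm_num) (by rw [h]; norm_num)

theorem no_4678 {G : Type*} [Group G] [Finite G] [IsSimpleGroup G]
    (hG : ¬ IsMulCommutative G) (h : Nat.card G = 4678) : False := by
  exact tp hG 2 2339 1 1 (by norm_num) (by norm_num) (by rw [h]; norm_num)

theorem no_4679 {G : Type*} [Group G] [Finite G] [IsSimpleGroup G]
    (hG : ¬ IsMulCommutative G) (h : Nat.card G = 4679) : False := by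
  exact tp hG 4679 2 1 0 (by norm_num) (by norm_num) (by rw [h]; norm_num)

theorem no_4681 {G : Type*} [Group G] [Finite G] [IsSimpleGroup G]
    (hG : ¬ IsMulCommutative G) (h : Nat.card G = 4681) : False := by
  exact tp hG 31 151 1 1 (by norm_num) (by norm_num) (by rw [h]; norm_num)

theorem no_4682 {G : Type*} [Group G] [Finite G] [IsSimpleGroup G]
    (hG : ¬ IsMulCommutative G) (h : Nat.card G = 4682) : False := by
  exact tp hG 2 2341 1 1 (by norm_num) (by norm_num) (by rw [h]; norm_num)

theorem no_4683 {G : Type*} [Group G] [Finite G] [IsSimpleGroup G]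
    (hG : ¬ IsMulCommutative G) (h : Nat.card G = 4683) : False := by
  have : Fact (Nat.Prime 223) := ⟨by norm_num⟩
  have hc : Nat.card G = 223 ^ 1 * 21 := by rw [h]; norm_num
  have hm : ¬ 223 ∣ 21 := by norm_num
  have hmem := card_sylow_mem_candidates hc hm
  have hcand : sylowCandidates 223 21 = [1] := by decide
  rw [hcand] at hmem
  simp only [List.mem_cons, List.not_mem_nil, or_false] at hmem
  have hlt := one_lt_card_sylow_of_card hc hm (by norm_num) (by norm_num)
  have hd := hmem
  · omega

theorem no_4684 {G : Type*} [Group G] [Finite G] [IsSimpleGroup G]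
    (hG : ¬ IsMulCommutative G) (h : Nat.card G = 4684) : False := by
  exact tp hG 2 1171 2 1 (by norm_num) (by norm_num) (by rw [h]; norm_num)

theorem no_4685 {G : Type*} [Group G] [Finite G] [IsSimpleGroup G]
    (hG : ¬ IsMulCommutative G) (h : Nat.card G = 4685) : False := by
  exact tp hG 5 937 1 1 (by norm_num) (by norm_num) (by rw [h]; norm_num)

theorem no_4686 {G : Type*} [Group G] [Finite G] [IsSimpleGroup G]
    (hG : ¬ IsMulCommutative G) (h : Nat.card G = 4686) : False := by
  exact ev hG (by rw [h]; exact ⟨2343, by norm_num⟩) (by rw [h]; omega)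

theorem no_4687 {G : Type*} [Group G] [Finite G] [IsSimpleGroup G]
    (hG : ¬ IsMulCommutative G) (h : Nat.card G = 4687) : False := by
  exact tp hG 43 109 1 1 (by norm_num) (by norm_num) (by rw [h]; norm_num)

theorem no_4688 {G : Type*} [Group G] [Finite G] [IsSimpleGroup G]
    (hG : ¬ IsMulCommutative G) (h : Nat.card G = 4688) : False := by
  exact tp hG 2 293 4 1 (by norm_num) (by norm_num) (by rw [h]; norm_num)

theorem no_4689 {G : Type*} [Group G] [Finite G] [IsSimpleGroup G]
    (hG : ¬ IsMulCommutative G) (h : Nat.card G = 4689) : False := by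
  exact tp hG 3 521 2 1 (by norm_num) (by norm_num) (by rw [h]; norm_num)

theorem no_4690 {G : Type*} [Group G] [Finite G] [IsSimpleGroup G]
    (hG : ¬ IsMulCommutative G) (h : Nat.card G = 4690) : False := by
  exact ev hG (by rw [h]; exact ⟨2345, by norm_num⟩) (by rw [h]; omega)

theorem no_4691 {G : Type*} [Group G] [Finite G] [IsSimpleGroup G]
    (hG : ¬ IsMulCommutative G) (h : Nat.card G = 4691) : False := by
  exact tp hG 4691 2 1 0 (by norm_num) (by norm_num) (by rw [h]; norm_num)

theorem no_4692 {G : Type*} [Group G] [Finite G] [IsSimpleGroup G]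
    (hG : ¬ IsMulCommutative G) (h : Nat.card G = 4692) : False := by
  have : Fact (Nat.Prime 23) := ⟨by norm_num⟩
  have hc : Nat.card G = 23 ^ 1 * 204 := by rw [h]; norm_num
  have hm : ¬ 23 ∣ 204 := by norm_num
  have hmem := card_sylow_mem_candidates hc hm
  have hcand : sylowCandidates 23 204 = [1] := by decide
  rw [hcand] at hmem
  simp only [List.mem_cons, List.not_mem_nil, or_false] at hmem
  have hlt := one_lt_card_sylow_of_card hc hm (by norm_num) (by norm_num)
  have hd := hmem
  · omega

theorem no_4693 {G : Type*} [Group G] [Finite G] [IsSimpleGroup G]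
    (hG : ¬ IsMulCommutative G) (h : Nat.card G = 4693) : False := by
  exact tp hG 13 19 1 2 (by norm_num) (by norm_num) (by rw [h]; norm_num)

theorem no_4694 {G : Type*} [Group G] [Finite G] [IsSimpleGroup G]
    (hG : ¬ IsMulCommutative G) (h : Nat.card G = 4694) : False := by
  exact tp hG 2 2347 1 1 (by norm_num) (by norm_num) (by rw [h]; norm_num)

theorem no_4695 {G : Type*} [Group G] [Finite G] [IsSimpleGroup G]
    (hG : ¬ IsMulCommutative G) (h : Nat.card G = 4695) : False := by
  have : Fact (Nat.Prime 313) := ⟨by norm_num⟩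
  have hc : Nat.card G = 313 ^ 1 * 15 := by rw [h]; norm_num
  have hm : ¬ 313 ∣ 15 := by norm_num
  have hmem := card_sylow_mem_candidates hc hm
  have hcand : sylowCandidates 313 15 = [1] := by decide
  rw [hcand] at hmem
  simp only [List.mem_cons, List.not_mem_nil, or_false] at hmem
  have hlt := one_lt_card_sylow_of_card hc hm (by norm_num) (by norm_num)
  have hd := hmem
  · omega

theorem no_4696 {G : Type*} [Group G] [Finite G] [IsSimpleGroup G]
    (hG : ¬ IsMulCommutative G) (h : Nat.card G = 4696) : False := by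
  exact tp hG 2 587 3 1 (by norm_num) (by norm_num) (by rw [h]; norm_num)

theorem no_4697 {G : Type*} [Group G] [Finite G] [IsSimpleGroup G]
    (hG : ¬ IsMulCommutative G) (h : Nat.card G = 4697) : False := by
  have : Fact (Nat.Prime 61) := ⟨by norm_num⟩
  have hc : Nat.card G = 61 ^ 1 * 77 := by rw [h]; norm_num
  have hm : ¬ 61 ∣ 77 := by norm_num
  have hmem := card_sylow_mem_candidates hc hm
  have hcand : sylowCandidates 61 77 = [1] := by decide
  rw [hcand] at hmem
  simp only [List.mem_cons, List.not_mem_nil, or_false] at hmem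
  have hlt := one_lt_card_sylow_of_card hc hm (by norm_num) (by norm_num)
  have hd := hmem
  · omega

theorem no_4698 {G : Type*} [Group G] [Finite G] [IsSimpleGroup G]
    (hG : ¬ IsMulCommutative G) (h : Nat.card G = 4698) : False := by
  exact ev hG (by rw [h]; exact ⟨2349, by norm_num⟩) (by rw [h]; omega)

theorem no_4699 {G : Type*} [Group G] [Finite G] [IsSimpleGroup G]
    (hG : ¬ IsMulCommutative G) (h : Nat.card G = 4699) : False := by
  exact tp hG 37 127 1 1 (by norm_num) (by norm_num) (by rw [h]; norm_num)

theorem no_4700 {G : Type*} [Group G] [Finite G] [IsSimpleGroup G]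
    (hG : ¬ IsMulCommutative G) (h : Nat.card G = 4700) : False := by
  exact ev hG (by rw [h]; exact ⟨2350, by norm_num⟩) (by rw [h]; omega)

/-- the orders in [4601, 4700] not excluded by the engine -/
theorem chunk {G : Type*} [Group G] [Finite G] [IsSimpleGroup G]
    (hG : ¬ IsMulCommutative G) (n : ℕ) (hn : Nat.card G = n) (h1 : 4601 ≤ n) (h2 : n ≤ 4700) :
    n = 4620 ∨ n = 4680 := by
  interval_cases n
  · exact (no_4601 hG hn).elim
  · exact (no_4602 hG hn).elim
  · exact (no_4603 hG hn).elim
  · exact (no_4604 hG hn).elim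
  · exact (no_4605 hG hn).elim
  · exact (no_4606 hG hn).elim
  · exact (no_4607 hG hn).elim
  · exact (no_4608 hG hn).elim
  · exact (no_4609 hG hn).elim
  · exact (no_4610 hG hn).elim
  · exact (no_4611 hG hn).elim
  · exact (no_4612 hG hn).elim
  · exact (no_4613 hG hn).elim
  · exact (no_4614 hG hn).elim
  · exact (no_4615 hG hn).elim
  · exact (no_4616 hG hn).elim
  · exact (no_4617 hG hn).elim
  · exact (no_4618 hG hn).elim
  · exact (no_4619 hG hn).elim
  · simp
  · exact (no_4621 hG hn).elim
  · exact (no_4622 hG hn).elim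
  · exact (no_4623 hG hn).elim
  · exact (no_4624 hG hn).elim
  · exact (no_4625 hG hn).elim
  · exact (no_4626 hG hn).elim
  · exact (no_4627 hG hn).elim
  · exact (no_4628 hG hn).elim
  · exact (no_4629 hG hn).elim
  · exact (no_4630 hG hn).elim
  · exact (no_4631 hG hn).elim
  · exact (no_4632 hG hn).elim
  · exact (no_4633 hG hn).elim
  · exact (no_4634 hG hn).elim
  · exact (no_4635 hG hn).elim
  · exact (no_4636 hG hn).elim
  · exact (no_4637 hG hn).elim
  · exact (no_4638 hG hn).elim
  · exact (no_4639 hG hn).elim
  · exact (no_4640 hG hn).elim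
  · exact (no_4641 hG hn).elim
  · exact (no_4642 hG hn).elim
  · exact (no_4643 hG hn).elim
  · exact (no_4644 hG hn).elim
  · exact (no_4645 hG hn).elim
  · exact (no_4646 hG hn).elim
  · exact (no_4647 hG hn).elim
  · exact (no_4648 hG hn).elim
  · exact (no_4649 hG hn).elim
  · exact (no_4650 hG hn).elim
  · exact (no_4651 hG hn).elim
  · exact (no_4652 hG hn).elim
  · exact (no_4653 hG hn).elim
  · exact (no_4654 hG hn).elim
  · exact (no_4655 hG hn).elim
  · exact (no_4656 hG hn).elim
  · exact (no_4657 hG hn).elim
  · exact (no_4658 hG hn).elim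
  · exact (no_4659 hG hn).elim
  · exact (no_4660 hG hn).elim
  · exact (no_4661 hG hn).elim
  · exact (no_4662 hG hn).elim
  · exact (no_4663 hG hn).elim
  · exact (no_4664 hG hn).elim
  · exact (no_4665 hG hn).elim
  · exact (no_4666 hG hn).elim
  · exact (no_4667 hG hn).elim
  · exact (no_4668 hG hn).elim
  · exact (no_4669 hG hn).elim
  · exact (no_4670 hG hn).elim
  · exact (no_4671 hG hn).elim
  · exact (no_4672 hG hn).elim
  · exact (no_4673 hG hn).elim
  · exact (no_4674 hG hn).elim
  · exact (no_4675 hG hn).elim
  · exact (no_4676 hG hn).elim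
  · exact (no_4677 hG hn).elim
  · exact (no_4678 hG hn).elim
  · exact (no_4679 hG hn).elim
  · simp
  · exact (no_4681 hG hn).elim
  · exact (no_4682 hG hn).elim
  · exact (no_4683 hG hn).elim
  · exact (no_4684 hG hn).elim
  · exact (no_4685 hG hn).elim
  · exact (no_4686 hG hn).elim
  · exact (no_4687 hG hn).elim
  · exact (no_4688 hG hn).elim
  · exact (no_4689 hG hn).elim
  · exact (no_4690 hG hn).elim
  · exact (no_4691 hG hn).elim
  · exact (no_4692 hG hn).elim
  · exact (no_4693 hG hn).elim
  · exact (no_4694 hG hn).elim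
  · exact (no_4695 hG hn).elim
  · exact (no_4696 hG hn).elim
  · exact (no_4697 hG hn).elim
  · exact (no_4698 hG hn).elim
  · exact (no_4699 hG hn).elim
  · exact (no_4700 hG hn).elim

end Cfsg.Agent.Lib.Helper16_SO_E10
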