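import Mathlib
import Cfsg.Agent.Lib.Helper75_SM_Base

/-!
# S0983 engine, generated file: no simple group of order N for the easy N in [4701, 4800]
(helper16; same scheme as helper75's `Helper75_SM_E*`)
-/

set_option autoImplicit false
set_option linter.unusedVariables false

namespace Cfsg.Agent.Lib.Helper16_SO_E11

open Cfsg.Agent.Lib.Helper17_Sylow Cfsg.Agent.Lib.Helper75_SM_Base

theorem no_4701 {G : Type*} [Group G] [Finite G] [IsSimpleGroup G]
    (hG : ¬ IsMulCommutative G) (h : Nat.card G = 4701) : False := by
  exact tp hG 3 1567 1 1 (by norm_num) (by norm_num) (by rw [h]; norm_num)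

theorem no_4702 {G : Type*} [Group G] [Finite G] [IsSimpleGroup G]
    (hG : ¬ IsMulCommutative G) (h : Nat.card G = 4702) : False := by
  exact tp hG 2 2351 1 1 (by norm_num) (by norm_num) (by rw [h]; norm_num)

theorem no_4703 {G : Type*} [Group G] [Finite G] [IsSimpleGroup G]
    (hG : ¬ IsMulCommutative G) (h : Nat.card G = 4703) : False := by
  exact tp hG 4703 2 1 0 (by norm_num) (by norm_num) (by rw [h]; norm_num)

theorem no_4704 {G : Type*} [Group G] [Finite G] [IsSimpleGroup G]
    (hG : ¬ IsMulCommutative G) (h : Nat.card G = 4704) : False := by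
  have : Fact (Nat.Prime 7) := ⟨by norm_num⟩
  have hc : Nat.card G = 7 ^ 2 * 96 := by rw [h]; norm_num
  have hm : ¬ 7 ∣ 96 := by norm_num
  have hmem := card_sylow_mem_candidates hc hm
  have hcand : sylowCandidates 7 96 = [1, 8] := by decide
  rw [hcand] at hmem
  simp only [List.mem_cons, List.not_mem_nil, or_false] at hmem
  have hlt := one_lt_card_sylow_of_card hc hm (by norm_num) (by norm_num)
  rcases hmem with hd | hd
  · omega
  · exact fact_kill hG 8 hd (by norm_num) (by rw [h]; decide)

theorem no_4705 {G : Type*} [Group G] [Finite G] [IsSimpleGroup G]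
    (hG : ¬ IsMulCommutative G) (h : Nat.card G = 4705) : False := by
  exact tp hG 5 941 1 1 (by norm_num) (by norm_num) (by rw [h]; norm_num)

theorem no_4706 {G : Type*} [Group G] [Finite G] [IsSimpleGroup G]
    (hG : ¬ IsMulCommutative G) (h : Nat.card G = 4706) : False := by
  exact ev hG (by rw [h]; exact ⟨2353, by norm_num⟩) (by rw [h]; omega)

theorem no_4707 {G : Type*} [Group G] [Finite G] [IsSimpleGroup G]
    (hG : ¬ IsMulCommutative G) (h : Nat.card G = 4707) : False := by
  exact tp hG 3 523 2 1 (by norm_num) (by norm_num) (by rw [h]; norm_num)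

theorem no_4708 {G : Type*} [Group G] [Finite G] [IsSimpleGroup G]
    (hG : ¬ IsMulCommutative G) (h : Nat.card G = 4708) : False := by
  exact ev hG (by rw [h]; exact ⟨2354, by norm_num⟩) (by rw [h]; omega)

theorem no_4709 {G : Type*} [Group G] [Finite G] [IsSimpleGroup G]
    (hG : ¬ IsMulCommutative G) (h : Nat.card G = 4709) : False := by
  exact tp hG 17 277 1 1 (by norm_num) (by norm_num) (by rw [h]; norm_num)

theorem no_4710 {G : Type*} [Group G] [Finite G] [IsSimpleGroup G]
    (hG : ¬ IsMulCommutative G) (h : Nat.card G = 4710) : False := by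
  exact ev hG (by rw [h]; exact ⟨2355, by norm_num⟩) (by rw [h]; omega)

theorem no_4711 {G : Type*} [Group G] [Finite G] [IsSimpleGroup G]
    (hG : ¬ IsMulCommutative G) (h : Nat.card G = 4711) : False := by
  exact tp hG 7 673 1 1 (by norm_num) (by norm_num) (by rw [h]; norm_num)

theorem no_4712 {G : Type*} [Group G] [Finite G] [IsSimpleGroup G]
    (hG : ¬ IsMulCommutative G) (h : Nat.card G = 4712) : False := by
  exact ev hG (by rw [h]; exact ⟨2356, by norm_num⟩) (by rw [h]; omega)

theorem no_4713 {G : Type*} [Group G] [Finite G] [IsSimpleGroup G]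
    (hG : ¬ IsMulCommutative G) (h : Nat.card G = 4713) : False := by
  exact tp hG 3 1571 1 1 (by norm_num) (by norm_num) (by rw [h]; norm_num)

theorem no_4714 {G : Type*} [Group G] [Finite G] [IsSimpleGroup G]
    (hG : ¬ IsMulCommutative G) (h : Nat.card G = 4714) : False := by
  exact tp hG 2 2357 1 1 (by norm_num) (by norm_num) (by rw [h]; norm_num)

theorem no_4715 {G : Type*} [Group G] [Finite G] [IsSimpleGroup G]
    (hG : ¬ IsMulCommutative G) (h : Nat.card G = 4715) : False := by
  have : Fact (Nat.Prime 41) := ⟨by norm_num⟩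
  have hc : Nat.card G = 41 ^ 1 * 115 := by rw [h]; norm_num
  have hm : ¬ 41 ∣ 115 := by norm_num
  have hmem := card_sylow_mem_candidates hc hm
  have hcand : sylowCandidates 41 115 = [1] := by decide
  rw [hcand] at hmem
  simp only [List.mem_cons, List.not_mem_nil, or_false] at hmem
  have hlt := one_lt_card_sylow_of_card hc hm (by norm_num) (by norm_num)
  have hd := hmem
  · omega

theorem no_4716 {G : Type*} [Group G] [Finite G] [IsSimpleGroup G]
    (hG : ¬ IsMulCommutative G) (h : Nat.card G = 4716) : False := by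
  have : Fact (Nat.Prime 131) := ⟨by norm_num⟩
  have hc : Nat.card G = 131 ^ 1 * 36 := by rw [h]; norm_num
  have hm : ¬ 131 ∣ 36 := by norm_num
  have hmem := card_sylow_mem_candidates hc hm
  have hcand : sylowCandidates 131 36 = [1] := by decide
  rw [hcand] at hmem
  simp only [List.mem_cons, List.not_mem_nil, or_false] at hmem
  have hlt := one_lt_card_sylow_of_card hc hm (by norm_num) (by norm_num)
  have hd := hmem
  · omega

theorem no_4717 {G : Type*} [Group G] [Finite G] [IsSimpleGroup G]
    (hG : ¬ IsMulCommutative G) (h : Nat.card G = 4717) : False := by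
  exact tp hG 53 89 1 1 (by norm_num) (by norm_num) (by rw [h]; norm_num)

theorem no_4718 {G : Type*} [Group G] [Finite G] [IsSimpleGroup G]
    (hG : ¬ IsMulCommutative G) (h : Nat.card G = 4718) : False := by
  exact ev hG (by rw [h]; exact ⟨2359, by norm_num⟩) (by rw [h]; omega)

theorem no_4719 {G : Type*} [Group G] [Finite G] [IsSimpleGroup G]
    (hG : ¬ IsMulCommutative G) (h : Nat.card G = 4719) : False := by
  have : Fact (Nat.Prime 11) := ⟨by norm_num⟩
  have hc : Nat.card G = 11 ^ 2 * 39 := by rw [h]; norm_num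
  have hm : ¬ 11 ∣ 39 := by norm_num
  have hmem := card_sylow_mem_candidates hc hm
  have hcand : sylowCandidates 11 39 = [1] := by decide
  rw [hcand] at hmem
  simp only [List.mem_cons, List.not_mem_nil, or_false] at hmem
  have hlt := one_lt_card_sylow_of_card hc hm (by norm_num) (by norm_num)
  have hd := hmem
  · omega

theorem no_4720 {G : Type*} [Group G] [Finite G] [IsSimpleGroup G]
    (hG : ¬ IsMulCommutative G) (h : Nat.card G = 4720) : False := by
  have : Fact (Nat.Prime 59) := ⟨by norm_num⟩
  have hc : Nat.card G = 59 ^ 1 * 80 := by rw [h]; norm_num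
  have hm : ¬ 59 ∣ 80 := by norm_num
  have hmem := card_sylow_mem_candidates hc hm
  have hcand : sylowCandidates 59 80 = [1] := by decide
  rw [hcand] at hmem
  simp only [List.mem_cons, List.not_mem_nil, or_false] at hmem
  have hlt := one_lt_card_sylow_of_card hc hm (by norm_num) (by norm_num)
  have hd := hmem
  · omega

theorem no_4721 {G : Type*} [Group G] [Finite G] [IsSimpleGroup G]
    (hG : ¬ IsMulCommutative G) (h : Nat.card G = 4721) : False := by
  exact tp hG 4721 2 1 0 (by norm_num) (by norm_num) (by rw [h]; norm_num)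

theorem no_4722 {G : Type*} [Group G] [Finite G] [IsSimpleGroup G]
    (hG : ¬ IsMulCommutative G) (h : Nat.card G = 4722) : False := by
  exact ev hG (by rw [h]; exact ⟨2361, by norm_num⟩) (by rw [h]; omega)

theorem no_4723 {G : Type*} [Group G] [Finite G] [IsSimpleGroup G]
    (hG : ¬ IsMulCommutative G) (h : Nat.card G = 4723) : False := by
  exact tp hG 4723 2 1 0 (by norm_num) (by norm_num) (by rw [h]; norm_num)

theorem no_4724 {G : Type*} [Group G] [Finite G] [IsSimpleGroup G]
    (hG : ¬ IsMulCommutative G) (h : Nat.card G = 4724) : False := by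
  exact tp hG 2 1181 2 1 (by norm_num) (by norm_num) (by rw [h]; norm_num)

theorem no_4726 {G : Type*} [Group G] [Finite G] [IsSimpleGroup G]
    (hG : ¬ IsMulCommutative G) (h : Nat.card G = 4726) : False := by
  exact ev hG (by rw [h]; exact ⟨2363, by norm_num⟩) (by rw [h]; omega)

theorem no_4727 {G : Type*} [Group G] [Finite G] [IsSimpleGroup G]
    (hG : ¬ IsMulCommutative G) (h : Nat.card G = 4727) : False := by
  exact tp hG 29 163 1 1 (by norm_num) (by norm_num) (by rw [h]; norm_num)

theorem no_4728 {G : Type*} [Group G] [Finite G] [IsSimpleGroup G]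
    (hG : ¬ IsMulCommutative G) (h : Nat.card G = 4728) : False := by
  have : Fact (Nat.Prime 197) := ⟨by norm_num⟩
  have hc : Nat.card G = 197 ^ 1 * 24 := by rw [h]; norm_num
  have hm : ¬ 197 ∣ 24 := by norm_num
  have hmem := card_sylow_mem_candidates hc hm
  have hcand : sylowCandidates 197 24 = [1] := by decide
  rw [hcand] at hmem
  simp only [List.mem_cons, List.not_mem_nil, or_false] at hmem
  have hlt := one_lt_card_sylow_of_card hc hm (by norm_num) (by norm_num)
  have hd := hmem
  · omega

theorem no_4729 {G : Type*} [Group G] [Finite G] [IsSimpleGroup G]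
    (hG : ¬ IsMulCommutative G) (h : Nat.card G = 4729) : False := by
  exact tp hG 4729 2 1 0 (by norm_num) (by norm_num) (by rw [h]; norm_num)

theorem no_4730 {G : Type*} [Group G] [Finite G] [IsSimpleGroup G]
    (hG : ¬ IsMulCommutative G) (h : Nat.card G = 4730) : False := by
  exact ev hG (by rw [h]; exact ⟨2365, by norm_num⟩) (by rw [h]; omega)

theorem no_4731 {G : Type*} [Group G] [Finite G] [IsSimpleGroup G]
    (hG : ¬ IsMulCommutative G) (h : Nat.card G = 4731) : False := by
  have : Fact (Nat.Prime 83) := ⟨by norm_num⟩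
  have hc : Nat.card G = 83 ^ 1 * 57 := by rw [h]; norm_num
  have hm : ¬ 83 ∣ 57 := by norm_num
  have hmem := card_sylow_mem_candidates hc hm
  have hcand : sylowCandidates 83 57 = [1] := by decide
  rw [hcand] at hmem
  simp only [List.mem_cons, List.not_mem_nil, or_false] at hmem
  have hlt := one_lt_card_sylow_of_card hc hm (by norm_num) (by norm_num)
  have hd := hmem
  · omega

theorem no_4732 {G : Type*} [Group G] [Finite G] [IsSimpleGroup G]
    (hG : ¬ IsMulCommutative G) (h : Nat.card G = 4732) : False := by
  exact ev hG (by rw [h]; exact ⟨2366, by norm_num⟩) (by rw [h]; omega)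

theorem no_4733 {G : Type*} [Group G] [Finite G] [IsSimpleGroup G]
    (hG : ¬ IsMulCommutative G) (h : Nat.card G = 4733) : False := by
  exact tp hG 4733 2 1 0 (by norm_num) (by norm_num) (by rw [h]; norm_num)

theorem no_4734 {G : Type*} [Group G] [Finite G] [IsSimpleGroup G]
    (hG : ¬ IsMulCommutative G) (h : Nat.card G = 4734) : False := by
  exact ev hG (by rw [h]; exact ⟨2367, by norm_num⟩) (by rw [h]; omega)

theorem no_4735 {G : Type*} [Group G] [Finite G] [IsSimpleGroup G]
    (hG : ¬ IsMulCommutative G) (h : Nat.card G = 4735) : False := by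
  exact tp hG 5 947 1 1 (by norm_num) (by norm_num) (by rw [h]; norm_num)

theorem no_4736 {G : Type*} [Group G] [Finite G] [IsSimpleGroup G]
    (hG : ¬ IsMulCommutative G) (h : Nat.card G = 4736) : False := by
  exact tp hG 2 37 7 1 (by norm_num) (by norm_num) (by rw [h]; norm_num)

theorem no_4737 {G : Type*} [Group G] [Finite G] [IsSimpleGroup G]
    (hG : ¬ IsMulCommutative G) (h : Nat.card G = 4737) : False := by
  exact tp hG 3 1579 1 1 (by norm_num) (by norm_num) (by rw [h]; norm_num)

theorem no_4738 {G : Type*} [Group G] [Finite G] [IsSimpleGroup G]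
    (hG : ¬ IsMulCommutative G) (h : Nat.card G = 4738) : False := by
  exact ev hG (by rw [h]; exact ⟨2369, by norm_num⟩) (by rw [h]; omega)

theorem no_4739 {G : Type*} [Group G] [Finite G] [IsSimpleGroup G]
    (hG : ¬ IsMulCommutative G) (h : Nat.card G = 4739) : False := by
  exact tp hG 7 677 1 1 (by norm_num) (by norm_num) (by rw [h]; norm_num)

theorem no_4740 {G : Type*} [Group G] [Finite G] [IsSimpleGroup G]
    (hG : ¬ IsMulCommutative G) (h : Nat.card G = 4740) : False := by
  have : Fact (Nat.Prime 79) := ⟨by norm_num⟩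
  have hc : Nat.card G = 79 ^ 1 * 60 := by rw [h]; norm_num
  have hm : ¬ 79 ∣ 60 := by norm_num
  have hmem := card_sylow_mem_candidates hc hm
  have hcand : sylowCandidates 79 60 = [1] := by decide
  rw [hcand] at hmem
  simp only [List.mem_cons, List.not_mem_nil, or_false] at hmem
  have hlt := one_lt_card_sylow_of_card hc hm (by norm_num) (by norm_num)
  have hd := hmem
  · omega

theorem no_4741 {G : Type*} [Group G] [Finite G] [IsSimpleGroup G]
    (hG : ¬ IsMulCommutative G) (h : Nat.card G = 4741) : False := by
  exact tp hG 11 431 1 1 (by norm_num) (by norm_num) (by rw [h]; norm_num)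

theorem no_4742 {G : Type*} [Group G] [Finite G] [IsSimpleGroup G]
    (hG : ¬ IsMulCommutative G) (h : Nat.card G = 4742) : False := by
  exact tp hG 2 2371 1 1 (by norm_num) (by norm_num) (by rw [h]; norm_num)

theorem no_4743 {G : Type*} [Group G] [Finite G] [IsSimpleGroup G]
    (hG : ¬ IsMulCommutative G) (h : Nat.card G = 4743) : False := by
  have : Fact (Nat.Prime 31) := ⟨by norm_num⟩
  have hc : Nat.card G = 31 ^ 1 * 153 := by rw [h]; norm_num
  have hm : ¬ 31 ∣ 153 := by norm_num
  have hmem := card_sylow_mem_candidates hc hm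
  have hcand : sylowCandidates 31 153 = [1] := by decide
  rw [hcand] at hmem
  simp only [List.mem_cons, List.not_mem_nil, or_false] at hmem
  have hlt := one_lt_card_sylow_of_card hc hm (by norm_num) (by norm_num)
  have hd := hmem
  · omega

theorem no_4744 {G : Type*} [Group G] [Finite G] [IsSimpleGroup G]
    (hG : ¬ IsMulCommutative G) (h : Nat.card G = 4744) : False := by
  exact tp hG 2 593 3 1 (by norm_num) (by norm_num) (by rw [h]; norm_num)

theorem no_4745 {G : Type*} [Group G] [Finite G] [IsSimpleGroup G]
    (hG : ¬ IsMulCommutative G) (h : Nat.card G = 4745) : False := by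
  have : Fact (Nat.Prime 73) := ⟨by norm_num⟩
  have hc : Nat.card G = 73 ^ 1 * 65 := by rw [h]; norm_num
  have hm : ¬ 73 ∣ 65 := by norm_num
  have hmem := card_sylow_mem_candidates hc hm
  have hcand : sylowCandidates 73 65 = [1] := by decide
  rw [hcand] at hmem
  simp only [List.mem_cons, List.not_mem_nil, or_false] at hmem
  have hlt := one_lt_card_sylow_of_card hc hm (by norm_num) (by norm_num)
  have hd := hmem
  · omega

theorem no_4746 {G : Type*} [Group G] [Finite G] [IsSimpleGroup G]
    (hG : ¬ IsMulCommutative G) (h : Nat.card G = 4746) : False := by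
  exact ev hG (by rw [h]; exact ⟨2373, by norm_num⟩) (by rw [h]; omega)

theorem no_4747 {G : Type*} [Group G] [Finite G] [IsSimpleGroup G]
    (hG : ¬ IsMulCommutative G) (h : Nat.card G = 4747) : False := by
  exact tp hG 47 101 1 1 (by norm_num) (by norm_num) (by rw [h]; norm_num)

theorem no_4748 {G : Type*} [Group G] [Finite G] [IsSimpleGroup G]
    (hG : ¬ IsMulCommutative G) (h : Nat.card G = 4748) : False := by
  exact tp hG 2 1187 2 1 (by norm_num) (by norm_num) (by rw [h]; norm_num)

theorem no_4749 {G : Type*} [Group G] [Finite G] [IsSimpleGroup G]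
    (hG : ¬ IsMulCommutative G) (h : Nat.card G = 4749) : False := by
  exact tp hG 3 1583 1 1 (by norm_num) (by norm_num) (by rw [h]; norm_num)

theorem no_4750 {G : Type*} [Group G] [Finite G] [IsSimpleGroup G]
    (hG : ¬ IsMulCommutative G) (h : Nat.card G = 4750) : False := by
  exact ev hG (by rw [h]; exact ⟨2375, by norm_num⟩) (by rw [h]; omega)

theorem no_4751 {G : Type*} [Group G] [Finite G] [IsSimpleGroup G]
    (hG : ¬ IsMulCommutative G) (h : Nat.card G = 4751) : False := by
  exact tp hG 4751 2 1 0 (by norm_num) (by norm_num) (by rw [h]; norm_num)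

theorem no_4752 {G : Type*} [Group G] [Finite G] [IsSimpleGroup G]
    (hG : ¬ IsMulCommutative G) (h : Nat.card G = 4752) : False := by
  have : Fact (Nat.Prime 11) := ⟨by norm_num⟩
  have hc : Nat.card G = 11 ^ 1 * 432 := by rw [h]; norm_num
  have hm : ¬ 11 ∣ 432 := by norm_num
  have hmem := card_sylow_mem_candidates hc hm
  have hcand : sylowCandidates 11 432 = [1, 12, 144] := by decide
  rw [hcand] at hmem
  simp only [List.mem_cons, List.not_mem_nil, or_false] at hmem
  have hlt := one_lt_card_sylow_of_card hc hm (by norm_num) (by norm_num)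
  rcases hmem with hd | hd | hd
  · omega
  · exact perm_kill hG (by norm_num) hc hm hd 396 (by omega) (by decide)
  · exact burn_kill hc hm (by norm_num) 144 hd (by decide)

theorem no_4753 {G : Type*} [Group G] [Finite G] [IsSimpleGroup G]
    (hG : ¬ IsMulCommutative G) (h : Nat.card G = 4753) : False := by
  exact tp hG 7 97 2 1 (by norm_num) (by norm_num) (by rw [h]; norm_num)

theorem no_4754 {G : Type*} [Group G] [Finite G] [IsSimpleGroup G]
    (hG : ¬ IsMulCommutative G) (h : Nat.card G = 4754) : False := by
  exact tp hG 2 2377 1 1 (by norm_num) (by norm_num) (by rw [h]; norm_num)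

theorem no_4755 {G : Type*} [Group G] [Finite G] [IsSimpleGroup G]
    (hG : ¬ IsMulCommutative G) (h : Nat.card G = 4755) : False := by
  have : Fact (Nat.Prime 317) := ⟨by norm_num⟩
  have hc : Nat.card G = 317 ^ 1 * 15 := by rw [h]; norm_num
  have hm : ¬ 317 ∣ 15 := by norm_num
  have hmem := card_sylow_mem_candidates hc hm
  have hcand : sylowCandidates 317 15 = [1] := by decide
  rw [hcand] at hmem
  simp only [List.mem_cons, List.not_mem_nil, or_false] at hmem
  have hlt := one_lt_card_sylow_of_card hc hm (by norm_num) (by norm_num)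
  have hd := hmem
  · omega

theorem no_4756 {G : Type*} [Group G] [Finite G] [IsSimpleGroup G]
    (hG : ¬ IsMulCommutative G) (h : Nat.card G = 4756) : False := by
  exact ev hG (by rw [h]; exact ⟨2378, by norm_num⟩) (by rw [h]; omega)

theorem no_4757 {G : Type*} [Group G] [Finite G] [IsSimpleGroup G]
    (hG : ¬ IsMulCommutative G) (h : Nat.card G = 4757) : False := by
  exact tp hG 67 71 1 1 (by norm_num) (by norm_num) (by rw [h]; norm_num)

theorem no_4758 {G : Type*} [Group G] [Finite G] [IsSimpleGroup G]
    (hG : ¬ IsMulCommutative G) (h : Nat.card G = 4758) : False := by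
  exact ev hG (by rw [h]; exact ⟨2379, by norm_num⟩) (by rw [h]; omega)

theorem no_4759 {G : Type*} [Group G] [Finite G] [IsSimpleGroup G]
    (hG : ¬ IsMulCommutative G) (h : Nat.card G = 4759) : False := by
  exact tp hG 4759 2 1 0 (by norm_num) (by norm_num) (by rw [h]; norm_num)

theorem no_4761 {G : Type*} [Group G] [Finite G] [IsSimpleGroup G]
    (hG : ¬ IsMulCommutative G) (h : Nat.card G = 4761) : False := by
  exact tp hG 3 23 2 2 (by norm_num) (by norm_num) (by rw [h]; norm_num)

theorem no_4762 {G : Type*} [Group G] [Finite G] [IsSimpleGroup G]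
    (hG : ¬ IsMulCommutative G) (h : Nat.card G = 4762) : False := by
  exact tp hG 2 2381 1 1 (by norm_num) (by norm_num) (by rw [h]; norm_num)

theorem no_4763 {G : Type*} [Group G] [Finite G] [IsSimpleGroup G]
    (hG : ¬ IsMulCommutative G) (h : Nat.card G = 4763) : False := by
  exact tp hG 11 433 1 1 (by norm_num) (by norm_num) (by rw [h]; norm_num)

theorem no_4764 {G : Type*} [Group G] [Finite G] [IsSimpleGroup G]
    (hG : ¬ IsMulCommutative G) (h : Nat.card G = 4764) : False := by
  have : Fact (Nat.Prime 397) := ⟨by norm_num⟩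
  have hc : Nat.card G = 397 ^ 1 * 12 := by rw [h]; norm_num
  have hm : ¬ 397 ∣ 12 := by norm_num
  have hmem := card_sylow_mem_candidates hc hm
  have hcand : sylowCandidates 397 12 = [1] := by decide
  rw [hcand] at hmem
  simp only [List.mem_cons, List.not_mem_nil, or_false] at hmem
  have hlt := one_lt_card_sylow_of_card hc hm (by norm_num) (by norm_num)
  have hd := hmem
  · omega

theorem no_4765 {G : Type*} [Group G] [Finite G] [IsSimpleGroup G]
    (hG : ¬ IsMulCommutative G) (h : Nat.card G = 4765) : False := by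
  exact tp hG 5 953 1 1 (by norm_num) (by norm_num) (by rw [h]; norm_num)

theorem no_4766 {G : Type*} [Group G] [Finite G] [IsSimpleGroup G]
    (hG : ¬ IsMulCommutative G) (h : Nat.card G = 4766) : False := by
  exact tp hG 2 2383 1 1 (by norm_num) (by norm_num) (by rw [h]; norm_num)

theorem no_4767 {G : Type*} [Group G] [Finite G] [IsSimpleGroup G]
    (hG : ¬ IsMulCommutative G) (h : Nat.card G = 4767) : False := by
  have : Fact (Nat.Prime 227) := ⟨by norm_num⟩
  have hc : Nat.card G = 227 ^ 1 * 21 := by rw [h]; norm_num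
  have hm : ¬ 227 ∣ 21 := by norm_num
  have hmem := card_sylow_mem_candidates hc hm
  have hcand : sylowCandidates 227 21 = [1] := by decide
  rw [hcand] at hmem
  simp only [List.mem_cons, List.not_mem_nil, or_false] at hmem
  have hlt := one_lt_card_sylow_of_card hc hm (by norm_num) (by norm_num)
  have hd := hmem
  · omega

theorem no_4768 {G : Type*} [Group G] [Finite G] [IsSimpleGroup G]
    (hG : ¬ IsMulCommutative G) (h : Nat.card G = 4768) : False := by
  exact tp hG 2 149 5 1 (by norm_num) (by norm_num) (by rw [h]; norm_num)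

theorem no_4769 {G : Type*} [Group G] [Finite G] [IsSimpleGroup G]
    (hG : ¬ IsMulCommutative G) (h : Nat.card G = 4769) : False := by
  exact tp hG 19 251 1 1 (by norm_num) (by norm_num) (by rw [h]; norm_num)

theorem no_4770 {G : Type*} [Group G] [Finite G] [IsSimpleGroup G]
    (hG : ¬ IsMulCommutative G) (h : Nat.card G = 4770) : False := by
  exact ev hG (by rw [h]; exact ⟨2385, by norm_num⟩) (by rw [h]; omega)

theorem no_4771 {G : Type*} [Group G] [Finite G] [IsSimpleGroup G]
    (hG : ¬ IsMulCommutative G) (h : Nat.card G = 4771) : False := by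
  exact tp hG 13 367 1 1 (by norm_num) (by norm_num) (by rw [h]; norm_num)

theorem no_4772 {G : Type*} [Group G] [Finite G] [IsSimpleGroup G]
    (hG : ¬ IsMulCommutative G) (h : Nat.card G = 4772) : False := by
  exact tp hG 2 1193 2 1 (by norm_num) (by norm_num) (by rw [h]; norm_num)

theorem no_4773 {G : Type*} [Group G] [Finite G] [IsSimpleGroup G]
    (hG : ¬ IsMulCommutative G) (h : Nat.card G = 4773) : False := by
  have : Fact (Nat.Prime 43) := ⟨by norm_num⟩
  have hc : Nat.card G = 43 ^ 1 * 111 := by rw [h]; norm_num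
  have hm : ¬ 43 ∣ 111 := by norm_num
  have hmem := card_sylow_mem_candidates hc hm
  have hcand : sylowCandidates 43 111 = [1] := by decide
  rw [hcand] at hmem
  simp only [List.mem_cons, List.not_mem_nil, or_false] at hmem
  have hlt := one_lt_card_sylow_of_card hc hm (by norm_num) (by norm_num)
  have hd := hmem
  · omega

theorem no_4774 {G : Type*} [Group G] [Finite G] [IsSimpleGroup G]
    (hG : ¬ IsMulCommutative G) (h : Nat.card G = 4774) : False := by
  exact ev hG (by rw [h]; exact ⟨2387, by norm_num⟩) (by rw [h]; omega)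

theorem no_4775 {G : Type*} [Group G] [Finite G] [IsSimpleGroup G]
    (hG : ¬ IsMulCommutative G) (h : Nat.card G = 4775) : False := by
  exact tp hG 5 191 2 1 (by norm_num) (by norm_num) (by rw [h]; norm_num)

theorem no_4776 {G : Type*} [Group G] [Finite G] [IsSimpleGroup G]
    (hG : ¬ IsMulCommutative G) (h : Nat.card G = 4776) : False := by
  have : Fact (Nat.Prime 199) := ⟨by norm_num⟩
  have hc : Nat.card G = 199 ^ 1 * 24 := by rw [h]; norm_num
  have hm : ¬ 199 ∣ 24 := by norm_num
  have hmem := card_sylow_mem_candidates hc hm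
  have hcand : sylowCandidates 199 24 = [1] := by decide
  rw [hcand] at hmem
  simp only [List.mem_cons, List.not_mem_nil, or_false] at hmem
  have hlt := one_lt_card_sylow_of_card hc hm (by norm_num) (by norm_num)
  have hd := hmem
  · omega

theorem no_4777 {G : Type*} [Group G] [Finite G] [IsSimpleGroup G]
    (hG : ¬ IsMulCommutative G) (h : Nat.card G = 4777) : False := by
  exact tp hG 17 281 1 1 (by norm_num) (by norm_num) (by rw [h]; norm_num)

theorem no_4778 {G : Type*} [Group G] [Finite G] [IsSimpleGroup G]
    (hG : ¬ IsMulCommutative G) (h : Nat.card G = 4778) : False := by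
  exact tp hG 2 2389 1 1 (by norm_num) (by norm_num) (by rw [h]; norm_num)

theorem no_4779 {G : Type*} [Group G] [Finite G] [IsSimpleGroup G]
    (hG : ¬ IsMulCommutative G) (h : Nat.card G = 4779) : False := by
  exact tp hG 3 59 4 1 (by norm_num) (by norm_num) (by rw [h]; norm_num)

theorem no_4780 {G : Type*} [Group G] [Finite G] [IsSimpleGroup G]
    (hG : ¬ IsMulCommutative G) (h : Nat.card G = 4780) : False := by
  exact ev hG (by rw [h]; exact ⟨2390, by norm_num⟩) (by rw [h]; omega)

theorem no_4781 {G : Type*} [Group G] [Finite G] [IsSimpleGroup G]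
    (hG : ¬ IsMulCommutative G) (h : Nat.card G = 4781) : False := by
  exact tp hG 7 683 1 1 (by norm_num) (by norm_num) (by rw [h]; norm_num)

theorem no_4782 {G : Type*} [Group G] [Finite G] [IsSimpleGroup G]
    (hG : ¬ IsMulCommutative G) (h : Nat.card G = 4782) : False := by
  exact ev hG (by rw [h]; exact ⟨2391, by norm_num⟩) (by rw [h]; omega)

theorem no_4783 {G : Type*} [Group G] [Finite G] [IsSimpleGroup G]
    (hG : ¬ IsMulCommutative G) (h : Nat.card G = 4783) : False := by
  exact tp hG 4783 2 1 0 (by norm_num) (by norm_num) (by rw [h]; norm_num)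

theorem no_4784 {G : Type*} [Group G] [Finite G] [IsSimpleGroup G]
    (hG : ¬ IsMulCommutative G) (h : Nat.card G = 4784) : False := by
  have : Fact (Nat.Prime 23) := ⟨by norm_num⟩
  have hc : Nat.card G = 23 ^ 1 * 208 := by rw [h]; norm_num
  have hm : ¬ 23 ∣ 208 := by norm_num
  have hmem := card_sylow_mem_candidates hc hm
  have hcand : sylowCandidates 23 208 = [1, 208] := by decide
  rw [hcand] at hmem
  simp only [List.mem_cons, List.not_mem_nil, or_false] at hmem
  have hlt := one_lt_card_sylow_of_card hc hm (by norm_num) (by norm_num)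
  rcases hmem with hd | hd
  · omega
  · exact burn_kill hc hm (by norm_num) 208 hd (by decide)

theorem no_4785 {G : Type*} [Group G] [Finite G] [IsSimpleGroup G]
    (hG : ¬ IsMulCommutative G) (h : Nat.card G = 4785) : False := by
  have : Fact (Nat.Prime 29) := ⟨by norm_num⟩
  have hc : Nat.card G = 29 ^ 1 * 165 := by rw [h]; norm_num
  have hm : ¬ 29 ∣ 165 := by norm_num
  have hmem := card_sylow_mem_candidates hc hm
  have hcand : sylowCandidates 29 165 = [1] := by decide
  rw [hcand] at hmem
  simp only [List.mem_cons, List.not_mem_nil, or_false] at hmem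
  have hlt := one_lt_card_sylow_of_card hc hm (by norm_num) (by norm_num)
  have hd := hmem
  · omega

theorem no_4786 {G : Type*} [Group G] [Finite G] [IsSimpleGroup G]
    (hG : ¬ IsMulCommutative G) (h : Nat.card G = 4786) : False := by
  exact tp hG 2 2393 1 1 (by norm_num) (by norm_num) (by rw [h]; norm_num)

theorem no_4787 {G : Type*} [Group G] [Finite G] [IsSimpleGroup G]
    (hG : ¬ IsMulCommutative G) (h : Nat.card G = 4787) : False := by
  exact tp hG 4787 2 1 0 (by norm_num) (by norm_num) (by rw [h]; norm_num)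

theorem no_4788 {G : Type*} [Group G] [Finite G] [IsSimpleGroup G]
    (hG : ¬ IsMulCommutative G) (h : Nat.card G = 4788) : False := by
  have : Fact (Nat.Prime 19) := ⟨by norm_num⟩
  have hc : Nat.card G = 19 ^ 1 * 252 := by rw [h]; norm_num
  have hm : ¬ 19 ∣ 252 := by norm_num
  have hmem := card_sylow_mem_candidates hc hm
  have hcand : sylowCandidates 19 252 = [1] := by decide
  rw [hcand] at hmem
  simp only [List.mem_cons, List.not_mem_nil, or_false] at hmem
  have hlt := one_lt_card_sylow_of_card hc hm (by norm_num) (by norm_num)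
  have hd := hmem
  · omega

theorem no_4789 {G : Type*} [Group G] [Finite G] [IsSimpleGroup G]
    (hG : ¬ IsMulCommutative G) (h : Nat.card G = 4789) : False := by
  exact tp hG 4789 2 1 0 (by norm_num) (by norm_num) (by rw [h]; norm_num)

theorem no_4790 {G : Type*} [Group G] [Finite G] [IsSimpleGroup G]
    (hG : ¬ IsMulCommutative G) (h : Nat.card G = 4790) : False := by
  exact ev hG (by rw [h]; exact ⟨2395, by norm_num⟩) (by rw [h]; omega)

theorem no_4791 {G : Type*} [Group G] [Finite G] [IsSimpleGroup G]
    (hG : ¬ IsMulCommutative G) (h : Nat.card G = 4791) : False := by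
  exact tp hG 3 1597 1 1 (by norm_num) (by norm_num) (by rw [h]; norm_num)

theorem no_4792 {G : Type*} [Group G] [Finite G] [IsSimpleGroup G]
    (hG : ¬ IsMulCommutative G) (h : Nat.card G = 4792) : False := by
  exact tp hG 2 599 3 1 (by norm_num) (by norm_num) (by rw [h]; norm_num)

theorem no_4793 {G : Type*} [Group G] [Finite G] [IsSimpleGroup G]
    (hG : ¬ IsMulCommutative G) (h : Nat.card G = 4793) : False := by
  exact tp hG 4793 2 1 0 (by norm_num) (by norm_num) (by rw [h]; norm_num)

theorem no_4794 {G : Type*} [Group G] [Finite G] [IsSimpleGroup G]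
    (hG : ¬ IsMulCommutative G) (h : Nat.card G = 4794) : False := by
  exact ev hG (by rw [h]; exact ⟨2397, by norm_num⟩) (by rw [h]; omega)

theorem no_4795 {G : Type*} [Group G] [Finite G] [IsSimpleGroup G]
    (hG : ¬ IsMulCommutative G) (h : Nat.card G = 4795) : False := by
  have : Fact (Nat.Prime 137) := ⟨by norm_num⟩
  have hc : Nat.card G = 137 ^ 1 * 35 := by rw [h]; norm_num
  have hm : ¬ 137 ∣ 35 := by norm_num
  have hmem := card_sylow_mem_candidates hc hm
  have hcand : sylowCandidates 137 35 = [1] := by decide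
  rw [hcand] at hmem
  simp only [List.mem_cons, List.not_mem_nil, or_false] at hmem
  have hlt := one_lt_card_sylow_of_card hc hm (by norm_num) (by norm_num)
  have hd := hmem
  · omega

theorem no_4796 {G : Type*} [Group G] [Finite G] [IsSimpleGroup G]
    (hG : ¬ IsMulCommutative G) (h : Nat.card G = 4796) : False := by
  exact ev hG (by rw [h]; exact ⟨2398, by norm_num⟩) (by rw [h]; omega)

theorem no_4797 {G : Type*} [Group G] [Finite G] [IsSimpleGroup G]
    (hG : ¬ IsMulCommutative G) (h : Nat.card G = 4797) : False := by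
  have : Fact (Nat.Prime 41) := ⟨by norm_num⟩
  have hc : Nat.card G = 41 ^ 1 * 117 := by rw [h]; norm_num
  have hm : ¬ 41 ∣ 117 := by norm_num
  have hmem := card_sylow_mem_candidates hc hm
  have hcand : sylowCandidates 41 117 = [1] := by decide
  rw [hcand] at hmem
  simp only [List.mem_cons, List.not_mem_nil, or_false] at hmem
  have hlt := one_lt_card_sylow_of_card hc hm (by norm_num) (by norm_num)
  have hd := hmem
  · omega

theorem no_4798 {G : Type*} [Group G] [Finite G] [IsSimpleGroup G]
    (hG : ¬ IsMulCommutative G) (h : Nat.card G = 4798) : False := by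
  exact tp hG 2 2399 1 1 (by norm_num) (by norm_num) (by rw [h]; norm_num)

theorem no_4799 {G : Type*} [Group G] [Finite G] [IsSimpleGroup G]
    (hG : ¬ IsMulCommutative G) (h : Nat.card G = 4799) : False := by
  exact tp hG 4799 2 1 0 (by norm_num) (by norm_num) (by rw [h]; norm_num)

/-- the orders in [4701, 4800] not excluded by the engine -/
theorem chunk {G : Type*} [Group G] [Finite G] [IsSimpleGroup G]
    (hG : ¬ IsMulCommutative G) (n : ℕ) (hn : Nat.card G = n) (h1 : 4701 ≤ n) (h2 : n ≤ 4800) :
    n = 4725 ∨ n = 4760 ∨ n = 4800 := by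
  interval_cases n
  · exact (no_4701 hG hn).elim
  · exact (no_4702 hG hn).elim
  · exact (no_4703 hG hn).elim
  · exact (no_4704 hG hn).elim
  · exact (no_4705 hG hn).elim
  · exact (no_4706 hG hn).elim
  · exact (no_4707 hG hn).elim
  · exact (no_4708 hG hn).elim
  · exact (no_4709 hG hn).elim
  · exact (no_4710 hG hn).elim
  · exact (no_4711 hG hn).elim
  · exact (no_4712 hG hn).elim
  · exact (no_4713 hG hn).elim
  · exact (no_4714 hG hn).elim
  · exact (no_4715 hG hn).elim
  · exact (no_4716 hG hn).elim
  · exact (no_4717 hG hn).elim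
  · exact (no_4718 hG hn).elim
  · exact (no_4719 hG hn).elim
  · exact (no_4720 hG hn).elim
  · exact (no_4721 hG hn).elim
  · exact (no_4722 hG hn).elim
  · exact (no_4723 hG hn).elim
  · exact (no_4724 hG hn).elim
  · simp
  · exact (no_4726 hG hn).elim
  · exact (no_4727 hG hn).elim
  · exact (no_4728 hG hn).elim
  · exact (no_4729 hG hn).elim
  · exact (no_4730 hG hn).elim
  · exact (no_4731 hG hn).elim
  · exact (no_4732 hG hn).elim
  · exact (no_4733 hG hn).elim
  · exact (no_4734 hG hn).elim
  · exact (no_4735 hG hn).elim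
  · exact (no_4736 hG hn).elim
  · exact (no_4737 hG hn).elim
  · exact (no_4738 hG hn).elim
  · exact (no_4739 hG hn).elim
  · exact (no_4740 hG hn).elim
  · exact (no_4741 hG hn).elim
  · exact (no_4742 hG hn).elim
  · exact (no_4743 hG hn).elim
  · exact (no_4744 hG hn).elim
  · exact (no_4745 hG hn).elim
  · exact (no_4746 hG hn).elim
  · exact (no_4747 hG hn).elim
  · exact (no_4748 hG hn).elim
  · exact (no_4749 hG hn).elim
  · exact (no_4750 hG hn).elim
  · exact (no_4751 hG hn).elim
  · exact (no_4752 hG hn).elim
  · exact (no_4753 hG hn).elim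
  · exact (no_4754 hG hn).elim
  · exact (no_4755 hG hn).elim
  · exact (no_4756 hG hn).elim
  · exact (no_4757 hG hn).elim
  · exact (no_4758 hG hn).elim
  · exact (no_4759 hG hn).elim
  · simp
  · exact (no_4761 hG hn).elim
  · exact (no_4762 hG hn).elim
  · exact (no_4763 hG hn).elim
  · exact (no_4764 hG hn).elim
  · exact (no_4765 hG hn).elim
  · exact (no_4766 hG hn).elim
  · exact (no_4767 hG hn).elim
  · exact (no_4768 hG hn).elim
  · exact (no_4769 hG hn).elim
  · exact (no_4770 hG hn).elim
  · exact (no_4771 hG hn).elim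
  · exact (no_4772 hG hn).elim
  · exact (no_4773 hG hn).elim
  · exact (no_4774 hG hn).elim
  · exact (no_4775 hG hn).elim
  · exact (no_4776 hG hn).elim
  · exact (no_4777 hG hn).elim
  · exact (no_4778 hG hn).elim
  · exact (no_4779 hG hn).elim
  · exact (no_4780 hG hn).elim
  · exact (no_4781 hG hn).elim
  · exact (no_4782 hG hn).elim
  · exact (no_4783 hG hn).elim
  · exact (no_4784 hG hn).elim
  · exact (no_4785 hG hn).elim
  · exact (no_4786 hG hn).elim
  · exact (no_4787 hG hn).elim
  · exact (no_4788 hG hn).elim
  · exact (no_4789 hG hn).elim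
  · exact (no_4790 hG hn).elim
  · exact (no_4791 hG hn).elim
  · exact (no_4792 hG hn).elim
  · exact (no_4793 hG hn).elim
  · exact (no_4794 hG hn).elim
  · exact (no_4795 hG hn).elim
  · exact (no_4796 hG hn).elim
  · exact (no_4797 hG hn).elim
  · exact (no_4798 hG hn).elim
  · exact (no_4799 hG hn).elim
  · simp

end Cfsg.Agent.Lib.Helper16_SO_E11
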