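import Mathlib
import Cfsg.Agent.Lib.Helper75_SM_Base

/-!
# S0983 engine, generated file: no simple group of order N for the easy N in [4801, 4900]
(helper16; same scheme as helper75's `Helper75_SM_E*`)
-/

set_option autoImplicit false
set_option linter.unusedVariables false

namespace Cfsg.Agent.Lib.Helper16_SO_E12

open Cfsg.Agent.Lib.Helper17_Sylow Cfsg.Agent.Lib.Helper75_SM_Base

theorem no_4801 {G : Type*} [Group G] [Finite G] [IsSimpleGroup G]
    (hG : ¬ IsMulCommutative G) (h : Nat.card G = 4801) : False := by
  exact tp hG 4801 2 1 0 (by norm_num) (by norm_num) (by rw [h]; norm_num)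

theorem no_4802 {G : Type*} [Group G] [Finite G] [IsSimpleGroup G]
    (hG : ¬ IsMulCommutative G) (h : Nat.card G = 4802) : False := by
  exact tp hG 2 7 1 4 (by norm_num) (by norm_num) (by rw [h]; norm_num)

theorem no_4803 {G : Type*} [Group G] [Finite G] [IsSimpleGroup G]
    (hG : ¬ IsMulCommutative G) (h : Nat.card G = 4803) : False := by
  exact tp hG 3 1601 1 1 (by norm_num) (by norm_num) (by rw [h]; norm_num)

theorem no_4804 {G : Type*} [Group G] [Finite G] [IsSimpleGroup G]
    (hG : ¬ IsMulCommutative G) (h : Nat.card G = 4804) : False := by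
  exact tp hG 2 1201 2 1 (by norm_num) (by norm_num) (by rw [h]; norm_num)

theorem no_4805 {G : Type*} [Group G] [Finite G] [IsSimpleGroup G]
    (hG : ¬ IsMulCommutative G) (h : Nat.card G = 4805) : False := by
  exact tp hG 5 31 1 2 (by norm_num) (by norm_num) (by rw [h]; norm_num)

theorem no_4806 {G : Type*} [Group G] [Finite G] [IsSimpleGroup G]
    (hG : ¬ IsMulCommutative G) (h : Nat.card G = 4806) : False := by
  exact ev hG (by rw [h]; exact ⟨2403, by norm_num⟩) (by rw [h]; omega)

theorem no_4807 {G : Type*} [Group G] [Finite G] [IsSimpleGroup G]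
    (hG : ¬ IsMulCommutative G) (h : Nat.card G = 4807) : False := by
  have : Fact (Nat.Prime 23) := ⟨by norm_num⟩
  have hc : Nat.card G = 23 ^ 1 * 209 := by rw [h]; norm_num
  have hm : ¬ 23 ∣ 209 := by norm_num
  have hmem := card_sylow_mem_candidates hc hm
  have hcand : sylowCandidates 23 209 = [1] := by decide
  rw [hcand] at hmem
  simp only [List.mem_cons, List.not_mem_nil, or_false] at hmem
  have hlt := one_lt_card_sylow_of_card hc hm (by norm_num) (by norm_num)
  have hd := hmem
  · omega

theorem no_4808 {G : Type*} [Group G] [Finite G] [IsSimpleGroup G]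
    (hG : ¬ IsMulCommutative G) (h : Nat.card G = 4808) : False := by
  exact tp hG 2 601 3 1 (by norm_num) (by norm_num) (by rw [h]; norm_num)

theorem no_4809 {G : Type*} [Group G] [Finite G] [IsSimpleGroup G]
    (hG : ¬ IsMulCommutative G) (h : Nat.card G = 4809) : False := by
  have : Fact (Nat.Prime 229) := ⟨by norm_num⟩
  have hc : Nat.card G = 229 ^ 1 * 21 := by rw [h]; norm_num
  have hm : ¬ 229 ∣ 21 := by norm_num
  have hmem := card_sylow_mem_candidates hc hm
  have hcand : sylowCandidates 229 21 = [1] := by decide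
  rw [hcand] at hmem
  simp only [List.mem_cons, List.not_mem_nil, or_false] at hmem
  have hlt := one_lt_card_sylow_of_card hc hm (by norm_num) (by norm_num)
  have hd := hmem
  · omega

theorem no_4810 {G : Type*} [Group G] [Finite G] [IsSimpleGroup G]
    (hG : ¬ IsMulCommutative G) (h : Nat.card G = 4810) : False := by
  exact ev hG (by rw [h]; exact ⟨2405, by norm_num⟩) (by rw [h]; omega)

theorem no_4811 {G : Type*} [Group G] [Finite G] [IsSimpleGroup G]
    (hG : ¬ IsMulCommutative G) (h : Nat.card G = 4811) : False := by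
  exact tp hG 17 283 1 1 (by norm_num) (by norm_num) (by rw [h]; norm_num)

theorem no_4812 {G : Type*} [Group G] [Finite G] [IsSimpleGroup G]
    (hG : ¬ IsMulCommutative G) (h : Nat.card G = 4812) : False := by
  have : Fact (Nat.Prime 401) := ⟨by norm_num⟩
  have hc : Nat.card G = 401 ^ 1 * 12 := by rw [h]; norm_num
  have hm : ¬ 401 ∣ 12 := by norm_num
  have hmem := card_sylow_mem_candidates hc hm
  have hcand : sylowCandidates 401 12 = [1] := by decide
  rw [hcand] at hmem
  simp only [List.mem_cons, List.not_mem_nil, or_false] at hmem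
  have hlt := one_lt_card_sylow_of_card hc hm (by norm_num) (by norm_num)
  have hd := hmem
  · omega

theorem no_4813 {G : Type*} [Group G] [Finite G] [IsSimpleGroup G]
    (hG : ¬ IsMulCommutative G) (h : Nat.card G = 4813) : False := by
  exact tp hG 4813 2 1 0 (by norm_num) (by norm_num) (by rw [h]; norm_num)

theorem no_4814 {G : Type*} [Group G] [Finite G] [IsSimpleGroup G]
    (hG : ¬ IsMulCommutative G) (h : Nat.card G = 4814) : False := by
  exact ev hG (by rw [h]; exact ⟨2407, by norm_num⟩) (by rw [h]; omega)

theorem no_4815 {G : Type*} [Group G] [Finite G] [IsSimpleGroup G]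
    (hG : ¬ IsMulCommutative G) (h : Nat.card G = 4815) : False := by
  have : Fact (Nat.Prime 107) := ⟨by norm_num⟩
  have hc : Nat.card G = 107 ^ 1 * 45 := by rw [h]; norm_num
  have hm : ¬ 107 ∣ 45 := by norm_num
  have hmem := card_sylow_mem_candidates hc hm
  have hcand : sylowCandidates 107 45 = [1] := by decide
  rw [hcand] at hmem
  simp only [List.mem_cons, List.not_mem_nil, or_false] at hmem
  have hlt := one_lt_card_sylow_of_card hc hm (by norm_num) (by norm_num)
  have hd := hmem
  · omega

theorem no_4816 {G : Type*} [Group G] [Finite G] [IsSimpleGroup G]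
    (hG : ¬ IsMulCommutative G) (h : Nat.card G = 4816) : False := by
  have : Fact (Nat.Prime 43) := ⟨by norm_num⟩
  have hc : Nat.card G = 43 ^ 1 * 112 := by rw [h]; norm_num
  have hm : ¬ 43 ∣ 112 := by norm_num
  have hmem := card_sylow_mem_candidates hc hm
  have hcand : sylowCandidates 43 112 = [1] := by decide
  rw [hcand] at hmem
  simp only [List.mem_cons, List.not_mem_nil, or_false] at hmem
  have hlt := one_lt_card_sylow_of_card hc hm (by norm_num) (by norm_num)
  have hd := hmem
  · omega

theorem no_4817 {G : Type*} [Group G] [Finite G] [IsSimpleGroup G]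
    (hG : ¬ IsMulCommutative G) (h : Nat.card G = 4817) : False := by
  exact tp hG 4817 2 1 0 (by norm_num) (by norm_num) (by rw [h]; norm_num)

theorem no_4818 {G : Type*} [Group G] [Finite G] [IsSimpleGroup G]
    (hG : ¬ IsMulCommutative G) (h : Nat.card G = 4818) : False := by
  exact ev hG (by rw [h]; exact ⟨2409, by norm_num⟩) (by rw [h]; omega)

theorem no_4819 {G : Type*} [Group G] [Finite G] [IsSimpleGroup G]
    (hG : ¬ IsMulCommutative G) (h : Nat.card G = 4819) : False := by
  exact tp hG 61 79 1 1 (by norm_num) (by norm_num) (by rw [h]; norm_num)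

theorem no_4820 {G : Type*} [Group G] [Finite G] [IsSimpleGroup G]
    (hG : ¬ IsMulCommutative G) (h : Nat.card G = 4820) : False := by
  exact ev hG (by rw [h]; exact ⟨2410, by norm_num⟩) (by rw [h]; omega)

theorem no_4821 {G : Type*} [Group G] [Finite G] [IsSimpleGroup G]
    (hG : ¬ IsMulCommutative G) (h : Nat.card G = 4821) : False := by
  exact tp hG 3 1607 1 1 (by norm_num) (by norm_num) (by rw [h]; norm_num)

theorem no_4822 {G : Type*} [Group G] [Finite G] [IsSimpleGroup G]
    (hG : ¬ IsMulCommutative G) (h : Nat.card G = 4822) : False := by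
  exact tp hG 2 2411 1 1 (by norm_num) (by norm_num) (by rw [h]; norm_num)

theorem no_4823 {G : Type*} [Group G] [Finite G] [IsSimpleGroup G]
    (hG : ¬ IsMulCommutative G) (h : Nat.card G = 4823) : False := by
  have : Fact (Nat.Prime 53) := ⟨by norm_num⟩
  have hc : Nat.card G = 53 ^ 1 * 91 := by rw [h]; norm_num
  have hm : ¬ 53 ∣ 91 := by norm_num
  have hmem := card_sylow_mem_candidates hc hm
  have hcand : sylowCandidates 53 91 = [1] := by decide
  rw [hcand] at hmem
  simp only [List.mem_cons, List.not_mem_nil, or_false] at hmem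
  have hlt := one_lt_card_sylow_of_card hc hm (by norm_num) (by norm_num)
  have hd := hmem
  · omega

theorem no_4824 {G : Type*} [Group G] [Finite G] [IsSimpleGroup G]
    (hG : ¬ IsMulCommutative G) (h : Nat.card G = 4824) : False := by
  have : Fact (Nat.Prime 67) := ⟨by norm_num⟩
  have hc : Nat.card G = 67 ^ 1 * 72 := by rw [h]; norm_num
  have hm : ¬ 67 ∣ 72 := by norm_num
  have hmem := card_sylow_mem_candidates hc hm
  have hcand : sylowCandidates 67 72 = [1] := by decide
  rw [hcand] at hmem
  simp only [List.mem_cons, List.not_mem_nil, or_false] at hmem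
  have hlt := one_lt_card_sylow_of_card hc hm (by norm_num) (by norm_num)
  have hd := hmem
  · omega

theorem no_4825 {G : Type*} [Group G] [Finite G] [IsSimpleGroup G]
    (hG : ¬ IsMulCommutative G) (h : Nat.card G = 4825) : False := by
  exact tp hG 5 193 2 1 (by norm_num) (by norm_num) (by rw [h]; norm_num)

theorem no_4826 {G : Type*} [Group G] [Finite G] [IsSimpleGroup G]
    (hG : ¬ IsMulCommutative G) (h : Nat.card G = 4826) : False := by
  exact ev hG (by rw [h]; exact ⟨2413, by norm_num⟩) (by rw [h]; omega)

theorem no_4827 {G : Type*} [Group G] [Finite G] [IsSimpleGroup G]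
    (hG : ¬ IsMulCommutative G) (h : Nat.card G = 4827) : False := by
  exact tp hG 3 1609 1 1 (by norm_num) (by norm_num) (by rw [h]; norm_num)

theorem no_4828 {G : Type*} [Group G] [Finite G] [IsSimpleGroup G]
    (hG : ¬ IsMulCommutative G) (h : Nat.card G = 4828) : False := by
  exact ev hG (by rw [h]; exact ⟨2414, by norm_num⟩) (by rw [h]; omega)

theorem no_4829 {G : Type*} [Group G] [Finite G] [IsSimpleGroup G]
    (hG : ¬ IsMulCommutative G) (h : Nat.card G = 4829) : False := by
  exact tp hG 11 439 1 1 (by norm_num) (by norm_num) (by rw [h]; norm_num)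

theorem no_4830 {G : Type*} [Group G] [Finite G] [IsSimpleGroup G]
    (hG : ¬ IsMulCommutative G) (h : Nat.card G = 4830) : False := by
  exact ev hG (by rw [h]; exact ⟨2415, by norm_num⟩) (by rw [h]; omega)

theorem no_4831 {G : Type*} [Group G] [Finite G] [IsSimpleGroup G]
    (hG : ¬ IsMulCommutative G) (h : Nat.card G = 4831) : False := by
  exact tp hG 4831 2 1 0 (by norm_num) (by norm_num) (by rw [h]; norm_num)

theorem no_4832 {G : Type*} [Group G] [Finite G] [IsSimpleGroup G]
    (hG : ¬ IsMulCommutative G) (h : Nat.card G = 4832) : False := by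
  exact tp hG 2 151 5 1 (by norm_num) (by norm_num) (by rw [h]; norm_num)

theorem no_4833 {G : Type*} [Group G] [Finite G] [IsSimpleGroup G]
    (hG : ¬ IsMulCommutative G) (h : Nat.card G = 4833) : False := by
  exact tp hG 3 179 3 1 (by norm_num) (by norm_num) (by rw [h]; norm_num)

theorem no_4834 {G : Type*} [Group G] [Finite G] [IsSimpleGroup G]
    (hG : ¬ IsMulCommutative G) (h : Nat.card G = 4834) : False := by
  exact tp hG 2 2417 1 1 (by norm_num) (by norm_num) (by rw [h]; norm_num)

theorem no_4835 {G : Type*} [Group G] [Finite G] [IsSimpleGroup G]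
    (hG : ¬ IsMulCommutative G) (h : Nat.card G = 4835) : False := by
  exact tp hG 5 967 1 1 (by norm_num) (by norm_num) (by rw [h]; norm_num)

theorem no_4836 {G : Type*} [Group G] [Finite G] [IsSimpleGroup G]
    (hG : ¬ IsMulCommutative G) (h : Nat.card G = 4836) : False := by
  have : Fact (Nat.Prime 31) := ⟨by norm_num⟩
  have hc : Nat.card G = 31 ^ 1 * 156 := by rw [h]; norm_num
  have hm : ¬ 31 ∣ 156 := by norm_num
  have hmem := card_sylow_mem_candidates hc hm
  have hcand : sylowCandidates 31 156 = [1, 156] := by decide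
  rw [hcand] at hmem
  simp only [List.mem_cons, List.not_mem_nil, or_false] at hmem
  have hlt := one_lt_card_sylow_of_card hc hm (by norm_num) (by norm_num)
  rcases hmem with hd | hd
  · omega
  · exact burn_kill hc hm (by norm_num) 156 hd (by decide)

theorem no_4837 {G : Type*} [Group G] [Finite G] [IsSimpleGroup G]
    (hG : ¬ IsMulCommutative G) (h : Nat.card G = 4837) : False := by
  exact tp hG 7 691 1 1 (by norm_num) (by norm_num) (by rw [h]; norm_num)

theorem no_4838 {G : Type*} [Group G] [Finite G] [IsSimpleGroup G]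
    (hG : ¬ IsMulCommutative G) (h : Nat.card G = 4838) : False := by
  exact ev hG (by rw [h]; exact ⟨2419, by norm_num⟩) (by rw [h]; omega)

theorem no_4839 {G : Type*} [Group G] [Finite G] [IsSimpleGroup G]
    (hG : ¬ IsMulCommutative G) (h : Nat.card G = 4839) : False := by
  exact tp hG 3 1613 1 1 (by norm_num) (by norm_num) (by rw [h]; norm_num)

theorem no_4840 {G : Type*} [Group G] [Finite G] [IsSimpleGroup G]
    (hG : ¬ IsMulCommutative G) (h : Nat.card G = 4840) : False := by
  exact ev hG (by rw [h]; exact ⟨2420, by norm_num⟩) (by rw [h]; omega)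

theorem no_4841 {G : Type*} [Group G] [Finite G] [IsSimpleGroup G]
    (hG : ¬ IsMulCommutative G) (h : Nat.card G = 4841) : False := by
  exact tp hG 47 103 1 1 (by norm_num) (by norm_num) (by rw [h]; norm_num)

theorem no_4842 {G : Type*} [Group G] [Finite G] [IsSimpleGroup G]
    (hG : ¬ IsMulCommutative G) (h : Nat.card G = 4842) : False := by
  exact ev hG (by rw [h]; exact ⟨2421, by norm_num⟩) (by rw [h]; omega)

theorem no_4843 {G : Type*} [Group G] [Finite G] [IsSimpleGroup G]
    (hG : ¬ IsMulCommutative G) (h : Nat.card G = 4843) : False := by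
  exact tp hG 29 167 1 1 (by norm_num) (by norm_num) (by rw [h]; norm_num)

theorem no_4844 {G : Type*} [Group G] [Finite G] [IsSimpleGroup G]
    (hG : ¬ IsMulCommutative G) (h : Nat.card G = 4844) : False := by
  exact ev hG (by rw [h]; exact ⟨2422, by norm_num⟩) (by rw [h]; omega)

theorem no_4845 {G : Type*} [Group G] [Finite G] [IsSimpleGroup G]
    (hG : ¬ IsMulCommutative G) (h : Nat.card G = 4845) : False := by
  have : Fact (Nat.Prime 19) := ⟨by norm_num⟩
  have hc : Nat.card G = 19 ^ 1 * 255 := by rw [h]; norm_num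
  have hm : ¬ 19 ∣ 255 := by norm_num
  have hmem := card_sylow_mem_candidates hc hm
  have hcand : sylowCandidates 19 255 = [1] := by decide
  rw [hcand] at hmem
  simp only [List.mem_cons, List.not_mem_nil, or_false] at hmem
  have hlt := one_lt_card_sylow_of_card hc hm (by norm_num) (by norm_num)
  have hd := hmem
  · omega

theorem no_4846 {G : Type*} [Group G] [Finite G] [IsSimpleGroup G]
    (hG : ¬ IsMulCommutative G) (h : Nat.card G = 4846) : False := by
  exact tp hG 2 2423 1 1 (by norm_num) (by norm_num) (by rw [h]; norm_num)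

theorem no_4847 {G : Type*} [Group G] [Finite G] [IsSimpleGroup G]
    (hG : ¬ IsMulCommutative G) (h : Nat.card G = 4847) : False := by
  exact tp hG 37 131 1 1 (by norm_num) (by norm_num) (by rw [h]; norm_num)

theorem no_4848 {G : Type*} [Group G] [Finite G] [IsSimpleGroup G]
    (hG : ¬ IsMulCommutative G) (h : Nat.card G = 4848) : False := by
  have : Fact (Nat.Prime 101) := ⟨by norm_num⟩
  have hc : Nat.card G = 101 ^ 1 * 48 := by rw [h]; norm_num
  have hm : ¬ 101 ∣ 48 := by norm_num
  have hmem := card_sylow_mem_candidates hc hm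
  have hcand : sylowCandidates 101 48 = [1] := by decide
  rw [hcand] at hmem
  simp only [List.mem_cons, List.not_mem_nil, or_false] at hmem
  have hlt := one_lt_card_sylow_of_card hc hm (by norm_num) (by norm_num)
  have hd := hmem
  · omega

theorem no_4849 {G : Type*} [Group G] [Finite G] [IsSimpleGroup G]
    (hG : ¬ IsMulCommutative G) (h : Nat.card G = 4849) : False := by
  exact tp hG 13 373 1 1 (by norm_num) (by norm_num) (by rw [h]; norm_num)

theorem no_4850 {G : Type*} [Group G] [Finite G] [IsSimpleGroup G]
    (hG : ¬ IsMulCommutative G) (h : Nat.card G = 4850) : False := by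
  exact ev hG (by rw [h]; exact ⟨2425, by norm_num⟩) (by rw [h]; omega)

theorem no_4851 {G : Type*} [Group G] [Finite G] [IsSimpleGroup G]
    (hG : ¬ IsMulCommutative G) (h : Nat.card G = 4851) : False := by
  have : Fact (Nat.Prime 7) := ⟨by norm_num⟩
  have hc : Nat.card G = 7 ^ 2 * 99 := by rw [h]; norm_num
  have hm : ¬ 7 ∣ 99 := by norm_num
  have hmem := card_sylow_mem_candidates hc hm
  have hcand : sylowCandidates 7 99 = [1, 99] := by decide
  rw [hcand] at hmem
  simp only [List.mem_cons, List.not_mem_nil, or_false] at hmem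
  have hlt := one_lt_card_sylow_of_card hc hm (by norm_num) (by norm_num)
  rcases hmem with hd | hd
  · omega
  · exact burn2_kill hc hm (by norm_num) hd

theorem no_4852 {G : Type*} [Group G] [Finite G] [IsSimpleGroup G]
    (hG : ¬ IsMulCommutative G) (h : Nat.card G = 4852) : False := by
  exact tp hG 2 1213 2 1 (by norm_num) (by norm_num) (by rw [h]; norm_num)

theorem no_4853 {G : Type*} [Group G] [Finite G] [IsSimpleGroup G]
    (hG : ¬ IsMulCommutative G) (h : Nat.card G = 4853) : False := by
  exact tp hG 23 211 1 1 (by norm_num) (by norm_num) (by rw [h]; norm_num)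

theorem no_4854 {G : Type*} [Group G] [Finite G] [IsSimpleGroup G]
    (hG : ¬ IsMulCommutative G) (h : Nat.card G = 4854) : False := by
  exact ev hG (by rw [h]; exact ⟨2427, by norm_num⟩) (by rw [h]; omega)

theorem no_4855 {G : Type*} [Group G] [Finite G] [IsSimpleGroup G]
    (hG : ¬ IsMulCommutative G) (h : Nat.card G = 4855) : False := by
  exact tp hG 5 971 1 1 (by norm_num) (by norm_num) (by rw [h]; norm_num)

theorem no_4856 {G : Type*} [Group G] [Finite G] [IsSimpleGroup G]
    (hG : ¬ IsMulCommutative G) (h : Nat.card G = 4856) : False := by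
  exact tp hG 2 607 3 1 (by norm_num) (by norm_num) (by rw [h]; norm_num)

theorem no_4857 {G : Type*} [Group G] [Finite G] [IsSimpleGroup G]
    (hG : ¬ IsMulCommutative G) (h : Nat.card G = 4857) : False := by
  exact tp hG 3 1619 1 1 (by norm_num) (by norm_num) (by rw [h]; norm_num)

theorem no_4858 {G : Type*} [Group G] [Finite G] [IsSimpleGroup G]
    (hG : ¬ IsMulCommutative G) (h : Nat.card G = 4858) : False := by
  exact ev hG (by rw [h]; exact ⟨2429, by norm_num⟩) (by rw [h]; omega)

theorem no_4859 {G : Type*} [Group G] [Finite G] [IsSimpleGroup G]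
    (hG : ¬ IsMulCommutative G) (h : Nat.card G = 4859) : False := by
  exact tp hG 43 113 1 1 (by norm_num) (by norm_num) (by rw [h]; norm_num)

theorem no_4860 {G : Type*} [Group G] [Finite G] [IsSimpleGroup G]
    (hG : ¬ IsMulCommutative G) (h : Nat.card G = 4860) : False := by
  have : Fact (Nat.Prime 3) := ⟨by norm_num⟩
  have hc : Nat.card G = 3 ^ 5 * 20 := by rw [h]; norm_num
  have hm : ¬ 3 ∣ 20 := by norm_num
  have hmem := card_sylow_mem_candidates hc hm
  have hcand : sylowCandidates 3 20 = [1, 4, 10] := by decide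
  rw [hcand] at hmem
  simp only [List.mem_cons, List.not_mem_nil, or_false] at hmem
  have hlt := one_lt_card_sylow_of_card hc hm (by norm_num) (by norm_num)
  rcases hmem with hd | hd | hd
  · omega
  · exact fact_kill hG 4 hd (by norm_num) (by rw [h]; decide)
  · exact fact_kill hG 10 hd (by norm_num) (by rw [h]; decide)

theorem no_4861 {G : Type*} [Group G] [Finite G] [IsSimpleGroup G]
    (hG : ¬ IsMulCommutative G) (h : Nat.card G = 4861) : False := by
  exact tp hG 4861 2 1 0 (by norm_num) (by norm_num) (by rw [h]; norm_num)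

theorem no_4862 {G : Type*} [Group G] [Finite G] [IsSimpleGroup G]
    (hG : ¬ IsMulCommutative G) (h : Nat.card G = 4862) : False := by
  exact ev hG (by rw [h]; exact ⟨2431, by norm_num⟩) (by rw [h]; omega)

theorem no_4863 {G : Type*} [Group G] [Finite G] [IsSimpleGroup G]
    (hG : ¬ IsMulCommutative G) (h : Nat.card G = 4863) : False := by
  exact tp hG 3 1621 1 1 (by norm_num) (by norm_num) (by rw [h]; norm_num)

theorem no_4864 {G : Type*} [Group G] [Finite G] [IsSimpleGroup G]
    (hG : ¬ IsMulCommutative G) (h : Nat.card G = 4864) : False := by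
  exact tp hG 2 19 8 1 (by norm_num) (by norm_num) (by rw [h]; norm_num)

theorem no_4865 {G : Type*} [Group G] [Finite G] [IsSimpleGroup G]
    (hG : ¬ IsMulCommutative G) (h : Nat.card G = 4865) : False := by
  have : Fact (Nat.Prime 139) := ⟨by norm_num⟩
  have hc : Nat.card G = 139 ^ 1 * 35 := by rw [h]; norm_num
  have hm : ¬ 139 ∣ 35 := by norm_num
  have hmem := card_sylow_mem_candidates hc hm
  have hcand : sylowCandidates 139 35 = [1] := by decide
  rw [hcand] at hmem
  simp only [List.mem_cons, List.not_mem_nil, or_false] at hmem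
  have hlt := one_lt_card_sylow_of_card hc hm (by norm_num) (by norm_num)
  have hd := hmem
  · omega

theorem no_4866 {G : Type*} [Group G] [Finite G] [IsSimpleGroup G]
    (hG : ¬ IsMulCommutative G) (h : Nat.card G = 4866) : False := by
  exact ev hG (by rw [h]; exact ⟨2433, by norm_num⟩) (by rw [h]; omega)

theorem no_4867 {G : Type*} [Group G] [Finite G] [IsSimpleGroup G]
    (hG : ¬ IsMulCommutative G) (h : Nat.card G = 4867) : False := by
  exact tp hG 31 157 1 1 (by norm_num) (by norm_num) (by rw [h]; norm_num)

theorem no_4868 {G : Type*} [Group G] [Finite G] [IsSimpleGroup G]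
    (hG : ¬ IsMulCommutative G) (h : Nat.card G = 4868) : False := by
  exact tp hG 2 1217 2 1 (by norm_num) (by norm_num) (by rw [h]; norm_num)

theorem no_4869 {G : Type*} [Group G] [Finite G] [IsSimpleGroup G]
    (hG : ¬ IsMulCommutative G) (h : Nat.card G = 4869) : False := by
  exact tp hG 3 541 2 1 (by norm_num) (by norm_num) (by rw [h]; norm_num)

theorem no_4870 {G : Type*} [Group G] [Finite G] [IsSimpleGroup G]
    (hG : ¬ IsMulCommutative G) (h : Nat.card G = 4870) : False := by
  exact ev hG (by rw [h]; exact ⟨2435, by norm_num⟩) (by rw [h]; omega)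

theorem no_4871 {G : Type*} [Group G] [Finite G] [IsSimpleGroup G]
    (hG : ¬ IsMulCommutative G) (h : Nat.card G = 4871) : False := by
  exact tp hG 4871 2 1 0 (by norm_num) (by norm_num) (by rw [h]; norm_num)

theorem no_4872 {G : Type*} [Group G] [Finite G] [IsSimpleGroup G]
    (hG : ¬ IsMulCommutative G) (h : Nat.card G = 4872) : False := by
  have : Fact (Nat.Prime 29) := ⟨by norm_num⟩
  have hc : Nat.card G = 29 ^ 1 * 168 := by rw [h]; norm_num
  have hm : ¬ 29 ∣ 168 := by norm_num
  have hmem := card_sylow_mem_candidates hc hm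
  have hcand : sylowCandidates 29 168 = [1] := by decide
  rw [hcand] at hmem
  simp only [List.mem_cons, List.not_mem_nil, or_false] at hmem
  have hlt := one_lt_card_sylow_of_card hc hm (by norm_num) (by norm_num)
  have hd := hmem
  · omega

theorem no_4873 {G : Type*} [Group G] [Finite G] [IsSimpleGroup G]
    (hG : ¬ IsMulCommutative G) (h : Nat.card G = 4873) : False := by
  exact tp hG 11 443 1 1 (by norm_num) (by norm_num) (by rw [h]; norm_num)

theorem no_4874 {G : Type*} [Group G] [Finite G] [IsSimpleGroup G]
    (hG : ¬ IsMulCommutative G) (h : Nat.card G = 4874) : False := by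
  exact tp hG 2 2437 1 1 (by norm_num) (by norm_num) (by rw [h]; norm_num)

theorem no_4875 {G : Type*} [Group G] [Finite G] [IsSimpleGroup G]
    (hG : ¬ IsMulCommutative G) (h : Nat.card G = 4875) : False := by
  have : Fact (Nat.Prime 5) := ⟨by norm_num⟩
  have hc : Nat.card G = 5 ^ 3 * 39 := by rw [h]; norm_num
  have hm : ¬ 5 ∣ 39 := by norm_num
  have hmem := card_sylow_mem_candidates hc hm
  have hcand : sylowCandidates 5 39 = [1] := by decide
  rw [hcand] at hmem
  simp only [List.mem_cons, List.not_mem_nil, or_false] at hmem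
  have hlt := one_lt_card_sylow_of_card hc hm (by norm_num) (by norm_num)
  have hd := hmem
  · omega

theorem no_4876 {G : Type*} [Group G] [Finite G] [IsSimpleGroup G]
    (hG : ¬ IsMulCommutative G) (h : Nat.card G = 4876) : False := by
  exact ev hG (by rw [h]; exact ⟨2438, by norm_num⟩) (by rw [h]; omega)

theorem no_4877 {G : Type*} [Group G] [Finite G] [IsSimpleGroup G]
    (hG : ¬ IsMulCommutative G) (h : Nat.card G = 4877) : False := by
  exact tp hG 4877 2 1 0 (by norm_num) (by norm_num) (by rw [h]; norm_num)

theorem no_4878 {G : Type*} [Group G] [Finite G] [IsSimpleGroup G]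
    (hG : ¬ IsMulCommutative G) (h : Nat.card G = 4878) : False := by
  exact ev hG (by rw [h]; exact ⟨2439, by norm_num⟩) (by rw [h]; omega)

theorem no_4879 {G : Type*} [Group G] [Finite G] [IsSimpleGroup G]
    (hG : ¬ IsMulCommutative G) (h : Nat.card G = 4879) : False := by
  have : Fact (Nat.Prime 41) := ⟨by norm_num⟩
  have hc : Nat.card G = 41 ^ 1 * 119 := by rw [h]; norm_num
  have hm : ¬ 41 ∣ 119 := by norm_num
  have hmem := card_sylow_mem_candidates hc hm
  have hcand : sylowCandidates 41 119 = [1] := by decide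
  rw [hcand] at hmem
  simp only [List.mem_cons, List.not_mem_nil, or_false] at hmem
  have hlt := one_lt_card_sylow_of_card hc hm (by norm_num) (by norm_num)
  have hd := hmem
  · omega

theorem no_4880 {G : Type*} [Group G] [Finite G] [IsSimpleGroup G]
    (hG : ¬ IsMulCommutative G) (h : Nat.card G = 4880) : False := by
  have : Fact (Nat.Prime 61) := ⟨by norm_num⟩
  have hc : Nat.card G = 61 ^ 1 * 80 := by rw [h]; norm_num
  have hm : ¬ 61 ∣ 80 := by norm_num
  have hmem := card_sylow_mem_candidates hc hm
  have hcand : sylowCandidates 61 80 = [1] := by decide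
  rw [hcand] at hmem
  simp only [List.mem_cons, List.not_mem_nil, or_false] at hmem
  have hlt := one_lt_card_sylow_of_card hc hm (by norm_num) (by norm_num)
  have hd := hmem
  · omega

theorem no_4881 {G : Type*} [Group G] [Finite G] [IsSimpleGroup G]
    (hG : ¬ IsMulCommutative G) (h : Nat.card G = 4881) : False := by
  exact tp hG 3 1627 1 1 (by norm_num) (by norm_num) (by rw [h]; norm_num)

theorem no_4882 {G : Type*} [Group G] [Finite G] [IsSimpleGroup G]
    (hG : ¬ IsMulCommutative G) (h : Nat.card G = 4882) : False := by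
  exact tp hG 2 2441 1 1 (by norm_num) (by norm_num) (by rw [h]; norm_num)

theorem no_4883 {G : Type*} [Group G] [Finite G] [IsSimpleGroup G]
    (hG : ¬ IsMulCommutative G) (h : Nat.card G = 4883) : False := by
  exact tp hG 19 257 1 1 (by norm_num) (by norm_num) (by rw [h]; norm_num)

theorem no_4884 {G : Type*} [Group G] [Finite G] [IsSimpleGroup G]
    (hG : ¬ IsMulCommutative G) (h : Nat.card G = 4884) : False := by
  have : Fact (Nat.Prime 37) := ⟨by norm_num⟩
  have hc : Nat.card G = 37 ^ 1 * 132 := by rw [h]; norm_num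
  have hm : ¬ 37 ∣ 132 := by norm_num
  have hmem := card_sylow_mem_candidates hc hm
  have hcand : sylowCandidates 37 132 = [1] := by decide
  rw [hcand] at hmem
  simp only [List.mem_cons, List.not_mem_nil, or_false] at hmem
  have hlt := one_lt_card_sylow_of_card hc hm (by norm_num) (by norm_num)
  have hd := hmem
  · omega

theorem no_4885 {G : Type*} [Group G] [Finite G] [IsSimpleGroup G]
    (hG : ¬ IsMulCommutative G) (h : Nat.card G = 4885) : False := by
  exact tp hG 5 977 1 1 (by norm_num) (by norm_num) (by rw [h]; norm_num)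

theorem no_4886 {G : Type*} [Group G] [Finite G] [IsSimpleGroup G]
    (hG : ¬ IsMulCommutative G) (h : Nat.card G = 4886) : False := by
  exact ev hG (by rw [h]; exact ⟨2443, by norm_num⟩) (by rw [h]; omega)

theorem no_4887 {G : Type*} [Group G] [Finite G] [IsSimpleGroup G]
    (hG : ¬ IsMulCommutative G) (h : Nat.card G = 4887) : False := by
  exact tp hG 3 181 3 1 (by norm_num) (by norm_num) (by rw [h]; norm_num)

theorem no_4888 {G : Type*} [Group G] [Finite G] [IsSimpleGroup G]
    (hG : ¬ IsMulCommutative G) (h : Nat.card G = 4888) : False := by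
  exact ev hG (by rw [h]; exact ⟨2444, by norm_num⟩) (by rw [h]; omega)

theorem no_4889 {G : Type*} [Group G] [Finite G] [IsSimpleGroup G]
    (hG : ¬ IsMulCommutative G) (h : Nat.card G = 4889) : False := by
  exact tp hG 4889 2 1 0 (by norm_num) (by norm_num) (by rw [h]; norm_num)

theorem no_4890 {G : Type*} [Group G] [Finite G] [IsSimpleGroup G]
    (hG : ¬ IsMulCommutative G) (h : Nat.card G = 4890) : False := by
  exact ev hG (by rw [h]; exact ⟨2445, by norm_num⟩) (by rw [h]; omega)

theorem no_4891 {G : Type*} [Group G] [Finite G] [IsSimpleGroup G]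
    (hG : ¬ IsMulCommutative G) (h : Nat.card G = 4891) : False := by
  exact tp hG 67 73 1 1 (by norm_num) (by norm_num) (by rw [h]; norm_num)

theorem no_4892 {G : Type*} [Group G] [Finite G] [IsSimpleGroup G]
    (hG : ¬ IsMulCommutative G) (h : Nat.card G = 4892) : False := by
  exact tp hG 2 1223 2 1 (by norm_num) (by norm_num) (by rw [h]; norm_num)

theorem no_4893 {G : Type*} [Group G] [Finite G] [IsSimpleGroup G]
    (hG : ¬ IsMulCommutative G) (h : Nat.card G = 4893) : False := by
  have : Fact (Nat.Prime 233) := ⟨by norm_num⟩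
  have hc : Nat.card G = 233 ^ 1 * 21 := by rw [h]; norm_num
  have hm : ¬ 233 ∣ 21 := by norm_num
  have hmem := card_sylow_mem_candidates hc hm
  have hcand : sylowCandidates 233 21 = [1] := by decide
  rw [hcand] at hmem
  simp only [List.mem_cons, List.not_mem_nil, or_false] at hmem
  have hlt := one_lt_card_sylow_of_card hc hm (by norm_num) (by norm_num)
  have hd := hmem
  · omega

theorem no_4894 {G : Type*} [Group G] [Finite G] [IsSimpleGroup G]
    (hG : ¬ IsMulCommutative G) (h : Nat.card G = 4894) : False := by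
  exact tp hG 2 2447 1 1 (by norm_num) (by norm_num) (by rw [h]; norm_num)

theorem no_4895 {G : Type*} [Group G] [Finite G] [IsSimpleGroup G]
    (hG : ¬ IsMulCommutative G) (h : Nat.card G = 4895) : False := by
  have : Fact (Nat.Prime 89) := ⟨by norm_num⟩
  have hc : Nat.card G = 89 ^ 1 * 55 := by rw [h]; norm_num
  have hm : ¬ 89 ∣ 55 := by norm_num
  have hmem := card_sylow_mem_candidates hc hm
  have hcand : sylowCandidates 89 55 = [1] := by decide
  rw [hcand] at hmem
  simp only [List.mem_cons, List.not_mem_nil, or_false] at hmem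
  have hlt := one_lt_card_sylow_of_card hc hm (by norm_num) (by norm_num)
  have hd := hmem
  · omega

theorem no_4896 {G : Type*} [Group G] [Finite G] [IsSimpleGroup G]
    (hG : ¬ IsMulCommutative G) (h : Nat.card G = 4896) : False := by
  have : Fact (Nat.Prime 17) := ⟨by norm_num⟩
  have hc : Nat.card G = 17 ^ 1 * 288 := by rw [h]; norm_num
  have hm : ¬ 17 ∣ 288 := by norm_num
  have hmem := card_sylow_mem_candidates hc hm
  have hcand : sylowCandidates 17 288 = [1, 18] := by decide
  rw [hcand] at hmem
  simp only [List.mem_cons, List.not_mem_nil, or_false] at hmem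
  have hlt := one_lt_card_sylow_of_card hc hm (by norm_num) (by norm_num)
  rcases hmem with hd | hd
  · omega
  · exact perm_kill hG (by norm_num) hc hm hd 272 (by omega) (by decide)

theorem no_4897 {G : Type*} [Group G] [Finite G] [IsSimpleGroup G]
    (hG : ¬ IsMulCommutative G) (h : Nat.card G = 4897) : False := by
  exact tp hG 59 83 1 1 (by norm_num) (by norm_num) (by rw [h]; norm_num)

theorem no_4898 {G : Type*} [Group G] [Finite G] [IsSimpleGroup G]
    (hG : ¬ IsMulCommutative G) (h : Nat.card G = 4898) : False := by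
  exact ev hG (by rw [h]; exact ⟨2449, by norm_num⟩) (by rw [h]; omega)

theorem no_4899 {G : Type*} [Group G] [Finite G] [IsSimpleGroup G]
    (hG : ¬ IsMulCommutative G) (h : Nat.card G = 4899) : False := by
  have : Fact (Nat.Prime 71) := ⟨by norm_num⟩
  have hc : Nat.card G = 71 ^ 1 * 69 := by rw [h]; norm_num
  have hm : ¬ 71 ∣ 69 := by norm_num
  have hmem := card_sylow_mem_candidates hc hm
  have hcand : sylowCandidates 71 69 = [1] := by decide
  rw [hcand] at hmem
  simp only [List.mem_cons, List.not_mem_nil, or_false] at hmem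
  have hlt := one_lt_card_sylow_of_card hc hm (by norm_num) (by norm_num)
  have hd := hmem
  · omega

theorem no_4900 {G : Type*} [Group G] [Finite G] [IsSimpleGroup G]
    (hG : ¬ IsMulCommutative G) (h : Nat.card G = 4900) : False := by
  exact ev hG (by rw [h]; exact ⟨2450, by norm_num⟩) (by rw [h]; omega)

/-- the orders in [4801, 4900] not excluded by the engine -/
theorem chunk {G : Type*} [Group G] [Finite G] [IsSimpleGroup G]
    (hG : ¬ IsMulCommutative G) (n : ℕ) (hn : Nat.card G = n) (h1 : 4801 ≤ n) (h2 : n ≤ 4900) :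
    False := by
  interval_cases n
  · exact (no_4801 hG hn).elim
  · exact (no_4802 hG hn).elim
  · exact (no_4803 hG hn).elim
  · exact (no_4804 hG hn).elim
  · exact (no_4805 hG hn).elim
  · exact (no_4806 hG hn).elim
  · exact (no_4807 hG hn).elim
  · exact (no_4808 hG hn).elim
  · exact (no_4809 hG hn).elim
  · exact (no_4810 hG hn).elim
  · exact (no_4811 hG hn).elim
  · exact (no_4812 hG hn).elim
  · exact (no_4813 hG hn).elim
  · exact (no_4814 hG hn).elim
  · exact (no_4815 hG hn).elim
  · exact (no_4816 hG hn).elim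
  · exact (no_4817 hG hn).elim
  · exact (no_4818 hG hn).elim
  · exact (no_4819 hG hn).elim
  · exact (no_4820 hG hn).elim
  · exact (no_4821 hG hn).elim
  · exact (no_4822 hG hn).elim
  · exact (no_4823 hG hn).elim
  · exact (no_4824 hG hn).elim
  · exact (no_4825 hG hn).elim
  · exact (no_4826 hG hn).elim
  · exact (no_4827 hG hn).elim
  · exact (no_4828 hG hn).elim
  · exact (no_4829 hG hn).elim
  · exact (no_4830 hG hn).elim
  · exact (no_4831 hG hn).elim
  · exact (no_4832 hG hn).elim
  · exact (no_4833 hG hn).elim
  · exact (no_4834 hG hn).elim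
  · exact (no_4835 hG hn).elim
  · exact (no_4836 hG hn).elim
  · exact (no_4837 hG hn).elim
  · exact (no_4838 hG hn).elim
  · exact (no_4839 hG hn).elim
  · exact (no_4840 hG hn).elim
  · exact (no_4841 hG hn).elim
  · exact (no_4842 hG hn).elim
  · exact (no_4843 hG hn).elim
  · exact (no_4844 hG hn).elim
  · exact (no_4845 hG hn).elim
  · exact (no_4846 hG hn).elim
  · exact (no_4847 hG hn).elim
  · exact (no_4848 hG hn).elim
  · exact (no_4849 hG hn).elim
  · exact (no_4850 hG hn).elim
  · exact (no_4851 hG hn).elim
  · exact (no_4852 hG hn).elim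
  · exact (no_4853 hG hn).elim
  · exact (no_4854 hG hn).elim
  · exact (no_4855 hG hn).elim
  · exact (no_4856 hG hn).elim
  · exact (no_4857 hG hn).elim
  · exact (no_4858 hG hn).elim
  · exact (no_4859 hG hn).elim
  · exact (no_4860 hG hn).elim
  · exact (no_4861 hG hn).elim
  · exact (no_4862 hG hn).elim
  · exact (no_4863 hG hn).elim
  · exact (no_4864 hG hn).elim
  · exact (no_4865 hG hn).elim
  · exact (no_4866 hG hn).elim
  · exact (no_4867 hG hn).elim
  · exact (no_4868 hG hn).elim
  · exact (no_4869 hG hn).elim
  · exact (no_4870 hG hn).elim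
  · exact (no_4871 hG hn).elim
  · exact (no_4872 hG hn).elim
  · exact (no_4873 hG hn).elim
  · exact (no_4874 hG hn).elim
  · exact (no_4875 hG hn).elim
  · exact (no_4876 hG hn).elim
  · exact (no_4877 hG hn).elim
  · exact (no_4878 hG hn).elim
  · exact (no_4879 hG hn).elim
  · exact (no_4880 hG hn).elim
  · exact (no_4881 hG hn).elim
  · exact (no_4882 hG hn).elim
  · exact (no_4883 hG hn).elim
  · exact (no_4884 hG hn).elim
  · exact (no_4885 hG hn).elim
  · exact (no_4886 hG hn).elim
  · exact (no_4887 hG hn).elim
  · exact (no_4888 hG hn).elim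
  · exact (no_4889 hG hn).elim
  · exact (no_4890 hG hn).elim
  · exact (no_4891 hG hn).elim
  · exact (no_4892 hG hn).elim
  · exact (no_4893 hG hn).elim
  · exact (no_4894 hG hn).elim
  · exact (no_4895 hG hn).elim
  · exact (no_4896 hG hn).elim
  · exact (no_4897 hG hn).elim
  · exact (no_4898 hG hn).elim
  · exact (no_4899 hG hn).elim
  · exact (no_4900 hG hn).elim

end Cfsg.Agent.Lib.Helper16_SO_E12
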