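import Mathlib
import Cfsg.Agent.Lib.Helper75_SM_Base

/-!
# S0983 engine, generated file: no simple group of order N for the easy N in [4901, 5000]
(helper16; same scheme as helper75's `Helper75_SM_E*`)
-/

set_option autoImplicit false
set_option linter.unusedVariables false

namespace Cfsg.Agent.Lib.Helper16_SO_E13

open Cfsg.Agent.Lib.Helper17_Sylow Cfsg.Agent.Lib.Helper75_SM_Base

theorem no_4901 {G : Type*} [Group G] [Finite G] [IsSimpleGroup G]
    (hG : ¬ IsMulCommutative G) (h : Nat.card G = 4901) : False := by
  exact tp hG 13 29 2 1 (by norm_num) (by norm_num) (by rw [h]; norm_num)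

theorem no_4902 {G : Type*} [Group G] [Finite G] [IsSimpleGroup G]
    (hG : ¬ IsMulCommutative G) (h : Nat.card G = 4902) : False := by
  exact ev hG (by rw [h]; exact ⟨2451, by norm_num⟩) (by rw [h]; omega)

theorem no_4903 {G : Type*} [Group G] [Finite G] [IsSimpleGroup G]
    (hG : ¬ IsMulCommutative G) (h : Nat.card G = 4903) : False := by
  exact tp hG 4903 2 1 0 (by norm_num) (by norm_num) (by rw [h]; norm_num)

theorem no_4904 {G : Type*} [Group G] [Finite G] [IsSimpleGroup G]
    (hG : ¬ IsMulCommutative G) (h : Nat.card G = 4904) : False := by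
  exact tp hG 2 613 3 1 (by norm_num) (by norm_num) (by rw [h]; norm_num)

theorem no_4905 {G : Type*} [Group G] [Finite G] [IsSimpleGroup G]
    (hG : ¬ IsMulCommutative G) (h : Nat.card G = 4905) : False := by
  have : Fact (Nat.Prime 109) := ⟨by norm_num⟩
  have hc : Nat.card G = 109 ^ 1 * 45 := by rw [h]; norm_num
  have hm : ¬ 109 ∣ 45 := by norm_num
  have hmem := card_sylow_mem_candidates hc hm
  have hcand : sylowCandidates 109 45 = [1] := by decide
  rw [hcand] at hmem
  simp only [List.mem_cons, List.not_mem_nil, or_false] at hmem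
  have hlt := one_lt_card_sylow_of_card hc hm (by norm_num) (by norm_num)
  have hd := hmem
  · omega

theorem no_4906 {G : Type*} [Group G] [Finite G] [IsSimpleGroup G]
    (hG : ¬ IsMulCommutative G) (h : Nat.card G = 4906) : False := by
  exact ev hG (by rw [h]; exact ⟨2453, by norm_num⟩) (by rw [h]; omega)

theorem no_4907 {G : Type*} [Group G] [Finite G] [IsSimpleGroup G]
    (hG : ¬ IsMulCommutative G) (h : Nat.card G = 4907) : False := by
  exact tp hG 7 701 1 1 (by norm_num) (by norm_num) (by rw [h]; norm_num)

theorem no_4908 {G : Type*} [Group G] [Finite G] [IsSimpleGroup G]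
    (hG : ¬ IsMulCommutative G) (h : Nat.card G = 4908) : False := by
  have : Fact (Nat.Prime 409) := ⟨by norm_num⟩
  have hc : Nat.card G = 409 ^ 1 * 12 := by rw [h]; norm_num
  have hm : ¬ 409 ∣ 12 := by norm_num
  have hmem := card_sylow_mem_candidates hc hm
  have hcand : sylowCandidates 409 12 = [1] := by decide
  rw [hcand] at hmem
  simp only [List.mem_cons, List.not_mem_nil, or_false] at hmem
  have hlt := one_lt_card_sylow_of_card hc hm (by norm_num) (by norm_num)
  have hd := hmem
  · omega

theorem no_4909 {G : Type*} [Group G] [Finite G] [IsSimpleGroup G]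
    (hG : ¬ IsMulCommutative G) (h : Nat.card G = 4909) : False := by
  exact tp hG 4909 2 1 0 (by norm_num) (by norm_num) (by rw [h]; norm_num)

theorem no_4910 {G : Type*} [Group G] [Finite G] [IsSimpleGroup G]
    (hG : ¬ IsMulCommutative G) (h : Nat.card G = 4910) : False := by
  exact ev hG (by rw [h]; exact ⟨2455, by norm_num⟩) (by rw [h]; omega)

theorem no_4911 {G : Type*} [Group G] [Finite G] [IsSimpleGroup G]
    (hG : ¬ IsMulCommutative G) (h : Nat.card G = 4911) : False := by
  exact tp hG 3 1637 1 1 (by norm_num) (by norm_num) (by rw [h]; norm_num)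

theorem no_4912 {G : Type*} [Group G] [Finite G] [IsSimpleGroup G]
    (hG : ¬ IsMulCommutative G) (h : Nat.card G = 4912) : False := by
  exact tp hG 2 307 4 1 (by norm_num) (by norm_num) (by rw [h]; norm_num)

theorem no_4913 {G : Type*} [Group G] [Finite G] [IsSimpleGroup G]
    (hG : ¬ IsMulCommutative G) (h : Nat.card G = 4913) : False := by
  exact tp hG 17 2 3 0 (by norm_num) (by norm_num) (by rw [h]; norm_num)

theorem no_4914 {G : Type*} [Group G] [Finite G] [IsSimpleGroup G]
    (hG : ¬ IsMulCommutative G) (h : Nat.card G = 4914) : False := by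
  exact ev hG (by rw [h]; exact ⟨2457, by norm_num⟩) (by rw [h]; omega)

theorem no_4915 {G : Type*} [Group G] [Finite G] [IsSimpleGroup G]
    (hG : ¬ IsMulCommutative G) (h : Nat.card G = 4915) : False := by
  exact tp hG 5 983 1 1 (by norm_num) (by norm_num) (by rw [h]; norm_num)

theorem no_4916 {G : Type*} [Group G] [Finite G] [IsSimpleGroup G]
    (hG : ¬ IsMulCommutative G) (h : Nat.card G = 4916) : False := by
  exact tp hG 2 1229 2 1 (by norm_num) (by norm_num) (by rw [h]; norm_num)

theorem no_4917 {G : Type*} [Group G] [Finite G] [IsSimpleGroup G]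
    (hG : ¬ IsMulCommutative G) (h : Nat.card G = 4917) : False := by
  have : Fact (Nat.Prime 149) := ⟨by norm_num⟩
  have hc : Nat.card G = 149 ^ 1 * 33 := by rw [h]; norm_num
  have hm : ¬ 149 ∣ 33 := by norm_num
  have hmem := card_sylow_mem_candidates hc hm
  have hcand : sylowCandidates 149 33 = [1] := by decide
  rw [hcand] at hmem
  simp only [List.mem_cons, List.not_mem_nil, or_false] at hmem
  have hlt := one_lt_card_sylow_of_card hc hm (by norm_num) (by norm_num)
  have hd := hmem
  · omega

theorem no_4918 {G : Type*} [Group G] [Finite G] [IsSimpleGroup G]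
    (hG : ¬ IsMulCommutative G) (h : Nat.card G = 4918) : False := by
  exact tp hG 2 2459 1 1 (by norm_num) (by norm_num) (by rw [h]; norm_num)

theorem no_4919 {G : Type*} [Group G] [Finite G] [IsSimpleGroup G]
    (hG : ¬ IsMulCommutative G) (h : Nat.card G = 4919) : False := by
  exact tp hG 4919 2 1 0 (by norm_num) (by norm_num) (by rw [h]; norm_num)

theorem no_4920 {G : Type*} [Group G] [Finite G] [IsSimpleGroup G]
    (hG : ¬ IsMulCommutative G) (h : Nat.card G = 4920) : False := by
  have : Fact (Nat.Prime 41) := ⟨by norm_num⟩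
  have hc : Nat.card G = 41 ^ 1 * 120 := by rw [h]; norm_num
  have hm : ¬ 41 ∣ 120 := by norm_num
  have hmem := card_sylow_mem_candidates hc hm
  have hcand : sylowCandidates 41 120 = [1] := by decide
  rw [hcand] at hmem
  simp only [List.mem_cons, List.not_mem_nil, or_false] at hmem
  have hlt := one_lt_card_sylow_of_card hc hm (by norm_num) (by norm_num)
  have hd := hmem
  · omega

theorem no_4921 {G : Type*} [Group G] [Finite G] [IsSimpleGroup G]
    (hG : ¬ IsMulCommutative G) (h : Nat.card G = 4921) : False := by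
  have : Fact (Nat.Prime 37) := ⟨by norm_num⟩
  have hc : Nat.card G = 37 ^ 1 * 133 := by rw [h]; norm_num
  have hm : ¬ 37 ∣ 133 := by norm_num
  have hmem := card_sylow_mem_candidates hc hm
  have hcand : sylowCandidates 37 133 = [1] := by decide
  rw [hcand] at hmem
  simp only [List.mem_cons, List.not_mem_nil, or_false] at hmem
  have hlt := one_lt_card_sylow_of_card hc hm (by norm_num) (by norm_num)
  have hd := hmem
  · omega

theorem no_4922 {G : Type*} [Group G] [Finite G] [IsSimpleGroup G]
    (hG : ¬ IsMulCommutative G) (h : Nat.card G = 4922) : False := by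
  exact ev hG (by rw [h]; exact ⟨2461, by norm_num⟩) (by rw [h]; omega)

theorem no_4923 {G : Type*} [Group G] [Finite G] [IsSimpleGroup G]
    (hG : ¬ IsMulCommutative G) (h : Nat.card G = 4923) : False := by
  exact tp hG 3 547 2 1 (by norm_num) (by norm_num) (by rw [h]; norm_num)

theorem no_4924 {G : Type*} [Group G] [Finite G] [IsSimpleGroup G]
    (hG : ¬ IsMulCommutative G) (h : Nat.card G = 4924) : False := by
  exact tp hG 2 1231 2 1 (by norm_num) (by norm_num) (by rw [h]; norm_num)

theorem no_4925 {G : Type*} [Group G] [Finite G] [IsSimpleGroup G]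
    (hG : ¬ IsMulCommutative G) (h : Nat.card G = 4925) : False := by
  exact tp hG 5 197 2 1 (by norm_num) (by norm_num) (by rw [h]; norm_num)

theorem no_4926 {G : Type*} [Group G] [Finite G] [IsSimpleGroup G]
    (hG : ¬ IsMulCommutative G) (h : Nat.card G = 4926) : False := by
  exact ev hG (by rw [h]; exact ⟨2463, by norm_num⟩) (by rw [h]; omega)

theorem no_4927 {G : Type*} [Group G] [Finite G] [IsSimpleGroup G]
    (hG : ¬ IsMulCommutative G) (h : Nat.card G = 4927) : False := by
  exact tp hG 13 379 1 1 (by norm_num) (by norm_num) (by rw [h]; norm_num)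

theorem no_4929 {G : Type*} [Group G] [Finite G] [IsSimpleGroup G]
    (hG : ¬ IsMulCommutative G) (h : Nat.card G = 4929) : False := by
  have : Fact (Nat.Prime 53) := ⟨by norm_num⟩
  have hc : Nat.card G = 53 ^ 1 * 93 := by rw [h]; norm_num
  have hm : ¬ 53 ∣ 93 := by norm_num
  have hmem := card_sylow_mem_candidates hc hm
  have hcand : sylowCandidates 53 93 = [1] := by decide
  rw [hcand] at hmem
  simp only [List.mem_cons, List.not_mem_nil, or_false] at hmem
  have hlt := one_lt_card_sylow_of_card hc hm (by norm_num) (by norm_num)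
  have hd := hmem
  · omega

theorem no_4930 {G : Type*} [Group G] [Finite G] [IsSimpleGroup G]
    (hG : ¬ IsMulCommutative G) (h : Nat.card G = 4930) : False := by
  exact ev hG (by rw [h]; exact ⟨2465, by norm_num⟩) (by rw [h]; omega)

theorem no_4931 {G : Type*} [Group G] [Finite G] [IsSimpleGroup G]
    (hG : ¬ IsMulCommutative G) (h : Nat.card G = 4931) : False := by
  exact tp hG 4931 2 1 0 (by norm_num) (by norm_num) (by rw [h]; norm_num)

theorem no_4932 {G : Type*} [Group G] [Finite G] [IsSimpleGroup G]
    (hG : ¬ IsMulCommutative G) (h : Nat.card G = 4932) : False := by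
  have : Fact (Nat.Prime 137) := ⟨by norm_num⟩
  have hc : Nat.card G = 137 ^ 1 * 36 := by rw [h]; norm_num
  have hm : ¬ 137 ∣ 36 := by norm_num
  have hmem := card_sylow_mem_candidates hc hm
  have hcand : sylowCandidates 137 36 = [1] := by decide
  rw [hcand] at hmem
  simp only [List.mem_cons, List.not_mem_nil, or_false] at hmem
  have hlt := one_lt_card_sylow_of_card hc hm (by norm_num) (by norm_num)
  have hd := hmem
  · omega

theorem no_4933 {G : Type*} [Group G] [Finite G] [IsSimpleGroup G]
    (hG : ¬ IsMulCommutative G) (h : Nat.card G = 4933) : False := by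
  exact tp hG 4933 2 1 0 (by norm_num) (by norm_num) (by rw [h]; norm_num)

theorem no_4934 {G : Type*} [Group G] [Finite G] [IsSimpleGroup G]
    (hG : ¬ IsMulCommutative G) (h : Nat.card G = 4934) : False := by
  exact tp hG 2 2467 1 1 (by norm_num) (by norm_num) (by rw [h]; norm_num)

theorem no_4935 {G : Type*} [Group G] [Finite G] [IsSimpleGroup G]
    (hG : ¬ IsMulCommutative G) (h : Nat.card G = 4935) : False := by
  have : Fact (Nat.Prime 47) := ⟨by norm_num⟩
  have hc : Nat.card G = 47 ^ 1 * 105 := by rw [h]; norm_num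
  have hm : ¬ 47 ∣ 105 := by norm_num
  have hmem := card_sylow_mem_candidates hc hm
  have hcand : sylowCandidates 47 105 = [1] := by decide
  rw [hcand] at hmem
  simp only [List.mem_cons, List.not_mem_nil, or_false] at hmem
  have hlt := one_lt_card_sylow_of_card hc hm (by norm_num) (by norm_num)
  have hd := hmem
  · omega

theorem no_4936 {G : Type*} [Group G] [Finite G] [IsSimpleGroup G]
    (hG : ¬ IsMulCommutative G) (h : Nat.card G = 4936) : False := by
  exact tp hG 2 617 3 1 (by norm_num) (by norm_num) (by rw [h]; norm_num)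

theorem no_4937 {G : Type*} [Group G] [Finite G] [IsSimpleGroup G]
    (hG : ¬ IsMulCommutative G) (h : Nat.card G = 4937) : False := by
  exact tp hG 4937 2 1 0 (by norm_num) (by norm_num) (by rw [h]; norm_num)

theorem no_4938 {G : Type*} [Group G] [Finite G] [IsSimpleGroup G]
    (hG : ¬ IsMulCommutative G) (h : Nat.card G = 4938) : False := by
  exact ev hG (by rw [h]; exact ⟨2469, by norm_num⟩) (by rw [h]; omega)

theorem no_4939 {G : Type*} [Group G] [Finite G] [IsSimpleGroup G]
    (hG : ¬ IsMulCommutative G) (h : Nat.card G = 4939) : False := by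
  exact tp hG 11 449 1 1 (by norm_num) (by norm_num) (by rw [h]; norm_num)

theorem no_4940 {G : Type*} [Group G] [Finite G] [IsSimpleGroup G]
    (hG : ¬ IsMulCommutative G) (h : Nat.card G = 4940) : False := by
  exact ev hG (by rw [h]; exact ⟨2470, by norm_num⟩) (by rw [h]; omega)

theorem no_4941 {G : Type*} [Group G] [Finite G] [IsSimpleGroup G]
    (hG : ¬ IsMulCommutative G) (h : Nat.card G = 4941) : False := by
  exact tp hG 3 61 4 1 (by norm_num) (by norm_num) (by rw [h]; norm_num)

theorem no_4942 {G : Type*} [Group G] [Finite G] [IsSimpleGroup G]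
    (hG : ¬ IsMulCommutative G) (h : Nat.card G = 4942) : False := by
  exact ev hG (by rw [h]; exact ⟨2471, by norm_num⟩) (by rw [h]; omega)

theorem no_4943 {G : Type*} [Group G] [Finite G] [IsSimpleGroup G]
    (hG : ¬ IsMulCommutative G) (h : Nat.card G = 4943) : False := by
  exact tp hG 4943 2 1 0 (by norm_num) (by norm_num) (by rw [h]; norm_num)

theorem no_4944 {G : Type*} [Group G] [Finite G] [IsSimpleGroup G]
    (hG : ¬ IsMulCommutative G) (h : Nat.card G = 4944) : False := by
  have : Fact (Nat.Prime 103) := ⟨by norm_num⟩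
  have hc : Nat.card G = 103 ^ 1 * 48 := by rw [h]; norm_num
  have hm : ¬ 103 ∣ 48 := by norm_num
  have hmem := card_sylow_mem_candidates hc hm
  have hcand : sylowCandidates 103 48 = [1] := by decide
  rw [hcand] at hmem
  simp only [List.mem_cons, List.not_mem_nil, or_false] at hmem
  have hlt := one_lt_card_sylow_of_card hc hm (by norm_num) (by norm_num)
  have hd := hmem
  · omega

theorem no_4945 {G : Type*} [Group G] [Finite G] [IsSimpleGroup G]
    (hG : ¬ IsMulCommutative G) (h : Nat.card G = 4945) : False := by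
  have : Fact (Nat.Prime 43) := ⟨by norm_num⟩
  have hc : Nat.card G = 43 ^ 1 * 115 := by rw [h]; norm_num
  have hm : ¬ 43 ∣ 115 := by norm_num
  have hmem := card_sylow_mem_candidates hc hm
  have hcand : sylowCandidates 43 115 = [1] := by decide
  rw [hcand] at hmem
  simp only [List.mem_cons, List.not_mem_nil, or_false] at hmem
  have hlt := one_lt_card_sylow_of_card hc hm (by norm_num) (by norm_num)
  have hd := hmem
  · omega

theorem no_4946 {G : Type*} [Group G] [Finite G] [IsSimpleGroup G]
    (hG : ¬ IsMulCommutative G) (h : Nat.card G = 4946) : False := by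
  exact tp hG 2 2473 1 1 (by norm_num) (by norm_num) (by rw [h]; norm_num)

theorem no_4947 {G : Type*} [Group G] [Finite G] [IsSimpleGroup G]
    (hG : ¬ IsMulCommutative G) (h : Nat.card G = 4947) : False := by
  have : Fact (Nat.Prime 97) := ⟨by norm_num⟩
  have hc : Nat.card G = 97 ^ 1 * 51 := by rw [h]; norm_num
  have hm : ¬ 97 ∣ 51 := by norm_num
  have hmem := card_sylow_mem_candidates hc hm
  have hcand : sylowCandidates 97 51 = [1] := by decide
  rw [hcand] at hmem
  simp only [List.mem_cons, List.not_mem_nil, or_false] at hmem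
  have hlt := one_lt_card_sylow_of_card hc hm (by norm_num) (by norm_num)
  have hd := hmem
  · omega

theorem no_4948 {G : Type*} [Group G] [Finite G] [IsSimpleGroup G]
    (hG : ¬ IsMulCommutative G) (h : Nat.card G = 4948) : False := by
  exact tp hG 2 1237 2 1 (by norm_num) (by norm_num) (by rw [h]; norm_num)

theorem no_4949 {G : Type*} [Group G] [Finite G] [IsSimpleGroup G]
    (hG : ¬ IsMulCommutative G) (h : Nat.card G = 4949) : False := by
  exact tp hG 7 101 2 1 (by norm_num) (by norm_num) (by rw [h]; norm_num)

theorem no_4950 {G : Type*} [Group G] [Finite G] [IsSimpleGroup G]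
    (hG : ¬ IsMulCommutative G) (h : Nat.card G = 4950) : False := by
  exact ev hG (by rw [h]; exact ⟨2475, by norm_num⟩) (by rw [h]; omega)

theorem no_4951 {G : Type*} [Group G] [Finite G] [IsSimpleGroup G]
    (hG : ¬ IsMulCommutative G) (h : Nat.card G = 4951) : False := by
  exact tp hG 4951 2 1 0 (by norm_num) (by norm_num) (by rw [h]; norm_num)

theorem no_4952 {G : Type*} [Group G] [Finite G] [IsSimpleGroup G]
    (hG : ¬ IsMulCommutative G) (h : Nat.card G = 4952) : False := by
  exact tp hG 2 619 3 1 (by norm_num) (by norm_num) (by rw [h]; norm_num)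

theorem no_4953 {G : Type*} [Group G] [Finite G] [IsSimpleGroup G]
    (hG : ¬ IsMulCommutative G) (h : Nat.card G = 4953) : False := by
  have : Fact (Nat.Prime 127) := ⟨by norm_num⟩
  have hc : Nat.card G = 127 ^ 1 * 39 := by rw [h]; norm_num
  have hm : ¬ 127 ∣ 39 := by norm_num
  have hmem := card_sylow_mem_candidates hc hm
  have hcand : sylowCandidates 127 39 = [1] := by decide
  rw [hcand] at hmem
  simp only [List.mem_cons, List.not_mem_nil, or_false] at hmem
  have hlt := one_lt_card_sylow_of_card hc hm (by norm_num) (by norm_num)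
  have hd := hmem
  · omega

theorem no_4954 {G : Type*} [Group G] [Finite G] [IsSimpleGroup G]
    (hG : ¬ IsMulCommutative G) (h : Nat.card G = 4954) : False := by
  exact tp hG 2 2477 1 1 (by norm_num) (by norm_num) (by rw [h]; norm_num)

theorem no_4955 {G : Type*} [Group G] [Finite G] [IsSimpleGroup G]
    (hG : ¬ IsMulCommutative G) (h : Nat.card G = 4955) : False := by
  exact tp hG 5 991 1 1 (by norm_num) (by norm_num) (by rw [h]; norm_num)

theorem no_4956 {G : Type*} [Group G] [Finite G] [IsSimpleGroup G]
    (hG : ¬ IsMulCommutative G) (h : Nat.card G = 4956) : False := by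
  have : Fact (Nat.Prime 59) := ⟨by norm_num⟩
  have hc : Nat.card G = 59 ^ 1 * 84 := by rw [h]; norm_num
  have hm : ¬ 59 ∣ 84 := by norm_num
  have hmem := card_sylow_mem_candidates hc hm
  have hcand : sylowCandidates 59 84 = [1] := by decide
  rw [hcand] at hmem
  simp only [List.mem_cons, List.not_mem_nil, or_false] at hmem
  have hlt := one_lt_card_sylow_of_card hc hm (by norm_num) (by norm_num)
  have hd := hmem
  · omega

theorem no_4957 {G : Type*} [Group G] [Finite G] [IsSimpleGroup G]
    (hG : ¬ IsMulCommutative G) (h : Nat.card G = 4957) : False := by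
  exact tp hG 4957 2 1 0 (by norm_num) (by norm_num) (by rw [h]; norm_num)

theorem no_4958 {G : Type*} [Group G] [Finite G] [IsSimpleGroup G]
    (hG : ¬ IsMulCommutative G) (h : Nat.card G = 4958) : False := by
  exact ev hG (by rw [h]; exact ⟨2479, by norm_num⟩) (by rw [h]; omega)

theorem no_4959 {G : Type*} [Group G] [Finite G] [IsSimpleGroup G]
    (hG : ¬ IsMulCommutative G) (h : Nat.card G = 4959) : False := by
  have : Fact (Nat.Prime 29) := ⟨by norm_num⟩
  have hc : Nat.card G = 29 ^ 1 * 171 := by rw [h]; norm_num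
  have hm : ¬ 29 ∣ 171 := by norm_num
  have hmem := card_sylow_mem_candidates hc hm
  have hcand : sylowCandidates 29 171 = [1] := by decide
  rw [hcand] at hmem
  simp only [List.mem_cons, List.not_mem_nil, or_false] at hmem
  have hlt := one_lt_card_sylow_of_card hc hm (by norm_num) (by norm_num)
  have hd := hmem
  · omega

theorem no_4961 {G : Type*} [Group G] [Finite G] [IsSimpleGroup G]
    (hG : ¬ IsMulCommutative G) (h : Nat.card G = 4961) : False := by
  exact tp hG 11 41 2 1 (by norm_num) (by norm_num) (by rw [h]; norm_num)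

theorem no_4962 {G : Type*} [Group G] [Finite G] [IsSimpleGroup G]
    (hG : ¬ IsMulCommutative G) (h : Nat.card G = 4962) : False := by
  exact ev hG (by rw [h]; exact ⟨2481, by norm_num⟩) (by rw [h]; omega)

theorem no_4963 {G : Type*} [Group G] [Finite G] [IsSimpleGroup G]
    (hG : ¬ IsMulCommutative G) (h : Nat.card G = 4963) : False := by
  exact tp hG 7 709 1 1 (by norm_num) (by norm_num) (by rw [h]; norm_num)

theorem no_4964 {G : Type*} [Group G] [Finite G] [IsSimpleGroup G]
    (hG : ¬ IsMulCommutative G) (h : Nat.card G = 4964) : False := by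
  exact ev hG (by rw [h]; exact ⟨2482, by norm_num⟩) (by rw [h]; omega)

theorem no_4965 {G : Type*} [Group G] [Finite G] [IsSimpleGroup G]
    (hG : ¬ IsMulCommutative G) (h : Nat.card G = 4965) : False := by
  have : Fact (Nat.Prime 331) := ⟨by norm_num⟩
  have hc : Nat.card G = 331 ^ 1 * 15 := by rw [h]; norm_num
  have hm : ¬ 331 ∣ 15 := by norm_num
  have hmem := card_sylow_mem_candidates hc hm
  have hcand : sylowCandidates 331 15 = [1] := by decide
  rw [hcand] at hmem
  simp only [List.mem_cons, List.not_mem_nil, or_false] at hmem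
  have hlt := one_lt_card_sylow_of_card hc hm (by norm_num) (by norm_num)
  have hd := hmem
  · omega

theorem no_4966 {G : Type*} [Group G] [Finite G] [IsSimpleGroup G]
    (hG : ¬ IsMulCommutative G) (h : Nat.card G = 4966) : False := by
  exact ev hG (by rw [h]; exact ⟨2483, by norm_num⟩) (by rw [h]; omega)

theorem no_4967 {G : Type*} [Group G] [Finite G] [IsSimpleGroup G]
    (hG : ¬ IsMulCommutative G) (h : Nat.card G = 4967) : False := by
  exact tp hG 4967 2 1 0 (by norm_num) (by norm_num) (by rw [h]; norm_num)

theorem no_4968 {G : Type*} [Group G] [Finite G] [IsSimpleGroup G]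
    (hG : ¬ IsMulCommutative G) (h : Nat.card G = 4968) : False := by
  have : Fact (Nat.Prime 23) := ⟨by norm_num⟩
  have hc : Nat.card G = 23 ^ 1 * 216 := by rw [h]; norm_num
  have hm : ¬ 23 ∣ 216 := by norm_num
  have hmem := card_sylow_mem_candidates hc hm
  have hcand : sylowCandidates 23 216 = [1, 24] := by decide
  rw [hcand] at hmem
  simp only [List.mem_cons, List.not_mem_nil, or_false] at hmem
  have hlt := one_lt_card_sylow_of_card hc hm (by norm_num) (by norm_num)
  rcases hmem with hd | hd
  · omega
  · exact burn_kill hc hm (by norm_num) 24 hd (by decide)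

theorem no_4969 {G : Type*} [Group G] [Finite G] [IsSimpleGroup G]
    (hG : ¬ IsMulCommutative G) (h : Nat.card G = 4969) : False := by
  exact tp hG 4969 2 1 0 (by norm_num) (by norm_num) (by rw [h]; norm_num)

theorem no_4970 {G : Type*} [Group G] [Finite G] [IsSimpleGroup G]
    (hG : ¬ IsMulCommutative G) (h : Nat.card G = 4970) : False := by
  exact ev hG (by rw [h]; exact ⟨2485, by norm_num⟩) (by rw [h]; omega)

theorem no_4971 {G : Type*} [Group G] [Finite G] [IsSimpleGroup G]
    (hG : ¬ IsMulCommutative G) (h : Nat.card G = 4971) : False := by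
  exact tp hG 3 1657 1 1 (by norm_num) (by norm_num) (by rw [h]; norm_num)

theorem no_4972 {G : Type*} [Group G] [Finite G] [IsSimpleGroup G]
    (hG : ¬ IsMulCommutative G) (h : Nat.card G = 4972) : False := by
  exact ev hG (by rw [h]; exact ⟨2486, by norm_num⟩) (by rw [h]; omega)

theorem no_4973 {G : Type*} [Group G] [Finite G] [IsSimpleGroup G]
    (hG : ¬ IsMulCommutative G) (h : Nat.card G = 4973) : False := by
  exact tp hG 4973 2 1 0 (by norm_num) (by norm_num) (by rw [h]; norm_num)

theorem no_4974 {G : Type*} [Group G] [Finite G] [IsSimpleGroup G]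
    (hG : ¬ IsMulCommutative G) (h : Nat.card G = 4974) : False := by
  exact ev hG (by rw [h]; exact ⟨2487, by norm_num⟩) (by rw [h]; omega)

theorem no_4975 {G : Type*} [Group G] [Finite G] [IsSimpleGroup G]
    (hG : ¬ IsMulCommutative G) (h : Nat.card G = 4975) : False := by
  exact tp hG 5 199 2 1 (by norm_num) (by norm_num) (by rw [h]; norm_num)

theorem no_4976 {G : Type*} [Group G] [Finite G] [IsSimpleGroup G]
    (hG : ¬ IsMulCommutative G) (h : Nat.card G = 4976) : False := by
  exact tp hG 2 311 4 1 (by norm_num) (by norm_num) (by rw [h]; norm_num)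

theorem no_4977 {G : Type*} [Group G] [Finite G] [IsSimpleGroup G]
    (hG : ¬ IsMulCommutative G) (h : Nat.card G = 4977) : False := by
  have : Fact (Nat.Prime 79) := ⟨by norm_num⟩
  have hc : Nat.card G = 79 ^ 1 * 63 := by rw [h]; norm_num
  have hm : ¬ 79 ∣ 63 := by norm_num
  have hmem := card_sylow_mem_candidates hc hm
  have hcand : sylowCandidates 79 63 = [1] := by decide
  rw [hcand] at hmem
  simp only [List.mem_cons, List.not_mem_nil, or_false] at hmem
  have hlt := one_lt_card_sylow_of_card hc hm (by norm_num) (by norm_num)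
  have hd := hmem
  · omega

theorem no_4978 {G : Type*} [Group G] [Finite G] [IsSimpleGroup G]
    (hG : ¬ IsMulCommutative G) (h : Nat.card G = 4978) : False := by
  exact ev hG (by rw [h]; exact ⟨2489, by norm_num⟩) (by rw [h]; omega)

theorem no_4979 {G : Type*} [Group G] [Finite G] [IsSimpleGroup G]
    (hG : ¬ IsMulCommutative G) (h : Nat.card G = 4979) : False := by
  exact tp hG 13 383 1 1 (by norm_num) (by norm_num) (by rw [h]; norm_num)

theorem no_4980 {G : Type*} [Group G] [Finite G] [IsSimpleGroup G]
    (hG : ¬ IsMulCommutative G) (h : Nat.card G = 4980) : False := by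
  have : Fact (Nat.Prime 83) := ⟨by norm_num⟩
  have hc : Nat.card G = 83 ^ 1 * 60 := by rw [h]; norm_num
  have hm : ¬ 83 ∣ 60 := by norm_num
  have hmem := card_sylow_mem_candidates hc hm
  have hcand : sylowCandidates 83 60 = [1] := by decide
  rw [hcand] at hmem
  simp only [List.mem_cons, List.not_mem_nil, or_false] at hmem
  have hlt := one_lt_card_sylow_of_card hc hm (by norm_num) (by norm_num)
  have hd := hmem
  · omega

theorem no_4981 {G : Type*} [Group G] [Finite G] [IsSimpleGroup G]
    (hG : ¬ IsMulCommutative G) (h : Nat.card G = 4981) : False := by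
  exact tp hG 17 293 1 1 (by norm_num) (by norm_num) (by rw [h]; norm_num)

theorem no_4982 {G : Type*} [Group G] [Finite G] [IsSimpleGroup G]
    (hG : ¬ IsMulCommutative G) (h : Nat.card G = 4982) : False := by
  exact ev hG (by rw [h]; exact ⟨2491, by norm_num⟩) (by rw [h]; omega)

theorem no_4983 {G : Type*} [Group G] [Finite G] [IsSimpleGroup G]
    (hG : ¬ IsMulCommutative G) (h : Nat.card G = 4983) : False := by
  have : Fact (Nat.Prime 151) := ⟨by norm_num⟩
  have hc : Nat.card G = 151 ^ 1 * 33 := by rw [h]; norm_num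
  have hm : ¬ 151 ∣ 33 := by norm_num
  have hmem := card_sylow_mem_candidates hc hm
  have hcand : sylowCandidates 151 33 = [1] := by decide
  rw [hcand] at hmem
  simp only [List.mem_cons, List.not_mem_nil, or_false] at hmem
  have hlt := one_lt_card_sylow_of_card hc hm (by norm_num) (by norm_num)
  have hd := hmem
  · omega

theorem no_4984 {G : Type*} [Group G] [Finite G] [IsSimpleGroup G]
    (hG : ¬ IsMulCommutative G) (h : Nat.card G = 4984) : False := by
  have : Fact (Nat.Prime 89) := ⟨by norm_num⟩
  have hc : Nat.card G = 89 ^ 1 * 56 := by rw [h]; norm_num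
  have hm : ¬ 89 ∣ 56 := by norm_num
  have hmem := card_sylow_mem_candidates hc hm
  have hcand : sylowCandidates 89 56 = [1] := by decide
  rw [hcand] at hmem
  simp only [List.mem_cons, List.not_mem_nil, or_false] at hmem
  have hlt := one_lt_card_sylow_of_card hc hm (by norm_num) (by norm_num)
  have hd := hmem
  · omega

theorem no_4985 {G : Type*} [Group G] [Finite G] [IsSimpleGroup G]
    (hG : ¬ IsMulCommutative G) (h : Nat.card G = 4985) : False := by
  exact tp hG 5 997 1 1 (by norm_num) (by norm_num) (by rw [h]; norm_num)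

theorem no_4986 {G : Type*} [Group G] [Finite G] [IsSimpleGroup G]
    (hG : ¬ IsMulCommutative G) (h : Nat.card G = 4986) : False := by
  exact ev hG (by rw [h]; exact ⟨2493, by norm_num⟩) (by rw [h]; omega)

theorem no_4987 {G : Type*} [Group G] [Finite G] [IsSimpleGroup G]
    (hG : ¬ IsMulCommutative G) (h : Nat.card G = 4987) : False := by
  exact tp hG 4987 2 1 0 (by norm_num) (by norm_num) (by rw [h]; norm_num)

theorem no_4988 {G : Type*} [Group G] [Finite G] [IsSimpleGroup G]
    (hG : ¬ IsMulCommutative G) (h : Nat.card G = 4988) : False := by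
  exact ev hG (by rw [h]; exact ⟨2494, by norm_num⟩) (by rw [h]; omega)

theorem no_4989 {G : Type*} [Group G] [Finite G] [IsSimpleGroup G]
    (hG : ¬ IsMulCommutative G) (h : Nat.card G = 4989) : False := by
  exact tp hG 3 1663 1 1 (by norm_num) (by norm_num) (by rw [h]; norm_num)

theorem no_4990 {G : Type*} [Group G] [Finite G] [IsSimpleGroup G]
    (hG : ¬ IsMulCommutative G) (h : Nat.card G = 4990) : False := by
  exact ev hG (by rw [h]; exact ⟨2495, by norm_num⟩) (by rw [h]; omega)

theorem no_4991 {G : Type*} [Group G] [Finite G] [IsSimpleGroup G]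
    (hG : ¬ IsMulCommutative G) (h : Nat.card G = 4991) : False := by
  have : Fact (Nat.Prime 31) := ⟨by norm_num⟩
  have hc : Nat.card G = 31 ^ 1 * 161 := by rw [h]; norm_num
  have hm : ¬ 31 ∣ 161 := by norm_num
  have hmem := card_sylow_mem_candidates hc hm
  have hcand : sylowCandidates 31 161 = [1] := by decide
  rw [hcand] at hmem
  simp only [List.mem_cons, List.not_mem_nil, or_false] at hmem
  have hlt := one_lt_card_sylow_of_card hc hm (by norm_num) (by norm_num)
  have hd := hmem
  · omega

theorem no_4992 {G : Type*} [Group G] [Finite G] [IsSimpleGroup G]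
    (hG : ¬ IsMulCommutative G) (h : Nat.card G = 4992) : False := by
  have : Fact (Nat.Prime 13) := ⟨by norm_num⟩
  have hc : Nat.card G = 13 ^ 1 * 384 := by rw [h]; norm_num
  have hm : ¬ 13 ∣ 384 := by norm_num
  have hmem := card_sylow_mem_candidates hc hm
  have hcand : sylowCandidates 13 384 = [1] := by decide
  rw [hcand] at hmem
  simp only [List.mem_cons, List.not_mem_nil, or_false] at hmem
  have hlt := one_lt_card_sylow_of_card hc hm (by norm_num) (by norm_num)
  have hd := hmem
  · omega

theorem no_4993 {G : Type*} [Group G] [Finite G] [IsSimpleGroup G]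
    (hG : ¬ IsMulCommutative G) (h : Nat.card G = 4993) : False := by
  exact tp hG 4993 2 1 0 (by norm_num) (by norm_num) (by rw [h]; norm_num)

theorem no_4994 {G : Type*} [Group G] [Finite G] [IsSimpleGroup G]
    (hG : ¬ IsMulCommutative G) (h : Nat.card G = 4994) : False := by
  exact ev hG (by rw [h]; exact ⟨2497, by norm_num⟩) (by rw [h]; omega)

theorem no_4995 {G : Type*} [Group G] [Finite G] [IsSimpleGroup G]
    (hG : ¬ IsMulCommutative G) (h : Nat.card G = 4995) : False := by
  have : Fact (Nat.Prime 37) := ⟨by norm_num⟩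
  have hc : Nat.card G = 37 ^ 1 * 135 := by rw [h]; norm_num
  have hm : ¬ 37 ∣ 135 := by norm_num
  have hmem := card_sylow_mem_candidates hc hm
  have hcand : sylowCandidates 37 135 = [1] := by decide
  rw [hcand] at hmem
  simp only [List.mem_cons, List.not_mem_nil, or_false] at hmem
  have hlt := one_lt_card_sylow_of_card hc hm (by norm_num) (by norm_num)
  have hd := hmem
  · omega

theorem no_4996 {G : Type*} [Group G] [Finite G] [IsSimpleGroup G]
    (hG : ¬ IsMulCommutative G) (h : Nat.card G = 4996) : False := by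
  exact tp hG 2 1249 2 1 (by norm_num) (by norm_num) (by rw [h]; norm_num)

theorem no_4997 {G : Type*} [Group G] [Finite G] [IsSimpleGroup G]
    (hG : ¬ IsMulCommutative G) (h : Nat.card G = 4997) : False := by
  exact tp hG 19 263 1 1 (by norm_num) (by norm_num) (by rw [h]; norm_num)

theorem no_4998 {G : Type*} [Group G] [Finite G] [IsSimpleGroup G]
    (hG : ¬ IsMulCommutative G) (h : Nat.card G = 4998) : False := by
  exact ev hG (by rw [h]; exact ⟨2499, by norm_num⟩) (by rw [h]; omega)

theorem no_4999 {G : Type*} [Group G] [Finite G] [IsSimpleGroup G]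
    (hG : ¬ IsMulCommutative G) (h : Nat.card G = 4999) : False := by
  exact tp hG 4999 2 1 0 (by norm_num) (by norm_num) (by rw [h]; norm_num)

theorem no_5000 {G : Type*} [Group G] [Finite G] [IsSimpleGroup G]
    (hG : ¬ IsMulCommutative G) (h : Nat.card G = 5000) : False := by
  exact tp hG 2 5 3 4 (by norm_num) (by norm_num) (by rw [h]; norm_num)

/-- the orders in [4901, 5000] not excluded by the engine -/
theorem chunk {G : Type*} [Group G] [Finite G] [IsSimpleGroup G]
    (hG : ¬ IsMulCommutative G) (n : ℕ) (hn : Nat.card G = n) (h1 : 4901 ≤ n) (h2 : n ≤ 5000) :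
    n = 4928 ∨ n = 4960 := by
  interval_cases n
  · exact (no_4901 hG hn).elim
  · exact (no_4902 hG hn).elim
  · exact (no_4903 hG hn).elim
  · exact (no_4904 hG hn).elim
  · exact (no_4905 hG hn).elim
  · exact (no_4906 hG hn).elim
  · exact (no_4907 hG hn).elim
  · exact (no_4908 hG hn).elim
  · exact (no_4909 hG hn).elim
  · exact (no_4910 hG hn).elim
  · exact (no_4911 hG hn).elim
  · exact (no_4912 hG hn).elim
  · exact (no_4913 hG hn).elim
  · exact (no_4914 hG hn).elim
  · exact (no_4915 hG hn).elim
  · exact (no_4916 hG hn).elim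
  · exact (no_4917 hG hn).elim
  · exact (no_4918 hG hn).elim
  · exact (no_4919 hG hn).elim
  · exact (no_4920 hG hn).elim
  · exact (no_4921 hG hn).elim
  · exact (no_4922 hG hn).elim
  · exact (no_4923 hG hn).elim
  · exact (no_4924 hG hn).elim
  · exact (no_4925 hG hn).elim
  · exact (no_4926 hG hn).elim
  · exact (no_4927 hG hn).elim
  · simp
  · exact (no_4929 hG hn).elim
  · exact (no_4930 hG hn).elim
  · exact (no_4931 hG hn).elim
  · exact (no_4932 hG hn).elim
  · exact (no_4933 hG hn).elim
  · exact (no_4934 hG hn).elim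
  · exact (no_4935 hG hn).elim
  · exact (no_4936 hG hn).elim
  · exact (no_4937 hG hn).elim
  · exact (no_4938 hG hn).elim
  · exact (no_4939 hG hn).elim
  · exact (no_4940 hG hn).elim
  · exact (no_4941 hG hn).elim
  · exact (no_4942 hG hn).elim
  · exact (no_4943 hG hn).elim
  · exact (no_4944 hG hn).elim
  · exact (no_4945 hG hn).elim
  · exact (no_4946 hG hn).elim
  · exact (no_4947 hG hn).elim
  · exact (no_4948 hG hn).elim
  · exact (no_4949 hG hn).elim
  · exact (no_4950 hG hn).elim
  · exact (no_4951 hG hn).elim
  · exact (no_4952 hG hn).elim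
  · exact (no_4953 hG hn).elim
  · exact (no_4954 hG hn).elim
  · exact (no_4955 hG hn).elim
  · exact (no_4956 hG hn).elim
  · exact (no_4957 hG hn).elim
  · exact (no_4958 hG hn).elim
  · exact (no_4959 hG hn).elim
  · simp
  · exact (no_4961 hG hn).elim
  · exact (no_4962 hG hn).elim
  · exact (no_4963 hG hn).elim
  · exact (no_4964 hG hn).elim
  · exact (no_4965 hG hn).elim
  · exact (no_4966 hG hn).elim
  · exact (no_4967 hG hn).elim
  · exact (no_4968 hG hn).elim
  · exact (no_4969 hG hn).elim
  · exact (no_4970 hG hn).elim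
  · exact (no_4971 hG hn).elim
  · exact (no_4972 hG hn).elim
  · exact (no_4973 hG hn).elim
  · exact (no_4974 hG hn).elim
  · exact (no_4975 hG hn).elim
  · exact (no_4976 hG hn).elim
  · exact (no_4977 hG hn).elim
  · exact (no_4978 hG hn).elim
  · exact (no_4979 hG hn).elim
  · exact (no_4980 hG hn).elim
  · exact (no_4981 hG hn).elim
  · exact (no_4982 hG hn).elim
  · exact (no_4983 hG hn).elim
  · exact (no_4984 hG hn).elim
  · exact (no_4985 hG hn).elim
  · exact (no_4986 hG hn).elim
  · exact (no_4987 hG hn).elim
  · exact (no_4988 hG hn).elim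
  · exact (no_4989 hG hn).elim
  · exact (no_4990 hG hn).elim
  · exact (no_4991 hG hn).elim
  · exact (no_4992 hG hn).elim
  · exact (no_4993 hG hn).elim
  · exact (no_4994 hG hn).elim
  · exact (no_4995 hG hn).elim
  · exact (no_4996 hG hn).elim
  · exact (no_4997 hG hn).elim
  · exact (no_4998 hG hn).elim
  · exact (no_4999 hG hn).elim
  · exact (no_5000 hG hn).elim

end Cfsg.Agent.Lib.Helper16_SO_E13
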