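import Mathlib
import Cfsg.Agent.Lib.Helper75_SM_Base

/-!
# S0983 engine, generated file: no simple group of order N for the easy N in [5001, 5100]
(helper16; same scheme as helper75's `Helper75_SM_E*`)
-/

set_option autoImplicit false
set_option linter.unusedVariables false

namespace Cfsg.Agent.Lib.Helper16_SO_E14

open Cfsg.Agent.Lib.Helper17_Sylow Cfsg.Agent.Lib.Helper75_SM_Base

theorem no_5001 {G : Type*} [Group G] [Finite G] [IsSimpleGroup G]
    (hG : ¬ IsMulCommutative G) (h : Nat.card G = 5001) : False := by
  exact tp hG 3 1667 1 1 (by norm_num) (by norm_num) (by rw [h]; norm_num)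

theorem no_5002 {G : Type*} [Group G] [Finite G] [IsSimpleGroup G]
    (hG : ¬ IsMulCommutative G) (h : Nat.card G = 5002) : False := by
  exact ev hG (by rw [h]; exact ⟨2501, by norm_num⟩) (by rw [h]; omega)

theorem no_5003 {G : Type*} [Group G] [Finite G] [IsSimpleGroup G]
    (hG : ¬ IsMulCommutative G) (h : Nat.card G = 5003) : False := by
  exact tp hG 5003 2 1 0 (by norm_num) (by norm_num) (by rw [h]; norm_num)

theorem no_5004 {G : Type*} [Group G] [Finite G] [IsSimpleGroup G]
    (hG : ¬ IsMulCommutative G) (h : Nat.card G = 5004) : False := by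
  have : Fact (Nat.Prime 139) := ⟨by norm_num⟩
  have hc : Nat.card G = 139 ^ 1 * 36 := by rw [h]; norm_num
  have hm : ¬ 139 ∣ 36 := by norm_num
  have hmem := card_sylow_mem_candidates hc hm
  have hcand : sylowCandidates 139 36 = [1] := by decide
  rw [hcand] at hmem
  simp only [List.mem_cons, List.not_mem_nil, or_false] at hmem
  have hlt := one_lt_card_sylow_of_card hc hm (by norm_num) (by norm_num)
  have hd := hmem
  · omega

theorem no_5005 {G : Type*} [Group G] [Finite G] [IsSimpleGroup G]
    (hG : ¬ IsMulCommutative G) (h : Nat.card G = 5005) : False := by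
  have : Fact (Nat.Prime 13) := ⟨by norm_num⟩
  have hc : Nat.card G = 13 ^ 1 * 385 := by rw [h]; norm_num
  have hm : ¬ 13 ∣ 385 := by norm_num
  have hmem := card_sylow_mem_candidates hc hm
  have hcand : sylowCandidates 13 385 = [1] := by decide
  rw [hcand] at hmem
  simp only [List.mem_cons, List.not_mem_nil, or_false] at hmem
  have hlt := one_lt_card_sylow_of_card hc hm (by norm_num) (by norm_num)
  have hd := hmem
  · omega

theorem no_5006 {G : Type*} [Group G] [Finite G] [IsSimpleGroup G]
    (hG : ¬ IsMulCommutative G) (h : Nat.card G = 5006) : False := by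
  exact tp hG 2 2503 1 1 (by norm_num) (by norm_num) (by rw [h]; norm_num)

theorem no_5007 {G : Type*} [Group G] [Finite G] [IsSimpleGroup G]
    (hG : ¬ IsMulCommutative G) (h : Nat.card G = 5007) : False := by
  exact tp hG 3 1669 1 1 (by norm_num) (by norm_num) (by rw [h]; norm_num)

theorem no_5008 {G : Type*} [Group G] [Finite G] [IsSimpleGroup G]
    (hG : ¬ IsMulCommutative G) (h : Nat.card G = 5008) : False := by
  exact tp hG 2 313 4 1 (by norm_num) (by norm_num) (by rw [h]; norm_num)

theorem no_5009 {G : Type*} [Group G] [Finite G] [IsSimpleGroup G]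
    (hG : ¬ IsMulCommutative G) (h : Nat.card G = 5009) : False := by
  exact tp hG 5009 2 1 0 (by norm_num) (by norm_num) (by rw [h]; norm_num)

theorem no_5010 {G : Type*} [Group G] [Finite G] [IsSimpleGroup G]
    (hG : ¬ IsMulCommutative G) (h : Nat.card G = 5010) : False := by
  exact ev hG (by rw [h]; exact ⟨2505, by norm_num⟩) (by rw [h]; omega)

theorem no_5011 {G : Type*} [Group G] [Finite G] [IsSimpleGroup G]
    (hG : ¬ IsMulCommutative G) (h : Nat.card G = 5011) : False := by
  exact tp hG 5011 2 1 0 (by norm_num) (by norm_num) (by rw [h]; norm_num)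

theorem no_5012 {G : Type*} [Group G] [Finite G] [IsSimpleGroup G]
    (hG : ¬ IsMulCommutative G) (h : Nat.card G = 5012) : False := by
  exact ev hG (by rw [h]; exact ⟨2506, by norm_num⟩) (by rw [h]; omega)

theorem no_5013 {G : Type*} [Group G] [Finite G] [IsSimpleGroup G]
    (hG : ¬ IsMulCommutative G) (h : Nat.card G = 5013) : False := by
  exact tp hG 3 557 2 1 (by norm_num) (by norm_num) (by rw [h]; norm_num)

theorem no_5014 {G : Type*} [Group G] [Finite G] [IsSimpleGroup G]
    (hG : ¬ IsMulCommutative G) (h : Nat.card G = 5014) : False := by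
  exact ev hG (by rw [h]; exact ⟨2507, by norm_num⟩) (by rw [h]; omega)

theorem no_5015 {G : Type*} [Group G] [Finite G] [IsSimpleGroup G]
    (hG : ¬ IsMulCommutative G) (h : Nat.card G = 5015) : False := by
  have : Fact (Nat.Prime 59) := ⟨by norm_num⟩
  have hc : Nat.card G = 59 ^ 1 * 85 := by rw [h]; norm_num
  have hm : ¬ 59 ∣ 85 := by norm_num
  have hmem := card_sylow_mem_candidates hc hm
  have hcand : sylowCandidates 59 85 = [1] := by decide
  rw [hcand] at hmem
  simp only [List.mem_cons, List.not_mem_nil, or_false] at hmem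
  have hlt := one_lt_card_sylow_of_card hc hm (by norm_num) (by norm_num)
  have hd := hmem
  · omega

theorem no_5016 {G : Type*} [Group G] [Finite G] [IsSimpleGroup G]
    (hG : ¬ IsMulCommutative G) (h : Nat.card G = 5016) : False := by
  have : Fact (Nat.Prime 19) := ⟨by norm_num⟩
  have hc : Nat.card G = 19 ^ 1 * 264 := by rw [h]; norm_num
  have hm : ¬ 19 ∣ 264 := by norm_num
  have hmem := card_sylow_mem_candidates hc hm
  have hcand : sylowCandidates 19 264 = [1] := by decide
  rw [hcand] at hmem
  simp only [List.mem_cons, List.not_mem_nil, or_false] at hmem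
  have hlt := one_lt_card_sylow_of_card hc hm (by norm_num) (by norm_num)
  have hd := hmem
  · omega

theorem no_5017 {G : Type*} [Group G] [Finite G] [IsSimpleGroup G]
    (hG : ¬ IsMulCommutative G) (h : Nat.card G = 5017) : False := by
  exact tp hG 29 173 1 1 (by norm_num) (by norm_num) (by rw [h]; norm_num)

theorem no_5018 {G : Type*} [Group G] [Finite G] [IsSimpleGroup G]
    (hG : ¬ IsMulCommutative G) (h : Nat.card G = 5018) : False := by
  exact ev hG (by rw [h]; exact ⟨2509, by norm_num⟩) (by rw [h]; omega)

theorem no_5019 {G : Type*} [Group G] [Finite G] [IsSimpleGroup G]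
    (hG : ¬ IsMulCommutative G) (h : Nat.card G = 5019) : False := by
  have : Fact (Nat.Prime 239) := ⟨by norm_num⟩
  have hc : Nat.card G = 239 ^ 1 * 21 := by rw [h]; norm_num
  have hm : ¬ 239 ∣ 21 := by norm_num
  have hmem := card_sylow_mem_candidates hc hm
  have hcand : sylowCandidates 239 21 = [1] := by decide
  rw [hcand] at hmem
  simp only [List.mem_cons, List.not_mem_nil, or_false] at hmem
  have hlt := one_lt_card_sylow_of_card hc hm (by norm_num) (by norm_num)
  have hd := hmem
  · omega

theorem no_5020 {G : Type*} [Group G] [Finite G] [IsSimpleGroup G]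
    (hG : ¬ IsMulCommutative G) (h : Nat.card G = 5020) : False := by
  exact ev hG (by rw [h]; exact ⟨2510, by norm_num⟩) (by rw [h]; omega)

theorem no_5021 {G : Type*} [Group G] [Finite G] [IsSimpleGroup G]
    (hG : ¬ IsMulCommutative G) (h : Nat.card G = 5021) : False := by
  exact tp hG 5021 2 1 0 (by norm_num) (by norm_num) (by rw [h]; norm_num)

theorem no_5022 {G : Type*} [Group G] [Finite G] [IsSimpleGroup G]
    (hG : ¬ IsMulCommutative G) (h : Nat.card G = 5022) : False := by
  exact ev hG (by rw [h]; exact ⟨2511, by norm_num⟩) (by rw [h]; omega)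

theorem no_5023 {G : Type*} [Group G] [Finite G] [IsSimpleGroup G]
    (hG : ¬ IsMulCommutative G) (h : Nat.card G = 5023) : False := by
  exact tp hG 5023 2 1 0 (by norm_num) (by norm_num) (by rw [h]; norm_num)

theorem no_5024 {G : Type*} [Group G] [Finite G] [IsSimpleGroup G]
    (hG : ¬ IsMulCommutative G) (h : Nat.card G = 5024) : False := by
  exact tp hG 2 157 5 1 (by norm_num) (by norm_num) (by rw [h]; norm_num)

theorem no_5025 {G : Type*} [Group G] [Finite G] [IsSimpleGroup G]
    (hG : ¬ IsMulCommutative G) (h : Nat.card G = 5025) : False := by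
  have : Fact (Nat.Prime 67) := ⟨by norm_num⟩
  have hc : Nat.card G = 67 ^ 1 * 75 := by rw [h]; norm_num
  have hm : ¬ 67 ∣ 75 := by norm_num
  have hmem := card_sylow_mem_candidates hc hm
  have hcand : sylowCandidates 67 75 = [1] := by decide
  rw [hcand] at hmem
  simp only [List.mem_cons, List.not_mem_nil, or_false] at hmem
  have hlt := one_lt_card_sylow_of_card hc hm (by norm_num) (by norm_num)
  have hd := hmem
  · omega

theorem no_5026 {G : Type*} [Group G] [Finite G] [IsSimpleGroup G]
    (hG : ¬ IsMulCommutative G) (h : Nat.card G = 5026) : False := by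
  exact ev hG (by rw [h]; exact ⟨2513, by norm_num⟩) (by rw [h]; omega)

theorem no_5027 {G : Type*} [Group G] [Finite G] [IsSimpleGroup G]
    (hG : ¬ IsMulCommutative G) (h : Nat.card G = 5027) : False := by
  exact tp hG 11 457 1 1 (by norm_num) (by norm_num) (by rw [h]; norm_num)

theorem no_5028 {G : Type*} [Group G] [Finite G] [IsSimpleGroup G]
    (hG : ¬ IsMulCommutative G) (h : Nat.card G = 5028) : False := by
  have : Fact (Nat.Prime 419) := ⟨by norm_num⟩
  have hc : Nat.card G = 419 ^ 1 * 12 := by rw [h]; norm_num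
  have hm : ¬ 419 ∣ 12 := by norm_num
  have hmem := card_sylow_mem_candidates hc hm
  have hcand : sylowCandidates 419 12 = [1] := by decide
  rw [hcand] at hmem
  simp only [List.mem_cons, List.not_mem_nil, or_false] at hmem
  have hlt := one_lt_card_sylow_of_card hc hm (by norm_num) (by norm_num)
  have hd := hmem
  · omega

theorem no_5029 {G : Type*} [Group G] [Finite G] [IsSimpleGroup G]
    (hG : ¬ IsMulCommutative G) (h : Nat.card G = 5029) : False := by
  exact tp hG 47 107 1 1 (by norm_num) (by norm_num) (by rw [h]; norm_num)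

theorem no_5030 {G : Type*} [Group G] [Finite G] [IsSimpleGroup G]
    (hG : ¬ IsMulCommutative G) (h : Nat.card G = 5030) : False := by
  exact ev hG (by rw [h]; exact ⟨2515, by norm_num⟩) (by rw [h]; omega)

theorem no_5031 {G : Type*} [Group G] [Finite G] [IsSimpleGroup G]
    (hG : ¬ IsMulCommutative G) (h : Nat.card G = 5031) : False := by
  have : Fact (Nat.Prime 43) := ⟨by norm_num⟩
  have hc : Nat.card G = 43 ^ 1 * 117 := by rw [h]; norm_num
  have hm : ¬ 43 ∣ 117 := by norm_num
  have hmem := card_sylow_mem_candidates hc hm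
  have hcand : sylowCandidates 43 117 = [1] := by decide
  rw [hcand] at hmem
  simp only [List.mem_cons, List.not_mem_nil, or_false] at hmem
  have hlt := one_lt_card_sylow_of_card hc hm (by norm_num) (by norm_num)
  have hd := hmem
  · omega

theorem no_5032 {G : Type*} [Group G] [Finite G] [IsSimpleGroup G]
    (hG : ¬ IsMulCommutative G) (h : Nat.card G = 5032) : False := by
  exact ev hG (by rw [h]; exact ⟨2516, by norm_num⟩) (by rw [h]; omega)

theorem no_5033 {G : Type*} [Group G] [Finite G] [IsSimpleGroup G]
    (hG : ¬ IsMulCommutative G) (h : Nat.card G = 5033) : False := by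
  exact tp hG 7 719 1 1 (by norm_num) (by norm_num) (by rw [h]; norm_num)

theorem no_5034 {G : Type*} [Group G] [Finite G] [IsSimpleGroup G]
    (hG : ¬ IsMulCommutative G) (h : Nat.card G = 5034) : False := by
  exact ev hG (by rw [h]; exact ⟨2517, by norm_num⟩) (by rw [h]; omega)

theorem no_5035 {G : Type*} [Group G] [Finite G] [IsSimpleGroup G]
    (hG : ¬ IsMulCommutative G) (h : Nat.card G = 5035) : False := by
  have : Fact (Nat.Prime 53) := ⟨by norm_num⟩
  have hc : Nat.card G = 53 ^ 1 * 95 := by rw [h]; norm_num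
  have hm : ¬ 53 ∣ 95 := by norm_num
  have hmem := card_sylow_mem_candidates hc hm
  have hcand : sylowCandidates 53 95 = [1] := by decide
  rw [hcand] at hmem
  simp only [List.mem_cons, List.not_mem_nil, or_false] at hmem
  have hlt := one_lt_card_sylow_of_card hc hm (by norm_num) (by norm_num)
  have hd := hmem
  · omega

theorem no_5036 {G : Type*} [Group G] [Finite G] [IsSimpleGroup G]
    (hG : ¬ IsMulCommutative G) (h : Nat.card G = 5036) : False := by
  exact tp hG 2 1259 2 1 (by norm_num) (by norm_num) (by rw [h]; norm_num)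

theorem no_5037 {G : Type*} [Group G] [Finite G] [IsSimpleGroup G]
    (hG : ¬ IsMulCommutative G) (h : Nat.card G = 5037) : False := by
  have : Fact (Nat.Prime 73) := ⟨by norm_num⟩
  have hc : Nat.card G = 73 ^ 1 * 69 := by rw [h]; norm_num
  have hm : ¬ 73 ∣ 69 := by norm_num
  have hmem := card_sylow_mem_candidates hc hm
  have hcand : sylowCandidates 73 69 = [1] := by decide
  rw [hcand] at hmem
  simp only [List.mem_cons, List.not_mem_nil, or_false] at hmem
  have hlt := one_lt_card_sylow_of_card hc hm (by norm_num) (by norm_num)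
  have hd := hmem
  · omega

theorem no_5038 {G : Type*} [Group G] [Finite G] [IsSimpleGroup G]
    (hG : ¬ IsMulCommutative G) (h : Nat.card G = 5038) : False := by
  exact ev hG (by rw [h]; exact ⟨2519, by norm_num⟩) (by rw [h]; omega)

theorem no_5039 {G : Type*} [Group G] [Finite G] [IsSimpleGroup G]
    (hG : ¬ IsMulCommutative G) (h : Nat.card G = 5039) : False := by
  exact tp hG 5039 2 1 0 (by norm_num) (by norm_num) (by rw [h]; norm_num)

theorem no_5041 {G : Type*} [Group G] [Finite G] [IsSimpleGroup G]
    (hG : ¬ IsMulCommutative G) (h : Nat.card G = 5041) : False := by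
  exact tp hG 71 2 2 0 (by norm_num) (by norm_num) (by rw [h]; norm_num)

theorem no_5042 {G : Type*} [Group G] [Finite G] [IsSimpleGroup G]
    (hG : ¬ IsMulCommutative G) (h : Nat.card G = 5042) : False := by
  exact tp hG 2 2521 1 1 (by norm_num) (by norm_num) (by rw [h]; norm_num)

theorem no_5043 {G : Type*} [Group G] [Finite G] [IsSimpleGroup G]
    (hG : ¬ IsMulCommutative G) (h : Nat.card G = 5043) : False := by
  exact tp hG 3 41 1 2 (by norm_num) (by norm_num) (by rw [h]; norm_num)

theorem no_5044 {G : Type*} [Group G] [Finite G] [IsSimpleGroup G]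
    (hG : ¬ IsMulCommutative G) (h : Nat.card G = 5044) : False := by
  exact ev hG (by rw [h]; exact ⟨2522, by norm_num⟩) (by rw [h]; omega)

theorem no_5045 {G : Type*} [Group G] [Finite G] [IsSimpleGroup G]
    (hG : ¬ IsMulCommutative G) (h : Nat.card G = 5045) : False := by
  exact tp hG 5 1009 1 1 (by norm_num) (by norm_num) (by rw [h]; norm_num)

theorem no_5046 {G : Type*} [Group G] [Finite G] [IsSimpleGroup G]
    (hG : ¬ IsMulCommutative G) (h : Nat.card G = 5046) : False := by
  exact ev hG (by rw [h]; exact ⟨2523, by norm_num⟩) (by rw [h]; omega)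

theorem no_5047 {G : Type*} [Group G] [Finite G] [IsSimpleGroup G]
    (hG : ¬ IsMulCommutative G) (h : Nat.card G = 5047) : False := by
  exact tp hG 7 103 2 1 (by norm_num) (by norm_num) (by rw [h]; norm_num)

theorem no_5048 {G : Type*} [Group G] [Finite G] [IsSimpleGroup G]
    (hG : ¬ IsMulCommutative G) (h : Nat.card G = 5048) : False := by
  exact tp hG 2 631 3 1 (by norm_num) (by norm_num) (by rw [h]; norm_num)

theorem no_5049 {G : Type*} [Group G] [Finite G] [IsSimpleGroup G]
    (hG : ¬ IsMulCommutative G) (h : Nat.card G = 5049) : False := by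
  have : Fact (Nat.Prime 17) := ⟨by norm_num⟩
  have hc : Nat.card G = 17 ^ 1 * 297 := by rw [h]; norm_num
  have hm : ¬ 17 ∣ 297 := by norm_num
  have hmem := card_sylow_mem_candidates hc hm
  have hcand : sylowCandidates 17 297 = [1] := by decide
  rw [hcand] at hmem
  simp only [List.mem_cons, List.not_mem_nil, or_false] at hmem
  have hlt := one_lt_card_sylow_of_card hc hm (by norm_num) (by norm_num)
  have hd := hmem
  · omega

theorem no_5050 {G : Type*} [Group G] [Finite G] [IsSimpleGroup G]
    (hG : ¬ IsMulCommutative G) (h : Nat.card G = 5050) : False := by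
  exact ev hG (by rw [h]; exact ⟨2525, by norm_num⟩) (by rw [h]; omega)

theorem no_5051 {G : Type*} [Group G] [Finite G] [IsSimpleGroup G]
    (hG : ¬ IsMulCommutative G) (h : Nat.card G = 5051) : False := by
  exact tp hG 5051 2 1 0 (by norm_num) (by norm_num) (by rw [h]; norm_num)

theorem no_5052 {G : Type*} [Group G] [Finite G] [IsSimpleGroup G]
    (hG : ¬ IsMulCommutative G) (h : Nat.card G = 5052) : False := by
  have : Fact (Nat.Prime 421) := ⟨by norm_num⟩
  have hc : Nat.card G = 421 ^ 1 * 12 := by rw [h]; norm_num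
  have hm : ¬ 421 ∣ 12 := by norm_num
  have hmem := card_sylow_mem_candidates hc hm
  have hcand : sylowCandidates 421 12 = [1] := by decide
  rw [hcand] at hmem
  simp only [List.mem_cons, List.not_mem_nil, or_false] at hmem
  have hlt := one_lt_card_sylow_of_card hc hm (by norm_num) (by norm_num)
  have hd := hmem
  · omega

theorem no_5053 {G : Type*} [Group G] [Finite G] [IsSimpleGroup G]
    (hG : ¬ IsMulCommutative G) (h : Nat.card G = 5053) : False := by
  exact tp hG 31 163 1 1 (by norm_num) (by norm_num) (by rw [h]; norm_num)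

theorem no_5054 {G : Type*} [Group G] [Finite G] [IsSimpleGroup G]
    (hG : ¬ IsMulCommutative G) (h : Nat.card G = 5054) : False := by
  exact ev hG (by rw [h]; exact ⟨2527, by norm_num⟩) (by rw [h]; omega)

theorem no_5055 {G : Type*} [Group G] [Finite G] [IsSimpleGroup G]
    (hG : ¬ IsMulCommutative G) (h : Nat.card G = 5055) : False := by
  have : Fact (Nat.Prime 337) := ⟨by norm_num⟩
  have hc : Nat.card G = 337 ^ 1 * 15 := by rw [h]; norm_num
  have hm : ¬ 337 ∣ 15 := by norm_num
  have hmem := card_sylow_mem_candidates hc hm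
  have hcand : sylowCandidates 337 15 = [1] := by decide
  rw [hcand] at hmem
  simp only [List.mem_cons, List.not_mem_nil, or_false] at hmem
  have hlt := one_lt_card_sylow_of_card hc hm (by norm_num) (by norm_num)
  have hd := hmem
  · omega

theorem no_5056 {G : Type*} [Group G] [Finite G] [IsSimpleGroup G]
    (hG : ¬ IsMulCommutative G) (h : Nat.card G = 5056) : False := by
  exact tp hG 2 79 6 1 (by norm_num) (by norm_num) (by rw [h]; norm_num)

theorem no_5057 {G : Type*} [Group G] [Finite G] [IsSimpleGroup G]
    (hG : ¬ IsMulCommutative G) (h : Nat.card G = 5057) : False := by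
  exact tp hG 13 389 1 1 (by norm_num) (by norm_num) (by rw [h]; norm_num)

theorem no_5058 {G : Type*} [Group G] [Finite G] [IsSimpleGroup G]
    (hG : ¬ IsMulCommutative G) (h : Nat.card G = 5058) : False := by
  exact ev hG (by rw [h]; exact ⟨2529, by norm_num⟩) (by rw [h]; omega)

theorem no_5059 {G : Type*} [Group G] [Finite G] [IsSimpleGroup G]
    (hG : ¬ IsMulCommutative G) (h : Nat.card G = 5059) : False := by
  exact tp hG 5059 2 1 0 (by norm_num) (by norm_num) (by rw [h]; norm_num)

theorem no_5060 {G : Type*} [Group G] [Finite G] [IsSimpleGroup G]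
    (hG : ¬ IsMulCommutative G) (h : Nat.card G = 5060) : False := by
  exact ev hG (by rw [h]; exact ⟨2530, by norm_num⟩) (by rw [h]; omega)

theorem no_5061 {G : Type*} [Group G] [Finite G] [IsSimpleGroup G]
    (hG : ¬ IsMulCommutative G) (h : Nat.card G = 5061) : False := by
  have : Fact (Nat.Prime 241) := ⟨by norm_num⟩
  have hc : Nat.card G = 241 ^ 1 * 21 := by rw [h]; norm_num
  have hm : ¬ 241 ∣ 21 := by norm_num
  have hmem := card_sylow_mem_candidates hc hm
  have hcand : sylowCandidates 241 21 = [1] := by decide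
  rw [hcand] at hmem
  simp only [List.mem_cons, List.not_mem_nil, or_false] at hmem
  have hlt := one_lt_card_sylow_of_card hc hm (by norm_num) (by norm_num)
  have hd := hmem
  · omega

theorem no_5062 {G : Type*} [Group G] [Finite G] [IsSimpleGroup G]
    (hG : ¬ IsMulCommutative G) (h : Nat.card G = 5062) : False := by
  exact tp hG 2 2531 1 1 (by norm_num) (by norm_num) (by rw [h]; norm_num)

theorem no_5063 {G : Type*} [Group G] [Finite G] [IsSimpleGroup G]
    (hG : ¬ IsMulCommutative G) (h : Nat.card G = 5063) : False := by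
  exact tp hG 61 83 1 1 (by norm_num) (by norm_num) (by rw [h]; norm_num)

theorem no_5064 {G : Type*} [Group G] [Finite G] [IsSimpleGroup G]
    (hG : ¬ IsMulCommutative G) (h : Nat.card G = 5064) : False := by
  have : Fact (Nat.Prime 211) := ⟨by norm_num⟩
  have hc : Nat.card G = 211 ^ 1 * 24 := by rw [h]; norm_num
  have hm : ¬ 211 ∣ 24 := by norm_num
  have hmem := card_sylow_mem_candidates hc hm
  have hcand : sylowCandidates 211 24 = [1] := by decide
  rw [hcand] at hmem
  simp only [List.mem_cons, List.not_mem_nil, or_false] at hmem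
  have hlt := one_lt_card_sylow_of_card hc hm (by norm_num) (by norm_num)
  have hd := hmem
  · omega

theorem no_5065 {G : Type*} [Group G] [Finite G] [IsSimpleGroup G]
    (hG : ¬ IsMulCommutative G) (h : Nat.card G = 5065) : False := by
  exact tp hG 5 1013 1 1 (by norm_num) (by norm_num) (by rw [h]; norm_num)

theorem no_5066 {G : Type*} [Group G] [Finite G] [IsSimpleGroup G]
    (hG : ¬ IsMulCommutative G) (h : Nat.card G = 5066) : False := by
  exact ev hG (by rw [h]; exact ⟨2533, by norm_num⟩) (by rw [h]; omega)

theorem no_5067 {G : Type*} [Group G] [Finite G] [IsSimpleGroup G]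
    (hG : ¬ IsMulCommutative G) (h : Nat.card G = 5067) : False := by
  exact tp hG 3 563 2 1 (by norm_num) (by norm_num) (by rw [h]; norm_num)

theorem no_5068 {G : Type*} [Group G] [Finite G] [IsSimpleGroup G]
    (hG : ¬ IsMulCommutative G) (h : Nat.card G = 5068) : False := by
  exact ev hG (by rw [h]; exact ⟨2534, by norm_num⟩) (by rw [h]; omega)

theorem no_5069 {G : Type*} [Group G] [Finite G] [IsSimpleGroup G]
    (hG : ¬ IsMulCommutative G) (h : Nat.card G = 5069) : False := by
  exact tp hG 37 137 1 1 (by norm_num) (by norm_num) (by rw [h]; norm_num)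

theorem no_5070 {G : Type*} [Group G] [Finite G] [IsSimpleGroup G]
    (hG : ¬ IsMulCommutative G) (h : Nat.card G = 5070) : False := by
  exact ev hG (by rw [h]; exact ⟨2535, by norm_num⟩) (by rw [h]; omega)

theorem no_5071 {G : Type*} [Group G] [Finite G] [IsSimpleGroup G]
    (hG : ¬ IsMulCommutative G) (h : Nat.card G = 5071) : False := by
  exact tp hG 11 461 1 1 (by norm_num) (by norm_num) (by rw [h]; norm_num)

theorem no_5072 {G : Type*} [Group G] [Finite G] [IsSimpleGroup G]
    (hG : ¬ IsMulCommutative G) (h : Nat.card G = 5072) : False := by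
  exact tp hG 2 317 4 1 (by norm_num) (by norm_num) (by rw [h]; norm_num)

theorem no_5073 {G : Type*} [Group G] [Finite G] [IsSimpleGroup G]
    (hG : ¬ IsMulCommutative G) (h : Nat.card G = 5073) : False := by
  have : Fact (Nat.Prime 89) := ⟨by norm_num⟩
  have hc : Nat.card G = 89 ^ 1 * 57 := by rw [h]; norm_num
  have hm : ¬ 89 ∣ 57 := by norm_num
  have hmem := card_sylow_mem_candidates hc hm
  have hcand : sylowCandidates 89 57 = [1] := by decide
  rw [hcand] at hmem
  simp only [List.mem_cons, List.not_mem_nil, or_false] at hmem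
  have hlt := one_lt_card_sylow_of_card hc hm (by norm_num) (by norm_num)
  have hd := hmem
  · omega

theorem no_5074 {G : Type*} [Group G] [Finite G] [IsSimpleGroup G]
    (hG : ¬ IsMulCommutative G) (h : Nat.card G = 5074) : False := by
  exact ev hG (by rw [h]; exact ⟨2537, by norm_num⟩) (by rw [h]; omega)

theorem no_5075 {G : Type*} [Group G] [Finite G] [IsSimpleGroup G]
    (hG : ¬ IsMulCommutative G) (h : Nat.card G = 5075) : False := by
  have : Fact (Nat.Prime 29) := ⟨by norm_num⟩
  have hc : Nat.card G = 29 ^ 1 * 175 := by rw [h]; norm_num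
  have hm : ¬ 29 ∣ 175 := by norm_num
  have hmem := card_sylow_mem_candidates hc hm
  have hcand : sylowCandidates 29 175 = [1, 175] := by decide
  rw [hcand] at hmem
  simp only [List.mem_cons, List.not_mem_nil, or_false] at hmem
  have hlt := one_lt_card_sylow_of_card hc hm (by norm_num) (by norm_num)
  rcases hmem with hd | hd
  · omega
  · exact burn_kill hc hm (by norm_num) 175 hd (by decide)

theorem no_5076 {G : Type*} [Group G] [Finite G] [IsSimpleGroup G]
    (hG : ¬ IsMulCommutative G) (h : Nat.card G = 5076) : False := by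
  have : Fact (Nat.Prime 47) := ⟨by norm_num⟩
  have hc : Nat.card G = 47 ^ 1 * 108 := by rw [h]; norm_num
  have hm : ¬ 47 ∣ 108 := by norm_num
  have hmem := card_sylow_mem_candidates hc hm
  have hcand : sylowCandidates 47 108 = [1] := by decide
  rw [hcand] at hmem
  simp only [List.mem_cons, List.not_mem_nil, or_false] at hmem
  have hlt := one_lt_card_sylow_of_card hc hm (by norm_num) (by norm_num)
  have hd := hmem
  · omega

theorem no_5077 {G : Type*} [Group G] [Finite G] [IsSimpleGroup G]
    (hG : ¬ IsMulCommutative G) (h : Nat.card G = 5077) : False := by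
  exact tp hG 5077 2 1 0 (by norm_num) (by norm_num) (by rw [h]; norm_num)

theorem no_5078 {G : Type*} [Group G] [Finite G] [IsSimpleGroup G]
    (hG : ¬ IsMulCommutative G) (h : Nat.card G = 5078) : False := by
  exact tp hG 2 2539 1 1 (by norm_num) (by norm_num) (by rw [h]; norm_num)

theorem no_5079 {G : Type*} [Group G] [Finite G] [IsSimpleGroup G]
    (hG : ¬ IsMulCommutative G) (h : Nat.card G = 5079) : False := by
  exact tp hG 3 1693 1 1 (by norm_num) (by norm_num) (by rw [h]; norm_num)

theorem no_5080 {G : Type*} [Group G] [Finite G] [IsSimpleGroup G]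
    (hG : ¬ IsMulCommutative G) (h : Nat.card G = 5080) : False := by
  exact ev hG (by rw [h]; exact ⟨2540, by norm_num⟩) (by rw [h]; omega)

theorem no_5081 {G : Type*} [Group G] [Finite G] [IsSimpleGroup G]
    (hG : ¬ IsMulCommutative G) (h : Nat.card G = 5081) : False := by
  exact tp hG 5081 2 1 0 (by norm_num) (by norm_num) (by rw [h]; norm_num)

theorem no_5082 {G : Type*} [Group G] [Finite G] [IsSimpleGroup G]
    (hG : ¬ IsMulCommutative G) (h : Nat.card G = 5082) : False := by
  exact ev hG (by rw [h]; exact ⟨2541, by norm_num⟩) (by rw [h]; omega)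

theorem no_5083 {G : Type*} [Group G] [Finite G] [IsSimpleGroup G]
    (hG : ¬ IsMulCommutative G) (h : Nat.card G = 5083) : False := by
  have : Fact (Nat.Prime 23) := ⟨by norm_num⟩
  have hc : Nat.card G = 23 ^ 1 * 221 := by rw [h]; norm_num
  have hm : ¬ 23 ∣ 221 := by norm_num
  have hmem := card_sylow_mem_candidates hc hm
  have hcand : sylowCandidates 23 221 = [1] := by decide
  rw [hcand] at hmem
  simp only [List.mem_cons, List.not_mem_nil, or_false] at hmem
  have hlt := one_lt_card_sylow_of_card hc hm (by norm_num) (by norm_num)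
  have hd := hmem
  · omega

theorem no_5084 {G : Type*} [Group G] [Finite G] [IsSimpleGroup G]
    (hG : ¬ IsMulCommutative G) (h : Nat.card G = 5084) : False := by
  exact ev hG (by rw [h]; exact ⟨2542, by norm_num⟩) (by rw [h]; omega)

theorem no_5085 {G : Type*} [Group G] [Finite G] [IsSimpleGroup G]
    (hG : ¬ IsMulCommutative G) (h : Nat.card G = 5085) : False := by
  have : Fact (Nat.Prime 113) := ⟨by norm_num⟩
  have hc : Nat.card G = 113 ^ 1 * 45 := by rw [h]; norm_num
  have hm : ¬ 113 ∣ 45 := by norm_num
  have hmem := card_sylow_mem_candidates hc hm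
  have hcand : sylowCandidates 113 45 = [1] := by decide
  rw [hcand] at hmem
  simp only [List.mem_cons, List.not_mem_nil, or_false] at hmem
  have hlt := one_lt_card_sylow_of_card hc hm (by norm_num) (by norm_num)
  have hd := hmem
  · omega

theorem no_5086 {G : Type*} [Group G] [Finite G] [IsSimpleGroup G]
    (hG : ¬ IsMulCommutative G) (h : Nat.card G = 5086) : False := by
  exact tp hG 2 2543 1 1 (by norm_num) (by norm_num) (by rw [h]; norm_num)

theorem no_5087 {G : Type*} [Group G] [Finite G] [IsSimpleGroup G]
    (hG : ¬ IsMulCommutative G) (h : Nat.card G = 5087) : False := by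
  exact tp hG 5087 2 1 0 (by norm_num) (by norm_num) (by rw [h]; norm_num)

theorem no_5088 {G : Type*} [Group G] [Finite G] [IsSimpleGroup G]
    (hG : ¬ IsMulCommutative G) (h : Nat.card G = 5088) : False := by
  have : Fact (Nat.Prime 53) := ⟨by norm_num⟩
  have hc : Nat.card G = 53 ^ 1 * 96 := by rw [h]; norm_num
  have hm : ¬ 53 ∣ 96 := by norm_num
  have hmem := card_sylow_mem_candidates hc hm
  have hcand : sylowCandidates 53 96 = [1] := by decide
  rw [hcand] at hmem
  simp only [List.mem_cons, List.not_mem_nil, or_false] at hmem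
  have hlt := one_lt_card_sylow_of_card hc hm (by norm_num) (by norm_num)
  have hd := hmem
  · omega

theorem no_5089 {G : Type*} [Group G] [Finite G] [IsSimpleGroup G]
    (hG : ¬ IsMulCommutative G) (h : Nat.card G = 5089) : False := by
  exact tp hG 7 727 1 1 (by norm_num) (by norm_num) (by rw [h]; norm_num)

theorem no_5090 {G : Type*} [Group G] [Finite G] [IsSimpleGroup G]
    (hG : ¬ IsMulCommutative G) (h : Nat.card G = 5090) : False := by
  exact ev hG (by rw [h]; exact ⟨2545, by norm_num⟩) (by rw [h]; omega)

theorem no_5091 {G : Type*} [Group G] [Finite G] [IsSimpleGroup G]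
    (hG : ¬ IsMulCommutative G) (h : Nat.card G = 5091) : False := by
  exact tp hG 3 1697 1 1 (by norm_num) (by norm_num) (by rw [h]; norm_num)

theorem no_5092 {G : Type*} [Group G] [Finite G] [IsSimpleGroup G]
    (hG : ¬ IsMulCommutative G) (h : Nat.card G = 5092) : False := by
  exact ev hG (by rw [h]; exact ⟨2546, by norm_num⟩) (by rw [h]; omega)

theorem no_5093 {G : Type*} [Group G] [Finite G] [IsSimpleGroup G]
    (hG : ¬ IsMulCommutative G) (h : Nat.card G = 5093) : False := by
  exact tp hG 11 463 1 1 (by norm_num) (by norm_num) (by rw [h]; norm_num)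

theorem no_5094 {G : Type*} [Group G] [Finite G] [IsSimpleGroup G]
    (hG : ¬ IsMulCommutative G) (h : Nat.card G = 5094) : False := by
  exact ev hG (by rw [h]; exact ⟨2547, by norm_num⟩) (by rw [h]; omega)

theorem no_5095 {G : Type*} [Group G] [Finite G] [IsSimpleGroup G]
    (hG : ¬ IsMulCommutative G) (h : Nat.card G = 5095) : False := by
  exact tp hG 5 1019 1 1 (by norm_num) (by norm_num) (by rw [h]; norm_num)

theorem no_5096 {G : Type*} [Group G] [Finite G] [IsSimpleGroup G]
    (hG : ¬ IsMulCommutative G) (h : Nat.card G = 5096) : False := by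
  have : Fact (Nat.Prime 7) := ⟨by norm_num⟩
  have hc : Nat.card G = 7 ^ 2 * 104 := by rw [h]; norm_num
  have hm : ¬ 7 ∣ 104 := by norm_num
  have hmem := card_sylow_mem_candidates hc hm
  have hcand : sylowCandidates 7 104 = [1, 8] := by decide
  rw [hcand] at hmem
  simp only [List.mem_cons, List.not_mem_nil, or_false] at hmem
  have hlt := one_lt_card_sylow_of_card hc hm (by norm_num) (by norm_num)
  rcases hmem with hd | hd
  · omega
  · exact fact_kill hG 8 hd (by norm_num) (by rw [h]; decide)

theorem no_5097 {G : Type*} [Group G] [Finite G] [IsSimpleGroup G]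
    (hG : ¬ IsMulCommutative G) (h : Nat.card G = 5097) : False := by
  exact tp hG 3 1699 1 1 (by norm_num) (by norm_num) (by rw [h]; norm_num)

theorem no_5098 {G : Type*} [Group G] [Finite G] [IsSimpleGroup G]
    (hG : ¬ IsMulCommutative G) (h : Nat.card G = 5098) : False := by
  exact tp hG 2 2549 1 1 (by norm_num) (by norm_num) (by rw [h]; norm_num)

theorem no_5099 {G : Type*} [Group G] [Finite G] [IsSimpleGroup G]
    (hG : ¬ IsMulCommutative G) (h : Nat.card G = 5099) : False := by
  exact tp hG 5099 2 1 0 (by norm_num) (by norm_num) (by rw [h]; norm_num)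

theorem no_5100 {G : Type*} [Group G] [Finite G] [IsSimpleGroup G]
    (hG : ¬ IsMulCommutative G) (h : Nat.card G = 5100) : False := by
  have : Fact (Nat.Prime 17) := ⟨by norm_num⟩
  have hc : Nat.card G = 17 ^ 1 * 300 := by rw [h]; norm_num
  have hm : ¬ 17 ∣ 300 := by norm_num
  have hmem := card_sylow_mem_candidates hc hm
  have hcand : sylowCandidates 17 300 = [1] := by decide
  rw [hcand] at hmem
  simp only [List.mem_cons, List.not_mem_nil, or_false] at hmem
  have hlt := one_lt_card_sylow_of_card hc hm (by norm_num) (by norm_num)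
  have hd := hmem
  · omega

/-- the orders in [5001, 5100] not excluded by the engine -/
theorem chunk {G : Type*} [Group G] [Finite G] [IsSimpleGroup G]
    (hG : ¬ IsMulCommutative G) (n : ℕ) (hn : Nat.card G = n) (h1 : 5001 ≤ n) (h2 : n ≤ 5100) :
    n = 5040 := by
  interval_cases n
  · exact (no_5001 hG hn).elim
  · exact (no_5002 hG hn).elim
  · exact (no_5003 hG hn).elim
  · exact (no_5004 hG hn).elim
  · exact (no_5005 hG hn).elim
  · exact (no_5006 hG hn).elim
  · exact (no_5007 hG hn).elim
  · exact (no_5008 hG hn).elim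
  · exact (no_5009 hG hn).elim
  · exact (no_5010 hG hn).elim
  · exact (no_5011 hG hn).elim
  · exact (no_5012 hG hn).elim
  · exact (no_5013 hG hn).elim
  · exact (no_5014 hG hn).elim
  · exact (no_5015 hG hn).elim
  · exact (no_5016 hG hn).elim
  · exact (no_5017 hG hn).elim
  · exact (no_5018 hG hn).elim
  · exact (no_5019 hG hn).elim
  · exact (no_5020 hG hn).elim
  · exact (no_5021 hG hn).elim
  · exact (no_5022 hG hn).elim
  · exact (no_5023 hG hn).elim
  · exact (no_5024 hG hn).elim
  · exact (no_5025 hG hn).elim
  · exact (no_5026 hG hn).elim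
  · exact (no_5027 hG hn).elim
  · exact (no_5028 hG hn).elim
  · exact (no_5029 hG hn).elim
  · exact (no_5030 hG hn).elim
  · exact (no_5031 hG hn).elim
  · exact (no_5032 hG hn).elim
  · exact (no_5033 hG hn).elim
  · exact (no_5034 hG hn).elim
  · exact (no_5035 hG hn).elim
  · exact (no_5036 hG hn).elim
  · exact (no_5037 hG hn).elim
  · exact (no_5038 hG hn).elim
  · exact (no_5039 hG hn).elim
  · simp
  · exact (no_5041 hG hn).elim
  · exact (no_5042 hG hn).elim
  · exact (no_5043 hG hn).elim
  · exact (no_5044 hG hn).elim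
  · exact (no_5045 hG hn).elim
  · exact (no_5046 hG hn).elim
  · exact (no_5047 hG hn).elim
  · exact (no_5048 hG hn).elim
  · exact (no_5049 hG hn).elim
  · exact (no_5050 hG hn).elim
  · exact (no_5051 hG hn).elim
  · exact (no_5052 hG hn).elim
  · exact (no_5053 hG hn).elim
  · exact (no_5054 hG hn).elim
  · exact (no_5055 hG hn).elim
  · exact (no_5056 hG hn).elim
  · exact (no_5057 hG hn).elim
  · exact (no_5058 hG hn).elim
  · exact (no_5059 hG hn).elim
  · exact (no_5060 hG hn).elim
  · exact (no_5061 hG hn).elim
  · exact (no_5062 hG hn).elim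
  · exact (no_5063 hG hn).elim
  · exact (no_5064 hG hn).elim
  · exact (no_5065 hG hn).elim
  · exact (no_5066 hG hn).elim
  · exact (no_5067 hG hn).elim
  · exact (no_5068 hG hn).elim
  · exact (no_5069 hG hn).elim
  · exact (no_5070 hG hn).elim
  · exact (no_5071 hG hn).elim
  · exact (no_5072 hG hn).elim
  · exact (no_5073 hG hn).elim
  · exact (no_5074 hG hn).elim
  · exact (no_5075 hG hn).elim
  · exact (no_5076 hG hn).elim
  · exact (no_5077 hG hn).elim
  · exact (no_5078 hG hn).elim
  · exact (no_5079 hG hn).elim
  · exact (no_5080 hG hn).elim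
  · exact (no_5081 hG hn).elim
  · exact (no_5082 hG hn).elim
  · exact (no_5083 hG hn).elim
  · exact (no_5084 hG hn).elim
  · exact (no_5085 hG hn).elim
  · exact (no_5086 hG hn).elim
  · exact (no_5087 hG hn).elim
  · exact (no_5088 hG hn).elim
  · exact (no_5089 hG hn).elim
  · exact (no_5090 hG hn).elim
  · exact (no_5091 hG hn).elim
  · exact (no_5092 hG hn).elim
  · exact (no_5093 hG hn).elim
  · exact (no_5094 hG hn).elim
  · exact (no_5095 hG hn).elim
  · exact (no_5096 hG hn).elim
  · exact (no_5097 hG hn).elim
  · exact (no_5098 hG hn).elim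
  · exact (no_5099 hG hn).elim
  · exact (no_5100 hG hn).elim

end Cfsg.Agent.Lib.Helper16_SO_E14
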