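import Mathlib
import Cfsg.Agent.Lib.Helper75_SM_Base

/-!
# S0983 engine, generated file: no simple group of order N for the easy N in [5101, 5200]
(helper16; same scheme as helper75's `Helper75_SM_E*`)
-/

set_option autoImplicit false
set_option linter.unusedVariables false

namespace Cfsg.Agent.Lib.Helper16_SO_E15

open Cfsg.Agent.Lib.Helper17_Sylow Cfsg.Agent.Lib.Helper75_SM_Base

theorem no_5101 {G : Type*} [Group G] [Finite G] [IsSimpleGroup G]
    (hG : ¬ IsMulCommutative G) (h : Nat.card G = 5101) : False := by
  exact tp hG 5101 2 1 0 (by norm_num) (by norm_num) (by rw [h]; norm_num)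

theorem no_5102 {G : Type*} [Group G] [Finite G] [IsSimpleGroup G]
    (hG : ¬ IsMulCommutative G) (h : Nat.card G = 5102) : False := by
  exact tp hG 2 2551 1 1 (by norm_num) (by norm_num) (by rw [h]; norm_num)

theorem no_5103 {G : Type*} [Group G] [Finite G] [IsSimpleGroup G]
    (hG : ¬ IsMulCommutative G) (h : Nat.card G = 5103) : False := by
  exact tp hG 3 7 6 1 (by norm_num) (by norm_num) (by rw [h]; norm_num)

theorem no_5105 {G : Type*} [Group G] [Finite G] [IsSimpleGroup G]
    (hG : ¬ IsMulCommutative G) (h : Nat.card G = 5105) : False := by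
  exact tp hG 5 1021 1 1 (by norm_num) (by norm_num) (by rw [h]; norm_num)

theorem no_5106 {G : Type*} [Group G] [Finite G] [IsSimpleGroup G]
    (hG : ¬ IsMulCommutative G) (h : Nat.card G = 5106) : False := by
  exact ev hG (by rw [h]; exact ⟨2553, by norm_num⟩) (by rw [h]; omega)

theorem no_5107 {G : Type*} [Group G] [Finite G] [IsSimpleGroup G]
    (hG : ¬ IsMulCommutative G) (h : Nat.card G = 5107) : False := by
  exact tp hG 5107 2 1 0 (by norm_num) (by norm_num) (by rw [h]; norm_num)

theorem no_5108 {G : Type*} [Group G] [Finite G] [IsSimpleGroup G]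
    (hG : ¬ IsMulCommutative G) (h : Nat.card G = 5108) : False := by
  exact tp hG 2 1277 2 1 (by norm_num) (by norm_num) (by rw [h]; norm_num)

theorem no_5109 {G : Type*} [Group G] [Finite G] [IsSimpleGroup G]
    (hG : ¬ IsMulCommutative G) (h : Nat.card G = 5109) : False := by
  have : Fact (Nat.Prime 131) := ⟨by norm_num⟩
  have hc : Nat.card G = 131 ^ 1 * 39 := by rw [h]; norm_num
  have hm : ¬ 131 ∣ 39 := by norm_num
  have hmem := card_sylow_mem_candidates hc hm
  have hcand : sylowCandidates 131 39 = [1] := by decide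
  rw [hcand] at hmem
  simp only [List.mem_cons, List.not_mem_nil, or_false] at hmem
  have hlt := one_lt_card_sylow_of_card hc hm (by norm_num) (by norm_num)
  have hd := hmem
  · omega

theorem no_5110 {G : Type*} [Group G] [Finite G] [IsSimpleGroup G]
    (hG : ¬ IsMulCommutative G) (h : Nat.card G = 5110) : False := by
  exact ev hG (by rw [h]; exact ⟨2555, by norm_num⟩) (by rw [h]; omega)

theorem no_5111 {G : Type*} [Group G] [Finite G] [IsSimpleGroup G]
    (hG : ¬ IsMulCommutative G) (h : Nat.card G = 5111) : False := by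
  exact tp hG 19 269 1 1 (by norm_num) (by norm_num) (by rw [h]; norm_num)

theorem no_5112 {G : Type*} [Group G] [Finite G] [IsSimpleGroup G]
    (hG : ¬ IsMulCommutative G) (h : Nat.card G = 5112) : False := by
  have : Fact (Nat.Prime 71) := ⟨by norm_num⟩
  have hc : Nat.card G = 71 ^ 1 * 72 := by rw [h]; norm_num
  have hm : ¬ 71 ∣ 72 := by norm_num
  have hmem := card_sylow_mem_candidates hc hm
  have hcand : sylowCandidates 71 72 = [1, 72] := by decide
  rw [hcand] at hmem
  simp only [List.mem_cons, List.not_mem_nil, or_false] at hmem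
  have hlt := one_lt_card_sylow_of_card hc hm (by norm_num) (by norm_num)
  rcases hmem with hd | hd
  · omega
  · exact burn_kill hc hm (by norm_num) 72 hd (by decide)

theorem no_5113 {G : Type*} [Group G] [Finite G] [IsSimpleGroup G]
    (hG : ¬ IsMulCommutative G) (h : Nat.card G = 5113) : False := by
  exact tp hG 5113 2 1 0 (by norm_num) (by norm_num) (by rw [h]; norm_num)

theorem no_5114 {G : Type*} [Group G] [Finite G] [IsSimpleGroup G]
    (hG : ¬ IsMulCommutative G) (h : Nat.card G = 5114) : False := by
  exact tp hG 2 2557 1 1 (by norm_num) (by norm_num) (by rw [h]; norm_num)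

theorem no_5115 {G : Type*} [Group G] [Finite G] [IsSimpleGroup G]
    (hG : ¬ IsMulCommutative G) (h : Nat.card G = 5115) : False := by
  have : Fact (Nat.Prime 31) := ⟨by norm_num⟩
  have hc : Nat.card G = 31 ^ 1 * 165 := by rw [h]; norm_num
  have hm : ¬ 31 ∣ 165 := by norm_num
  have hmem := card_sylow_mem_candidates hc hm
  have hcand : sylowCandidates 31 165 = [1] := by decide
  rw [hcand] at hmem
  simp only [List.mem_cons, List.not_mem_nil, or_false] at hmem
  have hlt := one_lt_card_sylow_of_card hc hm (by norm_num) (by norm_num)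
  have hd := hmem
  · omega

theorem no_5116 {G : Type*} [Group G] [Finite G] [IsSimpleGroup G]
    (hG : ¬ IsMulCommutative G) (h : Nat.card G = 5116) : False := by
  exact tp hG 2 1279 2 1 (by norm_num) (by norm_num) (by rw [h]; norm_num)

theorem no_5117 {G : Type*} [Group G] [Finite G] [IsSimpleGroup G]
    (hG : ¬ IsMulCommutative G) (h : Nat.card G = 5117) : False := by
  have : Fact (Nat.Prime 43) := ⟨by norm_num⟩
  have hc : Nat.card G = 43 ^ 1 * 119 := by rw [h]; norm_num
  have hm : ¬ 43 ∣ 119 := by norm_num
  have hmem := card_sylow_mem_candidates hc hm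
  have hcand : sylowCandidates 43 119 = [1] := by decide
  rw [hcand] at hmem
  simp only [List.mem_cons, List.not_mem_nil, or_false] at hmem
  have hlt := one_lt_card_sylow_of_card hc hm (by norm_num) (by norm_num)
  have hd := hmem
  · omega

theorem no_5118 {G : Type*} [Group G] [Finite G] [IsSimpleGroup G]
    (hG : ¬ IsMulCommutative G) (h : Nat.card G = 5118) : False := by
  exact ev hG (by rw [h]; exact ⟨2559, by norm_num⟩) (by rw [h]; omega)

theorem no_5119 {G : Type*} [Group G] [Finite G] [IsSimpleGroup G]
    (hG : ¬ IsMulCommutative G) (h : Nat.card G = 5119) : False := by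
  exact tp hG 5119 2 1 0 (by norm_num) (by norm_num) (by rw [h]; norm_num)

theorem no_5120 {G : Type*} [Group G] [Finite G] [IsSimpleGroup G]
    (hG : ¬ IsMulCommutative G) (h : Nat.card G = 5120) : False := by
  exact tp hG 2 5 10 1 (by norm_num) (by norm_num) (by rw [h]; norm_num)

theorem no_5121 {G : Type*} [Group G] [Finite G] [IsSimpleGroup G]
    (hG : ¬ IsMulCommutative G) (h : Nat.card G = 5121) : False := by
  exact tp hG 3 569 2 1 (by norm_num) (by norm_num) (by rw [h]; norm_num)

theorem no_5122 {G : Type*} [Group G] [Finite G] [IsSimpleGroup G]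
    (hG : ¬ IsMulCommutative G) (h : Nat.card G = 5122) : False := by
  exact ev hG (by rw [h]; exact ⟨2561, by norm_num⟩) (by rw [h]; omega)

theorem no_5123 {G : Type*} [Group G] [Finite G] [IsSimpleGroup G]
    (hG : ¬ IsMulCommutative G) (h : Nat.card G = 5123) : False := by
  exact tp hG 47 109 1 1 (by norm_num) (by norm_num) (by rw [h]; norm_num)

theorem no_5124 {G : Type*} [Group G] [Finite G] [IsSimpleGroup G]
    (hG : ¬ IsMulCommutative G) (h : Nat.card G = 5124) : False := by
  have : Fact (Nat.Prime 61) := ⟨by norm_num⟩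
  have hc : Nat.card G = 61 ^ 1 * 84 := by rw [h]; norm_num
  have hm : ¬ 61 ∣ 84 := by norm_num
  have hmem := card_sylow_mem_candidates hc hm
  have hcand : sylowCandidates 61 84 = [1] := by decide
  rw [hcand] at hmem
  simp only [List.mem_cons, List.not_mem_nil, or_false] at hmem
  have hlt := one_lt_card_sylow_of_card hc hm (by norm_num) (by norm_num)
  have hd := hmem
  · omega

theorem no_5125 {G : Type*} [Group G] [Finite G] [IsSimpleGroup G]
    (hG : ¬ IsMulCommutative G) (h : Nat.card G = 5125) : False := by
  exact tp hG 5 41 3 1 (by norm_num) (by norm_num) (by rw [h]; norm_num)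

theorem no_5126 {G : Type*} [Group G] [Finite G] [IsSimpleGroup G]
    (hG : ¬ IsMulCommutative G) (h : Nat.card G = 5126) : False := by
  exact ev hG (by rw [h]; exact ⟨2563, by norm_num⟩) (by rw [h]; omega)

theorem no_5127 {G : Type*} [Group G] [Finite G] [IsSimpleGroup G]
    (hG : ¬ IsMulCommutative G) (h : Nat.card G = 5127) : False := by
  exact tp hG 3 1709 1 1 (by norm_num) (by norm_num) (by rw [h]; norm_num)

theorem no_5128 {G : Type*} [Group G] [Finite G] [IsSimpleGroup G]
    (hG : ¬ IsMulCommutative G) (h : Nat.card G = 5128) : False := by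
  exact tp hG 2 641 3 1 (by norm_num) (by norm_num) (by rw [h]; norm_num)

theorem no_5129 {G : Type*} [Group G] [Finite G] [IsSimpleGroup G]
    (hG : ¬ IsMulCommutative G) (h : Nat.card G = 5129) : False := by
  exact tp hG 23 223 1 1 (by norm_num) (by norm_num) (by rw [h]; norm_num)

theorem no_5130 {G : Type*} [Group G] [Finite G] [IsSimpleGroup G]
    (hG : ¬ IsMulCommutative G) (h : Nat.card G = 5130) : False := by
  exact ev hG (by rw [h]; exact ⟨2565, by norm_num⟩) (by rw [h]; omega)

theorem no_5131 {G : Type*} [Group G] [Finite G] [IsSimpleGroup G]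
    (hG : ¬ IsMulCommutative G) (h : Nat.card G = 5131) : False := by
  exact tp hG 7 733 1 1 (by norm_num) (by norm_num) (by rw [h]; norm_num)

theorem no_5132 {G : Type*} [Group G] [Finite G] [IsSimpleGroup G]
    (hG : ¬ IsMulCommutative G) (h : Nat.card G = 5132) : False := by
  exact tp hG 2 1283 2 1 (by norm_num) (by norm_num) (by rw [h]; norm_num)

theorem no_5133 {G : Type*} [Group G] [Finite G] [IsSimpleGroup G]
    (hG : ¬ IsMulCommutative G) (h : Nat.card G = 5133) : False := by
  have : Fact (Nat.Prime 59) := ⟨by norm_num⟩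
  have hc : Nat.card G = 59 ^ 1 * 87 := by rw [h]; norm_num
  have hm : ¬ 59 ∣ 87 := by norm_num
  have hmem := card_sylow_mem_candidates hc hm
  have hcand : sylowCandidates 59 87 = [1] := by decide
  rw [hcand] at hmem
  simp only [List.mem_cons, List.not_mem_nil, or_false] at hmem
  have hlt := one_lt_card_sylow_of_card hc hm (by norm_num) (by norm_num)
  have hd := hmem
  · omega

theorem no_5134 {G : Type*} [Group G] [Finite G] [IsSimpleGroup G]
    (hG : ¬ IsMulCommutative G) (h : Nat.card G = 5134) : False := by
  exact ev hG (by rw [h]; exact ⟨2567, by norm_num⟩) (by rw [h]; omega)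

theorem no_5135 {G : Type*} [Group G] [Finite G] [IsSimpleGroup G]
    (hG : ¬ IsMulCommutative G) (h : Nat.card G = 5135) : False := by
  have : Fact (Nat.Prime 79) := ⟨by norm_num⟩
  have hc : Nat.card G = 79 ^ 1 * 65 := by rw [h]; norm_num
  have hm : ¬ 79 ∣ 65 := by norm_num
  have hmem := card_sylow_mem_candidates hc hm
  have hcand : sylowCandidates 79 65 = [1] := by decide
  rw [hcand] at hmem
  simp only [List.mem_cons, List.not_mem_nil, or_false] at hmem
  have hlt := one_lt_card_sylow_of_card hc hm (by norm_num) (by norm_num)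
  have hd := hmem
  · omega

theorem no_5136 {G : Type*} [Group G] [Finite G] [IsSimpleGroup G]
    (hG : ¬ IsMulCommutative G) (h : Nat.card G = 5136) : False := by
  have : Fact (Nat.Prime 107) := ⟨by norm_num⟩
  have hc : Nat.card G = 107 ^ 1 * 48 := by rw [h]; norm_num
  have hm : ¬ 107 ∣ 48 := by norm_num
  have hmem := card_sylow_mem_candidates hc hm
  have hcand : sylowCandidates 107 48 = [1] := by decide
  rw [hcand] at hmem
  simp only [List.mem_cons, List.not_mem_nil, or_false] at hmem
  have hlt := one_lt_card_sylow_of_card hc hm (by norm_num) (by norm_num)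
  have hd := hmem
  · omega

theorem no_5137 {G : Type*} [Group G] [Finite G] [IsSimpleGroup G]
    (hG : ¬ IsMulCommutative G) (h : Nat.card G = 5137) : False := by
  exact tp hG 11 467 1 1 (by norm_num) (by norm_num) (by rw [h]; norm_num)

theorem no_5138 {G : Type*} [Group G] [Finite G] [IsSimpleGroup G]
    (hG : ¬ IsMulCommutative G) (h : Nat.card G = 5138) : False := by
  exact ev hG (by rw [h]; exact ⟨2569, by norm_num⟩) (by rw [h]; omega)

theorem no_5139 {G : Type*} [Group G] [Finite G] [IsSimpleGroup G]
    (hG : ¬ IsMulCommutative G) (h : Nat.card G = 5139) : False := by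
  exact tp hG 3 571 2 1 (by norm_num) (by norm_num) (by rw [h]; norm_num)

theorem no_5140 {G : Type*} [Group G] [Finite G] [IsSimpleGroup G]
    (hG : ¬ IsMulCommutative G) (h : Nat.card G = 5140) : False := by
  exact ev hG (by rw [h]; exact ⟨2570, by norm_num⟩) (by rw [h]; omega)

theorem no_5141 {G : Type*} [Group G] [Finite G] [IsSimpleGroup G]
    (hG : ¬ IsMulCommutative G) (h : Nat.card G = 5141) : False := by
  exact tp hG 53 97 1 1 (by norm_num) (by norm_num) (by rw [h]; norm_num)

theorem no_5142 {G : Type*} [Group G] [Finite G] [IsSimpleGroup G]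
    (hG : ¬ IsMulCommutative G) (h : Nat.card G = 5142) : False := by
  exact ev hG (by rw [h]; exact ⟨2571, by norm_num⟩) (by rw [h]; omega)

theorem no_5143 {G : Type*} [Group G] [Finite G] [IsSimpleGroup G]
    (hG : ¬ IsMulCommutative G) (h : Nat.card G = 5143) : False := by
  exact tp hG 37 139 1 1 (by norm_num) (by norm_num) (by rw [h]; norm_num)

theorem no_5144 {G : Type*} [Group G] [Finite G] [IsSimpleGroup G]
    (hG : ¬ IsMulCommutative G) (h : Nat.card G = 5144) : False := by
  exact tp hG 2 643 3 1 (by norm_num) (by norm_num) (by rw [h]; norm_num)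

theorem no_5145 {G : Type*} [Group G] [Finite G] [IsSimpleGroup G]
    (hG : ¬ IsMulCommutative G) (h : Nat.card G = 5145) : False := by
  have : Fact (Nat.Prime 7) := ⟨by norm_num⟩
  have hc : Nat.card G = 7 ^ 3 * 15 := by rw [h]; norm_num
  have hm : ¬ 7 ∣ 15 := by norm_num
  have hmem := card_sylow_mem_candidates hc hm
  have hcand : sylowCandidates 7 15 = [1, 15] := by decide
  rw [hcand] at hmem
  simp only [List.mem_cons, List.not_mem_nil, or_false] at hmem
  have hlt := one_lt_card_sylow_of_card hc hm (by norm_num) (by norm_num)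
  rcases hmem with hd | hd
  · omega
  · exact fact_kill hG 15 hd (by norm_num) (by rw [h]; decide)

theorem no_5146 {G : Type*} [Group G] [Finite G] [IsSimpleGroup G]
    (hG : ¬ IsMulCommutative G) (h : Nat.card G = 5146) : False := by
  exact ev hG (by rw [h]; exact ⟨2573, by norm_num⟩) (by rw [h]; omega)

theorem no_5147 {G : Type*} [Group G] [Finite G] [IsSimpleGroup G]
    (hG : ¬ IsMulCommutative G) (h : Nat.card G = 5147) : False := by
  exact tp hG 5147 2 1 0 (by norm_num) (by norm_num) (by rw [h]; norm_num)

theorem no_5149 {G : Type*} [Group G] [Finite G] [IsSimpleGroup G]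
    (hG : ¬ IsMulCommutative G) (h : Nat.card G = 5149) : False := by
  exact tp hG 19 271 1 1 (by norm_num) (by norm_num) (by rw [h]; norm_num)

theorem no_5150 {G : Type*} [Group G] [Finite G] [IsSimpleGroup G]
    (hG : ¬ IsMulCommutative G) (h : Nat.card G = 5150) : False := by
  exact ev hG (by rw [h]; exact ⟨2575, by norm_num⟩) (by rw [h]; omega)

theorem no_5151 {G : Type*} [Group G] [Finite G] [IsSimpleGroup G]
    (hG : ¬ IsMulCommutative G) (h : Nat.card G = 5151) : False := by
  have : Fact (Nat.Prime 101) := ⟨by norm_num⟩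
  have hc : Nat.card G = 101 ^ 1 * 51 := by rw [h]; norm_num
  have hm : ¬ 101 ∣ 51 := by norm_num
  have hmem := card_sylow_mem_candidates hc hm
  have hcand : sylowCandidates 101 51 = [1] := by decide
  rw [hcand] at hmem
  simp only [List.mem_cons, List.not_mem_nil, or_false] at hmem
  have hlt := one_lt_card_sylow_of_card hc hm (by norm_num) (by norm_num)
  have hd := hmem
  · omega

theorem no_5152 {G : Type*} [Group G] [Finite G] [IsSimpleGroup G]
    (hG : ¬ IsMulCommutative G) (h : Nat.card G = 5152) : False := by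
  have : Fact (Nat.Prime 23) := ⟨by norm_num⟩
  have hc : Nat.card G = 23 ^ 1 * 224 := by rw [h]; norm_num
  have hm : ¬ 23 ∣ 224 := by norm_num
  have hmem := card_sylow_mem_candidates hc hm
  have hcand : sylowCandidates 23 224 = [1] := by decide
  rw [hcand] at hmem
  simp only [List.mem_cons, List.not_mem_nil, or_false] at hmem
  have hlt := one_lt_card_sylow_of_card hc hm (by norm_num) (by norm_num)
  have hd := hmem
  · omega

theorem no_5153 {G : Type*} [Group G] [Finite G] [IsSimpleGroup G]
    (hG : ¬ IsMulCommutative G) (h : Nat.card G = 5153) : False := by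
  exact tp hG 5153 2 1 0 (by norm_num) (by norm_num) (by rw [h]; norm_num)

theorem no_5154 {G : Type*} [Group G] [Finite G] [IsSimpleGroup G]
    (hG : ¬ IsMulCommutative G) (h : Nat.card G = 5154) : False := by
  exact ev hG (by rw [h]; exact ⟨2577, by norm_num⟩) (by rw [h]; omega)

theorem no_5155 {G : Type*} [Group G] [Finite G] [IsSimpleGroup G]
    (hG : ¬ IsMulCommutative G) (h : Nat.card G = 5155) : False := by
  exact tp hG 5 1031 1 1 (by norm_num) (by norm_num) (by rw [h]; norm_num)

theorem no_5156 {G : Type*} [Group G] [Finite G] [IsSimpleGroup G]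
    (hG : ¬ IsMulCommutative G) (h : Nat.card G = 5156) : False := by
  exact tp hG 2 1289 2 1 (by norm_num) (by norm_num) (by rw [h]; norm_num)

theorem no_5157 {G : Type*} [Group G] [Finite G] [IsSimpleGroup G]
    (hG : ¬ IsMulCommutative G) (h : Nat.card G = 5157) : False := by
  exact tp hG 3 191 3 1 (by norm_num) (by norm_num) (by rw [h]; norm_num)

theorem no_5158 {G : Type*} [Group G] [Finite G] [IsSimpleGroup G]
    (hG : ¬ IsMulCommutative G) (h : Nat.card G = 5158) : False := by
  exact tp hG 2 2579 1 1 (by norm_num) (by norm_num) (by rw [h]; norm_num)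

theorem no_5159 {G : Type*} [Group G] [Finite G] [IsSimpleGroup G]
    (hG : ¬ IsMulCommutative G) (h : Nat.card G = 5159) : False := by
  have : Fact (Nat.Prime 67) := ⟨by norm_num⟩
  have hc : Nat.card G = 67 ^ 1 * 77 := by rw [h]; norm_num
  have hm : ¬ 67 ∣ 77 := by norm_num
  have hmem := card_sylow_mem_candidates hc hm
  have hcand : sylowCandidates 67 77 = [1] := by decide
  rw [hcand] at hmem
  simp only [List.mem_cons, List.not_mem_nil, or_false] at hmem
  have hlt := one_lt_card_sylow_of_card hc hm (by norm_num) (by norm_num)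
  have hd := hmem
  · omega

theorem no_5160 {G : Type*} [Group G] [Finite G] [IsSimpleGroup G]
    (hG : ¬ IsMulCommutative G) (h : Nat.card G = 5160) : False := by
  have : Fact (Nat.Prime 43) := ⟨by norm_num⟩
  have hc : Nat.card G = 43 ^ 1 * 120 := by rw [h]; norm_num
  have hm : ¬ 43 ∣ 120 := by norm_num
  have hmem := card_sylow_mem_candidates hc hm
  have hcand : sylowCandidates 43 120 = [1] := by decide
  rw [hcand] at hmem
  simp only [List.mem_cons, List.not_mem_nil, or_false] at hmem
  have hlt := one_lt_card_sylow_of_card hc hm (by norm_num) (by norm_num)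
  have hd := hmem
  · omega

theorem no_5161 {G : Type*} [Group G] [Finite G] [IsSimpleGroup G]
    (hG : ¬ IsMulCommutative G) (h : Nat.card G = 5161) : False := by
  exact tp hG 13 397 1 1 (by norm_num) (by norm_num) (by rw [h]; norm_num)

theorem no_5162 {G : Type*} [Group G] [Finite G] [IsSimpleGroup G]
    (hG : ¬ IsMulCommutative G) (h : Nat.card G = 5162) : False := by
  exact ev hG (by rw [h]; exact ⟨2581, by norm_num⟩) (by rw [h]; omega)

theorem no_5163 {G : Type*} [Group G] [Finite G] [IsSimpleGroup G]
    (hG : ¬ IsMulCommutative G) (h : Nat.card G = 5163) : False := by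
  exact tp hG 3 1721 1 1 (by norm_num) (by norm_num) (by rw [h]; norm_num)

theorem no_5164 {G : Type*} [Group G] [Finite G] [IsSimpleGroup G]
    (hG : ¬ IsMulCommutative G) (h : Nat.card G = 5164) : False := by
  exact tp hG 2 1291 2 1 (by norm_num) (by norm_num) (by rw [h]; norm_num)

theorem no_5165 {G : Type*} [Group G] [Finite G] [IsSimpleGroup G]
    (hG : ¬ IsMulCommutative G) (h : Nat.card G = 5165) : False := by
  exact tp hG 5 1033 1 1 (by norm_num) (by norm_num) (by rw [h]; norm_num)

theorem no_5166 {G : Type*} [Group G] [Finite G] [IsSimpleGroup G]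
    (hG : ¬ IsMulCommutative G) (h : Nat.card G = 5166) : False := by
  exact ev hG (by rw [h]; exact ⟨2583, by norm_num⟩) (by rw [h]; omega)

theorem no_5167 {G : Type*} [Group G] [Finite G] [IsSimpleGroup G]
    (hG : ¬ IsMulCommutative G) (h : Nat.card G = 5167) : False := by
  exact tp hG 5167 2 1 0 (by norm_num) (by norm_num) (by rw [h]; norm_num)

theorem no_5168 {G : Type*} [Group G] [Finite G] [IsSimpleGroup G]
    (hG : ¬ IsMulCommutative G) (h : Nat.card G = 5168) : False := by
  have : Fact (Nat.Prime 19) := ⟨by norm_num⟩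
  have hc : Nat.card G = 19 ^ 1 * 272 := by rw [h]; norm_num
  have hm : ¬ 19 ∣ 272 := by norm_num
  have hmem := card_sylow_mem_candidates hc hm
  have hcand : sylowCandidates 19 272 = [1] := by decide
  rw [hcand] at hmem
  simp only [List.mem_cons, List.not_mem_nil, or_false] at hmem
  have hlt := one_lt_card_sylow_of_card hc hm (by norm_num) (by norm_num)
  have hd := hmem
  · omega

theorem no_5169 {G : Type*} [Group G] [Finite G] [IsSimpleGroup G]
    (hG : ¬ IsMulCommutative G) (h : Nat.card G = 5169) : False := by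
  exact tp hG 3 1723 1 1 (by norm_num) (by norm_num) (by rw [h]; norm_num)

theorem no_5170 {G : Type*} [Group G] [Finite G] [IsSimpleGroup G]
    (hG : ¬ IsMulCommutative G) (h : Nat.card G = 5170) : False := by
  exact ev hG (by rw [h]; exact ⟨2585, by norm_num⟩) (by rw [h]; omega)

theorem no_5171 {G : Type*} [Group G] [Finite G] [IsSimpleGroup G]
    (hG : ¬ IsMulCommutative G) (h : Nat.card G = 5171) : False := by
  exact tp hG 5171 2 1 0 (by norm_num) (by norm_num) (by rw [h]; norm_num)

theorem no_5172 {G : Type*} [Group G] [Finite G] [IsSimpleGroup G]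
    (hG : ¬ IsMulCommutative G) (h : Nat.card G = 5172) : False := by
  have : Fact (Nat.Prime 431) := ⟨by norm_num⟩
  have hc : Nat.card G = 431 ^ 1 * 12 := by rw [h]; norm_num
  have hm : ¬ 431 ∣ 12 := by norm_num
  have hmem := card_sylow_mem_candidates hc hm
  have hcand : sylowCandidates 431 12 = [1] := by decide
  rw [hcand] at hmem
  simp only [List.mem_cons, List.not_mem_nil, or_false] at hmem
  have hlt := one_lt_card_sylow_of_card hc hm (by norm_num) (by norm_num)
  have hd := hmem
  · omega

theorem no_5173 {G : Type*} [Group G] [Finite G] [IsSimpleGroup G]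
    (hG : ¬ IsMulCommutative G) (h : Nat.card G = 5173) : False := by
  exact tp hG 7 739 1 1 (by norm_num) (by norm_num) (by rw [h]; norm_num)

theorem no_5174 {G : Type*} [Group G] [Finite G] [IsSimpleGroup G]
    (hG : ¬ IsMulCommutative G) (h : Nat.card G = 5174) : False := by
  exact ev hG (by rw [h]; exact ⟨2587, by norm_num⟩) (by rw [h]; omega)

theorem no_5175 {G : Type*} [Group G] [Finite G] [IsSimpleGroup G]
    (hG : ¬ IsMulCommutative G) (h : Nat.card G = 5175) : False := by
  have : Fact (Nat.Prime 23) := ⟨by norm_num⟩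
  have hc : Nat.card G = 23 ^ 1 * 225 := by rw [h]; norm_num
  have hm : ¬ 23 ∣ 225 := by norm_num
  have hmem := card_sylow_mem_candidates hc hm
  have hcand : sylowCandidates 23 225 = [1] := by decide
  rw [hcand] at hmem
  simp only [List.mem_cons, List.not_mem_nil, or_false] at hmem
  have hlt := one_lt_card_sylow_of_card hc hm (by norm_num) (by norm_num)
  have hd := hmem
  · omega

theorem no_5176 {G : Type*} [Group G] [Finite G] [IsSimpleGroup G]
    (hG : ¬ IsMulCommutative G) (h : Nat.card G = 5176) : False := by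
  exact tp hG 2 647 3 1 (by norm_num) (by norm_num) (by rw [h]; norm_num)

theorem no_5177 {G : Type*} [Group G] [Finite G] [IsSimpleGroup G]
    (hG : ¬ IsMulCommutative G) (h : Nat.card G = 5177) : False := by
  exact tp hG 31 167 1 1 (by norm_num) (by norm_num) (by rw [h]; norm_num)

theorem no_5178 {G : Type*} [Group G] [Finite G] [IsSimpleGroup G]
    (hG : ¬ IsMulCommutative G) (h : Nat.card G = 5178) : False := by
  exact ev hG (by rw [h]; exact ⟨2589, by norm_num⟩) (by rw [h]; omega)

theorem no_5179 {G : Type*} [Group G] [Finite G] [IsSimpleGroup G]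
    (hG : ¬ IsMulCommutative G) (h : Nat.card G = 5179) : False := by
  exact tp hG 5179 2 1 0 (by norm_num) (by norm_num) (by rw [h]; norm_num)

theorem no_5180 {G : Type*} [Group G] [Finite G] [IsSimpleGroup G]
    (hG : ¬ IsMulCommutative G) (h : Nat.card G = 5180) : False := by
  exact ev hG (by rw [h]; exact ⟨2590, by norm_num⟩) (by rw [h]; omega)

theorem no_5181 {G : Type*} [Group G] [Finite G] [IsSimpleGroup G]
    (hG : ¬ IsMulCommutative G) (h : Nat.card G = 5181) : False := by
  have : Fact (Nat.Prime 157) := ⟨by norm_num⟩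
  have hc : Nat.card G = 157 ^ 1 * 33 := by rw [h]; norm_num
  have hm : ¬ 157 ∣ 33 := by norm_num
  have hmem := card_sylow_mem_candidates hc hm
  have hcand : sylowCandidates 157 33 = [1] := by decide
  rw [hcand] at hmem
  simp only [List.mem_cons, List.not_mem_nil, or_false] at hmem
  have hlt := one_lt_card_sylow_of_card hc hm (by norm_num) (by norm_num)
  have hd := hmem
  · omega

theorem no_5182 {G : Type*} [Group G] [Finite G] [IsSimpleGroup G]
    (hG : ¬ IsMulCommutative G) (h : Nat.card G = 5182) : False := by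
  exact tp hG 2 2591 1 1 (by norm_num) (by norm_num) (by rw [h]; norm_num)

theorem no_5183 {G : Type*} [Group G] [Finite G] [IsSimpleGroup G]
    (hG : ¬ IsMulCommutative G) (h : Nat.card G = 5183) : False := by
  exact tp hG 71 73 1 1 (by norm_num) (by norm_num) (by rw [h]; norm_num)

theorem no_5184 {G : Type*} [Group G] [Finite G] [IsSimpleGroup G]
    (hG : ¬ IsMulCommutative G) (h : Nat.card G = 5184) : False := by
  exact tp hG 2 3 6 4 (by norm_num) (by norm_num) (by rw [h]; norm_num)

theorem no_5185 {G : Type*} [Group G] [Finite G] [IsSimpleGroup G]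
    (hG : ¬ IsMulCommutative G) (h : Nat.card G = 5185) : False := by
  have : Fact (Nat.Prime 61) := ⟨by norm_num⟩
  have hc : Nat.card G = 61 ^ 1 * 85 := by rw [h]; norm_num
  have hm : ¬ 61 ∣ 85 := by norm_num
  have hmem := card_sylow_mem_candidates hc hm
  have hcand : sylowCandidates 61 85 = [1] := by decide
  rw [hcand] at hmem
  simp only [List.mem_cons, List.not_mem_nil, or_false] at hmem
  have hlt := one_lt_card_sylow_of_card hc hm (by norm_num) (by norm_num)
  have hd := hmem
  · omega

theorem no_5186 {G : Type*} [Group G] [Finite G] [IsSimpleGroup G]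
    (hG : ¬ IsMulCommutative G) (h : Nat.card G = 5186) : False := by
  exact tp hG 2 2593 1 1 (by norm_num) (by norm_num) (by rw [h]; norm_num)

theorem no_5187 {G : Type*} [Group G] [Finite G] [IsSimpleGroup G]
    (hG : ¬ IsMulCommutative G) (h : Nat.card G = 5187) : False := by
  have : Fact (Nat.Prime 19) := ⟨by norm_num⟩
  have hc : Nat.card G = 19 ^ 1 * 273 := by rw [h]; norm_num
  have hm : ¬ 19 ∣ 273 := by norm_num
  have hmem := card_sylow_mem_candidates hc hm
  have hcand : sylowCandidates 19 273 = [1, 39] := by decide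
  rw [hcand] at hmem
  simp only [List.mem_cons, List.not_mem_nil, or_false] at hmem
  have hlt := one_lt_card_sylow_of_card hc hm (by norm_num) (by norm_num)
  rcases hmem with hd | hd
  · omega
  · exact burn_kill hc hm (by norm_num) 39 hd (by decide)

theorem no_5188 {G : Type*} [Group G] [Finite G] [IsSimpleGroup G]
    (hG : ¬ IsMulCommutative G) (h : Nat.card G = 5188) : False := by
  exact tp hG 2 1297 2 1 (by norm_num) (by norm_num) (by rw [h]; norm_num)

theorem no_5189 {G : Type*} [Group G] [Finite G] [IsSimpleGroup G]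
    (hG : ¬ IsMulCommutative G) (h : Nat.card G = 5189) : False := by
  exact tp hG 5189 2 1 0 (by norm_num) (by norm_num) (by rw [h]; norm_num)

theorem no_5190 {G : Type*} [Group G] [Finite G] [IsSimpleGroup G]
    (hG : ¬ IsMulCommutative G) (h : Nat.card G = 5190) : False := by
  exact ev hG (by rw [h]; exact ⟨2595, by norm_num⟩) (by rw [h]; omega)

theorem no_5191 {G : Type*} [Group G] [Finite G] [IsSimpleGroup G]
    (hG : ¬ IsMulCommutative G) (h : Nat.card G = 5191) : False := by
  exact tp hG 29 179 1 1 (by norm_num) (by norm_num) (by rw [h]; norm_num)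

theorem no_5192 {G : Type*} [Group G] [Finite G] [IsSimpleGroup G]
    (hG : ¬ IsMulCommutative G) (h : Nat.card G = 5192) : False := by
  exact ev hG (by rw [h]; exact ⟨2596, by norm_num⟩) (by rw [h]; omega)

theorem no_5193 {G : Type*} [Group G] [Finite G] [IsSimpleGroup G]
    (hG : ¬ IsMulCommutative G) (h : Nat.card G = 5193) : False := by
  exact tp hG 3 577 2 1 (by norm_num) (by norm_num) (by rw [h]; norm_num)

theorem no_5194 {G : Type*} [Group G] [Finite G] [IsSimpleGroup G]
    (hG : ¬ IsMulCommutative G) (h : Nat.card G = 5194) : False := by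
  exact ev hG (by rw [h]; exact ⟨2597, by norm_num⟩) (by rw [h]; omega)

theorem no_5195 {G : Type*} [Group G] [Finite G] [IsSimpleGroup G]
    (hG : ¬ IsMulCommutative G) (h : Nat.card G = 5195) : False := by
  exact tp hG 5 1039 1 1 (by norm_num) (by norm_num) (by rw [h]; norm_num)

theorem no_5196 {G : Type*} [Group G] [Finite G] [IsSimpleGroup G]
    (hG : ¬ IsMulCommutative G) (h : Nat.card G = 5196) : False := by
  have : Fact (Nat.Prime 433) := ⟨by norm_num⟩
  have hc : Nat.card G = 433 ^ 1 * 12 := by rw [h]; norm_num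
  have hm : ¬ 433 ∣ 12 := by norm_num
  have hmem := card_sylow_mem_candidates hc hm
  have hcand : sylowCandidates 433 12 = [1] := by decide
  rw [hcand] at hmem
  simp only [List.mem_cons, List.not_mem_nil, or_false] at hmem
  have hlt := one_lt_card_sylow_of_card hc hm (by norm_num) (by norm_num)
  have hd := hmem
  · omega

theorem no_5197 {G : Type*} [Group G] [Finite G] [IsSimpleGroup G]
    (hG : ¬ IsMulCommutative G) (h : Nat.card G = 5197) : False := by
  exact tp hG 5197 2 1 0 (by norm_num) (by norm_num) (by rw [h]; norm_num)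

theorem no_5198 {G : Type*} [Group G] [Finite G] [IsSimpleGroup G]
    (hG : ¬ IsMulCommutative G) (h : Nat.card G = 5198) : False := by
  exact ev hG (by rw [h]; exact ⟨2599, by norm_num⟩) (by rw [h]; omega)

theorem no_5199 {G : Type*} [Group G] [Finite G] [IsSimpleGroup G]
    (hG : ¬ IsMulCommutative G) (h : Nat.card G = 5199) : False := by
  exact tp hG 3 1733 1 1 (by norm_num) (by norm_num) (by rw [h]; norm_num)

/-- the orders in [5101, 5200] not excluded by the engine -/
theorem chunk {G : Type*} [Group G] [Finite G] [IsSimpleGroup G]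
    (hG : ¬ IsMulCommutative G) (n : ℕ) (hn : Nat.card G = n) (h1 : 5101 ≤ n) (h2 : n ≤ 5200) :
    n = 5104 ∨ n = 5148 ∨ n = 5200 := by
  interval_cases n
  · exact (no_5101 hG hn).elim
  · exact (no_5102 hG hn).elim
  · exact (no_5103 hG hn).elim
  · simp
  · exact (no_5105 hG hn).elim
  · exact (no_5106 hG hn).elim
  · exact (no_5107 hG hn).elim
  · exact (no_5108 hG hn).elim
  · exact (no_5109 hG hn).elim
  · exact (no_5110 hG hn).elim
  · exact (no_5111 hG hn).elim
  · exact (no_5112 hG hn).elim
  · exact (no_5113 hG hn).elim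
  · exact (no_5114 hG hn).elim
  · exact (no_5115 hG hn).elim
  · exact (no_5116 hG hn).elim
  · exact (no_5117 hG hn).elim
  · exact (no_5118 hG hn).elim
  · exact (no_5119 hG hn).elim
  · exact (no_5120 hG hn).elim
  · exact (no_5121 hG hn).elim
  · exact (no_5122 hG hn).elim
  · exact (no_5123 hG hn).elim
  · exact (no_5124 hG hn).elim
  · exact (no_5125 hG hn).elim
  · exact (no_5126 hG hn).elim
  · exact (no_5127 hG hn).elim
  · exact (no_5128 hG hn).elim
  · exact (no_5129 hG hn).elim
  · exact (no_5130 hG hn).elim
  · exact (no_5131 hG hn).elim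
  · exact (no_5132 hG hn).elim
  · exact (no_5133 hG hn).elim
  · exact (no_5134 hG hn).elim
  · exact (no_5135 hG hn).elim
  · exact (no_5136 hG hn).elim
  · exact (no_5137 hG hn).elim
  · exact (no_5138 hG hn).elim
  · exact (no_5139 hG hn).elim
  · exact (no_5140 hG hn).elim
  · exact (no_5141 hG hn).elim
  · exact (no_5142 hG hn).elim
  · exact (no_5143 hG hn).elim
  · exact (no_5144 hG hn).elim
  · exact (no_5145 hG hn).elim
  · exact (no_5146 hG hn).elim
  · exact (no_5147 hG hn).elim
  · simp
  · exact (no_5149 hG hn).elim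
  · exact (no_5150 hG hn).elim
  · exact (no_5151 hG hn).elim
  · exact (no_5152 hG hn).elim
  · exact (no_5153 hG hn).elim
  · exact (no_5154 hG hn).elim
  · exact (no_5155 hG hn).elim
  · exact (no_5156 hG hn).elim
  · exact (no_5157 hG hn).elim
  · exact (no_5158 hG hn).elim
  · exact (no_5159 hG hn).elim
  · exact (no_5160 hG hn).elim
  · exact (no_5161 hG hn).elim
  · exact (no_5162 hG hn).elim
  · exact (no_5163 hG hn).elim
  · exact (no_5164 hG hn).elim
  · exact (no_5165 hG hn).elim
  · exact (no_5166 hG hn).elim
  · exact (no_5167 hG hn).elim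
  · exact (no_5168 hG hn).elim
  · exact (no_5169 hG hn).elim
  · exact (no_5170 hG hn).elim
  · exact (no_5171 hG hn).elim
  · exact (no_5172 hG hn).elim
  · exact (no_5173 hG hn).elim
  · exact (no_5174 hG hn).elim
  · exact (no_5175 hG hn).elim
  · exact (no_5176 hG hn).elim
  · exact (no_5177 hG hn).elim
  · exact (no_5178 hG hn).elim
  · exact (no_5179 hG hn).elim
  · exact (no_5180 hG hn).elim
  · exact (no_5181 hG hn).elim
  · exact (no_5182 hG hn).elim
  · exact (no_5183 hG hn).elim
  · exact (no_5184 hG hn).elim
  · exact (no_5185 hG hn).elim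
  · exact (no_5186 hG hn).elim
  · exact (no_5187 hG hn).elim
  · exact (no_5188 hG hn).elim
  · exact (no_5189 hG hn).elim
  · exact (no_5190 hG hn).elim
  · exact (no_5191 hG hn).elim
  · exact (no_5192 hG hn).elim
  · exact (no_5193 hG hn).elim
  · exact (no_5194 hG hn).elim
  · exact (no_5195 hG hn).elim
  · exact (no_5196 hG hn).elim
  · exact (no_5197 hG hn).elim
  · exact (no_5198 hG hn).elim
  · exact (no_5199 hG hn).elim
  · simp

end Cfsg.Agent.Lib.Helper16_SO_E15
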