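import Mathlib
import Cfsg.Agent.Lib.Helper75_SM_Base

/-!
# S0983 engine, generated file: no simple group of order N for the easy N in [5201, 5300]
(helper16; same scheme as helper75's `Helper75_SM_E*`)
-/

set_option autoImplicit false
set_option linter.unusedVariables false

namespace Cfsg.Agent.Lib.Helper16_SO_E16

open Cfsg.Agent.Lib.Helper17_Sylow Cfsg.Agent.Lib.Helper75_SM_Base

theorem no_5201 {G : Type*} [Group G] [Finite G] [IsSimpleGroup G]
    (hG : ¬ IsMulCommutative G) (h : Nat.card G = 5201) : False := by
  exact tp hG 7 743 1 1 (by norm_num) (by norm_num) (by rw [h]; norm_num)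

theorem no_5202 {G : Type*} [Group G] [Finite G] [IsSimpleGroup G]
    (hG : ¬ IsMulCommutative G) (h : Nat.card G = 5202) : False := by
  exact ev hG (by rw [h]; exact ⟨2601, by norm_num⟩) (by rw [h]; omega)

theorem no_5203 {G : Type*} [Group G] [Finite G] [IsSimpleGroup G]
    (hG : ¬ IsMulCommutative G) (h : Nat.card G = 5203) : False := by
  exact tp hG 11 43 2 1 (by norm_num) (by norm_num) (by rw [h]; norm_num)

theorem no_5204 {G : Type*} [Group G] [Finite G] [IsSimpleGroup G]
    (hG : ¬ IsMulCommutative G) (h : Nat.card G = 5204) : False := by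
  exact tp hG 2 1301 2 1 (by norm_num) (by norm_num) (by rw [h]; norm_num)

theorem no_5205 {G : Type*} [Group G] [Finite G] [IsSimpleGroup G]
    (hG : ¬ IsMulCommutative G) (h : Nat.card G = 5205) : False := by
  have : Fact (Nat.Prime 347) := ⟨by norm_num⟩
  have hc : Nat.card G = 347 ^ 1 * 15 := by rw [h]; norm_num
  have hm : ¬ 347 ∣ 15 := by norm_num
  have hmem := card_sylow_mem_candidates hc hm
  have hcand : sylowCandidates 347 15 = [1] := by decide
  rw [hcand] at hmem
  simp only [List.mem_cons, List.not_mem_nil, or_false] at hmem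
  have hlt := one_lt_card_sylow_of_card hc hm (by norm_num) (by norm_num)
  have hd := hmem
  · omega

theorem no_5206 {G : Type*} [Group G] [Finite G] [IsSimpleGroup G]
    (hG : ¬ IsMulCommutative G) (h : Nat.card G = 5206) : False := by
  exact ev hG (by rw [h]; exact ⟨2603, by norm_num⟩) (by rw [h]; omega)

theorem no_5207 {G : Type*} [Group G] [Finite G] [IsSimpleGroup G]
    (hG : ¬ IsMulCommutative G) (h : Nat.card G = 5207) : False := by
  exact tp hG 41 127 1 1 (by norm_num) (by norm_num) (by rw [h]; norm_num)

theorem no_5208 {G : Type*} [Group G] [Finite G] [IsSimpleGroup G]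
    (hG : ¬ IsMulCommutative G) (h : Nat.card G = 5208) : False := by
  have : Fact (Nat.Prime 31) := ⟨by norm_num⟩
  have hc : Nat.card G = 31 ^ 1 * 168 := by rw [h]; norm_num
  have hm : ¬ 31 ∣ 168 := by norm_num
  have hmem := card_sylow_mem_candidates hc hm
  have hcand : sylowCandidates 31 168 = [1] := by decide
  rw [hcand] at hmem
  simp only [List.mem_cons, List.not_mem_nil, or_false] at hmem
  have hlt := one_lt_card_sylow_of_card hc hm (by norm_num) (by norm_num)
  have hd := hmem
  · omega

theorem no_5209 {G : Type*} [Group G] [Finite G] [IsSimpleGroup G]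
    (hG : ¬ IsMulCommutative G) (h : Nat.card G = 5209) : False := by
  exact tp hG 5209 2 1 0 (by norm_num) (by norm_num) (by rw [h]; norm_num)

theorem no_5210 {G : Type*} [Group G] [Finite G] [IsSimpleGroup G]
    (hG : ¬ IsMulCommutative G) (h : Nat.card G = 5210) : False := by
  exact ev hG (by rw [h]; exact ⟨2605, by norm_num⟩) (by rw [h]; omega)

theorem no_5211 {G : Type*} [Group G] [Finite G] [IsSimpleGroup G]
    (hG : ¬ IsMulCommutative G) (h : Nat.card G = 5211) : False := by
  exact tp hG 3 193 3 1 (by norm_num) (by norm_num) (by rw [h]; norm_num)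

theorem no_5212 {G : Type*} [Group G] [Finite G] [IsSimpleGroup G]
    (hG : ¬ IsMulCommutative G) (h : Nat.card G = 5212) : False := by
  exact tp hG 2 1303 2 1 (by norm_num) (by norm_num) (by rw [h]; norm_num)

theorem no_5213 {G : Type*} [Group G] [Finite G] [IsSimpleGroup G]
    (hG : ¬ IsMulCommutative G) (h : Nat.card G = 5213) : False := by
  exact tp hG 13 401 1 1 (by norm_num) (by norm_num) (by rw [h]; norm_num)

theorem no_5214 {G : Type*} [Group G] [Finite G] [IsSimpleGroup G]
    (hG : ¬ IsMulCommutative G) (h : Nat.card G = 5214) : False := by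
  exact ev hG (by rw [h]; exact ⟨2607, by norm_num⟩) (by rw [h]; omega)

theorem no_5215 {G : Type*} [Group G] [Finite G] [IsSimpleGroup G]
    (hG : ¬ IsMulCommutative G) (h : Nat.card G = 5215) : False := by
  have : Fact (Nat.Prime 149) := ⟨by norm_num⟩
  have hc : Nat.card G = 149 ^ 1 * 35 := by rw [h]; norm_num
  have hm : ¬ 149 ∣ 35 := by norm_num
  have hmem := card_sylow_mem_candidates hc hm
  have hcand : sylowCandidates 149 35 = [1] := by decide
  rw [hcand] at hmem
  simp only [List.mem_cons, List.not_mem_nil, or_false] at hmem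
  have hlt := one_lt_card_sylow_of_card hc hm (by norm_num) (by norm_num)
  have hd := hmem
  · omega

theorem no_5216 {G : Type*} [Group G] [Finite G] [IsSimpleGroup G]
    (hG : ¬ IsMulCommutative G) (h : Nat.card G = 5216) : False := by
  exact tp hG 2 163 5 1 (by norm_num) (by norm_num) (by rw [h]; norm_num)

theorem no_5217 {G : Type*} [Group G] [Finite G] [IsSimpleGroup G]
    (hG : ¬ IsMulCommutative G) (h : Nat.card G = 5217) : False := by
  have : Fact (Nat.Prime 47) := ⟨by norm_num⟩
  have hc : Nat.card G = 47 ^ 1 * 111 := by rw [h]; norm_num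
  have hm : ¬ 47 ∣ 111 := by norm_num
  have hmem := card_sylow_mem_candidates hc hm
  have hcand : sylowCandidates 47 111 = [1] := by decide
  rw [hcand] at hmem
  simp only [List.mem_cons, List.not_mem_nil, or_false] at hmem
  have hlt := one_lt_card_sylow_of_card hc hm (by norm_num) (by norm_num)
  have hd := hmem
  · omega

theorem no_5218 {G : Type*} [Group G] [Finite G] [IsSimpleGroup G]
    (hG : ¬ IsMulCommutative G) (h : Nat.card G = 5218) : False := by
  exact tp hG 2 2609 1 1 (by norm_num) (by norm_num) (by rw [h]; norm_num)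

theorem no_5219 {G : Type*} [Group G] [Finite G] [IsSimpleGroup G]
    (hG : ¬ IsMulCommutative G) (h : Nat.card G = 5219) : False := by
  exact tp hG 17 307 1 1 (by norm_num) (by norm_num) (by rw [h]; norm_num)

theorem no_5220 {G : Type*} [Group G] [Finite G] [IsSimpleGroup G]
    (hG : ¬ IsMulCommutative G) (h : Nat.card G = 5220) : False := by
  have : Fact (Nat.Prime 29) := ⟨by norm_num⟩
  have hc : Nat.card G = 29 ^ 1 * 180 := by rw [h]; norm_num
  have hm : ¬ 29 ∣ 180 := by norm_num
  have hmem := card_sylow_mem_candidates hc hm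
  have hcand : sylowCandidates 29 180 = [1, 30] := by decide
  rw [hcand] at hmem
  simp only [List.mem_cons, List.not_mem_nil, or_false] at hmem
  have hlt := one_lt_card_sylow_of_card hc hm (by norm_num) (by norm_num)
  rcases hmem with hd | hd
  · omega
  · exact perm_kill hG (by norm_num) hc hm hd 174 (by omega) (by decide)

theorem no_5221 {G : Type*} [Group G] [Finite G] [IsSimpleGroup G]
    (hG : ¬ IsMulCommutative G) (h : Nat.card G = 5221) : False := by
  exact tp hG 23 227 1 1 (by norm_num) (by norm_num) (by rw [h]; norm_num)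

theorem no_5222 {G : Type*} [Group G] [Finite G] [IsSimpleGroup G]
    (hG : ¬ IsMulCommutative G) (h : Nat.card G = 5222) : False := by
  exact ev hG (by rw [h]; exact ⟨2611, by norm_num⟩) (by rw [h]; omega)

theorem no_5223 {G : Type*} [Group G] [Finite G] [IsSimpleGroup G]
    (hG : ¬ IsMulCommutative G) (h : Nat.card G = 5223) : False := by
  exact tp hG 3 1741 1 1 (by norm_num) (by norm_num) (by rw [h]; norm_num)

theorem no_5224 {G : Type*} [Group G] [Finite G] [IsSimpleGroup G]
    (hG : ¬ IsMulCommutative G) (h : Nat.card G = 5224) : False := by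
  exact tp hG 2 653 3 1 (by norm_num) (by norm_num) (by rw [h]; norm_num)

theorem no_5225 {G : Type*} [Group G] [Finite G] [IsSimpleGroup G]
    (hG : ¬ IsMulCommutative G) (h : Nat.card G = 5225) : False := by
  have : Fact (Nat.Prime 19) := ⟨by norm_num⟩
  have hc : Nat.card G = 19 ^ 1 * 275 := by rw [h]; norm_num
  have hm : ¬ 19 ∣ 275 := by norm_num
  have hmem := card_sylow_mem_candidates hc hm
  have hcand : sylowCandidates 19 275 = [1] := by decide
  rw [hcand] at hmem
  simp only [List.mem_cons, List.not_mem_nil, or_false] at hmem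
  have hlt := one_lt_card_sylow_of_card hc hm (by norm_num) (by norm_num)
  have hd := hmem
  · omega

theorem no_5226 {G : Type*} [Group G] [Finite G] [IsSimpleGroup G]
    (hG : ¬ IsMulCommutative G) (h : Nat.card G = 5226) : False := by
  exact ev hG (by rw [h]; exact ⟨2613, by norm_num⟩) (by rw [h]; omega)

theorem no_5227 {G : Type*} [Group G] [Finite G] [IsSimpleGroup G]
    (hG : ¬ IsMulCommutative G) (h : Nat.card G = 5227) : False := by
  exact tp hG 5227 2 1 0 (by norm_num) (by norm_num) (by rw [h]; norm_num)

theorem no_5228 {G : Type*} [Group G] [Finite G] [IsSimpleGroup G]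
    (hG : ¬ IsMulCommutative G) (h : Nat.card G = 5228) : False := by
  exact tp hG 2 1307 2 1 (by norm_num) (by norm_num) (by rw [h]; norm_num)

theorem no_5229 {G : Type*} [Group G] [Finite G] [IsSimpleGroup G]
    (hG : ¬ IsMulCommutative G) (h : Nat.card G = 5229) : False := by
  have : Fact (Nat.Prime 83) := ⟨by norm_num⟩
  have hc : Nat.card G = 83 ^ 1 * 63 := by rw [h]; norm_num
  have hm : ¬ 83 ∣ 63 := by norm_num
  have hmem := card_sylow_mem_candidates hc hm
  have hcand : sylowCandidates 83 63 = [1] := by decide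
  rw [hcand] at hmem
  simp only [List.mem_cons, List.not_mem_nil, or_false] at hmem
  have hlt := one_lt_card_sylow_of_card hc hm (by norm_num) (by norm_num)
  have hd := hmem
  · omega

theorem no_5230 {G : Type*} [Group G] [Finite G] [IsSimpleGroup G]
    (hG : ¬ IsMulCommutative G) (h : Nat.card G = 5230) : False := by
  exact ev hG (by rw [h]; exact ⟨2615, by norm_num⟩) (by rw [h]; omega)

theorem no_5231 {G : Type*} [Group G] [Finite G] [IsSimpleGroup G]
    (hG : ¬ IsMulCommutative G) (h : Nat.card G = 5231) : False := by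
  exact tp hG 5231 2 1 0 (by norm_num) (by norm_num) (by rw [h]; norm_num)

theorem no_5232 {G : Type*} [Group G] [Finite G] [IsSimpleGroup G]
    (hG : ¬ IsMulCommutative G) (h : Nat.card G = 5232) : False := by
  have : Fact (Nat.Prime 109) := ⟨by norm_num⟩
  have hc : Nat.card G = 109 ^ 1 * 48 := by rw [h]; norm_num
  have hm : ¬ 109 ∣ 48 := by norm_num
  have hmem := card_sylow_mem_candidates hc hm
  have hcand : sylowCandidates 109 48 = [1] := by decide
  rw [hcand] at hmem
  simp only [List.mem_cons, List.not_mem_nil, or_false] at hmem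
  have hlt := one_lt_card_sylow_of_card hc hm (by norm_num) (by norm_num)
  have hd := hmem
  · omega

theorem no_5233 {G : Type*} [Group G] [Finite G] [IsSimpleGroup G]
    (hG : ¬ IsMulCommutative G) (h : Nat.card G = 5233) : False := by
  exact tp hG 5233 2 1 0 (by norm_num) (by norm_num) (by rw [h]; norm_num)

theorem no_5234 {G : Type*} [Group G] [Finite G] [IsSimpleGroup G]
    (hG : ¬ IsMulCommutative G) (h : Nat.card G = 5234) : False := by
  exact tp hG 2 2617 1 1 (by norm_num) (by norm_num) (by rw [h]; norm_num)

theorem no_5235 {G : Type*} [Group G] [Finite G] [IsSimpleGroup G]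
    (hG : ¬ IsMulCommutative G) (h : Nat.card G = 5235) : False := by
  have : Fact (Nat.Prime 349) := ⟨by norm_num⟩
  have hc : Nat.card G = 349 ^ 1 * 15 := by rw [h]; norm_num
  have hm : ¬ 349 ∣ 15 := by norm_num
  have hmem := card_sylow_mem_candidates hc hm
  have hcand : sylowCandidates 349 15 = [1] := by decide
  rw [hcand] at hmem
  simp only [List.mem_cons, List.not_mem_nil, or_false] at hmem
  have hlt := one_lt_card_sylow_of_card hc hm (by norm_num) (by norm_num)
  have hd := hmem
  · omega

theorem no_5236 {G : Type*} [Group G] [Finite G] [IsSimpleGroup G]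
    (hG : ¬ IsMulCommutative G) (h : Nat.card G = 5236) : False := by
  exact ev hG (by rw [h]; exact ⟨2618, by norm_num⟩) (by rw [h]; omega)

theorem no_5237 {G : Type*} [Group G] [Finite G] [IsSimpleGroup G]
    (hG : ¬ IsMulCommutative G) (h : Nat.card G = 5237) : False := by
  exact tp hG 5237 2 1 0 (by norm_num) (by norm_num) (by rw [h]; norm_num)

theorem no_5238 {G : Type*} [Group G] [Finite G] [IsSimpleGroup G]
    (hG : ¬ IsMulCommutative G) (h : Nat.card G = 5238) : False := by
  exact ev hG (by rw [h]; exact ⟨2619, by norm_num⟩) (by rw [h]; omega)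

theorem no_5239 {G : Type*} [Group G] [Finite G] [IsSimpleGroup G]
    (hG : ¬ IsMulCommutative G) (h : Nat.card G = 5239) : False := by
  exact tp hG 13 31 2 1 (by norm_num) (by norm_num) (by rw [h]; norm_num)

theorem no_5240 {G : Type*} [Group G] [Finite G] [IsSimpleGroup G]
    (hG : ¬ IsMulCommutative G) (h : Nat.card G = 5240) : False := by
  exact ev hG (by rw [h]; exact ⟨2620, by norm_num⟩) (by rw [h]; omega)

theorem no_5241 {G : Type*} [Group G] [Finite G] [IsSimpleGroup G]
    (hG : ¬ IsMulCommutative G) (h : Nat.card G = 5241) : False := by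
  exact tp hG 3 1747 1 1 (by norm_num) (by norm_num) (by rw [h]; norm_num)

theorem no_5242 {G : Type*} [Group G] [Finite G] [IsSimpleGroup G]
    (hG : ¬ IsMulCommutative G) (h : Nat.card G = 5242) : False := by
  exact tp hG 2 2621 1 1 (by norm_num) (by norm_num) (by rw [h]; norm_num)

theorem no_5243 {G : Type*} [Group G] [Finite G] [IsSimpleGroup G]
    (hG : ¬ IsMulCommutative G) (h : Nat.card G = 5243) : False := by
  exact tp hG 7 107 2 1 (by norm_num) (by norm_num) (by rw [h]; norm_num)

theorem no_5244 {G : Type*} [Group G] [Finite G] [IsSimpleGroup G]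
    (hG : ¬ IsMulCommutative G) (h : Nat.card G = 5244) : False := by
  have : Fact (Nat.Prime 23) := ⟨by norm_num⟩
  have hc : Nat.card G = 23 ^ 1 * 228 := by rw [h]; norm_num
  have hm : ¬ 23 ∣ 228 := by norm_num
  have hmem := card_sylow_mem_candidates hc hm
  have hcand : sylowCandidates 23 228 = [1] := by decide
  rw [hcand] at hmem
  simp only [List.mem_cons, List.not_mem_nil, or_false] at hmem
  have hlt := one_lt_card_sylow_of_card hc hm (by norm_num) (by norm_num)
  have hd := hmem
  · omega

theorem no_5245 {G : Type*} [Group G] [Finite G] [IsSimpleGroup G]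
    (hG : ¬ IsMulCommutative G) (h : Nat.card G = 5245) : False := by
  exact tp hG 5 1049 1 1 (by norm_num) (by norm_num) (by rw [h]; norm_num)

theorem no_5246 {G : Type*} [Group G] [Finite G] [IsSimpleGroup G]
    (hG : ¬ IsMulCommutative G) (h : Nat.card G = 5246) : False := by
  exact ev hG (by rw [h]; exact ⟨2623, by norm_num⟩) (by rw [h]; omega)

theorem no_5247 {G : Type*} [Group G] [Finite G] [IsSimpleGroup G]
    (hG : ¬ IsMulCommutative G) (h : Nat.card G = 5247) : False := by
  have : Fact (Nat.Prime 53) := ⟨by norm_num⟩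
  have hc : Nat.card G = 53 ^ 1 * 99 := by rw [h]; norm_num
  have hm : ¬ 53 ∣ 99 := by norm_num
  have hmem := card_sylow_mem_candidates hc hm
  have hcand : sylowCandidates 53 99 = [1] := by decide
  rw [hcand] at hmem
  simp only [List.mem_cons, List.not_mem_nil, or_false] at hmem
  have hlt := one_lt_card_sylow_of_card hc hm (by norm_num) (by norm_num)
  have hd := hmem
  · omega

theorem no_5248 {G : Type*} [Group G] [Finite G] [IsSimpleGroup G]
    (hG : ¬ IsMulCommutative G) (h : Nat.card G = 5248) : False := by
  exact tp hG 2 41 7 1 (by norm_num) (by norm_num) (by rw [h]; norm_num)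

theorem no_5249 {G : Type*} [Group G] [Finite G] [IsSimpleGroup G]
    (hG : ¬ IsMulCommutative G) (h : Nat.card G = 5249) : False := by
  exact tp hG 29 181 1 1 (by norm_num) (by norm_num) (by rw [h]; norm_num)

theorem no_5250 {G : Type*} [Group G] [Finite G] [IsSimpleGroup G]
    (hG : ¬ IsMulCommutative G) (h : Nat.card G = 5250) : False := by
  exact ev hG (by rw [h]; exact ⟨2625, by norm_num⟩) (by rw [h]; omega)

theorem no_5251 {G : Type*} [Group G] [Finite G] [IsSimpleGroup G]
    (hG : ¬ IsMulCommutative G) (h : Nat.card G = 5251) : False := by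
  exact tp hG 59 89 1 1 (by norm_num) (by norm_num) (by rw [h]; norm_num)

theorem no_5252 {G : Type*} [Group G] [Finite G] [IsSimpleGroup G]
    (hG : ¬ IsMulCommutative G) (h : Nat.card G = 5252) : False := by
  exact ev hG (by rw [h]; exact ⟨2626, by norm_num⟩) (by rw [h]; omega)

theorem no_5253 {G : Type*} [Group G] [Finite G] [IsSimpleGroup G]
    (hG : ¬ IsMulCommutative G) (h : Nat.card G = 5253) : False := by
  have : Fact (Nat.Prime 103) := ⟨by norm_num⟩
  have hc : Nat.card G = 103 ^ 1 * 51 := by rw [h]; norm_num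
  have hm : ¬ 103 ∣ 51 := by norm_num
  have hmem := card_sylow_mem_candidates hc hm
  have hcand : sylowCandidates 103 51 = [1] := by decide
  rw [hcand] at hmem
  simp only [List.mem_cons, List.not_mem_nil, or_false] at hmem
  have hlt := one_lt_card_sylow_of_card hc hm (by norm_num) (by norm_num)
  have hd := hmem
  · omega

theorem no_5254 {G : Type*} [Group G] [Finite G] [IsSimpleGroup G]
    (hG : ¬ IsMulCommutative G) (h : Nat.card G = 5254) : False := by
  exact ev hG (by rw [h]; exact ⟨2627, by norm_num⟩) (by rw [h]; omega)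

theorem no_5255 {G : Type*} [Group G] [Finite G] [IsSimpleGroup G]
    (hG : ¬ IsMulCommutative G) (h : Nat.card G = 5255) : False := by
  exact tp hG 5 1051 1 1 (by norm_num) (by norm_num) (by rw [h]; norm_num)

theorem no_5256 {G : Type*} [Group G] [Finite G] [IsSimpleGroup G]
    (hG : ¬ IsMulCommutative G) (h : Nat.card G = 5256) : False := by
  have : Fact (Nat.Prime 73) := ⟨by norm_num⟩
  have hc : Nat.card G = 73 ^ 1 * 72 := by rw [h]; norm_num
  have hm : ¬ 73 ∣ 72 := by norm_num
  have hmem := card_sylow_mem_candidates hc hm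
  have hcand : sylowCandidates 73 72 = [1] := by decide
  rw [hcand] at hmem
  simp only [List.mem_cons, List.not_mem_nil, or_false] at hmem
  have hlt := one_lt_card_sylow_of_card hc hm (by norm_num) (by norm_num)
  have hd := hmem
  · omega

theorem no_5257 {G : Type*} [Group G] [Finite G] [IsSimpleGroup G]
    (hG : ¬ IsMulCommutative G) (h : Nat.card G = 5257) : False := by
  exact tp hG 7 751 1 1 (by norm_num) (by norm_num) (by rw [h]; norm_num)

theorem no_5258 {G : Type*} [Group G] [Finite G] [IsSimpleGroup G]
    (hG : ¬ IsMulCommutative G) (h : Nat.card G = 5258) : False := by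
  exact ev hG (by rw [h]; exact ⟨2629, by norm_num⟩) (by rw [h]; omega)

theorem no_5259 {G : Type*} [Group G] [Finite G] [IsSimpleGroup G]
    (hG : ¬ IsMulCommutative G) (h : Nat.card G = 5259) : False := by
  exact tp hG 3 1753 1 1 (by norm_num) (by norm_num) (by rw [h]; norm_num)

theorem no_5260 {G : Type*} [Group G] [Finite G] [IsSimpleGroup G]
    (hG : ¬ IsMulCommutative G) (h : Nat.card G = 5260) : False := by
  exact ev hG (by rw [h]; exact ⟨2630, by norm_num⟩) (by rw [h]; omega)

theorem no_5261 {G : Type*} [Group G] [Finite G] [IsSimpleGroup G]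
    (hG : ¬ IsMulCommutative G) (h : Nat.card G = 5261) : False := by
  exact tp hG 5261 2 1 0 (by norm_num) (by norm_num) (by rw [h]; norm_num)

theorem no_5262 {G : Type*} [Group G] [Finite G] [IsSimpleGroup G]
    (hG : ¬ IsMulCommutative G) (h : Nat.card G = 5262) : False := by
  exact ev hG (by rw [h]; exact ⟨2631, by norm_num⟩) (by rw [h]; omega)

theorem no_5263 {G : Type*} [Group G] [Finite G] [IsSimpleGroup G]
    (hG : ¬ IsMulCommutative G) (h : Nat.card G = 5263) : False := by
  exact tp hG 19 277 1 1 (by norm_num) (by norm_num) (by rw [h]; norm_num)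

theorem no_5264 {G : Type*} [Group G] [Finite G] [IsSimpleGroup G]
    (hG : ¬ IsMulCommutative G) (h : Nat.card G = 5264) : False := by
  have : Fact (Nat.Prime 47) := ⟨by norm_num⟩
  have hc : Nat.card G = 47 ^ 1 * 112 := by rw [h]; norm_num
  have hm : ¬ 47 ∣ 112 := by norm_num
  have hmem := card_sylow_mem_candidates hc hm
  have hcand : sylowCandidates 47 112 = [1] := by decide
  rw [hcand] at hmem
  simp only [List.mem_cons, List.not_mem_nil, or_false] at hmem
  have hlt := one_lt_card_sylow_of_card hc hm (by norm_num) (by norm_num)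
  have hd := hmem
  · omega

theorem no_5265 {G : Type*} [Group G] [Finite G] [IsSimpleGroup G]
    (hG : ¬ IsMulCommutative G) (h : Nat.card G = 5265) : False := by
  have : Fact (Nat.Prime 5) := ⟨by norm_num⟩
  have hc : Nat.card G = 5 ^ 1 * 1053 := by rw [h]; norm_num
  have hm : ¬ 5 ∣ 1053 := by norm_num
  have hmem := card_sylow_mem_candidates hc hm
  have hcand : sylowCandidates 5 1053 = [1, 81, 351] := by decide
  rw [hcand] at hmem
  simp only [List.mem_cons, List.not_mem_nil, or_false] at hmem
  have hlt := one_lt_card_sylow_of_card hc hm (by norm_num) (by norm_num)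
  rcases hmem with hd | hd | hd
  · omega
  · exact burn_kill hc hm (by norm_num) 81 hd (by decide)
  · exact burn_kill hc hm (by norm_num) 351 hd (by decide)

theorem no_5266 {G : Type*} [Group G] [Finite G] [IsSimpleGroup G]
    (hG : ¬ IsMulCommutative G) (h : Nat.card G = 5266) : False := by
  exact tp hG 2 2633 1 1 (by norm_num) (by norm_num) (by rw [h]; norm_num)

theorem no_5267 {G : Type*} [Group G] [Finite G] [IsSimpleGroup G]
    (hG : ¬ IsMulCommutative G) (h : Nat.card G = 5267) : False := by
  exact tp hG 23 229 1 1 (by norm_num) (by norm_num) (by rw [h]; norm_num)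

theorem no_5268 {G : Type*} [Group G] [Finite G] [IsSimpleGroup G]
    (hG : ¬ IsMulCommutative G) (h : Nat.card G = 5268) : False := by
  have : Fact (Nat.Prime 439) := ⟨by norm_num⟩
  have hc : Nat.card G = 439 ^ 1 * 12 := by rw [h]; norm_num
  have hm : ¬ 439 ∣ 12 := by norm_num
  have hmem := card_sylow_mem_candidates hc hm
  have hcand : sylowCandidates 439 12 = [1] := by decide
  rw [hcand] at hmem
  simp only [List.mem_cons, List.not_mem_nil, or_false] at hmem
  have hlt := one_lt_card_sylow_of_card hc hm (by norm_num) (by norm_num)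
  have hd := hmem
  · omega

theorem no_5269 {G : Type*} [Group G] [Finite G] [IsSimpleGroup G]
    (hG : ¬ IsMulCommutative G) (h : Nat.card G = 5269) : False := by
  exact tp hG 11 479 1 1 (by norm_num) (by norm_num) (by rw [h]; norm_num)

theorem no_5270 {G : Type*} [Group G] [Finite G] [IsSimpleGroup G]
    (hG : ¬ IsMulCommutative G) (h : Nat.card G = 5270) : False := by
  exact ev hG (by rw [h]; exact ⟨2635, by norm_num⟩) (by rw [h]; omega)

theorem no_5271 {G : Type*} [Group G] [Finite G] [IsSimpleGroup G]
    (hG : ¬ IsMulCommutative G) (h : Nat.card G = 5271) : False := by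
  have : Fact (Nat.Prime 251) := ⟨by norm_num⟩
  have hc : Nat.card G = 251 ^ 1 * 21 := by rw [h]; norm_num
  have hm : ¬ 251 ∣ 21 := by norm_num
  have hmem := card_sylow_mem_candidates hc hm
  have hcand : sylowCandidates 251 21 = [1] := by decide
  rw [hcand] at hmem
  simp only [List.mem_cons, List.not_mem_nil, or_false] at hmem
  have hlt := one_lt_card_sylow_of_card hc hm (by norm_num) (by norm_num)
  have hd := hmem
  · omega

theorem no_5272 {G : Type*} [Group G] [Finite G] [IsSimpleGroup G]
    (hG : ¬ IsMulCommutative G) (h : Nat.card G = 5272) : False := by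
  exact tp hG 2 659 3 1 (by norm_num) (by norm_num) (by rw [h]; norm_num)

theorem no_5273 {G : Type*} [Group G] [Finite G] [IsSimpleGroup G]
    (hG : ¬ IsMulCommutative G) (h : Nat.card G = 5273) : False := by
  exact tp hG 5273 2 1 0 (by norm_num) (by norm_num) (by rw [h]; norm_num)

theorem no_5274 {G : Type*} [Group G] [Finite G] [IsSimpleGroup G]
    (hG : ¬ IsMulCommutative G) (h : Nat.card G = 5274) : False := by
  exact ev hG (by rw [h]; exact ⟨2637, by norm_num⟩) (by rw [h]; omega)

theorem no_5275 {G : Type*} [Group G] [Finite G] [IsSimpleGroup G]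
    (hG : ¬ IsMulCommutative G) (h : Nat.card G = 5275) : False := by
  exact tp hG 5 211 2 1 (by norm_num) (by norm_num) (by rw [h]; norm_num)

theorem no_5276 {G : Type*} [Group G] [Finite G] [IsSimpleGroup G]
    (hG : ¬ IsMulCommutative G) (h : Nat.card G = 5276) : False := by
  exact tp hG 2 1319 2 1 (by norm_num) (by norm_num) (by rw [h]; norm_num)

theorem no_5277 {G : Type*} [Group G] [Finite G] [IsSimpleGroup G]
    (hG : ¬ IsMulCommutative G) (h : Nat.card G = 5277) : False := by
  exact tp hG 3 1759 1 1 (by norm_num) (by norm_num) (by rw [h]; norm_num)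

theorem no_5278 {G : Type*} [Group G] [Finite G] [IsSimpleGroup G]
    (hG : ¬ IsMulCommutative G) (h : Nat.card G = 5278) : False := by
  exact ev hG (by rw [h]; exact ⟨2639, by norm_num⟩) (by rw [h]; omega)

theorem no_5279 {G : Type*} [Group G] [Finite G] [IsSimpleGroup G]
    (hG : ¬ IsMulCommutative G) (h : Nat.card G = 5279) : False := by
  exact tp hG 5279 2 1 0 (by norm_num) (by norm_num) (by rw [h]; norm_num)

theorem no_5280 {G : Type*} [Group G] [Finite G] [IsSimpleGroup G]
    (hG : ¬ IsMulCommutative G) (h : Nat.card G = 5280) : False := by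
  have : Fact (Nat.Prime 11) := ⟨by norm_num⟩
  have hc : Nat.card G = 11 ^ 1 * 480 := by rw [h]; norm_num
  have hm : ¬ 11 ∣ 480 := by norm_num
  have hmem := card_sylow_mem_candidates hc hm
  have hcand : sylowCandidates 11 480 = [1, 12] := by decide
  rw [hcand] at hmem
  simp only [List.mem_cons, List.not_mem_nil, or_false] at hmem
  have hlt := one_lt_card_sylow_of_card hc hm (by norm_num) (by norm_num)
  rcases hmem with hd | hd
  · omega
  · exact perm_kill hG (by norm_num) hc hm hd 440 (by omega) (by decide)

theorem no_5281 {G : Type*} [Group G] [Finite G] [IsSimpleGroup G]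
    (hG : ¬ IsMulCommutative G) (h : Nat.card G = 5281) : False := by
  exact tp hG 5281 2 1 0 (by norm_num) (by norm_num) (by rw [h]; norm_num)

theorem no_5282 {G : Type*} [Group G] [Finite G] [IsSimpleGroup G]
    (hG : ¬ IsMulCommutative G) (h : Nat.card G = 5282) : False := by
  exact ev hG (by rw [h]; exact ⟨2641, by norm_num⟩) (by rw [h]; omega)

theorem no_5283 {G : Type*} [Group G] [Finite G] [IsSimpleGroup G]
    (hG : ¬ IsMulCommutative G) (h : Nat.card G = 5283) : False := by
  exact tp hG 3 587 2 1 (by norm_num) (by norm_num) (by rw [h]; norm_num)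

theorem no_5284 {G : Type*} [Group G] [Finite G] [IsSimpleGroup G]
    (hG : ¬ IsMulCommutative G) (h : Nat.card G = 5284) : False := by
  exact tp hG 2 1321 2 1 (by norm_num) (by norm_num) (by rw [h]; norm_num)

theorem no_5285 {G : Type*} [Group G] [Finite G] [IsSimpleGroup G]
    (hG : ¬ IsMulCommutative G) (h : Nat.card G = 5285) : False := by
  have : Fact (Nat.Prime 151) := ⟨by norm_num⟩
  have hc : Nat.card G = 151 ^ 1 * 35 := by rw [h]; norm_num
  have hm : ¬ 151 ∣ 35 := by norm_num
  have hmem := card_sylow_mem_candidates hc hm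
  have hcand : sylowCandidates 151 35 = [1] := by decide
  rw [hcand] at hmem
  simp only [List.mem_cons, List.not_mem_nil, or_false] at hmem
  have hlt := one_lt_card_sylow_of_card hc hm (by norm_num) (by norm_num)
  have hd := hmem
  · omega

theorem no_5286 {G : Type*} [Group G] [Finite G] [IsSimpleGroup G]
    (hG : ¬ IsMulCommutative G) (h : Nat.card G = 5286) : False := by
  exact ev hG (by rw [h]; exact ⟨2643, by norm_num⟩) (by rw [h]; omega)

theorem no_5287 {G : Type*} [Group G] [Finite G] [IsSimpleGroup G]
    (hG : ¬ IsMulCommutative G) (h : Nat.card G = 5287) : False := by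
  exact tp hG 17 311 1 1 (by norm_num) (by norm_num) (by rw [h]; norm_num)

theorem no_5288 {G : Type*} [Group G] [Finite G] [IsSimpleGroup G]
    (hG : ¬ IsMulCommutative G) (h : Nat.card G = 5288) : False := by
  exact tp hG 2 661 3 1 (by norm_num) (by norm_num) (by rw [h]; norm_num)

theorem no_5289 {G : Type*} [Group G] [Finite G] [IsSimpleGroup G]
    (hG : ¬ IsMulCommutative G) (h : Nat.card G = 5289) : False := by
  have : Fact (Nat.Prime 43) := ⟨by norm_num⟩
  have hc : Nat.card G = 43 ^ 1 * 123 := by rw [h]; norm_num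
  have hm : ¬ 43 ∣ 123 := by norm_num
  have hmem := card_sylow_mem_candidates hc hm
  have hcand : sylowCandidates 43 123 = [1] := by decide
  rw [hcand] at hmem
  simp only [List.mem_cons, List.not_mem_nil, or_false] at hmem
  have hlt := one_lt_card_sylow_of_card hc hm (by norm_num) (by norm_num)
  have hd := hmem
  · omega

theorem no_5290 {G : Type*} [Group G] [Finite G] [IsSimpleGroup G]
    (hG : ¬ IsMulCommutative G) (h : Nat.card G = 5290) : False := by
  exact ev hG (by rw [h]; exact ⟨2645, by norm_num⟩) (by rw [h]; omega)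

theorem no_5291 {G : Type*} [Group G] [Finite G] [IsSimpleGroup G]
    (hG : ¬ IsMulCommutative G) (h : Nat.card G = 5291) : False := by
  have : Fact (Nat.Prime 37) := ⟨by norm_num⟩
  have hc : Nat.card G = 37 ^ 1 * 143 := by rw [h]; norm_num
  have hm : ¬ 37 ∣ 143 := by norm_num
  have hmem := card_sylow_mem_candidates hc hm
  have hcand : sylowCandidates 37 143 = [1] := by decide
  rw [hcand] at hmem
  simp only [List.mem_cons, List.not_mem_nil, or_false] at hmem
  have hlt := one_lt_card_sylow_of_card hc hm (by norm_num) (by norm_num)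
  have hd := hmem
  · omega

theorem no_5293 {G : Type*} [Group G] [Finite G] [IsSimpleGroup G]
    (hG : ¬ IsMulCommutative G) (h : Nat.card G = 5293) : False := by
  exact tp hG 67 79 1 1 (by norm_num) (by norm_num) (by rw [h]; norm_num)

theorem no_5294 {G : Type*} [Group G] [Finite G] [IsSimpleGroup G]
    (hG : ¬ IsMulCommutative G) (h : Nat.card G = 5294) : False := by
  exact tp hG 2 2647 1 1 (by norm_num) (by norm_num) (by rw [h]; norm_num)

theorem no_5295 {G : Type*} [Group G] [Finite G] [IsSimpleGroup G]
    (hG : ¬ IsMulCommutative G) (h : Nat.card G = 5295) : False := by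
  have : Fact (Nat.Prime 353) := ⟨by norm_num⟩
  have hc : Nat.card G = 353 ^ 1 * 15 := by rw [h]; norm_num
  have hm : ¬ 353 ∣ 15 := by norm_num
  have hmem := card_sylow_mem_candidates hc hm
  have hcand : sylowCandidates 353 15 = [1] := by decide
  rw [hcand] at hmem
  simp only [List.mem_cons, List.not_mem_nil, or_false] at hmem
  have hlt := one_lt_card_sylow_of_card hc hm (by norm_num) (by norm_num)
  have hd := hmem
  · omega

theorem no_5296 {G : Type*} [Group G] [Finite G] [IsSimpleGroup G]
    (hG : ¬ IsMulCommutative G) (h : Nat.card G = 5296) : False := by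
  exact tp hG 2 331 4 1 (by norm_num) (by norm_num) (by rw [h]; norm_num)

theorem no_5297 {G : Type*} [Group G] [Finite G] [IsSimpleGroup G]
    (hG : ¬ IsMulCommutative G) (h : Nat.card G = 5297) : False := by
  exact tp hG 5297 2 1 0 (by norm_num) (by norm_num) (by rw [h]; norm_num)

theorem no_5298 {G : Type*} [Group G] [Finite G] [IsSimpleGroup G]
    (hG : ¬ IsMulCommutative G) (h : Nat.card G = 5298) : False := by
  exact ev hG (by rw [h]; exact ⟨2649, by norm_num⟩) (by rw [h]; omega)

theorem no_5299 {G : Type*} [Group G] [Finite G] [IsSimpleGroup G]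
    (hG : ¬ IsMulCommutative G) (h : Nat.card G = 5299) : False := by
  exact tp hG 7 757 1 1 (by norm_num) (by norm_num) (by rw [h]; norm_num)

theorem no_5300 {G : Type*} [Group G] [Finite G] [IsSimpleGroup G]
    (hG : ¬ IsMulCommutative G) (h : Nat.card G = 5300) : False := by
  exact ev hG (by rw [h]; exact ⟨2650, by norm_num⟩) (by rw [h]; omega)

/-- the orders in [5201, 5300] not excluded by the engine -/
theorem chunk {G : Type*} [Group G] [Finite G] [IsSimpleGroup G]
    (hG : ¬ IsMulCommutative G) (n : ℕ) (hn : Nat.card G = n) (h1 : 5201 ≤ n) (h2 : n ≤ 5300) :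
    n = 5292 := by
  interval_cases n
  · exact (no_5201 hG hn).elim
  · exact (no_5202 hG hn).elim
  · exact (no_5203 hG hn).elim
  · exact (no_5204 hG hn).elim
  · exact (no_5205 hG hn).elim
  · exact (no_5206 hG hn).elim
  · exact (no_5207 hG hn).elim
  · exact (no_5208 hG hn).elim
  · exact (no_5209 hG hn).elim
  · exact (no_5210 hG hn).elim
  · exact (no_5211 hG hn).elim
  · exact (no_5212 hG hn).elim
  · exact (no_5213 hG hn).elim
  · exact (no_5214 hG hn).elim
  · exact (no_5215 hG hn).elim
  · exact (no_5216 hG hn).elim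
  · exact (no_5217 hG hn).elim
  · exact (no_5218 hG hn).elim
  · exact (no_5219 hG hn).elim
  · exact (no_5220 hG hn).elim
  · exact (no_5221 hG hn).elim
  · exact (no_5222 hG hn).elim
  · exact (no_5223 hG hn).elim
  · exact (no_5224 hG hn).elim
  · exact (no_5225 hG hn).elim
  · exact (no_5226 hG hn).elim
  · exact (no_5227 hG hn).elim
  · exact (no_5228 hG hn).elim
  · exact (no_5229 hG hn).elim
  · exact (no_5230 hG hn).elim
  · exact (no_5231 hG hn).elim
  · exact (no_5232 hG hn).elim
  · exact (no_5233 hG hn).elim
  · exact (no_5234 hG hn).elim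
  · exact (no_5235 hG hn).elim
  · exact (no_5236 hG hn).elim
  · exact (no_5237 hG hn).elim
  · exact (no_5238 hG hn).elim
  · exact (no_5239 hG hn).elim
  · exact (no_5240 hG hn).elim
  · exact (no_5241 hG hn).elim
  · exact (no_5242 hG hn).elim
  · exact (no_5243 hG hn).elim
  · exact (no_5244 hG hn).elim
  · exact (no_5245 hG hn).elim
  · exact (no_5246 hG hn).elim
  · exact (no_5247 hG hn).elim
  · exact (no_5248 hG hn).elim
  · exact (no_5249 hG hn).elim
  · exact (no_5250 hG hn).elim
  · exact (no_5251 hG hn).elim
  · exact (no_5252 hG hn).elim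
  · exact (no_5253 hG hn).elim
  · exact (no_5254 hG hn).elim
  · exact (no_5255 hG hn).elim
  · exact (no_5256 hG hn).elim
  · exact (no_5257 hG hn).elim
  · exact (no_5258 hG hn).elim
  · exact (no_5259 hG hn).elim
  · exact (no_5260 hG hn).elim
  · exact (no_5261 hG hn).elim
  · exact (no_5262 hG hn).elim
  · exact (no_5263 hG hn).elim
  · exact (no_5264 hG hn).elim
  · exact (no_5265 hG hn).elim
  · exact (no_5266 hG hn).elim
  · exact (no_5267 hG hn).elim
  · exact (no_5268 hG hn).elim
  · exact (no_5269 hG hn).elim
  · exact (no_5270 hG hn).elim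
  · exact (no_5271 hG hn).elim
  · exact (no_5272 hG hn).elim
  · exact (no_5273 hG hn).elim
  · exact (no_5274 hG hn).elim
  · exact (no_5275 hG hn).elim
  · exact (no_5276 hG hn).elim
  · exact (no_5277 hG hn).elim
  · exact (no_5278 hG hn).elim
  · exact (no_5279 hG hn).elim
  · exact (no_5280 hG hn).elim
  · exact (no_5281 hG hn).elim
  · exact (no_5282 hG hn).elim
  · exact (no_5283 hG hn).elim
  · exact (no_5284 hG hn).elim
  · exact (no_5285 hG hn).elim
  · exact (no_5286 hG hn).elim
  · exact (no_5287 hG hn).elim
  · exact (no_5288 hG hn).elim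
  · exact (no_5289 hG hn).elim
  · exact (no_5290 hG hn).elim
  · exact (no_5291 hG hn).elim
  · simp
  · exact (no_5293 hG hn).elim
  · exact (no_5294 hG hn).elim
  · exact (no_5295 hG hn).elim
  · exact (no_5296 hG hn).elim
  · exact (no_5297 hG hn).elim
  · exact (no_5298 hG hn).elim
  · exact (no_5299 hG hn).elim
  · exact (no_5300 hG hn).elim

end Cfsg.Agent.Lib.Helper16_SO_E16
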