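import Mathlib
import Cfsg.Agent.Lib.Helper75_SM_Base

/-!
# S0983 engine, generated file: no simple group of order N for the easy N in [5301, 5400]
(helper16; same scheme as helper75's `Helper75_SM_E*`)
-/

set_option autoImplicit false
set_option linter.unusedVariables false

namespace Cfsg.Agent.Lib.Helper16_SO_E17

open Cfsg.Agent.Lib.Helper17_Sylow Cfsg.Agent.Lib.Helper75_SM_Base

theorem no_5301 {G : Type*} [Group G] [Finite G] [IsSimpleGroup G]
    (hG : ¬ IsMulCommutative G) (h : Nat.card G = 5301) : False := by
  have : Fact (Nat.Prime 31) := ⟨by norm_num⟩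
  have hc : Nat.card G = 31 ^ 1 * 171 := by rw [h]; norm_num
  have hm : ¬ 31 ∣ 171 := by norm_num
  have hmem := card_sylow_mem_candidates hc hm
  have hcand : sylowCandidates 31 171 = [1] := by decide
  rw [hcand] at hmem
  simp only [List.mem_cons, List.not_mem_nil, or_false] at hmem
  have hlt := one_lt_card_sylow_of_card hc hm (by norm_num) (by norm_num)
  have hd := hmem
  · omega

theorem no_5302 {G : Type*} [Group G] [Finite G] [IsSimpleGroup G]
    (hG : ¬ IsMulCommutative G) (h : Nat.card G = 5302) : False := by
  exact ev hG (by rw [h]; exact ⟨2651, by norm_num⟩) (by rw [h]; omega)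

theorem no_5303 {G : Type*} [Group G] [Finite G] [IsSimpleGroup G]
    (hG : ¬ IsMulCommutative G) (h : Nat.card G = 5303) : False := by
  exact tp hG 5303 2 1 0 (by norm_num) (by norm_num) (by rw [h]; norm_num)

theorem no_5304 {G : Type*} [Group G] [Finite G] [IsSimpleGroup G]
    (hG : ¬ IsMulCommutative G) (h : Nat.card G = 5304) : False := by
  have : Fact (Nat.Prime 13) := ⟨by norm_num⟩
  have hc : Nat.card G = 13 ^ 1 * 408 := by rw [h]; norm_num
  have hm : ¬ 13 ∣ 408 := by norm_num
  have hmem := card_sylow_mem_candidates hc hm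
  have hcand : sylowCandidates 13 408 = [1] := by decide
  rw [hcand] at hmem
  simp only [List.mem_cons, List.not_mem_nil, or_false] at hmem
  have hlt := one_lt_card_sylow_of_card hc hm (by norm_num) (by norm_num)
  have hd := hmem
  · omega

theorem no_5305 {G : Type*} [Group G] [Finite G] [IsSimpleGroup G]
    (hG : ¬ IsMulCommutative G) (h : Nat.card G = 5305) : False := by
  exact tp hG 5 1061 1 1 (by norm_num) (by norm_num) (by rw [h]; norm_num)

theorem no_5306 {G : Type*} [Group G] [Finite G] [IsSimpleGroup G]
    (hG : ¬ IsMulCommutative G) (h : Nat.card G = 5306) : False := by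
  exact ev hG (by rw [h]; exact ⟨2653, by norm_num⟩) (by rw [h]; omega)

theorem no_5307 {G : Type*} [Group G] [Finite G] [IsSimpleGroup G]
    (hG : ¬ IsMulCommutative G) (h : Nat.card G = 5307) : False := by
  have : Fact (Nat.Prime 61) := ⟨by norm_num⟩
  have hc : Nat.card G = 61 ^ 1 * 87 := by rw [h]; norm_num
  have hm : ¬ 61 ∣ 87 := by norm_num
  have hmem := card_sylow_mem_candidates hc hm
  have hcand : sylowCandidates 61 87 = [1] := by decide
  rw [hcand] at hmem
  simp only [List.mem_cons, List.not_mem_nil, or_false] at hmem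
  have hlt := one_lt_card_sylow_of_card hc hm (by norm_num) (by norm_num)
  have hd := hmem
  · omega

theorem no_5308 {G : Type*} [Group G] [Finite G] [IsSimpleGroup G]
    (hG : ¬ IsMulCommutative G) (h : Nat.card G = 5308) : False := by
  exact tp hG 2 1327 2 1 (by norm_num) (by norm_num) (by rw [h]; norm_num)

theorem no_5309 {G : Type*} [Group G] [Finite G] [IsSimpleGroup G]
    (hG : ¬ IsMulCommutative G) (h : Nat.card G = 5309) : False := by
  exact tp hG 5309 2 1 0 (by norm_num) (by norm_num) (by rw [h]; norm_num)

theorem no_5310 {G : Type*} [Group G] [Finite G] [IsSimpleGroup G]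
    (hG : ¬ IsMulCommutative G) (h : Nat.card G = 5310) : False := by
  exact ev hG (by rw [h]; exact ⟨2655, by norm_num⟩) (by rw [h]; omega)

theorem no_5311 {G : Type*} [Group G] [Finite G] [IsSimpleGroup G]
    (hG : ¬ IsMulCommutative G) (h : Nat.card G = 5311) : False := by
  exact tp hG 47 113 1 1 (by norm_num) (by norm_num) (by rw [h]; norm_num)

theorem no_5312 {G : Type*} [Group G] [Finite G] [IsSimpleGroup G]
    (hG : ¬ IsMulCommutative G) (h : Nat.card G = 5312) : False := by
  exact tp hG 2 83 6 1 (by norm_num) (by norm_num) (by rw [h]; norm_num)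

theorem no_5313 {G : Type*} [Group G] [Finite G] [IsSimpleGroup G]
    (hG : ¬ IsMulCommutative G) (h : Nat.card G = 5313) : False := by
  have : Fact (Nat.Prime 23) := ⟨by norm_num⟩
  have hc : Nat.card G = 23 ^ 1 * 231 := by rw [h]; norm_num
  have hm : ¬ 23 ∣ 231 := by norm_num
  have hmem := card_sylow_mem_candidates hc hm
  have hcand : sylowCandidates 23 231 = [1, 231] := by decide
  rw [hcand] at hmem
  simp only [List.mem_cons, List.not_mem_nil, or_false] at hmem
  have hlt := one_lt_card_sylow_of_card hc hm (by norm_num) (by norm_num)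
  rcases hmem with hd | hd
  · omega
  · exact burn_kill hc hm (by norm_num) 231 hd (by decide)

theorem no_5314 {G : Type*} [Group G] [Finite G] [IsSimpleGroup G]
    (hG : ¬ IsMulCommutative G) (h : Nat.card G = 5314) : False := by
  exact tp hG 2 2657 1 1 (by norm_num) (by norm_num) (by rw [h]; norm_num)

theorem no_5315 {G : Type*} [Group G] [Finite G] [IsSimpleGroup G]
    (hG : ¬ IsMulCommutative G) (h : Nat.card G = 5315) : False := by
  exact tp hG 5 1063 1 1 (by norm_num) (by norm_num) (by rw [h]; norm_num)

theorem no_5316 {G : Type*} [Group G] [Finite G] [IsSimpleGroup G]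
    (hG : ¬ IsMulCommutative G) (h : Nat.card G = 5316) : False := by
  have : Fact (Nat.Prime 443) := ⟨by norm_num⟩
  have hc : Nat.card G = 443 ^ 1 * 12 := by rw [h]; norm_num
  have hm : ¬ 443 ∣ 12 := by norm_num
  have hmem := card_sylow_mem_candidates hc hm
  have hcand : sylowCandidates 443 12 = [1] := by decide
  rw [hcand] at hmem
  simp only [List.mem_cons, List.not_mem_nil, or_false] at hmem
  have hlt := one_lt_card_sylow_of_card hc hm (by norm_num) (by norm_num)
  have hd := hmem
  · omega

theorem no_5317 {G : Type*} [Group G] [Finite G] [IsSimpleGroup G]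
    (hG : ¬ IsMulCommutative G) (h : Nat.card G = 5317) : False := by
  exact tp hG 13 409 1 1 (by norm_num) (by norm_num) (by rw [h]; norm_num)

theorem no_5318 {G : Type*} [Group G] [Finite G] [IsSimpleGroup G]
    (hG : ¬ IsMulCommutative G) (h : Nat.card G = 5318) : False := by
  exact tp hG 2 2659 1 1 (by norm_num) (by norm_num) (by rw [h]; norm_num)

theorem no_5319 {G : Type*} [Group G] [Finite G] [IsSimpleGroup G]
    (hG : ¬ IsMulCommutative G) (h : Nat.card G = 5319) : False := by
  exact tp hG 3 197 3 1 (by norm_num) (by norm_num) (by rw [h]; norm_num)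

theorem no_5320 {G : Type*} [Group G] [Finite G] [IsSimpleGroup G]
    (hG : ¬ IsMulCommutative G) (h : Nat.card G = 5320) : False := by
  have : Fact (Nat.Prime 19) := ⟨by norm_num⟩
  have hc : Nat.card G = 19 ^ 1 * 280 := by rw [h]; norm_num
  have hm : ¬ 19 ∣ 280 := by norm_num
  have hmem := card_sylow_mem_candidates hc hm
  have hcand : sylowCandidates 19 280 = [1, 20] := by decide
  rw [hcand] at hmem
  simp only [List.mem_cons, List.not_mem_nil, or_false] at hmem
  have hlt := one_lt_card_sylow_of_card hc hm (by norm_num) (by norm_num)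
  rcases hmem with hd | hd
  · omega
  · exact perm_kill hG (by norm_num) hc hm hd 266 (by omega) (by decide)

theorem no_5321 {G : Type*} [Group G] [Finite G] [IsSimpleGroup G]
    (hG : ¬ IsMulCommutative G) (h : Nat.card G = 5321) : False := by
  exact tp hG 17 313 1 1 (by norm_num) (by norm_num) (by rw [h]; norm_num)

theorem no_5322 {G : Type*} [Group G] [Finite G] [IsSimpleGroup G]
    (hG : ¬ IsMulCommutative G) (h : Nat.card G = 5322) : False := by
  exact ev hG (by rw [h]; exact ⟨2661, by norm_num⟩) (by rw [h]; omega)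

theorem no_5323 {G : Type*} [Group G] [Finite G] [IsSimpleGroup G]
    (hG : ¬ IsMulCommutative G) (h : Nat.card G = 5323) : False := by
  exact tp hG 5323 2 1 0 (by norm_num) (by norm_num) (by rw [h]; norm_num)

theorem no_5324 {G : Type*} [Group G] [Finite G] [IsSimpleGroup G]
    (hG : ¬ IsMulCommutative G) (h : Nat.card G = 5324) : False := by
  exact tp hG 2 11 2 3 (by norm_num) (by norm_num) (by rw [h]; norm_num)

theorem no_5325 {G : Type*} [Group G] [Finite G] [IsSimpleGroup G]
    (hG : ¬ IsMulCommutative G) (h : Nat.card G = 5325) : False := by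
  have : Fact (Nat.Prime 71) := ⟨by norm_num⟩
  have hc : Nat.card G = 71 ^ 1 * 75 := by rw [h]; norm_num
  have hm : ¬ 71 ∣ 75 := by norm_num
  have hmem := card_sylow_mem_candidates hc hm
  have hcand : sylowCandidates 71 75 = [1] := by decide
  rw [hcand] at hmem
  simp only [List.mem_cons, List.not_mem_nil, or_false] at hmem
  have hlt := one_lt_card_sylow_of_card hc hm (by norm_num) (by norm_num)
  have hd := hmem
  · omega

theorem no_5326 {G : Type*} [Group G] [Finite G] [IsSimpleGroup G]
    (hG : ¬ IsMulCommutative G) (h : Nat.card G = 5326) : False := by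
  exact tp hG 2 2663 1 1 (by norm_num) (by norm_num) (by rw [h]; norm_num)

theorem no_5327 {G : Type*} [Group G] [Finite G] [IsSimpleGroup G]
    (hG : ¬ IsMulCommutative G) (h : Nat.card G = 5327) : False := by
  exact tp hG 7 761 1 1 (by norm_num) (by norm_num) (by rw [h]; norm_num)

theorem no_5328 {G : Type*} [Group G] [Finite G] [IsSimpleGroup G]
    (hG : ¬ IsMulCommutative G) (h : Nat.card G = 5328) : False := by
  have : Fact (Nat.Prime 37) := ⟨by norm_num⟩
  have hc : Nat.card G = 37 ^ 1 * 144 := by rw [h]; norm_num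
  have hm : ¬ 37 ∣ 144 := by norm_num
  have hmem := card_sylow_mem_candidates hc hm
  have hcand : sylowCandidates 37 144 = [1] := by decide
  rw [hcand] at hmem
  simp only [List.mem_cons, List.not_mem_nil, or_false] at hmem
  have hlt := one_lt_card_sylow_of_card hc hm (by norm_num) (by norm_num)
  have hd := hmem
  · omega

theorem no_5329 {G : Type*} [Group G] [Finite G] [IsSimpleGroup G]
    (hG : ¬ IsMulCommutative G) (h : Nat.card G = 5329) : False := by
  exact tp hG 73 2 2 0 (by norm_num) (by norm_num) (by rw [h]; norm_num)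

theorem no_5330 {G : Type*} [Group G] [Finite G] [IsSimpleGroup G]
    (hG : ¬ IsMulCommutative G) (h : Nat.card G = 5330) : False := by
  exact ev hG (by rw [h]; exact ⟨2665, by norm_num⟩) (by rw [h]; omega)

theorem no_5331 {G : Type*} [Group G] [Finite G] [IsSimpleGroup G]
    (hG : ¬ IsMulCommutative G) (h : Nat.card G = 5331) : False := by
  exact tp hG 3 1777 1 1 (by norm_num) (by norm_num) (by rw [h]; norm_num)

theorem no_5332 {G : Type*} [Group G] [Finite G] [IsSimpleGroup G]
    (hG : ¬ IsMulCommutative G) (h : Nat.card G = 5332) : False := by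
  exact ev hG (by rw [h]; exact ⟨2666, by norm_num⟩) (by rw [h]; omega)

theorem no_5333 {G : Type*} [Group G] [Finite G] [IsSimpleGroup G]
    (hG : ¬ IsMulCommutative G) (h : Nat.card G = 5333) : False := by
  exact tp hG 5333 2 1 0 (by norm_num) (by norm_num) (by rw [h]; norm_num)

theorem no_5334 {G : Type*} [Group G] [Finite G] [IsSimpleGroup G]
    (hG : ¬ IsMulCommutative G) (h : Nat.card G = 5334) : False := by
  exact ev hG (by rw [h]; exact ⟨2667, by norm_num⟩) (by rw [h]; omega)

theorem no_5335 {G : Type*} [Group G] [Finite G] [IsSimpleGroup G]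
    (hG : ¬ IsMulCommutative G) (h : Nat.card G = 5335) : False := by
  have : Fact (Nat.Prime 97) := ⟨by norm_num⟩
  have hc : Nat.card G = 97 ^ 1 * 55 := by rw [h]; norm_num
  have hm : ¬ 97 ∣ 55 := by norm_num
  have hmem := card_sylow_mem_candidates hc hm
  have hcand : sylowCandidates 97 55 = [1] := by decide
  rw [hcand] at hmem
  simp only [List.mem_cons, List.not_mem_nil, or_false] at hmem
  have hlt := one_lt_card_sylow_of_card hc hm (by norm_num) (by norm_num)
  have hd := hmem
  · omega

theorem no_5336 {G : Type*} [Group G] [Finite G] [IsSimpleGroup G]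
    (hG : ¬ IsMulCommutative G) (h : Nat.card G = 5336) : False := by
  exact ev hG (by rw [h]; exact ⟨2668, by norm_num⟩) (by rw [h]; omega)

theorem no_5337 {G : Type*} [Group G] [Finite G] [IsSimpleGroup G]
    (hG : ¬ IsMulCommutative G) (h : Nat.card G = 5337) : False := by
  exact tp hG 3 593 2 1 (by norm_num) (by norm_num) (by rw [h]; norm_num)

theorem no_5338 {G : Type*} [Group G] [Finite G] [IsSimpleGroup G]
    (hG : ¬ IsMulCommutative G) (h : Nat.card G = 5338) : False := by
  exact ev hG (by rw [h]; exact ⟨2669, by norm_num⟩) (by rw [h]; omega)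

theorem no_5339 {G : Type*} [Group G] [Finite G] [IsSimpleGroup G]
    (hG : ¬ IsMulCommutative G) (h : Nat.card G = 5339) : False := by
  exact tp hG 19 281 1 1 (by norm_num) (by norm_num) (by rw [h]; norm_num)

theorem no_5340 {G : Type*} [Group G] [Finite G] [IsSimpleGroup G]
    (hG : ¬ IsMulCommutative G) (h : Nat.card G = 5340) : False := by
  have : Fact (Nat.Prime 89) := ⟨by norm_num⟩
  have hc : Nat.card G = 89 ^ 1 * 60 := by rw [h]; norm_num
  have hm : ¬ 89 ∣ 60 := by norm_num
  have hmem := card_sylow_mem_candidates hc hm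
  have hcand : sylowCandidates 89 60 = [1] := by decide
  rw [hcand] at hmem
  simp only [List.mem_cons, List.not_mem_nil, or_false] at hmem
  have hlt := one_lt_card_sylow_of_card hc hm (by norm_num) (by norm_num)
  have hd := hmem
  · omega

theorem no_5341 {G : Type*} [Group G] [Finite G] [IsSimpleGroup G]
    (hG : ¬ IsMulCommutative G) (h : Nat.card G = 5341) : False := by
  exact tp hG 7 109 2 1 (by norm_num) (by norm_num) (by rw [h]; norm_num)

theorem no_5342 {G : Type*} [Group G] [Finite G] [IsSimpleGroup G]
    (hG : ¬ IsMulCommutative G) (h : Nat.card G = 5342) : False := by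
  exact tp hG 2 2671 1 1 (by norm_num) (by norm_num) (by rw [h]; norm_num)

theorem no_5343 {G : Type*} [Group G] [Finite G] [IsSimpleGroup G]
    (hG : ¬ IsMulCommutative G) (h : Nat.card G = 5343) : False := by
  have : Fact (Nat.Prime 137) := ⟨by norm_num⟩
  have hc : Nat.card G = 137 ^ 1 * 39 := by rw [h]; norm_num
  have hm : ¬ 137 ∣ 39 := by norm_num
  have hmem := card_sylow_mem_candidates hc hm
  have hcand : sylowCandidates 137 39 = [1] := by decide
  rw [hcand] at hmem
  simp only [List.mem_cons, List.not_mem_nil, or_false] at hmem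
  have hlt := one_lt_card_sylow_of_card hc hm (by norm_num) (by norm_num)
  have hd := hmem
  · omega

theorem no_5344 {G : Type*} [Group G] [Finite G] [IsSimpleGroup G]
    (hG : ¬ IsMulCommutative G) (h : Nat.card G = 5344) : False := by
  exact tp hG 2 167 5 1 (by norm_num) (by norm_num) (by rw [h]; norm_num)

theorem no_5345 {G : Type*} [Group G] [Finite G] [IsSimpleGroup G]
    (hG : ¬ IsMulCommutative G) (h : Nat.card G = 5345) : False := by
  exact tp hG 5 1069 1 1 (by norm_num) (by norm_num) (by rw [h]; norm_num)

theorem no_5346 {G : Type*} [Group G] [Finite G] [IsSimpleGroup G]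
    (hG : ¬ IsMulCommutative G) (h : Nat.card G = 5346) : False := by
  exact ev hG (by rw [h]; exact ⟨2673, by norm_num⟩) (by rw [h]; omega)

theorem no_5347 {G : Type*} [Group G] [Finite G] [IsSimpleGroup G]
    (hG : ¬ IsMulCommutative G) (h : Nat.card G = 5347) : False := by
  exact tp hG 5347 2 1 0 (by norm_num) (by norm_num) (by rw [h]; norm_num)

theorem no_5348 {G : Type*} [Group G] [Finite G] [IsSimpleGroup G]
    (hG : ¬ IsMulCommutative G) (h : Nat.card G = 5348) : False := by
  exact ev hG (by rw [h]; exact ⟨2674, by norm_num⟩) (by rw [h]; omega)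

theorem no_5349 {G : Type*} [Group G] [Finite G] [IsSimpleGroup G]
    (hG : ¬ IsMulCommutative G) (h : Nat.card G = 5349) : False := by
  exact tp hG 3 1783 1 1 (by norm_num) (by norm_num) (by rw [h]; norm_num)

theorem no_5350 {G : Type*} [Group G] [Finite G] [IsSimpleGroup G]
    (hG : ¬ IsMulCommutative G) (h : Nat.card G = 5350) : False := by
  exact ev hG (by rw [h]; exact ⟨2675, by norm_num⟩) (by rw [h]; omega)

theorem no_5351 {G : Type*} [Group G] [Finite G] [IsSimpleGroup G]
    (hG : ¬ IsMulCommutative G) (h : Nat.card G = 5351) : False := by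
  exact tp hG 5351 2 1 0 (by norm_num) (by norm_num) (by rw [h]; norm_num)

theorem no_5352 {G : Type*} [Group G] [Finite G] [IsSimpleGroup G]
    (hG : ¬ IsMulCommutative G) (h : Nat.card G = 5352) : False := by
  have : Fact (Nat.Prime 223) := ⟨by norm_num⟩
  have hc : Nat.card G = 223 ^ 1 * 24 := by rw [h]; norm_num
  have hm : ¬ 223 ∣ 24 := by norm_num
  have hmem := card_sylow_mem_candidates hc hm
  have hcand : sylowCandidates 223 24 = [1] := by decide
  rw [hcand] at hmem
  simp only [List.mem_cons, List.not_mem_nil, or_false] at hmem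
  have hlt := one_lt_card_sylow_of_card hc hm (by norm_num) (by norm_num)
  have hd := hmem
  · omega

theorem no_5353 {G : Type*} [Group G] [Finite G] [IsSimpleGroup G]
    (hG : ¬ IsMulCommutative G) (h : Nat.card G = 5353) : False := by
  exact tp hG 53 101 1 1 (by norm_num) (by norm_num) (by rw [h]; norm_num)

theorem no_5354 {G : Type*} [Group G] [Finite G] [IsSimpleGroup G]
    (hG : ¬ IsMulCommutative G) (h : Nat.card G = 5354) : False := by
  exact tp hG 2 2677 1 1 (by norm_num) (by norm_num) (by rw [h]; norm_num)

theorem no_5355 {G : Type*} [Group G] [Finite G] [IsSimpleGroup G]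
    (hG : ¬ IsMulCommutative G) (h : Nat.card G = 5355) : False := by
  have : Fact (Nat.Prime 17) := ⟨by norm_num⟩
  have hc : Nat.card G = 17 ^ 1 * 315 := by rw [h]; norm_num
  have hm : ¬ 17 ∣ 315 := by norm_num
  have hmem := card_sylow_mem_candidates hc hm
  have hcand : sylowCandidates 17 315 = [1, 35] := by decide
  rw [hcand] at hmem
  simp only [List.mem_cons, List.not_mem_nil, or_false] at hmem
  have hlt := one_lt_card_sylow_of_card hc hm (by norm_num) (by norm_num)
  rcases hmem with hd | hd
  · omega
  · exact burn_kill hc hm (by norm_num) 35 hd (by decide)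

theorem no_5356 {G : Type*} [Group G] [Finite G] [IsSimpleGroup G]
    (hG : ¬ IsMulCommutative G) (h : Nat.card G = 5356) : False := by
  exact ev hG (by rw [h]; exact ⟨2678, by norm_num⟩) (by rw [h]; omega)

theorem no_5357 {G : Type*} [Group G] [Finite G] [IsSimpleGroup G]
    (hG : ¬ IsMulCommutative G) (h : Nat.card G = 5357) : False := by
  exact tp hG 11 487 1 1 (by norm_num) (by norm_num) (by rw [h]; norm_num)

theorem no_5358 {G : Type*} [Group G] [Finite G] [IsSimpleGroup G]
    (hG : ¬ IsMulCommutative G) (h : Nat.card G = 5358) : False := by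
  exact ev hG (by rw [h]; exact ⟨2679, by norm_num⟩) (by rw [h]; omega)

theorem no_5359 {G : Type*} [Group G] [Finite G] [IsSimpleGroup G]
    (hG : ¬ IsMulCommutative G) (h : Nat.card G = 5359) : False := by
  exact tp hG 23 233 1 1 (by norm_num) (by norm_num) (by rw [h]; norm_num)

theorem no_5360 {G : Type*} [Group G] [Finite G] [IsSimpleGroup G]
    (hG : ¬ IsMulCommutative G) (h : Nat.card G = 5360) : False := by
  have : Fact (Nat.Prime 67) := ⟨by norm_num⟩
  have hc : Nat.card G = 67 ^ 1 * 80 := by rw [h]; norm_num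
  have hm : ¬ 67 ∣ 80 := by norm_num
  have hmem := card_sylow_mem_candidates hc hm
  have hcand : sylowCandidates 67 80 = [1] := by decide
  rw [hcand] at hmem
  simp only [List.mem_cons, List.not_mem_nil, or_false] at hmem
  have hlt := one_lt_card_sylow_of_card hc hm (by norm_num) (by norm_num)
  have hd := hmem
  · omega

theorem no_5361 {G : Type*} [Group G] [Finite G] [IsSimpleGroup G]
    (hG : ¬ IsMulCommutative G) (h : Nat.card G = 5361) : False := by
  exact tp hG 3 1787 1 1 (by norm_num) (by norm_num) (by rw [h]; norm_num)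

theorem no_5362 {G : Type*} [Group G] [Finite G] [IsSimpleGroup G]
    (hG : ¬ IsMulCommutative G) (h : Nat.card G = 5362) : False := by
  exact ev hG (by rw [h]; exact ⟨2681, by norm_num⟩) (by rw [h]; omega)

theorem no_5363 {G : Type*} [Group G] [Finite G] [IsSimpleGroup G]
    (hG : ¬ IsMulCommutative G) (h : Nat.card G = 5363) : False := by
  exact tp hG 31 173 1 1 (by norm_num) (by norm_num) (by rw [h]; norm_num)

theorem no_5364 {G : Type*} [Group G] [Finite G] [IsSimpleGroup G]
    (hG : ¬ IsMulCommutative G) (h : Nat.card G = 5364) : False := by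
  have : Fact (Nat.Prime 149) := ⟨by norm_num⟩
  have hc : Nat.card G = 149 ^ 1 * 36 := by rw [h]; norm_num
  have hm : ¬ 149 ∣ 36 := by norm_num
  have hmem := card_sylow_mem_candidates hc hm
  have hcand : sylowCandidates 149 36 = [1] := by decide
  rw [hcand] at hmem
  simp only [List.mem_cons, List.not_mem_nil, or_false] at hmem
  have hlt := one_lt_card_sylow_of_card hc hm (by norm_num) (by norm_num)
  have hd := hmem
  · omega

theorem no_5365 {G : Type*} [Group G] [Finite G] [IsSimpleGroup G]
    (hG : ¬ IsMulCommutative G) (h : Nat.card G = 5365) : False := by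
  have : Fact (Nat.Prime 37) := ⟨by norm_num⟩
  have hc : Nat.card G = 37 ^ 1 * 145 := by rw [h]; norm_num
  have hm : ¬ 37 ∣ 145 := by norm_num
  have hmem := card_sylow_mem_candidates hc hm
  have hcand : sylowCandidates 37 145 = [1] := by decide
  rw [hcand] at hmem
  simp only [List.mem_cons, List.not_mem_nil, or_false] at hmem
  have hlt := one_lt_card_sylow_of_card hc hm (by norm_num) (by norm_num)
  have hd := hmem
  · omega

theorem no_5366 {G : Type*} [Group G] [Finite G] [IsSimpleGroup G]
    (hG : ¬ IsMulCommutative G) (h : Nat.card G = 5366) : False := by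
  exact tp hG 2 2683 1 1 (by norm_num) (by norm_num) (by rw [h]; norm_num)

theorem no_5367 {G : Type*} [Group G] [Finite G] [IsSimpleGroup G]
    (hG : ¬ IsMulCommutative G) (h : Nat.card G = 5367) : False := by
  exact tp hG 3 1789 1 1 (by norm_num) (by norm_num) (by rw [h]; norm_num)

theorem no_5368 {G : Type*} [Group G] [Finite G] [IsSimpleGroup G]
    (hG : ¬ IsMulCommutative G) (h : Nat.card G = 5368) : False := by
  exact ev hG (by rw [h]; exact ⟨2684, by norm_num⟩) (by rw [h]; omega)

theorem no_5369 {G : Type*} [Group G] [Finite G] [IsSimpleGroup G]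
    (hG : ¬ IsMulCommutative G) (h : Nat.card G = 5369) : False := by
  have : Fact (Nat.Prime 59) := ⟨by norm_num⟩
  have hc : Nat.card G = 59 ^ 1 * 91 := by rw [h]; norm_num
  have hm : ¬ 59 ∣ 91 := by norm_num
  have hmem := card_sylow_mem_candidates hc hm
  have hcand : sylowCandidates 59 91 = [1] := by decide
  rw [hcand] at hmem
  simp only [List.mem_cons, List.not_mem_nil, or_false] at hmem
  have hlt := one_lt_card_sylow_of_card hc hm (by norm_num) (by norm_num)
  have hd := hmem
  · omega

theorem no_5370 {G : Type*} [Group G] [Finite G] [IsSimpleGroup G]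
    (hG : ¬ IsMulCommutative G) (h : Nat.card G = 5370) : False := by
  exact ev hG (by rw [h]; exact ⟨2685, by norm_num⟩) (by rw [h]; omega)

theorem no_5371 {G : Type*} [Group G] [Finite G] [IsSimpleGroup G]
    (hG : ¬ IsMulCommutative G) (h : Nat.card G = 5371) : False := by
  exact tp hG 41 131 1 1 (by norm_num) (by norm_num) (by rw [h]; norm_num)

theorem no_5372 {G : Type*} [Group G] [Finite G] [IsSimpleGroup G]
    (hG : ¬ IsMulCommutative G) (h : Nat.card G = 5372) : False := by
  exact ev hG (by rw [h]; exact ⟨2686, by norm_num⟩) (by rw [h]; omega)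

theorem no_5373 {G : Type*} [Group G] [Finite G] [IsSimpleGroup G]
    (hG : ¬ IsMulCommutative G) (h : Nat.card G = 5373) : False := by
  exact tp hG 3 199 3 1 (by norm_num) (by norm_num) (by rw [h]; norm_num)

theorem no_5374 {G : Type*} [Group G] [Finite G] [IsSimpleGroup G]
    (hG : ¬ IsMulCommutative G) (h : Nat.card G = 5374) : False := by
  exact tp hG 2 2687 1 1 (by norm_num) (by norm_num) (by rw [h]; norm_num)

theorem no_5375 {G : Type*} [Group G] [Finite G] [IsSimpleGroup G]
    (hG : ¬ IsMulCommutative G) (h : Nat.card G = 5375) : False := by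
  exact tp hG 5 43 3 1 (by norm_num) (by norm_num) (by rw [h]; norm_num)

theorem no_5377 {G : Type*} [Group G] [Finite G] [IsSimpleGroup G]
    (hG : ¬ IsMulCommutative G) (h : Nat.card G = 5377) : False := by
  exact tp hG 19 283 1 1 (by norm_num) (by norm_num) (by rw [h]; norm_num)

theorem no_5378 {G : Type*} [Group G] [Finite G] [IsSimpleGroup G]
    (hG : ¬ IsMulCommutative G) (h : Nat.card G = 5378) : False := by
  exact tp hG 2 2689 1 1 (by norm_num) (by norm_num) (by rw [h]; norm_num)

theorem no_5379 {G : Type*} [Group G] [Finite G] [IsSimpleGroup G]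
    (hG : ¬ IsMulCommutative G) (h : Nat.card G = 5379) : False := by
  have : Fact (Nat.Prime 163) := ⟨by norm_num⟩
  have hc : Nat.card G = 163 ^ 1 * 33 := by rw [h]; norm_num
  have hm : ¬ 163 ∣ 33 := by norm_num
  have hmem := card_sylow_mem_candidates hc hm
  have hcand : sylowCandidates 163 33 = [1] := by decide
  rw [hcand] at hmem
  simp only [List.mem_cons, List.not_mem_nil, or_false] at hmem
  have hlt := one_lt_card_sylow_of_card hc hm (by norm_num) (by norm_num)
  have hd := hmem
  · omega

theorem no_5380 {G : Type*} [Group G] [Finite G] [IsSimpleGroup G]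
    (hG : ¬ IsMulCommutative G) (h : Nat.card G = 5380) : False := by
  exact ev hG (by rw [h]; exact ⟨2690, by norm_num⟩) (by rw [h]; omega)

theorem no_5381 {G : Type*} [Group G] [Finite G] [IsSimpleGroup G]
    (hG : ¬ IsMulCommutative G) (h : Nat.card G = 5381) : False := by
  exact tp hG 5381 2 1 0 (by norm_num) (by norm_num) (by rw [h]; norm_num)

theorem no_5382 {G : Type*} [Group G] [Finite G] [IsSimpleGroup G]
    (hG : ¬ IsMulCommutative G) (h : Nat.card G = 5382) : False := by
  exact ev hG (by rw [h]; exact ⟨2691, by norm_num⟩) (by rw [h]; omega)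

theorem no_5383 {G : Type*} [Group G] [Finite G] [IsSimpleGroup G]
    (hG : ¬ IsMulCommutative G) (h : Nat.card G = 5383) : False := by
  exact tp hG 7 769 1 1 (by norm_num) (by norm_num) (by rw [h]; norm_num)

theorem no_5384 {G : Type*} [Group G] [Finite G] [IsSimpleGroup G]
    (hG : ¬ IsMulCommutative G) (h : Nat.card G = 5384) : False := by
  exact tp hG 2 673 3 1 (by norm_num) (by norm_num) (by rw [h]; norm_num)

theorem no_5385 {G : Type*} [Group G] [Finite G] [IsSimpleGroup G]
    (hG : ¬ IsMulCommutative G) (h : Nat.card G = 5385) : False := by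
  have : Fact (Nat.Prime 359) := ⟨by norm_num⟩
  have hc : Nat.card G = 359 ^ 1 * 15 := by rw [h]; norm_num
  have hm : ¬ 359 ∣ 15 := by norm_num
  have hmem := card_sylow_mem_candidates hc hm
  have hcand : sylowCandidates 359 15 = [1] := by decide
  rw [hcand] at hmem
  simp only [List.mem_cons, List.not_mem_nil, or_false] at hmem
  have hlt := one_lt_card_sylow_of_card hc hm (by norm_num) (by norm_num)
  have hd := hmem
  · omega

theorem no_5386 {G : Type*} [Group G] [Finite G] [IsSimpleGroup G]
    (hG : ¬ IsMulCommutative G) (h : Nat.card G = 5386) : False := by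
  exact tp hG 2 2693 1 1 (by norm_num) (by norm_num) (by rw [h]; norm_num)

theorem no_5387 {G : Type*} [Group G] [Finite G] [IsSimpleGroup G]
    (hG : ¬ IsMulCommutative G) (h : Nat.card G = 5387) : False := by
  exact tp hG 5387 2 1 0 (by norm_num) (by norm_num) (by rw [h]; norm_num)

theorem no_5388 {G : Type*} [Group G] [Finite G] [IsSimpleGroup G]
    (hG : ¬ IsMulCommutative G) (h : Nat.card G = 5388) : False := by
  have : Fact (Nat.Prime 449) := ⟨by norm_num⟩
  have hc : Nat.card G = 449 ^ 1 * 12 := by rw [h]; norm_num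
  have hm : ¬ 449 ∣ 12 := by norm_num
  have hmem := card_sylow_mem_candidates hc hm
  have hcand : sylowCandidates 449 12 = [1] := by decide
  rw [hcand] at hmem
  simp only [List.mem_cons, List.not_mem_nil, or_false] at hmem
  have hlt := one_lt_card_sylow_of_card hc hm (by norm_num) (by norm_num)
  have hd := hmem
  · omega

theorem no_5389 {G : Type*} [Group G] [Finite G] [IsSimpleGroup G]
    (hG : ¬ IsMulCommutative G) (h : Nat.card G = 5389) : False := by
  exact tp hG 17 317 1 1 (by norm_num) (by norm_num) (by rw [h]; norm_num)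

theorem no_5390 {G : Type*} [Group G] [Finite G] [IsSimpleGroup G]
    (hG : ¬ IsMulCommutative G) (h : Nat.card G = 5390) : False := by
  exact ev hG (by rw [h]; exact ⟨2695, by norm_num⟩) (by rw [h]; omega)

theorem no_5391 {G : Type*} [Group G] [Finite G] [IsSimpleGroup G]
    (hG : ¬ IsMulCommutative G) (h : Nat.card G = 5391) : False := by
  exact tp hG 3 599 2 1 (by norm_num) (by norm_num) (by rw [h]; norm_num)

theorem no_5392 {G : Type*} [Group G] [Finite G] [IsSimpleGroup G]
    (hG : ¬ IsMulCommutative G) (h : Nat.card G = 5392) : False := by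
  exact tp hG 2 337 4 1 (by norm_num) (by norm_num) (by rw [h]; norm_num)

theorem no_5393 {G : Type*} [Group G] [Finite G] [IsSimpleGroup G]
    (hG : ¬ IsMulCommutative G) (h : Nat.card G = 5393) : False := by
  exact tp hG 5393 2 1 0 (by norm_num) (by norm_num) (by rw [h]; norm_num)

theorem no_5394 {G : Type*} [Group G] [Finite G] [IsSimpleGroup G]
    (hG : ¬ IsMulCommutative G) (h : Nat.card G = 5394) : False := by
  exact ev hG (by rw [h]; exact ⟨2697, by norm_num⟩) (by rw [h]; omega)

theorem no_5395 {G : Type*} [Group G] [Finite G] [IsSimpleGroup G]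
    (hG : ¬ IsMulCommutative G) (h : Nat.card G = 5395) : False := by
  have : Fact (Nat.Prime 83) := ⟨by norm_num⟩
  have hc : Nat.card G = 83 ^ 1 * 65 := by rw [h]; norm_num
  have hm : ¬ 83 ∣ 65 := by norm_num
  have hmem := card_sylow_mem_candidates hc hm
  have hcand : sylowCandidates 83 65 = [1] := by decide
  rw [hcand] at hmem
  simp only [List.mem_cons, List.not_mem_nil, or_false] at hmem
  have hlt := one_lt_card_sylow_of_card hc hm (by norm_num) (by norm_num)
  have hd := hmem
  · omega

theorem no_5396 {G : Type*} [Group G] [Finite G] [IsSimpleGroup G]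
    (hG : ¬ IsMulCommutative G) (h : Nat.card G = 5396) : False := by
  exact ev hG (by rw [h]; exact ⟨2698, by norm_num⟩) (by rw [h]; omega)

theorem no_5397 {G : Type*} [Group G] [Finite G] [IsSimpleGroup G]
    (hG : ¬ IsMulCommutative G) (h : Nat.card G = 5397) : False := by
  have : Fact (Nat.Prime 257) := ⟨by norm_num⟩
  have hc : Nat.card G = 257 ^ 1 * 21 := by rw [h]; norm_num
  have hm : ¬ 257 ∣ 21 := by norm_num
  have hmem := card_sylow_mem_candidates hc hm
  have hcand : sylowCandidates 257 21 = [1] := by decide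
  rw [hcand] at hmem
  simp only [List.mem_cons, List.not_mem_nil, or_false] at hmem
  have hlt := one_lt_card_sylow_of_card hc hm (by norm_num) (by norm_num)
  have hd := hmem
  · omega

theorem no_5398 {G : Type*} [Group G] [Finite G] [IsSimpleGroup G]
    (hG : ¬ IsMulCommutative G) (h : Nat.card G = 5398) : False := by
  exact tp hG 2 2699 1 1 (by norm_num) (by norm_num) (by rw [h]; norm_num)

theorem no_5399 {G : Type*} [Group G] [Finite G] [IsSimpleGroup G]
    (hG : ¬ IsMulCommutative G) (h : Nat.card G = 5399) : False := by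
  exact tp hG 5399 2 1 0 (by norm_num) (by norm_num) (by rw [h]; norm_num)

/-- the orders in [5301, 5400] not excluded by the engine -/
theorem chunk {G : Type*} [Group G] [Finite G] [IsSimpleGroup G]
    (hG : ¬ IsMulCommutative G) (n : ℕ) (hn : Nat.card G = n) (h1 : 5301 ≤ n) (h2 : n ≤ 5400) :
    n = 5376 ∨ n = 5400 := by
  interval_cases n
  · exact (no_5301 hG hn).elim
  · exact (no_5302 hG hn).elim
  · exact (no_5303 hG hn).elim
  · exact (no_5304 hG hn).elim
  · exact (no_5305 hG hn).elim
  · exact (no_5306 hG hn).elim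
  · exact (no_5307 hG hn).elim
  · exact (no_5308 hG hn).elim
  · exact (no_5309 hG hn).elim
  · exact (no_5310 hG hn).elim
  · exact (no_5311 hG hn).elim
  · exact (no_5312 hG hn).elim
  · exact (no_5313 hG hn).elim
  · exact (no_5314 hG hn).elim
  · exact (no_5315 hG hn).elim
  · exact (no_5316 hG hn).elim
  · exact (no_5317 hG hn).elim
  · exact (no_5318 hG hn).elim
  · exact (no_5319 hG hn).elim
  · exact (no_5320 hG hn).elim
  · exact (no_5321 hG hn).elim
  · exact (no_5322 hG hn).elim
  · exact (no_5323 hG hn).elim
  · exact (no_5324 hG hn).elim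
  · exact (no_5325 hG hn).elim
  · exact (no_5326 hG hn).elim
  · exact (no_5327 hG hn).elim
  · exact (no_5328 hG hn).elim
  · exact (no_5329 hG hn).elim
  · exact (no_5330 hG hn).elim
  · exact (no_5331 hG hn).elim
  · exact (no_5332 hG hn).elim
  · exact (no_5333 hG hn).elim
  · exact (no_5334 hG hn).elim
  · exact (no_5335 hG hn).elim
  · exact (no_5336 hG hn).elim
  · exact (no_5337 hG hn).elim
  · exact (no_5338 hG hn).elim
  · exact (no_5339 hG hn).elim
  · exact (no_5340 hG hn).elim
  · exact (no_5341 hG hn).elim
  · exact (no_5342 hG hn).elim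
  · exact (no_5343 hG hn).elim
  · exact (no_5344 hG hn).elim
  · exact (no_5345 hG hn).elim
  · exact (no_5346 hG hn).elim
  · exact (no_5347 hG hn).elim
  · exact (no_5348 hG hn).elim
  · exact (no_5349 hG hn).elim
  · exact (no_5350 hG hn).elim
  · exact (no_5351 hG hn).elim
  · exact (no_5352 hG hn).elim
  · exact (no_5353 hG hn).elim
  · exact (no_5354 hG hn).elim
  · exact (no_5355 hG hn).elim
  · exact (no_5356 hG hn).elim
  · exact (no_5357 hG hn).elim
  · exact (no_5358 hG hn).elim
  · exact (no_5359 hG hn).elim
  · exact (no_5360 hG hn).elim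
  · exact (no_5361 hG hn).elim
  · exact (no_5362 hG hn).elim
  · exact (no_5363 hG hn).elim
  · exact (no_5364 hG hn).elim
  · exact (no_5365 hG hn).elim
  · exact (no_5366 hG hn).elim
  · exact (no_5367 hG hn).elim
  · exact (no_5368 hG hn).elim
  · exact (no_5369 hG hn).elim
  · exact (no_5370 hG hn).elim
  · exact (no_5371 hG hn).elim
  · exact (no_5372 hG hn).elim
  · exact (no_5373 hG hn).elim
  · exact (no_5374 hG hn).elim
  · exact (no_5375 hG hn).elim
  · simp
  · exact (no_5377 hG hn).elim
  · exact (no_5378 hG hn).elim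
  · exact (no_5379 hG hn).elim
  · exact (no_5380 hG hn).elim
  · exact (no_5381 hG hn).elim
  · exact (no_5382 hG hn).elim
  · exact (no_5383 hG hn).elim
  · exact (no_5384 hG hn).elim
  · exact (no_5385 hG hn).elim
  · exact (no_5386 hG hn).elim
  · exact (no_5387 hG hn).elim
  · exact (no_5388 hG hn).elim
  · exact (no_5389 hG hn).elim
  · exact (no_5390 hG hn).elim
  · exact (no_5391 hG hn).elim
  · exact (no_5392 hG hn).elim
  · exact (no_5393 hG hn).elim
  · exact (no_5394 hG hn).elim
  · exact (no_5395 hG hn).elim
  · exact (no_5396 hG hn).elim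
  · exact (no_5397 hG hn).elim
  · exact (no_5398 hG hn).elim
  · exact (no_5399 hG hn).elim
  · simp

end Cfsg.Agent.Lib.Helper16_SO_E17
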