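import Mathlib
import Cfsg.Agent.Lib.Helper75_SM_Base

/-!
# S0983 engine, generated file: no simple group of order N for the easy N in [5401, 5500]
(helper16; same scheme as helper75's `Helper75_SM_E*`)
-/

set_option autoImplicit false
set_option linter.unusedVariables false

namespace Cfsg.Agent.Lib.Helper16_SO_E18

open Cfsg.Agent.Lib.Helper17_Sylow Cfsg.Agent.Lib.Helper75_SM_Base

theorem no_5401 {G : Type*} [Group G] [Finite G] [IsSimpleGroup G]
    (hG : ¬ IsMulCommutative G) (h : Nat.card G = 5401) : False := by
  exact tp hG 11 491 1 1 (by norm_num) (by norm_num) (by rw [h]; norm_num)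

theorem no_5402 {G : Type*} [Group G] [Finite G] [IsSimpleGroup G]
    (hG : ¬ IsMulCommutative G) (h : Nat.card G = 5402) : False := by
  exact ev hG (by rw [h]; exact ⟨2701, by norm_num⟩) (by rw [h]; omega)

theorem no_5403 {G : Type*} [Group G] [Finite G] [IsSimpleGroup G]
    (hG : ¬ IsMulCommutative G) (h : Nat.card G = 5403) : False := by
  exact tp hG 3 1801 1 1 (by norm_num) (by norm_num) (by rw [h]; norm_num)

theorem no_5404 {G : Type*} [Group G] [Finite G] [IsSimpleGroup G]
    (hG : ¬ IsMulCommutative G) (h : Nat.card G = 5404) : False := by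
  exact ev hG (by rw [h]; exact ⟨2702, by norm_num⟩) (by rw [h]; omega)

theorem no_5405 {G : Type*} [Group G] [Finite G] [IsSimpleGroup G]
    (hG : ¬ IsMulCommutative G) (h : Nat.card G = 5405) : False := by
  have : Fact (Nat.Prime 47) := ⟨by norm_num⟩
  have hc : Nat.card G = 47 ^ 1 * 115 := by rw [h]; norm_num
  have hm : ¬ 47 ∣ 115 := by norm_num
  have hmem := card_sylow_mem_candidates hc hm
  have hcand : sylowCandidates 47 115 = [1] := by decide
  rw [hcand] at hmem
  simp only [List.mem_cons, List.not_mem_nil, or_false] at hmem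
  have hlt := one_lt_card_sylow_of_card hc hm (by norm_num) (by norm_num)
  have hd := hmem
  · omega

theorem no_5406 {G : Type*} [Group G] [Finite G] [IsSimpleGroup G]
    (hG : ¬ IsMulCommutative G) (h : Nat.card G = 5406) : False := by
  exact ev hG (by rw [h]; exact ⟨2703, by norm_num⟩) (by rw [h]; omega)

theorem no_5407 {G : Type*} [Group G] [Finite G] [IsSimpleGroup G]
    (hG : ¬ IsMulCommutative G) (h : Nat.card G = 5407) : False := by
  exact tp hG 5407 2 1 0 (by norm_num) (by norm_num) (by rw [h]; norm_num)

theorem no_5408 {G : Type*} [Group G] [Finite G] [IsSimpleGroup G]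
    (hG : ¬ IsMulCommutative G) (h : Nat.card G = 5408) : False := by
  exact tp hG 2 13 5 2 (by norm_num) (by norm_num) (by rw [h]; norm_num)

theorem no_5409 {G : Type*} [Group G] [Finite G] [IsSimpleGroup G]
    (hG : ¬ IsMulCommutative G) (h : Nat.card G = 5409) : False := by
  exact tp hG 3 601 2 1 (by norm_num) (by norm_num) (by rw [h]; norm_num)

theorem no_5410 {G : Type*} [Group G] [Finite G] [IsSimpleGroup G]
    (hG : ¬ IsMulCommutative G) (h : Nat.card G = 5410) : False := by
  exact ev hG (by rw [h]; exact ⟨2705, by norm_num⟩) (by rw [h]; omega)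

theorem no_5411 {G : Type*} [Group G] [Finite G] [IsSimpleGroup G]
    (hG : ¬ IsMulCommutative G) (h : Nat.card G = 5411) : False := by
  exact tp hG 7 773 1 1 (by norm_num) (by norm_num) (by rw [h]; norm_num)

theorem no_5412 {G : Type*} [Group G] [Finite G] [IsSimpleGroup G]
    (hG : ¬ IsMulCommutative G) (h : Nat.card G = 5412) : False := by
  have : Fact (Nat.Prime 41) := ⟨by norm_num⟩
  have hc : Nat.card G = 41 ^ 1 * 132 := by rw [h]; norm_num
  have hm : ¬ 41 ∣ 132 := by norm_num
  have hmem := card_sylow_mem_candidates hc hm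
  have hcand : sylowCandidates 41 132 = [1] := by decide
  rw [hcand] at hmem
  simp only [List.mem_cons, List.not_mem_nil, or_false] at hmem
  have hlt := one_lt_card_sylow_of_card hc hm (by norm_num) (by norm_num)
  have hd := hmem
  · omega

theorem no_5413 {G : Type*} [Group G] [Finite G] [IsSimpleGroup G]
    (hG : ¬ IsMulCommutative G) (h : Nat.card G = 5413) : False := by
  exact tp hG 5413 2 1 0 (by norm_num) (by norm_num) (by rw [h]; norm_num)

theorem no_5414 {G : Type*} [Group G] [Finite G] [IsSimpleGroup G]
    (hG : ¬ IsMulCommutative G) (h : Nat.card G = 5414) : False := by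
  exact tp hG 2 2707 1 1 (by norm_num) (by norm_num) (by rw [h]; norm_num)

theorem no_5415 {G : Type*} [Group G] [Finite G] [IsSimpleGroup G]
    (hG : ¬ IsMulCommutative G) (h : Nat.card G = 5415) : False := by
  have : Fact (Nat.Prime 19) := ⟨by norm_num⟩
  have hc : Nat.card G = 19 ^ 2 * 15 := by rw [h]; norm_num
  have hm : ¬ 19 ∣ 15 := by norm_num
  have hmem := card_sylow_mem_candidates hc hm
  have hcand : sylowCandidates 19 15 = [1] := by decide
  rw [hcand] at hmem
  simp only [List.mem_cons, List.not_mem_nil, or_false] at hmem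
  have hlt := one_lt_card_sylow_of_card hc hm (by norm_num) (by norm_num)
  have hd := hmem
  · omega

theorem no_5416 {G : Type*} [Group G] [Finite G] [IsSimpleGroup G]
    (hG : ¬ IsMulCommutative G) (h : Nat.card G = 5416) : False := by
  exact tp hG 2 677 3 1 (by norm_num) (by norm_num) (by rw [h]; norm_num)

theorem no_5417 {G : Type*} [Group G] [Finite G] [IsSimpleGroup G]
    (hG : ¬ IsMulCommutative G) (h : Nat.card G = 5417) : False := by
  exact tp hG 5417 2 1 0 (by norm_num) (by norm_num) (by rw [h]; norm_num)

theorem no_5418 {G : Type*} [Group G] [Finite G] [IsSimpleGroup G]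
    (hG : ¬ IsMulCommutative G) (h : Nat.card G = 5418) : False := by
  exact ev hG (by rw [h]; exact ⟨2709, by norm_num⟩) (by rw [h]; omega)

theorem no_5419 {G : Type*} [Group G] [Finite G] [IsSimpleGroup G]
    (hG : ¬ IsMulCommutative G) (h : Nat.card G = 5419) : False := by
  exact tp hG 5419 2 1 0 (by norm_num) (by norm_num) (by rw [h]; norm_num)

theorem no_5420 {G : Type*} [Group G] [Finite G] [IsSimpleGroup G]
    (hG : ¬ IsMulCommutative G) (h : Nat.card G = 5420) : False := by
  exact ev hG (by rw [h]; exact ⟨2710, by norm_num⟩) (by rw [h]; omega)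

theorem no_5421 {G : Type*} [Group G] [Finite G] [IsSimpleGroup G]
    (hG : ¬ IsMulCommutative G) (h : Nat.card G = 5421) : False := by
  have : Fact (Nat.Prime 139) := ⟨by norm_num⟩
  have hc : Nat.card G = 139 ^ 1 * 39 := by rw [h]; norm_num
  have hm : ¬ 139 ∣ 39 := by norm_num
  have hmem := card_sylow_mem_candidates hc hm
  have hcand : sylowCandidates 139 39 = [1] := by decide
  rw [hcand] at hmem
  simp only [List.mem_cons, List.not_mem_nil, or_false] at hmem
  have hlt := one_lt_card_sylow_of_card hc hm (by norm_num) (by norm_num)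
  have hd := hmem
  · omega

theorem no_5422 {G : Type*} [Group G] [Finite G] [IsSimpleGroup G]
    (hG : ¬ IsMulCommutative G) (h : Nat.card G = 5422) : False := by
  exact tp hG 2 2711 1 1 (by norm_num) (by norm_num) (by rw [h]; norm_num)

theorem no_5423 {G : Type*} [Group G] [Finite G] [IsSimpleGroup G]
    (hG : ¬ IsMulCommutative G) (h : Nat.card G = 5423) : False := by
  have : Fact (Nat.Prime 29) := ⟨by norm_num⟩
  have hc : Nat.card G = 29 ^ 1 * 187 := by rw [h]; norm_num
  have hm : ¬ 29 ∣ 187 := by norm_num
  have hmem := card_sylow_mem_candidates hc hm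
  have hcand : sylowCandidates 29 187 = [1] := by decide
  rw [hcand] at hmem
  simp only [List.mem_cons, List.not_mem_nil, or_false] at hmem
  have hlt := one_lt_card_sylow_of_card hc hm (by norm_num) (by norm_num)
  have hd := hmem
  · omega

theorem no_5424 {G : Type*} [Group G] [Finite G] [IsSimpleGroup G]
    (hG : ¬ IsMulCommutative G) (h : Nat.card G = 5424) : False := by
  have : Fact (Nat.Prime 113) := ⟨by norm_num⟩
  have hc : Nat.card G = 113 ^ 1 * 48 := by rw [h]; norm_num
  have hm : ¬ 113 ∣ 48 := by norm_num
  have hmem := card_sylow_mem_candidates hc hm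
  have hcand : sylowCandidates 113 48 = [1] := by decide
  rw [hcand] at hmem
  simp only [List.mem_cons, List.not_mem_nil, or_false] at hmem
  have hlt := one_lt_card_sylow_of_card hc hm (by norm_num) (by norm_num)
  have hd := hmem
  · omega

theorem no_5425 {G : Type*} [Group G] [Finite G] [IsSimpleGroup G]
    (hG : ¬ IsMulCommutative G) (h : Nat.card G = 5425) : False := by
  have : Fact (Nat.Prime 31) := ⟨by norm_num⟩
  have hc : Nat.card G = 31 ^ 1 * 175 := by rw [h]; norm_num
  have hm : ¬ 31 ∣ 175 := by norm_num
  have hmem := card_sylow_mem_candidates hc hm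
  have hcand : sylowCandidates 31 175 = [1] := by decide
  rw [hcand] at hmem
  simp only [List.mem_cons, List.not_mem_nil, or_false] at hmem
  have hlt := one_lt_card_sylow_of_card hc hm (by norm_num) (by norm_num)
  have hd := hmem
  · omega

theorem no_5426 {G : Type*} [Group G] [Finite G] [IsSimpleGroup G]
    (hG : ¬ IsMulCommutative G) (h : Nat.card G = 5426) : False := by
  exact tp hG 2 2713 1 1 (by norm_num) (by norm_num) (by rw [h]; norm_num)

theorem no_5427 {G : Type*} [Group G] [Finite G] [IsSimpleGroup G]
    (hG : ¬ IsMulCommutative G) (h : Nat.card G = 5427) : False := by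
  exact tp hG 3 67 4 1 (by norm_num) (by norm_num) (by rw [h]; norm_num)

theorem no_5428 {G : Type*} [Group G] [Finite G] [IsSimpleGroup G]
    (hG : ¬ IsMulCommutative G) (h : Nat.card G = 5428) : False := by
  exact ev hG (by rw [h]; exact ⟨2714, by norm_num⟩) (by rw [h]; omega)

theorem no_5429 {G : Type*} [Group G] [Finite G] [IsSimpleGroup G]
    (hG : ¬ IsMulCommutative G) (h : Nat.card G = 5429) : False := by
  exact tp hG 61 89 1 1 (by norm_num) (by norm_num) (by rw [h]; norm_num)

theorem no_5430 {G : Type*} [Group G] [Finite G] [IsSimpleGroup G]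
    (hG : ¬ IsMulCommutative G) (h : Nat.card G = 5430) : False := by
  exact ev hG (by rw [h]; exact ⟨2715, by norm_num⟩) (by rw [h]; omega)

theorem no_5431 {G : Type*} [Group G] [Finite G] [IsSimpleGroup G]
    (hG : ¬ IsMulCommutative G) (h : Nat.card G = 5431) : False := by
  exact tp hG 5431 2 1 0 (by norm_num) (by norm_num) (by rw [h]; norm_num)

theorem no_5432 {G : Type*} [Group G] [Finite G] [IsSimpleGroup G]
    (hG : ¬ IsMulCommutative G) (h : Nat.card G = 5432) : False := by
  have : Fact (Nat.Prime 97) := ⟨by norm_num⟩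
  have hc : Nat.card G = 97 ^ 1 * 56 := by rw [h]; norm_num
  have hm : ¬ 97 ∣ 56 := by norm_num
  have hmem := card_sylow_mem_candidates hc hm
  have hcand : sylowCandidates 97 56 = [1] := by decide
  rw [hcand] at hmem
  simp only [List.mem_cons, List.not_mem_nil, or_false] at hmem
  have hlt := one_lt_card_sylow_of_card hc hm (by norm_num) (by norm_num)
  have hd := hmem
  · omega

theorem no_5433 {G : Type*} [Group G] [Finite G] [IsSimpleGroup G]
    (hG : ¬ IsMulCommutative G) (h : Nat.card G = 5433) : False := by
  exact tp hG 3 1811 1 1 (by norm_num) (by norm_num) (by rw [h]; norm_num)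

theorem no_5434 {G : Type*} [Group G] [Finite G] [IsSimpleGroup G]
    (hG : ¬ IsMulCommutative G) (h : Nat.card G = 5434) : False := by
  exact ev hG (by rw [h]; exact ⟨2717, by norm_num⟩) (by rw [h]; omega)

theorem no_5435 {G : Type*} [Group G] [Finite G] [IsSimpleGroup G]
    (hG : ¬ IsMulCommutative G) (h : Nat.card G = 5435) : False := by
  exact tp hG 5 1087 1 1 (by norm_num) (by norm_num) (by rw [h]; norm_num)

theorem no_5436 {G : Type*} [Group G] [Finite G] [IsSimpleGroup G]
    (hG : ¬ IsMulCommutative G) (h : Nat.card G = 5436) : False := by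
  have : Fact (Nat.Prime 151) := ⟨by norm_num⟩
  have hc : Nat.card G = 151 ^ 1 * 36 := by rw [h]; norm_num
  have hm : ¬ 151 ∣ 36 := by norm_num
  have hmem := card_sylow_mem_candidates hc hm
  have hcand : sylowCandidates 151 36 = [1] := by decide
  rw [hcand] at hmem
  simp only [List.mem_cons, List.not_mem_nil, or_false] at hmem
  have hlt := one_lt_card_sylow_of_card hc hm (by norm_num) (by norm_num)
  have hd := hmem
  · omega

theorem no_5437 {G : Type*} [Group G] [Finite G] [IsSimpleGroup G]
    (hG : ¬ IsMulCommutative G) (h : Nat.card G = 5437) : False := by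
  exact tp hG 5437 2 1 0 (by norm_num) (by norm_num) (by rw [h]; norm_num)

theorem no_5438 {G : Type*} [Group G] [Finite G] [IsSimpleGroup G]
    (hG : ¬ IsMulCommutative G) (h : Nat.card G = 5438) : False := by
  exact tp hG 2 2719 1 1 (by norm_num) (by norm_num) (by rw [h]; norm_num)

theorem no_5439 {G : Type*} [Group G] [Finite G] [IsSimpleGroup G]
    (hG : ¬ IsMulCommutative G) (h : Nat.card G = 5439) : False := by
  have : Fact (Nat.Prime 37) := ⟨by norm_num⟩
  have hc : Nat.card G = 37 ^ 1 * 147 := by rw [h]; norm_num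
  have hm : ¬ 37 ∣ 147 := by norm_num
  have hmem := card_sylow_mem_candidates hc hm
  have hcand : sylowCandidates 37 147 = [1] := by decide
  rw [hcand] at hmem
  simp only [List.mem_cons, List.not_mem_nil, or_false] at hmem
  have hlt := one_lt_card_sylow_of_card hc hm (by norm_num) (by norm_num)
  have hd := hmem
  · omega

theorem no_5440 {G : Type*} [Group G] [Finite G] [IsSimpleGroup G]
    (hG : ¬ IsMulCommutative G) (h : Nat.card G = 5440) : False := by
  have : Fact (Nat.Prime 17) := ⟨by norm_num⟩
  have hc : Nat.card G = 17 ^ 1 * 320 := by rw [h]; norm_num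
  have hm : ¬ 17 ∣ 320 := by norm_num
  have hmem := card_sylow_mem_candidates hc hm
  have hcand : sylowCandidates 17 320 = [1] := by decide
  rw [hcand] at hmem
  simp only [List.mem_cons, List.not_mem_nil, or_false] at hmem
  have hlt := one_lt_card_sylow_of_card hc hm (by norm_num) (by norm_num)
  have hd := hmem
  · omega

theorem no_5441 {G : Type*} [Group G] [Finite G] [IsSimpleGroup G]
    (hG : ¬ IsMulCommutative G) (h : Nat.card G = 5441) : False := by
  exact tp hG 5441 2 1 0 (by norm_num) (by norm_num) (by rw [h]; norm_num)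

theorem no_5442 {G : Type*} [Group G] [Finite G] [IsSimpleGroup G]
    (hG : ¬ IsMulCommutative G) (h : Nat.card G = 5442) : False := by
  exact ev hG (by rw [h]; exact ⟨2721, by norm_num⟩) (by rw [h]; omega)

theorem no_5443 {G : Type*} [Group G] [Finite G] [IsSimpleGroup G]
    (hG : ¬ IsMulCommutative G) (h : Nat.card G = 5443) : False := by
  exact tp hG 5443 2 1 0 (by norm_num) (by norm_num) (by rw [h]; norm_num)

theorem no_5444 {G : Type*} [Group G] [Finite G] [IsSimpleGroup G]
    (hG : ¬ IsMulCommutative G) (h : Nat.card G = 5444) : False := by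
  exact tp hG 2 1361 2 1 (by norm_num) (by norm_num) (by rw [h]; norm_num)

theorem no_5445 {G : Type*} [Group G] [Finite G] [IsSimpleGroup G]
    (hG : ¬ IsMulCommutative G) (h : Nat.card G = 5445) : False := by
  have : Fact (Nat.Prime 11) := ⟨by norm_num⟩
  have hc : Nat.card G = 11 ^ 2 * 45 := by rw [h]; norm_num
  have hm : ¬ 11 ∣ 45 := by norm_num
  have hmem := card_sylow_mem_candidates hc hm
  have hcand : sylowCandidates 11 45 = [1, 45] := by decide
  rw [hcand] at hmem
  simp only [List.mem_cons, List.not_mem_nil, or_false] at hmem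
  have hlt := one_lt_card_sylow_of_card hc hm (by norm_num) (by norm_num)
  rcases hmem with hd | hd
  · omega
  · exact burn2_kill hc hm (by norm_num) hd

theorem no_5446 {G : Type*} [Group G] [Finite G] [IsSimpleGroup G]
    (hG : ¬ IsMulCommutative G) (h : Nat.card G = 5446) : False := by
  exact ev hG (by rw [h]; exact ⟨2723, by norm_num⟩) (by rw [h]; omega)

theorem no_5447 {G : Type*} [Group G] [Finite G] [IsSimpleGroup G]
    (hG : ¬ IsMulCommutative G) (h : Nat.card G = 5447) : False := by
  exact tp hG 13 419 1 1 (by norm_num) (by norm_num) (by rw [h]; norm_num)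

theorem no_5448 {G : Type*} [Group G] [Finite G] [IsSimpleGroup G]
    (hG : ¬ IsMulCommutative G) (h : Nat.card G = 5448) : False := by
  have : Fact (Nat.Prime 227) := ⟨by norm_num⟩
  have hc : Nat.card G = 227 ^ 1 * 24 := by rw [h]; norm_num
  have hm : ¬ 227 ∣ 24 := by norm_num
  have hmem := card_sylow_mem_candidates hc hm
  have hcand : sylowCandidates 227 24 = [1] := by decide
  rw [hcand] at hmem
  simp only [List.mem_cons, List.not_mem_nil, or_false] at hmem
  have hlt := one_lt_card_sylow_of_card hc hm (by norm_num) (by norm_num)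
  have hd := hmem
  · omega

theorem no_5449 {G : Type*} [Group G] [Finite G] [IsSimpleGroup G]
    (hG : ¬ IsMulCommutative G) (h : Nat.card G = 5449) : False := by
  exact tp hG 5449 2 1 0 (by norm_num) (by norm_num) (by rw [h]; norm_num)

theorem no_5450 {G : Type*} [Group G] [Finite G] [IsSimpleGroup G]
    (hG : ¬ IsMulCommutative G) (h : Nat.card G = 5450) : False := by
  exact ev hG (by rw [h]; exact ⟨2725, by norm_num⟩) (by rw [h]; omega)

theorem no_5451 {G : Type*} [Group G] [Finite G] [IsSimpleGroup G]
    (hG : ¬ IsMulCommutative G) (h : Nat.card G = 5451) : False := by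
  have : Fact (Nat.Prime 79) := ⟨by norm_num⟩
  have hc : Nat.card G = 79 ^ 1 * 69 := by rw [h]; norm_num
  have hm : ¬ 79 ∣ 69 := by norm_num
  have hmem := card_sylow_mem_candidates hc hm
  have hcand : sylowCandidates 79 69 = [1] := by decide
  rw [hcand] at hmem
  simp only [List.mem_cons, List.not_mem_nil, or_false] at hmem
  have hlt := one_lt_card_sylow_of_card hc hm (by norm_num) (by norm_num)
  have hd := hmem
  · omega

theorem no_5452 {G : Type*} [Group G] [Finite G] [IsSimpleGroup G]
    (hG : ¬ IsMulCommutative G) (h : Nat.card G = 5452) : False := by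
  exact ev hG (by rw [h]; exact ⟨2726, by norm_num⟩) (by rw [h]; omega)

theorem no_5453 {G : Type*} [Group G] [Finite G] [IsSimpleGroup G]
    (hG : ¬ IsMulCommutative G) (h : Nat.card G = 5453) : False := by
  have : Fact (Nat.Prime 41) := ⟨by norm_num⟩
  have hc : Nat.card G = 41 ^ 1 * 133 := by rw [h]; norm_num
  have hm : ¬ 41 ∣ 133 := by norm_num
  have hmem := card_sylow_mem_candidates hc hm
  have hcand : sylowCandidates 41 133 = [1] := by decide
  rw [hcand] at hmem
  simp only [List.mem_cons, List.not_mem_nil, or_false] at hmem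
  have hlt := one_lt_card_sylow_of_card hc hm (by norm_num) (by norm_num)
  have hd := hmem
  · omega

theorem no_5454 {G : Type*} [Group G] [Finite G] [IsSimpleGroup G]
    (hG : ¬ IsMulCommutative G) (h : Nat.card G = 5454) : False := by
  exact ev hG (by rw [h]; exact ⟨2727, by norm_num⟩) (by rw [h]; omega)

theorem no_5455 {G : Type*} [Group G] [Finite G] [IsSimpleGroup G]
    (hG : ¬ IsMulCommutative G) (h : Nat.card G = 5455) : False := by
  exact tp hG 5 1091 1 1 (by norm_num) (by norm_num) (by rw [h]; norm_num)

theorem no_5456 {G : Type*} [Group G] [Finite G] [IsSimpleGroup G]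
    (hG : ¬ IsMulCommutative G) (h : Nat.card G = 5456) : False := by
  have : Fact (Nat.Prime 31) := ⟨by norm_num⟩
  have hc : Nat.card G = 31 ^ 1 * 176 := by rw [h]; norm_num
  have hm : ¬ 31 ∣ 176 := by norm_num
  have hmem := card_sylow_mem_candidates hc hm
  have hcand : sylowCandidates 31 176 = [1] := by decide
  rw [hcand] at hmem
  simp only [List.mem_cons, List.not_mem_nil, or_false] at hmem
  have hlt := one_lt_card_sylow_of_card hc hm (by norm_num) (by norm_num)
  have hd := hmem
  · omega

theorem no_5457 {G : Type*} [Group G] [Finite G] [IsSimpleGroup G]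
    (hG : ¬ IsMulCommutative G) (h : Nat.card G = 5457) : False := by
  have : Fact (Nat.Prime 107) := ⟨by norm_num⟩
  have hc : Nat.card G = 107 ^ 1 * 51 := by rw [h]; norm_num
  have hm : ¬ 107 ∣ 51 := by norm_num
  have hmem := card_sylow_mem_candidates hc hm
  have hcand : sylowCandidates 107 51 = [1] := by decide
  rw [hcand] at hmem
  simp only [List.mem_cons, List.not_mem_nil, or_false] at hmem
  have hlt := one_lt_card_sylow_of_card hc hm (by norm_num) (by norm_num)
  have hd := hmem
  · omega

theorem no_5458 {G : Type*} [Group G] [Finite G] [IsSimpleGroup G]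
    (hG : ¬ IsMulCommutative G) (h : Nat.card G = 5458) : False := by
  exact tp hG 2 2729 1 1 (by norm_num) (by norm_num) (by rw [h]; norm_num)

theorem no_5459 {G : Type*} [Group G] [Finite G] [IsSimpleGroup G]
    (hG : ¬ IsMulCommutative G) (h : Nat.card G = 5459) : False := by
  exact tp hG 53 103 1 1 (by norm_num) (by norm_num) (by rw [h]; norm_num)

theorem no_5461 {G : Type*} [Group G] [Finite G] [IsSimpleGroup G]
    (hG : ¬ IsMulCommutative G) (h : Nat.card G = 5461) : False := by
  exact tp hG 43 127 1 1 (by norm_num) (by norm_num) (by rw [h]; norm_num)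

theorem no_5462 {G : Type*} [Group G] [Finite G] [IsSimpleGroup G]
    (hG : ¬ IsMulCommutative G) (h : Nat.card G = 5462) : False := by
  exact tp hG 2 2731 1 1 (by norm_num) (by norm_num) (by rw [h]; norm_num)

theorem no_5463 {G : Type*} [Group G] [Finite G] [IsSimpleGroup G]
    (hG : ¬ IsMulCommutative G) (h : Nat.card G = 5463) : False := by
  exact tp hG 3 607 2 1 (by norm_num) (by norm_num) (by rw [h]; norm_num)

theorem no_5464 {G : Type*} [Group G] [Finite G] [IsSimpleGroup G]
    (hG : ¬ IsMulCommutative G) (h : Nat.card G = 5464) : False := by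
  exact tp hG 2 683 3 1 (by norm_num) (by norm_num) (by rw [h]; norm_num)

theorem no_5465 {G : Type*} [Group G] [Finite G] [IsSimpleGroup G]
    (hG : ¬ IsMulCommutative G) (h : Nat.card G = 5465) : False := by
  exact tp hG 5 1093 1 1 (by norm_num) (by norm_num) (by rw [h]; norm_num)

theorem no_5466 {G : Type*} [Group G] [Finite G] [IsSimpleGroup G]
    (hG : ¬ IsMulCommutative G) (h : Nat.card G = 5466) : False := by
  exact ev hG (by rw [h]; exact ⟨2733, by norm_num⟩) (by rw [h]; omega)

theorem no_5467 {G : Type*} [Group G] [Finite G] [IsSimpleGroup G]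
    (hG : ¬ IsMulCommutative G) (h : Nat.card G = 5467) : False := by
  have : Fact (Nat.Prime 71) := ⟨by norm_num⟩
  have hc : Nat.card G = 71 ^ 1 * 77 := by rw [h]; norm_num
  have hm : ¬ 71 ∣ 77 := by norm_num
  have hmem := card_sylow_mem_candidates hc hm
  have hcand : sylowCandidates 71 77 = [1] := by decide
  rw [hcand] at hmem
  simp only [List.mem_cons, List.not_mem_nil, or_false] at hmem
  have hlt := one_lt_card_sylow_of_card hc hm (by norm_num) (by norm_num)
  have hd := hmem
  · omega

theorem no_5468 {G : Type*} [Group G] [Finite G] [IsSimpleGroup G]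
    (hG : ¬ IsMulCommutative G) (h : Nat.card G = 5468) : False := by
  exact tp hG 2 1367 2 1 (by norm_num) (by norm_num) (by rw [h]; norm_num)

theorem no_5469 {G : Type*} [Group G] [Finite G] [IsSimpleGroup G]
    (hG : ¬ IsMulCommutative G) (h : Nat.card G = 5469) : False := by
  exact tp hG 3 1823 1 1 (by norm_num) (by norm_num) (by rw [h]; norm_num)

theorem no_5470 {G : Type*} [Group G] [Finite G] [IsSimpleGroup G]
    (hG : ¬ IsMulCommutative G) (h : Nat.card G = 5470) : False := by
  exact ev hG (by rw [h]; exact ⟨2735, by norm_num⟩) (by rw [h]; omega)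

theorem no_5471 {G : Type*} [Group G] [Finite G] [IsSimpleGroup G]
    (hG : ¬ IsMulCommutative G) (h : Nat.card G = 5471) : False := by
  exact tp hG 5471 2 1 0 (by norm_num) (by norm_num) (by rw [h]; norm_num)

theorem no_5473 {G : Type*} [Group G] [Finite G] [IsSimpleGroup G]
    (hG : ¬ IsMulCommutative G) (h : Nat.card G = 5473) : False := by
  exact tp hG 13 421 1 1 (by norm_num) (by norm_num) (by rw [h]; norm_num)

theorem no_5474 {G : Type*} [Group G] [Finite G] [IsSimpleGroup G]
    (hG : ¬ IsMulCommutative G) (h : Nat.card G = 5474) : False := by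
  exact ev hG (by rw [h]; exact ⟨2737, by norm_num⟩) (by rw [h]; omega)

theorem no_5475 {G : Type*} [Group G] [Finite G] [IsSimpleGroup G]
    (hG : ¬ IsMulCommutative G) (h : Nat.card G = 5475) : False := by
  have : Fact (Nat.Prime 73) := ⟨by norm_num⟩
  have hc : Nat.card G = 73 ^ 1 * 75 := by rw [h]; norm_num
  have hm : ¬ 73 ∣ 75 := by norm_num
  have hmem := card_sylow_mem_candidates hc hm
  have hcand : sylowCandidates 73 75 = [1] := by decide
  rw [hcand] at hmem
  simp only [List.mem_cons, List.not_mem_nil, or_false] at hmem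
  have hlt := one_lt_card_sylow_of_card hc hm (by norm_num) (by norm_num)
  have hd := hmem
  · omega

theorem no_5476 {G : Type*} [Group G] [Finite G] [IsSimpleGroup G]
    (hG : ¬ IsMulCommutative G) (h : Nat.card G = 5476) : False := by
  exact tp hG 2 37 2 2 (by norm_num) (by norm_num) (by rw [h]; norm_num)

theorem no_5477 {G : Type*} [Group G] [Finite G] [IsSimpleGroup G]
    (hG : ¬ IsMulCommutative G) (h : Nat.card G = 5477) : False := by
  exact tp hG 5477 2 1 0 (by norm_num) (by norm_num) (by rw [h]; norm_num)

theorem no_5478 {G : Type*} [Group G] [Finite G] [IsSimpleGroup G]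
    (hG : ¬ IsMulCommutative G) (h : Nat.card G = 5478) : False := by
  exact ev hG (by rw [h]; exact ⟨2739, by norm_num⟩) (by rw [h]; omega)

theorem no_5479 {G : Type*} [Group G] [Finite G] [IsSimpleGroup G]
    (hG : ¬ IsMulCommutative G) (h : Nat.card G = 5479) : False := by
  exact tp hG 5479 2 1 0 (by norm_num) (by norm_num) (by rw [h]; norm_num)

theorem no_5480 {G : Type*} [Group G] [Finite G] [IsSimpleGroup G]
    (hG : ¬ IsMulCommutative G) (h : Nat.card G = 5480) : False := by
  exact ev hG (by rw [h]; exact ⟨2740, by norm_num⟩) (by rw [h]; omega)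

theorem no_5481 {G : Type*} [Group G] [Finite G] [IsSimpleGroup G]
    (hG : ¬ IsMulCommutative G) (h : Nat.card G = 5481) : False := by
  have : Fact (Nat.Prime 29) := ⟨by norm_num⟩
  have hc : Nat.card G = 29 ^ 1 * 189 := by rw [h]; norm_num
  have hm : ¬ 29 ∣ 189 := by norm_num
  have hmem := card_sylow_mem_candidates hc hm
  have hcand : sylowCandidates 29 189 = [1] := by decide
  rw [hcand] at hmem
  simp only [List.mem_cons, List.not_mem_nil, or_false] at hmem
  have hlt := one_lt_card_sylow_of_card hc hm (by norm_num) (by norm_num)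
  have hd := hmem
  · omega

theorem no_5482 {G : Type*} [Group G] [Finite G] [IsSimpleGroup G]
    (hG : ¬ IsMulCommutative G) (h : Nat.card G = 5482) : False := by
  exact tp hG 2 2741 1 1 (by norm_num) (by norm_num) (by rw [h]; norm_num)

theorem no_5483 {G : Type*} [Group G] [Finite G] [IsSimpleGroup G]
    (hG : ¬ IsMulCommutative G) (h : Nat.card G = 5483) : False := by
  exact tp hG 5483 2 1 0 (by norm_num) (by norm_num) (by rw [h]; norm_num)

theorem no_5484 {G : Type*} [Group G] [Finite G] [IsSimpleGroup G]
    (hG : ¬ IsMulCommutative G) (h : Nat.card G = 5484) : False := by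
  have : Fact (Nat.Prime 457) := ⟨by norm_num⟩
  have hc : Nat.card G = 457 ^ 1 * 12 := by rw [h]; norm_num
  have hm : ¬ 457 ∣ 12 := by norm_num
  have hmem := card_sylow_mem_candidates hc hm
  have hcand : sylowCandidates 457 12 = [1] := by decide
  rw [hcand] at hmem
  simp only [List.mem_cons, List.not_mem_nil, or_false] at hmem
  have hlt := one_lt_card_sylow_of_card hc hm (by norm_num) (by norm_num)
  have hd := hmem
  · omega

theorem no_5485 {G : Type*} [Group G] [Finite G] [IsSimpleGroup G]
    (hG : ¬ IsMulCommutative G) (h : Nat.card G = 5485) : False := by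
  exact tp hG 5 1097 1 1 (by norm_num) (by norm_num) (by rw [h]; norm_num)

theorem no_5486 {G : Type*} [Group G] [Finite G] [IsSimpleGroup G]
    (hG : ¬ IsMulCommutative G) (h : Nat.card G = 5486) : False := by
  exact ev hG (by rw [h]; exact ⟨2743, by norm_num⟩) (by rw [h]; omega)

theorem no_5487 {G : Type*} [Group G] [Finite G] [IsSimpleGroup G]
    (hG : ¬ IsMulCommutative G) (h : Nat.card G = 5487) : False := by
  have : Fact (Nat.Prime 59) := ⟨by norm_num⟩
  have hc : Nat.card G = 59 ^ 1 * 93 := by rw [h]; norm_num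
  have hm : ¬ 59 ∣ 93 := by norm_num
  have hmem := card_sylow_mem_candidates hc hm
  have hcand : sylowCandidates 59 93 = [1] := by decide
  rw [hcand] at hmem
  simp only [List.mem_cons, List.not_mem_nil, or_false] at hmem
  have hlt := one_lt_card_sylow_of_card hc hm (by norm_num) (by norm_num)
  have hd := hmem
  · omega

theorem no_5488 {G : Type*} [Group G] [Finite G] [IsSimpleGroup G]
    (hG : ¬ IsMulCommutative G) (h : Nat.card G = 5488) : False := by
  exact tp hG 2 7 4 3 (by norm_num) (by norm_num) (by rw [h]; norm_num)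

theorem no_5489 {G : Type*} [Group G] [Finite G] [IsSimpleGroup G]
    (hG : ¬ IsMulCommutative G) (h : Nat.card G = 5489) : False := by
  exact tp hG 11 499 1 1 (by norm_num) (by norm_num) (by rw [h]; norm_num)

theorem no_5490 {G : Type*} [Group G] [Finite G] [IsSimpleGroup G]
    (hG : ¬ IsMulCommutative G) (h : Nat.card G = 5490) : False := by
  exact ev hG (by rw [h]; exact ⟨2745, by norm_num⟩) (by rw [h]; omega)

theorem no_5491 {G : Type*} [Group G] [Finite G] [IsSimpleGroup G]
    (hG : ¬ IsMulCommutative G) (h : Nat.card G = 5491) : False := by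
  exact tp hG 17 19 2 1 (by norm_num) (by norm_num) (by rw [h]; norm_num)

theorem no_5492 {G : Type*} [Group G] [Finite G] [IsSimpleGroup G]
    (hG : ¬ IsMulCommutative G) (h : Nat.card G = 5492) : False := by
  exact tp hG 2 1373 2 1 (by norm_num) (by norm_num) (by rw [h]; norm_num)

theorem no_5493 {G : Type*} [Group G] [Finite G] [IsSimpleGroup G]
    (hG : ¬ IsMulCommutative G) (h : Nat.card G = 5493) : False := by
  exact tp hG 3 1831 1 1 (by norm_num) (by norm_num) (by rw [h]; norm_num)

theorem no_5494 {G : Type*} [Group G] [Finite G] [IsSimpleGroup G]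
    (hG : ¬ IsMulCommutative G) (h : Nat.card G = 5494) : False := by
  exact ev hG (by rw [h]; exact ⟨2747, by norm_num⟩) (by rw [h]; omega)

theorem no_5495 {G : Type*} [Group G] [Finite G] [IsSimpleGroup G]
    (hG : ¬ IsMulCommutative G) (h : Nat.card G = 5495) : False := by
  have : Fact (Nat.Prime 157) := ⟨by norm_num⟩
  have hc : Nat.card G = 157 ^ 1 * 35 := by rw [h]; norm_num
  have hm : ¬ 157 ∣ 35 := by norm_num
  have hmem := card_sylow_mem_candidates hc hm
  have hcand : sylowCandidates 157 35 = [1] := by decide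
  rw [hcand] at hmem
  simp only [List.mem_cons, List.not_mem_nil, or_false] at hmem
  have hlt := one_lt_card_sylow_of_card hc hm (by norm_num) (by norm_num)
  have hd := hmem
  · omega

theorem no_5496 {G : Type*} [Group G] [Finite G] [IsSimpleGroup G]
    (hG : ¬ IsMulCommutative G) (h : Nat.card G = 5496) : False := by
  have : Fact (Nat.Prime 229) := ⟨by norm_num⟩
  have hc : Nat.card G = 229 ^ 1 * 24 := by rw [h]; norm_num
  have hm : ¬ 229 ∣ 24 := by norm_num
  have hmem := card_sylow_mem_candidates hc hm
  have hcand : sylowCandidates 229 24 = [1] := by decide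
  rw [hcand] at hmem
  simp only [List.mem_cons, List.not_mem_nil, or_false] at hmem
  have hlt := one_lt_card_sylow_of_card hc hm (by norm_num) (by norm_num)
  have hd := hmem
  · omega

theorem no_5497 {G : Type*} [Group G] [Finite G] [IsSimpleGroup G]
    (hG : ¬ IsMulCommutative G) (h : Nat.card G = 5497) : False := by
  exact tp hG 23 239 1 1 (by norm_num) (by norm_num) (by rw [h]; norm_num)

theorem no_5498 {G : Type*} [Group G] [Finite G] [IsSimpleGroup G]
    (hG : ¬ IsMulCommutative G) (h : Nat.card G = 5498) : False := by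
  exact tp hG 2 2749 1 1 (by norm_num) (by norm_num) (by rw [h]; norm_num)

theorem no_5499 {G : Type*} [Group G] [Finite G] [IsSimpleGroup G]
    (hG : ¬ IsMulCommutative G) (h : Nat.card G = 5499) : False := by
  have : Fact (Nat.Prime 47) := ⟨by norm_num⟩
  have hc : Nat.card G = 47 ^ 1 * 117 := by rw [h]; norm_num
  have hm : ¬ 47 ∣ 117 := by norm_num
  have hmem := card_sylow_mem_candidates hc hm
  have hcand : sylowCandidates 47 117 = [1] := by decide
  rw [hcand] at hmem
  simp only [List.mem_cons, List.not_mem_nil, or_false] at hmem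
  have hlt := one_lt_card_sylow_of_card hc hm (by norm_num) (by norm_num)
  have hd := hmem
  · omega

theorem no_5500 {G : Type*} [Group G] [Finite G] [IsSimpleGroup G]
    (hG : ¬ IsMulCommutative G) (h : Nat.card G = 5500) : False := by
  exact ev hG (by rw [h]; exact ⟨2750, by norm_num⟩) (by rw [h]; omega)

/-- the orders in [5401, 5500] not excluded by the engine -/
theorem chunk {G : Type*} [Group G] [Finite G] [IsSimpleGroup G]
    (hG : ¬ IsMulCommutative G) (n : ℕ) (hn : Nat.card G = n) (h1 : 5401 ≤ n) (h2 : n ≤ 5500) :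
    n = 5460 ∨ n = 5472 := by
  interval_cases n
  · exact (no_5401 hG hn).elim
  · exact (no_5402 hG hn).elim
  · exact (no_5403 hG hn).elim
  · exact (no_5404 hG hn).elim
  · exact (no_5405 hG hn).elim
  · exact (no_5406 hG hn).elim
  · exact (no_5407 hG hn).elim
  · exact (no_5408 hG hn).elim
  · exact (no_5409 hG hn).elim
  · exact (no_5410 hG hn).elim
  · exact (no_5411 hG hn).elim
  · exact (no_5412 hG hn).elim
  · exact (no_5413 hG hn).elim
  · exact (no_5414 hG hn).elim
  · exact (no_5415 hG hn).elim
  · exact (no_5416 hG hn).elim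
  · exact (no_5417 hG hn).elim
  · exact (no_5418 hG hn).elim
  · exact (no_5419 hG hn).elim
  · exact (no_5420 hG hn).elim
  · exact (no_5421 hG hn).elim
  · exact (no_5422 hG hn).elim
  · exact (no_5423 hG hn).elim
  · exact (no_5424 hG hn).elim
  · exact (no_5425 hG hn).elim
  · exact (no_5426 hG hn).elim
  · exact (no_5427 hG hn).elim
  · exact (no_5428 hG hn).elim
  · exact (no_5429 hG hn).elim
  · exact (no_5430 hG hn).elim
  · exact (no_5431 hG hn).elim
  · exact (no_5432 hG hn).elim
  · exact (no_5433 hG hn).elim
  · exact (no_5434 hG hn).elim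
  · exact (no_5435 hG hn).elim
  · exact (no_5436 hG hn).elim
  · exact (no_5437 hG hn).elim
  · exact (no_5438 hG hn).elim
  · exact (no_5439 hG hn).elim
  · exact (no_5440 hG hn).elim
  · exact (no_5441 hG hn).elim
  · exact (no_5442 hG hn).elim
  · exact (no_5443 hG hn).elim
  · exact (no_5444 hG hn).elim
  · exact (no_5445 hG hn).elim
  · exact (no_5446 hG hn).elim
  · exact (no_5447 hG hn).elim
  · exact (no_5448 hG hn).elim
  · exact (no_5449 hG hn).elim
  · exact (no_5450 hG hn).elim
  · exact (no_5451 hG hn).elim
  · exact (no_5452 hG hn).elim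
  · exact (no_5453 hG hn).elim
  · exact (no_5454 hG hn).elim
  · exact (no_5455 hG hn).elim
  · exact (no_5456 hG hn).elim
  · exact (no_5457 hG hn).elim
  · exact (no_5458 hG hn).elim
  · exact (no_5459 hG hn).elim
  · simp
  · exact (no_5461 hG hn).elim
  · exact (no_5462 hG hn).elim
  · exact (no_5463 hG hn).elim
  · exact (no_5464 hG hn).elim
  · exact (no_5465 hG hn).elim
  · exact (no_5466 hG hn).elim
  · exact (no_5467 hG hn).elim
  · exact (no_5468 hG hn).elim
  · exact (no_5469 hG hn).elim
  · exact (no_5470 hG hn).elim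
  · exact (no_5471 hG hn).elim
  · simp
  · exact (no_5473 hG hn).elim
  · exact (no_5474 hG hn).elim
  · exact (no_5475 hG hn).elim
  · exact (no_5476 hG hn).elim
  · exact (no_5477 hG hn).elim
  · exact (no_5478 hG hn).elim
  · exact (no_5479 hG hn).elim
  · exact (no_5480 hG hn).elim
  · exact (no_5481 hG hn).elim
  · exact (no_5482 hG hn).elim
  · exact (no_5483 hG hn).elim
  · exact (no_5484 hG hn).elim
  · exact (no_5485 hG hn).elim
  · exact (no_5486 hG hn).elim
  · exact (no_5487 hG hn).elim
  · exact (no_5488 hG hn).elim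
  · exact (no_5489 hG hn).elim
  · exact (no_5490 hG hn).elim
  · exact (no_5491 hG hn).elim
  · exact (no_5492 hG hn).elim
  · exact (no_5493 hG hn).elim
  · exact (no_5494 hG hn).elim
  · exact (no_5495 hG hn).elim
  · exact (no_5496 hG hn).elim
  · exact (no_5497 hG hn).elim
  · exact (no_5498 hG hn).elim
  · exact (no_5499 hG hn).elim
  · exact (no_5500 hG hn).elim

end Cfsg.Agent.Lib.Helper16_SO_E18
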