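import Mathlib
import Cfsg.Agent.Lib.Helper75_SM_Base

/-!
# S0983 engine, generated file: no simple group of order N for the easy N in [5501, 5600]
(helper16; same scheme as helper75's `Helper75_SM_E*`)
-/

set_option autoImplicit false
set_option linter.unusedVariables false

namespace Cfsg.Agent.Lib.Helper16_SO_E19

open Cfsg.Agent.Lib.Helper17_Sylow Cfsg.Agent.Lib.Helper75_SM_Base

theorem no_5501 {G : Type*} [Group G] [Finite G] [IsSimpleGroup G]
    (hG : ¬ IsMulCommutative G) (h : Nat.card G = 5501) : False := by
  exact tp hG 5501 2 1 0 (by norm_num) (by norm_num) (by rw [h]; norm_num)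

theorem no_5502 {G : Type*} [Group G] [Finite G] [IsSimpleGroup G]
    (hG : ¬ IsMulCommutative G) (h : Nat.card G = 5502) : False := by
  exact ev hG (by rw [h]; exact ⟨2751, by norm_num⟩) (by rw [h]; omega)

theorem no_5503 {G : Type*} [Group G] [Finite G] [IsSimpleGroup G]
    (hG : ¬ IsMulCommutative G) (h : Nat.card G = 5503) : False := by
  exact tp hG 5503 2 1 0 (by norm_num) (by norm_num) (by rw [h]; norm_num)

theorem no_5504 {G : Type*} [Group G] [Finite G] [IsSimpleGroup G]
    (hG : ¬ IsMulCommutative G) (h : Nat.card G = 5504) : False := by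
  exact tp hG 2 43 7 1 (by norm_num) (by norm_num) (by rw [h]; norm_num)

theorem no_5505 {G : Type*} [Group G] [Finite G] [IsSimpleGroup G]
    (hG : ¬ IsMulCommutative G) (h : Nat.card G = 5505) : False := by
  have : Fact (Nat.Prime 367) := ⟨by norm_num⟩
  have hc : Nat.card G = 367 ^ 1 * 15 := by rw [h]; norm_num
  have hm : ¬ 367 ∣ 15 := by norm_num
  have hmem := card_sylow_mem_candidates hc hm
  have hcand : sylowCandidates 367 15 = [1] := by decide
  rw [hcand] at hmem
  simp only [List.mem_cons, List.not_mem_nil, or_false] at hmem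
  have hlt := one_lt_card_sylow_of_card hc hm (by norm_num) (by norm_num)
  have hd := hmem
  · omega

theorem no_5506 {G : Type*} [Group G] [Finite G] [IsSimpleGroup G]
    (hG : ¬ IsMulCommutative G) (h : Nat.card G = 5506) : False := by
  exact tp hG 2 2753 1 1 (by norm_num) (by norm_num) (by rw [h]; norm_num)

theorem no_5507 {G : Type*} [Group G] [Finite G] [IsSimpleGroup G]
    (hG : ¬ IsMulCommutative G) (h : Nat.card G = 5507) : False := by
  exact tp hG 5507 2 1 0 (by norm_num) (by norm_num) (by rw [h]; norm_num)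

theorem no_5508 {G : Type*} [Group G] [Finite G] [IsSimpleGroup G]
    (hG : ¬ IsMulCommutative G) (h : Nat.card G = 5508) : False := by
  have : Fact (Nat.Prime 17) := ⟨by norm_num⟩
  have hc : Nat.card G = 17 ^ 1 * 324 := by rw [h]; norm_num
  have hm : ¬ 17 ∣ 324 := by norm_num
  have hmem := card_sylow_mem_candidates hc hm
  have hcand : sylowCandidates 17 324 = [1, 18, 324] := by decide
  rw [hcand] at hmem
  simp only [List.mem_cons, List.not_mem_nil, or_false] at hmem
  have hlt := one_lt_card_sylow_of_card hc hm (by norm_num) (by norm_num)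
  rcases hmem with hd | hd | hd
  · omega
  · exact perm_kill hG (by norm_num) hc hm hd 306 (by omega) (by decide)
  · exact burn_kill hc hm (by norm_num) 324 hd (by decide)

theorem no_5509 {G : Type*} [Group G] [Finite G] [IsSimpleGroup G]
    (hG : ¬ IsMulCommutative G) (h : Nat.card G = 5509) : False := by
  exact tp hG 7 787 1 1 (by norm_num) (by norm_num) (by rw [h]; norm_num)

theorem no_5510 {G : Type*} [Group G] [Finite G] [IsSimpleGroup G]
    (hG : ¬ IsMulCommutative G) (h : Nat.card G = 5510) : False := by
  exact ev hG (by rw [h]; exact ⟨2755, by norm_num⟩) (by rw [h]; omega)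

theorem no_5511 {G : Type*} [Group G] [Finite G] [IsSimpleGroup G]
    (hG : ¬ IsMulCommutative G) (h : Nat.card G = 5511) : False := by
  have : Fact (Nat.Prime 167) := ⟨by norm_num⟩
  have hc : Nat.card G = 167 ^ 1 * 33 := by rw [h]; norm_num
  have hm : ¬ 167 ∣ 33 := by norm_num
  have hmem := card_sylow_mem_candidates hc hm
  have hcand : sylowCandidates 167 33 = [1] := by decide
  rw [hcand] at hmem
  simp only [List.mem_cons, List.not_mem_nil, or_false] at hmem
  have hlt := one_lt_card_sylow_of_card hc hm (by norm_num) (by norm_num)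
  have hd := hmem
  · omega

theorem no_5512 {G : Type*} [Group G] [Finite G] [IsSimpleGroup G]
    (hG : ¬ IsMulCommutative G) (h : Nat.card G = 5512) : False := by
  exact ev hG (by rw [h]; exact ⟨2756, by norm_num⟩) (by rw [h]; omega)

theorem no_5513 {G : Type*} [Group G] [Finite G] [IsSimpleGroup G]
    (hG : ¬ IsMulCommutative G) (h : Nat.card G = 5513) : False := by
  exact tp hG 37 149 1 1 (by norm_num) (by norm_num) (by rw [h]; norm_num)

theorem no_5514 {G : Type*} [Group G] [Finite G] [IsSimpleGroup G]
    (hG : ¬ IsMulCommutative G) (h : Nat.card G = 5514) : False := by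
  exact ev hG (by rw [h]; exact ⟨2757, by norm_num⟩) (by rw [h]; omega)

theorem no_5515 {G : Type*} [Group G] [Finite G] [IsSimpleGroup G]
    (hG : ¬ IsMulCommutative G) (h : Nat.card G = 5515) : False := by
  exact tp hG 5 1103 1 1 (by norm_num) (by norm_num) (by rw [h]; norm_num)

theorem no_5516 {G : Type*} [Group G] [Finite G] [IsSimpleGroup G]
    (hG : ¬ IsMulCommutative G) (h : Nat.card G = 5516) : False := by
  exact ev hG (by rw [h]; exact ⟨2758, by norm_num⟩) (by rw [h]; omega)

theorem no_5517 {G : Type*} [Group G] [Finite G] [IsSimpleGroup G]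
    (hG : ¬ IsMulCommutative G) (h : Nat.card G = 5517) : False := by
  exact tp hG 3 613 2 1 (by norm_num) (by norm_num) (by rw [h]; norm_num)

theorem no_5518 {G : Type*} [Group G] [Finite G] [IsSimpleGroup G]
    (hG : ¬ IsMulCommutative G) (h : Nat.card G = 5518) : False := by
  exact ev hG (by rw [h]; exact ⟨2759, by norm_num⟩) (by rw [h]; omega)

theorem no_5519 {G : Type*} [Group G] [Finite G] [IsSimpleGroup G]
    (hG : ¬ IsMulCommutative G) (h : Nat.card G = 5519) : False := by
  exact tp hG 5519 2 1 0 (by norm_num) (by norm_num) (by rw [h]; norm_num)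

theorem no_5520 {G : Type*} [Group G] [Finite G] [IsSimpleGroup G]
    (hG : ¬ IsMulCommutative G) (h : Nat.card G = 5520) : False := by
  have : Fact (Nat.Prime 23) := ⟨by norm_num⟩
  have hc : Nat.card G = 23 ^ 1 * 240 := by rw [h]; norm_num
  have hm : ¬ 23 ∣ 240 := by norm_num
  have hmem := card_sylow_mem_candidates hc hm
  have hcand : sylowCandidates 23 240 = [1, 24] := by decide
  rw [hcand] at hmem
  simp only [List.mem_cons, List.not_mem_nil, or_false] at hmem
  have hlt := one_lt_card_sylow_of_card hc hm (by norm_num) (by norm_num)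
  rcases hmem with hd | hd
  · omega
  · exact perm_kill hG (by norm_num) hc hm hd 230 (by omega) (by decide)

theorem no_5521 {G : Type*} [Group G] [Finite G] [IsSimpleGroup G]
    (hG : ¬ IsMulCommutative G) (h : Nat.card G = 5521) : False := by
  exact tp hG 5521 2 1 0 (by norm_num) (by norm_num) (by rw [h]; norm_num)

theorem no_5522 {G : Type*} [Group G] [Finite G] [IsSimpleGroup G]
    (hG : ¬ IsMulCommutative G) (h : Nat.card G = 5522) : False := by
  exact ev hG (by rw [h]; exact ⟨2761, by norm_num⟩) (by rw [h]; omega)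

theorem no_5523 {G : Type*} [Group G] [Finite G] [IsSimpleGroup G]
    (hG : ¬ IsMulCommutative G) (h : Nat.card G = 5523) : False := by
  have : Fact (Nat.Prime 263) := ⟨by norm_num⟩
  have hc : Nat.card G = 263 ^ 1 * 21 := by rw [h]; norm_num
  have hm : ¬ 263 ∣ 21 := by norm_num
  have hmem := card_sylow_mem_candidates hc hm
  have hcand : sylowCandidates 263 21 = [1] := by decide
  rw [hcand] at hmem
  simp only [List.mem_cons, List.not_mem_nil, or_false] at hmem
  have hlt := one_lt_card_sylow_of_card hc hm (by norm_num) (by norm_num)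
  have hd := hmem
  · omega

theorem no_5524 {G : Type*} [Group G] [Finite G] [IsSimpleGroup G]
    (hG : ¬ IsMulCommutative G) (h : Nat.card G = 5524) : False := by
  exact tp hG 2 1381 2 1 (by norm_num) (by norm_num) (by rw [h]; norm_num)

theorem no_5525 {G : Type*} [Group G] [Finite G] [IsSimpleGroup G]
    (hG : ¬ IsMulCommutative G) (h : Nat.card G = 5525) : False := by
  have : Fact (Nat.Prime 17) := ⟨by norm_num⟩
  have hc : Nat.card G = 17 ^ 1 * 325 := by rw [h]; norm_num
  have hm : ¬ 17 ∣ 325 := by norm_num
  have hmem := card_sylow_mem_candidates hc hm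
  have hcand : sylowCandidates 17 325 = [1] := by decide
  rw [hcand] at hmem
  simp only [List.mem_cons, List.not_mem_nil, or_false] at hmem
  have hlt := one_lt_card_sylow_of_card hc hm (by norm_num) (by norm_num)
  have hd := hmem
  · omega

theorem no_5526 {G : Type*} [Group G] [Finite G] [IsSimpleGroup G]
    (hG : ¬ IsMulCommutative G) (h : Nat.card G = 5526) : False := by
  exact ev hG (by rw [h]; exact ⟨2763, by norm_num⟩) (by rw [h]; omega)

theorem no_5527 {G : Type*} [Group G] [Finite G] [IsSimpleGroup G]
    (hG : ¬ IsMulCommutative G) (h : Nat.card G = 5527) : False := by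
  exact tp hG 5527 2 1 0 (by norm_num) (by norm_num) (by rw [h]; norm_num)

theorem no_5528 {G : Type*} [Group G] [Finite G] [IsSimpleGroup G]
    (hG : ¬ IsMulCommutative G) (h : Nat.card G = 5528) : False := by
  exact tp hG 2 691 3 1 (by norm_num) (by norm_num) (by rw [h]; norm_num)

theorem no_5529 {G : Type*} [Group G] [Finite G] [IsSimpleGroup G]
    (hG : ¬ IsMulCommutative G) (h : Nat.card G = 5529) : False := by
  have : Fact (Nat.Prime 97) := ⟨by norm_num⟩
  have hc : Nat.card G = 97 ^ 1 * 57 := by rw [h]; norm_num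
  have hm : ¬ 97 ∣ 57 := by norm_num
  have hmem := card_sylow_mem_candidates hc hm
  have hcand : sylowCandidates 97 57 = [1] := by decide
  rw [hcand] at hmem
  simp only [List.mem_cons, List.not_mem_nil, or_false] at hmem
  have hlt := one_lt_card_sylow_of_card hc hm (by norm_num) (by norm_num)
  have hd := hmem
  · omega

theorem no_5530 {G : Type*} [Group G] [Finite G] [IsSimpleGroup G]
    (hG : ¬ IsMulCommutative G) (h : Nat.card G = 5530) : False := by
  exact ev hG (by rw [h]; exact ⟨2765, by norm_num⟩) (by rw [h]; omega)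

theorem no_5531 {G : Type*} [Group G] [Finite G] [IsSimpleGroup G]
    (hG : ¬ IsMulCommutative G) (h : Nat.card G = 5531) : False := by
  exact tp hG 5531 2 1 0 (by norm_num) (by norm_num) (by rw [h]; norm_num)

theorem no_5532 {G : Type*} [Group G] [Finite G] [IsSimpleGroup G]
    (hG : ¬ IsMulCommutative G) (h : Nat.card G = 5532) : False := by
  have : Fact (Nat.Prime 461) := ⟨by norm_num⟩
  have hc : Nat.card G = 461 ^ 1 * 12 := by rw [h]; norm_num
  have hm : ¬ 461 ∣ 12 := by norm_num
  have hmem := card_sylow_mem_candidates hc hm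
  have hcand : sylowCandidates 461 12 = [1] := by decide
  rw [hcand] at hmem
  simp only [List.mem_cons, List.not_mem_nil, or_false] at hmem
  have hlt := one_lt_card_sylow_of_card hc hm (by norm_num) (by norm_num)
  have hd := hmem
  · omega

theorem no_5533 {G : Type*} [Group G] [Finite G] [IsSimpleGroup G]
    (hG : ¬ IsMulCommutative G) (h : Nat.card G = 5533) : False := by
  exact tp hG 11 503 1 1 (by norm_num) (by norm_num) (by rw [h]; norm_num)

theorem no_5534 {G : Type*} [Group G] [Finite G] [IsSimpleGroup G]
    (hG : ¬ IsMulCommutative G) (h : Nat.card G = 5534) : False := by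
  exact tp hG 2 2767 1 1 (by norm_num) (by norm_num) (by rw [h]; norm_num)

theorem no_5535 {G : Type*} [Group G] [Finite G] [IsSimpleGroup G]
    (hG : ¬ IsMulCommutative G) (h : Nat.card G = 5535) : False := by
  have : Fact (Nat.Prime 41) := ⟨by norm_num⟩
  have hc : Nat.card G = 41 ^ 1 * 135 := by rw [h]; norm_num
  have hm : ¬ 41 ∣ 135 := by norm_num
  have hmem := card_sylow_mem_candidates hc hm
  have hcand : sylowCandidates 41 135 = [1] := by decide
  rw [hcand] at hmem
  simp only [List.mem_cons, List.not_mem_nil, or_false] at hmem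
  have hlt := one_lt_card_sylow_of_card hc hm (by norm_num) (by norm_num)
  have hd := hmem
  · omega

theorem no_5536 {G : Type*} [Group G] [Finite G] [IsSimpleGroup G]
    (hG : ¬ IsMulCommutative G) (h : Nat.card G = 5536) : False := by
  exact tp hG 2 173 5 1 (by norm_num) (by norm_num) (by rw [h]; norm_num)

theorem no_5537 {G : Type*} [Group G] [Finite G] [IsSimpleGroup G]
    (hG : ¬ IsMulCommutative G) (h : Nat.card G = 5537) : False := by
  exact tp hG 7 113 2 1 (by norm_num) (by norm_num) (by rw [h]; norm_num)

theorem no_5538 {G : Type*} [Group G] [Finite G] [IsSimpleGroup G]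
    (hG : ¬ IsMulCommutative G) (h : Nat.card G = 5538) : False := by
  exact ev hG (by rw [h]; exact ⟨2769, by norm_num⟩) (by rw [h]; omega)

theorem no_5539 {G : Type*} [Group G] [Finite G] [IsSimpleGroup G]
    (hG : ¬ IsMulCommutative G) (h : Nat.card G = 5539) : False := by
  exact tp hG 29 191 1 1 (by norm_num) (by norm_num) (by rw [h]; norm_num)

theorem no_5540 {G : Type*} [Group G] [Finite G] [IsSimpleGroup G]
    (hG : ¬ IsMulCommutative G) (h : Nat.card G = 5540) : False := by
  exact ev hG (by rw [h]; exact ⟨2770, by norm_num⟩) (by rw [h]; omega)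

theorem no_5541 {G : Type*} [Group G] [Finite G] [IsSimpleGroup G]
    (hG : ¬ IsMulCommutative G) (h : Nat.card G = 5541) : False := by
  exact tp hG 3 1847 1 1 (by norm_num) (by norm_num) (by rw [h]; norm_num)

theorem no_5542 {G : Type*} [Group G] [Finite G] [IsSimpleGroup G]
    (hG : ¬ IsMulCommutative G) (h : Nat.card G = 5542) : False := by
  exact ev hG (by rw [h]; exact ⟨2771, by norm_num⟩) (by rw [h]; omega)

theorem no_5543 {G : Type*} [Group G] [Finite G] [IsSimpleGroup G]
    (hG : ¬ IsMulCommutative G) (h : Nat.card G = 5543) : False := by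
  exact tp hG 23 241 1 1 (by norm_num) (by norm_num) (by rw [h]; norm_num)

theorem no_5544 {G : Type*} [Group G] [Finite G] [IsSimpleGroup G]
    (hG : ¬ IsMulCommutative G) (h : Nat.card G = 5544) : False := by
  have : Fact (Nat.Prime 11) := ⟨by norm_num⟩
  have hc : Nat.card G = 11 ^ 1 * 504 := by rw [h]; norm_num
  have hm : ¬ 11 ∣ 504 := by norm_num
  have hmem := card_sylow_mem_candidates hc hm
  have hcand : sylowCandidates 11 504 = [1, 12, 56] := by decide
  rw [hcand] at hmem
  simp only [List.mem_cons, List.not_mem_nil, or_false] at hmem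
  have hlt := one_lt_card_sylow_of_card hc hm (by norm_num) (by norm_num)
  rcases hmem with hd | hd | hd
  · omega
  · exact perm_kill hG (by norm_num) hc hm hd 462 (by omega) (by decide)
  · exact burn_kill hc hm (by norm_num) 56 hd (by decide)

theorem no_5545 {G : Type*} [Group G] [Finite G] [IsSimpleGroup G]
    (hG : ¬ IsMulCommutative G) (h : Nat.card G = 5545) : False := by
  exact tp hG 5 1109 1 1 (by norm_num) (by norm_num) (by rw [h]; norm_num)

theorem no_5546 {G : Type*} [Group G] [Finite G] [IsSimpleGroup G]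
    (hG : ¬ IsMulCommutative G) (h : Nat.card G = 5546) : False := by
  exact ev hG (by rw [h]; exact ⟨2773, by norm_num⟩) (by rw [h]; omega)

theorem no_5547 {G : Type*} [Group G] [Finite G] [IsSimpleGroup G]
    (hG : ¬ IsMulCommutative G) (h : Nat.card G = 5547) : False := by
  exact tp hG 3 43 1 2 (by norm_num) (by norm_num) (by rw [h]; norm_num)

theorem no_5548 {G : Type*} [Group G] [Finite G] [IsSimpleGroup G]
    (hG : ¬ IsMulCommutative G) (h : Nat.card G = 5548) : False := by
  exact ev hG (by rw [h]; exact ⟨2774, by norm_num⟩) (by rw [h]; omega)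

theorem no_5549 {G : Type*} [Group G] [Finite G] [IsSimpleGroup G]
    (hG : ¬ IsMulCommutative G) (h : Nat.card G = 5549) : False := by
  exact tp hG 31 179 1 1 (by norm_num) (by norm_num) (by rw [h]; norm_num)

theorem no_5550 {G : Type*} [Group G] [Finite G] [IsSimpleGroup G]
    (hG : ¬ IsMulCommutative G) (h : Nat.card G = 5550) : False := by
  exact ev hG (by rw [h]; exact ⟨2775, by norm_num⟩) (by rw [h]; omega)

theorem no_5551 {G : Type*} [Group G] [Finite G] [IsSimpleGroup G]
    (hG : ¬ IsMulCommutative G) (h : Nat.card G = 5551) : False := by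
  have : Fact (Nat.Prime 61) := ⟨by norm_num⟩
  have hc : Nat.card G = 61 ^ 1 * 91 := by rw [h]; norm_num
  have hm : ¬ 61 ∣ 91 := by norm_num
  have hmem := card_sylow_mem_candidates hc hm
  have hcand : sylowCandidates 61 91 = [1] := by decide
  rw [hcand] at hmem
  simp only [List.mem_cons, List.not_mem_nil, or_false] at hmem
  have hlt := one_lt_card_sylow_of_card hc hm (by norm_num) (by norm_num)
  have hd := hmem
  · omega

theorem no_5552 {G : Type*} [Group G] [Finite G] [IsSimpleGroup G]
    (hG : ¬ IsMulCommutative G) (h : Nat.card G = 5552) : False := by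
  exact tp hG 2 347 4 1 (by norm_num) (by norm_num) (by rw [h]; norm_num)

theorem no_5553 {G : Type*} [Group G] [Finite G] [IsSimpleGroup G]
    (hG : ¬ IsMulCommutative G) (h : Nat.card G = 5553) : False := by
  exact tp hG 3 617 2 1 (by norm_num) (by norm_num) (by rw [h]; norm_num)

theorem no_5554 {G : Type*} [Group G] [Finite G] [IsSimpleGroup G]
    (hG : ¬ IsMulCommutative G) (h : Nat.card G = 5554) : False := by
  exact tp hG 2 2777 1 1 (by norm_num) (by norm_num) (by rw [h]; norm_num)

theorem no_5555 {G : Type*} [Group G] [Finite G] [IsSimpleGroup G]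
    (hG : ¬ IsMulCommutative G) (h : Nat.card G = 5555) : False := by
  have : Fact (Nat.Prime 101) := ⟨by norm_num⟩
  have hc : Nat.card G = 101 ^ 1 * 55 := by rw [h]; norm_num
  have hm : ¬ 101 ∣ 55 := by norm_num
  have hmem := card_sylow_mem_candidates hc hm
  have hcand : sylowCandidates 101 55 = [1] := by decide
  rw [hcand] at hmem
  simp only [List.mem_cons, List.not_mem_nil, or_false] at hmem
  have hlt := one_lt_card_sylow_of_card hc hm (by norm_num) (by norm_num)
  have hd := hmem
  · omega

theorem no_5556 {G : Type*} [Group G] [Finite G] [IsSimpleGroup G]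
    (hG : ¬ IsMulCommutative G) (h : Nat.card G = 5556) : False := by
  have : Fact (Nat.Prime 463) := ⟨by norm_num⟩
  have hc : Nat.card G = 463 ^ 1 * 12 := by rw [h]; norm_num
  have hm : ¬ 463 ∣ 12 := by norm_num
  have hmem := card_sylow_mem_candidates hc hm
  have hcand : sylowCandidates 463 12 = [1] := by decide
  rw [hcand] at hmem
  simp only [List.mem_cons, List.not_mem_nil, or_false] at hmem
  have hlt := one_lt_card_sylow_of_card hc hm (by norm_num) (by norm_num)
  have hd := hmem
  · omega

theorem no_5557 {G : Type*} [Group G] [Finite G] [IsSimpleGroup G]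
    (hG : ¬ IsMulCommutative G) (h : Nat.card G = 5557) : False := by
  exact tp hG 5557 2 1 0 (by norm_num) (by norm_num) (by rw [h]; norm_num)

theorem no_5558 {G : Type*} [Group G] [Finite G] [IsSimpleGroup G]
    (hG : ¬ IsMulCommutative G) (h : Nat.card G = 5558) : False := by
  exact ev hG (by rw [h]; exact ⟨2779, by norm_num⟩) (by rw [h]; omega)

theorem no_5559 {G : Type*} [Group G] [Finite G] [IsSimpleGroup G]
    (hG : ¬ IsMulCommutative G) (h : Nat.card G = 5559) : False := by
  have : Fact (Nat.Prime 109) := ⟨by norm_num⟩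
  have hc : Nat.card G = 109 ^ 1 * 51 := by rw [h]; norm_num
  have hm : ¬ 109 ∣ 51 := by norm_num
  have hmem := card_sylow_mem_candidates hc hm
  have hcand : sylowCandidates 109 51 = [1] := by decide
  rw [hcand] at hmem
  simp only [List.mem_cons, List.not_mem_nil, or_false] at hmem
  have hlt := one_lt_card_sylow_of_card hc hm (by norm_num) (by norm_num)
  have hd := hmem
  · omega

theorem no_5560 {G : Type*} [Group G] [Finite G] [IsSimpleGroup G]
    (hG : ¬ IsMulCommutative G) (h : Nat.card G = 5560) : False := by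
  exact ev hG (by rw [h]; exact ⟨2780, by norm_num⟩) (by rw [h]; omega)

theorem no_5561 {G : Type*} [Group G] [Finite G] [IsSimpleGroup G]
    (hG : ¬ IsMulCommutative G) (h : Nat.card G = 5561) : False := by
  exact tp hG 67 83 1 1 (by norm_num) (by norm_num) (by rw [h]; norm_num)

theorem no_5562 {G : Type*} [Group G] [Finite G] [IsSimpleGroup G]
    (hG : ¬ IsMulCommutative G) (h : Nat.card G = 5562) : False := by
  exact ev hG (by rw [h]; exact ⟨2781, by norm_num⟩) (by rw [h]; omega)

theorem no_5563 {G : Type*} [Group G] [Finite G] [IsSimpleGroup G]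
    (hG : ¬ IsMulCommutative G) (h : Nat.card G = 5563) : False := by
  exact tp hG 5563 2 1 0 (by norm_num) (by norm_num) (by rw [h]; norm_num)

theorem no_5564 {G : Type*} [Group G] [Finite G] [IsSimpleGroup G]
    (hG : ¬ IsMulCommutative G) (h : Nat.card G = 5564) : False := by
  exact ev hG (by rw [h]; exact ⟨2782, by norm_num⟩) (by rw [h]; omega)

theorem no_5565 {G : Type*} [Group G] [Finite G] [IsSimpleGroup G]
    (hG : ¬ IsMulCommutative G) (h : Nat.card G = 5565) : False := by
  have : Fact (Nat.Prime 53) := ⟨by norm_num⟩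
  have hc : Nat.card G = 53 ^ 1 * 105 := by rw [h]; norm_num
  have hm : ¬ 53 ∣ 105 := by norm_num
  have hmem := card_sylow_mem_candidates hc hm
  have hcand : sylowCandidates 53 105 = [1] := by decide
  rw [hcand] at hmem
  simp only [List.mem_cons, List.not_mem_nil, or_false] at hmem
  have hlt := one_lt_card_sylow_of_card hc hm (by norm_num) (by norm_num)
  have hd := hmem
  · omega

theorem no_5566 {G : Type*} [Group G] [Finite G] [IsSimpleGroup G]
    (hG : ¬ IsMulCommutative G) (h : Nat.card G = 5566) : False := by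
  exact ev hG (by rw [h]; exact ⟨2783, by norm_num⟩) (by rw [h]; omega)

theorem no_5567 {G : Type*} [Group G] [Finite G] [IsSimpleGroup G]
    (hG : ¬ IsMulCommutative G) (h : Nat.card G = 5567) : False := by
  exact tp hG 19 293 1 1 (by norm_num) (by norm_num) (by rw [h]; norm_num)

theorem no_5568 {G : Type*} [Group G] [Finite G] [IsSimpleGroup G]
    (hG : ¬ IsMulCommutative G) (h : Nat.card G = 5568) : False := by
  have : Fact (Nat.Prime 29) := ⟨by norm_num⟩
  have hc : Nat.card G = 29 ^ 1 * 192 := by rw [h]; norm_num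
  have hm : ¬ 29 ∣ 192 := by norm_num
  have hmem := card_sylow_mem_candidates hc hm
  have hcand : sylowCandidates 29 192 = [1] := by decide
  rw [hcand] at hmem
  simp only [List.mem_cons, List.not_mem_nil, or_false] at hmem
  have hlt := one_lt_card_sylow_of_card hc hm (by norm_num) (by norm_num)
  have hd := hmem
  · omega

theorem no_5569 {G : Type*} [Group G] [Finite G] [IsSimpleGroup G]
    (hG : ¬ IsMulCommutative G) (h : Nat.card G = 5569) : False := by
  exact tp hG 5569 2 1 0 (by norm_num) (by norm_num) (by rw [h]; norm_num)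

theorem no_5570 {G : Type*} [Group G] [Finite G] [IsSimpleGroup G]
    (hG : ¬ IsMulCommutative G) (h : Nat.card G = 5570) : False := by
  exact ev hG (by rw [h]; exact ⟨2785, by norm_num⟩) (by rw [h]; omega)

theorem no_5571 {G : Type*} [Group G] [Finite G] [IsSimpleGroup G]
    (hG : ¬ IsMulCommutative G) (h : Nat.card G = 5571) : False := by
  exact tp hG 3 619 2 1 (by norm_num) (by norm_num) (by rw [h]; norm_num)

theorem no_5572 {G : Type*} [Group G] [Finite G] [IsSimpleGroup G]
    (hG : ¬ IsMulCommutative G) (h : Nat.card G = 5572) : False := by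
  exact ev hG (by rw [h]; exact ⟨2786, by norm_num⟩) (by rw [h]; omega)

theorem no_5573 {G : Type*} [Group G] [Finite G] [IsSimpleGroup G]
    (hG : ¬ IsMulCommutative G) (h : Nat.card G = 5573) : False := by
  exact tp hG 5573 2 1 0 (by norm_num) (by norm_num) (by rw [h]; norm_num)

theorem no_5574 {G : Type*} [Group G] [Finite G] [IsSimpleGroup G]
    (hG : ¬ IsMulCommutative G) (h : Nat.card G = 5574) : False := by
  exact ev hG (by rw [h]; exact ⟨2787, by norm_num⟩) (by rw [h]; omega)

theorem no_5575 {G : Type*} [Group G] [Finite G] [IsSimpleGroup G]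
    (hG : ¬ IsMulCommutative G) (h : Nat.card G = 5575) : False := by
  exact tp hG 5 223 2 1 (by norm_num) (by norm_num) (by rw [h]; norm_num)

theorem no_5576 {G : Type*} [Group G] [Finite G] [IsSimpleGroup G]
    (hG : ¬ IsMulCommutative G) (h : Nat.card G = 5576) : False := by
  exact ev hG (by rw [h]; exact ⟨2788, by norm_num⟩) (by rw [h]; omega)

theorem no_5577 {G : Type*} [Group G] [Finite G] [IsSimpleGroup G]
    (hG : ¬ IsMulCommutative G) (h : Nat.card G = 5577) : False := by
  have : Fact (Nat.Prime 13) := ⟨by norm_num⟩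
  have hc : Nat.card G = 13 ^ 2 * 33 := by rw [h]; norm_num
  have hm : ¬ 13 ∣ 33 := by norm_num
  have hmem := card_sylow_mem_candidates hc hm
  have hcand : sylowCandidates 13 33 = [1] := by decide
  rw [hcand] at hmem
  simp only [List.mem_cons, List.not_mem_nil, or_false] at hmem
  have hlt := one_lt_card_sylow_of_card hc hm (by norm_num) (by norm_num)
  have hd := hmem
  · omega

theorem no_5578 {G : Type*} [Group G] [Finite G] [IsSimpleGroup G]
    (hG : ¬ IsMulCommutative G) (h : Nat.card G = 5578) : False := by
  exact tp hG 2 2789 1 1 (by norm_num) (by norm_num) (by rw [h]; norm_num)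

theorem no_5579 {G : Type*} [Group G] [Finite G] [IsSimpleGroup G]
    (hG : ¬ IsMulCommutative G) (h : Nat.card G = 5579) : False := by
  exact tp hG 7 797 1 1 (by norm_num) (by norm_num) (by rw [h]; norm_num)

theorem no_5580 {G : Type*} [Group G] [Finite G] [IsSimpleGroup G]
    (hG : ¬ IsMulCommutative G) (h : Nat.card G = 5580) : False := by
  have : Fact (Nat.Prime 31) := ⟨by norm_num⟩
  have hc : Nat.card G = 31 ^ 1 * 180 := by rw [h]; norm_num
  have hm : ¬ 31 ∣ 180 := by norm_num
  have hmem := card_sylow_mem_candidates hc hm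
  have hcand : sylowCandidates 31 180 = [1] := by decide
  rw [hcand] at hmem
  simp only [List.mem_cons, List.not_mem_nil, or_false] at hmem
  have hlt := one_lt_card_sylow_of_card hc hm (by norm_num) (by norm_num)
  have hd := hmem
  · omega

theorem no_5581 {G : Type*} [Group G] [Finite G] [IsSimpleGroup G]
    (hG : ¬ IsMulCommutative G) (h : Nat.card G = 5581) : False := by
  exact tp hG 5581 2 1 0 (by norm_num) (by norm_num) (by rw [h]; norm_num)

theorem no_5582 {G : Type*} [Group G] [Finite G] [IsSimpleGroup G]
    (hG : ¬ IsMulCommutative G) (h : Nat.card G = 5582) : False := by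
  exact tp hG 2 2791 1 1 (by norm_num) (by norm_num) (by rw [h]; norm_num)

theorem no_5583 {G : Type*} [Group G] [Finite G] [IsSimpleGroup G]
    (hG : ¬ IsMulCommutative G) (h : Nat.card G = 5583) : False := by
  exact tp hG 3 1861 1 1 (by norm_num) (by norm_num) (by rw [h]; norm_num)

theorem no_5584 {G : Type*} [Group G] [Finite G] [IsSimpleGroup G]
    (hG : ¬ IsMulCommutative G) (h : Nat.card G = 5584) : False := by
  exact tp hG 2 349 4 1 (by norm_num) (by norm_num) (by rw [h]; norm_num)

theorem no_5585 {G : Type*} [Group G] [Finite G] [IsSimpleGroup G]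
    (hG : ¬ IsMulCommutative G) (h : Nat.card G = 5585) : False := by
  exact tp hG 5 1117 1 1 (by norm_num) (by norm_num) (by rw [h]; norm_num)

theorem no_5586 {G : Type*} [Group G] [Finite G] [IsSimpleGroup G]
    (hG : ¬ IsMulCommutative G) (h : Nat.card G = 5586) : False := by
  exact ev hG (by rw [h]; exact ⟨2793, by norm_num⟩) (by rw [h]; omega)

theorem no_5587 {G : Type*} [Group G] [Finite G] [IsSimpleGroup G]
    (hG : ¬ IsMulCommutative G) (h : Nat.card G = 5587) : False := by
  exact tp hG 37 151 1 1 (by norm_num) (by norm_num) (by rw [h]; norm_num)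

theorem no_5588 {G : Type*} [Group G] [Finite G] [IsSimpleGroup G]
    (hG : ¬ IsMulCommutative G) (h : Nat.card G = 5588) : False := by
  exact ev hG (by rw [h]; exact ⟨2794, by norm_num⟩) (by rw [h]; omega)

theorem no_5589 {G : Type*} [Group G] [Finite G] [IsSimpleGroup G]
    (hG : ¬ IsMulCommutative G) (h : Nat.card G = 5589) : False := by
  exact tp hG 3 23 5 1 (by norm_num) (by norm_num) (by rw [h]; norm_num)

theorem no_5590 {G : Type*} [Group G] [Finite G] [IsSimpleGroup G]
    (hG : ¬ IsMulCommutative G) (h : Nat.card G = 5590) : False := by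
  exact ev hG (by rw [h]; exact ⟨2795, by norm_num⟩) (by rw [h]; omega)

theorem no_5591 {G : Type*} [Group G] [Finite G] [IsSimpleGroup G]
    (hG : ¬ IsMulCommutative G) (h : Nat.card G = 5591) : False := by
  exact tp hG 5591 2 1 0 (by norm_num) (by norm_num) (by rw [h]; norm_num)

theorem no_5592 {G : Type*} [Group G] [Finite G] [IsSimpleGroup G]
    (hG : ¬ IsMulCommutative G) (h : Nat.card G = 5592) : False := by
  have : Fact (Nat.Prime 233) := ⟨by norm_num⟩
  have hc : Nat.card G = 233 ^ 1 * 24 := by rw [h]; norm_num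
  have hm : ¬ 233 ∣ 24 := by norm_num
  have hmem := card_sylow_mem_candidates hc hm
  have hcand : sylowCandidates 233 24 = [1] := by decide
  rw [hcand] at hmem
  simp only [List.mem_cons, List.not_mem_nil, or_false] at hmem
  have hlt := one_lt_card_sylow_of_card hc hm (by norm_num) (by norm_num)
  have hd := hmem
  · omega

theorem no_5593 {G : Type*} [Group G] [Finite G] [IsSimpleGroup G]
    (hG : ¬ IsMulCommutative G) (h : Nat.card G = 5593) : False := by
  have : Fact (Nat.Prime 47) := ⟨by norm_num⟩
  have hc : Nat.card G = 47 ^ 1 * 119 := by rw [h]; norm_num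
  have hm : ¬ 47 ∣ 119 := by norm_num
  have hmem := card_sylow_mem_candidates hc hm
  have hcand : sylowCandidates 47 119 = [1] := by decide
  rw [hcand] at hmem
  simp only [List.mem_cons, List.not_mem_nil, or_false] at hmem
  have hlt := one_lt_card_sylow_of_card hc hm (by norm_num) (by norm_num)
  have hd := hmem
  · omega

theorem no_5594 {G : Type*} [Group G] [Finite G] [IsSimpleGroup G]
    (hG : ¬ IsMulCommutative G) (h : Nat.card G = 5594) : False := by
  exact tp hG 2 2797 1 1 (by norm_num) (by norm_num) (by rw [h]; norm_num)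

theorem no_5595 {G : Type*} [Group G] [Finite G] [IsSimpleGroup G]
    (hG : ¬ IsMulCommutative G) (h : Nat.card G = 5595) : False := by
  have : Fact (Nat.Prime 373) := ⟨by norm_num⟩
  have hc : Nat.card G = 373 ^ 1 * 15 := by rw [h]; norm_num
  have hm : ¬ 373 ∣ 15 := by norm_num
  have hmem := card_sylow_mem_candidates hc hm
  have hcand : sylowCandidates 373 15 = [1] := by decide
  rw [hcand] at hmem
  simp only [List.mem_cons, List.not_mem_nil, or_false] at hmem
  have hlt := one_lt_card_sylow_of_card hc hm (by norm_num) (by norm_num)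
  have hd := hmem
  · omega

theorem no_5596 {G : Type*} [Group G] [Finite G] [IsSimpleGroup G]
    (hG : ¬ IsMulCommutative G) (h : Nat.card G = 5596) : False := by
  exact tp hG 2 1399 2 1 (by norm_num) (by norm_num) (by rw [h]; norm_num)

theorem no_5597 {G : Type*} [Group G] [Finite G] [IsSimpleGroup G]
    (hG : ¬ IsMulCommutative G) (h : Nat.card G = 5597) : False := by
  exact tp hG 29 193 1 1 (by norm_num) (by norm_num) (by rw [h]; norm_num)

theorem no_5598 {G : Type*} [Group G] [Finite G] [IsSimpleGroup G]
    (hG : ¬ IsMulCommutative G) (h : Nat.card G = 5598) : False := by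
  exact ev hG (by rw [h]; exact ⟨2799, by norm_num⟩) (by rw [h]; omega)

theorem no_5599 {G : Type*} [Group G] [Finite G] [IsSimpleGroup G]
    (hG : ¬ IsMulCommutative G) (h : Nat.card G = 5599) : False := by
  exact tp hG 11 509 1 1 (by norm_num) (by norm_num) (by rw [h]; norm_num)

/-- the orders in [5501, 5600] not excluded by the engine -/
theorem chunk {G : Type*} [Group G] [Finite G] [IsSimpleGroup G]
    (hG : ¬ IsMulCommutative G) (n : ℕ) (hn : Nat.card G = n) (h1 : 5501 ≤ n) (h2 : n ≤ 5600) :
    n = 5600 := by
  interval_cases n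
  · exact (no_5501 hG hn).elim
  · exact (no_5502 hG hn).elim
  · exact (no_5503 hG hn).elim
  · exact (no_5504 hG hn).elim
  · exact (no_5505 hG hn).elim
  · exact (no_5506 hG hn).elim
  · exact (no_5507 hG hn).elim
  · exact (no_5508 hG hn).elim
  · exact (no_5509 hG hn).elim
  · exact (no_5510 hG hn).elim
  · exact (no_5511 hG hn).elim
  · exact (no_5512 hG hn).elim
  · exact (no_5513 hG hn).elim
  · exact (no_5514 hG hn).elim
  · exact (no_5515 hG hn).elim
  · exact (no_5516 hG hn).elim
  · exact (no_5517 hG hn).elim
  · exact (no_5518 hG hn).elim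
  · exact (no_5519 hG hn).elim
  · exact (no_5520 hG hn).elim
  · exact (no_5521 hG hn).elim
  · exact (no_5522 hG hn).elim
  · exact (no_5523 hG hn).elim
  · exact (no_5524 hG hn).elim
  · exact (no_5525 hG hn).elim
  · exact (no_5526 hG hn).elim
  · exact (no_5527 hG hn).elim
  · exact (no_5528 hG hn).elim
  · exact (no_5529 hG hn).elim
  · exact (no_5530 hG hn).elim
  · exact (no_5531 hG hn).elim
  · exact (no_5532 hG hn).elim
  · exact (no_5533 hG hn).elim
  · exact (no_5534 hG hn).elim
  · exact (no_5535 hG hn).elim
  · exact (no_5536 hG hn).elim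
  · exact (no_5537 hG hn).elim
  · exact (no_5538 hG hn).elim
  · exact (no_5539 hG hn).elim
  · exact (no_5540 hG hn).elim
  · exact (no_5541 hG hn).elim
  · exact (no_5542 hG hn).elim
  · exact (no_5543 hG hn).elim
  · exact (no_5544 hG hn).elim
  · exact (no_5545 hG hn).elim
  · exact (no_5546 hG hn).elim
  · exact (no_5547 hG hn).elim
  · exact (no_5548 hG hn).elim
  · exact (no_5549 hG hn).elim
  · exact (no_5550 hG hn).elim
  · exact (no_5551 hG hn).elim
  · exact (no_5552 hG hn).elim
  · exact (no_5553 hG hn).elim
  · exact (no_5554 hG hn).elim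
  · exact (no_5555 hG hn).elim
  · exact (no_5556 hG hn).elim
  · exact (no_5557 hG hn).elim
  · exact (no_5558 hG hn).elim
  · exact (no_5559 hG hn).elim
  · exact (no_5560 hG hn).elim
  · exact (no_5561 hG hn).elim
  · exact (no_5562 hG hn).elim
  · exact (no_5563 hG hn).elim
  · exact (no_5564 hG hn).elim
  · exact (no_5565 hG hn).elim
  · exact (no_5566 hG hn).elim
  · exact (no_5567 hG hn).elim
  · exact (no_5568 hG hn).elim
  · exact (no_5569 hG hn).elim
  · exact (no_5570 hG hn).elim
  · exact (no_5571 hG hn).elim
  · exact (no_5572 hG hn).elim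
  · exact (no_5573 hG hn).elim
  · exact (no_5574 hG hn).elim
  · exact (no_5575 hG hn).elim
  · exact (no_5576 hG hn).elim
  · exact (no_5577 hG hn).elim
  · exact (no_5578 hG hn).elim
  · exact (no_5579 hG hn).elim
  · exact (no_5580 hG hn).elim
  · exact (no_5581 hG hn).elim
  · exact (no_5582 hG hn).elim
  · exact (no_5583 hG hn).elim
  · exact (no_5584 hG hn).elim
  · exact (no_5585 hG hn).elim
  · exact (no_5586 hG hn).elim
  · exact (no_5587 hG hn).elim
  · exact (no_5588 hG hn).elim
  · exact (no_5589 hG hn).elim
  · exact (no_5590 hG hn).elim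
  · exact (no_5591 hG hn).elim
  · exact (no_5592 hG hn).elim
  · exact (no_5593 hG hn).elim
  · exact (no_5594 hG hn).elim
  · exact (no_5595 hG hn).elim
  · exact (no_5596 hG hn).elim
  · exact (no_5597 hG hn).elim
  · exact (no_5598 hG hn).elim
  · exact (no_5599 hG hn).elim
  · simp

end Cfsg.Agent.Lib.Helper16_SO_E19
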