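import Mathlib
import Cfsg.Agent.Lib.Helper75_SM_Base

/-!
# S0983 engine, generated file: no simple group of order N for the easy N in [5601, 5700]
(helper16; same scheme as helper75's `Helper75_SM_E*`)
-/

set_option autoImplicit false
set_option linter.unusedVariables false

namespace Cfsg.Agent.Lib.Helper16_SO_E20

open Cfsg.Agent.Lib.Helper17_Sylow Cfsg.Agent.Lib.Helper75_SM_Base

theorem no_5601 {G : Type*} [Group G] [Finite G] [IsSimpleGroup G]
    (hG : ¬ IsMulCommutative G) (h : Nat.card G = 5601) : False := by
  exact tp hG 3 1867 1 1 (by norm_num) (by norm_num) (by rw [h]; norm_num)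

theorem no_5602 {G : Type*} [Group G] [Finite G] [IsSimpleGroup G]
    (hG : ¬ IsMulCommutative G) (h : Nat.card G = 5602) : False := by
  exact tp hG 2 2801 1 1 (by norm_num) (by norm_num) (by rw [h]; norm_num)

theorem no_5603 {G : Type*} [Group G] [Finite G] [IsSimpleGroup G]
    (hG : ¬ IsMulCommutative G) (h : Nat.card G = 5603) : False := by
  exact tp hG 13 431 1 1 (by norm_num) (by norm_num) (by rw [h]; norm_num)

theorem no_5604 {G : Type*} [Group G] [Finite G] [IsSimpleGroup G]
    (hG : ¬ IsMulCommutative G) (h : Nat.card G = 5604) : False := by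
  have : Fact (Nat.Prime 467) := ⟨by norm_num⟩
  have hc : Nat.card G = 467 ^ 1 * 12 := by rw [h]; norm_num
  have hm : ¬ 467 ∣ 12 := by norm_num
  have hmem := card_sylow_mem_candidates hc hm
  have hcand : sylowCandidates 467 12 = [1] := by decide
  rw [hcand] at hmem
  simp only [List.mem_cons, List.not_mem_nil, or_false] at hmem
  have hlt := one_lt_card_sylow_of_card hc hm (by norm_num) (by norm_num)
  have hd := hmem
  · omega

theorem no_5605 {G : Type*} [Group G] [Finite G] [IsSimpleGroup G]
    (hG : ¬ IsMulCommutative G) (h : Nat.card G = 5605) : False := by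
  have : Fact (Nat.Prime 59) := ⟨by norm_num⟩
  have hc : Nat.card G = 59 ^ 1 * 95 := by rw [h]; norm_num
  have hm : ¬ 59 ∣ 95 := by norm_num
  have hmem := card_sylow_mem_candidates hc hm
  have hcand : sylowCandidates 59 95 = [1] := by decide
  rw [hcand] at hmem
  simp only [List.mem_cons, List.not_mem_nil, or_false] at hmem
  have hlt := one_lt_card_sylow_of_card hc hm (by norm_num) (by norm_num)
  have hd := hmem
  · omega

theorem no_5606 {G : Type*} [Group G] [Finite G] [IsSimpleGroup G]
    (hG : ¬ IsMulCommutative G) (h : Nat.card G = 5606) : False := by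
  exact tp hG 2 2803 1 1 (by norm_num) (by norm_num) (by rw [h]; norm_num)

theorem no_5607 {G : Type*} [Group G] [Finite G] [IsSimpleGroup G]
    (hG : ¬ IsMulCommutative G) (h : Nat.card G = 5607) : False := by
  have : Fact (Nat.Prime 89) := ⟨by norm_num⟩
  have hc : Nat.card G = 89 ^ 1 * 63 := by rw [h]; norm_num
  have hm : ¬ 89 ∣ 63 := by norm_num
  have hmem := card_sylow_mem_candidates hc hm
  have hcand : sylowCandidates 89 63 = [1] := by decide
  rw [hcand] at hmem
  simp only [List.mem_cons, List.not_mem_nil, or_false] at hmem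
  have hlt := one_lt_card_sylow_of_card hc hm (by norm_num) (by norm_num)
  have hd := hmem
  · omega

theorem no_5608 {G : Type*} [Group G] [Finite G] [IsSimpleGroup G]
    (hG : ¬ IsMulCommutative G) (h : Nat.card G = 5608) : False := by
  exact tp hG 2 701 3 1 (by norm_num) (by norm_num) (by rw [h]; norm_num)

theorem no_5609 {G : Type*} [Group G] [Finite G] [IsSimpleGroup G]
    (hG : ¬ IsMulCommutative G) (h : Nat.card G = 5609) : False := by
  exact tp hG 71 79 1 1 (by norm_num) (by norm_num) (by rw [h]; norm_num)

theorem no_5610 {G : Type*} [Group G] [Finite G] [IsSimpleGroup G]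
    (hG : ¬ IsMulCommutative G) (h : Nat.card G = 5610) : False := by
  exact ev hG (by rw [h]; exact ⟨2805, by norm_num⟩) (by rw [h]; omega)

theorem no_5611 {G : Type*} [Group G] [Finite G] [IsSimpleGroup G]
    (hG : ¬ IsMulCommutative G) (h : Nat.card G = 5611) : False := by
  exact tp hG 31 181 1 1 (by norm_num) (by norm_num) (by rw [h]; norm_num)

theorem no_5612 {G : Type*} [Group G] [Finite G] [IsSimpleGroup G]
    (hG : ¬ IsMulCommutative G) (h : Nat.card G = 5612) : False := by
  exact ev hG (by rw [h]; exact ⟨2806, by norm_num⟩) (by rw [h]; omega)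

theorem no_5613 {G : Type*} [Group G] [Finite G] [IsSimpleGroup G]
    (hG : ¬ IsMulCommutative G) (h : Nat.card G = 5613) : False := by
  exact tp hG 3 1871 1 1 (by norm_num) (by norm_num) (by rw [h]; norm_num)

theorem no_5614 {G : Type*} [Group G] [Finite G] [IsSimpleGroup G]
    (hG : ¬ IsMulCommutative G) (h : Nat.card G = 5614) : False := by
  exact ev hG (by rw [h]; exact ⟨2807, by norm_num⟩) (by rw [h]; omega)

theorem no_5615 {G : Type*} [Group G] [Finite G] [IsSimpleGroup G]
    (hG : ¬ IsMulCommutative G) (h : Nat.card G = 5615) : False := by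
  exact tp hG 5 1123 1 1 (by norm_num) (by norm_num) (by rw [h]; norm_num)

theorem no_5617 {G : Type*} [Group G] [Finite G] [IsSimpleGroup G]
    (hG : ¬ IsMulCommutative G) (h : Nat.card G = 5617) : False := by
  exact tp hG 41 137 1 1 (by norm_num) (by norm_num) (by rw [h]; norm_num)

theorem no_5618 {G : Type*} [Group G] [Finite G] [IsSimpleGroup G]
    (hG : ¬ IsMulCommutative G) (h : Nat.card G = 5618) : False := by
  exact tp hG 2 53 1 2 (by norm_num) (by norm_num) (by rw [h]; norm_num)

theorem no_5619 {G : Type*} [Group G] [Finite G] [IsSimpleGroup G]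
    (hG : ¬ IsMulCommutative G) (h : Nat.card G = 5619) : False := by
  exact tp hG 3 1873 1 1 (by norm_num) (by norm_num) (by rw [h]; norm_num)

theorem no_5620 {G : Type*} [Group G] [Finite G] [IsSimpleGroup G]
    (hG : ¬ IsMulCommutative G) (h : Nat.card G = 5620) : False := by
  exact ev hG (by rw [h]; exact ⟨2810, by norm_num⟩) (by rw [h]; omega)

theorem no_5621 {G : Type*} [Group G] [Finite G] [IsSimpleGroup G]
    (hG : ¬ IsMulCommutative G) (h : Nat.card G = 5621) : False := by
  have : Fact (Nat.Prime 73) := ⟨by norm_num⟩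
  have hc : Nat.card G = 73 ^ 1 * 77 := by rw [h]; norm_num
  have hm : ¬ 73 ∣ 77 := by norm_num
  have hmem := card_sylow_mem_candidates hc hm
  have hcand : sylowCandidates 73 77 = [1] := by decide
  rw [hcand] at hmem
  simp only [List.mem_cons, List.not_mem_nil, or_false] at hmem
  have hlt := one_lt_card_sylow_of_card hc hm (by norm_num) (by norm_num)
  have hd := hmem
  · omega

theorem no_5622 {G : Type*} [Group G] [Finite G] [IsSimpleGroup G]
    (hG : ¬ IsMulCommutative G) (h : Nat.card G = 5622) : False := by
  exact ev hG (by rw [h]; exact ⟨2811, by norm_num⟩) (by rw [h]; omega)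

theorem no_5623 {G : Type*} [Group G] [Finite G] [IsSimpleGroup G]
    (hG : ¬ IsMulCommutative G) (h : Nat.card G = 5623) : False := by
  exact tp hG 5623 2 1 0 (by norm_num) (by norm_num) (by rw [h]; norm_num)

theorem no_5624 {G : Type*} [Group G] [Finite G] [IsSimpleGroup G]
    (hG : ¬ IsMulCommutative G) (h : Nat.card G = 5624) : False := by
  exact ev hG (by rw [h]; exact ⟨2812, by norm_num⟩) (by rw [h]; omega)

theorem no_5625 {G : Type*} [Group G] [Finite G] [IsSimpleGroup G]
    (hG : ¬ IsMulCommutative G) (h : Nat.card G = 5625) : False := by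
  exact tp hG 3 5 2 4 (by norm_num) (by norm_num) (by rw [h]; norm_num)

theorem no_5626 {G : Type*} [Group G] [Finite G] [IsSimpleGroup G]
    (hG : ¬ IsMulCommutative G) (h : Nat.card G = 5626) : False := by
  exact ev hG (by rw [h]; exact ⟨2813, by norm_num⟩) (by rw [h]; omega)

theorem no_5627 {G : Type*} [Group G] [Finite G] [IsSimpleGroup G]
    (hG : ¬ IsMulCommutative G) (h : Nat.card G = 5627) : False := by
  exact tp hG 17 331 1 1 (by norm_num) (by norm_num) (by rw [h]; norm_num)

theorem no_5628 {G : Type*} [Group G] [Finite G] [IsSimpleGroup G]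
    (hG : ¬ IsMulCommutative G) (h : Nat.card G = 5628) : False := by
  have : Fact (Nat.Prime 67) := ⟨by norm_num⟩
  have hc : Nat.card G = 67 ^ 1 * 84 := by rw [h]; norm_num
  have hm : ¬ 67 ∣ 84 := by norm_num
  have hmem := card_sylow_mem_candidates hc hm
  have hcand : sylowCandidates 67 84 = [1] := by decide
  rw [hcand] at hmem
  simp only [List.mem_cons, List.not_mem_nil, or_false] at hmem
  have hlt := one_lt_card_sylow_of_card hc hm (by norm_num) (by norm_num)
  have hd := hmem
  · omega

theorem no_5629 {G : Type*} [Group G] [Finite G] [IsSimpleGroup G]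
    (hG : ¬ IsMulCommutative G) (h : Nat.card G = 5629) : False := by
  exact tp hG 13 433 1 1 (by norm_num) (by norm_num) (by rw [h]; norm_num)

theorem no_5630 {G : Type*} [Group G] [Finite G] [IsSimpleGroup G]
    (hG : ¬ IsMulCommutative G) (h : Nat.card G = 5630) : False := by
  exact ev hG (by rw [h]; exact ⟨2815, by norm_num⟩) (by rw [h]; omega)

theorem no_5631 {G : Type*} [Group G] [Finite G] [IsSimpleGroup G]
    (hG : ¬ IsMulCommutative G) (h : Nat.card G = 5631) : False := by
  exact tp hG 3 1877 1 1 (by norm_num) (by norm_num) (by rw [h]; norm_num)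

theorem no_5632 {G : Type*} [Group G] [Finite G] [IsSimpleGroup G]
    (hG : ¬ IsMulCommutative G) (h : Nat.card G = 5632) : False := by
  exact tp hG 2 11 9 1 (by norm_num) (by norm_num) (by rw [h]; norm_num)

theorem no_5633 {G : Type*} [Group G] [Finite G] [IsSimpleGroup G]
    (hG : ¬ IsMulCommutative G) (h : Nat.card G = 5633) : False := by
  exact tp hG 43 131 1 1 (by norm_num) (by norm_num) (by rw [h]; norm_num)

theorem no_5634 {G : Type*} [Group G] [Finite G] [IsSimpleGroup G]
    (hG : ¬ IsMulCommutative G) (h : Nat.card G = 5634) : False := by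
  exact ev hG (by rw [h]; exact ⟨2817, by norm_num⟩) (by rw [h]; omega)

theorem no_5635 {G : Type*} [Group G] [Finite G] [IsSimpleGroup G]
    (hG : ¬ IsMulCommutative G) (h : Nat.card G = 5635) : False := by
  have : Fact (Nat.Prime 23) := ⟨by norm_num⟩
  have hc : Nat.card G = 23 ^ 1 * 245 := by rw [h]; norm_num
  have hm : ¬ 23 ∣ 245 := by norm_num
  have hmem := card_sylow_mem_candidates hc hm
  have hcand : sylowCandidates 23 245 = [1] := by decide
  rw [hcand] at hmem
  simp only [List.mem_cons, List.not_mem_nil, or_false] at hmem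
  have hlt := one_lt_card_sylow_of_card hc hm (by norm_num) (by norm_num)
  have hd := hmem
  · omega

theorem no_5636 {G : Type*} [Group G] [Finite G] [IsSimpleGroup G]
    (hG : ¬ IsMulCommutative G) (h : Nat.card G = 5636) : False := by
  exact tp hG 2 1409 2 1 (by norm_num) (by norm_num) (by rw [h]; norm_num)

theorem no_5637 {G : Type*} [Group G] [Finite G] [IsSimpleGroup G]
    (hG : ¬ IsMulCommutative G) (h : Nat.card G = 5637) : False := by
  exact tp hG 3 1879 1 1 (by norm_num) (by norm_num) (by rw [h]; norm_num)

theorem no_5638 {G : Type*} [Group G] [Finite G] [IsSimpleGroup G]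
    (hG : ¬ IsMulCommutative G) (h : Nat.card G = 5638) : False := by
  exact tp hG 2 2819 1 1 (by norm_num) (by norm_num) (by rw [h]; norm_num)

theorem no_5639 {G : Type*} [Group G] [Finite G] [IsSimpleGroup G]
    (hG : ¬ IsMulCommutative G) (h : Nat.card G = 5639) : False := by
  exact tp hG 5639 2 1 0 (by norm_num) (by norm_num) (by rw [h]; norm_num)

theorem no_5640 {G : Type*} [Group G] [Finite G] [IsSimpleGroup G]
    (hG : ¬ IsMulCommutative G) (h : Nat.card G = 5640) : False := by
  have : Fact (Nat.Prime 47) := ⟨by norm_num⟩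
  have hc : Nat.card G = 47 ^ 1 * 120 := by rw [h]; norm_num
  have hm : ¬ 47 ∣ 120 := by norm_num
  have hmem := card_sylow_mem_candidates hc hm
  have hcand : sylowCandidates 47 120 = [1] := by decide
  rw [hcand] at hmem
  simp only [List.mem_cons, List.not_mem_nil, or_false] at hmem
  have hlt := one_lt_card_sylow_of_card hc hm (by norm_num) (by norm_num)
  have hd := hmem
  · omega

theorem no_5641 {G : Type*} [Group G] [Finite G] [IsSimpleGroup G]
    (hG : ¬ IsMulCommutative G) (h : Nat.card G = 5641) : False := by
  exact tp hG 5641 2 1 0 (by norm_num) (by norm_num) (by rw [h]; norm_num)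

theorem no_5642 {G : Type*} [Group G] [Finite G] [IsSimpleGroup G]
    (hG : ¬ IsMulCommutative G) (h : Nat.card G = 5642) : False := by
  exact ev hG (by rw [h]; exact ⟨2821, by norm_num⟩) (by rw [h]; omega)

theorem no_5643 {G : Type*} [Group G] [Finite G] [IsSimpleGroup G]
    (hG : ¬ IsMulCommutative G) (h : Nat.card G = 5643) : False := by
  have : Fact (Nat.Prime 19) := ⟨by norm_num⟩
  have hc : Nat.card G = 19 ^ 1 * 297 := by rw [h]; norm_num
  have hm : ¬ 19 ∣ 297 := by norm_num
  have hmem := card_sylow_mem_candidates hc hm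
  have hcand : sylowCandidates 19 297 = [1] := by decide
  rw [hcand] at hmem
  simp only [List.mem_cons, List.not_mem_nil, or_false] at hmem
  have hlt := one_lt_card_sylow_of_card hc hm (by norm_num) (by norm_num)
  have hd := hmem
  · omega

theorem no_5644 {G : Type*} [Group G] [Finite G] [IsSimpleGroup G]
    (hG : ¬ IsMulCommutative G) (h : Nat.card G = 5644) : False := by
  exact ev hG (by rw [h]; exact ⟨2822, by norm_num⟩) (by rw [h]; omega)

theorem no_5645 {G : Type*} [Group G] [Finite G] [IsSimpleGroup G]
    (hG : ¬ IsMulCommutative G) (h : Nat.card G = 5645) : False := by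
  exact tp hG 5 1129 1 1 (by norm_num) (by norm_num) (by rw [h]; norm_num)

theorem no_5646 {G : Type*} [Group G] [Finite G] [IsSimpleGroup G]
    (hG : ¬ IsMulCommutative G) (h : Nat.card G = 5646) : False := by
  exact ev hG (by rw [h]; exact ⟨2823, by norm_num⟩) (by rw [h]; omega)

theorem no_5647 {G : Type*} [Group G] [Finite G] [IsSimpleGroup G]
    (hG : ¬ IsMulCommutative G) (h : Nat.card G = 5647) : False := by
  exact tp hG 5647 2 1 0 (by norm_num) (by norm_num) (by rw [h]; norm_num)

theorem no_5648 {G : Type*} [Group G] [Finite G] [IsSimpleGroup G]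
    (hG : ¬ IsMulCommutative G) (h : Nat.card G = 5648) : False := by
  exact tp hG 2 353 4 1 (by norm_num) (by norm_num) (by rw [h]; norm_num)

theorem no_5649 {G : Type*} [Group G] [Finite G] [IsSimpleGroup G]
    (hG : ¬ IsMulCommutative G) (h : Nat.card G = 5649) : False := by
  have : Fact (Nat.Prime 269) := ⟨by norm_num⟩
  have hc : Nat.card G = 269 ^ 1 * 21 := by rw [h]; norm_num
  have hm : ¬ 269 ∣ 21 := by norm_num
  have hmem := card_sylow_mem_candidates hc hm
  have hcand : sylowCandidates 269 21 = [1] := by decide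
  rw [hcand] at hmem
  simp only [List.mem_cons, List.not_mem_nil, or_false] at hmem
  have hlt := one_lt_card_sylow_of_card hc hm (by norm_num) (by norm_num)
  have hd := hmem
  · omega

theorem no_5650 {G : Type*} [Group G] [Finite G] [IsSimpleGroup G]
    (hG : ¬ IsMulCommutative G) (h : Nat.card G = 5650) : False := by
  exact ev hG (by rw [h]; exact ⟨2825, by norm_num⟩) (by rw [h]; omega)

theorem no_5651 {G : Type*} [Group G] [Finite G] [IsSimpleGroup G]
    (hG : ¬ IsMulCommutative G) (h : Nat.card G = 5651) : False := by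
  exact tp hG 5651 2 1 0 (by norm_num) (by norm_num) (by rw [h]; norm_num)

theorem no_5652 {G : Type*} [Group G] [Finite G] [IsSimpleGroup G]
    (hG : ¬ IsMulCommutative G) (h : Nat.card G = 5652) : False := by
  have : Fact (Nat.Prime 157) := ⟨by norm_num⟩
  have hc : Nat.card G = 157 ^ 1 * 36 := by rw [h]; norm_num
  have hm : ¬ 157 ∣ 36 := by norm_num
  have hmem := card_sylow_mem_candidates hc hm
  have hcand : sylowCandidates 157 36 = [1] := by decide
  rw [hcand] at hmem
  simp only [List.mem_cons, List.not_mem_nil, or_false] at hmem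
  have hlt := one_lt_card_sylow_of_card hc hm (by norm_num) (by norm_num)
  have hd := hmem
  · omega

theorem no_5653 {G : Type*} [Group G] [Finite G] [IsSimpleGroup G]
    (hG : ¬ IsMulCommutative G) (h : Nat.card G = 5653) : False := by
  exact tp hG 5653 2 1 0 (by norm_num) (by norm_num) (by rw [h]; norm_num)

theorem no_5654 {G : Type*} [Group G] [Finite G] [IsSimpleGroup G]
    (hG : ¬ IsMulCommutative G) (h : Nat.card G = 5654) : False := by
  exact ev hG (by rw [h]; exact ⟨2827, by norm_num⟩) (by rw [h]; omega)

theorem no_5655 {G : Type*} [Group G] [Finite G] [IsSimpleGroup G]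
    (hG : ¬ IsMulCommutative G) (h : Nat.card G = 5655) : False := by
  have : Fact (Nat.Prime 29) := ⟨by norm_num⟩
  have hc : Nat.card G = 29 ^ 1 * 195 := by rw [h]; norm_num
  have hm : ¬ 29 ∣ 195 := by norm_num
  have hmem := card_sylow_mem_candidates hc hm
  have hcand : sylowCandidates 29 195 = [1] := by decide
  rw [hcand] at hmem
  simp only [List.mem_cons, List.not_mem_nil, or_false] at hmem
  have hlt := one_lt_card_sylow_of_card hc hm (by norm_num) (by norm_num)
  have hd := hmem
  · omega

theorem no_5656 {G : Type*} [Group G] [Finite G] [IsSimpleGroup G]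
    (hG : ¬ IsMulCommutative G) (h : Nat.card G = 5656) : False := by
  have : Fact (Nat.Prime 101) := ⟨by norm_num⟩
  have hc : Nat.card G = 101 ^ 1 * 56 := by rw [h]; norm_num
  have hm : ¬ 101 ∣ 56 := by norm_num
  have hmem := card_sylow_mem_candidates hc hm
  have hcand : sylowCandidates 101 56 = [1] := by decide
  rw [hcand] at hmem
  simp only [List.mem_cons, List.not_mem_nil, or_false] at hmem
  have hlt := one_lt_card_sylow_of_card hc hm (by norm_num) (by norm_num)
  have hd := hmem
  · omega

theorem no_5657 {G : Type*} [Group G] [Finite G] [IsSimpleGroup G]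
    (hG : ¬ IsMulCommutative G) (h : Nat.card G = 5657) : False := by
  exact tp hG 5657 2 1 0 (by norm_num) (by norm_num) (by rw [h]; norm_num)

theorem no_5658 {G : Type*} [Group G] [Finite G] [IsSimpleGroup G]
    (hG : ¬ IsMulCommutative G) (h : Nat.card G = 5658) : False := by
  exact ev hG (by rw [h]; exact ⟨2829, by norm_num⟩) (by rw [h]; omega)

theorem no_5659 {G : Type*} [Group G] [Finite G] [IsSimpleGroup G]
    (hG : ¬ IsMulCommutative G) (h : Nat.card G = 5659) : False := by
  exact tp hG 5659 2 1 0 (by norm_num) (by norm_num) (by rw [h]; norm_num)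

theorem no_5660 {G : Type*} [Group G] [Finite G] [IsSimpleGroup G]
    (hG : ¬ IsMulCommutative G) (h : Nat.card G = 5660) : False := by
  exact ev hG (by rw [h]; exact ⟨2830, by norm_num⟩) (by rw [h]; omega)

theorem no_5661 {G : Type*} [Group G] [Finite G] [IsSimpleGroup G]
    (hG : ¬ IsMulCommutative G) (h : Nat.card G = 5661) : False := by
  have : Fact (Nat.Prime 37) := ⟨by norm_num⟩
  have hc : Nat.card G = 37 ^ 1 * 153 := by rw [h]; norm_num
  have hm : ¬ 37 ∣ 153 := by norm_num
  have hmem := card_sylow_mem_candidates hc hm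
  have hcand : sylowCandidates 37 153 = [1] := by decide
  rw [hcand] at hmem
  simp only [List.mem_cons, List.not_mem_nil, or_false] at hmem
  have hlt := one_lt_card_sylow_of_card hc hm (by norm_num) (by norm_num)
  have hd := hmem
  · omega

theorem no_5662 {G : Type*} [Group G] [Finite G] [IsSimpleGroup G]
    (hG : ¬ IsMulCommutative G) (h : Nat.card G = 5662) : False := by
  exact ev hG (by rw [h]; exact ⟨2831, by norm_num⟩) (by rw [h]; omega)

theorem no_5663 {G : Type*} [Group G] [Finite G] [IsSimpleGroup G]
    (hG : ¬ IsMulCommutative G) (h : Nat.card G = 5663) : False := by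
  exact tp hG 7 809 1 1 (by norm_num) (by norm_num) (by rw [h]; norm_num)

theorem no_5664 {G : Type*} [Group G] [Finite G] [IsSimpleGroup G]
    (hG : ¬ IsMulCommutative G) (h : Nat.card G = 5664) : False := by
  have : Fact (Nat.Prime 59) := ⟨by norm_num⟩
  have hc : Nat.card G = 59 ^ 1 * 96 := by rw [h]; norm_num
  have hm : ¬ 59 ∣ 96 := by norm_num
  have hmem := card_sylow_mem_candidates hc hm
  have hcand : sylowCandidates 59 96 = [1] := by decide
  rw [hcand] at hmem
  simp only [List.mem_cons, List.not_mem_nil, or_false] at hmem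
  have hlt := one_lt_card_sylow_of_card hc hm (by norm_num) (by norm_num)
  have hd := hmem
  · omega

theorem no_5665 {G : Type*} [Group G] [Finite G] [IsSimpleGroup G]
    (hG : ¬ IsMulCommutative G) (h : Nat.card G = 5665) : False := by
  have : Fact (Nat.Prime 103) := ⟨by norm_num⟩
  have hc : Nat.card G = 103 ^ 1 * 55 := by rw [h]; norm_num
  have hm : ¬ 103 ∣ 55 := by norm_num
  have hmem := card_sylow_mem_candidates hc hm
  have hcand : sylowCandidates 103 55 = [1] := by decide
  rw [hcand] at hmem
  simp only [List.mem_cons, List.not_mem_nil, or_false] at hmem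
  have hlt := one_lt_card_sylow_of_card hc hm (by norm_num) (by norm_num)
  have hd := hmem
  · omega

theorem no_5666 {G : Type*} [Group G] [Finite G] [IsSimpleGroup G]
    (hG : ¬ IsMulCommutative G) (h : Nat.card G = 5666) : False := by
  exact tp hG 2 2833 1 1 (by norm_num) (by norm_num) (by rw [h]; norm_num)

theorem no_5667 {G : Type*} [Group G] [Finite G] [IsSimpleGroup G]
    (hG : ¬ IsMulCommutative G) (h : Nat.card G = 5667) : False := by
  exact tp hG 3 1889 1 1 (by norm_num) (by norm_num) (by rw [h]; norm_num)

theorem no_5668 {G : Type*} [Group G] [Finite G] [IsSimpleGroup G]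
    (hG : ¬ IsMulCommutative G) (h : Nat.card G = 5668) : False := by
  exact ev hG (by rw [h]; exact ⟨2834, by norm_num⟩) (by rw [h]; omega)

theorem no_5669 {G : Type*} [Group G] [Finite G] [IsSimpleGroup G]
    (hG : ¬ IsMulCommutative G) (h : Nat.card G = 5669) : False := by
  exact tp hG 5669 2 1 0 (by norm_num) (by norm_num) (by rw [h]; norm_num)

theorem no_5670 {G : Type*} [Group G] [Finite G] [IsSimpleGroup G]
    (hG : ¬ IsMulCommutative G) (h : Nat.card G = 5670) : False := by
  exact ev hG (by rw [h]; exact ⟨2835, by norm_num⟩) (by rw [h]; omega)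

theorem no_5671 {G : Type*} [Group G] [Finite G] [IsSimpleGroup G]
    (hG : ¬ IsMulCommutative G) (h : Nat.card G = 5671) : False := by
  exact tp hG 53 107 1 1 (by norm_num) (by norm_num) (by rw [h]; norm_num)

theorem no_5672 {G : Type*} [Group G] [Finite G] [IsSimpleGroup G]
    (hG : ¬ IsMulCommutative G) (h : Nat.card G = 5672) : False := by
  exact tp hG 2 709 3 1 (by norm_num) (by norm_num) (by rw [h]; norm_num)

theorem no_5673 {G : Type*} [Group G] [Finite G] [IsSimpleGroup G]
    (hG : ¬ IsMulCommutative G) (h : Nat.card G = 5673) : False := by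
  have : Fact (Nat.Prime 61) := ⟨by norm_num⟩
  have hc : Nat.card G = 61 ^ 1 * 93 := by rw [h]; norm_num
  have hm : ¬ 61 ∣ 93 := by norm_num
  have hmem := card_sylow_mem_candidates hc hm
  have hcand : sylowCandidates 61 93 = [1] := by decide
  rw [hcand] at hmem
  simp only [List.mem_cons, List.not_mem_nil, or_false] at hmem
  have hlt := one_lt_card_sylow_of_card hc hm (by norm_num) (by norm_num)
  have hd := hmem
  · omega

theorem no_5674 {G : Type*} [Group G] [Finite G] [IsSimpleGroup G]
    (hG : ¬ IsMulCommutative G) (h : Nat.card G = 5674) : False := by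
  exact tp hG 2 2837 1 1 (by norm_num) (by norm_num) (by rw [h]; norm_num)

theorem no_5675 {G : Type*} [Group G] [Finite G] [IsSimpleGroup G]
    (hG : ¬ IsMulCommutative G) (h : Nat.card G = 5675) : False := by
  exact tp hG 5 227 2 1 (by norm_num) (by norm_num) (by rw [h]; norm_num)

theorem no_5676 {G : Type*} [Group G] [Finite G] [IsSimpleGroup G]
    (hG : ¬ IsMulCommutative G) (h : Nat.card G = 5676) : False := by
  have : Fact (Nat.Prime 11) := ⟨by norm_num⟩
  have hc : Nat.card G = 11 ^ 1 * 516 := by rw [h]; norm_num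
  have hm : ¬ 11 ∣ 516 := by norm_num
  have hmem := card_sylow_mem_candidates hc hm
  have hcand : sylowCandidates 11 516 = [1, 12] := by decide
  rw [hcand] at hmem
  simp only [List.mem_cons, List.not_mem_nil, or_false] at hmem
  have hlt := one_lt_card_sylow_of_card hc hm (by norm_num) (by norm_num)
  rcases hmem with hd | hd
  · omega
  · exact fact_kill hG 12 hd (by norm_num) (by rw [h]; decide)

theorem no_5677 {G : Type*} [Group G] [Finite G] [IsSimpleGroup G]
    (hG : ¬ IsMulCommutative G) (h : Nat.card G = 5677) : False := by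
  exact tp hG 7 811 1 1 (by norm_num) (by norm_num) (by rw [h]; norm_num)

theorem no_5678 {G : Type*} [Group G] [Finite G] [IsSimpleGroup G]
    (hG : ¬ IsMulCommutative G) (h : Nat.card G = 5678) : False := by
  exact ev hG (by rw [h]; exact ⟨2839, by norm_num⟩) (by rw [h]; omega)

theorem no_5679 {G : Type*} [Group G] [Finite G] [IsSimpleGroup G]
    (hG : ¬ IsMulCommutative G) (h : Nat.card G = 5679) : False := by
  exact tp hG 3 631 2 1 (by norm_num) (by norm_num) (by rw [h]; norm_num)

theorem no_5680 {G : Type*} [Group G] [Finite G] [IsSimpleGroup G]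
    (hG : ¬ IsMulCommutative G) (h : Nat.card G = 5680) : False := by
  have : Fact (Nat.Prime 71) := ⟨by norm_num⟩
  have hc : Nat.card G = 71 ^ 1 * 80 := by rw [h]; norm_num
  have hm : ¬ 71 ∣ 80 := by norm_num
  have hmem := card_sylow_mem_candidates hc hm
  have hcand : sylowCandidates 71 80 = [1] := by decide
  rw [hcand] at hmem
  simp only [List.mem_cons, List.not_mem_nil, or_false] at hmem
  have hlt := one_lt_card_sylow_of_card hc hm (by norm_num) (by norm_num)
  have hd := hmem
  · omega

theorem no_5681 {G : Type*} [Group G] [Finite G] [IsSimpleGroup G]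
    (hG : ¬ IsMulCommutative G) (h : Nat.card G = 5681) : False := by
  have : Fact (Nat.Prime 23) := ⟨by norm_num⟩
  have hc : Nat.card G = 23 ^ 1 * 247 := by rw [h]; norm_num
  have hm : ¬ 23 ∣ 247 := by norm_num
  have hmem := card_sylow_mem_candidates hc hm
  have hcand : sylowCandidates 23 247 = [1] := by decide
  rw [hcand] at hmem
  simp only [List.mem_cons, List.not_mem_nil, or_false] at hmem
  have hlt := one_lt_card_sylow_of_card hc hm (by norm_num) (by norm_num)
  have hd := hmem
  · omega

theorem no_5682 {G : Type*} [Group G] [Finite G] [IsSimpleGroup G]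
    (hG : ¬ IsMulCommutative G) (h : Nat.card G = 5682) : False := by
  exact ev hG (by rw [h]; exact ⟨2841, by norm_num⟩) (by rw [h]; omega)

theorem no_5683 {G : Type*} [Group G] [Finite G] [IsSimpleGroup G]
    (hG : ¬ IsMulCommutative G) (h : Nat.card G = 5683) : False := by
  exact tp hG 5683 2 1 0 (by norm_num) (by norm_num) (by rw [h]; norm_num)

theorem no_5684 {G : Type*} [Group G] [Finite G] [IsSimpleGroup G]
    (hG : ¬ IsMulCommutative G) (h : Nat.card G = 5684) : False := by
  exact ev hG (by rw [h]; exact ⟨2842, by norm_num⟩) (by rw [h]; omega)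

theorem no_5685 {G : Type*} [Group G] [Finite G] [IsSimpleGroup G]
    (hG : ¬ IsMulCommutative G) (h : Nat.card G = 5685) : False := by
  have : Fact (Nat.Prime 379) := ⟨by norm_num⟩
  have hc : Nat.card G = 379 ^ 1 * 15 := by rw [h]; norm_num
  have hm : ¬ 379 ∣ 15 := by norm_num
  have hmem := card_sylow_mem_candidates hc hm
  have hcand : sylowCandidates 379 15 = [1] := by decide
  rw [hcand] at hmem
  simp only [List.mem_cons, List.not_mem_nil, or_false] at hmem
  have hlt := one_lt_card_sylow_of_card hc hm (by norm_num) (by norm_num)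
  have hd := hmem
  · omega

theorem no_5686 {G : Type*} [Group G] [Finite G] [IsSimpleGroup G]
    (hG : ¬ IsMulCommutative G) (h : Nat.card G = 5686) : False := by
  exact tp hG 2 2843 1 1 (by norm_num) (by norm_num) (by rw [h]; norm_num)

theorem no_5687 {G : Type*} [Group G] [Finite G] [IsSimpleGroup G]
    (hG : ¬ IsMulCommutative G) (h : Nat.card G = 5687) : False := by
  exact tp hG 11 47 2 1 (by norm_num) (by norm_num) (by rw [h]; norm_num)

theorem no_5688 {G : Type*} [Group G] [Finite G] [IsSimpleGroup G]
    (hG : ¬ IsMulCommutative G) (h : Nat.card G = 5688) : False := by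
  have : Fact (Nat.Prime 79) := ⟨by norm_num⟩
  have hc : Nat.card G = 79 ^ 1 * 72 := by rw [h]; norm_num
  have hm : ¬ 79 ∣ 72 := by norm_num
  have hmem := card_sylow_mem_candidates hc hm
  have hcand : sylowCandidates 79 72 = [1] := by decide
  rw [hcand] at hmem
  simp only [List.mem_cons, List.not_mem_nil, or_false] at hmem
  have hlt := one_lt_card_sylow_of_card hc hm (by norm_num) (by norm_num)
  have hd := hmem
  · omega

theorem no_5689 {G : Type*} [Group G] [Finite G] [IsSimpleGroup G]
    (hG : ¬ IsMulCommutative G) (h : Nat.card G = 5689) : False := by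
  exact tp hG 5689 2 1 0 (by norm_num) (by norm_num) (by rw [h]; norm_num)

theorem no_5690 {G : Type*} [Group G] [Finite G] [IsSimpleGroup G]
    (hG : ¬ IsMulCommutative G) (h : Nat.card G = 5690) : False := by
  exact ev hG (by rw [h]; exact ⟨2845, by norm_num⟩) (by rw [h]; omega)

theorem no_5691 {G : Type*} [Group G] [Finite G] [IsSimpleGroup G]
    (hG : ¬ IsMulCommutative G) (h : Nat.card G = 5691) : False := by
  have : Fact (Nat.Prime 271) := ⟨by norm_num⟩
  have hc : Nat.card G = 271 ^ 1 * 21 := by rw [h]; norm_num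
  have hm : ¬ 271 ∣ 21 := by norm_num
  have hmem := card_sylow_mem_candidates hc hm
  have hcand : sylowCandidates 271 21 = [1] := by decide
  rw [hcand] at hmem
  simp only [List.mem_cons, List.not_mem_nil, or_false] at hmem
  have hlt := one_lt_card_sylow_of_card hc hm (by norm_num) (by norm_num)
  have hd := hmem
  · omega

theorem no_5692 {G : Type*} [Group G] [Finite G] [IsSimpleGroup G]
    (hG : ¬ IsMulCommutative G) (h : Nat.card G = 5692) : False := by
  exact tp hG 2 1423 2 1 (by norm_num) (by norm_num) (by rw [h]; norm_num)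

theorem no_5693 {G : Type*} [Group G] [Finite G] [IsSimpleGroup G]
    (hG : ¬ IsMulCommutative G) (h : Nat.card G = 5693) : False := by
  exact tp hG 5693 2 1 0 (by norm_num) (by norm_num) (by rw [h]; norm_num)

theorem no_5694 {G : Type*} [Group G] [Finite G] [IsSimpleGroup G]
    (hG : ¬ IsMulCommutative G) (h : Nat.card G = 5694) : False := by
  exact ev hG (by rw [h]; exact ⟨2847, by norm_num⟩) (by rw [h]; omega)

theorem no_5695 {G : Type*} [Group G] [Finite G] [IsSimpleGroup G]
    (hG : ¬ IsMulCommutative G) (h : Nat.card G = 5695) : False := by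
  have : Fact (Nat.Prime 67) := ⟨by norm_num⟩
  have hc : Nat.card G = 67 ^ 1 * 85 := by rw [h]; norm_num
  have hm : ¬ 67 ∣ 85 := by norm_num
  have hmem := card_sylow_mem_candidates hc hm
  have hcand : sylowCandidates 67 85 = [1] := by decide
  rw [hcand] at hmem
  simp only [List.mem_cons, List.not_mem_nil, or_false] at hmem
  have hlt := one_lt_card_sylow_of_card hc hm (by norm_num) (by norm_num)
  have hd := hmem
  · omega

theorem no_5696 {G : Type*} [Group G] [Finite G] [IsSimpleGroup G]
    (hG : ¬ IsMulCommutative G) (h : Nat.card G = 5696) : False := by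
  exact tp hG 2 89 6 1 (by norm_num) (by norm_num) (by rw [h]; norm_num)

theorem no_5697 {G : Type*} [Group G] [Finite G] [IsSimpleGroup G]
    (hG : ¬ IsMulCommutative G) (h : Nat.card G = 5697) : False := by
  exact tp hG 3 211 3 1 (by norm_num) (by norm_num) (by rw [h]; norm_num)

theorem no_5698 {G : Type*} [Group G] [Finite G] [IsSimpleGroup G]
    (hG : ¬ IsMulCommutative G) (h : Nat.card G = 5698) : False := by
  exact ev hG (by rw [h]; exact ⟨2849, by norm_num⟩) (by rw [h]; omega)

theorem no_5699 {G : Type*} [Group G] [Finite G] [IsSimpleGroup G]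
    (hG : ¬ IsMulCommutative G) (h : Nat.card G = 5699) : False := by
  exact tp hG 41 139 1 1 (by norm_num) (by norm_num) (by rw [h]; norm_num)

theorem no_5700 {G : Type*} [Group G] [Finite G] [IsSimpleGroup G]
    (hG : ¬ IsMulCommutative G) (h : Nat.card G = 5700) : False := by
  have : Fact (Nat.Prime 19) := ⟨by norm_num⟩
  have hc : Nat.card G = 19 ^ 1 * 300 := by rw [h]; norm_num
  have hm : ¬ 19 ∣ 300 := by norm_num
  have hmem := card_sylow_mem_candidates hc hm
  have hcand : sylowCandidates 19 300 = [1, 20] := by decide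
  rw [hcand] at hmem
  simp only [List.mem_cons, List.not_mem_nil, or_false] at hmem
  have hlt := one_lt_card_sylow_of_card hc hm (by norm_num) (by norm_num)
  rcases hmem with hd | hd
  · omega
  · exact perm_kill hG (by norm_num) hc hm hd 285 (by omega) (by decide)

/-- the orders in [5601, 5700] not excluded by the engine -/
theorem chunk {G : Type*} [Group G] [Finite G] [IsSimpleGroup G]
    (hG : ¬ IsMulCommutative G) (n : ℕ) (hn : Nat.card G = n) (h1 : 5601 ≤ n) (h2 : n ≤ 5700) :
    n = 5616 := by
  interval_cases n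
  · exact (no_5601 hG hn).elim
  · exact (no_5602 hG hn).elim
  · exact (no_5603 hG hn).elim
  · exact (no_5604 hG hn).elim
  · exact (no_5605 hG hn).elim
  · exact (no_5606 hG hn).elim
  · exact (no_5607 hG hn).elim
  · exact (no_5608 hG hn).elim
  · exact (no_5609 hG hn).elim
  · exact (no_5610 hG hn).elim
  · exact (no_5611 hG hn).elim
  · exact (no_5612 hG hn).elim
  · exact (no_5613 hG hn).elim
  · exact (no_5614 hG hn).elim
  · exact (no_5615 hG hn).elim
  · simp
  · exact (no_5617 hG hn).elim
  · exact (no_5618 hG hn).elim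
  · exact (no_5619 hG hn).elim
  · exact (no_5620 hG hn).elim
  · exact (no_5621 hG hn).elim
  · exact (no_5622 hG hn).elim
  · exact (no_5623 hG hn).elim
  · exact (no_5624 hG hn).elim
  · exact (no_5625 hG hn).elim
  · exact (no_5626 hG hn).elim
  · exact (no_5627 hG hn).elim
  · exact (no_5628 hG hn).elim
  · exact (no_5629 hG hn).elim
  · exact (no_5630 hG hn).elim
  · exact (no_5631 hG hn).elim
  · exact (no_5632 hG hn).elim
  · exact (no_5633 hG hn).elim
  · exact (no_5634 hG hn).elim
  · exact (no_5635 hG hn).elim
  · exact (no_5636 hG hn).elim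
  · exact (no_5637 hG hn).elim
  · exact (no_5638 hG hn).elim
  · exact (no_5639 hG hn).elim
  · exact (no_5640 hG hn).elim
  · exact (no_5641 hG hn).elim
  · exact (no_5642 hG hn).elim
  · exact (no_5643 hG hn).elim
  · exact (no_5644 hG hn).elim
  · exact (no_5645 hG hn).elim
  · exact (no_5646 hG hn).elim
  · exact (no_5647 hG hn).elim
  · exact (no_5648 hG hn).elim
  · exact (no_5649 hG hn).elim
  · exact (no_5650 hG hn).elim
  · exact (no_5651 hG hn).elim
  · exact (no_5652 hG hn).elim
  · exact (no_5653 hG hn).elim
  · exact (no_5654 hG hn).elim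
  · exact (no_5655 hG hn).elim
  · exact (no_5656 hG hn).elim
  · exact (no_5657 hG hn).elim
  · exact (no_5658 hG hn).elim
  · exact (no_5659 hG hn).elim
  · exact (no_5660 hG hn).elim
  · exact (no_5661 hG hn).elim
  · exact (no_5662 hG hn).elim
  · exact (no_5663 hG hn).elim
  · exact (no_5664 hG hn).elim
  · exact (no_5665 hG hn).elim
  · exact (no_5666 hG hn).elim
  · exact (no_5667 hG hn).elim
  · exact (no_5668 hG hn).elim
  · exact (no_5669 hG hn).elim
  · exact (no_5670 hG hn).elim
  · exact (no_5671 hG hn).elim
  · exact (no_5672 hG hn).elim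
  · exact (no_5673 hG hn).elim
  · exact (no_5674 hG hn).elim
  · exact (no_5675 hG hn).elim
  · exact (no_5676 hG hn).elim
  · exact (no_5677 hG hn).elim
  · exact (no_5678 hG hn).elim
  · exact (no_5679 hG hn).elim
  · exact (no_5680 hG hn).elim
  · exact (no_5681 hG hn).elim
  · exact (no_5682 hG hn).elim
  · exact (no_5683 hG hn).elim
  · exact (no_5684 hG hn).elim
  · exact (no_5685 hG hn).elim
  · exact (no_5686 hG hn).elim
  · exact (no_5687 hG hn).elim
  · exact (no_5688 hG hn).elim
  · exact (no_5689 hG hn).elim
  · exact (no_5690 hG hn).elim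
  · exact (no_5691 hG hn).elim
  · exact (no_5692 hG hn).elim
  · exact (no_5693 hG hn).elim
  · exact (no_5694 hG hn).elim
  · exact (no_5695 hG hn).elim
  · exact (no_5696 hG hn).elim
  · exact (no_5697 hG hn).elim
  · exact (no_5698 hG hn).elim
  · exact (no_5699 hG hn).elim
  · exact (no_5700 hG hn).elim

end Cfsg.Agent.Lib.Helper16_SO_E20
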