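import Mathlib
import Cfsg.Agent.Lib.Helper75_SM_Base

/-!
# S0983 engine, generated file: no simple group of order N for the easy N in [5701, 5800]
(helper16; same scheme as helper75's `Helper75_SM_E*`)
-/

set_option autoImplicit false
set_option linter.unusedVariables false

namespace Cfsg.Agent.Lib.Helper16_SO_E21

open Cfsg.Agent.Lib.Helper17_Sylow Cfsg.Agent.Lib.Helper75_SM_Base

theorem no_5701 {G : Type*} [Group G] [Finite G] [IsSimpleGroup G]
    (hG : ¬ IsMulCommutative G) (h : Nat.card G = 5701) : False := by
  exact tp hG 5701 2 1 0 (by norm_num) (by norm_num) (by rw [h]; norm_num)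

theorem no_5702 {G : Type*} [Group G] [Finite G] [IsSimpleGroup G]
    (hG : ¬ IsMulCommutative G) (h : Nat.card G = 5702) : False := by
  exact tp hG 2 2851 1 1 (by norm_num) (by norm_num) (by rw [h]; norm_num)

theorem no_5703 {G : Type*} [Group G] [Finite G] [IsSimpleGroup G]
    (hG : ¬ IsMulCommutative G) (h : Nat.card G = 5703) : False := by
  exact tp hG 3 1901 1 1 (by norm_num) (by norm_num) (by rw [h]; norm_num)

theorem no_5704 {G : Type*} [Group G] [Finite G] [IsSimpleGroup G]
    (hG : ¬ IsMulCommutative G) (h : Nat.card G = 5704) : False := by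
  exact ev hG (by rw [h]; exact ⟨2852, by norm_num⟩) (by rw [h]; omega)

theorem no_5705 {G : Type*} [Group G] [Finite G] [IsSimpleGroup G]
    (hG : ¬ IsMulCommutative G) (h : Nat.card G = 5705) : False := by
  have : Fact (Nat.Prime 163) := ⟨by norm_num⟩
  have hc : Nat.card G = 163 ^ 1 * 35 := by rw [h]; norm_num
  have hm : ¬ 163 ∣ 35 := by norm_num
  have hmem := card_sylow_mem_candidates hc hm
  have hcand : sylowCandidates 163 35 = [1] := by decide
  rw [hcand] at hmem
  simp only [List.mem_cons, List.not_mem_nil, or_false] at hmem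
  have hlt := one_lt_card_sylow_of_card hc hm (by norm_num) (by norm_num)
  have hd := hmem
  · omega

theorem no_5706 {G : Type*} [Group G] [Finite G] [IsSimpleGroup G]
    (hG : ¬ IsMulCommutative G) (h : Nat.card G = 5706) : False := by
  exact ev hG (by rw [h]; exact ⟨2853, by norm_num⟩) (by rw [h]; omega)

theorem no_5707 {G : Type*} [Group G] [Finite G] [IsSimpleGroup G]
    (hG : ¬ IsMulCommutative G) (h : Nat.card G = 5707) : False := by
  exact tp hG 13 439 1 1 (by norm_num) (by norm_num) (by rw [h]; norm_num)

theorem no_5708 {G : Type*} [Group G] [Finite G] [IsSimpleGroup G]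
    (hG : ¬ IsMulCommutative G) (h : Nat.card G = 5708) : False := by
  exact tp hG 2 1427 2 1 (by norm_num) (by norm_num) (by rw [h]; norm_num)

theorem no_5709 {G : Type*} [Group G] [Finite G] [IsSimpleGroup G]
    (hG : ¬ IsMulCommutative G) (h : Nat.card G = 5709) : False := by
  have : Fact (Nat.Prime 173) := ⟨by norm_num⟩
  have hc : Nat.card G = 173 ^ 1 * 33 := by rw [h]; norm_num
  have hm : ¬ 173 ∣ 33 := by norm_num
  have hmem := card_sylow_mem_candidates hc hm
  have hcand : sylowCandidates 173 33 = [1] := by decide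
  rw [hcand] at hmem
  simp only [List.mem_cons, List.not_mem_nil, or_false] at hmem
  have hlt := one_lt_card_sylow_of_card hc hm (by norm_num) (by norm_num)
  have hd := hmem
  · omega

theorem no_5710 {G : Type*} [Group G] [Finite G] [IsSimpleGroup G]
    (hG : ¬ IsMulCommutative G) (h : Nat.card G = 5710) : False := by
  exact ev hG (by rw [h]; exact ⟨2855, by norm_num⟩) (by rw [h]; omega)

theorem no_5711 {G : Type*} [Group G] [Finite G] [IsSimpleGroup G]
    (hG : ¬ IsMulCommutative G) (h : Nat.card G = 5711) : False := by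
  exact tp hG 5711 2 1 0 (by norm_num) (by norm_num) (by rw [h]; norm_num)

theorem no_5712 {G : Type*} [Group G] [Finite G] [IsSimpleGroup G]
    (hG : ¬ IsMulCommutative G) (h : Nat.card G = 5712) : False := by
  have : Fact (Nat.Prime 17) := ⟨by norm_num⟩
  have hc : Nat.card G = 17 ^ 1 * 336 := by rw [h]; norm_num
  have hm : ¬ 17 ∣ 336 := by norm_num
  have hmem := card_sylow_mem_candidates hc hm
  have hcand : sylowCandidates 17 336 = [1] := by decide
  rw [hcand] at hmem
  simp only [List.mem_cons, List.not_mem_nil, or_false] at hmem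
  have hlt := one_lt_card_sylow_of_card hc hm (by norm_num) (by norm_num)
  have hd := hmem
  · omega

theorem no_5713 {G : Type*} [Group G] [Finite G] [IsSimpleGroup G]
    (hG : ¬ IsMulCommutative G) (h : Nat.card G = 5713) : False := by
  exact tp hG 29 197 1 1 (by norm_num) (by norm_num) (by rw [h]; norm_num)

theorem no_5714 {G : Type*} [Group G] [Finite G] [IsSimpleGroup G]
    (hG : ¬ IsMulCommutative G) (h : Nat.card G = 5714) : False := by
  exact tp hG 2 2857 1 1 (by norm_num) (by norm_num) (by rw [h]; norm_num)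

theorem no_5715 {G : Type*} [Group G] [Finite G] [IsSimpleGroup G]
    (hG : ¬ IsMulCommutative G) (h : Nat.card G = 5715) : False := by
  have : Fact (Nat.Prime 127) := ⟨by norm_num⟩
  have hc : Nat.card G = 127 ^ 1 * 45 := by rw [h]; norm_num
  have hm : ¬ 127 ∣ 45 := by norm_num
  have hmem := card_sylow_mem_candidates hc hm
  have hcand : sylowCandidates 127 45 = [1] := by decide
  rw [hcand] at hmem
  simp only [List.mem_cons, List.not_mem_nil, or_false] at hmem
  have hlt := one_lt_card_sylow_of_card hc hm (by norm_num) (by norm_num)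
  have hd := hmem
  · omega

theorem no_5716 {G : Type*} [Group G] [Finite G] [IsSimpleGroup G]
    (hG : ¬ IsMulCommutative G) (h : Nat.card G = 5716) : False := by
  exact tp hG 2 1429 2 1 (by norm_num) (by norm_num) (by rw [h]; norm_num)

theorem no_5717 {G : Type*} [Group G] [Finite G] [IsSimpleGroup G]
    (hG : ¬ IsMulCommutative G) (h : Nat.card G = 5717) : False := by
  exact tp hG 5717 2 1 0 (by norm_num) (by norm_num) (by rw [h]; norm_num)

theorem no_5718 {G : Type*} [Group G] [Finite G] [IsSimpleGroup G]
    (hG : ¬ IsMulCommutative G) (h : Nat.card G = 5718) : False := by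
  exact ev hG (by rw [h]; exact ⟨2859, by norm_num⟩) (by rw [h]; omega)

theorem no_5719 {G : Type*} [Group G] [Finite G] [IsSimpleGroup G]
    (hG : ¬ IsMulCommutative G) (h : Nat.card G = 5719) : False := by
  have : Fact (Nat.Prime 43) := ⟨by norm_num⟩
  have hc : Nat.card G = 43 ^ 1 * 133 := by rw [h]; norm_num
  have hm : ¬ 43 ∣ 133 := by norm_num
  have hmem := card_sylow_mem_candidates hc hm
  have hcand : sylowCandidates 43 133 = [1] := by decide
  rw [hcand] at hmem
  simp only [List.mem_cons, List.not_mem_nil, or_false] at hmem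
  have hlt := one_lt_card_sylow_of_card hc hm (by norm_num) (by norm_num)
  have hd := hmem
  · omega

theorem no_5720 {G : Type*} [Group G] [Finite G] [IsSimpleGroup G]
    (hG : ¬ IsMulCommutative G) (h : Nat.card G = 5720) : False := by
  exact ev hG (by rw [h]; exact ⟨2860, by norm_num⟩) (by rw [h]; omega)

theorem no_5721 {G : Type*} [Group G] [Finite G] [IsSimpleGroup G]
    (hG : ¬ IsMulCommutative G) (h : Nat.card G = 5721) : False := by
  exact tp hG 3 1907 1 1 (by norm_num) (by norm_num) (by rw [h]; norm_num)

theorem no_5722 {G : Type*} [Group G] [Finite G] [IsSimpleGroup G]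
    (hG : ¬ IsMulCommutative G) (h : Nat.card G = 5722) : False := by
  exact tp hG 2 2861 1 1 (by norm_num) (by norm_num) (by rw [h]; norm_num)

theorem no_5723 {G : Type*} [Group G] [Finite G] [IsSimpleGroup G]
    (hG : ¬ IsMulCommutative G) (h : Nat.card G = 5723) : False := by
  exact tp hG 59 97 1 1 (by norm_num) (by norm_num) (by rw [h]; norm_num)

theorem no_5725 {G : Type*} [Group G] [Finite G] [IsSimpleGroup G]
    (hG : ¬ IsMulCommutative G) (h : Nat.card G = 5725) : False := by
  exact tp hG 5 229 2 1 (by norm_num) (by norm_num) (by rw [h]; norm_num)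

theorem no_5726 {G : Type*} [Group G] [Finite G] [IsSimpleGroup G]
    (hG : ¬ IsMulCommutative G) (h : Nat.card G = 5726) : False := by
  exact ev hG (by rw [h]; exact ⟨2863, by norm_num⟩) (by rw [h]; omega)

theorem no_5727 {G : Type*} [Group G] [Finite G] [IsSimpleGroup G]
    (hG : ¬ IsMulCommutative G) (h : Nat.card G = 5727) : False := by
  have : Fact (Nat.Prime 83) := ⟨by norm_num⟩
  have hc : Nat.card G = 83 ^ 1 * 69 := by rw [h]; norm_num
  have hm : ¬ 83 ∣ 69 := by norm_num
  have hmem := card_sylow_mem_candidates hc hm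
  have hcand : sylowCandidates 83 69 = [1] := by decide
  rw [hcand] at hmem
  simp only [List.mem_cons, List.not_mem_nil, or_false] at hmem
  have hlt := one_lt_card_sylow_of_card hc hm (by norm_num) (by norm_num)
  have hd := hmem
  · omega

theorem no_5728 {G : Type*} [Group G] [Finite G] [IsSimpleGroup G]
    (hG : ¬ IsMulCommutative G) (h : Nat.card G = 5728) : False := by
  exact tp hG 2 179 5 1 (by norm_num) (by norm_num) (by rw [h]; norm_num)

theorem no_5729 {G : Type*} [Group G] [Finite G] [IsSimpleGroup G]
    (hG : ¬ IsMulCommutative G) (h : Nat.card G = 5729) : False := by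
  exact tp hG 17 337 1 1 (by norm_num) (by norm_num) (by rw [h]; norm_num)

theorem no_5730 {G : Type*} [Group G] [Finite G] [IsSimpleGroup G]
    (hG : ¬ IsMulCommutative G) (h : Nat.card G = 5730) : False := by
  exact ev hG (by rw [h]; exact ⟨2865, by norm_num⟩) (by rw [h]; omega)

theorem no_5731 {G : Type*} [Group G] [Finite G] [IsSimpleGroup G]
    (hG : ¬ IsMulCommutative G) (h : Nat.card G = 5731) : False := by
  exact tp hG 11 521 1 1 (by norm_num) (by norm_num) (by rw [h]; norm_num)

theorem no_5732 {G : Type*} [Group G] [Finite G] [IsSimpleGroup G]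
    (hG : ¬ IsMulCommutative G) (h : Nat.card G = 5732) : False := by
  exact tp hG 2 1433 2 1 (by norm_num) (by norm_num) (by rw [h]; norm_num)

theorem no_5733 {G : Type*} [Group G] [Finite G] [IsSimpleGroup G]
    (hG : ¬ IsMulCommutative G) (h : Nat.card G = 5733) : False := by
  have : Fact (Nat.Prime 7) := ⟨by norm_num⟩
  have hc : Nat.card G = 7 ^ 2 * 117 := by rw [h]; norm_num
  have hm : ¬ 7 ∣ 117 := by norm_num
  have hmem := card_sylow_mem_candidates hc hm
  have hcand : sylowCandidates 7 117 = [1] := by decide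
  rw [hcand] at hmem
  simp only [List.mem_cons, List.not_mem_nil, or_false] at hmem
  have hlt := one_lt_card_sylow_of_card hc hm (by norm_num) (by norm_num)
  have hd := hmem
  · omega

theorem no_5734 {G : Type*} [Group G] [Finite G] [IsSimpleGroup G]
    (hG : ¬ IsMulCommutative G) (h : Nat.card G = 5734) : False := by
  exact ev hG (by rw [h]; exact ⟨2867, by norm_num⟩) (by rw [h]; omega)

theorem no_5735 {G : Type*} [Group G] [Finite G] [IsSimpleGroup G]
    (hG : ¬ IsMulCommutative G) (h : Nat.card G = 5735) : False := by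
  have : Fact (Nat.Prime 37) := ⟨by norm_num⟩
  have hc : Nat.card G = 37 ^ 1 * 155 := by rw [h]; norm_num
  have hm : ¬ 37 ∣ 155 := by norm_num
  have hmem := card_sylow_mem_candidates hc hm
  have hcand : sylowCandidates 37 155 = [1] := by decide
  rw [hcand] at hmem
  simp only [List.mem_cons, List.not_mem_nil, or_false] at hmem
  have hlt := one_lt_card_sylow_of_card hc hm (by norm_num) (by norm_num)
  have hd := hmem
  · omega

theorem no_5736 {G : Type*} [Group G] [Finite G] [IsSimpleGroup G]
    (hG : ¬ IsMulCommutative G) (h : Nat.card G = 5736) : False := by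
  have : Fact (Nat.Prime 239) := ⟨by norm_num⟩
  have hc : Nat.card G = 239 ^ 1 * 24 := by rw [h]; norm_num
  have hm : ¬ 239 ∣ 24 := by norm_num
  have hmem := card_sylow_mem_candidates hc hm
  have hcand : sylowCandidates 239 24 = [1] := by decide
  rw [hcand] at hmem
  simp only [List.mem_cons, List.not_mem_nil, or_false] at hmem
  have hlt := one_lt_card_sylow_of_card hc hm (by norm_num) (by norm_num)
  have hd := hmem
  · omega

theorem no_5737 {G : Type*} [Group G] [Finite G] [IsSimpleGroup G]
    (hG : ¬ IsMulCommutative G) (h : Nat.card G = 5737) : False := by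
  exact tp hG 5737 2 1 0 (by norm_num) (by norm_num) (by rw [h]; norm_num)

theorem no_5738 {G : Type*} [Group G] [Finite G] [IsSimpleGroup G]
    (hG : ¬ IsMulCommutative G) (h : Nat.card G = 5738) : False := by
  exact ev hG (by rw [h]; exact ⟨2869, by norm_num⟩) (by rw [h]; omega)

theorem no_5739 {G : Type*} [Group G] [Finite G] [IsSimpleGroup G]
    (hG : ¬ IsMulCommutative G) (h : Nat.card G = 5739) : False := by
  exact tp hG 3 1913 1 1 (by norm_num) (by norm_num) (by rw [h]; norm_num)

theorem no_5740 {G : Type*} [Group G] [Finite G] [IsSimpleGroup G]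
    (hG : ¬ IsMulCommutative G) (h : Nat.card G = 5740) : False := by
  exact ev hG (by rw [h]; exact ⟨2870, by norm_num⟩) (by rw [h]; omega)

theorem no_5741 {G : Type*} [Group G] [Finite G] [IsSimpleGroup G]
    (hG : ¬ IsMulCommutative G) (h : Nat.card G = 5741) : False := by
  exact tp hG 5741 2 1 0 (by norm_num) (by norm_num) (by rw [h]; norm_num)

theorem no_5742 {G : Type*} [Group G] [Finite G] [IsSimpleGroup G]
    (hG : ¬ IsMulCommutative G) (h : Nat.card G = 5742) : False := by
  exact ev hG (by rw [h]; exact ⟨2871, by norm_num⟩) (by rw [h]; omega)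

theorem no_5743 {G : Type*} [Group G] [Finite G] [IsSimpleGroup G]
    (hG : ¬ IsMulCommutative G) (h : Nat.card G = 5743) : False := by
  exact tp hG 5743 2 1 0 (by norm_num) (by norm_num) (by rw [h]; norm_num)

theorem no_5744 {G : Type*} [Group G] [Finite G] [IsSimpleGroup G]
    (hG : ¬ IsMulCommutative G) (h : Nat.card G = 5744) : False := by
  exact tp hG 2 359 4 1 (by norm_num) (by norm_num) (by rw [h]; norm_num)

theorem no_5745 {G : Type*} [Group G] [Finite G] [IsSimpleGroup G]
    (hG : ¬ IsMulCommutative G) (h : Nat.card G = 5745) : False := by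
  have : Fact (Nat.Prime 383) := ⟨by norm_num⟩
  have hc : Nat.card G = 383 ^ 1 * 15 := by rw [h]; norm_num
  have hm : ¬ 383 ∣ 15 := by norm_num
  have hmem := card_sylow_mem_candidates hc hm
  have hcand : sylowCandidates 383 15 = [1] := by decide
  rw [hcand] at hmem
  simp only [List.mem_cons, List.not_mem_nil, or_false] at hmem
  have hlt := one_lt_card_sylow_of_card hc hm (by norm_num) (by norm_num)
  have hd := hmem
  · omega

theorem no_5746 {G : Type*} [Group G] [Finite G] [IsSimpleGroup G]
    (hG : ¬ IsMulCommutative G) (h : Nat.card G = 5746) : False := by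
  exact ev hG (by rw [h]; exact ⟨2873, by norm_num⟩) (by rw [h]; omega)

theorem no_5747 {G : Type*} [Group G] [Finite G] [IsSimpleGroup G]
    (hG : ¬ IsMulCommutative G) (h : Nat.card G = 5747) : False := by
  exact tp hG 7 821 1 1 (by norm_num) (by norm_num) (by rw [h]; norm_num)

theorem no_5748 {G : Type*} [Group G] [Finite G] [IsSimpleGroup G]
    (hG : ¬ IsMulCommutative G) (h : Nat.card G = 5748) : False := by
  have : Fact (Nat.Prime 479) := ⟨by norm_num⟩
  have hc : Nat.card G = 479 ^ 1 * 12 := by rw [h]; norm_num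
  have hm : ¬ 479 ∣ 12 := by norm_num
  have hmem := card_sylow_mem_candidates hc hm
  have hcand : sylowCandidates 479 12 = [1] := by decide
  rw [hcand] at hmem
  simp only [List.mem_cons, List.not_mem_nil, or_false] at hmem
  have hlt := one_lt_card_sylow_of_card hc hm (by norm_num) (by norm_num)
  have hd := hmem
  · omega

theorem no_5749 {G : Type*} [Group G] [Finite G] [IsSimpleGroup G]
    (hG : ¬ IsMulCommutative G) (h : Nat.card G = 5749) : False := by
  exact tp hG 5749 2 1 0 (by norm_num) (by norm_num) (by rw [h]; norm_num)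

theorem no_5750 {G : Type*} [Group G] [Finite G] [IsSimpleGroup G]
    (hG : ¬ IsMulCommutative G) (h : Nat.card G = 5750) : False := by
  exact ev hG (by rw [h]; exact ⟨2875, by norm_num⟩) (by rw [h]; omega)

theorem no_5751 {G : Type*} [Group G] [Finite G] [IsSimpleGroup G]
    (hG : ¬ IsMulCommutative G) (h : Nat.card G = 5751) : False := by
  exact tp hG 3 71 4 1 (by norm_num) (by norm_num) (by rw [h]; norm_num)

theorem no_5752 {G : Type*} [Group G] [Finite G] [IsSimpleGroup G]
    (hG : ¬ IsMulCommutative G) (h : Nat.card G = 5752) : False := by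
  exact tp hG 2 719 3 1 (by norm_num) (by norm_num) (by rw [h]; norm_num)

theorem no_5753 {G : Type*} [Group G] [Finite G] [IsSimpleGroup G]
    (hG : ¬ IsMulCommutative G) (h : Nat.card G = 5753) : False := by
  exact tp hG 11 523 1 1 (by norm_num) (by norm_num) (by rw [h]; norm_num)

theorem no_5754 {G : Type*} [Group G] [Finite G] [IsSimpleGroup G]
    (hG : ¬ IsMulCommutative G) (h : Nat.card G = 5754) : False := by
  exact ev hG (by rw [h]; exact ⟨2877, by norm_num⟩) (by rw [h]; omega)

theorem no_5755 {G : Type*} [Group G] [Finite G] [IsSimpleGroup G]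
    (hG : ¬ IsMulCommutative G) (h : Nat.card G = 5755) : False := by
  exact tp hG 5 1151 1 1 (by norm_num) (by norm_num) (by rw [h]; norm_num)

theorem no_5756 {G : Type*} [Group G] [Finite G] [IsSimpleGroup G]
    (hG : ¬ IsMulCommutative G) (h : Nat.card G = 5756) : False := by
  exact tp hG 2 1439 2 1 (by norm_num) (by norm_num) (by rw [h]; norm_num)

theorem no_5757 {G : Type*} [Group G] [Finite G] [IsSimpleGroup G]
    (hG : ¬ IsMulCommutative G) (h : Nat.card G = 5757) : False := by
  have : Fact (Nat.Prime 101) := ⟨by norm_num⟩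
  have hc : Nat.card G = 101 ^ 1 * 57 := by rw [h]; norm_num
  have hm : ¬ 101 ∣ 57 := by norm_num
  have hmem := card_sylow_mem_candidates hc hm
  have hcand : sylowCandidates 101 57 = [1] := by decide
  rw [hcand] at hmem
  simp only [List.mem_cons, List.not_mem_nil, or_false] at hmem
  have hlt := one_lt_card_sylow_of_card hc hm (by norm_num) (by norm_num)
  have hd := hmem
  · omega

theorem no_5758 {G : Type*} [Group G] [Finite G] [IsSimpleGroup G]
    (hG : ¬ IsMulCommutative G) (h : Nat.card G = 5758) : False := by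
  exact tp hG 2 2879 1 1 (by norm_num) (by norm_num) (by rw [h]; norm_num)

theorem no_5759 {G : Type*} [Group G] [Finite G] [IsSimpleGroup G]
    (hG : ¬ IsMulCommutative G) (h : Nat.card G = 5759) : False := by
  exact tp hG 13 443 1 1 (by norm_num) (by norm_num) (by rw [h]; norm_num)

theorem no_5761 {G : Type*} [Group G] [Finite G] [IsSimpleGroup G]
    (hG : ¬ IsMulCommutative G) (h : Nat.card G = 5761) : False := by
  exact tp hG 7 823 1 1 (by norm_num) (by norm_num) (by rw [h]; norm_num)

theorem no_5762 {G : Type*} [Group G] [Finite G] [IsSimpleGroup G]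
    (hG : ¬ IsMulCommutative G) (h : Nat.card G = 5762) : False := by
  exact ev hG (by rw [h]; exact ⟨2881, by norm_num⟩) (by rw [h]; omega)

theorem no_5763 {G : Type*} [Group G] [Finite G] [IsSimpleGroup G]
    (hG : ¬ IsMulCommutative G) (h : Nat.card G = 5763) : False := by
  have : Fact (Nat.Prime 113) := ⟨by norm_num⟩
  have hc : Nat.card G = 113 ^ 1 * 51 := by rw [h]; norm_num
  have hm : ¬ 113 ∣ 51 := by norm_num
  have hmem := card_sylow_mem_candidates hc hm
  have hcand : sylowCandidates 113 51 = [1] := by decide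
  rw [hcand] at hmem
  simp only [List.mem_cons, List.not_mem_nil, or_false] at hmem
  have hlt := one_lt_card_sylow_of_card hc hm (by norm_num) (by norm_num)
  have hd := hmem
  · omega

theorem no_5764 {G : Type*} [Group G] [Finite G] [IsSimpleGroup G]
    (hG : ¬ IsMulCommutative G) (h : Nat.card G = 5764) : False := by
  exact ev hG (by rw [h]; exact ⟨2882, by norm_num⟩) (by rw [h]; omega)

theorem no_5765 {G : Type*} [Group G] [Finite G] [IsSimpleGroup G]
    (hG : ¬ IsMulCommutative G) (h : Nat.card G = 5765) : False := by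
  exact tp hG 5 1153 1 1 (by norm_num) (by norm_num) (by rw [h]; norm_num)

theorem no_5766 {G : Type*} [Group G] [Finite G] [IsSimpleGroup G]
    (hG : ¬ IsMulCommutative G) (h : Nat.card G = 5766) : False := by
  exact ev hG (by rw [h]; exact ⟨2883, by norm_num⟩) (by rw [h]; omega)

theorem no_5767 {G : Type*} [Group G] [Finite G] [IsSimpleGroup G]
    (hG : ¬ IsMulCommutative G) (h : Nat.card G = 5767) : False := by
  exact tp hG 73 79 1 1 (by norm_num) (by norm_num) (by rw [h]; norm_num)

theorem no_5768 {G : Type*} [Group G] [Finite G] [IsSimpleGroup G]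
    (hG : ¬ IsMulCommutative G) (h : Nat.card G = 5768) : False := by
  have : Fact (Nat.Prime 103) := ⟨by norm_num⟩
  have hc : Nat.card G = 103 ^ 1 * 56 := by rw [h]; norm_num
  have hm : ¬ 103 ∣ 56 := by norm_num
  have hmem := card_sylow_mem_candidates hc hm
  have hcand : sylowCandidates 103 56 = [1] := by decide
  rw [hcand] at hmem
  simp only [List.mem_cons, List.not_mem_nil, or_false] at hmem
  have hlt := one_lt_card_sylow_of_card hc hm (by norm_num) (by norm_num)
  have hd := hmem
  · omega

theorem no_5769 {G : Type*} [Group G] [Finite G] [IsSimpleGroup G]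
    (hG : ¬ IsMulCommutative G) (h : Nat.card G = 5769) : False := by
  exact tp hG 3 641 2 1 (by norm_num) (by norm_num) (by rw [h]; norm_num)

theorem no_5770 {G : Type*} [Group G] [Finite G] [IsSimpleGroup G]
    (hG : ¬ IsMulCommutative G) (h : Nat.card G = 5770) : False := by
  exact ev hG (by rw [h]; exact ⟨2885, by norm_num⟩) (by rw [h]; omega)

theorem no_5771 {G : Type*} [Group G] [Finite G] [IsSimpleGroup G]
    (hG : ¬ IsMulCommutative G) (h : Nat.card G = 5771) : False := by
  exact tp hG 29 199 1 1 (by norm_num) (by norm_num) (by rw [h]; norm_num)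

theorem no_5772 {G : Type*} [Group G] [Finite G] [IsSimpleGroup G]
    (hG : ¬ IsMulCommutative G) (h : Nat.card G = 5772) : False := by
  have : Fact (Nat.Prime 37) := ⟨by norm_num⟩
  have hc : Nat.card G = 37 ^ 1 * 156 := by rw [h]; norm_num
  have hm : ¬ 37 ∣ 156 := by norm_num
  have hmem := card_sylow_mem_candidates hc hm
  have hcand : sylowCandidates 37 156 = [1] := by decide
  rw [hcand] at hmem
  simp only [List.mem_cons, List.not_mem_nil, or_false] at hmem
  have hlt := one_lt_card_sylow_of_card hc hm (by norm_num) (by norm_num)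
  have hd := hmem
  · omega

theorem no_5773 {G : Type*} [Group G] [Finite G] [IsSimpleGroup G]
    (hG : ¬ IsMulCommutative G) (h : Nat.card G = 5773) : False := by
  exact tp hG 23 251 1 1 (by norm_num) (by norm_num) (by rw [h]; norm_num)

theorem no_5774 {G : Type*} [Group G] [Finite G] [IsSimpleGroup G]
    (hG : ¬ IsMulCommutative G) (h : Nat.card G = 5774) : False := by
  exact tp hG 2 2887 1 1 (by norm_num) (by norm_num) (by rw [h]; norm_num)

theorem no_5775 {G : Type*} [Group G] [Finite G] [IsSimpleGroup G]
    (hG : ¬ IsMulCommutative G) (h : Nat.card G = 5775) : False := by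
  have : Fact (Nat.Prime 11) := ⟨by norm_num⟩
  have hc : Nat.card G = 11 ^ 1 * 525 := by rw [h]; norm_num
  have hm : ¬ 11 ∣ 525 := by norm_num
  have hmem := card_sylow_mem_candidates hc hm
  have hcand : sylowCandidates 11 525 = [1] := by decide
  rw [hcand] at hmem
  simp only [List.mem_cons, List.not_mem_nil, or_false] at hmem
  have hlt := one_lt_card_sylow_of_card hc hm (by norm_num) (by norm_num)
  have hd := hmem
  · omega

theorem no_5776 {G : Type*} [Group G] [Finite G] [IsSimpleGroup G]
    (hG : ¬ IsMulCommutative G) (h : Nat.card G = 5776) : False := by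
  exact tp hG 2 19 4 2 (by norm_num) (by norm_num) (by rw [h]; norm_num)

theorem no_5777 {G : Type*} [Group G] [Finite G] [IsSimpleGroup G]
    (hG : ¬ IsMulCommutative G) (h : Nat.card G = 5777) : False := by
  exact tp hG 53 109 1 1 (by norm_num) (by norm_num) (by rw [h]; norm_num)

theorem no_5778 {G : Type*} [Group G] [Finite G] [IsSimpleGroup G]
    (hG : ¬ IsMulCommutative G) (h : Nat.card G = 5778) : False := by
  exact ev hG (by rw [h]; exact ⟨2889, by norm_num⟩) (by rw [h]; omega)

theorem no_5779 {G : Type*} [Group G] [Finite G] [IsSimpleGroup G]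
    (hG : ¬ IsMulCommutative G) (h : Nat.card G = 5779) : False := by
  exact tp hG 5779 2 1 0 (by norm_num) (by norm_num) (by rw [h]; norm_num)

theorem no_5780 {G : Type*} [Group G] [Finite G] [IsSimpleGroup G]
    (hG : ¬ IsMulCommutative G) (h : Nat.card G = 5780) : False := by
  exact ev hG (by rw [h]; exact ⟨2890, by norm_num⟩) (by rw [h]; omega)

theorem no_5781 {G : Type*} [Group G] [Finite G] [IsSimpleGroup G]
    (hG : ¬ IsMulCommutative G) (h : Nat.card G = 5781) : False := by
  have : Fact (Nat.Prime 47) := ⟨by norm_num⟩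
  have hc : Nat.card G = 47 ^ 1 * 123 := by rw [h]; norm_num
  have hm : ¬ 47 ∣ 123 := by norm_num
  have hmem := card_sylow_mem_candidates hc hm
  have hcand : sylowCandidates 47 123 = [1] := by decide
  rw [hcand] at hmem
  simp only [List.mem_cons, List.not_mem_nil, or_false] at hmem
  have hlt := one_lt_card_sylow_of_card hc hm (by norm_num) (by norm_num)
  have hd := hmem
  · omega

theorem no_5782 {G : Type*} [Group G] [Finite G] [IsSimpleGroup G]
    (hG : ¬ IsMulCommutative G) (h : Nat.card G = 5782) : False := by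
  exact ev hG (by rw [h]; exact ⟨2891, by norm_num⟩) (by rw [h]; omega)

theorem no_5783 {G : Type*} [Group G] [Finite G] [IsSimpleGroup G]
    (hG : ¬ IsMulCommutative G) (h : Nat.card G = 5783) : False := by
  exact tp hG 5783 2 1 0 (by norm_num) (by norm_num) (by rw [h]; norm_num)

theorem no_5784 {G : Type*} [Group G] [Finite G] [IsSimpleGroup G]
    (hG : ¬ IsMulCommutative G) (h : Nat.card G = 5784) : False := by
  have : Fact (Nat.Prime 241) := ⟨by norm_num⟩
  have hc : Nat.card G = 241 ^ 1 * 24 := by rw [h]; norm_num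
  have hm : ¬ 241 ∣ 24 := by norm_num
  have hmem := card_sylow_mem_candidates hc hm
  have hcand : sylowCandidates 241 24 = [1] := by decide
  rw [hcand] at hmem
  simp only [List.mem_cons, List.not_mem_nil, or_false] at hmem
  have hlt := one_lt_card_sylow_of_card hc hm (by norm_num) (by norm_num)
  have hd := hmem
  · omega

theorem no_5785 {G : Type*} [Group G] [Finite G] [IsSimpleGroup G]
    (hG : ¬ IsMulCommutative G) (h : Nat.card G = 5785) : False := by
  have : Fact (Nat.Prime 89) := ⟨by norm_num⟩
  have hc : Nat.card G = 89 ^ 1 * 65 := by rw [h]; norm_num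
  have hm : ¬ 89 ∣ 65 := by norm_num
  have hmem := card_sylow_mem_candidates hc hm
  have hcand : sylowCandidates 89 65 = [1] := by decide
  rw [hcand] at hmem
  simp only [List.mem_cons, List.not_mem_nil, or_false] at hmem
  have hlt := one_lt_card_sylow_of_card hc hm (by norm_num) (by norm_num)
  have hd := hmem
  · omega

theorem no_5786 {G : Type*} [Group G] [Finite G] [IsSimpleGroup G]
    (hG : ¬ IsMulCommutative G) (h : Nat.card G = 5786) : False := by
  exact ev hG (by rw [h]; exact ⟨2893, by norm_num⟩) (by rw [h]; omega)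

theorem no_5787 {G : Type*} [Group G] [Finite G] [IsSimpleGroup G]
    (hG : ¬ IsMulCommutative G) (h : Nat.card G = 5787) : False := by
  exact tp hG 3 643 2 1 (by norm_num) (by norm_num) (by rw [h]; norm_num)

theorem no_5788 {G : Type*} [Group G] [Finite G] [IsSimpleGroup G]
    (hG : ¬ IsMulCommutative G) (h : Nat.card G = 5788) : False := by
  exact tp hG 2 1447 2 1 (by norm_num) (by norm_num) (by rw [h]; norm_num)

theorem no_5789 {G : Type*} [Group G] [Finite G] [IsSimpleGroup G]
    (hG : ¬ IsMulCommutative G) (h : Nat.card G = 5789) : False := by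
  exact tp hG 7 827 1 1 (by norm_num) (by norm_num) (by rw [h]; norm_num)

theorem no_5790 {G : Type*} [Group G] [Finite G] [IsSimpleGroup G]
    (hG : ¬ IsMulCommutative G) (h : Nat.card G = 5790) : False := by
  exact ev hG (by rw [h]; exact ⟨2895, by norm_num⟩) (by rw [h]; omega)

theorem no_5791 {G : Type*} [Group G] [Finite G] [IsSimpleGroup G]
    (hG : ¬ IsMulCommutative G) (h : Nat.card G = 5791) : False := by
  exact tp hG 5791 2 1 0 (by norm_num) (by norm_num) (by rw [h]; norm_num)

theorem no_5792 {G : Type*} [Group G] [Finite G] [IsSimpleGroup G]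
    (hG : ¬ IsMulCommutative G) (h : Nat.card G = 5792) : False := by
  exact tp hG 2 181 5 1 (by norm_num) (by norm_num) (by rw [h]; norm_num)

theorem no_5793 {G : Type*} [Group G] [Finite G] [IsSimpleGroup G]
    (hG : ¬ IsMulCommutative G) (h : Nat.card G = 5793) : False := by
  exact tp hG 3 1931 1 1 (by norm_num) (by norm_num) (by rw [h]; norm_num)

theorem no_5794 {G : Type*} [Group G] [Finite G] [IsSimpleGroup G]
    (hG : ¬ IsMulCommutative G) (h : Nat.card G = 5794) : False := by
  exact tp hG 2 2897 1 1 (by norm_num) (by norm_num) (by rw [h]; norm_num)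

theorem no_5795 {G : Type*} [Group G] [Finite G] [IsSimpleGroup G]
    (hG : ¬ IsMulCommutative G) (h : Nat.card G = 5795) : False := by
  have : Fact (Nat.Prime 61) := ⟨by norm_num⟩
  have hc : Nat.card G = 61 ^ 1 * 95 := by rw [h]; norm_num
  have hm : ¬ 61 ∣ 95 := by norm_num
  have hmem := card_sylow_mem_candidates hc hm
  have hcand : sylowCandidates 61 95 = [1] := by decide
  rw [hcand] at hmem
  simp only [List.mem_cons, List.not_mem_nil, or_false] at hmem
  have hlt := one_lt_card_sylow_of_card hc hm (by norm_num) (by norm_num)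
  have hd := hmem
  · omega

theorem no_5796 {G : Type*} [Group G] [Finite G] [IsSimpleGroup G]
    (hG : ¬ IsMulCommutative G) (h : Nat.card G = 5796) : False := by
  have : Fact (Nat.Prime 23) := ⟨by norm_num⟩
  have hc : Nat.card G = 23 ^ 1 * 252 := by rw [h]; norm_num
  have hm : ¬ 23 ∣ 252 := by norm_num
  have hmem := card_sylow_mem_candidates hc hm
  have hcand : sylowCandidates 23 252 = [1] := by decide
  rw [hcand] at hmem
  simp only [List.mem_cons, List.not_mem_nil, or_false] at hmem
  have hlt := one_lt_card_sylow_of_card hc hm (by norm_num) (by norm_num)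
  have hd := hmem
  · omega

theorem no_5797 {G : Type*} [Group G] [Finite G] [IsSimpleGroup G]
    (hG : ¬ IsMulCommutative G) (h : Nat.card G = 5797) : False := by
  have : Fact (Nat.Prime 31) := ⟨by norm_num⟩
  have hc : Nat.card G = 31 ^ 1 * 187 := by rw [h]; norm_num
  have hm : ¬ 31 ∣ 187 := by norm_num
  have hmem := card_sylow_mem_candidates hc hm
  have hcand : sylowCandidates 31 187 = [1, 187] := by decide
  rw [hcand] at hmem
  simp only [List.mem_cons, List.not_mem_nil, or_false] at hmem
  have hlt := one_lt_card_sylow_of_card hc hm (by norm_num) (by norm_num)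
  rcases hmem with hd | hd
  · omega
  · exact burn_kill hc hm (by norm_num) 187 hd (by decide)

theorem no_5798 {G : Type*} [Group G] [Finite G] [IsSimpleGroup G]
    (hG : ¬ IsMulCommutative G) (h : Nat.card G = 5798) : False := by
  exact ev hG (by rw [h]; exact ⟨2899, by norm_num⟩) (by rw [h]; omega)

theorem no_5799 {G : Type*} [Group G] [Finite G] [IsSimpleGroup G]
    (hG : ¬ IsMulCommutative G) (h : Nat.card G = 5799) : False := by
  exact tp hG 3 1933 1 1 (by norm_num) (by norm_num) (by rw [h]; norm_num)

theorem no_5800 {G : Type*} [Group G] [Finite G] [IsSimpleGroup G]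
    (hG : ¬ IsMulCommutative G) (h : Nat.card G = 5800) : False := by
  exact ev hG (by rw [h]; exact ⟨2900, by norm_num⟩) (by rw [h]; omega)

/-- the orders in [5701, 5800] not excluded by the engine -/
theorem chunk {G : Type*} [Group G] [Finite G] [IsSimpleGroup G]
    (hG : ¬ IsMulCommutative G) (n : ℕ) (hn : Nat.card G = n) (h1 : 5701 ≤ n) (h2 : n ≤ 5800) :
    n = 5724 ∨ n = 5760 := by
  interval_cases n
  · exact (no_5701 hG hn).elim
  · exact (no_5702 hG hn).elim
  · exact (no_5703 hG hn).elim
  · exact (no_5704 hG hn).elim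
  · exact (no_5705 hG hn).elim
  · exact (no_5706 hG hn).elim
  · exact (no_5707 hG hn).elim
  · exact (no_5708 hG hn).elim
  · exact (no_5709 hG hn).elim
  · exact (no_5710 hG hn).elim
  · exact (no_5711 hG hn).elim
  · exact (no_5712 hG hn).elim
  · exact (no_5713 hG hn).elim
  · exact (no_5714 hG hn).elim
  · exact (no_5715 hG hn).elim
  · exact (no_5716 hG hn).elim
  · exact (no_5717 hG hn).elim
  · exact (no_5718 hG hn).elim
  · exact (no_5719 hG hn).elim
  · exact (no_5720 hG hn).elim
  · exact (no_5721 hG hn).elim
  · exact (no_5722 hG hn).elim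
  · exact (no_5723 hG hn).elim
  · simp
  · exact (no_5725 hG hn).elim
  · exact (no_5726 hG hn).elim
  · exact (no_5727 hG hn).elim
  · exact (no_5728 hG hn).elim
  · exact (no_5729 hG hn).elim
  · exact (no_5730 hG hn).elim
  · exact (no_5731 hG hn).elim
  · exact (no_5732 hG hn).elim
  · exact (no_5733 hG hn).elim
  · exact (no_5734 hG hn).elim
  · exact (no_5735 hG hn).elim
  · exact (no_5736 hG hn).elim
  · exact (no_5737 hG hn).elim
  · exact (no_5738 hG hn).elim
  · exact (no_5739 hG hn).elim
  · exact (no_5740 hG hn).elim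
  · exact (no_5741 hG hn).elim
  · exact (no_5742 hG hn).elim
  · exact (no_5743 hG hn).elim
  · exact (no_5744 hG hn).elim
  · exact (no_5745 hG hn).elim
  · exact (no_5746 hG hn).elim
  · exact (no_5747 hG hn).elim
  · exact (no_5748 hG hn).elim
  · exact (no_5749 hG hn).elim
  · exact (no_5750 hG hn).elim
  · exact (no_5751 hG hn).elim
  · exact (no_5752 hG hn).elim
  · exact (no_5753 hG hn).elim
  · exact (no_5754 hG hn).elim
  · exact (no_5755 hG hn).elim
  · exact (no_5756 hG hn).elim
  · exact (no_5757 hG hn).elim
  · exact (no_5758 hG hn).elim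
  · exact (no_5759 hG hn).elim
  · simp
  · exact (no_5761 hG hn).elim
  · exact (no_5762 hG hn).elim
  · exact (no_5763 hG hn).elim
  · exact (no_5764 hG hn).elim
  · exact (no_5765 hG hn).elim
  · exact (no_5766 hG hn).elim
  · exact (no_5767 hG hn).elim
  · exact (no_5768 hG hn).elim
  · exact (no_5769 hG hn).elim
  · exact (no_5770 hG hn).elim
  · exact (no_5771 hG hn).elim
  · exact (no_5772 hG hn).elim
  · exact (no_5773 hG hn).elim
  · exact (no_5774 hG hn).elim
  · exact (no_5775 hG hn).elim
  · exact (no_5776 hG hn).elim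
  · exact (no_5777 hG hn).elim
  · exact (no_5778 hG hn).elim
  · exact (no_5779 hG hn).elim
  · exact (no_5780 hG hn).elim
  · exact (no_5781 hG hn).elim
  · exact (no_5782 hG hn).elim
  · exact (no_5783 hG hn).elim
  · exact (no_5784 hG hn).elim
  · exact (no_5785 hG hn).elim
  · exact (no_5786 hG hn).elim
  · exact (no_5787 hG hn).elim
  · exact (no_5788 hG hn).elim
  · exact (no_5789 hG hn).elim
  · exact (no_5790 hG hn).elim
  · exact (no_5791 hG hn).elim
  · exact (no_5792 hG hn).elim
  · exact (no_5793 hG hn).elim
  · exact (no_5794 hG hn).elim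
  · exact (no_5795 hG hn).elim
  · exact (no_5796 hG hn).elim
  · exact (no_5797 hG hn).elim
  · exact (no_5798 hG hn).elim
  · exact (no_5799 hG hn).elim
  · exact (no_5800 hG hn).elim

end Cfsg.Agent.Lib.Helper16_SO_E21
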