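import Mathlib
import Cfsg.Agent.Lib.Helper75_SM_Base

/-!
# S0983 engine, generated file: no simple group of order N for the easy N in [5801, 5900]
(helper16; same scheme as helper75's `Helper75_SM_E*`)
-/

set_option autoImplicit false
set_option linter.unusedVariables false

namespace Cfsg.Agent.Lib.Helper16_SO_E22

open Cfsg.Agent.Lib.Helper17_Sylow Cfsg.Agent.Lib.Helper75_SM_Base

theorem no_5801 {G : Type*} [Group G] [Finite G] [IsSimpleGroup G]
    (hG : ¬ IsMulCommutative G) (h : Nat.card G = 5801) : False := by
  exact tp hG 5801 2 1 0 (by norm_num) (by norm_num) (by rw [h]; norm_num)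

theorem no_5802 {G : Type*} [Group G] [Finite G] [IsSimpleGroup G]
    (hG : ¬ IsMulCommutative G) (h : Nat.card G = 5802) : False := by
  exact ev hG (by rw [h]; exact ⟨2901, by norm_num⟩) (by rw [h]; omega)

theorem no_5803 {G : Type*} [Group G] [Finite G] [IsSimpleGroup G]
    (hG : ¬ IsMulCommutative G) (h : Nat.card G = 5803) : False := by
  exact tp hG 7 829 1 1 (by norm_num) (by norm_num) (by rw [h]; norm_num)

theorem no_5804 {G : Type*} [Group G] [Finite G] [IsSimpleGroup G]
    (hG : ¬ IsMulCommutative G) (h : Nat.card G = 5804) : False := by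
  exact tp hG 2 1451 2 1 (by norm_num) (by norm_num) (by rw [h]; norm_num)

theorem no_5805 {G : Type*} [Group G] [Finite G] [IsSimpleGroup G]
    (hG : ¬ IsMulCommutative G) (h : Nat.card G = 5805) : False := by
  have : Fact (Nat.Prime 43) := ⟨by norm_num⟩
  have hc : Nat.card G = 43 ^ 1 * 135 := by rw [h]; norm_num
  have hm : ¬ 43 ∣ 135 := by norm_num
  have hmem := card_sylow_mem_candidates hc hm
  have hcand : sylowCandidates 43 135 = [1] := by decide
  rw [hcand] at hmem
  simp only [List.mem_cons, List.not_mem_nil, or_false] at hmem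
  have hlt := one_lt_card_sylow_of_card hc hm (by norm_num) (by norm_num)
  have hd := hmem
  · omega

theorem no_5806 {G : Type*} [Group G] [Finite G] [IsSimpleGroup G]
    (hG : ¬ IsMulCommutative G) (h : Nat.card G = 5806) : False := by
  exact tp hG 2 2903 1 1 (by norm_num) (by norm_num) (by rw [h]; norm_num)

theorem no_5807 {G : Type*} [Group G] [Finite G] [IsSimpleGroup G]
    (hG : ¬ IsMulCommutative G) (h : Nat.card G = 5807) : False := by
  exact tp hG 5807 2 1 0 (by norm_num) (by norm_num) (by rw [h]; norm_num)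

theorem no_5808 {G : Type*} [Group G] [Finite G] [IsSimpleGroup G]
    (hG : ¬ IsMulCommutative G) (h : Nat.card G = 5808) : False := by
  have : Fact (Nat.Prime 11) := ⟨by norm_num⟩
  have hc : Nat.card G = 11 ^ 2 * 48 := by rw [h]; norm_num
  have hm : ¬ 11 ∣ 48 := by norm_num
  have hmem := card_sylow_mem_candidates hc hm
  have hcand : sylowCandidates 11 48 = [1, 12] := by decide
  rw [hcand] at hmem
  simp only [List.mem_cons, List.not_mem_nil, or_false] at hmem
  have hlt := one_lt_card_sylow_of_card hc hm (by norm_num) (by norm_num)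
  rcases hmem with hd | hd
  · omega
  · exact fact_kill hG 12 hd (by norm_num) (by rw [h]; decide)

theorem no_5809 {G : Type*} [Group G] [Finite G] [IsSimpleGroup G]
    (hG : ¬ IsMulCommutative G) (h : Nat.card G = 5809) : False := by
  exact tp hG 37 157 1 1 (by norm_num) (by norm_num) (by rw [h]; norm_num)

theorem no_5810 {G : Type*} [Group G] [Finite G] [IsSimpleGroup G]
    (hG : ¬ IsMulCommutative G) (h : Nat.card G = 5810) : False := by
  exact ev hG (by rw [h]; exact ⟨2905, by norm_num⟩) (by rw [h]; omega)

theorem no_5811 {G : Type*} [Group G] [Finite G] [IsSimpleGroup G]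
    (hG : ¬ IsMulCommutative G) (h : Nat.card G = 5811) : False := by
  have : Fact (Nat.Prime 149) := ⟨by norm_num⟩
  have hc : Nat.card G = 149 ^ 1 * 39 := by rw [h]; norm_num
  have hm : ¬ 149 ∣ 39 := by norm_num
  have hmem := card_sylow_mem_candidates hc hm
  have hcand : sylowCandidates 149 39 = [1] := by decide
  rw [hcand] at hmem
  simp only [List.mem_cons, List.not_mem_nil, or_false] at hmem
  have hlt := one_lt_card_sylow_of_card hc hm (by norm_num) (by norm_num)
  have hd := hmem
  · omega

theorem no_5812 {G : Type*} [Group G] [Finite G] [IsSimpleGroup G]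
    (hG : ¬ IsMulCommutative G) (h : Nat.card G = 5812) : False := by
  exact tp hG 2 1453 2 1 (by norm_num) (by norm_num) (by rw [h]; norm_num)

theorem no_5813 {G : Type*} [Group G] [Finite G] [IsSimpleGroup G]
    (hG : ¬ IsMulCommutative G) (h : Nat.card G = 5813) : False := by
  exact tp hG 5813 2 1 0 (by norm_num) (by norm_num) (by rw [h]; norm_num)

theorem no_5814 {G : Type*} [Group G] [Finite G] [IsSimpleGroup G]
    (hG : ¬ IsMulCommutative G) (h : Nat.card G = 5814) : False := by
  exact ev hG (by rw [h]; exact ⟨2907, by norm_num⟩) (by rw [h]; omega)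

theorem no_5815 {G : Type*} [Group G] [Finite G] [IsSimpleGroup G]
    (hG : ¬ IsMulCommutative G) (h : Nat.card G = 5815) : False := by
  exact tp hG 5 1163 1 1 (by norm_num) (by norm_num) (by rw [h]; norm_num)

theorem no_5816 {G : Type*} [Group G] [Finite G] [IsSimpleGroup G]
    (hG : ¬ IsMulCommutative G) (h : Nat.card G = 5816) : False := by
  exact tp hG 2 727 3 1 (by norm_num) (by norm_num) (by rw [h]; norm_num)

theorem no_5817 {G : Type*} [Group G] [Finite G] [IsSimpleGroup G]
    (hG : ¬ IsMulCommutative G) (h : Nat.card G = 5817) : False := by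
  have : Fact (Nat.Prime 277) := ⟨by norm_num⟩
  have hc : Nat.card G = 277 ^ 1 * 21 := by rw [h]; norm_num
  have hm : ¬ 277 ∣ 21 := by norm_num
  have hmem := card_sylow_mem_candidates hc hm
  have hcand : sylowCandidates 277 21 = [1] := by decide
  rw [hcand] at hmem
  simp only [List.mem_cons, List.not_mem_nil, or_false] at hmem
  have hlt := one_lt_card_sylow_of_card hc hm (by norm_num) (by norm_num)
  have hd := hmem
  · omega

theorem no_5818 {G : Type*} [Group G] [Finite G] [IsSimpleGroup G]
    (hG : ¬ IsMulCommutative G) (h : Nat.card G = 5818) : False := by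
  exact tp hG 2 2909 1 1 (by norm_num) (by norm_num) (by rw [h]; norm_num)

theorem no_5819 {G : Type*} [Group G] [Finite G] [IsSimpleGroup G]
    (hG : ¬ IsMulCommutative G) (h : Nat.card G = 5819) : False := by
  exact tp hG 11 23 1 2 (by norm_num) (by norm_num) (by rw [h]; norm_num)

theorem no_5820 {G : Type*} [Group G] [Finite G] [IsSimpleGroup G]
    (hG : ¬ IsMulCommutative G) (h : Nat.card G = 5820) : False := by
  have : Fact (Nat.Prime 97) := ⟨by norm_num⟩
  have hc : Nat.card G = 97 ^ 1 * 60 := by rw [h]; norm_num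
  have hm : ¬ 97 ∣ 60 := by norm_num
  have hmem := card_sylow_mem_candidates hc hm
  have hcand : sylowCandidates 97 60 = [1] := by decide
  rw [hcand] at hmem
  simp only [List.mem_cons, List.not_mem_nil, or_false] at hmem
  have hlt := one_lt_card_sylow_of_card hc hm (by norm_num) (by norm_num)
  have hd := hmem
  · omega

theorem no_5821 {G : Type*} [Group G] [Finite G] [IsSimpleGroup G]
    (hG : ¬ IsMulCommutative G) (h : Nat.card G = 5821) : False := by
  exact tp hG 5821 2 1 0 (by norm_num) (by norm_num) (by rw [h]; norm_num)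

theorem no_5822 {G : Type*} [Group G] [Finite G] [IsSimpleGroup G]
    (hG : ¬ IsMulCommutative G) (h : Nat.card G = 5822) : False := by
  exact ev hG (by rw [h]; exact ⟨2911, by norm_num⟩) (by rw [h]; omega)

theorem no_5823 {G : Type*} [Group G] [Finite G] [IsSimpleGroup G]
    (hG : ¬ IsMulCommutative G) (h : Nat.card G = 5823) : False := by
  exact tp hG 3 647 2 1 (by norm_num) (by norm_num) (by rw [h]; norm_num)

theorem no_5824 {G : Type*} [Group G] [Finite G] [IsSimpleGroup G]
    (hG : ¬ IsMulCommutative G) (h : Nat.card G = 5824) : False := by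
  have : Fact (Nat.Prime 13) := ⟨by norm_num⟩
  have hc : Nat.card G = 13 ^ 1 * 448 := by rw [h]; norm_num
  have hm : ¬ 13 ∣ 448 := by norm_num
  have hmem := card_sylow_mem_candidates hc hm
  have hcand : sylowCandidates 13 448 = [1, 14] := by decide
  rw [hcand] at hmem
  simp only [List.mem_cons, List.not_mem_nil, or_false] at hmem
  have hlt := one_lt_card_sylow_of_card hc hm (by norm_num) (by norm_num)
  rcases hmem with hd | hd
  · omega
  · exact perm_kill hG (by norm_num) hc hm hd 416 (by omega) (by decide)

theorem no_5825 {G : Type*} [Group G] [Finite G] [IsSimpleGroup G]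
    (hG : ¬ IsMulCommutative G) (h : Nat.card G = 5825) : False := by
  exact tp hG 5 233 2 1 (by norm_num) (by norm_num) (by rw [h]; norm_num)

theorem no_5826 {G : Type*} [Group G] [Finite G] [IsSimpleGroup G]
    (hG : ¬ IsMulCommutative G) (h : Nat.card G = 5826) : False := by
  exact ev hG (by rw [h]; exact ⟨2913, by norm_num⟩) (by rw [h]; omega)

theorem no_5827 {G : Type*} [Group G] [Finite G] [IsSimpleGroup G]
    (hG : ¬ IsMulCommutative G) (h : Nat.card G = 5827) : False := by
  exact tp hG 5827 2 1 0 (by norm_num) (by norm_num) (by rw [h]; norm_num)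

theorem no_5828 {G : Type*} [Group G] [Finite G] [IsSimpleGroup G]
    (hG : ¬ IsMulCommutative G) (h : Nat.card G = 5828) : False := by
  exact ev hG (by rw [h]; exact ⟨2914, by norm_num⟩) (by rw [h]; omega)

theorem no_5829 {G : Type*} [Group G] [Finite G] [IsSimpleGroup G]
    (hG : ¬ IsMulCommutative G) (h : Nat.card G = 5829) : False := by
  have : Fact (Nat.Prime 67) := ⟨by norm_num⟩
  have hc : Nat.card G = 67 ^ 1 * 87 := by rw [h]; norm_num
  have hm : ¬ 67 ∣ 87 := by norm_num
  have hmem := card_sylow_mem_candidates hc hm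
  have hcand : sylowCandidates 67 87 = [1] := by decide
  rw [hcand] at hmem
  simp only [List.mem_cons, List.not_mem_nil, or_false] at hmem
  have hlt := one_lt_card_sylow_of_card hc hm (by norm_num) (by norm_num)
  have hd := hmem
  · omega

theorem no_5830 {G : Type*} [Group G] [Finite G] [IsSimpleGroup G]
    (hG : ¬ IsMulCommutative G) (h : Nat.card G = 5830) : False := by
  exact ev hG (by rw [h]; exact ⟨2915, by norm_num⟩) (by rw [h]; omega)

theorem no_5831 {G : Type*} [Group G] [Finite G] [IsSimpleGroup G]
    (hG : ¬ IsMulCommutative G) (h : Nat.card G = 5831) : False := by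
  exact tp hG 7 17 3 1 (by norm_num) (by norm_num) (by rw [h]; norm_num)

theorem no_5832 {G : Type*} [Group G] [Finite G] [IsSimpleGroup G]
    (hG : ¬ IsMulCommutative G) (h : Nat.card G = 5832) : False := by
  exact tp hG 2 3 3 6 (by norm_num) (by norm_num) (by rw [h]; norm_num)

theorem no_5833 {G : Type*} [Group G] [Finite G] [IsSimpleGroup G]
    (hG : ¬ IsMulCommutative G) (h : Nat.card G = 5833) : False := by
  exact tp hG 19 307 1 1 (by norm_num) (by norm_num) (by rw [h]; norm_num)

theorem no_5834 {G : Type*} [Group G] [Finite G] [IsSimpleGroup G]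
    (hG : ¬ IsMulCommutative G) (h : Nat.card G = 5834) : False := by
  exact tp hG 2 2917 1 1 (by norm_num) (by norm_num) (by rw [h]; norm_num)

theorem no_5835 {G : Type*} [Group G] [Finite G] [IsSimpleGroup G]
    (hG : ¬ IsMulCommutative G) (h : Nat.card G = 5835) : False := by
  have : Fact (Nat.Prime 389) := ⟨by norm_num⟩
  have hc : Nat.card G = 389 ^ 1 * 15 := by rw [h]; norm_num
  have hm : ¬ 389 ∣ 15 := by norm_num
  have hmem := card_sylow_mem_candidates hc hm
  have hcand : sylowCandidates 389 15 = [1] := by decide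
  rw [hcand] at hmem
  simp only [List.mem_cons, List.not_mem_nil, or_false] at hmem
  have hlt := one_lt_card_sylow_of_card hc hm (by norm_num) (by norm_num)
  have hd := hmem
  · omega

theorem no_5836 {G : Type*} [Group G] [Finite G] [IsSimpleGroup G]
    (hG : ¬ IsMulCommutative G) (h : Nat.card G = 5836) : False := by
  exact tp hG 2 1459 2 1 (by norm_num) (by norm_num) (by rw [h]; norm_num)

theorem no_5837 {G : Type*} [Group G] [Finite G] [IsSimpleGroup G]
    (hG : ¬ IsMulCommutative G) (h : Nat.card G = 5837) : False := by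
  exact tp hG 13 449 1 1 (by norm_num) (by norm_num) (by rw [h]; norm_num)

theorem no_5838 {G : Type*} [Group G] [Finite G] [IsSimpleGroup G]
    (hG : ¬ IsMulCommutative G) (h : Nat.card G = 5838) : False := by
  exact ev hG (by rw [h]; exact ⟨2919, by norm_num⟩) (by rw [h]; omega)

theorem no_5839 {G : Type*} [Group G] [Finite G] [IsSimpleGroup G]
    (hG : ¬ IsMulCommutative G) (h : Nat.card G = 5839) : False := by
  exact tp hG 5839 2 1 0 (by norm_num) (by norm_num) (by rw [h]; norm_num)

theorem no_5840 {G : Type*} [Group G] [Finite G] [IsSimpleGroup G]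
    (hG : ¬ IsMulCommutative G) (h : Nat.card G = 5840) : False := by
  have : Fact (Nat.Prime 73) := ⟨by norm_num⟩
  have hc : Nat.card G = 73 ^ 1 * 80 := by rw [h]; norm_num
  have hm : ¬ 73 ∣ 80 := by norm_num
  have hmem := card_sylow_mem_candidates hc hm
  have hcand : sylowCandidates 73 80 = [1] := by decide
  rw [hcand] at hmem
  simp only [List.mem_cons, List.not_mem_nil, or_false] at hmem
  have hlt := one_lt_card_sylow_of_card hc hm (by norm_num) (by norm_num)
  have hd := hmem
  · omega

theorem no_5841 {G : Type*} [Group G] [Finite G] [IsSimpleGroup G]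
    (hG : ¬ IsMulCommutative G) (h : Nat.card G = 5841) : False := by
  have : Fact (Nat.Prime 59) := ⟨by norm_num⟩
  have hc : Nat.card G = 59 ^ 1 * 99 := by rw [h]; norm_num
  have hm : ¬ 59 ∣ 99 := by norm_num
  have hmem := card_sylow_mem_candidates hc hm
  have hcand : sylowCandidates 59 99 = [1] := by decide
  rw [hcand] at hmem
  simp only [List.mem_cons, List.not_mem_nil, or_false] at hmem
  have hlt := one_lt_card_sylow_of_card hc hm (by norm_num) (by norm_num)
  have hd := hmem
  · omega

theorem no_5842 {G : Type*} [Group G] [Finite G] [IsSimpleGroup G]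
    (hG : ¬ IsMulCommutative G) (h : Nat.card G = 5842) : False := by
  exact ev hG (by rw [h]; exact ⟨2921, by norm_num⟩) (by rw [h]; omega)

theorem no_5843 {G : Type*} [Group G] [Finite G] [IsSimpleGroup G]
    (hG : ¬ IsMulCommutative G) (h : Nat.card G = 5843) : False := by
  exact tp hG 5843 2 1 0 (by norm_num) (by norm_num) (by rw [h]; norm_num)

theorem no_5844 {G : Type*} [Group G] [Finite G] [IsSimpleGroup G]
    (hG : ¬ IsMulCommutative G) (h : Nat.card G = 5844) : False := by
  have : Fact (Nat.Prime 487) := ⟨by norm_num⟩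
  have hc : Nat.card G = 487 ^ 1 * 12 := by rw [h]; norm_num
  have hm : ¬ 487 ∣ 12 := by norm_num
  have hmem := card_sylow_mem_candidates hc hm
  have hcand : sylowCandidates 487 12 = [1] := by decide
  rw [hcand] at hmem
  simp only [List.mem_cons, List.not_mem_nil, or_false] at hmem
  have hlt := one_lt_card_sylow_of_card hc hm (by norm_num) (by norm_num)
  have hd := hmem
  · omega

theorem no_5845 {G : Type*} [Group G] [Finite G] [IsSimpleGroup G]
    (hG : ¬ IsMulCommutative G) (h : Nat.card G = 5845) : False := by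
  have : Fact (Nat.Prime 167) := ⟨by norm_num⟩
  have hc : Nat.card G = 167 ^ 1 * 35 := by rw [h]; norm_num
  have hm : ¬ 167 ∣ 35 := by norm_num
  have hmem := card_sylow_mem_candidates hc hm
  have hcand : sylowCandidates 167 35 = [1] := by decide
  rw [hcand] at hmem
  simp only [List.mem_cons, List.not_mem_nil, or_false] at hmem
  have hlt := one_lt_card_sylow_of_card hc hm (by norm_num) (by norm_num)
  have hd := hmem
  · omega

theorem no_5846 {G : Type*} [Group G] [Finite G] [IsSimpleGroup G]
    (hG : ¬ IsMulCommutative G) (h : Nat.card G = 5846) : False := by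
  exact ev hG (by rw [h]; exact ⟨2923, by norm_num⟩) (by rw [h]; omega)

theorem no_5847 {G : Type*} [Group G] [Finite G] [IsSimpleGroup G]
    (hG : ¬ IsMulCommutative G) (h : Nat.card G = 5847) : False := by
  exact tp hG 3 1949 1 1 (by norm_num) (by norm_num) (by rw [h]; norm_num)

theorem no_5848 {G : Type*} [Group G] [Finite G] [IsSimpleGroup G]
    (hG : ¬ IsMulCommutative G) (h : Nat.card G = 5848) : False := by
  exact ev hG (by rw [h]; exact ⟨2924, by norm_num⟩) (by rw [h]; omega)

theorem no_5849 {G : Type*} [Group G] [Finite G] [IsSimpleGroup G]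
    (hG : ¬ IsMulCommutative G) (h : Nat.card G = 5849) : False := by
  exact tp hG 5849 2 1 0 (by norm_num) (by norm_num) (by rw [h]; norm_num)

theorem no_5850 {G : Type*} [Group G] [Finite G] [IsSimpleGroup G]
    (hG : ¬ IsMulCommutative G) (h : Nat.card G = 5850) : False := by
  exact ev hG (by rw [h]; exact ⟨2925, by norm_num⟩) (by rw [h]; omega)

theorem no_5851 {G : Type*} [Group G] [Finite G] [IsSimpleGroup G]
    (hG : ¬ IsMulCommutative G) (h : Nat.card G = 5851) : False := by
  exact tp hG 5851 2 1 0 (by norm_num) (by norm_num) (by rw [h]; norm_num)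

theorem no_5852 {G : Type*} [Group G] [Finite G] [IsSimpleGroup G]
    (hG : ¬ IsMulCommutative G) (h : Nat.card G = 5852) : False := by
  exact ev hG (by rw [h]; exact ⟨2926, by norm_num⟩) (by rw [h]; omega)

theorem no_5853 {G : Type*} [Group G] [Finite G] [IsSimpleGroup G]
    (hG : ¬ IsMulCommutative G) (h : Nat.card G = 5853) : False := by
  exact tp hG 3 1951 1 1 (by norm_num) (by norm_num) (by rw [h]; norm_num)

theorem no_5854 {G : Type*} [Group G] [Finite G] [IsSimpleGroup G]
    (hG : ¬ IsMulCommutative G) (h : Nat.card G = 5854) : False := by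
  exact tp hG 2 2927 1 1 (by norm_num) (by norm_num) (by rw [h]; norm_num)

theorem no_5855 {G : Type*} [Group G] [Finite G] [IsSimpleGroup G]
    (hG : ¬ IsMulCommutative G) (h : Nat.card G = 5855) : False := by
  exact tp hG 5 1171 1 1 (by norm_num) (by norm_num) (by rw [h]; norm_num)

theorem no_5856 {G : Type*} [Group G] [Finite G] [IsSimpleGroup G]
    (hG : ¬ IsMulCommutative G) (h : Nat.card G = 5856) : False := by
  have : Fact (Nat.Prime 61) := ⟨by norm_num⟩
  have hc : Nat.card G = 61 ^ 1 * 96 := by rw [h]; norm_num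
  have hm : ¬ 61 ∣ 96 := by norm_num
  have hmem := card_sylow_mem_candidates hc hm
  have hcand : sylowCandidates 61 96 = [1] := by decide
  rw [hcand] at hmem
  simp only [List.mem_cons, List.not_mem_nil, or_false] at hmem
  have hlt := one_lt_card_sylow_of_card hc hm (by norm_num) (by norm_num)
  have hd := hmem
  · omega

theorem no_5857 {G : Type*} [Group G] [Finite G] [IsSimpleGroup G]
    (hG : ¬ IsMulCommutative G) (h : Nat.card G = 5857) : False := by
  exact tp hG 5857 2 1 0 (by norm_num) (by norm_num) (by rw [h]; norm_num)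

theorem no_5858 {G : Type*} [Group G] [Finite G] [IsSimpleGroup G]
    (hG : ¬ IsMulCommutative G) (h : Nat.card G = 5858) : False := by
  exact ev hG (by rw [h]; exact ⟨2929, by norm_num⟩) (by rw [h]; omega)

theorem no_5859 {G : Type*} [Group G] [Finite G] [IsSimpleGroup G]
    (hG : ¬ IsMulCommutative G) (h : Nat.card G = 5859) : False := by
  have : Fact (Nat.Prime 7) := ⟨by norm_num⟩
  have hc : Nat.card G = 7 ^ 1 * 837 := by rw [h]; norm_num
  have hm : ¬ 7 ∣ 837 := by norm_num
  have hmem := card_sylow_mem_candidates hc hm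
  have hcand : sylowCandidates 7 837 = [1] := by decide
  rw [hcand] at hmem
  simp only [List.mem_cons, List.not_mem_nil, or_false] at hmem
  have hlt := one_lt_card_sylow_of_card hc hm (by norm_num) (by norm_num)
  have hd := hmem
  · omega

theorem no_5860 {G : Type*} [Group G] [Finite G] [IsSimpleGroup G]
    (hG : ¬ IsMulCommutative G) (h : Nat.card G = 5860) : False := by
  exact ev hG (by rw [h]; exact ⟨2930, by norm_num⟩) (by rw [h]; omega)

theorem no_5861 {G : Type*} [Group G] [Finite G] [IsSimpleGroup G]
    (hG : ¬ IsMulCommutative G) (h : Nat.card G = 5861) : False := by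
  exact tp hG 5861 2 1 0 (by norm_num) (by norm_num) (by rw [h]; norm_num)

theorem no_5862 {G : Type*} [Group G] [Finite G] [IsSimpleGroup G]
    (hG : ¬ IsMulCommutative G) (h : Nat.card G = 5862) : False := by
  exact ev hG (by rw [h]; exact ⟨2931, by norm_num⟩) (by rw [h]; omega)

theorem no_5863 {G : Type*} [Group G] [Finite G] [IsSimpleGroup G]
    (hG : ¬ IsMulCommutative G) (h : Nat.card G = 5863) : False := by
  have : Fact (Nat.Prime 41) := ⟨by norm_num⟩
  have hc : Nat.card G = 41 ^ 1 * 143 := by rw [h]; norm_num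
  have hm : ¬ 41 ∣ 143 := by norm_num
  have hmem := card_sylow_mem_candidates hc hm
  have hcand : sylowCandidates 41 143 = [1] := by decide
  rw [hcand] at hmem
  simp only [List.mem_cons, List.not_mem_nil, or_false] at hmem
  have hlt := one_lt_card_sylow_of_card hc hm (by norm_num) (by norm_num)
  have hd := hmem
  · omega

theorem no_5864 {G : Type*} [Group G] [Finite G] [IsSimpleGroup G]
    (hG : ¬ IsMulCommutative G) (h : Nat.card G = 5864) : False := by
  exact tp hG 2 733 3 1 (by norm_num) (by norm_num) (by rw [h]; norm_num)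

theorem no_5865 {G : Type*} [Group G] [Finite G] [IsSimpleGroup G]
    (hG : ¬ IsMulCommutative G) (h : Nat.card G = 5865) : False := by
  have : Fact (Nat.Prime 23) := ⟨by norm_num⟩
  have hc : Nat.card G = 23 ^ 1 * 255 := by rw [h]; norm_num
  have hm : ¬ 23 ∣ 255 := by norm_num
  have hmem := card_sylow_mem_candidates hc hm
  have hcand : sylowCandidates 23 255 = [1] := by decide
  rw [hcand] at hmem
  simp only [List.mem_cons, List.not_mem_nil, or_false] at hmem
  have hlt := one_lt_card_sylow_of_card hc hm (by norm_num) (by norm_num)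
  have hd := hmem
  · omega

theorem no_5866 {G : Type*} [Group G] [Finite G] [IsSimpleGroup G]
    (hG : ¬ IsMulCommutative G) (h : Nat.card G = 5866) : False := by
  exact ev hG (by rw [h]; exact ⟨2933, by norm_num⟩) (by rw [h]; omega)

theorem no_5867 {G : Type*} [Group G] [Finite G] [IsSimpleGroup G]
    (hG : ¬ IsMulCommutative G) (h : Nat.card G = 5867) : False := by
  exact tp hG 5867 2 1 0 (by norm_num) (by norm_num) (by rw [h]; norm_num)

theorem no_5868 {G : Type*} [Group G] [Finite G] [IsSimpleGroup G]
    (hG : ¬ IsMulCommutative G) (h : Nat.card G = 5868) : False := by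
  have : Fact (Nat.Prime 163) := ⟨by norm_num⟩
  have hc : Nat.card G = 163 ^ 1 * 36 := by rw [h]; norm_num
  have hm : ¬ 163 ∣ 36 := by norm_num
  have hmem := card_sylow_mem_candidates hc hm
  have hcand : sylowCandidates 163 36 = [1] := by decide
  rw [hcand] at hmem
  simp only [List.mem_cons, List.not_mem_nil, or_false] at hmem
  have hlt := one_lt_card_sylow_of_card hc hm (by norm_num) (by norm_num)
  have hd := hmem
  · omega

theorem no_5869 {G : Type*} [Group G] [Finite G] [IsSimpleGroup G]
    (hG : ¬ IsMulCommutative G) (h : Nat.card G = 5869) : False := by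
  exact tp hG 5869 2 1 0 (by norm_num) (by norm_num) (by rw [h]; norm_num)

theorem no_5870 {G : Type*} [Group G] [Finite G] [IsSimpleGroup G]
    (hG : ¬ IsMulCommutative G) (h : Nat.card G = 5870) : False := by
  exact ev hG (by rw [h]; exact ⟨2935, by norm_num⟩) (by rw [h]; omega)

theorem no_5871 {G : Type*} [Group G] [Finite G] [IsSimpleGroup G]
    (hG : ¬ IsMulCommutative G) (h : Nat.card G = 5871) : False := by
  have : Fact (Nat.Prime 103) := ⟨by norm_num⟩
  have hc : Nat.card G = 103 ^ 1 * 57 := by rw [h]; norm_num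
  have hm : ¬ 103 ∣ 57 := by norm_num
  have hmem := card_sylow_mem_candidates hc hm
  have hcand : sylowCandidates 103 57 = [1] := by decide
  rw [hcand] at hmem
  simp only [List.mem_cons, List.not_mem_nil, or_false] at hmem
  have hlt := one_lt_card_sylow_of_card hc hm (by norm_num) (by norm_num)
  have hd := hmem
  · omega

theorem no_5872 {G : Type*} [Group G] [Finite G] [IsSimpleGroup G]
    (hG : ¬ IsMulCommutative G) (h : Nat.card G = 5872) : False := by
  exact tp hG 2 367 4 1 (by norm_num) (by norm_num) (by rw [h]; norm_num)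

theorem no_5873 {G : Type*} [Group G] [Finite G] [IsSimpleGroup G]
    (hG : ¬ IsMulCommutative G) (h : Nat.card G = 5873) : False := by
  exact tp hG 7 839 1 1 (by norm_num) (by norm_num) (by rw [h]; norm_num)

theorem no_5874 {G : Type*} [Group G] [Finite G] [IsSimpleGroup G]
    (hG : ¬ IsMulCommutative G) (h : Nat.card G = 5874) : False := by
  exact ev hG (by rw [h]; exact ⟨2937, by norm_num⟩) (by rw [h]; omega)

theorem no_5875 {G : Type*} [Group G] [Finite G] [IsSimpleGroup G]
    (hG : ¬ IsMulCommutative G) (h : Nat.card G = 5875) : False := by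
  exact tp hG 5 47 3 1 (by norm_num) (by norm_num) (by rw [h]; norm_num)

theorem no_5876 {G : Type*} [Group G] [Finite G] [IsSimpleGroup G]
    (hG : ¬ IsMulCommutative G) (h : Nat.card G = 5876) : False := by
  exact ev hG (by rw [h]; exact ⟨2938, by norm_num⟩) (by rw [h]; omega)

theorem no_5877 {G : Type*} [Group G] [Finite G] [IsSimpleGroup G]
    (hG : ¬ IsMulCommutative G) (h : Nat.card G = 5877) : False := by
  exact tp hG 3 653 2 1 (by norm_num) (by norm_num) (by rw [h]; norm_num)

theorem no_5878 {G : Type*} [Group G] [Finite G] [IsSimpleGroup G]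
    (hG : ¬ IsMulCommutative G) (h : Nat.card G = 5878) : False := by
  exact tp hG 2 2939 1 1 (by norm_num) (by norm_num) (by rw [h]; norm_num)

theorem no_5879 {G : Type*} [Group G] [Finite G] [IsSimpleGroup G]
    (hG : ¬ IsMulCommutative G) (h : Nat.card G = 5879) : False := by
  exact tp hG 5879 2 1 0 (by norm_num) (by norm_num) (by rw [h]; norm_num)

theorem no_5881 {G : Type*} [Group G] [Finite G] [IsSimpleGroup G]
    (hG : ¬ IsMulCommutative G) (h : Nat.card G = 5881) : False := by
  exact tp hG 5881 2 1 0 (by norm_num) (by norm_num) (by rw [h]; norm_num)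

theorem no_5882 {G : Type*} [Group G] [Finite G] [IsSimpleGroup G]
    (hG : ¬ IsMulCommutative G) (h : Nat.card G = 5882) : False := by
  exact ev hG (by rw [h]; exact ⟨2941, by norm_num⟩) (by rw [h]; omega)

theorem no_5883 {G : Type*} [Group G] [Finite G] [IsSimpleGroup G]
    (hG : ¬ IsMulCommutative G) (h : Nat.card G = 5883) : False := by
  have : Fact (Nat.Prime 53) := ⟨by norm_num⟩
  have hc : Nat.card G = 53 ^ 1 * 111 := by rw [h]; norm_num
  have hm : ¬ 53 ∣ 111 := by norm_num
  have hmem := card_sylow_mem_candidates hc hm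
  have hcand : sylowCandidates 53 111 = [1] := by decide
  rw [hcand] at hmem
  simp only [List.mem_cons, List.not_mem_nil, or_false] at hmem
  have hlt := one_lt_card_sylow_of_card hc hm (by norm_num) (by norm_num)
  have hd := hmem
  · omega

theorem no_5884 {G : Type*} [Group G] [Finite G] [IsSimpleGroup G]
    (hG : ¬ IsMulCommutative G) (h : Nat.card G = 5884) : False := by
  exact tp hG 2 1471 2 1 (by norm_num) (by norm_num) (by rw [h]; norm_num)

theorem no_5885 {G : Type*} [Group G] [Finite G] [IsSimpleGroup G]
    (hG : ¬ IsMulCommutative G) (h : Nat.card G = 5885) : False := by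
  have : Fact (Nat.Prime 107) := ⟨by norm_num⟩
  have hc : Nat.card G = 107 ^ 1 * 55 := by rw [h]; norm_num
  have hm : ¬ 107 ∣ 55 := by norm_num
  have hmem := card_sylow_mem_candidates hc hm
  have hcand : sylowCandidates 107 55 = [1] := by decide
  rw [hcand] at hmem
  simp only [List.mem_cons, List.not_mem_nil, or_false] at hmem
  have hlt := one_lt_card_sylow_of_card hc hm (by norm_num) (by norm_num)
  have hd := hmem
  · omega

theorem no_5886 {G : Type*} [Group G] [Finite G] [IsSimpleGroup G]
    (hG : ¬ IsMulCommutative G) (h : Nat.card G = 5886) : False := by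
  exact ev hG (by rw [h]; exact ⟨2943, by norm_num⟩) (by rw [h]; omega)

theorem no_5887 {G : Type*} [Group G] [Finite G] [IsSimpleGroup G]
    (hG : ¬ IsMulCommutative G) (h : Nat.card G = 5887) : False := by
  exact tp hG 7 29 1 2 (by norm_num) (by norm_num) (by rw [h]; norm_num)

theorem no_5888 {G : Type*} [Group G] [Finite G] [IsSimpleGroup G]
    (hG : ¬ IsMulCommutative G) (h : Nat.card G = 5888) : False := by
  exact tp hG 2 23 8 1 (by norm_num) (by norm_num) (by rw [h]; norm_num)

theorem no_5889 {G : Type*} [Group G] [Finite G] [IsSimpleGroup G]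
    (hG : ¬ IsMulCommutative G) (h : Nat.card G = 5889) : False := by
  have : Fact (Nat.Prime 151) := ⟨by norm_num⟩
  have hc : Nat.card G = 151 ^ 1 * 39 := by rw [h]; norm_num
  have hm : ¬ 151 ∣ 39 := by norm_num
  have hmem := card_sylow_mem_candidates hc hm
  have hcand : sylowCandidates 151 39 = [1] := by decide
  rw [hcand] at hmem
  simp only [List.mem_cons, List.not_mem_nil, or_false] at hmem
  have hlt := one_lt_card_sylow_of_card hc hm (by norm_num) (by norm_num)
  have hd := hmem
  · omega

theorem no_5890 {G : Type*} [Group G] [Finite G] [IsSimpleGroup G]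
    (hG : ¬ IsMulCommutative G) (h : Nat.card G = 5890) : False := by
  exact ev hG (by rw [h]; exact ⟨2945, by norm_num⟩) (by rw [h]; omega)

theorem no_5891 {G : Type*} [Group G] [Finite G] [IsSimpleGroup G]
    (hG : ¬ IsMulCommutative G) (h : Nat.card G = 5891) : False := by
  exact tp hG 43 137 1 1 (by norm_num) (by norm_num) (by rw [h]; norm_num)

theorem no_5892 {G : Type*} [Group G] [Finite G] [IsSimpleGroup G]
    (hG : ¬ IsMulCommutative G) (h : Nat.card G = 5892) : False := by
  have : Fact (Nat.Prime 491) := ⟨by norm_num⟩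
  have hc : Nat.card G = 491 ^ 1 * 12 := by rw [h]; norm_num
  have hm : ¬ 491 ∣ 12 := by norm_num
  have hmem := card_sylow_mem_candidates hc hm
  have hcand : sylowCandidates 491 12 = [1] := by decide
  rw [hcand] at hmem
  simp only [List.mem_cons, List.not_mem_nil, or_false] at hmem
  have hlt := one_lt_card_sylow_of_card hc hm (by norm_num) (by norm_num)
  have hd := hmem
  · omega

theorem no_5893 {G : Type*} [Group G] [Finite G] [IsSimpleGroup G]
    (hG : ¬ IsMulCommutative G) (h : Nat.card G = 5893) : False := by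
  exact tp hG 71 83 1 1 (by norm_num) (by norm_num) (by rw [h]; norm_num)

theorem no_5894 {G : Type*} [Group G] [Finite G] [IsSimpleGroup G]
    (hG : ¬ IsMulCommutative G) (h : Nat.card G = 5894) : False := by
  exact ev hG (by rw [h]; exact ⟨2947, by norm_num⟩) (by rw [h]; omega)

theorem no_5895 {G : Type*} [Group G] [Finite G] [IsSimpleGroup G]
    (hG : ¬ IsMulCommutative G) (h : Nat.card G = 5895) : False := by
  have : Fact (Nat.Prime 131) := ⟨by norm_num⟩
  have hc : Nat.card G = 131 ^ 1 * 45 := by rw [h]; norm_num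
  have hm : ¬ 131 ∣ 45 := by norm_num
  have hmem := card_sylow_mem_candidates hc hm
  have hcand : sylowCandidates 131 45 = [1] := by decide
  rw [hcand] at hmem
  simp only [List.mem_cons, List.not_mem_nil, or_false] at hmem
  have hlt := one_lt_card_sylow_of_card hc hm (by norm_num) (by norm_num)
  have hd := hmem
  · omega

theorem no_5896 {G : Type*} [Group G] [Finite G] [IsSimpleGroup G]
    (hG : ¬ IsMulCommutative G) (h : Nat.card G = 5896) : False := by
  exact ev hG (by rw [h]; exact ⟨2948, by norm_num⟩) (by rw [h]; omega)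

theorem no_5897 {G : Type*} [Group G] [Finite G] [IsSimpleGroup G]
    (hG : ¬ IsMulCommutative G) (h : Nat.card G = 5897) : False := by
  exact tp hG 5897 2 1 0 (by norm_num) (by norm_num) (by rw [h]; norm_num)

theorem no_5898 {G : Type*} [Group G] [Finite G] [IsSimpleGroup G]
    (hG : ¬ IsMulCommutative G) (h : Nat.card G = 5898) : False := by
  exact ev hG (by rw [h]; exact ⟨2949, by norm_num⟩) (by rw [h]; omega)

theorem no_5899 {G : Type*} [Group G] [Finite G] [IsSimpleGroup G]
    (hG : ¬ IsMulCommutative G) (h : Nat.card G = 5899) : False := by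
  exact tp hG 17 347 1 1 (by norm_num) (by norm_num) (by rw [h]; norm_num)

theorem no_5900 {G : Type*} [Group G] [Finite G] [IsSimpleGroup G]
    (hG : ¬ IsMulCommutative G) (h : Nat.card G = 5900) : False := by
  exact ev hG (by rw [h]; exact ⟨2950, by norm_num⟩) (by rw [h]; omega)

/-- the orders in [5801, 5900] not excluded by the engine -/
theorem chunk {G : Type*} [Group G] [Finite G] [IsSimpleGroup G]
    (hG : ¬ IsMulCommutative G) (n : ℕ) (hn : Nat.card G = n) (h1 : 5801 ≤ n) (h2 : n ≤ 5900) :
    n = 5880 := by
  interval_cases n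
  · exact (no_5801 hG hn).elim
  · exact (no_5802 hG hn).elim
  · exact (no_5803 hG hn).elim
  · exact (no_5804 hG hn).elim
  · exact (no_5805 hG hn).elim
  · exact (no_5806 hG hn).elim
  · exact (no_5807 hG hn).elim
  · exact (no_5808 hG hn).elim
  · exact (no_5809 hG hn).elim
  · exact (no_5810 hG hn).elim
  · exact (no_5811 hG hn).elim
  · exact (no_5812 hG hn).elim
  · exact (no_5813 hG hn).elim
  · exact (no_5814 hG hn).elim
  · exact (no_5815 hG hn).elim
  · exact (no_5816 hG hn).elim
  · exact (no_5817 hG hn).elim
  · exact (no_5818 hG hn).elim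
  · exact (no_5819 hG hn).elim
  · exact (no_5820 hG hn).elim
  · exact (no_5821 hG hn).elim
  · exact (no_5822 hG hn).elim
  · exact (no_5823 hG hn).elim
  · exact (no_5824 hG hn).elim
  · exact (no_5825 hG hn).elim
  · exact (no_5826 hG hn).elim
  · exact (no_5827 hG hn).elim
  · exact (no_5828 hG hn).elim
  · exact (no_5829 hG hn).elim
  · exact (no_5830 hG hn).elim
  · exact (no_5831 hG hn).elim
  · exact (no_5832 hG hn).elim
  · exact (no_5833 hG hn).elim
  · exact (no_5834 hG hn).elim
  · exact (no_5835 hG hn).elim
  · exact (no_5836 hG hn).elim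
  · exact (no_5837 hG hn).elim
  · exact (no_5838 hG hn).elim
  · exact (no_5839 hG hn).elim
  · exact (no_5840 hG hn).elim
  · exact (no_5841 hG hn).elim
  · exact (no_5842 hG hn).elim
  · exact (no_5843 hG hn).elim
  · exact (no_5844 hG hn).elim
  · exact (no_5845 hG hn).elim
  · exact (no_5846 hG hn).elim
  · exact (no_5847 hG hn).elim
  · exact (no_5848 hG hn).elim
  · exact (no_5849 hG hn).elim
  · exact (no_5850 hG hn).elim
  · exact (no_5851 hG hn).elim
  · exact (no_5852 hG hn).elim
  · exact (no_5853 hG hn).elim
  · exact (no_5854 hG hn).elim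
  · exact (no_5855 hG hn).elim
  · exact (no_5856 hG hn).elim
  · exact (no_5857 hG hn).elim
  · exact (no_5858 hG hn).elim
  · exact (no_5859 hG hn).elim
  · exact (no_5860 hG hn).elim
  · exact (no_5861 hG hn).elim
  · exact (no_5862 hG hn).elim
  · exact (no_5863 hG hn).elim
  · exact (no_5864 hG hn).elim
  · exact (no_5865 hG hn).elim
  · exact (no_5866 hG hn).elim
  · exact (no_5867 hG hn).elim
  · exact (no_5868 hG hn).elim
  · exact (no_5869 hG hn).elim
  · exact (no_5870 hG hn).elim
  · exact (no_5871 hG hn).elim
  · exact (no_5872 hG hn).elim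
  · exact (no_5873 hG hn).elim
  · exact (no_5874 hG hn).elim
  · exact (no_5875 hG hn).elim
  · exact (no_5876 hG hn).elim
  · exact (no_5877 hG hn).elim
  · exact (no_5878 hG hn).elim
  · exact (no_5879 hG hn).elim
  · simp
  · exact (no_5881 hG hn).elim
  · exact (no_5882 hG hn).elim
  · exact (no_5883 hG hn).elim
  · exact (no_5884 hG hn).elim
  · exact (no_5885 hG hn).elim
  · exact (no_5886 hG hn).elim
  · exact (no_5887 hG hn).elim
  · exact (no_5888 hG hn).elim
  · exact (no_5889 hG hn).elim
  · exact (no_5890 hG hn).elim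
  · exact (no_5891 hG hn).elim
  · exact (no_5892 hG hn).elim
  · exact (no_5893 hG hn).elim
  · exact (no_5894 hG hn).elim
  · exact (no_5895 hG hn).elim
  · exact (no_5896 hG hn).elim
  · exact (no_5897 hG hn).elim
  · exact (no_5898 hG hn).elim
  · exact (no_5899 hG hn).elim
  · exact (no_5900 hG hn).elim

end Cfsg.Agent.Lib.Helper16_SO_E22
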