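import Mathlib
import Cfsg.Agent.Lib.Helper75_SM_Base

/-!
# S0983 engine, generated file: no simple group of order N for the easy N in [5901, 6000]
(helper16; same scheme as helper75's `Helper75_SM_E*`)
-/

set_option autoImplicit false
set_option linter.unusedVariables false

namespace Cfsg.Agent.Lib.Helper16_SO_E23

open Cfsg.Agent.Lib.Helper17_Sylow Cfsg.Agent.Lib.Helper75_SM_Base

theorem no_5901 {G : Type*} [Group G] [Finite G] [IsSimpleGroup G]
    (hG : ¬ IsMulCommutative G) (h : Nat.card G = 5901) : False := by
  have : Fact (Nat.Prime 281) := ⟨by norm_num⟩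
  have hc : Nat.card G = 281 ^ 1 * 21 := by rw [h]; norm_num
  have hm : ¬ 281 ∣ 21 := by norm_num
  have hmem := card_sylow_mem_candidates hc hm
  have hcand : sylowCandidates 281 21 = [1] := by decide
  rw [hcand] at hmem
  simp only [List.mem_cons, List.not_mem_nil, or_false] at hmem
  have hlt := one_lt_card_sylow_of_card hc hm (by norm_num) (by norm_num)
  have hd := hmem
  · omega

theorem no_5902 {G : Type*} [Group G] [Finite G] [IsSimpleGroup G]
    (hG : ¬ IsMulCommutative G) (h : Nat.card G = 5902) : False := by
  exact ev hG (by rw [h]; exact ⟨2951, by norm_num⟩) (by rw [h]; omega)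

theorem no_5903 {G : Type*} [Group G] [Finite G] [IsSimpleGroup G]
    (hG : ¬ IsMulCommutative G) (h : Nat.card G = 5903) : False := by
  exact tp hG 5903 2 1 0 (by norm_num) (by norm_num) (by rw [h]; norm_num)

theorem no_5904 {G : Type*} [Group G] [Finite G] [IsSimpleGroup G]
    (hG : ¬ IsMulCommutative G) (h : Nat.card G = 5904) : False := by
  have : Fact (Nat.Prime 41) := ⟨by norm_num⟩
  have hc : Nat.card G = 41 ^ 1 * 144 := by rw [h]; norm_num
  have hm : ¬ 41 ∣ 144 := by norm_num
  have hmem := card_sylow_mem_candidates hc hm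
  have hcand : sylowCandidates 41 144 = [1] := by decide
  rw [hcand] at hmem
  simp only [List.mem_cons, List.not_mem_nil, or_false] at hmem
  have hlt := one_lt_card_sylow_of_card hc hm (by norm_num) (by norm_num)
  have hd := hmem
  · omega

theorem no_5905 {G : Type*} [Group G] [Finite G] [IsSimpleGroup G]
    (hG : ¬ IsMulCommutative G) (h : Nat.card G = 5905) : False := by
  exact tp hG 5 1181 1 1 (by norm_num) (by norm_num) (by rw [h]; norm_num)

theorem no_5906 {G : Type*} [Group G] [Finite G] [IsSimpleGroup G]
    (hG : ¬ IsMulCommutative G) (h : Nat.card G = 5906) : False := by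
  exact tp hG 2 2953 1 1 (by norm_num) (by norm_num) (by rw [h]; norm_num)

theorem no_5907 {G : Type*} [Group G] [Finite G] [IsSimpleGroup G]
    (hG : ¬ IsMulCommutative G) (h : Nat.card G = 5907) : False := by
  have : Fact (Nat.Prime 179) := ⟨by norm_num⟩
  have hc : Nat.card G = 179 ^ 1 * 33 := by rw [h]; norm_num
  have hm : ¬ 179 ∣ 33 := by norm_num
  have hmem := card_sylow_mem_candidates hc hm
  have hcand : sylowCandidates 179 33 = [1] := by decide
  rw [hcand] at hmem
  simp only [List.mem_cons, List.not_mem_nil, or_false] at hmem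
  have hlt := one_lt_card_sylow_of_card hc hm (by norm_num) (by norm_num)
  have hd := hmem
  · omega

theorem no_5908 {G : Type*} [Group G] [Finite G] [IsSimpleGroup G]
    (hG : ¬ IsMulCommutative G) (h : Nat.card G = 5908) : False := by
  exact ev hG (by rw [h]; exact ⟨2954, by norm_num⟩) (by rw [h]; omega)

theorem no_5909 {G : Type*} [Group G] [Finite G] [IsSimpleGroup G]
    (hG : ¬ IsMulCommutative G) (h : Nat.card G = 5909) : False := by
  exact tp hG 19 311 1 1 (by norm_num) (by norm_num) (by rw [h]; norm_num)

theorem no_5910 {G : Type*} [Group G] [Finite G] [IsSimpleGroup G]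
    (hG : ¬ IsMulCommutative G) (h : Nat.card G = 5910) : False := by
  exact ev hG (by rw [h]; exact ⟨2955, by norm_num⟩) (by rw [h]; omega)

theorem no_5911 {G : Type*} [Group G] [Finite G] [IsSimpleGroup G]
    (hG : ¬ IsMulCommutative G) (h : Nat.card G = 5911) : False := by
  exact tp hG 23 257 1 1 (by norm_num) (by norm_num) (by rw [h]; norm_num)

theorem no_5912 {G : Type*} [Group G] [Finite G] [IsSimpleGroup G]
    (hG : ¬ IsMulCommutative G) (h : Nat.card G = 5912) : False := by
  exact tp hG 2 739 3 1 (by norm_num) (by norm_num) (by rw [h]; norm_num)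

theorem no_5913 {G : Type*} [Group G] [Finite G] [IsSimpleGroup G]
    (hG : ¬ IsMulCommutative G) (h : Nat.card G = 5913) : False := by
  exact tp hG 3 73 4 1 (by norm_num) (by norm_num) (by rw [h]; norm_num)

theorem no_5914 {G : Type*} [Group G] [Finite G] [IsSimpleGroup G]
    (hG : ¬ IsMulCommutative G) (h : Nat.card G = 5914) : False := by
  exact tp hG 2 2957 1 1 (by norm_num) (by norm_num) (by rw [h]; norm_num)

theorem no_5915 {G : Type*} [Group G] [Finite G] [IsSimpleGroup G]
    (hG : ¬ IsMulCommutative G) (h : Nat.card G = 5915) : False := by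
  have : Fact (Nat.Prime 13) := ⟨by norm_num⟩
  have hc : Nat.card G = 13 ^ 2 * 35 := by rw [h]; norm_num
  have hm : ¬ 13 ∣ 35 := by norm_num
  have hmem := card_sylow_mem_candidates hc hm
  have hcand : sylowCandidates 13 35 = [1] := by decide
  rw [hcand] at hmem
  simp only [List.mem_cons, List.not_mem_nil, or_false] at hmem
  have hlt := one_lt_card_sylow_of_card hc hm (by norm_num) (by norm_num)
  have hd := hmem
  · omega

theorem no_5916 {G : Type*} [Group G] [Finite G] [IsSimpleGroup G]
    (hG : ¬ IsMulCommutative G) (h : Nat.card G = 5916) : False := by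
  have : Fact (Nat.Prime 29) := ⟨by norm_num⟩
  have hc : Nat.card G = 29 ^ 1 * 204 := by rw [h]; norm_num
  have hm : ¬ 29 ∣ 204 := by norm_num
  have hmem := card_sylow_mem_candidates hc hm
  have hcand : sylowCandidates 29 204 = [1, 204] := by decide
  rw [hcand] at hmem
  simp only [List.mem_cons, List.not_mem_nil, or_false] at hmem
  have hlt := one_lt_card_sylow_of_card hc hm (by norm_num) (by norm_num)
  rcases hmem with hd | hd
  · omega
  · exact burn_kill hc hm (by norm_num) 204 hd (by decide)

theorem no_5917 {G : Type*} [Group G] [Finite G] [IsSimpleGroup G]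
    (hG : ¬ IsMulCommutative G) (h : Nat.card G = 5917) : False := by
  exact tp hG 61 97 1 1 (by norm_num) (by norm_num) (by rw [h]; norm_num)

theorem no_5918 {G : Type*} [Group G] [Finite G] [IsSimpleGroup G]
    (hG : ¬ IsMulCommutative G) (h : Nat.card G = 5918) : False := by
  exact ev hG (by rw [h]; exact ⟨2959, by norm_num⟩) (by rw [h]; omega)

theorem no_5919 {G : Type*} [Group G] [Finite G] [IsSimpleGroup G]
    (hG : ¬ IsMulCommutative G) (h : Nat.card G = 5919) : False := by
  exact tp hG 3 1973 1 1 (by norm_num) (by norm_num) (by rw [h]; norm_num)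

theorem no_5920 {G : Type*} [Group G] [Finite G] [IsSimpleGroup G]
    (hG : ¬ IsMulCommutative G) (h : Nat.card G = 5920) : False := by
  have : Fact (Nat.Prime 37) := ⟨by norm_num⟩
  have hc : Nat.card G = 37 ^ 1 * 160 := by rw [h]; norm_num
  have hm : ¬ 37 ∣ 160 := by norm_num
  have hmem := card_sylow_mem_candidates hc hm
  have hcand : sylowCandidates 37 160 = [1] := by decide
  rw [hcand] at hmem
  simp only [List.mem_cons, List.not_mem_nil, or_false] at hmem
  have hlt := one_lt_card_sylow_of_card hc hm (by norm_num) (by norm_num)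
  have hd := hmem
  · omega

theorem no_5921 {G : Type*} [Group G] [Finite G] [IsSimpleGroup G]
    (hG : ¬ IsMulCommutative G) (h : Nat.card G = 5921) : False := by
  exact tp hG 31 191 1 1 (by norm_num) (by norm_num) (by rw [h]; norm_num)

theorem no_5922 {G : Type*} [Group G] [Finite G] [IsSimpleGroup G]
    (hG : ¬ IsMulCommutative G) (h : Nat.card G = 5922) : False := by
  exact ev hG (by rw [h]; exact ⟨2961, by norm_num⟩) (by rw [h]; omega)

theorem no_5923 {G : Type*} [Group G] [Finite G] [IsSimpleGroup G]
    (hG : ¬ IsMulCommutative G) (h : Nat.card G = 5923) : False := by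
  exact tp hG 5923 2 1 0 (by norm_num) (by norm_num) (by rw [h]; norm_num)

theorem no_5924 {G : Type*} [Group G] [Finite G] [IsSimpleGroup G]
    (hG : ¬ IsMulCommutative G) (h : Nat.card G = 5924) : False := by
  exact tp hG 2 1481 2 1 (by norm_num) (by norm_num) (by rw [h]; norm_num)

theorem no_5925 {G : Type*} [Group G] [Finite G] [IsSimpleGroup G]
    (hG : ¬ IsMulCommutative G) (h : Nat.card G = 5925) : False := by
  have : Fact (Nat.Prime 79) := ⟨by norm_num⟩
  have hc : Nat.card G = 79 ^ 1 * 75 := by rw [h]; norm_num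
  have hm : ¬ 79 ∣ 75 := by norm_num
  have hmem := card_sylow_mem_candidates hc hm
  have hcand : sylowCandidates 79 75 = [1] := by decide
  rw [hcand] at hmem
  simp only [List.mem_cons, List.not_mem_nil, or_false] at hmem
  have hlt := one_lt_card_sylow_of_card hc hm (by norm_num) (by norm_num)
  have hd := hmem
  · omega

theorem no_5926 {G : Type*} [Group G] [Finite G] [IsSimpleGroup G]
    (hG : ¬ IsMulCommutative G) (h : Nat.card G = 5926) : False := by
  exact tp hG 2 2963 1 1 (by norm_num) (by norm_num) (by rw [h]; norm_num)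

theorem no_5927 {G : Type*} [Group G] [Finite G] [IsSimpleGroup G]
    (hG : ¬ IsMulCommutative G) (h : Nat.card G = 5927) : False := by
  exact tp hG 5927 2 1 0 (by norm_num) (by norm_num) (by rw [h]; norm_num)

theorem no_5928 {G : Type*} [Group G] [Finite G] [IsSimpleGroup G]
    (hG : ¬ IsMulCommutative G) (h : Nat.card G = 5928) : False := by
  have : Fact (Nat.Prime 13) := ⟨by norm_num⟩
  have hc : Nat.card G = 13 ^ 1 * 456 := by rw [h]; norm_num
  have hm : ¬ 13 ∣ 456 := by norm_num
  have hmem := card_sylow_mem_candidates hc hm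
  have hcand : sylowCandidates 13 456 = [1, 456] := by decide
  rw [hcand] at hmem
  simp only [List.mem_cons, List.not_mem_nil, or_false] at hmem
  have hlt := one_lt_card_sylow_of_card hc hm (by norm_num) (by norm_num)
  rcases hmem with hd | hd
  · omega
  · exact burn_kill hc hm (by norm_num) 456 hd (by decide)

theorem no_5929 {G : Type*} [Group G] [Finite G] [IsSimpleGroup G]
    (hG : ¬ IsMulCommutative G) (h : Nat.card G = 5929) : False := by
  exact tp hG 7 11 2 2 (by norm_num) (by norm_num) (by rw [h]; norm_num)

theorem no_5930 {G : Type*} [Group G] [Finite G] [IsSimpleGroup G]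
    (hG : ¬ IsMulCommutative G) (h : Nat.card G = 5930) : False := by
  exact ev hG (by rw [h]; exact ⟨2965, by norm_num⟩) (by rw [h]; omega)

theorem no_5931 {G : Type*} [Group G] [Finite G] [IsSimpleGroup G]
    (hG : ¬ IsMulCommutative G) (h : Nat.card G = 5931) : False := by
  exact tp hG 3 659 2 1 (by norm_num) (by norm_num) (by rw [h]; norm_num)

theorem no_5932 {G : Type*} [Group G] [Finite G] [IsSimpleGroup G]
    (hG : ¬ IsMulCommutative G) (h : Nat.card G = 5932) : False := by
  exact tp hG 2 1483 2 1 (by norm_num) (by norm_num) (by rw [h]; norm_num)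

theorem no_5933 {G : Type*} [Group G] [Finite G] [IsSimpleGroup G]
    (hG : ¬ IsMulCommutative G) (h : Nat.card G = 5933) : False := by
  exact tp hG 17 349 1 1 (by norm_num) (by norm_num) (by rw [h]; norm_num)

theorem no_5934 {G : Type*} [Group G] [Finite G] [IsSimpleGroup G]
    (hG : ¬ IsMulCommutative G) (h : Nat.card G = 5934) : False := by
  exact ev hG (by rw [h]; exact ⟨2967, by norm_num⟩) (by rw [h]; omega)

theorem no_5935 {G : Type*} [Group G] [Finite G] [IsSimpleGroup G]
    (hG : ¬ IsMulCommutative G) (h : Nat.card G = 5935) : False := by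
  exact tp hG 5 1187 1 1 (by norm_num) (by norm_num) (by rw [h]; norm_num)

theorem no_5936 {G : Type*} [Group G] [Finite G] [IsSimpleGroup G]
    (hG : ¬ IsMulCommutative G) (h : Nat.card G = 5936) : False := by
  have : Fact (Nat.Prime 53) := ⟨by norm_num⟩
  have hc : Nat.card G = 53 ^ 1 * 112 := by rw [h]; norm_num
  have hm : ¬ 53 ∣ 112 := by norm_num
  have hmem := card_sylow_mem_candidates hc hm
  have hcand : sylowCandidates 53 112 = [1] := by decide
  rw [hcand] at hmem
  simp only [List.mem_cons, List.not_mem_nil, or_false] at hmem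
  have hlt := one_lt_card_sylow_of_card hc hm (by norm_num) (by norm_num)
  have hd := hmem
  · omega

theorem no_5937 {G : Type*} [Group G] [Finite G] [IsSimpleGroup G]
    (hG : ¬ IsMulCommutative G) (h : Nat.card G = 5937) : False := by
  exact tp hG 3 1979 1 1 (by norm_num) (by norm_num) (by rw [h]; norm_num)

theorem no_5938 {G : Type*} [Group G] [Finite G] [IsSimpleGroup G]
    (hG : ¬ IsMulCommutative G) (h : Nat.card G = 5938) : False := by
  exact tp hG 2 2969 1 1 (by norm_num) (by norm_num) (by rw [h]; norm_num)

theorem no_5939 {G : Type*} [Group G] [Finite G] [IsSimpleGroup G]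
    (hG : ¬ IsMulCommutative G) (h : Nat.card G = 5939) : False := by
  exact tp hG 5939 2 1 0 (by norm_num) (by norm_num) (by rw [h]; norm_num)

theorem no_5941 {G : Type*} [Group G] [Finite G] [IsSimpleGroup G]
    (hG : ¬ IsMulCommutative G) (h : Nat.card G = 5941) : False := by
  exact tp hG 13 457 1 1 (by norm_num) (by norm_num) (by rw [h]; norm_num)

theorem no_5942 {G : Type*} [Group G] [Finite G] [IsSimpleGroup G]
    (hG : ¬ IsMulCommutative G) (h : Nat.card G = 5942) : False := by
  exact tp hG 2 2971 1 1 (by norm_num) (by norm_num) (by rw [h]; norm_num)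

theorem no_5943 {G : Type*} [Group G] [Finite G] [IsSimpleGroup G]
    (hG : ¬ IsMulCommutative G) (h : Nat.card G = 5943) : False := by
  have : Fact (Nat.Prime 283) := ⟨by norm_num⟩
  have hc : Nat.card G = 283 ^ 1 * 21 := by rw [h]; norm_num
  have hm : ¬ 283 ∣ 21 := by norm_num
  have hmem := card_sylow_mem_candidates hc hm
  have hcand : sylowCandidates 283 21 = [1] := by decide
  rw [hcand] at hmem
  simp only [List.mem_cons, List.not_mem_nil, or_false] at hmem
  have hlt := one_lt_card_sylow_of_card hc hm (by norm_num) (by norm_num)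
  have hd := hmem
  · omega

theorem no_5944 {G : Type*} [Group G] [Finite G] [IsSimpleGroup G]
    (hG : ¬ IsMulCommutative G) (h : Nat.card G = 5944) : False := by
  exact tp hG 2 743 3 1 (by norm_num) (by norm_num) (by rw [h]; norm_num)

theorem no_5945 {G : Type*} [Group G] [Finite G] [IsSimpleGroup G]
    (hG : ¬ IsMulCommutative G) (h : Nat.card G = 5945) : False := by
  have : Fact (Nat.Prime 41) := ⟨by norm_num⟩
  have hc : Nat.card G = 41 ^ 1 * 145 := by rw [h]; norm_num
  have hm : ¬ 41 ∣ 145 := by norm_num
  have hmem := card_sylow_mem_candidates hc hm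
  have hcand : sylowCandidates 41 145 = [1] := by decide
  rw [hcand] at hmem
  simp only [List.mem_cons, List.not_mem_nil, or_false] at hmem
  have hlt := one_lt_card_sylow_of_card hc hm (by norm_num) (by norm_num)
  have hd := hmem
  · omega

theorem no_5946 {G : Type*} [Group G] [Finite G] [IsSimpleGroup G]
    (hG : ¬ IsMulCommutative G) (h : Nat.card G = 5946) : False := by
  exact ev hG (by rw [h]; exact ⟨2973, by norm_num⟩) (by rw [h]; omega)

theorem no_5947 {G : Type*} [Group G] [Finite G] [IsSimpleGroup G]
    (hG : ¬ IsMulCommutative G) (h : Nat.card G = 5947) : False := by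
  exact tp hG 19 313 1 1 (by norm_num) (by norm_num) (by rw [h]; norm_num)

theorem no_5948 {G : Type*} [Group G] [Finite G] [IsSimpleGroup G]
    (hG : ¬ IsMulCommutative G) (h : Nat.card G = 5948) : False := by
  exact tp hG 2 1487 2 1 (by norm_num) (by norm_num) (by rw [h]; norm_num)

theorem no_5949 {G : Type*} [Group G] [Finite G] [IsSimpleGroup G]
    (hG : ¬ IsMulCommutative G) (h : Nat.card G = 5949) : False := by
  exact tp hG 3 661 2 1 (by norm_num) (by norm_num) (by rw [h]; norm_num)

theorem no_5950 {G : Type*} [Group G] [Finite G] [IsSimpleGroup G]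
    (hG : ¬ IsMulCommutative G) (h : Nat.card G = 5950) : False := by
  exact ev hG (by rw [h]; exact ⟨2975, by norm_num⟩) (by rw [h]; omega)

theorem no_5951 {G : Type*} [Group G] [Finite G] [IsSimpleGroup G]
    (hG : ¬ IsMulCommutative G) (h : Nat.card G = 5951) : False := by
  exact tp hG 11 541 1 1 (by norm_num) (by norm_num) (by rw [h]; norm_num)

theorem no_5952 {G : Type*} [Group G] [Finite G] [IsSimpleGroup G]
    (hG : ¬ IsMulCommutative G) (h : Nat.card G = 5952) : False := by
  have : Fact (Nat.Prime 31) := ⟨by norm_num⟩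
  have hc : Nat.card G = 31 ^ 1 * 192 := by rw [h]; norm_num
  have hm : ¬ 31 ∣ 192 := by norm_num
  have hmem := card_sylow_mem_candidates hc hm
  have hcand : sylowCandidates 31 192 = [1, 32] := by decide
  rw [hcand] at hmem
  simp only [List.mem_cons, List.not_mem_nil, or_false] at hmem
  have hlt := one_lt_card_sylow_of_card hc hm (by norm_num) (by norm_num)
  rcases hmem with hd | hd
  · omega
  · exact perm_kill hG (by norm_num) hc hm hd 186 (by omega) (by decide)

theorem no_5953 {G : Type*} [Group G] [Finite G] [IsSimpleGroup G]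
    (hG : ¬ IsMulCommutative G) (h : Nat.card G = 5953) : False := by
  exact tp hG 5953 2 1 0 (by norm_num) (by norm_num) (by rw [h]; norm_num)

theorem no_5954 {G : Type*} [Group G] [Finite G] [IsSimpleGroup G]
    (hG : ¬ IsMulCommutative G) (h : Nat.card G = 5954) : False := by
  exact ev hG (by rw [h]; exact ⟨2977, by norm_num⟩) (by rw [h]; omega)

theorem no_5955 {G : Type*} [Group G] [Finite G] [IsSimpleGroup G]
    (hG : ¬ IsMulCommutative G) (h : Nat.card G = 5955) : False := by
  have : Fact (Nat.Prime 397) := ⟨by norm_num⟩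
  have hc : Nat.card G = 397 ^ 1 * 15 := by rw [h]; norm_num
  have hm : ¬ 397 ∣ 15 := by norm_num
  have hmem := card_sylow_mem_candidates hc hm
  have hcand : sylowCandidates 397 15 = [1] := by decide
  rw [hcand] at hmem
  simp only [List.mem_cons, List.not_mem_nil, or_false] at hmem
  have hlt := one_lt_card_sylow_of_card hc hm (by norm_num) (by norm_num)
  have hd := hmem
  · omega

theorem no_5956 {G : Type*} [Group G] [Finite G] [IsSimpleGroup G]
    (hG : ¬ IsMulCommutative G) (h : Nat.card G = 5956) : False := by
  exact tp hG 2 1489 2 1 (by norm_num) (by norm_num) (by rw [h]; norm_num)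

theorem no_5957 {G : Type*} [Group G] [Finite G] [IsSimpleGroup G]
    (hG : ¬ IsMulCommutative G) (h : Nat.card G = 5957) : False := by
  have : Fact (Nat.Prime 37) := ⟨by norm_num⟩
  have hc : Nat.card G = 37 ^ 1 * 161 := by rw [h]; norm_num
  have hm : ¬ 37 ∣ 161 := by norm_num
  have hmem := card_sylow_mem_candidates hc hm
  have hcand : sylowCandidates 37 161 = [1] := by decide
  rw [hcand] at hmem
  simp only [List.mem_cons, List.not_mem_nil, or_false] at hmem
  have hlt := one_lt_card_sylow_of_card hc hm (by norm_num) (by norm_num)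
  have hd := hmem
  · omega

theorem no_5958 {G : Type*} [Group G] [Finite G] [IsSimpleGroup G]
    (hG : ¬ IsMulCommutative G) (h : Nat.card G = 5958) : False := by
  exact ev hG (by rw [h]; exact ⟨2979, by norm_num⟩) (by rw [h]; omega)

theorem no_5959 {G : Type*} [Group G] [Finite G] [IsSimpleGroup G]
    (hG : ¬ IsMulCommutative G) (h : Nat.card G = 5959) : False := by
  exact tp hG 59 101 1 1 (by norm_num) (by norm_num) (by rw [h]; norm_num)

theorem no_5960 {G : Type*} [Group G] [Finite G] [IsSimpleGroup G]
    (hG : ¬ IsMulCommutative G) (h : Nat.card G = 5960) : False := by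
  exact ev hG (by rw [h]; exact ⟨2980, by norm_num⟩) (by rw [h]; omega)

theorem no_5961 {G : Type*} [Group G] [Finite G] [IsSimpleGroup G]
    (hG : ¬ IsMulCommutative G) (h : Nat.card G = 5961) : False := by
  exact tp hG 3 1987 1 1 (by norm_num) (by norm_num) (by rw [h]; norm_num)

theorem no_5962 {G : Type*} [Group G] [Finite G] [IsSimpleGroup G]
    (hG : ¬ IsMulCommutative G) (h : Nat.card G = 5962) : False := by
  exact ev hG (by rw [h]; exact ⟨2981, by norm_num⟩) (by rw [h]; omega)

theorem no_5963 {G : Type*} [Group G] [Finite G] [IsSimpleGroup G]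
    (hG : ¬ IsMulCommutative G) (h : Nat.card G = 5963) : False := by
  exact tp hG 67 89 1 1 (by norm_num) (by norm_num) (by rw [h]; norm_num)

theorem no_5964 {G : Type*} [Group G] [Finite G] [IsSimpleGroup G]
    (hG : ¬ IsMulCommutative G) (h : Nat.card G = 5964) : False := by
  have : Fact (Nat.Prime 71) := ⟨by norm_num⟩
  have hc : Nat.card G = 71 ^ 1 * 84 := by rw [h]; norm_num
  have hm : ¬ 71 ∣ 84 := by norm_num
  have hmem := card_sylow_mem_candidates hc hm
  have hcand : sylowCandidates 71 84 = [1] := by decide
  rw [hcand] at hmem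
  simp only [List.mem_cons, List.not_mem_nil, or_false] at hmem
  have hlt := one_lt_card_sylow_of_card hc hm (by norm_num) (by norm_num)
  have hd := hmem
  · omega

theorem no_5965 {G : Type*} [Group G] [Finite G] [IsSimpleGroup G]
    (hG : ¬ IsMulCommutative G) (h : Nat.card G = 5965) : False := by
  exact tp hG 5 1193 1 1 (by norm_num) (by norm_num) (by rw [h]; norm_num)

theorem no_5966 {G : Type*} [Group G] [Finite G] [IsSimpleGroup G]
    (hG : ¬ IsMulCommutative G) (h : Nat.card G = 5966) : False := by
  exact ev hG (by rw [h]; exact ⟨2983, by norm_num⟩) (by rw [h]; omega)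

theorem no_5967 {G : Type*} [Group G] [Finite G] [IsSimpleGroup G]
    (hG : ¬ IsMulCommutative G) (h : Nat.card G = 5967) : False := by
  have : Fact (Nat.Prime 17) := ⟨by norm_num⟩
  have hc : Nat.card G = 17 ^ 1 * 351 := by rw [h]; norm_num
  have hm : ¬ 17 ∣ 351 := by norm_num
  have hmem := card_sylow_mem_candidates hc hm
  have hcand : sylowCandidates 17 351 = [1] := by decide
  rw [hcand] at hmem
  simp only [List.mem_cons, List.not_mem_nil, or_false] at hmem
  have hlt := one_lt_card_sylow_of_card hc hm (by norm_num) (by norm_num)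
  have hd := hmem
  · omega

theorem no_5968 {G : Type*} [Group G] [Finite G] [IsSimpleGroup G]
    (hG : ¬ IsMulCommutative G) (h : Nat.card G = 5968) : False := by
  exact tp hG 2 373 4 1 (by norm_num) (by norm_num) (by rw [h]; norm_num)

theorem no_5969 {G : Type*} [Group G] [Finite G] [IsSimpleGroup G]
    (hG : ¬ IsMulCommutative G) (h : Nat.card G = 5969) : False := by
  exact tp hG 47 127 1 1 (by norm_num) (by norm_num) (by rw [h]; norm_num)

theorem no_5970 {G : Type*} [Group G] [Finite G] [IsSimpleGroup G]
    (hG : ¬ IsMulCommutative G) (h : Nat.card G = 5970) : False := by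
  exact ev hG (by rw [h]; exact ⟨2985, by norm_num⟩) (by rw [h]; omega)

theorem no_5971 {G : Type*} [Group G] [Finite G] [IsSimpleGroup G]
    (hG : ¬ IsMulCommutative G) (h : Nat.card G = 5971) : False := by
  exact tp hG 7 853 1 1 (by norm_num) (by norm_num) (by rw [h]; norm_num)

theorem no_5972 {G : Type*} [Group G] [Finite G] [IsSimpleGroup G]
    (hG : ¬ IsMulCommutative G) (h : Nat.card G = 5972) : False := by
  exact tp hG 2 1493 2 1 (by norm_num) (by norm_num) (by rw [h]; norm_num)

theorem no_5973 {G : Type*} [Group G] [Finite G] [IsSimpleGroup G]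
    (hG : ¬ IsMulCommutative G) (h : Nat.card G = 5973) : False := by
  have : Fact (Nat.Prime 181) := ⟨by norm_num⟩
  have hc : Nat.card G = 181 ^ 1 * 33 := by rw [h]; norm_num
  have hm : ¬ 181 ∣ 33 := by norm_num
  have hmem := card_sylow_mem_candidates hc hm
  have hcand : sylowCandidates 181 33 = [1] := by decide
  rw [hcand] at hmem
  simp only [List.mem_cons, List.not_mem_nil, or_false] at hmem
  have hlt := one_lt_card_sylow_of_card hc hm (by norm_num) (by norm_num)
  have hd := hmem
  · omega

theorem no_5974 {G : Type*} [Group G] [Finite G] [IsSimpleGroup G]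
    (hG : ¬ IsMulCommutative G) (h : Nat.card G = 5974) : False := by
  exact ev hG (by rw [h]; exact ⟨2987, by norm_num⟩) (by rw [h]; omega)

theorem no_5975 {G : Type*} [Group G] [Finite G] [IsSimpleGroup G]
    (hG : ¬ IsMulCommutative G) (h : Nat.card G = 5975) : False := by
  exact tp hG 5 239 2 1 (by norm_num) (by norm_num) (by rw [h]; norm_num)

theorem no_5976 {G : Type*} [Group G] [Finite G] [IsSimpleGroup G]
    (hG : ¬ IsMulCommutative G) (h : Nat.card G = 5976) : False := by
  have : Fact (Nat.Prime 83) := ⟨by norm_num⟩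
  have hc : Nat.card G = 83 ^ 1 * 72 := by rw [h]; norm_num
  have hm : ¬ 83 ∣ 72 := by norm_num
  have hmem := card_sylow_mem_candidates hc hm
  have hcand : sylowCandidates 83 72 = [1] := by decide
  rw [hcand] at hmem
  simp only [List.mem_cons, List.not_mem_nil, or_false] at hmem
  have hlt := one_lt_card_sylow_of_card hc hm (by norm_num) (by norm_num)
  have hd := hmem
  · omega

theorem no_5977 {G : Type*} [Group G] [Finite G] [IsSimpleGroup G]
    (hG : ¬ IsMulCommutative G) (h : Nat.card G = 5977) : False := by
  exact tp hG 43 139 1 1 (by norm_num) (by norm_num) (by rw [h]; norm_num)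

theorem no_5978 {G : Type*} [Group G] [Finite G] [IsSimpleGroup G]
    (hG : ¬ IsMulCommutative G) (h : Nat.card G = 5978) : False := by
  exact ev hG (by rw [h]; exact ⟨2989, by norm_num⟩) (by rw [h]; omega)

theorem no_5979 {G : Type*} [Group G] [Finite G] [IsSimpleGroup G]
    (hG : ¬ IsMulCommutative G) (h : Nat.card G = 5979) : False := by
  exact tp hG 3 1993 1 1 (by norm_num) (by norm_num) (by rw [h]; norm_num)

theorem no_5980 {G : Type*} [Group G] [Finite G] [IsSimpleGroup G]
    (hG : ¬ IsMulCommutative G) (h : Nat.card G = 5980) : False := by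
  exact ev hG (by rw [h]; exact ⟨2990, by norm_num⟩) (by rw [h]; omega)

theorem no_5981 {G : Type*} [Group G] [Finite G] [IsSimpleGroup G]
    (hG : ¬ IsMulCommutative G) (h : Nat.card G = 5981) : False := by
  exact tp hG 5981 2 1 0 (by norm_num) (by norm_num) (by rw [h]; norm_num)

theorem no_5982 {G : Type*} [Group G] [Finite G] [IsSimpleGroup G]
    (hG : ¬ IsMulCommutative G) (h : Nat.card G = 5982) : False := by
  exact ev hG (by rw [h]; exact ⟨2991, by norm_num⟩) (by rw [h]; omega)

theorem no_5983 {G : Type*} [Group G] [Finite G] [IsSimpleGroup G]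
    (hG : ¬ IsMulCommutative G) (h : Nat.card G = 5983) : False := by
  exact tp hG 31 193 1 1 (by norm_num) (by norm_num) (by rw [h]; norm_num)

theorem no_5984 {G : Type*} [Group G] [Finite G] [IsSimpleGroup G]
    (hG : ¬ IsMulCommutative G) (h : Nat.card G = 5984) : False := by
  have : Fact (Nat.Prime 17) := ⟨by norm_num⟩
  have hc : Nat.card G = 17 ^ 1 * 352 := by rw [h]; norm_num
  have hm : ¬ 17 ∣ 352 := by norm_num
  have hmem := card_sylow_mem_candidates hc hm
  have hcand : sylowCandidates 17 352 = [1] := by decide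
  rw [hcand] at hmem
  simp only [List.mem_cons, List.not_mem_nil, or_false] at hmem
  have hlt := one_lt_card_sylow_of_card hc hm (by norm_num) (by norm_num)
  have hd := hmem
  · omega

theorem no_5985 {G : Type*} [Group G] [Finite G] [IsSimpleGroup G]
    (hG : ¬ IsMulCommutative G) (h : Nat.card G = 5985) : False := by
  have : Fact (Nat.Prime 19) := ⟨by norm_num⟩
  have hc : Nat.card G = 19 ^ 1 * 315 := by rw [h]; norm_num
  have hm : ¬ 19 ∣ 315 := by norm_num
  have hmem := card_sylow_mem_candidates hc hm
  have hcand : sylowCandidates 19 315 = [1] := by decide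
  rw [hcand] at hmem
  simp only [List.mem_cons, List.not_mem_nil, or_false] at hmem
  have hlt := one_lt_card_sylow_of_card hc hm (by norm_num) (by norm_num)
  have hd := hmem
  · omega

theorem no_5986 {G : Type*} [Group G] [Finite G] [IsSimpleGroup G]
    (hG : ¬ IsMulCommutative G) (h : Nat.card G = 5986) : False := by
  exact ev hG (by rw [h]; exact ⟨2993, by norm_num⟩) (by rw [h]; omega)

theorem no_5987 {G : Type*} [Group G] [Finite G] [IsSimpleGroup G]
    (hG : ¬ IsMulCommutative G) (h : Nat.card G = 5987) : False := by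
  exact tp hG 5987 2 1 0 (by norm_num) (by norm_num) (by rw [h]; norm_num)

theorem no_5988 {G : Type*} [Group G] [Finite G] [IsSimpleGroup G]
    (hG : ¬ IsMulCommutative G) (h : Nat.card G = 5988) : False := by
  have : Fact (Nat.Prime 499) := ⟨by norm_num⟩
  have hc : Nat.card G = 499 ^ 1 * 12 := by rw [h]; norm_num
  have hm : ¬ 499 ∣ 12 := by norm_num
  have hmem := card_sylow_mem_candidates hc hm
  have hcand : sylowCandidates 499 12 = [1] := by decide
  rw [hcand] at hmem
  simp only [List.mem_cons, List.not_mem_nil, or_false] at hmem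
  have hlt := one_lt_card_sylow_of_card hc hm (by norm_num) (by norm_num)
  have hd := hmem
  · omega

theorem no_5989 {G : Type*} [Group G] [Finite G] [IsSimpleGroup G]
    (hG : ¬ IsMulCommutative G) (h : Nat.card G = 5989) : False := by
  exact tp hG 53 113 1 1 (by norm_num) (by norm_num) (by rw [h]; norm_num)

theorem no_5990 {G : Type*} [Group G] [Finite G] [IsSimpleGroup G]
    (hG : ¬ IsMulCommutative G) (h : Nat.card G = 5990) : False := by
  exact ev hG (by rw [h]; exact ⟨2995, by norm_num⟩) (by rw [h]; omega)

theorem no_5991 {G : Type*} [Group G] [Finite G] [IsSimpleGroup G]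
    (hG : ¬ IsMulCommutative G) (h : Nat.card G = 5991) : False := by
  exact tp hG 3 1997 1 1 (by norm_num) (by norm_num) (by rw [h]; norm_num)

theorem no_5992 {G : Type*} [Group G] [Finite G] [IsSimpleGroup G]
    (hG : ¬ IsMulCommutative G) (h : Nat.card G = 5992) : False := by
  have : Fact (Nat.Prime 107) := ⟨by norm_num⟩
  have hc : Nat.card G = 107 ^ 1 * 56 := by rw [h]; norm_num
  have hm : ¬ 107 ∣ 56 := by norm_num
  have hmem := card_sylow_mem_candidates hc hm
  have hcand : sylowCandidates 107 56 = [1] := by decide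
  rw [hcand] at hmem
  simp only [List.mem_cons, List.not_mem_nil, or_false] at hmem
  have hlt := one_lt_card_sylow_of_card hc hm (by norm_num) (by norm_num)
  have hd := hmem
  · omega

theorem no_5993 {G : Type*} [Group G] [Finite G] [IsSimpleGroup G]
    (hG : ¬ IsMulCommutative G) (h : Nat.card G = 5993) : False := by
  exact tp hG 13 461 1 1 (by norm_num) (by norm_num) (by rw [h]; norm_num)

theorem no_5994 {G : Type*} [Group G] [Finite G] [IsSimpleGroup G]
    (hG : ¬ IsMulCommutative G) (h : Nat.card G = 5994) : False := by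
  exact ev hG (by rw [h]; exact ⟨2997, by norm_num⟩) (by rw [h]; omega)

theorem no_5995 {G : Type*} [Group G] [Finite G] [IsSimpleGroup G]
    (hG : ¬ IsMulCommutative G) (h : Nat.card G = 5995) : False := by
  have : Fact (Nat.Prime 109) := ⟨by norm_num⟩
  have hc : Nat.card G = 109 ^ 1 * 55 := by rw [h]; norm_num
  have hm : ¬ 109 ∣ 55 := by norm_num
  have hmem := card_sylow_mem_candidates hc hm
  have hcand : sylowCandidates 109 55 = [1] := by decide
  rw [hcand] at hmem
  simp only [List.mem_cons, List.not_mem_nil, or_false] at hmem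
  have hlt := one_lt_card_sylow_of_card hc hm (by norm_num) (by norm_num)
  have hd := hmem
  · omega

theorem no_5996 {G : Type*} [Group G] [Finite G] [IsSimpleGroup G]
    (hG : ¬ IsMulCommutative G) (h : Nat.card G = 5996) : False := by
  exact tp hG 2 1499 2 1 (by norm_num) (by norm_num) (by rw [h]; norm_num)

theorem no_5997 {G : Type*} [Group G] [Finite G] [IsSimpleGroup G]
    (hG : ¬ IsMulCommutative G) (h : Nat.card G = 5997) : False := by
  exact tp hG 3 1999 1 1 (by norm_num) (by norm_num) (by rw [h]; norm_num)

theorem no_5998 {G : Type*} [Group G] [Finite G] [IsSimpleGroup G]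
    (hG : ¬ IsMulCommutative G) (h : Nat.card G = 5998) : False := by
  exact tp hG 2 2999 1 1 (by norm_num) (by norm_num) (by rw [h]; norm_num)

theorem no_5999 {G : Type*} [Group G] [Finite G] [IsSimpleGroup G]
    (hG : ¬ IsMulCommutative G) (h : Nat.card G = 5999) : False := by
  exact tp hG 7 857 1 1 (by norm_num) (by norm_num) (by rw [h]; norm_num)

/-- the orders in [5901, 6000] not excluded by the engine -/
theorem chunk {G : Type*} [Group G] [Finite G] [IsSimpleGroup G]
    (hG : ¬ IsMulCommutative G) (n : ℕ) (hn : Nat.card G = n) (h1 : 5901 ≤ n) (h2 : n ≤ 6000) :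
    n = 5940 ∨ n = 6000 := by
  interval_cases n
  · exact (no_5901 hG hn).elim
  · exact (no_5902 hG hn).elim
  · exact (no_5903 hG hn).elim
  · exact (no_5904 hG hn).elim
  · exact (no_5905 hG hn).elim
  · exact (no_5906 hG hn).elim
  · exact (no_5907 hG hn).elim
  · exact (no_5908 hG hn).elim
  · exact (no_5909 hG hn).elim
  · exact (no_5910 hG hn).elim
  · exact (no_5911 hG hn).elim
  · exact (no_5912 hG hn).elim
  · exact (no_5913 hG hn).elim
  · exact (no_5914 hG hn).elim
  · exact (no_5915 hG hn).elim
  · exact (no_5916 hG hn).elim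
  · exact (no_5917 hG hn).elim
  · exact (no_5918 hG hn).elim
  · exact (no_5919 hG hn).elim
  · exact (no_5920 hG hn).elim
  · exact (no_5921 hG hn).elim
  · exact (no_5922 hG hn).elim
  · exact (no_5923 hG hn).elim
  · exact (no_5924 hG hn).elim
  · exact (no_5925 hG hn).elim
  · exact (no_5926 hG hn).elim
  · exact (no_5927 hG hn).elim
  · exact (no_5928 hG hn).elim
  · exact (no_5929 hG hn).elim
  · exact (no_5930 hG hn).elim
  · exact (no_5931 hG hn).elim
  · exact (no_5932 hG hn).elim
  · exact (no_5933 hG hn).elim
  · exact (no_5934 hG hn).elim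
  · exact (no_5935 hG hn).elim
  · exact (no_5936 hG hn).elim
  · exact (no_5937 hG hn).elim
  · exact (no_5938 hG hn).elim
  · exact (no_5939 hG hn).elim
  · simp
  · exact (no_5941 hG hn).elim
  · exact (no_5942 hG hn).elim
  · exact (no_5943 hG hn).elim
  · exact (no_5944 hG hn).elim
  · exact (no_5945 hG hn).elim
  · exact (no_5946 hG hn).elim
  · exact (no_5947 hG hn).elim
  · exact (no_5948 hG hn).elim
  · exact (no_5949 hG hn).elim
  · exact (no_5950 hG hn).elim
  · exact (no_5951 hG hn).elim
  · exact (no_5952 hG hn).elim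
  · exact (no_5953 hG hn).elim
  · exact (no_5954 hG hn).elim
  · exact (no_5955 hG hn).elim
  · exact (no_5956 hG hn).elim
  · exact (no_5957 hG hn).elim
  · exact (no_5958 hG hn).elim
  · exact (no_5959 hG hn).elim
  · exact (no_5960 hG hn).elim
  · exact (no_5961 hG hn).elim
  · exact (no_5962 hG hn).elim
  · exact (no_5963 hG hn).elim
  · exact (no_5964 hG hn).elim
  · exact (no_5965 hG hn).elim
  · exact (no_5966 hG hn).elim
  · exact (no_5967 hG hn).elim
  · exact (no_5968 hG hn).elim
  · exact (no_5969 hG hn).elim
  · exact (no_5970 hG hn).elim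
  · exact (no_5971 hG hn).elim
  · exact (no_5972 hG hn).elim
  · exact (no_5973 hG hn).elim
  · exact (no_5974 hG hn).elim
  · exact (no_5975 hG hn).elim
  · exact (no_5976 hG hn).elim
  · exact (no_5977 hG hn).elim
  · exact (no_5978 hG hn).elim
  · exact (no_5979 hG hn).elim
  · exact (no_5980 hG hn).elim
  · exact (no_5981 hG hn).elim
  · exact (no_5982 hG hn).elim
  · exact (no_5983 hG hn).elim
  · exact (no_5984 hG hn).elim
  · exact (no_5985 hG hn).elim
  · exact (no_5986 hG hn).elim
  · exact (no_5987 hG hn).elim
  · exact (no_5988 hG hn).elim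
  · exact (no_5989 hG hn).elim
  · exact (no_5990 hG hn).elim
  · exact (no_5991 hG hn).elim
  · exact (no_5992 hG hn).elim
  · exact (no_5993 hG hn).elim
  · exact (no_5994 hG hn).elim
  · exact (no_5995 hG hn).elim
  · exact (no_5996 hG hn).elim
  · exact (no_5997 hG hn).elim
  · exact (no_5998 hG hn).elim
  · exact (no_5999 hG hn).elim
  · simp

end Cfsg.Agent.Lib.Helper16_SO_E23
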