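import Mathlib
import Cfsg.Agent.Lib.Helper75_SM_Base

/-!
# S0983 engine, generated file: no simple group of order N for the easy N in [6001, 6100]
(helper16; same scheme as helper75's `Helper75_SM_E*`)
-/

set_option autoImplicit false
set_option linter.unusedVariables false

namespace Cfsg.Agent.Lib.Helper16_SO_E24

open Cfsg.Agent.Lib.Helper17_Sylow Cfsg.Agent.Lib.Helper75_SM_Base

theorem no_6001 {G : Type*} [Group G] [Finite G] [IsSimpleGroup G]
    (hG : ¬ IsMulCommutative G) (h : Nat.card G = 6001) : False := by
  exact tp hG 17 353 1 1 (by norm_num) (by norm_num) (by rw [h]; norm_num)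

theorem no_6002 {G : Type*} [Group G] [Finite G] [IsSimpleGroup G]
    (hG : ¬ IsMulCommutative G) (h : Nat.card G = 6002) : False := by
  exact tp hG 2 3001 1 1 (by norm_num) (by norm_num) (by rw [h]; norm_num)

theorem no_6003 {G : Type*} [Group G] [Finite G] [IsSimpleGroup G]
    (hG : ¬ IsMulCommutative G) (h : Nat.card G = 6003) : False := by
  have : Fact (Nat.Prime 29) := ⟨by norm_num⟩
  have hc : Nat.card G = 29 ^ 1 * 207 := by rw [h]; norm_num
  have hm : ¬ 29 ∣ 207 := by norm_num
  have hmem := card_sylow_mem_candidates hc hm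
  have hcand : sylowCandidates 29 207 = [1] := by decide
  rw [hcand] at hmem
  simp only [List.mem_cons, List.not_mem_nil, or_false] at hmem
  have hlt := one_lt_card_sylow_of_card hc hm (by norm_num) (by norm_num)
  have hd := hmem
  · omega

theorem no_6004 {G : Type*} [Group G] [Finite G] [IsSimpleGroup G]
    (hG : ¬ IsMulCommutative G) (h : Nat.card G = 6004) : False := by
  exact ev hG (by rw [h]; exact ⟨3002, by norm_num⟩) (by rw [h]; omega)

theorem no_6005 {G : Type*} [Group G] [Finite G] [IsSimpleGroup G]
    (hG : ¬ IsMulCommutative G) (h : Nat.card G = 6005) : False := by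
  exact tp hG 5 1201 1 1 (by norm_num) (by norm_num) (by rw [h]; norm_num)

theorem no_6006 {G : Type*} [Group G] [Finite G] [IsSimpleGroup G]
    (hG : ¬ IsMulCommutative G) (h : Nat.card G = 6006) : False := by
  exact ev hG (by rw [h]; exact ⟨3003, by norm_num⟩) (by rw [h]; omega)

theorem no_6007 {G : Type*} [Group G] [Finite G] [IsSimpleGroup G]
    (hG : ¬ IsMulCommutative G) (h : Nat.card G = 6007) : False := by
  exact tp hG 6007 2 1 0 (by norm_num) (by norm_num) (by rw [h]; norm_num)

theorem no_6008 {G : Type*} [Group G] [Finite G] [IsSimpleGroup G]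
    (hG : ¬ IsMulCommutative G) (h : Nat.card G = 6008) : False := by
  exact tp hG 2 751 3 1 (by norm_num) (by norm_num) (by rw [h]; norm_num)

theorem no_6009 {G : Type*} [Group G] [Finite G] [IsSimpleGroup G]
    (hG : ¬ IsMulCommutative G) (h : Nat.card G = 6009) : False := by
  exact tp hG 3 2003 1 1 (by norm_num) (by norm_num) (by rw [h]; norm_num)

theorem no_6010 {G : Type*} [Group G] [Finite G] [IsSimpleGroup G]
    (hG : ¬ IsMulCommutative G) (h : Nat.card G = 6010) : False := by
  exact ev hG (by rw [h]; exact ⟨3005, by norm_num⟩) (by rw [h]; omega)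

theorem no_6011 {G : Type*} [Group G] [Finite G] [IsSimpleGroup G]
    (hG : ¬ IsMulCommutative G) (h : Nat.card G = 6011) : False := by
  exact tp hG 6011 2 1 0 (by norm_num) (by norm_num) (by rw [h]; norm_num)

theorem no_6012 {G : Type*} [Group G] [Finite G] [IsSimpleGroup G]
    (hG : ¬ IsMulCommutative G) (h : Nat.card G = 6012) : False := by
  have : Fact (Nat.Prime 167) := ⟨by norm_num⟩
  have hc : Nat.card G = 167 ^ 1 * 36 := by rw [h]; norm_num
  have hm : ¬ 167 ∣ 36 := by norm_num
  have hmem := card_sylow_mem_candidates hc hm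
  have hcand : sylowCandidates 167 36 = [1] := by decide
  rw [hcand] at hmem
  simp only [List.mem_cons, List.not_mem_nil, or_false] at hmem
  have hlt := one_lt_card_sylow_of_card hc hm (by norm_num) (by norm_num)
  have hd := hmem
  · omega

theorem no_6013 {G : Type*} [Group G] [Finite G] [IsSimpleGroup G]
    (hG : ¬ IsMulCommutative G) (h : Nat.card G = 6013) : False := by
  exact tp hG 7 859 1 1 (by norm_num) (by norm_num) (by rw [h]; norm_num)

theorem no_6014 {G : Type*} [Group G] [Finite G] [IsSimpleGroup G]
    (hG : ¬ IsMulCommutative G) (h : Nat.card G = 6014) : False := by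
  exact ev hG (by rw [h]; exact ⟨3007, by norm_num⟩) (by rw [h]; omega)

theorem no_6015 {G : Type*} [Group G] [Finite G] [IsSimpleGroup G]
    (hG : ¬ IsMulCommutative G) (h : Nat.card G = 6015) : False := by
  have : Fact (Nat.Prime 401) := ⟨by norm_num⟩
  have hc : Nat.card G = 401 ^ 1 * 15 := by rw [h]; norm_num
  have hm : ¬ 401 ∣ 15 := by norm_num
  have hmem := card_sylow_mem_candidates hc hm
  have hcand : sylowCandidates 401 15 = [1] := by decide
  rw [hcand] at hmem
  simp only [List.mem_cons, List.not_mem_nil, or_false] at hmem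
  have hlt := one_lt_card_sylow_of_card hc hm (by norm_num) (by norm_num)
  have hd := hmem
  · omega

theorem no_6016 {G : Type*} [Group G] [Finite G] [IsSimpleGroup G]
    (hG : ¬ IsMulCommutative G) (h : Nat.card G = 6016) : False := by
  exact tp hG 2 47 7 1 (by norm_num) (by norm_num) (by rw [h]; norm_num)

theorem no_6017 {G : Type*} [Group G] [Finite G] [IsSimpleGroup G]
    (hG : ¬ IsMulCommutative G) (h : Nat.card G = 6017) : False := by
  exact tp hG 11 547 1 1 (by norm_num) (by norm_num) (by rw [h]; norm_num)

theorem no_6018 {G : Type*} [Group G] [Finite G] [IsSimpleGroup G]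
    (hG : ¬ IsMulCommutative G) (h : Nat.card G = 6018) : False := by
  exact ev hG (by rw [h]; exact ⟨3009, by norm_num⟩) (by rw [h]; omega)

theorem no_6019 {G : Type*} [Group G] [Finite G] [IsSimpleGroup G]
    (hG : ¬ IsMulCommutative G) (h : Nat.card G = 6019) : False := by
  exact tp hG 13 463 1 1 (by norm_num) (by norm_num) (by rw [h]; norm_num)

theorem no_6020 {G : Type*} [Group G] [Finite G] [IsSimpleGroup G]
    (hG : ¬ IsMulCommutative G) (h : Nat.card G = 6020) : False := by
  exact ev hG (by rw [h]; exact ⟨3010, by norm_num⟩) (by rw [h]; omega)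

theorem no_6021 {G : Type*} [Group G] [Finite G] [IsSimpleGroup G]
    (hG : ¬ IsMulCommutative G) (h : Nat.card G = 6021) : False := by
  exact tp hG 3 223 3 1 (by norm_num) (by norm_num) (by rw [h]; norm_num)

theorem no_6022 {G : Type*} [Group G] [Finite G] [IsSimpleGroup G]
    (hG : ¬ IsMulCommutative G) (h : Nat.card G = 6022) : False := by
  exact tp hG 2 3011 1 1 (by norm_num) (by norm_num) (by rw [h]; norm_num)

theorem no_6023 {G : Type*} [Group G] [Finite G] [IsSimpleGroup G]
    (hG : ¬ IsMulCommutative G) (h : Nat.card G = 6023) : False := by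
  exact tp hG 19 317 1 1 (by norm_num) (by norm_num) (by rw [h]; norm_num)

theorem no_6024 {G : Type*} [Group G] [Finite G] [IsSimpleGroup G]
    (hG : ¬ IsMulCommutative G) (h : Nat.card G = 6024) : False := by
  have : Fact (Nat.Prime 251) := ⟨by norm_num⟩
  have hc : Nat.card G = 251 ^ 1 * 24 := by rw [h]; norm_num
  have hm : ¬ 251 ∣ 24 := by norm_num
  have hmem := card_sylow_mem_candidates hc hm
  have hcand : sylowCandidates 251 24 = [1] := by decide
  rw [hcand] at hmem
  simp only [List.mem_cons, List.not_mem_nil, or_false] at hmem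
  have hlt := one_lt_card_sylow_of_card hc hm (by norm_num) (by norm_num)
  have hd := hmem
  · omega

theorem no_6025 {G : Type*} [Group G] [Finite G] [IsSimpleGroup G]
    (hG : ¬ IsMulCommutative G) (h : Nat.card G = 6025) : False := by
  exact tp hG 5 241 2 1 (by norm_num) (by norm_num) (by rw [h]; norm_num)

theorem no_6026 {G : Type*} [Group G] [Finite G] [IsSimpleGroup G]
    (hG : ¬ IsMulCommutative G) (h : Nat.card G = 6026) : False := by
  exact ev hG (by rw [h]; exact ⟨3013, by norm_num⟩) (by rw [h]; omega)

theorem no_6027 {G : Type*} [Group G] [Finite G] [IsSimpleGroup G]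
    (hG : ¬ IsMulCommutative G) (h : Nat.card G = 6027) : False := by
  have : Fact (Nat.Prime 41) := ⟨by norm_num⟩
  have hc : Nat.card G = 41 ^ 1 * 147 := by rw [h]; norm_num
  have hm : ¬ 41 ∣ 147 := by norm_num
  have hmem := card_sylow_mem_candidates hc hm
  have hcand : sylowCandidates 41 147 = [1] := by decide
  rw [hcand] at hmem
  simp only [List.mem_cons, List.not_mem_nil, or_false] at hmem
  have hlt := one_lt_card_sylow_of_card hc hm (by norm_num) (by norm_num)
  have hd := hmem
  · omega

theorem no_6028 {G : Type*} [Group G] [Finite G] [IsSimpleGroup G]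
    (hG : ¬ IsMulCommutative G) (h : Nat.card G = 6028) : False := by
  exact ev hG (by rw [h]; exact ⟨3014, by norm_num⟩) (by rw [h]; omega)

theorem no_6029 {G : Type*} [Group G] [Finite G] [IsSimpleGroup G]
    (hG : ¬ IsMulCommutative G) (h : Nat.card G = 6029) : False := by
  exact tp hG 6029 2 1 0 (by norm_num) (by norm_num) (by rw [h]; norm_num)

theorem no_6030 {G : Type*} [Group G] [Finite G] [IsSimpleGroup G]
    (hG : ¬ IsMulCommutative G) (h : Nat.card G = 6030) : False := by
  exact ev hG (by rw [h]; exact ⟨3015, by norm_num⟩) (by rw [h]; omega)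

theorem no_6031 {G : Type*} [Group G] [Finite G] [IsSimpleGroup G]
    (hG : ¬ IsMulCommutative G) (h : Nat.card G = 6031) : False := by
  exact tp hG 37 163 1 1 (by norm_num) (by norm_num) (by rw [h]; norm_num)

theorem no_6032 {G : Type*} [Group G] [Finite G] [IsSimpleGroup G]
    (hG : ¬ IsMulCommutative G) (h : Nat.card G = 6032) : False := by
  have : Fact (Nat.Prime 29) := ⟨by norm_num⟩
  have hc : Nat.card G = 29 ^ 1 * 208 := by rw [h]; norm_num
  have hm : ¬ 29 ∣ 208 := by norm_num
  have hmem := card_sylow_mem_candidates hc hm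
  have hcand : sylowCandidates 29 208 = [1] := by decide
  rw [hcand] at hmem
  simp only [List.mem_cons, List.not_mem_nil, or_false] at hmem
  have hlt := one_lt_card_sylow_of_card hc hm (by norm_num) (by norm_num)
  have hd := hmem
  · omega

theorem no_6033 {G : Type*} [Group G] [Finite G] [IsSimpleGroup G]
    (hG : ¬ IsMulCommutative G) (h : Nat.card G = 6033) : False := by
  exact tp hG 3 2011 1 1 (by norm_num) (by norm_num) (by rw [h]; norm_num)

theorem no_6034 {G : Type*} [Group G] [Finite G] [IsSimpleGroup G]
    (hG : ¬ IsMulCommutative G) (h : Nat.card G = 6034) : False := by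
  exact ev hG (by rw [h]; exact ⟨3017, by norm_num⟩) (by rw [h]; omega)

theorem no_6035 {G : Type*} [Group G] [Finite G] [IsSimpleGroup G]
    (hG : ¬ IsMulCommutative G) (h : Nat.card G = 6035) : False := by
  have : Fact (Nat.Prime 71) := ⟨by norm_num⟩
  have hc : Nat.card G = 71 ^ 1 * 85 := by rw [h]; norm_num
  have hm : ¬ 71 ∣ 85 := by norm_num
  have hmem := card_sylow_mem_candidates hc hm
  have hcand : sylowCandidates 71 85 = [1] := by decide
  rw [hcand] at hmem
  simp only [List.mem_cons, List.not_mem_nil, or_false] at hmem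
  have hlt := one_lt_card_sylow_of_card hc hm (by norm_num) (by norm_num)
  have hd := hmem
  · omega

theorem no_6036 {G : Type*} [Group G] [Finite G] [IsSimpleGroup G]
    (hG : ¬ IsMulCommutative G) (h : Nat.card G = 6036) : False := by
  have : Fact (Nat.Prime 503) := ⟨by norm_num⟩
  have hc : Nat.card G = 503 ^ 1 * 12 := by rw [h]; norm_num
  have hm : ¬ 503 ∣ 12 := by norm_num
  have hmem := card_sylow_mem_candidates hc hm
  have hcand : sylowCandidates 503 12 = [1] := by decide
  rw [hcand] at hmem
  simp only [List.mem_cons, List.not_mem_nil, or_false] at hmem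
  have hlt := one_lt_card_sylow_of_card hc hm (by norm_num) (by norm_num)
  have hd := hmem
  · omega

theorem no_6037 {G : Type*} [Group G] [Finite G] [IsSimpleGroup G]
    (hG : ¬ IsMulCommutative G) (h : Nat.card G = 6037) : False := by
  exact tp hG 6037 2 1 0 (by norm_num) (by norm_num) (by rw [h]; norm_num)

theorem no_6038 {G : Type*} [Group G] [Finite G] [IsSimpleGroup G]
    (hG : ¬ IsMulCommutative G) (h : Nat.card G = 6038) : False := by
  exact tp hG 2 3019 1 1 (by norm_num) (by norm_num) (by rw [h]; norm_num)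

theorem no_6039 {G : Type*} [Group G] [Finite G] [IsSimpleGroup G]
    (hG : ¬ IsMulCommutative G) (h : Nat.card G = 6039) : False := by
  have : Fact (Nat.Prime 61) := ⟨by norm_num⟩
  have hc : Nat.card G = 61 ^ 1 * 99 := by rw [h]; norm_num
  have hm : ¬ 61 ∣ 99 := by norm_num
  have hmem := card_sylow_mem_candidates hc hm
  have hcand : sylowCandidates 61 99 = [1] := by decide
  rw [hcand] at hmem
  simp only [List.mem_cons, List.not_mem_nil, or_false] at hmem
  have hlt := one_lt_card_sylow_of_card hc hm (by norm_num) (by norm_num)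
  have hd := hmem
  · omega

theorem no_6040 {G : Type*} [Group G] [Finite G] [IsSimpleGroup G]
    (hG : ¬ IsMulCommutative G) (h : Nat.card G = 6040) : False := by
  exact ev hG (by rw [h]; exact ⟨3020, by norm_num⟩) (by rw [h]; omega)

theorem no_6041 {G : Type*} [Group G] [Finite G] [IsSimpleGroup G]
    (hG : ¬ IsMulCommutative G) (h : Nat.card G = 6041) : False := by
  exact tp hG 7 863 1 1 (by norm_num) (by norm_num) (by rw [h]; norm_num)

theorem no_6042 {G : Type*} [Group G] [Finite G] [IsSimpleGroup G]
    (hG : ¬ IsMulCommutative G) (h : Nat.card G = 6042) : False := by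
  exact ev hG (by rw [h]; exact ⟨3021, by norm_num⟩) (by rw [h]; omega)

theorem no_6043 {G : Type*} [Group G] [Finite G] [IsSimpleGroup G]
    (hG : ¬ IsMulCommutative G) (h : Nat.card G = 6043) : False := by
  exact tp hG 6043 2 1 0 (by norm_num) (by norm_num) (by rw [h]; norm_num)

theorem no_6044 {G : Type*} [Group G] [Finite G] [IsSimpleGroup G]
    (hG : ¬ IsMulCommutative G) (h : Nat.card G = 6044) : False := by
  exact tp hG 2 1511 2 1 (by norm_num) (by norm_num) (by rw [h]; norm_num)

theorem no_6045 {G : Type*} [Group G] [Finite G] [IsSimpleGroup G]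
    (hG : ¬ IsMulCommutative G) (h : Nat.card G = 6045) : False := by
  have : Fact (Nat.Prime 31) := ⟨by norm_num⟩
  have hc : Nat.card G = 31 ^ 1 * 195 := by rw [h]; norm_num
  have hm : ¬ 31 ∣ 195 := by norm_num
  have hmem := card_sylow_mem_candidates hc hm
  have hcand : sylowCandidates 31 195 = [1] := by decide
  rw [hcand] at hmem
  simp only [List.mem_cons, List.not_mem_nil, or_false] at hmem
  have hlt := one_lt_card_sylow_of_card hc hm (by norm_num) (by norm_num)
  have hd := hmem
  · omega

theorem no_6046 {G : Type*} [Group G] [Finite G] [IsSimpleGroup G]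
    (hG : ¬ IsMulCommutative G) (h : Nat.card G = 6046) : False := by
  exact tp hG 2 3023 1 1 (by norm_num) (by norm_num) (by rw [h]; norm_num)

theorem no_6047 {G : Type*} [Group G] [Finite G] [IsSimpleGroup G]
    (hG : ¬ IsMulCommutative G) (h : Nat.card G = 6047) : False := by
  exact tp hG 6047 2 1 0 (by norm_num) (by norm_num) (by rw [h]; norm_num)

theorem no_6049 {G : Type*} [Group G] [Finite G] [IsSimpleGroup G]
    (hG : ¬ IsMulCommutative G) (h : Nat.card G = 6049) : False := by
  exact tp hG 23 263 1 1 (by norm_num) (by norm_num) (by rw [h]; norm_num)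

theorem no_6050 {G : Type*} [Group G] [Finite G] [IsSimpleGroup G]
    (hG : ¬ IsMulCommutative G) (h : Nat.card G = 6050) : False := by
  exact ev hG (by rw [h]; exact ⟨3025, by norm_num⟩) (by rw [h]; omega)

theorem no_6051 {G : Type*} [Group G] [Finite G] [IsSimpleGroup G]
    (hG : ¬ IsMulCommutative G) (h : Nat.card G = 6051) : False := by
  exact tp hG 3 2017 1 1 (by norm_num) (by norm_num) (by rw [h]; norm_num)

theorem no_6052 {G : Type*} [Group G] [Finite G] [IsSimpleGroup G]
    (hG : ¬ IsMulCommutative G) (h : Nat.card G = 6052) : False := by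
  exact ev hG (by rw [h]; exact ⟨3026, by norm_num⟩) (by rw [h]; omega)

theorem no_6053 {G : Type*} [Group G] [Finite G] [IsSimpleGroup G]
    (hG : ¬ IsMulCommutative G) (h : Nat.card G = 6053) : False := by
  exact tp hG 6053 2 1 0 (by norm_num) (by norm_num) (by rw [h]; norm_num)

theorem no_6054 {G : Type*} [Group G] [Finite G] [IsSimpleGroup G]
    (hG : ¬ IsMulCommutative G) (h : Nat.card G = 6054) : False := by
  exact ev hG (by rw [h]; exact ⟨3027, by norm_num⟩) (by rw [h]; omega)

theorem no_6055 {G : Type*} [Group G] [Finite G] [IsSimpleGroup G]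
    (hG : ¬ IsMulCommutative G) (h : Nat.card G = 6055) : False := by
  have : Fact (Nat.Prime 173) := ⟨by norm_num⟩
  have hc : Nat.card G = 173 ^ 1 * 35 := by rw [h]; norm_num
  have hm : ¬ 173 ∣ 35 := by norm_num
  have hmem := card_sylow_mem_candidates hc hm
  have hcand : sylowCandidates 173 35 = [1] := by decide
  rw [hcand] at hmem
  simp only [List.mem_cons, List.not_mem_nil, or_false] at hmem
  have hlt := one_lt_card_sylow_of_card hc hm (by norm_num) (by norm_num)
  have hd := hmem
  · omega

theorem no_6056 {G : Type*} [Group G] [Finite G] [IsSimpleGroup G]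
    (hG : ¬ IsMulCommutative G) (h : Nat.card G = 6056) : False := by
  exact tp hG 2 757 3 1 (by norm_num) (by norm_num) (by rw [h]; norm_num)

theorem no_6057 {G : Type*} [Group G] [Finite G] [IsSimpleGroup G]
    (hG : ¬ IsMulCommutative G) (h : Nat.card G = 6057) : False := by
  exact tp hG 3 673 2 1 (by norm_num) (by norm_num) (by rw [h]; norm_num)

theorem no_6058 {G : Type*} [Group G] [Finite G] [IsSimpleGroup G]
    (hG : ¬ IsMulCommutative G) (h : Nat.card G = 6058) : False := by
  exact ev hG (by rw [h]; exact ⟨3029, by norm_num⟩) (by rw [h]; omega)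

theorem no_6059 {G : Type*} [Group G] [Finite G] [IsSimpleGroup G]
    (hG : ¬ IsMulCommutative G) (h : Nat.card G = 6059) : False := by
  exact tp hG 73 83 1 1 (by norm_num) (by norm_num) (by rw [h]; norm_num)

theorem no_6060 {G : Type*} [Group G] [Finite G] [IsSimpleGroup G]
    (hG : ¬ IsMulCommutative G) (h : Nat.card G = 6060) : False := by
  have : Fact (Nat.Prime 101) := ⟨by norm_num⟩
  have hc : Nat.card G = 101 ^ 1 * 60 := by rw [h]; norm_num
  have hm : ¬ 101 ∣ 60 := by norm_num
  have hmem := card_sylow_mem_candidates hc hm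
  have hcand : sylowCandidates 101 60 = [1] := by decide
  rw [hcand] at hmem
  simp only [List.mem_cons, List.not_mem_nil, or_false] at hmem
  have hlt := one_lt_card_sylow_of_card hc hm (by norm_num) (by norm_num)
  have hd := hmem
  · omega

theorem no_6061 {G : Type*} [Group G] [Finite G] [IsSimpleGroup G]
    (hG : ¬ IsMulCommutative G) (h : Nat.card G = 6061) : False := by
  have : Fact (Nat.Prime 29) := ⟨by norm_num⟩
  have hc : Nat.card G = 29 ^ 1 * 209 := by rw [h]; norm_num
  have hm : ¬ 29 ∣ 209 := by norm_num
  have hmem := card_sylow_mem_candidates hc hm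
  have hcand : sylowCandidates 29 209 = [1] := by decide
  rw [hcand] at hmem
  simp only [List.mem_cons, List.not_mem_nil, or_false] at hmem
  have hlt := one_lt_card_sylow_of_card hc hm (by norm_num) (by norm_num)
  have hd := hmem
  · omega

theorem no_6062 {G : Type*} [Group G] [Finite G] [IsSimpleGroup G]
    (hG : ¬ IsMulCommutative G) (h : Nat.card G = 6062) : False := by
  exact ev hG (by rw [h]; exact ⟨3031, by norm_num⟩) (by rw [h]; omega)

theorem no_6063 {G : Type*} [Group G] [Finite G] [IsSimpleGroup G]
    (hG : ¬ IsMulCommutative G) (h : Nat.card G = 6063) : False := by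
  have : Fact (Nat.Prime 47) := ⟨by norm_num⟩
  have hc : Nat.card G = 47 ^ 1 * 129 := by rw [h]; norm_num
  have hm : ¬ 47 ∣ 129 := by norm_num
  have hmem := card_sylow_mem_candidates hc hm
  have hcand : sylowCandidates 47 129 = [1] := by decide
  rw [hcand] at hmem
  simp only [List.mem_cons, List.not_mem_nil, or_false] at hmem
  have hlt := one_lt_card_sylow_of_card hc hm (by norm_num) (by norm_num)
  have hd := hmem
  · omega

theorem no_6064 {G : Type*} [Group G] [Finite G] [IsSimpleGroup G]
    (hG : ¬ IsMulCommutative G) (h : Nat.card G = 6064) : False := by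
  exact tp hG 2 379 4 1 (by norm_num) (by norm_num) (by rw [h]; norm_num)

theorem no_6065 {G : Type*} [Group G] [Finite G] [IsSimpleGroup G]
    (hG : ¬ IsMulCommutative G) (h : Nat.card G = 6065) : False := by
  exact tp hG 5 1213 1 1 (by norm_num) (by norm_num) (by rw [h]; norm_num)

theorem no_6066 {G : Type*} [Group G] [Finite G] [IsSimpleGroup G]
    (hG : ¬ IsMulCommutative G) (h : Nat.card G = 6066) : False := by
  exact ev hG (by rw [h]; exact ⟨3033, by norm_num⟩) (by rw [h]; omega)

theorem no_6067 {G : Type*} [Group G] [Finite G] [IsSimpleGroup G]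
    (hG : ¬ IsMulCommutative G) (h : Nat.card G = 6067) : False := by
  exact tp hG 6067 2 1 0 (by norm_num) (by norm_num) (by rw [h]; norm_num)

theorem no_6068 {G : Type*} [Group G] [Finite G] [IsSimpleGroup G]
    (hG : ¬ IsMulCommutative G) (h : Nat.card G = 6068) : False := by
  exact ev hG (by rw [h]; exact ⟨3034, by norm_num⟩) (by rw [h]; omega)

theorem no_6069 {G : Type*} [Group G] [Finite G] [IsSimpleGroup G]
    (hG : ¬ IsMulCommutative G) (h : Nat.card G = 6069) : False := by
  have : Fact (Nat.Prime 17) := ⟨by norm_num⟩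
  have hc : Nat.card G = 17 ^ 2 * 21 := by rw [h]; norm_num
  have hm : ¬ 17 ∣ 21 := by norm_num
  have hmem := card_sylow_mem_candidates hc hm
  have hcand : sylowCandidates 17 21 = [1] := by decide
  rw [hcand] at hmem
  simp only [List.mem_cons, List.not_mem_nil, or_false] at hmem
  have hlt := one_lt_card_sylow_of_card hc hm (by norm_num) (by norm_num)
  have hd := hmem
  · omega

theorem no_6070 {G : Type*} [Group G] [Finite G] [IsSimpleGroup G]
    (hG : ¬ IsMulCommutative G) (h : Nat.card G = 6070) : False := by
  exact ev hG (by rw [h]; exact ⟨3035, by norm_num⟩) (by rw [h]; omega)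

theorem no_6071 {G : Type*} [Group G] [Finite G] [IsSimpleGroup G]
    (hG : ¬ IsMulCommutative G) (h : Nat.card G = 6071) : False := by
  exact tp hG 13 467 1 1 (by norm_num) (by norm_num) (by rw [h]; norm_num)

theorem no_6073 {G : Type*} [Group G] [Finite G] [IsSimpleGroup G]
    (hG : ¬ IsMulCommutative G) (h : Nat.card G = 6073) : False := by
  exact tp hG 6073 2 1 0 (by norm_num) (by norm_num) (by rw [h]; norm_num)

theorem no_6074 {G : Type*} [Group G] [Finite G] [IsSimpleGroup G]
    (hG : ¬ IsMulCommutative G) (h : Nat.card G = 6074) : False := by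
  exact tp hG 2 3037 1 1 (by norm_num) (by norm_num) (by rw [h]; norm_num)

theorem no_6075 {G : Type*} [Group G] [Finite G] [IsSimpleGroup G]
    (hG : ¬ IsMulCommutative G) (h : Nat.card G = 6075) : False := by
  exact tp hG 3 5 5 2 (by norm_num) (by norm_num) (by rw [h]; norm_num)

theorem no_6076 {G : Type*} [Group G] [Finite G] [IsSimpleGroup G]
    (hG : ¬ IsMulCommutative G) (h : Nat.card G = 6076) : False := by
  exact ev hG (by rw [h]; exact ⟨3038, by norm_num⟩) (by rw [h]; omega)

theorem no_6077 {G : Type*} [Group G] [Finite G] [IsSimpleGroup G]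
    (hG : ¬ IsMulCommutative G) (h : Nat.card G = 6077) : False := by
  exact tp hG 59 103 1 1 (by norm_num) (by norm_num) (by rw [h]; norm_num)

theorem no_6078 {G : Type*} [Group G] [Finite G] [IsSimpleGroup G]
    (hG : ¬ IsMulCommutative G) (h : Nat.card G = 6078) : False := by
  exact ev hG (by rw [h]; exact ⟨3039, by norm_num⟩) (by rw [h]; omega)

theorem no_6079 {G : Type*} [Group G] [Finite G] [IsSimpleGroup G]
    (hG : ¬ IsMulCommutative G) (h : Nat.card G = 6079) : False := by
  exact tp hG 6079 2 1 0 (by norm_num) (by norm_num) (by rw [h]; norm_num)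

theorem no_6080 {G : Type*} [Group G] [Finite G] [IsSimpleGroup G]
    (hG : ¬ IsMulCommutative G) (h : Nat.card G = 6080) : False := by
  have : Fact (Nat.Prime 19) := ⟨by norm_num⟩
  have hc : Nat.card G = 19 ^ 1 * 320 := by rw [h]; norm_num
  have hm : ¬ 19 ∣ 320 := by norm_num
  have hmem := card_sylow_mem_candidates hc hm
  have hcand : sylowCandidates 19 320 = [1, 20] := by decide
  rw [hcand] at hmem
  simp only [List.mem_cons, List.not_mem_nil, or_false] at hmem
  have hlt := one_lt_card_sylow_of_card hc hm (by norm_num) (by norm_num)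
  rcases hmem with hd | hd
  · omega
  · exact perm_kill hG (by norm_num) hc hm hd 304 (by omega) (by decide)

theorem no_6081 {G : Type*} [Group G] [Finite G] [IsSimpleGroup G]
    (hG : ¬ IsMulCommutative G) (h : Nat.card G = 6081) : False := by
  exact tp hG 3 2027 1 1 (by norm_num) (by norm_num) (by rw [h]; norm_num)

theorem no_6082 {G : Type*} [Group G] [Finite G] [IsSimpleGroup G]
    (hG : ¬ IsMulCommutative G) (h : Nat.card G = 6082) : False := by
  exact tp hG 2 3041 1 1 (by norm_num) (by norm_num) (by rw [h]; norm_num)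

theorem no_6083 {G : Type*} [Group G] [Finite G] [IsSimpleGroup G]
    (hG : ¬ IsMulCommutative G) (h : Nat.card G = 6083) : False := by
  have : Fact (Nat.Prime 79) := ⟨by norm_num⟩
  have hc : Nat.card G = 79 ^ 1 * 77 := by rw [h]; norm_num
  have hm : ¬ 79 ∣ 77 := by norm_num
  have hmem := card_sylow_mem_candidates hc hm
  have hcand : sylowCandidates 79 77 = [1] := by decide
  rw [hcand] at hmem
  simp only [List.mem_cons, List.not_mem_nil, or_false] at hmem
  have hlt := one_lt_card_sylow_of_card hc hm (by norm_num) (by norm_num)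
  have hd := hmem
  · omega

theorem no_6084 {G : Type*} [Group G] [Finite G] [IsSimpleGroup G]
    (hG : ¬ IsMulCommutative G) (h : Nat.card G = 6084) : False := by
  have : Fact (Nat.Prime 13) := ⟨by norm_num⟩
  have hc : Nat.card G = 13 ^ 2 * 36 := by rw [h]; norm_num
  have hm : ¬ 13 ∣ 36 := by norm_num
  have hmem := card_sylow_mem_candidates hc hm
  have hcand : sylowCandidates 13 36 = [1] := by decide
  rw [hcand] at hmem
  simp only [List.mem_cons, List.not_mem_nil, or_false] at hmem
  have hlt := one_lt_card_sylow_of_card hc hm (by norm_num) (by norm_num)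
  have hd := hmem
  · omega

theorem no_6085 {G : Type*} [Group G] [Finite G] [IsSimpleGroup G]
    (hG : ¬ IsMulCommutative G) (h : Nat.card G = 6085) : False := by
  exact tp hG 5 1217 1 1 (by norm_num) (by norm_num) (by rw [h]; norm_num)

theorem no_6086 {G : Type*} [Group G] [Finite G] [IsSimpleGroup G]
    (hG : ¬ IsMulCommutative G) (h : Nat.card G = 6086) : False := by
  exact ev hG (by rw [h]; exact ⟨3043, by norm_num⟩) (by rw [h]; omega)

theorem no_6087 {G : Type*} [Group G] [Finite G] [IsSimpleGroup G]
    (hG : ¬ IsMulCommutative G) (h : Nat.card G = 6087) : False := by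
  exact tp hG 3 2029 1 1 (by norm_num) (by norm_num) (by rw [h]; norm_num)

theorem no_6088 {G : Type*} [Group G] [Finite G] [IsSimpleGroup G]
    (hG : ¬ IsMulCommutative G) (h : Nat.card G = 6088) : False := by
  exact tp hG 2 761 3 1 (by norm_num) (by norm_num) (by rw [h]; norm_num)

theorem no_6089 {G : Type*} [Group G] [Finite G] [IsSimpleGroup G]
    (hG : ¬ IsMulCommutative G) (h : Nat.card G = 6089) : False := by
  exact tp hG 6089 2 1 0 (by norm_num) (by norm_num) (by rw [h]; norm_num)

theorem no_6090 {G : Type*} [Group G] [Finite G] [IsSimpleGroup G]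
    (hG : ¬ IsMulCommutative G) (h : Nat.card G = 6090) : False := by
  exact ev hG (by rw [h]; exact ⟨3045, by norm_num⟩) (by rw [h]; omega)

theorem no_6091 {G : Type*} [Group G] [Finite G] [IsSimpleGroup G]
    (hG : ¬ IsMulCommutative G) (h : Nat.card G = 6091) : False := by
  exact tp hG 6091 2 1 0 (by norm_num) (by norm_num) (by rw [h]; norm_num)

theorem no_6092 {G : Type*} [Group G] [Finite G] [IsSimpleGroup G]
    (hG : ¬ IsMulCommutative G) (h : Nat.card G = 6092) : False := by
  exact tp hG 2 1523 2 1 (by norm_num) (by norm_num) (by rw [h]; norm_num)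

theorem no_6093 {G : Type*} [Group G] [Finite G] [IsSimpleGroup G]
    (hG : ¬ IsMulCommutative G) (h : Nat.card G = 6093) : False := by
  exact tp hG 3 677 2 1 (by norm_num) (by norm_num) (by rw [h]; norm_num)

theorem no_6094 {G : Type*} [Group G] [Finite G] [IsSimpleGroup G]
    (hG : ¬ IsMulCommutative G) (h : Nat.card G = 6094) : False := by
  exact ev hG (by rw [h]; exact ⟨3047, by norm_num⟩) (by rw [h]; omega)

theorem no_6095 {G : Type*} [Group G] [Finite G] [IsSimpleGroup G]
    (hG : ¬ IsMulCommutative G) (h : Nat.card G = 6095) : False := by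
  have : Fact (Nat.Prime 53) := ⟨by norm_num⟩
  have hc : Nat.card G = 53 ^ 1 * 115 := by rw [h]; norm_num
  have hm : ¬ 53 ∣ 115 := by norm_num
  have hmem := card_sylow_mem_candidates hc hm
  have hcand : sylowCandidates 53 115 = [1] := by decide
  rw [hcand] at hmem
  simp only [List.mem_cons, List.not_mem_nil, or_false] at hmem
  have hlt := one_lt_card_sylow_of_card hc hm (by norm_num) (by norm_num)
  have hd := hmem
  · omega

theorem no_6096 {G : Type*} [Group G] [Finite G] [IsSimpleGroup G]
    (hG : ¬ IsMulCommutative G) (h : Nat.card G = 6096) : False := by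
  have : Fact (Nat.Prime 127) := ⟨by norm_num⟩
  have hc : Nat.card G = 127 ^ 1 * 48 := by rw [h]; norm_num
  have hm : ¬ 127 ∣ 48 := by norm_num
  have hmem := card_sylow_mem_candidates hc hm
  have hcand : sylowCandidates 127 48 = [1] := by decide
  rw [hcand] at hmem
  simp only [List.mem_cons, List.not_mem_nil, or_false] at hmem
  have hlt := one_lt_card_sylow_of_card hc hm (by norm_num) (by norm_num)
  have hd := hmem
  · omega

theorem no_6097 {G : Type*} [Group G] [Finite G] [IsSimpleGroup G]
    (hG : ¬ IsMulCommutative G) (h : Nat.card G = 6097) : False := by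
  have : Fact (Nat.Prime 67) := ⟨by norm_num⟩
  have hc : Nat.card G = 67 ^ 1 * 91 := by rw [h]; norm_num
  have hm : ¬ 67 ∣ 91 := by norm_num
  have hmem := card_sylow_mem_candidates hc hm
  have hcand : sylowCandidates 67 91 = [1] := by decide
  rw [hcand] at hmem
  simp only [List.mem_cons, List.not_mem_nil, or_false] at hmem
  have hlt := one_lt_card_sylow_of_card hc hm (by norm_num) (by norm_num)
  have hd := hmem
  · omega

theorem no_6098 {G : Type*} [Group G] [Finite G] [IsSimpleGroup G]
    (hG : ¬ IsMulCommutative G) (h : Nat.card G = 6098) : False := by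
  exact tp hG 2 3049 1 1 (by norm_num) (by norm_num) (by rw [h]; norm_num)

theorem no_6099 {G : Type*} [Group G] [Finite G] [IsSimpleGroup G]
    (hG : ¬ IsMulCommutative G) (h : Nat.card G = 6099) : False := by
  have : Fact (Nat.Prime 107) := ⟨by norm_num⟩
  have hc : Nat.card G = 107 ^ 1 * 57 := by rw [h]; norm_num
  have hm : ¬ 107 ∣ 57 := by norm_num
  have hmem := card_sylow_mem_candidates hc hm
  have hcand : sylowCandidates 107 57 = [1] := by decide
  rw [hcand] at hmem
  simp only [List.mem_cons, List.not_mem_nil, or_false] at hmem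
  have hlt := one_lt_card_sylow_of_card hc hm (by norm_num) (by norm_num)
  have hd := hmem
  · omega

theorem no_6100 {G : Type*} [Group G] [Finite G] [IsSimpleGroup G]
    (hG : ¬ IsMulCommutative G) (h : Nat.card G = 6100) : False := by
  exact ev hG (by rw [h]; exact ⟨3050, by norm_num⟩) (by rw [h]; omega)

/-- the orders in [6001, 6100] not excluded by the engine -/
theorem chunk {G : Type*} [Group G] [Finite G] [IsSimpleGroup G]
    (hG : ¬ IsMulCommutative G) (n : ℕ) (hn : Nat.card G = n) (h1 : 6001 ≤ n) (h2 : n ≤ 6100) :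
    n = 6048 ∨ n = 6072 := by
  interval_cases n
  · exact (no_6001 hG hn).elim
  · exact (no_6002 hG hn).elim
  · exact (no_6003 hG hn).elim
  · exact (no_6004 hG hn).elim
  · exact (no_6005 hG hn).elim
  · exact (no_6006 hG hn).elim
  · exact (no_6007 hG hn).elim
  · exact (no_6008 hG hn).elim
  · exact (no_6009 hG hn).elim
  · exact (no_6010 hG hn).elim
  · exact (no_6011 hG hn).elim
  · exact (no_6012 hG hn).elim
  · exact (no_6013 hG hn).elim
  · exact (no_6014 hG hn).elim
  · exact (no_6015 hG hn).elim
  · exact (no_6016 hG hn).elim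
  · exact (no_6017 hG hn).elim
  · exact (no_6018 hG hn).elim
  · exact (no_6019 hG hn).elim
  · exact (no_6020 hG hn).elim
  · exact (no_6021 hG hn).elim
  · exact (no_6022 hG hn).elim
  · exact (no_6023 hG hn).elim
  · exact (no_6024 hG hn).elim
  · exact (no_6025 hG hn).elim
  · exact (no_6026 hG hn).elim
  · exact (no_6027 hG hn).elim
  · exact (no_6028 hG hn).elim
  · exact (no_6029 hG hn).elim
  · exact (no_6030 hG hn).elim
  · exact (no_6031 hG hn).elim
  · exact (no_6032 hG hn).elim
  · exact (no_6033 hG hn).elim
  · exact (no_6034 hG hn).elim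
  · exact (no_6035 hG hn).elim
  · exact (no_6036 hG hn).elim
  · exact (no_6037 hG hn).elim
  · exact (no_6038 hG hn).elim
  · exact (no_6039 hG hn).elim
  · exact (no_6040 hG hn).elim
  · exact (no_6041 hG hn).elim
  · exact (no_6042 hG hn).elim
  · exact (no_6043 hG hn).elim
  · exact (no_6044 hG hn).elim
  · exact (no_6045 hG hn).elim
  · exact (no_6046 hG hn).elim
  · exact (no_6047 hG hn).elim
  · simp
  · exact (no_6049 hG hn).elim
  · exact (no_6050 hG hn).elim
  · exact (no_6051 hG hn).elim
  · exact (no_6052 hG hn).elim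
  · exact (no_6053 hG hn).elim
  · exact (no_6054 hG hn).elim
  · exact (no_6055 hG hn).elim
  · exact (no_6056 hG hn).elim
  · exact (no_6057 hG hn).elim
  · exact (no_6058 hG hn).elim
  · exact (no_6059 hG hn).elim
  · exact (no_6060 hG hn).elim
  · exact (no_6061 hG hn).elim
  · exact (no_6062 hG hn).elim
  · exact (no_6063 hG hn).elim
  · exact (no_6064 hG hn).elim
  · exact (no_6065 hG hn).elim
  · exact (no_6066 hG hn).elim
  · exact (no_6067 hG hn).elim
  · exact (no_6068 hG hn).elim
  · exact (no_6069 hG hn).elim
  · exact (no_6070 hG hn).elim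
  · exact (no_6071 hG hn).elim
  · simp
  · exact (no_6073 hG hn).elim
  · exact (no_6074 hG hn).elim
  · exact (no_6075 hG hn).elim
  · exact (no_6076 hG hn).elim
  · exact (no_6077 hG hn).elim
  · exact (no_6078 hG hn).elim
  · exact (no_6079 hG hn).elim
  · exact (no_6080 hG hn).elim
  · exact (no_6081 hG hn).elim
  · exact (no_6082 hG hn).elim
  · exact (no_6083 hG hn).elim
  · exact (no_6084 hG hn).elim
  · exact (no_6085 hG hn).elim
  · exact (no_6086 hG hn).elim
  · exact (no_6087 hG hn).elim
  · exact (no_6088 hG hn).elim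
  · exact (no_6089 hG hn).elim
  · exact (no_6090 hG hn).elim
  · exact (no_6091 hG hn).elim
  · exact (no_6092 hG hn).elim
  · exact (no_6093 hG hn).elim
  · exact (no_6094 hG hn).elim
  · exact (no_6095 hG hn).elim
  · exact (no_6096 hG hn).elim
  · exact (no_6097 hG hn).elim
  · exact (no_6098 hG hn).elim
  · exact (no_6099 hG hn).elim
  · exact (no_6100 hG hn).elim

end Cfsg.Agent.Lib.Helper16_SO_E24
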