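import Mathlib
import Cfsg.Agent.Lib.Helper75_SM_Base

/-!
# S0983 engine, generated file: no simple group of order N for the easy N in [6101, 6200]
(helper16; same scheme as helper75's `Helper75_SM_E*`)
-/

set_option autoImplicit false
set_option linter.unusedVariables false

namespace Cfsg.Agent.Lib.Helper16_SO_E25

open Cfsg.Agent.Lib.Helper17_Sylow Cfsg.Agent.Lib.Helper75_SM_Base

theorem no_6101 {G : Type*} [Group G] [Finite G] [IsSimpleGroup G]
    (hG : ¬ IsMulCommutative G) (h : Nat.card G = 6101) : False := by
  exact tp hG 6101 2 1 0 (by norm_num) (by norm_num) (by rw [h]; norm_num)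

theorem no_6102 {G : Type*} [Group G] [Finite G] [IsSimpleGroup G]
    (hG : ¬ IsMulCommutative G) (h : Nat.card G = 6102) : False := by
  exact ev hG (by rw [h]; exact ⟨3051, by norm_num⟩) (by rw [h]; omega)

theorem no_6103 {G : Type*} [Group G] [Finite G] [IsSimpleGroup G]
    (hG : ¬ IsMulCommutative G) (h : Nat.card G = 6103) : False := by
  exact tp hG 17 359 1 1 (by norm_num) (by norm_num) (by rw [h]; norm_num)

theorem no_6104 {G : Type*} [Group G] [Finite G] [IsSimpleGroup G]
    (hG : ¬ IsMulCommutative G) (h : Nat.card G = 6104) : False := by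
  have : Fact (Nat.Prime 109) := ⟨by norm_num⟩
  have hc : Nat.card G = 109 ^ 1 * 56 := by rw [h]; norm_num
  have hm : ¬ 109 ∣ 56 := by norm_num
  have hmem := card_sylow_mem_candidates hc hm
  have hcand : sylowCandidates 109 56 = [1] := by decide
  rw [hcand] at hmem
  simp only [List.mem_cons, List.not_mem_nil, or_false] at hmem
  have hlt := one_lt_card_sylow_of_card hc hm (by norm_num) (by norm_num)
  have hd := hmem
  · omega

theorem no_6105 {G : Type*} [Group G] [Finite G] [IsSimpleGroup G]
    (hG : ¬ IsMulCommutative G) (h : Nat.card G = 6105) : False := by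
  have : Fact (Nat.Prime 37) := ⟨by norm_num⟩
  have hc : Nat.card G = 37 ^ 1 * 165 := by rw [h]; norm_num
  have hm : ¬ 37 ∣ 165 := by norm_num
  have hmem := card_sylow_mem_candidates hc hm
  have hcand : sylowCandidates 37 165 = [1] := by decide
  rw [hcand] at hmem
  simp only [List.mem_cons, List.not_mem_nil, or_false] at hmem
  have hlt := one_lt_card_sylow_of_card hc hm (by norm_num) (by norm_num)
  have hd := hmem
  · omega

theorem no_6106 {G : Type*} [Group G] [Finite G] [IsSimpleGroup G]
    (hG : ¬ IsMulCommutative G) (h : Nat.card G = 6106) : False := by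
  exact ev hG (by rw [h]; exact ⟨3053, by norm_num⟩) (by rw [h]; omega)

theorem no_6107 {G : Type*} [Group G] [Finite G] [IsSimpleGroup G]
    (hG : ¬ IsMulCommutative G) (h : Nat.card G = 6107) : False := by
  exact tp hG 31 197 1 1 (by norm_num) (by norm_num) (by rw [h]; norm_num)

theorem no_6108 {G : Type*} [Group G] [Finite G] [IsSimpleGroup G]
    (hG : ¬ IsMulCommutative G) (h : Nat.card G = 6108) : False := by
  have : Fact (Nat.Prime 509) := ⟨by norm_num⟩
  have hc : Nat.card G = 509 ^ 1 * 12 := by rw [h]; norm_num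
  have hm : ¬ 509 ∣ 12 := by norm_num
  have hmem := card_sylow_mem_candidates hc hm
  have hcand : sylowCandidates 509 12 = [1] := by decide
  rw [hcand] at hmem
  simp only [List.mem_cons, List.not_mem_nil, or_false] at hmem
  have hlt := one_lt_card_sylow_of_card hc hm (by norm_num) (by norm_num)
  have hd := hmem
  · omega

theorem no_6109 {G : Type*} [Group G] [Finite G] [IsSimpleGroup G]
    (hG : ¬ IsMulCommutative G) (h : Nat.card G = 6109) : False := by
  exact tp hG 41 149 1 1 (by norm_num) (by norm_num) (by rw [h]; norm_num)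

theorem no_6110 {G : Type*} [Group G] [Finite G] [IsSimpleGroup G]
    (hG : ¬ IsMulCommutative G) (h : Nat.card G = 6110) : False := by
  exact ev hG (by rw [h]; exact ⟨3055, by norm_num⟩) (by rw [h]; omega)

theorem no_6111 {G : Type*} [Group G] [Finite G] [IsSimpleGroup G]
    (hG : ¬ IsMulCommutative G) (h : Nat.card G = 6111) : False := by
  have : Fact (Nat.Prime 97) := ⟨by norm_num⟩
  have hc : Nat.card G = 97 ^ 1 * 63 := by rw [h]; norm_num
  have hm : ¬ 97 ∣ 63 := by norm_num
  have hmem := card_sylow_mem_candidates hc hm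
  have hcand : sylowCandidates 97 63 = [1] := by decide
  rw [hcand] at hmem
  simp only [List.mem_cons, List.not_mem_nil, or_false] at hmem
  have hlt := one_lt_card_sylow_of_card hc hm (by norm_num) (by norm_num)
  have hd := hmem
  · omega

theorem no_6112 {G : Type*} [Group G] [Finite G] [IsSimpleGroup G]
    (hG : ¬ IsMulCommutative G) (h : Nat.card G = 6112) : False := by
  exact tp hG 2 191 5 1 (by norm_num) (by norm_num) (by rw [h]; norm_num)

theorem no_6113 {G : Type*} [Group G] [Finite G] [IsSimpleGroup G]
    (hG : ¬ IsMulCommutative G) (h : Nat.card G = 6113) : False := by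
  exact tp hG 6113 2 1 0 (by norm_num) (by norm_num) (by rw [h]; norm_num)

theorem no_6114 {G : Type*} [Group G] [Finite G] [IsSimpleGroup G]
    (hG : ¬ IsMulCommutative G) (h : Nat.card G = 6114) : False := by
  exact ev hG (by rw [h]; exact ⟨3057, by norm_num⟩) (by rw [h]; omega)

theorem no_6115 {G : Type*} [Group G] [Finite G] [IsSimpleGroup G]
    (hG : ¬ IsMulCommutative G) (h : Nat.card G = 6115) : False := by
  exact tp hG 5 1223 1 1 (by norm_num) (by norm_num) (by rw [h]; norm_num)

theorem no_6116 {G : Type*} [Group G] [Finite G] [IsSimpleGroup G]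
    (hG : ¬ IsMulCommutative G) (h : Nat.card G = 6116) : False := by
  exact ev hG (by rw [h]; exact ⟨3058, by norm_num⟩) (by rw [h]; omega)

theorem no_6117 {G : Type*} [Group G] [Finite G] [IsSimpleGroup G]
    (hG : ¬ IsMulCommutative G) (h : Nat.card G = 6117) : False := by
  exact tp hG 3 2039 1 1 (by norm_num) (by norm_num) (by rw [h]; norm_num)

theorem no_6118 {G : Type*} [Group G] [Finite G] [IsSimpleGroup G]
    (hG : ¬ IsMulCommutative G) (h : Nat.card G = 6118) : False := by
  exact ev hG (by rw [h]; exact ⟨3059, by norm_num⟩) (by rw [h]; omega)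

theorem no_6119 {G : Type*} [Group G] [Finite G] [IsSimpleGroup G]
    (hG : ¬ IsMulCommutative G) (h : Nat.card G = 6119) : False := by
  exact tp hG 29 211 1 1 (by norm_num) (by norm_num) (by rw [h]; norm_num)

theorem no_6120 {G : Type*} [Group G] [Finite G] [IsSimpleGroup G]
    (hG : ¬ IsMulCommutative G) (h : Nat.card G = 6120) : False := by
  have : Fact (Nat.Prime 17) := ⟨by norm_num⟩
  have hc : Nat.card G = 17 ^ 1 * 360 := by rw [h]; norm_num
  have hm : ¬ 17 ∣ 360 := by norm_num
  have hmem := card_sylow_mem_candidates hc hm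
  have hcand : sylowCandidates 17 360 = [1, 18, 120] := by decide
  rw [hcand] at hmem
  simp only [List.mem_cons, List.not_mem_nil, or_false] at hmem
  have hlt := one_lt_card_sylow_of_card hc hm (by norm_num) (by norm_num)
  rcases hmem with hd | hd | hd
  · omega
  · exact perm_kill hG (by norm_num) hc hm hd 340 (by omega) (by decide)
  · exact burn_kill hc hm (by norm_num) 120 hd (by decide)

theorem no_6121 {G : Type*} [Group G] [Finite G] [IsSimpleGroup G]
    (hG : ¬ IsMulCommutative G) (h : Nat.card G = 6121) : False := by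
  exact tp hG 6121 2 1 0 (by norm_num) (by norm_num) (by rw [h]; norm_num)

theorem no_6122 {G : Type*} [Group G] [Finite G] [IsSimpleGroup G]
    (hG : ¬ IsMulCommutative G) (h : Nat.card G = 6122) : False := by
  exact tp hG 2 3061 1 1 (by norm_num) (by norm_num) (by rw [h]; norm_num)

theorem no_6123 {G : Type*} [Group G] [Finite G] [IsSimpleGroup G]
    (hG : ¬ IsMulCommutative G) (h : Nat.card G = 6123) : False := by
  have : Fact (Nat.Prime 157) := ⟨by norm_num⟩
  have hc : Nat.card G = 157 ^ 1 * 39 := by rw [h]; norm_num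
  have hm : ¬ 157 ∣ 39 := by norm_num
  have hmem := card_sylow_mem_candidates hc hm
  have hcand : sylowCandidates 157 39 = [1] := by decide
  rw [hcand] at hmem
  simp only [List.mem_cons, List.not_mem_nil, or_false] at hmem
  have hlt := one_lt_card_sylow_of_card hc hm (by norm_num) (by norm_num)
  have hd := hmem
  · omega

theorem no_6124 {G : Type*} [Group G] [Finite G] [IsSimpleGroup G]
    (hG : ¬ IsMulCommutative G) (h : Nat.card G = 6124) : False := by
  exact tp hG 2 1531 2 1 (by norm_num) (by norm_num) (by rw [h]; norm_num)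

theorem no_6125 {G : Type*} [Group G] [Finite G] [IsSimpleGroup G]
    (hG : ¬ IsMulCommutative G) (h : Nat.card G = 6125) : False := by
  exact tp hG 5 7 3 2 (by norm_num) (by norm_num) (by rw [h]; norm_num)

theorem no_6126 {G : Type*} [Group G] [Finite G] [IsSimpleGroup G]
    (hG : ¬ IsMulCommutative G) (h : Nat.card G = 6126) : False := by
  exact ev hG (by rw [h]; exact ⟨3063, by norm_num⟩) (by rw [h]; omega)

theorem no_6127 {G : Type*} [Group G] [Finite G] [IsSimpleGroup G]
    (hG : ¬ IsMulCommutative G) (h : Nat.card G = 6127) : False := by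
  exact tp hG 11 557 1 1 (by norm_num) (by norm_num) (by rw [h]; norm_num)

theorem no_6128 {G : Type*} [Group G] [Finite G] [IsSimpleGroup G]
    (hG : ¬ IsMulCommutative G) (h : Nat.card G = 6128) : False := by
  exact tp hG 2 383 4 1 (by norm_num) (by norm_num) (by rw [h]; norm_num)

theorem no_6129 {G : Type*} [Group G] [Finite G] [IsSimpleGroup G]
    (hG : ¬ IsMulCommutative G) (h : Nat.card G = 6129) : False := by
  exact tp hG 3 227 3 1 (by norm_num) (by norm_num) (by rw [h]; norm_num)

theorem no_6130 {G : Type*} [Group G] [Finite G] [IsSimpleGroup G]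
    (hG : ¬ IsMulCommutative G) (h : Nat.card G = 6130) : False := by
  exact ev hG (by rw [h]; exact ⟨3065, by norm_num⟩) (by rw [h]; omega)

theorem no_6131 {G : Type*} [Group G] [Finite G] [IsSimpleGroup G]
    (hG : ¬ IsMulCommutative G) (h : Nat.card G = 6131) : False := by
  exact tp hG 6131 2 1 0 (by norm_num) (by norm_num) (by rw [h]; norm_num)

theorem no_6132 {G : Type*} [Group G] [Finite G] [IsSimpleGroup G]
    (hG : ¬ IsMulCommutative G) (h : Nat.card G = 6132) : False := by
  have : Fact (Nat.Prime 73) := ⟨by norm_num⟩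
  have hc : Nat.card G = 73 ^ 1 * 84 := by rw [h]; norm_num
  have hm : ¬ 73 ∣ 84 := by norm_num
  have hmem := card_sylow_mem_candidates hc hm
  have hcand : sylowCandidates 73 84 = [1] := by decide
  rw [hcand] at hmem
  simp only [List.mem_cons, List.not_mem_nil, or_false] at hmem
  have hlt := one_lt_card_sylow_of_card hc hm (by norm_num) (by norm_num)
  have hd := hmem
  · omega

theorem no_6133 {G : Type*} [Group G] [Finite G] [IsSimpleGroup G]
    (hG : ¬ IsMulCommutative G) (h : Nat.card G = 6133) : False := by
  exact tp hG 6133 2 1 0 (by norm_num) (by norm_num) (by rw [h]; norm_num)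

theorem no_6134 {G : Type*} [Group G] [Finite G] [IsSimpleGroup G]
    (hG : ¬ IsMulCommutative G) (h : Nat.card G = 6134) : False := by
  exact tp hG 2 3067 1 1 (by norm_num) (by norm_num) (by rw [h]; norm_num)

theorem no_6135 {G : Type*} [Group G] [Finite G] [IsSimpleGroup G]
    (hG : ¬ IsMulCommutative G) (h : Nat.card G = 6135) : False := by
  have : Fact (Nat.Prime 409) := ⟨by norm_num⟩
  have hc : Nat.card G = 409 ^ 1 * 15 := by rw [h]; norm_num
  have hm : ¬ 409 ∣ 15 := by norm_num
  have hmem := card_sylow_mem_candidates hc hm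
  have hcand : sylowCandidates 409 15 = [1] := by decide
  rw [hcand] at hmem
  simp only [List.mem_cons, List.not_mem_nil, or_false] at hmem
  have hlt := one_lt_card_sylow_of_card hc hm (by norm_num) (by norm_num)
  have hd := hmem
  · omega

theorem no_6136 {G : Type*} [Group G] [Finite G] [IsSimpleGroup G]
    (hG : ¬ IsMulCommutative G) (h : Nat.card G = 6136) : False := by
  exact ev hG (by rw [h]; exact ⟨3068, by norm_num⟩) (by rw [h]; omega)

theorem no_6137 {G : Type*} [Group G] [Finite G] [IsSimpleGroup G]
    (hG : ¬ IsMulCommutative G) (h : Nat.card G = 6137) : False := by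
  exact tp hG 17 19 1 2 (by norm_num) (by norm_num) (by rw [h]; norm_num)

theorem no_6138 {G : Type*} [Group G] [Finite G] [IsSimpleGroup G]
    (hG : ¬ IsMulCommutative G) (h : Nat.card G = 6138) : False := by
  exact ev hG (by rw [h]; exact ⟨3069, by norm_num⟩) (by rw [h]; omega)

theorem no_6139 {G : Type*} [Group G] [Finite G] [IsSimpleGroup G]
    (hG : ¬ IsMulCommutative G) (h : Nat.card G = 6139) : False := by
  exact tp hG 7 877 1 1 (by norm_num) (by norm_num) (by rw [h]; norm_num)

theorem no_6140 {G : Type*} [Group G] [Finite G] [IsSimpleGroup G]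
    (hG : ¬ IsMulCommutative G) (h : Nat.card G = 6140) : False := by
  exact ev hG (by rw [h]; exact ⟨3070, by norm_num⟩) (by rw [h]; omega)

theorem no_6141 {G : Type*} [Group G] [Finite G] [IsSimpleGroup G]
    (hG : ¬ IsMulCommutative G) (h : Nat.card G = 6141) : False := by
  have : Fact (Nat.Prime 89) := ⟨by norm_num⟩
  have hc : Nat.card G = 89 ^ 1 * 69 := by rw [h]; norm_num
  have hm : ¬ 89 ∣ 69 := by norm_num
  have hmem := card_sylow_mem_candidates hc hm
  have hcand : sylowCandidates 89 69 = [1] := by decide
  rw [hcand] at hmem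
  simp only [List.mem_cons, List.not_mem_nil, or_false] at hmem
  have hlt := one_lt_card_sylow_of_card hc hm (by norm_num) (by norm_num)
  have hd := hmem
  · omega

theorem no_6142 {G : Type*} [Group G] [Finite G] [IsSimpleGroup G]
    (hG : ¬ IsMulCommutative G) (h : Nat.card G = 6142) : False := by
  exact ev hG (by rw [h]; exact ⟨3071, by norm_num⟩) (by rw [h]; omega)

theorem no_6143 {G : Type*} [Group G] [Finite G] [IsSimpleGroup G]
    (hG : ¬ IsMulCommutative G) (h : Nat.card G = 6143) : False := by
  exact tp hG 6143 2 1 0 (by norm_num) (by norm_num) (by rw [h]; norm_num)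

theorem no_6144 {G : Type*} [Group G] [Finite G] [IsSimpleGroup G]
    (hG : ¬ IsMulCommutative G) (h : Nat.card G = 6144) : False := by
  exact tp hG 2 3 11 1 (by norm_num) (by norm_num) (by rw [h]; norm_num)

theorem no_6145 {G : Type*} [Group G] [Finite G] [IsSimpleGroup G]
    (hG : ¬ IsMulCommutative G) (h : Nat.card G = 6145) : False := by
  exact tp hG 5 1229 1 1 (by norm_num) (by norm_num) (by rw [h]; norm_num)

theorem no_6146 {G : Type*} [Group G] [Finite G] [IsSimpleGroup G]
    (hG : ¬ IsMulCommutative G) (h : Nat.card G = 6146) : False := by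
  exact ev hG (by rw [h]; exact ⟨3073, by norm_num⟩) (by rw [h]; omega)

theorem no_6147 {G : Type*} [Group G] [Finite G] [IsSimpleGroup G]
    (hG : ¬ IsMulCommutative G) (h : Nat.card G = 6147) : False := by
  exact tp hG 3 683 2 1 (by norm_num) (by norm_num) (by rw [h]; norm_num)

theorem no_6148 {G : Type*} [Group G] [Finite G] [IsSimpleGroup G]
    (hG : ¬ IsMulCommutative G) (h : Nat.card G = 6148) : False := by
  exact ev hG (by rw [h]; exact ⟨3074, by norm_num⟩) (by rw [h]; omega)

theorem no_6149 {G : Type*} [Group G] [Finite G] [IsSimpleGroup G]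
    (hG : ¬ IsMulCommutative G) (h : Nat.card G = 6149) : False := by
  have : Fact (Nat.Prime 43) := ⟨by norm_num⟩
  have hc : Nat.card G = 43 ^ 1 * 143 := by rw [h]; norm_num
  have hm : ¬ 43 ∣ 143 := by norm_num
  have hmem := card_sylow_mem_candidates hc hm
  have hcand : sylowCandidates 43 143 = [1] := by decide
  rw [hcand] at hmem
  simp only [List.mem_cons, List.not_mem_nil, or_false] at hmem
  have hlt := one_lt_card_sylow_of_card hc hm (by norm_num) (by norm_num)
  have hd := hmem
  · omega

theorem no_6150 {G : Type*} [Group G] [Finite G] [IsSimpleGroup G]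
    (hG : ¬ IsMulCommutative G) (h : Nat.card G = 6150) : False := by
  exact ev hG (by rw [h]; exact ⟨3075, by norm_num⟩) (by rw [h]; omega)

theorem no_6151 {G : Type*} [Group G] [Finite G] [IsSimpleGroup G]
    (hG : ¬ IsMulCommutative G) (h : Nat.card G = 6151) : False := by
  exact tp hG 6151 2 1 0 (by norm_num) (by norm_num) (by rw [h]; norm_num)

theorem no_6152 {G : Type*} [Group G] [Finite G] [IsSimpleGroup G]
    (hG : ¬ IsMulCommutative G) (h : Nat.card G = 6152) : False := by
  exact tp hG 2 769 3 1 (by norm_num) (by norm_num) (by rw [h]; norm_num)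

theorem no_6153 {G : Type*} [Group G] [Finite G] [IsSimpleGroup G]
    (hG : ¬ IsMulCommutative G) (h : Nat.card G = 6153) : False := by
  have : Fact (Nat.Prime 293) := ⟨by norm_num⟩
  have hc : Nat.card G = 293 ^ 1 * 21 := by rw [h]; norm_num
  have hm : ¬ 293 ∣ 21 := by norm_num
  have hmem := card_sylow_mem_candidates hc hm
  have hcand : sylowCandidates 293 21 = [1] := by decide
  rw [hcand] at hmem
  simp only [List.mem_cons, List.not_mem_nil, or_false] at hmem
  have hlt := one_lt_card_sylow_of_card hc hm (by norm_num) (by norm_num)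
  have hd := hmem
  · omega

theorem no_6154 {G : Type*} [Group G] [Finite G] [IsSimpleGroup G]
    (hG : ¬ IsMulCommutative G) (h : Nat.card G = 6154) : False := by
  exact ev hG (by rw [h]; exact ⟨3077, by norm_num⟩) (by rw [h]; omega)

theorem no_6155 {G : Type*} [Group G] [Finite G] [IsSimpleGroup G]
    (hG : ¬ IsMulCommutative G) (h : Nat.card G = 6155) : False := by
  exact tp hG 5 1231 1 1 (by norm_num) (by norm_num) (by rw [h]; norm_num)

theorem no_6156 {G : Type*} [Group G] [Finite G] [IsSimpleGroup G]
    (hG : ¬ IsMulCommutative G) (h : Nat.card G = 6156) : False := by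
  have : Fact (Nat.Prime 19) := ⟨by norm_num⟩
  have hc : Nat.card G = 19 ^ 1 * 324 := by rw [h]; norm_num
  have hm : ¬ 19 ∣ 324 := by norm_num
  have hmem := card_sylow_mem_candidates hc hm
  have hcand : sylowCandidates 19 324 = [1, 324] := by decide
  rw [hcand] at hmem
  simp only [List.mem_cons, List.not_mem_nil, or_false] at hmem
  have hlt := one_lt_card_sylow_of_card hc hm (by norm_num) (by norm_num)
  rcases hmem with hd | hd
  · omega
  · exact burn_kill hc hm (by norm_num) 324 hd (by decide)

theorem no_6157 {G : Type*} [Group G] [Finite G] [IsSimpleGroup G]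
    (hG : ¬ IsMulCommutative G) (h : Nat.card G = 6157) : False := by
  exact tp hG 47 131 1 1 (by norm_num) (by norm_num) (by rw [h]; norm_num)

theorem no_6158 {G : Type*} [Group G] [Finite G] [IsSimpleGroup G]
    (hG : ¬ IsMulCommutative G) (h : Nat.card G = 6158) : False := by
  exact tp hG 2 3079 1 1 (by norm_num) (by norm_num) (by rw [h]; norm_num)

theorem no_6159 {G : Type*} [Group G] [Finite G] [IsSimpleGroup G]
    (hG : ¬ IsMulCommutative G) (h : Nat.card G = 6159) : False := by
  exact tp hG 3 2053 1 1 (by norm_num) (by norm_num) (by rw [h]; norm_num)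

theorem no_6161 {G : Type*} [Group G] [Finite G] [IsSimpleGroup G]
    (hG : ¬ IsMulCommutative G) (h : Nat.card G = 6161) : False := by
  exact tp hG 61 101 1 1 (by norm_num) (by norm_num) (by rw [h]; norm_num)

theorem no_6162 {G : Type*} [Group G] [Finite G] [IsSimpleGroup G]
    (hG : ¬ IsMulCommutative G) (h : Nat.card G = 6162) : False := by
  exact ev hG (by rw [h]; exact ⟨3081, by norm_num⟩) (by rw [h]; omega)

theorem no_6163 {G : Type*} [Group G] [Finite G] [IsSimpleGroup G]
    (hG : ¬ IsMulCommutative G) (h : Nat.card G = 6163) : False := by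
  exact tp hG 6163 2 1 0 (by norm_num) (by norm_num) (by rw [h]; norm_num)

theorem no_6164 {G : Type*} [Group G] [Finite G] [IsSimpleGroup G]
    (hG : ¬ IsMulCommutative G) (h : Nat.card G = 6164) : False := by
  exact ev hG (by rw [h]; exact ⟨3082, by norm_num⟩) (by rw [h]; omega)

theorem no_6165 {G : Type*} [Group G] [Finite G] [IsSimpleGroup G]
    (hG : ¬ IsMulCommutative G) (h : Nat.card G = 6165) : False := by
  have : Fact (Nat.Prime 137) := ⟨by norm_num⟩
  have hc : Nat.card G = 137 ^ 1 * 45 := by rw [h]; norm_num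
  have hm : ¬ 137 ∣ 45 := by norm_num
  have hmem := card_sylow_mem_candidates hc hm
  have hcand : sylowCandidates 137 45 = [1] := by decide
  rw [hcand] at hmem
  simp only [List.mem_cons, List.not_mem_nil, or_false] at hmem
  have hlt := one_lt_card_sylow_of_card hc hm (by norm_num) (by norm_num)
  have hd := hmem
  · omega

theorem no_6166 {G : Type*} [Group G] [Finite G] [IsSimpleGroup G]
    (hG : ¬ IsMulCommutative G) (h : Nat.card G = 6166) : False := by
  exact tp hG 2 3083 1 1 (by norm_num) (by norm_num) (by rw [h]; norm_num)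

theorem no_6167 {G : Type*} [Group G] [Finite G] [IsSimpleGroup G]
    (hG : ¬ IsMulCommutative G) (h : Nat.card G = 6167) : False := by
  exact tp hG 7 881 1 1 (by norm_num) (by norm_num) (by rw [h]; norm_num)

theorem no_6168 {G : Type*} [Group G] [Finite G] [IsSimpleGroup G]
    (hG : ¬ IsMulCommutative G) (h : Nat.card G = 6168) : False := by
  have : Fact (Nat.Prime 257) := ⟨by norm_num⟩
  have hc : Nat.card G = 257 ^ 1 * 24 := by rw [h]; norm_num
  have hm : ¬ 257 ∣ 24 := by norm_num
  have hmem := card_sylow_mem_candidates hc hm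
  have hcand : sylowCandidates 257 24 = [1] := by decide
  rw [hcand] at hmem
  simp only [List.mem_cons, List.not_mem_nil, or_false] at hmem
  have hlt := one_lt_card_sylow_of_card hc hm (by norm_num) (by norm_num)
  have hd := hmem
  · omega

theorem no_6169 {G : Type*} [Group G] [Finite G] [IsSimpleGroup G]
    (hG : ¬ IsMulCommutative G) (h : Nat.card G = 6169) : False := by
  exact tp hG 31 199 1 1 (by norm_num) (by norm_num) (by rw [h]; norm_num)

theorem no_6170 {G : Type*} [Group G] [Finite G] [IsSimpleGroup G]
    (hG : ¬ IsMulCommutative G) (h : Nat.card G = 6170) : False := by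
  exact ev hG (by rw [h]; exact ⟨3085, by norm_num⟩) (by rw [h]; omega)

theorem no_6171 {G : Type*} [Group G] [Finite G] [IsSimpleGroup G]
    (hG : ¬ IsMulCommutative G) (h : Nat.card G = 6171) : False := by
  have : Fact (Nat.Prime 11) := ⟨by norm_num⟩
  have hc : Nat.card G = 11 ^ 2 * 51 := by rw [h]; norm_num
  have hm : ¬ 11 ∣ 51 := by norm_num
  have hmem := card_sylow_mem_candidates hc hm
  have hcand : sylowCandidates 11 51 = [1] := by decide
  rw [hcand] at hmem
  simp only [List.mem_cons, List.not_mem_nil, or_false] at hmem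
  have hlt := one_lt_card_sylow_of_card hc hm (by norm_num) (by norm_num)
  have hd := hmem
  · omega

theorem no_6172 {G : Type*} [Group G] [Finite G] [IsSimpleGroup G]
    (hG : ¬ IsMulCommutative G) (h : Nat.card G = 6172) : False := by
  exact tp hG 2 1543 2 1 (by norm_num) (by norm_num) (by rw [h]; norm_num)

theorem no_6173 {G : Type*} [Group G] [Finite G] [IsSimpleGroup G]
    (hG : ¬ IsMulCommutative G) (h : Nat.card G = 6173) : False := by
  exact tp hG 6173 2 1 0 (by norm_num) (by norm_num) (by rw [h]; norm_num)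

theorem no_6174 {G : Type*} [Group G] [Finite G] [IsSimpleGroup G]
    (hG : ¬ IsMulCommutative G) (h : Nat.card G = 6174) : False := by
  exact ev hG (by rw [h]; exact ⟨3087, by norm_num⟩) (by rw [h]; omega)

theorem no_6175 {G : Type*} [Group G] [Finite G] [IsSimpleGroup G]
    (hG : ¬ IsMulCommutative G) (h : Nat.card G = 6175) : False := by
  have : Fact (Nat.Prime 19) := ⟨by norm_num⟩
  have hc : Nat.card G = 19 ^ 1 * 325 := by rw [h]; norm_num
  have hm : ¬ 19 ∣ 325 := by norm_num
  have hmem := card_sylow_mem_candidates hc hm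
  have hcand : sylowCandidates 19 325 = [1] := by decide
  rw [hcand] at hmem
  simp only [List.mem_cons, List.not_mem_nil, or_false] at hmem
  have hlt := one_lt_card_sylow_of_card hc hm (by norm_num) (by norm_num)
  have hd := hmem
  · omega

theorem no_6176 {G : Type*} [Group G] [Finite G] [IsSimpleGroup G]
    (hG : ¬ IsMulCommutative G) (h : Nat.card G = 6176) : False := by
  exact tp hG 2 193 5 1 (by norm_num) (by norm_num) (by rw [h]; norm_num)

theorem no_6177 {G : Type*} [Group G] [Finite G] [IsSimpleGroup G]
    (hG : ¬ IsMulCommutative G) (h : Nat.card G = 6177) : False := by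
  have : Fact (Nat.Prime 71) := ⟨by norm_num⟩
  have hc : Nat.card G = 71 ^ 1 * 87 := by rw [h]; norm_num
  have hm : ¬ 71 ∣ 87 := by norm_num
  have hmem := card_sylow_mem_candidates hc hm
  have hcand : sylowCandidates 71 87 = [1] := by decide
  rw [hcand] at hmem
  simp only [List.mem_cons, List.not_mem_nil, or_false] at hmem
  have hlt := one_lt_card_sylow_of_card hc hm (by norm_num) (by norm_num)
  have hd := hmem
  · omega

theorem no_6178 {G : Type*} [Group G] [Finite G] [IsSimpleGroup G]
    (hG : ¬ IsMulCommutative G) (h : Nat.card G = 6178) : False := by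
  exact tp hG 2 3089 1 1 (by norm_num) (by norm_num) (by rw [h]; norm_num)

theorem no_6179 {G : Type*} [Group G] [Finite G] [IsSimpleGroup G]
    (hG : ¬ IsMulCommutative G) (h : Nat.card G = 6179) : False := by
  exact tp hG 37 167 1 1 (by norm_num) (by norm_num) (by rw [h]; norm_num)

theorem no_6180 {G : Type*} [Group G] [Finite G] [IsSimpleGroup G]
    (hG : ¬ IsMulCommutative G) (h : Nat.card G = 6180) : False := by
  have : Fact (Nat.Prime 103) := ⟨by norm_num⟩
  have hc : Nat.card G = 103 ^ 1 * 60 := by rw [h]; norm_num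
  have hm : ¬ 103 ∣ 60 := by norm_num
  have hmem := card_sylow_mem_candidates hc hm
  have hcand : sylowCandidates 103 60 = [1] := by decide
  rw [hcand] at hmem
  simp only [List.mem_cons, List.not_mem_nil, or_false] at hmem
  have hlt := one_lt_card_sylow_of_card hc hm (by norm_num) (by norm_num)
  have hd := hmem
  · omega

theorem no_6181 {G : Type*} [Group G] [Finite G] [IsSimpleGroup G]
    (hG : ¬ IsMulCommutative G) (h : Nat.card G = 6181) : False := by
  exact tp hG 7 883 1 1 (by norm_num) (by norm_num) (by rw [h]; norm_num)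

theorem no_6182 {G : Type*} [Group G] [Finite G] [IsSimpleGroup G]
    (hG : ¬ IsMulCommutative G) (h : Nat.card G = 6182) : False := by
  exact ev hG (by rw [h]; exact ⟨3091, by norm_num⟩) (by rw [h]; omega)

theorem no_6183 {G : Type*} [Group G] [Finite G] [IsSimpleGroup G]
    (hG : ¬ IsMulCommutative G) (h : Nat.card G = 6183) : False := by
  exact tp hG 3 229 3 1 (by norm_num) (by norm_num) (by rw [h]; norm_num)

theorem no_6184 {G : Type*} [Group G] [Finite G] [IsSimpleGroup G]
    (hG : ¬ IsMulCommutative G) (h : Nat.card G = 6184) : False := by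
  exact tp hG 2 773 3 1 (by norm_num) (by norm_num) (by rw [h]; norm_num)

theorem no_6185 {G : Type*} [Group G] [Finite G] [IsSimpleGroup G]
    (hG : ¬ IsMulCommutative G) (h : Nat.card G = 6185) : False := by
  exact tp hG 5 1237 1 1 (by norm_num) (by norm_num) (by rw [h]; norm_num)

theorem no_6186 {G : Type*} [Group G] [Finite G] [IsSimpleGroup G]
    (hG : ¬ IsMulCommutative G) (h : Nat.card G = 6186) : False := by
  exact ev hG (by rw [h]; exact ⟨3093, by norm_num⟩) (by rw [h]; omega)

theorem no_6187 {G : Type*} [Group G] [Finite G] [IsSimpleGroup G]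
    (hG : ¬ IsMulCommutative G) (h : Nat.card G = 6187) : False := by
  exact tp hG 23 269 1 1 (by norm_num) (by norm_num) (by rw [h]; norm_num)

theorem no_6188 {G : Type*} [Group G] [Finite G] [IsSimpleGroup G]
    (hG : ¬ IsMulCommutative G) (h : Nat.card G = 6188) : False := by
  exact ev hG (by rw [h]; exact ⟨3094, by norm_num⟩) (by rw [h]; omega)

theorem no_6189 {G : Type*} [Group G] [Finite G] [IsSimpleGroup G]
    (hG : ¬ IsMulCommutative G) (h : Nat.card G = 6189) : False := by
  exact tp hG 3 2063 1 1 (by norm_num) (by norm_num) (by rw [h]; norm_num)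

theorem no_6190 {G : Type*} [Group G] [Finite G] [IsSimpleGroup G]
    (hG : ¬ IsMulCommutative G) (h : Nat.card G = 6190) : False := by
  exact ev hG (by rw [h]; exact ⟨3095, by norm_num⟩) (by rw [h]; omega)

theorem no_6191 {G : Type*} [Group G] [Finite G] [IsSimpleGroup G]
    (hG : ¬ IsMulCommutative G) (h : Nat.card G = 6191) : False := by
  exact tp hG 41 151 1 1 (by norm_num) (by norm_num) (by rw [h]; norm_num)

theorem no_6192 {G : Type*} [Group G] [Finite G] [IsSimpleGroup G]
    (hG : ¬ IsMulCommutative G) (h : Nat.card G = 6192) : False := by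
  have : Fact (Nat.Prime 43) := ⟨by norm_num⟩
  have hc : Nat.card G = 43 ^ 1 * 144 := by rw [h]; norm_num
  have hm : ¬ 43 ∣ 144 := by norm_num
  have hmem := card_sylow_mem_candidates hc hm
  have hcand : sylowCandidates 43 144 = [1] := by decide
  rw [hcand] at hmem
  simp only [List.mem_cons, List.not_mem_nil, or_false] at hmem
  have hlt := one_lt_card_sylow_of_card hc hm (by norm_num) (by norm_num)
  have hd := hmem
  · omega

theorem no_6193 {G : Type*} [Group G] [Finite G] [IsSimpleGroup G]
    (hG : ¬ IsMulCommutative G) (h : Nat.card G = 6193) : False := by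
  exact tp hG 11 563 1 1 (by norm_num) (by norm_num) (by rw [h]; norm_num)

theorem no_6194 {G : Type*} [Group G] [Finite G] [IsSimpleGroup G]
    (hG : ¬ IsMulCommutative G) (h : Nat.card G = 6194) : False := by
  exact ev hG (by rw [h]; exact ⟨3097, by norm_num⟩) (by rw [h]; omega)

theorem no_6195 {G : Type*} [Group G] [Finite G] [IsSimpleGroup G]
    (hG : ¬ IsMulCommutative G) (h : Nat.card G = 6195) : False := by
  have : Fact (Nat.Prime 59) := ⟨by norm_num⟩
  have hc : Nat.card G = 59 ^ 1 * 105 := by rw [h]; norm_num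
  have hm : ¬ 59 ∣ 105 := by norm_num
  have hmem := card_sylow_mem_candidates hc hm
  have hcand : sylowCandidates 59 105 = [1] := by decide
  rw [hcand] at hmem
  simp only [List.mem_cons, List.not_mem_nil, or_false] at hmem
  have hlt := one_lt_card_sylow_of_card hc hm (by norm_num) (by norm_num)
  have hd := hmem
  · omega

theorem no_6196 {G : Type*} [Group G] [Finite G] [IsSimpleGroup G]
    (hG : ¬ IsMulCommutative G) (h : Nat.card G = 6196) : False := by
  exact tp hG 2 1549 2 1 (by norm_num) (by norm_num) (by rw [h]; norm_num)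

theorem no_6197 {G : Type*} [Group G] [Finite G] [IsSimpleGroup G]
    (hG : ¬ IsMulCommutative G) (h : Nat.card G = 6197) : False := by
  exact tp hG 6197 2 1 0 (by norm_num) (by norm_num) (by rw [h]; norm_num)

theorem no_6198 {G : Type*} [Group G] [Finite G] [IsSimpleGroup G]
    (hG : ¬ IsMulCommutative G) (h : Nat.card G = 6198) : False := by
  exact ev hG (by rw [h]; exact ⟨3099, by norm_num⟩) (by rw [h]; omega)

theorem no_6199 {G : Type*} [Group G] [Finite G] [IsSimpleGroup G]
    (hG : ¬ IsMulCommutative G) (h : Nat.card G = 6199) : False := by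
  exact tp hG 6199 2 1 0 (by norm_num) (by norm_num) (by rw [h]; norm_num)

theorem no_6200 {G : Type*} [Group G] [Finite G] [IsSimpleGroup G]
    (hG : ¬ IsMulCommutative G) (h : Nat.card G = 6200) : False := by
  exact ev hG (by rw [h]; exact ⟨3100, by norm_num⟩) (by rw [h]; omega)

/-- the orders in [6101, 6200] not excluded by the engine -/
theorem chunk {G : Type*} [Group G] [Finite G] [IsSimpleGroup G]
    (hG : ¬ IsMulCommutative G) (n : ℕ) (hn : Nat.card G = n) (h1 : 6101 ≤ n) (h2 : n ≤ 6200) :
    n = 6160 := by
  interval_cases n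
  · exact (no_6101 hG hn).elim
  · exact (no_6102 hG hn).elim
  · exact (no_6103 hG hn).elim
  · exact (no_6104 hG hn).elim
  · exact (no_6105 hG hn).elim
  · exact (no_6106 hG hn).elim
  · exact (no_6107 hG hn).elim
  · exact (no_6108 hG hn).elim
  · exact (no_6109 hG hn).elim
  · exact (no_6110 hG hn).elim
  · exact (no_6111 hG hn).elim
  · exact (no_6112 hG hn).elim
  · exact (no_6113 hG hn).elim
  · exact (no_6114 hG hn).elim
  · exact (no_6115 hG hn).elim
  · exact (no_6116 hG hn).elim
  · exact (no_6117 hG hn).elim
  · exact (no_6118 hG hn).elim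
  · exact (no_6119 hG hn).elim
  · exact (no_6120 hG hn).elim
  · exact (no_6121 hG hn).elim
  · exact (no_6122 hG hn).elim
  · exact (no_6123 hG hn).elim
  · exact (no_6124 hG hn).elim
  · exact (no_6125 hG hn).elim
  · exact (no_6126 hG hn).elim
  · exact (no_6127 hG hn).elim
  · exact (no_6128 hG hn).elim
  · exact (no_6129 hG hn).elim
  · exact (no_6130 hG hn).elim
  · exact (no_6131 hG hn).elim
  · exact (no_6132 hG hn).elim
  · exact (no_6133 hG hn).elim
  · exact (no_6134 hG hn).elim
  · exact (no_6135 hG hn).elim
  · exact (no_6136 hG hn).elim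
  · exact (no_6137 hG hn).elim
  · exact (no_6138 hG hn).elim
  · exact (no_6139 hG hn).elim
  · exact (no_6140 hG hn).elim
  · exact (no_6141 hG hn).elim
  · exact (no_6142 hG hn).elim
  · exact (no_6143 hG hn).elim
  · exact (no_6144 hG hn).elim
  · exact (no_6145 hG hn).elim
  · exact (no_6146 hG hn).elim
  · exact (no_6147 hG hn).elim
  · exact (no_6148 hG hn).elim
  · exact (no_6149 hG hn).elim
  · exact (no_6150 hG hn).elim
  · exact (no_6151 hG hn).elim
  · exact (no_6152 hG hn).elim
  · exact (no_6153 hG hn).elim
  · exact (no_6154 hG hn).elim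
  · exact (no_6155 hG hn).elim
  · exact (no_6156 hG hn).elim
  · exact (no_6157 hG hn).elim
  · exact (no_6158 hG hn).elim
  · exact (no_6159 hG hn).elim
  · simp
  · exact (no_6161 hG hn).elim
  · exact (no_6162 hG hn).elim
  · exact (no_6163 hG hn).elim
  · exact (no_6164 hG hn).elim
  · exact (no_6165 hG hn).elim
  · exact (no_6166 hG hn).elim
  · exact (no_6167 hG hn).elim
  · exact (no_6168 hG hn).elim
  · exact (no_6169 hG hn).elim
  · exact (no_6170 hG hn).elim
  · exact (no_6171 hG hn).elim
  · exact (no_6172 hG hn).elim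
  · exact (no_6173 hG hn).elim
  · exact (no_6174 hG hn).elim
  · exact (no_6175 hG hn).elim
  · exact (no_6176 hG hn).elim
  · exact (no_6177 hG hn).elim
  · exact (no_6178 hG hn).elim
  · exact (no_6179 hG hn).elim
  · exact (no_6180 hG hn).elim
  · exact (no_6181 hG hn).elim
  · exact (no_6182 hG hn).elim
  · exact (no_6183 hG hn).elim
  · exact (no_6184 hG hn).elim
  · exact (no_6185 hG hn).elim
  · exact (no_6186 hG hn).elim
  · exact (no_6187 hG hn).elim
  · exact (no_6188 hG hn).elim
  · exact (no_6189 hG hn).elim
  · exact (no_6190 hG hn).elim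
  · exact (no_6191 hG hn).elim
  · exact (no_6192 hG hn).elim
  · exact (no_6193 hG hn).elim
  · exact (no_6194 hG hn).elim
  · exact (no_6195 hG hn).elim
  · exact (no_6196 hG hn).elim
  · exact (no_6197 hG hn).elim
  · exact (no_6198 hG hn).elim
  · exact (no_6199 hG hn).elim
  · exact (no_6200 hG hn).elim

end Cfsg.Agent.Lib.Helper16_SO_E25
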