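import Mathlib
import Cfsg.Agent.Lib.Helper75_SM_Base

/-!
# S0983 engine, generated file: no simple group of order N for the easy N in [6201, 6232]
(helper16; same scheme as helper75's `Helper75_SM_E*`)
-/

set_option autoImplicit false
set_option linter.unusedVariables false

namespace Cfsg.Agent.Lib.Helper16_SO_E26

open Cfsg.Agent.Lib.Helper17_Sylow Cfsg.Agent.Lib.Helper75_SM_Base

theorem no_6201 {G : Type*} [Group G] [Finite G] [IsSimpleGroup G]
    (hG : ¬ IsMulCommutative G) (h : Nat.card G = 6201) : False := by
  have : Fact (Nat.Prime 53) := ⟨by norm_num⟩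
  have hc : Nat.card G = 53 ^ 1 * 117 := by rw [h]; norm_num
  have hm : ¬ 53 ∣ 117 := by norm_num
  have hmem := card_sylow_mem_candidates hc hm
  have hcand : sylowCandidates 53 117 = [1] := by decide
  rw [hcand] at hmem
  simp only [List.mem_cons, List.not_mem_nil, or_false] at hmem
  have hlt := one_lt_card_sylow_of_card hc hm (by norm_num) (by norm_num)
  have hd := hmem
  · omega

theorem no_6202 {G : Type*} [Group G] [Finite G] [IsSimpleGroup G]
    (hG : ¬ IsMulCommutative G) (h : Nat.card G = 6202) : False := by
  exact ev hG (by rw [h]; exact ⟨3101, by norm_num⟩) (by rw [h]; omega)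

theorem no_6203 {G : Type*} [Group G] [Finite G] [IsSimpleGroup G]
    (hG : ¬ IsMulCommutative G) (h : Nat.card G = 6203) : False := by
  exact tp hG 6203 2 1 0 (by norm_num) (by norm_num) (by rw [h]; norm_num)

theorem no_6204 {G : Type*} [Group G] [Finite G] [IsSimpleGroup G]
    (hG : ¬ IsMulCommutative G) (h : Nat.card G = 6204) : False := by
  have : Fact (Nat.Prime 47) := ⟨by norm_num⟩
  have hc : Nat.card G = 47 ^ 1 * 132 := by rw [h]; norm_num
  have hm : ¬ 47 ∣ 132 := by norm_num
  have hmem := card_sylow_mem_candidates hc hm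
  have hcand : sylowCandidates 47 132 = [1] := by decide
  rw [hcand] at hmem
  simp only [List.mem_cons, List.not_mem_nil, or_false] at hmem
  have hlt := one_lt_card_sylow_of_card hc hm (by norm_num) (by norm_num)
  have hd := hmem
  · omega

theorem no_6205 {G : Type*} [Group G] [Finite G] [IsSimpleGroup G]
    (hG : ¬ IsMulCommutative G) (h : Nat.card G = 6205) : False := by
  have : Fact (Nat.Prime 73) := ⟨by norm_num⟩
  have hc : Nat.card G = 73 ^ 1 * 85 := by rw [h]; norm_num
  have hm : ¬ 73 ∣ 85 := by norm_num
  have hmem := card_sylow_mem_candidates hc hm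
  have hcand : sylowCandidates 73 85 = [1] := by decide
  rw [hcand] at hmem
  simp only [List.mem_cons, List.not_mem_nil, or_false] at hmem
  have hlt := one_lt_card_sylow_of_card hc hm (by norm_num) (by norm_num)
  have hd := hmem
  · omega

theorem no_6206 {G : Type*} [Group G] [Finite G] [IsSimpleGroup G]
    (hG : ¬ IsMulCommutative G) (h : Nat.card G = 6206) : False := by
  exact ev hG (by rw [h]; exact ⟨3103, by norm_num⟩) (by rw [h]; omega)

theorem no_6207 {G : Type*} [Group G] [Finite G] [IsSimpleGroup G]
    (hG : ¬ IsMulCommutative G) (h : Nat.card G = 6207) : False := by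
  exact tp hG 3 2069 1 1 (by norm_num) (by norm_num) (by rw [h]; norm_num)

theorem no_6208 {G : Type*} [Group G] [Finite G] [IsSimpleGroup G]
    (hG : ¬ IsMulCommutative G) (h : Nat.card G = 6208) : False := by
  exact tp hG 2 97 6 1 (by norm_num) (by norm_num) (by rw [h]; norm_num)

theorem no_6209 {G : Type*} [Group G] [Finite G] [IsSimpleGroup G]
    (hG : ¬ IsMulCommutative G) (h : Nat.card G = 6209) : False := by
  exact tp hG 7 887 1 1 (by norm_num) (by norm_num) (by rw [h]; norm_num)

theorem no_6210 {G : Type*} [Group G] [Finite G] [IsSimpleGroup G]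
    (hG : ¬ IsMulCommutative G) (h : Nat.card G = 6210) : False := by
  exact ev hG (by rw [h]; exact ⟨3105, by norm_num⟩) (by rw [h]; omega)

theorem no_6211 {G : Type*} [Group G] [Finite G] [IsSimpleGroup G]
    (hG : ¬ IsMulCommutative G) (h : Nat.card G = 6211) : False := by
  exact tp hG 6211 2 1 0 (by norm_num) (by norm_num) (by rw [h]; norm_num)

theorem no_6212 {G : Type*} [Group G] [Finite G] [IsSimpleGroup G]
    (hG : ¬ IsMulCommutative G) (h : Nat.card G = 6212) : False := by
  exact tp hG 2 1553 2 1 (by norm_num) (by norm_num) (by rw [h]; norm_num)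

theorem no_6213 {G : Type*} [Group G] [Finite G] [IsSimpleGroup G]
    (hG : ¬ IsMulCommutative G) (h : Nat.card G = 6213) : False := by
  have : Fact (Nat.Prime 109) := ⟨by norm_num⟩
  have hc : Nat.card G = 109 ^ 1 * 57 := by rw [h]; norm_num
  have hm : ¬ 109 ∣ 57 := by norm_num
  have hmem := card_sylow_mem_candidates hc hm
  have hcand : sylowCandidates 109 57 = [1] := by decide
  rw [hcand] at hmem
  simp only [List.mem_cons, List.not_mem_nil, or_false] at hmem
  have hlt := one_lt_card_sylow_of_card hc hm (by norm_num) (by norm_num)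
  have hd := hmem
  · omega

theorem no_6214 {G : Type*} [Group G] [Finite G] [IsSimpleGroup G]
    (hG : ¬ IsMulCommutative G) (h : Nat.card G = 6214) : False := by
  exact ev hG (by rw [h]; exact ⟨3107, by norm_num⟩) (by rw [h]; omega)

theorem no_6215 {G : Type*} [Group G] [Finite G] [IsSimpleGroup G]
    (hG : ¬ IsMulCommutative G) (h : Nat.card G = 6215) : False := by
  have : Fact (Nat.Prime 113) := ⟨by norm_num⟩
  have hc : Nat.card G = 113 ^ 1 * 55 := by rw [h]; norm_num
  have hm : ¬ 113 ∣ 55 := by norm_num
  have hmem := card_sylow_mem_candidates hc hm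
  have hcand : sylowCandidates 113 55 = [1] := by decide
  rw [hcand] at hmem
  simp only [List.mem_cons, List.not_mem_nil, or_false] at hmem
  have hlt := one_lt_card_sylow_of_card hc hm (by norm_num) (by norm_num)
  have hd := hmem
  · omega

theorem no_6216 {G : Type*} [Group G] [Finite G] [IsSimpleGroup G]
    (hG : ¬ IsMulCommutative G) (h : Nat.card G = 6216) : False := by
  have : Fact (Nat.Prime 37) := ⟨by norm_num⟩
  have hc : Nat.card G = 37 ^ 1 * 168 := by rw [h]; norm_num
  have hm : ¬ 37 ∣ 168 := by norm_num
  have hmem := card_sylow_mem_candidates hc hm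
  have hcand : sylowCandidates 37 168 = [1] := by decide
  rw [hcand] at hmem
  simp only [List.mem_cons, List.not_mem_nil, or_false] at hmem
  have hlt := one_lt_card_sylow_of_card hc hm (by norm_num) (by norm_num)
  have hd := hmem
  · omega

theorem no_6217 {G : Type*} [Group G] [Finite G] [IsSimpleGroup G]
    (hG : ¬ IsMulCommutative G) (h : Nat.card G = 6217) : False := by
  exact tp hG 6217 2 1 0 (by norm_num) (by norm_num) (by rw [h]; norm_num)

theorem no_6218 {G : Type*} [Group G] [Finite G] [IsSimpleGroup G]
    (hG : ¬ IsMulCommutative G) (h : Nat.card G = 6218) : False := by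
  exact tp hG 2 3109 1 1 (by norm_num) (by norm_num) (by rw [h]; norm_num)

theorem no_6219 {G : Type*} [Group G] [Finite G] [IsSimpleGroup G]
    (hG : ¬ IsMulCommutative G) (h : Nat.card G = 6219) : False := by
  exact tp hG 3 691 2 1 (by norm_num) (by norm_num) (by rw [h]; norm_num)

theorem no_6220 {G : Type*} [Group G] [Finite G] [IsSimpleGroup G]
    (hG : ¬ IsMulCommutative G) (h : Nat.card G = 6220) : False := by
  exact ev hG (by rw [h]; exact ⟨3110, by norm_num⟩) (by rw [h]; omega)

theorem no_6221 {G : Type*} [Group G] [Finite G] [IsSimpleGroup G]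
    (hG : ¬ IsMulCommutative G) (h : Nat.card G = 6221) : False := by
  exact tp hG 6221 2 1 0 (by norm_num) (by norm_num) (by rw [h]; norm_num)

theorem no_6222 {G : Type*} [Group G] [Finite G] [IsSimpleGroup G]
    (hG : ¬ IsMulCommutative G) (h : Nat.card G = 6222) : False := by
  exact ev hG (by rw [h]; exact ⟨3111, by norm_num⟩) (by rw [h]; omega)

theorem no_6223 {G : Type*} [Group G] [Finite G] [IsSimpleGroup G]
    (hG : ¬ IsMulCommutative G) (h : Nat.card G = 6223) : False := by
  exact tp hG 7 127 2 1 (by norm_num) (by norm_num) (by rw [h]; norm_num)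

theorem no_6224 {G : Type*} [Group G] [Finite G] [IsSimpleGroup G]
    (hG : ¬ IsMulCommutative G) (h : Nat.card G = 6224) : False := by
  exact tp hG 2 389 4 1 (by norm_num) (by norm_num) (by rw [h]; norm_num)

theorem no_6225 {G : Type*} [Group G] [Finite G] [IsSimpleGroup G]
    (hG : ¬ IsMulCommutative G) (h : Nat.card G = 6225) : False := by
  have : Fact (Nat.Prime 83) := ⟨by norm_num⟩
  have hc : Nat.card G = 83 ^ 1 * 75 := by rw [h]; norm_num
  have hm : ¬ 83 ∣ 75 := by norm_num
  have hmem := card_sylow_mem_candidates hc hm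
  have hcand : sylowCandidates 83 75 = [1] := by decide
  rw [hcand] at hmem
  simp only [List.mem_cons, List.not_mem_nil, or_false] at hmem
  have hlt := one_lt_card_sylow_of_card hc hm (by norm_num) (by norm_num)
  have hd := hmem
  · omega

theorem no_6226 {G : Type*} [Group G] [Finite G] [IsSimpleGroup G]
    (hG : ¬ IsMulCommutative G) (h : Nat.card G = 6226) : False := by
  exact ev hG (by rw [h]; exact ⟨3113, by norm_num⟩) (by rw [h]; omega)

theorem no_6227 {G : Type*} [Group G] [Finite G] [IsSimpleGroup G]
    (hG : ¬ IsMulCommutative G) (h : Nat.card G = 6227) : False := by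
  exact tp hG 13 479 1 1 (by norm_num) (by norm_num) (by rw [h]; norm_num)

theorem no_6228 {G : Type*} [Group G] [Finite G] [IsSimpleGroup G]
    (hG : ¬ IsMulCommutative G) (h : Nat.card G = 6228) : False := by
  have : Fact (Nat.Prime 173) := ⟨by norm_num⟩
  have hc : Nat.card G = 173 ^ 1 * 36 := by rw [h]; norm_num
  have hm : ¬ 173 ∣ 36 := by norm_num
  have hmem := card_sylow_mem_candidates hc hm
  have hcand : sylowCandidates 173 36 = [1] := by decide
  rw [hcand] at hmem
  simp only [List.mem_cons, List.not_mem_nil, or_false] at hmem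
  have hlt := one_lt_card_sylow_of_card hc hm (by norm_num) (by norm_num)
  have hd := hmem
  · omega

theorem no_6229 {G : Type*} [Group G] [Finite G] [IsSimpleGroup G]
    (hG : ¬ IsMulCommutative G) (h : Nat.card G = 6229) : False := by
  exact tp hG 6229 2 1 0 (by norm_num) (by norm_num) (by rw [h]; norm_num)

theorem no_6230 {G : Type*} [Group G] [Finite G] [IsSimpleGroup G]
    (hG : ¬ IsMulCommutative G) (h : Nat.card G = 6230) : False := by
  exact ev hG (by rw [h]; exact ⟨3115, by norm_num⟩) (by rw [h]; omega)

theorem no_6231 {G : Type*} [Group G] [Finite G] [IsSimpleGroup G]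
    (hG : ¬ IsMulCommutative G) (h : Nat.card G = 6231) : False := by
  have : Fact (Nat.Prime 67) := ⟨by norm_num⟩
  have hc : Nat.card G = 67 ^ 1 * 93 := by rw [h]; norm_num
  have hm : ¬ 67 ∣ 93 := by norm_num
  have hmem := card_sylow_mem_candidates hc hm
  have hcand : sylowCandidates 67 93 = [1] := by decide
  rw [hcand] at hmem
  simp only [List.mem_cons, List.not_mem_nil, or_false] at hmem
  have hlt := one_lt_card_sylow_of_card hc hm (by norm_num) (by norm_num)
  have hd := hmem
  · omega

theorem no_6232 {G : Type*} [Group G] [Finite G] [IsSimpleGroup G]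
    (hG : ¬ IsMulCommutative G) (h : Nat.card G = 6232) : False := by
  exact ev hG (by rw [h]; exact ⟨3116, by norm_num⟩) (by rw [h]; omega)

/-- the orders in [6201, 6232] not excluded by the engine -/
theorem chunk {G : Type*} [Group G] [Finite G] [IsSimpleGroup G]
    (hG : ¬ IsMulCommutative G) (n : ℕ) (hn : Nat.card G = n) (h1 : 6201 ≤ n) (h2 : n ≤ 6232) :
    False := by
  interval_cases n
  · exact (no_6201 hG hn).elim
  · exact (no_6202 hG hn).elim
  · exact (no_6203 hG hn).elim
  · exact (no_6204 hG hn).elim
  · exact (no_6205 hG hn).elim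
  · exact (no_6206 hG hn).elim
  · exact (no_6207 hG hn).elim
  · exact (no_6208 hG hn).elim
  · exact (no_6209 hG hn).elim
  · exact (no_6210 hG hn).elim
  · exact (no_6211 hG hn).elim
  · exact (no_6212 hG hn).elim
  · exact (no_6213 hG hn).elim
  · exact (no_6214 hG hn).elim
  · exact (no_6215 hG hn).elim
  · exact (no_6216 hG hn).elim
  · exact (no_6217 hG hn).elim
  · exact (no_6218 hG hn).elim
  · exact (no_6219 hG hn).elim
  · exact (no_6220 hG hn).elim
  · exact (no_6221 hG hn).elim
  · exact (no_6222 hG hn).elim
  · exact (no_6223 hG hn).elim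
  · exact (no_6224 hG hn).elim
  · exact (no_6225 hG hn).elim
  · exact (no_6226 hG hn).elim
  · exact (no_6227 hG hn).elim
  · exact (no_6228 hG hn).elim
  · exact (no_6229 hG hn).elim
  · exact (no_6230 hG hn).elim
  · exact (no_6231 hG hn).elim
  · exact (no_6232 hG hn).elim

end Cfsg.Agent.Lib.Helper16_SO_E26
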