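import Mathlib
import Cfsg.Prelude.Def_Characters
import Cfsg.Prelude.Def_Blocks
import Cfsg.Prelude.Def_Perm
import Cfsg.Agent.Lib.Helper16_B43Defs
import Cfsg.Agent.Lib.Helper75_SelfCent
import Cfsg.Agent.Lib.Helper12_PerfectTools

/-!
# S0996 package RED0a (helper20, for helper16): the first reduction of Brauer 1943
-/

set_option autoImplicit false

namespace Cfsg.Agent.Lib.Helper20_B43_RED0a

open Cfsg Cfsg.Agent.Lib.Helper16_B43Defs Cfsg.Agent.Lib.Helper75_SelfCent
  Cfsg.Agent.Lib.Helper12_PerfectTools

/-- Burnside: in a perfect group a non-trivial Sylow subgroup is not central in its normalizer -/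
theorem not_normalizer_le_centralizer {G : Type*} [Group G] [Finite G] (hperf : commutator G = ⊤)
    {p : ℕ} [Fact p.Prime] (P : Sylow p G) (hP1 : 1 < Nat.card P)
    (hle : Subgroup.normalizer ((P : Subgroup G) : Set G) ≤
      Subgroup.centralizer ((P : Subgroup G) : Set G)) : False := by
  have hcompl := MonoidHom.ker_transferSylow_isComplement' P hle
  have hker : (MonoidHom.transferSylow P hle).ker = ⊤ := by
    rw [eq_top_iff]
    intro g _
    rw [MonoidHom.mem_ker]
    apply map_eq_one_of_perfect hperf
    intro a b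
    apply Subtype.ext
    have := (hle (Subgroup.le_normalizer (MonoidHom.transferSylow P hle b).2))
      (MonoidHom.transferSylow P hle a) (MonoidHom.transferSylow P hle a).2
    exact this
  rw [hker, Subgroup.isComplement'_top_left] at hcompl
  rw [hcompl, Subgroup.card_bot] at hP1
  omega

theorem exists_setting0 {G : Type*} [Group G] [Finite G] (hperf : commutator G = ⊤) (p : ℕ)
    [Fact p.Prime] (z : G) (hz : orderOf z = p)
    (hC : Subgroup.centralizer ({z} : Set G) = Subgroup.zpowers z)
    (hn : 2 * Nat.card (Sylow p G) < (p + 1) * (p + 2)) :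
    ∃ (P : Sylow p G) (e n : ℕ), Setting0 p e n P := by
  classical
  have hp : p.Prime := Fact.out
  obtain ⟨P, hP⟩ := exists_sylow_eq_zpowers hp hz hC
  have hPcard : Nat.card P = p := by
    show Nat.card (P : Subgroup G) = p
    rw [hP, Nat.card_zpowers, hz]
  have hCP : Subgroup.centralizer ((P : Subgroup G) : Set G) = (P : Subgroup G) := by
    rw [hP]; exact centralizer_zpowers hC
  have hzP : z ∈ (P : Subgroup G) := by rw [hP]; exact Subgroup.mem_zpowers z
  have hz1 : z ≠ 1 := x_ne_one hp hz
  have hPN : (P : Subgroup G) ≤ NP P := Subgroup.le_normalizer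
  -- Burnside
  have hB : ¬ (NP P ≤ Subgroup.centralizer ((P : Subgroup G) : Set G)) := by
    intro hle
    exact not_normalizer_le_centralizer hperf P (by rw [hPcard]; exact hp.one_lt) hle
  -- the order of `N`
  have hdvd : p ∣ Nat.card (NP P) := by
    have := Subgroup.card_dvd_of_le hPN
    rwa [hPcard] at this
  obtain ⟨e, he⟩ := hdvd
  -- the number of Sylow subgroups
  have hmod := card_sylow_modEq_one p G
  have hpos : 0 < Nat.card (Sylow p G) := Nat.card_pos
  obtain ⟨n, hn'⟩ : ∃ n, Nat.card (Sylow p G) = 1 + n * p := by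
    have h1 : p ∣ Nat.card (Sylow p G) - 1 := (Nat.modEq_iff_dvd' hpos).1 hmod.symm
    obtain ⟨n, hn'⟩ := h1
    exact ⟨n, by rw [mul_comm n p]; omega⟩
  -- `e ≥ 2`
  have he2 : 2 ≤ e := by
    by_contra hcon
    push Not at hcon
    apply hB
    have hNpos : 0 < Nat.card (NP P) := Nat.card_pos
    have he1 : e = 1 := by
      rcases Nat.eq_zero_or_pos e with h0 | h0
      · rw [h0, mul_zero] at he; omega
      · omega
    rw [he1, mul_one] at he
    have hNP : NP P = (P : Subgroup G) := by
      symm
      apply Subgroup.eq_of_le_of_card_ge hPN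
      rw [he]
      exact hPcard.ge
    rw [hCP]
    exact hNP.le
  -- `p ≠ 2`
  have hp2 : p ≠ 2 := by
    intro h2
    apply hB
    intro g hg
    rw [hCP]
    have h1 : g * z * g⁻¹ ∈ (P : Subgroup G) :=
      (Subgroup.mem_normalizer_iff.1 hg z).1 hzP
    rw [hP] at h1 ⊢
    have hfin : IsOfFinOrder z := isOfFinOrder_of_finite z
    have h3 := (hfin.mem_zpowers_iff_mem_range_orderOf).1 h1
    rw [Finset.mem_image] at h3
    obtain ⟨k, hk, hkz⟩ := h3
    rw [Finset.mem_range, hz, h2] at hk
    have hk' : k = 0 ∨ k = 1 := by omega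
    rcases hk' with rfl | rfl
    · exfalso
      apply hz1
      rw [pow_zero] at hkz
      have : g * z * g⁻¹ = 1 := hkz.symm
      rw [mul_inv_eq_one] at this
      exact mul_eq_left.1 this
    · rw [pow_one] at hkz
      rw [← hC, Subgroup.mem_centralizer_singleton_iff]
      have : g * z * g⁻¹ = z := hkz.symm
      rw [mul_inv_eq_iff_eq_mul] at this
      exact this
  -- `n ≥ 1`
  have hn1 : 1 ≤ n := by
    by_contra hcon
    push Not at hcon
    have hn0 : n = 0 := by omega
    rw [hn0, zero_mul, add_zero] at hn'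
    have hsub : Subsingleton (Sylow p G) := (Nat.card_eq_one_iff_unique.1 hn').1
    have hnorm : (P : Subgroup G).Normal := Sylow.normal_of_subsingleton P
    have hle : commutator G ≤ (P : Subgroup G) := commutator_le_of_mem hp hz hC (P : Subgroup G) hzP
    rw [hperf, hP] at hle
    -- `G` is abelian
    have hcomm : commutator G = ⊥ := by
      rw [commutator_def, Subgroup.commutator_eq_bot_iff_le_centralizer]
      intro a _
      rw [Subgroup.mem_centralizer_iff]
      intro b _
      obtain ⟨k, rfl⟩ := hle (Subgroup.mem_top a)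
      obtain ⟨l, rfl⟩ := hle (Subgroup.mem_top b)
      exact ((Commute.refl z).zpow_zpow l k).eq
    rw [hperf] at hcomm
    apply hz1
    have : z ∈ (⊥ : Subgroup G) := by rw [← hcomm]; trivial
    exact Subgroup.mem_bot.1 this
  -- `2 n ≤ p + 1`
  have hnp : 2 * n ≤ p + 1 := by
    rw [hn'] at hn
    have hodd : p % 2 = 1 := by
      rcases hp.eq_two_or_odd with h | h
      · exact absurd h hp2
      · exact h
    have h1 : 2 * n < p + 3 := by
      by_contra hcon
      push Not at hcon
      have : (p + 3) * p ≤ 2 * n * p := Nat.mul_le_mul_right p hcon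
      nlinarith
    omega
  exact ⟨P, e, n, ⟨hPcard, hCP, he, hn', he2, hn1, hnp, hperf⟩⟩

end Cfsg.Agent.Lib.Helper20_B43_RED0a
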