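import Mathlib
import Cfsg.Prelude.Def_Characters
import Cfsg.Prelude.Def_Blocks
import Cfsg.Prelude.Def_Perm
import Cfsg.Agent.Lib.Helper3_CharComplete
import Cfsg.Agent.Lib.Helper80_CharBasic
import Cfsg.Agent.Lib.Helper16_B43Defs
import Cfsg.Agent.Lib.Helper1_Transport
import Cfsg.Agent.Lib.Helper55_B43_LAGb

set_option autoImplicit false

/-!
# S0996 (Brauer 1943), package RED0b: `core_trivial`

In the setting `Setting0` every normal `p'`-subgroup `K` is trivial: `K ∩ N_G(P) = 1`, `|K| ≡ 1 (mod p)`,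
`1 + n p = |K| · |G : K N_G(P)|`, the second factor is `≡ 1 (mod p)` and not `1` (perfectness), and
`1 + n p < (p + 1)^2`.
-/

namespace Cfsg.Agent.Lib.Helper55_B43_RED0b

open Cfsg Cfsg.Agent.Lib.Helper16_B43Defs Cfsg.Agent.Lib.Helper3_CharComplete
  Cfsg.Agent.Lib.Helper80_CharBasic Cfsg.Agent.Lib.Helper1_Transport
  Cfsg.Agent.Lib.Helper55_B43_LAGb
open scoped ComplexConjugate Pointwise commutatorElement
open Subgroup MulAction

section general

variable {G : Type*} [Group G]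

/-- if `G = A K` with `K` normal and all commutators of elements of `A` lie in `B`, then
`G' ≤ B K` -/
theorem commutator_le_sup (K : Subgroup G) [K.Normal] (A B : Subgroup G) (htop : A ⊔ K = ⊤)
    (hAB : ∀ a₁ ∈ A, ∀ a₂ ∈ A, ⁅a₁, a₂⁆ ∈ B) : commutator G ≤ B ⊔ K := by
  rw [_root_.commutator_def, Subgroup.commutator_le]
  intro g₁ _ g₂ _
  have hdec : ∀ g : G, ∃ a ∈ A, ∃ k ∈ K, g = a * k := by
    intro g
    have hg : g ∈ ((A ⊔ K : Subgroup G) : Set G) := by rw [htop]; trivial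
    rw [Subgroup.mul_normal] at hg
    obtain ⟨a, ha, k, hk, rfl⟩ := Set.mem_mul.mp hg
    exact ⟨a, ha, k, hk, rfl⟩
  obtain ⟨a₁, ha₁, k₁, hk₁, rfl⟩ := hdec g₁
  obtain ⟨a₂, ha₂, k₂, hk₂, rfl⟩ := hdec g₂
  have hπ : ∀ a k : G, k ∈ K → (QuotientGroup.mk' K) (a * k) = (QuotientGroup.mk' K) a := by
    intro a k hk
    have hk1 : (QuotientGroup.mk' K) k = 1 := (QuotientGroup.eq_one_iff k).2 hk
    rw [map_mul, hk1, mul_one]
  have h1 : (QuotientGroup.mk' K) ⁅a₁ * k₁, a₂ * k₂⁆ = (QuotientGroup.mk' K) ⁅a₁, a₂⁆ := by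
    rw [map_commutatorElement, map_commutatorElement, hπ a₁ k₁ hk₁, hπ a₂ k₂ hk₂]
  have h2 : (⁅a₁, a₂⁆)⁻¹ * ⁅a₁ * k₁, a₂ * k₂⁆ ∈ K := by
    rw [← QuotientGroup.eq]
    exact h1.symm
  have e : ⁅a₁ * k₁, a₂ * k₂⁆ = ⁅a₁, a₂⁆ * ((⁅a₁, a₂⁆)⁻¹ * ⁅a₁ * k₁, a₂ * k₂⁆) := by group
  rw [e]
  exact Subgroup.mul_mem_sup (hAB a₁ ha₁ a₂ ha₂) h2

end general

section setting

variable {G : Type*} [Group G] [Finite G] {p e n : ℕ} [Fact p.Prime] {P : Sylow p G}

omit [Finite G] in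
theorem K_inf_P (S : Setting0 p e n P) (K : Subgroup G) (hpK : ¬ p ∣ Nat.card K) :
    K ⊓ (P : Subgroup G) = ⊥ := by
  apply Disjoint.eq_bot
  apply Subgroup.disjoint_of_coprime_natCard
  rw [S.hP]
  exact ((Nat.Prime.coprime_iff_not_dvd Fact.out).2 hpK).symm

omit [Finite G] in
theorem K_inf_N (S : Setting0 p e n P) (K : Subgroup G) (hK : K.Normal)
    (hpK : ¬ p ∣ Nat.card K) : K ⊓ NP P = ⊥ := by
  rw [eq_bot_iff]
  rintro k ⟨hkK, hkN⟩
  rw [Subgroup.mem_bot]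
  have hc : k ∈ Subgroup.centralizer ((P : Subgroup G) : Set G) := by
    rw [Subgroup.mem_centralizer_iff]
    intro x hx
    have h1 : k * x * k⁻¹ * x⁻¹ ∈ K := by
      have h := hK.conj_mem k⁻¹ (K.inv_mem hkK) x
      have e : k * x * k⁻¹ * x⁻¹ = k * (x * k⁻¹ * x⁻¹) := by group
      rw [e]
      exact K.mul_mem hkK h
    have h2 : k * x * k⁻¹ * x⁻¹ ∈ (P : Subgroup G) :=
      (P : Subgroup G).mul_mem (conj_mem_of_mem_NP P hkN hx) ((P : Subgroup G).inv_mem hx)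
    have h3 : k * x * k⁻¹ * x⁻¹ ∈ K ⊓ (P : Subgroup G) := ⟨h1, h2⟩
    rw [K_inf_P S K hpK, Subgroup.mem_bot] at h3
    have e2 : x * k = (k * x * k⁻¹ * x⁻¹)⁻¹ * (k * x) := by group
    rw [e2, h3, inv_one, one_mul]
  rw [S.hC] at hc
  have h4 : k ∈ K ⊓ (P : Subgroup G) := ⟨hkK, hc⟩
  rwa [K_inf_P S K hpK, Subgroup.mem_bot] at h4

theorem card_K_modEq (S : Setting0 p e n P) (K : Subgroup G) (hK : K.Normal)
    (hpK : ¬ p ∣ Nat.card K) : Nat.card K ≡ 1 [MOD p] := by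
  have := hK
  let _ : MulAction ↥(P : Subgroup G) ↥K :=
    MulAction.compHom K ((MulAut.conjNormal (H := K)).comp (P : Subgroup G).subtype)
  have h1 := IsPGroup.card_modEq_card_fixedPoints P.2 ↥K
  have h2 : MulAction.fixedPoints ↥(P : Subgroup G) ↥K = {1} := by
    ext k
    rw [MulAction.mem_fixedPoints, Set.mem_singleton_iff]
    constructor
    · intro h
      have hc : (k : G) ∈ Subgroup.centralizer ((P : Subgroup G) : Set G) := by
        rw [Subgroup.mem_centralizer_iff]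
        intro x hx
        have h3 := h ⟨x, hx⟩
        have h4 : (x : G) * (k : G) * (x : G)⁻¹ = (k : G) := congrArg Subtype.val h3
        calc x * (k : G) = x * (k : G) * x⁻¹ * x := by group
          _ = (k : G) * x := by rw [h4]
      rw [S.hC] at hc
      have h5 : (k : G) ∈ K ⊓ (P : Subgroup G) := ⟨k.2, hc⟩
      rw [K_inf_P S K hpK, Subgroup.mem_bot] at h5
      exact Subtype.ext h5
    · rintro rfl x
      apply Subtype.ext
      change (x : G) * ((1 : K) : G) * (x : G)⁻¹ = ((1 : K) : G)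
      simp
  rw [h2] at h1
  simpa using h1

omit [Finite G] in
/-- commutators of elements of `N_G(P)` lie in `P` (`Aut(P)` is abelian and `C_G(P) = P`) -/
theorem commutator_mem_P (S : Setting0 p e n P) {h₁ h₂ : G} (hh₁ : h₁ ∈ NP P) (hh₂ : h₂ ∈ NP P) :
    ⁅h₁, h₂⁆ ∈ (P : Subgroup G) := by
  have hcyc : IsCyclic (P : Subgroup G) := isCyclic_of_prime_card S.hP
  obtain ⟨⟨z, hzP⟩, hz⟩ := hcyc.exists_generator
  have hgen : ∀ y ∈ (P : Subgroup G), ∃ k : ℤ, z ^ k = y := by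
    intro y hy
    obtain ⟨k, hk⟩ := Subgroup.mem_zpowers_iff.mp (hz ⟨y, hy⟩)
    refine ⟨k, ?_⟩
    have := congrArg Subtype.val hk
    simpa using this
  -- the key: for u, v ∈ N, (u v) z (u v)⁻¹ = (v u) z (v u)⁻¹
  have key : ∀ u ∈ NP P, ∀ v ∈ NP P, (u * v) * z * (u * v)⁻¹ = (v * u) * z * (v * u)⁻¹ := by
    intro u hu v hv
    obtain ⟨a, ha⟩ := hgen _ (conj_mem_of_mem_NP P hu hzP)
    obtain ⟨b, hb⟩ := hgen _ (conj_mem_of_mem_NP P hv hzP)
    have h1 : (u * v) * z * (u * v)⁻¹ = z ^ (a * b) := by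
      calc (u * v) * z * (u * v)⁻¹ = u * (v * z * v⁻¹) * u⁻¹ := by group
        _ = u * z ^ b * u⁻¹ := by rw [hb]
        _ = (u * z * u⁻¹) ^ b := (conj_zpow).symm
        _ = z ^ (a * b) := by rw [← ha, zpow_mul]
    have h2 : (v * u) * z * (v * u)⁻¹ = z ^ (b * a) := by
      calc (v * u) * z * (v * u)⁻¹ = v * (u * z * u⁻¹) * v⁻¹ := by group
        _ = v * z ^ a * v⁻¹ := by rw [ha]
        _ = (v * z * v⁻¹) ^ a := (conj_zpow).symm
        _ = z ^ (b * a) := by rw [← hb, zpow_mul]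
    rw [h1, h2, mul_comm]
  have hk := key h₁⁻¹ ((NP P).inv_mem hh₁) h₂⁻¹ ((NP P).inv_mem hh₂)
  -- ⁅h₁, h₂⁆ commutes with z
  have hcz : ⁅h₁, h₂⁆ * z = z * ⁅h₁, h₂⁆ := by
    have e1 : ⁅h₁, h₂⁆ = (h₂⁻¹ * h₁⁻¹)⁻¹ * (h₁⁻¹ * h₂⁻¹) := by
      rw [commutatorElement_def]; group
    have h3 : (h₂⁻¹ * h₁⁻¹)⁻¹ * ((h₁⁻¹ * h₂⁻¹) * z * (h₁⁻¹ * h₂⁻¹)⁻¹) * (h₂⁻¹ * h₁⁻¹) = z := by
      rw [hk]; group
    calc ⁅h₁, h₂⁆ * z = ((h₂⁻¹ * h₁⁻¹)⁻¹ * ((h₁⁻¹ * h₂⁻¹) * z * (h₁⁻¹ * h₂⁻¹)⁻¹) * (h₂⁻¹ * h₁⁻¹)) *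
          ((h₂⁻¹ * h₁⁻¹)⁻¹ * (h₁⁻¹ * h₂⁻¹)) := by rw [e1]; group
      _ = z * ⁅h₁, h₂⁆ := by rw [h3, e1]
  have hc : ⁅h₁, h₂⁆ ∈ Subgroup.centralizer ((P : Subgroup G) : Set G) := by
    rw [Subgroup.mem_centralizer_iff]
    intro y hy
    obtain ⟨k, rfl⟩ := hgen y hy
    have hcm : Commute ⁅h₁, h₂⁆ z := hcz
    exact ((hcm.zpow_right k).eq).symm
  rwa [S.hC] at hc

/-- `G ≠ K N_G(P)` -/
theorem sup_ne_top (S : Setting0 p e n P) (K : Subgroup G) (hK : K.Normal)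
    (hpK : ¬ p ∣ Nat.card K) : NP P ⊔ K ≠ ⊤ := by
  have := hK
  intro htop
  have h1 : commutator G ≤ (P : Subgroup G) ⊔ K :=
    commutator_le_sup K (NP P) (P : Subgroup G) htop
      (fun a₁ ha₁ a₂ ha₂ => commutator_mem_P S ha₁ ha₂)
  rw [S.hperf, top_le_iff] at h1
  have h2 : commutator G ≤ (⊥ : Subgroup G) ⊔ K := by
    apply commutator_le_sup K (P : Subgroup G) ⊥ h1
    intro a₁ ha₁ a₂ ha₂
    rw [Subgroup.mem_bot, commutatorElement_eq_one_iff_commute]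
    have hcyc : IsCyclic (P : Subgroup G) := isCyclic_of_prime_card S.hP
    have h3 := mul_comm' (⟨a₁, ha₁⟩ : (P : Subgroup G)) ⟨a₂, ha₂⟩
    exact congrArg Subtype.val h3
  rw [S.hperf, bot_sup_eq, top_le_iff] at h2
  apply hpK
  rw [h2, Subgroup.card_top, card_G S, mul_assoc]
  exact Dvd.intro _ rfl

/-- every normal `p'`-subgroup is trivial -/
theorem core_trivial (S : Setting0 p e n P) (K : Subgroup G) (hK : K.Normal)
    (hpK : ¬ p ∣ Nat.card K) : K = ⊥ := by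
  have := hK
  have hpp : p.Prime := Fact.out
  obtain ⟨X, hX⟩ : ∃ X : Subgroup G, X = NP P ⊔ K := ⟨_, rfl⟩
  have hNX : NP P ≤ X := by rw [hX]; exact le_sup_left
  have hKX : K ≤ X := by rw [hX]; exact le_sup_right
  -- |X| = |N| |K|
  have hcardX : Nat.card X = Nat.card (NP P) * Nat.card K := by
    have h1 : K.relIndex X = Nat.card (NP P) := by
      rw [hX, relIndex_sup_right, ← inf_relIndex_right, K_inf_N S K hK hpK, relIndex_bot_left]
    have h2 := (K.subgroupOf X).card_mul_index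
    rw [card_subgroupOf hKX] at h2
    change Nat.card K * K.relIndex X = Nat.card X at h2
    rw [← h2, h1, mul_comm]
  have hrel : (NP P).relIndex X = Nat.card K := by
    have h2 := ((NP P).subgroupOf X).card_mul_index
    rw [card_subgroupOf hNX, hcardX] at h2
    have hpos : 0 < Nat.card (NP P) := Nat.card_pos
    exact Nat.eq_of_mul_eq_mul_left hpos h2
  have hprod : Nat.card K * X.index = 1 + n * p := by
    have h3 := relIndex_mul_index hNX
    rw [hrel] at h3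
    have h4 : Nat.card (Sylow p G) = (NP P).index := P.card_eq_index_normalizer
    rw [h3, ← h4, S.hn]
  have hm1 : X.index ≠ 1 := by
    intro h
    rw [Subgroup.index_eq_one, hX] at h
    exact sup_ne_top S K hK hpK h
  have hmpos : 0 < X.index := Nat.pos_of_ne_zero (Subgroup.index_ne_zero_of_finite)
  have hk1 := card_K_modEq S K hK hpK
  by_contra hKbot
  have hkgt : 1 < Nat.card K := by
    have h5 : Nat.card K ≠ 1 := by
      intro h
      exact hKbot ((Subgroup.card_eq_one).mp h)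
    have : 0 < Nat.card K := Nat.card_pos
    omega
  -- k = 1 + p j, m = 1 + p i
  obtain ⟨j, hj⟩ : ∃ j, Nat.card K = 1 + p * j := by
    have h6 : p ∣ Nat.card K - 1 := (Nat.modEq_iff_dvd' (le_of_lt hkgt)).mp hk1.symm
    obtain ⟨j, hj⟩ := h6
    exact ⟨j, by omega⟩
  have hm1' : X.index ≡ 1 [MOD p] := by
    have h7 : Nat.card K * X.index ≡ 1 * X.index [MOD p] := hk1.mul_right _
    rw [one_mul, hprod] at h7
    have h8 : 1 + n * p ≡ 1 [MOD p] := by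
      have h : 1 + n * p ≡ 1 + 0 [MOD p] :=
        Nat.ModEq.add_left 1 ((Nat.modEq_zero_iff_dvd).2 (Dvd.intro_left _ rfl))
      exact h
    exact h7.symm.trans h8
  obtain ⟨i, hi⟩ : ∃ i, X.index = 1 + p * i := by
    have h6 : p ∣ X.index - 1 := (Nat.modEq_iff_dvd' hmpos).mp hm1'.symm
    obtain ⟨i, hi⟩ := h6
    exact ⟨i, by omega⟩
  have hj1 : 1 ≤ j := by
    rcases Nat.eq_zero_or_pos j with h | h
    · rw [h] at hj; omega
    · exact h
  have hi1 : 1 ≤ i := by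
    rcases Nat.eq_zero_or_pos i with h | h
    · rw [h] at hi; omega
    · exact h
  rw [hj, hi] at hprod
  have hnp := S.hnp
  have hp2 : 2 ≤ p := hpp.two_le
  -- (1 + p j)(1 + p i) = 1 + n p gives i + j + p i j = n
  have h9 : p * (i + j + p * i * j) = p * n := by nlinarith [hprod]
  have h10 : i + j + p * i * j = n := Nat.eq_of_mul_eq_mul_left hpp.pos h9
  have h11 : p ≤ p * i * j := by
    calc p = p * 1 * 1 := by ring
      _ ≤ p * i * j := Nat.mul_le_mul (Nat.mul_le_mul le_rfl hi1) hj1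
  omega

end setting

end Cfsg.Agent.Lib.Helper55_B43_RED0b
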