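import Mathlib
import Cfsg.Prelude.Def_Characters
import Cfsg.Prelude.Def_Blocks
import Cfsg.Prelude.Def_Solvable

/-!
# Brauer's `F(p,u,h)` theorem (S4700): shared definitions (helper3)

`G` finite perfect, `P` a Sylow `p`-subgroup of order `p`, `1 + n p` Sylow `p`-subgroups.

* `FForm p n` : `n = (h u p + u² + u + h)/(u + 1)` for positive integers `h`, `u`
  (equivalently `(u + 1)(n - u) = h (u p + 1)`).
* `FData0 p e t n ι` : the abstract arithmetic data of the principal `p`-block (`ι` indexes the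
  irreducible characters): `e` non-exceptional characters `X` with signs `δ`, `t` exceptional ones
  `Y` with sign `ε`, degrees `deg`, multiplicities `m1 χ = ⟨χ|_P, 1_P⟩`, the degree equation `hrel`.
* `FData p e t n ι` : `FData0` together with the divisibility `deg χ ∣ e (1 + n p)` on `X ∪ Y`.
* `FData0.Shape` : the configuration left by the arithmetic when `n` is not of the form `F(p,u,h)`.
-/

set_option autoImplicit false

namespace Cfsg.Agent.Lib.Helper3_BFDefs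

open Cfsg

/-- `n = F(p, u, h) = (h u p + u² + u + h)/(u + 1)` for some positive integers `h`, `u`. -/
def FForm (p n : ℕ) : Prop :=
  ∃ h u : ℕ, 0 < h ∧ 0 < u ∧ n * (u + 1) = h * u * p + u ^ 2 + u + h

/-- The abstract arithmetic data of the principal block of a perfect group with a Sylow
`p`-subgroup of order `p`, `e = |N_G(P) : C_G(P)|`, `t = (p - 1)/e`, `1 + n p` Sylow `p`-subgroups
(without the divisibility of the degrees). -/
structure FData0 (p e t n : ℕ) (ι : Type*) where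
  X : Finset ι
  Y : Finset ι
  one : ι
  deg : ι → ℕ
  m1 : ι → ℕ
  δ : ι → ℤ
  ε : ℤ
  hdisj : Disjoint X Y
  hXcard : X.card = e
  hYcard : Y.card = t
  het : e * t = p - 1
  he2 : 2 ≤ e
  hn1 : 1 ≤ n
  hone : one ∈ X
  hδone : δ one = 1
  hdegone : deg one = 1
  hdeg1 : ∀ χ, deg χ = 1 → χ = one
  hδ : ∀ χ ∈ X, δ χ = 1 ∨ δ χ = -1
  hε : ε = 1 ∨ ε = -1
  hdegX : ∀ χ ∈ X, (deg χ : ℤ) = p * m1 χ - (p - 1) * δ χ
  hdegY : ∀ χ ∈ Y, (deg χ : ℤ) = p * m1 χ + ε * e
  hdegpos : ∀ χ, 0 < deg χ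
  hrel : ∀ θ ∈ Y, ∑ χ ∈ X, δ χ * (deg χ : ℤ) = ε * (deg θ : ℤ)

/-- `FData0` together with the divisibility of the degrees in the principal block. -/
structure FData (p e t n : ℕ) (ι : Type*) extends FData0 p e t n ι where
  hdvd : ∀ χ, χ ∈ X ∨ χ ∈ Y → deg χ ∣ e * (1 + n * p)

/-- The configuration left by the arithmetic when `n` is not of the form `F(p,u,h)`: the nontrivial
members of `X` have degree `1 + n p` (sign `+`, `m1 = n + 1`) or `p - 1` (sign `-`, `m1 = 0`), the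
exceptional degree is `e` (`ε = 1`, `m1 = 0`) or `a₀ p - e` with `n + 1 = t a₀` (`ε = -1`), and some
member of `X` has degree `p - 1`. -/
def FData0.Shape {p e t n : ℕ} {ι : Type*} (D : FData0 p e t n ι) : Prop :=
  (∀ χ ∈ D.X, χ ≠ D.one → (D.δ χ = 1 ∧ D.m1 χ = n + 1) ∨ (D.δ χ = -1 ∧ D.m1 χ = 0)) ∧
  ((D.ε = 1 ∧ ∀ θ ∈ D.Y, D.m1 θ = 0) ∨ (D.ε = -1 ∧ ∀ θ ∈ D.Y, n + 1 = t * D.m1 θ)) ∧
  ∃ χ ∈ D.X, D.δ χ = -1 ∧ D.m1 χ = 0

end Cfsg.Agent.Lib.Helper3_BFDefs
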