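import Mathlib
import Cfsg.Prelude.Def_Characters
import Cfsg.Prelude.Def_Blocks
import Cfsg.Prelude.Def_Solvable
import Cfsg.Prelude.Def_CaseTheorems
import Cfsg.Agent.Lib.Helper3_CharComplete
import Cfsg.Agent.Lib.Helper80_CharBasic
import Cfsg.Agent.Lib.Helper16_B43Defs
import Cfsg.Agent.Lib.Helper3_BFDefs
import Cfsg.Agent.Lib.Helper78_PartA
import Cfsg.Agent.Lib.Helper78_CentralChar

/-!
# S4700 package OUT (helper3's market): characters outside the principal block when `C_G(P) = P`

Also some shared facts on `pavg` used by the packages KER and DVD.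
-/

set_option autoImplicit false

namespace Cfsg.Agent.Lib.Helper32_BF_OUT

open Cfsg Cfsg.Agent.Lib.Helper3_BFDefs Cfsg.Agent.Lib.Helper16_B43Defs
  Cfsg.Agent.Lib.Helper80_CharBasic Cfsg.Agent.Lib.Helper3_CharComplete
open scoped ComplexConjugate

universe u

section grp

variable {G : Type u} [Group G]

/-- `pavg P f` as a sum over the elements of the group. -/
theorem pavg_eq_sum [Fintype G] {p : ℕ} (P : Sylow p G) (f : G → ℂ) :
    pavg P f = (Nat.card P : ℂ)⁻¹ *
      ∑ x : G, (by classical exact if x ∈ (P : Subgroup G) then f x else 0) := by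
  classical
  unfold pavg
  congr 1
  rw [finsum_eq_sum_of_fintype]
  rw [← Finset.sum_filter]
  refine Finset.sum_bij (fun (x : ↥(P : Subgroup G)) _ => (x : G)) ?_ ?_ ?_ ?_
  · intro x _
    simp
  · intro x _ y _ h
    exact Subtype.ext h
  · intro y hy
    rw [Finset.mem_filter] at hy
    exact ⟨⟨y, hy.2⟩, Finset.mem_univ _, rfl⟩
  · intro x _
    rfl

/-- The sum of `f` over `P` in terms of `pavg`. -/
theorem sum_eq_card_mul_pavg [Fintype G] {p : ℕ} [Fact p.Prime] (P : Sylow p G) (f : G → ℂ) :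
    ∑ x : G, (by classical exact if x ∈ (P : Subgroup G) then f x else 0)
      = (Nat.card P : ℂ) * pavg P f := by
  classical
  rw [pavg_eq_sum]
  have h0 : (Nat.card P : ℂ) ≠ 0 := by
    have : 0 < Nat.card P := Nat.card_pos
    exact_mod_cast this.ne'
  field_simp

/-- Splitting off the identity from the sum over `P`. -/
theorem sum_split_one [Fintype G] {p : ℕ} (P : Sylow p G) (f : G → ℂ) :
    ∑ x : G, (by classical exact if x ∈ (P : Subgroup G) then f x else 0)
      = f 1 + ∑ x : G, (by classical exact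
          if x ∈ (P : Subgroup G) ∧ x ≠ 1 then f x else 0) := by
  classical
  rw [← Finset.add_sum_erase Finset.univ _ (Finset.mem_univ (1 : G))]
  rw [if_pos (Subgroup.one_mem _)]
  congr 1
  rw [← Finset.add_sum_erase Finset.univ
    (fun x => if x ∈ (P : Subgroup G) ∧ x ≠ 1 then f x else 0) (Finset.mem_univ (1 : G))]
  rw [if_neg (by simp), zero_add]
  refine Finset.sum_congr rfl (fun x hx => ?_)
  have hx1 : x ≠ 1 := Finset.ne_of_mem_erase hx
  by_cases hxP : x ∈ (P : Subgroup G)
  · rw [if_pos hxP, if_pos ⟨hxP, hx1⟩]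
  · rw [if_neg hxP, if_neg (fun h => hxP h.1)]

/-- **PK-OUT**. -/
theorem deg_of_not_principal [Fintype G] {p : ℕ} [Fact p.Prime] (P : Sylow p G)
    (hP : Nat.card P = p)
    (hC : ∀ c ∈ Subgroup.centralizer ((P : Subgroup G) : Set G), c ∈ (P : Subgroup G))
    {M : Ideal AlgInt} (hM : IsPModular p M) (χ : IrrCharacter G) (hχ : χ ∉ principalBlock M G)
    (m : ℕ) (hm : (m : ℂ) = pavg P (χ : G → ℂ)) :
    charDegree (χ : G → ℂ) = p * m := by
  classical
  have hp : p.Prime := Fact.out
  have hloc := (Cfsg.Agent.Lib.Helper78_PartA.principal_local p M hM P hP ⊥ bot_le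
    (by simp) (fun c hc => ⟨c, hC c hc, 1, Subgroup.mem_bot.2 rfl, (mul_one c).symm⟩) χ).2 hχ
  -- `χ` vanishes on `P ∖ 1`
  have hvan : ∀ x ∈ (P : Subgroup G), x ≠ 1 → (χ : G → ℂ) x = 0 := by
    intro x hx hx1
    have h := hloc x hx hx1
    rw [Finset.sum_eq_single (1 : G)] at h
    · rw [if_pos (Subgroup.mem_bot.2 rfl), mul_one] at h
      exact h
    · intro v _ hv
      rw [if_neg]
      rw [Subgroup.mem_bot]
      exact hv
    · intro h1
      exact absurd (Finset.mem_univ _) h1
  have hsum := sum_eq_card_mul_pavg P (χ : G → ℂ)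
  rw [sum_split_one, hP, ← hm] at hsum
  have hzero : ∑ x : G, (if x ∈ (P : Subgroup G) ∧ x ≠ 1 then (χ : G → ℂ) x else 0) = 0 := by
    refine Finset.sum_eq_zero (fun x _ => ?_)
    split_ifs with h
    · exact hvan x h.1 h.2
    · rfl
  rw [hzero, add_zero] at hsum
  have h1 : (χ : G → ℂ) 1 = ((p * m : ℕ) : ℂ) := by
    rw [hsum]; push_cast; ring
  exact Cfsg.Agent.Lib.Helper78_CentralChar.charDegree_eq_of_one_eq_natCast h1

end grp

end Cfsg.Agent.Lib.Helper32_BF_OUT
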