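import Mathlib
import Cfsg.Prelude.Def_Characters
import Cfsg.Prelude.Def_Blocks
import Cfsg.Agent.Lib.Helper80_CharBasic
import Cfsg.Agent.Lib.Helper3_CharComplete

/-!
# Brauer-Reynolds (|G| < p^3): shared definitions (helper77)

`P` a Sylow `p`-subgroup of order `p` of the finite group `G`, `N = N_G(P)`, `C = C_G(P)`,
`q = |N : C|`.

* `PBData P` : the principal `p`-block at `P` in the shape of Brauer's theorem on blocks of defect
  one (conclusion of the landed S4441, as `Finset`s, together with `1_G ∈ X` and the vanishing of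
  the characters outside the block on `P \ 1` when `C_G(P) = P`).
* `LinData P` : the `q` linear characters `μ i` of `N` that are trivial on `P` (as functions on `G`;
  only their values on `N` matter) and the multiplicities `a i χ = ⟨χ|_N, μ i⟩`.
* `fixS g` : the number of Sylow `p`-subgroups normalized by `g`.
-/

set_option autoImplicit false

namespace Cfsg.Agent.Lib.Helper77_BRDefs

open Cfsg Cfsg.Agent.Lib.Helper80_CharBasic
open scoped ComplexConjugate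

universe u

variable {G : Type u} [Group G] [Fintype G] {p : ℕ}

/-- `N_G(P)`. -/
abbrev Nrm (P : Sylow p G) : Subgroup G := Subgroup.normalizer ((P : Subgroup G) : Set G)

/-- `C_G(P)`. -/
abbrev Cen (P : Sylow p G) : Subgroup G := Subgroup.centralizer ((P : Subgroup G) : Set G)

/-- `q = |N_G(P) : C_G(P)|`. -/
noncomputable def qq (P : Sylow p G) : ℕ := (Cen P).relIndex (Nrm P)

/-- The principal block at a Sylow subgroup of prime order (shape of S4441). `δ₀ = -ε` in the usual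
notation: `ε θ = ∑_{χ ∈ X} εX χ · χ` on `p`-regular elements. -/
structure PBData (P : Sylow p G) where
  X : Finset (IrrCharacter G)
  Y : Finset (IrrCharacter G)
  εX : IrrCharacter G → ℤ
  ε : ℤ
  hdisj : Disjoint X Y
  hXcard : X.card = qq P
  hYcard : Y.card * qq P = p - 1
  hεX : ∀ χ ∈ X, εX χ = 1 ∨ εX χ = -1
  hXdeg : ∀ χ ∈ X, (charDegree (χ : G → ℂ) : ℤ) ≡ εX χ [ZMOD p]
  hXval : ∀ χ ∈ X, ∀ x ∈ (P : Subgroup G), x ≠ 1 → ∀ y ∈ Cen P, ¬ p ∣ orderOf y →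
    (χ : G → ℂ) (x * y) = (εX χ : ℂ)
  hε : ε = 1 ∨ ε = -1
  hYdeg : ∀ θ ∈ Y, (charDegree (θ : G → ℂ) : ℤ) ≡ ε * (qq P : ℤ) [ZMOD p]
  hYreg : ∀ θ ∈ Y, ∀ θ' ∈ Y, ∀ g : G, ¬ p ∣ orderOf g → (θ : G → ℂ) g = (θ' : G → ℂ) g
  hrel : ∀ θ ∈ Y, ∀ g : G, ¬ p ∣ orderOf g →
    (ε : ℂ) * (θ : G → ℂ) g = ∑ χ ∈ X, (εX χ : ℂ) * (χ : G → ℂ) g
  hone : oneIrr G ∈ X
  hout : (∀ c ∈ Cen P, c ∈ (P : Subgroup G)) → ∀ χ : IrrCharacter G, χ ∉ X → χ ∉ Y →
    ∀ x ∈ (P : Subgroup G), x ≠ 1 → (χ : G → ℂ) x = 0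

/-- The linear characters of `N_G(P)` trivial on `P` and their multiplicities in the irreducible
characters of `G`. -/
structure LinData (P : Sylow p G) where
  ι : Type u
  fι : Fintype ι
  dι : DecidableEq ι
  one : ι
  μ : ι → G → ℂ
  a : ι → IrrCharacter G → ℕ
  hcard : Fintype.card ι = qq P
  hμ_mul : ∀ i, ∀ x ∈ Nrm P, ∀ y ∈ Nrm P, μ i (x * y) = μ i x * μ i y
  hμ_P : ∀ i, ∀ x ∈ (P : Subgroup G), μ i x = 1
  hμ_one : ∀ x ∈ Nrm P, μ one x = 1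
  hμ_inj : ∀ i j, (∀ x ∈ Nrm P, μ i x = μ j x) → i = j
  hμ_surj : ∀ f : ↥(Nrm P) →* ℂˣ, (∀ x : ↥(Nrm P), (x : G) ∈ (P : Subgroup G) → f x = 1) →
    ∃ i, ∀ x : ↥(Nrm P), μ i (x : G) = ((f x : ℂˣ) : ℂ)
  ha : ∀ i χ, (a i χ : ℂ) = (Nat.card (Nrm P) : ℂ)⁻¹ *
    ∑ᶠ x ∈ ((Nrm P : Subgroup G) : Set G), (χ : G → ℂ) x * conj (μ i x)

attribute [instance] LinData.fι LinData.dι

/-- The number of Sylow `p`-subgroups normalized by `g` (fixed points of `g` on `Syl_p(G)`). -/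
noncomputable def fixS (p : ℕ) (g : G) : ℕ :=
  Nat.card {Q : Sylow p G // g ∈ Subgroup.normalizer ((Q : Subgroup G) : Set G)}

open scoped Classical in
/-- The members of `X` of degree `p - 1`. -/
noncomputable def Bset {P : Sylow p G} (D : PBData P) : Finset (IrrCharacter G) :=
  D.X.filter (fun χ : IrrCharacter G => (χ : G → ℂ) 1 = (p : ℂ) - 1)

/-- `B = ∑ χ`, the sum of the members of `X` of degree `p - 1`. -/
noncomputable def Bfun {P : Sylow p G} (D : PBData P) (g : G) : ℂ :=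
  ∑ χ ∈ Bset D, (χ : G → ℂ) g

/-- The configuration left by the arithmetic when `n ≠ 1` (`C_G(P) = P`, `|Syl_p| = 1 + n p`,
`q (1 + n p) < p²`): `δ₀ = +1` (i.e. `ε = -1`), the exceptional degree is `p - q`,
`1 + n p = t (p - q)` with `t = |Y|`, the nontrivial members of `X` have degree `1 + n p`
(sign `+`) or `p - 1` (sign `-`), the permutation character on `Syl_p(G)` is
`1 + ∑_{ψ ∉ X ∪ Y} (ψ(1)/p) ψ`, and all but one nontrivial linear character `μ i` of `N_G(P)/P`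
induce irreducibly to a member of `X` of degree `1 + n p`. -/
structure Family (P : Sylow p G) (D : PBData P) (L : LinData P) (n : ℕ) : Prop where
  hε : D.ε = -1
  hYdeg : ∀ θ ∈ D.Y, (θ : G → ℂ) 1 = (p : ℂ) - (qq P : ℂ)
  hn : 1 + n * p = D.Y.card * (p - qq P)
  hX : ∀ χ ∈ D.X, χ ≠ oneIrr G →
    (((χ : G → ℂ) 1 = 1 + (n : ℂ) * (p : ℂ)) ∧ D.εX χ = 1) ∨
      (((χ : G → ℂ) 1 = (p : ℂ) - 1) ∧ D.εX χ = -1)
  hperm : ∀ g : G, (fixS p g : ℂ) =
    1 + ∑ ψ ∈ (Finset.univ \ (D.X ∪ D.Y) : Finset (IrrCharacter G)),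
      ((ψ : G → ℂ) 1 / (p : ℂ)) * (ψ : G → ℂ) g
  hcov : ∃ i₀ : L.ι, i₀ ≠ L.one ∧ ∀ i : L.ι, i ≠ L.one → i ≠ i₀ →
    ∃ χ ∈ D.X, (χ : G → ℂ) 1 = 1 + (n : ℂ) * (p : ℂ) ∧
      ∀ g : G, indFun (Nrm P) (fun x : ↥(Nrm P) => L.μ i (x : G)) g = (χ : G → ℂ) g

end Cfsg.Agent.Lib.Helper77_BRDefs
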