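import Mathlib
import Cfsg.Agent.Lib.Helper77_BRDefs
import Cfsg.Agent.Lib.Helper77_CentralInt
import Cfsg.Agent.Lib.Helper16_Char

/-!
# Helper61_BR_INT (package BR-INT of helper77, for S0999)

Integrality of the central character on the sum of all elements of order `p`:
for a Sylow `p`-subgroup `P` of order `p` and an irreducible character `χ`,
`χ(1) ∣ |Syl_p(G)| · ∑_{1 ≠ x ∈ P} χ(x)`.
-/

set_option autoImplicit false

namespace Cfsg.Agent.Lib.Helper61_BR_INT

open Cfsg Cfsg.Agent.Lib.Helper80_CharBasic Cfsg.Agent.Lib.Helper77_BRDefs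
  Cfsg.Agent.Lib.Helper16_Char Cfsg.Agent.Lib.Helper77_CentralInt
open scoped ComplexConjugate

universe u

variable {G : Type u} [Group G] [Fintype G] {p : ℕ} [hp : Fact p.Prime]

/-- The sum of `χ / χ(1)` over a conjugation-invariant set is an algebraic integer. -/
theorem isIntegral_sum_invariant [DecidableEq G] (χ : IrrCharacter G) :
    ∀ (n : ℕ) (T : Finset G), T.card = n → (∀ x ∈ T, ∀ g : G, g * x * g⁻¹ ∈ T) →
      IsIntegral ℤ (∑ x ∈ T, (χ : G → ℂ) x / (χ : G → ℂ) 1) := by
  intro n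
  induction n using Nat.strong_induction_on with
  | _ n ih =>
    intro T hT hinv
    rcases T.eq_empty_or_nonempty with rfl | ⟨x, hx⟩
    · simp [isIntegral_zero]
    · set C := Finset.univ.filter (fun k : G => IsConj x k) with hC
      have hCT : C ⊆ T := by
        intro k hk
        rw [hC, Finset.mem_filter] at hk
        obtain ⟨c, rfl⟩ := isConj_iff.mp hk.2
        exact hinv x hx c
      have hxC : x ∈ C := by
        rw [hC, Finset.mem_filter]; exact ⟨Finset.mem_univ _, IsConj.refl x⟩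
      rw [← Finset.sum_sdiff hCT]
      apply IsIntegral.add
      · refine ih (T \ C).card ?_ (T \ C) rfl ?_
        · rw [← hT]
          apply Finset.card_lt_card
          refine Finset.sdiff_ssubset hCT ⟨x, hxC⟩
        · intro y hy g
          rw [Finset.mem_sdiff] at hy ⊢
          refine ⟨hinv y hy.1 g, fun h => hy.2 ?_⟩
          rw [hC, Finset.mem_filter] at h ⊢
          refine ⟨Finset.mem_univ _, ?_⟩
          have h1 : IsConj y (g * y * g⁻¹) := isConj_iff.mpr ⟨g, rfl⟩
          exact h.2.trans h1.symm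
      · have : ∑ y ∈ C, (χ : G → ℂ) y / (χ : G → ℂ) 1 = centralChar (χ : G → ℂ) x := by
          rw [hC, Finset.sum_filter,
            sum_isConj_const x (fun y => (χ : G → ℂ) y / (χ : G → ℂ) 1)
              (by intro a c; rw [irr_conj])]
          unfold centralChar
          ring
        rw [this]
        exact isIntegral_centralChar _ χ.2 x

/-- An integer quotient which is an algebraic integer. -/
theorem dvd_of_isIntegral_int {a : ℤ} {d : ℕ} (hd : d ≠ 0) {α : ℂ} (hα : IsIntegral ℤ α)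
    (h : (a : ℂ) = (d : ℂ) * α) : (d : ℤ) ∣ a := by
  have hd' : (d : ℂ) ≠ 0 := by exact_mod_cast hd
  have h1 : α = algebraMap ℚ ℂ ((a : ℚ) / (d : ℚ)) := by
    rw [map_div₀]
    simp only [eq_ratCast, Rat.cast_intCast, Rat.cast_natCast]
    rw [h]; field_simp
  rw [h1] at hα
  have h2 : IsIntegral ℤ ((a : ℚ) / (d : ℚ)) :=
    (isIntegral_algebraMap_iff (algebraMap ℚ ℂ).injective).mp hα
  obtain ⟨y, hy⟩ := IsIntegrallyClosed.isIntegral_iff.mp h2
  have hdq : (d : ℚ) ≠ 0 := by exact_mod_cast hd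
  have h3 : (a : ℚ) = (y : ℚ) * (d : ℚ) := by
    rw [eq_div_iff hdq] at hy
    simpa using hy.symm
  have h4 : a = y * (d : ℤ) := by exact_mod_cast h3
  exact ⟨y, by rw [h4, mul_comm]⟩

omit [Fintype G] in
/-- Elements of a Sylow subgroup of order `p` other than `1` have order `p`. -/
theorem orderOf_eq_of_mem (Q : Sylow p G) (hQ : Nat.card Q = p) {x : G}
    (hx : x ∈ (Q : Subgroup G)) (hx1 : x ≠ 1) : orderOf x = p := by
  have h1 : orderOf x ∣ p := by
    have := Subgroup.orderOf_dvd_natCard (Q : Subgroup G) hx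
    rwa [hQ] at this
  rcases (Nat.dvd_prime hp.out).mp h1 with h | h
  · exact absurd (orderOf_eq_one_iff.mp h) hx1
  · exact h

/-- A Sylow subgroup of order `p` is generated by each of its nontrivial elements. -/
theorem eq_zpowers (Q : Sylow p G) (hQ : Nat.card Q = p) {x : G}
    (hx : x ∈ (Q : Subgroup G)) (hx1 : x ≠ 1) : (Q : Subgroup G) = Subgroup.zpowers x := by
  symm
  apply Subgroup.eq_of_le_of_card_ge
  · rwa [Subgroup.zpowers_le]
  · rw [Nat.card_zpowers, orderOf_eq_of_mem Q hQ hx hx1, hQ]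

theorem card_sylow_eq (P Q : Sylow p G) : Nat.card Q = Nat.card P := by
  obtain ⟨g, rfl⟩ := MulAction.exists_smul_eq G P Q
  rw [Sylow.smul_def]
  exact Nat.card_congr ((Subgroup.equivSMul (MulAut.conj g) (P : Subgroup G)).symm.toEquiv)

open scoped Classical in
/-- The sum over `Q \ 1` does not depend on the Sylow subgroup `Q`. -/
theorem sum_sylow_eq (P Q : Sylow p G) (χ : IrrCharacter G) :
    (∑ x : G, if x ∈ (Q : Subgroup G) ∧ x ≠ 1 then (χ : G → ℂ) x else 0) =
      ∑ x : G, if x ∈ (P : Subgroup G) ∧ x ≠ 1 then (χ : G → ℂ) x else 0 := by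
  obtain ⟨g, rfl⟩ := MulAction.exists_smul_eq G P Q
  refine (Fintype.sum_equiv (MulAut.conj g).toEquiv _ _ (fun y => ?_)).symm
  have h1 : (MulAut.conj g).toEquiv y = g * y * g⁻¹ := rfl
  rw [h1, irr_conj]
  have h2 : g * y * g⁻¹ ∈ ((g • P : Sylow p G) : Subgroup G) ↔ y ∈ (P : Subgroup G) := by
    rw [Sylow.coe_subgroup_smul]
    have : g * y * g⁻¹ = MulAut.conj g • y := rfl
    rw [this, Subgroup.smul_mem_pointwise_smul_iff]
  have h3 : g * y * g⁻¹ ≠ 1 ↔ y ≠ 1 := by
    rw [not_iff_not]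
    constructor
    · intro h
      have := congrArg (fun t => g⁻¹ * t * g) h
      simpa [mul_assoc] using this
    · rintro rfl; simp
  simp only [h2, h3]

open scoped Classical in
/-- **BR-INT**. -/
theorem INT (P : Sylow p G) (hP : Nat.card P = p) (χ : IrrCharacter G) (k : ℤ)
    (hk : ∑ᶠ x ∈ {x : G | x ∈ (P : Subgroup G) ∧ x ≠ 1}, (χ : G → ℂ) x = (k : ℂ)) :
    (charDegree (χ : G → ℂ) : ℤ) ∣ (Nat.card (Sylow p G) : ℤ) * k := by
  have := Fintype.ofFinite (Sylow p G)
  rw [finsum_mem_eq_sum_ite] at hk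
  obtain ⟨d, hd0, hd⟩ := irr_apply_one χ
  have hdeg : charDegree (χ : G → ℂ) = d := by
    unfold charDegree
    rw [hd]
    simp
  rw [hdeg]
  -- the set of elements of order `p`
  set T : Finset G := Finset.univ.filter (fun x : G => orderOf x = p) with hT
  have hTinv : ∀ x ∈ T, ∀ g : G, g * x * g⁻¹ ∈ T := by
    intro x hx g
    rw [hT, Finset.mem_filter] at hx ⊢
    refine ⟨Finset.mem_univ _, ?_⟩
    rw [← hx.2]
    exact orderOf_injective (MulAut.conj g).toMonoidHom (MulAut.conj g).injective x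
  have hint := isIntegral_sum_invariant χ T.card T rfl hTinv
  -- double counting
  have hcount : ∀ x : G, (∑ Q : Sylow p G, if x ∈ (Q : Subgroup G) ∧ x ≠ 1 then (1 : ℂ) else 0) =
      if orderOf x = p then 1 else 0 := by
    intro x
    split_ifs with hx
    · have hx1 : x ≠ 1 := by
        rintro rfl
        rw [orderOf_one] at hx
        exact hp.out.one_lt.ne hx
      have hpg : IsPGroup p (Subgroup.zpowers x) :=
        IsPGroup.of_card (n := 1) (by rw [Nat.card_zpowers, hx, pow_one])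
      obtain ⟨Q₀, hQ₀⟩ := hpg.exists_le_sylow
      have hxQ₀ : x ∈ (Q₀ : Subgroup G) := hQ₀ (Subgroup.mem_zpowers x)
      rw [Finset.sum_eq_single Q₀]
      · rw [if_pos ⟨hxQ₀, hx1⟩]
      · intro Q _ hQ
        rw [if_neg]
        rintro ⟨hxQ, -⟩
        apply hQ
        apply Sylow.ext
        rw [eq_zpowers Q ((card_sylow_eq P Q).trans hP) hxQ hx1,
          eq_zpowers Q₀ ((card_sylow_eq P Q₀).trans hP) hxQ₀ hx1]
      · intro h; exact absurd (Finset.mem_univ _) h
    · apply Finset.sum_eq_zero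
      intro Q _
      rw [if_neg]
      rintro ⟨hxQ, hx1⟩
      exact hx (orderOf_eq_of_mem Q ((card_sylow_eq P Q).trans hP) hxQ hx1)
  have hsumT : ∑ x ∈ T, (χ : G → ℂ) x = (Nat.card (Sylow p G) : ℂ) * (k : ℂ) := by
    have h1 : ∑ Q : Sylow p G, ∑ x : G,
        (if x ∈ (Q : Subgroup G) ∧ x ≠ 1 then (χ : G → ℂ) x else 0) =
        (Nat.card (Sylow p G) : ℂ) * (k : ℂ) := by
      rw [Finset.sum_congr rfl (fun Q _ => (sum_sylow_eq P Q χ).trans hk), Finset.sum_const,
        Finset.card_univ, nsmul_eq_mul, Nat.card_eq_fintype_card]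
    rw [← h1, Finset.sum_comm, hT, Finset.sum_filter]
    refine Finset.sum_congr rfl (fun x _ => ?_)
    have h2 : ∑ Q : Sylow p G, (if x ∈ (Q : Subgroup G) ∧ x ≠ 1 then (χ : G → ℂ) x else 0) =
        (χ : G → ℂ) x * ∑ Q : Sylow p G, (if x ∈ (Q : Subgroup G) ∧ x ≠ 1 then (1 : ℂ) else 0) := by
      rw [Finset.mul_sum]
      refine Finset.sum_congr rfl (fun Q _ => ?_)
      split_ifs <;> simp
    rw [h2, hcount x]
    split_ifs <;> simp
  have hd' : (d : ℂ) ≠ 0 := by exact_mod_cast hd0.ne'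
  refine dvd_of_isIntegral_int hd0.ne' hint ?_
  rw [← Finset.sum_div, hsumT, hd]
  push_cast
  field_simp

end Cfsg.Agent.Lib.Helper61_BR_INT
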