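import Mathlib
import Cfsg.Prelude.Def_Characters
import Cfsg.Prelude.Def_Blocks
import Cfsg.Prelude.Def_Solvable
import Cfsg.Prelude.Def_CaseTheorems
import Cfsg.Agent.Lib.Helper3_CharComplete
import Cfsg.Agent.Lib.Helper80_CharBasic
import Cfsg.Agent.Lib.Helper16_B43Defs
import Cfsg.Agent.Lib.Helper3_BFDefs
import Cfsg.Agent.Lib.Helper61_BR_INT
import Cfsg.Agent.Lib.Helper78_CentralChar
import Cfsg.Agent.Lib.Helper76_GalConj
import Cfsg.Agent.Lib.Helper32_BF_OUT

/-!
# S4700 package DVD (helper3's market): the degrees in the principal block divide `e (1 + n p)`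
-/

set_option autoImplicit false

namespace Cfsg.Agent.Lib.Helper32_BF_DVD

open Cfsg Cfsg.Agent.Lib.Helper3_BFDefs Cfsg.Agent.Lib.Helper16_B43Defs
  Cfsg.Agent.Lib.Helper80_CharBasic Cfsg.Agent.Lib.Helper3_CharComplete
open scoped ComplexConjugate

universe u

section grp

variable {G : Type u} [Group G]

/-- The index of `C_G(P)` is `e (1 + n p)`. -/
theorem index_centralizer [Finite G] {p : ℕ} [Fact p.Prime] (P : Sylow p G)
    (n : ℕ) (hn : Nat.card (Sylow p G) = 1 + n * p) (e : ℕ)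
    (he : (Subgroup.centralizer ((P : Subgroup G) : Set G)).relIndex (NP P) = e) :
    (Subgroup.centralizer ((P : Subgroup G) : Set G)).index = e * (1 + n * p) := by
  have h1 := Subgroup.relIndex_mul_index
    (Subgroup.centralizer_le_normalizer ((P : Subgroup G) : Set G))
  have h2 : Nat.card (Sylow p G) = (NP P).index := P.card_eq_index_normalizer
  rw [← h1, ← hn, h2]
  show _ * (NP P).index = _
  rw [he]

/-- A nontrivial element of a Sylow subgroup of prime order has the same centralizer. -/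
theorem centralizer_singleton_eq [Finite G] {p : ℕ} [Fact p.Prime] (P : Sylow p G)
    (hP : Nat.card P = p) {x : G} (hx : x ∈ (P : Subgroup G)) (hx1 : x ≠ 1) :
    Subgroup.centralizer ({x} : Set G) = Subgroup.centralizer ((P : Subgroup G) : Set G) := by
  have := Fintype.ofFinite G
  have hz := Cfsg.Agent.Lib.Helper61_BR_INT.eq_zpowers P hP hx hx1
  apply le_antisymm
  · intro c hc
    rw [Subgroup.mem_centralizer_iff] at hc ⊢
    intro y hy
    have hy' : y ∈ Subgroup.zpowers x := by rw [← hz]; exact hy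
    obtain ⟨k, rfl⟩ := Subgroup.mem_zpowers_iff.1 hy'
    have hcx : Commute x c := hc x (Set.mem_singleton x)
    exact (hcx.zpow_left k).eq
  · exact Subgroup.centralizer_le (Set.singleton_subset_iff.2 hx)

/-- A Sylow subgroup of prime order has a nontrivial element. -/
theorem exists_ne_one {p : ℕ} [Fact p.Prime] (P : Sylow p G) (hP : Nat.card P = p) :
    ∃ x ∈ (P : Subgroup G), x ≠ 1 := by
  have hp : p.Prime := Fact.out
  by_contra hcon
  push Not at hcon
  have hbot : (P : Subgroup G) = ⊥ := by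
    rw [eq_bot_iff]
    intro x hx
    rw [Subgroup.mem_bot]
    exact hcon x hx
  have : Nat.card (P : Subgroup G) = 1 := by rw [hbot]; simp
  have h2 : Nat.card P = 1 := this
  rw [hP] at h2
  exact hp.one_lt.ne' h2

/-- **PK-DVD**, first part. -/
theorem dvd_X [Fintype G] {p : ℕ} [Fact p.Prime] (P : Sylow p G) (hP : Nat.card P = p)
    (n : ℕ) (hn : Nat.card (Sylow p G) = 1 + n * p) (e : ℕ)
    (he : (Subgroup.centralizer ((P : Subgroup G) : Set G)).relIndex (NP P) = e)
    (χ : IrrCharacter G) (δ : ℤ) (hδ : δ = 1 ∨ δ = -1)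
    (hval : ∀ x ∈ (P : Subgroup G), x ≠ 1 → (χ : G → ℂ) x = (δ : ℂ)) :
    charDegree (χ : G → ℂ) ∣ e * (1 + n * p) := by
  obtain ⟨x, hx, hx1⟩ := exists_ne_one P hP
  have hint := Cfsg.Agent.Lib.Helper78_CentralChar.isIntegral_centralChar_of_isIrrCharacter χ.2 x
  have hd0 : charDegree (χ : G → ℂ) ≠ 0 := (Cfsg.Agent.Lib.Helper76_GalConj.charDegree_pos χ).ne'
  have hχ1 := Cfsg.Agent.Lib.Helper76_GalConj.irr_one_eq_charDegree χ
  have hidx : (Subgroup.centralizer ({x} : Set G)).index = e * (1 + n * p) := by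
    rw [centralizer_singleton_eq P hP hx hx1]
    exact index_centralizer P n hn e he
  have hd0' : (charDegree (χ : G → ℂ) : ℂ) ≠ 0 := by exact_mod_cast hd0
  have hkey : (((e * (1 + n * p) : ℕ) : ℤ) * δ : ℤ) ∣ ((e * (1 + n * p) : ℕ) : ℤ) := by
    rcases hδ with h | h
    · rw [h, mul_one]
    · rw [h]; exact ⟨-1, by ring⟩
  have h1 : ((charDegree (χ : G → ℂ) : ℕ) : ℤ) ∣ ((e * (1 + n * p) : ℕ) : ℤ) * δ := by
    refine Cfsg.Agent.Lib.Helper61_BR_INT.dvd_of_isIntegral_int hd0 hint ?_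
    unfold centralChar
    rw [hidx, hval x hx hx1, hχ1]
    push_cast
    field_simp
  have h2 : ((charDegree (χ : G → ℂ) : ℕ) : ℤ) ∣ ((e * (1 + n * p) : ℕ) : ℤ) := by
    rcases hδ with h | h
    · rw [h, mul_one] at h1; exact h1
    · rw [h] at h1
      have := (dvd_neg (α := ℤ)).2 h1
      have h3 : -(((e * (1 + n * p) : ℕ) : ℤ) * -1) = ((e * (1 + n * p) : ℕ) : ℤ) := by ring
      rw [h3] at this
      exact this
  exact_mod_cast h2

/-- **PK-DVD**, second part. -/
theorem dvd_Y [Fintype G] {p : ℕ} [Fact p.Prime] (P : Sylow p G) (hP : Nat.card P = p)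
    (n : ℕ) (hn : Nat.card (Sylow p G) = 1 + n * p) (e : ℕ)
    (θ : IrrCharacter G) (ε : ℤ) (hε : ε = 1 ∨ ε = -1) (m : ℕ)
    (hm : (m : ℂ) = pavg P (θ : G → ℂ))
    (hdeg : (charDegree (θ : G → ℂ) : ℤ) = p * m + ε * e) :
    charDegree (θ : G → ℂ) ∣ e * (1 + n * p) := by
  classical
  have hθ1 := Cfsg.Agent.Lib.Helper76_GalConj.irr_one_eq_charDegree θ
  have hsum := Cfsg.Agent.Lib.Helper32_BF_OUT.sum_eq_card_mul_pavg P (θ : G → ℂ)
  rw [Cfsg.Agent.Lib.Helper32_BF_OUT.sum_split_one, hP, ← hm] at hsum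
  -- the sum over `P ∖ 1`
  have hk : ∑ᶠ x ∈ {x : G | x ∈ (P : Subgroup G) ∧ x ≠ 1}, (θ : G → ℂ) x
      = ((-(ε * e) : ℤ) : ℂ) := by
    rw [Cfsg.Agent.Lib.Helper16_Char.finsum_mem_eq_sum_ite]
    have h2 : (θ : G → ℂ) 1 = (((p * m + ε * e : ℤ)) : ℂ) := by
      rw [hθ1, ← hdeg]; push_cast; rfl
    rw [h2] at hsum
    push_cast at hsum ⊢
    linear_combination hsum
  have hINT := Cfsg.Agent.Lib.Helper61_BR_INT.INT P hP θ (-(ε * e)) hk
  rw [hn] at hINT
  have h2 : ((charDegree (θ : G → ℂ) : ℕ) : ℤ) ∣ ((e * (1 + n * p) : ℕ) : ℤ) := by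
    rcases hε with h | h
    · rw [h] at hINT
      have := (dvd_neg (α := ℤ)).2 hINT
      have h3 : -(((1 + n * p : ℕ) : ℤ) * -(1 * (e : ℤ))) = ((e * (1 + n * p) : ℕ) : ℤ) := by
        push_cast; ring
      rw [h3] at this
      exact this
    · rw [h] at hINT
      have h3 : (((1 + n * p : ℕ) : ℤ) * -(-1 * (e : ℤ))) = ((e * (1 + n * p) : ℕ) : ℤ) := by
        push_cast; ring
      rw [h3] at hINT
      exact hINT
  exact_mod_cast h2

end grp

end Cfsg.Agent.Lib.Helper32_BF_DVD
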