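import Mathlib
import Cfsg.Agent.Lib.Helper3_BFDefs

/-!
# Brauer–Tuan arithmetic for groups of order `p r q^b` (helper53, for S0998)

Pure arithmetic on the abstract data `FData p e t n ι` of the principal `p`-block (helper3's
`Helper3_BFDefs`) when all degrees divide `r q^b` with `r` a prime, `r + 1 < p`.
-/

set_option autoImplicit false

namespace Cfsg.Agent.Lib.Helper53_BT_Arith

open Cfsg.Agent.Lib.Helper3_BFDefs

/-- a divisor of `r q^b` prime to `q` is `1` or `r` -/
theorem dvd_cases {q r b d : ℕ} (hq : q.Prime) (hr : r.Prime) (hd : d ∣ r * q ^ b)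
    (hqd : ¬ q ∣ d) : d = 1 ∨ d = r := by
  have hcop : Nat.Coprime d (q ^ b) := by
    apply Nat.Coprime.pow_right
    exact (Nat.Coprime.symm ((Nat.Prime.coprime_iff_not_dvd hq).mpr hqd))
  have h : d ∣ r := hcop.dvd_of_dvd_mul_right hd
  exact (Nat.dvd_prime hr).mp h

/-- The first step: the exceptional degree is `r`, and every non-trivial non-exceptional degree is
divisible by `q`. -/
theorem exceptional_degree {p e t n : ℕ} {ι : Type*} [DecidableEq ι]
    (D : FData p e t n ι) (q r b : ℕ) (hq : q.Prime) (hr : r.Prime)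
    (hK : e * (1 + n * p) ∣ r * q ^ b) (hrp : r + 1 < p) :
    (∀ χ ∈ D.X, χ ≠ D.one → q ∣ D.deg χ) ∧
      ∀ θ ∈ D.Y, D.deg θ = r ∧ ((D.ε = 1 ∧ r = e) ∨ (D.ε = -1 ∧ r + e = p)) := by
  have hr2 : 2 ≤ r := hr.two_le
  have hdvd : ∀ χ, χ ∈ D.X ∨ χ ∈ D.Y → D.deg χ ∣ r * q ^ b := fun χ h =>
    (D.hdvd χ h).trans hK
  -- the non-exceptional degrees
  have hX : ∀ χ ∈ D.X, χ ≠ D.one → q ∣ D.deg χ := by
    intro χ hχ hne
    by_contra hq'
    rcases dvd_cases hq hr (hdvd χ (Or.inl hχ)) hq' with h1 | h1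
    · exact hne (D.hdeg1 χ h1)
    · have h := D.hdegX χ hχ
      rw [h1] at h
      rcases D.hδ χ hχ with hδ | hδ
      · rw [hδ] at h
        rcases Nat.lt_or_ge (D.m1 χ) 2 with hm | hm
        · interval_cases (D.m1 χ)
          · push_cast at h; omega
          · push_cast at h; omega
        · have : (p : ℤ) * 2 ≤ (p : ℤ) * (D.m1 χ : ℤ) := by
            apply mul_le_mul_of_nonneg_left _ (by positivity)
            exact_mod_cast hm
          omega
      · rw [hδ] at h
        have : (0 : ℤ) ≤ (p : ℤ) * (D.m1 χ : ℤ) := by positivity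
        omega
  refine ⟨hX, ?_⟩
  intro θ hθ
  -- `q` does not divide the exceptional degree
  have hqθ : ¬ q ∣ D.deg θ := by
    intro hqd
    have hrel := D.hrel θ hθ
    rw [← Finset.add_sum_erase D.X _ D.hone, D.hδone, D.hdegone] at hrel
    have h1 : (q : ℤ) ∣ ∑ χ ∈ D.X.erase D.one, D.δ χ * (D.deg χ : ℤ) := by
      apply Finset.dvd_sum
      intro χ hχ
      have hχ' := Finset.mem_erase.mp hχ
      apply Dvd.dvd.mul_left
      exact_mod_cast hX χ hχ'.2 hχ'.1
    have h2 : (q : ℤ) ∣ D.ε * (D.deg θ : ℤ) := by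
      apply Dvd.dvd.mul_left
      exact_mod_cast hqd
    have h3 : (q : ℤ) ∣ 1 := by
      have : (1 : ℤ) = D.ε * (D.deg θ : ℤ) - ∑ χ ∈ D.X.erase D.one, D.δ χ * (D.deg χ : ℤ) := by
        rw [← hrel]; push_cast; ring
      rw [this]
      exact dvd_sub h2 h1
    have h4 : q ∣ 1 := by exact_mod_cast h3
    exact hq.one_lt.ne' (Nat.dvd_one.mp h4)
  have hdeg : D.deg θ = r := by
    rcases dvd_cases hq hr (hdvd θ (Or.inr hθ)) hqθ with h1 | h1
    · exfalso
      have := D.hdeg1 θ h1
      rw [this] at hθ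
      exact (Finset.disjoint_left.mp D.hdisj D.hone) hθ
    · exact h1
  refine ⟨hdeg, ?_⟩
  have h := D.hdegY θ hθ
  rw [hdeg] at h
  have he1 : e ≤ p - 1 := by
    have := D.het
    have ht : 1 ≤ t := by
      rcases Nat.eq_zero_or_pos t with h0 | h0
      · rw [h0] at this; omega
      · exact h0
    nlinarith
  rcases D.hε with hε | hε
  · left
    refine ⟨hε, ?_⟩
    rw [hε] at h
    rcases Nat.eq_zero_or_pos (D.m1 θ) with hm | hm
    · rw [hm] at h; push_cast at h; omega
    · exfalso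
      have : (p : ℤ) * 1 ≤ (p : ℤ) * (D.m1 θ : ℤ) := by
        apply mul_le_mul_of_nonneg_left _ (by positivity)
        exact_mod_cast hm
      omega
  · right
    refine ⟨hε, ?_⟩
    rw [hε] at h
    rcases Nat.lt_or_ge (D.m1 θ) 2 with hm | hm
    · interval_cases (D.m1 θ)
      · push_cast at h; omega
      · push_cast at h; omega
    · exfalso
      have : (p : ℤ) * 2 ≤ (p : ℤ) * (D.m1 θ : ℤ) := by
        apply mul_le_mul_of_nonneg_left _ (by positivity)
        exact_mod_cast hm
      omega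


/-- `3 ∣ 2^k + 1` for odd `k` -/
theorem three_dvd_two_pow_add_one {k : ℕ} (hk : Odd k) : 3 ∣ 2 ^ k + 1 := by
  have := Odd.nat_add_dvd_pow_add_pow 2 1 hk
  simpa using this

/-- `3 ∣ 2^k - 1` for even `k` -/
theorem three_dvd_two_pow_sub_one {k : ℕ} (hk : Even k) : 3 ∣ 2 ^ k - 1 := by
  obtain ⟨j, rfl⟩ := hk
  have h : (2 : ℕ) ^ (j + j) = 4 ^ j := by
    rw [← two_mul, pow_mul]; norm_num
  rw [h]
  have : (4 : ℕ) ^ j ≡ 1 [MOD 3] := by
    have h4 : (4 : ℕ) ≡ 1 [MOD 3] := by decide
    simpa using h4.pow j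
  exact (Nat.modEq_iff_dvd' (Nat.one_le_pow _ _ (by norm_num))).mp this.symm

/-- a prime divisible by `3` is `3` -/
theorem eq_three_of_three_dvd {r : ℕ} (hr : r.Prime) (h : 3 ∣ r) : r = 3 :=
  ((Nat.prime_dvd_prime_iff_eq Nat.prime_three hr).mp h).symm

/-- The case `ε = -1`, exceptional degree `r = p - e`: impossible unless `r = 3`. -/
theorem caseB {p e t n : ℕ} {ι : Type*} [DecidableEq ι] (hp : p.Prime)
    (D : FData p e t n ι) (q r b : ℕ) (hq : q.Prime) (hr : r.Prime)
    (hK : e * (1 + n * p) ∣ r * q ^ b) (hrp : r + 1 < p) (hε : D.ε = -1) (hre : r + e = p)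
    (hr3 : r ≠ 3) (hX : ∀ χ ∈ D.X, χ ≠ D.one → q ∣ D.deg χ)
    (hY : ∀ θ ∈ D.Y, D.deg θ = r) : False := by
  have hr2 : 2 ≤ r := hr.two_le
  have het := D.het
  have he2 := D.he2
  have hp3 : p ≠ 3 := by omega
  have ht1 : 1 ≤ t := by
    rcases Nat.eq_zero_or_pos t with h0 | h0
    · rw [h0] at het; omega
    · exact h0
  -- an exceptional character
  have hYne : D.Y.Nonempty := by
    rw [← Finset.card_pos, D.hYcard]; exact ht1
  obtain ⟨θ, hθ⟩ := hYne
  have hdvd : ∀ χ, χ ∈ D.X ∨ χ ∈ D.Y → D.deg χ ∣ r * q ^ b := fun χ h =>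
    (D.hdvd χ h).trans hK
  -- `e` is a power of `q`
  have heK : e ∣ r * q ^ b := (Dvd.intro _ rfl).trans hK
  have hcop : Nat.Coprime e r := by
    apply Nat.Coprime.symm
    rw [Nat.Prime.coprime_iff_not_dvd hr]
    intro h
    have h2 : r ∣ p := by rw [← hre]; exact Dvd.dvd.add (dvd_refl r) h
    rcases (Nat.dvd_prime hp).mp h2 with h3 | h3 <;> omega
  have heq : e ∣ q ^ b := hcop.dvd_of_dvd_mul_left heK
  obtain ⟨s, -, hes⟩ := (Nat.dvd_prime_pow hq).mp heq
  have hs : s ≠ 0 := by
    rintro rfl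
    rw [pow_zero] at hes; omega
  have hqe : q ∣ e := by rw [hes]; exact dvd_pow_self q hs
  -- the relation
  have hrel := D.hrel θ hθ
  rw [← Finset.add_sum_erase D.X _ D.hone, D.hδone, D.hdegone, hε, hY θ hθ] at hrel
  rw [Nat.cast_one, one_mul] at hrel
  -- a common divisor of the degrees divides `r + 1`
  have hdiv : ∀ m : ℕ, (∀ χ ∈ D.X, χ ≠ D.one → m ∣ D.deg χ) → m ∣ r + 1 := by
    intro m hm
    have h1 : (m : ℤ) ∣ ∑ χ ∈ D.X.erase D.one, D.δ χ * (D.deg χ : ℤ) := by
      apply Finset.dvd_sum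
      intro χ hχ
      have hχ' := Finset.mem_erase.mp hχ
      apply Dvd.dvd.mul_left
      exact_mod_cast hm χ hχ'.2 hχ'.1
    have h2 : (m : ℤ) ∣ ((r + 1 : ℕ) : ℤ) := by
      have : ((r + 1 : ℕ) : ℤ) = - ∑ χ ∈ D.X.erase D.one, D.δ χ * (D.deg χ : ℤ) := by
        push_cast; linarith
      rw [this]
      exact (dvd_neg).mpr h1
    exact_mod_cast h2
  have hqr1 : q ∣ r + 1 := hdiv q hX
  have hep : e ∣ p - 1 := Dvd.intro _ het
  -- `q = 2`
  have hq2 : q = 2 := by
    have h1 : q ∣ p - 1 := hqe.trans hep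
    have h2 : q ∣ (r + 1) + e := Dvd.dvd.add hqr1 hqe
    have h3 : (r + 1) + e = (p - 1) + 2 := by omega
    rw [h3] at h2
    have h4 : q ∣ 2 := (Nat.dvd_add_right h1).mp h2
    exact (Nat.prime_dvd_prime_iff_eq hq Nat.prime_two).mp h4
  subst hq2
  have hrodd : ¬ 2 ∣ r := by
    intro h
    have h2 : 2 ∣ p := by rw [← hre]; exact Dvd.dvd.add h hqe
    rcases (Nat.dvd_prime hp).mp h2 with h3 | h3 <;> omega
  -- `t ≥ 2`
  have ht2 : 2 ≤ t := by
    rcases Nat.lt_or_ge t 2 with h | h
    · have : t = 1 := by omega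
      rw [this] at het; omega
    · exact h
  rcases Nat.lt_or_ge t 3 with ht | ht3
  · -- `t = 2`
    have ht : t = 2 := by omega
    rw [ht] at het
    have hr' : r = 2 ^ s + 1 := by omega
    have hp' : p = 2 ^ (s + 1) + 1 := by rw [pow_succ]; omega
    rcases Nat.even_or_odd s with hev | hodd
    · have : Odd (s + 1) := hev.add_one
      have h3 := three_dvd_two_pow_add_one this
      rw [← hp'] at h3
      exact hp3 (eq_three_of_three_dvd hp h3)
    · have h3 := three_dvd_two_pow_add_one hodd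
      rw [← hr'] at h3
      exact hr3 (eq_three_of_three_dvd hr h3)
  · -- `t ≥ 3`: all degrees are divisible by `4`
    have h3e : 3 * e ≤ p - 1 := by nlinarith
    have h4 : ∀ χ ∈ D.X, χ ≠ D.one → 4 ∣ D.deg χ := by
      intro χ hχ hne
      by_contra h4
      have h2 := hX χ hχ hne
      obtain ⟨d₁, d₂, hd₁, hd₂, hd⟩ := (Nat.dvd_mul).mp (hdvd χ (Or.inl hχ))
      obtain ⟨k, -, hk⟩ := (Nat.dvd_prime_pow Nat.prime_two).mp hd₂
      have hk1 : k = 1 := by
        rcases Nat.lt_or_ge k 2 with hk2 | hk2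
        · interval_cases k
          · exfalso
            rw [hk, pow_zero, mul_one] at hd
            rw [← hd] at h2
            exact hrodd (h2.trans hd₁)
          · rfl
        · exfalso
          apply h4
          rw [← hd, hk]
          exact Dvd.dvd.mul_left (pow_dvd_pow 2 hk2) d₁
      rw [hk, hk1, pow_one] at hd
      have h := D.hdegX χ hχ
      rw [← hd] at h
      rcases (Nat.dvd_prime hr).mp hd₁ with h1 | h1
      · -- degree 2
        rw [h1] at h
        rcases D.hδ χ hχ with hδ | hδ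
        · rw [hδ] at h
          rcases Nat.lt_or_ge (D.m1 χ) 2 with hm | hm
          · interval_cases (D.m1 χ)
            · push_cast at h; omega
            · push_cast at h; omega
          · have : (p : ℤ) * 2 ≤ (p : ℤ) * (D.m1 χ : ℤ) := by
              apply mul_le_mul_of_nonneg_left _ (by positivity)
              exact_mod_cast hm
            push_cast at h; omega
        · rw [hδ] at h
          have : (0 : ℤ) ≤ (p : ℤ) * (D.m1 χ : ℤ) := by positivity
          push_cast at h; omega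
      · -- degree 2r
        rw [h1] at h
        rcases D.hδ χ hχ with hδ | hδ
        · rw [hδ] at h
          rcases Nat.lt_or_ge (D.m1 χ) 3 with hm | hm
          · interval_cases (D.m1 χ)
            · push_cast at h; omega
            · push_cast at h; omega
            · push_cast at h; omega
          · have : (p : ℤ) * 3 ≤ (p : ℤ) * (D.m1 χ : ℤ) := by
              apply mul_le_mul_of_nonneg_left _ (by positivity)
              exact_mod_cast hm
            push_cast at h; omega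
        · rw [hδ] at h
          rcases Nat.eq_zero_or_pos (D.m1 χ) with hm | hm
          · rw [hm] at h; push_cast at h; omega
          · have : (p : ℤ) * 1 ≤ (p : ℤ) * (D.m1 χ : ℤ) := by
              apply mul_le_mul_of_nonneg_left _ (by positivity)
              exact_mod_cast hm
            push_cast at h; omega
    have h4r : 4 ∣ r + 1 := hdiv 4 h4
    -- hence `e = 2`
    have hs1 : s = 1 := by
      by_contra hs1
      have hs2 : 2 ≤ s := by omega
      have h4e : 4 ∣ e := by
        rw [hes]; exact pow_dvd_pow 2 hs2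
      have h1 : 4 ∣ p - 1 := h4e.trans hep
      have h2 : 4 ∣ (r + 1) + e := Dvd.dvd.add h4r h4e
      have h3 : (r + 1) + e = (p - 1) + 2 := by omega
      rw [h3] at h2
      have h5 : 4 ∣ 2 := (Nat.dvd_add_right h1).mp h2
      omega
    rw [hs1, pow_one] at hes
    -- `X = {one, χ₂}`
    have hcard : (D.X.erase D.one).card = 1 := by
      rw [Finset.card_erase_of_mem D.hone, D.hXcard, hes]
    obtain ⟨χ₂, hχ₂⟩ := Finset.card_eq_one.mp hcard
    rw [hχ₂, Finset.sum_singleton] at hrel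
    have hχ₂m : χ₂ ∈ D.X.erase D.one := by rw [hχ₂]; exact Finset.mem_singleton_self _
    have hχ₂' := Finset.mem_erase.mp hχ₂m
    have hdeg2 : D.deg χ₂ = r + 1 := by
      rcases D.hδ χ₂ hχ₂'.2 with hδ | hδ
      · rw [hδ] at hrel
        have : (0 : ℤ) ≤ (D.deg χ₂ : ℤ) := by positivity
        omega
      · rw [hδ] at hrel
        omega
    have hd2 := hdvd χ₂ (Or.inl hχ₂'.2)
    rw [hdeg2] at hd2
    have hcop2 : Nat.Coprime (r + 1) r := by
      rw [Nat.coprime_comm]; simp
    have hpow : r + 1 ∣ 2 ^ b := hcop2.dvd_of_dvd_mul_left hd2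
    obtain ⟨m, -, hm⟩ := (Nat.dvd_prime_pow Nat.prime_two).mp hpow
    rcases Nat.even_or_odd m with hev | hodd
    · have h3 := three_dvd_two_pow_sub_one hev
      have : 2 ^ m - 1 = r := by omega
      rw [this] at h3
      exact hr3 (eq_three_of_three_dvd hr h3)
    · have h3 := three_dvd_two_pow_add_one hodd
      have : 2 ^ m + 1 = p := by omega
      rw [this] at h3
      exact hp3 (eq_three_of_three_dvd hp h3)


/-- The case `ε = 1`, exceptional degree `r = e = (p - 1)/2` and `G ≅ PSL(2,p)`: the order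
`p (p² - 1)/2 = p r q^b` is impossible unless `r = 3` or `p = 3`. -/
theorem caseA_arith {p q r b : ℕ} (hp : p.Prime) (hq : q.Prime) (hr : r.Prime)
    (hpr : p = 2 * r + 1) (hord : p * r * q ^ b * 2 = p * (p ^ 2 - 1)) (hr3 : r ≠ 3)
    (hp3 : p ≠ 3) : False := by
  have hr0 : 0 < r := hr.pos
  have h1 : r * q ^ b * 2 = p ^ 2 - 1 := by
    apply Nat.eq_of_mul_eq_mul_left hp.pos
    rw [← hord]; ring
  have h2 : p ^ 2 - 1 = r * ((r + 1) * 2 * 2) := by
    rw [hpr]
    apply Nat.sub_eq_of_eq_add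
    ring
  have h3 : q ^ b = (r + 1) * 2 := by
    have h4 : r * (q ^ b * 2) = r * ((r + 1) * 2 * 2) := by
      rw [← h2, ← h1]; ring
    have h5 := Nat.eq_of_mul_eq_mul_left hr0 h4
    exact Nat.eq_of_mul_eq_mul_right (by norm_num) h5
  have hq2 : q = 2 := by
    have : 2 ∣ q ^ b := by rw [h3]; exact Dvd.intro_left _ rfl
    exact ((Nat.prime_dvd_prime_iff_eq Nat.prime_two hq).mp
      (Nat.prime_two.dvd_of_dvd_pow this)).symm
  subst hq2
  rcases Nat.eq_zero_or_pos b with hb | hb
  · rw [hb, pow_zero] at h3; omega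
  obtain ⟨k, rfl⟩ : ∃ k, b = k + 1 := ⟨b - 1, by omega⟩
  have h6 : 2 ^ k = r + 1 := by
    rw [pow_succ] at h3
    exact Nat.eq_of_mul_eq_mul_right (by norm_num) h3
  rcases Nat.even_or_odd k with hev | hodd
  · have h7 := three_dvd_two_pow_sub_one hev
    have : 2 ^ k - 1 = r := by omega
    rw [this] at h7
    exact hr3 (eq_three_of_three_dvd hr h7)
  · have hev : Even (k + 1) := hodd.add_one
    have h7 := three_dvd_two_pow_sub_one hev
    have : 2 ^ (k + 1) - 1 = p := by rw [pow_succ]; omega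
    rw [this] at h7
    exact hp3 (eq_three_of_three_dvd hp h7)

end Cfsg.Agent.Lib.Helper53_BT_Arith
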