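import Mathlib
import Cfsg.Agent.Lib.Helper16_B43Defs
import Cfsg.Agent.Lib.Helper12_PerfectTools

/-!
# S4700 package SETUP (helper63, for helper3's market)

`G` finite perfect, `P` a Sylow `p`-subgroup of order `p`, `1 + n p` Sylow `p`-subgroups,
`e = |N_G(P) : C_G(P)|`: then `p ≠ 2`, `2 ≤ e`, `e ∣ p - 1` and `1 ≤ n`.
-/

set_option autoImplicit false

namespace Cfsg.Agent.Lib.Helper63_BF_SETUP

open Cfsg Cfsg.Agent.Lib.Helper16_B43Defs Cfsg.Agent.Lib.Helper12_PerfectTools

universe u

variable {G : Type u} [Group G]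

/-- `|N_G(P) : C_G(P)|` divides `p - 1` for a Sylow subgroup of order `p`. -/
theorem relIndex_dvd_pred [Finite G] {p : ℕ} [Fact p.Prime] (P : Sylow p G)
    (hP : Nat.card P = p) :
    (Subgroup.centralizer ((P : Subgroup G) : Set G)).relIndex (NP P) ∣ p - 1 := by
  have hc : IsCyclic ↥(P : Subgroup G) := isCyclic_of_prime_card hP
  have key := Subgroup.card_dvd_of_injective _
    (QuotientGroup.kerLift_injective (P : Subgroup G).normalizerMonoidHom)
  rw [Subgroup.normalizerMonoidHom_ker, ← Subgroup.index, ← Subgroup.relIndex] at key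
  rw [hc.card_mulAut, hP, Nat.totient_prime Fact.out] at key
  exact key

/-- Burnside: in a perfect finite group, a nontrivial Sylow `p`-subgroup is not central in its
normalizer. -/
theorem not_normalizer_le_centralizer [Finite G] (hperf : commutator G = ⊤) {p : ℕ}
    [Fact p.Prime] (P : Sylow p G) (hP1 : Nat.card P ≠ 1)
    (hle : Subgroup.normalizer ((P : Subgroup G) : Set G) ≤
      Subgroup.centralizer ((P : Subgroup G) : Set G)) : False := by
  have hcompl := MonoidHom.ker_transferSylow_isComplement' P hle
  have hker : (MonoidHom.transferSylow P hle).ker = ⊤ := by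
    rw [eq_top_iff]
    intro g _
    rw [MonoidHom.mem_ker]
    apply map_eq_one_of_perfect hperf
    intro a b
    apply Subtype.ext
    have := (hle (Subgroup.le_normalizer (MonoidHom.transferSylow P hle b).2))
      (MonoidHom.transferSylow P hle a) (MonoidHom.transferSylow P hle a).2
    exact this
  rw [hker, Subgroup.isComplement'_top_left] at hcompl
  apply hP1
  rw [hcompl, Subgroup.card_bot]

theorem setup [Finite G] (hperf : commutator G = ⊤) {p : ℕ} [Fact p.Prime]
    (P : Sylow p G) (hP : Nat.card P = p) (n : ℕ) (hn : Nat.card (Sylow p G) = 1 + n * p) :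
    p ≠ 2 ∧ 2 ≤ (Subgroup.centralizer ((P : Subgroup G) : Set G)).relIndex (NP P) ∧
      (Subgroup.centralizer ((P : Subgroup G) : Set G)).relIndex (NP P) ∣ p - 1 ∧ 1 ≤ n := by
  have hp : p.Prime := Fact.out
  have hdvd := relIndex_dvd_pred P hP
  -- `e ≠ 0`
  have he0 : (Subgroup.centralizer ((P : Subgroup G) : Set G)).relIndex (NP P) ≠ 0 := by
    unfold Subgroup.relIndex
    exact Subgroup.index_ne_zero_of_finite
  -- `e ≠ 1`
  have he1 : (Subgroup.centralizer ((P : Subgroup G) : Set G)).relIndex (NP P) ≠ 1 := by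
    intro h1
    have hle : NP P ≤ Subgroup.centralizer ((P : Subgroup G) : Set G) :=
      Subgroup.relIndex_eq_one.1 h1
    refine not_normalizer_le_centralizer hperf P ?_ hle
    rw [hP]
    exact hp.one_lt.ne'
  have he2 : 2 ≤ (Subgroup.centralizer ((P : Subgroup G) : Set G)).relIndex (NP P) := by
    omega
  refine ⟨?_, he2, hdvd, ?_⟩
  · -- `p ≠ 2`
    intro h2
    have h3 : p - 1 = 1 := by omega
    rw [h3] at hdvd
    have := Nat.le_of_dvd (by norm_num) hdvd
    omega
  · -- `1 ≤ n`
    by_contra hn0
    have hn0' : n = 0 := by omega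
    rw [hn0', zero_mul, add_zero] at hn
    -- `P` is normal
    have hidx : (NP P).index = 1 := by
      have h3 : Nat.card (Sylow p G) = (NP P).index := Sylow.card_eq_index_normalizer P
      rw [← h3]; exact hn
    have htop : NP P = ⊤ := Subgroup.index_eq_one.1 hidx
    have hnorm : (P : Subgroup G).Normal := Subgroup.normalizer_eq_top_iff.1 htop
    have hc : IsCyclic ↥(P : Subgroup G) := isCyclic_of_prime_card hP
    have hcen : (P : Subgroup G) ≤ Subgroup.center G :=
      cyclic_normal_le_center hperf (P : Subgroup G)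
    have hle : NP P ≤ Subgroup.centralizer ((P : Subgroup G) : Set G) := by
      intro g _
      rw [Subgroup.mem_centralizer_iff]
      intro y hy
      exact (Subgroup.mem_center_iff.1 (hcen hy) g).symm
    exact he1 (Subgroup.relIndex_eq_one.2 hle)

end Cfsg.Agent.Lib.Helper63_BF_SETUP
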