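import Mathlib
import Cfsg.Prelude.Def_Characters
import Cfsg.Prelude.Def_Blocks
import Cfsg.Prelude.Def_Solvable
import Cfsg.Prelude.Def_CaseTheorems
import Cfsg.Agent.Lib.Helper3_CharComplete
import Cfsg.Agent.Lib.Helper80_CharBasic
import Cfsg.Agent.Lib.Helper16_B43Defs
import Cfsg.Agent.Lib.Helper3_BFDefs
import Cfsg.Agent.Lib.Helper16_BrauerSetup
import Cfsg.Agent.Lib.Helper16_BrauerMain
import Cfsg.Agent.Lib.Helper16_BrauerFinal
import Cfsg.Agent.Lib.Helper57_CTHyp
import Cfsg.Agent.Lib.Helper23_B43_NORM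
import Cfsg.Agent.Lib.Helper79_Linear

/-!
# S4700 package DATAA (architect helper3): the abstract data `FData0` of the principal block of a
perfect group with a Sylow `p`-subgroup of order `p` (general `C_G(P)`), repackaging the landed
defect-one library of helper16 (`brauer_structure`, `structure_one`, `exceptional_reg`, `degree_eq`,
`principal_const`).
-/

set_option autoImplicit false

namespace Cfsg.Agent.Lib.Helper64_BF_DATAA

open Cfsg Cfsg.Agent.Lib.Helper3_BFDefs Cfsg.Agent.Lib.Helper16_B43Defs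
  Cfsg.Agent.Lib.Helper80_CharBasic Cfsg.Agent.Lib.Helper3_CharComplete
  Cfsg.Agent.Lib.Helper16_BrauerSetup Cfsg.Agent.Lib.Helper16_BrauerMain
  Cfsg.Agent.Lib.Helper16_BrauerFinal
open scoped ComplexConjugate

universe u

section grp

variable {G : Type u} [Group G]

/-- the degree of the trivial character -/
theorem charDegree_oneIrr : charDegree ((oneIrr G : IrrCharacter G) : G → ℂ) = 1 := by
  unfold charDegree
  show ⌊((1 : ℂ)).re⌋₊ = 1
  simp

/-- the value at `1` of a character of degree one -/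
theorem apply_one_of_charDegree_eq_one [Fintype G] (χ : IrrCharacter G)
    (h : charDegree (χ : G → ℂ) = 1) : (χ : G → ℂ) 1 = 1 := by
  have h1 := Cfsg.Agent.Lib.Helper16_BrauerFinal.charDegree_cast (G := G) χ
  rw [h] at h1
  rw [← h1]
  simp

/-- in a perfect group the only character of degree one is the trivial one -/
theorem eq_oneIrr_of_charDegree_eq_one [Fintype G] (hperf : commutator G = ⊤)
    (χ : IrrCharacter G)
    (h : charDegree (χ : G → ℂ) = 1) : χ = oneIrr G := by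
  apply Subtype.ext
  funext g
  have h1 := apply_one_of_charDegree_eq_one χ h
  have hg : g ∈ commutator G := by rw [hperf]; exact Subgroup.mem_top g
  exact Cfsg.Agent.Lib.Helper79_Linear.linear_commutator ⟨χ, h1⟩ hg

/-- the average over `P` is the multiplicity of the trivial character -/
theorem mult_one_eq_pavg [Fintype G] {p : ℕ} [Fact p.Prime] (P : Sylow p G)
    [Fintype ↥(P : Subgroup G)] (χ : IrrCharacter G) :
    (mult P χ 1 : ℂ) = pavg P (χ : G → ℂ) := by
  have h := mult_spec P χ 1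
  rw [← h]
  unfold classInner pavg resP
  rw [finsum_eq_sum_of_fintype]
  congr 1
  refine Finset.sum_congr rfl fun x _ => ?_
  simp

theorem exists_fdata0 [Fintype G] (hperf : commutator G = ⊤) {p : ℕ} [Fact p.Prime]
    (P : Sylow p G) (hP : Nat.card P = p) (n e t : ℕ)
    (he : (Subgroup.centralizer ((P : Subgroup G) : Set G)).relIndex (NP P) = e)
    (het : e * t = p - 1) (he2 : 2 ≤ e) (hn1 : 1 ≤ n)
    {M : Ideal AlgInt} (hM : IsPModular p M) :
    ∃ D : FData0 p e t n (IrrCharacter G), D.one = oneIrr G ∧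
      (∀ χ, D.deg χ = charDegree (χ : G → ℂ)) ∧
      (∀ χ, (D.m1 χ : ℂ) = pavg P (χ : G → ℂ)) ∧
      (∀ χ, χ ∈ principalBlock M G ↔ χ ∈ D.X ∨ χ ∈ D.Y) ∧
      (∀ χ ∈ D.X, ∀ x ∈ (P : Subgroup G), x ≠ 1 →
        ∀ y ∈ Subgroup.centralizer ((P : Subgroup G) : Set G), ¬ p ∣ orderOf y →
          (χ : G → ℂ) (x * y) = (D.δ χ : ℂ)) := by
  classical
  have hp : p.Prime := Fact.out
  let _ : Fintype ↥(P : Subgroup G) := Fintype.ofFinite _
  have hfin : Finite (↥(P : Subgroup G) →* ℂˣ) :=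
    Cfsg.Agent.Lib.Helper25_AbDual.finite_hom (comm_of_card P hP)
  let _ : Fintype (↥(P : Subgroup G) →* ℂˣ) := Fintype.ofFinite _
  obtain ⟨X0, Y0, εX0, ε0, hB0, hdisj0, hXc0, hYc0, hXp0, hε0, hYp0, hYu0, hYs0⟩ :=
    brauer_structure P hM hP e he (Cfsg.Agent.Lib.Helper57_CTHyp.ct_hyp p P hP)
  obtain ⟨X, Y, εX, ε, hB, hdisj, hXc, hYc, hXp, hε, hYp, hYu, hYs, h1X, hε1⟩ :=
    Cfsg.Agent.Lib.Helper23_B43_NORM.structure_one P hM hP e he2 X0 Y0 εX0 ε0 hB0 hdisj0 hXc0
      hYc0 hXp0 hε0 hYp0 hYu0 hYs0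
  have hepos : 0 < e := by omega
  have hYt : Y.card = t := by
    have h1 : e * Y.card = e * t := by rw [hYc, het]
    exact Nat.eq_of_mul_eq_mul_left hepos h1
  -- the sum of the `nn` over a non-exceptional character
  have hsumX : ∀ χ ∈ X, ∑ φ : ↥(P : Subgroup G) →* ℂˣ, nn P χ φ = - ((p : ℤ) - 1) * εX χ := by
    intro χ hχ
    have h := (hXp χ hχ).2
    rw [← sum_subtype_ne_one P (fun φ => nn P χ φ) (nn_one P χ)]
    rw [Finset.sum_congr rfl (fun i _ => h i.1 i.2), Finset.sum_const, Finset.card_univ,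
      card_ne_one P hP, nsmul_eq_mul, Nat.cast_sub hp.one_le]
    push_cast
    ring
  refine ⟨{ X := X, Y := Y, one := oneIrr G, deg := fun χ => charDegree (χ : G → ℂ),
            m1 := fun χ => mult P χ 1, δ := εX, ε := ε, hdisj := hdisj, hXcard := hXc,
            hYcard := hYt, het := het, he2 := he2, hn1 := hn1, hone := h1X, hδone := hε1,
            hdegone := charDegree_oneIrr,
            hdeg1 := fun χ h => eq_oneIrr_of_charDegree_eq_one hperf χ h,
            hδ := fun χ hχ => (hXp χ hχ).1, hε := hε, hdegX := ?_, hdegY := ?_, hdegpos := ?_,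
            hrel := ?_ }, rfl, fun _ => rfl, fun χ => mult_one_eq_pavg P χ, hB, ?_⟩
  · -- hdegX
    intro χ hχ
    show ((charDegree (χ : G → ℂ) : ℕ) : ℤ) = (p : ℤ) * (mult P χ 1 : ℤ) - ((p : ℤ) - 1) * εX χ
    rw [degree_eq P hP χ, hsumX χ hχ]
    ring
  · -- hdegY
    intro θ hθ
    show ((charDegree (θ : G → ℂ) : ℕ) : ℤ) = (p : ℤ) * (mult P θ 1 : ℤ) + ε * e
    rw [degree_eq P hP θ, rowsum_Y P θ ε e (hYp θ hθ) (hYs θ hθ)]
  · -- hdegpos
    intro χ
    show 0 < charDegree (χ : G → ℂ)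
    obtain ⟨m, hm, hχ1⟩ := irr_apply_one χ
    have h1 := Cfsg.Agent.Lib.Helper16_BrauerFinal.charDegree_cast (G := G) χ
    rw [hχ1] at h1
    have h2 : charDegree (χ : G → ℂ) = m := by exact_mod_cast h1
    rw [h2]
    exact hm
  · -- hrel
    intro θ hθ
    show ∑ χ ∈ X, εX χ * ((charDegree (χ : G → ℂ) : ℕ) : ℤ) =
      ε * ((charDegree (θ : G → ℂ) : ℕ) : ℤ)
    have hg : ¬ p ∣ orderOf (1 : G) := by
      rw [orderOf_one]
      exact hp.one_lt.not_ge ∘ Nat.le_of_dvd Nat.one_pos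
    have h := exceptional_reg P hM hP e hepos X Y εX ε hB hdisj hXp hYp hYu hYs hg θ hθ
    have hconj : ∀ χ : IrrCharacter G, conj ((χ : G → ℂ) 1) =
        (((charDegree (χ : G → ℂ) : ℕ) : ℤ) : ℂ) := by
      intro χ
      rw [← Cfsg.Agent.Lib.Helper16_BrauerFinal.charDegree_cast χ]
      simp
    rw [hconj θ, Finset.sum_congr rfl (fun χ _ => by rw [hconj χ])] at h
    have h2 : ((∑ χ ∈ X, εX χ * ((charDegree (χ : G → ℂ) : ℕ) : ℤ) : ℤ) : ℂ) =
        ((ε * ((charDegree (θ : G → ℂ) : ℕ) : ℤ) : ℤ) : ℂ) := by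
      push_cast
      exact h.symm
    exact_mod_cast h2
  · -- the values on `x V`
    intro χ hχ x hx hx1 y hy hyreg
    show (χ : G → ℂ) (x * y) = (εX χ : ℂ)
    have hχB : χ ∈ principalBlock M G := (hB χ).mpr (Or.inl hχ)
    rw [principal_const P hM hP χ hχB x hx hx1 y hy hyreg]
    exact value_X P hP χ (εX χ) (hXp χ hχ).2 ⟨x, hx⟩ (fun h => hx1 (congrArg Subtype.val h))

end grp

end Cfsg.Agent.Lib.Helper64_BF_DATAA
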