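import Cfsg.Agent.Lib.Helper77_BRDefs
import Cfsg.Agent.Lib.Helper23_ZStarB

/-!
# BR-FAITH (helper84; sub-package of helper77's S0999 architecture)
Nontrivial irreducible characters of a simple group are faithful.
-/

set_option autoImplicit false

namespace Cfsg.Agent.Lib.Helper84_BR_FAITH

open Cfsg Cfsg.Agent.Lib.Helper80_CharBasic Cfsg.Agent.Lib.Helper77_BRDefs
open scoped ComplexConjugate

universe u

variable {G : Type u} [Group G] [Fintype G] {p : ℕ} [hp : Fact p.Prime]

/-- **FAITH** (S). Nontrivial irreducible characters of a simple group are faithful. -/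
theorem FAITH [IsSimpleGroup G] (χ : IrrCharacter G) (hχ : χ ≠ oneIrr G) (g : G)
    (hg : (χ : G → ℂ) g = (χ : G → ℂ) 1) : g = 1 := by
  have hN := Cfsg.Agent.Lib.Helper23_ZStarB.irrKer_normal χ
  rcases hN.eq_bot_or_eq_top with h | h
  · have hmem : g ∈ Cfsg.Agent.Lib.Helper23_ZStarB.irrKer χ := hg
    rw [h] at hmem
    exact Subgroup.mem_bot.mp hmem
  · exfalso
    apply hχ
    apply Cfsg.Agent.Lib.Helper23_ZStarB.eq_oneIrr_of_forall
    intro x
    have hmem : x ∈ Cfsg.Agent.Lib.Helper23_ZStarB.irrKer χ := by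
      rw [h]; exact Subgroup.mem_top x
    exact hmem

end Cfsg.Agent.Lib.Helper84_BR_FAITH
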