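import Mathlib

/-!
# Arithmetic for groups of order `3 p^a q^b` (helper30)
-/

set_option autoImplicit false

namespace Cfsg.Agent.Lib.Helper30_ThreeArith

theorem prime_cases3 {r p q a b : ℕ} (hr : r.Prime) (hp : p.Prime) (hq : q.Prime)
    (h : r ∣ 3 * p ^ a * q ^ b) : r = 3 ∨ r = p ∨ r = q := by
  rcases (Nat.Prime.dvd_mul hr).mp h with h1 | h1
  · rcases (Nat.Prime.dvd_mul hr).mp h1 with h2 | h2
    · left
      exact (Nat.prime_dvd_prime_iff_eq hr Nat.prime_three).mp h2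
    · right; left
      exact (Nat.prime_dvd_prime_iff_eq hr hp).mp (hr.dvd_of_dvd_pow h2)
  · right; right
    exact (Nat.prime_dvd_prime_iff_eq hr hq).mp (hr.dvd_of_dvd_pow h1)

theorem two_pow_dvd {a m k : ℕ} (hm : Odd m) (h : 2 ^ k ∣ 2 ^ a * m) : k ≤ a := by
  have hcop : Nat.Coprime (2 ^ k) m := by
    apply Nat.Coprime.pow_left
    rw [Nat.coprime_two_left]
    exact hm
  have h1 : 2 ^ k ∣ 2 ^ a := hcop.dvd_of_dvd_mul_right h
  exact (Nat.pow_dvd_pow_iff_le_right (by norm_num : 1 < 2)).mp h1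

theorem le_of_sq_eq_two_pow {b c n : ℕ} (hc : c ^ 2 = 2 ^ n) (hdiv : 2 ^ b ∣ c) : 2 * b ≤ n := by
  have hd : (2 ^ b) ^ 2 ∣ c ^ 2 := pow_dvd_pow_of_dvd hdiv 2
  rw [hc, ← pow_mul] at hd
  have := (Nat.pow_dvd_pow_iff_le_right (by norm_num : 1 < 2)).mp hd
  omega

theorem no_sq_of_prime_mul_two_pow {r c n : ℕ} (hr : r.Prime) (hr2 : r ≠ 2)
    (h : c ^ 2 = r * 2 ^ n) : False := by
  have h1 : r ∣ c ^ 2 := ⟨2 ^ n, h⟩
  obtain ⟨k, hk⟩ := hr.dvd_of_dvd_pow h1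
  rw [hk] at h
  have h2 : r * (r * k ^ 2) = r * 2 ^ n := by rw [← h]; ring
  have h3 : r * k ^ 2 = 2 ^ n := Nat.eq_of_mul_eq_mul_left hr.pos h2
  have h4 : r ∣ 2 ^ n := ⟨k ^ 2, h3.symm⟩
  have h5 := hr.dvd_of_dvd_pow h4
  exact hr2 ((Nat.prime_dvd_prime_iff_eq hr Nat.prime_two).mp h5)

theorem arith_seven {a b c : ℕ} (ha1 : 1 ≤ a) (ha2 : a ≤ 2)
    (h : 21 * c ^ 2 = 8 * (3 * 7 ^ a * 2 ^ b)) (hdiv : 2 ^ b ∣ c)
    (h8 : 8 ∣ 3 * 7 ^ a * 2 ^ b) : a = 1 ∧ b = 3 := by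
  have ha : a = 1 ∨ a = 2 := by omega
  rcases ha with rfl | rfl
  · refine ⟨rfl, ?_⟩
    have hc : c ^ 2 = 2 ^ (b + 3) := by
      rw [pow_add]
      norm_num at h ⊢
      linarith
    have h1 := le_of_sq_eq_two_pow hc hdiv
    have h2 : 3 ≤ b := by
      apply two_pow_dvd (m := 21) (by decide)
      have : 2 ^ b * 21 = 3 * 7 ^ 1 * 2 ^ b := by ring
      rw [this]
      exact h8
    omega
  · exfalso
    have hc : c ^ 2 = 7 * 2 ^ (b + 3) := by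
      rw [pow_add]
      norm_num at h ⊢
      linarith
    exact no_sq_of_prime_mul_two_pow (by norm_num) (by norm_num) hc

theorem arith_five {a b c : ℕ} (ha1 : 1 ≤ a) (ha2 : a ≤ 2)
    (h : 15 * c ^ 2 = 4 * (3 * 5 ^ a * 2 ^ b)) (hdiv : 2 ^ b ∣ c)
    (h4 : 4 ∣ 3 * 5 ^ a * 2 ^ b) : a = 1 ∧ b = 2 := by
  have ha : a = 1 ∨ a = 2 := by omega
  rcases ha with rfl | rfl
  · refine ⟨rfl, ?_⟩
    have hc : c ^ 2 = 2 ^ (b + 2) := by
      rw [pow_add]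
      norm_num at h ⊢
      linarith
    have h1 := le_of_sq_eq_two_pow hc hdiv
    have h2 : 2 ≤ b := by
      apply two_pow_dvd (m := 15) (by decide)
      have : 2 ^ b * 15 = 3 * 5 ^ 1 * 2 ^ b := by ring
      rw [this]
      exact h4
    omega
  · exfalso
    have hc : c ^ 2 = 5 * 2 ^ (b + 2) := by
      rw [pow_add]
      norm_num at h ⊢
      linarith
    exact no_sq_of_prime_mul_two_pow (by norm_num) (by norm_num) hc

end Cfsg.Agent.Lib.Helper30_ThreeArith
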