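import Mathlib
import Cfsg.Agent.Lib.Helper56_Mobius
import Cfsg.Agent.Lib.Helper56_MobiusIso

set_option autoImplicit false

namespace Cfsg.Agent.Lib.Helper56_PSL2Recog

open OnePoint Cfsg.Agent.Lib.Helper56_Mobius

section partA
variable {p : ℕ} [Fact p.Prime] {G : Type*} [Group G]

/-- the hypotheses on a permutation representation on the projective line -/
structure Hyp (ρ : G →* Equiv.Perm (OnePoint (ZMod p))) (x : G) (m : ℕ) : Prop where
  inj : Function.Injective ρ
  hx_infty : ρ x ∞ = ∞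
  hx_coe : ∀ j : ZMod p, ρ x (j : OnePoint (ZMod p)) = ((j + 1 : ZMod p) : OnePoint (ZMod p))
  norm : ∀ g, ρ g ∞ = ∞ → ∃ n : ℕ, g * x * g⁻¹ = x ^ n
  trans : ∃ g, ρ g ∞ ≠ ∞
  card : Nat.card G = (p + 1) * p * m
  hpm : p = 2 * m + 1

variable {ρ : G →* Equiv.Perm (OnePoint (ZMod p))} {x : G} {m : ℕ}

theorem rho_mul (g h : G) (z : OnePoint (ZMod p)) : ρ (g * h) z = ρ g (ρ h z) := by
  rw [map_mul, Equiv.Perm.mul_apply]

theorem rho_inv_eq_iff (g : G) (z w : OnePoint (ZMod p)) : ρ g⁻¹ z = w ↔ z = ρ g w := by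
  rw [map_inv, Equiv.Perm.inv_eq_iff_eq]

theorem rho_pow_infty (H : Hyp ρ x m) (n : ℕ) : ρ (x ^ n) ∞ = ∞ := by
  induction n with
  | zero => simp
  | succ n ih => rw [pow_succ, rho_mul, H.hx_infty, ih]

theorem rho_pow_coe (H : Hyp ρ x m) (n : ℕ) (j : ZMod p) :
    ρ (x ^ n) (j : OnePoint (ZMod p)) = ((j + n : ZMod p) : OnePoint (ZMod p)) := by
  induction n with
  | zero => simp
  | succ n ih =>
    rw [pow_succ', rho_mul, ih, H.hx_coe]
    push_cast
    rw [add_assoc]

theorem rho_fix_pow (g : G) (z : OnePoint (ZMod p)) (h : ρ g z = z) (n : ℕ) : ρ (g ^ n) z = z := by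
  induction n with
  | zero => simp
  | succ n ih => rw [pow_succ, rho_mul, h, ih]

theorem rho_fix_inv (g : G) (z : OnePoint (ZMod p)) (h : ρ g z = z) : ρ g⁻¹ z = z := by
  rw [rho_inv_eq_iff, h]

theorem affine_of_fix_infty (H : Hyp ρ x m) (g : G) (hg : ρ g ∞ = ∞) :
    ∃ k b : ZMod p, k ≠ 0 ∧
      ∀ j : ZMod p, ρ g (j : OnePoint (ZMod p)) = ((k * j + b : ZMod p) : OnePoint (ZMod p)) := by
  obtain ⟨n, hn⟩ := H.norm g hg
  have hgx : g * x = x ^ n * g := by
    rw [← hn]; group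
  have hne : ∀ j : ZMod p, ρ g (j : OnePoint (ZMod p)) ≠ ∞ := by
    intro j h
    rw [← hg] at h
    exact OnePoint.coe_ne_infty j ((ρ g).injective h)
  choose f hf using fun j => OnePoint.ne_infty_iff_exists.mp (hne j)
  have hrec : ∀ j : ZMod p, f (j + 1) = f j + n := by
    intro j
    have h1 : ρ g ((j + 1 : ZMod p) : OnePoint (ZMod p)) = ρ (x ^ n) (ρ g (j : OnePoint (ZMod p))) := by
      rw [← H.hx_coe, ← rho_mul, ← rho_mul, hgx]
    rw [← hf, ← hf, rho_pow_coe H, OnePoint.coe_eq_coe] at h1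
    exact h1
  have hnat : ∀ i : ℕ, f (i : ZMod p) = (n : ZMod p) * i + f 0 := by
    intro i
    induction i with
    | zero => simp
    | succ i ih =>
      push_cast
      rw [hrec, ih]
      ring
  have hall : ∀ j : ZMod p, f j = (n : ZMod p) * j + f 0 := by
    intro j
    have := hnat j.val
    rwa [ZMod.natCast_zmod_val] at this
  refine ⟨(n : ZMod p), f 0, ?_, ?_⟩
  · intro h0
    have h01 : f 0 = f 1 := by
      rw [hall 1, h0]; simp
    have : ((0 : ZMod p) : OnePoint (ZMod p)) = ((1 : ZMod p) : OnePoint (ZMod p)) := by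
      apply (ρ g).injective
      rw [← hf, ← hf, h01]
    rw [OnePoint.coe_eq_coe] at this
    exact zero_ne_one this
  · intro j
    rw [← hf, hall]


theorem exists_map_infty (H : Hyp ρ x m) (z : OnePoint (ZMod p)) : ∃ g, ρ g ∞ = z := by
  cases z with
  | infty => exact ⟨1, by simp⟩
  | coe a =>
    obtain ⟨g₀, hg₀⟩ := H.trans
    obtain ⟨c, hc⟩ := OnePoint.ne_infty_iff_exists.mp hg₀
    refine ⟨x ^ ((a - c).val) * g₀, ?_⟩
    rw [rho_mul, ← hc, rho_pow_coe H, ZMod.natCast_zmod_val]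
    congr 1
    ring

theorem exists_map_pair (H : Hyp ρ x m) (z w : OnePoint (ZMod p)) (hzw : z ≠ w) :
    ∃ g, ρ g ∞ = z ∧ ρ g ((0 : ZMod p) : OnePoint (ZMod p)) = w := by
  obtain ⟨g₁, hg₁⟩ := exists_map_infty H z
  have hw' : ρ g₁⁻¹ w ≠ ∞ := by
    intro h
    rw [rho_inv_eq_iff, hg₁] at h
    exact hzw h.symm
  obtain ⟨b, hb⟩ := OnePoint.ne_infty_iff_exists.mp hw'
  refine ⟨g₁ * x ^ b.val, ?_, ?_⟩
  · rw [rho_mul, rho_pow_infty H, hg₁]
  · rw [rho_mul, rho_pow_coe H, ZMod.natCast_zmod_val, zero_add, hb, ← rho_mul, mul_inv_cancel]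
    simp

/-- the two point stabilizer -/
def stab2 (ρ : G →* Equiv.Perm (OnePoint (ZMod p))) : Subgroup G where
  carrier := {g | ρ g ∞ = ∞ ∧ ρ g ((0 : ZMod p) : OnePoint (ZMod p)) = ((0 : ZMod p) : OnePoint (ZMod p))}
  one_mem' := by simp
  mul_mem' := by
    rintro a b ⟨ha1, ha2⟩ ⟨hb1, hb2⟩
    exact ⟨by rw [rho_mul, hb1, ha1], by rw [rho_mul, hb2, ha2]⟩
  inv_mem' := by
    rintro a ⟨ha1, ha2⟩
    exact ⟨rho_fix_inv a _ ha1, rho_fix_inv a _ ha2⟩

theorem mem_stab2 (g : G) : g ∈ stab2 ρ ↔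
    ρ g ∞ = ∞ ∧ ρ g ((0 : ZMod p) : OnePoint (ZMod p)) = ((0 : ZMod p) : OnePoint (ZMod p)) :=
  Iff.rfl

theorem card_onePoint : Fintype.card (OnePoint (ZMod p)) = p + 1 := by
  show Fintype.card (Option (ZMod p)) = p + 1
  rw [Fintype.card_option, ZMod.card]

theorem card_stab2 [Finite G] (H : Hyp ρ x m) : Nat.card (stab2 ρ) = m := by
  let _ : MulAction G (OnePoint (ZMod p)) := MulAction.compHom (OnePoint (ZMod p)) ρ
  have hsmul : ∀ (g : G) (z : OnePoint (ZMod p)), g • z = ρ g z := fun g z => rfl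
  have hstab : MulAction.stabilizer G ((∞, ((0 : ZMod p) : OnePoint (ZMod p))) :
      OnePoint (ZMod p) × OnePoint (ZMod p)) = stab2 ρ := by
    ext g
    rw [MulAction.mem_stabilizer_iff, Prod.smul_mk, Prod.mk.injEq, hsmul, hsmul, mem_stab2]
  have horb : MulAction.orbit G ((∞, ((0 : ZMod p) : OnePoint (ZMod p))) :
      OnePoint (ZMod p) × OnePoint (ZMod p)) =
      ((Finset.univ : Finset (OnePoint (ZMod p))).offDiag : Set (OnePoint (ZMod p) × OnePoint (ZMod p))) := by
    ext ⟨z, w⟩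
    rw [MulAction.mem_orbit_iff, Finset.mem_coe, Finset.mem_offDiag]
    constructor
    · rintro ⟨g, hg⟩
      rw [Prod.smul_mk, Prod.mk.injEq, hsmul, hsmul] at hg
      refine ⟨Finset.mem_univ _, Finset.mem_univ _, ?_⟩
      rw [← hg.1, ← hg.2]
      intro h
      exact OnePoint.infty_ne_coe _ ((ρ g).injective h)
    · rintro ⟨-, -, hzw⟩
      obtain ⟨g, h1, h2⟩ := exists_map_pair H z w hzw
      exact ⟨g, by rw [Prod.smul_mk, hsmul, hsmul, h1, h2]⟩
  have hos := Nat.card_congr (MulAction.orbitProdStabilizerEquivGroup G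
    ((∞, ((0 : ZMod p) : OnePoint (ZMod p))) : OnePoint (ZMod p) × OnePoint (ZMod p)))
  rw [Nat.card_prod, hstab, horb, Nat.card_coe_set_eq, Set.ncard_coe_finset, Finset.offDiag_card,
    Finset.card_univ, card_onePoint, H.card] at hos
  have hp : 0 < p := (Fact.out : p.Prime).pos
  have h1 : (p + 1) * (p + 1) - (p + 1) = (p + 1) * p := by
    rw [Nat.mul_succ (p+1) p]; omega
  rw [h1] at hos
  exact Nat.eq_of_mul_eq_mul_left (by positivity) hos


theorem mul_of_mem_stab2 [Finite G] (H : Hyp ρ x m) (g : G) (hg : g ∈ stab2 ρ) :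
    ∃ k : ZMod p, k ≠ 0 ∧ k ^ m = 1 ∧
      ∀ j : ZMod p, ρ g (j : OnePoint (ZMod p)) = ((k * j : ZMod p) : OnePoint (ZMod p)) := by
  obtain ⟨k, b, hk, hkb⟩ := affine_of_fix_infty H g hg.1
  have hb : b = 0 := by
    have := hkb 0
    rw [hg.2, OnePoint.coe_eq_coe, mul_zero, zero_add] at this
    exact this.symm
  subst hb
  have hkj : ∀ j : ZMod p, ρ g (j : OnePoint (ZMod p)) = ((k * j : ZMod p) : OnePoint (ZMod p)) := by
    intro j; rw [hkb, add_zero]
  refine ⟨k, hk, ?_, hkj⟩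
  have hpow : ∀ n : ℕ, ∀ j : ZMod p,
      ρ (g ^ n) (j : OnePoint (ZMod p)) = ((k ^ n * j : ZMod p) : OnePoint (ZMod p)) := by
    intro n
    induction n with
    | zero => intro j; simp
    | succ n ih =>
      intro j
      rw [pow_succ, rho_mul, hkj, ih]
      congr 1
      ring
  have hgm : g ^ m = 1 := by
    have h1 : (⟨g, hg⟩ : stab2 ρ) ^ Nat.card (stab2 ρ) = 1 := pow_card_eq_one'
    rw [card_stab2 H] at h1
    have := congrArg Subtype.val h1
    simpa using this
  have := hpow m 1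
  rw [hgm, map_one, Equiv.Perm.one_apply, OnePoint.coe_eq_coe, mul_one] at this
  exact this.symm

theorem exists_mem_stab2_of_pow [Finite G] (H : Hyp ρ x m) (hm0 : 0 < m) (k : ZMod p) (hk : k ^ m = 1) :
    ∃ g ∈ stab2 ρ,
      ∀ j : ZMod p, ρ g (j : OnePoint (ZMod p)) = ((k * j : ZMod p) : OnePoint (ZMod p)) := by
  classical
  choose! μ hμ0 hμm hμ using fun g (hg : g ∈ stab2 ρ) => mul_of_mem_stab2 H g hg
  let f : stab2 ρ → {u : (ZMod p)ˣ // u ^ m = 1} := fun g =>
    ⟨Units.mk0 (μ g.1) (hμ0 g.1 g.2), by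
      apply Units.ext
      rw [Units.val_pow_eq_pow_val, Units.val_mk0, hμm g.1 g.2, Units.val_one]⟩
  have hf : Function.Injective f := by
    intro g h hgh
    have hk : μ g.1 = μ h.1 := by
      have := congrArg (fun u => (u.1 : ZMod p)) hgh
      simpa [f] using this
    apply Subtype.ext
    apply H.inj
    apply Equiv.ext
    intro z
    cases z with
    | infty => rw [g.2.1, h.2.1]
    | coe j => rw [hμ g.1 g.2, hμ h.1 h.2, hk]
  have hcard : Nat.card {u : (ZMod p)ˣ // u ^ m = 1} ≤ Nat.card (stab2 ρ) := by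
    rw [card_stab2 H, Nat.card_eq_fintype_card, Fintype.card_subtype]
    exact IsCyclic.card_pow_eq_one_le hm0
  have hbij := hf.bijective_of_nat_card_le hcard
  have hk0 : k ≠ 0 := by
    intro h
    rw [h, zero_pow hm0.ne'] at hk
    exact zero_ne_one hk
  obtain ⟨g, hg⟩ := hbij.2 ⟨Units.mk0 k hk0, by
    apply Units.ext
    rw [Units.val_pow_eq_pow_val, Units.val_mk0, hk, Units.val_one]⟩
  refine ⟨g.1, g.2, ?_⟩
  have hkg : μ g.1 = k := by
    have := congrArg (fun u => (u.1 : ZMod p)) hg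
    simpa [f] using this
  intro j
  rw [hμ g.1 g.2, hkg]


theorem exists_invol [Finite G] (H : Hyp ρ x m) (hm : Odd m) :
    ∃ s : G, s * s = 1 ∧ ρ s ∞ = ((0 : ZMod p) : OnePoint (ZMod p)) ∧
      ρ s ((0 : ZMod p) : OnePoint (ZMod p)) = ∞ := by
  obtain ⟨t, ht1, ht2⟩ := exists_map_pair H ((0 : ZMod p) : OnePoint (ZMod p)) ∞
    (OnePoint.coe_ne_infty _)
  have hswap_sq : ∀ g : G, ρ g ∞ = ((0 : ZMod p) : OnePoint (ZMod p)) →
      ρ g ((0 : ZMod p) : OnePoint (ZMod p)) = ∞ → g * g ∈ stab2 ρ := by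
    intro g h1 h2
    exact ⟨by rw [rho_mul, h1, h2], by rw [rho_mul, h2, h1]⟩
  have hn : orderOf t ≠ 0 := (orderOf_pos t).ne'
  obtain ⟨k, u, hu, hn2⟩ := Nat.exists_eq_two_pow_mul_odd hn
  obtain ⟨v, hv⟩ := hu
  have htt := hswap_sq t ht1 ht2
  have hs_eq : t ^ u = (t * t) ^ v * t := by
    rw [hv, pow_succ, pow_mul, pow_two]
  have hs1 : ρ (t ^ u) ∞ = ((0 : ZMod p) : OnePoint (ZMod p)) := by
    rw [hs_eq, rho_mul, ht1, rho_fix_pow _ _ htt.2]
  have hs2 : ρ (t ^ u) ((0 : ZMod p) : OnePoint (ZMod p)) = ∞ := by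
    rw [hs_eq, rho_mul, ht2, rho_fix_pow _ _ htt.1]
  refine ⟨t ^ u, ?_, hs1, hs2⟩
  have hss := hswap_sq (t ^ u) hs1 hs2
  have h1 : (t ^ u * t ^ u) ^ m = 1 := by
    have h1 : (⟨t ^ u * t ^ u, hss⟩ : stab2 ρ) ^ Nat.card (stab2 ρ) = 1 := pow_card_eq_one'
    rw [card_stab2 H] at h1
    have := congrArg Subtype.val h1
    simpa using this
  have h2 : (t ^ u * t ^ u) ^ (2 ^ k) = 1 := by
    have hexp : u * (2 * 2 ^ k) = orderOf t * 2 := by rw [hn2]; ring
    rw [← pow_two, ← pow_mul, ← pow_mul, hexp, pow_mul, pow_orderOf_eq_one, one_pow]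
  have hd1 := orderOf_dvd_of_pow_eq_one h1
  have hd2 := orderOf_dvd_of_pow_eq_one h2
  have hcop : Nat.Coprime m (2 ^ k) := Nat.Coprime.pow_right k (Nat.coprime_two_right.mpr hm)
  have := Nat.dvd_gcd hd1 hd2
  rw [hcop.gcd_eq_one, Nat.dvd_one] at this
  exact orderOf_eq_one_iff.mp this

theorem affine_of_fix_infty' [Finite G] (H : Hyp ρ x m) (g : G) (hg : ρ g ∞ = ∞) :
    ∃ k b : ZMod p, k ≠ 0 ∧ k ^ m = 1 ∧
      ∀ j : ZMod p, ρ g (j : OnePoint (ZMod p)) = ((k * j + b : ZMod p) : OnePoint (ZMod p)) := by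
  obtain ⟨k, b, hk, hkb⟩ := affine_of_fix_infty H g hg
  refine ⟨k, b, hk, ?_, hkb⟩
  have hmem : x ^ ((-b).val) * g ∈ stab2 ρ := by
    constructor
    · rw [rho_mul, hg, rho_pow_infty H]
    · rw [rho_mul, hkb, rho_pow_coe H, ZMod.natCast_zmod_val]
      congr 1
      ring
  obtain ⟨k', -, hk'm, hk'⟩ := mul_of_mem_stab2 H _ hmem
  have := hk' 1
  rw [rho_mul, hkb, rho_pow_coe H, ZMod.natCast_zmod_val, OnePoint.coe_eq_coe] at this
  have hkk : k = k' := by linear_combination this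
  rw [hkk]
  exact hk'm

theorem eq_one_of_sq_of_fix [Finite G] (H : Hyp ρ x m) (hm : Odd m) (g : G) (hg2 : g * g = 1)
    (z : OnePoint (ZMod p)) (hz : ρ g z = z) : g = 1 := by
  have key : ∀ g : G, g * g = 1 → ρ g ∞ = ∞ → g = 1 := by
    intro g hg2 hg
    obtain ⟨k, b, hk, hkm, hkb⟩ := affine_of_fix_infty' H g hg
    have h0 : ρ (g * g) ((0 : ZMod p) : OnePoint (ZMod p)) = ((0 : ZMod p) : OnePoint (ZMod p)) := by
      rw [hg2]; simp
    have h1 : ρ (g * g) ((1 : ZMod p) : OnePoint (ZMod p)) = ((1 : ZMod p) : OnePoint (ZMod p)) := by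
      rw [hg2]; simp
    rw [rho_mul, hkb, hkb, OnePoint.coe_eq_coe] at h0 h1
    have hk2 : k ^ 2 = 1 := by linear_combination h1 - h0
    obtain ⟨v, hv⟩ := hm
    have hk1 : k = 1 := by
      have : k ^ m = k := by
        rw [hv, pow_succ, pow_mul, hk2, one_pow, one_mul]
      rw [← this, hkm]
    subst hk1
    have hb2 : (2 : ZMod p) * b = 0 := by linear_combination h0
    have h2 : (2 : ZMod p) ≠ 0 := by
      intro h
      have h2 : ((2 : ℕ) : ZMod p) = 0 := by exact_mod_cast h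
      rw [ZMod.natCast_eq_zero_iff] at h2
      have := H.hpm
      have := Nat.le_of_dvd (by norm_num) h2
      omega
    have hb : b = 0 := by
      rcases mul_eq_zero.mp hb2 with h | h
      · exact absurd h h2
      · exact h
    subst hb
    apply H.inj
    apply Equiv.ext
    intro z
    cases z with
    | infty => rw [hg]; simp
    | coe j => rw [hkb]; simp
  obtain ⟨h, hh⟩ := exists_map_infty H z
  have h1 : h⁻¹ * g * h = 1 := by
    apply key
    · have : h⁻¹ * g * h * (h⁻¹ * g * h) = h⁻¹ * (g * g) * h := by group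
      rw [this, hg2]; group
    · rw [rho_mul, rho_mul, hh, hz, rho_inv_eq_iff, hh]
  have : g = h * (h⁻¹ * g * h) * h⁻¹ := by group
  rw [this, h1]; group


theorem rho_pow_mul (g : G) (k : ZMod p)
    (hkj : ∀ j : ZMod p, ρ g (j : OnePoint (ZMod p)) = ((k * j : ZMod p) : OnePoint (ZMod p)))
    (n : ℕ) (j : ZMod p) :
    ρ (g ^ n) (j : OnePoint (ZMod p)) = ((k ^ n * j : ZMod p) : OnePoint (ZMod p)) := by
  induction n generalizing j with
  | zero => simp
  | succ n ih =>
    rw [pow_succ, rho_mul, hkj, ih]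
    congr 1
    ring

theorem exists_gen [Finite G] (H : Hyp ρ x m) (hm0 : 0 < m) :
    ∃ d₀ : G, stab2 ρ = Subgroup.zpowers d₀ ∧ ∃ r : ZMod p, (1 < m → r ≠ 1) ∧
      ∀ j : ZMod p, ρ d₀ (j : OnePoint (ZMod p)) = ((r * j : ZMod p) : OnePoint (ZMod p)) := by
  obtain ⟨γ, hγ⟩ := IsCyclic.exists_generator (α := (ZMod p)ˣ)
  have hoγ : orderOf γ = 2 * m := by
    rw [orderOf_eq_card_of_forall_mem_zpowers hγ, Nat.card_eq_fintype_card, ZMod.card_units, H.hpm]
    omega
  have hr : (((γ ^ 2 : (ZMod p)ˣ) : ZMod p)) ^ m = 1 := by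
    rw [← Units.val_pow_eq_pow_val, ← pow_mul, ← hoγ, pow_orderOf_eq_one, Units.val_one]
  obtain ⟨d₀, hd₀, hd₀r⟩ := exists_mem_stab2_of_pow H hm0 _ hr
  refine ⟨d₀, ?_, ((γ ^ 2 : (ZMod p)ˣ) : ZMod p), ?_, hd₀r⟩
  · apply le_antisymm
    · intro d hd
      obtain ⟨k, hk0, hkm, hk⟩ := mul_of_mem_stab2 H d hd
      have hu : Units.mk0 k hk0 ∈ Submonoid.powers γ := by
        rw [(isOfFinOrder_of_finite γ).mem_powers_iff_mem_zpowers]
        exact hγ _
      obtain ⟨i, hi⟩ := (Submonoid.mem_powers_iff _ _).mp hu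
      have hum : (γ ^ i) ^ m = 1 := by
        rw [hi]
        apply Units.ext
        rw [Units.val_pow_eq_pow_val, Units.val_mk0, hkm, Units.val_one]
      rw [← pow_mul] at hum
      have hdvd := orderOf_dvd_of_pow_eq_one hum
      rw [hoγ] at hdvd
      have h2 : 2 ∣ i := Nat.dvd_of_mul_dvd_mul_right hm0 hdvd
      obtain ⟨i', rfl⟩ := h2
      have hk' : k = (((γ ^ 2 : (ZMod p)ˣ) : ZMod p)) ^ i' := by
        rw [← Units.val_pow_eq_pow_val, ← pow_mul, hi, Units.val_mk0]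
      have : d = d₀ ^ i' := by
        apply H.inj
        apply Equiv.ext
        intro z
        cases z with
        | infty => rw [hd.1, rho_fix_pow _ _ hd₀.1]
        | coe j => rw [hk, rho_pow_mul d₀ _ hd₀r, hk']
      rw [this]
      exact Subgroup.pow_mem _ (Subgroup.mem_zpowers d₀) _
    · rw [Subgroup.zpowers_le]
      exact hd₀
  · intro hm1 h1
    have h2 : γ ^ 2 = 1 := by
      apply Units.ext
      rw [h1, Units.val_one]
    have := orderOf_dvd_of_pow_eq_one h2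
    rw [hoγ] at this
    have := Nat.le_of_dvd (by norm_num) this
    omega

theorem orderOf_gen [Finite G] (H : Hyp ρ x m) (d₀ : G) (hd₀ : stab2 ρ = Subgroup.zpowers d₀) :
    orderOf d₀ = m := by
  rw [← Nat.card_zpowers, ← hd₀, card_stab2 H]

theorem conj_gen [Finite G] (H : Hyp ρ x m) (hm1 : 1 < m)
    (hsq : ∀ e < m, (e * e) % m = 1 → e = 1 ∨ e = m - 1)
    (s : G) (hs2 : s * s = 1) (hs1 : ρ s ∞ = ((0 : ZMod p) : OnePoint (ZMod p)))
    (hs0 : ρ s ((0 : ZMod p) : OnePoint (ZMod p)) = ∞)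
    (d₀ : G) (hd₀ : stab2 ρ = Subgroup.zpowers d₀) :
    s * d₀ * s⁻¹ = d₀ ∨ s * d₀ * s⁻¹ = d₀⁻¹ := by
  have hsinv : s⁻¹ = s := (eq_inv_of_mul_eq_one_left hs2).symm
  have hd₀mem : d₀ ∈ stab2 ρ := by rw [hd₀]; exact Subgroup.mem_zpowers d₀
  have hmem : s * d₀ * s⁻¹ ∈ stab2 ρ := by
    rw [hsinv]
    exact ⟨by rw [rho_mul, rho_mul, hs1, hd₀mem.2, hs0], by rw [rho_mul, rho_mul, hs0, hd₀mem.1, hs1]⟩
  rw [hd₀] at hmem
  rw [← (isOfFinOrder_of_finite d₀).mem_powers_iff_mem_zpowers] at hmem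
  obtain ⟨n, hn⟩ := (Submonoid.mem_powers_iff _ _).mp hmem
  have hord := orderOf_gen H d₀ hd₀
  have hn' : d₀ ^ (n % m) = s * d₀ * s⁻¹ := by
    rw [← hord, pow_mod_orderOf, hn]
  have hlt : n % m < m := Nat.mod_lt _ (by omega)
  set e := n % m with he
  have h1 : d₀ ^ (e * e) = d₀ ^ 1 := by
    rw [pow_mul, hn', conj_pow, hn', pow_one]
    rw [hsinv]
    have : s * (s * d₀ * s) * s = (s * s) * d₀ * (s * s) := by group
    rw [this, hs2]; group
  rw [pow_eq_pow_iff_modEq, hord] at h1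
  have h2 : (e * e) % m = 1 := by
    rw [h1, Nat.mod_eq_of_lt hm1]
  rcases hsq e hlt h2 with h | h
  · left
    rw [← hn', h, pow_one]
  · right
    rw [← hn', h]
    apply eq_inv_of_mul_eq_one_left
    rw [← pow_succ, Nat.sub_add_cancel (by omega), ← hord, pow_orderOf_eq_one]


theorem not_commute [Finite G] [IsSimpleGroup G] (H : Hyp ρ x m) (hm : Odd m) (hm1 : 1 < m)
    (q b : ℕ) (hq : q.Prime) (hmq : m = q ^ b)
    (s : G) (hs1 : ρ s ∞ = ((0 : ZMod p) : OnePoint (ZMod p)))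
    (hs0 : ρ s ((0 : ZMod p) : OnePoint (ZMod p)) = ∞)
    (d₀ : G) (hd₀ : stab2 ρ = Subgroup.zpowers d₀) (r : ZMod p) (hr1 : r ≠ 1)
    (hd₀r : ∀ j : ZMod p, ρ d₀ (j : OnePoint (ZMod p)) = ((r * j : ZMod p) : OnePoint (ZMod p)))
    (hcomm : s * d₀ * s⁻¹ = d₀) : False := by
  haveI : Fact q.Prime := ⟨hq⟩
  have hp : p.Prime := Fact.out
  have hb : b ≠ 0 := by
    intro h
    rw [h, pow_zero] at hmq
    omega
  have hqm : q ∣ m := by rw [hmq]; exact dvd_pow_self q hb
  have hPG : IsPGroup q (stab2 ρ) := IsPGroup.of_card (n := b) (by rw [card_stab2 H, hmq])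
  obtain ⟨Q, hQ⟩ := hPG.exists_le_sylow
  have hQeq : (Q : Subgroup G) = stab2 ρ := by
    symm
    apply Subgroup.eq_of_le_of_card_ge hQ
    obtain ⟨n, hn⟩ := IsPGroup.iff_card.mp Q.2
    have hdvd : Nat.card (Q : Subgroup G) ∣ Nat.card G := Subgroup.card_subgroup_dvd_card _
    rw [hn, H.card, hmq] at hdvd
    have hc1 : Nat.Coprime q (p + 1) := by
      rw [Nat.Prime.coprime_iff_not_dvd hq]
      intro h
      have h2 : q ∣ 2 := by
        have h3 : q ∣ 2 * m := Dvd.dvd.mul_left hqm 2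
        have h4 : p + 1 = 2 * m + 2 := by have := H.hpm; omega
        rw [h4] at h
        exact (Nat.dvd_add_right h3).mp h
      have h5 : q = 2 := (Nat.prime_dvd_prime_iff_eq hq Nat.prime_two).mp h2
      rw [h5] at hqm
      obtain ⟨v, hv⟩ := hm
      omega
    have hc2 : Nat.Coprime q p := by
      rw [Nat.Prime.coprime_iff_not_dvd hq]
      intro h
      have h5 : q = p := (Nat.prime_dvd_prime_iff_eq hq hp).mp h
      have := Nat.le_of_dvd (by omega) hqm
      have := H.hpm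
      omega
    have hc : Nat.Coprime (q ^ n) ((p + 1) * p) :=
      Nat.Coprime.pow_left n (Nat.Coprime.mul_right hc1 hc2)
    have h6 : q ^ n ∣ q ^ b := hc.dvd_of_dvd_mul_left hdvd
    rw [hn, card_stab2 H, hmq]
    exact Nat.le_of_dvd (pow_pos hq.pos b) h6
  have hd₀mem : d₀ ∈ stab2 ρ := by rw [hd₀]; exact Subgroup.mem_zpowers d₀
  have hdC : d₀ ∈ Subgroup.centralizer (stab2 ρ : Set G) := by
    rw [Subgroup.mem_centralizer_iff]
    intro h hh
    rw [SetLike.mem_coe, hd₀] at hh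
    obtain ⟨z, rfl⟩ := Subgroup.mem_zpowers_iff.mp hh
    exact ((Commute.refl d₀).zpow_left z).eq
  have hsC : s ∈ Subgroup.centralizer (stab2 ρ : Set G) := by
    rw [Subgroup.mem_centralizer_iff]
    intro h hh
    rw [SetLike.mem_coe, hd₀] at hh
    obtain ⟨z, rfl⟩ := Subgroup.mem_zpowers_iff.mp hh
    have hc : Commute s d₀ := mul_inv_eq_iff_eq_mul.mp hcomm
    exact (hc.zpow_right z).symm.eq
  have hle : stab2 ρ ≤ Subgroup.centralizer (stab2 ρ : Set G) := by
    rw [hd₀, Subgroup.zpowers_le, ← hd₀]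
    exact hdC
  have hfix : ∀ z : OnePoint (ZMod p), ρ d₀ z = z → z = ∞ ∨ z = ((0 : ZMod p) : OnePoint (ZMod p)) := by
    intro z hz
    cases z with
    | infty => left; rfl
    | coe j =>
      right
      rw [hd₀r, OnePoint.coe_eq_coe] at hz
      have : (r - 1) * j = 0 := by linear_combination hz
      rcases mul_eq_zero.mp this with h | h
      · exact absurd (sub_eq_zero.mp h) hr1
      · rw [h]
  have hNC : Subgroup.normalizer ((Q : Subgroup G) : Set G) ≤
      Subgroup.centralizer ((Q : Subgroup G) : Set G) := by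
    rw [hQeq]
    intro g hg
    have hconj : g⁻¹ * d₀ * g ∈ stab2 ρ :=
      (Subgroup.mem_normalizer_iff''.mp hg d₀).mp hd₀mem
    have h1 : ρ d₀ (ρ g ∞) = ρ g ∞ := by
      have := hconj.1
      rwa [rho_mul, rho_mul, rho_inv_eq_iff] at this
    have h2 : ρ d₀ (ρ g ((0 : ZMod p) : OnePoint (ZMod p))) = ρ g ((0 : ZMod p) : OnePoint (ZMod p)) := by
      have := hconj.2
      rwa [rho_mul, rho_mul, rho_inv_eq_iff] at this
    have hne : ρ g ∞ ≠ ρ g ((0 : ZMod p) : OnePoint (ZMod p)) := by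
      intro h
      exact OnePoint.infty_ne_coe _ ((ρ g).injective h)
    rcases hfix _ h1 with h3 | h3
    · rcases hfix _ h2 with h4 | h4
      · rw [h3, h4] at hne
        exact absurd rfl hne
      · exact hle ⟨h3, h4⟩
    · rcases hfix _ h2 with h4 | h4
      · have hsg : s * g ∈ stab2 ρ := ⟨by rw [rho_mul, h3, hs0], by rw [rho_mul, h4, hs1]⟩
        have : g = s⁻¹ * (s * g) := by group
        rw [this]
        exact Subgroup.mul_mem _ (Subgroup.inv_mem _ hsC) (hle hsg)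
      · rw [h3, h4] at hne
        exact absurd rfl hne
  have hcompl := MonoidHom.ker_transferSylow_isComplement' Q hNC
  have hcQ : Nat.card (Q : Subgroup G) = m := by rw [hQeq, card_stab2 H]
  have hnorm : (MonoidHom.transferSylow Q hNC).ker.Normal := MonoidHom.normal_ker _
  generalize (MonoidHom.transferSylow Q hNC).ker = K at hcompl hnorm
  have hcm := hcompl.card_mul_card
  rw [hcQ, H.card] at hcm
  rcases hnorm.eq_bot_or_eq_top with h | h
  · rw [h, Subgroup.card_bot, one_mul] at hcm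
    have hp2 := hp.two_le
    have : m * 1 < (p + 1) * p * m := by
      rw [mul_comm ((p + 1) * p) m]
      apply Nat.mul_lt_mul_of_pos_left
      · nlinarith
      · omega
    omega
  · rw [h, Subgroup.card_top, H.card] at hcm
    have : (p + 1) * p * m * m = (p + 1) * p * m * 1 := by rw [hcm, mul_one]
    have hpos : 0 < (p + 1) * p * m := by
      have := hp.pos
      positivity
    have := Nat.eq_of_mul_eq_mul_left hpos this
    omega


theorem exists_matW [Finite G] [IsSimpleGroup G] (H : Hyp ρ x m) (hm : Odd m) (hm1 : 1 < m)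
    (hsq : ∀ e < m, (e * e) % m = 1 → e = 1 ∨ e = m - 1)
    (q b : ℕ) (hq : q.Prime) (hmq : m = q ^ b) :
    ∃ T : G, ρ T = mob (matW : Matrix.SpecialLinearGroup (Fin 2) (ZMod p)) := by
  have hm0 : 0 < m := by omega
  have hhalf : p / 2 = m := by have := H.hpm; omega
  obtain ⟨s, hs2, hs1, hs0⟩ := exists_invol H hm
  obtain ⟨d₀, hd₀, r, hr1, hd₀r⟩ := exists_gen H hm0
  have hsinv : s⁻¹ = s := (eq_inv_of_mul_eq_one_left hs2).symm
  have hinv : s * d₀ * s⁻¹ = d₀⁻¹ := by
    rcases conj_gen H hm1 hsq s hs2 hs1 hs0 d₀ hd₀ with h | h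
    · exact (not_commute H hm hm1 q b hq hmq s hs1 hs0 d₀ hd₀ r (hr1 hm1) hd₀r h).elim
    · exact h
  have hinv_all : ∀ d ∈ stab2 ρ, s * d = d⁻¹ * s := by
    intro d hd
    rw [hd₀] at hd
    obtain ⟨z, rfl⟩ := Subgroup.mem_zpowers_iff.mp hd
    have : s * d₀ ^ z * s⁻¹ = (d₀ ^ z)⁻¹ := by
      rw [← conj_zpow, hinv, inv_zpow]
    rw [← this]; group
  -- the function induced by s on nonzero elements
  have hex : ∀ j : ZMod p, ∃ y : ZMod p, j ≠ 0 →
      (y ≠ 0 ∧ ρ s (j : OnePoint (ZMod p)) = ((y : ZMod p) : OnePoint (ZMod p))) := by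
    intro j
    by_cases hj : j = 0
    · exact ⟨0, fun h => absurd hj h⟩
    · have h1 : ρ s (j : OnePoint (ZMod p)) ≠ ∞ := by
        intro h
        rw [← hs0] at h
        exact hj (OnePoint.coe_eq_coe.mp ((ρ s).injective h))
      obtain ⟨y, hy⟩ := OnePoint.ne_infty_iff_exists.mp h1
      refine ⟨y, fun _ => ⟨?_, hy.symm⟩⟩
      intro hy0
      rw [hy0, ← hs1] at hy
      exact OnePoint.infty_ne_coe _ ((ρ s).injective hy)
  choose f hf using hex
  have hrel : ∀ k : ZMod p, k ^ m = 1 → ∀ j : ZMod p, j ≠ 0 → f (k * j) = k⁻¹ * f j := by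
    intro k hk j hj
    have hk0 : k ≠ 0 := by
      intro h
      rw [h, zero_pow hm0.ne'] at hk
      exact zero_ne_one hk
    obtain ⟨d, hd, hdk⟩ := exists_mem_stab2_of_pow H hm0 k hk
    have h1 : ρ s ((k * j : ZMod p) : OnePoint (ZMod p)) = ρ d⁻¹ (ρ s (j : OnePoint (ZMod p))) := by
      rw [← hdk, ← rho_mul, ← rho_mul, hinv_all d hd]
    rw [(hf (k * j) (mul_ne_zero hk0 hj)).2, (hf j hj).2, eq_comm, rho_inv_eq_iff, hdk,
      OnePoint.coe_eq_coe] at h1
    rw [h1]
    field_simp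
  have hnofix : ∀ j : ZMod p, j ≠ 0 → f j ≠ j := by
    intro j hj h
    have h1 := (hf j hj).2
    rw [h] at h1
    have := eq_one_of_sq_of_fix H hm s hs2 _ h1
    rw [this, map_one, Equiv.Perm.one_apply] at hs1
    exact OnePoint.infty_ne_coe _ hs1
  have hneg : (-1 : ZMod p) ^ m = -1 := hm.neg_one_pow
  have hnegpow : ∀ a : ZMod p, (-a) ^ m = -(a ^ m) := by
    intro a
    rw [neg_pow, hneg]; ring
  have heuler : ∀ a : ZMod p, a ≠ 0 → a ^ m = 1 ∨ a ^ m = -1 := by
    intro a ha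
    have := ZMod.pow_div_two_eq_neg_one_or_one p ha
    rw [hhalf] at this
    exact this
  have h10 : (1 : ZMod p) ≠ 0 := one_ne_zero
  have hc0 : f 1 ≠ 0 := (hf 1 h10).1
  have hc : (f 1) ^ m = -1 := by
    rcases heuler _ hc0 with h | h
    · exfalso
      have hsq' : IsSquare (f 1) := by
        rw [ZMod.euler_criterion p hc0, hhalf]
        exact h
      obtain ⟨t, ht⟩ := hsq'
      have ht0 : t ≠ 0 := by
        intro h0
        rw [h0, mul_zero] at ht
        exact hc0 ht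
      rcases heuler t ht0 with h' | h'
      · apply hnofix t ht0
        have := hrel t h' 1 h10
        rw [mul_one] at this
        rw [this, ht]
        field_simp
      · apply hnofix (-t) (neg_ne_zero.mpr ht0)
        have h'' : (-t) ^ m = 1 := by rw [hnegpow, h', neg_neg]
        have := hrel (-t) h'' 1 h10
        rw [mul_one] at this
        rw [this, ht]
        field_simp
    · exact h
  have hc' : f (-1) = -(f 1) := by
    have h1 : ρ (s * s) ((1 : ZMod p) : OnePoint (ZMod p)) = ((1 : ZMod p) : OnePoint (ZMod p)) := by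
      rw [hs2]; simp
    rw [rho_mul, (hf 1 h10).2, (hf _ hc0).2, OnePoint.coe_eq_coe] at h1
    have h2 : (-(f 1)) ^ m = 1 := by rw [hnegpow, hc, neg_neg]
    have h3 := hrel (-(f 1)) h2 (-1) (neg_ne_zero.mpr h10)
    rw [neg_mul_neg, mul_one, h1] at h3
    have h4 : (-(f 1)) ≠ 0 := neg_ne_zero.mpr hc0
    field_simp at h3
    linear_combination h3
  have hform : ∀ j : ZMod p, j ≠ 0 → f j = f 1 * j⁻¹ := by
    intro j hj
    rcases heuler j hj with h | h
    · have := hrel j h 1 h10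
      rw [mul_one] at this
      rw [this, mul_comm]
    · have h'' : (-j) ^ m = 1 := by rw [hnegpow, h, neg_neg]
      have := hrel (-j) h'' (-1) (neg_ne_zero.mpr h10)
      rw [neg_mul_neg, mul_one, hc'] at this
      rw [this]
      field_simp
  have h2 : (-(f 1)) ^ m = 1 := by rw [hnegpow, hc, neg_neg]
  obtain ⟨d, hd, hdk⟩ := exists_mem_stab2_of_pow H hm0 _ h2
  refine ⟨s * d, ?_⟩
  apply Equiv.ext
  intro z
  cases z with
  | infty => rw [rho_mul, hd.1, hs1, mob_matW_infty]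
  | coe j =>
    by_cases hj : j = 0
    · rw [hj, rho_mul, hd.2, hs0, mob_matW_zero]
    · have hne : -(f 1) * j ≠ 0 := mul_ne_zero (neg_ne_zero.mpr hc0) hj
      rw [rho_mul, hdk, (hf _ hne).2, hform _ hne, mob_matW_coe j hj, OnePoint.coe_eq_coe]
      field_simp

theorem rho_x_eq (H : Hyp ρ x m) : ρ x = mob (matU : Matrix.SpecialLinearGroup (Fin 2) (ZMod p)) := by
  apply Equiv.ext
  intro z
  cases z with
  | infty => rw [H.hx_infty, mob_matU_infty]
  | coe j => rw [H.hx_coe, mob_matU_coe]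

end partA

section partB
variable {G : Type*} [Group G] [Finite G] (p : ℕ) [Fact p.Prime]

theorem card_sylow_eq (m : ℕ) (hm0 : 0 < m) (hpm : p = 2 * m + 1)
    (hcard : Nat.card G = (p + 1) * p * m) (P : Sylow p G) : Nat.card (P : Subgroup G) = p := by
  have hp : p.Prime := Fact.out
  obtain ⟨n, hn⟩ := IsPGroup.iff_card.mp P.2
  have h1 : p ∣ Nat.card (P : Subgroup G) := by
    apply P.dvd_card_of_dvd_card
    rw [hcard]
    exact Dvd.dvd.mul_right (Dvd.intro_left _ rfl) _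
  have h2 : Nat.card (P : Subgroup G) ∣ Nat.card G := Subgroup.card_subgroup_dvd_card _
  rw [hn] at h1 h2 ⊢
  have hn0 : n ≠ 0 := by
    intro h
    rw [h, pow_zero, Nat.dvd_one] at h1
    exact hp.one_lt.ne' h1
  have hc1 : Nat.Coprime p (p + 1) := by simp
  have hc2 : Nat.Coprime p m := by
    rw [Nat.Prime.coprime_iff_not_dvd hp]
    intro h
    have := Nat.le_of_dvd hm0 h
    omega
  have hn1 : n ≤ 1 := by
    by_contra hlt
    push Not at hlt
    have h3 : p ^ 2 ∣ (p + 1) * p * m := (pow_dvd_pow p hlt).trans (by rwa [hcard] at h2)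
    have h4 : (p + 1) * p * m = p * ((p + 1) * m) := by ring
    rw [h4, pow_two] at h3
    have h5 : p ∣ (p + 1) * m := Nat.dvd_of_mul_dvd_mul_left hp.pos h3
    have := (Nat.Coprime.mul_right hc1 hc2)
    rw [Nat.Prime.coprime_iff_not_dvd hp] at this
    exact this h5
  have : n = 1 := by omega
  rw [this, pow_one]

/-- nontrivial elements of a Sylow `p`-subgroup of order `p` fix no other Sylow subgroup -/
theorem eq_of_smul_eq (P : Sylow p G) (hP : Nat.card (P : Subgroup G) = p) (g : G)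
    (hg : g ∈ (P : Subgroup G)) (hg1 : g ≠ 1) (Q : Sylow p G) (hQ : g • Q = Q) : Q = P := by
  have hp : p.Prime := Fact.out
  rw [Sylow.smul_eq_iff_mem_normalizer] at hQ
  have h1 := Subgroup.mem_inf.mpr ⟨hg, hQ⟩
  rw [IsPGroup.inf_normalizer_sylow P.2 Q] at h1
  have h2 : (P : Subgroup G) ⊓ Q = P := by
    apply Subgroup.eq_of_le_of_card_ge inf_le_left
    have hd : Nat.card ((P : Subgroup G) ⊓ Q : Subgroup G) ∣ p := by
      have := Subgroup.card_dvd_of_le (inf_le_left : (P : Subgroup G) ⊓ Q ≤ P)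
      rwa [hP] at this
    rcases (Nat.dvd_prime hp).mp hd with h | h
    · exfalso
      have := Subgroup.card_eq_one.mp h
      rw [this, Subgroup.mem_bot] at h1
      exact hg1 h1
    · rw [h, hP]
  have hle : (P : Subgroup G) ≤ Q := by
    rw [← h2]
    exact inf_le_right
  exact Sylow.ext (P.3 Q.2 hle)


theorem card_onePoint' : Nat.card (OnePoint (ZMod p)) = p + 1 := by
  rw [Nat.card_eq_fintype_card]
  show Fintype.card (Option (ZMod p)) = p + 1
  rw [Fintype.card_option, ZMod.card]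

theorem exists_hyp [IsSimpleGroup G] (m : ℕ) (hm0 : 0 < m) (hpm : p = 2 * m + 1)
    (hcard : Nat.card G = (p + 1) * p * m) (hnp : Nat.card (Sylow p G) = p + 1) :
    ∃ (ρ : G →* Equiv.Perm (OnePoint (ZMod p))) (x : G), Hyp ρ x m := by
  classical
  have hp : p.Prime := Fact.out
  obtain ⟨P⟩ : Nonempty (Sylow p G) := inferInstance
  have hP := card_sylow_eq p m hm0 hpm hcard P
  have hex : ∃ x ∈ (P : Subgroup G), x ≠ 1 := by
    by_contra h
    push Not at h
    have h1 : (P : Subgroup G) = ⊥ := (Subgroup.eq_bot_iff_forall _).mpr h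
    rw [h1, Subgroup.card_bot] at hP
    exact hp.one_lt.ne hP
  obtain ⟨x, hxP, hx1⟩ := hex
  have hox : orderOf x = p := by
    have h1 : orderOf x ∣ p := by
      have := Subgroup.orderOf_dvd_natCard _ hxP
      rwa [hP] at this
    rcases (Nat.dvd_prime hp).mp h1 with h | h
    · exact absurd (orderOf_eq_one_iff.mp h) hx1
    · exact h
  have hzp : Subgroup.zpowers x = P := by
    apply Subgroup.eq_of_le_of_card_ge
    · rw [Subgroup.zpowers_le]; exact hxP
    · rw [Nat.card_zpowers, hox, hP]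
  have hexQ : ∃ Q₁ : Sylow p G, Q₁ ≠ P := by
    haveI : Nontrivial (Sylow p G) := by
      rw [← Finite.one_lt_card_iff_nontrivial, hnp]; omega
    exact exists_ne P
  obtain ⟨Q₁, hQ₁⟩ := hexQ
  have hpowP : ∀ n : ℕ, x ^ n ∈ (P : Subgroup G) := fun n => Subgroup.pow_mem _ hxP n
  have hfixP : ∀ g ∈ (P : Subgroup G), g • P = P := by
    intro g hg
    rw [Sylow.smul_eq_iff_mem_normalizer]
    exact Subgroup.le_normalizer hg
  let lam : OnePoint (ZMod p) → Sylow p G := fun z => z.elim P (fun i => x ^ i.val • Q₁)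
  have lam_infty : lam ∞ = P := rfl
  have lam_coe : ∀ i : ZMod p, lam (i : OnePoint (ZMod p)) = x ^ i.val • Q₁ := fun i => rfl
  have hne1 : ∀ n : ℕ, x ^ n • Q₁ ≠ P := by
    intro n h
    have h2 : Q₁ = (x ^ n)⁻¹ • P := by rw [← h, inv_smul_smul]
    rw [hfixP _ (Subgroup.inv_mem _ (hpowP n))] at h2
    exact hQ₁ h2
  have hinj : Function.Injective lam := by
    intro z w hzw
    cases z with
    | infty =>
      cases w with
      | infty => rfl
      | coe j =>
        rw [lam_infty, lam_coe] at hzw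
        exact absurd hzw.symm (hne1 _)
    | coe i =>
      cases w with
      | infty =>
        rw [lam_infty, lam_coe] at hzw
        exact absurd hzw (hne1 _)
      | coe j =>
        rw [lam_coe, lam_coe] at hzw
        have h1 : ((x ^ j.val)⁻¹ * x ^ i.val) • Q₁ = Q₁ := by
          rw [mul_smul, hzw, inv_smul_smul]
        have hmem : (x ^ j.val)⁻¹ * x ^ i.val ∈ (P : Subgroup G) :=
          Subgroup.mul_mem _ (Subgroup.inv_mem _ (hpowP _)) (hpowP _)
        have h2 : (x ^ j.val)⁻¹ * x ^ i.val = 1 := by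
          by_contra hne
          exact hQ₁ (eq_of_smul_eq p P hP _ hmem hne Q₁ h1)
        have h3 : x ^ i.val = x ^ j.val := by
          rw [inv_mul_eq_one] at h2
          exact h2.symm
        rw [pow_eq_pow_iff_modEq, hox] at h3
        have h4 : i.val = j.val := by
          have hi := ZMod.val_lt i
          have hj := ZMod.val_lt j
          exact Nat.ModEq.eq_of_lt_of_lt h3 hi hj
        rw [ZMod.val_injective p h4]
  have hbij : Function.Bijective lam :=
    hinj.bijective_of_nat_card_le (by rw [hnp, card_onePoint'])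
  let e : OnePoint (ZMod p) ≃ Sylow p G := Equiv.ofBijective lam hbij
  have e_infty : e ∞ = P := rfl
  have e_coe : ∀ i : ZMod p, e (i : OnePoint (ZMod p)) = x ^ i.val • Q₁ := fun i => rfl
  let ρ : G →* Equiv.Perm (OnePoint (ZMod p)) :=
    (e.symm.permCongrHom.toMonoidHom).comp (MulAction.toPermHom G (Sylow p G))
  have hρ : ∀ (g : G) (z : OnePoint (ZMod p)), ρ g z = e.symm (g • e z) := fun g z => rfl
  refine ⟨ρ, x, ?_, ?_, ?_, ?_, ?_, hcard, hpm⟩
  · rw [injective_iff_map_eq_one]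
    intro g hg
    have hall : ∀ Q : Sylow p G, g • Q = Q := by
      intro Q
      have := hρ g (e.symm Q)
      rw [hg, Equiv.Perm.one_apply, Equiv.apply_symm_apply, eq_comm, Equiv.symm_apply_eq,
        Equiv.apply_symm_apply] at this
      exact this
    have hker : g ∈ (MulAction.toPermHom G (Sylow p G)).ker := by
      rw [MonoidHom.mem_ker]
      apply Equiv.ext
      intro Q
      exact hall Q
    rcases (MonoidHom.normal_ker (MulAction.toPermHom G (Sylow p G))).eq_bot_or_eq_top with h | h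
    · rw [h, Subgroup.mem_bot] at hker
      exact hker
    · exfalso
      have hxk : x ∈ (MulAction.toPermHom G (Sylow p G)).ker := by rw [h]; exact Subgroup.mem_top x
      rw [MonoidHom.mem_ker] at hxk
      have h1 : x • Q₁ = Q₁ := by
        have := congrArg (fun σ => σ Q₁) hxk
        exact this
      exact hQ₁ (eq_of_smul_eq p P hP x hxP hx1 Q₁ h1)
  · rw [hρ, e_infty, hfixP x hxP, ← e_infty, Equiv.symm_apply_apply]
  · intro j
    rw [hρ, e_coe, Equiv.symm_apply_eq, e_coe, ← mul_smul, ← pow_succ']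
    congr 1
    rw [pow_eq_pow_iff_modEq, hox]
    haveI : Fact (1 < p) := ⟨hp.one_lt⟩
    rw [ZMod.val_add, ZMod.val_one]
    exact (Nat.mod_modEq _ _).symm
  · intro g hg
    rw [hρ, Equiv.symm_apply_eq, e_infty, Sylow.smul_eq_iff_mem_normalizer] at hg
    have h1 : g * x * g⁻¹ ∈ (P : Subgroup G) := (Subgroup.mem_normalizer_iff.mp hg x).mp hxP
    rw [← hzp, ← (isOfFinOrder_of_finite x).mem_powers_iff_mem_zpowers] at h1
    obtain ⟨n, hn⟩ := (Submonoid.mem_powers_iff _ _).mp h1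
    exact ⟨n, hn.symm⟩
  · obtain ⟨g, hg⟩ := MulAction.exists_smul_eq G P Q₁
    refine ⟨g, ?_⟩
    rw [hρ, e_infty, hg]
    have : Q₁ = e ((0 : ZMod p) : OnePoint (ZMod p)) := by
      rw [e_coe, ZMod.val_zero, pow_zero, one_smul]
    rw [this, Equiv.symm_apply_apply]
    exact OnePoint.coe_ne_infty _

end partB


section main
variable {G : Type*} [Group G] [Finite G] [IsSimpleGroup G]

/-- in a simple group of this order the number of Sylow `p`-subgroups is not one -/
theorem card_sylow_ne_one (p : ℕ) [Fact p.Prime] (m : ℕ) (hm0 : 0 < m) (hpm : p = 2 * m + 1)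
    (hcard : Nat.card G = (p + 1) * p * m) : Nat.card (Sylow p G) ≠ 1 := by
  intro h1
  have hp : p.Prime := Fact.out
  obtain ⟨P⟩ : Nonempty (Sylow p G) := inferInstance
  have hP := card_sylow_eq p m hm0 hpm hcard P
  haveI : Subsingleton (Sylow p G) := (Nat.card_eq_one_iff_unique.mp h1).1
  have hn : (P : Subgroup G).Normal := Sylow.normal_of_subsingleton P
  rcases hn.eq_bot_or_eq_top with h | h
  · rw [h, Subgroup.card_bot] at hP
    exact hp.one_lt.ne hP
  · rw [h, Subgroup.card_top, hcard] at hP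
    have h2 : p * 1 < (p + 1) * p * m := by
      have : (p + 1) * p * m = p * ((p + 1) * m) := by ring
      rw [this]
      apply Nat.mul_lt_mul_of_pos_left
      · nlinarith [hp.two_le]
      · exact hp.pos
    omega

/-- **Recognition of `PSL(2,p)` by its order**, `p ≡ 3 mod 4`, `(p-1)/2` a prime power. -/
theorem recog_zmod (p m q b : ℕ) [Fact p.Prime] (hpm : p = 2 * m + 1) (hm : Odd m) (hm1 : 1 < m)
    (hsq : ∀ e < m, (e * e) % m = 1 → e = 1 ∨ e = m - 1) (hq : q.Prime) (hmq : m = q ^ b)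
    (hcard : Nat.card G = (p + 1) * p * m) (hnp : Nat.card (Sylow p G) = p + 1) :
    Nonempty (G ≃* Matrix.ProjectiveSpecialLinearGroup (Fin 2) (ZMod p)) := by
  obtain ⟨ρ, x, H⟩ := exists_hyp p m (by omega) hpm hcard hnp
  obtain ⟨T, hT⟩ := exists_matW H hm hm1 hsq q b hq hmq
  have hp2 : p ≠ 2 := by omega
  apply Cfsg.Agent.Lib.Helper56_MobiusIso.iso_psl_of_perm p hp2 ρ H.inj ⟨x, rho_x_eq H⟩ ⟨T, hT⟩
  have e1 : p - 1 = 2 * m := by omega
  have e2 : p ^ 2 - 1 = 4 * m * (m + 1) := by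
    have : p ^ 2 = 4 * m * (m + 1) + 1 := by rw [hpm]; ring
    omega
  have e3 : p ^ 2 - p = (2 * m + 1) * (2 * m) := by
    have : p ^ 2 = (2 * m + 1) * (2 * m) + p := by rw [hpm]; ring
    omega
  rw [hcard, e1, e2, e3, hpm]
  ring

/-- the same over any field with `p` elements -/
theorem recog (p m q b : ℕ) [Fact p.Prime] (hpm : p = 2 * m + 1) (hm : Odd m) (hm1 : 1 < m)
    (hsq : ∀ e < m, (e * e) % m = 1 → e = 1 ∨ e = m - 1) (hq : q.Prime) (hmq : m = q ^ b)
    (hcard : Nat.card G = (p + 1) * p * m) (hnp : Nat.card (Sylow p G) = p + 1)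
    {F : Type*} [Field F] [Fintype F] (hF : Fintype.card F = p) :
    Nonempty (G ≃* Matrix.ProjectiveSpecialLinearGroup (Fin 2) F) := by
  obtain ⟨e1⟩ := recog_zmod (G := G) p m q b hpm hm hm1 hsq hq hmq hcard hnp
  obtain ⟨e2⟩ := Cfsg.Agent.Lib.Helper56_MobiusIso.psl_zmod_iso (F := F) p hF
  exact ⟨e1.trans e2⟩

end main

end Cfsg.Agent.Lib.Helper56_PSL2Recog
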