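import Mathlib

/-!
# Definitions for the modular part of S4504 (helper57)

`k` a field, `ρ : Representation k G M`.

* `InvOn ρ S W`    : the subspace `W` is stable under all `ρ g`, `g ∈ S`.
* `IndecOn ρ S W`  : `W ≠ 0` is `S`-stable and is not a direct sum of two nonzero `S`-stable subspaces.
* `IsBlock N W`    : `W` is a single Jordan block of the endomorphism `N` (spanned by the `N^i t`).
* `fixedSub ρ S`   : the subspace of vectors fixed by all `ρ g`, `g ∈ S`.
* `Dop X Xi c`     : `X c Xi - c` (for `Xi = X⁻¹` this is `Ad(X) - 1` on endomorphisms).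
* `LocalData p x h V₀ f` : the local structure at a Sylow subgroup `⟨x⟩` of order `p`:
  `C_G(x) = ⟨x⟩ × V₀`, `N_G(⟨x⟩) = ⟨h⟩ C_G(x)`, `h^f ∈ V₀`, `f ∣ p - 1`.
-/

set_option autoImplicit false

namespace Cfsg.Agent.Lib.Helper57_ModDefs

section reps

variable {k : Type*} [Field k] {G : Type*} [Group G] {M : Type*} [AddCommGroup M] [Module k M]

/-- `W` is stable under the elements of `S`. -/
def InvOn (ρ : Representation k G M) (S : Set G) (W : Submodule k M) : Prop :=
  ∀ g ∈ S, ∀ w ∈ W, ρ g w ∈ W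

/-- `W` is a nonzero `S`-stable subspace which is not the direct sum of two nonzero `S`-stable
subspaces. -/
def IndecOn (ρ : Representation k G M) (S : Set G) (W : Submodule k M) : Prop :=
  W ≠ ⊥ ∧ InvOn ρ S W ∧ ∀ W₁ W₂ : Submodule k M, InvOn ρ S W₁ → InvOn ρ S W₂ →
    W₁ ⊔ W₂ = W → W₁ ⊓ W₂ = ⊥ → W₁ = ⊥ ∨ W₂ = ⊥

/-- `W` is a single Jordan block of the endomorphism `N`: it is spanned by the `N ^ i t`. -/
def IsBlock (N : Module.End k M) (W : Submodule k M) : Prop :=
  ∃ t : M, W = Submodule.span k (Set.range fun i : ℕ => (N ^ i) t)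

/-- The subspace of vectors fixed by all `ρ g`, `g ∈ S`. -/
def fixedSub (ρ : Representation k G M) (S : Set G) : Submodule k M where
  carrier := {m | ∀ g ∈ S, ρ g m = m}
  add_mem' := by
    intro a b ha hb g hg
    rw [map_add, ha g hg, hb g hg]
  zero_mem' := by
    intro g _
    rw [map_zero]
  smul_mem' := by
    intro c a ha g hg
    rw [map_smul, ha g hg]

theorem mem_fixedSub (ρ : Representation k G M) (S : Set G) (m : M) :
    m ∈ fixedSub ρ S ↔ ∀ g ∈ S, ρ g m = m := Iff.rfl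

/-- `X c Xi - c`; for `Xi = X⁻¹` this is `Ad(X) - 1` on endomorphisms. -/
def Dop (X Xi c : Module.End k M) : Module.End k M := X * c * Xi - c

end reps

/-- The local structure at a Sylow subgroup `⟨x⟩` of order `p`. -/
structure LocalData (p : ℕ) {G : Type*} [Group G] (x h : G) (V₀ : Subgroup G) (f : ℕ) : Prop where
  ox : orderOf x = p
  syl : ¬ p ^ 2 ∣ Nat.card G
  copV : (Nat.card V₀).Coprime p
  commV : ∀ v ∈ V₀, v * x = x * v
  cent : ∀ g : G, g * x = x * g → ∃ i : ℕ, ∃ v ∈ V₀, g = x ^ i * v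
  hN : h ∈ Subgroup.normalizer ((Subgroup.zpowers x : Subgroup G) : Set G)
  normV : ∀ n ∈ Subgroup.normalizer ((Subgroup.zpowers x : Subgroup G) : Set G),
    ∀ v ∈ V₀, n * v * n⁻¹ ∈ V₀
  gen : ∀ n ∈ Subgroup.normalizer ((Subgroup.zpowers x : Subgroup G) : Set G),
    ∃ j : ℕ, ∃ c : G, c * x = x * c ∧ n = h ^ j * c
  fdvd : f ∣ p - 1
  fpos : 0 < f
  hf : h ^ f ∈ V₀

end Cfsg.Agent.Lib.Helper57_ModDefs
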