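import Mathlib
import Cfsg.Agent.Lib.Helper57_ModDefs

set_option autoImplicit false

namespace Cfsg.Agent.Lib.Helper24_S4504_LOC

open Cfsg.Agent.Lib.Helper57_ModDefs

section
variable {G : Type*} [Group G]

theorem mem_centralizer_zpowers_iff (x g : G) :
    g ∈ Subgroup.centralizer ((Subgroup.zpowers x : Subgroup G) : Set G) ↔ g * x = x * g := by
  constructor
  · intro h
    exact (h x (Subgroup.mem_zpowers x)).symm
  · intro h y hy
    obtain ⟨k, rfl⟩ := Subgroup.mem_zpowers_iff.mp hy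
    have h1 : Commute g x := h
    exact ((h1.zpow_right k).eq).symm

/-- The centralizer of `x` splits as `⟨x⟩ × V₀` when `⟨x⟩` is a Sylow subgroup of prime order. -/
theorem exists_split [Finite G] (p : ℕ) [Fact p.Prime] (x : G)
    (hx : orderOf x = p) (hsyl : ¬ p ^ 2 ∣ Nat.card G) :
    ∃ V₀ : Subgroup G, (Nat.card V₀).Coprime p ∧ (∀ v ∈ V₀, v * x = x * v) ∧
      ∀ g : G, g * x = x * g → ∃ i : ℕ, ∃ v ∈ V₀, g = x ^ i * v := by
  classical
  have hp : p.Prime := Fact.out
  set C : Subgroup G := Subgroup.centralizer ((Subgroup.zpowers x : Subgroup G) : Set G) with hC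
  have hxC : x ∈ C := (mem_centralizer_zpowers_iff x x).mpr rfl
  -- `P' = ⟨x⟩` inside `C`
  set P' : Subgroup C := Subgroup.zpowers (⟨x, hxC⟩ : C) with hP'
  have hordx : orderOf (⟨x, hxC⟩ : C) = p := by
    rw [← hx]
    exact (Subgroup.orderOf_mk x hxC)
  have hcardP' : Nat.card P' = p := by rw [hP', Nat.card_zpowers, hordx]
  have hnorm : P'.Normal := by
    constructor
    intro y hy g
    obtain ⟨k, rfl⟩ := Subgroup.mem_zpowers_iff.mp hy
    have hg : (g : G) * x = x * g := (mem_centralizer_zpowers_iff x g).mp g.2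
    have h1 : Commute g (⟨x, hxC⟩ : C) := by
      apply Subtype.ext
      simpa using hg
    have h2 : g * (⟨x, hxC⟩ : C) ^ k * g⁻¹ = (⟨x, hxC⟩ : C) ^ k := by
      rw [(h1.zpow_right k).eq, mul_inv_cancel_right]
    rw [h2]
    exact Subgroup.zpow_mem _ (Subgroup.mem_zpowers _) k
  have hcop : (Nat.card P').Coprime P'.index := by
    rw [hcardP', Nat.Prime.coprime_iff_not_dvd hp]
    intro hdvd
    apply hsyl
    have h1 : p * p ∣ Nat.card P' * P'.index := by
      rw [hcardP']; exact Nat.mul_dvd_mul_left p hdvd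
    rw [Subgroup.card_mul_index] at h1
    rw [pow_two]
    exact h1.trans (Subgroup.card_subgroup_dvd_card C)
  obtain ⟨H, hH⟩ := Subgroup.exists_right_complement'_of_coprime hcop
  refine ⟨H.map C.subtype, ?_, ?_, ?_⟩
  · have h1 : Nat.card (H.map C.subtype) = Nat.card H :=
      Subgroup.card_map_of_injective C.subtype_injective
    rw [h1, ← hH.symm.index_eq_card, Nat.coprime_comm, ← hcardP']
    exact hcop
  · rintro v ⟨c, -, rfl⟩
    exact (mem_centralizer_zpowers_iff x c).mp c.2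
  · intro g hg
    have hgC : g ∈ C := (mem_centralizer_zpowers_iff x g).mpr hg
    obtain ⟨⟨a, b⟩, hab, -⟩ := hH.existsUnique (⟨g, hgC⟩ : C)
    obtain ⟨k, hk⟩ := Subgroup.mem_zpowers_iff.mp a.2
    have hfin : IsOfFinOrder (⟨x, hxC⟩ : C) := isOfFinOrder_of_finite _
    obtain ⟨i, hi⟩ := (hfin.mem_powers_iff_mem_zpowers).mpr a.2
    refine ⟨i, (b : C), ⟨b, b.2, rfl⟩, ?_⟩
    have h2 : ((a : C) : G) * ((b : C) : G) = g := by
      have := congrArg (Subtype.val) hab
      simpa using this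
    rw [← h2]
    congr 1
    have h3 := congrArg (Subtype.val) hi
    simpa using h3.symm


/-- `V₀` is normalised by the normaliser of `⟨x⟩`. -/
theorem normV_of_split [Finite G] (p : ℕ) [Fact p.Prime] (x : G) (hx : orderOf x = p)
    (V₀ : Subgroup G) (hcop : (Nat.card V₀).Coprime p) (hcomm : ∀ v ∈ V₀, v * x = x * v)
    (hcent : ∀ g : G, g * x = x * g → ∃ i : ℕ, ∃ v ∈ V₀, g = x ^ i * v)
    (n : G) (hn : n ∈ Subgroup.normalizer ((Subgroup.zpowers x : Subgroup G) : Set G))
    (v : G) (hv : v ∈ V₀) : n * v * n⁻¹ ∈ V₀ := by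
  have hp : p.Prime := Fact.out
  -- `n v n⁻¹` centralises `x`
  have h1 : (n * v * n⁻¹) * x = x * (n * v * n⁻¹) := by
    have hy : n⁻¹ * x * n⁻¹⁻¹ ∈ Subgroup.zpowers x :=
      (Subgroup.mem_normalizer_iff.mp (Subgroup.inv_mem _ hn) x).mp (Subgroup.mem_zpowers x)
    obtain ⟨k, hk⟩ := Subgroup.mem_zpowers_iff.mp hy
    have hvk : v * x ^ k = x ^ k * v := by
      have h2 : Commute v x := hcomm v hv
      exact (h2.zpow_right k).eq
    have hx' : x = n * x ^ k * n⁻¹ := by
      rw [hk]; group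
    calc (n * v * n⁻¹) * x = n * v * n⁻¹ * (n * x ^ k * n⁻¹) := by rw [← hx']
      _ = n * (v * x ^ k) * n⁻¹ := by group
      _ = n * (x ^ k * v) * n⁻¹ := by rw [hvk]
      _ = (n * x ^ k * n⁻¹) * (n * v * n⁻¹) := by group
      _ = x * (n * v * n⁻¹) := by rw [← hx']
  obtain ⟨i, w, hw, hiw⟩ := hcent _ h1
  set m := Nat.card V₀ with hm
  have hvm : v ^ m = 1 := by
    have h2 : (⟨v, hv⟩ : V₀) ^ Nat.card V₀ = 1 := pow_card_eq_one'
    have h3 := congrArg Subtype.val h2
    simpa only [Subgroup.coe_pow, Subgroup.coe_one] using h3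
  have hwm : w ^ m = 1 := by
    have h2 : (⟨w, hw⟩ : V₀) ^ Nat.card V₀ = 1 := pow_card_eq_one'
    have h3 := congrArg Subtype.val h2
    simpa only [Subgroup.coe_pow, Subgroup.coe_one] using h3
  have h4 : (n * v * n⁻¹) ^ m = 1 := by
    rw [conj_pow, hvm, mul_one, mul_inv_cancel]
  have h5 : (x ^ i * w) ^ m = x ^ (i * m) := by
    have hc0 : Commute w x := hcomm w hw
    have hc : Commute (x ^ i) w := (hc0.pow_right i).symm
    rw [hc.mul_pow, hwm, mul_one, pow_mul]
  rw [hiw, h5] at h4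
  have h6 : p ∣ i * m := by
    rw [← hx]; exact orderOf_dvd_of_pow_eq_one h4
  have h7 : p ∣ i := by
    rcases (Nat.Prime.dvd_mul hp).mp h6 with h | h
    · exact h
    · exfalso
      have := Nat.Coprime.eq_one_of_dvd hcop.symm h
      exact hp.one_lt.ne' this
  have h8 : x ^ i = 1 := by
    rw [← hx] at h7
    exact orderOf_dvd_iff_pow_eq_one.mp h7
  rw [hiw, h8, one_mul]
  exact hw


end

/-- **PK-LOC**. -/
theorem exists_localData {G : Type*} [Group G] [Finite G] (p : ℕ) [Fact p.Prime] (x : G)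
    (hx : orderOf x = p) (hsyl : ¬ p ^ 2 ∣ Nat.card G) :
    ∃ (h : G) (V₀ : Subgroup G) (f : ℕ), LocalData p x h V₀ f ∧
      f = (Subgroup.centralizer ((Subgroup.zpowers x : Subgroup G) : Set G)).relIndex
        (Subgroup.normalizer ((Subgroup.zpowers x : Subgroup G) : Set G)) := by
  classical
  have hp : p.Prime := Fact.out
  obtain ⟨V₀, hcop, hcomm, hcent⟩ := exists_split p x hx hsyl
  set P : Subgroup G := Subgroup.zpowers x with hP
  set φ := P.normalizerMonoidHom with hφ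
  have hker : φ.ker = (Subgroup.centralizer (P : Set G)).subgroupOf
      (Subgroup.normalizer (P : Set G)) := Subgroup.normalizerMonoidHom_ker P
  have hcardP : Nat.card P = p := by rw [hP, Nat.card_zpowers, hx]
  have hcycU : IsCyclic (ZMod (Nat.card P))ˣ := by rw [hcardP]; infer_instance
  have hcycA : IsCyclic (MulAut P) := (IsCyclic.mulAutMulEquiv P).isCyclic.mpr hcycU
  have hcycR : IsCyclic φ.range := inferInstance
  set f := Nat.card φ.range with hf
  have hfrel : f = (Subgroup.centralizer (P : Set G)).relIndex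
      (Subgroup.normalizer (P : Set G)) := by
    rw [hf, ← Subgroup.index_ker, hker]; rfl
  have hfdvd : f ∣ p - 1 := by
    have h1 : Nat.card φ.range ∣ Nat.card (MulAut P) := Subgroup.card_subgroup_dvd_card _
    rw [IsCyclic.card_mulAut, hcardP, Nat.totient_prime hp] at h1
    exact h1
  have hfpos : 0 < f := Nat.card_pos
  have hfcop : f.Coprime p := by
    rw [Nat.coprime_comm, Nat.Prime.coprime_iff_not_dvd hp]
    intro hpf
    have h1 : p ∣ p - 1 := hpf.trans hfdvd
    have h2 : p ≤ p - 1 := Nat.le_of_dvd (by have := hp.two_le; omega) h1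
    have := hp.two_le
    omega
  obtain ⟨g₀, hg₀⟩ := IsCyclic.exists_generator (α := φ.range)
  obtain ⟨g₁, hg₁⟩ := (powCoprime hfcop).surjective g₀
  have hg₁' : g₁ ^ p = g₀ := hg₁
  obtain ⟨n₁, hn₁⟩ := g₁.2
  have hφh : φ (n₁ ^ p) = (g₀ : MulAut P) := by
    rw [map_pow, hn₁, ← hg₁']; rfl
  have hmemker : ∀ c : Subgroup.normalizer (P : Set G), φ c = 1 → (c : G) * x = x * c := by
    intro c hc
    have h1 : c ∈ φ.ker := hc
    rw [hker, Subgroup.mem_subgroupOf] at h1
    exact (mem_centralizer_zpowers_iff x c).mp h1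
  refine ⟨((n₁ : G)) ^ p, V₀, f, ⟨hx, hsyl, hcop, hcomm, hcent, ?_, ?_, ?_, hfdvd, hfpos, ?_⟩, hfrel⟩
  · exact Subgroup.pow_mem _ n₁.2 p
  · intro n hn v hv
    exact normV_of_split p x hx V₀ hcop hcomm hcent n hn v hv
  · intro n hn
    set n' : Subgroup.normalizer (P : Set G) := ⟨n, hn⟩ with hn'
    have h1 : (⟨φ n', ⟨n', rfl⟩⟩ : φ.range) ∈ Subgroup.zpowers g₀ := hg₀ _
    have hfin : IsOfFinOrder g₀ := isOfFinOrder_of_finite _
    obtain ⟨j, hj⟩ := (hfin.mem_powers_iff_mem_zpowers).mpr h1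
    have hj' : (g₀ : MulAut P) ^ j = φ n' := by
      have := congrArg Subtype.val hj
      simpa only [Subgroup.coe_pow] using this
    have h2 : φ (((n₁ ^ p) ^ j)⁻¹ * n') = 1 := by
      rw [map_mul, map_inv, map_pow, hφh, hj', inv_mul_cancel]
    have h3 := hmemker _ h2
    refine ⟨j, (((n₁ : G) ^ p) ^ j)⁻¹ * n, ?_, by group⟩
    simpa using h3
  · -- `h ^ f ∈ V₀`
    have h1 : g₁ ^ f = 1 := pow_card_eq_one'
    have h2 : φ (n₁ ^ f) = 1 := by
      rw [map_pow, hn₁]
      have := congrArg Subtype.val h1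
      simpa only [Subgroup.coe_pow, Subgroup.coe_one] using this
    have h3 := hmemker _ h2
    obtain ⟨i, w, hw, hiw⟩ := hcent _ h3
    have h4 : ((n₁ : G) ^ p) ^ f = ((n₁ : G) ^ f) ^ p := by
      rw [← pow_mul, ← pow_mul, mul_comm]
    have h5 : ((n₁ ^ f : Subgroup.normalizer (P : Set G)) : G) = (n₁ : G) ^ f := by
      simp
    rw [h4, ← h5, hiw]
    have hc0 : Commute w x := hcomm w hw
    have hc : Commute (x ^ i) w := (hc0.pow_right i).symm
    rw [hc.mul_pow, ← pow_mul, mul_comm i p, pow_mul]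
    have h6 : x ^ p = 1 := by rw [← hx]; exact pow_orderOf_eq_one x
    rw [h6, one_pow, one_mul]
    exact Subgroup.pow_mem _ hw p

end Cfsg.Agent.Lib.Helper24_S4504_LOC
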