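import Mathlib
import Cfsg.Prelude.Def_Characters
import Cfsg.Prelude.Def_Blocks
import Cfsg.Agent.Lib.Helper57_ModDefs
import Cfsg.Agent.S4468
import Cfsg.Agent.Lib.Helper3_Brauer504B

/-!
# S4504 package PK-A3 (helper3): normal `p'`-subgroups centralize `x` (Itô, via S4468)
-/

set_option autoImplicit false

namespace Cfsg.Agent.Lib.Helper3_S4504_A3

open Cfsg Cfsg.Agent.Lib.Helper57_ModDefs

/-! ## PK-A3 : normal `p'`-subgroups centralize `x` (Ito, via S4468) -/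
theorem normal_p'_centralizes {G : Type*} [Group G] [Finite G] (p : ℕ) [Fact p.Prime]
    (hp5 : 5 ≤ p) (χ : G → ℂ) (hχ : Cfsg.IsCharacter G χ)
    (hfaith : ∀ g : G, χ g = χ 1 → g = 1) (hdeg : 2 * Cfsg.charDegree χ + 1 = p)
    (x : G) (hx : orderOf x = p) (hsq : ¬ p ^ 2 ∣ Nat.card G)
    (K : Subgroup G) (hKn : K.Normal) (hcop : (Nat.card K).Coprime p) :
    ∀ g ∈ K, g * x = x * g :=
  Cfsg.Agent.Lib.Helper3_Brauer504B.centralizes_of_normal_coprime hsq χ hχ hfaith (by omega) x hx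
    K hKn hcop

end Cfsg.Agent.Lib.Helper3_S4504_A3
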