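import Mathlib
import Cfsg.Prelude.Def_Characters
import Cfsg.Prelude.Def_Blocks
import Cfsg.Agent.Lib.Helper57_ModDefs

/-!
# S4504 package PK-A4 (helper3): `|N_G(⟨x⟩) : C_G(⟨x⟩)| ≤ n` for a faithful representation of
degree `n` and `x` of prime order `p`.

`ρ x` is semisimple of order `p`, so it has an eigenvalue `μ ≠ 1`, a primitive `p`-th root of unity,
with eigenvector `v`.  For `g` in the normalizer, `g x g⁻¹ = x ^ m(g)` and `ρ g⁻¹ v` is an eigenvector
of `ρ x` for `μ ^ m(g)`.  Representatives of the cosets of the centralizer give distinct eigenvalues,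
hence linearly independent eigenvectors.
-/

set_option autoImplicit false

namespace Cfsg.Agent.Lib.Helper3_S4504_A4

open Cfsg Cfsg.Agent.Lib.Helper57_ModDefs

/-- A linear endomorphism of finite prime order `p` of a finite-dimensional complex vector space,
different from `1`, has an eigenvalue `≠ 1`. -/
theorem exists_eigenvalue_ne_one {V : Type*} [AddCommGroup V] [Module ℂ V] [FiniteDimensional ℂ V]
    (T : Module.End ℂ V) (p : ℕ) (hp : p ≠ 0) (hTp : T ^ p = 1) (hT1 : T ≠ 1) :
    ∃ μ : ℂ, μ ≠ 1 ∧ T.HasEigenvalue μ := by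
  have hsep : (Polynomial.X ^ p - 1 : Polynomial ℂ).Separable :=
    Polynomial.X_pow_sub_one_separable_iff.mpr (by exact_mod_cast hp)
  have hss : T.IsSemisimple :=
    Module.End.isSemisimple_of_squarefree_aeval_eq_zero hsep.squarefree (by simp [hTp])
  by_contra hcon
  push Not at hcon
  apply hT1
  have htop : T.eigenspace 1 = ⊤ := by
    rw [← hss.iSup_eigenspace_eq_top]
    refine le_antisymm (le_iSup _ 1) (iSup_le fun μ => ?_)
    rcases eq_or_ne μ 1 with rfl | hμ
    · exact le_refl _
    · have : ¬ T.HasEigenvalue μ := fun h => hcon μ hμ h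
      rw [Module.End.HasEigenvalue, Module.End.HasUnifEigenvalue, not_not] at this
      rw [Module.End.eigenspace, this]
      exact bot_le
  ext w
  have : w ∈ T.eigenspace 1 := by rw [htop]; trivial
  rw [Module.End.mem_eigenspace_iff] at this
  simpa using this

/-! ## PK-A4 : `|N_G(P) : C_G(P)| ≤ n` for a faithful representation of degree `n` -/
theorem relIndex_le {G : Type*} [Group G] [Finite G] (p : ℕ) [Fact p.Prime] (n : ℕ)
    (ρ : Representation ℂ G (Fin n → ℂ)) (hfaith : ∀ g : G, ρ g = 1 → g = 1)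
    (x : G) (hx : orderOf x = p) :
    (Subgroup.centralizer ((Subgroup.zpowers x : Subgroup G) : Set G)).relIndex
      (Subgroup.normalizer ((Subgroup.zpowers x : Subgroup G) : Set G)) ≤ n := by
  have hp : p.Prime := Fact.out
  set T : Module.End ℂ (Fin n → ℂ) := ρ x with hT
  have hTp : T ^ p = 1 := by
    rw [hT, ← map_pow, ← hx, pow_orderOf_eq_one, map_one]
  have hT1 : T ≠ 1 := by
    intro h
    have := hfaith x h
    rw [this, orderOf_one] at hx
    exact hp.ne_one hx.symm
  obtain ⟨μ, hμ1, hμ⟩ := exists_eigenvalue_ne_one T p hp.ne_zero hTp hT1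
  obtain ⟨v, hv⟩ := hμ.exists_hasEigenvector
  -- `μ` has order `p`
  have hμp : μ ^ p = 1 := by
    have h1 : (T ^ p) v = μ ^ p • v := hv.pow_apply p
    rw [hTp, Module.End.one_apply] at h1
    have h2 : (μ ^ p - 1) • v = 0 := by rw [sub_smul, one_smul, ← h1, sub_self]
    rcases smul_eq_zero.mp h2 with h | h
    · exact sub_eq_zero.mp h
    · exact absurd h hv.2
  have hμo : orderOf μ = p := orderOf_eq_prime hμp hμ1
  have hμ0 : μ ≠ 0 := by
    rintro rfl
    rw [zero_pow hp.ne_zero] at hμp
    exact zero_ne_one hμp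
  set N : Subgroup G := Subgroup.normalizer ((Subgroup.zpowers x : Subgroup G) : Set G) with hN
  set C : Subgroup G := Subgroup.centralizer ((Subgroup.zpowers x : Subgroup G) : Set G) with hC
  -- exponents
  have hex : ∀ g : ↥N, ∃ m : ℕ, x ^ m = (g : G) * x * (g : G)⁻¹ := by
    intro g
    have h1 : (g : G) * x * (g : G)⁻¹ ∈ Subgroup.zpowers x :=
      (Subgroup.mem_normalizer_iff.mp g.2 x).mp (Subgroup.mem_zpowers x)
    rw [← mem_powers_iff_mem_zpowers] at h1
    exact (Submonoid.mem_powers_iff _ _).mp h1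
  choose m hm using hex
  -- eigenvectors
  have heig : ∀ g : ↥N, T.HasEigenvector (μ ^ m g) (ρ (g : G)⁻¹ v) := by
    intro g
    refine ⟨?_, ?_⟩
    · rw [Module.End.mem_eigenspace_iff]
      have h1 : T (ρ (g : G)⁻¹ v) = ρ (g : G)⁻¹ ((T ^ m g) v) := by
        rw [hT, ← map_pow, hm g]
        rw [← Module.End.mul_apply, ← Module.End.mul_apply, ← map_mul, ← map_mul]
        congr 2
        group
      rw [h1, hv.pow_apply, map_smul]
    · intro h0
      apply hv.2
      have : ρ (g : G) (ρ (g : G)⁻¹ v) = 0 := by rw [h0, map_zero]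
      rwa [← Module.End.mul_apply, ← map_mul, mul_inv_cancel, map_one, Module.End.one_apply]
        at this
  -- the index type
  let ι := ↥N ⧸ C.subgroupOf N
  have : Fintype ι := Fintype.ofFinite ι
  let μs : ι → ℂ := fun i => μ ^ m i.out
  let vs : ι → (Fin n → ℂ) := fun i => ρ ((i.out : ↥N) : G)⁻¹ v
  have hinj : Function.Injective μs := by
    intro i j hij
    have h0 : μ ^ m i.out = μ ^ m j.out := hij
    have h1 : (Units.mk0 μ hμ0) ^ m i.out = (Units.mk0 μ hμ0) ^ m j.out := by
      apply Units.ext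
      rw [Units.val_pow_eq_pow_val, Units.val_pow_eq_pow_val]
      exact h0
    rw [pow_eq_pow_iff_modEq, ← orderOf_units, Units.val_mk0, hμo, ← hx, ← pow_eq_pow_iff_modEq,
      hm, hm] at h1
    rw [← QuotientGroup.out_eq' i, ← QuotientGroup.out_eq' j, QuotientGroup.eq,
      Subgroup.mem_subgroupOf]
    refine Subgroup.mem_centralizer_iff.mpr ?_
    set a : G := ((Quotient.out i : ↥N) : G) with ha
    set b : G := ((Quotient.out j : ↥N) : G) with hb
    have hcomm : x * (a⁻¹ * b) = (a⁻¹ * b) * x := by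
      have : a⁻¹ * (a * x * a⁻¹) * b = a⁻¹ * (b * x * b⁻¹) * b := by rw [h1]
      have h2 : a⁻¹ * (a * x * a⁻¹) * b = x * (a⁻¹ * b) := by group
      have h3 : a⁻¹ * (b * x * b⁻¹) * b = (a⁻¹ * b) * x := by group
      rw [h2, h3] at this
      exact this
    intro y hy
    obtain ⟨k, rfl⟩ := Subgroup.mem_zpowers_iff.mp hy
    have : Commute x (a⁻¹ * b) := hcomm
    simpa using (this.zpow_left k).eq
  have hli : LinearIndependent ℂ vs :=
    Module.End.eigenvectors_linearIndependent' T μs hinj vs (fun i => heig i.out)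
  have hle := hli.fintype_card_le_finrank
  rw [Module.finrank_fin_fun] at hle
  have hidx : C.relIndex N = Fintype.card ι := by
    rw [Subgroup.relIndex, Subgroup.index, Nat.card_eq_fintype_card]
  rw [hidx]
  exact hle

end Cfsg.Agent.Lib.Helper3_S4504_A4
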