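import Mathlib

/-!
# S4504 package A9 (helper57's market, second wave): the final isomorphism

`G = Γ V₀` with `V₀ = Z(G)`, `φ : Γ → PSL₂(p)` onto with kernel `Γ ∩ V₀`:  `G / Z(G) ≃* PSL₂(p)`.
-/

set_option autoImplicit false

namespace Cfsg.Agent.Lib.Helper55_S4504_A9

theorem final_iso {G : Type*} [Group G] (p : ℕ) (x : G) (V₀ : Subgroup G)
    (hcenter : Subgroup.center G = V₀)
    (φ : ↥(Subgroup.normalClosure ({x} : Set G)) →*
      Matrix.ProjectiveSpecialLinearGroup (Fin 2) (ZMod p))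
    (hφ : Function.Surjective φ) (hker : ∀ g, φ g = 1 ↔ (g : G) ∈ V₀)
    (hmul : ∀ g : G, ∃ g₀ ∈ Subgroup.normalClosure ({x} : Set G), ∃ v ∈ V₀, g = g₀ * v) :
    Nonempty ((G ⧸ Subgroup.center G) ≃*
      Matrix.ProjectiveSpecialLinearGroup (Fin 2) (ZMod p)) := by
  classical
  -- the chosen decomposition
  let g0 : G → G := fun g => Classical.choose (hmul g)
  have hg0 : ∀ g, g0 g ∈ Subgroup.normalClosure ({x} : Set G) :=
    fun g => (Classical.choose_spec (hmul g)).1
  have hg0v : ∀ g, ∃ v ∈ V₀, g = g0 g * v := fun g => (Classical.choose_spec (hmul g)).2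
  -- independence of the decomposition
  have hwd : ∀ (a b : ↥(Subgroup.normalClosure ({x} : Set G))) (v w : G), v ∈ V₀ → w ∈ V₀ →
      (a : G) * v = (b : G) * w → φ a = φ b := by
    intro a b v w hv hw h
    have h1 : ((b⁻¹ * a : ↥(Subgroup.normalClosure ({x} : Set G))) : G) = w * v⁻¹ := by
      push_cast
      calc (b : G)⁻¹ * (a : G) = (b : G)⁻¹ * ((a : G) * v) * v⁻¹ := by group
        _ = (b : G)⁻¹ * ((b : G) * w) * v⁻¹ := by rw [h]
        _ = w * v⁻¹ := by group
    have h2 : φ (b⁻¹ * a) = 1 := by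
      rw [hker, h1]
      exact V₀.mul_mem hw (V₀.inv_mem hv)
    rw [map_mul, map_inv] at h2
    have h3 := congrArg (fun y => φ b * y) h2
    simpa [mul_assoc] using h3
  have hcentral : ∀ v ∈ V₀, ∀ g : G, g * v = v * g := by
    intro v hv g
    rw [← hcenter] at hv
    exact Subgroup.mem_center_iff.mp hv g
  let ψ : G →* Matrix.ProjectiveSpecialLinearGroup (Fin 2) (ZMod p) :=
    { toFun := fun g => φ ⟨g0 g, hg0 g⟩
      map_one' := by
        obtain ⟨v, hv, hv1⟩ := hg0v 1
        have h1 : (((⟨g0 1, hg0 1⟩ : ↥(Subgroup.normalClosure ({x} : Set G))) : G)) * v =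
            ((1 : ↥(Subgroup.normalClosure ({x} : Set G))) : G) * 1 := by
          simp only [Subgroup.coe_one, mul_one]
          exact hv1.symm
        rw [hwd _ _ v 1 hv V₀.one_mem h1, map_one]
      map_mul' := by
        intro g h
        obtain ⟨v, hv, hgv⟩ := hg0v g
        obtain ⟨w, hw, hhw⟩ := hg0v h
        obtain ⟨u, hu, hghu⟩ := hg0v (g * h)
        rw [← map_mul]
        apply hwd _ _ u (v * w) hu (V₀.mul_mem hv hw)
        show g0 (g * h) * u = (g0 g * g0 h) * (v * w)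
        rw [← hghu]
        calc g * h = (g0 g * v) * (g0 h * w) := by rw [← hgv, ← hhw]
          _ = g0 g * (v * g0 h) * w := by group
          _ = g0 g * (g0 h * v) * w := by rw [hcentral v hv (g0 h)]
          _ = (g0 g * g0 h) * (v * w) := by group }
  have hψ : ∀ g, ψ g = φ ⟨g0 g, hg0 g⟩ := fun g => rfl
  have hsurj : Function.Surjective ψ := by
    intro y
    obtain ⟨a, rfl⟩ := hφ y
    refine ⟨(a : G), ?_⟩
    rw [hψ]
    obtain ⟨v, hv, hav⟩ := hg0v (a : G)
    apply hwd _ _ v 1 hv V₀.one_mem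
    show g0 (a : G) * v = (a : G) * 1
    rw [mul_one]
    exact hav.symm
  have hkerψ : ψ.ker = Subgroup.center G := by
    ext g
    rw [MonoidHom.mem_ker, hψ, hker, hcenter]
    obtain ⟨v, hv, hgv⟩ := hg0v g
    show g0 g ∈ V₀ ↔ g ∈ V₀
    constructor
    · intro h
      rw [hgv]
      exact V₀.mul_mem h hv
    · intro h
      have : g0 g = g * v⁻¹ := eq_mul_inv_of_mul_eq hgv.symm
      rw [this]
      exact V₀.mul_mem h (V₀.inv_mem hv)
  exact ⟨(QuotientGroup.quotientMulEquivOfEq hkerψ.symm).trans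
    (QuotientGroup.quotientKerEquivOfSurjective ψ hsurj)⟩

end Cfsg.Agent.Lib.Helper55_S4504_A9
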