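import Mathlib

/-!
# S4504 package RED (helper57's market): reduction mod `p`

A complex representation of degree `n` of a finite group `G` which is faithful (on characters) gives a
representation of the same degree over a finite field of characteristic `p` whose kernel is a
`p`-group.

Route: a valuation subring `B` of `ℂ` with `p` in its maximal ideal (Chevalley); the `B`-lattice spanned
by the `ρ g e_i` is finitely generated and torsion-free, hence free (Bezout + local), of rank `n`; in a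
`B`-basis the matrices have entries in `B`; the `ℤ`-algebra `A` they generate is of finite type and `p`
is not a unit of it, so a maximal ideal `𝔮 ∋ p` has a finite residue field (Jacobson ring argument); an
element `h` of prime order `r ≠ p` in the kernel has matrix `a` with `(1 + a + ... + a^(r-1)) (a - 1) = 0`
where the first factor has determinant `≡ r^n ≠ 0` mod `𝔮`, so `a = 1`.
-/

set_option autoImplicit false
set_option linter.style.haveILetI false

namespace Cfsg.Agent.Lib.Helper55_S4504_RED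

open scoped Classical
open Module

/-- A valuation subring of `ℂ` in which `p` is a non-unit. -/
theorem exists_valSub (p : ℕ) [Fact p.Prime] :
    ∃ B : ValuationSubring ℂ, (p : ℂ) ∈ B.nonunits := by
  let A : Subring ℂ := (Int.castRingHom ℂ).range
  have hpA : (p : ℂ) ∈ A := ⟨(p : ℤ), by simp⟩
  let I : Ideal A := Ideal.span {⟨(p : ℂ), hpA⟩}
  have hI : I ≠ ⊤ := by
    intro h
    rw [Ideal.span_singleton_eq_top] at h
    obtain ⟨⟨y, hy⟩, hy1⟩ := isUnit_iff_exists_inv.mp h
    obtain ⟨z, rfl⟩ := hy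
    have h1 : ((p : ℤ) * z : ℂ) = 1 := by
      have := congrArg Subtype.val hy1
      simpa using this
    have h2 : (p : ℤ) * z = 1 := by exact_mod_cast h1
    have h3 : (p : ℤ) ∣ 1 := ⟨z, h2.symm⟩
    have h4 : (p : ℕ) ∣ 1 := by exact_mod_cast h3
    have := (Fact.out : p.Prime).one_lt
    have := Nat.le_of_dvd one_pos h4
    omega
  obtain ⟨B, hAB, hB⟩ := Ideal.image_subset_nonunits_valuationSubring I hI
  refine ⟨B, hB ⟨⟨(p : ℂ), hpA⟩, ?_, rfl⟩⟩
  exact Ideal.subset_span rfl

/-- A basis of `ℂ^n` in which all `ρ g` have coordinates in the valuation subring `B`. -/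
theorem exists_integral_basis {G : Type*} [Group G] [Finite G] (n : ℕ)
    (ρ : Representation ℂ G (Fin n → ℂ)) (B : ValuationSubring ℂ) :
    ∃ b : Basis (Fin n) ℂ (Fin n → ℂ), ∀ g i j, b.repr (ρ g (b j)) i ∈ B := by
  -- the lattice
  let S : Set (Fin n → ℂ) := Set.range fun x : G × Fin n => ρ x.1 (Pi.single x.2 1)
  have hSfin : S.Finite := Set.finite_range _
  let L : Submodule B (Fin n → ℂ) := Submodule.span B S
  have : Module.Finite B L := Module.Finite.span_of_finite B hSfin
  have htf : Submodule.torsion B L = ⊥ := by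
    rw [eq_bot_iff]
    rintro ⟨l, hl⟩ ⟨⟨r, hr⟩, h⟩
    have hr0 : (r : ℂ) ≠ 0 := by
      intro h0
      have : r = 0 := Subtype.ext h0
      exact (nonZeroDivisors.ne_zero hr) this
    have h1 : (r : ℂ) • l = 0 := by
      have := congrArg Subtype.val h
      simpa using this
    have h2 : l = 0 := by
      rcases smul_eq_zero.mp h1 with h3 | h3
      · exact absurd h3 hr0
      · exact h3
    simp [h2]
  have : Module.Flat B L := Module.Flat.flat_iff_torsion_eq_bot_of_isBezout.mpr htf
  have : Module.Free B L := Module.free_of_flat_of_isLocalRing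
  -- stability
  have hstab : ∀ g : G, ∀ l ∈ L, ρ g l ∈ L := by
    intro g l hl
    have h1 : L.map ((ρ g).restrictScalars B) ≤ L := by
      rw [Submodule.map_span]
      apply Submodule.span_le.mpr
      rintro _ ⟨_, ⟨⟨h, i⟩, rfl⟩, rfl⟩
      apply Submodule.subset_span
      exact ⟨(g * h, i), by simp [map_mul]⟩
    exact h1 ⟨l, hl, rfl⟩
  have hstd : ∀ i : Fin n, (Pi.single i 1 : Fin n → ℂ) ∈ L := by
    intro i
    apply Submodule.subset_span
    exact ⟨(1, i), by simp⟩
  -- the basis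
  obtain ⟨m, hm⟩ : ∃ m, m = finrank B L := ⟨_, rfl⟩
  let b0 : Basis (Fin m) B L := Module.finBasisOfFinrankEq B L hm.symm
  let b' : Fin m → (Fin n → ℂ) := fun i => (b0 i : Fin n → ℂ)
  have hliB : LinearIndependent B b' :=
    b0.linearIndependent.map' L.subtype (Submodule.ker_subtype L)
  have hli : LinearIndependent ℂ b' := (LinearIndependent.iff_fractionRing B ℂ).mp hliB
  have hLspan : L = Submodule.span B (Set.range b') := by
    have h1 : Submodule.map L.subtype (Submodule.span B (Set.range b0)) =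
        Submodule.span B (Set.range b') := by
      rw [Submodule.map_span, ← Set.range_comp]
      rfl
    rw [← h1, b0.span_eq, Submodule.map_top, Submodule.range_subtype]
  have hLle : ∀ l ∈ L, l ∈ Submodule.span ℂ (Set.range b') := by
    intro l hl
    rw [hLspan] at hl
    exact Submodule.span_le_restrictScalars B ℂ _ hl
  have hsp : ⊤ ≤ Submodule.span ℂ (Set.range b') := by
    rw [← (Pi.basisFun ℂ (Fin n)).span_eq]
    apply Submodule.span_le.mpr
    rintro _ ⟨i, rfl⟩
    simpa using hLle _ (hstd i)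
  let b1 : Basis (Fin m) ℂ (Fin n → ℂ) := Basis.mk hli hsp
  have hmn : m = n := by
    have h1 := Module.finrank_eq_card_basis b1
    simpa using h1.symm
  have hb1 : ∀ i, b1 i = b' i := fun i => by simp [b1]
  -- coordinates of lattice vectors
  have hcoord : ∀ l ∈ L, ∀ j, b1.repr l j ∈ B := by
    intro l hl j
    have h1 : l = ∑ i, ((b0.repr ⟨l, hl⟩ i : B) : ℂ) • b1 i := by
      have h2 := b0.sum_repr ⟨l, hl⟩
      have h3 : ((∑ i, (b0.repr ⟨l, hl⟩) i • b0 i : L) : Fin n → ℂ) = l :=
        congrArg Subtype.val h2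
      refine h3.symm.trans ?_
      simp only [hb1, b']
      rw [Submodule.coe_sum]
      rfl
    have h4 : (b1.repr l : Fin m → ℂ) = fun i => ((b0.repr ⟨l, hl⟩ i : B) : ℂ) := by
      conv_lhs => rw [h1]
      exact b1.repr_sum_self _
    rw [congrFun h4 j]
    exact (b0.repr ⟨l, hl⟩ j).2
  subst hmn
  refine ⟨b1, fun g i j => ?_⟩
  apply hcoord
  apply hstab
  rw [hb1]
  exact (b0 j).2

theorem charP_of_natCast_eq_zero (p : ℕ) [Fact p.Prime] (k : Type*) [Field k]
    (h0 : ((p : ℕ) : k) = 0) : CharP k p := by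
  obtain ⟨q, hq⟩ := CharP.exists k
  have h1 : q ∣ p := (CharP.cast_eq_zero_iff k q p).mp h0
  have h2 : q ≠ 1 := CharP.char_ne_one k q
  rcases (Nat.dvd_prime (Fact.out : p.Prime)).mp h1 with h3 | h3
  · exact absurd h3 h2
  · rw [← h3]; exact hq

/-- A finitely generated subring of `ℂ` in which `p` is not a unit has a finite residue field of
characteristic `p`. -/
theorem exists_finite_quotient (p : ℕ) [Fact p.Prime] (A : Subalgebra ℤ ℂ) (hfg : A.FG)
    (hp : ¬ IsUnit ((p : ℕ) : A)) :
    ∃ (𝔮 : Ideal A) (_ : 𝔮.IsMaximal), ((p : ℕ) : A) ∈ 𝔮 ∧ Finite (A ⧸ 𝔮) := by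
  have hI : Ideal.span {((p : ℕ) : A)} ≠ ⊤ := by
    rw [Ne, Ideal.span_singleton_eq_top]
    exact hp
  obtain ⟨𝔮, hmax, hle⟩ := Ideal.exists_le_maximal _ hI
  have hpq : ((p : ℕ) : A) ∈ 𝔮 := hle (Ideal.subset_span rfl)
  refine ⟨𝔮, hmax, hpq, ?_⟩
  haveI := hmax
  letI : Field (A ⧸ 𝔮) := Ideal.Quotient.field 𝔮
  have h0 : ((p : ℕ) : A ⧸ 𝔮) = 0 := by
    have := Ideal.Quotient.eq_zero_iff_mem.mpr hpq
    simpa using this
  haveI : CharP (A ⧸ 𝔮) p := charP_of_natCast_eq_zero p _ h0
  letI : Algebra (ZMod p) (A ⧸ 𝔮) := ZMod.algebra _ p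
  haveI : Algebra.FiniteType ℤ A := (Subalgebra.fg_iff_finiteType A).mp hfg
  haveI : Algebra.FiniteType ℤ (A ⧸ 𝔮) :=
    Algebra.FiniteType.of_surjective (Ideal.Quotient.mkₐ ℤ 𝔮) (Ideal.Quotient.mkₐ_surjective ℤ 𝔮)
  haveI : Algebra.FiniteType (ZMod p) (A ⧸ 𝔮) :=
    Algebra.FiniteType.of_restrictScalars_finiteType ℤ (ZMod p) (A ⧸ 𝔮)
  haveI : Module.Finite (ZMod p) (A ⧸ 𝔮) := finite_of_finite_type_of_isJacobsonRing _ _
  exact Module.finite_of_finite (ZMod p)

/-- A matrix of finite order `r` over a domain which is `1` modulo a prime not containing `r`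
is `1`. -/
theorem eq_one_of_map_eq_one {A : Type*} [CommRing A] [IsDomain A] {k : Type*} [Field k]
    (π : A →+* k) {n : ℕ} (a : Matrix (Fin n) (Fin n) A) (r : ℕ) (hr : ((r : ℕ) : k) ≠ 0)
    (har : a ^ r = 1) (hπ : π.mapMatrix a = 1) : a = 1 := by
  obtain ⟨u, hu⟩ : ∃ u, u = ∑ j ∈ Finset.range r, a ^ j := ⟨_, rfl⟩
  have h1 : u * (a - 1) = 0 := by
    rw [hu, geom_sum_mul, har, sub_self]
  have h2 : π.mapMatrix u = (r : k) • (1 : Matrix (Fin n) (Fin n) k) := by
    rw [hu, map_sum]
    simp only [map_pow, hπ, one_pow]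
    rw [Finset.sum_const, Finset.card_range, Nat.cast_smul_eq_nsmul]
  have h3 : π u.det = (r : k) ^ n := by
    rw [RingHom.map_det, h2, Matrix.det_smul, Matrix.det_one]
    simp
  have h4 : u.det ≠ 0 := by
    intro h0
    rw [h0, map_zero] at h3
    exact pow_ne_zero n hr h3.symm
  have h5 : u.det • (a - 1) = 0 := by
    have : u.adjugate * (u * (a - 1)) = 0 := by rw [h1, mul_zero]
    rw [← mul_assoc, Matrix.adjugate_mul, Matrix.smul_mul, one_mul] at this
    exact this
  have h6 : a - 1 = 0 := by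
    ext i j
    have := congrFun (congrFun h5 i) j
    simp only [Matrix.smul_apply, smul_eq_mul, Matrix.zero_apply] at this
    rcases mul_eq_zero.mp this with h7 | h7
    · exact absurd h7 h4
    · exact h7
  exact sub_eq_zero.mp h6

/-- Group-theoretic reduction: if the elements of prime order `r ≠ p` of a subgroup-like set
closed under powers are trivial, the orders are powers of `p`. -/
theorem exists_pow_of_no_prime {G : Type*} [Group G] [Finite G] (p : ℕ) [Fact p.Prime]
    (K : Subgroup G)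
    (hK : ∀ h ∈ K, ∀ r : ℕ, r.Prime → r ≠ p → orderOf h = r → False) (g : G) (hg : g ∈ K) :
    ∃ m : ℕ, orderOf g = p ^ m := by
  have ho : orderOf g ≠ 0 := (orderOf_pos g).ne'
  obtain ⟨e, s, hs, hes⟩ :=
    Nat.exists_eq_pow_mul_and_not_dvd ho p (Fact.out : p.Prime).ne_one
  by_cases hs1 : s = 1
  · exact ⟨e, by rw [hes, hs1, mul_one]⟩
  · exfalso
    obtain ⟨r, hr, hrs⟩ := Nat.exists_prime_and_dvd hs1
    have hrp : r ≠ p := by
      rintro rfl
      exact hs hrs
    have hro : r ∣ orderOf g := by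
      rw [hes]
      exact Dvd.dvd.mul_left hrs _
    exact hK (g ^ (orderOf g / r)) (K.pow_mem hg _) r hr hrp (orderOf_pow_orderOf_div ho hro)

theorem exists_mod_rep {G : Type*} [Group G] [Finite G] (p : ℕ) [Fact p.Prime] (n : ℕ)
    (ρ : Representation ℂ G (Fin n → ℂ))
    (hfaith : ∀ g : G, ρ.character g = ρ.character 1 → g = 1) :
    ∃ (k : Type) (_ : Field k) (_ : Fintype k) (_ : CharP k p)
      (σ : Representation k G (Fin n → k)), ∀ g : G, σ g = 1 → ∃ m : ℕ, orderOf g = p ^ m := by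
  obtain ⟨B, hpB⟩ := exists_valSub p
  obtain ⟨b, hb⟩ := exists_integral_basis n ρ B
  -- complex matrices
  let MC : G →* Matrix (Fin n) (Fin n) ℂ :=
    ((LinearMap.toMatrixAlgEquiv b).toRingEquiv.toMonoidHom).comp ρ
  have hMC : ∀ g i j, MC g i j = b.repr (ρ g (b j)) i := fun g i j => by
    simp [MC, LinearMap.toMatrixAlgEquiv_apply]
  have hMCinj : ∀ g, MC g = 1 → ρ g = 1 := by
    intro g hg
    have h1 : (LinearMap.toMatrixAlgEquiv b) (ρ g) = (LinearMap.toMatrixAlgEquiv b) 1 := by
      rw [map_one]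
      exact hg
    exact (LinearMap.toMatrixAlgEquiv b).injective h1
  let S : Set ℂ := Set.range fun x : G × Fin n × Fin n => MC x.1 x.2.1 x.2.2
  have hSfin : S.Finite := Set.finite_range _
  let A : Subalgebra ℤ ℂ := Algebra.adjoin ℤ S
  have hfg : A.FG := by
    obtain ⟨s, hs⟩ := hSfin.exists_finset_coe
    have : A = Algebra.adjoin ℤ (↑s : Set ℂ) := by rw [hs]
    rw [this]
    exact Subalgebra.fg_adjoin_finset s
  have hAB : ∀ x ∈ A, x ∈ B := by
    intro x hx
    induction hx using Algebra.adjoin_induction with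
    | mem x hx =>
      obtain ⟨⟨g, i, j⟩, rfl⟩ := hx
      show MC g i j ∈ B
      rw [hMC]
      exact hb g i j
    | algebraMap r => exact intCast_mem B r
    | add x y _ _ hx hy => exact B.add_mem _ _ hx hy
    | mul x y _ _ hx hy => exact B.mul_mem _ _ hx hy
  have hpA : ¬ IsUnit ((p : ℕ) : A) := by
    intro hu
    obtain ⟨y, hy⟩ := isUnit_iff_exists_inv.mp hu
    have h1 : (p : ℂ) * (y : ℂ) = 1 := by
      have := congrArg Subtype.val hy
      simpa using this
    have h2 : B.valuation (p : ℂ) < 1 := (B.mem_nonunits_iff).mp hpB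
    have h3 : B.valuation (y : ℂ) ≤ 1 := (B.valuation_le_one_iff _).mpr (hAB _ y.2)
    have h4 : B.valuation ((p : ℂ) * y) < 1 := by
      rw [map_mul]
      calc B.valuation (p : ℂ) * B.valuation (y : ℂ) ≤ B.valuation (p : ℂ) * 1 :=
            mul_le_mul' le_rfl h3
        _ = B.valuation (p : ℂ) := mul_one _
        _ < 1 := h2
    rw [h1, map_one] at h4
    exact lt_irrefl _ h4
  obtain ⟨𝔮, hmax, hpq, hfin⟩ := exists_finite_quotient p A hfg hpA
  haveI := hmax
  letI : Field (A ⧸ 𝔮) := Ideal.Quotient.field 𝔮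
  have h0 : ((p : ℕ) : A ⧸ 𝔮) = 0 := by
    have := Ideal.Quotient.eq_zero_iff_mem.mpr hpq
    simpa using this
  haveI hchar : CharP (A ⧸ 𝔮) p := charP_of_natCast_eq_zero p _ h0
  -- matrices over `A`
  let MAf : G → Matrix (Fin n) (Fin n) A := fun g =>
    Matrix.of fun i j => ⟨MC g i j, Algebra.subset_adjoin ⟨(g, i, j), rfl⟩⟩
  have hval : ∀ g, (A.val.toRingHom.mapMatrix) (MAf g) = MC g := by
    intro g
    ext i j
    rfl
  have hinj : Function.Injective (A.val.toRingHom.mapMatrix (m := Fin n)) := by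
    intro x y hxy
    ext i j
    have := congrFun (congrFun hxy i) j
    exact this
  let MA : G →* Matrix (Fin n) (Fin n) A :=
    { toFun := MAf
      map_one' := by
        apply hinj
        rw [hval, map_one, map_one]
      map_mul' := fun g h => by
        apply hinj
        rw [hval, map_mul, map_mul, hval, hval] }
  let π : A →+* A ⧸ 𝔮 := Ideal.Quotient.mk 𝔮
  let Mk : G →* Matrix (Fin n) (Fin n) (A ⧸ 𝔮) := (π.mapMatrix.toMonoidHom).comp MA
  let σ : Representation (A ⧸ 𝔮) G (Fin n → A ⧸ 𝔮) :=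
    ((Matrix.toLinAlgEquiv' (R := A ⧸ 𝔮) (n := Fin n)).toRingEquiv.toMonoidHom).comp Mk
  have hσ : ∀ g, σ g = 1 → Mk g = 1 := by
    intro g hg
    have h1 : (Matrix.toLinAlgEquiv' (R := A ⧸ 𝔮) (n := Fin n)) (Mk g) =
        (Matrix.toLinAlgEquiv' (R := A ⧸ 𝔮) (n := Fin n)) 1 := by
      rw [map_one]
      exact hg
    exact (Matrix.toLinAlgEquiv' (R := A ⧸ 𝔮) (n := Fin n)).injective h1
  refine ⟨A ⧸ 𝔮, Ideal.Quotient.field 𝔮, Fintype.ofFinite _, hchar, σ, ?_⟩
  intro g hg
  refine exists_pow_of_no_prime p (MonoidHom.ker Mk) ?_ g (hσ g hg)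
  intro h hh r hr hrp hor
  have hh1 : Mk h = 1 := hh
  have hrk : ((r : ℕ) : A ⧸ 𝔮) ≠ 0 := by
    intro h1
    have h2 : p ∣ r := (CharP.cast_eq_zero_iff (A ⧸ 𝔮) p r).mp h1
    exact hrp ((Nat.prime_dvd_prime_iff_eq (Fact.out : p.Prime) hr).mp h2).symm
  have hpow : (MA h) ^ r = 1 := by
    rw [← map_pow, ← hor, pow_orderOf_eq_one, map_one]
  have hMA1 : MA h = 1 := eq_one_of_map_eq_one π (MA h) r hrk hpow hh1
  have hMC1 : MC h = 1 := by
    rw [← hval h]
    have : MAf h = 1 := hMA1
    rw [this, map_one]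
  have hρ1 : ρ h = 1 := hMCinj h hMC1
  have hh : h = 1 := by
    apply hfaith
    unfold Representation.character
    rw [hρ1, map_one ρ]
  rw [hh, orderOf_one] at hor
  exact hr.one_lt.ne' hor.symm

end Cfsg.Agent.Lib.Helper55_S4504_RED
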