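import Mathlib
import Cfsg.Prelude.Def_Characters
import Cfsg.Prelude.Def_Blocks

/-!
# S4504, package PK-A1 (helper57): `5 ≤ p`
-/

set_option autoImplicit false

namespace Cfsg.Agent.Lib.Helper57_S4504_A1

open Cfsg

theorem five_le {G : Type*} [Group G] [Finite G] (p : ℕ) (hp : p.Prime) (hdiv : p ∣ Nat.card G)
    (hsq : ¬ p ^ 2 ∣ Nat.card G) (hnn : ∀ H : Subgroup G, H.Normal → Nat.card H ≠ p)
    (χ : G → ℂ) (hχ : Cfsg.IsCharacter G χ) (hfaith : ∀ g : G, χ g = χ 1 → g = 1)
    (hdeg : 2 * Cfsg.charDegree χ + 1 = p) : 5 ≤ p := by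
  classical
  by_contra hlt
  push Not at hlt
  have h2 : 2 ≤ p := hp.two_le
  have hp3 : p = 3 := by
    rcases (show p = 2 ∨ p = 3 ∨ p = 4 by omega) with h | h | h
    · omega
    · exact h
    · exfalso
      rw [h] at hp
      exact absurd hp (by decide)
  have hd1 : Cfsg.charDegree χ = 1 := by omega
  obtain ⟨n, ρ, hρ⟩ := hχ
  have hχ1 : χ 1 = (n : ℂ) := by
    rw [← hρ, Representation.char_one, Module.finrank_pi, Fintype.card_fin]
  have hn : Cfsg.charDegree χ = n := by
    unfold Cfsg.charDegree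
    rw [hχ1]
    simp
  have hn1 : n = 1 := by omega
  subst hn1
  have hρfaith : ∀ g : G, ρ g = 1 → g = 1 := by
    intro g hg
    apply hfaith
    rw [← hρ]
    show LinearMap.trace ℂ _ (ρ g) = LinearMap.trace ℂ _ (ρ 1)
    rw [hg, ρ.map_one]
  -- endomorphisms of a 1-dimensional space commute
  have hcommEnd : ∀ A B : Module.End ℂ (Fin 1 → ℂ), A * B = B * A := by
    intro A B
    apply LinearMap.ext
    intro v
    have hv : ∀ (C : Module.End ℂ (Fin 1 → ℂ)) (w : Fin 1 → ℂ), C w = (C (fun _ => 1) 0 * w 0) • (fun _ => (1 : ℂ)) := by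
      intro C w
      have hw : w = (w 0) • (fun _ : Fin 1 => (1 : ℂ)) := by
        funext i
        have : i = 0 := Subsingleton.elim _ _
        subst this
        simp
      conv_lhs => rw [hw]
      rw [map_smul]
      funext i
      have : i = 0 := Subsingleton.elim _ _
      subst this
      simp [mul_comm]
    rw [Module.End.mul_apply, Module.End.mul_apply]
    rw [hv A (B v), hv B v, hv B (A v), hv A v]
    funext i
    simp
    ring
  have hab : ∀ a b : G, a * b = b * a := by
    intro a b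
    have h1 : ρ (a * b * a⁻¹ * b⁻¹) = 1 := by
      rw [map_mul, map_mul, map_mul, hcommEnd (ρ a) (ρ b), mul_assoc (ρ b), ← map_mul ρ a,
        mul_inv_cancel, map_one, mul_one, ← map_mul, mul_inv_cancel, map_one]
    have h2 := hρfaith _ h1
    have : a * b = (a * b * a⁻¹ * b⁻¹) * (b * a) := by group
    rw [this, h2, one_mul]
  have : Fact p.Prime := ⟨hp⟩
  obtain ⟨x, hx⟩ := exists_prime_orderOf_dvd_card' p hdiv
  have hnorm : (Subgroup.zpowers x).Normal := by
    refine ⟨fun y hy g => ?_⟩
    rw [hab g y, mul_inv_cancel_right]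
    exact hy
  exact hnn _ hnorm (by rw [Nat.card_zpowers, hx])

end Cfsg.Agent.Lib.Helper57_S4504_A1
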