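import Mathlib
import Cfsg.Prelude.Def_Characters
import Cfsg.Prelude.Def_Blocks
import Cfsg.Agent.Lib.Helper3_S4504_A4

/-!
# S4504, package PK-A8 (helper57): `V₀` is central
-/

set_option autoImplicit false

namespace Cfsg.Agent.Lib.Helper57_S4504_A8

open Cfsg

/-- If `T` has a basis of eigenvectors with pairwise distinct eigenvalues, every eigenspace is a
line. -/
theorem eigen_line {V : Type*} [AddCommGroup V] [Module ℂ V] {ι : Type*} [Fintype ι]
    (T : Module.End ℂ V) (b : Module.Basis ι ℂ V) (μs : ι → ℂ) (hinj : Function.Injective μs)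
    (hb : ∀ i, T (b i) = μs i • b i) (lam : ℂ) (u u' : V) (hu : T u = lam • u) (hu0 : u ≠ 0)
    (hu' : T u' = lam • u') : ∃ c : ℂ, u' = c • u := by
  classical
  have key : ∀ w : V, T w = lam • w → ∀ j, b.repr w j * (μs j - lam) = 0 := by
    intro w hw j
    have h1 : b.repr (T w) j = μs j * b.repr w j := by
      conv_lhs => rw [← b.sum_repr w]
      rw [map_sum, map_sum, Finsupp.finsetSum_apply]
      simp_rw [map_smul, hb, map_smul, Finsupp.smul_apply, Module.Basis.repr_self,
        Finsupp.single_apply, smul_eq_mul]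
      rw [Finset.sum_eq_single j]
      · simp [mul_comm]
      · intro i _ hij
        simp [hij]
      · intro h
        exact absurd (Finset.mem_univ j) h
    rw [hw, map_smul, Finsupp.smul_apply, smul_eq_mul] at h1
    rw [mul_sub, mul_comm _ (μs j), ← h1]
    ring
  obtain ⟨j₁, hj₁⟩ : ∃ j, b.repr u j ≠ 0 := by
    by_contra hne
    push Not at hne
    apply hu0
    apply b.repr.injective
    ext j
    rw [hne j]
    simp
  have hlam : lam = μs j₁ := by
    have := key u hu j₁
    rcases mul_eq_zero.mp this with h | h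
    · exact absurd h hj₁
    · exact (sub_eq_zero.mp h).symm
  have hz : ∀ w : V, T w = lam • w → w = b.repr w j₁ • b j₁ := by
    intro w hw
    conv_lhs => rw [← b.sum_repr w]
    rw [Finset.sum_eq_single j₁]
    · intro i _ hij
      have := key w hw i
      rcases mul_eq_zero.mp this with h | h
      · rw [h, zero_smul]
      · exfalso
        apply hij
        apply hinj
        rw [← hlam]
        exact sub_eq_zero.mp h
    · intro h
      exact absurd (Finset.mem_univ j₁) h
  obtain ⟨a, ha0, ha⟩ : ∃ a : ℂ, a ≠ 0 ∧ u = a • b j₁ := ⟨_, hj₁, hz u hu⟩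
  obtain ⟨a', ha'⟩ : ∃ a' : ℂ, u' = a' • b j₁ := ⟨_, hz u' hu'⟩
  refine ⟨a' / a, ?_⟩
  rw [ha, ha', smul_smul, div_mul_cancel₀ _ ha0]

theorem V₀_central {G : Type*} [Group G] [Finite G] (p : ℕ) [Fact p.Prime] (n : ℕ)
    (ρ : Representation ℂ G (Fin n → ℂ)) (hfaith : ∀ g : G, ρ g = 1 → g = 1)
    (hn : 2 * n + 1 = p) (x : G) (hx : orderOf x = p) (V₀ N₀ : Subgroup G)
    (hV₀ : ∀ v ∈ V₀, v * x = x * v)
    (hN₀ : N₀ ≤ Subgroup.normalizer ((Subgroup.zpowers x : Subgroup G) : Set G))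
    (hN₀V : ∀ g ∈ N₀, ∀ v ∈ V₀, g * v = v * g)
    (hidx : 2 * (Subgroup.centralizer ((Subgroup.zpowers x : Subgroup G) : Set G)).relIndex N₀
      = p - 1) :
    V₀ ≤ Subgroup.center G := by
  classical
  have hp : p.Prime := Fact.out
  set T : Module.End ℂ (Fin n → ℂ) := ρ x with hT
  have hTp : T ^ p = 1 := by
    rw [hT, ← map_pow, ← hx, pow_orderOf_eq_one, map_one]
  have hT1 : T ≠ 1 := by
    intro h
    have := hfaith x h
    rw [this, orderOf_one] at hx
    exact hp.ne_one hx.symm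
  obtain ⟨μ, hμ1, hμ⟩ :=
    Cfsg.Agent.Lib.Helper3_S4504_A4.exists_eigenvalue_ne_one T p hp.ne_zero hTp hT1
  obtain ⟨v, hv⟩ := hμ.exists_hasEigenvector
  have hμp : μ ^ p = 1 := by
    have h1 : (T ^ p) v = μ ^ p • v := hv.pow_apply p
    rw [hTp, Module.End.one_apply] at h1
    have h2 : (μ ^ p - 1) • v = 0 := by rw [sub_smul, one_smul, ← h1, sub_self]
    rcases smul_eq_zero.mp h2 with h | h
    · exact sub_eq_zero.mp h
    · exact absurd h hv.2
  have hμo : orderOf μ = p := orderOf_eq_prime hμp hμ1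
  have hμ0 : μ ≠ 0 := by
    rintro rfl
    rw [zero_pow hp.ne_zero] at hμp
    exact zero_ne_one hμp
  set C : Subgroup G := Subgroup.centralizer ((Subgroup.zpowers x : Subgroup G) : Set G) with hC
  have hex : ∀ g : ↥N₀, ∃ m : ℕ, x ^ m = (g : G) * x * (g : G)⁻¹ := by
    intro g
    have h1 : (g : G) * x * (g : G)⁻¹ ∈ Subgroup.zpowers x :=
      (Subgroup.mem_normalizer_iff.mp (hN₀ g.2) x).mp (Subgroup.mem_zpowers x)
    rw [← mem_powers_iff_mem_zpowers] at h1
    exact (Submonoid.mem_powers_iff _ _).mp h1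
  choose m hm using hex
  have heig : ∀ g : ↥N₀, T.HasEigenvector (μ ^ m g) (ρ (g : G)⁻¹ v) := by
    intro g
    refine ⟨?_, ?_⟩
    · rw [Module.End.mem_eigenspace_iff]
      have h1 : T (ρ (g : G)⁻¹ v) = ρ (g : G)⁻¹ ((T ^ m g) v) := by
        rw [hT, ← map_pow, hm g]
        rw [← Module.End.mul_apply, ← Module.End.mul_apply, ← map_mul, ← map_mul]
        congr 2
        group
      rw [h1, hv.pow_apply, map_smul]
    · intro h0
      apply hv.2
      have : ρ (g : G) (ρ (g : G)⁻¹ v) = 0 := by rw [h0, map_zero]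
      rwa [← Module.End.mul_apply, ← map_mul, mul_inv_cancel, map_one, Module.End.one_apply]
        at this
  let ι := ↥N₀ ⧸ C.subgroupOf N₀
  have : Fintype ι := Fintype.ofFinite ι
  let μs : ι → ℂ := fun i => μ ^ m i.out
  let vs : ι → (Fin n → ℂ) := fun i => ρ ((i.out : ↥N₀) : G)⁻¹ v
  have hinj : Function.Injective μs := by
    intro i j hij
    have h0 : μ ^ m i.out = μ ^ m j.out := hij
    have h1 : (Units.mk0 μ hμ0) ^ m i.out = (Units.mk0 μ hμ0) ^ m j.out := by
      apply Units.ext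
      rw [Units.val_pow_eq_pow_val, Units.val_pow_eq_pow_val]
      exact h0
    rw [pow_eq_pow_iff_modEq, ← orderOf_units, Units.val_mk0, hμo, ← hx, ← pow_eq_pow_iff_modEq,
      hm, hm] at h1
    rw [← QuotientGroup.out_eq' i, ← QuotientGroup.out_eq' j, QuotientGroup.eq,
      Subgroup.mem_subgroupOf]
    refine Subgroup.mem_centralizer_iff.mpr ?_
    set a : G := ((Quotient.out i : ↥N₀) : G) with ha
    set b : G := ((Quotient.out j : ↥N₀) : G) with hb
    have hcomm : x * (a⁻¹ * b) = (a⁻¹ * b) * x := by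
      have : a⁻¹ * (a * x * a⁻¹) * b = a⁻¹ * (b * x * b⁻¹) * b := by rw [h1]
      have h2 : a⁻¹ * (a * x * a⁻¹) * b = x * (a⁻¹ * b) := by group
      have h3 : a⁻¹ * (b * x * b⁻¹) * b = (a⁻¹ * b) * x := by group
      rw [h2, h3] at this
      exact this
    intro y hy
    obtain ⟨k, rfl⟩ := Subgroup.mem_zpowers_iff.mp hy
    have : Commute x (a⁻¹ * b) := hcomm
    simpa using (this.zpow_left k).eq
  have hli : LinearIndependent ℂ vs :=
    Module.End.eigenvectors_linearIndependent' T μs hinj vs (fun i => heig i.out)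
  have hcard : Fintype.card ι = n := by
    have h1 : C.relIndex N₀ = Fintype.card ι := by
      rw [Subgroup.relIndex, Subgroup.index, Nat.card_eq_fintype_card]
    omega
  have hfr : Fintype.card ι = Module.finrank ℂ (Fin n → ℂ) := by
    rw [Module.finrank_fin_fun, hcard]
  let b : Module.Basis ι ℂ (Fin n → ℂ) := basisOfLinearIndependentOfCardEqFinrank hli hfr
  have hbv : ∀ i, b i = vs i := fun i => by
    simp [b]
  have hbT : ∀ i, T (b i) = μs i • b i := by
    intro i
    rw [hbv]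
    exact Module.End.mem_eigenspace_iff.mp (heig i.out).1
  intro w hw
  -- `ρ w` commutes with `T`
  have hcommT : ρ w * T = T * ρ w := by
    rw [hT, ← map_mul, ← map_mul, hV₀ w hw]
  have hTv : T v = μ • v := Module.End.mem_eigenspace_iff.mp hv.1
  have hTwv : T (ρ w v) = μ • ρ w v := by
    rw [← Module.End.mul_apply, ← hcommT, Module.End.mul_apply, hTv, map_smul]
  obtain ⟨c, hc⟩ := eigen_line T b μs hinj hbT μ v (ρ w v) hTv hv.2 hTwv
  -- `ρ w` is the scalar `c`
  have hscal : ρ w = c • (1 : Module.End ℂ (Fin n → ℂ)) := by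
    apply b.ext
    intro i
    rw [hbv, LinearMap.smul_apply, Module.End.one_apply]
    show ρ w (ρ ((i.out : ↥N₀) : G)⁻¹ v) = c • ρ ((i.out : ↥N₀) : G)⁻¹ v
    have hgw : ((i.out : ↥N₀) : G)⁻¹ * w = w * ((i.out : ↥N₀) : G)⁻¹ := by
      have := hN₀V _ (i.out : ↥N₀).2 w hw
      calc ((i.out : ↥N₀) : G)⁻¹ * w
          = ((i.out : ↥N₀) : G)⁻¹ * (w * ((i.out : ↥N₀) : G)) * ((i.out : ↥N₀) : G)⁻¹ := by group
        _ = ((i.out : ↥N₀) : G)⁻¹ * (((i.out : ↥N₀) : G) * w) * ((i.out : ↥N₀) : G)⁻¹ := by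
            rw [this]
        _ = w * ((i.out : ↥N₀) : G)⁻¹ := by group
    rw [← Module.End.mul_apply, ← map_mul, ← hgw, map_mul, Module.End.mul_apply, hc, map_smul]
  rw [Subgroup.mem_center_iff]
  intro g
  have h1 : ρ (g * w * g⁻¹ * w⁻¹) = 1 := by
    have hwi : ρ w⁻¹ = c⁻¹ • (1 : Module.End ℂ (Fin n → ℂ)) := by
      have hc0 : c ≠ 0 := by
        rintro rfl
        rw [zero_smul] at hscal
        have h2 : ρ (w * w⁻¹) = 0 := by rw [map_mul, hscal, zero_mul]
        rw [mul_inv_cancel, map_one] at h2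
        have h3 : (1 : Module.End ℂ (Fin n → ℂ)) v = 0 := by rw [h2]; rfl
        exact hv.2 h3
      have h2 : ρ w * ρ w⁻¹ = 1 := by rw [← map_mul, mul_inv_cancel, map_one]
      rw [hscal, smul_mul_assoc, one_mul] at h2
      calc ρ w⁻¹ = c⁻¹ • (c • ρ w⁻¹) := by rw [smul_smul, inv_mul_cancel₀ hc0, one_smul]
        _ = c⁻¹ • 1 := by rw [h2]
    have hc0 : c ≠ 0 := by
      rintro rfl
      rw [zero_smul] at hscal
      have h2 : ρ (w * w⁻¹) = 0 := by rw [map_mul, hscal, zero_mul]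
      rw [mul_inv_cancel, map_one] at h2
      have h3 : (1 : Module.End ℂ (Fin n → ℂ)) v = 0 := by rw [h2]; rfl
      exact hv.2 h3
    have hg : ρ g * ρ g⁻¹ = 1 := by rw [← map_mul, mul_inv_cancel, map_one]
    rw [map_mul, map_mul, map_mul, hscal, hwi]
    simp only [mul_smul_comm, smul_mul_assoc, mul_one, smul_smul, hg]
    rw [inv_mul_cancel₀ hc0, one_smul]
  have h2 := hfaith _ h1
  calc g * w = (g * w * g⁻¹ * w⁻¹) * (w * g) := by group
    _ = w * g := by rw [h2, one_mul]

end Cfsg.Agent.Lib.Helper57_S4504_A8
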