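import Mathlib
import Cfsg.Prelude.Def_Classical
import Cfsg.Agent.Lib.Helper44_Orth
import Cfsg.Agent.Lib.Helper44_StdForms
import Cfsg.Agent.Lib.Helper44_OmegaOdd
import Cfsg.Agent.Lib.Helper44_Levi
import Cfsg.Agent.Lib.Helper5_SLGen

set_option autoImplicit false
set_option linter.unusedSectionVars false

/-!
The adjoint representation `SL₂(F) → O(x₀² + x₁y₁)` on trace-zero matrices (helper5).
-/

namespace Cfsg.Agent.Lib.Helper5_AdjSL2

open Matrix Cfsg Cfsg.Agent.Lib.Helper44_Orth Cfsg.Agent.Lib.Helper44_StdForms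

variable {F : Type*} [Field F]

/-- the index type of the 3-dimensional form -/
abbrev I3 : Type := Unit ⊕ (Fin 1 ⊕ Fin 1)

/-- vectors to trace-zero matrices -/
def phi : (I3 → F) →ₗ[F] Matrix (Fin 2) (Fin 2) F where
  toFun v := !![v (Sum.inl ()), v (Sum.inr (Sum.inl 0)); v (Sum.inr (Sum.inr 0)), - v (Sum.inl ())]
  map_add' v w := by
    ext i j
    fin_cases i <;> fin_cases j <;> simp
    ring
  map_smul' c v := by
    ext i j
    fin_cases i <;> fin_cases j <;> simp

/-- matrices to vectors -/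
def psi : Matrix (Fin 2) (Fin 2) F →ₗ[F] (I3 → F) where
  toFun X := Sum.elim (fun _ => X 0 0) (Sum.elim (fun _ => X 0 1) (fun _ => X 1 0))
  map_add' X Y := by
    ext i
    rcases i with i | i | i <;> simp
  map_smul' c X := by
    ext i
    rcases i with i | i | i <;> simp

lemma phi_apply (v : I3 → F) :
    phi v = !![v (Sum.inl ()), v (Sum.inr (Sum.inl 0)); v (Sum.inr (Sum.inr 0)), - v (Sum.inl ())] := rfl

lemma psi_phi (v : I3 → F) : psi (phi v) = v := by
  ext i
  rcases i with i | i | i
  · simp [psi, phi]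
  · have : i = 0 := Subsingleton.elim _ _
    subst this
    simp [psi, phi]
  · have : i = 0 := Subsingleton.elim _ _
    subst this
    simp [psi, phi]

lemma trace_phi (v : I3 → F) : (phi v).trace = 0 := by
  rw [Matrix.trace_fin_two, phi_apply]
  simp

lemma phi_psi (X : Matrix (Fin 2) (Fin 2) F) (h : X.trace = 0) : phi (psi X) = X := by
  rw [Matrix.trace_fin_two] at h
  ext i j
  fin_cases i <;> fin_cases j <;> simp [psi, phi]
  linear_combination -h

lemma det_phi (v : I3 → F) : (phi v).det = - Cfsg.quadFormOdd 1 F v := by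
  rw [phi_apply, Matrix.det_fin_two_of]
  simp [Cfsg.quadFormOdd]
  ring

/-- conjugation by `g` as a linear map on matrices -/
def conjLin (g : SpecialLinearGroup (Fin 2) F) : Matrix (Fin 2) (Fin 2) F →ₗ[F] Matrix (Fin 2) (Fin 2) F where
  toFun X := (g : Matrix (Fin 2) (Fin 2) F) * X * ((g⁻¹ : SpecialLinearGroup (Fin 2) F) : Matrix (Fin 2) (Fin 2) F)
  map_add' X Y := by rw [Matrix.mul_add, Matrix.add_mul]
  map_smul' c X := by simp

lemma conjLin_apply (g : SpecialLinearGroup (Fin 2) F) (X : Matrix (Fin 2) (Fin 2) F) :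
    conjLin g X = (g : Matrix (Fin 2) (Fin 2) F) * X * ((g⁻¹ : SpecialLinearGroup (Fin 2) F) : Matrix (Fin 2) (Fin 2) F) := rfl

lemma coe_mul_coe_inv (g : SpecialLinearGroup (Fin 2) F) :
    (g : Matrix (Fin 2) (Fin 2) F) * ((g⁻¹ : SpecialLinearGroup (Fin 2) F) : Matrix (Fin 2) (Fin 2) F) = 1 := by
  exact congrArg (fun x : SpecialLinearGroup (Fin 2) F => x.1) (mul_inv_cancel g)

lemma coe_inv_mul_coe (g : SpecialLinearGroup (Fin 2) F) :
    ((g⁻¹ : SpecialLinearGroup (Fin 2) F) : Matrix (Fin 2) (Fin 2) F) * (g : Matrix (Fin 2) (Fin 2) F) = 1 := by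
  exact congrArg (fun x : SpecialLinearGroup (Fin 2) F => x.1) (inv_mul_cancel g)

lemma trace_conjLin (g : SpecialLinearGroup (Fin 2) F) (X : Matrix (Fin 2) (Fin 2) F) :
    (conjLin g X).trace = X.trace := by
  rw [conjLin_apply, Matrix.trace_mul_cycle, coe_inv_mul_coe, Matrix.one_mul]

lemma det_conjLin (g : SpecialLinearGroup (Fin 2) F) (X : Matrix (Fin 2) (Fin 2) F) :
    (conjLin g X).det = X.det := by
  rw [conjLin_apply, Matrix.det_mul, Matrix.det_mul, g.2, (g⁻¹).2]
  ring

lemma conjLin_mul (g h : SpecialLinearGroup (Fin 2) F) (X : Matrix (Fin 2) (Fin 2) F) :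
    conjLin (g * h) X = conjLin g (conjLin h X) := by
  rw [conjLin_apply, conjLin_apply, conjLin_apply, _root_.mul_inv_rev]
  show (g.1 * h.1) * X * ((h⁻¹).1 * (g⁻¹).1) = g.1 * (h.1 * X * (h⁻¹).1) * (g⁻¹).1
  simp only [Matrix.mul_assoc]

lemma conjLin_one (X : Matrix (Fin 2) (Fin 2) F) : conjLin 1 X = X := by
  simp [conjLin_apply]

/-- the adjoint action on vectors -/
def L (g : SpecialLinearGroup (Fin 2) F) : (I3 → F) →ₗ[F] (I3 → F) :=
  psi ∘ₗ conjLin g ∘ₗ phi

lemma L_apply (g : SpecialLinearGroup (Fin 2) F) (v : I3 → F) : L g v = psi (conjLin g (phi v)) := rfl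

lemma phi_L (g : SpecialLinearGroup (Fin 2) F) (v : I3 → F) : phi (L g v) = conjLin g (phi v) := by
  rw [L_apply, phi_psi]
  rw [trace_conjLin, trace_phi]

lemma L_mul (g h : SpecialLinearGroup (Fin 2) F) : L (g * h) = L g ∘ₗ L h := by
  refine LinearMap.ext fun v => ?_
  rw [LinearMap.comp_apply, L_apply, conjLin_mul, ← phi_L h v, ← L_apply]

lemma L_one : L (1 : SpecialLinearGroup (Fin 2) F) = LinearMap.id := by
  refine LinearMap.ext fun v => ?_
  rw [L_apply, conjLin_one, psi_phi, LinearMap.id_apply]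

lemma Q_L (g : SpecialLinearGroup (Fin 2) F) (v : I3 → F) :
    Cfsg.quadFormOdd 1 F (L g v) = Cfsg.quadFormOdd 1 F v := by
  have h1 := det_phi (L g v)
  rw [phi_L, det_conjLin, det_phi] at h1
  exact neg_injective h1.symm

lemma toMatrix'_L_mul (g h : SpecialLinearGroup (Fin 2) F) :
    LinearMap.toMatrix' (L g) * LinearMap.toMatrix' (L h) = LinearMap.toMatrix' (L (g * h)) := by
  rw [L_mul, LinearMap.toMatrix'_comp]

/-- The adjoint representation as a homomorphism into the isometry group. -/
def rho : SpecialLinearGroup (Fin 2) F →* ↥(Cfsg.isometryGroup F (⇑(qfOdd 1 F))) where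
  toFun g := ⟨⟨LinearMap.toMatrix' (L g), LinearMap.toMatrix' (L g⁻¹),
      by rw [toMatrix'_L_mul, mul_inv_cancel, L_one, LinearMap.toMatrix'_id],
      by rw [toMatrix'_L_mul, inv_mul_cancel, L_one, LinearMap.toMatrix'_id]⟩, by
    rw [mem_isometryGroup_iff]
    intro u
    show qfOdd 1 F (LinearMap.toMatrix' (L g) *ᵥ u) = qfOdd 1 F u
    rw [LinearMap.toMatrix'_mulVec, coe_qfOdd, Q_L]⟩
  map_one' := by
    apply Subtype.ext
    apply Units.ext
    show LinearMap.toMatrix' (L (1 : SpecialLinearGroup (Fin 2) F)) = 1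
    rw [L_one, LinearMap.toMatrix'_id]
  map_mul' g h := by
    apply Subtype.ext
    apply Units.ext
    show LinearMap.toMatrix' (L (g * h)) = LinearMap.toMatrix' (L g) * LinearMap.toMatrix' (L h)
    rw [toMatrix'_L_mul]

lemma rho_coe (g : SpecialLinearGroup (Fin 2) F) :
    ((rho g : Matrix.GeneralLinearGroup I3 F) : Matrix I3 I3 F) = LinearMap.toMatrix' (L g) := rfl

lemma rho_mulVec (g : SpecialLinearGroup (Fin 2) F) (v : I3 → F) :
    ((rho g : Matrix.GeneralLinearGroup I3 F) : Matrix I3 I3 F) *ᵥ v = L g v := by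
  rw [rho_coe, LinearMap.toMatrix'_mulVec]

/-- The kernel of the adjoint representation is the centre. -/
theorem ker_rho : (rho (F := F)).ker = Subgroup.center (SpecialLinearGroup (Fin 2) F) := by
  ext g
  rw [MonoidHom.mem_ker]
  constructor
  · intro h
    have hL : ∀ v, L g v = v := by
      intro v
      rw [← rho_mulVec, h]
      show (1 : Matrix I3 I3 F) *ᵥ v = v
      rw [Matrix.one_mulVec]
    have hcomm : ∀ v : I3 → F, g.1 * phi v = phi v * g.1 := by
      intro v
      have h1 := phi_L g v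
      rw [hL v, conjLin_apply] at h1
      have h2 : phi v * g.1 = g.1 * phi v * (g⁻¹).1 * g.1 := by rw [← h1]
      rw [Matrix.mul_assoc, coe_inv_mul_coe, Matrix.mul_one] at h2
      exact h2.symm
    have h12 := hcomm (Pi.single (Sum.inr (Sum.inl 0)) 1)
    have h21 := hcomm (Pi.single (Sum.inr (Sum.inr 0)) 1)
    rw [phi_apply] at h12 h21
    simp only [Pi.single_apply] at h12 h21
    have e1 := congrFun (congrFun h12 0) 0
    have e2 := congrFun (congrFun h12 0) 1
    have e3 := congrFun (congrFun h21 0) 0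
    simp [Matrix.mul_apply, Fin.sum_univ_two] at e1 e2 e3
    -- g = [[α, β],[γ, δ]] with γ = 0, α = δ, β = 0
    rw [Subgroup.mem_center_iff]
    intro k
    apply Subtype.ext
    show k.1 * g.1 = g.1 * k.1
    have hg : g.1 = g.1 0 0 • (1 : Matrix (Fin 2) (Fin 2) F) := by
      ext i j
      fin_cases i <;> fin_cases j <;> simp [Matrix.smul_apply, Matrix.one_apply]
      · exact e3
      · exact e1.symm
      · exact e2.symm
    rw [hg]
    simp
  · intro h
    rw [Subgroup.mem_center_iff] at h
    apply Subtype.ext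
    apply Units.ext
    show LinearMap.toMatrix' (L g) = 1
    have : L g = LinearMap.id := by
      refine LinearMap.ext fun v => ?_
      rw [LinearMap.id_apply]
      have h1 : phi (L g v) = phi v := by
        rw [phi_L, conjLin_apply]
        obtain ⟨r, -, hr⟩ := Matrix.SpecialLinearGroup.mem_center_iff.mp (Subgroup.mem_center_iff.mpr h)
        have hg : g.1 = r • (1 : Matrix (Fin 2) (Fin 2) F) := by
          rw [← hr]
          ext i j
          simp [Matrix.scalar_apply, Matrix.diagonal_apply, Matrix.one_apply]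
        have : g.1 * phi v = phi v * g.1 := by rw [hg]; simp
        rw [this, Matrix.mul_assoc, coe_mul_coe_inv, Matrix.mul_one]
      have := congrArg psi h1
      rwa [psi_phi, psi_phi] at this
    rw [this, LinearMap.toMatrix'_id]

/-- In odd characteristic the image of the adjoint representation lies in `Ω`. -/
theorem rho_mem_omega [Fintype F] (h2 : (2 : F) ≠ 0)
    (hQ : (QuadraticMap.polarBilin (qfOdd 1 F)).Nondegenerate) (g : SpecialLinearGroup (Fin 2) F) :
    rho g ∈ Cfsg.Omega F (⇑(qfOdd 1 F)) := by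
  obtain ⟨p, hp⟩ := CharP.exists F
  have hpp : p.Prime := CharP.char_is_prime F p
  have hpodd : Odd p := by
    rcases hpp.eq_two_or_odd' with h | h
    · exfalso
      apply h2
      have : ((p : ℕ) : F) = 0 := CharP.cast_eq_zero F p
      rw [h] at this
      exact_mod_cast this
    · exact h
  refine Cfsg.Agent.Lib.Helper5_SLGen.transvection_induction
    (fun A => rho A ∈ Cfsg.Omega F (⇑(qfOdd 1 F))) ?_ ?_ g
  · intro i j hij c
    apply Cfsg.Agent.Lib.Helper44_OmegaOdd.mem_omega_of_pow_eq_one h2 (qfOdd 1 F) hQ _ hpodd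
    rw [← map_pow]
    have : (SpecialLinearGroup.transvection hij c) ^ p = 1 := by
      apply Matrix.SpecialLinearGroup.ext
      intro i' j'
      rw [Matrix.SpecialLinearGroup.coe_pow, Matrix.SpecialLinearGroup.coe_one]
      have : ((SpecialLinearGroup.transvection hij c : Matrix.SpecialLinearGroup (Fin 2) F) :
          Matrix (Fin 2) (Fin 2) F) = Matrix.transvection i j c := rfl
      rw [this, Cfsg.Agent.Lib.Helper44_Levi.transvection_pow 2 F i j hij c p, CharP.cast_eq_zero F p, zero_mul,
        Matrix.transvection_zero]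
    rw [this, map_one]
  · intro A B hA hB
    show rho (A * B) ∈ _
    rw [map_mul]
    exact Subgroup.mul_mem _ hA hB

end Cfsg.Agent.Lib.Helper5_AdjSL2
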