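import Mathlib
import Cfsg.Prelude.Def_Classical
import Cfsg.Agent.Lib.Helper44_Orth
import Cfsg.Agent.Lib.Helper44_Refl
import Cfsg.Agent.Lib.Helper44_Spinor
import Cfsg.Agent.Lib.Helper44_OmegaOdd
import Cfsg.Agent.Lib.Helper44_OmegaAll
import Cfsg.Agent.Lib.Helper14_OrthChars

set_option autoImplicit false
set_option linter.unusedSectionVars false

/-!
The index of `Ω = [O, O]` in the isometry group `O(Q)` over a finite field: `4` in odd characteristic
(dimension at least two), `2` in characteristic two (helper5; uses helper44's and helper14's criteria).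
-/

namespace Cfsg.Agent.Lib.Helper5_OmegaIndex

open Matrix Cfsg Cfsg.Agent.Lib.Helper44_Orth Cfsg.Agent.Lib.Helper44_Refl
  Cfsg.Agent.Lib.Helper44_Spinor Cfsg.Agent.Lib.Helper44_OmegaOdd Cfsg.Agent.Lib.Helper44_OmegaAll
  Cfsg.Agent.Lib.Helper14_OrthChars

variable {ι : Type} [Fintype ι] [DecidableEq ι] {F : Type*} [Field F] [Fintype F]

/-- In odd characteristic and dimension at least two, `Ω` has index four in `O(Q)`. -/
theorem index_omega_odd (h2 : (2 : F) ≠ 0) (Q : QuadraticForm F (ι → F))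
    (hQ : (QuadraticMap.polarBilin Q).Nondegenerate) (hn : 2 ≤ Fintype.card ι) :
    (Cfsg.Omega F (⇑Q)).index = 4 := by
  classical
  set ψ : ↥(Cfsg.isometryGroup F (⇑Q)) →* ℤˣ × ℤˣ := (detSign h2 Q hQ).prod (theta Q) with hψ
  have hker : ψ.ker = Cfsg.Omega F (⇑Q) := by
    ext g
    rw [MonoidHom.mem_ker, mem_omega_iff_det_theta h2 Q hQ, hψ, MonoidHom.prod_apply, Prod.mk_eq_one,
      detSign_apply]
    constructor
    · rintro ⟨h1, h3⟩
      refine ⟨?_, h3⟩
      by_contra hdet
      rw [if_neg hdet] at h1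
      exact absurd h1 (by decide)
    · rintro ⟨h1, h3⟩
      exact ⟨by rw [if_pos h1], h3⟩
  obtain ⟨a, ha1⟩ := exists_norm_eq h2 Q hQ hn 1
  obtain ⟨ε, hε⟩ := FiniteField.exists_nonsquare (F := F) (by
    intro hc
    apply h2
    have : ((2 : ℕ) : F) = 0 := by
      rw [← hc]; exact CharP.cast_eq_zero F (ringChar F)
    exact_mod_cast this)
  obtain ⟨b, hbε⟩ := exists_norm_eq h2 Q hQ hn ε
  have ha : Q a ≠ 0 := by rw [ha1]; exact one_ne_zero
  have hb : Q b ≠ 0 := by
    rw [hbε]; rintro rfl; exact hε ⟨0, by simp⟩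
  have hψa : ψ (refl Q a ha) = (-1, -1) := by
    rw [hψ, MonoidHom.prod_apply, detSign_refl, (theta_refl Q h2 a ha).1 (by rw [ha1]; exact ⟨1, by simp⟩)]
  have hψb : ψ (refl Q b hb) = (-1, 1) := by
    rw [hψ, MonoidHom.prod_apply, detSign_refl, (theta_refl Q h2 b hb).2 (by rw [hbε]; exact hε)]
  have hsurj : Function.Surjective ψ := by
    rintro ⟨u, v⟩
    rcases Int.units_eq_one_or u with rfl | rfl <;> rcases Int.units_eq_one_or v with rfl | rfl
    · exact ⟨1, map_one ψ⟩
    · refine ⟨refl Q a ha * refl Q b hb, ?_⟩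
      rw [map_mul, hψa, hψb]; rfl
    · exact ⟨refl Q b hb, hψb⟩
    · exact ⟨refl Q a ha, hψa⟩
  rw [← hker, Subgroup.index_ker, MonoidHom.range_eq_top.mpr hsurj, Subgroup.card_top]
  rw [Nat.card_eq_fintype_card]
  rfl

/-- In characteristic two, `Ω` has index two in `O(Q)` (excluding `O⁺₄(2)`). -/
theorem index_omega_two (h2 : (2 : F) = 0) (Q : QuadraticForm F (ι → F))
    (hQ : (QuadraticMap.polarBilin Q).Nondegenerate)
    (hex : Fintype.card F ≠ 2 ∨ Fintype.card ι ≠ 4) {v : ι → F} (hv : Q v ≠ 0) :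
    (Cfsg.Omega F (⇑Q)).index = 2 := by
  rw [Subgroup.index_eq_two_iff]
  refine ⟨reflT Q v, ?_⟩
  intro g
  obtain ⟨vs, hvs, rfl⟩ := exists_list_reflT_all Q hQ hex g
  have hvs' : ∀ u ∈ vs ++ [v], Q u ≠ 0 := by
    intro u hu
    rcases List.mem_append.mp hu with h | h
    · exact hvs u h
    · rw [List.mem_singleton] at h; rw [h]; exact hv
  have hprod : (vs.map (reflT Q)).prod * reflT Q v = ((vs ++ [v]).map (reflT Q)).prod := by
    rw [List.map_append, List.prod_append]
    simp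
  rw [hprod, prod_mem_omega_iff_even h2 Q hQ hex _ hvs', prod_mem_omega_iff_even h2 Q hQ hex _ hvs,
    List.length_append, List.length_singleton]
  rcases Nat.even_or_odd vs.length with h | h
  · right
    exact ⟨h, by rw [Nat.even_add_one]; exact fun h' => h' h⟩
  · left
    refine ⟨?_, by rwa [Nat.not_even_iff_odd]⟩
    rw [Nat.even_add_one, Nat.not_even_iff_odd]; exact h

end Cfsg.Agent.Lib.Helper5_OmegaIndex
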