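import Mathlib
import Cfsg.Prelude.Def_Characters
import Cfsg.Agent.Lib.Helper57_ModDefs
import Cfsg.Agent.S0298

set_option autoImplicit false
open Cfsg Cfsg.Agent.Lib.Helper57_ModDefs

/-!
# S4504 package PK-O (`to_psl`), architect helper57

A perfect group acting on a 3-dimensional space over a finite field of odd characteristic,
preserving a nondegenerate symmetric bilinear form with a nonzero isotropic vector, maps to
`PSL_2(k)` with kernel central modulo the kernel of the action.  (Via `PΩ_3(k) ≃ PSL_2(k)`, S0298.)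
-/

namespace Cfsg.Agent.Lib.Helper43_S4504_O

/-- The index type of the three-dimensional odd quadratic form. -/
abbrev J3 : Type := Unit ⊕ (Fin 1 ⊕ Fin 1)

section basis
variable {k : Type*} [Field k] {W : Type*} [AddCommGroup W] [Module k W]

/-- The family `(w, s, t)` indexed by `J3`. -/
def fam (w s t : W) : J3 → W := Sum.elim (fun _ => w) (Sum.elim (fun _ => s) (fun _ => t))

lemma sum_fam (w s t : W) (c : J3 → k) :
    ∑ i, c i • fam w s t i
      = c (Sum.inl ()) • w + (c (Sum.inr (Sum.inl 0)) • s + c (Sum.inr (Sum.inr 0)) • t) := by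
  simp [fam, Fintype.sum_sum_type]

/-- A hyperbolic pair together with a nonzero vector orthogonal to both is a basis of a
three-dimensional space. -/
lemma exists_basis (hdim : Module.finrank k W = 3)
    (β : LinearMap.BilinForm k W) (hsymm : ∀ u v, β u v = β v u)
    (w s t : W) (hw : w ≠ 0) (hss : β s s = 0) (l : k) (hl : l ≠ 0) (hst : β s t = l)
    (htt : β t t = 0) (hsw : β s w = 0) (htw : β t w = 0) :
    ∃ b : Module.Basis J3 k W, ∀ v : W, v = b.repr v (Sum.inl ()) • w
      + (b.repr v (Sum.inr (Sum.inl 0)) • s + b.repr v (Sum.inr (Sum.inr 0)) • t) := by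
  have hli : LinearIndependent k (fam w s t) := by
    rw [Fintype.linearIndependent_iff]
    intro c hc
    rw [sum_fam] at hc
    have h2 : c (Sum.inr (Sum.inr 0)) = 0 := by
      have := congrArg (β s) hc
      simpa [hsw, hss, hst, hl] using this
    have h1 : c (Sum.inr (Sum.inl 0)) = 0 := by
      have := congrArg (β t) hc
      have hts : β t s = l := by rw [hsymm, hst]
      simpa [htw, htt, hts, hl] using this
    have h0 : c (Sum.inl ()) = 0 := by
      rw [h1, h2] at hc
      simpa [hw] using hc
    rintro (⟨⟩ | i | i)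
    · exact h0
    · obtain rfl : i = 0 := Subsingleton.elim _ _
      exact h1
    · obtain rfl : i = 0 := Subsingleton.elim _ _
      exact h2
  have hcard : Fintype.card J3 = Module.finrank k W := by
    rw [hdim]; simp
  refine ⟨basisOfLinearIndependentOfCardEqFinrank hli hcard, fun v => ?_⟩
  have := (basisOfLinearIndependentOfCardEqFinrank hli hcard).sum_repr v
  rw [coe_basisOfLinearIndependentOfCardEqFinrank, sum_fam] at this
  exact this.symm

end basis

section hom
variable {k : Type*} [Field k] {Γ : Type*} [Group Γ] {W : Type*} [AddCommGroup W] [Module k W]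
  {ι : Type} [Fintype ι] [DecidableEq ι]

/-- The matrices of a representation in a basis. -/
noncomputable def matHom (b : Module.Basis ι k W) (σ : Representation k Γ W) :
    Γ →* Matrix ι ι k where
  toFun g := LinearMap.toMatrix b b (σ g)
  map_one' := by rw [map_one]; exact LinearMap.toMatrix_one b
  map_mul' g h := by rw [map_mul]; exact LinearMap.toMatrix_mul b _ _

lemma matHom_apply (b : Module.Basis ι k W) (σ : Representation k Γ W) (g : Γ) :
    matHom b σ g = LinearMap.toMatrix b b (σ g) := rfl

lemma matHom_inj (b : Module.Basis ι k W) (σ : Representation k Γ W) (g h : Γ)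
    (e : matHom b σ g = matHom b σ h) : σ g = σ h :=
  (LinearMap.toMatrix b b).injective e

/-- The representation as a map to the isometry group of a function `Q` which is preserved. -/
noncomputable def isoHom (b : Module.Basis ι k W) (σ : Representation k Γ W)
    (Q : (ι → k) → k) (hQ : ∀ g x, Q (b.repr (σ g x)) = Q (b.repr x)) :
    Γ →* Cfsg.isometryGroup k Q :=
  (matHom b σ).toHomUnits.codRestrict _ (fun g => by
    intro u _
    show Q (Matrix.mulVec (matHom b σ g) u) = Q u
    have hu : u = b.repr (b.equivFun.symm u) :=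
      (b.equivFun.apply_symm_apply u).symm
    rw [hu, matHom_apply, LinearMap.toMatrix_mulVec_repr, hQ])

lemma isoHom_coe (b : Module.Basis ι k W) (σ : Representation k Γ W)
    (Q : (ι → k) → k) (hQ : ∀ g x, Q (b.repr (σ g x)) = Q (b.repr x)) (g : Γ) :
    (((isoHom b σ Q hQ g : Cfsg.isometryGroup k Q) : Matrix.GeneralLinearGroup ι k) :
      Matrix ι ι k) = matHom b σ g := rfl

end hom

theorem to_psl {k : Type*} [Field k] [Fintype k] {p : ℕ} [Fact p.Prime] [CharP k p] (hp2 : p ≠ 2)
    {Γ : Type*} [Group Γ] [Finite Γ] (hperf : commutator Γ = ⊤) {W : Type*} [AddCommGroup W]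
    [Module k W] (σ : Representation k Γ W) (hdim : Module.finrank k W = 3)
    (β : LinearMap.BilinForm k W) (hinv : ∀ g u v, β (σ g u) (σ g v) = β u v)
    (hsymm : ∀ u v, β u v = β v u) (hnd : ∀ u, (∀ v, β u v = 0) → u = 0)
    (s : W) (hs : s ≠ 0) (hs0 : β s s = 0) :
    ∃ φ : Γ →* Matrix.ProjectiveSpecialLinearGroup (Fin 2) k,
      (∀ g, σ g = 1 → φ g = 1) ∧ ∀ g, φ g = 1 → ∀ g', σ (g * g') = σ (g' * g) := by
  classical
  have hchar : ringChar k ≠ 2 := by rw [ringChar.eq k p]; exact hp2
  have h2 : (2 : k) ≠ 0 := Ring.two_ne_zero hchar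
  have hodd : Odd (Fintype.card k) := Nat.odd_iff.2 (FiniteField.odd_card_of_char_ne_two hchar)
  have : FiniteDimensional k W := Module.finite_of_finrank_pos (by rw [hdim]; norm_num)
  -- a vector pairing nontrivially with `s`
  obtain ⟨t0, ht0⟩ : ∃ t0, β s t0 ≠ 0 := by
    by_contra h
    push Not at h
    exact hs (hnd s h)
  set t1 : W := (β s t0)⁻¹ • t0 with ht1
  have hst1 : β s t1 = 1 := by simp [ht1, ht0]
  have ht1s : β t1 s = 1 := by rw [hsymm, hst1]
  set t : W := t1 - (β t1 t1 / 2) • s with ht
  have hst : β s t = 1 := by simp [ht, hst1, hs0]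
  have htt : β t t = 0 := by
    simp only [ht, map_sub, map_smul, LinearMap.sub_apply, LinearMap.smul_apply, smul_eq_mul,
      hst1, ht1s, hs0]
    field_simp
    ring
  -- a nonzero vector orthogonal to `s` and `t`
  obtain ⟨w, hw0, hsw, htw⟩ : ∃ w, w ≠ 0 ∧ β s w = 0 ∧ β t w = 0 := by
    let L : W →ₗ[k] k × k := (β s).prod (β t)
    have hker : LinearMap.ker L ≠ ⊥ := LinearMap.ker_ne_bot_of_finrank_lt (by rw [hdim]; simp)
    obtain ⟨w, hw, hw0⟩ := Submodule.exists_mem_ne_zero_of_ne_bot hker
    have hLw : L w = 0 := hw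
    exact ⟨w, hw0, congrArg Prod.fst hLw, congrArg Prod.snd hLw⟩
  have hws : β w s = 0 := by rw [hsymm, hsw]
  have hwt : β w t = 0 := by rw [hsymm, htw]
  have hts : β t s = 1 := by rw [hsymm, hst]
  have ha : β w w ≠ 0 := by
    intro ha
    obtain ⟨b1, hb1⟩ := exists_basis hdim β hsymm w s t hw0 hs0 1 one_ne_zero hst htt hsw htw
    apply hw0
    apply hnd
    intro v
    rw [hb1 v]
    simp [ha, hws, hwt]
  set a := β w w with ha_def
  -- the final basis
  set t' : W := (a / 2) • t with ht'
  have hst' : β s t' = a / 2 := by simp [ht', hst]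
  have ht's : β t' s = a / 2 := by rw [hsymm, hst']
  have htt' : β t' t' = 0 := by simp [ht', htt]
  have htw' : β t' w = 0 := by simp [ht', htw]
  have hwt' : β w t' = 0 := by rw [hsymm, htw']
  obtain ⟨b, hb⟩ := exists_basis hdim β hsymm w s t' hw0 hs0 (a / 2) (div_ne_zero ha h2)
    hst' htt' hsw htw'
  have hQ : ∀ v, β v v = a * Cfsg.quadFormOdd 1 k (b.repr v) := by
    intro v
    conv_lhs => rw [hb v]
    simp only [map_add, map_smul, LinearMap.add_apply, LinearMap.smul_apply, smul_eq_mul,
      hst', ht's, htt', htw', hwt', hs0, hsw, hws, ← ha_def, Cfsg.quadFormOdd, Finset.univ_unique,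
      Finset.sum_singleton, Fin.default_eq_zero]
    field_simp
    ring
  have hQinv : ∀ g x, Cfsg.quadFormOdd 1 k (b.repr (σ g x)) = Cfsg.quadFormOdd 1 k (b.repr x) := by
    intro g x
    have h1 := hQ (σ g x)
    rw [hinv, hQ x] at h1
    exact (mul_left_cancel₀ ha h1).symm
  let ψ := isoHom b σ (Cfsg.quadFormOdd 1 k) hQinv
  have hψ : ∀ g, ψ g ∈ commutator (Cfsg.isometryGroup k (Cfsg.quadFormOdd 1 k)) := by
    intro g
    have hg : g ∈ commutator Γ := by rw [hperf]; trivial
    have hmem : ψ g ∈ (commutator Γ).map ψ := Subgroup.mem_map_of_mem ψ hg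
    rw [commutator_def, Subgroup.map_commutator] at hmem
    exact Subgroup.commutator_mono le_top le_top hmem
  let ψ' : Γ →* Cfsg.Omega k (Cfsg.quadFormOdd 1 k) := ψ.codRestrict _ hψ
  obtain ⟨e⟩ := Cfsg.Agent.S0298.result (F := k) hodd
  refine ⟨e.toMonoidHom.comp ((QuotientGroup.mk' _).comp ψ'), ?_, ?_⟩
  · intro g hg
    have h1 : ψ' g = 1 := by
      apply Subtype.ext
      apply Subtype.ext
      apply Units.ext
      show matHom b σ g = 1
      rw [matHom_apply, hg]
      exact LinearMap.toMatrix_one b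
    simp [h1]
  · intro g hg g'
    have h1 : (QuotientGroup.mk' (Subgroup.center (Cfsg.Omega k (Cfsg.quadFormOdd 1 k))))
        (ψ' g) = 1 := by
      apply e.injective
      simpa using hg
    have h3 : ψ' g ∈ Subgroup.center (Cfsg.Omega k (Cfsg.quadFormOdd 1 k)) :=
      (QuotientGroup.eq_one_iff _).1 h1
    have h4 : ψ' g' * ψ' g = ψ' g * ψ' g' := Subgroup.mem_center_iff.1 h3 (ψ' g')
    rw [← map_mul, ← map_mul] at h4
    have h5 : matHom b σ (g' * g) = matHom b σ (g * g') :=
      congrArg (fun z : Cfsg.Omega k (Cfsg.quadFormOdd 1 k) =>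
        (((z : Cfsg.isometryGroup k (Cfsg.quadFormOdd 1 k)) :
          Matrix.GeneralLinearGroup J3 k) : Matrix J3 J3 k)) h4
    exact (matHom_inj b σ _ _ h5).symm

end Cfsg.Agent.Lib.Helper43_S4504_O
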