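import Mathlib
import Cfsg.Prelude.Def_Characters
import Cfsg.Prelude.Def_Blocks
import Cfsg.Agent.Lib.Helper57_ModDefs

set_option autoImplicit false

/-!
# S4504 package PK-T2 (`exists_isotropic`), architect helper57

For a unipotent isometry `X` which is a single Jordan block of size `3`, the fixed vector
`(X - 1)^2 t` is nonzero and isotropic.
-/

namespace Cfsg.Agent.Lib.Helper43_S4504_T2

open Cfsg Cfsg.Agent.Lib.Helper57_ModDefs

theorem exists_isotropic {k : Type*} [Field k] {W : Type*} [AddCommGroup W] [Module k W]
    [FiniteDimensional k W] (X : Module.End k W) (hnil : IsNilpotent (X - 1))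
    (hdim : Module.finrank k W = 3) (hblock : IsBlock (X - 1) ⊤)
    (β : LinearMap.BilinForm k W) (hinv : ∀ u v, β (X u) (X v) = β u v) :
    ∃ s : W, s ≠ 0 ∧ β s s = 0 := by
  classical
  obtain ⟨t, ht⟩ := hblock
  set N : Module.End k W := X - 1 with hN
  -- `N ^ 3 = 0`
  have hN3 : N ^ 3 = 0 := by
    have h1 := hnil.charpoly_eq_X_pow_finrank
    have h2 := LinearMap.aeval_self_charpoly N
    rw [h1, hdim] at h2
    simpa using h2
  -- the adjoint relation
  have hadj : ∀ a b, β (N a) b = - β (X a) (N b) := by
    intro a b
    have h1 : N a = X a - a := by simp [hN]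
    have h2 : N b = X b - b := by simp [hN]
    rw [h1, h2, map_sub, LinearMap.sub_apply, map_sub, hinv]
    ring
  refine ⟨(N ^ 2) t, ?_, ?_⟩
  · intro hs
    -- then the block is spanned by `t` and `N t`
    have hle : (⊤ : Submodule k W) ≤ Submodule.span k (({t, N t} : Finset W) : Set W) := by
      rw [ht]
      apply Submodule.span_le.2
      rintro _ ⟨i, rfl⟩
      rcases i with _ | _ | i
      · apply Submodule.subset_span
        simp
      · apply Submodule.subset_span
        simp
      · have : (N ^ (i + 1 + 1)) t = 0 := by
          have : i + 1 + 1 = i + 2 := by ring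
          rw [this, pow_add, Module.End.mul_apply, hs, map_zero]
        show (N ^ (i + 1 + 1)) t ∈ _
        rw [this]
        exact Submodule.zero_mem _
    have h1 : Module.finrank k (⊤ : Submodule k W)
        ≤ Module.finrank k (Submodule.span k (({t, N t} : Finset W) : Set W)) :=
      Submodule.finrank_mono hle
    have h2 := finrank_span_finset_le_card (R := k) ({t, N t} : Finset W)
    have h3 : ({t, N t} : Finset W).card ≤ 2 := Finset.card_le_two
    rw [finrank_top, hdim] at h1
    have h4 : Module.finrank k (Submodule.span k (({t, N t} : Finset W) : Set W)) ≤ 2 :=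
      le_trans h2 h3
    omega
  · have h1 : (N ^ 2) t = N (N t) := by
      rw [pow_two, Module.End.mul_apply]
    have h2 : N ((N ^ 2) t) = 0 := by
      have : N ((N ^ 2) t) = (N ^ 3) t := by
        rw [pow_succ' N 2, Module.End.mul_apply]
      rw [this, hN3]
      simp
    conv_lhs => rw [h1]
    rw [hadj, ← h1, h2]
    simp

end Cfsg.Agent.Lib.Helper43_S4504_T2
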