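import Mathlib

/-!
# Generalities on maximal subgroups (helper50)

* `no_abelian_coatom`: a nontrivial maximal subgroup of a finite simple group is not abelian
  (Burnside's transfer theorem).
* `sylow_conj_excl`: a Sylow-conjugacy argument excluding a maximal subgroup with a normal Sylow
  subgroup (of the whole group) when some other proper subgroup has a large enough Sylow normaliser.
-/

set_option autoImplicit false

namespace Cfsg.Agent.Lib.Helper50_MxBasic

open Subgroup

variable {G : Type*} [Group G]

/-- a coatom contained in a proper subgroup equals it -/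
theorem eq_of_isCoatom_le {M H : Subgroup G} (hM : IsCoatom M) (hle : M ≤ H) (hH : H ≠ ⊤) :
    M = H := by
  by_contra hne
  exact hH (hM.2 H (lt_of_le_of_ne hle hne))

/-- a coatom of a simple group is the normaliser of each of its nontrivial normal subgroups -/
theorem normalizer_eq_of_isCoatom [IsSimpleGroup G] {M Q : Subgroup G} (hM : IsCoatom M)
    (hQM : Q ≤ M) (hQ : Q ≠ ⊥) (hn : M ≤ normalizer (Q : Set G)) :
    normalizer (Q : Set G) = M := by
  symm
  apply eq_of_isCoatom_le hM hn
  intro htop
  have hnorm : Q.Normal := normalizer_eq_top_iff.1 htop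
  rcases hnorm.eq_bot_or_eq_top with h | h
  · exact hQ h
  · apply hM.1
    rw [eq_top_iff, ← h]
    exact hQM

variable [Finite G]

/-- **A nontrivial maximal subgroup of a finite simple group is not abelian.** -/
theorem no_abelian_coatom [IsSimpleGroup G] (M : Subgroup G) (hM : IsCoatom M) (hne : M ≠ ⊥)
    (hab : ∀ a ∈ M, ∀ b ∈ M, a * b = b * a) : False := by
  classical
  have hcard : Nat.card M ≠ 1 := fun h => hne (Subgroup.card_eq_one.1 h)
  obtain ⟨ℓ, hℓ, hdvd⟩ := Nat.exists_prime_and_dvd hcard
  have : Fact ℓ.Prime := ⟨hℓ⟩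
  let P : Sylow ℓ M := default
  set Q : Subgroup G := (P : Subgroup M).map M.subtype with hQdef
  have hQM : Q ≤ M := by
    rintro _ ⟨x, -, rfl⟩
    exact x.2
  have hQne : Q ≠ ⊥ := by
    intro h
    have h1 : (P : Subgroup M) = ⊥ :=
      (Subgroup.map_eq_bot_iff_of_injective _ M.subtype_injective).1 h
    exact P.ne_bot_of_dvd_card hdvd h1
  have hQp : IsPGroup ℓ Q := P.isPGroup'.map M.subtype
  -- `M` centralises `Q`
  have hcent : ∀ m ∈ M, ∀ x ∈ Q, m * x = x * m := fun m hm x hx => hab m hm x (hQM hx)
  have hMN : M ≤ normalizer (Q : Set G) := by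
    intro m hm
    rw [mem_normalizer_iff]
    intro x
    have e : ∀ y ∈ Q, m * y * m⁻¹ = y := fun y hy => by
      rw [hcent m hm y hy, mul_assoc, mul_inv_cancel, mul_one]
    constructor
    · intro hx
      rw [e x hx]; exact hx
    · intro hx
      have h2 : m⁻¹ * (m * x * m⁻¹) * m = x := by group
      have h3 : m⁻¹ * (m * x * m⁻¹) = (m * x * m⁻¹) * m⁻¹ :=
        hcent m⁻¹ (M.inv_mem hm) _ hx
      rw [← h2, h3, mul_assoc, inv_mul_cancel, mul_one]
      exact hx
  have hN : normalizer (Q : Set G) = M := normalizer_eq_of_isCoatom hM hQM hQne hMN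
  -- every `ℓ`-subgroup of `M` lies in `Q`
  have hPn : (P : Subgroup M).Normal := by
    constructor
    intro x hx m
    have : m * x * m⁻¹ = x := by
      have h := hab m m.2 x x.2
      have h' : m * x = x * m := Subtype.ext (by simpa using h)
      rw [h', mul_assoc, mul_inv_cancel, mul_one]
    rw [this]; exact hx
  have hsub : Subsingleton (Sylow ℓ M) := (Sylow.unique_of_normal P hPn).instSubsingleton
  have hle : ∀ S : Subgroup G, IsPGroup ℓ S → S ≤ M → S ≤ Q := by
    intro S hS hSM x hx
    have hS' : IsPGroup ℓ (S.subgroupOf M) := hS.comap_subtype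
    obtain ⟨P', hP'⟩ := hS'.exists_le_sylow
    have hPP : P' = P := Subsingleton.elim _ _
    rw [hPP] at hP'
    have : (⟨x, hSM hx⟩ : M) ∈ (P : Subgroup M) := hP' (by rw [mem_subgroupOf]; exact hx)
    exact ⟨⟨x, hSM hx⟩, this, rfl⟩
  -- `Q` is a Sylow subgroup of `G`
  obtain ⟨R, hR⟩ := hQp.exists_le_sylow
  have hRQ : (R : Subgroup G) ≤ Q := by
    by_contra hnot
    have hlt : Q.subgroupOf R < ⊤ := by
      rw [lt_top_iff_ne_top]
      intro h
      apply hnot
      intro x hx
      have : (⟨x, hx⟩ : R) ∈ Q.subgroupOf R := by rw [h]; exact mem_top _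
      exact mem_subgroupOf.1 this
    have hnil : Group.IsNilpotent (R : Subgroup G) := R.isPGroup'.isNilpotent
    have hnc := Group.normalizerCondition_of_isNilpotent (G := (R : Subgroup G))
      (Q.subgroupOf R) hlt
    obtain ⟨x, hxn, hxQ⟩ := SetLike.exists_of_lt hnc
    -- the subgroup generated by `Q` and `x`... use `R ⊓ normalizer Q`
    have hS : IsPGroup ℓ ((R : Subgroup G) ⊓ normalizer (Q : Set G) : Subgroup G) :=
      R.isPGroup'.to_le inf_le_left
    have hSM : ((R : Subgroup G) ⊓ normalizer (Q : Set G) : Subgroup G) ≤ M := by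
      rw [← hN]; exact inf_le_right
    have hxmem : (x : G) ∈ ((R : Subgroup G) ⊓ normalizer (Q : Set G) : Subgroup G) := by
      refine Subgroup.mem_inf.2 ⟨x.2, ?_⟩
      rw [mem_normalizer_iff]
      intro y
      rw [mem_normalizer_iff] at hxn
      constructor
      · intro hy
        have := (hxn ⟨y, hR hy⟩).1 (by rw [mem_subgroupOf]; exact hy)
        rw [mem_subgroupOf] at this
        simpa using this
      · intro hy
        have hyR : y ∈ (R : Subgroup G) := by
          have h1 : (x : G) * y * (x : G)⁻¹ ∈ (R : Subgroup G) := hR hy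
          have h2 : y = (x : G)⁻¹ * ((x : G) * y * (x : G)⁻¹) * (x : G) := by group
          rw [h2]
          exact R.mul_mem (R.mul_mem (R.inv_mem x.2) h1) x.2
        have := (hxn ⟨y, hyR⟩).2 (by rw [mem_subgroupOf]; simpa using hy)
        rw [mem_subgroupOf] at this
        exact this
    exact hxQ (mem_subgroupOf.2 (hle _ hS hSM hxmem))
  have hRQ' : (R : Subgroup G) = Q := le_antisymm hRQ hR
  -- Burnside's transfer theorem
  have hNC : normalizer (R : Set G) ≤ centralizer (R : Set G) := by
    have e1 : normalizer (R : Set G) = M := by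
      rw [← hN, ← hRQ']; rfl
    have e2 : centralizer (R : Set G) = centralizer (Q : Set G) := by
      rw [← hRQ']; rfl
    rw [e1, e2]
    intro m hm
    rw [mem_centralizer_iff]
    intro x hx
    exact (hcent m hm x hx).symm
  have hcompl := MonoidHom.ker_transferSylow_isComplement' R hNC
  have hker : (MonoidHom.transferSylow R hNC).ker.Normal := MonoidHom.normal_ker _
  have hmul := hcompl.card_mul_card
  rcases hker.eq_bot_or_eq_top with h | h
  · rw [h, Subgroup.card_bot, one_mul] at hmul
    have hRtop : (R : Subgroup G) = ⊤ := Subgroup.eq_top_of_card_eq _ hmul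
    apply hM.1
    rw [eq_top_iff, ← hRtop, hRQ']
    exact hQM
  · rw [h, Subgroup.card_top] at hmul
    have hG : 0 < Nat.card G := Nat.card_pos
    have hR1 : Nat.card (R : Subgroup G) = 1 := by
      have := Nat.eq_of_mul_eq_mul_left hG (hmul.trans (mul_one _).symm)
      exact this
    apply hQne
    rw [← hRQ']
    exact Subgroup.card_eq_one.1 hR1

open scoped Pointwise in
/-- **Sylow-conjugacy exclusion.** A maximal subgroup `M` normalising a Sylow subgroup `Q` of `G`
(not normal in `G`) cannot exist if some proper subgroup `H`, of order different from `|M|`,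
contains the normaliser-in-`H` of a Sylow subgroup `Q'` of `G` of order at least `|M|`. -/
theorem sylow_conj_excl {ℓ : ℕ} [Fact ℓ.Prime] (M H : Subgroup G) (hM : IsCoatom M)
    (Q Q' : Sylow ℓ G) (hMN : M ≤ normalizer ((Q : Subgroup G) : Set G)) (hQn : normalizer ((Q : Subgroup G) : Set G) ≠ ⊤)
    (hH : H ≠ ⊤) (hcard : Nat.card M ≤ Nat.card ↥(H ⊓ normalizer ((Q' : Subgroup G) : Set G)))
    (hne : Nat.card H ≠ Nat.card M) : False := by
  have hN : M = normalizer ((Q : Subgroup G) : Set G) := eq_of_isCoatom_le hM hMN hQn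
  obtain ⟨g, hg⟩ := MulAction.exists_smul_eq G Q' Q
  have hQmem : ∀ y : G, y ∈ (Q : Subgroup G) ↔ g⁻¹ * y * g ∈ (Q' : Subgroup G) := by
    intro y
    rw [← hg, Sylow.coe_subgroup_smul, Subgroup.mem_pointwise_smul_iff_inv_smul_mem]
    simp [MulAut.smul_def, MulAut.conj_apply]
  set φ : G →* G := (MulAut.conj g).toMonoidHom with hφ
  have hφinj : Function.Injective φ := (MulAut.conj g).injective
  set S := (H ⊓ normalizer ((Q' : Subgroup G) : Set G)).map φ with hS
  have hScard : Nat.card S = Nat.card ↥(H ⊓ normalizer ((Q' : Subgroup G) : Set G)) :=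
    (Nat.card_congr ((H ⊓ normalizer ((Q' : Subgroup G) : Set G)).equivMapOfInjective φ hφinj).toEquiv).symm
  have hSM : S ≤ M := by
    rw [hN]
    rintro _ ⟨x, hx, rfl⟩
    have hxn := (Subgroup.mem_inf.1 hx).2
    rw [mem_normalizer_iff] at hxn ⊢
    intro y
    change y ∈ (Q : Subgroup G) ↔ (g * x * g⁻¹) * y * (g * x * g⁻¹)⁻¹ ∈ (Q : Subgroup G)
    rw [hQmem, hQmem]
    have e : g⁻¹ * ((g * x * g⁻¹) * y * (g * x * g⁻¹)⁻¹) * g = x * (g⁻¹ * y * g) * x⁻¹ := by
      group
    rw [e]
    exact hxn (g⁻¹ * y * g)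
  have hSeq : S = M := by
    apply Subgroup.eq_of_le_of_card_ge hSM
    rw [hScard]; exact hcard
  set H' := H.map φ with hH'
  have hH'card : Nat.card H' = Nat.card H :=
    (Nat.card_congr (H.equivMapOfInjective φ hφinj).toEquiv).symm
  have hMH' : M ≤ H' := by
    rw [← hSeq]
    exact Subgroup.map_mono inf_le_left
  have hH'top : H' ≠ ⊤ := by
    intro h
    apply hH
    apply Subgroup.eq_top_of_card_eq
    rw [← hH'card, h, Subgroup.card_top]
  have := eq_of_isCoatom_le hM hMH' hH'top
  apply hne
  rw [← hH'card, ← this]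

end Cfsg.Agent.Lib.Helper50_MxBasic
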