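import Mathlib
import Cfsg.Agent.Lib.Helper42_KleinCount

set_option autoImplicit false

/-!
Conjugacy of Klein four-subgroups through conjugacy of ordered pairs of commuting involutions.
-/

namespace Cfsg.Agent.Lib.Helper42_KleinCount

variable {G : Type*} [Group G]

/-- conjugacy of subgroups -/
def CJ (V W : Subgroup G) : Prop := ∃ g : G, W = V.map (MulAut.conj g).toMonoidHom

theorem map_conj_one (V : Subgroup G) : V.map (MulAut.conj (1 : G)).toMonoidHom = V := by
  ext x
  simp [Subgroup.mem_map]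

theorem map_conj_mul (V : Subgroup G) (g h : G) :
    (V.map (MulAut.conj h).toMonoidHom).map (MulAut.conj g).toMonoidHom =
      V.map (MulAut.conj (g * h)).toMonoidHom := by
  rw [Subgroup.map_map]
  congr 1
  ext x
  simp [mul_assoc]

theorem CJ.refl (V : Subgroup G) : CJ V V := ⟨1, (map_conj_one V).symm⟩

theorem CJ.symm {V W : Subgroup G} (h : CJ V W) : CJ W V := by
  obtain ⟨g, rfl⟩ := h
  refine ⟨g⁻¹, ?_⟩
  rw [map_conj_mul, inv_mul_cancel, map_conj_one]

theorem CJ.trans {U V W : Subgroup G} (h1 : CJ U V) (h2 : CJ V W) : CJ U W := by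
  obtain ⟨g, rfl⟩ := h1
  obtain ⟨h, rfl⟩ := h2
  exact ⟨h * g, map_conj_mul U h g⟩

/-- the subgroup generated by two elements -/
def K (x y : G) : Subgroup G := Subgroup.closure {x, y}

theorem K_comm (x y : G) : K x y = K y x := by
  unfold K
  rw [Set.pair_comm]

theorem K_map (g x y : G) :
    (K x y).map (MulAut.conj g).toMonoidHom = K (g * x * g⁻¹) (g * y * g⁻¹) := by
  unfold K
  rw [MonoidHom.map_closure, Set.image_pair]
  rfl

theorem K_mul (x y : G) (hx : x * x = 1) : K x (x * y) = K x y := by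
  unfold K
  apply le_antisymm
  · rw [Subgroup.closure_le]
    rintro g (rfl | rfl)
    · exact Subgroup.subset_closure (by simp)
    · exact mul_mem (Subgroup.subset_closure (by simp)) (Subgroup.subset_closure (by simp))
  · rw [Subgroup.closure_le]
    rintro g (rfl | rfl)
    · exact Subgroup.subset_closure (by simp)
    · have h1 : x ∈ Subgroup.closure ({x, x * g} : Set G) := Subgroup.subset_closure (by simp)
      have h2 : x * g ∈ Subgroup.closure ({x, x * g} : Set G) :=
        Subgroup.subset_closure (by simp)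
      have h3 := mul_mem h1 h2
      rwa [← mul_assoc, hx, one_mul] at h3

theorem mem_K_iff {x y : G} (hp : (x, y) ∈ Pairs G) (g : G) :
    g ∈ K x y ↔ g = 1 ∨ g = x ∨ g = y ∨ g = x * y := by
  obtain ⟨_, _, _, hx, hy, hxy⟩ := hp
  unfold K
  rw [closure_eq_V4 hx hy hxy]
  exact V4_mem hx hy hxy g

theorem K_isKleinFour {x y : G} (hp : (x, y) ∈ Pairs G) : IsKleinFour (K x y) := by
  obtain ⟨hx1, hy1, hne, hx, hy, hxy⟩ := hp
  unfold K
  rw [closure_eq_V4 hx hy hxy]
  exact V4_isKleinFour hx hy hxy hx1 hy1 hne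

theorem exists_pair_of_isKleinFour (V : Subgroup G) (hV : IsKleinFour V) :
    ∃ x y : G, (x, y) ∈ Pairs G ∧ V = K x y := by
  obtain ⟨e⟩ := IsKleinFour.nonempty_mulEquiv (G₁ := V)
    (G₂ := Multiplicative (ZMod 2 × ZMod 2))
  obtain ⟨x, hx⟩ : ∃ x : V, x = e.symm (Multiplicative.ofAdd (1, 0)) := ⟨_, rfl⟩
  obtain ⟨y, hy⟩ : ∃ y : V, y = e.symm (Multiplicative.ofAdd (0, 1)) := ⟨_, rfl⟩
  have hx1 : x ≠ 1 := by
    rw [hx]
    intro h
    have := e.symm.injective (h.trans (map_one e.symm).symm)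
    revert this
    decide
  have hy1 : y ≠ 1 := by
    rw [hy]
    intro h
    have := e.symm.injective (h.trans (map_one e.symm).symm)
    revert this
    decide
  have hne : x ≠ y := by
    rw [hx, hy]
    intro h
    have := e.symm.injective h
    revert this
    decide
  have hxx : x.1 * x.1 = 1 := congrArg Subtype.val (IsKleinFour.mul_self x)
  have hyy : y.1 * y.1 = 1 := congrArg Subtype.val (IsKleinFour.mul_self y)
  have hxy : x.1 * y.1 = y.1 * x.1 :=
    congrArg Subtype.val ((IsKleinFour.isMulCommutative (G := V)).is_comm.comm x y)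
  have hx1' : x.1 ≠ 1 := fun h => hx1 (Subtype.ext h)
  have hy1' : y.1 ≠ 1 := fun h => hy1 (Subtype.ext h)
  have hne' : x.1 ≠ y.1 := fun h => hne (Subtype.ext h)
  refine ⟨x.1, y.1, ⟨hx1', hy1', hne', hxx, hyy, hxy⟩, ?_⟩
  unfold K
  rw [closure_eq_V4 hxx hyy hxy]
  symm
  have : Finite V := Nat.finite_of_card_ne_zero (by rw [hV.card_four]; norm_num)
  apply Subgroup.eq_of_le_of_card_ge
  · rintro g (rfl | rfl | rfl | rfl)
    · exact one_mem _
    · exact x.2
    · exact y.2
    · exact mul_mem x.2 y.2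
  · rw [V4_card hxx hyy hxy hx1' hy1' hne', hV.card_four]

/-- conjugacy of ordered pairs -/
def PC (p p' : G × G) : Prop := ∃ g : G, g * p.1 * g⁻¹ = p'.1 ∧ g * p.2 * g⁻¹ = p'.2

theorem PC.refl (p : G × G) : PC p p := ⟨1, by simp, by simp⟩

theorem PC.symm {p p' : G × G} (h : PC p p') : PC p' p := by
  obtain ⟨g, h1, h2⟩ := h
  refine ⟨g⁻¹, ?_, ?_⟩
  · rw [← h1]; group
  · rw [← h2]; group

theorem PC.trans {p p' p'' : G × G} (h : PC p p') (h' : PC p' p'') : PC p p'' := by
  obtain ⟨g, h1, h2⟩ := h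
  obtain ⟨g', h1', h2'⟩ := h'
  refine ⟨g' * g, ?_, ?_⟩
  · rw [← h1', ← h1]; group
  · rw [← h2', ← h2]; group

theorem CJ_of_PC {p p' : G × G} (h : PC p p') : CJ (K p.1 p.2) (K p'.1 p'.2) := by
  obtain ⟨g, h1, h2⟩ := h
  refine ⟨g, ?_⟩
  rw [K_map, h1, h2]

theorem Pairs_swap {x y : G} (hp : (x, y) ∈ Pairs G) : (y, x) ∈ Pairs G := by
  obtain ⟨hx1, hy1, hne, hx, hy, hxy⟩ := hp
  exact ⟨hy1, hx1, fun h => hne h.symm, hy, hx, hxy.symm⟩

theorem Pairs_mul {x y : G} (hp : (x, y) ∈ Pairs G) : (x, x * y) ∈ Pairs G := by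
  obtain ⟨hx1, hy1, hne, hx, hy, hxy⟩ := hp
  change x ≠ 1 at hx1
  change y ≠ 1 at hy1
  change x ≠ y at hne
  change x * x = 1 at hx
  change y * y = 1 at hy
  change x * y = y * x at hxy
  refine ⟨hx1, ?_, ?_, hx, ?_, ?_⟩
  · change x * y ≠ 1
    intro h
    apply hne
    have : x * y = x * x := by rw [h, hx]
    exact (mul_left_cancel this).symm
  · change x ≠ x * y
    intro h
    apply hy1
    have : x * 1 = x * y := by rw [mul_one]; exact h
    exact (mul_left_cancel this).symm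
  · change x * y * (x * y) = 1
    calc x * y * (x * y) = x * (y * x) * y := by simp [mul_assoc]
      _ = x * (x * y) * y := by rw [← hxy]
      _ = (x * x) * (y * y) := by simp [mul_assoc]
      _ = 1 := by rw [hx, hy, one_mul]
  · change x * (x * y) = x * y * x
    rw [mul_assoc, ← hxy]

/-- when swaps and multiplications are realized by conjugation, all six ordered pairs of a
Klein four-group are conjugate -/
theorem PC_of_mem (hswap : ∀ p ∈ Pairs G, PC p (p.2, p.1))
    (hmul : ∀ p ∈ Pairs G, PC p (p.1, p.1 * p.2))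
    {x y : G} (hp : (x, y) ∈ Pairs G) {x' y' : G} (hx' : x' ∈ K x y) (hy' : y' ∈ K x y)
    (hx1 : x' ≠ 1) (hy1 : y' ≠ 1) (hne : x' ≠ y') : PC (x, y) (x', y') := by
  have hxx : x * x = 1 := hp.2.2.2.1
  have hxy : x * y = y * x := hp.2.2.2.2.2
  -- the six pairs
  have p1 : PC (x, y) (x, x * y) := hmul _ hp
  have p2 : PC (x, y) (y, x) := hswap _ hp
  have p3 : PC (x, y) (y, x * y) := by
    have := hmul _ (Pairs_swap hp)
    change PC (y, x) (y, y * x) at this
    rw [← hxy] at this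
    exact p2.trans this
  have p4 : PC (x, y) (x * y, x) := p1.trans (hswap _ (Pairs_mul hp))
  have p5 : PC (x, y) (x * y, y) := by
    have := hmul _ (Pairs_swap (Pairs_mul hp))
    change PC (x * y, x) (x * y, x * y * x) at this
    have e : x * y * x = y := by rw [hxy, mul_assoc, hxx, mul_one]
    rw [e] at this
    exact p4.trans this
  rw [mem_K_iff hp] at hx' hy'
  rcases hx' with rfl | rfl | rfl | rfl
  · exact absurd rfl hx1
  · rcases hy' with rfl | rfl | rfl | rfl
    · exact absurd rfl hy1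
    · exact absurd rfl hne
    · exact PC.refl _
    · exact p1
  · rcases hy' with rfl | rfl | rfl | rfl
    · exact absurd rfl hy1
    · exact p2
    · exact absurd rfl hne
    · exact p3
  · rcases hy' with rfl | rfl | rfl | rfl
    · exact absurd rfl hy1
    · exact p4
    · exact p5
    · exact absurd rfl hne

theorem Pairs_conj {x y : G} (hp : (x, y) ∈ Pairs G) (g : G) :
    (g * x * g⁻¹, g * y * g⁻¹) ∈ Pairs G := by
  obtain ⟨hx1, hy1, hne, hx, hy, hxy⟩ := hp
  change x ≠ 1 at hx1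
  change y ≠ 1 at hy1
  change x ≠ y at hne
  change x * x = 1 at hx
  change y * y = 1 at hy
  change x * y = y * x at hxy
  refine ⟨?_, ?_, ?_, ?_, ?_, ?_⟩
  · change g * x * g⁻¹ ≠ 1
    intro h
    apply hx1
    have : x = g⁻¹ * (g * x * g⁻¹) * g := by group
    rw [this, h]; group
  · change g * y * g⁻¹ ≠ 1
    intro h
    apply hy1
    have : y = g⁻¹ * (g * y * g⁻¹) * g := by group
    rw [this, h]; group
  · change g * x * g⁻¹ ≠ g * y * g⁻¹
    intro h
    apply hne
    have : x = g⁻¹ * (g * x * g⁻¹) * g := by group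
    rw [this, h]; group
  · change g * x * g⁻¹ * (g * x * g⁻¹) = 1
    have : g * x * g⁻¹ * (g * x * g⁻¹) = g * (x * x) * g⁻¹ := by group
    rw [this, hx]; group
  · change g * y * g⁻¹ * (g * y * g⁻¹) = 1
    have : g * y * g⁻¹ * (g * y * g⁻¹) = g * (y * y) * g⁻¹ := by group
    rw [this, hy]; group
  · change g * x * g⁻¹ * (g * y * g⁻¹) = g * y * g⁻¹ * (g * x * g⁻¹)
    have e1 : g * x * g⁻¹ * (g * y * g⁻¹) = g * (x * y) * g⁻¹ := by group
    have e2 : g * y * g⁻¹ * (g * x * g⁻¹) = g * (y * x) * g⁻¹ := by group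
    rw [e1, e2, hxy]

/-- non-conjugate pairs give non-conjugate Klein four-groups -/
theorem not_CJ_of_not_PC (hswap : ∀ p ∈ Pairs G, PC p (p.2, p.1))
    (hmul : ∀ p ∈ Pairs G, PC p (p.1, p.1 * p.2))
    {x y x' y' : G} (hp : (x, y) ∈ Pairs G) (hp' : (x', y') ∈ Pairs G)
    (h : ¬ PC (x, y) (x', y')) : ¬ CJ (K x y) (K x' y') := by
  rintro ⟨g, hg⟩
  rw [K_map] at hg
  apply h
  have hq := Pairs_conj hp g
  have hxm : g * x * g⁻¹ ∈ K x' y' := by
    rw [hg]; exact Subgroup.subset_closure (by simp)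
  have hym : g * y * g⁻¹ ∈ K x' y' := by
    rw [hg]; exact Subgroup.subset_closure (by simp)
  have h1 : PC (x', y') (g * x * g⁻¹, g * y * g⁻¹) :=
    PC_of_mem hswap hmul hp' hxm hym hq.1 hq.2.1 hq.2.2.1
  have h2 : PC (x, y) (g * x * g⁻¹, g * y * g⁻¹) := ⟨g, rfl, rfl⟩
  exact h2.trans h1.symm

end Cfsg.Agent.Lib.Helper42_KleinCount
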