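import Mathlib
import Cfsg.Agent.Lib.Helper42_PSL2Klein2
import Cfsg.Agent.Lib.Helper42_KleinConj

set_option autoImplicit false

/-!
Conjugacy classes of Klein four-subgroups of `PSL₂(F)`, `F` a finite field of odd order.
-/

namespace Cfsg.Agent.Lib.Helper42_PSL2Klein

open Matrix Cfsg.Agent.Lib.Helper42_SL2Class Cfsg.Agent.Lib.Helper42_KleinCount

section lifts

variable {F : Type*} [Field F]

theorem isSquare_mul_of_not {F : Type*} [Field F] [Fintype F] (x y : F) (hx : ¬ IsSquare x)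
    (hy : ¬ IsSquare y) : IsSquare (x * y) := by
  classical
  have hx' := quadraticChar_neg_one_iff_not_isSquare.mpr hx
  have hy' := quadraticChar_neg_one_iff_not_isSquare.mpr hy
  have hx0 : x ≠ 0 := by rintro rfl; exact hx ⟨0, by ring⟩
  have hy0 : y ≠ 0 := by rintro rfl; exact hy ⟨0, by ring⟩
  rw [← quadraticChar_one_iff_isSquare (mul_ne_zero hx0 hy0), map_mul, hx', hy']
  norm_num

/-- the Klein four-group generated by the images of `a`, `b` -/
def KS (a b : SpecialLinearGroup (Fin 2) F) : Subgroup (ProjectiveSpecialLinearGroup (Fin 2) F) :=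
  K (proj a) (proj b)

theorem PC_of_conj (a b a' b' g : SpecialLinearGroup (Fin 2) F)
    (h1 : g * a * g⁻¹ = a' ∨ g * a * g⁻¹ = negS a')
    (h2 : g * b * g⁻¹ = b' ∨ g * b * g⁻¹ = negS b') :
    PC (proj a, proj b) (proj a', proj b') := by
  refine ⟨proj g, ?_, ?_⟩
  · change proj g * proj a * (proj g)⁻¹ = proj a'
    rw [← map_inv, ← map_mul, ← map_mul]
    rcases h1 with h | h
    · rw [h]
    · rw [h, proj_negS]
  · change proj g * proj b * (proj g)⁻¹ = proj b'
    rw [← map_inv, ← map_mul, ← map_mul]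
    rcases h2 with h | h
    · rw [h]
    · rw [h, proj_negS]

theorem KS_CJ_of_conj (a b a' b' g : SpecialLinearGroup (Fin 2) F)
    (h1 : g * a * g⁻¹ = a' ∨ g * a * g⁻¹ = negS a')
    (h2 : g * b * g⁻¹ = b' ∨ g * b * g⁻¹ = negS b') : CJ (KS a b) (KS a' b') := by
  obtain ⟨γ, e1, e2⟩ := PC_of_conj a b a' b' g h1 h2
  change γ * proj a * γ⁻¹ = proj a' at e1
  change γ * proj b * γ⁻¹ = proj b' at e2
  refine ⟨γ, ?_⟩
  unfold KS
  rw [K_map, e1, e2]

theorem anti_mul (a b : SpecialLinearGroup (Fin 2) F) (hab : a * b = negS (b * a)) :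
    a * (a * b) = negS ((a * b) * a) := by
  rw [mul_assoc a b a, anti_symm hab, mul_negS, negS_negS]

theorem conj_anti (g a b : SpecialLinearGroup (Fin 2) F) (hab : a * b = negS (b * a)) :
    (g * a * g⁻¹) * (g * b * g⁻¹) = negS ((g * b * g⁻¹) * (g * a * g⁻¹)) := by
  rw [negS_eq_mul]
  apply anti_conj (negS 1) negS_one_comm g a b
  rw [← negS_eq_mul]
  exact hab

theorem trace_conj' (g a : SpecialLinearGroup (Fin 2) F) :
    Matrix.trace (g * a * g⁻¹).1 = Matrix.trace a.1 := by
  have h : (g⁻¹).1 * g.1 = 1 := congrArg Subtype.val (inv_mul_cancel g)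
  change Matrix.trace (g.1 * a.1 * (g⁻¹).1) = Matrix.trace a.1
  rw [Matrix.trace_mul_comm, ← Matrix.mul_assoc, h, Matrix.one_mul]

theorem mem_Pt_iff (a b : SpecialLinearGroup (Fin 2) F) :
    (a, b) ∈ Pt F ↔ Matrix.trace a.1 = 0 ∧ a * b = negS (b * a) := Iff.rfl

theorem swap_PC (h2 : (2 : F) ≠ 0) (ρ : F) (hρ : ρ * ρ = 2) :
    ∀ p ∈ Pairs (ProjectiveSpecialLinearGroup (Fin 2) F), PC p (p.2, p.1) := by
  rintro ⟨x, y⟩ hp
  obtain ⟨a, rfl⟩ := proj_surjective x
  obtain ⟨b, rfl⟩ := proj_surjective y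
  obtain ⟨ha, hab⟩ := (pairs_iff h2 a b).mp hp
  change Matrix.trace a.1 = 0 at ha
  change a * b = negS (b * a) at hab
  have hb := trace_zero_of_anticomm h2 a b ha hab
  have hρ0 : ρ ≠ 0 := by
    rintro rfl
    apply h2
    rw [← hρ]; ring
  obtain ⟨g, h1, h2', _⟩ := swap_exists a b ha hb ρ hρ0
    (by rw [trace_mul_of_anti h2 a b hab, hρ]; ring)
  exact PC_of_conj a b b a g (Or.inl h1) (Or.inl h2')

theorem mul_PC (h2 : (2 : F) ≠ 0) (ρ : F) (hρ : ρ * ρ = 2) :
    ∀ p ∈ Pairs (ProjectiveSpecialLinearGroup (Fin 2) F), PC p (p.1, p.1 * p.2) := by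
  rintro ⟨x, y⟩ hp
  obtain ⟨a, rfl⟩ := proj_surjective x
  obtain ⟨b, rfl⟩ := proj_surjective y
  obtain ⟨ha, hab⟩ := (pairs_iff h2 a b).mp hp
  change Matrix.trace a.1 = 0 at ha
  change a * b = negS (b * a) at hab
  have hb := trace_zero_of_anticomm h2 a b ha hab
  have hab0 : Matrix.trace (a * b).1 = 0 := trace_mul_of_anti h2 a b hab
  have hρ0 : ρ ≠ 0 := by
    rintro rfl
    apply h2
    rw [← hρ]; ring
  obtain ⟨g, h1, _, h3⟩ := swap_exists b (a * b) hb hab0 ρ hρ0
    (by
      change ρ * ρ = 2 - Matrix.trace (b.1 * (a.1 * b.1))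
      rw [trace_bab a b ha hb, hρ]; ring)
  have h4 := h3 a hab (anti_mul a b hab)
  have := PC_of_conj a b a (a * b) g (Or.inr h4) (Or.inl h1)
  rw [map_mul] at this
  exact this

/-- conjugacy of pairs with the same first component forces a square invariant -/
theorem sq_of_PC (h2 : (2 : F) ≠ 0) (a b b₂ : SpecialLinearGroup (Fin 2) F)
    (ha : Matrix.trace a.1 = 0) (hab : a * b = negS (b * a))
    (h : PC (proj a, proj b) (proj a, proj b₂)) :
    IsSquare (2 - Matrix.trace (b.1 * b₂.1)) := by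
  obtain ⟨η, h1, h2'⟩ := h
  obtain ⟨g, rfl⟩ := proj_surjective η
  change proj g * proj a * (proj g)⁻¹ = proj a at h1
  change proj g * proj b * (proj g)⁻¹ = proj b₂ at h2'
  rw [← map_inv, ← map_mul, ← map_mul, proj_eq_iff] at h1 h2'
  apply normalizer_sq h2 a b b₂ g ha hab
  · rcases h1 with h | h
    · exact Or.inl h.symm
    · exact Or.inr ((congrArg negS h).trans (negS_negS _)).symm
  · rcases h2' with h | h
    · exact Or.inl h.symm
    · right; rw [h, negS_negS]

end lifts

section classes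

variable {F : Type*} [Field F] [Fintype F]

theorem KS_pairs (h2 : (2 : F) ≠ 0) (a b : SpecialLinearGroup (Fin 2) F) (hp : (a, b) ∈ Pt F) :
    (proj a, proj b) ∈ Pairs (ProjectiveSpecialLinearGroup (Fin 2) F) := (pairs_iff h2 a b).mpr hp

/-- every Klein four-group comes from a pair in `Pt` -/
theorem exists_lift (h2 : (2 : F) ≠ 0) (V : Subgroup (ProjectiveSpecialLinearGroup (Fin 2) F))
    (hV : IsKleinFour V) : ∃ a b : SpecialLinearGroup (Fin 2) F, (a, b) ∈ Pt F ∧ V = KS a b := by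
  obtain ⟨x, y, hp, hV'⟩ := exists_pair_of_isKleinFour V hV
  obtain ⟨a, rfl⟩ := proj_surjective x
  obtain ⟨b, rfl⟩ := proj_surjective y
  exact ⟨a, b, (pairs_iff h2 a b).mp hp, hV'⟩

/-- moving the first component to a given trace zero element -/
theorem exists_lift_first (h2 : (2 : F) ≠ 0) (a : SpecialLinearGroup (Fin 2) F)
    (ha : Matrix.trace a.1 = 0) (V : Subgroup (ProjectiveSpecialLinearGroup (Fin 2) F))
    (hV : IsKleinFour V) :
    ∃ b' : SpecialLinearGroup (Fin 2) F, a * b' = negS (b' * a) ∧ CJ V (KS a b') := by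
  classical
  obtain ⟨a', b'', ⟨ha', hab'⟩, rfl⟩ := exists_lift h2 V hV
  change Matrix.trace a'.1 = 0 at ha'
  change a' * b'' = negS (b'' * a') at hab'
  have hconj : IsConj a' a := by
    rw [isConj_iff_trace _ _ (by rw [ha']; exact zero_sq_ne_four h2), ha, ha']
  obtain ⟨g, hg⟩ := isConj_iff.mp hconj
  refine ⟨g * b'' * g⁻¹, ?_, ?_⟩
  · rw [← hg]
    exact conj_anti g a' b'' hab'
  · exact KS_CJ_of_conj a' b'' a (g * b'' * g⁻¹) g (Or.inl hg) (Or.inl rfl)

/-- square invariant implies conjugate -/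
theorem CJ_of_sq (h2 : (2 : F) ≠ 0) (a b b' : SpecialLinearGroup (Fin 2) F)
    (ha : Matrix.trace a.1 = 0) (hab : a * b = negS (b * a)) (hab' : a * b' = negS (b' * a))
    (hsq : IsSquare (2 - Matrix.trace (b.1 * b'.1))) : CJ (KS a b) (KS a b') := by
  have hb := trace_zero_of_anticomm h2 a b ha hab
  have hb' := trace_zero_of_anticomm h2 a b' ha hab'
  obtain ⟨r, hr⟩ := hsq
  by_cases hr0 : r = 0
  · -- then `b' = -b`
    obtain ⟨s, t, hst, hb's⟩ := param h2 a b b' ha hab hab'
    have htr := trace_param h2 a b ha hab 1 0 s t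
    rw [one_smul, zero_smul, add_zero, ← hb's] at htr
    rw [htr, hr0] at hr
    have hs : s = -1 := by
      have : (2 : F) * (s + 1) = 0 := by linear_combination hr
      rcases mul_eq_zero.mp this with h | h
      · exact absurd h h2
      · linear_combination h
    have ht : t = 0 := by
      have : t * t = 0 := by rw [hs] at hst; linear_combination hst
      rcases mul_eq_zero.mp this with h | h <;> exact h
    have : b' = negS b := by
      apply Subtype.ext
      rw [hb's, hs, ht, negS_coe, zero_smul, add_zero, neg_one_smul]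
    rw [this]
    unfold KS
    rw [proj_negS]
    exact CJ.refl _
  · obtain ⟨g, h1, _, h3⟩ := swap_exists b b' hb hb' r hr0 hr.symm
    have h4 := h3 a hab hab'
    exact KS_CJ_of_conj a b a b' g (Or.inr h4) (Or.inl h1)

theorem KS_mul (h2 : (2 : F) ≠ 0) (a b : SpecialLinearGroup (Fin 2) F)
    (ha : Matrix.trace a.1 = 0) : KS a (a * b) = KS a b := by
  unfold KS
  rw [map_mul]
  exact K_mul _ _ ((involution_iff h2 a).mpr ha).2

/-- part (1): if `2` is not a square all Klein four-subgroups are conjugate -/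
theorem all_conj (h2 : (2 : F) ≠ 0) (hns : ¬ IsSquare (2 : F))
    (V W : Subgroup (ProjectiveSpecialLinearGroup (Fin 2) F))
    (hV : IsKleinFour V) (hW : IsKleinFour W) : CJ V W := by
  obtain ⟨a, b, ⟨ha, hab⟩, rfl⟩ := exists_lift h2 V hV
  change Matrix.trace a.1 = 0 at ha
  change a * b = negS (b * a) at hab
  obtain ⟨b', hab', hW'⟩ := exists_lift_first h2 a ha W hW
  refine CJ.trans ?_ hW'.symm
  obtain ⟨s, t, hst, hb's⟩ := param h2 a b b' ha hab hab'
  have htr1 := trace_param h2 a b ha hab 1 0 s t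
  rw [one_smul, zero_smul, add_zero, ← hb's] at htr1
  have htr2 := trace_param h2 a b ha hab 0 1 s t
  rw [one_smul, zero_smul, zero_add, ← hb's] at htr2
  by_cases hsq1 : IsSquare (2 - Matrix.trace (b.1 * b'.1))
  · exact CJ_of_sq h2 a b b' ha hab hab' hsq1
  by_cases hsq2 : IsSquare (2 - Matrix.trace ((a * b).1 * b'.1))
  · have := CJ_of_sq h2 a (a * b) b' ha (anti_mul a b hab) hab' hsq2
    rw [KS_mul h2 a b ha] at this
    exact this
  exfalso
  have hprod := isSquare_mul_of_not _ _ hsq1 hsq2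
  change IsSquare ((2 - Matrix.trace (b.1 * b'.1)) * (2 - Matrix.trace (a.1 * b.1 * b'.1))) at hprod
  rw [htr1, htr2] at hprod
  obtain ⟨r, hr⟩ := hprod
  have hne : 1 + s + t ≠ 0 := by
    intro h0
    have h1 : (2 - -2 * (1 * s + 0 * t)) * (2 - -2 * (0 * s + 1 * t)) = 0 := by
      have : (2 - -2 * (1 * s + 0 * t)) * (2 - -2 * (0 * s + 1 * t)) =
          2 * (1 + s + t) ^ 2 - 2 * (s * s + t * t - 1) := by ring
      rw [this, h0, hst]; ring
    rcases mul_eq_zero.mp h1 with h | h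
    · apply hsq1
      rw [htr1, h]
      exact ⟨0, by ring⟩
    · apply hsq2
      change IsSquare (2 - Matrix.trace (a.1 * b.1 * b'.1))
      rw [htr2, h]
      exact ⟨0, by ring⟩
  apply hns
  refine ⟨r / (1 + s + t), ?_⟩
  field_simp
  linear_combination hr + 2 * hst

/-- part (2): if `2` is a square there are exactly two classes of Klein four-subgroups -/
theorem two_classes (h2 : (2 : F) ≠ 0) (ρ : F) (hρ : ρ * ρ = 2) :
    ∃ V₁ V₂ : Subgroup (ProjectiveSpecialLinearGroup (Fin 2) F),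
      IsKleinFour V₁ ∧ IsKleinFour V₂ ∧ ¬ CJ V₁ V₂ ∧
      ∀ W : Subgroup (ProjectiveSpecialLinearGroup (Fin 2) F), IsKleinFour W →
        CJ V₁ W ∨ CJ V₂ W := by
  classical
  obtain ⟨a, haa⟩ : ∃ a : SpecialLinearGroup (Fin 2) F, a = compS 0 := ⟨_, rfl⟩
  have ha : Matrix.trace a.1 = 0 := by rw [haa]; exact trace_compS 0
  obtain ⟨b, hb0⟩ := exists_anti h2 a ha
  have hab : a * b = negS (b * a) := by rw [negS_eq_mul]; exact hb0
  obtain ⟨s, t, hst, hns⟩ := exists_nonsquare_param (F := F) h2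
  obtain ⟨e, he, hea⟩ := exists_torus_elt a ha s t hst
  have hab₂ : a * (e * b) = negS ((e * b) * a) := by
    calc a * (e * b) = (a * e) * b := (mul_assoc _ _ _).symm
      _ = (e * a) * b := by rw [hea]
      _ = e * (a * b) := mul_assoc _ _ _
      _ = e * negS (b * a) := by rw [hab]
      _ = negS (e * (b * a)) := mul_negS _ _
      _ = negS ((e * b) * a) := by rw [mul_assoc]
  have hb₂coe : (e * b).1 = s • b.1 + t • (a.1 * b.1) := by
    change e.1 * b.1 = _
    rw [he, Matrix.add_mul, Matrix.smul_mul, Matrix.smul_mul, Matrix.one_mul]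
  have htr := trace_param h2 a b ha hab 1 0 s t
  rw [one_smul, zero_smul, add_zero, ← hb₂coe] at htr
  have hns' : ¬ IsSquare (2 - Matrix.trace (b.1 * (e * b).1)) := by
    rw [htr]
    intro h
    apply hns
    have e1 : (2 : F) - -2 * (1 * s + 0 * t) = 2 + 2 * s := by ring
    rw [e1] at h
    exact h
  have hp : (proj a, proj b) ∈ Pairs (ProjectiveSpecialLinearGroup (Fin 2) F) :=
    KS_pairs h2 a b ⟨ha, hab⟩
  have hp₂ : (proj a, proj (e * b)) ∈ Pairs (ProjectiveSpecialLinearGroup (Fin 2) F) :=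
    KS_pairs h2 a (e * b) ⟨ha, hab₂⟩
  refine ⟨KS a b, KS a (e * b), K_isKleinFour hp, K_isKleinFour hp₂, ?_, ?_⟩
  · exact not_CJ_of_not_PC (swap_PC h2 ρ hρ) (mul_PC h2 ρ hρ) hp hp₂
      (fun hPC => hns' (sq_of_PC h2 a b (e * b) ha hab hPC))
  · intro W hW
    obtain ⟨b', hab', hW'⟩ := exists_lift_first h2 a ha W hW
    obtain ⟨s', t', hst', hb's⟩ := param h2 a b b' ha hab hab'
    have htr1 := trace_param h2 a b ha hab 1 0 s' t'
    rw [one_smul, zero_smul, add_zero, ← hb's] at htr1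
    by_cases hsq1 : IsSquare (2 - Matrix.trace (b.1 * b'.1))
    · left
      exact (CJ_of_sq h2 a b b' ha hab hab' hsq1).trans hW'.symm
    · right
      have htr2 := trace_param h2 a b ha hab s t s' t'
      rw [← hb₂coe, ← hb's] at htr2
      obtain ⟨c, hc⟩ := isSquare_mul_of_not _ _ hns' hsq1
      rw [htr, htr1] at hc
      have hc0 : c ≠ 0 := by
        rintro rfl
        rw [mul_zero] at hc
        rcases mul_eq_zero.mp hc with h | h
        · apply hns'
          rw [htr, h]
          exact ⟨0, by ring⟩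
        · apply hsq1
          rw [htr1, h]
          exact ⟨0, by ring⟩
      have hsq2 : IsSquare (2 - Matrix.trace ((e * b).1 * b'.1)) := by
        rw [htr2]
        refine ⟨2 * (1 + s + s' + s * s' + t * t') / c, ?_⟩
        field_simp
        linear_combination (-(1 + (s * s' + t * t'))) * hc + (-2 * t' ^ 2) * hst +
          (-2 * (1 - s ^ 2)) * hst'
      exact (CJ_of_sq h2 a (e * b) b' ha hab₂ hab' hsq2).trans hW'.symm

end classes

end Cfsg.Agent.Lib.Helper42_PSL2Klein
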