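import Mathlib
import Cfsg.Agent.Lib.Helper41_SL2

set_option autoImplicit false

/-!
Triples in `SL₂(F)` with prescribed traces (for constructing triangle-group images `(2,m,n)` in
`PSL₂(F)`), and powers of a `2×2` matrix of determinant one in terms of its trace.
-/

namespace Cfsg.Agent.Lib.Helper41_SL2Triple

open Matrix

variable {F : Type*} [Field F]

/-- If `M * M = t • M - 1` then `M ^ 3 = (t^2 - 1) • M - t • 1`. -/
theorem pow_three_of_sq {M : Matrix (Fin 2) (Fin 2) F} {t : F} (h : M * M = t • M - 1) :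
    M ^ 3 = (t ^ 2 - 1) • M - t • (1 : Matrix (Fin 2) (Fin 2) F) := by
  have h3 : M ^ 3 = M * M * M := by rw [pow_succ, pow_two]
  rw [h3, h, sub_mul, smul_mul_assoc, h, one_mul]
  module

/-- If `M * M = t • M - 1` then `M ^ 5 = (t^4 - 3 t^2 + 1) • M - (t^3 - 2 t) • 1`. -/
theorem pow_five_of_sq {M : Matrix (Fin 2) (Fin 2) F} {t : F} (h : M * M = t • M - 1) :
    M ^ 5 = (t ^ 4 - 3 * t ^ 2 + 1) • M - (t ^ 3 - 2 * t) • (1 : Matrix (Fin 2) (Fin 2) F) := by
  have h5 : M ^ 5 = M ^ 3 * (M * M) := by rw [← pow_two, ← pow_add]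
  rw [h5, pow_three_of_sq h, h]
  simp only [sub_mul, mul_sub, smul_mul_assoc, mul_smul_comm, one_mul, mul_one, h]
  module

/-- If `M * M = t • M - 1` then `M ^ 4 = (t^3 - 2 t) • M - (t^2 - 1) • 1`. -/
theorem pow_four_of_sq {M : Matrix (Fin 2) (Fin 2) F} {t : F} (h : M * M = t • M - 1) :
    M ^ 4 = (t ^ 3 - 2 * t) • M - (t ^ 2 - 1) • (1 : Matrix (Fin 2) (Fin 2) F) := by
  have h4 : M ^ 4 = M ^ 3 * M := by rw [pow_succ]
  rw [h4, pow_three_of_sq h, sub_mul, smul_mul_assoc, h, smul_mul_assoc, one_mul]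
  module

/-- Cayley–Hamilton for `SL₂` in the form `A * A = (tr A) • A - 1`. -/
theorem mul_self_eq (A : Matrix.SpecialLinearGroup (Fin 2) F) :
    (A : Matrix (Fin 2) (Fin 2) F) * (A : Matrix (Fin 2) (Fin 2) F) =
      (Matrix.trace (A : Matrix (Fin 2) (Fin 2) F)) • (A : Matrix (Fin 2) (Fin 2) F) - 1 := by
  rw [Cfsg.Agent.Lib.Helper41_SL2.sl2_mul_self]
  module

/-- Trace `0` gives an element of order dividing `2` in `PSL₂`. -/
theorem mk_pow_two_of_trace (A : Matrix.SpecialLinearGroup (Fin 2) F)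
    (h : Matrix.trace (A : Matrix (Fin 2) (Fin 2) F) = 0) :
    (QuotientGroup.mk A : Matrix.ProjectiveSpecialLinearGroup (Fin 2) F) ^ 2 = 1 := by
  rw [Cfsg.Agent.Lib.Helper41_SL2.psl_pow_eq_one_iff]
  refine ⟨-1, ?_⟩
  rw [pow_two, mul_self_eq, h]
  module

/-- Trace `±1` gives an element of order dividing `3` in `PSL₂`. -/
theorem mk_pow_three_of_trace (A : Matrix.SpecialLinearGroup (Fin 2) F)
    (h : (Matrix.trace (A : Matrix (Fin 2) (Fin 2) F)) ^ 2 = 1) :
    (QuotientGroup.mk A : Matrix.ProjectiveSpecialLinearGroup (Fin 2) F) ^ 3 = 1 := by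
  rw [Cfsg.Agent.Lib.Helper41_SL2.psl_pow_eq_one_iff]
  refine ⟨-Matrix.trace (A : Matrix (Fin 2) (Fin 2) F), ?_⟩
  rw [pow_three_of_sq (mul_self_eq A), h]
  module

/-- Trace `t` with `t ^ 2 = 2` gives an element of order dividing `4` in `PSL₂`. -/
theorem mk_pow_four_of_trace (A : Matrix.SpecialLinearGroup (Fin 2) F)
    (h : (Matrix.trace (A : Matrix (Fin 2) (Fin 2) F)) ^ 2 = 2) :
    (QuotientGroup.mk A : Matrix.ProjectiveSpecialLinearGroup (Fin 2) F) ^ 4 = 1 := by
  rw [Cfsg.Agent.Lib.Helper41_SL2.psl_pow_eq_one_iff]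
  refine ⟨-1, ?_⟩
  rw [pow_four_of_sq (mul_self_eq A)]
  have h3 : (Matrix.trace (A : Matrix (Fin 2) (Fin 2) F)) ^ 3 - 2 * Matrix.trace (A : Matrix (Fin 2) (Fin 2) F) = 0 := by
    linear_combination (Matrix.trace (A : Matrix (Fin 2) (Fin 2) F)) * h
  rw [h3, h]
  module

/-- Trace `t` with `t ^ 2 = t + 1` or `t ^ 2 = -t + 1` gives an element of order dividing `5` in
`PSL₂`. -/
theorem mk_pow_five_of_trace (A : Matrix.SpecialLinearGroup (Fin 2) F)
    (h : (Matrix.trace (A : Matrix (Fin 2) (Fin 2) F)) ^ 4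
      - 3 * (Matrix.trace (A : Matrix (Fin 2) (Fin 2) F)) ^ 2 + 1 = 0) :
    (QuotientGroup.mk A : Matrix.ProjectiveSpecialLinearGroup (Fin 2) F) ^ 5 = 1 := by
  rw [Cfsg.Agent.Lib.Helper41_SL2.psl_pow_eq_one_iff]
  refine ⟨-((Matrix.trace (A : Matrix (Fin 2) (Fin 2) F)) ^ 3
    - 2 * Matrix.trace (A : Matrix (Fin 2) (Fin 2) F)), ?_⟩
  rw [pow_five_of_sq (mul_self_eq A), h]
  module

/-- `tr (X * Y⁻¹) = tr X * tr Y - tr (X * Y)` in `SL₂`. -/
theorem trace_mul_inv (X Y : Matrix.SpecialLinearGroup (Fin 2) F) :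
    Matrix.trace ((X * Y⁻¹ : Matrix.SpecialLinearGroup (Fin 2) F) : Matrix (Fin 2) (Fin 2) F) =
      Matrix.trace (X : Matrix (Fin 2) (Fin 2) F) * Matrix.trace (Y : Matrix (Fin 2) (Fin 2) F)
        - Matrix.trace ((X * Y : Matrix.SpecialLinearGroup (Fin 2) F) : Matrix (Fin 2) (Fin 2) F) := by
  rw [Matrix.SpecialLinearGroup.coe_mul, Matrix.SpecialLinearGroup.coe_mul,
    Matrix.SpecialLinearGroup.coe_inv, Matrix.adjugate_fin_two]
  simp only [Matrix.trace_fin_two, Matrix.mul_apply, Fin.sum_univ_two, Matrix.of_apply,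
    Matrix.cons_val', Matrix.cons_val_zero, Matrix.cons_val_one, Matrix.cons_val_fin_one]
  ring

/-- Over a finite field there are `X, Y ∈ SL₂(F)` with `tr X = 0`, `tr Y = β`, `tr (X Y) = γ`
(in characteristic two provided `β ≠ γ`). -/
theorem exists_pair [Fintype F] (β γ : F) (h : (2 : F) = 0 → β ≠ γ) :
    ∃ X Y : Matrix.SpecialLinearGroup (Fin 2) F,
      Matrix.trace (X : Matrix (Fin 2) (Fin 2) F) = 0 ∧
      Matrix.trace (Y : Matrix (Fin 2) (Fin 2) F) = β ∧
      Matrix.trace ((X * Y : Matrix.SpecialLinearGroup (Fin 2) F) : Matrix (Fin 2) (Fin 2) F) = γ := by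
  have key : ∃ a b : F, a ^ 2 - β * a + 1 + (b ^ 2 + γ * b) = 0 := by
    by_cases h2 : (2 : F) = 0
    · have hne : β - γ ≠ 0 := sub_ne_zero.mpr (h h2)
      refine ⟨(β - γ)⁻¹, (β - γ)⁻¹, ?_⟩
      field_simp
      linear_combination h2
    · have hodd : Fintype.card F % 2 = 1 := by
        apply FiniteField.odd_card_of_char_ne_two
        intro hc
        apply h2
        have : CharP F 2 := by rw [← hc]; exact ringChar.charP F
        exact CharP.cast_eq_zero F 2
      have hf : (Polynomial.C (1 : F) * Polynomial.X ^ 2 + Polynomial.C (-β) * Polynomial.X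
          + Polynomial.C 1).degree = 2 := Polynomial.degree_quadratic one_ne_zero
      have hg : (Polynomial.C (1 : F) * Polynomial.X ^ 2 + Polynomial.C γ * Polynomial.X
          + Polynomial.C 0).degree = 2 := Polynomial.degree_quadratic one_ne_zero
      obtain ⟨a, b, hab⟩ := FiniteField.exists_root_sum_quadratic hf hg hodd
      refine ⟨a, b, ?_⟩
      simp only [Polynomial.eval_add, Polynomial.eval_mul, Polynomial.eval_C, Polynomial.eval_pow,
        Polynomial.eval_X] at hab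
      linear_combination hab
  obtain ⟨a, b, hab⟩ := key
  have hXd : (!![0, 1; -1, 0] : Matrix (Fin 2) (Fin 2) F).det = 1 := by simp [Matrix.det_fin_two]
  have hYd : (!![a, b; γ + b, β - a] : Matrix (Fin 2) (Fin 2) F).det = 1 := by
    rw [Matrix.det_fin_two_of]; linear_combination -hab
  refine ⟨⟨_, hXd⟩, ⟨_, hYd⟩, ?_, ?_, ?_⟩
  · show Matrix.trace (!![0, 1; -1, 0] : Matrix (Fin 2) (Fin 2) F) = 0
    simp [Matrix.trace_fin_two]
  · show Matrix.trace (!![a, b; γ + b, β - a] : Matrix (Fin 2) (Fin 2) F) = β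
    simp [Matrix.trace_fin_two]
  · show Matrix.trace ((!![0, 1; -1, 0] : Matrix (Fin 2) (Fin 2) F) * !![a, b; γ + b, β - a]) = γ
    simp [Matrix.trace_fin_two, Matrix.mul_apply, Fin.sum_univ_two]

/-- The pair of `SL₂` attached to a solution `(a, b)` of `a² - βa + 1 + (b² + γb) = 0`:
`X = !![0, 1; -1, 0]`, `Y = !![a, b; γ + b, β - a]`. -/
theorem exists_pair_of_sol (β γ a b : F) (hab : a ^ 2 - β * a + 1 + (b ^ 2 + γ * b) = 0) :
    ∃ X Y : Matrix.SpecialLinearGroup (Fin 2) F,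
      (X : Matrix (Fin 2) (Fin 2) F) = !![0, 1; -1, 0] ∧
      Matrix.trace (X : Matrix (Fin 2) (Fin 2) F) = 0 ∧
      Matrix.trace (Y : Matrix (Fin 2) (Fin 2) F) = β ∧
      Matrix.trace ((X * Y : Matrix.SpecialLinearGroup (Fin 2) F) : Matrix (Fin 2) (Fin 2) F) = γ := by
  have hXd : (!![0, 1; -1, 0] : Matrix (Fin 2) (Fin 2) F).det = 1 := by simp [Matrix.det_fin_two]
  have hYd : (!![a, b; γ + b, β - a] : Matrix (Fin 2) (Fin 2) F).det = 1 := by
    rw [Matrix.det_fin_two_of]; linear_combination -hab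
  refine ⟨⟨_, hXd⟩, ⟨_, hYd⟩, rfl, ?_, ?_, ?_⟩
  · show Matrix.trace (!![0, 1; -1, 0] : Matrix (Fin 2) (Fin 2) F) = 0
    simp [Matrix.trace_fin_two]
  · show Matrix.trace (!![a, b; γ + b, β - a] : Matrix (Fin 2) (Fin 2) F) = β
    simp [Matrix.trace_fin_two]
  · show Matrix.trace ((!![0, 1; -1, 0] : Matrix (Fin 2) (Fin 2) F) * !![a, b; γ + b, β - a]) = γ
    simp [Matrix.trace_fin_two]

/-- Over a finite field of odd order the conic `a² - βa + 1 + (b² + γb) = 0` has a point. -/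
theorem exists_sol_of_odd [Fintype F] (β γ : F) (h2 : (2 : F) ≠ 0) :
    ∃ a b : F, a ^ 2 - β * a + 1 + (b ^ 2 + γ * b) = 0 := by
  have hodd : Fintype.card F % 2 = 1 := by
    apply FiniteField.odd_card_of_char_ne_two
    intro hc
    apply h2
    have : CharP F 2 := by rw [← hc]; exact ringChar.charP F
    exact CharP.cast_eq_zero F 2
  have hf : (Polynomial.C (1 : F) * Polynomial.X ^ 2 + Polynomial.C (-β) * Polynomial.X
      + Polynomial.C 1).degree = 2 := Polynomial.degree_quadratic one_ne_zero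
  have hg : (Polynomial.C (1 : F) * Polynomial.X ^ 2 + Polynomial.C γ * Polynomial.X
      + Polynomial.C 0).degree = 2 := Polynomial.degree_quadratic one_ne_zero
  obtain ⟨a, b, hab⟩ := FiniteField.exists_root_sum_quadratic hf hg hodd
  refine ⟨a, b, ?_⟩
  simp only [Polynomial.eval_add, Polynomial.eval_mul, Polynomial.eval_C, Polynomial.eval_pow,
    Polynomial.eval_X] at hab
  linear_combination hab

/-- A matrix of `SL₂` equal to `!![0, 1; -1, 0]` is not central. -/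
theorem not_mem_center_of_coe (X : Matrix.SpecialLinearGroup (Fin 2) F)
    (hX : (X : Matrix (Fin 2) (Fin 2) F) = !![0, 1; -1, 0]) :
    X ∉ Subgroup.center (Matrix.SpecialLinearGroup (Fin 2) F) := by
  intro h
  obtain ⟨c, _, hc⟩ := Cfsg.Agent.Lib.Helper41_SL2.scalar_of_mem_center X h
  rw [hX] at hc
  have := congrFun (congrFun hc 0) 1
  simp at this

end Cfsg.Agent.Lib.Helper41_SL2Triple
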