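import Mathlib
import Cfsg.Agent.Lib.Helper50_MxBasic
import Cfsg.Agent.Lib.Helper50_DkOrders
import Cfsg.Agent.Lib.Helper50_DkGroups
import Cfsg.Agent.Lib.Helper42_SL2Class2
import Cfsg.Agent.S0803
import Cfsg.Agent.S0804

/-!
# Maximal dihedral subgroups of `PSL(2,q)` (helper50)

* `dih_small_false`: a maximal subgroup of a finite simple group is not `DihedralGroup k`, `k ≤ 2`;
* `dih_order`: a maximal dihedral subgroup `D_k` (`k ≥ 3`) of `PSL(2,q)`, `q` odd, has `2k = q ± 1`;
* `excl_of_sylow` and the small exceptions `q ∈ {7, 9, 11}`.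
-/

set_option autoImplicit false

namespace Cfsg.Agent.Lib.Helper50_MxDih

open Subgroup Cfsg.Agent.Lib.Helper50_MxBasic

section general

variable {G : Type*} [Group G]

theorem dih_comm {k : ℕ} (hk0 : k ≠ 0) (hk : k ≤ 2) (a b : DihedralGroup k) : a * b = b * a := by
  have h2 : ∀ i : ZMod k, i + i = 0 := by
    interval_cases k
    · exact absurd rfl hk0
    · decide
    · decide
  have hneg : ∀ i : ZMod k, -i = i := fun i => neg_eq_of_add_eq_zero_left (h2 i)
  rcases a with i | i <;> rcases b with j | j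
  · rw [DihedralGroup.r_mul_r, DihedralGroup.r_mul_r, add_comm]
  · rw [DihedralGroup.r_mul_sr, DihedralGroup.sr_mul_r, sub_eq_add_neg, hneg]
  · rw [DihedralGroup.r_mul_sr, DihedralGroup.sr_mul_r, sub_eq_add_neg, hneg]
  · rw [DihedralGroup.sr_mul_sr, DihedralGroup.sr_mul_sr, sub_eq_add_neg, sub_eq_add_neg, hneg,
      hneg, add_comm]

variable [Finite G]

/-- a maximal subgroup of a finite simple group is not dihedral of order `≤ 4` -/
theorem dih_small_false [IsSimpleGroup G] (M : Subgroup G) (hM : IsCoatom M) {k : ℕ}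
    (hk : k ≤ 2) (f : M ≃* DihedralGroup k) : False := by
  have hk0 : k ≠ 0 := by
    rintro rfl
    have : Infinite (DihedralGroup 0) := by
      apply Infinite.of_injective (fun n : ℕ => (DihedralGroup.r (n : ZMod 0) : DihedralGroup 0))
      intro a b h
      have := DihedralGroup.r.inj h
      exact_mod_cast this
    have : Infinite M := Infinite.of_injective f.symm f.symm.injective
    exact not_finite M
  apply no_abelian_coatom M hM
  · intro h
    have h1 : Nat.card M = 1 := by rw [h]; exact Subgroup.card_bot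
    rw [Nat.card_congr f.toEquiv, DihedralGroup.nat_card] at h1
    omega
  · intro a ha b hb
    have := dih_comm hk0 hk (f ⟨a, ha⟩) (f ⟨b, hb⟩)
    rw [← map_mul, ← map_mul] at this
    exact congrArg Subtype.val (f.injective this)

omit [Finite G] in
/-- structure of a maximal dihedral subgroup of a finite simple group -/
theorem dih_cent [IsSimpleGroup G] (M : Subgroup G) (hM : IsCoatom M) {k : ℕ} (hk3 : 3 ≤ k)
    (f : M ≃* DihedralGroup k) :
    orderOf ((f.symm (DihedralGroup.r 1) : M) : G) = k ∧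
    zpowers ((f.symm (DihedralGroup.r 1) : M) : G) ≤ M ∧
    M ≤ normalizer ((zpowers ((f.symm (DihedralGroup.r 1) : M) : G) : Subgroup G) : Set G) ∧
    centralizer {((f.symm (DihedralGroup.r 1) : M) : G)} =
      zpowers ((f.symm (DihedralGroup.r 1) : M) : G) := by
  have : NeZero k := ⟨by omega⟩
  set a' : M := f.symm (DihedralGroup.r 1) with ha'
  set a : G := (a' : G) with ha
  have hfa : f a' = DihedralGroup.r 1 := by rw [ha', MulEquiv.apply_symm_apply]
  have hord : orderOf a = k := by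
    rw [ha, Subgroup.orderOf_coe, ← MulEquiv.orderOf_eq f, hfa, DihedralGroup.orderOf_r_one]
  have haM : a ∈ M := a'.2
  have hCM : zpowers a ≤ M := zpowers_le.2 haM
  -- conjugation by elements of `M`
  have hconj : ∀ m : M, m * a' * m⁻¹ = a' ∨ m * a' * m⁻¹ = a'⁻¹ := by
    intro m
    rcases hm : f m with i | i
    · left
      apply f.injective
      rw [map_mul, map_mul, map_inv, hm, hfa]
      simp
    · right
      apply f.injective
      rw [map_mul, map_mul, map_inv, map_inv, hm, hfa]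
      simp
  have hstab : ∀ m ∈ M, ∀ y ∈ zpowers a, m * y * m⁻¹ ∈ zpowers a := by
    intro m hm y hy
    obtain ⟨j, rfl⟩ := mem_zpowers_iff.1 hy
    have e1 : m * a ^ j * m⁻¹ = (m * a * m⁻¹) ^ j := by
      have := map_zpow (MulAut.conj m).toMonoidHom a j
      simp only [MulEquiv.toMonoidHom_eq_coe, MonoidHom.coe_coe, MulAut.conj_apply] at this
      exact this
    rw [e1]
    apply zpow_mem
    rcases hconj ⟨m, hm⟩ with h | h
    · have : m * a * m⁻¹ = a := congrArg Subtype.val h
      rw [this]; exact mem_zpowers a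
    · have : m * a * m⁻¹ = a⁻¹ := congrArg Subtype.val h
      rw [this]; exact inv_mem (mem_zpowers a)
  have hMN : M ≤ normalizer ((zpowers a : Subgroup G) : Set G) := by
    intro m hm
    rw [mem_normalizer_iff]
    intro y
    constructor
    · exact hstab m hm y
    · intro h
      have := hstab m⁻¹ (inv_mem hm) _ h
      simpa [mul_assoc] using this
  have ha1 : a ≠ 1 := by
    intro h
    rw [h, orderOf_one] at hord
    omega
  have hC1 : zpowers a ≠ ⊥ := by
    rw [Ne, zpowers_eq_bot]; exact ha1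
  have hNM : normalizer ((zpowers a : Subgroup G) : Set G) = M :=
    normalizer_eq_of_isCoatom hM hCM hC1 hMN
  refine ⟨hord, hCM, hMN, le_antisymm ?_ ?_⟩
  · intro x hx
    have hxa : x * a = a * x := mem_centralizer_singleton_iff.1 hx
    have hxM : x ∈ M := by
      rw [← hNM, mem_normalizer_iff]
      intro y
      have hcomm : ∀ y ∈ zpowers a, x * y * x⁻¹ = y := by
        intro y hy
        obtain ⟨j, rfl⟩ := mem_zpowers_iff.1 hy
        have : Commute x (a ^ j) := (Commute.zpow_right hxa j)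
        rw [this.eq, mul_inv_cancel_right]
      constructor
      · intro hy
        rw [hcomm y hy]; exact hy
      · intro hy
        have := hcomm _ hy
        have e : y = x⁻¹ * (x * y * x⁻¹) * x := by group
        rw [e]
        have hx' : x⁻¹ * (x * y * x⁻¹) * x = x * y * x⁻¹ := by
          have hc := hcomm _ hy
          have : x⁻¹ * (x * y * x⁻¹) * x = x⁻¹ * (x * (x * y * x⁻¹) * x⁻¹) * x := by rw [hc]
          rw [this]; group
        rw [hx']; exact hy
    have hfx : f ⟨x, hxM⟩ * DihedralGroup.r 1 = DihedralGroup.r 1 * f ⟨x, hxM⟩ := by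
      rw [← hfa, ← map_mul, ← map_mul]
      congr 1
      exact Subtype.ext hxa
    rcases hm : f ⟨x, hxM⟩ with i | i
    · have hi : f ⟨x, hxM⟩ = (DihedralGroup.r 1) ^ i.val := by
        rw [hm, DihedralGroup.r_one_pow, ZMod.natCast_zmod_val]
      have hx2 : (⟨x, hxM⟩ : M) = a' ^ i.val := by
        apply f.injective
        rw [hi, map_pow, hfa]
      have : x = a ^ i.val := congrArg Subtype.val hx2
      rw [this]
      exact pow_mem (mem_zpowers a) _
    · exfalso
      rw [hm, DihedralGroup.sr_mul_r, DihedralGroup.r_mul_sr] at hfx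
      have h1 := DihedralGroup.sr.inj hfx
      have h2 : (2 : ZMod k) = 0 := by linear_combination h1
      have h3 : ((2 : ℕ) : ZMod k) = 0 := by exact_mod_cast h2
      rw [ZMod.natCast_eq_zero_iff] at h3
      have := Nat.le_of_dvd (by norm_num) h3
      omega
  · rw [zpowers_le]
    exact mem_centralizer_singleton_iff.2 rfl

/-- **Exclusion by Sylow counting.** -/
theorem excl_of_sylow [IsSimpleGroup G] {ℓ : ℕ} [Fact ℓ.Prime] (M H Q : Subgroup G)
    (hM : IsCoatom M) (hQM : Q ≤ M) (hQ1 : Q ≠ ⊥) (hMN : M ≤ normalizer (Q : Set G))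
    (hQc : Nat.card Q = ℓ ^ (Nat.card G).factorization ℓ)
    (hH : H ≠ ⊤) (hHℓ : ℓ ^ (Nat.card G).factorization ℓ ∣ Nat.card H)
    (hcount : ∀ n : ℕ, n % ℓ = 1 → n * ℓ ^ (Nat.card G).factorization ℓ ∣ Nat.card H →
      Nat.card M * n ≤ Nat.card H)
    (hne : Nat.card H ≠ Nat.card M) : False := by
  classical
  have hℓ : ℓ.Prime := Fact.out
  set v := (Nat.card G).factorization ℓ with hv
  have hG0 : Nat.card G ≠ 0 := Nat.card_pos.ne'
  have hH0 : Nat.card H ≠ 0 := Nat.card_pos.ne'
  have hvH : (Nat.card H).factorization ℓ = v := by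
    apply le_antisymm
    · exact (Nat.factorization_le_iff_dvd hH0 hG0).2 (Subgroup.card_subgroup_dvd_card H) ℓ
    · exact (hℓ.pow_dvd_iff_le_factorization hH0).1 hHℓ
  let Q' : Sylow ℓ G := Sylow.ofCard Q hQc
  have hQ'coe : (Q' : Subgroup G) = Q := rfl
  let R : Sylow ℓ H := default
  have hRc : Nat.card (R : Subgroup H) = ℓ ^ v := by
    rw [Sylow.card_eq_multiplicity, hvH]
  set R' : Subgroup G := (R : Subgroup H).map H.subtype with hR'
  have hR'c : Nat.card R' = ℓ ^ v := by
    rw [hR', ← hRc]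
    exact (Nat.card_congr ((R : Subgroup H).equivMapOfInjective _ H.subtype_injective).toEquiv).symm
  let Q'' : Sylow ℓ G := Sylow.ofCard R' hR'c
  have hQ''coe : (Q'' : Subgroup G) = R' := rfl
  set n := Nat.card (Sylow ℓ H) with hn
  have hn1 : n % ℓ = 1 := by
    have := card_sylow_modEq_one ℓ H
    rw [Nat.ModEq, Nat.mod_eq_of_lt hℓ.one_lt] at this
    exact this
  have hnidx : n = (normalizer ((R : Subgroup H) : Set H)).index := Sylow.card_eq_index_normalizer R
  have hmul : Nat.card (normalizer ((R : Subgroup H) : Set H)) * n = Nat.card H := by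
    rw [hnidx, Subgroup.card_mul_index]
  have hRdvd : ℓ ^ v ∣ Nat.card (normalizer ((R : Subgroup H) : Set H)) := by
    rw [← hRc]
    exact Subgroup.card_dvd_of_le le_normalizer
  have hndvd : n * ℓ ^ v ∣ Nat.card H := by
    rw [← hmul, mul_comm]
    exact Nat.mul_dvd_mul_right hRdvd n
  have hle := hcount n hn1 hndvd
  have hnpos : 0 < n := Nat.card_pos
  have hMle : Nat.card M ≤ Nat.card (normalizer ((R : Subgroup H) : Set H)) := by
    rw [← hmul] at hle
    exact Nat.le_of_mul_le_mul_right hle hnpos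
  have hsub : (normalizer ((R : Subgroup H) : Set H)).map H.subtype ≤
      H ⊓ normalizer (((Q'' : Subgroup G)) : Set G) := by
    rw [hQ''coe]
    apply le_inf
    · rintro _ ⟨x, -, rfl⟩
      exact x.2
    · exact Subgroup.le_normalizer_map H.subtype
  have hcard2 : Nat.card (normalizer ((R : Subgroup H) : Set H)) ≤
      Nat.card ↥(H ⊓ normalizer (((Q'' : Subgroup G)) : Set G)) := by
    rw [Nat.card_congr ((normalizer ((R : Subgroup H) : Set H)).equivMapOfInjective _
      H.subtype_injective).toEquiv]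
    exact Nat.le_of_dvd Nat.card_pos (Subgroup.card_dvd_of_le hsub)
  have hQn : normalizer (((Q' : Subgroup G)) : Set G) ≠ ⊤ := by
    rw [hQ'coe]
    intro htop
    have hnorm : Q.Normal := normalizer_eq_top_iff.1 htop
    rcases hnorm.eq_bot_or_eq_top with h | h
    · exact hQ1 h
    · apply hM.1
      rw [eq_top_iff, ← h]
      exact hQM
  exact sylow_conj_excl M H hM Q' Q'' (by rw [hQ'coe]; exact hMN) hQn hH (hMle.trans hcard2) hne

end general


theorem arith (m k I N R0 : ℕ) (hk : 3 ≤ k) (hkle : 2 * k ≤ m + 2)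
    (h1 : k * I = N) (h2 : 2 * N = (m + 1) * (m * (m + 2))) (hMN : 2 * k ≤ N)
    (hR : R0 = 0 ∨ R0 = 2)
    (hc : I = 1 ∨ 2 * I = m * (m + 2) ∨ 2 * I = (m + 1) * m + (m + 1) * R0 ∨ I = (m + 1) * m ∨
      I = (m + 1) * (m + 2)) (hm : 4 ≤ m) : 2 * k = m + 2 ∨ 2 * k = m := by
  rcases hc with h | h | h | h | h
  · exfalso
    rw [h, mul_one] at h1
    omega
  · exfalso
    have e : k * (m * (m + 2)) = (m + 1) * (m * (m + 2)) := by
      rw [← h2, ← h1, ← h]; ring
    have := Nat.eq_of_mul_eq_mul_right (by positivity) e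
    omega
  · exfalso
    rcases hR with rfl | rfl
    · have e : k * ((m + 1) * m) = (m + 2) * ((m + 1) * m) := by
        have : 2 * I = (m + 1) * m := by rw [h]; ring
        rw [← this]
        calc k * (2 * I) = 2 * (k * I) := by ring
          _ = (m + 1) * (m * (m + 2)) := by rw [h1, h2]
          _ = (m + 2) * (2 * I) := by rw [this]; ring
      have := Nat.eq_of_mul_eq_mul_right (by positivity) e
      omega
    · have e : k * ((m + 1) * (m + 2)) = m * ((m + 1) * (m + 2)) := by
        have : 2 * I = (m + 1) * (m + 2) := by rw [h]; ring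
        rw [← this]
        calc k * (2 * I) = 2 * (k * I) := by ring
          _ = (m + 1) * (m * (m + 2)) := by rw [h1, h2]
          _ = m * (2 * I) := by rw [this]; ring
      have := Nat.eq_of_mul_eq_mul_right (by positivity) e
      omega
  · left
    have e : (2 * k) * ((m + 1) * m) = (m + 2) * ((m + 1) * m) := by
      rw [← h]
      calc 2 * k * I = 2 * (k * I) := by ring
        _ = (m + 1) * (m * (m + 2)) := by rw [h1, h2]
        _ = (m + 2) * I := by rw [h]; ring
    exact Nat.eq_of_mul_eq_mul_right (by positivity) e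
  · right
    have e : (2 * k) * ((m + 1) * (m + 2)) = m * ((m + 1) * (m + 2)) := by
      rw [← h]
      calc 2 * k * I = 2 * (k * I) := by ring
        _ = (m + 1) * (m * (m + 2)) := by rw [h1, h2]
        _ = m * I := by rw [h]; ring
    exact Nat.eq_of_mul_eq_mul_right (by positivity) e

section psl

open Matrix Cfsg.Agent.Lib.Helper50_SL2Mat Cfsg.Agent.Lib.Helper50_DkPSL
  Cfsg.Agent.Lib.Helper50_DkOrders
open scoped MatrixGroups

variable {F : Type*} [Field F] [Fintype F] [DecidableEq F]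

omit [DecidableEq F] in
theorem card_PSL2_odd (h2 : (2 : F) ≠ 0) :
    2 * Nat.card PSL(2, F) = Fintype.card F * (Fintype.card F ^ 2 - 1) := by
  have h := card_PSL2 (F := F)
  rcases two_cases (F := F) with ⟨h0, -, -⟩ | ⟨-, hg, -⟩
  · exact absurd h0 h2
  · rw [hg] at h
    rw [← h, mul_comm]

omit [DecidableEq F] in
theorem card_PSL2_succ (h2 : (2 : F) ≠ 0) (m : ℕ) (hm : Fintype.card F = m + 1) :
    2 * Nat.card PSL(2, F) = (m + 1) * (m * (m + 2)) := by
  rw [card_PSL2_odd h2, hm]
  congr 1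
  have : (m + 1) ^ 2 = m * (m + 2) + 1 := by ring
  rw [this, Nat.add_sub_cancel]

/-- **The order of a maximal dihedral subgroup.** -/
theorem dih_order (h2 : (2 : F) ≠ 0) (hq5 : 5 ≤ Fintype.card F) (M : Subgroup PSL(2, F))
    (hM : IsCoatom M) {k : ℕ} (hk3 : 3 ≤ k) (hkle : 2 * k ≤ Fintype.card F + 1)
    (f : M ≃* DihedralGroup k) :
    2 * k = Fintype.card F + 1 ∨ 2 * k = Fintype.card F - 1 := by
  have : IsSimpleGroup PSL(2, F) :=
    Matrix.ProjectiveSpecialLinearGroup.rank_two_simple (by rw [Nat.card_eq_fintype_card]; omega)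
  obtain ⟨hord, hCM, hMN, hcent⟩ := dih_cent M hM hk3 f
  set a := ((f.symm (DihedralGroup.r 1) : M) : PSL(2, F)) with ha
  obtain ⟨g, hg⟩ := proj_surjective a
  have hga : Cfsg.Agent.Lib.Helper42_SL2Class.proj g = a := hg
  have hcardC : Nat.card (centralizer {a}) = k := by rw [hcent, Nat.card_zpowers, hord]
  have hidx := (centralizer {a}).card_mul_index
  rw [hcardC] at hidx
  obtain ⟨m, hm⟩ : ∃ m, Fintype.card F = m + 1 := ⟨Fintype.card F - 1, by omega⟩
  have hG := card_PSL2_succ h2 m hm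
  have hMcard : 2 * k ≤ Nat.card PSL(2, F) := by
    have h1 : Nat.card M = 2 * k := by rw [Nat.card_congr f.toEquiv, DihedralGroup.nat_card]
    rw [← h1]
    exact Nat.le_of_dvd Nat.card_pos (Subgroup.card_subgroup_dvd_card M)
  have h4 : (0 : F) ^ 2 ≠ 4 := by
    intro h
    apply h2
    have : (2 : F) * 2 = 0 := by rw [← sub_eq_zero] at h; linear_combination -h
    rcases mul_eq_zero.1 this with h | h <;> exact h
  have hR := Cfsg.Agent.Lib.Helper42_SL2Class.R_zero_or_two (0 : F) h4
  have hc := Cfsg.Agent.Lib.Helper42_SL2Class.index_cases_odd h2 g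
  rw [hga, hm] at hc
  have e1 : (m + 1) ^ 2 - 1 = m * (m + 2) := by
    have : (m + 1) ^ 2 = m * (m + 2) + 1 := by ring
    rw [this, Nat.add_sub_cancel]
  rw [e1, Nat.add_sub_cancel] at hc
  have := arith m k _ _ _ hk3 (by omega) hidx hG hMcard hR hc (by omega)
  rcases this with h | h
  · left; omega
  · right; omega

omit [DecidableEq F] in
/-- exclusion: the rotation subgroup is a Sylow subgroup -/
theorem dih_excl_rot (h4 : 4 ≤ Fintype.card F) (M : Subgroup PSL(2, F)) (hM : IsCoatom M) {k : ℕ}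
    (hk3 : 3 ≤ k) (f : M ≃* DihedralGroup k) (ℓ : ℕ) [Fact ℓ.Prime]
    (hk : k = ℓ ^ (Nat.card PSL(2, F)).factorization ℓ) (H : Subgroup PSL(2, F))
    (hH : Nat.card H ≠ Nat.card PSL(2, F)) (hHk : Nat.card H ≠ 2 * k)
    (hHℓ : k ∣ Nat.card H)
    (hcount : ∀ n : ℕ, n % ℓ = 1 → n * k ∣ Nat.card H → 2 * k * n ≤ Nat.card H) : False := by
  have : IsSimpleGroup PSL(2, F) :=
    Matrix.ProjectiveSpecialLinearGroup.rank_two_simple (by rw [Nat.card_eq_fintype_card]; exact h4)
  obtain ⟨hord, hCM, hMN, -⟩ := dih_cent M hM hk3 f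
  set a := ((f.symm (DihedralGroup.r 1) : M) : PSL(2, F)) with ha
  have hMc : Nat.card M = 2 * k := by rw [Nat.card_congr f.toEquiv, DihedralGroup.nat_card]
  have ha1 : a ≠ 1 := by
    intro h
    rw [h, orderOf_one] at hord
    omega
  apply excl_of_sylow (ℓ := ℓ) M H (zpowers a) hM hCM
    (by rw [Ne, zpowers_eq_bot]; exact ha1) hMN
    (by rw [Nat.card_zpowers, hord]; exact hk)
    (fun h => hH (by rw [h, Subgroup.card_top])) (by rw [← hk]; exact hHℓ)
  · intro n hn hdvd
    rw [hMc]
    rw [← hk] at hdvd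
    exact hcount n hn hdvd
  · rw [hMc]; exact hHk

omit [DecidableEq F] in
/-- exclusion: the whole dihedral group is a Sylow subgroup -/
theorem dih_excl_full (h4 : 4 ≤ Fintype.card F) (M : Subgroup PSL(2, F)) (hM : IsCoatom M) {k : ℕ}
    (_hk1 : 1 ≤ k) (f : M ≃* DihedralGroup k) (ℓ : ℕ) [Fact ℓ.Prime]
    (hk : 2 * k = ℓ ^ (Nat.card PSL(2, F)).factorization ℓ) (H : Subgroup PSL(2, F))
    (hH : Nat.card H ≠ Nat.card PSL(2, F)) (hHk : Nat.card H ≠ 2 * k)
    (hHℓ : 2 * k ∣ Nat.card H)
    (hcount : ∀ n : ℕ, n % ℓ = 1 → n * (2 * k) ∣ Nat.card H → 2 * k * n ≤ Nat.card H) :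
    False := by
  have : IsSimpleGroup PSL(2, F) :=
    Matrix.ProjectiveSpecialLinearGroup.rank_two_simple (by rw [Nat.card_eq_fintype_card]; exact h4)
  have hMc : Nat.card M = 2 * k := by rw [Nat.card_congr f.toEquiv, DihedralGroup.nat_card]
  apply excl_of_sylow (ℓ := ℓ) M H M hM le_rfl
    (by
      intro h
      rw [h, Subgroup.card_bot] at hMc
      omega) le_normalizer
    (by rw [hMc]; exact hk)
    (fun h => hH (by rw [h, Subgroup.card_top])) (by rw [← hk]; exact hHℓ)
  · intro n hn hdvd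
    rw [hMc]
    rw [← hk] at hdvd
    exact hcount n hn hdvd
  · rw [hMc]; exact hHk

omit [DecidableEq F] in
theorem card_PSL2_of (h2 : (2 : F) ≠ 0) (q N : ℕ) (hq : Fintype.card F = q)
    (hN : 2 * N = q * (q ^ 2 - 1)) : Nat.card PSL(2, F) = N := by
  have := card_PSL2_odd h2
  rw [hq, ← hN] at this
  omega

theorem count_S4_three (n : ℕ) (h1 : n % 3 = 1) (h2 : n * 3 ∣ 24) : 2 * 3 * n ≤ 24 := by
  have hle := Nat.le_of_dvd (by norm_num) h2
  have hn : n ≤ 8 := by omega
  interval_cases n <;> omega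

theorem count_S4_two (n : ℕ) (h1 : n % 2 = 1) (h2 : n * (2 * 4) ∣ 24) : 2 * 4 * n ≤ 24 := by
  have hle := Nat.le_of_dvd (by norm_num) h2
  omega

theorem count_A5_five (n : ℕ) (h1 : n % 5 = 1) (h2 : n * 5 ∣ 60) : 2 * 5 * n ≤ 60 := by
  have hle := Nat.le_of_dvd (by norm_num) h2
  have hn : n ≤ 12 := by omega
  interval_cases n <;> omega

omit [DecidableEq F] in
theorem exists_S4 (q : ℕ) (hq : Fintype.card F = q) (h : q ^ 2 % 16 = 1) :
    ∃ H : Subgroup PSL(2, F), Nat.card H = 24 := by
  obtain ⟨H, ⟨e⟩⟩ := (Cfsg.Agent.S0803.result hq).2 h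
  exact ⟨H, by rw [Nat.card_congr e.toEquiv, card_S4]⟩

omit [DecidableEq F] in
theorem exists_A5 (q : ℕ) (hq : Fintype.card F = q) (h : 5 ∣ q * (q ^ 2 - 1)) :
    ∃ H : Subgroup PSL(2, F), Nat.card H = 60 := by
  obtain ⟨H, ⟨e⟩⟩ := (Cfsg.Agent.S0804.result hq).2 h
  exact ⟨H, by rw [Nat.card_congr e.toEquiv, card_A5]⟩

omit [DecidableEq F] in
/-- `D₃` is not maximal in `PSL(2,7)` -/
theorem dih3_excl (h2 : (2 : F) ≠ 0) (hq : Fintype.card F = 7) (M : Subgroup PSL(2, F))
    (hM : IsCoatom M) (f : M ≃* DihedralGroup 3) : False := by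
  have : Fact (Nat.Prime 3) := ⟨by norm_num⟩
  have hG : Nat.card PSL(2, F) = 168 := card_PSL2_of h2 7 168 hq (by norm_num)
  obtain ⟨H, hH⟩ := exists_S4 (F := F) 7 hq (by norm_num)
  have hfac : (168 : ℕ).factorization 3 = 1 :=
    Cfsg.Agent.Lib.Helper50_DkGroups.factorization_eq 168 3 1 56 (by norm_num) (by norm_num)
      (by norm_num)
  apply dih_excl_rot (by omega) M hM (le_refl 3) f 3 (by rw [hG, hfac]; norm_num) H
    (by rw [hH, hG]; norm_num) (by rw [hH]; norm_num) (by rw [hH]; norm_num)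
  intro n h1 h2
  rw [hH] at h2 ⊢
  exact count_S4_three n h1 h2

omit [DecidableEq F] in
/-- `D₄` is not maximal in `PSL(2,7)` and `PSL(2,9)` -/
theorem dih4_excl (h2 : (2 : F) ≠ 0) (hq : Fintype.card F = 7 ∨ Fintype.card F = 9)
    (M : Subgroup PSL(2, F)) (hM : IsCoatom M) (f : M ≃* DihedralGroup 4) : False := by
  have : Fact (Nat.Prime 2) := ⟨by norm_num⟩
  have hfac : (Nat.card PSL(2, F)).factorization 2 = 3 := by
    rcases hq with hq | hq
    · rw [card_PSL2_of h2 7 168 hq (by norm_num)]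
      exact Cfsg.Agent.Lib.Helper50_DkGroups.factorization_eq 168 2 3 21 (by norm_num)
        (by norm_num) (by norm_num)
    · rw [card_PSL2_of h2 9 360 hq (by norm_num)]
      exact Cfsg.Agent.Lib.Helper50_DkGroups.factorization_eq 360 2 3 45 (by norm_num)
        (by norm_num) (by norm_num)
  have hGne : Nat.card PSL(2, F) ≠ 24 := by
    rcases hq with hq | hq
    · rw [card_PSL2_of h2 7 168 hq (by norm_num)]; norm_num
    · rw [card_PSL2_of h2 9 360 hq (by norm_num)]; norm_num
  obtain ⟨H, hH⟩ : ∃ H : Subgroup PSL(2, F), Nat.card H = 24 := by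
    rcases hq with hq | hq
    · exact exists_S4 (F := F) 7 hq (by norm_num)
    · exact exists_S4 (F := F) 9 hq (by norm_num)
  apply dih_excl_full (by omega) M hM (by norm_num) f 2 (by rw [hfac]; norm_num) H
    (by rw [hH]; exact hGne.symm) (by rw [hH]; norm_num) (by rw [hH]; norm_num)
  intro n h1 h2
  rw [hH] at h2 ⊢
  exact count_S4_two n h1 h2

omit [DecidableEq F] in
/-- `D₅` is not maximal in `PSL(2,9)` and `PSL(2,11)` -/
theorem dih5_excl (h2 : (2 : F) ≠ 0) (hq : Fintype.card F = 9 ∨ Fintype.card F = 11)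
    (M : Subgroup PSL(2, F)) (hM : IsCoatom M) (f : M ≃* DihedralGroup 5) : False := by
  have : Fact (Nat.Prime 5) := ⟨by norm_num⟩
  have hfac : (Nat.card PSL(2, F)).factorization 5 = 1 := by
    rcases hq with hq | hq
    · rw [card_PSL2_of h2 9 360 hq (by norm_num)]
      exact Cfsg.Agent.Lib.Helper50_DkGroups.factorization_eq 360 5 1 72 (by norm_num)
        (by norm_num) (by norm_num)
    · rw [card_PSL2_of h2 11 660 hq (by norm_num)]
      exact Cfsg.Agent.Lib.Helper50_DkGroups.factorization_eq 660 5 1 132 (by norm_num)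
        (by norm_num) (by norm_num)
  have hGne : Nat.card PSL(2, F) ≠ 60 := by
    rcases hq with hq | hq
    · rw [card_PSL2_of h2 9 360 hq (by norm_num)]; norm_num
    · rw [card_PSL2_of h2 11 660 hq (by norm_num)]; norm_num
  obtain ⟨H, hH⟩ : ∃ H : Subgroup PSL(2, F), Nat.card H = 60 := by
    rcases hq with hq | hq
    · exact exists_A5 (F := F) 9 hq (by norm_num)
    · exact exists_A5 (F := F) 11 hq (by norm_num)
  apply dih_excl_rot (by omega) M hM (by norm_num) f 5 (by rw [hfac]; norm_num) H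
    (by rw [hH]; exact hGne.symm) (by rw [hH]; norm_num) (by rw [hH]; norm_num)
  intro n h1 h2
  rw [hH] at h2 ⊢
  exact count_A5_five n h1 h2

end psl

end Cfsg.Agent.Lib.Helper50_MxDih
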