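import Mathlib
import Cfsg.Agent.Lib.Helper50_SL2Mat
import Cfsg.Agent.Lib.Helper42_SL2Class

/-!
# Rigidity of pairs in `SL(2,F)` under `GL(2,F)`-conjugation (helper50)

* `gcj e`: conjugation by `e : GL (Fin 2) F` as an automorphism of `SL(2,F)`.
* `pair_rigid`: two pairs `(a, Y)`, `(a', Y')` with `tr a = tr a' = 0`, `tr Y = tr Y'`,
  `tr (a Y) = tr (a' Y')` and `(tr Y)² + (tr aY)² ≠ 4` are conjugate under `GL(2,F)`
  (explicit Hilbert 90 for the torus centralising `a`).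
-/

set_option autoImplicit false

namespace Cfsg.Agent.Lib.Helper50_MxRigid

open Matrix Cfsg.Agent.Lib.Helper50_SL2Mat
open scoped MatrixGroups

variable {F : Type*} [Field F]

/-- conjugation by an element of `GL(2,F)` as an automorphism of `SL(2,F)` -/
noncomputable def gcj (e : GL (Fin 2) F) : SL(2, F) ≃* SL(2, F) where
  toFun g := ⟨(e : Matrix (Fin 2) (Fin 2) F) * g.1 * ((e⁻¹ : GL (Fin 2) F) : Matrix (Fin 2) (Fin 2) F), by
    rw [Matrix.det_mul, Matrix.det_mul, g.2, mul_one, ← Matrix.det_mul]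
    have : (e : Matrix (Fin 2) (Fin 2) F) * ((e⁻¹ : GL (Fin 2) F) : Matrix (Fin 2) (Fin 2) F) = 1 := by
      rw [← Units.val_mul, mul_inv_cancel]; rfl
    rw [this, Matrix.det_one]⟩
  invFun g := ⟨((e⁻¹ : GL (Fin 2) F) : Matrix (Fin 2) (Fin 2) F) * g.1 * (e : Matrix (Fin 2) (Fin 2) F), by
    rw [Matrix.det_mul, Matrix.det_mul, g.2, mul_one, ← Matrix.det_mul]
    have : ((e⁻¹ : GL (Fin 2) F) : Matrix (Fin 2) (Fin 2) F) * (e : Matrix (Fin 2) (Fin 2) F) = 1 := by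
      rw [← Units.val_mul, inv_mul_cancel]; rfl
    rw [this, Matrix.det_one]⟩
  left_inv g := by
    apply Subtype.ext
    have h : ((e⁻¹ : GL (Fin 2) F) : Matrix (Fin 2) (Fin 2) F) * (e : Matrix (Fin 2) (Fin 2) F) = 1 := by
      rw [← Units.val_mul, inv_mul_cancel]; rfl
    show ((e⁻¹ : GL (Fin 2) F) : Matrix (Fin 2) (Fin 2) F) *
      ((e : Matrix (Fin 2) (Fin 2) F) * g.1 * ((e⁻¹ : GL (Fin 2) F) : Matrix (Fin 2) (Fin 2) F)) *
        (e : Matrix (Fin 2) (Fin 2) F) = g.1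
    rw [Matrix.mul_assoc, Matrix.mul_assoc, h, Matrix.mul_one, ← Matrix.mul_assoc, h, Matrix.one_mul]
  right_inv g := by
    apply Subtype.ext
    have h : (e : Matrix (Fin 2) (Fin 2) F) * ((e⁻¹ : GL (Fin 2) F) : Matrix (Fin 2) (Fin 2) F) = 1 := by
      rw [← Units.val_mul, mul_inv_cancel]; rfl
    show (e : Matrix (Fin 2) (Fin 2) F) *
      (((e⁻¹ : GL (Fin 2) F) : Matrix (Fin 2) (Fin 2) F) * g.1 * (e : Matrix (Fin 2) (Fin 2) F)) *
        ((e⁻¹ : GL (Fin 2) F) : Matrix (Fin 2) (Fin 2) F) = g.1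
    rw [Matrix.mul_assoc, Matrix.mul_assoc, h, Matrix.mul_one, ← Matrix.mul_assoc, h, Matrix.one_mul]
  map_mul' g h := by
    apply Subtype.ext
    have hh : ((e⁻¹ : GL (Fin 2) F) : Matrix (Fin 2) (Fin 2) F) * (e : Matrix (Fin 2) (Fin 2) F) = 1 := by
      rw [← Units.val_mul, inv_mul_cancel]; rfl
    show (e : Matrix (Fin 2) (Fin 2) F) * (g.1 * h.1) * ((e⁻¹ : GL (Fin 2) F) : Matrix (Fin 2) (Fin 2) F) =
      ((e : Matrix (Fin 2) (Fin 2) F) * g.1 * ((e⁻¹ : GL (Fin 2) F) : Matrix (Fin 2) (Fin 2) F)) *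
        ((e : Matrix (Fin 2) (Fin 2) F) * h.1 * ((e⁻¹ : GL (Fin 2) F) : Matrix (Fin 2) (Fin 2) F))
    simp only [Matrix.mul_assoc]
    rw [← Matrix.mul_assoc ((e⁻¹ : GL (Fin 2) F) : Matrix (Fin 2) (Fin 2) F)
      (e : Matrix (Fin 2) (Fin 2) F), hh, Matrix.one_mul]

theorem gcj_coe (e : GL (Fin 2) F) (g : SL(2, F)) :
    (gcj e g).1 = (e : Matrix (Fin 2) (Fin 2) F) * g.1 *
      ((e⁻¹ : GL (Fin 2) F) : Matrix (Fin 2) (Fin 2) F) := rfl

/-- the defining property: `gcj e g = g'` as soon as `e g = g' e` -/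
theorem gcj_eq_of_mul_eq (e : GL (Fin 2) F) (g g' : SL(2, F))
    (h : (e : Matrix (Fin 2) (Fin 2) F) * g.1 = g'.1 * (e : Matrix (Fin 2) (Fin 2) F)) :
    gcj e g = g' := by
  apply Subtype.ext
  rw [gcj_coe, h, Matrix.mul_assoc]
  have : (e : Matrix (Fin 2) (Fin 2) F) * ((e⁻¹ : GL (Fin 2) F) : Matrix (Fin 2) (Fin 2) F) = 1 := by
    rw [← Units.val_mul, mul_inv_cancel]; rfl
  rw [this, Matrix.mul_one]

theorem gcj_mul (e e' : GL (Fin 2) F) (g : SL(2, F)) : gcj (e * e') g = gcj e (gcj e' g) := by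
  apply Subtype.ext
  rw [gcj_coe, gcj_coe, gcj_coe, _root_.mul_inv_rev, Units.val_mul, Units.val_mul]
  simp only [Matrix.mul_assoc]

theorem gcj_toGL (k g : SL(2, F)) :
    gcj (Matrix.SpecialLinearGroup.toGL k) g = k * g * k⁻¹ := by
  apply gcj_eq_of_mul_eq
  show k.1 * g.1 = (k * g * k⁻¹).1 * k.1
  have : (k * g * k⁻¹).1 * k.1 = ((k * g * k⁻¹) * k).1 := rfl
  rw [this, inv_mul_cancel_right]
  rfl

theorem tr_gcj (e : GL (Fin 2) F) (g : SL(2, F)) : tr (gcj e g) = tr g := by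
  have h1 : tr (gcj e g) = Matrix.trace (gcj e g).1 := by
    rw [Matrix.trace_fin_two]; rfl
  have h2 : tr g = Matrix.trace g.1 := by
    rw [Matrix.trace_fin_two]; rfl
  rw [h1, h2, gcj_coe, Matrix.trace_mul_comm, ← Matrix.mul_assoc]
  have : ((e⁻¹ : GL (Fin 2) F) : Matrix (Fin 2) (Fin 2) F) * (e : Matrix (Fin 2) (Fin 2) F) = 1 := by
    rw [← Units.val_mul, inv_mul_cancel]; rfl
  rw [this, Matrix.one_mul]

/-- the standard element of order four -/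
def J : SL(2, F) := mk 0 (-1) 1 0 (by ring)

@[simp] theorem J00 : (J : SL(2, F)) 0 0 = 0 := rfl
@[simp] theorem J01 : (J : SL(2, F)) 0 1 = -1 := rfl
@[simp] theorem J10 : (J : SL(2, F)) 1 0 = 1 := rfl
@[simp] theorem J11 : (J : SL(2, F)) 1 1 = 0 := rfl

theorem tr_J : tr (J : SL(2, F)) = 0 := by simp [tr]

theorem tr_J_mul (Y : SL(2, F)) : tr (J * Y) = Y 0 1 - Y 1 0 := by
  simp only [tr, mul00, mul11, J00, J01, J10, J11]; ring

/-- the norm identity -/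
theorem norm_id (Y : SL(2, F)) :
    (Y 0 0 - Y 1 1) ^ 2 + (Y 0 1 + Y 1 0) ^ 2 = tr Y ^ 2 + (Y 0 1 - Y 1 0) ^ 2 - 4 := by
  have hd := det1 Y
  simp only [tr]
  linear_combination (-4 : F) * hd

/-- the rotation matrix `x + y J` -/
def rot (x y : F) : Matrix (Fin 2) (Fin 2) F := !![x, -y; y, x]

theorem det_rot (x y : F) : (rot x y).det = x * x + y * y := by
  rw [rot, Matrix.det_fin_two_of]; ring

omit [Field F] in
theorem mat_ext2 {A B : Matrix (Fin 2) (Fin 2) F} (h00 : A 0 0 = B 0 0) (h01 : A 0 1 = B 0 1)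
    (h10 : A 1 0 = B 1 0) (h11 : A 1 1 = B 1 1) : A = B := by
  ext i j
  fin_cases i <;> fin_cases j <;> assumption

theorem rot_mul (x y : F) (A : Matrix (Fin 2) (Fin 2) F) :
    (rot x y * A) 0 0 = x * A 0 0 - y * A 1 0 ∧ (rot x y * A) 0 1 = x * A 0 1 - y * A 1 1 ∧
    (rot x y * A) 1 0 = y * A 0 0 + x * A 1 0 ∧ (rot x y * A) 1 1 = y * A 0 1 + x * A 1 1 := by
  refine ⟨?_, ?_, ?_, ?_⟩ <;> simp [rot, Matrix.mul_apply, Fin.sum_univ_two] <;> ring

theorem mul_rot (x y : F) (A : Matrix (Fin 2) (Fin 2) F) :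
    (A * rot x y) 0 0 = A 0 0 * x + A 0 1 * y ∧ (A * rot x y) 0 1 = -(A 0 0 * y) + A 0 1 * x ∧
    (A * rot x y) 1 0 = A 1 0 * x + A 1 1 * y ∧ (A * rot x y) 1 1 = -(A 1 0 * y) + A 1 1 * x := by
  refine ⟨?_, ?_, ?_, ?_⟩ <;> simp [rot, Matrix.mul_apply, Fin.sum_univ_two]

/-- the algebraic core of the rigidity lemma -/
theorem rigid_aux (h2 : (2 : F) ≠ 0) (y00 y01 y10 y11 z00 z01 z10 z11 t s m n m' n' : F)
    (e00 : 2 * y00 = t + m) (e11 : 2 * y11 = t - m) (e01 : 2 * y01 = s + n)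
    (e10 : 2 * y10 = n - s) (f00 : 2 * z00 = t + m') (f11 : 2 * z11 = t - m')
    (f01 : 2 * z01 = s + n') (f10 : 2 * z10 = n' - s)
    (hNN : m ^ 2 + n ^ 2 = m' ^ 2 + n' ^ 2) (hN : m ^ 2 + n ^ 2 ≠ 0) :
    ∃ x y : F, x * x + y * y ≠ 0 ∧ x * y00 - y * y10 = z00 * x + z01 * y ∧
      x * y01 - y * y11 = -(z00 * y) + z01 * x ∧ y * y00 + x * y10 = z10 * x + z11 * y ∧
      y * y01 + x * y11 = -(z10 * y) + z11 * x := by
  have key : ∀ u v : F, 2 * u = 2 * v → u = v := fun u v h => mul_left_cancel₀ h2 h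
  by_cases hx : m ^ 2 + n ^ 2 + m * m' + n * n' = 0
  · have hy : m * n' - m' * n = 0 := by
      have h1 : (m * n' - m' * n) ^ 2 = 0 := by
        have h0 : (m ^ 2 + n ^ 2 + m * m' + n * n') ^ 2 + (m * n' - m' * n) ^ 2 =
            2 * (m ^ 2 + n ^ 2) * (m ^ 2 + n ^ 2 + m * m' + n * n') := by
          linear_combination (-(m ^ 2 + n ^ 2)) * hNN
        rw [hx] at h0
        linear_combination h0
      exact pow_eq_zero_iff (by norm_num) |>.1 h1
    have hm'' : m' = -m := by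
      have h1 : (m ^ 2 + n ^ 2) * (m' + m) = 0 := by
        linear_combination m * hx - n * hy
      rcases mul_eq_zero.1 h1 with h | h
      · exact absurd h hN
      · linear_combination h
    have hn'' : n' = -n := by
      have h1 : (m ^ 2 + n ^ 2) * (n' + n) = 0 := by
        linear_combination n * hx + m * hy
      rcases mul_eq_zero.1 h1 with h | h
      · exact absurd h hN
      · linear_combination h
    subst hm'' hn''
    refine ⟨0, 1, by simp, ?_, ?_, ?_, ?_⟩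
    · apply key; linear_combination (-1 : F) * e10 - f01
    · apply key; linear_combination (-1 : F) * e11 + f00
    · apply key; linear_combination e00 - f11
    · apply key; linear_combination e01 + f10
  · refine ⟨m ^ 2 + n ^ 2 + m * m' + n * n', m * n' - m' * n, ?_, ?_, ?_, ?_, ?_⟩
    · have h0 : (m ^ 2 + n ^ 2 + m * m' + n * n') * (m ^ 2 + n ^ 2 + m * m' + n * n') +
          (m * n' - m' * n) * (m * n' - m' * n) =
          2 * (m ^ 2 + n ^ 2) * (m ^ 2 + n ^ 2 + m * m' + n * n') := by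
        linear_combination (-(m ^ 2 + n ^ 2)) * hNN
      rw [h0]
      exact mul_ne_zero (mul_ne_zero h2 hN) hx
    · apply key
      linear_combination (m ^ 2 + n ^ 2 + m * m' + n * n') * e00 -
        (m * n' - m' * n) * e10 - (m ^ 2 + n ^ 2 + m * m' + n * n') * f00 -
        (m * n' - m' * n) * f01 + m * hNN
    · apply key
      linear_combination (m ^ 2 + n ^ 2 + m * m' + n * n') * e01 -
        (m * n' - m' * n) * e11 + (m * n' - m' * n) * f00 -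
        (m ^ 2 + n ^ 2 + m * m' + n * n') * f01 + n * hNN
    · apply key
      linear_combination (m * n' - m' * n) * e00 +
        (m ^ 2 + n ^ 2 + m * m' + n * n') * e10 - (m ^ 2 + n ^ 2 + m * m' + n * n') * f10 -
        (m * n' - m' * n) * f11 + n * hNN
    · apply key
      linear_combination (m * n' - m' * n) * e01 +
        (m ^ 2 + n ^ 2 + m * m' + n * n') * e11 + (m * n' - m' * n) * f10 -
        (m ^ 2 + n ^ 2 + m * m' + n * n') * f11 - m * hNN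

/-- **Rigidity with first component `J`** (matrix form). -/
theorem rigid_J (h2 : (2 : F) ≠ 0) (Y Y' : SL(2, F)) (ht : tr Y = tr Y')
    (hs : Y 0 1 - Y 1 0 = Y' 0 1 - Y' 1 0)
    (hN : (Y 0 0 - Y 1 1) ^ 2 + (Y 0 1 + Y 1 0) ^ 2 ≠ 0) :
    ∃ x y : F, x * x + y * y ≠ 0 ∧ rot x y * Y.1 = Y'.1 * rot x y := by
  have hn1 := norm_id Y
  have hn2 := norm_id Y'
  have hNN : (Y 0 0 - Y 1 1) ^ 2 + (Y 0 1 + Y 1 0) ^ 2 =
      (Y' 0 0 - Y' 1 1) ^ 2 + (Y' 0 1 + Y' 1 0) ^ 2 := by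
    rw [hn1, hn2, ht, hs]
  unfold tr at ht
  obtain ⟨x, y, hxy, h00, h01, h10, h11⟩ := rigid_aux h2 (Y 0 0) (Y 0 1) (Y 1 0) (Y 1 1)
    (Y' 0 0) (Y' 0 1) (Y' 1 0) (Y' 1 1) (Y 0 0 + Y 1 1) (Y 0 1 - Y 1 0) (Y 0 0 - Y 1 1)
    (Y 0 1 + Y 1 0) (Y' 0 0 - Y' 1 1) (Y' 0 1 + Y' 1 0) (by ring) (by ring) (by ring) (by ring)
    (by rw [ht]; ring) (by rw [ht]; ring) (by rw [hs]; ring) (by rw [hs]; ring) hNN hN
  refine ⟨x, y, hxy, ?_⟩
  obtain ⟨r00, r01, r10, r11⟩ := rot_mul x y Y.1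
  obtain ⟨l00, l01, l10, l11⟩ := mul_rot x y Y'.1
  apply mat_ext2
  · rw [r00, l00]; exact h00
  · rw [r01, l01]; exact h01
  · rw [r10, l10]; exact h10
  · rw [r11, l11]; exact h11

/-- the rotation as an element of `GL(2,F)` -/
noncomputable def rotGL (x y : F) (h : x * x + y * y ≠ 0) : GL (Fin 2) F :=
  Matrix.GeneralLinearGroup.mkOfDetNeZero (rot x y) (by rw [det_rot]; exact h)

theorem rotGL_coe (x y : F) (h : x * x + y * y ≠ 0) :
    ((rotGL x y h : GL (Fin 2) F) : Matrix (Fin 2) (Fin 2) F) = rot x y := rfl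

theorem gcj_rotGL_J (x y : F) (h : x * x + y * y ≠ 0) : gcj (rotGL x y h) (J : SL(2, F)) = J := by
  apply gcj_eq_of_mul_eq
  rw [rotGL_coe]
  obtain ⟨r00, r01, r10, r11⟩ := rot_mul x y (J : SL(2, F)).1
  obtain ⟨l00, l01, l10, l11⟩ := mul_rot x y (J : SL(2, F)).1
  have j00 : (J : SL(2, F)).1 0 0 = 0 := rfl
  have j01 : (J : SL(2, F)).1 0 1 = -1 := rfl
  have j10 : (J : SL(2, F)).1 1 0 = 1 := rfl
  have j11 : (J : SL(2, F)).1 1 1 = 0 := rfl
  apply mat_ext2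
  · rw [r00, l00, j00, j01, j10]; ring
  · rw [r01, l01, j00, j01, j11]; ring
  · rw [r10, l10, j00, j10, j11]; ring
  · rw [r11, l11, j01, j10, j11]; ring

section finite

variable [Fintype F] [DecidableEq F]

/-- an element of trace `0` is conjugate to `J` -/
theorem exists_conj_J (h2 : (2 : F) ≠ 0) (a : SL(2, F)) (ha : tr a = 0) :
    ∃ g : SL(2, F), g * a * g⁻¹ = J := by
  have h1 : Matrix.trace a.1 = 0 := by
    rw [Matrix.trace_fin_two]; exact ha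
  have h4 : (Matrix.trace a.1) ^ 2 ≠ 4 := by
    rw [h1]
    intro h
    have : (2 : F) * 2 = 0 := by linear_combination (-1 : F) * h
    rcases mul_eq_zero.1 this with h | h <;> exact h2 h
  have hJ : Matrix.trace (J : SL(2, F)).1 = Matrix.trace a.1 := by
    rw [h1, Matrix.trace_fin_two]
    exact tr_J
  have := (Cfsg.Agent.Lib.Helper42_SL2Class.isConj_iff_trace a J h4).2 hJ
  exact isConj_iff.1 this

/-- **Pair rigidity.** -/
theorem pair_rigid (h2 : (2 : F) ≠ 0) (a Y a' Y' : SL(2, F)) (ha : tr a = 0) (ha' : tr a' = 0)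
    (hY : tr Y = tr Y') (haY : tr (a * Y) = tr (a' * Y'))
    (hN : tr Y ^ 2 + tr (a * Y) ^ 2 ≠ 4) :
    ∃ e : GL (Fin 2) F, gcj e a = a' ∧ gcj e Y = Y' := by
  obtain ⟨g, hg⟩ := exists_conj_J h2 a ha
  obtain ⟨g', hg'⟩ := exists_conj_J h2 a' ha'
  set Y1 := g * Y * g⁻¹ with hY1
  set Y1' := g' * Y' * g'⁻¹ with hY1'
  have t1 : tr Y1 = tr Y := tr_conj g Y
  have t1' : tr Y1' = tr Y' := tr_conj g' Y'
  have s1 : tr (J * Y1) = tr (a * Y) := by
    have : J * Y1 = g * (a * Y) * g⁻¹ := by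
      rw [← hg, hY1]; group
    rw [this, tr_conj]
  have s1' : tr (J * Y1') = tr (a' * Y') := by
    have : J * Y1' = g' * (a' * Y') * g'⁻¹ := by
      rw [← hg', hY1']; group
    rw [this, tr_conj]
  have hN1 : (Y1 0 0 - Y1 1 1) ^ 2 + (Y1 0 1 + Y1 1 0) ^ 2 ≠ 0 := by
    rw [norm_id, ← tr_J_mul, t1, s1]
    intro h
    apply hN
    linear_combination h
  obtain ⟨x, y, hxy, hmat⟩ := rigid_J h2 Y1 Y1' (by rw [t1, t1', hY])
    (by rw [← tr_J_mul, ← tr_J_mul, s1, s1', haY]) hN1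
  refine ⟨Matrix.SpecialLinearGroup.toGL g'⁻¹ * (rotGL x y hxy * Matrix.SpecialLinearGroup.toGL g),
    ?_, ?_⟩
  · rw [gcj_mul, gcj_mul, gcj_toGL g, hg, gcj_rotGL_J, gcj_toGL g'⁻¹, ← hg']
    group
  · rw [gcj_mul, gcj_mul, gcj_toGL g, ← hY1, gcj_eq_of_mul_eq (rotGL x y hxy) Y1 Y1' hmat,
      gcj_toGL g'⁻¹, hY1']
    group

end finite

end Cfsg.Agent.Lib.Helper50_MxRigid
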