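import Mathlib
import Cfsg.Agent.Lib.Helper50_MxRigid
import Cfsg.Agent.Lib.Helper50_MxBasic
import Cfsg.Agent.Lib.Helper50_MxDih
import Cfsg.Agent.Lib.Helper50_DkStruct
import Cfsg.Agent.Lib.Helper50_DkOrders

/-!
# `PGL(2,F)` and its subgroup `L ≅ PSL(2,F)` (helper50)

Basic interface for the maximal subgroups of `PGL(2,q)`: the map `jj : SL(2,F) → PGL(2,F)`, its
range `LL`, conjugation by elements of `GL(2,F)` (`conj_jj`), the index of `LL`, and the first
consequences for a maximal subgroup `M` not containing `LL`.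
-/

set_option autoImplicit false

namespace Cfsg.Agent.Lib.Helper50_PgBasic

open Matrix Cfsg.Agent.Lib.Helper50_SL2Mat Cfsg.Agent.Lib.Helper50_DkPSL
  Cfsg.Agent.Lib.Helper50_DkStruct Cfsg.Agent.Lib.Helper50_MxRigid
  Cfsg.Agent.Lib.Helper50_MxBasic Cfsg.Agent.Lib.Helper50_DkOrders
open scoped MatrixGroups

variable {F : Type*} [Field F]

/-- the natural map `SL(2,F) → PGL(2,F)` -/
abbrev jj : SL(2, F) →* Matrix.ProjGenLinGroup (Fin 2) F :=
  Matrix.ProjGenLinGroup.mk.comp Matrix.SpecialLinearGroup.toGL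

/-- the image of `SL(2,F)` in `PGL(2,F)` -/
abbrev LL : Subgroup (Matrix.ProjGenLinGroup (Fin 2) F) := (jj (F := F)).range

theorem toGL_gcj (e : GL (Fin 2) F) (g : SL(2, F)) :
    Matrix.SpecialLinearGroup.toGL (gcj e g) = e * Matrix.SpecialLinearGroup.toGL g * e⁻¹ := by
  apply Units.ext
  rw [Units.val_mul, Units.val_mul]
  exact gcj_coe e g

theorem conj_jj (e : GL (Fin 2) F) (g : SL(2, F)) :
    Matrix.ProjGenLinGroup.mk e * jj g * (Matrix.ProjGenLinGroup.mk e)⁻¹ = jj (gcj e g) := by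
  show _ = Matrix.ProjGenLinGroup.mk (Matrix.SpecialLinearGroup.toGL (gcj e g))
  rw [toGL_gcj, map_mul, map_mul, map_inv]
  rfl

theorem jj_ker : (jj (F := F)).ker = Subgroup.center SL(2, F) :=
  Matrix.SpecialLinearGroup.toPGL_ker

theorem jj_eq_one_iff (g : SL(2, F)) : jj g = 1 ↔ IsScalar g := by
  rw [← MonoidHom.mem_ker, jj_ker, mem_center_iff]

instance LL_normal : (LL (F := F)).Normal := by
  constructor
  rintro _ ⟨g, rfl⟩ x
  obtain ⟨e, rfl⟩ := Matrix.ProjGenLinGroup.mk_surjective x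
  rw [conj_jj]
  exact ⟨_, rfl⟩

theorem toPGL_proj (g : SL(2, F)) :
    Matrix.ProjectiveSpecialLinearGroup.toPGL (proj g) = jj g := rfl

theorem toPGL_range :
    (Matrix.ProjectiveSpecialLinearGroup.toPGL (n := Fin 2) (R := F)).range = LL := by
  ext x
  constructor
  · rintro ⟨y, rfl⟩
    obtain ⟨g, rfl⟩ := proj_surjective y
    exact ⟨g, rfl⟩
  · rintro ⟨g, rfl⟩
    exact ⟨proj g, rfl⟩

/-- `PSL(2,F) ≅ L` -/
noncomputable def pslIso : PSL(2, F) ≃* (LL (F := F)) :=
  (MonoidHom.ofInjective Matrix.ProjectiveSpecialLinearGroup.toPGL_injective).trans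
    (MulEquiv.subgroupCongr toPGL_range)

theorem pslIso_proj (g : SL(2, F)) : ((pslIso (proj g) : LL (F := F)) :
    Matrix.ProjGenLinGroup (Fin 2) F) = jj g := rfl

/-- images in `PGL` and `PSL` of a subgroup of `SL(2,F)` are isomorphic -/
noncomputable def mapIso (K : Subgroup SL(2, F)) : ↥(K.map proj) ≃* ↥(K.map jj) := by
  have h : (K.map proj).map Matrix.ProjectiveSpecialLinearGroup.toPGL = K.map jj := by
    rw [Subgroup.map_map]
    rfl
  exact ((K.map proj).equivMapOfInjective _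
    Matrix.ProjectiveSpecialLinearGroup.toPGL_injective).trans (MulEquiv.subgroupCongr h)

section finite

variable [Fintype F]

instance finite_pgl : Finite (Matrix.ProjGenLinGroup (Fin 2) F) := by
  unfold Matrix.ProjGenLinGroup
  infer_instance

theorem card_LL (h2 : (2 : F) ≠ 0) :
    2 * Nat.card (LL (F := F)) = Fintype.card F * (Fintype.card F ^ 2 - 1) := by
  rw [← Nat.card_congr (pslIso (F := F)).toEquiv]
  exact Cfsg.Agent.Lib.Helper50_MxDih.card_PSL2_odd h2

theorem index_LL (h2 : (2 : F) ≠ 0) : (LL (F := F)).index = 2 := by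
  have h1 := (LL (F := F)).card_mul_index
  rw [card_PGL2] at h1
  have h3 := card_LL (F := F) h2
  have hpos : 0 < Nat.card (LL (F := F)) := Nat.card_pos
  have : Nat.card (LL (F := F)) * (LL (F := F)).index = Nat.card (LL (F := F)) * 2 := by
    rw [h1, ← h3, mul_comm]
  exact Nat.eq_of_mul_eq_mul_left hpos this

theorem isSimple_LL (h4 : 4 ≤ Fintype.card F) : IsSimpleGroup (LL (F := F)) := by
  have : IsSimpleGroup PSL(2, F) :=
    Matrix.ProjectiveSpecialLinearGroup.rank_two_simple (by rw [Nat.card_eq_fintype_card]; exact h4)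
  have : Nontrivial (LL (F := F)) := (pslIso (F := F)).symm.toEquiv.nontrivial
  exact IsSimpleGroup.isSimpleGroup_of_surjective (pslIso (F := F)).toMonoidHom (pslIso (F := F)).surjective

theorem LL_ne_top (h2 : (2 : F) ≠ 0) : (LL (F := F)) ≠ ⊤ := by
  intro h
  have := index_LL (F := F) h2
  rw [h, Subgroup.index_top] at this
  omega

/-- a nontrivial proper subgroup of `L` is not normal in `PGL(2,F)` -/
theorem normalizer_ne_top (h4 : 4 ≤ Fintype.card F)
    (X : Subgroup (Matrix.ProjGenLinGroup (Fin 2) F)) (hXL : X ≤ LL) (hX1 : X ≠ ⊥)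
    (hXne : X ≠ LL) : Subgroup.normalizer (X : Set (Matrix.ProjGenLinGroup (Fin 2) F)) ≠ ⊤ := by
  intro htop
  have hn : X.Normal := Subgroup.normalizer_eq_top_iff.1 htop
  have := isSimple_LL (F := F) h4
  have hn' : (X.subgroupOf LL).Normal := inferInstance
  rcases hn'.eq_bot_or_eq_top with h | h
  · apply hX1
    rw [Subgroup.subgroupOf_eq_bot] at h
    rw [← inf_of_le_left hXL]
    exact disjoint_iff.1 h
  · apply hXne
    rw [Subgroup.subgroupOf_eq_top] at h
    exact le_antisymm hXL h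

variable (M : Subgroup (Matrix.ProjGenLinGroup (Fin 2) F))

omit [Fintype F] in
theorem sup_eq_top (hM : IsCoatom M) (hML : ¬ LL ≤ M) : M ⊔ LL = ⊤ :=
  hM.2 _ (lt_of_le_of_ne le_sup_left (fun h => hML (h ▸ le_sup_right)))

theorem card_eq_two_mul (h2 : (2 : F) ≠ 0) (hM : IsCoatom M) (hML : ¬ LL ≤ M) :
    Nat.card M = 2 * Nat.card ↥(M ⊓ LL) := by
  have h1 : (M ⊓ LL).relIndex M = 2 := by
    rw [Subgroup.inf_relIndex_left, ← Subgroup.relIndex_sup_right, sup_eq_top M hM hML,
      Subgroup.relIndex_top_right, index_LL h2]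
  have h3 := ((M ⊓ LL).subgroupOf M).card_mul_index
  rw [← Subgroup.relIndex, h1,
    Nat.card_congr (Subgroup.subgroupOfEquivOfLe (inf_le_left : M ⊓ LL ≤ M)).toEquiv] at h3
  rw [← h3, mul_comm]

omit [Fintype F] in
theorem map_comap_jj : (M.comap jj).map jj = M ⊓ LL := by
  rw [Subgroup.map_comap_eq, inf_comm]

omit [Fintype F] in
theorem negOne_mem_comap_jj : negOne ∈ M.comap (jj (F := F)) := by
  show jj negOne ∈ M
  rw [(jj_eq_one_iff negOne).2 isScalar_negOne]
  exact M.one_mem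

omit [Fintype F] in
/-- `|K| = 2 |M ∩ L|` for the preimage `K` of `M` in `SL(2,F)` -/
theorem card_comap_jj (h2 : (2 : F) ≠ 0) :
    Nat.card ↥(M.comap (jj (F := F))) = 2 * Nat.card ↥(M ⊓ LL) := by
  rw [card_map_proj h2 _ (negOne_mem_comap_jj M), Nat.card_congr (mapIso _).toEquiv,
    map_comap_jj]

omit [Fintype F] in
/-- elements of `M` normalise the preimage of `M` in `SL(2,F)` -/
theorem gcj_mem_comap (e : GL (Fin 2) F) (he : Matrix.ProjGenLinGroup.mk e ∈ M) (k : SL(2, F))
    (hk : k ∈ M.comap jj) : gcj e k ∈ M.comap jj := by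
  show jj (gcj e k) ∈ M
  rw [← conj_jj]
  exact M.mul_mem (M.mul_mem he hk) (M.inv_mem he)

/-- `M` is the normaliser of each of its normal subgroups inside `L` (nontrivial, proper in `L`) -/
theorem normalizer_eq (h4 : 4 ≤ Fintype.card F) (hM : IsCoatom M)
    (X : Subgroup (Matrix.ProjGenLinGroup (Fin 2) F)) (hXL : X ≤ LL) (hX1 : X ≠ ⊥)
    (hXne : X ≠ LL)
    (hn : M ≤ Subgroup.normalizer (X : Set (Matrix.ProjGenLinGroup (Fin 2) F))) :
    Subgroup.normalizer (X : Set (Matrix.ProjGenLinGroup (Fin 2) F)) = M :=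
  (eq_of_isCoatom_le hM hn (normalizer_ne_top h4 X hXL hX1 hXne)).symm

end finite

end Cfsg.Agent.Lib.Helper50_PgBasic
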