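import Mathlib

/-!
# Helper61_TableHom

Generic tools for building explicit isomorphisms between small matrix groups:

* `map_mul_of_closure` : a map `φ : G → H` with `φ 1 = 1` and `φ (g * s) = φ g * φ s` for all
  `g` and all `s` in a generating set is multiplicative;
* `slEquiv`, `pslEquiv` : functoriality of `SL_n` and `PSL_n` under ring isomorphisms;
* `pslEquivOfKer` : `PSL_n R ≃* H` from a surjective hom `SL_n R →* H` with kernel the centre.
-/

set_option autoImplicit false

namespace Cfsg.Agent.Lib.Helper61_TableHom

open Matrix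

theorem map_mul_of_closure {G H : Type*} [Group G] [Group H] (φ : G → H) (S : Set G)
    (hS : Subgroup.closure S = ⊤) (h1 : φ 1 = 1)
    (hmul : ∀ g, ∀ s ∈ S, φ (g * s) = φ g * φ s) (g h : G) : φ (g * h) = φ g * φ h := by
  have hh : h ∈ Subgroup.closure S := by rw [hS]; trivial
  revert g
  induction hh using Subgroup.closure_induction with
  | mem s hs => intro g; exact hmul g s hs
  | one => intro g; rw [mul_one, h1, mul_one]
  | mul x y _ _ hx hy =>
    intro g
    rw [← mul_assoc, hy (g * x), hx g, hy x, mul_assoc]
  | inv x _ hx =>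
    intro g
    have e1 : φ (x⁻¹) = (φ x)⁻¹ := by
      have := hx x⁻¹
      rw [inv_mul_cancel, h1] at this
      exact eq_inv_of_mul_eq_one_left this.symm
    have e2 := hx (g * x⁻¹)
    rw [inv_mul_cancel_right] at e2
    rw [e1, e2, mul_inv_cancel_right]

section SL

variable {n : Type*} [DecidableEq n] [Fintype n] {R S : Type*} [CommRing R] [CommRing S]

/-- `SL_n` of isomorphic rings. -/
def slEquiv (e : R ≃+* S) : SpecialLinearGroup n R ≃* SpecialLinearGroup n S where
  toFun := SpecialLinearGroup.map (e : R →+* S)
  invFun := SpecialLinearGroup.map (e.symm : S →+* R)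
  left_inv g := by
    ext i j
    simp [SpecialLinearGroup.map_apply_coe, RingHom.mapMatrix_apply]
  right_inv g := by
    ext i j
    simp [SpecialLinearGroup.map_apply_coe, RingHom.mapMatrix_apply]
  map_mul' := map_mul _

theorem slEquiv_apply (e : R ≃+* S) (g : SpecialLinearGroup n R) (i j : n) :
    (slEquiv e g).1 i j = e (g.1 i j) := by
  simp [slEquiv, SpecialLinearGroup.map_apply_coe, RingHom.mapMatrix_apply]

theorem map_center_of_mulEquiv {G H : Type*} [Group G] [Group H] (e : G ≃* H) :
    (Subgroup.center G).map e.toMonoidHom = Subgroup.center H := by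
  ext x
  constructor
  · rintro ⟨y, hy, rfl⟩
    rw [Subgroup.mem_center_iff]
    intro z
    obtain ⟨w, rfl⟩ := e.surjective z
    have := Subgroup.mem_center_iff.1 hy w
    change e w * e y = e y * e w
    rw [← map_mul, ← map_mul, this]
  · intro hx
    refine ⟨e.symm x, ?_, by simp⟩
    rw [SetLike.mem_coe, Subgroup.mem_center_iff]
    intro z
    have := Subgroup.mem_center_iff.1 hx (e z)
    apply e.injective
    rw [map_mul, map_mul, e.apply_symm_apply]
    exact this

/-- `PSL_n` of isomorphic rings. -/
noncomputable def pslEquiv (e : R ≃+* S) :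
    ProjectiveSpecialLinearGroup n R ≃* ProjectiveSpecialLinearGroup n S :=
  QuotientGroup.congr (Subgroup.center (SpecialLinearGroup n R))
    (Subgroup.center (SpecialLinearGroup n S)) (slEquiv e) (map_center_of_mulEquiv (slEquiv e))

/-- `PSL_n R ≃* H` from a surjective hom with kernel the centre. -/
noncomputable def pslEquivOfKer {H : Type*} [Group H] (φ : SpecialLinearGroup n R →* H)
    (hker : φ.ker = Subgroup.center (SpecialLinearGroup n R)) (hsurj : Function.Surjective φ) :
    ProjectiveSpecialLinearGroup n R ≃* H :=
  (QuotientGroup.quotientMulEquivOfEq hker.symm).trans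
    (QuotientGroup.quotientKerEquivOfSurjective φ hsurj)

/-- `PSL_n R ≃* SL_n R` when the centre is trivial. -/
noncomputable def pslEquivSLOfCenter (h : Subgroup.center (SpecialLinearGroup n R) = ⊥) :
    ProjectiveSpecialLinearGroup n R ≃* SpecialLinearGroup n R :=
  pslEquivOfKer (MonoidHom.id _) (by rw [h, MonoidHom.ker_id]) Function.surjective_id

end SL

end Cfsg.Agent.Lib.Helper61_TableHom
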