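import Mathlib
import Cfsg.Agent.S0799
import Cfsg.Agent.S0253
import Cfsg.Agent.Lib.Helper50_DkOrders
import Cfsg.Agent.Lib.Helper50_DkOdd
import Cfsg.Agent.Lib.Helper50_PgBasic
import Cfsg.Agent.Lib.Helper61_TableHom

/-!
# S4504, package PK-D (helper50): the Dickson list leaves only `PSL(2,p)`

`dickson_finish`: a perfect subgroup `H` of `PSL(2,k)` (`k` finite of characteristic `p ≥ 5`) with
`p ∣ |H|`, `p² ∤ |H|` and no normal Sylow `p`-subgroup is isomorphic to `PSL(2,p)`.
-/

set_option autoImplicit false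

namespace Cfsg.Agent.Lib.Helper50_S4504_D

open Matrix

/-- a perfect group has only trivial homomorphisms to commutative groups -/
theorem hom_trivial_of_perfect {G A : Type*} [Group G] [CommGroup A]
    (hperf : commutator G = ⊤) (f : G →* A) (g : G) : f g = 1 := by
  have h := Abelianization.commutator_subset_ker f
  rw [hperf] at h
  exact MonoidHom.mem_ker.1 (h (Subgroup.mem_top g))

/-- a perfect group in which all elements commute is trivial -/
theorem trivial_of_perfect_of_comm {G : Type*} [Group G] (hperf : commutator G = ⊤)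
    (hc : ∀ a b : G, a * b = b * a) (g : G) : g = 1 := by
  have h0 : commutator G = ⊥ := by
    rw [commutator_def, Subgroup.commutator_eq_bot_iff_le_centralizer]
    intro a _
    rw [Subgroup.mem_centralizer_iff]
    intro b _
    exact hc b a
  rw [hperf] at h0
  have hg : g ∈ (⊤ : Subgroup G) := Subgroup.mem_top g
  rw [h0] at hg
  exact Subgroup.mem_bot.1 hg

/-- the sign homomorphism of a dihedral group -/
def dsign (n : ℕ) : DihedralGroup n →* ℤˣ where
  toFun g := match g with
    | DihedralGroup.r _ => 1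
    | DihedralGroup.sr _ => -1
  map_one' := rfl
  map_mul' := by
    rintro (a | a) (b | b) <;> simp

theorem dsign_sr (n : ℕ) : dsign n (DihedralGroup.sr 0) = -1 := rfl

/-- dihedral groups are not perfect -/
theorem not_perfect_of_equiv_dihedral {G : Type*} [Group G] (n : ℕ)
    (e : G ≃* DihedralGroup n) (hperf : commutator G = ⊤) : False := by
  have h := hom_trivial_of_perfect hperf ((dsign n).comp e.toMonoidHom)
    (e.symm (DihedralGroup.sr 0))
  rw [MonoidHom.comp_apply] at h
  have h2 : e.toMonoidHom (e.symm (DihedralGroup.sr 0)) = DihedralGroup.sr 0 :=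
    e.apply_symm_apply _
  rw [h2, dsign_sr] at h
  exact absurd h (by decide)

/-- a subgroup of the normaliser of a Sylow `p`-subgroup has a normal Sylow `p`-subgroup -/
theorem exists_normal_sylow_of_le_normalizer {G : Type*} [Group G] {p : ℕ} [Fact p.Prime]
    (P : Sylow p G) (K : Subgroup G)
    (hK : K ≤ Subgroup.normalizer ((P : Subgroup G) : Set G)) (Q : Sylow p K) :
    (Q : Subgroup K).Normal := by
  set R : Subgroup G := (Q : Subgroup K).map K.subtype with hR
  have hRK : R ≤ K := by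
    rintro _ ⟨y, -, rfl⟩
    exact y.2
  have hRp : IsPGroup p R := Q.isPGroup'.map K.subtype
  have hsup : IsPGroup p (R ⊔ (P : Subgroup G) : Subgroup G) :=
    hRp.to_sup_of_normal_right' P.isPGroup' (hRK.trans hK)
  have hRP : R ≤ (P : Subgroup G) := by
    have := P.is_maximal' hsup le_sup_right
    rw [← this]
    exact le_sup_left
  have hQle : (Q : Subgroup K) ≤ (P : Subgroup G).subgroupOf K := by
    intro y hy
    rw [Subgroup.mem_subgroupOf]
    exact hRP ⟨y, hy, rfl⟩
  have hp0 : IsPGroup p ((P : Subgroup G).subgroupOf K) :=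
    P.isPGroup'.comap_of_injective K.subtype K.subtype_injective
  have heq : (P : Subgroup G).subgroupOf K = (Q : Subgroup K) := Q.is_maximal' hp0 hQle
  rw [← heq]
  exact Subgroup.normal_subgroupOf_of_le_normalizer hK

/-- transport along an isomorphism -/
theorem exists_normal_sylow_of_equiv {H K : Type*} [Group H] [Group K] {p : ℕ} [Fact p.Prime]
    (e : H ≃* K) (Q : Sylow p K) (hQ : (Q : Subgroup K).Normal) :
    ∃ S : Sylow p H, (S : Subgroup H).Normal := by
  have hr : (Q : Subgroup K) ≤ e.toMonoidHom.range := by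
    intro y _
    exact ⟨e.symm y, e.apply_symm_apply y⟩
  have hinj : Function.Injective e.toMonoidHom := e.injective
  refine ⟨Q.comapOfInjective e.toMonoidHom hinj hr, ?_⟩
  rw [Sylow.coe_comapOfInjective]
  exact hQ.comap _

section pgl

variable {K : Type*} [Field K] [Fintype K]

/-- `PGL(2,K)` is not perfect for `K` of odd characteristic -/
theorem not_perfect_of_equiv_pgl {G : Type*} [Group G] (h2 : (2 : K) ≠ 0)
    (e : G ≃* Matrix.ProjGenLinGroup (Fin 2) K) (hperf : commutator G = ⊤) : False := by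
  classical
  have hidx := Cfsg.Agent.Lib.Helper50_PgBasic.index_LL (F := K) h2
  have hcard : Nat.card (Matrix.ProjGenLinGroup (Fin 2) K ⧸
      (Cfsg.Agent.Lib.Helper50_PgBasic.LL (F := K))) = 2 := by
    rw [← Subgroup.index_eq_card]; exact hidx
  have hF2 : Fact (Nat.Prime 2) := ⟨Nat.prime_two⟩
  have hcyc : IsCyclic (Matrix.ProjGenLinGroup (Fin 2) K ⧸
      (Cfsg.Agent.Lib.Helper50_PgBasic.LL (F := K))) := isCyclic_of_prime_card hcard
  let _ : CommGroup (Matrix.ProjGenLinGroup (Fin 2) K ⧸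
      (Cfsg.Agent.Lib.Helper50_PgBasic.LL (F := K))) := IsCyclic.commGroup
  have htriv := hom_trivial_of_perfect hperf
    ((QuotientGroup.mk' (Cfsg.Agent.Lib.Helper50_PgBasic.LL (F := K))).comp e.toMonoidHom)
  have hall : ∀ y : Matrix.ProjGenLinGroup (Fin 2) K,
      y ∈ Cfsg.Agent.Lib.Helper50_PgBasic.LL (F := K) := by
    intro y
    have := htriv (e.symm y)
    rw [MonoidHom.comp_apply] at this
    have h2 : e.toMonoidHom (e.symm y) = y := e.apply_symm_apply _
    rw [h2] at this
    exact (QuotientGroup.eq_one_iff y).1 this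
  apply Cfsg.Agent.Lib.Helper50_PgBasic.LL_ne_top (F := K) h2
  exact (Subgroup.eq_top_iff' _).2 hall

end pgl

/-- the characteristic of a finite field a power of whose order is the order of `k` -/
theorem charP_of_pow_card {k K : Type*} [Field k] [Fintype k] [Field K] [Fintype K] {p : ℕ}
    [Fact p.Prime] [CharP k p] (m : ℕ) (h : Fintype.card K ^ m = Fintype.card k) : CharP K p := by
  have hp : p.Prime := Fact.out
  obtain ⟨n, -, hn⟩ := FiniteField.card k p
  obtain ⟨a, hr, ha⟩ := FiniteField.card K (ringChar K)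
  have h1 : p ∣ Fintype.card K ^ m := by rw [h, hn]; exact dvd_pow_self p n.ne_zero
  have h2 : p ∣ Fintype.card K := hp.dvd_of_dvd_pow h1
  rw [ha] at h2
  have h3 : p ∣ ringChar K := hp.dvd_of_dvd_pow h2
  have h4 : p = ringChar K := (Nat.prime_dvd_prime_iff_eq hp hr).1 h3
  exact ringChar.of_eq h4.symm

/-- a prime `p ≥ 5` dividing `60` is `5` -/
theorem eq_five_of_dvd_sixty {p : ℕ} (hp : p.Prime) (hp5 : 5 ≤ p) (h : p ∣ 60) : p = 5 := by
  have h60 : (60 : ℕ) = 2 * 2 * 3 * 5 := by norm_num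
  rw [h60] at h
  rcases (Nat.Prime.dvd_mul hp).1 h with h1 | h1
  · exfalso
    rcases (Nat.Prime.dvd_mul hp).1 h1 with h2 | h2
    · rcases (Nat.Prime.dvd_mul hp).1 h2 with h3 | h3
      · have := Nat.le_of_dvd (by norm_num) h3; omega
      · have := Nat.le_of_dvd (by norm_num) h3; omega
    · have := Nat.le_of_dvd (by norm_num) h2; omega
  · exact (Nat.prime_dvd_prime_iff_eq hp (by norm_num)).1 h1

theorem not_dvd_small {p : ℕ} (hp : p.Prime) (hp5 : 5 ≤ p) {n : ℕ} (hn : n ∣ 24) (h : p ∣ n) :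
    False := by
  have h24 : p ∣ 2 * 2 * 2 * 3 := by
    have : (24 : ℕ) = 2 * 2 * 2 * 3 := by norm_num
    rw [← this]; exact h.trans hn
  rcases (Nat.Prime.dvd_mul hp).1 h24 with h1 | h1
  · rcases (Nat.Prime.dvd_mul hp).1 h1 with h2 | h2
    · rcases (Nat.Prime.dvd_mul hp).1 h2 with h3 | h3
      · have := Nat.le_of_dvd (by norm_num) h3; omega
      · have := Nat.le_of_dvd (by norm_num) h3; omega
    · have := Nat.le_of_dvd (by norm_num) h2; omega
  · have := Nat.le_of_dvd (by norm_num) h1; omega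

/-- **PK-D.** -/
theorem dickson_finish {k : Type*} [Field k] [Fintype k] {p : ℕ} [Fact p.Prime] [CharP k p]
    (hp5 : 5 ≤ p) (H : Subgroup (Matrix.ProjectiveSpecialLinearGroup (Fin 2) k))
    (hperf : commutator H = ⊤) (hpdvd : p ∣ Nat.card H) (hsyl : ¬ p ^ 2 ∣ Nat.card H)
    (hnn : ∀ P : Sylow p H, ¬ (P : Subgroup H).Normal) :
    Nonempty (H ≃* Matrix.ProjectiveSpecialLinearGroup (Fin 2) (ZMod p)) := by
  classical
  have hp : p.Prime := Fact.out
  have hp2 : p ≠ 2 := by omega
  have hHne : Nat.card H ≠ 1 := by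
    intro h1
    rw [h1] at hpdvd
    have := Nat.le_of_dvd (by norm_num) hpdvd
    omega
  have hnontriv : ¬ ∀ g : H, g = 1 := by
    intro hall
    apply hHne
    have : Subsingleton H := ⟨fun a b => by rw [hall a, hall b]⟩
    exact Nat.card_eq_one_iff_unique.2 ⟨this, ⟨1⟩⟩
  rcases Cfsg.Agent.S0799.result (F := k) (q := Fintype.card k) rfl p H with
    ⟨n, -, ⟨hcyc, -⟩ | ⟨⟨e⟩⟩⟩ | ⟨P, K, hK, ⟨e⟩⟩ | ⟨⟨e⟩⟩ | ⟨⟨e⟩⟩ | ⟨⟨e⟩⟩ |
      ⟨K, iK, iF, m, hKm, ⟨⟨e⟩⟩ | ⟨⟨e⟩⟩⟩
  · -- cyclic
    exfalso
    apply hnontriv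
    let _ : CommGroup H := IsCyclic.commGroup
    exact trivial_of_perfect_of_comm hperf (fun a b => mul_comm a b)
  · -- dihedral
    exact (not_perfect_of_equiv_dihedral n e hperf).elim
  · -- inside the normaliser of a Sylow subgroup
    exfalso
    obtain ⟨Q⟩ : Nonempty (Sylow p K) := inferInstance
    obtain ⟨S, hS⟩ := exists_normal_sylow_of_equiv e Q
      (exists_normal_sylow_of_le_normalizer P K hK Q)
    exact hnn S hS
  · -- `A₄`
    exfalso
    have h12 : Nat.card H = 12 := by
      rw [Nat.card_congr e.toEquiv, Cfsg.Agent.Lib.Helper50_DkOrders.card_A4]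
    rw [h12] at hpdvd
    exact not_dvd_small hp hp5 (by norm_num : 12 ∣ 24) hpdvd
  · -- `S₄`
    exfalso
    have h24 : Nat.card H = 24 := by
      rw [Nat.card_congr e.toEquiv, Cfsg.Agent.Lib.Helper50_DkOrders.card_S4]
    rw [h24] at hpdvd
    exact not_dvd_small hp hp5 (dvd_refl 24) hpdvd
  · -- `A₅`
    have h60 : Nat.card H = 60 := by
      rw [Nat.card_congr e.toEquiv, Cfsg.Agent.Lib.Helper50_DkOrders.card_A5]
    rw [h60] at hpdvd
    have hp5' : p = 5 := eq_five_of_dvd_sixty hp hp5 hpdvd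
    subst hp5'
    obtain ⟨e5⟩ := Cfsg.Agent.S0253.result (F := ZMod 5) (ZMod.card 5)
    exact ⟨e.trans e5.symm⟩
  · -- `PSL(2,K)`
    have hKchar : CharP K p := charP_of_pow_card m hKm
    obtain ⟨a, -, ha⟩ := FiniteField.card K p
    have hcardH : Nat.card H = Nat.card (Matrix.ProjectiveSpecialLinearGroup (Fin 2) K) :=
      Nat.card_congr e.toEquiv
    have hc := Cfsg.Agent.Lib.Helper50_DkOrders.card_PSL2 (F := K)
    have ha1 : (a : ℕ) = 1 := by
      by_contra hne
      have ha2 : 2 ≤ (a : ℕ) := by have := a.pos; omega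
      apply hsyl
      rw [hcardH]
      have hd : p ^ 2 ∣ Nat.card (Matrix.ProjectiveSpecialLinearGroup (Fin 2) K) *
          Nat.gcd 2 (Fintype.card K - 1) := by
        rw [hc, ha]
        exact Dvd.dvd.mul_right (pow_dvd_pow p ha2) _
      have hcop : Nat.Coprime (p ^ 2) (Nat.gcd 2 (Fintype.card K - 1)) := by
        apply Nat.Coprime.pow_left
        apply Nat.Coprime.coprime_dvd_right (Nat.gcd_dvd_left 2 _)
        exact (Nat.coprime_primes hp Nat.prime_two).2 hp2
      exact hcop.dvd_of_dvd_mul_right hd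
    have hcardK : Fintype.card K = p := by rw [ha, ha1, pow_one]
    let e0 : ZMod p ≃+* K := ZMod.ringEquivOfPrime K hp hcardK
    exact ⟨e.trans (Cfsg.Agent.Lib.Helper61_TableHom.pslEquiv e0.symm)⟩
  · -- `PGL(2,K)`
    have hKchar : CharP K p := charP_of_pow_card m hKm
    exact (not_perfect_of_equiv_pgl (K := K)
      (Cfsg.Agent.Lib.Helper50_DkOdd.two_ne_zero_of_char p hp2) e hperf).elim

end Cfsg.Agent.Lib.Helper50_S4504_D
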