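import Mathlib
import Cfsg.Agent.S0274
import Cfsg.Agent.Lib.Helper50_SL2Mat
import Cfsg.Agent.Lib.Helper50_SL2Rep
import Cfsg.Agent.Lib.Helper50_DkStruct
import Cfsg.Agent.Lib.Helper50_DkOdd
import Cfsg.Agent.Lib.Helper57_ModDefs

/-!
# S4504, package PK-S (helper50): the three-dimensional module `W` is simple

`simple_W`: `Γ` generated by the conjugates of an element `x` of order `p` (`p ‖ |Γ|`, `⟨x⟩` not
normal, normal `p'`-subgroups centralise `x`), `W` a `3`-dimensional module on which `x` is one
Jordan block and on which `C_Γ(x)` acts like `⟨x⟩`: then `W` is simple.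

Proof: a proper nonzero submodule gives a `2`-dimensional section on which `x` acts nontrivially,
hence a homomorphism `Γ → SL(2,k)` whose image has more than one Sylow `p`-subgroup; by Dickson
(S0274) the image contains `-1`, the image of some `z`; then `z` centralises `x`, so it acts like
a power of `x`, which is unipotent: absurd for `p` odd.
-/

set_option autoImplicit false

namespace Cfsg.Agent.Lib.Helper50_S4504_S

open Matrix Cfsg.Agent.Lib.Helper50_SL2Mat Cfsg.Agent.Lib.Helper57_ModDefs
open scoped MatrixGroups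

section core

variable {p : ℕ} [Fact p.Prime] {Γ : Type*} [Group Γ] [Finite Γ]

omit [Finite Γ] in
/-- the kernel of a homomorphism which does not kill `x` is a `p'`-group -/
theorem ker_coprime (x : Γ) (hx : orderOf x = p) (hsyl : ¬ p ^ 2 ∣ Nat.card Γ)
    {G' : Type*} [Group G'] (Φ : Γ →* G') (hΦx : Φ x ≠ 1) : (Nat.card Φ.ker).Coprime p := by
  have hp : p.Prime := Fact.out
  have hxp : x ^ p = 1 := by rw [← hx]; exact pow_orderOf_eq_one x
  have ho : orderOf (Φ x) = p := orderOf_eq_prime (by rw [← map_pow, hxp, map_one]) hΦx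
  have h1 : p ∣ Nat.card Φ.range := by
    rw [← ho]; exact Subgroup.orderOf_dvd_natCard _ ⟨x, rfl⟩
  have h2 := Subgroup.card_mul_index Φ.ker
  rw [Subgroup.index_ker] at h2
  apply Nat.Coprime.symm
  rw [Nat.Prime.coprime_iff_not_dvd hp]
  intro h3
  apply hsyl
  rw [← h2, pow_two]
  exact Nat.mul_dvd_mul h3 h1

omit [Fact p.Prime] [Finite Γ] in
/-- an element of order dividing `p` with the same image as `x ^ j` is `x ^ j` -/
theorem eq_pow_of_map_eq (x : Γ) (hx : orderOf x = p) {G' : Type*} [Group G'] (Φ : Γ →* G')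
    (hcop : (Nat.card Φ.ker).Coprime p) (hLx : ∀ l ∈ Φ.ker, l * x = x * l)
    (y : Γ) (hy : y ^ p = 1) (j : ℕ) (h : Φ y = Φ (x ^ j)) : y = x ^ j := by
  have hxp : x ^ p = 1 := by rw [← hx]; exact pow_orderOf_eq_one x
  set l := (x ^ j)⁻¹ * y with hl
  have hlL : l ∈ Φ.ker := by
    rw [MonoidHom.mem_ker, hl, map_mul, map_inv, h, inv_mul_cancel]
  have hc0 : Commute x l := (hLx l hlL).symm
  have hcomm : Commute (x ^ j) l := hc0.pow_left j
  have hyl : y = x ^ j * l := by rw [hl, mul_inv_cancel_left]
  have hlp : l ^ p = 1 := by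
    have h1 := hy
    rw [hyl, hcomm.mul_pow, ← pow_mul, mul_comm j p, pow_mul, hxp, one_pow, one_mul] at h1
    exact h1
  have ho1 : orderOf l ∣ p := orderOf_dvd_of_pow_eq_one hlp
  have ho2 : orderOf l ∣ Nat.card Φ.ker := Subgroup.orderOf_dvd_natCard _ hlL
  have ho3 : orderOf l ∣ Nat.gcd (Nat.card Φ.ker) p := Nat.dvd_gcd ho2 ho1
  rw [Nat.Coprime.gcd_eq_one hcop] at ho3
  have ho4 : orderOf l = 1 := Nat.eq_one_of_dvd_one ho3
  rw [orderOf_eq_one_iff] at ho4
  rw [hyl, ho4, mul_one]

/-- the image has more than one Sylow `p`-subgroup -/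
theorem one_lt_card_sylow (x : Γ) (hx : orderOf x = p) (hsyl : ¬ p ^ 2 ∣ Nat.card Γ)
    (hPn : ¬ (Subgroup.zpowers x).Normal)
    (hK : ∀ K : Subgroup Γ, K.Normal → (Nat.card K).Coprime p → ∀ g ∈ K, g * x = x * g)
    {G' : Type*} [Group G'] (Φ : Γ →* G') (hΦx : Φ x ≠ 1) :
    1 < Nat.card (Sylow p Φ.range) := by
  have hp : p.Prime := Fact.out
  have hxp : x ^ p = 1 := by rw [← hx]; exact pow_orderOf_eq_one x
  have hcop := ker_coprime x hx hsyl Φ hΦx
  have hLx := hK Φ.ker (MonoidHom.normal_ker Φ) hcop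
  have hfin : Finite Φ.range := Finite.of_surjective Φ.rangeRestrict Φ.rangeRestrict_surjective
  by_contra hle
  push Not at hle
  have hsub : Subsingleton (Sylow p Φ.range) := Finite.card_le_one_iff_subsingleton.mp hle
  apply hPn
  -- the key: conjugates of `x` lie in `⟨x⟩`
  have key : ∀ g : Γ, g * x * g⁻¹ ∈ Subgroup.zpowers x := by
    intro g
    set a : Φ.range := Φ.rangeRestrict x with ha
    set c : Φ.range := Φ.rangeRestrict g with hc
    have ha1 : a ≠ 1 := by
      intro h
      apply hΦx
      have := congrArg Subtype.val h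
      simpa [ha] using this
    have hap : a ^ p = 1 := by rw [ha, ← map_pow, hxp, map_one]
    have hoa : orderOf a = p := orderOf_eq_prime hap ha1
    have hcarda : Nat.card (Subgroup.zpowers a) = p := by rw [Nat.card_zpowers, hoa]
    have hpa : IsPGroup p (Subgroup.zpowers a) := IsPGroup.of_card (n := 1) (by rw [hcarda, pow_one])
    obtain ⟨S, hS⟩ := hpa.exists_le_sylow
    have hSn : (S : Subgroup Φ.range).Normal := Sylow.normal_of_subsingleton S
    obtain ⟨n, hn⟩ := IsPGroup.iff_card.1 S.isPGroup'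
    have hdvd : Nat.card (S : Subgroup Φ.range) ∣ Nat.card Γ := by
      have h1 : Nat.card (S : Subgroup Φ.range) ∣ Nat.card Φ.range :=
        Subgroup.card_subgroup_dvd_card _
      have h2 := Subgroup.card_mul_index Φ.ker
      rw [Subgroup.index_ker] at h2
      exact h1.trans (Dvd.intro_left _ h2)
    have hle1 : Nat.card (Subgroup.zpowers a) ≤ Nat.card (S : Subgroup Φ.range) :=
      Nat.card_le_card_of_injective (Subgroup.inclusion hS) (Subgroup.inclusion_injective hS)
    have hn1 : n = 1 := by
      have hn2 : n < 2 := by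
        by_contra h2
        push Not at h2
        apply hsyl
        exact (pow_dvd_pow p h2).trans (hn ▸ hdvd)
      have hn0 : n ≠ 0 := by
        intro h0
        rw [hn, h0, pow_zero, hcarda] at hle1
        exact absurd hle1 (by have := hp.two_le; omega)
      omega
    have hSeq : Subgroup.zpowers a = (S : Subgroup Φ.range) := by
      apply Subgroup.eq_of_le_of_card_ge hS
      rw [hn, hn1, pow_one, hcarda]
    have hb : c * a * c⁻¹ ∈ Subgroup.zpowers a := by
      rw [hSeq]
      exact hSn.conj_mem a (hS (Subgroup.mem_zpowers a)) c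
    rw [← mem_powers_iff_mem_zpowers] at hb
    obtain ⟨j, hj⟩ := (Submonoid.mem_powers_iff _ _).1 hb
    have hj' : Φ (g * x * g⁻¹) = Φ (x ^ j) := by
      have := congrArg Subtype.val hj
      simp only [ha, hc, Subgroup.coe_pow, Subgroup.coe_mul, Subgroup.coe_inv,
        MonoidHom.coe_rangeRestrict] at this
      rw [map_mul, map_mul, map_inv, map_pow]
      exact this.symm
    have := eq_pow_of_map_eq x hx Φ hcop hLx (g * x * g⁻¹)
      (by rw [conj_pow, hxp, mul_one, mul_inv_cancel]) j hj'
    rw [this]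
    exact Subgroup.pow_mem _ (Subgroup.mem_zpowers x) j
  constructor
  intro n hn g
  obtain ⟨i, rfl⟩ := Subgroup.mem_zpowers_iff.1 hn
  rw [← conj_zpow]
  exact Subgroup.zpow_mem _ (key g) i

variable {k : Type*} [Field k] [Fintype k] [CharP k p]

/-- **The group-theoretic core**: there is no homomorphism to `SL(2,k)` which is nontrivial on `x`
and maps `C_Γ(x)` to the image of `⟨x⟩`. -/
theorem core (hp2 : p ≠ 2) (x : Γ) (hx : orderOf x = p) (hsyl : ¬ p ^ 2 ∣ Nat.card Γ)
    (hPn : ¬ (Subgroup.zpowers x).Normal)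
    (hK : ∀ K : Subgroup Γ, K.Normal → (Nat.card K).Coprime p → ∀ g ∈ K, g * x = x * g)
    (Φ : Γ →* SL(2, k)) (hΦx : Φ x ≠ 1)
    (hcent : ∀ z : Γ, z * x = x * z → ∃ i : ℕ, Φ z = Φ (x ^ i)) : False := by
  have hp : p.Prime := Fact.out
  have hxp : x ^ p = 1 := by rw [← hx]; exact pow_orderOf_eq_one x
  have h2 : (2 : k) ≠ 0 := Cfsg.Agent.Lib.Helper50_DkOdd.two_ne_zero_of_char p hp2
  have h2p : (2 : ZMod p) ≠ 0 := Cfsg.Agent.Lib.Helper50_DkOdd.two_ne_zero_of_char p hp2
  have hcop := ker_coprime x hx hsyl Φ hΦx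
  have hLx := hK Φ.ker (MonoidHom.normal_ker Φ) hcop
  have hcount := one_lt_card_sylow x hx hsyl hPn hK Φ hΦx
  obtain ⟨K0, hK0, ⟨e⟩⟩ := Cfsg.Agent.S0274.result p hp2 Φ.range hcount
  -- the involution of `K0`
  set w : K0 := e.symm negOne with hw
  have hw2 : w * w = 1 := by
    rw [hw, ← map_mul, Cfsg.Agent.Lib.Helper50_DkStruct.IsScalar.mul_self
      Cfsg.Agent.Lib.Helper50_DkStruct.isScalar_negOne, map_one]
  have hw1 : w ≠ 1 := by
    intro h
    apply Cfsg.Agent.Lib.Helper50_DkStruct.negOne_ne_one h2p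
    have := congrArg e h
    rwa [hw, e.apply_symm_apply, map_one] at this
  have hz0 : (w : SL(2, k)) = negOne := by
    have hs : IsScalar (w : SL(2, k)) :=
      Cfsg.Agent.Lib.Helper50_SL2Rep.isScalar_of_sq h2 (by
        have := congrArg Subtype.val hw2
        simpa using this)
    rcases hs.eq_one_or with h | h
    · exact absurd (Subtype.ext h) hw1
    · exact h
  obtain ⟨z, hz⟩ : ∃ z, Φ z = negOne := by
    have := hK0 w.2
    rw [hz0] at this
    exact this
  -- `z` centralises `x`
  have hcz : Φ (z * x * z⁻¹) = Φ (x ^ 1) := by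
    rw [map_mul, map_mul, map_inv, hz, pow_one,
      (Cfsg.Agent.Lib.Helper50_DkStruct.isScalar_negOne.commute (Φ x)).eq, mul_inv_cancel_right]
  have hzx : z * x * z⁻¹ = x ^ 1 := eq_pow_of_map_eq x hx Φ hcop hLx (z * x * z⁻¹)
    (by rw [conj_pow, hxp, mul_one, mul_inv_cancel]) 1 hcz
  rw [pow_one] at hzx
  have hzx' : z * x = x * z := by
    calc z * x = z * x * z⁻¹ * z := by group
      _ = x * z := by rw [hzx]
  obtain ⟨i, hi⟩ := hcent z hzx'
  have hneg : (negOne : SL(2, k)) ^ p = 1 := by
    rw [← hz, hi, ← map_pow, ← pow_mul, mul_comm, pow_mul, hxp, one_pow, map_one]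
  have h00 := (Cfsg.Agent.Lib.Helper50_SL2Rep.pow_upper (g := (negOne : SL(2, k)))
    (by simp [negOne]) p).2.1
  rw [hneg, one00] at h00
  have hodd : Odd p := hp.eq_two_or_odd'.resolve_left hp2
  have h11 : (negOne : SL(2, k)) 0 0 = -1 := by simp [negOne]
  rw [h11, hodd.neg_one_pow] at h00
  apply h2
  linear_combination h00

omit [Finite Γ] [Fintype k] in
/-- a two-dimensional representation of a group generated by conjugates of `x` gives a
homomorphism to `SL(2,k)` -/
theorem exists_hom_SL2 (x : Γ) (hx : orderOf x = p)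
    (hgen : Subgroup.normalClosure ({x} : Set Γ) = ⊤) {Q : Type*} [AddCommGroup Q] [Module k Q]
    (τ : Representation k Γ Q) (hdim : Module.finrank k Q = 2) :
    ∃ Φ : Γ →* SL(2, k), ∀ g g' : Γ, Φ g = Φ g' ↔ τ g = τ g' := by
  classical
  have hxp : x ^ p = 1 := by rw [← hx]; exact pow_orderOf_eq_one x
  have hfin : Module.Finite k Q := Module.finite_of_finrank_pos (by rw [hdim]; norm_num)
  let b : Module.Basis (Fin 2) k Q := Module.finBasisOfFinrankEq k Q hdim
  let ψ : Module.End k Q ≃ₐ[k] Matrix (Fin 2) (Fin 2) k := LinearMap.toMatrixAlgEquiv b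
  let D : Γ →* k := Matrix.detMonoidHom.comp (ψ.toRingEquiv.toMulEquiv.toMonoidHom.comp τ)
  have hDx : x ∈ D.ker := by
    rw [MonoidHom.mem_ker]
    apply frobenius_inj k p
    rw [frobenius_def, frobenius_def, one_pow, ← map_pow, hxp, map_one]
  have hle : Subgroup.normalClosure ({x} : Set Γ) ≤ D.ker :=
    Subgroup.normalClosure_le_normal (Set.singleton_subset_iff.2 hDx)
  have hD : ∀ g : Γ, (ψ (τ g)).det = 1 := by
    intro g
    have : g ∈ D.ker := hle (by rw [hgen]; exact Subgroup.mem_top g)
    exact MonoidHom.mem_ker.1 this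
  refine ⟨{ toFun := fun g => (⟨ψ (τ g), hD g⟩ : SL(2, k))
            map_one' := Subtype.ext (by
              show ψ (τ 1) = 1
              rw [map_one, map_one])
            map_mul' := fun g g' => Subtype.ext (by
              show ψ (τ (g * g')) = ψ (τ g) * ψ (τ g')
              rw [map_mul, map_mul]) }, ?_⟩
  intro g g'
  constructor
  · intro h
    have := congrArg Subtype.val h
    exact ψ.injective this
  · intro h
    apply Subtype.ext
    show ψ (τ g) = ψ (τ g')
    rw [h]

/-- the core, for a two-dimensional representation -/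
theorem core_rep (hp2 : p ≠ 2) (x : Γ) (hx : orderOf x = p) (hsyl : ¬ p ^ 2 ∣ Nat.card Γ)
    (hgen : Subgroup.normalClosure ({x} : Set Γ) = ⊤)
    (hPn : ¬ (Subgroup.zpowers x).Normal)
    (hK : ∀ K : Subgroup Γ, K.Normal → (Nat.card K).Coprime p → ∀ g ∈ K, g * x = x * g)
    {Q : Type*} [AddCommGroup Q] [Module k Q]
    (τ : Representation k Γ Q) (hdim : Module.finrank k Q = 2) (hτx : τ x ≠ 1)
    (hcent : ∀ z : Γ, z * x = x * z → ∃ i : ℕ, τ z = τ (x ^ i)) : False := by
  obtain ⟨Φ, hΦ⟩ := exists_hom_SL2 x hx hgen τ hdim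
  apply core hp2 x hx hsyl hPn hK Φ
  · intro h
    apply hτx
    have := (hΦ x 1).1 (by rw [h, map_one])
    rw [this, map_one]
  · intro z hz
    obtain ⟨i, hi⟩ := hcent z hz
    exact ⟨i, (hΦ z (x ^ i)).2 hi⟩

end core

section linalg

variable {k : Type*} [Field k] {W : Type*} [AddCommGroup W] [Module k W]

/-- for a single Jordan block on a `3`-dimensional space, the range has dimension at least `2` and
the kernel dimension at most `1` -/
theorem block_rank (N : Module.End k W) (hdim : Module.finrank k W = 3) (hblock : IsBlock N ⊤) :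
    2 ≤ Module.finrank k (LinearMap.range N) ∧ Module.finrank k (LinearMap.ker N) ≤ 1 := by
  have hfin : Module.Finite k W := Module.finite_of_finrank_pos (by rw [hdim]; norm_num)
  obtain ⟨t, ht⟩ := hblock
  have hsup : LinearMap.range N ⊔ Submodule.span k {t} = ⊤ := by
    rw [eq_top_iff, ht, Submodule.span_le]
    rintro _ ⟨i, rfl⟩
    cases i with
    | zero =>
      apply Submodule.mem_sup_right
      show (N ^ 0) t ∈ Submodule.span k {t}
      simp only [pow_zero, Module.End.one_apply]
      exact Submodule.subset_span rfl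
    | succ i =>
      apply Submodule.mem_sup_left
      show (N ^ (i + 1)) t ∈ LinearMap.range N
      rw [pow_succ', Module.End.mul_apply]
      exact LinearMap.mem_range_self N _
  have h1 : Module.finrank k (LinearMap.range N ⊔ Submodule.span k {t} : Submodule k W) ≤
      Module.finrank k (LinearMap.range N) + Module.finrank k (Submodule.span k {t}) :=
    Submodule.finrank_add_le_finrank_add_finrank _ _
  have h2 : Module.finrank k (Submodule.span k {t}) ≤ 1 := by
    have := finrank_span_le_card (R := k) ({t} : Set W)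
    simpa using this
  rw [hsup, finrank_top, hdim] at h1
  have h3 := LinearMap.finrank_range_add_finrank_ker N
  rw [hdim] at h3
  constructor <;> omega

end linalg

/-- **PK-S.** -/
theorem simple_W {k : Type*} [Field k] [Fintype k] {p : ℕ} [Fact p.Prime] [CharP k p]
    (hp2 : p ≠ 2) {Γ : Type*} [Group Γ] [Finite Γ] {W : Type*} [AddCommGroup W] [Module k W]
    (σ : Representation k Γ W) (x : Γ) (hx : orderOf x = p) (hsyl : ¬ p ^ 2 ∣ Nat.card Γ)
    (hgen : Subgroup.normalClosure ({x} : Set Γ) = ⊤)
    (hPn : ¬ (Subgroup.zpowers x).Normal)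
    (hK : ∀ K : Subgroup Γ, K.Normal → (Nat.card K).Coprime p → ∀ g ∈ K, g * x = x * g)
    (hdim : Module.finrank k W = 3) (hblock : IsBlock (σ x - 1) ⊤)
    (hcent : ∀ z : Γ, z * x = x * z → ∃ i : ℕ, σ z = σ (x ^ i)) :
    ∀ U : Submodule k W, InvOn σ Set.univ U → U = ⊥ ∨ U = ⊤ := by
  intro U hU
  by_contra hne
  push Not at hne
  obtain ⟨hbot, htop⟩ := hne
  have hfin : Module.Finite k W := Module.finite_of_finrank_pos (by rw [hdim]; norm_num)
  have hinv : ∀ g, U ≤ U.comap (σ g) := fun g u hu => hU g (Set.mem_univ g) u hu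
  obtain ⟨hr, hk⟩ := block_rank (σ x - 1) hdim hblock
  have hU1 : 1 ≤ Module.finrank k U := by
    by_contra h
    apply hbot
    have : Module.finrank k U = 0 := by omega
    exact Submodule.finrank_eq_zero.1 this
  have hU3 : Module.finrank k U < 3 := by
    rw [← hdim]; exact Submodule.finrank_lt htop
  have hcases : Module.finrank k U = 2 ∨ Module.finrank k U = 1 := by omega
  rcases hcases with h2 | h1
  · -- the submodule
    apply core_rep hp2 x hx hsyl hgen hPn hK (σ.subrepresentation U hinv) h2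
    · intro h
      have hle : U ≤ LinearMap.ker (σ x - 1) := by
        intro u hu
        rw [LinearMap.mem_ker, LinearMap.sub_apply, Module.End.one_apply, sub_eq_zero]
        have := congrArg (fun f => ((f ⟨u, hu⟩ : U) : W)) h
        simpa using this
      have := Submodule.finrank_mono hle
      omega
    · intro z hz
      obtain ⟨i, hi⟩ := hcent z hz
      refine ⟨i, ?_⟩
      ext u
      simp [hi]
  · -- the quotient
    have hq : Module.finrank k (W ⧸ U) = 2 := by
      have := Submodule.finrank_quotient_add_finrank U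
      omega
    apply core_rep hp2 x hx hsyl hgen hPn hK (σ.quotient U hinv) hq
    · intro h
      have hle : LinearMap.range (σ x - 1) ≤ U := by
        rintro _ ⟨w, rfl⟩
        rw [LinearMap.sub_apply, Module.End.one_apply, ← Submodule.Quotient.eq]
        have := congrArg (fun f => f (Submodule.Quotient.mk w)) h
        simpa using this
      have := Submodule.finrank_mono hle
      omega
    · intro z hz
      obtain ⟨i, hi⟩ := hcent z hz
      refine ⟨i, ?_⟩
      ext w
      simp [hi]

end Cfsg.Agent.Lib.Helper50_S4504_S
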