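import Mathlib
import Cfsg.Agent.Lib.Helper57_ModDefs

/-!
# S4504 package PK-C (helper20): the `sl₂` element `c`

`exists_c`: for a unipotent `X ≠ 1` on `M` (`2 dim M + 1 ≤ p`) commuting with a `p'`-group `V`, there is
`c ∈ End_V(M)` with `D³ c = 0` and `tr(D² c · c) ≠ 0`, `D = Ad(X) - 1`.

Construction: `N = X - 1`, `N^(b+2) = 0 ≠ N^(b+1) =: g`, `Q ∈ End_V(M)` with `g Q g = g` (Maschke average
of a generalized inverse), `c = Σ_{i+j=b} (i+1)(j+1) N^i Q N^j`.  Then `[N,[N,c]] = -2 Σ N^(i+1) Q N^(j+1)`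
commutes with `N`, and `tr(D² c · c) = -2 · C(b+3,3) · rank(Q g)`.
-/

set_option autoImplicit false

namespace Cfsg.Agent.Lib.Helper20_S4504_C

section partA




variable {k : Type*} [Field k] {A : Type*} [Ring A] [Algebra k A]

/-- the building blocks `N ^ i * Q * N ^ j` -/
def tm (N Q : A) (i j : ℕ) : A := N ^ i * Q * N ^ j

theorem N_mul_tm (N Q : A) (i j : ℕ) : N * tm N Q i j = tm N Q (i + 1) j := by
  unfold tm
  rw [pow_succ']
  noncomm_ring

theorem tm_mul_N (N Q : A) (i j : ℕ) : tm N Q i j * N = tm N Q i (j + 1) := by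
  unfold tm
  rw [pow_succ]
  noncomm_ring

theorem tm_eq_zero_left (N Q : A) (b : ℕ) (hN : N ^ (b + 2) = 0) (i j : ℕ) (hi : b + 2 ≤ i) :
    tm N Q i j = 0 := by
  unfold tm
  rw [pow_eq_zero_of_le hi hN, zero_mul, zero_mul]

theorem tm_eq_zero_right (N Q : A) (b : ℕ) (hN : N ^ (b + 2) = 0) (i j : ℕ) (hj : b + 2 ≤ j) :
    tm N Q i j = 0 := by
  unfold tm
  rw [pow_eq_zero_of_le hj hN, mul_zero]

/-- the element `c` -/
def cElt (k : Type*) [Field k] {A : Type*} [Ring A] [Algebra k A] (N Q : A) (b : ℕ) : A :=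
  ∑ x ∈ Finset.HasAntidiagonal.antidiagonal b, (((x.1 : k) + 1) * ((x.2 : k) + 1)) • tm N Q x.1 x.2

/-- the element `Π N Π` shifted: `Σ N^(i+1) Q N^(j+1)` -/
def wElt (N Q : A) (b : ℕ) : A :=
  ∑ x ∈ Finset.HasAntidiagonal.antidiagonal b, tm N Q (x.1 + 1) (x.2 + 1)

theorem shift_left (N Q : A) (b : ℕ) (hN : N ^ (b + 2) = 0) :
    ∑ x ∈ Finset.HasAntidiagonal.antidiagonal b, (((x.1 : k) + 1) * ((x.2 : k) + 1)) • tm N Q (x.1 + 2) x.2 =
    ∑ x ∈ Finset.HasAntidiagonal.antidiagonal b, ((x.1 : k) * ((x.2 : k) + 2)) • tm N Q (x.1 + 1) (x.2 + 1) := by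
  have h1 := Finset.Nat.sum_antidiagonal_succ (n := b)
    (f := fun x : ℕ × ℕ => ((x.1 : k) * ((x.2 : k) + 1)) • tm N Q (x.1 + 1) x.2)
  have h2 := Finset.Nat.sum_antidiagonal_succ' (n := b)
    (f := fun x : ℕ × ℕ => ((x.1 : k) * ((x.2 : k) + 1)) • tm N Q (x.1 + 1) x.2)
  rw [h1] at h2
  simp only [Nat.cast_zero, zero_mul, zero_smul, zero_add] at h2
  rw [tm_eq_zero_left N Q b hN _ _ le_rfl, smul_zero, zero_add] at h2
  have e1 : ∀ x : ℕ × ℕ, (((x.1 + 1 : ℕ) : k) * ((x.2 : k) + 1)) • tm N Q (x.1 + 1 + 1) x.2 =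
      (((x.1 : k) + 1) * ((x.2 : k) + 1)) • tm N Q (x.1 + 2) x.2 := by
    intro x
    push_cast
    rfl
  have e2 : ∀ x : ℕ × ℕ, ((x.1 : k) * (((x.2 + 1 : ℕ) : k) + 1)) • tm N Q (x.1 + 1) (x.2 + 1) =
      ((x.1 : k) * ((x.2 : k) + 2)) • tm N Q (x.1 + 1) (x.2 + 1) := by
    intro x
    push_cast
    congr 2
    ring
  simp only [e1, e2] at h2
  exact h2

theorem shift_right (N Q : A) (b : ℕ) (hN : N ^ (b + 2) = 0) :
    ∑ x ∈ Finset.HasAntidiagonal.antidiagonal b, (((x.1 : k) + 1) * ((x.2 : k) + 1)) • tm N Q x.1 (x.2 + 2) =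
    ∑ x ∈ Finset.HasAntidiagonal.antidiagonal b, (((x.1 : k) + 2) * (x.2 : k)) • tm N Q (x.1 + 1) (x.2 + 1) := by
  have h1 := Finset.Nat.sum_antidiagonal_succ' (n := b)
    (f := fun x : ℕ × ℕ => (((x.1 : k) + 1) * (x.2 : k)) • tm N Q x.1 (x.2 + 1))
  have h2 := Finset.Nat.sum_antidiagonal_succ (n := b)
    (f := fun x : ℕ × ℕ => (((x.1 : k) + 1) * (x.2 : k)) • tm N Q x.1 (x.2 + 1))
  rw [h1] at h2
  simp only [Nat.cast_zero, mul_zero, zero_smul, zero_add] at h2
  rw [tm_eq_zero_right N Q b hN _ _ le_rfl, smul_zero, zero_add] at h2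
  have e1 : ∀ x : ℕ × ℕ, (((x.1 : k) + 1) * ((x.2 + 1 : ℕ) : k)) • tm N Q x.1 (x.2 + 1 + 1) =
      (((x.1 : k) + 1) * ((x.2 : k) + 1)) • tm N Q x.1 (x.2 + 2) := by
    intro x
    push_cast
    rfl
  have e2 : ∀ x : ℕ × ℕ, ((((x.1 + 1 : ℕ) : k) + 1) * (x.2 : k)) • tm N Q (x.1 + 1) (x.2 + 1) =
      (((x.1 : k) + 2) * (x.2 : k)) • tm N Q (x.1 + 1) (x.2 + 1) := by
    intro x
    push_cast
    congr 2
    ring
  simp only [e1, e2] at h2
  exact h2

/-- `[N,[N,c]] = -2 • w` -/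
theorem brk_brk_cElt (N Q : A) (b : ℕ) (hN : N ^ (b + 2) = 0) :
    N * (N * cElt k N Q b - cElt k N Q b * N) - (N * cElt k N Q b - cElt k N Q b * N) * N =
      (-2 : k) • wElt N Q b := by
  have hL := shift_left (k := k) N Q b hN
  have hR := shift_right (k := k) N Q b hN
  have e : N * (N * cElt k N Q b - cElt k N Q b * N) - (N * cElt k N Q b - cElt k N Q b * N) * N
      = N * (N * cElt k N Q b) - (2 : k) • (N * cElt k N Q b * N) + cElt k N Q b * N * N := by
    rw [two_smul]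
    noncomm_ring
  rw [e]
  unfold cElt wElt
  simp only [Finset.mul_sum, Finset.sum_mul, mul_smul_comm, smul_mul_assoc, N_mul_tm, tm_mul_N,
    Finset.smul_sum]
  rw [hL, hR, ← Finset.sum_sub_distrib, ← Finset.sum_add_distrib]
  apply Finset.sum_congr rfl
  intro x _
  rw [smul_smul, ← sub_smul, ← add_smul]
  congr 1
  ring

/-- `[N, w] = 0` -/
theorem brk_wElt (N Q : A) (b : ℕ) (hN : N ^ (b + 2) = 0) :
    N * wElt N Q b - wElt N Q b * N = 0 := by
  have h1 := Finset.Nat.sum_antidiagonal_succ (n := b)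
    (f := fun x : ℕ × ℕ => tm N Q (x.1 + 1) (x.2 + 1))
  have h2 := Finset.Nat.sum_antidiagonal_succ' (n := b)
    (f := fun x : ℕ × ℕ => tm N Q (x.1 + 1) (x.2 + 1))
  rw [h1] at h2
  simp only at h2
  rw [tm_eq_zero_right N Q b hN _ _ le_rfl, tm_eq_zero_left N Q b hN _ _ le_rfl, zero_add,
    zero_add] at h2
  unfold wElt
  simp only [Finset.mul_sum, Finset.sum_mul, N_mul_tm, tm_mul_N]
  rw [h2, sub_self]

/-- `N^(j+1) * c * N^(i+1) = α(i,j) • N^(b+1) Q N^(b+1)` for `i + j = b` -/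
theorem pow_mul_cElt_mul_pow (N Q : A) (b : ℕ) (hN : N ^ (b + 2) = 0) (i j : ℕ) (hij : i + j = b) :
    N ^ (j + 1) * cElt k N Q b * N ^ (i + 1) =
      (((i : k) + 1) * ((j : k) + 1)) • tm N Q (b + 1) (b + 1) := by
  unfold cElt
  simp only [Finset.mul_sum, Finset.sum_mul, mul_smul_comm, smul_mul_assoc]
  rw [Finset.sum_eq_single (i, j)]
  · congr 1
    unfold tm
    have h1 : b + 1 = j + 1 + i := by omega
    have h2 : b + 1 = j + (i + 1) := by omega
    rw [show N ^ (j + 1) * (N ^ i * Q * N ^ j) * N ^ (i + 1) =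
      N ^ (j + 1) * N ^ i * Q * (N ^ j * N ^ (i + 1)) by noncomm_ring, ← pow_add, ← pow_add,
      ← h1, ← h2]
  · intro y hy hne
    rw [Finset.HasAntidiagonal.mem_antidiagonal] at hy
    have hcase : i < y.1 ∨ j < y.2 := by
      by_contra hcon
      rw [not_or, not_lt, not_lt] at hcon
      apply hne
      ext <;> simp <;> omega
    unfold tm
    rcases hcase with h | h
    · have : N ^ (j + 1) * (N ^ y.1 * Q * N ^ y.2) * N ^ (i + 1) =
          N ^ (j + 1 + y.1) * Q * N ^ y.2 * N ^ (i + 1) := by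
        rw [pow_add N (j + 1) y.1]
        simp only [mul_assoc]
      rw [this, pow_eq_zero_of_le (n := j + 1 + y.1) (by omega) hN]
      simp
    · have : N ^ (j + 1) * (N ^ y.1 * Q * N ^ y.2) * N ^ (i + 1) =
          N ^ (j + 1) * (N ^ y.1 * Q) * N ^ (y.2 + (i + 1)) := by
        rw [pow_add N y.2 (i + 1)]
        simp only [mul_assoc]
      rw [this, pow_eq_zero_of_le (n := y.2 + (i + 1)) (by omega) hN]
      simp
  · intro h
    exact absurd (Finset.HasAntidiagonal.mem_antidiagonal.2 hij) h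


section dop

open Cfsg.Agent.Lib.Helper57_ModDefs

variable {M : Type*} [AddCommGroup M] [Module k M]

theorem Dop_eq (X Xi c : Module.End k M) (hX : X * Xi = 1) :
    Dop X Xi c = ((X - 1) * c - c * (X - 1)) * Xi := by
  unfold Dop
  calc X * c * Xi - c = X * c * Xi - c * (X * Xi) := by rw [hX, mul_one]
    _ = ((X - 1) * c - c * (X - 1)) * Xi := by noncomm_ring

theorem Dop_mul_Xi (X Xi c : Module.End k M) :
    Dop X Xi (c * Xi) = Dop X Xi c * Xi := by
  unfold Dop
  noncomm_ring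

theorem Dop_smul (X Xi c : Module.End k M) (a : k) :
    Dop X Xi (a • c) = a • Dop X Xi c := by
  unfold Dop
  rw [mul_smul_comm, smul_mul_assoc, smul_sub]

theorem Dop2_cElt (X Xi Q : Module.End k M) (hX : X * Xi = 1) (b : ℕ)
    (hN : (X - 1) ^ (b + 2) = 0) :
    Dop X Xi (Dop X Xi (cElt k (X - 1) Q b)) = (-2 : k) • (wElt (X - 1) Q b * Xi * Xi) := by
  have h1 : Dop X Xi (cElt k (X - 1) Q b) =
      ((X - 1) * cElt k (X - 1) Q b - cElt k (X - 1) Q b * (X - 1)) * Xi := Dop_eq X Xi _ hX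
  rw [h1, Dop_mul_Xi, Dop_eq X Xi _ hX, brk_brk_cElt (k := k) (X - 1) Q b hN,
    smul_mul_assoc, smul_mul_assoc]

theorem Dop3_cElt (X Xi Q : Module.End k M) (hX : X * Xi = 1) (b : ℕ)
    (hN : (X - 1) ^ (b + 2) = 0) :
    Dop X Xi (Dop X Xi (Dop X Xi (cElt k (X - 1) Q b))) = 0 := by
  rw [Dop2_cElt X Xi Q hX b hN, Dop_smul, Dop_mul_Xi, Dop_mul_Xi, Dop_eq X Xi _ hX,
    brk_wElt (X - 1) Q b hN]
  simp

theorem Xi_mul_top (X Xi : Module.End k M) (hXi : Xi * X = 1) (b : ℕ)
    (hN : (X - 1) ^ (b + 2) = 0) : Xi * (X - 1) ^ (b + 1) = (X - 1) ^ (b + 1) := by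
  have h1 : X * (X - 1) ^ (b + 1) = (X - 1) ^ (b + 1) := by
    have : X * (X - 1) ^ (b + 1) = (X - 1) ^ (b + 2) + (X - 1) ^ (b + 1) := by
      rw [pow_succ' (X - 1) (b + 1)]
      noncomm_ring
    rw [this, hN, zero_add]
  calc Xi * (X - 1) ^ (b + 1) = Xi * (X * (X - 1) ^ (b + 1)) := by rw [h1]
    _ = (Xi * X) * (X - 1) ^ (b + 1) := by rw [mul_assoc]
    _ = (X - 1) ^ (b + 1) := by rw [hXi, one_mul]

theorem trace_Dop2_cElt [FiniteDimensional k M] (X Xi Q : Module.End k M) (hX : X * Xi = 1)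
    (hXi : Xi * X = 1) (b : ℕ) (hN : (X - 1) ^ (b + 2) = 0) :
    LinearMap.trace k M (Dop X Xi (Dop X Xi (cElt k (X - 1) Q b)) * cElt k (X - 1) Q b) =
      (-2 : k) * (∑ x ∈ Finset.HasAntidiagonal.antidiagonal b, (((x.1 : k) + 1) * ((x.2 : k) + 1))) *
        LinearMap.trace k M (Q * (X - 1) ^ (b + 1) * Q * (X - 1) ^ (b + 1)) := by
  set N := X - 1 with hNdef
  have hcomm : Commute Xi N := by
    have h1 : Commute Xi X := by
      unfold Commute SemiconjBy
      rw [hXi, hX]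
    exact h1.sub_right (Commute.one_right Xi)
  rw [Dop2_cElt X Xi Q hX b hN, smul_mul_assoc, map_smul, smul_eq_mul]
  rw [mul_assoc (-2 : k)]
  congr 1
  unfold wElt
  rw [Finset.sum_mul, Finset.sum_mul, Finset.sum_mul, map_sum, Finset.sum_mul]
  apply Finset.sum_congr rfl
  intro x hx
  rw [Finset.HasAntidiagonal.mem_antidiagonal] at hx
  have key := pow_mul_cElt_mul_pow (k := k) N Q b hN x.1 x.2 hx
  have hc1 : Commute Xi (N ^ (x.2 + 1)) := hcomm.pow_right _
  have e1 : tm N Q (x.1 + 1) (x.2 + 1) * Xi * Xi * cElt k N Q b =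
      N ^ (x.1 + 1) * (Q * Xi * Xi * (N ^ (x.2 + 1) * cElt k N Q b)) := by
    unfold tm
    have : N ^ (x.2 + 1) * Xi * Xi = Xi * Xi * N ^ (x.2 + 1) := by
      rw [← hc1.eq, mul_assoc, ← hc1.eq, mul_assoc]
    calc N ^ (x.1 + 1) * Q * N ^ (x.2 + 1) * Xi * Xi * cElt k N Q b
        = N ^ (x.1 + 1) * Q * (N ^ (x.2 + 1) * Xi * Xi) * cElt k N Q b := by noncomm_ring
      _ = N ^ (x.1 + 1) * (Q * Xi * Xi * (N ^ (x.2 + 1) * cElt k N Q b)) := by
        rw [this]
        noncomm_ring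
  rw [e1, LinearMap.trace_mul_comm]
  have e2 : Q * Xi * Xi * (N ^ (x.2 + 1) * cElt k N Q b) * N ^ (x.1 + 1) =
      Q * Xi * Xi * (N ^ (x.2 + 1) * cElt k N Q b * N ^ (x.1 + 1)) := by noncomm_ring
  rw [e2, key]
  unfold tm
  have hg := Xi_mul_top X Xi hXi b hN
  rw [← hNdef] at hg
  have e3 : Q * Xi * Xi * (N ^ (b + 1) * Q * N ^ (b + 1)) =
      Q * (Xi * (Xi * N ^ (b + 1))) * Q * N ^ (b + 1) := by noncomm_ring
  rw [mul_smul_comm, map_smul, smul_eq_mul, e3, hg, hg]

end dop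


end partA

section partB


variable {k : Type*} [Field k] {M : Type*} [AddCommGroup M] [Module k M]

/-- every endomorphism of a vector space has a generalized inverse -/
theorem exists_ginv (g : Module.End k M) : ∃ h : Module.End k M, g * h * g = g := by
  obtain ⟨h', hh'⟩ := LinearMap.exists_rightInverse_of_surjective g.rangeRestrict
    (LinearMap.range_rangeRestrict g)
  obtain ⟨ρ, hρ⟩ := LinearMap.exists_leftInverse_of_injective (LinearMap.range g).subtype
    (Submodule.ker_subtype _)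
  refine ⟨h' ∘ₗ ρ, ?_⟩
  ext m
  have h1 : ρ (g m) = ⟨g m, LinearMap.mem_range_self g m⟩ := by
    have := LinearMap.congr_fun hρ ⟨g m, LinearMap.mem_range_self g m⟩
    simpa using this
  have h2 := LinearMap.congr_fun hh' ⟨g m, LinearMap.mem_range_self g m⟩
  have h3 : g (h' ⟨g m, LinearMap.mem_range_self g m⟩) = g m := by
    have := congrArg Subtype.val h2
    simpa using this
  rw [Module.End.mul_apply, Module.End.mul_apply, LinearMap.comp_apply, h1, h3]

/-- Maschke averaging of a generalized inverse -/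
theorem exists_Q {V : Type*} [Group V] [Finite V] (hV : (Nat.card V : k) ≠ 0)
    (σ : Representation k V M) (g : Module.End k M) (hg : ∀ v, Commute (σ v) g) :
    ∃ Q : Module.End k M, (∀ v, Commute (σ v) Q) ∧ g * Q * g = g := by
  classical
  haveI : Fintype V := Fintype.ofFinite V
  obtain ⟨h, hh⟩ := exists_ginv g
  refine ⟨(Nat.card V : k)⁻¹ • ∑ v : V, σ v * h * σ v⁻¹, ?_, ?_⟩
  · intro w
    apply Commute.smul_right
    unfold Commute SemiconjBy
    rw [Finset.mul_sum, Finset.sum_mul]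
    apply Fintype.sum_equiv (Equiv.mulLeft w)
    intro v
    simp only [Equiv.coe_mulLeft, mul_inv_rev, map_mul]
    have : σ v⁻¹ * σ w⁻¹ * σ w = σ v⁻¹ := by
      rw [mul_assoc, ← map_mul, inv_mul_cancel, map_one, mul_one]
    rw [mul_assoc (σ w * σ v * h), this]
    noncomm_ring
  · rw [mul_smul_comm, smul_mul_assoc, Finset.mul_sum, Finset.sum_mul]
    have : ∀ v : V, g * (σ v * h * σ v⁻¹) * g = g := by
      intro v
      have c1 : g * σ v = σ v * g := (hg v).eq.symm
      have c2 : σ v⁻¹ * g = g * σ v⁻¹ := (hg v⁻¹).eq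
      calc g * (σ v * h * σ v⁻¹) * g = (g * σ v) * h * (σ v⁻¹ * g) := by noncomm_ring
        _ = σ v * (g * h * g) * σ v⁻¹ := by
          rw [c1, c2]
          noncomm_ring
        _ = (σ v * g) * σ v⁻¹ := by rw [hh]
        _ = g * (σ v * σ v⁻¹) := by
          rw [← c1, mul_assoc]
        _ = g := by rw [← map_mul, mul_inv_cancel, map_one, mul_one]
    rw [Finset.sum_congr rfl (fun v _ => this v), Finset.sum_const, Finset.card_univ,
      ← Nat.card_eq_fintype_card, ← Nat.cast_smul_eq_nsmul k, smul_smul, inv_mul_cancel₀ hV,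
      one_smul]

/-- closed form for the coefficient sum -/
theorem two_mul_sum (b : ℕ) :
    2 * ∑ x ∈ Finset.HasAntidiagonal.antidiagonal b, (x.2 + 1) = (b + 1) * (b + 2) := by
  induction b with
  | zero => simp
  | succ b ih =>
    rw [Finset.Nat.sum_antidiagonal_succ, mul_add, ih]
    ring

theorem six_mul_sum (b : ℕ) :
    6 * ∑ x ∈ Finset.HasAntidiagonal.antidiagonal b, (x.1 + 1) * (x.2 + 1) =
      (b + 1) * (b + 2) * (b + 3) := by
  induction b with
  | zero => simp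
  | succ b ih =>
    rw [Finset.Nat.sum_antidiagonal_succ]
    have e : ∀ x : ℕ × ℕ, (x.1 + 1 + 1) * (x.2 + 1) = (x.1 + 1) * (x.2 + 1) + (x.2 + 1) := by
      intro x
      ring
    simp only [e]
    rw [Finset.sum_add_distrib]
    have h2 := two_mul_sum b
    nlinarith [h2, ih]


end partB

section main

open Cfsg.Agent.Lib.Helper57_ModDefs Polynomial

theorem exists_c {k : Type*} [Field k] {p : ℕ} [Fact p.Prime] [CharP k p] {M : Type*}
    [AddCommGroup M] [Module k M] [FiniteDimensional k M] (X Xi : Module.End k M)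
    (hX : X * Xi = 1) (hXi : Xi * X = 1) (hdim : 2 * Module.finrank k M + 1 ≤ p) (hne : X ≠ 1)
    (hXp : X ^ p = 1)
    {V : Type*} [Group V] [Finite V] (hV : (Nat.card V).Coprime p) (σ : Representation k V M)
    (hcomm : ∀ v, Commute (σ v) X) :
    ∃ c : Module.End k M, (∀ v, Commute (σ v) c) ∧ Dop X Xi (Dop X Xi (Dop X Xi c)) = 0 ∧
      LinearMap.trace k M (Dop X Xi (Dop X Xi c) * c) ≠ 0 := by
  classical
  have hp : p.Prime := Fact.out
  haveI : Nontrivial (Module.End k M) := ⟨⟨X, 1, hne⟩⟩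
  -- `N = X - 1` is nilpotent
  have hNp : (X - 1) ^ p = 0 := by
    have h1 : ((Polynomial.X : k[X]) - 1) ^ p = Polynomial.X ^ p - 1 := by
      rw [sub_pow_char, one_pow]
    have h2 := congrArg (Polynomial.aeval X) h1
    simpa [hXp] using h2
  have hnil : IsNilpotent (X - 1) := ⟨p, hNp⟩
  have hNn : (X - 1) ^ Module.finrank k M = 0 := by
    have h1 := LinearMap.aeval_self_charpoly (X - 1)
    rw [hnil.charpoly_eq_X_pow_finrank] at h1
    simpa using h1
  -- the nilpotency index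
  have hex : ∃ m : ℕ, (X - 1) ^ m = 0 := ⟨_, hNn⟩
  have ha := Nat.find_spec hex
  have hmin : ∀ m, m < Nat.find hex → (X - 1) ^ m ≠ 0 := fun m hm => Nat.find_min hex hm
  have hale : Nat.find hex ≤ Module.finrank k M := Nat.find_min' hex hNn
  have ha2 : 2 ≤ Nat.find hex := by
    by_contra hcon
    have hlt : Nat.find hex < 2 := by omega
    interval_cases h : Nat.find hex
    · rw [pow_zero] at ha
      exact one_ne_zero ha
    · rw [pow_one] at ha
      exact hne (sub_eq_zero.1 ha)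
  obtain ⟨b, hb⟩ : ∃ b, Nat.find hex = b + 2 := ⟨Nat.find hex - 2, by omega⟩
  rw [hb] at ha hale
  have hg0 : (X - 1) ^ (b + 1) ≠ 0 := hmin (b + 1) (by omega)
  -- the averaged generalized inverse
  have hVk : (Nat.card V : k) ≠ 0 := by
    intro h0
    rw [CharP.cast_eq_zero_iff k p] at h0
    have := Nat.Coprime.eq_one_of_dvd hV.symm h0
    exact hp.one_lt.ne' this
  have hcommN : ∀ v, Commute (σ v) (X - 1) := fun v => (hcomm v).sub_right (Commute.one_right _)
  obtain ⟨Q, hQc, hQg⟩ := exists_Q hVk σ ((X - 1) ^ (b + 1)) (fun v => (hcommN v).pow_right _)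
  refine ⟨cElt k (X - 1) Q b, ?_, Dop3_cElt X Xi Q hX b ha, ?_⟩
  · intro v
    unfold cElt tm
    apply Commute.sum_right
    intro x _
    apply Commute.smul_right
    exact (((hcommN v).pow_right _).mul_right (hQc v)).mul_right ((hcommN v).pow_right _)
  · rw [trace_Dop2_cElt X Xi Q hX hXi b ha]
    -- the three factors are nonzero
    have hn2 : 2 ≤ Module.finrank k M := by omega
    have hpbig : b + 3 < p := by omega
    have h2 : (-2 : k) ≠ 0 := by
      rw [neg_ne_zero]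
      intro h0
      have h0' : ((2 : ℕ) : k) = 0 := by exact_mod_cast h0
      rw [CharP.cast_eq_zero_iff k p] at h0'
      have := Nat.le_of_dvd (by norm_num) h0'
      omega
    have hS : (∑ x ∈ Finset.HasAntidiagonal.antidiagonal b, (((x.1 : k) + 1) * ((x.2 : k) + 1))) ≠ 0 := by
      have e : (∑ x ∈ Finset.HasAntidiagonal.antidiagonal b, (((x.1 : k) + 1) * ((x.2 : k) + 1))) =
          ((∑ x ∈ Finset.HasAntidiagonal.antidiagonal b, (x.1 + 1) * (x.2 + 1) : ℕ) : k) := by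
        push_cast
        rfl
      rw [e]
      intro h0
      rw [CharP.cast_eq_zero_iff k p] at h0
      have h6 := six_mul_sum b
      have hdvd : p ∣ (b + 1) * (b + 2) * (b + 3) := by
        rw [← h6]
        exact Dvd.dvd.mul_left h0 6
      rcases (Nat.Prime.dvd_mul hp).1 hdvd with h | h
      · rcases (Nat.Prime.dvd_mul hp).1 h with h' | h'
        · have := Nat.le_of_dvd (by omega) h'
          omega
        · have := Nat.le_of_dvd (by omega) h'
          omega
      · have := Nat.le_of_dvd (by omega) h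
        omega
    have hT : LinearMap.trace k M (Q * (X - 1) ^ (b + 1) * Q * (X - 1) ^ (b + 1)) ≠ 0 := by
      set g := (X - 1) ^ (b + 1) with hgdef
      have e1 : Q * g * Q * g = Q * g := by
        rw [mul_assoc, mul_assoc, ← mul_assoc g, hQg]
      rw [e1]
      have hidem : IsIdempotentElem (Q * g) := by
        unfold IsIdempotentElem
        rw [← mul_assoc, e1]
      rw [(LinearMap.IsIdempotentElem.isProj_range _ hidem).trace]
      have hr0 : Module.finrank k (LinearMap.range (Q * g)) ≠ 0 := by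
        intro h0
        rw [Submodule.finrank_eq_zero, LinearMap.range_eq_bot] at h0
        apply hg0
        rw [← hQg, mul_assoc, h0, mul_zero]
      have hrle : Module.finrank k (LinearMap.range (Q * g)) ≤ Module.finrank k M :=
        Submodule.finrank_le _
      intro h0
      rw [CharP.cast_eq_zero_iff k p] at h0
      have := Nat.le_of_dvd (Nat.pos_of_ne_zero hr0) h0
      omega
    exact mul_ne_zero (mul_ne_zero h2 hS) hT

end main

end Cfsg.Agent.Lib.Helper20_S4504_C
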