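import Mathlib
import Cfsg.Agent.Lib.Helper57_ModDefs

/-!
# Jordan blocks of a nilpotent endomorphism (for S4504-N1 / N1', helper34)

`cyc D t = span {D^i t}`.  With `a` the least exponent with `D^a t = 0`: the annihilator of `t` in `k[X]` is
`(X^a)`; `ker D^r ∩ cyc ⊆ D (cyc)` for `r < a`; `D^r` kills `cyc` for `a ≤ r`; `finrank cyc = a`.
-/

set_option autoImplicit false

namespace Cfsg.Agent.Lib.Helper34_S4504_Block

open Polynomial Cfsg.Agent.Lib.Helper57_ModDefs

variable {k : Type*} [Field k] {T : Type*} [AddCommGroup T] [Module k T]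

/-- the cyclic subspace generated by `t` -/
def cyc (D : Module.End k T) (t : T) : Submodule k T :=
  Submodule.span k (Set.range fun i : ℕ => (D ^ i) t)

theorem isBlock_iff (D : Module.End k T) (W : Submodule k T) : IsBlock D W ↔ ∃ t, W = cyc D t := Iff.rfl

theorem mem_cyc_iff (D : Module.End k T) (t u : T) : u ∈ cyc D t ↔ ∃ p : k[X], u = aeval D p t := by
  constructor
  · intro hu
    induction hu using Submodule.span_induction with
    | mem x hx =>
      obtain ⟨i, rfl⟩ := hx
      exact ⟨X ^ i, by simp⟩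
    | zero => exact ⟨0, by simp⟩
    | add x y _ _ hx hy =>
      obtain ⟨p, rfl⟩ := hx
      obtain ⟨q, rfl⟩ := hy
      exact ⟨p + q, by simp⟩
    | smul c x _ hx =>
      obtain ⟨p, rfl⟩ := hx
      exact ⟨c • p, by simp⟩
  · rintro ⟨p, rfl⟩
    rw [Polynomial.aeval_eq_sum_range, LinearMap.sum_apply]
    refine Submodule.sum_mem _ fun i _ => ?_
    rw [LinearMap.smul_apply]
    exact Submodule.smul_mem _ _ (Submodule.subset_span ⟨i, rfl⟩)

theorem aeval_mem_cyc (D : Module.End k T) (t : T) (p : k[X]) : aeval D p t ∈ cyc D t :=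
  (mem_cyc_iff D t _).2 ⟨p, rfl⟩

theorem self_mem_cyc (D : Module.End k T) (t : T) : t ∈ cyc D t :=
  (mem_cyc_iff D t _).2 ⟨1, by simp⟩

theorem map_mem_cyc (D : Module.End k T) (t u : T) (hu : u ∈ cyc D t) : D u ∈ cyc D t := by
  obtain ⟨p, rfl⟩ := (mem_cyc_iff D t u).1 hu
  exact (mem_cyc_iff D t _).2 ⟨X * p, by simp⟩

/-- a least exponent killing `t` -/
theorem exists_idx (D : Module.End k T) (hnil : ∃ m : ℕ, D ^ m = 0) (t : T) :
    ∃ a : ℕ, (D ^ a) t = 0 ∧ ∀ j < a, (D ^ j) t ≠ 0 := by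
  classical
  have hex : ∃ j : ℕ, (D ^ j) t = 0 := by
    obtain ⟨m, hm⟩ := hnil
    exact ⟨m, by rw [hm]; rfl⟩
  exact ⟨Nat.find hex, Nat.find_spec hex, fun j hj => Nat.find_min hex hj⟩

/-- the annihilator of `t` is `(X^a)` -/
theorem dvd_of_aeval_eq_zero (D : Module.End k T) (hnil : ∃ m : ℕ, D ^ m = 0) (t : T) {a : ℕ}
    (hamin : ∀ j < a, (D ^ j) t ≠ 0) (p : k[X]) (hp : aeval D p t = 0) : X ^ a ∣ p := by
  by_cases hp0 : p = 0
  · rw [hp0]; exact dvd_zero _
  obtain ⟨q, hpq, hq⟩ := Polynomial.exists_eq_pow_rootMultiplicity_mul_and_not_dvd p hp0 0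
  set v := p.rootMultiplicity 0 with hv
  rw [C_0, sub_zero] at hpq hq
  by_cases hva : a ≤ v
  · rw [hpq]
    exact dvd_mul_of_dvd_left (pow_dvd_pow X hva) q
  · exfalso
    have hva' : v < a := by omega
    set w : T := (D ^ v) t with hw
    have hw0 : w ≠ 0 := hamin v hva'
    have hqw : aeval D q w = 0 := by
      have : aeval D p t = aeval D q ((D ^ v) t) := by
        rw [hpq, mul_comm, map_mul]
        simp
      rw [← hw] at this
      rw [← this, hp]
    have hq0 : q.coeff 0 ≠ 0 := fun h => hq (Polynomial.X_dvd_iff.2 h)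
    set g : k[X] := C (-(q.coeff 0)⁻¹) * q.divX with hg
    have hfix : aeval D (X * g) w = w := by
      have h1 : q = X * q.divX + C (q.coeff 0) := (Polynomial.X_mul_divX_add q).symm
      have h2 : aeval D q w = D (aeval D q.divX w) + (q.coeff 0) • w := by
        have h2' : aeval D (X * q.divX + C (q.coeff 0)) w
            = D (aeval D q.divX w) + (q.coeff 0) • w := by
          rw [map_add, map_mul, aeval_X, aeval_C, LinearMap.add_apply, Module.End.mul_apply,
            Algebra.algebraMap_eq_smul_one, LinearMap.smul_apply, Module.End.one_apply]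
        rwa [Polynomial.X_mul_divX_add] at h2'
      rw [hqw] at h2
      have h3 : D (aeval D q.divX w) = -((q.coeff 0) • w) := by
        have := h2.symm
        exact eq_neg_of_add_eq_zero_left this
      have h4 : aeval D (X * g) w = (-(q.coeff 0)⁻¹) • D (aeval D q.divX w) := by
        rw [hg]
        simp [Algebra.algebraMap_eq_smul_one]
      rw [h4, h3, smul_neg, smul_smul, neg_mul, inv_mul_cancel₀ hq0]
      simp
    have hiter : ∀ j : ℕ, aeval D ((X * g) ^ j) w = w := by
      intro j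
      induction j with
      | zero => simp
      | succ j ih =>
        rw [pow_succ, map_mul, Module.End.mul_apply, hfix, ih]
    obtain ⟨m, hm⟩ := hnil
    have := hiter m
    rw [mul_pow, map_mul, map_pow, aeval_X, hm, zero_mul] at this
    exact hw0 this.symm

/-- `ker D^r ∩ cyc ⊆ D (cyc)` for `r < a` -/
theorem exists_preimage (D : Module.End k T) (hnil : ∃ m : ℕ, D ^ m = 0) (t : T) {a : ℕ}
    (hamin : ∀ j < a, (D ^ j) t ≠ 0) {r : ℕ} (hr : r < a) (u : T) (hu : u ∈ cyc D t)
    (hDu : (D ^ r) u = 0) : ∃ b ∈ cyc D t, D b = u := by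
  obtain ⟨p, rfl⟩ := (mem_cyc_iff D t u).1 hu
  have h1 : aeval D (X ^ r * p) t = 0 := by
    rw [map_mul, map_pow, aeval_X]
    exact hDu
  have h2 := dvd_of_aeval_eq_zero D hnil t hamin _ h1
  have h3 : (X : k[X]) ^ a = X ^ r * X ^ (a - r) := by
    rw [← pow_add]
    congr 1
    omega
  rw [h3] at h2
  have h4 : (X : k[X]) ^ (a - r) ∣ p := (mul_dvd_mul_iff_left (pow_ne_zero r X_ne_zero)).1 h2
  have h5 : (X : k[X]) ∣ p := dvd_trans (dvd_pow_self X (by omega)) h4
  obtain ⟨q, rfl⟩ := h5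
  exact ⟨aeval D q t, aeval_mem_cyc D t q, by simp⟩

/-- `D^r` kills the block for `a ≤ r` -/
theorem pow_apply_eq_zero (D : Module.End k T) (t : T) {a : ℕ} (ha0 : (D ^ a) t = 0) {r : ℕ}
    (har : a ≤ r) (u : T) (hu : u ∈ cyc D t) : (D ^ r) u = 0 := by
  obtain ⟨p, rfl⟩ := (mem_cyc_iff D t u).1 hu
  have h1 : (D ^ r) (aeval D p t) = aeval D (p * X ^ r) t := by
    rw [mul_comm, map_mul, map_pow, aeval_X]
    rfl
  rw [h1, map_mul, map_pow, aeval_X, Module.End.mul_apply]
  have h2 : (D ^ r) t = 0 := by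
    have : r = (r - a) + a := by omega
    rw [this, pow_add, Module.End.mul_apply, ha0, map_zero]
  rw [h2, map_zero]

/-- the block has dimension `a` -/
theorem finrank_cyc (D : Module.End k T) (hnil : ∃ m : ℕ, D ^ m = 0) (t : T) {a : ℕ}
    (ha0 : (D ^ a) t = 0) (hamin : ∀ j < a, (D ^ j) t ≠ 0) :
    Module.finrank k (cyc D t) = a := by
  let φ : Polynomial.degreeLT k a →ₗ[k] T :=
    { toFun := fun p => aeval D (p : k[X]) t
      map_add' := by intro p q; simp
      map_smul' := by intro c p; simp }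
  have hφ : ∀ p : Polynomial.degreeLT k a, φ p = aeval D (p : k[X]) t := fun p => rfl
  have hinj : Function.Injective φ := by
    rw [← LinearMap.ker_eq_bot, LinearMap.ker_eq_bot']
    intro p hp
    rw [hφ] at hp
    have h1 := dvd_of_aeval_eq_zero D hnil t hamin _ hp
    have h2 : (p : k[X]).degree < ((X : k[X]) ^ a).degree := by
      rw [Polynomial.degree_X_pow]
      exact Polynomial.mem_degreeLT.1 p.2
    have := Polynomial.eq_zero_of_dvd_of_degree_lt h1 h2
    exact Subtype.ext this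
  have hrange : LinearMap.range φ = cyc D t := by
    apply le_antisymm
    · rintro _ ⟨p, rfl⟩
      exact aeval_mem_cyc D t _
    · intro u hu
      obtain ⟨p, rfl⟩ := (mem_cyc_iff D t u).1 hu
      have hmon : ((X : k[X]) ^ a).Monic := Polynomial.monic_X_pow a
      have hdeg : (p %ₘ X ^ a).degree < (a : WithBot ℕ) := by
        have := Polynomial.degree_modByMonic_lt p hmon
        rwa [Polynomial.degree_X_pow] at this
      refine ⟨⟨p %ₘ X ^ a, Polynomial.mem_degreeLT.2 hdeg⟩, ?_⟩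
      rw [hφ]
      show aeval D (p %ₘ X ^ a) t = aeval D p t
      conv_rhs => rw [← Polynomial.modByMonic_add_div p (X ^ a)]
      rw [map_add, LinearMap.add_apply, mul_comm, map_mul, map_pow, aeval_X, Module.End.mul_apply, ha0,
        map_zero, add_zero]
  rw [← hrange, LinearMap.finrank_range_of_inj hinj, (Polynomial.degreeLTEquiv k a).finrank_eq,
    Module.finrank_fin_fun]

section indep

variable {n : ℕ} {U : Fin n → Submodule k T}

theorem mem_iSup_iff_sum (c : T) : c ∈ ⨆ i, U i ↔ ∃ μ : Fin n → T, (∀ i, μ i ∈ U i) ∧ ∑ i, μ i = c := by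
  have h := Submodule.mem_iSup_finset_iff_exists_sum (s := Finset.univ) U c
  simp only [Finset.mem_univ, iSup_pos] at h
  rw [h]
  constructor
  · rintro ⟨μ, hμ⟩
    exact ⟨fun i => (μ i : T), fun i => (μ i).2, hμ⟩
  · rintro ⟨μ, hμU, hμ⟩
    exact ⟨fun i => ⟨μ i, hμU i⟩, hμ⟩

theorem sum_mem_iSup (μ : Fin n → T) (hμ : ∀ i, μ i ∈ U i) : ∑ i, μ i ∈ ⨆ i, U i :=
  (mem_iSup_iff_sum _).2 ⟨μ, hμ, rfl⟩

theorem indep_sum_zero (hind : iSupIndep U) (x : Fin n → T) (hx : ∀ i, x i ∈ U i)
    (h0 : ∑ i, x i = 0) : ∀ i, x i = 0 := by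
  classical
  intro i
  have h1 : x i = -∑ j ∈ Finset.univ.erase i, x j := by
    rw [← Finset.add_sum_erase _ _ (Finset.mem_univ i)] at h0
    exact eq_neg_of_add_eq_zero_left h0
  have h2 : x i ∈ ⨆ (j) (_ : j ≠ i), U j := by
    rw [h1]
    refine Submodule.neg_mem _ (Submodule.sum_mem _ fun j hj => ?_)
    exact Submodule.mem_iSup_of_mem j (Submodule.mem_iSup_of_mem (Finset.ne_of_mem_erase hj) (hx j))
  exact Submodule.disjoint_def.1 (hind i) (x i) (hx i) h2

end indep

end Cfsg.Agent.Lib.Helper34_S4504_Block
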