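import Mathlib
import Cfsg.Agent.Lib.Helper57_ModDefs
import Cfsg.Agent.Lib.Helper34_S4504_Block

set_option autoImplicit false

namespace Cfsg.Agent.Lib.Helper34_S4504_N1

open Cfsg.Agent.Lib.Helper57_ModDefs Cfsg.Agent.Lib.Helper34_S4504_Block

/-- the adjoint of `D` for a `(1 + D)`-invariant form -/
theorem adj_D {k : Type*} [Field k] {T : Type*} [AddCommGroup T] [Module k T]
    (D : Module.End k T) (τ : LinearMap.BilinForm k T)
    (hτ : ∀ a b, τ ((1 + D) a) ((1 + D) b) = τ a b) (a e : T) :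
    τ (D a) e = -τ ((1 + D) a) (D e) := by
  have h := hτ a e
  simp only [LinearMap.add_apply, Module.End.one_apply, map_add] at h ⊢
  linear_combination h

/-! ## PK-N1 -/
theorem exists_block_three {k : Type*} [Field k] {T : Type*} [AddCommGroup T] [Module k T]
    [FiniteDimensional k T] (D : Module.End k T) (hnil : ∃ m : ℕ, D ^ m = 0)
    (τ : LinearMap.BilinForm k T) (hτ : ∀ a b, τ ((1 + D) a) ((1 + D) b) = τ a b)
    {n : ℕ} (U : Fin n → Submodule k T) (hU : ∀ i, IsBlock D (U i)) (hind : iSupIndep U)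
    (c : T) (hc : c ∈ ⨆ i, U i) (h3 : (D ^ 3) c = 0) (hne : τ ((D ^ 2) c) c ≠ 0) :
    ∃ i, Module.finrank k (U i) = 3 := by
  classical
  by_contra hcon
  push Not at hcon
  choose t ht using hU
  have hidx := fun i => exists_idx D hnil (t i)
  choose a ha0 hamin using hidx
  have hUc : ∀ i, U i = cyc D (t i) := ht
  have hfr : ∀ i, Module.finrank k (U i) = a i := by
    intro i
    rw [hUc i]
    exact finrank_cyc D hnil (t i) (ha0 i) (hamin i)
  have ha3 : ∀ i, a i ≠ 3 := by
    intro i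
    rw [← hfr i]
    exact hcon i
  obtain ⟨μ, hμU, hμ⟩ := (mem_iSup_iff_sum c).1 hc
  have hpowmem : ∀ (r : ℕ) (i : Fin n) (u : T), u ∈ U i → (D ^ r) u ∈ U i := by
    intro r i u hu
    induction r with
    | zero => simpa using hu
    | succ r ih =>
      rw [pow_succ', Module.End.mul_apply, hUc i]
      exact map_mem_cyc D (t i) _ (by rw [← hUc i]; exact ih)
  have hD3μ : ∀ i, (D ^ 3) (μ i) = 0 := by
    apply indep_sum_zero hind (fun i => (D ^ 3) (μ i))
    · intro i
      exact hpowmem 3 i _ (hμU i)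
    · rw [← map_sum, hμ, h3]
  have hb : ∀ i, ∃ b ∈ U i, (D ^ 2) (μ i) = (D ^ 3) b := by
    intro i
    by_cases hai : a i ≤ 2
    · refine ⟨0, (U i).zero_mem, ?_⟩
      rw [map_zero]
      exact pow_apply_eq_zero D (t i) (ha0 i) hai (μ i) (by rw [← hUc i]; exact hμU i)
    · have hai' : 3 < a i := by
        have := ha3 i
        omega
      obtain ⟨b, hbU, hbD⟩ := exists_preimage D hnil (t i) (hamin i) (r := 3) hai' (μ i)
        (by rw [← hUc i]; exact hμU i) (hD3μ i)
      refine ⟨b, by rw [hUc i]; exact hbU, ?_⟩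
      rw [← hbD, pow_succ (n := 2), Module.End.mul_apply]
  choose b hbU hbD using hb
  set B : T := ∑ i, b i with hB
  have hcB : (D ^ 2) c = (D ^ 3) B := by
    rw [← hμ, hB, map_sum, map_sum]
    exact Finset.sum_congr rfl fun i _ => hbD i
  have hED : ∀ y : T, (1 + D) (D y) = D ((1 + D) y) := by
    intro y
    simp only [LinearMap.add_apply, Module.End.one_apply, map_add]
  have hD3 : ∀ y : T, (D ^ 3) y = D (D (D y)) := by
    intro y
    rw [pow_succ, pow_succ, pow_one, Module.End.mul_apply, Module.End.mul_apply]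
  have hD2 : ∀ y : T, (D ^ 2) y = D (D y) := by
    intro y
    rw [pow_succ, pow_one, Module.End.mul_apply]
  apply hne
  rw [hcB, hD3, adj_D D τ hτ, hED, adj_D D τ hτ, hED, hED, adj_D D τ hτ, ← hD3, h3, map_zero, neg_zero,
    neg_zero, neg_zero]

end Cfsg.Agent.Lib.Helper34_S4504_N1
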