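import Mathlib

/-!
# Finite independent families of submodules: unique decomposition (helper57, for S4504)
-/

set_option autoImplicit false

namespace Cfsg.Agent.Lib.Helper57_SupIndep

variable {k : Type*} [Ring k] {T : Type*} [AddCommGroup T] [Module k T] {ι : Type*} [Fintype ι]

/-- An element of a finite supremum of submodules is a sum of components. -/
theorem exists_sum_of_mem_iSup (U : ι → Submodule k T) {m : T} (hm : m ∈ ⨆ i, U i) :
    ∃ u : ι → T, (∀ i, u i ∈ U i) ∧ ∑ i, u i = m := by
  classical
  have h1 : m ∈ ⨆ i ∈ (Finset.univ : Finset ι), U i := by simpa using hm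
  rw [Submodule.mem_iSup_finset_iff_exists_sum] at h1
  obtain ⟨μ, hμ⟩ := h1
  exact ⟨fun i => (μ i : T), fun i => (μ i).2, hμ⟩

/-- A sum of components lies in the supremum. -/
theorem sum_mem_iSup (U : ι → Submodule k T) (u : ι → T) (hu : ∀ i, u i ∈ U i) :
    ∑ i, u i ∈ ⨆ i, U i :=
  Submodule.sum_mem _ fun i _ => Submodule.mem_iSup_of_mem i (hu i)

/-- In an independent family, a vanishing sum of components has vanishing components. -/
theorem eq_zero_of_sum_eq_zero {U : ι → Submodule k T} (hind : iSupIndep U) (u : ι → T)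
    (hu : ∀ i, u i ∈ U i) (h : ∑ i, u i = 0) (i : ι) : u i = 0 := by
  classical
  have hdis := hind i
  rw [Submodule.disjoint_def] at hdis
  apply hdis (u i) (hu i)
  have h2 : u i = - ∑ j ∈ Finset.univ.erase i, u j := by
    rw [← Finset.add_sum_erase Finset.univ u (Finset.mem_univ i)] at h
    exact eq_neg_of_add_eq_zero_left h
  rw [h2]
  apply Submodule.neg_mem
  apply Submodule.sum_mem
  intro j hj
  have hji : j ≠ i := Finset.ne_of_mem_erase hj
  exact Submodule.mem_iSup_of_mem j (Submodule.mem_iSup_of_mem hji (hu j))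

/-- Uniqueness of the decomposition in an independent family. -/
theorem eq_of_sum_eq {U : ι → Submodule k T} (hind : iSupIndep U) (u u' : ι → T)
    (hu : ∀ i, u i ∈ U i) (hu' : ∀ i, u' i ∈ U i) (h : ∑ i, u i = ∑ i, u' i) : u = u' := by
  funext i
  have h0 := eq_zero_of_sum_eq_zero hind (fun i => u i - u' i)
    (fun i => Submodule.sub_mem _ (hu i) (hu' i))
    (by rw [Finset.sum_sub_distrib, h, sub_self]) i
  exact sub_eq_zero.mp h0

/-- If every `U i` is stable under `φ`, the components of `φ m` are the `φ (u i)`. -/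
theorem map_component {U : ι → Submodule k T} (hind : iSupIndep U) (φ : T →ₗ[k] T)
    (hφ : ∀ i, ∀ w ∈ U i, φ w ∈ U i) (u : ι → T) (hu : ∀ i, u i ∈ U i)
    (h : φ (∑ i, u i) = 0) (i : ι) : φ (u i) = 0 := by
  rw [map_sum] at h
  exact eq_zero_of_sum_eq_zero hind (fun i => φ (u i)) (fun i => hφ i _ (hu i)) h i

end Cfsg.Agent.Lib.Helper57_SupIndep
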