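/-
S4504 package PK-G1 (helper57 architect; proved by helper71): the weak Green correspondence for a Sylow subgroup
`P = ⟨x⟩` of order `p`: an indecomposable `kG`-module `W` with `(x - 1)^(p-1) W = 0` stays indecomposable on
`N_G(P)`.  Route: trace maps `Tr_N^G` on `End_k(W)` + Fitting's lemma; `P` acts freely on `Syl_p(G) \ {P}`.
-/
import Mathlib
import Cfsg.Agent.Lib.Helper57_ModDefs

set_option autoImplicit false
set_option linter.unusedSectionVars false
set_option linter.unusedVariables false

namespace Cfsg.Agent.Lib.Helper71_S4504_G1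

open Cfsg.Agent.Lib.Helper57_ModDefs

section orbits

/-- a permutation of prime order without fixed points on an invariant finite set: the set is a disjoint union of
orbits of length `p` -/
theorem sum_orbits {X : Type*} [DecidableEq X] {E : Type*} [AddCommMonoid E] (σ : Equiv.Perm X) (p : ℕ)
    (hp : p.Prime) (hσ : ∀ y, (σ ^ p) y = y) (F : X → E) :
    ∀ S : Finset X, (∀ y ∈ S, σ y ∈ S) → (∀ y ∈ S, σ y ≠ y) →
      ∃ R : Finset X, R ⊆ S ∧ ∑ y ∈ S, F y = ∑ r ∈ R, ∑ i ∈ Finset.range p, F ((σ ^ i) r) := by
  intro S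
  induction S using Finset.strongInduction with
  | H S ih =>
    intro hst hfree
    rcases S.eq_empty_or_nonempty with rfl | ⟨r, hr⟩
    · exact ⟨∅, Finset.Subset.refl _, by simp⟩
    · -- the orbit of `r`
      have hpow_mem : ∀ i : ℕ, (σ ^ i) r ∈ S := by
        intro i
        induction i with
        | zero => simpa using hr
        | succ i ihi =>
          rw [pow_succ', Equiv.Perm.mul_apply]
          exact hst _ ihi
      -- `σ ^ i` fixes `r` only for `p ∣ i`
      have hfix : ∀ i : ℕ, (σ ^ i) r = r → p ∣ i := by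
        intro i hi
        by_contra hnd
        have hcop : Nat.Coprime i p := (Nat.Coprime.symm ((Nat.Prime.coprime_iff_not_dvd hp).2 hnd))
        -- `σ r = r`
        have h1 : ∀ a b : ℕ, (σ ^ (i * a)) r = r ∧ (σ ^ (p * b)) r = r := by
          intro a b
          constructor
          · induction a with
            | zero => simp
            | succ a iha => rw [Nat.mul_succ, pow_add, Equiv.Perm.mul_apply, hi, iha]
          · induction b with
            | zero => simp
            | succ b ihb => rw [Nat.mul_succ, pow_add, Equiv.Perm.mul_apply, hσ, ihb]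
        -- Bezout over ℕ: `i * a = p * b + 1`
        obtain ⟨a, b, hab⟩ : ∃ a b : ℕ, i * a = p * b + 1 := by
          have hp1 : 1 < p := hp.one_lt
          obtain ⟨a, -, ha⟩ := Nat.exists_mul_mod_eq_one_of_coprime hcop hp1
          refine ⟨a, i * a / p, ?_⟩
          have := Nat.div_add_mod (i * a) p
          omega
        have h2 := (h1 a b).1
        rw [hab, pow_succ', Equiv.Perm.mul_apply, (h1 a b).2] at h2
        exact hfree r hr h2
      have hinj0 : ∀ i d : ℕ, i + d < p → (σ ^ i) r = (σ ^ (i + d)) r → d = 0 := by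
        intro i d hlt hij
        have h3 : (σ ^ d) r = r := by
          rw [pow_add, Equiv.Perm.mul_apply] at hij
          exact ((σ ^ i).injective hij).symm
        rcases hfix d h3 with ⟨c, rfl⟩
        rcases Nat.eq_zero_or_pos c with rfl | hc
        · simp
        · exfalso
          have : p ≤ p * c := Nat.le_mul_of_pos_right p hc
          omega
      have hinj : Set.InjOn (fun i : ℕ => (σ ^ i) r) (Finset.range p : Set ℕ) := by
        intro i hi j hj hij
        simp only [Finset.coe_range, Set.mem_Iio] at hi hj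
        simp only at hij
        rcases le_total i j with hle | hle
        · obtain ⟨d, rfl⟩ := Nat.exists_eq_add_of_le hle
          have := hinj0 i d hj hij
          omega
        · obtain ⟨d, rfl⟩ := Nat.exists_eq_add_of_le hle
          have := hinj0 j d hi hij.symm
          omega
      set O : Finset X := (Finset.range p).image (fun i : ℕ => (σ ^ i) r) with hO
      have hOS : O ⊆ S := by
        intro y hy
        obtain ⟨i, -, rfl⟩ := Finset.mem_image.1 hy
        exact hpow_mem i
      have hrO : r ∈ O := Finset.mem_image.2 ⟨0, Finset.mem_range.2 hp.pos, by simp⟩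
      have hOst : ∀ y, y ∈ O ↔ σ y ∈ O := by
        intro y
        constructor
        · intro hy
          obtain ⟨i, hi, rfl⟩ := Finset.mem_image.1 hy
          rw [Finset.mem_range] at hi
          by_cases hip : i + 1 < p
          · exact Finset.mem_image.2 ⟨i + 1, Finset.mem_range.2 hip, by
              simp only [pow_succ', Equiv.Perm.mul_apply]⟩
          · have : i + 1 = p := by omega
            refine Finset.mem_image.2 ⟨0, Finset.mem_range.2 hp.pos, ?_⟩
            have h4 : σ ((σ ^ i) r) = (σ ^ (i + 1)) r := by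
              simp only [pow_succ', Equiv.Perm.mul_apply]
            show (σ ^ 0) r = σ ((σ ^ i) r)
            rw [h4, this, hσ, pow_zero, Equiv.Perm.one_apply]
        · intro hy
          obtain ⟨i, hi, hiy⟩ := Finset.mem_image.1 hy
          rw [Finset.mem_range] at hi
          rcases Nat.eq_zero_or_pos i with rfl | hipos
          · -- `σ y = r = σ (σ^(p-1) r)`
            refine Finset.mem_image.2 ⟨p - 1, Finset.mem_range.2 (Nat.sub_lt hp.pos one_pos), ?_⟩
            apply σ.injective
            have h5 : σ ((σ ^ (p - 1)) r) = (σ ^ p) r := by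
              have : p = (p - 1) + 1 := (Nat.sub_add_cancel hp.pos).symm
              conv_rhs => rw [this, pow_succ', Equiv.Perm.mul_apply]
            show σ ((σ ^ (p - 1)) r) = σ y
            rw [h5, hσ, ← hiy]
            simp
          · refine Finset.mem_image.2 ⟨i - 1, Finset.mem_range.2 (by omega), ?_⟩
            apply σ.injective
            have h6 : σ ((σ ^ (i - 1)) r) = (σ ^ i) r := by
              have : i = (i - 1) + 1 := (Nat.sub_add_cancel hipos).symm
              conv_rhs => rw [this, pow_succ', Equiv.Perm.mul_apply]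
            show σ ((σ ^ (i - 1)) r) = σ y
            rw [h6, hiy]
      have hlt : S \ O ⊂ S := by
        refine Finset.ssubset_iff_subset_ne.2 ⟨Finset.sdiff_subset, ?_⟩
        intro h
        have : r ∈ S \ O := by rw [h]; exact hr
        exact (Finset.mem_sdiff.1 this).2 hrO
      obtain ⟨R', hR'S, hR'⟩ := ih (S \ O) hlt
        (fun y hy => by
          rw [Finset.mem_sdiff] at hy ⊢
          exact ⟨hst y hy.1, fun h => hy.2 ((hOst y).2 h)⟩)
        (fun y hy => hfree y (Finset.mem_sdiff.1 hy).1)
      have hrR' : r ∉ R' := fun h => (Finset.mem_sdiff.1 (hR'S h)).2 hrO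
      refine ⟨insert r R', ?_, ?_⟩
      · intro y hy
        rcases Finset.mem_insert.1 hy with rfl | hy
        · exact hr
        · exact (Finset.mem_sdiff.1 (hR'S hy)).1
      · rw [Finset.sum_insert hrR', ← hR', ← Finset.sum_sdiff hOS, add_comm]
        congr 1
        rw [hO, Finset.sum_image hinj]

end orbits

section poly

/-- in characteristic `p`: `1 + a + ... + a^(p-1) = (a - 1)^(p-1)` -/
theorem geom_sum_eq_pow {k : Type*} [Field k] {p : ℕ} [Fact p.Prime] [CharP k p]
    {A : Type*} [Ring A] [Algebra k A] (a : A) :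
    ∑ i ∈ Finset.range p, a ^ i = (a - 1) ^ (p - 1) := by
  have hp : p.Prime := Fact.out
  have hpoly : ∑ i ∈ Finset.range p, (Polynomial.X : Polynomial k) ^ i
      = (Polynomial.X - 1) ^ (p - 1) := by
    have h1 : (∑ i ∈ Finset.range p, (Polynomial.X : Polynomial k) ^ i) * (Polynomial.X - 1)
        = Polynomial.X ^ p - 1 := geom_sum_mul _ _
    have h2 : ((Polynomial.X : Polynomial k) - 1) ^ (p - 1) * (Polynomial.X - 1) = Polynomial.X ^ p - 1 := by
      rw [← pow_succ, Nat.sub_add_cancel hp.pos, sub_pow_char, one_pow]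
    have hne : (Polynomial.X : Polynomial k) - 1 ≠ 0 := Polynomial.X_sub_C_ne_zero (1 : k)
    exact mul_right_cancel₀ hne (h1.trans h2.symm)
  have := congrArg (Polynomial.aeval a) hpoly
  simpa using this

end poly

section local'

variable {k : Type*} [Field k] {G : Type*} [Group G] {V : Type*} [AddCommGroup V] [Module k V]
  [FiniteDimensional k V] (r : Representation k G V)

/-- Fitting: an endomorphism of an indecomposable module commuting with the group is invertible or nilpotent -/
theorem fitting (hind : ∀ A B : Submodule k V, InvOn r Set.univ A → InvOn r Set.univ B → IsCompl A B →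
      A = ⊥ ∨ B = ⊥) (φ : Module.End k V) (hφ : ∀ g, φ * r g = r g * φ) :
    IsUnit φ ∨ IsNilpotent φ := by
  obtain ⟨n, hn, hn1⟩ := ((LinearMap.eventually_isCompl_ker_pow_range_pow φ).and
    (Filter.eventually_ge_atTop 1)).exists
  have hcomm : ∀ g, φ ^ n * r g = r g * φ ^ n := fun g => ((Commute.pow_left (hφ g) n)).eq
  have hA : InvOn r Set.univ (LinearMap.ker (φ ^ n)) := by
    intro g _ a ha
    rw [LinearMap.mem_ker] at ha ⊢
    have := congrArg (fun f : Module.End k V => f a) (hcomm g)
    simp only [Module.End.mul_apply] at this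
    rw [this, ha, map_zero]
  have hB : InvOn r Set.univ (LinearMap.range (φ ^ n)) := by
    rintro g _ _ ⟨b, rfl⟩
    have := congrArg (fun f : Module.End k V => f b) (hcomm g)
    simp only [Module.End.mul_apply] at this
    exact ⟨r g b, this⟩
  rcases hind _ _ hA hB hn with h | h
  · left
    rw [LinearMap.isUnit_iff_ker_eq_bot, eq_bot_iff]
    intro v hv
    rw [← h, LinearMap.mem_ker]
    rw [LinearMap.mem_ker] at hv
    obtain ⟨m, rfl⟩ : ∃ m, n = m + 1 := ⟨n - 1, by omega⟩
    rw [pow_succ, Module.End.mul_apply, hv, map_zero]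
  · right
    refine ⟨n, ?_⟩
    rw [LinearMap.range_eq_bot] at h
    exact h

/-- two commuting-with-`G` endomorphisms with sum `1`: one of them is invertible -/
theorem unit_of_add_eq_one (hind : ∀ A B : Submodule k V, InvOn r Set.univ A → InvOn r Set.univ B → IsCompl A B →
      A = ⊥ ∨ B = ⊥) (a b : Module.End k V) (ha : ∀ g, a * r g = r g * a) (hab : a + b = 1) :
    IsUnit a ∨ IsUnit b := by
  rcases fitting r hind a ha with h | h
  · exact Or.inl h
  · right
    have : b = 1 - a := by rw [← hab]; abel
    rw [this]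
    exact h.isUnit_one_sub

end local'

section trace

variable {k : Type*} [Field k] {G : Type*} [Group G] {V : Type*} [AddCommGroup V] [Module k V]
  (r : Representation k G V)

/-- conjugation of an endomorphism by a group element -/
def cj (g : G) (e : Module.End k V) : Module.End k V := r g * e * r g⁻¹

theorem cj_mul (g h : G) (e : Module.End k V) : cj r (g * h) e = cj r g (cj r h e) := by
  unfold cj
  rw [map_mul, mul_inv_rev, map_mul]
  simp only [mul_assoc]

theorem cj_add (g : G) (e e' : Module.End k V) : cj r g (e + e') = cj r g e + cj r g e' := by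
  unfold cj
  rw [mul_add, add_mul]

theorem cj_sum {ι : Type*} (g : G) (s : Finset ι) (f : ι → Module.End k V) :
    cj r g (∑ i ∈ s, f i) = ∑ i ∈ s, cj r g (f i) := by
  unfold cj
  rw [Finset.mul_sum, Finset.sum_mul]

theorem cj_one_end (g : G) : cj r g 1 = 1 := by
  unfold cj
  rw [mul_one, ← map_mul, mul_inv_cancel, map_one]

theorem rg_inv_mul (g : G) : r g⁻¹ * r g = 1 := by rw [← map_mul, inv_mul_cancel, map_one]

theorem rg_mul_inv (g : G) : r g * r g⁻¹ = 1 := by rw [← map_mul, mul_inv_cancel, map_one]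

/-- `cj g e = e` iff `e` commutes with `r g` -/
theorem cj_eq_self_iff (g : G) (e : Module.End k V) : cj r g e = e ↔ e * r g = r g * e := by
  unfold cj
  constructor
  · intro h
    calc e * r g = r g * e * r g⁻¹ * r g := by rw [h]
      _ = r g * e * (r g⁻¹ * r g) := by simp only [mul_assoc]
      _ = r g * e := by rw [rg_inv_mul, mul_one]
  · intro h
    rw [← h, mul_assoc, rg_mul_inv, mul_one]

/-- an element fixed by all conjugations commutes with the inverse of a unit fixed by them -/
theorem comm_inv_of_comm (g : G) (u ui : Module.End k V) (hu : u * r g = r g * u) (h1 : u * ui = 1)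
    (h2 : ui * u = 1) : ui * r g = r g * ui := by
  calc ui * r g = ui * r g * (u * ui) := by rw [h1, mul_one]
    _ = ui * (r g * u) * ui := by simp only [mul_assoc]
    _ = ui * (u * r g) * ui := by rw [hu]
    _ = (ui * u) * r g * ui := by simp only [mul_assoc]
    _ = r g * ui := by rw [h2, one_mul]

variable {p : ℕ} [Fact p.Prime] [Finite G]

/-- the key step: `cj (g * gQ Q) e = cj (gQ (g • Q)) e` -/
theorem cj_key (P₀ : Sylow p G) (gQ : Sylow p G → G) (hgQ : ∀ Q, gQ Q • P₀ = Q) (e : Module.End k V)
    (he : ∀ n ∈ Subgroup.normalizer ((P₀ : Subgroup G) : Set G), e * r n = r n * e) (g : G) (Q : Sylow p G) :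
    cj r (g * gQ Q) e = cj r (gQ (g • Q)) e := by
  set n : G := (gQ (g • Q))⁻¹ * (g * gQ Q) with hn
  have hnP : n • P₀ = P₀ := by
    rw [hn, mul_smul, mul_smul, hgQ Q, inv_smul_eq_iff, hgQ (g • Q)]
  have hnN : n ∈ Subgroup.normalizer ((P₀ : Subgroup G) : Set G) := Sylow.smul_eq_iff_mem_normalizer.1 hnP
  have h1 : g * gQ Q = gQ (g • Q) * n := by rw [hn]; group
  rw [h1, cj_mul, (cj_eq_self_iff r n e).2 (he n hnN)]

/-- the trace `∑_Q cj (gQ Q) e` is fixed by all conjugations -/
theorem tr_fixed [Fintype (Sylow p G)] (P₀ : Sylow p G) (gQ : Sylow p G → G) (hgQ : ∀ Q, gQ Q • P₀ = Q)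
    (e : Module.End k V)
    (he : ∀ n ∈ Subgroup.normalizer ((P₀ : Subgroup G) : Set G), e * r n = r n * e) (g : G) :
    (∑ Q : Sylow p G, cj r (gQ Q) e) * r g = r g * ∑ Q : Sylow p G, cj r (gQ Q) e := by
  rw [← cj_eq_self_iff, cj_sum]
  have h1 : ∀ Q : Sylow p G, cj r g (cj r (gQ Q) e) = cj r (gQ (g • Q)) e := fun Q => by
    rw [← cj_mul, cj_key r P₀ gQ hgQ e he]
  simp only [h1]
  exact Equiv.sum_comp (MulAction.toPerm g : Equiv.Perm (Sylow p G)) (fun Q => cj r (gQ Q) e)

/-- decomposition of the trace along the orbits of `x` on the Sylow subgroups -/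
theorem tr_decomp [Fintype (Sylow p G)] [DecidableEq (Sylow p G)] (P₀ : Sylow p G) (x : G)
    (hxP : (P₀ : Subgroup G) = Subgroup.zpowers x) (hx : orderOf x = p)
    (gQ : Sylow p G → G) (hgQ : ∀ Q, gQ Q • P₀ = Q) (e : Module.End k V)
    (he : ∀ n ∈ Subgroup.normalizer ((P₀ : Subgroup G) : Set G), e * r n = r n * e) :
    ∃ c : Module.End k V, ∑ Q : Sylow p G, cj r (gQ Q) e = e + ∑ i ∈ Finset.range p, cj r (x ^ i) c := by
  classical
  have hp : p.Prime := Fact.out
  have hxmem : x ∈ (P₀ : Subgroup G) := by rw [hxP]; exact Subgroup.mem_zpowers x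
  set σ : Equiv.Perm (Sylow p G) := MulAction.toPerm x with hσ
  have hσi : ∀ (i : ℕ) (Q : Sylow p G), (σ ^ i) Q = x ^ i • Q := by
    intro i Q
    induction i with
    | zero => simp
    | succ i ih => rw [pow_succ', Equiv.Perm.mul_apply, ih, hσ, MulAction.toPerm_apply, pow_succ', mul_smul]
  have hxp : x ^ p = 1 := by
    have := pow_orderOf_eq_one x
    rwa [hx] at this
  have hσp : ∀ Q, (σ ^ p) Q = Q := by
    intro Q
    rw [hσi, hxp, one_smul]
  have hfixP : σ P₀ = P₀ := by
    rw [hσ, MulAction.toPerm_apply, Sylow.smul_eq_iff_mem_normalizer]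
    exact Subgroup.le_normalizer hxmem
  have hfree : ∀ Q ∈ (Finset.univ.erase P₀ : Finset (Sylow p G)), σ Q ≠ Q := by
    intro Q hQ hfix
    apply (Finset.mem_erase.1 hQ).1
    rw [hσ, MulAction.toPerm_apply, Sylow.smul_eq_iff_mem_normalizer] at hfix
    have hpg : IsPGroup p (P₀ : Subgroup G) := P₀.2
    have hle : (P₀ : Subgroup G) ≤ Subgroup.normalizer (Q : Set G) := by
      rw [hxP, Subgroup.zpowers_le]
      exact hfix
    have h2 : (P₀ : Subgroup G) ≤ (Q : Subgroup G) := by
      have := hpg.inf_normalizer_sylow Q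
      rw [inf_eq_left.2 hle] at this
      exact inf_eq_left.1 this.symm
    exact (Sylow.ext (P₀.3 Q.2 h2)).symm ▸ rfl
  have hst : ∀ Q ∈ (Finset.univ.erase P₀ : Finset (Sylow p G)), σ Q ∈ (Finset.univ.erase P₀ : Finset (Sylow p G)) := by
    intro Q hQ
    refine Finset.mem_erase.2 ⟨fun h => (Finset.mem_erase.1 hQ).1 ?_, Finset.mem_univ _⟩
    apply σ.injective
    rw [h, hfixP]
  obtain ⟨R, -, hR⟩ := sum_orbits σ p hp hσp (fun Q => cj r (gQ Q) e) _ hst hfree
  refine ⟨∑ Q ∈ R, cj r (gQ Q) e, ?_⟩
  have hP₀ : cj r (gQ P₀) e = e := by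
    rw [cj_eq_self_iff]
    exact he _ (Sylow.smul_eq_iff_mem_normalizer.1 (hgQ P₀))
  rw [← Finset.add_sum_erase Finset.univ _ (Finset.mem_univ P₀), hP₀, hR, Finset.sum_comm]
  congr 1
  refine Finset.sum_congr rfl fun i _ => ?_
  rw [cj_sum]
  refine Finset.sum_congr rfl fun Q _ => ?_
  rw [hσi, ← cj_mul, cj_key r P₀ gQ hgQ e he]

end trace

section core

variable {k : Type*} [Field k] {G : Type*} [Group G] {V : Type*} [AddCommGroup V] [Module k V]
  (r : Representation k G V)

/-- the projection onto `A` along `B` commutes with an operator stabilising both -/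
theorem proj_comm (A B : Submodule k V) (hAB : IsCompl A B) (T : Module.End k V)
    (hA : ∀ a ∈ A, T a ∈ A) (hB : ∀ b ∈ B, T b ∈ B) :
    A.projection B hAB * T = T * A.projection B hAB := by
  apply LinearMap.ext
  intro v
  rw [Module.End.mul_apply, Module.End.mul_apply]
  have hv := Submodule.projection_add_projection_eq_self hAB v
  have h1 : T v = T (A.projection B hAB v) + T (B.projection A hAB.symm v) := by
    rw [← map_add, hv]
  rw [h1, map_add,
    Submodule.projection_apply_of_mem_left hAB (hA _ (Submodule.projection_apply_mem hAB v)),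
    Submodule.projection_apply_of_mem_right hAB (hB _ (Submodule.projection_apply_mem hAB.symm v)),
    add_zero]

/-- a nonzero subspace stable under a nilpotent operator contains a nonzero vector killed by it -/
theorem exists_ker_of_nilpotent (T : Module.End k V) (n : ℕ) (hT : T ^ n = 0) (B : Submodule k V)
    (hB : ∀ b ∈ B, T b ∈ B) (hne : B ≠ ⊥) : ∃ v ∈ B, v ≠ 0 ∧ T v = 0 := by
  classical
  obtain ⟨b, hbB, hb0⟩ := (Submodule.ne_bot_iff B).1 hne
  have hex : ∃ j : ℕ, (T ^ j) b = 0 := ⟨n, by rw [hT]; rfl⟩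
  set j := Nat.find hex with hj
  have hj0 : j ≠ 0 := by
    intro h0
    have := Nat.find_spec hex
    rw [← hj, h0, pow_zero] at this
    exact hb0 this
  obtain ⟨m, hm⟩ : ∃ m, j = m + 1 := ⟨j - 1, by omega⟩
  have hpowB : ∀ i : ℕ, (T ^ i) b ∈ B := by
    intro i
    induction i with
    | zero => simpa using hbB
    | succ i ih => rw [pow_succ', Module.End.mul_apply]; exact hB _ ih
  refine ⟨(T ^ m) b, hpowB m, ?_, ?_⟩
  · intro h
    have : j ≤ m := Nat.find_min' hex h
    omega
  · have := Nat.find_spec hex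
    rw [← hj, hm, pow_succ', Module.End.mul_apply] at this
    exact this

variable {p : ℕ} [Fact p.Prime] [CharP k p] [Finite G]

/-- one half of the weak Green correspondence: if the trace of the projection onto `A` is invertible, then `B = 0` -/
theorem half [Fintype (Sylow p G)] (P₀ : Sylow p G) (x : G)
    (hxP : (P₀ : Subgroup G) = Subgroup.zpowers x) (hx : orderOf x = p)
    (gQ : Sylow p G → G) (hgQ : ∀ Q, gQ Q • P₀ = Q)
    (hnil : (r x - 1) ^ (p - 1) = 0)
    (A B : Submodule k V)
    (hA : InvOn r (Subgroup.normalizer ((P₀ : Subgroup G) : Set G) : Set G) A)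
    (hB : InvOn r (Subgroup.normalizer ((P₀ : Subgroup G) : Set G) : Set G) B) (hAB : IsCompl A B)
    (hu : IsUnit (∑ Q : Sylow p G, cj r (gQ Q) (A.projection B hAB))) : B = ⊥ := by
  classical
  have hp : p.Prime := Fact.out
  set eA : Module.End k V := A.projection B hAB with heA
  set eB : Module.End k V := B.projection A hAB.symm with heB
  have hcommA : ∀ n ∈ Subgroup.normalizer ((P₀ : Subgroup G) : Set G), eA * r n = r n * eA :=
    fun n hn => proj_comm A B hAB (r n) (fun a ha => hA n hn a ha) (fun b hb => hB n hn b hb)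
  have hcommB : ∀ n ∈ Subgroup.normalizer ((P₀ : Subgroup G) : Set G), eB * r n = r n * eB :=
    fun n hn => proj_comm B A hAB.symm (r n) (fun b hb => hB n hn b hb) (fun a ha => hA n hn a ha)
  have hxmem : x ∈ (P₀ : Subgroup G) := by rw [hxP]; exact Subgroup.mem_zpowers x
  have hxiN : ∀ i : ℕ, x ^ i ∈ Subgroup.normalizer ((P₀ : Subgroup G) : Set G) :=
    fun i => Subgroup.le_normalizer (Subgroup.pow_mem _ hxmem i)
  have hxiN' : ∀ i : ℕ, (x ^ i)⁻¹ ∈ Subgroup.normalizer ((P₀ : Subgroup G) : Set G) :=
    fun i => Subgroup.inv_mem _ (hxiN i)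
  obtain ⟨c, hc⟩ := tr_decomp r P₀ x hxP hx gQ hgQ eA hcommA
  obtain ⟨⟨u, ui, h1, h2⟩, hu'⟩ := hu
  have hu'' : u = ∑ Q : Sylow p G, cj r (gQ Q) eA := hu'
  have hufix : ∀ g, u * r g = r g * u := fun g => by
    rw [hu'']; exact tr_fixed r P₀ gQ hgQ eA hcommA g
  have huifix : ∀ g, ui * r g = r g * ui := fun g => comm_inv_of_comm r g u ui (hufix g) h1 h2
  have hBA : eB * eA = 0 := by
    apply LinearMap.ext
    intro v
    rw [Module.End.mul_apply, LinearMap.zero_apply]
    exact Submodule.projection_apply_of_mem_right hAB.symm (Submodule.projection_apply_mem hAB v)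
  set d : Module.End k V := eB * c * ui with hd
  have heBsum : eB = ∑ i ∈ Finset.range p, cj r (x ^ i) d := by
    have h3 : ∀ i : ℕ, eB * cj r (x ^ i) c * ui = cj r (x ^ i) d := by
      intro i
      unfold cj
      rw [hd]
      have e1 := hcommB _ (hxiN i)
      have e2 := huifix (x ^ i)⁻¹
      calc eB * (r (x ^ i) * c * r (x ^ i)⁻¹) * ui
          = (eB * r (x ^ i)) * c * (r (x ^ i)⁻¹ * ui) := by simp only [mul_assoc]
        _ = (r (x ^ i) * eB) * c * (ui * r (x ^ i)⁻¹) := by rw [e1, e2]
        _ = r (x ^ i) * (eB * c * ui) * r (x ^ i)⁻¹ := by simp only [mul_assoc]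
    calc eB = eB * (u * ui) := by rw [h1, mul_one]
      _ = eB * u * ui := by rw [mul_assoc]
      _ = (eB * eA + ∑ i ∈ Finset.range p, eB * cj r (x ^ i) c) * ui := by
          rw [hu'', hc, mul_add, Finset.mul_sum]
      _ = ∑ i ∈ Finset.range p, eB * cj r (x ^ i) c * ui := by
          rw [hBA, zero_add, Finset.sum_mul]
      _ = ∑ i ∈ Finset.range p, cj r (x ^ i) d := Finset.sum_congr rfl fun i _ => h3 i
  by_contra hne
  have hT : ∀ b ∈ B, (r x - 1) b ∈ B := by
    intro b hb
    rw [LinearMap.sub_apply, Module.End.one_apply]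
    exact B.sub_mem (hB x (by simpa using hxiN 1) b hb) hb
  obtain ⟨v, hvB, hv0, hv⟩ := exists_ker_of_nilpotent (r x - 1) (p - 1) hnil B hT hne
  have hxv : r x v = v := by
    rw [LinearMap.sub_apply, Module.End.one_apply, sub_eq_zero] at hv
    exact hv
  have hxiv : ∀ i : ℕ, r (x ^ i)⁻¹ v = v := by
    intro i
    have h5 : r (x ^ i) v = v := by
      induction i with
      | zero => simp
      | succ i ih => rw [pow_succ, map_mul, Module.End.mul_apply, hxv, ih]
    calc r (x ^ i)⁻¹ v = r (x ^ i)⁻¹ (r (x ^ i) v) := by rw [h5]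
      _ = (r (x ^ i)⁻¹ * r (x ^ i)) v := rfl
      _ = v := by rw [rg_inv_mul]; rfl
  apply hv0
  have h6 : v = eB v := (Submodule.projection_apply_of_mem_left hAB.symm hvB).symm
  have h7 : eB v = (∑ i ∈ Finset.range p, (r x) ^ i) (d v) := by
    rw [heBsum, LinearMap.sum_apply, LinearMap.sum_apply]
    refine Finset.sum_congr rfl fun i _ => ?_
    unfold cj
    rw [Module.End.mul_apply, Module.End.mul_apply, hxiv, map_pow]
  rw [h6, h7, geom_sum_eq_pow (k := k) (p := p), hnil, LinearMap.zero_apply]

/-- `⟨x⟩` is a Sylow `p`-subgroup -/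
theorem exists_sylow (x : G) (hx : orderOf x = p) (hsyl : ¬ p ^ 2 ∣ Nat.card G) :
    ∃ P₀ : Sylow p G, (P₀ : Subgroup G) = Subgroup.zpowers x := by
  have hp : p.Prime := Fact.out
  have hn0 : Nat.card G ≠ 0 := Nat.card_pos.ne'
  have hdvd : p ∣ Nat.card G := by
    rw [← hx]; exact orderOf_dvd_natCard x
  have hfac : (Nat.card G).factorization p = 1 := by
    have h1 : 1 ≤ (Nat.card G).factorization p :=
      (hp.pow_dvd_iff_le_factorization hn0).1 (by simpa using hdvd)
    have h2 : ¬ 2 ≤ (Nat.card G).factorization p := fun h =>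
      hsyl ((hp.pow_dvd_iff_le_factorization hn0).2 h)
    omega
  refine ⟨Sylow.ofCard (Subgroup.zpowers x) ?_, Sylow.coe_ofCard _ _⟩
  rw [Nat.card_zpowers, hx, hfac, pow_one]

/-- **weak Green correspondence**, abstract form -/
theorem core [FiniteDimensional k V] (x : G) (hx : orderOf x = p) (hsyl : ¬ p ^ 2 ∣ Nat.card G)
    (hind : ∀ A B : Submodule k V, InvOn r Set.univ A → InvOn r Set.univ B → IsCompl A B → A = ⊥ ∨ B = ⊥)
    (hnil : (r x - 1) ^ (p - 1) = 0) (A B : Submodule k V)
    (hA : InvOn r (Subgroup.normalizer ((Subgroup.zpowers x : Subgroup G) : Set G) : Set G) A)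
    (hB : InvOn r (Subgroup.normalizer ((Subgroup.zpowers x : Subgroup G) : Set G) : Set G) B)
    (hAB : IsCompl A B) : A = ⊥ ∨ B = ⊥ := by
  classical
  let _ : Fintype (Sylow p G) := Fintype.ofFinite _
  obtain ⟨P₀, hP₀⟩ := exists_sylow (p := p) x hx hsyl
  rw [← hP₀] at hA hB
  have hex : ∀ Q : Sylow p G, ∃ g : G, g • P₀ = Q := fun Q => MulAction.exists_smul_eq G P₀ Q
  choose gQ hgQ using hex
  set eA : Module.End k V := A.projection B hAB with heA
  set eB : Module.End k V := B.projection A hAB.symm with heB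
  have hcommA : ∀ n ∈ Subgroup.normalizer ((P₀ : Subgroup G) : Set G), eA * r n = r n * eA :=
    fun n hn => proj_comm A B hAB (r n) (fun a ha => hA n hn a ha) (fun b hb => hB n hn b hb)
  have hsum : (∑ Q : Sylow p G, cj r (gQ Q) eA) + ∑ Q : Sylow p G, cj r (gQ Q) eB = 1 := by
    rw [← Finset.sum_add_distrib]
    have h1 : ∀ Q : Sylow p G, cj r (gQ Q) eA + cj r (gQ Q) eB = 1 := by
      intro Q
      rw [← cj_add, heA, heB, Submodule.projection_add_projection_eq_id hAB]
      exact cj_one_end r (gQ Q)
    simp only [h1]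
    rw [Finset.sum_const, Finset.card_univ, ← Nat.cast_smul_eq_nsmul k]
    have hmod : (Fintype.card (Sylow p G) : k) = 1 := by
      have h2 := card_sylow_modEq_one p G
      rw [Nat.card_eq_fintype_card] at h2
      have := (CharP.natCast_eq_natCast k p).2 h2
      rwa [Nat.cast_one] at this
    rw [hmod, one_smul]
  rcases unit_of_add_eq_one r hind _ _ (tr_fixed r P₀ gQ hgQ eA hcommA) hsum with hu | hu
  · exact Or.inr (half r P₀ x hP₀ hx gQ hgQ hnil A B hA hB hAB hu)
  · exact Or.inl (half r P₀ x hP₀ hx gQ hgQ hnil B A hB hA hAB.symm hu)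

end core

section final

variable {k : Type*} [Field k] {G : Type*} [Group G] {M : Type*} [AddCommGroup M] [Module k M]

/-- the restriction of a representation to an invariant subspace -/
def resRep (ρ : Representation k G M) (W : Submodule k M) (hW : InvOn ρ Set.univ W) : Representation k G W where
  toFun g := (ρ g).restrict (fun w hw => hW g (Set.mem_univ g) w hw)
  map_one' := by
    apply LinearMap.ext
    intro w
    apply Subtype.ext
    simp
  map_mul' g h := by
    apply LinearMap.ext
    intro w
    apply Subtype.ext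
    simp

theorem resRep_apply (ρ : Representation k G M) (W : Submodule k M) (hW : InvOn ρ Set.univ W) (g : G) (w : W) :
    ((resRep ρ W hW g w : W) : M) = ρ g (w : M) := rfl

/-- PK-G1: the weak Green correspondence for a Sylow subgroup of order `p` -/
theorem g1 {k : Type*} [Field k] {p : ℕ} [Fact p.Prime] [CharP k p] {G : Type*} [Group G]
    [Finite G] {M : Type*} [AddCommGroup M] [Module k M] [FiniteDimensional k M]
    (ρ : Representation k G M) (x : G) (hx : orderOf x = p) (hsyl : ¬ p ^ 2 ∣ Nat.card G)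
    (W : Submodule k M) (hW : IndecOn ρ Set.univ W)
    (hnil : ∀ w ∈ W, ((ρ x - 1) ^ (p - 1)) w = 0) :
    IndecOn ρ (Subgroup.normalizer ((Subgroup.zpowers x : Subgroup G) : Set G) : Set G) W := by
  classical
  obtain ⟨hW0, hWinv, hWind⟩ := hW
  refine ⟨hW0, fun g _ w hw => hWinv g (Set.mem_univ g) w hw, ?_⟩
  intro W₁ W₂ h₁ h₂ hsup hinf
  set r : Representation k G W := resRep ρ W hWinv with hr
  have hle₁ : W₁ ≤ W := hsup ▸ le_sup_left
  have hle₂ : W₂ ≤ W := hsup ▸ le_sup_right
  -- transport to submodules of `W`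
  set A : Submodule k W := W₁.comap W.subtype with hAdef
  set B : Submodule k W := W₂.comap W.subtype with hBdef
  have hmapA : A.map W.subtype = W₁ := by
    rw [hAdef, Submodule.map_comap_eq, Submodule.range_subtype, inf_eq_right.2 hle₁]
  have hmapB : B.map W.subtype = W₂ := by
    rw [hBdef, Submodule.map_comap_eq, Submodule.range_subtype, inf_eq_right.2 hle₂]
  have hAB : IsCompl A B := by
    constructor
    · rw [disjoint_iff, eq_bot_iff]
      rintro ⟨w, hw⟩ ⟨h1, h2⟩
      have : w ∈ W₁ ⊓ W₂ := ⟨h1, h2⟩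
      rw [hinf, Submodule.mem_bot] at this
      exact (Submodule.mem_bot k).2 (Subtype.ext this)
    · rw [codisjoint_iff, eq_top_iff]
      rintro ⟨w, hw⟩ _
      have hw' : w ∈ W₁ ⊔ W₂ := hsup ▸ hw
      obtain ⟨a, ha, b, hb, rfl⟩ := Submodule.mem_sup.1 hw'
      exact Submodule.mem_sup.2 ⟨⟨a, hle₁ ha⟩, ha, ⟨b, hle₂ hb⟩, hb, rfl⟩
  have hInvA : InvOn r (Subgroup.normalizer ((Subgroup.zpowers x : Subgroup G) : Set G) : Set G) A := by
    intro g hg a ha
    exact h₁ g hg _ ha
  have hInvB : InvOn r (Subgroup.normalizer ((Subgroup.zpowers x : Subgroup G) : Set G) : Set G) B := by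
    intro g hg b hb
    exact h₂ g hg _ hb
  have hind : ∀ A' B' : Submodule k W, InvOn r Set.univ A' → InvOn r Set.univ B' → IsCompl A' B' →
      A' = ⊥ ∨ B' = ⊥ := by
    intro A' B' hA' hB' hc
    have e1 : InvOn ρ Set.univ (A'.map W.subtype) := by
      rintro g hg _ ⟨a, ha, rfl⟩
      exact ⟨r g a, hA' g hg a ha, rfl⟩
    have e2 : InvOn ρ Set.univ (B'.map W.subtype) := by
      rintro g hg _ ⟨b, hb, rfl⟩
      exact ⟨r g b, hB' g hg b hb, rfl⟩
    have e3 : A'.map W.subtype ⊔ B'.map W.subtype = W := by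
      rw [← Submodule.map_sup, hc.sup_eq_top, Submodule.map_top, Submodule.range_subtype]
    have e4 : A'.map W.subtype ⊓ B'.map W.subtype = ⊥ := by
      rw [← Submodule.map_inf _ W.injective_subtype, hc.inf_eq_bot, Submodule.map_bot]
    rcases hWind _ _ e1 e2 e3 e4 with h | h
    · left
      exact Submodule.map_injective_of_injective W.injective_subtype (h.trans (Submodule.map_bot _).symm)
    · right
      exact Submodule.map_injective_of_injective W.injective_subtype (h.trans (Submodule.map_bot _).symm)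
  have hnil' : (r x - 1) ^ (p - 1) = 0 := by
    apply LinearMap.ext
    intro w
    apply Subtype.ext
    have hpow : ∀ (n : ℕ) (w : W), ((((r x - 1) ^ n) w : W) : M) = ((ρ x - 1) ^ n) (w : M) := by
      intro n
      induction n with
      | zero => intro w; simp
      | succ n ih =>
        intro w
        rw [pow_succ, Module.End.mul_apply, ih, pow_succ, Module.End.mul_apply]
        rfl
    rw [hpow, hnil _ w.2]
    rfl
  rcases core r x hx hsyl hind hnil' A B hInvA hInvB hAB with h | h
  · left
    rw [← hmapA, h, Submodule.map_bot]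
  · right
    rw [← hmapB, h, Submodule.map_bot]

end final

end Cfsg.Agent.Lib.Helper71_S4504_G1
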