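import Mathlib
import Cfsg.Prelude.Def_Characters
import Cfsg.Agent.Lib.Helper57_ModDefs

/-!
# S4504 package PK-G2 (helper57's market): uniserial modules

An indecomposable module of `⟨x⟩ ⋊ ⟨h⟩` (`x` of order `p`, `h ^ f` trivial, `f ∣ p - 1`) over a field
of characteristic `p` is a single Jordan block of `x`.

Proof: `h` is diagonalisable with eigenvalues in the prime field; pick an `h`-eigenvector `u` outside
the kernel of `(x-1)^b` (`b + 1` the nilpotency index); the cyclic submodule `k[x] u` is stable, has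
an explicit `x`-equivariant retraction (dual functional), which is averaged over `⟨h⟩`.
-/

set_option autoImplicit false

namespace Cfsg.Agent.Lib.Helper73_S4504_G2

open Module

variable {k : Type*} [Field k] {V : Type*} [AddCommGroup V] [Module k V]

section eigen

variable {p : ℕ} [Fact p.Prime] [CharP k p]

/-- the scalar in `k` of a unit of `ZMod p` -/
noncomputable def sc (k : Type*) [Field k] {p : ℕ} [Fact p.Prime] [CharP k p] (d : (ZMod p)ˣ) : k :=
  ZMod.castHom (dvd_refl p) k (d : ZMod p)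

lemma sc_pow_card (d : (ZMod p)ˣ) : sc k d ^ (p - 1) = 1 := by
  unfold sc
  rw [← map_pow, ← Units.val_pow_eq_pow_val, ZMod.units_pow_card_sub_one_eq_one, Units.val_one,
    map_one]

lemma sum_sc_pow (j : ℕ) (hj : j < p - 1) :
    ∑ d : (ZMod p)ˣ, sc k d ^ j = if j = 0 then -1 else 0 := by
  classical
  have h := FiniteField.sum_pow_units (ZMod p) j
  rw [ZMod.card p] at h
  have h2 : (∑ d : (ZMod p)ˣ, sc k d ^ j) =
      ZMod.castHom (dvd_refl p) k (∑ d : (ZMod p)ˣ, ((d : ZMod p) ^ j)) := by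
    rw [map_sum]
    refine Finset.sum_congr rfl fun d _ => ?_
    unfold sc
    rw [map_pow]
  rw [h2, h]
  by_cases hj0 : j = 0
  · subst hj0
    simp
  · have : ¬ p - 1 ∣ j := fun hd => hj0 (Nat.eq_zero_of_dvd_of_lt hd hj)
    rw [if_neg this, if_neg hj0, map_zero]

/-- the (unnormalised) eigenprojections of an endomorphism with `H ^ (p - 1) = 1` -/
noncomputable def E (H : End k V) (d : (ZMod p)ˣ) : End k V :=
  - ∑ j ∈ Finset.range (p - 1), (sc k d ^ j) • H ^ j

lemma sum_E (H : End k V) : ∑ d : (ZMod p)ˣ, E (p := p) H d = 1 := by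
  unfold E
  rw [Finset.sum_neg_distrib, Finset.sum_comm]
  have h1 : ∀ j ∈ Finset.range (p - 1), ∑ d : (ZMod p)ˣ, (sc k d ^ j) • H ^ j =
      (if j = 0 then (-1 : k) else 0) • H ^ j := by
    intro j hj
    rw [← Finset.sum_smul, sum_sc_pow j (Finset.mem_range.1 hj)]
  rw [Finset.sum_congr rfl h1]
  have hp : 0 < p - 1 := by
    have := (Fact.out : p.Prime).two_le
    omega
  rw [Finset.sum_eq_single 0]
  · simp
  · intro j _ hj
    rw [if_neg hj, zero_smul]
  · intro h0
    exact absurd (Finset.mem_range.2 hp) h0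

lemma sc_smul_H_mul_E (H : End k V) (hH : H ^ (p - 1) = 1) (d : (ZMod p)ˣ) :
    sc k d • (H * E (p := p) H d) = E (p := p) H d := by
  unfold E
  rw [mul_neg, smul_neg, neg_inj, Finset.mul_sum, Finset.smul_sum]
  have h1 : ∀ j ∈ Finset.range (p - 1), sc k d • (H * ((sc k d ^ j) • H ^ j)) =
      (sc k d ^ (j + 1)) • H ^ (j + 1) := by
    intro j _
    rw [mul_smul_comm, smul_smul, ← pow_succ', ← pow_succ']
  rw [Finset.sum_congr rfl h1]
  have hp : p - 1 = (p - 2) + 1 := by
    have := (Fact.out : p.Prime).two_le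
    omega
  have e1 := Finset.sum_range_succ (fun j => (sc k d ^ (j + 1)) • H ^ (j + 1)) (p - 2)
  have e2 := Finset.sum_range_succ' (fun j => (sc k d ^ j) • H ^ j) (p - 2)
  rw [hp, e1, e2, ← hp, sc_pow_card, hH]
  simp

/-- an eigenvector outside a proper subspace -/
theorem exists_eigen_not_mem (H : End k V) (hH : H ^ (p - 1) = 1) (K : Submodule k V)
    (hK : K ≠ ⊤) : ∃ u : V, u ∉ K ∧ ∃ c : k, H u = c • u := by
  obtain ⟨v, hv⟩ : ∃ v : V, v ∉ K := by
    by_contra hcon
    push Not at hcon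
    exact hK (Submodule.eq_top_iff'.2 hcon)
  have hsum : ∑ d : (ZMod p)ˣ, E (p := p) H d v = v := by
    have := congrArg (fun T : End k V => T v) (sum_E (k := k) (p := p) H)
    simpa [LinearMap.sum_apply] using this
  obtain ⟨d, hd⟩ : ∃ d : (ZMod p)ˣ, E (p := p) H d v ∉ K := by
    by_contra hcon
    push Not at hcon
    apply hv
    rw [← hsum]
    exact Submodule.sum_mem _ fun d _ => hcon d
  refine ⟨E (p := p) H d v, hd, (sc k d)⁻¹, ?_⟩
  have h1 := congrArg (fun T : End k V => T v) (sc_smul_H_mul_E (k := k) H hH d)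
  simp only [LinearMap.smul_apply, Module.End.mul_apply] at h1
  have hne : sc k d ≠ 0 := by
    intro h0
    have := sc_pow_card (k := k) d
    rw [h0, zero_pow] at this
    · exact zero_ne_one this
    · have := (Fact.out : p.Prime).two_le
      omega
  rw [← h1, smul_smul, inv_mul_cancel₀ hne, one_smul, h1]


/-- in characteristic `p`, an endomorphism with `X ^ p = 1` is unipotent -/
lemma sub_one_pow_p (X : End k V) (hX : X ^ p = 1) : (X - 1) ^ p = 0 := by
  have h : ((Polynomial.X : Polynomial k) - 1) ^ p = Polynomial.X ^ p - 1 := by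
    rw [sub_pow_char, one_pow]
  have h2 := congrArg (Polynomial.aeval X) h
  simpa [hX] using h2

end eigen

section invariant

/-- the algebra of endomorphisms preserving a submodule -/
def Stab (W : Submodule k V) : Subalgebra k (End k V) where
  carrier := {T | ∀ w ∈ W, T w ∈ W}
  mul_mem' := fun {a b} ha hb w hw => ha _ (hb w hw)
  one_mem' := fun w hw => hw
  add_mem' := fun {a b} ha hb w hw => W.add_mem (ha w hw) (hb w hw)
  zero_mem' := fun w _ => W.zero_mem
  algebraMap_mem' := fun r w hw => by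
    rw [Module.algebraMap_end_apply]
    exact W.smul_mem r hw

lemma mem_Stab {W : Submodule k V} {T : End k V} : T ∈ Stab W ↔ ∀ w ∈ W, T w ∈ W := Iff.rfl

end invariant

section jordan

lemma coeff_eq_zero (N : End k V) (u : V) (b : ℕ) (hN : N ^ (b + 1) = 0) (hu : (N ^ b) u ≠ 0)
    (c : ℕ → k) (hc : ∑ i ∈ Finset.range (b + 1), c i • (N ^ i) u = 0) :
    ∀ i, i < b + 1 → c i = 0 := by
  intro i
  induction i using Nat.strong_induction_on with
  | _ i ih =>
    intro hi
    have h1 := congrArg (fun v => (N ^ (b - i)) v) hc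
    simp only [map_sum, map_smul, map_zero] at h1
    rw [Finset.sum_eq_single i] at h1
    · rw [← Module.End.mul_apply, ← pow_add, Nat.sub_add_cancel (by omega)] at h1
      exact (smul_eq_zero.1 h1).resolve_right hu
    · intro j hj hji
      rcases lt_or_gt_of_ne hji with hlt | hgt
      · rw [ih j hlt (by omega), zero_smul]
      · rw [← Module.End.mul_apply, ← pow_add, pow_eq_zero_of_le (by omega) hN,
          LinearMap.zero_apply, smul_zero]
    · intro hni
      exact absurd (Finset.mem_range.2 hi) hni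

lemma top_notMem (N : End k V) (u : V) (b : ℕ) (hN : N ^ (b + 1) = 0) (hu : (N ^ b) u ≠ 0) :
    (N ^ b) u ∉ Submodule.span k (Set.range fun i : Fin b => (N ^ (i : ℕ)) u) := by
  intro hmem
  obtain ⟨c, hc⟩ := (Submodule.mem_span_range_iff_exists_fun k).1 hmem
  let c' : ℕ → k := fun i => if h : i < b then c ⟨i, h⟩ else -1
  have hsum : ∑ i ∈ Finset.range (b + 1), c' i • (N ^ i) u = 0 := by
    rw [Finset.sum_range_succ, Finset.sum_range]
    have h3 : ∀ i : Fin b, c' i • (N ^ (i : ℕ)) u = c i • (N ^ (i : ℕ)) u := by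
      intro i
      simp only [c', dif_pos i.2]
    rw [Finset.sum_congr rfl fun i _ => h3 i, hc]
    simp [c']
  have h4 := coeff_eq_zero N u b hN hu c' hsum b (by omega)
  simp [c'] at h4

lemma exists_dual (N : End k V) (u : V) (b : ℕ) (hN : N ^ (b + 1) = 0) (hu : (N ^ b) u ≠ 0) :
    ∃ φ : V →ₗ[k] k, φ ((N ^ b) u) = 1 ∧ ∀ n, n < b → φ ((N ^ n) u) = 0 := by
  obtain ⟨f, hf, hP⟩ := Submodule.exists_dual_map_eq_bot_of_notMem (top_notMem N u b hN hu)
    inferInstance
  refine ⟨(f ((N ^ b) u))⁻¹ • f, ?_, ?_⟩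
  · rw [LinearMap.smul_apply, smul_eq_mul, inv_mul_cancel₀ hf]
  · intro n hn
    have h0 : f ((N ^ n) u) = 0 := by
      have hmem : f ((N ^ n) u) ∈
          (Submodule.span k (Set.range fun i : Fin b => (N ^ (i : ℕ)) u)).map f :=
        Submodule.mem_map_of_mem (Submodule.subset_span ⟨⟨n, hn⟩, rfl⟩)
      rw [hP] at hmem
      exact (Submodule.mem_bot k).1 hmem
    rw [LinearMap.smul_apply, h0, smul_zero]

/-- the retraction onto the cyclic submodule -/
noncomputable def proj (N : End k V) (u : V) (b : ℕ) (φ : V →ₗ[k] k) : End k V :=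
  ∑ i ∈ Finset.range (b + 1), (φ ∘ₗ (N ^ (b - i))).smulRight ((N ^ i) u)

lemma proj_apply (N : End k V) (u : V) (b : ℕ) (φ : V →ₗ[k] k) (w : V) :
    proj N u b φ w = ∑ i ∈ Finset.range (b + 1), φ ((N ^ (b - i)) w) • (N ^ i) u := by
  simp [proj, LinearMap.sum_apply]

lemma proj_comm (N : End k V) (u : V) (b : ℕ) (φ : V →ₗ[k] k) (hN : N ^ (b + 1) = 0) :
    Commute (proj N u b φ) N := by
  refine LinearMap.ext fun w => ?_
  rw [Module.End.mul_apply, Module.End.mul_apply, proj_apply, proj_apply, map_sum]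
  rw [Finset.sum_range_succ', Finset.sum_range_succ]
  have e1 : ∀ i ∈ Finset.range b, φ ((N ^ (b - (i + 1))) (N w)) • (N ^ (i + 1)) u =
      N (φ ((N ^ (b - i)) w) • (N ^ i) u) := by
    intro i hi
    have hi' := Finset.mem_range.1 hi
    rw [map_smul, ← Module.End.mul_apply N, ← pow_succ', ← Module.End.mul_apply _ N, ← pow_succ]
    have : b - (i + 1) + 1 = b - i := by omega
    rw [this]
  rw [Finset.sum_congr rfl e1]
  have e2 : (N ^ (b - 0)) (N w) = 0 := by
    rw [← Module.End.mul_apply, ← pow_succ, Nat.sub_zero, hN, LinearMap.zero_apply]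
  have e3 : N ((N ^ b) u) = 0 := by
    rw [← Module.End.mul_apply, ← pow_succ', hN, LinearMap.zero_apply]
  rw [e2, map_zero, zero_smul, map_smul, e3, smul_zero]

lemma proj_mem (N : End k V) (u : V) (b : ℕ) (φ : V →ₗ[k] k) (w : V) :
    proj N u b φ w ∈ Submodule.span k (Set.range fun i : ℕ => (N ^ i) u) := by
  rw [proj_apply]
  exact Submodule.sum_mem _ fun i _ =>
    Submodule.smul_mem _ _ (Submodule.subset_span ⟨i, rfl⟩)

lemma proj_self (N : End k V) (u : V) (b : ℕ) (φ : V →ₗ[k] k) (h1 : φ ((N ^ b) u) = 1)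
    (h0 : ∀ n, n < b → φ ((N ^ n) u) = 0) : proj N u b φ u = u := by
  rw [proj_apply, Finset.sum_eq_single 0]
  · simp [h1]
  · intro i hi hi0
    rw [h0 (b - i) (by have := Finset.mem_range.1 hi; omega), zero_smul]
  · intro h
    exact absurd (Finset.mem_range.2 (Nat.succ_pos b)) h

lemma proj_id (N : End k V) (u : V) (b : ℕ) (φ : V →ₗ[k] k) (hN : N ^ (b + 1) = 0)
    (h1 : φ ((N ^ b) u) = 1) (h0 : ∀ n, n < b → φ ((N ^ n) u) = 0) (w : V)
    (hw : w ∈ Submodule.span k (Set.range fun i : ℕ => (N ^ i) u)) : proj N u b φ w = w := by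
  induction hw using Submodule.span_induction with
  | mem x hx =>
    obtain ⟨i, rfl⟩ := hx
    have h2 := congrArg (fun T : End k V => T u) ((proj_comm N u b φ hN).pow_right i).eq
    simp only [Module.End.mul_apply] at h2
    rw [h2, proj_self N u b φ h1 h0]
  | zero => rw [map_zero]
  | add x y _ _ hx hy => rw [map_add, hx, hy]
  | smul a x _ hx => rw [map_smul, hx]

end jordan

section average

variable {p : ℕ} [Fact p.Prime] [CharP k p]

lemma cast_pred_p : (((p - 1 : ℕ)) : k) = -1 := by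
  have hp : 1 ≤ p := (Fact.out : p.Prime).one_lt.le
  rw [Nat.cast_sub hp, CharP.cast_eq_zero, Nat.cast_one, zero_sub]

theorem average (X H Hi π : End k V) (W₁ : Submodule k V) (m' : ℕ)
    (hH : H ^ (p - 1) = 1) (hHHi : H * Hi = 1) (hHiH : Hi * H = 1)
    (hXH : X * H = H * X ^ m') (hπX : Commute π X)
    (hHW : H ∈ Stab W₁) (hHiW : Hi ∈ Stab W₁)
    (hπW : ∀ v, π v ∈ W₁) (hπid : ∀ w ∈ W₁, π w = w) :
    ∃ π' : End k V, Commute π' X ∧ Commute π' H ∧ (∀ v, π' v ∈ W₁) ∧ (∀ w ∈ W₁, π' w = w) := by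
  have hcomm : Commute H Hi := by
    unfold Commute SemiconjBy
    rw [hHHi, hHiH]
  have hpow : ∀ j : ℕ, H ^ j * Hi ^ j = 1 := by
    intro j
    rw [← hcomm.mul_pow, hHHi, one_pow]
  have hpow' : ∀ j : ℕ, Hi ^ j * H ^ j = 1 := by
    intro j
    rw [← hcomm.symm.mul_pow, hHiH, one_pow]
  have hHi : Hi ^ (p - 1) = 1 := by
    have := hpow' (p - 1)
    rwa [hH, mul_one] at this
  -- the conjugation relations
  have hsc : SemiconjBy H (X ^ m') X := hXH.symm
  have hA : ∀ j : ℕ, H ^ j * X ^ (m' ^ j) = X * H ^ j := by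
    intro j
    induction j with
    | zero => simp
    | succ j ih =>
      have h1 : H * X ^ (m' ^ (j + 1)) = X ^ (m' ^ j) * H := by
        have := (hsc.pow_right (m' ^ j)).eq
        rw [← pow_mul, ← pow_succ'] at this
        exact this
      calc H ^ (j + 1) * X ^ (m' ^ (j + 1)) = H ^ j * (H * X ^ (m' ^ (j + 1))) := by
            rw [pow_succ, mul_assoc]
        _ = H ^ j * X ^ (m' ^ j) * H := by rw [h1, mul_assoc]
        _ = X * H ^ (j + 1) := by rw [ih, mul_assoc, ← pow_succ]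
  have hB : ∀ j : ℕ, Hi ^ j * X = X ^ (m' ^ j) * Hi ^ j := by
    intro j
    calc Hi ^ j * X = Hi ^ j * X * (H ^ j * Hi ^ j) := by rw [hpow, mul_one]
      _ = Hi ^ j * (X * H ^ j) * Hi ^ j := by simp only [mul_assoc]
      _ = Hi ^ j * (H ^ j * X ^ (m' ^ j)) * Hi ^ j := by rw [hA]
      _ = (Hi ^ j * H ^ j) * X ^ (m' ^ j) * Hi ^ j := by simp only [mul_assoc]
      _ = X ^ (m' ^ j) * Hi ^ j := by rw [hpow', one_mul]
  let T : ℕ → End k V := fun j => H ^ j * π * Hi ^ j
  have hTX : ∀ j, Commute (T j) X := by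
    intro j
    have hπn := (hπX.pow_right (m' ^ j)).eq
    show H ^ j * π * Hi ^ j * X = X * (H ^ j * π * Hi ^ j)
    calc H ^ j * π * Hi ^ j * X = H ^ j * π * (Hi ^ j * X) := by rw [mul_assoc]
      _ = H ^ j * π * (X ^ (m' ^ j) * Hi ^ j) := by rw [hB]
      _ = H ^ j * (π * X ^ (m' ^ j)) * Hi ^ j := by simp only [mul_assoc]
      _ = H ^ j * (X ^ (m' ^ j) * π) * Hi ^ j := by rw [hπn]
      _ = (H ^ j * X ^ (m' ^ j)) * π * Hi ^ j := by simp only [mul_assoc]
      _ = (X * H ^ j) * π * Hi ^ j := by rw [hA]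
      _ = X * (H ^ j * π * Hi ^ j) := by simp only [mul_assoc]
  have hTsucc : ∀ j, H * T j * Hi = T (j + 1) := by
    intro j
    show H * (H ^ j * π * Hi ^ j) * Hi = H ^ (j + 1) * π * Hi ^ (j + 1)
    rw [pow_succ' H, pow_succ Hi]
    simp only [mul_assoc]
  have hTper : T (p - 1) = T 0 := by
    show H ^ (p - 1) * π * Hi ^ (p - 1) = H ^ 0 * π * Hi ^ 0
    rw [hH, hHi, pow_zero, pow_zero]
  refine ⟨-∑ j ∈ Finset.range (p - 1), T j, ?_, ?_, ?_, ?_⟩
  · exact (Commute.sum_left _ _ _ fun j _ => hTX j).neg_left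
  · have hshift : ∑ j ∈ Finset.range (p - 1), T (j + 1) = ∑ j ∈ Finset.range (p - 1), T j := by
      have hp : p - 1 = (p - 2) + 1 := by
        have := (Fact.out : p.Prime).two_le
        omega
      have e1 := Finset.sum_range_succ (fun j => T (j + 1)) (p - 2)
      have e2 := Finset.sum_range_succ' (fun j => T j) (p - 2)
      rw [hp, e1, e2, ← hp, hTper]
    have hconj : H * (-∑ j ∈ Finset.range (p - 1), T j) * Hi = -∑ j ∈ Finset.range (p - 1), T j := by
      rw [mul_neg, neg_mul, Finset.mul_sum, Finset.sum_mul, Finset.sum_congr rfl fun j _ => hTsucc j,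
        hshift]
    show (-∑ j ∈ Finset.range (p - 1), T j) * H = H * (-∑ j ∈ Finset.range (p - 1), T j)
    calc (-∑ j ∈ Finset.range (p - 1), T j) * H
        = H * (-∑ j ∈ Finset.range (p - 1), T j) * Hi * H := by rw [hconj]
      _ = H * (-∑ j ∈ Finset.range (p - 1), T j) * (Hi * H) := by simp only [mul_assoc]
      _ = H * (-∑ j ∈ Finset.range (p - 1), T j) := by rw [hHiH, mul_one]
  · intro v
    rw [LinearMap.neg_apply, LinearMap.sum_apply]
    refine W₁.neg_mem (Submodule.sum_mem _ fun j _ => ?_)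
    show (H ^ j * π * Hi ^ j) v ∈ W₁
    rw [Module.End.mul_apply, Module.End.mul_apply]
    exact (pow_mem hHW j) _ (hπW _)
  · intro w hw
    rw [LinearMap.neg_apply, LinearMap.sum_apply]
    have h1 : ∀ j ∈ Finset.range (p - 1), T j w = w := by
      intro j _
      show (H ^ j * π * Hi ^ j) w = w
      rw [Module.End.mul_apply, Module.End.mul_apply, hπid _ ((pow_mem hHiW j) w hw),
        ← Module.End.mul_apply, hpow, Module.End.one_apply]
    rw [Finset.sum_congr rfl h1, Finset.sum_const, Finset.card_range, ← Nat.cast_smul_eq_nsmul k,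
      cast_pred_p, neg_smul, one_smul, neg_neg]

end average

section main

variable {p : ℕ} [Fact p.Prime] [CharP k p]

theorem uniserial (X H : End k V) (m m' : ℕ) (hXp : X ^ p = 1) (hH : H ^ (p - 1) = 1)
    (hHX : H * X = X ^ m * H) (hXH : X * H = H * X ^ m') [Nontrivial V]
    (hind : ∀ W₁ W₂ : Submodule k V, X ∈ Stab W₁ → H ∈ Stab W₁ → X ∈ Stab W₂ → H ∈ Stab W₂ →
      W₁ ⊔ W₂ = ⊤ → W₁ ⊓ W₂ = ⊥ → W₁ = ⊥ ∨ W₂ = ⊥) :
    ∃ t : V, (⊤ : Submodule k V) = Submodule.span k (Set.range fun i : ℕ => ((X - 1) ^ i) t) := by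
  classical
  obtain ⟨N, hNdef⟩ : ∃ N : End k V, N = X - 1 := ⟨_, rfl⟩
  rw [← hNdef]
  have hXN : X = N + 1 := by rw [hNdef]; abel
  have hNp : N ^ p = 0 := by rw [hNdef]; exact sub_one_pow_p X hXp
  -- nilpotency index
  have hex : ∃ n, N ^ n = 0 := ⟨p, hNp⟩
  have hn₀0 : N ^ (Nat.find hex) = 0 := Nat.find_spec hex
  have hn₀pos : Nat.find hex ≠ 0 := by
    intro h0
    rw [h0, pow_zero] at hn₀0
    exact one_ne_zero hn₀0
  obtain ⟨b, hb⟩ := Nat.exists_eq_succ_of_ne_zero hn₀pos
  have hNb1 : N ^ (b + 1) = 0 := by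
    rw [← Nat.succ_eq_add_one, ← hb]
    exact hn₀0
  have hNb : N ^ b ≠ 0 := by
    intro h0
    have := Nat.find_min' hex h0
    omega
  -- an eigenvector outside the kernel of `N ^ b`
  have hK : LinearMap.ker (N ^ b) ≠ ⊤ := by
    intro h
    exact hNb (LinearMap.ker_eq_top.1 h)
  obtain ⟨u, huK, c, hcu⟩ := exists_eigen_not_mem H hH _ hK
  have hu : (N ^ b) u ≠ 0 := fun h => huK (LinearMap.mem_ker.2 h)
  obtain ⟨φ, hφ1, hφ0⟩ := exists_dual N u b hNb1 hu
  obtain ⟨W₁, hW₁⟩ : ∃ W₁ : Submodule k V,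
      W₁ = Submodule.span k (Set.range fun i : ℕ => (N ^ i) u) := ⟨_, rfl⟩
  have hgen : ∀ i : ℕ, (N ^ i) u ∈ W₁ := by
    intro i
    rw [hW₁]
    exact Submodule.subset_span ⟨i, rfl⟩
  have hNW : N ∈ Stab W₁ := by
    intro w hw
    rw [hW₁] at hw
    induction hw using Submodule.span_induction with
    | mem x hx =>
      obtain ⟨i, rfl⟩ := hx
      rw [← Module.End.mul_apply, ← pow_succ']
      exact hgen (i + 1)
    | zero => rw [map_zero]; exact W₁.zero_mem
    | add x y _ _ hx hy => rw [map_add]; exact W₁.add_mem hx hy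
    | smul a x _ hx => rw [map_smul]; exact W₁.smul_mem a hx
  have hXW : X ∈ Stab W₁ := by
    rw [hXN]
    exact add_mem hNW (one_mem _)
  have hHW : H ∈ Stab W₁ := by
    have hsemi : SemiconjBy H N (X ^ m - 1) := by
      unfold SemiconjBy
      rw [hNdef, mul_sub, sub_mul, hHX, mul_one, one_mul]
    have hst : ∀ i : ℕ, (X ^ m - 1) ^ i ∈ Stab W₁ := fun i =>
      pow_mem (sub_mem (pow_mem hXW m) (one_mem _)) i
    intro w hw
    rw [hW₁] at hw
    induction hw using Submodule.span_induction with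
    | mem x hx =>
      obtain ⟨i, rfl⟩ := hx
      have h3 := congrArg (fun T : End k V => T u) (hsemi.pow_right i).eq
      simp only [Module.End.mul_apply] at h3
      rw [h3, hcu, map_smul]
      refine W₁.smul_mem c ?_
      have h0 := hgen 0
      rw [pow_zero, Module.End.one_apply] at h0
      exact hst i u h0
    | zero => rw [map_zero]; exact W₁.zero_mem
    | add x y _ _ hx hy => rw [map_add]; exact W₁.add_mem hx hy
    | smul a x _ hx => rw [map_smul]; exact W₁.smul_mem a hx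
  have hp2 : p - 2 + 1 = p - 1 := by
    have := (Fact.out : p.Prime).two_le
    omega
  have hHHi : H * H ^ (p - 2) = 1 := by rw [← pow_succ', hp2, hH]
  have hHiH : H ^ (p - 2) * H = 1 := by rw [← pow_succ, hp2, hH]
  have hHiW : H ^ (p - 2) ∈ Stab W₁ := pow_mem hHW _
  have hπN : Commute (proj N u b φ) N := proj_comm N u b φ hNb1
  have hπX : Commute (proj N u b φ) X := by
    rw [hXN]
    exact hπN.add_right (Commute.one_right _)
  have hπW : ∀ v, proj N u b φ v ∈ W₁ := by
    intro v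
    rw [hW₁]
    exact proj_mem N u b φ v
  have hπid : ∀ w ∈ W₁, proj N u b φ w = w := by
    intro w hw
    rw [hW₁] at hw
    exact proj_id N u b φ hNb1 hφ1 hφ0 w hw
  obtain ⟨π', hπ'X, hπ'H, hπ'W, hπ'id⟩ := average X H (H ^ (p - 2)) (proj N u b φ) W₁ m' hH hHHi hHiH
    hXH hπX hHW hHiW hπW hπid
  have hXW₂ : X ∈ Stab (LinearMap.ker π') := by
    intro w hw
    rw [LinearMap.mem_ker] at hw ⊢
    have := congrArg (fun T : End k V => T w) hπ'X.eq
    simp only [Module.End.mul_apply] at this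
    rw [this, hw, map_zero]
  have hHW₂ : H ∈ Stab (LinearMap.ker π') := by
    intro w hw
    rw [LinearMap.mem_ker] at hw ⊢
    have := congrArg (fun T : End k V => T w) hπ'H.eq
    simp only [Module.End.mul_apply] at this
    rw [this, hw, map_zero]
  have hsup : W₁ ⊔ LinearMap.ker π' = ⊤ := by
    rw [eq_top_iff]
    intro v _
    refine Submodule.mem_sup.2 ⟨π' v, hπ'W v, v - π' v, ?_, by abel⟩
    rw [LinearMap.mem_ker, map_sub, hπ'id _ (hπ'W v), sub_self]
  have hinf : W₁ ⊓ LinearMap.ker π' = ⊥ := by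
    rw [Submodule.eq_bot_iff]
    intro w hw
    obtain ⟨hw1, hw2⟩ := Submodule.mem_inf.1 hw
    rw [← hπ'id w hw1]
    exact LinearMap.mem_ker.1 hw2
  rcases hind W₁ (LinearMap.ker π') hXW hHW hXW₂ hHW₂ hsup hinf with h1 | h2
  · exfalso
    have h0 := hgen b
    rw [h1, Submodule.mem_bot] at h0
    exact hu h0
  · refine ⟨u, ?_⟩
    rw [← hW₁, ← hsup, h2, sup_bot_eq]

end main

section transfer

open Cfsg Cfsg.Agent.Lib.Helper57_ModDefs

lemma restrict_pow_apply {M : Type*} [AddCommGroup M] [Module k M] (T : End k M)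
    (W : Submodule k M) (hT : ∀ w ∈ W, T w ∈ W) (n : ℕ) (w : W) :
    (((T.restrict hT) ^ n) w : M) = (T ^ n) (w : M) := by
  induction n generalizing w with
  | zero => simp
  | succ n ih =>
    rw [pow_succ, Module.End.mul_apply, ih, LinearMap.coe_restrict_apply, pow_succ,
      Module.End.mul_apply]

end transfer

open Cfsg Cfsg.Agent.Lib.Helper57_ModDefs

set_option linter.unusedVariables false in
/-- **PK-G2** (uniserial): an indecomposable module of `⟨x⟩ ⋊ ⟨h⟩` with `h ^ f = 1`, `f ∣ p - 1`,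
is a single Jordan block of `x`. -/
theorem g2 {k : Type*} [Field k] {p : ℕ} [Fact p.Prime] [CharP k p] {G : Type*} [Group G]
    {M : Type*} [AddCommGroup M] [Module k M] [FiniteDimensional k M]
    (ρ : Representation k G M) (x h : G) (hx : orderOf x = p)
    (hconj : h * x * h⁻¹ ∈ Subgroup.zpowers x) (f : ℕ) (hfpos : 0 < f) (hf : f ∣ p - 1)
    (S : Set G) (hxS : x ∈ S) (hhS : h ∈ S) (W : Submodule k M) (hW : IndecOn ρ S W)
    (hS : ∀ g ∈ S, ∃ i j : ℕ, ∀ w ∈ W, ρ g w = ρ (h ^ j * x ^ i) w)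
    (hhf : ∀ w ∈ W, ρ (h ^ f) w = w) :
    IsBlock (ρ x - 1) W := by
  obtain ⟨hWne, hWinv, hWind⟩ := hW
  have hxW : ∀ w ∈ W, ρ x w ∈ W := hWinv x hxS
  have hhW : ∀ w ∈ W, ρ h w ∈ W := hWinv h hhS
  have hp := (Fact.out : p.Prime)
  -- group theory
  obtain ⟨n, hn⟩ : ∃ n : ℕ, x ^ n = h * x * h⁻¹ := by
    have hfin : IsOfFinOrder x := by
      rw [← orderOf_pos_iff, hx]
      exact hp.pos
    exact (Submonoid.mem_powers_iff _ _).1 (hfin.mem_powers_iff_mem_zpowers.2 hconj)
  have hhx : h * x = x ^ n * h := by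
    rw [hn]
    group
  have hx1 : x ≠ 1 := by
    intro h1
    rw [h1, orderOf_one] at hx
    exact hp.one_lt.ne hx
  have hnp : ¬ p ∣ n := by
    intro hd
    have h1 : x ^ n = 1 := by
      rw [← hx] at hd
      exact orderOf_dvd_iff_pow_eq_one.1 hd
    rw [h1] at hn
    apply hx1
    have h2 : x = h⁻¹ * (h * x * h⁻¹) * h := by group
    rw [h2, ← hn]
    group
  have hcop : Nat.Coprime n p := ((Nat.Prime.coprime_iff_not_dvd hp).2 hnp).symm
  obtain ⟨m', -, hm'⟩ := Nat.exists_mul_mod_eq_one_of_coprime hcop hp.one_lt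
  have hxh : x * h = h * x ^ m' := by
    have h1 : h * x ^ m' * h⁻¹ = x := by
      rw [← conj_pow, ← hn, ← pow_mul, ← pow_mod_orderOf, hx, hm', pow_one]
    calc x * h = (h * x ^ m' * h⁻¹) * h := by rw [h1]
      _ = h * x ^ m' := by group
  -- the endomorphisms of `W`
  obtain ⟨X, hXdef⟩ : ∃ X : Module.End k W, X = (ρ x).restrict hxW := ⟨_, rfl⟩
  obtain ⟨H, hHdef⟩ : ∃ H : Module.End k W, H = (ρ h).restrict hhW := ⟨_, rfl⟩
  have hXpow : ∀ (j : ℕ) (w : W), ((X ^ j) w : M) = ρ (x ^ j) w := by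
    intro j w
    rw [hXdef, restrict_pow_apply, ← map_pow]
  have hHpow : ∀ (j : ℕ) (w : W), ((H ^ j) w : M) = ρ (h ^ j) w := by
    intro j w
    rw [hHdef, restrict_pow_apply, ← map_pow]
  have hX1 : ∀ w : W, ((X w : W) : M) = ρ x w := by
    intro w
    rw [hXdef]
    rfl
  have hH1 : ∀ w : W, ((H w : W) : M) = ρ h w := by
    intro w
    rw [hHdef]
    rfl
  have hXp : X ^ p = 1 := by
    refine LinearMap.ext fun w => Subtype.ext ?_
    rw [hXpow, ← hx, pow_orderOf_eq_one, map_one]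
    rfl
  have hHf : H ^ f = 1 := by
    refine LinearMap.ext fun w => Subtype.ext ?_
    rw [hHpow]
    exact hhf w w.2
  have hHp : H ^ (p - 1) = 1 := by
    obtain ⟨e, he⟩ := hf
    rw [he, pow_mul, hHf, one_pow]
  have hHX : H * X = X ^ n * H := by
    refine LinearMap.ext fun w => Subtype.ext ?_
    rw [Module.End.mul_apply, Module.End.mul_apply, hXpow, hH1, hH1, hX1,
      ← Module.End.mul_apply, ← map_mul, hhx, map_mul, Module.End.mul_apply]
  have hXH : X * H = H * X ^ m' := by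
    refine LinearMap.ext fun w => Subtype.ext ?_
    rw [Module.End.mul_apply, Module.End.mul_apply, hH1, hXpow, hX1, hH1,
      ← Module.End.mul_apply, ← map_mul, hxh, map_mul, Module.End.mul_apply]
  have hnt : Nontrivial W := Submodule.nontrivial_iff_ne_bot.2 hWne
  have hind : ∀ W₁ W₂ : Submodule k W, X ∈ Stab W₁ → H ∈ Stab W₁ → X ∈ Stab W₂ → H ∈ Stab W₂ →
      W₁ ⊔ W₂ = ⊤ → W₁ ⊓ W₂ = ⊥ → W₁ = ⊥ ∨ W₂ = ⊥ := by
    intro W₁ W₂ hX1' hH1' hX2' hH2' hsup hinf
    have key : ∀ U : Submodule k W, X ∈ Stab U → H ∈ Stab U →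
        InvOn ρ S (U.map W.subtype) := by
      intro U hXU hHU g hg w hw
      obtain ⟨w₀, hw₀, rfl⟩ := Submodule.mem_map.1 hw
      obtain ⟨i, j, hij⟩ := hS g hg
      rw [Submodule.subtype_apply, hij _ w₀.2]
      refine Submodule.mem_map.2 ⟨(H ^ j) ((X ^ i) w₀), ?_, ?_⟩
      · exact (pow_mem hHU j) _ ((pow_mem hXU i) _ hw₀)
      · rw [Submodule.subtype_apply, hHpow, hXpow, map_mul, Module.End.mul_apply]
    have hbot : ∀ U : Submodule k W, U.map W.subtype = ⊥ → U = ⊥ := by
      intro U hU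
      apply Submodule.map_injective_of_injective W.injective_subtype
      rw [hU, Submodule.map_bot]
    have h1 := hWind _ _ (key W₁ hX1' hH1') (key W₂ hX2' hH2')
      (by rw [← Submodule.map_sup, hsup, Submodule.map_subtype_top])
      (by rw [← Submodule.map_inf _ W.injective_subtype, hinf, Submodule.map_bot])
    rcases h1 with h1 | h1
    · exact Or.inl (hbot _ h1)
    · exact Or.inr (hbot _ h1)
  obtain ⟨t, ht⟩ := uniserial X H n m' hXp hHp hHX hXH hind
  refine ⟨(t : M), ?_⟩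
  have hN1 : ∀ y : W, (((X - 1) y : W) : M) = (ρ x - 1) (y : M) := by
    intro y
    rw [LinearMap.sub_apply, LinearMap.sub_apply, Module.End.one_apply, Module.End.one_apply,
      Submodule.coe_sub, hX1]
  have h2 : ∀ i : ℕ, W.subtype (((X - 1) ^ i) t) = ((ρ x - 1) ^ i) (t : M) := by
    intro i
    induction i with
    | zero => simp
    | succ i ih =>
      rw [pow_succ', Module.End.mul_apply, Submodule.subtype_apply, hN1, pow_succ',
        Module.End.mul_apply, ← ih, Submodule.subtype_apply]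
  calc W = Submodule.map W.subtype ⊤ := (Submodule.map_subtype_top W).symm
    _ = Submodule.map W.subtype
        (Submodule.span k (Set.range fun i : ℕ => ((X - 1) ^ i) t)) := by rw [← ht]
    _ = Submodule.span k (W.subtype '' Set.range fun i : ℕ => ((X - 1) ^ i) t) :=
        Submodule.map_span _ _
    _ = Submodule.span k (Set.range fun i : ℕ => ((ρ x - 1) ^ i) (t : M)) := by
        rw [← Set.range_comp]
        congr 2
        funext i
        exact h2 i

end Cfsg.Agent.Lib.Helper73_S4504_G2
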