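import Mathlib
import Cfsg.Prelude.Def_Characters
import Cfsg.Agent.Lib.Helper57_ModDefs

set_option autoImplicit false

/-!
S4504-DEC (helper85, for helper57): decomposition of an `S`-stable subspace of a finite-dimensional
representation into `S`-indecomposable stable subspaces.
(`indep_snoc` / `iSup_snoc` are copied from helper99's `Helper99_DecompSuff` to keep the imports light.)
-/

namespace Cfsg.Agent.Lib.Helper85_S4504_DEC

open Cfsg Cfsg.Agent.Lib.Helper57_ModDefs Module

section snoc

variable {F V : Type*} [Field F] [AddCommGroup V] [Module F V]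

/-- extending an independent family by a subspace disjoint from its supremum. -/
theorem indep_snoc {t : ℕ} {D : Fin t → Submodule F V} (hD : iSupIndep D) {X : Submodule F V}
    (hX : Disjoint (iSup D) X) :
    iSupIndep (Fin.snoc (α := fun _ => Submodule F V) D X) := by
  rw [iSupIndep_def]
  intro i
  refine Fin.lastCases ?_ (fun i' => ?_) i
  · rw [Fin.snoc_last]
    refine hX.symm.mono_right ?_
    apply iSup₂_le
    intro j hj
    revert hj
    refine Fin.lastCases ?_ (fun j' => ?_) j
    · intro h; exact absurd rfl h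
    · intro _
      rw [Fin.snoc_castSucc]
      exact le_iSup D j'
  · rw [Fin.snoc_castSucc]
    have hle : (⨆ (j) (_ : j ≠ Fin.castSucc i'),
        (Fin.snoc (α := fun _ => Submodule F V) D X : Fin (t + 1) → Submodule F V) j) ≤
        (⨆ (j') (_ : j' ≠ i'), D j') ⊔ X := by
      apply iSup₂_le
      intro j hj
      revert hj
      refine Fin.lastCases ?_ (fun j' => ?_) j
      · intro _
        rw [Fin.snoc_last]
        exact le_sup_right
      · intro hj
        rw [Fin.snoc_castSucc]
        refine le_sup_of_le_left (le_iSup₂ (f := fun j' (_ : j' ≠ i') => D j') j' ?_)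
        intro h
        exact hj (by rw [h])
    refine Disjoint.mono_right hle ?_
    rw [Submodule.disjoint_def]
    intro x hx hx2
    obtain ⟨y, hy, z, hz, rfl⟩ := Submodule.mem_sup.1 hx2
    have hyU : y ∈ iSup D :=
      (iSup₂_le (f := fun j' (_ : j' ≠ i') => D j') fun j' _ => le_iSup D j') hy
    have hz0 : z = 0 := by
      have h1 : z ∈ iSup D := by
        have : z = (y + z) - y := by abel
        rw [this]
        exact Submodule.sub_mem _ (le_iSup D i' hx) hyU
      exact Submodule.disjoint_def.1 hX z h1 hz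
    rw [hz0, add_zero] at hx ⊢
    exact Submodule.disjoint_def.1 (hD i') y hx hy

theorem iSup_snoc {t : ℕ} (D : Fin t → Submodule F V) (X : Submodule F V) :
    iSup (Fin.snoc (α := fun _ => Submodule F V) D X : Fin (t + 1) → Submodule F V) =
      iSup D ⊔ X := by
  apply le_antisymm
  · apply iSup_le
    intro j
    refine Fin.lastCases ?_ (fun j' => ?_) j
    · rw [Fin.snoc_last]; exact le_sup_right
    · rw [Fin.snoc_castSucc]; exact le_sup_of_le_left (le_iSup D j')
  · apply sup_le
    · apply iSup_le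
      intro j'
      have := le_iSup (Fin.snoc (α := fun _ => Submodule F V) D X :
        Fin (t + 1) → Submodule F V) (Fin.castSucc j')
      rwa [Fin.snoc_castSucc] at this
    · have := le_iSup (Fin.snoc (α := fun _ => Submodule F V) D X :
        Fin (t + 1) → Submodule F V) (Fin.last t)
      rwa [Fin.snoc_last] at this

end snoc

section dec

variable {k : Type*} [Field k] {G : Type*} [Group G] {M : Type*} [AddCommGroup M] [Module k M]

theorem invOn_bot (ρ : Representation k G M) (S : Set G) : InvOn ρ S (⊥ : Submodule k M) := by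
  intro g _ w hw
  rw [(Submodule.mem_bot k).1 hw, map_zero]
  exact Submodule.zero_mem _

theorem invOn_sup (ρ : Representation k G M) (S : Set G) {W₁ W₂ : Submodule k M}
    (h₁ : InvOn ρ S W₁) (h₂ : InvOn ρ S W₂) : InvOn ρ S (W₁ ⊔ W₂) := by
  intro g hg w hw
  obtain ⟨a, ha, b, hb, rfl⟩ := Submodule.mem_sup.1 hw
  rw [map_add]
  exact Submodule.add_mem_sup (h₁ g hg a ha) (h₂ g hg b hb)

variable [FiniteDimensional k M]

theorem finrank_lt_of_split {W W₁ W₂ : Submodule k M} (hsup : W₁ ⊔ W₂ = W) (hinf : W₁ ⊓ W₂ = ⊥)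
    (h₂ : W₂ ≠ ⊥) : finrank k W₁ < finrank k W := by
  have h := Submodule.finrank_sup_add_finrank_inf_eq W₁ W₂
  rw [hsup, hinf, finrank_bot, add_zero] at h
  have hpos : 0 < finrank k W₂ := by
    rw [Nat.pos_iff_ne_zero]
    intro h0
    exact h₂ (Submodule.finrank_eq_zero.1 h0)
  omega

/-- every nonzero stable subspace has an indecomposable stable direct summand -/
theorem exists_indec_summand (ρ : Representation k G M) (S : Set G) :
    ∀ (n : ℕ) (W : Submodule k M), finrank k W = n → W ≠ ⊥ → InvOn ρ S W →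
      ∃ U W' : Submodule k M, IndecOn ρ S U ∧ InvOn ρ S W' ∧ U ⊔ W' = W ∧ U ⊓ W' = ⊥ := by
  intro n
  induction n using Nat.strong_induction_on with
  | _ n ih =>
    intro W hn hW0 hW
    by_cases hind : IndecOn ρ S W
    · exact ⟨W, ⊥, hind, invOn_bot ρ S, sup_bot_eq W, inf_bot_eq W⟩
    · have hex : ∃ W₁ W₂ : Submodule k M, InvOn ρ S W₁ ∧ InvOn ρ S W₂ ∧ W₁ ⊔ W₂ = W ∧
          W₁ ⊓ W₂ = ⊥ ∧ W₁ ≠ ⊥ ∧ W₂ ≠ ⊥ := by
        by_contra hcon
        apply hind
        refine ⟨hW0, hW, fun W₁ W₂ h₁ h₂ hsup hinf => ?_⟩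
        by_contra hne
        push Not at hne
        exact hcon ⟨W₁, W₂, h₁, h₂, hsup, hinf, hne.1, hne.2⟩
      obtain ⟨W₁, W₂, h₁, h₂, hsup, hinf, hne₁, hne₂⟩ := hex
      have hlt : finrank k W₁ < n := hn ▸ finrank_lt_of_split hsup hinf hne₂
      obtain ⟨U, W₁', hU, hW₁', hs, hi⟩ := ih (finrank k W₁) hlt W₁ rfl hne₁ h₁
      refine ⟨U, W₁' ⊔ W₂, hU, invOn_sup ρ S hW₁' h₂, ?_, ?_⟩
      · rw [← sup_assoc, hs, hsup]
      · rw [eq_bot_iff]
        rintro x ⟨hxU, hx2⟩
        obtain ⟨a, ha, b, hb, hab⟩ := Submodule.mem_sup.1 hx2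
        have hUW₁ : U ≤ W₁ := hs ▸ le_sup_left
        have hW₁'W₁ : W₁' ≤ W₁ := hs ▸ le_sup_right
        have hb1 : b ∈ W₁ := by
          have : b = x - a := by rw [← hab]; abel
          rw [this]
          exact Submodule.sub_mem _ (hUW₁ hxU) (hW₁'W₁ ha)
        have hb0 : b = 0 := by
          have : b ∈ W₁ ⊓ W₂ := ⟨hb1, hb⟩
          rw [hinf] at this
          exact (Submodule.mem_bot k).1 this
        rw [hb0, add_zero] at hab
        have : x ∈ U ⊓ W₁' := ⟨hxU, hab ▸ ha⟩
        rw [hi] at this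
        exact this

/-- **S4504-DEC** -/
theorem exists_decomp_aux (ρ : Representation k G M) (S : Set G) :
    ∀ (d : ℕ) (W : Submodule k M), finrank k W = d → InvOn ρ S W →
      ∃ (n : ℕ) (U : Fin n → Submodule k M), (∀ i, IndecOn ρ S (U i)) ∧ iSupIndep U ∧
        ⨆ i, U i = W := by
  intro d
  induction d using Nat.strong_induction_on with
  | _ d ih =>
    intro W hd hW
    by_cases hW0 : W = ⊥
    · refine ⟨0, fun i => i.elim0, fun i => i.elim0, ?_, ?_⟩
      · intro i
        exact i.elim0
      · rw [hW0, iSup_of_empty]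
    · obtain ⟨U, W', hU, hW', hs, hi⟩ := exists_indec_summand ρ S d W hd hW0 hW
      have hlt : finrank k W' < d := by
        rw [sup_comm] at hs
        rw [inf_comm] at hi
        exact hd ▸ finrank_lt_of_split hs hi hU.1
      obtain ⟨n, D, hD, hDi, hDs⟩ := ih (finrank k W') hlt W' rfl hW'
      refine ⟨n + 1, Fin.snoc (α := fun _ => Submodule k M) D U, ?_, ?_, ?_⟩
      · intro i
        refine Fin.lastCases ?_ (fun i' => ?_) i
        · rw [Fin.snoc_last]
          exact hU
        · rw [Fin.snoc_castSucc]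
          exact hD i'
      · apply indep_snoc hDi
        rw [hDs, disjoint_iff, inf_comm]
        exact hi
      · rw [iSup_snoc, hDs, sup_comm]
        exact hs

theorem exists_decomp {k : Type*} [Field k] {G : Type*} [Group G] {M : Type*} [AddCommGroup M]
    [Module k M] [FiniteDimensional k M] (ρ : Representation k G M) (S : Set G)
    (W : Submodule k M) (hW : InvOn ρ S W) :
    ∃ (n : ℕ) (U : Fin n → Submodule k M), (∀ i, IndecOn ρ S (U i)) ∧ iSupIndep U ∧
      ⨆ i, U i = W :=
  exists_decomp_aux ρ S (finrank k W) W rfl hW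

end dec

end Cfsg.Agent.Lib.Helper85_S4504_DEC
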