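import Mathlib
import Cfsg.Prelude.Def_Characters
import Cfsg.Agent.Lib.Helper57_ModDefs

set_option autoImplicit false

/-!
S4504-FIX (helper85, for helper57): an `N`-indecomposable subspace is either fixed pointwise by a
normal `p'`-subgroup `V₀` of `N`, or meets the fixed space of `V₀` trivially (Maschke idempotent).
-/

namespace Cfsg.Agent.Lib.Helper85_S4504_FIX

open Cfsg Cfsg.Agent.Lib.Helper57_ModDefs

section

variable {k : Type*} [Field k] {G : Type*} [Group G] {M : Type*} [AddCommGroup M] [Module k M]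

/-- the augmentation part: the span of all `ρ v m - m`, `v ∈ V₀` -/
def augSub (ρ : Representation k G M) (V₀ : Subgroup G) : Submodule k M :=
  Submodule.span k {y | ∃ v ∈ V₀, ∃ m : M, y = ρ v m - m}

theorem sub_mem_augSub (ρ : Representation k G M) (V₀ : Subgroup G) {v : G} (hv : v ∈ V₀)
    (m : M) : ρ v m - m ∈ augSub ρ V₀ :=
  Submodule.subset_span ⟨v, hv, m, rfl⟩

/-- the averaging operator of a finite subgroup -/
noncomputable def avg (ρ : Representation k G M) (V₀ : Subgroup G) [Fintype V₀] :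
    Module.End k M :=
  ((Nat.card V₀ : k)⁻¹) • ∑ v : V₀, ρ (v : G)

theorem avg_apply (ρ : Representation k G M) (V₀ : Subgroup G) [Fintype V₀] (m : M) :
    avg ρ V₀ m = ((Nat.card V₀ : k)⁻¹) • ∑ v : V₀, ρ (v : G) m := by
  unfold avg
  rw [LinearMap.smul_apply, LinearMap.sum_apply]

theorem avg_fixed (ρ : Representation k G M) (V₀ : Subgroup G) [Fintype V₀]
    (hne : (Nat.card V₀ : k) ≠ 0) {m : M} (hm : m ∈ fixedSub ρ (V₀ : Set G)) :
    avg ρ V₀ m = m := by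
  rw [avg_apply]
  have h1 : ∑ v : V₀, ρ (v : G) m = ∑ _v : V₀, m :=
    Finset.sum_congr rfl fun v _ => hm (v : G) v.2
  rw [h1, Finset.sum_const, Finset.card_univ, ← Nat.card_eq_fintype_card,
    ← Nat.cast_smul_eq_nsmul k, smul_smul, inv_mul_cancel₀ hne, one_smul]

theorem avg_comp (ρ : Representation k G M) (V₀ : Subgroup G) [Fintype V₀] {w : G}
    (hw : w ∈ V₀) (m : M) : avg ρ V₀ (ρ w m) = avg ρ V₀ m := by
  rw [avg_apply, avg_apply]
  congr 1
  have h1 : ∀ v : V₀, ρ (v : G) (ρ w m) = ρ (((Equiv.mulRight (⟨w, hw⟩ : V₀)) v : V₀) : G) m := by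
    intro v
    show ρ (v : G) (ρ w m) = ρ ((v : G) * w) m
    rw [map_mul]
    rfl
  rw [Finset.sum_congr rfl (fun v _ => h1 v)]
  exact Equiv.sum_comp (Equiv.mulRight (⟨w, hw⟩ : V₀)) (fun v : V₀ => ρ (v : G) m)

theorem avg_augSub (ρ : Representation k G M) (V₀ : Subgroup G) [Fintype V₀] {m : M}
    (hm : m ∈ augSub ρ V₀) : avg ρ V₀ m = 0 := by
  have hle : augSub ρ V₀ ≤ LinearMap.ker (avg ρ V₀) := by
    unfold augSub
    rw [Submodule.span_le]
    rintro _ ⟨v, hv, m, rfl⟩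
    rw [SetLike.mem_coe, LinearMap.mem_ker, map_sub, avg_comp ρ V₀ hv, sub_self]
  exact hle hm

theorem sub_avg_mem (ρ : Representation k G M) (V₀ : Subgroup G) [Fintype V₀]
    (hne : (Nat.card V₀ : k) ≠ 0) (U : Submodule k M)
    (hU : ∀ v ∈ V₀, ∀ u ∈ U, ρ v u ∈ U) {u : M} (hu : u ∈ U) :
    avg ρ V₀ u ∈ U ∧ u - avg ρ V₀ u ∈ U ⊓ augSub ρ V₀ := by
  have h1 : avg ρ V₀ u ∈ U := by
    rw [avg_apply]
    exact U.smul_mem _ (U.sum_mem fun v _ => hU (v : G) v.2 u hu)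
  refine ⟨h1, U.sub_mem hu h1, ?_⟩
  have h2 : u - avg ρ V₀ u = ((Nat.card V₀ : k)⁻¹) • ∑ v : V₀, (u - ρ (v : G) u) := by
    rw [avg_apply, Finset.sum_sub_distrib, smul_sub, Finset.sum_const, Finset.card_univ,
      ← Nat.card_eq_fintype_card, ← Nat.cast_smul_eq_nsmul k, smul_smul, inv_mul_cancel₀ hne,
      one_smul]
  rw [h2]
  refine Submodule.smul_mem _ _ (Submodule.sum_mem _ fun v _ => ?_)
  have h3 : u - ρ (v : G) u = -(ρ (v : G) u - u) := by abel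
  rw [h3]
  exact Submodule.neg_mem _ (sub_mem_augSub ρ V₀ v.2 u)

theorem avg_mem_fixed (ρ : Representation k G M) (V₀ : Subgroup G) [Fintype V₀] (m : M) :
    avg ρ V₀ m ∈ fixedSub ρ (V₀ : Set G) := by
  intro w hw
  rw [avg_apply, map_smul, map_sum]
  congr 1
  have h1 : ∀ v : V₀, ρ w (ρ (v : G) m) = ρ (((Equiv.mulLeft (⟨w, hw⟩ : V₀)) v : V₀) : G) m := by
    intro v
    show ρ w (ρ (v : G) m) = ρ (w * (v : G)) m
    rw [map_mul]
    rfl
  rw [Finset.sum_congr rfl (fun v _ => h1 v)]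
  exact Equiv.sum_comp (Equiv.mulLeft (⟨w, hw⟩ : V₀)) (fun v : V₀ => ρ (v : G) m)

end

/-- **S4504-FIX** -/
theorem fixed_dichotomy {k : Type*} [Field k] {p : ℕ} [Fact p.Prime] [CharP k p] {G : Type*}
    [Group G] {M : Type*} [AddCommGroup M] [Module k M]
    (ρ : Representation k G M) (N V₀ : Subgroup G) [Finite V₀] (hV₀N : V₀ ≤ N)
    (hcop : (Nat.card V₀).Coprime p) (hnorm : ∀ n ∈ N, ∀ v ∈ V₀, n * v * n⁻¹ ∈ V₀)
    (U : Submodule k M) (hU : IndecOn ρ (N : Set G) U) :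
    U ≤ fixedSub ρ (V₀ : Set G) ∨ U ⊓ fixedSub ρ (V₀ : Set G) = ⊥ := by
  classical
  haveI : Fintype V₀ := Fintype.ofFinite V₀
  have hp : p.Prime := Fact.out
  have hne : (Nat.card V₀ : k) ≠ 0 := by
    intro h0
    rw [CharP.cast_eq_zero_iff k p] at h0
    have h1 : p ∣ Nat.gcd (Nat.card V₀) p := Nat.dvd_gcd h0 dvd_rfl
    rw [hcop] at h1
    exact hp.one_lt.ne' (Nat.dvd_one.1 h1)
  obtain ⟨hU0, hUinv, hUdec⟩ := hU
  have hUV : ∀ v ∈ V₀, ∀ u ∈ U, ρ v u ∈ U := fun v hv u hu => hUinv v (hV₀N hv) u hu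
  -- the two stable pieces
  have hfixinv : InvOn ρ (N : Set G) (fixedSub ρ (V₀ : Set G)) := by
    intro n hn m hm v hv
    have h1 : n⁻¹ * v * n ∈ V₀ := by
      have := hnorm n⁻¹ (N.inv_mem hn) v hv
      rwa [inv_inv] at this
    have h2 : v * n = n * (n⁻¹ * v * n) := by group
    rw [← Module.End.mul_apply, ← map_mul, h2, map_mul, Module.End.mul_apply, hm _ h1]
  have hauginv : InvOn ρ (N : Set G) (augSub ρ V₀) := by
    intro n hn m hm
    have hle : (augSub ρ V₀).map (ρ n) ≤ augSub ρ V₀ := by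
      unfold augSub
      rw [Submodule.map_span_le]
      rintro _ ⟨v, hv, m, rfl⟩
      have h5 : n * v * n⁻¹ * n = n * v := by group
      have h4 : ρ n (ρ v m) = ρ (n * v * n⁻¹) (ρ n m) := by
        calc ρ n (ρ v m) = ρ (n * v) m := by rw [map_mul]; rfl
          _ = ρ (n * v * n⁻¹ * n) m := by rw [h5]
          _ = ρ (n * v * n⁻¹) (ρ n m) := by rw [map_mul]; rfl
      have h3 : ρ n (ρ v m - m) = ρ (n * v * n⁻¹) (ρ n m) - ρ n m := by
        rw [map_sub, h4]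
      rw [h3]
      exact Submodule.subset_span ⟨n * v * n⁻¹, hnorm n hn v hv, ρ n m, rfl⟩
    exact hle (Submodule.mem_map_of_mem hm)
  have hinv₁ : InvOn ρ (N : Set G) (U ⊓ fixedSub ρ (V₀ : Set G)) :=
    fun n hn m hm => ⟨hUinv n hn m hm.1, hfixinv n hn m hm.2⟩
  have hinv₂ : InvOn ρ (N : Set G) (U ⊓ augSub ρ V₀) :=
    fun n hn m hm => ⟨hUinv n hn m hm.1, hauginv n hn m hm.2⟩
  have hsup : (U ⊓ fixedSub ρ (V₀ : Set G)) ⊔ (U ⊓ augSub ρ V₀) = U := by
    apply le_antisymm (sup_le inf_le_left inf_le_left)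
    intro u hu
    obtain ⟨h1, h2⟩ := sub_avg_mem ρ V₀ hne U hUV hu
    have h3 : u = avg ρ V₀ u + (u - avg ρ V₀ u) := by abel
    rw [h3]
    exact Submodule.add_mem_sup ⟨h1, avg_mem_fixed ρ V₀ u⟩ h2
  have hinf : (U ⊓ fixedSub ρ (V₀ : Set G)) ⊓ (U ⊓ augSub ρ V₀) = ⊥ := by
    rw [eq_bot_iff]
    rintro x ⟨⟨-, hx1⟩, ⟨-, hx2⟩⟩
    rw [Submodule.mem_bot, ← avg_fixed ρ V₀ hne hx1]
    exact avg_augSub ρ V₀ hx2
  rcases hUdec _ _ hinv₁ hinv₂ hsup hinf with h | h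
  · exact Or.inr h
  · left
    rw [h, sup_bot_eq] at hsup
    rw [← hsup]
    exact inf_le_right

end Cfsg.Agent.Lib.Helper85_S4504_FIX
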