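import Mathlib
import Cfsg.Agent.Lib.Helper57_ModDefs
import Cfsg.Agent.Lib.Helper57_SupIndep
import Cfsg.Agent.Lib.Helper85_S4504_DEC
import Cfsg.Agent.Lib.Helper71_S4504_G1
import Cfsg.Agent.Lib.Helper85_S4504_FIX
import Cfsg.Agent.Lib.Helper73_S4504_G2

/-!
# S4504, package PK-B (helper57): block decomposition of the `V₀`-fixed part

Assembly of PK-DEC, PK-G1, PK-FIX, PK-G2.
-/

set_option autoImplicit false

namespace Cfsg.Agent.Lib.Helper57_S4504_B

open Cfsg.Agent.Lib.Helper57_ModDefs Cfsg.Agent.Lib.Helper57_SupIndep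

variable {k : Type*} [Field k] {p : ℕ} [Fact p.Prime] [CharP k p] {G : Type*}
  [Group G] [Finite G] {T : Type*} [AddCommGroup T] [Module k T] [FiniteDimensional k T]

theorem comm_mem_normalizer {x v : G} (h : v * x = x * v) :
    v ∈ Subgroup.normalizer ((Subgroup.zpowers x : Subgroup G) : Set G) := by
  rw [Subgroup.mem_normalizer_iff]
  intro g
  have hc : ∀ y ∈ Subgroup.zpowers x, v * y * v⁻¹ = y := by
    intro y hy
    obtain ⟨n, rfl⟩ := Subgroup.mem_zpowers_iff.mp hy
    have : Commute v (x ^ n) := (show Commute v x from h).zpow_right n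
    rw [this.eq, mul_inv_cancel_right]
  constructor
  · intro hg
    rw [hc g hg]
    exact hg
  · intro hg
    have := hc _ hg
    have h2 : g = v⁻¹ * (v * g * v⁻¹) * v := by group
    rw [h2]
    have hc' : v⁻¹ * (v * g * v⁻¹) * v = v * g * v⁻¹ := by
      have h3 : v * (v * g * v⁻¹) * v⁻¹ = v * g * v⁻¹ := this
      calc v⁻¹ * (v * g * v⁻¹) * v = v⁻¹ * (v * (v * g * v⁻¹) * v⁻¹) * v := by rw [h3]
        _ = v * g * v⁻¹ := by group
    rw [hc']
    exact hg

theorem block_decomp (ρ : Representation k G T) (x h : G) (V₀ : Subgroup G) (f : ℕ)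
    (hloc : LocalData p x h V₀ f) (hnil : (ρ x - 1) ^ (p - 1) = 0) :
    ∃ (n : ℕ) (U : Fin n → Submodule k T), (∀ i, InvOn ρ Set.univ (U i)) ∧ (∀ i, U i ≠ ⊥) ∧
      (∀ i, IsBlock (ρ x - 1) (U i)) ∧ iSupIndep U ∧ ⨆ i, U i = fixedSub ρ (V₀ : Set G) := by
  classical
  obtain ⟨n, U, hindec, hind, hsup⟩ := Cfsg.Agent.Lib.Helper85_S4504_DEC.exists_decomp ρ Set.univ (⊤ : Submodule k T)
    (fun g _ w _ => Submodule.mem_top)
  set N : Subgroup G := Subgroup.normalizer ((Subgroup.zpowers x : Subgroup G) : Set G) with hNdef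
  have hVN : V₀ ≤ N := fun v hv => comm_mem_normalizer (hloc.commV v hv)
  have hNind : ∀ i, IndecOn ρ (N : Set G) (U i) := fun i =>
    Cfsg.Agent.Lib.Helper71_S4504_G1.g1 ρ x hloc.ox hloc.syl (U i) (hindec i) (fun w _ => by rw [hnil]; rfl)
  have hdich : ∀ i, U i ≤ fixedSub ρ (V₀ : Set G) ∨ U i ⊓ fixedSub ρ (V₀ : Set G) = ⊥ := fun i =>
    Cfsg.Agent.Lib.Helper85_S4504_FIX.fixed_dichotomy (p := p) ρ N V₀ hVN hloc.copV (fun n hn v hv => hloc.normV n hn v hv) (U i)
      (hNind i)
  -- the fixed space is the sum of the `U i` contained in it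
  set J : Finset (Fin n) := Finset.univ.filter (fun i => U i ≤ fixedSub ρ (V₀ : Set G)) with hJ
  have hfix : fixedSub ρ (V₀ : Set G) = ⨆ j : J, U j.1 := by
    apply le_antisymm
    · intro m hm
      have hmtop : m ∈ ⨆ i, U i := by rw [hsup]; exact Submodule.mem_top
      obtain ⟨u, hu, hum⟩ := exists_sum_of_mem_iSup U hmtop
      have hfixu : ∀ i, u i ∈ fixedSub ρ (V₀ : Set G) := by
        intro i v hv
        have h1 : ∑ i, ρ v (u i) = ∑ i, u i := by
          rw [← map_sum, hum]
          exact hm v hv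
        have h2 := eq_of_sum_eq hind (fun i => ρ v (u i)) u
          (fun i => (hindec i).2.1 v (Set.mem_univ v) _ (hu i)) hu h1
        exact congrFun h2 i
      have hzero : ∀ i, i ∉ J → u i = 0 := by
        intro i hi
        rcases hdich i with h1 | h1
        · exact absurd (Finset.mem_filter.mpr ⟨Finset.mem_univ i, h1⟩) hi
        · have : u i ∈ U i ⊓ fixedSub ρ (V₀ : Set G) := ⟨hu i, hfixu i⟩
          rw [h1] at this
          exact (Submodule.mem_bot k).mp this
      rw [← hum]
      apply Submodule.sum_mem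
      intro i _
      by_cases hi : i ∈ J
      · exact Submodule.mem_iSup_of_mem (⟨i, hi⟩ : J) (hu i)
      · rw [hzero i hi]
        exact Submodule.zero_mem _
    · apply iSup_le
      intro j
      exact (Finset.mem_filter.mp j.2).2
  -- re-index
  let e : J ≃ Fin (Fintype.card J) := Fintype.equivFin J
  refine ⟨Fintype.card J, fun i => U (e.symm i).1, ?_, ?_, ?_, ?_, ?_⟩
  · intro i
    exact (hindec _).2.1
  · intro i
    exact (hindec _).1
  · intro i
    set j : Fin n := (e.symm i).1 with hj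
    have hjJ : U j ≤ fixedSub ρ (V₀ : Set G) := (Finset.mem_filter.mp (e.symm i).2).2
    have hxN : x ∈ N := comm_mem_normalizer rfl
    have hconj : h * x * h⁻¹ ∈ Subgroup.zpowers x := by
      have := (Subgroup.mem_normalizer_iff.mp hloc.hN x).mp (Subgroup.mem_zpowers x)
      exact this
    refine Cfsg.Agent.Lib.Helper73_S4504_G2.g2 (p := p) ρ x h hloc.ox hconj f hloc.fpos hloc.fdvd (N : Set G) hxN hloc.hN (U j)
      (hNind j) ?_ ?_
    · intro g hg
      obtain ⟨jj, c, hc, hgc⟩ := hloc.gen g hg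
      obtain ⟨ii, v, hv, hcv⟩ := hloc.cent c hc
      refine ⟨ii, jj, ?_⟩
      intro w hw
      have hvw : ρ v w = w := hjJ hw v hv
      rw [hgc, hcv, ← mul_assoc, map_mul, Module.End.mul_apply, hvw]
    · intro w hw
      exact hjJ hw _ hloc.hf
  · have : (fun i : Fin (Fintype.card J) => U (e.symm i).1) = U ∘ (fun i => (e.symm i).1) := rfl
    rw [this]
    apply hind.comp
    intro a b hab
    exact e.symm.injective (Subtype.ext hab)
  · rw [hfix]
    apply le_antisymm
    · apply iSup_le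
      intro i
      exact le_iSup (fun j : J => U j.1) (e.symm i)
    · apply iSup_le
      intro j
      have := le_iSup (fun i : Fin (Fintype.card J) => U (e.symm i).1) (e j)
      simpa using this

end Cfsg.Agent.Lib.Helper57_S4504_B
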