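import Mathlib
import Cfsg.Agent.Lib.Helper57_ModDefs
import Cfsg.Agent.Lib.Helper57_S4504_B
import Cfsg.Agent.Lib.Helper34_S4504_N1
import Cfsg.Agent.Lib.Helper20_S4504_C

/-!
# S4504, package PK-W (helper57): a `3`-dimensional `G`-submodule of `End M` on which `x` is one
Jordan block and `V₀` acts trivially.  Assembly of PK-B, PK-C, PK-N1.
-/

set_option autoImplicit false

namespace Cfsg.Agent.Lib.Helper57_S4504_W

open Cfsg.Agent.Lib.Helper57_ModDefs
open Cfsg.Agent.Lib.Helper57_S4504_B

section nil

variable {k : Type*} [Field k] {M : Type*} [AddCommGroup M] [Module k M] [FiniteDimensional k M]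

/-- A nilpotent endomorphism has `finrank`-th power zero. -/
theorem pow_finrank_eq_zero {φ : Module.End k M} (h : IsNilpotent φ) :
    φ ^ Module.finrank k M = 0 := by
  have h1 := LinearMap.aeval_self_charpoly φ
  rw [IsNilpotent.charpoly_eq_X_pow_finrank h] at h1
  simpa using h1

/-- The operator `a ↦ X a Xi - a` is nilpotent of index `≤ 2 d - 1` if `(X - 1)^d = 0`. -/
theorem conj_sub_one_pow (X Xi : Module.End k M) (hX : X * Xi = 1) (hXi : Xi * X = 1) (d : ℕ)
    (hd : (X - 1) ^ d = 0) (m : ℕ) (hm : 2 * d ≤ m + 1) :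
    (LinearMap.mulLeft k X * LinearMap.mulRight k Xi - 1 : Module.End k (Module.End k M)) ^ m
      = 0 := by
  have hXi1 : (Xi - 1) ^ d = 0 := by
    have h1 : Xi - 1 = - (Xi * (X - 1)) := by
      rw [mul_sub, hXi, mul_one]
      abel
    have hcomm : Commute Xi (X - 1) := by
      apply Commute.sub_right
      · show Xi * X = X * Xi
        rw [hX, hXi]
      · exact Commute.one_right Xi
    rw [h1, neg_pow, hcomm.mul_pow, hd, mul_zero, mul_zero]
  set l : Module.End k (Module.End k M) := LinearMap.mulLeft k (X - 1) with hl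
  set r : Module.End k (Module.End k M) := LinearMap.mulRight k (Xi - 1) with hr
  have hlr : Commute l r := by
    apply LinearMap.ext
    intro a
    simp [hl, hr, Module.End.mul_apply, mul_assoc]
  have hld : l ^ d = 0 := by
    apply LinearMap.ext
    intro a
    rw [hl, LinearMap.pow_mulLeft]
    simp [hd]
  have hrd : r ^ d = 0 := by
    apply LinearMap.ext
    intro a
    rw [hr, LinearMap.pow_mulRight]
    simp [hXi1]
  have hexp : (LinearMap.mulLeft k X * LinearMap.mulRight k Xi - 1 :
      Module.End k (Module.End k M)) = l * (1 + r) + r := by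
    apply LinearMap.ext
    intro a
    simp only [hl, hr, LinearMap.sub_apply, Module.End.mul_apply, LinearMap.mulLeft_apply,
      LinearMap.mulRight_apply, Module.End.one_apply, LinearMap.add_apply]
    noncomm_ring
  rw [hexp]
  have hc2 : Commute (l * (1 + r)) r :=
    (hlr.mul_left ((Commute.one_left r).add_left (Commute.refl r)))
  have h1 : (l * (1 + r)) ^ d = 0 := by
    have : Commute l (1 + r) := (Commute.one_right l).add_right hlr
    rw [this.mul_pow, hld, zero_mul]
  exact hc2.add_pow_eq_zero_of_add_le_succ_of_pow_eq_zero h1 hrd (by omega)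

end nil


section main

variable {k : Type*} [Field k] {p : ℕ} [Fact p.Prime] [CharP k p] {G : Type*}
  [Group G] [Finite G] {M : Type*} [AddCommGroup M] [Module k M] [FiniteDimensional k M]

/-- The trace form on `End M`. -/
noncomputable def trForm : LinearMap.BilinForm k (M →ₗ[k] M) :=
  (LinearMap.mul k (Module.End k M)).compr₂ (LinearMap.trace k M)

theorem trForm_apply (a b : M →ₗ[k] M) :
    trForm (k := k) (M := M) a b = LinearMap.trace k M (a * b) := rfl

theorem linHom_sub_one (ρ : Representation k G M) (g : G) :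
    (Representation.linHom ρ ρ g - 1 : Module.End k (M →ₗ[k] M)) =
      LinearMap.mulLeft k (ρ g) * LinearMap.mulRight k (ρ g⁻¹) - 1 := by
  apply LinearMap.ext
  intro a
  simp only [LinearMap.sub_apply, Representation.linHom_apply, Module.End.mul_apply,
    LinearMap.mulLeft_apply, LinearMap.mulRight_apply, Module.End.one_apply]
  rfl

theorem rho_mul_inv (ρ : Representation k G M) (g : G) : ρ g * ρ g⁻¹ = 1 := by
  rw [← map_mul, mul_inv_cancel, map_one]

theorem rho_inv_mul (ρ : Representation k G M) (g : G) : ρ g⁻¹ * ρ g = 1 := by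
  rw [← map_mul, inv_mul_cancel, map_one]

theorem linHom_sub_one_apply (ρ : Representation k G M) (g : G) (a : M →ₗ[k] M) :
    (Representation.linHom ρ ρ g - 1 : Module.End k (M →ₗ[k] M)) a = Dop (ρ g) (ρ g⁻¹) a := by
  rw [linHom_sub_one]
  simp only [LinearMap.sub_apply, Module.End.mul_apply, LinearMap.mulLeft_apply,
    LinearMap.mulRight_apply, Module.End.one_apply, Dop, mul_assoc]

theorem exists_W (ρ : Representation k G M) (x h : G) (V₀ : Subgroup G) (f : ℕ)
    (hloc : LocalData p x h V₀ f) (hdim : 2 * Module.finrank k M + 1 ≤ p) (hx1 : ρ x ≠ 1) :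
    ∃ W : Submodule k (M →ₗ[k] M), InvOn (Representation.linHom ρ ρ) Set.univ W ∧
      Module.finrank k W = 3 ∧ IsBlock (Representation.linHom ρ ρ x - 1) W ∧
      ∀ v ∈ V₀, ∀ w ∈ W, Representation.linHom ρ ρ v w = w := by
  classical
  have hp := (Fact.out : p.Prime)
  set X : Module.End k M := ρ x with hXdef
  set Xi : Module.End k M := ρ x⁻¹ with hXidef
  have hX : X * Xi = 1 := rho_mul_inv ρ x
  have hXi : Xi * X = 1 := rho_inv_mul ρ x
  have hXp : X ^ p = 1 := by
    rw [hXdef, ← map_pow, ← hloc.ox, pow_orderOf_eq_one, map_one]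
  -- nilpotency
  have hnilX : IsNilpotent (X - 1) := by
    refine ⟨p, ?_⟩
    have hpoly : ((Polynomial.X : Polynomial k) - 1) ^ p = Polynomial.X ^ p - 1 := by
      rw [sub_pow_char, one_pow]
    have := congrArg (Polynomial.aeval X) hpoly
    simpa [hXp] using this
  have hd : (X - 1) ^ Module.finrank k M = 0 := pow_finrank_eq_zero hnilX
  set D : Module.End k (M →ₗ[k] M) := Representation.linHom ρ ρ x - 1 with hD
  have hDnil : D ^ (p - 1) = 0 := by
    rw [hD, linHom_sub_one]
    exact conj_sub_one_pow X Xi hX hXi _ hd (p - 1) (by omega)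
  obtain ⟨n, U, hUinv, hUne, hUblock, hUind, hUsup⟩ :=
    Cfsg.Agent.Lib.Helper57_S4504_B.block_decomp (Representation.linHom ρ ρ) x h V₀ f hloc hDnil
  -- the element `c`
  haveI : Finite V₀ := inferInstance
  obtain ⟨c, hccomm, hc3, hctr⟩ := Cfsg.Agent.Lib.Helper20_S4504_C.exists_c (p := p) X Xi hX hXi hdim hx1 hXp (V := V₀)
    hloc.copV (ρ.comp V₀.subtype) (by
      intro v
      show Commute (ρ (v : G)) (ρ x)
      have : (v : G) * x = x * v := hloc.commV v v.2
      show ρ (v : G) * ρ x = ρ x * ρ (v : G)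
      rw [← map_mul, ← map_mul, this])
  have hcfix : c ∈ fixedSub (Representation.linHom ρ ρ) (V₀ : Set G) := by
    intro v hv
    rw [Representation.linHom_apply]
    have h1 : Commute (ρ v) c := hccomm ⟨v, hv⟩
    show ρ v * c * ρ v⁻¹ = c
    rw [h1.eq, mul_assoc, rho_mul_inv, mul_one]
  have hDapp : ∀ a, D a = Dop X Xi a := fun a => linHom_sub_one_apply ρ x a
  have h3 : (D ^ 3) c = 0 := by
    rw [pow_succ, pow_succ, pow_one, Module.End.mul_apply, Module.End.mul_apply, hDapp, hDapp,
      hDapp]
    exact hc3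
  have hne : trForm (k := k) (M := M) ((D ^ 2) c) c ≠ 0 := by
    rw [pow_succ, pow_one, Module.End.mul_apply, hDapp, hDapp, trForm_apply]
    exact hctr
  have hτ : ∀ a b, trForm (k := k) (M := M) ((1 + D) a) ((1 + D) b) = trForm a b := by
    intro a b
    have h1 : ∀ a, (1 + D) a = X * a * Xi := by
      intro a
      rw [LinearMap.add_apply, Module.End.one_apply, hDapp, Dop]
      abel
    rw [h1, h1, trForm_apply, trForm_apply]
    have : X * a * Xi * (X * b * Xi) = X * (a * b) * Xi := by
      calc X * a * Xi * (X * b * Xi) = X * a * (Xi * X) * b * Xi := by noncomm_ring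
        _ = X * (a * b) * Xi := by rw [hXi]; noncomm_ring
    rw [this, LinearMap.trace_mul_comm, ← mul_assoc, hXi, one_mul]
  obtain ⟨i, hi⟩ := Cfsg.Agent.Lib.Helper34_S4504_N1.exists_block_three D ⟨p - 1, hDnil⟩ trForm hτ U hUblock hUind c
    (by rw [hUsup]; exact hcfix) h3 hne
  refine ⟨U i, hUinv i, hi, hUblock i, ?_⟩
  intro v hv w hw
  have : w ∈ fixedSub (Representation.linHom ρ ρ) (V₀ : Set G) := by
    rw [← hUsup]
    exact Submodule.mem_iSup_of_mem i hw
  exact this v hv

end main

end Cfsg.Agent.Lib.Helper57_S4504_W
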