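import Mathlib
import Cfsg.Prelude.Def_Characters
import Cfsg.Prelude.Def_Blocks
import Cfsg.Agent.Lib.Helper57_ModDefs

set_option autoImplicit false

namespace Cfsg.Agent.Lib.Helper70_S4504_K2

open Cfsg Cfsg.Agent.Lib.Helper57_ModDefs
open scoped Pointwise commutatorElement

section tools

variable {Γ : Type*} [Group Γ] [Finite Γ] {p : ℕ}

theorem factorization_eq_one [hp : Fact p.Prime] (hsyl : ¬ p ^ 2 ∣ Nat.card Γ) (y : Γ) (hy : orderOf y = p) :
    (Nat.card Γ).factorization p = 1 := by
  have hne : Nat.card Γ ≠ 0 := Nat.card_pos.ne'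
  have h1 : p ^ 1 ∣ Nat.card Γ := by
    rw [pow_one, ← hy]; exact orderOf_dvd_natCard y
  have h1' := (Nat.Prime.pow_dvd_iff_le_factorization hp.out hne).mp h1
  have h2' : ¬ 2 ≤ (Nat.card Γ).factorization p := fun h =>
    hsyl ((Nat.Prime.pow_dvd_iff_le_factorization hp.out hne).mpr h)
  omega

/-- two elements of order `p` in a group with `p² ∤ |Γ|`: one is conjugate into the cyclic group
generated by the other -/
theorem exists_conj_mem_zpowers [hp : Fact p.Prime] (hsyl : ¬ p ^ 2 ∣ Nat.card Γ) (y y' : Γ) (hy : orderOf y = p)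
    (hy' : orderOf y' = p) : ∃ γ : Γ, γ * y' * γ⁻¹ ∈ Subgroup.zpowers y := by
  have hf := factorization_eq_one hsyl y hy
  let P : Sylow p Γ := Sylow.ofCard (Subgroup.zpowers y) (by rw [Nat.card_zpowers, hy, hf, pow_one])
  let P' : Sylow p Γ := Sylow.ofCard (Subgroup.zpowers y') (by rw [Nat.card_zpowers, hy', hf, pow_one])
  obtain ⟨γ, hγ⟩ := MulAction.exists_smul_eq Γ P' P
  refine ⟨γ, ?_⟩
  have h1 : y' ∈ (P' : Subgroup Γ) := Subgroup.mem_zpowers y'
  have h2 : MulAut.conj γ • y' ∈ MulAut.conj γ • (P' : Subgroup Γ) :=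
    Subgroup.smul_mem_pointwise_smul_iff.mpr h1
  rw [← Sylow.coe_subgroup_smul, hγ] at h2
  have hP : (P : Subgroup Γ) = Subgroup.zpowers y := Sylow.coe_ofCard _ _
  rw [hP] at h2
  simpa [MulAut.smul_def, MulAut.conj_apply] using h2

omit [Finite Γ] in
theorem card_mul_relIndex_of_le {H K : Subgroup Γ} (h : H ≤ K) :
    Nat.card H * H.relIndex K = Nat.card K := by
  have h1 := Subgroup.card_mul_index (H.subgroupOf K)
  rwa [Nat.card_congr (Subgroup.subgroupOfEquivOfLe h).toEquiv] at h1

omit [Finite Γ] in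
theorem coprime_card_sup (A B : Subgroup Γ) [B.Normal] (hA : (Nat.card A).Coprime p)
    (hB : (Nat.card B).Coprime p) : (Nat.card ↥(A ⊔ B)).Coprime p := by
  have h1 := card_mul_relIndex_of_le (le_sup_right : B ≤ A ⊔ B)
  rw [Subgroup.relIndex_sup_right] at h1
  rw [← h1]
  exact Nat.Coprime.mul_left hB (Nat.Coprime.coprime_dvd_left (Subgroup.relIndex_dvd_card B A) hA)

/-- the largest normal `p'`-subgroup -/
theorem exists_largest_normal_pprime (p : ℕ) :
    ∃ M : Subgroup Γ, M.Normal ∧ (Nat.card M).Coprime p ∧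
      ∀ L : Subgroup Γ, L.Normal → (Nat.card L).Coprime p → L ≤ M := by
  classical
  let α := {L : Subgroup Γ // L.Normal ∧ (Nat.card L).Coprime p}
  have : Nonempty α := ⟨⟨⊥, inferInstance, by simp⟩⟩
  obtain ⟨M, hM⟩ := Finite.exists_max (fun L : α => Nat.card L.1)
  refine ⟨M.1, M.2.1, M.2.2, ?_⟩
  intro L hLn hLc
  have := hLn
  have := M.2.1
  have hc : (Nat.card ↥(L ⊔ M.1)).Coprime p := coprime_card_sup L M.1 hLc M.2.2
  have hle := hM ⟨L ⊔ M.1, Subgroup.sup_normal L M.1, hc⟩
  have heq : M.1 = L ⊔ M.1 := Subgroup.eq_of_le_of_card_ge le_sup_right hle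
  rw [heq]; exact le_sup_left

end tools

theorem normalClosure_facts {G : Type*} [Group G] [Finite G] {p : ℕ} [Fact p.Prime] (x h : G)
    (V₀ : Subgroup G) (f : ℕ) (hloc : LocalData p x h V₀ f)
    (hPn : ¬ (Subgroup.zpowers x).Normal)
    (hK : ∀ K : Subgroup G, K.Normal → (Nat.card K).Coprime p → ∀ g ∈ K, g * x = x * g)
    (x' : ↥(Subgroup.normalClosure ({x} : Set G))) (hx' : (x' : G) = x) :
    orderOf x' = p ∧ ¬ p ^ 2 ∣ Nat.card ↥(Subgroup.normalClosure ({x} : Set G)) ∧
    Subgroup.normalClosure ({x'} : Set ↥(Subgroup.normalClosure ({x} : Set G))) = ⊤ ∧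
    ¬ (Subgroup.zpowers x').Normal ∧
    (∀ K : Subgroup ↥(Subgroup.normalClosure ({x} : Set G)), K.Normal →
      (Nat.card K).Coprime p → ∀ g ∈ K, g * x' = x' * g) ∧
    commutator ↥(Subgroup.normalClosure ({x} : Set G)) = ⊤ := by
  classical
  have hp : p.Prime := Fact.out
  have hΓn : (Subgroup.normalClosure ({x} : Set G)).Normal := Subgroup.normalClosure_normal
  have hox : orderOf x = p := hloc.ox
  -- (i)
  have h1 : orderOf x' = p := by rw [← Subgroup.orderOf_coe, hx', hox]
  -- (ii)
  have h2 : ¬ p ^ 2 ∣ Nat.card ↥(Subgroup.normalClosure ({x} : Set G)) :=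
    fun hh => hloc.syl (hh.trans (Subgroup.card_subgroup_dvd_card _))
  -- conjugates of `x` as elements of `Γ`
  have hconjΓ : ∀ g : G, g * x * g⁻¹ ∈ Subgroup.normalClosure ({x} : Set G) := fun g =>
    hΓn.conj_mem x (Subgroup.subset_normalClosure (Set.mem_singleton x)) g
  have hconj_ord : ∀ g : G, orderOf (⟨g * x * g⁻¹, hconjΓ g⟩ :
      ↥(Subgroup.normalClosure ({x} : Set G))) = p := by
    intro g
    rw [← Subgroup.orderOf_coe]
    show orderOf (g * x * g⁻¹) = p
    rw [← hox]
    have := MulEquiv.orderOf_eq (MulAut.conj g) x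
    simpa [MulAut.conj_apply] using this
  -- (iii)
  have h3 : Subgroup.normalClosure ({x'} : Set ↥(Subgroup.normalClosure ({x} : Set G))) = ⊤ := by
    have hxN : x' ∈ Subgroup.normalClosure ({x'} : Set ↥(Subgroup.normalClosure ({x} : Set G))) :=
      Subgroup.subset_normalClosure (Set.mem_singleton x')
    have hNn : (Subgroup.normalClosure
        ({x'} : Set ↥(Subgroup.normalClosure ({x} : Set G)))).Normal :=
      Subgroup.normalClosure_normal
    have key : Subgroup.normalClosure ({x} : Set G) ≤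
        (Subgroup.normalClosure ({x'} : Set ↥(Subgroup.normalClosure ({x} : Set G)))).map
          (Subgroup.normalClosure ({x} : Set G)).subtype := by
      unfold Subgroup.normalClosure
      rw [Subgroup.closure_le]
      intro c hc
      rw [Group.mem_conjugatesOfSet_iff] at hc
      obtain ⟨a, ha, hac⟩ := hc
      rw [Set.mem_singleton_iff] at ha
      subst ha
      rw [isConj_iff] at hac
      obtain ⟨g, hg⟩ := hac
      obtain ⟨γ, hγ⟩ := exists_conj_mem_zpowers h2 x' ⟨g * a * g⁻¹, hconjΓ g⟩ h1 (hconj_ord g)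
      have hz : Subgroup.zpowers x' ≤
          Subgroup.normalClosure ({x'} : Set ↥(Subgroup.normalClosure ({a} : Set G))) := by
        rw [Subgroup.zpowers_le]; exact hxN
      have h5 := hNn.conj_mem _ (hz hγ) γ⁻¹
      have h6 : γ⁻¹ * (γ * ⟨g * a * g⁻¹, hconjΓ g⟩ * γ⁻¹) * γ⁻¹⁻¹ = ⟨g * a * g⁻¹, hconjΓ g⟩ := by
        group
      rw [h6] at h5
      rw [← hg]
      exact ⟨⟨g * a * g⁻¹, hconjΓ g⟩, h5, rfl⟩
    rw [eq_top_iff]
    intro γ _
    obtain ⟨n, hn, hnγ⟩ := key γ.2
    have : n = γ := Subtype.ext hnγ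
    rw [← this]; exact hn
  -- every conjugate of `x` in `zpowers x'` when the latter is normal
  have h4 : ¬ (Subgroup.zpowers x').Normal := by
    intro hn
    apply hPn
    have hgx : ∀ g : G, g * x * g⁻¹ ∈ Subgroup.zpowers x := by
      intro g
      obtain ⟨γ, hγ⟩ := exists_conj_mem_zpowers h2 x' ⟨g * x * g⁻¹, hconjΓ g⟩ h1 (hconj_ord g)
      have h5 := hn.conj_mem _ hγ γ⁻¹
      have h6 : γ⁻¹ * (γ * ⟨g * x * g⁻¹, hconjΓ g⟩ * γ⁻¹) * γ⁻¹⁻¹ = ⟨g * x * g⁻¹, hconjΓ g⟩ := by
        group
      rw [h6, Subgroup.mem_zpowers_iff] at h5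
      obtain ⟨k, hk⟩ := h5
      rw [Subgroup.mem_zpowers_iff]
      refine ⟨k, ?_⟩
      have := congrArg Subtype.val hk
      simpa [hx'] using this
    constructor
    intro n hn' g
    rw [Subgroup.mem_zpowers_iff] at hn'
    obtain ⟨k, rfl⟩ := hn'
    rw [← conj_zpow]
    exact (Subgroup.zpowers x).zpow_mem (hgx g) k
  -- (v)
  have h5 : ∀ K : Subgroup ↥(Subgroup.normalClosure ({x} : Set G)), K.Normal →
      (Nat.card K).Coprime p → ∀ g ∈ K, g * x' = x' * g := by
    obtain ⟨M, hMn, hMc, hMmax⟩ :=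
      exists_largest_normal_pprime (Γ := ↥(Subgroup.normalClosure ({x} : Set G))) p
    have hinj : Function.Injective (Subgroup.normalClosure ({x} : Set G)).subtype :=
      Subgroup.subtype_injective _
    have hMGn : (M.map (Subgroup.normalClosure ({x} : Set G)).subtype).Normal := by
      constructor
      intro n hn g
      obtain ⟨m, hm, rfl⟩ := hn
      let φ : ↥(Subgroup.normalClosure ({x} : Set G)) ≃* ↥(Subgroup.normalClosure ({x} : Set G)) :=
        MulAut.conjNormal g
      have hLn : (M.map φ.toMonoidHom).Normal := hMn.map φ.toMonoidHom φ.surjective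
      have hLc : (Nat.card ↥(M.map φ.toMonoidHom)).Coprime p := by
        have hcard : Nat.card ↥(M.map φ.toMonoidHom) = Nat.card ↥M :=
          Subgroup.card_map_of_injective φ.injective
        rw [hcard]; exact hMc
      have hLM := hMmax _ hLn hLc
      have hmem : φ m ∈ M := hLM ⟨m, hm, rfl⟩
      refine ⟨φ m, hmem, ?_⟩
      exact MulAut.conjNormal_apply g m
    have hMGc : (Nat.card ↥(M.map (Subgroup.normalClosure ({x} : Set G)).subtype)).Coprime p := by
      rw [Subgroup.card_map_of_injective hinj]; exact hMc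
    have hcent := hK _ hMGn hMGc
    intro K hKn hKc g hg
    have hgM : g ∈ M := hMmax K hKn hKc hg
    have := hcent g.1 ⟨g, hgM, rfl⟩
    apply Subtype.ext
    simpa [hx'] using this
  refine ⟨h1, h2, h3, h4, h5, ?_⟩
  -- (vi)
  by_cases hxD : x' ∈ commutator ↥(Subgroup.normalClosure ({x} : Set G))
  · have hle : Subgroup.normalClosure ({x'} : Set ↥(Subgroup.normalClosure ({x} : Set G))) ≤
        commutator ↥(Subgroup.normalClosure ({x} : Set G)) :=
      Subgroup.normalClosure_le_normal (by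
        intro y hy; rw [Set.mem_singleton_iff] at hy; subst hy; exact hxD)
    rw [h3] at hle
    exact eq_top_iff.mpr hle
  · exfalso
    apply h4
    -- `D ⊔ ⟨x'⟩` is normal, hence everything
    have hHn : (commutator ↥(Subgroup.normalClosure ({x} : Set G)) ⊔ Subgroup.zpowers x').Normal := by
      constructor
      intro n hn γ
      have e : γ * n * γ⁻¹ = ⁅γ, n⁆ * n := by
        rw [commutatorElement_def]; group
      rw [e]
      refine Subgroup.mul_mem _ (le_sup_left (a := commutator _) ?_) hn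
      rw [commutator_def]
      exact Subgroup.commutator_mem_commutator (Subgroup.mem_top γ) (Subgroup.mem_top n)
    have hHtop : commutator ↥(Subgroup.normalClosure ({x} : Set G)) ⊔ Subgroup.zpowers x' = ⊤ := by
      have hle : Subgroup.normalClosure ({x'} : Set ↥(Subgroup.normalClosure ({x} : Set G))) ≤
          commutator ↥(Subgroup.normalClosure ({x} : Set G)) ⊔ Subgroup.zpowers x' :=
        Subgroup.normalClosure_le_normal (by
          intro y hy; rw [Set.mem_singleton_iff] at hy; subst hy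
          exact le_sup_right (a := commutator _) (Subgroup.mem_zpowers y))
      rw [h3] at hle
      exact eq_top_iff.mpr hle
    -- `p ∤ |D|`
    have hDc : (Nat.card ↥(commutator ↥(Subgroup.normalClosure ({x} : Set G)))).Coprime p := by
      rw [Nat.coprime_comm, Nat.Prime.coprime_iff_not_dvd hp]
      intro hdvd
      obtain ⟨y, hy⟩ := exists_prime_orderOf_dvd_card' p hdvd
      have hy' : orderOf (y : ↥(Subgroup.normalClosure ({x} : Set G))) = p := by
        rw [Subgroup.orderOf_coe]; exact hy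
      obtain ⟨γ, hγ⟩ := exists_conj_mem_zpowers h2 (y : ↥(Subgroup.normalClosure ({x} : Set G)))
        x' hy' h1
      have hz : Subgroup.zpowers (y : ↥(Subgroup.normalClosure ({x} : Set G))) ≤
          commutator ↥(Subgroup.normalClosure ({x} : Set G)) := by
        rw [Subgroup.zpowers_le]; exact y.2
      have hDn : (commutator ↥(Subgroup.normalClosure ({x} : Set G))).Normal := inferInstance
      have h6 := hDn.conj_mem _ (hz hγ) γ⁻¹
      have h7 : γ⁻¹ * (γ * x' * γ⁻¹) * γ⁻¹⁻¹ = x' := by group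
      rw [h7] at h6
      exact hxD h6
    have hDcent := h5 _ inferInstance hDc
    rw [← Subgroup.normalizer_eq_top_iff, eq_top_iff, ← hHtop]
    apply sup_le
    · intro d hd
      apply Subgroup.centralizer_le_normalizer
      rw [Subgroup.mem_centralizer_iff]
      intro n hn
      rw [SetLike.mem_coe, Subgroup.mem_zpowers_iff] at hn
      obtain ⟨k, rfl⟩ := hn
      have hc : Commute x' d := (hDcent d hd).symm
      exact (hc.zpow_left k).eq
    · exact Subgroup.le_normalizer

end Cfsg.Agent.Lib.Helper70_S4504_K2
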