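import Mathlib
import Cfsg.Prelude.Def_Characters
import Cfsg.Prelude.Def_Blocks
import Cfsg.Agent.Lib.Helper57_ModDefs

/-!
# S4504, package PK-K3 (`finish_MT`) for helper57

From a homomorphism `φ₁ : Γ →* PSL₂(k)` with `φ₁ x ≠ 1` to a surjection `Γ →* PSL₂(ZMod p)` with the same kernel,
given the Dickson-type hypothesis.  The group theory is done abstractly in `finish_aux` (any target group).
-/

set_option autoImplicit false

namespace Cfsg.Agent.Lib.Helper71_S4504_K3

open Cfsg Cfsg.Agent.Lib.Helper57_ModDefs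

/-- The image of `φ₁` is perfect, of order divisible by `p` exactly once, and its Sylow `p`-subgroups are not normal. -/
theorem finish_aux {p : ℕ} [Fact p.Prime] {Γ : Type*} [Group Γ] [Finite Γ] {T : Type*} [Group T]
    (x : Γ) (hx : orderOf x = p)
    (hsyl : ¬ p ^ 2 ∣ Nat.card Γ) (hPn : ¬ (Subgroup.zpowers x).Normal)
    (hK : ∀ K : Subgroup Γ, K.Normal → (Nat.card K).Coprime p → ∀ g ∈ K, g * x = x * g)
    (hperf : commutator Γ = ⊤)
    (φ₁ : Γ →* T) (hφx : φ₁ x ≠ 1) :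
    ∃ _ : Finite φ₁.range, commutator φ₁.range = ⊤ ∧ p ∣ Nat.card φ₁.range ∧ ¬ p ^ 2 ∣ Nat.card φ₁.range ∧
      ∀ P : Sylow p φ₁.range, ¬ (P : Subgroup φ₁.range).Normal := by
  classical
  have hp : p.Prime := Fact.out
  set ψ : Γ →* φ₁.range := φ₁.rangeRestrict with hψ
  have hψs : Function.Surjective ψ := φ₁.rangeRestrict_surjective
  have hfin : Finite φ₁.range := Finite.of_surjective ψ hψs
  have hψval : ∀ g, ((ψ g : φ₁.range) : T) = φ₁ g := fun g => MonoidHom.coe_rangeRestrict φ₁ g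
  have hψx : ψ x ≠ 1 := by
    intro h
    apply hφx
    rw [← hψval, h]; rfl
  have hordψ : orderOf (ψ x) = p := by
    have h1 : (ψ x) ^ p = 1 := by rw [← map_pow, ← hx, pow_orderOf_eq_one, map_one]
    exact orderOf_eq_prime h1 hψx
  have hdvd : p ∣ Nat.card φ₁.range := hordψ ▸ orderOf_dvd_natCard (ψ x)
  have hcard : Nat.card φ₁.ker * Nat.card φ₁.range = Nat.card Γ := by
    rw [← Subgroup.index_ker]; exact Subgroup.card_mul_index _
  have hnsq : ¬ p ^ 2 ∣ Nat.card φ₁.range := fun h => hsyl (hcard ▸ Dvd.dvd.mul_left h _)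
  have hkercop : (Nat.card φ₁.ker).Coprime p := by
    rw [Nat.coprime_comm, Nat.Prime.coprime_iff_not_dvd hp]
    intro h
    apply hsyl
    rw [← hcard, pow_two]
    exact Nat.mul_dvd_mul h hdvd
  have hkercomm := hK φ₁.ker inferInstance hkercop
  refine ⟨hfin, ?_, hdvd, hnsq, ?_⟩
  · rw [commutator_def, ← Subgroup.map_top_of_surjective ψ hψs, ← Subgroup.map_commutator,
      ← commutator_def, hperf]
  · intro P hPnorm
    apply hPn
    have hfac : (Nat.card φ₁.range).factorization p = 1 := by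
      have hne : Nat.card φ₁.range ≠ 0 := Nat.card_pos.ne'
      have h1 : 1 ≤ (Nat.card φ₁.range).factorization p :=
        (hp.pow_dvd_iff_le_factorization hne).1 (by simpa using hdvd)
      have h2 : ¬ 2 ≤ (Nat.card φ₁.range).factorization p :=
        fun h => hnsq ((hp.pow_dvd_iff_le_factorization hne).2 h)
      omega
    have hPcard : Nat.card P = p := by rw [P.card_eq_multiplicity, hfac, pow_one]
    have hzle : Subgroup.zpowers (ψ x) ≤ (P : Subgroup φ₁.range) := by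
      have hpg : IsPGroup p (Subgroup.zpowers (ψ x)) :=
        IsPGroup.of_card (n := 1) (by rw [Nat.card_zpowers, hordψ, pow_one])
      obtain ⟨Q, hQ⟩ := hpg.exists_le_sylow
      have := Sylow.unique_of_normal P hPnorm
      rwa [Subsingleton.elim Q P] at hQ
    have hzeq : Subgroup.zpowers (ψ x) = (P : Subgroup φ₁.range) := by
      apply Subgroup.eq_of_le_of_card_ge hzle
      rw [Nat.card_zpowers, hordψ]
      exact hPcard.le
    constructor
    intro n hn g
    obtain ⟨i, rfl⟩ := Subgroup.mem_zpowers_iff.1 hn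
    suffices h : g * x * g⁻¹ ∈ Subgroup.zpowers x by
      have h2 : g * x ^ i * g⁻¹ = (g * x * g⁻¹) ^ i := by rw [conj_zpow]
      rw [h2]; exact Subgroup.zpow_mem _ h i
    have hmem : ψ (g * x * g⁻¹) ∈ Subgroup.zpowers (ψ x) := by
      rw [hzeq, map_mul, map_mul, map_inv]
      exact hPnorm.conj_mem _ (hzeq ▸ Subgroup.mem_zpowers _) _
    obtain ⟨j, hj⟩ := Subgroup.mem_zpowers_iff.1 hmem
    set y := g * x * g⁻¹ with hy
    have hnker : (x ^ j)⁻¹ * y ∈ φ₁.ker := by
      rw [MonoidHom.mem_ker, ← hψval, map_mul, map_inv, map_zpow, hj, inv_mul_cancel]; rfl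
    have hnx : (x ^ j)⁻¹ * y * x = x * ((x ^ j)⁻¹ * y) := hkercomm _ hnker
    have hyp : y ^ p = 1 := by rw [hy, conj_pow, ← hx, pow_orderOf_eq_one]; group
    have hxjp : (x ^ j) ^ p = 1 := by
      rw [← zpow_natCast, ← zpow_mul, mul_comm, zpow_mul, zpow_natCast, ← hx, pow_orderOf_eq_one,
        one_zpow]
    have hcomm : Commute (x ^ j) ((x ^ j)⁻¹ * y) := by
      have h1 : Commute x ((x ^ j)⁻¹ * y) := hnx.symm
      exact h1.zpow_left j
    have hnp : ((x ^ j)⁻¹ * y) ^ p = 1 := by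
      have h1 : y = x ^ j * ((x ^ j)⁻¹ * y) := by group
      have h2 := hyp
      rw [h1, hcomm.mul_pow, hxjp, one_mul] at h2
      exact h2
    have hn1 : (x ^ j)⁻¹ * y = 1 := by
      have h1 : orderOf ((x ^ j)⁻¹ * y) ∣ p := orderOf_dvd_of_pow_eq_one hnp
      have h2 : orderOf ((x ^ j)⁻¹ * y) ∣ Nat.card φ₁.ker := by
        have := orderOf_dvd_natCard (⟨_, hnker⟩ : φ₁.ker)
        rwa [Subgroup.orderOf_mk] at this
      have h3 : orderOf ((x ^ j)⁻¹ * y) ∣ 1 := by
        have := Nat.dvd_gcd h2 h1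
        rwa [hkercop] at this
      exact orderOf_eq_one_iff.1 (Nat.dvd_one.1 h3)
    have hyx : y = x ^ j := by
      have := congrArg (fun t => x ^ j * t) hn1
      simpa using this
    rw [hyx]
    exact Subgroup.zpow_mem _ (Subgroup.mem_zpowers x) j

/-- **PK-K3** : from a homomorphism to `PSL₂(k)` to the conclusion -/
theorem finish_MT {k : Type*} [Field k] [Fintype k] {p : ℕ} [Fact p.Prime] [CharP k p]
    (hp5 : 5 ≤ p) {Γ : Type*} [Group Γ] [Finite Γ] (x : Γ) (hx : orderOf x = p)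
    (hsyl : ¬ p ^ 2 ∣ Nat.card Γ) (hPn : ¬ (Subgroup.zpowers x).Normal)
    (hK : ∀ K : Subgroup Γ, K.Normal → (Nat.card K).Coprime p → ∀ g ∈ K, g * x = x * g)
    (hperf : commutator Γ = ⊤)
    (φ₁ : Γ →* Matrix.ProjectiveSpecialLinearGroup (Fin 2) k) (hφx : φ₁ x ≠ 1)
    (dickson : ∀ H : Subgroup (Matrix.ProjectiveSpecialLinearGroup (Fin 2) k),
      commutator H = ⊤ → p ∣ Nat.card H → ¬ p ^ 2 ∣ Nat.card H →
      (∀ P : Sylow p H, ¬ (P : Subgroup H).Normal) →
      Nonempty (H ≃* Matrix.ProjectiveSpecialLinearGroup (Fin 2) (ZMod p))) :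
    ∃ φ : Γ →* Matrix.ProjectiveSpecialLinearGroup (Fin 2) (ZMod p),
      Function.Surjective φ ∧ ∀ g, φ g = 1 ↔ φ₁ g = 1 := by
  obtain ⟨_, h1, h2, h3, h4⟩ := finish_aux x hx hsyl hPn hK hperf φ₁ hφx
  obtain ⟨e⟩ := dickson φ₁.range h1 h2 h3 h4
  refine ⟨e.toMonoidHom.comp φ₁.rangeRestrict,
    e.surjective.comp φ₁.rangeRestrict_surjective, fun g => ?_⟩
  have h5 : (e.toMonoidHom.comp φ₁.rangeRestrict) g = e (φ₁.rangeRestrict g) := rfl
  rw [h5, MulEquiv.map_eq_one_iff, ← MonoidHom.mem_ker, MonoidHom.ker_rangeRestrict,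
    MonoidHom.mem_ker]

end Cfsg.Agent.Lib.Helper71_S4504_K3
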