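import Mathlib
import Cfsg.Prelude.Def_Characters
import Cfsg.Agent.Lib.Helper57_ModDefs

set_option autoImplicit false

/-!
S4504-W2 (helper85, for helper57): the case `dim M = 2`.  If `x` has order `p = char k ≠ 2` and acts
non-trivially on the 2-dimensional module `M`, then `W = sl(M)` (the trace-zero endomorphisms) is a
3-dimensional submodule of `End(M)` on which `Ad(x)` is one Jordan block, `p'`-elements centralizing
`x` act trivially on `End(M)`, and the trace form is non-degenerate on `W`.
-/

namespace Cfsg.Agent.Lib.Helper85_S4504_W2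

open Cfsg Cfsg.Agent.Lib.Helper57_ModDefs Matrix

section mat

variable {k : Type*} [Field k]

/-- the matrix of `x` -/
def mA : Matrix (Fin 2) (Fin 2) k := !![1, 1; 0, 1]
/-- the matrix of `x⁻¹` -/
def mA' : Matrix (Fin 2) (Fin 2) k := !![1, -1; 0, 1]
/-- the generator `t = E₁₀` of the Jordan block -/
def mT : Matrix (Fin 2) (Fin 2) k := !![0, 0; 1, 0]
/-- `D t` -/
def mH : Matrix (Fin 2) (Fin 2) k := !![1, -1; 0, -1]
/-- `D² t` -/
def mY : Matrix (Fin 2) (Fin 2) k := !![0, -2; 0, 0]

theorem mA_mul_mA' : (mA : Matrix (Fin 2) (Fin 2) k) * mA' = 1 := by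
  ext i j
  fin_cases i <;> fin_cases j <;> simp [mA, mA', Matrix.mul_apply, Fin.sum_univ_two]

theorem mA'_mul_mA : (mA' : Matrix (Fin 2) (Fin 2) k) * mA = 1 := by
  ext i j
  fin_cases i <;> fin_cases j <;> simp [mA, mA', Matrix.mul_apply, Fin.sum_univ_two]

theorem conj_mT : (mA : Matrix (Fin 2) (Fin 2) k) * mT * mA' - mT = mH := by
  ext i j
  fin_cases i <;> fin_cases j <;>
    simp [mA, mA', mT, mH, Matrix.mul_apply, Fin.sum_univ_two]

theorem conj_mH : (mA : Matrix (Fin 2) (Fin 2) k) * mH * mA' - mH = mY := by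
  ext i j
  fin_cases i <;> fin_cases j <;>
    simp [mA, mA', mH, mY, Matrix.mul_apply, Fin.sum_univ_two] <;> ring

theorem trace_mT : (mT : Matrix (Fin 2) (Fin 2) k).trace = 0 := by
  simp [mT, Matrix.trace_fin_two]

theorem trace_mH : (mH : Matrix (Fin 2) (Fin 2) k).trace = 0 := by
  simp [mH, Matrix.trace_fin_two]

theorem trace_mY : (mY : Matrix (Fin 2) (Fin 2) k).trace = 0 := by
  simp [mY, Matrix.trace_fin_two]

/-- a trace-zero matrix is a combination of `t`, `D t`, `D² t` -/
theorem decomp (h2 : (2 : k) ≠ 0) (m : Matrix (Fin 2) (Fin 2) k) (hm : m.trace = 0) :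
    m = m 1 0 • mT + m 0 0 • mH + (-(m 0 0 + m 0 1) / 2) • mY := by
  rw [Matrix.trace_fin_two] at hm
  have h11 : m 1 1 = - m 0 0 := eq_neg_of_add_eq_zero_right hm
  ext i j
  fin_cases i <;> fin_cases j <;>
    simp [mT, mH, mY, h11] <;> field_simp <;> ring

/-- the commutant of `A` -/
theorem comm_mA (B : Matrix (Fin 2) (Fin 2) k) (h : B * mA = mA * B) :
    B = !![B 0 0, B 0 1; 0, B 0 0] := by
  have h00 := congrFun (congrFun h 0) 0
  have h01 := congrFun (congrFun h 0) 1
  simp [mA, Matrix.mul_apply, Fin.sum_univ_two] at h00 h01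
  ext i j
  fin_cases i <;> fin_cases j <;> simp
  · exact h00
  · linear_combination -h01

theorem pow_upper (a b : k) (n : ℕ) :
    (!![a, b; 0, a] : Matrix (Fin 2) (Fin 2) k) ^ n = !![a ^ n, n * a ^ (n - 1) * b; 0, a ^ n] := by
  induction n with
  | zero =>
    ext i j
    fin_cases i <;> fin_cases j <;> simp
  | succ n ih =>
    rw [pow_succ, ih]
    ext i j
    fin_cases i <;> fin_cases j <;> simp [Matrix.mul_apply, Fin.sum_univ_two, pow_succ]
    cases n with
    | zero => simp
    | succ n =>
      simp [pow_succ]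
      ring

/-- a matrix commuting with `A` of finite order prime to the characteristic is scalar -/
theorem scalar_of_comm (B : Matrix (Fin 2) (Fin 2) k) (h : B * mA = mA * B) (n : ℕ)
    (hn : (n : k) ≠ 0) (hB : B ^ n = 1) : B = B 0 0 • (1 : Matrix (Fin 2) (Fin 2) k) := by
  have hB' := comm_mA B h
  set a := B 0 0
  set b := B 0 1
  rw [hB', pow_upper] at hB
  have h00 := congrFun (congrFun hB 0) 0
  have h01 := congrFun (congrFun hB 0) 1
  simp at h00 h01
  have ha : a ≠ 0 := by
    rintro h0
    rw [h0] at h00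
    rcases Nat.eq_zero_or_pos n with hn0 | hn0
    · rw [hn0] at hn
      exact hn Nat.cast_zero
    · rw [zero_pow hn0.ne'] at h00
      exact zero_ne_one h00
  have hb : b = 0 := by
    rcases h01 with (h1 | h1) | h1
    · exact absurd h1 hn
    · exact absurd h1.1 ha
    · exact h1
  rw [hB', hb]
  ext i j
  fin_cases i <;> fin_cases j <;> simp

/-- the trace form is non-degenerate on trace-zero matrices -/
theorem trace_form_nondeg (h2 : (2 : k) ≠ 0) (m : Matrix (Fin 2) (Fin 2) k) (hm : m.trace = 0)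
    (h : ∀ b : Matrix (Fin 2) (Fin 2) k, b.trace = 0 → (m * b).trace = 0) : m = 0 := by
  rw [Matrix.trace_fin_two] at hm
  have h11 : m 1 1 = - m 0 0 := eq_neg_of_add_eq_zero_right hm
  have e1 := h !![0, 0; 1, 0] (by simp [Matrix.trace_fin_two])
  have e2 := h !![0, 1; 0, 0] (by simp [Matrix.trace_fin_two])
  have e3 := h !![1, 0; 0, -1] (by simp [Matrix.trace_fin_two])
  simp [Matrix.trace_fin_two, Matrix.mul_apply, Fin.sum_univ_two] at e1 e2 e3
  rw [h11] at e3
  have h00 : m 0 0 = 0 := by
    have : (2 : k) * m 0 0 = 0 := by linear_combination e3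
    rcases mul_eq_zero.1 this with h | h
    · exact absurd h h2
    · exact h
  ext i j
  fin_cases i <;> fin_cases j <;> simp
  · exact h00
  · exact e1
  · exact e2
  · rw [h11, h00, neg_zero]

end mat

section main

open Module

theorem linHom_apply' {k : Type*} [Field k] {G : Type*} [Group G] {M : Type*} [AddCommGroup M]
    [Module k M] (ρ : Representation k G M) (g : G) (c : M →ₗ[k] M) :
    Representation.linHom ρ ρ g c = ρ g * c * ρ g⁻¹ := by
  rw [Representation.linHom_apply]
  show ρ g * (c * ρ g⁻¹) = ρ g * c * ρ g⁻¹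
  rw [mul_assoc]

/-- **S4504-W2** -/
theorem sl2_case {k : Type*} [Field k] {p : ℕ} [Fact p.Prime] [CharP k p] (hp2 : p ≠ 2)
    {G : Type*} [Group G] {M : Type*} [AddCommGroup M] [Module k M] [FiniteDimensional k M]
    (ρ : Representation k G M) (hdim : Module.finrank k M = 2) (x : G) (hx : orderOf x = p)
    (hx1 : ρ x ≠ 1) :
    let W : Submodule k (M →ₗ[k] M) := LinearMap.ker (LinearMap.trace k M)
    InvOn (Representation.linHom ρ ρ) Set.univ W ∧ Module.finrank k W = 3 ∧
      IsBlock (Representation.linHom ρ ρ x - 1) W ∧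
      (∀ v : G, v * x = x * v → IsOfFinOrder v → (orderOf v).Coprime p →
        ∀ w : M →ₗ[k] M, Representation.linHom ρ ρ v w = w) ∧
      (∀ a ∈ W, (∀ b ∈ W, LinearMap.trace k M (a * b) = 0) → a = 0) := by
  intro W
  classical
  have hp : p.Prime := Fact.out
  have h2 : (2 : k) ≠ 0 := by
    intro h
    have h' : ((2 : ℕ) : k) = 0 := by exact_mod_cast h
    rw [CharP.cast_eq_zero_iff k p] at h'
    exact hp2 ((Nat.prime_dvd_prime_iff_eq hp Nat.prime_two).1 h')
  -- the unipotent element
  set X : Module.End k M := ρ x with hX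
  have hXp : X ^ p = 1 := by
    rw [hX, ← map_pow, ← hx, pow_orderOf_eq_one, map_one]
  set N : Module.End k M := X - 1 with hN
  have hNp : N ^ p = 0 := by
    have hpoly : ((Polynomial.X : Polynomial k) - 1) ^ p = Polynomial.X ^ p - 1 := by
      rw [sub_pow_char, one_pow]
    have h1 := congrArg (Polynomial.aeval X) hpoly
    simp only [map_pow, map_sub, Polynomial.aeval_X, map_one] at h1
    rw [hN, h1, hXp, sub_self]
  have hN2 : N ^ 2 = 0 := by
    have hnil : IsNilpotent N := ⟨p, hNp⟩
    have hc := IsNilpotent.charpoly_eq_X_pow_finrank hnil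
    have h1 := LinearMap.aeval_self_charpoly N
    rw [hc, hdim, map_pow, Polynomial.aeval_X] at h1
    exact h1
  have hN0 : N ≠ 0 := fun h => hx1 (sub_eq_zero.1 h)
  obtain ⟨e₂, he₂⟩ : ∃ e₂, N e₂ ≠ 0 := by
    by_contra hcon
    push Not at hcon
    exact hN0 (LinearMap.ext hcon)
  set e₁ := N e₂ with he₁
  have hNe₁ : N e₁ = 0 := by
    rw [he₁, ← Module.End.mul_apply, ← pow_two, hN2]
    rfl
  have hli : LinearIndependent k ![e₁, e₂] := by
    rw [LinearIndependent.pair_iff]
    intro s t hst
    have h1 := congrArg N hst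
    rw [map_add, map_smul, map_smul, hNe₁, smul_zero, zero_add, map_zero] at h1
    have ht : t = 0 := by
      rcases smul_eq_zero.1 h1 with h | h
      · exact h
      · exact absurd h he₂
    rw [ht, zero_smul, add_zero] at hst
    have hs : s = 0 := by
      rcases smul_eq_zero.1 hst with h | h
      · exact h
      · exact absurd h he₂
    exact ⟨hs, ht⟩
  have hcard : Fintype.card (Fin 2) = finrank k M := by rw [Fintype.card_fin, hdim]
  set b : Basis (Fin 2) k M := basisOfLinearIndependentOfCardEqFinrank hli hcard with hbdef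
  have hbcoe : ⇑b = ![e₁, e₂] := coe_basisOfLinearIndependentOfCardEqFinrank hli hcard
  have hb0 : b 0 = e₁ := by rw [hbcoe]; rfl
  have hb1 : b 1 = e₂ := by rw [hbcoe]; rfl
  have hXe₁ : X e₁ = e₁ := by
    have h1 : N e₁ = X e₁ - e₁ := rfl
    rw [hNe₁] at h1
    exact (sub_eq_zero.1 h1.symm)
  have hXe₂ : X e₂ = e₂ + e₁ := by
    have h1 : e₁ = X e₂ - e₂ := rfl
    rw [h1]
    abel
  -- matrices
  set φ : (M →ₗ[k] M) ≃ₐ[k] Matrix (Fin 2) (Fin 2) k := LinearMap.toMatrixAlgEquiv b with hφdef
  have hφ : ∀ f : M →ₗ[k] M, φ f = LinearMap.toMatrix b b f := fun f => rfl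
  have htr : ∀ f : M →ₗ[k] M, LinearMap.trace k M f = (φ f).trace := by
    intro f
    rw [hφ, LinearMap.trace_eq_matrix_trace k b f]
  have hmemW : ∀ f : M →ₗ[k] M, f ∈ W ↔ (φ f).trace = 0 := by
    intro f
    rw [← htr]
    exact LinearMap.mem_ker
  have hφX : φ X = mA := by
    have h1 : X = Matrix.toLin b b mA := by
      apply b.ext
      intro i
      rw [Matrix.toLin_self, Fin.sum_univ_two]
      fin_cases i
      · show X (b 0) = _
        rw [hb0, hb1, hXe₁]
        simp [mA]
      · show X (b 1) = _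
        rw [hb0, hb1, hXe₂]
        simp [mA]
        abel
    rw [hφ, h1, LinearMap.toMatrix_toLin]
  set X' : Module.End k M := ρ x⁻¹ with hX'
  have hX'X : X' * X = 1 := by
    rw [hX', hX, ← map_mul, inv_mul_cancel, map_one]
  have hφX' : φ X' = mA' := by
    have h1 : φ X' * mA = 1 := by rw [← hφX, ← map_mul, hX'X, map_one]
    calc φ X' = φ X' * (mA * mA') := by rw [mA_mul_mA', mul_one]
      _ = (φ X' * mA) * mA' := by rw [mul_assoc]
      _ = mA' := by rw [h1, one_mul]
  set D : Module.End k (M →ₗ[k] M) := Representation.linHom ρ ρ x - 1 with hD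
  have hDc : ∀ c : M →ₗ[k] M, D c = X * c * X' - c := by
    intro c
    rw [hD, LinearMap.sub_apply, linHom_apply']
    rfl
  have hφD : ∀ c : M →ₗ[k] M, φ (D c) = mA * φ c * mA' - φ c := by
    intro c
    rw [hDc, map_sub, map_mul, map_mul, hφX, hφX']
  -- (a) invariance
  have hinv : InvOn (Representation.linHom ρ ρ) Set.univ W := by
    intro g _ w hw
    have hw' : LinearMap.trace k M w = 0 := LinearMap.mem_ker.1 hw
    apply LinearMap.mem_ker.2
    rw [linHom_apply', LinearMap.trace_mul_cycle, ← map_mul, inv_mul_cancel, map_one, one_mul]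
    exact hw'
  have hDW : ∀ w ∈ W, D w ∈ W := by
    intro w hw
    rw [hD, LinearMap.sub_apply]
    exact W.sub_mem (hinv x (Set.mem_univ x) w hw) hw
  -- (b) dimension
  have hfin : finrank k W = 3 := by
    show finrank k ↥(LinearMap.ker (LinearMap.trace k M)) = 3
    have h1 := LinearMap.finrank_range_add_finrank_ker (LinearMap.trace k M)
    have h4 : finrank k (M →ₗ[k] M) = 4 := by rw [Module.finrank_linearMap, hdim]
    have hr : LinearMap.range (LinearMap.trace k M) = ⊤ := by
      rw [LinearMap.range_eq_top]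
      intro c
      refine ⟨(c / 2) • (1 : M →ₗ[k] M), ?_⟩
      rw [map_smul, LinearMap.trace_one, hdim, smul_eq_mul]
      push_cast
      field_simp
    rw [hr, finrank_top, Module.finrank_self, h4] at h1
    omega
  -- the generator of the block
  set t : M →ₗ[k] M := φ.symm mT with ht
  have hφt : φ t = mT := φ.apply_symm_apply mT
  have hφDt : φ (D t) = mH := by rw [hφD, hφt, conj_mT]
  have hφDDt : φ (D (D t)) = mY := by rw [hφD, hφDt, conj_mH]
  have htW : t ∈ W := by rw [hmemW, hφt, trace_mT]
  have hblock : IsBlock D W := by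
    refine ⟨t, ?_⟩
    apply le_antisymm
    · intro w hw
      have hw0 : (φ w).trace = 0 := (hmemW w).1 hw
      have hdec := decomp h2 (φ w) hw0
      have hw' : w = (φ w 1 0) • t + (φ w 0 0) • D t
          + (-(φ w 0 0 + φ w 0 1) / 2) • D (D t) := by
        apply φ.injective
        rw [map_add, map_add, map_smul, map_smul, map_smul, hφt, hφDt, hφDDt]
        exact hdec
      rw [hw']
      have m0 : t ∈ Submodule.span k (Set.range fun i : ℕ => (D ^ i) t) :=
        Submodule.subset_span ⟨0, rfl⟩
      have m1 : D t ∈ Submodule.span k (Set.range fun i : ℕ => (D ^ i) t) :=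
        Submodule.subset_span ⟨1, by simp⟩
      have m2 : D (D t) ∈ Submodule.span k (Set.range fun i : ℕ => (D ^ i) t) :=
        Submodule.subset_span ⟨2, by simp [pow_two]⟩
      exact Submodule.add_mem _ (Submodule.add_mem _ (Submodule.smul_mem _ _ m0)
        (Submodule.smul_mem _ _ m1)) (Submodule.smul_mem _ _ m2)
    · rw [Submodule.span_le]
      rintro _ ⟨i, rfl⟩
      induction i with
      | zero => exact htW
      | succ i ih =>
        show (D ^ (i + 1)) t ∈ W
        rw [pow_succ', Module.End.mul_apply]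
        exact hDW _ ih
  -- (d) centralizing p'-elements act trivially
  have hcent : ∀ v : G, v * x = x * v → IsOfFinOrder v → (orderOf v).Coprime p →
      ∀ w : M →ₗ[k] M, Representation.linHom ρ ρ v w = w := by
    intro v hvx hfin hcop w
    have hcomm : φ (ρ v) * mA = mA * φ (ρ v) := by
      rw [← hφX, ← map_mul, ← map_mul, hX, ← map_mul, ← map_mul, hvx]
    have hn0 : ((orderOf v : ℕ) : k) ≠ 0 := by
      intro h0
      rw [CharP.cast_eq_zero_iff k p] at h0
      have h1 : p ∣ Nat.gcd (orderOf v) p := Nat.dvd_gcd h0 dvd_rfl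
      rw [hcop] at h1
      exact hp.one_lt.ne' (Nat.dvd_one.1 h1)
    have hpow : φ (ρ v) ^ orderOf v = 1 := by
      rw [← map_pow, ← map_pow, pow_orderOf_eq_one, map_one, map_one]
    have hsc := scalar_of_comm (φ (ρ v)) hcomm (orderOf v) hn0 hpow
    have hρv : ρ v = (φ (ρ v) 0 0) • (1 : M →ₗ[k] M) := by
      apply φ.injective
      rw [map_smul, map_one]
      exact hsc
    have hcw : ρ v * w = w * ρ v := by
      rw [hρv, smul_mul_assoc, one_mul, mul_smul_comm, mul_one]
    rw [linHom_apply', hcw, mul_assoc, ← map_mul, mul_inv_cancel, map_one, mul_one]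
  -- (e) the trace form
  have hform : ∀ a ∈ W, (∀ b ∈ W, LinearMap.trace k M (a * b) = 0) → a = 0 := by
    intro a ha hab
    apply φ.injective
    rw [map_zero]
    apply trace_form_nondeg h2 (φ a) ((hmemW a).1 ha)
    intro b' hb'
    have hbW : φ.symm b' ∈ W := by
      rw [hmemW, φ.apply_symm_apply]
      exact hb'
    have h1 := hab (φ.symm b') hbW
    rw [htr, map_mul, φ.apply_symm_apply] at h1
    exact h1
  exact ⟨hinv, hfin, hblock, hcent, hform⟩

end main

end Cfsg.Agent.Lib.Helper85_S4504_W2
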