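import Mathlib
import Cfsg.Prelude.Def_Characters
import Cfsg.Prelude.Def_Blocks
import Cfsg.Agent.Lib.Helper57_ModDefs

/-!
# Package PK-K4 of S4504 (architect helper57): `p'`-elements of `C_G(x)` lie in `V₀` (helper87)
-/

set_option autoImplicit false

namespace Cfsg.Agent.Lib.Helper87_S4504_K4

open Cfsg Cfsg.Agent.Lib.Helper57_ModDefs

/-- PK-K4 : `p'`-elements of `C_G(x)` lie in `V₀` -/
theorem mem_V₀_of_comm {G : Type*} [Group G] [Finite G] {p : ℕ} [Fact p.Prime] (x h : G)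
    (V₀ : Subgroup G) (f : ℕ) (hloc : LocalData p x h V₀ f) (g : G) (hg : g * x = x * g)
    (hcop : (orderOf g).Coprime p) : g ∈ V₀ := by
  have hpp : p.Prime := Fact.out
  obtain ⟨i, v, hv, hgv⟩ := hloc.cent g hg
  have hvx : Commute v x := hloc.commV v hv
  have hcomm : Commute (x ^ i) v := (hvx.symm).pow_left i
  set m := orderOf g with hm
  have h1 : (x ^ i) ^ m * v ^ m = 1 := by
    rw [← hcomm.mul_pow, ← hgv, hm, pow_orderOf_eq_one]
  -- `y := x ^ (i * m)` lies in `V₀`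
  have hy : (x ^ i) ^ m ∈ V₀ := by
    have h2 : (x ^ i) ^ m = (v ^ m)⁻¹ := eq_inv_of_mul_eq_one_left h1
    rw [h2]
    exact V₀.inv_mem (V₀.pow_mem hv m)
  -- its order divides `|V₀|` and `p`
  have h3 : ((x ^ i) ^ m) ^ Nat.card V₀ = 1 := by
    have h4 : (⟨(x ^ i) ^ m, hy⟩ : V₀) ^ Nat.card V₀ = 1 := pow_card_eq_one'
    exact congrArg Subtype.val h4
  have h5 : ((x ^ i) ^ m) ^ p = 1 := by
    have h5' : x ^ p = 1 := by rw [← hloc.ox, pow_orderOf_eq_one]
    calc ((x ^ i) ^ m) ^ p = (x ^ p) ^ (i * m) := by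
          rw [← pow_mul, ← pow_mul, ← pow_mul]
          congr 1
          ring
      _ = 1 := by rw [h5', one_pow]
  have h6 : orderOf ((x ^ i) ^ m) ∣ Nat.gcd (Nat.card V₀) p :=
    Nat.dvd_gcd (orderOf_dvd_of_pow_eq_one h3) (orderOf_dvd_of_pow_eq_one h5)
  rw [Nat.Coprime.gcd_eq_one hloc.copV, Nat.dvd_one, orderOf_eq_one_iff] at h6
  -- so `p ∣ i * m`, hence `p ∣ i`
  have h7 : p ∣ i * m := by
    rw [← pow_mul] at h6
    rw [← hloc.ox]
    exact orderOf_dvd_of_pow_eq_one h6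
  have h8 : p ∣ i := by
    rcases (Nat.Prime.dvd_mul hpp).mp h7 with h | h
    · exact h
    · exfalso
      have h9 : p ∣ Nat.gcd m p := Nat.dvd_gcd h dvd_rfl
      rw [Nat.Coprime.gcd_eq_one hcop, Nat.dvd_one] at h9
      exact hpp.one_lt.ne' h9
  have h10 : x ^ i = 1 := by
    rw [← hloc.ox] at h8
    exact orderOf_dvd_iff_pow_eq_one.mp h8
  rw [hgv, h10, one_mul]
  exact hv

end Cfsg.Agent.Lib.Helper87_S4504_K4
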