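import Mathlib
import Cfsg.Prelude.Def_Characters
import Cfsg.Prelude.Def_Blocks
import Cfsg.Agent.Lib.Helper57_ModDefs
import Cfsg.Agent.Lib.Helper87_S4504_K4

/-!
# Package PK-K1 of S4504 (architect helper57): a normal subgroup not containing `x` lies in `V₀`
(helper87)
-/

set_option autoImplicit false

namespace Cfsg.Agent.Lib.Helper87_S4504_K1

open Cfsg Cfsg.Agent.Lib.Helper57_ModDefs

/-- a normal subgroup of order divisible by `p` contains every element of order `p`, when `p`
divides the group order exactly once -/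
theorem mem_of_normal_of_dvd {G : Type*} [Group G] [Finite G] {p : ℕ} [Fact p.Prime] (x : G)
    (hox : orderOf x = p) (hsyl : ¬ p ^ 2 ∣ Nat.card G) (K : Subgroup G) (hKn : K.Normal)
    (hdvd : p ∣ Nat.card K) : x ∈ K := by
  have hpp : p.Prime := Fact.out
  obtain ⟨y, hy⟩ := exists_prime_orderOf_dvd_card' p hdvd
  have hpG : p ∣ Nat.card G := by
    rw [← hox]
    exact orderOf_dvd_natCard x
  have hfac : (Nat.card G).factorization p = 1 := by
    have hn : Nat.card G ≠ 0 := Nat.card_pos.ne'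
    have h3 : 1 ≤ (Nat.card G).factorization p :=
      (hpp.pow_dvd_iff_le_factorization hn).mp (by simpa using hpG)
    have h4 : ¬ 2 ≤ (Nat.card G).factorization p :=
      fun h => hsyl ((hpp.pow_dvd_iff_le_factorization hn).mpr h)
    omega
  have hcx : Nat.card (Subgroup.zpowers x) = p ^ (Nat.card G).factorization p := by
    rw [Nat.card_zpowers, hox, hfac, pow_one]
  have hcy : Nat.card (Subgroup.zpowers (y : G)) = p ^ (Nat.card G).factorization p := by
    rw [Nat.card_zpowers, Subgroup.orderOf_coe, hy, hfac, pow_one]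
  set Px : Sylow p G := Sylow.ofCard (Subgroup.zpowers x) hcx with hPx
  set Py : Sylow p G := Sylow.ofCard (Subgroup.zpowers (y : G)) hcy with hPy
  obtain ⟨g, hg⟩ := MulAction.exists_smul_eq G Py Px
  have hxmem : x ∈ (Px : Subgroup G) := Subgroup.mem_zpowers x
  rw [← hg, Sylow.coe_subgroup_smul, Subgroup.mem_pointwise_smul_iff_inv_smul_mem] at hxmem
  have h1 : g⁻¹ * x * g ∈ Subgroup.zpowers (y : G) := by
    have h0 : ((MulAut.conj g)⁻¹ • x : G) = g⁻¹ * x * g := by
      rw [MulAut.smul_def, MulAut.conj_inv_apply]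
    rw [← h0]
    exact hxmem
  have h2 : Subgroup.zpowers (y : G) ≤ K := by
    rw [Subgroup.zpowers_le]
    exact y.2
  have h3 : g⁻¹ * x * g ∈ K := h2 h1
  have h5 := hKn.conj_mem _ h3 g
  simpa [mul_assoc] using h5

/-- PK-K1 : a normal subgroup not containing `x` lies in `V₀` -/
theorem normal_le_V₀ {G : Type*} [Group G] [Finite G] {p : ℕ} [Fact p.Prime] (x h : G)
    (V₀ : Subgroup G) (f : ℕ) (hloc : LocalData p x h V₀ f)
    (hK : ∀ K : Subgroup G, K.Normal → (Nat.card K).Coprime p → ∀ g ∈ K, g * x = x * g)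
    (K : Subgroup G) (hKn : K.Normal) (hx : x ∉ K) : K ≤ V₀ := by
  have hpp : p.Prime := Fact.out
  have hcop : (Nat.card K).Coprime p := by
    rw [Nat.coprime_comm, Nat.Prime.coprime_iff_not_dvd hpp]
    intro hdvd
    exact hx (mem_of_normal_of_dvd x hloc.ox hloc.syl K hKn hdvd)
  intro g hg
  apply Cfsg.Agent.Lib.Helper87_S4504_K4.mem_V₀_of_comm x h V₀ f hloc g (hK K hKn hcop g hg)
  have h1 : orderOf g ∣ Nat.card K := by
    have h2 : orderOf (⟨g, hg⟩ : K) ∣ Nat.card K := orderOf_dvd_natCard _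
    rwa [← Subgroup.orderOf_coe] at h2
  exact Nat.Coprime.coprime_dvd_left h1 hcop

end Cfsg.Agent.Lib.Helper87_S4504_K1
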