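import Mathlib
import Cfsg.Agent.Lib.Helper57_ModDefs
import Cfsg.Agent.Lib.Helper34_S4504_Block

set_option autoImplicit false

namespace Cfsg.Agent.Lib.Helper34_S4504_N1p

open Cfsg.Agent.Lib.Helper57_ModDefs Cfsg.Agent.Lib.Helper34_S4504_Block

/-! ## PK-N1' -/
theorem exists_block_one {k : Type*} [Field k] {T : Type*} [AddCommGroup T] [Module k T]
    [FiniteDimensional k T] (D : Module.End k T) (hnil : ∃ m : ℕ, D ^ m = 0)
    {n : ℕ} (U : Fin n → Submodule k T) (hU : ∀ i, IsBlock D (U i)) (hne : ∀ i, U i ≠ ⊥)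
    (hind : iSupIndep U) (s : T) (hs : s ∈ ⨆ i, U i) (hs0 : D s = 0)
    (hs1 : ∀ b ∈ ⨆ i, U i, D b ≠ s) :
    ∃ i, Module.finrank k (U i) = 1 := by
  classical
  by_contra hcon
  push Not at hcon
  choose t ht using hU
  have hidx := fun i => exists_idx D hnil (t i)
  choose a ha0 hamin using hidx
  have hUc : ∀ i, U i = cyc D (t i) := ht
  have hfr : ∀ i, Module.finrank k (U i) = a i := by
    intro i
    rw [hUc i]
    exact finrank_cyc D hnil (t i) (ha0 i) (hamin i)
  have ha2 : ∀ i, 1 < a i := by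
    intro i
    have h1 : a i ≠ 1 := by rw [← hfr i]; exact hcon i
    have h0 : a i ≠ 0 := by
      intro h
      apply hne i
      have := hfr i
      rw [h] at this
      exact Submodule.finrank_eq_zero.1 this
    omega
  obtain ⟨μ, hμU, hμ⟩ := (mem_iSup_iff_sum s).1 hs
  have hDμ : ∀ i, D (μ i) = 0 := by
    apply indep_sum_zero hind (fun i => D (μ i))
    · intro i
      rw [hUc i]
      exact map_mem_cyc D (t i) _ (by rw [← hUc i]; exact hμU i)
    · rw [← map_sum, hμ, hs0]
  have hb : ∀ i, ∃ b ∈ U i, D b = μ i := by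
    intro i
    have := exists_preimage D hnil (t i) (hamin i) (r := 1) (ha2 i) (μ i)
      (by rw [← hUc i]; exact hμU i) (by rw [pow_one]; exact hDμ i)
    rw [← hUc i] at this
    exact this
  choose b hbU hbD using hb
  apply hs1 (∑ i, b i) (sum_mem_iSup b hbU)
  rw [map_sum, ← hμ]
  exact Finset.sum_congr rfl fun i _ => hbD i

end Cfsg.Agent.Lib.Helper34_S4504_N1p
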