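import Mathlib
import Cfsg.Agent.Lib.Helper57_ModDefs
import Cfsg.Agent.Lib.Helper34_S4504_N1p
import Cfsg.Agent.Lib.Helper57_S4504_B

set_option autoImplicit false
set_option maxSynthPendingDepth 3

/-!
S4504 package N2 (helper57 market): a simple 3-dimensional module on which an element of order `p ≥ 7`
acts as one Jordan block carries a non-degenerate invariant symmetric bilinear form.
-/

namespace Cfsg.Agent.Lib.Helper8_S4504_N2

open Cfsg.Agent.Lib.Helper57_ModDefs

section ops

variable {k : Type*} [Field k] {W : Type*} [AddCommGroup W] [Module k W]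

/-- precomposition in the first variable -/
def Lop (A : Module.End k W) : Module.End k (LinearMap.BilinForm k W) where
  toFun B := LinearMap.comp B A
  map_add' B B' := by
    ext u v
    simp
  map_smul' c B := by
    ext u v
    simp

/-- precomposition in the second variable -/
def Rop (A : Module.End k W) : Module.End k (LinearMap.BilinForm k W) where
  toFun B := LinearMap.compl₂ B A
  map_add' B B' := by
    ext u v
    simp
  map_smul' c B := by
    ext u v
    simp

theorem Lop_apply (A : Module.End k W) (B : LinearMap.BilinForm k W) (u v : W) :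
    Lop A B u v = B (A u) v := rfl

theorem Rop_apply (A : Module.End k W) (B : LinearMap.BilinForm k W) (u v : W) :
    Rop A B u v = B u (A v) := rfl

theorem Lop_one : Lop (1 : Module.End k W) = 1 := by
  ext B u v
  rfl

theorem Rop_one : Rop (1 : Module.End k W) = 1 := by
  ext B u v
  rfl

theorem Lop_sub (A A' : Module.End k W) : Lop (A - A') = Lop A - Lop A' := by
  ext B u v
  simp [Lop_apply]

theorem Rop_sub (A A' : Module.End k W) : Rop (A - A') = Rop A - Rop A' := by
  ext B u v
  simp [Rop_apply]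

theorem Lop_pow (A : Module.End k W) (n : ℕ) : Lop A ^ n = Lop (A ^ n) := by
  induction n with
  | zero => rw [pow_zero, pow_zero, Lop_one]
  | succ n ih =>
    rw [pow_succ, ih]
    ext B u v
    rw [Module.End.mul_apply, Lop_apply, Lop_apply, Lop_apply, pow_succ', Module.End.mul_apply]

theorem Rop_pow (A : Module.End k W) (n : ℕ) : Rop A ^ n = Rop (A ^ n) := by
  induction n with
  | zero => rw [pow_zero, pow_zero, Rop_one]
  | succ n ih =>
    rw [pow_succ, ih]
    ext B u v
    rw [Module.End.mul_apply, Rop_apply, Rop_apply, Rop_apply, pow_succ', Module.End.mul_apply]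

theorem Lop_zero : Lop (0 : Module.End k W) = 0 := by
  ext B u v
  simp [Lop_apply]

theorem Rop_zero : Rop (0 : Module.End k W) = 0 := by
  ext B u v
  simp [Rop_apply]

theorem Lop_comm_Rop (A A' : Module.End k W) : Commute (Lop A) (Rop A') := by
  ext B u v
  rfl

end ops

section rep

variable {k : Type*} [Field k] {Γ : Type*} [Group Γ] {W : Type*} [AddCommGroup W] [Module k W]

/-- the representation on bilinear forms -/
noncomputable def bilRep (σ : Representation k Γ W) :
    Representation k Γ (LinearMap.BilinForm k W) :=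
  Representation.linHom σ σ.dual

theorem bilRep_apply (σ : Representation k Γ W) (g : Γ) (B : LinearMap.BilinForm k W) (u v : W) :
    bilRep σ g B u v = B (σ g⁻¹ u) (σ g⁻¹ v) := by
  unfold bilRep
  rw [Representation.linHom_apply, Representation.dual_apply]
  rfl

theorem bilRep_eq (σ : Representation k Γ W) (g : Γ) :
    bilRep σ g = Lop (σ g⁻¹) * Rop (σ g⁻¹) := by
  ext B u v
  rw [bilRep_apply, Module.End.mul_apply, Lop_apply, Rop_apply]

theorem rep_inv_apply (σ : Representation k Γ W) (g : Γ) (u : W) : σ g⁻¹ (σ g u) = u := by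
  rw [← Module.End.mul_apply, ← map_mul, inv_mul_cancel, map_one, Module.End.one_apply]

theorem rep_apply_inv (σ : Representation k Γ W) (g : Γ) (u : W) : σ g (σ g⁻¹ u) = u := by
  rw [← Module.End.mul_apply, ← map_mul, mul_inv_cancel, map_one, Module.End.one_apply]

end rep

section unipotent

variable {k : Type*} [Field k] {p : ℕ} [Fact p.Prime] [CharP k p] {W : Type*} [AddCommGroup W]
  [Module k W]

theorem sub_one_pow_p (X : Module.End k W) (hX : X ^ p = 1) : (X - 1) ^ p = 0 := by
  have h1 : ((Polynomial.X : Polynomial k) - 1) ^ p = Polynomial.X ^ p - 1 := by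
    rw [sub_pow_char, one_pow]
  have h2 := congrArg (Polynomial.aeval X) h1
  rw [map_pow, map_sub, map_sub, map_pow, Polynomial.aeval_X, map_one, hX, sub_self] at h2
  exact h2

theorem sub_one_pow_finrank [FiniteDimensional k W] (X : Module.End k W) (hX : X ^ p = 1) :
    (X - 1) ^ Module.finrank k W = 0 := by
  have hnil : IsNilpotent (X - 1) := ⟨p, sub_one_pow_p X hX⟩
  have h1 := (LinearMap.isNilpotent_iff_charpoly (X - 1)).1 hnil
  have h2 := LinearMap.aeval_self_charpoly (X - 1)
  rw [h1, map_pow, Polynomial.aeval_X] at h2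
  exact h2

end unipotent

section nil

variable {k : Type*} [Field k] {p : ℕ} [Fact p.Prime] [CharP k p] {Γ : Type*} [Group Γ]
  {W : Type*} [AddCommGroup W] [Module k W] [FiniteDimensional k W]

theorem bilRep_sub_one_pow (σ : Representation k Γ W) (g : Γ) (hg : g ^ p = 1)
    (hdim : Module.finrank k W = 3) : (bilRep σ g - 1) ^ 5 = 0 := by
  have hY : (σ g⁻¹) ^ p = 1 := by
    rw [← map_pow, inv_pow, hg, inv_one, map_one]
  have hM : (σ g⁻¹ - 1) ^ 3 = 0 := by
    have h := sub_one_pow_finrank (σ g⁻¹) hY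
    rwa [hdim] at h
  have ha : (Lop (σ g⁻¹) - 1) ^ 3 = 0 := by
    rw [← Lop_one, ← Lop_sub, Lop_pow, hM, Lop_zero]
  have hb : (Rop (σ g⁻¹) - 1) ^ 3 = 0 := by
    rw [← Rop_one, ← Rop_sub, Rop_pow, hM, Rop_zero]
  have hcomm : Commute (Lop (σ g⁻¹)) (Rop (σ g⁻¹)) := Lop_comm_Rop _ _
  have h1 : Commute (Lop (σ g⁻¹) - 1) (Rop (σ g⁻¹)) := hcomm.sub_left (Commute.one_left _)
  have h2 : Commute (Lop (σ g⁻¹) - 1) (Rop (σ g⁻¹) - 1) := h1.sub_right (Commute.one_right _)
  have h3 : Commute (Rop (σ g⁻¹)) (Rop (σ g⁻¹) - 1) :=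
    (Commute.refl _).sub_right (Commute.one_right _)
  have hD : bilRep σ g - 1 =
      (Lop (σ g⁻¹) - 1) * Rop (σ g⁻¹) + (Rop (σ g⁻¹) - 1) := by
    rw [bilRep_eq, sub_mul, one_mul]
    abel
  have hA : ((Lop (σ g⁻¹) - 1) * Rop (σ g⁻¹)) ^ 3 = 0 := by
    rw [h1.mul_pow, ha, zero_mul]
  rw [hD]
  exact Commute.add_pow_eq_zero_of_add_le_succ_of_pow_eq_zero (h2.mul_left h3) hA hb (by norm_num)

omit [FiniteDimensional k W] in
theorem exists_basis (N : Module.End k W) (hN : N ^ 3 = 0) (hdim : Module.finrank k W = 3)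
    (hblock : IsBlock N ⊤) :
    ∃ b : Module.Basis (Fin 3) k W, N (b 0) = b 1 ∧ N (b 1) = b 2 ∧ N (b 2) = 0 := by
  obtain ⟨t, ht⟩ := hblock
  obtain ⟨v, hv⟩ : ∃ v : Fin 3 → W, v = ![t, N t, N (N t)] := ⟨_, rfl⟩
  have hspan : ⊤ ≤ Submodule.span k (Set.range v) := by
    rw [ht]
    apply Submodule.span_le.2
    rintro _ ⟨i, rfl⟩
    rcases i with _ | _ | _ | i
    · apply Submodule.subset_span
      exact ⟨0, by rw [hv]; rfl⟩
    · apply Submodule.subset_span
      exact ⟨1, by rw [hv]; rfl⟩
    · apply Submodule.subset_span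
      exact ⟨2, by rw [hv]; rfl⟩
    · have h0 : (N ^ (i + 1 + 1 + 1)) t = 0 := by
        have : i + 1 + 1 + 1 = i + 3 := by ring
        rw [this, pow_add, hN, mul_zero, LinearMap.zero_apply]
      show (N ^ (i + 1 + 1 + 1)) t ∈ _
      rw [h0]
      exact Submodule.zero_mem _
  have hcard : Fintype.card (Fin 3) = Module.finrank k W := by
    rw [hdim]
    rfl
  refine ⟨basisOfTopLeSpanOfCardEqFinrank v hspan hcard, ?_, ?_, ?_⟩
  · rw [coe_basisOfTopLeSpanOfCardEqFinrank, hv]
    rfl
  · rw [coe_basisOfTopLeSpanOfCardEqFinrank, hv]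
    rfl
  · rw [coe_basisOfTopLeSpanOfCardEqFinrank, hv]
    show N (N (N t)) = 0
    have h3 : N (N (N t)) = (N ^ 3) t := by
      rw [pow_succ, pow_succ, pow_one, Module.End.mul_apply, Module.End.mul_apply]
    rw [h3, hN, LinearMap.zero_apply]

end nil

section form

variable {k : Type*} [Field k] {W : Type*} [AddCommGroup W] [Module k W]

/-- the Gram matrix of the invariant form of a Jordan block of size 3 -/
def gram : Matrix (Fin 3) (Fin 3) k := !![0, 1, 2; 1, -2, 0; 2, 0, 0]

/-- the invariant form of a Jordan block of size 3 -/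
noncomputable def beta0 (b : Module.Basis (Fin 3) k W) : LinearMap.BilinForm k W :=
  Matrix.toBilin b gram

theorem beta0_basis (b : Module.Basis (Fin 3) k W) (i j : Fin 3) :
    beta0 b (b i) (b j) = gram i j := by
  unfold beta0
  rw [← LinearMap.BilinForm.toMatrix_apply b, LinearMap.BilinForm.toMatrix_toBilin]

theorem beta0_inv (b : Module.Basis (Fin 3) k W) (X : Module.End k W)
    (h0 : X (b 0) = b 0 + b 1) (h1 : X (b 1) = b 1 + b 2) (h2 : X (b 2) = b 2) (u v : W) :
    beta0 b (X u) (X v) = beta0 b u v := by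
  have h : (beta0 b).compl₁₂ X X = beta0 b := by
    apply LinearMap.ext_basis b b
    intro i j
    rw [LinearMap.compl₁₂_apply]
    fin_cases i <;> fin_cases j <;>
      simp [h0, h1, h2, beta0_basis, gram]
    norm_num
  have h' := congrArg (fun B : LinearMap.BilinForm k W => B u v) h
  simpa using h'

/-- the invariant functional on bilinear forms -/
noncomputable def lam (b : Module.Basis (Fin 3) k W) (B : LinearMap.BilinForm k W) : k :=
  B (b 0) (b 2) - B (b 1) (b 1) + B (b 2) (b 0) + B (b 2) (b 1)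

theorem lam_X (b : Module.Basis (Fin 3) k W) (X : Module.End k W)
    (h0 : X (b 0) = b 0 + b 1) (h1 : X (b 1) = b 1 + b 2) (h2 : X (b 2) = b 2)
    (B : LinearMap.BilinForm k W) :
    B (X (b 0)) (X (b 2)) - B (X (b 1)) (X (b 1)) + B (X (b 2)) (X (b 0)) +
      B (X (b 2)) (X (b 1)) = lam b B := by
  unfold lam
  rw [h0, h1, h2]
  simp only [map_add, LinearMap.add_apply]
  ring

theorem lam_beta0 (b : Module.Basis (Fin 3) k W) : lam b (beta0 b) = 6 := by
  unfold lam
  simp only [beta0_basis, gram]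
  simp
  norm_num

theorem lam_sub (b : Module.Basis (Fin 3) k W) (B B' : LinearMap.BilinForm k W) :
    lam b (B - B') = lam b B - lam b B' := by
  unfold lam
  simp only [LinearMap.sub_apply]
  ring

theorem alt_zero (b : Module.Basis (Fin 3) k W) (α : LinearMap.BilinForm k W)
    (halt : ∀ u, α u u = 0) (hnd : ∀ u, (∀ v, α u v = 0) → u = 0) : α = 0 := by
  have hskew : ∀ u v, α u v = -α v u := by
    intro u v
    have h := halt (u + v)
    simp only [map_add, LinearMap.add_apply, halt] at h
    linear_combination h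
  obtain ⟨w, hw⟩ : ∃ w : W, w = α (b 1) (b 2) • b 0 + (-α (b 0) (b 2)) • b 1 +
      α (b 0) (b 1) • b 2 := ⟨_, rfl⟩
  have hw0 : α w = 0 := by
    apply b.ext
    intro j
    rw [hw, map_add, map_add, map_smul, map_smul, map_smul, LinearMap.add_apply,
      LinearMap.add_apply, LinearMap.smul_apply, LinearMap.smul_apply, LinearMap.smul_apply,
      LinearMap.zero_apply, smul_eq_mul, smul_eq_mul, smul_eq_mul]
    fin_cases j
    · show α (b 1) (b 2) * α (b 0) (b 0) + -α (b 0) (b 2) * α (b 1) (b 0) +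
        α (b 0) (b 1) * α (b 2) (b 0) = 0
      rw [halt, hskew (b 1) (b 0), hskew (b 2) (b 0)]
      ring
    · show α (b 1) (b 2) * α (b 0) (b 1) + -α (b 0) (b 2) * α (b 1) (b 1) +
        α (b 0) (b 1) * α (b 2) (b 1) = 0
      rw [halt, hskew (b 2) (b 1)]
      ring
    · show α (b 1) (b 2) * α (b 0) (b 2) + -α (b 0) (b 2) * α (b 1) (b 2) +
        α (b 0) (b 1) * α (b 2) (b 2) = 0
      rw [halt]
      ring
  have hwz : w = 0 := hnd w (fun v => by rw [hw0, LinearMap.zero_apply])
  have hli := Fintype.linearIndependent_iff.1 b.linearIndependent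
    ![α (b 1) (b 2), -α (b 0) (b 2), α (b 0) (b 1)] (by
      rw [Fin.sum_univ_three]
      show α (b 1) (b 2) • b 0 + (-α (b 0) (b 2)) • b 1 + α (b 0) (b 1) • b 2 = 0
      rw [← hw, hwz])
  have h12 : α (b 1) (b 2) = 0 := hli 0
  have h02 : α (b 0) (b 2) = 0 := neg_eq_zero.1 (hli 1)
  have h01 : α (b 0) (b 1) = 0 := hli 2
  apply LinearMap.ext_basis b b
  intro i j
  rw [LinearMap.zero_apply, LinearMap.zero_apply]
  fin_cases i <;> fin_cases j
  · exact halt _
  · exact h01
  · exact h02
  · show α (b 1) (b 0) = 0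
    rw [hskew, h01, neg_zero]
  · exact halt _
  · exact h12
  · show α (b 2) (b 0) = 0
    rw [hskew, h02, neg_zero]
  · show α (b 2) (b 1) = 0
    rw [hskew, h12, neg_zero]
  · exact halt _

end form

section main

variable {k : Type*} [Field k] {Γ : Type*} [Group Γ] {W : Type*} [AddCommGroup W] [Module k W]

/-- the radical of an invariant form is an invariant subspace -/
theorem ker_invOn (σ : Representation k Γ W) (γ : LinearMap.BilinForm k W)
    (hinv : ∀ g u v, γ (σ g u) (σ g v) = γ u v) : InvOn σ Set.univ (LinearMap.ker γ) := by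
  intro g _ w hw
  rw [LinearMap.mem_ker] at hw ⊢
  refine LinearMap.ext fun v => ?_
  have h := hinv g w (σ g⁻¹ v)
  rw [rep_apply_inv] at h
  rw [h, hw, LinearMap.zero_apply, LinearMap.zero_apply]

/-- an invariant form on a simple module is zero or non-degenerate -/
theorem zero_or_nondeg (σ : Representation k Γ W)
    (hsimple : ∀ U : Submodule k W, InvOn σ Set.univ U → U = ⊥ ∨ U = ⊤)
    (γ : LinearMap.BilinForm k W) (hinv : ∀ g u v, γ (σ g u) (σ g v) = γ u v) :
    γ = 0 ∨ ∀ u, (∀ v, γ u v = 0) → u = 0 := by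
  rcases hsimple _ (ker_invOn σ γ hinv) with h | h
  · right
    intro u hu
    have hmem : u ∈ LinearMap.ker γ := by
      rw [LinearMap.mem_ker]
      refine LinearMap.ext fun v => ?_
      rw [hu v, LinearMap.zero_apply]
    rw [h] at hmem
    exact (Submodule.mem_bot k).1 hmem
  · left
    refine LinearMap.ext fun u => ?_
    have hmem : u ∈ LinearMap.ker γ := by
      rw [h]
      exact Submodule.mem_top
    rw [LinearMap.mem_ker] at hmem
    rw [hmem, LinearMap.zero_apply]

theorem pow_apply_of_eigen {T : Type*} [AddCommGroup T] [Module k T] (D : Module.End k T) (c : k)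
    (t : T) (h : D t = c • t) (m : ℕ) : (D ^ m) t = c ^ m • t := by
  induction m with
  | zero => rw [pow_zero, pow_zero, Module.End.one_apply, one_smul]
  | succ m ih =>
    rw [pow_succ', Module.End.mul_apply, ih, map_smul, h, smul_smul, pow_succ]

end main

section final

variable {k : Type*} [Field k] {p : ℕ} [Fact p.Prime] [CharP k p]

theorem exists_form_of (hp7 : 7 ≤ p)
    {Γ : Type*} [Group Γ] {W : Type*} [AddCommGroup W] [Module k W]
    (σ : Representation k Γ W) (x h : Γ) (V₀ : Subgroup Γ) (f : ℕ)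
    (hloc : LocalData p x h V₀ f) (hgen : Subgroup.normalClosure ({x} : Set Γ) = ⊤)
    (hdim : Module.finrank k W = 3) (hblock : IsBlock (σ x - 1) ⊤)
    (hV₀ : ∀ v ∈ V₀, σ v = 1)
    (hsimple : ∀ U : Submodule k W, InvOn σ Set.univ U → U = ⊥ ∨ U = ⊤)
    (hdec : (bilRep σ x - 1) ^ (p - 1) = 0 →
      ∃ (n : ℕ) (U : Fin n → Submodule k (LinearMap.BilinForm k W)),
        (∀ i, InvOn (bilRep σ) Set.univ (U i)) ∧ (∀ i, U i ≠ ⊥) ∧
        (∀ i, IsBlock (bilRep σ x - 1) (U i)) ∧ iSupIndep U ∧
        ⨆ i, U i = fixedSub (bilRep σ) (V₀ : Set Γ)) :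
    ∃ β : LinearMap.BilinForm k W, (∀ g u v, β (σ g u) (σ g v) = β u v) ∧
      (∀ u v, β u v = β v u) ∧ (∀ u, (∀ v, β u v = 0) → u = 0) := by
  have : FiniteDimensional k W := Module.finite_of_finrank_pos (by rw [hdim]; norm_num)
  have hxp : x ^ p = 1 := by
    rw [← hloc.ox]
    exact pow_orderOf_eq_one x
  have hXp : (σ x) ^ p = 1 := by
    rw [← map_pow, hxp, map_one]
  have hN : (σ x - 1) ^ 3 = 0 := by
    have h3 := sub_one_pow_finrank (σ x) hXp
    rwa [hdim] at h3
  obtain ⟨b, hb0, hb1, hb2⟩ := exists_basis (σ x - 1) hN hdim hblock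
  have hX0 : σ x (b 0) = b 0 + b 1 := by
    rw [← hb0, LinearMap.sub_apply, Module.End.one_apply]
    abel
  have hX1 : σ x (b 1) = b 1 + b 2 := by
    rw [← hb1, LinearMap.sub_apply, Module.End.one_apply]
    abel
  have hX2 : σ x (b 2) = b 2 := by
    rw [LinearMap.sub_apply, Module.End.one_apply] at hb2
    exact sub_eq_zero.1 hb2
  have hD5 : (bilRep σ x - 1) ^ 5 = 0 := bilRep_sub_one_pow σ x hxp hdim
  have hDp : (bilRep σ x - 1) ^ (p - 1) = 0 := by
    have hp : p - 1 = 5 + (p - 6) := by omega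
    rw [hp, pow_add, hD5, zero_mul]
  obtain ⟨n, U, hUinv, hUne, hUblock, hUind, hUsup⟩ := hdec hDp
  have hfix : fixedSub (bilRep σ) (V₀ : Set Γ) = ⊤ := by
    rw [eq_top_iff]
    intro B _
    rw [mem_fixedSub]
    intro v hv
    refine LinearMap.ext fun u => LinearMap.ext fun w => ?_
    rw [bilRep_apply, hV₀ v⁻¹ (V₀.inv_mem hv), Module.End.one_apply, Module.End.one_apply]
  have hs : beta0 b ∈ ⨆ i, U i := by
    rw [hUsup, hfix]
    exact Submodule.mem_top
  have hs0 : (bilRep σ x - 1) (beta0 b) = 0 := by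
    refine LinearMap.ext fun u => LinearMap.ext fun w => ?_
    rw [LinearMap.sub_apply, Module.End.one_apply, LinearMap.sub_apply, LinearMap.sub_apply,
      bilRep_apply, LinearMap.zero_apply, LinearMap.zero_apply]
    have h1 := beta0_inv b (σ x) hX0 hX1 hX2 (σ x⁻¹ u) (σ x⁻¹ w)
    rw [rep_apply_inv, rep_apply_inv] at h1
    rw [h1, sub_self]
  have h6 : (6 : k) ≠ 0 := by
    intro h6
    have h6' : ((6 : ℕ) : k) = 0 := by exact_mod_cast h6
    rw [CharP.cast_eq_zero_iff k p] at h6'
    have := Nat.le_of_dvd (by norm_num) h6'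
    omega
  have hs1 : ∀ b' ∈ ⨆ i, U i, (bilRep σ x - 1) b' ≠ beta0 b := by
    intro b' _ heq
    have hlam : lam b (bilRep σ x b') = lam b b' := by
      have h1 := lam_X b (σ x) hX0 hX1 hX2 (bilRep σ x b')
      rw [← h1]
      unfold lam
      simp only [bilRep_apply, rep_inv_apply]
    have h0 : lam b ((bilRep σ x - 1) b') = 0 := by
      rw [LinearMap.sub_apply, Module.End.one_apply, lam_sub, hlam, sub_self]
    rw [heq, lam_beta0] at h0
    exact h6 h0
  obtain ⟨i, hi⟩ := Cfsg.Agent.Lib.Helper34_S4504_N1p.exists_block_one (bilRep σ x - 1) ⟨5, hD5⟩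
    U hUblock hUne hUind (beta0 b) hs hs0 hs1
  obtain ⟨⟨β, hβU⟩, hβne, hβspan⟩ := finrank_eq_one_iff'.1 hi
  have hβ0 : β ≠ 0 := by
    intro h0
    apply hβne
    exact Subtype.ext h0
  have hscal : ∀ g : Γ, ∃ c : k, bilRep σ g β = c • β := by
    intro g
    obtain ⟨c, hc⟩ := hβspan ⟨bilRep σ g β, hUinv i g (Set.mem_univ g) β hβU⟩
    refine ⟨c, ?_⟩
    have h1 := congrArg Subtype.val hc
    exact h1.symm
  have hxβ : bilRep σ x β = β := by
    obtain ⟨c, hc⟩ := hscal x
    have hD : (bilRep σ x - 1) β = (c - 1) • β := by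
      rw [LinearMap.sub_apply, Module.End.one_apply, hc, sub_smul, one_smul]
    have h5 := pow_apply_of_eigen (bilRep σ x - 1) (c - 1) β hD 5
    rw [hD5, LinearMap.zero_apply] at h5
    have hc1 : (c - 1) ^ 5 = 0 := by
      rcases smul_eq_zero.1 h5.symm with h | h
      · exact h
      · exact absurd h hβ0
    have hc1' : c = 1 := sub_eq_zero.1 (pow_eq_zero_iff (by norm_num) |>.1 hc1)
    rw [hc, hc1', one_smul]
  let K : Subgroup Γ :=
    { carrier := {g | bilRep σ g β = β}
      mul_mem' := by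
        intro a a' ha ha'
        show bilRep σ (a * a') β = β
        rw [map_mul, Module.End.mul_apply]
        rw [show bilRep σ a' β = β from ha', show bilRep σ a β = β from ha]
      one_mem' := by
        show bilRep σ 1 β = β
        rw [map_one, Module.End.one_apply]
      inv_mem' := by
        intro a ha
        show bilRep σ a⁻¹ β = β
        have h1 : bilRep σ a⁻¹ (bilRep σ a β) = β := rep_inv_apply (bilRep σ) a β
        rwa [show bilRep σ a β = β from ha] at h1 }
  have hK : Subgroup.normalClosure ({x} : Set Γ) ≤ K := by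
    unfold Subgroup.normalClosure
    rw [Subgroup.closure_le]
    intro g hg
    rw [Group.mem_conjugatesOfSet_iff] at hg
    obtain ⟨y, hy, hconj⟩ := hg
    rw [Set.mem_singleton_iff] at hy
    rw [hy, isConj_iff] at hconj
    obtain ⟨a, rfl⟩ := hconj
    show bilRep σ (a * x * a⁻¹) β = β
    obtain ⟨c, hc⟩ := hscal a⁻¹
    rw [map_mul, map_mul, Module.End.mul_apply, Module.End.mul_apply, hc, map_smul, hxβ, ← hc]
    exact rep_apply_inv (bilRep σ) a β
  have hall : ∀ g : Γ, bilRep σ g β = β := by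
    intro g
    have hg : g ∈ Subgroup.normalClosure ({x} : Set Γ) := by
      rw [hgen]
      exact Subgroup.mem_top g
    exact hK hg
  have hinv : ∀ g u v, β (σ g u) (σ g v) = β u v := by
    intro g u v
    have h1 := bilRep_apply σ g⁻¹ β u v
    rw [inv_inv, hall g⁻¹] at h1
    exact h1.symm
  refine ⟨β, hinv, ?_, ?_⟩
  · -- symmetric
    obtain ⟨α, hα⟩ : ∃ α : LinearMap.BilinForm k W, α = β - LinearMap.flip β := ⟨_, rfl⟩
    have hαapp : ∀ u v, α u v = β u v - β v u := by
      intro u v
      rw [hα, LinearMap.sub_apply, LinearMap.sub_apply, LinearMap.flip_apply]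
    have hαinv : ∀ g u v, α (σ g u) (σ g v) = α u v := by
      intro g u v
      rw [hαapp, hαapp, hinv, hinv]
    have hαalt : ∀ u, α u u = 0 := by
      intro u
      rw [hαapp, sub_self]
    have hα0 : α = 0 := by
      rcases zero_or_nondeg σ hsimple α hαinv with h0 | hnd
      · exact h0
      · exact alt_zero b α hαalt hnd
    intro u v
    have h1 := hαapp u v
    rw [hα0, LinearMap.zero_apply, LinearMap.zero_apply] at h1
    exact (sub_eq_zero.1 h1.symm)
  · rcases zero_or_nondeg σ hsimple β hinv with h0 | hnd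
    · exact absurd h0 hβ0
    · exact hnd

end final

/-- PK-N2 of helper57's S4504 market (statement verbatim). -/
theorem exists_form {k : Type*} [Field k] {p : ℕ} [Fact p.Prime] [CharP k p] (hp7 : 7 ≤ p)
    {Γ : Type*} [Group Γ] [Finite Γ] {W : Type*} [AddCommGroup W] [Module k W]
    (σ : Representation k Γ W) (x h : Γ) (V₀ : Subgroup Γ) (f : ℕ)
    (hloc : LocalData p x h V₀ f) (hgen : Subgroup.normalClosure ({x} : Set Γ) = ⊤)
    (hdim : Module.finrank k W = 3) (hblock : IsBlock (σ x - 1) ⊤)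
    (hV₀ : ∀ v ∈ V₀, σ v = 1)
    (hsimple : ∀ U : Submodule k W, InvOn σ Set.univ U → U = ⊥ ∨ U = ⊤) :
    ∃ β : LinearMap.BilinForm k W, (∀ g u v, β (σ g u) (σ g v) = β u v) ∧
      (∀ u v, β u v = β v u) ∧ (∀ u, (∀ v, β u v = 0) → u = 0) := by
  have : FiniteDimensional k W := Module.finite_of_finrank_pos (by rw [hdim]; norm_num)
  exact exists_form_of hp7 σ x h V₀ f hloc hgen hdim hblock hV₀ hsimple (fun hnil => by
    have h1 := Cfsg.Agent.Lib.Helper57_S4504_B.block_decomp (k := k)
      (T := LinearMap.BilinForm k W) (bilRep σ) x h V₀ f hloc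
    exact h1 hnil)

end Cfsg.Agent.Lib.Helper8_S4504_N2
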