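import Mathlib
import Cfsg.Agent.Lib.Helper57_ModDefs
import Cfsg.Agent.Lib.Helper57_S4504_W
import Cfsg.Agent.Lib.Helper8_S4504_N2
import Cfsg.Agent.Lib.Helper24_S4504_LOC
import Cfsg.Agent.Lib.Helper43_S4504_O
import Cfsg.Agent.Lib.Helper50_S4504_D
import Cfsg.Agent.Lib.Helper85_S4504_W2
import Cfsg.Agent.Lib.Helper50_S4504_S
import Cfsg.Agent.Lib.Helper87_S4504_K1
import Cfsg.Agent.Lib.Helper70_S4504_K2
import Cfsg.Agent.Lib.Helper71_S4504_K3
import Cfsg.Agent.Lib.Helper87_S4504_K4
import Cfsg.Agent.Lib.Helper43_S4504_T1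
import Cfsg.Agent.Lib.Helper43_S4504_T2

/-!
# S4504, package PK-MT (helper57): the modular theorem (assembly)
-/

set_option autoImplicit false

namespace Cfsg.Agent.Lib.Helper57_S4504_MT

open Cfsg.Agent.Lib.Helper57_ModDefs

variable {k : Type*} [Field k] [Fintype k] {p : ℕ} [Fact p.Prime] [CharP k p]
  {G : Type*} [Group G] [Finite G]

/-- A block of dimension `3` is not the zero operator. -/
theorem ne_one_of_block {W : Type*} [AddCommGroup W] [Module k W] (X : Module.End k W)
    (hdim : Module.finrank k W = 3) (hblock : IsBlock (X - 1) ⊤) : X ≠ 1 := by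
  intro h
  obtain ⟨t, ht⟩ := hblock
  rw [h, sub_self] at ht
  have hle : (⊤ : Submodule k W) ≤ Submodule.span k {t} := by
    rw [ht]
    apply Submodule.span_le.mpr
    rintro _ ⟨i, rfl⟩
    rcases i with _ | i
    · simp only [pow_zero, Module.End.one_apply]
      exact Submodule.subset_span rfl
    · simp only [pow_succ, mul_zero, LinearMap.zero_apply]
      exact Submodule.zero_mem _
  have h1 : Module.finrank k (⊤ : Submodule k W) ≤ 1 := by
    haveI : Module.Finite k W := Module.finite_of_finrank_pos (by omega)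
    calc Module.finrank k (⊤ : Submodule k W) ≤ Module.finrank k (Submodule.span k {t}) :=
          Submodule.finrank_mono hle
      _ ≤ 1 := by
        have := finrank_span_le_card (R := k) ({t} : Set W)
        simpa using this
  rw [finrank_top, hdim] at h1
  omega

/-- The core of the modular theorem: `G` acts on a `3`-dimensional space `W`, `x` as one Jordan
block, `V₀` trivially; an invariant form is given or `p ≥ 7`. -/
theorem core (hp5 : 5 ≤ p) {W : Type*} [AddCommGroup W] [Module k W]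
    (σ : Representation k G W) (x h : G) (V₀ : Subgroup G) (f : ℕ)
    (hloc : LocalData p x h V₀ f) (hPn : ¬ (Subgroup.zpowers x).Normal)
    (hK : ∀ K : Subgroup G, K.Normal → (Nat.card K).Coprime p → ∀ g ∈ K, g * x = x * g)
    (hdim : Module.finrank k W = 3) (hblock : IsBlock (σ x - 1) ⊤) (hV₀ : ∀ v ∈ V₀, σ v = 1)
    (hform : 7 ≤ p ∨ ∃ β : LinearMap.BilinForm k W, (∀ g u v, β (σ g u) (σ g v) = β u v) ∧
      (∀ u v, β u v = β v u) ∧ (∀ u, (∀ v, β u v = 0) → u = 0)) :
    V₀.Normal ∧
    ∃ φ : ↥(Subgroup.normalClosure ({x} : Set G)) →*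
        Matrix.ProjectiveSpecialLinearGroup (Fin 2) (ZMod p),
      Function.Surjective φ ∧ ∀ g, φ g = 1 ↔ (g : G) ∈ V₀ := by
  classical
  have hp := (Fact.out : p.Prime)
  haveI : Module.Finite k W := Module.finite_of_finrank_pos (by omega)
  have hp2 : p ≠ 2 := by omega
  have hσx : σ x ≠ 1 := ne_one_of_block (σ x) hdim hblock
  -- `V₀` is the kernel of `σ`
  have hker : ∀ g, σ g = 1 ↔ g ∈ V₀ := by
    intro g
    constructor
    · intro hg
      have hle := Cfsg.Agent.Lib.Helper87_S4504_K1.normal_le_V₀ x h V₀ f hloc hK (MonoidHom.ker (σ : G →* Module.End k W))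
        inferInstance (fun hx => hσx (MonoidHom.mem_ker.mp hx))
      exact hle (MonoidHom.mem_ker.mpr hg)
    · exact hV₀ g
  have hVeq : V₀ = MonoidHom.ker (σ : G →* Module.End k W) := by
    ext g
    rw [MonoidHom.mem_ker]
    exact (hker g).symm
  have hVn : V₀.Normal := by
    rw [hVeq]
    infer_instance
  refine ⟨hVn, ?_⟩
  -- the normal closure
  set Γ : Subgroup G := Subgroup.normalClosure ({x} : Set G) with hΓ
  set x' : Γ := ⟨x, Subgroup.subset_normalClosure (Set.mem_singleton x)⟩ with hx'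
  obtain ⟨hox', hsyl', hgen', hPn', hK', hperf⟩ :=
    Cfsg.Agent.Lib.Helper70_S4504_K2.normalClosure_facts x h V₀ f hloc hPn hK x' rfl
  set σΓ : Representation k Γ W := (σ : G →* Module.End k W).comp Γ.subtype with hσΓ
  have hσΓapp : ∀ g : Γ, σΓ g = σ (g : G) := fun g => rfl
  have hblock' : IsBlock (σΓ x' - 1) ⊤ := hblock
  -- elements centralizing `x'` act as powers of `x'`
  have hcent : ∀ z : Γ, z * x' = x' * z → ∃ i : ℕ, σΓ z = σΓ (x' ^ i) := by
    intro z hz
    have hz' : (z : G) * x = x * z := by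
      have := congrArg (Subtype.val) hz
      simpa using this
    obtain ⟨i, v, hv, hzv⟩ := hloc.cent (z : G) hz'
    refine ⟨i, ?_⟩
    rw [hσΓapp, hσΓapp, hzv, map_mul, hV₀ v hv, mul_one]
    rfl
  have hsimple := Cfsg.Agent.Lib.Helper50_S4504_S.simple_W (p := p) hp2 σΓ x' hox' hsyl' hgen' hPn' hK' hdim hblock' hcent
  -- local data for `Γ`
  obtain ⟨h', V₀', f', hloc', -⟩ := Cfsg.Agent.Lib.Helper24_S4504_LOC.exists_localData (G := Γ) p x' hox' hsyl'
  have hV₀' : ∀ v ∈ V₀', ((v : Γ) : G) ∈ V₀ := by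
    intro v hv
    apply Cfsg.Agent.Lib.Helper87_S4504_K4.mem_V₀_of_comm x h V₀ f hloc
    · have := congrArg (Subtype.val) (hloc'.commV v hv)
      simpa using this
    · have h1 : orderOf ((v : Γ) : G) = orderOf v := Subgroup.orderOf_coe v
      rw [h1]
      have h2 : orderOf v ∣ Nat.card V₀' := by
        have := orderOf_dvd_natCard (⟨v, hv⟩ : V₀')
        rwa [Subgroup.orderOf_mk] at this
      exact Nat.Coprime.coprime_dvd_left h2 hloc'.copV
  -- the form
  obtain ⟨β, hβinv, hβsymm, hβnd⟩ : ∃ β : LinearMap.BilinForm k W,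
      (∀ (g : Γ) u v, β (σΓ g u) (σΓ g v) = β u v) ∧
      (∀ u v, β u v = β v u) ∧ (∀ u, (∀ v, β u v = 0) → u = 0) := by
    rcases hform with h7 | ⟨β, h1, h2, h3⟩
    · have hfd : FiniteDimensional k W :=
        Module.finite_of_finrank_pos (by rw [hdim]; norm_num)
      exact Cfsg.Agent.Lib.Helper8_S4504_N2.exists_form_of (p := p) h7 σΓ x' h' V₀' f' hloc' hgen'
        hdim hblock' (fun v hv => by rw [hσΓapp]; exact hV₀ _ (hV₀' v hv)) hsimple
        (fun hnil => Cfsg.Agent.Lib.Helper57_S4504_B.block_decomp (k := k)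
          (T := LinearMap.BilinForm k W) (Cfsg.Agent.Lib.Helper8_S4504_N2.bilRep σΓ)
          x' h' V₀' f' hloc' hnil)
    · exact ⟨β, fun g u v => h1 (g : G) u v, h2, h3⟩
  -- isotropic vector
  have hnil : IsNilpotent (σΓ x' - 1) := by
    refine ⟨p, ?_⟩
    have hXp : (σΓ x') ^ p = 1 := by
      rw [← map_pow, ← hox', pow_orderOf_eq_one, map_one]
    have hpoly : ((Polynomial.X : Polynomial k) - 1) ^ p = Polynomial.X ^ p - 1 := by
      rw [sub_pow_char, one_pow]
    have := congrArg (Polynomial.aeval (σΓ x')) hpoly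
    simpa [hXp] using this
  obtain ⟨s, hs, hs0⟩ := Cfsg.Agent.Lib.Helper43_S4504_T2.exists_isotropic (σΓ x') hnil hdim hblock' β (hβinv x')
  obtain ⟨φ₁, hφ₁a, hφ₁b⟩ := Cfsg.Agent.Lib.Helper43_S4504_O.to_psl (p := p) hp2 hperf σΓ hdim β hβinv hβsymm hβnd s hs hs0
  -- `φ₁ x' ≠ 1`
  have hφx : φ₁ x' ≠ 1 := by
    intro h1
    have hcentral := hφ₁b x' h1
    -- the set of elements acting centrally is a normal subgroup containing `x'`
    let Z : Subgroup Γ :=
      { carrier := {g | ∀ g', σΓ (g * g') = σΓ (g' * g)}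
        mul_mem' := by
          intro a b ha hb g'
          have h2 : σΓ (a * b * g') = σΓ a * σΓ (b * g') := by rw [mul_assoc, map_mul]
          have h3 : σΓ (g' * (a * b)) = σΓ (g' * a) * σΓ b := by rw [← mul_assoc, map_mul]
          rw [h2, hb g', map_mul, ← mul_assoc, ← map_mul, ha g', h3]
        one_mem' := by
          intro g'
          simp
        inv_mem' := by
          intro a ha g'
          have h2 := ha (a⁻¹ * g' * a⁻¹)
          have e1 : a * (a⁻¹ * g' * a⁻¹) = g' * a⁻¹ := by group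
          have e2 : a⁻¹ * g' * a⁻¹ * a = a⁻¹ * g' := by group
          rw [e1, e2] at h2
          exact h2.symm }
    have hZn : Z.Normal := by
      constructor
      intro a ha b g'
      show σΓ (b * a * b⁻¹ * g') = σΓ (g' * (b * a * b⁻¹))
      have h2 := ha (b⁻¹ * g' * b)
      have e1 : b * a * b⁻¹ * g' = b * (a * (b⁻¹ * g' * b)) * b⁻¹ := by group
      have e2 : g' * (b * a * b⁻¹) = b * ((b⁻¹ * g' * b) * a) * b⁻¹ := by group
      rw [e1, e2, map_mul, map_mul, h2, ← map_mul, ← map_mul]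
    have hxZ : x' ∈ Z := hcentral
    have hZtop : Z = ⊤ := by
      apply top_le_iff.mp
      rw [← hgen']
      exact Subgroup.normalClosure_le_normal (Set.singleton_subset_iff.mpr hxZ)
    -- so the image of `σΓ` is commutative, and `Γ` is perfect: the image is trivial
    have hcomm : ∀ a b : Γ, σΓ (a * b) = σΓ (b * a) := by
      intro a b
      have : a ∈ Z := by rw [hZtop]; exact Subgroup.mem_top a
      exact this b
    have hkertop : MonoidHom.ker (σΓ : Γ →* Module.End k W) = ⊤ := by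
      apply top_le_iff.mp
      rw [← hperf, commutator_def, Subgroup.commutator_le]
      intro a _ b _
      rw [MonoidHom.mem_ker, commutatorElement_def]
      have h2 : σΓ (a * b * a⁻¹ * b⁻¹) = σΓ (a * b) * σΓ (a⁻¹ * b⁻¹) := by
        rw [mul_assoc (a * b), map_mul]
      rw [h2, hcomm a b, ← map_mul]
      have : b * a * (a⁻¹ * b⁻¹) = 1 := by group
      rw [this, map_one]
    have : σΓ x' = 1 := by
      have : x' ∈ MonoidHom.ker (σΓ : Γ →* Module.End k W) := by
        rw [hkertop]; exact Subgroup.mem_top _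
      exact MonoidHom.mem_ker.mp this
    exact hσx this
  obtain ⟨φ, hφsurj, hφker⟩ := Cfsg.Agent.Lib.Helper71_S4504_K3.finish_MT (p := p) hp5 x' hox' hsyl' hPn' hK' hperf φ₁ hφx
    (fun H h1 h2 h3 h4 => Cfsg.Agent.Lib.Helper50_S4504_D.dickson_finish (p := p) hp5 H h1 h2 h3 h4)
  refine ⟨φ, hφsurj, ?_⟩
  intro g
  rw [hφker]
  constructor
  · intro hg
    -- the kernel of `φ₁` is a normal subgroup of `Γ` not containing `x'`
    have hle := Cfsg.Agent.Lib.Helper87_S4504_K1.normal_le_V₀ x' h' V₀' f' hloc' hK' (MonoidHom.ker φ₁) inferInstance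
      (fun hx => hφx (MonoidHom.mem_ker.mp hx))
    exact hV₀' g (hle (MonoidHom.mem_ker.mpr hg))
  · intro hg
    apply hφ₁a
    rw [hσΓapp]
    exact hV₀ _ hg


open Cfsg.Agent.Lib.Helper57_S4504_W in
/-- **The modular theorem.** -/
theorem modular_main (hp5 : 5 ≤ p) {M : Type*} [AddCommGroup M] [Module k M]
    [FiniteDimensional k M] (ρ : Representation k G M) (x h : G) (V₀ : Subgroup G) (f : ℕ)
    (hloc : LocalData p x h V₀ f) (hPn : ¬ (Subgroup.zpowers x).Normal)
    (hK : ∀ K : Subgroup G, K.Normal → (Nat.card K).Coprime p → ∀ g ∈ K, g * x = x * g)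
    (hdim : 2 * Module.finrank k M + 1 ≤ p) (hx1 : ρ x ≠ 1) :
    V₀.Normal ∧
    ∃ φ : ↥(Subgroup.normalClosure ({x} : Set G)) →*
        Matrix.ProjectiveSpecialLinearGroup (Fin 2) (ZMod p),
      Function.Surjective φ ∧ ∀ g, φ g = 1 ↔ (g : G) ∈ V₀ := by
  classical
  have hp := (Fact.out : p.Prime)
  have hp2 : p ≠ 2 := by omega
  -- `finrank M ≥ 2`
  have hXp : (ρ x) ^ p = 1 := by
    rw [← map_pow, ← hloc.ox, pow_orderOf_eq_one, map_one]
  have hnilX : IsNilpotent (ρ x - 1) := by
    refine ⟨p, ?_⟩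
    have hpoly : ((Polynomial.X : Polynomial k) - 1) ^ p = Polynomial.X ^ p - 1 := by
      rw [sub_pow_char, one_pow]
    have := congrArg (Polynomial.aeval (ρ x)) hpoly
    simpa [hXp] using this
  have hd := pow_finrank_eq_zero hnilX
  have h2le : 2 ≤ Module.finrank k M := by
    by_contra hlt
    have hle1 : Module.finrank k M ≤ 1 := by omega
    apply hx1
    have : (ρ x - 1) ^ 1 = 0 := pow_eq_zero_of_le hle1 hd
    rw [pow_one] at this
    exact sub_eq_zero.mp this
  by_cases h2 : Module.finrank k M = 2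
  · -- the case `dim M = 2`
    obtain ⟨hinv, hdim3, hblock, htriv, hnd⟩ := Cfsg.Agent.Lib.Helper85_S4504_W2.sl2_case (p := p) hp2 ρ h2 x hloc.ox hx1
    set W₀ : Submodule k (M →ₗ[k] M) := LinearMap.ker (LinearMap.trace k M) with hW₀
    have hW : ∀ g, W₀ ≤ W₀.comap (Representation.linHom ρ ρ g) :=
      fun g w hw => hinv g (Set.mem_univ g) w hw
    set σ : Representation k G W₀ := (Representation.linHom ρ ρ).subrepresentation W₀ hW with hσ
    have hσapp : ∀ g (w : W₀), ((σ g w : W₀) : M →ₗ[k] M) = Representation.linHom ρ ρ g w :=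
      fun g w => rfl
    have hblock' : IsBlock (σ x - 1) ⊤ :=
      Cfsg.Agent.Lib.Helper43_S4504_T1.isBlock_top_of_isBlock (Representation.linHom ρ ρ) W₀ hW x hblock
    have hV₀ : ∀ v ∈ V₀, σ v = 1 := by
      intro v hv
      apply LinearMap.ext
      intro w
      apply Subtype.ext
      rw [hσapp]
      have hcop : (orderOf v).Coprime p := by
        have h2 : orderOf v ∣ Nat.card V₀ := by
          have := orderOf_dvd_natCard (⟨v, hv⟩ : V₀)
          rwa [Subgroup.orderOf_mk] at this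
        exact Nat.Coprime.coprime_dvd_left h2 hloc.copV
      exact htriv v (hloc.commV v hv) (isOfFinOrder_of_finite v) hcop w
    refine core (p := p) hp5 σ x h V₀ f hloc hPn hK hdim3 hblock' hV₀ (Or.inr ?_)
    refine ⟨(trForm (k := k) (M := M)).restrict W₀, ?_, ?_, ?_⟩
    · intro g u v
      simp only [LinearMap.BilinForm.restrict_apply, LinearMap.domRestrict_apply, hσapp,
        trForm_apply, Representation.linHom_apply]
      show LinearMap.trace k M ((ρ g * (u : M →ₗ[k] M) * ρ g⁻¹) * (ρ g * (v : M →ₗ[k] M) * ρ g⁻¹)) = _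
      have : ρ g * (u : M →ₗ[k] M) * ρ g⁻¹ * (ρ g * (v : M →ₗ[k] M) * ρ g⁻¹) =
          ρ g * ((u : M →ₗ[k] M) * (v : M →ₗ[k] M)) * ρ g⁻¹ := by
        calc ρ g * (u : M →ₗ[k] M) * ρ g⁻¹ * (ρ g * (v : M →ₗ[k] M) * ρ g⁻¹)
            = ρ g * (u : M →ₗ[k] M) * (ρ g⁻¹ * ρ g) * (v : M →ₗ[k] M) * ρ g⁻¹ := by noncomm_ring
          _ = ρ g * ((u : M →ₗ[k] M) * (v : M →ₗ[k] M)) * ρ g⁻¹ := by
              rw [rho_inv_mul]; noncomm_ring
      rw [this, LinearMap.trace_mul_comm, ← mul_assoc, rho_inv_mul, one_mul]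
    · intro u v
      simp only [LinearMap.BilinForm.restrict_apply, LinearMap.domRestrict_apply, trForm_apply]
      exact LinearMap.trace_mul_comm k _ _
    · intro u hu
      apply Subtype.ext
      apply hnd (u : M →ₗ[k] M) u.2
      intro b hb
      have := hu ⟨b, hb⟩
      simpa only [LinearMap.BilinForm.restrict_apply, LinearMap.domRestrict_apply,
        trForm_apply] using this
  · -- the case `dim M ≥ 3`, so `p ≥ 7`
    have h7 : 7 ≤ p := by omega
    obtain ⟨W₀, hinv, hdim3, hblock, htriv⟩ := Cfsg.Agent.Lib.Helper57_S4504_W.exists_W (p := p) ρ x h V₀ f hloc hdim hx1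
    have hW : ∀ g, W₀ ≤ W₀.comap (Representation.linHom ρ ρ g) :=
      fun g w hw => hinv g (Set.mem_univ g) w hw
    set σ : Representation k G W₀ := (Representation.linHom ρ ρ).subrepresentation W₀ hW with hσ
    have hblock' : IsBlock (σ x - 1) ⊤ :=
      Cfsg.Agent.Lib.Helper43_S4504_T1.isBlock_top_of_isBlock (Representation.linHom ρ ρ) W₀ hW x hblock
    have hV₀ : ∀ v ∈ V₀, σ v = 1 := by
      intro v hv
      apply LinearMap.ext
      intro w
      apply Subtype.ext
      exact htriv v hv w w.2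
    exact core (p := p) hp5 σ x h V₀ f hloc hPn hK hdim3 hblock' hV₀ (Or.inl h7)

end Cfsg.Agent.Lib.Helper57_S4504_MT
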