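import Mathlib
import Cfsg.Agent.Lib.Helper50_DkOrders

/-!
# S4504 package CNT (helper39, for helper57)

`card_normalizer_psl`: in a group isomorphic to `PSL(2,p)` (`p ≥ 5`) the normaliser of a subgroup
of order `p` has order `p (p - 1) / 2`.  Transport of helper50's
`Helper50_DkOrders.card_normalizer_sylow_mul` along the isomorphism.
-/

set_option autoImplicit false

namespace Cfsg.Agent.Lib.Helper39_S4504_CNT

open scoped MatrixGroups

/-- `|PSL(2,p)| · 2 = p (p² - 1)` for an odd prime `p` -/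
theorem card_psl_prime {p : ℕ} [Fact p.Prime] (hp3 : 3 ≤ p) :
    Nat.card PSL(2, ZMod p) * 2 = p * (p ^ 2 - 1) := by
  have h := Cfsg.Agent.Lib.Helper50_DkOrders.card_PSL2 (F := ZMod p)
  rw [ZMod.card] at h
  have hodd : Odd p := (Fact.out : p.Prime).odd_of_ne_two (by omega)
  have hg : Nat.gcd 2 (p - 1) = 2 := by
    obtain ⟨k, hk⟩ := hodd
    have : p - 1 = 2 * k := by omega
    rw [this]
    exact Nat.gcd_mul_right_right k 2 ▸ Nat.gcd_eq_left (Dvd.intro k rfl)
  rw [hg] at h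
  exact h

/-- `p²` does not divide `|PSL(2,p)|` -/
theorem not_sq_dvd_card_psl {p : ℕ} [Fact p.Prime] (hp3 : 3 ≤ p) :
    ¬ p ^ 2 ∣ Nat.card PSL(2, ZMod p) := by
  intro hd
  have hp : p.Prime := Fact.out
  have h := card_psl_prime (p := p) hp3
  have h1 : p ^ 2 ∣ p * (p ^ 2 - 1) := by
    rw [← h]
    exact Dvd.dvd.mul_right hd 2
  rw [pow_two] at h1
  have h2 : p ∣ p * p - 1 := Nat.dvd_of_mul_dvd_mul_left hp.pos h1
  have h3 : p ∣ p * p := Dvd.intro p rfl
  have h4 : 1 ≤ p * p := Nat.mul_pos hp.pos hp.pos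
  have h5 : p ∣ 1 := by
    have := (Nat.dvd_sub h3 h2)
    rwa [Nat.sub_sub_self h4] at this
  have := Nat.le_of_dvd one_pos h5
  omega

/-- a subgroup of order `p` of `PSL(2,p)` is a Sylow `p`-subgroup -/
theorem exists_sylow_eq {p : ℕ} [Fact p.Prime] (hp3 : 3 ≤ p) (Q : Subgroup PSL(2, ZMod p))
    (hQ : Nat.card Q = p) : ∃ P : Sylow p PSL(2, ZMod p), (P : Subgroup PSL(2, ZMod p)) = Q := by
  have hp : p.Prime := Fact.out
  have hQp : IsPGroup p Q := IsPGroup.of_card (n := 1) (by rw [hQ, pow_one])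
  obtain ⟨P, hP⟩ := hQp.exists_le_sylow
  refine ⟨P, ?_⟩
  obtain ⟨k, hk⟩ := IsPGroup.iff_card.1 P.isPGroup'
  have hk' : Nat.card (P : Subgroup PSL(2, ZMod p)) = p ^ k := hk
  have hdvd : p ^ k ∣ Nat.card PSL(2, ZMod p) := by
    rw [← hk']
    exact Subgroup.card_subgroup_dvd_card _
  have hk1 : k ≤ 1 := by
    by_contra hlt
    push Not at hlt
    exact not_sq_dvd_card_psl hp3 (dvd_trans (pow_dvd_pow p hlt) hdvd)
  have hQP : Nat.card Q ∣ Nat.card (P : Subgroup PSL(2, ZMod p)) := Subgroup.card_dvd_of_le hP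
  rw [hQ, hk'] at hQP
  have hk0 : k = 1 := by
    rcases Nat.le_one_iff_eq_zero_or_eq_one.1 hk1 with h | h
    · rw [h, pow_zero] at hQP
      have := Nat.le_of_dvd one_pos hQP
      omega
    · exact h
  rw [hk0, pow_one] at hk'
  symm
  apply Subgroup.eq_of_le_of_card_ge hP
  rw [hk', hQ]

theorem card_normalizer_psl {p : ℕ} [Fact p.Prime] (hp5 : 5 ≤ p) {Γ : Type*} [Group Γ] [Finite Γ]
    (e : Γ ≃* Matrix.ProjectiveSpecialLinearGroup (Fin 2) (ZMod p)) (x : Γ) (hx : orderOf x = p)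
    (hPn : ¬ (Subgroup.zpowers x).Normal) :
    2 * Nat.card (Subgroup.normalizer ((Subgroup.zpowers x : Subgroup Γ) : Set Γ)) =
      p * (p - 1) := by
  have hp : p.Prime := Fact.out
  have hp3 : 3 ≤ p := by omega
  set Q : Subgroup PSL(2, ZMod p) := (Subgroup.zpowers x).map e.toMonoidHom with hQdef
  have hQcard : Nat.card Q = p := by
    rw [hQdef, Subgroup.card_map_of_injective e.injective, Nat.card_zpowers, hx]
  obtain ⟨P, hP⟩ := exists_sylow_eq hp3 Q hQcard
  have hN : Nat.card (Subgroup.normalizer ((Subgroup.zpowers x : Subgroup Γ) : Set Γ)) =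
      Nat.card (Subgroup.normalizer ((P : Subgroup PSL(2, ZMod p)) : Set PSL(2, ZMod p))) := by
    rw [hP, hQdef, ← Subgroup.map_equiv_normalizer_eq,
      Subgroup.card_map_of_injective e.injective]
  have h := Cfsg.Agent.Lib.Helper50_DkOrders.card_normalizer_sylow_mul (F := ZMod p) p P
  rw [ZMod.card] at h
  have hodd : Odd p := hp.odd_of_ne_two (by omega)
  have hg : Nat.gcd 2 (p - 1) = 2 := by
    obtain ⟨k, hk⟩ := hodd
    have : p - 1 = 2 * k := by omega
    rw [this]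
    exact Nat.gcd_mul_right_right k 2 ▸ Nat.gcd_eq_left (Dvd.intro k rfl)
  rw [hg] at h
  rw [hN, mul_comm]
  exact h

end Cfsg.Agent.Lib.Helper39_S4504_CNT
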