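import Mathlib
import Cfsg.Prelude.Def_Characters
import Cfsg.Prelude.Def_Blocks
import Cfsg.Agent.Lib.Helper57_ModDefs
import Cfsg.Agent.Lib.Helper39_S4504_CNT

/-!
# S4504 package PK-A7 (helper84, for helper57): `eq_mul`

`Γ` the normal closure of `x`, `φ : Γ → PSL(2,p)` onto with kernel `V₀ ∩ Γ`.  Then `G = Γ V₀` and
`|N_Γ(<x>) : C_Γ(x)| = (p-1)/2`.
-/

set_option autoImplicit false

namespace Cfsg.Agent.Lib.Helper84_S4504_A7

open Cfsg Cfsg.Agent.Lib.Helper57_ModDefs

/-- membership in the centralizer of a cyclic subgroup -/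
theorem mem_centralizer_zpowers {G : Type*} [Group G] (x g : G) :
    g ∈ Subgroup.centralizer ((Subgroup.zpowers x : Subgroup G) : Set G) ↔ g * x = x * g := by
  rw [Subgroup.mem_centralizer_iff]
  constructor
  · intro h
    exact (h x (Subgroup.mem_zpowers x)).symm
  · intro h n hn
    obtain ⟨k, rfl⟩ := Subgroup.mem_zpowers_iff.1 hn
    have hc : Commute g x := h
    exact ((hc.zpow_right k).eq).symm

/-- in a finite group, `g x g⁻¹ ∈ <x>` puts `g` in the normalizer of `<x>` -/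
theorem mem_normalizer_zpowers {G : Type*} [Group G] [Finite G] (x g : G)
    (h : g * x * g⁻¹ ∈ Subgroup.zpowers x) :
    g ∈ Subgroup.normalizer ((Subgroup.zpowers x : Subgroup G) : Set G) := by
  apply Subgroup.mem_normalizer_fintype
  intro n hn
  obtain ⟨k, rfl⟩ := Subgroup.mem_zpowers_iff.1 (SetLike.mem_coe.1 hn)
  rw [SetLike.mem_coe, ← conj_zpow]
  exact Subgroup.zpow_mem _ h k

/-- converse -/
theorem conj_mem_of_mem_normalizer {G : Type*} [Group G] (x g : G)
    (h : g ∈ Subgroup.normalizer ((Subgroup.zpowers x : Subgroup G) : Set G)) :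
    g * x * g⁻¹ ∈ Subgroup.zpowers x := by
  have := (Subgroup.mem_normalizer_iff.1 h x).1 (Subgroup.mem_zpowers x)
  exact this


/-- an element of `V₀` killed by `p` is trivial when `|V₀|` is prime to `p` -/
theorem eq_one_of_pow_eq_one {G : Type*} [Group G] [Finite G] (p : ℕ) (V₀ : Subgroup G)
    (hcop : (Nat.card V₀).Coprime p) (v : G) (hv : v ∈ V₀) (hvp : v ^ p = 1) : v = 1 := by
  have h1 : orderOf v ∣ p := orderOf_dvd_of_pow_eq_one hvp
  have h2 : orderOf v ∣ Nat.card V₀ := by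
    have := orderOf_dvd_natCard (⟨v, hv⟩ : V₀)
    rwa [Subgroup.orderOf_mk] at this
  have h3 : orderOf v ∣ 1 := by
    have := Nat.dvd_gcd h2 h1
    rwa [hcop] at this
  exact orderOf_eq_one_iff.1 (Nat.dvd_one.1 h3)

section facts

variable {G : Type*} [Group G] [Finite G] (p : ℕ)
  (x h : G) (V₀ : Subgroup G) (f : ℕ) (hloc : LocalData p x h V₀ f)
  {Q : Type*} [Group Q] (Γ : Subgroup G) (hxΓ : x ∈ Γ)
  (φ : ↥Γ →* Q)
  (hker : ∀ g, φ g = 1 ↔ (g : G) ∈ V₀)

include hloc hker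

omit [Finite G] in
/-- `C_Γ(x) = φ⁻¹ <φ x>` -/
theorem centralizer_subgroupOf_eq :
    (Subgroup.centralizer ((Subgroup.zpowers x : Subgroup G) : Set G)).subgroupOf Γ =
      (Subgroup.zpowers (φ ⟨x, hxΓ⟩)).comap φ := by
  ext g
  rw [Subgroup.mem_subgroupOf, mem_centralizer_zpowers, Subgroup.mem_comap]
  constructor
  · intro hc
    obtain ⟨i, v, hv, hg⟩ := hloc.cent g hc
    have hvΓ : v ∈ Γ := by
      have : v = (x ^ i)⁻¹ * g := by rw [hg]; group
      rw [this]
      exact Γ.mul_mem (Γ.inv_mem (Γ.pow_mem hxΓ i)) g.2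
    have hgg : g = (⟨x, hxΓ⟩ : Γ) ^ i * ⟨v, hvΓ⟩ := Subtype.ext (by simp [hg])
    rw [hgg, map_mul, map_pow, (hker ⟨v, hvΓ⟩).2 hv, mul_one]
    exact Subgroup.pow_mem _ (Subgroup.mem_zpowers _) i
  · intro hm
    obtain ⟨k, hk⟩ := Subgroup.mem_zpowers_iff.1 hm
    have h1 : φ ((⟨x, hxΓ⟩ : Γ) ^ (-k) * g) = 1 := by
      rw [map_mul, map_zpow, ← hk]; group
    have hv := (hker _).1 h1
    have hv' : x ^ (-k) * (g : G) ∈ V₀ := by simpa using hv
    have hgg : (g : G) = x ^ k * (x ^ (-k) * (g : G)) := by group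
    have hc := hloc.commV _ hv'
    rw [hgg]
    calc x ^ k * (x ^ (-k) * (g : G)) * x = x ^ k * ((x ^ (-k) * (g : G)) * x) := mul_assoc _ _ _
      _ = x ^ k * (x * (x ^ (-k) * (g : G))) := by rw [hc]
      _ = x * (x ^ k * (x ^ (-k) * (g : G))) := by
        rw [← mul_assoc, ← mul_assoc x, (Commute.zpow_self x k).eq]

/-- `N_Γ(<x>) = φ⁻¹ N(<φ x>)` -/
theorem normalizer_subgroupOf_eq [Finite Q] :
    (Subgroup.normalizer ((Subgroup.zpowers x : Subgroup G) : Set G)).subgroupOf Γ =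
      (Subgroup.normalizer ((Subgroup.zpowers (φ ⟨x, hxΓ⟩) : Subgroup Q) : Set Q)).comap φ := by
  ext g
  rw [Subgroup.mem_subgroupOf, Subgroup.mem_comap]
  constructor
  · intro hn
    have h1 := conj_mem_of_mem_normalizer x g hn
    obtain ⟨k, hk⟩ := Subgroup.mem_zpowers_iff.1 h1
    apply mem_normalizer_zpowers
    have h2 : g * (⟨x, hxΓ⟩ : Γ) * g⁻¹ = (⟨x, hxΓ⟩ : Γ) ^ k := Subtype.ext (by simp [hk])
    have h3 : φ g * φ ⟨x, hxΓ⟩ * (φ g)⁻¹ = (φ ⟨x, hxΓ⟩) ^ k := by
      rw [← map_inv, ← map_mul, ← map_mul, h2, map_zpow]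
    rw [h3]
    exact Subgroup.zpow_mem _ (Subgroup.mem_zpowers _) k
  · intro hn
    have h1 := conj_mem_of_mem_normalizer _ _ hn
    obtain ⟨k, hk⟩ := Subgroup.mem_zpowers_iff.1 h1
    have h2 : φ ((⟨x, hxΓ⟩ : Γ) ^ (-k) * (g * ⟨x, hxΓ⟩ * g⁻¹)) = 1 := by
      rw [map_mul, map_zpow, map_mul, map_mul, map_inv, ← hk]; group
    have hv := (hker _).1 h2
    have hv' : x ^ (-k) * ((g : G) * x * (g : G)⁻¹) ∈ V₀ := by simpa using hv
    set v : G := x ^ (-k) * ((g : G) * x * (g : G)⁻¹) with hvdef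
    have hw : (g : G) * x * (g : G)⁻¹ = x ^ k * v := by rw [hvdef]; group
    have hcomm : Commute (x ^ k) v := ((show Commute v x from hloc.commV v hv').zpow_right k).symm
    have hxp : x ^ p = 1 := by rw [← hloc.ox]; exact pow_orderOf_eq_one x
    have hvp : v ^ p = 1 := by
      have h3 : ((g : G) * x * (g : G)⁻¹) ^ p = 1 := by rw [conj_pow, hxp]; group
      rw [hw, hcomm.mul_pow, ← zpow_natCast, ← zpow_mul, mul_comm, zpow_mul, zpow_natCast, hxp,
        one_zpow, one_mul] at h3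
      exact h3
    have hv1 : v = 1 := eq_one_of_pow_eq_one p V₀ hloc.copV v hv' hvp
    apply mem_normalizer_zpowers
    rw [hw, hv1, mul_one]
    exact Subgroup.zpow_mem _ (Subgroup.mem_zpowers _) k

end facts


/-- the abstract index computation and the factorisation `G = Γ V₀` -/
theorem abstract_eq_mul {G : Type*} [Group G] [Finite G] {Q : Type*} [Group Q] [Finite Q]
    (p : ℕ) (hp : 0 < p) (Γ C N V₀ : Subgroup G) [V₀.Normal]
    (φ : ↥Γ →* Q) (hφ : Function.Surjective φ) (Y N' : Subgroup Q) (hYN : Y ≤ N')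
    (hF1 : C.subgroupOf Γ = Y.comap φ) (hF2 : N.subgroupOf Γ = N'.comap φ)
    (hY : Nat.card Y = p) (hcnt : 2 * Nat.card N' = p * (p - 1))
    (hCN : C ≤ N) (hfle : 2 * C.relIndex N ≤ p - 1) (hCV : C ≤ Γ ⊔ V₀) (hfr : N ⊔ Γ = ⊤) :
    (∀ g : G, ∃ g₀ ∈ Γ, ∃ v ∈ V₀, g = g₀ * v) ∧ 2 * C.relIndex (N ⊓ Γ) = p - 1 := by
  have h1 : C.relIndex (N ⊓ Γ) = Y.relIndex N' := by
    calc C.relIndex (N ⊓ Γ) = C.relIndex ((N.subgroupOf Γ).map Γ.subtype) := by
          rw [Subgroup.subgroupOf_map_subtype]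
      _ = (C.subgroupOf Γ).relIndex (N.subgroupOf Γ) := (Subgroup.relIndex_comap _ _ _).symm
      _ = (Y.comap φ).relIndex (N'.comap φ) := by rw [hF1, hF2]
      _ = Y.relIndex ((N'.comap φ).map φ) := Subgroup.relIndex_comap _ _ _
      _ = Y.relIndex N' := by
          rw [Subgroup.map_comap_eq_self_of_surjective hφ]
  have h2 : p * Y.relIndex N' = Nat.card N' := by
    have := Subgroup.relIndex_mul_relIndex ⊥ Y N' bot_le hYN
    rwa [Subgroup.relIndex_bot_left, Subgroup.relIndex_bot_left, hY] at this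
  have hsecond : 2 * C.relIndex (N ⊓ Γ) = p - 1 := by
    rw [h1]
    have : p * (2 * Y.relIndex N') = p * (p - 1) := by
      rw [← hcnt, ← h2]; ring
    exact Nat.eq_of_mul_eq_mul_left hp this
  refine ⟨?_, hsecond⟩
  -- `N = (N ⊓ Γ) C`
  have hNle : N ≤ (N ⊓ Γ) ⊔ C := by
    obtain ⟨M, hM⟩ : ∃ M : Subgroup G, M = (N ⊓ Γ) ⊔ C := ⟨_, rfl⟩
    rw [← hM]
    have hCM : C ≤ M := hM ▸ le_sup_right
    have hMN : M ≤ N := hM ▸ sup_le inf_le_left hCN
    have hmul := Subgroup.relIndex_mul_relIndex C M N hCM hMN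
    have hM0 : M.relIndex N ≠ 0 := Subgroup.index_ne_zero_of_finite
    have hC0 : C.relIndex M ≠ 0 := Subgroup.index_ne_zero_of_finite
    have hle : C.relIndex (N ⊓ Γ) ≤ C.relIndex M :=
      Subgroup.relIndex_le_of_le_right (hM ▸ le_sup_left) hC0
    have h3 : C.relIndex M * M.relIndex N ≤ C.relIndex M := by
      rw [hmul]; omega
    have h4 : M.relIndex N ≤ 1 := by
      by_contra hlt
      push Not at hlt
      have : C.relIndex M * 2 ≤ C.relIndex M * M.relIndex N := Nat.mul_le_mul_left _ hlt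
      omega
    have h5 : M.relIndex N = 1 := by omega
    exact Subgroup.relIndex_eq_one.1 h5
  have htop : (⊤ : Subgroup G) ≤ Γ ⊔ V₀ := by
    rw [← hfr]
    refine sup_le ?_ le_sup_left
    refine hNle.trans (sup_le ?_ hCV)
    exact inf_le_right.trans le_sup_left
  intro g
  have hg : g ∈ ((Γ ⊔ V₀ : Subgroup G) : Set G) := htop (Subgroup.mem_top g)
  rw [Subgroup.mul_normal Γ V₀, Set.mem_mul] at hg
  obtain ⟨a, ha, b, hb, hab⟩ := hg
  exact ⟨a, ha, b, hb, hab.symm⟩

open scoped MatrixGroups in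
theorem eq_mul {G : Type*} [Group G] [Finite G] (p : ℕ) [Fact p.Prime] (hp5 : 5 ≤ p)
    (x h : G) (V₀ : Subgroup G) (f : ℕ) (hloc : LocalData p x h V₀ f) (hVn : V₀.Normal)
    (hPn : ¬ (Subgroup.zpowers x).Normal)
    (φ : ↥(Subgroup.normalClosure ({x} : Set G)) →* Matrix.ProjectiveSpecialLinearGroup (Fin 2) (ZMod p))
    (hφ : Function.Surjective φ) (hker : ∀ g, φ g = 1 ↔ (g : G) ∈ V₀)
    (hfle : 2 * (Subgroup.centralizer ((Subgroup.zpowers x : Subgroup G) : Set G)).relIndex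
      (Subgroup.normalizer ((Subgroup.zpowers x : Subgroup G) : Set G)) ≤ p - 1) :
    (∀ g : G, ∃ g₀ ∈ Subgroup.normalClosure ({x} : Set G), ∃ v ∈ V₀, g = g₀ * v) ∧
    2 * (Subgroup.centralizer ((Subgroup.zpowers x : Subgroup G) : Set G)).relIndex
      (Subgroup.normalizer ((Subgroup.zpowers x : Subgroup G) : Set G) ⊓
        Subgroup.normalClosure ({x} : Set G)) = p - 1 := by
  classical
  have _ := hPn
  have hp : p.Prime := Fact.out
  have hΓn : (Subgroup.normalClosure ({x} : Set G)).Normal := Subgroup.normalClosure_normal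
  have hxΓ : x ∈ Subgroup.normalClosure ({x} : Set G) :=
    Subgroup.subset_normalClosure (Set.mem_singleton x)
  have hfinQ : Finite (Matrix.ProjectiveSpecialLinearGroup (Fin 2) (ZMod p)) :=
    Finite.of_surjective φ hφ
  have hxp : x ^ p = 1 := by rw [← hloc.ox]; exact pow_orderOf_eq_one x
  -- (a) the image `y` of `x` has order `p`
  have hxV : x ∉ V₀ := by
    intro hx
    have h1 : x = 1 := eq_one_of_pow_eq_one p V₀ hloc.copV x hx hxp
    have h2 := hloc.ox
    rw [h1, orderOf_one] at h2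
    exact hp.one_lt.ne h2
  obtain ⟨y, hy⟩ : ∃ y, y = φ ⟨x, hxΓ⟩ := ⟨_, rfl⟩
  have hy1 : y ≠ 1 := fun h1 => hxV ((hker ⟨x, hxΓ⟩).1 (hy ▸ h1))
  have hyp : y ^ p = 1 := by
    rw [hy, ← map_pow]
    have : (⟨x, hxΓ⟩ : ↥(Subgroup.normalClosure ({x} : Set G))) ^ p = 1 :=
      Subtype.ext (by simpa using hxp)
    rw [this, map_one]
  have hoy : orderOf y = p := orderOf_eq_prime hyp hy1
  -- (b) `<y>` is not normal
  have hsimple : IsSimpleGroup (Matrix.ProjectiveSpecialLinearGroup (Fin 2) (ZMod p)) :=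
    Matrix.ProjectiveSpecialLinearGroup.rank_two_simple (by rw [Nat.card_zmod]; omega)
  have hyn : ¬ (Subgroup.zpowers y).Normal := by
    intro hn
    rcases hn.eq_bot_or_eq_top with h1 | h1
    · apply hy1
      have : y ∈ Subgroup.zpowers y := Subgroup.mem_zpowers y
      rw [h1] at this
      exact Subgroup.mem_bot.1 this
    · have h2 : Nat.card (Subgroup.zpowers y) = p := by rw [Nat.card_zpowers, hoy]
      rw [h1, Subgroup.card_top] at h2
      have h3 := Cfsg.Agent.Lib.Helper39_S4504_CNT.card_psl_prime (p := p) (by omega)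
      rw [h2] at h3
      have h4 : 2 = p ^ 2 - 1 := by
        have : p * 2 = p * (p ^ 2 - 1) := h3
        exact Nat.eq_of_mul_eq_mul_left hp.pos this
      have h5 : 25 ≤ p ^ 2 := by nlinarith
      omega
  -- (c) order of the normalizer
  have hcnt := Cfsg.Agent.Lib.Helper39_S4504_CNT.card_normalizer_psl hp5
    (MulEquiv.refl (Matrix.ProjectiveSpecialLinearGroup (Fin 2) (ZMod p))) y hoy hyn
  -- (d) the index
  have hF1 := centralizer_subgroupOf_eq p x h V₀ f hloc
    (Subgroup.normalClosure ({x} : Set G)) hxΓ φ hker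
  have hF2 := normalizer_subgroupOf_eq p x h V₀ f hloc
    (Subgroup.normalClosure ({x} : Set G)) hxΓ φ hker
  rw [← hy] at hF1 hF2
  -- (e) Frattini
  have hfr : Subgroup.normalizer ((Subgroup.zpowers x : Subgroup G) : Set G) ⊔
      Subgroup.normalClosure ({x} : Set G) = ⊤ := by
    have := hΓn
    have hox' : orderOf (⟨x, hxΓ⟩ : ↥(Subgroup.normalClosure ({x} : Set G))) = p := by
      rw [Subgroup.orderOf_mk, hloc.ox]
    have hcardΓ : (Nat.card ↥(Subgroup.normalClosure ({x} : Set G))).factorization p = 1 := by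
      have hne : Nat.card ↥(Subgroup.normalClosure ({x} : Set G)) ≠ 0 := Nat.card_pos.ne'
      have h1 : p ^ 1 ∣ Nat.card ↥(Subgroup.normalClosure ({x} : Set G)) := by
        rw [pow_one, ← hox']; exact orderOf_dvd_natCard _
      have h2 : ¬ p ^ 2 ∣ Nat.card ↥(Subgroup.normalClosure ({x} : Set G)) :=
        fun hd => hloc.syl (hd.trans (Subgroup.card_subgroup_dvd_card _))
      rw [hp.pow_dvd_iff_le_factorization hne] at h1 h2
      omega
    have hcard : Nat.card (Subgroup.zpowers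
        (⟨x, hxΓ⟩ : ↥(Subgroup.normalClosure ({x} : Set G)))) =
        p ^ (Nat.card ↥(Subgroup.normalClosure ({x} : Set G))).factorization p := by
      rw [hcardΓ, pow_one, Nat.card_zpowers, hox']
    have hs := Sylow.normalizer_sup_eq_top (Sylow.ofCard _ hcard)
    rw [Sylow.coe_ofCard, MonoidHom.map_zpowers] at hs
    exact hs
  have hCV : Subgroup.centralizer ((Subgroup.zpowers x : Subgroup G) : Set G) ≤
      Subgroup.normalClosure ({x} : Set G) ⊔ V₀ := by
    intro c hc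
    rw [mem_centralizer_zpowers] at hc
    obtain ⟨i, v, hv, rfl⟩ := hloc.cent c hc
    exact Subgroup.mul_mem_sup (Subgroup.pow_mem _ hxΓ i) hv
  exact abstract_eq_mul p hp.pos _ _ _ V₀ φ hφ (Subgroup.zpowers y) _ Subgroup.le_normalizer
    hF1 hF2 (by rw [Nat.card_zpowers, hoy]) hcnt (Subgroup.centralizer_le_normalizer _) hfle hCV hfr

end Cfsg.Agent.Lib.Helper84_S4504_A7
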