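import Mathlib
import Cfsg.Agent.S4501
import Cfsg.Agent.S4503
import Cfsg.Agent.S4504
import Cfsg.Agent.Lib.Helper53_BT_Arith
import Cfsg.Agent.Lib.Helper64_BF_DATAA
import Cfsg.Agent.Lib.Helper32_BF_DVD
import Cfsg.Agent.Lib.Helper63_BF_SETUP
import Cfsg.Agent.Lib.Helper84_BR_FAITH
import Cfsg.Agent.Lib.Helper23_ZStarB
import Cfsg.Agent.Lib.Helper30_FourPQ
import Cfsg.Agent.Lib.Helper5_PSLCard
import Cfsg.Agent.Lib.Helper35_PSL2Card

/-!
# Simple groups of order `p r q^b` (Brauer–Tuan corollary, S0998) — helper53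

`main_of_lt`: a non-cyclic simple group of order `p r q^b` (`r < p`) is `A₅` or `PSL(2,7)`.
The principal `p`-block data (`exists_fdata0`, helper3/helper64/helper16), the arithmetic of
`Helper53_BT_Arith`, Feit–Thompson/Brauer `S4503`, `S4504` and Brauer's `S4501`.
-/

set_option autoImplicit false

namespace Cfsg.Agent.Lib.Helper53_BT_Main

open Cfsg Cfsg.Agent.Lib.Helper3_BFDefs Cfsg.Agent.Lib.Helper16_B43Defs
  Cfsg.Agent.Lib.Helper80_CharBasic Cfsg.Agent.Lib.Helper53_BT_Arith

universe u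

/-- a non-cyclic simple group is not abelian -/
theorem exists_not_comm {G : Type u} [Group G] [IsSimpleGroup G] (hG : ¬ IsCyclic G) :
    ∃ x y : G, x * y ≠ y * x := by
  by_contra h
  push Not at h
  apply hG
  let _ : CommGroup G := { (inferInstance : Group G) with mul_comm := h }
  infer_instance

/-- the order of a Sylow `p`-subgroup when `p` divides the order exactly once -/
theorem card_sylow_of_exact {G : Type u} [Group G] [Finite G] {p m : ℕ} [hp : Fact p.Prime]
    (hcard : Nat.card G = p * m) (hpm : ¬ p ∣ m) (P : Sylow p G) : Nat.card P = p := by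
  rw [Sylow.card_eq_multiplicity, hcard]
  have hm0 : m ≠ 0 := by
    rintro rfl
    exact hpm (dvd_zero p)
  rw [Nat.factorization_mul hp.out.ne_zero hm0, Finsupp.add_apply,
    Nat.Prime.factorization_self hp.out, Nat.factorization_eq_zero_of_not_dvd hpm]
  simp

/-- `p e (1 + n p)` divides the group order. -/
theorem order_dvd {G : Type u} [Group G] [Finite G] {p : ℕ} [Fact p.Prime] (P : Sylow p G)
    (hP : Nat.card P = p) (n : ℕ) (hn : Nat.card (Sylow p G) = 1 + n * p) :
    p * ((Subgroup.centralizer ((P : Subgroup G) : Set G)).relIndex (NP P) * (1 + n * p)) ∣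
      Nat.card G := by
  have hc : IsCyclic ↥(P : Subgroup G) := isCyclic_of_prime_card hP
  have hPC : (P : Subgroup G) ≤ Subgroup.centralizer ((P : Subgroup G) : Set G) := by
    intro x hx
    rw [Subgroup.mem_centralizer_iff]
    intro y hy
    have hcomm : ∀ a b : ↥(P : Subgroup G), a * b = b * a := fun a b => by
      let _ : CommGroup ↥(P : Subgroup G) := IsCyclic.commGroup
      exact mul_comm a b
    have := hcomm ⟨y, hy⟩ ⟨x, hx⟩
    exact congrArg Subtype.val this
  have hCN : Subgroup.centralizer ((P : Subgroup G) : Set G) ≤ NP P :=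
    Subgroup.centralizer_le_normalizer _
  have h1 : p ∣ Nat.card (Subgroup.centralizer ((P : Subgroup G) : Set G)) := by
    have := Subgroup.card_dvd_of_le hPC
    rwa [hP] at this
  have h2 : (Subgroup.centralizer ((P : Subgroup G) : Set G)).relIndex (NP P) *
      Nat.card (Subgroup.centralizer ((P : Subgroup G) : Set G)) = Nat.card (NP P) := by
    have h := Subgroup.card_mul_index
      ((Subgroup.centralizer ((P : Subgroup G) : Set G)).subgroupOf (NP P))
    have hc' : Nat.card ((Subgroup.centralizer ((P : Subgroup G) : Set G)).subgroupOf (NP P)) =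
        Nat.card (Subgroup.centralizer ((P : Subgroup G) : Set G)) :=
      Nat.card_congr (Subgroup.subgroupOfEquivOfLe hCN).toEquiv
    rw [hc'] at h
    rw [Subgroup.relIndex, mul_comm]
    exact h
  have h3 : Nat.card (Sylow p G) * Nat.card (NP P) = Nat.card G := by
    rw [Sylow.card_eq_index_normalizer P, mul_comm]
    exact Subgroup.card_mul_index _
  rw [← h3, hn, ← h2]
  obtain ⟨c, hc'⟩ := h1
  rw [hc']
  exact ⟨c, by ring⟩


/-- twice the order of `PSL(2,p)` -/
theorem card_PSL2_zmod (p : ℕ) [hp : Fact p.Prime] (hp2 : p ≠ 2) :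
    Nat.card (Matrix.ProjectiveSpecialLinearGroup (Fin 2) (ZMod p)) * 2 = p * (p ^ 2 - 1) := by
  have h1 := Cfsg.Agent.Lib.Helper5_PSLCard.card_PSL_mul (F := ZMod p) 2 (by norm_num)
  rw [Cfsg.Agent.Lib.Helper5_PSLCard.card_SL_two, ZMod.card] at h1
  have hodd : p % 2 = 1 := by
    rcases Nat.Prime.eq_two_or_odd hp.out with h | h
    · exact absurd h hp2
    · exact h
  have hg : Nat.gcd (p - 1) 2 = 2 := by
    have : 2 ∣ p - 1 := by omega
    exact Nat.gcd_eq_right this
  rw [hg] at h1
  exact h1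

/-- a simple non-abelian group is isomorphic to its central quotient -/
theorem card_quot_center {G : Type u} [Group G] [Finite G] [IsSimpleGroup G]
    (hna : ∃ x y : G, x * y ≠ y * x) : Nat.card (G ⧸ Subgroup.center G) = Nat.card G := by
  have hZ : Subgroup.center G = ⊥ := by
    rcases (inferInstance : (Subgroup.center G).Normal).eq_bot_or_eq_top with h | h
    · exact h
    · exfalso
      obtain ⟨x, y, hxy⟩ := hna
      apply hxy
      have hx : x ∈ Subgroup.center G := by rw [h]; exact Subgroup.mem_top x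
      exact (Subgroup.mem_center_iff.mp hx y).symm
  have h := Subgroup.card_eq_card_quotient_mul_card_subgroup (Subgroup.center G)
  rw [hZ, Subgroup.card_bot, mul_one] at h
  rw [hZ]
  exact h.symm

theorem main_of_lt {G : Type u} [Group G] [Finite G] [IsSimpleGroup G] (hG : ¬ IsCyclic G)
    (p q r b : ℕ) (hp : p.Prime) (hq : q.Prime) (hr : r.Prime) (hpq : p ≠ q) (hpr : p ≠ r)
    (hqr : q ≠ r) (hcard : Nat.card G = p * r * q ^ b) (hlt : r < p) :
    Nonempty (G ≃* alternatingGroup (Fin 5)) ∨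
      Nonempty (G ≃* Matrix.ProjectiveSpecialLinearGroup (Fin 2) (ZMod 7)) := by
  classical
  have hna := exists_not_comm hG
  by_cases hr3 : r = 3
  · subst hr3
    exact (Cfsg.Agent.S4501.result hna p q 1 b hp hq hpq (by norm_num)).2 (by rw [hcard]; ring)
  by_cases hp3 : p = 3
  · subst hp3
    have hr2 : r = 2 := by have := hr.two_le; omega
    subst hr2
    exact (Cfsg.Agent.S4501.result hna 2 q 1 b Nat.prime_two hq (Ne.symm hqr) (by norm_num)).2
      (by rw [hcard]; ring)
  -- the generic case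
  have hr2 := hr.two_le
  have hp4 : p ≠ 4 := by rintro rfl; norm_num at hp
  have hp5 : 5 ≤ p := by omega
  have hpodd : p % 2 = 1 := by
    rcases Nat.Prime.eq_two_or_odd hp with h | h
    · omega
    · exact h
  have hrp : r + 1 < p := by
    by_contra h
    have hrp' : r + 1 = p := by omega
    have h2 : 2 ∣ r := by omega
    have := (Nat.prime_dvd_prime_iff_eq Nat.prime_two hr).mp h2
    omega
  have hperf := Cfsg.Agent.Lib.Helper30_FourPQ.perfect hna
  have : Fact p.Prime := ⟨hp⟩
  let _ : Fintype G := Fintype.ofFinite G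
  have hpm : ¬ p ∣ r * q ^ b := by
    intro h
    rcases (Nat.Prime.dvd_mul hp).mp h with h1 | h1
    · exact hpr ((Nat.prime_dvd_prime_iff_eq hp hr).mp h1)
    · exact hpq ((Nat.prime_dvd_prime_iff_eq hp hq).mp (hp.dvd_of_dvd_pow h1))
  have hcard' : Nat.card G = p * (r * q ^ b) := by rw [hcard]; ring
  let P : Sylow p G := default
  have hP : Nat.card P = p := card_sylow_of_exact hcard' hpm P
  obtain ⟨n, hn⟩ : ∃ n, Nat.card (Sylow p G) = 1 + n * p := by
    have h := card_sylow_modEq_one p G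
    have h1 : 1 ≤ Nat.card (Sylow p G) := Nat.card_pos
    obtain ⟨k, hk⟩ := (Nat.modEq_iff_dvd' h1).mp h.symm
    exact ⟨k, by rw [mul_comm k p, ← hk]; omega⟩
  obtain ⟨-, he2, ⟨t, ht⟩, hn1⟩ := Cfsg.Agent.Lib.Helper63_BF_SETUP.setup hperf P hP n hn
  set e := (Subgroup.centralizer ((P : Subgroup G) : Set G)).relIndex (NP P) with he
  obtain ⟨M, hM⟩ := Cfsg.Agent.Lib.Helper23_ZStarB.exists_pModular p hp
  obtain ⟨D0, hD1, hDdeg, hDm, hDB, hDval⟩ :=
    Cfsg.Agent.Lib.Helper64_BF_DATAA.exists_fdata0 hperf P hP n e t he.symm ht.symm he2 hn1 hM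
  have hdvd : ∀ χ, χ ∈ D0.X ∨ χ ∈ D0.Y → D0.deg χ ∣ e * (1 + n * p) := by
    intro χ hχ
    rw [hDdeg χ]
    rcases hχ with hχ | hχ
    · refine Cfsg.Agent.Lib.Helper32_BF_DVD.dvd_X P hP n hn e he.symm χ (D0.δ χ) (D0.hδ χ hχ)
        fun x hx hx1 => ?_
      have := hDval χ hχ x hx hx1 1 (Subgroup.one_mem _) (by
        rw [orderOf_one]; exact fun h => hp.one_lt.ne' (Nat.dvd_one.mp h))
      rwa [mul_one] at this
    · refine Cfsg.Agent.Lib.Helper32_BF_DVD.dvd_Y P hP n hn e χ D0.ε D0.hε (D0.m1 χ) (hDm χ) ?_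
      rw [← hDdeg χ]
      exact D0.hdegY χ hχ
  let D : FData p e t n (IrrCharacter G) := ⟨D0, hdvd⟩
  have hK : e * (1 + n * p) ∣ r * q ^ b := by
    have := order_dvd P hP n hn
    rw [hcard'] at this
    exact Nat.dvd_of_mul_dvd_mul_left hp.pos this
  obtain ⟨hX, hY⟩ := exceptional_degree D q r b hq hr hK hrp
  have ht1 : 1 ≤ t := by
    rcases Nat.eq_zero_or_pos t with h0 | h0
    · rw [h0] at ht; omega
    · exact h0
  have hYne : D.Y.Nonempty := by
    rw [← Finset.card_pos, D.hYcard]; exact ht1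
  obtain ⟨θ, hθ⟩ := hYne
  obtain ⟨hdegθ, hcase⟩ := hY θ hθ
  rcases hcase with ⟨hε, hre⟩ | ⟨hε, hre⟩
  · -- exceptional degree `r = e`
    exfalso
    have ht2 : 2 ≤ t := by
      rcases Nat.lt_or_ge t 2 with h | h
      · have : t = 1 := by omega
        rw [this, ← hre] at ht; omega
      · exact h
    have h2r : 2 * r + 1 ≤ p := by
      rw [← hre] at ht
      have : 2 * r ≤ r * t := by nlinarith
      omega
    have hθne : θ ≠ oneIrr G := by
      intro h
      have h1 : D.one ∈ D.Y := by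
        show D0.one ∈ D0.Y
        rw [hD1, ← h]; exact hθ
      exact (Finset.disjoint_left.mp D.hdisj D.hone) h1
    have hfaith : ∀ g : G, (θ : G → ℂ) g = (θ : G → ℂ) 1 → g = 1 :=
      fun g hg => Cfsg.Agent.Lib.Helper84_BR_FAITH.FAITH θ hθne g hg
    have hchar : IsCharacter G (θ : G → ℂ) := by
      obtain ⟨m, ρ, -, hρ⟩ := θ.2
      exact ⟨m, ρ, hρ⟩
    have hdiv : p ∣ Nat.card G := ⟨r * q ^ b, hcard'⟩
    have hsq : ¬ p ^ 2 ∣ Nat.card G := by
      intro h
      rw [hcard', pow_two] at h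
      exact hpm (Nat.dvd_of_mul_dvd_mul_left hp.pos h)
    have hnn : ∀ H : Subgroup G, H.Normal → Nat.card H ≠ p := by
      intro H hH hc
      rcases hH.eq_bot_or_eq_top with h | h
      · rw [h, Subgroup.card_bot] at hc; omega
      · rw [h, Subgroup.card_top, hcard'] at hc
        have : r * q ^ b = 1 := by
          have h1 : p * (r * q ^ b) = p * 1 := by rw [hc, mul_one]
          exact Nat.eq_of_mul_eq_mul_left hp.pos h1
        have h2 : r ∣ 1 := by rw [← this]; exact Dvd.intro _ rfl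
        have := Nat.dvd_one.mp h2
        omega
    have hdegθ' : charDegree (θ : G → ℂ) = r := by
      rw [← hDdeg θ]; exact hdegθ
    have h503 := Cfsg.Agent.S4503.result p hp hdiv hsq hnn (θ : G → ℂ) hchar hfaith
    rw [hdegθ'] at h503
    have hp2r : p = 2 * r + 1 := by omega
    obtain ⟨f⟩ := Cfsg.Agent.S4504.result p hp hdiv hsq hnn (θ : G → ℂ) hchar hfaith
      (by rw [hdegθ']; omega)
    have hc1 : Nat.card G = Nat.card (Matrix.ProjectiveSpecialLinearGroup (Fin 2) (ZMod p)) := by
      rw [← card_quot_center hna]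
      exact Nat.card_congr f.toEquiv
    have hc2 := card_PSL2_zmod p (by omega)
    rw [← hc1, hcard] at hc2
    exact caseA_arith hp hq hr hp2r hc2 hr3 hp3
  · exact (caseB hp D q r b hq hr hK hrp hε hre hr3 hX (fun θ hθ => (hY θ hθ).1)).elim

end Cfsg.Agent.Lib.Helper53_BT_Main
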