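import Cfsg.Agent.Lib.Helper77_BRDefs
import Cfsg.Agent.S1230

/-!
Package BR-FER of helper77's S0999 market (Brauer-Reynolds, `|G| < p^3`): the case `q = 2`.
`H = N_G(Q)` (`|Q| = 2`) has exponent `2` because every element is conjugate into `Q`; it is an
elementary abelian Sylow `2`-subgroup of order `p - 1 = 2^m`, every involution is conjugate into `Q`,
so all involution centralizers have exponent `2`, and the landed S1230 gives `G ≅ PSL(2, 2^m)`.
-/

set_option autoImplicit false

namespace Cfsg.Agent.Lib.Helper34_BR_FER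

open Cfsg

universe u

variable {G : Type u} [Group G]

/-- a group of exponent two is commutative -/
theorem comm_of_sq {a b : G} (ha : a ^ 2 = 1) (hb : b ^ 2 = 1) (hab : (a * b) ^ 2 = 1) :
    a * b = b * a := by
  have h1 : a * b * (a * b) = 1 := by rw [← pow_two]; exact hab
  have h2 : a * a = 1 := by rw [← pow_two]; exact ha
  have h3 : b * b = 1 := by rw [← pow_two]; exact hb
  calc a * b = a * b * ((a * b) * (b * a)) := by
        rw [show a * b * (b * a) = a * (b * b) * a by group, h3, mul_one, h2, mul_one]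
    _ = (a * b * (a * b)) * (b * a) := by group
    _ = b * a := by rw [h1, one_mul]

theorem sq_of_conj {g y : G} (h : (g * y * g⁻¹) ^ 2 = 1) : y ^ 2 = 1 := by
  have h1 : (g * y * g⁻¹) ^ 2 = g * y ^ 2 * g⁻¹ := by
    rw [pow_two, pow_two]; group
  rw [h1] at h
  have h2 : y ^ 2 = g⁻¹ * (g * y ^ 2 * g⁻¹) * g := by group
  rw [h2, h, mul_one, inv_mul_cancel]

variable [Fintype G] {p : ℕ} [hp : Fact p.Prime]

theorem FER [IsSimpleGroup G] (hnc : ¬ IsCyclic G) (h5 : 5 ≤ p) (q n t : ℕ) (hq : q = 2)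
    (hG : Nat.card G = p * q * (1 + n * p)) (ht : t * q = p - 1) (hnt : 1 + n * p = t * (p - q))
    (Q : Subgroup G) (hQcard : Nat.card Q = q)
    (hH : Nat.card (Subgroup.normalizer (Q : Set G)) = p - 1)
    (hconj : ∀ y ∈ Subgroup.normalizer (Q : Set G), ∃ g : G, g * y * g⁻¹ ∈ Q) :
    ∃ (m : ℕ) (F : Type) (_ : Field F) (_ : Fintype F), Fintype.card F = 2 ^ m ∧ p = 2 ^ m + 1 ∧
      3 < p ∧ Nonempty (G ≃* Matrix.ProjectiveSpecialLinearGroup (Fin 2) F) := by
  classical
  subst hq
  have hpp : p.Prime := hp.out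
  have : Fact (Nat.Prime 2) := ⟨Nat.prime_two⟩
  set H : Subgroup G := Subgroup.normalizer (Q : Set G) with hHdef
  -- elements of `Q` square to one
  have hQsq : ∀ x ∈ Q, x ^ 2 = 1 := by
    intro x hx
    have h1 : (⟨x, hx⟩ : Q) ^ Nat.card Q = 1 := pow_card_eq_one'
    rw [hQcard] at h1
    exact congrArg Subtype.val h1
  -- elements of `Q`: at most one non-trivial one
  have hQtwo : ∀ x ∈ Q, ∀ y ∈ Q, x ≠ 1 → y ≠ 1 → x = y := by
    intro x hx y hy hx1 hy1
    have hu := (Nat.card_eq_two_iff' (1 : Q)).1 hQcard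
    have h := hu.unique (y₁ := ⟨x, hx⟩) (y₂ := ⟨y, hy⟩)
      (fun h => hx1 (congrArg Subtype.val h)) (fun h => hy1 (congrArg Subtype.val h))
    exact congrArg Subtype.val h
  -- elements of `H` square to one
  have hHsq : ∀ y ∈ H, y ^ 2 = 1 := by
    intro y hy
    obtain ⟨g, hg⟩ := hconj y hy
    exact sq_of_conj (hQsq _ hg)
  -- the centralizer of a non-trivial element of `Q` lies in `H`
  have hcent : ∀ s ∈ Q, s ≠ 1 → ∀ c : G, c * s = s * c → c ∈ H := by
    intro s hs hs1 c hc
    have hfix : ∀ x ∈ Q, c * x * c⁻¹ = x := by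
      intro x hx
      by_cases hx1 : x = 1
      · rw [hx1, mul_one, mul_inv_cancel]
      · have : x = s := hQtwo x hx s hs hx1 hs1
        rw [this, hc, mul_assoc, mul_inv_cancel, mul_one]
    rw [hHdef, Subgroup.mem_set_normalizer_iff]
    intro x
    constructor
    · intro hx
      rw [hfix x hx]
      exact hx
    · intro hx
      have h1 := hfix _ hx
      have h2 : c * x * c⁻¹ = x := by
        calc c * x * c⁻¹ = c⁻¹ * (c * (c * x * c⁻¹) * c⁻¹) * c := by group
          _ = c⁻¹ * (c * x * c⁻¹) * c := by rw [h1]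
          _ = x := by group
      rw [← h2]
      exact hx
  -- arithmetic
  have hp1 : p - 1 = t * 2 := ht.symm
  have hpodd : ¬ 2 ∣ p := by
    intro h2
    have := (Nat.prime_dvd_prime_iff_eq Nat.prime_two hpp).1 h2
    omega
  have hGcard : Nat.card G = (p - 1) * (p * (p - 2)) := by
    rw [hG, hnt, hp1]; ring
  -- `H` is a `2`-group
  have hHp : IsPGroup 2 H := by
    intro y
    refine ⟨1, ?_⟩
    rw [pow_one]
    exact Subtype.ext (hHsq y.1 y.2)
  obtain ⟨m, hm⟩ := hHp.exists_card_eq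
  rw [hH] at hm
  have hidx : H.index = p * (p - 2) := by
    have h1 := H.card_mul_index
    rw [hH, hGcard] at h1
    exact Nat.eq_of_mul_eq_mul_left (by omega) h1
  have hnd : ¬ 2 ∣ H.index := by
    rw [hidx]
    intro h2
    rcases (Nat.Prime.dvd_mul Nat.prime_two).1 h2 with h | h
    · exact hpodd h
    · apply hpodd
      have : 2 ∣ p - 2 + 2 := Nat.dvd_add h (dvd_refl 2)
      rwa [Nat.sub_add_cancel (by omega)] at this
  set T : Sylow 2 G := hHp.toSylow hnd with hT
  have hTH : (T : Subgroup G) = H := rfl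
  -- `T` is not cyclic
  have hncT : ¬ IsCyclic (T : Subgroup G) := by
    rw [hTH]
    intro hcyc
    obtain ⟨g, hg⟩ := hcyc.exists_generator
    have h1 : orderOf g = Nat.card H := orderOf_eq_card_of_forall_mem_zpowers hg
    have h2 : g ^ 2 = 1 := Subtype.ext (hHsq g.1 g.2)
    have h3 : orderOf g ≤ 2 := orderOf_le_of_pow_eq_one (by norm_num) h2
    rw [h1, hH] at h3
    omega
  -- `T` is not normal
  have hnnT : ¬ (T : Subgroup G).Normal := by
    rw [hTH]
    intro hn
    rcases hn.eq_bot_or_eq_top with h | h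
    · have : Nat.card H = 1 := by rw [h]; exact Subgroup.card_bot
      rw [hH] at this
      omega
    · have : Nat.card H = Nat.card G := by rw [h]; exact Subgroup.card_top
      rw [hH, hGcard] at this
      have h3 : 1 < p * (p - 2) := by
        have h31 : 3 ≤ p - 2 := by omega
        calc 1 < 5 * 3 := by norm_num
          _ ≤ p * (p - 2) := Nat.mul_le_mul h5 h31
      have h4 : (p - 1) * 1 < (p - 1) * (p * (p - 2)) :=
        Nat.mul_lt_mul_of_pos_left h3 (by omega)
      omega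
  -- the involution centralizers
  have hinv : ∀ τ : G, orderOf τ = 2 → ∀ c : G, c * τ = τ * c → c ^ 2 = 1 := by
    intro τ hτ c hc
    have hτ2 : τ ^ 2 = 1 := by rw [← hτ]; exact pow_orderOf_eq_one τ
    have hτ1 : τ ≠ 1 := by
      intro h
      rw [h, orderOf_one] at hτ
      omega
    have hz : IsPGroup 2 (Subgroup.zpowers τ) := by
      apply IsPGroup.of_card (n := 1)
      rw [Nat.card_zpowers, hτ, pow_one]
    obtain ⟨S, hS⟩ := hz.exists_le_sylow
    obtain ⟨g, hg⟩ := MulAction.exists_smul_eq G T S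
    have hτS : τ ∈ (S : Subgroup G) := hS (Subgroup.mem_zpowers τ)
    rw [← hg, Sylow.coe_subgroup_smul, Subgroup.mem_pointwise_smul_iff_inv_smul_mem] at hτS
    have hy : g⁻¹ * τ * g ∈ H := by
      have : (MulAut.conj g)⁻¹ • τ = g⁻¹ * τ * g := by
        rw [MulAut.smul_def, ← map_inv, MulAut.conj_apply, inv_inv]
      rw [this] at hτS
      exact hτS
    obtain ⟨g', hg'⟩ := hconj _ hy
    set b : G := g' * g⁻¹ with hb
    have hs : g' * (g⁻¹ * τ * g) * g'⁻¹ = b * τ * b⁻¹ := by
      rw [hb]; group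
    rw [hs] at hg'
    have hs1 : b * τ * b⁻¹ ≠ 1 := by
      intro h
      apply hτ1
      have : τ = b⁻¹ * (b * τ * b⁻¹) * b := by group
      rw [this, h, mul_one, inv_mul_cancel]
    have hcc : (b * c * b⁻¹) * (b * τ * b⁻¹) = (b * τ * b⁻¹) * (b * c * b⁻¹) := by
      have e1 : (b * c * b⁻¹) * (b * τ * b⁻¹) = b * (c * τ) * b⁻¹ := by group
      have e2 : (b * τ * b⁻¹) * (b * c * b⁻¹) = b * (τ * c) * b⁻¹ := by group
      rw [e1, e2, hc]
    have hmem := hcent _ hg' hs1 _ hcc
    exact sq_of_conj (hHsq _ hmem)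
  have hC : ∀ τ : G, orderOf τ = 2 →
      IsMulCommutative (Subgroup.centralizer ({τ} : Set G)) ∧
        ∀ c ∈ Subgroup.centralizer ({τ} : Set G), c ^ 2 = 1 := by
    intro τ hτ
    have hsq : ∀ c ∈ Subgroup.centralizer ({τ} : Set G), c ^ 2 = 1 := by
      intro c hc
      rw [Subgroup.mem_centralizer_iff] at hc
      exact hinv τ hτ c (hc τ rfl).symm
    refine ⟨⟨⟨fun a b => ?_⟩⟩, hsq⟩
    apply Subtype.ext
    exact comm_of_sq (hsq a.1 a.2) (hsq b.1 b.2)
      (hsq _ ((Subgroup.centralizer ({τ} : Set G)).mul_mem a.2 b.2))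
  obtain ⟨F, iF, iFt, hFcard, hiso⟩ := Cfsg.Agent.S1230.result T hncT hnnT hC
  have hTcard : Nat.card T = p - 1 := hH
  refine ⟨m, F, iF, iFt, ?_, ?_, by omega, hiso⟩
  · rw [hFcard, hTcard, hm]
  · omega

end Cfsg.Agent.Lib.Helper34_BR_FER
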