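import Mathlib
import Cfsg.Agent.Lib.Helper77_BRDefs
import Cfsg.Agent.Lib.Helper25_AbDual
import Cfsg.Agent.Lib.Helper75_CharArith
import Cfsg.Agent.Lib.Helper75_LinChar

/-!
# BR-LIN (helper50, for helper77's rows S0999 / S4701): the linear characters of `N_G(P)/P`

`P` a Sylow `p`-subgroup of prime order with `C_G(P) = P`.  `N/P = N/C` embeds in `Aut(P)`, which is
abelian, so the homomorphisms `N → ℂˣ` trivial on `P` are `|N : P| = q` in number; each is an
irreducible character of `N`, so its inner product with the restriction of a character of `G` is a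
natural number.
-/

set_option autoImplicit false

namespace Cfsg.Agent.Lib.Helper50_BR_LIN

open Cfsg Cfsg.Agent.Lib.Helper80_CharBasic Cfsg.Agent.Lib.Helper77_BRDefs
open scoped ComplexConjugate commutatorElement

universe u

/-- homomorphisms to `ℂˣ` trivial on a normal subgroup with commutative quotient -/
theorem card_trivial_on_normal {W : Type*} [Group W] [Finite W] (K : Subgroup W) [K.Normal]
    (hQ : ∀ a b : W ⧸ K, a * b = b * a) :
    Finite {φ : W →* ℂˣ // ∀ w ∈ K, φ w = 1} ∧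
      Nat.card {φ : W →* ℂˣ // ∀ w ∈ K, φ w = 1} = K.index := by
  let e : {φ : W →* ℂˣ // ∀ w ∈ K, φ w = 1} ≃ (W ⧸ K →* ℂˣ) :=
    { toFun := fun φ => QuotientGroup.lift K φ.1 (fun w hw => φ.2 w hw)
      invFun := fun η => ⟨η.comp (QuotientGroup.mk' K), fun w hw => by
        have : QuotientGroup.mk' K w = 1 := (QuotientGroup.eq_one_iff w).mpr hw
        show η (QuotientGroup.mk' K w) = 1
        rw [this, map_one]⟩
      left_inv := by
        intro φ
        apply Subtype.ext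
        ext w
        rfl
      right_inv := by
        intro η
        ext x
        rfl }
  have hfin : Finite (W ⧸ K →* ℂˣ) := Cfsg.Agent.Lib.Helper25_AbDual.finite_hom hQ
  refine ⟨Finite.of_equiv _ e.symm, ?_⟩
  rw [Nat.card_congr e, Cfsg.Agent.Lib.Helper25_AbDual.card_hom hQ, Subgroup.index_eq_card]

variable {G : Type u} [Group G] [Fintype G] {p : ℕ} [hp : Fact p.Prime]

omit [Fintype G] in
/-- `N_G(P)/P` is commutative when `C_G(P) ≤ P` and `P` is cyclic -/
theorem quot_comm (P : Sylow p G) (hP : Nat.card P = p)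
    (hC : ∀ c ∈ Cen P, c ∈ (P : Subgroup G))
    (a b : ↥(Nrm P) ⧸ ((P : Subgroup G).subgroupOf (Nrm P))) : a * b = b * a := by
  have hcyc : IsCyclic (P : Subgroup G) := isCyclic_of_prime_card hP
  let _ : CommGroup (MulAut (P : Subgroup G)) :=
    (hcyc.mulAutMulEquiv _).toMonoidHom.commGroupOfInjective (hcyc.mulAutMulEquiv _).injective
  have h := Abelianization.commutator_subset_ker (P : Subgroup G).normalizerMonoidHom
  rw [Subgroup.normalizerMonoidHom_ker] at h
  obtain ⟨a, rfl⟩ := QuotientGroup.mk_surjective a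
  obtain ⟨b, rfl⟩ := QuotientGroup.mk_surjective b
  rw [← QuotientGroup.mk_mul, ← QuotientGroup.mk_mul, QuotientGroup.eq]
  have h1 : (a * b)⁻¹ * (b * a) = ⁅b⁻¹, a⁻¹⁆ := by
    rw [commutatorElement_def]; group
  rw [h1]
  have h2 : ⁅b⁻¹, a⁻¹⁆ ∈ commutator ↥(Nrm P) :=
    Subgroup.commutator_mem_commutator (Subgroup.mem_top _) (Subgroup.mem_top _)
  have h3 := h h2
  rw [Subgroup.mem_subgroupOf] at h3 ⊢
  exact hC _ h3

omit [Fintype G] in
/-- `q = |N : P|` when `C_G(P) = P` -/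
theorem qq_eq (P : Sylow p G) (hP : Nat.card P = p)
    (hC : ∀ c ∈ Cen P, c ∈ (P : Subgroup G)) :
    qq P = ((P : Subgroup G).subgroupOf (Nrm P)).index := by
  have hcyc : IsCyclic (P : Subgroup G) := isCyclic_of_prime_card hP
  have hle : (P : Subgroup G) ≤ Cen P := by
    intro x hx
    rw [Subgroup.mem_centralizer_iff]
    intro y hy
    let _ : CommGroup (P : Subgroup G) := IsCyclic.commGroup
    have h := mul_comm (⟨y, hy⟩ : (P : Subgroup G)) ⟨x, hx⟩
    exact congrArg Subtype.val h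
  have heq : Cen P = (P : Subgroup G) := le_antisymm (fun c hc => hC c hc) hle
  unfold qq
  rw [heq]
  rfl

/-- **LIN**. The linear characters of `N_G(P)/P` and their multiplicities. -/
theorem LIN (P : Sylow p G) (hP : Nat.card P = p)
    (hC : ∀ c ∈ Cen P, c ∈ (P : Subgroup G)) : Nonempty (LinData P) := by
  classical
  obtain ⟨hfin, hcard⟩ := card_trivial_on_normal ((P : Subgroup G).subgroupOf (Nrm P))
    (quot_comm P hP hC)
  -- the index type
  let e0 : {f : ↥(Nrm P) →* ℂˣ // ∀ x : ↥(Nrm P), (x : G) ∈ (P : Subgroup G) → f x = 1} ≃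
      {φ : ↥(Nrm P) →* ℂˣ // ∀ w ∈ (P : Subgroup G).subgroupOf (Nrm P), φ w = 1} :=
    Equiv.subtypeEquivRight (fun f => by
      constructor
      · intro h w hw
        exact h w (Subgroup.mem_subgroupOf.mp hw)
      · intro h x hx
        exact h x (Subgroup.mem_subgroupOf.mpr hx))
  have hfin0 : Finite {f : ↥(Nrm P) →* ℂˣ // ∀ x : ↥(Nrm P), (x : G) ∈ (P : Subgroup G) → f x = 1} :=
    Finite.of_equiv _ e0.symm
  let fι : Fintype {f : ↥(Nrm P) →* ℂˣ // ∀ x : ↥(Nrm P), (x : G) ∈ (P : Subgroup G) → f x = 1} :=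
    Fintype.ofFinite _
  -- multiplicities
  have hnat : ∀ (i : {f : ↥(Nrm P) →* ℂˣ // ∀ x : ↥(Nrm P), (x : G) ∈ (P : Subgroup G) → f x = 1})
      (χ : IrrCharacter G), ∃ n : ℕ,
      Cfsg.classInner (fun x : ↥(Nrm P) => (χ : G → ℂ) x)
        (fun x : ↥(Nrm P) => ((i.1 x : ℂˣ) : ℂ)) = n := by
    intro i χ
    have hχ : Cfsg.IsCharacter G (χ : G → ℂ) := by
      obtain ⟨n, ρ, -, h⟩ := χ.2
      exact ⟨n, ρ, h⟩
    have h1 := Cfsg.Agent.Lib.Helper75_CharArith.isCharacter_restrict (Nrm P) hχ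
    have h2 := (Cfsg.Agent.Lib.Helper75_LinChar.isLin_of_hom
      ((Units.coeHom ℂ).comp i.1)).1
    exact Cfsg.Agent.Lib.Helper75_CharArith.classInner_isCharacter_nat h1 h2
  choose a ha using hnat
  refine ⟨{
    ι := {f : ↥(Nrm P) →* ℂˣ // ∀ x : ↥(Nrm P), (x : G) ∈ (P : Subgroup G) → f x = 1}
    fι := fι
    dι := Classical.decEq _
    one := ⟨1, fun _ _ => rfl⟩
    μ := fun i x => if h : x ∈ Nrm P then ((i.1 ⟨x, h⟩ : ℂˣ) : ℂ) else 0
    a := a
    hcard := ?_
    hμ_mul := ?_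
    hμ_P := ?_
    hμ_one := ?_
    hμ_inj := ?_
    hμ_surj := ?_
    ha := ?_ }⟩
  · rw [← Nat.card_eq_fintype_card, Nat.card_congr e0, hcard, qq_eq P hP hC]
  · intro i x hx y hy
    have hxy : x * y ∈ Nrm P := (Nrm P).mul_mem hx hy
    rw [dif_pos hx, dif_pos hy, dif_pos hxy]
    have : (⟨x * y, hxy⟩ : ↥(Nrm P)) = ⟨x, hx⟩ * ⟨y, hy⟩ := rfl
    rw [this, map_mul, Units.val_mul]
  · intro i x hx
    have hxN : x ∈ Nrm P := Subgroup.le_normalizer hx
    rw [dif_pos hxN, i.2 ⟨x, hxN⟩ hx, Units.val_one]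
  · intro x hx
    rw [dif_pos hx]
    rfl
  · intro i j hij
    apply Subtype.ext
    ext x
    have := hij x x.2
    rw [dif_pos x.2, dif_pos x.2] at this
    exact this
  · intro f hf
    refine ⟨⟨f, hf⟩, fun x => ?_⟩
    rw [dif_pos x.2]
  · intro i χ
    rw [← ha i χ]
    unfold Cfsg.classInner
    congr 1
    rw [← finsum_set_coe_eq_finsum_mem, finsum_eq_sum_of_fintype]
    apply Finset.sum_congr rfl
    intro x _
    rw [dif_pos x.2]

end Cfsg.Agent.Lib.Helper50_BR_LIN
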