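import Mathlib
import Cfsg.Prelude.Def_Characters
import Cfsg.Prelude.Def_Blocks
import Cfsg.Agent.Lib.Helper74_GoingUp
import Cfsg.Agent.Lib.Helper80_CharComplete
import Cfsg.Agent.Lib.Helper80_CharBasic
import Cfsg.Agent.Lib.Helper79_Linear
import Cfsg.Agent.Lib.Helper57_FrobNorm2
import Cfsg.Agent.S3669

/-!
# Counting irreducible characters of degree prime to `ℓ` (helper39)

Transport along isomorphisms, the case where all degrees are prime to `ℓ` (through Itô's theorem),
the case of a `2`-group, and the abelianization of the generalized quaternion groups.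
-/

set_option autoImplicit false

namespace Cfsg.Agent.Lib.Helper39_McKayTools

open Cfsg

/-- Transport of irreducible characters along an isomorphism. -/
noncomputable def irrCongr {H K : Type*} [Group H] [Group K] [Finite H] [Finite K]
    (e : H ≃* K) : IrrCharacter H ≃ IrrCharacter K where
  toFun ψ := ⟨fun k => (ψ : H → ℂ) (e.symm k),
    Cfsg.Agent.Lib.Helper74_GoingUp.isIrr_comp_equiv e.symm ψ.2⟩
  invFun φ := ⟨fun h => (φ : K → ℂ) (e h),
    Cfsg.Agent.Lib.Helper74_GoingUp.isIrr_comp_equiv e φ.2⟩
  left_inv ψ := by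
    apply Subtype.ext
    funext h
    simp
  right_inv φ := by
    apply Subtype.ext
    funext k
    simp

theorem charDegree_irrCongr {H K : Type*} [Group H] [Group K] [Finite H] [Finite K]
    (e : H ≃* K) (ψ : IrrCharacter H) :
    charDegree ((irrCongr e ψ : IrrCharacter K) : K → ℂ) = charDegree (ψ : H → ℂ) := by
  unfold charDegree irrCongr
  simp

/-- The number of irreducible characters of degree prime to `ℓ` is invariant under isomorphism. -/
theorem card_pprime_congr {H K : Type*} [Group H] [Group K] [Finite H] [Finite K]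
    (e : H ≃* K) (ℓ : ℕ) :
    Nat.card {ψ : IrrCharacter H // ¬ ℓ ∣ charDegree (ψ : H → ℂ)} =
      Nat.card {ψ : IrrCharacter K // ¬ ℓ ∣ charDegree (ψ : K → ℂ)} := by
  apply Nat.card_congr
  apply Equiv.subtypeEquiv (irrCongr e)
  intro ψ
  rw [charDegree_irrCongr]

/-- The number of conjugacy classes is invariant under isomorphism. -/
theorem card_conjClasses_congr {H K : Type*} [Group H] [Group K] [Finite H] [Finite K]
    (e : H ≃* K) : Nat.card (ConjClasses H) = Nat.card (ConjClasses K) := by
  rw [← Cfsg.Agent.Lib.Helper80_CharComplete.card_irr_eq_card_conjClasses,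
    ← Cfsg.Agent.Lib.Helper80_CharComplete.card_irr_eq_card_conjClasses]
  exact Nat.card_congr (irrCongr e)

/-- If all irreducible degrees are prime to `ℓ`, the count is the class number. -/
theorem card_pprime_of_forall {H : Type*} [Group H] [Finite H] (ℓ : ℕ)
    (h : ∀ ψ : IrrCharacter H, ¬ ℓ ∣ charDegree (ψ : H → ℂ)) :
    Nat.card {ψ : IrrCharacter H // ¬ ℓ ∣ charDegree (ψ : H → ℂ)} = Nat.card (ConjClasses H) := by
  rw [← Cfsg.Agent.Lib.Helper80_CharComplete.card_irr_eq_card_conjClasses]
  exact Nat.card_congr (Equiv.subtypeUnivEquiv h)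

/-- Itô: with an abelian normal subgroup of index prime to `ℓ`, all irreducible degrees are prime
to `ℓ`. -/
theorem card_pprime_of_abelian_normal {H : Type*} [Group H] [Finite H] (A : Subgroup H)
    [A.Normal] (hab : ∀ a ∈ A, ∀ b ∈ A, a * b = b * a) (ℓ : ℕ) (hidx : ¬ ℓ ∣ A.index) :
    Nat.card {ψ : IrrCharacter H // ¬ ℓ ∣ charDegree (ψ : H → ℂ)} = Nat.card (ConjClasses H) := by
  apply card_pprime_of_forall
  intro ψ hdvd
  exact hidx (hdvd.trans (Cfsg.Agent.S3669.charDegree_dvd_index ψ A hab))

/-- The degree of an irreducible character as a natural number. -/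
theorem charDegree_spec {H : Type*} [Group H] (ψ : IrrCharacter H) :
    (ψ : H → ℂ) 1 = (charDegree (ψ : H → ℂ) : ℂ) ∧ 0 < charDegree (ψ : H → ℂ) := by
  obtain ⟨n, hn0, hn⟩ := Cfsg.Agent.Lib.Helper80_CharBasic.irr_apply_one ψ
  have : charDegree (ψ : H → ℂ) = n := by
    unfold charDegree
    rw [hn]
    simp
  rw [this]
  exact ⟨hn, hn0⟩

theorem charDegree_eq_of_apply_one {H : Type*} [Group H] (ψ : H → ℂ) (n : ℕ) (h : ψ 1 = (n : ℂ)) :
    charDegree ψ = n := by
  unfold charDegree
  rw [h]
  simp

/-- In a `2`-group the irreducible characters of odd degree are the linear characters. -/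
theorem card_odd_of_two_group {P : Type*} [Group P] [Finite P] (k : ℕ)
    (hP : Nat.card P = 2 ^ k) :
    Nat.card {ψ : IrrCharacter P // ¬ 2 ∣ charDegree (ψ : P → ℂ)} = (commutator P).index := by
  have := Fintype.ofFinite P
  rw [← Cfsg.Agent.Lib.Helper79_Linear.card_linear]
  apply Nat.card_congr
  apply Equiv.subtypeEquivRight
  intro ψ
  obtain ⟨h1, h0⟩ := charDegree_spec ψ
  have hdvd : charDegree (ψ : P → ℂ) ∣ 2 ^ k := by
    rw [← hP]
    exact Cfsg.Agent.Lib.Helper57_FrobNorm2.degree_dvd_card ψ.2 h1
  constructor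
  · intro h2
    obtain ⟨j, -, hj⟩ := (Nat.dvd_prime_pow Nat.prime_two).1 hdvd
    have hj0 : j = 0 := by
      by_contra hne
      apply h2
      rw [hj]
      exact dvd_pow_self 2 hne
    rw [h1, hj, hj0]
    simp
  · intro h2 hdvd2
    rw [h1] at h2
    have : charDegree (ψ : P → ℂ) = 1 := by exact_mod_cast h2
    rw [this] at hdvd2
    omega

section quaternion

open QuaternionGroup
open scoped commutatorElement

variable {n : ℕ}

theorem a_two_mem_commutator :
    (a 2 : QuaternionGroup n) ∈ commutator (QuaternionGroup n) := by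
  have h : (a 2 : QuaternionGroup n) = ⁅(a 1 : QuaternionGroup n), xa 0⁆ := by
    rw [commutatorElement_def]
    have e1 : (a 1 : QuaternionGroup n)⁻¹ = a (-1) := rfl
    have e2 : (xa 0 : QuaternionGroup n)⁻¹ = xa ((n : ZMod (2 * n)) + 0) := rfl
    rw [e1, e2, a_mul_xa, xa_mul_a, xa_mul_xa]
    congr 1
    have : (2 * n : ZMod (2 * n)) = 0 := by norm_cast; simp
    linear_combination -this
  rw [h]
  exact Subgroup.commutator_mem_commutator (Subgroup.mem_top _) (Subgroup.mem_top _)

theorem a_even_mem_zpowers [NeZero n] (i : ZMod (2 * n)) :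
    (a (2 * i) : QuaternionGroup n) ∈ Subgroup.zpowers (a 2 : QuaternionGroup n) := by
  refine ⟨(i.val : ℤ), ?_⟩
  change (a 2 : QuaternionGroup n) ^ (i.val : ℤ) = a (2 * i)
  have h2 : (a 2 : QuaternionGroup n) = (a 1) ^ (2 : ℕ) := by
    rw [a_one_pow]
    norm_num
  rw [zpow_natCast, h2, ← pow_mul, a_one_pow]
  congr 1
  push_cast
  rw [ZMod.natCast_zmod_val]

theorem commutator_quaternion [NeZero n] :
    commutator (QuaternionGroup n) = Subgroup.zpowers (a 2 : QuaternionGroup n) := by
  have h2n : (2 * n : ZMod (2 * n)) = 0 := by norm_cast; simp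
  apply le_antisymm
  · rw [commutator_eq_closure, Subgroup.closure_le]
    rintro _ ⟨x, y, rfl⟩
    rw [commutatorElement_def]
    rcases x with i | i <;> rcases y with j | j
    · have e1 : (a i : QuaternionGroup n)⁻¹ = a (-i) := rfl
      have e2 : (a j : QuaternionGroup n)⁻¹ = a (-j) := rfl
      rw [e1, e2, a_mul_a, a_mul_a, a_mul_a]
      have : i + j + -i + -j = 2 * 0 := by ring
      rw [this]
      exact a_even_mem_zpowers 0
    · have e1 : (a i : QuaternionGroup n)⁻¹ = a (-i) := rfl
      have e2 : (xa j : QuaternionGroup n)⁻¹ = xa ((n : ZMod (2 * n)) + j) := rfl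
      rw [e1, e2, a_mul_xa, xa_mul_a, xa_mul_xa]
      have : (n : ZMod (2 * n)) + ((n : ZMod (2 * n)) + j) - (j - i + -i) = 2 * i := by
        linear_combination h2n
      rw [this]
      exact a_even_mem_zpowers i
    · have e1 : (xa i : QuaternionGroup n)⁻¹ = xa ((n : ZMod (2 * n)) + i) := rfl
      have e2 : (a j : QuaternionGroup n)⁻¹ = a (-j) := rfl
      rw [e1, e2, xa_mul_a, xa_mul_xa, a_mul_a]
      have : (n : ZMod (2 * n)) + ((n : ZMod (2 * n)) + i) - (i + j) + -j = 2 * (-j) := by
        linear_combination h2n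
      rw [this]
      exact a_even_mem_zpowers (-j)
    · have e1 : (xa i : QuaternionGroup n)⁻¹ = xa ((n : ZMod (2 * n)) + i) := rfl
      have e2 : (xa j : QuaternionGroup n)⁻¹ = xa ((n : ZMod (2 * n)) + j) := rfl
      rw [e1, e2, xa_mul_xa, a_mul_xa, xa_mul_xa]
      have : (n : ZMod (2 * n)) + ((n : ZMod (2 * n)) + j) -
          ((n : ZMod (2 * n)) + i - ((n : ZMod (2 * n)) + j - i)) = 2 * (j - i) := by
        linear_combination h2n
      rw [this]
      exact a_even_mem_zpowers (j - i)
  · rw [Subgroup.zpowers_le]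
    exact a_two_mem_commutator

/-- The commutator subgroup of a generalized quaternion group has index four. -/
theorem index_commutator_quaternion [NeZero n] :
    (commutator (QuaternionGroup n)).index = 4 := by
  have hn : 0 < n := Nat.pos_of_ne_zero (NeZero.ne n)
  have hcard : Nat.card (commutator (QuaternionGroup n)) = n := by
    rw [commutator_quaternion, Nat.card_zpowers]
    have h2 : (a 2 : QuaternionGroup n) = (a 1) ^ (2 : ℕ) := by
      rw [a_one_pow]
      norm_num
    rw [h2, orderOf_pow, orderOf_a_one, Nat.gcd_mul_right_left]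
    exact Nat.mul_div_cancel_left n (by norm_num)
  have h := Subgroup.card_mul_index (commutator (QuaternionGroup n))
  rw [hcard, Nat.card_eq_fintype_card, QuaternionGroup.card] at h
  have : n * (commutator (QuaternionGroup n)).index = n * 4 := by
    rw [h]
    ring
  exact Nat.eq_of_mul_eq_mul_left hn this

end quaternion

end Cfsg.Agent.Lib.Helper39_McKayTools
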