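import Cfsg.Agent.Lib.Helper77_BRAdapter
import Cfsg.Agent.Lib.Helper39_McKayTools
import Cfsg.Agent.Lib.Helper3_CharBridge
import Cfsg.Agent.S4503

/-!
# Brauer-Reynolds (|G| < p^3): the classification `n = 1 ∨ Family` (package CLS, helper77)
-/

set_option autoImplicit false

namespace Cfsg.Agent.Lib.Helper77_BRCLS

open Cfsg Cfsg.Agent.Lib.Helper80_CharBasic Cfsg.Agent.Lib.Helper77_BRDefs
open Cfsg.Agent.Lib.Helper77_BRAdapter
open scoped ComplexConjugate

universe u

variable {G : Type u} [Group G] [Fintype G] {p : ℕ} [hp : Fact p.Prime]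

/-- Split the sum over `P` into the value at `1` and the sum over `P \ 1`. -/
theorem finsum_P_split (P : Sylow p G) (f : G → ℂ) :
    ∑ᶠ x ∈ ((P : Subgroup G) : Set G), f x =
      f 1 + ∑ᶠ x ∈ {x : G | x ∈ (P : Subgroup G) ∧ x ≠ 1}, f x := by
  have h1 : ((P : Subgroup G) : Set G) = insert 1 {x : G | x ∈ (P : Subgroup G) ∧ x ≠ 1} := by
    ext x
    simp only [SetLike.mem_coe, Set.mem_insert_iff, Set.mem_setOf_eq]
    constructor
    · intro hx
      by_cases h : x = 1
      · exact Or.inl h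
      · exact Or.inr ⟨hx, h⟩
    · rintro (rfl | h)
      · exact (P : Subgroup G).one_mem
      · exact h.1
  rw [h1]
  rw [finsum_mem_insert _ (by simp) (Set.toFinite _)]

/-- The sum over `P \ 1` of a function constant there. -/
theorem finsum_Psharp_const (P : Sylow p G) (hP : Nat.card P = p) (f : G → ℂ) (c : ℂ)
    (hf : ∀ x ∈ (P : Subgroup G), x ≠ 1 → f x = c) :
    ∑ᶠ x ∈ {x : G | x ∈ (P : Subgroup G) ∧ x ≠ 1}, f x = ((p : ℂ) - 1) * c := by
  classical
  have h0 := finsum_P_split P (fun _ => (1 : ℂ))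
  have h1 : ∑ᶠ x ∈ {x : G | x ∈ (P : Subgroup G) ∧ x ≠ 1}, f x =
      ∑ᶠ x ∈ {x : G | x ∈ (P : Subgroup G) ∧ x ≠ 1}, c * (fun _ => (1 : ℂ)) x := by
    apply finsum_mem_congr rfl
    intro x hx
    rw [hf x hx.1 hx.2, mul_one]
  rw [h1, ← mul_finsum_mem]
  have h2 : ∑ᶠ x ∈ ((P : Subgroup G) : Set G), (fun _ : G => (1 : ℂ)) x = (p : ℂ) := by
    rw [finsum_mem_eq_finite_toFinset_sum _ (Set.toFinite _)]
    simp only [Finset.sum_const, nsmul_eq_mul, mul_one]
    have h4 : (Set.toFinite ((P : Subgroup G) : Set G)).toFinset.card = p := by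
      rw [← Set.ncard_eq_toFinset_card _ (Set.toFinite _)]
      exact hP
    rw [h4]
  rw [h2] at h0
  have h3 : ∑ᶠ x ∈ {x : G | x ∈ (P : Subgroup G) ∧ x ≠ 1}, (fun _ : G => (1 : ℂ)) x =
      (p : ℂ) - 1 := by
    linear_combination -h0
  rw [h3]; ring


/-- the degree data of an irreducible character -/
theorem deg_spec (ψ : IrrCharacter G) :
    (ψ : G → ℂ) 1 = (charDegree (ψ : G → ℂ) : ℂ) ∧ 0 < charDegree (ψ : G → ℂ) :=
  Cfsg.Agent.Lib.Helper39_McKayTools.charDegree_spec ψ

/-- `∑_χ a_i(χ) χ(1) = |Syl_p(G)|`, in `ℕ`. -/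
theorem degsum (P : Sylow p G) (hP : Nat.card P = p) (L : LinData P) (i : L.ι) :
    ∑ χ : IrrCharacter G, L.a i χ * charDegree (χ : G → ℂ) = Nat.card (Sylow p G) := by
  have h1 := LININD P L i 1
  rw [(INDVAL P hP L i).1] at h1
  have h2 : ∑ χ : IrrCharacter G, (L.a i χ : ℂ) * (χ : G → ℂ) 1 =
      ((∑ χ : IrrCharacter G, L.a i χ * charDegree (χ : G → ℂ) : ℕ) : ℂ) := by
    push_cast
    refine Finset.sum_congr rfl (fun χ _ => ?_)
    rw [(deg_spec χ).1]
  rw [h2] at h1
  exact_mod_cast h1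

/-- `(∑_i a_i(χ)) p = χ(1) + ∑_{P \ 1} χ`. -/
theorem linsum' (P : Sylow p G) (hP : Nat.card P = p)
    (hC : ∀ c ∈ Cen P, c ∈ (P : Subgroup G)) (L : LinData P) (χ : IrrCharacter G) :
    ((∑ i : L.ι, L.a i χ : ℕ) : ℂ) * (p : ℂ) = (charDegree (χ : G → ℂ) : ℂ) +
      ∑ᶠ x ∈ {x : G | x ∈ (P : Subgroup G) ∧ x ≠ 1}, (χ : G → ℂ) x := by
  rw [LINSUM P hP hC L χ, finsum_P_split, (deg_spec χ).1]


set_option maxHeartbeats 1600000 in
theorem CLS [IsSimpleGroup G] (hnc : ¬ IsCyclic G) (P : Sylow p G) (hP : Nat.card P = p)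
    (hC : ∀ c ∈ Cen P, c ∈ (P : Subgroup G)) (D : PBData P) (L : LinData P) (h5 : 5 ≤ p)
    (hq2 : 2 ≤ qq P) (hq : 2 * qq P ≤ p - 1) (n : ℕ) (hn1 : 1 ≤ n)
    (hn : Nat.card (Sylow p G) = 1 + n * p) (hG : Nat.card G = p * qq P * (1 + n * p))
    (hsmall : qq P * (1 + n * p) < p ^ 2) :
    n = 1 ∨ Family P D L n := by
  classical
  have hpp : p.Prime := hp.out
  have hqpos : 0 < qq P := by omega
  have hqp : qq P < p := by omega
  have htq : D.Y.card * qq P = p - 1 := D.hYcard
  -- the order bound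
  have hbig : Nat.card G < p ^ 3 := by
    rw [hG]
    calc p * qq P * (1 + n * p) = p * (qq P * (1 + n * p)) := by ring
      _ < p * p ^ 2 := Nat.mul_lt_mul_of_pos_left hsmall hpp.pos
      _ = p ^ 3 := by ring
  have hG1 : Nat.card G = p * 1 * qq P * (1 + n * p) := by rw [hG]; ring
  have hX := XDEG hnc P hP D hq2 n 1 hn1 le_rfl hn hG1 hbig
  obtain ⟨c1X, c1Y, c1one, c1dich⟩ := CLS1 hnc P hP hC D L hq2 hq n hn1 hn hX
  obtain ⟨e1, e2, e3⟩ := EXC P hP hC D L hq2 hq
  have hreg1 : ¬ p ∣ orderOf (1 : G) := by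
    rw [orderOf_one]
    exact hpp.one_lt.ne' ∘ Nat.dvd_one.mp
  -- the uncovered indices
  set U : Finset L.ι := Finset.univ.filter (fun i => i ≠ L.one ∧ ∀ χ ∈ D.X, L.a i χ = 0) with hU
  have hXY : ∀ χ ∈ D.X, ∀ θ ∈ D.Y, θ ≠ χ := by
    intro χ hχ θ hθ h
    subst h
    exact Finset.disjoint_left.mp D.hdisj hχ hθ
  -- on `U` the second alternative of the dichotomy holds
  have hUunc : ∀ i ∈ U, D.ε = -1 ∧ (∀ θ ∈ D.Y, L.a i θ = 1) := by
    intro i hi
    rw [hU, Finset.mem_filter] at hi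
    rcases c1dich i hi.2.1 with ⟨χ, hχ, -, h1, -⟩ | ⟨h1, h2, -⟩
    · exfalso
      have := hi.2.2 χ hχ
      omega
    · exact ⟨h1, h2⟩
  -- off `U` the first alternative holds
  have hUcov : ∀ i : L.ι, i ≠ L.one → i ∉ U →
      ∃ χ ∈ D.X, (χ : G → ℂ) 1 = 1 + (n : ℂ) * (p : ℂ) ∧ L.a i χ = 1 ∧
          ∀ χ' : IrrCharacter G, χ' ≠ χ → L.a i χ' = 0 := by
    intro i hi hiU
    rcases c1dich i hi with h | ⟨-, -, h3⟩
    · exact h
    · exfalso
      apply hiU
      rw [hU, Finset.mem_filter]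
      exact ⟨Finset.mem_univ _, hi, h3⟩
  have hθa : ∀ θ ∈ D.Y, ∀ i : L.ι, L.a i θ = if i ∈ U then 1 else 0 := by
    intro θ hθ i
    by_cases hiU : i ∈ U
    · rw [if_pos hiU]
      exact (hUunc i hiU).2 θ hθ
    · rw [if_neg hiU]
      by_cases hi : i = L.one
      · rw [hi]; exact c1Y θ hθ
      · obtain ⟨χ, hχ, -, -, h3⟩ := hUcov i hi hiU
        exact h3 θ (hXY χ hχ θ hθ)
  have hθsum : ∀ θ ∈ D.Y, ∑ i : L.ι, L.a i θ = U.card := by
    intro θ hθ
    rw [Finset.sum_congr rfl (fun i _ => hθa θ hθ i)]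
    rw [Finset.sum_ite_mem, Finset.univ_inter, Finset.sum_const, smul_eq_mul, mul_one]
  -- the exceptional degree: `v p = θ(1) - ε q`
  have hθdeg : ∀ θ ∈ D.Y, (U.card : ℤ) * (p : ℤ) =
      (charDegree (θ : G → ℂ) : ℤ) - D.ε * (qq P : ℤ) := by
    intro θ hθ
    have h1 := linsum' P hP hC L θ
    rw [hθsum θ hθ, e2 θ hθ] at h1
    have : (((U.card : ℤ) * (p : ℤ) : ℤ) : ℂ) =
        (((charDegree (θ : G → ℂ) : ℤ) - D.ε * (qq P : ℤ) : ℤ) : ℂ) := by
      push_cast
      rw [h1]; ring
    exact_mod_cast this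
  have hYne : D.Y.Nonempty := by
    rw [Finset.nonempty_iff_ne_empty]
    intro h0
    rw [h0, Finset.card_empty, zero_mul] at htq
    omega
  obtain ⟨θ₀, hθ₀⟩ := hYne
  have hθ₀ne : θ₀ ≠ oneIrr G := hXY _ D.hone θ₀ hθ₀
  obtain ⟨hd₀, hd₀pos⟩ := deg_spec θ₀
  rcases Nat.eq_zero_or_pos U.card with hv0 | hvpos
  · -- no uncovered index: the exceptional degree is `q`
    left
    have h1 := hθdeg θ₀ hθ₀
    rw [hv0] at h1
    have hε : D.ε = 1 := by
      rcases D.hε with h | h
      · exact h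
      · exfalso
        rw [h] at h1
        have : (0 : ℤ) < (charDegree (θ₀ : G → ℂ) : ℤ) := by exact_mod_cast hd₀pos
        have : (0 : ℤ) < (qq P : ℤ) := by exact_mod_cast hqpos
        push_cast at h1
        linarith
    rw [hε] at h1
    have hdq : charDegree (θ₀ : G → ℂ) = qq P := by
      have : (charDegree (θ₀ : G → ℂ) : ℤ) = (qq P : ℤ) := by push_cast at h1; linarith
      exact_mod_cast this
    -- S4503
    have hbr : p ≤ 2 * qq P + 1 := by
      rw [← hdq]
      apply Cfsg.Agent.S4503.result p hpp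
      · rw [hG]; exact ⟨qq P * (1 + n * p), by ring⟩
      · rw [hG]
        intro hdvd
        have h2 : p ^ 2 ∣ p * (qq P * (1 + n * p)) := by
          have : p * qq P * (1 + n * p) = p * (qq P * (1 + n * p)) := by ring
          rw [← this]; exact hdvd
        rw [pow_two] at h2
        have h3 : p ∣ qq P * (1 + n * p) := Nat.dvd_of_mul_dvd_mul_left hpp.pos h2
        rcases (Nat.Prime.dvd_mul hpp).mp h3 with h4 | h4
        · exact absurd (Nat.le_of_dvd hqpos h4) (by omega)
        · have h5' : p ∣ 1 := by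
            have : p ∣ n * p := Dvd.intro_left _ rfl
            exact (Nat.dvd_add_right this).mp (by rw [add_comm]; exact h4)
          exact absurd (Nat.le_of_dvd one_pos h5') (by omega)
      · intro H hH hcard
        rcases hH.eq_bot_or_eq_top with h | h
        · rw [h, Subgroup.card_bot] at hcard
          omega
        · rw [h, Subgroup.card_top, hG] at hcard
          have h6 : p * 1 < p * (qq P * (1 + n * p)) := by
            apply Nat.mul_lt_mul_of_pos_left _ hpp.pos
            nlinarith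
          have : p * qq P * (1 + n * p) = p * (qq P * (1 + n * p)) := by ring
          omega
      · exact Cfsg.Agent.Lib.Helper3_CharBridge.isCharacter_of_isIrrCharacter θ₀.2
      · intro g hg
        exact FAITH θ₀ hθ₀ne g hg
    -- counting by `hrel` at `1`
    have hr := D.hrel θ₀ hθ₀ 1 hreg1
    rw [hε, hd₀, hdq] at hr
    set A : Finset (IrrCharacter G) := (D.X.erase (oneIrr G)).filter (fun χ => D.εX χ = 1) with hA
    set B : Finset (IrrCharacter G) := (D.X.erase (oneIrr G)).filter (fun χ => ¬ D.εX χ = 1)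
      with hB
    have hAB : A.card + B.card = qq P - 1 := by
      rw [hA, hB, Finset.card_filter_add_card_filter_not, Finset.card_erase_of_mem D.hone,
        D.hXcard]
    have hε1 : D.εX (oneIrr G) = 1 := by
      rcases D.hεX _ D.hone with h | h
      · exact h
      · exfalso
        have h1 := D.hXdeg _ D.hone
        rw [h] at h1
        have hd : charDegree ((oneIrr G : IrrCharacter G) : G → ℂ) = 1 :=
          Cfsg.Agent.Lib.Helper39_McKayTools.charDegree_eq_of_apply_one _ 1 (by simp [oneIrr])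
        rw [hd] at h1
        have h2 : (p : ℤ) ∣ (-1 : ℤ) - ((1 : ℕ) : ℤ) := h1.dvd
        have h3 : (p : ℤ) ∣ 2 := by
          have : ((-1 : ℤ) - ((1 : ℕ) : ℤ)) = -2 := by norm_num
          rw [this] at h2
          exact (dvd_neg.mp h2)
        have := Int.le_of_dvd (by norm_num) h3
        omega
    have hsum : ∑ χ ∈ D.X, (D.εX χ : ℂ) * (χ : G → ℂ) 1 =
        1 + (A.card : ℂ) * (1 + (n : ℂ) * (p : ℂ)) - (B.card : ℂ) * ((p : ℂ) - 1) := by
      rw [← Finset.add_sum_erase D.X _ D.hone, hε1]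
      have : ((oneIrr G : IrrCharacter G) : G → ℂ) 1 = 1 := rfl
      rw [this]
      rw [← Finset.sum_filter_add_sum_filter_not (D.X.erase (oneIrr G))
        (fun χ => D.εX χ = 1)]
      rw [Finset.sum_congr rfl (g := fun _ => 1 + (n : ℂ) * (p : ℂ))
        (s₂ := (D.X.erase (oneIrr G)).filter (fun χ => D.εX χ = 1))]
      · rw [Finset.sum_congr rfl (g := fun _ => -((p : ℂ) - 1))
          (s₂ := (D.X.erase (oneIrr G)).filter (fun χ => ¬ D.εX χ = 1))]
        · rw [Finset.sum_const, Finset.sum_const, nsmul_eq_mul, nsmul_eq_mul]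
          push_cast; ring
        · intro χ hχ
          rw [Finset.mem_filter, Finset.mem_erase] at hχ
          rcases hX χ hχ.1.2 hχ.1.1 with h | h
          · exact absurd h.2 hχ.2
          · rw [h.1, h.2]; push_cast; ring
      · intro χ hχ
        rw [Finset.mem_filter, Finset.mem_erase] at hχ
        rcases hX χ hχ.1.2 hχ.1.1 with h | h
        · rw [h.1, h.2]; push_cast; ring
        · rw [h.2] at hχ
          exact absurd hχ.2 (by norm_num)
    rw [hsum] at hr
    have hrZ : (qq P : ℤ) = 1 + (A.card : ℤ) * (1 + (n : ℤ) * (p : ℤ)) -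
        (B.card : ℤ) * ((p : ℤ) - 1) := by
      have : (((qq P : ℤ)) : ℂ) = ((1 + (A.card : ℤ) * (1 + (n : ℤ) * (p : ℤ)) -
        (B.card : ℤ) * ((p : ℤ) - 1) : ℤ) : ℂ) := by
        push_cast
        rw [← hr]; push_cast; ring
      exact_mod_cast this
    have hABZ : (A.card : ℤ) + (B.card : ℤ) = (qq P : ℤ) - 1 := by
      have := hAB
      zify [hqpos] at this
      exact this
    have hcnt : qq P - 1 = A.card * (n + 1) := by
      have hpZ : (0 : ℤ) < (p : ℤ) := by exact_mod_cast hpp.pos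
      have h7 : ((qq P : ℤ) - 1) * (p : ℤ) = ((A.card : ℤ) * ((n : ℤ) + 1)) * (p : ℤ) := by
        have hb : (B.card : ℤ) = (qq P : ℤ) - 1 - (A.card : ℤ) := by linarith
        rw [hb] at hrZ
        linear_combination hrZ
      have h8 := mul_right_cancel₀ hpZ.ne' h7
      zify [hqpos]
      exact h8
    exact CLSA1 p (qq P) n A.card hpp h5 hq2 hq hbr hcnt hn1 hsmall
  · -- at least one uncovered index
    obtain ⟨i₁, hi₁⟩ := Finset.card_pos.mp hvpos
    have hε : D.ε = -1 := (hUunc i₁ hi₁).1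
    -- the exceptional degree is `p v - q`
    have hYd : ∀ θ ∈ D.Y, charDegree (θ : G → ℂ) = p * U.card - qq P := by
      intro θ hθ
      have h1 := hθdeg θ hθ
      rw [hε] at h1
      have h2 : (charDegree (θ : G → ℂ) : ℤ) = (p : ℤ) * (U.card : ℤ) - (qq P : ℤ) := by
        linarith
      have h3 : qq P ≤ p * U.card := by nlinarith
      zify [h3]
      exact h2
    have hvq : qq P < p * U.card := by nlinarith
    -- the degree inequality
    have hle : D.Y.card * (p * U.card - qq P) ≤ 1 + n * p := by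
      have h1 := degsum P hP L i₁
      rw [hn] at h1
      rw [← h1]
      have h2 : ∑ χ ∈ D.Y, L.a i₁ χ * charDegree (χ : G → ℂ) ≤
          ∑ χ : IrrCharacter G, L.a i₁ χ * charDegree (χ : G → ℂ) :=
        Finset.sum_le_sum_of_subset (Finset.subset_univ _)
      have h3 : ∑ χ ∈ D.Y, L.a i₁ χ * charDegree (χ : G → ℂ) =
          D.Y.card * (p * U.card - qq P) := by
        rw [Finset.sum_congr rfl (g := fun _ => p * U.card - qq P)]
        · rw [Finset.sum_const, smul_eq_mul]
        · intro χ hχ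
          rw [(hUunc i₁ hi₁).2 χ hχ, hYd χ hχ, one_mul]
      rw [h3] at h2
      exact h2
    rcases CLSA2 p (qq P) n D.Y.card U.card hpp h5 hq2 hq htq hn1 hvpos hvq hsmall hle with
      h | ⟨hv1, hnt⟩ | ⟨hv1, hnt, hndvd⟩
    · exact Or.inl h
    · right
      obtain ⟨i₀, hi₀U⟩ := Finset.card_eq_one.mp hv1
      have hi₀mem : i₀ ∈ U := by rw [hi₀U]; exact Finset.mem_singleton_self _
      have hi₀ne : i₀ ≠ L.one := by
        have := hi₀mem
        rw [hU, Finset.mem_filter] at this
        exact this.2.1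
      have hpq : 1 + n * p = D.Y.card * (p - qq P) := by
        have h1 : D.Y.card * p = n * p + p := by rw [← hnt]; ring
        rw [Nat.mul_sub, htq, h1]
        omega
      -- the uncovered index sees no character outside `Y`
      have hi₀out : ∀ ψ : IrrCharacter G, ψ ∉ D.Y → L.a i₀ ψ = 0 := by
        intro ψ hψY
        have h1 := degsum P hP L i₀
        rw [hn, ← Finset.sum_sdiff (Finset.subset_univ D.Y)] at h1
        have h3 : ∑ χ ∈ D.Y, L.a i₀ χ * charDegree (χ : G → ℂ) =
            D.Y.card * (p - qq P) := by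
          rw [Finset.sum_congr rfl (g := fun _ => p - qq P)]
          · rw [Finset.sum_const, smul_eq_mul]
          · intro χ hχ
            rw [(hUunc i₀ hi₀mem).2 χ hχ, hYd χ hχ, hv1, one_mul, mul_one]
        rw [h3, ← hpq] at h1
        have h4 : ∑ χ ∈ Finset.univ \ D.Y, L.a i₀ χ * charDegree (χ : G → ℂ) = 0 := by omega
        rw [Finset.sum_eq_zero_iff] at h4
        have h5 := h4 ψ (by rw [Finset.mem_sdiff]; exact ⟨Finset.mem_univ _, hψY⟩)
        rcases Nat.mul_eq_zero.mp h5 with h | h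
        · exact h
        · exact absurd h (deg_spec ψ).2.ne'
      refine ⟨hε, ?_, hpq, hX, ?_, ?_⟩
      · intro θ hθ
        rw [(deg_spec θ).1, hYd θ hθ, hv1, mul_one, Nat.cast_sub hqp.le]
      · intro g
        rw [← (INDVAL P hP L L.one).2.2 g, ← LININD P L L.one g]
        rw [← Finset.sum_sdiff (Finset.subset_univ (D.X ∪ D.Y))]
        have hXYsum : ∑ χ ∈ D.X ∪ D.Y, (L.a L.one χ : ℂ) * (χ : G → ℂ) g = 1 := by
          rw [Finset.sum_eq_single (oneIrr G)]
          · rw [c1one L.one, if_pos rfl]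
            simp [oneIrr]
          · intro χ hχ hne
            rw [Finset.mem_union] at hχ
            rcases hχ with h | h
            · rw [c1X χ h hne]; simp
            · rw [c1Y χ h]; simp
          · intro h
            exact absurd (Finset.mem_union_left _ D.hone) h
        rw [hXYsum, add_comm]
        congr 1
        apply Finset.sum_congr rfl
        intro ψ hψ
        rw [Finset.mem_sdiff, Finset.mem_union, not_or] at hψ
        obtain ⟨-, hψX, hψY⟩ := hψ
        congr 1
        have h1 := linsum' P hP hC L ψ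
        rw [finsum_Psharp_const P hP (ψ : G → ℂ) 0
          (fun x hx hx1 => D.hout hC ψ hψX hψY x hx hx1), mul_zero, add_zero] at h1
        have h2 : ∑ i : L.ι, L.a i ψ = L.a L.one ψ := by
          rw [Finset.sum_eq_single L.one]
          · intro i _ hi
            by_cases hiU : i ∈ U
            · rw [hi₀U, Finset.mem_singleton] at hiU
              rw [hiU]
              exact hi₀out ψ hψY
            · obtain ⟨χ, hχ, -, -, h3⟩ := hUcov i hi hiU
              apply h3
              rintro rfl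
              exact hψX hχ
          · intro h
            exact absurd (Finset.mem_univ _) h
        rw [h2, ← (deg_spec ψ).1] at h1
        have hpne : (p : ℂ) ≠ 0 := by exact_mod_cast hpp.ne_zero
        rw [eq_div_iff hpne]
        exact h1
      · refine ⟨i₀, hi₀ne, ?_⟩
        intro i hi hii₀
        have hiU : i ∉ U := by
          rw [hi₀U, Finset.mem_singleton]
          exact hii₀
        obtain ⟨χ, hχ, hdeg, h1, h3⟩ := hUcov i hi hiU
        refine ⟨χ, hχ, hdeg, ?_⟩
        intro g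
        rw [← LININD P L i g]
        rw [Finset.sum_eq_single χ]
        · rw [h1]; simp
        · intro χ' _ hne
          rw [h3 χ' hne]; simp
        · intro h
          exact absurd (Finset.mem_univ _) h
    · exfalso
      apply hndvd
      have hk : ∑ᶠ x ∈ {x : G | x ∈ (P : Subgroup G) ∧ x ≠ 1}, (θ₀ : G → ℂ) x =
          (((qq P : ℤ)) : ℂ) := by
        rw [e2 θ₀ hθ₀, hε]; push_cast; ring
      have h1 := INT P hP θ₀ (qq P : ℤ) hk
      rw [hYd θ₀ hθ₀, hv1, mul_one, hn] at h1
      have h2 : ((p - qq P : ℕ) : ℤ) ∣ ((qq P * (1 + n * p) : ℕ) : ℤ) := by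
        have : ((qq P * (1 + n * p) : ℕ) : ℤ) = ((1 + n * p : ℕ) : ℤ) * (qq P : ℤ) := by
          push_cast; ring
        rw [this]; exact h1
      exact Int.natCast_dvd_natCast.mp h2

end Cfsg.Agent.Lib.Helper77_BRCLS
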