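import Cfsg.Agent.Lib.Helper77_BRAdapter

/-!
# Brauer-Reynolds (|G| < p^3): the geometry of the `Family` (package GEO, helper77)
-/

set_option autoImplicit false

namespace Cfsg.Agent.Lib.Helper77_BRGEO

open Cfsg Cfsg.Agent.Lib.Helper80_CharBasic Cfsg.Agent.Lib.Helper77_BRDefs
open Cfsg.Agent.Lib.Helper77_BRAdapter
open scoped ComplexConjugate

universe u

variable {G : Type u} [Group G] [Fintype G] {p : ℕ} [hp : Fact p.Prime]

/-- Members of `Bset` have sign `-1` in the `Family`. -/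
theorem sign_of_mem_Bset (P : Sylow p G) (D : PBData P) (L : LinData P) (h5 : 5 ≤ p) (n : ℕ)
    (hn1 : 1 ≤ n) (hF : Family P D L n) (χ : IrrCharacter G) (hχ : χ ∈ Bset D) :
    χ ∈ D.X ∧ (χ : G → ℂ) 1 = (p : ℂ) - 1 ∧ D.εX χ = -1 := by
  classical
  unfold Bset at hχ
  rw [Finset.mem_filter] at hχ
  obtain ⟨hX, hdeg⟩ := hχ
  refine ⟨hX, hdeg, ?_⟩
  have hne : χ ≠ oneIrr G := by
    rintro rfl
    have h1 : ((oneIrr G : IrrCharacter G) : G → ℂ) 1 = 1 := rfl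
    rw [h1] at hdeg
    have : ((2 : ℕ) : ℂ) = ((p : ℕ) : ℂ) := by push_cast; linear_combination hdeg
    have := Nat.cast_injective this
    omega
  rcases hF.hX χ hX hne with h | h
  · exfalso
    rw [hdeg] at h
    have : ((p : ℕ) : ℂ) = ((2 + n * p : ℕ) : ℂ) := by push_cast; linear_combination h.1
    have h2 := Nat.cast_injective this
    nlinarith
  · exact h.2

theorem GEO (P : Sylow p G) (hP : Nat.card P = p)
    (hC : ∀ c ∈ Cen P, c ∈ (P : Subgroup G)) (D : PBData P) (L : LinData P) (h5 : 5 ≤ p)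
    (hq2 : 2 ≤ qq P) (hq : 2 * qq P ≤ p - 1) (n : ℕ) (hn1 : 1 ≤ n)
    (hn : Nat.card (Sylow p G) = 1 + n * p) (hG : Nat.card G = p * qq P * (1 + n * p))
    (hF : Family P D L n) :
    ∃ Q : Subgroup G, Q ≤ Nrm P ∧ Q ⊓ (P : Subgroup G) = ⊥ ∧ Nat.card Q = qq P ∧ IsCyclic Q ∧
      Nat.card (Subgroup.normalizer (Q : Set G)) = p - 1 ∧
      Subgroup.normalizer (Q : Set G) ⊓ Nrm P = Q ∧
      ∀ y ∈ Subgroup.normalizer (Q : Set G), ∃ g : G, g * y * g⁻¹ ∈ Q := by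
  classical
  obtain ⟨Q, hQN, hQP, hQcard, hQcyc, hNcard, hQconj, hNreg, hQnorm⟩ := FROBN P hP hC hq2
  have hfix : ∀ g : G, ¬ p ∣ orderOf g → g ≠ 1 → (fixS p g : ℂ) = (D.Y.card : ℂ) *
      (1 - Bfun D g) := fun g hg hg1 => FIX P hP hC D L hq2 hq n hn1 hF g hg hg1
  have hQfix : ∀ σ ∈ Q, σ ≠ 1 → fixS p σ = D.Y.card := by
    intro σ hσ hσ1
    have hσN : σ ∈ Nrm P := hQN hσ
    have hσP : σ ∉ (P : Subgroup G) := by
      intro h
      have : σ ∈ Q ⊓ (P : Subgroup G) := ⟨hσ, h⟩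
      rw [hQP, Subgroup.mem_bot] at this
      exact hσ1 this
    have h1 := hfix σ (hNreg σ hσN hσP) hσ1
    have h2 : Bfun D σ = 0 := by
      unfold Bfun
      apply Finset.sum_eq_zero
      intro χ hχ
      obtain ⟨hX, hdeg, hε⟩ := sign_of_mem_Bset P D L h5 n hn1 hF χ hχ
      exact VAN P hP hC D L χ hX hdeg hε σ hσN hσP
    rw [h2, sub_zero, mul_one] at h1
    exact_mod_cast h1
  obtain ⟨hH, hHN⟩ := GEO1 P hP hC hq2 D.Y.card Q hQN hQP hQcard hQcyc hNcard hQconj hQnorm hQfix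
  rw [D.hYcard] at hH
  obtain ⟨χ, hχX, hχdeg, -⟩ := BPOS P hP D L hq2 hq n hF
  refine ⟨Q, hQN, hQP, hQcard, hQcyc, hH, hHN, ?_⟩
  exact GEO2 P hP hC D hq2 hq ⟨χ, hχX, hχdeg⟩ hfix Q hQN hQP hQcard hQconj hQfix hH

end Cfsg.Agent.Lib.Helper77_BRGEO
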