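import Cfsg.Agent.Lib.Helper77_BRAdapter

/-!
# Brauer-Reynolds (|G| < p^3): `q ≥ 3` in the `Family` forces `n = 1` (package HG, helper77)
-/

set_option autoImplicit false

namespace Cfsg.Agent.Lib.Helper77_BRHG

open Cfsg Cfsg.Agent.Lib.Helper80_CharBasic Cfsg.Agent.Lib.Helper77_BRDefs
open Cfsg.Agent.Lib.Helper77_BRAdapter
open scoped ComplexConjugate

universe u

variable {G : Type u} [Group G] [Fintype G] {p : ℕ} [hp : Fact p.Prime]

theorem HG (P : Sylow p G) (hP : Nat.card P = p)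
    (hC : ∀ c ∈ Cen P, c ∈ (P : Subgroup G)) (D : PBData P) (L : LinData P) (h5 : 5 ≤ p)
    (hq3 : 3 ≤ qq P) (hq : 2 * qq P ≤ p - 1) (n : ℕ) (hn1 : 1 ≤ n) (hF : Family P D L n)
    (Q : Subgroup G) (hQN : Q ≤ Nrm P) (hQP : Q ⊓ (P : Subgroup G) = ⊥)
    (hQcard : Nat.card Q = qq P) (hQcyc : IsCyclic Q)
    (hH : Nat.card (Subgroup.normalizer (Q : Set G)) = p - 1)
    (hHN : Subgroup.normalizer (Q : Set G) ⊓ Nrm P = Q)
    (hconj : ∀ y ∈ Subgroup.normalizer (Q : Set G), ∃ g : G, g * y * g⁻¹ ∈ Q) :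
    n = 1 := by
  classical
  obtain ⟨i₀, hi₀, hcov⟩ := hF.hcov
  have hfew : ∀ h ∈ Subgroup.normalizer (Q : Set G), h ∉ Q →
      Nat.card {σ : ↥Q // h * (σ : G) * h⁻¹ = (σ : G)} ≤ 2 := by
    intro h hh hhQ
    by_contra hcon
    have h3 : 3 ≤ Nat.card {σ : ↥Q // h * (σ : G) * h⁻¹ = (σ : G)} := by omega
    have hhN : h ∉ Nrm P := by
      intro hN
      have : h ∈ Subgroup.normalizer (Q : Set G) ⊓ Nrm P := ⟨hh, hN⟩
      rw [hHN] at this
      exact hhQ this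
    obtain ⟨f₁, f₂, f₃, h12, h13, h23, hinv⟩ := DUAL Q hQcyc h hh h3
    obtain ⟨i₁, hi₁⟩ := EXT P hP hC L Q hQN hQP hQcard f₁
    obtain ⟨i₂, hi₂⟩ := EXT P hP hC L Q hQN hQP hQcard f₂
    obtain ⟨i₃, hi₃⟩ := EXT P hP hC L Q hQN hQP hQcard f₃
    -- distinct indices
    have hne : ∀ (f f' : ↥Q →* ℂˣ) (i i' : L.ι), f ≠ f' →
        (∀ σ : ↥Q, L.μ i (σ : G) = ((f σ : ℂˣ) : ℂ)) →
        (∀ σ : ↥Q, L.μ i' (σ : G) = ((f' σ : ℂˣ) : ℂ)) → i ≠ i' := by
      intro f f' i i' hff hi hi' hii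
      subst hii
      apply hff
      ext σ
      rw [← hi σ, ← hi' σ]
    have hi12 := hne f₁ f₂ i₁ i₂ h12 hi₁ hi₂
    have hi13 := hne f₁ f₃ i₁ i₃ h13 hi₁ hi₃
    have hi23 := hne f₂ f₃ i₂ i₃ h23 hi₂ hi₃
    -- a covered index among the three
    have key : ∀ (f : ↥Q →* ℂˣ) (i : L.ι), f ∈ ({f₁, f₂, f₃} : Set (↥Q →* ℂˣ)) →
        (∀ σ : ↥Q, L.μ i (σ : G) = ((f σ : ℂˣ) : ℂ)) → i ≠ L.one → i ≠ i₀ → False := by
      intro f i hf hi hione hii₀
      obtain ⟨χ, -, -, hind⟩ := hcov i hione hii₀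
      obtain ⟨σ, hσ, hneq⟩ := MACK P hP hC L i χ hind Q hQN hQP hQcard h hh hhN
      apply hneq
      have hσ' : h * σ * h⁻¹ ∈ Q := by
        have := (Subgroup.mem_normalizer_iff.mp hh σ).mp hσ
        exact this
      have e1 := hi ⟨σ, hσ⟩
      have e2 := hi ⟨h * σ * h⁻¹, hσ'⟩
      simp only at e1 e2
      rw [e1, e2]
      have := hinv f hf ⟨σ, hσ⟩ hσ'
      simp only at this
      rw [this]
    have m1 : f₁ ∈ ({f₁, f₂, f₃} : Set (↥Q →* ℂˣ)) := by simp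
    have m2 : f₂ ∈ ({f₁, f₂, f₃} : Set (↥Q →* ℂˣ)) := by simp
    have m3 : f₃ ∈ ({f₁, f₂, f₃} : Set (↥Q →* ℂˣ)) := by simp
    by_cases a1 : i₁ = L.one
    · by_cases a2 : i₂ = i₀
      · refine key f₃ i₃ m3 hi₃ ?_ ?_
        · intro h; exact hi13 (a1.trans h.symm)
        · intro h; exact hi23 (a2.trans h.symm)
      · refine key f₂ i₂ m2 hi₂ ?_ a2
        intro h; exact hi12 (a1.trans h.symm)
    · by_cases b1 : i₁ = i₀
      · by_cases a2 : i₂ = L.one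
        · refine key f₃ i₃ m3 hi₃ ?_ ?_
          · intro h; exact hi23 (a2.trans h.symm)
          · intro h; exact hi13 (b1.trans h.symm)
        · refine key f₂ i₂ m2 hi₂ a2 ?_
          intro h; exact hi12 (b1.trans h.symm)
      · exact key f₁ i₁ m1 hi₁ a1 b1
  have hH' : Nat.card (Subgroup.normalizer (Q : Set G)) = D.Y.card * Nat.card Q := by
    rw [hH, hQcard, D.hYcard]
  have ht := HGRP Q hQcyc D.Y.card (by rw [hQcard]; exact hq3) hH' hconj hfew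
  have hY := D.hYcard
  have hn' := hF.hn
  have ht2 : D.Y.card = 2 := by
    have : 2 * qq P ≤ D.Y.card * qq P := by rw [hY]; exact hq
    have h2 : 2 ≤ D.Y.card := by
      by_contra hlt
      have : D.Y.card ≤ 1 := by omega
      have := Nat.mul_le_mul_right (qq P) this
      omega
    omega
  rw [ht2] at hY hn'
  have h1 : 1 + n * p = 2 * (p - qq P) := hn'
  have h2 : 2 * (p - qq P) = p + 1 := by omega
  rw [h2] at h1
  have h3 : n * p = 1 * p := by omega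
  exact Nat.eq_of_mul_eq_mul_right (by omega) h3

end Cfsg.Agent.Lib.Helper77_BRHG
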