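import Cfsg.Agent.Lib.Helper77_BRDefs
import Cfsg.Agent.Lib.Helper63_B43_N1
import Cfsg.Agent.S0732
import Cfsg.Agent.S0307

/-!
# Brauer-Reynolds (|G| < p^3): the case of `p + 1` Sylow `p`-subgroups (package N1, helper77)

Action on the Sylow subgroups + landed `S0732`; `PGL(2,p)` is excluded by `S0307` (a quotient of
order `2`), the semi-affine case by helper63's `eq_bot_of_perfect_semiaffine`.
-/

set_option autoImplicit false

namespace Cfsg.Agent.Lib.Helper77_BRN1

open Cfsg Cfsg.Agent.Lib.Helper80_CharBasic Cfsg.Agent.Lib.Helper77_BRDefs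
open scoped commutatorElement

universe u

variable {G : Type u} [Group G] [Fintype G] {p : ℕ} [hp : Fact p.Prime]

/-- a non-cyclic simple group is perfect -/
theorem perfect_of_simple [IsSimpleGroup G] (hnc : ¬ IsCyclic G) : commutator G = ⊤ := by
  rcases (inferInstance : (commutator G).Normal).eq_bot_or_eq_top with h | h
  · exfalso
    apply hnc
    have hcomm : ∀ a b : G, a * b = b * a := by
      intro a b
      have : ⁅a, b⁆ ∈ commutator G := Subgroup.commutator_mem_commutator (Subgroup.mem_top a)
        (Subgroup.mem_top b)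
      rw [h, Subgroup.mem_bot, commutatorElement_eq_one_iff_mul_comm] at this
      exact this
    let _ : CommGroup G := { ‹Group G› with mul_comm := hcomm }
    exact IsSimpleGroup.isCyclic
  · exact h

theorem N1 [IsSimpleGroup G] (hnc : ¬ IsCyclic G) (h5 : 5 ≤ p) (P : Sylow p G)
    (hP : Nat.card P = p) (hS : Nat.card (Sylow p G) = 1 + 1 * p) (hbig : Nat.card G < p ^ 3) :
    Nonempty (G ≃* Matrix.ProjectiveSpecialLinearGroup (Fin 2) (ZMod p)) := by
  classical
  have hpp : p.Prime := hp.out
  have hperf := perfect_of_simple (G := G) hnc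
  have := Fintype.ofFinite (Sylow p G)
  obtain ⟨φ, hφ⟩ : ∃ φ : G →* Equiv.Perm (Sylow p G), φ = MulAction.toPermHom G (Sylow p G) :=
    ⟨_, rfl⟩
  have hφa : ∀ (g : G) (Q : Sylow p G), φ g Q = g • Q := by
    intro g Q
    rw [hφ]
    rfl
  have hcardS : Nat.card (Sylow p G) = p + 1 := by
    rw [hS]; ring
  have hnt : Nontrivial (Sylow p G) := by
    rw [← Finite.one_lt_card_iff_nontrivial, hcardS]
    omega
  -- the kernel is trivial
  have hker : φ.ker = ⊥ := by
    rcases (MonoidHom.normal_ker φ).eq_bot_or_eq_top with h | h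
    · exact h
    · exfalso
      obtain ⟨Q, hQ⟩ := exists_ne P
      obtain ⟨g, hg⟩ := MulAction.exists_smul_eq G P Q
      have hgk : g ∈ φ.ker := by rw [h]; exact Subgroup.mem_top g
      rw [MonoidHom.mem_ker] at hgk
      have : φ g P = P := by rw [hgk]; rfl
      rw [hφa, hg] at this
      exact hQ this
  have hinj : Function.Injective φ := (MonoidHom.ker_eq_bot_iff φ).1 hker
  have ψ : G ≃* φ.range := MonoidHom.ofInjective hinj
  -- transitivity
  have htr : MulAction.IsPretransitive φ.range (Sylow p G) := by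
    constructor
    intro Q R
    obtain ⟨g, hg⟩ := MulAction.exists_smul_eq G Q R
    refine ⟨⟨φ g, g, rfl⟩, ?_⟩
    show φ g Q = R
    rw [hφa, hg]
  -- the order
  have hPN : (P : Subgroup G) ≤ Subgroup.normalizer ((P : Subgroup G) : Set G) :=
    Subgroup.le_normalizer
  obtain ⟨d, hd⟩ : p ∣ Nat.card (Subgroup.normalizer ((P : Subgroup G) : Set G)) := by
    have h0 := Subgroup.card_dvd_of_le hPN
    rwa [hP] at h0
  have hcardG : Nat.card G = (p + 1) * p * d := by
    have h1 : Nat.card (Sylow p G) =
        (Subgroup.normalizer ((P : Subgroup G) : Set G)).index := Sylow.card_eq_index_normalizer P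
    rw [← Subgroup.index_mul_card (Subgroup.normalizer ((P : Subgroup G) : Set G)), ← h1, hd,
      hcardS, mul_assoc]
  have hcardR : Nat.card φ.range = (p + 1) * p * d := by
    rw [← hcardG]
    exact (Nat.card_congr ψ.toEquiv).symm
  have hα : Fintype.card (Sylow p G) = p + 1 := by
    rw [← Nat.card_eq_fintype_card, hcardS]
  have hdp : d < p := by
    by_contra hcon
    have hpd : p ≤ d := by omega
    rw [hcardG] at hbig
    have : p ^ 3 ≤ (p + 1) * p * d := by
      calc p ^ 3 = p * p * p := by ring
        _ ≤ (p + 1) * p * d := Nat.mul_le_mul (Nat.mul_le_mul (by omega) le_rfl) hpd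
    omega
  have hd1 : 1 ≤ d := by
    rcases Nat.eq_zero_or_pos d with h | h
    · rw [h, mul_zero] at hcardG
      have := Nat.card_pos (α := G)
      omega
    · exact h
  rcases Cfsg.Agent.S0732.result hpp hα φ.range hcardR hdp with ⟨-, ⟨ι⟩⟩ | ⟨-, ⟨ι⟩⟩ | ⟨q, -, -, -, f, hf⟩
  · -- `PGL(2,p)` has a quotient of order `2`
    exfalso
    obtain ⟨g, hgsurj, -⟩ := Cfsg.Agent.S0307.result (F := ZMod p) (q := p) (ZMod.card p) 2
      (by norm_num)
    have hgcd : Nat.gcd 2 (p - 1) = 2 := by
      have hodd : Odd p := hpp.odd_of_ne_two (by omega)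
      obtain ⟨k, hk⟩ := hodd
      have : p - 1 = 2 * k := by omega
      rw [this]
      exact Nat.gcd_mul_right_right k 2 ▸ Nat.gcd_eq_left (Dvd.intro k rfl)
    -- the composite `G → Multiplicative (ZMod 2)`
    haveI : NeZero (Nat.gcd 2 (p - 1)) := ⟨by rw [hgcd]; norm_num⟩
    have hcard2 : Nat.card (Multiplicative (ZMod (Nat.gcd 2 (p - 1)))) = 2 := by
      rw [Nat.card_congr Multiplicative.toAdd, Nat.card_zmod, hgcd]
    let χ : G →* Multiplicative (ZMod (Nat.gcd 2 (p - 1))) :=
      g.comp ((ψ.trans ι).toMonoidHom)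
    have hχsurj : Function.Surjective χ := hgsurj.comp (ψ.trans ι).surjective
    rcases (MonoidHom.normal_ker χ).eq_bot_or_eq_top with h | h
    · -- injective into a group of order 2
      have hinjχ : Function.Injective χ := (MonoidHom.ker_eq_bot_iff χ).1 h
      have h1 : Nat.card G ≤ Nat.card (Multiplicative (ZMod (Nat.gcd 2 (p - 1)))) :=
        Nat.card_le_card_of_injective χ hinjχ
      rw [hcard2, hcardG] at h1
      have : 2 * 1 < (p + 1) * p * d :=
        lt_of_lt_of_le (by nlinarith) (Nat.mul_le_mul_left _ hd1)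
      omega
    · -- trivial, but surjective onto a group of order 2
      have h0 : ∀ x : G, χ x = 1 := by
        intro x
        have : x ∈ χ.ker := by rw [h]; exact Subgroup.mem_top x
        exact MonoidHom.mem_ker.mp this
      have hsub : Subsingleton (Multiplicative (ZMod (Nat.gcd 2 (p - 1)))) := by
        constructor
        intro a b
        obtain ⟨x, rfl⟩ := hχsurj a
        obtain ⟨y, rfl⟩ := hχsurj b
        rw [h0, h0]
      have := Finite.card_le_one_iff_subsingleton.mpr hsub
      omega
  · exact ⟨ψ.trans ι⟩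
  · exfalso
    have hperfR : commutator φ.range = ⊤ :=
      Cfsg.Agent.Lib.Helper63_B43_N1.commutator_eq_top_of_surjective ψ.toMonoidHom ψ.surjective
        hperf
    have hbot := Cfsg.Agent.Lib.Helper63_B43_N1.eq_bot_of_perfect_semiaffine φ.range f hf hperfR
    rw [hbot, Subgroup.card_bot] at hcardR
    have h2 : 2 * 1 ≤ (p + 1) * p * d :=
      Nat.mul_le_mul (by nlinarith) hd1
    omega

end Cfsg.Agent.Lib.Helper77_BRN1
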