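import Cfsg.Agent.Lib.Helper77_BRAdapter
import Cfsg.Agent.Lib.Helper3_CharColumn
import Cfsg.Agent.Lib.Helper39_McKayTools

/-!
# Brauer-Reynolds (|G| < p^3): `C_G(P) = P` (package W1, helper77)
-/

set_option autoImplicit false

namespace Cfsg.Agent.Lib.Helper77_BRW1

open Cfsg Cfsg.Agent.Lib.Helper80_CharBasic Cfsg.Agent.Lib.Helper77_BRDefs
open Cfsg.Agent.Lib.Helper77_BRAdapter
open scoped ComplexConjugate

universe u

variable {G : Type u} [Group G] [Fintype G] {p : ℕ} [hp : Fact p.Prime]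

/-- If every `p`-regular element of `C_G(P)` is trivial then `C_G(P) ≤ P`. -/
theorem cen_le_of_regular_trivial (P : Sylow p G)
    (h : ∀ y ∈ Cen P, ¬ p ∣ orderOf y → y = 1) : ∀ c ∈ Cen P, c ∈ (P : Subgroup G) := by
  intro c hc
  have hpp : p.Prime := hp.out
  -- c is a p-element
  have hcp : IsPGroup p (Subgroup.zpowers c) := by
    obtain ⟨a, m, hm, hord⟩ := Nat.exists_eq_pow_mul_and_not_dvd (n := orderOf c)
      (orderOf_pos c).ne' p hpp.ne_one
    have h1 : orderOf (c ^ (p ^ a)) = m := by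
      rw [orderOf_pow, hord]
      have : Nat.gcd (p ^ a * m) (p ^ a) = p ^ a := Nat.gcd_eq_right (Dvd.intro _ rfl)
      rw [this]
      exact Nat.mul_div_cancel_left m (pow_pos hpp.pos a)
    have h2 : c ^ (p ^ a) = 1 := by
      apply h _ ((Cen P).pow_mem hc _)
      rw [h1]; exact hm
    rw [h2, orderOf_one] at h1
    rw [← h1, mul_one] at hord
    rw [IsPGroup.iff_orderOf]
    intro x
    obtain ⟨k, hk⟩ := (Nat.dvd_prime_pow hpp).mp
      (hord ▸ (orderOf_dvd_of_pow_eq_one (by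
        obtain ⟨x, j, rfl⟩ := x
        apply Subtype.ext
        simp only [Subgroup.coe_pow, Subgroup.coe_one]
        rw [← zpow_natCast, ← zpow_mul, mul_comm, zpow_mul, zpow_natCast, pow_orderOf_eq_one,
          one_zpow]) : orderOf x ∣ orderOf c))
    exact ⟨k, hk.2⟩
  have hnorm : Subgroup.zpowers c ≤ Subgroup.normalizer (((P : Subgroup G)) : Set G) := by
    rw [Subgroup.zpowers_le]
    exact Subgroup.centralizer_le_normalizer _ hc
  have hsup : IsPGroup p (Subgroup.zpowers c ⊔ (P : Subgroup G) : Subgroup G) :=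
    IsPGroup.to_sup_of_normal_right' hcp P.isPGroup' hnorm
  have heq := P.is_maximal' hsup le_sup_right
  have : c ∈ (Subgroup.zpowers c ⊔ (P : Subgroup G) : Subgroup G) :=
    (le_sup_left : Subgroup.zpowers c ≤ _) (Subgroup.mem_zpowers c)
  rw [heq] at this
  exact this


/-- Sum of squares of the degrees, in `ℕ`. -/
theorem sum_sq_degree_nat :
    ∑ χ : IrrCharacter G, (charDegree (χ : G → ℂ)) ^ 2 = Nat.card G := by
  have h := Cfsg.Agent.Lib.Helper3_CharColumn.sum_sq_irr_one (G := G)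
  have h2 : ∑ χ : IrrCharacter G, (χ : G → ℂ) 1 ^ 2 =
      ((∑ χ : IrrCharacter G, (charDegree (χ : G → ℂ)) ^ 2 : ℕ) : ℂ) := by
    push_cast
    refine Finset.sum_congr rfl (fun χ _ => ?_)
    rw [(Cfsg.Agent.Lib.Helper39_McKayTools.charDegree_spec χ).1]
  rw [h2] at h
  exact_mod_cast h

/-- **W1**. `C_G(P) = P`. -/
theorem W1 [IsSimpleGroup G] (hnc : ¬ IsCyclic G) (P : Sylow p G) (hP : Nat.card P = p)
    (D : PBData P) (hq2 : 2 ≤ qq P) (hq : 2 * qq P ≤ p - 1) (n w : ℕ) (hn1 : 1 ≤ n) (hw : 1 ≤ w)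
    (hn : Nat.card (Sylow p G) = 1 + n * p) (hCw : Nat.card (Cen P) = p * w)
    (hG : Nat.card G = p * w * qq P * (1 + n * p)) (hbig : Nat.card G < p ^ 3) :
    ∀ c ∈ Cen P, c ∈ (P : Subgroup G) := by
  classical
  have hpp : p.Prime := hp.out
  have hp5 : 5 ≤ p := by omega
  have hX := XDEG hnc P hP D hq2 n w hn1 hw hn hG hbig
  by_cases hB : ∃ χ ∈ D.X, χ ≠ oneIrr G ∧ (χ : G → ℂ) 1 = (p : ℂ) - 1 ∧ D.εX χ = -1
  · obtain ⟨χ, hχX, hχ1, hdeg, hε⟩ := hB
    apply cen_le_of_regular_trivial P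
    intro y hy hreg
    apply FAITH χ hχ1 y
    apply KER P hP χ hdeg _ y hy hreg
    intro x hx hx1 y' hy' hreg'
    rw [D.hXval χ hχX x hx hx1 y' hy' hreg', hε]
    push_cast; ring
  · -- all nontrivial members of `X` have degree `1 + n p` and sign `+`
    have hX' : ∀ χ ∈ D.X, χ ≠ oneIrr G →
        (χ : G → ℂ) 1 = 1 + (n : ℂ) * (p : ℂ) ∧ D.εX χ = 1 := by
      intro χ hχ h1
      rcases hX χ hχ h1 with h | h
      · exact h
      · exact absurd ⟨χ, hχ, h1, h.1, h.2⟩ hB
    have hqpos : 0 < qq P := by omega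
    have hYne : D.Y.Nonempty := by
      rw [Finset.nonempty_iff_ne_empty]
      intro h0
      have := D.hYcard
      rw [h0, Finset.card_empty, zero_mul] at this
      omega
    obtain ⟨θ, hθ⟩ := hYne
    -- the sign of the trivial character
    have hε1 : D.εX (oneIrr G) = 1 := by
      rcases D.hεX _ D.hone with h | h
      · exact h
      · exfalso
        have h1 := D.hXdeg _ D.hone
        rw [h] at h1
        have hd : charDegree ((oneIrr G : IrrCharacter G) : G → ℂ) = 1 :=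
          Cfsg.Agent.Lib.Helper39_McKayTools.charDegree_eq_of_apply_one _ 1 (by simp [oneIrr])
        rw [hd] at h1
        have h2 : (p : ℤ) ∣ (-1 : ℤ) - ((1 : ℕ) : ℤ) := h1.dvd
        have h3 : (p : ℤ) ∣ 2 := by
          have : ((-1 : ℤ) - ((1 : ℕ) : ℤ)) = -2 := by norm_num
          rw [this] at h2
          exact (dvd_neg.mp h2)
        have := Int.le_of_dvd (by norm_num) h3
        omega
    have hreg1 : ¬ p ∣ orderOf (1 : G) := by
      rw [orderOf_one]
      exact hpp.one_lt.ne' ∘ Nat.dvd_one.mp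
    have h1 := D.hrel θ hθ 1 hreg1
    have hsum : ∑ χ ∈ D.X, (D.εX χ : ℂ) * (χ : G → ℂ) 1 =
        1 + ((qq P : ℂ) - 1) * (1 + (n : ℂ) * (p : ℂ)) := by
      rw [← Finset.add_sum_erase D.X _ D.hone, hε1]
      have : ((oneIrr G : IrrCharacter G) : G → ℂ) 1 = 1 := rfl
      rw [this]
      rw [Finset.sum_congr rfl (g := fun _ => 1 + (n : ℂ) * (p : ℂ))]
      · rw [Finset.sum_const, Finset.card_erase_of_mem D.hone, D.hXcard, nsmul_eq_mul,
          Nat.cast_sub hqpos]
        push_cast; ring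
      · intro χ hχ
        rw [Finset.mem_erase] at hχ
        obtain ⟨h2, h3⟩ := hX' χ hχ.2 hχ.1
        rw [h2, h3]; push_cast; ring
    rw [hsum] at h1
    obtain ⟨hd, hdpos⟩ := Cfsg.Agent.Lib.Helper39_McKayTools.charDegree_spec θ
    set m := charDegree (θ : G → ℂ) with hm
    rw [hd] at h1
    have hx0 : (D.ε : ℤ) * (m : ℤ) = 1 + ((qq P : ℤ) - 1) * (1 + (n : ℤ) * (p : ℤ)) := by
      have : ((D.ε * (m : ℤ) : ℤ) : ℂ) =
          ((1 + ((qq P : ℤ) - 1) * (1 + (n : ℤ) * (p : ℤ)) : ℤ) : ℂ) := by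
        push_cast; exact h1
      exact_mod_cast this
    have hεp : D.ε = 1 := by
      rcases D.hε with h | h
      · exact h
      · exfalso
        rw [h] at hx0
        have h4 : (0 : ℤ) < 1 + ((qq P : ℤ) - 1) * (1 + (n : ℤ) * (p : ℤ)) := by
          have : (1 : ℤ) ≤ (qq P : ℤ) := by exact_mod_cast hqpos
          have : (0 : ℤ) ≤ ((qq P : ℤ) - 1) * (1 + (n : ℤ) * (p : ℤ)) := by positivity
          linarith
        have h5 : (0 : ℤ) < (m : ℤ) := by exact_mod_cast hdpos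
        linarith
    rw [hεp, one_mul] at hx0
    have hx0' : m = 1 + (qq P - 1) * (1 + n * p) := by
      have : ((m : ℕ) : ℤ) = ((1 + (qq P - 1) * (1 + n * p) : ℕ) : ℤ) := by
        rw [hx0]; push_cast [Nat.cast_sub hqpos]; ring
      exact_mod_cast this
    -- all members of `Y` have the same degree
    have hYdeg : ∀ θ' ∈ D.Y, charDegree (θ' : G → ℂ) = m := by
      intro θ' hθ'
      apply Cfsg.Agent.Lib.Helper39_McKayTools.charDegree_eq_of_apply_one
      rw [D.hYreg θ' hθ' θ hθ 1 hreg1, hd]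
    -- sum of squares
    have hone_notY : oneIrr G ∉ D.Y := Finset.disjoint_left.mp D.hdisj D.hone
    have hsq : D.Y.card * (m * m) < Nat.card G := by
      have h2 := sum_sq_degree_nat (G := G)
      have h3 : ∑ χ ∈ insert (oneIrr G) D.Y, (charDegree (χ : G → ℂ)) ^ 2 ≤
          ∑ χ : IrrCharacter G, (charDegree (χ : G → ℂ)) ^ 2 :=
        Finset.sum_le_sum_of_subset (Finset.subset_univ _)
      rw [Finset.sum_insert hone_notY, h2] at h3
      have h4 : ∑ χ ∈ D.Y, (charDegree (χ : G → ℂ)) ^ 2 = D.Y.card * (m * m) := by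
        rw [Finset.sum_congr rfl (g := fun _ => m * m)]
        · rw [Finset.sum_const, smul_eq_mul]
        · intro χ hχ; rw [hYdeg χ hχ, sq]
      have h5 : charDegree ((oneIrr G : IrrCharacter G) : G → ℂ) = 1 :=
        Cfsg.Agent.Lib.Helper39_McKayTools.charDegree_eq_of_apply_one _ 1 (by simp [oneIrr])
      rw [h4, h5] at h3
      omega
    rw [hG] at hsq hbig
    obtain ⟨hq2', hn1'⟩ := W1ARITH p (qq P) n w D.Y.card m hpp hq2 D.hYcard hn1 hw hbig hx0' hsq
    subst hn1'
    exact V1 hnc P hP hn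
end Cfsg.Agent.Lib.Helper77_BRW1
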