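import Cfsg.Agent.Lib.Helper77_BRDefs
import Cfsg.Agent.S4441
import Cfsg.Agent.Lib.Helper78_PartA
import Cfsg.Agent.Lib.Helper23_ZStarB
import Cfsg.Agent.Lib.Helper30_KleinBlock
import Cfsg.Agent.Lib.Helper16_BrauerFinal

/-!
# BR-B0 (helper82, for helper77's S0999 market)

The principal block data `PBData P` at a Sylow subgroup of prime order, from the landed S4441.
-/

set_option autoImplicit false

namespace Cfsg.Agent.Lib.Helper82_BR_B0

open Cfsg Cfsg.Agent.Lib.Helper80_CharBasic Cfsg.Agent.Lib.Helper77_BRDefs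
open scoped ComplexConjugate

universe u

variable {G : Type u} [Group G] [Fintype G] {p : ℕ} [hp : Fact p.Prime]

theorem B0 (P : Sylow p G) (hP : Nat.card P = p) (hq2 : 2 ≤ qq P) (hqd : qq P ∣ p - 1)
    (hq : 2 * qq P ≤ p - 1) :
    Nonempty (PBData P) := by
  classical
  have hp5 : 5 ≤ p := by omega
  obtain ⟨M, hM⟩ := Cfsg.Agent.Lib.Helper23_ZStarB.exists_pModular p hp.out
  obtain ⟨X, Y, hB, hdisj, hXc, hYc, εX, ε, hX, hε, hYdeg, hYagree, hYrel⟩ :=
    Cfsg.Agent.S4441.result p M hM (by omega) P hP (qq P) rfl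
  have hpZ : (5 : ℤ) ≤ (p : ℤ) := by exact_mod_cast hp5
  have hqZ2 : (2 : ℤ) ≤ (qq P : ℤ) := by exact_mod_cast hq2
  have hqZ : 2 * (qq P : ℤ) ≤ (p : ℤ) - 1 := by
    have h1 : ((2 * qq P : ℕ) : ℤ) ≤ ((p - 1 : ℕ) : ℤ) := by exact_mod_cast hq
    rw [Nat.cast_sub (by omega)] at h1
    push_cast at h1
    exact h1
  have h1B : oneIrr G ∈ principalBlock M G := Cfsg.Agent.Lib.Helper30_KleinBlock.oneIrr_mem hM
  have hdeg1 : (charDegree ((oneIrr G : IrrCharacter G) : G → ℂ) : ℤ) = 1 := by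
    have h := Cfsg.Agent.Lib.Helper16_BrauerFinal.charDegree_cast (oneIrr G)
    have h2 : ((oneIrr G : IrrCharacter G) : G → ℂ) 1 = 1 := rfl
    rw [h2] at h
    have : (charDegree ((oneIrr G : IrrCharacter G) : G → ℂ) : ℕ) = 1 := by exact_mod_cast h
    rw [this]; rfl
  have h1Y : oneIrr G ∉ Y := by
    intro h
    have h2 := hYdeg _ h
    rw [hdeg1] at h2
    have h3 := (Int.modEq_iff_dvd.mp h2)
    rcases hε with rfl | rfl
    · -- `p ∣ q - 1`
      rw [one_mul] at h3
      have h4 : (0 : ℤ) < (qq P : ℤ) - 1 := by omega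
      have := Int.le_of_dvd h4 h3
      omega
    · -- `p ∣ -q - 1`
      have h4 : (p : ℤ) ∣ (qq P : ℤ) + 1 := by
        have h5 : (-1 : ℤ) * (qq P : ℤ) - 1 = -((qq P : ℤ) + 1) := by ring
        rw [h5] at h3
        exact (dvd_neg).mp h3
      have h6 : (0 : ℤ) < (qq P : ℤ) + 1 := by omega
      have := Int.le_of_dvd h6 h4
      omega
  have h1X : oneIrr G ∈ X := by
    have : oneIrr G ∈ X ∪ Y := hB ▸ h1B
    exact this.resolve_right h1Y
  have hXfin : X.Finite := Set.toFinite X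
  have hYfin : Y.Finite := Set.toFinite Y
  refine ⟨{
    X := hXfin.toFinset
    Y := hYfin.toFinset
    εX := εX
    ε := ε
    hdisj := ?_
    hXcard := ?_
    hYcard := ?_
    hεX := ?_
    hXdeg := ?_
    hXval := ?_
    hε := hε
    hYdeg := ?_
    hYreg := ?_
    hrel := ?_
    hone := ?_
    hout := ?_ }⟩
  · rw [Finset.disjoint_left]
    intro a ha hb
    rw [Set.Finite.mem_toFinset] at ha hb
    exact (Set.disjoint_left.1 hdisj) ha hb
  · rw [← Set.ncard_eq_toFinset_card X hXfin, ← Nat.card_coe_set_eq, hXc]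
  · rw [← Set.ncard_eq_toFinset_card Y hYfin, ← Nat.card_coe_set_eq, hYc]
    exact Nat.div_mul_cancel hqd
  · intro χ hχ
    rw [Set.Finite.mem_toFinset] at hχ
    exact (hX χ hχ).1
  · intro χ hχ
    rw [Set.Finite.mem_toFinset] at hχ
    exact (hX χ hχ).2.1
  · intro χ hχ
    rw [Set.Finite.mem_toFinset] at hχ
    exact (hX χ hχ).2.2
  · intro θ hθ
    rw [Set.Finite.mem_toFinset] at hθ
    exact hYdeg θ hθ
  · intro θ hθ θ' hθ'
    rw [Set.Finite.mem_toFinset] at hθ hθ'
    exact hYagree θ hθ θ' hθ'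
  · intro θ hθ g hg
    rw [Set.Finite.mem_toFinset] at hθ
    rw [hYrel θ hθ g hg, finsum_mem_eq_finite_toFinset_sum _ hXfin]
  · rw [Set.Finite.mem_toFinset]
    exact h1X
  · intro hC χ hχX hχY x hx hx1
    rw [Set.Finite.mem_toFinset] at hχX hχY
    have hχB : χ ∉ principalBlock M G := by
      rw [hB]
      intro h
      rcases h with h | h
      · exact hχX h
      · exact hχY h
    have h := (Cfsg.Agent.Lib.Helper78_PartA.principal_local p M hM P hP ⊥ bot_le
      (by rw [Subgroup.card_bot]; exact Nat.coprime_one_left p)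
      (fun c hc => ⟨c, hC c hc, 1, Subgroup.one_mem _, (mul_one c).symm⟩) χ).2 hχB x hx hx1
    rw [Finset.sum_eq_single (1 : G)] at h
    · rw [if_pos (Subgroup.one_mem _), mul_one] at h
      exact h
    · intro v _ hv
      rw [if_neg]
      rw [Subgroup.mem_bot]
      exact hv
    · intro h1
      exact absurd (Finset.mem_univ _) h1

end Cfsg.Agent.Lib.Helper82_BR_B0
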