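import Cfsg.Agent.Lib.Helper77_BRDefs
import Cfsg.Agent.Lib.Helper77_BRW1
import Cfsg.Agent.Lib.Helper77_BRCLS
import Cfsg.Agent.Lib.Helper77_BRGEO
import Cfsg.Agent.Lib.Helper77_BRHG
import Cfsg.Agent.Lib.Helper11_BR_SYL
import Cfsg.Agent.Lib.Helper82_BR_B0
import Cfsg.Agent.Lib.Helper50_BR_LIN
import Cfsg.Agent.Lib.Helper34_BR_FER
import Cfsg.Agent.Lib.Helper77_BRN1

/-!
# S0999 (Brauer-Reynolds, |G| < p^3): the final assembly (helper77)

A non-cyclic finite simple group `G` with `p ∣ |G| < p^3` is `PSL(2,p)` (`p > 3`) or `PSL(2,2^m)`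
with `p = 2^m + 1`.  Packages proved by helper5, 8, 11, 24, 34, 35, 47, 50, 52, 58, 60, 61, 65, 68,
75, 82, 84; architecture and assemblies (W1, CLS, GEO, HG, main) by helper77.
-/

set_option autoImplicit false

namespace Cfsg.Agent.Lib.Helper77_BRMain

open Cfsg Cfsg.Agent.Lib.Helper80_CharBasic Cfsg.Agent.Lib.Helper77_BRDefs
open Cfsg.Agent.Lib.Helper77_BRW1 Cfsg.Agent.Lib.Helper77_BRCLS Cfsg.Agent.Lib.Helper77_BRGEO
  Cfsg.Agent.Lib.Helper77_BRHG Cfsg.Agent.Lib.Helper11_BR_SYL Cfsg.Agent.Lib.Helper82_BR_B0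
  Cfsg.Agent.Lib.Helper50_BR_LIN Cfsg.Agent.Lib.Helper34_BR_FER Cfsg.Agent.Lib.Helper77_BRN1
open scoped ComplexConjugate

universe u

variable {G : Type u} [Group G] [Fintype G] {p : ℕ} [hp : Fact p.Prime]

theorem main [IsSimpleGroup G] (hnc : ¬ IsCyclic G) (hdvd : p ∣ Nat.card G)
    (hbig : Nat.card G < p ^ 3) :
    (3 < p ∧ Nonempty (G ≃* Matrix.ProjectiveSpecialLinearGroup (Fin 2) (ZMod p))) ∨
      ∃ (m : ℕ) (F : Type) (_ : Field F) (_ : Fintype F), Fintype.card F = 2 ^ m ∧
        p = 2 ^ m + 1 ∧ 3 < p ∧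
          Nonempty (G ≃* Matrix.ProjectiveSpecialLinearGroup (Fin 2) F) := by
  classical
  have hpp : p.Prime := hp.out
  obtain ⟨P⟩ : Nonempty (Sylow p G) := inferInstance
  obtain ⟨hP, h5, hq2, hqd, n, w, hn1, hw, hn, hCw, hG⟩ := SYL hnc hdvd hbig P
  -- the case n = 1
  have key1 : n = 1 → (3 < p ∧ Nonempty (G ≃* Matrix.ProjectiveSpecialLinearGroup (Fin 2) (ZMod p))) := by
    intro h1
    subst h1
    exact ⟨by omega, N1 hnc h5 P hP hn hbig⟩
  have hp3 : p ^ 3 = p * (p * p) := by ring
  have hppos : 0 < p := hpp.pos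
  -- cancel p in the order bound
  have hb2 : w * qq P * (1 + n * p) < p * p := by
    have : p * (w * qq P * (1 + n * p)) < p * (p * p) := by
      calc p * (w * qq P * (1 + n * p)) = p * w * qq P * (1 + n * p) := by ring
        _ = Nat.card G := hG.symm
        _ < p ^ 3 := hbig
        _ = p * (p * p) := hp3
    exact Nat.lt_of_mul_lt_mul_left this
  by_cases hqp : 2 * qq P ≤ p - 1
  · -- the generic case
    obtain ⟨D⟩ := B0 P hP hq2 hqd hqp
    have hC := W1 hnc P hP D hq2 hqp n w hn1 hw hn hCw hG hbig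
    -- w = 1
    have hw1 : w = 1 := by
      have hle : Cen P ≤ (P : Subgroup G) := fun c hc => hC c hc
      have hge : (P : Subgroup G) ≤ Cen P := by
        have hcomm : IsCyclic (P : Subgroup G) := isCyclic_of_prime_card hP
        intro x hx
        rw [Subgroup.mem_centralizer_iff]
        intro y hy
        have := hcomm
        have hc : ∀ a b : (P : Subgroup G), a * b = b * a := by
          haveI := hcomm
          intro a b
          exact IsCyclic.commGroup.mul_comm a b
        have := hc ⟨y, hy⟩ ⟨x, hx⟩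
        exact congrArg Subtype.val this
      have heq : Cen P = (P : Subgroup G) := le_antisymm hle hge
      have : Nat.card (Cen P) = p := by rw [heq]; exact hP
      rw [this] at hCw
      have : p * 1 = p * w := by rw [mul_one]; exact hCw
      exact (Nat.eq_of_mul_eq_mul_left hppos this).symm
    subst hw1
    obtain ⟨L⟩ := LIN P hP hC
    have hG' : Nat.card G = p * qq P * (1 + n * p) := by rw [hG]; ring
    have hsmall : qq P * (1 + n * p) < p ^ 2 := by
      have : 1 * qq P * (1 + n * p) < p * p := hb2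
      rw [one_mul] at this
      rw [pow_two]; exact this
    rcases CLS hnc P hP hC D L h5 hq2 hqp n hn1 hn hG' hsmall with h1 | hF
    · exact Or.inl (key1 h1)
    · obtain ⟨Q, hQN, hQP, hQcard, hQcyc, hH, hHN, hconj⟩ :=
        GEO P hP hC D L h5 hq2 hqp n hn1 hn hG' hF
      by_cases hq2' : qq P = 2
      · right
        refine FER hnc h5 (qq P) n D.Y.card hq2' hG' D.hYcard hF.hn Q hQcard hH hconj
      · have hq3 : 3 ≤ qq P := by omega
        exact Or.inl (key1 (HG P hP hC D L h5 hq3 hqp n hn1 hF Q hQN hQP hQcard hQcyc hH hHN hconj))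
  · -- q = p - 1 : then n = 1
    push_neg at hqp
    left
    apply key1
    -- q ∣ p - 1 and 2 q > p - 1 give q = p - 1
    have hp1 : 0 < p - 1 := by omega
    obtain ⟨k, hk⟩ := hqd
    have hk1 : k = 1 := by
      rcases Nat.lt_or_ge k 2 with h | h
      · rcases Nat.eq_zero_or_pos k with h0 | h0
        · subst h0; omega
        · omega
      · exfalso
        have : 2 * qq P ≤ qq P * k := by nlinarith
        omega
    subst hk1
    rw [mul_one] at hk
    -- (p - 1) (1 + n p) ≤ w q (1 + n p) < p^2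
    by_contra hne
    have hn2 : 2 ≤ n := by omega
    have h1 : (p - 1) * (1 + 2 * p) ≤ w * qq P * (1 + n * p) := by
      rw [← hk]
      have h2 : 1 + 2 * p ≤ 1 + n * p := by nlinarith
      calc (p - 1) * (1 + 2 * p) ≤ (p - 1) * (1 + n * p) := Nat.mul_le_mul_left _ h2
        _ = 1 * (p - 1) * (1 + n * p) := by ring
        _ ≤ w * (p - 1) * (1 + n * p) := by
            apply Nat.mul_le_mul_right
            exact Nat.mul_le_mul_right _ hw
    have h3 : p * p ≤ (p - 1) * (1 + 2 * p) := by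
      obtain ⟨r, rfl⟩ : ∃ r, p = r + 5 := ⟨p - 5, by omega⟩
      have : r + 5 - 1 = r + 4 := by omega
      rw [this]
      nlinarith
    omega

end Cfsg.Agent.Lib.Helper77_BRMain
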