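import Mathlib
import Cfsg.Agent.S0999
import Cfsg.Agent.S0998
import Cfsg.Agent.S4343
import Cfsg.Agent.S1001
import Cfsg.Agent.S0996
import Cfsg.Agent.Lib.Helper50_DkOrders
import Cfsg.Agent.Lib.Helper75_SM_Base

/-!
# S0983 toolbox: kill lemmas from landed classification rows (helper16)

* `big_kill` (S0999, Brauer-Reynolds): a prime `p ∣ |G|` with `|G| < p³` forces `|G|` to be the order of
  `PSL(2,p)` or of `PSL(2,p-1)`;
* `prq_kill` (S0998): `|G| = p r q^b` forces `|G| ∈ {60, 168}`;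
* `small_kill` (S4343): `p² ∣ |G|` forces `n_p ≥ p²`;
* `selfcent_kill` (S0996): an element of prime order `p` with `C(z) = ⟨z⟩` and `2 n_p < (p+1)(p+2)`.
-/

set_option autoImplicit false

namespace Cfsg.Agent.Lib.Helper16_SO_Tools

open Cfsg.Agent.Lib.Helper17_Sylow Cfsg.Agent.Lib.Helper75_SM_Base Subgroup
open scoped MatrixGroups

/-- the order of a group isomorphic to `PSL(2,F)` -/
theorem card_mul_gcd_of_iso {G : Type*} [Group G] (F : Type) [Field F] [Fintype F]
    (e : G ≃* Matrix.ProjectiveSpecialLinearGroup (Fin 2) F) :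
    Nat.card G * Nat.gcd 2 (Fintype.card F - 1) = Fintype.card F * (Fintype.card F ^ 2 - 1) := by
  rw [Nat.card_congr e.toEquiv]
  exact Cfsg.Agent.Lib.Helper50_DkOrders.card_PSL2 (F := F)

variable {G : Type*} [Group G] [Finite G] [IsSimpleGroup G]

/-- S0999. -/
theorem big_kill (hG : ¬ IsMulCommutative G) (p : ℕ) (hp : p.Prime) (hdvd : p ∣ Nat.card G)
    (hbig : Nat.card G < p ^ 3) :
    Nat.card G * Nat.gcd 2 (p - 1) = p * (p ^ 2 - 1) ∨
      Nat.card G * Nat.gcd 2 (p - 2) = (p - 1) * ((p - 1) ^ 2 - 1) := by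
  rcases Cfsg.Agent.S0999.result (not_cyclic hG) p hp hdvd hbig with
    ⟨F, _, _, hF, -, ⟨e⟩⟩ | ⟨m, F, _, _, hF, hpm, -, ⟨e⟩⟩
  · left
    have := card_mul_gcd_of_iso F e
    rwa [hF] at this
  · right
    have := card_mul_gcd_of_iso F e
    rw [hF] at this
    have h1 : 2 ^ m = p - 1 := by omega
    have h2 : 2 ^ m - 1 = p - 2 := by omega
    rwa [h2, h1] at this

/-- S0998. -/
theorem prq_kill (hG : ¬ IsMulCommutative G) (p q r b : ℕ) (hp : p.Prime) (hq : q.Prime)
    (hr : r.Prime) (hpq : p ≠ q) (hpr : p ≠ r) (hqr : q ≠ r)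
    (hcard : Nat.card G = p * r * q ^ b) : Nat.card G = 60 ∨ Nat.card G = 168 := by
  rcases Cfsg.Agent.S0998.result (not_cyclic hG) p q r b hp hq hr hpq hpr hqr hcard with
    ⟨F, _, _, hF, ⟨e⟩⟩ | ⟨F, _, _, hF, ⟨e⟩⟩
  · left
    have := card_mul_gcd_of_iso F e
    rw [hF] at this
    norm_num at this
    omega
  · right
    have := card_mul_gcd_of_iso F e
    rw [hF] at this
    norm_num at this
    omega

/-- S4343: `n_p = d < p²` is impossible when `p² ∣ |G|`. -/
theorem small_kill (hG : ¬ IsMulCommutative G) {p a m : ℕ} [hp : Fact p.Prime]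
    (hc : Nat.card G = p ^ a * m) (hm : ¬ p ∣ m) (ha : 2 ≤ a) (d : ℕ)
    (hd : Nat.card (Sylow p G) = d) (hlt : d < p ^ 2) : False := by
  obtain ⟨P⟩ : Nonempty (Sylow p G) := inferInstance
  have hP : Nat.card (P : Subgroup G) = p ^ a := card_sylow_eq_pow hc hm P
  have hdvd : p ∣ Nat.card G := by
    rw [hc]
    exact Dvd.dvd.mul_right (dvd_pow_self p (by omega)) m
  have h1 := Cfsg.Agent.S4343.result hG p hdvd (by rw [hd]; exact hlt) P
  rw [hP] at h1
  have hp1 := hp.out.one_lt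
  have h2 : p ^ 2 ≤ p ^ a := Nat.pow_le_pow_right hp.out.pos ha
  have h3 : p < p ^ 2 := by nlinarith
  omega

/-- S0996 for a simple group. -/
theorem selfcent_kill (hG : ¬ IsMulCommutative G) (p : ℕ) [Fact p.Prime] (z : G)
    (hz : orderOf z = p) (hC : centralizer ({z} : Set G) = zpowers z)
    (hn : 2 * Nat.card (Sylow p G) < (p + 1) * (p + 2)) :
    Nat.card G * Nat.gcd 2 (p - 1) = p * (p ^ 2 - 1) ∨
      Nat.card G * Nat.gcd 2 (p - 2) = (p - 1) * ((p - 1) ^ 2 - 1) := by
  have hperf : commutator G = ⊤ := by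
    rcases IsSimpleGroup.eq_bot_or_eq_top_of_normal (commutator G) inferInstance with h | h
    · exfalso
      apply hG
      refine ⟨⟨fun a b => ?_⟩⟩
      have hab : a * b * a⁻¹ * b⁻¹ ∈ commutator G := by
        rw [commutator_def]
        exact Subgroup.commutator_mem_commutator (Subgroup.mem_top a) (Subgroup.mem_top b)
      rw [h, Subgroup.mem_bot] at hab
      calc a * b = (a * b * a⁻¹ * b⁻¹) * (b * a) := by group
        _ = b * a := by rw [hab, one_mul]
    · exact h
  rcases Cfsg.Agent.S0996.result hperf p z hz hC hn with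
    ⟨F, _, _, hF, -, ⟨e⟩⟩ | ⟨m, F, _, _, hF, hpm, -, ⟨e⟩⟩
  · left
    have := card_mul_gcd_of_iso F e
    rwa [hF] at this
  · right
    have := card_mul_gcd_of_iso F e
    rw [hF] at this
    have h1 : 2 ^ m = p - 1 := by omega
    have h2 : 2 ^ m - 1 = p - 2 := by omega
    rwa [h2, h1] at this

end Cfsg.Agent.Lib.Helper16_SO_Tools
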