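import Mathlib
import Cfsg.Agent.Lib.Helper16_SO_Tools

/-!
# S0983: the special orders killed by landed classification rows (helper16)

4760 4960 5104 5724 (S0999), 3840 4160 4480 4928 5376 (S0998), 4400 4725 5292 5880 6000 (S4343),
4212 (S1001 + S0996), 4536 (S1001).
-/

set_option autoImplicit false
set_option linter.unusedVariables false
set_option linter.unusedSectionVars false

namespace Cfsg.Agent.Lib.Helper16_SO_Easy

open Cfsg.Agent.Lib.Helper17_Sylow Cfsg.Agent.Lib.Helper75_SM_Base
  Cfsg.Agent.Lib.Helper16_SO_Tools Subgroup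

variable {G : Type*} [Group G] [Finite G] [IsSimpleGroup G]

/-! ### S0999 -/

theorem no_4760 (hG : ¬ IsMulCommutative G) (h : Nat.card G = 4760) : False := by
  have := big_kill hG 17 (by norm_num) (by rw [h]; norm_num) (by rw [h]; norm_num)
  rw [h] at this
  norm_num at this

theorem no_4960 (hG : ¬ IsMulCommutative G) (h : Nat.card G = 4960) : False := by
  have := big_kill hG 31 (by norm_num) (by rw [h]; norm_num) (by rw [h]; norm_num)
  rw [h] at this
  norm_num at this

theorem no_5104 (hG : ¬ IsMulCommutative G) (h : Nat.card G = 5104) : False := by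
  have := big_kill hG 29 (by norm_num) (by rw [h]; norm_num) (by rw [h]; norm_num)
  rw [h] at this
  norm_num at this

theorem no_5724 (hG : ¬ IsMulCommutative G) (h : Nat.card G = 5724) : False := by
  have := big_kill hG 53 (by norm_num) (by rw [h]; norm_num) (by rw [h]; norm_num)
  rw [h] at this
  norm_num at this

/-! ### S0998 -/

theorem no_3840 (hG : ¬ IsMulCommutative G) (h : Nat.card G = 3840) : False := by
  have := prq_kill hG 5 2 3 8 (by norm_num) (by norm_num) (by norm_num) (by norm_num)
    (by norm_num) (by norm_num) (by rw [h]; norm_num)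
  omega

theorem no_4160 (hG : ¬ IsMulCommutative G) (h : Nat.card G = 4160) : False := by
  have := prq_kill hG 13 2 5 6 (by norm_num) (by norm_num) (by norm_num) (by norm_num)
    (by norm_num) (by norm_num) (by rw [h]; norm_num)
  omega

theorem no_4480 (hG : ¬ IsMulCommutative G) (h : Nat.card G = 4480) : False := by
  have := prq_kill hG 7 2 5 7 (by norm_num) (by norm_num) (by norm_num) (by norm_num)
    (by norm_num) (by norm_num) (by rw [h]; norm_num)
  omega

theorem no_4928 (hG : ¬ IsMulCommutative G) (h : Nat.card G = 4928) : False := by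
  have := prq_kill hG 11 2 7 6 (by norm_num) (by norm_num) (by norm_num) (by norm_num)
    (by norm_num) (by norm_num) (by rw [h]; norm_num)
  omega

theorem no_5376 (hG : ¬ IsMulCommutative G) (h : Nat.card G = 5376) : False := by
  have := prq_kill hG 7 2 3 8 (by norm_num) (by norm_num) (by norm_num) (by norm_num)
    (by norm_num) (by norm_num) (by rw [h]; norm_num)
  omega

/-! ### S4343 -/

theorem no_4400 (hG : ¬ IsMulCommutative G) (h : Nat.card G = 4400) : False := by
  have : Fact (Nat.Prime 5) := ⟨by norm_num⟩
  have hc : Nat.card G = 5 ^ 2 * 176 := by rw [h]; norm_num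
  have hm : ¬ 5 ∣ 176 := by norm_num
  have hmem := card_sylow_mem_candidates hc hm
  have hcand : sylowCandidates 5 176 = [1, 11, 16, 176] := by decide
  rw [hcand] at hmem
  simp only [List.mem_cons, List.not_mem_nil, or_false] at hmem
  have hlt := one_lt_card_sylow_of_card hc hm (by norm_num) (by norm_num)
  rcases hmem with hd | hd | hd | hd
  · omega
  · exact small_kill hG hc hm (by norm_num) 11 hd (by norm_num)
  · exact small_kill hG hc hm (by norm_num) 16 hd (by norm_num)
  · exact burn2_kill hc hm (by norm_num) hd

theorem no_4725 (hG : ¬ IsMulCommutative G) (h : Nat.card G = 4725) : False := by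
  have : Fact (Nat.Prime 5) := ⟨by norm_num⟩
  have hc : Nat.card G = 5 ^ 2 * 189 := by rw [h]; norm_num
  have hm : ¬ 5 ∣ 189 := by norm_num
  have hmem := card_sylow_mem_candidates hc hm
  have hcand : sylowCandidates 5 189 = [1, 21] := by decide
  rw [hcand] at hmem
  simp only [List.mem_cons, List.not_mem_nil, or_false] at hmem
  have hlt := one_lt_card_sylow_of_card hc hm (by norm_num) (by norm_num)
  rcases hmem with hd | hd
  · omega
  · exact small_kill hG hc hm (by norm_num) 21 hd (by norm_num)

theorem no_5292 (hG : ¬ IsMulCommutative G) (h : Nat.card G = 5292) : False := by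
  have : Fact (Nat.Prime 7) := ⟨by norm_num⟩
  have hc : Nat.card G = 7 ^ 2 * 108 := by rw [h]; norm_num
  have hm : ¬ 7 ∣ 108 := by norm_num
  have hmem := card_sylow_mem_candidates hc hm
  have hcand : sylowCandidates 7 108 = [1, 36] := by decide
  rw [hcand] at hmem
  simp only [List.mem_cons, List.not_mem_nil, or_false] at hmem
  have hlt := one_lt_card_sylow_of_card hc hm (by norm_num) (by norm_num)
  rcases hmem with hd | hd
  · omega
  · exact small_kill hG hc hm (by norm_num) 36 hd (by norm_num)

theorem no_5880 (hG : ¬ IsMulCommutative G) (h : Nat.card G = 5880) : False := by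
  have : Fact (Nat.Prime 7) := ⟨by norm_num⟩
  have hc : Nat.card G = 7 ^ 2 * 120 := by rw [h]; norm_num
  have hm : ¬ 7 ∣ 120 := by norm_num
  have hmem := card_sylow_mem_candidates hc hm
  have hcand : sylowCandidates 7 120 = [1, 8, 15, 120] := by decide
  rw [hcand] at hmem
  simp only [List.mem_cons, List.not_mem_nil, or_false] at hmem
  have hlt := one_lt_card_sylow_of_card hc hm (by norm_num) (by norm_num)
  rcases hmem with hd | hd | hd | hd
  · omega
  · exact fact_kill hG 8 hd (by norm_num) (by rw [h]; decide)
  · exact small_kill hG hc hm (by norm_num) 15 hd (by norm_num)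
  · exact burn2_kill hc hm (by norm_num) hd

theorem no_6000 (hG : ¬ IsMulCommutative G) (h : Nat.card G = 6000) : False := by
  have : Fact (Nat.Prime 5) := ⟨by norm_num⟩
  have hc : Nat.card G = 5 ^ 3 * 48 := by rw [h]; norm_num
  have hm : ¬ 5 ∣ 48 := by norm_num
  have hmem := card_sylow_mem_candidates hc hm
  have hcand : sylowCandidates 5 48 = [1, 6, 16] := by decide
  rw [hcand] at hmem
  simp only [List.mem_cons, List.not_mem_nil, or_false] at hmem
  have hlt := one_lt_card_sylow_of_card hc hm (by norm_num) (by norm_num)
  rcases hmem with hd | hd | hd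
  · omega
  · exact fact_kill hG 6 hd (by norm_num) (by rw [h]; decide)
  · exact small_kill hG hc hm (by norm_num) 16 hd (by norm_num)

/-! ### S1001 -/

/-- an element of order `p` when `|P| = p` -/
theorem exists_orderOf_eq {p : ℕ} [hp : Fact p.Prime] (hdvd : p ∣ Nat.card G) :
    ∃ z : G, orderOf z = p :=
  exists_prime_orderOf_dvd_card' p hdvd

/-- If `C(z) = ⟨z⟩` for `z` of order `p` generating the Sylow `p`-subgroup `P`, then `|N(P)|` divides
`p (p - 1)`. -/
theorem card_normalizer_dvd_of_selfcent {p : ℕ} [hp : Fact p.Prime] (P : Sylow p G)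
    (hP : Nat.card (P : Subgroup G) = p)
    (hC : ∀ z : G, orderOf z = p → centralizer ({z} : Set G) = zpowers z) :
    Nat.card (normalizer ((P : Subgroup G) : Set G)) ∣ p * (p - 1) := by
  -- a generator of `P`
  have hcyc : IsCyclic (P : Subgroup G) := isCyclic_of_prime_card hP
  obtain ⟨⟨z, hzP⟩, hzgen⟩ := hcyc.exists_generator
  have hzord : orderOf z = p := by
    have h1 : orderOf (⟨z, hzP⟩ : (P : Subgroup G)) = Nat.card (P : Subgroup G) :=
      orderOf_eq_card_of_forall_mem_zpowers hzgen
    rw [hP] at h1
    rwa [Subgroup.orderOf_mk] at h1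
  have hPz : (P : Subgroup G) = zpowers z := by
    apply le_antisymm
    · intro y hy
      obtain ⟨k, hk⟩ := hzgen ⟨y, hy⟩
      refine ⟨k, ?_⟩
      have := congrArg Subtype.val hk
      simpa using this
    · rw [Subgroup.zpowers_le]
      exact hzP
  have hcent : centralizer ((P : Subgroup G) : Set G) = (P : Subgroup G) := by
    rw [hPz]
    have h1 : centralizer ((zpowers z : Subgroup G) : Set G) = centralizer ({z} : Set G) := by
      rw [Subgroup.zpowers_eq_closure, Subgroup.centralizer_closure]
    rw [h1, hC z hzord]
  have h2 := card_mul_relIndex_of_le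
    (Subgroup.centralizer_le_normalizer (s := ((P : Subgroup G) : Set G)))
  have h3 := relIndex_centralizer_normalizer_dvd_pred (P : Subgroup G) hP
  have h4 : Nat.card (centralizer ((P : Subgroup G) : Set G)) = p := by rw [hcent, hP]
  rw [h4] at h2
  rw [← h2]
  exact Nat.mul_dvd_mul_left p h3

theorem no_4212 (hG : ¬ IsMulCommutative G) (h : Nat.card G = 4212) : False := by
  have : Fact (Nat.Prime 13) := ⟨by norm_num⟩
  have hc : Nat.card G = 13 ^ 1 * 324 := by rw [h]; norm_num
  have hm : ¬ 13 ∣ 324 := by norm_num
  have hmem := card_sylow_mem_candidates hc hm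
  have hcand : sylowCandidates 13 324 = [1, 27] := by decide
  rw [hcand] at hmem
  simp only [List.mem_cons, List.not_mem_nil, or_false] at hmem
  have hlt := one_lt_card_sylow_of_card hc hm (by norm_num) (by norm_num)
  rcases hmem with hd | hd
  · omega
  · obtain ⟨z, hz⟩ := exists_orderOf_eq (G := G) (p := 13) (by rw [h]; norm_num)
    have hC := Cfsg.Agent.S1001.result 13 4 2 (by norm_num) (by rw [h]; norm_num) z hz
    have := selfcent_kill hG 13 z hz hC (by rw [hd]; norm_num)
    rw [h] at this
    norm_num at this

theorem no_4536 (hG : ¬ IsMulCommutative G) (h : Nat.card G = 4536) : False := by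
  have : Fact (Nat.Prime 7) := ⟨by norm_num⟩
  have hc : Nat.card G = 7 ^ 1 * 648 := by rw [h]; norm_num
  have hm : ¬ 7 ∣ 648 := by norm_num
  obtain ⟨P⟩ : Nonempty (Sylow 7 G) := inferInstance
  have hP : Nat.card (P : Subgroup G) = 7 := by
    have := card_sylow_eq_pow hc hm P
    rwa [pow_one] at this
  have hC : ∀ z : G, orderOf z = 7 → centralizer ({z} : Set G) = zpowers z :=
    fun z hz => Cfsg.Agent.S1001.result 7 4 3 (by norm_num) (by rw [h]; norm_num) z hz
  have hN := card_normalizer_dvd_of_selfcent P hP hC
  have hNn := card_normalizer_mul_card_sylow P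
  have hmem := card_sylow_mem_candidates hc hm
  have hcand : sylowCandidates 7 648 = [1, 8, 36, 162] := by decide
  rw [hcand] at hmem
  simp only [List.mem_cons, List.not_mem_nil, or_false] at hmem
  have hlt := one_lt_card_sylow_of_card hc hm (by norm_num) (by norm_num)
  rw [h] at hNn
  rcases hmem with hd | hd | hd | hd
  · omega
  · exact fact_kill hG 8 hd (by norm_num) (by rw [h]; decide)
  · rw [hd] at hNn
    have h1 : Nat.card (normalizer ((P : Subgroup G) : Set G)) = 126 := by omega
    rw [h1] at hN
    norm_num at hN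
  · rw [hd] at hNn
    have h1 : Nat.card (normalizer ((P : Subgroup G) : Set G)) = 28 := by omega
    rw [h1] at hN
    norm_num at hN

end Cfsg.Agent.Lib.Helper16_SO_Easy
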