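import Mathlib

set_option autoImplicit false

/-!
S0983 package FUS (architect helper16): Burnside's transfer argument.  For an abelian Sylow `p`-subgroup `P` of a
perfect finite group, `P ∩ Z(N(P)) = 1`.
-/

namespace Cfsg.Agent.Lib.Helper17_SO_FUS

/-- **FUS**.  Burnside: for an abelian Sylow `p`-subgroup `P` of a perfect group, `P ∩ Z(N(P)) = 1`. -/
theorem eq_one_of_central_in_normalizer {G : Type*} [Group G] [Finite G]
    (hperf : commutator G = ⊤) {p : ℕ} [Fact p.Prime] (P : Sylow p G)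
    (hab : ∀ a ∈ (P : Subgroup G), ∀ b ∈ (P : Subgroup G), a * b = b * a)
    (z : G) (hz : z ∈ (P : Subgroup G))
    (hzN : ∀ n ∈ Subgroup.normalizer ((P : Subgroup G) : Set G), n * z = z * n) : z = 1 := by
  have hcomm : IsMulCommutative (P : Subgroup G) :=
    ⟨⟨fun a b => Subtype.ext (hab a a.2 b b.2)⟩⟩
  let _ : CommGroup ↥(P : Subgroup G) :=
    { (inferInstance : Group ↥(P : Subgroup G)) with
      mul_comm := fun a b => Subtype.ext (hab a a.2 b b.2) }
  -- powers of `z` are central in `N(P)`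
  have hpowN : ∀ (k : ℕ), ∀ n ∈ Subgroup.normalizer ((P : Subgroup G) : Set G),
      n⁻¹ * z ^ k * n = z ^ k := by
    intro k n hn
    have hc : Commute n z := hzN n hn
    have hc' : Commute n (z ^ k) := hc.pow_right k
    rw [mul_assoc, ← hc'.eq, inv_mul_cancel_left]
  have key : ∀ (k : ℕ) (g₀ : G), g₀⁻¹ * z ^ k * g₀ ∈ (P : Subgroup G) →
      g₀⁻¹ * z ^ k * g₀ = z ^ k := by
    intro k g₀ hk
    have hzk : z ^ k ∈ (P : Subgroup G) := Subgroup.pow_mem _ hz k
    obtain ⟨n, hn, hEq⟩ := P.conj_eq_normalizer_conj_of_mem (z ^ k) g₀ hzk hk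
    rw [hEq, hpowN k n hn]
  have htr := MonoidHom.transfer_eq_pow (MonoidHom.id ↥(P : Subgroup G)) z key
  have h1 : MonoidHom.transfer (MonoidHom.id ↥(P : Subgroup G)) z = 1 := by
    have hmem : z ∈ commutator G := by rw [hperf]; trivial
    exact Abelianization.commutator_subset_ker _ hmem
  rw [h1] at htr
  have hzi : z ^ (P : Subgroup G).index = 1 := by
    have := congrArg Subtype.val htr
    simpa using this.symm
  have hzc : z ^ Nat.card (P : Subgroup G) = 1 := by
    have h := pow_card_eq_one' (G := ↥(P : Subgroup G)) (x := ⟨z, hz⟩)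
    have h' : ((⟨z, hz⟩ : ↥(P : Subgroup G)) ^ Nat.card (P : Subgroup G) : ↥(P : Subgroup G)).1
        = (1 : ↥(P : Subgroup G)).1 := by rw [h]
    rw [Subgroup.coe_pow, Subgroup.coe_one] at h'
    exact h'
  have hcop : (Nat.card (P : Subgroup G)).Coprime (P : Subgroup G).index := P.card_coprime_index
  have ho1 : orderOf z ∣ Nat.card (P : Subgroup G) := orderOf_dvd_of_pow_eq_one hzc
  have ho2 : orderOf z ∣ (P : Subgroup G).index := orderOf_dvd_of_pow_eq_one hzi
  have : orderOf z = 1 := Nat.eq_one_of_dvd_coprimes hcop ho1 ho2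
  exact orderOf_eq_one_iff.1 this

end Cfsg.Agent.Lib.Helper17_SO_FUS
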