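import Mathlib
import Cfsg.Agent.Lib.Helper17_Sylow
import Cfsg.Agent.Lib.Helper17_SO_FUS
import Cfsg.Agent.Lib.Helper4_CayleySign
import Cfsg.Agent.S4343

set_option autoImplicit false

/-!
S0983 package N4800 (architect helper16): there is no simple group of order 4800.
-/

namespace Cfsg.Agent.Lib.Helper17_SO_N4800

open Subgroup Cfsg.Agent.Lib.Helper17_Sylow

/-- In a perfect group, if an abelian Sylow `p`-subgroup `P` of odd order has index two in its normalizer,
then some involution of the normalizer inverts `P`. -/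
theorem exists_inverting_involution {G : Type*} [Group G] [Finite G]
    (hperf : commutator G = ⊤) {p : ℕ} [Fact p.Prime] (P : Sylow p G)
    (hab : ∀ a ∈ (P : Subgroup G), ∀ b ∈ (P : Subgroup G), a * b = b * a)
    (hodd : Odd (Nat.card (P : Subgroup G)))
    (hN : Nat.card (normalizer ((P : Subgroup G) : Set G)) = 2 * Nat.card (P : Subgroup G)) :
    ∃ t : G, orderOf t = 2 ∧ ∀ x ∈ (P : Subgroup G), t * x * t⁻¹ = x⁻¹ := by
  classical
  have hfact2 : Fact (Nat.Prime 2) := ⟨Nat.prime_two⟩
  set N := normalizer ((P : Subgroup G) : Set G) with hNdef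
  have hPN : (P : Subgroup G) ≤ N := le_normalizer
  -- an involution in `N`
  have h2dvd : 2 ∣ Nat.card N := by rw [hN]; exact dvd_mul_right 2 _
  obtain ⟨t', ht'⟩ := exists_prime_orderOf_dvd_card' (G := ↥N) 2 h2dvd
  obtain ⟨t, htN⟩ := t'
  have hto : orderOf t = 2 := by
    rw [← ht']
    exact (Subgroup.orderOf_mk t htN).symm
  have htt : t * t = 1 := by
    have := pow_orderOf_eq_one t
    rwa [hto, pow_two] at this
  have htinv : t⁻¹ = t := inv_eq_of_mul_eq_one_left htt
  -- `t ∉ P`
  have htP : t ∉ (P : Subgroup G) := by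
    intro h
    have h1 : orderOf (⟨t, h⟩ : ↥(P : Subgroup G)) ∣ Nat.card (P : Subgroup G) :=
      orderOf_dvd_natCard _
    rw [Subgroup.orderOf_mk, hto] at h1
    exact (Nat.not_even_iff_odd.mpr hodd) (even_iff_two_dvd.mpr h1)
  -- index two
  have hidx : ((P : Subgroup G).subgroupOf N).index = 2 := by
    have h1 := card_mul_relIndex_of_le hPN
    rw [hN] at h1
    have hpos : 0 < Nat.card (P : Subgroup G) := Nat.card_pos
    have : (P : Subgroup G).relIndex N = 2 := by
      apply Nat.eq_of_mul_eq_mul_left hpos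
      rw [h1]; ring
    exact this
  have hcases : ∀ n ∈ N, n ∈ (P : Subgroup G) ∨ n * t ∈ (P : Subgroup G) := by
    intro n hn
    by_cases hnP : n ∈ (P : Subgroup G)
    · exact Or.inl hnP
    · right
      have := Subgroup.mul_mem_iff_of_index_two hidx (a := (⟨n, hn⟩ : ↥N)) (b := (⟨t, htN⟩ : ↥N))
      have h3 : (⟨n, hn⟩ : ↥N) * ⟨t, htN⟩ ∈ (P : Subgroup G).subgroupOf N := by
        rw [this]
        constructor
        · intro h; exact absurd (Subgroup.mem_subgroupOf.mp h) hnP
        · intro h; exact absurd (Subgroup.mem_subgroupOf.mp h) htP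
      exact Subgroup.mem_subgroupOf.mp h3
  refine ⟨t, hto, ?_⟩
  intro x hx
  have hy : t * x * t⁻¹ ∈ (P : Subgroup G) := ((mem_normalizer_iff.mp htN) x).mp hx
  set y := t * x * t⁻¹ with hydef
  have hz : x * y ∈ (P : Subgroup G) := Subgroup.mul_mem _ hx hy
  -- `t` commutes with `z = x * y`
  have hty : t * y * t⁻¹ = x := by
    rw [hydef, htinv]
    calc t * (t * x * t) * t = (t * t) * x * (t * t) := by group
      _ = x := by rw [htt, one_mul, mul_one]
  have htz : t * (x * y) = (x * y) * t := by
    have h1 : t * (x * y) * t⁻¹ = x * y := by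
      calc t * (x * y) * t⁻¹ = (t * x * t⁻¹) * (t * y * t⁻¹) := by group
        _ = y * x := by rw [hty]
        _ = x * y := hab y hy x hx
    calc t * (x * y) = t * (x * y) * t⁻¹ * t := by group
      _ = (x * y) * t := by rw [h1]
  have hzN : ∀ n ∈ N, n * (x * y) = (x * y) * n := by
    intro n hn
    rcases hcases n hn with h | h
    · exact hab n h (x * y) hz
    · have hn' : n = (n * t) * t := by
        rw [mul_assoc, htt, mul_one]
      rw [hn']
      calc n * t * t * (x * y) = (n * t) * (t * (x * y)) := by group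
        _ = (n * t) * ((x * y) * t) := by rw [htz]
        _ = ((n * t) * (x * y)) * t := by group
        _ = ((x * y) * (n * t)) * t := by rw [hab (n * t) h (x * y) hz]
        _ = x * y * (n * t * t) := by group
  have h1 := Cfsg.Agent.Lib.Helper17_SO_FUS.eq_one_of_central_in_normalizer hperf P hab (x * y) hz hzN
  exact (eq_inv_of_mul_eq_one_right h1)

/-- a simple group of non-prime order is perfect -/
theorem perfect_of_not_prime {G : Type*} [Group G] [Finite G] [IsSimpleGroup G]
    (h : ¬ (Nat.card G).Prime) : commutator G = ⊤ := by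
  have hna := not_isMulCommutative_of_not_prime h
  rcases (inferInstance : (commutator G).Normal).eq_bot_or_eq_top with hb | ht
  · exfalso
    apply hna
    refine ⟨⟨fun a b => ?_⟩⟩
    have h1 : a * b * a⁻¹ * b⁻¹ ∈ commutator G := by
      rw [_root_.commutator_def]
      exact Subgroup.commutator_mem_commutator (Subgroup.mem_top a) (Subgroup.mem_top b)
    rw [hb, Subgroup.mem_bot] at h1
    calc a * b = a * b * a⁻¹ * b⁻¹ * b * a := by group
      _ = b * a := by rw [h1]; group
  · exact ht

/-- an element of odd order lies in every subgroup of index two -/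
theorem mem_of_index_two_of_odd {G : Type*} [Group G] {K : Subgroup G} (hK : K.index = 2) {x : G}
    (hx : Odd (orderOf x)) : x ∈ K := by
  have hcop : Nat.Coprime 2 (orderOf x) := (Nat.coprime_two_left).mpr hx
  obtain ⟨m, hm⟩ := exists_pow_eq_self_of_coprime hcop
  rw [← hm]
  exact K.pow_mem (Subgroup.sq_mem_of_index_two hK x) m

/-- Step 1: a simple group of order 4800 has 96 Sylow 5-subgroups -/
theorem card_sylow_five {G : Type*} [Group G] [Finite G] [IsSimpleGroup G]
    (hcard : Nat.card G = 4800) [Fact (Nat.Prime 5)] : Nat.card (Sylow 5 G) = 96 := by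
  have hnp : ¬ (Nat.card G).Prime := by rw [hcard]; norm_num
  have hG := not_isMulCommutative_of_not_prime hnp
  have hG' : Nat.card G = 5 ^ 2 * 192 := by rw [hcard]; norm_num
  have hm : ¬ 5 ∣ 192 := by norm_num
  have h1 := card_sylow_mem_candidates hG' hm
  have h2 : sylowCandidates 5 192 = [1, 6, 16, 96] := by decide
  rw [h2] at h1
  simp only [List.mem_cons, List.not_mem_nil, or_false] at h1
  rcases h1 with h | h | h | h
  · have := one_lt_card_sylow_of_card hG' hm (by norm_num) (by norm_num)
    omega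
  · have h3 := card_dvd_factorial_card_sylow (G := G) (p := 5) (by rw [h]; norm_num)
    rw [h, hcard] at h3
    exact absurd h3 (by decide)
  · obtain ⟨P⟩ : Nonempty (Sylow 5 G) := inferInstance
    have h3 := Cfsg.Agent.S4343.result hG 5 (by rw [hcard]; norm_num) (by rw [h]; norm_num) P
    have h4 := card_sylow_eq_pow hG' hm P
    rw [h4] at h3
    norm_num at h3
  · exact h

/-- Step 2: the local structure at a Sylow 5-subgroup -/
theorem sylow_data {G : Type*} [Group G] [Finite G] [IsSimpleGroup G]
    (hcard : Nat.card G = 4800) [Fact (Nat.Prime 5)] (P : Sylow 5 G) :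
    Nat.card (P : Subgroup G) = 25 ∧
      (∀ a ∈ (P : Subgroup G), ∀ b ∈ (P : Subgroup G), a * b = b * a) ∧
      ∃ t : G, orderOf t = 2 ∧ ∀ x ∈ (P : Subgroup G), t * x * t⁻¹ = x⁻¹ := by
  have hnp : ¬ (Nat.card G).Prime := by rw [hcard]; norm_num
  have hperf := perfect_of_not_prime hnp
  have hG' : Nat.card G = 5 ^ 2 * 192 := by rw [hcard]; norm_num
  have hm : ¬ 5 ∣ 192 := by norm_num
  have hP : Nat.card (P : Subgroup G) = 5 ^ 2 := card_sylow_eq_pow hG' hm P
  have hP25 : Nat.card (P : Subgroup G) = 25 := by rw [hP]; norm_num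
  have hcomm := IsPGroup.isMulCommutative_of_card_eq_prime_sq hP
  have hab : ∀ a ∈ (P : Subgroup G), ∀ b ∈ (P : Subgroup G), a * b = b * a := by
    intro a ha b hb
    exact congrArg Subtype.val (hcomm.is_comm.comm (⟨a, ha⟩ : ↥(P : Subgroup G)) ⟨b, hb⟩)
  refine ⟨hP25, hab, ?_⟩
  have hN := card_normalizer_mul_card_sylow P
  rw [card_sylow_five hcard, hcard] at hN
  have hN50 : Nat.card (normalizer ((P : Subgroup G) : Set G)) = 2 * Nat.card (P : Subgroup G) := by
    rw [hP25]; omega
  exact exists_inverting_involution hperf P hab (by rw [hP25]; decide) hN50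

theorem no_simple_4800 {G : Type*} [Group G] [Finite G] [IsSimpleGroup G] : Nat.card G ≠ 4800 := by
  intro hcard
  classical
  have : Fact (Nat.Prime 5) := ⟨by norm_num⟩
  have hnp : ¬ (Nat.card G).Prime := by rw [hcard]; norm_num
  have hG := not_isMulCommutative_of_not_prime hnp
  obtain ⟨P⟩ : Nonempty (Sylow 5 G) := inferInstance
  have h96 : ¬ Nat.card (Sylow 5 G) ≡ 1 [MOD 5 ^ 2] := by
    rw [card_sylow_five hcard]; decide
  obtain ⟨R, hRP, hle⟩ := exists_sylow_relIndex_le 5 2 h96 P
  have hPR : P ≠ R := fun h => hRP h.symm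
  obtain ⟨hP25, habP, t, hto, htinvP⟩ := sylow_data hcard P
  obtain ⟨hR25, habR, -⟩ := sylow_data hcard R
  -- the intersection
  set D : Subgroup G := (P : Subgroup G) ⊓ (R : Subgroup G) with hDdef
  have hDP : D ≤ (P : Subgroup G) := inf_le_left
  have hDR : D ≤ (R : Subgroup G) := inf_le_right
  have hcD : Nat.card D = 5 := by
    have h1 := card_mul_relIndex_of_le hDP
    rw [hDdef, Subgroup.inf_relIndex_left, hP25] at h1
    set r := (R : Subgroup G).relIndex (P : Subgroup G) with hr
    have hr5 : r ≤ 5 := by simpa using hle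
    have h2 : Nat.card D = 5 ∨ Nat.card D = 25 := by
      rw [hDdef]
      interval_cases r <;> omega
    rcases h2 with h2 | h2
    · exact h2
    · exfalso
      have hDeq : D = (P : Subgroup G) := Subgroup.eq_of_le_of_card_ge hDP (by rw [h2, hP25])
      have hPleR : (P : Subgroup G) ≤ (R : Subgroup G) := by rw [← hDeq]; exact hDR
      have hPeqR : (P : Subgroup G) = (R : Subgroup G) :=
        Subgroup.eq_of_le_of_card_ge hPleR (by rw [hP25, hR25])
      exact hPR (Sylow.ext hPeqR)
  -- the centralizer and the normalizer of `D`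
  set C := centralizer (D : Set G) with hCdef
  set N := normalizer (D : Set G) with hNdef
  have hPC : (P : Subgroup G) ≤ C := by
    intro x hx
    rw [hCdef, Subgroup.mem_centralizer_iff]
    intro d hd
    exact habP d (hDP hd) x hx
  have hRC : (R : Subgroup G) ≤ C := by
    intro x hx
    rw [hCdef, Subgroup.mem_centralizer_iff]
    intro d hd
    exact habR d (hDR hd) x hx
  have htt : t * t = 1 := by
    have := pow_orderOf_eq_one t
    rwa [hto, pow_two] at this
  have htinv : t⁻¹ = t := inv_eq_of_mul_eq_one_left htt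
  have htN : t ∈ N := by
    rw [hNdef, mem_normalizer_iff]
    intro h
    constructor
    · intro hh
      rw [htinvP h (hDP hh)]
      exact D.inv_mem hh
    · intro hh
      have h1 := htinvP _ (hDP hh)
      have h2 : t * (t * h * t⁻¹) * t⁻¹ = h := by
        rw [htinv]
        calc t * (t * h * t) * t = (t * t) * h * (t * t) := by group
          _ = h := by rw [htt, one_mul, mul_one]
      rw [h2] at h1
      rw [h1]
      exact D.inv_mem hh
  have htC : t ∉ C := by
    intro htC
    -- a nontrivial element of `D`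
    have hDne : D ≠ ⊥ := by
      intro h
      rw [h, Subgroup.card_bot] at hcD
      omega
    obtain ⟨⟨d, hdD⟩, hd1⟩ := (Subgroup.ne_bot_iff_exists_ne_one).mp hDne
    have hd1' : d ≠ 1 := fun h => hd1 (Subtype.ext h)
    have h1 : d * t = t * d := (Subgroup.mem_centralizer_iff.mp htC) d hdD
    have h2 : t * d * t⁻¹ = d := by rw [← h1]; group
    have h3 : d⁻¹ = d := by rw [← htinvP d (hDP hdD), h2]
    have h4 : d * d = 1 := by
      calc d * d = d⁻¹ * d := by rw [h3]
        _ = 1 := inv_mul_cancel d
    have h5 : d ^ 5 = 1 := by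
      have := pow_card_eq_one' (G := ↥D) (x := ⟨d, hdD⟩)
      rw [hcD] at this
      exact congrArg Subtype.val this
    apply hd1'
    calc d = d ^ 5 * ((d * d)⁻¹ * (d * d)⁻¹) := by group
      _ = 1 := by rw [h5, h4]; simp
  have hCN : C ≤ N := centralizer_le_normalizer _
  set k := C.relIndex N with hk
  have hk4 : k ∣ 4 := by
    have := relIndex_centralizer_normalizer_dvd_pred D hcD
    simpa using this
  have hk1 : k ≠ 1 := by
    intro h
    exact htC ((Subgroup.relIndex_eq_one.mp h) htN)
  have hk2 : 2 ≤ k := by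
    have hkpos : 0 < k := Nat.pos_of_dvd_of_pos hk4 (by norm_num)
    omega
  have hNtop : N ≠ ⊤ := by
    intro h
    rw [hNdef, normalizer_eq_top_iff] at h
    rcases h.eq_bot_or_eq_top with hb | ht
    · rw [hb, Subgroup.card_bot] at hcD; omega
    · rw [ht, Subgroup.card_top, hcard] at hcD; omega
  have hidx : 10 ≤ N.index := by
    have h1 := two_mul_card_dvd_factorial_index hG N hNtop
    rw [hcard] at h1
    by_contra hlt
    have h2 : N.index ≤ 9 := by omega
    have h3 := Nat.factorial_dvd_factorial h2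
    have h4 := h1.trans h3
    exact absurd h4 (by decide)
  have hcN : Nat.card N ≤ 480 := by
    have h1 := Subgroup.card_mul_index N
    rw [hcard] at h1
    nlinarith
  have hcC : Nat.card C ≤ 240 := by
    have h1 := card_mul_relIndex_of_le hCN
    nlinarith
  have hcC150 : Nat.card C = 150 := by
    obtain ⟨n, hn6, hn5, hndvd⟩ := succ_mul_card_sylow_le_card P R hPR C hPC hRC
    rw [hP25] at hndvd
    have hCpos : 0 < Nat.card C := Nat.card_pos
    have hle' := Nat.le_of_dvd hCpos hndvd
    have hn9 : n ≤ 9 := by omega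
    have hn : n = 6 := by
      unfold Nat.ModEq at hn5
      interval_cases n <;> simp_all
    rw [hn] at hndvd
    obtain ⟨j, hj⟩ := hndvd
    have : j = 1 := by omega
    rw [hj, this]
  -- Step 6: a subgroup of index two in `C`
  have h2C : 2 ∣ Nat.card ↥C := by rw [hcC150]; norm_num
  have : Fact (Nat.Prime 2) := ⟨Nat.prime_two⟩
  have : Fintype ↥C := Fintype.ofFinite ↥C
  obtain ⟨u, hu⟩ := exists_prime_orderOf_dvd_card' (G := ↥C) 2 h2C
  obtain ⟨K, hK⟩ := Cfsg.Agent.Lib.Helper4_CayleySign.exists_index_two u (by rw [hu]; decide)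
    (by rw [hu, ← Nat.card_eq_fintype_card, hcC150]; decide)
  have hcK : Nat.card K = 75 := by
    have h1 := Subgroup.card_mul_index K
    rw [hK, hcC150] at h1
    omega
  set K' : Subgroup G := K.map C.subtype with hK'
  have hcK' : Nat.card K' = 75 := by
    rw [hK', Subgroup.card_map_of_injective (Subgroup.subtype_injective C), hcK]
  have hmemK' : ∀ x : G, x ∈ C → x ^ 25 = 1 → x ∈ K' := by
    intro x hxC hx25
    have hodd : Odd (orderOf (⟨x, hxC⟩ : ↥C)) := by
      rw [Subgroup.orderOf_mk]
      have h1 : orderOf x ∣ 25 := orderOf_dvd_of_pow_eq_one hx25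
      have h2 : (25 : ℕ) = 5 ^ 2 := by norm_num
      rw [h2] at h1
      obtain ⟨j, -, hj⟩ := (Nat.dvd_prime_pow (by norm_num : Nat.Prime 5)).mp h1
      rw [hj]
      exact Odd.pow (by decide)
    exact ⟨⟨x, hxC⟩, mem_of_index_two_of_odd hK hodd, rfl⟩
  have hPK' : (P : Subgroup G) ≤ K' := by
    intro x hx
    apply hmemK' x (hPC hx)
    have := pow_card_eq_one' (G := ↥(P : Subgroup G)) (x := ⟨x, hx⟩)
    rw [hP25] at this
    exact congrArg Subtype.val this
  have hRK' : (R : Subgroup G) ≤ K' := by
    intro x hx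
    apply hmemK' x (hRC hx)
    have := pow_card_eq_one' (G := ↥(R : Subgroup G)) (x := ⟨x, hx⟩)
    rw [hR25] at this
    exact congrArg Subtype.val this
  obtain ⟨n, hn6, -, hndvd⟩ := succ_mul_card_sylow_le_card P R hPR K' hPK' hRK'
  rw [hP25, hcK'] at hndvd
  have := Nat.le_of_dvd (by norm_num) hndvd
  omega

end Cfsg.Agent.Lib.Helper17_SO_N4800
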