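import Mathlib
import Cfsg.Agent.Lib.Helper4_CayleySign
import Cfsg.Agent.Lib.Helper75_SM_Base

/-!
# Helper20_SO_N5400A: package S0983-N5400A (architect helper16)

The 5-local part for a hypothetical simple group of order `5400 = 2³·3³·5²`: `n₅ = 36`, and there
is an element `x` of order `5` with `|C(x)| = 300` and `N(⟨x⟩) = C(x)`.
-/

set_option autoImplicit false

namespace Cfsg.Agent.Lib.Helper20_SO_N5400A

open Subgroup Cfsg.Agent.Lib.Helper17_Sylow Cfsg.Agent.Lib.Helper75_SM_Base

/-- A finite group of order `2 m`, `m` odd, has a subgroup of index `2`. -/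
theorem exists_index_two_of_two_mul_odd {C : Type*} [Group C] [Finite C] (m : ℕ) (hm : Odd m)
    (hC : Nat.card C = 2 * m) : ∃ H : Subgroup C, H.index = 2 := by
  classical
  have := Fintype.ofFinite C
  have : Fact (Nat.Prime 2) := ⟨Nat.prime_two⟩
  have hdiv : 2 ∣ Fintype.card C := by
    rw [← Nat.card_eq_fintype_card, hC]
    exact dvd_mul_right 2 m
  obtain ⟨t, ht⟩ := exists_prime_orderOf_dvd_card 2 hdiv
  apply Cfsg.Agent.Lib.Helper4_CayleySign.exists_index_two t
  · rw [ht]; exact even_two
  · rw [ht, ← Nat.card_eq_fintype_card, hC, Nat.mul_div_cancel_left _ (by norm_num)]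
    exact hm

/-- If a subgroup `H` of index `2` has a unique Sylow `p`-subgroup (`p` odd), so does the group. -/
theorem card_sylow_eq_one_of_index_two {C : Type*} [Group C] [Finite C] (H : Subgroup C)
    (hH : H.index = 2) {p : ℕ} [hp : Fact p.Prime] (hp2 : p ≠ 2)
    (h1 : Nat.card (Sylow p H) = 1) : Nat.card (Sylow p C) = 1 := by
  have hn : H.Normal := Subgroup.normal_of_index_eq_two hH
  have hsub : Subsingleton (Sylow p H) := (Nat.card_eq_one_iff_unique.mp h1).1
  obtain ⟨Q⟩ : Nonempty (Sylow p H) := inferInstance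
  have hchar : (Q : Subgroup H).Characteristic := Sylow.characteristic_of_subsingleton Q
  have hNn : ((Q : Subgroup H).map H.subtype).Normal :=
    ConjAct.normal_of_characteristic_of_normal
  have hNp : IsPGroup p ((Q : Subgroup H).map H.subtype) := Q.2.map H.subtype
  have hcardN : Nat.card ((Q : Subgroup H).map H.subtype) = Nat.card (Q : Subgroup H) :=
    Subgroup.card_map_of_injective H.subtype_injective
  have hfac : (Nat.card C).factorization p = (Nat.card H).factorization p := by
    rw [← Subgroup.card_mul_index H, hH,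
      Nat.factorization_mul Nat.card_pos.ne' (by norm_num)]
    have : (Nat.factorization 2) p = 0 := by
      rw [Nat.Prime.factorization Nat.prime_two]
      simp [hp2.symm]
    simp [this]
  have hall : ∀ P : Sylow p C, (P : Subgroup C) = (Q : Subgroup H).map H.subtype := by
    intro P
    have hle : (Q : Subgroup H).map H.subtype ≤ P := IsPGroup.le_sylow_of_normal hNp P
    refine (Subgroup.eq_of_le_of_card_ge hle ?_).symm
    rw [hcardN, Sylow.card_eq_multiplicity, Sylow.card_eq_multiplicity, hfac]
  rw [Nat.card_eq_one_iff_unique]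
  refine ⟨⟨fun P R => ?_⟩, inferInstance⟩
  apply Sylow.ext
  rw [hall P, hall R]

/-- `C(⟨x⟩) = C(x)`. -/
theorem centralizer_zpowers_eq {G : Type*} [Group G] (x : G) :
    centralizer ((zpowers x : Subgroup G) : Set G) = centralizer ({x} : Set G) := by
  ext g
  rw [Subgroup.mem_centralizer_iff, Subgroup.mem_centralizer_iff]
  constructor
  · intro h y hy
    rw [Set.mem_singleton_iff] at hy
    rw [hy]
    exact h x (Subgroup.mem_zpowers x)
  · intro h y hy
    obtain ⟨k, rfl⟩ := Subgroup.mem_zpowers_iff.mp hy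
    have hc : Commute x g := h x (Set.mem_singleton x)
    exact (hc.zpow_left k).eq

/-- If `g x g⁻¹ ∈ ⟨x⟩` with `x` of finite order then `g` normalizes `⟨x⟩`. -/
theorem mem_normalizer_zpowers {G : Type*} [Group G] (x g : G) (hx : 0 < orderOf x)
    (hg : g * x * g⁻¹ ∈ zpowers x) : g ∈ normalizer ((zpowers x : Subgroup G) : Set G) := by
  have hfin : Finite (zpowers x) := by
    have h1 : Nat.card (zpowers x) ≠ 0 := by rw [Nat.card_zpowers]; omega
    exact Nat.finite_of_card_ne_zero h1
  have hle : zpowers (g * x * g⁻¹) ≤ zpowers x := (Subgroup.zpowers_le).mpr hg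
  have hcard : Nat.card (zpowers x) ≤ Nat.card (zpowers (g * x * g⁻¹)) := by
    rw [Nat.card_zpowers, Nat.card_zpowers, orderOf_conj']
  have heq := Subgroup.eq_of_le_of_card_ge hle hcard
  rw [Subgroup.mem_normalizer_iff]
  intro h
  constructor
  · intro hh
    obtain ⟨k, rfl⟩ := Subgroup.mem_zpowers_iff.mp hh
    change g * x ^ k * g⁻¹ ∈ zpowers x
    rw [← conj_zpow]
    exact (zpowers x).zpow_mem hg k
  · intro hh
    change g * h * g⁻¹ ∈ zpowers x at hh
    rw [← heq] at hh
    obtain ⟨k, hk⟩ := Subgroup.mem_zpowers_iff.mp hh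
    rw [conj_zpow] at hk
    have h2 : x ^ k = h := mul_left_cancel (mul_right_cancel hk)
    change h ∈ zpowers x
    rw [← h2]
    exact (zpowers x).zpow_mem (Subgroup.mem_zpowers x) k

theorem loc_5400 {G : Type*} [Group G] [Finite G] [IsSimpleGroup G] (hcard : Nat.card G = 5400) :
    Nat.card (Sylow 5 G) = 36 ∧
    ∃ x : G, orderOf x = 5 ∧ Nat.card (Subgroup.centralizer ({x} : Set G)) = 300 ∧
      ∀ g : G, g * x * g⁻¹ ∈ Subgroup.zpowers x → g * x * g⁻¹ = x := by
  have hnc : ¬ IsMulCommutative G :=
    not_isMulCommutative_of_not_prime (by rw [hcard]; norm_num)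
  have : Fact (Nat.Prime 5) := ⟨by norm_num⟩
  have hc : Nat.card G = 5 ^ 2 * 216 := by rw [hcard]; norm_num
  have hm : ¬ 5 ∣ 216 := by norm_num
  have hmem := card_sylow_mem_candidates hc hm
  have hcand : sylowCandidates 5 216 = [1, 6, 36, 216] := by decide
  rw [hcand] at hmem
  simp only [List.mem_cons, List.not_mem_nil, or_false] at hmem
  have hlt := one_lt_card_sylow_of_card hc hm (by norm_num) (by norm_num)
  have h36 : Nat.card (Sylow 5 G) = 36 := by
    rcases hmem with hd | hd | hd | hd
    · omega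
    · exact (fact_kill hnc 6 hd (by norm_num) (by rw [hcard]; decide)).elim
    · exact hd
    · exact (burn2_kill hc hm (by norm_num) hd).elim
  refine ⟨h36, ?_⟩
  -- two Sylow subgroups with intersection of order 5
  have hnm : ¬ Nat.card (Sylow 5 G) ≡ 1 [MOD 5 ^ 2] := by rw [h36]; decide
  obtain ⟨P⟩ : Nonempty (Sylow 5 G) := inferInstance
  obtain ⟨R, hRP, hle⟩ := exists_sylow_relIndex_le 5 2 hnm P
  have hP : Nat.card (P : Subgroup G) = 25 := by
    have := card_sylow_eq_pow hc hm P
    norm_num at this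
    exact this
  have hR : Nat.card (R : Subgroup G) = 25 := by
    have := card_sylow_eq_pow hc hm R
    norm_num at this
    exact this
  obtain ⟨D, hD⟩ : ∃ D : Subgroup G, D = (R : Subgroup G) ⊓ (P : Subgroup G) := ⟨_, rfl⟩
  have hDP : D ≤ P := by rw [hD]; exact inf_le_right
  have hDR : D ≤ R := by rw [hD]; exact inf_le_left
  have hrel : D.relIndex P = (R : Subgroup G).relIndex P := by
    rw [hD]; exact Subgroup.inf_relIndex_right _ _
  have h1 := card_mul_relIndex_of_le hDP
  rw [hrel, hP] at h1
  have hD25 : Nat.card D ≠ 25 := by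
    intro h
    have hDeqP : D = P := Subgroup.eq_of_le_of_card_ge hDP (by rw [h, hP])
    have hPR : (P : Subgroup G) ≤ R := by rw [← hDeqP]; exact hDR
    have : (P : Subgroup G) = R := Subgroup.eq_of_le_of_card_ge hPR (by rw [hP, hR])
    exact hRP (Sylow.ext this.symm)
  have hD5 : Nat.card D = 5 := by
    have hr : (R : Subgroup G).relIndex P ≤ 5 := by simpa using hle
    obtain ⟨r, hr'⟩ : ∃ r, (R : Subgroup G).relIndex P = r := ⟨_, rfl⟩
    rw [hr'] at h1 hr
    obtain ⟨n, hn⟩ : ∃ n, Nat.card D = n := ⟨_, rfl⟩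
    rw [hn] at h1 hD25 ⊢
    interval_cases r <;> omega
  have hDne : D ≠ ⊥ := by
    intro h
    rw [h, Subgroup.card_bot] at hD5
    omega
  obtain ⟨x, hxD, hx1⟩ : ∃ x ∈ D, x ≠ 1 := by
    by_contra hcon
    push Not at hcon
    exact hDne ((Subgroup.eq_bot_iff_forall D).mpr hcon)
  have hDfin : Finite D := Nat.finite_of_card_ne_zero (by rw [hD5]; norm_num)
  have hxo : orderOf x = 5 := by
    have h2 : orderOf x ∣ 5 := by
      rw [← hD5]
      exact Subgroup.orderOf_dvd_natCard D hxD
    rcases (Nat.dvd_prime (by norm_num : Nat.Prime 5)).mp h2 with h3 | h3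
    · exact absurd (orderOf_eq_one_iff.mp h3) hx1
    · exact h3
  refine ⟨x, hxo, ?_⟩
  have hZ : Nat.card (zpowers x) = 5 := by rw [Nat.card_zpowers, hxo]
  -- `P`, `R` are abelian and contain `x`
  have hPcomm := IsPGroup.commutative_of_card_eq_prime_sq (p := 5) (G := (P : Subgroup G)) hP
  have hRcomm := IsPGroup.commutative_of_card_eq_prime_sq (p := 5) (G := (R : Subgroup G)) hR
  have hPC : (P : Subgroup G) ≤ centralizer ({x} : Set G) := by
    intro y hy
    rw [Subgroup.mem_centralizer_iff]
    intro z hz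
    rw [Set.mem_singleton_iff] at hz
    rw [hz]
    exact congrArg Subtype.val (hPcomm ⟨x, hDP hxD⟩ ⟨y, hy⟩)
  have hRC : (R : Subgroup G) ≤ centralizer ({x} : Set G) := by
    intro y hy
    rw [Subgroup.mem_centralizer_iff]
    intro z hz
    rw [Set.mem_singleton_iff] at hz
    rw [hz]
    exact congrArg Subtype.val (hRcomm ⟨x, hDR hxD⟩ ⟨y, hy⟩)
  have hCN : centralizer ({x} : Set G) ≤ normalizer ((zpowers x : Subgroup G) : Set G) := by
    rw [← centralizer_zpowers_eq]
    exact centralizer_le_normalizer _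
  have hrelN : (centralizer ({x} : Set G)).relIndex
      (normalizer ((zpowers x : Subgroup G) : Set G)) ∣ 4 := by
    have := relIndex_centralizer_normalizer_dvd_pred (p := 5) (zpowers x) hZ
    rwa [centralizer_zpowers_eq] at this
  have hNtop : normalizer ((zpowers x : Subgroup G) : Set G) ≠ ⊤ := by
    intro h
    have hn : (zpowers x).Normal := Subgroup.normalizer_eq_top_iff.mp h
    rcases hn.eq_bot_or_eq_top with h2 | h2
    · rw [h2, Subgroup.card_bot] at hZ
      omega
    · rw [h2, Subgroup.card_top, hcard] at hZ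
      omega
  have hidx := index_gt_of_not_dvd_factorial _ hNtop 9 (by rw [hcard]; decide)
  have hNcard := Subgroup.card_mul_index (normalizer ((zpowers x : Subgroup G) : Set G))
  rw [hcard] at hNcard
  have hN540 : Nat.card (normalizer ((zpowers x : Subgroup G) : Set G)) ≤ 540 := by
    by_contra hcon
    push Not at hcon
    have : 541 * 10 ≤ Nat.card (normalizer ((zpowers x : Subgroup G) : Set G)) *
        (normalizer ((zpowers x : Subgroup G) : Set G)).index := Nat.mul_le_mul hcon hidx
    omega
  have hCrel := card_mul_relIndex_of_le hCN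
  obtain ⟨n, hn6, hnmod, hndvd⟩ := succ_mul_card_sylow_le_card P R (fun h => hRP h.symm)
    (centralizer ({x} : Set G)) hPC hRC
  rw [hP] at hndvd
  have hCdvd : Nat.card (centralizer ({x} : Set G)) ∣ 5400 := by
    rw [← hcard]
    exact Subgroup.card_subgroup_dvd_card _
  obtain ⟨cC, hcC⟩ : ∃ cC, Nat.card (centralizer ({x} : Set G)) = cC := ⟨_, rfl⟩
  obtain ⟨cN, hcN⟩ : ∃ cN, Nat.card (normalizer ((zpowers x : Subgroup G) : Set G)) = cN :=
    ⟨_, rfl⟩
  obtain ⟨r, hr⟩ : ∃ r, (centralizer ({x} : Set G)).relIndex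
      (normalizer ((zpowers x : Subgroup G) : Set G)) = r := ⟨_, rfl⟩
  rw [hcC] at hCdvd hndvd hCrel
  rw [hcN] at hCrel hN540 hNcard
  rw [hr] at hCrel hrelN
  have hcNpos : 0 < cN := by
    rcases Nat.eq_zero_or_pos cN with h | h
    · rw [h] at hNcard; omega
    · exact h
  have hrpos : 0 < r := by
    rcases Nat.eq_zero_or_pos r with h | h
    · rw [h] at hCrel; omega
    · exact h
  have hcCle : cC ≤ 540 := by
    have : cC * 1 ≤ cC * r := Nat.mul_le_mul_left _ hrpos
    omega
  have hcCpos : 0 < cC := by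
    rcases Nat.eq_zero_or_pos cC with h | h
    · rw [h] at hCrel; omega
    · exact h
  have hn5400 : n * 25 ∣ 5400 := dvd_trans hndvd hCdvd
  obtain ⟨k, hk⟩ := hndvd
  have hkpos : 0 < k := by
    rcases Nat.eq_zero_or_pos k with h | h
    · rw [h] at hk; omega
    · exact h
  have hn21 : n ≤ 21 := by
    by_contra hcon
    push Not at hcon
    have : 22 * 25 * 1 ≤ n * 25 * k :=
      Nat.mul_le_mul (Nat.mul_le_mul hcon (le_refl 25)) hkpos
    omega
  unfold Nat.ModEq at hnmod
  have hn6' : n = 6 := by
    interval_cases n <;> omega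
  rw [hn6'] at hk
  have hk3 : k ≤ 3 := by omega
  -- the cases `|C(x)| = 150, 450` are impossible
  have hbad : ∀ m : ℕ, Odd m → cC = 2 * m →
      sylowCandidates 5 (m / 25) = [1] → m = 5 ^ 2 * (m / 25) → ¬ 5 ∣ m / 25 → False := by
    intro m hmodd hcm hcand' hm25 hm5
    rw [← hcC] at hcm
    obtain ⟨H, hH⟩ := exists_index_two_of_two_mul_odd m hmodd hcm
    have hHcard : Nat.card H = m := by
      have := Subgroup.card_mul_index H
      rw [hH, hcm] at this
      omega
    have hmemH := card_sylow_mem_candidates (G := H) (hHcard.trans hm25) hm5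
    rw [hcand'] at hmemH
    simp only [List.mem_cons, List.not_mem_nil, or_false] at hmemH
    have h1C := card_sylow_eq_one_of_index_two H hH (p := 5) (by norm_num) hmemH
    have hsub : Subsingleton (Sylow 5 (centralizer ({x} : Set G))) :=
      (Nat.card_eq_one_iff_unique.mp h1C).1
    have := Subsingleton.elim (P.subtype hPC) (R.subtype hRC)
    exact hRP (Sylow.subtype_injective this).symm
  have hcC300 : cC = 300 := by
    interval_cases k
    · exfalso
      exact hbad 75 (by decide) (by omega) (by decide) (by norm_num) (by norm_num)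
    · omega
    · exfalso
      exact hbad 225 (by decide) (by omega) (by decide) (by norm_num) (by norm_num)
  refine ⟨hcC.trans hcC300, ?_⟩
  -- `N(⟨x⟩) = C(x)`
  have hr1 : r = 1 := by
    have hr4 : r ≤ 4 := Nat.le_of_dvd (by norm_num) hrelN
    rw [hcC300] at hCrel
    interval_cases r <;> omega
  rw [hr1] at hr
  have hNC := Subgroup.relIndex_eq_one.mp hr
  intro g hg
  have hgN := mem_normalizer_zpowers x g (by rw [hxo]; norm_num) hg
  have hgC := hNC hgN
  rw [Subgroup.mem_centralizer_iff] at hgC
  have h2 := hgC x (Set.mem_singleton x)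
  rw [← h2, mul_inv_cancel_right]

end Cfsg.Agent.Lib.Helper20_SO_N5400A
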