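import Mathlib

/-!
# S0983: the Klein-four arithmetic for the orders 3780, 4500, 5148 (helper53 for helper16)

Pure arithmetic: the numerical constraints delivered by `klein_data` (degrees `x₂ x₃ x₄` of the three
characters `ζ₂ ζ₃ ζ₄`, the sign `ε`, `cP = |C(T)|`, `cJ = |C(J)|`) are contradictory for these orders.
-/

set_option autoImplicit false

namespace Cfsg.Agent.Lib.Helper53_SO_KLArith

/-- From `cP ∣ cJ` and the order formula (in cleared form) extract `r = cJ / cP`. -/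
theorem exists_ratio {n : ℕ} {x2 x3 x4 : ℕ} {ε : ℤ} {cP cJ : ℕ} (hcP : 0 < cP) (hPJ : cP ∣ cJ)
    (hord : (n : ℤ) * (((x2 : ℤ) + 1) * ((x3 : ℤ) + ε) * ((x4 : ℤ) - 1)) * (cP : ℤ) ^ 2 =
      8 * ((x2 : ℤ) * (x3 : ℤ) * (x4 : ℤ)) * (cJ : ℤ) ^ 3) :
    ∃ r : ℕ, cJ = cP * r ∧
      (n : ℤ) * (((x2 : ℤ) + 1) * ((x3 : ℤ) + ε) * ((x4 : ℤ) - 1)) =
        8 * ((x2 : ℤ) * (x3 : ℤ) * (x4 : ℤ)) * ((cP : ℤ) * (r : ℤ) ^ 3) := by
  obtain ⟨r, rfl⟩ := hPJ
  refine ⟨r, rfl, ?_⟩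
  have hc : ((cP : ℤ)) ^ 2 ≠ 0 := by positivity
  apply mul_right_cancel₀ hc
  rw [hord]
  push_cast
  ring

/-- The possible degrees for the order `5148`. -/
theorem cand_5148 (x : ℕ) (h2 : 2 ≤ x) (hd : x ∣ 5148) (hsq : x ^ 2 ≤ 5148) (hodd : x % 2 = 1) :
    x = 3 ∨ x = 9 ∨ x = 11 ∨ x = 13 ∨ x = 33 ∨ x = 39 := by
  have hx : x ≤ 71 := by nlinarith
  interval_cases x <;> omega

/-- The possible degrees for the order `3780`. -/
theorem cand_3780 (x : ℕ) (h2 : 2 ≤ x) (hd : x ∣ 3780) (hsq : x ^ 2 ≤ 3780) (hodd : x % 2 = 1) :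
    x = 3 ∨ x = 5 ∨ x = 7 ∨ x = 9 ∨ x = 15 ∨ x = 21 ∨ x = 27 ∨ x = 35 ∨ x = 45 := by
  have hx : x ≤ 61 := by nlinarith
  interval_cases x <;> omega

/-- The possible degrees for the order `4500`. -/
theorem cand_4500 (x : ℕ) (h2 : 2 ≤ x) (hd : x ∣ 4500) (hsq : x ^ 2 ≤ 4500) (hodd : x % 2 = 1) :
    x = 3 ∨ x = 5 ∨ x = 9 ∨ x = 15 ∨ x = 25 ∨ x = 45 := by
  have hx : x ≤ 67 := by nlinarith
  interval_cases x <;> omega

/-- `cP r³ = K < 864` with `4 ∣ cP` forces `r ≤ 5`. -/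
theorem r_le {K cP r : ℕ} (hK : cP * r ^ 3 = K) (hK0 : 0 < K) (hKlt : K < 864) (h4 : 4 ∣ cP) :
    r ≤ 5 := by
  by_contra h
  push Not at h
  have h6 : 6 ^ 3 ≤ r ^ 3 := Nat.pow_le_pow_left h 3
  rcases Nat.eq_zero_or_pos cP with h0 | h0
  · subst h0
    omega
  · have h4' : 4 ≤ cP := Nat.le_of_dvd h0 h4
    nlinarith

/-- The Klein-four constraints are contradictory for the order `5148`. -/
theorem arith_5148 (x2 x3 x4 : ℕ) (ε : ℤ) (cP cJ : ℕ) (hε : ε = 1 ∨ ε = -1)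
    (h2 : 2 ≤ x2) (h3 : 2 ≤ x3) (h4 : 2 ≤ x4)
    (d2 : x2 ∣ 5148) (d3 : x3 ∣ 5148) (d4 : x4 ∣ 5148)
    (m2 : (4 : ℤ) ∣ (x2 : ℤ) - 1) (m3 : (4 : ℤ) ∣ (x3 : ℤ) - ε) (m4 : (4 : ℤ) ∣ (x4 : ℤ) + 1)
    (hrel : 1 + (x2 : ℤ) + ε * (x3 : ℤ) - (x4 : ℤ) = 0)
    (hsq : 1 + x2 ^ 2 + x3 ^ 2 + x4 ^ 2 ≤ 5148)
    (hcP4 : 4 ∣ cP) (hPJ : cP ∣ cJ) (hJ : cJ ∣ 5148) (h3P : 3 * cP ∣ 5148)
    (hfact : 2 * 5148 ∣ (5148 / (3 * cP)).factorial)
    (hord : ((5148 : ℕ) : ℤ) * (((x2 : ℤ) + 1) * ((x3 : ℤ) + ε) * ((x4 : ℤ) - 1)) * (cP : ℤ) ^ 2 =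
      8 * ((x2 : ℤ) * (x3 : ℤ) * (x4 : ℤ)) * (cJ : ℤ) ^ 3) : False := by
  have o2 : x2 % 2 = 1 := by omega
  have o3 : x3 % 2 = 1 := by rcases hε with rfl | rfl <;> omega
  have o4 : x4 % 2 = 1 := by omega
  have c2 := cand_5148 x2 h2 d2 (by omega) o2
  have c3 := cand_5148 x3 h3 d3 (by omega) o3
  have c4 := cand_5148 x4 h4 d4 (by omega) o4
  have hcP : 0 < cP := by
    rcases Nat.eq_zero_or_pos cP with h | h
    · subst h
      rw [zero_dvd_iff] at hPJ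
      subst hPJ
      simp at hJ
    · exact h
  obtain ⟨r, rfl, hord'⟩ := exists_ratio hcP hPJ hord
  clear hord
  have key : (x2 = 13 ∧ x3 = 3 ∧ x4 = 11 ∧ ε = -1) ∨
      (x2 = 13 ∧ x3 = 11 ∧ x4 = 3 ∧ ε = -1) := by
    clear hord' hfact hJ h3P hcP4 hcP d2 d3 d4 o2 o3 o4 h2 h3 h4
    rcases c2 with rfl | rfl | rfl | rfl | rfl | rfl <;> (try (exfalso; omega)) <;>
    rcases c4 with rfl | rfl | rfl | rfl | rfl | rfl <;> (try (exfalso; omega)) <;>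
    rcases hε with rfl | rfl <;>
    rcases c3 with rfl | rfl | rfl | rfl | rfl | rfl <;>
      first | (exfalso; omega) | norm_num
  rcases key with ⟨rfl, rfl, rfl, rfl⟩ | ⟨rfl, rfl, rfl, rfl⟩
  · have hK : cP * r ^ 3 = 420 := by
      zify
      norm_num at hord'
      linarith
    have hr : r ≤ 5 := r_le hK (by norm_num) (by norm_num) hcP4
    have hr1 : r = 1 := by interval_cases r <;> omega
    subst hr1
    obtain rfl : cP = 420 := by omega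
    norm_num at h3P
  · have hK : cP * r ^ 3 = 420 := by
      zify
      norm_num at hord'
      linarith
    have hr : r ≤ 5 := r_le hK (by norm_num) (by norm_num) hcP4
    have hr1 : r = 1 := by interval_cases r <;> omega
    subst hr1
    obtain rfl : cP = 420 := by omega
    norm_num at h3P

/-- The Klein-four constraints are contradictory for the order `4500`. -/
theorem arith_4500 (x2 x3 x4 : ℕ) (ε : ℤ) (cP cJ : ℕ) (hε : ε = 1 ∨ ε = -1)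
    (h2 : 2 ≤ x2) (h3 : 2 ≤ x3) (h4 : 2 ≤ x4)
    (d2 : x2 ∣ 4500) (d3 : x3 ∣ 4500) (d4 : x4 ∣ 4500)
    (m2 : (4 : ℤ) ∣ (x2 : ℤ) - 1) (m3 : (4 : ℤ) ∣ (x3 : ℤ) - ε) (m4 : (4 : ℤ) ∣ (x4 : ℤ) + 1)
    (hrel : 1 + (x2 : ℤ) + ε * (x3 : ℤ) - (x4 : ℤ) = 0)
    (hsq : 1 + x2 ^ 2 + x3 ^ 2 + x4 ^ 2 ≤ 4500)
    (hcP4 : 4 ∣ cP) (hPJ : cP ∣ cJ) (hJ : cJ ∣ 4500) (h3P : 3 * cP ∣ 4500)
    (hfact : 2 * 4500 ∣ (4500 / (3 * cP)).factorial)
    (hord : ((4500 : ℕ) : ℤ) * (((x2 : ℤ) + 1) * ((x3 : ℤ) + ε) * ((x4 : ℤ) - 1)) * (cP : ℤ) ^ 2 =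
      8 * ((x2 : ℤ) * (x3 : ℤ) * (x4 : ℤ)) * (cJ : ℤ) ^ 3) : False := by
  have o2 : x2 % 2 = 1 := by omega
  have o3 : x3 % 2 = 1 := by rcases hε with rfl | rfl <;> omega
  have o4 : x4 % 2 = 1 := by omega
  have c2 := cand_4500 x2 h2 d2 (by omega) o2
  have c3 := cand_4500 x3 h3 d3 (by omega) o3
  have c4 := cand_4500 x4 h4 d4 (by omega) o4
  have hcP : 0 < cP := by
    rcases Nat.eq_zero_or_pos cP with h | h
    · subst h
      rw [zero_dvd_iff] at hPJ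
      subst hPJ
      simp at hJ
    · exact h
  obtain ⟨r, rfl, hord'⟩ := exists_ratio hcP hPJ hord
  clear hord
  have key : (x2 = 5 ∧ x3 = 9 ∧ x4 = 15 ∧ ε = 1) ∨
      (x2 = 9 ∧ x3 = 5 ∧ x4 = 15 ∧ ε = 1) ∨
      (x2 = 5 ∧ x3 = 3 ∧ x4 = 3 ∧ ε = -1) := by
    clear hord' hfact hJ h3P hcP4 hcP d2 d3 d4 o2 o3 o4 h2 h3 h4
    rcases c2 with rfl | rfl | rfl | rfl | rfl | rfl <;> (try (exfalso; omega)) <;>
    rcases c4 with rfl | rfl | rfl | rfl | rfl | rfl <;> (try (exfalso; omega)) <;>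
    rcases hε with rfl | rfl <;>
    rcases c3 with rfl | rfl | rfl | rfl | rfl | rfl <;>
      first | (exfalso; omega) | norm_num
  rcases key with ⟨rfl, rfl, rfl, rfl⟩ | ⟨rfl, rfl, rfl, rfl⟩ | ⟨rfl, rfl, rfl, rfl⟩
  · have hK : cP * r ^ 3 = 700 := by
      zify
      norm_num at hord'
      linarith
    have hr : r ≤ 5 := r_le hK (by norm_num) (by norm_num) hcP4
    have hr1 : r = 1 := by interval_cases r <;> omega
    subst hr1
    obtain rfl : cP = 700 := by omega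
    norm_num at h3P
  · have hK : cP * r ^ 3 = 700 := by
      zify
      norm_num at hord'
      linarith
    have hr : r ≤ 5 := r_le hK (by norm_num) (by norm_num) hcP4
    have hr1 : r = 1 := by interval_cases r <;> omega
    subst hr1
    obtain rfl : cP = 700 := by omega
    norm_num at h3P
  · have hK : cP * r ^ 3 = 300 := by
      zify
      norm_num at hord'
      linarith
    have hr : r ≤ 5 := r_le hK (by norm_num) (by norm_num) hcP4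
    have hr1 : r = 1 := by interval_cases r <;> omega
    subst hr1
    obtain rfl : cP = 300 := by omega
    norm_num [Nat.factorial] at hfact

/-- The Klein-four constraints are contradictory for the order `3780`. -/
theorem arith_3780 (x2 x3 x4 : ℕ) (ε : ℤ) (cP cJ : ℕ) (hε : ε = 1 ∨ ε = -1)
    (h2 : 2 ≤ x2) (h3 : 2 ≤ x3) (h4 : 2 ≤ x4)
    (d2 : x2 ∣ 3780) (d3 : x3 ∣ 3780) (d4 : x4 ∣ 3780)
    (m2 : (4 : ℤ) ∣ (x2 : ℤ) - 1) (m3 : (4 : ℤ) ∣ (x3 : ℤ) - ε) (m4 : (4 : ℤ) ∣ (x4 : ℤ) + 1)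
    (hrel : 1 + (x2 : ℤ) + ε * (x3 : ℤ) - (x4 : ℤ) = 0)
    (hsq : 1 + x2 ^ 2 + x3 ^ 2 + x4 ^ 2 ≤ 3780)
    (hcP4 : 4 ∣ cP) (hPJ : cP ∣ cJ) (hJ : cJ ∣ 3780) (h3P : 3 * cP ∣ 3780)
    (hfact : 2 * 3780 ∣ (3780 / (3 * cP)).factorial)
    (hord : ((3780 : ℕ) : ℤ) * (((x2 : ℤ) + 1) * ((x3 : ℤ) + ε) * ((x4 : ℤ) - 1)) * (cP : ℤ) ^ 2 =
      8 * ((x2 : ℤ) * (x3 : ℤ) * (x4 : ℤ)) * (cJ : ℤ) ^ 3) : False := by
  have o2 : x2 % 2 = 1 := by omega
  have o3 : x3 % 2 = 1 := by rcases hε with rfl | rfl <;> omega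
  have o4 : x4 % 2 = 1 := by omega
  have c2 := cand_3780 x2 h2 d2 (by omega) o2
  have c3 := cand_3780 x3 h3 d3 (by omega) o3
  have c4 := cand_3780 x4 h4 d4 (by omega) o4
  have hcP : 0 < cP := by
    rcases Nat.eq_zero_or_pos cP with h | h
    · subst h
      rw [zero_dvd_iff] at hPJ
      subst hPJ
      simp at hJ
    · exact h
  obtain ⟨r, rfl, hord'⟩ := exists_ratio hcP hPJ hord
  clear hord
  have key : (x2 = 5 ∧ x3 = 9 ∧ x4 = 15 ∧ ε = 1) ∨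
      (x2 = 5 ∧ x3 = 21 ∧ x4 = 27 ∧ ε = 1) ∨
      (x2 = 9 ∧ x3 = 5 ∧ x4 = 15 ∧ ε = 1) ∨
      (x2 = 21 ∧ x3 = 5 ∧ x4 = 27 ∧ ε = 1) ∨
      (x2 = 5 ∧ x3 = 3 ∧ x4 = 3 ∧ ε = -1) ∨
      (x2 = 9 ∧ x3 = 3 ∧ x4 = 7 ∧ ε = -1) ∨
      (x2 = 9 ∧ x3 = 7 ∧ x4 = 3 ∧ ε = -1) ∨
      (x2 = 21 ∧ x3 = 7 ∧ x4 = 15 ∧ ε = -1) ∨
      (x2 = 21 ∧ x3 = 15 ∧ x4 = 7 ∧ ε = -1) := by
    clear hord' hfact hJ h3P hcP4 hcP d2 d3 d4 o2 o3 o4 h2 h3 h4
    rcases c2 with rfl | rfl | rfl | rfl | rfl | rfl | rfl | rfl | rfl <;> (try (exfalso; omega)) <;>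
    rcases c4 with rfl | rfl | rfl | rfl | rfl | rfl | rfl | rfl | rfl <;> (try (exfalso; omega)) <;>
    rcases hε with rfl | rfl <;>
    rcases c3 with rfl | rfl | rfl | rfl | rfl | rfl | rfl | rfl | rfl <;>
      first | (exfalso; omega) | norm_num
  rcases key with ⟨rfl, rfl, rfl, rfl⟩ | ⟨rfl, rfl, rfl, rfl⟩ | ⟨rfl, rfl, rfl, rfl⟩ | ⟨rfl, rfl, rfl, rfl⟩ | ⟨rfl, rfl, rfl, rfl⟩ | ⟨rfl, rfl, rfl, rfl⟩ | ⟨rfl, rfl, rfl, rfl⟩ | ⟨rfl, rfl, rfl, rfl⟩ | ⟨rfl, rfl, rfl, rfl⟩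
  · have hK : cP * r ^ 3 = 588 := by
      zify
      norm_num at hord'
      linarith
    have hr : r ≤ 5 := r_le hK (by norm_num) (by norm_num) hcP4
    have hr1 : r = 1 := by interval_cases r <;> omega
    subst hr1
    obtain rfl : cP = 588 := by omega
    norm_num at h3P
  · have hK : cP * r ^ 3 = 572 := by
      zify
      norm_num at hord'
      linarith
    have hr : r ≤ 5 := r_le hK (by norm_num) (by norm_num) hcP4
    have hr1 : r = 1 := by interval_cases r <;> omega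
    subst hr1
    obtain rfl : cP = 572 := by omega
    norm_num at h3P
  · have hK : cP * r ^ 3 = 588 := by
      zify
      norm_num at hord'
      linarith
    have hr : r ≤ 5 := r_le hK (by norm_num) (by norm_num) hcP4
    have hr1 : r = 1 := by interval_cases r <;> omega
    subst hr1
    obtain rfl : cP = 588 := by omega
    norm_num at h3P
  · have hK : cP * r ^ 3 = 572 := by
      zify
      norm_num at hord'
      linarith
    have hr : r ≤ 5 := r_le hK (by norm_num) (by norm_num) hcP4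
    have hr1 : r = 1 := by interval_cases r <;> omega
    subst hr1
    obtain rfl : cP = 572 := by omega
    norm_num at h3P
  · have hK : cP * r ^ 3 = 252 := by
      zify
      norm_num at hord'
      linarith
    have hr : r ≤ 5 := r_le hK (by norm_num) (by norm_num) hcP4
    have hr1 : r = 1 := by interval_cases r <;> omega
    subst hr1
    obtain rfl : cP = 252 := by omega
    norm_num [Nat.factorial] at hfact
  · have hK : cP * r ^ 3 = 300 := by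
      zify
      norm_num at hord'
      linarith
    have hr : r ≤ 5 := r_le hK (by norm_num) (by norm_num) hcP4
    have hr1 : r = 1 := by interval_cases r <;> omega
    subst hr1
    obtain rfl : cP = 300 := by omega
    norm_num at h3P
  · have hK : cP * r ^ 3 = 300 := by
      zify
      norm_num at hord'
      linarith
    have hr : r ≤ 5 := r_le hK (by norm_num) (by norm_num) hcP4
    have hr1 : r = 1 := by interval_cases r <;> omega
    subst hr1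
    obtain rfl : cP = 300 := by omega
    norm_num at h3P
  · have hK : cP * r ^ 3 = 396 := by
      zify
      norm_num at hord'
      linarith
    have hr : r ≤ 5 := r_le hK (by norm_num) (by norm_num) hcP4
    have hr1 : r = 1 := by interval_cases r <;> omega
    subst hr1
    obtain rfl : cP = 396 := by omega
    norm_num at h3P
  · have hK : cP * r ^ 3 = 396 := by
      zify
      norm_num at hord'
      linarith
    have hr : r ≤ 5 := r_le hK (by norm_num) (by norm_num) hcP4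
    have hr1 : r = 1 := by interval_cases r <;> omega
    subst hr1
    obtain rfl : cP = 396 := by omega
    norm_num at h3P

end Cfsg.Agent.Lib.Helper53_SO_KLArith
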