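/-
  S0983 market (architect helper16), TOOL package KLEIN: the Klein-four principal 2-block data of a
  non-abelian simple group of order `4 * odd` (S0992 + S0948 + S4479), in integer form.
-/
import Mathlib
import Cfsg.Prelude.Def_Blocks
import Cfsg.Agent.Lib.Helper80_CharBasic
import Cfsg.Agent.Lib.Helper16_SO_Brauer
import Cfsg.Agent.Lib.Helper10_SO_INVCONJ
import Cfsg.Agent.Lib.Helper17_Sylow
import Cfsg.Agent.Lib.Helper74_CharTools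
import Cfsg.Agent.Lib.Helper77_BlockBasics
import Cfsg.Agent.S0165
import Cfsg.Agent.S0948
import Cfsg.Agent.S0992
import Cfsg.Agent.S4479

set_option autoImplicit false
open Cfsg Cfsg.Agent.Lib.Helper80_CharBasic

namespace Cfsg.Agent.Lib.Helper78_SO_KLEIN

/-- the coercion of the principal character. -/
theorem coe_oneIrr {G : Type*} [Group G] : ((oneIrr G : Cfsg.IrrCharacter G) : G → ℂ) = fun _ => 1 :=
  rfl

theorem ne_oneIrr_of_coe_ne {G : Type*} [Group G] {ζ : Cfsg.IrrCharacter G}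
    (h : (ζ : G → ℂ) ≠ fun _ => 1) : ζ ≠ oneIrr G := by
  rintro rfl
  exact h rfl

/-- four pairwise distinct irreducible characters: the sum of the squares of the degrees. -/
theorem four_sq_le {G : Type*} [Group G] [Finite G] (χ₁ χ₂ χ₃ χ₄ : Cfsg.IrrCharacter G)
    (h12 : χ₁ ≠ χ₂) (h13 : χ₁ ≠ χ₃) (h14 : χ₁ ≠ χ₄) (h23 : χ₂ ≠ χ₃) (h24 : χ₂ ≠ χ₄)
    (h34 : χ₃ ≠ χ₄) :
    Cfsg.charDegree (χ₁ : G → ℂ) ^ 2 + Cfsg.charDegree (χ₂ : G → ℂ) ^ 2 +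
      Cfsg.charDegree (χ₃ : G → ℂ) ^ 2 + Cfsg.charDegree (χ₄ : G → ℂ) ^ 2 ≤ Nat.card G := by
  classical
  let _ : Fintype (Cfsg.IrrCharacter G) := Fintype.ofFinite _
  rw [← Cfsg.Agent.Lib.Helper74_CharTools.sum_sq_charDegree (G := G)]
  have hsub : ({χ₁, χ₂, χ₃, χ₄} : Finset (Cfsg.IrrCharacter G)) ⊆ Finset.univ :=
    Finset.subset_univ _
  have hsum : ∑ χ ∈ ({χ₁, χ₂, χ₃, χ₄} : Finset (Cfsg.IrrCharacter G)),
      Cfsg.charDegree (χ : G → ℂ) ^ 2 =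
      Cfsg.charDegree (χ₁ : G → ℂ) ^ 2 + Cfsg.charDegree (χ₂ : G → ℂ) ^ 2 +
      Cfsg.charDegree (χ₃ : G → ℂ) ^ 2 + Cfsg.charDegree (χ₄ : G → ℂ) ^ 2 := by
    rw [Finset.sum_insert, Finset.sum_insert, Finset.sum_insert, Finset.sum_singleton]
    · ring
    · simpa using h34
    · simp [h23, h24]
    · simp [h12, h13, h14]
  rw [← hsum]
  exact Finset.sum_le_sum_of_subset hsub

theorem klein_data {G : Type*} [Group G] [Finite G] [IsSimpleGroup G]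
    (hG : ¬ IsMulCommutative G) (g₀ : ℕ) (hg₀ : Odd g₀) (hcard : Nat.card G = 4 * g₀) :
    ∃ (ζ₂ ζ₃ ζ₄ : Cfsg.IrrCharacter G) (ε : ℤ) (cP cJ : ℕ), (ε = 1 ∨ ε = -1) ∧
      ζ₂ ≠ oneIrr G ∧ ζ₃ ≠ oneIrr G ∧ ζ₄ ≠ oneIrr G ∧ ζ₂ ≠ ζ₃ ∧ ζ₂ ≠ ζ₄ ∧ ζ₃ ≠ ζ₄ ∧
      (4 : ℤ) ∣ (Cfsg.charDegree (ζ₂ : G → ℂ) : ℤ) - 1 ∧
      (4 : ℤ) ∣ (Cfsg.charDegree (ζ₃ : G → ℂ) : ℤ) - ε ∧
      (4 : ℤ) ∣ (Cfsg.charDegree (ζ₄ : G → ℂ) : ℤ) + 1 ∧
      1 + (Cfsg.charDegree (ζ₂ : G → ℂ) : ℤ) + ε * (Cfsg.charDegree (ζ₃ : G → ℂ) : ℤ) -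
        (Cfsg.charDegree (ζ₄ : G → ℂ) : ℤ) = 0 ∧
      1 + Cfsg.charDegree (ζ₂ : G → ℂ) ^ 2 + Cfsg.charDegree (ζ₃ : G → ℂ) ^ 2 +
        Cfsg.charDegree (ζ₄ : G → ℂ) ^ 2 ≤ Nat.card G ∧
      4 ∣ cP ∧ cP ∣ cJ ∧ cJ ∣ Nat.card G ∧ 3 * cP ∣ Nat.card G ∧
      2 * Nat.card G ∣ (Nat.card G / (3 * cP)).factorial ∧
      (Nat.card G : ℤ) * (((Cfsg.charDegree (ζ₂ : G → ℂ) : ℤ) + 1) *
          ((Cfsg.charDegree (ζ₃ : G → ℂ) : ℤ) + ε) *
          ((Cfsg.charDegree (ζ₄ : G → ℂ) : ℤ) - 1)) * (cP : ℤ) ^ 2 =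
        8 * ((Cfsg.charDegree (ζ₂ : G → ℂ) : ℤ) * (Cfsg.charDegree (ζ₃ : G → ℂ) : ℤ) *
          (Cfsg.charDegree (ζ₄ : G → ℂ) : ℤ)) * (cJ : ℤ) ^ 3 := by
  classical
  have hna : ¬ ∀ a b : G, a * b = b * a := fun h => hG ⟨⟨h⟩⟩
  obtain ⟨k₀, hk₀⟩ := hg₀
  have h2 : Even (Nat.card G) := by
    rw [hcard]
    exact ⟨2 * g₀, by ring⟩
  have h8 : ¬ 8 ∣ Nat.card G := by
    rw [hcard]
    rintro ⟨c, hc⟩
    omega
  -- `|G| ≠ 4`
  have hne4 : Nat.card G ≠ 4 := by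
    intro h4
    have : Fact (Nat.Prime 2) := ⟨Nat.prime_two⟩
    exact hG (IsPGroup.isMulCommutative_of_card_eq_prime_sq (p := 2) (by rw [h4]; norm_num))
  have hnc : ¬ ∃ N : Subgroup G, N.Normal ∧ Nat.card N = g₀ := by
    rintro ⟨N, hN, hNc⟩
    rcases hN.eq_bot_or_eq_top with h | h
    · rw [h, Subgroup.card_bot] at hNc
      apply hne4
      rw [hcard, ← hNc]
    · rw [h, Subgroup.card_top, hcard] at hNc
      omega
  -- the Sylow 2-subgroup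
  obtain ⟨T⟩ : Nonempty (Sylow 2 G) := inferInstance
  obtain ⟨hK, h3⟩ := Cfsg.Agent.S0992.result hG h2 h8 T
  have hT4 : Nat.card (T : Subgroup G) = 4 := hK.card_four
  have hone : ∀ s t : G, orderOf s = 2 → orderOf t = 2 → IsConj s t := fun s t hs ht =>
    Cfsg.Agent.Lib.Helper10_SO_INVCONJ.involutions_conj_of_not_eight_dvd hG h8 s t hs ht
  obtain ⟨J, hJT, hJ⟩ : ∃ J : G, J ∈ (T : Subgroup G) ∧ orderOf J = 2 := by
    have : Fact (Nat.Prime 2) := ⟨Nat.prime_two⟩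
    obtain ⟨x, hx⟩ := exists_prime_orderOf_dvd_card' (G := (T : Subgroup G)) 2
      (by rw [hT4]; norm_num)
    exact ⟨(x : G), x.2, by rw [Subgroup.orderOf_coe]; exact hx⟩
  -- the principal block
  obtain ⟨M, hM⟩ := Cfsg.Agent.S0165.exists_isPModular 2 Nat.prime_two
  obtain ⟨ζ₂, ζ₃, ζ₄, ε, hε, h21, h31, h23, h24, h34, hB, hinv, hd2, hd3, hd4, hrel⟩ :=
    Cfsg.Agent.S0948.result M hM T hK hone
  obtain ⟨hz2, hz3, hz4⟩ := hinv J hJ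
  have h41 : (ζ₄ : G → ℂ) ≠ fun _ => 1 := by
    intro h
    have := congrFun h J
    rw [hz4] at this
    norm_num at this
  have hform := Cfsg.Agent.S4479.result M hM g₀ ⟨k₀, hk₀⟩ hcard hnc T J hJT hJ ζ₂ ζ₃ ζ₄ 1 ε (-1) hB
    ⟨h21, h31, h41, h23, h24, h34⟩ ⟨Or.inl rfl, hε, Or.inr rfl⟩
    ⟨by rw [hz2]; norm_num, hz3, by rw [hz4]; norm_num⟩
  have h21' := ne_oneIrr_of_coe_ne h21
  have h31' := ne_oneIrr_of_coe_ne h31
  have h41' := ne_oneIrr_of_coe_ne h41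
  -- the degrees
  obtain ⟨d₂, hd₂⟩ : ∃ d : ℕ, d = charDegree (ζ₂ : G → ℂ) := ⟨_, rfl⟩
  obtain ⟨d₃, hd₃⟩ : ∃ d : ℕ, d = charDegree (ζ₃ : G → ℂ) := ⟨_, rfl⟩
  obtain ⟨d₄, hd₄⟩ : ∃ d : ℕ, d = charDegree (ζ₄ : G → ℂ) := ⟨_, rfl⟩
  have hdeg1 : ∀ ζ : Cfsg.IrrCharacter G, ζ ≠ oneIrr G → 1 < charDegree (ζ : G → ℂ) := by
    intro ζ hζ
    have hpos := Cfsg.Agent.Lib.Helper77_BlockBasics.charDegree_pos ζ
    have hne : charDegree (ζ : G → ℂ) ≠ 1 := fun h =>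
      hζ (Cfsg.Agent.Lib.Helper74_CharTools.eq_oneIrr_of_degree_one hna ζ h)
    omega
  have hd₂1 : 1 < d₂ := by rw [hd₂]; exact hdeg1 ζ₂ h21'
  have hd₃1 : 1 < d₃ := by rw [hd₃]; exact hdeg1 ζ₃ h31'
  have hd₄1 : 1 < d₄ := by rw [hd₄]; exact hdeg1 ζ₄ h41'
  rw [← hd₂] at hd2
  rw [← hd₃] at hd3
  rw [← hd₄] at hd4
  rw [← hd₂, ← hd₃, ← hd₄] at hform
  -- the relation between the degrees
  have hsum : 1 + (d₂ : ℤ) + ε * d₃ - d₄ = 0 := by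
    have h1 := hrel 1 (by rw [orderOf_one]; exact odd_one)
    rw [Cfsg.Agent.Lib.Helper77_BlockBasics.apply_one_eq_charDegree ζ₂,
      Cfsg.Agent.Lib.Helper77_BlockBasics.apply_one_eq_charDegree ζ₃,
      Cfsg.Agent.Lib.Helper77_BlockBasics.apply_one_eq_charDegree ζ₄,
      ← hd₂, ← hd₃, ← hd₄] at h1
    have h2 : (((1 + (d₂ : ℤ) + ε * d₃ - d₄ : ℤ)) : ℂ) = ((0 : ℤ) : ℂ) := by
      push_cast
      linear_combination h1
    exact_mod_cast h2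
  -- sum of squares
  have hsq : 1 + d₂ ^ 2 + d₃ ^ 2 + d₄ ^ 2 ≤ Nat.card G := by
    have := four_sq_le (oneIrr G) ζ₂ ζ₃ ζ₄ (Ne.symm h21') (Ne.symm h31') (Ne.symm h41') h23 h24 h34
    rw [Cfsg.Agent.Lib.Helper16_SO_Brauer.charDegree_oneIrr G, ← hd₂, ← hd₃, ← hd₄] at this
    simpa using this
  -- the centralizers
  set cJ := Nat.card (Subgroup.centralizer ({J} : Set G)) with hcJ
  set cP := Nat.card (Subgroup.centralizer ((T : Subgroup G) : Set G)) with hcP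
  have hcPpos : 0 < cP := Nat.card_pos
  have hTab : ∀ a ∈ (T : Subgroup G), ∀ b ∈ (T : Subgroup G), a * b = b * a := by
    intro a ha b hb
    have := mul_comm_of_exponent_two hK.exponent_two (⟨a, ha⟩ : (T : Subgroup G)) ⟨b, hb⟩
    exact congrArg Subtype.val this
  have h4cP : 4 ∣ cP := by
    have hle : (T : Subgroup G) ≤ Subgroup.centralizer ((T : Subgroup G) : Set G) := by
      intro x hx
      rw [Subgroup.mem_centralizer_iff]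
      intro y hy
      exact hTab y hy x hx
    have := Subgroup.card_dvd_of_le hle
    rwa [hT4] at this
  have hcPJ : cP ∣ cJ := by
    apply Subgroup.card_dvd_of_le
    apply Subgroup.centralizer_le
    intro y hy
    rw [Set.mem_singleton_iff] at hy
    rw [hy]
    exact hJT
  have hcJN : cJ ∣ Nat.card G := Subgroup.card_subgroup_dvd_card _
  have hNcard : Nat.card (Subgroup.normalizer ((T : Subgroup G) : Set G)) = 3 * cP := by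
    have hle : Subgroup.centralizer ((T : Subgroup G) : Set G) ≤
        Subgroup.normalizer ((T : Subgroup G) : Set G) := Subgroup.centralizer_le_normalizer _
    have := Cfsg.Agent.Lib.Helper17_Sylow.card_mul_relIndex_of_le hle
    rw [h3] at this
    rw [← this, mul_comm]
  have h3cP : 3 * cP ∣ Nat.card G := by
    rw [← hNcard]
    exact Subgroup.card_subgroup_dvd_card _
  have hNtop : Subgroup.normalizer ((T : Subgroup G) : Set G) ≠ ⊤ := by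
    intro htop
    have hnorm : (T : Subgroup G).Normal := Subgroup.normalizer_eq_top_iff.mp htop
    rcases hnorm.eq_bot_or_eq_top with h | h
    · rw [h, Subgroup.card_bot] at hT4
      norm_num at hT4
    · rw [h, Subgroup.card_top] at hT4
      exact hne4 hT4
  have hfact : 2 * Nat.card G ∣ (Nat.card G / (3 * cP)).factorial := by
    have h := Cfsg.Agent.Lib.Helper17_Sylow.two_mul_card_dvd_factorial_index hG _ hNtop
    have hidx : (Subgroup.normalizer ((T : Subgroup G) : Set G)).index =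
        Nat.card G / (3 * cP) := by
      have h1 := Subgroup.card_mul_index (Subgroup.normalizer ((T : Subgroup G) : Set G))
      rw [hNcard] at h1
      rw [← h1, Nat.mul_div_cancel_left _ (by omega)]
    rwa [hidx] at h
  -- the order formula, in integers
  have hw₂ : (0 : ℤ) < (d₂ : ℤ) + 1 := by positivity
  have hw₃ : (0 : ℤ) < (d₃ : ℤ) + ε := by
    rcases hε with h | h <;> rw [h] <;> omega
  have hw₄ : (0 : ℤ) < (d₄ : ℤ) + -1 := by omega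
  have hformZ : (Nat.card G : ℤ) * (((d₂ : ℤ) + 1) * ((d₃ : ℤ) + ε) * ((d₄ : ℤ) - 1)) *
      (cP : ℤ) ^ 2 = 8 * ((d₂ : ℤ) * d₃ * d₄) * (cJ : ℤ) ^ 3 := by
    have e2 : ((d₂ : ℚ) + ((1 : ℤ) : ℚ)) ≠ 0 := by
      have : ((((d₂ : ℤ) + 1 : ℤ)) : ℚ) ≠ 0 := by exact_mod_cast hw₂.ne'
      push_cast at this ⊢
      exact this
    have e3 : ((d₃ : ℚ) + (ε : ℚ)) ≠ 0 := by
      have : ((((d₃ : ℤ) + ε : ℤ)) : ℚ) ≠ 0 := by exact_mod_cast hw₃.ne'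
      push_cast at this ⊢
      exact this
    have e4 : ((d₄ : ℚ) + ((-1 : ℤ) : ℚ)) ≠ 0 := by
      have : ((((d₄ : ℤ) + -1 : ℤ)) : ℚ) ≠ 0 := by exact_mod_cast hw₄.ne'
      push_cast at this ⊢
      exact this
    have e5 : (cP : ℚ) ≠ 0 := by exact_mod_cast hcPpos.ne'
    have hq' : (Nat.card G : ℚ) * (((d₂ : ℚ) + ((1 : ℤ) : ℚ)) * ((d₃ : ℚ) + (ε : ℚ)) *
        ((d₄ : ℚ) + ((-1 : ℤ) : ℚ))) * (cP : ℚ) ^ 2 =
        8 * ((d₂ : ℚ) * d₃ * d₄) * (cJ : ℚ) ^ 3 := by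
      rw [hform]
      field_simp
    have hq'' : (((Nat.card G : ℤ) * (((d₂ : ℤ) + 1) * ((d₃ : ℤ) + ε) * ((d₄ : ℤ) - 1)) *
        (cP : ℤ) ^ 2 : ℤ) : ℚ) = ((8 * ((d₂ : ℤ) * d₃ * d₄) * (cJ : ℤ) ^ 3 : ℤ) : ℚ) := by
      push_cast
      push_cast at hq'
      linear_combination hq'
    exact_mod_cast hq''
  refine ⟨ζ₂, ζ₃, ζ₄, ε, cP, cJ, hε, h21', h31', h41', h23, h24, h34, ?_, ?_, ?_, ?_, ?_,
    h4cP, hcPJ, hcJN, h3cP, hfact, ?_⟩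
  · rw [← hd₂]; exact hd2
  · rw [← hd₃]; exact hd3
  · rw [← hd₄]; exact hd4
  · rw [← hd₂, ← hd₃, ← hd₄]; exact hsum
  · rw [← hd₂, ← hd₃, ← hd₄]; exact hsq
  · rw [← hd₂, ← hd₃, ← hd₄]; exact hformZ

end Cfsg.Agent.Lib.Helper78_SO_KLEIN
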