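import Mathlib
import Cfsg.Prelude.Def_Blocks
import Cfsg.Agent.Lib.Helper80_CharBasic
import Cfsg.Agent.Lib.Helper16_SO_Brauer
import Cfsg.Agent.Lib.Helper17_Sylow
import Cfsg.Agent.Lib.Helper74_CharTools
import Cfsg.Agent.Lib.Helper77_BlockBasics
import Cfsg.Agent.Lib.Helper78_SO_KLEIN
import Cfsg.Agent.Lib.Helper53_SO_KLArith

/-!
# S0983, package KL5148 (helper53 for helper16): no simple group of order 5148

`klein_data` (helper78) + the arithmetic of `Helper53_SO_KLArith.arith_5148`.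
-/

set_option autoImplicit false
open Cfsg Cfsg.Agent.Lib.Helper80_CharBasic

namespace Cfsg.Agent.Lib.Helper53_SO_KL5148

theorem no_simple_5148 {G : Type*} [Group G] [Finite G] [IsSimpleGroup G] : Nat.card G ≠ 5148 := by
  intro hcard
  have hna : ¬ IsMulCommutative G :=
    Cfsg.Agent.Lib.Helper17_Sylow.not_isMulCommutative_of_not_prime (by rw [hcard]; norm_num)
  have hna' : ¬ ∀ a b : G, a * b = b * a := fun h => hna ⟨⟨h⟩⟩
  obtain ⟨ζ₂, ζ₃, ζ₄, ε, cP, cJ, hε, h21, h31, h41, -, -, -, m2, m3, m4, hrel, hsq, hcP4, hPJ, hJ,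
    h3P, hfact, hord⟩ := Cfsg.Agent.Lib.Helper78_SO_KLEIN.klein_data hna 1287 (by decide)
      (by rw [hcard])
  have deg2 : ∀ ζ : Cfsg.IrrCharacter G, ζ ≠ oneIrr G → 2 ≤ Cfsg.charDegree (ζ : G → ℂ) := by
    intro ζ hζ
    have hpos := Cfsg.Agent.Lib.Helper77_BlockBasics.charDegree_pos ζ
    by_contra hlt
    exact hζ (Cfsg.Agent.Lib.Helper74_CharTools.eq_oneIrr_of_degree_one hna' ζ (by omega))
  have ddvd : ∀ ζ : Cfsg.IrrCharacter G, Cfsg.charDegree (ζ : G → ℂ) ∣ 5148 := by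
    intro ζ
    have := Cfsg.Agent.Lib.Helper77_BlockBasics.charDegree_dvd_card ζ
    rwa [hcard] at this
  rw [hcard] at hsq hJ h3P hfact hord
  exact Cfsg.Agent.Lib.Helper53_SO_KLArith.arith_5148 _ _ _ ε cP cJ hε (deg2 ζ₂ h21) (deg2 ζ₃ h31)
    (deg2 ζ₄ h41) (ddvd ζ₂) (ddvd ζ₃) (ddvd ζ₄) m2 m3 m4 hrel hsq hcP4 hPJ hJ h3P hfact hord

end Cfsg.Agent.Lib.Helper53_SO_KL5148
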