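import Mathlib

/-!
# Arithmetic for the Brauer--Leonard theorems (helper74)
-/

set_option autoImplicit false

namespace Cfsg.Agent.Lib.Helper74_BLArith

/-- if `z (t - z) < t` with `1 ≤ z ≤ t - 1` then `z = 1` or `z = t - 1` -/
theorem z_cases (t z : ℕ) (hz1 : 1 ≤ z) (hzt : z + 1 ≤ t) (h : (t - z) * z < t) :
    z = 1 ∨ z + 1 = t := by
  by_contra hcon
  push Not at hcon
  obtain ⟨h1, h2⟩ := hcon
  have hz2 : 2 ≤ z := by omega
  have hzt2 : z + 2 ≤ t := by omega
  obtain ⟨w, rfl⟩ : ∃ w, t = z + 2 + w := ⟨t - (z + 2), by omega⟩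
  have h3 : z + 2 + w - z = 2 + w := by omega
  rw [h3] at h
  nlinarith

/-- the arithmetic core: main case -/
theorem core (q e l m n1 d1 y : ℕ) (he : 1 ≤ e) (hel : e ∣ l) (heq : e ∣ q - 1)
    (hl1 : 1 ≤ l) (hlm : l ≤ m) (hly : l + d1 ≤ y) (hyq : y + 3 ≤ q) (hnd : n1 = 0 → d1 = 0)
    (hineq : ∀ α : ℝ, 0 < α → α * (q : ℝ) * ((n1 : ℝ) + (m : ℝ)) <
      α * (q : ℝ) * (e : ℝ) + α * (1 + α) * (n1 : ℝ) + (1 + α) * (l : ℝ) * (m : ℝ))
    (hq : (e + 1) ^ 2 ≤ q) : d1 = 0 ∨ d1 + q ≤ y + 1 + e := by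
  obtain ⟨z, rfl⟩ := hel
  obtain ⟨t, ht⟩ := heq
  have hq1 : q = e * t + 1 := by omega
  have hz1 : 1 ≤ z := by
    rcases Nat.eq_zero_or_pos z with h0 | h0
    · rw [h0, mul_zero] at hl1; omega
    · exact h0
  have hzt : z + 1 ≤ t := by
    by_contra hcon
    push Not at hcon
    have : t ≤ z := by omega
    have h2 : e * t ≤ e * z := Nat.mul_le_mul_left e this
    omega
  -- first inequality at α = q - 1
  have hqpos : (0 : ℝ) < (q : ℝ) - 1 := by
    have : (4 : ℝ) ≤ (q : ℝ) := by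
      have : 4 ≤ q := by nlinarith
      exact_mod_cast this
    linarith
  have h1 := hineq ((q : ℝ) - 1) hqpos
  have hqpos' : (0 : ℝ) < (q : ℝ) := by linarith
  have h2 : ((q : ℝ) - 1) * (m : ℝ) < ((q : ℝ) - 1) * (e : ℝ) + ((e * z : ℕ) : ℝ) * (m : ℝ) := by
    have h3 : (q : ℝ) * (((q : ℝ) - 1) * (m : ℝ)) <
        (q : ℝ) * (((q : ℝ) - 1) * (e : ℝ) + ((e * z : ℕ) : ℝ) * (m : ℝ)) := by
      nlinarith
    exact lt_of_mul_lt_mul_left h3 hqpos'.le
  have h4 : (e * t) * m < (e * t) * e + (e * z) * m := by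
    have hq2 : (q : ℝ) - 1 = ((e * t : ℕ) : ℝ) := by
      rw [hq1]; push_cast; ring
    rw [hq2] at h2
    exact_mod_cast h2
  -- (t - z) z < t
  have h5 : (t - z) * z < t := by
    have h6 : e * (t - z) * m < e * t * e := by
      have : e * (t - z) * m + e * z * m = e * t * m := by
        rw [← add_mul, ← mul_add]
        congr 2
        omega
      omega
    have h7 : e * (t - z) * (e * z) ≤ e * (t - z) * m := Nat.mul_le_mul_left _ hlm
    have h8 : e * e * ((t - z) * z) < e * e * t := by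
      calc e * e * ((t - z) * z) = e * (t - z) * (e * z) := by ring
        _ ≤ e * (t - z) * m := h7
        _ < e * t * e := h6
        _ = e * e * t := by ring
    exact lt_of_mul_lt_mul_left h8 (Nat.zero_le _)
  rcases z_cases t z hz1 hzt h5 with hz | hz
  · -- z = 1
    subst hz
    rw [mul_one] at hlm hly h4 hineq
    left
    apply hnd
    -- m = e
    have hme : m = e := by
      by_contra hne
      have hm1 : e + 1 ≤ m := by omega
      -- (q-1-e) m < (q-1) e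
      have h9 : (e * t - e) * m < e * t * e := by
        have : (e * t - e) * m + e * m = e * t * m := by
          rw [← add_mul]
          congr 1
          have : e ≤ e * t := Nat.le_mul_of_pos_right e (by omega)
          omega
        omega
      have h10 : (e * t - e) * (e + 1) ≤ (e * t - e) * m := Nat.mul_le_mul_left _ hm1
      have h11 : (e + 1) ^ 2 ≤ e * t + 1 := by rw [← hq1]; exact hq
      have h12 : e * t - e + e = e * t := by
        have : e ≤ e * t := Nat.le_mul_of_pos_right e (by omega)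
        omega
      nlinarith
    subst hme
    have h13 := hineq (m : ℝ) (by exact_mod_cast he)
    by_contra hn1
    have hn1' : (1 : ℝ) ≤ (n1 : ℝ) := by
      have : 1 ≤ n1 := Nat.one_le_iff_ne_zero.mpr hn1
      exact_mod_cast this
    have hq' : ((m : ℝ) + 1) ^ 2 ≤ (q : ℝ) := by exact_mod_cast hq
    have hm' : (1 : ℝ) ≤ (m : ℝ) := by exact_mod_cast he
    -- m q (n1 + m) < m q m + m (1+m) n1 + (1+m) m m
    have h14 : (q : ℝ) * (n1 : ℝ) < (1 + (m : ℝ)) * (n1 : ℝ) + (1 + (m : ℝ)) * (m : ℝ) := by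
      have hmpos : (0 : ℝ) < (m : ℝ) := by linarith
      have h15 : (m : ℝ) * ((q : ℝ) * (n1 : ℝ)) <
          (m : ℝ) * ((1 + (m : ℝ)) * (n1 : ℝ) + (1 + (m : ℝ)) * (m : ℝ)) := by
        nlinarith
      exact lt_of_mul_lt_mul_left h15 hmpos.le
    have h17 : ((m : ℝ) + 1) ^ 2 * (n1 : ℝ) ≤ (q : ℝ) * (n1 : ℝ) :=
      mul_le_mul_of_nonneg_right hq' (by linarith)
    have h18 : (1 + (m : ℝ)) * (m : ℝ) * 1 ≤ (1 + (m : ℝ)) * (m : ℝ) * (n1 : ℝ) :=
      mul_le_mul_of_nonneg_left hn1' (by positivity)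
    nlinarith
  · -- z + 1 = t
    right
    have h16 : e * z + e = e * t := by rw [← hz]; ring
    omega

/-- the inequality at `α = q - 1` -/
theorem ineq_first (q e l m n1 : ℕ) (hq : 2 ≤ q)
    (hineq : ∀ α : ℝ, 0 < α → α * (q : ℝ) * ((n1 : ℝ) + (m : ℝ)) <
      α * (q : ℝ) * (e : ℝ) + α * (1 + α) * (n1 : ℝ) + (1 + α) * (l : ℝ) * (m : ℝ)) :
    (q - 1) * m < (q - 1) * e + l * m := by
  have hqpos : (0 : ℝ) < (q : ℝ) - 1 := by
    have : (2 : ℝ) ≤ (q : ℝ) := by exact_mod_cast hq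
    linarith
  have h1 := hineq ((q : ℝ) - 1) hqpos
  have hqpos' : (0 : ℝ) < (q : ℝ) := by linarith
  have h2 : ((q : ℝ) - 1) * (m : ℝ) < ((q : ℝ) - 1) * (e : ℝ) + (l : ℝ) * (m : ℝ) := by
    have h3 : (q : ℝ) * (((q : ℝ) - 1) * (m : ℝ)) <
        (q : ℝ) * (((q : ℝ) - 1) * (e : ℝ) + (l : ℝ) * (m : ℝ)) := by
      nlinarith
    exact lt_of_mul_lt_mul_left h3 hqpos'.le
  have hq2 : (q : ℝ) - 1 = ((q - 1 : ℕ) : ℝ) := by
    rw [Nat.cast_sub (by omega)]; simp
  rw [hq2] at h2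
  exact_mod_cast h2

/-- the inequality at `α = e` when `l = m = e` -/
theorem ineq_second (q e n1 : ℕ) (he : 1 ≤ e)
    (hineq : ∀ α : ℝ, 0 < α → α * (q : ℝ) * ((n1 : ℝ) + (e : ℝ)) <
      α * (q : ℝ) * (e : ℝ) + α * (1 + α) * (n1 : ℝ) + (1 + α) * (e : ℝ) * (e : ℝ)) :
    q * n1 < (1 + e) * n1 + (1 + e) * e := by
  have h13 := hineq (e : ℝ) (by exact_mod_cast he)
  have hmpos : (0 : ℝ) < (e : ℝ) := by exact_mod_cast he
  have h14 : (q : ℝ) * (n1 : ℝ) < (1 + (e : ℝ)) * (n1 : ℝ) + (1 + (e : ℝ)) * (e : ℝ) := by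
    have h15 : (e : ℝ) * ((q : ℝ) * (n1 : ℝ)) <
        (e : ℝ) * ((1 + (e : ℝ)) * (n1 : ℝ) + (1 + (e : ℝ)) * (e : ℝ)) := by
      nlinarith
    exact lt_of_mul_lt_mul_left h15 hmpos.le
  exact_mod_cast h14

/-- the arithmetic core: edge case `q = e² + e + 1` -/
theorem core_edge (q e l m n1 y : ℕ) (he : 1 ≤ e) (hel : e ∣ l) (heq : q = e ^ 2 + e + 1)
    (hl1 : 1 ≤ l) (hlm : l ≤ m) (hly : l ≤ y) (hyq : y + 1 ≤ e ^ 2)
    (hineq : ∀ α : ℝ, 0 < α → α * (q : ℝ) * ((n1 : ℝ) + (m : ℝ)) <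
      α * (q : ℝ) * (e : ℝ) + α * (1 + α) * (n1 : ℝ) + (1 + α) * (l : ℝ) * (m : ℝ)) :
    l = e ∧ m = e ∧ n1 ≤ 1 := by
  have hq2 : 2 ≤ q := by rw [heq]; nlinarith
  have h1 := ineq_first q e l m n1 hq2 hineq
  have hq1 : q - 1 = e * (e + 1) := by rw [heq]; simp; ring
  rw [hq1] at h1
  obtain ⟨z, rfl⟩ := hel
  have hz1 : 1 ≤ z := by
    rcases Nat.eq_zero_or_pos z with h0 | h0
    · rw [h0, mul_zero] at hl1; omega
    · exact h0
  have hze : z ≤ e := by
    by_contra hcon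
    push Not at hcon
    have : e * (e + 1) ≤ e * z := Nat.mul_le_mul_left e hcon
    nlinarith
  have hz : z = 1 := by
    have h5 : (e + 1 - z) * z < e + 1 := by
      have h6 : e * (e + 1 - z) * m < e * (e + 1) * e := by
        have : e * (e + 1 - z) * m + e * z * m = e * (e + 1) * m := by
          rw [← add_mul, ← mul_add]
          congr 2
          omega
        omega
      have h7 : e * (e + 1 - z) * (e * z) ≤ e * (e + 1 - z) * m := Nat.mul_le_mul_left _ hlm
      have h8 : e * e * ((e + 1 - z) * z) < e * e * (e + 1) := by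
        calc e * e * ((e + 1 - z) * z) = e * (e + 1 - z) * (e * z) := by ring
          _ ≤ e * (e + 1 - z) * m := h7
          _ < e * (e + 1) * e := h6
          _ = e * e * (e + 1) := by ring
      exact lt_of_mul_lt_mul_left h8 (Nat.zero_le _)
    rcases z_cases (e + 1) z hz1 (by omega) h5 with h9 | h9
    · exact h9
    · have : z = e := by omega
      subst this
      have : z * z ≤ y := hly
      nlinarith
  subst hz
  rw [mul_one] at hlm h1 hineq ⊢
  have hme : m = e := by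
    by_contra hne
    have hm1 : e + 1 ≤ m := by omega
    have h9 : e * e * m < e * (e + 1) * e := by
      have : e * (e + 1) * m = e * e * m + e * m := by ring
      omega
    have h10 : e * e * (e + 1) ≤ e * e * m := Nat.mul_le_mul_left _ hm1
    nlinarith
  subst hme
  refine ⟨rfl, rfl, ?_⟩
  have h11 := ineq_second q m n1 he hineq
  by_contra hcon
  push Not at hcon
  rw [heq] at h11
  nlinarith

end Cfsg.Agent.Lib.Helper74_BLArith
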