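import Mathlib
import Cfsg.Prelude.Def_Blocks
import Cfsg.Agent.Lib.Helper16_BlockOrth
import Cfsg.Agent.Lib.Helper16_InducedFusion
import Cfsg.Agent.Lib.Helper78_SecondMainChar

/-!
# Groups with a Sylow `p`-subgroup all of whose nonidentity elements have the same centralizer
(helper74)

Group-theoretic part of the Brauer--Leonard theorems.  `P` is a Sylow `p`-subgroup such that
`C_G(x) = C_G(P)` for every nonidentity `x ∈ P`.  Then `P` is abelian, it is a trivial
intersection subgroup, the `p`-singular elements of `C = C_G(P)` form a trivial intersection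
set with normalizer `N_G(P)`, and `N_G(P)/C` acts freely on the nonidentity elements of `P`
and on the nontrivial linear characters of `P`.
-/

set_option autoImplicit false
set_option linter.unusedSectionVars false
set_option linter.unusedVariables false

namespace Cfsg.Agent.Lib.Helper74_BLGroup

open Cfsg

variable {G : Type*} [Group G] {p : ℕ}

/-- the uniform centralizer hypothesis -/
def Unif (P : Sylow p G) : Prop := ∀ x ∈ (P : Subgroup G), x ≠ 1 →
    Subgroup.centralizer ({x} : Set G) = Subgroup.centralizer ((P : Subgroup G) : Set G)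

/-- the centralizer of `P` -/
abbrev CC (P : Sylow p G) : Subgroup G := Subgroup.centralizer ((P : Subgroup G) : Set G)

/-- the normalizer of `P` -/
abbrev NN (P : Sylow p G) : Subgroup G := Subgroup.normalizer ((P : Subgroup G) : Set G)

variable [Finite G] [hp : Fact p.Prime] (P : Sylow p G)

theorem le_CC (h : Unif P) : (P : Subgroup G) ≤ CC P := by
  by_cases hbot : (P : Subgroup G) = ⊥
  · rw [hbot]; exact bot_le
  · have hnt : Nontrivial (P : Subgroup G) := (Subgroup.nontrivial_iff_ne_bot _).mpr hbot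
    have hcn := IsPGroup.center_nontrivial P.2
    obtain ⟨z, hz1⟩ := exists_ne (1 : Subgroup.center (P : Subgroup G))
    have hzP : ((z : (P : Subgroup G)) : G) ∈ (P : Subgroup G) := (z : (P : Subgroup G)).2
    have hzne : ((z : (P : Subgroup G)) : G) ≠ 1 := by
      intro h1
      apply hz1
      apply Subtype.ext
      apply Subtype.ext
      simpa using h1
    intro u hu
    have hu' : u ∈ Subgroup.centralizer ({((z : (P : Subgroup G)) : G)} : Set G) := by
      rw [Subgroup.mem_centralizer_iff]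
      intro y hy
      rw [Set.mem_singleton_iff] at hy
      subst hy
      have h1 : (⟨u, hu⟩ : (P : Subgroup G)) * (z : (P : Subgroup G)) =
          (z : (P : Subgroup G)) * ⟨u, hu⟩ := Subgroup.mem_center_iff.mp z.2 ⟨u, hu⟩
      have h2 := Subtype.ext_iff.mp h1
      simpa using h2.symm
    rw [h ((z : (P : Subgroup G)) : G) hzP hzne] at hu'
    exact hu'

theorem comm_of_mem (h : Unif P) {u v : G} (hu : u ∈ (P : Subgroup G)) (hv : v ∈ (P : Subgroup G)) :
    u * v = v * u := by
  have := le_CC P h hv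
  rw [Subgroup.mem_centralizer_iff] at this
  exact this u hu

/-- a `p`-element of `C` lies in `P` -/
theorem mem_of_pElement (h : Unif P) {x : G} (hx : x ∈ CC P) {k : ℕ} (hk : orderOf x = p ^ k) :
    x ∈ (P : Subgroup G) := by
  have hQ : IsPGroup p (Subgroup.zpowers x) := by
    rw [IsPGroup.iff_orderOf]
    rintro ⟨y, hy⟩
    have hdvd : orderOf y ∣ p ^ k := by
      rw [← hk]
      exact orderOf_dvd_of_mem_zpowers hy
    obtain ⟨i, _, hi⟩ := (Nat.dvd_prime_pow hp.out).mp hdvd
    refine ⟨i, ?_⟩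
    rw [← hi]
    exact (Subgroup.orderOf_coe (⟨y, hy⟩ : Subgroup.zpowers x)).symm
  have hle : Subgroup.zpowers x ≤ Subgroup.normalizer ((P : Subgroup G) : Set G) := by
    rw [Subgroup.zpowers_le]
    exact Subgroup.centralizer_le_normalizer _ hx
  have hsup := IsPGroup.to_sup_of_normal_right' hQ P.2 hle
  have := P.is_maximal' hsup le_sup_right
  have h2 : Subgroup.zpowers x ≤ (P : Subgroup G) := by
    rw [← this]; exact le_sup_left
  exact h2 (Subgroup.mem_zpowers x)

/-- elements of `P` have prime power order -/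
theorem exists_orderOf_eq (u : G) (hu : u ∈ (P : Subgroup G)) : ∃ k : ℕ, orderOf u = p ^ k := by
  have := (IsPGroup.iff_orderOf.mp P.2) ⟨u, hu⟩
  obtain ⟨k, hk⟩ := this
  exact ⟨k, by rw [← hk]; exact Subgroup.orderOf_coe (⟨u, hu⟩ : (P : Subgroup G))⟩

/-- the normalizer of `P` normalizes the centralizer of `P` -/
theorem conj_mem_CC {s c : G} (hs : s ∈ NN P) (hc : c ∈ CC P) : s * c * s⁻¹ ∈ CC P := by
  rw [Subgroup.mem_centralizer_iff] at hc ⊢
  intro u hu
  have hs' : s⁻¹ ∈ NN P := (NN P).inv_mem hs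
  have hu' : s⁻¹ * u * s⁻¹⁻¹ ∈ (P : Subgroup G) := (Subgroup.mem_normalizer_iff.mp hs' u).mp hu
  rw [inv_inv] at hu'
  have := hc _ hu'
  calc u * (s * c * s⁻¹) = s * ((s⁻¹ * u * s) * c) * s⁻¹ := by group
    _ = s * (c * (s⁻¹ * u * s)) * s⁻¹ := by rw [this]
    _ = s * c * s⁻¹ * u := by group

/-- `P` is a trivial intersection subgroup -/
theorem conj_mem_of_TI (h : Unif P) {u g : G} (hu : u ∈ (P : Subgroup G)) (hu1 : u ≠ 1)
    (hgu : g * u * g⁻¹ ∈ (P : Subgroup G)) {x : G} (hx : x ∈ (P : Subgroup G)) :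
    g * x * g⁻¹ ∈ (P : Subgroup G) := by
  have hu1' : g * u * g⁻¹ ≠ 1 := by
    intro h1
    apply hu1
    have : u = g⁻¹ * (g * u * g⁻¹) * g := by group
    rw [this, h1]; group
  have hxC : g * x * g⁻¹ ∈ CC P := by
    show g * x * g⁻¹ ∈ Subgroup.centralizer ((P : Subgroup G) : Set G)
    rw [← h _ hgu hu1', Subgroup.mem_centralizer_iff]
    intro y hy
    rw [Set.mem_singleton_iff] at hy
    subst hy
    have hc := comm_of_mem P h hu hx
    calc g * u * g⁻¹ * (g * x * g⁻¹) = g * (u * x) * g⁻¹ := by group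
      _ = g * (x * u) * g⁻¹ := by rw [hc]
      _ = g * x * g⁻¹ * (g * u * g⁻¹) := by group
  obtain ⟨k, hk⟩ := exists_orderOf_eq P x hx
  have hk' : orderOf (g * x * g⁻¹) = p ^ k := by
    rw [← hk]
    exact (MulAut.conj g).orderOf_eq x
  exact mem_of_pElement P h hxC hk'

theorem mem_NN_of_TI (h : Unif P) {u g : G} (hu : u ∈ (P : Subgroup G)) (hu1 : u ≠ 1)
    (hgu : g * u * g⁻¹ ∈ (P : Subgroup G)) : g ∈ NN P := by
  rw [Subgroup.mem_normalizer_iff]
  intro x
  constructor
  · exact fun hx => conj_mem_of_TI P h hu hu1 hgu hx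
  · intro hx
    have hu1' : g * u * g⁻¹ ≠ 1 := by
      intro h1
      apply hu1
      have : u = g⁻¹ * (g * u * g⁻¹) * g := by group
      rw [this, h1]; group
    have hback : g⁻¹ * (g * u * g⁻¹) * g⁻¹⁻¹ ∈ (P : Subgroup G) := by
      have : g⁻¹ * (g * u * g⁻¹) * g⁻¹⁻¹ = u := by group
      rw [this]; exact hu
    have := conj_mem_of_TI P h hgu hu1' hback hx
    have h2 : g⁻¹ * (g * x * g⁻¹) * g⁻¹⁻¹ = x := by group
    rwa [h2] at this

/-- `N/C` acts freely on the nonidentity elements of `P` -/
theorem mem_CC_of_fix (h : Unif P) {u s : G} (hu : u ∈ (P : Subgroup G)) (hu1 : u ≠ 1)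
    (hs : s * u * s⁻¹ = u) : s ∈ CC P := by
  show s ∈ Subgroup.centralizer ((P : Subgroup G) : Set G)
  rw [← h u hu hu1, Subgroup.mem_centralizer_iff]
  intro y hy
  rw [Set.mem_singleton_iff] at hy
  subst hy
  calc y * s = (s * y * s⁻¹) * s := by rw [hs]
    _ = s * y := by group

/-- conjugation by an element of the normalizer, as an endomorphism of `P` -/
def conjP {s : G} (hs : s ∈ NN P) : (P : Subgroup G) →* (P : Subgroup G) where
  toFun u := ⟨s * u * s⁻¹, (Subgroup.mem_normalizer_iff.mp hs u).mp u.2⟩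
  map_one' := by
    apply Subtype.ext
    simp
  map_mul' u v := by
    apply Subtype.ext
    simp only [Subgroup.coe_mul]
    group

@[simp] theorem conjP_coe {s : G} (hs : s ∈ NN P) (u : (P : Subgroup G)) :
    ((conjP P hs u : (P : Subgroup G)) : G) = s * u * s⁻¹ := rfl

/-- the action of the normalizer on the dual group of `P` -/
noncomputable def dualAct : MulAction (NN P) ((P : Subgroup G) →* ℂˣ) where
  smul s lam := lam.comp (conjP P ((NN P).inv_mem s.2))
  one_smul lam := by
    apply MonoidHom.ext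
    intro u
    show lam (conjP P _ u) = lam u
    congr 1
    apply Subtype.ext
    simp
  mul_smul s t lam := by
    apply MonoidHom.ext
    intro u
    show lam (conjP P _ u) = lam (conjP P _ (conjP P _ u))
    congr 1
    apply Subtype.ext
    simp only [conjP_coe, Subgroup.coe_mul, mul_inv_rev, inv_inv]
    group

theorem dualAct_apply (s : NN P) (lam : (P : Subgroup G) →* ℂˣ) (u : (P : Subgroup G)) :
    (@HSMul.hSMul _ _ _ (@instHSMul _ _ (dualAct P).toSMul) s lam) u =
      lam ⟨(s : G)⁻¹ * u * (s : G), by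
        have := (Subgroup.mem_normalizer_iff.mp ((NN P).inv_mem s.2) u).mp u.2
        simpa using this⟩ := by
  show lam (conjP P _ u) = _
  congr 1
  apply Subtype.ext
  simp

/-- `N/C` acts freely on the nontrivial linear characters of `P` -/
theorem mem_CC_of_fix_dual (h : Unif P) {s : G} (hs : s ∈ NN P) (lam : (P : Subgroup G) →* ℂˣ)
    (hlam : lam ≠ 1) (hfix : ∀ u : (P : Subgroup G), lam (conjP P hs u) = lam u) : s ∈ CC P := by
  by_contra hsC
  apply hlam
  have hinj : Function.Injective (fun u : (P : Subgroup G) => conjP P hs u * u⁻¹) := by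
    intro u v huv
    simp only at huv
    have h1 : (conjP P hs v)⁻¹ * conjP P hs u = v⁻¹ * u := by
      have : conjP P hs u = conjP P hs v * v⁻¹ * u := by
        rw [← huv]; group
      rw [this]; group
    by_cases hw : v⁻¹ * u = 1
    · have : u = v * (v⁻¹ * u) := by group
      rw [this, hw, mul_one]
    · exfalso
      apply hsC
      have hw' : ((v⁻¹ * u : (P : Subgroup G)) : G) ≠ 1 := by
        intro h2
        apply hw
        exact Subtype.ext h2
      apply mem_CC_of_fix P h (v⁻¹ * u).2 hw'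
      have h3 := congrArg (Subtype.val) h1
      simp only [Subgroup.coe_mul, Subgroup.coe_inv, conjP_coe] at h3
      calc s * ((v⁻¹ * u : (P : Subgroup G)) : G) * s⁻¹
          = (s * (v : G) * s⁻¹)⁻¹ * (s * (u : G) * s⁻¹) := by
            simp only [Subgroup.coe_mul, Subgroup.coe_inv]; group
        _ = ((v⁻¹ * u : (P : Subgroup G)) : G) := by
            rw [h3]; simp
  have hsurj := Finite.injective_iff_surjective.mp hinj
  apply MonoidHom.ext
  intro v
  obtain ⟨u, rfl⟩ := hsurj v
  simp only [map_mul, map_inv, hfix, mul_inv_cancel, MonoidHom.one_apply]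

/-- divisibility of invariant sums by orbit lengths (copy of a lemma of helper97) -/
theorem dvd_sum_of_orbits' {A X : Type*} [Group A] [MulAction A X] [Fintype X] (f : X → ℤ) (m : ℤ)
    (hinv : ∀ (a : A) (x : X), f (a • x) = f x)
    (hdvd : ∀ x : X, m ∣ (Nat.card (MulAction.orbit A x) : ℤ) * f x) : m ∣ ∑ x, f x := by
  classical
  let q : X → MulAction.orbitRel.Quotient A X := Quotient.mk''
  have : Fintype (MulAction.orbitRel.Quotient A X) := Fintype.ofFinite _
  rw [← Finset.sum_fiberwise (s := Finset.univ) (g := q) (f := f)]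
  refine Finset.dvd_sum fun ω _ => ?_
  obtain ⟨x0, rfl⟩ := Quotient.exists_rep ω
  have hmem : ∀ x : X, q x = q x0 ↔ x ∈ MulAction.orbit A x0 := by
    intro x
    change (Quotient.mk'' x : MulAction.orbitRel.Quotient A X) = Quotient.mk'' x0 ↔ _
    rw [Quotient.eq'']
    exact MulAction.orbitRel_apply
  have hconst : ∀ x ∈ Finset.univ.filter (fun x => q x = q x0), f x = f x0 := by
    intro x hx
    have hx' := (hmem x).mp (Finset.mem_filter.mp hx).2
    obtain ⟨a, rfl⟩ := hx'
    exact hinv a x0
  change m ∣ ∑ x ∈ Finset.univ.filter (fun x => q x = q x0), f x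
  rw [Finset.sum_congr rfl hconst, Finset.sum_const, nsmul_eq_mul]
  have hcard : (Finset.univ.filter (fun x => q x = q x0)).card =
      Nat.card (MulAction.orbit A x0) := by
    rw [Nat.card_eq_fintype_card, Fintype.card_subtype]
    congr 1
    ext x
    simp only [Finset.mem_filter, Finset.mem_univ, true_and]
    exact hmem x
  rw [hcard]
  exact hdvd x0

/-- the index `e = |N : C|` -/
noncomputable abbrev ee : ℕ := (CC P).relIndex (NN P)

theorem stabilizer_dualAct (h : Unif P) (lam : (P : Subgroup G) →* ℂˣ) (hlam : lam ≠ 1) :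
    @MulAction.stabilizer (NN P) _ _ (dualAct P) lam = (CC P).subgroupOf (NN P) := by
  letI := dualAct P
  ext s
  rw [MulAction.mem_stabilizer_iff, Subgroup.mem_subgroupOf]
  constructor
  · intro hs
    have hfix : ∀ u : (P : Subgroup G), lam (conjP P ((NN P).inv_mem s.2) u) = lam u := by
      intro u
      have := congrArg (fun f : (P : Subgroup G) →* ℂˣ => f u) hs
      exact this
    have := mem_CC_of_fix_dual P h ((NN P).inv_mem s.2) lam hlam hfix
    have h2 := (CC P).inv_mem this
    rwa [inv_inv] at h2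
  · intro hs
    apply MonoidHom.ext
    intro u
    show lam (conjP P _ u) = lam u
    congr 1
    apply Subtype.ext
    rw [conjP_coe]
    have hs' := (CC P).inv_mem hs
    rw [Subgroup.mem_centralizer_iff] at hs'
    have := hs' u u.2
    rw [inv_inv, ← this]
    group

/-- the cardinality of a nonempty `N`-stable set of nontrivial linear characters of `P` is
divisible by `e` -/
theorem ee_dvd_card (h : Unif P) [Fintype ((P : Subgroup G) →* ℂˣ)]
    [DecidableEq ((P : Subgroup G) →* ℂˣ)]
    (S : Finset ((P : Subgroup G) →* ℂˣ)) (h1 : (1 : (P : Subgroup G) →* ℂˣ) ∉ S)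
    (hS : ∀ (s : G) (hs : s ∈ NN P) (lam : (P : Subgroup G) →* ℂˣ), lam ∈ S →
      lam.comp (conjP P hs) ∈ S) : ee P ∣ S.card := by
  classical
  letI := dualAct P
  have hsmul : ∀ (s : NN P) (lam : (P : Subgroup G) →* ℂˣ), lam ∈ S → s • lam ∈ S := by
    intro s lam hl
    exact hS _ ((NN P).inv_mem s.2) lam hl
  have hiff : ∀ (s : NN P) (lam : (P : Subgroup G) →* ℂˣ), s • lam ∈ S ↔ lam ∈ S := by
    intro s lam
    constructor
    · intro hl
      have := hsmul s⁻¹ _ hl
      rwa [inv_smul_smul] at this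
    · exact hsmul s lam
  have key := dvd_sum_of_orbits' (A := NN P) (X := (P : Subgroup G) →* ℂˣ)
    (fun lam => if lam ∈ S then (1 : ℤ) else 0) (ee P : ℤ)
    (by
      intro s lam
      simp only [hiff])
    (by
      intro lam
      by_cases hl : lam ∈ S
      · have hlam : lam ≠ 1 := fun h0 => h1 (h0 ▸ hl)
        rw [if_pos hl, mul_one]
        have h2 := MulAction.index_stabilizer (NN P) lam
        rw [stabilizer_dualAct P h lam hlam] at h2
        rw [Nat.card_coe_set_eq, ← h2]
        exact dvd_refl _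
      · rw [if_neg hl, mul_zero]
        exact dvd_zero _)
  rw [Finset.sum_ite_mem, Finset.univ_inter, Finset.sum_const, nsmul_eq_mul, mul_one] at key
  exact_mod_cast key

/-- the `p`-part of an element of `C` lies in `P` -/
theorem ppart_mem (h : Unif P) {c u : G} (hc : c ∈ CC P) (hu : IsPPart p c u) :
    u ∈ (P : Subgroup G) := by
  obtain ⟨z', hz', -⟩ :=
    Cfsg.Agent.Lib.Helper16_InducedFusion.isPPart_subgroup hp.out (⟨c, hc⟩ : CC P) u hu
  have huC : u ∈ CC P := by rw [← hz']; exact z'.2
  obtain ⟨y, -, -, ⟨k, hk⟩, -⟩ := hu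
  exact mem_of_pElement P h huC hk

theorem ppart_ne_one {c u : G} (hc : p ∣ orderOf c) (hu : IsPPart p c u) : u ≠ 1 := by
  intro h1
  obtain ⟨y, hy, -, -, hy'⟩ := hu
  rw [h1, one_mul] at hy
  rw [hy] at hy'
  exact hy' hc

/-- the `p`-singular elements of `C` form a trivial intersection set with normalizer `N` -/
theorem mem_NN_of_singular (h : Unif P) {a g : G} (ha : a ∈ CC P) (hpa : p ∣ orderOf a)
    (hga : g * a * g⁻¹ ∈ CC P) : g ∈ NN P := by
  obtain ⟨u, hu⟩ := Cfsg.Agent.Lib.Helper16_BlockOrth.exists_isPPart hp.out a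
  have huP := ppart_mem P h ha hu
  have hu1 := ppart_ne_one hpa hu
  have hgu := Cfsg.Agent.Lib.Helper16_InducedFusion.isPPart_conj hu g
  have hguP := ppart_mem P h hga hgu
  exact mem_NN_of_TI P h huP hu1 hguP

/-- decomposition of the elements of `C` -/
theorem exists_decomp (h : Unif P) {c : G} (hc : c ∈ CC P) :
    ∃ u ∈ (P : Subgroup G), ∃ v ∈ CC P, ¬ p ∣ orderOf v ∧ u * v = c := by
  obtain ⟨u, hu⟩ := Cfsg.Agent.Lib.Helper16_BlockOrth.exists_isPPart hp.out c
  have huP := ppart_mem P h hc hu
  obtain ⟨y, hy, -, -, hy'⟩ := hu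
  refine ⟨u, huP, y, ?_, hy', hy⟩
  have : y = u⁻¹ * c := by rw [← hy]; group
  rw [this]
  exact (CC P).mul_mem ((CC P).inv_mem (le_CC P h huP)) hc

theorem decomp_unique (h : Unif P) {u u' v v' : G} (hu : u ∈ (P : Subgroup G))
    (hu' : u' ∈ (P : Subgroup G)) (hv : v ∈ CC P) (hv' : v' ∈ CC P) (hpv : ¬ p ∣ orderOf v)
    (hpv' : ¬ p ∣ orderOf v') (heq : u * v = u' * v') : u = u' ∧ v = v' := by
  have h1 : IsPPart p (u * v) u := by
    refine ⟨v, rfl, ?_, exists_orderOf_eq P u hu, hpv⟩
    rw [Subgroup.mem_centralizer_iff] at hv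
    exact hv u hu
  have h2 : IsPPart p (u * v) u' := by
    refine ⟨v', heq.symm, ?_, exists_orderOf_eq P u' hu', hpv'⟩
    rw [Subgroup.mem_centralizer_iff] at hv'
    exact hv' u' hu'
  have h3 := Cfsg.Agent.Lib.Helper78_SecondMainChar.isPPart_unique hp.out h1 h2
  refine ⟨h3, ?_⟩
  rw [h3] at heq
  exact mul_left_cancel heq

/-- summation over `C` along the decomposition `C = P × V` -/
theorem sum_CC_eq (h : Unif P) {M : Type*} [AddCommMonoid M] [Fintype (CC P)]
    [Fintype (P : Subgroup G)] [DecidablePred (fun v : CC P => ¬ p ∣ orderOf v)]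
    (g : CC P → M) :
    ∑ c : CC P, g c = ∑ v ∈ Finset.univ.filter (fun v : CC P => ¬ p ∣ orderOf v),
      ∑ u : (P : Subgroup G), g (Subgroup.inclusion (le_CC P h) u * v) := by
  classical
  rw [← Finset.sum_product']
  symm
  apply Finset.sum_bij (fun (x : CC P × (P : Subgroup G)) _ =>
    Subgroup.inclusion (le_CC P h) x.2 * x.1)
  · intro x _
    exact Finset.mem_univ _
  · rintro ⟨v, u⟩ hx ⟨v', u'⟩ hx' heq
    simp only [Finset.mem_product, Finset.mem_filter, Finset.mem_univ, true_and, and_true]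
      at hx hx'
    have heq' : (u : G) * (v : G) = (u' : G) * (v' : G) := by
      have := congrArg (Subtype.val) heq
      simpa using this
    have hv : ¬ p ∣ orderOf (v : G) := by rwa [Subgroup.orderOf_coe]
    have hv' : ¬ p ∣ orderOf (v' : G) := by rwa [Subgroup.orderOf_coe]
    obtain ⟨h1, h2⟩ := decomp_unique P h u.2 u'.2 v.2 v'.2 hv hv' heq'
    rw [Prod.mk.injEq]
    exact ⟨Subtype.ext h2, Subtype.ext h1⟩
  · intro c _
    obtain ⟨u, hu, v, hv, hpv, huv⟩ := exists_decomp P h c.2
    refine ⟨(⟨v, hv⟩, ⟨u, hu⟩), ?_, ?_⟩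
    · simp only [Finset.mem_product, Finset.mem_filter, Finset.mem_univ, true_and, and_true]
      rwa [← Subgroup.orderOf_coe]
    · apply Subtype.ext
      simpa using huv
  · intro x _
    rfl

end Cfsg.Agent.Lib.Helper74_BLGroup
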